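import Cfsg.Agent.Lib.Helper75_RelGlaubCliff

/-!
# The relative Glauberman correspondence for a `p`-group of operators (helper75)

Assembly of the three stages.
-/

set_option autoImplicit false
set_option linter.unusedSectionVars false
open scoped ComplexConjugate

namespace Cfsg.Agent.Lib.Helper75_RelGlaubMain

open Cfsg.Agent.Lib.Helper3_CharBridge Cfsg.Agent.Lib.Helper3_CharOrtho
  Cfsg.Agent.Lib.Helper3_CharComplete
  Cfsg.Agent.Lib.Helper75_CharArith Cfsg.Agent.Lib.Helper3_GlaubGood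
  Cfsg.Agent.Lib.Helper3_GlaubInd Cfsg.Agent.Lib.Helper75_Clifford
  Cfsg.Agent.Lib.Helper75_Induced Cfsg.Agent.Lib.Helper75_IndChar
  Cfsg.Agent.Lib.Helper75_RelGlaubBasic Cfsg.Agent.Lib.Helper75_RelGlaubQuot
  Cfsg.Agent.Lib.Helper75_RelGlaubGal Cfsg.Agent.Lib.Helper75_RelGlaubInv
  Cfsg.Agent.Lib.Helper75_RelGlaubCliff
  Cfsg.Agent.Lib.Helper3_BrauerPermAut

universe u

section thetaC

variable {K C : Type u} [Group K] [Group C]

theorem conjFun_thetaC (ι : C →* K) (Q : Subgroup K) [hQ : Q.Normal]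
    [hQC : (Q.comap ι).Normal] (θ : Q → ℂ) (c : C) :
    Helper75_Clifford.conjFun (Q.comap ι) hQC (thetaC ι Q θ) c =
      thetaC ι Q (Helper75_Clifford.conjFun Q hQ θ (ι c)) := by
  funext q
  unfold thetaC
  rw [conjFun_apply, conjFun_apply]
  congr 1
  apply Subtype.ext
  simp

theorem thetaC_injective (ι : C →* K) (Q : Subgroup K) (hQle : ∀ q ∈ Q, q ∈ ι.range)
    {θ₁ θ₂ : Q → ℂ} (h : thetaC ι Q θ₁ = thetaC ι Q θ₂) : θ₁ = θ₂ := by
  funext q
  obtain ⟨c, hc⟩ := hQle q q.2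
  have hcQ : c ∈ Q.comap ι := by
    show ι c ∈ Q
    rw [hc]; exact q.2
  have h1 := congrFun h ⟨c, hcQ⟩
  unfold thetaC at h1
  have h2 : (⟨ι c, hcQ⟩ : Q) = q := Subtype.ext hc
  simp only at h1
  rw [h2] at h1
  exact h1

end thetaC

section stage2T

variable {K C S : Type u} [Group K] [Group C] [Group S] [Fintype K] [Fintype C]

/-- Stage II applied to the inertia group `T` of an invariant character `θ` of `Q`. -/
theorem stage2_T {p : ℕ} [hp : Fact p.Prime] (φ : S →* MulAut K) (φC : S →* MulAut C)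
    (ι : C →* K) (hι : Function.Injective ι)
    (hcompat : ∀ (s : S) (c : C), ι (φC s c) = φ s (ι c))
    (Q : Subgroup K) [hQ : Q.Normal] [hQC : (Q.comap ι).Normal] [Fintype Q]
    [Fintype (Q.comap ι)]
    (hQφ : ∀ s, ∀ q ∈ Q, φ s q ∈ Q)
    (hrange : ∀ k : K, k ∈ ι.range ↔ ∀ s : S, φ s k * k⁻¹ ∈ Q)
    {n : ℕ} (hS : Nat.card S = p ^ n) (hidx : ¬ p ∣ Q.index)
    {a : ℕ} (hQp : Nat.card Q = p ^ a)
    {θ : Q → ℂ} (hθ : Cfsg.IsIrrCharacter Q θ) (hθS : SInvOn φ Q hQφ θ)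
    (T : Subgroup K) [Fintype T] [Fintype (T.comap ι)]
    (hT : ∀ g : K, g ∈ T ↔ Helper75_Clifford.conjFun Q hQ θ g = θ)
    (hQT : Q ≤ T) (hTφ : ∀ s, ∀ t ∈ T, φ s t ∈ T)
    (hQCT : Q.comap ι ≤ T.comap ι) (hTCφ : ∀ s, ∀ t ∈ T.comap ι, φC s t ∈ T.comap ι) :
    (∀ ψ : Cfsg.IrrCharacter T, SInv (resHom φ T hTφ) (ψ : T → ℂ) →
      OverT Q T hQT θ (ψ : T → ℂ) →
      ∃ η : Cfsg.IrrCharacter (T.comap ι),
        OverT (Q.comap ι) (T.comap ι) hQCT (thetaC ι Q θ) (η : T.comap ι → ℂ) ∧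
        Good p (fun t => (ψ : T → ℂ) (ι.subgroupComap T t)) η) ∧
    (∀ η : Cfsg.IrrCharacter (T.comap ι),
      OverT (Q.comap ι) (T.comap ι) hQCT (thetaC ι Q θ) (η : T.comap ι → ℂ) →
      SInv (resHom φC (T.comap ι) hTCφ) (η : T.comap ι → ℂ)) ∧
    (∀ ψ ψ' : Cfsg.IrrCharacter T, SInv (resHom φ T hTφ) (ψ : T → ℂ) →
      SInv (resHom φ T hTφ) (ψ' : T → ℂ) →
      OverT Q T hQT θ (ψ : T → ℂ) → OverT Q T hQT θ (ψ' : T → ℂ) →
      ∀ η : Cfsg.IrrCharacter (T.comap ι),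
        Good p (fun t => (ψ : T → ℂ) (ι.subgroupComap T t)) η →
        Good p (fun t => (ψ' : T → ℂ) (ι.subgroupComap T t)) η → ψ = ψ') ∧
    (∀ η : Cfsg.IrrCharacter (T.comap ι),
      OverT (Q.comap ι) (T.comap ι) hQCT (thetaC ι Q θ) (η : T.comap ι → ℂ) →
      ∃ ψ : Cfsg.IrrCharacter T, SInv (resHom φ T hTφ) (ψ : T → ℂ) ∧
        OverT Q T hQT θ (ψ : T → ℂ) ∧
        Good p (fun t => (ψ : T → ℂ) (ι.subgroupComap T t)) η) := by
  classical
  have : Fintype (Q.subgroupOf T) := Fintype.ofFinite _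
  have : Fintype ((Q.subgroupOf T).comap (ι.subgroupComap T)) := Fintype.ofFinite _
  have hιT : Function.Injective (ι.subgroupComap T) := by
    intro x y h
    apply Subtype.ext
    apply hι
    exact congrArg Subtype.val h
  have hQφT : ∀ s, ∀ q ∈ Q.subgroupOf T, resHom φ T hTφ s q ∈ Q.subgroupOf T := by
    intro s q hq
    exact hQφ s q hq
  have hrangeT : ∀ t : T, t ∈ (ι.subgroupComap T).range ↔
      ∀ s : S, resHom φ T hTφ s t * t⁻¹ ∈ Q.subgroupOf T := by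
    intro t
    constructor
    · rintro ⟨t', rfl⟩ s
      exact (hrange (ι t')).mp ⟨t', rfl⟩ s
    · intro h
      have h1 : (t : K) ∈ ι.range := (hrange t).mpr (fun s => h s)
      obtain ⟨c, hc⟩ := h1
      refine ⟨⟨c, ?_⟩, Subtype.ext hc⟩
      show ι c ∈ T
      rw [hc]; exact t.2
  have hidxT : ¬ p ∣ (Q.subgroupOf T).index := by
    intro h
    apply hidx
    have h1 : Q.relIndex T * T.index = Q.index := Subgroup.relIndex_mul_index hQT
    rw [← h1]
    exact Dvd.dvd.mul_right h _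
  have hQpT : Nat.card (Q.subgroupOf T) = p ^ a := by
    rw [← hQp]
    exact Nat.card_congr (Subgroup.subgroupOfEquivOfLe hQT).toEquiv
  have hθT : Cfsg.IsIrrCharacter (Q.subgroupOf T) (resSubgroupOf Q T θ) :=
    isIrrCharacter_resSubgroupOf Q T hQT hθ
  have hθTK : ∀ (t : T) (q : Q.subgroupOf T),
      resSubgroupOf Q T θ ⟨t * q * t⁻¹, (inferInstance : (Q.subgroupOf T).Normal).conj_mem
        (q : T) q.2 t⟩ = resSubgroupOf Q T θ q := by
    intro t q
    have h1 := conjFun_resSubgroupOf Q T hQ inferInstance θ hT t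
    exact congrFun h1 q
  have hθTS : ∀ (s : S) (q : Q.subgroupOf T),
      resSubgroupOf Q T θ ⟨resHom φ T hTφ s q, hQφT s q q.2⟩ = resSubgroupOf Q T θ q := by
    intro s q
    exact hθS s ⟨(q : K), q.2⟩
  obtain ⟨hA, hA', hB, hCc⟩ := inv_corr (resHom φ T hTφ) (ι.subgroupComap T) hιT
    (Q.subgroupOf T) hQφT hrangeT hS hidxT hQpT hθT hθTK hθTS
  -- conversions
  have cv1 : ∀ ψ : T → ℂ, Over (Q.subgroupOf T) (resSubgroupOf Q T θ) ψ ↔ OverT Q T hQT θ ψ :=
    fun ψ => (overT_iff_over Q T hQT θ ψ).symm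
  have cv2 : ∀ η : T.comap ι → ℂ,
      Over ((Q.subgroupOf T).comap (ι.subgroupComap T))
        (thetaC (ι.subgroupComap T) (Q.subgroupOf T) (resSubgroupOf Q T θ)) η ↔
      OverT (Q.comap ι) (T.comap ι) hQCT (thetaC ι Q θ) η := by
    intro η
    let e : ((Q.subgroupOf T).comap (ι.subgroupComap T)) ≃* (Q.comap ι) :=
      { toFun := fun x => ⟨x.1.1, x.2⟩
        invFun := fun q => ⟨⟨q.1, hQCT q.2⟩, q.2⟩
        left_inv := fun x => rfl
        right_inv := fun q => rfl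
        map_mul' := fun x y => rfl }
    have h1 := Cfsg.Agent.Lib.Helper75_Clifford.classInner_comp_equiv e
      (fun n : Q.comap ι => η ⟨(n : C), hQCT n.2⟩) (thetaC ι Q θ)
    unfold Over OverT
    rw [← h1]
    rfl
  refine ⟨?_, ?_, ?_, ?_⟩
  · intro ψ hψinv hψover
    obtain ⟨η, hη, hg⟩ := hA ψ hψinv ((cv1 _).mpr hψover)
    exact ⟨η, (cv2 _).mp hη, hg⟩
  · intro η hη s t
    have h1 := hA' η ((cv2 _).mpr hη) s t (resHom φC (T.comap ι) hTCφ s t) (by
      apply Subtype.ext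
      exact hcompat s t)
    exact h1
  · intro ψ ψ' hψ hψ' hov hov' η hg hg'
    exact hB ψ ψ' hψ hψ' ((cv1 _).mpr hov) ((cv1 _).mpr hov') η hg hg'
  · intro η hη
    obtain ⟨ψ, hψ, hov, hg⟩ := hCc η ((cv2 _).mpr hη)
    exact ⟨ψ, hψ, (cv1 _).mp hov, hg⟩

end stage2T

section setup

variable {K C S : Type u} [Group K] [Group C] [Group S]

/-- The standing hypotheses of the relative Glauberman correspondence. -/
structure Setup (p : ℕ) (φ : S →* MulAut K) (φC : S →* MulAut C) (ι : C →* K)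
    (Q : Subgroup K) : Prop where
  inj : Function.Injective ι
  compat : ∀ (s : S) (c : C), ι (φC s c) = φ s (ι c)
  normal : Q.Normal
  stable : ∀ s, ∀ q ∈ Q, φ s q ∈ Q
  range : ∀ k : K, k ∈ ι.range ↔ ∀ s : S, φ s k * k⁻¹ ∈ Q
  cardS : ∃ n : ℕ, Nat.card S = p ^ n
  idx : ¬ p ∣ Q.index
  cardQ : ∃ a : ℕ, Nat.card Q = p ^ a

variable {p : ℕ} {φ : S →* MulAut K} {φC : S →* MulAut C} {ι : C →* K} {Q : Subgroup K}

theorem Setup.normalC (h : Setup p φ φC ι Q) : (Q.comap ι).Normal := h.normal.comap ι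

theorem Setup.stableC (h : Setup p φ φC ι Q) : ∀ s, ∀ q ∈ Q.comap ι, φC s q ∈ Q.comap ι := by
  intro s q hq
  show ι (φC s q) ∈ Q
  rw [h.compat]
  exact h.stable s _ hq

theorem Setup.le_range (h : Setup p φ φC ι Q) : ∀ q ∈ Q, q ∈ ι.range := by
  intro q hq
  rw [h.range]
  intro s
  exact Q.mul_mem (h.stable s q hq) (Q.inv_mem hq)

theorem Setup.pgroup (h : Setup p φ φC ι Q) : IsPGroup p S := by
  obtain ⟨n, hn⟩ := h.cardS
  exact IsPGroup.of_card hn

theorem Setup.idxC (h : Setup p φ φC ι Q) : ¬ p ∣ (Q.comap ι).index := by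
  have := h.normal
  rw [Subgroup.index_comap]
  intro h1
  exact h.idx (h1.trans (Subgroup.relIndex_dvd_index_of_normal Q ι.range))

/-- `Q.comap ι ≃* Q`. -/
noncomputable def Setup.qcEquiv (h : Setup p φ φC ι Q) : Q.comap ι ≃* Q :=
  MulEquiv.ofBijective (ι.subgroupComap Q) (by
    constructor
    · intro a b hab
      apply Subtype.ext
      apply h.inj
      exact congrArg Subtype.val hab
    · intro q
      obtain ⟨c, hc⟩ := h.le_range q q.2
      refine ⟨⟨c, ?_⟩, ?_⟩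
      · show ι c ∈ Q
        rw [hc]; exact q.2
      · apply Subtype.ext
        exact hc)

@[simp] theorem Setup.qcEquiv_apply (h : Setup p φ φC ι Q) (q : Q.comap ι) :
    ((h.qcEquiv q : Q) : K) = ι q := rfl

theorem Setup.thetaC_eq (h : Setup p φ φC ι Q) (θ : Q → ℂ) :
    thetaC ι Q θ = fun q => θ (h.qcEquiv q) := rfl

theorem Setup.thetaC_symm (h : Setup p φ φC ι Q) (θ' : Q.comap ι → ℂ) :
    thetaC ι Q (fun q => θ' (h.qcEquiv.symm q)) = θ' := by
  funext q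
  rw [h.thetaC_eq]
  simp

theorem Setup.sInvOn_thetaC (h : Setup p φ φC ι Q) {θ : Q → ℂ} (hθ : SInvOn φ Q h.stable θ) :
    SInvOn φC (Q.comap ι) h.stableC (thetaC ι Q θ) := by
  intro s q
  unfold thetaC
  rw [← hθ s ⟨ι q, q.2⟩]
  congr 1
  apply Subtype.ext
  exact h.compat s q

theorem Setup.sInvOn_of_thetaC (h : Setup p φ φC ι Q) {θ : Q → ℂ}
    (hθ : SInvOn φC (Q.comap ι) h.stableC (thetaC ι Q θ)) : SInvOn φ Q h.stable θ := by
  intro s q
  have h1 := hθ s (h.qcEquiv.symm q)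
  unfold thetaC at h1
  have h2 : (⟨ι (h.qcEquiv.symm q), (h.qcEquiv.symm q).2⟩ : Q) = q :=
    (show (⟨ι (h.qcEquiv.symm q), (h.qcEquiv.symm q).2⟩ : Q) = h.qcEquiv (h.qcEquiv.symm q)
      from rfl).trans (h.qcEquiv.apply_symm_apply q)
  have h3 : (⟨ι (φC s (h.qcEquiv.symm q)), h.stableC s _ (h.qcEquiv.symm q).2⟩ : Q) =
      ⟨φ s q, h.stable s q q.2⟩ := by
    apply Subtype.ext
    show ι (φC s (h.qcEquiv.symm q)) = φ s q
    rw [h.compat]
    congr 1
    exact congrArg Subtype.val h2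
  rw [h2] at h1
  rw [← h1]
  congr 1
  exact h3.symm

/-- The inertia group of `thetaC θ` in `C` is the preimage of the inertia group of `θ`. -/
theorem Setup.mem_comap_inertia (h : Setup p φ φC ι Q) (θ : Q → ℂ) (c : C) :
    c ∈ (inertia Q h.normal θ).comap ι ↔
      Helper75_Clifford.conjFun (Q.comap ι) h.normalC (thetaC ι Q θ) c = thetaC ι Q θ := by
  have := h.normal
  have := h.normalC
  rw [conjFun_thetaC]
  constructor
  · intro hc
    have h1 : Helper75_Clifford.conjFun Q h.normal θ (ι c) = θ := hc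
    rw [h1]
  · intro hc
    exact thetaC_injective ι Q h.le_range hc

end setup

section indind

variable {K C S : Type u} [Group K] [Group C] [Group S] [Fintype K] [Fintype C]
  {p : ℕ} {φ : S →* MulAut K} {φC : S →* MulAut C} {ι : C →* K} {Q : Subgroup K}
  [Fintype Q] [Fintype (Q.comap ι)]

theorem overT_transfer (h : Setup p φ φC ι Q) (θ : Q → ℂ) (T : Subgroup K) (hQT : Q ≤ T)
    (hQCT : Q.comap ι ≤ T.comap ι) (ψ' : T → ℂ) :
    OverT (Q.comap ι) (T.comap ι) hQCT (thetaC ι Q θ) (fun t => ψ' (ι.subgroupComap T t)) ↔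
      OverT Q T hQT θ ψ' := by
  unfold OverT
  have h1 := Cfsg.Agent.Lib.Helper75_Clifford.classInner_comp_equiv h.qcEquiv
    (fun n : Q => ψ' ⟨(n : K), hQT n.2⟩) θ
  rw [← h1]
  rfl

/-- A constituent lying over `ϑ` forces the character to lie over `ϑ` (form `OverT`). -/
theorem overT_of_constituent {X : Type u} [Group X] [Fintype X] (H T : Subgroup X) [Fintype H]
    [Fintype T] (hHT : H ≤ T) {ϑ : H → ℂ} (hϑ : Cfsg.IsIrrCharacter H ϑ) {Φ : T → ℂ}
    (hΦ : Cfsg.IsCharacter T Φ) (ν : Cfsg.IrrCharacter T)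
    (hν : Cfsg.classInner Φ (ν : T → ℂ) ≠ 0) (hover : OverT H T hHT ϑ (ν : T → ℂ)) :
    OverT H T hHT ϑ Φ := by
  have : Fintype (H.subgroupOf T) := Fintype.ofFinite _
  rw [overT_iff_over] at hover ⊢
  exact over_of_constituent (H.subgroupOf T) hΦ ν hν
    (isCharacter_of_isIrrCharacter (isIrrCharacter_resSubgroupOf H T hHT hϑ)) hover

theorem classInner_ind_ind (h : Setup p φ φC ι Q) {θ : Q → ℂ} (hθ : Cfsg.IsIrrCharacter Q θ)
    (T : Subgroup K) [Fintype T] [Fintype (T.comap ι)]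
    (hT : ∀ g : K, g ∈ T ↔ Helper75_Clifford.conjFun Q h.normal θ g = θ)
    (hQT : Q ≤ T) (hQCT : Q.comap ι ≤ T.comap ι)
    (ψ : Cfsg.IrrCharacter T) (hψ : OverT Q T hQT θ (ψ : T → ℂ))
    (η : Cfsg.IrrCharacter (T.comap ι))
    (hη : OverT (Q.comap ι) (T.comap ι) hQCT (thetaC ι Q θ) (η : T.comap ι → ℂ)) :
    Cfsg.classInner (fun c => Cfsg.indFun T (ψ : T → ℂ) (ι c))
        (Cfsg.indFun (T.comap ι) (η : T.comap ι → ℂ)) =
      Cfsg.classInner (fun t => (ψ : T → ℂ) (ι.subgroupComap T t)) (η : T.comap ι → ℂ) := by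
  classical
  set χ := Cfsg.indFun T (ψ : T → ℂ) with hχdef
  have hχirr : Cfsg.IsIrrCharacter K χ := cliff_irr Q T h.normal hQT hθ hT ψ hψ
  have hχc : Cfsg.IsClassFunction K χ := isClassFunction_of_isIrrCharacter hχirr
  have hχch : Cfsg.IsCharacter K χ := isCharacter_of_isIrrCharacter hχirr
  have hχιc : Cfsg.IsClassFunction C (fun c => χ (ι c)) :=
    isClassFunction_of_isCharacter (isCharacter_comp ι hχch)
  -- Frobenius in `C`
  have h1 : Cfsg.classInner (fun c => χ (ι c)) (Cfsg.indFun (T.comap ι) (η : T.comap ι → ℂ)) =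
      Cfsg.classInner (fun t : T.comap ι => χ (ι t)) (η : T.comap ι → ℂ) := by
    rw [← classInner_conj_symm, frobenius_reciprocity (T.comap ι) _ _ hχιc, classInner_conj_symm]
  rw [h1]
  -- decompose `χ|_T`
  obtain ⟨m, hm, hsum⟩ := exists_multiplicities (isCharacter_res T hχch)
  have h2 : (fun t : T.comap ι => χ (ι t)) =
      ∑ ψ' : Cfsg.IrrCharacter T, (m ψ' : ℂ) • (fun t : T.comap ι =>
        (ψ' : T → ℂ) (ι.subgroupComap T t)) := by
    funext t
    have h3 := congrFun hsum (ι.subgroupComap T t)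
    rw [Finset.sum_apply] at h3 ⊢
    exact h3
  rw [h2, classInner_sum_left]
  -- multiplicities via Frobenius in `K`
  have hmult : ∀ ψ' : Cfsg.IrrCharacter T, (m ψ' : ℂ) =
      conj (Cfsg.classInner (Cfsg.indFun T (ψ' : T → ℂ)) χ) := by
    intro ψ'
    rw [← hm ψ', frobenius_reciprocity T _ χ hχc, classInner_conj_symm]
    rfl
  rw [Finset.sum_eq_single ψ]
  · rw [classInner_smul_left, hmult ψ, classInner_self_of_isIrrCharacter hχirr, map_one, one_mul]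
  · intro ψ' _ hne
    rw [classInner_smul_left]
    by_cases h0 : Cfsg.classInner (fun t : T.comap ι => (ψ' : T → ℂ) (ι.subgroupComap T t))
        (η : T.comap ι → ℂ) = 0
    · rw [h0, mul_zero]
    · have hover' : OverT Q T hQT θ (ψ' : T → ℂ) := by
        rw [← overT_transfer h θ T hQT hQCT]
        exact overT_of_constituent (Q.comap ι) (T.comap ι) hQCT
          (isIrr_thetaC ι h.inj Q h.le_range hθ)
          (isCharacter_comp (ι.subgroupComap T) (isCharacter_of_isIrrCharacter ψ'.2)) η h0 hη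
      have h4 := cliff_orth Q T h.normal hQT hθ hT ψ ψ' hψ hover' hne
      rw [hmult ψ', ← classInner_conj_symm, h4]
      simp
  · intro h0; exact absurd (Finset.mem_univ _) h0

end indind

section overC

variable {K C S : Type u} [Group K] [Group C] [Group S] [Fintype K] [Fintype C]
  {p : ℕ} [hp : Fact p.Prime] {φ : S →* MulAut K} {φC : S →* MulAut C} {ι : C →* K}
  {Q : Subgroup K} [Fintype Q] [Fintype (Q.comap ι)]

/-- Transfer of `Over` between `Q` and `Q.comap ι`. -/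
theorem over_thetaC_iff (h : Setup p φ φC ι Q) (θ : Q → ℂ) (χ : K → ℂ) :
    Over (Q.comap ι) (thetaC ι Q θ) (fun c => χ (ι c)) ↔ Over Q θ χ := by
  unfold Over
  have h1 := Cfsg.Agent.Lib.Helper75_Clifford.classInner_comp_equiv h.qcEquiv (res Q χ) θ
  rw [← h1]
  rfl

/-- An invariant constituent of `χ ∘ ι` lies over `θ`, when `χ` lies over the invariant
character `θ`. -/
theorem over_thetaC_of_constituent (h : Setup p φ φC ι Q) {θ : Q → ℂ}
    (hθ : Cfsg.IsIrrCharacter Q θ) (hθS : SInvOn φ Q h.stable θ)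
    (χ : Cfsg.IrrCharacter K) (hχ : Over Q θ (χ : K → ℂ)) (ξ' : Cfsg.IrrCharacter C)
    (hξ'inv : SInv φC (ξ' : C → ℂ))
    (hne : Cfsg.classInner (fun c => (χ : K → ℂ) (ι c)) (ξ' : C → ℂ) ≠ 0) :
    Over (Q.comap ι) (thetaC ι Q θ) (ξ' : C → ℂ) := by
  classical
  have hQn := h.normal
  have hQCn := h.normalC
  obtain ⟨θ'', hθ''S, hθ''over⟩ := exists_inv_constituent h.pgroup φC (Q.comap ι) h.stableC
    h.idxC ξ' hξ'inv
  -- transport `θ''` to `Q`
  set θ' : Q → ℂ := fun q => (θ'' : Q.comap ι → ℂ) (h.qcEquiv.symm q) with hθ'def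
  have hθ'C : thetaC ι Q θ' = (θ'' : Q.comap ι → ℂ) := h.thetaC_symm _
  have hθ'irr : Cfsg.IsIrrCharacter Q θ' :=
    Cfsg.Agent.Lib.Helper75_Clifford.isIrrCharacter_comp_equiv h.qcEquiv.symm θ''.2
  have hθ'S : SInvOn φ Q h.stable θ' := by
    apply h.sInvOn_of_thetaC
    rw [hθ'C]
    exact hθ''S
  -- `χ` lies over `θ'`
  have hχch : Cfsg.IsCharacter C (fun c => (χ : K → ℂ) (ι c)) :=
    isCharacter_comp ι (isCharacter_of_isIrrCharacter χ.2)
  have h1 : Over (Q.comap ι) (θ'' : Q.comap ι → ℂ) (fun c => (χ : K → ℂ) (ι c)) :=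
    over_of_constituent (Q.comap ι) hχch ξ' hne (isCharacter_of_isIrrCharacter θ''.2) hθ''over
  rw [← hθ'C, over_thetaC_iff h] at h1
  -- conjugacy
  obtain ⟨k, hk⟩ := exists_conj_of_constituent Q h.normal χ.2 hθ hθ'irr hχ h1
  have hkS : SInvOn φ Q h.stable (Helper75_Clifford.conjFun Q h.normal θ k) := by
    rw [← hk]; exact hθ'S
  obtain ⟨c, hc⟩ := exists_conj_in_fixed h.pgroup φ ι Q h.stable h.range h.idx
    (isClassFunction_of_isIrrCharacter hθ) hθS k hkS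
  have h2 : (θ'' : Q.comap ι → ℂ) =
      Helper75_Clifford.conjFun (Q.comap ι) h.normalC (thetaC ι Q θ) c := by
    rw [conjFun_thetaC, hc, ← hk, hθ'C]
  unfold Over at hθ''over ⊢
  rw [h2, classInner_res_conjFun (Q.comap ι) h.normalC
    (isClassFunction_of_isIrrCharacter ξ'.2)] at hθ''over
  exact hθ''over

end overC

section goodinv

variable {C S : Type u} [Group C] [Group S] [Fintype C]

/-- Goodness among the invariant irreducible characters. -/
def GoodInv (p : ℕ) (φC : S →* MulAut C) (Φ : C → ℂ) (ξ : Cfsg.IrrCharacter C) : Prop :=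
  (∃ m ε : ℤ, (ε = 1 ∨ ε = -1) ∧ Cfsg.classInner Φ (ξ : C → ℂ) = (((p : ℤ) * m + ε : ℤ) : ℂ)) ∧
  ∀ ξ' : Cfsg.IrrCharacter C, SInv φC (ξ' : C → ℂ) → ξ' ≠ ξ →
    ∃ m' : ℤ, Cfsg.classInner Φ (ξ' : C → ℂ) = (((p : ℤ) * m' : ℤ) : ℂ)

theorem GoodInv.ne_zero {p : ℕ} (hp : 2 ≤ p) {φC : S →* MulAut C} {Φ : C → ℂ}
    {ξ : Cfsg.IrrCharacter C} (h : GoodInv p φC Φ ξ) : Cfsg.classInner Φ (ξ : C → ℂ) ≠ 0 := by
  intro h0
  obtain ⟨m, ε, hε, hm⟩ := h.1
  rw [h0] at hm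
  have h1 : (0 : ℤ) = (p : ℤ) * m + ε := by
    have : ((0 : ℤ) : ℂ) = (((p : ℤ) * m + ε : ℤ) : ℂ) := by rw [← hm]; simp
    exact Int.cast_injective this
  exact not_dvd_of_pm_one hp hε (m' := 0) (m := m) (by rw [mul_zero]; exact h1)

theorem GoodInv.unique {p : ℕ} (hp : 2 ≤ p) {φC : S →* MulAut C} {Φ : C → ℂ}
    {ξ ξ' : Cfsg.IrrCharacter C} (h : GoodInv p φC Φ ξ) (h' : GoodInv p φC Φ ξ')
    (hξ' : SInv φC (ξ' : C → ℂ)) : ξ' = ξ := by
  by_contra hne
  obtain ⟨m', hm'⟩ := h.2 ξ' hξ' hne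
  obtain ⟨m, ε, hε, hm⟩ := h'.1
  rw [hm'] at hm
  exact not_dvd_of_pm_one hp hε (Int.cast_injective hm)

end goodinv

section overind

variable {X : Type u} [Group X] [Fintype X]

theorem over_ind (H T : Subgroup X) (hN : H.Normal) [Fintype H] [Fintype T] (hHT : H ≤ T)
    {θ : H → ℂ} (hθ : Cfsg.IsIrrCharacter H θ)
    (hT : ∀ g : X, g ∈ T ↔ Helper75_Clifford.conjFun H hN θ g = θ)
    (ψ : Cfsg.IrrCharacter T) (hψ : OverT H T hHT θ (ψ : T → ℂ)) :
    Over H θ (Cfsg.indFun T (ψ : T → ℂ)) := by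
  have hχirr := cliff_irr H T hN hHT hθ hT ψ hψ
  have hχc := isClassFunction_of_isIrrCharacter hχirr
  have h1 : Cfsg.classInner (res T (Cfsg.indFun T (ψ : T → ℂ))) (ψ : T → ℂ) ≠ 0 := by
    rw [← classInner_conj_symm]
    have h2 := frobenius_reciprocity T (ψ : T → ℂ) _ hχc
    have h3 : Cfsg.classInner (ψ : T → ℂ) (res T (Cfsg.indFun T (ψ : T → ℂ))) = 1 := by
      rw [← classInner_self_of_isIrrCharacter hχirr, h2]
      rfl
    rw [h3]
    simp
  have h4 := overT_of_constituent H T hHT hθ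
    (isCharacter_res T (isCharacter_of_isIrrCharacter hχirr)) ψ h1 hψ
  exact h4

end overind

section thetalevel

variable {K C S : Type u} [Group K] [Group C] [Group S] [Fintype K] [Fintype C]
  {p : ℕ} [hp : Fact p.Prime] {φ : S →* MulAut K} {φC : S →* MulAut C} {ι : C →* K}
  {Q : Subgroup K} [Fintype Q] [Fintype (Q.comap ι)]

/-- The correspondence over a fixed invariant character `θ` of `Q`. -/
theorem theta_level (h : Setup p φ φC ι Q) {θ : Q → ℂ} (hθ : Cfsg.IsIrrCharacter Q θ)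
    (hθS : SInvOn φ Q h.stable θ) :
    (∀ χ : Cfsg.IrrCharacter K, SInv φ (χ : K → ℂ) → Over Q θ (χ : K → ℂ) →
      ∃ ξ : Cfsg.IrrCharacter C, SInv φC (ξ : C → ℂ) ∧
        GoodInv p φC (fun c => (χ : K → ℂ) (ι c)) ξ) ∧
    (∀ ξ : Cfsg.IrrCharacter C, SInv φC (ξ : C → ℂ) →
      Over (Q.comap ι) (thetaC ι Q θ) (ξ : C → ℂ) →
      ∃ χ : Cfsg.IrrCharacter K, SInv φ (χ : K → ℂ) ∧
        GoodInv p φC (fun c => (χ : K → ℂ) (ι c)) ξ) ∧
    (∀ χ χ' : Cfsg.IrrCharacter K, SInv φ (χ : K → ℂ) → SInv φ (χ' : K → ℂ) →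
      Over Q θ (χ : K → ℂ) → Over Q θ (χ' : K → ℂ) →
      ∀ ξ : Cfsg.IrrCharacter C, SInv φC (ξ : C → ℂ) →
        GoodInv p φC (fun c => (χ : K → ℂ) (ι c)) ξ →
        GoodInv p φC (fun c => (χ' : K → ℂ) (ι c)) ξ → χ = χ') := by
  classical
  have hp2 : 2 ≤ p := hp.out.two_le
  have hQn := h.normal
  have hQCn := h.normalC
  set T : Subgroup K := inertia Q h.normal θ with hTdef
  have hT : ∀ g : K, g ∈ T ↔ Helper75_Clifford.conjFun Q h.normal θ g = θ := fun g => Iff.rfl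
  have hQT : Q ≤ T := le_inertia Q h.normal (isClassFunction_of_isIrrCharacter hθ)
  have hTφ : ∀ s, ∀ t ∈ T, φ s t ∈ T := fun s t ht =>
    inertia_stable φ Q h.normal h.stable hθS s t ht
  have hQCT : Q.comap ι ≤ T.comap ι := fun q hq => hQT hq
  have hTCφ : ∀ s, ∀ t ∈ T.comap ι, φC s t ∈ T.comap ι := by
    intro s t ht
    show ι (φC s t) ∈ T
    rw [h.compat]
    exact hTφ s _ ht
  have : Fintype T := Fintype.ofFinite _
  have : Fintype (T.comap ι) := Fintype.ofFinite _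
  obtain ⟨n, hn⟩ := h.cardS
  obtain ⟨a, ha⟩ := h.cardQ
  obtain ⟨sA, sA', sB, sC⟩ := stage2_T φ φC ι h.inj h.compat Q h.stable h.range hn h.idx ha hθ hθS
    T hT hQT hTφ hQCT hTCφ
  have hθC : Cfsg.IsIrrCharacter (Q.comap ι) (thetaC ι Q θ) :=
    isIrr_thetaC ι h.inj Q h.le_range hθ
  have hθCS := h.sInvOn_thetaC hθS
  have hT' : ∀ c : C, c ∈ T.comap ι ↔
      Helper75_Clifford.conjFun (Q.comap ι) h.normalC (thetaC ι Q θ) c = thetaC ι Q θ :=
    fun c => h.mem_comap_inertia θ c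
  -- induced characters on the `C` side
  have keyC : ∀ η : Cfsg.IrrCharacter (T.comap ι),
      OverT (Q.comap ι) (T.comap ι) hQCT (thetaC ι Q θ) (η : T.comap ι → ℂ) →
      Cfsg.IsIrrCharacter C (Cfsg.indFun (T.comap ι) (η : T.comap ι → ℂ)) ∧
        SInv φC (Cfsg.indFun (T.comap ι) (η : T.comap ι → ℂ)) := by
    intro η hη
    exact ⟨cliff_irr (Q.comap ι) (T.comap ι) h.normalC hQCT hθC hT' η hη,
      cliff_sinv_up φC (T.comap ι) hTCφ (sA' η hη)⟩
  -- goodness of the induced pair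
  have keyGood : ∀ (ψ : Cfsg.IrrCharacter T) (η : Cfsg.IrrCharacter (T.comap ι))
      (hψ : OverT Q T hQT θ (ψ : T → ℂ))
      (hη : OverT (Q.comap ι) (T.comap ι) hQCT (thetaC ι Q θ) (η : T.comap ι → ℂ)),
      Good p (fun t => (ψ : T → ℂ) (ι.subgroupComap T t)) η →
      GoodInv p φC (fun c => Cfsg.indFun T (ψ : T → ℂ) (ι c))
        ⟨Cfsg.indFun (T.comap ι) (η : T.comap ι → ℂ), (keyC η hη).1⟩ := by
    intro ψ η hψ hη hg
    refine ⟨?_, ?_⟩
    · obtain ⟨m, ε, hε, hm⟩ := hg.1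
      refine ⟨m, ε, hε, ?_⟩
      rw [← hm]
      exact classInner_ind_ind h hθ T hT hQT hQCT ψ hψ η hη
    · intro ξ' hξ'inv hξ'ne
      by_cases h0 : Cfsg.classInner (fun c => Cfsg.indFun T (ψ : T → ℂ) (ι c)) (ξ' : C → ℂ) = 0
      · exact ⟨0, by rw [h0]; simp⟩
      · have hχirr := cliff_irr Q T h.normal hQT hθ hT ψ hψ
        have hχover := over_ind Q T h.normal hQT hθ hT ψ hψ
        have hξ'over := over_thetaC_of_constituent h hθ hθS ⟨_, hχirr⟩ hχover ξ' hξ'inv h0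
        obtain ⟨η', hη'ind, hη'over⟩ := cliff_surj (Q.comap ι) (T.comap ι) h.normalC hQCT hθC hT'
          ξ' hξ'over
        have hne : η' ≠ η := by
          intro heq
          apply hξ'ne
          apply Subtype.ext
          show (ξ' : C → ℂ) = Cfsg.indFun (T.comap ι) (η : T.comap ι → ℂ)
          rw [← hη'ind, heq]
        obtain ⟨m', hm'⟩ := hg.2 η' hne
        refine ⟨m', ?_⟩
        rw [← hm', ← hη'ind]
        exact classInner_ind_ind h hθ T hT hQT hQCT ψ hψ η' hη'over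
  -- data attached to an invariant character over `θ`
  have keyData : ∀ χ : Cfsg.IrrCharacter K, SInv φ (χ : K → ℂ) → Over Q θ (χ : K → ℂ) →
      ∃ (ψ : Cfsg.IrrCharacter T) (η : Cfsg.IrrCharacter (T.comap ι)),
        Cfsg.indFun T (ψ : T → ℂ) = (χ : K → ℂ) ∧ SInv (resHom φ T hTφ) (ψ : T → ℂ) ∧
        OverT Q T hQT θ (ψ : T → ℂ) ∧
        OverT (Q.comap ι) (T.comap ι) hQCT (thetaC ι Q θ) (η : T.comap ι → ℂ) ∧
        Good p (fun t => (ψ : T → ℂ) (ι.subgroupComap T t)) η := by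
    intro χ hχinv hχover
    obtain ⟨ψ, hψind, hψover⟩ := cliff_surj Q T h.normal hQT hθ hT χ hχover
    have hψinv : SInv (resHom φ T hTφ) (ψ : T → ℂ) :=
      cliff_sinv_down φ Q T h.normal hQT h.stable hTφ hθ hθS hT ψ hψover (by rw [hψind]; exact hχinv)
    obtain ⟨η, hηover, hg⟩ := sA ψ hψinv hψover
    exact ⟨ψ, η, hψind, hψinv, hψover, hηover, hg⟩
  refine ⟨?_, ?_, ?_⟩
  · intro χ hχinv hχover
    obtain ⟨ψ, η, hψind, hψinv, hψover, hηover, hg⟩ := keyData χ hχinv hχover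
    refine ⟨⟨_, (keyC η hηover).1⟩, (keyC η hηover).2, ?_⟩
    have := keyGood ψ η hψover hηover hg
    rw [hψind] at this
    exact this
  · intro ξ hξinv hξover
    obtain ⟨η, hηind, hηover⟩ := cliff_surj (Q.comap ι) (T.comap ι) h.normalC hQCT hθC hT'
      ξ hξover
    obtain ⟨ψ, hψinv, hψover, hg⟩ := sC η hηover
    refine ⟨⟨_, cliff_irr Q T h.normal hQT hθ hT ψ hψover⟩, cliff_sinv_up φ T hTφ hψinv, ?_⟩
    have h1 := keyGood ψ η hψover hηover hg
    have h2 : (⟨Cfsg.indFun (T.comap ι) (η : T.comap ι → ℂ), (keyC η hηover).1⟩ :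
        Cfsg.IrrCharacter C) = ξ := Subtype.ext hηind
    rw [h2] at h1
    exact h1
  · intro χ χ' hχinv hχ'inv hχover hχ'over ξ hξinv hg hg'
    obtain ⟨ψ, η, hψind, hψinv, hψover, hηover, hgψ⟩ := keyData χ hχinv hχover
    obtain ⟨ψ', η', hψ'ind, hψ'inv, hψ'over, hη'over, hgψ'⟩ := keyData χ' hχ'inv hχ'over
    have h1 := keyGood ψ η hψover hηover hgψ
    rw [hψind] at h1
    have h1' := keyGood ψ' η' hψ'over hη'over hgψ'
    rw [hψ'ind] at h1'
    have e1 := GoodInv.unique hp2 h1 hg hξinv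
    have e2 := GoodInv.unique hp2 h1' hg' hξinv
    have e3 : Cfsg.indFun (T.comap ι) (η : T.comap ι → ℂ) =
        Cfsg.indFun (T.comap ι) (η' : T.comap ι → ℂ) := by
      have := e1.symm.trans e2
      exact congrArg Subtype.val this
    have e4 : η = η' := cliff_inj (Q.comap ι) (T.comap ι) h.normalC hQCT hθC hT' η η'
      hηover hη'over e3
    rw [← e4] at hgψ'
    have e5 : ψ = ψ' := sB ψ ψ' hψinv hψ'inv hψover hψ'over η hgψ hgψ'
    apply Subtype.ext
    rw [← hψind, ← hψ'ind, e5]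

end thetalevel

section main

variable {K C S : Type u} [Group K] [Group C] [Group S] [Fintype K] [Fintype C]
  {p : ℕ} [hp : Fact p.Prime] {φ : S →* MulAut K} {φC : S →* MulAut C} {ι : C →* K}
  {Q : Subgroup K}

/-- **The relative Glauberman correspondence for a `p`-group of operators.** -/
theorem rel_corr (h : Setup p φ φC ι Q) :
    (∀ χ : Cfsg.IrrCharacter K, SInv φ (χ : K → ℂ) →
      ∃ ξ : Cfsg.IrrCharacter C, SInv φC (ξ : C → ℂ) ∧
        GoodInv p φC (fun c => (χ : K → ℂ) (ι c)) ξ) ∧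
    (∀ χ χ' : Cfsg.IrrCharacter K, SInv φ (χ : K → ℂ) → SInv φ (χ' : K → ℂ) →
      ∀ ξ : Cfsg.IrrCharacter C, SInv φC (ξ : C → ℂ) →
        GoodInv p φC (fun c => (χ : K → ℂ) (ι c)) ξ →
        GoodInv p φC (fun c => (χ' : K → ℂ) (ι c)) ξ → χ = χ') ∧
    (∀ ξ : Cfsg.IrrCharacter C, SInv φC (ξ : C → ℂ) →
      ∃ χ : Cfsg.IrrCharacter K, SInv φ (χ : K → ℂ) ∧
        GoodInv p φC (fun c => (χ : K → ℂ) (ι c)) ξ) := by
  classical
  have hp2 : 2 ≤ p := hp.out.two_le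
  have hQn := h.normal
  have hQCn := h.normalC
  have : Fintype Q := Fintype.ofFinite _
  have : Fintype (Q.comap ι) := Fintype.ofFinite _
  refine ⟨?_, ?_, ?_⟩
  · intro χ hχinv
    obtain ⟨θ, hθS, hθover⟩ := exists_inv_constituent h.pgroup φ Q h.stable h.idx χ hχinv
    exact (theta_level h θ.2 hθS).1 χ hχinv hθover
  · intro χ χ' hχinv hχ'inv ξ hξinv hg hg'
    obtain ⟨θ, hθS, hθover⟩ := exists_inv_constituent h.pgroup φ Q h.stable h.idx χ hχinv
    have hξover := over_thetaC_of_constituent h θ.2 hθS χ hθover ξ hξinv (hg.ne_zero hp2)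
    have hχ'ch : Cfsg.IsCharacter C (fun c => (χ' : K → ℂ) (ι c)) :=
      isCharacter_comp ι (isCharacter_of_isIrrCharacter χ'.2)
    have h1 : Over (Q.comap ι) (thetaC ι Q (θ : Q → ℂ)) (fun c => (χ' : K → ℂ) (ι c)) :=
      over_of_constituent (Q.comap ι) hχ'ch ξ (hg'.ne_zero hp2)
        (isCharacter_of_isIrrCharacter (isIrr_thetaC ι h.inj Q h.le_range θ.2)) hξover
    rw [over_thetaC_iff h] at h1
    exact (theta_level h θ.2 hθS).2.2 χ χ' hχinv hχ'inv hθover h1 ξ hξinv hg hg'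
  · intro ξ hξinv
    obtain ⟨θ'', hθ''S, hθ''over⟩ := exists_inv_constituent h.pgroup φC (Q.comap ι) h.stableC
      h.idxC ξ hξinv
    set θ : Q → ℂ := fun q => (θ'' : Q.comap ι → ℂ) (h.qcEquiv.symm q) with hθdef
    have hθC : thetaC ι Q θ = (θ'' : Q.comap ι → ℂ) := h.thetaC_symm _
    have hθirr : Cfsg.IsIrrCharacter Q θ :=
      Cfsg.Agent.Lib.Helper75_Clifford.isIrrCharacter_comp_equiv h.qcEquiv.symm θ''.2
    have hθS : SInvOn φ Q h.stable θ := by
      apply h.sInvOn_of_thetaC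
      rw [hθC]
      exact hθ''S
    rw [← hθC] at hθ''over
    exact (theta_level h hθirr hθS).2.1 ξ hξinv hθ''over

end main

section degree

variable {K C S : Type u} [Group K] [Group C] [Group S] [Fintype K] [Fintype C]
  {p : ℕ} [hp : Fact p.Prime] {φ : S →* MulAut K} {φC : S →* MulAut C} {ι : C →* K}
  {Q : Subgroup K}

/-- The action of the operator group on the irreducible characters. -/
noncomputable def irrAction (φC : S →* MulAut C) : MulAction S (Cfsg.IrrCharacter C) where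
  smul s ξ := compAut (φC s⁻¹) ξ
  one_smul ξ := by
    apply Subtype.ext
    funext c
    show (ξ : C → ℂ) (φC (1 : S)⁻¹ c) = (ξ : C → ℂ) c
    rw [inv_one, map_one]
    rfl
  mul_smul s t ξ := by
    apply Subtype.ext
    funext c
    show (ξ : C → ℂ) (φC (s * t)⁻¹ c) = (ξ : C → ℂ) (φC t⁻¹ (φC s⁻¹ c))
    rw [mul_inv_rev, map_mul]
    rfl

/-- The degrees of corresponding characters are congruent up to sign. -/
theorem degree_congr (h : Setup p φ φC ι Q) (χ : Cfsg.IrrCharacter K)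
    (hχ : SInv φ (χ : K → ℂ)) (ξ : Cfsg.IrrCharacter C) (hξ : SInv φC (ξ : C → ℂ))
    (hg : GoodInv p φC (fun c => (χ : K → ℂ) (ι c)) ξ) {dχ dξ : ℕ}
    (hdχ : (χ : K → ℂ) 1 = dχ) (hdξ : (ξ : C → ℂ) 1 = dξ) :
    (dξ : ZMod p) = (dχ : ZMod p) ∨ (dξ : ZMod p) = -(dχ : ZMod p) := by
  classical
  letI := irrAction φC
  have hsmul : ∀ (s : S) (ξ' : Cfsg.IrrCharacter C) (c : C),
      ((s • ξ' : Cfsg.IrrCharacter C) : C → ℂ) c = (ξ' : C → ℂ) (φC s⁻¹ c) := fun _ _ _ => rfl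
  set Φ : C → ℂ := fun c => (χ : K → ℂ) (ι c) with hΦ
  have hΦch : Cfsg.IsCharacter C Φ := isCharacter_comp ι (isCharacter_of_isIrrCharacter χ.2)
  obtain ⟨m, hm, hsum⟩ := exists_multiplicities hΦch
  have hd : ∀ ξ' : Cfsg.IrrCharacter C, ∃ d : ℕ, (ξ' : C → ℂ) 1 = d := fun ξ' => by
    obtain ⟨d, hd, _⟩ := Cfsg.Agent.Lib.Helper75_CanonExt.exists_degree ξ'.2
    exact ⟨d, hd⟩
  choose d hd using hd
  set F : Cfsg.IrrCharacter C → ℤ := fun ξ' => (m ξ' : ℤ) * (d ξ' : ℤ) with hF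
  have hΦinv : ∀ (s : S) (c : C), Φ (φC s c) = Φ c := by
    intro s c
    show (χ : K → ℂ) (ι (φC s c)) = (χ : K → ℂ) (ι c)
    rw [h.compat]
    exact hχ s (ι c)
  have hminv : ∀ (s : S) (ξ' : Cfsg.IrrCharacter C), m (s • ξ') = m ξ' := by
    intro s ξ'
    have h1 := Cfsg.Agent.Lib.Helper75_Clifford.classInner_comp_equiv (φC s⁻¹) Φ (ξ' : C → ℂ)
    have h2 : (fun c => Φ (φC s⁻¹ c)) = Φ := funext (hΦinv s⁻¹)
    rw [h2] at h1
    have h3 : Cfsg.classInner Φ ((s • ξ' : Cfsg.IrrCharacter C) : C → ℂ) =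
        Cfsg.classInner Φ (ξ' : C → ℂ) := h1
    rw [hm, hm] at h3
    exact Nat.cast_injective h3
  have hdinv : ∀ (s : S) (ξ' : Cfsg.IrrCharacter C), d (s • ξ') = d ξ' := by
    intro s ξ'
    have h1 : ((s • ξ' : Cfsg.IrrCharacter C) : C → ℂ) 1 = (ξ' : C → ℂ) 1 := by
      rw [hsmul, map_one]
    rw [hd, hd] at h1
    exact Nat.cast_injective h1
  have hFinv : ∀ (s : S) (ξ' : Cfsg.IrrCharacter C), F (s • ξ') = F ξ' := by
    intro s ξ'
    show (m (s • ξ') : ℤ) * (d (s • ξ') : ℤ) = (m ξ' : ℤ) * (d ξ' : ℤ)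
    rw [hminv, hdinv]
  have hcong := sum_modEq_sum_fixed h.pgroup F hFinv
  -- the total sum is the degree of `χ`
  have htotal : ∑ ξ' : Cfsg.IrrCharacter C, F ξ' = (dχ : ℤ) := by
    have h1 : Φ 1 = (dχ : ℂ) := by
      show (χ : K → ℂ) (ι 1) = dχ
      rw [map_one]; exact hdχ
    have h2 := congrFun hsum 1
    rw [Finset.sum_apply, h1] at h2
    have h3 : ((dχ : ℤ) : ℂ) = ((∑ ξ' : Cfsg.IrrCharacter C, F ξ' : ℤ) : ℂ) := by
      rw [Int.cast_sum, Int.cast_natCast, h2]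
      apply Finset.sum_congr rfl
      intro ξ' _
      rw [Pi.smul_apply, smul_eq_mul, hd ξ']
      show _ = (((m ξ' : ℤ) * (d ξ' : ℤ) : ℤ) : ℂ)
      push_cast
      rfl
    exact (Int.cast_injective h3).symm
  -- the fixed sum
  have hfixed : ∀ ξ' : Cfsg.IrrCharacter C, (∀ s : S, s • ξ' = ξ') → SInv φC (ξ' : C → ℂ) := by
    intro ξ' hfix s c
    have h1 := congrFun (congrArg Subtype.val (hfix s⁻¹)) c
    rw [hsmul, inv_inv] at h1
    exact h1
  have hξfix : ξ ∈ Finset.univ.filter (fun ξ' : Cfsg.IrrCharacter C => ∀ s : S, s • ξ' = ξ') := by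
    rw [Finset.mem_filter]
    refine ⟨Finset.mem_univ _, fun s => ?_⟩
    apply Subtype.ext
    funext c
    rw [hsmul]
    exact hξ s⁻¹ c
  have hrest : (p : ℤ) ∣ ∑ ξ' ∈ (Finset.univ.filter
      (fun ξ' : Cfsg.IrrCharacter C => ∀ s : S, s • ξ' = ξ')).erase ξ, F ξ' := by
    apply Finset.dvd_sum
    intro ξ' hξ'
    rw [Finset.mem_erase, Finset.mem_filter] at hξ'
    obtain ⟨m', hm'⟩ := hg.2 ξ' (hfixed ξ' hξ'.2.2) hξ'.1
    rw [hm ξ'] at hm'
    have h1 : (m ξ' : ℤ) = (p : ℤ) * m' := by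
      have : ((m ξ' : ℤ) : ℂ) = (((p : ℤ) * m' : ℤ) : ℂ) := by rw [← hm']; simp
      exact Int.cast_injective this
    show (p : ℤ) ∣ (m ξ' : ℤ) * (d ξ' : ℤ)
    rw [h1]
    exact Dvd.dvd.mul_right (Dvd.intro _ rfl) _
  obtain ⟨m₀, ε, hε, hm₀⟩ := hg.1
  rw [hm ξ] at hm₀
  have hmξ : (m ξ : ℤ) = (p : ℤ) * m₀ + ε := by
    have : ((m ξ : ℤ) : ℂ) = (((p : ℤ) * m₀ + ε : ℤ) : ℂ) := by rw [← hm₀]; simp
    exact Int.cast_injective this
  have hdξ' : d ξ = dξ := by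
    have := hd ξ
    rw [hdξ] at this
    exact (Nat.cast_injective this).symm
  rw [htotal, ← Finset.add_sum_erase _ _ hξfix] at hcong
  -- pass to `ZMod p`
  have hz : ((dχ : ℤ) : ZMod p) = ((F ξ + ∑ ξ' ∈ (Finset.univ.filter
      (fun ξ' : Cfsg.IrrCharacter C => ∀ s : S, s • ξ' = ξ')).erase ξ, F ξ' : ℤ) : ZMod p) :=
    (ZMod.intCast_eq_intCast_iff _ _ _).mpr hcong
  obtain ⟨r, hr⟩ := hrest
  rw [hr] at hz
  have hz2 : (dχ : ZMod p) = (ε : ZMod p) * (dξ : ZMod p) := by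
    have : F ξ = ((p : ℤ) * m₀ + ε) * (dξ : ℤ) := by
      show (m ξ : ℤ) * (d ξ : ℤ) = _
      rw [hmξ, hdξ']
    rw [this] at hz
    push_cast at hz
    rw [hz]
    simp
  rcases hε with rfl | rfl
  · left
    rw [hz2]
    simp
  · right
    rw [hz2]
    simp

end degree

end Cfsg.Agent.Lib.Helper75_RelGlaubMain
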