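import Mathlib
import Cfsg.Agent.Lib.Helper75_SM_Base

/-!
# S0496 engine, generated file: no simple group of order N for the easy N in [101, 200] (helper75)
-/

set_option autoImplicit false

namespace Cfsg.Agent.Lib.Helper75_SM_E0

open Cfsg.Agent.Lib.Helper17_Sylow Cfsg.Agent.Lib.Helper75_SM_Base

theorem no_101 {G : Type*} [Group G] [Finite G] [IsSimpleGroup G]
    (hG : ¬ IsMulCommutative G) (h : Nat.card G = 101) : False := by
  exact tp hG 101 2 1 0 (by norm_num) (by norm_num) (by rw [h]; norm_num)

theorem no_102 {G : Type*} [Group G] [Finite G] [IsSimpleGroup G]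
    (hG : ¬ IsMulCommutative G) (h : Nat.card G = 102) : False := by
  exact ev hG (by rw [h]; exact ⟨51, by norm_num⟩) (by rw [h]; omega)

theorem no_103 {G : Type*} [Group G] [Finite G] [IsSimpleGroup G]
    (hG : ¬ IsMulCommutative G) (h : Nat.card G = 103) : False := by
  exact tp hG 103 2 1 0 (by norm_num) (by norm_num) (by rw [h]; norm_num)

theorem no_104 {G : Type*} [Group G] [Finite G] [IsSimpleGroup G]
    (hG : ¬ IsMulCommutative G) (h : Nat.card G = 104) : False := by
  exact tp hG 2 13 3 1 (by norm_num) (by norm_num) (by rw [h]; norm_num)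

theorem no_105 {G : Type*} [Group G] [Finite G] [IsSimpleGroup G]
    (hG : ¬ IsMulCommutative G) (h : Nat.card G = 105) : False := by
  have : Fact (Nat.Prime 3) := ⟨by norm_num⟩
  have hc : Nat.card G = 3 ^ 1 * 35 := by rw [h]; norm_num
  have hm : ¬ 3 ∣ 35 := by norm_num
  have hmem := card_sylow_mem_candidates hc hm
  have hcand : sylowCandidates 3 35 = [1, 7] := by decide
  rw [hcand] at hmem
  simp only [List.mem_cons, List.not_mem_nil, or_false] at hmem
  have hlt := one_lt_card_sylow_of_card hc hm (by norm_num) (by norm_num)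
  rcases hmem with hd | hd
  · omega
  · exact burn_kill hc hm (by norm_num) 7 hd (by decide)

theorem no_106 {G : Type*} [Group G] [Finite G] [IsSimpleGroup G]
    (hG : ¬ IsMulCommutative G) (h : Nat.card G = 106) : False := by
  exact tp hG 2 53 1 1 (by norm_num) (by norm_num) (by rw [h]; norm_num)

theorem no_107 {G : Type*} [Group G] [Finite G] [IsSimpleGroup G]
    (hG : ¬ IsMulCommutative G) (h : Nat.card G = 107) : False := by
  exact tp hG 107 2 1 0 (by norm_num) (by norm_num) (by rw [h]; norm_num)

theorem no_108 {G : Type*} [Group G] [Finite G] [IsSimpleGroup G]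
    (hG : ¬ IsMulCommutative G) (h : Nat.card G = 108) : False := by
  exact tp hG 2 3 2 3 (by norm_num) (by norm_num) (by rw [h]; norm_num)

theorem no_109 {G : Type*} [Group G] [Finite G] [IsSimpleGroup G]
    (hG : ¬ IsMulCommutative G) (h : Nat.card G = 109) : False := by
  exact tp hG 109 2 1 0 (by norm_num) (by norm_num) (by rw [h]; norm_num)

theorem no_110 {G : Type*} [Group G] [Finite G] [IsSimpleGroup G]
    (hG : ¬ IsMulCommutative G) (h : Nat.card G = 110) : False := by
  exact ev hG (by rw [h]; exact ⟨55, by norm_num⟩) (by rw [h]; omega)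

theorem no_111 {G : Type*} [Group G] [Finite G] [IsSimpleGroup G]
    (hG : ¬ IsMulCommutative G) (h : Nat.card G = 111) : False := by
  exact tp hG 3 37 1 1 (by norm_num) (by norm_num) (by rw [h]; norm_num)

theorem no_112 {G : Type*} [Group G] [Finite G] [IsSimpleGroup G]
    (hG : ¬ IsMulCommutative G) (h : Nat.card G = 112) : False := by
  exact tp hG 2 7 4 1 (by norm_num) (by norm_num) (by rw [h]; norm_num)

theorem no_113 {G : Type*} [Group G] [Finite G] [IsSimpleGroup G]
    (hG : ¬ IsMulCommutative G) (h : Nat.card G = 113) : False := by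
  exact tp hG 113 2 1 0 (by norm_num) (by norm_num) (by rw [h]; norm_num)

theorem no_114 {G : Type*} [Group G] [Finite G] [IsSimpleGroup G]
    (hG : ¬ IsMulCommutative G) (h : Nat.card G = 114) : False := by
  exact ev hG (by rw [h]; exact ⟨57, by norm_num⟩) (by rw [h]; omega)

theorem no_115 {G : Type*} [Group G] [Finite G] [IsSimpleGroup G]
    (hG : ¬ IsMulCommutative G) (h : Nat.card G = 115) : False := by
  exact tp hG 5 23 1 1 (by norm_num) (by norm_num) (by rw [h]; norm_num)

theorem no_116 {G : Type*} [Group G] [Finite G] [IsSimpleGroup G]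
    (hG : ¬ IsMulCommutative G) (h : Nat.card G = 116) : False := by
  exact tp hG 2 29 2 1 (by norm_num) (by norm_num) (by rw [h]; norm_num)

theorem no_117 {G : Type*} [Group G] [Finite G] [IsSimpleGroup G]
    (hG : ¬ IsMulCommutative G) (h : Nat.card G = 117) : False := by
  exact tp hG 3 13 2 1 (by norm_num) (by norm_num) (by rw [h]; norm_num)

theorem no_118 {G : Type*} [Group G] [Finite G] [IsSimpleGroup G]
    (hG : ¬ IsMulCommutative G) (h : Nat.card G = 118) : False := by
  exact tp hG 2 59 1 1 (by norm_num) (by norm_num) (by rw [h]; norm_num)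

theorem no_119 {G : Type*} [Group G] [Finite G] [IsSimpleGroup G]
    (hG : ¬ IsMulCommutative G) (h : Nat.card G = 119) : False := by
  exact tp hG 7 17 1 1 (by norm_num) (by norm_num) (by rw [h]; norm_num)

theorem no_120 {G : Type*} [Group G] [Finite G] [IsSimpleGroup G]
    (hG : ¬ IsMulCommutative G) (h : Nat.card G = 120) : False := by
  have : Fact (Nat.Prime 5) := ⟨by norm_num⟩
  have hc : Nat.card G = 5 ^ 1 * 24 := by rw [h]; norm_num
  have hm : ¬ 5 ∣ 24 := by norm_num
  have hmem := card_sylow_mem_candidates hc hm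
  have hcand : sylowCandidates 5 24 = [1, 6] := by decide
  rw [hcand] at hmem
  simp only [List.mem_cons, List.not_mem_nil, or_false] at hmem
  have hlt := one_lt_card_sylow_of_card hc hm (by norm_num) (by norm_num)
  rcases hmem with hd | hd
  · omega
  · exact perm_kill hG (by norm_num) hc hm hd 20 (by omega) (by decide)

theorem no_121 {G : Type*} [Group G] [Finite G] [IsSimpleGroup G]
    (hG : ¬ IsMulCommutative G) (h : Nat.card G = 121) : False := by
  exact tp hG 11 2 2 0 (by norm_num) (by norm_num) (by rw [h]; norm_num)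

theorem no_122 {G : Type*} [Group G] [Finite G] [IsSimpleGroup G]
    (hG : ¬ IsMulCommutative G) (h : Nat.card G = 122) : False := by
  exact tp hG 2 61 1 1 (by norm_num) (by norm_num) (by rw [h]; norm_num)

theorem no_123 {G : Type*} [Group G] [Finite G] [IsSimpleGroup G]
    (hG : ¬ IsMulCommutative G) (h : Nat.card G = 123) : False := by
  exact tp hG 3 41 1 1 (by norm_num) (by norm_num) (by rw [h]; norm_num)

theorem no_124 {G : Type*} [Group G] [Finite G] [IsSimpleGroup G]
    (hG : ¬ IsMulCommutative G) (h : Nat.card G = 124) : False := by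
  exact tp hG 2 31 2 1 (by norm_num) (by norm_num) (by rw [h]; norm_num)

theorem no_125 {G : Type*} [Group G] [Finite G] [IsSimpleGroup G]
    (hG : ¬ IsMulCommutative G) (h : Nat.card G = 125) : False := by
  exact tp hG 5 2 3 0 (by norm_num) (by norm_num) (by rw [h]; norm_num)

theorem no_126 {G : Type*} [Group G] [Finite G] [IsSimpleGroup G]
    (hG : ¬ IsMulCommutative G) (h : Nat.card G = 126) : False := by
  exact ev hG (by rw [h]; exact ⟨63, by norm_num⟩) (by rw [h]; omega)

theorem no_127 {G : Type*} [Group G] [Finite G] [IsSimpleGroup G]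
    (hG : ¬ IsMulCommutative G) (h : Nat.card G = 127) : False := by
  exact tp hG 127 2 1 0 (by norm_num) (by norm_num) (by rw [h]; norm_num)

theorem no_128 {G : Type*} [Group G] [Finite G] [IsSimpleGroup G]
    (hG : ¬ IsMulCommutative G) (h : Nat.card G = 128) : False := by
  exact tp hG 2 3 7 0 (by norm_num) (by norm_num) (by rw [h]; norm_num)

theorem no_129 {G : Type*} [Group G] [Finite G] [IsSimpleGroup G]
    (hG : ¬ IsMulCommutative G) (h : Nat.card G = 129) : False := by
  exact tp hG 3 43 1 1 (by norm_num) (by norm_num) (by rw [h]; norm_num)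

theorem no_130 {G : Type*} [Group G] [Finite G] [IsSimpleGroup G]
    (hG : ¬ IsMulCommutative G) (h : Nat.card G = 130) : False := by
  exact ev hG (by rw [h]; exact ⟨65, by norm_num⟩) (by rw [h]; omega)

theorem no_131 {G : Type*} [Group G] [Finite G] [IsSimpleGroup G]
    (hG : ¬ IsMulCommutative G) (h : Nat.card G = 131) : False := by
  exact tp hG 131 2 1 0 (by norm_num) (by norm_num) (by rw [h]; norm_num)

theorem no_132 {G : Type*} [Group G] [Finite G] [IsSimpleGroup G]
    (hG : ¬ IsMulCommutative G) (h : Nat.card G = 132) : False := by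
  have : Fact (Nat.Prime 11) := ⟨by norm_num⟩
  have hc : Nat.card G = 11 ^ 1 * 12 := by rw [h]; norm_num
  have hm : ¬ 11 ∣ 12 := by norm_num
  have hmem := card_sylow_mem_candidates hc hm
  have hcand : sylowCandidates 11 12 = [1, 12] := by decide
  rw [hcand] at hmem
  simp only [List.mem_cons, List.not_mem_nil, or_false] at hmem
  have hlt := one_lt_card_sylow_of_card hc hm (by norm_num) (by norm_num)
  rcases hmem with hd | hd
  · omega
  · exact burn_kill hc hm (by norm_num) 12 hd (by decide)

theorem no_133 {G : Type*} [Group G] [Finite G] [IsSimpleGroup G]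
    (hG : ¬ IsMulCommutative G) (h : Nat.card G = 133) : False := by
  exact tp hG 7 19 1 1 (by norm_num) (by norm_num) (by rw [h]; norm_num)

theorem no_134 {G : Type*} [Group G] [Finite G] [IsSimpleGroup G]
    (hG : ¬ IsMulCommutative G) (h : Nat.card G = 134) : False := by
  exact tp hG 2 67 1 1 (by norm_num) (by norm_num) (by rw [h]; norm_num)

theorem no_135 {G : Type*} [Group G] [Finite G] [IsSimpleGroup G]
    (hG : ¬ IsMulCommutative G) (h : Nat.card G = 135) : False := by
  exact tp hG 3 5 3 1 (by norm_num) (by norm_num) (by rw [h]; norm_num)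

theorem no_136 {G : Type*} [Group G] [Finite G] [IsSimpleGroup G]
    (hG : ¬ IsMulCommutative G) (h : Nat.card G = 136) : False := by
  exact tp hG 2 17 3 1 (by norm_num) (by norm_num) (by rw [h]; norm_num)

theorem no_137 {G : Type*} [Group G] [Finite G] [IsSimpleGroup G]
    (hG : ¬ IsMulCommutative G) (h : Nat.card G = 137) : False := by
  exact tp hG 137 2 1 0 (by norm_num) (by norm_num) (by rw [h]; norm_num)

theorem no_138 {G : Type*} [Group G] [Finite G] [IsSimpleGroup G]
    (hG : ¬ IsMulCommutative G) (h : Nat.card G = 138) : False := by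
  exact ev hG (by rw [h]; exact ⟨69, by norm_num⟩) (by rw [h]; omega)

theorem no_139 {G : Type*} [Group G] [Finite G] [IsSimpleGroup G]
    (hG : ¬ IsMulCommutative G) (h : Nat.card G = 139) : False := by
  exact tp hG 139 2 1 0 (by norm_num) (by norm_num) (by rw [h]; norm_num)

theorem no_140 {G : Type*} [Group G] [Finite G] [IsSimpleGroup G]
    (hG : ¬ IsMulCommutative G) (h : Nat.card G = 140) : False := by
  exact ev hG (by rw [h]; exact ⟨70, by norm_num⟩) (by rw [h]; omega)

theorem no_141 {G : Type*} [Group G] [Finite G] [IsSimpleGroup G]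
    (hG : ¬ IsMulCommutative G) (h : Nat.card G = 141) : False := by
  exact tp hG 3 47 1 1 (by norm_num) (by norm_num) (by rw [h]; norm_num)

theorem no_142 {G : Type*} [Group G] [Finite G] [IsSimpleGroup G]
    (hG : ¬ IsMulCommutative G) (h : Nat.card G = 142) : False := by
  exact tp hG 2 71 1 1 (by norm_num) (by norm_num) (by rw [h]; norm_num)

theorem no_143 {G : Type*} [Group G] [Finite G] [IsSimpleGroup G]
    (hG : ¬ IsMulCommutative G) (h : Nat.card G = 143) : False := by
  exact tp hG 11 13 1 1 (by norm_num) (by norm_num) (by rw [h]; norm_num)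

theorem no_144 {G : Type*} [Group G] [Finite G] [IsSimpleGroup G]
    (hG : ¬ IsMulCommutative G) (h : Nat.card G = 144) : False := by
  exact tp hG 2 3 4 2 (by norm_num) (by norm_num) (by rw [h]; norm_num)

theorem no_145 {G : Type*} [Group G] [Finite G] [IsSimpleGroup G]
    (hG : ¬ IsMulCommutative G) (h : Nat.card G = 145) : False := by
  exact tp hG 5 29 1 1 (by norm_num) (by norm_num) (by rw [h]; norm_num)

theorem no_146 {G : Type*} [Group G] [Finite G] [IsSimpleGroup G]
    (hG : ¬ IsMulCommutative G) (h : Nat.card G = 146) : False := by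
  exact tp hG 2 73 1 1 (by norm_num) (by norm_num) (by rw [h]; norm_num)

theorem no_147 {G : Type*} [Group G] [Finite G] [IsSimpleGroup G]
    (hG : ¬ IsMulCommutative G) (h : Nat.card G = 147) : False := by
  exact tp hG 3 7 1 2 (by norm_num) (by norm_num) (by rw [h]; norm_num)

theorem no_148 {G : Type*} [Group G] [Finite G] [IsSimpleGroup G]
    (hG : ¬ IsMulCommutative G) (h : Nat.card G = 148) : False := by
  exact tp hG 2 37 2 1 (by norm_num) (by norm_num) (by rw [h]; norm_num)

theorem no_149 {G : Type*} [Group G] [Finite G] [IsSimpleGroup G]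
    (hG : ¬ IsMulCommutative G) (h : Nat.card G = 149) : False := by
  exact tp hG 149 2 1 0 (by norm_num) (by norm_num) (by rw [h]; norm_num)

theorem no_150 {G : Type*} [Group G] [Finite G] [IsSimpleGroup G]
    (hG : ¬ IsMulCommutative G) (h : Nat.card G = 150) : False := by
  exact ev hG (by rw [h]; exact ⟨75, by norm_num⟩) (by rw [h]; omega)

theorem no_151 {G : Type*} [Group G] [Finite G] [IsSimpleGroup G]
    (hG : ¬ IsMulCommutative G) (h : Nat.card G = 151) : False := by
  exact tp hG 151 2 1 0 (by norm_num) (by norm_num) (by rw [h]; norm_num)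

theorem no_152 {G : Type*} [Group G] [Finite G] [IsSimpleGroup G]
    (hG : ¬ IsMulCommutative G) (h : Nat.card G = 152) : False := by
  exact tp hG 2 19 3 1 (by norm_num) (by norm_num) (by rw [h]; norm_num)

theorem no_153 {G : Type*} [Group G] [Finite G] [IsSimpleGroup G]
    (hG : ¬ IsMulCommutative G) (h : Nat.card G = 153) : False := by
  exact tp hG 3 17 2 1 (by norm_num) (by norm_num) (by rw [h]; norm_num)

theorem no_154 {G : Type*} [Group G] [Finite G] [IsSimpleGroup G]
    (hG : ¬ IsMulCommutative G) (h : Nat.card G = 154) : False := by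
  exact ev hG (by rw [h]; exact ⟨77, by norm_num⟩) (by rw [h]; omega)

theorem no_155 {G : Type*} [Group G] [Finite G] [IsSimpleGroup G]
    (hG : ¬ IsMulCommutative G) (h : Nat.card G = 155) : False := by
  exact tp hG 5 31 1 1 (by norm_num) (by norm_num) (by rw [h]; norm_num)

theorem no_156 {G : Type*} [Group G] [Finite G] [IsSimpleGroup G]
    (hG : ¬ IsMulCommutative G) (h : Nat.card G = 156) : False := by
  have : Fact (Nat.Prime 13) := ⟨by norm_num⟩
  have hc : Nat.card G = 13 ^ 1 * 12 := by rw [h]; norm_num
  have hm : ¬ 13 ∣ 12 := by norm_num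
  have hmem := card_sylow_mem_candidates hc hm
  have hcand : sylowCandidates 13 12 = [1] := by decide
  rw [hcand] at hmem
  simp only [List.mem_cons, List.not_mem_nil, or_false] at hmem
  have hlt := one_lt_card_sylow_of_card hc hm (by norm_num) (by norm_num)
  have hd := hmem
  · omega

theorem no_157 {G : Type*} [Group G] [Finite G] [IsSimpleGroup G]
    (hG : ¬ IsMulCommutative G) (h : Nat.card G = 157) : False := by
  exact tp hG 157 2 1 0 (by norm_num) (by norm_num) (by rw [h]; norm_num)

theorem no_158 {G : Type*} [Group G] [Finite G] [IsSimpleGroup G]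
    (hG : ¬ IsMulCommutative G) (h : Nat.card G = 158) : False := by
  exact tp hG 2 79 1 1 (by norm_num) (by norm_num) (by rw [h]; norm_num)

theorem no_159 {G : Type*} [Group G] [Finite G] [IsSimpleGroup G]
    (hG : ¬ IsMulCommutative G) (h : Nat.card G = 159) : False := by
  exact tp hG 3 53 1 1 (by norm_num) (by norm_num) (by rw [h]; norm_num)

theorem no_160 {G : Type*} [Group G] [Finite G] [IsSimpleGroup G]
    (hG : ¬ IsMulCommutative G) (h : Nat.card G = 160) : False := by
  exact tp hG 2 5 5 1 (by norm_num) (by norm_num) (by rw [h]; norm_num)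

theorem no_161 {G : Type*} [Group G] [Finite G] [IsSimpleGroup G]
    (hG : ¬ IsMulCommutative G) (h : Nat.card G = 161) : False := by
  exact tp hG 7 23 1 1 (by norm_num) (by norm_num) (by rw [h]; norm_num)

theorem no_162 {G : Type*} [Group G] [Finite G] [IsSimpleGroup G]
    (hG : ¬ IsMulCommutative G) (h : Nat.card G = 162) : False := by
  exact tp hG 2 3 1 4 (by norm_num) (by norm_num) (by rw [h]; norm_num)

theorem no_163 {G : Type*} [Group G] [Finite G] [IsSimpleGroup G]
    (hG : ¬ IsMulCommutative G) (h : Nat.card G = 163) : False := by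
  exact tp hG 163 2 1 0 (by norm_num) (by norm_num) (by rw [h]; norm_num)

theorem no_164 {G : Type*} [Group G] [Finite G] [IsSimpleGroup G]
    (hG : ¬ IsMulCommutative G) (h : Nat.card G = 164) : False := by
  exact tp hG 2 41 2 1 (by norm_num) (by norm_num) (by rw [h]; norm_num)

theorem no_165 {G : Type*} [Group G] [Finite G] [IsSimpleGroup G]
    (hG : ¬ IsMulCommutative G) (h : Nat.card G = 165) : False := by
  have : Fact (Nat.Prime 3) := ⟨by norm_num⟩
  have hc : Nat.card G = 3 ^ 1 * 55 := by rw [h]; norm_num
  have hm : ¬ 3 ∣ 55 := by norm_num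
  have hmem := card_sylow_mem_candidates hc hm
  have hcand : sylowCandidates 3 55 = [1, 55] := by decide
  rw [hcand] at hmem
  simp only [List.mem_cons, List.not_mem_nil, or_false] at hmem
  have hlt := one_lt_card_sylow_of_card hc hm (by norm_num) (by norm_num)
  rcases hmem with hd | hd
  · omega
  · exact burn_kill hc hm (by norm_num) 55 hd (by decide)

theorem no_166 {G : Type*} [Group G] [Finite G] [IsSimpleGroup G]
    (hG : ¬ IsMulCommutative G) (h : Nat.card G = 166) : False := by
  exact tp hG 2 83 1 1 (by norm_num) (by norm_num) (by rw [h]; norm_num)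

theorem no_167 {G : Type*} [Group G] [Finite G] [IsSimpleGroup G]
    (hG : ¬ IsMulCommutative G) (h : Nat.card G = 167) : False := by
  exact tp hG 167 2 1 0 (by norm_num) (by norm_num) (by rw [h]; norm_num)

theorem no_169 {G : Type*} [Group G] [Finite G] [IsSimpleGroup G]
    (hG : ¬ IsMulCommutative G) (h : Nat.card G = 169) : False := by
  exact tp hG 13 2 2 0 (by norm_num) (by norm_num) (by rw [h]; norm_num)

theorem no_170 {G : Type*} [Group G] [Finite G] [IsSimpleGroup G]
    (hG : ¬ IsMulCommutative G) (h : Nat.card G = 170) : False := by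
  exact ev hG (by rw [h]; exact ⟨85, by norm_num⟩) (by rw [h]; omega)

theorem no_171 {G : Type*} [Group G] [Finite G] [IsSimpleGroup G]
    (hG : ¬ IsMulCommutative G) (h : Nat.card G = 171) : False := by
  exact tp hG 3 19 2 1 (by norm_num) (by norm_num) (by rw [h]; norm_num)

theorem no_172 {G : Type*} [Group G] [Finite G] [IsSimpleGroup G]
    (hG : ¬ IsMulCommutative G) (h : Nat.card G = 172) : False := by
  exact tp hG 2 43 2 1 (by norm_num) (by norm_num) (by rw [h]; norm_num)

theorem no_173 {G : Type*} [Group G] [Finite G] [IsSimpleGroup G]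
    (hG : ¬ IsMulCommutative G) (h : Nat.card G = 173) : False := by
  exact tp hG 173 2 1 0 (by norm_num) (by norm_num) (by rw [h]; norm_num)

theorem no_174 {G : Type*} [Group G] [Finite G] [IsSimpleGroup G]
    (hG : ¬ IsMulCommutative G) (h : Nat.card G = 174) : False := by
  exact ev hG (by rw [h]; exact ⟨87, by norm_num⟩) (by rw [h]; omega)

theorem no_175 {G : Type*} [Group G] [Finite G] [IsSimpleGroup G]
    (hG : ¬ IsMulCommutative G) (h : Nat.card G = 175) : False := by
  exact tp hG 5 7 2 1 (by norm_num) (by norm_num) (by rw [h]; norm_num)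

theorem no_176 {G : Type*} [Group G] [Finite G] [IsSimpleGroup G]
    (hG : ¬ IsMulCommutative G) (h : Nat.card G = 176) : False := by
  exact tp hG 2 11 4 1 (by norm_num) (by norm_num) (by rw [h]; norm_num)

theorem no_177 {G : Type*} [Group G] [Finite G] [IsSimpleGroup G]
    (hG : ¬ IsMulCommutative G) (h : Nat.card G = 177) : False := by
  exact tp hG 3 59 1 1 (by norm_num) (by norm_num) (by rw [h]; norm_num)

theorem no_178 {G : Type*} [Group G] [Finite G] [IsSimpleGroup G]
    (hG : ¬ IsMulCommutative G) (h : Nat.card G = 178) : False := by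
  exact tp hG 2 89 1 1 (by norm_num) (by norm_num) (by rw [h]; norm_num)

theorem no_179 {G : Type*} [Group G] [Finite G] [IsSimpleGroup G]
    (hG : ¬ IsMulCommutative G) (h : Nat.card G = 179) : False := by
  exact tp hG 179 2 1 0 (by norm_num) (by norm_num) (by rw [h]; norm_num)

theorem no_180 {G : Type*} [Group G] [Finite G] [IsSimpleGroup G]
    (hG : ¬ IsMulCommutative G) (h : Nat.card G = 180) : False := by
  have : Fact (Nat.Prime 5) := ⟨by norm_num⟩
  have hc : Nat.card G = 5 ^ 1 * 36 := by rw [h]; norm_num
  have hm : ¬ 5 ∣ 36 := by norm_num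
  have hmem := card_sylow_mem_candidates hc hm
  have hcand : sylowCandidates 5 36 = [1, 6, 36] := by decide
  rw [hcand] at hmem
  simp only [List.mem_cons, List.not_mem_nil, or_false] at hmem
  have hlt := one_lt_card_sylow_of_card hc hm (by norm_num) (by norm_num)
  rcases hmem with hd | hd | hd
  · omega
  · exact perm_kill hG (by norm_num) hc hm hd 30 (by omega) (by decide)
  · exact burn_kill hc hm (by norm_num) 36 hd (by decide)

theorem no_181 {G : Type*} [Group G] [Finite G] [IsSimpleGroup G]
    (hG : ¬ IsMulCommutative G) (h : Nat.card G = 181) : False := by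
  exact tp hG 181 2 1 0 (by norm_num) (by norm_num) (by rw [h]; norm_num)

theorem no_182 {G : Type*} [Group G] [Finite G] [IsSimpleGroup G]
    (hG : ¬ IsMulCommutative G) (h : Nat.card G = 182) : False := by
  exact ev hG (by rw [h]; exact ⟨91, by norm_num⟩) (by rw [h]; omega)

theorem no_183 {G : Type*} [Group G] [Finite G] [IsSimpleGroup G]
    (hG : ¬ IsMulCommutative G) (h : Nat.card G = 183) : False := by
  exact tp hG 3 61 1 1 (by norm_num) (by norm_num) (by rw [h]; norm_num)

theorem no_184 {G : Type*} [Group G] [Finite G] [IsSimpleGroup G]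
    (hG : ¬ IsMulCommutative G) (h : Nat.card G = 184) : False := by
  exact tp hG 2 23 3 1 (by norm_num) (by norm_num) (by rw [h]; norm_num)

theorem no_185 {G : Type*} [Group G] [Finite G] [IsSimpleGroup G]
    (hG : ¬ IsMulCommutative G) (h : Nat.card G = 185) : False := by
  exact tp hG 5 37 1 1 (by norm_num) (by norm_num) (by rw [h]; norm_num)

theorem no_186 {G : Type*} [Group G] [Finite G] [IsSimpleGroup G]
    (hG : ¬ IsMulCommutative G) (h : Nat.card G = 186) : False := by
  exact ev hG (by rw [h]; exact ⟨93, by norm_num⟩) (by rw [h]; omega)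

theorem no_187 {G : Type*} [Group G] [Finite G] [IsSimpleGroup G]
    (hG : ¬ IsMulCommutative G) (h : Nat.card G = 187) : False := by
  exact tp hG 11 17 1 1 (by norm_num) (by norm_num) (by rw [h]; norm_num)

theorem no_188 {G : Type*} [Group G] [Finite G] [IsSimpleGroup G]
    (hG : ¬ IsMulCommutative G) (h : Nat.card G = 188) : False := by
  exact tp hG 2 47 2 1 (by norm_num) (by norm_num) (by rw [h]; norm_num)

theorem no_189 {G : Type*} [Group G] [Finite G] [IsSimpleGroup G]
    (hG : ¬ IsMulCommutative G) (h : Nat.card G = 189) : False := by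
  exact tp hG 3 7 3 1 (by norm_num) (by norm_num) (by rw [h]; norm_num)

theorem no_190 {G : Type*} [Group G] [Finite G] [IsSimpleGroup G]
    (hG : ¬ IsMulCommutative G) (h : Nat.card G = 190) : False := by
  exact ev hG (by rw [h]; exact ⟨95, by norm_num⟩) (by rw [h]; omega)

theorem no_191 {G : Type*} [Group G] [Finite G] [IsSimpleGroup G]
    (hG : ¬ IsMulCommutative G) (h : Nat.card G = 191) : False := by
  exact tp hG 191 2 1 0 (by norm_num) (by norm_num) (by rw [h]; norm_num)

theorem no_192 {G : Type*} [Group G] [Finite G] [IsSimpleGroup G]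
    (hG : ¬ IsMulCommutative G) (h : Nat.card G = 192) : False := by
  exact tp hG 2 3 6 1 (by norm_num) (by norm_num) (by rw [h]; norm_num)

theorem no_193 {G : Type*} [Group G] [Finite G] [IsSimpleGroup G]
    (hG : ¬ IsMulCommutative G) (h : Nat.card G = 193) : False := by
  exact tp hG 193 2 1 0 (by norm_num) (by norm_num) (by rw [h]; norm_num)

theorem no_194 {G : Type*} [Group G] [Finite G] [IsSimpleGroup G]
    (hG : ¬ IsMulCommutative G) (h : Nat.card G = 194) : False := by
  exact tp hG 2 97 1 1 (by norm_num) (by norm_num) (by rw [h]; norm_num)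

theorem no_195 {G : Type*} [Group G] [Finite G] [IsSimpleGroup G]
    (hG : ¬ IsMulCommutative G) (h : Nat.card G = 195) : False := by
  have : Fact (Nat.Prime 3) := ⟨by norm_num⟩
  have hc : Nat.card G = 3 ^ 1 * 65 := by rw [h]; norm_num
  have hm : ¬ 3 ∣ 65 := by norm_num
  have hmem := card_sylow_mem_candidates hc hm
  have hcand : sylowCandidates 3 65 = [1, 13] := by decide
  rw [hcand] at hmem
  simp only [List.mem_cons, List.not_mem_nil, or_false] at hmem
  have hlt := one_lt_card_sylow_of_card hc hm (by norm_num) (by norm_num)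
  rcases hmem with hd | hd
  · omega
  · exact burn_kill hc hm (by norm_num) 13 hd (by decide)

theorem no_196 {G : Type*} [Group G] [Finite G] [IsSimpleGroup G]
    (hG : ¬ IsMulCommutative G) (h : Nat.card G = 196) : False := by
  exact tp hG 2 7 2 2 (by norm_num) (by norm_num) (by rw [h]; norm_num)

theorem no_197 {G : Type*} [Group G] [Finite G] [IsSimpleGroup G]
    (hG : ¬ IsMulCommutative G) (h : Nat.card G = 197) : False := by
  exact tp hG 197 2 1 0 (by norm_num) (by norm_num) (by rw [h]; norm_num)

theorem no_198 {G : Type*} [Group G] [Finite G] [IsSimpleGroup G]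
    (hG : ¬ IsMulCommutative G) (h : Nat.card G = 198) : False := by
  exact ev hG (by rw [h]; exact ⟨99, by norm_num⟩) (by rw [h]; omega)

theorem no_199 {G : Type*} [Group G] [Finite G] [IsSimpleGroup G]
    (hG : ¬ IsMulCommutative G) (h : Nat.card G = 199) : False := by
  exact tp hG 199 2 1 0 (by norm_num) (by norm_num) (by rw [h]; norm_num)

theorem no_200 {G : Type*} [Group G] [Finite G] [IsSimpleGroup G]
    (hG : ¬ IsMulCommutative G) (h : Nat.card G = 200) : False := by
  exact tp hG 2 5 3 2 (by norm_num) (by norm_num) (by rw [h]; norm_num)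

/-- the orders in [101, 200] not excluded by the engine -/
theorem chunk {G : Type*} [Group G] [Finite G] [IsSimpleGroup G]
    (hG : ¬ IsMulCommutative G) (n : ℕ) (hn : Nat.card G = n) (h1 : 101 ≤ n) (h2 : n ≤ 200) :
    n = 168 := by
  interval_cases n
  · exact (no_101 hG hn).elim
  · exact (no_102 hG hn).elim
  · exact (no_103 hG hn).elim
  · exact (no_104 hG hn).elim
  · exact (no_105 hG hn).elim
  · exact (no_106 hG hn).elim
  · exact (no_107 hG hn).elim
  · exact (no_108 hG hn).elim
  · exact (no_109 hG hn).elim
  · exact (no_110 hG hn).elim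
  · exact (no_111 hG hn).elim
  · exact (no_112 hG hn).elim
  · exact (no_113 hG hn).elim
  · exact (no_114 hG hn).elim
  · exact (no_115 hG hn).elim
  · exact (no_116 hG hn).elim
  · exact (no_117 hG hn).elim
  · exact (no_118 hG hn).elim
  · exact (no_119 hG hn).elim
  · exact (no_120 hG hn).elim
  · exact (no_121 hG hn).elim
  · exact (no_122 hG hn).elim
  · exact (no_123 hG hn).elim
  · exact (no_124 hG hn).elim
  · exact (no_125 hG hn).elim
  · exact (no_126 hG hn).elim
  · exact (no_127 hG hn).elim
  · exact (no_128 hG hn).elim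
  · exact (no_129 hG hn).elim
  · exact (no_130 hG hn).elim
  · exact (no_131 hG hn).elim
  · exact (no_132 hG hn).elim
  · exact (no_133 hG hn).elim
  · exact (no_134 hG hn).elim
  · exact (no_135 hG hn).elim
  · exact (no_136 hG hn).elim
  · exact (no_137 hG hn).elim
  · exact (no_138 hG hn).elim
  · exact (no_139 hG hn).elim
  · exact (no_140 hG hn).elim
  · exact (no_141 hG hn).elim
  · exact (no_142 hG hn).elim
  · exact (no_143 hG hn).elim
  · exact (no_144 hG hn).elim
  · exact (no_145 hG hn).elim
  · exact (no_146 hG hn).elim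
  · exact (no_147 hG hn).elim
  · exact (no_148 hG hn).elim
  · exact (no_149 hG hn).elim
  · exact (no_150 hG hn).elim
  · exact (no_151 hG hn).elim
  · exact (no_152 hG hn).elim
  · exact (no_153 hG hn).elim
  · exact (no_154 hG hn).elim
  · exact (no_155 hG hn).elim
  · exact (no_156 hG hn).elim
  · exact (no_157 hG hn).elim
  · exact (no_158 hG hn).elim
  · exact (no_159 hG hn).elim
  · exact (no_160 hG hn).elim
  · exact (no_161 hG hn).elim
  · exact (no_162 hG hn).elim
  · exact (no_163 hG hn).elim
  · exact (no_164 hG hn).elim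
  · exact (no_165 hG hn).elim
  · exact (no_166 hG hn).elim
  · exact (no_167 hG hn).elim
  · simp
  · exact (no_169 hG hn).elim
  · exact (no_170 hG hn).elim
  · exact (no_171 hG hn).elim
  · exact (no_172 hG hn).elim
  · exact (no_173 hG hn).elim
  · exact (no_174 hG hn).elim
  · exact (no_175 hG hn).elim
  · exact (no_176 hG hn).elim
  · exact (no_177 hG hn).elim
  · exact (no_178 hG hn).elim
  · exact (no_179 hG hn).elim
  · exact (no_180 hG hn).elim
  · exact (no_181 hG hn).elim
  · exact (no_182 hG hn).elim
  · exact (no_183 hG hn).elim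
  · exact (no_184 hG hn).elim
  · exact (no_185 hG hn).elim
  · exact (no_186 hG hn).elim
  · exact (no_187 hG hn).elim
  · exact (no_188 hG hn).elim
  · exact (no_189 hG hn).elim
  · exact (no_190 hG hn).elim
  · exact (no_191 hG hn).elim
  · exact (no_192 hG hn).elim
  · exact (no_193 hG hn).elim
  · exact (no_194 hG hn).elim
  · exact (no_195 hG hn).elim
  · exact (no_196 hG hn).elim
  · exact (no_197 hG hn).elim
  · exact (no_198 hG hn).elim
  · exact (no_199 hG hn).elim
  · exact (no_200 hG hn).elim

end Cfsg.Agent.Lib.Helper75_SM_E0
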