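import Mathlib
import Cfsg.Agent.Lib.Helper75_SM_Base

/-!
# S0496 engine, generated file: no simple group of order N for the easy N in [201, 300] (helper75)
-/

set_option autoImplicit false

namespace Cfsg.Agent.Lib.Helper75_SM_E1

open Cfsg.Agent.Lib.Helper17_Sylow Cfsg.Agent.Lib.Helper75_SM_Base

theorem no_201 {G : Type*} [Group G] [Finite G] [IsSimpleGroup G]
    (hG : ¬ IsMulCommutative G) (h : Nat.card G = 201) : False := by
  exact tp hG 3 67 1 1 (by norm_num) (by norm_num) (by rw [h]; norm_num)

theorem no_202 {G : Type*} [Group G] [Finite G] [IsSimpleGroup G]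
    (hG : ¬ IsMulCommutative G) (h : Nat.card G = 202) : False := by
  exact tp hG 2 101 1 1 (by norm_num) (by norm_num) (by rw [h]; norm_num)

theorem no_203 {G : Type*} [Group G] [Finite G] [IsSimpleGroup G]
    (hG : ¬ IsMulCommutative G) (h : Nat.card G = 203) : False := by
  exact tp hG 7 29 1 1 (by norm_num) (by norm_num) (by rw [h]; norm_num)

theorem no_204 {G : Type*} [Group G] [Finite G] [IsSimpleGroup G]
    (hG : ¬ IsMulCommutative G) (h : Nat.card G = 204) : False := by
  have : Fact (Nat.Prime 17) := ⟨by norm_num⟩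
  have hc : Nat.card G = 17 ^ 1 * 12 := by rw [h]; norm_num
  have hm : ¬ 17 ∣ 12 := by norm_num
  have hmem := card_sylow_mem_candidates hc hm
  have hcand : sylowCandidates 17 12 = [1] := by decide
  rw [hcand] at hmem
  simp only [List.mem_cons, List.not_mem_nil, or_false] at hmem
  have hlt := one_lt_card_sylow_of_card hc hm (by norm_num) (by norm_num)
  have hd := hmem
  · omega

theorem no_205 {G : Type*} [Group G] [Finite G] [IsSimpleGroup G]
    (hG : ¬ IsMulCommutative G) (h : Nat.card G = 205) : False := by
  exact tp hG 5 41 1 1 (by norm_num) (by norm_num) (by rw [h]; norm_num)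

theorem no_206 {G : Type*} [Group G] [Finite G] [IsSimpleGroup G]
    (hG : ¬ IsMulCommutative G) (h : Nat.card G = 206) : False := by
  exact tp hG 2 103 1 1 (by norm_num) (by norm_num) (by rw [h]; norm_num)

theorem no_207 {G : Type*} [Group G] [Finite G] [IsSimpleGroup G]
    (hG : ¬ IsMulCommutative G) (h : Nat.card G = 207) : False := by
  exact tp hG 3 23 2 1 (by norm_num) (by norm_num) (by rw [h]; norm_num)

theorem no_208 {G : Type*} [Group G] [Finite G] [IsSimpleGroup G]
    (hG : ¬ IsMulCommutative G) (h : Nat.card G = 208) : False := by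
  exact tp hG 2 13 4 1 (by norm_num) (by norm_num) (by rw [h]; norm_num)

theorem no_209 {G : Type*} [Group G] [Finite G] [IsSimpleGroup G]
    (hG : ¬ IsMulCommutative G) (h : Nat.card G = 209) : False := by
  exact tp hG 11 19 1 1 (by norm_num) (by norm_num) (by rw [h]; norm_num)

theorem no_210 {G : Type*} [Group G] [Finite G] [IsSimpleGroup G]
    (hG : ¬ IsMulCommutative G) (h : Nat.card G = 210) : False := by
  exact ev hG (by rw [h]; exact ⟨105, by norm_num⟩) (by rw [h]; omega)

theorem no_211 {G : Type*} [Group G] [Finite G] [IsSimpleGroup G]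
    (hG : ¬ IsMulCommutative G) (h : Nat.card G = 211) : False := by
  exact tp hG 211 2 1 0 (by norm_num) (by norm_num) (by rw [h]; norm_num)

theorem no_212 {G : Type*} [Group G] [Finite G] [IsSimpleGroup G]
    (hG : ¬ IsMulCommutative G) (h : Nat.card G = 212) : False := by
  exact tp hG 2 53 2 1 (by norm_num) (by norm_num) (by rw [h]; norm_num)

theorem no_213 {G : Type*} [Group G] [Finite G] [IsSimpleGroup G]
    (hG : ¬ IsMulCommutative G) (h : Nat.card G = 213) : False := by
  exact tp hG 3 71 1 1 (by norm_num) (by norm_num) (by rw [h]; norm_num)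

theorem no_214 {G : Type*} [Group G] [Finite G] [IsSimpleGroup G]
    (hG : ¬ IsMulCommutative G) (h : Nat.card G = 214) : False := by
  exact tp hG 2 107 1 1 (by norm_num) (by norm_num) (by rw [h]; norm_num)

theorem no_215 {G : Type*} [Group G] [Finite G] [IsSimpleGroup G]
    (hG : ¬ IsMulCommutative G) (h : Nat.card G = 215) : False := by
  exact tp hG 5 43 1 1 (by norm_num) (by norm_num) (by rw [h]; norm_num)

theorem no_216 {G : Type*} [Group G] [Finite G] [IsSimpleGroup G]
    (hG : ¬ IsMulCommutative G) (h : Nat.card G = 216) : False := by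
  exact tp hG 2 3 3 3 (by norm_num) (by norm_num) (by rw [h]; norm_num)

theorem no_217 {G : Type*} [Group G] [Finite G] [IsSimpleGroup G]
    (hG : ¬ IsMulCommutative G) (h : Nat.card G = 217) : False := by
  exact tp hG 7 31 1 1 (by norm_num) (by norm_num) (by rw [h]; norm_num)

theorem no_218 {G : Type*} [Group G] [Finite G] [IsSimpleGroup G]
    (hG : ¬ IsMulCommutative G) (h : Nat.card G = 218) : False := by
  exact tp hG 2 109 1 1 (by norm_num) (by norm_num) (by rw [h]; norm_num)

theorem no_219 {G : Type*} [Group G] [Finite G] [IsSimpleGroup G]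
    (hG : ¬ IsMulCommutative G) (h : Nat.card G = 219) : False := by
  exact tp hG 3 73 1 1 (by norm_num) (by norm_num) (by rw [h]; norm_num)

theorem no_220 {G : Type*} [Group G] [Finite G] [IsSimpleGroup G]
    (hG : ¬ IsMulCommutative G) (h : Nat.card G = 220) : False := by
  exact ev hG (by rw [h]; exact ⟨110, by norm_num⟩) (by rw [h]; omega)

theorem no_221 {G : Type*} [Group G] [Finite G] [IsSimpleGroup G]
    (hG : ¬ IsMulCommutative G) (h : Nat.card G = 221) : False := by
  exact tp hG 13 17 1 1 (by norm_num) (by norm_num) (by rw [h]; norm_num)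

theorem no_222 {G : Type*} [Group G] [Finite G] [IsSimpleGroup G]
    (hG : ¬ IsMulCommutative G) (h : Nat.card G = 222) : False := by
  exact ev hG (by rw [h]; exact ⟨111, by norm_num⟩) (by rw [h]; omega)

theorem no_223 {G : Type*} [Group G] [Finite G] [IsSimpleGroup G]
    (hG : ¬ IsMulCommutative G) (h : Nat.card G = 223) : False := by
  exact tp hG 223 2 1 0 (by norm_num) (by norm_num) (by rw [h]; norm_num)

theorem no_224 {G : Type*} [Group G] [Finite G] [IsSimpleGroup G]
    (hG : ¬ IsMulCommutative G) (h : Nat.card G = 224) : False := by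
  exact tp hG 2 7 5 1 (by norm_num) (by norm_num) (by rw [h]; norm_num)

theorem no_225 {G : Type*} [Group G] [Finite G] [IsSimpleGroup G]
    (hG : ¬ IsMulCommutative G) (h : Nat.card G = 225) : False := by
  exact tp hG 3 5 2 2 (by norm_num) (by norm_num) (by rw [h]; norm_num)

theorem no_226 {G : Type*} [Group G] [Finite G] [IsSimpleGroup G]
    (hG : ¬ IsMulCommutative G) (h : Nat.card G = 226) : False := by
  exact tp hG 2 113 1 1 (by norm_num) (by norm_num) (by rw [h]; norm_num)

theorem no_227 {G : Type*} [Group G] [Finite G] [IsSimpleGroup G]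
    (hG : ¬ IsMulCommutative G) (h : Nat.card G = 227) : False := by
  exact tp hG 227 2 1 0 (by norm_num) (by norm_num) (by rw [h]; norm_num)

theorem no_228 {G : Type*} [Group G] [Finite G] [IsSimpleGroup G]
    (hG : ¬ IsMulCommutative G) (h : Nat.card G = 228) : False := by
  have : Fact (Nat.Prime 19) := ⟨by norm_num⟩
  have hc : Nat.card G = 19 ^ 1 * 12 := by rw [h]; norm_num
  have hm : ¬ 19 ∣ 12 := by norm_num
  have hmem := card_sylow_mem_candidates hc hm
  have hcand : sylowCandidates 19 12 = [1] := by decide
  rw [hcand] at hmem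
  simp only [List.mem_cons, List.not_mem_nil, or_false] at hmem
  have hlt := one_lt_card_sylow_of_card hc hm (by norm_num) (by norm_num)
  have hd := hmem
  · omega

theorem no_229 {G : Type*} [Group G] [Finite G] [IsSimpleGroup G]
    (hG : ¬ IsMulCommutative G) (h : Nat.card G = 229) : False := by
  exact tp hG 229 2 1 0 (by norm_num) (by norm_num) (by rw [h]; norm_num)

theorem no_230 {G : Type*} [Group G] [Finite G] [IsSimpleGroup G]
    (hG : ¬ IsMulCommutative G) (h : Nat.card G = 230) : False := by
  exact ev hG (by rw [h]; exact ⟨115, by norm_num⟩) (by rw [h]; omega)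

theorem no_231 {G : Type*} [Group G] [Finite G] [IsSimpleGroup G]
    (hG : ¬ IsMulCommutative G) (h : Nat.card G = 231) : False := by
  have : Fact (Nat.Prime 3) := ⟨by norm_num⟩
  have hc : Nat.card G = 3 ^ 1 * 77 := by rw [h]; norm_num
  have hm : ¬ 3 ∣ 77 := by norm_num
  have hmem := card_sylow_mem_candidates hc hm
  have hcand : sylowCandidates 3 77 = [1, 7] := by decide
  rw [hcand] at hmem
  simp only [List.mem_cons, List.not_mem_nil, or_false] at hmem
  have hlt := one_lt_card_sylow_of_card hc hm (by norm_num) (by norm_num)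
  rcases hmem with hd | hd
  · omega
  · exact fact_kill hG 7 hd (by norm_num) (by rw [h]; decide)

theorem no_232 {G : Type*} [Group G] [Finite G] [IsSimpleGroup G]
    (hG : ¬ IsMulCommutative G) (h : Nat.card G = 232) : False := by
  exact tp hG 2 29 3 1 (by norm_num) (by norm_num) (by rw [h]; norm_num)

theorem no_233 {G : Type*} [Group G] [Finite G] [IsSimpleGroup G]
    (hG : ¬ IsMulCommutative G) (h : Nat.card G = 233) : False := by
  exact tp hG 233 2 1 0 (by norm_num) (by norm_num) (by rw [h]; norm_num)

theorem no_234 {G : Type*} [Group G] [Finite G] [IsSimpleGroup G]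
    (hG : ¬ IsMulCommutative G) (h : Nat.card G = 234) : False := by
  exact ev hG (by rw [h]; exact ⟨117, by norm_num⟩) (by rw [h]; omega)

theorem no_235 {G : Type*} [Group G] [Finite G] [IsSimpleGroup G]
    (hG : ¬ IsMulCommutative G) (h : Nat.card G = 235) : False := by
  exact tp hG 5 47 1 1 (by norm_num) (by norm_num) (by rw [h]; norm_num)

theorem no_236 {G : Type*} [Group G] [Finite G] [IsSimpleGroup G]
    (hG : ¬ IsMulCommutative G) (h : Nat.card G = 236) : False := by
  exact tp hG 2 59 2 1 (by norm_num) (by norm_num) (by rw [h]; norm_num)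

theorem no_237 {G : Type*} [Group G] [Finite G] [IsSimpleGroup G]
    (hG : ¬ IsMulCommutative G) (h : Nat.card G = 237) : False := by
  exact tp hG 3 79 1 1 (by norm_num) (by norm_num) (by rw [h]; norm_num)

theorem no_238 {G : Type*} [Group G] [Finite G] [IsSimpleGroup G]
    (hG : ¬ IsMulCommutative G) (h : Nat.card G = 238) : False := by
  exact ev hG (by rw [h]; exact ⟨119, by norm_num⟩) (by rw [h]; omega)

theorem no_239 {G : Type*} [Group G] [Finite G] [IsSimpleGroup G]
    (hG : ¬ IsMulCommutative G) (h : Nat.card G = 239) : False := by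
  exact tp hG 239 2 1 0 (by norm_num) (by norm_num) (by rw [h]; norm_num)

theorem no_240 {G : Type*} [Group G] [Finite G] [IsSimpleGroup G]
    (hG : ¬ IsMulCommutative G) (h : Nat.card G = 240) : False := by
  have : Fact (Nat.Prime 5) := ⟨by norm_num⟩
  have hc : Nat.card G = 5 ^ 1 * 48 := by rw [h]; norm_num
  have hm : ¬ 5 ∣ 48 := by norm_num
  have hmem := card_sylow_mem_candidates hc hm
  have hcand : sylowCandidates 5 48 = [1, 6, 16] := by decide
  rw [hcand] at hmem
  simp only [List.mem_cons, List.not_mem_nil, or_false] at hmem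
  have hlt := one_lt_card_sylow_of_card hc hm (by norm_num) (by norm_num)
  rcases hmem with hd | hd | hd
  · omega
  · exact fact_kill hG 6 hd (by norm_num) (by rw [h]; decide)
  · exact burn_kill hc hm (by norm_num) 16 hd (by decide)

theorem no_241 {G : Type*} [Group G] [Finite G] [IsSimpleGroup G]
    (hG : ¬ IsMulCommutative G) (h : Nat.card G = 241) : False := by
  exact tp hG 241 2 1 0 (by norm_num) (by norm_num) (by rw [h]; norm_num)

theorem no_242 {G : Type*} [Group G] [Finite G] [IsSimpleGroup G]
    (hG : ¬ IsMulCommutative G) (h : Nat.card G = 242) : False := by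
  exact tp hG 2 11 1 2 (by norm_num) (by norm_num) (by rw [h]; norm_num)

theorem no_243 {G : Type*} [Group G] [Finite G] [IsSimpleGroup G]
    (hG : ¬ IsMulCommutative G) (h : Nat.card G = 243) : False := by
  exact tp hG 3 2 5 0 (by norm_num) (by norm_num) (by rw [h]; norm_num)

theorem no_244 {G : Type*} [Group G] [Finite G] [IsSimpleGroup G]
    (hG : ¬ IsMulCommutative G) (h : Nat.card G = 244) : False := by
  exact tp hG 2 61 2 1 (by norm_num) (by norm_num) (by rw [h]; norm_num)

theorem no_245 {G : Type*} [Group G] [Finite G] [IsSimpleGroup G]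
    (hG : ¬ IsMulCommutative G) (h : Nat.card G = 245) : False := by
  exact tp hG 5 7 1 2 (by norm_num) (by norm_num) (by rw [h]; norm_num)

theorem no_246 {G : Type*} [Group G] [Finite G] [IsSimpleGroup G]
    (hG : ¬ IsMulCommutative G) (h : Nat.card G = 246) : False := by
  exact ev hG (by rw [h]; exact ⟨123, by norm_num⟩) (by rw [h]; omega)

theorem no_247 {G : Type*} [Group G] [Finite G] [IsSimpleGroup G]
    (hG : ¬ IsMulCommutative G) (h : Nat.card G = 247) : False := by
  exact tp hG 13 19 1 1 (by norm_num) (by norm_num) (by rw [h]; norm_num)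

theorem no_248 {G : Type*} [Group G] [Finite G] [IsSimpleGroup G]
    (hG : ¬ IsMulCommutative G) (h : Nat.card G = 248) : False := by
  exact tp hG 2 31 3 1 (by norm_num) (by norm_num) (by rw [h]; norm_num)

theorem no_249 {G : Type*} [Group G] [Finite G] [IsSimpleGroup G]
    (hG : ¬ IsMulCommutative G) (h : Nat.card G = 249) : False := by
  exact tp hG 3 83 1 1 (by norm_num) (by norm_num) (by rw [h]; norm_num)

theorem no_250 {G : Type*} [Group G] [Finite G] [IsSimpleGroup G]
    (hG : ¬ IsMulCommutative G) (h : Nat.card G = 250) : False := by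
  exact tp hG 2 5 1 3 (by norm_num) (by norm_num) (by rw [h]; norm_num)

theorem no_251 {G : Type*} [Group G] [Finite G] [IsSimpleGroup G]
    (hG : ¬ IsMulCommutative G) (h : Nat.card G = 251) : False := by
  exact tp hG 251 2 1 0 (by norm_num) (by norm_num) (by rw [h]; norm_num)

theorem no_252 {G : Type*} [Group G] [Finite G] [IsSimpleGroup G]
    (hG : ¬ IsMulCommutative G) (h : Nat.card G = 252) : False := by
  have : Fact (Nat.Prime 7) := ⟨by norm_num⟩
  have hc : Nat.card G = 7 ^ 1 * 36 := by rw [h]; norm_num
  have hm : ¬ 7 ∣ 36 := by norm_num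
  have hmem := card_sylow_mem_candidates hc hm
  have hcand : sylowCandidates 7 36 = [1, 36] := by decide
  rw [hcand] at hmem
  simp only [List.mem_cons, List.not_mem_nil, or_false] at hmem
  have hlt := one_lt_card_sylow_of_card hc hm (by norm_num) (by norm_num)
  rcases hmem with hd | hd
  · omega
  · exact burn_kill hc hm (by norm_num) 36 hd (by decide)

theorem no_253 {G : Type*} [Group G] [Finite G] [IsSimpleGroup G]
    (hG : ¬ IsMulCommutative G) (h : Nat.card G = 253) : False := by
  exact tp hG 11 23 1 1 (by norm_num) (by norm_num) (by rw [h]; norm_num)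

theorem no_254 {G : Type*} [Group G] [Finite G] [IsSimpleGroup G]
    (hG : ¬ IsMulCommutative G) (h : Nat.card G = 254) : False := by
  exact tp hG 2 127 1 1 (by norm_num) (by norm_num) (by rw [h]; norm_num)

theorem no_255 {G : Type*} [Group G] [Finite G] [IsSimpleGroup G]
    (hG : ¬ IsMulCommutative G) (h : Nat.card G = 255) : False := by
  have : Fact (Nat.Prime 3) := ⟨by norm_num⟩
  have hc : Nat.card G = 3 ^ 1 * 85 := by rw [h]; norm_num
  have hm : ¬ 3 ∣ 85 := by norm_num
  have hmem := card_sylow_mem_candidates hc hm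
  have hcand : sylowCandidates 3 85 = [1, 85] := by decide
  rw [hcand] at hmem
  simp only [List.mem_cons, List.not_mem_nil, or_false] at hmem
  have hlt := one_lt_card_sylow_of_card hc hm (by norm_num) (by norm_num)
  rcases hmem with hd | hd
  · omega
  · exact burn_kill hc hm (by norm_num) 85 hd (by decide)

theorem no_256 {G : Type*} [Group G] [Finite G] [IsSimpleGroup G]
    (hG : ¬ IsMulCommutative G) (h : Nat.card G = 256) : False := by
  exact tp hG 2 3 8 0 (by norm_num) (by norm_num) (by rw [h]; norm_num)

theorem no_257 {G : Type*} [Group G] [Finite G] [IsSimpleGroup G]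
    (hG : ¬ IsMulCommutative G) (h : Nat.card G = 257) : False := by
  exact tp hG 257 2 1 0 (by norm_num) (by norm_num) (by rw [h]; norm_num)

theorem no_258 {G : Type*} [Group G] [Finite G] [IsSimpleGroup G]
    (hG : ¬ IsMulCommutative G) (h : Nat.card G = 258) : False := by
  exact ev hG (by rw [h]; exact ⟨129, by norm_num⟩) (by rw [h]; omega)

theorem no_259 {G : Type*} [Group G] [Finite G] [IsSimpleGroup G]
    (hG : ¬ IsMulCommutative G) (h : Nat.card G = 259) : False := by
  exact tp hG 7 37 1 1 (by norm_num) (by norm_num) (by rw [h]; norm_num)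

theorem no_260 {G : Type*} [Group G] [Finite G] [IsSimpleGroup G]
    (hG : ¬ IsMulCommutative G) (h : Nat.card G = 260) : False := by
  exact ev hG (by rw [h]; exact ⟨130, by norm_num⟩) (by rw [h]; omega)

theorem no_261 {G : Type*} [Group G] [Finite G] [IsSimpleGroup G]
    (hG : ¬ IsMulCommutative G) (h : Nat.card G = 261) : False := by
  exact tp hG 3 29 2 1 (by norm_num) (by norm_num) (by rw [h]; norm_num)

theorem no_262 {G : Type*} [Group G] [Finite G] [IsSimpleGroup G]
    (hG : ¬ IsMulCommutative G) (h : Nat.card G = 262) : False := by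
  exact tp hG 2 131 1 1 (by norm_num) (by norm_num) (by rw [h]; norm_num)

theorem no_263 {G : Type*} [Group G] [Finite G] [IsSimpleGroup G]
    (hG : ¬ IsMulCommutative G) (h : Nat.card G = 263) : False := by
  exact tp hG 263 2 1 0 (by norm_num) (by norm_num) (by rw [h]; norm_num)

theorem no_264 {G : Type*} [Group G] [Finite G] [IsSimpleGroup G]
    (hG : ¬ IsMulCommutative G) (h : Nat.card G = 264) : False := by
  have : Fact (Nat.Prime 11) := ⟨by norm_num⟩
  have hc : Nat.card G = 11 ^ 1 * 24 := by rw [h]; norm_num
  have hm : ¬ 11 ∣ 24 := by norm_num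
  have hmem := card_sylow_mem_candidates hc hm
  have hcand : sylowCandidates 11 24 = [1, 12] := by decide
  rw [hcand] at hmem
  simp only [List.mem_cons, List.not_mem_nil, or_false] at hmem
  have hlt := one_lt_card_sylow_of_card hc hm (by norm_num) (by norm_num)
  rcases hmem with hd | hd
  · omega
  · exact perm_kill hG (by norm_num) hc hm hd 22 (by omega) (by decide)

theorem no_265 {G : Type*} [Group G] [Finite G] [IsSimpleGroup G]
    (hG : ¬ IsMulCommutative G) (h : Nat.card G = 265) : False := by
  exact tp hG 5 53 1 1 (by norm_num) (by norm_num) (by rw [h]; norm_num)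

theorem no_266 {G : Type*} [Group G] [Finite G] [IsSimpleGroup G]
    (hG : ¬ IsMulCommutative G) (h : Nat.card G = 266) : False := by
  exact ev hG (by rw [h]; exact ⟨133, by norm_num⟩) (by rw [h]; omega)

theorem no_267 {G : Type*} [Group G] [Finite G] [IsSimpleGroup G]
    (hG : ¬ IsMulCommutative G) (h : Nat.card G = 267) : False := by
  exact tp hG 3 89 1 1 (by norm_num) (by norm_num) (by rw [h]; norm_num)

theorem no_268 {G : Type*} [Group G] [Finite G] [IsSimpleGroup G]
    (hG : ¬ IsMulCommutative G) (h : Nat.card G = 268) : False := by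
  exact tp hG 2 67 2 1 (by norm_num) (by norm_num) (by rw [h]; norm_num)

theorem no_269 {G : Type*} [Group G] [Finite G] [IsSimpleGroup G]
    (hG : ¬ IsMulCommutative G) (h : Nat.card G = 269) : False := by
  exact tp hG 269 2 1 0 (by norm_num) (by norm_num) (by rw [h]; norm_num)

theorem no_270 {G : Type*} [Group G] [Finite G] [IsSimpleGroup G]
    (hG : ¬ IsMulCommutative G) (h : Nat.card G = 270) : False := by
  exact ev hG (by rw [h]; exact ⟨135, by norm_num⟩) (by rw [h]; omega)

theorem no_271 {G : Type*} [Group G] [Finite G] [IsSimpleGroup G]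
    (hG : ¬ IsMulCommutative G) (h : Nat.card G = 271) : False := by
  exact tp hG 271 2 1 0 (by norm_num) (by norm_num) (by rw [h]; norm_num)

theorem no_272 {G : Type*} [Group G] [Finite G] [IsSimpleGroup G]
    (hG : ¬ IsMulCommutative G) (h : Nat.card G = 272) : False := by
  exact tp hG 2 17 4 1 (by norm_num) (by norm_num) (by rw [h]; norm_num)

theorem no_273 {G : Type*} [Group G] [Finite G] [IsSimpleGroup G]
    (hG : ¬ IsMulCommutative G) (h : Nat.card G = 273) : False := by
  have : Fact (Nat.Prime 3) := ⟨by norm_num⟩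
  have hc : Nat.card G = 3 ^ 1 * 91 := by rw [h]; norm_num
  have hm : ¬ 3 ∣ 91 := by norm_num
  have hmem := card_sylow_mem_candidates hc hm
  have hcand : sylowCandidates 3 91 = [1, 7, 13, 91] := by decide
  rw [hcand] at hmem
  simp only [List.mem_cons, List.not_mem_nil, or_false] at hmem
  have hlt := one_lt_card_sylow_of_card hc hm (by norm_num) (by norm_num)
  rcases hmem with hd | hd | hd | hd
  · omega
  · exact fact_kill hG 7 hd (by norm_num) (by rw [h]; decide)
  · exact burn_kill hc hm (by norm_num) 13 hd (by decide)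
  · exact burn_kill hc hm (by norm_num) 91 hd (by decide)

theorem no_274 {G : Type*} [Group G] [Finite G] [IsSimpleGroup G]
    (hG : ¬ IsMulCommutative G) (h : Nat.card G = 274) : False := by
  exact tp hG 2 137 1 1 (by norm_num) (by norm_num) (by rw [h]; norm_num)

theorem no_275 {G : Type*} [Group G] [Finite G] [IsSimpleGroup G]
    (hG : ¬ IsMulCommutative G) (h : Nat.card G = 275) : False := by
  exact tp hG 5 11 2 1 (by norm_num) (by norm_num) (by rw [h]; norm_num)

theorem no_276 {G : Type*} [Group G] [Finite G] [IsSimpleGroup G]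
    (hG : ¬ IsMulCommutative G) (h : Nat.card G = 276) : False := by
  have : Fact (Nat.Prime 23) := ⟨by norm_num⟩
  have hc : Nat.card G = 23 ^ 1 * 12 := by rw [h]; norm_num
  have hm : ¬ 23 ∣ 12 := by norm_num
  have hmem := card_sylow_mem_candidates hc hm
  have hcand : sylowCandidates 23 12 = [1] := by decide
  rw [hcand] at hmem
  simp only [List.mem_cons, List.not_mem_nil, or_false] at hmem
  have hlt := one_lt_card_sylow_of_card hc hm (by norm_num) (by norm_num)
  have hd := hmem
  · omega

theorem no_277 {G : Type*} [Group G] [Finite G] [IsSimpleGroup G]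
    (hG : ¬ IsMulCommutative G) (h : Nat.card G = 277) : False := by
  exact tp hG 277 2 1 0 (by norm_num) (by norm_num) (by rw [h]; norm_num)

theorem no_278 {G : Type*} [Group G] [Finite G] [IsSimpleGroup G]
    (hG : ¬ IsMulCommutative G) (h : Nat.card G = 278) : False := by
  exact tp hG 2 139 1 1 (by norm_num) (by norm_num) (by rw [h]; norm_num)

theorem no_279 {G : Type*} [Group G] [Finite G] [IsSimpleGroup G]
    (hG : ¬ IsMulCommutative G) (h : Nat.card G = 279) : False := by
  exact tp hG 3 31 2 1 (by norm_num) (by norm_num) (by rw [h]; norm_num)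

theorem no_280 {G : Type*} [Group G] [Finite G] [IsSimpleGroup G]
    (hG : ¬ IsMulCommutative G) (h : Nat.card G = 280) : False := by
  have : Fact (Nat.Prime 5) := ⟨by norm_num⟩
  have hc : Nat.card G = 5 ^ 1 * 56 := by rw [h]; norm_num
  have hm : ¬ 5 ∣ 56 := by norm_num
  have hmem := card_sylow_mem_candidates hc hm
  have hcand : sylowCandidates 5 56 = [1, 56] := by decide
  rw [hcand] at hmem
  simp only [List.mem_cons, List.not_mem_nil, or_false] at hmem
  have hlt := one_lt_card_sylow_of_card hc hm (by norm_num) (by norm_num)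
  rcases hmem with hd | hd
  · omega
  · exact burn_kill hc hm (by norm_num) 56 hd (by decide)

theorem no_281 {G : Type*} [Group G] [Finite G] [IsSimpleGroup G]
    (hG : ¬ IsMulCommutative G) (h : Nat.card G = 281) : False := by
  exact tp hG 281 2 1 0 (by norm_num) (by norm_num) (by rw [h]; norm_num)

theorem no_282 {G : Type*} [Group G] [Finite G] [IsSimpleGroup G]
    (hG : ¬ IsMulCommutative G) (h : Nat.card G = 282) : False := by
  exact ev hG (by rw [h]; exact ⟨141, by norm_num⟩) (by rw [h]; omega)

theorem no_283 {G : Type*} [Group G] [Finite G] [IsSimpleGroup G]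
    (hG : ¬ IsMulCommutative G) (h : Nat.card G = 283) : False := by
  exact tp hG 283 2 1 0 (by norm_num) (by norm_num) (by rw [h]; norm_num)

theorem no_284 {G : Type*} [Group G] [Finite G] [IsSimpleGroup G]
    (hG : ¬ IsMulCommutative G) (h : Nat.card G = 284) : False := by
  exact tp hG 2 71 2 1 (by norm_num) (by norm_num) (by rw [h]; norm_num)

theorem no_285 {G : Type*} [Group G] [Finite G] [IsSimpleGroup G]
    (hG : ¬ IsMulCommutative G) (h : Nat.card G = 285) : False := by
  have : Fact (Nat.Prime 3) := ⟨by norm_num⟩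
  have hc : Nat.card G = 3 ^ 1 * 95 := by rw [h]; norm_num
  have hm : ¬ 3 ∣ 95 := by norm_num
  have hmem := card_sylow_mem_candidates hc hm
  have hcand : sylowCandidates 3 95 = [1, 19] := by decide
  rw [hcand] at hmem
  simp only [List.mem_cons, List.not_mem_nil, or_false] at hmem
  have hlt := one_lt_card_sylow_of_card hc hm (by norm_num) (by norm_num)
  rcases hmem with hd | hd
  · omega
  · exact burn_kill hc hm (by norm_num) 19 hd (by decide)

theorem no_286 {G : Type*} [Group G] [Finite G] [IsSimpleGroup G]
    (hG : ¬ IsMulCommutative G) (h : Nat.card G = 286) : False := by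
  exact ev hG (by rw [h]; exact ⟨143, by norm_num⟩) (by rw [h]; omega)

theorem no_287 {G : Type*} [Group G] [Finite G] [IsSimpleGroup G]
    (hG : ¬ IsMulCommutative G) (h : Nat.card G = 287) : False := by
  exact tp hG 7 41 1 1 (by norm_num) (by norm_num) (by rw [h]; norm_num)

theorem no_288 {G : Type*} [Group G] [Finite G] [IsSimpleGroup G]
    (hG : ¬ IsMulCommutative G) (h : Nat.card G = 288) : False := by
  exact tp hG 2 3 5 2 (by norm_num) (by norm_num) (by rw [h]; norm_num)

theorem no_289 {G : Type*} [Group G] [Finite G] [IsSimpleGroup G]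
    (hG : ¬ IsMulCommutative G) (h : Nat.card G = 289) : False := by
  exact tp hG 17 2 2 0 (by norm_num) (by norm_num) (by rw [h]; norm_num)

theorem no_290 {G : Type*} [Group G] [Finite G] [IsSimpleGroup G]
    (hG : ¬ IsMulCommutative G) (h : Nat.card G = 290) : False := by
  exact ev hG (by rw [h]; exact ⟨145, by norm_num⟩) (by rw [h]; omega)

theorem no_291 {G : Type*} [Group G] [Finite G] [IsSimpleGroup G]
    (hG : ¬ IsMulCommutative G) (h : Nat.card G = 291) : False := by
  exact tp hG 3 97 1 1 (by norm_num) (by norm_num) (by rw [h]; norm_num)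

theorem no_292 {G : Type*} [Group G] [Finite G] [IsSimpleGroup G]
    (hG : ¬ IsMulCommutative G) (h : Nat.card G = 292) : False := by
  exact tp hG 2 73 2 1 (by norm_num) (by norm_num) (by rw [h]; norm_num)

theorem no_293 {G : Type*} [Group G] [Finite G] [IsSimpleGroup G]
    (hG : ¬ IsMulCommutative G) (h : Nat.card G = 293) : False := by
  exact tp hG 293 2 1 0 (by norm_num) (by norm_num) (by rw [h]; norm_num)

theorem no_294 {G : Type*} [Group G] [Finite G] [IsSimpleGroup G]
    (hG : ¬ IsMulCommutative G) (h : Nat.card G = 294) : False := by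
  exact ev hG (by rw [h]; exact ⟨147, by norm_num⟩) (by rw [h]; omega)

theorem no_295 {G : Type*} [Group G] [Finite G] [IsSimpleGroup G]
    (hG : ¬ IsMulCommutative G) (h : Nat.card G = 295) : False := by
  exact tp hG 5 59 1 1 (by norm_num) (by norm_num) (by rw [h]; norm_num)

theorem no_296 {G : Type*} [Group G] [Finite G] [IsSimpleGroup G]
    (hG : ¬ IsMulCommutative G) (h : Nat.card G = 296) : False := by
  exact tp hG 2 37 3 1 (by norm_num) (by norm_num) (by rw [h]; norm_num)

theorem no_297 {G : Type*} [Group G] [Finite G] [IsSimpleGroup G]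
    (hG : ¬ IsMulCommutative G) (h : Nat.card G = 297) : False := by
  exact tp hG 3 11 3 1 (by norm_num) (by norm_num) (by rw [h]; norm_num)

theorem no_298 {G : Type*} [Group G] [Finite G] [IsSimpleGroup G]
    (hG : ¬ IsMulCommutative G) (h : Nat.card G = 298) : False := by
  exact tp hG 2 149 1 1 (by norm_num) (by norm_num) (by rw [h]; norm_num)

theorem no_299 {G : Type*} [Group G] [Finite G] [IsSimpleGroup G]
    (hG : ¬ IsMulCommutative G) (h : Nat.card G = 299) : False := by
  exact tp hG 13 23 1 1 (by norm_num) (by norm_num) (by rw [h]; norm_num)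

theorem no_300 {G : Type*} [Group G] [Finite G] [IsSimpleGroup G]
    (hG : ¬ IsMulCommutative G) (h : Nat.card G = 300) : False := by
  have : Fact (Nat.Prime 5) := ⟨by norm_num⟩
  have hc : Nat.card G = 5 ^ 2 * 12 := by rw [h]; norm_num
  have hm : ¬ 5 ∣ 12 := by norm_num
  have hmem := card_sylow_mem_candidates hc hm
  have hcand : sylowCandidates 5 12 = [1, 6] := by decide
  rw [hcand] at hmem
  simp only [List.mem_cons, List.not_mem_nil, or_false] at hmem
  have hlt := one_lt_card_sylow_of_card hc hm (by norm_num) (by norm_num)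
  rcases hmem with hd | hd
  · omega
  · exact fact_kill hG 6 hd (by norm_num) (by rw [h]; decide)

/-- the orders in [201, 300] not excluded by the engine -/
theorem chunk {G : Type*} [Group G] [Finite G] [IsSimpleGroup G]
    (hG : ¬ IsMulCommutative G) (n : ℕ) (hn : Nat.card G = n) (h1 : 201 ≤ n) (h2 : n ≤ 300) :
    False := by
  interval_cases n
  · exact (no_201 hG hn).elim
  · exact (no_202 hG hn).elim
  · exact (no_203 hG hn).elim
  · exact (no_204 hG hn).elim
  · exact (no_205 hG hn).elim
  · exact (no_206 hG hn).elim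
  · exact (no_207 hG hn).elim
  · exact (no_208 hG hn).elim
  · exact (no_209 hG hn).elim
  · exact (no_210 hG hn).elim
  · exact (no_211 hG hn).elim
  · exact (no_212 hG hn).elim
  · exact (no_213 hG hn).elim
  · exact (no_214 hG hn).elim
  · exact (no_215 hG hn).elim
  · exact (no_216 hG hn).elim
  · exact (no_217 hG hn).elim
  · exact (no_218 hG hn).elim
  · exact (no_219 hG hn).elim
  · exact (no_220 hG hn).elim
  · exact (no_221 hG hn).elim
  · exact (no_222 hG hn).elim
  · exact (no_223 hG hn).elim
  · exact (no_224 hG hn).elim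
  · exact (no_225 hG hn).elim
  · exact (no_226 hG hn).elim
  · exact (no_227 hG hn).elim
  · exact (no_228 hG hn).elim
  · exact (no_229 hG hn).elim
  · exact (no_230 hG hn).elim
  · exact (no_231 hG hn).elim
  · exact (no_232 hG hn).elim
  · exact (no_233 hG hn).elim
  · exact (no_234 hG hn).elim
  · exact (no_235 hG hn).elim
  · exact (no_236 hG hn).elim
  · exact (no_237 hG hn).elim
  · exact (no_238 hG hn).elim
  · exact (no_239 hG hn).elim
  · exact (no_240 hG hn).elim
  · exact (no_241 hG hn).elim
  · exact (no_242 hG hn).elim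
  · exact (no_243 hG hn).elim
  · exact (no_244 hG hn).elim
  · exact (no_245 hG hn).elim
  · exact (no_246 hG hn).elim
  · exact (no_247 hG hn).elim
  · exact (no_248 hG hn).elim
  · exact (no_249 hG hn).elim
  · exact (no_250 hG hn).elim
  · exact (no_251 hG hn).elim
  · exact (no_252 hG hn).elim
  · exact (no_253 hG hn).elim
  · exact (no_254 hG hn).elim
  · exact (no_255 hG hn).elim
  · exact (no_256 hG hn).elim
  · exact (no_257 hG hn).elim
  · exact (no_258 hG hn).elim
  · exact (no_259 hG hn).elim
  · exact (no_260 hG hn).elim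
  · exact (no_261 hG hn).elim
  · exact (no_262 hG hn).elim
  · exact (no_263 hG hn).elim
  · exact (no_264 hG hn).elim
  · exact (no_265 hG hn).elim
  · exact (no_266 hG hn).elim
  · exact (no_267 hG hn).elim
  · exact (no_268 hG hn).elim
  · exact (no_269 hG hn).elim
  · exact (no_270 hG hn).elim
  · exact (no_271 hG hn).elim
  · exact (no_272 hG hn).elim
  · exact (no_273 hG hn).elim
  · exact (no_274 hG hn).elim
  · exact (no_275 hG hn).elim
  · exact (no_276 hG hn).elim
  · exact (no_277 hG hn).elim
  · exact (no_278 hG hn).elim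
  · exact (no_279 hG hn).elim
  · exact (no_280 hG hn).elim
  · exact (no_281 hG hn).elim
  · exact (no_282 hG hn).elim
  · exact (no_283 hG hn).elim
  · exact (no_284 hG hn).elim
  · exact (no_285 hG hn).elim
  · exact (no_286 hG hn).elim
  · exact (no_287 hG hn).elim
  · exact (no_288 hG hn).elim
  · exact (no_289 hG hn).elim
  · exact (no_290 hG hn).elim
  · exact (no_291 hG hn).elim
  · exact (no_292 hG hn).elim
  · exact (no_293 hG hn).elim
  · exact (no_294 hG hn).elim
  · exact (no_295 hG hn).elim
  · exact (no_296 hG hn).elim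
  · exact (no_297 hG hn).elim
  · exact (no_298 hG hn).elim
  · exact (no_299 hG hn).elim
  · exact (no_300 hG hn).elim

end Cfsg.Agent.Lib.Helper75_SM_E1
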