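import Mathlib
import Cfsg.Agent.Lib.Helper75_SM_Base

/-!
# S0496 engine, generated file: no simple group of order N for the easy N in [301, 400] (helper75)
-/

set_option autoImplicit false

namespace Cfsg.Agent.Lib.Helper75_SM_E2

open Cfsg.Agent.Lib.Helper17_Sylow Cfsg.Agent.Lib.Helper75_SM_Base

theorem no_301 {G : Type*} [Group G] [Finite G] [IsSimpleGroup G]
    (hG : ¬ IsMulCommutative G) (h : Nat.card G = 301) : False := by
  exact tp hG 7 43 1 1 (by norm_num) (by norm_num) (by rw [h]; norm_num)

theorem no_302 {G : Type*} [Group G] [Finite G] [IsSimpleGroup G]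
    (hG : ¬ IsMulCommutative G) (h : Nat.card G = 302) : False := by
  exact tp hG 2 151 1 1 (by norm_num) (by norm_num) (by rw [h]; norm_num)

theorem no_303 {G : Type*} [Group G] [Finite G] [IsSimpleGroup G]
    (hG : ¬ IsMulCommutative G) (h : Nat.card G = 303) : False := by
  exact tp hG 3 101 1 1 (by norm_num) (by norm_num) (by rw [h]; norm_num)

theorem no_304 {G : Type*} [Group G] [Finite G] [IsSimpleGroup G]
    (hG : ¬ IsMulCommutative G) (h : Nat.card G = 304) : False := by
  exact tp hG 2 19 4 1 (by norm_num) (by norm_num) (by rw [h]; norm_num)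

theorem no_305 {G : Type*} [Group G] [Finite G] [IsSimpleGroup G]
    (hG : ¬ IsMulCommutative G) (h : Nat.card G = 305) : False := by
  exact tp hG 5 61 1 1 (by norm_num) (by norm_num) (by rw [h]; norm_num)

theorem no_306 {G : Type*} [Group G] [Finite G] [IsSimpleGroup G]
    (hG : ¬ IsMulCommutative G) (h : Nat.card G = 306) : False := by
  exact ev hG (by rw [h]; exact ⟨153, by norm_num⟩) (by rw [h]; omega)

theorem no_307 {G : Type*} [Group G] [Finite G] [IsSimpleGroup G]
    (hG : ¬ IsMulCommutative G) (h : Nat.card G = 307) : False := by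
  exact tp hG 307 2 1 0 (by norm_num) (by norm_num) (by rw [h]; norm_num)

theorem no_308 {G : Type*} [Group G] [Finite G] [IsSimpleGroup G]
    (hG : ¬ IsMulCommutative G) (h : Nat.card G = 308) : False := by
  exact ev hG (by rw [h]; exact ⟨154, by norm_num⟩) (by rw [h]; omega)

theorem no_309 {G : Type*} [Group G] [Finite G] [IsSimpleGroup G]
    (hG : ¬ IsMulCommutative G) (h : Nat.card G = 309) : False := by
  exact tp hG 3 103 1 1 (by norm_num) (by norm_num) (by rw [h]; norm_num)

theorem no_310 {G : Type*} [Group G] [Finite G] [IsSimpleGroup G]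
    (hG : ¬ IsMulCommutative G) (h : Nat.card G = 310) : False := by
  exact ev hG (by rw [h]; exact ⟨155, by norm_num⟩) (by rw [h]; omega)

theorem no_311 {G : Type*} [Group G] [Finite G] [IsSimpleGroup G]
    (hG : ¬ IsMulCommutative G) (h : Nat.card G = 311) : False := by
  exact tp hG 311 2 1 0 (by norm_num) (by norm_num) (by rw [h]; norm_num)

theorem no_312 {G : Type*} [Group G] [Finite G] [IsSimpleGroup G]
    (hG : ¬ IsMulCommutative G) (h : Nat.card G = 312) : False := by
  have : Fact (Nat.Prime 13) := ⟨by norm_num⟩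
  have hc : Nat.card G = 13 ^ 1 * 24 := by rw [h]; norm_num
  have hm : ¬ 13 ∣ 24 := by norm_num
  have hmem := card_sylow_mem_candidates hc hm
  have hcand : sylowCandidates 13 24 = [1] := by decide
  rw [hcand] at hmem
  simp only [List.mem_cons, List.not_mem_nil, or_false] at hmem
  have hlt := one_lt_card_sylow_of_card hc hm (by norm_num) (by norm_num)
  have hd := hmem
  · omega

theorem no_313 {G : Type*} [Group G] [Finite G] [IsSimpleGroup G]
    (hG : ¬ IsMulCommutative G) (h : Nat.card G = 313) : False := by
  exact tp hG 313 2 1 0 (by norm_num) (by norm_num) (by rw [h]; norm_num)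

theorem no_314 {G : Type*} [Group G] [Finite G] [IsSimpleGroup G]
    (hG : ¬ IsMulCommutative G) (h : Nat.card G = 314) : False := by
  exact tp hG 2 157 1 1 (by norm_num) (by norm_num) (by rw [h]; norm_num)

theorem no_315 {G : Type*} [Group G] [Finite G] [IsSimpleGroup G]
    (hG : ¬ IsMulCommutative G) (h : Nat.card G = 315) : False := by
  have : Fact (Nat.Prime 5) := ⟨by norm_num⟩
  have hc : Nat.card G = 5 ^ 1 * 63 := by rw [h]; norm_num
  have hm : ¬ 5 ∣ 63 := by norm_num
  have hmem := card_sylow_mem_candidates hc hm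
  have hcand : sylowCandidates 5 63 = [1, 21] := by decide
  rw [hcand] at hmem
  simp only [List.mem_cons, List.not_mem_nil, or_false] at hmem
  have hlt := one_lt_card_sylow_of_card hc hm (by norm_num) (by norm_num)
  rcases hmem with hd | hd
  · omega
  · exact burn_kill hc hm (by norm_num) 21 hd (by decide)

theorem no_316 {G : Type*} [Group G] [Finite G] [IsSimpleGroup G]
    (hG : ¬ IsMulCommutative G) (h : Nat.card G = 316) : False := by
  exact tp hG 2 79 2 1 (by norm_num) (by norm_num) (by rw [h]; norm_num)

theorem no_317 {G : Type*} [Group G] [Finite G] [IsSimpleGroup G]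
    (hG : ¬ IsMulCommutative G) (h : Nat.card G = 317) : False := by
  exact tp hG 317 2 1 0 (by norm_num) (by norm_num) (by rw [h]; norm_num)

theorem no_318 {G : Type*} [Group G] [Finite G] [IsSimpleGroup G]
    (hG : ¬ IsMulCommutative G) (h : Nat.card G = 318) : False := by
  exact ev hG (by rw [h]; exact ⟨159, by norm_num⟩) (by rw [h]; omega)

theorem no_319 {G : Type*} [Group G] [Finite G] [IsSimpleGroup G]
    (hG : ¬ IsMulCommutative G) (h : Nat.card G = 319) : False := by
  exact tp hG 11 29 1 1 (by norm_num) (by norm_num) (by rw [h]; norm_num)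

theorem no_320 {G : Type*} [Group G] [Finite G] [IsSimpleGroup G]
    (hG : ¬ IsMulCommutative G) (h : Nat.card G = 320) : False := by
  exact tp hG 2 5 6 1 (by norm_num) (by norm_num) (by rw [h]; norm_num)

theorem no_321 {G : Type*} [Group G] [Finite G] [IsSimpleGroup G]
    (hG : ¬ IsMulCommutative G) (h : Nat.card G = 321) : False := by
  exact tp hG 3 107 1 1 (by norm_num) (by norm_num) (by rw [h]; norm_num)

theorem no_322 {G : Type*} [Group G] [Finite G] [IsSimpleGroup G]
    (hG : ¬ IsMulCommutative G) (h : Nat.card G = 322) : False := by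
  exact ev hG (by rw [h]; exact ⟨161, by norm_num⟩) (by rw [h]; omega)

theorem no_323 {G : Type*} [Group G] [Finite G] [IsSimpleGroup G]
    (hG : ¬ IsMulCommutative G) (h : Nat.card G = 323) : False := by
  exact tp hG 17 19 1 1 (by norm_num) (by norm_num) (by rw [h]; norm_num)

theorem no_324 {G : Type*} [Group G] [Finite G] [IsSimpleGroup G]
    (hG : ¬ IsMulCommutative G) (h : Nat.card G = 324) : False := by
  exact tp hG 2 3 2 4 (by norm_num) (by norm_num) (by rw [h]; norm_num)

theorem no_325 {G : Type*} [Group G] [Finite G] [IsSimpleGroup G]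
    (hG : ¬ IsMulCommutative G) (h : Nat.card G = 325) : False := by
  exact tp hG 5 13 2 1 (by norm_num) (by norm_num) (by rw [h]; norm_num)

theorem no_326 {G : Type*} [Group G] [Finite G] [IsSimpleGroup G]
    (hG : ¬ IsMulCommutative G) (h : Nat.card G = 326) : False := by
  exact tp hG 2 163 1 1 (by norm_num) (by norm_num) (by rw [h]; norm_num)

theorem no_327 {G : Type*} [Group G] [Finite G] [IsSimpleGroup G]
    (hG : ¬ IsMulCommutative G) (h : Nat.card G = 327) : False := by
  exact tp hG 3 109 1 1 (by norm_num) (by norm_num) (by rw [h]; norm_num)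

theorem no_328 {G : Type*} [Group G] [Finite G] [IsSimpleGroup G]
    (hG : ¬ IsMulCommutative G) (h : Nat.card G = 328) : False := by
  exact tp hG 2 41 3 1 (by norm_num) (by norm_num) (by rw [h]; norm_num)

theorem no_329 {G : Type*} [Group G] [Finite G] [IsSimpleGroup G]
    (hG : ¬ IsMulCommutative G) (h : Nat.card G = 329) : False := by
  exact tp hG 7 47 1 1 (by norm_num) (by norm_num) (by rw [h]; norm_num)

theorem no_330 {G : Type*} [Group G] [Finite G] [IsSimpleGroup G]
    (hG : ¬ IsMulCommutative G) (h : Nat.card G = 330) : False := by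
  exact ev hG (by rw [h]; exact ⟨165, by norm_num⟩) (by rw [h]; omega)

theorem no_331 {G : Type*} [Group G] [Finite G] [IsSimpleGroup G]
    (hG : ¬ IsMulCommutative G) (h : Nat.card G = 331) : False := by
  exact tp hG 331 2 1 0 (by norm_num) (by norm_num) (by rw [h]; norm_num)

theorem no_332 {G : Type*} [Group G] [Finite G] [IsSimpleGroup G]
    (hG : ¬ IsMulCommutative G) (h : Nat.card G = 332) : False := by
  exact tp hG 2 83 2 1 (by norm_num) (by norm_num) (by rw [h]; norm_num)

theorem no_333 {G : Type*} [Group G] [Finite G] [IsSimpleGroup G]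
    (hG : ¬ IsMulCommutative G) (h : Nat.card G = 333) : False := by
  exact tp hG 3 37 2 1 (by norm_num) (by norm_num) (by rw [h]; norm_num)

theorem no_334 {G : Type*} [Group G] [Finite G] [IsSimpleGroup G]
    (hG : ¬ IsMulCommutative G) (h : Nat.card G = 334) : False := by
  exact tp hG 2 167 1 1 (by norm_num) (by norm_num) (by rw [h]; norm_num)

theorem no_335 {G : Type*} [Group G] [Finite G] [IsSimpleGroup G]
    (hG : ¬ IsMulCommutative G) (h : Nat.card G = 335) : False := by
  exact tp hG 5 67 1 1 (by norm_num) (by norm_num) (by rw [h]; norm_num)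

theorem no_336 {G : Type*} [Group G] [Finite G] [IsSimpleGroup G]
    (hG : ¬ IsMulCommutative G) (h : Nat.card G = 336) : False := by
  have : Fact (Nat.Prime 7) := ⟨by norm_num⟩
  have hc : Nat.card G = 7 ^ 1 * 48 := by rw [h]; norm_num
  have hm : ¬ 7 ∣ 48 := by norm_num
  have hmem := card_sylow_mem_candidates hc hm
  have hcand : sylowCandidates 7 48 = [1, 8] := by decide
  rw [hcand] at hmem
  simp only [List.mem_cons, List.not_mem_nil, or_false] at hmem
  have hlt := one_lt_card_sylow_of_card hc hm (by norm_num) (by norm_num)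
  rcases hmem with hd | hd
  · omega
  · exact perm_kill hG (by norm_num) hc hm hd 42 (by omega) (by decide)

theorem no_337 {G : Type*} [Group G] [Finite G] [IsSimpleGroup G]
    (hG : ¬ IsMulCommutative G) (h : Nat.card G = 337) : False := by
  exact tp hG 337 2 1 0 (by norm_num) (by norm_num) (by rw [h]; norm_num)

theorem no_338 {G : Type*} [Group G] [Finite G] [IsSimpleGroup G]
    (hG : ¬ IsMulCommutative G) (h : Nat.card G = 338) : False := by
  exact tp hG 2 13 1 2 (by norm_num) (by norm_num) (by rw [h]; norm_num)

theorem no_339 {G : Type*} [Group G] [Finite G] [IsSimpleGroup G]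
    (hG : ¬ IsMulCommutative G) (h : Nat.card G = 339) : False := by
  exact tp hG 3 113 1 1 (by norm_num) (by norm_num) (by rw [h]; norm_num)

theorem no_340 {G : Type*} [Group G] [Finite G] [IsSimpleGroup G]
    (hG : ¬ IsMulCommutative G) (h : Nat.card G = 340) : False := by
  exact ev hG (by rw [h]; exact ⟨170, by norm_num⟩) (by rw [h]; omega)

theorem no_341 {G : Type*} [Group G] [Finite G] [IsSimpleGroup G]
    (hG : ¬ IsMulCommutative G) (h : Nat.card G = 341) : False := by
  exact tp hG 11 31 1 1 (by norm_num) (by norm_num) (by rw [h]; norm_num)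

theorem no_342 {G : Type*} [Group G] [Finite G] [IsSimpleGroup G]
    (hG : ¬ IsMulCommutative G) (h : Nat.card G = 342) : False := by
  exact ev hG (by rw [h]; exact ⟨171, by norm_num⟩) (by rw [h]; omega)

theorem no_343 {G : Type*} [Group G] [Finite G] [IsSimpleGroup G]
    (hG : ¬ IsMulCommutative G) (h : Nat.card G = 343) : False := by
  exact tp hG 7 2 3 0 (by norm_num) (by norm_num) (by rw [h]; norm_num)

theorem no_344 {G : Type*} [Group G] [Finite G] [IsSimpleGroup G]
    (hG : ¬ IsMulCommutative G) (h : Nat.card G = 344) : False := by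
  exact tp hG 2 43 3 1 (by norm_num) (by norm_num) (by rw [h]; norm_num)

theorem no_345 {G : Type*} [Group G] [Finite G] [IsSimpleGroup G]
    (hG : ¬ IsMulCommutative G) (h : Nat.card G = 345) : False := by
  have : Fact (Nat.Prime 3) := ⟨by norm_num⟩
  have hc : Nat.card G = 3 ^ 1 * 115 := by rw [h]; norm_num
  have hm : ¬ 3 ∣ 115 := by norm_num
  have hmem := card_sylow_mem_candidates hc hm
  have hcand : sylowCandidates 3 115 = [1, 115] := by decide
  rw [hcand] at hmem
  simp only [List.mem_cons, List.not_mem_nil, or_false] at hmem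
  have hlt := one_lt_card_sylow_of_card hc hm (by norm_num) (by norm_num)
  rcases hmem with hd | hd
  · omega
  · exact burn_kill hc hm (by norm_num) 115 hd (by decide)

theorem no_346 {G : Type*} [Group G] [Finite G] [IsSimpleGroup G]
    (hG : ¬ IsMulCommutative G) (h : Nat.card G = 346) : False := by
  exact tp hG 2 173 1 1 (by norm_num) (by norm_num) (by rw [h]; norm_num)

theorem no_347 {G : Type*} [Group G] [Finite G] [IsSimpleGroup G]
    (hG : ¬ IsMulCommutative G) (h : Nat.card G = 347) : False := by
  exact tp hG 347 2 1 0 (by norm_num) (by norm_num) (by rw [h]; norm_num)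

theorem no_348 {G : Type*} [Group G] [Finite G] [IsSimpleGroup G]
    (hG : ¬ IsMulCommutative G) (h : Nat.card G = 348) : False := by
  have : Fact (Nat.Prime 29) := ⟨by norm_num⟩
  have hc : Nat.card G = 29 ^ 1 * 12 := by rw [h]; norm_num
  have hm : ¬ 29 ∣ 12 := by norm_num
  have hmem := card_sylow_mem_candidates hc hm
  have hcand : sylowCandidates 29 12 = [1] := by decide
  rw [hcand] at hmem
  simp only [List.mem_cons, List.not_mem_nil, or_false] at hmem
  have hlt := one_lt_card_sylow_of_card hc hm (by norm_num) (by norm_num)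
  have hd := hmem
  · omega

theorem no_349 {G : Type*} [Group G] [Finite G] [IsSimpleGroup G]
    (hG : ¬ IsMulCommutative G) (h : Nat.card G = 349) : False := by
  exact tp hG 349 2 1 0 (by norm_num) (by norm_num) (by rw [h]; norm_num)

theorem no_350 {G : Type*} [Group G] [Finite G] [IsSimpleGroup G]
    (hG : ¬ IsMulCommutative G) (h : Nat.card G = 350) : False := by
  exact ev hG (by rw [h]; exact ⟨175, by norm_num⟩) (by rw [h]; omega)

theorem no_351 {G : Type*} [Group G] [Finite G] [IsSimpleGroup G]
    (hG : ¬ IsMulCommutative G) (h : Nat.card G = 351) : False := by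
  exact tp hG 3 13 3 1 (by norm_num) (by norm_num) (by rw [h]; norm_num)

theorem no_352 {G : Type*} [Group G] [Finite G] [IsSimpleGroup G]
    (hG : ¬ IsMulCommutative G) (h : Nat.card G = 352) : False := by
  exact tp hG 2 11 5 1 (by norm_num) (by norm_num) (by rw [h]; norm_num)

theorem no_353 {G : Type*} [Group G] [Finite G] [IsSimpleGroup G]
    (hG : ¬ IsMulCommutative G) (h : Nat.card G = 353) : False := by
  exact tp hG 353 2 1 0 (by norm_num) (by norm_num) (by rw [h]; norm_num)

theorem no_354 {G : Type*} [Group G] [Finite G] [IsSimpleGroup G]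
    (hG : ¬ IsMulCommutative G) (h : Nat.card G = 354) : False := by
  exact ev hG (by rw [h]; exact ⟨177, by norm_num⟩) (by rw [h]; omega)

theorem no_355 {G : Type*} [Group G] [Finite G] [IsSimpleGroup G]
    (hG : ¬ IsMulCommutative G) (h : Nat.card G = 355) : False := by
  exact tp hG 5 71 1 1 (by norm_num) (by norm_num) (by rw [h]; norm_num)

theorem no_356 {G : Type*} [Group G] [Finite G] [IsSimpleGroup G]
    (hG : ¬ IsMulCommutative G) (h : Nat.card G = 356) : False := by
  exact tp hG 2 89 2 1 (by norm_num) (by norm_num) (by rw [h]; norm_num)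

theorem no_357 {G : Type*} [Group G] [Finite G] [IsSimpleGroup G]
    (hG : ¬ IsMulCommutative G) (h : Nat.card G = 357) : False := by
  have : Fact (Nat.Prime 3) := ⟨by norm_num⟩
  have hc : Nat.card G = 3 ^ 1 * 119 := by rw [h]; norm_num
  have hm : ¬ 3 ∣ 119 := by norm_num
  have hmem := card_sylow_mem_candidates hc hm
  have hcand : sylowCandidates 3 119 = [1, 7] := by decide
  rw [hcand] at hmem
  simp only [List.mem_cons, List.not_mem_nil, or_false] at hmem
  have hlt := one_lt_card_sylow_of_card hc hm (by norm_num) (by norm_num)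
  rcases hmem with hd | hd
  · omega
  · exact fact_kill hG 7 hd (by norm_num) (by rw [h]; decide)

theorem no_358 {G : Type*} [Group G] [Finite G] [IsSimpleGroup G]
    (hG : ¬ IsMulCommutative G) (h : Nat.card G = 358) : False := by
  exact tp hG 2 179 1 1 (by norm_num) (by norm_num) (by rw [h]; norm_num)

theorem no_359 {G : Type*} [Group G] [Finite G] [IsSimpleGroup G]
    (hG : ¬ IsMulCommutative G) (h : Nat.card G = 359) : False := by
  exact tp hG 359 2 1 0 (by norm_num) (by norm_num) (by rw [h]; norm_num)

theorem no_361 {G : Type*} [Group G] [Finite G] [IsSimpleGroup G]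
    (hG : ¬ IsMulCommutative G) (h : Nat.card G = 361) : False := by
  exact tp hG 19 2 2 0 (by norm_num) (by norm_num) (by rw [h]; norm_num)

theorem no_362 {G : Type*} [Group G] [Finite G] [IsSimpleGroup G]
    (hG : ¬ IsMulCommutative G) (h : Nat.card G = 362) : False := by
  exact tp hG 2 181 1 1 (by norm_num) (by norm_num) (by rw [h]; norm_num)

theorem no_363 {G : Type*} [Group G] [Finite G] [IsSimpleGroup G]
    (hG : ¬ IsMulCommutative G) (h : Nat.card G = 363) : False := by
  exact tp hG 3 11 1 2 (by norm_num) (by norm_num) (by rw [h]; norm_num)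

theorem no_364 {G : Type*} [Group G] [Finite G] [IsSimpleGroup G]
    (hG : ¬ IsMulCommutative G) (h : Nat.card G = 364) : False := by
  exact ev hG (by rw [h]; exact ⟨182, by norm_num⟩) (by rw [h]; omega)

theorem no_365 {G : Type*} [Group G] [Finite G] [IsSimpleGroup G]
    (hG : ¬ IsMulCommutative G) (h : Nat.card G = 365) : False := by
  exact tp hG 5 73 1 1 (by norm_num) (by norm_num) (by rw [h]; norm_num)

theorem no_366 {G : Type*} [Group G] [Finite G] [IsSimpleGroup G]
    (hG : ¬ IsMulCommutative G) (h : Nat.card G = 366) : False := by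
  exact ev hG (by rw [h]; exact ⟨183, by norm_num⟩) (by rw [h]; omega)

theorem no_367 {G : Type*} [Group G] [Finite G] [IsSimpleGroup G]
    (hG : ¬ IsMulCommutative G) (h : Nat.card G = 367) : False := by
  exact tp hG 367 2 1 0 (by norm_num) (by norm_num) (by rw [h]; norm_num)

theorem no_368 {G : Type*} [Group G] [Finite G] [IsSimpleGroup G]
    (hG : ¬ IsMulCommutative G) (h : Nat.card G = 368) : False := by
  exact tp hG 2 23 4 1 (by norm_num) (by norm_num) (by rw [h]; norm_num)

theorem no_369 {G : Type*} [Group G] [Finite G] [IsSimpleGroup G]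
    (hG : ¬ IsMulCommutative G) (h : Nat.card G = 369) : False := by
  exact tp hG 3 41 2 1 (by norm_num) (by norm_num) (by rw [h]; norm_num)

theorem no_370 {G : Type*} [Group G] [Finite G] [IsSimpleGroup G]
    (hG : ¬ IsMulCommutative G) (h : Nat.card G = 370) : False := by
  exact ev hG (by rw [h]; exact ⟨185, by norm_num⟩) (by rw [h]; omega)

theorem no_371 {G : Type*} [Group G] [Finite G] [IsSimpleGroup G]
    (hG : ¬ IsMulCommutative G) (h : Nat.card G = 371) : False := by
  exact tp hG 7 53 1 1 (by norm_num) (by norm_num) (by rw [h]; norm_num)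

theorem no_372 {G : Type*} [Group G] [Finite G] [IsSimpleGroup G]
    (hG : ¬ IsMulCommutative G) (h : Nat.card G = 372) : False := by
  have : Fact (Nat.Prime 31) := ⟨by norm_num⟩
  have hc : Nat.card G = 31 ^ 1 * 12 := by rw [h]; norm_num
  have hm : ¬ 31 ∣ 12 := by norm_num
  have hmem := card_sylow_mem_candidates hc hm
  have hcand : sylowCandidates 31 12 = [1] := by decide
  rw [hcand] at hmem
  simp only [List.mem_cons, List.not_mem_nil, or_false] at hmem
  have hlt := one_lt_card_sylow_of_card hc hm (by norm_num) (by norm_num)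
  have hd := hmem
  · omega

theorem no_373 {G : Type*} [Group G] [Finite G] [IsSimpleGroup G]
    (hG : ¬ IsMulCommutative G) (h : Nat.card G = 373) : False := by
  exact tp hG 373 2 1 0 (by norm_num) (by norm_num) (by rw [h]; norm_num)

theorem no_374 {G : Type*} [Group G] [Finite G] [IsSimpleGroup G]
    (hG : ¬ IsMulCommutative G) (h : Nat.card G = 374) : False := by
  exact ev hG (by rw [h]; exact ⟨187, by norm_num⟩) (by rw [h]; omega)

theorem no_375 {G : Type*} [Group G] [Finite G] [IsSimpleGroup G]
    (hG : ¬ IsMulCommutative G) (h : Nat.card G = 375) : False := by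
  exact tp hG 3 5 1 3 (by norm_num) (by norm_num) (by rw [h]; norm_num)

theorem no_376 {G : Type*} [Group G] [Finite G] [IsSimpleGroup G]
    (hG : ¬ IsMulCommutative G) (h : Nat.card G = 376) : False := by
  exact tp hG 2 47 3 1 (by norm_num) (by norm_num) (by rw [h]; norm_num)

theorem no_377 {G : Type*} [Group G] [Finite G] [IsSimpleGroup G]
    (hG : ¬ IsMulCommutative G) (h : Nat.card G = 377) : False := by
  exact tp hG 13 29 1 1 (by norm_num) (by norm_num) (by rw [h]; norm_num)

theorem no_378 {G : Type*} [Group G] [Finite G] [IsSimpleGroup G]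
    (hG : ¬ IsMulCommutative G) (h : Nat.card G = 378) : False := by
  exact ev hG (by rw [h]; exact ⟨189, by norm_num⟩) (by rw [h]; omega)

theorem no_379 {G : Type*} [Group G] [Finite G] [IsSimpleGroup G]
    (hG : ¬ IsMulCommutative G) (h : Nat.card G = 379) : False := by
  exact tp hG 379 2 1 0 (by norm_num) (by norm_num) (by rw [h]; norm_num)

theorem no_380 {G : Type*} [Group G] [Finite G] [IsSimpleGroup G]
    (hG : ¬ IsMulCommutative G) (h : Nat.card G = 380) : False := by
  exact ev hG (by rw [h]; exact ⟨190, by norm_num⟩) (by rw [h]; omega)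

theorem no_381 {G : Type*} [Group G] [Finite G] [IsSimpleGroup G]
    (hG : ¬ IsMulCommutative G) (h : Nat.card G = 381) : False := by
  exact tp hG 3 127 1 1 (by norm_num) (by norm_num) (by rw [h]; norm_num)

theorem no_382 {G : Type*} [Group G] [Finite G] [IsSimpleGroup G]
    (hG : ¬ IsMulCommutative G) (h : Nat.card G = 382) : False := by
  exact tp hG 2 191 1 1 (by norm_num) (by norm_num) (by rw [h]; norm_num)

theorem no_383 {G : Type*} [Group G] [Finite G] [IsSimpleGroup G]
    (hG : ¬ IsMulCommutative G) (h : Nat.card G = 383) : False := by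
  exact tp hG 383 2 1 0 (by norm_num) (by norm_num) (by rw [h]; norm_num)

theorem no_384 {G : Type*} [Group G] [Finite G] [IsSimpleGroup G]
    (hG : ¬ IsMulCommutative G) (h : Nat.card G = 384) : False := by
  exact tp hG 2 3 7 1 (by norm_num) (by norm_num) (by rw [h]; norm_num)

theorem no_385 {G : Type*} [Group G] [Finite G] [IsSimpleGroup G]
    (hG : ¬ IsMulCommutative G) (h : Nat.card G = 385) : False := by
  have : Fact (Nat.Prime 5) := ⟨by norm_num⟩
  have hc : Nat.card G = 5 ^ 1 * 77 := by rw [h]; norm_num
  have hm : ¬ 5 ∣ 77 := by norm_num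
  have hmem := card_sylow_mem_candidates hc hm
  have hcand : sylowCandidates 5 77 = [1, 11] := by decide
  rw [hcand] at hmem
  simp only [List.mem_cons, List.not_mem_nil, or_false] at hmem
  have hlt := one_lt_card_sylow_of_card hc hm (by norm_num) (by norm_num)
  rcases hmem with hd | hd
  · omega
  · exact burn_kill hc hm (by norm_num) 11 hd (by decide)

theorem no_386 {G : Type*} [Group G] [Finite G] [IsSimpleGroup G]
    (hG : ¬ IsMulCommutative G) (h : Nat.card G = 386) : False := by
  exact tp hG 2 193 1 1 (by norm_num) (by norm_num) (by rw [h]; norm_num)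

theorem no_387 {G : Type*} [Group G] [Finite G] [IsSimpleGroup G]
    (hG : ¬ IsMulCommutative G) (h : Nat.card G = 387) : False := by
  exact tp hG 3 43 2 1 (by norm_num) (by norm_num) (by rw [h]; norm_num)

theorem no_388 {G : Type*} [Group G] [Finite G] [IsSimpleGroup G]
    (hG : ¬ IsMulCommutative G) (h : Nat.card G = 388) : False := by
  exact tp hG 2 97 2 1 (by norm_num) (by norm_num) (by rw [h]; norm_num)

theorem no_389 {G : Type*} [Group G] [Finite G] [IsSimpleGroup G]
    (hG : ¬ IsMulCommutative G) (h : Nat.card G = 389) : False := by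
  exact tp hG 389 2 1 0 (by norm_num) (by norm_num) (by rw [h]; norm_num)

theorem no_390 {G : Type*} [Group G] [Finite G] [IsSimpleGroup G]
    (hG : ¬ IsMulCommutative G) (h : Nat.card G = 390) : False := by
  exact ev hG (by rw [h]; exact ⟨195, by norm_num⟩) (by rw [h]; omega)

theorem no_391 {G : Type*} [Group G] [Finite G] [IsSimpleGroup G]
    (hG : ¬ IsMulCommutative G) (h : Nat.card G = 391) : False := by
  exact tp hG 17 23 1 1 (by norm_num) (by norm_num) (by rw [h]; norm_num)

theorem no_392 {G : Type*} [Group G] [Finite G] [IsSimpleGroup G]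
    (hG : ¬ IsMulCommutative G) (h : Nat.card G = 392) : False := by
  exact tp hG 2 7 3 2 (by norm_num) (by norm_num) (by rw [h]; norm_num)

theorem no_393 {G : Type*} [Group G] [Finite G] [IsSimpleGroup G]
    (hG : ¬ IsMulCommutative G) (h : Nat.card G = 393) : False := by
  exact tp hG 3 131 1 1 (by norm_num) (by norm_num) (by rw [h]; norm_num)

theorem no_394 {G : Type*} [Group G] [Finite G] [IsSimpleGroup G]
    (hG : ¬ IsMulCommutative G) (h : Nat.card G = 394) : False := by
  exact tp hG 2 197 1 1 (by norm_num) (by norm_num) (by rw [h]; norm_num)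

theorem no_395 {G : Type*} [Group G] [Finite G] [IsSimpleGroup G]
    (hG : ¬ IsMulCommutative G) (h : Nat.card G = 395) : False := by
  exact tp hG 5 79 1 1 (by norm_num) (by norm_num) (by rw [h]; norm_num)

theorem no_396 {G : Type*} [Group G] [Finite G] [IsSimpleGroup G]
    (hG : ¬ IsMulCommutative G) (h : Nat.card G = 396) : False := by
  have : Fact (Nat.Prime 11) := ⟨by norm_num⟩
  have hc : Nat.card G = 11 ^ 1 * 36 := by rw [h]; norm_num
  have hm : ¬ 11 ∣ 36 := by norm_num
  have hmem := card_sylow_mem_candidates hc hm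
  have hcand : sylowCandidates 11 36 = [1, 12] := by decide
  rw [hcand] at hmem
  simp only [List.mem_cons, List.not_mem_nil, or_false] at hmem
  have hlt := one_lt_card_sylow_of_card hc hm (by norm_num) (by norm_num)
  rcases hmem with hd | hd
  · omega
  · exact burn_kill hc hm (by norm_num) 12 hd (by decide)

theorem no_397 {G : Type*} [Group G] [Finite G] [IsSimpleGroup G]
    (hG : ¬ IsMulCommutative G) (h : Nat.card G = 397) : False := by
  exact tp hG 397 2 1 0 (by norm_num) (by norm_num) (by rw [h]; norm_num)

theorem no_398 {G : Type*} [Group G] [Finite G] [IsSimpleGroup G]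
    (hG : ¬ IsMulCommutative G) (h : Nat.card G = 398) : False := by
  exact tp hG 2 199 1 1 (by norm_num) (by norm_num) (by rw [h]; norm_num)

theorem no_399 {G : Type*} [Group G] [Finite G] [IsSimpleGroup G]
    (hG : ¬ IsMulCommutative G) (h : Nat.card G = 399) : False := by
  have : Fact (Nat.Prime 3) := ⟨by norm_num⟩
  have hc : Nat.card G = 3 ^ 1 * 133 := by rw [h]; norm_num
  have hm : ¬ 3 ∣ 133 := by norm_num
  have hmem := card_sylow_mem_candidates hc hm
  have hcand : sylowCandidates 3 133 = [1, 7, 19, 133] := by decide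
  rw [hcand] at hmem
  simp only [List.mem_cons, List.not_mem_nil, or_false] at hmem
  have hlt := one_lt_card_sylow_of_card hc hm (by norm_num) (by norm_num)
  rcases hmem with hd | hd | hd | hd
  · omega
  · exact fact_kill hG 7 hd (by norm_num) (by rw [h]; decide)
  · exact burn_kill hc hm (by norm_num) 19 hd (by decide)
  · exact burn_kill hc hm (by norm_num) 133 hd (by decide)

theorem no_400 {G : Type*} [Group G] [Finite G] [IsSimpleGroup G]
    (hG : ¬ IsMulCommutative G) (h : Nat.card G = 400) : False := by
  exact tp hG 2 5 4 2 (by norm_num) (by norm_num) (by rw [h]; norm_num)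

/-- the orders in [301, 400] not excluded by the engine -/
theorem chunk {G : Type*} [Group G] [Finite G] [IsSimpleGroup G]
    (hG : ¬ IsMulCommutative G) (n : ℕ) (hn : Nat.card G = n) (h1 : 301 ≤ n) (h2 : n ≤ 400) :
    n = 360 := by
  interval_cases n
  · exact (no_301 hG hn).elim
  · exact (no_302 hG hn).elim
  · exact (no_303 hG hn).elim
  · exact (no_304 hG hn).elim
  · exact (no_305 hG hn).elim
  · exact (no_306 hG hn).elim
  · exact (no_307 hG hn).elim
  · exact (no_308 hG hn).elim
  · exact (no_309 hG hn).elim
  · exact (no_310 hG hn).elim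
  · exact (no_311 hG hn).elim
  · exact (no_312 hG hn).elim
  · exact (no_313 hG hn).elim
  · exact (no_314 hG hn).elim
  · exact (no_315 hG hn).elim
  · exact (no_316 hG hn).elim
  · exact (no_317 hG hn).elim
  · exact (no_318 hG hn).elim
  · exact (no_319 hG hn).elim
  · exact (no_320 hG hn).elim
  · exact (no_321 hG hn).elim
  · exact (no_322 hG hn).elim
  · exact (no_323 hG hn).elim
  · exact (no_324 hG hn).elim
  · exact (no_325 hG hn).elim
  · exact (no_326 hG hn).elim
  · exact (no_327 hG hn).elim
  · exact (no_328 hG hn).elim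
  · exact (no_329 hG hn).elim
  · exact (no_330 hG hn).elim
  · exact (no_331 hG hn).elim
  · exact (no_332 hG hn).elim
  · exact (no_333 hG hn).elim
  · exact (no_334 hG hn).elim
  · exact (no_335 hG hn).elim
  · exact (no_336 hG hn).elim
  · exact (no_337 hG hn).elim
  · exact (no_338 hG hn).elim
  · exact (no_339 hG hn).elim
  · exact (no_340 hG hn).elim
  · exact (no_341 hG hn).elim
  · exact (no_342 hG hn).elim
  · exact (no_343 hG hn).elim
  · exact (no_344 hG hn).elim
  · exact (no_345 hG hn).elim
  · exact (no_346 hG hn).elim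
  · exact (no_347 hG hn).elim
  · exact (no_348 hG hn).elim
  · exact (no_349 hG hn).elim
  · exact (no_350 hG hn).elim
  · exact (no_351 hG hn).elim
  · exact (no_352 hG hn).elim
  · exact (no_353 hG hn).elim
  · exact (no_354 hG hn).elim
  · exact (no_355 hG hn).elim
  · exact (no_356 hG hn).elim
  · exact (no_357 hG hn).elim
  · exact (no_358 hG hn).elim
  · exact (no_359 hG hn).elim
  · simp
  · exact (no_361 hG hn).elim
  · exact (no_362 hG hn).elim
  · exact (no_363 hG hn).elim
  · exact (no_364 hG hn).elim
  · exact (no_365 hG hn).elim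
  · exact (no_366 hG hn).elim
  · exact (no_367 hG hn).elim
  · exact (no_368 hG hn).elim
  · exact (no_369 hG hn).elim
  · exact (no_370 hG hn).elim
  · exact (no_371 hG hn).elim
  · exact (no_372 hG hn).elim
  · exact (no_373 hG hn).elim
  · exact (no_374 hG hn).elim
  · exact (no_375 hG hn).elim
  · exact (no_376 hG hn).elim
  · exact (no_377 hG hn).elim
  · exact (no_378 hG hn).elim
  · exact (no_379 hG hn).elim
  · exact (no_380 hG hn).elim
  · exact (no_381 hG hn).elim
  · exact (no_382 hG hn).elim
  · exact (no_383 hG hn).elim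
  · exact (no_384 hG hn).elim
  · exact (no_385 hG hn).elim
  · exact (no_386 hG hn).elim
  · exact (no_387 hG hn).elim
  · exact (no_388 hG hn).elim
  · exact (no_389 hG hn).elim
  · exact (no_390 hG hn).elim
  · exact (no_391 hG hn).elim
  · exact (no_392 hG hn).elim
  · exact (no_393 hG hn).elim
  · exact (no_394 hG hn).elim
  · exact (no_395 hG hn).elim
  · exact (no_396 hG hn).elim
  · exact (no_397 hG hn).elim
  · exact (no_398 hG hn).elim
  · exact (no_399 hG hn).elim
  · exact (no_400 hG hn).elim

end Cfsg.Agent.Lib.Helper75_SM_E2
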