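import Mathlib
import Cfsg.Agent.Lib.Helper75_SM_Base

/-!
# S0496 engine, generated file: no simple group of order N for the easy N in [401, 500] (helper75)
-/

set_option autoImplicit false

namespace Cfsg.Agent.Lib.Helper75_SM_E3

open Cfsg.Agent.Lib.Helper17_Sylow Cfsg.Agent.Lib.Helper75_SM_Base

theorem no_401 {G : Type*} [Group G] [Finite G] [IsSimpleGroup G]
    (hG : ¬ IsMulCommutative G) (h : Nat.card G = 401) : False := by
  exact tp hG 401 2 1 0 (by norm_num) (by norm_num) (by rw [h]; norm_num)

theorem no_402 {G : Type*} [Group G] [Finite G] [IsSimpleGroup G]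
    (hG : ¬ IsMulCommutative G) (h : Nat.card G = 402) : False := by
  exact ev hG (by rw [h]; exact ⟨201, by norm_num⟩) (by rw [h]; omega)

theorem no_403 {G : Type*} [Group G] [Finite G] [IsSimpleGroup G]
    (hG : ¬ IsMulCommutative G) (h : Nat.card G = 403) : False := by
  exact tp hG 13 31 1 1 (by norm_num) (by norm_num) (by rw [h]; norm_num)

theorem no_404 {G : Type*} [Group G] [Finite G] [IsSimpleGroup G]
    (hG : ¬ IsMulCommutative G) (h : Nat.card G = 404) : False := by
  exact tp hG 2 101 2 1 (by norm_num) (by norm_num) (by rw [h]; norm_num)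

theorem no_405 {G : Type*} [Group G] [Finite G] [IsSimpleGroup G]
    (hG : ¬ IsMulCommutative G) (h : Nat.card G = 405) : False := by
  exact tp hG 3 5 4 1 (by norm_num) (by norm_num) (by rw [h]; norm_num)

theorem no_406 {G : Type*} [Group G] [Finite G] [IsSimpleGroup G]
    (hG : ¬ IsMulCommutative G) (h : Nat.card G = 406) : False := by
  exact ev hG (by rw [h]; exact ⟨203, by norm_num⟩) (by rw [h]; omega)

theorem no_407 {G : Type*} [Group G] [Finite G] [IsSimpleGroup G]
    (hG : ¬ IsMulCommutative G) (h : Nat.card G = 407) : False := by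
  exact tp hG 11 37 1 1 (by norm_num) (by norm_num) (by rw [h]; norm_num)

theorem no_408 {G : Type*} [Group G] [Finite G] [IsSimpleGroup G]
    (hG : ¬ IsMulCommutative G) (h : Nat.card G = 408) : False := by
  have : Fact (Nat.Prime 17) := ⟨by norm_num⟩
  have hc : Nat.card G = 17 ^ 1 * 24 := by rw [h]; norm_num
  have hm : ¬ 17 ∣ 24 := by norm_num
  have hmem := card_sylow_mem_candidates hc hm
  have hcand : sylowCandidates 17 24 = [1] := by decide
  rw [hcand] at hmem
  simp only [List.mem_cons, List.not_mem_nil, or_false] at hmem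
  have hlt := one_lt_card_sylow_of_card hc hm (by norm_num) (by norm_num)
  have hd := hmem
  · omega

theorem no_409 {G : Type*} [Group G] [Finite G] [IsSimpleGroup G]
    (hG : ¬ IsMulCommutative G) (h : Nat.card G = 409) : False := by
  exact tp hG 409 2 1 0 (by norm_num) (by norm_num) (by rw [h]; norm_num)

theorem no_410 {G : Type*} [Group G] [Finite G] [IsSimpleGroup G]
    (hG : ¬ IsMulCommutative G) (h : Nat.card G = 410) : False := by
  exact ev hG (by rw [h]; exact ⟨205, by norm_num⟩) (by rw [h]; omega)

theorem no_411 {G : Type*} [Group G] [Finite G] [IsSimpleGroup G]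
    (hG : ¬ IsMulCommutative G) (h : Nat.card G = 411) : False := by
  exact tp hG 3 137 1 1 (by norm_num) (by norm_num) (by rw [h]; norm_num)

theorem no_412 {G : Type*} [Group G] [Finite G] [IsSimpleGroup G]
    (hG : ¬ IsMulCommutative G) (h : Nat.card G = 412) : False := by
  exact tp hG 2 103 2 1 (by norm_num) (by norm_num) (by rw [h]; norm_num)

theorem no_413 {G : Type*} [Group G] [Finite G] [IsSimpleGroup G]
    (hG : ¬ IsMulCommutative G) (h : Nat.card G = 413) : False := by
  exact tp hG 7 59 1 1 (by norm_num) (by norm_num) (by rw [h]; norm_num)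

theorem no_414 {G : Type*} [Group G] [Finite G] [IsSimpleGroup G]
    (hG : ¬ IsMulCommutative G) (h : Nat.card G = 414) : False := by
  exact ev hG (by rw [h]; exact ⟨207, by norm_num⟩) (by rw [h]; omega)

theorem no_415 {G : Type*} [Group G] [Finite G] [IsSimpleGroup G]
    (hG : ¬ IsMulCommutative G) (h : Nat.card G = 415) : False := by
  exact tp hG 5 83 1 1 (by norm_num) (by norm_num) (by rw [h]; norm_num)

theorem no_416 {G : Type*} [Group G] [Finite G] [IsSimpleGroup G]
    (hG : ¬ IsMulCommutative G) (h : Nat.card G = 416) : False := by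
  exact tp hG 2 13 5 1 (by norm_num) (by norm_num) (by rw [h]; norm_num)

theorem no_417 {G : Type*} [Group G] [Finite G] [IsSimpleGroup G]
    (hG : ¬ IsMulCommutative G) (h : Nat.card G = 417) : False := by
  exact tp hG 3 139 1 1 (by norm_num) (by norm_num) (by rw [h]; norm_num)

theorem no_418 {G : Type*} [Group G] [Finite G] [IsSimpleGroup G]
    (hG : ¬ IsMulCommutative G) (h : Nat.card G = 418) : False := by
  exact ev hG (by rw [h]; exact ⟨209, by norm_num⟩) (by rw [h]; omega)

theorem no_419 {G : Type*} [Group G] [Finite G] [IsSimpleGroup G]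
    (hG : ¬ IsMulCommutative G) (h : Nat.card G = 419) : False := by
  exact tp hG 419 2 1 0 (by norm_num) (by norm_num) (by rw [h]; norm_num)

theorem no_421 {G : Type*} [Group G] [Finite G] [IsSimpleGroup G]
    (hG : ¬ IsMulCommutative G) (h : Nat.card G = 421) : False := by
  exact tp hG 421 2 1 0 (by norm_num) (by norm_num) (by rw [h]; norm_num)

theorem no_422 {G : Type*} [Group G] [Finite G] [IsSimpleGroup G]
    (hG : ¬ IsMulCommutative G) (h : Nat.card G = 422) : False := by
  exact tp hG 2 211 1 1 (by norm_num) (by norm_num) (by rw [h]; norm_num)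

theorem no_423 {G : Type*} [Group G] [Finite G] [IsSimpleGroup G]
    (hG : ¬ IsMulCommutative G) (h : Nat.card G = 423) : False := by
  exact tp hG 3 47 2 1 (by norm_num) (by norm_num) (by rw [h]; norm_num)

theorem no_424 {G : Type*} [Group G] [Finite G] [IsSimpleGroup G]
    (hG : ¬ IsMulCommutative G) (h : Nat.card G = 424) : False := by
  exact tp hG 2 53 3 1 (by norm_num) (by norm_num) (by rw [h]; norm_num)

theorem no_425 {G : Type*} [Group G] [Finite G] [IsSimpleGroup G]
    (hG : ¬ IsMulCommutative G) (h : Nat.card G = 425) : False := by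
  exact tp hG 5 17 2 1 (by norm_num) (by norm_num) (by rw [h]; norm_num)

theorem no_426 {G : Type*} [Group G] [Finite G] [IsSimpleGroup G]
    (hG : ¬ IsMulCommutative G) (h : Nat.card G = 426) : False := by
  exact ev hG (by rw [h]; exact ⟨213, by norm_num⟩) (by rw [h]; omega)

theorem no_427 {G : Type*} [Group G] [Finite G] [IsSimpleGroup G]
    (hG : ¬ IsMulCommutative G) (h : Nat.card G = 427) : False := by
  exact tp hG 7 61 1 1 (by norm_num) (by norm_num) (by rw [h]; norm_num)

theorem no_428 {G : Type*} [Group G] [Finite G] [IsSimpleGroup G]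
    (hG : ¬ IsMulCommutative G) (h : Nat.card G = 428) : False := by
  exact tp hG 2 107 2 1 (by norm_num) (by norm_num) (by rw [h]; norm_num)

theorem no_429 {G : Type*} [Group G] [Finite G] [IsSimpleGroup G]
    (hG : ¬ IsMulCommutative G) (h : Nat.card G = 429) : False := by
  have : Fact (Nat.Prime 3) := ⟨by norm_num⟩
  have hc : Nat.card G = 3 ^ 1 * 143 := by rw [h]; norm_num
  have hm : ¬ 3 ∣ 143 := by norm_num
  have hmem := card_sylow_mem_candidates hc hm
  have hcand : sylowCandidates 3 143 = [1, 13] := by decide
  rw [hcand] at hmem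
  simp only [List.mem_cons, List.not_mem_nil, or_false] at hmem
  have hlt := one_lt_card_sylow_of_card hc hm (by norm_num) (by norm_num)
  rcases hmem with hd | hd
  · omega
  · exact burn_kill hc hm (by norm_num) 13 hd (by decide)

theorem no_430 {G : Type*} [Group G] [Finite G] [IsSimpleGroup G]
    (hG : ¬ IsMulCommutative G) (h : Nat.card G = 430) : False := by
  exact ev hG (by rw [h]; exact ⟨215, by norm_num⟩) (by rw [h]; omega)

theorem no_431 {G : Type*} [Group G] [Finite G] [IsSimpleGroup G]
    (hG : ¬ IsMulCommutative G) (h : Nat.card G = 431) : False := by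
  exact tp hG 431 2 1 0 (by norm_num) (by norm_num) (by rw [h]; norm_num)

theorem no_432 {G : Type*} [Group G] [Finite G] [IsSimpleGroup G]
    (hG : ¬ IsMulCommutative G) (h : Nat.card G = 432) : False := by
  exact tp hG 2 3 4 3 (by norm_num) (by norm_num) (by rw [h]; norm_num)

theorem no_433 {G : Type*} [Group G] [Finite G] [IsSimpleGroup G]
    (hG : ¬ IsMulCommutative G) (h : Nat.card G = 433) : False := by
  exact tp hG 433 2 1 0 (by norm_num) (by norm_num) (by rw [h]; norm_num)

theorem no_434 {G : Type*} [Group G] [Finite G] [IsSimpleGroup G]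
    (hG : ¬ IsMulCommutative G) (h : Nat.card G = 434) : False := by
  exact ev hG (by rw [h]; exact ⟨217, by norm_num⟩) (by rw [h]; omega)

theorem no_435 {G : Type*} [Group G] [Finite G] [IsSimpleGroup G]
    (hG : ¬ IsMulCommutative G) (h : Nat.card G = 435) : False := by
  have : Fact (Nat.Prime 3) := ⟨by norm_num⟩
  have hc : Nat.card G = 3 ^ 1 * 145 := by rw [h]; norm_num
  have hm : ¬ 3 ∣ 145 := by norm_num
  have hmem := card_sylow_mem_candidates hc hm
  have hcand : sylowCandidates 3 145 = [1, 145] := by decide
  rw [hcand] at hmem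
  simp only [List.mem_cons, List.not_mem_nil, or_false] at hmem
  have hlt := one_lt_card_sylow_of_card hc hm (by norm_num) (by norm_num)
  rcases hmem with hd | hd
  · omega
  · exact burn_kill hc hm (by norm_num) 145 hd (by decide)

theorem no_436 {G : Type*} [Group G] [Finite G] [IsSimpleGroup G]
    (hG : ¬ IsMulCommutative G) (h : Nat.card G = 436) : False := by
  exact tp hG 2 109 2 1 (by norm_num) (by norm_num) (by rw [h]; norm_num)

theorem no_437 {G : Type*} [Group G] [Finite G] [IsSimpleGroup G]
    (hG : ¬ IsMulCommutative G) (h : Nat.card G = 437) : False := by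
  exact tp hG 19 23 1 1 (by norm_num) (by norm_num) (by rw [h]; norm_num)

theorem no_438 {G : Type*} [Group G] [Finite G] [IsSimpleGroup G]
    (hG : ¬ IsMulCommutative G) (h : Nat.card G = 438) : False := by
  exact ev hG (by rw [h]; exact ⟨219, by norm_num⟩) (by rw [h]; omega)

theorem no_439 {G : Type*} [Group G] [Finite G] [IsSimpleGroup G]
    (hG : ¬ IsMulCommutative G) (h : Nat.card G = 439) : False := by
  exact tp hG 439 2 1 0 (by norm_num) (by norm_num) (by rw [h]; norm_num)

theorem no_440 {G : Type*} [Group G] [Finite G] [IsSimpleGroup G]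
    (hG : ¬ IsMulCommutative G) (h : Nat.card G = 440) : False := by
  exact ev hG (by rw [h]; exact ⟨220, by norm_num⟩) (by rw [h]; omega)

theorem no_441 {G : Type*} [Group G] [Finite G] [IsSimpleGroup G]
    (hG : ¬ IsMulCommutative G) (h : Nat.card G = 441) : False := by
  exact tp hG 3 7 2 2 (by norm_num) (by norm_num) (by rw [h]; norm_num)

theorem no_442 {G : Type*} [Group G] [Finite G] [IsSimpleGroup G]
    (hG : ¬ IsMulCommutative G) (h : Nat.card G = 442) : False := by
  exact ev hG (by rw [h]; exact ⟨221, by norm_num⟩) (by rw [h]; omega)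

theorem no_443 {G : Type*} [Group G] [Finite G] [IsSimpleGroup G]
    (hG : ¬ IsMulCommutative G) (h : Nat.card G = 443) : False := by
  exact tp hG 443 2 1 0 (by norm_num) (by norm_num) (by rw [h]; norm_num)

theorem no_444 {G : Type*} [Group G] [Finite G] [IsSimpleGroup G]
    (hG : ¬ IsMulCommutative G) (h : Nat.card G = 444) : False := by
  have : Fact (Nat.Prime 37) := ⟨by norm_num⟩
  have hc : Nat.card G = 37 ^ 1 * 12 := by rw [h]; norm_num
  have hm : ¬ 37 ∣ 12 := by norm_num
  have hmem := card_sylow_mem_candidates hc hm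
  have hcand : sylowCandidates 37 12 = [1] := by decide
  rw [hcand] at hmem
  simp only [List.mem_cons, List.not_mem_nil, or_false] at hmem
  have hlt := one_lt_card_sylow_of_card hc hm (by norm_num) (by norm_num)
  have hd := hmem
  · omega

theorem no_445 {G : Type*} [Group G] [Finite G] [IsSimpleGroup G]
    (hG : ¬ IsMulCommutative G) (h : Nat.card G = 445) : False := by
  exact tp hG 5 89 1 1 (by norm_num) (by norm_num) (by rw [h]; norm_num)

theorem no_446 {G : Type*} [Group G] [Finite G] [IsSimpleGroup G]
    (hG : ¬ IsMulCommutative G) (h : Nat.card G = 446) : False := by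
  exact tp hG 2 223 1 1 (by norm_num) (by norm_num) (by rw [h]; norm_num)

theorem no_447 {G : Type*} [Group G] [Finite G] [IsSimpleGroup G]
    (hG : ¬ IsMulCommutative G) (h : Nat.card G = 447) : False := by
  exact tp hG 3 149 1 1 (by norm_num) (by norm_num) (by rw [h]; norm_num)

theorem no_448 {G : Type*} [Group G] [Finite G] [IsSimpleGroup G]
    (hG : ¬ IsMulCommutative G) (h : Nat.card G = 448) : False := by
  exact tp hG 2 7 6 1 (by norm_num) (by norm_num) (by rw [h]; norm_num)

theorem no_449 {G : Type*} [Group G] [Finite G] [IsSimpleGroup G]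
    (hG : ¬ IsMulCommutative G) (h : Nat.card G = 449) : False := by
  exact tp hG 449 2 1 0 (by norm_num) (by norm_num) (by rw [h]; norm_num)

theorem no_450 {G : Type*} [Group G] [Finite G] [IsSimpleGroup G]
    (hG : ¬ IsMulCommutative G) (h : Nat.card G = 450) : False := by
  exact ev hG (by rw [h]; exact ⟨225, by norm_num⟩) (by rw [h]; omega)

theorem no_451 {G : Type*} [Group G] [Finite G] [IsSimpleGroup G]
    (hG : ¬ IsMulCommutative G) (h : Nat.card G = 451) : False := by
  exact tp hG 11 41 1 1 (by norm_num) (by norm_num) (by rw [h]; norm_num)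

theorem no_452 {G : Type*} [Group G] [Finite G] [IsSimpleGroup G]
    (hG : ¬ IsMulCommutative G) (h : Nat.card G = 452) : False := by
  exact tp hG 2 113 2 1 (by norm_num) (by norm_num) (by rw [h]; norm_num)

theorem no_453 {G : Type*} [Group G] [Finite G] [IsSimpleGroup G]
    (hG : ¬ IsMulCommutative G) (h : Nat.card G = 453) : False := by
  exact tp hG 3 151 1 1 (by norm_num) (by norm_num) (by rw [h]; norm_num)

theorem no_454 {G : Type*} [Group G] [Finite G] [IsSimpleGroup G]
    (hG : ¬ IsMulCommutative G) (h : Nat.card G = 454) : False := by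
  exact tp hG 2 227 1 1 (by norm_num) (by norm_num) (by rw [h]; norm_num)

theorem no_455 {G : Type*} [Group G] [Finite G] [IsSimpleGroup G]
    (hG : ¬ IsMulCommutative G) (h : Nat.card G = 455) : False := by
  have : Fact (Nat.Prime 5) := ⟨by norm_num⟩
  have hc : Nat.card G = 5 ^ 1 * 91 := by rw [h]; norm_num
  have hm : ¬ 5 ∣ 91 := by norm_num
  have hmem := card_sylow_mem_candidates hc hm
  have hcand : sylowCandidates 5 91 = [1, 91] := by decide
  rw [hcand] at hmem
  simp only [List.mem_cons, List.not_mem_nil, or_false] at hmem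
  have hlt := one_lt_card_sylow_of_card hc hm (by norm_num) (by norm_num)
  rcases hmem with hd | hd
  · omega
  · exact burn_kill hc hm (by norm_num) 91 hd (by decide)

theorem no_456 {G : Type*} [Group G] [Finite G] [IsSimpleGroup G]
    (hG : ¬ IsMulCommutative G) (h : Nat.card G = 456) : False := by
  have : Fact (Nat.Prime 19) := ⟨by norm_num⟩
  have hc : Nat.card G = 19 ^ 1 * 24 := by rw [h]; norm_num
  have hm : ¬ 19 ∣ 24 := by norm_num
  have hmem := card_sylow_mem_candidates hc hm
  have hcand : sylowCandidates 19 24 = [1] := by decide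
  rw [hcand] at hmem
  simp only [List.mem_cons, List.not_mem_nil, or_false] at hmem
  have hlt := one_lt_card_sylow_of_card hc hm (by norm_num) (by norm_num)
  have hd := hmem
  · omega

theorem no_457 {G : Type*} [Group G] [Finite G] [IsSimpleGroup G]
    (hG : ¬ IsMulCommutative G) (h : Nat.card G = 457) : False := by
  exact tp hG 457 2 1 0 (by norm_num) (by norm_num) (by rw [h]; norm_num)

theorem no_458 {G : Type*} [Group G] [Finite G] [IsSimpleGroup G]
    (hG : ¬ IsMulCommutative G) (h : Nat.card G = 458) : False := by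
  exact tp hG 2 229 1 1 (by norm_num) (by norm_num) (by rw [h]; norm_num)

theorem no_459 {G : Type*} [Group G] [Finite G] [IsSimpleGroup G]
    (hG : ¬ IsMulCommutative G) (h : Nat.card G = 459) : False := by
  exact tp hG 3 17 3 1 (by norm_num) (by norm_num) (by rw [h]; norm_num)

theorem no_460 {G : Type*} [Group G] [Finite G] [IsSimpleGroup G]
    (hG : ¬ IsMulCommutative G) (h : Nat.card G = 460) : False := by
  exact ev hG (by rw [h]; exact ⟨230, by norm_num⟩) (by rw [h]; omega)

theorem no_461 {G : Type*} [Group G] [Finite G] [IsSimpleGroup G]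
    (hG : ¬ IsMulCommutative G) (h : Nat.card G = 461) : False := by
  exact tp hG 461 2 1 0 (by norm_num) (by norm_num) (by rw [h]; norm_num)

theorem no_462 {G : Type*} [Group G] [Finite G] [IsSimpleGroup G]
    (hG : ¬ IsMulCommutative G) (h : Nat.card G = 462) : False := by
  exact ev hG (by rw [h]; exact ⟨231, by norm_num⟩) (by rw [h]; omega)

theorem no_463 {G : Type*} [Group G] [Finite G] [IsSimpleGroup G]
    (hG : ¬ IsMulCommutative G) (h : Nat.card G = 463) : False := by
  exact tp hG 463 2 1 0 (by norm_num) (by norm_num) (by rw [h]; norm_num)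

theorem no_464 {G : Type*} [Group G] [Finite G] [IsSimpleGroup G]
    (hG : ¬ IsMulCommutative G) (h : Nat.card G = 464) : False := by
  exact tp hG 2 29 4 1 (by norm_num) (by norm_num) (by rw [h]; norm_num)

theorem no_465 {G : Type*} [Group G] [Finite G] [IsSimpleGroup G]
    (hG : ¬ IsMulCommutative G) (h : Nat.card G = 465) : False := by
  have : Fact (Nat.Prime 3) := ⟨by norm_num⟩
  have hc : Nat.card G = 3 ^ 1 * 155 := by rw [h]; norm_num
  have hm : ¬ 3 ∣ 155 := by norm_num
  have hmem := card_sylow_mem_candidates hc hm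
  have hcand : sylowCandidates 3 155 = [1, 31] := by decide
  rw [hcand] at hmem
  simp only [List.mem_cons, List.not_mem_nil, or_false] at hmem
  have hlt := one_lt_card_sylow_of_card hc hm (by norm_num) (by norm_num)
  rcases hmem with hd | hd
  · omega
  · exact burn_kill hc hm (by norm_num) 31 hd (by decide)

theorem no_466 {G : Type*} [Group G] [Finite G] [IsSimpleGroup G]
    (hG : ¬ IsMulCommutative G) (h : Nat.card G = 466) : False := by
  exact tp hG 2 233 1 1 (by norm_num) (by norm_num) (by rw [h]; norm_num)

theorem no_467 {G : Type*} [Group G] [Finite G] [IsSimpleGroup G]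
    (hG : ¬ IsMulCommutative G) (h : Nat.card G = 467) : False := by
  exact tp hG 467 2 1 0 (by norm_num) (by norm_num) (by rw [h]; norm_num)

theorem no_468 {G : Type*} [Group G] [Finite G] [IsSimpleGroup G]
    (hG : ¬ IsMulCommutative G) (h : Nat.card G = 468) : False := by
  have : Fact (Nat.Prime 13) := ⟨by norm_num⟩
  have hc : Nat.card G = 13 ^ 1 * 36 := by rw [h]; norm_num
  have hm : ¬ 13 ∣ 36 := by norm_num
  have hmem := card_sylow_mem_candidates hc hm
  have hcand : sylowCandidates 13 36 = [1] := by decide
  rw [hcand] at hmem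
  simp only [List.mem_cons, List.not_mem_nil, or_false] at hmem
  have hlt := one_lt_card_sylow_of_card hc hm (by norm_num) (by norm_num)
  have hd := hmem
  · omega

theorem no_469 {G : Type*} [Group G] [Finite G] [IsSimpleGroup G]
    (hG : ¬ IsMulCommutative G) (h : Nat.card G = 469) : False := by
  exact tp hG 7 67 1 1 (by norm_num) (by norm_num) (by rw [h]; norm_num)

theorem no_470 {G : Type*} [Group G] [Finite G] [IsSimpleGroup G]
    (hG : ¬ IsMulCommutative G) (h : Nat.card G = 470) : False := by
  exact ev hG (by rw [h]; exact ⟨235, by norm_num⟩) (by rw [h]; omega)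

theorem no_471 {G : Type*} [Group G] [Finite G] [IsSimpleGroup G]
    (hG : ¬ IsMulCommutative G) (h : Nat.card G = 471) : False := by
  exact tp hG 3 157 1 1 (by norm_num) (by norm_num) (by rw [h]; norm_num)

theorem no_472 {G : Type*} [Group G] [Finite G] [IsSimpleGroup G]
    (hG : ¬ IsMulCommutative G) (h : Nat.card G = 472) : False := by
  exact tp hG 2 59 3 1 (by norm_num) (by norm_num) (by rw [h]; norm_num)

theorem no_473 {G : Type*} [Group G] [Finite G] [IsSimpleGroup G]
    (hG : ¬ IsMulCommutative G) (h : Nat.card G = 473) : False := by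
  exact tp hG 11 43 1 1 (by norm_num) (by norm_num) (by rw [h]; norm_num)

theorem no_474 {G : Type*} [Group G] [Finite G] [IsSimpleGroup G]
    (hG : ¬ IsMulCommutative G) (h : Nat.card G = 474) : False := by
  exact ev hG (by rw [h]; exact ⟨237, by norm_num⟩) (by rw [h]; omega)

theorem no_475 {G : Type*} [Group G] [Finite G] [IsSimpleGroup G]
    (hG : ¬ IsMulCommutative G) (h : Nat.card G = 475) : False := by
  exact tp hG 5 19 2 1 (by norm_num) (by norm_num) (by rw [h]; norm_num)

theorem no_476 {G : Type*} [Group G] [Finite G] [IsSimpleGroup G]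
    (hG : ¬ IsMulCommutative G) (h : Nat.card G = 476) : False := by
  exact ev hG (by rw [h]; exact ⟨238, by norm_num⟩) (by rw [h]; omega)

theorem no_477 {G : Type*} [Group G] [Finite G] [IsSimpleGroup G]
    (hG : ¬ IsMulCommutative G) (h : Nat.card G = 477) : False := by
  exact tp hG 3 53 2 1 (by norm_num) (by norm_num) (by rw [h]; norm_num)

theorem no_478 {G : Type*} [Group G] [Finite G] [IsSimpleGroup G]
    (hG : ¬ IsMulCommutative G) (h : Nat.card G = 478) : False := by
  exact tp hG 2 239 1 1 (by norm_num) (by norm_num) (by rw [h]; norm_num)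

theorem no_479 {G : Type*} [Group G] [Finite G] [IsSimpleGroup G]
    (hG : ¬ IsMulCommutative G) (h : Nat.card G = 479) : False := by
  exact tp hG 479 2 1 0 (by norm_num) (by norm_num) (by rw [h]; norm_num)

theorem no_481 {G : Type*} [Group G] [Finite G] [IsSimpleGroup G]
    (hG : ¬ IsMulCommutative G) (h : Nat.card G = 481) : False := by
  exact tp hG 13 37 1 1 (by norm_num) (by norm_num) (by rw [h]; norm_num)

theorem no_482 {G : Type*} [Group G] [Finite G] [IsSimpleGroup G]
    (hG : ¬ IsMulCommutative G) (h : Nat.card G = 482) : False := by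
  exact tp hG 2 241 1 1 (by norm_num) (by norm_num) (by rw [h]; norm_num)

theorem no_483 {G : Type*} [Group G] [Finite G] [IsSimpleGroup G]
    (hG : ¬ IsMulCommutative G) (h : Nat.card G = 483) : False := by
  have : Fact (Nat.Prime 3) := ⟨by norm_num⟩
  have hc : Nat.card G = 3 ^ 1 * 161 := by rw [h]; norm_num
  have hm : ¬ 3 ∣ 161 := by norm_num
  have hmem := card_sylow_mem_candidates hc hm
  have hcand : sylowCandidates 3 161 = [1, 7] := by decide
  rw [hcand] at hmem
  simp only [List.mem_cons, List.not_mem_nil, or_false] at hmem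
  have hlt := one_lt_card_sylow_of_card hc hm (by norm_num) (by norm_num)
  rcases hmem with hd | hd
  · omega
  · exact fact_kill hG 7 hd (by norm_num) (by rw [h]; decide)

theorem no_484 {G : Type*} [Group G] [Finite G] [IsSimpleGroup G]
    (hG : ¬ IsMulCommutative G) (h : Nat.card G = 484) : False := by
  exact tp hG 2 11 2 2 (by norm_num) (by norm_num) (by rw [h]; norm_num)

theorem no_485 {G : Type*} [Group G] [Finite G] [IsSimpleGroup G]
    (hG : ¬ IsMulCommutative G) (h : Nat.card G = 485) : False := by
  exact tp hG 5 97 1 1 (by norm_num) (by norm_num) (by rw [h]; norm_num)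

theorem no_486 {G : Type*} [Group G] [Finite G] [IsSimpleGroup G]
    (hG : ¬ IsMulCommutative G) (h : Nat.card G = 486) : False := by
  exact tp hG 2 3 1 5 (by norm_num) (by norm_num) (by rw [h]; norm_num)

theorem no_487 {G : Type*} [Group G] [Finite G] [IsSimpleGroup G]
    (hG : ¬ IsMulCommutative G) (h : Nat.card G = 487) : False := by
  exact tp hG 487 2 1 0 (by norm_num) (by norm_num) (by rw [h]; norm_num)

theorem no_488 {G : Type*} [Group G] [Finite G] [IsSimpleGroup G]
    (hG : ¬ IsMulCommutative G) (h : Nat.card G = 488) : False := by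
  exact tp hG 2 61 3 1 (by norm_num) (by norm_num) (by rw [h]; norm_num)

theorem no_489 {G : Type*} [Group G] [Finite G] [IsSimpleGroup G]
    (hG : ¬ IsMulCommutative G) (h : Nat.card G = 489) : False := by
  exact tp hG 3 163 1 1 (by norm_num) (by norm_num) (by rw [h]; norm_num)

theorem no_490 {G : Type*} [Group G] [Finite G] [IsSimpleGroup G]
    (hG : ¬ IsMulCommutative G) (h : Nat.card G = 490) : False := by
  exact ev hG (by rw [h]; exact ⟨245, by norm_num⟩) (by rw [h]; omega)

theorem no_491 {G : Type*} [Group G] [Finite G] [IsSimpleGroup G]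
    (hG : ¬ IsMulCommutative G) (h : Nat.card G = 491) : False := by
  exact tp hG 491 2 1 0 (by norm_num) (by norm_num) (by rw [h]; norm_num)

theorem no_492 {G : Type*} [Group G] [Finite G] [IsSimpleGroup G]
    (hG : ¬ IsMulCommutative G) (h : Nat.card G = 492) : False := by
  have : Fact (Nat.Prime 41) := ⟨by norm_num⟩
  have hc : Nat.card G = 41 ^ 1 * 12 := by rw [h]; norm_num
  have hm : ¬ 41 ∣ 12 := by norm_num
  have hmem := card_sylow_mem_candidates hc hm
  have hcand : sylowCandidates 41 12 = [1] := by decide
  rw [hcand] at hmem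
  simp only [List.mem_cons, List.not_mem_nil, or_false] at hmem
  have hlt := one_lt_card_sylow_of_card hc hm (by norm_num) (by norm_num)
  have hd := hmem
  · omega

theorem no_493 {G : Type*} [Group G] [Finite G] [IsSimpleGroup G]
    (hG : ¬ IsMulCommutative G) (h : Nat.card G = 493) : False := by
  exact tp hG 17 29 1 1 (by norm_num) (by norm_num) (by rw [h]; norm_num)

theorem no_494 {G : Type*} [Group G] [Finite G] [IsSimpleGroup G]
    (hG : ¬ IsMulCommutative G) (h : Nat.card G = 494) : False := by
  exact ev hG (by rw [h]; exact ⟨247, by norm_num⟩) (by rw [h]; omega)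

theorem no_495 {G : Type*} [Group G] [Finite G] [IsSimpleGroup G]
    (hG : ¬ IsMulCommutative G) (h : Nat.card G = 495) : False := by
  have : Fact (Nat.Prime 3) := ⟨by norm_num⟩
  have hc : Nat.card G = 3 ^ 2 * 55 := by rw [h]; norm_num
  have hm : ¬ 3 ∣ 55 := by norm_num
  have hmem := card_sylow_mem_candidates hc hm
  have hcand : sylowCandidates 3 55 = [1, 55] := by decide
  rw [hcand] at hmem
  simp only [List.mem_cons, List.not_mem_nil, or_false] at hmem
  have hlt := one_lt_card_sylow_of_card hc hm (by norm_num) (by norm_num)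
  rcases hmem with hd | hd
  · omega
  · exact burn2_kill hc hm (by norm_num) hd

theorem no_496 {G : Type*} [Group G] [Finite G] [IsSimpleGroup G]
    (hG : ¬ IsMulCommutative G) (h : Nat.card G = 496) : False := by
  exact tp hG 2 31 4 1 (by norm_num) (by norm_num) (by rw [h]; norm_num)

theorem no_497 {G : Type*} [Group G] [Finite G] [IsSimpleGroup G]
    (hG : ¬ IsMulCommutative G) (h : Nat.card G = 497) : False := by
  exact tp hG 7 71 1 1 (by norm_num) (by norm_num) (by rw [h]; norm_num)

theorem no_498 {G : Type*} [Group G] [Finite G] [IsSimpleGroup G]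
    (hG : ¬ IsMulCommutative G) (h : Nat.card G = 498) : False := by
  exact ev hG (by rw [h]; exact ⟨249, by norm_num⟩) (by rw [h]; omega)

theorem no_499 {G : Type*} [Group G] [Finite G] [IsSimpleGroup G]
    (hG : ¬ IsMulCommutative G) (h : Nat.card G = 499) : False := by
  exact tp hG 499 2 1 0 (by norm_num) (by norm_num) (by rw [h]; norm_num)

theorem no_500 {G : Type*} [Group G] [Finite G] [IsSimpleGroup G]
    (hG : ¬ IsMulCommutative G) (h : Nat.card G = 500) : False := by
  exact tp hG 2 5 2 3 (by norm_num) (by norm_num) (by rw [h]; norm_num)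

/-- the orders in [401, 500] not excluded by the engine -/
theorem chunk {G : Type*} [Group G] [Finite G] [IsSimpleGroup G]
    (hG : ¬ IsMulCommutative G) (n : ℕ) (hn : Nat.card G = n) (h1 : 401 ≤ n) (h2 : n ≤ 500) :
    n = 420 ∨ n = 480 := by
  interval_cases n
  · exact (no_401 hG hn).elim
  · exact (no_402 hG hn).elim
  · exact (no_403 hG hn).elim
  · exact (no_404 hG hn).elim
  · exact (no_405 hG hn).elim
  · exact (no_406 hG hn).elim
  · exact (no_407 hG hn).elim
  · exact (no_408 hG hn).elim
  · exact (no_409 hG hn).elim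
  · exact (no_410 hG hn).elim
  · exact (no_411 hG hn).elim
  · exact (no_412 hG hn).elim
  · exact (no_413 hG hn).elim
  · exact (no_414 hG hn).elim
  · exact (no_415 hG hn).elim
  · exact (no_416 hG hn).elim
  · exact (no_417 hG hn).elim
  · exact (no_418 hG hn).elim
  · exact (no_419 hG hn).elim
  · simp
  · exact (no_421 hG hn).elim
  · exact (no_422 hG hn).elim
  · exact (no_423 hG hn).elim
  · exact (no_424 hG hn).elim
  · exact (no_425 hG hn).elim
  · exact (no_426 hG hn).elim
  · exact (no_427 hG hn).elim
  · exact (no_428 hG hn).elim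
  · exact (no_429 hG hn).elim
  · exact (no_430 hG hn).elim
  · exact (no_431 hG hn).elim
  · exact (no_432 hG hn).elim
  · exact (no_433 hG hn).elim
  · exact (no_434 hG hn).elim
  · exact (no_435 hG hn).elim
  · exact (no_436 hG hn).elim
  · exact (no_437 hG hn).elim
  · exact (no_438 hG hn).elim
  · exact (no_439 hG hn).elim
  · exact (no_440 hG hn).elim
  · exact (no_441 hG hn).elim
  · exact (no_442 hG hn).elim
  · exact (no_443 hG hn).elim
  · exact (no_444 hG hn).elim
  · exact (no_445 hG hn).elim
  · exact (no_446 hG hn).elim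
  · exact (no_447 hG hn).elim
  · exact (no_448 hG hn).elim
  · exact (no_449 hG hn).elim
  · exact (no_450 hG hn).elim
  · exact (no_451 hG hn).elim
  · exact (no_452 hG hn).elim
  · exact (no_453 hG hn).elim
  · exact (no_454 hG hn).elim
  · exact (no_455 hG hn).elim
  · exact (no_456 hG hn).elim
  · exact (no_457 hG hn).elim
  · exact (no_458 hG hn).elim
  · exact (no_459 hG hn).elim
  · exact (no_460 hG hn).elim
  · exact (no_461 hG hn).elim
  · exact (no_462 hG hn).elim
  · exact (no_463 hG hn).elim
  · exact (no_464 hG hn).elim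
  · exact (no_465 hG hn).elim
  · exact (no_466 hG hn).elim
  · exact (no_467 hG hn).elim
  · exact (no_468 hG hn).elim
  · exact (no_469 hG hn).elim
  · exact (no_470 hG hn).elim
  · exact (no_471 hG hn).elim
  · exact (no_472 hG hn).elim
  · exact (no_473 hG hn).elim
  · exact (no_474 hG hn).elim
  · exact (no_475 hG hn).elim
  · exact (no_476 hG hn).elim
  · exact (no_477 hG hn).elim
  · exact (no_478 hG hn).elim
  · exact (no_479 hG hn).elim
  · simp
  · exact (no_481 hG hn).elim
  · exact (no_482 hG hn).elim
  · exact (no_483 hG hn).elim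
  · exact (no_484 hG hn).elim
  · exact (no_485 hG hn).elim
  · exact (no_486 hG hn).elim
  · exact (no_487 hG hn).elim
  · exact (no_488 hG hn).elim
  · exact (no_489 hG hn).elim
  · exact (no_490 hG hn).elim
  · exact (no_491 hG hn).elim
  · exact (no_492 hG hn).elim
  · exact (no_493 hG hn).elim
  · exact (no_494 hG hn).elim
  · exact (no_495 hG hn).elim
  · exact (no_496 hG hn).elim
  · exact (no_497 hG hn).elim
  · exact (no_498 hG hn).elim
  · exact (no_499 hG hn).elim
  · exact (no_500 hG hn).elim

end Cfsg.Agent.Lib.Helper75_SM_E3
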