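import Mathlib
import Cfsg.Agent.Lib.Helper75_SM_Base

/-!
# S0496 engine, generated file: no simple group of order N for the easy N in [501, 600] (helper75)
-/

set_option autoImplicit false

namespace Cfsg.Agent.Lib.Helper75_SM_E4

open Cfsg.Agent.Lib.Helper17_Sylow Cfsg.Agent.Lib.Helper75_SM_Base

theorem no_501 {G : Type*} [Group G] [Finite G] [IsSimpleGroup G]
    (hG : ¬ IsMulCommutative G) (h : Nat.card G = 501) : False := by
  exact tp hG 3 167 1 1 (by norm_num) (by norm_num) (by rw [h]; norm_num)

theorem no_502 {G : Type*} [Group G] [Finite G] [IsSimpleGroup G]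
    (hG : ¬ IsMulCommutative G) (h : Nat.card G = 502) : False := by
  exact tp hG 2 251 1 1 (by norm_num) (by norm_num) (by rw [h]; norm_num)

theorem no_503 {G : Type*} [Group G] [Finite G] [IsSimpleGroup G]
    (hG : ¬ IsMulCommutative G) (h : Nat.card G = 503) : False := by
  exact tp hG 503 2 1 0 (by norm_num) (by norm_num) (by rw [h]; norm_num)

theorem no_505 {G : Type*} [Group G] [Finite G] [IsSimpleGroup G]
    (hG : ¬ IsMulCommutative G) (h : Nat.card G = 505) : False := by
  exact tp hG 5 101 1 1 (by norm_num) (by norm_num) (by rw [h]; norm_num)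

theorem no_506 {G : Type*} [Group G] [Finite G] [IsSimpleGroup G]
    (hG : ¬ IsMulCommutative G) (h : Nat.card G = 506) : False := by
  exact ev hG (by rw [h]; exact ⟨253, by norm_num⟩) (by rw [h]; omega)

theorem no_507 {G : Type*} [Group G] [Finite G] [IsSimpleGroup G]
    (hG : ¬ IsMulCommutative G) (h : Nat.card G = 507) : False := by
  exact tp hG 3 13 1 2 (by norm_num) (by norm_num) (by rw [h]; norm_num)

theorem no_508 {G : Type*} [Group G] [Finite G] [IsSimpleGroup G]
    (hG : ¬ IsMulCommutative G) (h : Nat.card G = 508) : False := by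
  exact tp hG 2 127 2 1 (by norm_num) (by norm_num) (by rw [h]; norm_num)

theorem no_509 {G : Type*} [Group G] [Finite G] [IsSimpleGroup G]
    (hG : ¬ IsMulCommutative G) (h : Nat.card G = 509) : False := by
  exact tp hG 509 2 1 0 (by norm_num) (by norm_num) (by rw [h]; norm_num)

theorem no_510 {G : Type*} [Group G] [Finite G] [IsSimpleGroup G]
    (hG : ¬ IsMulCommutative G) (h : Nat.card G = 510) : False := by
  exact ev hG (by rw [h]; exact ⟨255, by norm_num⟩) (by rw [h]; omega)

theorem no_511 {G : Type*} [Group G] [Finite G] [IsSimpleGroup G]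
    (hG : ¬ IsMulCommutative G) (h : Nat.card G = 511) : False := by
  exact tp hG 7 73 1 1 (by norm_num) (by norm_num) (by rw [h]; norm_num)

theorem no_512 {G : Type*} [Group G] [Finite G] [IsSimpleGroup G]
    (hG : ¬ IsMulCommutative G) (h : Nat.card G = 512) : False := by
  exact tp hG 2 3 9 0 (by norm_num) (by norm_num) (by rw [h]; norm_num)

theorem no_513 {G : Type*} [Group G] [Finite G] [IsSimpleGroup G]
    (hG : ¬ IsMulCommutative G) (h : Nat.card G = 513) : False := by
  exact tp hG 3 19 3 1 (by norm_num) (by norm_num) (by rw [h]; norm_num)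

theorem no_514 {G : Type*} [Group G] [Finite G] [IsSimpleGroup G]
    (hG : ¬ IsMulCommutative G) (h : Nat.card G = 514) : False := by
  exact tp hG 2 257 1 1 (by norm_num) (by norm_num) (by rw [h]; norm_num)

theorem no_515 {G : Type*} [Group G] [Finite G] [IsSimpleGroup G]
    (hG : ¬ IsMulCommutative G) (h : Nat.card G = 515) : False := by
  exact tp hG 5 103 1 1 (by norm_num) (by norm_num) (by rw [h]; norm_num)

theorem no_516 {G : Type*} [Group G] [Finite G] [IsSimpleGroup G]
    (hG : ¬ IsMulCommutative G) (h : Nat.card G = 516) : False := by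
  have : Fact (Nat.Prime 43) := ⟨by norm_num⟩
  have hc : Nat.card G = 43 ^ 1 * 12 := by rw [h]; norm_num
  have hm : ¬ 43 ∣ 12 := by norm_num
  have hmem := card_sylow_mem_candidates hc hm
  have hcand : sylowCandidates 43 12 = [1] := by decide
  rw [hcand] at hmem
  simp only [List.mem_cons, List.not_mem_nil, or_false] at hmem
  have hlt := one_lt_card_sylow_of_card hc hm (by norm_num) (by norm_num)
  have hd := hmem
  · omega

theorem no_517 {G : Type*} [Group G] [Finite G] [IsSimpleGroup G]
    (hG : ¬ IsMulCommutative G) (h : Nat.card G = 517) : False := by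
  exact tp hG 11 47 1 1 (by norm_num) (by norm_num) (by rw [h]; norm_num)

theorem no_518 {G : Type*} [Group G] [Finite G] [IsSimpleGroup G]
    (hG : ¬ IsMulCommutative G) (h : Nat.card G = 518) : False := by
  exact ev hG (by rw [h]; exact ⟨259, by norm_num⟩) (by rw [h]; omega)

theorem no_519 {G : Type*} [Group G] [Finite G] [IsSimpleGroup G]
    (hG : ¬ IsMulCommutative G) (h : Nat.card G = 519) : False := by
  exact tp hG 3 173 1 1 (by norm_num) (by norm_num) (by rw [h]; norm_num)

theorem no_520 {G : Type*} [Group G] [Finite G] [IsSimpleGroup G]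
    (hG : ¬ IsMulCommutative G) (h : Nat.card G = 520) : False := by
  exact ev hG (by rw [h]; exact ⟨260, by norm_num⟩) (by rw [h]; omega)

theorem no_521 {G : Type*} [Group G] [Finite G] [IsSimpleGroup G]
    (hG : ¬ IsMulCommutative G) (h : Nat.card G = 521) : False := by
  exact tp hG 521 2 1 0 (by norm_num) (by norm_num) (by rw [h]; norm_num)

theorem no_522 {G : Type*} [Group G] [Finite G] [IsSimpleGroup G]
    (hG : ¬ IsMulCommutative G) (h : Nat.card G = 522) : False := by
  exact ev hG (by rw [h]; exact ⟨261, by norm_num⟩) (by rw [h]; omega)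

theorem no_523 {G : Type*} [Group G] [Finite G] [IsSimpleGroup G]
    (hG : ¬ IsMulCommutative G) (h : Nat.card G = 523) : False := by
  exact tp hG 523 2 1 0 (by norm_num) (by norm_num) (by rw [h]; norm_num)

theorem no_524 {G : Type*} [Group G] [Finite G] [IsSimpleGroup G]
    (hG : ¬ IsMulCommutative G) (h : Nat.card G = 524) : False := by
  exact tp hG 2 131 2 1 (by norm_num) (by norm_num) (by rw [h]; norm_num)

theorem no_525 {G : Type*} [Group G] [Finite G] [IsSimpleGroup G]
    (hG : ¬ IsMulCommutative G) (h : Nat.card G = 525) : False := by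
  have : Fact (Nat.Prime 3) := ⟨by norm_num⟩
  have hc : Nat.card G = 3 ^ 1 * 175 := by rw [h]; norm_num
  have hm : ¬ 3 ∣ 175 := by norm_num
  have hmem := card_sylow_mem_candidates hc hm
  have hcand : sylowCandidates 3 175 = [1, 7, 25, 175] := by decide
  rw [hcand] at hmem
  simp only [List.mem_cons, List.not_mem_nil, or_false] at hmem
  have hlt := one_lt_card_sylow_of_card hc hm (by norm_num) (by norm_num)
  rcases hmem with hd | hd | hd | hd
  · omega
  · exact fact_kill hG 7 hd (by norm_num) (by rw [h]; decide)
  · exact burn_kill hc hm (by norm_num) 25 hd (by decide)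
  · exact burn_kill hc hm (by norm_num) 175 hd (by decide)

theorem no_526 {G : Type*} [Group G] [Finite G] [IsSimpleGroup G]
    (hG : ¬ IsMulCommutative G) (h : Nat.card G = 526) : False := by
  exact tp hG 2 263 1 1 (by norm_num) (by norm_num) (by rw [h]; norm_num)

theorem no_527 {G : Type*} [Group G] [Finite G] [IsSimpleGroup G]
    (hG : ¬ IsMulCommutative G) (h : Nat.card G = 527) : False := by
  exact tp hG 17 31 1 1 (by norm_num) (by norm_num) (by rw [h]; norm_num)

theorem no_528 {G : Type*} [Group G] [Finite G] [IsSimpleGroup G]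
    (hG : ¬ IsMulCommutative G) (h : Nat.card G = 528) : False := by
  have : Fact (Nat.Prime 11) := ⟨by norm_num⟩
  have hc : Nat.card G = 11 ^ 1 * 48 := by rw [h]; norm_num
  have hm : ¬ 11 ∣ 48 := by norm_num
  have hmem := card_sylow_mem_candidates hc hm
  have hcand : sylowCandidates 11 48 = [1, 12] := by decide
  rw [hcand] at hmem
  simp only [List.mem_cons, List.not_mem_nil, or_false] at hmem
  have hlt := one_lt_card_sylow_of_card hc hm (by norm_num) (by norm_num)
  rcases hmem with hd | hd
  · omega
  · exact perm_kill hG (by norm_num) hc hm hd 44 (by omega) (by decide)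

theorem no_529 {G : Type*} [Group G] [Finite G] [IsSimpleGroup G]
    (hG : ¬ IsMulCommutative G) (h : Nat.card G = 529) : False := by
  exact tp hG 23 2 2 0 (by norm_num) (by norm_num) (by rw [h]; norm_num)

theorem no_530 {G : Type*} [Group G] [Finite G] [IsSimpleGroup G]
    (hG : ¬ IsMulCommutative G) (h : Nat.card G = 530) : False := by
  exact ev hG (by rw [h]; exact ⟨265, by norm_num⟩) (by rw [h]; omega)

theorem no_531 {G : Type*} [Group G] [Finite G] [IsSimpleGroup G]
    (hG : ¬ IsMulCommutative G) (h : Nat.card G = 531) : False := by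
  exact tp hG 3 59 2 1 (by norm_num) (by norm_num) (by rw [h]; norm_num)

theorem no_532 {G : Type*} [Group G] [Finite G] [IsSimpleGroup G]
    (hG : ¬ IsMulCommutative G) (h : Nat.card G = 532) : False := by
  exact ev hG (by rw [h]; exact ⟨266, by norm_num⟩) (by rw [h]; omega)

theorem no_533 {G : Type*} [Group G] [Finite G] [IsSimpleGroup G]
    (hG : ¬ IsMulCommutative G) (h : Nat.card G = 533) : False := by
  exact tp hG 13 41 1 1 (by norm_num) (by norm_num) (by rw [h]; norm_num)

theorem no_534 {G : Type*} [Group G] [Finite G] [IsSimpleGroup G]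
    (hG : ¬ IsMulCommutative G) (h : Nat.card G = 534) : False := by
  exact ev hG (by rw [h]; exact ⟨267, by norm_num⟩) (by rw [h]; omega)

theorem no_535 {G : Type*} [Group G] [Finite G] [IsSimpleGroup G]
    (hG : ¬ IsMulCommutative G) (h : Nat.card G = 535) : False := by
  exact tp hG 5 107 1 1 (by norm_num) (by norm_num) (by rw [h]; norm_num)

theorem no_536 {G : Type*} [Group G] [Finite G] [IsSimpleGroup G]
    (hG : ¬ IsMulCommutative G) (h : Nat.card G = 536) : False := by
  exact tp hG 2 67 3 1 (by norm_num) (by norm_num) (by rw [h]; norm_num)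

theorem no_537 {G : Type*} [Group G] [Finite G] [IsSimpleGroup G]
    (hG : ¬ IsMulCommutative G) (h : Nat.card G = 537) : False := by
  exact tp hG 3 179 1 1 (by norm_num) (by norm_num) (by rw [h]; norm_num)

theorem no_538 {G : Type*} [Group G] [Finite G] [IsSimpleGroup G]
    (hG : ¬ IsMulCommutative G) (h : Nat.card G = 538) : False := by
  exact tp hG 2 269 1 1 (by norm_num) (by norm_num) (by rw [h]; norm_num)

theorem no_539 {G : Type*} [Group G] [Finite G] [IsSimpleGroup G]
    (hG : ¬ IsMulCommutative G) (h : Nat.card G = 539) : False := by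
  exact tp hG 7 11 2 1 (by norm_num) (by norm_num) (by rw [h]; norm_num)

theorem no_540 {G : Type*} [Group G] [Finite G] [IsSimpleGroup G]
    (hG : ¬ IsMulCommutative G) (h : Nat.card G = 540) : False := by
  have : Fact (Nat.Prime 5) := ⟨by norm_num⟩
  have hc : Nat.card G = 5 ^ 1 * 108 := by rw [h]; norm_num
  have hm : ¬ 5 ∣ 108 := by norm_num
  have hmem := card_sylow_mem_candidates hc hm
  have hcand : sylowCandidates 5 108 = [1, 6, 36] := by decide
  rw [hcand] at hmem
  simp only [List.mem_cons, List.not_mem_nil, or_false] at hmem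
  have hlt := one_lt_card_sylow_of_card hc hm (by norm_num) (by norm_num)
  rcases hmem with hd | hd | hd
  · omega
  · exact fact_kill hG 6 hd (by norm_num) (by rw [h]; decide)
  · exact burn_kill hc hm (by norm_num) 36 hd (by decide)

theorem no_541 {G : Type*} [Group G] [Finite G] [IsSimpleGroup G]
    (hG : ¬ IsMulCommutative G) (h : Nat.card G = 541) : False := by
  exact tp hG 541 2 1 0 (by norm_num) (by norm_num) (by rw [h]; norm_num)

theorem no_542 {G : Type*} [Group G] [Finite G] [IsSimpleGroup G]
    (hG : ¬ IsMulCommutative G) (h : Nat.card G = 542) : False := by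
  exact tp hG 2 271 1 1 (by norm_num) (by norm_num) (by rw [h]; norm_num)

theorem no_543 {G : Type*} [Group G] [Finite G] [IsSimpleGroup G]
    (hG : ¬ IsMulCommutative G) (h : Nat.card G = 543) : False := by
  exact tp hG 3 181 1 1 (by norm_num) (by norm_num) (by rw [h]; norm_num)

theorem no_544 {G : Type*} [Group G] [Finite G] [IsSimpleGroup G]
    (hG : ¬ IsMulCommutative G) (h : Nat.card G = 544) : False := by
  exact tp hG 2 17 5 1 (by norm_num) (by norm_num) (by rw [h]; norm_num)

theorem no_545 {G : Type*} [Group G] [Finite G] [IsSimpleGroup G]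
    (hG : ¬ IsMulCommutative G) (h : Nat.card G = 545) : False := by
  exact tp hG 5 109 1 1 (by norm_num) (by norm_num) (by rw [h]; norm_num)

theorem no_546 {G : Type*} [Group G] [Finite G] [IsSimpleGroup G]
    (hG : ¬ IsMulCommutative G) (h : Nat.card G = 546) : False := by
  exact ev hG (by rw [h]; exact ⟨273, by norm_num⟩) (by rw [h]; omega)

theorem no_547 {G : Type*} [Group G] [Finite G] [IsSimpleGroup G]
    (hG : ¬ IsMulCommutative G) (h : Nat.card G = 547) : False := by
  exact tp hG 547 2 1 0 (by norm_num) (by norm_num) (by rw [h]; norm_num)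

theorem no_548 {G : Type*} [Group G] [Finite G] [IsSimpleGroup G]
    (hG : ¬ IsMulCommutative G) (h : Nat.card G = 548) : False := by
  exact tp hG 2 137 2 1 (by norm_num) (by norm_num) (by rw [h]; norm_num)

theorem no_549 {G : Type*} [Group G] [Finite G] [IsSimpleGroup G]
    (hG : ¬ IsMulCommutative G) (h : Nat.card G = 549) : False := by
  exact tp hG 3 61 2 1 (by norm_num) (by norm_num) (by rw [h]; norm_num)

theorem no_550 {G : Type*} [Group G] [Finite G] [IsSimpleGroup G]
    (hG : ¬ IsMulCommutative G) (h : Nat.card G = 550) : False := by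
  exact ev hG (by rw [h]; exact ⟨275, by norm_num⟩) (by rw [h]; omega)

theorem no_551 {G : Type*} [Group G] [Finite G] [IsSimpleGroup G]
    (hG : ¬ IsMulCommutative G) (h : Nat.card G = 551) : False := by
  exact tp hG 19 29 1 1 (by norm_num) (by norm_num) (by rw [h]; norm_num)

theorem no_552 {G : Type*} [Group G] [Finite G] [IsSimpleGroup G]
    (hG : ¬ IsMulCommutative G) (h : Nat.card G = 552) : False := by
  have : Fact (Nat.Prime 23) := ⟨by norm_num⟩
  have hc : Nat.card G = 23 ^ 1 * 24 := by rw [h]; norm_num
  have hm : ¬ 23 ∣ 24 := by norm_num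
  have hmem := card_sylow_mem_candidates hc hm
  have hcand : sylowCandidates 23 24 = [1, 24] := by decide
  rw [hcand] at hmem
  simp only [List.mem_cons, List.not_mem_nil, or_false] at hmem
  have hlt := one_lt_card_sylow_of_card hc hm (by norm_num) (by norm_num)
  rcases hmem with hd | hd
  · omega
  · exact burn_kill hc hm (by norm_num) 24 hd (by decide)

theorem no_553 {G : Type*} [Group G] [Finite G] [IsSimpleGroup G]
    (hG : ¬ IsMulCommutative G) (h : Nat.card G = 553) : False := by
  exact tp hG 7 79 1 1 (by norm_num) (by norm_num) (by rw [h]; norm_num)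

theorem no_554 {G : Type*} [Group G] [Finite G] [IsSimpleGroup G]
    (hG : ¬ IsMulCommutative G) (h : Nat.card G = 554) : False := by
  exact tp hG 2 277 1 1 (by norm_num) (by norm_num) (by rw [h]; norm_num)

theorem no_555 {G : Type*} [Group G] [Finite G] [IsSimpleGroup G]
    (hG : ¬ IsMulCommutative G) (h : Nat.card G = 555) : False := by
  have : Fact (Nat.Prime 3) := ⟨by norm_num⟩
  have hc : Nat.card G = 3 ^ 1 * 185 := by rw [h]; norm_num
  have hm : ¬ 3 ∣ 185 := by norm_num
  have hmem := card_sylow_mem_candidates hc hm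
  have hcand : sylowCandidates 3 185 = [1, 37] := by decide
  rw [hcand] at hmem
  simp only [List.mem_cons, List.not_mem_nil, or_false] at hmem
  have hlt := one_lt_card_sylow_of_card hc hm (by norm_num) (by norm_num)
  rcases hmem with hd | hd
  · omega
  · exact burn_kill hc hm (by norm_num) 37 hd (by decide)

theorem no_556 {G : Type*} [Group G] [Finite G] [IsSimpleGroup G]
    (hG : ¬ IsMulCommutative G) (h : Nat.card G = 556) : False := by
  exact tp hG 2 139 2 1 (by norm_num) (by norm_num) (by rw [h]; norm_num)

theorem no_557 {G : Type*} [Group G] [Finite G] [IsSimpleGroup G]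
    (hG : ¬ IsMulCommutative G) (h : Nat.card G = 557) : False := by
  exact tp hG 557 2 1 0 (by norm_num) (by norm_num) (by rw [h]; norm_num)

theorem no_558 {G : Type*} [Group G] [Finite G] [IsSimpleGroup G]
    (hG : ¬ IsMulCommutative G) (h : Nat.card G = 558) : False := by
  exact ev hG (by rw [h]; exact ⟨279, by norm_num⟩) (by rw [h]; omega)

theorem no_559 {G : Type*} [Group G] [Finite G] [IsSimpleGroup G]
    (hG : ¬ IsMulCommutative G) (h : Nat.card G = 559) : False := by
  exact tp hG 13 43 1 1 (by norm_num) (by norm_num) (by rw [h]; norm_num)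

theorem no_560 {G : Type*} [Group G] [Finite G] [IsSimpleGroup G]
    (hG : ¬ IsMulCommutative G) (h : Nat.card G = 560) : False := by
  have : Fact (Nat.Prime 7) := ⟨by norm_num⟩
  have hc : Nat.card G = 7 ^ 1 * 80 := by rw [h]; norm_num
  have hm : ¬ 7 ∣ 80 := by norm_num
  have hmem := card_sylow_mem_candidates hc hm
  have hcand : sylowCandidates 7 80 = [1, 8] := by decide
  rw [hcand] at hmem
  simp only [List.mem_cons, List.not_mem_nil, or_false] at hmem
  have hlt := one_lt_card_sylow_of_card hc hm (by norm_num) (by norm_num)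
  rcases hmem with hd | hd
  · omega
  · exact perm_kill hG (by norm_num) hc hm hd 70 (by omega) (by decide)

theorem no_561 {G : Type*} [Group G] [Finite G] [IsSimpleGroup G]
    (hG : ¬ IsMulCommutative G) (h : Nat.card G = 561) : False := by
  have : Fact (Nat.Prime 3) := ⟨by norm_num⟩
  have hc : Nat.card G = 3 ^ 1 * 187 := by rw [h]; norm_num
  have hm : ¬ 3 ∣ 187 := by norm_num
  have hmem := card_sylow_mem_candidates hc hm
  have hcand : sylowCandidates 3 187 = [1, 187] := by decide
  rw [hcand] at hmem
  simp only [List.mem_cons, List.not_mem_nil, or_false] at hmem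
  have hlt := one_lt_card_sylow_of_card hc hm (by norm_num) (by norm_num)
  rcases hmem with hd | hd
  · omega
  · exact burn_kill hc hm (by norm_num) 187 hd (by decide)

theorem no_562 {G : Type*} [Group G] [Finite G] [IsSimpleGroup G]
    (hG : ¬ IsMulCommutative G) (h : Nat.card G = 562) : False := by
  exact tp hG 2 281 1 1 (by norm_num) (by norm_num) (by rw [h]; norm_num)

theorem no_563 {G : Type*} [Group G] [Finite G] [IsSimpleGroup G]
    (hG : ¬ IsMulCommutative G) (h : Nat.card G = 563) : False := by
  exact tp hG 563 2 1 0 (by norm_num) (by norm_num) (by rw [h]; norm_num)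

theorem no_564 {G : Type*} [Group G] [Finite G] [IsSimpleGroup G]
    (hG : ¬ IsMulCommutative G) (h : Nat.card G = 564) : False := by
  have : Fact (Nat.Prime 47) := ⟨by norm_num⟩
  have hc : Nat.card G = 47 ^ 1 * 12 := by rw [h]; norm_num
  have hm : ¬ 47 ∣ 12 := by norm_num
  have hmem := card_sylow_mem_candidates hc hm
  have hcand : sylowCandidates 47 12 = [1] := by decide
  rw [hcand] at hmem
  simp only [List.mem_cons, List.not_mem_nil, or_false] at hmem
  have hlt := one_lt_card_sylow_of_card hc hm (by norm_num) (by norm_num)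
  have hd := hmem
  · omega

theorem no_565 {G : Type*} [Group G] [Finite G] [IsSimpleGroup G]
    (hG : ¬ IsMulCommutative G) (h : Nat.card G = 565) : False := by
  exact tp hG 5 113 1 1 (by norm_num) (by norm_num) (by rw [h]; norm_num)

theorem no_566 {G : Type*} [Group G] [Finite G] [IsSimpleGroup G]
    (hG : ¬ IsMulCommutative G) (h : Nat.card G = 566) : False := by
  exact tp hG 2 283 1 1 (by norm_num) (by norm_num) (by rw [h]; norm_num)

theorem no_567 {G : Type*} [Group G] [Finite G] [IsSimpleGroup G]
    (hG : ¬ IsMulCommutative G) (h : Nat.card G = 567) : False := by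
  exact tp hG 3 7 4 1 (by norm_num) (by norm_num) (by rw [h]; norm_num)

theorem no_568 {G : Type*} [Group G] [Finite G] [IsSimpleGroup G]
    (hG : ¬ IsMulCommutative G) (h : Nat.card G = 568) : False := by
  exact tp hG 2 71 3 1 (by norm_num) (by norm_num) (by rw [h]; norm_num)

theorem no_569 {G : Type*} [Group G] [Finite G] [IsSimpleGroup G]
    (hG : ¬ IsMulCommutative G) (h : Nat.card G = 569) : False := by
  exact tp hG 569 2 1 0 (by norm_num) (by norm_num) (by rw [h]; norm_num)

theorem no_570 {G : Type*} [Group G] [Finite G] [IsSimpleGroup G]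
    (hG : ¬ IsMulCommutative G) (h : Nat.card G = 570) : False := by
  exact ev hG (by rw [h]; exact ⟨285, by norm_num⟩) (by rw [h]; omega)

theorem no_571 {G : Type*} [Group G] [Finite G] [IsSimpleGroup G]
    (hG : ¬ IsMulCommutative G) (h : Nat.card G = 571) : False := by
  exact tp hG 571 2 1 0 (by norm_num) (by norm_num) (by rw [h]; norm_num)

theorem no_572 {G : Type*} [Group G] [Finite G] [IsSimpleGroup G]
    (hG : ¬ IsMulCommutative G) (h : Nat.card G = 572) : False := by
  exact ev hG (by rw [h]; exact ⟨286, by norm_num⟩) (by rw [h]; omega)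

theorem no_573 {G : Type*} [Group G] [Finite G] [IsSimpleGroup G]
    (hG : ¬ IsMulCommutative G) (h : Nat.card G = 573) : False := by
  exact tp hG 3 191 1 1 (by norm_num) (by norm_num) (by rw [h]; norm_num)

theorem no_574 {G : Type*} [Group G] [Finite G] [IsSimpleGroup G]
    (hG : ¬ IsMulCommutative G) (h : Nat.card G = 574) : False := by
  exact ev hG (by rw [h]; exact ⟨287, by norm_num⟩) (by rw [h]; omega)

theorem no_575 {G : Type*} [Group G] [Finite G] [IsSimpleGroup G]
    (hG : ¬ IsMulCommutative G) (h : Nat.card G = 575) : False := by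
  exact tp hG 5 23 2 1 (by norm_num) (by norm_num) (by rw [h]; norm_num)

theorem no_576 {G : Type*} [Group G] [Finite G] [IsSimpleGroup G]
    (hG : ¬ IsMulCommutative G) (h : Nat.card G = 576) : False := by
  exact tp hG 2 3 6 2 (by norm_num) (by norm_num) (by rw [h]; norm_num)

theorem no_577 {G : Type*} [Group G] [Finite G] [IsSimpleGroup G]
    (hG : ¬ IsMulCommutative G) (h : Nat.card G = 577) : False := by
  exact tp hG 577 2 1 0 (by norm_num) (by norm_num) (by rw [h]; norm_num)

theorem no_578 {G : Type*} [Group G] [Finite G] [IsSimpleGroup G]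
    (hG : ¬ IsMulCommutative G) (h : Nat.card G = 578) : False := by
  exact tp hG 2 17 1 2 (by norm_num) (by norm_num) (by rw [h]; norm_num)

theorem no_579 {G : Type*} [Group G] [Finite G] [IsSimpleGroup G]
    (hG : ¬ IsMulCommutative G) (h : Nat.card G = 579) : False := by
  exact tp hG 3 193 1 1 (by norm_num) (by norm_num) (by rw [h]; norm_num)

theorem no_580 {G : Type*} [Group G] [Finite G] [IsSimpleGroup G]
    (hG : ¬ IsMulCommutative G) (h : Nat.card G = 580) : False := by
  exact ev hG (by rw [h]; exact ⟨290, by norm_num⟩) (by rw [h]; omega)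

theorem no_581 {G : Type*} [Group G] [Finite G] [IsSimpleGroup G]
    (hG : ¬ IsMulCommutative G) (h : Nat.card G = 581) : False := by
  exact tp hG 7 83 1 1 (by norm_num) (by norm_num) (by rw [h]; norm_num)

theorem no_582 {G : Type*} [Group G] [Finite G] [IsSimpleGroup G]
    (hG : ¬ IsMulCommutative G) (h : Nat.card G = 582) : False := by
  exact ev hG (by rw [h]; exact ⟨291, by norm_num⟩) (by rw [h]; omega)

theorem no_583 {G : Type*} [Group G] [Finite G] [IsSimpleGroup G]
    (hG : ¬ IsMulCommutative G) (h : Nat.card G = 583) : False := by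
  exact tp hG 11 53 1 1 (by norm_num) (by norm_num) (by rw [h]; norm_num)

theorem no_584 {G : Type*} [Group G] [Finite G] [IsSimpleGroup G]
    (hG : ¬ IsMulCommutative G) (h : Nat.card G = 584) : False := by
  exact tp hG 2 73 3 1 (by norm_num) (by norm_num) (by rw [h]; norm_num)

theorem no_585 {G : Type*} [Group G] [Finite G] [IsSimpleGroup G]
    (hG : ¬ IsMulCommutative G) (h : Nat.card G = 585) : False := by
  have : Fact (Nat.Prime 5) := ⟨by norm_num⟩
  have hc : Nat.card G = 5 ^ 1 * 117 := by rw [h]; norm_num
  have hm : ¬ 5 ∣ 117 := by norm_num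
  have hmem := card_sylow_mem_candidates hc hm
  have hcand : sylowCandidates 5 117 = [1] := by decide
  rw [hcand] at hmem
  simp only [List.mem_cons, List.not_mem_nil, or_false] at hmem
  have hlt := one_lt_card_sylow_of_card hc hm (by norm_num) (by norm_num)
  have hd := hmem
  · omega

theorem no_586 {G : Type*} [Group G] [Finite G] [IsSimpleGroup G]
    (hG : ¬ IsMulCommutative G) (h : Nat.card G = 586) : False := by
  exact tp hG 2 293 1 1 (by norm_num) (by norm_num) (by rw [h]; norm_num)

theorem no_587 {G : Type*} [Group G] [Finite G] [IsSimpleGroup G]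
    (hG : ¬ IsMulCommutative G) (h : Nat.card G = 587) : False := by
  exact tp hG 587 2 1 0 (by norm_num) (by norm_num) (by rw [h]; norm_num)

theorem no_588 {G : Type*} [Group G] [Finite G] [IsSimpleGroup G]
    (hG : ¬ IsMulCommutative G) (h : Nat.card G = 588) : False := by
  have : Fact (Nat.Prime 7) := ⟨by norm_num⟩
  have hc : Nat.card G = 7 ^ 2 * 12 := by rw [h]; norm_num
  have hm : ¬ 7 ∣ 12 := by norm_num
  have hmem := card_sylow_mem_candidates hc hm
  have hcand : sylowCandidates 7 12 = [1] := by decide
  rw [hcand] at hmem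
  simp only [List.mem_cons, List.not_mem_nil, or_false] at hmem
  have hlt := one_lt_card_sylow_of_card hc hm (by norm_num) (by norm_num)
  have hd := hmem
  · omega

theorem no_589 {G : Type*} [Group G] [Finite G] [IsSimpleGroup G]
    (hG : ¬ IsMulCommutative G) (h : Nat.card G = 589) : False := by
  exact tp hG 19 31 1 1 (by norm_num) (by norm_num) (by rw [h]; norm_num)

theorem no_590 {G : Type*} [Group G] [Finite G] [IsSimpleGroup G]
    (hG : ¬ IsMulCommutative G) (h : Nat.card G = 590) : False := by
  exact ev hG (by rw [h]; exact ⟨295, by norm_num⟩) (by rw [h]; omega)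

theorem no_591 {G : Type*} [Group G] [Finite G] [IsSimpleGroup G]
    (hG : ¬ IsMulCommutative G) (h : Nat.card G = 591) : False := by
  exact tp hG 3 197 1 1 (by norm_num) (by norm_num) (by rw [h]; norm_num)

theorem no_592 {G : Type*} [Group G] [Finite G] [IsSimpleGroup G]
    (hG : ¬ IsMulCommutative G) (h : Nat.card G = 592) : False := by
  exact tp hG 2 37 4 1 (by norm_num) (by norm_num) (by rw [h]; norm_num)

theorem no_593 {G : Type*} [Group G] [Finite G] [IsSimpleGroup G]
    (hG : ¬ IsMulCommutative G) (h : Nat.card G = 593) : False := by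
  exact tp hG 593 2 1 0 (by norm_num) (by norm_num) (by rw [h]; norm_num)

theorem no_594 {G : Type*} [Group G] [Finite G] [IsSimpleGroup G]
    (hG : ¬ IsMulCommutative G) (h : Nat.card G = 594) : False := by
  exact ev hG (by rw [h]; exact ⟨297, by norm_num⟩) (by rw [h]; omega)

theorem no_595 {G : Type*} [Group G] [Finite G] [IsSimpleGroup G]
    (hG : ¬ IsMulCommutative G) (h : Nat.card G = 595) : False := by
  have : Fact (Nat.Prime 5) := ⟨by norm_num⟩
  have hc : Nat.card G = 5 ^ 1 * 119 := by rw [h]; norm_num
  have hm : ¬ 5 ∣ 119 := by norm_num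
  have hmem := card_sylow_mem_candidates hc hm
  have hcand : sylowCandidates 5 119 = [1] := by decide
  rw [hcand] at hmem
  simp only [List.mem_cons, List.not_mem_nil, or_false] at hmem
  have hlt := one_lt_card_sylow_of_card hc hm (by norm_num) (by norm_num)
  have hd := hmem
  · omega

theorem no_596 {G : Type*} [Group G] [Finite G] [IsSimpleGroup G]
    (hG : ¬ IsMulCommutative G) (h : Nat.card G = 596) : False := by
  exact tp hG 2 149 2 1 (by norm_num) (by norm_num) (by rw [h]; norm_num)

theorem no_597 {G : Type*} [Group G] [Finite G] [IsSimpleGroup G]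
    (hG : ¬ IsMulCommutative G) (h : Nat.card G = 597) : False := by
  exact tp hG 3 199 1 1 (by norm_num) (by norm_num) (by rw [h]; norm_num)

theorem no_598 {G : Type*} [Group G] [Finite G] [IsSimpleGroup G]
    (hG : ¬ IsMulCommutative G) (h : Nat.card G = 598) : False := by
  exact ev hG (by rw [h]; exact ⟨299, by norm_num⟩) (by rw [h]; omega)

theorem no_599 {G : Type*} [Group G] [Finite G] [IsSimpleGroup G]
    (hG : ¬ IsMulCommutative G) (h : Nat.card G = 599) : False := by
  exact tp hG 599 2 1 0 (by norm_num) (by norm_num) (by rw [h]; norm_num)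

theorem no_600 {G : Type*} [Group G] [Finite G] [IsSimpleGroup G]
    (hG : ¬ IsMulCommutative G) (h : Nat.card G = 600) : False := by
  have : Fact (Nat.Prime 5) := ⟨by norm_num⟩
  have hc : Nat.card G = 5 ^ 2 * 24 := by rw [h]; norm_num
  have hm : ¬ 5 ∣ 24 := by norm_num
  have hmem := card_sylow_mem_candidates hc hm
  have hcand : sylowCandidates 5 24 = [1, 6] := by decide
  rw [hcand] at hmem
  simp only [List.mem_cons, List.not_mem_nil, or_false] at hmem
  have hlt := one_lt_card_sylow_of_card hc hm (by norm_num) (by norm_num)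
  rcases hmem with hd | hd
  · omega
  · exact fact_kill hG 6 hd (by norm_num) (by rw [h]; decide)

/-- the orders in [501, 600] not excluded by the engine -/
theorem chunk {G : Type*} [Group G] [Finite G] [IsSimpleGroup G]
    (hG : ¬ IsMulCommutative G) (n : ℕ) (hn : Nat.card G = n) (h1 : 501 ≤ n) (h2 : n ≤ 600) :
    n = 504 := by
  interval_cases n
  · exact (no_501 hG hn).elim
  · exact (no_502 hG hn).elim
  · exact (no_503 hG hn).elim
  · simp
  · exact (no_505 hG hn).elim
  · exact (no_506 hG hn).elim
  · exact (no_507 hG hn).elim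
  · exact (no_508 hG hn).elim
  · exact (no_509 hG hn).elim
  · exact (no_510 hG hn).elim
  · exact (no_511 hG hn).elim
  · exact (no_512 hG hn).elim
  · exact (no_513 hG hn).elim
  · exact (no_514 hG hn).elim
  · exact (no_515 hG hn).elim
  · exact (no_516 hG hn).elim
  · exact (no_517 hG hn).elim
  · exact (no_518 hG hn).elim
  · exact (no_519 hG hn).elim
  · exact (no_520 hG hn).elim
  · exact (no_521 hG hn).elim
  · exact (no_522 hG hn).elim
  · exact (no_523 hG hn).elim
  · exact (no_524 hG hn).elim
  · exact (no_525 hG hn).elim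
  · exact (no_526 hG hn).elim
  · exact (no_527 hG hn).elim
  · exact (no_528 hG hn).elim
  · exact (no_529 hG hn).elim
  · exact (no_530 hG hn).elim
  · exact (no_531 hG hn).elim
  · exact (no_532 hG hn).elim
  · exact (no_533 hG hn).elim
  · exact (no_534 hG hn).elim
  · exact (no_535 hG hn).elim
  · exact (no_536 hG hn).elim
  · exact (no_537 hG hn).elim
  · exact (no_538 hG hn).elim
  · exact (no_539 hG hn).elim
  · exact (no_540 hG hn).elim
  · exact (no_541 hG hn).elim
  · exact (no_542 hG hn).elim
  · exact (no_543 hG hn).elim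
  · exact (no_544 hG hn).elim
  · exact (no_545 hG hn).elim
  · exact (no_546 hG hn).elim
  · exact (no_547 hG hn).elim
  · exact (no_548 hG hn).elim
  · exact (no_549 hG hn).elim
  · exact (no_550 hG hn).elim
  · exact (no_551 hG hn).elim
  · exact (no_552 hG hn).elim
  · exact (no_553 hG hn).elim
  · exact (no_554 hG hn).elim
  · exact (no_555 hG hn).elim
  · exact (no_556 hG hn).elim
  · exact (no_557 hG hn).elim
  · exact (no_558 hG hn).elim
  · exact (no_559 hG hn).elim
  · exact (no_560 hG hn).elim
  · exact (no_561 hG hn).elim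
  · exact (no_562 hG hn).elim
  · exact (no_563 hG hn).elim
  · exact (no_564 hG hn).elim
  · exact (no_565 hG hn).elim
  · exact (no_566 hG hn).elim
  · exact (no_567 hG hn).elim
  · exact (no_568 hG hn).elim
  · exact (no_569 hG hn).elim
  · exact (no_570 hG hn).elim
  · exact (no_571 hG hn).elim
  · exact (no_572 hG hn).elim
  · exact (no_573 hG hn).elim
  · exact (no_574 hG hn).elim
  · exact (no_575 hG hn).elim
  · exact (no_576 hG hn).elim
  · exact (no_577 hG hn).elim
  · exact (no_578 hG hn).elim
  · exact (no_579 hG hn).elim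
  · exact (no_580 hG hn).elim
  · exact (no_581 hG hn).elim
  · exact (no_582 hG hn).elim
  · exact (no_583 hG hn).elim
  · exact (no_584 hG hn).elim
  · exact (no_585 hG hn).elim
  · exact (no_586 hG hn).elim
  · exact (no_587 hG hn).elim
  · exact (no_588 hG hn).elim
  · exact (no_589 hG hn).elim
  · exact (no_590 hG hn).elim
  · exact (no_591 hG hn).elim
  · exact (no_592 hG hn).elim
  · exact (no_593 hG hn).elim
  · exact (no_594 hG hn).elim
  · exact (no_595 hG hn).elim
  · exact (no_596 hG hn).elim
  · exact (no_597 hG hn).elim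
  · exact (no_598 hG hn).elim
  · exact (no_599 hG hn).elim
  · exact (no_600 hG hn).elim

end Cfsg.Agent.Lib.Helper75_SM_E4
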