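import Mathlib
import Cfsg.Agent.Lib.Helper75_SM_Base

/-!
# S0496 engine, generated file: no simple group of order N for the easy N in [601, 700] (helper75)
-/

set_option autoImplicit false

namespace Cfsg.Agent.Lib.Helper75_SM_E5

open Cfsg.Agent.Lib.Helper17_Sylow Cfsg.Agent.Lib.Helper75_SM_Base

theorem no_601 {G : Type*} [Group G] [Finite G] [IsSimpleGroup G]
    (hG : ¬ IsMulCommutative G) (h : Nat.card G = 601) : False := by
  exact tp hG 601 2 1 0 (by norm_num) (by norm_num) (by rw [h]; norm_num)

theorem no_602 {G : Type*} [Group G] [Finite G] [IsSimpleGroup G]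
    (hG : ¬ IsMulCommutative G) (h : Nat.card G = 602) : False := by
  exact ev hG (by rw [h]; exact ⟨301, by norm_num⟩) (by rw [h]; omega)

theorem no_603 {G : Type*} [Group G] [Finite G] [IsSimpleGroup G]
    (hG : ¬ IsMulCommutative G) (h : Nat.card G = 603) : False := by
  exact tp hG 3 67 2 1 (by norm_num) (by norm_num) (by rw [h]; norm_num)

theorem no_604 {G : Type*} [Group G] [Finite G] [IsSimpleGroup G]
    (hG : ¬ IsMulCommutative G) (h : Nat.card G = 604) : False := by
  exact tp hG 2 151 2 1 (by norm_num) (by norm_num) (by rw [h]; norm_num)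

theorem no_605 {G : Type*} [Group G] [Finite G] [IsSimpleGroup G]
    (hG : ¬ IsMulCommutative G) (h : Nat.card G = 605) : False := by
  exact tp hG 5 11 1 2 (by norm_num) (by norm_num) (by rw [h]; norm_num)

theorem no_606 {G : Type*} [Group G] [Finite G] [IsSimpleGroup G]
    (hG : ¬ IsMulCommutative G) (h : Nat.card G = 606) : False := by
  exact ev hG (by rw [h]; exact ⟨303, by norm_num⟩) (by rw [h]; omega)

theorem no_607 {G : Type*} [Group G] [Finite G] [IsSimpleGroup G]
    (hG : ¬ IsMulCommutative G) (h : Nat.card G = 607) : False := by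
  exact tp hG 607 2 1 0 (by norm_num) (by norm_num) (by rw [h]; norm_num)

theorem no_608 {G : Type*} [Group G] [Finite G] [IsSimpleGroup G]
    (hG : ¬ IsMulCommutative G) (h : Nat.card G = 608) : False := by
  exact tp hG 2 19 5 1 (by norm_num) (by norm_num) (by rw [h]; norm_num)

theorem no_609 {G : Type*} [Group G] [Finite G] [IsSimpleGroup G]
    (hG : ¬ IsMulCommutative G) (h : Nat.card G = 609) : False := by
  have : Fact (Nat.Prime 3) := ⟨by norm_num⟩
  have hc : Nat.card G = 3 ^ 1 * 203 := by rw [h]; norm_num
  have hm : ¬ 3 ∣ 203 := by norm_num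
  have hmem := card_sylow_mem_candidates hc hm
  have hcand : sylowCandidates 3 203 = [1, 7] := by decide
  rw [hcand] at hmem
  simp only [List.mem_cons, List.not_mem_nil, or_false] at hmem
  have hlt := one_lt_card_sylow_of_card hc hm (by norm_num) (by norm_num)
  rcases hmem with hd | hd
  · omega
  · exact fact_kill hG 7 hd (by norm_num) (by rw [h]; decide)

theorem no_610 {G : Type*} [Group G] [Finite G] [IsSimpleGroup G]
    (hG : ¬ IsMulCommutative G) (h : Nat.card G = 610) : False := by
  exact ev hG (by rw [h]; exact ⟨305, by norm_num⟩) (by rw [h]; omega)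

theorem no_611 {G : Type*} [Group G] [Finite G] [IsSimpleGroup G]
    (hG : ¬ IsMulCommutative G) (h : Nat.card G = 611) : False := by
  exact tp hG 13 47 1 1 (by norm_num) (by norm_num) (by rw [h]; norm_num)

theorem no_613 {G : Type*} [Group G] [Finite G] [IsSimpleGroup G]
    (hG : ¬ IsMulCommutative G) (h : Nat.card G = 613) : False := by
  exact tp hG 613 2 1 0 (by norm_num) (by norm_num) (by rw [h]; norm_num)

theorem no_614 {G : Type*} [Group G] [Finite G] [IsSimpleGroup G]
    (hG : ¬ IsMulCommutative G) (h : Nat.card G = 614) : False := by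
  exact tp hG 2 307 1 1 (by norm_num) (by norm_num) (by rw [h]; norm_num)

theorem no_615 {G : Type*} [Group G] [Finite G] [IsSimpleGroup G]
    (hG : ¬ IsMulCommutative G) (h : Nat.card G = 615) : False := by
  have : Fact (Nat.Prime 3) := ⟨by norm_num⟩
  have hc : Nat.card G = 3 ^ 1 * 205 := by rw [h]; norm_num
  have hm : ¬ 3 ∣ 205 := by norm_num
  have hmem := card_sylow_mem_candidates hc hm
  have hcand : sylowCandidates 3 205 = [1, 205] := by decide
  rw [hcand] at hmem
  simp only [List.mem_cons, List.not_mem_nil, or_false] at hmem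
  have hlt := one_lt_card_sylow_of_card hc hm (by norm_num) (by norm_num)
  rcases hmem with hd | hd
  · omega
  · exact burn_kill hc hm (by norm_num) 205 hd (by decide)

theorem no_616 {G : Type*} [Group G] [Finite G] [IsSimpleGroup G]
    (hG : ¬ IsMulCommutative G) (h : Nat.card G = 616) : False := by
  have : Fact (Nat.Prime 11) := ⟨by norm_num⟩
  have hc : Nat.card G = 11 ^ 1 * 56 := by rw [h]; norm_num
  have hm : ¬ 11 ∣ 56 := by norm_num
  have hmem := card_sylow_mem_candidates hc hm
  have hcand : sylowCandidates 11 56 = [1, 56] := by decide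
  rw [hcand] at hmem
  simp only [List.mem_cons, List.not_mem_nil, or_false] at hmem
  have hlt := one_lt_card_sylow_of_card hc hm (by norm_num) (by norm_num)
  rcases hmem with hd | hd
  · omega
  · exact burn_kill hc hm (by norm_num) 56 hd (by decide)

theorem no_617 {G : Type*} [Group G] [Finite G] [IsSimpleGroup G]
    (hG : ¬ IsMulCommutative G) (h : Nat.card G = 617) : False := by
  exact tp hG 617 2 1 0 (by norm_num) (by norm_num) (by rw [h]; norm_num)

theorem no_618 {G : Type*} [Group G] [Finite G] [IsSimpleGroup G]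
    (hG : ¬ IsMulCommutative G) (h : Nat.card G = 618) : False := by
  exact ev hG (by rw [h]; exact ⟨309, by norm_num⟩) (by rw [h]; omega)

theorem no_619 {G : Type*} [Group G] [Finite G] [IsSimpleGroup G]
    (hG : ¬ IsMulCommutative G) (h : Nat.card G = 619) : False := by
  exact tp hG 619 2 1 0 (by norm_num) (by norm_num) (by rw [h]; norm_num)

theorem no_620 {G : Type*} [Group G] [Finite G] [IsSimpleGroup G]
    (hG : ¬ IsMulCommutative G) (h : Nat.card G = 620) : False := by
  exact ev hG (by rw [h]; exact ⟨310, by norm_num⟩) (by rw [h]; omega)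

theorem no_621 {G : Type*} [Group G] [Finite G] [IsSimpleGroup G]
    (hG : ¬ IsMulCommutative G) (h : Nat.card G = 621) : False := by
  exact tp hG 3 23 3 1 (by norm_num) (by norm_num) (by rw [h]; norm_num)

theorem no_622 {G : Type*} [Group G] [Finite G] [IsSimpleGroup G]
    (hG : ¬ IsMulCommutative G) (h : Nat.card G = 622) : False := by
  exact tp hG 2 311 1 1 (by norm_num) (by norm_num) (by rw [h]; norm_num)

theorem no_623 {G : Type*} [Group G] [Finite G] [IsSimpleGroup G]
    (hG : ¬ IsMulCommutative G) (h : Nat.card G = 623) : False := by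
  exact tp hG 7 89 1 1 (by norm_num) (by norm_num) (by rw [h]; norm_num)

theorem no_624 {G : Type*} [Group G] [Finite G] [IsSimpleGroup G]
    (hG : ¬ IsMulCommutative G) (h : Nat.card G = 624) : False := by
  have : Fact (Nat.Prime 13) := ⟨by norm_num⟩
  have hc : Nat.card G = 13 ^ 1 * 48 := by rw [h]; norm_num
  have hm : ¬ 13 ∣ 48 := by norm_num
  have hmem := card_sylow_mem_candidates hc hm
  have hcand : sylowCandidates 13 48 = [1] := by decide
  rw [hcand] at hmem
  simp only [List.mem_cons, List.not_mem_nil, or_false] at hmem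
  have hlt := one_lt_card_sylow_of_card hc hm (by norm_num) (by norm_num)
  have hd := hmem
  · omega

theorem no_625 {G : Type*} [Group G] [Finite G] [IsSimpleGroup G]
    (hG : ¬ IsMulCommutative G) (h : Nat.card G = 625) : False := by
  exact tp hG 5 2 4 0 (by norm_num) (by norm_num) (by rw [h]; norm_num)

theorem no_626 {G : Type*} [Group G] [Finite G] [IsSimpleGroup G]
    (hG : ¬ IsMulCommutative G) (h : Nat.card G = 626) : False := by
  exact tp hG 2 313 1 1 (by norm_num) (by norm_num) (by rw [h]; norm_num)

theorem no_627 {G : Type*} [Group G] [Finite G] [IsSimpleGroup G]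
    (hG : ¬ IsMulCommutative G) (h : Nat.card G = 627) : False := by
  have : Fact (Nat.Prime 3) := ⟨by norm_num⟩
  have hc : Nat.card G = 3 ^ 1 * 209 := by rw [h]; norm_num
  have hm : ¬ 3 ∣ 209 := by norm_num
  have hmem := card_sylow_mem_candidates hc hm
  have hcand : sylowCandidates 3 209 = [1, 19] := by decide
  rw [hcand] at hmem
  simp only [List.mem_cons, List.not_mem_nil, or_false] at hmem
  have hlt := one_lt_card_sylow_of_card hc hm (by norm_num) (by norm_num)
  rcases hmem with hd | hd
  · omega
  · exact burn_kill hc hm (by norm_num) 19 hd (by decide)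

theorem no_628 {G : Type*} [Group G] [Finite G] [IsSimpleGroup G]
    (hG : ¬ IsMulCommutative G) (h : Nat.card G = 628) : False := by
  exact tp hG 2 157 2 1 (by norm_num) (by norm_num) (by rw [h]; norm_num)

theorem no_629 {G : Type*} [Group G] [Finite G] [IsSimpleGroup G]
    (hG : ¬ IsMulCommutative G) (h : Nat.card G = 629) : False := by
  exact tp hG 17 37 1 1 (by norm_num) (by norm_num) (by rw [h]; norm_num)

theorem no_630 {G : Type*} [Group G] [Finite G] [IsSimpleGroup G]
    (hG : ¬ IsMulCommutative G) (h : Nat.card G = 630) : False := by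
  exact ev hG (by rw [h]; exact ⟨315, by norm_num⟩) (by rw [h]; omega)

theorem no_631 {G : Type*} [Group G] [Finite G] [IsSimpleGroup G]
    (hG : ¬ IsMulCommutative G) (h : Nat.card G = 631) : False := by
  exact tp hG 631 2 1 0 (by norm_num) (by norm_num) (by rw [h]; norm_num)

theorem no_632 {G : Type*} [Group G] [Finite G] [IsSimpleGroup G]
    (hG : ¬ IsMulCommutative G) (h : Nat.card G = 632) : False := by
  exact tp hG 2 79 3 1 (by norm_num) (by norm_num) (by rw [h]; norm_num)

theorem no_633 {G : Type*} [Group G] [Finite G] [IsSimpleGroup G]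
    (hG : ¬ IsMulCommutative G) (h : Nat.card G = 633) : False := by
  exact tp hG 3 211 1 1 (by norm_num) (by norm_num) (by rw [h]; norm_num)

theorem no_634 {G : Type*} [Group G] [Finite G] [IsSimpleGroup G]
    (hG : ¬ IsMulCommutative G) (h : Nat.card G = 634) : False := by
  exact tp hG 2 317 1 1 (by norm_num) (by norm_num) (by rw [h]; norm_num)

theorem no_635 {G : Type*} [Group G] [Finite G] [IsSimpleGroup G]
    (hG : ¬ IsMulCommutative G) (h : Nat.card G = 635) : False := by
  exact tp hG 5 127 1 1 (by norm_num) (by norm_num) (by rw [h]; norm_num)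

theorem no_636 {G : Type*} [Group G] [Finite G] [IsSimpleGroup G]
    (hG : ¬ IsMulCommutative G) (h : Nat.card G = 636) : False := by
  have : Fact (Nat.Prime 53) := ⟨by norm_num⟩
  have hc : Nat.card G = 53 ^ 1 * 12 := by rw [h]; norm_num
  have hm : ¬ 53 ∣ 12 := by norm_num
  have hmem := card_sylow_mem_candidates hc hm
  have hcand : sylowCandidates 53 12 = [1] := by decide
  rw [hcand] at hmem
  simp only [List.mem_cons, List.not_mem_nil, or_false] at hmem
  have hlt := one_lt_card_sylow_of_card hc hm (by norm_num) (by norm_num)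
  have hd := hmem
  · omega

theorem no_637 {G : Type*} [Group G] [Finite G] [IsSimpleGroup G]
    (hG : ¬ IsMulCommutative G) (h : Nat.card G = 637) : False := by
  exact tp hG 7 13 2 1 (by norm_num) (by norm_num) (by rw [h]; norm_num)

theorem no_638 {G : Type*} [Group G] [Finite G] [IsSimpleGroup G]
    (hG : ¬ IsMulCommutative G) (h : Nat.card G = 638) : False := by
  exact ev hG (by rw [h]; exact ⟨319, by norm_num⟩) (by rw [h]; omega)

theorem no_639 {G : Type*} [Group G] [Finite G] [IsSimpleGroup G]
    (hG : ¬ IsMulCommutative G) (h : Nat.card G = 639) : False := by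
  exact tp hG 3 71 2 1 (by norm_num) (by norm_num) (by rw [h]; norm_num)

theorem no_640 {G : Type*} [Group G] [Finite G] [IsSimpleGroup G]
    (hG : ¬ IsMulCommutative G) (h : Nat.card G = 640) : False := by
  exact tp hG 2 5 7 1 (by norm_num) (by norm_num) (by rw [h]; norm_num)

theorem no_641 {G : Type*} [Group G] [Finite G] [IsSimpleGroup G]
    (hG : ¬ IsMulCommutative G) (h : Nat.card G = 641) : False := by
  exact tp hG 641 2 1 0 (by norm_num) (by norm_num) (by rw [h]; norm_num)

theorem no_642 {G : Type*} [Group G] [Finite G] [IsSimpleGroup G]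
    (hG : ¬ IsMulCommutative G) (h : Nat.card G = 642) : False := by
  exact ev hG (by rw [h]; exact ⟨321, by norm_num⟩) (by rw [h]; omega)

theorem no_643 {G : Type*} [Group G] [Finite G] [IsSimpleGroup G]
    (hG : ¬ IsMulCommutative G) (h : Nat.card G = 643) : False := by
  exact tp hG 643 2 1 0 (by norm_num) (by norm_num) (by rw [h]; norm_num)

theorem no_644 {G : Type*} [Group G] [Finite G] [IsSimpleGroup G]
    (hG : ¬ IsMulCommutative G) (h : Nat.card G = 644) : False := by
  exact ev hG (by rw [h]; exact ⟨322, by norm_num⟩) (by rw [h]; omega)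

theorem no_645 {G : Type*} [Group G] [Finite G] [IsSimpleGroup G]
    (hG : ¬ IsMulCommutative G) (h : Nat.card G = 645) : False := by
  have : Fact (Nat.Prime 3) := ⟨by norm_num⟩
  have hc : Nat.card G = 3 ^ 1 * 215 := by rw [h]; norm_num
  have hm : ¬ 3 ∣ 215 := by norm_num
  have hmem := card_sylow_mem_candidates hc hm
  have hcand : sylowCandidates 3 215 = [1, 43] := by decide
  rw [hcand] at hmem
  simp only [List.mem_cons, List.not_mem_nil, or_false] at hmem
  have hlt := one_lt_card_sylow_of_card hc hm (by norm_num) (by norm_num)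
  rcases hmem with hd | hd
  · omega
  · exact burn_kill hc hm (by norm_num) 43 hd (by decide)

theorem no_646 {G : Type*} [Group G] [Finite G] [IsSimpleGroup G]
    (hG : ¬ IsMulCommutative G) (h : Nat.card G = 646) : False := by
  exact ev hG (by rw [h]; exact ⟨323, by norm_num⟩) (by rw [h]; omega)

theorem no_647 {G : Type*} [Group G] [Finite G] [IsSimpleGroup G]
    (hG : ¬ IsMulCommutative G) (h : Nat.card G = 647) : False := by
  exact tp hG 647 2 1 0 (by norm_num) (by norm_num) (by rw [h]; norm_num)

theorem no_648 {G : Type*} [Group G] [Finite G] [IsSimpleGroup G]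
    (hG : ¬ IsMulCommutative G) (h : Nat.card G = 648) : False := by
  exact tp hG 2 3 3 4 (by norm_num) (by norm_num) (by rw [h]; norm_num)

theorem no_649 {G : Type*} [Group G] [Finite G] [IsSimpleGroup G]
    (hG : ¬ IsMulCommutative G) (h : Nat.card G = 649) : False := by
  exact tp hG 11 59 1 1 (by norm_num) (by norm_num) (by rw [h]; norm_num)

theorem no_650 {G : Type*} [Group G] [Finite G] [IsSimpleGroup G]
    (hG : ¬ IsMulCommutative G) (h : Nat.card G = 650) : False := by
  exact ev hG (by rw [h]; exact ⟨325, by norm_num⟩) (by rw [h]; omega)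

theorem no_651 {G : Type*} [Group G] [Finite G] [IsSimpleGroup G]
    (hG : ¬ IsMulCommutative G) (h : Nat.card G = 651) : False := by
  have : Fact (Nat.Prime 3) := ⟨by norm_num⟩
  have hc : Nat.card G = 3 ^ 1 * 217 := by rw [h]; norm_num
  have hm : ¬ 3 ∣ 217 := by norm_num
  have hmem := card_sylow_mem_candidates hc hm
  have hcand : sylowCandidates 3 217 = [1, 7, 31, 217] := by decide
  rw [hcand] at hmem
  simp only [List.mem_cons, List.not_mem_nil, or_false] at hmem
  have hlt := one_lt_card_sylow_of_card hc hm (by norm_num) (by norm_num)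
  rcases hmem with hd | hd | hd | hd
  · omega
  · exact fact_kill hG 7 hd (by norm_num) (by rw [h]; decide)
  · exact burn_kill hc hm (by norm_num) 31 hd (by decide)
  · exact burn_kill hc hm (by norm_num) 217 hd (by decide)

theorem no_652 {G : Type*} [Group G] [Finite G] [IsSimpleGroup G]
    (hG : ¬ IsMulCommutative G) (h : Nat.card G = 652) : False := by
  exact tp hG 2 163 2 1 (by norm_num) (by norm_num) (by rw [h]; norm_num)

theorem no_653 {G : Type*} [Group G] [Finite G] [IsSimpleGroup G]
    (hG : ¬ IsMulCommutative G) (h : Nat.card G = 653) : False := by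
  exact tp hG 653 2 1 0 (by norm_num) (by norm_num) (by rw [h]; norm_num)

theorem no_654 {G : Type*} [Group G] [Finite G] [IsSimpleGroup G]
    (hG : ¬ IsMulCommutative G) (h : Nat.card G = 654) : False := by
  exact ev hG (by rw [h]; exact ⟨327, by norm_num⟩) (by rw [h]; omega)

theorem no_655 {G : Type*} [Group G] [Finite G] [IsSimpleGroup G]
    (hG : ¬ IsMulCommutative G) (h : Nat.card G = 655) : False := by
  exact tp hG 5 131 1 1 (by norm_num) (by norm_num) (by rw [h]; norm_num)

theorem no_656 {G : Type*} [Group G] [Finite G] [IsSimpleGroup G]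
    (hG : ¬ IsMulCommutative G) (h : Nat.card G = 656) : False := by
  exact tp hG 2 41 4 1 (by norm_num) (by norm_num) (by rw [h]; norm_num)

theorem no_657 {G : Type*} [Group G] [Finite G] [IsSimpleGroup G]
    (hG : ¬ IsMulCommutative G) (h : Nat.card G = 657) : False := by
  exact tp hG 3 73 2 1 (by norm_num) (by norm_num) (by rw [h]; norm_num)

theorem no_658 {G : Type*} [Group G] [Finite G] [IsSimpleGroup G]
    (hG : ¬ IsMulCommutative G) (h : Nat.card G = 658) : False := by
  exact ev hG (by rw [h]; exact ⟨329, by norm_num⟩) (by rw [h]; omega)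

theorem no_659 {G : Type*} [Group G] [Finite G] [IsSimpleGroup G]
    (hG : ¬ IsMulCommutative G) (h : Nat.card G = 659) : False := by
  exact tp hG 659 2 1 0 (by norm_num) (by norm_num) (by rw [h]; norm_num)

theorem no_661 {G : Type*} [Group G] [Finite G] [IsSimpleGroup G]
    (hG : ¬ IsMulCommutative G) (h : Nat.card G = 661) : False := by
  exact tp hG 661 2 1 0 (by norm_num) (by norm_num) (by rw [h]; norm_num)

theorem no_662 {G : Type*} [Group G] [Finite G] [IsSimpleGroup G]
    (hG : ¬ IsMulCommutative G) (h : Nat.card G = 662) : False := by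
  exact tp hG 2 331 1 1 (by norm_num) (by norm_num) (by rw [h]; norm_num)

theorem no_663 {G : Type*} [Group G] [Finite G] [IsSimpleGroup G]
    (hG : ¬ IsMulCommutative G) (h : Nat.card G = 663) : False := by
  have : Fact (Nat.Prime 3) := ⟨by norm_num⟩
  have hc : Nat.card G = 3 ^ 1 * 221 := by rw [h]; norm_num
  have hm : ¬ 3 ∣ 221 := by norm_num
  have hmem := card_sylow_mem_candidates hc hm
  have hcand : sylowCandidates 3 221 = [1, 13] := by decide
  rw [hcand] at hmem
  simp only [List.mem_cons, List.not_mem_nil, or_false] at hmem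
  have hlt := one_lt_card_sylow_of_card hc hm (by norm_num) (by norm_num)
  rcases hmem with hd | hd
  · omega
  · exact fact_kill hG 13 hd (by norm_num) (by rw [h]; decide)

theorem no_664 {G : Type*} [Group G] [Finite G] [IsSimpleGroup G]
    (hG : ¬ IsMulCommutative G) (h : Nat.card G = 664) : False := by
  exact tp hG 2 83 3 1 (by norm_num) (by norm_num) (by rw [h]; norm_num)

theorem no_665 {G : Type*} [Group G] [Finite G] [IsSimpleGroup G]
    (hG : ¬ IsMulCommutative G) (h : Nat.card G = 665) : False := by
  have : Fact (Nat.Prime 5) := ⟨by norm_num⟩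
  have hc : Nat.card G = 5 ^ 1 * 133 := by rw [h]; norm_num
  have hm : ¬ 5 ∣ 133 := by norm_num
  have hmem := card_sylow_mem_candidates hc hm
  have hcand : sylowCandidates 5 133 = [1] := by decide
  rw [hcand] at hmem
  simp only [List.mem_cons, List.not_mem_nil, or_false] at hmem
  have hlt := one_lt_card_sylow_of_card hc hm (by norm_num) (by norm_num)
  have hd := hmem
  · omega

theorem no_666 {G : Type*} [Group G] [Finite G] [IsSimpleGroup G]
    (hG : ¬ IsMulCommutative G) (h : Nat.card G = 666) : False := by
  exact ev hG (by rw [h]; exact ⟨333, by norm_num⟩) (by rw [h]; omega)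

theorem no_667 {G : Type*} [Group G] [Finite G] [IsSimpleGroup G]
    (hG : ¬ IsMulCommutative G) (h : Nat.card G = 667) : False := by
  exact tp hG 23 29 1 1 (by norm_num) (by norm_num) (by rw [h]; norm_num)

theorem no_668 {G : Type*} [Group G] [Finite G] [IsSimpleGroup G]
    (hG : ¬ IsMulCommutative G) (h : Nat.card G = 668) : False := by
  exact tp hG 2 167 2 1 (by norm_num) (by norm_num) (by rw [h]; norm_num)

theorem no_669 {G : Type*} [Group G] [Finite G] [IsSimpleGroup G]
    (hG : ¬ IsMulCommutative G) (h : Nat.card G = 669) : False := by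
  exact tp hG 3 223 1 1 (by norm_num) (by norm_num) (by rw [h]; norm_num)

theorem no_670 {G : Type*} [Group G] [Finite G] [IsSimpleGroup G]
    (hG : ¬ IsMulCommutative G) (h : Nat.card G = 670) : False := by
  exact ev hG (by rw [h]; exact ⟨335, by norm_num⟩) (by rw [h]; omega)

theorem no_671 {G : Type*} [Group G] [Finite G] [IsSimpleGroup G]
    (hG : ¬ IsMulCommutative G) (h : Nat.card G = 671) : False := by
  exact tp hG 11 61 1 1 (by norm_num) (by norm_num) (by rw [h]; norm_num)

theorem no_672 {G : Type*} [Group G] [Finite G] [IsSimpleGroup G]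
    (hG : ¬ IsMulCommutative G) (h : Nat.card G = 672) : False := by
  have : Fact (Nat.Prime 7) := ⟨by norm_num⟩
  have hc : Nat.card G = 7 ^ 1 * 96 := by rw [h]; norm_num
  have hm : ¬ 7 ∣ 96 := by norm_num
  have hmem := card_sylow_mem_candidates hc hm
  have hcand : sylowCandidates 7 96 = [1, 8] := by decide
  rw [hcand] at hmem
  simp only [List.mem_cons, List.not_mem_nil, or_false] at hmem
  have hlt := one_lt_card_sylow_of_card hc hm (by norm_num) (by norm_num)
  rcases hmem with hd | hd
  · omega
  · exact perm_kill hG (by norm_num) hc hm hd 84 (by omega) (by decide)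

theorem no_673 {G : Type*} [Group G] [Finite G] [IsSimpleGroup G]
    (hG : ¬ IsMulCommutative G) (h : Nat.card G = 673) : False := by
  exact tp hG 673 2 1 0 (by norm_num) (by norm_num) (by rw [h]; norm_num)

theorem no_674 {G : Type*} [Group G] [Finite G] [IsSimpleGroup G]
    (hG : ¬ IsMulCommutative G) (h : Nat.card G = 674) : False := by
  exact tp hG 2 337 1 1 (by norm_num) (by norm_num) (by rw [h]; norm_num)

theorem no_675 {G : Type*} [Group G] [Finite G] [IsSimpleGroup G]
    (hG : ¬ IsMulCommutative G) (h : Nat.card G = 675) : False := by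
  exact tp hG 3 5 3 2 (by norm_num) (by norm_num) (by rw [h]; norm_num)

theorem no_676 {G : Type*} [Group G] [Finite G] [IsSimpleGroup G]
    (hG : ¬ IsMulCommutative G) (h : Nat.card G = 676) : False := by
  exact tp hG 2 13 2 2 (by norm_num) (by norm_num) (by rw [h]; norm_num)

theorem no_677 {G : Type*} [Group G] [Finite G] [IsSimpleGroup G]
    (hG : ¬ IsMulCommutative G) (h : Nat.card G = 677) : False := by
  exact tp hG 677 2 1 0 (by norm_num) (by norm_num) (by rw [h]; norm_num)

theorem no_678 {G : Type*} [Group G] [Finite G] [IsSimpleGroup G]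
    (hG : ¬ IsMulCommutative G) (h : Nat.card G = 678) : False := by
  exact ev hG (by rw [h]; exact ⟨339, by norm_num⟩) (by rw [h]; omega)

theorem no_679 {G : Type*} [Group G] [Finite G] [IsSimpleGroup G]
    (hG : ¬ IsMulCommutative G) (h : Nat.card G = 679) : False := by
  exact tp hG 7 97 1 1 (by norm_num) (by norm_num) (by rw [h]; norm_num)

theorem no_680 {G : Type*} [Group G] [Finite G] [IsSimpleGroup G]
    (hG : ¬ IsMulCommutative G) (h : Nat.card G = 680) : False := by
  exact ev hG (by rw [h]; exact ⟨340, by norm_num⟩) (by rw [h]; omega)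

theorem no_681 {G : Type*} [Group G] [Finite G] [IsSimpleGroup G]
    (hG : ¬ IsMulCommutative G) (h : Nat.card G = 681) : False := by
  exact tp hG 3 227 1 1 (by norm_num) (by norm_num) (by rw [h]; norm_num)

theorem no_682 {G : Type*} [Group G] [Finite G] [IsSimpleGroup G]
    (hG : ¬ IsMulCommutative G) (h : Nat.card G = 682) : False := by
  exact ev hG (by rw [h]; exact ⟨341, by norm_num⟩) (by rw [h]; omega)

theorem no_683 {G : Type*} [Group G] [Finite G] [IsSimpleGroup G]
    (hG : ¬ IsMulCommutative G) (h : Nat.card G = 683) : False := by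
  exact tp hG 683 2 1 0 (by norm_num) (by norm_num) (by rw [h]; norm_num)

theorem no_684 {G : Type*} [Group G] [Finite G] [IsSimpleGroup G]
    (hG : ¬ IsMulCommutative G) (h : Nat.card G = 684) : False := by
  have : Fact (Nat.Prime 19) := ⟨by norm_num⟩
  have hc : Nat.card G = 19 ^ 1 * 36 := by rw [h]; norm_num
  have hm : ¬ 19 ∣ 36 := by norm_num
  have hmem := card_sylow_mem_candidates hc hm
  have hcand : sylowCandidates 19 36 = [1] := by decide
  rw [hcand] at hmem
  simp only [List.mem_cons, List.not_mem_nil, or_false] at hmem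
  have hlt := one_lt_card_sylow_of_card hc hm (by norm_num) (by norm_num)
  have hd := hmem
  · omega

theorem no_685 {G : Type*} [Group G] [Finite G] [IsSimpleGroup G]
    (hG : ¬ IsMulCommutative G) (h : Nat.card G = 685) : False := by
  exact tp hG 5 137 1 1 (by norm_num) (by norm_num) (by rw [h]; norm_num)

theorem no_686 {G : Type*} [Group G] [Finite G] [IsSimpleGroup G]
    (hG : ¬ IsMulCommutative G) (h : Nat.card G = 686) : False := by
  exact tp hG 2 7 1 3 (by norm_num) (by norm_num) (by rw [h]; norm_num)

theorem no_687 {G : Type*} [Group G] [Finite G] [IsSimpleGroup G]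
    (hG : ¬ IsMulCommutative G) (h : Nat.card G = 687) : False := by
  exact tp hG 3 229 1 1 (by norm_num) (by norm_num) (by rw [h]; norm_num)

theorem no_688 {G : Type*} [Group G] [Finite G] [IsSimpleGroup G]
    (hG : ¬ IsMulCommutative G) (h : Nat.card G = 688) : False := by
  exact tp hG 2 43 4 1 (by norm_num) (by norm_num) (by rw [h]; norm_num)

theorem no_689 {G : Type*} [Group G] [Finite G] [IsSimpleGroup G]
    (hG : ¬ IsMulCommutative G) (h : Nat.card G = 689) : False := by
  exact tp hG 13 53 1 1 (by norm_num) (by norm_num) (by rw [h]; norm_num)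

theorem no_690 {G : Type*} [Group G] [Finite G] [IsSimpleGroup G]
    (hG : ¬ IsMulCommutative G) (h : Nat.card G = 690) : False := by
  exact ev hG (by rw [h]; exact ⟨345, by norm_num⟩) (by rw [h]; omega)

theorem no_691 {G : Type*} [Group G] [Finite G] [IsSimpleGroup G]
    (hG : ¬ IsMulCommutative G) (h : Nat.card G = 691) : False := by
  exact tp hG 691 2 1 0 (by norm_num) (by norm_num) (by rw [h]; norm_num)

theorem no_692 {G : Type*} [Group G] [Finite G] [IsSimpleGroup G]
    (hG : ¬ IsMulCommutative G) (h : Nat.card G = 692) : False := by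
  exact tp hG 2 173 2 1 (by norm_num) (by norm_num) (by rw [h]; norm_num)

theorem no_693 {G : Type*} [Group G] [Finite G] [IsSimpleGroup G]
    (hG : ¬ IsMulCommutative G) (h : Nat.card G = 693) : False := by
  have : Fact (Nat.Prime 3) := ⟨by norm_num⟩
  have hc : Nat.card G = 3 ^ 2 * 77 := by rw [h]; norm_num
  have hm : ¬ 3 ∣ 77 := by norm_num
  have hmem := card_sylow_mem_candidates hc hm
  have hcand : sylowCandidates 3 77 = [1, 7] := by decide
  rw [hcand] at hmem
  simp only [List.mem_cons, List.not_mem_nil, or_false] at hmem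
  have hlt := one_lt_card_sylow_of_card hc hm (by norm_num) (by norm_num)
  rcases hmem with hd | hd
  · omega
  · exact fact_kill hG 7 hd (by norm_num) (by rw [h]; decide)

theorem no_694 {G : Type*} [Group G] [Finite G] [IsSimpleGroup G]
    (hG : ¬ IsMulCommutative G) (h : Nat.card G = 694) : False := by
  exact tp hG 2 347 1 1 (by norm_num) (by norm_num) (by rw [h]; norm_num)

theorem no_695 {G : Type*} [Group G] [Finite G] [IsSimpleGroup G]
    (hG : ¬ IsMulCommutative G) (h : Nat.card G = 695) : False := by
  exact tp hG 5 139 1 1 (by norm_num) (by norm_num) (by rw [h]; norm_num)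

theorem no_696 {G : Type*} [Group G] [Finite G] [IsSimpleGroup G]
    (hG : ¬ IsMulCommutative G) (h : Nat.card G = 696) : False := by
  have : Fact (Nat.Prime 29) := ⟨by norm_num⟩
  have hc : Nat.card G = 29 ^ 1 * 24 := by rw [h]; norm_num
  have hm : ¬ 29 ∣ 24 := by norm_num
  have hmem := card_sylow_mem_candidates hc hm
  have hcand : sylowCandidates 29 24 = [1] := by decide
  rw [hcand] at hmem
  simp only [List.mem_cons, List.not_mem_nil, or_false] at hmem
  have hlt := one_lt_card_sylow_of_card hc hm (by norm_num) (by norm_num)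
  have hd := hmem
  · omega

theorem no_697 {G : Type*} [Group G] [Finite G] [IsSimpleGroup G]
    (hG : ¬ IsMulCommutative G) (h : Nat.card G = 697) : False := by
  exact tp hG 17 41 1 1 (by norm_num) (by norm_num) (by rw [h]; norm_num)

theorem no_698 {G : Type*} [Group G] [Finite G] [IsSimpleGroup G]
    (hG : ¬ IsMulCommutative G) (h : Nat.card G = 698) : False := by
  exact tp hG 2 349 1 1 (by norm_num) (by norm_num) (by rw [h]; norm_num)

theorem no_699 {G : Type*} [Group G] [Finite G] [IsSimpleGroup G]
    (hG : ¬ IsMulCommutative G) (h : Nat.card G = 699) : False := by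
  exact tp hG 3 233 1 1 (by norm_num) (by norm_num) (by rw [h]; norm_num)

theorem no_700 {G : Type*} [Group G] [Finite G] [IsSimpleGroup G]
    (hG : ¬ IsMulCommutative G) (h : Nat.card G = 700) : False := by
  exact ev hG (by rw [h]; exact ⟨350, by norm_num⟩) (by rw [h]; omega)

/-- the orders in [601, 700] not excluded by the engine -/
theorem chunk {G : Type*} [Group G] [Finite G] [IsSimpleGroup G]
    (hG : ¬ IsMulCommutative G) (n : ℕ) (hn : Nat.card G = n) (h1 : 601 ≤ n) (h2 : n ≤ 700) :
    n = 612 ∨ n = 660 := by
  interval_cases n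
  · exact (no_601 hG hn).elim
  · exact (no_602 hG hn).elim
  · exact (no_603 hG hn).elim
  · exact (no_604 hG hn).elim
  · exact (no_605 hG hn).elim
  · exact (no_606 hG hn).elim
  · exact (no_607 hG hn).elim
  · exact (no_608 hG hn).elim
  · exact (no_609 hG hn).elim
  · exact (no_610 hG hn).elim
  · exact (no_611 hG hn).elim
  · simp
  · exact (no_613 hG hn).elim
  · exact (no_614 hG hn).elim
  · exact (no_615 hG hn).elim
  · exact (no_616 hG hn).elim
  · exact (no_617 hG hn).elim
  · exact (no_618 hG hn).elim
  · exact (no_619 hG hn).elim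
  · exact (no_620 hG hn).elim
  · exact (no_621 hG hn).elim
  · exact (no_622 hG hn).elim
  · exact (no_623 hG hn).elim
  · exact (no_624 hG hn).elim
  · exact (no_625 hG hn).elim
  · exact (no_626 hG hn).elim
  · exact (no_627 hG hn).elim
  · exact (no_628 hG hn).elim
  · exact (no_629 hG hn).elim
  · exact (no_630 hG hn).elim
  · exact (no_631 hG hn).elim
  · exact (no_632 hG hn).elim
  · exact (no_633 hG hn).elim
  · exact (no_634 hG hn).elim
  · exact (no_635 hG hn).elim
  · exact (no_636 hG hn).elim
  · exact (no_637 hG hn).elim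
  · exact (no_638 hG hn).elim
  · exact (no_639 hG hn).elim
  · exact (no_640 hG hn).elim
  · exact (no_641 hG hn).elim
  · exact (no_642 hG hn).elim
  · exact (no_643 hG hn).elim
  · exact (no_644 hG hn).elim
  · exact (no_645 hG hn).elim
  · exact (no_646 hG hn).elim
  · exact (no_647 hG hn).elim
  · exact (no_648 hG hn).elim
  · exact (no_649 hG hn).elim
  · exact (no_650 hG hn).elim
  · exact (no_651 hG hn).elim
  · exact (no_652 hG hn).elim
  · exact (no_653 hG hn).elim
  · exact (no_654 hG hn).elim
  · exact (no_655 hG hn).elim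
  · exact (no_656 hG hn).elim
  · exact (no_657 hG hn).elim
  · exact (no_658 hG hn).elim
  · exact (no_659 hG hn).elim
  · simp
  · exact (no_661 hG hn).elim
  · exact (no_662 hG hn).elim
  · exact (no_663 hG hn).elim
  · exact (no_664 hG hn).elim
  · exact (no_665 hG hn).elim
  · exact (no_666 hG hn).elim
  · exact (no_667 hG hn).elim
  · exact (no_668 hG hn).elim
  · exact (no_669 hG hn).elim
  · exact (no_670 hG hn).elim
  · exact (no_671 hG hn).elim
  · exact (no_672 hG hn).elim
  · exact (no_673 hG hn).elim
  · exact (no_674 hG hn).elim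
  · exact (no_675 hG hn).elim
  · exact (no_676 hG hn).elim
  · exact (no_677 hG hn).elim
  · exact (no_678 hG hn).elim
  · exact (no_679 hG hn).elim
  · exact (no_680 hG hn).elim
  · exact (no_681 hG hn).elim
  · exact (no_682 hG hn).elim
  · exact (no_683 hG hn).elim
  · exact (no_684 hG hn).elim
  · exact (no_685 hG hn).elim
  · exact (no_686 hG hn).elim
  · exact (no_687 hG hn).elim
  · exact (no_688 hG hn).elim
  · exact (no_689 hG hn).elim
  · exact (no_690 hG hn).elim
  · exact (no_691 hG hn).elim
  · exact (no_692 hG hn).elim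
  · exact (no_693 hG hn).elim
  · exact (no_694 hG hn).elim
  · exact (no_695 hG hn).elim
  · exact (no_696 hG hn).elim
  · exact (no_697 hG hn).elim
  · exact (no_698 hG hn).elim
  · exact (no_699 hG hn).elim
  · exact (no_700 hG hn).elim

end Cfsg.Agent.Lib.Helper75_SM_E5
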