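import Mathlib
import Cfsg.Agent.Lib.Helper75_SM_Base

/-!
# S0496 engine, generated file: no simple group of order N for the easy N in [701, 800] (helper75)
-/

set_option autoImplicit false

namespace Cfsg.Agent.Lib.Helper75_SM_E6

open Cfsg.Agent.Lib.Helper17_Sylow Cfsg.Agent.Lib.Helper75_SM_Base

theorem no_701 {G : Type*} [Group G] [Finite G] [IsSimpleGroup G]
    (hG : ¬ IsMulCommutative G) (h : Nat.card G = 701) : False := by
  exact tp hG 701 2 1 0 (by norm_num) (by norm_num) (by rw [h]; norm_num)

theorem no_702 {G : Type*} [Group G] [Finite G] [IsSimpleGroup G]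
    (hG : ¬ IsMulCommutative G) (h : Nat.card G = 702) : False := by
  exact ev hG (by rw [h]; exact ⟨351, by norm_num⟩) (by rw [h]; omega)

theorem no_703 {G : Type*} [Group G] [Finite G] [IsSimpleGroup G]
    (hG : ¬ IsMulCommutative G) (h : Nat.card G = 703) : False := by
  exact tp hG 19 37 1 1 (by norm_num) (by norm_num) (by rw [h]; norm_num)

theorem no_704 {G : Type*} [Group G] [Finite G] [IsSimpleGroup G]
    (hG : ¬ IsMulCommutative G) (h : Nat.card G = 704) : False := by
  exact tp hG 2 11 6 1 (by norm_num) (by norm_num) (by rw [h]; norm_num)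

theorem no_705 {G : Type*} [Group G] [Finite G] [IsSimpleGroup G]
    (hG : ¬ IsMulCommutative G) (h : Nat.card G = 705) : False := by
  have : Fact (Nat.Prime 3) := ⟨by norm_num⟩
  have hc : Nat.card G = 3 ^ 1 * 235 := by rw [h]; norm_num
  have hm : ¬ 3 ∣ 235 := by norm_num
  have hmem := card_sylow_mem_candidates hc hm
  have hcand : sylowCandidates 3 235 = [1, 235] := by decide
  rw [hcand] at hmem
  simp only [List.mem_cons, List.not_mem_nil, or_false] at hmem
  have hlt := one_lt_card_sylow_of_card hc hm (by norm_num) (by norm_num)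
  rcases hmem with hd | hd
  · omega
  · exact burn_kill hc hm (by norm_num) 235 hd (by decide)

theorem no_706 {G : Type*} [Group G] [Finite G] [IsSimpleGroup G]
    (hG : ¬ IsMulCommutative G) (h : Nat.card G = 706) : False := by
  exact tp hG 2 353 1 1 (by norm_num) (by norm_num) (by rw [h]; norm_num)

theorem no_707 {G : Type*} [Group G] [Finite G] [IsSimpleGroup G]
    (hG : ¬ IsMulCommutative G) (h : Nat.card G = 707) : False := by
  exact tp hG 7 101 1 1 (by norm_num) (by norm_num) (by rw [h]; norm_num)

theorem no_708 {G : Type*} [Group G] [Finite G] [IsSimpleGroup G]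
    (hG : ¬ IsMulCommutative G) (h : Nat.card G = 708) : False := by
  have : Fact (Nat.Prime 59) := ⟨by norm_num⟩
  have hc : Nat.card G = 59 ^ 1 * 12 := by rw [h]; norm_num
  have hm : ¬ 59 ∣ 12 := by norm_num
  have hmem := card_sylow_mem_candidates hc hm
  have hcand : sylowCandidates 59 12 = [1] := by decide
  rw [hcand] at hmem
  simp only [List.mem_cons, List.not_mem_nil, or_false] at hmem
  have hlt := one_lt_card_sylow_of_card hc hm (by norm_num) (by norm_num)
  have hd := hmem
  · omega

theorem no_709 {G : Type*} [Group G] [Finite G] [IsSimpleGroup G]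
    (hG : ¬ IsMulCommutative G) (h : Nat.card G = 709) : False := by
  exact tp hG 709 2 1 0 (by norm_num) (by norm_num) (by rw [h]; norm_num)

theorem no_710 {G : Type*} [Group G] [Finite G] [IsSimpleGroup G]
    (hG : ¬ IsMulCommutative G) (h : Nat.card G = 710) : False := by
  exact ev hG (by rw [h]; exact ⟨355, by norm_num⟩) (by rw [h]; omega)

theorem no_711 {G : Type*} [Group G] [Finite G] [IsSimpleGroup G]
    (hG : ¬ IsMulCommutative G) (h : Nat.card G = 711) : False := by
  exact tp hG 3 79 2 1 (by norm_num) (by norm_num) (by rw [h]; norm_num)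

theorem no_712 {G : Type*} [Group G] [Finite G] [IsSimpleGroup G]
    (hG : ¬ IsMulCommutative G) (h : Nat.card G = 712) : False := by
  exact tp hG 2 89 3 1 (by norm_num) (by norm_num) (by rw [h]; norm_num)

theorem no_713 {G : Type*} [Group G] [Finite G] [IsSimpleGroup G]
    (hG : ¬ IsMulCommutative G) (h : Nat.card G = 713) : False := by
  exact tp hG 23 31 1 1 (by norm_num) (by norm_num) (by rw [h]; norm_num)

theorem no_714 {G : Type*} [Group G] [Finite G] [IsSimpleGroup G]
    (hG : ¬ IsMulCommutative G) (h : Nat.card G = 714) : False := by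
  exact ev hG (by rw [h]; exact ⟨357, by norm_num⟩) (by rw [h]; omega)

theorem no_715 {G : Type*} [Group G] [Finite G] [IsSimpleGroup G]
    (hG : ¬ IsMulCommutative G) (h : Nat.card G = 715) : False := by
  have : Fact (Nat.Prime 5) := ⟨by norm_num⟩
  have hc : Nat.card G = 5 ^ 1 * 143 := by rw [h]; norm_num
  have hm : ¬ 5 ∣ 143 := by norm_num
  have hmem := card_sylow_mem_candidates hc hm
  have hcand : sylowCandidates 5 143 = [1, 11] := by decide
  rw [hcand] at hmem
  simp only [List.mem_cons, List.not_mem_nil, or_false] at hmem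
  have hlt := one_lt_card_sylow_of_card hc hm (by norm_num) (by norm_num)
  rcases hmem with hd | hd
  · omega
  · exact fact_kill hG 11 hd (by norm_num) (by rw [h]; decide)

theorem no_716 {G : Type*} [Group G] [Finite G] [IsSimpleGroup G]
    (hG : ¬ IsMulCommutative G) (h : Nat.card G = 716) : False := by
  exact tp hG 2 179 2 1 (by norm_num) (by norm_num) (by rw [h]; norm_num)

theorem no_717 {G : Type*} [Group G] [Finite G] [IsSimpleGroup G]
    (hG : ¬ IsMulCommutative G) (h : Nat.card G = 717) : False := by
  exact tp hG 3 239 1 1 (by norm_num) (by norm_num) (by rw [h]; norm_num)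

theorem no_718 {G : Type*} [Group G] [Finite G] [IsSimpleGroup G]
    (hG : ¬ IsMulCommutative G) (h : Nat.card G = 718) : False := by
  exact tp hG 2 359 1 1 (by norm_num) (by norm_num) (by rw [h]; norm_num)

theorem no_719 {G : Type*} [Group G] [Finite G] [IsSimpleGroup G]
    (hG : ¬ IsMulCommutative G) (h : Nat.card G = 719) : False := by
  exact tp hG 719 2 1 0 (by norm_num) (by norm_num) (by rw [h]; norm_num)

theorem no_721 {G : Type*} [Group G] [Finite G] [IsSimpleGroup G]
    (hG : ¬ IsMulCommutative G) (h : Nat.card G = 721) : False := by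
  exact tp hG 7 103 1 1 (by norm_num) (by norm_num) (by rw [h]; norm_num)

theorem no_722 {G : Type*} [Group G] [Finite G] [IsSimpleGroup G]
    (hG : ¬ IsMulCommutative G) (h : Nat.card G = 722) : False := by
  exact tp hG 2 19 1 2 (by norm_num) (by norm_num) (by rw [h]; norm_num)

theorem no_723 {G : Type*} [Group G] [Finite G] [IsSimpleGroup G]
    (hG : ¬ IsMulCommutative G) (h : Nat.card G = 723) : False := by
  exact tp hG 3 241 1 1 (by norm_num) (by norm_num) (by rw [h]; norm_num)

theorem no_724 {G : Type*} [Group G] [Finite G] [IsSimpleGroup G]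
    (hG : ¬ IsMulCommutative G) (h : Nat.card G = 724) : False := by
  exact tp hG 2 181 2 1 (by norm_num) (by norm_num) (by rw [h]; norm_num)

theorem no_725 {G : Type*} [Group G] [Finite G] [IsSimpleGroup G]
    (hG : ¬ IsMulCommutative G) (h : Nat.card G = 725) : False := by
  exact tp hG 5 29 2 1 (by norm_num) (by norm_num) (by rw [h]; norm_num)

theorem no_726 {G : Type*} [Group G] [Finite G] [IsSimpleGroup G]
    (hG : ¬ IsMulCommutative G) (h : Nat.card G = 726) : False := by
  exact ev hG (by rw [h]; exact ⟨363, by norm_num⟩) (by rw [h]; omega)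

theorem no_727 {G : Type*} [Group G] [Finite G] [IsSimpleGroup G]
    (hG : ¬ IsMulCommutative G) (h : Nat.card G = 727) : False := by
  exact tp hG 727 2 1 0 (by norm_num) (by norm_num) (by rw [h]; norm_num)

theorem no_728 {G : Type*} [Group G] [Finite G] [IsSimpleGroup G]
    (hG : ¬ IsMulCommutative G) (h : Nat.card G = 728) : False := by
  have : Fact (Nat.Prime 7) := ⟨by norm_num⟩
  have hc : Nat.card G = 7 ^ 1 * 104 := by rw [h]; norm_num
  have hm : ¬ 7 ∣ 104 := by norm_num
  have hmem := card_sylow_mem_candidates hc hm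
  have hcand : sylowCandidates 7 104 = [1, 8] := by decide
  rw [hcand] at hmem
  simp only [List.mem_cons, List.not_mem_nil, or_false] at hmem
  have hlt := one_lt_card_sylow_of_card hc hm (by norm_num) (by norm_num)
  rcases hmem with hd | hd
  · omega
  · exact fact_kill hG 8 hd (by norm_num) (by rw [h]; decide)

theorem no_729 {G : Type*} [Group G] [Finite G] [IsSimpleGroup G]
    (hG : ¬ IsMulCommutative G) (h : Nat.card G = 729) : False := by
  exact tp hG 3 2 6 0 (by norm_num) (by norm_num) (by rw [h]; norm_num)

theorem no_730 {G : Type*} [Group G] [Finite G] [IsSimpleGroup G]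
    (hG : ¬ IsMulCommutative G) (h : Nat.card G = 730) : False := by
  exact ev hG (by rw [h]; exact ⟨365, by norm_num⟩) (by rw [h]; omega)

theorem no_731 {G : Type*} [Group G] [Finite G] [IsSimpleGroup G]
    (hG : ¬ IsMulCommutative G) (h : Nat.card G = 731) : False := by
  exact tp hG 17 43 1 1 (by norm_num) (by norm_num) (by rw [h]; norm_num)

theorem no_732 {G : Type*} [Group G] [Finite G] [IsSimpleGroup G]
    (hG : ¬ IsMulCommutative G) (h : Nat.card G = 732) : False := by
  have : Fact (Nat.Prime 61) := ⟨by norm_num⟩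
  have hc : Nat.card G = 61 ^ 1 * 12 := by rw [h]; norm_num
  have hm : ¬ 61 ∣ 12 := by norm_num
  have hmem := card_sylow_mem_candidates hc hm
  have hcand : sylowCandidates 61 12 = [1] := by decide
  rw [hcand] at hmem
  simp only [List.mem_cons, List.not_mem_nil, or_false] at hmem
  have hlt := one_lt_card_sylow_of_card hc hm (by norm_num) (by norm_num)
  have hd := hmem
  · omega

theorem no_733 {G : Type*} [Group G] [Finite G] [IsSimpleGroup G]
    (hG : ¬ IsMulCommutative G) (h : Nat.card G = 733) : False := by
  exact tp hG 733 2 1 0 (by norm_num) (by norm_num) (by rw [h]; norm_num)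

theorem no_734 {G : Type*} [Group G] [Finite G] [IsSimpleGroup G]
    (hG : ¬ IsMulCommutative G) (h : Nat.card G = 734) : False := by
  exact tp hG 2 367 1 1 (by norm_num) (by norm_num) (by rw [h]; norm_num)

theorem no_735 {G : Type*} [Group G] [Finite G] [IsSimpleGroup G]
    (hG : ¬ IsMulCommutative G) (h : Nat.card G = 735) : False := by
  have : Fact (Nat.Prime 3) := ⟨by norm_num⟩
  have hc : Nat.card G = 3 ^ 1 * 245 := by rw [h]; norm_num
  have hm : ¬ 3 ∣ 245 := by norm_num
  have hmem := card_sylow_mem_candidates hc hm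
  have hcand : sylowCandidates 3 245 = [1, 7, 49] := by decide
  rw [hcand] at hmem
  simp only [List.mem_cons, List.not_mem_nil, or_false] at hmem
  have hlt := one_lt_card_sylow_of_card hc hm (by norm_num) (by norm_num)
  rcases hmem with hd | hd | hd
  · omega
  · exact fact_kill hG 7 hd (by norm_num) (by rw [h]; decide)
  · exact burn_kill hc hm (by norm_num) 49 hd (by decide)

theorem no_736 {G : Type*} [Group G] [Finite G] [IsSimpleGroup G]
    (hG : ¬ IsMulCommutative G) (h : Nat.card G = 736) : False := by
  exact tp hG 2 23 5 1 (by norm_num) (by norm_num) (by rw [h]; norm_num)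

theorem no_737 {G : Type*} [Group G] [Finite G] [IsSimpleGroup G]
    (hG : ¬ IsMulCommutative G) (h : Nat.card G = 737) : False := by
  exact tp hG 11 67 1 1 (by norm_num) (by norm_num) (by rw [h]; norm_num)

theorem no_738 {G : Type*} [Group G] [Finite G] [IsSimpleGroup G]
    (hG : ¬ IsMulCommutative G) (h : Nat.card G = 738) : False := by
  exact ev hG (by rw [h]; exact ⟨369, by norm_num⟩) (by rw [h]; omega)

theorem no_739 {G : Type*} [Group G] [Finite G] [IsSimpleGroup G]
    (hG : ¬ IsMulCommutative G) (h : Nat.card G = 739) : False := by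
  exact tp hG 739 2 1 0 (by norm_num) (by norm_num) (by rw [h]; norm_num)

theorem no_740 {G : Type*} [Group G] [Finite G] [IsSimpleGroup G]
    (hG : ¬ IsMulCommutative G) (h : Nat.card G = 740) : False := by
  exact ev hG (by rw [h]; exact ⟨370, by norm_num⟩) (by rw [h]; omega)

theorem no_741 {G : Type*} [Group G] [Finite G] [IsSimpleGroup G]
    (hG : ¬ IsMulCommutative G) (h : Nat.card G = 741) : False := by
  have : Fact (Nat.Prime 3) := ⟨by norm_num⟩
  have hc : Nat.card G = 3 ^ 1 * 247 := by rw [h]; norm_num
  have hm : ¬ 3 ∣ 247 := by norm_num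
  have hmem := card_sylow_mem_candidates hc hm
  have hcand : sylowCandidates 3 247 = [1, 13, 19, 247] := by decide
  rw [hcand] at hmem
  simp only [List.mem_cons, List.not_mem_nil, or_false] at hmem
  have hlt := one_lt_card_sylow_of_card hc hm (by norm_num) (by norm_num)
  rcases hmem with hd | hd | hd | hd
  · omega
  · exact fact_kill hG 13 hd (by norm_num) (by rw [h]; decide)
  · exact burn_kill hc hm (by norm_num) 19 hd (by decide)
  · exact burn_kill hc hm (by norm_num) 247 hd (by decide)

theorem no_742 {G : Type*} [Group G] [Finite G] [IsSimpleGroup G]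
    (hG : ¬ IsMulCommutative G) (h : Nat.card G = 742) : False := by
  exact ev hG (by rw [h]; exact ⟨371, by norm_num⟩) (by rw [h]; omega)

theorem no_743 {G : Type*} [Group G] [Finite G] [IsSimpleGroup G]
    (hG : ¬ IsMulCommutative G) (h : Nat.card G = 743) : False := by
  exact tp hG 743 2 1 0 (by norm_num) (by norm_num) (by rw [h]; norm_num)

theorem no_744 {G : Type*} [Group G] [Finite G] [IsSimpleGroup G]
    (hG : ¬ IsMulCommutative G) (h : Nat.card G = 744) : False := by
  have : Fact (Nat.Prime 31) := ⟨by norm_num⟩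
  have hc : Nat.card G = 31 ^ 1 * 24 := by rw [h]; norm_num
  have hm : ¬ 31 ∣ 24 := by norm_num
  have hmem := card_sylow_mem_candidates hc hm
  have hcand : sylowCandidates 31 24 = [1] := by decide
  rw [hcand] at hmem
  simp only [List.mem_cons, List.not_mem_nil, or_false] at hmem
  have hlt := one_lt_card_sylow_of_card hc hm (by norm_num) (by norm_num)
  have hd := hmem
  · omega

theorem no_745 {G : Type*} [Group G] [Finite G] [IsSimpleGroup G]
    (hG : ¬ IsMulCommutative G) (h : Nat.card G = 745) : False := by
  exact tp hG 5 149 1 1 (by norm_num) (by norm_num) (by rw [h]; norm_num)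

theorem no_746 {G : Type*} [Group G] [Finite G] [IsSimpleGroup G]
    (hG : ¬ IsMulCommutative G) (h : Nat.card G = 746) : False := by
  exact tp hG 2 373 1 1 (by norm_num) (by norm_num) (by rw [h]; norm_num)

theorem no_747 {G : Type*} [Group G] [Finite G] [IsSimpleGroup G]
    (hG : ¬ IsMulCommutative G) (h : Nat.card G = 747) : False := by
  exact tp hG 3 83 2 1 (by norm_num) (by norm_num) (by rw [h]; norm_num)

theorem no_748 {G : Type*} [Group G] [Finite G] [IsSimpleGroup G]
    (hG : ¬ IsMulCommutative G) (h : Nat.card G = 748) : False := by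
  exact ev hG (by rw [h]; exact ⟨374, by norm_num⟩) (by rw [h]; omega)

theorem no_749 {G : Type*} [Group G] [Finite G] [IsSimpleGroup G]
    (hG : ¬ IsMulCommutative G) (h : Nat.card G = 749) : False := by
  exact tp hG 7 107 1 1 (by norm_num) (by norm_num) (by rw [h]; norm_num)

theorem no_750 {G : Type*} [Group G] [Finite G] [IsSimpleGroup G]
    (hG : ¬ IsMulCommutative G) (h : Nat.card G = 750) : False := by
  exact ev hG (by rw [h]; exact ⟨375, by norm_num⟩) (by rw [h]; omega)

theorem no_751 {G : Type*} [Group G] [Finite G] [IsSimpleGroup G]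
    (hG : ¬ IsMulCommutative G) (h : Nat.card G = 751) : False := by
  exact tp hG 751 2 1 0 (by norm_num) (by norm_num) (by rw [h]; norm_num)

theorem no_752 {G : Type*} [Group G] [Finite G] [IsSimpleGroup G]
    (hG : ¬ IsMulCommutative G) (h : Nat.card G = 752) : False := by
  exact tp hG 2 47 4 1 (by norm_num) (by norm_num) (by rw [h]; norm_num)

theorem no_753 {G : Type*} [Group G] [Finite G] [IsSimpleGroup G]
    (hG : ¬ IsMulCommutative G) (h : Nat.card G = 753) : False := by
  exact tp hG 3 251 1 1 (by norm_num) (by norm_num) (by rw [h]; norm_num)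

theorem no_754 {G : Type*} [Group G] [Finite G] [IsSimpleGroup G]
    (hG : ¬ IsMulCommutative G) (h : Nat.card G = 754) : False := by
  exact ev hG (by rw [h]; exact ⟨377, by norm_num⟩) (by rw [h]; omega)

theorem no_755 {G : Type*} [Group G] [Finite G] [IsSimpleGroup G]
    (hG : ¬ IsMulCommutative G) (h : Nat.card G = 755) : False := by
  exact tp hG 5 151 1 1 (by norm_num) (by norm_num) (by rw [h]; norm_num)

theorem no_757 {G : Type*} [Group G] [Finite G] [IsSimpleGroup G]
    (hG : ¬ IsMulCommutative G) (h : Nat.card G = 757) : False := by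
  exact tp hG 757 2 1 0 (by norm_num) (by norm_num) (by rw [h]; norm_num)

theorem no_758 {G : Type*} [Group G] [Finite G] [IsSimpleGroup G]
    (hG : ¬ IsMulCommutative G) (h : Nat.card G = 758) : False := by
  exact tp hG 2 379 1 1 (by norm_num) (by norm_num) (by rw [h]; norm_num)

theorem no_759 {G : Type*} [Group G] [Finite G] [IsSimpleGroup G]
    (hG : ¬ IsMulCommutative G) (h : Nat.card G = 759) : False := by
  have : Fact (Nat.Prime 3) := ⟨by norm_num⟩
  have hc : Nat.card G = 3 ^ 1 * 253 := by rw [h]; norm_num
  have hm : ¬ 3 ∣ 253 := by norm_num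
  have hmem := card_sylow_mem_candidates hc hm
  have hcand : sylowCandidates 3 253 = [1, 253] := by decide
  rw [hcand] at hmem
  simp only [List.mem_cons, List.not_mem_nil, or_false] at hmem
  have hlt := one_lt_card_sylow_of_card hc hm (by norm_num) (by norm_num)
  rcases hmem with hd | hd
  · omega
  · exact burn_kill hc hm (by norm_num) 253 hd (by decide)

theorem no_760 {G : Type*} [Group G] [Finite G] [IsSimpleGroup G]
    (hG : ¬ IsMulCommutative G) (h : Nat.card G = 760) : False := by
  exact ev hG (by rw [h]; exact ⟨380, by norm_num⟩) (by rw [h]; omega)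

theorem no_761 {G : Type*} [Group G] [Finite G] [IsSimpleGroup G]
    (hG : ¬ IsMulCommutative G) (h : Nat.card G = 761) : False := by
  exact tp hG 761 2 1 0 (by norm_num) (by norm_num) (by rw [h]; norm_num)

theorem no_762 {G : Type*} [Group G] [Finite G] [IsSimpleGroup G]
    (hG : ¬ IsMulCommutative G) (h : Nat.card G = 762) : False := by
  exact ev hG (by rw [h]; exact ⟨381, by norm_num⟩) (by rw [h]; omega)

theorem no_763 {G : Type*} [Group G] [Finite G] [IsSimpleGroup G]
    (hG : ¬ IsMulCommutative G) (h : Nat.card G = 763) : False := by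
  exact tp hG 7 109 1 1 (by norm_num) (by norm_num) (by rw [h]; norm_num)

theorem no_764 {G : Type*} [Group G] [Finite G] [IsSimpleGroup G]
    (hG : ¬ IsMulCommutative G) (h : Nat.card G = 764) : False := by
  exact tp hG 2 191 2 1 (by norm_num) (by norm_num) (by rw [h]; norm_num)

theorem no_765 {G : Type*} [Group G] [Finite G] [IsSimpleGroup G]
    (hG : ¬ IsMulCommutative G) (h : Nat.card G = 765) : False := by
  have : Fact (Nat.Prime 3) := ⟨by norm_num⟩
  have hc : Nat.card G = 3 ^ 2 * 85 := by rw [h]; norm_num
  have hm : ¬ 3 ∣ 85 := by norm_num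
  have hmem := card_sylow_mem_candidates hc hm
  have hcand : sylowCandidates 3 85 = [1, 85] := by decide
  rw [hcand] at hmem
  simp only [List.mem_cons, List.not_mem_nil, or_false] at hmem
  have hlt := one_lt_card_sylow_of_card hc hm (by norm_num) (by norm_num)
  rcases hmem with hd | hd
  · omega
  · exact burn2_kill hc hm (by norm_num) hd

theorem no_766 {G : Type*} [Group G] [Finite G] [IsSimpleGroup G]
    (hG : ¬ IsMulCommutative G) (h : Nat.card G = 766) : False := by
  exact tp hG 2 383 1 1 (by norm_num) (by norm_num) (by rw [h]; norm_num)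

theorem no_767 {G : Type*} [Group G] [Finite G] [IsSimpleGroup G]
    (hG : ¬ IsMulCommutative G) (h : Nat.card G = 767) : False := by
  exact tp hG 13 59 1 1 (by norm_num) (by norm_num) (by rw [h]; norm_num)

theorem no_768 {G : Type*} [Group G] [Finite G] [IsSimpleGroup G]
    (hG : ¬ IsMulCommutative G) (h : Nat.card G = 768) : False := by
  exact tp hG 2 3 8 1 (by norm_num) (by norm_num) (by rw [h]; norm_num)

theorem no_769 {G : Type*} [Group G] [Finite G] [IsSimpleGroup G]
    (hG : ¬ IsMulCommutative G) (h : Nat.card G = 769) : False := by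
  exact tp hG 769 2 1 0 (by norm_num) (by norm_num) (by rw [h]; norm_num)

theorem no_770 {G : Type*} [Group G] [Finite G] [IsSimpleGroup G]
    (hG : ¬ IsMulCommutative G) (h : Nat.card G = 770) : False := by
  exact ev hG (by rw [h]; exact ⟨385, by norm_num⟩) (by rw [h]; omega)

theorem no_771 {G : Type*} [Group G] [Finite G] [IsSimpleGroup G]
    (hG : ¬ IsMulCommutative G) (h : Nat.card G = 771) : False := by
  exact tp hG 3 257 1 1 (by norm_num) (by norm_num) (by rw [h]; norm_num)

theorem no_772 {G : Type*} [Group G] [Finite G] [IsSimpleGroup G]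
    (hG : ¬ IsMulCommutative G) (h : Nat.card G = 772) : False := by
  exact tp hG 2 193 2 1 (by norm_num) (by norm_num) (by rw [h]; norm_num)

theorem no_773 {G : Type*} [Group G] [Finite G] [IsSimpleGroup G]
    (hG : ¬ IsMulCommutative G) (h : Nat.card G = 773) : False := by
  exact tp hG 773 2 1 0 (by norm_num) (by norm_num) (by rw [h]; norm_num)

theorem no_774 {G : Type*} [Group G] [Finite G] [IsSimpleGroup G]
    (hG : ¬ IsMulCommutative G) (h : Nat.card G = 774) : False := by
  exact ev hG (by rw [h]; exact ⟨387, by norm_num⟩) (by rw [h]; omega)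

theorem no_775 {G : Type*} [Group G] [Finite G] [IsSimpleGroup G]
    (hG : ¬ IsMulCommutative G) (h : Nat.card G = 775) : False := by
  exact tp hG 5 31 2 1 (by norm_num) (by norm_num) (by rw [h]; norm_num)

theorem no_776 {G : Type*} [Group G] [Finite G] [IsSimpleGroup G]
    (hG : ¬ IsMulCommutative G) (h : Nat.card G = 776) : False := by
  exact tp hG 2 97 3 1 (by norm_num) (by norm_num) (by rw [h]; norm_num)

theorem no_777 {G : Type*} [Group G] [Finite G] [IsSimpleGroup G]
    (hG : ¬ IsMulCommutative G) (h : Nat.card G = 777) : False := by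
  have : Fact (Nat.Prime 3) := ⟨by norm_num⟩
  have hc : Nat.card G = 3 ^ 1 * 259 := by rw [h]; norm_num
  have hm : ¬ 3 ∣ 259 := by norm_num
  have hmem := card_sylow_mem_candidates hc hm
  have hcand : sylowCandidates 3 259 = [1, 7, 37, 259] := by decide
  rw [hcand] at hmem
  simp only [List.mem_cons, List.not_mem_nil, or_false] at hmem
  have hlt := one_lt_card_sylow_of_card hc hm (by norm_num) (by norm_num)
  rcases hmem with hd | hd | hd | hd
  · omega
  · exact fact_kill hG 7 hd (by norm_num) (by rw [h]; decide)
  · exact burn_kill hc hm (by norm_num) 37 hd (by decide)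
  · exact burn_kill hc hm (by norm_num) 259 hd (by decide)

theorem no_778 {G : Type*} [Group G] [Finite G] [IsSimpleGroup G]
    (hG : ¬ IsMulCommutative G) (h : Nat.card G = 778) : False := by
  exact tp hG 2 389 1 1 (by norm_num) (by norm_num) (by rw [h]; norm_num)

theorem no_779 {G : Type*} [Group G] [Finite G] [IsSimpleGroup G]
    (hG : ¬ IsMulCommutative G) (h : Nat.card G = 779) : False := by
  exact tp hG 19 41 1 1 (by norm_num) (by norm_num) (by rw [h]; norm_num)

theorem no_780 {G : Type*} [Group G] [Finite G] [IsSimpleGroup G]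
    (hG : ¬ IsMulCommutative G) (h : Nat.card G = 780) : False := by
  have : Fact (Nat.Prime 13) := ⟨by norm_num⟩
  have hc : Nat.card G = 13 ^ 1 * 60 := by rw [h]; norm_num
  have hm : ¬ 13 ∣ 60 := by norm_num
  have hmem := card_sylow_mem_candidates hc hm
  have hcand : sylowCandidates 13 60 = [1] := by decide
  rw [hcand] at hmem
  simp only [List.mem_cons, List.not_mem_nil, or_false] at hmem
  have hlt := one_lt_card_sylow_of_card hc hm (by norm_num) (by norm_num)
  have hd := hmem
  · omega

theorem no_781 {G : Type*} [Group G] [Finite G] [IsSimpleGroup G]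
    (hG : ¬ IsMulCommutative G) (h : Nat.card G = 781) : False := by
  exact tp hG 11 71 1 1 (by norm_num) (by norm_num) (by rw [h]; norm_num)

theorem no_782 {G : Type*} [Group G] [Finite G] [IsSimpleGroup G]
    (hG : ¬ IsMulCommutative G) (h : Nat.card G = 782) : False := by
  exact ev hG (by rw [h]; exact ⟨391, by norm_num⟩) (by rw [h]; omega)

theorem no_783 {G : Type*} [Group G] [Finite G] [IsSimpleGroup G]
    (hG : ¬ IsMulCommutative G) (h : Nat.card G = 783) : False := by
  exact tp hG 3 29 3 1 (by norm_num) (by norm_num) (by rw [h]; norm_num)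

theorem no_784 {G : Type*} [Group G] [Finite G] [IsSimpleGroup G]
    (hG : ¬ IsMulCommutative G) (h : Nat.card G = 784) : False := by
  exact tp hG 2 7 4 2 (by norm_num) (by norm_num) (by rw [h]; norm_num)

theorem no_785 {G : Type*} [Group G] [Finite G] [IsSimpleGroup G]
    (hG : ¬ IsMulCommutative G) (h : Nat.card G = 785) : False := by
  exact tp hG 5 157 1 1 (by norm_num) (by norm_num) (by rw [h]; norm_num)

theorem no_786 {G : Type*} [Group G] [Finite G] [IsSimpleGroup G]
    (hG : ¬ IsMulCommutative G) (h : Nat.card G = 786) : False := by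
  exact ev hG (by rw [h]; exact ⟨393, by norm_num⟩) (by rw [h]; omega)

theorem no_787 {G : Type*} [Group G] [Finite G] [IsSimpleGroup G]
    (hG : ¬ IsMulCommutative G) (h : Nat.card G = 787) : False := by
  exact tp hG 787 2 1 0 (by norm_num) (by norm_num) (by rw [h]; norm_num)

theorem no_788 {G : Type*} [Group G] [Finite G] [IsSimpleGroup G]
    (hG : ¬ IsMulCommutative G) (h : Nat.card G = 788) : False := by
  exact tp hG 2 197 2 1 (by norm_num) (by norm_num) (by rw [h]; norm_num)

theorem no_789 {G : Type*} [Group G] [Finite G] [IsSimpleGroup G]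
    (hG : ¬ IsMulCommutative G) (h : Nat.card G = 789) : False := by
  exact tp hG 3 263 1 1 (by norm_num) (by norm_num) (by rw [h]; norm_num)

theorem no_790 {G : Type*} [Group G] [Finite G] [IsSimpleGroup G]
    (hG : ¬ IsMulCommutative G) (h : Nat.card G = 790) : False := by
  exact ev hG (by rw [h]; exact ⟨395, by norm_num⟩) (by rw [h]; omega)

theorem no_791 {G : Type*} [Group G] [Finite G] [IsSimpleGroup G]
    (hG : ¬ IsMulCommutative G) (h : Nat.card G = 791) : False := by
  exact tp hG 7 113 1 1 (by norm_num) (by norm_num) (by rw [h]; norm_num)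

theorem no_792 {G : Type*} [Group G] [Finite G] [IsSimpleGroup G]
    (hG : ¬ IsMulCommutative G) (h : Nat.card G = 792) : False := by
  have : Fact (Nat.Prime 11) := ⟨by norm_num⟩
  have hc : Nat.card G = 11 ^ 1 * 72 := by rw [h]; norm_num
  have hm : ¬ 11 ∣ 72 := by norm_num
  have hmem := card_sylow_mem_candidates hc hm
  have hcand : sylowCandidates 11 72 = [1, 12] := by decide
  rw [hcand] at hmem
  simp only [List.mem_cons, List.not_mem_nil, or_false] at hmem
  have hlt := one_lt_card_sylow_of_card hc hm (by norm_num) (by norm_num)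
  rcases hmem with hd | hd
  · omega
  · exact perm_kill hG (by norm_num) hc hm hd 66 (by omega) (by decide)

theorem no_793 {G : Type*} [Group G] [Finite G] [IsSimpleGroup G]
    (hG : ¬ IsMulCommutative G) (h : Nat.card G = 793) : False := by
  exact tp hG 13 61 1 1 (by norm_num) (by norm_num) (by rw [h]; norm_num)

theorem no_794 {G : Type*} [Group G] [Finite G] [IsSimpleGroup G]
    (hG : ¬ IsMulCommutative G) (h : Nat.card G = 794) : False := by
  exact tp hG 2 397 1 1 (by norm_num) (by norm_num) (by rw [h]; norm_num)

theorem no_795 {G : Type*} [Group G] [Finite G] [IsSimpleGroup G]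
    (hG : ¬ IsMulCommutative G) (h : Nat.card G = 795) : False := by
  have : Fact (Nat.Prime 3) := ⟨by norm_num⟩
  have hc : Nat.card G = 3 ^ 1 * 265 := by rw [h]; norm_num
  have hm : ¬ 3 ∣ 265 := by norm_num
  have hmem := card_sylow_mem_candidates hc hm
  have hcand : sylowCandidates 3 265 = [1, 265] := by decide
  rw [hcand] at hmem
  simp only [List.mem_cons, List.not_mem_nil, or_false] at hmem
  have hlt := one_lt_card_sylow_of_card hc hm (by norm_num) (by norm_num)
  rcases hmem with hd | hd
  · omega
  · exact burn_kill hc hm (by norm_num) 265 hd (by decide)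

theorem no_796 {G : Type*} [Group G] [Finite G] [IsSimpleGroup G]
    (hG : ¬ IsMulCommutative G) (h : Nat.card G = 796) : False := by
  exact tp hG 2 199 2 1 (by norm_num) (by norm_num) (by rw [h]; norm_num)

theorem no_797 {G : Type*} [Group G] [Finite G] [IsSimpleGroup G]
    (hG : ¬ IsMulCommutative G) (h : Nat.card G = 797) : False := by
  exact tp hG 797 2 1 0 (by norm_num) (by norm_num) (by rw [h]; norm_num)

theorem no_798 {G : Type*} [Group G] [Finite G] [IsSimpleGroup G]
    (hG : ¬ IsMulCommutative G) (h : Nat.card G = 798) : False := by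
  exact ev hG (by rw [h]; exact ⟨399, by norm_num⟩) (by rw [h]; omega)

theorem no_799 {G : Type*} [Group G] [Finite G] [IsSimpleGroup G]
    (hG : ¬ IsMulCommutative G) (h : Nat.card G = 799) : False := by
  exact tp hG 17 47 1 1 (by norm_num) (by norm_num) (by rw [h]; norm_num)

theorem no_800 {G : Type*} [Group G] [Finite G] [IsSimpleGroup G]
    (hG : ¬ IsMulCommutative G) (h : Nat.card G = 800) : False := by
  exact tp hG 2 5 5 2 (by norm_num) (by norm_num) (by rw [h]; norm_num)

/-- the orders in [701, 800] not excluded by the engine -/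
theorem chunk {G : Type*} [Group G] [Finite G] [IsSimpleGroup G]
    (hG : ¬ IsMulCommutative G) (n : ℕ) (hn : Nat.card G = n) (h1 : 701 ≤ n) (h2 : n ≤ 800) :
    n = 720 ∨ n = 756 := by
  interval_cases n
  · exact (no_701 hG hn).elim
  · exact (no_702 hG hn).elim
  · exact (no_703 hG hn).elim
  · exact (no_704 hG hn).elim
  · exact (no_705 hG hn).elim
  · exact (no_706 hG hn).elim
  · exact (no_707 hG hn).elim
  · exact (no_708 hG hn).elim
  · exact (no_709 hG hn).elim
  · exact (no_710 hG hn).elim
  · exact (no_711 hG hn).elim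
  · exact (no_712 hG hn).elim
  · exact (no_713 hG hn).elim
  · exact (no_714 hG hn).elim
  · exact (no_715 hG hn).elim
  · exact (no_716 hG hn).elim
  · exact (no_717 hG hn).elim
  · exact (no_718 hG hn).elim
  · exact (no_719 hG hn).elim
  · simp
  · exact (no_721 hG hn).elim
  · exact (no_722 hG hn).elim
  · exact (no_723 hG hn).elim
  · exact (no_724 hG hn).elim
  · exact (no_725 hG hn).elim
  · exact (no_726 hG hn).elim
  · exact (no_727 hG hn).elim
  · exact (no_728 hG hn).elim
  · exact (no_729 hG hn).elim
  · exact (no_730 hG hn).elim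
  · exact (no_731 hG hn).elim
  · exact (no_732 hG hn).elim
  · exact (no_733 hG hn).elim
  · exact (no_734 hG hn).elim
  · exact (no_735 hG hn).elim
  · exact (no_736 hG hn).elim
  · exact (no_737 hG hn).elim
  · exact (no_738 hG hn).elim
  · exact (no_739 hG hn).elim
  · exact (no_740 hG hn).elim
  · exact (no_741 hG hn).elim
  · exact (no_742 hG hn).elim
  · exact (no_743 hG hn).elim
  · exact (no_744 hG hn).elim
  · exact (no_745 hG hn).elim
  · exact (no_746 hG hn).elim
  · exact (no_747 hG hn).elim
  · exact (no_748 hG hn).elim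
  · exact (no_749 hG hn).elim
  · exact (no_750 hG hn).elim
  · exact (no_751 hG hn).elim
  · exact (no_752 hG hn).elim
  · exact (no_753 hG hn).elim
  · exact (no_754 hG hn).elim
  · exact (no_755 hG hn).elim
  · simp
  · exact (no_757 hG hn).elim
  · exact (no_758 hG hn).elim
  · exact (no_759 hG hn).elim
  · exact (no_760 hG hn).elim
  · exact (no_761 hG hn).elim
  · exact (no_762 hG hn).elim
  · exact (no_763 hG hn).elim
  · exact (no_764 hG hn).elim
  · exact (no_765 hG hn).elim
  · exact (no_766 hG hn).elim
  · exact (no_767 hG hn).elim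
  · exact (no_768 hG hn).elim
  · exact (no_769 hG hn).elim
  · exact (no_770 hG hn).elim
  · exact (no_771 hG hn).elim
  · exact (no_772 hG hn).elim
  · exact (no_773 hG hn).elim
  · exact (no_774 hG hn).elim
  · exact (no_775 hG hn).elim
  · exact (no_776 hG hn).elim
  · exact (no_777 hG hn).elim
  · exact (no_778 hG hn).elim
  · exact (no_779 hG hn).elim
  · exact (no_780 hG hn).elim
  · exact (no_781 hG hn).elim
  · exact (no_782 hG hn).elim
  · exact (no_783 hG hn).elim
  · exact (no_784 hG hn).elim
  · exact (no_785 hG hn).elim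
  · exact (no_786 hG hn).elim
  · exact (no_787 hG hn).elim
  · exact (no_788 hG hn).elim
  · exact (no_789 hG hn).elim
  · exact (no_790 hG hn).elim
  · exact (no_791 hG hn).elim
  · exact (no_792 hG hn).elim
  · exact (no_793 hG hn).elim
  · exact (no_794 hG hn).elim
  · exact (no_795 hG hn).elim
  · exact (no_796 hG hn).elim
  · exact (no_797 hG hn).elim
  · exact (no_798 hG hn).elim
  · exact (no_799 hG hn).elim
  · exact (no_800 hG hn).elim

end Cfsg.Agent.Lib.Helper75_SM_E6
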