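import Mathlib
import Cfsg.Agent.Lib.Helper75_SM_Base

/-!
# S0496 engine, generated file: no simple group of order N for the easy N in [801, 900] (helper75)
-/

set_option autoImplicit false

namespace Cfsg.Agent.Lib.Helper75_SM_E7

open Cfsg.Agent.Lib.Helper17_Sylow Cfsg.Agent.Lib.Helper75_SM_Base

theorem no_801 {G : Type*} [Group G] [Finite G] [IsSimpleGroup G]
    (hG : ¬ IsMulCommutative G) (h : Nat.card G = 801) : False := by
  exact tp hG 3 89 2 1 (by norm_num) (by norm_num) (by rw [h]; norm_num)

theorem no_802 {G : Type*} [Group G] [Finite G] [IsSimpleGroup G]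
    (hG : ¬ IsMulCommutative G) (h : Nat.card G = 802) : False := by
  exact tp hG 2 401 1 1 (by norm_num) (by norm_num) (by rw [h]; norm_num)

theorem no_803 {G : Type*} [Group G] [Finite G] [IsSimpleGroup G]
    (hG : ¬ IsMulCommutative G) (h : Nat.card G = 803) : False := by
  exact tp hG 11 73 1 1 (by norm_num) (by norm_num) (by rw [h]; norm_num)

theorem no_804 {G : Type*} [Group G] [Finite G] [IsSimpleGroup G]
    (hG : ¬ IsMulCommutative G) (h : Nat.card G = 804) : False := by
  have : Fact (Nat.Prime 67) := ⟨by norm_num⟩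
  have hc : Nat.card G = 67 ^ 1 * 12 := by rw [h]; norm_num
  have hm : ¬ 67 ∣ 12 := by norm_num
  have hmem := card_sylow_mem_candidates hc hm
  have hcand : sylowCandidates 67 12 = [1] := by decide
  rw [hcand] at hmem
  simp only [List.mem_cons, List.not_mem_nil, or_false] at hmem
  have hlt := one_lt_card_sylow_of_card hc hm (by norm_num) (by norm_num)
  have hd := hmem
  · omega

theorem no_805 {G : Type*} [Group G] [Finite G] [IsSimpleGroup G]
    (hG : ¬ IsMulCommutative G) (h : Nat.card G = 805) : False := by
  have : Fact (Nat.Prime 5) := ⟨by norm_num⟩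
  have hc : Nat.card G = 5 ^ 1 * 161 := by rw [h]; norm_num
  have hm : ¬ 5 ∣ 161 := by norm_num
  have hmem := card_sylow_mem_candidates hc hm
  have hcand : sylowCandidates 5 161 = [1, 161] := by decide
  rw [hcand] at hmem
  simp only [List.mem_cons, List.not_mem_nil, or_false] at hmem
  have hlt := one_lt_card_sylow_of_card hc hm (by norm_num) (by norm_num)
  rcases hmem with hd | hd
  · omega
  · exact burn_kill hc hm (by norm_num) 161 hd (by decide)

theorem no_806 {G : Type*} [Group G] [Finite G] [IsSimpleGroup G]
    (hG : ¬ IsMulCommutative G) (h : Nat.card G = 806) : False := by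
  exact ev hG (by rw [h]; exact ⟨403, by norm_num⟩) (by rw [h]; omega)

theorem no_807 {G : Type*} [Group G] [Finite G] [IsSimpleGroup G]
    (hG : ¬ IsMulCommutative G) (h : Nat.card G = 807) : False := by
  exact tp hG 3 269 1 1 (by norm_num) (by norm_num) (by rw [h]; norm_num)

theorem no_808 {G : Type*} [Group G] [Finite G] [IsSimpleGroup G]
    (hG : ¬ IsMulCommutative G) (h : Nat.card G = 808) : False := by
  exact tp hG 2 101 3 1 (by norm_num) (by norm_num) (by rw [h]; norm_num)

theorem no_809 {G : Type*} [Group G] [Finite G] [IsSimpleGroup G]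
    (hG : ¬ IsMulCommutative G) (h : Nat.card G = 809) : False := by
  exact tp hG 809 2 1 0 (by norm_num) (by norm_num) (by rw [h]; norm_num)

theorem no_810 {G : Type*} [Group G] [Finite G] [IsSimpleGroup G]
    (hG : ¬ IsMulCommutative G) (h : Nat.card G = 810) : False := by
  exact ev hG (by rw [h]; exact ⟨405, by norm_num⟩) (by rw [h]; omega)

theorem no_811 {G : Type*} [Group G] [Finite G] [IsSimpleGroup G]
    (hG : ¬ IsMulCommutative G) (h : Nat.card G = 811) : False := by
  exact tp hG 811 2 1 0 (by norm_num) (by norm_num) (by rw [h]; norm_num)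

theorem no_812 {G : Type*} [Group G] [Finite G] [IsSimpleGroup G]
    (hG : ¬ IsMulCommutative G) (h : Nat.card G = 812) : False := by
  exact ev hG (by rw [h]; exact ⟨406, by norm_num⟩) (by rw [h]; omega)

theorem no_813 {G : Type*} [Group G] [Finite G] [IsSimpleGroup G]
    (hG : ¬ IsMulCommutative G) (h : Nat.card G = 813) : False := by
  exact tp hG 3 271 1 1 (by norm_num) (by norm_num) (by rw [h]; norm_num)

theorem no_814 {G : Type*} [Group G] [Finite G] [IsSimpleGroup G]
    (hG : ¬ IsMulCommutative G) (h : Nat.card G = 814) : False := by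
  exact ev hG (by rw [h]; exact ⟨407, by norm_num⟩) (by rw [h]; omega)

theorem no_815 {G : Type*} [Group G] [Finite G] [IsSimpleGroup G]
    (hG : ¬ IsMulCommutative G) (h : Nat.card G = 815) : False := by
  exact tp hG 5 163 1 1 (by norm_num) (by norm_num) (by rw [h]; norm_num)

theorem no_816 {G : Type*} [Group G] [Finite G] [IsSimpleGroup G]
    (hG : ¬ IsMulCommutative G) (h : Nat.card G = 816) : False := by
  have : Fact (Nat.Prime 17) := ⟨by norm_num⟩
  have hc : Nat.card G = 17 ^ 1 * 48 := by rw [h]; norm_num
  have hm : ¬ 17 ∣ 48 := by norm_num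
  have hmem := card_sylow_mem_candidates hc hm
  have hcand : sylowCandidates 17 48 = [1] := by decide
  rw [hcand] at hmem
  simp only [List.mem_cons, List.not_mem_nil, or_false] at hmem
  have hlt := one_lt_card_sylow_of_card hc hm (by norm_num) (by norm_num)
  have hd := hmem
  · omega

theorem no_817 {G : Type*} [Group G] [Finite G] [IsSimpleGroup G]
    (hG : ¬ IsMulCommutative G) (h : Nat.card G = 817) : False := by
  exact tp hG 19 43 1 1 (by norm_num) (by norm_num) (by rw [h]; norm_num)

theorem no_818 {G : Type*} [Group G] [Finite G] [IsSimpleGroup G]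
    (hG : ¬ IsMulCommutative G) (h : Nat.card G = 818) : False := by
  exact tp hG 2 409 1 1 (by norm_num) (by norm_num) (by rw [h]; norm_num)

theorem no_819 {G : Type*} [Group G] [Finite G] [IsSimpleGroup G]
    (hG : ¬ IsMulCommutative G) (h : Nat.card G = 819) : False := by
  have : Fact (Nat.Prime 7) := ⟨by norm_num⟩
  have hc : Nat.card G = 7 ^ 1 * 117 := by rw [h]; norm_num
  have hm : ¬ 7 ∣ 117 := by norm_num
  have hmem := card_sylow_mem_candidates hc hm
  have hcand : sylowCandidates 7 117 = [1] := by decide
  rw [hcand] at hmem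
  simp only [List.mem_cons, List.not_mem_nil, or_false] at hmem
  have hlt := one_lt_card_sylow_of_card hc hm (by norm_num) (by norm_num)
  have hd := hmem
  · omega

theorem no_820 {G : Type*} [Group G] [Finite G] [IsSimpleGroup G]
    (hG : ¬ IsMulCommutative G) (h : Nat.card G = 820) : False := by
  exact ev hG (by rw [h]; exact ⟨410, by norm_num⟩) (by rw [h]; omega)

theorem no_821 {G : Type*} [Group G] [Finite G] [IsSimpleGroup G]
    (hG : ¬ IsMulCommutative G) (h : Nat.card G = 821) : False := by
  exact tp hG 821 2 1 0 (by norm_num) (by norm_num) (by rw [h]; norm_num)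

theorem no_822 {G : Type*} [Group G] [Finite G] [IsSimpleGroup G]
    (hG : ¬ IsMulCommutative G) (h : Nat.card G = 822) : False := by
  exact ev hG (by rw [h]; exact ⟨411, by norm_num⟩) (by rw [h]; omega)

theorem no_823 {G : Type*} [Group G] [Finite G] [IsSimpleGroup G]
    (hG : ¬ IsMulCommutative G) (h : Nat.card G = 823) : False := by
  exact tp hG 823 2 1 0 (by norm_num) (by norm_num) (by rw [h]; norm_num)

theorem no_824 {G : Type*} [Group G] [Finite G] [IsSimpleGroup G]
    (hG : ¬ IsMulCommutative G) (h : Nat.card G = 824) : False := by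
  exact tp hG 2 103 3 1 (by norm_num) (by norm_num) (by rw [h]; norm_num)

theorem no_825 {G : Type*} [Group G] [Finite G] [IsSimpleGroup G]
    (hG : ¬ IsMulCommutative G) (h : Nat.card G = 825) : False := by
  have : Fact (Nat.Prime 3) := ⟨by norm_num⟩
  have hc : Nat.card G = 3 ^ 1 * 275 := by rw [h]; norm_num
  have hm : ¬ 3 ∣ 275 := by norm_num
  have hmem := card_sylow_mem_candidates hc hm
  have hcand : sylowCandidates 3 275 = [1, 25, 55] := by decide
  rw [hcand] at hmem
  simp only [List.mem_cons, List.not_mem_nil, or_false] at hmem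
  have hlt := one_lt_card_sylow_of_card hc hm (by norm_num) (by norm_num)
  rcases hmem with hd | hd | hd
  · omega
  · exact burn_kill hc hm (by norm_num) 25 hd (by decide)
  · exact burn_kill hc hm (by norm_num) 55 hd (by decide)

theorem no_826 {G : Type*} [Group G] [Finite G] [IsSimpleGroup G]
    (hG : ¬ IsMulCommutative G) (h : Nat.card G = 826) : False := by
  exact ev hG (by rw [h]; exact ⟨413, by norm_num⟩) (by rw [h]; omega)

theorem no_827 {G : Type*} [Group G] [Finite G] [IsSimpleGroup G]
    (hG : ¬ IsMulCommutative G) (h : Nat.card G = 827) : False := by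
  exact tp hG 827 2 1 0 (by norm_num) (by norm_num) (by rw [h]; norm_num)

theorem no_828 {G : Type*} [Group G] [Finite G] [IsSimpleGroup G]
    (hG : ¬ IsMulCommutative G) (h : Nat.card G = 828) : False := by
  have : Fact (Nat.Prime 23) := ⟨by norm_num⟩
  have hc : Nat.card G = 23 ^ 1 * 36 := by rw [h]; norm_num
  have hm : ¬ 23 ∣ 36 := by norm_num
  have hmem := card_sylow_mem_candidates hc hm
  have hcand : sylowCandidates 23 36 = [1] := by decide
  rw [hcand] at hmem
  simp only [List.mem_cons, List.not_mem_nil, or_false] at hmem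
  have hlt := one_lt_card_sylow_of_card hc hm (by norm_num) (by norm_num)
  have hd := hmem
  · omega

theorem no_829 {G : Type*} [Group G] [Finite G] [IsSimpleGroup G]
    (hG : ¬ IsMulCommutative G) (h : Nat.card G = 829) : False := by
  exact tp hG 829 2 1 0 (by norm_num) (by norm_num) (by rw [h]; norm_num)

theorem no_830 {G : Type*} [Group G] [Finite G] [IsSimpleGroup G]
    (hG : ¬ IsMulCommutative G) (h : Nat.card G = 830) : False := by
  exact ev hG (by rw [h]; exact ⟨415, by norm_num⟩) (by rw [h]; omega)

theorem no_831 {G : Type*} [Group G] [Finite G] [IsSimpleGroup G]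
    (hG : ¬ IsMulCommutative G) (h : Nat.card G = 831) : False := by
  exact tp hG 3 277 1 1 (by norm_num) (by norm_num) (by rw [h]; norm_num)

theorem no_832 {G : Type*} [Group G] [Finite G] [IsSimpleGroup G]
    (hG : ¬ IsMulCommutative G) (h : Nat.card G = 832) : False := by
  exact tp hG 2 13 6 1 (by norm_num) (by norm_num) (by rw [h]; norm_num)

theorem no_833 {G : Type*} [Group G] [Finite G] [IsSimpleGroup G]
    (hG : ¬ IsMulCommutative G) (h : Nat.card G = 833) : False := by
  exact tp hG 7 17 2 1 (by norm_num) (by norm_num) (by rw [h]; norm_num)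

theorem no_834 {G : Type*} [Group G] [Finite G] [IsSimpleGroup G]
    (hG : ¬ IsMulCommutative G) (h : Nat.card G = 834) : False := by
  exact ev hG (by rw [h]; exact ⟨417, by norm_num⟩) (by rw [h]; omega)

theorem no_835 {G : Type*} [Group G] [Finite G] [IsSimpleGroup G]
    (hG : ¬ IsMulCommutative G) (h : Nat.card G = 835) : False := by
  exact tp hG 5 167 1 1 (by norm_num) (by norm_num) (by rw [h]; norm_num)

theorem no_836 {G : Type*} [Group G] [Finite G] [IsSimpleGroup G]
    (hG : ¬ IsMulCommutative G) (h : Nat.card G = 836) : False := by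
  exact ev hG (by rw [h]; exact ⟨418, by norm_num⟩) (by rw [h]; omega)

theorem no_837 {G : Type*} [Group G] [Finite G] [IsSimpleGroup G]
    (hG : ¬ IsMulCommutative G) (h : Nat.card G = 837) : False := by
  exact tp hG 3 31 3 1 (by norm_num) (by norm_num) (by rw [h]; norm_num)

theorem no_838 {G : Type*} [Group G] [Finite G] [IsSimpleGroup G]
    (hG : ¬ IsMulCommutative G) (h : Nat.card G = 838) : False := by
  exact tp hG 2 419 1 1 (by norm_num) (by norm_num) (by rw [h]; norm_num)

theorem no_839 {G : Type*} [Group G] [Finite G] [IsSimpleGroup G]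
    (hG : ¬ IsMulCommutative G) (h : Nat.card G = 839) : False := by
  exact tp hG 839 2 1 0 (by norm_num) (by norm_num) (by rw [h]; norm_num)

theorem no_841 {G : Type*} [Group G] [Finite G] [IsSimpleGroup G]
    (hG : ¬ IsMulCommutative G) (h : Nat.card G = 841) : False := by
  exact tp hG 29 2 2 0 (by norm_num) (by norm_num) (by rw [h]; norm_num)

theorem no_842 {G : Type*} [Group G] [Finite G] [IsSimpleGroup G]
    (hG : ¬ IsMulCommutative G) (h : Nat.card G = 842) : False := by
  exact tp hG 2 421 1 1 (by norm_num) (by norm_num) (by rw [h]; norm_num)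

theorem no_843 {G : Type*} [Group G] [Finite G] [IsSimpleGroup G]
    (hG : ¬ IsMulCommutative G) (h : Nat.card G = 843) : False := by
  exact tp hG 3 281 1 1 (by norm_num) (by norm_num) (by rw [h]; norm_num)

theorem no_844 {G : Type*} [Group G] [Finite G] [IsSimpleGroup G]
    (hG : ¬ IsMulCommutative G) (h : Nat.card G = 844) : False := by
  exact tp hG 2 211 2 1 (by norm_num) (by norm_num) (by rw [h]; norm_num)

theorem no_845 {G : Type*} [Group G] [Finite G] [IsSimpleGroup G]
    (hG : ¬ IsMulCommutative G) (h : Nat.card G = 845) : False := by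
  exact tp hG 5 13 1 2 (by norm_num) (by norm_num) (by rw [h]; norm_num)

theorem no_846 {G : Type*} [Group G] [Finite G] [IsSimpleGroup G]
    (hG : ¬ IsMulCommutative G) (h : Nat.card G = 846) : False := by
  exact ev hG (by rw [h]; exact ⟨423, by norm_num⟩) (by rw [h]; omega)

theorem no_847 {G : Type*} [Group G] [Finite G] [IsSimpleGroup G]
    (hG : ¬ IsMulCommutative G) (h : Nat.card G = 847) : False := by
  exact tp hG 7 11 1 2 (by norm_num) (by norm_num) (by rw [h]; norm_num)

theorem no_848 {G : Type*} [Group G] [Finite G] [IsSimpleGroup G]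
    (hG : ¬ IsMulCommutative G) (h : Nat.card G = 848) : False := by
  exact tp hG 2 53 4 1 (by norm_num) (by norm_num) (by rw [h]; norm_num)

theorem no_849 {G : Type*} [Group G] [Finite G] [IsSimpleGroup G]
    (hG : ¬ IsMulCommutative G) (h : Nat.card G = 849) : False := by
  exact tp hG 3 283 1 1 (by norm_num) (by norm_num) (by rw [h]; norm_num)

theorem no_850 {G : Type*} [Group G] [Finite G] [IsSimpleGroup G]
    (hG : ¬ IsMulCommutative G) (h : Nat.card G = 850) : False := by
  exact ev hG (by rw [h]; exact ⟨425, by norm_num⟩) (by rw [h]; omega)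

theorem no_851 {G : Type*} [Group G] [Finite G] [IsSimpleGroup G]
    (hG : ¬ IsMulCommutative G) (h : Nat.card G = 851) : False := by
  exact tp hG 23 37 1 1 (by norm_num) (by norm_num) (by rw [h]; norm_num)

theorem no_852 {G : Type*} [Group G] [Finite G] [IsSimpleGroup G]
    (hG : ¬ IsMulCommutative G) (h : Nat.card G = 852) : False := by
  have : Fact (Nat.Prime 71) := ⟨by norm_num⟩
  have hc : Nat.card G = 71 ^ 1 * 12 := by rw [h]; norm_num
  have hm : ¬ 71 ∣ 12 := by norm_num
  have hmem := card_sylow_mem_candidates hc hm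
  have hcand : sylowCandidates 71 12 = [1] := by decide
  rw [hcand] at hmem
  simp only [List.mem_cons, List.not_mem_nil, or_false] at hmem
  have hlt := one_lt_card_sylow_of_card hc hm (by norm_num) (by norm_num)
  have hd := hmem
  · omega

theorem no_853 {G : Type*} [Group G] [Finite G] [IsSimpleGroup G]
    (hG : ¬ IsMulCommutative G) (h : Nat.card G = 853) : False := by
  exact tp hG 853 2 1 0 (by norm_num) (by norm_num) (by rw [h]; norm_num)

theorem no_854 {G : Type*} [Group G] [Finite G] [IsSimpleGroup G]
    (hG : ¬ IsMulCommutative G) (h : Nat.card G = 854) : False := by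
  exact ev hG (by rw [h]; exact ⟨427, by norm_num⟩) (by rw [h]; omega)

theorem no_855 {G : Type*} [Group G] [Finite G] [IsSimpleGroup G]
    (hG : ¬ IsMulCommutative G) (h : Nat.card G = 855) : False := by
  have : Fact (Nat.Prime 5) := ⟨by norm_num⟩
  have hc : Nat.card G = 5 ^ 1 * 171 := by rw [h]; norm_num
  have hm : ¬ 5 ∣ 171 := by norm_num
  have hmem := card_sylow_mem_candidates hc hm
  have hcand : sylowCandidates 5 171 = [1, 171] := by decide
  rw [hcand] at hmem
  simp only [List.mem_cons, List.not_mem_nil, or_false] at hmem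
  have hlt := one_lt_card_sylow_of_card hc hm (by norm_num) (by norm_num)
  rcases hmem with hd | hd
  · omega
  · exact burn_kill hc hm (by norm_num) 171 hd (by decide)

theorem no_856 {G : Type*} [Group G] [Finite G] [IsSimpleGroup G]
    (hG : ¬ IsMulCommutative G) (h : Nat.card G = 856) : False := by
  exact tp hG 2 107 3 1 (by norm_num) (by norm_num) (by rw [h]; norm_num)

theorem no_857 {G : Type*} [Group G] [Finite G] [IsSimpleGroup G]
    (hG : ¬ IsMulCommutative G) (h : Nat.card G = 857) : False := by
  exact tp hG 857 2 1 0 (by norm_num) (by norm_num) (by rw [h]; norm_num)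

theorem no_858 {G : Type*} [Group G] [Finite G] [IsSimpleGroup G]
    (hG : ¬ IsMulCommutative G) (h : Nat.card G = 858) : False := by
  exact ev hG (by rw [h]; exact ⟨429, by norm_num⟩) (by rw [h]; omega)

theorem no_859 {G : Type*} [Group G] [Finite G] [IsSimpleGroup G]
    (hG : ¬ IsMulCommutative G) (h : Nat.card G = 859) : False := by
  exact tp hG 859 2 1 0 (by norm_num) (by norm_num) (by rw [h]; norm_num)

theorem no_860 {G : Type*} [Group G] [Finite G] [IsSimpleGroup G]
    (hG : ¬ IsMulCommutative G) (h : Nat.card G = 860) : False := by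
  exact ev hG (by rw [h]; exact ⟨430, by norm_num⟩) (by rw [h]; omega)

theorem no_861 {G : Type*} [Group G] [Finite G] [IsSimpleGroup G]
    (hG : ¬ IsMulCommutative G) (h : Nat.card G = 861) : False := by
  have : Fact (Nat.Prime 3) := ⟨by norm_num⟩
  have hc : Nat.card G = 3 ^ 1 * 287 := by rw [h]; norm_num
  have hm : ¬ 3 ∣ 287 := by norm_num
  have hmem := card_sylow_mem_candidates hc hm
  have hcand : sylowCandidates 3 287 = [1, 7] := by decide
  rw [hcand] at hmem
  simp only [List.mem_cons, List.not_mem_nil, or_false] at hmem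
  have hlt := one_lt_card_sylow_of_card hc hm (by norm_num) (by norm_num)
  rcases hmem with hd | hd
  · omega
  · exact fact_kill hG 7 hd (by norm_num) (by rw [h]; decide)

theorem no_862 {G : Type*} [Group G] [Finite G] [IsSimpleGroup G]
    (hG : ¬ IsMulCommutative G) (h : Nat.card G = 862) : False := by
  exact tp hG 2 431 1 1 (by norm_num) (by norm_num) (by rw [h]; norm_num)

theorem no_863 {G : Type*} [Group G] [Finite G] [IsSimpleGroup G]
    (hG : ¬ IsMulCommutative G) (h : Nat.card G = 863) : False := by
  exact tp hG 863 2 1 0 (by norm_num) (by norm_num) (by rw [h]; norm_num)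

theorem no_864 {G : Type*} [Group G] [Finite G] [IsSimpleGroup G]
    (hG : ¬ IsMulCommutative G) (h : Nat.card G = 864) : False := by
  exact tp hG 2 3 5 3 (by norm_num) (by norm_num) (by rw [h]; norm_num)

theorem no_865 {G : Type*} [Group G] [Finite G] [IsSimpleGroup G]
    (hG : ¬ IsMulCommutative G) (h : Nat.card G = 865) : False := by
  exact tp hG 5 173 1 1 (by norm_num) (by norm_num) (by rw [h]; norm_num)

theorem no_866 {G : Type*} [Group G] [Finite G] [IsSimpleGroup G]
    (hG : ¬ IsMulCommutative G) (h : Nat.card G = 866) : False := by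
  exact tp hG 2 433 1 1 (by norm_num) (by norm_num) (by rw [h]; norm_num)

theorem no_867 {G : Type*} [Group G] [Finite G] [IsSimpleGroup G]
    (hG : ¬ IsMulCommutative G) (h : Nat.card G = 867) : False := by
  exact tp hG 3 17 1 2 (by norm_num) (by norm_num) (by rw [h]; norm_num)

theorem no_868 {G : Type*} [Group G] [Finite G] [IsSimpleGroup G]
    (hG : ¬ IsMulCommutative G) (h : Nat.card G = 868) : False := by
  exact ev hG (by rw [h]; exact ⟨434, by norm_num⟩) (by rw [h]; omega)

theorem no_869 {G : Type*} [Group G] [Finite G] [IsSimpleGroup G]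
    (hG : ¬ IsMulCommutative G) (h : Nat.card G = 869) : False := by
  exact tp hG 11 79 1 1 (by norm_num) (by norm_num) (by rw [h]; norm_num)

theorem no_870 {G : Type*} [Group G] [Finite G] [IsSimpleGroup G]
    (hG : ¬ IsMulCommutative G) (h : Nat.card G = 870) : False := by
  exact ev hG (by rw [h]; exact ⟨435, by norm_num⟩) (by rw [h]; omega)

theorem no_871 {G : Type*} [Group G] [Finite G] [IsSimpleGroup G]
    (hG : ¬ IsMulCommutative G) (h : Nat.card G = 871) : False := by
  exact tp hG 13 67 1 1 (by norm_num) (by norm_num) (by rw [h]; norm_num)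

theorem no_872 {G : Type*} [Group G] [Finite G] [IsSimpleGroup G]
    (hG : ¬ IsMulCommutative G) (h : Nat.card G = 872) : False := by
  exact tp hG 2 109 3 1 (by norm_num) (by norm_num) (by rw [h]; norm_num)

theorem no_873 {G : Type*} [Group G] [Finite G] [IsSimpleGroup G]
    (hG : ¬ IsMulCommutative G) (h : Nat.card G = 873) : False := by
  exact tp hG 3 97 2 1 (by norm_num) (by norm_num) (by rw [h]; norm_num)

theorem no_874 {G : Type*} [Group G] [Finite G] [IsSimpleGroup G]
    (hG : ¬ IsMulCommutative G) (h : Nat.card G = 874) : False := by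
  exact ev hG (by rw [h]; exact ⟨437, by norm_num⟩) (by rw [h]; omega)

theorem no_875 {G : Type*} [Group G] [Finite G] [IsSimpleGroup G]
    (hG : ¬ IsMulCommutative G) (h : Nat.card G = 875) : False := by
  exact tp hG 5 7 3 1 (by norm_num) (by norm_num) (by rw [h]; norm_num)

theorem no_876 {G : Type*} [Group G] [Finite G] [IsSimpleGroup G]
    (hG : ¬ IsMulCommutative G) (h : Nat.card G = 876) : False := by
  have : Fact (Nat.Prime 73) := ⟨by norm_num⟩
  have hc : Nat.card G = 73 ^ 1 * 12 := by rw [h]; norm_num
  have hm : ¬ 73 ∣ 12 := by norm_num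
  have hmem := card_sylow_mem_candidates hc hm
  have hcand : sylowCandidates 73 12 = [1] := by decide
  rw [hcand] at hmem
  simp only [List.mem_cons, List.not_mem_nil, or_false] at hmem
  have hlt := one_lt_card_sylow_of_card hc hm (by norm_num) (by norm_num)
  have hd := hmem
  · omega

theorem no_877 {G : Type*} [Group G] [Finite G] [IsSimpleGroup G]
    (hG : ¬ IsMulCommutative G) (h : Nat.card G = 877) : False := by
  exact tp hG 877 2 1 0 (by norm_num) (by norm_num) (by rw [h]; norm_num)

theorem no_878 {G : Type*} [Group G] [Finite G] [IsSimpleGroup G]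
    (hG : ¬ IsMulCommutative G) (h : Nat.card G = 878) : False := by
  exact tp hG 2 439 1 1 (by norm_num) (by norm_num) (by rw [h]; norm_num)

theorem no_879 {G : Type*} [Group G] [Finite G] [IsSimpleGroup G]
    (hG : ¬ IsMulCommutative G) (h : Nat.card G = 879) : False := by
  exact tp hG 3 293 1 1 (by norm_num) (by norm_num) (by rw [h]; norm_num)

theorem no_880 {G : Type*} [Group G] [Finite G] [IsSimpleGroup G]
    (hG : ¬ IsMulCommutative G) (h : Nat.card G = 880) : False := by
  have : Fact (Nat.Prime 11) := ⟨by norm_num⟩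
  have hc : Nat.card G = 11 ^ 1 * 80 := by rw [h]; norm_num
  have hm : ¬ 11 ∣ 80 := by norm_num
  have hmem := card_sylow_mem_candidates hc hm
  have hcand : sylowCandidates 11 80 = [1] := by decide
  rw [hcand] at hmem
  simp only [List.mem_cons, List.not_mem_nil, or_false] at hmem
  have hlt := one_lt_card_sylow_of_card hc hm (by norm_num) (by norm_num)
  have hd := hmem
  · omega

theorem no_881 {G : Type*} [Group G] [Finite G] [IsSimpleGroup G]
    (hG : ¬ IsMulCommutative G) (h : Nat.card G = 881) : False := by
  exact tp hG 881 2 1 0 (by norm_num) (by norm_num) (by rw [h]; norm_num)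

theorem no_882 {G : Type*} [Group G] [Finite G] [IsSimpleGroup G]
    (hG : ¬ IsMulCommutative G) (h : Nat.card G = 882) : False := by
  exact ev hG (by rw [h]; exact ⟨441, by norm_num⟩) (by rw [h]; omega)

theorem no_883 {G : Type*} [Group G] [Finite G] [IsSimpleGroup G]
    (hG : ¬ IsMulCommutative G) (h : Nat.card G = 883) : False := by
  exact tp hG 883 2 1 0 (by norm_num) (by norm_num) (by rw [h]; norm_num)

theorem no_884 {G : Type*} [Group G] [Finite G] [IsSimpleGroup G]
    (hG : ¬ IsMulCommutative G) (h : Nat.card G = 884) : False := by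
  exact ev hG (by rw [h]; exact ⟨442, by norm_num⟩) (by rw [h]; omega)

theorem no_885 {G : Type*} [Group G] [Finite G] [IsSimpleGroup G]
    (hG : ¬ IsMulCommutative G) (h : Nat.card G = 885) : False := by
  have : Fact (Nat.Prime 3) := ⟨by norm_num⟩
  have hc : Nat.card G = 3 ^ 1 * 295 := by rw [h]; norm_num
  have hm : ¬ 3 ∣ 295 := by norm_num
  have hmem := card_sylow_mem_candidates hc hm
  have hcand : sylowCandidates 3 295 = [1, 295] := by decide
  rw [hcand] at hmem
  simp only [List.mem_cons, List.not_mem_nil, or_false] at hmem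
  have hlt := one_lt_card_sylow_of_card hc hm (by norm_num) (by norm_num)
  rcases hmem with hd | hd
  · omega
  · exact burn_kill hc hm (by norm_num) 295 hd (by decide)

theorem no_886 {G : Type*} [Group G] [Finite G] [IsSimpleGroup G]
    (hG : ¬ IsMulCommutative G) (h : Nat.card G = 886) : False := by
  exact tp hG 2 443 1 1 (by norm_num) (by norm_num) (by rw [h]; norm_num)

theorem no_887 {G : Type*} [Group G] [Finite G] [IsSimpleGroup G]
    (hG : ¬ IsMulCommutative G) (h : Nat.card G = 887) : False := by
  exact tp hG 887 2 1 0 (by norm_num) (by norm_num) (by rw [h]; norm_num)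

theorem no_888 {G : Type*} [Group G] [Finite G] [IsSimpleGroup G]
    (hG : ¬ IsMulCommutative G) (h : Nat.card G = 888) : False := by
  have : Fact (Nat.Prime 37) := ⟨by norm_num⟩
  have hc : Nat.card G = 37 ^ 1 * 24 := by rw [h]; norm_num
  have hm : ¬ 37 ∣ 24 := by norm_num
  have hmem := card_sylow_mem_candidates hc hm
  have hcand : sylowCandidates 37 24 = [1] := by decide
  rw [hcand] at hmem
  simp only [List.mem_cons, List.not_mem_nil, or_false] at hmem
  have hlt := one_lt_card_sylow_of_card hc hm (by norm_num) (by norm_num)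
  have hd := hmem
  · omega

theorem no_889 {G : Type*} [Group G] [Finite G] [IsSimpleGroup G]
    (hG : ¬ IsMulCommutative G) (h : Nat.card G = 889) : False := by
  exact tp hG 7 127 1 1 (by norm_num) (by norm_num) (by rw [h]; norm_num)

theorem no_890 {G : Type*} [Group G] [Finite G] [IsSimpleGroup G]
    (hG : ¬ IsMulCommutative G) (h : Nat.card G = 890) : False := by
  exact ev hG (by rw [h]; exact ⟨445, by norm_num⟩) (by rw [h]; omega)

theorem no_891 {G : Type*} [Group G] [Finite G] [IsSimpleGroup G]
    (hG : ¬ IsMulCommutative G) (h : Nat.card G = 891) : False := by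
  exact tp hG 3 11 4 1 (by norm_num) (by norm_num) (by rw [h]; norm_num)

theorem no_892 {G : Type*} [Group G] [Finite G] [IsSimpleGroup G]
    (hG : ¬ IsMulCommutative G) (h : Nat.card G = 892) : False := by
  exact tp hG 2 223 2 1 (by norm_num) (by norm_num) (by rw [h]; norm_num)

theorem no_893 {G : Type*} [Group G] [Finite G] [IsSimpleGroup G]
    (hG : ¬ IsMulCommutative G) (h : Nat.card G = 893) : False := by
  exact tp hG 19 47 1 1 (by norm_num) (by norm_num) (by rw [h]; norm_num)

theorem no_894 {G : Type*} [Group G] [Finite G] [IsSimpleGroup G]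
    (hG : ¬ IsMulCommutative G) (h : Nat.card G = 894) : False := by
  exact ev hG (by rw [h]; exact ⟨447, by norm_num⟩) (by rw [h]; omega)

theorem no_895 {G : Type*} [Group G] [Finite G] [IsSimpleGroup G]
    (hG : ¬ IsMulCommutative G) (h : Nat.card G = 895) : False := by
  exact tp hG 5 179 1 1 (by norm_num) (by norm_num) (by rw [h]; norm_num)

theorem no_896 {G : Type*} [Group G] [Finite G] [IsSimpleGroup G]
    (hG : ¬ IsMulCommutative G) (h : Nat.card G = 896) : False := by
  exact tp hG 2 7 7 1 (by norm_num) (by norm_num) (by rw [h]; norm_num)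

theorem no_897 {G : Type*} [Group G] [Finite G] [IsSimpleGroup G]
    (hG : ¬ IsMulCommutative G) (h : Nat.card G = 897) : False := by
  have : Fact (Nat.Prime 3) := ⟨by norm_num⟩
  have hc : Nat.card G = 3 ^ 1 * 299 := by rw [h]; norm_num
  have hm : ¬ 3 ∣ 299 := by norm_num
  have hmem := card_sylow_mem_candidates hc hm
  have hcand : sylowCandidates 3 299 = [1, 13] := by decide
  rw [hcand] at hmem
  simp only [List.mem_cons, List.not_mem_nil, or_false] at hmem
  have hlt := one_lt_card_sylow_of_card hc hm (by norm_num) (by norm_num)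
  rcases hmem with hd | hd
  · omega
  · exact fact_kill hG 13 hd (by norm_num) (by rw [h]; decide)

theorem no_898 {G : Type*} [Group G] [Finite G] [IsSimpleGroup G]
    (hG : ¬ IsMulCommutative G) (h : Nat.card G = 898) : False := by
  exact tp hG 2 449 1 1 (by norm_num) (by norm_num) (by rw [h]; norm_num)

theorem no_899 {G : Type*} [Group G] [Finite G] [IsSimpleGroup G]
    (hG : ¬ IsMulCommutative G) (h : Nat.card G = 899) : False := by
  exact tp hG 29 31 1 1 (by norm_num) (by norm_num) (by rw [h]; norm_num)

theorem no_900 {G : Type*} [Group G] [Finite G] [IsSimpleGroup G]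
    (hG : ¬ IsMulCommutative G) (h : Nat.card G = 900) : False := by
  have : Fact (Nat.Prime 5) := ⟨by norm_num⟩
  have hc : Nat.card G = 5 ^ 2 * 36 := by rw [h]; norm_num
  have hm : ¬ 5 ∣ 36 := by norm_num
  have hmem := card_sylow_mem_candidates hc hm
  have hcand : sylowCandidates 5 36 = [1, 6, 36] := by decide
  rw [hcand] at hmem
  simp only [List.mem_cons, List.not_mem_nil, or_false] at hmem
  have hlt := one_lt_card_sylow_of_card hc hm (by norm_num) (by norm_num)
  rcases hmem with hd | hd | hd
  · omega
  · exact fact_kill hG 6 hd (by norm_num) (by rw [h]; decide)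
  · exact burn2_kill hc hm (by norm_num) hd

/-- the orders in [801, 900] not excluded by the engine -/
theorem chunk {G : Type*} [Group G] [Finite G] [IsSimpleGroup G]
    (hG : ¬ IsMulCommutative G) (n : ℕ) (hn : Nat.card G = n) (h1 : 801 ≤ n) (h2 : n ≤ 900) :
    n = 840 := by
  interval_cases n
  · exact (no_801 hG hn).elim
  · exact (no_802 hG hn).elim
  · exact (no_803 hG hn).elim
  · exact (no_804 hG hn).elim
  · exact (no_805 hG hn).elim
  · exact (no_806 hG hn).elim
  · exact (no_807 hG hn).elim
  · exact (no_808 hG hn).elim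
  · exact (no_809 hG hn).elim
  · exact (no_810 hG hn).elim
  · exact (no_811 hG hn).elim
  · exact (no_812 hG hn).elim
  · exact (no_813 hG hn).elim
  · exact (no_814 hG hn).elim
  · exact (no_815 hG hn).elim
  · exact (no_816 hG hn).elim
  · exact (no_817 hG hn).elim
  · exact (no_818 hG hn).elim
  · exact (no_819 hG hn).elim
  · exact (no_820 hG hn).elim
  · exact (no_821 hG hn).elim
  · exact (no_822 hG hn).elim
  · exact (no_823 hG hn).elim
  · exact (no_824 hG hn).elim
  · exact (no_825 hG hn).elim
  · exact (no_826 hG hn).elim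
  · exact (no_827 hG hn).elim
  · exact (no_828 hG hn).elim
  · exact (no_829 hG hn).elim
  · exact (no_830 hG hn).elim
  · exact (no_831 hG hn).elim
  · exact (no_832 hG hn).elim
  · exact (no_833 hG hn).elim
  · exact (no_834 hG hn).elim
  · exact (no_835 hG hn).elim
  · exact (no_836 hG hn).elim
  · exact (no_837 hG hn).elim
  · exact (no_838 hG hn).elim
  · exact (no_839 hG hn).elim
  · simp
  · exact (no_841 hG hn).elim
  · exact (no_842 hG hn).elim
  · exact (no_843 hG hn).elim
  · exact (no_844 hG hn).elim
  · exact (no_845 hG hn).elim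
  · exact (no_846 hG hn).elim
  · exact (no_847 hG hn).elim
  · exact (no_848 hG hn).elim
  · exact (no_849 hG hn).elim
  · exact (no_850 hG hn).elim
  · exact (no_851 hG hn).elim
  · exact (no_852 hG hn).elim
  · exact (no_853 hG hn).elim
  · exact (no_854 hG hn).elim
  · exact (no_855 hG hn).elim
  · exact (no_856 hG hn).elim
  · exact (no_857 hG hn).elim
  · exact (no_858 hG hn).elim
  · exact (no_859 hG hn).elim
  · exact (no_860 hG hn).elim
  · exact (no_861 hG hn).elim
  · exact (no_862 hG hn).elim
  · exact (no_863 hG hn).elim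
  · exact (no_864 hG hn).elim
  · exact (no_865 hG hn).elim
  · exact (no_866 hG hn).elim
  · exact (no_867 hG hn).elim
  · exact (no_868 hG hn).elim
  · exact (no_869 hG hn).elim
  · exact (no_870 hG hn).elim
  · exact (no_871 hG hn).elim
  · exact (no_872 hG hn).elim
  · exact (no_873 hG hn).elim
  · exact (no_874 hG hn).elim
  · exact (no_875 hG hn).elim
  · exact (no_876 hG hn).elim
  · exact (no_877 hG hn).elim
  · exact (no_878 hG hn).elim
  · exact (no_879 hG hn).elim
  · exact (no_880 hG hn).elim
  · exact (no_881 hG hn).elim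
  · exact (no_882 hG hn).elim
  · exact (no_883 hG hn).elim
  · exact (no_884 hG hn).elim
  · exact (no_885 hG hn).elim
  · exact (no_886 hG hn).elim
  · exact (no_887 hG hn).elim
  · exact (no_888 hG hn).elim
  · exact (no_889 hG hn).elim
  · exact (no_890 hG hn).elim
  · exact (no_891 hG hn).elim
  · exact (no_892 hG hn).elim
  · exact (no_893 hG hn).elim
  · exact (no_894 hG hn).elim
  · exact (no_895 hG hn).elim
  · exact (no_896 hG hn).elim
  · exact (no_897 hG hn).elim
  · exact (no_898 hG hn).elim
  · exact (no_899 hG hn).elim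
  · exact (no_900 hG hn).elim

end Cfsg.Agent.Lib.Helper75_SM_E7
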