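import Mathlib
import Cfsg.Agent.Lib.Helper75_SM_Base

/-!
# S0496 engine, generated file: no simple group of order N for the easy N in [901, 1000] (helper75)
-/

set_option autoImplicit false

namespace Cfsg.Agent.Lib.Helper75_SM_E8

open Cfsg.Agent.Lib.Helper17_Sylow Cfsg.Agent.Lib.Helper75_SM_Base

theorem no_901 {G : Type*} [Group G] [Finite G] [IsSimpleGroup G]
    (hG : ¬ IsMulCommutative G) (h : Nat.card G = 901) : False := by
  exact tp hG 17 53 1 1 (by norm_num) (by norm_num) (by rw [h]; norm_num)

theorem no_902 {G : Type*} [Group G] [Finite G] [IsSimpleGroup G]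
    (hG : ¬ IsMulCommutative G) (h : Nat.card G = 902) : False := by
  exact ev hG (by rw [h]; exact ⟨451, by norm_num⟩) (by rw [h]; omega)

theorem no_903 {G : Type*} [Group G] [Finite G] [IsSimpleGroup G]
    (hG : ¬ IsMulCommutative G) (h : Nat.card G = 903) : False := by
  have : Fact (Nat.Prime 3) := ⟨by norm_num⟩
  have hc : Nat.card G = 3 ^ 1 * 301 := by rw [h]; norm_num
  have hm : ¬ 3 ∣ 301 := by norm_num
  have hmem := card_sylow_mem_candidates hc hm
  have hcand : sylowCandidates 3 301 = [1, 7, 43, 301] := by decide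
  rw [hcand] at hmem
  simp only [List.mem_cons, List.not_mem_nil, or_false] at hmem
  have hlt := one_lt_card_sylow_of_card hc hm (by norm_num) (by norm_num)
  rcases hmem with hd | hd | hd | hd
  · omega
  · exact fact_kill hG 7 hd (by norm_num) (by rw [h]; decide)
  · exact burn_kill hc hm (by norm_num) 43 hd (by decide)
  · exact burn_kill hc hm (by norm_num) 301 hd (by decide)

theorem no_904 {G : Type*} [Group G] [Finite G] [IsSimpleGroup G]
    (hG : ¬ IsMulCommutative G) (h : Nat.card G = 904) : False := by
  exact tp hG 2 113 3 1 (by norm_num) (by norm_num) (by rw [h]; norm_num)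

theorem no_905 {G : Type*} [Group G] [Finite G] [IsSimpleGroup G]
    (hG : ¬ IsMulCommutative G) (h : Nat.card G = 905) : False := by
  exact tp hG 5 181 1 1 (by norm_num) (by norm_num) (by rw [h]; norm_num)

theorem no_906 {G : Type*} [Group G] [Finite G] [IsSimpleGroup G]
    (hG : ¬ IsMulCommutative G) (h : Nat.card G = 906) : False := by
  exact ev hG (by rw [h]; exact ⟨453, by norm_num⟩) (by rw [h]; omega)

theorem no_907 {G : Type*} [Group G] [Finite G] [IsSimpleGroup G]
    (hG : ¬ IsMulCommutative G) (h : Nat.card G = 907) : False := by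
  exact tp hG 907 2 1 0 (by norm_num) (by norm_num) (by rw [h]; norm_num)

theorem no_908 {G : Type*} [Group G] [Finite G] [IsSimpleGroup G]
    (hG : ¬ IsMulCommutative G) (h : Nat.card G = 908) : False := by
  exact tp hG 2 227 2 1 (by norm_num) (by norm_num) (by rw [h]; norm_num)

theorem no_909 {G : Type*} [Group G] [Finite G] [IsSimpleGroup G]
    (hG : ¬ IsMulCommutative G) (h : Nat.card G = 909) : False := by
  exact tp hG 3 101 2 1 (by norm_num) (by norm_num) (by rw [h]; norm_num)

theorem no_910 {G : Type*} [Group G] [Finite G] [IsSimpleGroup G]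
    (hG : ¬ IsMulCommutative G) (h : Nat.card G = 910) : False := by
  exact ev hG (by rw [h]; exact ⟨455, by norm_num⟩) (by rw [h]; omega)

theorem no_911 {G : Type*} [Group G] [Finite G] [IsSimpleGroup G]
    (hG : ¬ IsMulCommutative G) (h : Nat.card G = 911) : False := by
  exact tp hG 911 2 1 0 (by norm_num) (by norm_num) (by rw [h]; norm_num)

theorem no_912 {G : Type*} [Group G] [Finite G] [IsSimpleGroup G]
    (hG : ¬ IsMulCommutative G) (h : Nat.card G = 912) : False := by
  have : Fact (Nat.Prime 19) := ⟨by norm_num⟩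
  have hc : Nat.card G = 19 ^ 1 * 48 := by rw [h]; norm_num
  have hm : ¬ 19 ∣ 48 := by norm_num
  have hmem := card_sylow_mem_candidates hc hm
  have hcand : sylowCandidates 19 48 = [1] := by decide
  rw [hcand] at hmem
  simp only [List.mem_cons, List.not_mem_nil, or_false] at hmem
  have hlt := one_lt_card_sylow_of_card hc hm (by norm_num) (by norm_num)
  have hd := hmem
  · omega

theorem no_913 {G : Type*} [Group G] [Finite G] [IsSimpleGroup G]
    (hG : ¬ IsMulCommutative G) (h : Nat.card G = 913) : False := by
  exact tp hG 11 83 1 1 (by norm_num) (by norm_num) (by rw [h]; norm_num)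

theorem no_914 {G : Type*} [Group G] [Finite G] [IsSimpleGroup G]
    (hG : ¬ IsMulCommutative G) (h : Nat.card G = 914) : False := by
  exact tp hG 2 457 1 1 (by norm_num) (by norm_num) (by rw [h]; norm_num)

theorem no_915 {G : Type*} [Group G] [Finite G] [IsSimpleGroup G]
    (hG : ¬ IsMulCommutative G) (h : Nat.card G = 915) : False := by
  have : Fact (Nat.Prime 3) := ⟨by norm_num⟩
  have hc : Nat.card G = 3 ^ 1 * 305 := by rw [h]; norm_num
  have hm : ¬ 3 ∣ 305 := by norm_num
  have hmem := card_sylow_mem_candidates hc hm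
  have hcand : sylowCandidates 3 305 = [1, 61] := by decide
  rw [hcand] at hmem
  simp only [List.mem_cons, List.not_mem_nil, or_false] at hmem
  have hlt := one_lt_card_sylow_of_card hc hm (by norm_num) (by norm_num)
  rcases hmem with hd | hd
  · omega
  · exact burn_kill hc hm (by norm_num) 61 hd (by decide)

theorem no_916 {G : Type*} [Group G] [Finite G] [IsSimpleGroup G]
    (hG : ¬ IsMulCommutative G) (h : Nat.card G = 916) : False := by
  exact tp hG 2 229 2 1 (by norm_num) (by norm_num) (by rw [h]; norm_num)

theorem no_917 {G : Type*} [Group G] [Finite G] [IsSimpleGroup G]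
    (hG : ¬ IsMulCommutative G) (h : Nat.card G = 917) : False := by
  exact tp hG 7 131 1 1 (by norm_num) (by norm_num) (by rw [h]; norm_num)

theorem no_918 {G : Type*} [Group G] [Finite G] [IsSimpleGroup G]
    (hG : ¬ IsMulCommutative G) (h : Nat.card G = 918) : False := by
  exact ev hG (by rw [h]; exact ⟨459, by norm_num⟩) (by rw [h]; omega)

theorem no_919 {G : Type*} [Group G] [Finite G] [IsSimpleGroup G]
    (hG : ¬ IsMulCommutative G) (h : Nat.card G = 919) : False := by
  exact tp hG 919 2 1 0 (by norm_num) (by norm_num) (by rw [h]; norm_num)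

theorem no_920 {G : Type*} [Group G] [Finite G] [IsSimpleGroup G]
    (hG : ¬ IsMulCommutative G) (h : Nat.card G = 920) : False := by
  exact ev hG (by rw [h]; exact ⟨460, by norm_num⟩) (by rw [h]; omega)

theorem no_921 {G : Type*} [Group G] [Finite G] [IsSimpleGroup G]
    (hG : ¬ IsMulCommutative G) (h : Nat.card G = 921) : False := by
  exact tp hG 3 307 1 1 (by norm_num) (by norm_num) (by rw [h]; norm_num)

theorem no_922 {G : Type*} [Group G] [Finite G] [IsSimpleGroup G]
    (hG : ¬ IsMulCommutative G) (h : Nat.card G = 922) : False := by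
  exact tp hG 2 461 1 1 (by norm_num) (by norm_num) (by rw [h]; norm_num)

theorem no_923 {G : Type*} [Group G] [Finite G] [IsSimpleGroup G]
    (hG : ¬ IsMulCommutative G) (h : Nat.card G = 923) : False := by
  exact tp hG 13 71 1 1 (by norm_num) (by norm_num) (by rw [h]; norm_num)

theorem no_924 {G : Type*} [Group G] [Finite G] [IsSimpleGroup G]
    (hG : ¬ IsMulCommutative G) (h : Nat.card G = 924) : False := by
  have : Fact (Nat.Prime 11) := ⟨by norm_num⟩
  have hc : Nat.card G = 11 ^ 1 * 84 := by rw [h]; norm_num
  have hm : ¬ 11 ∣ 84 := by norm_num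
  have hmem := card_sylow_mem_candidates hc hm
  have hcand : sylowCandidates 11 84 = [1, 12] := by decide
  rw [hcand] at hmem
  simp only [List.mem_cons, List.not_mem_nil, or_false] at hmem
  have hlt := one_lt_card_sylow_of_card hc hm (by norm_num) (by norm_num)
  rcases hmem with hd | hd
  · omega
  · exact burn_kill hc hm (by norm_num) 12 hd (by decide)

theorem no_925 {G : Type*} [Group G] [Finite G] [IsSimpleGroup G]
    (hG : ¬ IsMulCommutative G) (h : Nat.card G = 925) : False := by
  exact tp hG 5 37 2 1 (by norm_num) (by norm_num) (by rw [h]; norm_num)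

theorem no_926 {G : Type*} [Group G] [Finite G] [IsSimpleGroup G]
    (hG : ¬ IsMulCommutative G) (h : Nat.card G = 926) : False := by
  exact tp hG 2 463 1 1 (by norm_num) (by norm_num) (by rw [h]; norm_num)

theorem no_927 {G : Type*} [Group G] [Finite G] [IsSimpleGroup G]
    (hG : ¬ IsMulCommutative G) (h : Nat.card G = 927) : False := by
  exact tp hG 3 103 2 1 (by norm_num) (by norm_num) (by rw [h]; norm_num)

theorem no_928 {G : Type*} [Group G] [Finite G] [IsSimpleGroup G]
    (hG : ¬ IsMulCommutative G) (h : Nat.card G = 928) : False := by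
  exact tp hG 2 29 5 1 (by norm_num) (by norm_num) (by rw [h]; norm_num)

theorem no_929 {G : Type*} [Group G] [Finite G] [IsSimpleGroup G]
    (hG : ¬ IsMulCommutative G) (h : Nat.card G = 929) : False := by
  exact tp hG 929 2 1 0 (by norm_num) (by norm_num) (by rw [h]; norm_num)

theorem no_930 {G : Type*} [Group G] [Finite G] [IsSimpleGroup G]
    (hG : ¬ IsMulCommutative G) (h : Nat.card G = 930) : False := by
  exact ev hG (by rw [h]; exact ⟨465, by norm_num⟩) (by rw [h]; omega)

theorem no_931 {G : Type*} [Group G] [Finite G] [IsSimpleGroup G]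
    (hG : ¬ IsMulCommutative G) (h : Nat.card G = 931) : False := by
  exact tp hG 7 19 2 1 (by norm_num) (by norm_num) (by rw [h]; norm_num)

theorem no_932 {G : Type*} [Group G] [Finite G] [IsSimpleGroup G]
    (hG : ¬ IsMulCommutative G) (h : Nat.card G = 932) : False := by
  exact tp hG 2 233 2 1 (by norm_num) (by norm_num) (by rw [h]; norm_num)

theorem no_933 {G : Type*} [Group G] [Finite G] [IsSimpleGroup G]
    (hG : ¬ IsMulCommutative G) (h : Nat.card G = 933) : False := by
  exact tp hG 3 311 1 1 (by norm_num) (by norm_num) (by rw [h]; norm_num)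

theorem no_934 {G : Type*} [Group G] [Finite G] [IsSimpleGroup G]
    (hG : ¬ IsMulCommutative G) (h : Nat.card G = 934) : False := by
  exact tp hG 2 467 1 1 (by norm_num) (by norm_num) (by rw [h]; norm_num)

theorem no_935 {G : Type*} [Group G] [Finite G] [IsSimpleGroup G]
    (hG : ¬ IsMulCommutative G) (h : Nat.card G = 935) : False := by
  have : Fact (Nat.Prime 5) := ⟨by norm_num⟩
  have hc : Nat.card G = 5 ^ 1 * 187 := by rw [h]; norm_num
  have hm : ¬ 5 ∣ 187 := by norm_num
  have hmem := card_sylow_mem_candidates hc hm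
  have hcand : sylowCandidates 5 187 = [1, 11] := by decide
  rw [hcand] at hmem
  simp only [List.mem_cons, List.not_mem_nil, or_false] at hmem
  have hlt := one_lt_card_sylow_of_card hc hm (by norm_num) (by norm_num)
  rcases hmem with hd | hd
  · omega
  · exact fact_kill hG 11 hd (by norm_num) (by rw [h]; decide)

theorem no_936 {G : Type*} [Group G] [Finite G] [IsSimpleGroup G]
    (hG : ¬ IsMulCommutative G) (h : Nat.card G = 936) : False := by
  have : Fact (Nat.Prime 13) := ⟨by norm_num⟩
  have hc : Nat.card G = 13 ^ 1 * 72 := by rw [h]; norm_num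
  have hm : ¬ 13 ∣ 72 := by norm_num
  have hmem := card_sylow_mem_candidates hc hm
  have hcand : sylowCandidates 13 72 = [1] := by decide
  rw [hcand] at hmem
  simp only [List.mem_cons, List.not_mem_nil, or_false] at hmem
  have hlt := one_lt_card_sylow_of_card hc hm (by norm_num) (by norm_num)
  have hd := hmem
  · omega

theorem no_937 {G : Type*} [Group G] [Finite G] [IsSimpleGroup G]
    (hG : ¬ IsMulCommutative G) (h : Nat.card G = 937) : False := by
  exact tp hG 937 2 1 0 (by norm_num) (by norm_num) (by rw [h]; norm_num)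

theorem no_938 {G : Type*} [Group G] [Finite G] [IsSimpleGroup G]
    (hG : ¬ IsMulCommutative G) (h : Nat.card G = 938) : False := by
  exact ev hG (by rw [h]; exact ⟨469, by norm_num⟩) (by rw [h]; omega)

theorem no_939 {G : Type*} [Group G] [Finite G] [IsSimpleGroup G]
    (hG : ¬ IsMulCommutative G) (h : Nat.card G = 939) : False := by
  exact tp hG 3 313 1 1 (by norm_num) (by norm_num) (by rw [h]; norm_num)

theorem no_940 {G : Type*} [Group G] [Finite G] [IsSimpleGroup G]
    (hG : ¬ IsMulCommutative G) (h : Nat.card G = 940) : False := by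
  exact ev hG (by rw [h]; exact ⟨470, by norm_num⟩) (by rw [h]; omega)

theorem no_941 {G : Type*} [Group G] [Finite G] [IsSimpleGroup G]
    (hG : ¬ IsMulCommutative G) (h : Nat.card G = 941) : False := by
  exact tp hG 941 2 1 0 (by norm_num) (by norm_num) (by rw [h]; norm_num)

theorem no_942 {G : Type*} [Group G] [Finite G] [IsSimpleGroup G]
    (hG : ¬ IsMulCommutative G) (h : Nat.card G = 942) : False := by
  exact ev hG (by rw [h]; exact ⟨471, by norm_num⟩) (by rw [h]; omega)

theorem no_943 {G : Type*} [Group G] [Finite G] [IsSimpleGroup G]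
    (hG : ¬ IsMulCommutative G) (h : Nat.card G = 943) : False := by
  exact tp hG 23 41 1 1 (by norm_num) (by norm_num) (by rw [h]; norm_num)

theorem no_944 {G : Type*} [Group G] [Finite G] [IsSimpleGroup G]
    (hG : ¬ IsMulCommutative G) (h : Nat.card G = 944) : False := by
  exact tp hG 2 59 4 1 (by norm_num) (by norm_num) (by rw [h]; norm_num)

theorem no_945 {G : Type*} [Group G] [Finite G] [IsSimpleGroup G]
    (hG : ¬ IsMulCommutative G) (h : Nat.card G = 945) : False := by
  have : Fact (Nat.Prime 3) := ⟨by norm_num⟩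
  have hc : Nat.card G = 3 ^ 3 * 35 := by rw [h]; norm_num
  have hm : ¬ 3 ∣ 35 := by norm_num
  have hmem := card_sylow_mem_candidates hc hm
  have hcand : sylowCandidates 3 35 = [1, 7] := by decide
  rw [hcand] at hmem
  simp only [List.mem_cons, List.not_mem_nil, or_false] at hmem
  have hlt := one_lt_card_sylow_of_card hc hm (by norm_num) (by norm_num)
  rcases hmem with hd | hd
  · omega
  · exact fact_kill hG 7 hd (by norm_num) (by rw [h]; decide)

theorem no_946 {G : Type*} [Group G] [Finite G] [IsSimpleGroup G]
    (hG : ¬ IsMulCommutative G) (h : Nat.card G = 946) : False := by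
  exact ev hG (by rw [h]; exact ⟨473, by norm_num⟩) (by rw [h]; omega)

theorem no_947 {G : Type*} [Group G] [Finite G] [IsSimpleGroup G]
    (hG : ¬ IsMulCommutative G) (h : Nat.card G = 947) : False := by
  exact tp hG 947 2 1 0 (by norm_num) (by norm_num) (by rw [h]; norm_num)

theorem no_948 {G : Type*} [Group G] [Finite G] [IsSimpleGroup G]
    (hG : ¬ IsMulCommutative G) (h : Nat.card G = 948) : False := by
  have : Fact (Nat.Prime 79) := ⟨by norm_num⟩
  have hc : Nat.card G = 79 ^ 1 * 12 := by rw [h]; norm_num
  have hm : ¬ 79 ∣ 12 := by norm_num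
  have hmem := card_sylow_mem_candidates hc hm
  have hcand : sylowCandidates 79 12 = [1] := by decide
  rw [hcand] at hmem
  simp only [List.mem_cons, List.not_mem_nil, or_false] at hmem
  have hlt := one_lt_card_sylow_of_card hc hm (by norm_num) (by norm_num)
  have hd := hmem
  · omega

theorem no_949 {G : Type*} [Group G] [Finite G] [IsSimpleGroup G]
    (hG : ¬ IsMulCommutative G) (h : Nat.card G = 949) : False := by
  exact tp hG 13 73 1 1 (by norm_num) (by norm_num) (by rw [h]; norm_num)

theorem no_950 {G : Type*} [Group G] [Finite G] [IsSimpleGroup G]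
    (hG : ¬ IsMulCommutative G) (h : Nat.card G = 950) : False := by
  exact ev hG (by rw [h]; exact ⟨475, by norm_num⟩) (by rw [h]; omega)

theorem no_951 {G : Type*} [Group G] [Finite G] [IsSimpleGroup G]
    (hG : ¬ IsMulCommutative G) (h : Nat.card G = 951) : False := by
  exact tp hG 3 317 1 1 (by norm_num) (by norm_num) (by rw [h]; norm_num)

theorem no_952 {G : Type*} [Group G] [Finite G] [IsSimpleGroup G]
    (hG : ¬ IsMulCommutative G) (h : Nat.card G = 952) : False := by
  have : Fact (Nat.Prime 7) := ⟨by norm_num⟩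
  have hc : Nat.card G = 7 ^ 1 * 136 := by rw [h]; norm_num
  have hm : ¬ 7 ∣ 136 := by norm_num
  have hmem := card_sylow_mem_candidates hc hm
  have hcand : sylowCandidates 7 136 = [1, 8] := by decide
  rw [hcand] at hmem
  simp only [List.mem_cons, List.not_mem_nil, or_false] at hmem
  have hlt := one_lt_card_sylow_of_card hc hm (by norm_num) (by norm_num)
  rcases hmem with hd | hd
  · omega
  · exact fact_kill hG 8 hd (by norm_num) (by rw [h]; decide)

theorem no_953 {G : Type*} [Group G] [Finite G] [IsSimpleGroup G]
    (hG : ¬ IsMulCommutative G) (h : Nat.card G = 953) : False := by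
  exact tp hG 953 2 1 0 (by norm_num) (by norm_num) (by rw [h]; norm_num)

theorem no_954 {G : Type*} [Group G] [Finite G] [IsSimpleGroup G]
    (hG : ¬ IsMulCommutative G) (h : Nat.card G = 954) : False := by
  exact ev hG (by rw [h]; exact ⟨477, by norm_num⟩) (by rw [h]; omega)

theorem no_955 {G : Type*} [Group G] [Finite G] [IsSimpleGroup G]
    (hG : ¬ IsMulCommutative G) (h : Nat.card G = 955) : False := by
  exact tp hG 5 191 1 1 (by norm_num) (by norm_num) (by rw [h]; norm_num)

theorem no_956 {G : Type*} [Group G] [Finite G] [IsSimpleGroup G]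
    (hG : ¬ IsMulCommutative G) (h : Nat.card G = 956) : False := by
  exact tp hG 2 239 2 1 (by norm_num) (by norm_num) (by rw [h]; norm_num)

theorem no_957 {G : Type*} [Group G] [Finite G] [IsSimpleGroup G]
    (hG : ¬ IsMulCommutative G) (h : Nat.card G = 957) : False := by
  have : Fact (Nat.Prime 3) := ⟨by norm_num⟩
  have hc : Nat.card G = 3 ^ 1 * 319 := by rw [h]; norm_num
  have hm : ¬ 3 ∣ 319 := by norm_num
  have hmem := card_sylow_mem_candidates hc hm
  have hcand : sylowCandidates 3 319 = [1, 319] := by decide
  rw [hcand] at hmem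
  simp only [List.mem_cons, List.not_mem_nil, or_false] at hmem
  have hlt := one_lt_card_sylow_of_card hc hm (by norm_num) (by norm_num)
  rcases hmem with hd | hd
  · omega
  · exact burn_kill hc hm (by norm_num) 319 hd (by decide)

theorem no_958 {G : Type*} [Group G] [Finite G] [IsSimpleGroup G]
    (hG : ¬ IsMulCommutative G) (h : Nat.card G = 958) : False := by
  exact tp hG 2 479 1 1 (by norm_num) (by norm_num) (by rw [h]; norm_num)

theorem no_959 {G : Type*} [Group G] [Finite G] [IsSimpleGroup G]
    (hG : ¬ IsMulCommutative G) (h : Nat.card G = 959) : False := by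
  exact tp hG 7 137 1 1 (by norm_num) (by norm_num) (by rw [h]; norm_num)

theorem no_961 {G : Type*} [Group G] [Finite G] [IsSimpleGroup G]
    (hG : ¬ IsMulCommutative G) (h : Nat.card G = 961) : False := by
  exact tp hG 31 2 2 0 (by norm_num) (by norm_num) (by rw [h]; norm_num)

theorem no_962 {G : Type*} [Group G] [Finite G] [IsSimpleGroup G]
    (hG : ¬ IsMulCommutative G) (h : Nat.card G = 962) : False := by
  exact ev hG (by rw [h]; exact ⟨481, by norm_num⟩) (by rw [h]; omega)

theorem no_963 {G : Type*} [Group G] [Finite G] [IsSimpleGroup G]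
    (hG : ¬ IsMulCommutative G) (h : Nat.card G = 963) : False := by
  exact tp hG 3 107 2 1 (by norm_num) (by norm_num) (by rw [h]; norm_num)

theorem no_964 {G : Type*} [Group G] [Finite G] [IsSimpleGroup G]
    (hG : ¬ IsMulCommutative G) (h : Nat.card G = 964) : False := by
  exact tp hG 2 241 2 1 (by norm_num) (by norm_num) (by rw [h]; norm_num)

theorem no_965 {G : Type*} [Group G] [Finite G] [IsSimpleGroup G]
    (hG : ¬ IsMulCommutative G) (h : Nat.card G = 965) : False := by
  exact tp hG 5 193 1 1 (by norm_num) (by norm_num) (by rw [h]; norm_num)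

theorem no_966 {G : Type*} [Group G] [Finite G] [IsSimpleGroup G]
    (hG : ¬ IsMulCommutative G) (h : Nat.card G = 966) : False := by
  exact ev hG (by rw [h]; exact ⟨483, by norm_num⟩) (by rw [h]; omega)

theorem no_967 {G : Type*} [Group G] [Finite G] [IsSimpleGroup G]
    (hG : ¬ IsMulCommutative G) (h : Nat.card G = 967) : False := by
  exact tp hG 967 2 1 0 (by norm_num) (by norm_num) (by rw [h]; norm_num)

theorem no_968 {G : Type*} [Group G] [Finite G] [IsSimpleGroup G]
    (hG : ¬ IsMulCommutative G) (h : Nat.card G = 968) : False := by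
  exact tp hG 2 11 3 2 (by norm_num) (by norm_num) (by rw [h]; norm_num)

theorem no_969 {G : Type*} [Group G] [Finite G] [IsSimpleGroup G]
    (hG : ¬ IsMulCommutative G) (h : Nat.card G = 969) : False := by
  have : Fact (Nat.Prime 3) := ⟨by norm_num⟩
  have hc : Nat.card G = 3 ^ 1 * 323 := by rw [h]; norm_num
  have hm : ¬ 3 ∣ 323 := by norm_num
  have hmem := card_sylow_mem_candidates hc hm
  have hcand : sylowCandidates 3 323 = [1, 19] := by decide
  rw [hcand] at hmem
  simp only [List.mem_cons, List.not_mem_nil, or_false] at hmem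
  have hlt := one_lt_card_sylow_of_card hc hm (by norm_num) (by norm_num)
  rcases hmem with hd | hd
  · omega
  · exact burn_kill hc hm (by norm_num) 19 hd (by decide)

theorem no_970 {G : Type*} [Group G] [Finite G] [IsSimpleGroup G]
    (hG : ¬ IsMulCommutative G) (h : Nat.card G = 970) : False := by
  exact ev hG (by rw [h]; exact ⟨485, by norm_num⟩) (by rw [h]; omega)

theorem no_971 {G : Type*} [Group G] [Finite G] [IsSimpleGroup G]
    (hG : ¬ IsMulCommutative G) (h : Nat.card G = 971) : False := by
  exact tp hG 971 2 1 0 (by norm_num) (by norm_num) (by rw [h]; norm_num)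

theorem no_972 {G : Type*} [Group G] [Finite G] [IsSimpleGroup G]
    (hG : ¬ IsMulCommutative G) (h : Nat.card G = 972) : False := by
  exact tp hG 2 3 2 5 (by norm_num) (by norm_num) (by rw [h]; norm_num)

theorem no_973 {G : Type*} [Group G] [Finite G] [IsSimpleGroup G]
    (hG : ¬ IsMulCommutative G) (h : Nat.card G = 973) : False := by
  exact tp hG 7 139 1 1 (by norm_num) (by norm_num) (by rw [h]; norm_num)

theorem no_974 {G : Type*} [Group G] [Finite G] [IsSimpleGroup G]
    (hG : ¬ IsMulCommutative G) (h : Nat.card G = 974) : False := by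
  exact tp hG 2 487 1 1 (by norm_num) (by norm_num) (by rw [h]; norm_num)

theorem no_975 {G : Type*} [Group G] [Finite G] [IsSimpleGroup G]
    (hG : ¬ IsMulCommutative G) (h : Nat.card G = 975) : False := by
  have : Fact (Nat.Prime 3) := ⟨by norm_num⟩
  have hc : Nat.card G = 3 ^ 1 * 325 := by rw [h]; norm_num
  have hm : ¬ 3 ∣ 325 := by norm_num
  have hmem := card_sylow_mem_candidates hc hm
  have hcand : sylowCandidates 3 325 = [1, 13, 25, 325] := by decide
  rw [hcand] at hmem
  simp only [List.mem_cons, List.not_mem_nil, or_false] at hmem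
  have hlt := one_lt_card_sylow_of_card hc hm (by norm_num) (by norm_num)
  rcases hmem with hd | hd | hd | hd
  · omega
  · exact burn_kill hc hm (by norm_num) 13 hd (by decide)
  · exact burn_kill hc hm (by norm_num) 25 hd (by decide)
  · exact burn_kill hc hm (by norm_num) 325 hd (by decide)

theorem no_976 {G : Type*} [Group G] [Finite G] [IsSimpleGroup G]
    (hG : ¬ IsMulCommutative G) (h : Nat.card G = 976) : False := by
  exact tp hG 2 61 4 1 (by norm_num) (by norm_num) (by rw [h]; norm_num)

theorem no_977 {G : Type*} [Group G] [Finite G] [IsSimpleGroup G]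
    (hG : ¬ IsMulCommutative G) (h : Nat.card G = 977) : False := by
  exact tp hG 977 2 1 0 (by norm_num) (by norm_num) (by rw [h]; norm_num)

theorem no_978 {G : Type*} [Group G] [Finite G] [IsSimpleGroup G]
    (hG : ¬ IsMulCommutative G) (h : Nat.card G = 978) : False := by
  exact ev hG (by rw [h]; exact ⟨489, by norm_num⟩) (by rw [h]; omega)

theorem no_979 {G : Type*} [Group G] [Finite G] [IsSimpleGroup G]
    (hG : ¬ IsMulCommutative G) (h : Nat.card G = 979) : False := by
  exact tp hG 11 89 1 1 (by norm_num) (by norm_num) (by rw [h]; norm_num)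

theorem no_980 {G : Type*} [Group G] [Finite G] [IsSimpleGroup G]
    (hG : ¬ IsMulCommutative G) (h : Nat.card G = 980) : False := by
  exact ev hG (by rw [h]; exact ⟨490, by norm_num⟩) (by rw [h]; omega)

theorem no_981 {G : Type*} [Group G] [Finite G] [IsSimpleGroup G]
    (hG : ¬ IsMulCommutative G) (h : Nat.card G = 981) : False := by
  exact tp hG 3 109 2 1 (by norm_num) (by norm_num) (by rw [h]; norm_num)

theorem no_982 {G : Type*} [Group G] [Finite G] [IsSimpleGroup G]
    (hG : ¬ IsMulCommutative G) (h : Nat.card G = 982) : False := by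
  exact tp hG 2 491 1 1 (by norm_num) (by norm_num) (by rw [h]; norm_num)

theorem no_983 {G : Type*} [Group G] [Finite G] [IsSimpleGroup G]
    (hG : ¬ IsMulCommutative G) (h : Nat.card G = 983) : False := by
  exact tp hG 983 2 1 0 (by norm_num) (by norm_num) (by rw [h]; norm_num)

theorem no_984 {G : Type*} [Group G] [Finite G] [IsSimpleGroup G]
    (hG : ¬ IsMulCommutative G) (h : Nat.card G = 984) : False := by
  have : Fact (Nat.Prime 41) := ⟨by norm_num⟩
  have hc : Nat.card G = 41 ^ 1 * 24 := by rw [h]; norm_num
  have hm : ¬ 41 ∣ 24 := by norm_num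
  have hmem := card_sylow_mem_candidates hc hm
  have hcand : sylowCandidates 41 24 = [1] := by decide
  rw [hcand] at hmem
  simp only [List.mem_cons, List.not_mem_nil, or_false] at hmem
  have hlt := one_lt_card_sylow_of_card hc hm (by norm_num) (by norm_num)
  have hd := hmem
  · omega

theorem no_985 {G : Type*} [Group G] [Finite G] [IsSimpleGroup G]
    (hG : ¬ IsMulCommutative G) (h : Nat.card G = 985) : False := by
  exact tp hG 5 197 1 1 (by norm_num) (by norm_num) (by rw [h]; norm_num)

theorem no_986 {G : Type*} [Group G] [Finite G] [IsSimpleGroup G]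
    (hG : ¬ IsMulCommutative G) (h : Nat.card G = 986) : False := by
  exact ev hG (by rw [h]; exact ⟨493, by norm_num⟩) (by rw [h]; omega)

theorem no_987 {G : Type*} [Group G] [Finite G] [IsSimpleGroup G]
    (hG : ¬ IsMulCommutative G) (h : Nat.card G = 987) : False := by
  have : Fact (Nat.Prime 3) := ⟨by norm_num⟩
  have hc : Nat.card G = 3 ^ 1 * 329 := by rw [h]; norm_num
  have hm : ¬ 3 ∣ 329 := by norm_num
  have hmem := card_sylow_mem_candidates hc hm
  have hcand : sylowCandidates 3 329 = [1, 7] := by decide
  rw [hcand] at hmem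
  simp only [List.mem_cons, List.not_mem_nil, or_false] at hmem
  have hlt := one_lt_card_sylow_of_card hc hm (by norm_num) (by norm_num)
  rcases hmem with hd | hd
  · omega
  · exact fact_kill hG 7 hd (by norm_num) (by rw [h]; decide)

theorem no_988 {G : Type*} [Group G] [Finite G] [IsSimpleGroup G]
    (hG : ¬ IsMulCommutative G) (h : Nat.card G = 988) : False := by
  exact ev hG (by rw [h]; exact ⟨494, by norm_num⟩) (by rw [h]; omega)

theorem no_989 {G : Type*} [Group G] [Finite G] [IsSimpleGroup G]
    (hG : ¬ IsMulCommutative G) (h : Nat.card G = 989) : False := by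
  exact tp hG 23 43 1 1 (by norm_num) (by norm_num) (by rw [h]; norm_num)

theorem no_990 {G : Type*} [Group G] [Finite G] [IsSimpleGroup G]
    (hG : ¬ IsMulCommutative G) (h : Nat.card G = 990) : False := by
  exact ev hG (by rw [h]; exact ⟨495, by norm_num⟩) (by rw [h]; omega)

theorem no_991 {G : Type*} [Group G] [Finite G] [IsSimpleGroup G]
    (hG : ¬ IsMulCommutative G) (h : Nat.card G = 991) : False := by
  exact tp hG 991 2 1 0 (by norm_num) (by norm_num) (by rw [h]; norm_num)

theorem no_992 {G : Type*} [Group G] [Finite G] [IsSimpleGroup G]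
    (hG : ¬ IsMulCommutative G) (h : Nat.card G = 992) : False := by
  exact tp hG 2 31 5 1 (by norm_num) (by norm_num) (by rw [h]; norm_num)

theorem no_993 {G : Type*} [Group G] [Finite G] [IsSimpleGroup G]
    (hG : ¬ IsMulCommutative G) (h : Nat.card G = 993) : False := by
  exact tp hG 3 331 1 1 (by norm_num) (by norm_num) (by rw [h]; norm_num)

theorem no_994 {G : Type*} [Group G] [Finite G] [IsSimpleGroup G]
    (hG : ¬ IsMulCommutative G) (h : Nat.card G = 994) : False := by
  exact ev hG (by rw [h]; exact ⟨497, by norm_num⟩) (by rw [h]; omega)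

theorem no_995 {G : Type*} [Group G] [Finite G] [IsSimpleGroup G]
    (hG : ¬ IsMulCommutative G) (h : Nat.card G = 995) : False := by
  exact tp hG 5 199 1 1 (by norm_num) (by norm_num) (by rw [h]; norm_num)

theorem no_996 {G : Type*} [Group G] [Finite G] [IsSimpleGroup G]
    (hG : ¬ IsMulCommutative G) (h : Nat.card G = 996) : False := by
  have : Fact (Nat.Prime 83) := ⟨by norm_num⟩
  have hc : Nat.card G = 83 ^ 1 * 12 := by rw [h]; norm_num
  have hm : ¬ 83 ∣ 12 := by norm_num
  have hmem := card_sylow_mem_candidates hc hm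
  have hcand : sylowCandidates 83 12 = [1] := by decide
  rw [hcand] at hmem
  simp only [List.mem_cons, List.not_mem_nil, or_false] at hmem
  have hlt := one_lt_card_sylow_of_card hc hm (by norm_num) (by norm_num)
  have hd := hmem
  · omega

theorem no_997 {G : Type*} [Group G] [Finite G] [IsSimpleGroup G]
    (hG : ¬ IsMulCommutative G) (h : Nat.card G = 997) : False := by
  exact tp hG 997 2 1 0 (by norm_num) (by norm_num) (by rw [h]; norm_num)

theorem no_998 {G : Type*} [Group G] [Finite G] [IsSimpleGroup G]
    (hG : ¬ IsMulCommutative G) (h : Nat.card G = 998) : False := by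
  exact tp hG 2 499 1 1 (by norm_num) (by norm_num) (by rw [h]; norm_num)

theorem no_999 {G : Type*} [Group G] [Finite G] [IsSimpleGroup G]
    (hG : ¬ IsMulCommutative G) (h : Nat.card G = 999) : False := by
  exact tp hG 3 37 3 1 (by norm_num) (by norm_num) (by rw [h]; norm_num)

theorem no_1000 {G : Type*} [Group G] [Finite G] [IsSimpleGroup G]
    (hG : ¬ IsMulCommutative G) (h : Nat.card G = 1000) : False := by
  exact tp hG 2 5 3 3 (by norm_num) (by norm_num) (by rw [h]; norm_num)

/-- the orders in [901, 1000] not excluded by the engine -/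
theorem chunk {G : Type*} [Group G] [Finite G] [IsSimpleGroup G]
    (hG : ¬ IsMulCommutative G) (n : ℕ) (hn : Nat.card G = n) (h1 : 901 ≤ n) (h2 : n ≤ 1000) :
    n = 960 := by
  interval_cases n
  · exact (no_901 hG hn).elim
  · exact (no_902 hG hn).elim
  · exact (no_903 hG hn).elim
  · exact (no_904 hG hn).elim
  · exact (no_905 hG hn).elim
  · exact (no_906 hG hn).elim
  · exact (no_907 hG hn).elim
  · exact (no_908 hG hn).elim
  · exact (no_909 hG hn).elim
  · exact (no_910 hG hn).elim
  · exact (no_911 hG hn).elim
  · exact (no_912 hG hn).elim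
  · exact (no_913 hG hn).elim
  · exact (no_914 hG hn).elim
  · exact (no_915 hG hn).elim
  · exact (no_916 hG hn).elim
  · exact (no_917 hG hn).elim
  · exact (no_918 hG hn).elim
  · exact (no_919 hG hn).elim
  · exact (no_920 hG hn).elim
  · exact (no_921 hG hn).elim
  · exact (no_922 hG hn).elim
  · exact (no_923 hG hn).elim
  · exact (no_924 hG hn).elim
  · exact (no_925 hG hn).elim
  · exact (no_926 hG hn).elim
  · exact (no_927 hG hn).elim
  · exact (no_928 hG hn).elim
  · exact (no_929 hG hn).elim
  · exact (no_930 hG hn).elim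
  · exact (no_931 hG hn).elim
  · exact (no_932 hG hn).elim
  · exact (no_933 hG hn).elim
  · exact (no_934 hG hn).elim
  · exact (no_935 hG hn).elim
  · exact (no_936 hG hn).elim
  · exact (no_937 hG hn).elim
  · exact (no_938 hG hn).elim
  · exact (no_939 hG hn).elim
  · exact (no_940 hG hn).elim
  · exact (no_941 hG hn).elim
  · exact (no_942 hG hn).elim
  · exact (no_943 hG hn).elim
  · exact (no_944 hG hn).elim
  · exact (no_945 hG hn).elim
  · exact (no_946 hG hn).elim
  · exact (no_947 hG hn).elim
  · exact (no_948 hG hn).elim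
  · exact (no_949 hG hn).elim
  · exact (no_950 hG hn).elim
  · exact (no_951 hG hn).elim
  · exact (no_952 hG hn).elim
  · exact (no_953 hG hn).elim
  · exact (no_954 hG hn).elim
  · exact (no_955 hG hn).elim
  · exact (no_956 hG hn).elim
  · exact (no_957 hG hn).elim
  · exact (no_958 hG hn).elim
  · exact (no_959 hG hn).elim
  · simp
  · exact (no_961 hG hn).elim
  · exact (no_962 hG hn).elim
  · exact (no_963 hG hn).elim
  · exact (no_964 hG hn).elim
  · exact (no_965 hG hn).elim
  · exact (no_966 hG hn).elim
  · exact (no_967 hG hn).elim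
  · exact (no_968 hG hn).elim
  · exact (no_969 hG hn).elim
  · exact (no_970 hG hn).elim
  · exact (no_971 hG hn).elim
  · exact (no_972 hG hn).elim
  · exact (no_973 hG hn).elim
  · exact (no_974 hG hn).elim
  · exact (no_975 hG hn).elim
  · exact (no_976 hG hn).elim
  · exact (no_977 hG hn).elim
  · exact (no_978 hG hn).elim
  · exact (no_979 hG hn).elim
  · exact (no_980 hG hn).elim
  · exact (no_981 hG hn).elim
  · exact (no_982 hG hn).elim
  · exact (no_983 hG hn).elim
  · exact (no_984 hG hn).elim
  · exact (no_985 hG hn).elim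
  · exact (no_986 hG hn).elim
  · exact (no_987 hG hn).elim
  · exact (no_988 hG hn).elim
  · exact (no_989 hG hn).elim
  · exact (no_990 hG hn).elim
  · exact (no_991 hG hn).elim
  · exact (no_992 hG hn).elim
  · exact (no_993 hG hn).elim
  · exact (no_994 hG hn).elim
  · exact (no_995 hG hn).elim
  · exact (no_996 hG hn).elim
  · exact (no_997 hG hn).elim
  · exact (no_998 hG hn).elim
  · exact (no_999 hG hn).elim
  · exact (no_1000 hG hn).elim

end Cfsg.Agent.Lib.Helper75_SM_E8
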