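import Mathlib
import Cfsg.Agent.Lib.Helper75_SM_Base

/-!
# S0496 engine, generated file: no simple group of order N for the easy N in [1001, 1092] (helper75)
-/

set_option autoImplicit false

namespace Cfsg.Agent.Lib.Helper75_SM_E9

open Cfsg.Agent.Lib.Helper17_Sylow Cfsg.Agent.Lib.Helper75_SM_Base

theorem no_1001 {G : Type*} [Group G] [Finite G] [IsSimpleGroup G]
    (hG : ¬ IsMulCommutative G) (h : Nat.card G = 1001) : False := by
  have : Fact (Nat.Prime 7) := ⟨by norm_num⟩
  have hc : Nat.card G = 7 ^ 1 * 143 := by rw [h]; norm_num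
  have hm : ¬ 7 ∣ 143 := by norm_num
  have hmem := card_sylow_mem_candidates hc hm
  have hcand : sylowCandidates 7 143 = [1] := by decide
  rw [hcand] at hmem
  simp only [List.mem_cons, List.not_mem_nil, or_false] at hmem
  have hlt := one_lt_card_sylow_of_card hc hm (by norm_num) (by norm_num)
  have hd := hmem
  · omega

theorem no_1002 {G : Type*} [Group G] [Finite G] [IsSimpleGroup G]
    (hG : ¬ IsMulCommutative G) (h : Nat.card G = 1002) : False := by
  exact ev hG (by rw [h]; exact ⟨501, by norm_num⟩) (by rw [h]; omega)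

theorem no_1003 {G : Type*} [Group G] [Finite G] [IsSimpleGroup G]
    (hG : ¬ IsMulCommutative G) (h : Nat.card G = 1003) : False := by
  exact tp hG 17 59 1 1 (by norm_num) (by norm_num) (by rw [h]; norm_num)

theorem no_1004 {G : Type*} [Group G] [Finite G] [IsSimpleGroup G]
    (hG : ¬ IsMulCommutative G) (h : Nat.card G = 1004) : False := by
  exact tp hG 2 251 2 1 (by norm_num) (by norm_num) (by rw [h]; norm_num)

theorem no_1005 {G : Type*} [Group G] [Finite G] [IsSimpleGroup G]
    (hG : ¬ IsMulCommutative G) (h : Nat.card G = 1005) : False := by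
  have : Fact (Nat.Prime 3) := ⟨by norm_num⟩
  have hc : Nat.card G = 3 ^ 1 * 335 := by rw [h]; norm_num
  have hm : ¬ 3 ∣ 335 := by norm_num
  have hmem := card_sylow_mem_candidates hc hm
  have hcand : sylowCandidates 3 335 = [1, 67] := by decide
  rw [hcand] at hmem
  simp only [List.mem_cons, List.not_mem_nil, or_false] at hmem
  have hlt := one_lt_card_sylow_of_card hc hm (by norm_num) (by norm_num)
  rcases hmem with hd | hd
  · omega
  · exact burn_kill hc hm (by norm_num) 67 hd (by decide)

theorem no_1006 {G : Type*} [Group G] [Finite G] [IsSimpleGroup G]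
    (hG : ¬ IsMulCommutative G) (h : Nat.card G = 1006) : False := by
  exact tp hG 2 503 1 1 (by norm_num) (by norm_num) (by rw [h]; norm_num)

theorem no_1007 {G : Type*} [Group G] [Finite G] [IsSimpleGroup G]
    (hG : ¬ IsMulCommutative G) (h : Nat.card G = 1007) : False := by
  exact tp hG 19 53 1 1 (by norm_num) (by norm_num) (by rw [h]; norm_num)

theorem no_1009 {G : Type*} [Group G] [Finite G] [IsSimpleGroup G]
    (hG : ¬ IsMulCommutative G) (h : Nat.card G = 1009) : False := by
  exact tp hG 1009 2 1 0 (by norm_num) (by norm_num) (by rw [h]; norm_num)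

theorem no_1010 {G : Type*} [Group G] [Finite G] [IsSimpleGroup G]
    (hG : ¬ IsMulCommutative G) (h : Nat.card G = 1010) : False := by
  exact ev hG (by rw [h]; exact ⟨505, by norm_num⟩) (by rw [h]; omega)

theorem no_1011 {G : Type*} [Group G] [Finite G] [IsSimpleGroup G]
    (hG : ¬ IsMulCommutative G) (h : Nat.card G = 1011) : False := by
  exact tp hG 3 337 1 1 (by norm_num) (by norm_num) (by rw [h]; norm_num)

theorem no_1012 {G : Type*} [Group G] [Finite G] [IsSimpleGroup G]
    (hG : ¬ IsMulCommutative G) (h : Nat.card G = 1012) : False := by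
  exact ev hG (by rw [h]; exact ⟨506, by norm_num⟩) (by rw [h]; omega)

theorem no_1013 {G : Type*} [Group G] [Finite G] [IsSimpleGroup G]
    (hG : ¬ IsMulCommutative G) (h : Nat.card G = 1013) : False := by
  exact tp hG 1013 2 1 0 (by norm_num) (by norm_num) (by rw [h]; norm_num)

theorem no_1014 {G : Type*} [Group G] [Finite G] [IsSimpleGroup G]
    (hG : ¬ IsMulCommutative G) (h : Nat.card G = 1014) : False := by
  exact ev hG (by rw [h]; exact ⟨507, by norm_num⟩) (by rw [h]; omega)

theorem no_1015 {G : Type*} [Group G] [Finite G] [IsSimpleGroup G]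
    (hG : ¬ IsMulCommutative G) (h : Nat.card G = 1015) : False := by
  have : Fact (Nat.Prime 5) := ⟨by norm_num⟩
  have hc : Nat.card G = 5 ^ 1 * 203 := by rw [h]; norm_num
  have hm : ¬ 5 ∣ 203 := by norm_num
  have hmem := card_sylow_mem_candidates hc hm
  have hcand : sylowCandidates 5 203 = [1] := by decide
  rw [hcand] at hmem
  simp only [List.mem_cons, List.not_mem_nil, or_false] at hmem
  have hlt := one_lt_card_sylow_of_card hc hm (by norm_num) (by norm_num)
  have hd := hmem
  · omega

theorem no_1016 {G : Type*} [Group G] [Finite G] [IsSimpleGroup G]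
    (hG : ¬ IsMulCommutative G) (h : Nat.card G = 1016) : False := by
  exact tp hG 2 127 3 1 (by norm_num) (by norm_num) (by rw [h]; norm_num)

theorem no_1017 {G : Type*} [Group G] [Finite G] [IsSimpleGroup G]
    (hG : ¬ IsMulCommutative G) (h : Nat.card G = 1017) : False := by
  exact tp hG 3 113 2 1 (by norm_num) (by norm_num) (by rw [h]; norm_num)

theorem no_1018 {G : Type*} [Group G] [Finite G] [IsSimpleGroup G]
    (hG : ¬ IsMulCommutative G) (h : Nat.card G = 1018) : False := by
  exact tp hG 2 509 1 1 (by norm_num) (by norm_num) (by rw [h]; norm_num)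

theorem no_1019 {G : Type*} [Group G] [Finite G] [IsSimpleGroup G]
    (hG : ¬ IsMulCommutative G) (h : Nat.card G = 1019) : False := by
  exact tp hG 1019 2 1 0 (by norm_num) (by norm_num) (by rw [h]; norm_num)

theorem no_1020 {G : Type*} [Group G] [Finite G] [IsSimpleGroup G]
    (hG : ¬ IsMulCommutative G) (h : Nat.card G = 1020) : False := by
  have : Fact (Nat.Prime 17) := ⟨by norm_num⟩
  have hc : Nat.card G = 17 ^ 1 * 60 := by rw [h]; norm_num
  have hm : ¬ 17 ∣ 60 := by norm_num
  have hmem := card_sylow_mem_candidates hc hm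
  have hcand : sylowCandidates 17 60 = [1] := by decide
  rw [hcand] at hmem
  simp only [List.mem_cons, List.not_mem_nil, or_false] at hmem
  have hlt := one_lt_card_sylow_of_card hc hm (by norm_num) (by norm_num)
  have hd := hmem
  · omega

theorem no_1021 {G : Type*} [Group G] [Finite G] [IsSimpleGroup G]
    (hG : ¬ IsMulCommutative G) (h : Nat.card G = 1021) : False := by
  exact tp hG 1021 2 1 0 (by norm_num) (by norm_num) (by rw [h]; norm_num)

theorem no_1022 {G : Type*} [Group G] [Finite G] [IsSimpleGroup G]
    (hG : ¬ IsMulCommutative G) (h : Nat.card G = 1022) : False := by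
  exact ev hG (by rw [h]; exact ⟨511, by norm_num⟩) (by rw [h]; omega)

theorem no_1023 {G : Type*} [Group G] [Finite G] [IsSimpleGroup G]
    (hG : ¬ IsMulCommutative G) (h : Nat.card G = 1023) : False := by
  have : Fact (Nat.Prime 3) := ⟨by norm_num⟩
  have hc : Nat.card G = 3 ^ 1 * 341 := by rw [h]; norm_num
  have hm : ¬ 3 ∣ 341 := by norm_num
  have hmem := card_sylow_mem_candidates hc hm
  have hcand : sylowCandidates 3 341 = [1, 31] := by decide
  rw [hcand] at hmem
  simp only [List.mem_cons, List.not_mem_nil, or_false] at hmem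
  have hlt := one_lt_card_sylow_of_card hc hm (by norm_num) (by norm_num)
  rcases hmem with hd | hd
  · omega
  · exact burn_kill hc hm (by norm_num) 31 hd (by decide)

theorem no_1024 {G : Type*} [Group G] [Finite G] [IsSimpleGroup G]
    (hG : ¬ IsMulCommutative G) (h : Nat.card G = 1024) : False := by
  exact tp hG 2 3 10 0 (by norm_num) (by norm_num) (by rw [h]; norm_num)

theorem no_1025 {G : Type*} [Group G] [Finite G] [IsSimpleGroup G]
    (hG : ¬ IsMulCommutative G) (h : Nat.card G = 1025) : False := by
  exact tp hG 5 41 2 1 (by norm_num) (by norm_num) (by rw [h]; norm_num)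

theorem no_1026 {G : Type*} [Group G] [Finite G] [IsSimpleGroup G]
    (hG : ¬ IsMulCommutative G) (h : Nat.card G = 1026) : False := by
  exact ev hG (by rw [h]; exact ⟨513, by norm_num⟩) (by rw [h]; omega)

theorem no_1027 {G : Type*} [Group G] [Finite G] [IsSimpleGroup G]
    (hG : ¬ IsMulCommutative G) (h : Nat.card G = 1027) : False := by
  exact tp hG 13 79 1 1 (by norm_num) (by norm_num) (by rw [h]; norm_num)

theorem no_1028 {G : Type*} [Group G] [Finite G] [IsSimpleGroup G]
    (hG : ¬ IsMulCommutative G) (h : Nat.card G = 1028) : False := by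
  exact tp hG 2 257 2 1 (by norm_num) (by norm_num) (by rw [h]; norm_num)

theorem no_1029 {G : Type*} [Group G] [Finite G] [IsSimpleGroup G]
    (hG : ¬ IsMulCommutative G) (h : Nat.card G = 1029) : False := by
  exact tp hG 3 7 1 3 (by norm_num) (by norm_num) (by rw [h]; norm_num)

theorem no_1030 {G : Type*} [Group G] [Finite G] [IsSimpleGroup G]
    (hG : ¬ IsMulCommutative G) (h : Nat.card G = 1030) : False := by
  exact ev hG (by rw [h]; exact ⟨515, by norm_num⟩) (by rw [h]; omega)

theorem no_1031 {G : Type*} [Group G] [Finite G] [IsSimpleGroup G]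
    (hG : ¬ IsMulCommutative G) (h : Nat.card G = 1031) : False := by
  exact tp hG 1031 2 1 0 (by norm_num) (by norm_num) (by rw [h]; norm_num)

theorem no_1032 {G : Type*} [Group G] [Finite G] [IsSimpleGroup G]
    (hG : ¬ IsMulCommutative G) (h : Nat.card G = 1032) : False := by
  have : Fact (Nat.Prime 43) := ⟨by norm_num⟩
  have hc : Nat.card G = 43 ^ 1 * 24 := by rw [h]; norm_num
  have hm : ¬ 43 ∣ 24 := by norm_num
  have hmem := card_sylow_mem_candidates hc hm
  have hcand : sylowCandidates 43 24 = [1] := by decide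
  rw [hcand] at hmem
  simp only [List.mem_cons, List.not_mem_nil, or_false] at hmem
  have hlt := one_lt_card_sylow_of_card hc hm (by norm_num) (by norm_num)
  have hd := hmem
  · omega

theorem no_1033 {G : Type*} [Group G] [Finite G] [IsSimpleGroup G]
    (hG : ¬ IsMulCommutative G) (h : Nat.card G = 1033) : False := by
  exact tp hG 1033 2 1 0 (by norm_num) (by norm_num) (by rw [h]; norm_num)

theorem no_1034 {G : Type*} [Group G] [Finite G] [IsSimpleGroup G]
    (hG : ¬ IsMulCommutative G) (h : Nat.card G = 1034) : False := by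
  exact ev hG (by rw [h]; exact ⟨517, by norm_num⟩) (by rw [h]; omega)

theorem no_1035 {G : Type*} [Group G] [Finite G] [IsSimpleGroup G]
    (hG : ¬ IsMulCommutative G) (h : Nat.card G = 1035) : False := by
  have : Fact (Nat.Prime 3) := ⟨by norm_num⟩
  have hc : Nat.card G = 3 ^ 2 * 115 := by rw [h]; norm_num
  have hm : ¬ 3 ∣ 115 := by norm_num
  have hmem := card_sylow_mem_candidates hc hm
  have hcand : sylowCandidates 3 115 = [1, 115] := by decide
  rw [hcand] at hmem
  simp only [List.mem_cons, List.not_mem_nil, or_false] at hmem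
  have hlt := one_lt_card_sylow_of_card hc hm (by norm_num) (by norm_num)
  rcases hmem with hd | hd
  · omega
  · exact burn2_kill hc hm (by norm_num) hd

theorem no_1036 {G : Type*} [Group G] [Finite G] [IsSimpleGroup G]
    (hG : ¬ IsMulCommutative G) (h : Nat.card G = 1036) : False := by
  exact ev hG (by rw [h]; exact ⟨518, by norm_num⟩) (by rw [h]; omega)

theorem no_1037 {G : Type*} [Group G] [Finite G] [IsSimpleGroup G]
    (hG : ¬ IsMulCommutative G) (h : Nat.card G = 1037) : False := by
  exact tp hG 17 61 1 1 (by norm_num) (by norm_num) (by rw [h]; norm_num)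

theorem no_1038 {G : Type*} [Group G] [Finite G] [IsSimpleGroup G]
    (hG : ¬ IsMulCommutative G) (h : Nat.card G = 1038) : False := by
  exact ev hG (by rw [h]; exact ⟨519, by norm_num⟩) (by rw [h]; omega)

theorem no_1039 {G : Type*} [Group G] [Finite G] [IsSimpleGroup G]
    (hG : ¬ IsMulCommutative G) (h : Nat.card G = 1039) : False := by
  exact tp hG 1039 2 1 0 (by norm_num) (by norm_num) (by rw [h]; norm_num)

theorem no_1041 {G : Type*} [Group G] [Finite G] [IsSimpleGroup G]
    (hG : ¬ IsMulCommutative G) (h : Nat.card G = 1041) : False := by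
  exact tp hG 3 347 1 1 (by norm_num) (by norm_num) (by rw [h]; norm_num)

theorem no_1042 {G : Type*} [Group G] [Finite G] [IsSimpleGroup G]
    (hG : ¬ IsMulCommutative G) (h : Nat.card G = 1042) : False := by
  exact tp hG 2 521 1 1 (by norm_num) (by norm_num) (by rw [h]; norm_num)

theorem no_1043 {G : Type*} [Group G] [Finite G] [IsSimpleGroup G]
    (hG : ¬ IsMulCommutative G) (h : Nat.card G = 1043) : False := by
  exact tp hG 7 149 1 1 (by norm_num) (by norm_num) (by rw [h]; norm_num)

theorem no_1044 {G : Type*} [Group G] [Finite G] [IsSimpleGroup G]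
    (hG : ¬ IsMulCommutative G) (h : Nat.card G = 1044) : False := by
  have : Fact (Nat.Prime 29) := ⟨by norm_num⟩
  have hc : Nat.card G = 29 ^ 1 * 36 := by rw [h]; norm_num
  have hm : ¬ 29 ∣ 36 := by norm_num
  have hmem := card_sylow_mem_candidates hc hm
  have hcand : sylowCandidates 29 36 = [1] := by decide
  rw [hcand] at hmem
  simp only [List.mem_cons, List.not_mem_nil, or_false] at hmem
  have hlt := one_lt_card_sylow_of_card hc hm (by norm_num) (by norm_num)
  have hd := hmem
  · omega

theorem no_1045 {G : Type*} [Group G] [Finite G] [IsSimpleGroup G]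
    (hG : ¬ IsMulCommutative G) (h : Nat.card G = 1045) : False := by
  have : Fact (Nat.Prime 5) := ⟨by norm_num⟩
  have hc : Nat.card G = 5 ^ 1 * 209 := by rw [h]; norm_num
  have hm : ¬ 5 ∣ 209 := by norm_num
  have hmem := card_sylow_mem_candidates hc hm
  have hcand : sylowCandidates 5 209 = [1, 11] := by decide
  rw [hcand] at hmem
  simp only [List.mem_cons, List.not_mem_nil, or_false] at hmem
  have hlt := one_lt_card_sylow_of_card hc hm (by norm_num) (by norm_num)
  rcases hmem with hd | hd
  · omega
  · exact fact_kill hG 11 hd (by norm_num) (by rw [h]; decide)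

theorem no_1046 {G : Type*} [Group G] [Finite G] [IsSimpleGroup G]
    (hG : ¬ IsMulCommutative G) (h : Nat.card G = 1046) : False := by
  exact tp hG 2 523 1 1 (by norm_num) (by norm_num) (by rw [h]; norm_num)

theorem no_1047 {G : Type*} [Group G] [Finite G] [IsSimpleGroup G]
    (hG : ¬ IsMulCommutative G) (h : Nat.card G = 1047) : False := by
  exact tp hG 3 349 1 1 (by norm_num) (by norm_num) (by rw [h]; norm_num)

theorem no_1048 {G : Type*} [Group G] [Finite G] [IsSimpleGroup G]
    (hG : ¬ IsMulCommutative G) (h : Nat.card G = 1048) : False := by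
  exact tp hG 2 131 3 1 (by norm_num) (by norm_num) (by rw [h]; norm_num)

theorem no_1049 {G : Type*} [Group G] [Finite G] [IsSimpleGroup G]
    (hG : ¬ IsMulCommutative G) (h : Nat.card G = 1049) : False := by
  exact tp hG 1049 2 1 0 (by norm_num) (by norm_num) (by rw [h]; norm_num)

theorem no_1050 {G : Type*} [Group G] [Finite G] [IsSimpleGroup G]
    (hG : ¬ IsMulCommutative G) (h : Nat.card G = 1050) : False := by
  exact ev hG (by rw [h]; exact ⟨525, by norm_num⟩) (by rw [h]; omega)

theorem no_1051 {G : Type*} [Group G] [Finite G] [IsSimpleGroup G]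
    (hG : ¬ IsMulCommutative G) (h : Nat.card G = 1051) : False := by
  exact tp hG 1051 2 1 0 (by norm_num) (by norm_num) (by rw [h]; norm_num)

theorem no_1052 {G : Type*} [Group G] [Finite G] [IsSimpleGroup G]
    (hG : ¬ IsMulCommutative G) (h : Nat.card G = 1052) : False := by
  exact tp hG 2 263 2 1 (by norm_num) (by norm_num) (by rw [h]; norm_num)

theorem no_1053 {G : Type*} [Group G] [Finite G] [IsSimpleGroup G]
    (hG : ¬ IsMulCommutative G) (h : Nat.card G = 1053) : False := by
  exact tp hG 3 13 4 1 (by norm_num) (by norm_num) (by rw [h]; norm_num)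

theorem no_1054 {G : Type*} [Group G] [Finite G] [IsSimpleGroup G]
    (hG : ¬ IsMulCommutative G) (h : Nat.card G = 1054) : False := by
  exact ev hG (by rw [h]; exact ⟨527, by norm_num⟩) (by rw [h]; omega)

theorem no_1055 {G : Type*} [Group G] [Finite G] [IsSimpleGroup G]
    (hG : ¬ IsMulCommutative G) (h : Nat.card G = 1055) : False := by
  exact tp hG 5 211 1 1 (by norm_num) (by norm_num) (by rw [h]; norm_num)

theorem no_1056 {G : Type*} [Group G] [Finite G] [IsSimpleGroup G]
    (hG : ¬ IsMulCommutative G) (h : Nat.card G = 1056) : False := by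
  have : Fact (Nat.Prime 11) := ⟨by norm_num⟩
  have hc : Nat.card G = 11 ^ 1 * 96 := by rw [h]; norm_num
  have hm : ¬ 11 ∣ 96 := by norm_num
  have hmem := card_sylow_mem_candidates hc hm
  have hcand : sylowCandidates 11 96 = [1, 12] := by decide
  rw [hcand] at hmem
  simp only [List.mem_cons, List.not_mem_nil, or_false] at hmem
  have hlt := one_lt_card_sylow_of_card hc hm (by norm_num) (by norm_num)
  rcases hmem with hd | hd
  · omega
  · exact perm_kill hG (by norm_num) hc hm hd 88 (by omega) (by decide)

theorem no_1057 {G : Type*} [Group G] [Finite G] [IsSimpleGroup G]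
    (hG : ¬ IsMulCommutative G) (h : Nat.card G = 1057) : False := by
  exact tp hG 7 151 1 1 (by norm_num) (by norm_num) (by rw [h]; norm_num)

theorem no_1058 {G : Type*} [Group G] [Finite G] [IsSimpleGroup G]
    (hG : ¬ IsMulCommutative G) (h : Nat.card G = 1058) : False := by
  exact tp hG 2 23 1 2 (by norm_num) (by norm_num) (by rw [h]; norm_num)

theorem no_1059 {G : Type*} [Group G] [Finite G] [IsSimpleGroup G]
    (hG : ¬ IsMulCommutative G) (h : Nat.card G = 1059) : False := by
  exact tp hG 3 353 1 1 (by norm_num) (by norm_num) (by rw [h]; norm_num)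

theorem no_1060 {G : Type*} [Group G] [Finite G] [IsSimpleGroup G]
    (hG : ¬ IsMulCommutative G) (h : Nat.card G = 1060) : False := by
  exact ev hG (by rw [h]; exact ⟨530, by norm_num⟩) (by rw [h]; omega)

theorem no_1061 {G : Type*} [Group G] [Finite G] [IsSimpleGroup G]
    (hG : ¬ IsMulCommutative G) (h : Nat.card G = 1061) : False := by
  exact tp hG 1061 2 1 0 (by norm_num) (by norm_num) (by rw [h]; norm_num)

theorem no_1062 {G : Type*} [Group G] [Finite G] [IsSimpleGroup G]
    (hG : ¬ IsMulCommutative G) (h : Nat.card G = 1062) : False := by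
  exact ev hG (by rw [h]; exact ⟨531, by norm_num⟩) (by rw [h]; omega)

theorem no_1063 {G : Type*} [Group G] [Finite G] [IsSimpleGroup G]
    (hG : ¬ IsMulCommutative G) (h : Nat.card G = 1063) : False := by
  exact tp hG 1063 2 1 0 (by norm_num) (by norm_num) (by rw [h]; norm_num)

theorem no_1064 {G : Type*} [Group G] [Finite G] [IsSimpleGroup G]
    (hG : ¬ IsMulCommutative G) (h : Nat.card G = 1064) : False := by
  have : Fact (Nat.Prime 7) := ⟨by norm_num⟩
  have hc : Nat.card G = 7 ^ 1 * 152 := by rw [h]; norm_num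
  have hm : ¬ 7 ∣ 152 := by norm_num
  have hmem := card_sylow_mem_candidates hc hm
  have hcand : sylowCandidates 7 152 = [1, 8] := by decide
  rw [hcand] at hmem
  simp only [List.mem_cons, List.not_mem_nil, or_false] at hmem
  have hlt := one_lt_card_sylow_of_card hc hm (by norm_num) (by norm_num)
  rcases hmem with hd | hd
  · omega
  · exact fact_kill hG 8 hd (by norm_num) (by rw [h]; decide)

theorem no_1065 {G : Type*} [Group G] [Finite G] [IsSimpleGroup G]
    (hG : ¬ IsMulCommutative G) (h : Nat.card G = 1065) : False := by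
  have : Fact (Nat.Prime 3) := ⟨by norm_num⟩
  have hc : Nat.card G = 3 ^ 1 * 355 := by rw [h]; norm_num
  have hm : ¬ 3 ∣ 355 := by norm_num
  have hmem := card_sylow_mem_candidates hc hm
  have hcand : sylowCandidates 3 355 = [1, 355] := by decide
  rw [hcand] at hmem
  simp only [List.mem_cons, List.not_mem_nil, or_false] at hmem
  have hlt := one_lt_card_sylow_of_card hc hm (by norm_num) (by norm_num)
  rcases hmem with hd | hd
  · omega
  · exact burn_kill hc hm (by norm_num) 355 hd (by decide)

theorem no_1066 {G : Type*} [Group G] [Finite G] [IsSimpleGroup G]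
    (hG : ¬ IsMulCommutative G) (h : Nat.card G = 1066) : False := by
  exact ev hG (by rw [h]; exact ⟨533, by norm_num⟩) (by rw [h]; omega)

theorem no_1067 {G : Type*} [Group G] [Finite G] [IsSimpleGroup G]
    (hG : ¬ IsMulCommutative G) (h : Nat.card G = 1067) : False := by
  exact tp hG 11 97 1 1 (by norm_num) (by norm_num) (by rw [h]; norm_num)

theorem no_1068 {G : Type*} [Group G] [Finite G] [IsSimpleGroup G]
    (hG : ¬ IsMulCommutative G) (h : Nat.card G = 1068) : False := by
  have : Fact (Nat.Prime 89) := ⟨by norm_num⟩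
  have hc : Nat.card G = 89 ^ 1 * 12 := by rw [h]; norm_num
  have hm : ¬ 89 ∣ 12 := by norm_num
  have hmem := card_sylow_mem_candidates hc hm
  have hcand : sylowCandidates 89 12 = [1] := by decide
  rw [hcand] at hmem
  simp only [List.mem_cons, List.not_mem_nil, or_false] at hmem
  have hlt := one_lt_card_sylow_of_card hc hm (by norm_num) (by norm_num)
  have hd := hmem
  · omega

theorem no_1069 {G : Type*} [Group G] [Finite G] [IsSimpleGroup G]
    (hG : ¬ IsMulCommutative G) (h : Nat.card G = 1069) : False := by
  exact tp hG 1069 2 1 0 (by norm_num) (by norm_num) (by rw [h]; norm_num)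

theorem no_1070 {G : Type*} [Group G] [Finite G] [IsSimpleGroup G]
    (hG : ¬ IsMulCommutative G) (h : Nat.card G = 1070) : False := by
  exact ev hG (by rw [h]; exact ⟨535, by norm_num⟩) (by rw [h]; omega)

theorem no_1071 {G : Type*} [Group G] [Finite G] [IsSimpleGroup G]
    (hG : ¬ IsMulCommutative G) (h : Nat.card G = 1071) : False := by
  have : Fact (Nat.Prime 3) := ⟨by norm_num⟩
  have hc : Nat.card G = 3 ^ 2 * 119 := by rw [h]; norm_num
  have hm : ¬ 3 ∣ 119 := by norm_num
  have hmem := card_sylow_mem_candidates hc hm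
  have hcand : sylowCandidates 3 119 = [1, 7] := by decide
  rw [hcand] at hmem
  simp only [List.mem_cons, List.not_mem_nil, or_false] at hmem
  have hlt := one_lt_card_sylow_of_card hc hm (by norm_num) (by norm_num)
  rcases hmem with hd | hd
  · omega
  · exact fact_kill hG 7 hd (by norm_num) (by rw [h]; decide)

theorem no_1072 {G : Type*} [Group G] [Finite G] [IsSimpleGroup G]
    (hG : ¬ IsMulCommutative G) (h : Nat.card G = 1072) : False := by
  exact tp hG 2 67 4 1 (by norm_num) (by norm_num) (by rw [h]; norm_num)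

theorem no_1073 {G : Type*} [Group G] [Finite G] [IsSimpleGroup G]
    (hG : ¬ IsMulCommutative G) (h : Nat.card G = 1073) : False := by
  exact tp hG 29 37 1 1 (by norm_num) (by norm_num) (by rw [h]; norm_num)

theorem no_1074 {G : Type*} [Group G] [Finite G] [IsSimpleGroup G]
    (hG : ¬ IsMulCommutative G) (h : Nat.card G = 1074) : False := by
  exact ev hG (by rw [h]; exact ⟨537, by norm_num⟩) (by rw [h]; omega)

theorem no_1075 {G : Type*} [Group G] [Finite G] [IsSimpleGroup G]
    (hG : ¬ IsMulCommutative G) (h : Nat.card G = 1075) : False := by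
  exact tp hG 5 43 2 1 (by norm_num) (by norm_num) (by rw [h]; norm_num)

theorem no_1076 {G : Type*} [Group G] [Finite G] [IsSimpleGroup G]
    (hG : ¬ IsMulCommutative G) (h : Nat.card G = 1076) : False := by
  exact tp hG 2 269 2 1 (by norm_num) (by norm_num) (by rw [h]; norm_num)

theorem no_1077 {G : Type*} [Group G] [Finite G] [IsSimpleGroup G]
    (hG : ¬ IsMulCommutative G) (h : Nat.card G = 1077) : False := by
  exact tp hG 3 359 1 1 (by norm_num) (by norm_num) (by rw [h]; norm_num)

theorem no_1078 {G : Type*} [Group G] [Finite G] [IsSimpleGroup G]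
    (hG : ¬ IsMulCommutative G) (h : Nat.card G = 1078) : False := by
  exact ev hG (by rw [h]; exact ⟨539, by norm_num⟩) (by rw [h]; omega)

theorem no_1079 {G : Type*} [Group G] [Finite G] [IsSimpleGroup G]
    (hG : ¬ IsMulCommutative G) (h : Nat.card G = 1079) : False := by
  exact tp hG 13 83 1 1 (by norm_num) (by norm_num) (by rw [h]; norm_num)

theorem no_1081 {G : Type*} [Group G] [Finite G] [IsSimpleGroup G]
    (hG : ¬ IsMulCommutative G) (h : Nat.card G = 1081) : False := by
  exact tp hG 23 47 1 1 (by norm_num) (by norm_num) (by rw [h]; norm_num)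

theorem no_1082 {G : Type*} [Group G] [Finite G] [IsSimpleGroup G]
    (hG : ¬ IsMulCommutative G) (h : Nat.card G = 1082) : False := by
  exact tp hG 2 541 1 1 (by norm_num) (by norm_num) (by rw [h]; norm_num)

theorem no_1083 {G : Type*} [Group G] [Finite G] [IsSimpleGroup G]
    (hG : ¬ IsMulCommutative G) (h : Nat.card G = 1083) : False := by
  exact tp hG 3 19 1 2 (by norm_num) (by norm_num) (by rw [h]; norm_num)

theorem no_1084 {G : Type*} [Group G] [Finite G] [IsSimpleGroup G]
    (hG : ¬ IsMulCommutative G) (h : Nat.card G = 1084) : False := by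
  exact tp hG 2 271 2 1 (by norm_num) (by norm_num) (by rw [h]; norm_num)

theorem no_1085 {G : Type*} [Group G] [Finite G] [IsSimpleGroup G]
    (hG : ¬ IsMulCommutative G) (h : Nat.card G = 1085) : False := by
  have : Fact (Nat.Prime 5) := ⟨by norm_num⟩
  have hc : Nat.card G = 5 ^ 1 * 217 := by rw [h]; norm_num
  have hm : ¬ 5 ∣ 217 := by norm_num
  have hmem := card_sylow_mem_candidates hc hm
  have hcand : sylowCandidates 5 217 = [1, 31] := by decide
  rw [hcand] at hmem
  simp only [List.mem_cons, List.not_mem_nil, or_false] at hmem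
  have hlt := one_lt_card_sylow_of_card hc hm (by norm_num) (by norm_num)
  rcases hmem with hd | hd
  · omega
  · exact burn_kill hc hm (by norm_num) 31 hd (by decide)

theorem no_1086 {G : Type*} [Group G] [Finite G] [IsSimpleGroup G]
    (hG : ¬ IsMulCommutative G) (h : Nat.card G = 1086) : False := by
  exact ev hG (by rw [h]; exact ⟨543, by norm_num⟩) (by rw [h]; omega)

theorem no_1087 {G : Type*} [Group G] [Finite G] [IsSimpleGroup G]
    (hG : ¬ IsMulCommutative G) (h : Nat.card G = 1087) : False := by
  exact tp hG 1087 2 1 0 (by norm_num) (by norm_num) (by rw [h]; norm_num)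

theorem no_1088 {G : Type*} [Group G] [Finite G] [IsSimpleGroup G]
    (hG : ¬ IsMulCommutative G) (h : Nat.card G = 1088) : False := by
  exact tp hG 2 17 6 1 (by norm_num) (by norm_num) (by rw [h]; norm_num)

theorem no_1089 {G : Type*} [Group G] [Finite G] [IsSimpleGroup G]
    (hG : ¬ IsMulCommutative G) (h : Nat.card G = 1089) : False := by
  exact tp hG 3 11 2 2 (by norm_num) (by norm_num) (by rw [h]; norm_num)

theorem no_1090 {G : Type*} [Group G] [Finite G] [IsSimpleGroup G]
    (hG : ¬ IsMulCommutative G) (h : Nat.card G = 1090) : False := by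
  exact ev hG (by rw [h]; exact ⟨545, by norm_num⟩) (by rw [h]; omega)

theorem no_1091 {G : Type*} [Group G] [Finite G] [IsSimpleGroup G]
    (hG : ¬ IsMulCommutative G) (h : Nat.card G = 1091) : False := by
  exact tp hG 1091 2 1 0 (by norm_num) (by norm_num) (by rw [h]; norm_num)

/-- the orders in [1001, 1092] not excluded by the engine -/
theorem chunk {G : Type*} [Group G] [Finite G] [IsSimpleGroup G]
    (hG : ¬ IsMulCommutative G) (n : ℕ) (hn : Nat.card G = n) (h1 : 1001 ≤ n) (h2 : n ≤ 1092) :
    n = 1008 ∨ n = 1040 ∨ n = 1080 ∨ n = 1092 := by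
  interval_cases n
  · exact (no_1001 hG hn).elim
  · exact (no_1002 hG hn).elim
  · exact (no_1003 hG hn).elim
  · exact (no_1004 hG hn).elim
  · exact (no_1005 hG hn).elim
  · exact (no_1006 hG hn).elim
  · exact (no_1007 hG hn).elim
  · simp
  · exact (no_1009 hG hn).elim
  · exact (no_1010 hG hn).elim
  · exact (no_1011 hG hn).elim
  · exact (no_1012 hG hn).elim
  · exact (no_1013 hG hn).elim
  · exact (no_1014 hG hn).elim
  · exact (no_1015 hG hn).elim
  · exact (no_1016 hG hn).elim
  · exact (no_1017 hG hn).elim
  · exact (no_1018 hG hn).elim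
  · exact (no_1019 hG hn).elim
  · exact (no_1020 hG hn).elim
  · exact (no_1021 hG hn).elim
  · exact (no_1022 hG hn).elim
  · exact (no_1023 hG hn).elim
  · exact (no_1024 hG hn).elim
  · exact (no_1025 hG hn).elim
  · exact (no_1026 hG hn).elim
  · exact (no_1027 hG hn).elim
  · exact (no_1028 hG hn).elim
  · exact (no_1029 hG hn).elim
  · exact (no_1030 hG hn).elim
  · exact (no_1031 hG hn).elim
  · exact (no_1032 hG hn).elim
  · exact (no_1033 hG hn).elim
  · exact (no_1034 hG hn).elim
  · exact (no_1035 hG hn).elim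
  · exact (no_1036 hG hn).elim
  · exact (no_1037 hG hn).elim
  · exact (no_1038 hG hn).elim
  · exact (no_1039 hG hn).elim
  · simp
  · exact (no_1041 hG hn).elim
  · exact (no_1042 hG hn).elim
  · exact (no_1043 hG hn).elim
  · exact (no_1044 hG hn).elim
  · exact (no_1045 hG hn).elim
  · exact (no_1046 hG hn).elim
  · exact (no_1047 hG hn).elim
  · exact (no_1048 hG hn).elim
  · exact (no_1049 hG hn).elim
  · exact (no_1050 hG hn).elim
  · exact (no_1051 hG hn).elim
  · exact (no_1052 hG hn).elim
  · exact (no_1053 hG hn).elim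
  · exact (no_1054 hG hn).elim
  · exact (no_1055 hG hn).elim
  · exact (no_1056 hG hn).elim
  · exact (no_1057 hG hn).elim
  · exact (no_1058 hG hn).elim
  · exact (no_1059 hG hn).elim
  · exact (no_1060 hG hn).elim
  · exact (no_1061 hG hn).elim
  · exact (no_1062 hG hn).elim
  · exact (no_1063 hG hn).elim
  · exact (no_1064 hG hn).elim
  · exact (no_1065 hG hn).elim
  · exact (no_1066 hG hn).elim
  · exact (no_1067 hG hn).elim
  · exact (no_1068 hG hn).elim
  · exact (no_1069 hG hn).elim
  · exact (no_1070 hG hn).elim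
  · exact (no_1071 hG hn).elim
  · exact (no_1072 hG hn).elim
  · exact (no_1073 hG hn).elim
  · exact (no_1074 hG hn).elim
  · exact (no_1075 hG hn).elim
  · exact (no_1076 hG hn).elim
  · exact (no_1077 hG hn).elim
  · exact (no_1078 hG hn).elim
  · exact (no_1079 hG hn).elim
  · simp
  · exact (no_1081 hG hn).elim
  · exact (no_1082 hG hn).elim
  · exact (no_1083 hG hn).elim
  · exact (no_1084 hG hn).elim
  · exact (no_1085 hG hn).elim
  · exact (no_1086 hG hn).elim
  · exact (no_1087 hG hn).elim
  · exact (no_1088 hG hn).elim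
  · exact (no_1089 hG hn).elim
  · exact (no_1090 hG hn).elim
  · exact (no_1091 hG hn).elim
  · simp

end Cfsg.Agent.Lib.Helper75_SM_E9
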