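import Mathlib
import Cfsg.Agent.Lib.Helper17_ExcApply

/-!
# S0496: no simple group of order 612 or 1040 (exceptional characters, `e = 2`; helper75)
-/

set_option autoImplicit false

namespace Cfsg.Agent.Lib.Helper75_SM_Exc

open Cfsg.Agent.Lib.Helper17_Sylow Cfsg.Agent.Lib.Helper17_ExcApply Subgroup

/-- No finite simple group has order 612 = 2^2 * 3^2 * 17. -/
theorem no_simple_612 {G : Type*} [Group G] [Finite G] [IsSimpleGroup G] : Nat.card G ≠ 612 := by
  intro hG
  classical
  cases nonempty_fintype G
  have hnc : ¬ IsMulCommutative G :=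
    not_isMulCommutative_of_not_prime (by rw [hG]; norm_num)
  have : Fact (Nat.Prime 17) := ⟨by norm_num⟩
  have hG17 : Nat.card G = 17 ^ 1 * 36 := by rw [hG]; norm_num
  have h17 : ¬ 17 ∣ 36 := by norm_num
  obtain ⟨P⟩ : Nonempty (Sylow 17 G) := inferInstance
  have hPcard : Nat.card (P : Subgroup G) = 17 := by
    have := card_sylow_eq_pow hG17 h17 P
    simpa using this
  have hn : Nat.card (Sylow 17 G) = 18 := by
    have hc : sylowCandidates 17 36 = [1, 18] := by decide
    have hmem := card_sylow_mem_candidates hG17 h17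
    rw [hc] at hmem
    have hlt := one_lt_card_sylow_of_card hG17 h17 (by norm_num) (by norm_num)
    simp only [List.mem_cons, List.not_mem_nil, or_false] at hmem
    omega
  have hN : Nat.card (normalizer ((P : Subgroup G) : Set G)) = 2 * 17 := by
    have := card_normalizer_mul_card_sylow P
    rw [hn, hG] at this
    omega
  have hC := centralizer_le_of_card_normalizer P hPcard 2 Nat.prime_two hN
    (by rw [hG]; norm_num)
  obtain ⟨ψ, χ, δ, ε, hψ1, hδ, hε, hcong, hrel⟩ :=
    exceptional_two (P : Subgroup G) hPcard hC hN (by norm_num)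
  have hd2 := two_le_deg_of_simple hnc ψ hψ1
  have hdvd := deg_dvd_card ψ
  have hdvdχ := deg_dvd_card χ
  have hsq := one_add_sq_le ψ hψ1
  rw [hG] at hdvd hsq hdvdχ
  have hle : deg ψ ≤ 24 := by nlinarith
  unfold Int.ModEq at hcong
  generalize deg ψ = d at *
  generalize deg χ = c at *
  rcases hδ with rfl | rfl
  · have h1 : (d : ℤ) % 17 = 1 := by omega
    have hd18 : d = 18 := by interval_cases d <;> omega
    subst hd18
    have hc19 : c = 19 := by rcases hε with rfl | rfl <;> omega
    subst hc19
    omega
  · have h1 : (d : ℤ) % 17 = 16 := by omega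
    interval_cases d <;> omega

/-- No finite simple group has order 1040 = 2^4 * 5 * 13. -/
theorem no_simple_1040 {G : Type*} [Group G] [Finite G] [IsSimpleGroup G] : Nat.card G ≠ 1040 := by
  intro hG
  classical
  cases nonempty_fintype G
  have hnc : ¬ IsMulCommutative G :=
    not_isMulCommutative_of_not_prime (by rw [hG]; norm_num)
  have : Fact (Nat.Prime 13) := ⟨by norm_num⟩
  have hG13 : Nat.card G = 13 ^ 1 * 80 := by rw [hG]; norm_num
  have h13 : ¬ 13 ∣ 80 := by norm_num
  obtain ⟨P⟩ : Nonempty (Sylow 13 G) := inferInstance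
  have hPcard : Nat.card (P : Subgroup G) = 13 := by
    have := card_sylow_eq_pow hG13 h13 P
    simpa using this
  have hn : Nat.card (Sylow 13 G) = 40 := by
    have hc : sylowCandidates 13 80 = [1, 40] := by decide
    have hmem := card_sylow_mem_candidates hG13 h13
    rw [hc] at hmem
    have hlt := one_lt_card_sylow_of_card hG13 h13 (by norm_num) (by norm_num)
    simp only [List.mem_cons, List.not_mem_nil, or_false] at hmem
    omega
  have hN : Nat.card (normalizer ((P : Subgroup G) : Set G)) = 2 * 13 := by
    have := card_normalizer_mul_card_sylow P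
    rw [hn, hG] at this
    omega
  have hC := centralizer_le_of_card_normalizer P hPcard 2 Nat.prime_two hN
    (by rw [hG]; norm_num)
  obtain ⟨ψ, χ, δ, ε, hψ1, hδ, hε, hcong, hrel⟩ :=
    exceptional_two (P : Subgroup G) hPcard hC hN (by norm_num)
  have hd2 := two_le_deg_of_simple hnc ψ hψ1
  have hdvd := deg_dvd_card ψ
  have hsq := one_add_sq_le ψ hψ1
  rw [hG] at hdvd hsq
  have hle : deg ψ ≤ 32 := by nlinarith
  unfold Int.ModEq at hcong
  generalize deg ψ = d at *
  rcases hδ with rfl | rfl
  · have h1 : (d : ℤ) % 13 = 1 := by omega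
    interval_cases d <;> omega
  · have h1 : (d : ℤ) % 13 = 12 := by omega
    interval_cases d <;> omega

end Cfsg.Agent.Lib.Helper75_SM_Exc
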