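import Mathlib
import Cfsg.Prelude.Def_Characters
import Cfsg.Prelude.Def_Blocks
import Cfsg.Agent.Lib.Helper57_CTGen
import Cfsg.Agent.Lib.Helper74_H1V
import Cfsg.Agent.Lib.Helper16_GenMain
import Cfsg.Agent.Lib.Helper16_GenFinal
import Cfsg.Agent.Lib.Helper3_CharColumn

/-!
M11-BR (helper85, for helper53's S4429/S0434/S0435): Brauer's theorem on blocks of defect one for a
self-centralizing Sylow subgroup of prime order, in degree form.  General (any finite group).
Obtained from helper16's `gen_structure` with `V = ⊥`.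
-/

set_option autoImplicit false

namespace Cfsg.Agent.Lib.Helper85_M11_BR

open Cfsg Cfsg.Agent.Lib.Helper16_BrauerSetup Cfsg.Agent.Lib.Helper16_BrauerMain
  Cfsg.Agent.Lib.Helper16_GenSetup Cfsg.Agent.Lib.Helper16_GenK Cfsg.Agent.Lib.Helper16_GenMain
  Cfsg.Agent.Lib.Helper16_GenFinal Cfsg.Agent.Lib.Helper80_CharBasic
open scoped ComplexConjugate

section setup

variable {G : Type*} [Group G] [Fintype G] {p : ℕ} [hp : Fact p.Prime] {P : Sylow p G}

/-- for a self-centralizing Sylow subgroup of prime order, `⊥` is the `p`-complement of `C_G(P)` -/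
theorem isPCompl_bot (hP : Nat.card P = p)
    (hC : Subgroup.centralizer ((P : Subgroup G) : Set G) = (P : Subgroup G)) :
    IsPCompl P (⊥ : Subgroup G) where
  le := bot_le
  coprime := by
    rw [Subgroup.card_bot]
    exact Nat.coprime_one_left p
  prod := by
    intro c hc
    rw [hC] at hc
    exact ⟨c, hc, 1, Subgroup.one_mem _, (mul_one c).symm⟩
  reg := by
    intro v hv hpv
    rw [hC] at hv
    have h1 : orderOf (⟨v, hv⟩ : ↥(P : Subgroup G)) ∣ Nat.card ↥(P : Subgroup G) :=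
      orderOf_dvd_natCard _
    have h2 : orderOf v ∣ p := by
      have h3 : orderOf v ∣ Nat.card ↥(P : Subgroup G) := by
        rw [← Subgroup.orderOf_mk v hv]
        exact h1
      exact h3.trans (dvd_of_eq hP)
    rcases (Nat.dvd_prime hp.out).1 h2 with h | h
    · rw [Subgroup.mem_bot]
      exact orderOf_eq_one_iff.1 h
    · exact absurd (h ▸ dvd_rfl) hpv
  norm := by
    intro n _ v hv
    rw [Subgroup.mem_bot] at hv
    rw [hv, mul_one, mul_inv_cancel]
    exact Subgroup.one_mem _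

variable [Fintype ↥(⊥ : Subgroup G)]

theorem sfun_bot (χ : IrrCharacter G) (h : ↥(P : Subgroup G)) :
    sfun P (⊥ : Subgroup G) (oneIrr ↥(⊥ : Subgroup G)) χ h = (χ : G → ℂ) (h : G) := by
  unfold sfun
  rw [Subgroup.card_bot, Fintype.sum_unique]
  show ((1 : ℕ) : ℂ)⁻¹ * ((χ : G → ℂ) ((h : G) * ((default : ↥(⊥ : Subgroup G)) : G))
    * conj (1 : ℂ)) = _
  have hd : ((default : ↥(⊥ : Subgroup G)) : G) = 1 := Subgroup.mem_bot.1 (default : ↥(⊥ : Subgroup G)).2
  rw [hd, mul_one, map_one, mul_one, Nat.cast_one, inv_one, one_mul]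

theorem stab_bot (hV : IsPCompl P (⊥ : Subgroup G)) :
    stab hV (oneIrr ↥(⊥ : Subgroup G)) = Subgroup.normalizer ((P : Subgroup G) : Set G) := by
  apply le_antisymm (stab_le_normalizer hV _)
  intro n hn
  exact ⟨hn, fun v v' _ => rfl⟩

end setup

section main

variable {G : Type*} [Group G] [Finite G]

/-- **M11-BR**: Brauer's theorem on blocks of defect one for a self-centralizing Sylow subgroup
of prime order, in degree form. -/
theorem BR (p : ℕ) [Fact p.Prime] (P : Sylow p G) (hP : Nat.card P = p)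
    (hC : Subgroup.centralizer ((P : Subgroup G) : Set G) = (P : Subgroup G))
    (e : ℕ) (he : Nat.card (Subgroup.normalizer ((P : Subgroup G) : Set G)) = p * e) :
    ∃ (X Y : Finset (IrrCharacter G)) (s : IrrCharacter G → ℤ) (ε : ℤ),
      Disjoint X Y ∧ X.card = e ∧ e * Y.card = p - 1 ∧
      (∀ χ : IrrCharacter G, ¬ p ∣ charDegree (χ : G → ℂ) ↔ χ ∈ X ∨ χ ∈ Y) ∧
      (∀ χ ∈ X, (s χ = 1 ∨ s χ = -1) ∧ (charDegree (χ : G → ℂ) : ℤ) ≡ s χ [ZMOD p]) ∧
      (ε = 1 ∨ ε = -1) ∧
      (∀ ψ ∈ Y, (charDegree (ψ : G → ℂ) : ℤ) ≡ ε * e [ZMOD p]) ∧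
      (∀ ψ ∈ Y, ε * (charDegree (ψ : G → ℂ) : ℤ) =
        ∑ χ ∈ X, s χ * (charDegree (χ : G → ℂ) : ℤ)) := by
  classical
  have hpp : p.Prime := Fact.out
  let _ : Fintype G := Fintype.ofFinite G
  let _ : Fintype ↥(P : Subgroup G) := Fintype.ofFinite _
  let _ : Fintype ↥(⊥ : Subgroup G) := Fintype.ofFinite _
  have hfin : Finite (↥(P : Subgroup G) →* ℂˣ) :=
    Cfsg.Agent.Lib.Helper25_AbDual.finite_hom (comm_of_card P hP)
  let _ : Fintype (↥(P : Subgroup G) →* ℂˣ) := Fintype.ofFinite _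
  have hV : IsPCompl P (⊥ : Subgroup G) := isPCompl_bot hP hC
  set θ : IrrCharacter ↥(⊥ : Subgroup G) := oneIrr ↥(⊥ : Subgroup G) with hθ
  -- the index `|N : C| = e`
  have hrel : (Subgroup.centralizer ((P : Subgroup G) : Set G)).relIndex (stab hV θ) = e := by
    rw [stab_bot hV, hC]
    have hle : (P : Subgroup G) ≤ Subgroup.normalizer ((P : Subgroup G) : Set G) :=
      Subgroup.le_normalizer
    have h1 := Subgroup.card_mul_index
      ((P : Subgroup G).subgroupOf (Subgroup.normalizer ((P : Subgroup G) : Set G)))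
    have h2 : Nat.card ((P : Subgroup G).subgroupOf
        (Subgroup.normalizer ((P : Subgroup G) : Set G))) = p := by
      rw [Nat.card_congr (Subgroup.subgroupOfEquivOfLe hle).toEquiv]
      exact hP
    rw [h2, he] at h1
    exact Nat.eq_of_mul_eq_mul_left hpp.pos h1
  obtain ⟨X, Y, εX, ε, hBXY, hdisj, hXc, hYc, hXp, hε, hYp, hYu, hYs⟩ :=
    gen_structure hP hV θ e hrel (Cfsg.Agent.Lib.Helper57_CTGen.ct_gen p P hP)
      (Cfsg.Agent.Lib.Helper74_H1V.h1V hP hV θ)
  have hp1 : 0 < p - 1 := by have := hpp.two_le; omega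
  have hepos : 0 < e := by
    rcases Nat.eq_zero_or_pos e with h | h
    · rw [h, zero_mul] at hYc
      omega
    · exact h
  have hYpos : 0 < Y.card := by
    rcases Nat.eq_zero_or_pos Y.card with h | h
    · rw [h, mul_zero] at hYc
      omega
    · exact h
  have helt : e < p := by
    have : e ≤ e * Y.card := Nat.le_mul_of_pos_right e hYpos
    omega
  -- degrees
  have hdeg : ∀ χ : IrrCharacter G, ((charDegree (χ : G → ℂ) : ℕ) : ℤ) = s1 hV θ χ := by
    intro χ
    have h1 := s1_cast hP hV θ χ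
    rw [sfun_bot, OneMemClass.coe_one, ← Cfsg.Agent.Lib.Helper16_BrauerFinal.charDegree_cast χ]
      at h1
    exact_mod_cast h1.symm
  have hpZ : ∀ n : ℕ, p ∣ n ↔ (p : ℤ) ∣ (n : ℤ) := fun n => (Int.natCast_dvd_natCast).symm
  have hXdeg : ∀ χ ∈ X, ((charDegree (χ : G → ℂ) : ℕ) : ℤ) ≡ εX χ [ZMOD p] := by
    intro χ hχ
    rw [hdeg]
    exact s1_X hP hV θ χ (εX χ) (hXp χ hχ).2
  have hYdeg : ∀ ψ ∈ Y, ((charDegree (ψ : G → ℂ) : ℕ) : ℤ) ≡ ε * e [ZMOD p] := by
    intro ψ hψ
    rw [hdeg]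
    exact s1_Y hV θ ψ ε e (hYp ψ hψ) (hYs ψ hψ)
  have hvanish : ∀ χ : IrrCharacter G, χ ∉ X → χ ∉ Y →
      ∀ h : ↥(P : Subgroup G), h ≠ 1 → sfun P (⊥ : Subgroup G) θ χ h = 0 := by
    intro χ hX hY h hh
    by_contra hne
    have : χ ∈ BGen P (⊥ : Subgroup G) θ := ⟨h, hh, hne⟩
    rcases (hBXY χ).1 this with h1 | h1
    · exact hX h1
    · exact hY h1
  have hnotdvd_pm : ∀ z : ℤ, (z = 1 ∨ z = -1) → ¬ (p : ℤ) ∣ z := by
    intro z hz hdvd
    have h2 : (p : ℤ) ∣ 1 := by
      rcases hz with rfl | rfl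
      · exact hdvd
      · exact (Int.dvd_neg).1 hdvd
    have h3 := Int.le_of_dvd one_pos h2
    have h4 : (2 : ℤ) ≤ p := by exact_mod_cast hpp.two_le
    omega
  refine ⟨X, Y, εX, ε, hdisj, hXc, hYc, ?_, fun χ hχ => ⟨(hXp χ hχ).1, hXdeg χ hχ⟩, hε,
    hYdeg, ?_⟩
  · intro χ
    constructor
    · intro hnd
      by_contra hcon
      push Not at hcon
      apply hnd
      rw [hpZ, hdeg]
      exact Int.modEq_zero_iff_dvd.1 (s1_zero hP hV θ χ (hvanish χ hcon.1 hcon.2))
    · rintro (hχ | hχ) hd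
      · rw [hpZ] at hd
        have h1 := (Int.ModEq.dvd_iff (hXdeg χ hχ)).1 hd
        exact hnotdvd_pm _ (hXp χ hχ).1 h1
      · rw [hpZ] at hd
        have h1 : (p : ℤ) ∣ ε * e := (Int.ModEq.dvd_iff (hYdeg χ hχ)).1 hd
        have h2 : (p : ℤ) ∣ (e : ℤ) := by
          rcases hε with rfl | rfl
          · rwa [one_mul] at h1
          · rw [neg_one_mul] at h1
            exact (Int.dvd_neg).1 h1
        have h3 : p ∣ e := (Int.natCast_dvd_natCast).1 h2
        exact absurd (Nat.le_of_dvd hepos h3) (by omega)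
  · intro ψ hψ
    have horth : ∀ h : ↥(P : Subgroup G), h ≠ 1 →
        ∑ χ ∈ X ∪ Y, sfun P (⊥ : Subgroup G) θ χ h * conj ((χ : G → ℂ) (1 : G)) = 0 := by
      intro h hh
      have hcol := Cfsg.Agent.Lib.Helper3_CharColumn.column_orthogonality (h : G) (1 : G)
      have hnc : ¬ IsConj (h : G) (1 : G) := by
        intro hc
        apply hh
        apply Subtype.ext
        exact isConj_one_left.1 hc
      rw [if_neg hnc] at hcol
      rw [← hcol]
      apply Finset.sum_subset_zero_on_sdiff (Finset.subset_univ _)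
      · intro χ hχ
        have hχ' : χ ∉ X ∪ Y := (Finset.mem_sdiff.1 hχ).2
        rw [Finset.mem_union, not_or] at hχ'
        have := hvanish χ hχ'.1 hχ'.2 h hh
        rw [sfun_bot] at this
        rw [this, zero_mul]
      · intro χ _
        rw [sfun_bot]
    have h1 := exceptional_reg hP hV θ e hepos X Y εX ε hdisj hXp hYp hYu hYs horth ψ hψ
    have hreal : ∀ χ : IrrCharacter G, conj ((χ : G → ℂ) (1 : G))
        = (((charDegree (χ : G → ℂ) : ℕ) : ℤ) : ℂ) := by
      intro χ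
      rw [Int.cast_natCast, ← Cfsg.Agent.Lib.Helper16_BrauerFinal.charDegree_cast χ,
        Complex.conj_natCast]
    rw [hreal ψ, Finset.sum_congr rfl (fun χ _ => by rw [hreal χ])] at h1
    exact_mod_cast h1

end main

end Cfsg.Agent.Lib.Helper85_M11_BR
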