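import Mathlib
import Cfsg.Agent.Lib.Helper17_ExcApply
import Cfsg.Agent.Lib.Helper85_M11_BR

/-!
# S0496: no simple group of order 756 (Brauer's theorem on blocks of defect one, `p = 7`, `e = 3`;
helper75)

`n_7 = 36`, `|N(P)| = 21`, `C(P) = P`.  The characters of degree prime to `7` are `1, χ₂, χ₃`
(degrees `≡ ±1`) and two exceptional ones of degree `y ≡ ±3`, with `ε y = 1 + s₂ χ₂(1) + s₃ χ₃(1)`.
Degrees divide `108`; the only possibilities `χᵢ(1) ∈ {6, 27}` (sign `-`) give `y ∈ {11, 32, 53}`,
none of which divides `108`.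
-/

set_option autoImplicit false

namespace Cfsg.Agent.Lib.Helper75_SM_N756

open Cfsg Cfsg.Agent.Lib.Helper17_Sylow Cfsg.Agent.Lib.Helper17_ExcApply
  Cfsg.Agent.Lib.Helper80_CharBasic Subgroup

/-- arithmetic: a nontrivial non-exceptional degree is `6` or `27` with sign `-1` -/
theorem deg_cases (d : ℕ) (s : ℤ) (hs : s = 1 ∨ s = -1) (h2 : 2 ≤ d) (hdvd : d ∣ 756)
    (hsq : 1 + d ^ 2 ≤ 756) (hcong : (d : ℤ) ≡ s [ZMOD 7]) : s = -1 ∧ (d = 6 ∨ d = 27) := by
  have hle : d ≤ 27 := by nlinarith
  unfold Int.ModEq at hcong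
  rcases hs with rfl | rfl
  · exfalso
    have h1 : (d : ℤ) % 7 = 1 := by omega
    interval_cases d <;> omega
  · refine ⟨rfl, ?_⟩
    have h1 : (d : ℤ) % 7 = 6 := by omega
    interval_cases d <;> omega

/-- No finite simple group has order 756 = 2^2 * 3^3 * 7. -/
theorem no_simple_756 {G : Type*} [Group G] [Finite G] [IsSimpleGroup G] : Nat.card G ≠ 756 := by
  intro hG
  classical
  cases nonempty_fintype G
  have hnc : ¬ IsMulCommutative G :=
    not_isMulCommutative_of_not_prime (by rw [hG]; norm_num)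
  have : Fact (Nat.Prime 7) := ⟨by norm_num⟩
  have hG7 : Nat.card G = 7 ^ 1 * 108 := by rw [hG]; norm_num
  have h7 : ¬ 7 ∣ 108 := by norm_num
  obtain ⟨P⟩ : Nonempty (Sylow 7 G) := inferInstance
  have hPcard : Nat.card (P : Subgroup G) = 7 := by
    have := card_sylow_eq_pow hG7 h7 P
    simpa using this
  have hn : Nat.card (Sylow 7 G) = 36 := by
    have hc : sylowCandidates 7 108 = [1, 36] := by decide
    have hmem := card_sylow_mem_candidates hG7 h7
    rw [hc] at hmem
    have hlt := one_lt_card_sylow_of_card hG7 h7 (by norm_num) (by norm_num)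
    simp only [List.mem_cons, List.not_mem_nil, or_false] at hmem
    omega
  have hN : Nat.card (normalizer ((P : Subgroup G) : Set G)) = 3 * 7 := by
    have := card_normalizer_mul_card_sylow P
    rw [hn, hG] at this
    omega
  have hCle := centralizer_le_of_card_normalizer P hPcard 3 Nat.prime_three hN
    (by rw [hG]; norm_num)
  have hcyc : IsCyclic (P : Subgroup G) := isCyclic_of_prime_card hPcard
  have hC : centralizer ((P : Subgroup G) : Set G) = (P : Subgroup G) :=
    le_antisymm hCle (le_centralizer_of_isCyclic (P : Subgroup G))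
  obtain ⟨X, Y, s, ε, hdisj, hXc, hYc, hXY, hX, hε, hYcong, hYrel⟩ :=
    Cfsg.Agent.Lib.Helper85_M11_BR.BR 7 P hPcard hC 3 (by rw [hN])
  -- the trivial character lies in X
  have h1deg : charDegree ((oneIrr G : IrrCharacter G) : G → ℂ) = 1 := deg_oneIrr (G := G)
  have h1mem : oneIrr G ∈ X := by
    rcases (hXY (oneIrr G)).mp (by rw [h1deg]; norm_num) with h | h
    · exact h
    · exfalso
      have := hYcong _ h
      rw [h1deg] at this
      unfold Int.ModEq at this
      rcases hε with rfl | rfl <;> omega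
  have hs1 : s (oneIrr G) = 1 := by
    obtain ⟨h1, h2⟩ := hX _ h1mem
    rw [h1deg] at h2
    unfold Int.ModEq at h2
    rcases h1 with h | h
    · exact h
    · rw [h] at h2; omega
  -- the other two members of X
  have herase : (X.erase (oneIrr G)).card = 2 := by
    rw [Finset.card_erase_of_mem h1mem, hXc]
  obtain ⟨a, b, hab, hXab⟩ := Finset.card_eq_two.mp herase
  have haX : a ∈ X.erase (oneIrr G) := by rw [hXab]; simp
  have hbX : b ∈ X.erase (oneIrr G) := by rw [hXab]; simp
  have ha1 : a ≠ oneIrr G := (Finset.mem_erase.mp haX).1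
  have hb1 : b ≠ oneIrr G := (Finset.mem_erase.mp hbX).1
  have haX' : a ∈ X := (Finset.mem_erase.mp haX).2
  have hbX' : b ∈ X := (Finset.mem_erase.mp hbX).2
  have hsum : ∑ χ ∈ X, s χ * (charDegree (χ : G → ℂ) : ℤ) =
      1 + s a * (charDegree (a : G → ℂ) : ℤ) + s b * (charDegree (b : G → ℂ) : ℤ) := by
    rw [← Finset.add_sum_erase X _ h1mem, hXab, Finset.sum_pair hab, hs1, h1deg]
    push_cast
    ring
  -- degree analysis
  have hA := deg_cases (deg a) (s a) (hX a haX').1 (two_le_deg_of_simple hnc a ha1)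
    (by have := deg_dvd_card a; rwa [hG] at this)
    (by have := one_add_sq_le a ha1; rwa [hG] at this) (hX a haX').2
  have hB := deg_cases (deg b) (s b) (hX b hbX').1 (two_le_deg_of_simple hnc b hb1)
    (by have := deg_dvd_card b; rwa [hG] at this)
    (by have := one_add_sq_le b hb1; rwa [hG] at this) (hX b hbX').2
  -- an exceptional character
  have hYne : Y.Nonempty := by
    rw [← Finset.card_pos]
    omega
  obtain ⟨ψ, hψ⟩ := hYne
  have hrel := hYrel ψ hψ
  rw [hsum] at hrel
  have hψdvd : deg ψ ∣ 756 := by have := deg_dvd_card ψ; rwa [hG] at this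
  have hψpos := deg_pos ψ
  unfold deg at hA hB hψdvd hψpos
  obtain ⟨hsa, hda⟩ := hA
  obtain ⟨hsb, hdb⟩ := hB
  rw [hsa, hsb] at hrel
  generalize charDegree (ψ : G → ℂ) = y at *
  generalize charDegree (a : G → ℂ) = da at *
  generalize charDegree (b : G → ℂ) = db at *
  have hy : y = 11 ∨ y = 32 ∨ y = 53 := by
    rcases hε with rfl | rfl <;> rcases hda with rfl | rfl <;> rcases hdb with rfl | rfl <;> omega
  rcases hy with rfl | rfl | rfl <;> omega

end Cfsg.Agent.Lib.Helper75_SM_N756
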