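import Mathlib
import Cfsg.Prelude.Def_Characters
import Cfsg.Prelude.Def_Blocks
import Cfsg.Agent.Lib.Helper17_ExcApply
import Cfsg.Agent.Lib.Helper16_M11_BR

/-!
# SO-720-DEG (helper76): a simple group of order 720 with self-centralizing Sylow 5-subgroups whose
normalizers have order 20 has an irreducible character of degree 4

Brauer's degree equation (`Helper16_M11_BR.BR`, `p = 5`, `e = 4`) leaves the degree patterns
`{1, 4, 4, 9, 16}` and `{1, 4, 6, 6, 9}` for the five characters of degree prime to 5.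
-/

set_option autoImplicit false
set_option maxRecDepth 100000

namespace Cfsg.Agent.Lib.Helper76_SO_720DEG

open Cfsg Cfsg.Agent.Lib.Helper17_ExcApply Cfsg.Agent.Lib.Helper3_CharComplete
  Cfsg.Agent.Lib.Helper80_CharBasic Subgroup

/-- the possible signed degrees -/
def signedDegs : List ℤ := [1, -4, 6, -9, 16, -24]

theorem pattern : ∀ a ∈ signedDegs, ∀ b ∈ signedDegs, ∀ c ∈ signedDegs, ∀ d ∈ signedDegs,
    ∀ e ∈ signedDegs, a + b + c + d + e = 0 → a ^ 2 + b ^ 2 + c ^ 2 + d ^ 2 + e ^ 2 ≤ 720 →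
    [a, b, c, d, e].count 1 = 1 → a = -4 ∨ b = -4 ∨ c = -4 ∨ d = -4 ∨ e = -4 := by
  decide +kernel

/-- a degree prime to 5 dividing 720, of square at most 720 and `≡ s (mod 5)`, `s = ±1` -/
theorem signed_mem (d : ℕ) (s : ℤ) (hs : s = 1 ∨ s = -1) (hd : d ∣ 720) (hsq : d ^ 2 ≤ 720)
    (hc : (d : ℤ) ≡ s [ZMOD 5]) : s * (d : ℤ) ∈ signedDegs ∧ (s * (d : ℤ) = 1 ↔ d = 1) ∧
      (s * (d : ℤ) = -4 ↔ d = 4) := by
  have hle : d ≤ 26 := by nlinarith
  have hpos : 0 < d := Nat.pos_of_dvd_of_pos hd (by norm_num)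
  unfold Int.ModEq at hc
  unfold signedDegs
  interval_cases d <;> rcases hs with rfl | rfl <;> first | omega | simp

variable {G : Type*} [Group G] [Finite G] [IsSimpleGroup G]

theorem exists_irr_deg_four (hG : ¬ IsMulCommutative G) [Fact (Nat.Prime 5)]
    (h : Nat.card G = 720) (P : Sylow 5 G) (hP : Nat.card (P : Subgroup G) = 5)
    (hC : centralizer ((P : Subgroup G) : Set G) = (P : Subgroup G))
    (hN : Nat.card (normalizer ((P : Subgroup G) : Set G)) = 20) :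
    ∃ χ : Cfsg.IrrCharacter G, Cfsg.charDegree (χ : G → ℂ) = 4 := by
  classical
  have : Fintype G := Fintype.ofFinite G
  obtain ⟨X, Y, s, ε, hdisj, hXc, hYc, hmem, hsX, hε, hcY, hrel⟩ :=
    Cfsg.Agent.Lib.Helper16_M11_BR.BR 5 P hP hC 4 (by rw [hN])
  have hYc' : Y.card = 1 := by omega
  obtain ⟨ψ, rfl⟩ := Finset.card_eq_one.mp hYc'
  -- the four members of X
  have hXne : X.Nonempty := by rw [← Finset.card_pos]; omega
  obtain ⟨a, haX⟩ := hXne
  have hXe : (X.erase a).card = 3 := by rw [Finset.card_erase_of_mem haX]; omega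
  obtain ⟨b, c, d, hbc, hbd, hcd, hXe'⟩ := Finset.card_eq_three.mp hXe
  have hXeq : X = insert a {b, c, d} := by rw [← hXe', Finset.insert_erase haX]
  have hanot : a ∉ ({b, c, d} : Finset (IrrCharacter G)) := by
    rw [← hXe']; exact Finset.notMem_erase a X
  have hab : a ≠ b := fun hh => hanot (by rw [hh]; simp)
  have hac : a ≠ c := fun hh => hanot (by rw [hh]; simp)
  have had : a ≠ d := fun hh => hanot (by rw [hh]; simp)
  have hbX : b ∈ X := by rw [hXeq]; simp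
  have hcX : c ∈ X := by rw [hXeq]; simp
  have hdX : d ∈ X := by rw [hXeq]; simp
  have hψX : ψ ∉ X := by
    intro hh
    exact (Finset.disjoint_left.mp hdisj hh) (Finset.mem_singleton_self ψ)
  have hψa : ψ ≠ a := fun hh => hψX (hh ▸ haX)
  have hψb : ψ ≠ b := fun hh => hψX (hh ▸ hbX)
  have hψc : ψ ≠ c := fun hh => hψX (hh ▸ hcX)
  have hψd : ψ ≠ d := fun hh => hψX (hh ▸ hdX)
  -- the relation
  have hrel' := hrel ψ (Finset.mem_singleton_self ψ)
  rw [hXeq, Finset.sum_insert hanot, Finset.sum_insert (by simp [hbc, hbd]),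
    Finset.sum_insert (by simp [hcd]), Finset.sum_singleton] at hrel'
  -- the sum of squares
  have hsq : deg a ^ 2 + deg b ^ 2 + deg c ^ 2 + deg d ^ 2 + deg ψ ^ 2 ≤ 720 := by
    rw [← h, ← sum_sq_deg]
    have hsub : ({a, b, c, d, ψ} : Finset (IrrCharacter G)) ⊆ Finset.univ := Finset.subset_univ _
    have h5 := Finset.sum_le_sum_of_subset (f := fun χ : IrrCharacter G => deg χ ^ 2) hsub
    rw [Finset.sum_insert (by simp [hab, hac, had, hψa.symm]),
      Finset.sum_insert (by simp [hbc, hbd, hψb.symm]),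
      Finset.sum_insert (by simp [hcd, hψc.symm]),
      Finset.sum_insert (by simp [hψd.symm]), Finset.sum_singleton] at h5
    linarith
  have hdvd : ∀ χ : IrrCharacter G, deg χ ∣ 720 := fun χ => by
    have := deg_dvd_card χ; rwa [h] at this
  have hsqa : deg a ^ 2 ≤ 720 := by nlinarith [sq_nonneg (deg b), sq_nonneg (deg c)]
  have hsqb : deg b ^ 2 ≤ 720 := by nlinarith [sq_nonneg (deg a), sq_nonneg (deg c)]
  have hsqc : deg c ^ 2 ≤ 720 := by nlinarith [sq_nonneg (deg a), sq_nonneg (deg b)]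
  have hsqd : deg d ^ 2 ≤ 720 := by nlinarith [sq_nonneg (deg a), sq_nonneg (deg b)]
  have hsqψ : deg ψ ^ 2 ≤ 720 := by nlinarith [sq_nonneg (deg a), sq_nonneg (deg b)]
  obtain ⟨hsa, hca⟩ := hsX a haX
  obtain ⟨hsb, hcb⟩ := hsX b hbX
  obtain ⟨hsc, hcc⟩ := hsX c hcX
  obtain ⟨hsd, hcd'⟩ := hsX d hdX
  have hcψ := hcY ψ (Finset.mem_singleton_self ψ)
  have hε' : -ε = 1 ∨ -ε = -1 := by rcases hε with rfl | rfl <;> simp
  have hcψ' : (deg ψ : ℤ) ≡ -ε [ZMOD 5] := by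
    have h5 : ε * ((4 : ℕ) : ℤ) ≡ -ε [ZMOD 5] := by
      rcases hε with rfl | rfl <;> decide
    exact hcψ.trans h5
  obtain ⟨ma, h1a, h4a⟩ := signed_mem (deg a) (s a) hsa (hdvd a) hsqa hca
  obtain ⟨mb, h1b, h4b⟩ := signed_mem (deg b) (s b) hsb (hdvd b) hsqb hcb
  obtain ⟨mc, h1c, h4c⟩ := signed_mem (deg c) (s c) hsc (hdvd c) hsqc hcc
  obtain ⟨md, h1d, h4d⟩ := signed_mem (deg d) (s d) hsd (hdvd d) hsqd hcd'
  obtain ⟨mψ, h1ψ, h4ψ⟩ := signed_mem (deg ψ) (-ε) hε' (hdvd ψ) hsqψ hcψ'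
  -- the trivial character is among the five
  have hone : oneIrr G ∈ X ∨ oneIrr G ∈ ({ψ} : Finset (IrrCharacter G)) := by
    rw [← hmem]
    have : charDegree ((oneIrr G : IrrCharacter G) : G → ℂ) = 1 := deg_oneIrr
    rw [this]; norm_num
  have hdeg1 : ∀ χ : IrrCharacter G, deg χ = 1 ↔ χ = oneIrr G := by
    intro χ
    constructor
    · intro h1
      by_contra hne
      have := two_le_deg_of_simple hG χ hne
      omega
    · rintro rfl
      exact deg_oneIrr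
  have hcount : [s a * (deg a : ℤ), s b * (deg b : ℤ), s c * (deg c : ℤ), s d * (deg d : ℤ),
      -ε * (deg ψ : ℤ)].count 1 = 1 := by
    simp only [List.count_cons, List.count_nil, beq_iff_eq, h1a, h1b, h1c, h1d, h1ψ, hdeg1]
    rw [hXeq] at hone
    simp only [Finset.mem_insert, Finset.mem_singleton] at hone
    rcases hone with (rfl | rfl | rfl | rfl) | rfl
    · simp [hab.symm, hac.symm, had.symm, hψa]
    · simp [hab, hbc.symm, hbd.symm, hψb]
    · simp [hac, hbc, hcd.symm, hψc]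
    · simp [had, hbd, hcd, hψd]
    · simp [hψa.symm, hψb.symm, hψc.symm, hψd.symm]
  have hsum : s a * (deg a : ℤ) + s b * (deg b : ℤ) + s c * (deg c : ℤ) + s d * (deg d : ℤ) +
      -ε * (deg ψ : ℤ) = 0 := by
    have : ε * (deg ψ : ℤ) = s a * (deg a : ℤ) + (s b * (deg b : ℤ) + (s c * (deg c : ℤ) +
        s d * (deg d : ℤ))) := hrel'
    linarith
  have hsq' : (s a * (deg a : ℤ)) ^ 2 + (s b * (deg b : ℤ)) ^ 2 + (s c * (deg c : ℤ)) ^ 2 +
      (s d * (deg d : ℤ)) ^ 2 + (-ε * (deg ψ : ℤ)) ^ 2 ≤ 720 := by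
    have e1 : ∀ (t : ℤ) (n : ℕ), (t = 1 ∨ t = -1) → (t * (n : ℤ)) ^ 2 = ((n ^ 2 : ℕ) : ℤ) := by
      intro t n ht
      rcases ht with rfl | rfl <;> push_cast <;> ring
    rw [e1 _ _ hsa, e1 _ _ hsb, e1 _ _ hsc, e1 _ _ hsd, e1 _ _ hε']
    exact_mod_cast hsq
  rcases pattern _ ma _ mb _ mc _ md _ mψ hsum hsq' hcount with h4 | h4 | h4 | h4 | h4
  · exact ⟨a, h4a.mp h4⟩
  · exact ⟨b, h4b.mp h4⟩
  · exact ⟨c, h4c.mp h4⟩
  · exact ⟨d, h4d.mp h4⟩
  · exact ⟨ψ, h4ψ.mp h4⟩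

end Cfsg.Agent.Lib.Helper76_SO_720DEG
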