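import Mathlib
import Cfsg.Prelude.Def_Characters
import Cfsg.Prelude.Def_Blocks
import Cfsg.Agent.Lib.Helper17_Sylow
import Cfsg.Agent.Lib.Helper47_SM_N720A
import Cfsg.Agent.Lib.Helper76_SO_720DEG
import Cfsg.Agent.S4508
import Cfsg.Agent.S0995

/-!
# S0496-N720 (helper76, package of helper75's S0496): no simple group of order 720

`n₅ = 36` and `C(P₅) = P₅` (helper47, N720A), so `|N(P₅)| = 20`.  Brauer's degree equation
(`Helper16_M11_BR.BR`, `e = 4`) forces an irreducible character of degree `4 = p - 1`
(`Helper76_SO_720DEG`).  By S0995 all elements of order 5 are conjugate (`t = 1`), so S4508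
(helper3: the determinant of a character of degree `p - 1` takes the value `-1` when `t` is odd)
gives a subgroup of index 2, although `G` is perfect.
-/

set_option autoImplicit false

namespace Cfsg.Agent.Lib.Helper76_SM_N720

open Cfsg Subgroup Cfsg.Agent.Lib.Helper17_Sylow
open scoped commutatorElement

theorem no_simple_720 {G : Type*} [Group G] [Finite G] [IsSimpleGroup G] : Nat.card G ≠ 720 := by
  intro h
  have : Fact (Nat.Prime 5) := ⟨by norm_num⟩
  have hG : ¬ IsMulCommutative G := not_isMulCommutative_of_not_prime (by rw [h]; norm_num)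
  obtain ⟨P⟩ : Nonempty (Sylow 5 G) := inferInstance
  obtain ⟨hn5, hC, -⟩ := Cfsg.Agent.Lib.Helper47_SM_N720A.n720_sylow_five h P
  have hP : Nat.card (P : Subgroup G) = 5 := by
    have := card_sylow_eq_pow (p := 5) (k := 1) (m := 144) (by rw [h]; norm_num) (by norm_num) P
    simpa using this
  have hN : Nat.card (normalizer ((P : Subgroup G) : Set G)) = 20 := by
    have := card_normalizer_mul_card_sylow P
    rw [hn5, h] at this
    omega
  have hperf : commutator G = ⊤ := by
    rcases (inferInstance : (commutator G).Normal).eq_bot_or_eq_top with h0 | h0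
    · exfalso
      apply hG
      have hcomm : ∀ a b : G, a * b = b * a := by
        intro a b
        have hm : ⁅a, b⁆ ∈ commutator G :=
          Subgroup.commutator_mem_commutator (Subgroup.mem_top a) (Subgroup.mem_top b)
        rw [h0, Subgroup.mem_bot, commutatorElement_eq_one_iff_mul_comm] at hm
        exact hm
      exact ⟨⟨hcomm⟩⟩
    · exact h0
  obtain ⟨χ, hχ⟩ := Cfsg.Agent.Lib.Helper76_SO_720DEG.exists_irr_deg_four hG h P hP hC hN
  -- a generator of P
  have hcyc : IsCyclic (P : Subgroup G) := isCyclic_of_prime_card hP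
  obtain ⟨x, hx⟩ := hcyc.exists_generator
  have hxo : orderOf (x : G) = 5 := by
    rw [Subgroup.orderOf_coe, orderOf_eq_card_of_forall_mem_zpowers hx, hP]
  have hPz : (P : Subgroup G) = zpowers (x : G) := sylow_eq_zpowers P hP x x.2 hxo
  obtain ⟨x0, hx0⟩ : ∃ x0 : G, x0 = (x : G) := ⟨_, rfl⟩
  rw [← hx0] at hxo hPz
  have hCx : centralizer ({x0} : Set G) = zpowers x0 := by
    have h1 : centralizer ((zpowers x0 : Subgroup G) : Set G) = centralizer ({x0} : Set G) := by
      rw [Subgroup.zpowers_eq_closure, Subgroup.centralizer_closure]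
    rw [← h1, ← hPz, hC]
  obtain ⟨n, t, ht, htd, hnp, hcard⟩ := Cfsg.Agent.S0995.result hperf 5 x0 hxo hCx
  have ht1 : t = 1 := by
    rw [h, ← hnp, hn5] at hcard
    omega
  have ht' : Nat.card {C : ConjClasses G // ∃ g ∈ C.carrier, orderOf g = 5} = t := by
    rw [ht]
    apply Nat.card_congr
    refine Equiv.subtypeEquivRight ?_
    intro c
    constructor
    · rintro ⟨g, hg, ho⟩
      exact ⟨g, ConjClasses.mem_carrier_iff_mk_eq.mp hg, ho⟩
    · rintro ⟨g, hg, ho⟩
      exact ⟨g, ConjClasses.mem_carrier_iff_mk_eq.mpr hg, ho⟩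
  rcases Cfsg.Agent.S4508.result 5 (by norm_num) x0 hxo hCx t ht' χ (by rw [hχ]) with he | he
  · rw [ht1] at he
    exact absurd he (by decide)
  · rw [hperf, Subgroup.index_top] at he
    exact absurd he (by decide)

end Cfsg.Agent.Lib.Helper76_SM_N720
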