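import Mathlib
import Cfsg.Agent.Lib.Helper17_Sylow
import Cfsg.Agent.Lib.Helper52_SM_TOOLS

/-!
# S0496 package N1080 (helper86, for architect helper75): no simple group of order 1080
-/

set_option autoImplicit false

namespace Cfsg.Agent.Lib.Helper86_SM_N1080

open Subgroup MulAction Cfsg.Agent.Lib.Helper17_Sylow Cfsg.Agent.Lib.Helper52_SM_TOOLS

theorem not_comm_1080 {G : Type*} [Group G] [Finite G] [IsSimpleGroup G]
    (hG : Nat.card G = 1080) : ¬ IsMulCommutative G := by
  apply not_isMulCommutative_of_not_prime
  rw [hG]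
  norm_num

theorem arith (c i n : ℕ) (hci : c * i = 40) (hn3 : n ∣ c) (hn1 : n % 3 = 1) (hn2 : 1 < n) :
    i = 10 ∨ i ≤ 5 := by
  have hi : i ∣ 40 := Dvd.intro_left _ hci
  have hile : i ≤ 40 := Nat.le_of_dvd (by norm_num) hi
  by_contra hcon
  push Not at hcon
  obtain ⟨h10, h5⟩ := hcon
  have hi3 : i = 8 ∨ i = 20 ∨ i = 40 := by
    interval_cases i
    all_goals omega
  have hc3 : c = 5 ∨ c = 2 ∨ c = 1 := by
    rcases hi3 with rfl | rfl | rfl
    · left; omega
    · right; left; omega
    · right; right; omega
  rcases hc3 with rfl | rfl | rfl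
  · have hnle : n ≤ 5 := Nat.le_of_dvd (by norm_num) hn3
    interval_cases n <;> omega
  · have hnle : n ≤ 2 := Nat.le_of_dvd (by norm_num) hn3
    interval_cases n
    omega
  · have hnle : n ≤ 1 := Nat.le_of_dvd (by norm_num) hn3
    omega

/-- Step A: an element of order 3 centralising a Sylow 5-subgroup -/
theorem exists_order_three {G : Type*} [Group G] [Finite G] [IsSimpleGroup G]
    (hG : Nat.card G = 1080) [Fact (Nat.Prime 5)] :
    ∃ (P : Sylow 5 G) (y : G), Nat.card (P : Subgroup G) = 5 ∧
      y ∈ centralizer ((P : Subgroup G) : Set G) ∧ orderOf y = 3 := by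
  have hnc := not_comm_1080 hG
  have hG5 : Nat.card G = 5 ^ 1 * 216 := by rw [hG]; norm_num
  have h216 : ¬ 5 ∣ 216 := by norm_num
  have hcand := card_sylow_mem_candidates hG5 h216
  have hlist : sylowCandidates 5 216 = [1, 6, 36, 216] := by decide
  rw [hlist] at hcand
  have h1 : 1 < Nat.card (Sylow 5 G) :=
    one_lt_card_sylow_of_card hG5 h216 (by norm_num) (by norm_num)
  simp only [List.mem_cons, List.mem_nil_iff, or_false] at hcand
  rcases hcand with h | h | h | h
  · omega
  · have hfac := two_mul_card_dvd_factorial_card_sylow hnc h1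
    rw [h, hG] at hfac
    have := Nat.le_of_dvd (by decide) hfac
    simp [Nat.factorial] at this
  · obtain ⟨P⟩ : Nonempty (Sylow 5 G) := inferInstance
    have hP : Nat.card (P : Subgroup G) = 5 := by
      have := card_sylow_eq_pow hG5 h216 P
      rwa [pow_one] at this
    have hN : Nat.card (normalizer ((P : Subgroup G) : Set G)) = 30 := by
      have := card_normalizer_mul_card_sylow P
      rw [h, hG] at this
      omega
    have hrel := relIndex_centralizer_normalizer_dvd_pred (P : Subgroup G) hP
    have hcn := card_mul_relIndex_of_le (centralizer_le_normalizer ((P : Subgroup G) : Set G))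
    rw [hN] at hcn
    set r := (centralizer ((P : Subgroup G) : Set G)).relIndex
      (normalizer ((P : Subgroup G) : Set G)) with hr
    have hr4 : r ∣ 4 := hrel
    have hr30 : r ∣ 30 := Dvd.intro_left _ hcn
    have hr2 : r ∣ 2 := by
      have := Nat.dvd_gcd hr4 hr30
      norm_num at this
      exact this
    have h3 : 3 ∣ Nat.card (centralizer ((P : Subgroup G) : Set G)) := by
      have hle : r ≤ 2 := Nat.le_of_dvd (by norm_num) hr2
      have hpos : 0 < r := Nat.pos_of_dvd_of_pos hr2 (by norm_num)
      interval_cases r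
      · omega
      · omega
    have : Fact (Nat.Prime 3) := ⟨Nat.prime_three⟩
    obtain ⟨x, hx⟩ := exists_prime_orderOf_dvd_card' 3 h3
    refine ⟨P, (x : G), hP, x.2, ?_⟩
    rw [Subgroup.orderOf_coe, hx]
  · exfalso
    have := not_coprime_of_simple hG5 h216 (by norm_num)
    rw [h] at this
    exact this (by decide)

/-- Step B: a subgroup of index 10 -/
theorem exists_index_ten {G : Type*} [Group G] [Finite G] [IsSimpleGroup G]
    (hG : Nat.card G = 1080) : ∃ H : Subgroup G, H.index = 10 := by
  have : Fact (Nat.Prime 3) := ⟨Nat.prime_three⟩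
  have hnc := not_comm_1080 hG
  have hG3 : Nat.card G = 3 ^ 3 * 40 := by rw [hG]; norm_num
  have h40 : ¬ 3 ∣ 40 := by norm_num
  have hcand := card_sylow_mem_candidates hG3 h40
  have hlist : sylowCandidates 3 40 = [1, 4, 10, 40] := by decide
  rw [hlist] at hcand
  have h1 : 1 < Nat.card (Sylow 3 G) :=
    one_lt_card_sylow_of_card hG3 h40 (by norm_num) (by norm_num)
  have kill : ∀ (K : Subgroup G), K ≠ ⊤ → K.index ≤ 5 → False := by
    intro K hK hle
    have hf := two_mul_card_dvd_factorial_index hnc K hK
    have h5 : (K.index).factorial ∣ (5).factorial := Nat.factorial_dvd_factorial hle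
    have := Nat.le_of_dvd (by decide) (hf.trans h5)
    rw [hG] at this
    simp [Nat.factorial] at this
  simp only [List.mem_cons, List.mem_nil_iff, or_false] at hcand
  obtain ⟨P⟩ : Nonempty (Sylow 3 G) := inferInstance
  rcases hcand with h | h | h | h
  · omega
  · exfalso
    have h' : (normalizer ((P : Subgroup G) : Set G)).index = 4 := by
      rw [← h]; exact (Sylow.card_eq_index_normalizer P).symm
    refine kill (normalizer ((P : Subgroup G) : Set G)) ?_ (by omega)
    intro ht
    rw [ht, index_top] at h'
    omega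
  · have h' : (normalizer ((P : Subgroup G) : Set G)).index = 10 := by
      rw [← h]; exact (Sylow.card_eq_index_normalizer P).symm
    exact ⟨_, h'⟩
  · -- forty Sylow 3-subgroups
    have hmod : ¬ Nat.card (Sylow 3 G) ≡ 1 [MOD 3 ^ 2] := by rw [h]; decide
    obtain ⟨R, hRP, hle⟩ := exists_sylow_relIndex_le 3 2 hmod P
    have hPcard : Nat.card (P : Subgroup G) = 27 := by
      have := card_sylow_eq_pow hG3 h40 P
      norm_num at this
      exact this
    have hRcard : Nat.card (R : Subgroup G) = 27 := by
      have := card_sylow_eq_pow hG3 h40 R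
      norm_num at this
      exact this
    set D : Subgroup G := (P : Subgroup G) ⊓ (R : Subgroup G) with hD
    have hDP : D ≤ (P : Subgroup G) := inf_le_left
    have hDR : D ≤ (R : Subgroup G) := inf_le_right
    have hnotle : ¬ (P : Subgroup G) ≤ (R : Subgroup G) := by
      intro hle'
      apply hRP
      symm
      apply Sylow.ext
      apply Subgroup.eq_of_le_of_card_ge hle'
      rw [hPcard, hRcard]
    have hrel : D.relIndex (P : Subgroup G) = (R : Subgroup G).relIndex (P : Subgroup G) := by
      rw [hD, inf_comm, Subgroup.inf_relIndex_right]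
    have hcP := card_mul_relIndex_of_le hDP
    have hcR := card_mul_relIndex_of_le hDR
    rw [hPcard] at hcP
    rw [hRcard] at hcR
    have hrelP : D.relIndex (P : Subgroup G) = 3 := by
      have hne1 : D.relIndex (P : Subgroup G) ≠ 1 := by
        rw [hrel]
        intro h1'
        exact hnotle (Subgroup.relIndex_eq_one.mp h1')
      have hle3 : D.relIndex (P : Subgroup G) ≤ 3 := by
        rw [hrel]; simpa using hle
      have hdvd : D.relIndex (P : Subgroup G) ∣ 27 := Dvd.intro_left _ hcP
      have hpos : 0 < D.relIndex (P : Subgroup G) := Nat.pos_of_dvd_of_pos hdvd (by norm_num)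
      interval_cases hh : D.relIndex (P : Subgroup G)
      · exact absurd rfl hne1
      · norm_num at hdvd
      · rfl
    have hDcard : Nat.card D = 9 := by
      rw [hrelP] at hcP
      omega
    have hrelR : D.relIndex (R : Subgroup G) = 3 := by
      rw [hDcard] at hcR
      omega
    -- `P` and `R` normalise `D`
    have hnP : (D.subgroupOf (P : Subgroup G)).Normal := by
      apply Subgroup.normal_of_index_eq_minFac_card
      show D.relIndex (P : Subgroup G) = _
      rw [hrelP, hPcard]
      norm_num
    have hnR : (D.subgroupOf (R : Subgroup G)).Normal := by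
      apply Subgroup.normal_of_index_eq_minFac_card
      show D.relIndex (R : Subgroup G) = _
      rw [hrelR, hRcard]
      norm_num
    set Nm : Subgroup G := normalizer (D : Set G) with hNm
    have hPN : (P : Subgroup G) ≤ Nm := le_normalizer_of_normal_subgroupOf hDP
    have hRN : (R : Subgroup G) ≤ Nm := le_normalizer_of_normal_subgroupOf hDR
    -- Sylow theory inside `Nm`
    set P' : Sylow 3 ↥Nm := P.subtype hPN with hP'
    set R' : Sylow 3 ↥Nm := R.subtype hRN with hR'
    have hne' : P' ≠ R' := by
      intro heq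
      have h1' : (P : Subgroup G).subgroupOf Nm = (R : Subgroup G).subgroupOf Nm := by
        have := congrArg (fun S : Sylow 3 ↥Nm => (S : Subgroup ↥Nm)) heq
        simpa [hP', hR', Sylow.coe_subtype] using this
      rw [Subgroup.subgroupOf_inj, inf_of_le_left hPN, inf_of_le_left hRN] at h1'
      exact hRP (Sylow.ext h1').symm
    set n := Nat.card (Sylow 3 ↥Nm) with hn
    have hn1 : n ≡ 1 [MOD 3] := card_sylow_modEq_one 3 ↥Nm
    have hn2 : 1 < n := by
      have : Nontrivial (Sylow 3 ↥Nm) := ⟨⟨P', R', hne'⟩⟩
      exact Finite.one_lt_card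
    set c := (P : Subgroup G).relIndex Nm with hc
    have hn3 : n ∣ c := by
      have := Sylow.card_dvd_index P'
      rwa [hP', Sylow.coe_subtype] at this
    have hcN := card_mul_relIndex_of_le hPN
    rw [hPcard, ← hc] at hcN
    have hidx := Subgroup.card_mul_index Nm
    rw [hG, ← hcN] at hidx
    have hci : c * Nm.index = 40 := by
      have : 27 * (c * Nm.index) = 27 * 40 := by rw [← mul_assoc, hidx]
      exact Nat.eq_of_mul_eq_mul_left (by norm_num) this
    have hn1' : n % 3 = 1 := hn1
    have hcases : Nm.index = 10 ∨ Nm.index ≤ 5 := arith c Nm.index n hci hn3 hn1' hn2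
    rcases hcases with h10 | h5
    · exact ⟨Nm, h10⟩
    · exfalso
      by_cases htop : Nm = ⊤
      · have hDn : D.Normal := normalizer_eq_top_iff.mp htop
        rcases hDn.eq_bot_or_eq_top with hb | ht
        · rw [hb, Subgroup.card_bot] at hDcard
          omega
        · rw [ht, Subgroup.card_top, hG] at hDcard
          omega
      · exact kill Nm htop h5

/-- Step C: the contradiction -/
theorem no_simple_1080 {G : Type*} [Group G] [Finite G] [IsSimpleGroup G] : Nat.card G ≠ 1080 := by
  intro hG
  have h5 : Fact (Nat.Prime 5) := ⟨by norm_num⟩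
  have h3 : Fact (Nat.Prime 3) := ⟨Nat.prime_three⟩
  obtain ⟨P, y, hPcard, hyC, hy3⟩ := exists_order_three hG
  obtain ⟨H, hH⟩ := exists_index_ten hG
  have hHcard : Nat.card H = 108 := by
    have := Subgroup.card_mul_index H
    rw [hH, hG] at this
    omega
  have hΩ : Nat.card (G ⧸ H) = 10 := by rw [← Subgroup.index_eq_card, hH]
  -- `P` has no fixed point
  have hnofix : ∀ a : G ⧸ H, ¬ ∀ g ∈ (P : Subgroup G), g • a = a := by
    intro a hfix
    obtain ⟨x, rfl⟩ := QuotientGroup.mk_surjective a
    -- an element of order 5 in `P`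
    have hP1 : 1 < Nat.card (P : Subgroup G) := by rw [hPcard]; norm_num
    obtain ⟨g, hg1⟩ : ∃ g : (P : Subgroup G), g ≠ 1 := by
      have : Nontrivial (P : Subgroup G) := Finite.one_lt_card_iff_nontrivial.mp hP1
      exact exists_ne 1
    have hgo : orderOf (g : G) = 5 := by
      have hd : orderOf g ∣ 5 := by
        have := orderOf_dvd_natCard g
        rwa [hPcard] at this
      rw [Subgroup.orderOf_coe]
      rcases (Nat.dvd_prime h5.out).mp hd with h | h
      · exact absurd (orderOf_eq_one_iff.mp h) hg1
      · exact h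
    have hmem : x⁻¹ * (g : G) * x ∈ H := by
      have := hfix (g : G) g.2
      rw [MulAction.Quotient.smul_mk, eq_comm, QuotientGroup.eq] at this
      simpa [mul_assoc] using this
    have hord : orderOf (x⁻¹ * (g : G) * x) = 5 := by
      have : x⁻¹ * (g : G) * x = MulAut.conj x⁻¹ (g : G) := by simp
      rw [this, MulEquiv.orderOf_eq, hgo]
    have hdvd : 5 ∣ Nat.card H := by
      rw [← hord]
      exact Subgroup.orderOf_dvd_natCard H hmem
    rw [hHcard] at hdvd
    norm_num at hdvd
  -- the fixed points of `y`
  set f := Nat.card (MulAction.fixedBy (G ⧸ H) y) with hf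
  have hf5 : f ≡ 0 [MOD 5] := by
    have hcomm : ∀ g ∈ (P : Subgroup G), g * y = y * g := by
      intro g hg
      exact hyC g hg
    have h := card_fixedBy_modEq_of_commute (X := G ⧸ H) (P : Subgroup G) P.isPGroup' y hcomm
    have hempty : Nat.card {a : G ⧸ H // y • a = a ∧ ∀ g ∈ (P : Subgroup G), g • a = a} = 0 := by
      have : IsEmpty {a : G ⧸ H // y • a = a ∧ ∀ g ∈ (P : Subgroup G), g • a = a} :=
        ⟨fun a => hnofix a.1 a.2.2⟩
      exact Nat.card_of_isEmpty
    rwa [hempty] at h
  have hf3 : Nat.card (G ⧸ H) ≡ f [MOD 3] := by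
    have hpg : IsPGroup 3 (zpowers y) := by
      apply IsPGroup.of_card (n := 1)
      rw [Nat.card_zpowers, hy3, pow_one]
    have h := card_fixedBy_modEq_of_commute (X := G ⧸ H) (zpowers y) hpg (1 : G)
      (by intro g _; rw [mul_one, one_mul])
    have e1 : Nat.card (MulAction.fixedBy (G ⧸ H) (1 : G)) = Nat.card (G ⧸ H) := by
      apply Nat.card_congr
      exact (Equiv.subtypeUnivEquiv (fun a => by simp))
    have e2 : Nat.card {a : G ⧸ H // (1 : G) • a = a ∧ ∀ g ∈ zpowers y, g • a = a} = f := by
      rw [hf]
      apply Nat.card_congr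
      apply Equiv.subtypeEquivRight
      intro a
      rw [MulAction.mem_fixedBy]
      constructor
      · intro h'
        exact h'.2 y (mem_zpowers y)
      · intro h'
        refine ⟨one_smul _ _, ?_⟩
        intro g hg
        have h3' : zpowers y ≤ MulAction.stabilizer G a :=
          (zpowers_le).2 (MulAction.mem_stabilizer_iff.2 h')
        exact MulAction.mem_stabilizer_iff.1 (h3' hg)
    rwa [e1, e2] at h
  have hfle : f ≤ 10 := by
    rw [← hΩ, hf]
    exact Finite.card_subtype_le _
  have hf10 : f = 10 := by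
    rw [hΩ] at hf3
    have h1 : 10 % 3 = f % 3 := hf3
    have h2 : f % 5 = 0 % 5 := hf5
    omega
  -- `y` acts trivially
  have hall : ∀ a : G ⧸ H, y • a = a := by
    intro a
    by_contra hne
    have hlt : Nat.card {a : G ⧸ H // y • a = a} < Nat.card (G ⧸ H) := Finite.card_subtype_lt hne
    have e : Nat.card {a : G ⧸ H // y • a = a} = f := rfl
    rw [e, hΩ, hf10] at hlt
    exact lt_irrefl _ hlt
  have hX : ∃ (g : G) (a : G ⧸ H), g • a ≠ a := by
    have hne : H ≠ ⊤ := by
      intro ht
      rw [ht, index_top] at hH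
      norm_num at hH
    obtain ⟨g, hg⟩ : ∃ g : G, g ∉ H := by
      by_contra hno
      push Not at hno
      exact hne ((Subgroup.eq_top_iff' H).mpr hno)
    refine ⟨g, ((1 : G) : G ⧸ H), ?_⟩
    rw [MulAction.Quotient.smul_mk, Ne, QuotientGroup.eq]
    intro hmem
    apply hg
    have : (g • (1 : G))⁻¹ * 1 = g⁻¹ := by simp
    rw [this] at hmem
    exact (Subgroup.inv_mem_iff H).mp hmem
  have hy1 : y = 1 := eq_one_of_forall_smul_eq hX y hall
  rw [hy1, orderOf_one] at hy3
  norm_num at hy3

end Cfsg.Agent.Lib.Helper86_SM_N1080
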