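import Mathlib
import Cfsg.Agent.Lib.Helper17_Sylow

/-!
# S0496 package N480 (helper86, for architect helper75): no simple group of order 480 or 960
-/

set_option autoImplicit false

namespace Cfsg.Agent.Lib.Helper86_SM_N480

open Subgroup Cfsg.Agent.Lib.Helper17_Sylow

/-- no simple group has order `2 ^ a * 15` with `a ≥ 5` -/
theorem no_simple_two_pow_mul_fifteen {G : Type*} [Group G] [Finite G] [IsSimpleGroup G] (a : ℕ)
    (ha : 5 ≤ a) : Nat.card G ≠ 2 ^ a * 15 := by
  intro hG
  have : Fact (Nat.Prime 2) := ⟨Nat.prime_two⟩
  have h15 : ¬ 2 ∣ 15 := by norm_num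
  have h32 : 32 ≤ 2 ^ a := by
    calc 32 = 2 ^ 5 := by norm_num
      _ ≤ 2 ^ a := Nat.pow_le_pow_right (by norm_num) ha
  have hbig : 480 ≤ Nat.card G := by rw [hG]; omega
  have hnp : ¬ (Nat.card G).Prime := by
    rw [hG]
    apply Nat.not_prime_mul (by omega) (by norm_num)
  have hnc : ¬ IsMulCommutative G := not_isMulCommutative_of_not_prime hnp
  have hcand := card_sylow_mem_candidates hG h15
  have hlist : sylowCandidates 2 15 = [1, 3, 5, 15] := by decide
  rw [hlist] at hcand
  have h1 : 1 < Nat.card (Sylow 2 G) :=
    one_lt_card_sylow_of_card hG h15 (by omega) (by norm_num)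
  have hfac := two_mul_card_dvd_factorial_card_sylow hnc h1
  simp only [List.mem_cons, List.mem_nil_iff, or_false] at hcand
  rcases hcand with h | h | h | h
  · omega
  · rw [h] at hfac
    have := Nat.le_of_dvd (by decide) hfac
    simp [Nat.factorial] at this
    omega
  · rw [h] at hfac
    have := Nat.le_of_dvd (by decide) hfac
    simp [Nat.factorial] at this
    omega
  · -- fifteen Sylow 2-subgroups
    obtain ⟨P⟩ : Nonempty (Sylow 2 G) := inferInstance
    have hmod : ¬ Nat.card (Sylow 2 G) ≡ 1 [MOD 2 ^ 2] := by rw [h]; decide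
    obtain ⟨R, hRP, hle⟩ := exists_sylow_relIndex_le 2 2 hmod P
    have hPcard : Nat.card (P : Subgroup G) = 2 ^ a := card_sylow_eq_pow hG h15 P
    have hRcard : Nat.card (R : Subgroup G) = 2 ^ a := card_sylow_eq_pow hG h15 R
    set D : Subgroup G := (P : Subgroup G) ⊓ (R : Subgroup G) with hD
    have hDP : D ≤ (P : Subgroup G) := inf_le_left
    have hDR : D ≤ (R : Subgroup G) := inf_le_right
    have hnotle : ¬ (P : Subgroup G) ≤ (R : Subgroup G) := by
      intro hle'
      apply hRP
      symm
      apply Sylow.ext
      apply Subgroup.eq_of_le_of_card_ge hle'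
      rw [hPcard, hRcard]
    have hnotle' : ¬ (R : Subgroup G) ≤ (P : Subgroup G) := by
      intro hle'
      apply hRP
      apply Sylow.ext
      apply Subgroup.eq_of_le_of_card_ge hle'
      rw [hPcard, hRcard]
    have hrel : D.relIndex (P : Subgroup G) = (R : Subgroup G).relIndex (P : Subgroup G) := by
      rw [hD, inf_comm, Subgroup.inf_relIndex_right]
    have hcP := card_mul_relIndex_of_le hDP
    have hcR := card_mul_relIndex_of_le hDR
    have hrelP : D.relIndex (P : Subgroup G) = 2 := by
      have hne1 : D.relIndex (P : Subgroup G) ≠ 1 := by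
        rw [hrel]
        intro h1'
        exact hnotle (Subgroup.relIndex_eq_one.mp h1')
      have hne0 : D.relIndex (P : Subgroup G) ≠ 0 := by
        intro h0
        rw [h0, mul_zero, hPcard] at hcP
        exact (pow_pos (by norm_num : 0 < 2) a).ne hcP
      have hle2 : D.relIndex (P : Subgroup G) ≤ 2 := by
        rw [hrel]; simpa using hle
      omega
    have hDcard : Nat.card D * 2 = 2 ^ a := by
      rw [hrelP] at hcP
      rw [hcP, hPcard]
    have hrelR : D.relIndex (R : Subgroup G) = 2 := by
      have hDpos : 0 < Nat.card D := Nat.card_pos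
      rw [hRcard, ← hDcard] at hcR
      exact Nat.eq_of_mul_eq_mul_left hDpos hcR
    -- `P` and `R` normalise `D`
    have hnP : (D.subgroupOf (P : Subgroup G)).Normal :=
      Subgroup.normal_of_index_eq_two hrelP
    have hnR : (D.subgroupOf (R : Subgroup G)).Normal :=
      Subgroup.normal_of_index_eq_two hrelR
    set Nm : Subgroup G := normalizer (D : Set G) with hNm
    have hPN : (P : Subgroup G) ≤ Nm := le_normalizer_of_normal_subgroupOf hDP
    have hRN : (R : Subgroup G) ≤ Nm := le_normalizer_of_normal_subgroupOf hDR
    have hPidx : (P : Subgroup G).index = 15 := index_sylow_eq hG h15 P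
    have hdvd : Nm.index ∣ 15 := by
      rw [← hPidx]; exact Subgroup.index_dvd_of_le hPN
    have hne15 : Nm.index ≠ 15 := by
      intro h15'
      apply hnotle'
      have hcard : Nat.card Nm = Nat.card (P : Subgroup G) := by
        have e1 := Subgroup.card_mul_index Nm
        have e2 := Subgroup.card_mul_index (P : Subgroup G)
        rw [h15'] at e1
        rw [hPidx] at e2
        omega
      have hPeq : (P : Subgroup G) = Nm := Subgroup.eq_of_le_of_card_ge hPN (le_of_eq hcard)
      rw [hPeq]
      exact hRN
    have hle15 : Nm.index ≤ 15 := Nat.le_of_dvd (by norm_num) hdvd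
    have hidx : Nm.index = 1 ∨ Nm.index = 3 ∨ Nm.index = 5 := by
      interval_cases hh : Nm.index <;> simp_all
    rcases hidx with hi | hi | hi
    · -- `D` is normal
      have htop : Nm = ⊤ := Subgroup.index_eq_one.mp hi
      have hDn : D.Normal := normalizer_eq_top_iff.mp htop
      rcases hDn.eq_bot_or_eq_top with hb | ht
      · rw [hb, Subgroup.card_bot] at hDcard
        omega
      · rw [ht, Subgroup.card_top, hG] at hDcard
        omega
    · have hne : Nm ≠ ⊤ := by
        intro ht
        rw [ht, Subgroup.index_top] at hi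
        omega
      have hf := two_mul_card_dvd_factorial_index hnc Nm hne
      rw [hi] at hf
      have := Nat.le_of_dvd (by decide) hf
      simp [Nat.factorial] at this
      omega
    · have hne : Nm ≠ ⊤ := by
        intro ht
        rw [ht, Subgroup.index_top] at hi
        omega
      have hf := two_mul_card_dvd_factorial_index hnc Nm hne
      rw [hi] at hf
      have := Nat.le_of_dvd (by decide) hf
      simp [Nat.factorial] at this
      omega

theorem no_simple_480 {G : Type*} [Group G] [Finite G] [IsSimpleGroup G] : Nat.card G ≠ 480 := by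
  have := no_simple_two_pow_mul_fifteen (G := G) 5 le_rfl
  norm_num at this
  exact this

theorem no_simple_960 {G : Type*} [Group G] [Finite G] [IsSimpleGroup G] : Nat.card G ≠ 960 := by
  have := no_simple_two_pow_mul_fifteen (G := G) 6 (by norm_num)
  norm_num at this
  exact this

end Cfsg.Agent.Lib.Helper86_SM_N480
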