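import Mathlib
import Cfsg.Agent.Lib.Helper75_SM_E0
import Cfsg.Agent.Lib.Helper75_SM_E1
import Cfsg.Agent.Lib.Helper75_SM_E2
import Cfsg.Agent.Lib.Helper75_SM_E3
import Cfsg.Agent.Lib.Helper75_SM_E4
import Cfsg.Agent.Lib.Helper75_SM_E5
import Cfsg.Agent.Lib.Helper75_SM_E6
import Cfsg.Agent.Lib.Helper75_SM_E7
import Cfsg.Agent.Lib.Helper75_SM_E8
import Cfsg.Agent.Lib.Helper75_SM_E9
import Cfsg.Agent.Lib.Helper75_SM_Exc
import Cfsg.Agent.Lib.Helper75_SM_N756
import Cfsg.Agent.Lib.Helper25_SM_N1008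
import Cfsg.Agent.Lib.Helper52_SM_N420
import Cfsg.Agent.Lib.Helper76_SM_N720
import Cfsg.Agent.Lib.Helper86_SM_N1080
import Cfsg.Agent.Lib.Helper86_SM_N480

/-!
# S0496: a non-abelian simple group of order at most 1092 has order 60, 168, 360, 504, 660 or 1092
(assembly; helper75)
-/

set_option autoImplicit false

namespace Cfsg.Agent.Lib.Helper75_SM_Main

open Cfsg.Agent.Lib.Helper75_SM_Base

theorem main {G : Type*} [Group G] [Finite G] [IsSimpleGroup G]
    (hG : ¬ IsMulCommutative G) (h : Nat.card G ≤ 1092) :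
    Nat.card G = 60 ∨ Nat.card G = 168 ∨ Nat.card G = 360 ∨ Nat.card G = 504 ∨ Nat.card G = 660 ∨
      Nat.card G = 1092 := by
  obtain ⟨n, hn⟩ : ∃ n, Nat.card G = n := ⟨_, rfl⟩
  by_cases h100 : n ≤ 100
  · left
    exact Cfsg.Agent.S0493.result (not_cyclic hG) (by rw [hn]; exact h100)
  rw [hn] at h ⊢
  by_cases c0 : n ≤ 200
  · have hc := Cfsg.Agent.Lib.Helper75_SM_E0.chunk hG n hn (by omega) c0
    omega
  by_cases c1 : n ≤ 300
  · have hc := Cfsg.Agent.Lib.Helper75_SM_E1.chunk hG n hn (by omega) c1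
    exact hc.elim
  by_cases c2 : n ≤ 400
  · have hc := Cfsg.Agent.Lib.Helper75_SM_E2.chunk hG n hn (by omega) c2
    omega
  by_cases c3 : n ≤ 500
  · have hc := Cfsg.Agent.Lib.Helper75_SM_E3.chunk hG n hn (by omega) c3
    rcases hc with hc | hc
    · exact absurd (hn.trans hc) Cfsg.Agent.Lib.Helper52_SM_N420.no_simple_420
    · exact absurd (hn.trans hc) Cfsg.Agent.Lib.Helper86_SM_N480.no_simple_480
  by_cases c4 : n ≤ 600
  · have hc := Cfsg.Agent.Lib.Helper75_SM_E4.chunk hG n hn (by omega) c4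
    omega
  by_cases c5 : n ≤ 700
  · have hc := Cfsg.Agent.Lib.Helper75_SM_E5.chunk hG n hn (by omega) c5
    rcases hc with hc | hc
    · exact absurd (hn.trans hc) Cfsg.Agent.Lib.Helper75_SM_Exc.no_simple_612
    · omega
  by_cases c6 : n ≤ 800
  · have hc := Cfsg.Agent.Lib.Helper75_SM_E6.chunk hG n hn (by omega) c6
    rcases hc with hc | hc
    · exact absurd (hn.trans hc) Cfsg.Agent.Lib.Helper76_SM_N720.no_simple_720
    · exact absurd (hn.trans hc) Cfsg.Agent.Lib.Helper75_SM_N756.no_simple_756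
  by_cases c7 : n ≤ 900
  · have hc := Cfsg.Agent.Lib.Helper75_SM_E7.chunk hG n hn (by omega) c7
    exact absurd (hn.trans hc) Cfsg.Agent.Lib.Helper52_SM_N420.no_simple_840
  by_cases c8 : n ≤ 1000
  · have hc := Cfsg.Agent.Lib.Helper75_SM_E8.chunk hG n hn (by omega) c8
    exact absurd (hn.trans hc) Cfsg.Agent.Lib.Helper86_SM_N480.no_simple_960
  by_cases c9 : n ≤ 1092
  · have hc := Cfsg.Agent.Lib.Helper75_SM_E9.chunk hG n hn (by omega) c9
    rcases hc with hc | hc | hc | hc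
    · exact absurd (hn.trans hc) Cfsg.Agent.Lib.Helper25_SM_N1008.no_simple_1008
    · exact absurd (hn.trans hc) Cfsg.Agent.Lib.Helper75_SM_Exc.no_simple_1040
    · exact absurd (hn.trans hc) Cfsg.Agent.Lib.Helper86_SM_N1080.no_simple_1080
    · omega
  omega

end Cfsg.Agent.Lib.Helper75_SM_Main
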