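import Mathlib
import Cfsg.Prelude.Def_Characters
import Cfsg.Prelude.Def_Blocks
import Cfsg.Agent.Lib.Helper85_M11_BR
import Cfsg.Agent.Lib.Helper17_ExcApply

/-!
# SO-720-VAL (helper75, for helper76's S0496-N720): values on `P \ 1` of the characters of
`p'`-degree when `|P| = p`, `C_G(P) = P`, `|N_G(P)| = p (p - 1)`.

`BRV`: every irreducible character of degree prime to `p` is constant `σ = ± 1` on `P \ 1`, with
`χ(1) ≡ σ (mod p)` (helper16's `gen_structure` with `V = ⊥`, `e = p - 1`).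
-/

set_option autoImplicit false

namespace Cfsg.Agent.Lib.Helper75_SO_720VAL

open Cfsg Cfsg.Agent.Lib.Helper16_BrauerSetup Cfsg.Agent.Lib.Helper16_BrauerMain
  Cfsg.Agent.Lib.Helper16_GenSetup Cfsg.Agent.Lib.Helper16_GenK Cfsg.Agent.Lib.Helper16_GenMain
  Cfsg.Agent.Lib.Helper16_GenFinal Cfsg.Agent.Lib.Helper80_CharBasic
  Cfsg.Agent.Lib.Helper85_M11_BR
open scoped ComplexConjugate

variable {G : Type*} [Group G] [Finite G]

/-- Brauer's theorem for a self-centralizing Sylow subgroup of prime order with `|N : C| = p - 1`,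
with values. -/
theorem BRV (p : ℕ) [Fact p.Prime] (P : Sylow p G) (hP : Nat.card P = p)
    (hC : Subgroup.centralizer ((P : Subgroup G) : Set G) = (P : Subgroup G))
    (he : Nat.card (Subgroup.normalizer ((P : Subgroup G) : Set G)) = p * (p - 1))
    (χ : IrrCharacter G) (hχ : ¬ p ∣ charDegree (χ : G → ℂ)) :
    ∃ σ : ℤ, (σ = 1 ∨ σ = -1) ∧ (charDegree (χ : G → ℂ) : ℤ) ≡ σ [ZMOD p] ∧
      ∀ x ∈ (P : Subgroup G), x ≠ 1 → (χ : G → ℂ) x = (σ : ℂ) := by
  classical
  have hpp : p.Prime := Fact.out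
  let _ : Fintype G := Fintype.ofFinite G
  let _ : Fintype ↥(P : Subgroup G) := Fintype.ofFinite _
  let _ : Fintype ↥(⊥ : Subgroup G) := Fintype.ofFinite _
  have hfin : Finite (↥(P : Subgroup G) →* ℂˣ) :=
    Cfsg.Agent.Lib.Helper25_AbDual.finite_hom (comm_of_card P hP)
  let _ : Fintype (↥(P : Subgroup G) →* ℂˣ) := Fintype.ofFinite _
  have hV : IsPCompl P (⊥ : Subgroup G) := isPCompl_bot hP hC
  set θ : IrrCharacter ↥(⊥ : Subgroup G) := oneIrr ↥(⊥ : Subgroup G) with hθ
  set e : ℕ := p - 1 with hedef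
  have hrel : (Subgroup.centralizer ((P : Subgroup G) : Set G)).relIndex (stab hV θ) = e := by
    rw [stab_bot hV, hC]
    have hle : (P : Subgroup G) ≤ Subgroup.normalizer ((P : Subgroup G) : Set G) :=
      Subgroup.le_normalizer
    have h1 := Subgroup.card_mul_index
      ((P : Subgroup G).subgroupOf (Subgroup.normalizer ((P : Subgroup G) : Set G)))
    have h2 : Nat.card ((P : Subgroup G).subgroupOf
        (Subgroup.normalizer ((P : Subgroup G) : Set G))) = p := by
      rw [Nat.card_congr (Subgroup.subgroupOfEquivOfLe hle).toEquiv]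
      exact hP
    rw [h2, he] at h1
    exact Nat.eq_of_mul_eq_mul_left hpp.pos h1
  obtain ⟨X, Y, εX, ε, hBXY, hdisj, hXc, hYc, hXp, hε, hYp, hYu, hYs⟩ :=
    gen_structure hP hV θ e hrel (Cfsg.Agent.Lib.Helper57_CTGen.ct_gen p P hP)
      (Cfsg.Agent.Lib.Helper74_H1V.h1V hP hV θ)
  have hp1 : 0 < p - 1 := by have := hpp.two_le; omega
  -- degrees
  have hdeg : ∀ χ : IrrCharacter G, ((charDegree (χ : G → ℂ) : ℕ) : ℤ) = s1 hV θ χ := by
    intro χ
    have h1 := s1_cast hP hV θ χ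
    rw [sfun_bot, OneMemClass.coe_one, ← Cfsg.Agent.Lib.Helper16_BrauerFinal.charDegree_cast χ]
      at h1
    exact_mod_cast h1.symm
  have hpZ : ∀ n : ℕ, p ∣ n ↔ (p : ℤ) ∣ (n : ℤ) := fun n => (Int.natCast_dvd_natCast).symm
  have hvanish : ∀ χ : IrrCharacter G, χ ∉ X → χ ∉ Y →
      ∀ h : ↥(P : Subgroup G), h ≠ 1 → sfun P (⊥ : Subgroup G) θ χ h = 0 := by
    intro χ hX hY h hh
    by_contra hne
    have : χ ∈ BGen P (⊥ : Subgroup G) θ := ⟨h, hh, hne⟩
    rcases (hBXY χ).1 this with h1 | h1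
    · exact hX h1
    · exact hY h1
  have hmem : χ ∈ X ∨ χ ∈ Y := by
    by_contra hcon
    push Not at hcon
    apply hχ
    rw [hpZ, hdeg]
    exact Int.modEq_zero_iff_dvd.1 (s1_zero hP hV θ χ (hvanish χ hcon.1 hcon.2))
  rcases hmem with hX | hY
  · refine ⟨εX χ, (hXp χ hX).1, ?_, ?_⟩
    · rw [hdeg]
      exact s1_X hP hV θ χ (εX χ) (hXp χ hX).2
    · intro x hx hx1
      have hx1' : (⟨x, hx⟩ : ↥(P : Subgroup G)) ≠ 1 := by
        intro h
        exact hx1 (congrArg Subtype.val h)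
      have := sfun_X hP hV θ χ (εX χ) (hXp χ hX).2 ⟨x, hx⟩ hx1'
      rw [sfun_bot] at this
      exact this
  · -- the exceptional character: all nontrivial `φ` occur
    have hall : ∀ φ : ↥(P : Subgroup G) →* ℂˣ, φ ≠ 1 → nng hV θ χ φ = - (-ε) := by
      intro φ hφ
      have hsub : Finset.univ.filter
          (fun φ : ↥(P : Subgroup G) →* ℂˣ => nng hV θ χ φ ≠ 0) ⊆
          Finset.univ.erase (1 : ↥(P : Subgroup G) →* ℂˣ) := by
        intro ψ hψ
        rw [Finset.mem_erase]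
        refine ⟨?_, Finset.mem_univ _⟩
        rintro rfl
        exact (Finset.mem_filter.mp hψ).2 (nng_one hV θ χ)
      have hcard : (Finset.univ.erase (1 : ↥(P : Subgroup G) →* ℂˣ)).card = p - 1 := by
        rw [Finset.card_erase_of_mem (Finset.mem_univ _), Finset.card_univ,
          ← Nat.card_eq_fintype_card,
          Cfsg.Agent.Lib.Helper25_AbDual.card_hom (comm_of_card P hP), hP]
      have heq := Finset.eq_of_subset_of_card_le hsub (by rw [hcard, hYs χ hY])
      have hφmem : φ ∈ Finset.univ.filter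
          (fun φ : ↥(P : Subgroup G) →* ℂˣ => nng hV θ χ φ ≠ 0) := by
        rw [heq, Finset.mem_erase]
        exact ⟨hφ, Finset.mem_univ _⟩
      have hne : nng hV θ χ φ ≠ 0 := (Finset.mem_filter.mp hφmem).2
      rcases hYp χ hY φ hφ with h0 | h0
      · exact absurd h0 hne
      · rw [h0]; ring
    refine ⟨-ε, ?_, ?_, ?_⟩
    · rcases hε with rfl | rfl
      · right; rfl
      · left; norm_num
    · rw [hdeg]
      exact s1_X hP hV θ χ (-ε) hall
    · intro x hx hx1
      have hx1' : (⟨x, hx⟩ : ↥(P : Subgroup G)) ≠ 1 := by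
        intro h
        exact hx1 (congrArg Subtype.val h)
      have := sfun_X hP hV θ χ (-ε) hall ⟨x, hx⟩ hx1'
      rw [sfun_bot] at this
      exact this

/-- **SO-720-VAL**. -/
theorem irr_deg_four_val {G : Type*} [Group G] [Finite G] [IsSimpleGroup G]
    (hG : ¬ IsMulCommutative G) [Fact (Nat.Prime 5)] (P : Sylow 5 G)
    (hP : Nat.card (P : Subgroup G) = 5)
    (hC : Subgroup.centralizer ((P : Subgroup G) : Set G) = (P : Subgroup G))
    (hN : Nat.card (Subgroup.normalizer ((P : Subgroup G) : Set G)) = 20)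
    (χ : Cfsg.IrrCharacter G) (hχ : Cfsg.charDegree (χ : G → ℂ) = 4) :
    ∀ x ∈ (P : Subgroup G), x ≠ 1 → (χ : G → ℂ) x = -1 := by
  obtain ⟨σ, hσ, hcong, hval⟩ := BRV 5 P hP hC (by rw [hN]) χ (by rw [hχ]; norm_num)
  rw [hχ] at hcong
  have hσ' : σ = -1 := by
    unfold Int.ModEq at hcong
    rcases hσ with rfl | rfl
    · omega
    · rfl
  subst hσ'
  intro x hx hx1
  rw [hval x hx hx1]
  norm_num

end Cfsg.Agent.Lib.Helper75_SO_720VAL
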