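import Mathlib
import Cfsg.Prelude.Def_Classical
import Cfsg.Agent.Lib.Helper99_SUNDDefs
import Cfsg.Agent.Lib.Helper99_SUTIDefs
import Cfsg.Agent.Lib.Helper40_UCases
import Cfsg.Agent.Lib.Helper40_UMatrix
import Cfsg.Agent.Lib.Helper40_UExistMatrix
import Cfsg.Agent.Lib.Helper40_UPrimeOrder
import Cfsg.Agent.Lib.Helper55_SUND_PU1
import Cfsg.Agent.Lib.Helper31_SUND_PU3
import Cfsg.Agent.Lib.Helper75_SpTIBound
import Cfsg.Agent.Lib.Helper78_KerAevalDim
import Cfsg.Agent.Lib.Helper99_SubspaceCount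
import Cfsg.Agent.Lib.Helper13_GU

set_option autoImplicit false
set_option linter.unusedSectionVars false
set_option linter.unusedVariables false

/-!
Package TS4 of S5953 (helper99): the special element of `SU_n(q)` of odd prime order `r`
(`ord_r(q) ≡ 2 (mod 4)`, `ord_r(q) > 2`) none of whose invariant totally isotropic subspaces has
dimension `m`.  Port of `Helper27_SpSpecialElt.exists_special_elt` and
`Helper75_SpTIBound.finrank_ti_le_of_charpoly` to the hermitian series.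
-/

namespace Cfsg.Agent.Lib.Helper75_SUTI_TS4

open Polynomial Module Matrix
open Cfsg.Agent.Lib.Helper40_SpBasic Cfsg.Agent.Lib.Helper40_UBasic Cfsg.Agent.Lib.Helper99_SUNDDefs
  Cfsg.Agent.Lib.Helper99_SUTIDefs Cfsg.Agent.Lib.Helper94_Herm
  Cfsg.Agent.Lib.Helper40_UMatch Cfsg.Agent.Lib.Helper75_SpTIBound

universe u

section General

variable {K : Type*} [Field K] {σ : K →+* K} {V : Type*} [AddCommGroup V] [Module K V]
  {B : V →ₗ[K] V →ₛₗ[σ] K} {T : Module.End K V} {r : ℕ}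

/-- the kernel of a self-dual irreducible factor of `X ^ r - 1` is nondegenerate -/
theorem undOn_ker_aeval (h : UData B T r) (hB : UND B) (hrF : ((r : ℕ) : K) ≠ 0) {w : K[X]}
    (hwi : Irreducible w) (hwd : w ∣ X ^ r - 1) (hstar : w ∣ pstar σ r w) :
    UNDOn B (LinearMap.ker (aeval T w)) := by
  obtain ⟨g, hg⟩ := hwd
  have hsq : Squarefree (X ^ r - 1 : K[X]) := (X_pow_sub_one_separable_iff.2 hrF).squarefree
  have hcop : IsCoprime w g := by
    rw [hwi.coprime_iff_not_dvd]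
    rintro ⟨k, rfl⟩
    have h1 : w * w ∣ X ^ r - 1 := ⟨k, by rw [hg]; ring⟩
    exact hwi.not_isUnit (hsq w h1)
  obtain ⟨a, b, hab⟩ := hcop
  have hann : aeval T (w * g) = 0 := by
    rw [← hg, map_sub, map_pow, aeval_X, map_one, h.pow, sub_self]
  obtain ⟨k, hk⟩ := hstar
  intro x hx hxy
  rw [LinearMap.mem_ker] at hx
  apply hB x
  intro v
  have hv : v = aeval T (b * g) v + aeval T (w * a) v := by
    have h1 : b * g + w * a = 1 := by rw [← hab]; ring
    rw [← LinearMap.add_apply, ← map_add, h1, map_one, Module.End.one_apply]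
  rw [hv, map_add]
  have h1 : B x (aeval T (b * g) v) = 0 := by
    apply hxy
    rw [LinearMap.mem_ker, ← Module.End.mul_apply, ← map_mul]
    have h2 : w * (b * g) = b * (w * g) := by ring
    rw [h2, map_mul, hann, mul_zero, LinearMap.zero_apply]
  have h2 : B x (aeval T (w * a) v) = 0 := by
    rw [map_mul, Module.End.mul_apply, adjS' h, hk, mul_comm w k, map_mul,
      Module.End.mul_apply, hx, map_zero, map_zero, LinearMap.zero_apply]
  rw [h1, h2, add_zero]

/-- the fixed space of an isometry of order prime to the characteristic is nondegenerate -/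
theorem undOn_eigenspace (h : UData B T r) (hB : UND B) (hrF : ((r : ℕ) : K) ≠ 0) :
    UNDOn B (Module.End.eigenspace T 1) := by
  have hsup := Cfsg.Agent.Lib.Helper99_SpAtoms.fix_sup_range h.pos hrF h.pow
  intro x hx hxy
  apply hB x
  intro v
  have hv : v ∈ Module.End.eigenspace T 1 ⊔ LinearMap.range (T - 1) := by rw [hsup]; trivial
  obtain ⟨f, hf, ρ, hρ, rfl⟩ := Submodule.mem_sup.1 hv
  rw [Module.End.mem_eigenspace_iff, one_smul] at hx
  rw [map_add, hxy f hf,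
    h.eq_zero (Cfsg.Agent.Lib.Helper55_SUND_PU1.range_orth_fix h.iso hρ hx), add_zero]

end General

section Half

variable {K : Type*} [Field K] [Finite K] {σ : K →+* K} {V : Type*} [AddCommGroup V] [Module K V]
  [FiniteDimensional K V] {B : V →ₗ[K] V →ₛₗ[σ] K} {T : Module.End K V} {r : ℕ}

/-- a totally isotropic subspace of a nondegenerate subspace has at most half the dimension -/
theorem two_mul_finrank_le_u (h : UData B T r) {E U : Submodule K V} (hE : UNDOn B E)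
    (hUE : U ≤ E) (hU : UIsoOn B U) : 2 * finrank K U ≤ finrank K E := by
  have h' : UData (UData.res B E) (1 : Module.End K E) 1 :=
    Cfsg.Agent.Lib.Helper40_UExistMatrix.uData_one σ (UData.res B E) h.invol
      (fun x y => h.herm x y)
  have hB' : UND (UData.res B E) := und_res hE
  set U' : Submodule K E := U.comap E.subtype with hU'
  have h1 : finrank K U' = finrank K U :=
    Cfsg.Agent.Lib.Helper99_SubspaceCount.finrank_comap_subtype hUE
  have h2 := Cfsg.Agent.Lib.Helper40_UHyperbolic.finrank_orth h' hB' U'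
  have h3 : U' ≤ orth (UData.res B E) U' := by
    intro x hx
    rw [mem_orth]
    intro y hy
    exact hU y hy x hx
  have h4 := Submodule.finrank_mono h3
  omega

end Half

/-- hermitian analogue of `Helper75_SpTIBound.finrank_ti_le_of_charpoly` -/
theorem finrank_uti_le_of_charpoly {K : Type u} [Field K] [Fintype K] {p : ℕ} [Fact p.Prime]
    [CharP K p] {q : ℕ} (hK : Fintype.card K = q ^ 2) {σ : K →+* K} (hσq : ∀ x, σ x = x ^ q)
    {r : ℕ} (hr : r.Prime) (hr2 : r ≠ 2) (hrp : r ≠ p)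
    (hi4 : orderOf ((q : ℕ) : ZMod r) % 4 = 2)
    {V : Type*} [AddCommGroup V] [Module K V] [FiniteDimensional K V]
    {B : V →ₗ[K] V →ₛₗ[σ] K} {T : Module.End K V} (h : UData B T r)
    (hB : UND B) (w₀ : K[X]) (S : Finset K[X])
    (hw₀ : w₀.Monic ∧ Irreducible w₀ ∧ w₀ ≠ X - 1 ∧ w₀ ∣ X ^ r - 1)
    (hS : ∀ w ∈ S, w.Monic ∧ Irreducible w ∧ w ≠ X - 1 ∧ w ∣ X ^ r - 1) (hw₀S : w₀ ∉ S)
    (e₀ a₀ : ℕ) (hχ : T.charpoly = (X - 1) ^ e₀ * w₀ ^ a₀ * ∏ w ∈ S, w)
    {W : Submodule K V} (hW : Inv T W) (hWti : UIsoOn B W) :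
    finrank K W ≤ e₀ / 2 + uAtomDim q r * (a₀ / 2) := by
  classical
  have hrF : ((r : ℕ) : K) ≠ 0 := Cfsg.Agent.Lib.Helper99_PrimeOrderSL.natCast_ne_zero (p := p) hr hrp
  have hss : T.IsSemisimple :=
    Cfsg.Agent.Lib.Helper99_PrimeOrderSL.isSemisimple_of_pow_eq_one T r hrF h.pow
  have H := Cfsg.Agent.Lib.Helper99_PrimeOrderSL.hasBlocks_of_pow_eq_one (p := p) T hr hrp h.pow
  obtain ⟨hipos, Wc, -, hWc1, hWc2⟩ :=
    Cfsg.Agent.Lib.Helper40_PrimeOrderClasses.exists_cyclotomic_factors (F := K) p r hr hrp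
  set i := orderOf ((Fintype.card K : ℕ) : ZMod r) with hidef
  have hiq : uAtomDim q r = i := by
    have hd' : i = orderOf (((q ^ 2 : ℕ) : ℕ) : ZMod r) := by rw [hidef, hK]
    exact (Cfsg.Agent.Lib.Helper55_SUND_PU1.degree_cases q r i hd').1 hi4
  rw [hiq]
  -- degree and self-duality of the factors
  have hfac : ∀ w : K[X], w.Monic → Irreducible w → w ≠ X - 1 → w ∣ X ^ r - 1 →
      w.natDegree = i ∧ w ∣ pstar σ r w := by
    intro w hwm hwi hw1 hwd
    constructor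
    · rcases hWc2 w hwm hwi hwd with h' | h'
      · exact absurd h' hw1
      · exact (hWc1 w h').2.2.2.2
    · rw [Cfsg.Agent.Lib.Helper55_SUND_PU1.dvd_pstar_iff_udual_eq σ h.invol r hr.pos w hwm hwi hwd]
      exact Cfsg.Agent.Lib.Helper40_UPrimeOrder.udual_eq_of_mod4 σ p hK hσq r _ hr rfl hi4 w hwm
        hwi hw1 hwd
  obtain ⟨hw₀m, hw₀i, hw₀1, hw₀d⟩ := hw₀
  -- the polynomial `X - 1`
  have hX1 : (X - 1 : K[X]) = X - C 1 := by rw [C_1]
  have hX1i : Irreducible (X - 1 : K[X]) := by rw [hX1]; exact irreducible_X_sub_C 1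
  have hX1m : (X - 1 : K[X]).Monic := by rw [hX1]; exact monic_X_sub_C 1
  set g : K[X] := ∏ w ∈ S, w with hg
  -- coprimality
  have c10 : IsCoprime (X - 1 : K[X]) w₀ :=
    isCoprime_of_irreducible_ne hX1i hX1m hw₀i hw₀m (Ne.symm hw₀1)
  have c1S : ∀ w ∈ S, IsCoprime (X - 1 : K[X]) w := fun w hw =>
    isCoprime_of_irreducible_ne hX1i hX1m (hS w hw).2.1 (hS w hw).1 (Ne.symm (hS w hw).2.2.1)
  have c0S : ∀ w ∈ S, IsCoprime w₀ w := fun w hw =>
    isCoprime_of_irreducible_ne hw₀i hw₀m (hS w hw).2.1 (hS w hw).1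
      (fun h' => hw₀S (h' ▸ hw))
  have c1g : IsCoprime (X - 1 : K[X]) g := IsCoprime.prod_right c1S
  have c0g : IsCoprime w₀ g := IsCoprime.prod_right c0S
  have c1 : IsCoprime (X - 1 : K[X]) (w₀ * g) := IsCoprime.mul_right c10 c1g
  -- the annihilating polynomial
  have hann : aeval T ((X - 1) * (w₀ * g)) = 0 := by
    have hsq : Squarefree (minpoly K T) := by
      have h1 : minpoly K T ∣ X ^ r - 1 := by
        apply minpoly.dvd
        rw [map_sub, map_pow, aeval_X, map_one, h.pow, sub_self]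
      exact ((X_pow_sub_one_separable_iff.2 hrF).squarefree).squarefree_of_dvd h1
    have h2 : minpoly K T ∣ ((X - 1) * (w₀ * g)) ^ (e₀ + a₀ + 1) := by
      refine (LinearMap.minpoly_dvd_charpoly T).trans ?_
      rw [hχ, mul_pow, mul_pow, mul_assoc]
      exact mul_dvd_mul (pow_dvd_pow _ (by omega))
        (mul_dvd_mul (pow_dvd_pow _ (by omega)) (dvd_pow_self g (by omega)))
    have h3 : minpoly K T ∣ (X - 1) * (w₀ * g) :=
      (hsq.dvd_pow_iff_dvd (by omega)).1 h2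
    obtain ⟨k, hk⟩ := h3
    rw [hk, map_mul, minpoly.aeval, zero_mul]
  -- the three pieces
  set E := LinearMap.ker (aeval T (X - 1 : K[X])) with hE
  set K₀ := LinearMap.ker (aeval T w₀) with hK₀
  set D := LinearMap.ker (aeval T g) with hD
  have hsplit : W ≤ (W ⊓ E) ⊔ ((W ⊓ K₀) ⊔ (W ⊓ D)) := by
    intro x hxW
    have h1 := mem_sup_of_coprime hW c1 hxW (by rw [hann, LinearMap.zero_apply])
    obtain ⟨x1, hx1, y, hy, rfl⟩ := Submodule.mem_sup.1 h1
    refine Submodule.add_mem_sup hx1 ?_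
    exact mem_sup_of_coprime hW c0g hy.1 (LinearMap.mem_ker.1 hy.2)
  have hEeq : E = Module.End.eigenspace T 1 := by
    ext x
    rw [hE, LinearMap.mem_ker, Module.End.mem_eigenspace_iff, one_smul, map_sub, aeval_X, map_one,
      LinearMap.sub_apply, Module.End.one_apply, sub_eq_zero]
  -- the fixed part
  have hEnd : UNDOn B E := by
    rw [hEeq]
    exact undOn_eigenspace h hB hrF
  have hEdim : finrank K E ≤ e₀ := by
    have h1 := Cfsg.Agent.Lib.Helper78_KerAevalDim.finrank_ker_aeval_le T hss (X - 1) (w₀ ^ a₀ * g)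
      hX1i e₀ (IsCoprime.mul_right (IsCoprime.pow_right c10) c1g) (by rw [hχ, mul_assoc])
    have h2 : (X - 1 : K[X]).natDegree = 1 := by rw [hX1]; exact natDegree_X_sub_C 1
    rw [h2, one_mul] at h1
    exact h1
  have hWE : 2 * finrank K ↥(W ⊓ E) ≤ e₀ := by
    have h1 := two_mul_finrank_le_u h hEnd
      (inf_le_right : W ⊓ E ≤ E) (fun x hx y hy => hWti x hx.1 y hy.1)
    omega
  -- the `w₀` part
  have hK₀nd : UNDOn B K₀ :=
    undOn_ker_aeval h hB hrF hw₀i hw₀d (hfac w₀ hw₀m hw₀i hw₀1 hw₀d).2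
  have hK₀dim : finrank K K₀ ≤ i * a₀ := by
    have h1 := Cfsg.Agent.Lib.Helper78_KerAevalDim.finrank_ker_aeval_le T hss w₀ ((X - 1) ^ e₀ * g)
      hw₀i a₀ (IsCoprime.mul_right (IsCoprime.pow_right c10.symm) c0g) (by rw [hχ]; ring)
    rw [(hfac w₀ hw₀m hw₀i hw₀1 hw₀d).1] at h1
    exact h1
  have hdisjE : ∀ w : K[X], IsCoprime w (X - 1 : K[X]) →
      Disjoint (W ⊓ LinearMap.ker (aeval T w)) (Module.End.eigenspace T 1) := by
    intro w hw
    rw [← hEeq]
    exact (disjoint_ker_aeval_of_isCoprime T hw).mono_left inf_le_right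
  have hinvinf : ∀ w : K[X], (W ⊓ LinearMap.ker (aeval T w)) ∈ T.invtSubmodule := by
    intro w
    rw [← Cfsg.Agent.Lib.Helper99_SpTI.inv_iff_mem]
    intro x hx
    exact ⟨hW x hx.1, inv_ker_aeval T w x hx.2⟩
  have hWK₀ : finrank K ↥(W ⊓ K₀) ≤ i * (a₀ / 2) := by
    obtain ⟨s, hs⟩ := Cfsg.Agent.Lib.Helper99_InvSub.dvd_finrank_of_disjoint hss hipos H _
      (W ⊓ K₀) rfl (hinvinf w₀) (hdisjE w₀ c10.symm)
    have h1 := two_mul_finrank_le_u h hK₀nd
      (inf_le_right : W ⊓ K₀ ≤ K₀) (fun x hx y hy => hWti x hx.1 y hy.1)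
    rw [hs]
    apply Nat.mul_le_mul_left
    have h2 : i * (2 * s) ≤ i * a₀ := by
      calc i * (2 * s) = 2 * (i * s) := by ring
        _ ≤ finrank K K₀ := by rw [← hs]; exact h1
        _ ≤ i * a₀ := hK₀dim
    have h3 := Nat.le_of_mul_le_mul_left h2 hipos
    omega
  -- the remaining part is trivial
  have hWD : W ⊓ D = ⊥ := by
    by_contra hne
    obtain ⟨v, hv, hv0⟩ := Submodule.exists_mem_ne_zero_of_ne_bot hne
    obtain ⟨w, hwS, v', hv'W, hv'0, hv'⟩ :=
      exists_factor_vec T hW S v hv.1 hv0 (LinearMap.mem_ker.1 hv.2)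
    obtain ⟨hwm, hwi, hw1, hwd⟩ := hS w hwS
    set Kw := LinearMap.ker (aeval T w) with hKw
    have hZ0 : W ⊓ Kw ≠ ⊥ := by
      intro h0
      have : v' ∈ W ⊓ Kw := ⟨hv'W, LinearMap.mem_ker.2 hv'⟩
      rw [h0, Submodule.mem_bot] at this
      exact hv'0 this
    obtain ⟨U, hU, hUZ, hUd⟩ := H (W ⊓ Kw) (hinvinf w) hZ0 (hdisjE w (c1S w hwS).symm)
    have hKwdim : finrank K Kw ≤ i := by
      have hprod : w * ∏ x ∈ S.erase w, x = g := Finset.mul_prod_erase S (fun x => x) hwS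
      have hcopw : IsCoprime w ((X - 1) ^ e₀ * w₀ ^ a₀ * ∏ x ∈ S.erase w, x) := by
        refine IsCoprime.mul_right (IsCoprime.mul_right (IsCoprime.pow_right (c1S w hwS).symm)
          (IsCoprime.pow_right (c0S w hwS).symm)) (IsCoprime.prod_right ?_)
        intro x hx
        exact isCoprime_of_irreducible_ne hwi hwm (hS x (Finset.mem_of_mem_erase hx)).2.1
          (hS x (Finset.mem_of_mem_erase hx)).1 (Ne.symm (Finset.ne_of_mem_erase hx))
      have h1 := Cfsg.Agent.Lib.Helper78_KerAevalDim.finrank_ker_aeval_le T hss w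
        ((X - 1) ^ e₀ * w₀ ^ a₀ * ∏ x ∈ S.erase w, x) hwi 1 hcopw
        (by rw [hχ, ← hprod]; ring)
      rw [(hfac w hwm hwi hw1 hwd).1, mul_one] at h1
      exact h1
    have hUK : U = Kw :=
      Submodule.eq_of_le_of_finrank_le (hUZ.trans inf_le_right) (by rw [hUd]; exact hKwdim)
    have hKwW : Kw ≤ W := by
      rw [← hUK]
      exact hUZ.trans inf_le_left
    have hKwnd : UNDOn B Kw := undOn_ker_aeval h hB hrF hwi hwd (hfac w hwm hwi hw1 hwd).2
    exact hv'0 (hKwnd v' (LinearMap.mem_ker.2 hv') (fun y hy => hWti v' hv'W y (hKwW hy)))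
  -- conclusion
  have h1 : finrank K W ≤ finrank K ↥((W ⊓ E) ⊔ ((W ⊓ K₀) ⊔ (W ⊓ D))) :=
    Submodule.finrank_mono hsplit
  have h2 := Submodule.finrank_add_le_finrank_add_finrank (W ⊓ E) ((W ⊓ K₀) ⊔ (W ⊓ D))
  have h3 := Submodule.finrank_add_le_finrank_add_finrank (W ⊓ K₀) (W ⊓ D)
  rw [hWD, finrank_bot] at h3
  rw [hWD] at h1 h2
  omega

open Cfsg.Agent.Lib.Helper40_Palindromic Cfsg.Agent.Lib.Helper40_SpExist
  Cfsg.Agent.Lib.Helper40_SpPrimeOrder Cfsg.Agent.Lib.Helper40_PolyFactors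
  Cfsg.Agent.Lib.Helper40_PrimeOrderClasses Cfsg.Agent.Lib.Helper40_UExist
  Cfsg.Agent.Lib.Helper40_UPrimeOrder Cfsg.Agent.Lib.Helper40_UExistMatrix
  Cfsg.Agent.Lib.Helper94_HermBridge Cfsg.Agent.Lib.Helper40_UMatrix

/-- a unitary matrix of determinant one and order `r` with prescribed characteristic polynomial
and the resulting bound on invariant totally isotropic subspaces -/
theorem exists_of_data_u {K : Type u} [Field K] [Fintype K] {p : ℕ} [Fact p.Prime] [CharP K p]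
    {q : ℕ} (hK : Fintype.card K = q ^ 2) {r : ℕ} (hr : r.Prime) (hr2 : r ≠ 2) (hrp : r ≠ p)
    (hi4 : orderOf ((q : ℕ) : ZMod r) % 4 = 2) (hi2 : 2 < orderOf ((q : ℕ) : ZMod r)) (n : ℕ)
    (w₀ : K[X]) (S : Finset K[X])
    (hw₀ : w₀.Monic ∧ Irreducible w₀ ∧ w₀ ≠ X - 1 ∧ w₀ ∣ X ^ r - 1 ∧
      w₀.natDegree = orderOf ((Fintype.card K : ℕ) : ZMod r))
    (hS : ∀ w ∈ S, w.Monic ∧ Irreducible w ∧ w ≠ X - 1 ∧ w ∣ X ^ r - 1 ∧
      w.natDegree = orderOf ((Fintype.card K : ℕ) : ZMod r)) (hw₀S : w₀ ∉ S)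
    (e₀ a₀ : ℕ)
    (hdeg : e₀ + orderOf ((Fintype.card K : ℕ) : ZMod r) * a₀ +
      orderOf ((Fintype.card K : ℕ) : ZMod r) * S.card = n) :
    ∃ A : Matrix (Fin n) (Fin n) K,
      (∀ u v, Cfsg.hermForm n K q (A *ᵥ u) (A *ᵥ v) = Cfsg.hermForm n K q u v) ∧ A.det = 1 ∧
      A ^ r = 1 ∧
      ∀ W : Submodule K (Fin n → K), W.map (Matrix.toLin' A) ≤ W →
        (∀ u ∈ W, ∀ v ∈ W, Cfsg.hermForm n K q u v = 0) →
        finrank K W ≤ e₀ / 2 + uAtomDim q r * (a₀ / 2) := by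
  classical
  obtain ⟨σ, hσq, hσ⟩ := exists_frob hK
  set i := orderOf ((Fintype.card K : ℕ) : ZMod r) with hi
  have hdual : ∀ w : K[X], w.Monic → Irreducible w → w ≠ X - 1 → w ∣ X ^ r - 1 →
      udual σ w = w := fun w hwm hwi hw1 hwd =>
    udual_eq_of_mod4 σ p hK hσq r _ hr rfl hi4 w hwm hwi hw1 hwd
  have hX1 : ((X : K[X]) - 1) = X - C 1 := by rw [map_one]
  have hX1m : ((X : K[X]) - 1).Monic := by rw [hX1]; exact monic_X_sub_C 1
  set f : K[X] := (X - 1) ^ e₀ * w₀ ^ a₀ * ∏ w ∈ S, w with hf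
  have hSm : (∏ w ∈ S, w).Monic := monic_prod_of_monic S _ (fun w hw => (hS w hw).1)
  have hfm : f.Monic := ((hX1m.pow e₀).mul (hw₀.1.pow a₀)).mul hSm
  have hSdeg : (∏ w ∈ S, w).natDegree = i * S.card := by
    rw [natDegree_prod_of_monic S _ (fun w hw => (hS w hw).1),
      Finset.sum_congr rfl (fun w hw => (hS w hw).2.2.2.2), Finset.sum_const, smul_eq_mul,
      mul_comm]
  have hfdeg : f.natDegree = n := by
    rw [hf, ((hX1m.pow e₀).mul (hw₀.1.pow a₀)).natDegree_mul hSm,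
      (hX1m.pow e₀).natDegree_mul (hw₀.1.pow a₀), hX1m.natDegree_pow, hw₀.1.natDegree_pow, hX1,
      natDegree_X_sub_C, hw₀.2.2.2.2, hSdeg, mul_one, ← hdeg]
    ring
  have hfd : udual σ f = f := by
    rw [hf, udual_mul, udual_mul, udual_pow, udual_pow, udual_X_sub_one,
      hdual w₀ hw₀.1 hw₀.2.1 hw₀.2.2.1 hw₀.2.2.2.1, udual_prod]
    congr 1
    exact Finset.prod_congr rfl
      (fun w hw => hdual w (hS w hw).1 (hS w hw).2.1 (hS w hw).2.2.1 (hS w hw).2.2.2.1)
  obtain ⟨A, hA, hch, hk⟩ := exists_GU_matrix σ hσq hσ n f hfm hfdeg hfd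
  have hX1d : ((X : K[X]) - 1) ∣ X ^ r - 1 := by
    have := sub_dvd_pow_sub_pow (X : K[X]) 1 r
    rwa [one_pow] at this
  have hAr : A ^ r = 1 := by
    have h1 := hk (X ^ r - 1) (by
      intro g hg hgf
      rw [hf] at hgf
      rcases hg.prime.dvd_or_dvd hgf with h | h
      · rcases hg.prime.dvd_or_dvd h with h | h
        · exact (hg.prime.dvd_of_dvd_pow h).trans hX1d
        · exact (hg.prime.dvd_of_dvd_pow h).trans hw₀.2.2.2.1
      · obtain ⟨w, hwS, hgw⟩ := (Prime.dvd_finsetProd_iff hg.prime _).1 h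
        exact hgw.trans (hS w hwS).2.2.2.1)
    rw [map_sub, map_pow, aeval_X, map_one, sub_eq_zero] at h1
    exact h1
  refine ⟨A, hA, ?_, hAr, ?_⟩
  · -- the determinant
    have hr1 : r - 1 + 1 = r := by have := hr.two_le; omega
    let gA : GL (Fin n) K := ⟨A, A ^ (r - 1), by rw [← pow_succ', hr1, hAr],
      by rw [← pow_succ, hr1, hAr]⟩
    have hgA : gA ∈ Cfsg.GU n K q := (Cfsg.Agent.Lib.Helper13_GU.mem_GU_iff gA).2 hA
    have h1 : A.det ^ (q + 1) = 1 := Cfsg.Agent.Lib.Helper13_GU.det_pow_eq_one hK gA hgA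
    have h2 : A.det ^ r = 1 := by rw [← Matrix.det_pow, hAr, Matrix.det_one]
    have h3 : orderOf A.det ∣ Nat.gcd r (q + 1) :=
      Nat.dvd_gcd (orderOf_dvd_of_pow_eq_one h2) (orderOf_dvd_of_pow_eq_one h1)
    have h4 : Nat.gcd r (q + 1) = 1 :=
      (Nat.Prime.coprime_iff_not_dvd hr).2
        (Cfsg.Agent.Lib.Helper31_SUND_PU3.not_dvd_succ hr hr2 (by omega))
    rw [h4, Nat.dvd_one, orderOf_eq_one_iff] at h3
    exact h3
  · intro W hWinv hWti
    set T : Module.End K (Fin n → K) := Matrix.toLin' A with hT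
    have hU : UData (hermB n σ hσq) T r := uData_of_mem σ hσq hσ A hA r hr.pos hAr
    have hχ : T.charpoly = (X - 1) ^ e₀ * w₀ ^ a₀ * ∏ w ∈ S, w := by
      rw [hT, Matrix.charpoly_toLin', hch]
    have hInv : Inv T W := by
      intro x hx
      exact hWinv (Submodule.mem_map_of_mem hx)
    exact finrank_uti_le_of_charpoly hK hσq hr hr2 hrp hi4 hU (und_hermB σ hσq) w₀ S
      ⟨hw₀.1, hw₀.2.1, hw₀.2.2.1, hw₀.2.2.2.1⟩
      (fun w hw => ⟨(hS w hw).1, (hS w hw).2.1, (hS w hw).2.2.1, (hS w hw).2.2.2.1⟩) hw₀S e₀ a₀ hχ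
      hInv (fun u hu v hv => by rw [hermB_apply]; exact hWti u hu v hv)

/-- **TS4**: the special element (self-dual case, `ord_r(q) > 2`). -/
theorem TS4 {K : Type u} [Field K] [Fintype K] {p : ℕ} [Fact p.Prime] [CharP K p] {q : ℕ}
    (hK : Fintype.card K = q ^ 2) {r : ℕ} (hr : r.Prime) (hr2 : r ≠ 2) (hrp : r ≠ p)
    (hi4 : orderOf ((q : ℕ) : ZMod r) % 4 = 2) (hi2 : 2 < orderOf ((q : ℕ) : ZMod r))
    (n m : ℕ) (hmn : 2 * m ≤ n) (hbm : uAtomDim q r ≤ m)
    (hneg : ¬ ((r - 1) / uAtomDim q r + 2 * (m / uAtomDim q r) ≤ n / uAtomDim q r)) :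
    ∃ A : Matrix (Fin n) (Fin n) K,
      (∀ u v, Cfsg.hermForm n K q (A *ᵥ u) (A *ᵥ v) = Cfsg.hermForm n K q u v) ∧ A.det = 1 ∧ A ^ r = 1 ∧
      ∀ W : Submodule K (Fin n → K), W.map (Matrix.toLin' A) ≤ W →
        (∀ u ∈ W, ∀ v ∈ W, Cfsg.hermForm n K q u v = 0) → finrank K W ≠ m := by
  classical
  obtain ⟨hipos, Wset, hWcard, hW1, -⟩ := exists_cyclotomic_factors (F := K) p r hr hrp
  have hiq : uAtomDim q r = orderOf ((Fintype.card K : ℕ) : ZMod r) := by
    have hd' : orderOf ((Fintype.card K : ℕ) : ZMod r) =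
        orderOf (((q ^ 2 : ℕ) : ℕ) : ZMod r) := by rw [hK]
    exact (Cfsg.Agent.Lib.Helper55_SUND_PU1.degree_cases q r _ hd').1 hi4
  rw [hiq] at hbm hneg
  set i := orderOf ((Fintype.card K : ℕ) : ZMod r) with hi
  set t := (r - 1) / i with ht
  set n' := n / i with hn'
  set m' := m / i with hm'
  have hq0 : ((Fintype.card K : ℕ) : ZMod r) ≠ 0 := by
    rw [Ne, ZMod.natCast_eq_zero_iff]
    intro h
    have hp : p.Prime := Fact.out
    obtain ⟨k, -, hk⟩ := FiniteField.card K p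
    rw [hk] at h
    exact hrp ((Nat.prime_dvd_prime_iff_eq hr hp).1 (hr.dvd_of_dvd_pow h))
  have : Fact r.Prime := ⟨hr⟩
  have hedvd : i ∣ r - 1 := ZMod.orderOf_dvd_card_sub_one hq0
  have hpos : 0 < r - 1 := by have := hr.two_le; omega
  have htpos : 0 < t := Nat.div_pos (Nat.le_of_dvd hpos hedvd) hipos
  have hWpos : 0 < Wset.card := by rw [hWcard]; exact htpos
  obtain ⟨w₀, hw₀W⟩ := Finset.card_pos.1 hWpos
  have hErase : (Wset.erase w₀).card = t - 1 := by
    rw [Finset.card_erase_of_mem hw₀W, hWcard]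
  -- arithmetic facts
  have hdm : i * n' + n % i = n := Nat.div_add_mod n i
  have hklt : n % i < i := Nat.mod_lt _ hipos
  have hmm : i * m' ≤ m := Nat.mul_div_le m i
  have hn'pos : 0 < n' := Nat.div_pos (by omega) hipos
  have hneg' : n' + 1 ≤ t + 2 * m' := by omega
  by_cases hcase : n' ≤ t
  · -- few blocks
    obtain ⟨S, hSsub, hScard⟩ :=
      Finset.exists_subset_card_eq (s := Wset.erase w₀) (n := n' - 1) (by rw [hErase]; omega)
    obtain ⟨A, hA, hdet, hAr, hbd⟩ := exists_of_data_u hK hr hr2 hrp hi4 hi2 n w₀ S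
      (hW1 w₀ hw₀W) (fun w hw => hW1 w (Finset.mem_of_mem_erase (hSsub hw)))
      (fun h => (Finset.notMem_erase w₀ Wset) (hSsub h)) (n % i) 1 (by
        rw [hScard, ← hi, mul_one]
        have : i * (n' - 1) + i = i * n' := by
          rw [← Nat.mul_succ]
          congr 1
          omega
        omega)
    refine ⟨A, hA, hdet, hAr, ?_⟩
    intro W hWinv hWti hWm
    have := hbd W hWinv hWti
    rw [hWm] at this
    have h0 : (1 : ℕ) / 2 = 0 := by norm_num
    rw [h0, mul_zero, add_zero] at this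
    omega
  · -- many blocks
    rw [not_le] at hcase
    set c := (n' - t) / 2 with hc
    have hN1 : t + 2 * c ≤ n' := by omega
    have hN2 : n' ≤ t + 2 * c + 1 := by omega
    have hiN : i * (t + 2 * c) ≤ n := by
      calc i * (t + 2 * c) ≤ i * n' := Nat.mul_le_mul_left i hN1
        _ ≤ n := by omega
    obtain ⟨A, hA, hdet, hAr, hbd⟩ := exists_of_data_u hK hr hr2 hrp hi4 hi2 n w₀
      (Wset.erase w₀) (hW1 w₀ hw₀W)
      (fun w hw => hW1 w (Finset.mem_of_mem_erase hw))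
      (Finset.notMem_erase w₀ Wset) (n - i * (t + 2 * c)) (2 * c + 1) (by
        rw [hErase, ← hi]
        have h1 : i * (2 * c + 1) + i * (t - 1) = i * (t + 2 * c) := by
          rw [← Nat.mul_add]
          congr 1
          omega
        omega)
    refine ⟨A, hA, hdet, hAr, ?_⟩
    intro W hWinv hWti hWm
    have := hbd W hWinv hWti
    rw [hiq, hWm] at this
    have h0 : (2 * c + 1) / 2 = c := by omega
    rw [h0] at this
    have h4 : i * (t + 2 * c) = i * t + 2 * (i * c) := by ring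
    have h5 : i * (n' + 1) ≤ i * (t + 2 * m') := Nat.mul_le_mul_left i hneg'
    have h6 : i * (n' + 1) = i * n' + i := by ring
    have h7 : i * (t + 2 * m') = i * t + 2 * (i * m') := by ring
    omega

end Cfsg.Agent.Lib.Helper75_SUTI_TS4
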