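import Cfsg.Agent.Lib.Helper75_SelfCent
import Cfsg.Agent.Lib.Helper1_Cores

set_option autoImplicit false
namespace Cfsg.Agent.Lib.Helper75_SelfCent2
open Subgroup Cfsg
open scoped commutatorElement
open Cfsg.Agent.Lib.Helper75_SelfCent Cfsg.Agent.Lib.Helper1_Cores
variable {G : Type*} [Group G]

theorem not_dvd_of_coprime {p : ℕ} (hp : p.Prime) {n : ℕ} (h : n.Coprime p) : ¬ p ∣ n :=
  (Nat.Prime.coprime_iff_not_dvd hp).mp h.symm

theorem coprime_of_not_dvd {p : ℕ} (hp : p.Prime) {n : ℕ} (h : ¬ p ∣ n) : n.Coprime p :=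
  ((Nat.Prime.coprime_iff_not_dvd hp).mpr h).symm

theorem not_dvd_card_pPrimeCore [Finite G] {p : ℕ} (hp : p.Prime) :
    ¬ p ∣ Nat.card (pPrimeCore p G) :=
  not_dvd_of_coprime hp (pPrimeCore_card_coprime p)

theorem not_mem_of_not_dvd {p : ℕ} (hp : p.Prime) {x : G} (hx : orderOf x = p)
    (S : Subgroup G) (hpS : ¬ p ∣ Nat.card S) : x ∉ S := by
  intro hxS
  have : x ∈ S ⊓ Subgroup.zpowers x := ⟨hxS, Subgroup.mem_zpowers x⟩
  rw [inf_zpowers_eq_bot hp hx S hpS] at this
  exact x_ne_one hp hx (Subgroup.mem_bot.mp this)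

/-- If `x ∈ D`, `S ≤ D` is a `p'`-subgroup normal in `D` containing `⁅D, D⁆`, then `|D : S| = p`. -/
theorem index_subgroupOf_eq [Finite G] {p : ℕ} (hp : p.Prime) {x : G} (hx : orderOf x = p)
    (hC : Subgroup.centralizer ({x} : Set G) = Subgroup.zpowers x)
    (D S : Subgroup G) (hxD : x ∈ D) [hS : (S.subgroupOf D).Normal]
    (hpS : ¬ p ∣ Nat.card (S.subgroupOf D)) (hDD : ⁅D, D⁆ ≤ S) : (S.subgroupOf D).index = p := by
  set S' := S.subgroupOf D with hS'
  set xD : D := ⟨x, hxD⟩ with hxD'
  have hxo : orderOf xD = p := orderOf_subtype hx D hxD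
  have hCD : Subgroup.centralizer ({xD} : Set D) = Subgroup.zpowers xD := centralizer_subtype hC D hxD
  have h1 := centralizer_mk hp hxo hCD S' hpS
  have h2 := orderOf_mk hp hxo S' hpS
  have hcomm : ∀ a b : D ⧸ S', a * b = b * a := by
    intro a b
    obtain ⟨a, rfl⟩ := QuotientGroup.mk_surjective a
    obtain ⟨b, rfl⟩ := QuotientGroup.mk_surjective b
    rw [← commutatorElement_eq_one_iff_mul_comm]
    change ⁅(QuotientGroup.mk' S') a, (QuotientGroup.mk' S') b⁆ = 1
    rw [← map_commutatorElement]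
    apply (QuotientGroup.eq_one_iff _).mpr
    rw [hS', Subgroup.mem_subgroupOf]
    apply hDD
    have : ((⁅a, b⁆ : D) : G) = ⁅(a : G), (b : G)⁆ := by
      simp [commutatorElement_def]
    rw [this]
    exact Subgroup.commutator_mem_commutator a.2 b.2
  have h3 : Subgroup.centralizer ({(QuotientGroup.mk xD : D ⧸ S')} : Set (D ⧸ S')) = ⊤ := by
    rw [eq_top_iff]
    intro y _
    rw [Subgroup.mem_centralizer_singleton_iff]
    exact hcomm _ _
  rw [h3] at h1
  rw [Subgroup.index_eq_card, ← Nat.card_congr (Subgroup.topEquiv (G := D ⧸ S')).toEquiv, h1,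
    Nat.card_zpowers, h2]


/-- Subgroups above a subgroup of prime index. -/
theorem eq_or_eq_top_of_index_prime {D : Type*} [Group D] [Finite D] {p : ℕ} (hp : p.Prime)
    (S' T : Subgroup D) (hidx : S'.index = p) (hST : S' ≤ T) : T = S' ∨ T = ⊤ := by
  have h1 : T.index ∣ p := hidx ▸ Subgroup.index_dvd_of_le hST
  rcases (Nat.dvd_prime hp).mp h1 with h | h
  · right; exact Subgroup.index_eq_one.mp h
  · left
    symm
    apply Subgroup.eq_of_le_of_card_ge hST
    have h2 := Subgroup.card_mul_index T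
    have h3 := Subgroup.card_mul_index S'
    rw [h] at h2
    rw [hidx, ← h2] at h3
    exact (Nat.eq_of_mul_eq_mul_right hp.pos h3).ge

/-- Normal subgroups of `G'` above `O_{p'}(G)`, when `N_G(⟨x⟩) ≠ ⟨x⟩`. -/
theorem normal_between [Finite G] {p : ℕ} (hp : p.Prime) {x : G} (hx : orderOf x = p)
    (hC : Subgroup.centralizer ({x} : Set G) = Subgroup.zpowers x)
    (he : (Subgroup.zpowers x).relIndex
      (Subgroup.normalizer ((Subgroup.zpowers x : Subgroup G) : Set G)) ≠ 1)
    (D : Subgroup G) (hD : D = commutator G)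
    (T : Subgroup D) [hT : T.Normal]
    (hST : (pPrimeCore p G).subgroupOf D ≤ T) :
    T = (pPrimeCore p G).subgroupOf D ∨ T = ⊤ := by
  have hDn : D.Normal := by rw [hD]; infer_instance
  have hxD : x ∈ D := hD ▸ mem_commutator_of_relIndex_ne_one hp hx hC he
  set xD : D := ⟨x, hxD⟩ with hxD'
  have hxo : orderOf xD = p := orderOf_subtype hx D hxD
  have hCD : Subgroup.centralizer ({xD} : Set D) = Subgroup.zpowers xD := centralizer_subtype hC D hxD
  set S' := (pPrimeCore p G).subgroupOf D with hS'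
  have hcardS' : Nat.card S' = Nat.card (pPrimeCore p G) :=
    Nat.card_congr (Subgroup.subgroupOfEquivOfLe
      (hD ▸ le_commutator_of_not_dvd hp hx hC _ (not_dvd_card_pPrimeCore hp))).toEquiv
  have hpS' : ¬ p ∣ Nat.card S' := by rw [hcardS']; exact not_dvd_card_pPrimeCore hp
  by_cases hA : p ∣ Nat.card (⁅D, D⁆ : Subgroup G)
  · -- D is perfect
    have hxDD : x ∈ ⁅D, D⁆ := mem_of_dvd_card hp hx hC _ hA
    have hDDD : D ≤ ⁅D, D⁆ := by
      have := commutator_le_of_mem hp hx hC _ hxDD
      rwa [← hD] at this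
    have hperf : commutator D = ⊤ := by
      rw [eq_top_iff]
      intro d _
      have h1 : (d : G) ∈ ⁅D, D⁆ := hDDD d.2
      rw [← Subgroup.map_subtype_commutator] at h1
      obtain ⟨d', hd', hdd'⟩ := h1
      have : d' = d := Subtype.ext hdd'
      rwa [this] at hd'
    by_cases hpT : p ∣ Nat.card T
    · right
      have h1 : xD ∈ T := mem_of_dvd_card hp hxo hCD T hpT
      have h2 := commutator_le_of_mem hp hxo hCD T h1
      rw [hperf] at h2
      exact eq_top_iff.mpr h2
    · left
      apply le_antisymm _ hST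
      have h1 : T ≤ pPrimeCore p D := le_pPrimeCore hT (coprime_of_not_dvd hp hpT)
      have hnorm : ((pPrimeCore p D).map D.subtype).Normal :=
        ConjAct.normal_of_characteristic_of_normal
      have hcard : Nat.card ((pPrimeCore p D).map D.subtype) = Nat.card (pPrimeCore p D) :=
        Subgroup.card_map_of_injective D.subtype_injective
      have h2 : (pPrimeCore p D).map D.subtype ≤ pPrimeCore p G := by
        apply le_pPrimeCore hnorm
        rw [hcard]
        exact pPrimeCore_card_coprime p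
      intro t ht
      rw [hS', Subgroup.mem_subgroupOf]
      exact h2 ⟨t, h1 ht, rfl⟩
  · have hDD : ⁅D, D⁆ ≤ pPrimeCore p G :=
      le_pPrimeCore inferInstance (coprime_of_not_dvd hp hA)
    have hidx := index_subgroupOf_eq hp hx hC D (pPrimeCore p G) hxD hpS' hDD
    exact eq_or_eq_top_of_index_prime hp S' T hidx hST

end Cfsg.Agent.Lib.Helper75_SelfCent2
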