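import Mathlib
import Cfsg.Agent.Lib.Helper99_SpElt
import Cfsg.Agent.Lib.Helper78_KerAevalDim
import Cfsg.Agent.Lib.Helper99_InvSub
import Cfsg.Agent.Lib.Helper99_PrimeOrderSL

set_option autoImplicit false
set_option linter.unusedSectionVars false

/-!
Package S5980-PC (for helper43): a symplectic matrix of odd prime order `r` with a single pair of
blocks `[Λ, Λ^{-T}]` (`i = ord_r(q)` odd), together with a polynomial `w` with `rank w(A)` odd.
-/

namespace Cfsg.Agent.Lib.Helper75_SpAtomOdd

open Module Polynomial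
open Cfsg.Agent.Lib.Helper40_Palindromic Cfsg.Agent.Lib.Helper40_SpExist
  Cfsg.Agent.Lib.Helper40_SpPrimeOrder Cfsg.Agent.Lib.Helper40_PolyFactors
  Cfsg.Agent.Lib.Helper40_SpExistMatrix Cfsg.Agent.Lib.Helper40_PrimeOrderClasses
  Cfsg.Agent.Lib.Helper99_SpAtoms Cfsg.Agent.Lib.Helper99_PrimeOrderSL

/-- rank of `y - 1` plus dimension of the fixed space, any finite index type -/
theorem rank_sub_one_add_finrank' {F : Type*} [Field F] {ι : Type*} [Fintype ι] [DecidableEq ι]
    (y : Matrix ι ι F) :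
    (y - 1).rank + finrank F (Module.End.eigenspace
      (Matrix.toLin' y : Module.End F (ι → F)) 1) = Fintype.card ι := by
  set T : Module.End F (ι → F) := Matrix.toLin' y with hT
  have h1 := LinearMap.finrank_range_add_finrank_ker (T - 1)
  rw [Module.finrank_pi] at h1
  have h2 : (y - 1).rank = finrank F (LinearMap.range (T - 1)) := by
    have : (y - 1).mulVecLin = T - 1 := by
      rw [← Matrix.toLin'_apply', map_sub, Matrix.toLin'_one]
      rfl
    unfold Matrix.rank
    rw [this]
  have h3 : Module.End.eigenspace T 1 = LinearMap.ker (T - 1) := by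
    rw [Module.End.eigenspace_def, one_smul]
  rw [h2, h3]
  exact h1

/-- rank of a matrix plus the dimension of the kernel of its `toLin'` -/
theorem rank_add_finrank_ker {F : Type*} [Field F] {ι : Type*} [Fintype ι] [DecidableEq ι]
    (y : Matrix ι ι F) :
    y.rank + finrank F (LinearMap.ker (Matrix.toLin' y)) = Fintype.card ι := by
  have h1 := LinearMap.finrank_range_add_finrank_ker (Matrix.toLin' y)
  rw [Module.finrank_pi] at h1
  have h2 : y.rank = finrank F (LinearMap.range (Matrix.toLin' y)) := by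
    unfold Matrix.rank
    rw [← Matrix.toLin'_apply']
  rw [h2]
  exact h1

theorem exists_atom_elt_odd {F : Type*} [Field F] [Fintype F] {p : ℕ} [Fact p.Prime] [CharP F p]
    (d : ℕ) {r : ℕ} (hr : r.Prime) (hr2 : r ≠ 2) (hrp : r ≠ p)
    (hodd : Odd (orderOf ((Fintype.card F : ℕ) : ZMod r)))
    (hle : 2 * orderOf ((Fintype.card F : ℕ) : ZMod r) ≤ 2 * d) :
    ∃ A : Matrix (Fin d ⊕ Fin d) (Fin d ⊕ Fin d) F, A ∈ Matrix.symplecticGroup (Fin d) F ∧
      A ^ r = 1 ∧
      (A - 1).rank = 2 * orderOf ((Fintype.card F : ℕ) : ZMod r) ∧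
      ∃ w : F[X], Odd (Polynomial.aeval A w).rank := by
  classical
  have hrodd : Odd r := hr.odd_of_ne_two hr2
  obtain ⟨hipos, W, hWcard, hW1, -⟩ := exists_cyclotomic_factors (F := F) p r hr hrp
  set i := orderOf ((Fintype.card F : ℕ) : ZMod r) with hi
  have hq0 : ((Fintype.card F : ℕ) : ZMod r) ≠ 0 := by
    rw [Ne, ZMod.natCast_eq_zero_iff]
    intro h
    have hp : p.Prime := Fact.out
    obtain ⟨k, -, hk⟩ := FiniteField.card F p
    rw [hk] at h
    exact hrp ((Nat.prime_dvd_prime_iff_eq hr hp).1 (hr.dvd_of_dvd_pow h))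
  have : Fact r.Prime := ⟨hr⟩
  have hedvd : i ∣ r - 1 := ZMod.orderOf_dvd_card_sub_one hq0
  have hpos : 0 < r - 1 := by have := hr.two_le; omega
  have hWpos : 0 < W.card := by
    rw [hWcard]
    exact Nat.div_pos (Nat.le_of_dvd hpos hedvd) hipos
  obtain ⟨w, hwW⟩ := Finset.card_pos.1 hWpos
  obtain ⟨hwm, hwi, hw1, hwd, hwdeg⟩ := hW1 w hwW
  have hw0 : w.coeff 0 ≠ 0 := coeff_zero_ne_zero_of_dvd r hr.pos w hwd
  have hw11 : w.eval 1 ≠ 0 := eval_one_ne_zero w hwm hwi hw1
  have hne : recip w ≠ w :=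
    recip_ne_of_odd r hrodd w hwm hwi hw0 hw1 hwd (by rw [hwdeg]; exact hodd)
  have hrm : (recip w).Monic := recip_monic w hw0
  have hri : Irreducible (recip w) := irreducible_recip w hwi hw0
  have hrd : recip w ∣ X ^ r - 1 := by
    have := recip_dvd hwd
    rwa [recip_X_pow_sub_one r hr.pos] at this
  have hcop : IsCoprime w (recip w) :=
    isCoprime_of_monic_irreducible_ne hwi hwm hri hrm (Ne.symm hne)
  have hX1 : ((X : F[X]) - 1) = X - C 1 := by rw [map_one]
  have hX1m : ((X : F[X]) - 1).Monic := by rw [hX1]; exact monic_X_sub_C 1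
  have hX1i : Irreducible ((X : F[X]) - 1) := by rw [hX1]; exact irreducible_X_sub_C 1
  have hr1 : recip w ≠ X - 1 := by
    intro h
    apply hw1
    have h2 := congrArg recip h
    rwa [recip_recip w hwm hw0, recip_X_sub_one] at h2
  have hrw11 : (recip w).eval 1 ≠ 0 := eval_one_ne_zero (recip w) hrm hri hr1
  have hcop1 : IsCoprime w ((X : F[X]) - 1) :=
    isCoprime_of_monic_irreducible_ne hwi hwm hX1i hX1m hw1
  set m := 2 * d - 2 * i with hm
  have hme : Even m := by
    rw [hm, Nat.even_sub hle]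
    exact ⟨fun _ => even_two_mul i, fun _ => even_two_mul d⟩
  set f : F[X] := (X - 1) ^ m * (w * recip w) with hf
  have hfm : f.Monic := (hX1m.pow m).mul (hwm.mul hrm)
  have hfdeg : f.natDegree = 2 * d := by
    rw [hf, (hX1m.pow m).natDegree_mul (hwm.mul hrm), hX1m.natDegree_pow, hwm.natDegree_mul hrm,
      recip_natDegree w hw0, hwdeg, hX1, natDegree_X_sub_C, mul_one]
    omega
  have hfrev : f.reverse = f := by
    rw [hf, reverse_mul_of_domain, reverse_X_sub_one_pow m hme, reverse_mul_recip w hwm hw0]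
  obtain ⟨A, hA, hch, hk⟩ := exists_sp_matrix d f hfm hfdeg hfrev
  have hX1d : ((X : F[X]) - 1) ∣ X ^ r - 1 := by
    have := sub_dvd_pow_sub_pow (X : F[X]) 1 r
    rwa [one_pow] at this
  have hAr : A ^ r = 1 := by
    have h1 := hk (X ^ r - 1) (by
      intro g hg hgf
      rw [hf] at hgf
      rcases hg.prime.dvd_or_dvd hgf with h | h
      · exact (hg.prime.dvd_of_dvd_pow h).trans hX1d
      · rcases hg.prime.dvd_or_dvd h with h | h
        · exact h.trans hwd
        · exact h.trans hrd)
    rw [map_sub, map_pow, aeval_X, map_one, sub_eq_zero] at h1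
    exact h1
  set T : Module.End F (Fin d ⊕ Fin d → F) := Matrix.toLin' A with hT
  have hTr : T ^ r = 1 := by
    rw [hT, ← Matrix.toLin'_pow, hAr, Matrix.toLin'_one]
    rfl
  have hrF : ((r : ℕ) : F) ≠ 0 := natCast_ne_zero hr hrp
  have hss : T.IsSemisimple := isSemisimple_of_pow_eq_one T r hrF hTr
  have hcard : Fintype.card (Fin d ⊕ Fin d) = 2 * d := by
    rw [Fintype.card_sum, Fintype.card_fin, two_mul]
  have hfix : finrank F (Module.End.eigenspace T 1) = m := by
    rw [← hss.isFinitelySemisimple.maxGenEigenspace_eq_eigenspace,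
      LinearMap.finrank_maxGenEigenspace_eq, hT, Matrix.charpoly_toLin', hch, hf,
      rootMultiplicity_mul (by rw [← hf]; exact hfm.ne_zero), hX1, rootMultiplicity_X_sub_C_pow,
      rootMultiplicity_eq_zero, add_zero]
    rw [IsRoot.def, eval_mul]
    exact mul_ne_zero hw11 hrw11
  have hrank1 : (A - 1).rank = 2 * i := by
    have h := rank_sub_one_add_finrank' A
    rw [← hT, hfix, hcard] at h
    omega
  refine ⟨A, hA, hAr, hrank1, w, ?_⟩
  -- the kernel of `w(T)`
  set K : Submodule F (Fin d ⊕ Fin d → F) := LinearMap.ker (aeval T w) with hK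
  have hχ : T.charpoly = w ^ 1 * ((X - 1) ^ m * recip w) := by
    rw [hT, Matrix.charpoly_toLin', hch, hf, pow_one]
    ring
  have hcopg : IsCoprime w ((X - 1) ^ m * recip w) :=
    IsCoprime.mul_right (hcop1.pow_right) hcop
  have hKle : finrank F K ≤ i := by
    have := Cfsg.Agent.Lib.Helper78_KerAevalDim.finrank_ker_aeval_le T hss w
      ((X - 1) ^ m * recip w) hwi 1 hcopg hχ
    rwa [hwdeg, mul_one] at this
  have hKne : K ≠ ⊥ := by
    obtain ⟨v, hv0, hv⟩ := Cfsg.Agent.Lib.Helper40_Semisimple.exists_ne_zero_aeval_eq_zero T w hwi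
      (by rw [hχ, pow_one]; exact dvd_mul_right _ _)
    intro hbot
    have : v ∈ K := by rw [hK, LinearMap.mem_ker]; exact hv
    rw [hbot, Submodule.mem_bot] at this
    exact hv0 this
  have hKinv : K ∈ T.invtSubmodule := by
    rw [Module.End.mem_invtSubmodule]
    intro x hx
    rw [Submodule.mem_comap, hK, LinearMap.mem_ker] at *
    have h1 : aeval T w (T x) = (aeval T (w * X)) x := by
      rw [map_mul, aeval_X, Module.End.mul_apply]
    have h2 : (aeval T (w * X)) x = T (aeval T w x) := by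
      rw [mul_comm, map_mul, aeval_X, Module.End.mul_apply]
    rw [h1, h2, hx, map_zero]
  have hKdisj : Disjoint K (Module.End.eigenspace T 1) := by
    rw [Submodule.disjoint_def]
    intro x hxK hxE
    rw [hK, LinearMap.mem_ker] at hxK
    rw [Module.End.mem_eigenspace_iff, one_smul] at hxE
    by_contra hx0
    have hev : T.HasEigenvector 1 x := ⟨by rw [Module.End.mem_eigenspace_iff, one_smul]; exact hxE, hx0⟩
    have h3 := Module.End.aeval_apply_of_hasEigenvector (p := w) hev
    rw [hxK] at h3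
    rcases smul_eq_zero.1 h3.symm with h | h
    · exact hw11 h
    · exact hx0 h
  have hdvd : i ∣ finrank F K :=
    Cfsg.Agent.Lib.Helper99_InvSub.dvd_finrank_of_disjoint hss hipos
      (hasBlocks_of_pow_eq_one (p := p) T hr hrp hTr) _ K rfl hKinv hKdisj
  have hKpos : 0 < finrank F K := by
    rw [Module.finrank_pos_iff_exists_ne_zero]
    obtain ⟨v, hv, hv0⟩ := Submodule.exists_mem_ne_zero_of_ne_bot hKne
    exact ⟨⟨v, hv⟩, fun h => hv0 (congrArg Subtype.val h)⟩
  have hKeq : finrank F K = i := le_antisymm hKle (Nat.le_of_dvd hKpos hdvd)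
  have hrankw : (aeval A w).rank + i = 2 * d := by
    have h := rank_add_finrank_ker (aeval A w)
    rw [← aeval_toLin'', ← hT, ← hK, hKeq, hcard] at h
    exact h
  obtain ⟨k, hk2⟩ := hodd
  refine ⟨d - k - 1, ?_⟩
  omega

end Cfsg.Agent.Lib.Helper75_SpAtomOdd
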