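import Mathlib

set_option autoImplicit false

/-!
Package P1 for S5955 (helper99): an isometry `X` of a nondegenerate alternating form over a finite
field of odd characteristic with `X ∘ X = z • id`, `z = ± 1`, leaves invariant a totally isotropic
subspace of every dimension `m ≤ (dim V) / 2`, provided `z = 1`, or `m` is even, or `q ≡ 1 (4)`.
-/

namespace Cfsg.Agent.Lib.Helper75_SpInvTI

open Module

variable {F : Type*} [Field F] {V : Type*} [AddCommGroup V] [Module F V]

/-- `U` is totally isotropic for `B` and `X`-invariant -/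
def Good (B : LinearMap.BilinForm F V) (X : Module.End F V) (U : Submodule F V) : Prop :=
  (∀ u ∈ U, ∀ v ∈ U, B u v = 0) ∧ ∀ w ∈ U, X w ∈ U

theorem skew_of_alt {B : LinearMap.BilinForm F V} (halt : ∀ v, B v v = 0) (x y : V) :
    B x y = - B y x := by
  have h1 := halt (x + y)
  simp only [map_add, LinearMap.add_apply, halt x, halt y, zero_add, add_zero] at h1
  exact eq_neg_of_add_eq_zero_right h1

theorem good_bot (B : LinearMap.BilinForm F V) (X : Module.End F V) : Good B X ⊥ := by
  refine ⟨?_, ?_⟩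
  · intro u hu v _
    rw [(Submodule.mem_bot F).1 hu, map_zero, LinearMap.zero_apply]
  · intro w hw
    rw [(Submodule.mem_bot F).1 hw, map_zero]
    exact Submodule.zero_mem _

theorem good_sup {B : LinearMap.BilinForm F V} {X : Module.End F V} (halt : ∀ v, B v v = 0)
    {U S : Submodule F V} (hU : Good B X U) (hS : Good B X S)
    (hUS : ∀ u ∈ U, ∀ s ∈ S, B u s = 0) : Good B X (U ⊔ S) := by
  refine ⟨?_, ?_⟩
  · intro a ha b hb
    obtain ⟨u, hu, s, hs, rfl⟩ := Submodule.mem_sup.1 ha
    obtain ⟨u', hu', s', hs', rfl⟩ := Submodule.mem_sup.1 hb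
    have h1 : B s u' = 0 := by rw [skew_of_alt halt, hUS u' hu' s hs, neg_zero]
    simp only [map_add, LinearMap.add_apply, hU.1 u hu u' hu', hUS u hu s' hs', h1,
      hS.1 s hs s' hs', add_zero]
  · intro w hw
    obtain ⟨u, hu, s, hs, rfl⟩ := Submodule.mem_sup.1 hw
    rw [map_add]
    exact Submodule.add_mem_sup (hU.2 u hu) (hS.2 s hs)

theorem good_span_singleton {B : LinearMap.BilinForm F V} {X : Module.End F V}
    (halt : ∀ v, B v v = 0) {v : V} {μ : F} (hv : X v = μ • v) :
    Good B X (Submodule.span F {v}) := by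
  refine ⟨?_, ?_⟩
  · intro a ha b hb
    obtain ⟨c, rfl⟩ := Submodule.mem_span_singleton.1 ha
    obtain ⟨d, rfl⟩ := Submodule.mem_span_singleton.1 hb
    simp only [map_smul, LinearMap.smul_apply, halt v, smul_zero]
  · intro w hw
    obtain ⟨c, rfl⟩ := Submodule.mem_span_singleton.1 hw
    rw [map_smul, hv, smul_comm]
    exact Submodule.smul_mem _ _ (Submodule.smul_mem _ _ (Submodule.mem_span_singleton_self v))

theorem good_span_pair {B : LinearMap.BilinForm F V} {X : Module.End F V}
    (halt : ∀ v, B v v = 0) {z : F} (hX : ∀ v, X (X v) = z • v) {v : V}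
    (hv : B v (X v) = 0) : Good B X (Submodule.span F {v, X v}) := by
  have hv' : B (X v) v = 0 := by rw [skew_of_alt halt, hv, neg_zero]
  refine ⟨?_, ?_⟩
  · intro a ha b hb
    obtain ⟨c, d, rfl⟩ := Submodule.mem_span_pair.1 ha
    obtain ⟨c', d', rfl⟩ := Submodule.mem_span_pair.1 hb
    simp only [map_add, map_smul, LinearMap.add_apply, LinearMap.smul_apply, halt v, halt (X v),
      hv, hv', smul_zero, add_zero]
  · intro w hw
    obtain ⟨c, d, rfl⟩ := Submodule.mem_span_pair.1 hw
    rw [map_add, map_smul, map_smul, hX]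
    refine Submodule.add_mem _ (Submodule.smul_mem _ _ (Submodule.subset_span ?_))
      (Submodule.smul_mem _ _ (Submodule.smul_mem _ _ (Submodule.subset_span ?_)))
    · exact Set.mem_insert_of_mem _ rfl
    · exact Set.mem_insert _ _

/-- the orthogonal of an invariant subspace is invariant -/
theorem orth_inv {B : LinearMap.BilinForm F V} {X : Module.End F V} {z : F} (hzz : z * z = 1)
    (hX : ∀ v, X (X v) = z • v) (hiso : ∀ u v, B (X u) (X v) = B u v) {U : Submodule F V}
    (hU : ∀ w ∈ U, X w ∈ U) {y : V} (hy : ∀ u ∈ U, B u y = 0) : ∀ u ∈ U, B u (X y) = 0 := by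
  intro u hu
  have h1 : X (z • X u) = u := by rw [map_smul, hX, smul_smul, hzz, one_smul]
  rw [← h1, hiso]
  exact hy _ (U.smul_mem z (hU u hu))

theorem exists_orth_not_mem [FiniteDimensional F V] {B : LinearMap.BilinForm F V}
    (hB : B.Nondegenerate) {U : Submodule F V} (hlt : 2 * finrank F U < finrank F V) :
    ∃ v, (∀ u ∈ U, B u v = 0) ∧ v ∉ U := by
  by_contra hcon
  push Not at hcon
  have hle : B.orthogonal U ≤ U := by
    intro v hv
    exact hcon v (fun u hu => (LinearMap.BilinForm.mem_orthogonal_iff.1 hv) u hu)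
  have h1 := Submodule.finrank_mono hle
  rw [LinearMap.BilinForm.finrank_orthogonal hB] at h1
  omega

theorem finrank_sup_span_singleton [FiniteDimensional F V] {U : Submodule F V} {w : V}
    (hw : w ∉ U) : finrank F ↥(U ⊔ Submodule.span F {w}) = finrank F U + 1 := by
  have hw0 : w ≠ 0 := by
    rintro rfl
    exact hw U.zero_mem
  have h := Submodule.finrank_sup_add_finrank_inf_eq U (Submodule.span F {w})
  have hd : U ⊓ Submodule.span F {w} = ⊥ :=
    disjoint_iff.1 ((Submodule.disjoint_span_singleton' hw0).2 hw)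
  rw [hd, finrank_bot, add_zero, finrank_span_singleton hw0] at h
  exact h

theorem step_singleton [FiniteDimensional F V] {B : LinearMap.BilinForm F V} {X : Module.End F V}
    (halt : ∀ v, B v v = 0) {U : Submodule F V} (hU : Good B X U) {w : V} {μ : F}
    (hw : X w = μ • w) (horth : ∀ u ∈ U, B u w = 0) (hwU : w ∉ U) :
    ∃ U', Good B X U' ∧ finrank F U' = finrank F U + 1 := by
  refine ⟨U ⊔ Submodule.span F {w}, good_sup halt hU (good_span_singleton halt hw) ?_,
    finrank_sup_span_singleton hwU⟩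
  intro u hu s hs
  obtain ⟨c, rfl⟩ := Submodule.mem_span_singleton.1 hs
  rw [map_smul, horth u hu, smul_zero]

theorem exists_eigen_step [FiniteDimensional F V] {B : LinearMap.BilinForm F V}
    {X : Module.End F V} (h2 : (2 : F) ≠ 0) (halt : ∀ v, B v v = 0) (hB : B.Nondegenerate)
    {z ε : F} (hzz : z * z = 1) (hε : ε * ε = z) (hX : ∀ v, X (X v) = z • v)
    (hiso : ∀ u v, B (X u) (X v) = B u v) {U : Submodule F V} (hU : Good B X U)
    (hlt : 2 * finrank F U < finrank F V) :
    ∃ U', Good B X U' ∧ finrank F U' = finrank F U + 1 := by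
  obtain ⟨v, hv, hvU⟩ := exists_orth_not_mem hB hlt
  have hXv := orth_inv hzz hX hiso hU.2 hv
  have hε0 : ε ≠ 0 := by
    rintro rfl
    rw [mul_zero] at hε
    rw [← hε, mul_zero] at hzz
    exact zero_ne_one hzz
  by_cases hp : X v + ε • v ∈ U
  · -- then `X v - ε • v ∉ U`
    have hm : X v - ε • v ∉ U := by
      intro hm
      apply hvU
      have h3 : (2 * ε) • v ∈ U := by
        have : (2 * ε) • v = (X v + ε • v) - (X v - ε • v) := by
          rw [mul_smul, two_smul]; abel
        rw [this]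
        exact U.sub_mem hp hm
      have h4 := U.smul_mem (2 * ε)⁻¹ h3
      rwa [smul_smul, inv_mul_cancel₀ (mul_ne_zero h2 hε0), one_smul] at h4
    refine step_singleton halt hU (w := X v - ε • v) (μ := -ε) ?_ ?_ hm
    · rw [map_sub, map_smul, hX, ← hε, smul_sub, neg_smul, neg_smul, smul_smul]
      abel
    · intro u hu
      rw [map_sub, map_smul, hXv u hu, hv u hu, smul_zero, sub_zero]
  · refine step_singleton halt hU (w := X v + ε • v) (μ := ε) ?_ ?_ hp
    · rw [map_add, map_smul, hX, ← hε, smul_add, smul_smul]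
      abel
    · intro u hu
      rw [map_add, map_smul, hXv u hu, hv u hu, smul_zero, add_zero]

theorem exists_good_eigen [FiniteDimensional F V] {B : LinearMap.BilinForm F V}
    {X : Module.End F V} (h2 : (2 : F) ≠ 0) (halt : ∀ v, B v v = 0) (hB : B.Nondegenerate)
    {z ε : F} (hzz : z * z = 1) (hε : ε * ε = z) (hX : ∀ v, X (X v) = z • v)
    (hiso : ∀ u v, B (X u) (X v) = B u v) (m : ℕ) (hm : 2 * m ≤ finrank F V) :
    ∀ j ≤ m, ∃ U, Good B X U ∧ finrank F U = j := by
  intro j
  induction j with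
  | zero => exact fun _ => ⟨⊥, good_bot B X, finrank_bot F V⟩
  | succ j ih =>
    intro hj
    obtain ⟨U, hU, hUj⟩ := ih (by omega)
    obtain ⟨U', hU', h'⟩ := exists_eigen_step h2 halt hB hzz hε hX hiso hU (by omega)
    exact ⟨U', hU', by omega⟩

/-! ### isotropic vectors of symmetric forms in dimension at least three -/

theorem exists_ne_zero_of_finrank_lt [FiniteDimensional F V] {W : Type*} [AddCommGroup W]
    [Module F W] [FiniteDimensional F W] (C : Submodule F V) (φ : V →ₗ[F] W)
    (h : finrank F W < finrank F C) : ∃ v ∈ C, v ≠ 0 ∧ φ v = 0 := by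
  have hni : ¬ Function.Injective (φ.domRestrict C) := by
    intro hinj
    have := LinearMap.finrank_le_finrank_of_injective hinj
    omega
  rw [← LinearMap.ker_eq_bot, Submodule.eq_bot_iff] at hni
  push Not at hni
  obtain ⟨x, hx, hx0⟩ := hni
  refine ⟨x.1, x.2, ?_, ?_⟩
  · intro h0
    exact hx0 (Subtype.ext h0)
  · simpa using hx

theorem exists_isotropic [Fintype F] [FiniteDimensional F V] (h2 : (2 : F) ≠ 0)
    (g : LinearMap.BilinForm F V) (hsymm : ∀ u v, g u v = g v u) (C : Submodule F V)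
    (hC : 3 ≤ finrank F C) : ∃ v ∈ C, v ≠ 0 ∧ g v v = 0 := by
  classical
  by_cases h1 : ∀ v ∈ C, g v v = 0
  · obtain ⟨v, hvC, hv0, -⟩ := exists_ne_zero_of_finrank_lt C (0 : V →ₗ[F] F)
      (by rw [finrank_self]; omega)
    exact ⟨v, hvC, hv0, h1 v hvC⟩
  push Not at h1
  obtain ⟨e1, he1C, ha⟩ := h1
  by_cases h2' : ∀ v ∈ C, g e1 v = 0 → g v v = 0
  · obtain ⟨v, hvC, hv0, hv⟩ := exists_ne_zero_of_finrank_lt C (g e1)
      (by rw [finrank_self]; omega)
    exact ⟨v, hvC, hv0, h2' v hvC hv⟩
  push Not at h2'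
  obtain ⟨e2, he2C, h12, hb⟩ := h2'
  obtain ⟨e3, he3C, he30, he3⟩ := exists_ne_zero_of_finrank_lt C ((g e1).prod (g e2))
    (by rw [finrank_prod, finrank_self]; omega)
  have h13 : g e1 e3 = 0 := by
    have := congrArg Prod.fst he3
    simpa using this
  have h23 : g e2 e3 = 0 := by
    have := congrArg Prod.snd he3
    simpa using this
  by_cases h3 : g e3 e3 = 0
  · exact ⟨e3, he3C, he30, h3⟩
  have hchar : ringChar F ≠ 2 := by
    intro h
    have h' := CharP.cast_eq_zero F (ringChar F)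
    rw [h] at h'
    exact h2 (by exact_mod_cast h')
  have hcard : Fintype.card F % 2 = 1 := FiniteField.odd_card_of_char_ne_two hchar
  have hf2 : (Polynomial.C (g e1 e1) * Polynomial.X ^ 2 + Polynomial.C (g e3 e3)).degree = 2 := by
    rw [Polynomial.degree_add_C, Polynomial.degree_C_mul_X_pow 2 ha]
    · rfl
    · rw [Polynomial.degree_C_mul_X_pow 2 ha]
      exact Nat.cast_pos.2 (by norm_num)
  have hg2 : (Polynomial.C (g e2 e2) * Polynomial.X ^ 2).degree = 2 := by
    rw [Polynomial.degree_C_mul_X_pow 2 hb]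
    rfl
  obtain ⟨x, y, hxy⟩ := FiniteField.exists_root_sum_quadratic hf2 hg2 hcard
  simp only [Polynomial.eval_add, Polynomial.eval_mul, Polynomial.eval_C, Polynomial.eval_pow,
    Polynomial.eval_X] at hxy
  have h21 : g e2 e1 = 0 := by rw [hsymm, h12]
  have h31 : g e3 e1 = 0 := by rw [hsymm, h13]
  have h32 : g e3 e2 = 0 := by rw [hsymm, h23]
  refine ⟨x • e1 + y • e2 + e3, C.add_mem (C.add_mem (C.smul_mem _ he1C) (C.smul_mem _ he2C)) he3C,
    ?_, ?_⟩
  · intro h0
    have h4 : g (x • e1 + y • e2 + e3) e3 = 0 := by rw [h0, map_zero, LinearMap.zero_apply]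
    simp only [map_add, map_smul, LinearMap.add_apply, LinearMap.smul_apply, h13, h23, smul_zero,
      zero_add] at h4
    exact h3 h4
  · simp only [map_add, map_smul, LinearMap.add_apply, LinearMap.smul_apply, h12, h13, h23, h21,
      h31, h32, smul_zero, add_zero, zero_add, smul_eq_mul]
    linear_combination hxy

/-! ### the step for `z = -1`, `-1` a non-square -/

theorem exists_Q_vec [Fintype F] [FiniteDimensional F V] {B : LinearMap.BilinForm F V}
    {X : Module.End F V} (h2 : (2 : F) ≠ 0) (halt : ∀ v, B v v = 0) (hB : B.Nondegenerate)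
    (hX : ∀ v, X (X v) = (-1 : F) • v) (hiso : ∀ u v, B (X u) (X v) = B u v)
    {U : Submodule F V} (hdim : 2 * finrank F U + 3 ≤ finrank F V) :
    ∃ v, (∀ u ∈ U, B u v = 0) ∧ v ∉ U ∧ B v (X v) = 0 := by
  obtain ⟨C', hC'⟩ := Submodule.exists_isCompl U
  have hsymm : ∀ u v, (B.compl₂ X) u v = (B.compl₂ X) v u := by
    intro u v
    rw [LinearMap.compl₂_apply, LinearMap.compl₂_apply, ← hiso u (X v), hX, map_smul, neg_smul,
      one_smul, ← skew_of_alt halt]
  have hCdim : 3 ≤ finrank F ↥(C' ⊓ B.orthogonal U) := by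
    have e1 := Submodule.finrank_sup_add_finrank_inf_eq C' (B.orthogonal U)
    have e2 := Submodule.finrank_add_eq_of_isCompl hC'
    have e3 := LinearMap.BilinForm.finrank_orthogonal hB U
    have e4 := Submodule.finrank_le (C' ⊔ B.orthogonal U)
    omega
  obtain ⟨v, hvC, hv0, hv⟩ := exists_isotropic h2 (B.compl₂ X) hsymm _ hCdim
  refine ⟨v, ?_, ?_, ?_⟩
  · intro u hu
    exact (LinearMap.BilinForm.mem_orthogonal_iff.1 hvC.2) u hu
  · intro hvU
    apply hv0
    have : v ∈ U ⊓ C' := ⟨hvU, hvC.1⟩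
    rwa [hC'.inf_eq_bot, Submodule.mem_bot] at this
  · rwa [LinearMap.compl₂_apply] at hv

theorem step_pair [FiniteDimensional F V] {B : LinearMap.BilinForm F V} {X : Module.End F V}
    (halt : ∀ v, B v v = 0) (hX : ∀ v, X (X v) = (-1 : F) • v)
    (hiso : ∀ u v, B (X u) (X v) = B u v) (hns : ¬ IsSquare (-1 : F)) {U : Submodule F V}
    (hU : Good B X U) {v : V} (horth : ∀ u ∈ U, B u v = 0) (hvU : v ∉ U)
    (hQ : B v (X v) = 0) : ∃ U', Good B X U' ∧ finrank F U' = finrank F U + 2 := by
  have hzz : (-1 : F) * (-1) = 1 := by ring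
  have hXv := orth_inv hzz hX hiso hU.2 horth
  have h2nd : X v ∉ U ⊔ Submodule.span F {v} := by
    intro hmem
    obtain ⟨u, hu, s, hs, hx⟩ := Submodule.mem_sup.1 hmem
    obtain ⟨c, rfl⟩ := Submodule.mem_span_singleton.1 hs
    have e1 : X (X v) = X u + c • (u + c • v) := by
      conv_lhs => rw [← hx]
      rw [map_add, map_smul, ← hx]
    rw [hX v] at e1
    have e2 : (c * c + 1) • v = -(X u + c • u) := by
      rw [add_smul, one_smul, mul_smul]
      have e3 : v = -(X u + c • (u + c • v)) := by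
        rw [← e1, neg_smul, one_smul, neg_neg]
      conv_lhs => rw [add_comm]; arg 1; rw [e3]
      rw [smul_add]; abel
    have e4 : (c * c + 1) • v ∈ U := by
      rw [e2]
      exact U.neg_mem (U.add_mem (hU.2 u hu) (U.smul_mem c hu))
    by_cases hc : c * c + 1 = 0
    · exact hns ⟨c, by linear_combination -hc⟩
    · apply hvU
      have := U.smul_mem (c * c + 1)⁻¹ e4
      rwa [smul_smul, inv_mul_cancel₀ hc, one_smul] at this
  refine ⟨U ⊔ Submodule.span F {v, X v}, good_sup halt hU (good_span_pair halt hX hQ) ?_, ?_⟩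
  · intro u hu s hs
    obtain ⟨c, d, rfl⟩ := Submodule.mem_span_pair.1 hs
    rw [map_add, map_smul, map_smul, horth u hu, hXv u hu, smul_zero, smul_zero, add_zero]
  · rw [Submodule.span_insert, ← sup_assoc, finrank_sup_span_singleton h2nd,
      finrank_sup_span_singleton hvU]

theorem exists_good_pair [Fintype F] [FiniteDimensional F V] {B : LinearMap.BilinForm F V}
    {X : Module.End F V} (h2 : (2 : F) ≠ 0) (halt : ∀ v, B v v = 0) (hB : B.Nondegenerate)
    (hX : ∀ v, X (X v) = (-1 : F) • v) (hiso : ∀ u v, B (X u) (X v) = B u v)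
    (hns : ¬ IsSquare (-1 : F)) (t : ℕ) (ht : 4 * t ≤ finrank F V) :
    ∀ j ≤ t, ∃ U, Good B X U ∧ finrank F U = 2 * j := by
  intro j
  induction j with
  | zero => exact fun _ => ⟨⊥, good_bot B X, finrank_bot F V⟩
  | succ j ih =>
    intro hj
    obtain ⟨U, hU, hUj⟩ := ih (by omega)
    obtain ⟨v, hv, hvU, hQ⟩ := exists_Q_vec (U := U) h2 halt hB hX hiso (by omega)
    obtain ⟨U', hU', h'⟩ := step_pair halt hX hiso hns hU hv hvU hQ
    exact ⟨U', hU', by omega⟩

/-- **Package P1 (helper99, S5955).** -/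
theorem exists_ti_invariant_of_sq {F : Type*} [Field F] [Fintype F] (h2 : (2 : F) ≠ 0)
    {V : Type*} [AddCommGroup V] [Module F V] [FiniteDimensional F V]
    (B : LinearMap.BilinForm F V) (halt : ∀ v, B v v = 0) (hB : B.Nondegenerate)
    (X : Module.End F V) (z : F) (hz : z = 1 ∨ z = -1) (hX : ∀ v, X (X v) = z • v)
    (hiso : ∀ u v, B (X u) (X v) = B u v)
    (m : ℕ) (hm : 2 * m ≤ Module.finrank F V)
    (hcond : z = 1 ∨ Even m ∨ Fintype.card F % 4 = 1) :
    ∃ W : Submodule F V, Module.finrank F W = m ∧ (∀ u ∈ W, ∀ v ∈ W, B u v = 0) ∧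
      ∀ w ∈ W, X w ∈ W := by
  have hzz : z * z = 1 := by
    rcases hz with rfl | rfl <;> ring
  -- the case where `z` is a square
  have hsq : ∀ ε : F, ε * ε = z → ∃ W : Submodule F V, Module.finrank F W = m ∧
      (∀ u ∈ W, ∀ v ∈ W, B u v = 0) ∧ ∀ w ∈ W, X w ∈ W := by
    intro ε hε
    obtain ⟨U, hU, hUm⟩ := exists_good_eigen h2 halt hB hzz hε hX hiso m hm m le_rfl
    exact ⟨U, hUm, hU.1, hU.2⟩
  by_cases hz1 : z = 1
  · exact hsq 1 (by rw [hz1, mul_one])
  have hzm : z = -1 := hz.resolve_left hz1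
  by_cases hs : IsSquare (-1 : F)
  · obtain ⟨ι, hι⟩ := hs
    exact hsq ι (by rw [hzm, hι])
  -- now `-1` is a non-square, so `q ≡ 3 (4)` and `m` is even
  have hq : Fintype.card F % 4 = 3 := by
    by_contra hq
    exact hs (FiniteField.isSquare_neg_one_iff.2 hq)
  have hev : Even m := by
    rcases hcond with h | h | h
    · exact absurd h hz1
    · exact h
    · omega
  obtain ⟨t, ht⟩ := hev
  subst hzm
  obtain ⟨U, hU, hUm⟩ := exists_good_pair h2 halt hB hX hiso hs t (by omega) t le_rfl
  exact ⟨U, by omega, hU.1, hU.2⟩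

end Cfsg.Agent.Lib.Helper75_SpInvTI
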