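import Mathlib
import Cfsg.Agent.S5961
import Cfsg.Agent.Lib.Helper75_SpInvTI

set_option autoImplicit false

/-!
Package Q2 for S5956 (helper99): in odd characteristic, a symplectic matrix whose square is scalar
fixes a nondegenerate subspace of every even dimension.
-/

namespace Cfsg.Agent.Lib.Helper75_SpND_Q2

open Module Cfsg.Agent.Lib.Helper40_SpBasic Cfsg.Agent.Lib.Helper75_SpInvTI

section Abstract

variable {F : Type*} [Field F] {V : Type*} [AddCommGroup V] [Module F V]

/-- extension of a nondegenerate invariant subspace by an invariant plane in its orthogonal -/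
theorem extend_pair [FiniteDimensional F V] {B : LinearMap.BilinForm F V} {X : Module.End F V}
    (halt : ∀ v, B v v = 0) {N : Submodule F V} (hNnd : NDOn B N) (hNinv : ∀ w ∈ N, X w ∈ N)
    {a b : V} (ha : ∀ n ∈ N, B n a = 0) (hb : ∀ n ∈ N, B n b = 0) (hab : B a b ≠ 0)
    (hXa : X a ∈ Submodule.span F {a, b}) (hXb : X b ∈ Submodule.span F {a, b}) :
    ∃ N' : Submodule F V, finrank F N' = finrank F N + 2 ∧ NDOn B N' ∧ ∀ w ∈ N', X w ∈ N' := by
  have ha' : ∀ n ∈ N, B a n = 0 := fun n hn => by rw [skew_of_alt halt, ha n hn, neg_zero]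
  have hb' : ∀ n ∈ N, B b n = 0 := fun n hn => by rw [skew_of_alt halt, hb n hn, neg_zero]
  have hba : B b a ≠ 0 := by
    rw [skew_of_alt halt]
    exact neg_ne_zero.2 hab
  have haN : a ∉ N := by
    intro h
    apply hab
    rw [hNnd a h (fun v hv => ha' v hv), map_zero, LinearMap.zero_apply]
  have hbN : b ∉ N ⊔ Submodule.span F {a} := by
    intro h
    obtain ⟨n, hn, s, hs, rfl⟩ := Submodule.mem_sup.1 h
    obtain ⟨c, rfl⟩ := Submodule.mem_span_singleton.1 hs
    apply hab
    rw [map_add, map_smul, ha' n hn, halt a, smul_zero, add_zero]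
  refine ⟨N ⊔ Submodule.span F {a, b}, ?_, ?_, ?_⟩
  · rw [Submodule.span_insert, ← sup_assoc, finrank_sup_span_singleton hbN,
      finrank_sup_span_singleton haN]
  · intro x hx hxy
    obtain ⟨n, hn, s, hs, rfl⟩ := Submodule.mem_sup.1 hx
    obtain ⟨α, β, rfl⟩ := Submodule.mem_span_pair.1 hs
    have hn0 : n = 0 := by
      apply hNnd n hn
      intro y hy
      have := hxy y (Submodule.mem_sup_left hy)
      simpa only [map_add, map_smul, LinearMap.add_apply, LinearMap.smul_apply, ha' y hy,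
        hb' y hy, smul_zero, add_zero] using this
    have hamem : a ∈ N ⊔ Submodule.span F {a, b} :=
      Submodule.mem_sup_right (Submodule.subset_span (Set.mem_insert _ _))
    have hbmem : b ∈ N ⊔ Submodule.span F {a, b} :=
      Submodule.mem_sup_right (Submodule.subset_span (Set.mem_insert_of_mem _ rfl))
    have h1 := hxy a hamem
    have h2 := hxy b hbmem
    simp only [hn0, zero_add, map_add, map_smul, LinearMap.add_apply, LinearMap.smul_apply,
      halt a, halt b, smul_zero, add_zero, zero_add, smul_eq_mul, mul_zero] at h1 h2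
    have hβ : β = 0 := (mul_eq_zero.1 h1).resolve_right hba
    have hα : α = 0 := (mul_eq_zero.1 h2).resolve_right hab
    rw [hn0, hα, hβ, zero_smul, zero_smul, add_zero, add_zero]
  · intro w hw
    obtain ⟨n, hn, s, hs, rfl⟩ := Submodule.mem_sup.1 hw
    obtain ⟨α, β, rfl⟩ := Submodule.mem_span_pair.1 hs
    rw [map_add, map_add, map_smul, map_smul]
    exact Submodule.add_mem_sup (hNinv n hn)
      (Submodule.add_mem _ (Submodule.smul_mem _ _ hXa) (Submodule.smul_mem _ _ hXb))

/-- an invariant plane carrying a nonzero value of the form, inside a nonzero nondegenerate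
invariant subspace -/
theorem exists_pair {B : LinearMap.BilinForm F V} {X : Module.End F V} (h2 : (2 : F) ≠ 0)
    (halt : ∀ v, B v v = 0) {z : F} (hz : z = 1 ∨ z = -1) (hX : ∀ v, X (X v) = z • v)
    (hiso : ∀ u v, B (X u) (X v) = B u v) {M : Submodule F V} (hMnd : NDOn B M)
    (hMinv : ∀ w ∈ M, X w ∈ M) (hM0 : M ≠ ⊥) :
    ∃ a ∈ M, ∃ b ∈ M, B a b ≠ 0 ∧ X a ∈ Submodule.span F {a, b} ∧
      X b ∈ Submodule.span F {a, b} := by
  obtain ⟨u, huM, hu0⟩ := Submodule.exists_mem_ne_zero_of_ne_bot hM0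
  rcases hz with rfl | rfl
  · -- `X` is an involution: eigenvectors
    have hev : ∃ v ∈ M, v ≠ 0 ∧ ∃ ε : F, ε * ε = 1 ∧ X v = ε • v := by
      by_cases hp : X u + u = 0
      · refine ⟨X u - u, M.sub_mem (hMinv u huM) huM, ?_, -1, by ring, ?_⟩
        · intro hm
          apply hu0
          have h3 : (2 : F) • u = (X u + u) - (X u - u) := by rw [two_smul]; abel
          rw [hp, hm, sub_zero] at h3
          have h4 := congrArg (fun y => (2 : F)⁻¹ • y) h3
          simpa only [smul_smul, inv_mul_cancel₀ h2, one_smul, smul_zero] using h4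
        · rw [map_sub, hX, one_smul, neg_smul, one_smul]
          abel
      · refine ⟨X u + u, M.add_mem (hMinv u huM) huM, hp, 1, by ring, ?_⟩
        rw [map_add, hX, one_smul, one_smul, add_comm]
    obtain ⟨v, hvM, hv0, ε, hε, hXv⟩ := hev
    have hex : ∃ w ∈ M, B v w ≠ 0 := by
      by_contra hcon
      push Not at hcon
      exact hv0 (hMnd v hvM hcon)
    obtain ⟨w, hwM, hvw⟩ := hex
    have hε0 : ε ≠ 0 := by
      rintro rfl
      rw [mul_zero] at hε
      exact zero_ne_one hε
    have hXw' : X (X w + ε • w) = ε • (X w + ε • w) := by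
      rw [map_add, map_smul, hX, one_smul, smul_add, smul_smul, hε, one_smul, add_comm]
    have hBvXw : B v (X w) = ε * B v w := by
      have h3 := hiso v (X w)
      rw [hX, one_smul, hXv, map_smul, LinearMap.smul_apply, smul_eq_mul] at h3
      exact h3.symm
    refine ⟨v, hvM, X w + ε • w, M.add_mem (hMinv w hwM) (M.smul_mem ε hwM), ?_, ?_, ?_⟩
    · rw [map_add, map_smul, hBvXw, smul_eq_mul, ← two_mul]
      exact mul_ne_zero h2 (mul_ne_zero hε0 hvw)
    · rw [hXv]
      exact Submodule.smul_mem _ _ (Submodule.subset_span (Set.mem_insert _ _))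
    · rw [hXw']
      exact Submodule.smul_mem _ _ (Submodule.subset_span (Set.mem_insert_of_mem _ rfl))
  · -- `X ∘ X = -1`: polarisation of the symmetric form `B u (X v)`
    have hsymm : ∀ u v, B u (X v) = B v (X u) := by
      intro u v
      rw [← hiso u (X v), hX, map_smul, neg_smul, one_smul, ← skew_of_alt halt]
    have hex : ∃ v ∈ M, B v (X v) ≠ 0 := by
      by_contra hcon
      push Not at hcon
      have hpol : ∀ a ∈ M, ∀ b ∈ M, B a (X b) = 0 := by
        intro a ha b hb
        have h3 := hcon (a + b) (M.add_mem ha hb)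
        simp only [map_add, LinearMap.add_apply] at h3
        have h4 : 2 * B a (X b) = 0 := by
          linear_combination h3 - hcon a ha - hcon b hb - hsymm b a
        exact (mul_eq_zero.1 h4).resolve_left h2
      apply hu0
      apply hMnd u huM
      intro y hy
      have h3 := hpol u huM (-(X y)) (M.neg_mem (hMinv y hy))
      rwa [map_neg, hX, neg_smul, one_smul, neg_neg] at h3
    obtain ⟨v, hvM, hv⟩ := hex
    refine ⟨v, hvM, X v, hMinv v hvM, hv, ?_, ?_⟩
    · exact Submodule.subset_span (Set.mem_insert_of_mem _ rfl)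
    · rw [hX]
      exact Submodule.smul_mem _ _ (Submodule.subset_span (Set.mem_insert _ _))

/-- invariant nondegenerate subspaces of every even dimension -/
theorem exists_nd_invariant [FiniteDimensional F V] {B : LinearMap.BilinForm F V}
    {X : Module.End F V} (h2 : (2 : F) ≠ 0) (halt : ∀ v, B v v = 0) (hB : B.Nondegenerate)
    {z : F} (hz : z = 1 ∨ z = -1) (hX : ∀ v, X (X v) = z • v)
    (hiso : ∀ u v, B (X u) (X v) = B u v) :
    ∀ j : ℕ, 2 * j ≤ finrank F V →
      ∃ N : Submodule F V, finrank F N = 2 * j ∧ NDOn B N ∧ ∀ w ∈ N, X w ∈ N := by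
  have hzz : z * z = 1 := by
    rcases hz with rfl | rfl <;> ring
  have hI := Cfsg.Agent.Lib.Helper40_SpExistMatrix.isoData_one B halt
  intro j
  induction j with
  | zero =>
    intro _
    refine ⟨⊥, finrank_bot F V, ?_, ?_⟩
    · intro u hu _
      exact (Submodule.mem_bot F).1 hu
    · intro w hw
      rw [(Submodule.mem_bot F).1 hw, map_zero]
      exact Submodule.zero_mem _
  | succ j ih =>
    intro hj
    obtain ⟨N, hNd, hNnd, hNinv⟩ := ih (by omega)
    have hMnd : NDOn B (B.orthogonal N) := ndOn_orthogonal hI hB hNnd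
    have hMinv : ∀ w ∈ B.orthogonal N, X w ∈ B.orthogonal N := by
      intro w hw
      rw [LinearMap.BilinForm.mem_orthogonal_iff] at hw ⊢
      exact fun n hn => orth_inv hzz hX hiso hNinv (fun u hu => hw u hu) n hn
    have hM0 : B.orthogonal N ≠ ⊥ := by
      intro h0
      have h3 := LinearMap.BilinForm.finrank_orthogonal hB N
      rw [h0, finrank_bot] at h3
      omega
    obtain ⟨a, haM, b, hbM, hab, hXa, hXb⟩ := exists_pair h2 halt hz hX hiso hMnd hMinv hM0
    obtain ⟨N', hN'd, hN'nd, hN'inv⟩ := extend_pair halt hNnd hNinv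
      (fun n hn => LinearMap.BilinForm.mem_orthogonal_iff.1 haM n hn)
      (fun n hn => LinearMap.BilinForm.mem_orthogonal_iff.1 hbM n hn) hab hXa hXb
    exact ⟨N', by omega, hN'nd, hN'inv⟩

end Abstract

open scoped MatrixGroups
open Cfsg Cfsg.Agent.Lib.Helper94_Bridge

/-- **Package Q2 (helper99, S5956).** -/
theorem Q2 {F : Type*} [Field F] [Fintype F] {p : ℕ} [Fact p.Prime] [CharP F p]
    (d m : ℕ) (hd : 2 ≤ d) (hm : 2 ≤ m) (hme : Even m) (hmd : m < d) (hp2 : p ≠ 2)
    (x : ↥(Matrix.symplecticGroup (Fin d) F))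
    (hx : ∃ z : F, ((x ^ 2 : ↥(Matrix.symplecticGroup (Fin d) F)) : Matrix (Fin d ⊕ Fin d) (Fin d ⊕ Fin d) F) = z • (1 : Matrix (Fin d ⊕ Fin d) (Fin d ⊕ Fin d) F)) :
    ∃ W : Submodule F (Fin d ⊕ Fin d → F), Module.finrank F ↥W = m ∧ (∀ u ∈ W, u ≠ 0 → ∃ v ∈ W, Cfsg.sympForm d F u v ≠ 0) ∧
        W.map (Matrix.toLin' (x : Matrix (Fin d ⊕ Fin d) (Fin d ⊕ Fin d) F)) ≤ W := by
  obtain ⟨z, hz⟩ := hx
  have h2 : (2 : F) ≠ 0 := by
    intro h
    have h3 : ((2 : ℕ) : F) = 0 := by exact_mod_cast h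
    rw [CharP.cast_eq_zero_iff F p 2] at h3
    exact hp2 ((Nat.prime_dvd_prime_iff_eq Fact.out Nat.prime_two).1 h3)
  have hzz : z * z = 1 := by
    apply Cfsg.Agent.S5961.sq_eq_one_of_smul_mem (d := d) (by omega) z
    rw [← hz]
    exact (x ^ 2).2
  have hz' : z = 1 ∨ z = -1 := by
    have h3 : (z - 1) * (z + 1) = 0 := by ring_nf; rw [← sub_eq_zero] at hzz; ring_nf at hzz; exact hzz
    rcases mul_eq_zero.1 h3 with h | h
    · left; exact sub_eq_zero.1 h
    · right; exact eq_neg_of_add_eq_zero_left h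
  have hX : ∀ v, Matrix.toLin' (x : Matrix (Fin d ⊕ Fin d) (Fin d ⊕ Fin d) F)
      (Matrix.toLin' (x : Matrix (Fin d ⊕ Fin d) (Fin d ⊕ Fin d) F) v) = z • v := by
    intro v
    have h3 : ((x ^ 2 : ↥(Matrix.symplecticGroup (Fin d) F)) :
        Matrix (Fin d ⊕ Fin d) (Fin d ⊕ Fin d) F) =
        (x : Matrix (Fin d ⊕ Fin d) (Fin d ⊕ Fin d) F) * x := by
      rw [pow_two]
      rfl
    rw [← LinearMap.comp_apply, ← Matrix.toLin'_mul, ← h3, hz, Matrix.toLin'_apply,
      Matrix.smul_mulVec, Matrix.one_mulVec]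
  obtain ⟨j, hj⟩ := hme
  have hdim : Module.finrank F (Fin d ⊕ Fin d → F) = d + d := by
    rw [Module.finrank_fintype_fun_eq_card, Fintype.card_sum, Fintype.card_fin]
  obtain ⟨N, hNd, hNnd, hNinv⟩ := exists_nd_invariant (B := Bsymp d F) h2
    (fun v => Bsymp_isAlt d v) (Bsymp_nondegenerate d) hz' hX
    (fun u v => Cfsg.Agent.S5961.Bsymp_iso x.2 u v) j (by omega)
  refine ⟨N, by omega, ?_, ?_⟩
  · intro u hu hu0
    obtain ⟨v, hv, hne⟩ := (Cfsg.Agent.S5961.ndOn_iff (Bsymp d F) N).1 hNnd u hu hu0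
    exact ⟨v, hv, by rwa [Bsymp_apply] at hne⟩
  · rintro _ ⟨w, hw, rfl⟩
    exact hNinv w hw

end Cfsg.Agent.Lib.Helper75_SpND_Q2
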