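import Mathlib
import Cfsg.Agent.S5961
import Cfsg.Agent.Lib.Helper75_SpInvTI
import Cfsg.Agent.Lib.Helper43_AltEven

set_option autoImplicit false

/-!
Package Q3 for S5956 (helper99): involutions of `Sp_2d(q)`, `q` even, and invariant nondegenerate
subspaces.
-/

namespace Cfsg.Agent.Lib.Helper75_SpND_Q3

open Module Cfsg.Agent.Lib.Helper40_SpBasic Cfsg.Agent.Lib.Helper75_SpInvTI
  Cfsg.Agent.Lib.Helper99_SpOrth Cfsg.Agent.Lib.Helper99_InvSub

section General

variable {F : Type*} [Field F] {V : Type*} [AddCommGroup V] [Module F V]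

theorem plane_nd {B : LinearMap.BilinForm F V} (halt : ∀ v, B v v = 0) {a b : V}
    (hab : B a b ≠ 0) : NDOn B (Submodule.span F {a, b}) := by
  have hba : B b a ≠ 0 := by
    rw [skew_of_alt halt]
    exact neg_ne_zero.2 hab
  intro x hx hxy
  obtain ⟨α, β, rfl⟩ := Submodule.mem_span_pair.1 hx
  have h1 := hxy a (Submodule.subset_span (Set.mem_insert _ _))
  have h2 := hxy b (Submodule.subset_span (Set.mem_insert_of_mem _ rfl))
  simp only [map_add, map_smul, LinearMap.add_apply, LinearMap.smul_apply, halt a, halt b,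
    smul_zero, add_zero, zero_add, smul_eq_mul, mul_zero] at h1 h2
  rw [(mul_eq_zero.1 h2).resolve_right hab, (mul_eq_zero.1 h1).resolve_right hba, zero_smul,
    zero_smul, add_zero]

theorem span_le_comap (X : Module.End F V) {s : Set V} {P : Submodule F V}
    (hs : ∀ a ∈ s, X a ∈ P) : ∀ x ∈ Submodule.span F s, X x ∈ P := by
  intro x hx
  have h : Submodule.span F s ≤ P.comap X := Submodule.span_le.2 (fun a ha => hs a ha)
  exact h hx

end General

section Char2

variable {F : Type*} [Field F] [CharP F 2] {V : Type*} [AddCommGroup V] [Module F V]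

theorem add_self_eq_zero' (F : Type*) [Field F] [CharP F 2] {V : Type*} [AddCommGroup V]
    [Module F V] (v : V) : v + v = 0 := by
  rw [← two_smul F v, CharTwo.two_eq_zero, zero_smul]

/-- an invariant nondegenerate piece of dimension `2` or `4` inside a nonzero invariant
nondegenerate subspace -/
theorem exists_piece [FiniteDimensional F V] {B : LinearMap.BilinForm F V} {X : Module.End F V}
    (halt : ∀ v, B v v = 0) (hX : ∀ v, X (X v) = v) (hiso : ∀ u v, B (X u) (X v) = B u v)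
    {M : Submodule F V} (hMnd : NDOn B M) (hMinv : ∀ w ∈ M, X w ∈ M) (hM0 : M ≠ ⊥) :
    ∃ P : Submodule F V, P ≤ M ∧ (∀ w ∈ P, X w ∈ P) ∧ NDOn B P ∧
      (finrank F P = 2 ∨ finrank F P = 4) := by
  classical
  have hskew := skew_of_alt halt
  by_cases hA : ∃ v ∈ M, B v (X v) ≠ 0
  · obtain ⟨v, hvM, hv⟩ := hA
    refine ⟨Submodule.span F {v, X v}, ?_, ?_, plane_nd halt hv,
      Or.inl (Cfsg.Agent.Lib.Helper43_AltEven.finrank_span_pair_of_form B halt hv)⟩
    · rw [Submodule.span_le]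
      rintro y (rfl | rfl)
      · exact hvM
      · exact hMinv _ hvM
    · apply span_le_comap
      rintro y (rfl | rfl)
      · exact Submodule.subset_span (Set.mem_insert_of_mem _ rfl)
      · rw [hX]
        exact Submodule.subset_span (Set.mem_insert _ _)
  push Not at hA
  by_cases hfix : ∀ v ∈ M, X v = v
  · obtain ⟨v, hvM, hv0⟩ := Submodule.exists_mem_ne_zero_of_ne_bot hM0
    obtain ⟨w, hwM, hvw⟩ : ∃ w ∈ M, B v w ≠ 0 := by
      by_contra h
      push Not at h
      exact hv0 (hMnd v hvM h)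
    refine ⟨Submodule.span F {v, w}, ?_, ?_, plane_nd halt hvw,
      Or.inl (Cfsg.Agent.Lib.Helper43_AltEven.finrank_span_pair_of_form B halt hvw)⟩
    · rw [Submodule.span_le]
      rintro y (rfl | rfl)
      · exact hvM
      · exact hwM
    · apply span_le_comap
      rintro y (rfl | rfl)
      · rw [hfix _ hvM]
        exact Submodule.subset_span (Set.mem_insert _ _)
      · rw [hfix _ hwM]
        exact Submodule.subset_span (Set.mem_insert_of_mem _ rfl)
  push Not at hfix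
  obtain ⟨v, hvM, hXv⟩ := hfix
  -- `nv = N v`, `nw = N w`
  obtain ⟨nv, hnv⟩ : ∃ nv, nv = X v + v := ⟨_, rfl⟩
  have hnv0 : nv ≠ 0 := by
    intro h
    apply hXv
    have h3 : X v = (X v + v) + v := by rw [add_assoc, add_self_eq_zero' F, add_zero]
    rw [h3, ← hnv, h, zero_add]
  have hnvM : nv ∈ M := by rw [hnv]; exact M.add_mem (hMinv v hvM) hvM
  obtain ⟨w, hwM, hc⟩ : ∃ w ∈ M, B nv w ≠ 0 := by
    by_contra h
    push Not at h
    exact hnv0 (hMnd nv hnvM h)
  obtain ⟨nw, hnw⟩ : ∃ nw, nw = X w + w := ⟨_, rfl⟩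
  have hnwM : nw ∈ M := by rw [hnw]; exact M.add_mem (hMinv w hwM) hwM
  have hXnv : X nv = nv := by rw [hnv, map_add, hX, add_comm]
  have hXnw : X nw = nw := by rw [hnw, map_add, hX, add_comm]
  have hB1 : B v nv = 0 := by rw [hnv, map_add, hA v hvM, halt, add_zero]
  have hB2 : B w nw = 0 := by rw [hnw, map_add, hA w hwM, halt, add_zero]
  have hB3 : B v nw = B nv w := by
    have h3 : B (X v) w = B v (X w) := by rw [← hiso (X v) w, hX]
    rw [hnw, hnv, map_add, map_add, LinearMap.add_apply, h3]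
  have hB4 : B nv nw = 0 := by
    have h3 : B nv (X w) = B nv w := by rw [← hiso nv (X w), hXnv, hX]
    rw [hnw, map_add, h3]
    exact CharTwo.add_self_eq_zero _
  have hB4' : B nw nv = 0 := by rw [hskew, hB4, neg_zero]
  have hB2' : B nw w = 0 := by rw [hskew, hB2, neg_zero]
  obtain ⟨β, hβ⟩ : ∃ β : F, β = B v w / B nv w := ⟨_, rfl⟩
  obtain ⟨w', hw'⟩ : ∃ w', w' = w + β • nw := ⟨_, rfl⟩
  have hw'M : w' ∈ M := by rw [hw']; exact M.add_mem hwM (M.smul_mem β hnwM)
  have hB5 : B v w' = 0 := by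
    rw [hw', map_add, map_smul, hB3, smul_eq_mul, hβ, div_mul_cancel₀ _ hc]
    exact CharTwo.add_self_eq_zero _
  have hB6 : B nw w' = 0 := by
    rw [hw', map_add, map_smul, hB2', halt, smul_zero, add_zero]
  have hB7 : B nv w' ≠ 0 := by
    rw [hw', map_add, map_smul, hB4, smul_zero, add_zero]
    exact hc
  have hvnw : B v nw ≠ 0 := by rw [hB3]; exact hc
  set P₁ := Submodule.span F {v, nw} with hP₁
  set P₂ := Submodule.span F {nv, w'} with hP₂
  have hvP₁ : v ∈ P₁ := Submodule.subset_span (Set.mem_insert _ _)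
  have hnwP₁ : nw ∈ P₁ := Submodule.subset_span (Set.mem_insert_of_mem _ rfl)
  have hnvP₂ : nv ∈ P₂ := Submodule.subset_span (Set.mem_insert _ _)
  have hw'P₂ : w' ∈ P₂ := Submodule.subset_span (Set.mem_insert_of_mem _ rfl)
  have horth : ∀ u ∈ P₁, ∀ u' ∈ P₂, B u u' = 0 := by
    intro u hu u' hu'
    obtain ⟨α, γ, rfl⟩ := Submodule.mem_span_pair.1 hu
    obtain ⟨δ, ε, rfl⟩ := Submodule.mem_span_pair.1 hu'
    simp only [map_add, map_smul, LinearMap.add_apply, LinearMap.smul_apply, hB1, hB5, hB4', hB6,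
      smul_zero, add_zero]
  have hP₁nd : NDOn B P₁ := plane_nd halt hvnw
  have hP₂nd : NDOn B P₂ := plane_nd halt hB7
  have hdisj : Disjoint P₁ P₂ := disjoint_of_orth hskew hP₁nd horth
  refine ⟨P₁ ⊔ P₂, ?_, ?_, ndOn_sup hskew hP₁nd hP₂nd horth, Or.inr ?_⟩
  · apply sup_le
    · rw [hP₁, Submodule.span_le]
      rintro y (rfl | rfl)
      · exact hvM
      · exact hnwM
    · rw [hP₂, Submodule.span_le]
      rintro y (rfl | rfl)
      · exact hnvM
      · exact hw'M
  · have hXv' : X v = nv - v := by rw [hnv, add_sub_cancel_right]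
    have hXw : X w = nw - w := by rw [hnw, add_sub_cancel_right]
    have hw : w = w' - β • nw := by rw [hw', add_sub_cancel_right]
    have hnwP : nw ∈ P₁ ⊔ P₂ := Submodule.mem_sup_left hnwP₁
    have hw'P : w' ∈ P₁ ⊔ P₂ := Submodule.mem_sup_right hw'P₂
    have hwP : w ∈ P₁ ⊔ P₂ := by
      rw [hw]
      exact Submodule.sub_mem _ hw'P (Submodule.smul_mem _ _ hnwP)
    intro x hx
    obtain ⟨p₁, hp₁, p₂, hp₂, rfl⟩ := Submodule.mem_sup.1 hx
    rw [map_add]
    refine Submodule.add_mem _ ?_ ?_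
    · refine span_le_comap X ?_ p₁ hp₁
      rintro y (rfl | rfl)
      · rw [hXv']
        exact Submodule.sub_mem _ (Submodule.mem_sup_right hnvP₂) (Submodule.mem_sup_left hvP₁)
      · rw [hXnw]
        exact hnwP
    · refine span_le_comap X ?_ p₂ hp₂
      rintro y (rfl | rfl)
      · rw [hXnv]
        exact Submodule.mem_sup_right hnvP₂
      · rw [hw', map_add, map_smul, hXnw, hXw]
        exact Submodule.add_mem _ (Submodule.sub_mem _ hnwP hwP) (Submodule.smul_mem _ _ hnwP)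
  · rw [finrank_sup_of_disjoint hdisj,
      Cfsg.Agent.Lib.Helper43_AltEven.finrank_span_pair_of_form B halt hvnw,
      Cfsg.Agent.Lib.Helper43_AltEven.finrank_span_pair_of_form B halt hB7]

/-- structure theorem: the orthogonal complement of an invariant nondegenerate `N` is an orthogonal
sum of `a` invariant nondegenerate planes and `b` invariant nondegenerate `4`-spaces -/
theorem exists_struct [FiniteDimensional F V] {B : LinearMap.BilinForm F V} {X : Module.End F V}
    (halt : ∀ v, B v v = 0) (hB : B.Nondegenerate) (hX : ∀ v, X (X v) = v)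
    (hiso : ∀ u v, B (X u) (X v) = B u v) :
    ∀ t : ℕ, ∀ N : Submodule F V, NDOn B N → (∀ w ∈ N, X w ∈ N) →
      finrank F N + t = finrank F V →
      ∃ a b : ℕ, 2 * a + 4 * b = t ∧ ∀ a' b' : ℕ, a' ≤ a → b' ≤ b →
        ∃ W : Submodule F V, (∀ n ∈ N, ∀ w ∈ W, B n w = 0) ∧ (∀ w ∈ W, X w ∈ W) ∧ NDOn B W ∧
          finrank F W = 2 * a' + 4 * b' := by
  have hskew := skew_of_alt halt
  have hI := Cfsg.Agent.Lib.Helper40_SpExistMatrix.isoData_one B halt
  have hX1 : ∀ v, X (X v) = (1 : F) • v := fun v => by rw [hX, one_smul]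
  have hbot : ∀ N : Submodule F V, ∃ W : Submodule F V, (∀ n ∈ N, ∀ w ∈ W, B n w = 0) ∧
      (∀ w ∈ W, X w ∈ W) ∧ NDOn B W ∧ finrank F W = 2 * 0 + 4 * 0 := by
    intro N
    refine ⟨⊥, ?_, ?_, ?_, finrank_bot F V⟩
    · intro n _ w hw
      rw [(Submodule.mem_bot F).1 hw, map_zero]
    · intro w hw
      rw [(Submodule.mem_bot F).1 hw, map_zero]
      exact Submodule.zero_mem _
    · intro u hu _
      exact (Submodule.mem_bot F).1 hu
  intro t
  induction t using Nat.strong_induction_on with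
  | _ t ih =>
    intro N hNnd hNinv hNt
    rcases Nat.eq_zero_or_pos t with rfl | htpos
    · refine ⟨0, 0, rfl, ?_⟩
      intro a' b' ha' hb'
      obtain rfl : a' = 0 := by omega
      obtain rfl : b' = 0 := by omega
      exact hbot N
    have hMnd : NDOn B (B.orthogonal N) := ndOn_orthogonal hI hB hNnd
    have hMinv : ∀ w ∈ B.orthogonal N, X w ∈ B.orthogonal N := by
      intro w hw
      rw [LinearMap.BilinForm.mem_orthogonal_iff] at hw ⊢
      exact fun n hn => orth_inv (one_mul 1) hX1 hiso hNinv (fun u hu => hw u hu) n hn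
    have hM0 : B.orthogonal N ≠ ⊥ := by
      intro h0
      have h3 := LinearMap.BilinForm.finrank_orthogonal hB N
      rw [h0, finrank_bot] at h3
      omega
    obtain ⟨P, hPM, hPinv, hPnd, hPd⟩ := exists_piece halt hX hiso hMnd hMinv hM0
    have hNP : ∀ n ∈ N, ∀ q ∈ P, B n q = 0 := fun n hn q hq =>
      LinearMap.BilinForm.mem_orthogonal_iff.1 (hPM hq) n hn
    have hN₁nd : NDOn B (N ⊔ P) := ndOn_sup hskew hNnd hPnd hNP
    have hN₁inv : ∀ w ∈ N ⊔ P, X w ∈ N ⊔ P := inv_sup hNinv hPinv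
    have hN₁d : finrank F ↥(N ⊔ P) = finrank F N + finrank F P :=
      finrank_sup_of_disjoint (disjoint_of_orth hskew hNnd hNP)
    -- extension of a subspace orthogonal to `N ⊔ P` by `P`
    have hext : ∀ W' : Submodule F V, (∀ n ∈ N ⊔ P, ∀ w ∈ W', B n w = 0) →
        (∀ w ∈ W', X w ∈ W') → NDOn B W' →
        (∀ n ∈ N, ∀ w ∈ P ⊔ W', B n w = 0) ∧ (∀ w ∈ P ⊔ W', X w ∈ P ⊔ W') ∧ NDOn B (P ⊔ W') ∧
          finrank F ↥(P ⊔ W') = finrank F P + finrank F W' := by
      intro W' h1 h2 h3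
      have hPW' : ∀ q ∈ P, ∀ w ∈ W', B q w = 0 := fun q hq w hw =>
        h1 q (Submodule.mem_sup_right hq) w hw
      refine ⟨?_, inv_sup hPinv h2, ndOn_sup hskew hPnd h3 hPW',
        finrank_sup_of_disjoint (disjoint_of_orth hskew hPnd hPW')⟩
      intro n hn w hw
      obtain ⟨q, hq, w', hw', rfl⟩ := Submodule.mem_sup.1 hw
      rw [map_add, hNP n hn q hq, h1 n (Submodule.mem_sup_left hn) w' hw', add_zero]
    have hMd : finrank F (B.orthogonal N) = t := by
      have h3 := LinearMap.BilinForm.finrank_orthogonal hB N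
      omega
    have hPt : finrank F P ≤ t := by
      rw [← hMd]
      exact Submodule.finrank_mono hPM
    rcases hPd with hP2 | hP4
    · obtain ⟨a, b, hab, hW⟩ := ih (t - 2) (by omega) (N ⊔ P) hN₁nd hN₁inv (by omega)
      refine ⟨a + 1, b, by omega, ?_⟩
      intro a' b' ha' hb'
      by_cases hle : a' ≤ a
      · obtain ⟨W, h1, h2, h3, h4⟩ := hW a' b' hle hb'
        exact ⟨W, fun n hn w hw => h1 n (Submodule.mem_sup_left hn) w hw, h2, h3, h4⟩
      · obtain ⟨W', h1, h2, h3, h4⟩ := hW a b' le_rfl hb'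
        obtain ⟨g1, g2, g3, g4⟩ := hext W' h1 h2 h3
        exact ⟨P ⊔ W', g1, g2, g3, by omega⟩
    · obtain ⟨a, b, hab, hW⟩ := ih (t - 4) (by omega) (N ⊔ P) hN₁nd hN₁inv (by omega)
      refine ⟨a, b + 1, by omega, ?_⟩
      intro a' b' ha' hb'
      by_cases hle : b' ≤ b
      · obtain ⟨W, h1, h2, h3, h4⟩ := hW a' b' ha' hle
        exact ⟨W, fun n hn w hw => h1 n (Submodule.mem_sup_left hn) w hw, h2, h3, h4⟩
      · obtain ⟨W', h1, h2, h3, h4⟩ := hW a' b ha' le_rfl
        obtain ⟨g1, g2, g3, g4⟩ := hext W' h1 h2 h3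
        exact ⟨P ⊔ W', g1, g2, g3, by omega⟩

/-- invariant nondegenerate subspaces of dimension `m` under the arithmetic condition -/
theorem exists_nd_invariant_two [FiniteDimensional F V] {B : LinearMap.BilinForm F V}
    {X : Module.End F V} (halt : ∀ v, B v v = 0) (hB : B.Nondegenerate) (hX : ∀ v, X (X v) = v)
    (hiso : ∀ u v, B (X u) (X v) = B u v) (m : ℕ) (hme : Even m) (hm : m ≤ finrank F V)
    (hcond : finrank F V % 4 = 2 ∨ m % 4 = 0) :
    ∃ W : Submodule F V, finrank F W = m ∧ NDOn B W ∧ ∀ w ∈ W, X w ∈ W := by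
  have hbotnd : NDOn B (⊥ : Submodule F V) := fun u hu _ => (Submodule.mem_bot F).1 hu
  have hbotinv : ∀ w ∈ (⊥ : Submodule F V), X w ∈ (⊥ : Submodule F V) := by
    intro w hw
    rw [(Submodule.mem_bot F).1 hw, map_zero]
    exact Submodule.zero_mem _
  obtain ⟨a, b, hab, hW⟩ := exists_struct halt hB hX hiso (finrank F V) ⊥ hbotnd hbotinv
    (by rw [finrank_bot, zero_add])
  obtain ⟨j, hj⟩ := hme
  rcases le_total (m / 4) b with hle | hle
  · have ha' : (m % 4) / 2 ≤ a := by omega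
    obtain ⟨W, -, h2, h3, h4⟩ := hW ((m % 4) / 2) (m / 4) ha' hle
    exact ⟨W, by omega, h3, h2⟩
  · have ha' : (m - 4 * b) / 2 ≤ a := by omega
    obtain ⟨W, -, h2, h3, h4⟩ := hW ((m - 4 * b) / 2) b ha' le_rfl
    exact ⟨W, by omega, h3, h2⟩

end Char2

section Necessity

variable {F : Type*} [Field F] {V : Type*} [AddCommGroup V] [Module F V]

/-- if `N ∘ N = 0`, `N` is self-adjoint with `B v (N v) = 0` and `ker N ≤ range N`, then every
`N`-invariant nondegenerate subspace has dimension divisible by `4` -/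
theorem four_dvd_finrank [FiniteDimensional F V] {B : LinearMap.BilinForm F V}
    {N : Module.End F V} (halt : ∀ v, B v v = 0) (h1 : ∀ v, N (N v) = 0)
    (h2 : ∀ v, B v (N v) = 0) (h3 : ∀ u v, B (N u) v = B u (N v))
    (h4 : ∀ v, N v = 0 → ∃ u, N u = v) {W : Submodule F V} (hWnd : NDOn B W)
    (hWinv : ∀ w ∈ W, N w ∈ W) : 4 ∣ finrank F W := by
  have hI := Cfsg.Agent.Lib.Helper40_SpExistMatrix.isoData_one B halt
  have hcompl : IsCompl W (B.orthogonal W) := isCompl_orthogonal hI hWnd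
  have hW'inv : ∀ y ∈ B.orthogonal W, N y ∈ B.orthogonal W := by
    intro y hy
    rw [LinearMap.BilinForm.mem_orthogonal_iff] at hy ⊢
    intro w hw
    show B w (N y) = 0
    rw [← h3]
    exact hy _ (hWinv w hw)
  set K : Submodule F V := W ⊓ LinearMap.ker N with hK
  have hKI : K ≤ W.map N := by
    intro k hk
    obtain ⟨u, hu⟩ := h4 k (LinearMap.mem_ker.1 hk.2)
    have htop : u ∈ W ⊔ B.orthogonal W := by
      rw [hcompl.sup_eq_top]
      trivial
    obtain ⟨u₁, hu₁, u₂, hu₂, rfl⟩ := Submodule.mem_sup.1 htop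
    rw [map_add] at hu
    have h5 : N u₂ ∈ W ⊓ B.orthogonal W := by
      refine ⟨?_, hW'inv u₂ hu₂⟩
      have h6 : N u₂ = k - N u₁ := by rw [← hu, add_sub_cancel_left]
      rw [h6]
      exact W.sub_mem hk.1 (hWinv u₁ hu₁)
    rw [hcompl.inf_eq_bot, Submodule.mem_bot] at h5
    rw [h5, add_zero] at hu
    exact ⟨u₁, hu₁, hu⟩
  have hIK : W.map N ≤ K := by
    rintro _ ⟨w, hw, rfl⟩
    exact ⟨hWinv w hw, LinearMap.mem_ker.2 (h1 w)⟩
  have hKeq : W.map N = K := le_antisymm hIK hKI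
  -- rank-nullity for `N` on `W`
  have hrn := LinearMap.finrank_range_add_finrank_ker (N.domRestrict W)
  rw [LinearMap.range_domRestrict, LinearMap.ker_domRestrict, hKeq] at hrn
  have hker : finrank F ↥((LinearMap.ker N).comap W.subtype) = finrank F K := by
    have h5 : (LinearMap.ker N).comap W.subtype = K.comap W.subtype := by
      ext x
      simp only [Submodule.mem_comap, Submodule.subtype_apply, hK, Submodule.mem_inf]
      exact ⟨fun h => ⟨x.2, h⟩, fun h => h.2⟩
    rw [h5]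
    exact (Submodule.comapSubtypeEquivOfLe (inf_le_left : K ≤ W)).finrank_eq
  rw [hker] at hrn
  -- a complement of `K` in `W`
  obtain ⟨C', hC'⟩ := Submodule.exists_isCompl K
  set C : Submodule F V := C' ⊓ W with hC
  have hKW : K ≤ W := inf_le_left
  have hsup : K ⊔ C = W := by
    rw [hC, ← sup_inf_assoc_of_le C' hKW, hC'.sup_eq_top, top_inf_eq]
  have hdisj : Disjoint K C := hC'.disjoint.mono_right inf_le_left
  have hCd : finrank F K + finrank F C = finrank F W := by
    rw [← finrank_sup_of_disjoint hdisj, hsup]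
  -- the form `B u (N v)` on `C`
  set β : LinearMap.BilinForm F V := B.compl₂ N with hβ
  have hβalt : (β.restrict C).IsAlt := by
    intro c
    show B c.1 (N c.1) = 0
    exact h2 _
  have hβnd : (β.restrict C).Nondegenerate := by
    refine (LinearMap.IsRefl.nondegenerate_iff_separatingLeft hβalt.isRefl).2 ?_
    intro c hc
    have hcW : (c : V) ∈ W := c.2.2
    have h5 : ∀ w ∈ W, B (N c.1) w = 0 := by
      intro w hw
      rw [← hsup] at hw
      obtain ⟨k, hk, c', hc', rfl⟩ := Submodule.mem_sup.1 hw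
      have h6 : B c.1 (N c') = 0 := hc ⟨c', hc'⟩
      rw [h3, map_add, map_add, LinearMap.mem_ker.1 hk.2, map_zero, zero_add, h6]
    have h6 : N c.1 = 0 := hWnd _ (hWinv _ hcW) h5
    have h7 : (c : V) ∈ K ⊓ C := ⟨⟨hcW, LinearMap.mem_ker.2 h6⟩, c.2⟩
    rw [hdisj.eq_bot, Submodule.mem_bot] at h7
    exact Subtype.ext h7
  have heven := Cfsg.Agent.Lib.Helper43_AltEven.even_finrank_of_alt (finrank F C) C
    (β.restrict C) hβalt hβnd rfl
  obtain ⟨s, hs⟩ := heven
  exact ⟨s, by omega⟩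

end Necessity

section Example

variable (F : Type*) [Field F] (d : ℕ)

/-- the pair-swapping involution of `Fin d`, `d` even -/
def sw (hd : d % 2 = 0) (i : Fin d) : Fin d :=
  if h : i.val % 2 = 0 then ⟨i.val + 1, by have := i.2; omega⟩
  else ⟨i.val - 1, by have := i.2; omega⟩

theorem sw_val (hd : d % 2 = 0) (i : Fin d) :
    (sw d hd i).val = if i.val % 2 = 0 then i.val + 1 else i.val - 1 := by
  unfold sw
  split_ifs <;> rfl

theorem sw_sw (hd : d % 2 = 0) (i : Fin d) : sw d hd (sw d hd i) = i := by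
  apply Fin.ext
  rw [sw_val, sw_val]
  split_ifs <;> omega

theorem sw_ne (hd : d % 2 = 0) (i : Fin d) : sw d hd i ≠ i := by
  intro h
  have h1 := congrArg Fin.val h
  rw [sw_val] at h1
  split_ifs at h1 <;> omega

/-- the nilpotent map `(v₁, v₂) ↦ (S v₂, 0)` -/
def Nlin (hd : d % 2 = 0) : Module.End F (Fin d ⊕ Fin d → F) where
  toFun v := Sum.elim (fun i => v (Sum.inr (sw d hd i))) (fun _ => 0)
  map_add' u v := by
    funext k
    rcases k with i | i <;> simp
  map_smul' c v := by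
    funext k
    rcases k with i | i <;> simp

variable {F d}

theorem Nlin_inl (hd : d % 2 = 0) (v : Fin d ⊕ Fin d → F) (i : Fin d) :
    Nlin F d hd v (Sum.inl i) = v (Sum.inr (sw d hd i)) := rfl

theorem Nlin_inr (hd : d % 2 = 0) (v : Fin d ⊕ Fin d → F) (i : Fin d) :
    Nlin F d hd v (Sum.inr i) = 0 := rfl

theorem Nlin_sq (hd : d % 2 = 0) (v : Fin d ⊕ Fin d → F) : Nlin F d hd (Nlin F d hd v) = 0 := by
  funext k
  rcases k with i | i
  · rw [Nlin_inl, Nlin_inr]
    rfl
  · rw [Nlin_inr]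
    rfl

theorem Nlin_ker (hd : d % 2 = 0) (v : Fin d ⊕ Fin d → F) (hv : Nlin F d hd v = 0) :
    ∃ u, Nlin F d hd u = v := by
  have h0 : ∀ j, v (Sum.inr j) = 0 := by
    intro j
    have := congrFun hv (Sum.inl (sw d hd j))
    rwa [Nlin_inl, sw_sw] at this
  refine ⟨Sum.elim (fun _ => 0) (fun j => v (Sum.inl (sw d hd j))), ?_⟩
  funext k
  rcases k with i | i
  · rw [Nlin_inl, Sum.elim_inr, sw_sw]
  · rw [Nlin_inr, h0]

open Cfsg.Agent.Lib.Helper94_Bridge

theorem Bsymp_Nlin_right (hd : d % 2 = 0) (u v : Fin d ⊕ Fin d → F) :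
    Bsymp d F u (Nlin F d hd v) = ∑ i : Fin d, u (Sum.inr i) * v (Sum.inr (sw d hd i)) := by
  rw [Bsymp_apply, Cfsg.Agent.Lib.Helper13_Symp.sympForm_eq]
  apply Finset.sum_congr rfl
  intro i _
  rw [Nlin_inl, Nlin_inr, mul_zero, sub_zero]

theorem Bsymp_Nlin_left (hd : d % 2 = 0) (u v : Fin d ⊕ Fin d → F) :
    Bsymp d F (Nlin F d hd u) v = - ∑ i : Fin d, u (Sum.inr i) * v (Sum.inr (sw d hd i)) := by
  rw [Bsymp_apply, Cfsg.Agent.Lib.Helper13_Symp.sympForm_eq, ← Finset.sum_neg_distrib]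
  have hinv : Function.Involutive (sw d hd) := sw_sw d hd
  rw [← Equiv.sum_comp hinv.toPerm]
  apply Finset.sum_congr rfl
  intro i _
  rw [Function.Involutive.coe_toPerm, Nlin_inl, Nlin_inr, sw_sw, zero_mul, zero_sub]

variable [CharP F 2]

theorem Bsymp_Nlin_adj (hd : d % 2 = 0) (u v : Fin d ⊕ Fin d → F) :
    Bsymp d F (Nlin F d hd u) v = Bsymp d F u (Nlin F d hd v) := by
  rw [Bsymp_Nlin_left, Bsymp_Nlin_right, CharTwo.neg_eq]

theorem Bsymp_Nlin_self (hd : d % 2 = 0) (v : Fin d ⊕ Fin d → F) :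
    Bsymp d F v (Nlin F d hd v) = 0 := by
  rw [Bsymp_Nlin_right]
  refine Finset.sum_involution (fun i _ => sw d hd i) ?_ ?_ ?_ ?_
  · intro i _
    rw [sw_sw, mul_comm (v (Sum.inr (sw d hd i)))]
    exact CharTwo.add_self_eq_zero _
  · intro i _ _
    exact sw_ne d hd i
  · intro i _
    exact Finset.mem_univ _
  · intro i _
    exact sw_sw d hd i

/-- the involution `1 + N` -/
theorem one_add_Nlin_sq (hd : d % 2 = 0) :
    (1 + Nlin F d hd) * (1 + Nlin F d hd) = 1 := by
  apply LinearMap.ext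
  intro v
  rw [Module.End.mul_apply, LinearMap.add_apply, LinearMap.add_apply, Module.End.one_apply,
    Module.End.one_apply, map_add, Nlin_sq, add_zero, add_assoc, add_self_eq_zero' F, add_zero]

theorem one_add_Nlin_iso (hd : d % 2 = 0) (u v : Fin d ⊕ Fin d → F) :
    Bsymp d F ((1 + Nlin F d hd) u) ((1 + Nlin F d hd) v) = Bsymp d F u v := by
  simp only [LinearMap.add_apply, Module.End.one_apply, map_add]
  rw [Bsymp_Nlin_adj hd u (Nlin F d hd v), Nlin_sq, map_zero, add_zero, Bsymp_Nlin_adj hd u v,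
    add_assoc, CharTwo.add_self_eq_zero, add_zero]

end Example

open scoped MatrixGroups
open Cfsg Cfsg.Agent.Lib.Helper94_Bridge

/-- **Package Q3 (helper99, S5956).** -/
theorem Q3 {F : Type*} [Field F] [Fintype F] [CharP F 2]
    (d m : ℕ) (hd : 2 ≤ d) (hm : 2 ≤ m) (hme : Even m) (hmd : m < d) :
    (∀ x : ↥(Matrix.symplecticGroup (Fin d) F),
      (∃ z : F, ((x ^ 2 : ↥(Matrix.symplecticGroup (Fin d) F)) : Matrix (Fin d ⊕ Fin d) (Fin d ⊕ Fin d) F) = z • (1 : Matrix (Fin d ⊕ Fin d) (Fin d ⊕ Fin d) F)) →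
      (∀ z : F, (x : Matrix (Fin d ⊕ Fin d) (Fin d ⊕ Fin d) F) ≠ z • (1 : Matrix (Fin d ⊕ Fin d) (Fin d ⊕ Fin d) F)) →
      ∃ W : Submodule F (Fin d ⊕ Fin d → F), Module.finrank F ↥W = m ∧ (∀ u ∈ W, u ≠ 0 → ∃ v ∈ W, Cfsg.sympForm d F u v ≠ 0) ∧
        W.map (Matrix.toLin' (x : Matrix (Fin d ⊕ Fin d) (Fin d ⊕ Fin d) F)) ≤ W) ↔
    ((2 * d) % 4 = 2 ∨ m % 4 = 0) := by
  have hdim : Module.finrank F (Fin d ⊕ Fin d → F) = d + d := by
    rw [Module.finrank_fintype_fun_eq_card, Fintype.card_sum, Fintype.card_fin]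
  constructor
  · -- necessity
    intro hall
    by_contra hcon
    have hd2 : d % 2 = 0 := by omega
    have hm4 : m % 4 ≠ 0 := by omega
    set X : Module.End F (Fin d ⊕ Fin d → F) := 1 + Nlin F d hd2 with hXdef
    set xm : Matrix (Fin d ⊕ Fin d) (Fin d ⊕ Fin d) F := LinearMap.toMatrix' X with hxm
    have htl : Matrix.toLin' xm = X := Matrix.toLin'_toMatrix' X
    have hmem : xm ∈ Matrix.symplecticGroup (Fin d) F := by
      apply Cfsg.Agent.Lib.Helper13_Symp.mem_symplecticGroup_of_preserves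
      intro u v
      rw [← Matrix.toLin'_apply, ← Matrix.toLin'_apply, htl, ← Bsymp_apply, ← Bsymp_apply]
      exact one_add_Nlin_iso hd2 u v
    have hsq : xm * xm = 1 := by
      rw [hxm, ← LinearMap.toMatrix'_mul, hXdef, one_add_Nlin_sq hd2, LinearMap.toMatrix'_one]
    have h1 : ∃ z : F, (((⟨xm, hmem⟩ : ↥(Matrix.symplecticGroup (Fin d) F)) ^ 2 :
        ↥(Matrix.symplecticGroup (Fin d) F)) : Matrix (Fin d ⊕ Fin d) (Fin d ⊕ Fin d) F) =
        z • (1 : Matrix (Fin d ⊕ Fin d) (Fin d ⊕ Fin d) F) := by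
      refine ⟨1, ?_⟩
      rw [one_smul, pow_two]
      exact hsq
    have h2 : ∀ z : F, ((⟨xm, hmem⟩ : ↥(Matrix.symplecticGroup (Fin d) F)) :
        Matrix (Fin d ⊕ Fin d) (Fin d ⊕ Fin d) F) ≠
        z • (1 : Matrix (Fin d ⊕ Fin d) (Fin d ⊕ Fin d) F) := by
      intro z hz
      have hz' : xm = z • (1 : Matrix (Fin d ⊕ Fin d) (Fin d ⊕ Fin d) F) := hz
      set i₀ : Fin d := ⟨0, by omega⟩ with hi₀
      set e : Fin d ⊕ Fin d → F := Pi.single (Sum.inr i₀) 1 with he
      have h3 : Matrix.toLin' xm e (Sum.inl (sw d hd2 i₀)) = 1 := by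
        rw [htl, hXdef, LinearMap.add_apply, Module.End.one_apply, Pi.add_apply, Nlin_inl, sw_sw,
          he, Pi.single_eq_same, Pi.single_eq_of_ne (by simp), zero_add]
      have h4 : Matrix.toLin' xm e (Sum.inl (sw d hd2 i₀)) = 0 := by
        rw [hz', Matrix.toLin'_apply, Matrix.smul_mulVec, Matrix.one_mulVec, Pi.smul_apply, he,
          Pi.single_eq_of_ne (by simp), smul_zero]
      rw [h3] at h4
      exact one_ne_zero h4
    obtain ⟨W, hWd, hWnd, hWinv⟩ := hall ⟨xm, hmem⟩ h1 h2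
    have hWnd' : NDOn (Bsymp d F) W := by
      rw [Cfsg.Agent.S5961.ndOn_iff]
      intro u hu hu0
      obtain ⟨v, hv, hne⟩ := hWnd u hu hu0
      exact ⟨v, hv, by rwa [Bsymp_apply]⟩
    have hWN : ∀ w ∈ W, Nlin F d hd2 w ∈ W := by
      intro w hw
      have h3 : Matrix.toLin' xm w ∈ W := hWinv ⟨w, hw, rfl⟩
      rw [htl, hXdef, LinearMap.add_apply, Module.End.one_apply] at h3
      have h4 : Nlin F d hd2 w = (w + Nlin F d hd2 w) - w := by rw [add_sub_cancel_left]
      rw [h4]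
      exact W.sub_mem h3 hw
    have h4dvd := four_dvd_finrank (B := Bsymp d F) (N := Nlin F d hd2)
      (fun v => Bsymp_isAlt d v) (Nlin_sq hd2) (Bsymp_Nlin_self hd2) (Bsymp_Nlin_adj hd2)
      (Nlin_ker hd2) hWnd' hWN
    rw [hWd] at h4dvd
    omega
  · -- sufficiency
    intro hcond x hx _
    obtain ⟨z, hz⟩ := hx
    have hzz : z * z = 1 := by
      apply Cfsg.Agent.S5961.sq_eq_one_of_smul_mem (d := d) (by omega) z
      rw [← hz]
      exact (x ^ 2).2
    have hz1 : z = 1 := by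
      have h3 : (z + 1) * (z + 1) = 0 := by
        have h4 : (z + 1) * (z + 1) = z * z + (z + z) + 1 := by ring
        rw [h4, hzz, CharTwo.add_self_eq_zero, add_zero, CharTwo.add_self_eq_zero]
      have h5 : z + 1 = 0 := by
        rcases mul_eq_zero.1 h3 with h | h <;> exact h
      have h6 : z = -1 := eq_neg_of_add_eq_zero_left h5
      rw [h6, CharTwo.neg_eq]
    have hX : ∀ v, Matrix.toLin' (x : Matrix (Fin d ⊕ Fin d) (Fin d ⊕ Fin d) F)
        (Matrix.toLin' (x : Matrix (Fin d ⊕ Fin d) (Fin d ⊕ Fin d) F) v) = v := by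
      intro v
      have h3 : ((x ^ 2 : ↥(Matrix.symplecticGroup (Fin d) F)) :
          Matrix (Fin d ⊕ Fin d) (Fin d ⊕ Fin d) F) =
          (x : Matrix (Fin d ⊕ Fin d) (Fin d ⊕ Fin d) F) * x := by
        rw [pow_two]
        rfl
      rw [← LinearMap.comp_apply, ← Matrix.toLin'_mul, ← h3, hz, hz1, one_smul,
        Matrix.toLin'_one, LinearMap.id_apply]
    obtain ⟨W, hWd, hWnd, hWinv⟩ := exists_nd_invariant_two (B := Bsymp d F)
      (fun v => Bsymp_isAlt d v) (Bsymp_nondegenerate d) hX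
      (fun u v => Cfsg.Agent.S5961.Bsymp_iso x.2 u v) m hme (by omega) (by omega)
    refine ⟨W, hWd, ?_, ?_⟩
    · intro u hu hu0
      obtain ⟨v, hv, hne⟩ := (Cfsg.Agent.S5961.ndOn_iff (Bsymp d F) W).1 hWnd u hu hu0
      exact ⟨v, hv, by rwa [Bsymp_apply] at hne⟩
    · rintro _ ⟨w, hw, rfl⟩
      exact hWinv w hw

end Cfsg.Agent.Lib.Helper75_SpND_Q3
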