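import Mathlib
import Cfsg.Agent.Lib.Helper75_TZDefs
import Cfsg.Agent.Lib.Helper30_TZA_Gap
import Cfsg.Agent.Lib.Helper27_TZ_S8e
import Cfsg.Agent.Lib.Helper27_TZ_W5
import Cfsg.Agent.Lib.Helper26_TZ_REP3
import Cfsg.Agent.Lib.Helper63_TZ_SRES2
import Cfsg.Agent.Lib.Helper10_TZ_SISO
import Cfsg.Agent.Lib.Helper25_TZ_GEN4
import Cfsg.Agent.Lib.Helper85_TZ_SZPROJ

set_option autoImplicit false

namespace Cfsg.Agent.Lib.Helper75_TZ

open Matrix Module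
open Cfsg.Agent.Lib.Helper5_SpPerfect Cfsg.Agent.Lib.Helper81_SpWeights
  Cfsg.Agent.Lib.Helper81_JointEigen Cfsg.Agent.Lib.Helper81_Heis Cfsg.Agent.Lib.Helper81_WeilLin
  Cfsg.Agent.Lib.Helper81_Schrodinger

namespace G3aaux

section A

variable {F : Type*} [Field F] {m : ℕ}

theorem trP_zS_Ta' (c a : F) : trP (zS c : symSub (m + 1) F) (Ta a) = c * a := by
  rw [trP_apply]
  show Matrix.trace (Matrix.single 0 0 c * Matrix.single 0 0 a) = c * a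
  rw [Matrix.single_mul_single_same, Matrix.trace_single_eq_same]

theorem rk1S_smul {k : ℕ} (a t : F) (x : Fin k → F) : rk1S (a * t ^ 2) x = rk1S a (t • x) := by
  apply Subtype.ext
  show (a * t ^ 2) • vecMulVec x x = a • vecMulVec (t • x) (t • x)
  ext i j
  simp only [Matrix.smul_apply, vecMulVec_apply, Pi.smul_apply, smul_eq_mul]
  ring

end A

variable {F : Type*} [Field F] [Fintype F] [DecidableEq F] {m : ℕ} {K : Type*} [Field K]
  [IsAlgClosed K] [CharZero K] {M : Type*} [AddCommGroup M] [Module K M] [FiniteDimensional K M]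

/-- a representation with the weight `T_a`, `a ≠ 0`, is not trivial -/
theorem nontrivial_of_Ta' (ψ₀ : AddChar F K) (hψ₀ : ψ₀ ≠ 1) (R : SpG (m + 1) F →* Module.End K M)
    {a : F} (ha : a ≠ 0) (h : wsp R ψ₀ (Ta a) ≠ ⊥) : ∃ g, R g ≠ 1 := by
  obtain ⟨v, hv, hv0⟩ := Submodule.exists_mem_ne_zero_of_ne_bot h
  obtain ⟨x, hx⟩ : ∃ x, ψ₀ x ≠ 1 := by
    by_contra hcon
    push Not at hcon
    apply hψ₀
    ext x
    rw [hcon x]; rfl
  refine ⟨xs (zS (x / a)), fun h1 => hx ?_⟩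
  have h2 := (mem_wsp R ψ₀ (Ta a) v).mp hv (zS (x / a))
  rw [h1, trP_zS_Ta', div_mul_cancel₀ x ha] at h2
  have h3 : (1 : K) • v = ψ₀ x • v := by rw [one_smul]; exact h2
  exact (smul_left_injective K hv0 h3).symm

/-- the weight `0 ⊕ a E_ii` occurs as soon as `T_a` does -/
theorem wsp_Tai_ne_bot (ψ₀ : AddChar F K) (R : SpG (m + 1) F →* Module.End K M) {a : F}
    (h : wsp R ψ₀ (Ta a) ≠ ⊥) (i : Fin m) :
    wsp R ψ₀ (emS (rk1S a (Pi.single i 1))) ≠ ⊥ := by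
  have hx : (Pi.single 0 1 : Fin (m + 1) → F) ≠ 0 := by
    intro h0
    have := congrFun h0 0
    simp at this
  have hy : (c0 (Pi.single i 1) : Fin (m + 1) → F) ≠ 0 := by
    intro h0
    have := congrFun h0 i.succ
    simp at this
  obtain ⟨B, hB⟩ := exists_GL_mulVec (Pi.single 0 1 : Fin (m + 1) → F) (c0 (Pi.single i 1)) hx hy
  have h1 := Helper75_TZ.wsp_cong_ne_bot ψ₀ R (Ta a) h (B.1)ᵀ (B⁻¹.1)ᵀ (by
    rw [← Matrix.transpose_mul, ← Units.val_mul, inv_mul_cancel, Units.val_one, Matrix.transpose_one])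
  rw [Matrix.transpose_transpose, Ta_eq_rk1S, cong_rk1S, hB, ← emS_rk1S] at h1
  exact h1

/-- every irreducible `G₂`-submodule of `Ω^Z` is a Weil module of type `a` and contains a non-zero vector of weight
`0 ⊕ a E_ii` -/
theorem constituent (ψ₀ : AddChar F K) (hψ₀ : ψ₀ ≠ 1) (h2 : (2 : F) ≠ 0) (hodd : Odd (Fintype.card F))
    (hm : 1 ≤ m) (R : SpG (m + 1) F →* Module.End K M) (hirr : IrrRep R) (hrk : RankLeOne R ψ₀)
    (hnt : ∃ g, R g ≠ 1) {a : F} (ha : a ≠ 0)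
    (htype : ∀ T : symSub (m + 1) F, wsp R ψ₀ T ≠ ⊥ → ∃ x, T = rk1S a x) (i : Fin m)
    (D : Submodule K M) (hD0 : D ≤ zsp R ψ₀ 0)
    (hD : ∀ g : SpG m F, ∀ v ∈ D, (R.comp emb) g v ∈ D)
    (hDirr : IrrRep (subRep (R.comp emb) D hD)) :
    (∃ p : Bool, IsoRep (weilP ψ₀ hψ₀ h2 a ha m p) (subRep (R.comp emb) D hD)) ∧
      ∃ d ∈ D, d ≠ 0 ∧ d ∈ wsp R ψ₀ (emS (rk1S a (Pi.single i 1))) := by
  have hei : (Pi.single i 1 : Fin m → F) ≠ 0 := by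
    intro h0
    have := congrFun h0 i
    simp at this
  -- a weight vector of a Weil module, transported to `D`
  have hvec : ∀ (a' : F) (ha' : a' ≠ 0) (p' : Bool),
      IsoRep (weilP ψ₀ hψ₀ h2 a' ha' m p') (subRep (R.comp emb) D hD) →
      ∃ d ∈ D, d ≠ 0 ∧ d ∈ wsp R ψ₀ (emS (rk1S a' (Pi.single i 1))) := by
    intro a' ha' p' hiso
    have h1 := weilP_wsp_ne_bot ψ₀ hψ₀ h2 ha' p' (Pi.single i 1) hei
    have h3 := (isoRep_wsp_ne_bot ψ₀ hiso _).mp h1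
    obtain ⟨x, hx, hx0⟩ := Submodule.exists_mem_ne_zero_of_ne_bot h3
    have hx1 := (mem_wsp_subRep ψ₀ (R.comp emb) D hD _ x).mp hx
    refine ⟨x.1, x.2, fun h0 => hx0 (Subtype.ext h0), ?_⟩
    exact wsp_of_res ψ₀ hψ₀ hodd R hrk _ x.1 (hD0 x.2) hx1
  obtain ⟨a', ha', p', hiso⟩ :=
    constituent_weil ψ₀ hψ₀ h2 hodd R hrk hm hirr hnt D hD0 hD hDirr
  obtain ⟨d, hdD, hd0, hdw⟩ := hvec a' ha' p' hiso
  -- the type of `a'`
  have hne : wsp R ψ₀ (emS (rk1S a' (Pi.single i 1))) ≠ ⊥ := by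
    intro h0
    rw [h0, Submodule.mem_bot] at hdw
    exact hd0 hdw
  obtain ⟨y, hy⟩ := htype _ hne
  have hent := congrArg (fun T : symSub (m + 1) F => T.1 i.succ i.succ) hy
  simp only [emS, rk1S, ext0_succ_succ, Matrix.smul_apply, vecMulVec_apply, Pi.single_eq_same,
    smul_eq_mul, mul_one] at hent
  have ha't : a' = a * (y i.succ) ^ 2 := by rw [hent]; ring
  have ht0 : y i.succ ≠ 0 := by
    intro h0
    apply ha'
    rw [ha't, h0]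
    ring
  have hdw' : d ∈ wsp R ψ₀ (emS (rk1S a (y i.succ • (Pi.single i 1 : Fin m → F)))) := by
    rw [← rk1S_smul, ← ha't]
    exact hdw
  have hx0 : (y i.succ • (Pi.single i 1 : Fin m → F)) ≠ 0 := smul_ne_zero ht0 hei
  obtain ⟨p, hp⟩ := constituent_type ψ₀ hψ₀ h2 hodd R hrk hm hirr hnt D hD0 hD hDirr ha
    (y i.succ • (Pi.single i 1 : Fin m → F)) hx0 d hdD hd0 hdw'
  exact ⟨⟨p, hp⟩, hvec a ha p hp⟩

end G3aaux

section G

variable {F : Type*} [Field F] [Fintype F] [DecidableEq F] {m : ℕ} {K : Type*} [Field K]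
  [IsAlgClosed K] [CharZero K] {Ω : Type*} [AddCommGroup Ω] [Module K Ω] [FiniteDimensional K Ω]
  {M : Type*} [AddCommGroup M] [Module K M] [FiniteDimensional K M]

/-- PACKAGE G3a: `Ω^Z` is an irreducible `G₂`-module of Weil type `a`. -/
theorem OmegaZ_irr (ψ₀ : AddChar F K) (hψ₀ : ψ₀ ≠ 1) (h2 : (2 : F) ≠ 0) (hodd : Odd (Fintype.card F))
    (hm : 1 ≤ m) (RΩ : SpG (m + 1) F →* Module.End K Ω) (hΩirr : IrrRep RΩ)
    (hΩrk : RankLeOne RΩ ψ₀) {a : F} (ha : a ≠ 0)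
    (hmult : ∀ T, finrank K (wsp RΩ ψ₀ T) ≤ 1)
    (htype : ∀ T : symSub (m + 1) F, wsp RΩ ψ₀ T ≠ ⊥ → ∃ x, T = rk1S a x)
    (hΩa : wsp RΩ ψ₀ (Ta a) ≠ ⊥) :
    ∃ p : Bool, IsoRep (weilP ψ₀ hψ₀ h2 a ha m p)
      (subRep (RΩ.comp emb) (zsp RΩ ψ₀ 0) (zsp_stable ψ₀ RΩ 0)) := by
  classical
  have i : Fin m := ⟨0, hm⟩
  have hnt := G3aaux.nontrivial_of_Ta' ψ₀ hψ₀ RΩ ha hΩa
  -- `Ω^Z ≠ 0`
  have hTi := G3aaux.wsp_Tai_ne_bot ψ₀ RΩ hΩa i
  have hZne : zsp RΩ ψ₀ 0 ≠ ⊥ := by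
    intro h0
    apply hTi
    rw [eq_bot_iff]
    have h1 := wsp_le_zsp ψ₀ RΩ (emS (rk1S a (Pi.single i 1)))
    have h3 : (emS (rk1S a (Pi.single i 1)) : symSub (m + 1) F).1 0 0 = 0 := rfl
    rw [h3, h0] at h1
    exact h1
  obtain ⟨D, hD, hDle, hDirr⟩ :=
    exists_irr_sub (RΩ.comp emb) (zsp RΩ ψ₀ 0) (zsp_stable ψ₀ RΩ 0) hZne
  obtain ⟨⟨p, hp⟩, d, hdD, hd0, hdw⟩ :=
    G3aaux.constituent ψ₀ hψ₀ h2 hodd hm RΩ hΩirr hΩrk hnt ha htype i D hDle hD hDirr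
  -- a complement of `D` in `Ω^Z` is zero
  obtain ⟨N', hN', hN'le, hinf, hsup⟩ :=
    maschke_rel (RΩ.comp emb) D (zsp RΩ ψ₀ 0) hD (zsp_stable ψ₀ RΩ 0) hDle
  have hN'0 : N' = ⊥ := by
    by_contra hne
    obtain ⟨D', hD', hD'le, hD'irr⟩ := exists_irr_sub (RΩ.comp emb) N' hN' hne
    obtain ⟨-, d', hd'D, hd'0, hd'w⟩ :=
      G3aaux.constituent ψ₀ hψ₀ h2 hodd hm RΩ hΩirr hΩrk hnt ha htype i D'
        (hD'le.trans hN'le) hD' hD'irr
    -- `d'` is proportional to `d`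
    have hfr := hmult (emS (rk1S a (Pi.single i 1)))
    obtain ⟨v, hv⟩ := finrank_le_one_iff.mp hfr
    obtain ⟨c, hc⟩ := hv ⟨d, hdw⟩
    obtain ⟨c', hc'⟩ := hv ⟨d', hd'w⟩
    have hc0 : c ≠ 0 := by
      intro h0
      rw [h0, zero_smul] at hc
      exact hd0 (congrArg Subtype.val hc).symm
    have hd' : d' = (c' * c⁻¹) • d := by
      have e1 : (v : Ω) = c⁻¹ • d := by
        have := congrArg Subtype.val hc
        simp only [Submodule.coe_smul] at this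
        rw [← this, smul_smul, inv_mul_cancel₀ hc0, one_smul]
      have e2 := congrArg Subtype.val hc'
      simp only [Submodule.coe_smul] at e2
      rw [← e2, e1, smul_smul]
    have hmem : d' ∈ D ⊓ N' := ⟨by rw [hd']; exact D.smul_mem _ hdD, hD'le hd'D⟩
    rw [hinf, Submodule.mem_bot] at hmem
    exact hd'0 hmem
  rw [hN'0, sup_bot_eq] at hsup
  subst hsup
  exact ⟨p, hp⟩

end G

end Cfsg.Agent.Lib.Helper75_TZ
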