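import Mathlib
import Cfsg.Agent.Lib.Helper75_TZDefs
import Cfsg.Agent.Lib.Helper26_TZ_REP3

/-!
# S2524 market (architect helper75), package G3b (the abstract extension lemma), hypothesis form

`G3baux.main` is the whole argument of `exists_G2_map`, with the statement of W5 `weilP_finrank_wsp_le` as the
hypothesis `hfr`; it uses the landed package REP3 (`exists_irr_sub`, `maschke_rel`).
-/

set_option autoImplicit false

namespace Cfsg.Agent.Lib.Helper75_TZ

open Matrix Module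
open Cfsg.Agent.Lib.Helper5_SpPerfect Cfsg.Agent.Lib.Helper81_SpWeights
  Cfsg.Agent.Lib.Helper81_JointEigen Cfsg.Agent.Lib.Helper81_Heis Cfsg.Agent.Lib.Helper81_WeilLin
  Cfsg.Agent.Lib.Helper81_Schrodinger

namespace G3baux

section general

variable {K : Type*} [Field K] {B : Type*} [AddCommGroup B] [Module K B]

/-- the components of an eigenvector with respect to an invariant direct decomposition are eigenvectors -/
theorem eigen_split (f : Module.End K B) (c : K) (D N : Submodule K B) (hD : ∀ v ∈ D, f v ∈ D)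
    (hN : ∀ v ∈ N, f v ∈ N) (hDN : D ⊓ N = ⊥) (d n : B) (hd : d ∈ D) (hn : n ∈ N)
    (h : f (d + n) = c • (d + n)) : f d = c • d ∧ f n = c • n := by
  have h1 : f d - c • d = -(f n - c • n) := by
    rw [map_add, smul_add] at h
    have : f d - c • d + (f n - c • n) = 0 := by
      calc f d - c • d + (f n - c • n) = (f d + f n) - (c • d + c • n) := by abel
        _ = 0 := by rw [h, sub_self]
    exact eq_neg_of_add_eq_zero_left this
  have h2 : f d - c • d ∈ D := D.sub_mem (hD d hd) (D.smul_mem c hd)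
  have h3 : f d - c • d ∈ N := by
    rw [h1]; exact N.neg_mem (N.sub_mem (hN n hn) (N.smul_mem c hn))
  have h4 : f d - c • d ∈ D ⊓ N := ⟨h2, h3⟩
  rw [hDN, Submodule.mem_bot] at h4
  have h5 : f n - c • n = 0 := by
    have := h1
    rw [h4] at this
    exact neg_eq_zero.mp this.symm
  exact ⟨sub_eq_zero.mp h4, sub_eq_zero.mp h5⟩

/-- in a space of dimension at most one, every vector is a multiple of a given non-zero vector -/
theorem exists_smul_of_finrank_le_one {W : Type*} [AddCommGroup W] [Module K W]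
    [FiniteDimensional K W] (h : finrank K W ≤ 1) (x y : W) (hx : x ≠ 0) : ∃ c : K, y = c • x := by
  obtain ⟨v, hv⟩ := finrank_le_one_iff.mp h
  obtain ⟨cx, hcx⟩ := hv x
  obtain ⟨cy, hcy⟩ := hv y
  have hcx0 : cx ≠ 0 := by
    rintro rfl
    rw [zero_smul] at hcx
    exact hx hcx.symm
  refine ⟨cy * cx⁻¹, ?_⟩
  rw [← hcx, smul_smul, mul_assoc, inv_mul_cancel₀ hcx0, mul_one, hcy]

end general

section main

variable {F : Type*} [Field F] [Fintype F] [DecidableEq F] {K : Type*} [Field K]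
  [IsAlgClosed K] [CharZero K]

/-- the induction of G3b: over the invariant subspaces `B' ≤ B₀` -/
theorem main {k : ℕ} (ψ₀ : AddChar F K) (hψ₀ : ψ₀ ≠ 1) (h2 : (2 : F) ≠ 0) {a : F}
    (ha : a ≠ 0) (p : Bool) (T₀ : symSub k F)
    {A B : Type*} [AddCommGroup A] [Module K A] [FiniteDimensional K A] [AddCommGroup B]
    [Module K B] [FiniteDimensional K B]
    (RA : SpG k F →* Module.End K A) (RB : SpG k F →* Module.End K B)
    (hA : IsoRep (weilP ψ₀ hψ₀ h2 a ha k p) RA) (B₀ : Submodule K B)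
    (hB : ∀ (D : Submodule K B) (hD : ∀ g, ∀ v ∈ D, RB g v ∈ D), D ≤ B₀ → IrrRep (subRep RB D hD) →
      (∃ d ∈ D, d ≠ 0 ∧ d ∈ wsp RB ψ₀ T₀) →
      IsoRep (weilP ψ₀ hψ₀ h2 a ha k p) (subRep RB D hD))
    (hfr : finrank K (wsp (weilP ψ₀ hψ₀ h2 a ha k p) ψ₀ T₀) ≤ 1)
    (u : A) (hu : u ∈ wsp RA ψ₀ T₀) (hu0 : u ≠ 0) :
    ∀ (r : ℕ) (B' : Submodule K B), finrank K B' = r → (∀ g, ∀ v ∈ B', RB g v ∈ B') → B' ≤ B₀ →
      ∀ w ∈ B', w ∈ wsp RB ψ₀ T₀ →
      ∃ Φ : A →ₗ[K] B, (∀ g x, Φ (RA g x) = RB g (Φ x)) ∧ (∀ x, Φ x ∈ B') ∧ Φ u = w := by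
  intro r
  induction r using Nat.strong_induction_on with
  | _ r ih =>
    intro B' hr hB' hB'le w hwB' hw
    by_cases hw0 : w = 0
    · exact ⟨0, fun g x => by simp, fun x => by simp, by simp [hw0]⟩
    have hB'ne : B' ≠ ⊥ := by
      intro h
      rw [h, Submodule.mem_bot] at hwB'
      exact hw0 hwB'
    obtain ⟨D, hD, hDle, hDirr⟩ := exists_irr_sub RB B' hB' hB'ne
    obtain ⟨N', hN', hN'le, hDN, hDNsup⟩ := maschke_rel RB D B' hD hB' hDle
    -- decompose `w`
    have hwsup : w ∈ D ⊔ N' := by rw [hDNsup]; exact hwB'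
    obtain ⟨d, hd, n, hn, rfl⟩ := Submodule.mem_sup.mp hwsup
    -- the components are weight vectors
    have hsplit : ∀ S : symSub k F,
        RB (xs S) d = ψ₀ (trP S T₀) • d ∧ RB (xs S) n = ψ₀ (trP S T₀) • n := by
      intro S
      exact eigen_split (RB (xs S)) _ D N' (hD _) (hN' _) hDN d n hd hn
        ((mem_wsp RB ψ₀ T₀ _).mp hw S)
    have hdw : d ∈ wsp RB ψ₀ T₀ := (mem_wsp RB ψ₀ T₀ d).mpr (fun S => (hsplit S).1)
    have hnw : n ∈ wsp RB ψ₀ T₀ := (mem_wsp RB ψ₀ T₀ n).mpr (fun S => (hsplit S).2)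
    -- the `N'` part by induction
    have hDpos : 0 < finrank K D := by
      have := hDirr.1
      exact finrank_pos
    have hlt : finrank K N' < r := by
      have h1 := Submodule.finrank_sup_add_finrank_inf_eq D N'
      rw [hDN, hDNsup, finrank_bot, add_zero] at h1
      omega
    obtain ⟨Φn, hΦn1, hΦn2, hΦn3⟩ := ih _ hlt N' rfl hN' (hN'le.trans hB'le) n hn hnw
    -- the `D` part
    have hΦd : ∃ Φd : A →ₗ[K] B, (∀ g x, Φd (RA g x) = RB g (Φd x)) ∧ (∀ x, Φd x ∈ D) ∧
        Φd u = d := by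
      by_cases hd0 : d = 0
      · exact ⟨0, by simp, by simp, by simp [hd0]⟩
      obtain ⟨eD, heD⟩ := hB D hD (hDle.trans hB'le) hDirr ⟨d, hd, hd0, hdw⟩
      obtain ⟨eA, heA⟩ := hA
      have hu' : eA.symm u ∈ wsp (weilP ψ₀ hψ₀ h2 a ha k p) ψ₀ T₀ := by
        rw [mem_wsp]
        intro S
        apply eA.injective
        rw [heA, LinearEquiv.apply_symm_apply, map_smul, LinearEquiv.apply_symm_apply]
        exact (mem_wsp RA ψ₀ T₀ u).mp hu S
      have hd' : eD.symm ⟨d, hd⟩ ∈ wsp (weilP ψ₀ hψ₀ h2 a ha k p) ψ₀ T₀ := by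
        rw [mem_wsp]
        intro S
        apply eD.injective
        rw [heD, LinearEquiv.apply_symm_apply, map_smul, LinearEquiv.apply_symm_apply]
        apply Subtype.ext
        rw [subRep_apply]
        exact (hsplit S).1
      have hu'0 : (⟨eA.symm u, hu'⟩ : wsp (weilP ψ₀ hψ₀ h2 a ha k p) ψ₀ T₀) ≠ 0 := by
        intro h
        apply hu0
        have h1 : eA.symm u = 0 := congrArg Subtype.val h
        simpa using h1
      obtain ⟨c, hc⟩ := exists_smul_of_finrank_le_one hfr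
        (⟨eA.symm u, hu'⟩ : wsp (weilP ψ₀ hψ₀ h2 a ha k p) ψ₀ T₀)
        (⟨eD.symm ⟨d, hd⟩, hd'⟩ : wsp (weilP ψ₀ hψ₀ h2 a ha k p) ψ₀ T₀) hu'0
      have hc' : eD.symm ⟨d, hd⟩ = c • eA.symm u := congrArg Subtype.val hc
      have heA' : ∀ g x, eA.symm (RA g x) = (weilP ψ₀ hψ₀ h2 a ha k p) g (eA.symm x) := by
        intro g x
        apply eA.injective
        rw [heA, LinearEquiv.apply_symm_apply, LinearEquiv.apply_symm_apply]
      refine ⟨c • (D.subtype ∘ₗ eD.toLinearMap ∘ₗ eA.symm.toLinearMap), ?_, ?_, ?_⟩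
      · intro g x
        simp only [LinearMap.smul_apply, LinearMap.comp_apply, LinearEquiv.coe_coe,
          Submodule.subtype_apply, map_smul]
        rw [heA', heD, subRep_apply]
      · intro x
        exact D.smul_mem _ (Subtype.mem _)
      · simp only [LinearMap.smul_apply, LinearMap.comp_apply, LinearEquiv.coe_coe,
          Submodule.subtype_apply]
        rw [← Submodule.coe_smul, ← map_smul, ← hc', LinearEquiv.apply_symm_apply]
    obtain ⟨Φd, hΦd1, hΦd2, hΦd3⟩ := hΦd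
    refine ⟨Φd + Φn, ?_, ?_, ?_⟩
    · intro g x
      rw [LinearMap.add_apply, LinearMap.add_apply, hΦd1, hΦn1, map_add]
    · intro x
      rw [LinearMap.add_apply]
      exact B'.add_mem (hDle (hΦd2 x)) (hN'le (hΦn2 x))
    · rw [LinearMap.add_apply, hΦd3, hΦn3]

end main

end G3baux

end Cfsg.Agent.Lib.Helper75_TZ
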