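import Mathlib
import Cfsg.Agent.Lib.Helper75_TZDefs
import Cfsg.Agent.Lib.Helper77_TZ_G3baux
import Cfsg.Agent.Lib.Helper27_TZ_W5

/-!
# S2524 market (architect helper75), package G3b: the abstract extension lemma
-/

set_option autoImplicit false

namespace Cfsg.Agent.Lib.Helper75_TZ

open Matrix Module
open Cfsg.Agent.Lib.Helper5_SpPerfect Cfsg.Agent.Lib.Helper81_SpWeights
  Cfsg.Agent.Lib.Helper81_JointEigen Cfsg.Agent.Lib.Helper81_Heis Cfsg.Agent.Lib.Helper81_WeilLin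
  Cfsg.Agent.Lib.Helper81_Schrodinger

section G

variable {F : Type*} [Field F] [Fintype F] [DecidableEq F] {m : ℕ} {K : Type*} [Field K]
  [IsAlgClosed K] [CharZero K] {Ω : Type*} [AddCommGroup Ω] [Module K Ω] [FiniteDimensional K Ω]
  {M : Type*} [AddCommGroup M] [Module K M] [FiniteDimensional K M]

/-- PACKAGE G3b (abstract): if `A ≅ Fun^p (ω_a^(k))` and every irreducible submodule of the invariant subspace `B₀ ≤ B`
which has the weight `a E_ii` is `≅ Fun^p (ω_a^(k))` with the same `p`, then any weight vector `w ∈ B₀` of weight `a E_ii` is the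
image of the weight vector `u` of `A` under an equivariant map `A → B₀`. -/
theorem exists_G2_map {k : ℕ} (ψ₀ : AddChar F K) (hψ₀ : ψ₀ ≠ 1) (h2 : (2 : F) ≠ 0) {a : F}
    (ha : a ≠ 0) (p : Bool) (i : Fin k)
    {A B : Type*} [AddCommGroup A] [Module K A] [FiniteDimensional K A] [AddCommGroup B]
    [Module K B] [FiniteDimensional K B]
    (RA : SpG k F →* Module.End K A) (RB : SpG k F →* Module.End K B)
    (hA : IsoRep (weilP ψ₀ hψ₀ h2 a ha k p) RA) (B₀ : Submodule K B)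
    (hB₀ : ∀ g, ∀ v ∈ B₀, RB g v ∈ B₀)
    (hB : ∀ (D : Submodule K B) (hD : ∀ g, ∀ v ∈ D, RB g v ∈ D), D ≤ B₀ → IrrRep (subRep RB D hD) →
      (∃ d ∈ D, d ≠ 0 ∧ d ∈ wsp RB ψ₀ (rk1S a (Pi.single i 1))) →
      IsoRep (weilP ψ₀ hψ₀ h2 a ha k p) (subRep RB D hD))
    (u : A) (hu : u ∈ wsp RA ψ₀ (rk1S a (Pi.single i 1))) (hu0 : u ≠ 0) (w : B) (hw0 : w ∈ B₀)
    (hw : w ∈ wsp RB ψ₀ (rk1S a (Pi.single i 1))) :
    ∃ Φ : A →ₗ[K] B, (∀ g x, Φ (RA g x) = RB g (Φ x)) ∧ (∀ x, Φ x ∈ B₀) ∧ Φ u = w :=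
  G3baux.main ψ₀ hψ₀ h2 ha p (rk1S a (Pi.single i 1)) RA RB hA B₀ hB
    (weilP_finrank_wsp_le ψ₀ hψ₀ h2 ha p _) u hu hu0 _ B₀ rfl hB₀ le_rfl w hw0 hw

end G

end Cfsg.Agent.Lib.Helper75_TZ
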