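import Mathlib
import Cfsg.Agent.Lib.Helper75_TZDefs
import Cfsg.Agent.Lib.Helper75_TZ_G3a
import Cfsg.Agent.Lib.Helper77_TZ_G3b
import Cfsg.Agent.Lib.Helper61_TZ_S9b
import Cfsg.Agent.Lib.Helper57_TZ_G0
import Cfsg.Agent.Lib.Helper81_TZ_W3
import Cfsg.Agent.Lib.Helper82_TZ_S_WDEC

set_option autoImplicit false

namespace Cfsg.Agent.Lib.Helper75_TZ

open Matrix Module
open Cfsg.Agent.Lib.Helper5_SpPerfect Cfsg.Agent.Lib.Helper81_SpWeights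
  Cfsg.Agent.Lib.Helper81_JointEigen Cfsg.Agent.Lib.Helper81_Heis Cfsg.Agent.Lib.Helper81_WeilLin
  Cfsg.Agent.Lib.Helper81_Schrodinger

namespace G3caux

section A

variable {F : Type*} [Field F] {m : ℕ}

/-- the inverse transpose of an element of `GL` -/
def invT {k : ℕ} (B : GL (Fin k) F) : GL (Fin k) F :=
  ⟨(B⁻¹.1)ᵀ, (B.1)ᵀ,
    by rw [← Matrix.transpose_mul, ← Units.val_mul, mul_inv_cancel, Units.val_one,
      Matrix.transpose_one],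
    by rw [← Matrix.transpose_mul, ← Units.val_mul, inv_mul_cancel, Units.val_one,
      Matrix.transpose_one]⟩

theorem invT_inv_transpose {k : ℕ} (B : GL (Fin k) F) : ((invT B)⁻¹.1)ᵀ = B.1 := by
  show ((B.1)ᵀ)ᵀ = B.1
  rw [Matrix.transpose_transpose]

theorem cong_ext0_emS (B : Matrix (Fin m) (Fin m) F) (T : symSub m F) :
    cong (ext0 1 B) (emS T) = emS (cong B T) := by
  apply Subtype.ext
  show ext0 1 B * ext0 0 T.1 * (ext0 1 B)ᵀ = ext0 0 (B * T.1 * Bᵀ)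
  rw [ext0_transpose, ext0_mul, ext0_mul]
  simp

theorem ext0GL_inv_val (A : GL (Fin m) F) : ((ext0GL A)⁻¹).1 = ext0 1 A⁻¹.1 := rfl

theorem emS_apply_zero (T : symSub m F) : (emS T).1 0 0 = 0 := rfl

end A

variable {F : Type*} [Field F] [Fintype F] [DecidableEq F] {m : ℕ} {K : Type*} [Field K]
  [IsAlgClosed K] [CharZero K] {M : Type*} [AddCommGroup M] [Module K M] [FiniteDimensional K M]

theorem wsp_emS_le_zsp (ψ₀ : AddChar F K) (R : SpG (m + 1) F →* Module.End K M) (T : symSub m F) :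
    wsp R ψ₀ (emS T) ≤ zsp R ψ₀ 0 := by
  have h1 := wsp_le_zsp ψ₀ R (emS T)
  rw [emS_apply_zero] at h1
  exact h1

theorem rep_injective {n : ℕ} (R : SpG n F →* Module.End K M) (g : SpG n F) :
    Function.Injective (R g) := by
  intro x y h
  have h1 : R g⁻¹ (R g x) = R g⁻¹ (R g y) := by rw [h]
  rw [← Module.End.mul_apply, ← Module.End.mul_apply, ← map_mul, inv_mul_cancel, map_one] at h1
  exact h1

/-- a Levi element of `G₂` moves the weight `0 ⊕ a s sᵀ` to `0 ⊕ a E_ii` -/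
theorem exists_move (ψ₀ : AddChar F K) (R : SpG (m + 1) F →* Module.End K M) (a : F) (i : Fin m)
    (s : Fin m → F) (hs : s ≠ 0) :
    ∃ A₂ : GL (Fin m) F, ∀ x ∈ wsp R ψ₀ (emS (rk1S a s)),
      R (lgH (ext0GL A₂)) x ∈ wsp R ψ₀ (emS (rk1S a (Pi.single i 1))) := by
  have hei : (Pi.single i 1 : Fin m → F) ≠ 0 := by
    intro h0
    have := congrFun h0 i
    simp at this
  obtain ⟨B, hB⟩ := exists_GL_mulVec s (Pi.single i 1) hs hei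
  refine ⟨invT B, fun x hx => ?_⟩
  have h1 := lgH_wsp ψ₀ R (ext0GL (invT B)) (emS (rk1S a s)) x hx
  rw [ext0GL_inv_val, ext0_transpose, invT_inv_transpose, cong_ext0_emS, cong_rk1S, hB] at h1
  exact h1

end G3caux

section G

variable {F : Type*} [Field F] [Fintype F] [DecidableEq F] {m : ℕ} {K : Type*} [Field K]
  [IsAlgClosed K] [CharZero K] {Ω : Type*} [AddCommGroup Ω] [Module K Ω] [FiniteDimensional K Ω]
  {M : Type*} [AddCommGroup M] [Module K M] [FiniteDimensional K M]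

/-- PACKAGE G3c: the `G₂`-equivariant map on `Ω^Z` which agrees with the `P`-equivariant map `Ψ` on the non-zero weight
spaces of `Ω^Z`. -/
theorem exists_Phi2 (ψ₀ : AddChar F K) (hψ₀ : ψ₀ ≠ 1) (hodd : Odd (Fintype.card F)) (hm : 1 ≤ m)
    (RΩ : SpG (m + 1) F →* Module.End K Ω) (RM : SpG (m + 1) F →* Module.End K M)
    (hΩirr : IrrRep RΩ) (hMirr : IrrRep RM) (hΩrk : RankLeOne RΩ ψ₀) (hMrk : RankLeOne RM ψ₀)
    (σ : K) (hΩσ : CentralSign RΩ σ) (hMσ : CentralSign RM σ) {a : F} (ha : a ≠ 0)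
    (hmult : ∀ T, finrank K (wsp RΩ ψ₀ T) ≤ 1)
    (htype : ∀ T : symSub (m + 1) F, wsp RΩ ψ₀ T ≠ ⊥ → ∃ x, T = rk1S a x)
    (hΩa : wsp RΩ ψ₀ (Ta a) ≠ ⊥) (hMnt : ∃ g, RM g ≠ 1)
    (Ψ : Ω →ₗ[K] M) (hΨxs : ∀ S x, Ψ (RΩ (xs S) x) = RM (xs S) (Ψ x))
    (hΨlg : ∀ A x, Ψ (RΩ (lgH A) x) = RM (lgH A) (Ψ x)) :
    ∃ Φ₂ : Ω →ₗ[K] M, (∀ x ∈ zsp RΩ ψ₀ 0, Φ₂ x ∈ zsp RM ψ₀ 0) ∧
      (∀ (g : SpG m F), ∀ x ∈ zsp RΩ ψ₀ 0, Φ₂ (RΩ (emb g) x) = RM (emb g) (Φ₂ x)) ∧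
      ∀ T₂ : symSub m F, T₂ ≠ 0 → ∀ x ∈ wsp RΩ ψ₀ (emS T₂), Φ₂ x = Ψ x := by
  classical
  have h2 : (2 : F) ≠ 0 := two_ne_zero_of_odd hodd
  have i : Fin m := ⟨0, hm⟩
  have hΩnt := G3aaux.nontrivial_of_Ta' ψ₀ hψ₀ RΩ ha hΩa
  obtain ⟨p, hp⟩ := OmegaZ_irr ψ₀ hψ₀ h2 hodd hm RΩ hΩirr hΩrk ha hmult htype hΩa
  -- the weight vector `u₁`
  obtain ⟨u₁, hu₁w, hu₁0⟩ :=
    Submodule.exists_mem_ne_zero_of_ne_bot (G3aaux.wsp_Tai_ne_bot ψ₀ RΩ hΩa i)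
  have hu₁Z : u₁ ∈ zsp RΩ ψ₀ 0 := G3caux.wsp_emS_le_zsp ψ₀ RΩ _ hu₁w
  -- the parity of `Ω^Z`
  have hparΩ := parity ψ₀ hψ₀ h2 hodd RΩ hΩrk σ hΩσ ha i (zsp RΩ ψ₀ 0) (zsp_stable ψ₀ RΩ 0) p hp
    u₁ hu₁Z hu₁0 hu₁w
  have hκ := kap_sq (k := m) ψ₀ hψ₀ h2 ha
  have hκ0 : kap ψ₀ a m ≠ 0 := by
    intro h0
    rw [h0, mul_zero] at hκ
    exact zero_ne_one hκ
  have hκne : kap ψ₀ a m ≠ -kap ψ₀ a m := by
    intro h0
    have h1 : (2 : K) * kap ψ₀ a m = 0 := by linear_combination h0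
    rcases mul_eq_zero.mp h1 with h | h
    · exact two_ne_zero h
    · exact hκ0 h
  -- the hypothesis of the abstract lemma for `M^Z`
  have hB : ∀ (D : Submodule K M) (hD : ∀ g, ∀ v ∈ D, (RM.comp emb) g v ∈ D), D ≤ zsp RM ψ₀ 0 →
      IrrRep (subRep (RM.comp emb) D hD) →
      (∃ d ∈ D, d ≠ 0 ∧ d ∈ wsp (RM.comp emb) ψ₀ (rk1S a (Pi.single i 1))) →
      IsoRep (weilP ψ₀ hψ₀ h2 a ha m p) (subRep (RM.comp emb) D hD) := by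
    intro D hD hD0 hDirr ⟨d, hdD, hd0, hdw⟩
    have hei : (Pi.single i 1 : Fin m → F) ≠ 0 := by
      intro h0
      have := congrFun h0 i
      simp at this
    have hdw' : d ∈ wsp RM ψ₀ (emS (rk1S a (Pi.single i 1))) :=
      wsp_of_res ψ₀ hψ₀ hodd RM hMrk _ d (hD0 hdD) hdw
    obtain ⟨p', hp'⟩ := constituent_type ψ₀ hψ₀ h2 hodd RM hMrk hm hMirr hMnt D hD0 hD hDirr ha
      (Pi.single i 1) hei d hdD hd0 hdw'
    have hparM := parity ψ₀ hψ₀ h2 hodd RM hMrk σ hMσ ha i D hD p' hp' d hdD hd0 hdw'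
    have hpp : p' = p := by
      have e : (if p' then -kap ψ₀ a m else kap ψ₀ a m) =
          (if p then -kap ψ₀ a m else kap ψ₀ a m) := by rw [hparM, hparΩ]
      cases p' <;> cases p
      · rfl
      · simp only [Bool.false_eq_true, if_false, if_true] at e
        exact absurd e hκne
      · simp only [Bool.false_eq_true, if_false, if_true] at e
        exact absurd e.symm hκne
      · rfl
    rw [← hpp]
    exact hp'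
  -- the vectors
  have hu₁A : (⟨u₁, hu₁Z⟩ : zsp RΩ ψ₀ 0) ∈
      wsp (subRep (RΩ.comp emb) (zsp RΩ ψ₀ 0) (zsp_stable ψ₀ RΩ 0)) ψ₀
        (rk1S a (Pi.single i 1)) :=
    (mem_wsp_subRep ψ₀ (RΩ.comp emb) (zsp RΩ ψ₀ 0) (zsp_stable ψ₀ RΩ 0) _ ⟨u₁, hu₁Z⟩).mpr
      (wsp_res ψ₀ RΩ _ u₁ hu₁w)
  have hu₁A0 : (⟨u₁, hu₁Z⟩ : zsp RΩ ψ₀ 0) ≠ 0 := fun h0 => hu₁0 (congrArg Subtype.val h0)
  have hww : Ψ u₁ ∈ wsp RM ψ₀ (emS (rk1S a (Pi.single i 1))) :=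
    wsp_of_equivariant ψ₀ RΩ RM Ψ hΨxs _ u₁ hu₁w
  have hwZ : Ψ u₁ ∈ zsp RM ψ₀ 0 := G3caux.wsp_emS_le_zsp ψ₀ RM _ hww
  obtain ⟨Φ, hΦeq, hΦZ, hΦu⟩ := exists_G2_map ψ₀ hψ₀ h2 ha p i
    (subRep (RΩ.comp emb) (zsp RΩ ψ₀ 0) (zsp_stable ψ₀ RΩ 0)) (RM.comp emb) hp (zsp RM ψ₀ 0)
    (zsp_stable ψ₀ RM 0) hB ⟨u₁, hu₁Z⟩ hu₁A hu₁A0 (Ψ u₁) hwZ (wsp_res ψ₀ RM _ _ hww)
  -- extend to `Ω` along the projection `zproj 0`
  let π : Ω →ₗ[K] zsp RΩ ψ₀ 0 :=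
    (zproj RΩ ψ₀ 0).codRestrict (zsp RΩ ψ₀ 0) (fun v => zproj_mem ψ₀ RΩ 0 v)
  have hπ : ∀ x (hx : x ∈ zsp RΩ ψ₀ 0), π x = ⟨x, hx⟩ := by
    intro x hx
    apply Subtype.ext
    show zproj RΩ ψ₀ 0 x = x
    exact zproj_of_mem ψ₀ RΩ 0 x hx
  have hΦ₂Z : ∀ x ∈ zsp RΩ ψ₀ 0, (Φ.comp π) x ∈ zsp RM ψ₀ 0 := fun x hx => hΦZ _
  have hΦ₂eq : ∀ (g : SpG m F), ∀ x ∈ zsp RΩ ψ₀ 0,
      (Φ.comp π) (RΩ (emb g) x) = RM (emb g) ((Φ.comp π) x) := by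
    intro g x hx
    have hgx : RΩ (emb g) x ∈ zsp RΩ ψ₀ 0 := zsp_stable ψ₀ RΩ 0 g x hx
    show Φ (π (RΩ (emb g) x)) = RM (emb g) (Φ (π x))
    rw [hπ _ hgx, hπ _ hx]
    have := hΦeq g ⟨x, hx⟩
    exact this
  refine ⟨Φ.comp π, hΦ₂Z, hΦ₂eq, ?_⟩
  intro T₂ hT₂ x hx
  by_cases hx0 : x = 0
  · rw [hx0, map_zero, map_zero]
  -- the shape of the weight
  have hne : wsp RΩ ψ₀ (emS T₂) ≠ ⊥ := by
    intro h0
    rw [h0, Submodule.mem_bot] at hx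
    exact hx0 hx
  obtain ⟨y, hy⟩ := htype _ hne
  have hy0 : y 0 = 0 := by
    have h1 := congrArg (fun T : symSub (m + 1) F => T.1 0 0) hy
    simp only [G3caux.emS_apply_zero, rk1S, Matrix.smul_apply, vecMulVec_apply, smul_eq_mul] at h1
    have h3 : y 0 * y 0 = 0 := by
      rcases mul_eq_zero.mp h1.symm with h | h
      · exact absurd h ha
      · exact h
    exact mul_self_eq_zero.mp h3
  have hyc : y = c0 (fun j : Fin m => y j.succ) := by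
    funext j
    refine Fin.cases ?_ (fun j' => ?_) j
    · rw [hy0]; rfl
    · rfl
  have hT₂e : T₂ = rk1S a (fun j : Fin m => y j.succ) := by
    apply emS_injective
    rw [hy, emS_rk1S, ← hyc]
  have hs : (fun j : Fin m => y j.succ) ≠ 0 := by
    intro h0
    apply hT₂
    rw [hT₂e, h0]
    apply Subtype.ext
    show a • vecMulVec (0 : Fin m → F) 0 = 0
    rw [zero_vecMulVec, smul_zero]
  obtain ⟨A₂, hA₂⟩ := G3caux.exists_move ψ₀ RΩ a i (fun j : Fin m => y j.succ) hs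
  have hxw : RΩ (lgH (ext0GL A₂)) x ∈ wsp RΩ ψ₀ (emS (rk1S a (Pi.single i 1))) := by
    apply hA₂
    rw [← hT₂e]
    exact hx
  -- proportional to `u₁`
  obtain ⟨v, hv⟩ := finrank_le_one_iff.mp (hmult (emS (rk1S a (Pi.single i 1))))
  obtain ⟨c, hc⟩ := hv ⟨u₁, hu₁w⟩
  obtain ⟨c', hc'⟩ := hv ⟨_, hxw⟩
  have hc0 : c ≠ 0 := by
    intro h0
    rw [h0, zero_smul] at hc
    exact hu₁0 (congrArg Subtype.val hc).symm
  have hgx : RΩ (lgH (ext0GL A₂)) x = (c' * c⁻¹) • u₁ := by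
    have e1 : (v : Ω) = c⁻¹ • u₁ := by
      have := congrArg Subtype.val hc
      simp only [Submodule.coe_smul] at this
      rw [← this, smul_smul, inv_mul_cancel₀ hc0, one_smul]
    have e2 := congrArg Subtype.val hc'
    simp only [Submodule.coe_smul] at e2
    rw [← e2, e1, smul_smul]
  have hxZ : x ∈ zsp RΩ ψ₀ 0 := G3caux.wsp_emS_le_zsp ψ₀ RΩ _ hx
  apply G3caux.rep_injective RM (lgH (ext0GL A₂))
  have h1 : RM (lgH (ext0GL A₂)) ((Φ.comp π) x) = (Φ.comp π) (RΩ (lgH (ext0GL A₂)) x) := by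
    rw [← emb_lgH]
    exact (hΦ₂eq (lgH A₂) x hxZ).symm
  rw [h1, ← hΨlg, hgx, map_smul, map_smul]
  congr 1
  show Φ (π u₁) = Ψ u₁
  rw [hπ _ hu₁Z]
  exact hΦu

end G

end Cfsg.Agent.Lib.Helper75_TZ
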