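/-
S2524 market (architect helper75), package G2: a `P`-equivariant map is `G₂`-equivariant on
`Ω_(Z,a')`, `a' ≠ 0`.
-/
import Mathlib
import Cfsg.Agent.Lib.Helper75_TZDefs
import Cfsg.Agent.Lib.Helper57_TZ_G0
import Cfsg.Agent.Lib.Helper31_TZ_GRP_COMM
import Cfsg.Agent.Lib.Helper84_TZ_GRPHREL
import Cfsg.Agent.Lib.Helper85_TZ_SZDEC
import Cfsg.Agent.Lib.Helper25_TZ_S5i
import Cfsg.Agent.Lib.Helper87_TZ_S5iiib

set_option autoImplicit false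
set_option linter.unusedSectionVars false
set_option linter.unusedVariables false

namespace Cfsg.Agent.Lib.Helper75_TZ

open Matrix Module
open Cfsg.Agent.Lib.Helper5_SpPerfect Cfsg.Agent.Lib.Helper81_SpWeights
  Cfsg.Agent.Lib.Helper81_JointEigen Cfsg.Agent.Lib.Helper81_Heis Cfsg.Agent.Lib.Helper81_WeilLin
  Cfsg.Agent.Lib.Helper81_Schrodinger

section G

variable {F : Type*} [Field F] [Fintype F] [DecidableEq F] {m : ℕ} {K : Type*} [Field K]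
  [IsAlgClosed K] [CharZero K] {Ω : Type*} [AddCommGroup Ω] [Module K Ω] [FiniteDimensional K Ω]
  {M : Type*} [AddCommGroup M] [Module K M] [FiniteDimensional K M]

namespace G2aux

/-- `d(s)` as a Levi element (statement of GRP-DS, `rfl`) -/
theorem ds_eq_lgH' (s : Fˣ) :
    (ds s : SpG (m + 1) F) = lgH ⟨dA (s : F), dA ((s⁻¹ : Fˣ) : F),
      by rw [dA_mul, ← Units.val_mul, mul_inv_cancel, Units.val_one]; exact ext0_one,
      by rw [dA_mul, ← Units.val_mul, inv_mul_cancel, Units.val_one]; exact ext0_one⟩ := rfl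

/-- a `Levi`-equivariant map commutes with the maps `f_v` -/
theorem Psi_fv (RΩ : SpG (m + 1) F →* Module.End K Ω) (RM : SpG (m + 1) F →* Module.End K M)
    (Ψ : Ω →ₗ[K] M) (hΨlg : ∀ A x, Ψ (RΩ (lgH A) x) = RM (lgH A) (Ψ x)) (v : Ω)
    (φ : (Fin m → F) → K) : Ψ (fv RΩ v φ) = fv RM (Ψ v) φ := by
  rw [fv_apply, fv_apply, map_sum]
  apply Finset.sum_congr rfl
  intro s _
  rw [map_smul, yt_eq_lgH, hΨlg]

/-- the case `a' = a` -/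
theorem equivariant_a (ψ₀ : AddChar F K) (hψ₀ : ψ₀ ≠ 1) (hodd : Odd (Fintype.card F)) (hm : 1 ≤ m)
    (RΩ : SpG (m + 1) F →* Module.End K Ω) (RM : SpG (m + 1) F →* Module.End K M)
    (hΩrk : RankLeOne RΩ ψ₀) (hMrk : RankLeOne RM ψ₀) {a : F} (ha : a ≠ 0)
    (Ψ : Ω →ₗ[K] M) (hΨxs : ∀ S x, Ψ (RΩ (xs S) x) = RM (xs S) (Ψ x))
    (hΨlg : ∀ A x, Ψ (RΩ (lgH A) x) = RM (lgH A) (Ψ x))
    (x : Ω) (hx : x ∈ zsp RΩ ψ₀ a) (g : SpG m F) :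
    Ψ (RΩ (emb g) x) = RM (emb g) (Ψ x) := by
  obtain ⟨vs, hvs, rfl⟩ := zsp_eq_sum_fv ψ₀ hψ₀ hodd RΩ hΩrk ha x hx
  rw [map_sum, map_sum, map_sum, map_sum]
  apply Finset.sum_congr rfl
  intro s _
  have hv : Ψ (vs s) ∈ wsp RM ψ₀ (Ta a) :=
    wsp_of_equivariant ψ₀ RΩ RM Ψ hΨxs (Ta a) (vs s) (hvs s)
  rw [← fv_weil ψ₀ hψ₀ hodd RΩ hΩrk hm ha (vs s) (hvs s) g (dl s), Psi_fv RΩ RM Ψ hΨlg,
    Psi_fv RΩ RM Ψ hΨlg, fv_weil ψ₀ hψ₀ hodd RM hMrk hm ha (Ψ (vs s)) hv g (dl s)]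

end G2aux

/-- PACKAGE G2: a `P`-equivariant map is `G₂`-equivariant on `Ω_(Z,a')`, `a' ≠ 0`. -/
theorem equivariant_G2 (ψ₀ : AddChar F K) (hψ₀ : ψ₀ ≠ 1) (hodd : Odd (Fintype.card F)) (hm : 1 ≤ m)
    (RΩ : SpG (m + 1) F →* Module.End K Ω) (RM : SpG (m + 1) F →* Module.End K M)
    (hΩrk : RankLeOne RΩ ψ₀) (hMrk : RankLeOne RM ψ₀) {a : F} (ha : a ≠ 0)
    (hmult : finrank K (wsp RΩ ψ₀ (Ta a)) ≤ 1)
    (htype : ∀ T : symSub (m + 1) F, wsp RΩ ψ₀ T ≠ ⊥ → ∃ x, T = rk1S a x)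
    (Ψ : Ω →ₗ[K] M) (hΨxs : ∀ S x, Ψ (RΩ (xs S) x) = RM (xs S) (Ψ x))
    (hΨlg : ∀ A x, Ψ (RΩ (lgH A) x) = RM (lgH A) (Ψ x))
    (a' : F) (ha' : a' ≠ 0) (x : Ω) (hx : x ∈ zsp RΩ ψ₀ a') (g : SpG m F) :
    Ψ (RΩ (emb g) x) = RM (emb g) (Ψ x) := by
  by_cases hx0 : x = 0
  · rw [hx0, map_zero, map_zero, map_zero]
  -- some weight `T` with `T₀₀ = a'`
  have hne : zsp RΩ ψ₀ a' ≠ ⊥ := fun h => hx0 (by rw [h] at hx; exact (Submodule.mem_bot K).mp hx)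
  rw [zsp_eq_iSup ψ₀ hψ₀ hodd RΩ a'] at hne
  have hex : ∃ T : {T : symSub (m + 1) F // T.1 0 0 = a'}, wsp RΩ ψ₀ T.1 ≠ ⊥ := by
    by_contra hcon
    push Not at hcon
    apply hne
    rw [iSup_eq_bot]
    exact hcon
  obtain ⟨⟨T, hT00⟩, hTne⟩ := hex
  obtain ⟨y, hy⟩ := htype T hTne
  have hay : a' = a * (y 0 * y 0) := by
    rw [← hT00, hy]
    show (a • vecMulVec y y) 0 0 = _
    rw [Matrix.smul_apply, vecMulVec_apply, smul_eq_mul]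
  have hy0 : y 0 ≠ 0 := by
    intro h
    apply ha'
    rw [hay, h, mul_zero, mul_zero]
  -- conjugate by `d(s)`, `s = y 0`
  set s : Fˣ := Units.mk0 (y 0) hy0 with hs
  have hsv : (s : F) = y 0 := rfl
  have hx' : RΩ (ds s) x ∈ zsp RΩ ψ₀ a := by
    have h1 := ds_zsp ψ₀ RΩ s a' x hx
    have h2 : ((s⁻¹ : Fˣ) : F) ^ 2 * a' = a := by
      rw [Units.val_inv_eq_inv_val, hsv, hay]
      field_simp
    rwa [h2] at h1
  have hcomm : (ds s : SpG (m + 1) F) * emb g = emb g * ds s := ds_comm_emb s g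
  have hΨds : ∀ z, Ψ (RΩ (ds s) z) = RM (ds s) (Ψ z) := by
    intro z
    rw [G2aux.ds_eq_lgH', hΨlg]
  have hmain := G2aux.equivariant_a ψ₀ hψ₀ hodd hm RΩ RM hΩrk hMrk ha Ψ hΨxs hΨlg _ hx' g
  -- `RM (ds s)` is injective
  have hinj : Function.Injective (RM (ds s)) := by
    intro u v huv
    have := congrArg (RM (ds s)⁻¹) huv
    simpa [← Module.End.mul_apply, ← map_mul] using this
  apply hinj
  rw [← hΨds, ← Module.End.mul_apply, ← map_mul, hcomm, map_mul, Module.End.mul_apply, hmain,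
    hΨds, ← Module.End.mul_apply, ← Module.End.mul_apply, ← map_mul, ← map_mul, hcomm]

end G

end Cfsg.Agent.Lib.Helper75_TZ
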