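import Mathlib
import Cfsg.Agent.Lib.Helper75_TZDefs

set_option autoImplicit false
set_option linter.unusedSectionVars false

/-!
# S2524 market (architect helper75), package S-QPROJ: the projection onto `M^Q`
-/

namespace Cfsg.Agent.Lib.Helper75_TZ

open Matrix Module
open Cfsg.Agent.Lib.Helper5_SpPerfect Cfsg.Agent.Lib.Helper81_SpWeights
  Cfsg.Agent.Lib.Helper81_JointEigen Cfsg.Agent.Lib.Helper81_Heis Cfsg.Agent.Lib.Helper81_WeilLin
  Cfsg.Agent.Lib.Helper81_Schrodinger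

namespace S_QPROJaux

section

variable {F : Type*} [Field F] [Fintype F] [DecidableEq F] {m : ℕ} {K : Type*} [Field K]
  [IsAlgClosed K] [CharZero K] {M : Type*} [AddCommGroup M] [Module K M] [FiniteDimensional K M]

theorem qproj_apply {n : ℕ} (R : SpG n F →* Module.End K M) (v : M) :
    qproj R v = ((Fintype.card (symSub n F) : K))⁻¹ • ∑ S : symSub n F, R (xs S) v := by
  unfold qproj
  rw [LinearMap.smul_apply, LinearMap.sum_apply]

theorem card_ne_zero {n : ℕ} : ((Fintype.card (symSub n F) : ℕ) : K) ≠ 0 :=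
  Nat.cast_ne_zero.mpr Fintype.card_ne_zero

/-- congruence by an invertible matrix is a bijection of the symmetric matrices -/
def congEquiv {n : ℕ} (A B : Matrix (Fin n) (Fin n) F) (hAB : A * B = 1) : symSub n F ≃ symSub n F where
  toFun := cong B
  invFun := cong A
  left_inv := cong_cong B A hAB
  right_inv := cong_cong A B (mul_eq_one_comm.mp hAB)

end

end S_QPROJaux

section S

variable {F : Type*} [Field F] [Fintype F] [DecidableEq F] {m : ℕ} {K : Type*} [Field K]
  [IsAlgClosed K] [CharZero K] {M : Type*} [AddCommGroup M] [Module K M] [FiniteDimensional K M]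

/-- PACKAGE S-QPROJ: `qproj R = |Q|⁻¹ ∑_S R(xs S)` is the projection onto `M^Q` along the other weight spaces -/
theorem qproj_mem {n : ℕ} (ψ₀ : AddChar F K) (R : SpG n F →* Module.End K M) (v : M) :
    qproj R v ∈ wsp R ψ₀ 0 := by
  rw [mem_wsp]
  intro S
  rw [map_zero, AddChar.map_zero_eq_one, one_smul, S_QPROJaux.qproj_apply, map_smul, map_sum]
  congr 1
  rw [← Equiv.sum_comp (Equiv.addLeft S) (fun S' : symSub n F => R (xs S') v)]
  refine Finset.sum_congr rfl fun S' _ => ?_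
  rw [← Module.End.mul_apply, ← map_mul, ← xs_add]
  rfl

theorem qproj_of_mem {n : ℕ} (ψ₀ : AddChar F K) (R : SpG n F →* Module.End K M) (v : M)
    (hv : v ∈ wsp R ψ₀ 0) : qproj R v = v := by
  rw [mem_wsp] at hv
  have h1 : ∀ S : symSub n F, R (xs S) v = v := by
    intro S
    rw [hv S, map_zero, AddChar.map_zero_eq_one, one_smul]
  rw [S_QPROJaux.qproj_apply, Finset.sum_congr rfl (fun S _ => h1 S), Finset.sum_const,
    Finset.card_univ, ← Nat.cast_smul_eq_nsmul K, smul_smul, inv_mul_cancel₀ S_QPROJaux.card_ne_zero,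
    one_smul]

theorem qproj_of_wsp {n : ℕ} (ψ₀ : AddChar F K) (hψ₀ : ψ₀ ≠ 1) (hodd : Odd (Fintype.card F))
    (R : SpG n F →* Module.End K M) (T : symSub n F) (hT : T ≠ 0) (v : M) (hv : v ∈ wsp R ψ₀ T) :
    qproj R v = 0 := by
  rw [mem_wsp] at hv
  rw [S_QPROJaux.qproj_apply, Finset.sum_congr rfl (fun S _ => hv S), ← Finset.sum_smul]
  -- the character sum vanishes
  have hsum : ∑ S : symSub n F, ψ₀ (trP S T) = 0 := by
    obtain ⟨S₀, hS₀⟩ := trP_nondeg (two_ne_zero_of_odd hodd) T hT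
    obtain ⟨a, ha⟩ : ∃ a, ψ₀ a ≠ 1 := by
      by_contra hcon
      push Not at hcon
      apply hψ₀
      ext a
      rw [hcon a]
      rfl
    -- `S₁` with `trP S₁ T = a`
    obtain ⟨S₁, hS₁⟩ : ∃ S₁ : symSub n F, trP S₁ T = a := by
      refine ⟨(a * (trP S₀ T)⁻¹) • S₀, ?_⟩
      rw [map_smul, LinearMap.smul_apply, smul_eq_mul, mul_assoc, inv_mul_cancel₀ hS₀, mul_one]
    have h1 : ∑ S : symSub n F, ψ₀ (trP S T) = ψ₀ a * ∑ S : symSub n F, ψ₀ (trP S T) := by
      calc ∑ S : symSub n F, ψ₀ (trP S T)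
          = ∑ S : symSub n F, ψ₀ (trP (Equiv.addLeft S₁ S) T) :=
            (Equiv.sum_comp (Equiv.addLeft S₁) (fun S : symSub n F => ψ₀ (trP S T))).symm
        _ = ∑ S : symSub n F, ψ₀ a * ψ₀ (trP S T) := by
            refine Finset.sum_congr rfl fun S _ => ?_
            show ψ₀ (trP (S₁ + S) T) = _
            rw [map_add, LinearMap.add_apply, AddChar.map_add_eq_mul, hS₁]
        _ = ψ₀ a * ∑ S : symSub n F, ψ₀ (trP S T) := Finset.mul_sum _ _ _ |>.symm
    have h2 : (1 - ψ₀ a) * ∑ S : symSub n F, ψ₀ (trP S T) = 0 := by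
      rw [sub_mul, one_mul, ← h1, sub_self]
    rcases mul_eq_zero.mp h2 with h3 | h3
    · exact absurd (sub_eq_zero.mp h3).symm ha
    · exact h3
  rw [hsum, zero_smul, smul_zero]

theorem qproj_xs {n : ℕ} (R : SpG n F →* Module.End K M) (S : symSub n F) (v : M) :
    qproj R (R (xs S) v) = R (xs S) (qproj R v) := by
  rw [S_QPROJaux.qproj_apply, S_QPROJaux.qproj_apply, map_smul, map_sum]
  congr 1
  refine Finset.sum_congr rfl fun S' _ => ?_
  have hc := ((xs_comm S' S).map R).eq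
  rw [← Module.End.mul_apply, hc, Module.End.mul_apply]

theorem qproj_lgH {n : ℕ} (R : SpG n F →* Module.End K M) (A : GL (Fin n) F) (v : M) :
    qproj R (R (lgH A) v) = R (lgH A) (qproj R v) := by
  rw [S_QPROJaux.qproj_apply, S_QPROJaux.qproj_apply, map_smul, map_sum]
  congr 1
  have hCB : A.1 * A⁻¹.1 = 1 := by rw [← Units.val_mul, mul_inv_cancel, Units.val_one]
  have hlg : lgH A = Lg A.1 A⁻¹.1 hCB := rfl
  rw [← Equiv.sum_comp (S_QPROJaux.congEquiv A.1 A⁻¹.1 hCB)
    (fun S : symSub n F => R (lgH A) (R (xs S) v))]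
  refine Finset.sum_congr rfl fun S _ => ?_
  show R (xs S) (R (lgH A) v) = R (lgH A) (R (xs (cong A⁻¹.1 S)) v)
  have e1 : xs S * Lg A.1 A⁻¹.1 hCB = Lg A.1 A⁻¹.1 hCB * xs (cong A⁻¹.1 S) := by
    rw [lg_mul_xs A.1 A⁻¹.1 hCB (cong A⁻¹.1 S), cong_cong A⁻¹.1 A.1 hCB S]
  rw [hlg, ← Module.End.mul_apply, ← map_mul, e1, map_mul, Module.End.mul_apply]

end S

end Cfsg.Agent.Lib.Helper75_TZ
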