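import Mathlib
import Cfsg.Agent.Lib.Helper75_TZDefs
import Cfsg.Agent.Lib.Helper82_TZ_S_QPROJ
import Cfsg.Agent.Lib.Helper85_TZ_SZDEC
import Cfsg.Agent.Lib.Helper85_TZ_SZPROJ
import Cfsg.Agent.Lib.Helper27_TZ_S2

set_option autoImplicit false
set_option linter.unusedSectionVars false

/-!
# S2524 market (architect helper75), package G4a: `Φ = Ψ + Φ₂ ∘ qproj` is `G₂`-equivariant
-/

namespace Cfsg.Agent.Lib.Helper75_TZ

open Matrix Module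
open Cfsg.Agent.Lib.Helper5_SpPerfect Cfsg.Agent.Lib.Helper81_SpWeights
  Cfsg.Agent.Lib.Helper81_JointEigen Cfsg.Agent.Lib.Helper81_Heis Cfsg.Agent.Lib.Helper81_WeilLin
  Cfsg.Agent.Lib.Helper81_Schrodinger

namespace G4aaux

section

variable {F : Type*} [Field F] [Fintype F] [DecidableEq F] {m : ℕ} {K : Type*} [Field K]
  [IsAlgClosed K] [CharZero K] {Ω : Type*} [AddCommGroup Ω] [Module K Ω] [FiniteDimensional K Ω]
  {M : Type*} [AddCommGroup M] [Module K M] [FiniteDimensional K M]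

theorem emS_zero : (emS (0 : symSub m F) : symSub (m + 1) F) = 0 := by
  apply Subtype.ext
  show ext0 0 (0 : Matrix (Fin m) (Fin m) F) = 0
  exact ext0_zero

theorem emS_ne_zero {T₂ : symSub m F} (h : T₂ ≠ 0) : (emS T₂ : symSub (m + 1) F) ≠ 0 := by
  intro h0
  apply h
  apply Subtype.ext
  ext i j
  have h1 := congrArg (fun T : symSub (m + 1) F => T.1 i.succ j.succ) h0
  exact h1

/-- on a `Z`-eigenspace with non-zero eigenvalue the projection onto `Ω^Q` vanishes -/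
theorem qproj_zsp_ne (ψ₀ : AddChar F K) (hψ₀ : ψ₀ ≠ 1) (hodd : Odd (Fintype.card F))
    (R : SpG (m + 1) F →* Module.End K Ω) {a : F} (ha : a ≠ 0) (z : Ω) (hz : z ∈ zsp R ψ₀ a) :
    qproj R z = 0 := by
  rw [zsp_eq_iSup ψ₀ hψ₀ hodd R a] at hz
  induction hz using Submodule.iSup_induction' with
  | mem T x hx =>
    apply qproj_of_wsp ψ₀ hψ₀ hodd R T.1 _ x hx
    intro h0
    apply ha
    rw [← T.2, h0]
    rfl
  | zero => exact map_zero _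
  | add x y _ _ hx hy => rw [map_add, hx, hy, add_zero]

/-- on `Ω^Z` the glued map is `Φ₂` -/
theorem glue_eq_on_zsp (ψ₀ : AddChar F K) (hψ₀ : ψ₀ ≠ 1) (hodd : Odd (Fintype.card F))
    (RΩ : SpG (m + 1) F →* Module.End K Ω)
    (hΩrk : RankLeOne RΩ ψ₀) (Ψ Φ₂ : Ω →ₗ[K] M)
    (hΨQ : ∀ x ∈ wsp RΩ ψ₀ 0, Ψ x = 0)
    (hΦΨ : ∀ T₂ : symSub m F, T₂ ≠ 0 → ∀ x ∈ wsp RΩ ψ₀ (emS T₂), Φ₂ x = Ψ x)
    (z : Ω) (hz : z ∈ zsp RΩ ψ₀ 0) : (Ψ + Φ₂.comp (qproj RΩ)) z = Φ₂ z := by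
  rw [zsp_eq_iSup ψ₀ hψ₀ hodd RΩ 0] at hz
  induction hz using Submodule.iSup_induction' with
  | mem T x hx =>
    by_cases hbot : wsp RΩ ψ₀ T.1 = ⊥
    · rw [hbot, Submodule.mem_bot] at hx
      rw [hx, map_zero, map_zero]
    · obtain ⟨T₂, hT₂⟩ := S2aux.corner_zero T.1 (hΩrk T.1 hbot) T.2
      rw [hT₂] at hx
      rw [LinearMap.add_apply, LinearMap.comp_apply]
      by_cases h0 : T₂ = 0
      · rw [h0, emS_zero] at hx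
        rw [hΨQ x hx, qproj_of_mem ψ₀ RΩ x hx, zero_add]
      · rw [qproj_of_wsp ψ₀ hψ₀ hodd RΩ (emS T₂) (emS_ne_zero h0) x hx, map_zero, add_zero,
          hΦΨ T₂ h0 x hx]
  | zero => rw [map_zero, map_zero]
  | add x y _ _ hx hy => rw [map_add, map_add, hx, hy]

end

end G4aaux

section G

variable {F : Type*} [Field F] [Fintype F] [DecidableEq F] {m : ℕ} {K : Type*} [Field K]
  [IsAlgClosed K] [CharZero K] {Ω : Type*} [AddCommGroup Ω] [Module K Ω] [FiniteDimensional K Ω]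
  {M : Type*} [AddCommGroup M] [Module K M] [FiniteDimensional K M]

/-- PACKAGE G4a: `Φ = Ψ + Φ₂ ∘ qproj` is `G₂`-equivariant -/
theorem glue_G2 (ψ₀ : AddChar F K) (hψ₀ : ψ₀ ≠ 1) (hodd : Odd (Fintype.card F)) (hm : 1 ≤ m)
    (RΩ : SpG (m + 1) F →* Module.End K Ω) (RM : SpG (m + 1) F →* Module.End K M)
    (hΩrk : RankLeOne RΩ ψ₀) (Ψ Φ₂ : Ω →ₗ[K] M)
    (hΨQ : ∀ x ∈ wsp RΩ ψ₀ 0, Ψ x = 0)
    (hΨ2 : ∀ a' : F, a' ≠ 0 → ∀ x ∈ zsp RΩ ψ₀ a', ∀ g : SpG m F, Ψ (RΩ (emb g) x) = RM (emb g) (Ψ x))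
    (hΦ₂ : ∀ (g : SpG m F), ∀ x ∈ zsp RΩ ψ₀ 0, Φ₂ (RΩ (emb g) x) = RM (emb g) (Φ₂ x))
    (hΦΨ : ∀ T₂ : symSub m F, T₂ ≠ 0 → ∀ x ∈ wsp RΩ ψ₀ (emS T₂), Φ₂ x = Ψ x)
    (g : SpG m F) (x : Ω) :
    (Ψ + Φ₂.comp (qproj RΩ)) (RΩ (emb g) x) = RM (emb g) ((Ψ + Φ₂.comp (qproj RΩ)) x) := by
  have hx : x ∈ ⨆ a : F, zsp RΩ ψ₀ a := by
    rw [iSup_zsp ψ₀ hψ₀ hodd RΩ]
    exact Submodule.mem_top
  induction hx using Submodule.iSup_induction' with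
  | mem a x hx =>
    have hy : RΩ (emb g) x ∈ zsp RΩ ψ₀ a := zsp_stable ψ₀ RΩ a g x hx
    by_cases ha : a = 0
    · subst ha
      rw [G4aaux.glue_eq_on_zsp ψ₀ hψ₀ hodd RΩ hΩrk Ψ Φ₂ hΨQ hΦΨ _ hy,
        G4aaux.glue_eq_on_zsp ψ₀ hψ₀ hodd RΩ hΩrk Ψ Φ₂ hΨQ hΦΨ _ hx, hΦ₂ g x hx]
    · rw [LinearMap.add_apply, LinearMap.add_apply, LinearMap.comp_apply, LinearMap.comp_apply,
        G4aaux.qproj_zsp_ne ψ₀ hψ₀ hodd RΩ ha _ hy, G4aaux.qproj_zsp_ne ψ₀ hψ₀ hodd RΩ ha _ hx,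
        map_zero, add_zero, add_zero, hΨ2 a ha x hx g]
  | zero => rw [map_zero, map_zero, map_zero]
  | add x y _ _ hx hy => rw [map_add, map_add, map_add, map_add, hx, hy]

end G

end Cfsg.Agent.Lib.Helper75_TZ
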