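import Mathlib
import Cfsg.Agent.Lib.Helper75_TZDefs
import Cfsg.Agent.Lib.Helper82_TZ_S_WDEC
import Cfsg.Agent.Lib.Helper82_TZ_S_QPROJ
import Cfsg.Agent.Lib.Helper63_TZ_SRES
import Cfsg.Agent.Lib.Helper25_TZ_GEN3
import Cfsg.Agent.Lib.Helper27_TZ_S2
import Cfsg.Agent.Lib.Helper61_TZ_S4

set_option autoImplicit false
set_option linter.unusedSectionVars false

/-!
# S2524 market (architect helper75), package G4b: `Φ = Ψ + Φ₂ ∘ qproj` is `P`-equivariant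
-/

namespace Cfsg.Agent.Lib.Helper75_TZ

open Matrix Module
open Cfsg.Agent.Lib.Helper5_SpPerfect Cfsg.Agent.Lib.Helper81_SpWeights
  Cfsg.Agent.Lib.Helper81_JointEigen Cfsg.Agent.Lib.Helper81_Heis Cfsg.Agent.Lib.Helper81_WeilLin
  Cfsg.Agent.Lib.Helper81_Schrodinger

namespace G4baux

section

variable {F : Type*} [Field F] [Fintype F] [DecidableEq F] {m : ℕ} {K : Type*} [Field K]
  [IsAlgClosed K] [CharZero K] {Ω : Type*} [AddCommGroup Ω] [Module K Ω] [FiniteDimensional K Ω]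
  {M : Type*} [AddCommGroup M] [Module K M] [FiniteDimensional K M]

omit [Fintype F] [DecidableEq F] in
/-- `emb (lgH A) = lgH (ext0GL A)` (a private copy of GRP-EMB `emb_lgH`) -/
theorem emb_lgH' (A : GL (Fin m) F) : emb (lgH A) = lgH (ext0GL A) := by
  apply Subtype.ext
  show embC 1 0 0 1 (Lmat A.1 A⁻¹.1) = Lmat (ext0 1 A.1) (ext0 1 A⁻¹.1)
  unfold Lmat
  rw [embC_fromBlocks, ext0_zero, ext0_transpose]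

/-- vectors of `Ω^Q` are fixed by all `xs S` -/
theorem xs_fix_of_mem {n : ℕ} (ψ₀ : AddChar F K) (R : SpG n F →* Module.End K M) (v : M)
    (hv : v ∈ wsp R ψ₀ 0) (S : symSub n F) : R (xs S) v = v := by
  rw [mem_wsp] at hv
  rw [hv S, map_zero, AddChar.map_zero_eq_one, one_smul]

theorem mem_wsp_zero_of_fix {n : ℕ} (ψ₀ : AddChar F K) (R : SpG n F →* Module.End K M) (v : M)
    (hv : ∀ S : symSub n F, R (xs S) v = v) : v ∈ wsp R ψ₀ 0 := by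
  rw [mem_wsp]
  intro S
  rw [hv S, map_zero, AddChar.map_zero_eq_one, one_smul]

/-- `Ω^Q ≤ Ω^Z` -/
theorem wsp_zero_le_zsp (ψ₀ : AddChar F K) (R : SpG (m + 1) F →* Module.End K M) :
    wsp R ψ₀ 0 ≤ zsp R ψ₀ 0 := by
  intro v hv
  rw [mem_zsp]
  intro c
  rw [mul_zero, AddChar.map_zero_eq_one, one_smul]
  exact xs_fix_of_mem ψ₀ R v hv (zS c)

/-- `Φ₂ (Ω^Q) ≤ M^Q` -/
theorem Phi2_Q (ψ₀ : AddChar F K) (hψ₀ : ψ₀ ≠ 1) (hodd : Odd (Fintype.card F))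
    (RΩ : SpG (m + 1) F →* Module.End K Ω) (RM : SpG (m + 1) F →* Module.End K M)
    (hMrk : RankLeOne RM ψ₀) (Φ₂ : Ω →ₗ[K] M)
    (hΦ₂Z : ∀ x ∈ zsp RΩ ψ₀ 0, Φ₂ x ∈ zsp RM ψ₀ 0)
    (hΦ₂ : ∀ (g : SpG m F), ∀ x ∈ zsp RΩ ψ₀ 0, Φ₂ (RΩ (emb g) x) = RM (emb g) (Φ₂ x))
    (y : Ω) (hy : y ∈ wsp RΩ ψ₀ 0) : Φ₂ y ∈ wsp RM ψ₀ 0 := by
  have hyZ : y ∈ zsp RΩ ψ₀ 0 := wsp_zero_le_zsp ψ₀ RΩ hy
  have hΦZ : Φ₂ y ∈ zsp RM ψ₀ 0 := hΦ₂Z y hyZ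
  apply mem_wsp_zero_of_fix
  intro S
  obtain ⟨S₂, hS₂⟩ := xs_decomp S
  have h1 : RM (xs (emS S₂)) (Φ₂ y) = Φ₂ y := by
    rw [← SRESaux.emb_xs', ← hΦ₂ (xs S₂) y hyZ, SRESaux.emb_xs', xs_fix_of_mem ψ₀ RΩ y hy]
  have h2 : RM (xb (fun j => S.1 0 j.succ)) (Φ₂ y) = Φ₂ y :=
    xb_fix ψ₀ hψ₀ hodd RM hMrk (Φ₂ y) hΦZ _
  have h3 : RM (zc (S.1 0 0)) (Φ₂ y) = Φ₂ y := by
    rw [mem_zsp] at hΦZ
    rw [hΦZ, mul_zero, AddChar.map_zero_eq_one, one_smul]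
  rw [hS₂, map_mul, map_mul, Module.End.mul_apply, Module.End.mul_apply, h1, h2, h3]

/-- `lgH A` preserves `Ω^Q` -/
theorem lgH_wsp_zero {n : ℕ} (ψ₀ : AddChar F K) (R : SpG n F →* Module.End K M)
    (A : GL (Fin n) F) (v : M) (hv : v ∈ wsp R ψ₀ 0) : R (lgH A) v ∈ wsp R ψ₀ 0 := by
  have h := lgH_wsp ψ₀ R A 0 v hv
  rw [cong_zero] at h
  exact h

/-- `Φ₂` commutes with the Levi factor on `Ω^Q` -/
theorem Phi2_lgH (ψ₀ : AddChar F K) (hψ₀ : ψ₀ ≠ 1) (hodd : Odd (Fintype.card F)) (hm : 1 ≤ m)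
    (RΩ : SpG (m + 1) F →* Module.End K Ω) (RM : SpG (m + 1) F →* Module.End K M)
    (hΩrk : RankLeOne RΩ ψ₀) (hMrk : RankLeOne RM ψ₀) (Φ₂ : Ω →ₗ[K] M)
    (hΦ₂Z : ∀ x ∈ zsp RΩ ψ₀ 0, Φ₂ x ∈ zsp RM ψ₀ 0)
    (hΦ₂ : ∀ (g : SpG m F), ∀ x ∈ zsp RΩ ψ₀ 0, Φ₂ (RΩ (emb g) x) = RM (emb g) (Φ₂ x))
    (A : GL (Fin (m + 1)) F) :
    ∀ y ∈ wsp RΩ ψ₀ 0, Φ₂ (RΩ (lgH A) y) = RM (lgH A) (Φ₂ y) := by
  have hA : A ∈ Subgroup.closure ({A : GL (Fin (m + 1)) F | ∃ (j k : Fin (m + 1)) (hjk : j ≠ k)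
      (s : F), A = elemGL j k hjk s} ∪ Set.range (ext0GL : GL (Fin m) F → GL (Fin (m + 1)) F)) := by
    rw [closure_elem_ext0 hm]
    exact Subgroup.mem_top A
  induction hA using Subgroup.closure_induction with
  | mem A hA =>
    intro y hy
    rcases hA with ⟨j, k, hjk, s, rfl⟩ | ⟨A₂, rfl⟩
    · rw [elem_fix_Q ψ₀ hψ₀ hodd RΩ hΩrk y hy j k hjk s,
        elem_fix_Q ψ₀ hψ₀ hodd RM hMrk (Φ₂ y)
          (Phi2_Q ψ₀ hψ₀ hodd RΩ RM hMrk Φ₂ hΦ₂Z hΦ₂ y hy) j k hjk s]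
    · rw [← emb_lgH']
      exact hΦ₂ (lgH A₂) y (wsp_zero_le_zsp ψ₀ RΩ hy)
  | one =>
    intro y _
    rw [map_one, map_one, map_one, Module.End.one_apply, Module.End.one_apply]
  | mul A B _ _ hA hB =>
    intro y hy
    rw [map_mul, map_mul, map_mul, Module.End.mul_apply, Module.End.mul_apply,
      hA _ (lgH_wsp_zero ψ₀ RΩ B y hy), hB y hy]
  | inv A _ hA =>
    intro y hy
    have hy' : RΩ (lgH A⁻¹) y ∈ wsp RΩ ψ₀ 0 := lgH_wsp_zero ψ₀ RΩ A⁻¹ y hy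
    have h1 := hA _ hy'
    have e1 : RΩ (lgH A) (RΩ (lgH A⁻¹) y) = y := by
      rw [← Module.End.mul_apply, ← map_mul, ← map_mul, mul_inv_cancel, map_one, map_one,
        Module.End.one_apply]
    rw [e1] at h1
    rw [h1, ← Module.End.mul_apply, ← map_mul, ← map_mul, inv_mul_cancel, map_one, map_one,
      Module.End.one_apply]

end

end G4baux

section G

variable {F : Type*} [Field F] [Fintype F] [DecidableEq F] {m : ℕ} {K : Type*} [Field K]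
  [IsAlgClosed K] [CharZero K] {Ω : Type*} [AddCommGroup Ω] [Module K Ω] [FiniteDimensional K Ω]
  {M : Type*} [AddCommGroup M] [Module K M] [FiniteDimensional K M]

/-- PACKAGE G4b: `Φ = Ψ + Φ₂ ∘ qproj` is `P`-equivariant.
(`Φ₂ (Ω^Q) ≤ M^Q`: `xs_decomp`, `xb_fix`; on `Ω^Q`, `M^Q` the elementary matrices are trivial (`elem_fix_Q`) and
`lgH (ext0GL A₂) = emb (lgH A₂)`: `closure_elem_ext0`.) -/
theorem glue_P (ψ₀ : AddChar F K) (hψ₀ : ψ₀ ≠ 1) (hodd : Odd (Fintype.card F)) (hm : 1 ≤ m)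
    (RΩ : SpG (m + 1) F →* Module.End K Ω) (RM : SpG (m + 1) F →* Module.End K M)
    (hΩrk : RankLeOne RΩ ψ₀) (hMrk : RankLeOne RM ψ₀) (Ψ Φ₂ : Ω →ₗ[K] M)
    (hΨxs : ∀ S x, Ψ (RΩ (xs S) x) = RM (xs S) (Ψ x))
    (hΨlg : ∀ A x, Ψ (RΩ (lgH A) x) = RM (lgH A) (Ψ x))
    (hΦ₂Z : ∀ x ∈ zsp RΩ ψ₀ 0, Φ₂ x ∈ zsp RM ψ₀ 0)
    (hΦ₂ : ∀ (g : SpG m F), ∀ x ∈ zsp RΩ ψ₀ 0, Φ₂ (RΩ (emb g) x) = RM (emb g) (Φ₂ x)) :
    (∀ S x, (Ψ + Φ₂.comp (qproj RΩ)) (RΩ (xs S) x) = RM (xs S) ((Ψ + Φ₂.comp (qproj RΩ)) x)) ∧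
      ∀ A x, (Ψ + Φ₂.comp (qproj RΩ)) (RΩ (lgH A) x) = RM (lgH A) ((Ψ + Φ₂.comp (qproj RΩ)) x) := by
  constructor
  · intro S x
    have hq : qproj RΩ x ∈ wsp RΩ ψ₀ 0 := qproj_mem ψ₀ RΩ x
    rw [LinearMap.add_apply, LinearMap.add_apply, LinearMap.comp_apply, LinearMap.comp_apply,
      map_add, hΨxs S x, qproj_xs RΩ S x, G4baux.xs_fix_of_mem ψ₀ RΩ _ hq S,
      G4baux.xs_fix_of_mem ψ₀ RM _
        (G4baux.Phi2_Q ψ₀ hψ₀ hodd RΩ RM hMrk Φ₂ hΦ₂Z hΦ₂ _ hq) S]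
  · intro A x
    have hq : qproj RΩ x ∈ wsp RΩ ψ₀ 0 := qproj_mem ψ₀ RΩ x
    rw [LinearMap.add_apply, LinearMap.add_apply, LinearMap.comp_apply, LinearMap.comp_apply,
      map_add, hΨlg A x, qproj_lgH RΩ A x,
      G4baux.Phi2_lgH ψ₀ hψ₀ hodd hm RΩ RM hΩrk hMrk Φ₂ hΦ₂Z hΦ₂ A _ hq]

end G

end Cfsg.Agent.Lib.Helper75_TZ
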