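import Mathlib
import Cfsg.Agent.Lib.Helper75_TZDefs

/-!
helper91: S2524 package G1d (architect helper75): `PhiE` kills `Ω^Q`.
-/

set_option autoImplicit false
set_option linter.unusedSectionVars false

namespace Cfsg.Agent.Lib.Helper75_TZ

open Matrix Module
open Cfsg.Agent.Lib.Helper5_SpPerfect Cfsg.Agent.Lib.Helper81_SpWeights
  Cfsg.Agent.Lib.Helper81_JointEigen Cfsg.Agent.Lib.Helper81_Heis Cfsg.Agent.Lib.Helper81_WeilLin
  Cfsg.Agent.Lib.Helper81_Schrodinger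

section G

variable {F : Type*} [Field F] [Fintype F] [DecidableEq F] {m : ℕ} {K : Type*} [Field K]
  [IsAlgClosed K] [CharZero K] {Ω : Type*} [AddCommGroup Ω] [Module K Ω] [FiniteDimensional K Ω]
  {M : Type*} [AddCommGroup M] [Module K M] [FiniteDimensional K M]

namespace G1daux

/-- the weight space of the weight `0` is the space of `Q`-fixed vectors -/
theorem mem_wsp_zero_iff {n : ℕ} (ψ₀ : AddChar F K) (R : SpG n F →* Module.End K Ω) (x : Ω) :
    x ∈ wsp R ψ₀ 0 ↔ ∀ S : symSub n F, R (xs S) x = x := by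
  rw [mem_wsp]
  refine forall_congr' fun S => ?_
  rw [map_zero, AddChar.map_zero_eq_one, one_smul]

/-- `lg B` preserves the `Q`-fixed vectors -/
theorem lgH_wsp_zero {n : ℕ} (ψ₀ : AddChar F K) (R : SpG n F →* Module.End K Ω)
    (B : GL (Fin n) F) (x : Ω) (hx : x ∈ wsp R ψ₀ 0) : R (lgH B) x ∈ wsp R ψ₀ 0 := by
  rw [mem_wsp_zero_iff] at hx ⊢
  intro S'
  have hc : cong B.1 (cong B⁻¹.1 S') = S' :=
    cong_cong B⁻¹.1 B.1 (by rw [← Units.val_mul, mul_inv_cancel, Units.val_one]) S'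
  have h1 := lgH_mul_xs B (cong B⁻¹.1 S')
  rw [hc] at h1
  calc R (xs S') (R (lgH B) x) = R (xs S' * lgH B) x := by
        rw [map_mul, Module.End.mul_apply]
    _ = R (lgH B * xs (cong B⁻¹.1 S')) x := by rw [h1]
    _ = R (lgH B) (R (xs (cong B⁻¹.1 S')) x) := by rw [map_mul, Module.End.mul_apply]
    _ = R (lgH B) x := by rw [hx]

/-- the inverse of `xs S` fixes the `Q`-fixed vectors -/
theorem xs_inv_fix {n : ℕ} (ψ₀ : AddChar F K) (R : SpG n F →* Module.End K Ω)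
    (S : symSub n F) (x : Ω) (hx : x ∈ wsp R ψ₀ 0) : R (xs S)⁻¹ x = x := by
  rw [mem_wsp_zero_iff] at hx
  have h1 : R ((xs S)⁻¹ * xs S) x = x := by
    rw [inv_mul_cancel, map_one, Module.End.one_apply]
  rw [map_mul, Module.End.mul_apply, hx S] at h1
  exact h1

end G1daux

/-- PACKAGE G1d: `PhiE` kills `Ω^Q` -/
theorem PhiE_Q {n : ℕ} (ψ₀ : AddChar F K) (RΩ : SpG n F →* Module.End K Ω)
    (RM : SpG n F →* Module.End K M) (φ₀ : Ω →ₗ[K] M) (h0 : ∀ x ∈ wsp RΩ ψ₀ 0, φ₀ x = 0) (x : Ω)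
    (hx : x ∈ wsp RΩ ψ₀ 0) : PhiE RΩ RM φ₀ x = 0 := by
  unfold PhiE
  rw [LinearMap.sum_apply]
  apply Finset.sum_eq_zero
  intro S _
  rw [LinearMap.sum_apply]
  apply Finset.sum_eq_zero
  intro A _
  rw [LinearMap.comp_apply, LinearMap.comp_apply]
  have hy : RΩ (xs S * lgH A)⁻¹ x ∈ wsp RΩ ψ₀ 0 := by
    rw [_root_.mul_inv_rev, map_mul, Module.End.mul_apply, G1daux.xs_inv_fix ψ₀ RΩ S x hx, ← map_inv]
    exact G1daux.lgH_wsp_zero ψ₀ RΩ A⁻¹ x hx
  rw [h0 _ hy, map_zero]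

end G

end Cfsg.Agent.Lib.Helper75_TZ
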