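import Mathlib
import Cfsg.Agent.Lib.Helper75_TZDefs

/-!
S2524 package G1a (helper9, for helper75): the `P`-average `PhiE` is `P`-equivariant
(reindexing of the double sum over `(S, A)`).
-/

set_option autoImplicit false
set_option linter.unusedSectionVars false

namespace Cfsg.Agent.Lib.Helper75_TZ

open Matrix Module
open Cfsg.Agent.Lib.Helper5_SpPerfect Cfsg.Agent.Lib.Helper81_SpWeights
  Cfsg.Agent.Lib.Helper81_JointEigen Cfsg.Agent.Lib.Helper81_Heis Cfsg.Agent.Lib.Helper81_WeilLin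
  Cfsg.Agent.Lib.Helper81_Schrodinger

section G

variable {F : Type*} [Field F] [Fintype F] [DecidableEq F] {m : ℕ} {K : Type*} [Field K]
  [IsAlgClosed K] [CharZero K] {Ω : Type*} [AddCommGroup Ω] [Module K Ω] [FiniteDimensional K Ω]
  {M : Type*} [AddCommGroup M] [Module K M] [FiniteDimensional K M]

namespace G1aaux

theorem PhiE_apply {n : ℕ} (RΩ : SpG n F →* Module.End K Ω) (RM : SpG n F →* Module.End K M)
    (φ₀ : Ω →ₗ[K] M) (x : Ω) :
    PhiE RΩ RM φ₀ x =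
      ∑ i : symSub n F × GL (Fin n) F,
        RM (xs i.1 * lgH i.2) (φ₀ (RΩ (xs i.1 * lgH i.2)⁻¹ x)) := by
  unfold PhiE
  rw [LinearMap.sum_apply, Fintype.sum_prod_type]
  refine Finset.sum_congr rfl fun S _ => ?_
  rw [LinearMap.sum_apply]
  rfl

theorem PhiE_of_bij {n : ℕ} (RΩ : SpG n F →* Module.End K Ω) (RM : SpG n F →* Module.End K M)
    (φ₀ : Ω →ₗ[K] M) (g : SpG n F)
    (σ : symSub n F × GL (Fin n) F ≃ symSub n F × GL (Fin n) F)
    (hσ : ∀ i, xs (σ i).1 * lgH (σ i).2 = g * (xs i.1 * lgH i.2)) (x : Ω) :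
    PhiE RΩ RM φ₀ (RΩ g x) = RM g (PhiE RΩ RM φ₀ x) := by
  rw [PhiE_apply, PhiE_apply, map_sum]
  rw [← Equiv.sum_comp σ]
  refine Finset.sum_congr rfl fun i _ => ?_
  rw [hσ i, map_mul]
  have h1 : RΩ (g * (xs i.1 * lgH i.2))⁻¹ (RΩ g x) = RΩ (xs i.1 * lgH i.2)⁻¹ x := by
    have : (g * (xs i.1 * lgH i.2))⁻¹ * g = (xs i.1 * lgH i.2)⁻¹ := by group
    rw [← this, map_mul]
    rfl
  rw [h1]
  rfl

/-- congruence by an invertible matrix as a permutation of the symmetric matrices -/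
def congEquiv {n : ℕ} (A : GL (Fin n) F) : symSub n F ≃ symSub n F where
  toFun := cong A.1
  invFun := cong A⁻¹.1
  left_inv S := cong_cong A.1 A⁻¹.1 (by rw [← Units.val_mul, inv_mul_cancel, Units.val_one]) S
  right_inv S := cong_cong A⁻¹.1 A.1 (by rw [← Units.val_mul, mul_inv_cancel, Units.val_one]) S

end G1aaux

open G1aaux

/-- PACKAGE G1a: `PhiE` is `P`-equivariant (reindex the sum) -/
theorem PhiE_xs {n : ℕ} (RΩ : SpG n F →* Module.End K Ω) (RM : SpG n F →* Module.End K M)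
    (φ₀ : Ω →ₗ[K] M) (S : symSub n F) (x : Ω) :
    PhiE RΩ RM φ₀ (RΩ (xs S) x) = RM (xs S) (PhiE RΩ RM φ₀ x) := by
  refine PhiE_of_bij RΩ RM φ₀ (xs S)
    ((Equiv.addLeft S).prodCongr (Equiv.refl _)) (fun i => ?_) x
  show xs (S + i.1) * lgH i.2 = xs S * (xs i.1 * lgH i.2)
  rw [xs_add, mul_assoc]

theorem PhiE_lgH {n : ℕ} (RΩ : SpG n F →* Module.End K Ω) (RM : SpG n F →* Module.End K M)
    (φ₀ : Ω →ₗ[K] M) (A : GL (Fin n) F) (x : Ω) :
    PhiE RΩ RM φ₀ (RΩ (lgH A) x) = RM (lgH A) (PhiE RΩ RM φ₀ x) := by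
  refine PhiE_of_bij RΩ RM φ₀ (lgH A)
    ((congEquiv A).prodCongr (Equiv.mulLeft A)) (fun i => ?_) x
  show xs (cong A.1 i.1) * lgH (A * i.2) = lgH A * (xs i.1 * lgH i.2)
  rw [map_mul, ← mul_assoc, ← mul_assoc, lgH_mul_xs]

end G

end Cfsg.Agent.Lib.Helper75_TZ
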