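import Mathlib
import Cfsg.Agent.Lib.Helper75_TZDefs

/-!
S2524 package G4c, conditional form (helper9, for helper75): a map which is equivariant under
`Q`, `L` and `G₂` is `G`-equivariant, GIVEN the generation statement `closure_P_G2` (package GEN1)
as a hypothesis.
-/

set_option autoImplicit false
set_option linter.unusedSectionVars false

namespace Cfsg.Agent.Lib.Helper75_TZ

open Matrix Module
open Cfsg.Agent.Lib.Helper5_SpPerfect Cfsg.Agent.Lib.Helper81_SpWeights
  Cfsg.Agent.Lib.Helper81_JointEigen Cfsg.Agent.Lib.Helper81_Heis Cfsg.Agent.Lib.Helper81_WeilLin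
  Cfsg.Agent.Lib.Helper81_Schrodinger

namespace G4caux

/-- the elements under which a linear map is equivariant form a subgroup -/
def equivSubgroup {Γ : Type*} [Group Γ] {K : Type*} [Field K] {Ω : Type*} [AddCommGroup Ω]
    [Module K Ω] {M : Type*} [AddCommGroup M] [Module K M] (RΩ : Γ →* Module.End K Ω)
    (RM : Γ →* Module.End K M) (Φ : Ω →ₗ[K] M) : Subgroup Γ where
  carrier := {g | ∀ x, Φ (RΩ g x) = RM g (Φ x)}
  one_mem' := by
    intro x
    rw [map_one, map_one]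
    rfl
  mul_mem' := by
    intro a b ha hb x
    rw [map_mul, map_mul]
    show Φ (RΩ a (RΩ b x)) = RM a (RM b (Φ x))
    rw [ha, hb]
  inv_mem' := by
    intro a ha x
    have h1 : RΩ a (RΩ a⁻¹ x) = x := by
      have : RΩ a * RΩ a⁻¹ = 1 := by rw [← map_mul, mul_inv_cancel, map_one]
      exact congrArg (fun f : Module.End K Ω => f x) this
    have h2 : RM a⁻¹ (RM a (Φ (RΩ a⁻¹ x))) = Φ (RΩ a⁻¹ x) := by
      have : RM a⁻¹ * RM a = 1 := by rw [← map_mul, inv_mul_cancel, map_one]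
      exact congrArg (fun f : Module.End K M => f (Φ (RΩ a⁻¹ x))) this
    rw [← h2, ← ha, h1]

theorem mem_equivSubgroup {Γ : Type*} [Group Γ] {K : Type*} [Field K] {Ω : Type*} [AddCommGroup Ω]
    [Module K Ω] {M : Type*} [AddCommGroup M] [Module K M] (RΩ : Γ →* Module.End K Ω)
    (RM : Γ →* Module.End K M) (Φ : Ω →ₗ[K] M) (g : Γ) :
    g ∈ equivSubgroup RΩ RM Φ ↔ ∀ x, Φ (RΩ g x) = RM g (Φ x) := Iff.rfl

/-- equivariance on a generating set implies equivariance -/
theorem equivariant_of_closure {Γ : Type*} [Group Γ] {K : Type*} [Field K] {Ω : Type*}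
    [AddCommGroup Ω] [Module K Ω] {M : Type*} [AddCommGroup M] [Module K M]
    (RΩ : Γ →* Module.End K Ω) (RM : Γ →* Module.End K M) (Φ : Ω →ₗ[K] M) (X : Set Γ)
    (hX : Subgroup.closure X = ⊤) (h : ∀ g ∈ X, ∀ x, Φ (RΩ g x) = RM g (Φ x)) :
    ∀ g x, Φ (RΩ g x) = RM g (Φ x) := by
  have hle : Subgroup.closure X ≤ equivSubgroup RΩ RM Φ := (Subgroup.closure_le _).2 h
  rw [hX] at hle
  intro g
  exact hle (Subgroup.mem_top g)

/-- G4c with the generation statement as a hypothesis -/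
theorem equivariant_of_gens_of {F : Type*} [Field F] {m : ℕ} {K : Type*} [Field K]
    {Ω : Type*} [AddCommGroup Ω] [Module K Ω] {M : Type*} [AddCommGroup M] [Module K M]
    (hgen : Subgroup.closure (Set.range (xs : symSub (m + 1) F → SpG (m + 1) F) ∪
      Set.range (lgH : GL (Fin (m + 1)) F → SpG (m + 1) F) ∪
      Set.range (emb : SpG m F → SpG (m + 1) F)) = ⊤)
    (RΩ : SpG (m + 1) F →* Module.End K Ω)
    (RM : SpG (m + 1) F →* Module.End K M) (Φ : Ω →ₗ[K] M)
    (h1 : ∀ S x, Φ (RΩ (xs S) x) = RM (xs S) (Φ x))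
    (h2 : ∀ A x, Φ (RΩ (lgH A) x) = RM (lgH A) (Φ x))
    (h3 : ∀ (g : SpG m F) x, Φ (RΩ (emb g) x) = RM (emb g) (Φ x)) :
    ∀ g x, Φ (RΩ g x) = RM g (Φ x) := by
  refine equivariant_of_closure RΩ RM Φ _ hgen ?_
  rintro g ((⟨S, rfl⟩ | ⟨A, rfl⟩) | ⟨g', rfl⟩)
  · exact h1 S
  · exact h2 A
  · exact h3 g'

end G4caux

end Cfsg.Agent.Lib.Helper75_TZ
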