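import Mathlib
import Cfsg.Agent.Lib.Helper75_TZDefs
import Cfsg.Agent.Lib.Helper9_TZ_G4caux
import Cfsg.Agent.Lib.Helper11_TZ_GEN1

/-!
S2524 package G4c (helper9, for helper75): a map which is equivariant under `Q`, `L` and `G₂`
is `G`-equivariant (from `closure_P_G2`).
-/

set_option autoImplicit false
set_option linter.unusedSectionVars false

namespace Cfsg.Agent.Lib.Helper75_TZ

open Matrix Module
open Cfsg.Agent.Lib.Helper5_SpPerfect Cfsg.Agent.Lib.Helper81_SpWeights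
  Cfsg.Agent.Lib.Helper81_JointEigen Cfsg.Agent.Lib.Helper81_Heis Cfsg.Agent.Lib.Helper81_WeilLin
  Cfsg.Agent.Lib.Helper81_Schrodinger

section G

variable {F : Type*} [Field F] [Fintype F] [DecidableEq F] {m : ℕ} {K : Type*} [Field K]
  [IsAlgClosed K] [CharZero K] {Ω : Type*} [AddCommGroup Ω] [Module K Ω] [FiniteDimensional K Ω]
  {M : Type*} [AddCommGroup M] [Module K M] [FiniteDimensional K M]

/-- PACKAGE G4c: a map which is equivariant under `Q`, `L` and `G₂` is `G`-equivariant (`closure_P_G2`) -/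
theorem equivariant_of_gens (hm : 1 ≤ m) (RΩ : SpG (m + 1) F →* Module.End K Ω)
    (RM : SpG (m + 1) F →* Module.End K M) (Φ : Ω →ₗ[K] M)
    (h1 : ∀ S x, Φ (RΩ (xs S) x) = RM (xs S) (Φ x))
    (h2 : ∀ A x, Φ (RΩ (lgH A) x) = RM (lgH A) (Φ x))
    (h3 : ∀ (g : SpG m F) x, Φ (RΩ (emb g) x) = RM (emb g) (Φ x)) :
    ∀ g x, Φ (RΩ g x) = RM g (Φ x) :=
  G4caux.equivariant_of_gens_of (closure_P_G2 hm) RΩ RM Φ h1 h2 h3

end G

end Cfsg.Agent.Lib.Helper75_TZ
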