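import Mathlib
import Cfsg.Agent.Lib.Helper75_TZDefs
import Cfsg.Agent.Lib.Helper57_TZ_G1PHI0
import Cfsg.Agent.Lib.Helper9_TZ_G1a
import Cfsg.Agent.Lib.Helper57_TZ_G1c
import Cfsg.Agent.Lib.Helper91_TZ_G1d
import Cfsg.Agent.Lib.Helper7_TZ_G2
import Cfsg.Agent.Lib.Helper75_TZ_G3c
import Cfsg.Agent.Lib.Helper82_TZ_G4a
import Cfsg.Agent.Lib.Helper82_TZ_G4b
import Cfsg.Agent.Lib.Helper9_TZ_G4c
import Cfsg.Agent.Lib.Helper26_TZ_REP2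
import Cfsg.Agent.Lib.Helper82_TZ_S_QPROJ

set_option autoImplicit false

namespace Cfsg.Agent.Lib.Helper75_TZ

open Matrix Module
open Cfsg.Agent.Lib.Helper5_SpPerfect Cfsg.Agent.Lib.Helper81_SpWeights
  Cfsg.Agent.Lib.Helper81_JointEigen Cfsg.Agent.Lib.Helper81_Heis Cfsg.Agent.Lib.Helper81_WeilLin
  Cfsg.Agent.Lib.Helper81_Schrodinger

namespace G4aux

variable {F : Type*} [Field F] {m : ℕ}

theorem Ta_ne_zero {a : F} (ha : a ≠ 0) : (Ta a : symSub (m + 1) F) ≠ 0 := by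
  intro h
  have h1 := congrArg (fun T : symSub (m + 1) F => T.1 0 0) h
  simp only [Ta, zS, Matrix.single_apply_same] at h1
  exact ha h1

theorem trP_zS_Ta (c a : F) : trP (zS c : symSub (m + 1) F) (Ta a) = c * a := by
  rw [trP_apply]
  show Matrix.trace (Matrix.single 0 0 c * Matrix.single 0 0 a) = c * a
  rw [Matrix.single_mul_single_same, Matrix.trace_single_eq_same]

variable [Fintype F] [DecidableEq F] {K : Type*} [Field K] {M : Type*} [AddCommGroup M] [Module K M]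
  [FiniteDimensional K M]

/-- a representation with the weight `T_a`, `a ≠ 0`, is not trivial -/
theorem nontrivial_of_Ta (ψ₀ : AddChar F K) (hψ₀ : ψ₀ ≠ 1) (R : SpG (m + 1) F →* Module.End K M)
    {a : F} (ha : a ≠ 0) (h : wsp R ψ₀ (Ta a) ≠ ⊥) : ∃ g, R g ≠ 1 := by
  obtain ⟨v, hv, hv0⟩ := Submodule.exists_mem_ne_zero_of_ne_bot h
  obtain ⟨x, hx⟩ : ∃ x, ψ₀ x ≠ 1 := by
    by_contra hcon
    push Not at hcon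
    apply hψ₀
    ext x
    rw [hcon x]; rfl
  refine ⟨xs (zS (x / a)), fun h1 => hx ?_⟩
  have h2 := (mem_wsp R ψ₀ (Ta a) v).mp hv (zS (x / a))
  rw [h1, trP_zS_Ta, div_mul_cancel₀ x ha] at h2
  have h3 : (1 : K) • v = ψ₀ x • v := by rw [one_smul]; exact h2
  exact (smul_left_injective K hv0 h3).symm

end G4aux

section G

variable {F : Type*} [Field F] [Fintype F] [DecidableEq F] {m : ℕ} {K : Type*} [Field K]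
  [IsAlgClosed K] [CharZero K] {Ω : Type*} [AddCommGroup Ω] [Module K Ω] [FiniteDimensional K Ω]
  {M : Type*} [AddCommGroup M] [Module K M] [FiniteDimensional K M]

/-- PACKAGE G4: THEOREM G -/
theorem glue (ψ₀ : AddChar F K) (hψ₀ : ψ₀ ≠ 1) (hodd : Odd (Fintype.card F)) (hm : 1 ≤ m)
    (RΩ : SpG (m + 1) F →* Module.End K Ω) (RM : SpG (m + 1) F →* Module.End K M)
    (hΩirr : IrrRep RΩ) (hMirr : IrrRep RM) (hΩrk : RankLeOne RΩ ψ₀) (hMrk : RankLeOne RM ψ₀)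
    (σ : K) (hΩσ : CentralSign RΩ σ) (hMσ : CentralSign RM σ) {a : F} (ha : a ≠ 0)
    (hmult : ∀ T, finrank K (wsp RΩ ψ₀ T) ≤ 1)
    (htype : ∀ T : symSub (m + 1) F, wsp RΩ ψ₀ T ≠ ⊥ → ∃ x, T = rk1S a x)
    (hΩa : wsp RΩ ψ₀ (Ta a) ≠ ⊥) (hMa : wsp RM ψ₀ (Ta a) ≠ ⊥) : IsoRep RΩ RM := by
  classical
  obtain ⟨v₀, hv₀, hv₀0⟩ := Submodule.exists_mem_ne_zero_of_ne_bot hΩa
  obtain ⟨v, hv, hv0⟩ := Submodule.exists_mem_ne_zero_of_ne_bot hMa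
  have hTa : (Ta a : symSub (m + 1) F) ≠ 0 := G4aux.Ta_ne_zero ha
  obtain ⟨φ₀, hφ1, hφ0⟩ := exists_phi0 (M := M) ψ₀ hψ₀ hodd RΩ (Ta a) (hmult _) v₀ hv₀ hv₀0 v
  have hΨxs := PhiE_xs RΩ RM φ₀
  have hΨlg := PhiE_lgH RΩ RM φ₀
  obtain ⟨N, hN0, hN⟩ :=
    PhiE_v0 ψ₀ hψ₀ hodd hm RΩ RM hΩrk hMrk σ hΩσ hMσ ha φ₀ v₀ hv₀ v hv hφ1 hφ0
  have hΨQ : ∀ x ∈ wsp RΩ ψ₀ 0, PhiE RΩ RM φ₀ x = 0 := fun x hx =>
    PhiE_Q ψ₀ RΩ RM φ₀ (fun y hy => hφ0 0 (Ne.symm hTa) y hy) x hx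
  have hΨ2 : ∀ a' : F, a' ≠ 0 → ∀ x ∈ zsp RΩ ψ₀ a', ∀ g : SpG m F,
      PhiE RΩ RM φ₀ (RΩ (emb g) x) = RM (emb g) (PhiE RΩ RM φ₀ x) := fun a' ha' x hx g =>
    equivariant_G2 ψ₀ hψ₀ hodd hm RΩ RM hΩrk hMrk ha (hmult _) htype (PhiE RΩ RM φ₀) hΨxs hΨlg
      a' ha' x hx g
  have hMnt : ∃ g, RM g ≠ 1 := G4aux.nontrivial_of_Ta ψ₀ hψ₀ RM ha hMa
  obtain ⟨Φ₂, hΦZ, hΦ₂, hΦΨ⟩ :=
    exists_Phi2 ψ₀ hψ₀ hodd hm RΩ RM hΩirr hMirr hΩrk hMrk σ hΩσ hMσ ha hmult htype hΩa hMnt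
      (PhiE RΩ RM φ₀) hΨxs hΨlg
  have hG2 := glue_G2 ψ₀ hψ₀ hodd hm RΩ RM hΩrk (PhiE RΩ RM φ₀) Φ₂ hΨQ hΨ2 hΦ₂ hΦΨ
  obtain ⟨hP1, hP2⟩ :=
    glue_P ψ₀ hψ₀ hodd hm RΩ RM hΩrk hMrk (PhiE RΩ RM φ₀) Φ₂ hΨxs hΨlg hΦZ hΦ₂
  have hG := equivariant_of_gens hm RΩ RM (PhiE RΩ RM φ₀ + Φ₂.comp (qproj RΩ)) hP1 hP2 hG2
  refine schur_iso hΩirr hMirr (PhiE RΩ RM φ₀ + Φ₂.comp (qproj RΩ)) hG ?_
  intro h0
  have h1 : (PhiE RΩ RM φ₀ + Φ₂.comp (qproj RΩ)) v₀ = (N : K) • v := by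
    show PhiE RΩ RM φ₀ v₀ + Φ₂ (qproj RΩ v₀) = _
    rw [qproj_of_wsp ψ₀ hψ₀ hodd RΩ (Ta a) hTa v₀ hv₀, map_zero, add_zero, hN]
  rw [h0, LinearMap.zero_apply] at h1
  have hNK : (N : K) ≠ 0 := Nat.cast_ne_zero.mpr hN0
  exact hv0 ((smul_eq_zero.mp h1.symm).resolve_left hNK)

end G

end Cfsg.Agent.Lib.Helper75_TZ
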