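import Mathlib
import Cfsg.Agent.Lib.Helper75_TZDefs
import Cfsg.Agent.Lib.Helper26_TZ_REP2

/-!
# S2524 market (architect helper75), package F2a: the central sign of an irreducible representation
-/

set_option autoImplicit false

namespace Cfsg.Agent.Lib.Helper75_TZ

open Matrix Module
open Cfsg.Agent.Lib.Helper5_SpPerfect Cfsg.Agent.Lib.Helper81_SpWeights
  Cfsg.Agent.Lib.Helper81_JointEigen Cfsg.Agent.Lib.Helper81_Heis Cfsg.Agent.Lib.Helper81_WeilLin
  Cfsg.Agent.Lib.Helper81_Schrodinger

namespace F2aaux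

variable {F : Type*} [Field F] {n : ℕ}

/-- `-1` is central -/
theorem negOne_comm' (g : SpG n F) : (negOne : SpG n F) * g = g * negOne := by
  apply Subtype.ext
  show (-1 : Matrix (Fin n ⊕ Fin n) (Fin n ⊕ Fin n) F) * g.1 = g.1 * (-1)
  rw [neg_mul, one_mul, mul_neg, mul_one]

/-- `(-1)² = 1` -/
theorem negOne_mul_self : (negOne : SpG n F) * negOne = 1 := by
  apply Subtype.ext
  show (-1 : Matrix (Fin n ⊕ Fin n) (Fin n ⊕ Fin n) F) * (-1) = 1
  rw [neg_mul_neg, one_mul]

end F2aaux

section Fpart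

variable {F : Type*} [Field F] [Fintype F] [DecidableEq F] {m : ℕ} {K : Type*} [Field K]
  [IsAlgClosed K] [CharZero K] {M : Type*} [AddCommGroup M] [Module K M] [FiniteDimensional K M]

/-- PACKAGE F2a: the central sign of an irreducible representation -/
theorem exists_centralSign {n : ℕ} (R : SpG n F →* Module.End K M) (hirr : IrrRep R) :
    ∃ σ : K, σ * σ = 1 ∧ CentralSign R σ := by
  obtain ⟨σ, hσ⟩ := schur_scalar hirr (R negOne) (fun g x => by
    have h1 : R negOne (R g x) = (R (negOne * g)) x := by rw [map_mul]; rfl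
    have h2 : R g (R negOne x) = (R (g * negOne)) x := by rw [map_mul]; rfl
    rw [h1, h2, F2aaux.negOne_comm'])
  refine ⟨σ, ?_, hσ⟩
  obtain ⟨hnt, -⟩ := hirr
  obtain ⟨x, hx⟩ := exists_ne (0 : M)
  have h1 : R negOne (R negOne x) = x := by
    have : R negOne (R negOne x) = (R (negOne * negOne)) x := by rw [map_mul]; rfl
    rw [this, F2aaux.negOne_mul_self, map_one]; rfl
  rw [hσ x, hσ, smul_smul] at h1
  have h2 : (σ * σ - 1) • x = 0 := by rw [sub_smul, h1, one_smul, sub_self]
  rcases smul_eq_zero.mp h2 with h | h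
  · exact sub_eq_zero.mp h
  · exact absurd h hx

end Fpart

end Cfsg.Agent.Lib.Helper75_TZ
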