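import Mathlib
import Cfsg.Agent.Lib.Helper75_TZDefs
import Cfsg.Agent.Lib.Helper75_TZ_G4
import Cfsg.Agent.Lib.Helper25_TZ_F2b
import Cfsg.Agent.Lib.Helper77_TZ_F2a
import Cfsg.Agent.Lib.Helper81_TZ_W3
import Cfsg.Agent.Lib.Helper27_TZ_W5
import Cfsg.Agent.Lib.Helper2_TZ_W4b
import Cfsg.Agent.Lib.Helper95_TZ_W4a
import Cfsg.Agent.Lib.Helper63_TZ_SRES

set_option autoImplicit false

namespace Cfsg.Agent.Lib.Helper75_TZ

open Matrix Module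
open Cfsg.Agent.Lib.Helper5_SpPerfect Cfsg.Agent.Lib.Helper81_SpWeights
  Cfsg.Agent.Lib.Helper81_JointEigen Cfsg.Agent.Lib.Helper81_Heis Cfsg.Agent.Lib.Helper81_WeilLin
  Cfsg.Agent.Lib.Helper81_Schrodinger

section Fpart

variable {F : Type*} [Field F] [Fintype F] [DecidableEq F] {m : ℕ} {K : Type*} [Field K]
  [IsAlgClosed K] [CharZero K] {M : Type*} [AddCommGroup M] [Module K M] [FiniteDimensional K M]

namespace F2aux

/-- a representation of rank `≤ 1` with the weight `T_a` and central sign `σ = ± 1` is a Weil module -/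
theorem weil_of_Ta (ψ₀ : AddChar F K) (hψ₀ : ψ₀ ≠ 1) (h2 : (2 : F) ≠ 0) (hodd : Odd (Fintype.card F))
    (hm : 1 ≤ m) (R : SpG (m + 1) F →* Module.End K M) (hirr : IrrRep R) (hrk : RankLeOne R ψ₀)
    (σ : K) (hσ2 : σ * σ = 1) (hσ : CentralSign R σ) (a : F) (ha : a ≠ 0)
    (hMa : wsp R ψ₀ (Ta a) ≠ ⊥) :
    ∃ p : Bool, IsoRep (weilP ψ₀ hψ₀ h2 a ha (m + 1) p) R := by
  classical
  have hκ := kap_sq (k := m + 1) ψ₀ hψ₀ h2 ha
  have hk : 1 ≤ m + 1 := Nat.le_add_left 1 m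
  have hcases : σ = kap ψ₀ a (m + 1) ∨ σ = -kap ψ₀ a (m + 1) := by
    have h0 : (σ - kap ψ₀ a (m + 1)) * (σ + kap ψ₀ a (m + 1)) = 0 := by
      linear_combination hσ2 - hκ
    rcases mul_eq_zero.mp h0 with h | h
    · left; exact sub_eq_zero.mp h
    · right; exact eq_neg_of_add_eq_zero_left h
  have main : ∀ p : Bool, (if p then -kap ψ₀ a (m + 1) else kap ψ₀ a (m + 1)) = σ →
      IrrRep (weilP ψ₀ hψ₀ h2 a ha (m + 1) p) → IsoRep (weilP ψ₀ hψ₀ h2 a ha (m + 1) p) R := by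
    intro p hp hΩirr
    have hΩσ : CentralSign (weilP ψ₀ hψ₀ h2 a ha (m + 1) p) σ := by
      have := weilP_centralSign (k := m + 1) ψ₀ hψ₀ h2 ha p
      rw [hp] at this
      exact this
    have htype : ∀ T : symSub (m + 1) F, wsp (weilP ψ₀ hψ₀ h2 a ha (m + 1) p) ψ₀ T ≠ ⊥ →
        ∃ x, T = rk1S a x := by
      intro T hT
      obtain ⟨f, hf, hf0⟩ := Submodule.exists_mem_ne_zero_of_ne_bot hT
      have hf1 : f.1 ≠ 0 := fun h => hf0 (Subtype.ext h)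
      obtain ⟨s, hs⟩ := Function.ne_iff.mp hf1
      exact ⟨s, (weilP_wsp ψ₀ hψ₀ h2 ha p T f).mp hf s hs⟩
    have hΩa : wsp (weilP ψ₀ hψ₀ h2 a ha (m + 1) p) ψ₀ (Ta a) ≠ ⊥ := by
      rw [Ta_eq_rk1S]
      apply weilP_wsp_ne_bot ψ₀ hψ₀ h2 ha p
      intro h
      have := congrFun h 0
      simp at this
    exact glue ψ₀ hψ₀ hodd hm (weilP ψ₀ hψ₀ h2 a ha (m + 1) p) R hΩirr hirr
      (weilP_rankLeOne ψ₀ hψ₀ h2 ha p) hrk σ hΩσ hσ ha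
      (fun T => weilP_finrank_wsp_le ψ₀ hψ₀ h2 ha p T) htype hΩa hMa
  rcases hcases with h | h
  · exact ⟨false, main false (by simp [h]) (weilP_irr_even ψ₀ hψ₀ h2 ha hk)⟩
  · exact ⟨true, main true (by simp [h]) (weilP_irr_odd ψ₀ hψ₀ h2 ha hk)⟩

end F2aux

/-- PACKAGE F2: CLASSIFICATION of the irreducible representations of rank `≤ 1` -/
theorem classify (ψ₀ : AddChar F K) (hψ₀ : ψ₀ ≠ 1) (h2 : (2 : F) ≠ 0) (hodd : Odd (Fintype.card F))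
    (hm : 1 ≤ m) (ε : F) (hε : ¬ IsSquare ε) (hε0 : ε ≠ 0) (R : SpG (m + 1) F →* Module.End K M)
    (hirr : IrrRep R) (hrk : RankLeOne R ψ₀) :
    (∀ g, R g = 1) ∨ (∃ p : Bool, IsoRep (weilP ψ₀ hψ₀ h2 1 one_ne_zero (m + 1) p) R) ∨
      ∃ p : Bool, IsoRep (weilP ψ₀ hψ₀ h2 ε hε0 (m + 1) p) R := by
  classical
  by_cases htriv : ∀ g, R g = 1
  · exact Or.inl htriv
  push Not at htriv
  obtain ⟨a, ha1, hMa⟩ := exists_Ta_weight ψ₀ hψ₀ hodd ε hε R hrk htriv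
  obtain ⟨σ, hσ2, hσ⟩ := exists_centralSign R hirr
  rcases ha1 with rfl | rfl
  · exact Or.inr (Or.inl
      (F2aux.weil_of_Ta ψ₀ hψ₀ h2 hodd hm R hirr hrk σ hσ2 hσ 1 one_ne_zero hMa))
  · exact Or.inr (Or.inr
      (F2aux.weil_of_Ta ψ₀ hψ₀ h2 hodd hm R hirr hrk σ hσ2 hσ a hε0 hMa))

end Fpart

end Cfsg.Agent.Lib.Helper75_TZ
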