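import Mathlib
import Cfsg.Agent.Lib.Helper75_TZDefs
import Cfsg.Agent.Lib.Helper30_TZA_Gap
import Cfsg.Agent.Lib.Helper75_TZ_F2

set_option autoImplicit false

namespace Cfsg.Agent.Lib.Helper75_TZ

open Matrix Module
open Cfsg.Agent.Lib.Helper5_SpPerfect Cfsg.Agent.Lib.Helper81_SpWeights
  Cfsg.Agent.Lib.Helper81_JointEigen Cfsg.Agent.Lib.Helper81_Heis Cfsg.Agent.Lib.Helper81_WeilLin
  Cfsg.Agent.Lib.Helper81_Schrodinger

section Fpart

variable {F : Type*} [Field F] [Fintype F] [DecidableEq F] {m : ℕ} {K : Type*} [Field K]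
  [IsAlgClosed K] [CharZero K] {M : Type*} [AddCommGroup M] [Module K M] [FiniteDimensional K M]

/-- PACKAGE F4a: the trichotomy for irreducible representations of `Sp_2n(q)`, `n ≥ 2` -/
theorem irr_cases {n : ℕ} (hodd : Odd (Fintype.card F)) (hn : 2 ≤ n) (ψ₀ : AddChar F K)
    (hψ₀ : ψ₀ ≠ 1) (h2 : (2 : F) ≠ 0) (ε : F) (hε : ¬ IsSquare ε) (hε0 : ε ≠ 0)
    (R : SpG n F →* Module.End K M) (hirr : IrrRep R) :
    (∀ g, R g = 1) ∨ (∃ p : Bool, IsoRep (weilP ψ₀ hψ₀ h2 1 one_ne_zero n p) R) ∨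
      (∃ p : Bool, IsoRep (weilP ψ₀ hψ₀ h2 ε hε0 n p) R) ∨
      (Fintype.card F ^ n - 1) * (Fintype.card F ^ n - Fintype.card F) ≤
        2 * (Fintype.card F + 1) * finrank K M := by
  classical
  obtain ⟨m, rfl⟩ : ∃ m, n = m + 1 := ⟨n - 1, by omega⟩
  have hm : 1 ≤ m := by omega
  by_cases hrk : RankLeOne R ψ₀
  · rcases classify ψ₀ hψ₀ h2 hodd hm ε hε hε0 R hirr hrk with h | h | h
    · exact Or.inl h
    · exact Or.inr (Or.inl h)
    · exact Or.inr (Or.inr (Or.inl h))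
  · unfold RankLeOne at hrk
    push Not at hrk
    obtain ⟨T, hT, hT1⟩ := hrk
    exact Or.inr (Or.inr (Or.inr (gap_of_weight hodd hn ψ₀ hψ₀ R T hT hT1)))

end Fpart

end Cfsg.Agent.Lib.Helper75_TZ
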