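import Cfsg.Agent.Lib.Helper76_BG13c
import Cfsg.Agent.Lib.Helper47_BG1214b
import Cfsg.Agent.S1403
import Cfsg.Agent.S1444
import Cfsg.Agent.S1416
import Cfsg.Agent.S1417
import Cfsg.Agent.S1418
import Cfsg.Agent.Lib.Helper22_Basic
import Cfsg.Agent.Lib.Helper22_Uniq6
import Cfsg.Agent.Lib.Helper73_BG12c

/-!
# Bender–Glauberman section 13: Lemma Z (helper76)

`lemmaZ`: for non-conjugate maximal subgroups `M`, `H` with a common prime `q ∈ σ(M) ∩ σ(H)` there is a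
conjugate `M₁` of `M` with `H = H_β (M₁ ∩ H)` and `M₁ = (M₁)_β (M₁ ∩ H)` (B–G 12.16(d1) both ways), with
its corollaries on the primes dividing `|H'|`, on `τ₂(H)` and on `τ₁(H)`.
-/

set_option autoImplicit false

namespace Cfsg.Agent.Lib.Helper76_BG13d

open Subgroup Cfsg Cfsg.Agent.Lib.Helper22_Radical Cfsg.Agent.Lib.Helper22_BGTrans
  Cfsg.Agent.Lib.Helper84_RelSylow Cfsg.Agent.Lib.Helper49_Sigma
  Cfsg.Agent.Lib.Helper24_CoprimeHall Cfsg.Agent.Lib.Helper24_CoprimeAction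
  Cfsg.Agent.Lib.Helper76_BG13a Cfsg.Agent.Lib.Helper76_BG13b Cfsg.Agent.Lib.Helper76_BG13c

universe u

variable {G : Type u} [Group G] [Finite G]

/-! ### the standing hypotheses, from the landed statements -/

theorem hU (hG : IsMinSimpleOddOrder G) : UniqHyp G :=
  fun K hK h1 h3 => Cfsg.Agent.S1403.result hG K hK h1 h3

theorem h44 : Cfsg.Agent.Lib.Helper70_BG106.H1444.{u} :=
  fun _ _ _ _ hodd H R R₀ _ hHall hR hR₀ hR₀p hZ q _ =>
    Cfsg.Agent.S1444.result hodd H R R₀ hHall hR hR₀ hR₀p hZ q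

theorem hC (hG : IsMinSimpleOddOrder G) : Cfsg.Agent.Lib.Helper73_BG12.CentHyp G :=
  fun M hM p _ A hAM hAe hA2 => (Cfsg.Agent.S1416.result hG M hM p A ⟨hAM, hAe, hA2⟩).1

theorem hT2 (hG : IsMinSimpleOddOrder G) : Cfsg.Agent.Lib.Helper47_BG1214b.Tau2Hyp G :=
  fun M hM p _ hp A hAM hAe hA2 => by
    obtain ⟨h1, h2, h3, h4, h5, -⟩ := Cfsg.Agent.S1417.result hG M hM p hp A ⟨hAM, hAe, hA2⟩
    exact ⟨h1, fun P => (h2 P).1, h3, h4, h5⟩

theorem h17 (hG : IsMinSimpleOddOrder G) : Cfsg.Agent.Lib.Helper79_BG141.Hyp1417 G :=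
  fun M hM p _ hp A hA => Cfsg.Agent.S1417.result hG M hM p hp A hA

theorem h18 (hG : IsMinSimpleOddOrder G) : Hyp1418a G :=
  fun M hM E hE p _ hp A hAE hAe hA2 =>
    (Cfsg.Agent.S1418.result hG M hM E hE p hp A ⟨hAE, hAe, hA2⟩).1.1

/-! ### Lemma Z -/

/-- abstract form of (Z1): `X = N D`, `N` normal, a prime `t` not dividing `|N|` and dividing `|X'|`
divides `|D'|` -/
theorem prime_dvd_card_commutator_of_sup_eq_top {X : Type*} [Group X] [Finite X] (N D : Subgroup X)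
    [N.Normal] (hsup : N ⊔ D = ⊤) {t : ℕ} (ht : t.Prime) (htN : ¬ t ∣ Nat.card N)
    (htX : t ∣ Nat.card (commutator X)) : t ∣ Nat.card ↥⁅D, D⁆ := by
  have : Fact t.Prime := ⟨ht⟩
  obtain ⟨x, hx⟩ := exists_prime_orderOf_dvd_card' t htX
  have hmapD : D.map (QuotientGroup.mk' N) = ⊤ := by
    rw [← top_le_iff]
    rintro y -
    obtain ⟨z, rfl⟩ := QuotientGroup.mk'_surjective N y
    have hz : z ∈ N ⊔ D := hsup ▸ Subgroup.mem_top z
    rw [sup_comm, Subgroup.mem_sup_of_normal_right] at hz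
    obtain ⟨d, hd, n, hn, rfl⟩ := hz
    refine ⟨d, hd, ?_⟩
    rw [map_mul, QuotientGroup.mk'_apply, QuotientGroup.mk'_apply, (QuotientGroup.eq_one_iff n).mpr hn, mul_one]
  have hmapc : (commutator X).map (QuotientGroup.mk' N) = (⁅D, D⁆).map (QuotientGroup.mk' N) := by
    rw [commutator_def, Subgroup.map_commutator, Subgroup.map_commutator, hmapD,
      ← MonoidHom.range_eq_map, MonoidHom.range_eq_top.mpr (QuotientGroup.mk'_surjective N)]
  have hx1 : (QuotientGroup.mk' N) (x : X) ∈ (⁅D, D⁆).map (QuotientGroup.mk' N) := by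
    rw [← hmapc]
    exact ⟨x, x.2, rfl⟩
  have hord : orderOf ((QuotientGroup.mk' N) (x : X)) = t := by
    have hdvd : orderOf ((QuotientGroup.mk' N) (x : X)) ∣ t := by
      rw [← hx, ← Subgroup.orderOf_coe]
      exact orderOf_map_dvd _ _
    rcases (Nat.dvd_prime ht).1 hdvd with h | h
    · exfalso
      rw [orderOf_eq_one_iff, QuotientGroup.mk'_apply, QuotientGroup.eq_one_iff] at h
      apply htN
      have h2 : orderOf (⟨(x : X), h⟩ : N) ∣ Nat.card N := orderOf_dvd_natCard _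
      rw [← Subgroup.orderOf_coe] at h2
      simp only at h2
      rw [Subgroup.orderOf_coe, hx] at h2
      exact h2
    · exact h
  have h3 : t ∣ Nat.card ↥((⁅D, D⁆).map (QuotientGroup.mk' N)) := by
    have := orderOf_dvd_natCard (⟨_, hx1⟩ : ↥((⁅D, D⁆).map (QuotientGroup.mk' N)))
    rw [← Subgroup.orderOf_coe] at this
    simp only at this
    rw [hord] at this
    exact this
  exact h3.trans (Subgroup.card_map_dvd _ _)

omit [Finite G] in
theorem card_commutator_subtype (H : Subgroup G) : Nat.card (commutator ↥H) = Nat.card ↥⁅H, H⁆ := by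
  have h : (commutator ↥H).map H.subtype = ⁅H, H⁆ := by
    rw [commutator_def, Subgroup.map_commutator, ← MonoidHom.range_eq_map, Subgroup.range_subtype]
  rw [← h]
  exact (Subgroup.card_map_of_injective H.subtype_injective).symm

omit [Finite G] in
theorem card_commutator_subgroupOf {H D : Subgroup G} (hDH : D ≤ H) :
    Nat.card ↥⁅D.subgroupOf H, D.subgroupOf H⁆ = Nat.card ↥⁅D, D⁆ := by
  have h : (⁅D.subgroupOf H, D.subgroupOf H⁆).map H.subtype = ⁅D, D⁆ := by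
    rw [Subgroup.map_commutator, Subgroup.map_subgroupOf_eq_of_le hDH]
  rw [← h]
  exact (Subgroup.card_map_of_injective H.subtype_injective).symm

/-- (Z1): `H = N D` with `N` normal in `H`; a prime `t` not dividing `|N|` and dividing `|H'|` divides `|D'|` -/
theorem prime_dvd_card_commutator_of_le_sup {H N D : Subgroup G} (hNH : N ≤ H)
    (hn : H ≤ normalizer (N : Set G)) (hDH : D ≤ H) (hsup : H ≤ N ⊔ D) {t : ℕ} (ht : t.Prime)
    (htN : ¬ t ∣ Nat.card N) (htH : t ∣ Nat.card ↥⁅H, H⁆) : t ∣ Nat.card ↥⁅D, D⁆ := by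
  have : (N.subgroupOf H).Normal := Subgroup.normal_subgroupOf_of_le_normalizer hn
  have hsup' : N.subgroupOf H ⊔ D.subgroupOf H = ⊤ := by
    rw [← Subgroup.subgroupOf_sup hNH hDH, Subgroup.subgroupOf_eq_top]
    exact hsup
  have h1 := prime_dvd_card_commutator_of_sup_eq_top (N.subgroupOf H) (D.subgroupOf H) hsup' ht
    (by rw [card_subgroupOf_of_le hNH]; exact htN) (by rw [card_commutator_subtype]; exact htH)
  rwa [card_commutator_subgroupOf hDH] at h1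


/-- a Sylow `q`-subgroup of `G` lying in `M`, `q ∈ σ(M)`, has its normalizer in `M` -/
theorem sylM_of_le {M Y : Subgroup G} {q : ℕ} [Fact q.Prime] (hqM : q ∈ sigma M)
    (hY : IsSylowIn q Y ⊤) (hYM : Y ≤ M) : SylM q M Y := by
  obtain ⟨P₀, hP₀⟩ := Cfsg.Agent.Lib.Helper49_SigmaDisjoint.exists_sylM hqM
  exact Cfsg.Agent.Lib.Helper73_BG12c.sylM_of_isSylowIn hP₀ (hY.mono hYM le_top)

/-- **Lemma Z, core** (B–G 12.16(d1) both ways). -/
theorem lemmaZ_core (hG : IsMinSimpleOddOrder G) {M H : Subgroup G} (hM : IsCoatom M)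
    (hH : IsCoatom H) (hnc : ∀ g : G, H ≠ cj g M) {q : ℕ} [Fact q.Prime] (hqM : q ∈ sigma M)
    (hqH : q ∈ sigma H) {Y : Subgroup G} (hY : IsSylowIn q Y ⊤) (hYM : Y ≤ M) (hYH : Y ≤ H) :
    H ≤ piCoreOf (beta H) H ⊔ (M ⊓ H) ∧ M ≤ piCoreOf (beta M) M ⊔ (H ⊓ M) := by
  have hYsM := sylM_of_le hqM hY hYM
  have hYsH := sylM_of_le hqH hY hYH
  have hnc' := Cfsg.Agent.Lib.Helper47_BG1214a.nonconj_symm hnc
  exact ⟨Cfsg.Agent.Lib.Helper47_BG1214a.case_sigma hG (hU hG) h44 hM hH hnc hqM hqH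
      (hY.mono hYH le_top) hYsM.2.2,
    Cfsg.Agent.Lib.Helper47_BG1214a.case_sigma hG (hU hG) h44 hH hM hnc' hqH hqM
      (hY.mono hYM le_top) hYsH.2.2⟩

/-- **Lemma Z**: a common prime of `σ(M)` and `σ(H)`, `M`, `H` not conjugate. -/
theorem lemmaZ (hG : IsMinSimpleOddOrder G) {M H : Subgroup G} (hM : IsCoatom M)
    (hH : IsCoatom H) (hnc : ∀ g : G, H ≠ cj g M) {q : ℕ} [Fact q.Prime] (hqM : q ∈ sigma M)
    (hqH : q ∈ sigma H) :
    ∃ (g : G) (Y : Subgroup G), IsSylowIn q Y ⊤ ∧ Y ≠ ⊥ ∧ Y ≤ cj g M ∧ Y ≤ H ∧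
      H ≤ piCoreOf (beta H) H ⊔ (cj g M ⊓ H) ∧
      cj g M ≤ piCoreOf (beta (cj g M)) (cj g M) ⊔ (H ⊓ cj g M) := by
  obtain ⟨Y, hYs⟩ := Cfsg.Agent.Lib.Helper49_SigmaDisjoint.exists_sylM hqH
  obtain ⟨P₀, hP₀⟩ := Cfsg.Agent.Lib.Helper49_SigmaDisjoint.exists_sylM hqM
  obtain ⟨g, hg⟩ := Cfsg.Agent.Lib.Helper49_SigmaDisjoint.exists_cj_eq_of_isSylowIn_top hP₀.1 hYs.1
  have hYcj : Y ≤ cj g M := hg ▸ cj_mono hP₀.2.1
  have hnc2 : ∀ k : G, H ≠ cj k (cj g M) := by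
    intro k hk
    rw [← cj_mul] at hk
    exact hnc _ hk
  have hY1 : Y ≠ ⊥ := by
    intro h
    have h1 := hYs.1.not_dvd
    rw [h, Subgroup.relIndex_top_right, Subgroup.index_bot] at h1
    exact h1 (hqH.2.1.trans (Subgroup.card_subgroup_dvd_card H))
  have := lemmaZ_core hG (Cfsg.Agent.Lib.Helper22_Uniq.isCoatom_cj hM g) hH hnc2 (mem_sigma_cj hqM g) hqH
    hYs.1 hYcj hYs.2.1
  exact ⟨g, Y, hYs.1, hY1, hYcj, hYs.2.1, this.1, this.2⟩

/-- in the situation `H = O_π(H) (M ∩ H)`, every `π'`-subgroup of `H` is conjugate under `H` into `M ∩ H` -/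
theorem exists_cj_le_of_le_sup (hG : IsMinSimpleOddOrder G) {M H : Subgroup G} (hM : IsCoatom M)
    (hH : IsCoatom H) (π : Set ℕ) (h : H ≤ piCoreOf π H ⊔ (M ⊓ H)) {Y : Subgroup G} (hYH : Y ≤ H)
    (hY : ∀ p : ℕ, p.Prime → p ∣ Nat.card Y → p ∉ π) : ∃ m ∈ H, cj m Y ≤ M ⊓ H := by
  obtain ⟨D, hDle, hD⟩ := Cfsg.Agent.Lib.Helper47_BG1214a.exists_piHall_le_of_le_sup hG hM π h
  obtain ⟨m, hm, hmY⟩ := Cfsg.Agent.Lib.Helper47_BG1214a.exists_cj_le_of_piHall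
    (isSolvable_of_isCoatom hG hH) hD hYH (fun p hp hd => ⟨hp, hY p hp hd⟩)
  exact ⟨m, hm, hmY.trans hDle⟩

omit [Finite G] in
/-- if every `p`-subgroup of `M` is conjugate into `H`, the `p`-rank of `M` is at most that of `H` -/
theorem pRankLE_of_forall_cj_le {p k : ℕ} {M H : Subgroup G}
    (h : ∀ A : Subgroup G, A ≤ M → (∀ a ∈ A, a ^ p = 1) → ∃ m : G, cj m A ≤ H)
    (hH : PRankLE p k ↥H) : PRankLE p k ↥M := by
  by_contra hn
  obtain ⟨E, hEM, hEc, hEe, hcard⟩ := Cfsg.Agent.Lib.Helper22_Uniq.exists_elemAb_of_not_pRankLE hn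
  obtain ⟨m, hm⟩ := h E hEM hEe
  refine Cfsg.Agent.Lib.Helper22_Uniq.not_pRankLE_of_elemAb (E := cj m E) (K := H) hm ?_ ?_ ?_ hH
  · rintro _ ⟨a, ha, rfl⟩ _ ⟨b, hb, rfl⟩
    show m * a * m⁻¹ * (m * b * m⁻¹) = m * b * m⁻¹ * (m * a * m⁻¹)
    have := hEc a ha b hb
    calc m * a * m⁻¹ * (m * b * m⁻¹) = m * (a * b) * m⁻¹ := by group
      _ = m * (b * a) * m⁻¹ := by rw [this]
      _ = m * b * m⁻¹ * (m * a * m⁻¹) := by group
  · rintro _ ⟨a, ha, rfl⟩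
    show (m * a * m⁻¹) ^ p = 1
    rw [conj_pow, hEe a ha]
    group
  · rw [card_cj]
    exact hcard

theorem prime_dvd_of_exp {p : ℕ} (hp : p.Prime) {A : Subgroup G} (hA : ∀ a ∈ A, a ^ p = 1) :
    ∀ q : ℕ, q.Prime → q ∣ Nat.card A → q = p := by
  intro q hq hd
  have : Fact q.Prime := ⟨hq⟩
  obtain ⟨x, hx⟩ := exists_prime_orderOf_dvd_card' q hd
  have h1 : (x : G) ^ p = 1 := hA x x.2
  have h2 : orderOf (x : G) ∣ p := orderOf_dvd_of_pow_eq_one h1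
  rw [Subgroup.orderOf_coe, hx] at h2
  exact (Nat.prime_dvd_prime_iff_eq hq hp).mp h2

theorem not_mem_beta_of_not_mem_sigma (hG : IsMinSimpleOddOrder G) {M : Subgroup G} (hM : IsCoatom M)
    {t : ℕ} (ht : t ∉ sigma M) : t ∉ beta M :=
  fun h => ht (Cfsg.Agent.Lib.Helper49_Alpha.mem_sigma_of_mem_alpha hG (hU hG) hM h.1)

/-- (Z1): with `H = H_β (M ∩ H)`, a prime `t ∉ β(H)` dividing `|H'|` divides `|(M ∩ H)'|` -/
theorem dvd_card_commutator_inf {M H : Subgroup G} (h : H ≤ piCoreOf (beta H) H ⊔ (M ⊓ H))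
    {t : ℕ} (ht : t.Prime) (htβ : t ∉ beta H) (htH : t ∣ Nat.card ↥⁅H, H⁆) :
    t ∣ Nat.card ↥⁅M ⊓ H, M ⊓ H⁆ :=
  prime_dvd_card_commutator_of_le_sup (piCoreOf_le _ _) (le_normalizer_piCoreOf _ _) inf_le_right h ht
    (fun hd => htβ (piCoreOf_primes (beta H) H t ht hd)) htH

omit [Finite G] in
theorem card_commutator_cj (g : G) (M : Subgroup G) :
    Nat.card ↥⁅cj g M, cj g M⁆ = Nat.card ↥⁅M, M⁆ := by
  have h : ⁅cj g M, cj g M⁆ = cj g ⁅M, M⁆ := by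
    show ⁅M.map _, M.map _⁆ = (⁅M, M⁆).map _
    rw [Subgroup.map_commutator]
  rw [h, card_cj]

/-- (Z1'): a common prime of `σ(M)` and `σ(H)`: the primes `t ∉ β(H)` dividing `|H'|` divide `|M'|` -/
theorem dvd_card_commutator_of_common_sigma (hG : IsMinSimpleOddOrder G) {M H : Subgroup G}
    (hM : IsCoatom M) (hH : IsCoatom H) (hnc : ∀ g : G, H ≠ cj g M) {q : ℕ} [Fact q.Prime]
    (hqM : q ∈ sigma M) (hqH : q ∈ sigma H) {t : ℕ} (ht : t.Prime) (htβ : t ∉ beta H)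
    (htH : t ∣ Nat.card ↥⁅H, H⁆) : t ∣ Nat.card ↥⁅M, M⁆ := by
  obtain ⟨g, Y, -, -, -, -, h1, -⟩ := lemmaZ hG hM hH hnc hqM hqH
  have h2 := dvd_card_commutator_inf h1 ht htβ htH
  rw [← card_commutator_cj g M]
  exact h2.trans (Subgroup.card_dvd_of_le (Subgroup.commutator_mono inf_le_left inf_le_left))

/-- (Z2'): a common prime of `σ(M)` and `σ(H)`, `M`, `H` not conjugate: `τ₂(H)` is empty -/
theorem tau2_empty_of_common_sigma (hG : IsMinSimpleOddOrder G) {M H : Subgroup G}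
    (hM : IsCoatom M) (hH : IsCoatom H) (hnc : ∀ g : G, H ≠ cj g M) {q : ℕ} [Fact q.Prime]
    (hqM : q ∈ sigma M) (hqH : q ∈ sigma H) {t : ℕ} [Fact t.Prime] (ht : t ∈ tau2 H) : False := by
  have htt : t.Prime := Fact.out
  obtain ⟨g, Y, hYs, hY1, hYM, hYH, h1, -⟩ := lemmaZ hG hM hH hnc hqM hqH
  obtain ⟨A₀, hA₀H, hA₀e, hA₀2⟩ := Cfsg.Agent.Lib.Helper49_Alpha3.exists_elemAb_sq ht.2.2.1 ht.2.2.2
  have hcM := Cfsg.Agent.Lib.Helper22_Uniq.isCoatom_cj hM g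
  obtain ⟨m, hm, hmA⟩ := exists_cj_le_of_le_sup hG hcM hH (beta H) h1 hA₀H (by
    intro p hp hd hβ
    rw [prime_eq_of_dvd_card_sq htt hA₀2 hp hd] at hβ
    exact not_mem_beta_of_not_mem_sigma hG hH ht.2.1 hβ)
  have hAe : IsElementaryAbelian t (cj m A₀) := isElementaryAbelian_cj hA₀e m
  have hA2 : Nat.card (cj m A₀) = t ^ 2 := by rw [card_cj]; exact hA₀2
  have hne : cj g M ≠ H := fun h => hnc g h.symm
  have h5 := (h17 hG H hH t ht (cj m A₀) ⟨hmA.trans inf_le_right, hAe, hA2⟩).2.2.2.2.1 (cj g M) hcM hne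
    (hmA.trans inf_le_left)
  have hYσ : Y ≤ sigmaCore H := le_sigmaCore_of_isPGroup' hG hH hqH hYs.isPGroup hYH
  apply hY1
  rw [eq_bot_iff, ← h5]
  exact le_inf hYσ hYM

end Cfsg.Agent.Lib.Helper76_BG13d
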