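import Cfsg.Agent.Lib.Helper76_BG13d
import Cfsg.Agent.S1406
import Cfsg.Agent.S1409
import Cfsg.Agent.S1411
import Cfsg.Agent.S1415
import Cfsg.Agent.S1424
import Cfsg.Agent.S1420
import Cfsg.Agent.S1408
import Cfsg.Agent.Lib.Helper70_BG127
import Cfsg.Agent.S1418
import Cfsg.Agent.S1414

set_option autoImplicit false
set_option linter.unusedSectionVars false

namespace Cfsg.Agent.Lib.Helper76_BG13e

open scoped commutatorElement
open Subgroup Cfsg Cfsg.Agent.Lib.Helper22_Radical Cfsg.Agent.Lib.Helper22_BGTrans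
  Cfsg.Agent.Lib.Helper84_RelSylow Cfsg.Agent.Lib.Helper49_Sigma
  Cfsg.Agent.Lib.Helper24_CoprimeHall Cfsg.Agent.Lib.Helper24_CoprimeAction
  Cfsg.Agent.Lib.Helper76_BG13a Cfsg.Agent.Lib.Helper76_BG13b Cfsg.Agent.Lib.Helper76_BG13c
  Cfsg.Agent.Lib.Helper76_BG13d

universe u

variable {G : Type u} [Group G] [Finite G]


/-- For `p ∈ τ₂(H)`, `E` a complement of `H_σ` and `A ≤ E` elementary abelian of order `p ^ 2`:
the derived subgroup `E'` centralizes `A`. -/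
theorem commutator_compl_le_centralizer (hG : IsMinSimpleOddOrder G) {H EH A : Subgroup G}
    (hH : IsCoatom H) (hEH : IsComplIn EH (sigmaCore H) H) {p : ℕ} [Fact p.Prime] (hp : p ∈ tau2 H)
    (hAE : A ≤ EH) (hAe : IsElementaryAbelian p A) (hA2 : Nat.card A = p ^ 2) :
    ⁅EH, EH⁆ ≤ centralizer (A : Set G) := by
  have hpp : p.Prime := Fact.out
  have hFc : IsMulCommutative ↥⁅EH, EH⁆ := (Cfsg.Agent.S1420.result hG H hH EH hEH).2.1
  have hEN : EH ≤ normalizer (A : Set G) := h18 hG H hH EH hEH p hp A hAE hAe hA2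
  have hFE : ⁅EH, EH⁆ ≤ EH := Subgroup.commutator_le_self EH
  have hAH : A ≤ H := hAE.trans hEH.1
  intro f hf
  apply Cfsg.Agent.Lib.Helper70_BG127.mem_of_primary_parts_mem
  intro q hq hqd
  have := Fact.mk hq
  obtain ⟨k, hk⟩ : ∃ k, k = (orderOf f).factorization q := ⟨_, rfl⟩
  rw [← hk]
  obtain ⟨y, hy⟩ : ∃ y, y = f ^ (orderOf f / q ^ k) := ⟨_, rfl⟩
  rw [← hy]
  have hyF : y ∈ ⁅EH, EH⁆ := hy ▸ pow_mem hf _
  have hyo : orderOf y = q ^ k := by
    rw [hy]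
    apply orderOf_pow_orderOf_div (orderOf_pos f).ne'
    rw [hk]
    exact Nat.ordProj_dvd _ _
  have hBq : IsPGroup q (zpowers y) := by
    apply isPGroup_zpowers
    exact ⟨k, by rw [← hyo]; exact pow_orderOf_eq_one y⟩
  have hBN : zpowers y ≤ normalizer (A : Set G) := zpowers_le.mpr (hEN (hFE hyF))
  by_cases hqp : q = p
  · subst hqp
    have := le_centralizer_of_tau2 (h17 hG) hH hp hAH hAe hA2
      (zpowers_le.mpr (hEH.1 (hFE hyF))) hBq hBN
    exact this (mem_zpowers y)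
  · rw [mem_centralizer_iff]
    intro a ha
    have hcop : (Nat.card (zpowers y)).Coprime (Nat.card A) := by
      rw [hA2, Nat.card_zpowers, hyo]
      apply Nat.Coprime.pow
      exact (Nat.coprime_primes hq hpp).mpr hqp
    have hsolvB : Group.IsSolvable ↥(zpowers y) := inferInstance
    obtain ⟨d, hd, c, hc, rfl⟩ := coprime_decomp (zpowers y) A hBN hcop (Or.inl hsolvB) ha
    have hdF : d ∈ ⁅EH, EH⁆ :=
      Subgroup.commutator_mono hAE (zpowers_le.mpr (hFE hyF)) hd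
    have h1 : d * y = y * d :=
      congrArg Subtype.val (hFc.is_comm.comm (⟨d, hdF⟩ : ↥⁅EH, EH⁆) ⟨y, hyF⟩)
    have h2 : y * c = c * y := (mem_centralizer_iff.mp hc.2 y (mem_zpowers y))
    calc d * c * y = d * (c * y) := by group
      _ = d * (y * c) := by rw [h2]
      _ = (d * y) * c := by group
      _ = (y * d) * c := by rw [h1]
      _ = y * (d * c) := by group

/-- A hypothetical counterexample to B–G Theorem 13.4 (with `r ≠ p`), together with a maximal subgroup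
`H` containing `N_G(P)`. -/
structure Cfg (M E P R H : Subgroup G) (p r : ℕ) : Prop where
  hM : IsCoatom M
  hE : IsComplIn E (sigmaCore M) M
  hp : p ∈ tau1 M
  hPE : P ≤ E
  hP : Nat.card P = p
  hRE : R ≤ E
  hRP : R ≤ centralizer (P : Set G)
  hR : Nat.card R = r
  hr : r.Prime
  hrp : r ≠ p
  hne : ¬ (sigmaCore M ⊓ centralizer (P : Set G) ≤ centralizer (R : Set G))
  hH : IsCoatom H
  hNP : normalizer (P : Set G) ≤ H

namespace Cfg

variable {M E P R H : Subgroup G} {p r : ℕ}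

/-- `C = C_{M_σ}(P)` -/
abbrev C (M P : Subgroup G) : Subgroup G := sigmaCore M ⊓ centralizer (P : Set G)

/-- `T = [C, R]` -/
abbrev T (M P R : Subgroup G) : Subgroup G := ⁅C M P, R⁆

theorem pp (h : Cfg M E P R H p r) : p.Prime := h.hp.1

theorem hPM (h : Cfg M E P R H p r) : P ≤ M := h.hPE.trans h.hE.1

theorem hRM (h : Cfg M E P R H p r) : R ≤ M := h.hRE.trans h.hE.1

theorem hpσ (h : Cfg M E P R H p r) : p ∉ sigma M := h.hp.2.1

theorem hr1 (h : Cfg M E P R H p r) : PRankLE p 1 ↥M := h.hp.2.2.2.2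

theorem hPp (h : Cfg M E P R H p r) : IsPGroup p P := by
  have := Fact.mk h.pp
  exact IsPGroup.of_card (n := 1) (by rw [h.hP, pow_one])

theorem hRr (h : Cfg M E P R H p r) : IsPGroup r R := by
  have := Fact.mk h.hr
  exact IsPGroup.of_card (n := 1) (by rw [h.hR, pow_one])

theorem hP1 (h : Cfg M E P R H p r) : P ≠ ⊥ := by
  intro h0
  have := h.hP
  rw [h0, Subgroup.card_bot] at this
  exact h.pp.one_lt.ne this

theorem hR1 (h : Cfg M E P R H p r) : R ≠ ⊥ := by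
  intro h0
  have := h.hR
  rw [h0, Subgroup.card_bot] at this
  exact h.hr.one_lt.ne this

/-- primes of `E` are outside `σ(M)` -/
theorem not_mem_sigma_of_le_E (hG : IsMinSimpleOddOrder G) (h : Cfg M E P R H p r) {q : ℕ}
    (hq : q.Prime) {X : Subgroup G} (hXE : X ≤ E) (hd : q ∣ Nat.card X) : q ∉ sigma M :=
  (piHall_of_isComplIn (sigma_hall hG h.hM) h.hE).2.1 q hq (hd.trans (Subgroup.card_dvd_of_le hXE))

theorem hrσ (hG : IsMinSimpleOddOrder G) (h : Cfg M E P R H p r) : r ∉ sigma M :=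
  h.not_mem_sigma_of_le_E hG h.hr h.hRE (by rw [h.hR])

theorem hPH (h : Cfg M E P R H p r) : P ≤ H := le_normalizer.trans h.hNP

theorem hCPH (h : Cfg M E P R H p r) : centralizer (P : Set G) ≤ H :=
  (Subgroup.centralizer_le_normalizer _).trans h.hNP

theorem hRH (h : Cfg M E P R H p r) : R ≤ H := h.hRP.trans h.hCPH

theorem hCH (h : Cfg M E P R H p r) : C M P ≤ H := inf_le_right.trans h.hCPH

theorem hCσ (_h : Cfg M E P R H p r) : C M P ≤ sigmaCore M := inf_le_left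

/-- `R` normalizes `C` -/
theorem hRC (h : Cfg M E P R H p r) : R ≤ normalizer ((C M P : Subgroup G) : Set G) := by
  intro ρ hρ
  apply inf_normalizer_le_normalizer_inf
  refine ⟨le_normalizer_sigmaCore' M (h.hRM hρ), ?_⟩
  have h1 : ρ ∈ normalizer (P : Set G) := (Subgroup.centralizer_le_normalizer _) (h.hRP hρ)
  exact Cfsg.Agent.Lib.Helper24_CoprimeHall.normalizer_le_normalizer_centralizer P h1

theorem hTC (h : Cfg M E P R H p r) : T M P R ≤ C M P :=
  commutator_le_of_le_normalizer _ _ h.hRC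

theorem hRT (h : Cfg M E P R H p r) : R ≤ normalizer ((T M P R : Subgroup G) : Set G) :=
  fun _ hρ => mem_normalizer_commutator _ _ (h.hRC hρ) (le_normalizer hρ)

theorem hT1 (h : Cfg M E P R H p r) : T M P R ≠ ⊥ := by
  intro h0
  exact h.hne (Subgroup.commutator_eq_bot_iff_le_centralizer.mp h0)

theorem hTH' (h : Cfg M E P R H p r) : T M P R ≤ ⁅H, H⁆ :=
  Subgroup.commutator_mono h.hCH h.hRH

theorem hTσ (h : Cfg M E P R H p r) {q : ℕ} (hq : q.Prime) (hd : q ∣ Nat.card ↥(T M P R)) :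
    q ∈ sigma M :=
  mem_sigma_of_dvd_card_le_sigmaCore (h.hTC.trans inf_le_left) hq hd

theorem hTP (h : Cfg M E P R H p r) : T M P R ≤ centralizer (P : Set G) := h.hTC.trans inf_le_right

/-- `|R|` is prime to `|C|` -/
theorem hcopRC (hG : IsMinSimpleOddOrder G) (h : Cfg M E P R H p r) :
    (Nat.card R).Coprime (Nat.card ↥(C M P)) := by
  rw [h.hR, Nat.Prime.coprime_iff_not_dvd h.hr]
  intro hd
  exact h.hrσ hG (mem_sigma_of_dvd_card_le_sigmaCore inf_le_left h.hr hd)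

/-- if `R` centralizes `T = [C,R]`, then it centralizes `C` -/
theorem not_T_le_centralizer (hG : IsMinSimpleOddOrder G) (h : Cfg M E P R H p r) :
    ¬ T M P R ≤ centralizer (R : Set G) := by
  intro hT
  apply h.hne
  intro c hc
  have hsolv : Group.IsSolvable R := by
    have := h.hR
    have : Fact (Nat.card R).Prime := ⟨by rw [h.hR]; exact h.hr⟩
    have hcyc : IsCyclic R := isCyclic_of_prime_card rfl
    have : IsMulCommutative R := IsCyclic.isMulCommutative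
    infer_instance
  obtain ⟨d, hd, c', hc', rfl⟩ := coprime_decomp R (C M P) h.hRC (h.hcopRC hG) (Or.inl hsolv) hc
  exact mul_mem (hT hd) hc'.2

/-- `H` is not conjugate to `M` -/
theorem hστ (hG : IsMinSimpleOddOrder G) (h : Cfg M E P R H p r) : p ∈ sigma H ∨ p ∈ tau2 H := by
  have := Fact.mk h.pp
  exact mem_sigma_or_tau2 hG h.hH h.hPp h.hP1 h.hNP

theorem hnc (hG : IsMinSimpleOddOrder G) (h : Cfg M E P R H p r) : ∀ g : G, H ≠ cj g M := by
  intro g hg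
  rcases h.hστ hG with hσ | hτ
  · apply h.hpσ
    have := mem_sigma_cj (hg ▸ hσ) g⁻¹
    rwa [cj_inv_cj] at this
  · apply hτ.2.2.2
    rw [hg]
    apply pRankLE_of_cj g⁻¹
    rw [cj_inv_cj]
    exact h.hr1

theorem hncM (hG : IsMinSimpleOddOrder G) (h : Cfg M E P R H p r) : ∀ g : G, M ≠ cj g H :=
  Cfsg.Agent.Lib.Helper47_BG1214a.nonconj_symm (h.hnc hG)

/-- case `r ∈ σ(H)` -/
theorem caseP1 (hG : IsMinSimpleOddOrder G) (h : Cfg M E P R H p r) (hrH : r ∈ sigma H) : False := by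
  have := Fact.mk h.hr
  apply h.hne
  intro c hc
  rw [mem_centralizer_iff]
  intro ρ hρ
  have hρr : ∃ k : ℕ, ρ ^ r ^ k = 1 := by
    obtain ⟨k, hk⟩ := h.hRr ⟨ρ, hρ⟩
    exact ⟨k, congrArg Subtype.val hk⟩
  exact commute_of_mem_sigma hG h.hM h.hH hrH (h.hrσ hG) (h.hRM hρ) (h.hRH hρ) hρr hc.1 (h.hCH hc)

/-- `|T|` is prime to `r` -/
theorem hcopTR (hG : IsMinSimpleOddOrder G) (h : Cfg M E P R H p r) :
    (Nat.card ↥(T M P R)).Coprime (Nat.card R) :=
  Nat.Coprime.coprime_dvd_left (Subgroup.card_dvd_of_le h.hTC) (h.hcopRC hG).symm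

theorem hTRdisj (hG : IsMinSimpleOddOrder G) (h : Cfg M E P R H p r) : T M P R ⊓ R = ⊥ :=
  (Subgroup.disjoint_of_coprime_natCard (h.hcopTR hG)).eq_bot

/-- a prime of `T ⊔ R` is a prime of `T` or is `r` -/
theorem prime_TR (hG : IsMinSimpleOddOrder G) (h : Cfg M E P R H p r) {q : ℕ} (hq : q.Prime)
    (hd : q ∣ Nat.card ↥(T M P R ⊔ R)) : q ∣ Nat.card ↥(T M P R) ∨ q = r := by
  rcases prime_dvd_card_sup h.hRT (h.hTRdisj hG) hq hd with h1 | h1
  · exact Or.inl h1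
  · right
    rw [h.hR] at h1
    exact (Nat.prime_dvd_prime_iff_eq hq h.hr).mp h1

/-- primes of `T` are outside `β(H)` -/
theorem hTβ (hG : IsMinSimpleOddOrder G) (h : Cfg M E P R H p r) {q : ℕ} (hq : q.Prime)
    (hd : q ∣ Nat.card ↥(T M P R)) : q ∉ beta H := fun hβ =>
  Cfsg.Agent.Lib.Helper49_SigmaDisjoint.alpha_inter_sigma hG h.hH h.hM (h.hncM hG) hβ.1 (h.hTσ hq hd)

/-- if `R ≤ H'` and `r ∉ β(H)`, we have a contradiction: `TR` lies in a nilpotent Hall subgroup of `H'` -/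
theorem false_of_R_le_commutator (hG : IsMinSimpleOddOrder G) (h : Cfg M E P R H p r)
    (hRH' : R ≤ ⁅H, H⁆) (hrβ : r ∉ beta H) : False := by
  obtain ⟨-, -, ⟨Hd, hHd, hnil⟩, -, -⟩ := Cfsg.Agent.S1414.result hG H h.hH
  have hTRle : T M P R ⊔ R ≤ ⁅H, H⁆ := sup_le h.hTH' hRH'
  have hsolv' : Group.IsSolvable ↥⁅H, H⁆ :=
    isSolvable_of_le hG h.hH (Subgroup.commutator_le_self H)
  have hTRnil : Group.IsNilpotent ↥(T M P R ⊔ R) :=
    isNilpotent_of_le_piHall hsolv' ((isPiHallOf_iff _ _ _).mp hHd) hnil hTRle (by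
      intro q hq hd
      refine ⟨hq, ?_⟩
      rcases h.prime_TR hG hq hd with h1 | h1
      · exact h.hTβ hG hq h1
      · rw [h1]; exact hrβ)
  apply h.not_T_le_centralizer hG
  intro t ht
  rw [mem_centralizer_iff]
  intro ρ hρ
  have hρr : ρ ^ Nat.card R = 1 := by
    have h1 : (⟨ρ, hρ⟩ : R) ^ Nat.card R = 1 := pow_card_eq_one'
    exact congrArg Subtype.val h1
  have htn : t ^ Nat.card ↥(T M P R) = 1 := by
    have h1 : (⟨t, ht⟩ : ↥(T M P R)) ^ Nat.card ↥(T M P R) = 1 := pow_card_eq_one'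
    exact congrArg Subtype.val h1
  have := Cfsg.Agent.Lib.Helper32_Nilpotent.commute_of_coprime_pow_eq_one ↥(T M P R ⊔ R)
    (⟨ρ, mem_sup_right hρ⟩ : ↥(T M P R ⊔ R)) ⟨t, mem_sup_left ht⟩ (Nat.card R) (Nat.card ↥(T M P R))
    (Subtype.ext hρr) (Subtype.ext htn) (h.hcopTR hG).symm
  exact congrArg Subtype.val this.eq

/-- case `r ∈ τ₃(H)` -/
theorem caseP2 (hG : IsMinSimpleOddOrder G) (h : Cfg M E P R H p r) (hrH : r ∈ tau3 H) : False := by
  have hsolvH := isSolvable_of_isCoatom hG h.hH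
  have hRprime : ∀ q : ℕ, q.Prime → q ∣ Nat.card R → q = r := by
    intro q hq hd
    rw [h.hR] at hd
    exact (Nat.prime_dvd_prime_iff_eq hq h.hr).mp hd
  obtain ⟨EH, hEH, hREH⟩ := exists_compl_ge hsolvH (sigma_hall hG h.hH) h.hRH (by
    intro q hq hd
    rw [hRprime q hq hd]
    exact hrH.2.1)
  have hsolvE : Group.IsSolvable ↥EH := isSolvable_of_le hG h.hH hEH.1
  obtain ⟨E3, hE3, hRE3⟩ := exists_piHall_ge (π := tau3 H) hsolvE hREH (by
    intro q hq hd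
    rw [hRprime q hq hd]
    exact hrH)
  obtain ⟨-, -, h3⟩ := Cfsg.Agent.S1415.result hG H h.hH EH hEH
  have hE3le : E3 ≤ ⁅EH, EH⁆ := (h3 E3 ((isPiHallOf_iff _ _ _).mpr hE3)).2.1
  have hRH' : R ≤ ⁅H, H⁆ := hRE3.trans (hE3le.trans (Subgroup.commutator_mono hEH.1 hEH.1))
  exact h.false_of_R_le_commutator hG hRH' (not_mem_beta_of_not_mem_sigma hG h.hH hrH.2.1)

theorem exists_prime_dvd_T (h : Cfg M E P R H p r) : ∃ q : ℕ, q.Prime ∧ q ∣ Nat.card ↥(T M P R) := by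
  apply Nat.exists_prime_and_dvd
  intro h1
  exact h.hT1 ((Subgroup.card_eq_one).mp h1)

theorem prime_T_ne_r (hG : IsMinSimpleOddOrder G) (h : Cfg M E P R H p r) {q : ℕ} (hq : q.Prime)
    (hd : q ∣ Nat.card ↥(T M P R)) : q ≠ r := by
  rintro rfl
  exact h.hrσ hG (h.hTσ hq hd)

/-- case `r ∈ τ₂(H)` -/
theorem caseP3 (hG : IsMinSimpleOddOrder G) (h : Cfg M E P R H p r) (hrH : r ∈ tau2 H) : False := by
  have := Fact.mk h.hr
  have hsolvH := isSolvable_of_isCoatom hG h.hH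
  have hRprime : ∀ q : ℕ, q.Prime → q ∣ Nat.card R → q = r := by
    intro q hq hd
    rw [h.hR] at hd
    exact (Nat.prime_dvd_prime_iff_eq hq h.hr).mp hd
  obtain ⟨EH, hEH, hREH⟩ := exists_compl_ge hsolvH (sigma_hall hG h.hH) h.hRH (by
    intro q hq hd
    rw [hRprime q hq hd]
    exact hrH.2.1)
  obtain ⟨A, hAE, hAe, hA2⟩ := exists_elemAb_le_compl hG h.hH hEH hrH
  have hAH : A ≤ H := hAE.trans hEH.1
  have hRA : R ≤ A := (Cfsg.Agent.S1418.result hG H h.hH EH hEH r hrH A ⟨hAE, hAe, hA2⟩).1.2 R hREH h.hR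
  have hW : H ≤ normalizer ((sigmaCore H ⊔ A : Subgroup G) : Set G) :=
    (h17 hG H h.hH r hrH A ⟨hAH, hAe, hA2⟩).2.2.1
  have hTW : T M P R ≤ sigmaCore H ⊔ A := by
    rw [Subgroup.commutator_le]
    intro c hc ρ hρ
    have h1 : c * ρ * c⁻¹ ∈ sigmaCore H ⊔ A :=
      conj_mem_of_mem_normalizer (hW (h.hCH hc)) (mem_sup_right (hRA hρ))
    have h2 : ⁅c, ρ⁆ = c * ρ * c⁻¹ * ρ⁻¹ := commutatorElement_def c ρ
    rw [h2]
    exact mul_mem h1 (inv_mem (mem_sup_right (hRA hρ)))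
  obtain ⟨q, hq, hqT⟩ := h.exists_prime_dvd_T
  have := Fact.mk hq
  have hqM : q ∈ sigma M := h.hTσ hq hqT
  have hqr : q ≠ r := h.prime_T_ne_r hG hq hqT
  have hAnorm : A ≤ normalizer ((sigmaCore H : Subgroup G) : Set G) :=
    hAH.trans (le_normalizer_sigmaCore' H)
  have h3 : q ∣ Nat.card ↥(sigmaCore H) * Nat.card A :=
    (hqT.trans (Subgroup.card_dvd_of_le hTW)).trans
      (Cfsg.Agent.Lib.Helper22_Basic.card_sup_dvd_of_le_normalizer _ _ hAnorm)
  have hqH : q ∈ sigma H := by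
    rcases (Nat.Prime.dvd_mul hq).mp h3 with h4 | h4
    · exact mem_sigma_of_dvd_card_le_sigmaCore le_rfl hq h4
    · exfalso
      rw [hA2] at h4
      exact hqr ((Nat.prime_dvd_prime_iff_eq hq h.hr).mp (hq.dvd_of_dvd_pow h4))
  exact tau2_empty_of_common_sigma hG h.hM h.hH (h.hnc hG) hqM hqH hrH

/-- `P` normalizes `T ⊔ R` -/
theorem hP_norm_TR (h : Cfg M E P R H p r) : P ≤ normalizer ((T M P R ⊔ R : Subgroup G) : Set G) := by
  intro x hx
  apply mem_normalizer_sup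
  · exact Subgroup.centralizer_le_normalizer _ ((Subgroup.le_centralizer_iff.mp h.hTP) hx)
  · exact Subgroup.centralizer_le_normalizer _ ((Subgroup.le_centralizer_iff.mp h.hRP) hx)

theorem not_p_dvd_TR (hG : IsMinSimpleOddOrder G) (h : Cfg M E P R H p r) :
    ¬ p ∣ Nat.card ↥(T M P R ⊔ R) := by
  intro hd
  rcases h.prime_TR hG h.pp hd with h1 | h1
  · exact h.hpσ (h.hTσ h.pp h1)
  · exact h.hrp h1.symm

theorem hTRP_disj (hG : IsMinSimpleOddOrder G) (h : Cfg M E P R H p r) : (T M P R ⊔ R) ⊓ P = ⊥ := by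
  apply (Subgroup.disjoint_of_coprime_natCard _).eq_bot
  rw [h.hP, Nat.coprime_comm, Nat.Prime.coprime_iff_not_dvd h.pp]
  exact h.not_p_dvd_TR hG

/-- a prime of `(T ⊔ R) ⊔ P` is a prime of `T`, or `r`, or `p` -/
theorem prime_TRP (hG : IsMinSimpleOddOrder G) (h : Cfg M E P R H p r) {q : ℕ} (hq : q.Prime)
    (hd : q ∣ Nat.card ↥((T M P R ⊔ R) ⊔ P)) : q ∣ Nat.card ↥(T M P R) ∨ q = r ∨ q = p := by
  rcases prime_dvd_card_sup h.hP_norm_TR (h.hTRP_disj hG) hq hd with h1 | h1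
  · rcases h.prime_TR hG hq h1 with h2 | h2
    · exact Or.inl h2
    · exact Or.inr (Or.inl h2)
  · right; right
    rw [h.hP] at h1
    exact (Nat.prime_dvd_prime_iff_eq hq h.pp).mp h1

theorem hTRPH (h : Cfg M E P R H p r) : (T M P R ⊔ R) ⊔ P ≤ H :=
  sup_le (sup_le (h.hTC.trans h.hCH) h.hRH) h.hPH

/-- `[T, R] ≠ 1` -/
theorem hT'1 (hG : IsMinSimpleOddOrder G) (h : Cfg M E P R H p r) : ⁅T M P R, R⁆ ≠ ⊥ := fun h0 =>
  h.not_T_le_centralizer hG (Subgroup.commutator_eq_bot_iff_le_centralizer.mp h0)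

theorem hT'T (h : Cfg M E P R H p r) : ⁅T M P R, R⁆ ≤ T M P R :=
  commutator_le_of_le_normalizer _ _ h.hRT

/-- case `r ∈ τ₁(H)`, `p ∈ τ₂(H)` -/
theorem caseP4 (hG : IsMinSimpleOddOrder G) (h : Cfg M E P R H p r) (hrH : r ∈ tau1 H)
    (hpH : p ∈ tau2 H) : False := by
  have := Fact.mk h.pp
  have hsolvH := isSolvable_of_isCoatom hG h.hH
  obtain ⟨EH, hEH, hWE⟩ := exists_compl_ge hsolvH (sigma_hall hG h.hH) h.hTRPH (by
    intro q hq hd hqH
    rcases h.prime_TRP hG hq hd with h1 | h1 | h1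
    · have := Fact.mk hq
      exact tau2_empty_of_common_sigma hG h.hM h.hH (h.hnc hG) (h.hTσ hq h1) hqH hpH
    · rw [h1] at hqH; exact hrH.2.1 hqH
    · rw [h1] at hqH; exact hpH.2.1 hqH)
  have hTE : T M P R ≤ EH := (le_sup_left.trans le_sup_left).trans hWE
  have hRE' : R ≤ EH := (le_sup_right.trans le_sup_left).trans hWE
  have hPE' : P ≤ EH := le_sup_right.trans hWE
  obtain ⟨A, hAE, hAe, hA2⟩ := exists_elemAb_le_compl hG h.hH hEH hpH
  have hPA : P ≤ A := (Cfsg.Agent.S1418.result hG H h.hH EH hEH p hpH A ⟨hAE, hAe, hA2⟩).1.2 P hPE' h.hP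
  have hT'A : ⁅T M P R, R⁆ ≤ centralizer (A : Set G) :=
    (Subgroup.commutator_mono hTE hRE').trans
      (commutator_compl_le_centralizer hG h.hH hEH hpH hAE hAe hA2)
  obtain ⟨⟨z, hz⟩, hz1⟩ := (Subgroup.ne_bot_iff_exists_ne_one).mp (h.hT'1 hG)
  obtain ⟨⟨x, hx⟩, hx1⟩ := (Subgroup.ne_bot_iff_exists_ne_one).mp h.hP1
  have hz1' : z ≠ 1 := fun h0 => hz1 (Subtype.ext h0)
  have hx1' : x ≠ 1 := fun h0 => hx1 (Subtype.ext h0)
  have hzT : z ∈ T M P R := h.hT'T hz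
  have hxz : x * z = z * x := (mem_centralizer_iff.mp (h.hTP hzT) x hx)
  have hxp : ∃ k : ℕ, x ^ p ^ k = 1 := by
    obtain ⟨k, hk⟩ := h.hPp ⟨x, hx⟩
    exact ⟨k, congrArg Subtype.val hk⟩
  have hAz : A ≤ centralizer ({z} : Set G) := by
    intro a ha
    rw [mem_centralizer_iff]
    intro y hy
    rw [Set.mem_singleton_iff] at hy
    rw [hy]
    exact (mem_centralizer_iff.mp (hT'A hz) a ha).symm
  have hni : ¬ IsIdealPrime p G :=
    (Cfsg.Agent.S1408.result hG H h.hH p hpH.2.1 hpH.2.2.1 hpH.2.2.2).1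
  exact final_contra hG (hC hG) (h17 hG) (h18 hG) h.hM h.hpσ h.hr1 hni (h.hPM hx) hx1' hxp
    ((h.hTC.trans inf_le_left) hzT) hz1' hxz hAe hA2 hAz

end Cfg

end Cfsg.Agent.Lib.Helper76_BG13e
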