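import Cfsg.Agent.Lib.Helper76_BG13f
import Cfsg.Agent.Lib.Helper29_BG12b

/-!
# The rank claim of Bender–Glauberman, Theorem 13.4 (helper76)

`hRank` discharges the hypothesis `HRank G` of helper39's assembly `Helper39_BG134c.statement_S1428`: in the
remaining case (`p ∈ σ(H)`, `r ∈ τ₁(H)`) of a counterexample to Theorem 13.4, `H` has `p`-rank at least `3`.

Proof (`Cfg.caseP5`).  Suppose `H` has `p`-rank at most `2`; then `p` is not an ideal prime.  With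
`T = [C_{M_σ}(P), R] ≠ 1`, every prime `q` of `|T|` lies in `σ(M)`, is outside `σ(H)` (Lemma Z1: else
`p ∣ |M'|`) and outside `τ₂(H)` (S1418, S1424, 12.5(e)), so `H` has `q`-rank one (`Cfg.hTrank`).  Let `K₁` be a
Hall `β(H)'`-subgroup of `H` containing `T`, `R`, `P`; then `H = H_β K₁`, so `p ∣ |K₁'|`; `K = K₁ ∩ H'` is
nilpotent (S1414) and normal in `K₁`, its Sylow `q`-subgroup is cyclic, so `K₁` normalizes a subgroup `X ≤ T`
of order `q`.  For a maximal `L ≥ N_G(X)` we get `p ∣ |L'|`, and each of `L = M`, `q ∈ σ(L)` (Lemma Z1),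
`q ∈ τ₂(L)` (a complement of `L_σ` is conjugate into `M`) gives `p ∣ |M'|`, contradicting `p ∈ τ₁(M)`.
-/

set_option autoImplicit false
set_option linter.unusedSectionVars false

namespace Cfsg.Agent.Lib.Helper76_BG13g

open scoped commutatorElement
open Subgroup Cfsg Cfsg.Agent.Lib.Helper22_Radical Cfsg.Agent.Lib.Helper22_BGTrans
  Cfsg.Agent.Lib.Helper84_RelSylow Cfsg.Agent.Lib.Helper49_Sigma
  Cfsg.Agent.Lib.Helper24_CoprimeHall Cfsg.Agent.Lib.Helper24_CoprimeAction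
  Cfsg.Agent.Lib.Helper76_BG13a Cfsg.Agent.Lib.Helper76_BG13b Cfsg.Agent.Lib.Helper76_BG13c
  Cfsg.Agent.Lib.Helper76_BG13d Cfsg.Agent.Lib.Helper76_BG13e

universe u

variable {G : Type u} [Group G] [Finite G]

/-- the Sylow `q`-subgroup of a nilpotent subgroup `K`: it contains every `q`-subgroup of `K` and is
normalized by `N_G(K)` -/
theorem exists_sylow_of_isNilpotent {K : Subgroup G} (hK : Group.IsNilpotent ↥K) (q : ℕ)
    [Fact q.Prime] :
    ∃ Q : Subgroup G, Q ≤ K ∧ IsPGroup q Q ∧ (∀ Y : Subgroup G, Y ≤ K → IsPGroup q Y → Y ≤ Q) ∧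
      normalizer (K : Set G) ≤ normalizer (Q : Set G) := by
  have Sq : Sylow q ↥K := default
  have hn : (Sq : Subgroup ↥K).Normal := inferInstance
  have hsub : Subsingleton (Sylow q ↥K) := (Sylow.unique_of_normal Sq hn).instSubsingleton
  have hQq : IsPGroup q ((Sq : Subgroup ↥K).map K.subtype) := Sq.2.map _
  have hmax : ∀ Y : Subgroup G, Y ≤ K → IsPGroup q Y → Y ≤ (Sq : Subgroup ↥K).map K.subtype := by
    intro Y hYK hYq
    have hY' : IsPGroup q (Y.subgroupOf K) :=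
      hYq.comap_of_injective K.subtype K.subtype_injective
    obtain ⟨S, hS⟩ := hY'.exists_le_sylow
    have hSS : S = Sq := Subsingleton.elim _ _
    intro y hy
    exact ⟨⟨y, hYK hy⟩, hSS ▸ hS (by rw [Subgroup.mem_subgroupOf]; exact hy), rfl⟩
  refine ⟨(Sq : Subgroup ↥K).map K.subtype, Subgroup.map_subtype_le _, hQq, hmax, ?_⟩
  intro g hg
  apply Cfsg.Agent.Lib.Helper22_BGTransUp.mem_normalizer_of_cj_eq
  have h1 : cj g ((Sq : Subgroup ↥K).map K.subtype) ≤ K := by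
    have := cj_mono (k := g) (Subgroup.map_subtype_le (Sq : Subgroup ↥K))
    rwa [cj_eq_of_mem_normalizer hg] at this
  have h2 : IsPGroup q ↥(cj g ((Sq : Subgroup ↥K).map K.subtype)) := hQq.map _
  have h3 := hmax _ h1 h2
  apply Subgroup.eq_of_le_of_card_ge h3
  rw [card_cj]

/-- `q ∈ σ(M) ∩ τ₂(L)`, `L ≠ M`, and a `q`-subgroup `Q ≠ 1` of `M` with `N_G(Q) ≤ L`: then `L_σ ∩ M = 1`
and every `σ(L)'`-subgroup of `L` is conjugate into `M`. -/
theorem tau2_of_normalizer_le (hG : IsMinSimpleOddOrder G) {M L : Subgroup G} (hM : IsCoatom M)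
    (hL : IsCoatom L) (hLM : L ≠ M) {q : ℕ} [Fact q.Prime] (hqM : q ∈ sigma M) (hqL : q ∈ tau2 L)
    {Q : Subgroup G} (hQq : IsPGroup q Q) (hQ1 : Q ≠ ⊥) (hQM : Q ≤ M)
    (hNQ : normalizer (Q : Set G) ≤ L) :
    sigmaCore L ⊓ M = ⊥ ∧ ∀ A : Subgroup G, A ≤ L →
      (∀ r : ℕ, r.Prime → r ∣ Nat.card A → r ∉ sigma L) → ∃ g : G, cj g A ≤ M := by
  have hQL : Q ≤ L := le_normalizer.trans hNQ
  have hQML : Q ≤ M ⊓ L := le_inf hQM hQL
  have hQ' : IsPGroup q (Q.subgroupOf (M ⊓ L)) :=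
    hQq.comap_of_injective (M ⊓ L).subtype (M ⊓ L).subtype_injective
  obtain ⟨S, hS⟩ := hQ'.exists_le_sylow
  have hQS : Q ≤ (S : Subgroup ↥(M ⊓ L)).map (M ⊓ L).subtype := by
    intro x hx
    exact ⟨⟨x, hQML hx⟩, hS (by rw [Subgroup.mem_subgroupOf]; exact hx), rfl⟩
  obtain ⟨-, -, h3⟩ := Cfsg.Agent.S1424.result hG M hM q hqM Q hQq hQ1 hQM L hL hLM hNQ S hQS
  have hS'le : (S : Subgroup ↥(M ⊓ L)).map (M ⊓ L).subtype ≤ M ⊓ L := Subgroup.map_subtype_le _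
  have hSyl : IsSylowIn q ((S : Subgroup ↥(M ⊓ L)).map (M ⊓ L).subtype) L :=
    ⟨hS'le.trans inf_le_right, S.2.map _, h3⟩
  exact cj_le_of_tau2_other hG (hC hG) (h17 hG) (h18 hG) hM hL hLM hqM hqL hSyl
    (hS'le.trans inf_le_left)

/-- if `N_G(Q) ≤ L` for a `q`-subgroup `Q ≠ 1` of `M`, `q ∈ σ(M)`, `L ≠ M`, then `L` is not conjugate
to `M` -/
theorem nonconj_of_normalizer_le (hG : IsMinSimpleOddOrder G) {M L : Subgroup G} (hM : IsCoatom M)
    (hL : IsCoatom L) (hLM : L ≠ M) {q : ℕ} [Fact q.Prime] (hqM : q ∈ sigma M)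
    {Q : Subgroup G} (hQq : IsPGroup q Q) (hQ1 : Q ≠ ⊥) (hQM : Q ≤ M)
    (hNQ : normalizer (Q : Set G) ≤ L) : ∀ g : G, L ≠ cj g M := by
  have hQL : Q ≤ L := le_normalizer.trans hNQ
  have hQML : Q ≤ M ⊓ L := le_inf hQM hQL
  have hQ' : IsPGroup q (Q.subgroupOf (M ⊓ L)) :=
    hQq.comap_of_injective (M ⊓ L).subtype (M ⊓ L).subtype_injective
  obtain ⟨S, hS⟩ := hQ'.exists_le_sylow
  have hQS : Q ≤ (S : Subgroup ↥(M ⊓ L)).map (M ⊓ L).subtype := by
    intro x hx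
    exact ⟨⟨x, hQML hx⟩, hS (by rw [Subgroup.mem_subgroupOf]; exact hx), rfl⟩
  exact (Cfsg.Agent.S1424.result hG M hM q hqM Q hQq hQ1 hQM L hL hLM hNQ S hQS).1

/-- a maximal subgroup containing `N_G(X)` -/
theorem exists_coatom_normalizer_le (hG : IsMinSimpleOddOrder G) {X M : Subgroup G} (hM : IsCoatom M)
    (hX1 : X ≠ ⊥) (hXM : X ≤ M) : ∃ L : Subgroup G, IsCoatom L ∧ normalizer (X : Set G) ≤ L := by
  have hXtop : X ≠ ⊤ := fun h => hM.1 (top_le_iff.mp (h ▸ hXM))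
  have hN := normalizer_ne_top hG hX1 hXtop
  rcases eq_top_or_exists_le_coatom (normalizer (X : Set G)) with h | ⟨L, hL, hle⟩
  · exact absurd h hN
  · exact ⟨L, hL, hle⟩

/-- if `p ∈ σ(H)` and `H` has `p`-rank at most `2`, then so has `G`, and `p` is not an ideal prime -/
theorem not_isIdealPrime_of_pRankLE {H : Subgroup G} {p : ℕ} [Fact p.Prime] (hpH : p ∈ sigma H)
    (hrk : PRankLE p 2 ↥H) : ¬ IsIdealPrime p G := by
  intro hi
  apply hi.2.1
  obtain ⟨S, hS⟩ := exists_sylM_of_mem_sigma hpH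
  have h1 : PRankLE p 2 ↥(⊤ : Subgroup G) := by
    apply pRankLE_of_forall_cj_le _ hrk
    intro A _ hAe
    have hAp : IsPGroup p A := by
      rintro ⟨a, ha⟩
      refine ⟨1, ?_⟩
      apply Subtype.ext
      rw [pow_one, Subgroup.coe_pow, Subgroup.coe_one]
      exact hAe a ha
    obtain ⟨g, -, hg⟩ := hS.1.exists_conj_le le_top hAp
    refine ⟨g, ?_⟩
    rintro _ ⟨a, ha, rfl⟩
    apply hS.2.1
    have := hg a ha
    simpa [MulAut.conj_apply] using this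
  exact Cfsg.Agent.Lib.Helper2_PRank.pRankLE_of_injective' p 2
    (Subgroup.topEquiv (G := G)).symm.toMonoidHom (Subgroup.topEquiv (G := G)).symm.injective h1

end Cfsg.Agent.Lib.Helper76_BG13g

namespace Cfsg.Agent.Lib.Helper76_BG13e.Cfg

open scoped commutatorElement
open Subgroup Cfsg Cfsg.Agent.Lib.Helper22_Radical Cfsg.Agent.Lib.Helper22_BGTrans
  Cfsg.Agent.Lib.Helper84_RelSylow Cfsg.Agent.Lib.Helper49_Sigma
  Cfsg.Agent.Lib.Helper24_CoprimeHall Cfsg.Agent.Lib.Helper24_CoprimeAction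
  Cfsg.Agent.Lib.Helper76_BG13a Cfsg.Agent.Lib.Helper76_BG13b Cfsg.Agent.Lib.Helper76_BG13c
  Cfsg.Agent.Lib.Helper76_BG13d Cfsg.Agent.Lib.Helper76_BG13e Cfsg.Agent.Lib.Helper76_BG13g

universe u

variable {G : Type u} [Group G] [Finite G]

variable {M E P R H : Subgroup G} {p r : ℕ}

/-- `P ≤ H_σ` when `p ∈ σ(H)` -/
theorem hPσH (hG : IsMinSimpleOddOrder G) (h : Cfg M E P R H p r) (hpH : p ∈ sigma H) :
    P ≤ sigmaCore H := le_sigmaCore_of_isPGroup' hG h.hH hpH h.hPp h.hPH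

/-- `P ≤ H'` when `p ∈ σ(H)` -/
theorem hPH' (hG : IsMinSimpleOddOrder G) (h : Cfg M E P R H p r) (hpH : p ∈ sigma H) :
    P ≤ ⁅H, H⁆ := by
  have := Fact.mk h.pp
  have hP' : IsPGroup p (P.subgroupOf H) :=
    h.hPp.comap_of_injective H.subtype H.subtype_injective
  obtain ⟨S, hS⟩ := hP'.exists_le_sylow
  have h1 := Cfsg.Agent.Lib.Helper49_Alpha.sylow_le_commutator hG (hU hG) h.hH hpH S
  intro x hx
  have hx' : (⟨x, h.hPH hx⟩ : ↥H) ∈ commutator ↥H :=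
    h1 (hS (by rw [Subgroup.mem_subgroupOf]; exact hx))
  have h2 : (commutator ↥H).map H.subtype = ⁅H, H⁆ := by
    rw [commutator_def, Subgroup.map_commutator, ← MonoidHom.range_eq_map, Subgroup.range_subtype]
  rw [← h2]
  exact ⟨⟨x, h.hPH hx⟩, hx', rfl⟩

/-- `p ∣ |H'|` when `p ∈ σ(H)` -/
theorem p_dvd_H' (hG : IsMinSimpleOddOrder G) (h : Cfg M E P R H p r) (hpH : p ∈ sigma H) :
    p ∣ Nat.card ↥⁅H, H⁆ := by
  have := Subgroup.card_dvd_of_le (h.hPH' hG hpH)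
  rwa [h.hP] at this

/-- `H ≠ M` -/
theorem hHM (hG : IsMinSimpleOddOrder G) (h : Cfg M E P R H p r) : H ≠ M :=
  Cfsg.Agent.Lib.Helper39_BG134c.ne_of_nonconj (h.hnc hG)

/-- in the remaining case with `p ∈ σ(H)` of rank at most `2` in `H`, the primes of `T` are outside
`σ(H)` and have rank at most one in `H` -/
theorem hTrank (hG : IsMinSimpleOddOrder G) (h : Cfg M E P R H p r) (hpH : p ∈ sigma H)
    (hrk : PRankLE p 2 ↥H) {q : ℕ} (hq : q.Prime) (hd : q ∣ Nat.card ↥(T M P R)) :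
    q ∉ sigma H ∧ PRankLE q 1 ↥H := by
  have := Fact.mk hq
  have := Fact.mk h.pp
  have hqM := h.hTσ hq hd
  have hqσ : q ∉ sigma H := by
    intro hqH
    apply h.hp.2.2.2.1
    exact dvd_card_commutator_of_common_sigma hG h.hM h.hH (h.hnc hG) hqM hqH h.pp
      (fun hβ => hβ.1.2 hrk) (h.p_dvd_H' hG hpH)
  refine ⟨hqσ, ?_⟩
  by_contra h1
  have h2 : PRankLE q 2 ↥H := by
    by_contra h5
    exact hqσ (Cfsg.Agent.Lib.Helper49_Alpha.mem_sigma_of_mem_alpha hG (hU hG) h.hH ⟨hq, h5⟩)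
  have hq2 : q ∈ tau2 H := ⟨hq, hqσ, h2, h1⟩
  obtain ⟨x, hx⟩ := exists_prime_orderOf_dvd_card' q hd
  have hXT : zpowers (x : G) ≤ T M P R := (zpowers_le).mpr x.2
  have hXcard : Nat.card ↥(zpowers (x : G)) = q := by
    rw [Nat.card_zpowers, Subgroup.orderOf_coe, hx]
  have hXq : IsPGroup q ↥(zpowers (x : G)) := IsPGroup.of_card (n := 1) (by rw [hXcard, pow_one])
  have hX1 : zpowers (x : G) ≠ ⊥ := by
    intro h0
    rw [h0, Subgroup.card_bot] at hXcard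
    exact hq.one_lt.ne hXcard
  have hXH : zpowers (x : G) ≤ H := hXT.trans (h.hTC.trans h.hCH)
  have hXM : zpowers (x : G) ≤ M :=
    hXT.trans (h.hTC.trans (inf_le_left.trans (Cfsg.Agent.Lib.Helper47_BG1214a.sigmaCore_le M)))
  have hsolvH := isSolvable_of_isCoatom hG h.hH
  obtain ⟨EH, hEH, hXE⟩ := exists_compl_ge hsolvH (sigma_hall hG h.hH) hXH (by
    intro q' hq' hd'
    rw [hXcard] at hd'
    rw [(Nat.prime_dvd_prime_iff_eq hq' hq).mp hd']
    exact hqσ)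
  obtain ⟨A, hAE, hAe, hA2⟩ := exists_elemAb_le_compl hG h.hH hEH hq2
  obtain ⟨⟨-, hsub⟩, -, hlast⟩ := Cfsg.Agent.S1418.result hG H h.hH EH hEH q hq2 A ⟨hAE, hAe, hA2⟩
  have hXA : zpowers (x : G) ≤ A := hsub _ hXE hXcard
  have hPX : P ≤ centralizer ((zpowers (x : G) : Subgroup G) : Set G) :=
    Subgroup.le_centralizer_iff.mp (hXT.trans h.hTP)
  have hne : sigmaCore H ⊓ centralizer ((zpowers (x : G) : Subgroup G) : Set G) ≠ ⊥ := by
    intro h0
    apply h.hP1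
    rw [eq_bot_iff, ← h0]
    exact le_inf (h.hPσH hG hpH) hPX
  obtain ⟨-, huniq⟩ := hlast _ hXA hXcard hne
  obtain ⟨L, hL, hle⟩ := exists_coatom_normalizer_le hG h.hH hX1 hXH
  have hLH : L = H := huniq L hL ((Subgroup.centralizer_le_normalizer _).trans hle)
  rw [hLH] at hle
  have h0 := (tau2_of_normalizer_le hG h.hM h.hH (h.hHM hG) hqM hq2 hXq hX1 hXM hle).1
  apply h.hP1
  rw [eq_bot_iff, ← h0]
  exact le_inf (h.hPσH hG hpH) h.hPM

/-- **The rank claim**: in the remaining case `r ∈ τ₁(H)`, `p ∈ σ(H)`, the subgroup `H` has `p`-rank at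
least `3`. -/
theorem caseP5 (hG : IsMinSimpleOddOrder G) (h : Cfg M E P R H p r) (hrH : r ∈ tau1 H)
    (hpH : p ∈ sigma H) (hrk : PRankLE p 2 ↥H) : False := by
  have := Fact.mk h.pp
  have hsolvH := isSolvable_of_isCoatom hG h.hH
  have hpβ : p ∉ beta H := fun hβ => hβ.1.2 hrk
  have hni : ¬ IsIdealPrime p G := not_isIdealPrime_of_pRankLE hpH hrk
  have hpM' : ¬ p ∣ Nat.card ↥⁅M, M⁆ := h.hp.2.2.2.1
  -- a Hall `β(H)'`-subgroup `K₁` of `H` containing `T`, `R` and `P`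
  obtain ⟨K₁, hK₁, hWK₁⟩ := exists_piHall_ge (π := {q | q ∉ beta H}) hsolvH h.hTRPH (by
    intro q hq hd
    rcases h.prime_TRP hG hq hd with h1 | h1 | h1
    · exact h.hTβ hG hq h1
    · rw [h1]; exact not_mem_beta_of_not_mem_sigma hG h.hH hrH.2.1
    · rw [h1]; exact hpβ)
  have hTK₁ : T M P R ≤ K₁ := (le_sup_left.trans le_sup_left).trans hWK₁
  have hPK₁ : P ≤ K₁ := le_sup_right.trans hWK₁
  obtain ⟨hβhall, -, ⟨Hd, hHd, hnil⟩, -, -⟩ := Cfsg.Agent.S1414.result hG H h.hH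
  have hcompl : IsComplIn K₁ (piCoreOf (beta H) H) H := isComplIn_of_piHall hβhall hK₁
  have hsup : H ≤ piCoreOf (beta H) H ⊔ K₁ := by
    intro m hm
    obtain ⟨a, ha, b, hb, rfl⟩ := hcompl.2.2.2 m hm
    exact mul_mem (mem_sup_right ha) (mem_sup_left hb)
  have hpK₁ : p ∣ Nat.card ↥⁅K₁, K₁⁆ :=
    prime_dvd_card_commutator_of_le_sup (piCoreOf_le _ _) (le_normalizer_piCoreOf _ _) hK₁.1 hsup
      h.pp (fun hd => hpβ (piCoreOf_primes (beta H) H p h.pp hd)) (h.p_dvd_H' hG hpH)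
  -- `K = K₁ ∩ H'` is nilpotent and normal in `K₁`
  have hsolv' : Group.IsSolvable ↥⁅H, H⁆ :=
    isSolvable_of_le hG h.hH (Subgroup.commutator_le_self H)
  have hKnil : Group.IsNilpotent ↥(K₁ ⊓ ⁅H, H⁆) :=
    isNilpotent_of_le_piHall hsolv' ((isPiHallOf_iff _ _ _).mp hHd) hnil inf_le_right (by
      intro q hq hd
      exact ⟨hq, hK₁.2.1 q hq (hd.trans (Subgroup.card_dvd_of_le inf_le_left))⟩)
  have hH'n : H ≤ normalizer ((⁅H, H⁆ : Subgroup G) : Set G) :=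
    Cfsg.Agent.Lib.Helper22_Basic.le_normalizer_commutator_left H H
  have hK₁N : K₁ ≤ normalizer ((K₁ ⊓ ⁅H, H⁆ : Subgroup G) : Set G) :=
    (le_inf le_normalizer (hK₁.1.trans hH'n)).trans Subgroup.inf_normalizer_le_normalizer_inf
  -- a subgroup `X` of prime order `q` of `T`
  obtain ⟨q, hq, hd⟩ := h.exists_prime_dvd_T
  have := Fact.mk hq
  obtain ⟨hqσ, hq1⟩ := h.hTrank hG hpH hrk hq hd
  have hqM := h.hTσ hq hd
  obtain ⟨x, hx⟩ := exists_prime_orderOf_dvd_card' q hd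
  have hXT : zpowers (x : G) ≤ T M P R := (zpowers_le).mpr x.2
  have hXcard : Nat.card ↥(zpowers (x : G)) = q := by
    rw [Nat.card_zpowers, Subgroup.orderOf_coe, hx]
  have hXq : IsPGroup q ↥(zpowers (x : G)) := IsPGroup.of_card (n := 1) (by rw [hXcard, pow_one])
  have hX1 : zpowers (x : G) ≠ ⊥ := by
    intro h0
    rw [h0, Subgroup.card_bot] at hXcard
    exact hq.one_lt.ne hXcard
  have hXM : zpowers (x : G) ≤ M :=
    hXT.trans (h.hTC.trans (inf_le_left.trans (Cfsg.Agent.Lib.Helper47_BG1214a.sigmaCore_le M)))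
  -- `K₁` normalizes `X`
  obtain ⟨Q, hQK, hQq, hQmax, hQN⟩ := exists_sylow_of_isNilpotent hKnil q
  have hXQ : zpowers (x : G) ≤ Q := hQmax _ (le_inf (hXT.trans hTK₁) (hXT.trans h.hTH')) hXq
  have hQH : Q ≤ H := hQK.trans (inf_le_left.trans hK₁.1)
  have hQcyc : IsCyclic ↥Q := by
    have hr' : PRankLE q 1 ↥Q :=
      Cfsg.Agent.Lib.Helper2_PRank.pRankLE_of_injective' q 1 (Subgroup.inclusion hQH)
        (Subgroup.inclusion_injective hQH) hq1
    exact Cfsg.Agent.Lib.Helper29_BG12a.isCyclic_of_pRankLE_one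
      (Cfsg.Agent.Lib.Helper79_BG141.odd_prime hG hd) hQq hr'
  have hK₁X : K₁ ≤ normalizer ((zpowers (x : G) : Subgroup G) : Set G) :=
    hK₁N.trans (hQN.trans
      (Cfsg.Agent.Lib.Helper73_BG12.normalizer_le_normalizer_of_isCyclic hQcyc hXQ))
  -- a maximal subgroup `L` containing `N_G(X)`
  obtain ⟨L, hL, hNL⟩ := exists_coatom_normalizer_le hG h.hM hX1 hXM
  have hK₁L : K₁ ≤ L := hK₁X.trans hNL
  have hpL : p ∣ Nat.card ↥⁅L, L⁆ :=
    hpK₁.trans (Subgroup.card_dvd_of_le (Subgroup.commutator_mono hK₁L hK₁L))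
  by_cases hLM : L = M
  · exact hpM' (hLM ▸ hpL)
  have hncL := nonconj_of_normalizer_le hG h.hM hL hLM hqM hXq hX1 hXM hNL
  rcases mem_sigma_or_tau2 hG hL hXq hX1 hNL with hqL | hqL
  · exact hpM' (dvd_card_commutator_of_common_sigma hG h.hM hL hncL hqM hqL h.pp
      (fun hβ => hni hβ.2) hpL)
  · obtain ⟨h0, hconj⟩ := tau2_of_normalizer_le hG h.hM hL hLM hqM hqL hXq hX1 hXM hNL
    have hpσL : p ∉ sigma L := by
      intro hpL'
      apply h.hP1
      rw [eq_bot_iff, ← h0]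
      exact le_inf (le_sigmaCore_of_isPGroup' hG hL hpL' h.hPp (hPK₁.trans hK₁L)) h.hPM
    have hsolvL := isSolvable_of_isCoatom hG hL
    obtain ⟨EL, hEL, -⟩ := exists_compl_ge hsolvL (sigma_hall hG hL)
      (bot_le : (⊥ : Subgroup G) ≤ L) (by
        intro q' hq' hd'
        rw [Subgroup.card_bot] at hd'
        exact absurd (Nat.dvd_one.mp hd') hq'.ne_one)
    have hsupL : L ≤ sigmaCore L ⊔ EL := by
      intro m hm
      obtain ⟨a, ha, b, hb, rfl⟩ := hEL.2.2.2 m hm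
      exact mul_mem (mem_sup_right ha) (mem_sup_left hb)
    have hpEL : p ∣ Nat.card ↥⁅EL, EL⁆ :=
      prime_dvd_card_commutator_of_le_sup (Cfsg.Agent.Lib.Helper47_BG1214a.sigmaCore_le L)
        (le_normalizer_sigmaCore' L) hEL.1 hsupL h.pp
        (fun hd => hpσL (mem_sigma_of_dvd_card_le_sigmaCore le_rfl h.pp hd)) hpL
    obtain ⟨g, hg⟩ := hconj EL hEL.1 (fun q' hq' hd' =>
      (piHall_of_isComplIn (sigma_hall hG hL) hEL).2.1 q' hq' hd')
    apply hpM'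
    have h5 : Nat.card ↥⁅cj g EL, cj g EL⁆ = Nat.card ↥⁅EL, EL⁆ := card_commutator_cj g EL
    rw [← h5] at hpEL
    exact hpEL.trans (Subgroup.card_dvd_of_le (Subgroup.commutator_mono hg hg))

end Cfsg.Agent.Lib.Helper76_BG13e.Cfg

namespace Cfsg.Agent.Lib.Helper76_BG13g

open Subgroup Cfsg Cfsg.Agent.Lib.Helper76_BG13e

universe u

variable {G : Type u} [Group G] [Finite G]

/-- **The rank claim of Theorem 13.4**: helper39's `HRank G`. -/
theorem hRank (hG : IsMinSimpleOddOrder G) : Cfsg.Agent.Lib.Helper39_BG134c.HRank G := by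
  intro M E P R p r hA hNC H hH hNP hpH hrH _ hrk
  by_cases hrp : r = p
  · exact hrH.2.1 (hrp ▸ hpH)
  have h : Cfg M E P R H p r :=
    ⟨hA.hM, hA.hE, hA.hp, hA.hPE, hA.hP, hA.hRE, hA.hRP, hA.hR, hA.hr, hrp, hNC, hH, hNP⟩
  exact h.caseP5 hG hrH hpH hrk

end Cfsg.Agent.Lib.Helper76_BG13g
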