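/-
Helper library (helper76): a `q`-group acting on a `q'`-group `N`.  If every element of the acting
group fixes some Sylow `p`-subgroup of `N` pointwise, then the whole acting group fixes a common
Sylow `p`-subgroup of `N` pointwise.
-/
import Mathlib.GroupTheory.Sylow
import Mathlib.GroupTheory.Perm.Cycle.Type

set_option autoImplicit false

namespace Cfsg.Agent.Lib.Helper76_Coprime

open scoped Pointwise

variable {N : Type*} [Group N]

theorem mem_conj_smul_sylow_iff {p : ℕ} (g : N) (P : Sylow p N) (x : N) :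
    x ∈ ((g • P : Sylow p N) : Subgroup N) ↔ ∃ s ∈ (P : Subgroup N), x = g * s * g⁻¹ := by
  rw [Sylow.coe_subgroup_smul, Subgroup.mem_smul_pointwise_iff_exists]
  constructor
  · rintro ⟨s, hs, rfl⟩
    exact ⟨s, hs, by simp [MulAut.smul_def]⟩
  · rintro ⟨s, hs, rfl⟩
    exact ⟨s, hs, by simp [MulAut.smul_def]⟩

theorem mem_pointwise_smul_sylow_iff {p : ℕ} {A : Type*} [Group A] [MulDistribMulAction A N]
    (a : A) (P : Sylow p N) (x : N) :
    x ∈ ((a • P : Sylow p N) : Subgroup N) ↔ ∃ s ∈ (P : Subgroup N), x = a • s := by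
  rw [Sylow.pointwise_smul_def, Subgroup.mem_smul_pointwise_iff_exists]
  constructor
  · rintro ⟨s, hs, rfl⟩
    exact ⟨s, hs, rfl⟩
  · rintro ⟨s, hs, rfl⟩
    exact ⟨s, hs, rfl⟩

/-- Coprime action of a `q`-group: a common pointwise-fixed Sylow `p`-subgroup. -/
theorem exists_sylow_fixed_pointwise [Finite N] {A : Type*} [Group A] [MulDistribMulAction A N]
    (q : ℕ) [hq : Fact q.Prime] (hA : IsPGroup q A) (hN : ¬ q ∣ Nat.card N)
    (p : ℕ) [Fact p.Prime]
    (h : ∀ a : A, ∃ S : Sylow p N, ∀ s ∈ (S : Subgroup N), a • s = s) :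
    ∃ S₀ : Sylow p N, ∀ a : A, ∀ s ∈ (S₀ : Subgroup N), a • s = s := by
  classical
  -- (i) an invariant Sylow subgroup
  have hcard : ¬ q ∣ Nat.card (Sylow p N) := by
    obtain ⟨S⟩ : Nonempty (Sylow p N) := Sylow.nonempty
    rw [Sylow.card_eq_index_normalizer S]
    intro hdvd
    exact hN (hdvd.trans (Subgroup.index_dvd_card _))
  obtain ⟨S₀, hS₀⟩ := hA.nonempty_fixed_point_of_prime_not_dvd_card (Sylow p N) hcard
  have hS₀' : ∀ a : A, a • S₀ = S₀ := fun a => hS₀ a
  refine ⟨S₀, fun a => ?_⟩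
  obtain ⟨S, hS⟩ := h a
  -- the set T of elements conjugating S₀ to S
  let T := {n : N // n • S₀ = S}
  have key : ∀ (b : A), (∀ s ∈ (S : Subgroup N), b • s = s) → b • S₀ = S₀ →
      ∀ n : N, n • S₀ = S → (b • n) • S₀ = S := by
    intro b hb hbS₀ n hn
    have hle : (((b • n) • S₀ : Sylow p N) : Subgroup N) ≤ S := by
      intro x hx
      obtain ⟨s, hs, rfl⟩ := (mem_conj_smul_sylow_iff _ _ _).mp hx
      -- s' = b⁻¹ • s ∈ S₀
      have hs' : b⁻¹ • s ∈ (S₀ : Subgroup N) := by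
        have h1 : b⁻¹ • S₀ = S₀ := by
          rw [inv_smul_eq_iff, hbS₀]
        have : b⁻¹ • s ∈ ((b⁻¹ • S₀ : Sylow p N) : Subgroup N) :=
          (mem_pointwise_smul_sylow_iff _ _ _).mpr ⟨s, hs, rfl⟩
        rwa [h1] at this
      have hy : n * (b⁻¹ • s) * n⁻¹ ∈ (S : Subgroup N) := by
        rw [← hn]
        exact (mem_conj_smul_sylow_iff _ _ _).mpr ⟨_, hs', rfl⟩
      have hfix := hb _ hy
      have : b • (n * (b⁻¹ • s) * n⁻¹) = b • n * s * (b • n)⁻¹ := by
        rw [smul_mul', smul_mul', smul_inv', smul_inv_smul]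
      rw [← this, hfix]
      exact hy
    have := ((b • n) • S₀).3 S.2 hle
    exact Sylow.ext this.symm
  have hbinv : (∀ s ∈ (S : Subgroup N), a⁻¹ • s = s) := by
    intro s hs
    rw [inv_smul_eq_iff, hS s hs]
  have hinvS₀ : a⁻¹ • S₀ = S₀ := by rw [inv_smul_eq_iff, hS₀' a]
  let σ : Equiv.Perm T :=
    { toFun := fun n => ⟨a • n.1, key a hS (hS₀' a) n.1 n.2⟩
      invFun := fun n => ⟨a⁻¹ • n.1, key a⁻¹ hbinv hinvS₀ n.1 n.2⟩
      left_inv := fun n => Subtype.ext (inv_smul_smul a n.1)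
      right_inv := fun n => Subtype.ext (smul_inv_smul a n.1) }
  have hσpow : ∀ (m : ℕ) (n : T), ((σ ^ m) n).1 = a ^ m • n.1 := by
    intro m
    induction m with
    | zero => intro n; simp
    | succ m ih =>
      intro n
      rw [pow_succ', Equiv.Perm.mul_apply, pow_succ', mul_smul, ← ih n]
      rfl
  obtain ⟨k, hk⟩ := hA a
  have hσ : σ ^ q ^ k = 1 := by
    ext n
    rw [hσpow, hk, one_smul]
    rfl
  -- cardinality of T
  obtain ⟨n₀, hn₀⟩ := MulAction.exists_smul_eq N S₀ S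
  have hTcard : Nat.card T = Nat.card (MulAction.stabilizer N S₀) := by
    apply Nat.card_congr
    refine ⟨fun t => ⟨n₀⁻¹ * t.1, ?_⟩, fun g => ⟨n₀ * g.1, ?_⟩, ?_, ?_⟩
    · rw [MulAction.mem_stabilizer_iff, mul_smul, t.2, ← hn₀, inv_smul_smul]
    · rw [mul_smul, MulAction.mem_stabilizer_iff.mp g.2, hn₀]
    · intro t; apply Subtype.ext; simp
    · intro g; apply Subtype.ext; simp
  have hTfin : Finite T := inferInstance
  let _ : Fintype T := Fintype.ofFinite T
  have hTq : ¬ q ∣ Fintype.card T := by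
    rw [← Nat.card_eq_fintype_card, hTcard]
    intro hdvd
    exact hN (hdvd.trans (Subgroup.card_subgroup_dvd_card _))
  obtain ⟨c, hc⟩ := Equiv.Perm.exists_fixed_point_of_prime hTq hσ
  have hc1 : a • c.1 = c.1 := congrArg Subtype.val hc
  intro s hs
  have hx : c.1 * s * c.1⁻¹ ∈ (S : Subgroup N) := by
    have hx' : c.1 * s * c.1⁻¹ ∈ ((c.1 • S₀ : Sylow p N) : Subgroup N) :=
      (mem_conj_smul_sylow_iff _ _ _).mpr ⟨s, hs, rfl⟩
    have hc2 : c.1 • S₀ = S := c.2
    rwa [hc2] at hx'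
  have hfix := hS _ hx
  rw [smul_mul', smul_mul', smul_inv', hc1] at hfix
  have := mul_right_cancel hfix
  exact mul_left_cancel this

end Cfsg.Agent.Lib.Helper76_Coprime
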