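import Mathlib
import Cfsg.Agent.Lib.Helper3_CharEigen

/-!
# Determinant and eigenvalue multiplicities of `ρ g` (helper76)

* `det_eq_prod_eig`: the determinant of a semisimple endomorphism is the product of its
  eigenvalues with multiplicities;
* `det_rho_eq_prod`: the same for `ρ g`, `ρ` a representation of a finite group;
* `sum_char_pow_mul`: the multiplicity of an eigenvalue `μ₀` of `ρ g` through the character values
  on the powers of `g`.
-/

set_option autoImplicit false
set_option linter.unusedSectionVars false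

namespace Cfsg.Agent.Lib.Helper76_EigenDet

open Module Cfsg.Agent.Lib.Helper3_CharEigen

section semisimple

variable {V : Type*} [AddCommGroup V] [Module ℂ V] [FiniteDimensional ℂ V]

theorem det_eq_prod_eig {f : Module.End ℂ V} (hf : f.IsSemisimple) :
    LinearMap.det f = ∏ μ ∈ eigSet f, μ ^ Module.finrank ℂ (f.eigenspace μ) := by
  classical
  have hint : DirectSum.IsInternal (fun μ : eigSet f => f.eigenspace (μ : ℂ)) := by
    convert! DirectSum.isInternal_ne_bot_iff.mpr (isInternal_eigenspace hf) <;> simp [eigSet]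
  let b : ∀ μ : eigSet f,
      Module.Basis (Fin (Module.finrank ℂ (f.eigenspace (μ : ℂ)))) ℂ (f.eigenspace (μ : ℂ)) :=
    fun μ => Module.finBasis ℂ _
  have hB : ∀ i, f (hint.collectedBasis b i) = ((i.1 : eigSet f) : ℂ) • hint.collectedBasis b i := by
    intro i
    rw [hint.collectedBasis_coe b]
    exact Module.End.mem_eigenspace_iff.mp (b i.1 i.2).2
  rw [← LinearMap.det_toMatrix (hint.collectedBasis b)]
  have hmat : LinearMap.toMatrix (hint.collectedBasis b) (hint.collectedBasis b) f =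
      Matrix.diagonal (fun i => ((i.1 : eigSet f) : ℂ)) := by
    ext i j
    rw [LinearMap.toMatrix_apply, hB, map_smul, Module.Basis.repr_self, Finsupp.smul_apply,
      Finsupp.single_apply, Matrix.diagonal_apply]
    by_cases h : i = j
    · subst h; simp
    · have h' : ¬ j = i := fun h' => h h'.symm
      simp [h, h']
  rw [hmat, Matrix.det_diagonal, Fintype.prod_sigma]
  simp only [Finset.prod_const, Finset.card_univ, Fintype.card_fin]
  exact Finset.prod_coe_sort (eigSet f) (fun μ => μ ^ Module.finrank ℂ (f.eigenspace μ))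

end semisimple

section rep

variable {G : Type*} [Group G] [Finite G] {V : Type*} [AddCommGroup V] [Module ℂ V]
  [FiniteDimensional ℂ V] (ρ : Representation ℂ G V)

theorem det_rho_eq_prod (g : G) : LinearMap.det (ρ g) =
    ∏ μ ∈ eigSet (ρ g), μ ^ Module.finrank ℂ (Module.End.eigenspace (ρ g) μ) :=
  det_eq_prod_eig (rho_isSemisimple ρ g)

theorem geom_sum_eq_ite {ζ : ℂ} {N : ℕ} (hζ : ζ ^ N = 1) :
    ∑ j ∈ Finset.range N, ζ ^ j = if ζ = 1 then (N : ℂ) else 0 := by
  split_ifs with h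
  · subst h
    simp
  · have h1 : (ζ - 1) * ∑ i ∈ Finset.range N, ζ ^ i = ζ ^ N - 1 := mul_geom_sum ζ N
    rw [hζ, sub_self] at h1
    exact (mul_eq_zero.mp h1).resolve_left (sub_ne_zero.mpr h)

/-- Multiplicity of the eigenvalue `μ₀` of `ρ g` in terms of the character values on powers. -/
theorem sum_char_pow_mul (g : G) {μ₀ : ℂ} (hμ₀ : μ₀ ∈ eigSet (ρ g)) :
    ∑ j ∈ Finset.range (orderOf g), ρ.character (g ^ j) * (μ₀ ^ (orderOf g - 1)) ^ j =
      (orderOf g : ℂ) * (Module.finrank ℂ (Module.End.eigenspace (ρ g) μ₀) : ℂ) := by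
  classical
  have hN : 0 < orderOf g := orderOf_pos g
  have hμ₀N : μ₀ ^ orderOf g = 1 := eig_pow_orderOf ρ hμ₀
  have hinv : μ₀ * μ₀ ^ (orderOf g - 1) = 1 := by
    rw [← pow_succ', Nat.sub_add_cancel hN, hμ₀N]
  simp_rw [char_pow_eq_sum ρ g, Finset.sum_mul]
  rw [Finset.sum_comm]
  have hterm : ∀ μ ∈ eigSet (ρ g), ∑ j ∈ Finset.range (orderOf g),
      (Module.finrank ℂ (Module.End.eigenspace (ρ g) μ) : ℂ) * μ ^ j * (μ₀ ^ (orderOf g - 1)) ^ j =
      if μ = μ₀ then (orderOf g : ℂ) * (Module.finrank ℂ (Module.End.eigenspace (ρ g) μ₀) : ℂ)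
        else 0 := by
    intro μ hμ
    have hμN : μ ^ orderOf g = 1 := eig_pow_orderOf ρ hμ
    have hζ : (μ * μ₀ ^ (orderOf g - 1)) ^ orderOf g = 1 := by
      rw [mul_pow, hμN, one_mul, ← pow_mul, mul_comm, pow_mul, hμ₀N, one_pow]
    have h1 : ∀ j, (Module.finrank ℂ (Module.End.eigenspace (ρ g) μ) : ℂ) * μ ^ j *
        (μ₀ ^ (orderOf g - 1)) ^ j =
        (Module.finrank ℂ (Module.End.eigenspace (ρ g) μ) : ℂ) * (μ * μ₀ ^ (orderOf g - 1)) ^ j := by
      intro j
      rw [mul_pow, mul_assoc]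
    simp_rw [h1]
    rw [← Finset.mul_sum, geom_sum_eq_ite hζ]
    have hiff : μ * μ₀ ^ (orderOf g - 1) = 1 ↔ μ = μ₀ := by
      constructor
      · intro h
        have h2 : μ * μ₀ ^ (orderOf g - 1) * μ₀ = μ₀ := by rw [h, one_mul]
        rw [mul_assoc, mul_comm (μ₀ ^ (orderOf g - 1)) μ₀, hinv, mul_one] at h2
        exact h2
      · intro h
        rw [h, hinv]
    by_cases h : μ = μ₀
    · rw [if_pos (hiff.mpr h), if_pos h, h, mul_comm]
    · rw [if_neg (fun h' => h (hiff.mp h')), if_neg h, mul_zero]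
  rw [Finset.sum_congr rfl hterm, Finset.sum_ite_eq' (eigSet (ρ g)) μ₀, if_pos hμ₀]

end rep

end Cfsg.Agent.Lib.Helper76_EigenDet
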