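import Mathlib
import Cfsg.Agent.Lib.Helper76_SchurBound

/-!
# The degree of the field of values of a character via its power-map stabilizer (helper76)

For a character `ψ` of a finite group `Q` with `|Q| ∣ N`, the field `ℚ(ψ)` has degree
`φ(N) / #{u ∈ (ℤ/N)ˣ | ψ(g ^ u) = ψ(g) for all g}`.
-/

set_option autoImplicit false
set_option linter.unusedSectionVars false

namespace Cfsg.Agent.Lib.Helper76_FieldDeg

open Cfsg.Agent.Lib.Helper3_CharEigen Cfsg.Agent.Lib.Helper3_CharGaloisAct
  Cfsg.Agent.Lib.Helper76_SchurBound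

/-- The units `u` of `ℤ/N` with `ψ (g ^ u) = ψ g` for all `g`. -/
def powStab (N : ℕ) {Q : Type*} [Group Q] (ψ : Q → ℂ) : Set (ZMod N)ˣ :=
  {u | ∀ g : Q, ψ (g ^ (u : ZMod N).val) = ψ g}

theorem mem_powStab {N : ℕ} {Q : Type*} [Group Q] {ψ : Q → ℂ} {u : (ZMod N)ˣ} :
    u ∈ powStab N ψ ↔ ∀ g : Q, ψ (g ^ (u : ZMod N).val) = ψ g := Iff.rfl

variable {Q : Type*} [Group Q] [Finite Q]

theorem aut_apply_eq_pow (N : ℕ) [NeZero N] (σ : cyc N ≃ₐ[ℚ] cyc N) (x : cyc N) (hx : x ^ N = 1) :
    σ x = x ^ ((IsCyclotomicExtension.autEquivPow (cyc N)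
      (Polynomial.cyclotomic.irreducible_rat (NeZero.pos N)) σ : (ZMod N)ˣ) : ZMod N).val := by
  have hζ := IsCyclotomicExtension.zeta_spec N ℚ (cyc N)
  have h1 : (IsCyclotomicExtension.autEquivPow (cyc N)
      (Polynomial.cyclotomic.irreducible_rat (NeZero.pos N)) σ : (ZMod N)ˣ) = hζ.autToPow ℚ σ := rfl
  rw [h1]
  obtain ⟨i, -, rfl⟩ := hζ.eq_pow_of_pow_eq_one hx
  rw [map_pow, ← hζ.autToPow_spec ℚ σ, ← pow_mul, ← pow_mul, mul_comm]

theorem finrank_mul_card_powStab (N : ℕ) [NeZero N] (hN : Nat.card Q ∣ N) {ψ : Q → ℂ}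
    (hψ : Cfsg.IsCharacter Q ψ) :
    Module.finrank ℚ (IntermediateField.adjoin ℚ (Set.range ψ)) * Nat.card (powStab N ψ) =
      Nat.totient N := by
  classical
  obtain ⟨n, ρ, rfl⟩ := hψ
  have hirr : Irreducible (Polynomial.cyclotomic N ℚ) :=
    Polynomial.cyclotomic.irreducible_rat (NeZero.pos N)
  set L' : IntermediateField ℚ (cyc N) :=
    IntermediateField.adjoin ℚ (Set.range (charKN ρ N hN)) with hL'
  -- the image of `L'` in `ℂ` is `ℚ(ψ)`
  set f : cyc N →ₐ[ℚ] ℂ := (algebraMap (cyc N) ℂ).toRatAlgHom with hf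
  have hfx : ∀ x : cyc N, f x = (x : ℂ) := fun x => rfl
  have h1 : L'.map f = IntermediateField.adjoin ℚ (Set.range ρ.character) := by
    rw [hL', IntermediateField.adjoin_map]
    congr 1
    ext z
    constructor
    · rintro ⟨_, ⟨g, rfl⟩, rfl⟩
      exact ⟨g, ((hfx _).trans (coe_charKN ρ N hN g)).symm⟩
    · rintro ⟨g, rfl⟩
      exact ⟨charKN ρ N hN g, ⟨g, rfl⟩, (hfx _).trans (coe_charKN ρ N hN g)⟩
  have h2 : Module.finrank ℚ (L'.map f) = Module.finrank ℚ L' :=
    (IntermediateField.equivMap L' f).toLinearEquiv.finrank_eq.symm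
  have h3 : Module.finrank ℚ L' * Module.finrank L' (cyc N) = Module.finrank ℚ (cyc N) :=
    Module.finrank_mul_finrank ℚ L' (cyc N)
  have h4 : Module.finrank ℚ (cyc N) = Nat.totient N :=
    IsCyclotomicExtension.finrank (cyc N) hirr
  have h5 : Nat.card L'.fixingSubgroup = Module.finrank L' (cyc N) :=
    IsGalois.card_fixingSubgroup_eq_finrank L'
  -- fixing subgroup ↔ power stabilizer
  have h6 : Nat.card L'.fixingSubgroup = Nat.card (powStab N ρ.character) := by
    refine Nat.card_congr ((IsCyclotomicExtension.autEquivPow (cyc N) hirr).toEquiv.subtypeEquiv ?_)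
    intro σ
    have hσ : ∀ x : cyc N, x ^ N = 1 → σ x = x ^ ((IsCyclotomicExtension.autEquivPow (cyc N)
        hirr σ : (ZMod N)ˣ) : ZMod N).val := fun x hx => aut_apply_eq_pow N σ x hx
    have hval : ∀ g : Q, ((σ (charKN ρ N hN g) : cyc N) : ℂ) =
        ρ.character (g ^ ((IsCyclotomicExtension.autEquivPow (cyc N)
        hirr σ : (ZMod N)ˣ) : ZMod N).val) := fun g => coe_aut_charKN ρ N hN g σ _ hσ
    constructor
    · intro h
      rw [MulEquiv.toEquiv_eq_coe, EquivLike.coe_coe, mem_powStab]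
      intro g
      rw [← hval g, ← coe_charKN ρ N hN g]
      congr 1
      have := (IntermediateField.mem_fixingSubgroup_iff L' σ).mp h (charKN ρ N hN g)
        (IntermediateField.subset_adjoin _ _ ⟨g, rfl⟩)
      exact this
    · intro h
      rw [MulEquiv.toEquiv_eq_coe, EquivLike.coe_coe, mem_powStab] at h
      rw [IntermediateField.mem_fixingSubgroup_iff]
      intro y hy
      have hgen : ∀ g : Q, σ (charKN ρ N hN g) = charKN ρ N hN g := by
        intro g
        apply Subtype.ext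
        rw [hval g, h g, coe_charKN]
      induction hy using IntermediateField.adjoin_induction with
      | mem x hx =>
        obtain ⟨g, rfl⟩ := hx
        exact hgen g
      | algebraMap q => exact σ.commutes q
      | add x y _ _ hx hy => rw [map_add, hx, hy]
      | inv x _ hx => rw [map_inv₀, hx]
      | mul x y _ _ hx hy => rw [map_mul, hx, hy]
  rw [← h1, h2, ← h6, h5, h3, h4]

end Cfsg.Agent.Lib.Helper76_FieldDeg
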