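import Mathlib

/-!
# The group `(D^q × C_q × C_q) ⋊ C_q` (helper76)

`GX q D` has elements `(f, a, b, c)` with `f : ZMod q → D`, `a b c : ZMod q` and product
`(f,a,b,c)(f',a',b',c') = (i ↦ f i * f' (i - a), a + a', b + b', c + c' + a * b')`.
It is the fibre product of the regular wreath product `D ≀ C_q` with the Heisenberg group of order
`q^3` over `C_q`.
-/

set_option autoImplicit false
set_option linter.unusedSectionVars false
set_option linter.unusedVariables false

namespace Cfsg.Agent.Lib.Helper76_GagolaGrp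

universe u

/-- Elements `(f, a, b, c)`. -/
@[ext] structure GX (q : ℕ) (D : Type u) where
  /-- base component -/
  f : ZMod q → D
  /-- top component -/
  a : ZMod q
  /-- second Heisenberg coordinate -/
  b : ZMod q
  /-- central Heisenberg coordinate -/
  c : ZMod q

variable {q : ℕ} {D : Type u} [Group D]

instance : Mul (GX q D) :=
  ⟨fun x y => ⟨fun i => x.f i * y.f (i - x.a), x.a + y.a, x.b + y.b, x.c + y.c + x.a * y.b⟩⟩

instance : One (GX q D) := ⟨⟨fun _ => 1, 0, 0, 0⟩⟩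

instance : Inv (GX q D) :=
  ⟨fun x => ⟨fun i => (x.f (i + x.a))⁻¹, -x.a, -x.b, -x.c + x.a * x.b⟩⟩

@[simp] theorem mul_f (x y : GX q D) (i : ZMod q) : (x * y).f i = x.f i * y.f (i - x.a) := rfl
@[simp] theorem mul_a (x y : GX q D) : (x * y).a = x.a + y.a := rfl
@[simp] theorem mul_b (x y : GX q D) : (x * y).b = x.b + y.b := rfl
@[simp] theorem mul_c (x y : GX q D) : (x * y).c = x.c + y.c + x.a * y.b := rfl
@[simp] theorem one_f (i : ZMod q) : (1 : GX q D).f i = 1 := rfl
@[simp] theorem one_a : (1 : GX q D).a = 0 := rfl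
@[simp] theorem one_b : (1 : GX q D).b = 0 := rfl
@[simp] theorem one_c : (1 : GX q D).c = 0 := rfl
@[simp] theorem inv_f (x : GX q D) (i : ZMod q) : (x⁻¹).f i = (x.f (i + x.a))⁻¹ := rfl
@[simp] theorem inv_a (x : GX q D) : (x⁻¹).a = -x.a := rfl
@[simp] theorem inv_b (x : GX q D) : (x⁻¹).b = -x.b := rfl
@[simp] theorem inv_c (x : GX q D) : (x⁻¹).c = -x.c + x.a * x.b := rfl

instance : Group (GX q D) where
  mul_assoc x y z := by
    ext
    · simp [mul_assoc, sub_sub]
    · simp [add_assoc]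
    · simp [add_assoc]
    · simp; ring
  one_mul x := by ext <;> simp
  mul_one x := by ext <;> simp
  inv_mul_cancel x := by
    ext
    · simp
    · simp
    · simp
    · simp

/-- The underlying product decomposition. -/
def equivProd (q : ℕ) (D : Type u) : GX q D ≃ (ZMod q → D) × (ZMod q × ZMod q × ZMod q) where
  toFun x := (x.f, x.a, x.b, x.c)
  invFun p := ⟨p.1, p.2.1, p.2.2.1, p.2.2.2⟩
  left_inv _ := rfl
  right_inv _ := rfl

instance [NeZero q] [Finite D] : Finite (GX q D) := Finite.of_equiv _ (equivProd q D).symm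

theorem card_GX [NeZero q] [Finite D] : Nat.card (GX q D) = Nat.card D ^ q * q ^ 3 := by
  rw [Nat.card_congr (equivProd q D), Nat.card_prod, Nat.card_prod, Nat.card_prod, Nat.card_fun,
    Nat.card_zmod]
  ring

/-- Projection onto the top group. -/
def aHom (q : ℕ) (D : Type u) [Group D] : GX q D →* Multiplicative (ZMod q) where
  toFun x := Multiplicative.ofAdd x.a
  map_one' := rfl
  map_mul' _ _ := rfl

/-- The base group `D^q × C_q × C_q`. -/
def baseA (q : ℕ) (D : Type u) [Group D] : Subgroup (GX q D) := (aHom q D).ker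

instance baseA_normal : (baseA q D).Normal := MonoidHom.normal_ker _

theorem mem_baseA (x : GX q D) : x ∈ baseA q D ↔ x.a = 0 := by
  unfold baseA
  rw [MonoidHom.mem_ker]
  exact Iff.rfl

/-- The subgroup `Z(D)^q × 0 × C_q`. -/
def Zst (q : ℕ) (D : Type u) [Group D] : Subgroup (GX q D) where
  carrier := {x | x.a = 0 ∧ x.b = 0 ∧ ∀ i, x.f i ∈ Subgroup.center D}
  one_mem' := ⟨rfl, rfl, fun _ => Subgroup.one_mem _⟩
  mul_mem' := by
    rintro x y ⟨hxa, hxb, hxf⟩ ⟨hya, hyb, hyf⟩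
    refine ⟨by simp [hxa, hya], by simp [hxb, hyb], fun i => ?_⟩
    rw [mul_f]
    exact Subgroup.mul_mem _ (hxf i) (hyf _)
  inv_mem' := by
    rintro x ⟨hxa, hxb, hxf⟩
    refine ⟨by simp [hxa], by simp [hxb], fun i => ?_⟩
    rw [inv_f]
    exact Subgroup.inv_mem _ (hxf _)

theorem mem_Zst (x : GX q D) :
    x ∈ Zst q D ↔ x.a = 0 ∧ x.b = 0 ∧ ∀ i, x.f i ∈ Subgroup.center D := Iff.rfl

theorem Zst_le_baseA : Zst q D ≤ baseA q D := fun x hx => (mem_baseA x).mpr hx.1

/-- The subgroup `b = 0`, isomorphic to `(D ≀ C_q) × C_q`. -/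
def X1 (q : ℕ) (D : Type u) [Group D] : Subgroup (GX q D) where
  carrier := {x | x.b = 0}
  one_mem' := rfl
  mul_mem' := by
    intro x y hx hy
    show (x * y).b = 0
    rw [mul_b, hx, hy, add_zero]
  inv_mem' := by
    intro x hx
    show (x⁻¹).b = 0
    rw [inv_b, hx, neg_zero]

theorem mem_X1 (x : GX q D) : x ∈ X1 q D ↔ x.b = 0 := Iff.rfl

theorem Zst_le_X1 : Zst q D ≤ X1 q D := fun x hx => hx.2.1

/-- Conjugation of an element of the base group. -/
theorem conj_f {x n : GX q D} (hn : n.a = 0) (i : ZMod q) :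
    (x * n * x⁻¹).f i = x.f i * n.f (i - x.a) * (x.f i)⁻¹ := by
  simp [hn]

theorem conj_a {x n : GX q D} (hn : n.a = 0) : (x * n * x⁻¹).a = 0 := by
  simp [hn]

theorem conj_b (x n : GX q D) : (x * n * x⁻¹).b = n.b := by
  simp

theorem conj_c {x n : GX q D} (hn : n.a = 0) : (x * n * x⁻¹).c = n.c + x.a * n.b := by
  simp [hn]
  ring

/-- Commutator of an element of `Zst` with an arbitrary element. -/
theorem comm_Zst {z : GX q D} (hz : z ∈ Zst q D) (x : GX q D) :
    z * x * z⁻¹ * x⁻¹ = ⟨fun i => z.f i * (z.f (i - x.a))⁻¹, 0, 0, 0⟩ := by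
  obtain ⟨hza, hzb, hzf⟩ := hz
  ext i
  · simp only [mul_f, inv_f, mul_a, inv_a, hza, sub_zero, zero_add, add_zero]
    have h2 : i - (x.a + -0) + x.a = i := by ring
    rw [h2]
    have hc := Subgroup.mem_center_iff.mp (Subgroup.inv_mem _ (hzf (i - x.a)))
    calc z.f i * x.f i * (z.f (i - x.a))⁻¹ * (x.f i)⁻¹
        = z.f i * (x.f i * (z.f (i - x.a))⁻¹) * (x.f i)⁻¹ := by group
      _ = z.f i * ((z.f (i - x.a))⁻¹ * x.f i) * (x.f i)⁻¹ := by rw [hc]
      _ = z.f i * (z.f (i - x.a))⁻¹ := by group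
  · simp [hza]
  · simp [hzb]
  · simp [hza, hzb]

/-- Powers of an element of the base group. -/
theorem pow_of_a_eq_zero {x : GX q D} (hx : x.a = 0) (m : ℕ) :
    (x ^ m).a = 0 ∧ (x ^ m).b = m • x.b ∧ (x ^ m).c = m • x.c ∧ ∀ i, (x ^ m).f i = x.f i ^ m := by
  induction m with
  | zero => simp
  | succ m ih =>
    obtain ⟨h1, h2, h3, h4⟩ := ih
    rw [pow_succ]
    refine ⟨by simp [h1, hx], by simp [h2, add_smul], by simp [h3, h1, add_smul], fun i => ?_⟩
    simp [h4, h1, pow_succ]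

end Cfsg.Agent.Lib.Helper76_GagolaGrp
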