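import Mathlib
import Cfsg.Prelude.Def_Characters
import Cfsg.Agent.Lib.Helper76_GagolaGrp
import Cfsg.Agent.Lib.Helper76_GalConj
import Cfsg.Agent.Lib.Helper75_LinChar
import Cfsg.Agent.Lib.Helper75_Clifford
import Cfsg.Agent.Lib.Helper81_Twist
import Cfsg.Agent.Lib.Helper57_FrobNorm
import Cfsg.Agent.Lib.Helper75_CharArith
import Cfsg.Agent.Lib.Helper75_CharProd

/-!
# The fully ramified character of `GX q D` (helper76)
-/

set_option autoImplicit false
set_option linter.unusedSectionVars false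
set_option linter.unusedVariables false

namespace Cfsg.Agent.Lib.Helper76_GagolaChar

open Cfsg Cfsg.Agent.Lib.Helper76_GagolaGrp Cfsg.Agent.Lib.Helper76_GalConj
  Cfsg.Agent.Lib.Helper75_LinChar Cfsg.Agent.Lib.Helper75_CharArith
  Cfsg.Agent.Lib.Helper3_CharOrtho Cfsg.Agent.Lib.Helper75_Induced
open scoped ComplexConjugate

universe u

section general

variable {G : Type*} [Group G]

/-- A finite product of characters is a character. -/
theorem isCharacter_prod {ι : Type*} (s : Finset ι) (φ : ι → G → ℂ)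
    (h : ∀ i ∈ s, Cfsg.IsCharacter G (φ i)) : Cfsg.IsCharacter G (fun g => ∏ i ∈ s, φ i g) := by
  classical
  induction s using Finset.induction_on with
  | empty =>
    simp only [Finset.prod_empty]
    exact (isLin_one (G := G)).1
  | insert a s ha ih =>
    have h1 : (fun g => ∏ i ∈ insert a s, φ i g) = φ a * (fun g => ∏ i ∈ s, φ i g) := by
      funext g
      rw [Finset.prod_insert ha]
      rfl
    rw [h1]
    exact Cfsg.Agent.Lib.Helper75_CharProd.isCharacter_mul (h a (Finset.mem_insert_self a s))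
      (ih (fun i hi => h i (Finset.mem_insert_of_mem hi)))

/-- The function induced from a normal subgroup vanishes off it. -/
theorem indFun_eq_zero_of_not_mem [Fintype G] (N : Subgroup G) [hN : N.Normal] (θ : N → ℂ) {g : G}
    (hg : g ∉ N) : Cfsg.indFun N θ g = 0 := by
  rw [indFun_apply]
  have : ∀ x : G, Cfsg.extendByZero N θ (x⁻¹ * g * x) = 0 := by
    intro x
    apply extendByZero_of_not_mem
    intro h
    apply hg
    have := hN.conj_mem _ h x
    simpa [mul_assoc] using this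
  simp [this]

end general

section pi

variable {ι : Type} [Fintype ι] {D : Type u} [Group D] [Finite D]

/-- The product character on `ι → D`. -/
noncomputable def piChar (ι : Type) [Fintype ι] (χ₀ : IrrCharacter D) : (ι → D) → ℂ :=
  fun f => ∏ i, (χ₀ : D → ℂ) (f i)

theorem isCharacter_piChar (χ₀ : IrrCharacter D) : Cfsg.IsCharacter (ι → D) (piChar ι χ₀) := by
  unfold piChar
  apply isCharacter_prod
  intro i _
  exact isCharacter_comp (Pi.evalMonoidHom (fun _ : ι => D) i)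
    (Cfsg.Agent.Lib.Helper3_CharBridge.isCharacter_of_isIrrCharacter χ₀.2)

theorem isIrrCharacter_piChar (χ₀ : IrrCharacter D) :
    Cfsg.IsIrrCharacter (ι → D) (piChar ι χ₀) := by
  classical
  have := Fintype.ofFinite D
  apply isIrrCharacter_of_classInner_self (isCharacter_piChar χ₀)
  have h0 := classInner_self_of_isIrrCharacter χ₀.2
  unfold Cfsg.classInner at h0 ⊢
  have hD0 : (Nat.card D : ℂ) ≠ 0 := by
    rw [Nat.cast_ne_zero]; exact Nat.card_pos.ne'
  have hsum : ∑ d : D, (χ₀ : D → ℂ) d * conj ((χ₀ : D → ℂ) d) = (Nat.card D : ℂ) := by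
    field_simp at h0
    rw [h0]
  have h1 : ∑ f : ι → D, piChar ι χ₀ f * conj (piChar ι χ₀ f) =
      ∏ i : ι, ∑ d : D, (χ₀ : D → ℂ) d * conj ((χ₀ : D → ℂ) d) := by
    rw [Finset.prod_univ_sum]
    rw [Fintype.piFinset_univ]
    apply Finset.sum_congr rfl
    intro f _
    unfold piChar
    rw [map_prod, ← Finset.prod_mul_distrib]
  rw [h1, Finset.prod_const, hsum, Nat.card_fun, Finset.card_univ, Nat.cast_pow]
  rw [← Nat.card_eq_fintype_card (α := ι)]
  field_simp

end pi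


section main

variable {q : ℕ} [hq : Fact q.Prime] {D : Type u} [Group D] [Finite D]

instance neZero_of_fact : NeZero q := ⟨hq.out.ne_zero⟩

/-- the standard additive character of `ZMod q`. -/
noncomputable def ee (q : ℕ) [NeZero q] (c : ZMod q) : ℂ := ZMod.stdAddChar c

theorem ee_add (x y : ZMod q) : ee q (x + y) = ee q x * ee q y :=
  AddChar.map_add_eq_mul _ x y

theorem ee_zero : ee q 0 = 1 := AddChar.map_zero_eq_one _

theorem ee_eq_one_iff (c : ZMod q) : ee q c = 1 ↔ c = 0 := by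
  rw [← ee_zero (q := q)]
  exact ZMod.injective_stdAddChar.eq_iff

theorem ee_ne_zero (c : ZMod q) : ee q c ≠ 0 := by
  intro h
  have h1 := ee_add (q := q) c (-c)
  rw [add_neg_cancel, ee_zero, h, zero_mul] at h1
  exact one_ne_zero h1

/-- projection of the base group onto `D^q`. -/
def fHom (q : ℕ) (D : Type u) [Group D] : ↥(baseA q D) →* (ZMod q → D) where
  toFun x := x.1.f
  map_one' := rfl
  map_mul' x y := by
    funext i
    have hx : x.1.a = 0 := (mem_baseA _).mp x.2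
    show (x.1 * y.1).f i = x.1.f i * y.1.f i
    rw [mul_f, hx, sub_zero]

theorem fHom_surjective : Function.Surjective (fHom q D) :=
  fun f => ⟨⟨⟨f, 0, 0, 0⟩, (mem_baseA _).mpr rfl⟩, rfl⟩

/-- the linear character `x ↦ e(x.c)` of the base group. -/
noncomputable def cHom (q : ℕ) [Fact q.Prime] (D : Type u) [Group D] : ↥(baseA q D) →* ℂ where
  toFun x := ee q x.1.c
  map_one' := ee_zero
  map_mul' x y := by
    have hx : x.1.a = 0 := (mem_baseA _).mp x.2
    show ee q (x.1 * y.1).c = _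
    rw [mul_c, hx, zero_mul, add_zero, ee_add]

/-- The character `θ` of the base group. -/
noncomputable def theta (χ₀ : IrrCharacter D) : ↥(baseA q D) → ℂ :=
  (fun x => (cHom q D) x) * (fun x => piChar (ZMod q) χ₀ (fHom q D x))

theorem theta_apply (χ₀ : IrrCharacter D) (x : ↥(baseA q D)) :
    theta χ₀ x = ee q x.1.c * ∏ i, (χ₀ : D → ℂ) (x.1.f i) := rfl

theorem isIrrCharacter_theta (χ₀ : IrrCharacter D) :
    Cfsg.IsIrrCharacter ↥(baseA q D) (theta χ₀) := by
  have := Fintype.ofFinite ↥(baseA q D)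
  exact IsLin.mul_irr (isLin_of_hom (cHom q D))
    (Cfsg.Agent.Lib.Helper57_FrobNorm.isIrrCharacter_comp_surjective (fHom q D) fHom_surjective
      (isIrrCharacter_piChar χ₀))

/-- Conjugates of `θ`. -/
theorem theta_conj (χ₀ : IrrCharacter D) (x : GX q D) (n : ↥(baseA q D)) :
    Cfsg.Agent.Lib.Helper75_Clifford.conjFun (baseA q D) baseA_normal (theta χ₀) x n =
      theta χ₀ n * ee q (x.a * n.1.b) := by
  have hn : n.1.a = 0 := (mem_baseA _).mp n.2
  rw [Cfsg.Agent.Lib.Helper75_Clifford.conjFun_apply, theta_apply, theta_apply]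
  simp only
  rw [conj_c hn, ee_add]
  have h1 : ∀ i, (χ₀ : D → ℂ) ((x * n.1 * x⁻¹).f i) = (χ₀ : D → ℂ) (n.1.f (i - x.a)) := by
    intro i
    rw [conj_f hn, Cfsg.Agent.Lib.Helper80_CharBasic.irr_conj]
  simp_rw [h1]
  have h2 : ∏ i, (χ₀ : D → ℂ) (n.1.f (i - x.a)) = ∏ i, (χ₀ : D → ℂ) (n.1.f i) :=
    Fintype.prod_equiv (Equiv.subRight x.a) _ _ (fun i => rfl)
  rw [h2]
  ring

end main


section psi

open Cfsg.Agent.Lib.Helper75_Clifford Cfsg.Agent.Lib.Helper3_CharBridge

variable {q : ℕ} [hq : Fact q.Prime] {D : Type u} [Group D] [Finite D] (χ₀ : IrrCharacter D)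

noncomputable instance fintypeGX : Fintype (GX q D) := Fintype.ofFinite _

/-- The induced character `ψ = Ind θ`. -/
noncomputable def psi (χ₀ : IrrCharacter D) : GX q D → ℂ := Cfsg.indFun (baseA q D) (theta χ₀)

theorem theta_base_ne_zero :
    theta χ₀ (⟨⟨fun _ => 1, 0, 1, 0⟩, (mem_baseA _).mpr rfl⟩ : ↥(baseA q D)) ≠ 0 := by
  rw [theta_apply]
  simp only [ee_zero, one_mul, Finset.prod_const]
  exact pow_ne_zero _ (irr_one_ne_zero χ₀)

theorem isIrrCharacter_psi : Cfsg.IsIrrCharacter (GX q D) (psi χ₀) := by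
  have hθ := isIrrCharacter_theta (q := q) χ₀
  have hcl := isClassFunction_of_isIrrCharacter hθ
  have hI : ∀ g : GX q D, g ∈ baseA q D ↔
      Cfsg.Agent.Lib.Helper75_Clifford.conjFun (baseA q D) baseA_normal (theta χ₀) g = theta χ₀ := by
    intro g
    constructor
    · intro hg
      exact conjFun_of_mem _ _ hcl ⟨g, hg⟩
    · intro h
      rw [mem_baseA]
      have h1 := congrFun h (⟨⟨fun _ => 1, 0, 1, 0⟩, (mem_baseA _).mpr rfl⟩ : ↥(baseA q D))
      rw [theta_conj] at h1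
      have h2 := theta_base_ne_zero (q := q) χ₀
      have h3 : ee q (g.a * 1) = 1 := mul_left_cancel₀ h2 (h1.trans (mul_one _).symm)
      rw [mul_one] at h3
      exact (ee_eq_one_iff _).mp h3
  exact Cfsg.Agent.Lib.Helper81_Twist.isIrrCharacter_indFun_ext (baseA q D) (baseA q D)
    baseA_normal le_rfl hθ hI ⟨theta χ₀, hθ⟩ (fun n => rfl)

/-- the normalising factor. -/
noncomputable def kap (q : ℕ) [Fact q.Prime] (D : Type u) [Group D] [Finite D] (b : ZMod q) : ℂ :=
  (Nat.card ↥(baseA q D) : ℂ)⁻¹ * ∑ x : GX q D, ee q (x.a * b)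

theorem psi_apply_base (n : ↥(baseA q D)) :
    psi χ₀ (n : GX q D) = theta χ₀ n * kap q D n.1.b := by
  unfold psi kap
  rw [indFun_restrict_normal (baseA q D) baseA_normal]
  simp_rw [theta_conj]
  rw [← Finset.mul_sum]
  ring

theorem kap_eq_zero {b : ZMod q} (hb : b ≠ 0) : kap q D b = 0 := by
  unfold kap
  have hS : ∑ x : GX q D, ee q (x.a * b) = ee q b * ∑ x : GX q D, ee q (x.a * b) := by
    have h1 : ∑ x : GX q D, ee q (x.a * b) =
        ∑ x : GX q D, ee q (((⟨fun _ => 1, 1, 0, 0⟩ : GX q D) * x).a * b) :=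
      (Fintype.sum_equiv (Equiv.mulLeft (⟨fun _ => 1, 1, 0, 0⟩ : GX q D)) _ _ (fun x => rfl)).symm
    rw [Finset.mul_sum]
    rw [h1]
    apply Finset.sum_congr rfl
    intro x _
    rw [mul_a, add_mul, one_mul, ee_add]
  have hne : ee q b ≠ 1 := fun h => hb ((ee_eq_one_iff b).mp h)
  have h0 : ∑ x : GX q D, ee q (x.a * b) = 0 := by
    have h2 : (1 - ee q b) * ∑ x : GX q D, ee q (x.a * b) = 0 := by
      rw [sub_mul, one_mul, ← hS, sub_self]
    rcases mul_eq_zero.mp h2 with h3 | h3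
    · exact absurd (sub_eq_zero.mp h3).symm hne
    · exact h3
  rw [h0, mul_zero]

theorem kap_zero_ne_zero : kap q D 0 ≠ 0 := by
  unfold kap
  simp only [mul_zero, ee_zero, Finset.sum_const, Finset.card_univ, nsmul_eq_mul, mul_one]
  apply mul_ne_zero
  · apply inv_ne_zero
    rw [Nat.cast_ne_zero]; exact Nat.card_pos.ne'
  · rw [Nat.cast_ne_zero]; exact Fintype.card_ne_zero

theorem psi_eq_zero (hvan : ∀ d : D, d ∉ Subgroup.center D → (χ₀ : D → ℂ) d = 0)
    {x : GX q D} (hx : x ∉ Zst q D) : psi χ₀ x = 0 := by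
  by_cases hA : x ∈ baseA q D
  · have h1 := psi_apply_base χ₀ ⟨x, hA⟩
    simp only at h1
    rw [h1]
    by_cases hb : x.b = 0
    · have hf : ¬ ∀ i, x.f i ∈ Subgroup.center D := fun h =>
        hx ⟨(mem_baseA _).mp hA, hb, h⟩
      push Not at hf
      obtain ⟨i, hi⟩ := hf
      rw [theta_apply]
      simp only
      rw [Finset.prod_eq_zero (Finset.mem_univ i) (hvan _ hi), mul_zero, zero_mul]
    · rw [kap_eq_zero hb, mul_zero]
  · exact indFun_eq_zero_of_not_mem (baseA q D) _ hA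

theorem psi_apply_Zst {x : GX q D} (hx : x ∈ Zst q D) :
    psi χ₀ x = kap q D 0 * (ee q x.c * ∏ i, (χ₀ : D → ℂ) (x.f i)) := by
  have h1 := psi_apply_base χ₀ ⟨x, Zst_le_baseA hx⟩
  simp only at h1
  rw [h1, theta_apply, hx.2.1]
  ring

theorem psi_one : psi χ₀ (1 : GX q D) = kap q D 0 * (χ₀ : D → ℂ) 1 ^ q := by
  rw [psi_apply_Zst χ₀ (Subgroup.one_mem _)]
  simp only [one_c, ee_zero, one_mul, one_f, Finset.prod_const, Finset.card_univ, ZMod.card]

theorem centralHom_ne_zero (z : Subgroup.center D) : centralHom χ₀ z ≠ 0 := by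
  intro h
  have h1 : centralHom χ₀ (z * z⁻¹) = 1 := by rw [mul_inv_cancel, map_one]
  rw [map_mul, h, zero_mul] at h1
  exact zero_ne_one h1

/-- Commutators with `Zst` lie in the kernel of `ψ`. -/
theorem psi_comm {z : GX q D} (hz : z ∈ Zst q D) (x : GX q D) :
    psi χ₀ (z * x * z⁻¹ * x⁻¹) = psi χ₀ (1 : GX q D) := by
  have hzf := hz.2.2
  rw [comm_Zst hz x]
  have hk : (⟨fun i => z.f i * (z.f (i - x.a))⁻¹, 0, 0, 0⟩ : GX q D) ∈ Zst q D :=
    ⟨rfl, rfl, fun i => Subgroup.mul_mem _ (hzf i) (Subgroup.inv_mem _ (hzf _))⟩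
  rw [psi_apply_Zst χ₀ hk, psi_one]
  simp only [ee_zero, one_mul]
  congr 1
  have h1 : ∀ i, (χ₀ : D → ℂ) (z.f i * (z.f (i - x.a))⁻¹) =
      (χ₀ : D → ℂ) 1 * (centralHom χ₀ ⟨z.f i, hzf i⟩ *
        (centralHom χ₀ ⟨z.f (i - x.a), hzf _⟩)⁻¹) := by
    intro i
    have h2 := irr_eq_centralHom_mul χ₀ (⟨z.f i, hzf i⟩ * ⟨z.f (i - x.a), hzf _⟩⁻¹)
    have h3 : centralHom χ₀ (⟨z.f (i - x.a), hzf _⟩⁻¹) =
        (centralHom χ₀ ⟨z.f (i - x.a), hzf _⟩)⁻¹ := by
      have h4 : centralHom χ₀ ⟨z.f (i - x.a), hzf _⟩ *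
          centralHom χ₀ (⟨z.f (i - x.a), hzf _⟩⁻¹) = 1 := by
        rw [← map_mul, mul_inv_cancel, map_one]
      exact (eq_inv_of_mul_eq_one_right h4)
    rw [map_mul, h3] at h2
    exact h2
  simp_rw [h1]
  rw [Finset.prod_mul_distrib, Finset.prod_const, Finset.card_univ, ZMod.card,
    Finset.prod_mul_distrib]
  have h5 : ∏ i, (centralHom χ₀ ⟨z.f (i - x.a), hzf _⟩)⁻¹ =
      ∏ i, (centralHom χ₀ ⟨z.f i, hzf i⟩)⁻¹ :=
    Fintype.prod_equiv (Equiv.subRight x.a) _ _ (fun i => rfl)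
  rw [h5, ← Finset.prod_mul_distrib]
  have h6 : ∀ i, centralHom χ₀ ⟨z.f i, hzf i⟩ * (centralHom χ₀ ⟨z.f i, hzf i⟩)⁻¹ = 1 :=
    fun i => mul_inv_cancel₀ (centralHom_ne_zero χ₀ _)
  simp_rw [h6]
  simp

end psi

end Cfsg.Agent.Lib.Helper76_GagolaChar
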