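import Mathlib
import Cfsg.Prelude.Def_Characters
import Cfsg.Agent.Lib.Helper76_GagolaChar

/-!
# The inductive step of Gagola's embedding theorem (helper76)
-/

set_option autoImplicit false
set_option linter.unusedSectionVars false
set_option linter.unusedVariables false
set_option linter.style.haveILetI false

namespace Cfsg.Agent.Lib.Helper76_GagolaStep

open Cfsg Cfsg.Agent.Lib.Helper76_GagolaGrp Cfsg.Agent.Lib.Helper76_GalConj
  Cfsg.Agent.Lib.Helper76_GagolaChar
open scoped ComplexConjugate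
open RegularWreathProduct

universe u

section vanish

variable {G : Type*} [Group G] [Finite G]

/-- A fully ramified irreducible character vanishes off the centre. -/
theorem vanish_off_center (χ : IrrCharacter G)
    (h : charDegree (χ : G → ℂ) ^ 2 = (Subgroup.center G).index) (g : G)
    (hg : g ∉ Subgroup.center G) : (χ : G → ℂ) g = 0 := by
  classical
  have := Fintype.ofFinite G
  have h1 := sum_normSq χ
  have h3 : ∑ g ∈ Finset.univ.filter (fun g : G => g ∈ Subgroup.center G),
      Complex.normSq ((χ : G → ℂ) g) =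
      (Nat.card (Subgroup.center G) : ℝ) * ((charDegree (χ : G → ℂ) : ℝ)) ^ 2 := by
    rw [Finset.sum_congr rfl (fun g hg => normSq_center χ (Finset.mem_filter.mp hg).2)]
    rw [Finset.sum_const, nsmul_eq_mul, Nat.card_eq_fintype_card, Fintype.card_subtype]
  have h4 : (Nat.card (Subgroup.center G) : ℝ) * ((charDegree (χ : G → ℂ) : ℝ)) ^ 2 =
      (Nat.card G : ℝ) := by
    have := Subgroup.index_mul_card (Subgroup.center G)
    rw [← h] at this
    rw [← this]
    push_cast
    ring
  have h5 : ∑ g ∈ Finset.univ.filter (fun g : G => ¬ g ∈ Subgroup.center G),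
      Complex.normSq ((χ : G → ℂ) g) = 0 := by
    have h6 := Finset.sum_filter_add_sum_filter_not Finset.univ
      (fun g : G => g ∈ Subgroup.center G) (fun g => Complex.normSq ((χ : G → ℂ) g))
    rw [h3, h4, h1] at h6
    linarith
  have h7 := (Finset.sum_eq_zero_iff_of_nonneg (fun g _ => Complex.normSq_nonneg _)).mp h5 g
    (Finset.mem_filter.mpr ⟨Finset.mem_univ _, hg⟩)
  exact Complex.normSq_eq_zero.mp h7

end vanish

section step

variable {q : ℕ} [hq : Fact q.Prime] {D : Type u} [Group D] [Finite D] (χ₀ : IrrCharacter D)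

/-- `ψ` as an element of `IrrCharacter`. -/
noncomputable def psiIrr (χ₀ : IrrCharacter D) : IrrCharacter (GX q D) :=
  ⟨psi χ₀, isIrrCharacter_psi χ₀⟩

/-- The kernel of `ψ`. -/
noncomputable def KK (χ₀ : IrrCharacter D) : Subgroup (GX q D) := kerC (psiIrr (q := q) χ₀)

instance KK_normal : (KK (q := q) χ₀).Normal := by
  unfold KK
  infer_instance

theorem mem_KK (x : GX q D) : x ∈ KK (q := q) χ₀ ↔ psi χ₀ x = psi χ₀ (1 : GX q D) := by
  unfold KK
  rw [mem_kerC]
  rfl

/-- `ψ` projection: the homomorphism `X1 → (D / Z(D)) ≀ C_q`. -/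
def pi1 (q : ℕ) (D : Type u) [Group D] :
    ↥(X1 q D) →* (D ⧸ Subgroup.center D) ≀ᵣ Multiplicative (ZMod q) where
  toFun x := ⟨fun s => QuotientGroup.mk (x.1.f (Multiplicative.toAdd s)),
    Multiplicative.ofAdd x.1.a⟩
  map_one' := by
    ext s
    · simp
    · rfl
  map_mul' x y := by
    ext s
    · simp only [Subgroup.coe_mul, mul_f, QuotientGroup.mk_mul, RegularWreathProduct.mul_left,
        Pi.mul_apply, toAdd_mul, toAdd_inv, toAdd_ofAdd]
      congr 3
      ring
    · rfl

theorem pi1_surjective : Function.Surjective (pi1 q D) := by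
  intro w
  refine ⟨⟨⟨fun i => Quotient.out (w.left (Multiplicative.ofAdd i)),
    Multiplicative.toAdd w.right, 0, 0⟩, rfl⟩, ?_⟩
  ext s
  · show (QuotientGroup.mk (Quotient.out (w.left (Multiplicative.ofAdd (Multiplicative.toAdd s)))) :
      D ⧸ Subgroup.center D) = w.left s
    rw [QuotientGroup.out_eq', ofAdd_toAdd]
  · rfl

theorem pi1_eq_one_iff (x : ↥(X1 q D)) : pi1 q D x = 1 ↔ x.1 ∈ Zst q D := by
  constructor
  · intro h
    have h1 : Multiplicative.ofAdd x.1.a = 1 := congrArg RegularWreathProduct.right h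
    have h2 := congrArg RegularWreathProduct.left h
    refine ⟨by simpa using h1, x.2, fun i => ?_⟩
    have h3 := congrFun h2 (Multiplicative.ofAdd i)
    have h4 : (QuotientGroup.mk (x.1.f i) : D ⧸ Subgroup.center D) = 1 := h3
    exact (QuotientGroup.eq_one_iff _).mp h4
  · rintro ⟨ha, hb, hf⟩
    ext s
    · show (QuotientGroup.mk (x.1.f (Multiplicative.toAdd s)) : D ⧸ Subgroup.center D) = 1
      exact (QuotientGroup.eq_one_iff _).mpr (hf _)
    · show Multiplicative.ofAdd x.1.a = 1
      rw [ha]; rfl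

/-- `z ^ m = 1` for `z ∈ Zst` when `m` kills the centre of `D` and `q ∣ m`. -/
theorem pow_eq_one_of_mem_Zst {z : GX q D} (hz : z ∈ Zst q D) {m : ℕ}
    (hm : ∀ d ∈ Subgroup.center D, d ^ m = 1) (hqm : q ∣ m) : z ^ m = 1 := by
  obtain ⟨h1, h2, h3, h4⟩ := pow_of_a_eq_zero hz.1 m
  have hm0 : (m : ZMod q) = 0 := (ZMod.natCast_eq_zero_iff m q).mpr hqm
  ext i
  · rw [h4, hm _ (hz.2.2 i)]; rfl
  · rw [h1]; rfl
  · rw [h2, hz.2.1, smul_zero]; rfl
  · rw [h3, nsmul_eq_mul, hm0, zero_mul]; rfl


theorem squarefree_lcm_prime {a : ℕ} (ha : Squarefree a) (hq' : q.Prime) :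
    Squarefree (Nat.lcm a q) := by
  by_cases h : q ∣ a
  · rw [Nat.lcm_eq_left h]
    exact ha
  · have hc : Nat.Coprime a q := (Nat.Coprime.symm ((Nat.Prime.coprime_iff_not_dvd hq').mpr h))
    rw [Nat.Coprime.lcm_eq_mul hc]
    exact (Nat.squarefree_mul hc).mpr ⟨ha, hq'.squarefree⟩

/-- **The inductive step.** -/
theorem step (hfaith : ∀ d : D, (χ₀ : D → ℂ) d = (χ₀ : D → ℂ) 1 → d = 1)
    (hram : charDegree (χ₀ : D → ℂ) ^ 2 = (Subgroup.center D).index) :
    ∃ (H : Type u) (_ : Group H) (_ : Finite H) (χ : IrrCharacter H),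
      (∀ h : H, (χ : H → ℂ) h = (χ : H → ℂ) 1 → h = 1) ∧
      charDegree (χ : H → ℂ) ^ 2 = (Subgroup.center H).index ∧
      (∃ j : (D ⧸ Subgroup.center D) ≀ᵣ Multiplicative (ZMod q) →* H ⧸ Subgroup.center H,
        Function.Injective j) ∧
      (∀ r : ℕ, r.Prime → r ∣ Nat.card H → r ∣ Nat.card D ∨ r = q) ∧
      (∀ r : ℕ, r.Prime → r ∣ Nat.card (Subgroup.center H) →
        r ∣ Nat.card (Subgroup.center D) ∨ r = q) ∧
      (∀ r : ℕ, r.Prime → r ∣ Nat.card (Subgroup.center D) →
        r ∣ Nat.card (Subgroup.center H)) ∧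
      q ∣ Nat.card (Subgroup.center H) ∧
      (Squarefree (Nat.card (Subgroup.center D)) →
        Squarefree (Nat.card (Subgroup.center H))) := by
  classical
  have hvan := vanish_off_center χ₀ hram
  obtain ⟨χ, hχ⟩ := exists_quot_char (KK (q := q) χ₀) (psiIrr (q := q) χ₀) le_rfl
  have hval : ∀ x : GX q D, (χ : GX q D ⧸ KK (q := q) χ₀ → ℂ) (QuotientGroup.mk x) = psi χ₀ x := by
    intro x
    exact congrFun (congrArg Subtype.val hχ) x
  have hone : (χ : GX q D ⧸ KK (q := q) χ₀ → ℂ) 1 = psi χ₀ (1 : GX q D) := by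
    rw [← hval 1]; rfl
  -- faithful
  have hfaithH : ∀ h : GX q D ⧸ KK (q := q) χ₀,
      (χ : GX q D ⧸ KK (q := q) χ₀ → ℂ) h = (χ : GX q D ⧸ KK (q := q) χ₀ → ℂ) 1 → h = 1 := by
    intro h
    induction h using QuotientGroup.induction_on with
    | H x =>
      intro hx
      rw [hval, hone] at hx
      exact (QuotientGroup.eq_one_iff x).mpr ((mem_KK χ₀ x).mpr hx)
  -- image of Zst is central
  have hcent : ∀ z : GX q D, z ∈ Zst q D →
      (QuotientGroup.mk z : GX q D ⧸ KK (q := q) χ₀) ∈
        Subgroup.center (GX q D ⧸ KK (q := q) χ₀) := by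
    intro z hz
    rw [Subgroup.mem_center_iff]
    intro h
    induction h using QuotientGroup.induction_on with
    | H x =>
      rw [← QuotientGroup.mk_mul, ← QuotientGroup.mk_mul, QuotientGroup.eq]
      have h1 := psi_comm χ₀ (Subgroup.inv_mem _ hz) x⁻¹
      rw [inv_inv, inv_inv] at h1
      rw [mem_KK]
      have h2 : (x * z)⁻¹ * (z * x) = z⁻¹ * x⁻¹ * z * x := by group
      rw [h2]
      exact h1
  -- central elements come from Zst
  have hcent' : ∀ x : GX q D, (QuotientGroup.mk x : GX q D ⧸ KK (q := q) χ₀) ∈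
      Subgroup.center (GX q D ⧸ KK (q := q) χ₀) → x ∈ Zst q D := by
    intro x hx
    by_contra hx'
    have h1 := irr_center_normSq χ hx
    rw [hval, psi_eq_zero χ₀ hvan hx', zero_mul] at h1
    exact pow_ne_zero 2 (irr_one_ne_zero χ) h1.symm
  -- vanishing off the centre
  have hvanH : ∀ h : GX q D ⧸ KK (q := q) χ₀, h ∉ Subgroup.center (GX q D ⧸ KK (q := q) χ₀) →
      (χ : GX q D ⧸ KK (q := q) χ₀ → ℂ) h = 0 := by
    intro h
    induction h using QuotientGroup.induction_on with
    | H x =>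
      intro hx
      rw [hval]
      exact psi_eq_zero χ₀ hvan (fun hz => hx (hcent x hz))
  have hdeg : charDegree (χ : GX q D ⧸ KK (q := q) χ₀ → ℂ) ^ 2 =
      (Subgroup.center (GX q D ⧸ KK (q := q) χ₀)).index := by
    have h1 := deg_sq_mul_card_center_eq χ hvanH
    have h2 := Subgroup.index_mul_card (Subgroup.center (GX q D ⧸ KK (q := q) χ₀))
    rw [← h2] at h1
    exact Nat.eq_of_mul_eq_mul_right Nat.card_pos h1
  -- kernel is trivial, centre cyclic
  have hker : kerC χ = ⊥ := by
    rw [eq_bot_iff]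
    intro g hg
    rw [Subgroup.mem_bot]
    exact hfaithH g ((mem_kerC χ g).mp hg)
  have hcyc : IsCyclic (Subgroup.center (GX q D ⧸ KK (q := q) χ₀)) :=
    isCyclic_center_of_faithful χ hker
  -- exponent of the centre
  have hexp : Nat.card (Subgroup.center (GX q D ⧸ KK (q := q) χ₀)) ∣
      Nat.lcm (Nat.card (Subgroup.center D)) q := by
    rw [← IsCyclic.exponent_eq_card]
    apply Monoid.exponent_dvd_of_forall_pow_eq_one
    rintro ⟨h, hh⟩
    apply Subtype.ext
    rw [Subgroup.coe_pow, Subgroup.coe_one]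
    simp only
    induction h using QuotientGroup.induction_on with
    | H x =>
      have hx := hcent' x hh
      rw [← QuotientGroup.mk_pow]
      have : x ^ Nat.lcm (Nat.card (Subgroup.center D)) q = 1 := by
        apply pow_eq_one_of_mem_Zst hx
        · intro d hd
          obtain ⟨k, hk⟩ := Nat.dvd_lcm_left (Nat.card (Subgroup.center D)) q
          rw [hk, pow_mul]
          have h1 : (⟨d, hd⟩ : Subgroup.center D) ^ Nat.card (Subgroup.center D) = 1 :=
            pow_card_eq_one'
          have h2 := congrArg Subtype.val h1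
          simp only [Subgroup.coe_pow, Subgroup.coe_one] at h2
          rw [h2, one_pow]
        · exact Nat.dvd_lcm_right _ _
      rw [this, QuotientGroup.mk_one]
  refine ⟨GX q D ⧸ KK (q := q) χ₀, inferInstance, inferInstance, χ, hfaithH, hdeg, ?_, ?_, ?_, ?_,
    ?_, ?_⟩
  · -- the embedding
    let ρ : ↥(X1 q D) →* (GX q D ⧸ KK (q := q) χ₀) ⧸ Subgroup.center (GX q D ⧸ KK (q := q) χ₀) :=
      (QuotientGroup.mk' _).comp ((QuotientGroup.mk' (KK (q := q) χ₀)).comp (X1 q D).subtype)
    have hρ : ∀ x : ↥(X1 q D), ρ x = 1 ↔ x.1 ∈ Zst q D := by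
      intro x
      show (QuotientGroup.mk (QuotientGroup.mk x.1) : _ ⧸ Subgroup.center _) = 1 ↔ _
      rw [QuotientGroup.eq_one_iff]
      exact ⟨hcent' x.1, hcent x.1⟩
    have hkerle : (pi1 q D).ker ≤ ρ.ker := by
      intro x hx
      rw [MonoidHom.mem_ker] at hx ⊢
      exact (hρ x).mpr ((pi1_eq_one_iff x).mp hx)
    refine ⟨(pi1 q D).liftOfSurjective pi1_surjective ⟨ρ, hkerle⟩, ?_⟩
    rw [injective_iff_map_eq_one]
    intro w hw
    obtain ⟨x, rfl⟩ := pi1_surjective (q := q) (D := D) w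
    rw [MonoidHom.liftOfRightInverse_comp_apply] at hw
    exact (pi1_eq_one_iff x).mpr ((hρ x).mp hw)
  · -- primes of |H|
    intro r hr hdvd
    have h1 : Nat.card (GX q D ⧸ KK (q := q) χ₀) ∣ Nat.card (GX q D) :=
      Subgroup.card_quotient_dvd_card _
    have h2 := hdvd.trans h1
    rw [card_GX] at h2
    rcases (Nat.Prime.dvd_mul hr).mp h2 with h3 | h3
    · left; exact hr.dvd_of_dvd_pow h3
    · right
      exact (Nat.prime_dvd_prime_iff_eq hr hq.out).mp (hr.dvd_of_dvd_pow h3)
  · -- primes of |Z(H)| are among those of |Z(D)| and q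
    intro r hr hdvd
    have h2 := hdvd.trans hexp
    have h3 : Nat.lcm (Nat.card (Subgroup.center D)) q ∣ Nat.card (Subgroup.center D) * q :=
      Nat.lcm_dvd_mul _ _
    rcases (Nat.Prime.dvd_mul hr).mp (h2.trans h3) with h4 | h4
    · left; exact h4
    · right; exact (Nat.prime_dvd_prime_iff_eq hr hq.out).mp h4
  · -- primes of |Z(D)| divide |Z(H)|
    intro r hr hdvd
    haveI : Fact r.Prime := ⟨hr⟩
    obtain ⟨d, hd⟩ := exists_prime_orderOf_dvd_card' r hdvd
    have hd1 : (d : D) ≠ 1 := by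
      intro h
      have : d = 1 := Subtype.ext h
      rw [this, orderOf_one] at hd
      exact hr.one_lt.ne hd
    have hdr : (d : D) ^ r = 1 := by
      have := pow_orderOf_eq_one d
      rw [hd] at this
      have h2 := congrArg Subtype.val this
      simpa using h2
    set z : GX q D := ⟨fun i => if i = 0 then (d : D) else 1, 0, 0, 0⟩ with hz
    have hzZ : z ∈ Zst q D := by
      refine ⟨rfl, rfl, fun i => ?_⟩
      show (if i = 0 then (d : D) else 1) ∈ Subgroup.center D
      split_ifs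
      · exact d.2
      · exact Subgroup.one_mem _
    have hzr : z ^ r = 1 := by
      obtain ⟨h1, h2, h3, h4⟩ := pow_of_a_eq_zero hzZ.1 r
      ext i
      · rw [h4]
        show (if i = 0 then (d : D) else 1) ^ r = 1
        split_ifs
        · exact hdr
        · exact one_pow _
      · rw [h1]; rfl
      · rw [h2, hzZ.2.1, smul_zero]; rfl
      · rw [h3]; show r • (0 : ZMod q) = 0; rw [smul_zero]
    have hzK : z ∉ KK (q := q) χ₀ := by
      intro h
      rw [mem_KK, psi_apply_Zst χ₀ hzZ, psi_one] at h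
      have h0 := irr_one_ne_zero χ₀
      have hprod : ∏ i : ZMod q, (χ₀ : D → ℂ) (z.f i) =
          (χ₀ : D → ℂ) 1 ^ q * ((χ₀ : D → ℂ) d / (χ₀ : D → ℂ) 1) := by
        have h5 : ∀ i : ZMod q, (χ₀ : D → ℂ) (z.f i) =
            (χ₀ : D → ℂ) 1 * (if i = 0 then (χ₀ : D → ℂ) d / (χ₀ : D → ℂ) 1 else 1) := by
          intro i
          show (χ₀ : D → ℂ) (if i = 0 then (d : D) else 1) = _
          split_ifs
          · field_simp
          · rw [mul_one]
        simp_rw [h5]
        rw [Finset.prod_mul_distrib, Finset.prod_const, Finset.card_univ, ZMod.card,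
          Finset.prod_ite_eq' Finset.univ (0 : ZMod q)]
        simp
      rw [hprod] at h
      have hc : (z.c : ZMod q) = 0 := rfl
      rw [hc, ee_zero, one_mul] at h
      have hk := kap_zero_ne_zero (q := q) (D := D)
      have h6 : (χ₀ : D → ℂ) d / (χ₀ : D → ℂ) 1 = 1 := by
        have h7 : kap q D 0 * (χ₀ : D → ℂ) 1 ^ q * ((χ₀ : D → ℂ) d / (χ₀ : D → ℂ) 1) =
            kap q D 0 * (χ₀ : D → ℂ) 1 ^ q * 1 := by
          rw [mul_one, mul_assoc]; exact h
        exact mul_left_cancel₀ (mul_ne_zero hk (pow_ne_zero _ h0)) h7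
      rw [div_eq_one_iff_eq h0] at h6
      exact hd1 (hfaith _ h6)
    have hord : orderOf (⟨QuotientGroup.mk z, hcent z hzZ⟩ :
        Subgroup.center (GX q D ⧸ KK (q := q) χ₀)) = r := by
      apply orderOf_eq_prime
      · apply Subtype.ext
        rw [Subgroup.coe_pow, Subgroup.coe_one]
        simp only
        rw [← QuotientGroup.mk_pow, hzr, QuotientGroup.mk_one]
      · intro h
        have h2 := congrArg Subtype.val h
        simp only [Subgroup.coe_one] at h2
        exact hzK ((QuotientGroup.eq_one_iff z).mp h2)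
    rw [← hord]
    exact orderOf_dvd_natCard _
  · -- q divides |Z(H)|
    set z : GX q D := ⟨fun _ => 1, 0, 0, 1⟩ with hz
    have hzZ : z ∈ Zst q D := ⟨rfl, rfl, fun i => Subgroup.one_mem _⟩
    have hzq : z ^ q = 1 := by
      obtain ⟨h1, h2, h3, h4⟩ := pow_of_a_eq_zero hzZ.1 q
      ext i
      · rw [h4]
        show (1 : D) ^ q = 1
        exact one_pow _
      · rw [h1]; rfl
      · rw [h2, hzZ.2.1, smul_zero]; rfl
      · rw [h3]
        show q • (1 : ZMod q) = 0
        rw [nsmul_eq_mul, mul_one, ZMod.natCast_self]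
    have hzK : z ∉ KK (q := q) χ₀ := by
      intro h
      rw [mem_KK, psi_apply_Zst χ₀ hzZ, psi_one] at h
      have h0 := irr_one_ne_zero χ₀
      have hprod : ∏ i : ZMod q, (χ₀ : D → ℂ) (z.f i) = (χ₀ : D → ℂ) 1 ^ q := by
        show ∏ i : ZMod q, (χ₀ : D → ℂ) 1 = _
        rw [Finset.prod_const, Finset.card_univ, ZMod.card]
      rw [hprod] at h
      have hk := kap_zero_ne_zero (q := q) (D := D)
      have hc : (z.c : ZMod q) = 1 := rfl
      rw [hc] at h
      have h6 : ee q 1 = 1 := by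
        have h7 : kap q D 0 * (χ₀ : D → ℂ) 1 ^ q * ee q 1 =
            kap q D 0 * (χ₀ : D → ℂ) 1 ^ q * 1 := by
          rw [mul_one]
          calc kap q D 0 * (χ₀ : D → ℂ) 1 ^ q * ee q 1
              = kap q D 0 * (ee q 1 * (χ₀ : D → ℂ) 1 ^ q) := by ring
            _ = kap q D 0 * (χ₀ : D → ℂ) 1 ^ q := h
        exact mul_left_cancel₀ (mul_ne_zero hk (pow_ne_zero _ h0)) h7
      haveI : Fact (1 < q) := ⟨hq.out.one_lt⟩
      exact one_ne_zero ((ee_eq_one_iff (1 : ZMod q)).mp h6)
    have hord : orderOf (⟨QuotientGroup.mk z, hcent z hzZ⟩ :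
        Subgroup.center (GX q D ⧸ KK (q := q) χ₀)) = q := by
      apply orderOf_eq_prime
      · apply Subtype.ext
        rw [Subgroup.coe_pow, Subgroup.coe_one]
        simp only
        rw [← QuotientGroup.mk_pow, hzq, QuotientGroup.mk_one]
      · intro h
        have h2 := congrArg Subtype.val h
        simp only [Subgroup.coe_one] at h2
        exact hzK ((QuotientGroup.eq_one_iff z).mp h2)
    conv_lhs => rw [← hord]
    exact orderOf_dvd_natCard _
  · intro hsq
    exact Squarefree.squarefree_of_dvd hexp (squarefree_lcm_prime hsq hq.out)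

end step

end Cfsg.Agent.Lib.Helper76_GagolaStep
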