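import Mathlib
import Cfsg.Agent.Lib.Helper76_PGroup

/-!
# Group-theoretic lemmas for S4845 (helper76)
-/

set_option autoImplicit false
set_option linter.unusedSectionVars false
open scoped commutatorElement

namespace Cfsg.Agent.Lib.Helper76_GalConjGrp

open Cfsg.Agent.Lib

section general

variable {P : Type*} [Group P]

/-- If `⁅g, y⁆` commutes with `g` then `⁅g ^ n, y⁆ = ⁅g, y⁆ ^ n`. -/
theorem commutatorElement_pow_left {g y : P} (hc : Commute ⁅g, y⁆ g) (n : ℕ) :
    ⁅g ^ n, y⁆ = ⁅g, y⁆ ^ n := by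
  induction n with
  | zero => simp
  | succ n ih =>
    have h1 : ⁅g ^ (n + 1), y⁆ = g ^ n * ⁅g, y⁆ * (g ^ n)⁻¹ * ⁅g ^ n, y⁆ := by
      rw [commutatorElement_def, commutatorElement_def, commutatorElement_def, pow_succ]; group
    have h2 : g ^ n * ⁅g, y⁆ * (g ^ n)⁻¹ = ⁅g, y⁆ := by
      have := (hc.pow_right n).eq
      rw [← this, mul_assoc, mul_inv_cancel, mul_one]
    rw [h1, h2, ih, pow_succ']

/-- Parity: `a x² = b y²` with `a, b ∈ {1, p}` forces `x = y`. -/
theorem eq_of_mul_sq_eq {p a b x y : ℕ} (hp : p.Prime) (ha : a = 1 ∨ a = p) (hb : b = 1 ∨ b = p)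
    (hx : 0 < x) (hy : 0 < y) (h : a * x ^ 2 = b * y ^ 2) : x = y := by
  have hpf : Fact p.Prime := ⟨hp⟩
  have key : ∀ u v : ℕ, 0 < u → 0 < v → u ^ 2 = p * v ^ 2 → False := by
    intro u v hu hv huv
    have h1 := congrArg (padicValNat p) huv
    rw [padicValNat.pow, padicValNat.mul hp.ne_zero (pow_ne_zero 2 hv.ne'),
      padicValNat.pow, padicValNat_self] at h1
    omega
  rcases ha with rfl | rfl <;> rcases hb with rfl | rfl
  · simp only [one_mul] at h
    exact Nat.pow_left_injective (by norm_num : 2 ≠ 0) h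
  · simp only [one_mul] at h
    exact (key x y hx hy h).elim
  · simp only [one_mul] at h
    exact (key y x hy hx h.symm).elim
  · have := Nat.eq_of_mul_eq_mul_left hp.pos h
    exact Nat.pow_left_injective (by norm_num : 2 ≠ 0) this

theorem commutator_quotient (N : Subgroup P) [N.Normal] :
    commutator (P ⧸ N) = (commutator P).map (QuotientGroup.mk' N) := by
  rw [commutator_def, commutator_def, Subgroup.map_commutator,
    Subgroup.map_top_of_surjective _ (QuotientGroup.mk'_surjective N)]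

/-- The image of the centre in a quotient is central. -/
theorem center_le_comap_center (N : Subgroup P) [N.Normal] :
    Subgroup.center P ≤ (Subgroup.center (P ⧸ N)).comap (QuotientGroup.mk' N) := by
  intro z hz
  rw [Subgroup.mem_comap, Subgroup.mem_center_iff]
  intro q
  obtain ⟨y, rfl⟩ := QuotientGroup.mk_surjective q
  rw [QuotientGroup.mk'_apply, ← QuotientGroup.mk_mul, ← QuotientGroup.mk_mul,
    Subgroup.mem_center_iff.mp hz y]

variable [Finite P]

/-- `|H N / N| · |N| = |H|` for `N ≤ H`. -/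
theorem card_map_mk_mul (N : Subgroup P) [N.Normal] (H : Subgroup P) (hNH : N ≤ H) :
    Nat.card (H.map (QuotientGroup.mk' N)) * Nat.card N = Nat.card H := by
  have h1 : (H.map (QuotientGroup.mk' N)).index = H.index :=
    Subgroup.index_map_eq H (QuotientGroup.mk'_surjective N) (by rwa [QuotientGroup.ker_mk'])
  have h2 := Subgroup.card_mul_index (H.map (QuotientGroup.mk' N))
  have h3 := Subgroup.card_mul_index H
  have h4 : Nat.card P = Nat.card (P ⧸ N) * Nat.card N :=
    Subgroup.card_eq_card_quotient_mul_card_subgroup N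
  have hpos : 0 < H.index := Nat.pos_of_ne_zero Subgroup.index_ne_zero_of_finite
  apply Nat.eq_of_mul_eq_mul_right hpos
  rw [h3, h4, ← h2, h1]
  ring

end general

section zindex

variable {P : Type*} [Group P] [Finite P]

/-- If `M` is central of exponent dividing `p` and `Z(P/M)` is cyclic, the preimage of `Z(P/M)`
has order at most `p · |Z(P)|`. -/
theorem card_comap_center_le (p : ℕ) (hp0 : 0 < p) (M : Subgroup P) [M.Normal]
    (hM : M ≤ Subgroup.center P) (hMp : ∀ m ∈ M, m ^ p = 1)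
    (hcyc : IsCyclic (Subgroup.center (P ⧸ M))) :
    Nat.card ((Subgroup.center (P ⧸ M)).comap (QuotientGroup.mk' M)) ≤
      p * Nat.card (Subgroup.center P) := by
  obtain ⟨q₀, hq₀⟩ := hcyc.exists_generator
  obtain ⟨g₀, hg₀⟩ := QuotientGroup.mk_surjective (q₀ : P ⧸ M)
  have hcomm : ∀ y : P, ⁅g₀, y⁆ ∈ M := by
    intro y
    rw [← QuotientGroup.eq_one_iff]
    have h1 := Subgroup.mem_center_iff.mp q₀.2 (QuotientGroup.mk y)
    rw [← hg₀] at h1
    rw [commutatorElement_def, QuotientGroup.mk_mul, QuotientGroup.mk_mul, QuotientGroup.mk_mul,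
      ← h1, QuotientGroup.mk_inv, QuotientGroup.mk_inv]
    group
  have hgp : g₀ ^ p ∈ Subgroup.center P := by
    rw [Subgroup.mem_center_iff]
    intro y
    have hc : Commute ⁅g₀, y⁆ g₀ := (Subgroup.mem_center_iff.mp (hM (hcomm y)) g₀).symm
    have h1 : ⁅g₀ ^ p, y⁆ = 1 := by
      rw [commutatorElement_pow_left hc p, hMp _ (hcomm y)]
    exact (commutatorElement_eq_one_iff_mul_comm.mp h1).symm
  let F : Fin p × Subgroup.center P → P := fun x => g₀ ^ (x.1 : ℕ) * (x.2 : P)
  have hsub : (((Subgroup.center (P ⧸ M)).comap (QuotientGroup.mk' M) : Subgroup P) : Set P) ⊆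
      Set.range F := by
    intro y hy
    have hy' : (QuotientGroup.mk y : P ⧸ M) ∈ Subgroup.center (P ⧸ M) := hy
    obtain ⟨i, hi⟩ := Subgroup.mem_zpowers_iff.mp (hq₀ ⟨QuotientGroup.mk y, hy'⟩)
    have h1 : (QuotientGroup.mk (g₀ ^ i) : P ⧸ M) = QuotientGroup.mk y := by
      have := congrArg Subtype.val hi
      rw [Subgroup.coe_zpow, ← hg₀] at this
      rw [QuotientGroup.mk_zpow]
      exact this
    have h2 : (g₀ ^ i)⁻¹ * y ∈ M := QuotientGroup.eq.mp h1
    have hpz : (p : ℤ) ≠ 0 := by exact_mod_cast hp0.ne'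
    have hnn : 0 ≤ i % (p : ℤ) := Int.emod_nonneg i hpz
    have hlt : (i % (p : ℤ)).toNat < p := by
      have := Int.emod_lt_of_pos i (by exact_mod_cast hp0 : (0 : ℤ) < p)
      omega
    have hz : (g₀ ^ p) ^ (i / (p : ℤ)) * ((g₀ ^ i)⁻¹ * y) ∈ Subgroup.center P :=
      (Subgroup.center P).mul_mem ((Subgroup.center P).zpow_mem hgp _) (hM h2)
    refine ⟨(⟨(i % (p : ℤ)).toNat, hlt⟩, ⟨_, hz⟩), ?_⟩
    show g₀ ^ ((i % (p : ℤ)).toNat) * ((g₀ ^ p) ^ (i / (p : ℤ)) * ((g₀ ^ i)⁻¹ * y)) = y
    have e1 : g₀ ^ ((i % (p : ℤ)).toNat) = g₀ ^ (i % (p : ℤ)) := by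
      rw [← zpow_natCast, Int.toNat_of_nonneg hnn]
    have e2 : (g₀ ^ p) ^ (i / (p : ℤ)) = g₀ ^ ((p : ℤ) * (i / (p : ℤ))) := by
      rw [zpow_mul, zpow_natCast]
    have e3 : g₀ ^ (i % (p : ℤ)) * g₀ ^ ((p : ℤ) * (i / (p : ℤ))) = g₀ ^ i := by
      rw [← zpow_add, Int.emod_add_mul_ediv]
    rw [e1, e2, ← mul_assoc, ← mul_assoc, e3, mul_inv_cancel, one_mul]
  calc Nat.card ((Subgroup.center (P ⧸ M)).comap (QuotientGroup.mk' M))
      = (((Subgroup.center (P ⧸ M)).comap (QuotientGroup.mk' M) : Subgroup P) : Set P).ncard :=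
        Nat.card_coe_set_eq _
    _ ≤ (Set.range F).ncard := Set.ncard_le_ncard hsub (Set.toFinite _)
    _ ≤ Nat.card (Fin p × Subgroup.center P) := by
        rw [← Set.image_univ]
        refine (Set.ncard_image_le (Set.toFinite _)).trans ?_
        rw [Set.ncard_univ]
    _ = p * Nat.card (Subgroup.center P) := by rw [Nat.card_prod, Nat.card_fin]

/-- Index form: `[P : Z(P)] = r · [P/M : Z(P/M)]` with `r ∈ {1, p}`. -/
theorem index_center_eq (p : ℕ) [hp : Fact p.Prime] (hP : IsPGroup p P) (M : Subgroup P)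
    [M.Normal] (hM : M ≤ Subgroup.center P) (hMp : ∀ m ∈ M, m ^ p = 1)
    (hcyc : IsCyclic (Subgroup.center (P ⧸ M))) :
    ∃ r : ℕ, (r = 1 ∨ r = p) ∧
      (Subgroup.center P).index = r * (Subgroup.center (P ⧸ M)).index := by
  set ZM := (Subgroup.center (P ⧸ M)).comap (QuotientGroup.mk' M) with hZM
  have hle : Subgroup.center P ≤ ZM := center_le_comap_center M
  have h1 := Subgroup.relIndex_mul_index hle
  have h2 : ZM.index = (Subgroup.center (P ⧸ M)).index :=
    Subgroup.index_comap_of_surjective _ (QuotientGroup.mk'_surjective M)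
  have h3 := Helper76_PGroup.card_mul_relIndex_of_le (Subgroup.center P) ZM hle
  have h4 := card_comap_center_le p hp.out.pos M hM hMp hcyc
  rw [← hZM, ← h3] at h4
  have hrle : (Subgroup.center P).relIndex ZM ≤ p := by
    have hpos : 0 < Nat.card (Subgroup.center P) := Nat.card_pos
    have : Nat.card (Subgroup.center P) * (Subgroup.center P).relIndex ZM ≤
        Nat.card (Subgroup.center P) * p := by rw [mul_comm _ p]; exact h4
    exact Nat.le_of_mul_le_mul_left this hpos
  have hrdvd : (Subgroup.center P).relIndex ZM ∣ Nat.card P :=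
    (Dvd.intro _ h1).trans (Subgroup.index_dvd_card _)
  obtain ⟨n, hn⟩ := hP.exists_card_eq
  rw [hn] at hrdvd
  obtain ⟨j, _, hj⟩ := (Nat.dvd_prime_pow hp.out).mp hrdvd
  refine ⟨(Subgroup.center P).relIndex ZM, ?_, ?_⟩
  · rw [hj] at hrle ⊢
    have hj1 : j ≤ 1 := by
      by_contra hcon
      have : p ^ 2 ≤ p ^ j := Nat.pow_le_pow_right hp.out.pos (by omega)
      have h5 : p * p ≤ p := by rw [← sq]; exact this.trans hrle
      have := hp.out.one_lt
      nlinarith
    interval_cases j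
    · left; simp
    · right; simp
  · rw [← h2, h1]

end zindex


section caseA

variable {P : Type*} [Group P] [Finite P]

/-- a subgroup of `P'` (of order `p²`) of order divisible by `p` which is not all of `P'` has order
`p`. -/
theorem card_eq_prime_of_lt (p : ℕ) [hp : Fact p.Prime] {D H : Subgroup P}
    (hD : Nat.card D = p ^ 2) (hHD : H ≤ D) (hne : H ≠ D) (hpH : p ∣ Nat.card H) :
    Nat.card H = p := by
  have h1 : Nat.card H ∣ p ^ 2 := hD ▸ Subgroup.card_dvd_of_le hHD
  obtain ⟨k, hk, hHk⟩ := (Nat.dvd_prime_pow hp.out).mp h1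
  interval_cases k
  · exfalso
    rw [hHk, pow_zero, Nat.dvd_one] at hpH
    exact hp.out.one_lt.ne' hpH
  · rw [hHk, pow_one]
  · exfalso
    exact hne (Subgroup.eq_of_le_of_card_ge hHD (by rw [hHk, hD]))

/-- Case A: if `P' ≰ Z(P)`, `|P'| = p²`, `N ≤ Z(P) ∩ P'` of order `p` and `|(P/N)'| = p`, then
`P/N` has an abelian subgroup of index dividing `p`. -/
theorem exists_abelian_index_dvd (p : ℕ) [hp : Fact p.Prime] (hP : IsPGroup p P)
    (N : Subgroup P) [N.Normal] (hNZ : N ≤ Subgroup.center P) (hNc : N ≤ commutator P)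
    (hN : Nat.card N = p) (hP' : Nat.card (commutator P) = p ^ 2)
    (hQ' : Nat.card (commutator (P ⧸ N)) = p) (hncl : ¬ commutator P ≤ Subgroup.center P) :
    ∃ A : Subgroup (P ⧸ N), (∀ a ∈ A, ∀ b ∈ A, a * b = b * a) ∧ A.index ∣ p := by
  have hQc : commutator (P ⧸ N) ≤ Subgroup.center (P ⧸ N) :=
    Helper76_PGroup.commutator_le_center_of_card_eq_prime p (hP.to_quotient N) hQ'
  have hPN : ∀ z ∈ commutator P, ∀ g : P, ⁅g, z⁆ ∈ N := by
    intro z hz g
    rw [← QuotientGroup.eq_one_iff]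
    have h1 : (QuotientGroup.mk z : P ⧸ N) ∈ commutator (P ⧸ N) := by
      rw [commutator_quotient]
      exact Subgroup.mem_map_of_mem _ hz
    have h2 := Subgroup.mem_center_iff.mp (hQc h1) (QuotientGroup.mk g)
    rw [commutatorElement_def, QuotientGroup.mk_mul, QuotientGroup.mk_mul, QuotientGroup.mk_mul,
      h2, QuotientGroup.mk_inv, QuotientGroup.mk_inv]
    group
  obtain ⟨z, hz, hzZ⟩ := SetLike.not_le_iff_exists.mp hncl
  -- the homomorphism `g ↦ ⁅g, z⁆`
  let φ : P →* N :=
    { toFun := fun g => ⟨⁅g, z⁆, hPN z hz g⟩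
      map_one' := by
        apply Subtype.ext
        simp
      map_mul' := by
        intro g k
        apply Subtype.ext
        show ⁅g * k, z⁆ = ⁅g, z⁆ * ⁅k, z⁆
        have hk : ⁅k, z⁆ ∈ Subgroup.center P := hNZ (hPN z hz k)
        have e1 : ⁅g * k, z⁆ = g * ⁅k, z⁆ * g⁻¹ * ⁅g, z⁆ := by
          rw [commutatorElement_def, commutatorElement_def, commutatorElement_def]; group
        have e2 : g * ⁅k, z⁆ = ⁅k, z⁆ * g := Subgroup.mem_center_iff.mp hk g
        rw [e1, e2, mul_assoc _ g, mul_inv_cancel, mul_one]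
        exact (Subgroup.mem_center_iff.mp hk _).symm }
  have hφ : ∀ g, ((φ g : N) : P) = ⁅g, z⁆ := fun g => rfl
  set C := φ.ker with hC
  have hCmem : ∀ g, g ∈ C ↔ g * z = z * g := by
    intro g
    rw [hC, MonoidHom.mem_ker, Subtype.ext_iff, hφ, Subgroup.coe_one,
      commutatorElement_eq_one_iff_mul_comm]
  have hCidx : C.index ∣ p := by
    rw [hC, Subgroup.index_ker, ← hN]
    exact Subgroup.card_subgroup_dvd_card _
  have hNC : N ≤ C := by
    intro n hn
    rw [hCmem]
    exact (Subgroup.mem_center_iff.mp (hNZ hn) z).symm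
  -- `P' = N ⊔ ⟨z⟩`
  have hzN : z ∉ N := fun h => hzZ (hNZ h)
  have hsup : N ⊔ Subgroup.zpowers z = commutator P := by
    have hle : N ⊔ Subgroup.zpowers z ≤ commutator P :=
      sup_le hNc (Subgroup.zpowers_le.mpr hz)
    by_contra hne
    have hpd : p ∣ Nat.card (N ⊔ Subgroup.zpowers z : Subgroup P) :=
      hN ▸ Subgroup.card_dvd_of_le le_sup_left
    have hcard := card_eq_prime_of_lt p hP' hle hne hpd
    have : N = N ⊔ Subgroup.zpowers z :=
      Subgroup.eq_of_le_of_card_ge le_sup_left (by rw [hcard, hN])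
    apply hzN
    rw [this]
    exact Subgroup.mem_sup_right (Subgroup.mem_zpowers z)
  -- `P'` centralises `C`
  have hcent : commutator P ≤ Subgroup.centralizer (C : Set P) := by
    rw [← hsup]
    apply sup_le
    · exact hNZ.trans (Subgroup.center_le_centralizer _)
    · rw [Subgroup.zpowers_le, Subgroup.mem_centralizer_iff]
      intro c hc
      exact (hCmem c).mp hc
  -- three subgroups lemma
  have h3 : ⁅⁅C, C⁆, (⊤ : Subgroup P)⁆ = ⊥ := by
    apply Subgroup.commutator_commutator_eq_bot_of_rotate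
    · rw [Subgroup.commutator_eq_bot_iff_le_centralizer]
      refine le_trans ?_ hcent
      rw [commutator_def]
      exact Subgroup.commutator_mono le_top le_top
    · rw [Subgroup.commutator_eq_bot_iff_le_centralizer]
      refine le_trans ?_ hcent
      rw [commutator_def]
      exact Subgroup.commutator_mono le_top le_top
  have hCC : ⁅C, C⁆ ≤ Subgroup.center P :=
    Subgroup.commutator_top_right_eq_bot_iff_le_center.mp h3
  have hCC' : ⁅C, C⁆ ≤ commutator P := by
    rw [commutator_def]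
    exact Subgroup.commutator_mono le_top le_top
  -- `Z(P) ∩ P' = N`
  have hinf : Subgroup.center P ⊓ commutator P = N := by
    have hle : N ≤ Subgroup.center P ⊓ commutator P := le_inf hNZ hNc
    have hne : Subgroup.center P ⊓ commutator P ≠ commutator P := by
      intro h
      exact hncl (h ▸ inf_le_left)
    have hpd : p ∣ Nat.card (Subgroup.center P ⊓ commutator P : Subgroup P) :=
      hN ▸ Subgroup.card_dvd_of_le hle
    have hcard := card_eq_prime_of_lt p hP' inf_le_right hne hpd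
    exact (Subgroup.eq_of_le_of_card_ge hle (by rw [hcard, hN])).symm
  refine ⟨C.map (QuotientGroup.mk' N), ?_, ?_⟩
  · rintro _ ⟨c₁, hc₁, rfl⟩ _ ⟨c₂, hc₂, rfl⟩
    rw [QuotientGroup.mk'_apply, QuotientGroup.mk'_apply, ← QuotientGroup.mk_mul,
      ← QuotientGroup.mk_mul, QuotientGroup.eq]
    have h4 : ⁅c₂⁻¹, c₁⁻¹⁆ ∈ ⁅C, C⁆ :=
      Subgroup.commutator_mem_commutator (C.inv_mem hc₂) (C.inv_mem hc₁)
    have h5 : ⁅c₂⁻¹, c₁⁻¹⁆ ∈ N := by
      rw [← hinf]
      exact ⟨hCC h4, hCC' h4⟩
    have : (c₁ * c₂)⁻¹ * (c₂ * c₁) = ⁅c₂⁻¹, c₁⁻¹⁆ := by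
      rw [commutatorElement_def]; group
    rw [this]; exact h5
  · rw [Subgroup.index_map_eq C (QuotientGroup.mk'_surjective N)
      (by rwa [QuotientGroup.ker_mk'])]
    exact hCidx

end caseA

section omega

variable {P : Type*} [Group P] [Finite P]

/-- In a group with cyclic centre, a central subgroup `D` of order `p` contains every central
element of order dividing `p`. -/
theorem mem_of_pow_eq_one_of_isCyclic_center (p : ℕ) [hp : Fact p.Prime]
    (hcyc : IsCyclic (Subgroup.center P)) (D : Subgroup P) (hD : D ≤ Subgroup.center P)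
    (hDp : Nat.card D = p) {w : P} (hw : w ∈ Subgroup.center P) (hwp : w ^ p = 1) : w ∈ D := by
  classical
  have := Fintype.ofFinite (Subgroup.center P)
  have hS : (Finset.univ.filter (fun a : Subgroup.center P => a ^ p = 1)).card ≤ p :=
    IsCyclic.card_pow_eq_one_le hp.out.pos
  set T : Finset (Subgroup.center P) := Finset.univ.filter (fun a => (a : P) ∈ D) with hT
  have hTS : T ⊆ Finset.univ.filter (fun a : Subgroup.center P => a ^ p = 1) := by
    intro a ha
    rw [hT, Finset.mem_filter] at ha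
    rw [Finset.mem_filter]
    refine ⟨Finset.mem_univ _, ?_⟩
    apply Subtype.ext
    rw [Subgroup.coe_pow, Subgroup.coe_one]
    have h1 : (⟨(a : P), ha.2⟩ : D) ^ Nat.card D = 1 := pow_card_eq_one'
    rw [hDp] at h1
    exact congrArg Subtype.val h1
  have hTcard : T.card = p := by
    rw [← hDp, hT, ← Fintype.card_subtype, ← Nat.card_eq_fintype_card]
    apply Nat.card_congr
    exact
      { toFun := fun a => ⟨(a : Subgroup.center P), a.2⟩
        invFun := fun d => ⟨⟨(d : P), hD d.2⟩, d.2⟩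
        left_inv := fun a => rfl
        right_inv := fun d => rfl }
  have hEq : T = Finset.univ.filter (fun a : Subgroup.center P => a ^ p = 1) :=
    Finset.eq_of_subset_of_card_le hTS (by rw [hTcard]; exact hS)
  have hwS : (⟨w, hw⟩ : Subgroup.center P) ∈
      Finset.univ.filter (fun a : Subgroup.center P => a ^ p = 1) := by
    rw [Finset.mem_filter]
    refine ⟨Finset.mem_univ _, ?_⟩
    apply Subtype.ext
    rw [Subgroup.coe_pow, Subgroup.coe_one]
    exact hwp
  rw [← hEq, hT, Finset.mem_filter] at hwS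
  exact hwS.2

end omega


section central

variable {P : Type*} [Group P] [Finite P]

/-- A non-trivial `p`-subgroup contains an element of order `p`. -/
theorem exists_orderOf_eq_prime (p : ℕ) [hp : Fact p.Prime] (hP : IsPGroup p P)
    (H : Subgroup P) (hH : H ≠ ⊥) : ∃ x ∈ H, orderOf x = p := by
  have hHp : IsPGroup p H := hP.to_subgroup H
  obtain ⟨n, hn⟩ := hHp.exists_card_eq
  have hn0 : n ≠ 0 := by
    rintro rfl
    rw [pow_zero] at hn
    exact hH (Subgroup.card_eq_one.mp hn)
  have hdvd : p ∣ Nat.card H := by rw [hn]; exact dvd_pow_self p hn0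
  obtain ⟨x, hx⟩ := exists_prime_orderOf_dvd_card' p hdvd
  exact ⟨x, x.2, by rw [← hx, Subgroup.orderOf_coe]⟩

/-- In a finite `p`-group, a non-trivial normal subgroup contains a central subgroup of order
`p`. -/
theorem exists_central_of_normal (p : ℕ) [hp : Fact p.Prime] (hP : IsPGroup p P) :
    ∀ (n : ℕ) (H : Subgroup P) [H.Normal], Nat.card H = n → H ≠ ⊥ →
      ∃ N : Subgroup P, N ≤ Subgroup.center P ∧ N ≤ H ∧ Nat.card N = p := by
  have : Group.IsNilpotent P := hP.isNilpotent
  intro n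
  induction n using Nat.strong_induction_on with
  | _ n ih =>
  intro H _ hn hH
  by_cases hc : ⁅H, (⊤ : Subgroup P)⁆ = ⊥
  · have hHZ : H ≤ Subgroup.center P :=
      Subgroup.commutator_top_right_eq_bot_iff_le_center.mp hc
    obtain ⟨x, hxH, hx⟩ := exists_orderOf_eq_prime p hP H hH
    refine ⟨Subgroup.zpowers x, ?_, ?_, ?_⟩
    · exact (Subgroup.zpowers_le.mpr hxH).trans hHZ
    · exact Subgroup.zpowers_le.mpr hxH
    · rw [Nat.card_zpowers, hx]
  · have hlt := Helper76_PGroup.commutator_top_lt H hH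
    have hcard : Nat.card (⁅H, (⊤ : Subgroup P)⁆ : Subgroup P) < n := by
      rw [← hn]
      by_contra hge
      push Not at hge
      exact hlt.ne (Subgroup.eq_of_le_of_card_ge hlt.le hge)
    obtain ⟨N, h1, h2, h3⟩ := ih _ hcard ⁅H, (⊤ : Subgroup P)⁆ rfl hc
    exact ⟨N, h1, h2.trans hlt.le, h3⟩

end central

end Cfsg.Agent.Lib.Helper76_GalConjGrp
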