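import Mathlib

/-!
# Column-by-column decomposition of a Gram matrix: generic lemmas (helper76, S3702)

`sum_split`   : split a sum over a fintype along a duplicate-free list of indices.
`sq_lin`      : the linear lower bounds `|x| ≤ x²`, `3|x| - 2 ≤ x²` for integers.
`rem0 … rem3` : a nonnegative integer function whose squares sum to `0, 1, 2, 3` over a finset.
`bound1`, `bound2` : `x * x ≤ 3` (resp. `4`) bounds `|x|` by `1` (resp. `2`).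
-/

set_option autoImplicit false

namespace Cfsg.Agent.Lib.Helper76_ShapeLib

theorem sq_lin (x : ℤ) : x ≤ x ^ 2 ∧ -x ≤ x ^ 2 ∧ 3 * x - 2 ≤ x ^ 2 ∧ -3 * x - 2 ≤ x ^ 2 := by
  refine ⟨?_, ?_, ?_, ?_⟩
  · rcases le_or_gt x 0 with h | h
    · nlinarith [sq_nonneg x]
    · nlinarith
  · rcases le_or_gt 0 x with h | h
    · nlinarith [sq_nonneg x]
    · nlinarith
  · rcases le_or_gt x 1 with h | h
    · nlinarith [mul_nonneg (sub_nonneg.2 h) (by linarith : (0 : ℤ) ≤ 2 - x)]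
    · have h2 : 2 ≤ x := h
      nlinarith [mul_nonneg (by linarith : (0 : ℤ) ≤ x - 1) (sub_nonneg.2 h2)]
  · rcases le_or_gt (-1) x with h | h
    · nlinarith [mul_nonneg (by linarith : (0 : ℤ) ≤ x + 1) (by linarith : (0 : ℤ) ≤ x + 2)]
    · have h2 : x ≤ -2 := by omega
      nlinarith [mul_nonneg (by linarith : (0 : ℤ) ≤ -x - 1) (by linarith : (0 : ℤ) ≤ -x - 2)]

theorem bound2 (x : ℤ) (h : x * x ≤ 4) : -2 ≤ x ∧ x ≤ 2 := by
  constructor <;> nlinarith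

theorem bound1 (x : ℤ) (h : x * x ≤ 3) : -1 ≤ x ∧ x ≤ 1 := by
  constructor <;> nlinarith

section
variable {ι : Type*} [Fintype ι] [DecidableEq ι]

theorem sum_split (L : List ι) (hL : L.Nodup) (f : ι → ℤ) :
    ∑ i, f i = (L.map f).sum + ∑ i ∈ (Finset.univ \ L.toFinset), f i := by
  rw [← List.sum_toFinset f hL, add_comm]
  exact (Finset.sum_sdiff (Finset.subset_univ _)).symm

theorem mem_rest (L : List ι) (i : ι) : i ∈ (Finset.univ \ L.toFinset) ↔ i ∉ L := by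
  simp

end

variable {ι : Type*} [DecidableEq ι]

omit [DecidableEq ι] in
theorem rem0 (S : Finset ι) (f : ι → ℤ) (h : ∑ i ∈ S, f i * f i = 0) : ∀ i ∈ S, f i = 0 := by
  intro i hi
  have h0 := (Finset.sum_eq_zero_iff_of_nonneg (fun j _ => mul_self_nonneg (f j))).1 h i hi
  exact mul_self_eq_zero.1 h0

/-- peel off one index where `f` is nonzero -/
theorem peel (S : Finset ι) (f : ι → ℤ) (hf : ∀ i ∈ S, 0 ≤ f i) (n : ℤ) (hn : 1 ≤ n) (hn3 : n ≤ 3)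
    (h : ∑ i ∈ S, f i * f i = n) :
    ∃ a ∈ S, f a = 1 ∧ ∑ i ∈ S.erase a, f i * f i = n - 1 := by
  have hex : ∃ a ∈ S, f a ≠ 0 := by
    by_contra hcon
    have hcon' : ∀ i ∈ S, f i = 0 := fun i hi => by
      by_contra hne
      exact hcon ⟨i, hi, hne⟩
    have : ∑ i ∈ S, f i * f i = 0 := Finset.sum_eq_zero fun i hi => by rw [hcon' i hi]; ring
    omega
  obtain ⟨a, ha, hfa⟩ := hex
  have hsplit := Finset.add_sum_erase S (fun i => f i * f i) ha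
  have hnn : 0 ≤ ∑ i ∈ S.erase a, f i * f i := Finset.sum_nonneg fun j _ => mul_self_nonneg (f j)
  have h0 : 0 ≤ f a := hf a ha
  have h1 : 1 ≤ f a := by omega
  have h2 : f a ≤ 1 := by
    by_contra hgt
    have h2' : 2 ≤ f a := by omega
    have : 4 ≤ f a * f a := by nlinarith
    omega
  have hfa1 : f a = 1 := le_antisymm h2 h1
  refine ⟨a, ha, hfa1, ?_⟩
  rw [hfa1] at hsplit
  omega

theorem rem1 (S : Finset ι) (f : ι → ℤ) (hf : ∀ i ∈ S, 0 ≤ f i) (h : ∑ i ∈ S, f i * f i = 1) :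
    ∃ a ∈ S, f a = 1 ∧ ∀ i ∈ S, i ≠ a → f i = 0 := by
  obtain ⟨a, ha, hfa, hr⟩ := peel S f hf 1 le_rfl (by norm_num) h
  refine ⟨a, ha, hfa, fun i hi hia => ?_⟩
  exact rem0 (S.erase a) f (by simpa using hr) i (Finset.mem_erase.2 ⟨hia, hi⟩)

theorem rem2 (S : Finset ι) (f : ι → ℤ) (hf : ∀ i ∈ S, 0 ≤ f i) (h : ∑ i ∈ S, f i * f i = 2) :
    ∃ a ∈ S, ∃ b ∈ S, a ≠ b ∧ f a = 1 ∧ f b = 1 ∧ ∀ i ∈ S, i ≠ a → i ≠ b → f i = 0 := by
  obtain ⟨a, ha, hfa, hr⟩ := peel S f hf 2 (by norm_num) (by norm_num) h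
  have hf' : ∀ i ∈ S.erase a, 0 ≤ f i := fun i hi => hf i (Finset.mem_of_mem_erase hi)
  obtain ⟨b, hb, hfb, hz⟩ := rem1 (S.erase a) f hf' (by simpa using hr)
  have hb' := Finset.mem_erase.1 hb
  refine ⟨a, ha, b, hb'.2, fun e => hb'.1 e.symm, hfa, hfb, fun i hi hia hib => ?_⟩
  exact hz i (Finset.mem_erase.2 ⟨hia, hi⟩) hib

theorem rem3 (S : Finset ι) (f : ι → ℤ) (hf : ∀ i ∈ S, 0 ≤ f i) (h : ∑ i ∈ S, f i * f i = 3) :
    ∃ a ∈ S, ∃ b ∈ S, ∃ c ∈ S, a ≠ b ∧ a ≠ c ∧ b ≠ c ∧ f a = 1 ∧ f b = 1 ∧ f c = 1 ∧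
      ∀ i ∈ S, i ≠ a → i ≠ b → i ≠ c → f i = 0 := by
  obtain ⟨a, ha, hfa, hr⟩ := peel S f hf 3 (by norm_num) (by norm_num) h
  have hf' : ∀ i ∈ S.erase a, 0 ≤ f i := fun i hi => hf i (Finset.mem_of_mem_erase hi)
  obtain ⟨b, hb, c, hc, hbc, hfb, hfc, hz⟩ := rem2 (S.erase a) f hf' (by simpa using hr)
  have hb' := Finset.mem_erase.1 hb
  have hc' := Finset.mem_erase.1 hc
  refine ⟨a, ha, b, hb'.2, c, hc'.2, fun e => hb'.1 e.symm, fun e => hc'.1 e.symm, hbc, hfa, hfb,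
    hfc, fun i hi hia hib hic => ?_⟩
  exact hz i (Finset.mem_erase.2 ⟨hia, hi⟩) hib hic

end Cfsg.Agent.Lib.Helper76_ShapeLib
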