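import Mathlib
import Cfsg.Agent.Lib.Helper76_ShapeLib

/-!
# S3702: column-by-column decomposition of the Gram matrix `Gm - r0 r0ᵀ` (helper76; MACHINE-GENERATED)

`St_k_s c0 … c(k-1)`: the first `k` columns realise the partial shape number `s` of level `k` (explicit rows at
pairwise distinct named indices, zero elsewhere).  `ar_k_s`: the integer solutions of the linear and norm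
constraints for the next column.  `ext_k_s`: the possible extensions of a partial shape by the next column.
-/

set_option autoImplicit false
set_option maxHeartbeats 1000000
set_option linter.unusedVariables false
set_option linter.unusedSimpArgs false

namespace Cfsg.Agent.Lib.Helper76_H648ShapeA

def St_1_0 {ι : Type*} (c0 : ι → ℤ) : Prop :=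
  ∃ i0 i1 : ι, (i0 ≠ i1) ∧
    (c0 i0 = 1 ∧ c0 i1 = 1) ∧
    ∀ i, i ≠ i0 → i ≠ i1 → (c0 i = 0)

def St_2_0 {ι : Type*} (c0 c1 : ι → ℤ) : Prop :=
  ∃ i0 i1 i2 i3 : ι, (i0 ≠ i1 ∧ i0 ≠ i2 ∧ i0 ≠ i3 ∧ i1 ≠ i2 ∧ i1 ≠ i3 ∧ i2 ≠ i3) ∧
    (c0 i0 = 1 ∧ c1 i0 = 0 ∧ c0 i1 = 1 ∧ c1 i1 = -1 ∧ c0 i2 = 0 ∧ c1 i2 = 1 ∧ c0 i3 = 0 ∧ c1 i3 = 1) ∧
    ∀ i, i ≠ i0 → i ≠ i1 → i ≠ i2 → i ≠ i3 → (c0 i = 0 ∧ c1 i = 0)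

def St_3_0 {ι : Type*} (c0 c1 c2 : ι → ℤ) : Prop :=
  ∃ i0 i1 i2 i3 i4 i5 : ι, (i0 ≠ i1 ∧ i0 ≠ i2 ∧ i0 ≠ i3 ∧ i0 ≠ i4 ∧ i0 ≠ i5 ∧ i1 ≠ i2 ∧ i1 ≠ i3 ∧ i1 ≠ i4 ∧ i1 ≠ i5 ∧ i2 ≠ i3 ∧ i2 ≠ i4 ∧ i2 ≠ i5 ∧ i3 ≠ i4 ∧ i3 ≠ i5 ∧ i4 ≠ i5) ∧
    (c0 i0 = 1 ∧ c1 i0 = 0 ∧ c2 i0 = 0 ∧ c0 i1 = 1 ∧ c1 i1 = -1 ∧ c2 i1 = 0 ∧ c0 i2 = 0 ∧ c1 i2 = 1 ∧ c2 i2 = 0 ∧ c0 i3 = 0 ∧ c1 i3 = 1 ∧ c2 i3 = 0 ∧ c0 i4 = 0 ∧ c1 i4 = 0 ∧ c2 i4 = 1 ∧ c0 i5 = 0 ∧ c1 i5 = 0 ∧ c2 i5 = 1) ∧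
    ∀ i, i ≠ i0 → i ≠ i1 → i ≠ i2 → i ≠ i3 → i ≠ i4 → i ≠ i5 → (c0 i = 0 ∧ c1 i = 0 ∧ c2 i = 0)

def St_3_1 {ι : Type*} (c0 c1 c2 : ι → ℤ) : Prop :=
  ∃ i0 i1 i2 i3 : ι, (i0 ≠ i1 ∧ i0 ≠ i2 ∧ i0 ≠ i3 ∧ i1 ≠ i2 ∧ i1 ≠ i3 ∧ i2 ≠ i3) ∧
    (c0 i0 = 1 ∧ c1 i0 = 0 ∧ c2 i0 = 0 ∧ c0 i1 = 1 ∧ c1 i1 = -1 ∧ c2 i1 = 0 ∧ c0 i2 = 0 ∧ c1 i2 = 1 ∧ c2 i2 = 1 ∧ c0 i3 = 0 ∧ c1 i3 = 1 ∧ c2 i3 = -1) ∧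
    ∀ i, i ≠ i0 → i ≠ i1 → i ≠ i2 → i ≠ i3 → (c0 i = 0 ∧ c1 i = 0 ∧ c2 i = 0)

def St_4_0 {ι : Type*} (c0 c1 c2 c3 : ι → ℤ) : Prop :=
  ∃ i0 i1 i2 i3 i4 i5 i6 : ι, (i0 ≠ i1 ∧ i0 ≠ i2 ∧ i0 ≠ i3 ∧ i0 ≠ i4 ∧ i0 ≠ i5 ∧ i0 ≠ i6 ∧ i1 ≠ i2 ∧ i1 ≠ i3 ∧ i1 ≠ i4 ∧ i1 ≠ i5 ∧ i1 ≠ i6 ∧ i2 ≠ i3 ∧ i2 ≠ i4 ∧ i2 ≠ i5 ∧ i2 ≠ i6 ∧ i3 ≠ i4 ∧ i3 ≠ i5 ∧ i3 ≠ i6 ∧ i4 ≠ i5 ∧ i4 ≠ i6 ∧ i5 ≠ i6) ∧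
    (c0 i0 = 1 ∧ c1 i0 = 0 ∧ c2 i0 = 0 ∧ c3 i0 = 0 ∧ c0 i1 = 1 ∧ c1 i1 = -1 ∧ c2 i1 = 0 ∧ c3 i1 = 1 ∧ c0 i2 = 0 ∧ c1 i2 = 1 ∧ c2 i2 = 0 ∧ c3 i2 = 0 ∧ c0 i3 = 0 ∧ c1 i3 = 1 ∧ c2 i3 = 0 ∧ c3 i3 = 0 ∧ c0 i4 = 0 ∧ c1 i4 = 0 ∧ c2 i4 = 1 ∧ c3 i4 = 0 ∧ c0 i5 = 0 ∧ c1 i5 = 0 ∧ c2 i5 = 1 ∧ c3 i5 = -1 ∧ c0 i6 = 0 ∧ c1 i6 = 0 ∧ c2 i6 = 0 ∧ c3 i6 = 1) ∧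
    ∀ i, i ≠ i0 → i ≠ i1 → i ≠ i2 → i ≠ i3 → i ≠ i4 → i ≠ i5 → i ≠ i6 → (c0 i = 0 ∧ c1 i = 0 ∧ c2 i = 0 ∧ c3 i = 0)

def St_4_1 {ι : Type*} (c0 c1 c2 c3 : ι → ℤ) : Prop :=
  ∃ i0 i1 i2 i3 i4 i5 : ι, (i0 ≠ i1 ∧ i0 ≠ i2 ∧ i0 ≠ i3 ∧ i0 ≠ i4 ∧ i0 ≠ i5 ∧ i1 ≠ i2 ∧ i1 ≠ i3 ∧ i1 ≠ i4 ∧ i1 ≠ i5 ∧ i2 ≠ i3 ∧ i2 ≠ i4 ∧ i2 ≠ i5 ∧ i3 ≠ i4 ∧ i3 ≠ i5 ∧ i4 ≠ i5) ∧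
    (c0 i0 = 1 ∧ c1 i0 = 0 ∧ c2 i0 = 0 ∧ c3 i0 = 1 ∧ c0 i1 = 1 ∧ c1 i1 = -1 ∧ c2 i1 = 0 ∧ c3 i1 = 0 ∧ c0 i2 = 0 ∧ c1 i2 = 1 ∧ c2 i2 = 0 ∧ c3 i2 = 0 ∧ c0 i3 = 0 ∧ c1 i3 = 1 ∧ c2 i3 = 0 ∧ c3 i3 = -1 ∧ c0 i4 = 0 ∧ c1 i4 = 0 ∧ c2 i4 = 1 ∧ c3 i4 = 0 ∧ c0 i5 = 0 ∧ c1 i5 = 0 ∧ c2 i5 = 1 ∧ c3 i5 = -1) ∧
    ∀ i, i ≠ i0 → i ≠ i1 → i ≠ i2 → i ≠ i3 → i ≠ i4 → i ≠ i5 → (c0 i = 0 ∧ c1 i = 0 ∧ c2 i = 0 ∧ c3 i = 0)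

def St_4_2 {ι : Type*} (c0 c1 c2 c3 : ι → ℤ) : Prop :=
  ∃ i0 i1 i2 i3 i4 : ι, (i0 ≠ i1 ∧ i0 ≠ i2 ∧ i0 ≠ i3 ∧ i0 ≠ i4 ∧ i1 ≠ i2 ∧ i1 ≠ i3 ∧ i1 ≠ i4 ∧ i2 ≠ i3 ∧ i2 ≠ i4 ∧ i3 ≠ i4) ∧
    (c0 i0 = 1 ∧ c1 i0 = 0 ∧ c2 i0 = 0 ∧ c3 i0 = 1 ∧ c0 i1 = 1 ∧ c1 i1 = -1 ∧ c2 i1 = 0 ∧ c3 i1 = 0 ∧ c0 i2 = 0 ∧ c1 i2 = 1 ∧ c2 i2 = 1 ∧ c3 i2 = -1 ∧ c0 i3 = 0 ∧ c1 i3 = 1 ∧ c2 i3 = -1 ∧ c3 i3 = 0 ∧ c0 i4 = 0 ∧ c1 i4 = 0 ∧ c2 i4 = 0 ∧ c3 i4 = 1) ∧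
    ∀ i, i ≠ i0 → i ≠ i1 → i ≠ i2 → i ≠ i3 → i ≠ i4 → (c0 i = 0 ∧ c1 i = 0 ∧ c2 i = 0 ∧ c3 i = 0)

def St_5_0 {ι : Type*} (c0 c1 c2 c3 c4 : ι → ℤ) : Prop :=
  ∃ i0 i1 i2 i3 i4 i5 i6 i7 : ι, (i0 ≠ i1 ∧ i0 ≠ i2 ∧ i0 ≠ i3 ∧ i0 ≠ i4 ∧ i0 ≠ i5 ∧ i0 ≠ i6 ∧ i0 ≠ i7 ∧ i1 ≠ i2 ∧ i1 ≠ i3 ∧ i1 ≠ i4 ∧ i1 ≠ i5 ∧ i1 ≠ i6 ∧ i1 ≠ i7 ∧ i2 ≠ i3 ∧ i2 ≠ i4 ∧ i2 ≠ i5 ∧ i2 ≠ i6 ∧ i2 ≠ i7 ∧ i3 ≠ i4 ∧ i3 ≠ i5 ∧ i3 ≠ i6 ∧ i3 ≠ i7 ∧ i4 ≠ i5 ∧ i4 ≠ i6 ∧ i4 ≠ i7 ∧ i5 ≠ i6 ∧ i5 ≠ i7 ∧ i6 ≠ i7) ∧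
    (c0 i0 = 1 ∧ c1 i0 = 0 ∧ c2 i0 = 0 ∧ c3 i0 = 0 ∧ c4 i0 = 0 ∧ c0 i1 = 1 ∧ c1 i1 = -1 ∧ c2 i1 = 0 ∧ c3 i1 = 1 ∧ c4 i1 = 0 ∧ c0 i2 = 0 ∧ c1 i2 = 1 ∧ c2 i2 = 0 ∧ c3 i2 = 0 ∧ c4 i2 = 1 ∧ c0 i3 = 0 ∧ c1 i3 = 1 ∧ c2 i3 = 0 ∧ c3 i3 = 0 ∧ c4 i3 = 0 ∧ c0 i4 = 0 ∧ c1 i4 = 0 ∧ c2 i4 = 1 ∧ c3 i4 = 0 ∧ c4 i4 = 0 ∧ c0 i5 = 0 ∧ c1 i5 = 0 ∧ c2 i5 = 1 ∧ c3 i5 = -1 ∧ c4 i5 = 0 ∧ c0 i6 = 0 ∧ c1 i6 = 0 ∧ c2 i6 = 0 ∧ c3 i6 = 1 ∧ c4 i6 = 1 ∧ c0 i7 = 0 ∧ c1 i7 = 0 ∧ c2 i7 = 0 ∧ c3 i7 = 0 ∧ c4 i7 = 1) ∧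
    ∀ i, i ≠ i0 → i ≠ i1 → i ≠ i2 → i ≠ i3 → i ≠ i4 → i ≠ i5 → i ≠ i6 → i ≠ i7 → (c0 i = 0 ∧ c1 i = 0 ∧ c2 i = 0 ∧ c3 i = 0 ∧ c4 i = 0)

def St_5_1 {ι : Type*} (c0 c1 c2 c3 c4 : ι → ℤ) : Prop :=
  ∃ i0 i1 i2 i3 i4 i5 i6 : ι, (i0 ≠ i1 ∧ i0 ≠ i2 ∧ i0 ≠ i3 ∧ i0 ≠ i4 ∧ i0 ≠ i5 ∧ i0 ≠ i6 ∧ i1 ≠ i2 ∧ i1 ≠ i3 ∧ i1 ≠ i4 ∧ i1 ≠ i5 ∧ i1 ≠ i6 ∧ i2 ≠ i3 ∧ i2 ≠ i4 ∧ i2 ≠ i5 ∧ i2 ≠ i6 ∧ i3 ≠ i4 ∧ i3 ≠ i5 ∧ i3 ≠ i6 ∧ i4 ≠ i5 ∧ i4 ≠ i6 ∧ i5 ≠ i6) ∧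
    (c0 i0 = 1 ∧ c1 i0 = 0 ∧ c2 i0 = 0 ∧ c3 i0 = 0 ∧ c4 i0 = 0 ∧ c0 i1 = 1 ∧ c1 i1 = -1 ∧ c2 i1 = 0 ∧ c3 i1 = 1 ∧ c4 i1 = 0 ∧ c0 i2 = 0 ∧ c1 i2 = 1 ∧ c2 i2 = 0 ∧ c3 i2 = 0 ∧ c4 i2 = 1 ∧ c0 i3 = 0 ∧ c1 i3 = 1 ∧ c2 i3 = 0 ∧ c3 i3 = 0 ∧ c4 i3 = 0 ∧ c0 i4 = 0 ∧ c1 i4 = 0 ∧ c2 i4 = 1 ∧ c3 i4 = 0 ∧ c4 i4 = 1 ∧ c0 i5 = 0 ∧ c1 i5 = 0 ∧ c2 i5 = 1 ∧ c3 i5 = -1 ∧ c4 i5 = -1 ∧ c0 i6 = 0 ∧ c1 i6 = 0 ∧ c2 i6 = 0 ∧ c3 i6 = 1 ∧ c4 i6 = 0) ∧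
    ∀ i, i ≠ i0 → i ≠ i1 → i ≠ i2 → i ≠ i3 → i ≠ i4 → i ≠ i5 → i ≠ i6 → (c0 i = 0 ∧ c1 i = 0 ∧ c2 i = 0 ∧ c3 i = 0 ∧ c4 i = 0)

def St_5_2 {ι : Type*} (c0 c1 c2 c3 c4 : ι → ℤ) : Prop :=
  ∃ i0 i1 i2 i3 i4 i5 : ι, (i0 ≠ i1 ∧ i0 ≠ i2 ∧ i0 ≠ i3 ∧ i0 ≠ i4 ∧ i0 ≠ i5 ∧ i1 ≠ i2 ∧ i1 ≠ i3 ∧ i1 ≠ i4 ∧ i1 ≠ i5 ∧ i2 ≠ i3 ∧ i2 ≠ i4 ∧ i2 ≠ i5 ∧ i3 ≠ i4 ∧ i3 ≠ i5 ∧ i4 ≠ i5) ∧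
    (c0 i0 = 1 ∧ c1 i0 = 0 ∧ c2 i0 = 0 ∧ c3 i0 = 1 ∧ c4 i0 = 0 ∧ c0 i1 = 1 ∧ c1 i1 = -1 ∧ c2 i1 = 0 ∧ c3 i1 = 0 ∧ c4 i1 = 0 ∧ c0 i2 = 0 ∧ c1 i2 = 1 ∧ c2 i2 = 0 ∧ c3 i2 = 0 ∧ c4 i2 = 1 ∧ c0 i3 = 0 ∧ c1 i3 = 1 ∧ c2 i3 = 0 ∧ c3 i3 = -1 ∧ c4 i3 = 0 ∧ c0 i4 = 0 ∧ c1 i4 = 0 ∧ c2 i4 = 1 ∧ c3 i4 = 0 ∧ c4 i4 = 1 ∧ c0 i5 = 0 ∧ c1 i5 = 0 ∧ c2 i5 = 1 ∧ c3 i5 = -1 ∧ c4 i5 = -1) ∧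
    ∀ i, i ≠ i0 → i ≠ i1 → i ≠ i2 → i ≠ i3 → i ≠ i4 → i ≠ i5 → (c0 i = 0 ∧ c1 i = 0 ∧ c2 i = 0 ∧ c3 i = 0 ∧ c4 i = 0)

def St_5_3 {ι : Type*} (c0 c1 c2 c3 c4 : ι → ℤ) : Prop :=
  ∃ i0 i1 i2 i3 i4 i5 i6 : ι, (i0 ≠ i1 ∧ i0 ≠ i2 ∧ i0 ≠ i3 ∧ i0 ≠ i4 ∧ i0 ≠ i5 ∧ i0 ≠ i6 ∧ i1 ≠ i2 ∧ i1 ≠ i3 ∧ i1 ≠ i4 ∧ i1 ≠ i5 ∧ i1 ≠ i6 ∧ i2 ≠ i3 ∧ i2 ≠ i4 ∧ i2 ≠ i5 ∧ i2 ≠ i6 ∧ i3 ≠ i4 ∧ i3 ≠ i5 ∧ i3 ≠ i6 ∧ i4 ≠ i5 ∧ i4 ≠ i6 ∧ i5 ≠ i6) ∧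
    (c0 i0 = 1 ∧ c1 i0 = 0 ∧ c2 i0 = 0 ∧ c3 i0 = 1 ∧ c4 i0 = 1 ∧ c0 i1 = 1 ∧ c1 i1 = -1 ∧ c2 i1 = 0 ∧ c3 i1 = 0 ∧ c4 i1 = -1 ∧ c0 i2 = 0 ∧ c1 i2 = 1 ∧ c2 i2 = 0 ∧ c3 i2 = 0 ∧ c4 i2 = 0 ∧ c0 i3 = 0 ∧ c1 i3 = 1 ∧ c2 i3 = 0 ∧ c3 i3 = -1 ∧ c4 i3 = 0 ∧ c0 i4 = 0 ∧ c1 i4 = 0 ∧ c2 i4 = 1 ∧ c3 i4 = 0 ∧ c4 i4 = 0 ∧ c0 i5 = 0 ∧ c1 i5 = 0 ∧ c2 i5 = 1 ∧ c3 i5 = -1 ∧ c4 i5 = 0 ∧ c0 i6 = 0 ∧ c1 i6 = 0 ∧ c2 i6 = 0 ∧ c3 i6 = 0 ∧ c4 i6 = 1) ∧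
    ∀ i, i ≠ i0 → i ≠ i1 → i ≠ i2 → i ≠ i3 → i ≠ i4 → i ≠ i5 → i ≠ i6 → (c0 i = 0 ∧ c1 i = 0 ∧ c2 i = 0 ∧ c3 i = 0 ∧ c4 i = 0)

def St_5_4 {ι : Type*} (c0 c1 c2 c3 c4 : ι → ℤ) : Prop :=
  ∃ i0 i1 i2 i3 i4 i5 : ι, (i0 ≠ i1 ∧ i0 ≠ i2 ∧ i0 ≠ i3 ∧ i0 ≠ i4 ∧ i0 ≠ i5 ∧ i1 ≠ i2 ∧ i1 ≠ i3 ∧ i1 ≠ i4 ∧ i1 ≠ i5 ∧ i2 ≠ i3 ∧ i2 ≠ i4 ∧ i2 ≠ i5 ∧ i3 ≠ i4 ∧ i3 ≠ i5 ∧ i4 ≠ i5) ∧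
    (c0 i0 = 1 ∧ c1 i0 = 0 ∧ c2 i0 = 0 ∧ c3 i0 = 1 ∧ c4 i0 = 1 ∧ c0 i1 = 1 ∧ c1 i1 = -1 ∧ c2 i1 = 0 ∧ c3 i1 = 0 ∧ c4 i1 = -1 ∧ c0 i2 = 0 ∧ c1 i2 = 1 ∧ c2 i2 = 1 ∧ c3 i2 = -1 ∧ c4 i2 = 0 ∧ c0 i3 = 0 ∧ c1 i3 = 1 ∧ c2 i3 = -1 ∧ c3 i3 = 0 ∧ c4 i3 = 0 ∧ c0 i4 = 0 ∧ c1 i4 = 0 ∧ c2 i4 = 0 ∧ c3 i4 = 1 ∧ c4 i4 = 0 ∧ c0 i5 = 0 ∧ c1 i5 = 0 ∧ c2 i5 = 0 ∧ c3 i5 = 0 ∧ c4 i5 = 1) ∧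
    ∀ i, i ≠ i0 → i ≠ i1 → i ≠ i2 → i ≠ i3 → i ≠ i4 → i ≠ i5 → (c0 i = 0 ∧ c1 i = 0 ∧ c2 i = 0 ∧ c3 i = 0 ∧ c4 i = 0)

def St_6_0 {ι : Type*} (c0 c1 c2 c3 c4 c5 : ι → ℤ) : Prop :=
  ∃ i0 i1 i2 i3 i4 i5 i6 i7 i8 i9 : ι, (i0 ≠ i1 ∧ i0 ≠ i2 ∧ i0 ≠ i3 ∧ i0 ≠ i4 ∧ i0 ≠ i5 ∧ i0 ≠ i6 ∧ i0 ≠ i7 ∧ i0 ≠ i8 ∧ i0 ≠ i9 ∧ i1 ≠ i2 ∧ i1 ≠ i3 ∧ i1 ≠ i4 ∧ i1 ≠ i5 ∧ i1 ≠ i6 ∧ i1 ≠ i7 ∧ i1 ≠ i8 ∧ i1 ≠ i9 ∧ i2 ≠ i3 ∧ i2 ≠ i4 ∧ i2 ≠ i5 ∧ i2 ≠ i6 ∧ i2 ≠ i7 ∧ i2 ≠ i8 ∧ i2 ≠ i9 ∧ i3 ≠ i4 ∧ i3 ≠ i5 ∧ i3 ≠ i6 ∧ i3 ≠ i7 ∧ i3 ≠ i8 ∧ i3 ≠ i9 ∧ i4 ≠ i5 ∧ i4 ≠ i6 ∧ i4 ≠ i7 ∧ i4 ≠ i8 ∧ i4 ≠ i9 ∧ i5 ≠ i6 ∧ i5 ≠ i7 ∧ i5 ≠ i8 ∧ i5 ≠ i9 ∧ i6 ≠ i7 ∧ i6 ≠ i8 ∧ i6 ≠ i9 ∧ i7 ≠ i8 ∧ i7 ≠ i9 ∧ i8 ≠ i9) ∧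
    (c0 i0 = 1 ∧ c1 i0 = 0 ∧ c2 i0 = 0 ∧ c3 i0 = 0 ∧ c4 i0 = 0 ∧ c5 i0 = 0 ∧ c0 i1 = 1 ∧ c1 i1 = -1 ∧ c2 i1 = 0 ∧ c3 i1 = 1 ∧ c4 i1 = 0 ∧ c5 i1 = 1 ∧ c0 i2 = 0 ∧ c1 i2 = 1 ∧ c2 i2 = 0 ∧ c3 i2 = 0 ∧ c4 i2 = 1 ∧ c5 i2 = 0 ∧ c0 i3 = 0 ∧ c1 i3 = 1 ∧ c2 i3 = 0 ∧ c3 i3 = 0 ∧ c4 i3 = 0 ∧ c5 i3 = 0 ∧ c0 i4 = 0 ∧ c1 i4 = 0 ∧ c2 i4 = 1 ∧ c3 i4 = 0 ∧ c4 i4 = 0 ∧ c5 i4 = 0 ∧ c0 i5 = 0 ∧ c1 i5 = 0 ∧ c2 i5 = 1 ∧ c3 i5 = -1 ∧ c4 i5 = 0 ∧ c5 i5 = 0 ∧ c0 i6 = 0 ∧ c1 i6 = 0 ∧ c2 i6 = 0 ∧ c3 i6 = 1 ∧ c4 i6 = 1 ∧ c5 i6 = 0 ∧ c0 i7 = 0 ∧ c1 i7 = 0 ∧ c2 i7 = 0 ∧ c3 i7 = 0 ∧ c4 i7 = 1 ∧ c5 i7 = 0 ∧ c0 i8 = 0 ∧ c1 i8 = 0 ∧ c2 i8 = 0 ∧ c3 i8 = 0 ∧ c4 i8 = 0 ∧ c5 i8 = 1 ∧ c0 i9 = 0 ∧ c1 i9 = 0 ∧ c2 i9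 = 0 ∧ c3 i9 = 0 ∧ c4 i9 = 0 ∧ c5 i9 = 1) ∧
    ∀ i, i ≠ i0 → i ≠ i1 → i ≠ i2 → i ≠ i3 → i ≠ i4 → i ≠ i5 → i ≠ i6 → i ≠ i7 → i ≠ i8 → i ≠ i9 → (c0 i = 0 ∧ c1 i = 0 ∧ c2 i = 0 ∧ c3 i = 0 ∧ c4 i = 0 ∧ c5 i = 0)

def St_6_1 {ι : Type*} (c0 c1 c2 c3 c4 c5 : ι → ℤ) : Prop :=
  ∃ i0 i1 i2 i3 i4 i5 i6 i7 : ι, (i0 ≠ i1 ∧ i0 ≠ i2 ∧ i0 ≠ i3 ∧ i0 ≠ i4 ∧ i0 ≠ i5 ∧ i0 ≠ i6 ∧ i0 ≠ i7 ∧ i1 ≠ i2 ∧ i1 ≠ i3 ∧ i1 ≠ i4 ∧ i1 ≠ i5 ∧ i1 ≠ i6 ∧ i1 ≠ i7 ∧ i2 ≠ i3 ∧ i2 ≠ i4 ∧ i2 ≠ i5 ∧ i2 ≠ i6 ∧ i2 ≠ i7 ∧ i3 ≠ i4 ∧ i3 ≠ i5 ∧ i3 ≠ i6 ∧ i3 ≠ i7 ∧ i4 ≠ i5 ∧ i4 ≠ i6 ∧ i4 ≠ i7 ∧ i5 ≠ i6 ∧ i5 ≠ i7 ∧ i6 ≠ i7) ∧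
    (c0 i0 = 1 ∧ c1 i0 = 0 ∧ c2 i0 = 0 ∧ c3 i0 = 0 ∧ c4 i0 = 0 ∧ c5 i0 = 1 ∧ c0 i1 = 1 ∧ c1 i1 = -1 ∧ c2 i1 = 0 ∧ c3 i1 = 1 ∧ c4 i1 = 0 ∧ c5 i1 = 0 ∧ c0 i2 = 0 ∧ c1 i2 = 1 ∧ c2 i2 = 0 ∧ c3 i2 = 0 ∧ c4 i2 = 1 ∧ c5 i2 = -1 ∧ c0 i3 = 0 ∧ c1 i3 = 1 ∧ c2 i3 = 0 ∧ c3 i3 = 0 ∧ c4 i3 = 0 ∧ c5 i3 = 0 ∧ c0 i4 = 0 ∧ c1 i4 = 0 ∧ c2 i4 = 1 ∧ c3 i4 = 0 ∧ c4 i4 = 0 ∧ c5 i4 = 0 ∧ c0 i5 = 0 ∧ c1 i5 = 0 ∧ c2 i5 = 1 ∧ c3 i5 = -1 ∧ c4 i5 = 0 ∧ c5 i5 = 0 ∧ c0 i6 = 0 ∧ c1 i6 = 0 ∧ c2 i6 = 0 ∧ c3 i6 = 1 ∧ c4 i6 = 1 ∧ c5 i6 = 1 ∧ c0 i7 = 0 ∧ c1 i7 = 0 ∧ c2 i7 = 0 ∧ c3 i7 = 0 ∧ c4 i7 = 1 ∧ c5 i7 = 0) ∧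
    ∀ i, i ≠ i0 → i ≠ i1 → i ≠ i2 → i ≠ i3 → i ≠ i4 → i ≠ i5 → i ≠ i6 → i ≠ i7 → (c0 i = 0 ∧ c1 i = 0 ∧ c2 i = 0 ∧ c3 i = 0 ∧ c4 i = 0 ∧ c5 i = 0)

def St_6_2 {ι : Type*} (c0 c1 c2 c3 c4 c5 : ι → ℤ) : Prop :=
  ∃ i0 i1 i2 i3 i4 i5 i6 i7 i8 : ι, (i0 ≠ i1 ∧ i0 ≠ i2 ∧ i0 ≠ i3 ∧ i0 ≠ i4 ∧ i0 ≠ i5 ∧ i0 ≠ i6 ∧ i0 ≠ i7 ∧ i0 ≠ i8 ∧ i1 ≠ i2 ∧ i1 ≠ i3 ∧ i1 ≠ i4 ∧ i1 ≠ i5 ∧ i1 ≠ i6 ∧ i1 ≠ i7 ∧ i1 ≠ i8 ∧ i2 ≠ i3 ∧ i2 ≠ i4 ∧ i2 ≠ i5 ∧ i2 ≠ i6 ∧ i2 ≠ i7 ∧ i2 ≠ i8 ∧ i3 ≠ i4 ∧ i3 ≠ i5 ∧ i3 ≠ i6 ∧ i3 ≠ i7 ∧ i3 ≠ i8 ∧ i4 ≠ i5 ∧ i4 ≠ i6 ∧ i4 ≠ i7 ∧ i4 ≠ i8 ∧ i5 ≠ i6 ∧ i5 ≠ i7 ∧ i5 ≠ i8 ∧ i6 ≠ i7 ∧ i6 ≠ i8 ∧ i7 ≠ i8) ∧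
    (c0 i0 = 1 ∧ c1 i0 = 0 ∧ c2 i0 = 0 ∧ c3 i0 = 0 ∧ c4 i0 = 0 ∧ c5 i0 = 0 ∧ c0 i1 = 1 ∧ c1 i1 = -1 ∧ c2 i1 = 0 ∧ c3 i1 = 1 ∧ c4 i1 = 0 ∧ c5 i1 = 1 ∧ c0 i2 = 0 ∧ c1 i2 = 1 ∧ c2 i2 = 0 ∧ c3 i2 = 0 ∧ c4 i2 = 1 ∧ c5 i2 = 0 ∧ c0 i3 = 0 ∧ c1 i3 = 1 ∧ c2 i3 = 0 ∧ c3 i3 = 0 ∧ c4 i3 = 0 ∧ c5 i3 = 0 ∧ c0 i4 = 0 ∧ c1 i4 = 0 ∧ c2 i4 = 1 ∧ c3 i4 = 0 ∧ c4 i4 = 1 ∧ c5 i4 = 0 ∧ c0 i5 = 0 ∧ c1 i5 = 0 ∧ c2 i5 = 1 ∧ c3 i5 = -1 ∧ c4 i5 = -1 ∧ c5 i5 = 0 ∧ c0 i6 = 0 ∧ c1 i6 = 0 ∧ c2 i6 = 0 ∧ c3 i6 = 1 ∧ c4 i6 = 0 ∧ c5 i6 = 0 ∧ c0 i7 = 0 ∧ c1 i7 = 0 ∧ c2 i7 = 0 ∧ c3 i7 = 0 ∧ c4 i7 = 0 ∧ c5 i7 = 1 ∧ c0 i8 = 0 ∧ c1 i8 = 0 ∧ c2 i8 = 0 ∧ c3 i8 = 0 ∧ c4 i8 = 0 ∧ c5 i8 = 1) ∧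
    ∀ i, i ≠ i0 → i ≠ i1 → i ≠ i2 → i ≠ i3 → i ≠ i4 → i ≠ i5 → i ≠ i6 → i ≠ i7 → i ≠ i8 → (c0 i = 0 ∧ c1 i = 0 ∧ c2 i = 0 ∧ c3 i = 0 ∧ c4 i = 0 ∧ c5 i = 0)

def St_6_3 {ι : Type*} (c0 c1 c2 c3 c4 c5 : ι → ℤ) : Prop :=
  ∃ i0 i1 i2 i3 i4 i5 i6 : ι, (i0 ≠ i1 ∧ i0 ≠ i2 ∧ i0 ≠ i3 ∧ i0 ≠ i4 ∧ i0 ≠ i5 ∧ i0 ≠ i6 ∧ i1 ≠ i2 ∧ i1 ≠ i3 ∧ i1 ≠ i4 ∧ i1 ≠ i5 ∧ i1 ≠ i6 ∧ i2 ≠ i3 ∧ i2 ≠ i4 ∧ i2 ≠ i5 ∧ i2 ≠ i6 ∧ i3 ≠ i4 ∧ i3 ≠ i5 ∧ i3 ≠ i6 ∧ i4 ≠ i5 ∧ i4 ≠ i6 ∧ i5 ≠ i6) ∧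
    (c0 i0 = 1 ∧ c1 i0 = 0 ∧ c2 i0 = 0 ∧ c3 i0 = 0 ∧ c4 i0 = 0 ∧ c5 i0 = 1 ∧ c0 i1 = 1 ∧ c1 i1 = -1 ∧ c2 i1 = 0 ∧ c3 i1 = 1 ∧ c4 i1 = 0 ∧ c5 i1 = 0 ∧ c0 i2 = 0 ∧ c1 i2 = 1 ∧ c2 i2 = 0 ∧ c3 i2 = 0 ∧ c4 i2 = 1 ∧ c5 i2 = 0 ∧ c0 i3 = 0 ∧ c1 i3 = 1 ∧ c2 i3 = 0 ∧ c3 i3 = 0 ∧ c4 i3 = 0 ∧ c5 i3 = -1 ∧ c0 i4 = 0 ∧ c1 i4 = 0 ∧ c2 i4 = 1 ∧ c3 i4 = 0 ∧ c4 i4 = 1 ∧ c5 i4 = 0 ∧ c0 i5 = 0 ∧ c1 i5 = 0 ∧ c2 i5 = 1 ∧ c3 i5 = -1 ∧ c4 i5 = -1 ∧ c5 i5 = 0 ∧ c0 i6 = 0 ∧ c1 i6 = 0 ∧ c2 i6 = 0 ∧ c3 i6 = 1 ∧ c4 i6 = 0 ∧ c5 i6 = 1) ∧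
    ∀ i, i ≠ i0 → i ≠ i1 → i ≠ i2 → i ≠ i3 → i ≠ i4 → i ≠ i5 → i ≠ i6 → (c0 i = 0 ∧ c1 i = 0 ∧ c2 i = 0 ∧ c3 i = 0 ∧ c4 i = 0 ∧ c5 i = 0)

def St_6_4 {ι : Type*} (c0 c1 c2 c3 c4 c5 : ι → ℤ) : Prop :=
  ∃ i0 i1 i2 i3 i4 i5 i6 : ι, (i0 ≠ i1 ∧ i0 ≠ i2 ∧ i0 ≠ i3 ∧ i0 ≠ i4 ∧ i0 ≠ i5 ∧ i0 ≠ i6 ∧ i1 ≠ i2 ∧ i1 ≠ i3 ∧ i1 ≠ i4 ∧ i1 ≠ i5 ∧ i1 ≠ i6 ∧ i2 ≠ i3 ∧ i2 ≠ i4 ∧ i2 ≠ i5 ∧ i2 ≠ i6 ∧ i3 ≠ i4 ∧ i3 ≠ i5 ∧ i3 ≠ i6 ∧ i4 ≠ i5 ∧ i4 ≠ i6 ∧ i5 ≠ i6) ∧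
    (c0 i0 = 1 ∧ c1 i0 = 0 ∧ c2 i0 = 0 ∧ c3 i0 = 1 ∧ c4 i0 = 1 ∧ c5 i0 = 1 ∧ c0 i1 = 1 ∧ c1 i1 = -1 ∧ c2 i1 = 0 ∧ c3 i1 = 0 ∧ c4 i1 = -1 ∧ c5 i1 = 0 ∧ c0 i2 = 0 ∧ c1 i2 = 1 ∧ c2 i2 = 0 ∧ c3 i2 = 0 ∧ c4 i2 = 0 ∧ c5 i2 = -1 ∧ c0 i3 = 0 ∧ c1 i3 = 1 ∧ c2 i3 = 0 ∧ c3 i3 = -1 ∧ c4 i3 = 0 ∧ c5 i3 = 0 ∧ c0 i4 = 0 ∧ c1 i4 = 0 ∧ c2 i4 = 1 ∧ c3 i4 = 0 ∧ c4 i4 = 0 ∧ c5 i4 = 0 ∧ c0 i5 = 0 ∧ c1 i5 = 0 ∧ c2 i5 = 1 ∧ c3 i5 = -1 ∧ c4 i5 = 0 ∧ c5 i5 = 0 ∧ c0 i6 = 0 ∧ c1 i6 = 0 ∧ c2 i6 = 0 ∧ c3 i6 = 0 ∧ c4 i6 = 1 ∧ c5 i6 = -1) ∧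
    ∀ i, i ≠ i0 → i ≠ i1 → i ≠ i2 → i ≠ i3 → i ≠ i4 → i ≠ i5 → i ≠ i6 → (c0 i = 0 ∧ c1 i = 0 ∧ c2 i = 0 ∧ c3 i = 0 ∧ c4 i = 0 ∧ c5 i = 0)

def St_6_5 {ι : Type*} (c0 c1 c2 c3 c4 c5 : ι → ℤ) : Prop :=
  ∃ i0 i1 i2 i3 i4 i5 : ι, (i0 ≠ i1 ∧ i0 ≠ i2 ∧ i0 ≠ i3 ∧ i0 ≠ i4 ∧ i0 ≠ i5 ∧ i1 ≠ i2 ∧ i1 ≠ i3 ∧ i1 ≠ i4 ∧ i1 ≠ i5 ∧ i2 ≠ i3 ∧ i2 ≠ i4 ∧ i2 ≠ i5 ∧ i3 ≠ i4 ∧ i3 ≠ i5 ∧ i4 ≠ i5) ∧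
    (c0 i0 = 1 ∧ c1 i0 = 0 ∧ c2 i0 = 0 ∧ c3 i0 = 1 ∧ c4 i0 = 1 ∧ c5 i0 = 0 ∧ c0 i1 = 1 ∧ c1 i1 = -1 ∧ c2 i1 = 0 ∧ c3 i1 = 0 ∧ c4 i1 = -1 ∧ c5 i1 = 1 ∧ c0 i2 = 0 ∧ c1 i2 = 1 ∧ c2 i2 = 1 ∧ c3 i2 = -1 ∧ c4 i2 = 0 ∧ c5 i2 = 0 ∧ c0 i3 = 0 ∧ c1 i3 = 1 ∧ c2 i3 = -1 ∧ c3 i3 = 0 ∧ c4 i3 = 0 ∧ c5 i3 = 0 ∧ c0 i4 = 0 ∧ c1 i4 = 0 ∧ c2 i4 = 0 ∧ c3 i4 = 1 ∧ c4 i4 = 0 ∧ c5 i4 = 1 ∧ c0 i5 = 0 ∧ c1 i5 = 0 ∧ c2 i5 = 0 ∧ c3 i5 = 0 ∧ c4 i5 = 1 ∧ c5 i5 = 1) ∧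
    ∀ i, i ≠ i0 → i ≠ i1 → i ≠ i2 → i ≠ i3 → i ≠ i4 → i ≠ i5 → (c0 i = 0 ∧ c1 i = 0 ∧ c2 i = 0 ∧ c3 i = 0 ∧ c4 i = 0 ∧ c5 i = 0)

def St_7_0 {ι : Type*} (c0 c1 c2 c3 c4 c5 c6 : ι → ℤ) : Prop :=
  ∃ i0 i1 i2 i3 i4 i5 i6 i7 i8 i9 : ι, (i0 ≠ i1 ∧ i0 ≠ i2 ∧ i0 ≠ i3 ∧ i0 ≠ i4 ∧ i0 ≠ i5 ∧ i0 ≠ i6 ∧ i0 ≠ i7 ∧ i0 ≠ i8 ∧ i0 ≠ i9 ∧ i1 ≠ i2 ∧ i1 ≠ i3 ∧ i1 ≠ i4 ∧ i1 ≠ i5 ∧ i1 ≠ i6 ∧ i1 ≠ i7 ∧ i1 ≠ i8 ∧ i1 ≠ i9 ∧ i2 ≠ i3 ∧ i2 ≠ i4 ∧ i2 ≠ i5 ∧ i2 ≠ i6 ∧ i2 ≠ i7 ∧ i2 ≠ i8 ∧ i2 ≠ i9 ∧ i3 ≠ i4 ∧ i3 ≠ i5 ∧ i3 ≠ i6 ∧ i3 ≠ i7 ∧ i3 ≠ i8 ∧ i3 ≠ i9 ∧ i4 ≠ i5 ∧ i4 ≠ i6 ∧ i4 ≠ i7 ∧ i4 ≠ i8 ∧ i4 ≠ i9 ∧ i5 ≠ i6 ∧ i5 ≠ i7 ∧ i5 ≠ i8 ∧ i5 ≠ i9 ∧ i6 ≠ i7 ∧ i6 ≠ i8 ∧ i6 ≠ i9 ∧ i7 ≠ i8 ∧ i7 ≠ i9 ∧ i8 ≠ i9) ∧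
    (c0 i0 = 1 ∧ c1 i0 = 0 ∧ c2 i0 = 0 ∧ c3 i0 = 0 ∧ c4 i0 = 0 ∧ c5 i0 = 0 ∧ c6 i0 = 0 ∧ c0 i1 = 1 ∧ c1 i1 = -1 ∧ c2 i1 = 0 ∧ c3 i1 = 1 ∧ c4 i1 = 0 ∧ c5 i1 = 1 ∧ c6 i1 = 0 ∧ c0 i2 = 0 ∧ c1 i2 = 1 ∧ c2 i2 = 0 ∧ c3 i2 = 0 ∧ c4 i2 = 1 ∧ c5 i2 = 0 ∧ c6 i2 = 0 ∧ c0 i3 = 0 ∧ c1 i3 = 1 ∧ c2 i3 = 0 ∧ c3 i3 = 0 ∧ c4 i3 = 0 ∧ c5 i3 = 0 ∧ c6 i3 = 1 ∧ c0 i4 = 0 ∧ c1 i4 = 0 ∧ c2 i4 = 1 ∧ c3 i4 = 0 ∧ c4 i4 = 0 ∧ c5 i4 = 0 ∧ c6 i4 = 0 ∧ c0 i5 = 0 ∧ c1 i5 = 0 ∧ c2 i5 = 1 ∧ c3 i5 = -1 ∧ c4 i5 = 0 ∧ c5 i5 = 0 ∧ c6 i5 = 1 ∧ c0 i6 = 0 ∧ c1 i6 = 0 ∧ c2 i6 = 0 ∧ c3 i6 = 1 ∧ c4 i6 = 1 ∧ c5 i6 = 0 ∧ c6 i6 = 0 ∧ c0 i7 = 0 ∧ c1 i7 = 0 ∧ c2 i7 = 0 ∧ c3 i7 = 0 ∧ c4 i7 = 1 ∧ c5 i7 = 0 ∧ c6 i7 = 1 ∧ c0 i8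 = 0 ∧ c1 i8 = 0 ∧ c2 i8 = 0 ∧ c3 i8 = 0 ∧ c4 i8 = 0 ∧ c5 i8 = 1 ∧ c6 i8 = 1 ∧ c0 i9 = 0 ∧ c1 i9 = 0 ∧ c2 i9 = 0 ∧ c3 i9 = 0 ∧ c4 i9 = 0 ∧ c5 i9 = 1 ∧ c6 i9 = 0) ∧
    ∀ i, i ≠ i0 → i ≠ i1 → i ≠ i2 → i ≠ i3 → i ≠ i4 → i ≠ i5 → i ≠ i6 → i ≠ i7 → i ≠ i8 → i ≠ i9 → (c0 i = 0 ∧ c1 i = 0 ∧ c2 i = 0 ∧ c3 i = 0 ∧ c4 i = 0 ∧ c5 i = 0 ∧ c6 i = 0)

def St_7_1 {ι : Type*} (c0 c1 c2 c3 c4 c5 c6 : ι → ℤ) : Prop :=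
  ∃ i0 i1 i2 i3 i4 i5 i6 i7 i8 i9 i10 : ι, (i0 ≠ i1 ∧ i0 ≠ i2 ∧ i0 ≠ i3 ∧ i0 ≠ i4 ∧ i0 ≠ i5 ∧ i0 ≠ i6 ∧ i0 ≠ i7 ∧ i0 ≠ i8 ∧ i0 ≠ i9 ∧ i0 ≠ i10 ∧ i1 ≠ i2 ∧ i1 ≠ i3 ∧ i1 ≠ i4 ∧ i1 ≠ i5 ∧ i1 ≠ i6 ∧ i1 ≠ i7 ∧ i1 ≠ i8 ∧ i1 ≠ i9 ∧ i1 ≠ i10 ∧ i2 ≠ i3 ∧ i2 ≠ i4 ∧ i2 ≠ i5 ∧ i2 ≠ i6 ∧ i2 ≠ i7 ∧ i2 ≠ i8 ∧ i2 ≠ i9 ∧ i2 ≠ i10 ∧ i3 ≠ i4 ∧ i3 ≠ i5 ∧ i3 ≠ i6 ∧ i3 ≠ i7 ∧ i3 ≠ i8 ∧ i3 ≠ i9 ∧ i3 ≠ i10 ∧ i4 ≠ i5 ∧ i4 ≠ i6 ∧ i4 ≠ i7 ∧ i4 ≠ i8 ∧ i4 ≠ i9 ∧ i4 ≠ i10 ∧ i5 ≠ i6 ∧ i5 ≠ i7 ∧ i5 ≠ i8 ∧ i5 ≠ i9 ∧ i5 ≠ i10 ∧ i6 ≠ i7 ∧ i6 ≠ i8 ∧ i6 ≠ i9 ∧ i6 ≠ i10 ∧ i7 ≠ i8 ∧ i7 ≠ i9 ∧ i7 ≠ i10 ∧ i8 ≠ i9 ∧ i8 ≠ i10 ∧ i9 ≠ i10) ∧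
    (c0 i0 = 1 ∧ c1 i0 = 0 ∧ c2 i0 = 0 ∧ c3 i0 = 0 ∧ c4 i0 = 0 ∧ c5 i0 = 0 ∧ c6 i0 = 0 ∧ c0 i1 = 1 ∧ c1 i1 = -1 ∧ c2 i1 = 0 ∧ c3 i1 = 1 ∧ c4 i1 = 0 ∧ c5 i1 = 1 ∧ c6 i1 = 0 ∧ c0 i2 = 0 ∧ c1 i2 = 1 ∧ c2 i2 = 0 ∧ c3 i2 = 0 ∧ c4 i2 = 1 ∧ c5 i2 = 0 ∧ c6 i2 = 1 ∧ c0 i3 = 0 ∧ c1 i3 = 1 ∧ c2 i3 = 0 ∧ c3 i3 = 0 ∧ c4 i3 = 0 ∧ c5 i3 = 0 ∧ c6 i3 = 0 ∧ c0 i4 = 0 ∧ c1 i4 = 0 ∧ c2 i4 = 1 ∧ c3 i4 = 0 ∧ c4 i4 = 0 ∧ c5 i4 = 0 ∧ c6 i4 = 0 ∧ c0 i5 = 0 ∧ c1 i5 = 0 ∧ c2 i5 = 1 ∧ c3 i5 = -1 ∧ c4 i5 = 0 ∧ c5 i5 = 0 ∧ c6 i5 = 1 ∧ c0 i6 = 0 ∧ c1 i6 = 0 ∧ c2 i6 = 0 ∧ c3 i6 = 1 ∧ c4 i6 = 1 ∧ c5 i6 = 0 ∧ c6 i6 = 0 ∧ c0 i7 = 0 ∧ c1 i7 = 0 ∧ c2 i7 = 0 ∧ c3 i7 = 0 ∧ c4 i7 = 1 ∧ c5 i7 = 0 ∧ c6 i7 = 0 ∧ c0 i8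 = 0 ∧ c1 i8 = 0 ∧ c2 i8 = 0 ∧ c3 i8 = 0 ∧ c4 i8 = 0 ∧ c5 i8 = 1 ∧ c6 i8 = 1 ∧ c0 i9 = 0 ∧ c1 i9 = 0 ∧ c2 i9 = 0 ∧ c3 i9 = 0 ∧ c4 i9 = 0 ∧ c5 i9 = 1 ∧ c6 i9 = 0 ∧ c0 i10 = 0 ∧ c1 i10 = 0 ∧ c2 i10 = 0 ∧ c3 i10 = 0 ∧ c4 i10 = 0 ∧ c5 i10 = 0 ∧ c6 i10 = 1) ∧
    ∀ i, i ≠ i0 → i ≠ i1 → i ≠ i2 → i ≠ i3 → i ≠ i4 → i ≠ i5 → i ≠ i6 → i ≠ i7 → i ≠ i8 → i ≠ i9 → i ≠ i10 → (c0 i = 0 ∧ c1 i = 0 ∧ c2 i = 0 ∧ c3 i = 0 ∧ c4 i = 0 ∧ c5 i = 0 ∧ c6 i = 0)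

def St_7_2 {ι : Type*} (c0 c1 c2 c3 c4 c5 c6 : ι → ℤ) : Prop :=
  ∃ i0 i1 i2 i3 i4 i5 i6 i7 : ι, (i0 ≠ i1 ∧ i0 ≠ i2 ∧ i0 ≠ i3 ∧ i0 ≠ i4 ∧ i0 ≠ i5 ∧ i0 ≠ i6 ∧ i0 ≠ i7 ∧ i1 ≠ i2 ∧ i1 ≠ i3 ∧ i1 ≠ i4 ∧ i1 ≠ i5 ∧ i1 ≠ i6 ∧ i1 ≠ i7 ∧ i2 ≠ i3 ∧ i2 ≠ i4 ∧ i2 ≠ i5 ∧ i2 ≠ i6 ∧ i2 ≠ i7 ∧ i3 ≠ i4 ∧ i3 ≠ i5 ∧ i3 ≠ i6 ∧ i3 ≠ i7 ∧ i4 ≠ i5 ∧ i4 ≠ i6 ∧ i4 ≠ i7 ∧ i5 ≠ i6 ∧ i5 ≠ i7 ∧ i6 ≠ i7) ∧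
    (c0 i0 = 1 ∧ c1 i0 = 0 ∧ c2 i0 = 0 ∧ c3 i0 = 0 ∧ c4 i0 = 0 ∧ c5 i0 = 1 ∧ c6 i0 = 1 ∧ c0 i1 = 1 ∧ c1 i1 = -1 ∧ c2 i1 = 0 ∧ c3 i1 = 1 ∧ c4 i1 = 0 ∧ c5 i1 = 0 ∧ c6 i1 = -1 ∧ c0 i2 = 0 ∧ c1 i2 = 1 ∧ c2 i2 = 0 ∧ c3 i2 = 0 ∧ c4 i2 = 1 ∧ c5 i2 = -1 ∧ c6 i2 = 0 ∧ c0 i3 = 0 ∧ c1 i3 = 1 ∧ c2 i3 = 0 ∧ c3 i3 = 0 ∧ c4 i3 = 0 ∧ c5 i3 = 0 ∧ c6 i3 = 0 ∧ c0 i4 = 0 ∧ c1 i4 = 0 ∧ c2 i4 = 1 ∧ c3 i4 = 0 ∧ c4 i4 = 0 ∧ c5 i4 = 0 ∧ c6 i4 = 1 ∧ c0 i5 = 0 ∧ c1 i5 = 0 ∧ c2 i5 = 1 ∧ c3 i5 = -1 ∧ c4 i5 = 0 ∧ c5 i5 = 0 ∧ c6 i5 = 0 ∧ c0 i6 = 0 ∧ c1 i6 = 0 ∧ c2 i6 = 0 ∧ c3 i6 = 1 ∧ c4 i6 = 1 ∧ c5 i6 = 1 ∧ c6 i6 = 0 ∧ c0 i7 = 0 ∧ c1 i7 = 0 ∧ c2 i7 = 0 ∧ c3 i7 = 0 ∧ c4 i7 = 1 ∧ c5 i7 = 0 ∧ c6 i7 = 1) ∧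
    ∀ i, i ≠ i0 → i ≠ i1 → i ≠ i2 → i ≠ i3 → i ≠ i4 → i ≠ i5 → i ≠ i6 → i ≠ i7 → (c0 i = 0 ∧ c1 i = 0 ∧ c2 i = 0 ∧ c3 i = 0 ∧ c4 i = 0 ∧ c5 i = 0 ∧ c6 i = 0)

def St_7_3 {ι : Type*} (c0 c1 c2 c3 c4 c5 c6 : ι → ℤ) : Prop :=
  ∃ i0 i1 i2 i3 i4 i5 i6 i7 i8 : ι, (i0 ≠ i1 ∧ i0 ≠ i2 ∧ i0 ≠ i3 ∧ i0 ≠ i4 ∧ i0 ≠ i5 ∧ i0 ≠ i6 ∧ i0 ≠ i7 ∧ i0 ≠ i8 ∧ i1 ≠ i2 ∧ i1 ≠ i3 ∧ i1 ≠ i4 ∧ i1 ≠ i5 ∧ i1 ≠ i6 ∧ i1 ≠ i7 ∧ i1 ≠ i8 ∧ i2 ≠ i3 ∧ i2 ≠ i4 ∧ i2 ≠ i5 ∧ i2 ≠ i6 ∧ i2 ≠ i7 ∧ i2 ≠ i8 ∧ i3 ≠ i4 ∧ i3 ≠ i5 ∧ i3 ≠ i6 ∧ i3 ≠ i7 ∧ i3 ≠ i8 ∧ i4 ≠ i5 ∧ i4 ≠ i6 ∧ i4 ≠ i7 ∧ i4 ≠ i8 ∧ i5 ≠ i6 ∧ i5 ≠ i7 ∧ i5 ≠ i8 ∧ i6 ≠ i7 ∧ i6 ≠ i8 ∧ i7 ≠ i8) ∧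
    (c0 i0 = 1 ∧ c1 i0 = 0 ∧ c2 i0 = 0 ∧ c3 i0 = 0 ∧ c4 i0 = 0 ∧ c5 i0 = 0 ∧ c6 i0 = 0 ∧ c0 i1 = 1 ∧ c1 i1 = -1 ∧ c2 i1 = 0 ∧ c3 i1 = 1 ∧ c4 i1 = 0 ∧ c5 i1 = 1 ∧ c6 i1 = 0 ∧ c0 i2 = 0 ∧ c1 i2 = 1 ∧ c2 i2 = 0 ∧ c3 i2 = 0 ∧ c4 i2 = 1 ∧ c5 i2 = 0 ∧ c6 i2 = 0 ∧ c0 i3 = 0 ∧ c1 i3 = 1 ∧ c2 i3 = 0 ∧ c3 i3 = 0 ∧ c4 i3 = 0 ∧ c5 i3 = 0 ∧ c6 i3 = 1 ∧ c0 i4 = 0 ∧ c1 i4 = 0 ∧ c2 i4 = 1 ∧ c3 i4 = 0 ∧ c4 i4 = 1 ∧ c5 i4 = 0 ∧ c6 i4 = 1 ∧ c0 i5 = 0 ∧ c1 i5 = 0 ∧ c2 i5 = 1 ∧ c3 i5 = -1 ∧ c4 i5 = -1 ∧ c5 i5 = 0 ∧ c6 i5 = 0 ∧ c0 i6 = 0 ∧ c1 i6 = 0 ∧ c2 i6 = 0 ∧ c3 i6 = 1 ∧ c4 i6 = 0 ∧ c5 i6 = 0 ∧ c6 i6 = -1 ∧ c0 i7 = 0 ∧ c1 i7 = 0 ∧ c2 i7 = 0 ∧ c3 i7 = 0 ∧ c4 i7 = 0 ∧ c5 i7 = 1 ∧ c6 i7 = 1 ∧ c0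 i8 = 0 ∧ c1 i8 = 0 ∧ c2 i8 = 0 ∧ c3 i8 = 0 ∧ c4 i8 = 0 ∧ c5 i8 = 1 ∧ c6 i8 = 0) ∧
    ∀ i, i ≠ i0 → i ≠ i1 → i ≠ i2 → i ≠ i3 → i ≠ i4 → i ≠ i5 → i ≠ i6 → i ≠ i7 → i ≠ i8 → (c0 i = 0 ∧ c1 i = 0 ∧ c2 i = 0 ∧ c3 i = 0 ∧ c4 i = 0 ∧ c5 i = 0 ∧ c6 i = 0)

def St_7_4 {ι : Type*} (c0 c1 c2 c3 c4 c5 c6 : ι → ℤ) : Prop :=
  ∃ i0 i1 i2 i3 i4 i5 i6 i7 : ι, (i0 ≠ i1 ∧ i0 ≠ i2 ∧ i0 ≠ i3 ∧ i0 ≠ i4 ∧ i0 ≠ i5 ∧ i0 ≠ i6 ∧ i0 ≠ i7 ∧ i1 ≠ i2 ∧ i1 ≠ i3 ∧ i1 ≠ i4 ∧ i1 ≠ i5 ∧ i1 ≠ i6 ∧ i1 ≠ i7 ∧ i2 ≠ i3 ∧ i2 ≠ i4 ∧ i2 ≠ i5 ∧ i2 ≠ i6 ∧ i2 ≠ i7 ∧ i3 ≠ i4 ∧ i3 ≠ i5 ∧ i3 ≠ i6 ∧ i3 ≠ i7 ∧ i4 ≠ i5 ∧ i4 ≠ i6 ∧ i4 ≠ i7 ∧ i5 ≠ i6 ∧ i5 ≠ i7 ∧ i6 ≠ i7) ∧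
    (c0 i0 = 1 ∧ c1 i0 = 0 ∧ c2 i0 = 0 ∧ c3 i0 = 0 ∧ c4 i0 = 0 ∧ c5 i0 = 1 ∧ c6 i0 = 1 ∧ c0 i1 = 1 ∧ c1 i1 = -1 ∧ c2 i1 = 0 ∧ c3 i1 = 1 ∧ c4 i1 = 0 ∧ c5 i1 = 0 ∧ c6 i1 = -1 ∧ c0 i2 = 0 ∧ c1 i2 = 1 ∧ c2 i2 = 0 ∧ c3 i2 = 0 ∧ c4 i2 = 1 ∧ c5 i2 = 0 ∧ c6 i2 = 0 ∧ c0 i3 = 0 ∧ c1 i3 = 1 ∧ c2 i3 = 0 ∧ c3 i3 = 0 ∧ c4 i3 = 0 ∧ c5 i3 = -1 ∧ c6 i3 = 0 ∧ c0 i4 = 0 ∧ c1 i4 = 0 ∧ c2 i4 = 1 ∧ c3 i4 = 0 ∧ c4 i4 = 1 ∧ c5 i4 = 0 ∧ c6 i4 = 1 ∧ c0 i5 = 0 ∧ c1 i5 = 0 ∧ c2 i5 = 1 ∧ c3 i5 = -1 ∧ c4 i5 = -1 ∧ c5 i5 = 0 ∧ c6 i5 = 0 ∧ c0 i6 = 0 ∧ c1 i6 = 0 ∧ c2 i6 = 0 ∧ c3 i6 = 1 ∧ c4 i6 = 0 ∧ c5 i6 = 1 ∧ c6 i6 = 0 ∧ c0 i7 = 0 ∧ c1 i7 = 0 ∧ c2 i7 = 0 ∧ c3 i7 = 0 ∧ c4 i7 = 0 ∧ c5 i7 = 0 ∧ c6 i7 = 1) ∧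
    ∀ i, i ≠ i0 → i ≠ i1 → i ≠ i2 → i ≠ i3 → i ≠ i4 → i ≠ i5 → i ≠ i6 → i ≠ i7 → (c0 i = 0 ∧ c1 i = 0 ∧ c2 i = 0 ∧ c3 i = 0 ∧ c4 i = 0 ∧ c5 i = 0 ∧ c6 i = 0)

def St_7_5 {ι : Type*} (c0 c1 c2 c3 c4 c5 c6 : ι → ℤ) : Prop :=
  ∃ i0 i1 i2 i3 i4 i5 i6 i7 : ι, (i0 ≠ i1 ∧ i0 ≠ i2 ∧ i0 ≠ i3 ∧ i0 ≠ i4 ∧ i0 ≠ i5 ∧ i0 ≠ i6 ∧ i0 ≠ i7 ∧ i1 ≠ i2 ∧ i1 ≠ i3 ∧ i1 ≠ i4 ∧ i1 ≠ i5 ∧ i1 ≠ i6 ∧ i1 ≠ i7 ∧ i2 ≠ i3 ∧ i2 ≠ i4 ∧ i2 ≠ i5 ∧ i2 ≠ i6 ∧ i2 ≠ i7 ∧ i3 ≠ i4 ∧ i3 ≠ i5 ∧ i3 ≠ i6 ∧ i3 ≠ i7 ∧ i4 ≠ i5 ∧ i4 ≠ i6 ∧ i4 ≠ i7 ∧ i5 ≠ i6 ∧ i5 ≠ i7 ∧ i6 ≠ i7) ∧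
    (c0 i0 = 1 ∧ c1 i0 = 0 ∧ c2 i0 = 0 ∧ c3 i0 = 1 ∧ c4 i0 = 1 ∧ c5 i0 = 0 ∧ c6 i0 = 0 ∧ c0 i1 = 1 ∧ c1 i1 = -1 ∧ c2 i1 = 0 ∧ c3 i1 = 0 ∧ c4 i1 = -1 ∧ c5 i1 = 1 ∧ c6 i1 = 0 ∧ c0 i2 = 0 ∧ c1 i2 = 1 ∧ c2 i2 = 1 ∧ c3 i2 = -1 ∧ c4 i2 = 0 ∧ c5 i2 = 0 ∧ c6 i2 = 1 ∧ c0 i3 = 0 ∧ c1 i3 = 1 ∧ c2 i3 = -1 ∧ c3 i3 = 0 ∧ c4 i3 = 0 ∧ c5 i3 = 0 ∧ c6 i3 = 0 ∧ c0 i4 = 0 ∧ c1 i4 = 0 ∧ c2 i4 = 0 ∧ c3 i4 = 1 ∧ c4 i4 = 0 ∧ c5 i4 = 1 ∧ c6 i4 = 0 ∧ c0 i5 = 0 ∧ c1 i5 = 0 ∧ c2 i5 = 0 ∧ c3 i5 = 0 ∧ c4 i5 = 1 ∧ c5 i5 = 1 ∧ c6 i5 = 1 ∧ c0 i6 = 0 ∧ c1 i6 = 0 ∧ c2 i6 = 0 ∧ c3 i6 = 0 ∧ c4 i6 = 0 ∧ c5 i6 = 0 ∧ c6 i6 = 1 ∧ c0 i7 = 0 ∧ c1 i7 = 0 ∧ c2 i7 = 0 ∧ c3 i7 = 0 ∧ c4 i7 = 0 ∧ c5 i7 = 0 ∧ c6 i7 = 1) ∧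
    ∀ i, i ≠ i0 → i ≠ i1 → i ≠ i2 → i ≠ i3 → i ≠ i4 → i ≠ i5 → i ≠ i6 → i ≠ i7 → (c0 i = 0 ∧ c1 i = 0 ∧ c2 i = 0 ∧ c3 i = 0 ∧ c4 i = 0 ∧ c5 i = 0 ∧ c6 i = 0)

def St_8_0 {ι : Type*} (c0 c1 c2 c3 c4 c5 c6 c7 : ι → ℤ) : Prop :=
  ∃ i0 i1 i2 i3 i4 i5 i6 i7 i8 i9 i10 i11 : ι, (i0 ≠ i1 ∧ i0 ≠ i2 ∧ i0 ≠ i3 ∧ i0 ≠ i4 ∧ i0 ≠ i5 ∧ i0 ≠ i6 ∧ i0 ≠ i7 ∧ i0 ≠ i8 ∧ i0 ≠ i9 ∧ i0 ≠ i10 ∧ i0 ≠ i11 ∧ i1 ≠ i2 ∧ i1 ≠ i3 ∧ i1 ≠ i4 ∧ i1 ≠ i5 ∧ i1 ≠ i6 ∧ i1 ≠ i7 ∧ i1 ≠ i8 ∧ i1 ≠ i9 ∧ i1 ≠ i10 ∧ i1 ≠ i11 ∧ i2 ≠ i3 ∧ i2 ≠ i4 ∧ i2 ≠ i5 ∧ i2 ≠ i6 ∧ i2 ≠ i7 ∧ i2 ≠ i8 ∧ i2 ≠ i9 ∧ i2 ≠ i10 ∧ i2 ≠ i11 ∧ i3 ≠ i4 ∧ i3 ≠ i5 ∧ i3 ≠ i6 ∧ i3 ≠ i7 ∧ i3 ≠ i8 ∧ i3 ≠ i9 ∧ i3 ≠ i10 ∧ i3 ≠ i11 ∧ i4 ≠ i5 ∧ i4 ≠ i6 ∧ i4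 ≠ i7 ∧ i4 ≠ i8 ∧ i4 ≠ i9 ∧ i4 ≠ i10 ∧ i4 ≠ i11 ∧ i5 ≠ i6 ∧ i5 ≠ i7 ∧ i5 ≠ i8 ∧ i5 ≠ i9 ∧ i5 ≠ i10 ∧ i5 ≠ i11 ∧ i6 ≠ i7 ∧ i6 ≠ i8 ∧ i6 ≠ i9 ∧ i6 ≠ i10 ∧ i6 ≠ i11 ∧ i7 ≠ i8 ∧ i7 ≠ i9 ∧ i7 ≠ i10 ∧ i7 ≠ i11 ∧ i8 ≠ i9 ∧ i8 ≠ i10 ∧ i8 ≠ i11 ∧ i9 ≠ i10 ∧ i9 ≠ i11 ∧ i10 ≠ i11) ∧
    (c0 i0 = 1 ∧ c1 i0 = 0 ∧ c2 i0 = 0 ∧ c3 i0 = 0 ∧ c4 i0 = 0 ∧ c5 i0 = 0 ∧ c6 i0 = 0 ∧ c7 i0 = 0 ∧ c0 i1 = 1 ∧ c1 i1 = -1 ∧ c2 i1 = 0 ∧ c3 i1 = 1 ∧ c4 i1 = 0 ∧ c5 i1 = 1 ∧ c6 i1 = 0 ∧ c7 i1 = 0 ∧ c0 i2 = 0 ∧ c1 i2 = 1 ∧ c2 i2 = 0 ∧ c3 i2 = 0 ∧ c4 i2 = 1 ∧ c5 i2 = 0 ∧ c6 i2 = 1 ∧ c7 i2 = 0 ∧ c0 i3 = 0 ∧ c1 i3 = 1 ∧ c2 i3 = 0 ∧ c3 i3 = 0 ∧ c4 i3 = 0 ∧ c5 i3 = 0 ∧ c6 i3 = 0 ∧ c7 i3 = 1 ∧ c0 i4 = 0 ∧ c1 i4 = 0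 ∧ c2 i4 = 1 ∧ c3 i4 = 0 ∧ c4 i4 = 0 ∧ c5 i4 = 0 ∧ c6 i4 = 0 ∧ c7 i4 = 0 ∧ c0 i5 = 0 ∧ c1 i5 = 0 ∧ c2 i5 = 1 ∧ c3 i5 = -1 ∧ c4 i5 = 0 ∧ c5 i5 = 0 ∧ c6 i5 = 1 ∧ c7 i5 = 1 ∧ c0 i6 = 0 ∧ c1 i6 = 0 ∧ c2 i6 = 0 ∧ c3 i6 = 1 ∧ c4 i6 = 1 ∧ c5 i6 = 0 ∧ c6 i6 = 0 ∧ c7 i6 = 0 ∧ c0 i7 = 0 ∧ c1 i7 = 0 ∧ c2 i7 = 0 ∧ c3 i7 = 0 ∧ c4 i7 = 1 ∧ c5 i7 = 0 ∧ c6 i7 = 0 ∧ c7 i7 = 0 ∧ c0 i8 = 0 ∧ c1 i8 = 0 ∧ c2 i8 = 0 ∧ c3 i8 = 0 ∧ c4 i8 = 0 ∧ c5 i8 = 1 ∧ c6 i8 = 1 ∧ c7 i8 = 0 ∧ c0 i9 = 0 ∧ c1 i9 = 0 ∧ c2 i9 = 0 ∧ c3 i9 = 0 ∧ c4 i9 = 0 ∧ c5 i9 = 1 ∧ c6 i9 = 0 ∧ c7 i9 = 0 ∧ c0 i10 = 0 ∧ c1 i10 = 0 ∧ c2 i10 = 0 ∧ c3 i10 = 0 ∧ c4 i10 = 0 ∧ c5 i10 = 0 ∧ c6 i10 = 1 ∧ c7 i10 = 0 ∧ c0 i11 = 0 ∧ c1 i11 = 0 ∧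 c2 i11 = 0 ∧ c3 i11 = 0 ∧ c4 i11 = 0 ∧ c5 i11 = 0 ∧ c6 i11 = 0 ∧ c7 i11 = 1) ∧
    ∀ i, i ≠ i0 → i ≠ i1 → i ≠ i2 → i ≠ i3 → i ≠ i4 → i ≠ i5 → i ≠ i6 → i ≠ i7 → i ≠ i8 → i ≠ i9 → i ≠ i10 → i ≠ i11 → (c0 i = 0 ∧ c1 i = 0 ∧ c2 i = 0 ∧ c3 i = 0 ∧ c4 i = 0 ∧ c5 i = 0 ∧ c6 i = 0 ∧ c7 i = 0)

def St_8_1 {ι : Type*} (c0 c1 c2 c3 c4 c5 c6 c7 : ι → ℤ) : Prop :=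
  ∃ i0 i1 i2 i3 i4 i5 i6 i7 i8 i9 i10 : ι, (i0 ≠ i1 ∧ i0 ≠ i2 ∧ i0 ≠ i3 ∧ i0 ≠ i4 ∧ i0 ≠ i5 ∧ i0 ≠ i6 ∧ i0 ≠ i7 ∧ i0 ≠ i8 ∧ i0 ≠ i9 ∧ i0 ≠ i10 ∧ i1 ≠ i2 ∧ i1 ≠ i3 ∧ i1 ≠ i4 ∧ i1 ≠ i5 ∧ i1 ≠ i6 ∧ i1 ≠ i7 ∧ i1 ≠ i8 ∧ i1 ≠ i9 ∧ i1 ≠ i10 ∧ i2 ≠ i3 ∧ i2 ≠ i4 ∧ i2 ≠ i5 ∧ i2 ≠ i6 ∧ i2 ≠ i7 ∧ i2 ≠ i8 ∧ i2 ≠ i9 ∧ i2 ≠ i10 ∧ i3 ≠ i4 ∧ i3 ≠ i5 ∧ i3 ≠ i6 ∧ i3 ≠ i7 ∧ i3 ≠ i8 ∧ i3 ≠ i9 ∧ i3 ≠ i10 ∧ i4 ≠ i5 ∧ i4 ≠ i6 ∧ i4 ≠ i7 ∧ i4 ≠ i8 ∧ i4 ≠ i9 ∧ i4 ≠ i10 ∧ i5 ≠ i6 ∧ i5 ≠ i7 ∧ i5 ≠ i8 ∧ i5 ≠ i9 ∧ i5 ≠ i10 ∧ i6 ≠ i7 ∧ i6 ≠ i8 ∧ i6 ≠ i9 ∧ i6 ≠ i10 ∧ i7 ≠ i8 ∧ i7 ≠ i9 ∧ i7 ≠ i10 ∧ i8 ≠ i9 ∧ i8 ≠ i10 ∧ i9 ≠ i10) ∧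
    (c0 i0 = 1 ∧ c1 i0 = 0 ∧ c2 i0 = 0 ∧ c3 i0 = 0 ∧ c4 i0 = 0 ∧ c5 i0 = 0 ∧ c6 i0 = 0 ∧ c7 i0 = 0 ∧ c0 i1 = 1 ∧ c1 i1 = -1 ∧ c2 i1 = 0 ∧ c3 i1 = 1 ∧ c4 i1 = 0 ∧ c5 i1 = 1 ∧ c6 i1 = 0 ∧ c7 i1 = 0 ∧ c0 i2 = 0 ∧ c1 i2 = 1 ∧ c2 i2 = 0 ∧ c3 i2 = 0 ∧ c4 i2 = 1 ∧ c5 i2 = 0 ∧ c6 i2 = 1 ∧ c7 i2 = 1 ∧ c0 i3 = 0 ∧ c1 i3 = 1 ∧ c2 i3 = 0 ∧ c3 i3 = 0 ∧ c4 i3 = 0 ∧ c5 i3 = 0 ∧ c6 i3 = 0 ∧ c7 i3 = 0 ∧ c0 i4 = 0 ∧ c1 i4 = 0 ∧ c2 i4 = 1 ∧ c3 i4 = 0 ∧ c4 i4 = 0 ∧ c5 i4 = 0 ∧ c6 i4 = 0 ∧ c7 i4 = 1 ∧ c0 i5 = 0 ∧ c1 i5 = 0 ∧ c2 i5 = 1 ∧ c3 i5 = -1 ∧ c4 i5 = 0 ∧ c5 i5 = 0 ∧ c6 i5 = 1 ∧ c7 i5 = 0 ∧ c0 i6 = 0 ∧ c1 i6 = 0 ∧ c2 i6 = 0 ∧ c3 i6 = 1 ∧ c4 i6 = 1 ∧ c5 i6 = 0 ∧ c6 i6 = 0 ∧ c7 i6 = -1 ∧ c0 i7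 = 0 ∧ c1 i7 = 0 ∧ c2 i7 = 0 ∧ c3 i7 = 0 ∧ c4 i7 = 1 ∧ c5 i7 = 0 ∧ c6 i7 = 0 ∧ c7 i7 = 0 ∧ c0 i8 = 0 ∧ c1 i8 = 0 ∧ c2 i8 = 0 ∧ c3 i8 = 0 ∧ c4 i8 = 0 ∧ c5 i8 = 1 ∧ c6 i8 = 1 ∧ c7 i8 = 0 ∧ c0 i9 = 0 ∧ c1 i9 = 0 ∧ c2 i9 = 0 ∧ c3 i9 = 0 ∧ c4 i9 = 0 ∧ c5 i9 = 1 ∧ c6 i9 = 0 ∧ c7 i9 = 0 ∧ c0 i10 = 0 ∧ c1 i10 = 0 ∧ c2 i10 = 0 ∧ c3 i10 = 0 ∧ c4 i10 = 0 ∧ c5 i10 = 0 ∧ c6 i10 = 1 ∧ c7 i10 = 0) ∧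
    ∀ i, i ≠ i0 → i ≠ i1 → i ≠ i2 → i ≠ i3 → i ≠ i4 → i ≠ i5 → i ≠ i6 → i ≠ i7 → i ≠ i8 → i ≠ i9 → i ≠ i10 → (c0 i = 0 ∧ c1 i = 0 ∧ c2 i = 0 ∧ c3 i = 0 ∧ c4 i = 0 ∧ c5 i = 0 ∧ c6 i = 0 ∧ c7 i = 0)

def St_8_2 {ι : Type*} (c0 c1 c2 c3 c4 c5 c6 c7 : ι → ℤ) : Prop :=
  ∃ i0 i1 i2 i3 i4 i5 i6 i7 : ι, (i0 ≠ i1 ∧ i0 ≠ i2 ∧ i0 ≠ i3 ∧ i0 ≠ i4 ∧ i0 ≠ i5 ∧ i0 ≠ i6 ∧ i0 ≠ i7 ∧ i1 ≠ i2 ∧ i1 ≠ i3 ∧ i1 ≠ i4 ∧ i1 ≠ i5 ∧ i1 ≠ i6 ∧ i1 ≠ i7 ∧ i2 ≠ i3 ∧ i2 ≠ i4 ∧ i2 ≠ i5 ∧ i2 ≠ i6 ∧ i2 ≠ i7 ∧ i3 ≠ i4 ∧ i3 ≠ i5 ∧ i3 ≠ i6 ∧ i3 ≠ i7 ∧ i4 ≠ i5 ∧ i4 ≠ i6 ∧ i4 ≠ i7 ∧ i5 ≠ i6 ∧ i5 ≠ i7 ∧ i6 ≠ i7) ∧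
    (c0 i0 = 1 ∧ c1 i0 = 0 ∧ c2 i0 = 0 ∧ c3 i0 = 0 ∧ c4 i0 = 0 ∧ c5 i0 = 1 ∧ c6 i0 = 1 ∧ c7 i0 = 0 ∧ c0 i1 = 1 ∧ c1 i1 = -1 ∧ c2 i1 = 0 ∧ c3 i1 = 1 ∧ c4 i1 = 0 ∧ c5 i1 = 0 ∧ c6 i1 = -1 ∧ c7 i1 = 0 ∧ c0 i2 = 0 ∧ c1 i2 = 1 ∧ c2 i2 = 0 ∧ c3 i2 = 0 ∧ c4 i2 = 1 ∧ c5 i2 = 0 ∧ c6 i2 = 0 ∧ c7 i2 = 1 ∧ c0 i3 = 0 ∧ c1 i3 = 1 ∧ c2 i3 = 0 ∧ c3 i3 = 0 ∧ c4 i3 = 0 ∧ c5 i3 = -1 ∧ c6 i3 = 0 ∧ c7 i3 = 0 ∧ c0 i4 = 0 ∧ c1 i4 = 0 ∧ c2 i4 = 1 ∧ c3 i4 = 0 ∧ c4 i4 = 1 ∧ c5 i4 = 0 ∧ c6 i4 = 1 ∧ c7 i4 = 0 ∧ c0 i5 = 0 ∧ c1 i5 = 0 ∧ c2 i5 = 1 ∧ c3 i5 = -1 ∧ c4 i5 = -1 ∧ c5 i5 = 0 ∧ c6 i5 = 0 ∧ c7 i5 = 1 ∧ c0 i6 = 0 ∧ c1 i6 = 0 ∧ c2 i6 = 0 ∧ c3 i6 = 1 ∧ c4 i6 = 0 ∧ c5 i6 = 1 ∧ c6 i6 = 0 ∧ c7 i6 = 0 ∧ c0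 i7 = 0 ∧ c1 i7 = 0 ∧ c2 i7 = 0 ∧ c3 i7 = 0 ∧ c4 i7 = 0 ∧ c5 i7 = 0 ∧ c6 i7 = 1 ∧ c7 i7 = 1) ∧
    ∀ i, i ≠ i0 → i ≠ i1 → i ≠ i2 → i ≠ i3 → i ≠ i4 → i ≠ i5 → i ≠ i6 → i ≠ i7 → (c0 i = 0 ∧ c1 i = 0 ∧ c2 i = 0 ∧ c3 i = 0 ∧ c4 i = 0 ∧ c5 i = 0 ∧ c6 i = 0 ∧ c7 i = 0)

def St_8_3 {ι : Type*} (c0 c1 c2 c3 c4 c5 c6 c7 : ι → ℤ) : Prop :=
  ∃ i0 i1 i2 i3 i4 i5 i6 i7 i8 i9 : ι, (i0 ≠ i1 ∧ i0 ≠ i2 ∧ i0 ≠ i3 ∧ i0 ≠ i4 ∧ i0 ≠ i5 ∧ i0 ≠ i6 ∧ i0 ≠ i7 ∧ i0 ≠ i8 ∧ i0 ≠ i9 ∧ i1 ≠ i2 ∧ i1 ≠ i3 ∧ i1 ≠ i4 ∧ i1 ≠ i5 ∧ i1 ≠ i6 ∧ i1 ≠ i7 ∧ i1 ≠ i8 ∧ i1 ≠ i9 ∧ i2 ≠ i3 ∧ i2 ≠ i4 ∧ i2 ≠ i5 ∧ i2 ≠ i6 ∧ i2 ≠ i7 ∧ i2 ≠ i8 ∧ i2 ≠ i9 ∧ i3 ≠ i4 ∧ i3 ≠ i5 ∧ i3 ≠ i6 ∧ i3 ≠ i7 ∧ i3 ≠ i8 ∧ i3 ≠ i9 ∧ i4 ≠ i5 ∧ i4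 ≠ i6 ∧ i4 ≠ i7 ∧ i4 ≠ i8 ∧ i4 ≠ i9 ∧ i5 ≠ i6 ∧ i5 ≠ i7 ∧ i5 ≠ i8 ∧ i5 ≠ i9 ∧ i6 ≠ i7 ∧ i6 ≠ i8 ∧ i6 ≠ i9 ∧ i7 ≠ i8 ∧ i7 ≠ i9 ∧ i8 ≠ i9) ∧
    (c0 i0 = 1 ∧ c1 i0 = 0 ∧ c2 i0 = 0 ∧ c3 i0 = 1 ∧ c4 i0 = 1 ∧ c5 i0 = 0 ∧ c6 i0 = 0 ∧ c7 i0 = 0 ∧ c0 i1 = 1 ∧ c1 i1 = -1 ∧ c2 i1 = 0 ∧ c3 i1 = 0 ∧ c4 i1 = -1 ∧ c5 i1 = 1 ∧ c6 i1 = 0 ∧ c7 i1 = 0 ∧ c0 i2 = 0 ∧ c1 i2 = 1 ∧ c2 i2 = 1 ∧ c3 i2 = -1 ∧ c4 i2 = 0 ∧ c5 i2 = 0 ∧ c6 i2 = 1 ∧ c7 i2 = 1 ∧ c0 i3 = 0 ∧ c1 i3 = 1 ∧ c2 i3 = -1 ∧ c3 i3 = 0 ∧ c4 i3 = 0 ∧ c5 i3 = 0 ∧ c6 i3 = 0 ∧ c7 i3 = 0 ∧ c0 i4 = 0 ∧ c1 i4 = 0 ∧ c2 i4 = 0 ∧ c3 i4 = 1 ∧ c4 i4 = 0 ∧ c5 i4 = 1 ∧ c6 i4 = 0 ∧ c7 i4 = 0 ∧ c0 i5 = 0 ∧ c1 i5 = 0 ∧ c2 i5 = 0 ∧ c3 i5 = 0 ∧ c4 i5 = 1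 ∧ c5 i5 = 1 ∧ c6 i5 = 1 ∧ c7 i5 = 0 ∧ c0 i6 = 0 ∧ c1 i6 = 0 ∧ c2 i6 = 0 ∧ c3 i6 = 0 ∧ c4 i6 = 0 ∧ c5 i6 = 0 ∧ c6 i6 = 1 ∧ c7 i6 = 0 ∧ c0 i7 = 0 ∧ c1 i7 = 0 ∧ c2 i7 = 0 ∧ c3 i7 = 0 ∧ c4 i7 = 0 ∧ c5 i7 = 0 ∧ c6 i7 = 1 ∧ c7 i7 = 0 ∧ c0 i8 = 0 ∧ c1 i8 = 0 ∧ c2 i8 = 0 ∧ c3 i8 = 0 ∧ c4 i8 = 0 ∧ c5 i8 = 0 ∧ c6 i8 = 0 ∧ c7 i8 = 1 ∧ c0 i9 = 0 ∧ c1 i9 = 0 ∧ c2 i9 = 0 ∧ c3 i9 = 0 ∧ c4 i9 = 0 ∧ c5 i9 = 0 ∧ c6 i9 = 0 ∧ c7 i9 = 1) ∧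
    ∀ i, i ≠ i0 → i ≠ i1 → i ≠ i2 → i ≠ i3 → i ≠ i4 → i ≠ i5 → i ≠ i6 → i ≠ i7 → i ≠ i8 → i ≠ i9 → (c0 i = 0 ∧ c1 i = 0 ∧ c2 i = 0 ∧ c3 i = 0 ∧ c4 i = 0 ∧ c5 i = 0 ∧ c6 i = 0 ∧ c7 i = 0)

def St_8_4 {ι : Type*} (c0 c1 c2 c3 c4 c5 c6 c7 : ι → ℤ) : Prop :=
  ∃ i0 i1 i2 i3 i4 i5 i6 i7 : ι, (i0 ≠ i1 ∧ i0 ≠ i2 ∧ i0 ≠ i3 ∧ i0 ≠ i4 ∧ i0 ≠ i5 ∧ i0 ≠ i6 ∧ i0 ≠ i7 ∧ i1 ≠ i2 ∧ i1 ≠ i3 ∧ i1 ≠ i4 ∧ i1 ≠ i5 ∧ i1 ≠ i6 ∧ i1 ≠ i7 ∧ i2 ≠ i3 ∧ i2 ≠ i4 ∧ i2 ≠ i5 ∧ i2 ≠ i6 ∧ i2 ≠ i7 ∧ i3 ≠ i4 ∧ i3 ≠ i5 ∧ i3 ≠ i6 ∧ i3 ≠ i7 ∧ i4 ≠ i5 ∧ i4 ≠ i6 ∧ i4 ≠ i7 ∧ i5 ≠ i6 ∧ i5 ≠ i7 ∧ i6 ≠ i7) ∧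
    (c0 i0 = 1 ∧ c1 i0 = 0 ∧ c2 i0 = 0 ∧ c3 i0 = 1 ∧ c4 i0 = 1 ∧ c5 i0 = 0 ∧ c6 i0 = 0 ∧ c7 i0 = 0 ∧ c0 i1 = 1 ∧ c1 i1 = -1 ∧ c2 i1 = 0 ∧ c3 i1 = 0 ∧ c4 i1 = -1 ∧ c5 i1 = 1 ∧ c6 i1 = 0 ∧ c7 i1 = 0 ∧ c0 i2 = 0 ∧ c1 i2 = 1 ∧ c2 i2 = 1 ∧ c3 i2 = -1 ∧ c4 i2 = 0 ∧ c5 i2 = 0 ∧ c6 i2 = 1 ∧ c7 i2 = 1 ∧ c0 i3 = 0 ∧ c1 i3 = 1 ∧ c2 i3 = -1 ∧ c3 i3 = 0 ∧ c4 i3 = 0 ∧ c5 i3 = 0 ∧ c6 i3 = 0 ∧ c7 i3 = 0 ∧ c0 i4 = 0 ∧ c1 i4 = 0 ∧ c2 i4 = 0 ∧ c3 i4 = 1 ∧ c4 i4 = 0 ∧ c5 i4 = 1 ∧ c6 i4 = 0 ∧ c7 i4 = 0 ∧ c0 i5 = 0 ∧ c1 i5 = 0 ∧ c2 i5 = 0 ∧ c3 i5 = 0 ∧ c4 i5 = 1 ∧ c5 i5 = 1 ∧ c6 i5 = 1 ∧ c7 i5 = 0 ∧ c0 i6 = 0 ∧ c1 i6 = 0 ∧ c2 i6 = 0 ∧ c3 i6 = 0 ∧ c4 i6 = 0 ∧ c5 i6 = 0 ∧ c6 i6 = 1 ∧ c7 i6 = 1 ∧ c0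 i7 = 0 ∧ c1 i7 = 0 ∧ c2 i7 = 0 ∧ c3 i7 = 0 ∧ c4 i7 = 0 ∧ c5 i7 = 0 ∧ c6 i7 = 1 ∧ c7 i7 = -1) ∧
    ∀ i, i ≠ i0 → i ≠ i1 → i ≠ i2 → i ≠ i3 → i ≠ i4 → i ≠ i5 → i ≠ i6 → i ≠ i7 → (c0 i = 0 ∧ c1 i = 0 ∧ c2 i = 0 ∧ c3 i = 0 ∧ c4 i = 0 ∧ c5 i = 0 ∧ c6 i = 0 ∧ c7 i = 0)

def St_9_0 {ι : Type*} (c0 c1 c2 c3 c4 c5 c6 c7 c8 : ι → ℤ) : Prop :=
  ∃ i0 i1 i2 i3 i4 i5 i6 i7 i8 i9 i10 i11 : ι, (i0 ≠ i1 ∧ i0 ≠ i2 ∧ i0 ≠ i3 ∧ i0 ≠ i4 ∧ i0 ≠ i5 ∧ i0 ≠ i6 ∧ i0 ≠ i7 ∧ i0 ≠ i8 ∧ i0 ≠ i9 ∧ i0 ≠ i10 ∧ i0 ≠ i11 ∧ i1 ≠ i2 ∧ i1 ≠ i3 ∧ i1 ≠ i4 ∧ i1 ≠ i5 ∧ i1 ≠ i6 ∧ i1 ≠ i7 ∧ i1 ≠ i8 ∧ i1 ≠ i9 ∧ i1 ≠ i10 ∧ i1 ≠ i11 ∧ i2 ≠ i3 ∧ i2 ≠ i4 ∧ i2 ≠ i5 ∧ i2 ≠ i6 ∧ i2 ≠ i7 ∧ i2 ≠ i8 ∧ i2 ≠ i9 ∧ i2 ≠ i10 ∧ i2 ≠ i11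 ∧ i3 ≠ i4 ∧ i3 ≠ i5 ∧ i3 ≠ i6 ∧ i3 ≠ i7 ∧ i3 ≠ i8 ∧ i3 ≠ i9 ∧ i3 ≠ i10 ∧ i3 ≠ i11 ∧ i4 ≠ i5 ∧ i4 ≠ i6 ∧ i4 ≠ i7 ∧ i4 ≠ i8 ∧ i4 ≠ i9 ∧ i4 ≠ i10 ∧ i4 ≠ i11 ∧ i5 ≠ i6 ∧ i5 ≠ i7 ∧ i5 ≠ i8 ∧ i5 ≠ i9 ∧ i5 ≠ i10 ∧ i5 ≠ i11 ∧ i6 ≠ i7 ∧ i6 ≠ i8 ∧ i6 ≠ i9 ∧ i6 ≠ i10 ∧ i6 ≠ i11 ∧ i7 ≠ i8 ∧ i7 ≠ i9 ∧ i7 ≠ i10 ∧ i7 ≠ i11 ∧ i8 ≠ i9 ∧ i8 ≠ i10 ∧ i8 ≠ i11 ∧ i9 ≠ i10 ∧ i9 ≠ i11 ∧ i10 ≠ i11) ∧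
    (c0 i0 = 1 ∧ c1 i0 = 0 ∧ c2 i0 = 0 ∧ c3 i0 = 0 ∧ c4 i0 = 0 ∧ c5 i0 = 0 ∧ c6 i0 = 0 ∧ c7 i0 = 0 ∧ c8 i0 = 0 ∧ c0 i1 = 1 ∧ c1 i1 = -1 ∧ c2 i1 = 0 ∧ c3 i1 = 1 ∧ c4 i1 = 0 ∧ c5 i1 = 1 ∧ c6 i1 = 0 ∧ c7 i1 = 0 ∧ c8 i1 = 0 ∧ c0 i2 = 0 ∧ c1 i2 = 1 ∧ c2 i2 = 0 ∧ c3 i2 = 0 ∧ c4 i2 = 1 ∧ c5 i2 = 0 ∧ c6 i2 = 1 ∧ c7 i2 = 0 ∧ c8 i2 = 0 ∧ c0 i3 = 0 ∧ c1 i3 = 1 ∧ c2 i3 = 0 ∧ c3 i3 = 0 ∧ c4 i3 = 0 ∧ c5 i3 = 0 ∧ c6 i3 = 0 ∧ c7 i3 = 1 ∧ c8 i3 = 1 ∧ c0 i4 = 0 ∧ c1 i4 = 0 ∧ c2 i4 = 1 ∧ c3 i4 = 0 ∧ c4 i4 = 0 ∧ c5 i4 = 0 ∧ c6 i4 = 0 ∧ c7 i4 = 0 ∧ c8 i4 = 0 ∧ c0 i5 = 0 ∧ c1 i5 = 0 ∧ c2 i5 = 1 ∧ c3 i5 = -1 ∧ c4 i5 = 0 ∧ c5 i5 = 0 ∧ c6 i5 = 1 ∧ c7 i5 = 1 ∧ c8 i5 = 0 ∧ c0 i6 = 0 ∧ c1 i6 = 0 ∧ c2 i6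 = 0 ∧ c3 i6 = 1 ∧ c4 i6 = 1 ∧ c5 i6 = 0 ∧ c6 i6 = 0 ∧ c7 i6 = 0 ∧ c8 i6 = 1 ∧ c0 i7 = 0 ∧ c1 i7 = 0 ∧ c2 i7 = 0 ∧ c3 i7 = 0 ∧ c4 i7 = 1 ∧ c5 i7 = 0 ∧ c6 i7 = 0 ∧ c7 i7 = 0 ∧ c8 i7 = 0 ∧ c0 i8 = 0 ∧ c1 i8 = 0 ∧ c2 i8 = 0 ∧ c3 i8 = 0 ∧ c4 i8 = 0 ∧ c5 i8 = 1 ∧ c6 i8 = 1 ∧ c7 i8 = 0 ∧ c8 i8 = 0 ∧ c0 i9 = 0 ∧ c1 i9 = 0 ∧ c2 i9 = 0 ∧ c3 i9 = 0 ∧ c4 i9 = 0 ∧ c5 i9 = 1 ∧ c6 i9 = 0 ∧ c7 i9 = 0 ∧ c8 i9 = 1 ∧ c0 i10 = 0 ∧ c1 i10 = 0 ∧ c2 i10 = 0 ∧ c3 i10 = 0 ∧ c4 i10 = 0 ∧ c5 i10 = 0 ∧ c6 i10 = 1 ∧ c7 i10 = 0 ∧ c8 i10 = 1 ∧ c0 i11 = 0 ∧ c1 i11 = 0 ∧ c2 i11 = 0 ∧ c3 i11 = 0 ∧ c4 i11 = 0 ∧ c5 i11 = 0 ∧ c6 i11 = 0 ∧ c7 i11 = 1 ∧ c8 i11 = 0) ∧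
    ∀ i, i ≠ i0 → i ≠ i1 → i ≠ i2 → i ≠ i3 → i ≠ i4 → i ≠ i5 → i ≠ i6 → i ≠ i7 → i ≠ i8 → i ≠ i9 → i ≠ i10 → i ≠ i11 → (c0 i = 0 ∧ c1 i = 0 ∧ c2 i = 0 ∧ c3 i = 0 ∧ c4 i = 0 ∧ c5 i = 0 ∧ c6 i = 0 ∧ c7 i = 0 ∧ c8 i = 0)

def St_9_1 {ι : Type*} (c0 c1 c2 c3 c4 c5 c6 c7 c8 : ι → ℤ) : Prop :=
  ∃ i0 i1 i2 i3 i4 i5 i6 i7 i8 i9 i10 i11 i12 : ι, (i0 ≠ i1 ∧ i0 ≠ i2 ∧ i0 ≠ i3 ∧ i0 ≠ i4 ∧ i0 ≠ i5 ∧ i0 ≠ i6 ∧ i0 ≠ i7 ∧ i0 ≠ i8 ∧ i0 ≠ i9 ∧ i0 ≠ i10 ∧ i0 ≠ i11 ∧ i0 ≠ i12 ∧ i1 ≠ i2 ∧ i1 ≠ i3 ∧ i1 ≠ i4 ∧ i1 ≠ i5 ∧ i1 ≠ i6 ∧ i1 ≠ i7 ∧ i1 ≠ i8 ∧ i1 ≠ i9 ∧ i1 ≠ i10 ∧ i1 ≠ i11 ∧ i1 ≠ i12 ∧ i2 ≠ i3 ∧ i2 ≠ i4 ∧ i2 ≠ i5 ∧ i2 ≠ i6 ∧ i2 ≠ i7 ∧ i2 ≠ i8 ∧ i2 ≠ i9 ∧ i2 ≠ i10 ∧ i2 ≠ i11 ∧ i2 ≠ i12 ∧ i3 ≠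 i4 ∧ i3 ≠ i5 ∧ i3 ≠ i6 ∧ i3 ≠ i7 ∧ i3 ≠ i8 ∧ i3 ≠ i9 ∧ i3 ≠ i10 ∧ i3 ≠ i11 ∧ i3 ≠ i12 ∧ i4 ≠ i5 ∧ i4 ≠ i6 ∧ i4 ≠ i7 ∧ i4 ≠ i8 ∧ i4 ≠ i9 ∧ i4 ≠ i10 ∧ i4 ≠ i11 ∧ i4 ≠ i12 ∧ i5 ≠ i6 ∧ i5 ≠ i7 ∧ i5 ≠ i8 ∧ i5 ≠ i9 ∧ i5 ≠ i10 ∧ i5 ≠ i11 ∧ i5 ≠ i12 ∧ i6 ≠ i7 ∧ i6 ≠ i8 ∧ i6 ≠ i9 ∧ i6 ≠ i10 ∧ i6 ≠ i11 ∧ i6 ≠ i12 ∧ i7 ≠ i8 ∧ i7 ≠ i9 ∧ i7 ≠ i10 ∧ i7 ≠ i11 ∧ i7 ≠ i12 ∧ i8 ≠ i9 ∧ i8 ≠ i10 ∧ i8 ≠ i11 ∧ i8 ≠ i12 ∧ i9 ≠ i10 ∧ i9 ≠ i11 ∧ i9 ≠ i12 ∧ i10 ≠ i11 ∧ i10 ≠ i12 ∧ i11 ≠ i12) ∧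
    (c0 i0 = 1 ∧ c1 i0 = 0 ∧ c2 i0 = 0 ∧ c3 i0 = 0 ∧ c4 i0 = 0 ∧ c5 i0 = 0 ∧ c6 i0 = 0 ∧ c7 i0 = 0 ∧ c8 i0 = 0 ∧ c0 i1 = 1 ∧ c1 i1 = -1 ∧ c2 i1 = 0 ∧ c3 i1 = 1 ∧ c4 i1 = 0 ∧ c5 i1 = 1 ∧ c6 i1 = 0 ∧ c7 i1 = 0 ∧ c8 i1 = 0 ∧ c0 i2 = 0 ∧ c1 i2 = 1 ∧ c2 i2 = 0 ∧ c3 i2 = 0 ∧ c4 i2 = 1 ∧ c5 i2 = 0 ∧ c6 i2 = 1 ∧ c7 i2 = 0 ∧ c8 i2 = 0 ∧ c0 i3 = 0 ∧ c1 i3 = 1 ∧ c2 i3 = 0 ∧ c3 i3 = 0 ∧ c4 i3 = 0 ∧ c5 i3 = 0 ∧ c6 i3 = 0 ∧ c7 i3 = 1 ∧ c8 i3 = 1 ∧ c0 i4 = 0 ∧ c1 i4 = 0 ∧ c2 i4 = 1 ∧ c3 i4 = 0 ∧ c4 i4 = 0 ∧ c5 i4 = 0 ∧ c6 i4 = 0 ∧ c7 i4 = 0 ∧ c8 i4 = 0 ∧ c0 i5 = 0 ∧ c1 i5 = 0 ∧ c2 i5 = 1 ∧ c3 i5 = -1 ∧ c4 i5 = 0 ∧ c5 i5 = 0 ∧ c6 i5 = 1 ∧ c7 i5 = 1 ∧ c8 i5 = 0 ∧ c0 i6 = 0 ∧ c1 i6 = 0 ∧ c2 i6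 = 0 ∧ c3 i6 = 1 ∧ c4 i6 = 1 ∧ c5 i6 = 0 ∧ c6 i6 = 0 ∧ c7 i6 = 0 ∧ c8 i6 = 1 ∧ c0 i7 = 0 ∧ c1 i7 = 0 ∧ c2 i7 = 0 ∧ c3 i7 = 0 ∧ c4 i7 = 1 ∧ c5 i7 = 0 ∧ c6 i7 = 0 ∧ c7 i7 = 0 ∧ c8 i7 = 0 ∧ c0 i8 = 0 ∧ c1 i8 = 0 ∧ c2 i8 = 0 ∧ c3 i8 = 0 ∧ c4 i8 = 0 ∧ c5 i8 = 1 ∧ c6 i8 = 1 ∧ c7 i8 = 0 ∧ c8 i8 = 1 ∧ c0 i9 = 0 ∧ c1 i9 = 0 ∧ c2 i9 = 0 ∧ c3 i9 = 0 ∧ c4 i9 = 0 ∧ c5 i9 = 1 ∧ c6 i9 = 0 ∧ c7 i9 = 0 ∧ c8 i9 = 0 ∧ c0 i10 = 0 ∧ c1 i10 = 0 ∧ c2 i10 = 0 ∧ c3 i10 = 0 ∧ c4 i10 = 0 ∧ c5 i10 = 0 ∧ c6 i10 = 1 ∧ c7 i10 = 0 ∧ c8 i10 = 0 ∧ c0 i11 = 0 ∧ c1 i11 = 0 ∧ c2 i11 = 0 ∧ c3 i11 = 0 ∧ c4 i11 = 0 ∧ c5 i11 = 0 ∧ c6 i11 = 0 ∧ c7 i11 = 1 ∧ c8 i11 = 0 ∧ c0 i12 = 0 ∧ c1 i12 = 0 ∧ c2 i12 = 0 ∧ c3 i12 =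 0 ∧ c4 i12 = 0 ∧ c5 i12 = 0 ∧ c6 i12 = 0 ∧ c7 i12 = 0 ∧ c8 i12 = 1) ∧
    ∀ i, i ≠ i0 → i ≠ i1 → i ≠ i2 → i ≠ i3 → i ≠ i4 → i ≠ i5 → i ≠ i6 → i ≠ i7 → i ≠ i8 → i ≠ i9 → i ≠ i10 → i ≠ i11 → i ≠ i12 → (c0 i = 0 ∧ c1 i = 0 ∧ c2 i = 0 ∧ c3 i = 0 ∧ c4 i = 0 ∧ c5 i = 0 ∧ c6 i = 0 ∧ c7 i = 0 ∧ c8 i = 0)

def St_9_2 {ι : Type*} (c0 c1 c2 c3 c4 c5 c6 c7 c8 : ι → ℤ) : Prop :=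
  ∃ i0 i1 i2 i3 i4 i5 i6 i7 i8 i9 i10 i11 : ι, (i0 ≠ i1 ∧ i0 ≠ i2 ∧ i0 ≠ i3 ∧ i0 ≠ i4 ∧ i0 ≠ i5 ∧ i0 ≠ i6 ∧ i0 ≠ i7 ∧ i0 ≠ i8 ∧ i0 ≠ i9 ∧ i0 ≠ i10 ∧ i0 ≠ i11 ∧ i1 ≠ i2 ∧ i1 ≠ i3 ∧ i1 ≠ i4 ∧ i1 ≠ i5 ∧ i1 ≠ i6 ∧ i1 ≠ i7 ∧ i1 ≠ i8 ∧ i1 ≠ i9 ∧ i1 ≠ i10 ∧ i1 ≠ i11 ∧ i2 ≠ i3 ∧ i2 ≠ i4 ∧ i2 ≠ i5 ∧ i2 ≠ i6 ∧ i2 ≠ i7 ∧ i2 ≠ i8 ∧ i2 ≠ i9 ∧ i2 ≠ i10 ∧ i2 ≠ i11 ∧ i3 ≠ i4 ∧ i3 ≠ i5 ∧ i3 ≠ i6 ∧ i3 ≠ i7 ∧ i3 ≠ i8 ∧ i3 ≠ i9 ∧ i3 ≠ i10 ∧ i3 ≠ i11 ∧ i4 ≠ i5 ∧ i4 ≠ i6 ∧ i4 ≠ i7 ∧ i4 ≠ i8 ∧ i4 ≠ i9 ∧ i4 ≠ i10 ∧ i4 ≠ i11 ∧ i5 ≠ i6 ∧ i5 ≠ i7 ∧ i5 ≠ i8 ∧ i5 ≠ i9 ∧ i5 ≠ i10 ∧ i5 ≠ i11 ∧ i6 ≠ i7 ∧ i6 ≠ i8 ∧ i6 ≠ i9 ∧ i6 ≠ i10 ∧ i6 ≠ i11 ∧ i7 ≠ i8 ∧ i7 ≠ i9 ∧ i7 ≠ i10 ∧ i7 ≠ i11 ∧ i8 ≠ i9 ∧ i8 ≠ i10 ∧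 i8 ≠ i11 ∧ i9 ≠ i10 ∧ i9 ≠ i11 ∧ i10 ≠ i11) ∧
    (c0 i0 = 1 ∧ c1 i0 = 0 ∧ c2 i0 = 0 ∧ c3 i0 = 0 ∧ c4 i0 = 0 ∧ c5 i0 = 0 ∧ c6 i0 = 0 ∧ c7 i0 = 0 ∧ c8 i0 = -1 ∧ c0 i1 = 1 ∧ c1 i1 = -1 ∧ c2 i1 = 0 ∧ c3 i1 = 1 ∧ c4 i1 = 0 ∧ c5 i1 = 1 ∧ c6 i1 = 0 ∧ c7 i1 = 0 ∧ c8 i1 = 1 ∧ c0 i2 = 0 ∧ c1 i2 = 1 ∧ c2 i2 = 0 ∧ c3 i2 = 0 ∧ c4 i2 = 1 ∧ c5 i2 = 0 ∧ c6 i2 = 1 ∧ c7 i2 = 0 ∧ c8 i2 = 1 ∧ c0 i3 = 0 ∧ c1 i3 = 1 ∧ c2 i3 = 0 ∧ c3 i3 = 0 ∧ c4 i3 = 0 ∧ c5 i3 = 0 ∧ c6 i3 = 0 ∧ c7 i3 = 1 ∧ c8 i3 = 1 ∧ c0 i4 = 0 ∧ c1 i4 = 0 ∧ c2 i4 = 1 ∧ c3 i4 = 0 ∧ c4 i4 = 0 ∧ c5 i4 = 0 ∧ c6 i4 = 0 ∧ c7 i4 = 0 ∧ c8 i4 = 0 ∧ c0 i5 = 0 ∧ c1 i5 = 0 ∧ c2 i5 = 1 ∧ c3 i5 = -1 ∧ c4 i5 = 0 ∧ c5 i5 = 0 ∧ c6 i5 = 1 ∧ c7 i5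 = 1 ∧ c8 i5 = 0 ∧ c0 i6 = 0 ∧ c1 i6 = 0 ∧ c2 i6 = 0 ∧ c3 i6 = 1 ∧ c4 i6 = 1 ∧ c5 i6 = 0 ∧ c6 i6 = 0 ∧ c7 i6 = 0 ∧ c8 i6 = 0 ∧ c0 i7 = 0 ∧ c1 i7 = 0 ∧ c2 i7 = 0 ∧ c3 i7 = 0 ∧ c4 i7 = 1 ∧ c5 i7 = 0 ∧ c6 i7 = 0 ∧ c7 i7 = 0 ∧ c8 i7 = 0 ∧ c0 i8 = 0 ∧ c1 i8 = 0 ∧ c2 i8 = 0 ∧ c3 i8 = 0 ∧ c4 i8 = 0 ∧ c5 i8 = 1 ∧ c6 i8 = 1 ∧ c7 i8 = 0 ∧ c8 i8 = 0 ∧ c0 i9 = 0 ∧ c1 i9 = 0 ∧ c2 i9 = 0 ∧ c3 i9 = 0 ∧ c4 i9 = 0 ∧ c5 i9 = 1 ∧ c6 i9 = 0 ∧ c7 i9 = 0 ∧ c8 i9 = 0 ∧ c0 i10 = 0 ∧ c1 i10 = 0 ∧ c2 i10 = 0 ∧ c3 i10 = 0 ∧ c4 i10 = 0 ∧ c5 i10 = 0 ∧ c6 i10 = 1 ∧ c7 i10 = 0 ∧ c8 i10 = 0 ∧ c0 i11 = 0 ∧ c1 i11 = 0 ∧ c2 i11 = 0 ∧ c3 i11 = 0 ∧ c4 i11 = 0 ∧ c5 i11 = 0 ∧ c6 i11 = 0 ∧ c7 i11 = 1 ∧ c8 i11 = 0) ∧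
    ∀ i, i ≠ i0 → i ≠ i1 → i ≠ i2 → i ≠ i3 → i ≠ i4 → i ≠ i5 → i ≠ i6 → i ≠ i7 → i ≠ i8 → i ≠ i9 → i ≠ i10 → i ≠ i11 → (c0 i = 0 ∧ c1 i = 0 ∧ c2 i = 0 ∧ c3 i = 0 ∧ c4 i = 0 ∧ c5 i = 0 ∧ c6 i = 0 ∧ c7 i = 0 ∧ c8 i = 0)

def St_9_3 {ι : Type*} (c0 c1 c2 c3 c4 c5 c6 c7 c8 : ι → ℤ) : Prop :=
  ∃ i0 i1 i2 i3 i4 i5 i6 i7 i8 i9 i10 : ι, (i0 ≠ i1 ∧ i0 ≠ i2 ∧ i0 ≠ i3 ∧ i0 ≠ i4 ∧ i0 ≠ i5 ∧ i0 ≠ i6 ∧ i0 ≠ i7 ∧ i0 ≠ i8 ∧ i0 ≠ i9 ∧ i0 ≠ i10 ∧ i1 ≠ i2 ∧ i1 ≠ i3 ∧ i1 ≠ i4 ∧ i1 ≠ i5 ∧ i1 ≠ i6 ∧ i1 ≠ i7 ∧ i1 ≠ i8 ∧ i1 ≠ i9 ∧ i1 ≠ i10 ∧ i2 ≠ i3 ∧ i2 ≠ i4 ∧ i2 ≠ i5 ∧ i2 ≠ i6 ∧ i2 ≠ i7 ∧ i2 ≠ i8 ∧ i2 ≠ i9 ∧ i2 ≠ i10 ∧ i3 ≠ i4 ∧ i3 ≠ i5 ∧ i3 ≠ i6 ∧ i3 ≠ i7 ∧ i3 ≠ i8 ∧ i3 ≠ i9 ∧ i3 ≠ i10 ∧ i4 ≠ i5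 ∧ i4 ≠ i6 ∧ i4 ≠ i7 ∧ i4 ≠ i8 ∧ i4 ≠ i9 ∧ i4 ≠ i10 ∧ i5 ≠ i6 ∧ i5 ≠ i7 ∧ i5 ≠ i8 ∧ i5 ≠ i9 ∧ i5 ≠ i10 ∧ i6 ≠ i7 ∧ i6 ≠ i8 ∧ i6 ≠ i9 ∧ i6 ≠ i10 ∧ i7 ≠ i8 ∧ i7 ≠ i9 ∧ i7 ≠ i10 ∧ i8 ≠ i9 ∧ i8 ≠ i10 ∧ i9 ≠ i10) ∧
    (c0 i0 = 1 ∧ c1 i0 = 0 ∧ c2 i0 = 0 ∧ c3 i0 = 0 ∧ c4 i0 = 0 ∧ c5 i0 = 0 ∧ c6 i0 = 0 ∧ c7 i0 = 0 ∧ c8 i0 = -1 ∧ c0 i1 = 1 ∧ c1 i1 = -1 ∧ c2 i1 = 0 ∧ c3 i1 = 1 ∧ c4 i1 = 0 ∧ c5 i1 = 1 ∧ c6 i1 = 0 ∧ c7 i1 = 0 ∧ c8 i1 = 1 ∧ c0 i2 = 0 ∧ c1 i2 = 1 ∧ c2 i2 = 0 ∧ c3 i2 = 0 ∧ c4 i2 = 1 ∧ c5 i2 = 0 ∧ c6 i2 = 1 ∧ c7 i2 = 1 ∧ c8 i2 = 1 ∧ c0 i3 = 0 ∧ c1 i3 = 1 ∧ c2 i3 = 0 ∧ c3 i3 = 0 ∧ c4 i3 = 0 ∧ c5 i3 = 0 ∧ c6 i3 = 0 ∧ c7 i3 = 0 ∧ c8 i3 = 1 ∧ c0 i4 = 0 ∧ c1 i4 = 0 ∧ c2 i4 = 1 ∧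 c3 i4 = 0 ∧ c4 i4 = 0 ∧ c5 i4 = 0 ∧ c6 i4 = 0 ∧ c7 i4 = 1 ∧ c8 i4 = 0 ∧ c0 i5 = 0 ∧ c1 i5 = 0 ∧ c2 i5 = 1 ∧ c3 i5 = -1 ∧ c4 i5 = 0 ∧ c5 i5 = 0 ∧ c6 i5 = 1 ∧ c7 i5 = 0 ∧ c8 i5 = 0 ∧ c0 i6 = 0 ∧ c1 i6 = 0 ∧ c2 i6 = 0 ∧ c3 i6 = 1 ∧ c4 i6 = 1 ∧ c5 i6 = 0 ∧ c6 i6 = 0 ∧ c7 i6 = -1 ∧ c8 i6 = 0 ∧ c0 i7 = 0 ∧ c1 i7 = 0 ∧ c2 i7 = 0 ∧ c3 i7 = 0 ∧ c4 i7 = 1 ∧ c5 i7 = 0 ∧ c6 i7 = 0 ∧ c7 i7 = 0 ∧ c8 i7 = 0 ∧ c0 i8 = 0 ∧ c1 i8 = 0 ∧ c2 i8 = 0 ∧ c3 i8 = 0 ∧ c4 i8 = 0 ∧ c5 i8 = 1 ∧ c6 i8 = 1 ∧ c7 i8 = 0 ∧ c8 i8 = 0 ∧ c0 i9 = 0 ∧ c1 i9 = 0 ∧ c2 i9 = 0 ∧ c3 i9 = 0 ∧ c4 i9 = 0 ∧ c5 i9 = 1 ∧ c6 i9 = 0 ∧ c7 i9 = 0 ∧ c8 i9 = 0 ∧ c0 i10 = 0 ∧ c1 i10 = 0 ∧ c2 i10 = 0 ∧ c3 i10 = 0 ∧ c4 i10 = 0 ∧ c5 i10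 = 0 ∧ c6 i10 = 1 ∧ c7 i10 = 0 ∧ c8 i10 = 0) ∧
    ∀ i, i ≠ i0 → i ≠ i1 → i ≠ i2 → i ≠ i3 → i ≠ i4 → i ≠ i5 → i ≠ i6 → i ≠ i7 → i ≠ i8 → i ≠ i9 → i ≠ i10 → (c0 i = 0 ∧ c1 i = 0 ∧ c2 i = 0 ∧ c3 i = 0 ∧ c4 i = 0 ∧ c5 i = 0 ∧ c6 i = 0 ∧ c7 i = 0 ∧ c8 i = 0)

theorem ext_0_0 {ι : Type*} [Fintype ι] [DecidableEq ι] (c0 : ι → ℤ)
    (hG0 : ∑ i, c0 i * c0 i = 2)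
    (hpos : ∀ i, 0 ≤ c0 i) :
    St_1_0 c0 := by
  set S : Finset ι := Finset.univ with hS
  have hnn : ∀ i ∈ S, 0 ≤ c0 i := fun i _ => hpos i
  have hrho : ∑ i ∈ S, c0 i * c0 i = 2 := hG0
  obtain ⟨a, haS, b, hbS, hab, hfa, hfb, hzr⟩ := Cfsg.Agent.Lib.Helper76_ShapeLib.rem2 S c0 hnn hrho
  refine ⟨a, b, hab, ⟨hfa, hfb⟩, ?_⟩
  intro i m0 m1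
  have hiS : i ∈ S := Finset.mem_univ i
  exact (hzr i hiS m0 m1)

theorem ar_1_0 (x0 x1 r : ℤ) (e0 : (-1 : ℤ) = (1) * x0 + (1) * x1) (en : (3 : ℤ) = x0 * x0 + x1 * x1 + r) (hr : 0 ≤ r) : (x0 = 0 ∧ x1 = -1 ∧ r = 2) ∨ (x0 = -1 ∧ x1 = 0 ∧ r = 2) := by
  have hb1 : x1 * x1 ≤ 3 := by linarith [mul_self_nonneg x0, mul_self_nonneg x1]
  obtain ⟨hl1, hu1⟩ := Cfsg.Agent.Lib.Helper76_ShapeLib.bound1 x1 hb1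
  obtain rfl : x0 = -1 + (-1) * x1 := by omega
  interval_cases x1 <;> omega

theorem ext_1_0 {ι : Type*} [Fintype ι] [DecidableEq ι] (c0 c1 : ι → ℤ)
    (hG0 : ∑ i, c0 i * c1 i = -1)
    (hG1 : ∑ i, c1 i * c1 i = 3)
    (hpos : ∀ i, c0 i = 0 → 0 ≤ c1 i)
    (h : St_1_0 c0) :
    St_2_0 c0 c1 := by
  obtain ⟨i0, i1, d_0_1, ⟨v_0_0, v_1_0⟩, hz⟩ := h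
  have hnd : ([i0, i1] : List ι).Nodup := by
    simp only [List.nodup_cons, List.mem_cons, List.not_mem_nil, or_false, not_or, List.nodup_nil, and_true, not_false_eq_true]
    exact d_0_1
  set S : Finset ι := Finset.univ \ ([i0, i1] : List ι).toFinset with hS
  have hmem : ∀ i, i ∈ S ↔ (i ≠ i0 ∧ i ≠ i1) := by
    intro i
    simp only [hS, Finset.mem_sdiff, Finset.mem_univ, true_and, List.mem_toFinset, List.mem_cons, List.not_mem_nil, or_false, not_or, ne_eq]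
  have hz' : ∀ i ∈ S, (c0 i = 0) := by
    intro i hi
    obtain ⟨n0, n1⟩ := (hmem i).1 hi
    exact hz i n0 n1
  have e0 : (-1 : ℤ) = (1) * c1 i0 + (1) * c1 i1 := by
    have h1 := Cfsg.Agent.Lib.Helper76_ShapeLib.sum_split [i0, i1] hnd (fun i => c0 i * c1 i)
    have h2 : ∑ i ∈ S, c0 i * c1 i = 0 := Finset.sum_eq_zero fun i hi => by
      rw [(hz' i hi), zero_mul]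
    rw [hG0, h2] at h1
    simp only [List.map_cons, List.map_nil, List.sum_cons, List.sum_nil, v_0_0, v_1_0] at h1
    linarith
  have en : (3 : ℤ) = c1 i0 * c1 i0 + c1 i1 * c1 i1 + ∑ i ∈ S, c1 i * c1 i := by
    have h1 := Cfsg.Agent.Lib.Helper76_ShapeLib.sum_split [i0, i1] hnd (fun i => c1 i * c1 i)
    rw [hG1] at h1
    simp only [List.map_cons, List.map_nil, List.sum_cons, List.sum_nil] at h1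
    linarith
  have hr : 0 ≤ ∑ i ∈ S, c1 i * c1 i := Finset.sum_nonneg fun i _ => mul_self_nonneg _
  have hnn : ∀ i ∈ S, 0 ≤ c1 i := by
    intro i hi
    obtain z0 := hz' i hi
    exact hpos i z0
  have hsol := ar_1_0 (c1 i0) (c1 i1) _ e0 en hr
  rcases hsol with ⟨hx0, hx1, hrho⟩ | ⟨hx0, hx1, hrho⟩
  · -- solution (0, -1), rho = 2
    obtain ⟨a, haS, b, hbS, hab, hfa, hfb, hzr⟩ := Cfsg.Agent.Lib.Helper76_ShapeLib.rem2 S c1 hnn hrho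
    obtain ⟨na0, na1⟩ := (hmem a).1 haS
    obtain za0 := hz' a haS
    obtain ⟨nb0, nb1⟩ := (hmem b).1 hbS
    obtain zb0 := hz' b hbS
    refine ⟨i0, i1, a, b, ⟨d_0_1, na0.symm, nb0.symm, na1.symm, nb1.symm, hab⟩, ⟨v_0_0, hx0, v_1_0, hx1, za0, hfa, zb0, hfb⟩, ?_⟩
    intro i m0 m1 m2 m3
    have hiS : i ∈ S := (hmem i).2 ⟨m0, m1⟩
    obtain y0 := hz' i hiS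
    exact ⟨y0, (hzr i hiS m2 m3)⟩
  · -- solution (-1, 0), rho = 2
    obtain ⟨a, haS, b, hbS, hab, hfa, hfb, hzr⟩ := Cfsg.Agent.Lib.Helper76_ShapeLib.rem2 S c1 hnn hrho
    obtain ⟨na0, na1⟩ := (hmem a).1 haS
    obtain za0 := hz' a haS
    obtain ⟨nb0, nb1⟩ := (hmem b).1 hbS
    obtain zb0 := hz' b hbS
    refine ⟨i1, i0, a, b, ⟨d_0_1.symm, na1.symm, nb1.symm, na0.symm, nb0.symm, hab⟩, ⟨v_1_0, hx1, v_0_0, hx0, za0, hfa, zb0, hfb⟩, ?_⟩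
    intro i m0 m1 m2 m3
    have hiS : i ∈ S := (hmem i).2 ⟨m1, m0⟩
    obtain y0 := hz' i hiS
    exact ⟨y0, (hzr i hiS m2 m3)⟩

theorem ar_2_0 (x0 x1 x2 x3 r : ℤ) (e0 : (0 : ℤ) = (1) * x0 + (1) * x1 + (0) * x2 + (0) * x3) (e1 : (0 : ℤ) = (0) * x0 + (-1) * x1 + (1) * x2 + (1) * x3) (en : (2 : ℤ) = x0 * x0 + x1 * x1 + x2 * x2 + x3 * x3 + r) (hr : 0 ≤ r) : (x0 = 0 ∧ x1 = 0 ∧ x2 = 0 ∧ x3 = 0 ∧ r = 2) ∨ (x0 = 0 ∧ x1 = 0 ∧ x2 = 1 ∧ x3 = -1 ∧ r = 0) ∨ (x0 = 0 ∧ x1 = 0 ∧ x2 = -1 ∧ x3 = 1 ∧ r = 0) := by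
  have hb2 : x2 * x2 ≤ 3 := by linarith [mul_self_nonneg x0, mul_self_nonneg x1, mul_self_nonneg x2, mul_self_nonneg x3]
  obtain ⟨hl2, hu2⟩ := Cfsg.Agent.Lib.Helper76_ShapeLib.bound1 x2 hb2
  have hb3 : x3 * x3 ≤ 3 := by linarith [mul_self_nonneg x0, mul_self_nonneg x1, mul_self_nonneg x2, mul_self_nonneg x3]
  obtain ⟨hl3, hu3⟩ := Cfsg.Agent.Lib.Helper76_ShapeLib.bound1 x3 hb3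
  obtain rfl : x0 = 0 + (-1) * x2 + (-1) * x3 := by omega
  obtain rfl : x1 = 0 + (1) * x2 + (1) * x3 := by omega
  interval_cases x2 <;> interval_cases x3 <;> omega

theorem ext_2_0 {ι : Type*} [Fintype ι] [DecidableEq ι] (c0 c1 c2 : ι → ℤ)
    (hG0 : ∑ i, c0 i * c2 i = 0)
    (hG1 : ∑ i, c1 i * c2 i = 0)
    (hG2 : ∑ i, c2 i * c2 i = 2)
    (hpos : ∀ i, c0 i = 0 → c1 i = 0 → 0 ≤ c2 i)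
    (h : St_2_0 c0 c1) :
    St_3_0 c0 c1 c2 ∨ St_3_1 c0 c1 c2 := by
  obtain ⟨i0, i1, i2, i3, ⟨d_0_1, d_0_2, d_0_3, d_1_2, d_1_3, d_2_3⟩, ⟨v_0_0, v_0_1, v_1_0, v_1_1, v_2_0, v_2_1, v_3_0, v_3_1⟩, hz⟩ := h
  have hnd : ([i0, i1, i2, i3] : List ι).Nodup := by
    simp only [List.nodup_cons, List.mem_cons, List.not_mem_nil, or_false, not_or, List.nodup_nil, and_true, not_false_eq_true]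
    exact ⟨⟨d_0_1, d_0_2, d_0_3⟩, ⟨d_1_2, d_1_3⟩, d_2_3⟩
  set S : Finset ι := Finset.univ \ ([i0, i1, i2, i3] : List ι).toFinset with hS
  have hmem : ∀ i, i ∈ S ↔ (i ≠ i0 ∧ i ≠ i1 ∧ i ≠ i2 ∧ i ≠ i3) := by
    intro i
    simp only [hS, Finset.mem_sdiff, Finset.mem_univ, true_and, List.mem_toFinset, List.mem_cons, List.not_mem_nil, or_false, not_or, ne_eq]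
  have hz' : ∀ i ∈ S, (c0 i = 0 ∧ c1 i = 0) := by
    intro i hi
    obtain ⟨n0, n1, n2, n3⟩ := (hmem i).1 hi
    exact hz i n0 n1 n2 n3
  have e0 : (0 : ℤ) = (1) * c2 i0 + (1) * c2 i1 + (0) * c2 i2 + (0) * c2 i3 := by
    have h1 := Cfsg.Agent.Lib.Helper76_ShapeLib.sum_split [i0, i1, i2, i3] hnd (fun i => c0 i * c2 i)
    have h2 : ∑ i ∈ S, c0 i * c2 i = 0 := Finset.sum_eq_zero fun i hi => by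
      rw [(hz' i hi).1, zero_mul]
    rw [hG0, h2] at h1
    simp only [List.map_cons, List.map_nil, List.sum_cons, List.sum_nil, v_0_0, v_1_0, v_2_0, v_3_0] at h1
    linarith
  have e1 : (0 : ℤ) = (0) * c2 i0 + (-1) * c2 i1 + (1) * c2 i2 + (1) * c2 i3 := by
    have h1 := Cfsg.Agent.Lib.Helper76_ShapeLib.sum_split [i0, i1, i2, i3] hnd (fun i => c1 i * c2 i)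
    have h2 : ∑ i ∈ S, c1 i * c2 i = 0 := Finset.sum_eq_zero fun i hi => by
      rw [(hz' i hi).2, zero_mul]
    rw [hG1, h2] at h1
    simp only [List.map_cons, List.map_nil, List.sum_cons, List.sum_nil, v_0_1, v_1_1, v_2_1, v_3_1] at h1
    linarith
  have en : (2 : ℤ) = c2 i0 * c2 i0 + c2 i1 * c2 i1 + c2 i2 * c2 i2 + c2 i3 * c2 i3 + ∑ i ∈ S, c2 i * c2 i := by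
    have h1 := Cfsg.Agent.Lib.Helper76_ShapeLib.sum_split [i0, i1, i2, i3] hnd (fun i => c2 i * c2 i)
    rw [hG2] at h1
    simp only [List.map_cons, List.map_nil, List.sum_cons, List.sum_nil] at h1
    linarith
  have hr : 0 ≤ ∑ i ∈ S, c2 i * c2 i := Finset.sum_nonneg fun i _ => mul_self_nonneg _
  have hnn : ∀ i ∈ S, 0 ≤ c2 i := by
    intro i hi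
    obtain ⟨z0, z1⟩ := hz' i hi
    exact hpos i z0 z1
  have hsol := ar_2_0 (c2 i0) (c2 i1) (c2 i2) (c2 i3) _ e0 e1 en hr
  rcases hsol with ⟨hx0, hx1, hx2, hx3, hrho⟩ | ⟨hx0, hx1, hx2, hx3, hrho⟩ | ⟨hx0, hx1, hx2, hx3, hrho⟩
  · -- solution (0, 0, 0, 0), rho = 2
    obtain ⟨a, haS, b, hbS, hab, hfa, hfb, hzr⟩ := Cfsg.Agent.Lib.Helper76_ShapeLib.rem2 S c2 hnn hrho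
    obtain ⟨na0, na1, na2, na3⟩ := (hmem a).1 haS
    obtain ⟨za0, za1⟩ := hz' a haS
    obtain ⟨nb0, nb1, nb2, nb3⟩ := (hmem b).1 hbS
    obtain ⟨zb0, zb1⟩ := hz' b hbS
    refine (Or.inl ⟨i0, i1, i2, i3, a, b, ⟨d_0_1, d_0_2, d_0_3, na0.symm, nb0.symm, d_1_2, d_1_3, na1.symm, nb1.symm, d_2_3, na2.symm, nb2.symm, na3.symm, nb3.symm, hab⟩, ⟨v_0_0, v_0_1, hx0, v_1_0, v_1_1, hx1, v_2_0, v_2_1, hx2, v_3_0, v_3_1, hx3, za0, za1, hfa, zb0, zb1, hfb⟩, ?_⟩)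
    intro i m0 m1 m2 m3 m4 m5
    have hiS : i ∈ S := (hmem i).2 ⟨m0, m1, m2, m3⟩
    obtain ⟨y0, y1⟩ := hz' i hiS
    exact ⟨y0, y1, (hzr i hiS m4 m5)⟩
  · -- solution (0, 0, 1, -1), rho = 0
    have hzr := Cfsg.Agent.Lib.Helper76_ShapeLib.rem0 S c2 hrho
    refine (Or.inr ⟨i0, i1, i2, i3, ⟨d_0_1, d_0_2, d_0_3, d_1_2, d_1_3, d_2_3⟩, ⟨v_0_0, v_0_1, hx0, v_1_0, v_1_1, hx1, v_2_0, v_2_1, hx2, v_3_0, v_3_1, hx3⟩, ?_⟩)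
    intro i m0 m1 m2 m3
    have hiS : i ∈ S := (hmem i).2 ⟨m0, m1, m2, m3⟩
    obtain ⟨y0, y1⟩ := hz' i hiS
    exact ⟨y0, y1, (hzr i hiS)⟩
  · -- solution (0, 0, -1, 1), rho = 0
    have hzr := Cfsg.Agent.Lib.Helper76_ShapeLib.rem0 S c2 hrho
    refine (Or.inr ⟨i0, i1, i3, i2, ⟨d_0_1, d_0_3, d_0_2, d_1_3, d_1_2, d_2_3.symm⟩, ⟨v_0_0, v_0_1, hx0, v_1_0, v_1_1, hx1, v_3_0, v_3_1, hx3, v_2_0, v_2_1, hx2⟩, ?_⟩)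
    intro i m0 m1 m2 m3
    have hiS : i ∈ S := (hmem i).2 ⟨m0, m1, m3, m2⟩
    obtain ⟨y0, y1⟩ := hz' i hiS
    exact ⟨y0, y1, (hzr i hiS)⟩

theorem ar_3_0 (x0 x1 x2 x3 x4 x5 r : ℤ) (e0 : (1 : ℤ) = (1) * x0 + (1) * x1 + (0) * x2 + (0) * x3 + (0) * x4 + (0) * x5) (e1 : (-1 : ℤ) = (0) * x0 + (-1) * x1 + (1) * x2 + (1) * x3 + (0) * x4 + (0) * x5) (e2 : (-1 : ℤ) = (0) * x0 + (0) * x1 + (0) * x2 + (0) * x3 + (1) * x4 + (1) * x5) (en : (3 : ℤ) = x0 * x0 + x1 * x1 + x2 * x2 + x3 * x3 + x4 * x4 + x5 * x5 + r) (hr : 0 ≤ r) : (x0 = 0 ∧ x1 = 1 ∧ x2 = 0 ∧ x3 = 0 ∧ x4 = 0 ∧ x5 = -1 ∧ r = 1) ∨ (x0 = 0 ∧ x1 = 1 ∧ x2 = 0 ∧ x3 = 0 ∧ x4 = -1 ∧ x5 = 0 ∧ r = 1) ∨ (x0 = 1 ∧ x1 = 0 ∧ x2 = 0 ∧ x3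 = -1 ∧ x4 = 0 ∧ x5 = -1 ∧ r = 0) ∨ (x0 = 1 ∧ x1 = 0 ∧ x2 = 0 ∧ x3 = -1 ∧ x4 = -1 ∧ x5 = 0 ∧ r = 0) ∨ (x0 = 1 ∧ x1 = 0 ∧ x2 = -1 ∧ x3 = 0 ∧ x4 = 0 ∧ x5 = -1 ∧ r = 0) ∨ (x0 = 1 ∧ x1 = 0 ∧ x2 = -1 ∧ x3 = 0 ∧ x4 = -1 ∧ x5 = 0 ∧ r = 0) := by
  have hb2 : x2 * x2 ≤ 3 := by linarith [mul_self_nonneg x0, mul_self_nonneg x1, mul_self_nonneg x2, mul_self_nonneg x3, mul_self_nonneg x4, mul_self_nonneg x5]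
  obtain ⟨hl2, hu2⟩ := Cfsg.Agent.Lib.Helper76_ShapeLib.bound1 x2 hb2
  have hb3 : x3 * x3 ≤ 3 := by linarith [mul_self_nonneg x0, mul_self_nonneg x1, mul_self_nonneg x2, mul_self_nonneg x3, mul_self_nonneg x4, mul_self_nonneg x5]
  obtain ⟨hl3, hu3⟩ := Cfsg.Agent.Lib.Helper76_ShapeLib.bound1 x3 hb3
  have hb5 : x5 * x5 ≤ 3 := by linarith [mul_self_nonneg x0, mul_self_nonneg x1, mul_self_nonneg x2, mul_self_nonneg x3, mul_self_nonneg x4, mul_self_nonneg x5]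
  obtain ⟨hl5, hu5⟩ := Cfsg.Agent.Lib.Helper76_ShapeLib.bound1 x5 hb5
  obtain rfl : x0 = 0 + (-1) * x2 + (-1) * x3 := by omega
  obtain rfl : x1 = 1 + (1) * x2 + (1) * x3 := by omega
  obtain rfl : x4 = -1 + (-1) * x5 := by omega
  interval_cases x2 <;> interval_cases x3 <;> interval_cases x5 <;> omega

theorem ext_3_0 {ι : Type*} [Fintype ι] [DecidableEq ι] (c0 c1 c2 c3 : ι → ℤ)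
    (hG0 : ∑ i, c0 i * c3 i = 1)
    (hG1 : ∑ i, c1 i * c3 i = -1)
    (hG2 : ∑ i, c2 i * c3 i = -1)
    (hG3 : ∑ i, c3 i * c3 i = 3)
    (hpos : ∀ i, c0 i = 0 → c1 i = 0 → c2 i = 0 → 0 ≤ c3 i)
    (h : St_3_0 c0 c1 c2) :
    St_4_0 c0 c1 c2 c3 ∨ St_4_1 c0 c1 c2 c3 := by
  obtain ⟨i0, i1, i2, i3, i4, i5, ⟨d_0_1, d_0_2, d_0_3, d_0_4, d_0_5, d_1_2, d_1_3, d_1_4, d_1_5, d_2_3, d_2_4, d_2_5, d_3_4, d_3_5, d_4_5⟩, ⟨v_0_0, v_0_1, v_0_2, v_1_0, v_1_1, v_1_2, v_2_0, v_2_1, v_2_2, v_3_0, v_3_1, v_3_2, v_4_0, v_4_1, v_4_2, v_5_0, v_5_1, v_5_2⟩, hz⟩ := h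
  have hnd : ([i0, i1, i2, i3, i4, i5] : List ι).Nodup := by
    simp only [List.nodup_cons, List.mem_cons, List.not_mem_nil, or_false, not_or, List.nodup_nil, and_true, not_false_eq_true]
    exact ⟨⟨d_0_1, d_0_2, d_0_3, d_0_4, d_0_5⟩, ⟨d_1_2, d_1_3, d_1_4, d_1_5⟩, ⟨d_2_3, d_2_4, d_2_5⟩, ⟨d_3_4, d_3_5⟩, d_4_5⟩
  set S : Finset ι := Finset.univ \ ([i0, i1, i2, i3, i4, i5] : List ι).toFinset with hS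
  have hmem : ∀ i, i ∈ S ↔ (i ≠ i0 ∧ i ≠ i1 ∧ i ≠ i2 ∧ i ≠ i3 ∧ i ≠ i4 ∧ i ≠ i5) := by
    intro i
    simp only [hS, Finset.mem_sdiff, Finset.mem_univ, true_and, List.mem_toFinset, List.mem_cons, List.not_mem_nil, or_false, not_or, ne_eq]
  have hz' : ∀ i ∈ S, (c0 i = 0 ∧ c1 i = 0 ∧ c2 i = 0) := by
    intro i hi
    obtain ⟨n0, n1, n2, n3, n4, n5⟩ := (hmem i).1 hi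
    exact hz i n0 n1 n2 n3 n4 n5
  have e0 : (1 : ℤ) = (1) * c3 i0 + (1) * c3 i1 + (0) * c3 i2 + (0) * c3 i3 + (0) * c3 i4 + (0) * c3 i5 := by
    have h1 := Cfsg.Agent.Lib.Helper76_ShapeLib.sum_split [i0, i1, i2, i3, i4, i5] hnd (fun i => c0 i * c3 i)
    have h2 : ∑ i ∈ S, c0 i * c3 i = 0 := Finset.sum_eq_zero fun i hi => by
      rw [(hz' i hi).1, zero_mul]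
    rw [hG0, h2] at h1
    simp only [List.map_cons, List.map_nil, List.sum_cons, List.sum_nil, v_0_0, v_1_0, v_2_0, v_3_0, v_4_0, v_5_0] at h1
    linarith
  have e1 : (-1 : ℤ) = (0) * c3 i0 + (-1) * c3 i1 + (1) * c3 i2 + (1) * c3 i3 + (0) * c3 i4 + (0) * c3 i5 := by
    have h1 := Cfsg.Agent.Lib.Helper76_ShapeLib.sum_split [i0, i1, i2, i3, i4, i5] hnd (fun i => c1 i * c3 i)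
    have h2 : ∑ i ∈ S, c1 i * c3 i = 0 := Finset.sum_eq_zero fun i hi => by
      rw [(hz' i hi).2.1, zero_mul]
    rw [hG1, h2] at h1
    simp only [List.map_cons, List.map_nil, List.sum_cons, List.sum_nil, v_0_1, v_1_1, v_2_1, v_3_1, v_4_1, v_5_1] at h1
    linarith
  have e2 : (-1 : ℤ) = (0) * c3 i0 + (0) * c3 i1 + (0) * c3 i2 + (0) * c3 i3 + (1) * c3 i4 + (1) * c3 i5 := by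
    have h1 := Cfsg.Agent.Lib.Helper76_ShapeLib.sum_split [i0, i1, i2, i3, i4, i5] hnd (fun i => c2 i * c3 i)
    have h2 : ∑ i ∈ S, c2 i * c3 i = 0 := Finset.sum_eq_zero fun i hi => by
      rw [(hz' i hi).2.2, zero_mul]
    rw [hG2, h2] at h1
    simp only [List.map_cons, List.map_nil, List.sum_cons, List.sum_nil, v_0_2, v_1_2, v_2_2, v_3_2, v_4_2, v_5_2] at h1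
    linarith
  have en : (3 : ℤ) = c3 i0 * c3 i0 + c3 i1 * c3 i1 + c3 i2 * c3 i2 + c3 i3 * c3 i3 + c3 i4 * c3 i4 + c3 i5 * c3 i5 + ∑ i ∈ S, c3 i * c3 i := by
    have h1 := Cfsg.Agent.Lib.Helper76_ShapeLib.sum_split [i0, i1, i2, i3, i4, i5] hnd (fun i => c3 i * c3 i)
    rw [hG3] at h1
    simp only [List.map_cons, List.map_nil, List.sum_cons, List.sum_nil] at h1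
    linarith
  have hr : 0 ≤ ∑ i ∈ S, c3 i * c3 i := Finset.sum_nonneg fun i _ => mul_self_nonneg _
  have hnn : ∀ i ∈ S, 0 ≤ c3 i := by
    intro i hi
    obtain ⟨z0, z1, z2⟩ := hz' i hi
    exact hpos i z0 z1 z2
  have hsol := ar_3_0 (c3 i0) (c3 i1) (c3 i2) (c3 i3) (c3 i4) (c3 i5) _ e0 e1 e2 en hr
  rcases hsol with ⟨hx0, hx1, hx2, hx3, hx4, hx5, hrho⟩ | ⟨hx0, hx1, hx2, hx3, hx4, hx5, hrho⟩ | ⟨hx0, hx1, hx2, hx3, hx4, hx5, hrho⟩ | ⟨hx0, hx1, hx2, hx3, hx4, hx5, hrho⟩ | ⟨hx0, hx1, hx2, hx3, hx4, hx5, hrho⟩ | ⟨hx0, hx1, hx2, hx3, hx4, hx5, hrho⟩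
  · -- solution (0, 1, 0, 0, 0, -1), rho = 1
    obtain ⟨a, haS, hfa, hzr⟩ := Cfsg.Agent.Lib.Helper76_ShapeLib.rem1 S c3 hnn hrho
    obtain ⟨na0, na1, na2, na3, na4, na5⟩ := (hmem a).1 haS
    obtain ⟨za0, za1, za2⟩ := hz' a haS
    refine (Or.inl ⟨i0, i1, i2, i3, i4, i5, a, ⟨d_0_1, d_0_2, d_0_3, d_0_4, d_0_5, na0.symm, d_1_2, d_1_3, d_1_4, d_1_5, na1.symm, d_2_3, d_2_4, d_2_5, na2.symm, d_3_4, d_3_5, na3.symm, d_4_5, na4.symm, na5.symm⟩, ⟨v_0_0, v_0_1, v_0_2, hx0, v_1_0, v_1_1, v_1_2, hx1, v_2_0, v_2_1, v_2_2, hx2, v_3_0, v_3_1, v_3_2, hx3, v_4_0, v_4_1, v_4_2, hx4, v_5_0, v_5_1, v_5_2, hx5, za0, za1, za2, hfa⟩, ?_⟩)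
    intro i m0 m1 m2 m3 m4 m5 m6
    have hiS : i ∈ S := (hmem i).2 ⟨m0, m1, m2, m3, m4, m5⟩
    obtain ⟨y0, y1, y2⟩ := hz' i hiS
    exact ⟨y0, y1, y2, (hzr i hiS m6)⟩
  · -- solution (0, 1, 0, 0, -1, 0), rho = 1
    obtain ⟨a, haS, hfa, hzr⟩ := Cfsg.Agent.Lib.Helper76_ShapeLib.rem1 S c3 hnn hrho
    obtain ⟨na0, na1, na2, na3, na4, na5⟩ := (hmem a).1 haS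
    obtain ⟨za0, za1, za2⟩ := hz' a haS
    refine (Or.inl ⟨i0, i1, i2, i3, i5, i4, a, ⟨d_0_1, d_0_2, d_0_3, d_0_5, d_0_4, na0.symm, d_1_2, d_1_3, d_1_5, d_1_4, na1.symm, d_2_3, d_2_5, d_2_4, na2.symm, d_3_5, d_3_4, na3.symm, d_4_5.symm, na5.symm, na4.symm⟩, ⟨v_0_0, v_0_1, v_0_2, hx0, v_1_0, v_1_1, v_1_2, hx1, v_2_0, v_2_1, v_2_2, hx2, v_3_0, v_3_1, v_3_2, hx3, v_5_0, v_5_1, v_5_2, hx5, v_4_0, v_4_1, v_4_2, hx4, za0, za1, za2, hfa⟩, ?_⟩)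
    intro i m0 m1 m2 m3 m4 m5 m6
    have hiS : i ∈ S := (hmem i).2 ⟨m0, m1, m2, m3, m5, m4⟩
    obtain ⟨y0, y1, y2⟩ := hz' i hiS
    exact ⟨y0, y1, y2, (hzr i hiS m6)⟩
  · -- solution (1, 0, 0, -1, 0, -1), rho = 0
    have hzr := Cfsg.Agent.Lib.Helper76_ShapeLib.rem0 S c3 hrho
    refine (Or.inr ⟨i0, i1, i2, i3, i4, i5, ⟨d_0_1, d_0_2, d_0_3, d_0_4, d_0_5, d_1_2, d_1_3, d_1_4, d_1_5, d_2_3, d_2_4, d_2_5, d_3_4, d_3_5, d_4_5⟩, ⟨v_0_0, v_0_1, v_0_2, hx0, v_1_0, v_1_1, v_1_2, hx1, v_2_0, v_2_1, v_2_2, hx2, v_3_0, v_3_1, v_3_2, hx3, v_4_0, v_4_1, v_4_2, hx4, v_5_0, v_5_1, v_5_2, hx5⟩, ?_⟩)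
    intro i m0 m1 m2 m3 m4 m5
    have hiS : i ∈ S := (hmem i).2 ⟨m0, m1, m2, m3, m4, m5⟩
    obtain ⟨y0, y1, y2⟩ := hz' i hiS
    exact ⟨y0, y1, y2, (hzr i hiS)⟩
  · -- solution (1, 0, 0, -1, -1, 0), rho = 0
    have hzr := Cfsg.Agent.Lib.Helper76_ShapeLib.rem0 S c3 hrho
    refine (Or.inr ⟨i0, i1, i2, i3, i5, i4, ⟨d_0_1, d_0_2, d_0_3, d_0_5, d_0_4, d_1_2, d_1_3, d_1_5, d_1_4, d_2_3, d_2_5, d_2_4, d_3_5, d_3_4, d_4_5.symm⟩, ⟨v_0_0, v_0_1, v_0_2, hx0, v_1_0, v_1_1, v_1_2, hx1, v_2_0, v_2_1, v_2_2, hx2, v_3_0, v_3_1, v_3_2, hx3, v_5_0, v_5_1, v_5_2, hx5, v_4_0, v_4_1, v_4_2, hx4⟩, ?_⟩)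
    intro i m0 m1 m2 m3 m4 m5
    have hiS : i ∈ S := (hmem i).2 ⟨m0, m1, m2, m3, m5, m4⟩
    obtain ⟨y0, y1, y2⟩ := hz' i hiS
    exact ⟨y0, y1, y2, (hzr i hiS)⟩
  · -- solution (1, 0, -1, 0, 0, -1), rho = 0
    have hzr := Cfsg.Agent.Lib.Helper76_ShapeLib.rem0 S c3 hrho
    refine (Or.inr ⟨i0, i1, i3, i2, i4, i5, ⟨d_0_1, d_0_3, d_0_2, d_0_4, d_0_5, d_1_3, d_1_2, d_1_4, d_1_5, d_2_3.symm, d_3_4, d_3_5, d_2_4, d_2_5, d_4_5⟩, ⟨v_0_0, v_0_1, v_0_2, hx0, v_1_0, v_1_1, v_1_2, hx1, v_3_0, v_3_1, v_3_2, hx3, v_2_0, v_2_1, v_2_2, hx2, v_4_0, v_4_1, v_4_2, hx4, v_5_0, v_5_1, v_5_2, hx5⟩, ?_⟩)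
    intro i m0 m1 m2 m3 m4 m5
    have hiS : i ∈ S := (hmem i).2 ⟨m0, m1, m3, m2, m4, m5⟩
    obtain ⟨y0, y1, y2⟩ := hz' i hiS
    exact ⟨y0, y1, y2, (hzr i hiS)⟩
  · -- solution (1, 0, -1, 0, -1, 0), rho = 0
    have hzr := Cfsg.Agent.Lib.Helper76_ShapeLib.rem0 S c3 hrho
    refine (Or.inr ⟨i0, i1, i3, i2, i5, i4, ⟨d_0_1, d_0_3, d_0_2, d_0_5, d_0_4, d_1_3, d_1_2, d_1_5, d_1_4, d_2_3.symm, d_3_5, d_3_4, d_2_5, d_2_4, d_4_5.symm⟩, ⟨v_0_0, v_0_1, v_0_2, hx0, v_1_0, v_1_1, v_1_2, hx1, v_3_0, v_3_1, v_3_2, hx3, v_2_0, v_2_1, v_2_2, hx2, v_5_0, v_5_1, v_5_2, hx5, v_4_0, v_4_1, v_4_2, hx4⟩, ?_⟩)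
    intro i m0 m1 m2 m3 m4 m5
    have hiS : i ∈ S := (hmem i).2 ⟨m0, m1, m3, m2, m5, m4⟩
    obtain ⟨y0, y1, y2⟩ := hz' i hiS
    exact ⟨y0, y1, y2, (hzr i hiS)⟩

theorem ar_3_1 (x0 x1 x2 x3 r : ℤ) (e0 : (1 : ℤ) = (1) * x0 + (1) * x1 + (0) * x2 + (0) * x3) (e1 : (-1 : ℤ) = (0) * x0 + (-1) * x1 + (1) * x2 + (1) * x3) (e2 : (-1 : ℤ) = (0) * x0 + (0) * x1 + (1) * x2 + (-1) * x3) (en : (3 : ℤ) = x0 * x0 + x1 * x1 + x2 * x2 + x3 * x3 + r) (hr : 0 ≤ r) : (x0 = 1 ∧ x1 = 0 ∧ x2 = -1 ∧ x3 = 0 ∧ r = 1) := by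
  have hb3 : x3 * x3 ≤ 3 := by linarith [mul_self_nonneg x0, mul_self_nonneg x1, mul_self_nonneg x2, mul_self_nonneg x3]
  obtain ⟨hl3, hu3⟩ := Cfsg.Agent.Lib.Helper76_ShapeLib.bound1 x3 hb3
  obtain rfl : x0 = 1 + (-2) * x3 := by omega
  obtain rfl : x1 = 0 + (2) * x3 := by omega
  obtain rfl : x2 = -1 + (1) * x3 := by omega
  interval_cases x3 <;> omega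

theorem ext_3_1 {ι : Type*} [Fintype ι] [DecidableEq ι] (c0 c1 c2 c3 : ι → ℤ)
    (hG0 : ∑ i, c0 i * c3 i = 1)
    (hG1 : ∑ i, c1 i * c3 i = -1)
    (hG2 : ∑ i, c2 i * c3 i = -1)
    (hG3 : ∑ i, c3 i * c3 i = 3)
    (hpos : ∀ i, c0 i = 0 → c1 i = 0 → c2 i = 0 → 0 ≤ c3 i)
    (h : St_3_1 c0 c1 c2) :
    St_4_2 c0 c1 c2 c3 := by
  obtain ⟨i0, i1, i2, i3, ⟨d_0_1, d_0_2, d_0_3, d_1_2, d_1_3, d_2_3⟩, ⟨v_0_0, v_0_1, v_0_2, v_1_0, v_1_1, v_1_2, v_2_0, v_2_1, v_2_2, v_3_0, v_3_1, v_3_2⟩, hz⟩ := h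
  have hnd : ([i0, i1, i2, i3] : List ι).Nodup := by
    simp only [List.nodup_cons, List.mem_cons, List.not_mem_nil, or_false, not_or, List.nodup_nil, and_true, not_false_eq_true]
    exact ⟨⟨d_0_1, d_0_2, d_0_3⟩, ⟨d_1_2, d_1_3⟩, d_2_3⟩
  set S : Finset ι := Finset.univ \ ([i0, i1, i2, i3] : List ι).toFinset with hS
  have hmem : ∀ i, i ∈ S ↔ (i ≠ i0 ∧ i ≠ i1 ∧ i ≠ i2 ∧ i ≠ i3) := by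
    intro i
    simp only [hS, Finset.mem_sdiff, Finset.mem_univ, true_and, List.mem_toFinset, List.mem_cons, List.not_mem_nil, or_false, not_or, ne_eq]
  have hz' : ∀ i ∈ S, (c0 i = 0 ∧ c1 i = 0 ∧ c2 i = 0) := by
    intro i hi
    obtain ⟨n0, n1, n2, n3⟩ := (hmem i).1 hi
    exact hz i n0 n1 n2 n3
  have e0 : (1 : ℤ) = (1) * c3 i0 + (1) * c3 i1 + (0) * c3 i2 + (0) * c3 i3 := by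
    have h1 := Cfsg.Agent.Lib.Helper76_ShapeLib.sum_split [i0, i1, i2, i3] hnd (fun i => c0 i * c3 i)
    have h2 : ∑ i ∈ S, c0 i * c3 i = 0 := Finset.sum_eq_zero fun i hi => by
      rw [(hz' i hi).1, zero_mul]
    rw [hG0, h2] at h1
    simp only [List.map_cons, List.map_nil, List.sum_cons, List.sum_nil, v_0_0, v_1_0, v_2_0, v_3_0] at h1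
    linarith
  have e1 : (-1 : ℤ) = (0) * c3 i0 + (-1) * c3 i1 + (1) * c3 i2 + (1) * c3 i3 := by
    have h1 := Cfsg.Agent.Lib.Helper76_ShapeLib.sum_split [i0, i1, i2, i3] hnd (fun i => c1 i * c3 i)
    have h2 : ∑ i ∈ S, c1 i * c3 i = 0 := Finset.sum_eq_zero fun i hi => by
      rw [(hz' i hi).2.1, zero_mul]
    rw [hG1, h2] at h1
    simp only [List.map_cons, List.map_nil, List.sum_cons, List.sum_nil, v_0_1, v_1_1, v_2_1, v_3_1] at h1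
    linarith
  have e2 : (-1 : ℤ) = (0) * c3 i0 + (0) * c3 i1 + (1) * c3 i2 + (-1) * c3 i3 := by
    have h1 := Cfsg.Agent.Lib.Helper76_ShapeLib.sum_split [i0, i1, i2, i3] hnd (fun i => c2 i * c3 i)
    have h2 : ∑ i ∈ S, c2 i * c3 i = 0 := Finset.sum_eq_zero fun i hi => by
      rw [(hz' i hi).2.2, zero_mul]
    rw [hG2, h2] at h1
    simp only [List.map_cons, List.map_nil, List.sum_cons, List.sum_nil, v_0_2, v_1_2, v_2_2, v_3_2] at h1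
    linarith
  have en : (3 : ℤ) = c3 i0 * c3 i0 + c3 i1 * c3 i1 + c3 i2 * c3 i2 + c3 i3 * c3 i3 + ∑ i ∈ S, c3 i * c3 i := by
    have h1 := Cfsg.Agent.Lib.Helper76_ShapeLib.sum_split [i0, i1, i2, i3] hnd (fun i => c3 i * c3 i)
    rw [hG3] at h1
    simp only [List.map_cons, List.map_nil, List.sum_cons, List.sum_nil] at h1
    linarith
  have hr : 0 ≤ ∑ i ∈ S, c3 i * c3 i := Finset.sum_nonneg fun i _ => mul_self_nonneg _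
  have hnn : ∀ i ∈ S, 0 ≤ c3 i := by
    intro i hi
    obtain ⟨z0, z1, z2⟩ := hz' i hi
    exact hpos i z0 z1 z2
  have hsol := ar_3_1 (c3 i0) (c3 i1) (c3 i2) (c3 i3) _ e0 e1 e2 en hr
  rcases hsol with ⟨hx0, hx1, hx2, hx3, hrho⟩
  · -- solution (1, 0, -1, 0), rho = 1
    obtain ⟨a, haS, hfa, hzr⟩ := Cfsg.Agent.Lib.Helper76_ShapeLib.rem1 S c3 hnn hrho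
    obtain ⟨na0, na1, na2, na3⟩ := (hmem a).1 haS
    obtain ⟨za0, za1, za2⟩ := hz' a haS
    refine ⟨i0, i1, i2, i3, a, ⟨d_0_1, d_0_2, d_0_3, na0.symm, d_1_2, d_1_3, na1.symm, d_2_3, na2.symm, na3.symm⟩, ⟨v_0_0, v_0_1, v_0_2, hx0, v_1_0, v_1_1, v_1_2, hx1, v_2_0, v_2_1, v_2_2, hx2, v_3_0, v_3_1, v_3_2, hx3, za0, za1, za2, hfa⟩, ?_⟩
    intro i m0 m1 m2 m3 m4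
    have hiS : i ∈ S := (hmem i).2 ⟨m0, m1, m2, m3⟩
    obtain ⟨y0, y1, y2⟩ := hz' i hiS
    exact ⟨y0, y1, y2, (hzr i hiS m4)⟩

theorem ar_4_0 (x0 x1 x2 x3 x4 x5 x6 r : ℤ) (e0 : (0 : ℤ) = (1) * x0 + (1) * x1 + (0) * x2 + (0) * x3 + (0) * x4 + (0) * x5 + (0) * x6) (e1 : (1 : ℤ) = (0) * x0 + (-1) * x1 + (1) * x2 + (1) * x3 + (0) * x4 + (0) * x5 + (0) * x6) (e2 : (0 : ℤ) = (0) * x0 + (0) * x1 + (0) * x2 + (0) * x3 + (1) * x4 + (1) * x5 + (0) * x6) (e3 : (1 : ℤ) = (0) * x0 + (1) * x1 + (0) * x2 + (0) * x3 + (0) * x4 + (-1) * x5 + (1) * x6) (en : (3 : ℤ) = x0 * x0 + x1 * x1 + x2 * x2 + x3 * x3 + x4 * x4 + x5 * x5 + x6 * x6 + r) (hr : 0 ≤ r) : (x0 = 0 ∧ x1 = 0 ∧ x2 = 0 ∧ x3 = 1 ∧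 x4 = 0 ∧ x5 = 0 ∧ x6 = 1 ∧ r = 1) ∨ (x0 = 0 ∧ x1 = 0 ∧ x2 = 0 ∧ x3 = 1 ∧ x4 = 1 ∧ x5 = -1 ∧ x6 = 0 ∧ r = 0) ∨ (x0 = 0 ∧ x1 = 0 ∧ x2 = 1 ∧ x3 = 0 ∧ x4 = 0 ∧ x5 = 0 ∧ x6 = 1 ∧ r = 1) ∨ (x0 = 0 ∧ x1 = 0 ∧ x2 = 1 ∧ x3 = 0 ∧ x4 = 1 ∧ x5 = -1 ∧ x6 = 0 ∧ r = 0) := by
  have hb3 : x3 * x3 ≤ 3 := by linarith [mul_self_nonneg x0, mul_self_nonneg x1, mul_self_nonneg x2, mul_self_nonneg x3, mul_self_nonneg x4, mul_self_nonneg x5, mul_self_nonneg x6]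
  obtain ⟨hl3, hu3⟩ := Cfsg.Agent.Lib.Helper76_ShapeLib.bound1 x3 hb3
  have hb5 : x5 * x5 ≤ 3 := by linarith [mul_self_nonneg x0, mul_self_nonneg x1, mul_self_nonneg x2, mul_self_nonneg x3, mul_self_nonneg x4, mul_self_nonneg x5, mul_self_nonneg x6]
  obtain ⟨hl5, hu5⟩ := Cfsg.Agent.Lib.Helper76_ShapeLib.bound1 x5 hb5
  have hb6 : x6 * x6 ≤ 3 := by linarith [mul_self_nonneg x0, mul_self_nonneg x1, mul_self_nonneg x2, mul_self_nonneg x3, mul_self_nonneg x4, mul_self_nonneg x5, mul_self_nonneg x6]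
  obtain ⟨hl6, hu6⟩ := Cfsg.Agent.Lib.Helper76_ShapeLib.bound1 x6 hb6
  obtain rfl : x0 = -1 + (-1) * x5 + (1) * x6 := by omega
  obtain rfl : x1 = 1 + (1) * x5 + (-1) * x6 := by omega
  obtain rfl : x4 = 0 + (-1) * x5 := by omega
  obtain rfl : x2 = 2 + (-1) * x3 + (1) * x5 + (-1) * x6 := by omega
  interval_cases x3 <;> interval_cases x5 <;> interval_cases x6 <;> omega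

theorem ext_4_0 {ι : Type*} [Fintype ι] [DecidableEq ι] (c0 c1 c2 c3 c4 : ι → ℤ)
    (hG0 : ∑ i, c0 i * c4 i = 0)
    (hG1 : ∑ i, c1 i * c4 i = 1)
    (hG2 : ∑ i, c2 i * c4 i = 0)
    (hG3 : ∑ i, c3 i * c4 i = 1)
    (hG4 : ∑ i, c4 i * c4 i = 3)
    (hpos : ∀ i, c0 i = 0 → c1 i = 0 → c2 i = 0 → c3 i = 0 → 0 ≤ c4 i)
    (h : St_4_0 c0 c1 c2 c3) :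
    St_5_0 c0 c1 c2 c3 c4 ∨ St_5_1 c0 c1 c2 c3 c4 := by
  obtain ⟨i0, i1, i2, i3, i4, i5, i6, ⟨d_0_1, d_0_2, d_0_3, d_0_4, d_0_5, d_0_6, d_1_2, d_1_3, d_1_4, d_1_5, d_1_6, d_2_3, d_2_4, d_2_5, d_2_6, d_3_4, d_3_5, d_3_6, d_4_5, d_4_6, d_5_6⟩, ⟨v_0_0, v_0_1, v_0_2, v_0_3, v_1_0, v_1_1, v_1_2, v_1_3, v_2_0, v_2_1, v_2_2, v_2_3, v_3_0, v_3_1, v_3_2, v_3_3, v_4_0, v_4_1, v_4_2, v_4_3, v_5_0, v_5_1, v_5_2, v_5_3, v_6_0, v_6_1, v_6_2, v_6_3⟩, hz⟩ := h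
  have hnd : ([i0, i1, i2, i3, i4, i5, i6] : List ι).Nodup := by
    simp only [List.nodup_cons, List.mem_cons, List.not_mem_nil, or_false, not_or, List.nodup_nil, and_true, not_false_eq_true]
    exact ⟨⟨d_0_1, d_0_2, d_0_3, d_0_4, d_0_5, d_0_6⟩, ⟨d_1_2, d_1_3, d_1_4, d_1_5, d_1_6⟩, ⟨d_2_3, d_2_4, d_2_5, d_2_6⟩, ⟨d_3_4, d_3_5, d_3_6⟩, ⟨d_4_5, d_4_6⟩, d_5_6⟩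
  set S : Finset ι := Finset.univ \ ([i0, i1, i2, i3, i4, i5, i6] : List ι).toFinset with hS
  have hmem : ∀ i, i ∈ S ↔ (i ≠ i0 ∧ i ≠ i1 ∧ i ≠ i2 ∧ i ≠ i3 ∧ i ≠ i4 ∧ i ≠ i5 ∧ i ≠ i6) := by
    intro i
    simp only [hS, Finset.mem_sdiff, Finset.mem_univ, true_and, List.mem_toFinset, List.mem_cons, List.not_mem_nil, or_false, not_or, ne_eq]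
  have hz' : ∀ i ∈ S, (c0 i = 0 ∧ c1 i = 0 ∧ c2 i = 0 ∧ c3 i = 0) := by
    intro i hi
    obtain ⟨n0, n1, n2, n3, n4, n5, n6⟩ := (hmem i).1 hi
    exact hz i n0 n1 n2 n3 n4 n5 n6
  have e0 : (0 : ℤ) = (1) * c4 i0 + (1) * c4 i1 + (0) * c4 i2 + (0) * c4 i3 + (0) * c4 i4 + (0) * c4 i5 + (0) * c4 i6 := by
    have h1 := Cfsg.Agent.Lib.Helper76_ShapeLib.sum_split [i0, i1, i2, i3, i4, i5, i6] hnd (fun i => c0 i * c4 i)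
    have h2 : ∑ i ∈ S, c0 i * c4 i = 0 := Finset.sum_eq_zero fun i hi => by
      rw [(hz' i hi).1, zero_mul]
    rw [hG0, h2] at h1
    simp only [List.map_cons, List.map_nil, List.sum_cons, List.sum_nil, v_0_0, v_1_0, v_2_0, v_3_0, v_4_0, v_5_0, v_6_0] at h1
    linarith
  have e1 : (1 : ℤ) = (0) * c4 i0 + (-1) * c4 i1 + (1) * c4 i2 + (1) * c4 i3 + (0) * c4 i4 + (0) * c4 i5 + (0) * c4 i6 := by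
    have h1 := Cfsg.Agent.Lib.Helper76_ShapeLib.sum_split [i0, i1, i2, i3, i4, i5, i6] hnd (fun i => c1 i * c4 i)
    have h2 : ∑ i ∈ S, c1 i * c4 i = 0 := Finset.sum_eq_zero fun i hi => by
      rw [(hz' i hi).2.1, zero_mul]
    rw [hG1, h2] at h1
    simp only [List.map_cons, List.map_nil, List.sum_cons, List.sum_nil, v_0_1, v_1_1, v_2_1, v_3_1, v_4_1, v_5_1, v_6_1] at h1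
    linarith
  have e2 : (0 : ℤ) = (0) * c4 i0 + (0) * c4 i1 + (0) * c4 i2 + (0) * c4 i3 + (1) * c4 i4 + (1) * c4 i5 + (0) * c4 i6 := by
    have h1 := Cfsg.Agent.Lib.Helper76_ShapeLib.sum_split [i0, i1, i2, i3, i4, i5, i6] hnd (fun i => c2 i * c4 i)
    have h2 : ∑ i ∈ S, c2 i * c4 i = 0 := Finset.sum_eq_zero fun i hi => by
      rw [(hz' i hi).2.2.1, zero_mul]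
    rw [hG2, h2] at h1
    simp only [List.map_cons, List.map_nil, List.sum_cons, List.sum_nil, v_0_2, v_1_2, v_2_2, v_3_2, v_4_2, v_5_2, v_6_2] at h1
    linarith
  have e3 : (1 : ℤ) = (0) * c4 i0 + (1) * c4 i1 + (0) * c4 i2 + (0) * c4 i3 + (0) * c4 i4 + (-1) * c4 i5 + (1) * c4 i6 := by
    have h1 := Cfsg.Agent.Lib.Helper76_ShapeLib.sum_split [i0, i1, i2, i3, i4, i5, i6] hnd (fun i => c3 i * c4 i)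
    have h2 : ∑ i ∈ S, c3 i * c4 i = 0 := Finset.sum_eq_zero fun i hi => by
      rw [(hz' i hi).2.2.2, zero_mul]
    rw [hG3, h2] at h1
    simp only [List.map_cons, List.map_nil, List.sum_cons, List.sum_nil, v_0_3, v_1_3, v_2_3, v_3_3, v_4_3, v_5_3, v_6_3] at h1
    linarith
  have en : (3 : ℤ) = c4 i0 * c4 i0 + c4 i1 * c4 i1 + c4 i2 * c4 i2 + c4 i3 * c4 i3 + c4 i4 * c4 i4 + c4 i5 * c4 i5 + c4 i6 * c4 i6 + ∑ i ∈ S, c4 i * c4 i := by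
    have h1 := Cfsg.Agent.Lib.Helper76_ShapeLib.sum_split [i0, i1, i2, i3, i4, i5, i6] hnd (fun i => c4 i * c4 i)
    rw [hG4] at h1
    simp only [List.map_cons, List.map_nil, List.sum_cons, List.sum_nil] at h1
    linarith
  have hr : 0 ≤ ∑ i ∈ S, c4 i * c4 i := Finset.sum_nonneg fun i _ => mul_self_nonneg _
  have hnn : ∀ i ∈ S, 0 ≤ c4 i := by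
    intro i hi
    obtain ⟨z0, z1, z2, z3⟩ := hz' i hi
    exact hpos i z0 z1 z2 z3
  have hsol := ar_4_0 (c4 i0) (c4 i1) (c4 i2) (c4 i3) (c4 i4) (c4 i5) (c4 i6) _ e0 e1 e2 e3 en hr
  rcases hsol with ⟨hx0, hx1, hx2, hx3, hx4, hx5, hx6, hrho⟩ | ⟨hx0, hx1, hx2, hx3, hx4, hx5, hx6, hrho⟩ | ⟨hx0, hx1, hx2, hx3, hx4, hx5, hx6, hrho⟩ | ⟨hx0, hx1, hx2, hx3, hx4, hx5, hx6, hrho⟩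
  · -- solution (0, 0, 0, 1, 0, 0, 1), rho = 1
    obtain ⟨a, haS, hfa, hzr⟩ := Cfsg.Agent.Lib.Helper76_ShapeLib.rem1 S c4 hnn hrho
    obtain ⟨na0, na1, na2, na3, na4, na5, na6⟩ := (hmem a).1 haS
    obtain ⟨za0, za1, za2, za3⟩ := hz' a haS
    refine (Or.inl ⟨i0, i1, i3, i2, i4, i5, i6, a, ⟨d_0_1, d_0_3, d_0_2, d_0_4, d_0_5, d_0_6, na0.symm, d_1_3, d_1_2, d_1_4, d_1_5, d_1_6, na1.symm, d_2_3.symm, d_3_4, d_3_5, d_3_6, na3.symm, d_2_4, d_2_5, d_2_6, na2.symm, d_4_5, d_4_6, na4.symm, d_5_6, na5.symm, na6.symm⟩, ⟨v_0_0, v_0_1, v_0_2, v_0_3, hx0, v_1_0, v_1_1, v_1_2, v_1_3, hx1, v_3_0, v_3_1, v_3_2, v_3_3, hx3, v_2_0, v_2_1, v_2_2, v_2_3, hx2, v_4_0, v_4_1, v_4_2, v_4_3, hx4, v_5_0,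 v_5_1, v_5_2, v_5_3, hx5, v_6_0, v_6_1, v_6_2, v_6_3, hx6, za0, za1, za2, za3, hfa⟩, ?_⟩)
    intro i m0 m1 m2 m3 m4 m5 m6 m7
    have hiS : i ∈ S := (hmem i).2 ⟨m0, m1, m3, m2, m4, m5, m6⟩
    obtain ⟨y0, y1, y2, y3⟩ := hz' i hiS
    exact ⟨y0, y1, y2, y3, (hzr i hiS m7)⟩
  · -- solution (0, 0, 0, 1, 1, -1, 0), rho = 0
    have hzr := Cfsg.Agent.Lib.Helper76_ShapeLib.rem0 S c4 hrho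
    refine (Or.inr ⟨i0, i1, i3, i2, i4, i5, i6, ⟨d_0_1, d_0_3, d_0_2, d_0_4, d_0_5, d_0_6, d_1_3, d_1_2, d_1_4, d_1_5, d_1_6, d_2_3.symm, d_3_4, d_3_5, d_3_6, d_2_4, d_2_5, d_2_6, d_4_5, d_4_6, d_5_6⟩, ⟨v_0_0, v_0_1, v_0_2, v_0_3, hx0, v_1_0, v_1_1, v_1_2, v_1_3, hx1, v_3_0, v_3_1, v_3_2, v_3_3, hx3, v_2_0, v_2_1, v_2_2, v_2_3, hx2, v_4_0, v_4_1, v_4_2, v_4_3, hx4, v_5_0, v_5_1, v_5_2, v_5_3, hx5, v_6_0, v_6_1, v_6_2, v_6_3, hx6⟩, ?_⟩)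
    intro i m0 m1 m2 m3 m4 m5 m6
    have hiS : i ∈ S := (hmem i).2 ⟨m0, m1, m3, m2, m4, m5, m6⟩
    obtain ⟨y0, y1, y2, y3⟩ := hz' i hiS
    exact ⟨y0, y1, y2, y3, (hzr i hiS)⟩
  · -- solution (0, 0, 1, 0, 0, 0, 1), rho = 1
    obtain ⟨a, haS, hfa, hzr⟩ := Cfsg.Agent.Lib.Helper76_ShapeLib.rem1 S c4 hnn hrho
    obtain ⟨na0, na1, na2, na3, na4, na5, na6⟩ := (hmem a).1 haS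
    obtain ⟨za0, za1, za2, za3⟩ := hz' a haS
    refine (Or.inl ⟨i0, i1, i2, i3, i4, i5, i6, a, ⟨d_0_1, d_0_2, d_0_3, d_0_4, d_0_5, d_0_6, na0.symm, d_1_2, d_1_3, d_1_4, d_1_5, d_1_6, na1.symm, d_2_3, d_2_4, d_2_5, d_2_6, na2.symm, d_3_4, d_3_5, d_3_6, na3.symm, d_4_5, d_4_6, na4.symm, d_5_6, na5.symm, na6.symm⟩, ⟨v_0_0, v_0_1, v_0_2, v_0_3, hx0, v_1_0, v_1_1, v_1_2, v_1_3, hx1, v_2_0, v_2_1, v_2_2, v_2_3, hx2, v_3_0, v_3_1, v_3_2, v_3_3, hx3, v_4_0, v_4_1, v_4_2, v_4_3, hx4, v_5_0, v_5_1, v_5_2, v_5_3, hx5, v_6_0, v_6_1, v_6_2, v_6_3, hx6, za0, za1, za2, za3, hfa⟩, ?_⟩)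
    intro i m0 m1 m2 m3 m4 m5 m6 m7
    have hiS : i ∈ S := (hmem i).2 ⟨m0, m1, m2, m3, m4, m5, m6⟩
    obtain ⟨y0, y1, y2, y3⟩ := hz' i hiS
    exact ⟨y0, y1, y2, y3, (hzr i hiS m7)⟩
  · -- solution (0, 0, 1, 0, 1, -1, 0), rho = 0
    have hzr := Cfsg.Agent.Lib.Helper76_ShapeLib.rem0 S c4 hrho
    refine (Or.inr ⟨i0, i1, i2, i3, i4, i5, i6, ⟨d_0_1, d_0_2, d_0_3, d_0_4, d_0_5, d_0_6, d_1_2, d_1_3, d_1_4, d_1_5, d_1_6, d_2_3, d_2_4, d_2_5, d_2_6, d_3_4, d_3_5, d_3_6, d_4_5, d_4_6, d_5_6⟩, ⟨v_0_0, v_0_1, v_0_2, v_0_3, hx0, v_1_0, v_1_1, v_1_2, v_1_3, hx1, v_2_0, v_2_1, v_2_2, v_2_3, hx2, v_3_0, v_3_1, v_3_2, v_3_3, hx3, v_4_0, v_4_1, v_4_2, v_4_3, hx4, v_5_0, v_5_1, v_5_2, v_5_3,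 hx5, v_6_0, v_6_1, v_6_2, v_6_3, hx6⟩, ?_⟩)
    intro i m0 m1 m2 m3 m4 m5 m6
    have hiS : i ∈ S := (hmem i).2 ⟨m0, m1, m2, m3, m4, m5, m6⟩
    obtain ⟨y0, y1, y2, y3⟩ := hz' i hiS
    exact ⟨y0, y1, y2, y3, (hzr i hiS)⟩

theorem ar_4_1 (x0 x1 x2 x3 x4 x5 r : ℤ) (e0 : (0 : ℤ) = (1) * x0 + (1) * x1 + (0) * x2 + (0) * x3 + (0) * x4 + (0) * x5) (e1 : (1 : ℤ) = (0) * x0 + (-1) * x1 + (1) * x2 + (1) * x3 + (0) * x4 + (0) * x5) (e2 : (0 : ℤ) = (0) * x0 + (0) * x1 + (0) * x2 + (0) * x3 + (1) * x4 + (1) * x5) (e3 : (1 : ℤ) = (1) * x0 + (0) * x1 + (0) * x2 + (-1) * x3 + (0) * x4 + (-1) * x5) (en : (3 : ℤ) = x0 * x0 + x1 * x1 + x2 * x2 + x3 * x3 + x4 * x4 + x5 * x5 + r) (hr : 0 ≤ r) :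 (x0 = 0 ∧ x1 = 0 ∧ x2 = 1 ∧ x3 = 0 ∧ x4 = 1 ∧ x5 = -1 ∧ r = 0) ∨ (x0 = 1 ∧ x1 = -1 ∧ x2 = 0 ∧ x3 = 0 ∧ x4 = 0 ∧ x5 = 0 ∧ r = 1) := by
  have hb3 : x3 * x3 ≤ 3 := by linarith [mul_self_nonneg x0, mul_self_nonneg x1, mul_self_nonneg x2, mul_self_nonneg x3, mul_self_nonneg x4, mul_self_nonneg x5]
  obtain ⟨hl3, hu3⟩ := Cfsg.Agent.Lib.Helper76_ShapeLib.bound1 x3 hb3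
  have hb5 : x5 * x5 ≤ 3 := by linarith [mul_self_nonneg x0, mul_self_nonneg x1, mul_self_nonneg x2, mul_self_nonneg x3, mul_self_nonneg x4, mul_self_nonneg x5]
  obtain ⟨hl5, hu5⟩ := Cfsg.Agent.Lib.Helper76_ShapeLib.bound1 x5 hb5
  obtain rfl : x0 = 1 + (1) * x3 + (1) * x5 := by omega
  obtain rfl : x1 = -1 + (-1) * x3 + (-1) * x5 := by omega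
  obtain rfl : x4 = 0 + (-1) * x5 := by omega
  obtain rfl : x2 = 0 + (-2) * x3 + (-1) * x5 := by omega
  interval_cases x3 <;> interval_cases x5 <;> omega

theorem ext_4_1 {ι : Type*} [Fintype ι] [DecidableEq ι] (c0 c1 c2 c3 c4 : ι → ℤ)
    (hG0 : ∑ i, c0 i * c4 i = 0)
    (hG1 : ∑ i, c1 i * c4 i = 1)
    (hG2 : ∑ i, c2 i * c4 i = 0)
    (hG3 : ∑ i, c3 i * c4 i = 1)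
    (hG4 : ∑ i, c4 i * c4 i = 3)
    (hpos : ∀ i, c0 i = 0 → c1 i = 0 → c2 i = 0 → c3 i = 0 → 0 ≤ c4 i)
    (h : St_4_1 c0 c1 c2 c3) :
    St_5_2 c0 c1 c2 c3 c4 ∨ St_5_3 c0 c1 c2 c3 c4 := by
  obtain ⟨i0, i1, i2, i3, i4, i5, ⟨d_0_1, d_0_2, d_0_3, d_0_4, d_0_5, d_1_2, d_1_3, d_1_4, d_1_5, d_2_3, d_2_4, d_2_5, d_3_4, d_3_5, d_4_5⟩, ⟨v_0_0, v_0_1, v_0_2, v_0_3, v_1_0, v_1_1, v_1_2, v_1_3, v_2_0, v_2_1, v_2_2, v_2_3, v_3_0, v_3_1, v_3_2, v_3_3, v_4_0, v_4_1, v_4_2, v_4_3, v_5_0, v_5_1, v_5_2, v_5_3⟩, hz⟩ := h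
  have hnd : ([i0, i1, i2, i3, i4, i5] : List ι).Nodup := by
    simp only [List.nodup_cons, List.mem_cons, List.not_mem_nil, or_false, not_or, List.nodup_nil, and_true, not_false_eq_true]
    exact ⟨⟨d_0_1, d_0_2, d_0_3, d_0_4, d_0_5⟩, ⟨d_1_2, d_1_3, d_1_4, d_1_5⟩, ⟨d_2_3, d_2_4, d_2_5⟩, ⟨d_3_4, d_3_5⟩, d_4_5⟩
  set S : Finset ι := Finset.univ \ ([i0, i1, i2, i3, i4, i5] : List ι).toFinset with hS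
  have hmem : ∀ i, i ∈ S ↔ (i ≠ i0 ∧ i ≠ i1 ∧ i ≠ i2 ∧ i ≠ i3 ∧ i ≠ i4 ∧ i ≠ i5) := by
    intro i
    simp only [hS, Finset.mem_sdiff, Finset.mem_univ, true_and, List.mem_toFinset, List.mem_cons, List.not_mem_nil, or_false, not_or, ne_eq]
  have hz' : ∀ i ∈ S, (c0 i = 0 ∧ c1 i = 0 ∧ c2 i = 0 ∧ c3 i = 0) := by
    intro i hi
    obtain ⟨n0, n1, n2, n3, n4, n5⟩ := (hmem i).1 hi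
    exact hz i n0 n1 n2 n3 n4 n5
  have e0 : (0 : ℤ) = (1) * c4 i0 + (1) * c4 i1 + (0) * c4 i2 + (0) * c4 i3 + (0) * c4 i4 + (0) * c4 i5 := by
    have h1 := Cfsg.Agent.Lib.Helper76_ShapeLib.sum_split [i0, i1, i2, i3, i4, i5] hnd (fun i => c0 i * c4 i)
    have h2 : ∑ i ∈ S, c0 i * c4 i = 0 := Finset.sum_eq_zero fun i hi => by
      rw [(hz' i hi).1, zero_mul]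
    rw [hG0, h2] at h1
    simp only [List.map_cons, List.map_nil, List.sum_cons, List.sum_nil, v_0_0, v_1_0, v_2_0, v_3_0, v_4_0, v_5_0] at h1
    linarith
  have e1 : (1 : ℤ) = (0) * c4 i0 + (-1) * c4 i1 + (1) * c4 i2 + (1) * c4 i3 + (0) * c4 i4 + (0) * c4 i5 := by
    have h1 := Cfsg.Agent.Lib.Helper76_ShapeLib.sum_split [i0, i1, i2, i3, i4, i5] hnd (fun i => c1 i * c4 i)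
    have h2 : ∑ i ∈ S, c1 i * c4 i = 0 := Finset.sum_eq_zero fun i hi => by
      rw [(hz' i hi).2.1, zero_mul]
    rw [hG1, h2] at h1
    simp only [List.map_cons, List.map_nil, List.sum_cons, List.sum_nil, v_0_1, v_1_1, v_2_1, v_3_1, v_4_1, v_5_1] at h1
    linarith
  have e2 : (0 : ℤ) = (0) * c4 i0 + (0) * c4 i1 + (0) * c4 i2 + (0) * c4 i3 + (1) * c4 i4 + (1) * c4 i5 := by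
    have h1 := Cfsg.Agent.Lib.Helper76_ShapeLib.sum_split [i0, i1, i2, i3, i4, i5] hnd (fun i => c2 i * c4 i)
    have h2 : ∑ i ∈ S, c2 i * c4 i = 0 := Finset.sum_eq_zero fun i hi => by
      rw [(hz' i hi).2.2.1, zero_mul]
    rw [hG2, h2] at h1
    simp only [List.map_cons, List.map_nil, List.sum_cons, List.sum_nil, v_0_2, v_1_2, v_2_2, v_3_2, v_4_2, v_5_2] at h1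
    linarith
  have e3 : (1 : ℤ) = (1) * c4 i0 + (0) * c4 i1 + (0) * c4 i2 + (-1) * c4 i3 + (0) * c4 i4 + (-1) * c4 i5 := by
    have h1 := Cfsg.Agent.Lib.Helper76_ShapeLib.sum_split [i0, i1, i2, i3, i4, i5] hnd (fun i => c3 i * c4 i)
    have h2 : ∑ i ∈ S, c3 i * c4 i = 0 := Finset.sum_eq_zero fun i hi => by
      rw [(hz' i hi).2.2.2, zero_mul]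
    rw [hG3, h2] at h1
    simp only [List.map_cons, List.map_nil, List.sum_cons, List.sum_nil, v_0_3, v_1_3, v_2_3, v_3_3, v_4_3, v_5_3] at h1
    linarith
  have en : (3 : ℤ) = c4 i0 * c4 i0 + c4 i1 * c4 i1 + c4 i2 * c4 i2 + c4 i3 * c4 i3 + c4 i4 * c4 i4 + c4 i5 * c4 i5 + ∑ i ∈ S, c4 i * c4 i := by
    have h1 := Cfsg.Agent.Lib.Helper76_ShapeLib.sum_split [i0, i1, i2, i3, i4, i5] hnd (fun i => c4 i * c4 i)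
    rw [hG4] at h1
    simp only [List.map_cons, List.map_nil, List.sum_cons, List.sum_nil] at h1
    linarith
  have hr : 0 ≤ ∑ i ∈ S, c4 i * c4 i := Finset.sum_nonneg fun i _ => mul_self_nonneg _
  have hnn : ∀ i ∈ S, 0 ≤ c4 i := by
    intro i hi
    obtain ⟨z0, z1, z2, z3⟩ := hz' i hi
    exact hpos i z0 z1 z2 z3
  have hsol := ar_4_1 (c4 i0) (c4 i1) (c4 i2) (c4 i3) (c4 i4) (c4 i5) _ e0 e1 e2 e3 en hr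
  rcases hsol with ⟨hx0, hx1, hx2, hx3, hx4, hx5, hrho⟩ | ⟨hx0, hx1, hx2, hx3, hx4, hx5, hrho⟩
  · -- solution (0, 0, 1, 0, 1, -1), rho = 0
    have hzr := Cfsg.Agent.Lib.Helper76_ShapeLib.rem0 S c4 hrho
    refine (Or.inl ⟨i0, i1, i2, i3, i4, i5, ⟨d_0_1, d_0_2, d_0_3, d_0_4, d_0_5, d_1_2, d_1_3, d_1_4, d_1_5, d_2_3, d_2_4, d_2_5, d_3_4, d_3_5, d_4_5⟩, ⟨v_0_0, v_0_1, v_0_2, v_0_3, hx0, v_1_0, v_1_1, v_1_2, v_1_3, hx1, v_2_0, v_2_1, v_2_2, v_2_3, hx2, v_3_0, v_3_1, v_3_2, v_3_3, hx3, v_4_0, v_4_1, v_4_2, v_4_3, hx4, v_5_0, v_5_1, v_5_2, v_5_3, hx5⟩, ?_⟩)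
    intro i m0 m1 m2 m3 m4 m5
    have hiS : i ∈ S := (hmem i).2 ⟨m0, m1, m2, m3, m4, m5⟩
    obtain ⟨y0, y1, y2, y3⟩ := hz' i hiS
    exact ⟨y0, y1, y2, y3, (hzr i hiS)⟩
  · -- solution (1, -1, 0, 0, 0, 0), rho = 1
    obtain ⟨a, haS, hfa, hzr⟩ := Cfsg.Agent.Lib.Helper76_ShapeLib.rem1 S c4 hnn hrho
    obtain ⟨na0, na1, na2, na3, na4, na5⟩ := (hmem a).1 haS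
    obtain ⟨za0, za1, za2, za3⟩ := hz' a haS
    refine (Or.inr ⟨i0, i1, i2, i3, i4, i5, a, ⟨d_0_1, d_0_2, d_0_3, d_0_4, d_0_5, na0.symm, d_1_2, d_1_3, d_1_4, d_1_5, na1.symm, d_2_3, d_2_4, d_2_5, na2.symm, d_3_4, d_3_5, na3.symm, d_4_5, na4.symm, na5.symm⟩, ⟨v_0_0, v_0_1, v_0_2, v_0_3, hx0, v_1_0, v_1_1, v_1_2, v_1_3, hx1, v_2_0, v_2_1, v_2_2, v_2_3, hx2, v_3_0, v_3_1, v_3_2, v_3_3, hx3, v_4_0, v_4_1, v_4_2, v_4_3, hx4, v_5_0, v_5_1, v_5_2, v_5_3, hx5, za0, za1, za2, za3, hfa⟩, ?_⟩)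
    intro i m0 m1 m2 m3 m4 m5 m6
    have hiS : i ∈ S := (hmem i).2 ⟨m0, m1, m2, m3, m4, m5⟩
    obtain ⟨y0, y1, y2, y3⟩ := hz' i hiS
    exact ⟨y0, y1, y2, y3, (hzr i hiS m6)⟩

theorem ar_4_2 (x0 x1 x2 x3 x4 r : ℤ) (e0 : (0 : ℤ) = (1) * x0 + (1) * x1 + (0) * x2 + (0) * x3 + (0) * x4) (e1 : (1 : ℤ) = (0) * x0 + (-1) * x1 + (1) * x2 + (1) * x3 + (0) * x4) (e2 : (0 : ℤ) = (0) * x0 + (0) * x1 + (1) * x2 + (-1) * x3 + (0) * x4) (e3 : (1 : ℤ) = (1) * x0 + (0) * x1 + (-1) * x2 + (0) * x3 + (1) * x4) (en : (3 : ℤ) = x0 * x0 + x1 * x1 + x2 * x2 + x3 * x3 + x4 * x4 + r) (hr : 0 ≤ r) : (x0 = 1 ∧ x1 = -1 ∧ x2 = 0 ∧ x3 = 0 ∧ x4 = 0 ∧ r = 1) := by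
  have hb3 : x3 * x3 ≤ 3 := by linarith [mul_self_nonneg x0, mul_self_nonneg x1, mul_self_nonneg x2, mul_self_nonneg x3, mul_self_nonneg x4]
  obtain ⟨hl3, hu3⟩ := Cfsg.Agent.Lib.Helper76_ShapeLib.bound1 x3 hb3
  obtain rfl : x0 = 1 + (-2) * x3 := by omega
  obtain rfl : x1 = -1 + (2) * x3 := by omega
  obtain rfl : x2 = 0 + (1) * x3 := by omega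
  obtain rfl : x4 = 0 + (3) * x3 := by omega
  interval_cases x3 <;> omega

theorem ext_4_2 {ι : Type*} [Fintype ι] [DecidableEq ι] (c0 c1 c2 c3 c4 : ι → ℤ)
    (hG0 : ∑ i, c0 i * c4 i = 0)
    (hG1 : ∑ i, c1 i * c4 i = 1)
    (hG2 : ∑ i, c2 i * c4 i = 0)
    (hG3 : ∑ i, c3 i * c4 i = 1)
    (hG4 : ∑ i, c4 i * c4 i = 3)
    (hpos : ∀ i, c0 i = 0 → c1 i = 0 → c2 i = 0 → c3 i = 0 → 0 ≤ c4 i)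
    (h : St_4_2 c0 c1 c2 c3) :
    St_5_4 c0 c1 c2 c3 c4 := by
  obtain ⟨i0, i1, i2, i3, i4, ⟨d_0_1, d_0_2, d_0_3, d_0_4, d_1_2, d_1_3, d_1_4, d_2_3, d_2_4, d_3_4⟩, ⟨v_0_0, v_0_1, v_0_2, v_0_3, v_1_0, v_1_1, v_1_2, v_1_3, v_2_0, v_2_1, v_2_2, v_2_3, v_3_0, v_3_1, v_3_2, v_3_3, v_4_0, v_4_1, v_4_2, v_4_3⟩, hz⟩ := h
  have hnd : ([i0, i1, i2, i3, i4] : List ι).Nodup := by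
    simp only [List.nodup_cons, List.mem_cons, List.not_mem_nil, or_false, not_or, List.nodup_nil, and_true, not_false_eq_true]
    exact ⟨⟨d_0_1, d_0_2, d_0_3, d_0_4⟩, ⟨d_1_2, d_1_3, d_1_4⟩, ⟨d_2_3, d_2_4⟩, d_3_4⟩
  set S : Finset ι := Finset.univ \ ([i0, i1, i2, i3, i4] : List ι).toFinset with hS
  have hmem : ∀ i, i ∈ S ↔ (i ≠ i0 ∧ i ≠ i1 ∧ i ≠ i2 ∧ i ≠ i3 ∧ i ≠ i4) := by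
    intro i
    simp only [hS, Finset.mem_sdiff, Finset.mem_univ, true_and, List.mem_toFinset, List.mem_cons, List.not_mem_nil, or_false, not_or, ne_eq]
  have hz' : ∀ i ∈ S, (c0 i = 0 ∧ c1 i = 0 ∧ c2 i = 0 ∧ c3 i = 0) := by
    intro i hi
    obtain ⟨n0, n1, n2, n3, n4⟩ := (hmem i).1 hi
    exact hz i n0 n1 n2 n3 n4
  have e0 : (0 : ℤ) = (1) * c4 i0 + (1) * c4 i1 + (0) * c4 i2 + (0) * c4 i3 + (0) * c4 i4 := by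
    have h1 := Cfsg.Agent.Lib.Helper76_ShapeLib.sum_split [i0, i1, i2, i3, i4] hnd (fun i => c0 i * c4 i)
    have h2 : ∑ i ∈ S, c0 i * c4 i = 0 := Finset.sum_eq_zero fun i hi => by
      rw [(hz' i hi).1, zero_mul]
    rw [hG0, h2] at h1
    simp only [List.map_cons, List.map_nil, List.sum_cons, List.sum_nil, v_0_0, v_1_0, v_2_0, v_3_0, v_4_0] at h1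
    linarith
  have e1 : (1 : ℤ) = (0) * c4 i0 + (-1) * c4 i1 + (1) * c4 i2 + (1) * c4 i3 + (0) * c4 i4 := by
    have h1 := Cfsg.Agent.Lib.Helper76_ShapeLib.sum_split [i0, i1, i2, i3, i4] hnd (fun i => c1 i * c4 i)
    have h2 : ∑ i ∈ S, c1 i * c4 i = 0 := Finset.sum_eq_zero fun i hi => by
      rw [(hz' i hi).2.1, zero_mul]
    rw [hG1, h2] at h1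
    simp only [List.map_cons, List.map_nil, List.sum_cons, List.sum_nil, v_0_1, v_1_1, v_2_1, v_3_1, v_4_1] at h1
    linarith
  have e2 : (0 : ℤ) = (0) * c4 i0 + (0) * c4 i1 + (1) * c4 i2 + (-1) * c4 i3 + (0) * c4 i4 := by
    have h1 := Cfsg.Agent.Lib.Helper76_ShapeLib.sum_split [i0, i1, i2, i3, i4] hnd (fun i => c2 i * c4 i)
    have h2 : ∑ i ∈ S, c2 i * c4 i = 0 := Finset.sum_eq_zero fun i hi => by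
      rw [(hz' i hi).2.2.1, zero_mul]
    rw [hG2, h2] at h1
    simp only [List.map_cons, List.map_nil, List.sum_cons, List.sum_nil, v_0_2, v_1_2, v_2_2, v_3_2, v_4_2] at h1
    linarith
  have e3 : (1 : ℤ) = (1) * c4 i0 + (0) * c4 i1 + (-1) * c4 i2 + (0) * c4 i3 + (1) * c4 i4 := by
    have h1 := Cfsg.Agent.Lib.Helper76_ShapeLib.sum_split [i0, i1, i2, i3, i4] hnd (fun i => c3 i * c4 i)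
    have h2 : ∑ i ∈ S, c3 i * c4 i = 0 := Finset.sum_eq_zero fun i hi => by
      rw [(hz' i hi).2.2.2, zero_mul]
    rw [hG3, h2] at h1
    simp only [List.map_cons, List.map_nil, List.sum_cons, List.sum_nil, v_0_3, v_1_3, v_2_3, v_3_3, v_4_3] at h1
    linarith
  have en : (3 : ℤ) = c4 i0 * c4 i0 + c4 i1 * c4 i1 + c4 i2 * c4 i2 + c4 i3 * c4 i3 + c4 i4 * c4 i4 + ∑ i ∈ S, c4 i * c4 i := by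
    have h1 := Cfsg.Agent.Lib.Helper76_ShapeLib.sum_split [i0, i1, i2, i3, i4] hnd (fun i => c4 i * c4 i)
    rw [hG4] at h1
    simp only [List.map_cons, List.map_nil, List.sum_cons, List.sum_nil] at h1
    linarith
  have hr : 0 ≤ ∑ i ∈ S, c4 i * c4 i := Finset.sum_nonneg fun i _ => mul_self_nonneg _
  have hnn : ∀ i ∈ S, 0 ≤ c4 i := by
    intro i hi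
    obtain ⟨z0, z1, z2, z3⟩ := hz' i hi
    exact hpos i z0 z1 z2 z3
  have hsol := ar_4_2 (c4 i0) (c4 i1) (c4 i2) (c4 i3) (c4 i4) _ e0 e1 e2 e3 en hr
  rcases hsol with ⟨hx0, hx1, hx2, hx3, hx4, hrho⟩
  · -- solution (1, -1, 0, 0, 0), rho = 1
    obtain ⟨a, haS, hfa, hzr⟩ := Cfsg.Agent.Lib.Helper76_ShapeLib.rem1 S c4 hnn hrho
    obtain ⟨na0, na1, na2, na3, na4⟩ := (hmem a).1 haS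
    obtain ⟨za0, za1, za2, za3⟩ := hz' a haS
    refine ⟨i0, i1, i2, i3, i4, a, ⟨d_0_1, d_0_2, d_0_3, d_0_4, na0.symm, d_1_2, d_1_3, d_1_4, na1.symm, d_2_3, d_2_4, na2.symm, d_3_4, na3.symm, na4.symm⟩, ⟨v_0_0, v_0_1, v_0_2, v_0_3, hx0, v_1_0, v_1_1, v_1_2, v_1_3, hx1, v_2_0, v_2_1, v_2_2, v_2_3, hx2, v_3_0, v_3_1, v_3_2, v_3_3, hx3, v_4_0, v_4_1, v_4_2, v_4_3, hx4, za0, za1, za2, za3, hfa⟩, ?_⟩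
    intro i m0 m1 m2 m3 m4 m5
    have hiS : i ∈ S := (hmem i).2 ⟨m0, m1, m2, m3, m4⟩
    obtain ⟨y0, y1, y2, y3⟩ := hz' i hiS
    exact ⟨y0, y1, y2, y3, (hzr i hiS m5)⟩

theorem ar_5_0 (x0 x1 x2 x3 x4 x5 x6 x7 r : ℤ) (e0 : (1 : ℤ) = (1) * x0 + (1) * x1 + (0) * x2 + (0) * x3 + (0) * x4 + (0) * x5 + (0) * x6 + (0) * x7) (e1 : (-1 : ℤ) = (0) * x0 + (-1) * x1 + (1) * x2 + (1) * x3 + (0) * x4 + (0) * x5 + (0) * x6 + (0) * x7) (e2 : (0 : ℤ) = (0) * x0 + (0) * x1 + (0) * x2 + (0) * x3 + (1) * x4 + (1) * x5 + (0) * x6 + (0) * x7) (e3 : (1 : ℤ) = (0) * x0 + (1) * x1 + (0) * x2 + (0) * x3 + (0) * x4 + (-1) * x5 + (1) * x6 + (0) * x7) (e4 : (0 : ℤ) = (0) * x0 + (0) * x1 + (1) * x2 + (0)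 * x3 + (0) * x4 + (0) * x5 + (1) * x6 + (1) * x7) (en : (3 : ℤ) = x0 * x0 + x1 * x1 + x2 * x2 + x3 * x3 + x4 * x4 + x5 * x5 + x6 * x6 + x7 * x7 + r) (hr : 0 ≤ r) : (x0 = 0 ∧ x1 = 1 ∧ x2 = 0 ∧ x3 = 0 ∧ x4 = 0 ∧ x5 = 0 ∧ x6 = 0 ∧ x7 = 0 ∧ r = 2) ∨ (x0 = 1 ∧ x1 = 0 ∧ x2 = -1 ∧ x3 = 0 ∧ x4 = 0 ∧ x5 = 0 ∧ x6 = 1 ∧ x7 = 0 ∧ r = 0) := by
  have hb5 : x5 * x5 ≤ 3 := by linarith [mul_self_nonneg x0, mul_self_nonneg x1, mul_self_nonneg x2, mul_self_nonneg x3, mul_self_nonneg x4, mul_self_nonneg x5, mul_self_nonneg x6, mul_self_nonneg x7]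
  obtain ⟨hl5, hu5⟩ := Cfsg.Agent.Lib.Helper76_ShapeLib.bound1 x5 hb5
  have hb6 : x6 * x6 ≤ 3 := by linarith [mul_self_nonneg x0, mul_self_nonneg x1, mul_self_nonneg x2, mul_self_nonneg x3, mul_self_nonneg x4, mul_self_nonneg x5, mul_self_nonneg x6, mul_self_nonneg x7]
  obtain ⟨hl6, hu6⟩ := Cfsg.Agent.Lib.Helper76_ShapeLib.bound1 x6 hb6
  have hb7 : x7 * x7 ≤ 3 := by linarith [mul_self_nonneg x0, mul_self_nonneg x1, mul_self_nonneg x2, mul_self_nonneg x3, mul_self_nonneg x4, mul_self_nonneg x5, mul_self_nonneg x6, mul_self_nonneg x7]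
  obtain ⟨hl7, hu7⟩ := Cfsg.Agent.Lib.Helper76_ShapeLib.bound1 x7 hb7
  obtain rfl : x0 = 0 + (-1) * x5 + (1) * x6 := by omega
  obtain rfl : x1 = 1 + (1) * x5 + (-1) * x6 := by omega
  obtain rfl : x4 = 0 + (-1) * x5 := by omega
  obtain rfl : x2 = 0 + (-1) * x6 + (-1) * x7 := by omega
  obtain rfl : x3 = 0 + (1) * x5 + (1) * x7 := by omega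
  interval_cases x5 <;> interval_cases x6 <;> interval_cases x7 <;> omega

theorem ext_5_0 {ι : Type*} [Fintype ι] [DecidableEq ι] (c0 c1 c2 c3 c4 c5 : ι → ℤ)
    (hG0 : ∑ i, c0 i * c5 i = 1)
    (hG1 : ∑ i, c1 i * c5 i = -1)
    (hG2 : ∑ i, c2 i * c5 i = 0)
    (hG3 : ∑ i, c3 i * c5 i = 1)
    (hG4 : ∑ i, c4 i * c5 i = 0)
    (hG5 : ∑ i, c5 i * c5 i = 3)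
    (hpos : ∀ i, c0 i = 0 → c1 i = 0 → c2 i = 0 → c3 i = 0 → c4 i = 0 → 0 ≤ c5 i)
    (h : St_5_0 c0 c1 c2 c3 c4) :
    St_6_0 c0 c1 c2 c3 c4 c5 ∨ St_6_1 c0 c1 c2 c3 c4 c5 := by
  obtain ⟨i0, i1, i2, i3, i4, i5, i6, i7, ⟨d_0_1, d_0_2, d_0_3, d_0_4, d_0_5, d_0_6, d_0_7, d_1_2, d_1_3, d_1_4, d_1_5, d_1_6, d_1_7, d_2_3, d_2_4, d_2_5, d_2_6, d_2_7, d_3_4, d_3_5, d_3_6, d_3_7, d_4_5, d_4_6, d_4_7, d_5_6, d_5_7, d_6_7⟩, ⟨v_0_0, v_0_1, v_0_2, v_0_3, v_0_4, v_1_0, v_1_1, v_1_2, v_1_3, v_1_4, v_2_0, v_2_1, v_2_2, v_2_3, v_2_4, v_3_0, v_3_1, v_3_2, v_3_3, v_3_4, v_4_0, v_4_1, v_4_2, v_4_3, v_4_4, v_5_0, v_5_1, v_5_2, v_5_3, v_5_4, v_6_0, v_6_1, v_6_2, v_6_3, v_6_4, v_7_0, v_7_1, v_7_2,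 v_7_3, v_7_4⟩, hz⟩ := h
  have hnd : ([i0, i1, i2, i3, i4, i5, i6, i7] : List ι).Nodup := by
    simp only [List.nodup_cons, List.mem_cons, List.not_mem_nil, or_false, not_or, List.nodup_nil, and_true, not_false_eq_true]
    exact ⟨⟨d_0_1, d_0_2, d_0_3, d_0_4, d_0_5, d_0_6, d_0_7⟩, ⟨d_1_2, d_1_3, d_1_4, d_1_5, d_1_6, d_1_7⟩, ⟨d_2_3, d_2_4, d_2_5, d_2_6, d_2_7⟩, ⟨d_3_4, d_3_5, d_3_6, d_3_7⟩, ⟨d_4_5, d_4_6, d_4_7⟩, ⟨d_5_6, d_5_7⟩, d_6_7⟩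
  set S : Finset ι := Finset.univ \ ([i0, i1, i2, i3, i4, i5, i6, i7] : List ι).toFinset with hS
  have hmem : ∀ i, i ∈ S ↔ (i ≠ i0 ∧ i ≠ i1 ∧ i ≠ i2 ∧ i ≠ i3 ∧ i ≠ i4 ∧ i ≠ i5 ∧ i ≠ i6 ∧ i ≠ i7) := by
    intro i
    simp only [hS, Finset.mem_sdiff, Finset.mem_univ, true_and, List.mem_toFinset, List.mem_cons, List.not_mem_nil, or_false, not_or, ne_eq]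
  have hz' : ∀ i ∈ S, (c0 i = 0 ∧ c1 i = 0 ∧ c2 i = 0 ∧ c3 i = 0 ∧ c4 i = 0) := by
    intro i hi
    obtain ⟨n0, n1, n2, n3, n4, n5, n6, n7⟩ := (hmem i).1 hi
    exact hz i n0 n1 n2 n3 n4 n5 n6 n7
  have e0 : (1 : ℤ) = (1) * c5 i0 + (1) * c5 i1 + (0) * c5 i2 + (0) * c5 i3 + (0) * c5 i4 + (0) * c5 i5 + (0) * c5 i6 + (0) * c5 i7 := by
    have h1 := Cfsg.Agent.Lib.Helper76_ShapeLib.sum_split [i0, i1, i2, i3, i4, i5, i6, i7] hnd (fun i => c0 i * c5 i)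
    have h2 : ∑ i ∈ S, c0 i * c5 i = 0 := Finset.sum_eq_zero fun i hi => by
      rw [(hz' i hi).1, zero_mul]
    rw [hG0, h2] at h1
    simp only [List.map_cons, List.map_nil, List.sum_cons, List.sum_nil, v_0_0, v_1_0, v_2_0, v_3_0, v_4_0, v_5_0, v_6_0, v_7_0] at h1
    linarith
  have e1 : (-1 : ℤ) = (0) * c5 i0 + (-1) * c5 i1 + (1) * c5 i2 + (1) * c5 i3 + (0) * c5 i4 + (0) * c5 i5 + (0) * c5 i6 + (0) * c5 i7 := by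
    have h1 := Cfsg.Agent.Lib.Helper76_ShapeLib.sum_split [i0, i1, i2, i3, i4, i5, i6, i7] hnd (fun i => c1 i * c5 i)
    have h2 : ∑ i ∈ S, c1 i * c5 i = 0 := Finset.sum_eq_zero fun i hi => by
      rw [(hz' i hi).2.1, zero_mul]
    rw [hG1, h2] at h1
    simp only [List.map_cons, List.map_nil, List.sum_cons, List.sum_nil, v_0_1, v_1_1, v_2_1, v_3_1, v_4_1, v_5_1, v_6_1, v_7_1] at h1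
    linarith
  have e2 : (0 : ℤ) = (0) * c5 i0 + (0) * c5 i1 + (0) * c5 i2 + (0) * c5 i3 + (1) * c5 i4 + (1) * c5 i5 + (0) * c5 i6 + (0) * c5 i7 := by
    have h1 := Cfsg.Agent.Lib.Helper76_ShapeLib.sum_split [i0, i1, i2, i3, i4, i5, i6, i7] hnd (fun i => c2 i * c5 i)
    have h2 : ∑ i ∈ S, c2 i * c5 i = 0 := Finset.sum_eq_zero fun i hi => by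
      rw [(hz' i hi).2.2.1, zero_mul]
    rw [hG2, h2] at h1
    simp only [List.map_cons, List.map_nil, List.sum_cons, List.sum_nil, v_0_2, v_1_2, v_2_2, v_3_2, v_4_2, v_5_2, v_6_2, v_7_2] at h1
    linarith
  have e3 : (1 : ℤ) = (0) * c5 i0 + (1) * c5 i1 + (0) * c5 i2 + (0) * c5 i3 + (0) * c5 i4 + (-1) * c5 i5 + (1) * c5 i6 + (0) * c5 i7 := by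
    have h1 := Cfsg.Agent.Lib.Helper76_ShapeLib.sum_split [i0, i1, i2, i3, i4, i5, i6, i7] hnd (fun i => c3 i * c5 i)
    have h2 : ∑ i ∈ S, c3 i * c5 i = 0 := Finset.sum_eq_zero fun i hi => by
      rw [(hz' i hi).2.2.2.1, zero_mul]
    rw [hG3, h2] at h1
    simp only [List.map_cons, List.map_nil, List.sum_cons, List.sum_nil, v_0_3, v_1_3, v_2_3, v_3_3, v_4_3, v_5_3, v_6_3, v_7_3] at h1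
    linarith
  have e4 : (0 : ℤ) = (0) * c5 i0 + (0) * c5 i1 + (1) * c5 i2 + (0) * c5 i3 + (0) * c5 i4 + (0) * c5 i5 + (1) * c5 i6 + (1) * c5 i7 := by
    have h1 := Cfsg.Agent.Lib.Helper76_ShapeLib.sum_split [i0, i1, i2, i3, i4, i5, i6, i7] hnd (fun i => c4 i * c5 i)
    have h2 : ∑ i ∈ S, c4 i * c5 i = 0 := Finset.sum_eq_zero fun i hi => by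
      rw [(hz' i hi).2.2.2.2, zero_mul]
    rw [hG4, h2] at h1
    simp only [List.map_cons, List.map_nil, List.sum_cons, List.sum_nil, v_0_4, v_1_4, v_2_4, v_3_4, v_4_4, v_5_4, v_6_4, v_7_4] at h1
    linarith
  have en : (3 : ℤ) = c5 i0 * c5 i0 + c5 i1 * c5 i1 + c5 i2 * c5 i2 + c5 i3 * c5 i3 + c5 i4 * c5 i4 + c5 i5 * c5 i5 + c5 i6 * c5 i6 + c5 i7 * c5 i7 + ∑ i ∈ S, c5 i * c5 i := by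
    have h1 := Cfsg.Agent.Lib.Helper76_ShapeLib.sum_split [i0, i1, i2, i3, i4, i5, i6, i7] hnd (fun i => c5 i * c5 i)
    rw [hG5] at h1
    simp only [List.map_cons, List.map_nil, List.sum_cons, List.sum_nil] at h1
    linarith
  have hr : 0 ≤ ∑ i ∈ S, c5 i * c5 i := Finset.sum_nonneg fun i _ => mul_self_nonneg _
  have hnn : ∀ i ∈ S, 0 ≤ c5 i := by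
    intro i hi
    obtain ⟨z0, z1, z2, z3, z4⟩ := hz' i hi
    exact hpos i z0 z1 z2 z3 z4
  have hsol := ar_5_0 (c5 i0) (c5 i1) (c5 i2) (c5 i3) (c5 i4) (c5 i5) (c5 i6) (c5 i7) _ e0 e1 e2 e3 e4 en hr
  rcases hsol with ⟨hx0, hx1, hx2, hx3, hx4, hx5, hx6, hx7, hrho⟩ | ⟨hx0, hx1, hx2, hx3, hx4, hx5, hx6, hx7, hrho⟩
  · -- solution (0, 1, 0, 0, 0, 0, 0, 0), rho = 2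
    obtain ⟨a, haS, b, hbS, hab, hfa, hfb, hzr⟩ := Cfsg.Agent.Lib.Helper76_ShapeLib.rem2 S c5 hnn hrho
    obtain ⟨na0, na1, na2, na3, na4, na5, na6, na7⟩ := (hmem a).1 haS
    obtain ⟨za0, za1, za2, za3, za4⟩ := hz' a haS
    obtain ⟨nb0, nb1, nb2, nb3, nb4, nb5, nb6, nb7⟩ := (hmem b).1 hbS
    obtain ⟨zb0, zb1, zb2, zb3, zb4⟩ := hz' b hbS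
    refine (Or.inl ⟨i0, i1, i2, i3, i4, i5, i6, i7, a, b, ⟨d_0_1, d_0_2, d_0_3, d_0_4, d_0_5, d_0_6, d_0_7, na0.symm, nb0.symm, d_1_2, d_1_3, d_1_4, d_1_5, d_1_6, d_1_7, na1.symm, nb1.symm, d_2_3, d_2_4, d_2_5, d_2_6, d_2_7, na2.symm, nb2.symm, d_3_4, d_3_5, d_3_6, d_3_7, na3.symm, nb3.symm, d_4_5, d_4_6, d_4_7, na4.symm, nb4.symm, d_5_6, d_5_7, na5.symm, nb5.symm, d_6_7, na6.symm, nb6.symm, na7.symm, nb7.symm, hab⟩, ⟨v_0_0, v_0_1, v_0_2, v_0_3, v_0_4, hx0, v_1_0, v_1_1, v_1_2, v_1_3, v_1_4, hx1, v_2_0, v_2_1, v_2_2, v_2_3, v_2_4, hx2, v_3_0, v_3_1, v_3_2, v_3_3, v_3_4, hx3, v_4_0, v_4_1, v_4_2, v_4_3, v_4_4, hx4, v_5_0, v_5_1, v_5_2, v_5_3, v_5_4, hx5, v_6_0, v_6_1, v_6_2, v_6_3,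 v_6_4, hx6, v_7_0, v_7_1, v_7_2, v_7_3, v_7_4, hx7, za0, za1, za2, za3, za4, hfa, zb0, zb1, zb2, zb3, zb4, hfb⟩, ?_⟩)
    intro i m0 m1 m2 m3 m4 m5 m6 m7 m8 m9
    have hiS : i ∈ S := (hmem i).2 ⟨m0, m1, m2, m3, m4, m5, m6, m7⟩
    obtain ⟨y0, y1, y2, y3, y4⟩ := hz' i hiS
    exact ⟨y0, y1, y2, y3, y4, (hzr i hiS m8 m9)⟩
  · -- solution (1, 0, -1, 0, 0, 0, 1, 0), rho = 0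
    have hzr := Cfsg.Agent.Lib.Helper76_ShapeLib.rem0 S c5 hrho
    refine (Or.inr ⟨i0, i1, i2, i3, i4, i5, i6, i7, ⟨d_0_1, d_0_2, d_0_3, d_0_4, d_0_5, d_0_6, d_0_7, d_1_2, d_1_3, d_1_4, d_1_5, d_1_6, d_1_7, d_2_3, d_2_4, d_2_5, d_2_6, d_2_7, d_3_4, d_3_5, d_3_6, d_3_7, d_4_5, d_4_6, d_4_7, d_5_6, d_5_7, d_6_7⟩, ⟨v_0_0, v_0_1, v_0_2, v_0_3, v_0_4, hx0, v_1_0, v_1_1, v_1_2, v_1_3, v_1_4, hx1, v_2_0, v_2_1, v_2_2, v_2_3, v_2_4, hx2, v_3_0, v_3_1, v_3_2, v_3_3, v_3_4, hx3, v_4_0, v_4_1, v_4_2, v_4_3, v_4_4, hx4, v_5_0, v_5_1, v_5_2, v_5_3, v_5_4, hx5, v_6_0, v_6_1, v_6_2, v_6_3, v_6_4, hx6, v_7_0, v_7_1, v_7_2, v_7_3, v_7_4, hx7⟩, ?_⟩)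
    intro i m0 m1 m2 m3 m4 m5 m6 m7
    have hiS : i ∈ S := (hmem i).2 ⟨m0, m1, m2, m3, m4, m5, m6, m7⟩
    obtain ⟨y0, y1, y2, y3, y4⟩ := hz' i hiS
    exact ⟨y0, y1, y2, y3, y4, (hzr i hiS)⟩

theorem ar_5_1 (x0 x1 x2 x3 x4 x5 x6 r : ℤ) (e0 : (1 : ℤ) = (1) * x0 + (1) * x1 + (0) * x2 + (0) * x3 + (0) * x4 + (0) * x5 + (0) * x6) (e1 : (-1 : ℤ) = (0) * x0 + (-1) * x1 + (1) * x2 + (1) * x3 + (0) * x4 + (0) * x5 + (0) * x6) (e2 : (0 : ℤ) = (0) * x0 + (0) * x1 + (0) * x2 + (0) * x3 + (1) * x4 + (1) * x5 + (0) * x6) (e3 : (1 : ℤ) = (0) * x0 + (1) * x1 + (0) * x2 + (0) * x3 + (0) * x4 + (-1) * x5 + (1) * x6) (e4 : (0 : ℤ) = (0) * x0 + (0) * x1 + (1) * x2 + (0) * x3 + (1) * x4 + (-1)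 * x5 + (0) * x6) (en : (3 : ℤ) = x0 * x0 + x1 * x1 + x2 * x2 + x3 * x3 + x4 * x4 + x5 * x5 + x6 * x6 + r) (hr : 0 ≤ r) : (x0 = 0 ∧ x1 = 1 ∧ x2 = 0 ∧ x3 = 0 ∧ x4 = 0 ∧ x5 = 0 ∧ x6 = 0 ∧ r = 2) ∨ (x0 = 1 ∧ x1 = 0 ∧ x2 = 0 ∧ x3 = -1 ∧ x4 = 0 ∧ x5 = 0 ∧ x6 = 1 ∧ r = 0) := by
  have hb5 : x5 * x5 ≤ 3 := by linarith [mul_self_nonneg x0, mul_self_nonneg x1, mul_self_nonneg x2, mul_self_nonneg x3, mul_self_nonneg x4, mul_self_nonneg x5, mul_self_nonneg x6]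
  obtain ⟨hl5, hu5⟩ := Cfsg.Agent.Lib.Helper76_ShapeLib.bound1 x5 hb5
  have hb6 : x6 * x6 ≤ 3 := by linarith [mul_self_nonneg x0, mul_self_nonneg x1, mul_self_nonneg x2, mul_self_nonneg x3, mul_self_nonneg x4, mul_self_nonneg x5, mul_self_nonneg x6]
  obtain ⟨hl6, hu6⟩ := Cfsg.Agent.Lib.Helper76_ShapeLib.bound1 x6 hb6
  obtain rfl : x0 = 0 + (-1) * x5 + (1) * x6 := by omega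
  obtain rfl : x1 = 1 + (1) * x5 + (-1) * x6 := by omega
  obtain rfl : x4 = 0 + (-1) * x5 := by omega
  obtain rfl : x2 = 0 + (2) * x5 := by omega
  obtain rfl : x3 = 0 + (-1) * x5 + (-1) * x6 := by omega
  interval_cases x5 <;> interval_cases x6 <;> omega

theorem ext_5_1 {ι : Type*} [Fintype ι] [DecidableEq ι] (c0 c1 c2 c3 c4 c5 : ι → ℤ)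
    (hG0 : ∑ i, c0 i * c5 i = 1)
    (hG1 : ∑ i, c1 i * c5 i = -1)
    (hG2 : ∑ i, c2 i * c5 i = 0)
    (hG3 : ∑ i, c3 i * c5 i = 1)
    (hG4 : ∑ i, c4 i * c5 i = 0)
    (hG5 : ∑ i, c5 i * c5 i = 3)
    (hpos : ∀ i, c0 i = 0 → c1 i = 0 → c2 i = 0 → c3 i = 0 → c4 i = 0 → 0 ≤ c5 i)
    (h : St_5_1 c0 c1 c2 c3 c4) :
    St_6_2 c0 c1 c2 c3 c4 c5 ∨ St_6_3 c0 c1 c2 c3 c4 c5 := by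
  obtain ⟨i0, i1, i2, i3, i4, i5, i6, ⟨d_0_1, d_0_2, d_0_3, d_0_4, d_0_5, d_0_6, d_1_2, d_1_3, d_1_4, d_1_5, d_1_6, d_2_3, d_2_4, d_2_5, d_2_6, d_3_4, d_3_5, d_3_6, d_4_5, d_4_6, d_5_6⟩, ⟨v_0_0, v_0_1, v_0_2, v_0_3, v_0_4, v_1_0, v_1_1, v_1_2, v_1_3, v_1_4, v_2_0, v_2_1, v_2_2, v_2_3, v_2_4, v_3_0, v_3_1, v_3_2, v_3_3, v_3_4, v_4_0, v_4_1, v_4_2, v_4_3, v_4_4, v_5_0, v_5_1, v_5_2, v_5_3, v_5_4, v_6_0, v_6_1, v_6_2, v_6_3, v_6_4⟩, hz⟩ := h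
  have hnd : ([i0, i1, i2, i3, i4, i5, i6] : List ι).Nodup := by
    simp only [List.nodup_cons, List.mem_cons, List.not_mem_nil, or_false, not_or, List.nodup_nil, and_true, not_false_eq_true]
    exact ⟨⟨d_0_1, d_0_2, d_0_3, d_0_4, d_0_5, d_0_6⟩, ⟨d_1_2, d_1_3, d_1_4, d_1_5, d_1_6⟩, ⟨d_2_3, d_2_4, d_2_5, d_2_6⟩, ⟨d_3_4, d_3_5, d_3_6⟩, ⟨d_4_5, d_4_6⟩, d_5_6⟩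
  set S : Finset ι := Finset.univ \ ([i0, i1, i2, i3, i4, i5, i6] : List ι).toFinset with hS
  have hmem : ∀ i, i ∈ S ↔ (i ≠ i0 ∧ i ≠ i1 ∧ i ≠ i2 ∧ i ≠ i3 ∧ i ≠ i4 ∧ i ≠ i5 ∧ i ≠ i6) := by
    intro i
    simp only [hS, Finset.mem_sdiff, Finset.mem_univ, true_and, List.mem_toFinset, List.mem_cons, List.not_mem_nil, or_false, not_or, ne_eq]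
  have hz' : ∀ i ∈ S, (c0 i = 0 ∧ c1 i = 0 ∧ c2 i = 0 ∧ c3 i = 0 ∧ c4 i = 0) := by
    intro i hi
    obtain ⟨n0, n1, n2, n3, n4, n5, n6⟩ := (hmem i).1 hi
    exact hz i n0 n1 n2 n3 n4 n5 n6
  have e0 : (1 : ℤ) = (1) * c5 i0 + (1) * c5 i1 + (0) * c5 i2 + (0) * c5 i3 + (0) * c5 i4 + (0) * c5 i5 + (0) * c5 i6 := by
    have h1 := Cfsg.Agent.Lib.Helper76_ShapeLib.sum_split [i0, i1, i2, i3, i4, i5, i6] hnd (fun i => c0 i * c5 i)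
    have h2 : ∑ i ∈ S, c0 i * c5 i = 0 := Finset.sum_eq_zero fun i hi => by
      rw [(hz' i hi).1, zero_mul]
    rw [hG0, h2] at h1
    simp only [List.map_cons, List.map_nil, List.sum_cons, List.sum_nil, v_0_0, v_1_0, v_2_0, v_3_0, v_4_0, v_5_0, v_6_0] at h1
    linarith
  have e1 : (-1 : ℤ) = (0) * c5 i0 + (-1) * c5 i1 + (1) * c5 i2 + (1) * c5 i3 + (0) * c5 i4 + (0) * c5 i5 + (0) * c5 i6 := by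
    have h1 := Cfsg.Agent.Lib.Helper76_ShapeLib.sum_split [i0, i1, i2, i3, i4, i5, i6] hnd (fun i => c1 i * c5 i)
    have h2 : ∑ i ∈ S, c1 i * c5 i = 0 := Finset.sum_eq_zero fun i hi => by
      rw [(hz' i hi).2.1, zero_mul]
    rw [hG1, h2] at h1
    simp only [List.map_cons, List.map_nil, List.sum_cons, List.sum_nil, v_0_1, v_1_1, v_2_1, v_3_1, v_4_1, v_5_1, v_6_1] at h1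
    linarith
  have e2 : (0 : ℤ) = (0) * c5 i0 + (0) * c5 i1 + (0) * c5 i2 + (0) * c5 i3 + (1) * c5 i4 + (1) * c5 i5 + (0) * c5 i6 := by
    have h1 := Cfsg.Agent.Lib.Helper76_ShapeLib.sum_split [i0, i1, i2, i3, i4, i5, i6] hnd (fun i => c2 i * c5 i)
    have h2 : ∑ i ∈ S, c2 i * c5 i = 0 := Finset.sum_eq_zero fun i hi => by
      rw [(hz' i hi).2.2.1, zero_mul]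
    rw [hG2, h2] at h1
    simp only [List.map_cons, List.map_nil, List.sum_cons, List.sum_nil, v_0_2, v_1_2, v_2_2, v_3_2, v_4_2, v_5_2, v_6_2] at h1
    linarith
  have e3 : (1 : ℤ) = (0) * c5 i0 + (1) * c5 i1 + (0) * c5 i2 + (0) * c5 i3 + (0) * c5 i4 + (-1) * c5 i5 + (1) * c5 i6 := by
    have h1 := Cfsg.Agent.Lib.Helper76_ShapeLib.sum_split [i0, i1, i2, i3, i4, i5, i6] hnd (fun i => c3 i * c5 i)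
    have h2 : ∑ i ∈ S, c3 i * c5 i = 0 := Finset.sum_eq_zero fun i hi => by
      rw [(hz' i hi).2.2.2.1, zero_mul]
    rw [hG3, h2] at h1
    simp only [List.map_cons, List.map_nil, List.sum_cons, List.sum_nil, v_0_3, v_1_3, v_2_3, v_3_3, v_4_3, v_5_3, v_6_3] at h1
    linarith
  have e4 : (0 : ℤ) = (0) * c5 i0 + (0) * c5 i1 + (1) * c5 i2 + (0) * c5 i3 + (1) * c5 i4 + (-1) * c5 i5 + (0) * c5 i6 := by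
    have h1 := Cfsg.Agent.Lib.Helper76_ShapeLib.sum_split [i0, i1, i2, i3, i4, i5, i6] hnd (fun i => c4 i * c5 i)
    have h2 : ∑ i ∈ S, c4 i * c5 i = 0 := Finset.sum_eq_zero fun i hi => by
      rw [(hz' i hi).2.2.2.2, zero_mul]
    rw [hG4, h2] at h1
    simp only [List.map_cons, List.map_nil, List.sum_cons, List.sum_nil, v_0_4, v_1_4, v_2_4, v_3_4, v_4_4, v_5_4, v_6_4] at h1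
    linarith
  have en : (3 : ℤ) = c5 i0 * c5 i0 + c5 i1 * c5 i1 + c5 i2 * c5 i2 + c5 i3 * c5 i3 + c5 i4 * c5 i4 + c5 i5 * c5 i5 + c5 i6 * c5 i6 + ∑ i ∈ S, c5 i * c5 i := by
    have h1 := Cfsg.Agent.Lib.Helper76_ShapeLib.sum_split [i0, i1, i2, i3, i4, i5, i6] hnd (fun i => c5 i * c5 i)
    rw [hG5] at h1
    simp only [List.map_cons, List.map_nil, List.sum_cons, List.sum_nil] at h1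
    linarith
  have hr : 0 ≤ ∑ i ∈ S, c5 i * c5 i := Finset.sum_nonneg fun i _ => mul_self_nonneg _
  have hnn : ∀ i ∈ S, 0 ≤ c5 i := by
    intro i hi
    obtain ⟨z0, z1, z2, z3, z4⟩ := hz' i hi
    exact hpos i z0 z1 z2 z3 z4
  have hsol := ar_5_1 (c5 i0) (c5 i1) (c5 i2) (c5 i3) (c5 i4) (c5 i5) (c5 i6) _ e0 e1 e2 e3 e4 en hr
  rcases hsol with ⟨hx0, hx1, hx2, hx3, hx4, hx5, hx6, hrho⟩ | ⟨hx0, hx1, hx2, hx3, hx4, hx5, hx6, hrho⟩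
  · -- solution (0, 1, 0, 0, 0, 0, 0), rho = 2
    obtain ⟨a, haS, b, hbS, hab, hfa, hfb, hzr⟩ := Cfsg.Agent.Lib.Helper76_ShapeLib.rem2 S c5 hnn hrho
    obtain ⟨na0, na1, na2, na3, na4, na5, na6⟩ := (hmem a).1 haS
    obtain ⟨za0, za1, za2, za3, za4⟩ := hz' a haS
    obtain ⟨nb0, nb1, nb2, nb3, nb4, nb5, nb6⟩ := (hmem b).1 hbS
    obtain ⟨zb0, zb1, zb2, zb3, zb4⟩ := hz' b hbS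
    refine (Or.inl ⟨i0, i1, i2, i3, i4, i5, i6, a, b, ⟨d_0_1, d_0_2, d_0_3, d_0_4, d_0_5, d_0_6, na0.symm, nb0.symm, d_1_2, d_1_3, d_1_4, d_1_5, d_1_6, na1.symm, nb1.symm, d_2_3, d_2_4, d_2_5, d_2_6, na2.symm, nb2.symm, d_3_4, d_3_5, d_3_6, na3.symm, nb3.symm, d_4_5, d_4_6, na4.symm, nb4.symm, d_5_6, na5.symm, nb5.symm, na6.symm, nb6.symm, hab⟩, ⟨v_0_0, v_0_1, v_0_2, v_0_3, v_0_4, hx0, v_1_0, v_1_1, v_1_2, v_1_3, v_1_4, hx1, v_2_0, v_2_1, v_2_2, v_2_3, v_2_4, hx2, v_3_0, v_3_1, v_3_2, v_3_3, v_3_4, hx3, v_4_0, v_4_1, v_4_2, v_4_3, v_4_4, hx4, v_5_0, v_5_1, v_5_2, v_5_3, v_5_4, hx5, v_6_0, v_6_1, v_6_2, v_6_3, v_6_4, hx6, za0, za1, za2, za3, za4, hfa, zb0, zb1, zb2, zb3, zb4,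 hfb⟩, ?_⟩)
    intro i m0 m1 m2 m3 m4 m5 m6 m7 m8
    have hiS : i ∈ S := (hmem i).2 ⟨m0, m1, m2, m3, m4, m5, m6⟩
    obtain ⟨y0, y1, y2, y3, y4⟩ := hz' i hiS
    exact ⟨y0, y1, y2, y3, y4, (hzr i hiS m7 m8)⟩
  · -- solution (1, 0, 0, -1, 0, 0, 1), rho = 0
    have hzr := Cfsg.Agent.Lib.Helper76_ShapeLib.rem0 S c5 hrho
    refine (Or.inr ⟨i0, i1, i2, i3, i4, i5, i6, ⟨d_0_1, d_0_2, d_0_3, d_0_4, d_0_5, d_0_6, d_1_2, d_1_3, d_1_4, d_1_5, d_1_6, d_2_3, d_2_4, d_2_5, d_2_6, d_3_4, d_3_5, d_3_6, d_4_5, d_4_6, d_5_6⟩, ⟨v_0_0, v_0_1, v_0_2, v_0_3, v_0_4, hx0, v_1_0, v_1_1, v_1_2, v_1_3, v_1_4, hx1, v_2_0, v_2_1, v_2_2, v_2_3, v_2_4, hx2, v_3_0, v_3_1, v_3_2, v_3_3, v_3_4, hx3, v_4_0,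 v_4_1, v_4_2, v_4_3, v_4_4, hx4, v_5_0, v_5_1, v_5_2, v_5_3, v_5_4, hx5, v_6_0, v_6_1, v_6_2, v_6_3, v_6_4, hx6⟩, ?_⟩)
    intro i m0 m1 m2 m3 m4 m5 m6
    have hiS : i ∈ S := (hmem i).2 ⟨m0, m1, m2, m3, m4, m5, m6⟩
    obtain ⟨y0, y1, y2, y3, y4⟩ := hz' i hiS
    exact ⟨y0, y1, y2, y3, y4, (hzr i hiS)⟩

theorem ar_5_2 (x0 x1 x2 x3 x4 x5 r : ℤ) (e0 : (1 : ℤ) = (1) * x0 + (1) * x1 + (0) * x2 + (0) * x3 + (0) * x4 + (0) * x5) (e1 : (-1 : ℤ) = (0) * x0 + (-1) * x1 + (1) * x2 + (1) * x3 + (0) * x4 + (0) * x5) (e2 : (0 : ℤ) = (0) * x0 + (0) * x1 + (0) * x2 + (0) * x3 + (1) * x4 + (1) * x5) (e3 : (1 : ℤ) = (1) * x0 + (0) * x1 + (0) * x2 + (-1) * x3 + (0) * x4 + (-1) * x5) (e4 : (0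 : ℤ) = (0) * x0 + (0) * x1 + (1) * x2 + (0) * x3 + (1) * x4 + (-1) * x5) (en : (3 : ℤ) = x0 * x0 + x1 * x1 + x2 * x2 + x3 * x3 + x4 * x4 + x5 * x5 + r) (hr : 0 ≤ r) : False := by
  have hb3 : x3 * x3 ≤ 3 := by linarith [mul_self_nonneg x0, mul_self_nonneg x1, mul_self_nonneg x2, mul_self_nonneg x3, mul_self_nonneg x4, mul_self_nonneg x5]
  obtain ⟨hl3, hu3⟩ := Cfsg.Agent.Lib.Helper76_ShapeLib.bound1 x3 hb3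
  have hb5 : x5 * x5 ≤ 3 := by linarith [mul_self_nonneg x0, mul_self_nonneg x1, mul_self_nonneg x2, mul_self_nonneg x3, mul_self_nonneg x4, mul_self_nonneg x5]
  obtain ⟨hl5, hu5⟩ := Cfsg.Agent.Lib.Helper76_ShapeLib.bound1 x5 hb5
  obtain rfl : x0 = 1 + (1) * x3 + (1) * x5 := by omega
  obtain rfl : x1 = 0 + (-1) * x3 + (-1) * x5 := by omega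
  obtain rfl : x4 = 0 + (-1) * x5 := by omega
  obtain rfl : x2 = -1 + (-2) * x3 + (-1) * x5 := by omega
  interval_cases x3 <;> interval_cases x5 <;> omega

theorem ext_5_2 {ι : Type*} [Fintype ι] [DecidableEq ι] (c0 c1 c2 c3 c4 c5 : ι → ℤ)
    (hG0 : ∑ i, c0 i * c5 i = 1)
    (hG1 : ∑ i, c1 i * c5 i = -1)
    (hG2 : ∑ i, c2 i * c5 i = 0)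
    (hG3 : ∑ i, c3 i * c5 i = 1)
    (hG4 : ∑ i, c4 i * c5 i = 0)
    (hG5 : ∑ i, c5 i * c5 i = 3)
    (hpos : ∀ i, c0 i = 0 → c1 i = 0 → c2 i = 0 → c3 i = 0 → c4 i = 0 → 0 ≤ c5 i)
    (h : St_5_2 c0 c1 c2 c3 c4) :
    False := by
  obtain ⟨i0, i1, i2, i3, i4, i5, ⟨d_0_1, d_0_2, d_0_3, d_0_4, d_0_5, d_1_2, d_1_3, d_1_4, d_1_5, d_2_3, d_2_4, d_2_5, d_3_4, d_3_5, d_4_5⟩, ⟨v_0_0, v_0_1, v_0_2, v_0_3, v_0_4, v_1_0, v_1_1, v_1_2, v_1_3, v_1_4, v_2_0, v_2_1, v_2_2, v_2_3, v_2_4, v_3_0, v_3_1, v_3_2, v_3_3, v_3_4, v_4_0, v_4_1, v_4_2, v_4_3, v_4_4, v_5_0, v_5_1, v_5_2, v_5_3, v_5_4⟩, hz⟩ := h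
  have hnd : ([i0, i1, i2, i3, i4, i5] : List ι).Nodup := by
    simp only [List.nodup_cons, List.mem_cons, List.not_mem_nil, or_false, not_or, List.nodup_nil, and_true, not_false_eq_true]
    exact ⟨⟨d_0_1, d_0_2, d_0_3, d_0_4, d_0_5⟩, ⟨d_1_2, d_1_3, d_1_4, d_1_5⟩, ⟨d_2_3, d_2_4, d_2_5⟩, ⟨d_3_4, d_3_5⟩, d_4_5⟩
  set S : Finset ι := Finset.univ \ ([i0, i1, i2, i3, i4, i5] : List ι).toFinset with hS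
  have hmem : ∀ i, i ∈ S ↔ (i ≠ i0 ∧ i ≠ i1 ∧ i ≠ i2 ∧ i ≠ i3 ∧ i ≠ i4 ∧ i ≠ i5) := by
    intro i
    simp only [hS, Finset.mem_sdiff, Finset.mem_univ, true_and, List.mem_toFinset, List.mem_cons, List.not_mem_nil, or_false, not_or, ne_eq]
  have hz' : ∀ i ∈ S, (c0 i = 0 ∧ c1 i = 0 ∧ c2 i = 0 ∧ c3 i = 0 ∧ c4 i = 0) := by
    intro i hi
    obtain ⟨n0, n1, n2, n3, n4, n5⟩ := (hmem i).1 hi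
    exact hz i n0 n1 n2 n3 n4 n5
  have e0 : (1 : ℤ) = (1) * c5 i0 + (1) * c5 i1 + (0) * c5 i2 + (0) * c5 i3 + (0) * c5 i4 + (0) * c5 i5 := by
    have h1 := Cfsg.Agent.Lib.Helper76_ShapeLib.sum_split [i0, i1, i2, i3, i4, i5] hnd (fun i => c0 i * c5 i)
    have h2 : ∑ i ∈ S, c0 i * c5 i = 0 := Finset.sum_eq_zero fun i hi => by
      rw [(hz' i hi).1, zero_mul]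
    rw [hG0, h2] at h1
    simp only [List.map_cons, List.map_nil, List.sum_cons, List.sum_nil, v_0_0, v_1_0, v_2_0, v_3_0, v_4_0, v_5_0] at h1
    linarith
  have e1 : (-1 : ℤ) = (0) * c5 i0 + (-1) * c5 i1 + (1) * c5 i2 + (1) * c5 i3 + (0) * c5 i4 + (0) * c5 i5 := by
    have h1 := Cfsg.Agent.Lib.Helper76_ShapeLib.sum_split [i0, i1, i2, i3, i4, i5] hnd (fun i => c1 i * c5 i)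
    have h2 : ∑ i ∈ S, c1 i * c5 i = 0 := Finset.sum_eq_zero fun i hi => by
      rw [(hz' i hi).2.1, zero_mul]
    rw [hG1, h2] at h1
    simp only [List.map_cons, List.map_nil, List.sum_cons, List.sum_nil, v_0_1, v_1_1, v_2_1, v_3_1, v_4_1, v_5_1] at h1
    linarith
  have e2 : (0 : ℤ) = (0) * c5 i0 + (0) * c5 i1 + (0) * c5 i2 + (0) * c5 i3 + (1) * c5 i4 + (1) * c5 i5 := by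
    have h1 := Cfsg.Agent.Lib.Helper76_ShapeLib.sum_split [i0, i1, i2, i3, i4, i5] hnd (fun i => c2 i * c5 i)
    have h2 : ∑ i ∈ S, c2 i * c5 i = 0 := Finset.sum_eq_zero fun i hi => by
      rw [(hz' i hi).2.2.1, zero_mul]
    rw [hG2, h2] at h1
    simp only [List.map_cons, List.map_nil, List.sum_cons, List.sum_nil, v_0_2, v_1_2, v_2_2, v_3_2, v_4_2, v_5_2] at h1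
    linarith
  have e3 : (1 : ℤ) = (1) * c5 i0 + (0) * c5 i1 + (0) * c5 i2 + (-1) * c5 i3 + (0) * c5 i4 + (-1) * c5 i5 := by
    have h1 := Cfsg.Agent.Lib.Helper76_ShapeLib.sum_split [i0, i1, i2, i3, i4, i5] hnd (fun i => c3 i * c5 i)
    have h2 : ∑ i ∈ S, c3 i * c5 i = 0 := Finset.sum_eq_zero fun i hi => by
      rw [(hz' i hi).2.2.2.1, zero_mul]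
    rw [hG3, h2] at h1
    simp only [List.map_cons, List.map_nil, List.sum_cons, List.sum_nil, v_0_3, v_1_3, v_2_3, v_3_3, v_4_3, v_5_3] at h1
    linarith
  have e4 : (0 : ℤ) = (0) * c5 i0 + (0) * c5 i1 + (1) * c5 i2 + (0) * c5 i3 + (1) * c5 i4 + (-1) * c5 i5 := by
    have h1 := Cfsg.Agent.Lib.Helper76_ShapeLib.sum_split [i0, i1, i2, i3, i4, i5] hnd (fun i => c4 i * c5 i)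
    have h2 : ∑ i ∈ S, c4 i * c5 i = 0 := Finset.sum_eq_zero fun i hi => by
      rw [(hz' i hi).2.2.2.2, zero_mul]
    rw [hG4, h2] at h1
    simp only [List.map_cons, List.map_nil, List.sum_cons, List.sum_nil, v_0_4, v_1_4, v_2_4, v_3_4, v_4_4, v_5_4] at h1
    linarith
  have en : (3 : ℤ) = c5 i0 * c5 i0 + c5 i1 * c5 i1 + c5 i2 * c5 i2 + c5 i3 * c5 i3 + c5 i4 * c5 i4 + c5 i5 * c5 i5 + ∑ i ∈ S, c5 i * c5 i := by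
    have h1 := Cfsg.Agent.Lib.Helper76_ShapeLib.sum_split [i0, i1, i2, i3, i4, i5] hnd (fun i => c5 i * c5 i)
    rw [hG5] at h1
    simp only [List.map_cons, List.map_nil, List.sum_cons, List.sum_nil] at h1
    linarith
  have hr : 0 ≤ ∑ i ∈ S, c5 i * c5 i := Finset.sum_nonneg fun i _ => mul_self_nonneg _
  have hnn : ∀ i ∈ S, 0 ≤ c5 i := by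
    intro i hi
    obtain ⟨z0, z1, z2, z3, z4⟩ := hz' i hi
    exact hpos i z0 z1 z2 z3 z4
  have hsol := ar_5_2 (c5 i0) (c5 i1) (c5 i2) (c5 i3) (c5 i4) (c5 i5) _ e0 e1 e2 e3 e4 en hr
  exact hsol

theorem ar_5_3 (x0 x1 x2 x3 x4 x5 x6 r : ℤ) (e0 : (1 : ℤ) = (1) * x0 + (1) * x1 + (0) * x2 + (0) * x3 + (0) * x4 + (0) * x5 + (0) * x6) (e1 : (-1 : ℤ) = (0) * x0 + (-1) * x1 + (1) * x2 + (1) * x3 + (0) * x4 + (0) * x5 + (0) * x6) (e2 : (0 : ℤ) = (0) * x0 + (0) * x1 + (0) * x2 + (0) * x3 + (1) * x4 + (1) * x5 + (0) * x6) (e3 : (1 : ℤ) = (1) * x0 + (0) * x1 + (0) * x2 + (-1) * x3 + (0) * x4 + (-1) * x5 + (0) * x6) (e4 : (0 : ℤ) = (1) * x0 + (-1) * x1 + (0) * x2 + (0) * x3 + (0) * x4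 + (0) * x5 + (1) * x6) (en : (3 : ℤ) = x0 * x0 + x1 * x1 + x2 * x2 + x3 * x3 + x4 * x4 + x5 * x5 + x6 * x6 + r) (hr : 0 ≤ r) : (x0 = 1 ∧ x1 = 0 ∧ x2 = -1 ∧ x3 = 0 ∧ x4 = 0 ∧ x5 = 0 ∧ x6 = -1 ∧ r = 0) := by
  have hb3 : x3 * x3 ≤ 3 := by linarith [mul_self_nonneg x0, mul_self_nonneg x1, mul_self_nonneg x2, mul_self_nonneg x3, mul_self_nonneg x4, mul_self_nonneg x5, mul_self_nonneg x6]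
  obtain ⟨hl3, hu3⟩ := Cfsg.Agent.Lib.Helper76_ShapeLib.bound1 x3 hb3
  have hb5 : x5 * x5 ≤ 3 := by linarith [mul_self_nonneg x0, mul_self_nonneg x1, mul_self_nonneg x2, mul_self_nonneg x3, mul_self_nonneg x4, mul_self_nonneg x5, mul_self_nonneg x6]
  obtain ⟨hl5, hu5⟩ := Cfsg.Agent.Lib.Helper76_ShapeLib.bound1 x5 hb5
  obtain rfl : x0 = 1 + (1) * x3 + (1) * x5 := by omega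
  obtain rfl : x1 = 0 + (-1) * x3 + (-1) * x5 := by omega
  obtain rfl : x4 = 0 + (-1) * x5 := by omega
  obtain rfl : x2 = -1 + (-2) * x3 + (-1) * x5 := by omega
  obtain rfl : x6 = -1 + (-2) * x3 + (-2) * x5 := by omega
  interval_cases x3 <;> interval_cases x5 <;> omega

theorem ext_5_3 {ι : Type*} [Fintype ι] [DecidableEq ι] (c0 c1 c2 c3 c4 c5 : ι → ℤ)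
    (hG0 : ∑ i, c0 i * c5 i = 1)
    (hG1 : ∑ i, c1 i * c5 i = -1)
    (hG2 : ∑ i, c2 i * c5 i = 0)
    (hG3 : ∑ i, c3 i * c5 i = 1)
    (hG4 : ∑ i, c4 i * c5 i = 0)
    (hG5 : ∑ i, c5 i * c5 i = 3)
    (hpos : ∀ i, c0 i = 0 → c1 i = 0 → c2 i = 0 → c3 i = 0 → c4 i = 0 → 0 ≤ c5 i)
    (h : St_5_3 c0 c1 c2 c3 c4) :
    St_6_4 c0 c1 c2 c3 c4 c5 := by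
  obtain ⟨i0, i1, i2, i3, i4, i5, i6, ⟨d_0_1, d_0_2, d_0_3, d_0_4, d_0_5, d_0_6, d_1_2, d_1_3, d_1_4, d_1_5, d_1_6, d_2_3, d_2_4, d_2_5, d_2_6, d_3_4, d_3_5, d_3_6, d_4_5, d_4_6, d_5_6⟩, ⟨v_0_0, v_0_1, v_0_2, v_0_3, v_0_4, v_1_0, v_1_1, v_1_2, v_1_3, v_1_4, v_2_0, v_2_1, v_2_2, v_2_3, v_2_4, v_3_0, v_3_1, v_3_2, v_3_3, v_3_4, v_4_0, v_4_1, v_4_2, v_4_3, v_4_4, v_5_0, v_5_1, v_5_2, v_5_3, v_5_4, v_6_0, v_6_1, v_6_2, v_6_3, v_6_4⟩, hz⟩ := h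
  have hnd : ([i0, i1, i2, i3, i4, i5, i6] : List ι).Nodup := by
    simp only [List.nodup_cons, List.mem_cons, List.not_mem_nil, or_false, not_or, List.nodup_nil, and_true, not_false_eq_true]
    exact ⟨⟨d_0_1, d_0_2, d_0_3, d_0_4, d_0_5, d_0_6⟩, ⟨d_1_2, d_1_3, d_1_4, d_1_5, d_1_6⟩, ⟨d_2_3, d_2_4, d_2_5, d_2_6⟩, ⟨d_3_4, d_3_5, d_3_6⟩, ⟨d_4_5, d_4_6⟩, d_5_6⟩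
  set S : Finset ι := Finset.univ \ ([i0, i1, i2, i3, i4, i5, i6] : List ι).toFinset with hS
  have hmem : ∀ i, i ∈ S ↔ (i ≠ i0 ∧ i ≠ i1 ∧ i ≠ i2 ∧ i ≠ i3 ∧ i ≠ i4 ∧ i ≠ i5 ∧ i ≠ i6) := by
    intro i
    simp only [hS, Finset.mem_sdiff, Finset.mem_univ, true_and, List.mem_toFinset, List.mem_cons, List.not_mem_nil, or_false, not_or, ne_eq]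
  have hz' : ∀ i ∈ S, (c0 i = 0 ∧ c1 i = 0 ∧ c2 i = 0 ∧ c3 i = 0 ∧ c4 i = 0) := by
    intro i hi
    obtain ⟨n0, n1, n2, n3, n4, n5, n6⟩ := (hmem i).1 hi
    exact hz i n0 n1 n2 n3 n4 n5 n6
  have e0 : (1 : ℤ) = (1) * c5 i0 + (1) * c5 i1 + (0) * c5 i2 + (0) * c5 i3 + (0) * c5 i4 + (0) * c5 i5 + (0) * c5 i6 := by
    have h1 := Cfsg.Agent.Lib.Helper76_ShapeLib.sum_split [i0, i1, i2, i3, i4, i5, i6] hnd (fun i => c0 i * c5 i)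
    have h2 : ∑ i ∈ S, c0 i * c5 i = 0 := Finset.sum_eq_zero fun i hi => by
      rw [(hz' i hi).1, zero_mul]
    rw [hG0, h2] at h1
    simp only [List.map_cons, List.map_nil, List.sum_cons, List.sum_nil, v_0_0, v_1_0, v_2_0, v_3_0, v_4_0, v_5_0, v_6_0] at h1
    linarith
  have e1 : (-1 : ℤ) = (0) * c5 i0 + (-1) * c5 i1 + (1) * c5 i2 + (1) * c5 i3 + (0) * c5 i4 + (0) * c5 i5 + (0) * c5 i6 := by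
    have h1 := Cfsg.Agent.Lib.Helper76_ShapeLib.sum_split [i0, i1, i2, i3, i4, i5, i6] hnd (fun i => c1 i * c5 i)
    have h2 : ∑ i ∈ S, c1 i * c5 i = 0 := Finset.sum_eq_zero fun i hi => by
      rw [(hz' i hi).2.1, zero_mul]
    rw [hG1, h2] at h1
    simp only [List.map_cons, List.map_nil, List.sum_cons, List.sum_nil, v_0_1, v_1_1, v_2_1, v_3_1, v_4_1, v_5_1, v_6_1] at h1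
    linarith
  have e2 : (0 : ℤ) = (0) * c5 i0 + (0) * c5 i1 + (0) * c5 i2 + (0) * c5 i3 + (1) * c5 i4 + (1) * c5 i5 + (0) * c5 i6 := by
    have h1 := Cfsg.Agent.Lib.Helper76_ShapeLib.sum_split [i0, i1, i2, i3, i4, i5, i6] hnd (fun i => c2 i * c5 i)
    have h2 : ∑ i ∈ S, c2 i * c5 i = 0 := Finset.sum_eq_zero fun i hi => by
      rw [(hz' i hi).2.2.1, zero_mul]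
    rw [hG2, h2] at h1
    simp only [List.map_cons, List.map_nil, List.sum_cons, List.sum_nil, v_0_2, v_1_2, v_2_2, v_3_2, v_4_2, v_5_2, v_6_2] at h1
    linarith
  have e3 : (1 : ℤ) = (1) * c5 i0 + (0) * c5 i1 + (0) * c5 i2 + (-1) * c5 i3 + (0) * c5 i4 + (-1) * c5 i5 + (0) * c5 i6 := by
    have h1 := Cfsg.Agent.Lib.Helper76_ShapeLib.sum_split [i0, i1, i2, i3, i4, i5, i6] hnd (fun i => c3 i * c5 i)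
    have h2 : ∑ i ∈ S, c3 i * c5 i = 0 := Finset.sum_eq_zero fun i hi => by
      rw [(hz' i hi).2.2.2.1, zero_mul]
    rw [hG3, h2] at h1
    simp only [List.map_cons, List.map_nil, List.sum_cons, List.sum_nil, v_0_3, v_1_3, v_2_3, v_3_3, v_4_3, v_5_3, v_6_3] at h1
    linarith
  have e4 : (0 : ℤ) = (1) * c5 i0 + (-1) * c5 i1 + (0) * c5 i2 + (0) * c5 i3 + (0) * c5 i4 + (0) * c5 i5 + (1) * c5 i6 := by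
    have h1 := Cfsg.Agent.Lib.Helper76_ShapeLib.sum_split [i0, i1, i2, i3, i4, i5, i6] hnd (fun i => c4 i * c5 i)
    have h2 : ∑ i ∈ S, c4 i * c5 i = 0 := Finset.sum_eq_zero fun i hi => by
      rw [(hz' i hi).2.2.2.2, zero_mul]
    rw [hG4, h2] at h1
    simp only [List.map_cons, List.map_nil, List.sum_cons, List.sum_nil, v_0_4, v_1_4, v_2_4, v_3_4, v_4_4, v_5_4, v_6_4] at h1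
    linarith
  have en : (3 : ℤ) = c5 i0 * c5 i0 + c5 i1 * c5 i1 + c5 i2 * c5 i2 + c5 i3 * c5 i3 + c5 i4 * c5 i4 + c5 i5 * c5 i5 + c5 i6 * c5 i6 + ∑ i ∈ S, c5 i * c5 i := by
    have h1 := Cfsg.Agent.Lib.Helper76_ShapeLib.sum_split [i0, i1, i2, i3, i4, i5, i6] hnd (fun i => c5 i * c5 i)
    rw [hG5] at h1
    simp only [List.map_cons, List.map_nil, List.sum_cons, List.sum_nil] at h1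
    linarith
  have hr : 0 ≤ ∑ i ∈ S, c5 i * c5 i := Finset.sum_nonneg fun i _ => mul_self_nonneg _
  have hnn : ∀ i ∈ S, 0 ≤ c5 i := by
    intro i hi
    obtain ⟨z0, z1, z2, z3, z4⟩ := hz' i hi
    exact hpos i z0 z1 z2 z3 z4
  have hsol := ar_5_3 (c5 i0) (c5 i1) (c5 i2) (c5 i3) (c5 i4) (c5 i5) (c5 i6) _ e0 e1 e2 e3 e4 en hr
  rcases hsol with ⟨hx0, hx1, hx2, hx3, hx4, hx5, hx6, hrho⟩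
  · -- solution (1, 0, -1, 0, 0, 0, -1), rho = 0
    have hzr := Cfsg.Agent.Lib.Helper76_ShapeLib.rem0 S c5 hrho
    refine ⟨i0, i1, i2, i3, i4, i5, i6, ⟨d_0_1, d_0_2, d_0_3, d_0_4, d_0_5, d_0_6, d_1_2, d_1_3, d_1_4, d_1_5, d_1_6, d_2_3, d_2_4, d_2_5, d_2_6, d_3_4, d_3_5, d_3_6, d_4_5, d_4_6, d_5_6⟩, ⟨v_0_0, v_0_1, v_0_2, v_0_3, v_0_4, hx0, v_1_0, v_1_1, v_1_2, v_1_3, v_1_4, hx1, v_2_0, v_2_1, v_2_2, v_2_3, v_2_4, hx2, v_3_0, v_3_1, v_3_2, v_3_3, v_3_4, hx3, v_4_0, v_4_1, v_4_2, v_4_3, v_4_4, hx4, v_5_0, v_5_1, v_5_2, v_5_3, v_5_4, hx5, v_6_0, v_6_1, v_6_2, v_6_3, v_6_4, hx6⟩, ?_⟩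
    intro i m0 m1 m2 m3 m4 m5 m6
    have hiS : i ∈ S := (hmem i).2 ⟨m0, m1, m2, m3, m4, m5, m6⟩
    obtain ⟨y0, y1, y2, y3, y4⟩ := hz' i hiS
    exact ⟨y0, y1, y2, y3, y4, (hzr i hiS)⟩

theorem ar_5_4 (x0 x1 x2 x3 x4 x5 r : ℤ) (e0 : (1 : ℤ) = (1) * x0 + (1) * x1 + (0) * x2 + (0) * x3 + (0) * x4 + (0) * x5) (e1 : (-1 : ℤ) = (0) * x0 + (-1) * x1 + (1) * x2 + (1) * x3 + (0) * x4 + (0) * x5) (e2 : (0 : ℤ) = (0) * x0 + (0) * x1 + (1) * x2 + (-1) * x3 + (0) * x4 + (0) * x5) (e3 : (1 : ℤ) = (1) * x0 + (0) * x1 + (-1) * x2 + (0) * x3 + (1) * x4 + (0) * x5) (e4 : (0 : ℤ) = (1) * x0 + (-1) * x1 + (0) * x2 + (0) * x3 + (0) * x4 + (1) * x5) (en : (3 : ℤ) = x0 * x0 + x1 * x1 + x2 * x2 +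 x3 * x3 + x4 * x4 + x5 * x5 + r) (hr : 0 ≤ r) : (x0 = 0 ∧ x1 = 1 ∧ x2 = 0 ∧ x3 = 0 ∧ x4 = 1 ∧ x5 = 1 ∧ r = 0) := by
  have hb3 : x3 * x3 ≤ 3 := by linarith [mul_self_nonneg x0, mul_self_nonneg x1, mul_self_nonneg x2, mul_self_nonneg x3, mul_self_nonneg x4, mul_self_nonneg x5]
  obtain ⟨hl3, hu3⟩ := Cfsg.Agent.Lib.Helper76_ShapeLib.bound1 x3 hb3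
  obtain rfl : x0 = 0 + (-2) * x3 := by omega
  obtain rfl : x1 = 1 + (2) * x3 := by omega
  obtain rfl : x2 = 0 + (1) * x3 := by omega
  obtain rfl : x4 = 1 + (3) * x3 := by omega
  obtain rfl : x5 = 1 + (4) * x3 := by omega
  interval_cases x3 <;> omega

theorem ext_5_4 {ι : Type*} [Fintype ι] [DecidableEq ι] (c0 c1 c2 c3 c4 c5 : ι → ℤ)
    (hG0 : ∑ i, c0 i * c5 i = 1)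
    (hG1 : ∑ i, c1 i * c5 i = -1)
    (hG2 : ∑ i, c2 i * c5 i = 0)
    (hG3 : ∑ i, c3 i * c5 i = 1)
    (hG4 : ∑ i, c4 i * c5 i = 0)
    (hG5 : ∑ i, c5 i * c5 i = 3)
    (hpos : ∀ i, c0 i = 0 → c1 i = 0 → c2 i = 0 → c3 i = 0 → c4 i = 0 → 0 ≤ c5 i)
    (h : St_5_4 c0 c1 c2 c3 c4) :
    St_6_5 c0 c1 c2 c3 c4 c5 := by
  obtain ⟨i0, i1, i2, i3, i4, i5, ⟨d_0_1, d_0_2, d_0_3, d_0_4, d_0_5, d_1_2, d_1_3, d_1_4, d_1_5, d_2_3, d_2_4, d_2_5, d_3_4, d_3_5, d_4_5⟩, ⟨v_0_0, v_0_1, v_0_2, v_0_3, v_0_4, v_1_0, v_1_1, v_1_2, v_1_3, v_1_4, v_2_0, v_2_1, v_2_2, v_2_3, v_2_4, v_3_0, v_3_1, v_3_2, v_3_3, v_3_4, v_4_0, v_4_1, v_4_2, v_4_3, v_4_4, v_5_0, v_5_1, v_5_2, v_5_3, v_5_4⟩, hz⟩ := h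
  have hnd : ([i0, i1, i2, i3, i4, i5] : List ι).Nodup := by
    simp only [List.nodup_cons, List.mem_cons, List.not_mem_nil, or_false, not_or, List.nodup_nil, and_true, not_false_eq_true]
    exact ⟨⟨d_0_1, d_0_2, d_0_3, d_0_4, d_0_5⟩, ⟨d_1_2, d_1_3, d_1_4, d_1_5⟩, ⟨d_2_3, d_2_4, d_2_5⟩, ⟨d_3_4, d_3_5⟩, d_4_5⟩
  set S : Finset ι := Finset.univ \ ([i0, i1, i2, i3, i4, i5] : List ι).toFinset with hS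
  have hmem : ∀ i, i ∈ S ↔ (i ≠ i0 ∧ i ≠ i1 ∧ i ≠ i2 ∧ i ≠ i3 ∧ i ≠ i4 ∧ i ≠ i5) := by
    intro i
    simp only [hS, Finset.mem_sdiff, Finset.mem_univ, true_and, List.mem_toFinset, List.mem_cons, List.not_mem_nil, or_false, not_or, ne_eq]
  have hz' : ∀ i ∈ S, (c0 i = 0 ∧ c1 i = 0 ∧ c2 i = 0 ∧ c3 i = 0 ∧ c4 i = 0) := by
    intro i hi
    obtain ⟨n0, n1, n2, n3, n4, n5⟩ := (hmem i).1 hi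
    exact hz i n0 n1 n2 n3 n4 n5
  have e0 : (1 : ℤ) = (1) * c5 i0 + (1) * c5 i1 + (0) * c5 i2 + (0) * c5 i3 + (0) * c5 i4 + (0) * c5 i5 := by
    have h1 := Cfsg.Agent.Lib.Helper76_ShapeLib.sum_split [i0, i1, i2, i3, i4, i5] hnd (fun i => c0 i * c5 i)
    have h2 : ∑ i ∈ S, c0 i * c5 i = 0 := Finset.sum_eq_zero fun i hi => by
      rw [(hz' i hi).1, zero_mul]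
    rw [hG0, h2] at h1
    simp only [List.map_cons, List.map_nil, List.sum_cons, List.sum_nil, v_0_0, v_1_0, v_2_0, v_3_0, v_4_0, v_5_0] at h1
    linarith
  have e1 : (-1 : ℤ) = (0) * c5 i0 + (-1) * c5 i1 + (1) * c5 i2 + (1) * c5 i3 + (0) * c5 i4 + (0) * c5 i5 := by
    have h1 := Cfsg.Agent.Lib.Helper76_ShapeLib.sum_split [i0, i1, i2, i3, i4, i5] hnd (fun i => c1 i * c5 i)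
    have h2 : ∑ i ∈ S, c1 i * c5 i = 0 := Finset.sum_eq_zero fun i hi => by
      rw [(hz' i hi).2.1, zero_mul]
    rw [hG1, h2] at h1
    simp only [List.map_cons, List.map_nil, List.sum_cons, List.sum_nil, v_0_1, v_1_1, v_2_1, v_3_1, v_4_1, v_5_1] at h1
    linarith
  have e2 : (0 : ℤ) = (0) * c5 i0 + (0) * c5 i1 + (1) * c5 i2 + (-1) * c5 i3 + (0) * c5 i4 + (0) * c5 i5 := by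
    have h1 := Cfsg.Agent.Lib.Helper76_ShapeLib.sum_split [i0, i1, i2, i3, i4, i5] hnd (fun i => c2 i * c5 i)
    have h2 : ∑ i ∈ S, c2 i * c5 i = 0 := Finset.sum_eq_zero fun i hi => by
      rw [(hz' i hi).2.2.1, zero_mul]
    rw [hG2, h2] at h1
    simp only [List.map_cons, List.map_nil, List.sum_cons, List.sum_nil, v_0_2, v_1_2, v_2_2, v_3_2, v_4_2, v_5_2] at h1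
    linarith
  have e3 : (1 : ℤ) = (1) * c5 i0 + (0) * c5 i1 + (-1) * c5 i2 + (0) * c5 i3 + (1) * c5 i4 + (0) * c5 i5 := by
    have h1 := Cfsg.Agent.Lib.Helper76_ShapeLib.sum_split [i0, i1, i2, i3, i4, i5] hnd (fun i => c3 i * c5 i)
    have h2 : ∑ i ∈ S, c3 i * c5 i = 0 := Finset.sum_eq_zero fun i hi => by
      rw [(hz' i hi).2.2.2.1, zero_mul]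
    rw [hG3, h2] at h1
    simp only [List.map_cons, List.map_nil, List.sum_cons, List.sum_nil, v_0_3, v_1_3, v_2_3, v_3_3, v_4_3, v_5_3] at h1
    linarith
  have e4 : (0 : ℤ) = (1) * c5 i0 + (-1) * c5 i1 + (0) * c5 i2 + (0) * c5 i3 + (0) * c5 i4 + (1) * c5 i5 := by
    have h1 := Cfsg.Agent.Lib.Helper76_ShapeLib.sum_split [i0, i1, i2, i3, i4, i5] hnd (fun i => c4 i * c5 i)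
    have h2 : ∑ i ∈ S, c4 i * c5 i = 0 := Finset.sum_eq_zero fun i hi => by
      rw [(hz' i hi).2.2.2.2, zero_mul]
    rw [hG4, h2] at h1
    simp only [List.map_cons, List.map_nil, List.sum_cons, List.sum_nil, v_0_4, v_1_4, v_2_4, v_3_4, v_4_4, v_5_4] at h1
    linarith
  have en : (3 : ℤ) = c5 i0 * c5 i0 + c5 i1 * c5 i1 + c5 i2 * c5 i2 + c5 i3 * c5 i3 + c5 i4 * c5 i4 + c5 i5 * c5 i5 + ∑ i ∈ S, c5 i * c5 i := by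
    have h1 := Cfsg.Agent.Lib.Helper76_ShapeLib.sum_split [i0, i1, i2, i3, i4, i5] hnd (fun i => c5 i * c5 i)
    rw [hG5] at h1
    simp only [List.map_cons, List.map_nil, List.sum_cons, List.sum_nil] at h1
    linarith
  have hr : 0 ≤ ∑ i ∈ S, c5 i * c5 i := Finset.sum_nonneg fun i _ => mul_self_nonneg _
  have hnn : ∀ i ∈ S, 0 ≤ c5 i := by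
    intro i hi
    obtain ⟨z0, z1, z2, z3, z4⟩ := hz' i hi
    exact hpos i z0 z1 z2 z3 z4
  have hsol := ar_5_4 (c5 i0) (c5 i1) (c5 i2) (c5 i3) (c5 i4) (c5 i5) _ e0 e1 e2 e3 e4 en hr
  rcases hsol with ⟨hx0, hx1, hx2, hx3, hx4, hx5, hrho⟩
  · -- solution (0, 1, 0, 0, 1, 1), rho = 0
    have hzr := Cfsg.Agent.Lib.Helper76_ShapeLib.rem0 S c5 hrho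
    refine ⟨i0, i1, i2, i3, i4, i5, ⟨d_0_1, d_0_2, d_0_3, d_0_4, d_0_5, d_1_2, d_1_3, d_1_4, d_1_5, d_2_3, d_2_4, d_2_5, d_3_4, d_3_5, d_4_5⟩, ⟨v_0_0, v_0_1, v_0_2, v_0_3, v_0_4, hx0, v_1_0, v_1_1, v_1_2, v_1_3, v_1_4, hx1, v_2_0, v_2_1, v_2_2, v_2_3, v_2_4, hx2, v_3_0, v_3_1, v_3_2, v_3_3, v_3_4, hx3, v_4_0, v_4_1, v_4_2, v_4_3, v_4_4, hx4, v_5_0, v_5_1, v_5_2, v_5_3, v_5_4, hx5⟩, ?_⟩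
    intro i m0 m1 m2 m3 m4 m5
    have hiS : i ∈ S := (hmem i).2 ⟨m0, m1, m2, m3, m4, m5⟩
    obtain ⟨y0, y1, y2, y3, y4⟩ := hz' i hiS
    exact ⟨y0, y1, y2, y3, y4, (hzr i hiS)⟩

end Cfsg.Agent.Lib.Helper76_H648ShapeA
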