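import Mathlib
import Cfsg.Agent.Lib.Helper76_ShapeLib
import Cfsg.Agent.Lib.Helper76_H648ShapeA

/-!
# S3702: column-by-column decomposition of the Gram matrix `Gm - r0 r0ᵀ` (helper76; MACHINE-GENERATED)

`St_k_s c0 … c(k-1)`: the first `k` columns realise the partial shape number `s` of level `k` (explicit rows at
pairwise distinct named indices, zero elsewhere).  `ar_k_s`: the integer solutions of the linear and norm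
constraints for the next column.  `ext_k_s`: the possible extensions of a partial shape by the next column.
-/

set_option autoImplicit false
set_option maxHeartbeats 1000000
set_option linter.unusedVariables false
set_option linter.unusedSimpArgs false

namespace Cfsg.Agent.Lib.Helper76_H648ShapeB

open Cfsg.Agent.Lib.Helper76_H648ShapeA

theorem ar_6_0 (x0 x1 x2 x3 x4 x5 x6 x7 x8 x9 r : ℤ) (e0 : (0 : ℤ) = (1) * x0 + (1) * x1 + (0) * x2 + (0) * x3 + (0) * x4 + (0) * x5 + (0) * x6 + (0) * x7 + (0) * x8 + (0) * x9) (e1 : (1 : ℤ) = (0) * x0 + (-1) * x1 + (1) * x2 + (1) * x3 + (0) * x4 + (0) * x5 + (0) * x6 + (0) * x7 + (0) * x8 + (0) * x9) (e2 : (1 : ℤ) = (0) * x0 + (0) * x1 + (0) * x2 + (0) * x3 + (1) * x4 + (1) * x5 + (0) * x6 + (0) * x7 + (0) * x8 + (0) * x9) (e3 : (-1 : ℤ) = (0) * x0 + (1)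 * x1 + (0) * x2 + (0) * x3 + (0) * x4 + (-1) * x5 + (1) * x6 + (0) * x7 + (0) * x8 + (0) * x9) (e4 : (1 : ℤ) = (0) * x0 + (0) * x1 + (1) * x2 + (0) * x3 + (0) * x4 + (0) * x5 + (1) * x6 + (1) * x7 + (0) * x8 + (0) * x9) (e5 : (1 : ℤ) = (0) * x0 + (1) * x1 + (0) * x2 + (0) * x3 + (0) * x4 + (0) * x5 + (0) * x6 + (0) * x7 + (1) * x8 + (1) * x9) (en : (4 : ℤ) = x0 * x0 + x1 * x1 + x2 * x2 + x3 * x3 + x4 * x4 + x5 * x5 + x6 * x6 + x7 * x7 + x8 * x8 + x9 * x9 + r) (hr : 0 ≤ r) : (x0 = 0 ∧ x1 = 0 ∧ x2 = 0 ∧ x3 = 1 ∧ x4 = 0 ∧ x5 = 1 ∧ x6 = 0 ∧ x7 = 1 ∧ x8 = 0 ∧ x9 = 1 ∧ r = 0) ∨ (x0 = 0 ∧ x1 = 0 ∧ x2 = 0 ∧ x3 = 1 ∧ x4 = 0 ∧ x5 = 1 ∧ x6 = 0 ∧ x7 = 1 ∧ x8 = 1 ∧ x9 = 0 ∧ r = 0) ∨ (x0 = 0 ∧ x1 = 0 ∧ x2 = 1 ∧ x3 = 0 ∧ x4 = 0 ∧ x5 = 1 ∧ x6 = 0 ∧ x7 = 0 ∧ x8 = 0 ∧ x9 = 1 ∧ r = 1) ∨ (x0 = 0 ∧ x1 = 0 ∧ x2 =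 1 ∧ x3 = 0 ∧ x4 = 0 ∧ x5 = 1 ∧ x6 = 0 ∧ x7 = 0 ∧ x8 = 1 ∧ x9 = 0 ∧ r = 1) := by
  have hb6 : x6 * x6 ≤ 4 := by linarith [mul_self_nonneg x0, mul_self_nonneg x1, mul_self_nonneg x2, mul_self_nonneg x3, mul_self_nonneg x4, mul_self_nonneg x5, mul_self_nonneg x6, mul_self_nonneg x7, mul_self_nonneg x8, mul_self_nonneg x9]
  obtain ⟨hl6, hu6⟩ := Cfsg.Agent.Lib.Helper76_ShapeLib.bound2 x6 hb6
  have hb7 : x7 * x7 ≤ 4 := by linarith [mul_self_nonneg x0, mul_self_nonneg x1, mul_self_nonneg x2, mul_self_nonneg x3, mul_self_nonneg x4, mul_self_nonneg x5, mul_self_nonneg x6, mul_self_nonneg x7, mul_self_nonneg x8, mul_self_nonneg x9]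
  obtain ⟨hl7, hu7⟩ := Cfsg.Agent.Lib.Helper76_ShapeLib.bound2 x7 hb7
  have hb8 : x8 * x8 ≤ 4 := by linarith [mul_self_nonneg x0, mul_self_nonneg x1, mul_self_nonneg x2, mul_self_nonneg x3, mul_self_nonneg x4, mul_self_nonneg x5, mul_self_nonneg x6, mul_self_nonneg x7, mul_self_nonneg x8, mul_self_nonneg x9]
  obtain ⟨hl8, hu8⟩ := Cfsg.Agent.Lib.Helper76_ShapeLib.bound2 x8 hb8
  have hb9 : x9 * x9 ≤ 4 := by linarith [mul_self_nonneg x0, mul_self_nonneg x1, mul_self_nonneg x2, mul_self_nonneg x3, mul_self_nonneg x4, mul_self_nonneg x5, mul_self_nonneg x6, mul_self_nonneg x7, mul_self_nonneg x8, mul_self_nonneg x9]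
  obtain ⟨hl9, hu9⟩ := Cfsg.Agent.Lib.Helper76_ShapeLib.bound2 x9 hb9
  obtain rfl : x0 = -1 + (1) * x8 + (1) * x9 := by omega
  obtain rfl : x1 = 1 + (-1) * x8 + (-1) * x9 := by omega
  obtain rfl : x4 = -1 + (-1) * x6 + (1) * x8 + (1) * x9 := by omega
  obtain rfl : x2 = 1 + (-1) * x6 + (-1) * x7 := by omega
  obtain rfl : x3 = 1 + (1) * x6 + (1) * x7 + (-1) * x8 + (-1) * x9 := by omega
  obtain rfl : x5 = 2 + (1) * x6 + (-1) * x8 + (-1) * x9 := by omega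
  interval_cases x6 <;> interval_cases x7 <;> interval_cases x8 <;> interval_cases x9 <;> omega

theorem ext_6_0 {ι : Type*} [Fintype ι] [DecidableEq ι] (c0 c1 c2 c3 c4 c5 c6 : ι → ℤ)
    (hG0 : ∑ i, c0 i * c6 i = 0)
    (hG1 : ∑ i, c1 i * c6 i = 1)
    (hG2 : ∑ i, c2 i * c6 i = 1)
    (hG3 : ∑ i, c3 i * c6 i = -1)
    (hG4 : ∑ i, c4 i * c6 i = 1)
    (hG5 : ∑ i, c5 i * c6 i = 1)
    (hG6 : ∑ i, c6 i * c6 i = 4)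
    (hpos : ∀ i, c0 i = 0 → c1 i = 0 → c2 i = 0 → c3 i = 0 → c4 i = 0 → c5 i = 0 → 0 ≤ c6 i)
    (h : St_6_0 c0 c1 c2 c3 c4 c5) :
    St_7_0 c0 c1 c2 c3 c4 c5 c6 ∨ St_7_1 c0 c1 c2 c3 c4 c5 c6 := by
  obtain ⟨i0, i1, i2, i3, i4, i5, i6, i7, i8, i9, ⟨d_0_1, d_0_2, d_0_3, d_0_4, d_0_5, d_0_6, d_0_7, d_0_8, d_0_9, d_1_2, d_1_3, d_1_4, d_1_5, d_1_6, d_1_7, d_1_8, d_1_9, d_2_3, d_2_4, d_2_5, d_2_6, d_2_7, d_2_8, d_2_9, d_3_4, d_3_5, d_3_6, d_3_7, d_3_8, d_3_9, d_4_5, d_4_6, d_4_7, d_4_8, d_4_9, d_5_6, d_5_7, d_5_8, d_5_9, d_6_7, d_6_8, d_6_9, d_7_8, d_7_9, d_8_9⟩, ⟨v_0_0, v_0_1, v_0_2, v_0_3, v_0_4, v_0_5, v_1_0, v_1_1, v_1_2, v_1_3, v_1_4, v_1_5, v_2_0, v_2_1, v_2_2, v_2_3, v_2_4, v_2_5, v_3_0, v_3_1, v_3_2, v_3_3, v_3_4, v_3_5, v_4_0, v_4_1, v_4_2, v_4_3, v_4_4, v_4_5, v_5_0, v_5_1, v_5_2, v_5_3,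 v_5_4, v_5_5, v_6_0, v_6_1, v_6_2, v_6_3, v_6_4, v_6_5, v_7_0, v_7_1, v_7_2, v_7_3, v_7_4, v_7_5, v_8_0, v_8_1, v_8_2, v_8_3, v_8_4, v_8_5, v_9_0, v_9_1, v_9_2, v_9_3, v_9_4, v_9_5⟩, hz⟩ := h
  have hnd : ([i0, i1, i2, i3, i4, i5, i6, i7, i8, i9] : List ι).Nodup := by
    simp only [List.nodup_cons, List.mem_cons, List.not_mem_nil, or_false, not_or, List.nodup_nil, and_true, not_false_eq_true]
    exact ⟨⟨d_0_1, d_0_2, d_0_3, d_0_4, d_0_5, d_0_6, d_0_7, d_0_8, d_0_9⟩, ⟨d_1_2, d_1_3, d_1_4, d_1_5, d_1_6, d_1_7, d_1_8, d_1_9⟩, ⟨d_2_3, d_2_4, d_2_5, d_2_6, d_2_7, d_2_8, d_2_9⟩, ⟨d_3_4, d_3_5, d_3_6, d_3_7, d_3_8, d_3_9⟩, ⟨d_4_5, d_4_6, d_4_7, d_4_8, d_4_9⟩, ⟨d_5_6, d_5_7, d_5_8, d_5_9⟩, ⟨d_6_7, d_6_8, d_6_9⟩, ⟨d_7_8, d_7_9⟩, d_8_9⟩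
  set S : Finset ι := Finset.univ \ ([i0, i1, i2, i3, i4, i5, i6, i7, i8, i9] : List ι).toFinset with hS
  have hmem : ∀ i, i ∈ S ↔ (i ≠ i0 ∧ i ≠ i1 ∧ i ≠ i2 ∧ i ≠ i3 ∧ i ≠ i4 ∧ i ≠ i5 ∧ i ≠ i6 ∧ i ≠ i7 ∧ i ≠ i8 ∧ i ≠ i9) := by
    intro i
    simp only [hS, Finset.mem_sdiff, Finset.mem_univ, true_and, List.mem_toFinset, List.mem_cons, List.not_mem_nil, or_false, not_or, ne_eq]
  have hz' : ∀ i ∈ S, (c0 i = 0 ∧ c1 i = 0 ∧ c2 i = 0 ∧ c3 i = 0 ∧ c4 i = 0 ∧ c5 i = 0) := by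
    intro i hi
    obtain ⟨n0, n1, n2, n3, n4, n5, n6, n7, n8, n9⟩ := (hmem i).1 hi
    exact hz i n0 n1 n2 n3 n4 n5 n6 n7 n8 n9
  have e0 : (0 : ℤ) = (1) * c6 i0 + (1) * c6 i1 + (0) * c6 i2 + (0) * c6 i3 + (0) * c6 i4 + (0) * c6 i5 + (0) * c6 i6 + (0) * c6 i7 + (0) * c6 i8 + (0) * c6 i9 := by
    have h1 := Cfsg.Agent.Lib.Helper76_ShapeLib.sum_split [i0, i1, i2, i3, i4, i5, i6, i7, i8, i9] hnd (fun i => c0 i * c6 i)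
    have h2 : ∑ i ∈ S, c0 i * c6 i = 0 := Finset.sum_eq_zero fun i hi => by
      rw [(hz' i hi).1, zero_mul]
    rw [hG0, h2] at h1
    simp only [List.map_cons, List.map_nil, List.sum_cons, List.sum_nil, v_0_0, v_1_0, v_2_0, v_3_0, v_4_0, v_5_0, v_6_0, v_7_0, v_8_0, v_9_0] at h1
    linarith
  have e1 : (1 : ℤ) = (0) * c6 i0 + (-1) * c6 i1 + (1) * c6 i2 + (1) * c6 i3 + (0) * c6 i4 + (0) * c6 i5 + (0) * c6 i6 + (0) * c6 i7 + (0) * c6 i8 + (0) * c6 i9 := by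
    have h1 := Cfsg.Agent.Lib.Helper76_ShapeLib.sum_split [i0, i1, i2, i3, i4, i5, i6, i7, i8, i9] hnd (fun i => c1 i * c6 i)
    have h2 : ∑ i ∈ S, c1 i * c6 i = 0 := Finset.sum_eq_zero fun i hi => by
      rw [(hz' i hi).2.1, zero_mul]
    rw [hG1, h2] at h1
    simp only [List.map_cons, List.map_nil, List.sum_cons, List.sum_nil, v_0_1, v_1_1, v_2_1, v_3_1, v_4_1, v_5_1, v_6_1, v_7_1, v_8_1, v_9_1] at h1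
    linarith
  have e2 : (1 : ℤ) = (0) * c6 i0 + (0) * c6 i1 + (0) * c6 i2 + (0) * c6 i3 + (1) * c6 i4 + (1) * c6 i5 + (0) * c6 i6 + (0) * c6 i7 + (0) * c6 i8 + (0) * c6 i9 := by
    have h1 := Cfsg.Agent.Lib.Helper76_ShapeLib.sum_split [i0, i1, i2, i3, i4, i5, i6, i7, i8, i9] hnd (fun i => c2 i * c6 i)
    have h2 : ∑ i ∈ S, c2 i * c6 i = 0 := Finset.sum_eq_zero fun i hi => by
      rw [(hz' i hi).2.2.1, zero_mul]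
    rw [hG2, h2] at h1
    simp only [List.map_cons, List.map_nil, List.sum_cons, List.sum_nil, v_0_2, v_1_2, v_2_2, v_3_2, v_4_2, v_5_2, v_6_2, v_7_2, v_8_2, v_9_2] at h1
    linarith
  have e3 : (-1 : ℤ) = (0) * c6 i0 + (1) * c6 i1 + (0) * c6 i2 + (0) * c6 i3 + (0) * c6 i4 + (-1) * c6 i5 + (1) * c6 i6 + (0) * c6 i7 + (0) * c6 i8 + (0) * c6 i9 := by
    have h1 := Cfsg.Agent.Lib.Helper76_ShapeLib.sum_split [i0, i1, i2, i3, i4, i5, i6, i7, i8, i9] hnd (fun i => c3 i * c6 i)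
    have h2 : ∑ i ∈ S, c3 i * c6 i = 0 := Finset.sum_eq_zero fun i hi => by
      rw [(hz' i hi).2.2.2.1, zero_mul]
    rw [hG3, h2] at h1
    simp only [List.map_cons, List.map_nil, List.sum_cons, List.sum_nil, v_0_3, v_1_3, v_2_3, v_3_3, v_4_3, v_5_3, v_6_3, v_7_3, v_8_3, v_9_3] at h1
    linarith
  have e4 : (1 : ℤ) = (0) * c6 i0 + (0) * c6 i1 + (1) * c6 i2 + (0) * c6 i3 + (0) * c6 i4 + (0) * c6 i5 + (1) * c6 i6 + (1) * c6 i7 + (0) * c6 i8 + (0) * c6 i9 := by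
    have h1 := Cfsg.Agent.Lib.Helper76_ShapeLib.sum_split [i0, i1, i2, i3, i4, i5, i6, i7, i8, i9] hnd (fun i => c4 i * c6 i)
    have h2 : ∑ i ∈ S, c4 i * c6 i = 0 := Finset.sum_eq_zero fun i hi => by
      rw [(hz' i hi).2.2.2.2.1, zero_mul]
    rw [hG4, h2] at h1
    simp only [List.map_cons, List.map_nil, List.sum_cons, List.sum_nil, v_0_4, v_1_4, v_2_4, v_3_4, v_4_4, v_5_4, v_6_4, v_7_4, v_8_4, v_9_4] at h1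
    linarith
  have e5 : (1 : ℤ) = (0) * c6 i0 + (1) * c6 i1 + (0) * c6 i2 + (0) * c6 i3 + (0) * c6 i4 + (0) * c6 i5 + (0) * c6 i6 + (0) * c6 i7 + (1) * c6 i8 + (1) * c6 i9 := by
    have h1 := Cfsg.Agent.Lib.Helper76_ShapeLib.sum_split [i0, i1, i2, i3, i4, i5, i6, i7, i8, i9] hnd (fun i => c5 i * c6 i)
    have h2 : ∑ i ∈ S, c5 i * c6 i = 0 := Finset.sum_eq_zero fun i hi => by
      rw [(hz' i hi).2.2.2.2.2, zero_mul]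
    rw [hG5, h2] at h1
    simp only [List.map_cons, List.map_nil, List.sum_cons, List.sum_nil, v_0_5, v_1_5, v_2_5, v_3_5, v_4_5, v_5_5, v_6_5, v_7_5, v_8_5, v_9_5] at h1
    linarith
  have en : (4 : ℤ) = c6 i0 * c6 i0 + c6 i1 * c6 i1 + c6 i2 * c6 i2 + c6 i3 * c6 i3 + c6 i4 * c6 i4 + c6 i5 * c6 i5 + c6 i6 * c6 i6 + c6 i7 * c6 i7 + c6 i8 * c6 i8 + c6 i9 * c6 i9 + ∑ i ∈ S, c6 i * c6 i := by
    have h1 := Cfsg.Agent.Lib.Helper76_ShapeLib.sum_split [i0, i1, i2, i3, i4, i5, i6, i7, i8, i9] hnd (fun i => c6 i * c6 i)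
    rw [hG6] at h1
    simp only [List.map_cons, List.map_nil, List.sum_cons, List.sum_nil] at h1
    linarith
  have hr : 0 ≤ ∑ i ∈ S, c6 i * c6 i := Finset.sum_nonneg fun i _ => mul_self_nonneg _
  have hnn : ∀ i ∈ S, 0 ≤ c6 i := by
    intro i hi
    obtain ⟨z0, z1, z2, z3, z4, z5⟩ := hz' i hi
    exact hpos i z0 z1 z2 z3 z4 z5
  have hsol := ar_6_0 (c6 i0) (c6 i1) (c6 i2) (c6 i3) (c6 i4) (c6 i5) (c6 i6) (c6 i7) (c6 i8) (c6 i9) _ e0 e1 e2 e3 e4 e5 en hr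
  rcases hsol with ⟨hx0, hx1, hx2, hx3, hx4, hx5, hx6, hx7, hx8, hx9, hrho⟩ | ⟨hx0, hx1, hx2, hx3, hx4, hx5, hx6, hx7, hx8, hx9, hrho⟩ | ⟨hx0, hx1, hx2, hx3, hx4, hx5, hx6, hx7, hx8, hx9, hrho⟩ | ⟨hx0, hx1, hx2, hx3, hx4, hx5, hx6, hx7, hx8, hx9, hrho⟩
  · -- solution (0, 0, 0, 1, 0, 1, 0, 1, 0, 1), rho = 0
    have hzr := Cfsg.Agent.Lib.Helper76_ShapeLib.rem0 S c6 hrho
    refine (Or.inl ⟨i0, i1, i2, i3, i4, i5, i6, i7, i9, i8, ⟨d_0_1, d_0_2, d_0_3, d_0_4, d_0_5, d_0_6, d_0_7, d_0_9, d_0_8, d_1_2, d_1_3, d_1_4, d_1_5, d_1_6, d_1_7, d_1_9, d_1_8, d_2_3, d_2_4, d_2_5, d_2_6, d_2_7, d_2_9, d_2_8, d_3_4, d_3_5, d_3_6, d_3_7, d_3_9, d_3_8, d_4_5, d_4_6, d_4_7, d_4_9, d_4_8, d_5_6, d_5_7, d_5_9, d_5_8, d_6_7, d_6_9, d_6_8, d_7_9, d_7_8, d_8_9.symm⟩, ⟨v_0_0, v_0_1, v_0_2, v_0_3, v_0_4, v_0_5, hx0,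 v_1_0, v_1_1, v_1_2, v_1_3, v_1_4, v_1_5, hx1, v_2_0, v_2_1, v_2_2, v_2_3, v_2_4, v_2_5, hx2, v_3_0, v_3_1, v_3_2, v_3_3, v_3_4, v_3_5, hx3, v_4_0, v_4_1, v_4_2, v_4_3, v_4_4, v_4_5, hx4, v_5_0, v_5_1, v_5_2, v_5_3, v_5_4, v_5_5, hx5, v_6_0, v_6_1, v_6_2, v_6_3, v_6_4, v_6_5, hx6, v_7_0, v_7_1, v_7_2, v_7_3, v_7_4, v_7_5, hx7, v_9_0, v_9_1, v_9_2, v_9_3, v_9_4, v_9_5, hx9, v_8_0, v_8_1, v_8_2, v_8_3, v_8_4, v_8_5, hx8⟩, ?_⟩)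
    intro i m0 m1 m2 m3 m4 m5 m6 m7 m8 m9
    have hiS : i ∈ S := (hmem i).2 ⟨m0, m1, m2, m3, m4, m5, m6, m7, m9, m8⟩
    obtain ⟨y0, y1, y2, y3, y4, y5⟩ := hz' i hiS
    exact ⟨y0, y1, y2, y3, y4, y5, (hzr i hiS)⟩
  · -- solution (0, 0, 0, 1, 0, 1, 0, 1, 1, 0), rho = 0
    have hzr := Cfsg.Agent.Lib.Helper76_ShapeLib.rem0 S c6 hrho
    refine (Or.inl ⟨i0, i1, i2, i3, i4, i5, i6, i7, i8, i9, ⟨d_0_1, d_0_2, d_0_3, d_0_4, d_0_5, d_0_6, d_0_7, d_0_8, d_0_9, d_1_2, d_1_3, d_1_4, d_1_5, d_1_6, d_1_7, d_1_8, d_1_9, d_2_3, d_2_4, d_2_5, d_2_6, d_2_7, d_2_8, d_2_9, d_3_4, d_3_5, d_3_6, d_3_7, d_3_8, d_3_9, d_4_5, d_4_6, d_4_7, d_4_8, d_4_9, d_5_6, d_5_7, d_5_8, d_5_9, d_6_7, d_6_8, d_6_9, d_7_8, d_7_9, d_8_9⟩, ⟨v_0_0, v_0_1, v_0_2, v_0_3, v_0_4, v_0_5, hx0, v_1_0, v_1_1, v_1_2, v_1_3, v_1_4, v_1_5,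 hx1, v_2_0, v_2_1, v_2_2, v_2_3, v_2_4, v_2_5, hx2, v_3_0, v_3_1, v_3_2, v_3_3, v_3_4, v_3_5, hx3, v_4_0, v_4_1, v_4_2, v_4_3, v_4_4, v_4_5, hx4, v_5_0, v_5_1, v_5_2, v_5_3, v_5_4, v_5_5, hx5, v_6_0, v_6_1, v_6_2, v_6_3, v_6_4, v_6_5, hx6, v_7_0, v_7_1, v_7_2, v_7_3, v_7_4, v_7_5, hx7, v_8_0, v_8_1, v_8_2, v_8_3, v_8_4, v_8_5, hx8, v_9_0, v_9_1, v_9_2, v_9_3, v_9_4, v_9_5, hx9⟩, ?_⟩)
    intro i m0 m1 m2 m3 m4 m5 m6 m7 m8 m9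
    have hiS : i ∈ S := (hmem i).2 ⟨m0, m1, m2, m3, m4, m5, m6, m7, m8, m9⟩
    obtain ⟨y0, y1, y2, y3, y4, y5⟩ := hz' i hiS
    exact ⟨y0, y1, y2, y3, y4, y5, (hzr i hiS)⟩
  · -- solution (0, 0, 1, 0, 0, 1, 0, 0, 0, 1), rho = 1
    obtain ⟨a, haS, hfa, hzr⟩ := Cfsg.Agent.Lib.Helper76_ShapeLib.rem1 S c6 hnn hrho
    obtain ⟨na0, na1, na2, na3, na4, na5, na6, na7, na8, na9⟩ := (hmem a).1 haS
    obtain ⟨za0, za1, za2, za3, za4, za5⟩ := hz' a haS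
    refine (Or.inr ⟨i0, i1, i2, i3, i4, i5, i6, i7, i9, i8, a, ⟨d_0_1, d_0_2, d_0_3, d_0_4, d_0_5, d_0_6, d_0_7, d_0_9, d_0_8, na0.symm, d_1_2, d_1_3, d_1_4, d_1_5, d_1_6, d_1_7, d_1_9, d_1_8, na1.symm, d_2_3, d_2_4, d_2_5, d_2_6, d_2_7, d_2_9, d_2_8, na2.symm, d_3_4, d_3_5, d_3_6, d_3_7, d_3_9, d_3_8, na3.symm, d_4_5, d_4_6, d_4_7, d_4_9, d_4_8, na4.symm, d_5_6, d_5_7, d_5_9, d_5_8, na5.symm, d_6_7, d_6_9, d_6_8, na6.symm, d_7_9, d_7_8, na7.symm, d_8_9.symm, na9.symm, na8.symm⟩, ⟨v_0_0, v_0_1, v_0_2, v_0_3, v_0_4, v_0_5, hx0, v_1_0, v_1_1, v_1_2, v_1_3, v_1_4, v_1_5, hx1, v_2_0, v_2_1, v_2_2, v_2_3, v_2_4, v_2_5, hx2, v_3_0, v_3_1, v_3_2, v_3_3, v_3_4, v_3_5, hx3, v_4_0, v_4_1, v_4_2, v_4_3, v_4_4, v_4_5, hx4, v_5_0, v_5_1, v_5_2, v_5_3, v_5_4, v_5_5, hx5, v_6_0, v_6_1, v_6_2, v_6_3, v_6_4,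 v_6_5, hx6, v_7_0, v_7_1, v_7_2, v_7_3, v_7_4, v_7_5, hx7, v_9_0, v_9_1, v_9_2, v_9_3, v_9_4, v_9_5, hx9, v_8_0, v_8_1, v_8_2, v_8_3, v_8_4, v_8_5, hx8, za0, za1, za2, za3, za4, za5, hfa⟩, ?_⟩)
    intro i m0 m1 m2 m3 m4 m5 m6 m7 m8 m9 m10
    have hiS : i ∈ S := (hmem i).2 ⟨m0, m1, m2, m3, m4, m5, m6, m7, m9, m8⟩
    obtain ⟨y0, y1, y2, y3, y4, y5⟩ := hz' i hiS
    exact ⟨y0, y1, y2, y3, y4, y5, (hzr i hiS m10)⟩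
  · -- solution (0, 0, 1, 0, 0, 1, 0, 0, 1, 0), rho = 1
    obtain ⟨a, haS, hfa, hzr⟩ := Cfsg.Agent.Lib.Helper76_ShapeLib.rem1 S c6 hnn hrho
    obtain ⟨na0, na1, na2, na3, na4, na5, na6, na7, na8, na9⟩ := (hmem a).1 haS
    obtain ⟨za0, za1, za2, za3, za4, za5⟩ := hz' a haS
    refine (Or.inr ⟨i0, i1, i2, i3, i4, i5, i6, i7, i8, i9, a, ⟨d_0_1, d_0_2, d_0_3, d_0_4, d_0_5, d_0_6, d_0_7, d_0_8, d_0_9, na0.symm, d_1_2, d_1_3, d_1_4, d_1_5, d_1_6, d_1_7, d_1_8, d_1_9, na1.symm, d_2_3, d_2_4, d_2_5, d_2_6, d_2_7, d_2_8, d_2_9, na2.symm, d_3_4, d_3_5, d_3_6, d_3_7, d_3_8, d_3_9, na3.symm, d_4_5, d_4_6, d_4_7, d_4_8, d_4_9, na4.symm, d_5_6, d_5_7, d_5_8, d_5_9, na5.symm, d_6_7, d_6_8, d_6_9, na6.symm, d_7_8, d_7_9, na7.symm, d_8_9, na8.symm, na9.symm⟩, ⟨v_0_0, v_0_1, v_0_2, v_0_3, v_0_4, v_0_5, hx0,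 v_1_0, v_1_1, v_1_2, v_1_3, v_1_4, v_1_5, hx1, v_2_0, v_2_1, v_2_2, v_2_3, v_2_4, v_2_5, hx2, v_3_0, v_3_1, v_3_2, v_3_3, v_3_4, v_3_5, hx3, v_4_0, v_4_1, v_4_2, v_4_3, v_4_4, v_4_5, hx4, v_5_0, v_5_1, v_5_2, v_5_3, v_5_4, v_5_5, hx5, v_6_0, v_6_1, v_6_2, v_6_3, v_6_4, v_6_5, hx6, v_7_0, v_7_1, v_7_2, v_7_3, v_7_4, v_7_5, hx7, v_8_0, v_8_1, v_8_2, v_8_3, v_8_4, v_8_5, hx8, v_9_0, v_9_1, v_9_2, v_9_3, v_9_4, v_9_5, hx9, za0, za1, za2, za3, za4, za5, hfa⟩, ?_⟩)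
    intro i m0 m1 m2 m3 m4 m5 m6 m7 m8 m9 m10
    have hiS : i ∈ S := (hmem i).2 ⟨m0, m1, m2, m3, m4, m5, m6, m7, m8, m9⟩
    obtain ⟨y0, y1, y2, y3, y4, y5⟩ := hz' i hiS
    exact ⟨y0, y1, y2, y3, y4, y5, (hzr i hiS m10)⟩

theorem ar_6_1 (x0 x1 x2 x3 x4 x5 x6 x7 r : ℤ) (e0 : (0 : ℤ) = (1) * x0 + (1) * x1 + (0) * x2 + (0) * x3 + (0) * x4 + (0) * x5 + (0) * x6 + (0) * x7) (e1 : (1 : ℤ) = (0) * x0 + (-1) * x1 + (1) * x2 + (1) * x3 + (0) * x4 + (0) * x5 + (0) * x6 + (0) * x7) (e2 : (1 : ℤ) = (0) * x0 + (0) * x1 + (0) * x2 + (0) * x3 + (1) * x4 + (1) * x5 + (0) * x6 + (0) * x7) (e3 : (-1 : ℤ) = (0) * x0 + (1) * x1 + (0) * x2 + (0) * x3 + (0) * x4 + (-1) * x5 + (1) * x6 + (0) * x7) (e4 : (1 : ℤ) = (0) * x0 + (0) * x1 + (1) * x2 + (0) * x3 + (0) * x4 + (0) * x5 + (1) * x6 + (1) * x7) (e5 : (1 : ℤ)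 = (1) * x0 + (0) * x1 + (-1) * x2 + (0) * x3 + (0) * x4 + (0) * x5 + (1) * x6 + (0) * x7) (en : (4 : ℤ) = x0 * x0 + x1 * x1 + x2 * x2 + x3 * x3 + x4 * x4 + x5 * x5 + x6 * x6 + x7 * x7 + r) (hr : 0 ≤ r) : (x0 = 1 ∧ x1 = -1 ∧ x2 = 0 ∧ x3 = 0 ∧ x4 = 1 ∧ x5 = 0 ∧ x6 = 0 ∧ x7 = 1 ∧ r = 0) := by
  have hb6 : x6 * x6 ≤ 4 := by linarith [mul_self_nonneg x0, mul_self_nonneg x1, mul_self_nonneg x2, mul_self_nonneg x3, mul_self_nonneg x4, mul_self_nonneg x5, mul_self_nonneg x6, mul_self_nonneg x7]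
  obtain ⟨hl6, hu6⟩ := Cfsg.Agent.Lib.Helper76_ShapeLib.bound2 x6 hb6
  have hb7 : x7 * x7 ≤ 4 := by linarith [mul_self_nonneg x0, mul_self_nonneg x1, mul_self_nonneg x2, mul_self_nonneg x3, mul_self_nonneg x4, mul_self_nonneg x5, mul_self_nonneg x6, mul_self_nonneg x7]
  obtain ⟨hl7, hu7⟩ := Cfsg.Agent.Lib.Helper76_ShapeLib.bound2 x7 hb7
  obtain rfl : x0 = 2 + (-2) * x6 + (-1) * x7 := by omega
  obtain rfl : x1 = -2 + (2) * x6 + (1) * x7 := by omega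
  obtain rfl : x4 = 2 + (-3) * x6 + (-1) * x7 := by omega
  obtain rfl : x2 = 1 + (-1) * x6 + (-1) * x7 := by omega
  obtain rfl : x3 = -2 + (3) * x6 + (2) * x7 := by omega
  obtain rfl : x5 = -1 + (3) * x6 + (1) * x7 := by omega
  interval_cases x6 <;> interval_cases x7 <;> omega

theorem ext_6_1 {ι : Type*} [Fintype ι] [DecidableEq ι] (c0 c1 c2 c3 c4 c5 c6 : ι → ℤ)
    (hG0 : ∑ i, c0 i * c6 i = 0)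
    (hG1 : ∑ i, c1 i * c6 i = 1)
    (hG2 : ∑ i, c2 i * c6 i = 1)
    (hG3 : ∑ i, c3 i * c6 i = -1)
    (hG4 : ∑ i, c4 i * c6 i = 1)
    (hG5 : ∑ i, c5 i * c6 i = 1)
    (hG6 : ∑ i, c6 i * c6 i = 4)
    (hpos : ∀ i, c0 i = 0 → c1 i = 0 → c2 i = 0 → c3 i = 0 → c4 i = 0 → c5 i = 0 → 0 ≤ c6 i)
    (h : St_6_1 c0 c1 c2 c3 c4 c5) :
    St_7_2 c0 c1 c2 c3 c4 c5 c6 := by
  obtain ⟨i0, i1, i2, i3, i4, i5, i6, i7, ⟨d_0_1, d_0_2, d_0_3, d_0_4, d_0_5, d_0_6, d_0_7, d_1_2, d_1_3, d_1_4, d_1_5, d_1_6, d_1_7, d_2_3, d_2_4, d_2_5, d_2_6, d_2_7, d_3_4, d_3_5, d_3_6, d_3_7, d_4_5, d_4_6, d_4_7, d_5_6, d_5_7, d_6_7⟩, ⟨v_0_0, v_0_1, v_0_2, v_0_3, v_0_4, v_0_5, v_1_0, v_1_1, v_1_2, v_1_3, v_1_4, v_1_5, v_2_0, v_2_1, v_2_2, v_2_3, v_2_4, v_2_5, v_3_0, v_3_1, v_3_2, v_3_3, v_3_4, v_3_5, v_4_0, v_4_1, v_4_2, v_4_3,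 v_4_4, v_4_5, v_5_0, v_5_1, v_5_2, v_5_3, v_5_4, v_5_5, v_6_0, v_6_1, v_6_2, v_6_3, v_6_4, v_6_5, v_7_0, v_7_1, v_7_2, v_7_3, v_7_4, v_7_5⟩, hz⟩ := h
  have hnd : ([i0, i1, i2, i3, i4, i5, i6, i7] : List ι).Nodup := by
    simp only [List.nodup_cons, List.mem_cons, List.not_mem_nil, or_false, not_or, List.nodup_nil, and_true, not_false_eq_true]
    exact ⟨⟨d_0_1, d_0_2, d_0_3, d_0_4, d_0_5, d_0_6, d_0_7⟩, ⟨d_1_2, d_1_3, d_1_4, d_1_5, d_1_6, d_1_7⟩, ⟨d_2_3, d_2_4, d_2_5, d_2_6, d_2_7⟩, ⟨d_3_4, d_3_5, d_3_6, d_3_7⟩, ⟨d_4_5, d_4_6, d_4_7⟩, ⟨d_5_6, d_5_7⟩, d_6_7⟩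
  set S : Finset ι := Finset.univ \ ([i0, i1, i2, i3, i4, i5, i6, i7] : List ι).toFinset with hS
  have hmem : ∀ i, i ∈ S ↔ (i ≠ i0 ∧ i ≠ i1 ∧ i ≠ i2 ∧ i ≠ i3 ∧ i ≠ i4 ∧ i ≠ i5 ∧ i ≠ i6 ∧ i ≠ i7) := by
    intro i
    simp only [hS, Finset.mem_sdiff, Finset.mem_univ, true_and, List.mem_toFinset, List.mem_cons, List.not_mem_nil, or_false, not_or, ne_eq]
  have hz' : ∀ i ∈ S, (c0 i = 0 ∧ c1 i = 0 ∧ c2 i = 0 ∧ c3 i = 0 ∧ c4 i = 0 ∧ c5 i = 0) := by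
    intro i hi
    obtain ⟨n0, n1, n2, n3, n4, n5, n6, n7⟩ := (hmem i).1 hi
    exact hz i n0 n1 n2 n3 n4 n5 n6 n7
  have e0 : (0 : ℤ) = (1) * c6 i0 + (1) * c6 i1 + (0) * c6 i2 + (0) * c6 i3 + (0) * c6 i4 + (0) * c6 i5 + (0) * c6 i6 + (0) * c6 i7 := by
    have h1 := Cfsg.Agent.Lib.Helper76_ShapeLib.sum_split [i0, i1, i2, i3, i4, i5, i6, i7] hnd (fun i => c0 i * c6 i)
    have h2 : ∑ i ∈ S, c0 i * c6 i = 0 := Finset.sum_eq_zero fun i hi => by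
      rw [(hz' i hi).1, zero_mul]
    rw [hG0, h2] at h1
    simp only [List.map_cons, List.map_nil, List.sum_cons, List.sum_nil, v_0_0, v_1_0, v_2_0, v_3_0, v_4_0, v_5_0, v_6_0, v_7_0] at h1
    linarith
  have e1 : (1 : ℤ) = (0) * c6 i0 + (-1) * c6 i1 + (1) * c6 i2 + (1) * c6 i3 + (0) * c6 i4 + (0) * c6 i5 + (0) * c6 i6 + (0) * c6 i7 := by
    have h1 := Cfsg.Agent.Lib.Helper76_ShapeLib.sum_split [i0, i1, i2, i3, i4, i5, i6, i7] hnd (fun i => c1 i * c6 i)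
    have h2 : ∑ i ∈ S, c1 i * c6 i = 0 := Finset.sum_eq_zero fun i hi => by
      rw [(hz' i hi).2.1, zero_mul]
    rw [hG1, h2] at h1
    simp only [List.map_cons, List.map_nil, List.sum_cons, List.sum_nil, v_0_1, v_1_1, v_2_1, v_3_1, v_4_1, v_5_1, v_6_1, v_7_1] at h1
    linarith
  have e2 : (1 : ℤ) = (0) * c6 i0 + (0) * c6 i1 + (0) * c6 i2 + (0) * c6 i3 + (1) * c6 i4 + (1) * c6 i5 + (0) * c6 i6 + (0) * c6 i7 := by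
    have h1 := Cfsg.Agent.Lib.Helper76_ShapeLib.sum_split [i0, i1, i2, i3, i4, i5, i6, i7] hnd (fun i => c2 i * c6 i)
    have h2 : ∑ i ∈ S, c2 i * c6 i = 0 := Finset.sum_eq_zero fun i hi => by
      rw [(hz' i hi).2.2.1, zero_mul]
    rw [hG2, h2] at h1
    simp only [List.map_cons, List.map_nil, List.sum_cons, List.sum_nil, v_0_2, v_1_2, v_2_2, v_3_2, v_4_2, v_5_2, v_6_2, v_7_2] at h1
    linarith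
  have e3 : (-1 : ℤ) = (0) * c6 i0 + (1) * c6 i1 + (0) * c6 i2 + (0) * c6 i3 + (0) * c6 i4 + (-1) * c6 i5 + (1) * c6 i6 + (0) * c6 i7 := by
    have h1 := Cfsg.Agent.Lib.Helper76_ShapeLib.sum_split [i0, i1, i2, i3, i4, i5, i6, i7] hnd (fun i => c3 i * c6 i)
    have h2 : ∑ i ∈ S, c3 i * c6 i = 0 := Finset.sum_eq_zero fun i hi => by
      rw [(hz' i hi).2.2.2.1, zero_mul]
    rw [hG3, h2] at h1
    simp only [List.map_cons, List.map_nil, List.sum_cons, List.sum_nil, v_0_3, v_1_3, v_2_3, v_3_3, v_4_3, v_5_3, v_6_3, v_7_3] at h1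
    linarith
  have e4 : (1 : ℤ) = (0) * c6 i0 + (0) * c6 i1 + (1) * c6 i2 + (0) * c6 i3 + (0) * c6 i4 + (0) * c6 i5 + (1) * c6 i6 + (1) * c6 i7 := by
    have h1 := Cfsg.Agent.Lib.Helper76_ShapeLib.sum_split [i0, i1, i2, i3, i4, i5, i6, i7] hnd (fun i => c4 i * c6 i)
    have h2 : ∑ i ∈ S, c4 i * c6 i = 0 := Finset.sum_eq_zero fun i hi => by
      rw [(hz' i hi).2.2.2.2.1, zero_mul]
    rw [hG4, h2] at h1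
    simp only [List.map_cons, List.map_nil, List.sum_cons, List.sum_nil, v_0_4, v_1_4, v_2_4, v_3_4, v_4_4, v_5_4, v_6_4, v_7_4] at h1
    linarith
  have e5 : (1 : ℤ) = (1) * c6 i0 + (0) * c6 i1 + (-1) * c6 i2 + (0) * c6 i3 + (0) * c6 i4 + (0) * c6 i5 + (1) * c6 i6 + (0) * c6 i7 := by
    have h1 := Cfsg.Agent.Lib.Helper76_ShapeLib.sum_split [i0, i1, i2, i3, i4, i5, i6, i7] hnd (fun i => c5 i * c6 i)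
    have h2 : ∑ i ∈ S, c5 i * c6 i = 0 := Finset.sum_eq_zero fun i hi => by
      rw [(hz' i hi).2.2.2.2.2, zero_mul]
    rw [hG5, h2] at h1
    simp only [List.map_cons, List.map_nil, List.sum_cons, List.sum_nil, v_0_5, v_1_5, v_2_5, v_3_5, v_4_5, v_5_5, v_6_5, v_7_5] at h1
    linarith
  have en : (4 : ℤ) = c6 i0 * c6 i0 + c6 i1 * c6 i1 + c6 i2 * c6 i2 + c6 i3 * c6 i3 + c6 i4 * c6 i4 + c6 i5 * c6 i5 + c6 i6 * c6 i6 + c6 i7 * c6 i7 + ∑ i ∈ S, c6 i * c6 i := by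
    have h1 := Cfsg.Agent.Lib.Helper76_ShapeLib.sum_split [i0, i1, i2, i3, i4, i5, i6, i7] hnd (fun i => c6 i * c6 i)
    rw [hG6] at h1
    simp only [List.map_cons, List.map_nil, List.sum_cons, List.sum_nil] at h1
    linarith
  have hr : 0 ≤ ∑ i ∈ S, c6 i * c6 i := Finset.sum_nonneg fun i _ => mul_self_nonneg _
  have hnn : ∀ i ∈ S, 0 ≤ c6 i := by
    intro i hi
    obtain ⟨z0, z1, z2, z3, z4, z5⟩ := hz' i hi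
    exact hpos i z0 z1 z2 z3 z4 z5
  have hsol := ar_6_1 (c6 i0) (c6 i1) (c6 i2) (c6 i3) (c6 i4) (c6 i5) (c6 i6) (c6 i7) _ e0 e1 e2 e3 e4 e5 en hr
  rcases hsol with ⟨hx0, hx1, hx2, hx3, hx4, hx5, hx6, hx7, hrho⟩
  · -- solution (1, -1, 0, 0, 1, 0, 0, 1), rho = 0
    have hzr := Cfsg.Agent.Lib.Helper76_ShapeLib.rem0 S c6 hrho
    refine ⟨i0, i1, i2, i3, i4, i5, i6, i7, ⟨d_0_1, d_0_2, d_0_3, d_0_4, d_0_5, d_0_6, d_0_7, d_1_2, d_1_3, d_1_4, d_1_5, d_1_6, d_1_7, d_2_3, d_2_4, d_2_5, d_2_6, d_2_7, d_3_4, d_3_5, d_3_6, d_3_7, d_4_5, d_4_6, d_4_7, d_5_6, d_5_7, d_6_7⟩, ⟨v_0_0, v_0_1, v_0_2, v_0_3, v_0_4, v_0_5, hx0, v_1_0, v_1_1, v_1_2, v_1_3, v_1_4, v_1_5, hx1, v_2_0, v_2_1, v_2_2, v_2_3, v_2_4, v_2_5, hx2, v_3_0, v_3_1, v_3_2, v_3_3, v_3_4, v_3_5, hx3, v_4_0, v_4_1, v_4_2, v_4_3, v_4_4, v_4_5, hx4,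 v_5_0, v_5_1, v_5_2, v_5_3, v_5_4, v_5_5, hx5, v_6_0, v_6_1, v_6_2, v_6_3, v_6_4, v_6_5, hx6, v_7_0, v_7_1, v_7_2, v_7_3, v_7_4, v_7_5, hx7⟩, ?_⟩
    intro i m0 m1 m2 m3 m4 m5 m6 m7
    have hiS : i ∈ S := (hmem i).2 ⟨m0, m1, m2, m3, m4, m5, m6, m7⟩
    obtain ⟨y0, y1, y2, y3, y4, y5⟩ := hz' i hiS
    exact ⟨y0, y1, y2, y3, y4, y5, (hzr i hiS)⟩

theorem ar_6_2 (x0 x1 x2 x3 x4 x5 x6 x7 x8 r : ℤ) (e0 : (0 : ℤ) = (1) * x0 + (1) * x1 + (0) * x2 + (0) * x3 + (0) * x4 + (0) * x5 + (0) * x6 + (0) * x7 + (0) * x8) (e1 : (1 : ℤ) = (0) * x0 + (-1) * x1 + (1) * x2 + (1) * x3 + (0) * x4 + (0) * x5 + (0) * x6 + (0) * x7 + (0) * x8) (e2 : (1 : ℤ) = (0) * x0 + (0) * x1 + (0) * x2 + (0) * x3 + (1) * x4 + (1) * x5 + (0) * x6 + (0) * x7 + (0) * x8) (e3 : (-1 : ℤ) = (0) * x0 + (1) * x1 + (0) * x2 + (0) * x3 +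 (0) * x4 + (-1) * x5 + (1) * x6 + (0) * x7 + (0) * x8) (e4 : (1 : ℤ) = (0) * x0 + (0) * x1 + (1) * x2 + (0) * x3 + (1) * x4 + (-1) * x5 + (0) * x6 + (0) * x7 + (0) * x8) (e5 : (1 : ℤ) = (0) * x0 + (1) * x1 + (0) * x2 + (0) * x3 + (0) * x4 + (0) * x5 + (0) * x6 + (1) * x7 + (1) * x8) (en : (4 : ℤ) = x0 * x0 + x1 * x1 + x2 * x2 + x3 * x3 + x4 * x4 + x5 * x5 + x6 * x6 + x7 * x7 + x8 * x8 + r) (hr : 0 ≤ r) : (x0 = 0 ∧ x1 = 0 ∧ x2 = 0 ∧ x3 = 1 ∧ x4 = 1 ∧ x5 = 0 ∧ x6 = -1 ∧ x7 = 0 ∧ x8 = 1 ∧ r = 0) ∨ (x0 = 0 ∧ x1 = 0 ∧ x2 = 0 ∧ x3 = 1 ∧ x4 = 1 ∧ x5 = 0 ∧ x6 = -1 ∧ x7 = 1 ∧ x8 = 0 ∧ r = 0) := by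
  have hb6 : x6 * x6 ≤ 4 := by linarith [mul_self_nonneg x0, mul_self_nonneg x1, mul_self_nonneg x2, mul_self_nonneg x3, mul_self_nonneg x4, mul_self_nonneg x5, mul_self_nonneg x6, mul_self_nonneg x7, mul_self_nonneg x8]
  obtain ⟨hl6, hu6⟩ := Cfsg.Agent.Lib.Helper76_ShapeLib.bound2 x6 hb6
  have hb7 : x7 * x7 ≤ 4 := by linarith [mul_self_nonneg x0, mul_self_nonneg x1, mul_self_nonneg x2, mul_self_nonneg x3, mul_self_nonneg x4, mul_self_nonneg x5, mul_self_nonneg x6, mul_self_nonneg x7, mul_self_nonneg x8]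
  obtain ⟨hl7, hu7⟩ := Cfsg.Agent.Lib.Helper76_ShapeLib.bound2 x7 hb7
  have hb8 : x8 * x8 ≤ 4 := by linarith [mul_self_nonneg x0, mul_self_nonneg x1, mul_self_nonneg x2, mul_self_nonneg x3, mul_self_nonneg x4, mul_self_nonneg x5, mul_self_nonneg x6, mul_self_nonneg x7, mul_self_nonneg x8]
  obtain ⟨hl8, hu8⟩ := Cfsg.Agent.Lib.Helper76_ShapeLib.bound2 x8 hb8
  obtain rfl : x0 = -1 + (1) * x7 + (1) * x8 := by omega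
  obtain rfl : x1 = 1 + (-1) * x7 + (-1) * x8 := by omega
  obtain rfl : x4 = -1 + (-1) * x6 + (1) * x7 + (1) * x8 := by omega
  obtain rfl : x2 = 4 + (2) * x6 + (-2) * x7 + (-2) * x8 := by omega
  obtain rfl : x3 = -2 + (-2) * x6 + (1) * x7 + (1) * x8 := by omega
  obtain rfl : x5 = 2 + (1) * x6 + (-1) * x7 + (-1) * x8 := by omega
  interval_cases x6 <;> interval_cases x7 <;> interval_cases x8 <;> omega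

theorem ext_6_2 {ι : Type*} [Fintype ι] [DecidableEq ι] (c0 c1 c2 c3 c4 c5 c6 : ι → ℤ)
    (hG0 : ∑ i, c0 i * c6 i = 0)
    (hG1 : ∑ i, c1 i * c6 i = 1)
    (hG2 : ∑ i, c2 i * c6 i = 1)
    (hG3 : ∑ i, c3 i * c6 i = -1)
    (hG4 : ∑ i, c4 i * c6 i = 1)
    (hG5 : ∑ i, c5 i * c6 i = 1)
    (hG6 : ∑ i, c6 i * c6 i = 4)
    (hpos : ∀ i, c0 i = 0 → c1 i = 0 → c2 i = 0 → c3 i = 0 → c4 i = 0 → c5 i = 0 → 0 ≤ c6 i)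
    (h : St_6_2 c0 c1 c2 c3 c4 c5) :
    St_7_3 c0 c1 c2 c3 c4 c5 c6 := by
  obtain ⟨i0, i1, i2, i3, i4, i5, i6, i7, i8, ⟨d_0_1, d_0_2, d_0_3, d_0_4, d_0_5, d_0_6, d_0_7, d_0_8, d_1_2, d_1_3, d_1_4, d_1_5, d_1_6, d_1_7, d_1_8, d_2_3, d_2_4, d_2_5, d_2_6, d_2_7, d_2_8, d_3_4, d_3_5, d_3_6, d_3_7, d_3_8, d_4_5, d_4_6, d_4_7, d_4_8, d_5_6, d_5_7, d_5_8, d_6_7, d_6_8, d_7_8⟩, ⟨v_0_0, v_0_1, v_0_2, v_0_3, v_0_4, v_0_5, v_1_0, v_1_1, v_1_2, v_1_3, v_1_4, v_1_5, v_2_0, v_2_1, v_2_2, v_2_3, v_2_4, v_2_5, v_3_0, v_3_1, v_3_2, v_3_3, v_3_4, v_3_5, v_4_0, v_4_1, v_4_2, v_4_3, v_4_4, v_4_5, v_5_0, v_5_1, v_5_2, v_5_3, v_5_4, v_5_5, v_6_0, v_6_1, v_6_2, v_6_3, v_6_4, v_6_5, v_7_0, v_7_1, v_7_2, v_7_3, v_7_4, v_7_5, v_8_0, v_8_1, v_8_2, v_8_3, v_8_4, v_8_5⟩, hz⟩ := h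
  have hnd : ([i0, i1, i2, i3, i4, i5, i6, i7, i8] : List ι).Nodup := by
    simp only [List.nodup_cons, List.mem_cons, List.not_mem_nil, or_false, not_or, List.nodup_nil, and_true, not_false_eq_true]
    exact ⟨⟨d_0_1, d_0_2, d_0_3, d_0_4, d_0_5, d_0_6, d_0_7, d_0_8⟩, ⟨d_1_2, d_1_3, d_1_4, d_1_5, d_1_6, d_1_7, d_1_8⟩, ⟨d_2_3, d_2_4, d_2_5, d_2_6, d_2_7, d_2_8⟩, ⟨d_3_4, d_3_5, d_3_6, d_3_7, d_3_8⟩, ⟨d_4_5, d_4_6, d_4_7, d_4_8⟩, ⟨d_5_6, d_5_7, d_5_8⟩, ⟨d_6_7, d_6_8⟩, d_7_8⟩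
  set S : Finset ι := Finset.univ \ ([i0, i1, i2, i3, i4, i5, i6, i7, i8] : List ι).toFinset with hS
  have hmem : ∀ i, i ∈ S ↔ (i ≠ i0 ∧ i ≠ i1 ∧ i ≠ i2 ∧ i ≠ i3 ∧ i ≠ i4 ∧ i ≠ i5 ∧ i ≠ i6 ∧ i ≠ i7 ∧ i ≠ i8) := by
    intro i
    simp only [hS, Finset.mem_sdiff, Finset.mem_univ, true_and, List.mem_toFinset, List.mem_cons, List.not_mem_nil, or_false, not_or, ne_eq]
  have hz' : ∀ i ∈ S, (c0 i = 0 ∧ c1 i = 0 ∧ c2 i = 0 ∧ c3 i = 0 ∧ c4 i = 0 ∧ c5 i = 0) := by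
    intro i hi
    obtain ⟨n0, n1, n2, n3, n4, n5, n6, n7, n8⟩ := (hmem i).1 hi
    exact hz i n0 n1 n2 n3 n4 n5 n6 n7 n8
  have e0 : (0 : ℤ) = (1) * c6 i0 + (1) * c6 i1 + (0) * c6 i2 + (0) * c6 i3 + (0) * c6 i4 + (0) * c6 i5 + (0) * c6 i6 + (0) * c6 i7 + (0) * c6 i8 := by
    have h1 := Cfsg.Agent.Lib.Helper76_ShapeLib.sum_split [i0, i1, i2, i3, i4, i5, i6, i7, i8] hnd (fun i => c0 i * c6 i)
    have h2 : ∑ i ∈ S, c0 i * c6 i = 0 := Finset.sum_eq_zero fun i hi => by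
      rw [(hz' i hi).1, zero_mul]
    rw [hG0, h2] at h1
    simp only [List.map_cons, List.map_nil, List.sum_cons, List.sum_nil, v_0_0, v_1_0, v_2_0, v_3_0, v_4_0, v_5_0, v_6_0, v_7_0, v_8_0] at h1
    linarith
  have e1 : (1 : ℤ) = (0) * c6 i0 + (-1) * c6 i1 + (1) * c6 i2 + (1) * c6 i3 + (0) * c6 i4 + (0) * c6 i5 + (0) * c6 i6 + (0) * c6 i7 + (0) * c6 i8 := by
    have h1 := Cfsg.Agent.Lib.Helper76_ShapeLib.sum_split [i0, i1, i2, i3, i4, i5, i6, i7, i8] hnd (fun i => c1 i * c6 i)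
    have h2 : ∑ i ∈ S, c1 i * c6 i = 0 := Finset.sum_eq_zero fun i hi => by
      rw [(hz' i hi).2.1, zero_mul]
    rw [hG1, h2] at h1
    simp only [List.map_cons, List.map_nil, List.sum_cons, List.sum_nil, v_0_1, v_1_1, v_2_1, v_3_1, v_4_1, v_5_1, v_6_1, v_7_1, v_8_1] at h1
    linarith
  have e2 : (1 : ℤ) = (0) * c6 i0 + (0) * c6 i1 + (0) * c6 i2 + (0) * c6 i3 + (1) * c6 i4 + (1) * c6 i5 + (0) * c6 i6 + (0) * c6 i7 + (0) * c6 i8 := by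
    have h1 := Cfsg.Agent.Lib.Helper76_ShapeLib.sum_split [i0, i1, i2, i3, i4, i5, i6, i7, i8] hnd (fun i => c2 i * c6 i)
    have h2 : ∑ i ∈ S, c2 i * c6 i = 0 := Finset.sum_eq_zero fun i hi => by
      rw [(hz' i hi).2.2.1, zero_mul]
    rw [hG2, h2] at h1
    simp only [List.map_cons, List.map_nil, List.sum_cons, List.sum_nil, v_0_2, v_1_2, v_2_2, v_3_2, v_4_2, v_5_2, v_6_2, v_7_2, v_8_2] at h1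
    linarith
  have e3 : (-1 : ℤ) = (0) * c6 i0 + (1) * c6 i1 + (0) * c6 i2 + (0) * c6 i3 + (0) * c6 i4 + (-1) * c6 i5 + (1) * c6 i6 + (0) * c6 i7 + (0) * c6 i8 := by
    have h1 := Cfsg.Agent.Lib.Helper76_ShapeLib.sum_split [i0, i1, i2, i3, i4, i5, i6, i7, i8] hnd (fun i => c3 i * c6 i)
    have h2 : ∑ i ∈ S, c3 i * c6 i = 0 := Finset.sum_eq_zero fun i hi => by
      rw [(hz' i hi).2.2.2.1, zero_mul]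
    rw [hG3, h2] at h1
    simp only [List.map_cons, List.map_nil, List.sum_cons, List.sum_nil, v_0_3, v_1_3, v_2_3, v_3_3, v_4_3, v_5_3, v_6_3, v_7_3, v_8_3] at h1
    linarith
  have e4 : (1 : ℤ) = (0) * c6 i0 + (0) * c6 i1 + (1) * c6 i2 + (0) * c6 i3 + (1) * c6 i4 + (-1) * c6 i5 + (0) * c6 i6 + (0) * c6 i7 + (0) * c6 i8 := by
    have h1 := Cfsg.Agent.Lib.Helper76_ShapeLib.sum_split [i0, i1, i2, i3, i4, i5, i6, i7, i8] hnd (fun i => c4 i * c6 i)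
    have h2 : ∑ i ∈ S, c4 i * c6 i = 0 := Finset.sum_eq_zero fun i hi => by
      rw [(hz' i hi).2.2.2.2.1, zero_mul]
    rw [hG4, h2] at h1
    simp only [List.map_cons, List.map_nil, List.sum_cons, List.sum_nil, v_0_4, v_1_4, v_2_4, v_3_4, v_4_4, v_5_4, v_6_4, v_7_4, v_8_4] at h1
    linarith
  have e5 : (1 : ℤ) = (0) * c6 i0 + (1) * c6 i1 + (0) * c6 i2 + (0) * c6 i3 + (0) * c6 i4 + (0) * c6 i5 + (0) * c6 i6 + (1) * c6 i7 + (1) * c6 i8 := by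
    have h1 := Cfsg.Agent.Lib.Helper76_ShapeLib.sum_split [i0, i1, i2, i3, i4, i5, i6, i7, i8] hnd (fun i => c5 i * c6 i)
    have h2 : ∑ i ∈ S, c5 i * c6 i = 0 := Finset.sum_eq_zero fun i hi => by
      rw [(hz' i hi).2.2.2.2.2, zero_mul]
    rw [hG5, h2] at h1
    simp only [List.map_cons, List.map_nil, List.sum_cons, List.sum_nil, v_0_5, v_1_5, v_2_5, v_3_5, v_4_5, v_5_5, v_6_5, v_7_5, v_8_5] at h1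
    linarith
  have en : (4 : ℤ) = c6 i0 * c6 i0 + c6 i1 * c6 i1 + c6 i2 * c6 i2 + c6 i3 * c6 i3 + c6 i4 * c6 i4 + c6 i5 * c6 i5 + c6 i6 * c6 i6 + c6 i7 * c6 i7 + c6 i8 * c6 i8 + ∑ i ∈ S, c6 i * c6 i := by
    have h1 := Cfsg.Agent.Lib.Helper76_ShapeLib.sum_split [i0, i1, i2, i3, i4, i5, i6, i7, i8] hnd (fun i => c6 i * c6 i)
    rw [hG6] at h1
    simp only [List.map_cons, List.map_nil, List.sum_cons, List.sum_nil] at h1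
    linarith
  have hr : 0 ≤ ∑ i ∈ S, c6 i * c6 i := Finset.sum_nonneg fun i _ => mul_self_nonneg _
  have hnn : ∀ i ∈ S, 0 ≤ c6 i := by
    intro i hi
    obtain ⟨z0, z1, z2, z3, z4, z5⟩ := hz' i hi
    exact hpos i z0 z1 z2 z3 z4 z5
  have hsol := ar_6_2 (c6 i0) (c6 i1) (c6 i2) (c6 i3) (c6 i4) (c6 i5) (c6 i6) (c6 i7) (c6 i8) _ e0 e1 e2 e3 e4 e5 en hr
  rcases hsol with ⟨hx0, hx1, hx2, hx3, hx4, hx5, hx6, hx7, hx8, hrho⟩ | ⟨hx0, hx1, hx2, hx3, hx4, hx5, hx6, hx7, hx8, hrho⟩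
  · -- solution (0, 0, 0, 1, 1, 0, -1, 0, 1), rho = 0
    have hzr := Cfsg.Agent.Lib.Helper76_ShapeLib.rem0 S c6 hrho
    refine ⟨i0, i1, i2, i3, i4, i5, i6, i8, i7, ⟨d_0_1, d_0_2, d_0_3, d_0_4, d_0_5, d_0_6, d_0_8, d_0_7, d_1_2, d_1_3, d_1_4, d_1_5, d_1_6, d_1_8, d_1_7, d_2_3, d_2_4, d_2_5, d_2_6, d_2_8, d_2_7, d_3_4, d_3_5, d_3_6, d_3_8, d_3_7, d_4_5, d_4_6, d_4_8, d_4_7, d_5_6, d_5_8, d_5_7, d_6_8, d_6_7, d_7_8.symm⟩, ⟨v_0_0, v_0_1, v_0_2, v_0_3, v_0_4, v_0_5, hx0, v_1_0, v_1_1, v_1_2, v_1_3, v_1_4, v_1_5, hx1, v_2_0, v_2_1, v_2_2, v_2_3, v_2_4, v_2_5, hx2, v_3_0, v_3_1, v_3_2, v_3_3, v_3_4, v_3_5, hx3, v_4_0, v_4_1, v_4_2, v_4_3, v_4_4, v_4_5, hx4, v_5_0, v_5_1, v_5_2, v_5_3, v_5_4, v_5_5, hx5, v_6_0, v_6_1, v_6_2, v_6_3, v_6_4, v_6_5, hx6, v_8_0, v_8_1, v_8_2, v_8_3, v_8_4, v_8_5, hx8,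 v_7_0, v_7_1, v_7_2, v_7_3, v_7_4, v_7_5, hx7⟩, ?_⟩
    intro i m0 m1 m2 m3 m4 m5 m6 m7 m8
    have hiS : i ∈ S := (hmem i).2 ⟨m0, m1, m2, m3, m4, m5, m6, m8, m7⟩
    obtain ⟨y0, y1, y2, y3, y4, y5⟩ := hz' i hiS
    exact ⟨y0, y1, y2, y3, y4, y5, (hzr i hiS)⟩
  · -- solution (0, 0, 0, 1, 1, 0, -1, 1, 0), rho = 0
    have hzr := Cfsg.Agent.Lib.Helper76_ShapeLib.rem0 S c6 hrho
    refine ⟨i0, i1, i2, i3, i4, i5, i6, i7, i8, ⟨d_0_1, d_0_2, d_0_3, d_0_4, d_0_5, d_0_6, d_0_7, d_0_8, d_1_2, d_1_3, d_1_4, d_1_5, d_1_6, d_1_7, d_1_8, d_2_3, d_2_4, d_2_5, d_2_6, d_2_7, d_2_8, d_3_4, d_3_5, d_3_6, d_3_7, d_3_8, d_4_5, d_4_6, d_4_7, d_4_8, d_5_6, d_5_7, d_5_8, d_6_7, d_6_8, d_7_8⟩, ⟨v_0_0, v_0_1, v_0_2, v_0_3, v_0_4, v_0_5, hx0, v_1_0, v_1_1, v_1_2, v_1_3, v_1_4, v_1_5, hx1, v_2_0, v_2_1, v_2_2, v_2_3,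 v_2_4, v_2_5, hx2, v_3_0, v_3_1, v_3_2, v_3_3, v_3_4, v_3_5, hx3, v_4_0, v_4_1, v_4_2, v_4_3, v_4_4, v_4_5, hx4, v_5_0, v_5_1, v_5_2, v_5_3, v_5_4, v_5_5, hx5, v_6_0, v_6_1, v_6_2, v_6_3, v_6_4, v_6_5, hx6, v_7_0, v_7_1, v_7_2, v_7_3, v_7_4, v_7_5, hx7, v_8_0, v_8_1, v_8_2, v_8_3, v_8_4, v_8_5, hx8⟩, ?_⟩
    intro i m0 m1 m2 m3 m4 m5 m6 m7 m8
    have hiS : i ∈ S := (hmem i).2 ⟨m0, m1, m2, m3, m4, m5, m6, m7, m8⟩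
    obtain ⟨y0, y1, y2, y3, y4, y5⟩ := hz' i hiS
    exact ⟨y0, y1, y2, y3, y4, y5, (hzr i hiS)⟩

theorem ar_6_3 (x0 x1 x2 x3 x4 x5 x6 r : ℤ) (e0 : (0 : ℤ) = (1) * x0 + (1) * x1 + (0) * x2 + (0) * x3 + (0) * x4 + (0) * x5 + (0) * x6) (e1 : (1 : ℤ) = (0) * x0 + (-1) * x1 + (1) * x2 + (1) * x3 + (0) * x4 + (0) * x5 + (0) * x6) (e2 : (1 : ℤ) = (0) * x0 + (0) * x1 + (0) * x2 + (0) * x3 + (1) * x4 + (1) * x5 + (0) * x6) (e3 : (-1 : ℤ) = (0) * x0 + (1) * x1 + (0) * x2 + (0) * x3 + (0) * x4 + (-1) * x5 + (1) * x6) (e4 : (1 : ℤ) = (0) * x0 + (0) * x1 + (1) * x2 + (0) * x3 + (1) * x4 + (-1) * x5 + (0) * x6) (e5 : (1 : ℤ) = (1) * x0 + (0) * x1 + (0) * x2 + (-1) * x3 + (0) * x4 + (0) * x5 + (1) * x6) (en : (4 : ℤ) = x0 * x0 + x1 * x1 + x2 * x2 + x3 * x3 + x4 * x4 + x5 * x5 + x6 * x6 + r) (hr : 0 ≤ r) :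 (x0 = 1 ∧ x1 = -1 ∧ x2 = 0 ∧ x3 = 0 ∧ x4 = 1 ∧ x5 = 0 ∧ x6 = 0 ∧ r = 1) := by
  have hb5 : x5 * x5 ≤ 4 := by linarith [mul_self_nonneg x0, mul_self_nonneg x1, mul_self_nonneg x2, mul_self_nonneg x3, mul_self_nonneg x4, mul_self_nonneg x5, mul_self_nonneg x6]
  obtain ⟨hl5, hu5⟩ := Cfsg.Agent.Lib.Helper76_ShapeLib.bound2 x5 hb5
  have hb6 : x6 * x6 ≤ 4 := by linarith [mul_self_nonneg x0, mul_self_nonneg x1, mul_self_nonneg x2, mul_self_nonneg x3, mul_self_nonneg x4, mul_self_nonneg x5, mul_self_nonneg x6]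
  obtain ⟨hl6, hu6⟩ := Cfsg.Agent.Lib.Helper76_ShapeLib.bound2 x6 hb6
  obtain rfl : x0 = 1 + (-1) * x5 + (1) * x6 := by omega
  obtain rfl : x1 = -1 + (1) * x5 + (-1) * x6 := by omega
  obtain rfl : x4 = 1 + (-1) * x5 := by omega
  obtain rfl : x2 = 0 + (2) * x5 := by omega
  obtain rfl : x3 = 0 + (-1) * x5 + (-1) * x6 := by omega
  interval_cases x5 <;> interval_cases x6 <;> omega

theorem ext_6_3 {ι : Type*} [Fintype ι] [DecidableEq ι] (c0 c1 c2 c3 c4 c5 c6 : ι → ℤ)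
    (hG0 : ∑ i, c0 i * c6 i = 0)
    (hG1 : ∑ i, c1 i * c6 i = 1)
    (hG2 : ∑ i, c2 i * c6 i = 1)
    (hG3 : ∑ i, c3 i * c6 i = -1)
    (hG4 : ∑ i, c4 i * c6 i = 1)
    (hG5 : ∑ i, c5 i * c6 i = 1)
    (hG6 : ∑ i, c6 i * c6 i = 4)
    (hpos : ∀ i, c0 i = 0 → c1 i = 0 → c2 i = 0 → c3 i = 0 → c4 i = 0 → c5 i = 0 → 0 ≤ c6 i)
    (h : St_6_3 c0 c1 c2 c3 c4 c5) :
    St_7_4 c0 c1 c2 c3 c4 c5 c6 := by
  obtain ⟨i0, i1, i2, i3, i4, i5, i6, ⟨d_0_1, d_0_2, d_0_3, d_0_4, d_0_5, d_0_6, d_1_2, d_1_3, d_1_4, d_1_5, d_1_6, d_2_3, d_2_4, d_2_5, d_2_6, d_3_4, d_3_5, d_3_6, d_4_5, d_4_6, d_5_6⟩, ⟨v_0_0, v_0_1, v_0_2, v_0_3, v_0_4, v_0_5, v_1_0, v_1_1, v_1_2, v_1_3, v_1_4, v_1_5, v_2_0, v_2_1, v_2_2, v_2_3, v_2_4, v_2_5, v_3_0, v_3_1, v_3_2, v_3_3, v_3_4, v_3_5, v_4_0, v_4_1, v_4_2, v_4_3, v_4_4, v_4_5, v_5_0,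 v_5_1, v_5_2, v_5_3, v_5_4, v_5_5, v_6_0, v_6_1, v_6_2, v_6_3, v_6_4, v_6_5⟩, hz⟩ := h
  have hnd : ([i0, i1, i2, i3, i4, i5, i6] : List ι).Nodup := by
    simp only [List.nodup_cons, List.mem_cons, List.not_mem_nil, or_false, not_or, List.nodup_nil, and_true, not_false_eq_true]
    exact ⟨⟨d_0_1, d_0_2, d_0_3, d_0_4, d_0_5, d_0_6⟩, ⟨d_1_2, d_1_3, d_1_4, d_1_5, d_1_6⟩, ⟨d_2_3, d_2_4, d_2_5, d_2_6⟩, ⟨d_3_4, d_3_5, d_3_6⟩, ⟨d_4_5, d_4_6⟩, d_5_6⟩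
  set S : Finset ι := Finset.univ \ ([i0, i1, i2, i3, i4, i5, i6] : List ι).toFinset with hS
  have hmem : ∀ i, i ∈ S ↔ (i ≠ i0 ∧ i ≠ i1 ∧ i ≠ i2 ∧ i ≠ i3 ∧ i ≠ i4 ∧ i ≠ i5 ∧ i ≠ i6) := by
    intro i
    simp only [hS, Finset.mem_sdiff, Finset.mem_univ, true_and, List.mem_toFinset, List.mem_cons, List.not_mem_nil, or_false, not_or, ne_eq]
  have hz' : ∀ i ∈ S, (c0 i = 0 ∧ c1 i = 0 ∧ c2 i = 0 ∧ c3 i = 0 ∧ c4 i = 0 ∧ c5 i = 0) := by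
    intro i hi
    obtain ⟨n0, n1, n2, n3, n4, n5, n6⟩ := (hmem i).1 hi
    exact hz i n0 n1 n2 n3 n4 n5 n6
  have e0 : (0 : ℤ) = (1) * c6 i0 + (1) * c6 i1 + (0) * c6 i2 + (0) * c6 i3 + (0) * c6 i4 + (0) * c6 i5 + (0) * c6 i6 := by
    have h1 := Cfsg.Agent.Lib.Helper76_ShapeLib.sum_split [i0, i1, i2, i3, i4, i5, i6] hnd (fun i => c0 i * c6 i)
    have h2 : ∑ i ∈ S, c0 i * c6 i = 0 := Finset.sum_eq_zero fun i hi => by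
      rw [(hz' i hi).1, zero_mul]
    rw [hG0, h2] at h1
    simp only [List.map_cons, List.map_nil, List.sum_cons, List.sum_nil, v_0_0, v_1_0, v_2_0, v_3_0, v_4_0, v_5_0, v_6_0] at h1
    linarith
  have e1 : (1 : ℤ) = (0) * c6 i0 + (-1) * c6 i1 + (1) * c6 i2 + (1) * c6 i3 + (0) * c6 i4 + (0) * c6 i5 + (0) * c6 i6 := by
    have h1 := Cfsg.Agent.Lib.Helper76_ShapeLib.sum_split [i0, i1, i2, i3, i4, i5, i6] hnd (fun i => c1 i * c6 i)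
    have h2 : ∑ i ∈ S, c1 i * c6 i = 0 := Finset.sum_eq_zero fun i hi => by
      rw [(hz' i hi).2.1, zero_mul]
    rw [hG1, h2] at h1
    simp only [List.map_cons, List.map_nil, List.sum_cons, List.sum_nil, v_0_1, v_1_1, v_2_1, v_3_1, v_4_1, v_5_1, v_6_1] at h1
    linarith
  have e2 : (1 : ℤ) = (0) * c6 i0 + (0) * c6 i1 + (0) * c6 i2 + (0) * c6 i3 + (1) * c6 i4 + (1) * c6 i5 + (0) * c6 i6 := by
    have h1 := Cfsg.Agent.Lib.Helper76_ShapeLib.sum_split [i0, i1, i2, i3, i4, i5, i6] hnd (fun i => c2 i * c6 i)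
    have h2 : ∑ i ∈ S, c2 i * c6 i = 0 := Finset.sum_eq_zero fun i hi => by
      rw [(hz' i hi).2.2.1, zero_mul]
    rw [hG2, h2] at h1
    simp only [List.map_cons, List.map_nil, List.sum_cons, List.sum_nil, v_0_2, v_1_2, v_2_2, v_3_2, v_4_2, v_5_2, v_6_2] at h1
    linarith
  have e3 : (-1 : ℤ) = (0) * c6 i0 + (1) * c6 i1 + (0) * c6 i2 + (0) * c6 i3 + (0) * c6 i4 + (-1) * c6 i5 + (1) * c6 i6 := by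
    have h1 := Cfsg.Agent.Lib.Helper76_ShapeLib.sum_split [i0, i1, i2, i3, i4, i5, i6] hnd (fun i => c3 i * c6 i)
    have h2 : ∑ i ∈ S, c3 i * c6 i = 0 := Finset.sum_eq_zero fun i hi => by
      rw [(hz' i hi).2.2.2.1, zero_mul]
    rw [hG3, h2] at h1
    simp only [List.map_cons, List.map_nil, List.sum_cons, List.sum_nil, v_0_3, v_1_3, v_2_3, v_3_3, v_4_3, v_5_3, v_6_3] at h1
    linarith
  have e4 : (1 : ℤ) = (0) * c6 i0 + (0) * c6 i1 + (1) * c6 i2 + (0) * c6 i3 + (1) * c6 i4 + (-1) * c6 i5 + (0) * c6 i6 := by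
    have h1 := Cfsg.Agent.Lib.Helper76_ShapeLib.sum_split [i0, i1, i2, i3, i4, i5, i6] hnd (fun i => c4 i * c6 i)
    have h2 : ∑ i ∈ S, c4 i * c6 i = 0 := Finset.sum_eq_zero fun i hi => by
      rw [(hz' i hi).2.2.2.2.1, zero_mul]
    rw [hG4, h2] at h1
    simp only [List.map_cons, List.map_nil, List.sum_cons, List.sum_nil, v_0_4, v_1_4, v_2_4, v_3_4, v_4_4, v_5_4, v_6_4] at h1
    linarith
  have e5 : (1 : ℤ) = (1) * c6 i0 + (0) * c6 i1 + (0) * c6 i2 + (-1) * c6 i3 + (0) * c6 i4 + (0) * c6 i5 + (1) * c6 i6 := by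
    have h1 := Cfsg.Agent.Lib.Helper76_ShapeLib.sum_split [i0, i1, i2, i3, i4, i5, i6] hnd (fun i => c5 i * c6 i)
    have h2 : ∑ i ∈ S, c5 i * c6 i = 0 := Finset.sum_eq_zero fun i hi => by
      rw [(hz' i hi).2.2.2.2.2, zero_mul]
    rw [hG5, h2] at h1
    simp only [List.map_cons, List.map_nil, List.sum_cons, List.sum_nil, v_0_5, v_1_5, v_2_5, v_3_5, v_4_5, v_5_5, v_6_5] at h1
    linarith
  have en : (4 : ℤ) = c6 i0 * c6 i0 + c6 i1 * c6 i1 + c6 i2 * c6 i2 + c6 i3 * c6 i3 + c6 i4 * c6 i4 + c6 i5 * c6 i5 + c6 i6 * c6 i6 + ∑ i ∈ S, c6 i * c6 i := by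
    have h1 := Cfsg.Agent.Lib.Helper76_ShapeLib.sum_split [i0, i1, i2, i3, i4, i5, i6] hnd (fun i => c6 i * c6 i)
    rw [hG6] at h1
    simp only [List.map_cons, List.map_nil, List.sum_cons, List.sum_nil] at h1
    linarith
  have hr : 0 ≤ ∑ i ∈ S, c6 i * c6 i := Finset.sum_nonneg fun i _ => mul_self_nonneg _
  have hnn : ∀ i ∈ S, 0 ≤ c6 i := by
    intro i hi
    obtain ⟨z0, z1, z2, z3, z4, z5⟩ := hz' i hi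
    exact hpos i z0 z1 z2 z3 z4 z5
  have hsol := ar_6_3 (c6 i0) (c6 i1) (c6 i2) (c6 i3) (c6 i4) (c6 i5) (c6 i6) _ e0 e1 e2 e3 e4 e5 en hr
  rcases hsol with ⟨hx0, hx1, hx2, hx3, hx4, hx5, hx6, hrho⟩
  · -- solution (1, -1, 0, 0, 1, 0, 0), rho = 1
    obtain ⟨a, haS, hfa, hzr⟩ := Cfsg.Agent.Lib.Helper76_ShapeLib.rem1 S c6 hnn hrho
    obtain ⟨na0, na1, na2, na3, na4, na5, na6⟩ := (hmem a).1 haS
    obtain ⟨za0, za1, za2, za3, za4, za5⟩ := hz' a haS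
    refine ⟨i0, i1, i2, i3, i4, i5, i6, a, ⟨d_0_1, d_0_2, d_0_3, d_0_4, d_0_5, d_0_6, na0.symm, d_1_2, d_1_3, d_1_4, d_1_5, d_1_6, na1.symm, d_2_3, d_2_4, d_2_5, d_2_6, na2.symm, d_3_4, d_3_5, d_3_6, na3.symm, d_4_5, d_4_6, na4.symm, d_5_6, na5.symm, na6.symm⟩, ⟨v_0_0, v_0_1, v_0_2, v_0_3, v_0_4, v_0_5, hx0, v_1_0, v_1_1, v_1_2, v_1_3, v_1_4, v_1_5, hx1, v_2_0, v_2_1, v_2_2, v_2_3, v_2_4, v_2_5, hx2, v_3_0, v_3_1, v_3_2, v_3_3, v_3_4, v_3_5, hx3, v_4_0, v_4_1, v_4_2, v_4_3, v_4_4, v_4_5, hx4, v_5_0, v_5_1, v_5_2, v_5_3, v_5_4, v_5_5, hx5, v_6_0, v_6_1, v_6_2, v_6_3, v_6_4, v_6_5, hx6, za0, za1, za2, za3, za4, za5, hfa⟩, ?_⟩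
    intro i m0 m1 m2 m3 m4 m5 m6 m7
    have hiS : i ∈ S := (hmem i).2 ⟨m0, m1, m2, m3, m4, m5, m6⟩
    obtain ⟨y0, y1, y2, y3, y4, y5⟩ := hz' i hiS
    exact ⟨y0, y1, y2, y3, y4, y5, (hzr i hiS m7)⟩

theorem ar_6_4 (x0 x1 x2 x3 x4 x5 x6 r : ℤ) (e0 : (0 : ℤ) = (1) * x0 + (1) * x1 + (0) * x2 + (0) * x3 + (0) * x4 + (0) * x5 + (0) * x6) (e1 : (1 : ℤ) = (0) * x0 + (-1) * x1 + (1) * x2 + (1) * x3 + (0) * x4 + (0) * x5 + (0) * x6) (e2 : (1 : ℤ) = (0) * x0 + (0) * x1 + (0) * x2 + (0) * x3 + (1) * x4 + (1) * x5 + (0) * x6) (e3 : (-1 : ℤ) = (1) * x0 + (0) * x1 + (0) * x2 + (-1) * x3 + (0) * x4 + (-1) * x5 + (0) * x6) (e4 : (1 : ℤ) = (1) * x0 + (-1) * x1 + (0) * x2 + (0) * x3 + (0) * x4 + (0) * x5 + (1) * x6) (e5 : (1 : ℤ) = (1) * x0 + (0) * x1 + (-1) * x2 + (0) * x3 + (0) * x4 + (0) * x5 + (-1) * x6)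 (en : (4 : ℤ) = x0 * x0 + x1 * x1 + x2 * x2 + x3 * x3 + x4 * x4 + x5 * x5 + x6 * x6 + r) (hr : 0 ≤ r) : False := by
  have hb3 : x3 * x3 ≤ 4 := by linarith [mul_self_nonneg x0, mul_self_nonneg x1, mul_self_nonneg x2, mul_self_nonneg x3, mul_self_nonneg x4, mul_self_nonneg x5, mul_self_nonneg x6]
  obtain ⟨hl3, hu3⟩ := Cfsg.Agent.Lib.Helper76_ShapeLib.bound2 x3 hb3
  have hb5 : x5 * x5 ≤ 4 := by linarith [mul_self_nonneg x0, mul_self_nonneg x1, mul_self_nonneg x2, mul_self_nonneg x3, mul_self_nonneg x4, mul_self_nonneg x5, mul_self_nonneg x6]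
  obtain ⟨hl5, hu5⟩ := Cfsg.Agent.Lib.Helper76_ShapeLib.bound2 x5 hb5
  obtain rfl : x0 = -1 + (1) * x3 + (1) * x5 := by omega
  obtain rfl : x1 = 1 + (-1) * x3 + (-1) * x5 := by omega
  obtain rfl : x4 = 1 + (-1) * x5 := by omega
  obtain rfl : x2 = 2 + (-2) * x3 + (-1) * x5 := by omega
  obtain rfl : x6 = 3 + (-2) * x3 + (-2) * x5 := by omega
  interval_cases x3 <;> interval_cases x5 <;> omega

theorem ext_6_4 {ι : Type*} [Fintype ι] [DecidableEq ι] (c0 c1 c2 c3 c4 c5 c6 : ι → ℤ)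
    (hG0 : ∑ i, c0 i * c6 i = 0)
    (hG1 : ∑ i, c1 i * c6 i = 1)
    (hG2 : ∑ i, c2 i * c6 i = 1)
    (hG3 : ∑ i, c3 i * c6 i = -1)
    (hG4 : ∑ i, c4 i * c6 i = 1)
    (hG5 : ∑ i, c5 i * c6 i = 1)
    (hG6 : ∑ i, c6 i * c6 i = 4)
    (hpos : ∀ i, c0 i = 0 → c1 i = 0 → c2 i = 0 → c3 i = 0 → c4 i = 0 → c5 i = 0 → 0 ≤ c6 i)
    (h : St_6_4 c0 c1 c2 c3 c4 c5) :
    False := by
  obtain ⟨i0, i1, i2, i3, i4, i5, i6, ⟨d_0_1, d_0_2, d_0_3, d_0_4, d_0_5, d_0_6, d_1_2, d_1_3, d_1_4, d_1_5, d_1_6, d_2_3, d_2_4, d_2_5, d_2_6, d_3_4, d_3_5, d_3_6, d_4_5, d_4_6, d_5_6⟩, ⟨v_0_0, v_0_1, v_0_2, v_0_3, v_0_4, v_0_5, v_1_0, v_1_1, v_1_2, v_1_3, v_1_4, v_1_5, v_2_0, v_2_1, v_2_2, v_2_3, v_2_4, v_2_5, v_3_0, v_3_1, v_3_2, v_3_3, v_3_4, v_3_5, v_4_0, v_4_1, v_4_2, v_4_3, v_4_4, v_4_5, v_5_0, v_5_1, v_5_2, v_5_3,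 v_5_4, v_5_5, v_6_0, v_6_1, v_6_2, v_6_3, v_6_4, v_6_5⟩, hz⟩ := h
  have hnd : ([i0, i1, i2, i3, i4, i5, i6] : List ι).Nodup := by
    simp only [List.nodup_cons, List.mem_cons, List.not_mem_nil, or_false, not_or, List.nodup_nil, and_true, not_false_eq_true]
    exact ⟨⟨d_0_1, d_0_2, d_0_3, d_0_4, d_0_5, d_0_6⟩, ⟨d_1_2, d_1_3, d_1_4, d_1_5, d_1_6⟩, ⟨d_2_3, d_2_4, d_2_5, d_2_6⟩, ⟨d_3_4, d_3_5, d_3_6⟩, ⟨d_4_5, d_4_6⟩, d_5_6⟩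
  set S : Finset ι := Finset.univ \ ([i0, i1, i2, i3, i4, i5, i6] : List ι).toFinset with hS
  have hmem : ∀ i, i ∈ S ↔ (i ≠ i0 ∧ i ≠ i1 ∧ i ≠ i2 ∧ i ≠ i3 ∧ i ≠ i4 ∧ i ≠ i5 ∧ i ≠ i6) := by
    intro i
    simp only [hS, Finset.mem_sdiff, Finset.mem_univ, true_and, List.mem_toFinset, List.mem_cons, List.not_mem_nil, or_false, not_or, ne_eq]
  have hz' : ∀ i ∈ S, (c0 i = 0 ∧ c1 i = 0 ∧ c2 i = 0 ∧ c3 i = 0 ∧ c4 i = 0 ∧ c5 i = 0) := by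
    intro i hi
    obtain ⟨n0, n1, n2, n3, n4, n5, n6⟩ := (hmem i).1 hi
    exact hz i n0 n1 n2 n3 n4 n5 n6
  have e0 : (0 : ℤ) = (1) * c6 i0 + (1) * c6 i1 + (0) * c6 i2 + (0) * c6 i3 + (0) * c6 i4 + (0) * c6 i5 + (0) * c6 i6 := by
    have h1 := Cfsg.Agent.Lib.Helper76_ShapeLib.sum_split [i0, i1, i2, i3, i4, i5, i6] hnd (fun i => c0 i * c6 i)
    have h2 : ∑ i ∈ S, c0 i * c6 i = 0 := Finset.sum_eq_zero fun i hi => by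
      rw [(hz' i hi).1, zero_mul]
    rw [hG0, h2] at h1
    simp only [List.map_cons, List.map_nil, List.sum_cons, List.sum_nil, v_0_0, v_1_0, v_2_0, v_3_0, v_4_0, v_5_0, v_6_0] at h1
    linarith
  have e1 : (1 : ℤ) = (0) * c6 i0 + (-1) * c6 i1 + (1) * c6 i2 + (1) * c6 i3 + (0) * c6 i4 + (0) * c6 i5 + (0) * c6 i6 := by
    have h1 := Cfsg.Agent.Lib.Helper76_ShapeLib.sum_split [i0, i1, i2, i3, i4, i5, i6] hnd (fun i => c1 i * c6 i)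
    have h2 : ∑ i ∈ S, c1 i * c6 i = 0 := Finset.sum_eq_zero fun i hi => by
      rw [(hz' i hi).2.1, zero_mul]
    rw [hG1, h2] at h1
    simp only [List.map_cons, List.map_nil, List.sum_cons, List.sum_nil, v_0_1, v_1_1, v_2_1, v_3_1, v_4_1, v_5_1, v_6_1] at h1
    linarith
  have e2 : (1 : ℤ) = (0) * c6 i0 + (0) * c6 i1 + (0) * c6 i2 + (0) * c6 i3 + (1) * c6 i4 + (1) * c6 i5 + (0) * c6 i6 := by
    have h1 := Cfsg.Agent.Lib.Helper76_ShapeLib.sum_split [i0, i1, i2, i3, i4, i5, i6] hnd (fun i => c2 i * c6 i)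
    have h2 : ∑ i ∈ S, c2 i * c6 i = 0 := Finset.sum_eq_zero fun i hi => by
      rw [(hz' i hi).2.2.1, zero_mul]
    rw [hG2, h2] at h1
    simp only [List.map_cons, List.map_nil, List.sum_cons, List.sum_nil, v_0_2, v_1_2, v_2_2, v_3_2, v_4_2, v_5_2, v_6_2] at h1
    linarith
  have e3 : (-1 : ℤ) = (1) * c6 i0 + (0) * c6 i1 + (0) * c6 i2 + (-1) * c6 i3 + (0) * c6 i4 + (-1) * c6 i5 + (0) * c6 i6 := by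
    have h1 := Cfsg.Agent.Lib.Helper76_ShapeLib.sum_split [i0, i1, i2, i3, i4, i5, i6] hnd (fun i => c3 i * c6 i)
    have h2 : ∑ i ∈ S, c3 i * c6 i = 0 := Finset.sum_eq_zero fun i hi => by
      rw [(hz' i hi).2.2.2.1, zero_mul]
    rw [hG3, h2] at h1
    simp only [List.map_cons, List.map_nil, List.sum_cons, List.sum_nil, v_0_3, v_1_3, v_2_3, v_3_3, v_4_3, v_5_3, v_6_3] at h1
    linarith
  have e4 : (1 : ℤ) = (1) * c6 i0 + (-1) * c6 i1 + (0) * c6 i2 + (0) * c6 i3 + (0) * c6 i4 + (0) * c6 i5 + (1) * c6 i6 := by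
    have h1 := Cfsg.Agent.Lib.Helper76_ShapeLib.sum_split [i0, i1, i2, i3, i4, i5, i6] hnd (fun i => c4 i * c6 i)
    have h2 : ∑ i ∈ S, c4 i * c6 i = 0 := Finset.sum_eq_zero fun i hi => by
      rw [(hz' i hi).2.2.2.2.1, zero_mul]
    rw [hG4, h2] at h1
    simp only [List.map_cons, List.map_nil, List.sum_cons, List.sum_nil, v_0_4, v_1_4, v_2_4, v_3_4, v_4_4, v_5_4, v_6_4] at h1
    linarith
  have e5 : (1 : ℤ) = (1) * c6 i0 + (0) * c6 i1 + (-1) * c6 i2 + (0) * c6 i3 + (0) * c6 i4 + (0) * c6 i5 + (-1) * c6 i6 := by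
    have h1 := Cfsg.Agent.Lib.Helper76_ShapeLib.sum_split [i0, i1, i2, i3, i4, i5, i6] hnd (fun i => c5 i * c6 i)
    have h2 : ∑ i ∈ S, c5 i * c6 i = 0 := Finset.sum_eq_zero fun i hi => by
      rw [(hz' i hi).2.2.2.2.2, zero_mul]
    rw [hG5, h2] at h1
    simp only [List.map_cons, List.map_nil, List.sum_cons, List.sum_nil, v_0_5, v_1_5, v_2_5, v_3_5, v_4_5, v_5_5, v_6_5] at h1
    linarith
  have en : (4 : ℤ) = c6 i0 * c6 i0 + c6 i1 * c6 i1 + c6 i2 * c6 i2 + c6 i3 * c6 i3 + c6 i4 * c6 i4 + c6 i5 * c6 i5 + c6 i6 * c6 i6 + ∑ i ∈ S, c6 i * c6 i := by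
    have h1 := Cfsg.Agent.Lib.Helper76_ShapeLib.sum_split [i0, i1, i2, i3, i4, i5, i6] hnd (fun i => c6 i * c6 i)
    rw [hG6] at h1
    simp only [List.map_cons, List.map_nil, List.sum_cons, List.sum_nil] at h1
    linarith
  have hr : 0 ≤ ∑ i ∈ S, c6 i * c6 i := Finset.sum_nonneg fun i _ => mul_self_nonneg _
  have hnn : ∀ i ∈ S, 0 ≤ c6 i := by
    intro i hi
    obtain ⟨z0, z1, z2, z3, z4, z5⟩ := hz' i hi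
    exact hpos i z0 z1 z2 z3 z4 z5
  have hsol := ar_6_4 (c6 i0) (c6 i1) (c6 i2) (c6 i3) (c6 i4) (c6 i5) (c6 i6) _ e0 e1 e2 e3 e4 e5 en hr
  exact hsol

theorem ar_6_5 (x0 x1 x2 x3 x4 x5 r : ℤ) (e0 : (0 : ℤ) = (1) * x0 + (1) * x1 + (0) * x2 + (0) * x3 + (0) * x4 + (0) * x5) (e1 : (1 : ℤ) = (0) * x0 + (-1) * x1 + (1) * x2 + (1) * x3 + (0) * x4 + (0) * x5) (e2 : (1 : ℤ) = (0) * x0 + (0) * x1 + (1) * x2 + (-1) * x3 + (0) * x4 + (0) * x5) (e3 : (-1 : ℤ) = (1) * x0 + (0) * x1 + (-1) * x2 + (0) * x3 + (1) * x4 + (0) * x5) (e4 : (1 : ℤ) = (1) * x0 + (-1) * x1 + (0) * x2 + (0) * x3 + (0) * x4 + (1) * x5) (e5 : (1 : ℤ) = (0) * x0 + (1) * x1 + (0) * x2 + (0) * x3 + (1) * x4 + (1) * x5) (en : (4 : ℤ) = x0 * x0 + x1 * x1 + x2 * x2 + x3 * x3 + x4 * x4 + x5 * x5 + r) (hr : 0 ≤ r) : (x0 = 0 ∧ x1 = 0 ∧ x2 =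 1 ∧ x3 = 0 ∧ x4 = 0 ∧ x5 = 1 ∧ r = 2) := by
  have hb3 : x3 * x3 ≤ 4 := by linarith [mul_self_nonneg x0, mul_self_nonneg x1, mul_self_nonneg x2, mul_self_nonneg x3, mul_self_nonneg x4, mul_self_nonneg x5]
  obtain ⟨hl3, hu3⟩ := Cfsg.Agent.Lib.Helper76_ShapeLib.bound2 x3 hb3
  obtain rfl : x0 = 0 + (-2) * x3 := by omega
  obtain rfl : x1 = 0 + (2) * x3 := by omega
  obtain rfl : x2 = 1 + (1) * x3 := by omega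
  obtain rfl : x4 = 0 + (3) * x3 := by omega
  obtain rfl : x5 = 1 + (4) * x3 := by omega
  interval_cases x3 <;> omega

theorem ext_6_5 {ι : Type*} [Fintype ι] [DecidableEq ι] (c0 c1 c2 c3 c4 c5 c6 : ι → ℤ)
    (hG0 : ∑ i, c0 i * c6 i = 0)
    (hG1 : ∑ i, c1 i * c6 i = 1)
    (hG2 : ∑ i, c2 i * c6 i = 1)
    (hG3 : ∑ i, c3 i * c6 i = -1)
    (hG4 : ∑ i, c4 i * c6 i = 1)
    (hG5 : ∑ i, c5 i * c6 i = 1)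
    (hG6 : ∑ i, c6 i * c6 i = 4)
    (hpos : ∀ i, c0 i = 0 → c1 i = 0 → c2 i = 0 → c3 i = 0 → c4 i = 0 → c5 i = 0 → 0 ≤ c6 i)
    (h : St_6_5 c0 c1 c2 c3 c4 c5) :
    St_7_5 c0 c1 c2 c3 c4 c5 c6 := by
  obtain ⟨i0, i1, i2, i3, i4, i5, ⟨d_0_1, d_0_2, d_0_3, d_0_4, d_0_5, d_1_2, d_1_3, d_1_4, d_1_5, d_2_3, d_2_4, d_2_5, d_3_4, d_3_5, d_4_5⟩, ⟨v_0_0, v_0_1, v_0_2, v_0_3, v_0_4, v_0_5, v_1_0, v_1_1, v_1_2, v_1_3, v_1_4, v_1_5, v_2_0, v_2_1, v_2_2, v_2_3, v_2_4, v_2_5, v_3_0, v_3_1, v_3_2, v_3_3, v_3_4, v_3_5, v_4_0, v_4_1, v_4_2, v_4_3, v_4_4, v_4_5, v_5_0, v_5_1, v_5_2, v_5_3, v_5_4, v_5_5⟩, hz⟩ := h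
  have hnd : ([i0, i1, i2, i3, i4, i5] : List ι).Nodup := by
    simp only [List.nodup_cons, List.mem_cons, List.not_mem_nil, or_false, not_or, List.nodup_nil, and_true, not_false_eq_true]
    exact ⟨⟨d_0_1, d_0_2, d_0_3, d_0_4, d_0_5⟩, ⟨d_1_2, d_1_3, d_1_4, d_1_5⟩, ⟨d_2_3, d_2_4, d_2_5⟩, ⟨d_3_4, d_3_5⟩, d_4_5⟩
  set S : Finset ι := Finset.univ \ ([i0, i1, i2, i3, i4, i5] : List ι).toFinset with hS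
  have hmem : ∀ i, i ∈ S ↔ (i ≠ i0 ∧ i ≠ i1 ∧ i ≠ i2 ∧ i ≠ i3 ∧ i ≠ i4 ∧ i ≠ i5) := by
    intro i
    simp only [hS, Finset.mem_sdiff, Finset.mem_univ, true_and, List.mem_toFinset, List.mem_cons, List.not_mem_nil, or_false, not_or, ne_eq]
  have hz' : ∀ i ∈ S, (c0 i = 0 ∧ c1 i = 0 ∧ c2 i = 0 ∧ c3 i = 0 ∧ c4 i = 0 ∧ c5 i = 0) := by
    intro i hi
    obtain ⟨n0, n1, n2, n3, n4, n5⟩ := (hmem i).1 hi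
    exact hz i n0 n1 n2 n3 n4 n5
  have e0 : (0 : ℤ) = (1) * c6 i0 + (1) * c6 i1 + (0) * c6 i2 + (0) * c6 i3 + (0) * c6 i4 + (0) * c6 i5 := by
    have h1 := Cfsg.Agent.Lib.Helper76_ShapeLib.sum_split [i0, i1, i2, i3, i4, i5] hnd (fun i => c0 i * c6 i)
    have h2 : ∑ i ∈ S, c0 i * c6 i = 0 := Finset.sum_eq_zero fun i hi => by
      rw [(hz' i hi).1, zero_mul]
    rw [hG0, h2] at h1
    simp only [List.map_cons, List.map_nil, List.sum_cons, List.sum_nil, v_0_0, v_1_0, v_2_0, v_3_0, v_4_0, v_5_0] at h1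
    linarith
  have e1 : (1 : ℤ) = (0) * c6 i0 + (-1) * c6 i1 + (1) * c6 i2 + (1) * c6 i3 + (0) * c6 i4 + (0) * c6 i5 := by
    have h1 := Cfsg.Agent.Lib.Helper76_ShapeLib.sum_split [i0, i1, i2, i3, i4, i5] hnd (fun i => c1 i * c6 i)
    have h2 : ∑ i ∈ S, c1 i * c6 i = 0 := Finset.sum_eq_zero fun i hi => by
      rw [(hz' i hi).2.1, zero_mul]
    rw [hG1, h2] at h1
    simp only [List.map_cons, List.map_nil, List.sum_cons, List.sum_nil, v_0_1, v_1_1, v_2_1, v_3_1, v_4_1, v_5_1] at h1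
    linarith
  have e2 : (1 : ℤ) = (0) * c6 i0 + (0) * c6 i1 + (1) * c6 i2 + (-1) * c6 i3 + (0) * c6 i4 + (0) * c6 i5 := by
    have h1 := Cfsg.Agent.Lib.Helper76_ShapeLib.sum_split [i0, i1, i2, i3, i4, i5] hnd (fun i => c2 i * c6 i)
    have h2 : ∑ i ∈ S, c2 i * c6 i = 0 := Finset.sum_eq_zero fun i hi => by
      rw [(hz' i hi).2.2.1, zero_mul]
    rw [hG2, h2] at h1
    simp only [List.map_cons, List.map_nil, List.sum_cons, List.sum_nil, v_0_2, v_1_2, v_2_2, v_3_2, v_4_2, v_5_2] at h1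
    linarith
  have e3 : (-1 : ℤ) = (1) * c6 i0 + (0) * c6 i1 + (-1) * c6 i2 + (0) * c6 i3 + (1) * c6 i4 + (0) * c6 i5 := by
    have h1 := Cfsg.Agent.Lib.Helper76_ShapeLib.sum_split [i0, i1, i2, i3, i4, i5] hnd (fun i => c3 i * c6 i)
    have h2 : ∑ i ∈ S, c3 i * c6 i = 0 := Finset.sum_eq_zero fun i hi => by
      rw [(hz' i hi).2.2.2.1, zero_mul]
    rw [hG3, h2] at h1
    simp only [List.map_cons, List.map_nil, List.sum_cons, List.sum_nil, v_0_3, v_1_3, v_2_3, v_3_3, v_4_3, v_5_3] at h1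
    linarith
  have e4 : (1 : ℤ) = (1) * c6 i0 + (-1) * c6 i1 + (0) * c6 i2 + (0) * c6 i3 + (0) * c6 i4 + (1) * c6 i5 := by
    have h1 := Cfsg.Agent.Lib.Helper76_ShapeLib.sum_split [i0, i1, i2, i3, i4, i5] hnd (fun i => c4 i * c6 i)
    have h2 : ∑ i ∈ S, c4 i * c6 i = 0 := Finset.sum_eq_zero fun i hi => by
      rw [(hz' i hi).2.2.2.2.1, zero_mul]
    rw [hG4, h2] at h1
    simp only [List.map_cons, List.map_nil, List.sum_cons, List.sum_nil, v_0_4, v_1_4, v_2_4, v_3_4, v_4_4, v_5_4] at h1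
    linarith
  have e5 : (1 : ℤ) = (0) * c6 i0 + (1) * c6 i1 + (0) * c6 i2 + (0) * c6 i3 + (1) * c6 i4 + (1) * c6 i5 := by
    have h1 := Cfsg.Agent.Lib.Helper76_ShapeLib.sum_split [i0, i1, i2, i3, i4, i5] hnd (fun i => c5 i * c6 i)
    have h2 : ∑ i ∈ S, c5 i * c6 i = 0 := Finset.sum_eq_zero fun i hi => by
      rw [(hz' i hi).2.2.2.2.2, zero_mul]
    rw [hG5, h2] at h1
    simp only [List.map_cons, List.map_nil, List.sum_cons, List.sum_nil, v_0_5, v_1_5, v_2_5, v_3_5, v_4_5, v_5_5] at h1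
    linarith
  have en : (4 : ℤ) = c6 i0 * c6 i0 + c6 i1 * c6 i1 + c6 i2 * c6 i2 + c6 i3 * c6 i3 + c6 i4 * c6 i4 + c6 i5 * c6 i5 + ∑ i ∈ S, c6 i * c6 i := by
    have h1 := Cfsg.Agent.Lib.Helper76_ShapeLib.sum_split [i0, i1, i2, i3, i4, i5] hnd (fun i => c6 i * c6 i)
    rw [hG6] at h1
    simp only [List.map_cons, List.map_nil, List.sum_cons, List.sum_nil] at h1
    linarith
  have hr : 0 ≤ ∑ i ∈ S, c6 i * c6 i := Finset.sum_nonneg fun i _ => mul_self_nonneg _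
  have hnn : ∀ i ∈ S, 0 ≤ c6 i := by
    intro i hi
    obtain ⟨z0, z1, z2, z3, z4, z5⟩ := hz' i hi
    exact hpos i z0 z1 z2 z3 z4 z5
  have hsol := ar_6_5 (c6 i0) (c6 i1) (c6 i2) (c6 i3) (c6 i4) (c6 i5) _ e0 e1 e2 e3 e4 e5 en hr
  rcases hsol with ⟨hx0, hx1, hx2, hx3, hx4, hx5, hrho⟩
  · -- solution (0, 0, 1, 0, 0, 1), rho = 2
    obtain ⟨a, haS, b, hbS, hab, hfa, hfb, hzr⟩ := Cfsg.Agent.Lib.Helper76_ShapeLib.rem2 S c6 hnn hrho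
    obtain ⟨na0, na1, na2, na3, na4, na5⟩ := (hmem a).1 haS
    obtain ⟨za0, za1, za2, za3, za4, za5⟩ := hz' a haS
    obtain ⟨nb0, nb1, nb2, nb3, nb4, nb5⟩ := (hmem b).1 hbS
    obtain ⟨zb0, zb1, zb2, zb3, zb4, zb5⟩ := hz' b hbS
    refine ⟨i0, i1, i2, i3, i4, i5, a, b, ⟨d_0_1, d_0_2, d_0_3, d_0_4, d_0_5, na0.symm, nb0.symm, d_1_2, d_1_3, d_1_4, d_1_5, na1.symm, nb1.symm, d_2_3, d_2_4, d_2_5, na2.symm, nb2.symm, d_3_4, d_3_5, na3.symm, nb3.symm, d_4_5, na4.symm, nb4.symm, na5.symm, nb5.symm, hab⟩, ⟨v_0_0, v_0_1, v_0_2, v_0_3, v_0_4, v_0_5, hx0, v_1_0, v_1_1, v_1_2, v_1_3, v_1_4, v_1_5, hx1, v_2_0, v_2_1, v_2_2, v_2_3, v_2_4, v_2_5, hx2, v_3_0, v_3_1, v_3_2, v_3_3, v_3_4, v_3_5, hx3, v_4_0, v_4_1, v_4_2, v_4_3, v_4_4, v_4_5, hx4, v_5_0, v_5_1, v_5_2, v_5_3, v_5_4, v_5_5, hx5, za0, za1, za2,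 za3, za4, za5, hfa, zb0, zb1, zb2, zb3, zb4, zb5, hfb⟩, ?_⟩
    intro i m0 m1 m2 m3 m4 m5 m6 m7
    have hiS : i ∈ S := (hmem i).2 ⟨m0, m1, m2, m3, m4, m5⟩
    obtain ⟨y0, y1, y2, y3, y4, y5⟩ := hz' i hiS
    exact ⟨y0, y1, y2, y3, y4, y5, (hzr i hiS m6 m7)⟩

theorem ar_7_0 (x0 x1 x2 x3 x4 x5 x6 x7 x8 x9 r : ℤ) (e0 : (0 : ℤ) = (1) * x0 + (1) * x1 + (0) * x2 + (0) * x3 + (0) * x4 + (0) * x5 + (0) * x6 + (0) * x7 + (0) * x8 + (0) * x9) (e1 : (1 : ℤ) = (0) * x0 + (-1) * x1 + (1) * x2 + (1) * x3 + (0) * x4 + (0) * x5 + (0) * x6 + (0) * x7 + (0) * x8 + (0) * x9) (e2 : (1 : ℤ) = (0) * x0 + (0) * x1 + (0) * x2 + (0) * x3 + (1) * x4 + (1) * x5 + (0) * x6 + (0) * x7 + (0) * x8 + (0) * x9) (e3 : (-1 : ℤ) = (0) * x0 + (1) * x1 + (0) * x2 + (0) * x3 + (0) * x4 + (-1) * x5 + (1) * x6 + (0) * x7 + (0) * x8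 + (0) * x9) (e4 : (0 : ℤ) = (0) * x0 + (0) * x1 + (1) * x2 + (0) * x3 + (0) * x4 + (0) * x5 + (1) * x6 + (1) * x7 + (0) * x8 + (0) * x9) (e5 : (0 : ℤ) = (0) * x0 + (1) * x1 + (0) * x2 + (0) * x3 + (0) * x4 + (0) * x5 + (0) * x6 + (0) * x7 + (1) * x8 + (1) * x9) (e6 : (1 : ℤ) = (0) * x0 + (0) * x1 + (0) * x2 + (1) * x3 + (0) * x4 + (1) * x5 + (0) * x6 + (1) * x7 + (1) * x8 + (0) * x9) (en : (3 : ℤ) = x0 * x0 + x1 * x1 + x2 * x2 + x3 * x3 + x4 * x4 + x5 * x5 + x6 * x6 + x7 * x7 + x8 * x8 + x9 * x9 + r) (hr : 0 ≤ r) : False := by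
  have hb6 : x6 * x6 ≤ 3 := by linarith [mul_self_nonneg x0, mul_self_nonneg x1, mul_self_nonneg x2, mul_self_nonneg x3, mul_self_nonneg x4, mul_self_nonneg x5, mul_self_nonneg x6, mul_self_nonneg x7, mul_self_nonneg x8, mul_self_nonneg x9]
  obtain ⟨hl6, hu6⟩ := Cfsg.Agent.Lib.Helper76_ShapeLib.bound1 x6 hb6
  have hb7 : x7 * x7 ≤ 3 := by linarith [mul_self_nonneg x0, mul_self_nonneg x1, mul_self_nonneg x2, mul_self_nonneg x3, mul_self_nonneg x4, mul_self_nonneg x5, mul_self_nonneg x6, mul_self_nonneg x7, mul_self_nonneg x8, mul_self_nonneg x9]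
  obtain ⟨hl7, hu7⟩ := Cfsg.Agent.Lib.Helper76_ShapeLib.bound1 x7 hb7
  have hb9 : x9 * x9 ≤ 3 := by linarith [mul_self_nonneg x0, mul_self_nonneg x1, mul_self_nonneg x2, mul_self_nonneg x3, mul_self_nonneg x4, mul_self_nonneg x5, mul_self_nonneg x6, mul_self_nonneg x7, mul_self_nonneg x8, mul_self_nonneg x9]
  obtain ⟨hl9, hu9⟩ := Cfsg.Agent.Lib.Helper76_ShapeLib.bound1 x9 hb9
  obtain rfl : x0 = 1 + (2) * x6 + (2) * x7 + (-1) * x9 := by omega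
  obtain rfl : x1 = -1 + (-2) * x6 + (-2) * x7 + (1) * x9 := by omega
  obtain rfl : x4 = 1 + (1) * x6 + (2) * x7 + (-1) * x9 := by omega
  obtain rfl : x2 = 0 + (-1) * x6 + (-1) * x7 := by omega
  obtain rfl : x3 = 0 + (-1) * x6 + (-1) * x7 + (1) * x9 := by omega
  obtain rfl : x5 = 0 + (-1) * x6 + (-2) * x7 + (1) * x9 := by omega
  obtain rfl : x8 = 1 + (2) * x6 + (2) * x7 + (-2) * x9 := by omega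
  interval_cases x6 <;> interval_cases x7 <;> interval_cases x9 <;> omega

theorem ext_7_0 {ι : Type*} [Fintype ι] [DecidableEq ι] (c0 c1 c2 c3 c4 c5 c6 c7 : ι → ℤ)
    (hG0 : ∑ i, c0 i * c7 i = 0)
    (hG1 : ∑ i, c1 i * c7 i = 1)
    (hG2 : ∑ i, c2 i * c7 i = 1)
    (hG3 : ∑ i, c3 i * c7 i = -1)
    (hG4 : ∑ i, c4 i * c7 i = 0)
    (hG5 : ∑ i, c5 i * c7 i = 0)
    (hG6 : ∑ i, c6 i * c7 i = 1)
    (hG7 : ∑ i, c7 i * c7 i = 3)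
    (hpos : ∀ i, c0 i = 0 → c1 i = 0 → c2 i = 0 → c3 i = 0 → c4 i = 0 → c5 i = 0 → c6 i = 0 → 0 ≤ c7 i)
    (h : St_7_0 c0 c1 c2 c3 c4 c5 c6) :
    False := by
  obtain ⟨i0, i1, i2, i3, i4, i5, i6, i7, i8, i9, ⟨d_0_1, d_0_2, d_0_3, d_0_4, d_0_5, d_0_6, d_0_7, d_0_8, d_0_9, d_1_2, d_1_3, d_1_4, d_1_5, d_1_6, d_1_7, d_1_8, d_1_9, d_2_3, d_2_4, d_2_5, d_2_6, d_2_7, d_2_8, d_2_9, d_3_4, d_3_5, d_3_6, d_3_7, d_3_8, d_3_9, d_4_5, d_4_6, d_4_7, d_4_8, d_4_9, d_5_6, d_5_7, d_5_8, d_5_9, d_6_7, d_6_8, d_6_9, d_7_8, d_7_9, d_8_9⟩, ⟨v_0_0, v_0_1, v_0_2, v_0_3, v_0_4, v_0_5, v_0_6, v_1_0, v_1_1, v_1_2, v_1_3, v_1_4, v_1_5, v_1_6, v_2_0, v_2_1, v_2_2, v_2_3, v_2_4, v_2_5, v_2_6, v_3_0, v_3_1, v_3_2, v_3_3, v_3_4, v_3_5, v_3_6, v_4_0, v_4_1, v_4_2, v_4_3, v_4_4, v_4_5, v_4_6, v_5_0, v_5_1, v_5_2, v_5_3, v_5_4,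 v_5_5, v_5_6, v_6_0, v_6_1, v_6_2, v_6_3, v_6_4, v_6_5, v_6_6, v_7_0, v_7_1, v_7_2, v_7_3, v_7_4, v_7_5, v_7_6, v_8_0, v_8_1, v_8_2, v_8_3, v_8_4, v_8_5, v_8_6, v_9_0, v_9_1, v_9_2, v_9_3, v_9_4, v_9_5, v_9_6⟩, hz⟩ := h
  have hnd : ([i0, i1, i2, i3, i4, i5, i6, i7, i8, i9] : List ι).Nodup := by
    simp only [List.nodup_cons, List.mem_cons, List.not_mem_nil, or_false, not_or, List.nodup_nil, and_true, not_false_eq_true]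
    exact ⟨⟨d_0_1, d_0_2, d_0_3, d_0_4, d_0_5, d_0_6, d_0_7, d_0_8, d_0_9⟩, ⟨d_1_2, d_1_3, d_1_4, d_1_5, d_1_6, d_1_7, d_1_8, d_1_9⟩, ⟨d_2_3, d_2_4, d_2_5, d_2_6, d_2_7, d_2_8, d_2_9⟩, ⟨d_3_4, d_3_5, d_3_6, d_3_7, d_3_8, d_3_9⟩, ⟨d_4_5, d_4_6, d_4_7, d_4_8, d_4_9⟩, ⟨d_5_6, d_5_7, d_5_8, d_5_9⟩, ⟨d_6_7, d_6_8, d_6_9⟩, ⟨d_7_8, d_7_9⟩, d_8_9⟩
  set S : Finset ι := Finset.univ \ ([i0, i1, i2, i3, i4, i5, i6, i7, i8, i9] : List ι).toFinset with hS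
  have hmem : ∀ i, i ∈ S ↔ (i ≠ i0 ∧ i ≠ i1 ∧ i ≠ i2 ∧ i ≠ i3 ∧ i ≠ i4 ∧ i ≠ i5 ∧ i ≠ i6 ∧ i ≠ i7 ∧ i ≠ i8 ∧ i ≠ i9) := by
    intro i
    simp only [hS, Finset.mem_sdiff, Finset.mem_univ, true_and, List.mem_toFinset, List.mem_cons, List.not_mem_nil, or_false, not_or, ne_eq]
  have hz' : ∀ i ∈ S, (c0 i = 0 ∧ c1 i = 0 ∧ c2 i = 0 ∧ c3 i = 0 ∧ c4 i = 0 ∧ c5 i = 0 ∧ c6 i = 0) := by
    intro i hi
    obtain ⟨n0, n1, n2, n3, n4, n5, n6, n7, n8, n9⟩ := (hmem i).1 hi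
    exact hz i n0 n1 n2 n3 n4 n5 n6 n7 n8 n9
  have e0 : (0 : ℤ) = (1) * c7 i0 + (1) * c7 i1 + (0) * c7 i2 + (0) * c7 i3 + (0) * c7 i4 + (0) * c7 i5 + (0) * c7 i6 + (0) * c7 i7 + (0) * c7 i8 + (0) * c7 i9 := by
    have h1 := Cfsg.Agent.Lib.Helper76_ShapeLib.sum_split [i0, i1, i2, i3, i4, i5, i6, i7, i8, i9] hnd (fun i => c0 i * c7 i)
    have h2 : ∑ i ∈ S, c0 i * c7 i = 0 := Finset.sum_eq_zero fun i hi => by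
      rw [(hz' i hi).1, zero_mul]
    rw [hG0, h2] at h1
    simp only [List.map_cons, List.map_nil, List.sum_cons, List.sum_nil, v_0_0, v_1_0, v_2_0, v_3_0, v_4_0, v_5_0, v_6_0, v_7_0, v_8_0, v_9_0] at h1
    linarith
  have e1 : (1 : ℤ) = (0) * c7 i0 + (-1) * c7 i1 + (1) * c7 i2 + (1) * c7 i3 + (0) * c7 i4 + (0) * c7 i5 + (0) * c7 i6 + (0) * c7 i7 + (0) * c7 i8 + (0) * c7 i9 := by
    have h1 := Cfsg.Agent.Lib.Helper76_ShapeLib.sum_split [i0, i1, i2, i3, i4, i5, i6, i7, i8, i9] hnd (fun i => c1 i * c7 i)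
    have h2 : ∑ i ∈ S, c1 i * c7 i = 0 := Finset.sum_eq_zero fun i hi => by
      rw [(hz' i hi).2.1, zero_mul]
    rw [hG1, h2] at h1
    simp only [List.map_cons, List.map_nil, List.sum_cons, List.sum_nil, v_0_1, v_1_1, v_2_1, v_3_1, v_4_1, v_5_1, v_6_1, v_7_1, v_8_1, v_9_1] at h1
    linarith
  have e2 : (1 : ℤ) = (0) * c7 i0 + (0) * c7 i1 + (0) * c7 i2 + (0) * c7 i3 + (1) * c7 i4 + (1) * c7 i5 + (0) * c7 i6 + (0) * c7 i7 + (0) * c7 i8 + (0) * c7 i9 := by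
    have h1 := Cfsg.Agent.Lib.Helper76_ShapeLib.sum_split [i0, i1, i2, i3, i4, i5, i6, i7, i8, i9] hnd (fun i => c2 i * c7 i)
    have h2 : ∑ i ∈ S, c2 i * c7 i = 0 := Finset.sum_eq_zero fun i hi => by
      rw [(hz' i hi).2.2.1, zero_mul]
    rw [hG2, h2] at h1
    simp only [List.map_cons, List.map_nil, List.sum_cons, List.sum_nil, v_0_2, v_1_2, v_2_2, v_3_2, v_4_2, v_5_2, v_6_2, v_7_2, v_8_2, v_9_2] at h1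
    linarith
  have e3 : (-1 : ℤ) = (0) * c7 i0 + (1) * c7 i1 + (0) * c7 i2 + (0) * c7 i3 + (0) * c7 i4 + (-1) * c7 i5 + (1) * c7 i6 + (0) * c7 i7 + (0) * c7 i8 + (0) * c7 i9 := by
    have h1 := Cfsg.Agent.Lib.Helper76_ShapeLib.sum_split [i0, i1, i2, i3, i4, i5, i6, i7, i8, i9] hnd (fun i => c3 i * c7 i)
    have h2 : ∑ i ∈ S, c3 i * c7 i = 0 := Finset.sum_eq_zero fun i hi => by
      rw [(hz' i hi).2.2.2.1, zero_mul]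
    rw [hG3, h2] at h1
    simp only [List.map_cons, List.map_nil, List.sum_cons, List.sum_nil, v_0_3, v_1_3, v_2_3, v_3_3, v_4_3, v_5_3, v_6_3, v_7_3, v_8_3, v_9_3] at h1
    linarith
  have e4 : (0 : ℤ) = (0) * c7 i0 + (0) * c7 i1 + (1) * c7 i2 + (0) * c7 i3 + (0) * c7 i4 + (0) * c7 i5 + (1) * c7 i6 + (1) * c7 i7 + (0) * c7 i8 + (0) * c7 i9 := by
    have h1 := Cfsg.Agent.Lib.Helper76_ShapeLib.sum_split [i0, i1, i2, i3, i4, i5, i6, i7, i8, i9] hnd (fun i => c4 i * c7 i)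
    have h2 : ∑ i ∈ S, c4 i * c7 i = 0 := Finset.sum_eq_zero fun i hi => by
      rw [(hz' i hi).2.2.2.2.1, zero_mul]
    rw [hG4, h2] at h1
    simp only [List.map_cons, List.map_nil, List.sum_cons, List.sum_nil, v_0_4, v_1_4, v_2_4, v_3_4, v_4_4, v_5_4, v_6_4, v_7_4, v_8_4, v_9_4] at h1
    linarith
  have e5 : (0 : ℤ) = (0) * c7 i0 + (1) * c7 i1 + (0) * c7 i2 + (0) * c7 i3 + (0) * c7 i4 + (0) * c7 i5 + (0) * c7 i6 + (0) * c7 i7 + (1) * c7 i8 + (1) * c7 i9 := by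
    have h1 := Cfsg.Agent.Lib.Helper76_ShapeLib.sum_split [i0, i1, i2, i3, i4, i5, i6, i7, i8, i9] hnd (fun i => c5 i * c7 i)
    have h2 : ∑ i ∈ S, c5 i * c7 i = 0 := Finset.sum_eq_zero fun i hi => by
      rw [(hz' i hi).2.2.2.2.2.1, zero_mul]
    rw [hG5, h2] at h1
    simp only [List.map_cons, List.map_nil, List.sum_cons, List.sum_nil, v_0_5, v_1_5, v_2_5, v_3_5, v_4_5, v_5_5, v_6_5, v_7_5, v_8_5, v_9_5] at h1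
    linarith
  have e6 : (1 : ℤ) = (0) * c7 i0 + (0) * c7 i1 + (0) * c7 i2 + (1) * c7 i3 + (0) * c7 i4 + (1) * c7 i5 + (0) * c7 i6 + (1) * c7 i7 + (1) * c7 i8 + (0) * c7 i9 := by
    have h1 := Cfsg.Agent.Lib.Helper76_ShapeLib.sum_split [i0, i1, i2, i3, i4, i5, i6, i7, i8, i9] hnd (fun i => c6 i * c7 i)
    have h2 : ∑ i ∈ S, c6 i * c7 i = 0 := Finset.sum_eq_zero fun i hi => by
      rw [(hz' i hi).2.2.2.2.2.2, zero_mul]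
    rw [hG6, h2] at h1
    simp only [List.map_cons, List.map_nil, List.sum_cons, List.sum_nil, v_0_6, v_1_6, v_2_6, v_3_6, v_4_6, v_5_6, v_6_6, v_7_6, v_8_6, v_9_6] at h1
    linarith
  have en : (3 : ℤ) = c7 i0 * c7 i0 + c7 i1 * c7 i1 + c7 i2 * c7 i2 + c7 i3 * c7 i3 + c7 i4 * c7 i4 + c7 i5 * c7 i5 + c7 i6 * c7 i6 + c7 i7 * c7 i7 + c7 i8 * c7 i8 + c7 i9 * c7 i9 + ∑ i ∈ S, c7 i * c7 i := by
    have h1 := Cfsg.Agent.Lib.Helper76_ShapeLib.sum_split [i0, i1, i2, i3, i4, i5, i6, i7, i8, i9] hnd (fun i => c7 i * c7 i)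
    rw [hG7] at h1
    simp only [List.map_cons, List.map_nil, List.sum_cons, List.sum_nil] at h1
    linarith
  have hr : 0 ≤ ∑ i ∈ S, c7 i * c7 i := Finset.sum_nonneg fun i _ => mul_self_nonneg _
  have hnn : ∀ i ∈ S, 0 ≤ c7 i := by
    intro i hi
    obtain ⟨z0, z1, z2, z3, z4, z5, z6⟩ := hz' i hi
    exact hpos i z0 z1 z2 z3 z4 z5 z6
  have hsol := ar_7_0 (c7 i0) (c7 i1) (c7 i2) (c7 i3) (c7 i4) (c7 i5) (c7 i6) (c7 i7) (c7 i8) (c7 i9) _ e0 e1 e2 e3 e4 e5 e6 en hr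
  exact hsol

theorem ar_7_1 (x0 x1 x2 x3 x4 x5 x6 x7 x8 x9 x10 r : ℤ) (e0 : (0 : ℤ) = (1) * x0 + (1) * x1 + (0) * x2 + (0) * x3 + (0) * x4 + (0) * x5 + (0) * x6 + (0) * x7 + (0) * x8 + (0) * x9 + (0) * x10) (e1 : (1 : ℤ) = (0) * x0 + (-1) * x1 + (1) * x2 + (1) * x3 + (0) * x4 + (0) * x5 + (0) * x6 + (0) * x7 + (0) * x8 + (0) * x9 + (0) * x10) (e2 : (1 : ℤ) = (0) * x0 + (0) * x1 + (0) * x2 + (0) * x3 + (1) * x4 + (1) * x5 + (0) * x6 + (0) * x7 + (0) * x8 + (0) * x9 + (0) * x10) (e3 : (-1 : ℤ) = (0) * x0 + (1) * x1 + (0) * x2 + (0) * x3 + (0) * x4 + (-1) * x5 + (1) * x6 + (0) * x7 + (0) * x8 + (0) * x9 + (0) * x10) (e4 : (0 : ℤ) = (0) * x0 + (0) * x1 + (1) * x2 + (0) * x3 + (0) * x4 + (0) * x5 + (1) * x6 + (1) * x7 + (0) * x8 + (0) * x9 + (0) * x10) (e5 : (0 : ℤ) = (0) * x0 + (1) * x1 + (0) *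 x2 + (0) * x3 + (0) * x4 + (0) * x5 + (0) * x6 + (0) * x7 + (1) * x8 + (1) * x9 + (0) * x10) (e6 : (1 : ℤ) = (0) * x0 + (0) * x1 + (1) * x2 + (0) * x3 + (0) * x4 + (1) * x5 + (0) * x6 + (0) * x7 + (1) * x8 + (0) * x9 + (1) * x10) (en : (3 : ℤ) = x0 * x0 + x1 * x1 + x2 * x2 + x3 * x3 + x4 * x4 + x5 * x5 + x6 * x6 + x7 * x7 + x8 * x8 + x9 * x9 + x10 * x10 + r) (hr : 0 ≤ r) : (x0 = 0 ∧ x1 = 0 ∧ x2 = 0 ∧ x3 = 1 ∧ x4 = 0 ∧ x5 = 1 ∧ x6 = 0 ∧ x7 = 0 ∧ x8 = 0 ∧ x9 = 0 ∧ x10 = 0 ∧ r = 1) ∨ (x0 = 0 ∧ x1 = 0 ∧ x2 = 1 ∧ x3 = 0 ∧ x4 = 1 ∧ x5 = 0 ∧ x6 = -1 ∧ x7 = 0 ∧ x8 = 0 ∧ x9 = 0 ∧ x10 = 0 ∧ r = 0) := by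
  have hb6 : x6 * x6 ≤ 3 := by linarith [mul_self_nonneg x0, mul_self_nonneg x1, mul_self_nonneg x2, mul_self_nonneg x3, mul_self_nonneg x4, mul_self_nonneg x5, mul_self_nonneg x6, mul_self_nonneg x7, mul_self_nonneg x8, mul_self_nonneg x9, mul_self_nonneg x10]
  obtain ⟨hl6, hu6⟩ := Cfsg.Agent.Lib.Helper76_ShapeLib.bound1 x6 hb6
  have hb8 : x8 * x8 ≤ 3 := by linarith [mul_self_nonneg x0, mul_self_nonneg x1, mul_self_nonneg x2, mul_self_nonneg x3, mul_self_nonneg x4, mul_self_nonneg x5, mul_self_nonneg x6, mul_self_nonneg x7, mul_self_nonneg x8, mul_self_nonneg x9, mul_self_nonneg x10]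
  obtain ⟨hl8, hu8⟩ := Cfsg.Agent.Lib.Helper76_ShapeLib.bound1 x8 hb8
  have hb9 : x9 * x9 ≤ 3 := by linarith [mul_self_nonneg x0, mul_self_nonneg x1, mul_self_nonneg x2, mul_self_nonneg x3, mul_self_nonneg x4, mul_self_nonneg x5, mul_self_nonneg x6, mul_self_nonneg x7, mul_self_nonneg x8, mul_self_nonneg x9, mul_self_nonneg x10]
  obtain ⟨hl9, hu9⟩ := Cfsg.Agent.Lib.Helper76_ShapeLib.bound1 x9 hb9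
  have hb10 : x10 * x10 ≤ 3 := by linarith [mul_self_nonneg x0, mul_self_nonneg x1, mul_self_nonneg x2, mul_self_nonneg x3, mul_self_nonneg x4, mul_self_nonneg x5, mul_self_nonneg x6, mul_self_nonneg x7, mul_self_nonneg x8, mul_self_nonneg x9, mul_self_nonneg x10]
  obtain ⟨hl10, hu10⟩ := Cfsg.Agent.Lib.Helper76_ShapeLib.bound1 x10 hb10
  obtain rfl : x0 = 0 + (1) * x8 + (1) * x9 := by omega
  obtain rfl : x1 = 0 + (-1) * x8 + (-1) * x9 := by omega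
  obtain rfl : x4 = 0 + (-1) * x6 + (1) * x8 + (1) * x9 := by omega
  obtain rfl : x2 = 0 + (-1) * x6 + (1) * x9 + (-1) * x10 := by omega
  obtain rfl : x3 = 1 + (1) * x6 + (-1) * x8 + (-2) * x9 + (1) * x10 := by omega
  obtain rfl : x5 = 1 + (1) * x6 + (-1) * x8 + (-1) * x9 := by omega
  obtain rfl : x7 = 0 + (-1) * x9 + (1) * x10 := by omega
  interval_cases x6 <;> interval_cases x8 <;> interval_cases x9 <;> interval_cases x10 <;> omega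

theorem ext_7_1 {ι : Type*} [Fintype ι] [DecidableEq ι] (c0 c1 c2 c3 c4 c5 c6 c7 : ι → ℤ)
    (hG0 : ∑ i, c0 i * c7 i = 0)
    (hG1 : ∑ i, c1 i * c7 i = 1)
    (hG2 : ∑ i, c2 i * c7 i = 1)
    (hG3 : ∑ i, c3 i * c7 i = -1)
    (hG4 : ∑ i, c4 i * c7 i = 0)
    (hG5 : ∑ i, c5 i * c7 i = 0)
    (hG6 : ∑ i, c6 i * c7 i = 1)
    (hG7 : ∑ i, c7 i * c7 i = 3)
    (hpos : ∀ i, c0 i = 0 → c1 i = 0 → c2 i = 0 → c3 i = 0 → c4 i = 0 → c5 i = 0 → c6 i = 0 → 0 ≤ c7 i)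
    (h : St_7_1 c0 c1 c2 c3 c4 c5 c6) :
    St_8_0 c0 c1 c2 c3 c4 c5 c6 c7 ∨ St_8_1 c0 c1 c2 c3 c4 c5 c6 c7 := by
  obtain ⟨i0, i1, i2, i3, i4, i5, i6, i7, i8, i9, i10, ⟨d_0_1, d_0_2, d_0_3, d_0_4, d_0_5, d_0_6, d_0_7, d_0_8, d_0_9, d_0_10, d_1_2, d_1_3, d_1_4, d_1_5, d_1_6, d_1_7, d_1_8, d_1_9, d_1_10, d_2_3, d_2_4, d_2_5, d_2_6, d_2_7, d_2_8, d_2_9, d_2_10, d_3_4, d_3_5, d_3_6, d_3_7, d_3_8, d_3_9, d_3_10, d_4_5, d_4_6, d_4_7, d_4_8, d_4_9, d_4_10, d_5_6, d_5_7, d_5_8, d_5_9, d_5_10, d_6_7, d_6_8, d_6_9, d_6_10, d_7_8, d_7_9, d_7_10, d_8_9, d_8_10, d_9_10⟩, ⟨v_0_0, v_0_1, v_0_2, v_0_3, v_0_4, v_0_5, v_0_6, v_1_0, v_1_1, v_1_2, v_1_3, v_1_4, v_1_5, v_1_6, v_2_0, v_2_1, v_2_2, v_2_3, v_2_4, v_2_5, v_2_6, v_3_0, v_3_1, v_3_2, v_3_3, v_3_4, v_3_5, v_3_6, v_4_0, v_4_1, v_4_2, v_4_3, v_4_4, v_4_5,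 v_4_6, v_5_0, v_5_1, v_5_2, v_5_3, v_5_4, v_5_5, v_5_6, v_6_0, v_6_1, v_6_2, v_6_3, v_6_4, v_6_5, v_6_6, v_7_0, v_7_1, v_7_2, v_7_3, v_7_4, v_7_5, v_7_6, v_8_0, v_8_1, v_8_2, v_8_3, v_8_4, v_8_5, v_8_6, v_9_0, v_9_1, v_9_2, v_9_3, v_9_4, v_9_5, v_9_6, v_10_0, v_10_1, v_10_2, v_10_3, v_10_4, v_10_5, v_10_6⟩, hz⟩ := h
  have hnd : ([i0, i1, i2, i3, i4, i5, i6, i7, i8, i9, i10] : List ι).Nodup := by
    simp only [List.nodup_cons, List.mem_cons, List.not_mem_nil, or_false, not_or, List.nodup_nil, and_true, not_false_eq_true]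
    exact ⟨⟨d_0_1, d_0_2, d_0_3, d_0_4, d_0_5, d_0_6, d_0_7, d_0_8, d_0_9, d_0_10⟩, ⟨d_1_2, d_1_3, d_1_4, d_1_5, d_1_6, d_1_7, d_1_8, d_1_9, d_1_10⟩, ⟨d_2_3, d_2_4, d_2_5, d_2_6, d_2_7, d_2_8, d_2_9, d_2_10⟩, ⟨d_3_4, d_3_5, d_3_6, d_3_7, d_3_8, d_3_9, d_3_10⟩, ⟨d_4_5, d_4_6, d_4_7, d_4_8, d_4_9, d_4_10⟩, ⟨d_5_6, d_5_7, d_5_8, d_5_9, d_5_10⟩, ⟨d_6_7, d_6_8, d_6_9, d_6_10⟩, ⟨d_7_8, d_7_9, d_7_10⟩, ⟨d_8_9, d_8_10⟩, d_9_10⟩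
  set S : Finset ι := Finset.univ \ ([i0, i1, i2, i3, i4, i5, i6, i7, i8, i9, i10] : List ι).toFinset with hS
  have hmem : ∀ i, i ∈ S ↔ (i ≠ i0 ∧ i ≠ i1 ∧ i ≠ i2 ∧ i ≠ i3 ∧ i ≠ i4 ∧ i ≠ i5 ∧ i ≠ i6 ∧ i ≠ i7 ∧ i ≠ i8 ∧ i ≠ i9 ∧ i ≠ i10) := by
    intro i
    simp only [hS, Finset.mem_sdiff, Finset.mem_univ, true_and, List.mem_toFinset, List.mem_cons, List.not_mem_nil, or_false, not_or, ne_eq]
  have hz' : ∀ i ∈ S, (c0 i = 0 ∧ c1 i = 0 ∧ c2 i = 0 ∧ c3 i = 0 ∧ c4 i = 0 ∧ c5 i = 0 ∧ c6 i = 0) := by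
    intro i hi
    obtain ⟨n0, n1, n2, n3, n4, n5, n6, n7, n8, n9, n10⟩ := (hmem i).1 hi
    exact hz i n0 n1 n2 n3 n4 n5 n6 n7 n8 n9 n10
  have e0 : (0 : ℤ) = (1) * c7 i0 + (1) * c7 i1 + (0) * c7 i2 + (0) * c7 i3 + (0) * c7 i4 + (0) * c7 i5 + (0) * c7 i6 + (0) * c7 i7 + (0) * c7 i8 + (0) * c7 i9 + (0) * c7 i10 := by
    have h1 := Cfsg.Agent.Lib.Helper76_ShapeLib.sum_split [i0, i1, i2, i3, i4, i5, i6, i7, i8, i9, i10] hnd (fun i => c0 i * c7 i)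
    have h2 : ∑ i ∈ S, c0 i * c7 i = 0 := Finset.sum_eq_zero fun i hi => by
      rw [(hz' i hi).1, zero_mul]
    rw [hG0, h2] at h1
    simp only [List.map_cons, List.map_nil, List.sum_cons, List.sum_nil, v_0_0, v_1_0, v_2_0, v_3_0, v_4_0, v_5_0, v_6_0, v_7_0, v_8_0, v_9_0, v_10_0] at h1
    linarith
  have e1 : (1 : ℤ) = (0) * c7 i0 + (-1) * c7 i1 + (1) * c7 i2 + (1) * c7 i3 + (0) * c7 i4 + (0) * c7 i5 + (0) * c7 i6 + (0) * c7 i7 + (0) * c7 i8 + (0) * c7 i9 + (0) * c7 i10 := by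
    have h1 := Cfsg.Agent.Lib.Helper76_ShapeLib.sum_split [i0, i1, i2, i3, i4, i5, i6, i7, i8, i9, i10] hnd (fun i => c1 i * c7 i)
    have h2 : ∑ i ∈ S, c1 i * c7 i = 0 := Finset.sum_eq_zero fun i hi => by
      rw [(hz' i hi).2.1, zero_mul]
    rw [hG1, h2] at h1
    simp only [List.map_cons, List.map_nil, List.sum_cons, List.sum_nil, v_0_1, v_1_1, v_2_1, v_3_1, v_4_1, v_5_1, v_6_1, v_7_1, v_8_1, v_9_1, v_10_1] at h1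
    linarith
  have e2 : (1 : ℤ) = (0) * c7 i0 + (0) * c7 i1 + (0) * c7 i2 + (0) * c7 i3 + (1) * c7 i4 + (1) * c7 i5 + (0) * c7 i6 + (0) * c7 i7 + (0) * c7 i8 + (0) * c7 i9 + (0) * c7 i10 := by
    have h1 := Cfsg.Agent.Lib.Helper76_ShapeLib.sum_split [i0, i1, i2, i3, i4, i5, i6, i7, i8, i9, i10] hnd (fun i => c2 i * c7 i)
    have h2 : ∑ i ∈ S, c2 i * c7 i = 0 := Finset.sum_eq_zero fun i hi => by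
      rw [(hz' i hi).2.2.1, zero_mul]
    rw [hG2, h2] at h1
    simp only [List.map_cons, List.map_nil, List.sum_cons, List.sum_nil, v_0_2, v_1_2, v_2_2, v_3_2, v_4_2, v_5_2, v_6_2, v_7_2, v_8_2, v_9_2, v_10_2] at h1
    linarith
  have e3 : (-1 : ℤ) = (0) * c7 i0 + (1) * c7 i1 + (0) * c7 i2 + (0) * c7 i3 + (0) * c7 i4 + (-1) * c7 i5 + (1) * c7 i6 + (0) * c7 i7 + (0) * c7 i8 + (0) * c7 i9 + (0) * c7 i10 := by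
    have h1 := Cfsg.Agent.Lib.Helper76_ShapeLib.sum_split [i0, i1, i2, i3, i4, i5, i6, i7, i8, i9, i10] hnd (fun i => c3 i * c7 i)
    have h2 : ∑ i ∈ S, c3 i * c7 i = 0 := Finset.sum_eq_zero fun i hi => by
      rw [(hz' i hi).2.2.2.1, zero_mul]
    rw [hG3, h2] at h1
    simp only [List.map_cons, List.map_nil, List.sum_cons, List.sum_nil, v_0_3, v_1_3, v_2_3, v_3_3, v_4_3, v_5_3, v_6_3, v_7_3, v_8_3, v_9_3, v_10_3] at h1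
    linarith
  have e4 : (0 : ℤ) = (0) * c7 i0 + (0) * c7 i1 + (1) * c7 i2 + (0) * c7 i3 + (0) * c7 i4 + (0) * c7 i5 + (1) * c7 i6 + (1) * c7 i7 + (0) * c7 i8 + (0) * c7 i9 + (0) * c7 i10 := by
    have h1 := Cfsg.Agent.Lib.Helper76_ShapeLib.sum_split [i0, i1, i2, i3, i4, i5, i6, i7, i8, i9, i10] hnd (fun i => c4 i * c7 i)
    have h2 : ∑ i ∈ S, c4 i * c7 i = 0 := Finset.sum_eq_zero fun i hi => by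
      rw [(hz' i hi).2.2.2.2.1, zero_mul]
    rw [hG4, h2] at h1
    simp only [List.map_cons, List.map_nil, List.sum_cons, List.sum_nil, v_0_4, v_1_4, v_2_4, v_3_4, v_4_4, v_5_4, v_6_4, v_7_4, v_8_4, v_9_4, v_10_4] at h1
    linarith
  have e5 : (0 : ℤ) = (0) * c7 i0 + (1) * c7 i1 + (0) * c7 i2 + (0) * c7 i3 + (0) * c7 i4 + (0) * c7 i5 + (0) * c7 i6 + (0) * c7 i7 + (1) * c7 i8 + (1) * c7 i9 + (0) * c7 i10 := by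
    have h1 := Cfsg.Agent.Lib.Helper76_ShapeLib.sum_split [i0, i1, i2, i3, i4, i5, i6, i7, i8, i9, i10] hnd (fun i => c5 i * c7 i)
    have h2 : ∑ i ∈ S, c5 i * c7 i = 0 := Finset.sum_eq_zero fun i hi => by
      rw [(hz' i hi).2.2.2.2.2.1, zero_mul]
    rw [hG5, h2] at h1
    simp only [List.map_cons, List.map_nil, List.sum_cons, List.sum_nil, v_0_5, v_1_5, v_2_5, v_3_5, v_4_5, v_5_5, v_6_5, v_7_5, v_8_5, v_9_5, v_10_5] at h1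
    linarith
  have e6 : (1 : ℤ) = (0) * c7 i0 + (0) * c7 i1 + (1) * c7 i2 + (0) * c7 i3 + (0) * c7 i4 + (1) * c7 i5 + (0) * c7 i6 + (0) * c7 i7 + (1) * c7 i8 + (0) * c7 i9 + (1) * c7 i10 := by
    have h1 := Cfsg.Agent.Lib.Helper76_ShapeLib.sum_split [i0, i1, i2, i3, i4, i5, i6, i7, i8, i9, i10] hnd (fun i => c6 i * c7 i)
    have h2 : ∑ i ∈ S, c6 i * c7 i = 0 := Finset.sum_eq_zero fun i hi => by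
      rw [(hz' i hi).2.2.2.2.2.2, zero_mul]
    rw [hG6, h2] at h1
    simp only [List.map_cons, List.map_nil, List.sum_cons, List.sum_nil, v_0_6, v_1_6, v_2_6, v_3_6, v_4_6, v_5_6, v_6_6, v_7_6, v_8_6, v_9_6, v_10_6] at h1
    linarith
  have en : (3 : ℤ) = c7 i0 * c7 i0 + c7 i1 * c7 i1 + c7 i2 * c7 i2 + c7 i3 * c7 i3 + c7 i4 * c7 i4 + c7 i5 * c7 i5 + c7 i6 * c7 i6 + c7 i7 * c7 i7 + c7 i8 * c7 i8 + c7 i9 * c7 i9 + c7 i10 * c7 i10 + ∑ i ∈ S, c7 i * c7 i := by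
    have h1 := Cfsg.Agent.Lib.Helper76_ShapeLib.sum_split [i0, i1, i2, i3, i4, i5, i6, i7, i8, i9, i10] hnd (fun i => c7 i * c7 i)
    rw [hG7] at h1
    simp only [List.map_cons, List.map_nil, List.sum_cons, List.sum_nil] at h1
    linarith
  have hr : 0 ≤ ∑ i ∈ S, c7 i * c7 i := Finset.sum_nonneg fun i _ => mul_self_nonneg _
  have hnn : ∀ i ∈ S, 0 ≤ c7 i := by
    intro i hi
    obtain ⟨z0, z1, z2, z3, z4, z5, z6⟩ := hz' i hi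
    exact hpos i z0 z1 z2 z3 z4 z5 z6
  have hsol := ar_7_1 (c7 i0) (c7 i1) (c7 i2) (c7 i3) (c7 i4) (c7 i5) (c7 i6) (c7 i7) (c7 i8) (c7 i9) (c7 i10) _ e0 e1 e2 e3 e4 e5 e6 en hr
  rcases hsol with ⟨hx0, hx1, hx2, hx3, hx4, hx5, hx6, hx7, hx8, hx9, hx10, hrho⟩ | ⟨hx0, hx1, hx2, hx3, hx4, hx5, hx6, hx7, hx8, hx9, hx10, hrho⟩
  · -- solution (0, 0, 0, 1, 0, 1, 0, 0, 0, 0, 0), rho = 1
    obtain ⟨a, haS, hfa, hzr⟩ := Cfsg.Agent.Lib.Helper76_ShapeLib.rem1 S c7 hnn hrho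
    obtain ⟨na0, na1, na2, na3, na4, na5, na6, na7, na8, na9, na10⟩ := (hmem a).1 haS
    obtain ⟨za0, za1, za2, za3, za4, za5, za6⟩ := hz' a haS
    refine (Or.inl ⟨i0, i1, i2, i3, i4, i5, i6, i7, i8, i9, i10, a, ⟨d_0_1, d_0_2, d_0_3, d_0_4, d_0_5, d_0_6, d_0_7, d_0_8, d_0_9, d_0_10, na0.symm, d_1_2, d_1_3, d_1_4, d_1_5, d_1_6, d_1_7, d_1_8, d_1_9, d_1_10, na1.symm, d_2_3, d_2_4, d_2_5, d_2_6, d_2_7, d_2_8, d_2_9, d_2_10, na2.symm, d_3_4, d_3_5, d_3_6, d_3_7, d_3_8, d_3_9, d_3_10, na3.symm, d_4_5, d_4_6, d_4_7, d_4_8, d_4_9, d_4_10, na4.symm, d_5_6, d_5_7, d_5_8, d_5_9, d_5_10, na5.symm, d_6_7, d_6_8, d_6_9, d_6_10, na6.symm, d_7_8, d_7_9, d_7_10, na7.symm, d_8_9, d_8_10, na8.symm, d_9_10, na9.symm, na10.symm⟩, ⟨v_0_0, v_0_1, v_0_2, v_0_3, v_0_4, v_0_5, v_0_6, hx0, v_1_0, v_1_1, v_1_2, v_1_3,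 v_1_4, v_1_5, v_1_6, hx1, v_2_0, v_2_1, v_2_2, v_2_3, v_2_4, v_2_5, v_2_6, hx2, v_3_0, v_3_1, v_3_2, v_3_3, v_3_4, v_3_5, v_3_6, hx3, v_4_0, v_4_1, v_4_2, v_4_3, v_4_4, v_4_5, v_4_6, hx4, v_5_0, v_5_1, v_5_2, v_5_3, v_5_4, v_5_5, v_5_6, hx5, v_6_0, v_6_1, v_6_2, v_6_3, v_6_4, v_6_5, v_6_6, hx6, v_7_0, v_7_1, v_7_2, v_7_3, v_7_4, v_7_5, v_7_6, hx7, v_8_0, v_8_1, v_8_2, v_8_3, v_8_4, v_8_5, v_8_6, hx8, v_9_0, v_9_1, v_9_2, v_9_3, v_9_4, v_9_5, v_9_6, hx9, v_10_0, v_10_1, v_10_2, v_10_3, v_10_4, v_10_5, v_10_6, hx10, za0, za1, za2, za3, za4, za5, za6, hfa⟩, ?_⟩)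
    intro i m0 m1 m2 m3 m4 m5 m6 m7 m8 m9 m10 m11
    have hiS : i ∈ S := (hmem i).2 ⟨m0, m1, m2, m3, m4, m5, m6, m7, m8, m9, m10⟩
    obtain ⟨y0, y1, y2, y3, y4, y5, y6⟩ := hz' i hiS
    exact ⟨y0, y1, y2, y3, y4, y5, y6, (hzr i hiS m11)⟩
  · -- solution (0, 0, 1, 0, 1, 0, -1, 0, 0, 0, 0), rho = 0
    have hzr := Cfsg.Agent.Lib.Helper76_ShapeLib.rem0 S c7 hrho
    refine (Or.inr ⟨i0, i1, i2, i3, i4, i5, i6, i7, i8, i9, i10, ⟨d_0_1, d_0_2, d_0_3, d_0_4, d_0_5, d_0_6, d_0_7, d_0_8, d_0_9, d_0_10, d_1_2, d_1_3, d_1_4, d_1_5, d_1_6, d_1_7, d_1_8, d_1_9, d_1_10, d_2_3, d_2_4, d_2_5, d_2_6, d_2_7, d_2_8, d_2_9, d_2_10, d_3_4, d_3_5, d_3_6, d_3_7, d_3_8, d_3_9, d_3_10, d_4_5, d_4_6, d_4_7, d_4_8, d_4_9, d_4_10, d_5_6, d_5_7, d_5_8, d_5_9, d_5_10, d_6_7, d_6_8, d_6_9, d_6_10, d_7_8, d_7_9, d_7_10,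 d_8_9, d_8_10, d_9_10⟩, ⟨v_0_0, v_0_1, v_0_2, v_0_3, v_0_4, v_0_5, v_0_6, hx0, v_1_0, v_1_1, v_1_2, v_1_3, v_1_4, v_1_5, v_1_6, hx1, v_2_0, v_2_1, v_2_2, v_2_3, v_2_4, v_2_5, v_2_6, hx2, v_3_0, v_3_1, v_3_2, v_3_3, v_3_4, v_3_5, v_3_6, hx3, v_4_0, v_4_1, v_4_2, v_4_3, v_4_4, v_4_5, v_4_6, hx4, v_5_0, v_5_1, v_5_2, v_5_3, v_5_4, v_5_5, v_5_6, hx5, v_6_0, v_6_1, v_6_2, v_6_3, v_6_4, v_6_5, v_6_6, hx6, v_7_0, v_7_1, v_7_2, v_7_3, v_7_4, v_7_5, v_7_6, hx7, v_8_0, v_8_1, v_8_2, v_8_3, v_8_4, v_8_5, v_8_6, hx8, v_9_0, v_9_1, v_9_2, v_9_3, v_9_4, v_9_5, v_9_6, hx9, v_10_0, v_10_1, v_10_2, v_10_3, v_10_4, v_10_5, v_10_6, hx10⟩, ?_⟩)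
    intro i m0 m1 m2 m3 m4 m5 m6 m7 m8 m9 m10
    have hiS : i ∈ S := (hmem i).2 ⟨m0, m1, m2, m3, m4, m5, m6, m7, m8, m9, m10⟩
    obtain ⟨y0, y1, y2, y3, y4, y5, y6⟩ := hz' i hiS
    exact ⟨y0, y1, y2, y3, y4, y5, y6, (hzr i hiS)⟩

theorem ar_7_2 (x0 x1 x2 x3 x4 x5 x6 x7 r : ℤ) (e0 : (0 : ℤ) = (1) * x0 + (1) * x1 + (0) * x2 + (0) * x3 + (0) * x4 + (0) * x5 + (0) * x6 + (0) * x7) (e1 : (1 : ℤ) = (0) * x0 + (-1) * x1 + (1) * x2 + (1) * x3 + (0) * x4 + (0) * x5 + (0) * x6 + (0) * x7) (e2 : (1 : ℤ) = (0) * x0 + (0) * x1 + (0) * x2 + (0) * x3 + (1) * x4 + (1) * x5 + (0) * x6 + (0) * x7) (e3 : (-1 : ℤ) = (0) * x0 + (1) * x1 + (0) * x2 + (0) * x3 + (0) * x4 + (-1) * x5 + (1) * x6 + (0) * x7) (e4 : (0 : ℤ) = (0) * x0 + (0) * x1 + (1) * x2 + (0) * x3 + (0) * x4 + (0) * x5 + (1) * x6 + (1) * x7) (e5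 : (0 : ℤ) = (1) * x0 + (0) * x1 + (-1) * x2 + (0) * x3 + (0) * x4 + (0) * x5 + (1) * x6 + (0) * x7) (e6 : (1 : ℤ) = (1) * x0 + (-1) * x1 + (0) * x2 + (0) * x3 + (1) * x4 + (0) * x5 + (0) * x6 + (1) * x7) (en : (3 : ℤ) = x0 * x0 + x1 * x1 + x2 * x2 + x3 * x3 + x4 * x4 + x5 * x5 + x6 * x6 + x7 * x7 + r) (hr : 0 ≤ r) : False := by
  have hb6 : x6 * x6 ≤ 3 := by linarith [mul_self_nonneg x0, mul_self_nonneg x1, mul_self_nonneg x2, mul_self_nonneg x3, mul_self_nonneg x4, mul_self_nonneg x5, mul_self_nonneg x6, mul_self_nonneg x7]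
  obtain ⟨hl6, hu6⟩ := Cfsg.Agent.Lib.Helper76_ShapeLib.bound1 x6 hb6
  have hb7 : x7 * x7 ≤ 3 := by linarith [mul_self_nonneg x0, mul_self_nonneg x1, mul_self_nonneg x2, mul_self_nonneg x3, mul_self_nonneg x4, mul_self_nonneg x5, mul_self_nonneg x6, mul_self_nonneg x7]
  obtain ⟨hl7, hu7⟩ := Cfsg.Agent.Lib.Helper76_ShapeLib.bound1 x7 hb7
  obtain rfl : x0 = 0 + (-2) * x6 + (-1) * x7 := by omega
  obtain rfl : x1 = 0 + (2) * x6 + (1) * x7 := by omega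
  obtain rfl : x4 = 0 + (-3) * x6 + (-1) * x7 := by omega
  obtain rfl : x2 = 0 + (-1) * x6 + (-1) * x7 := by omega
  obtain rfl : x3 = 1 + (3) * x6 + (2) * x7 := by omega
  obtain rfl : x5 = 1 + (3) * x6 + (1) * x7 := by omega
  interval_cases x6 <;> interval_cases x7 <;> omega

theorem ext_7_2 {ι : Type*} [Fintype ι] [DecidableEq ι] (c0 c1 c2 c3 c4 c5 c6 c7 : ι → ℤ)
    (hG0 : ∑ i, c0 i * c7 i = 0)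
    (hG1 : ∑ i, c1 i * c7 i = 1)
    (hG2 : ∑ i, c2 i * c7 i = 1)
    (hG3 : ∑ i, c3 i * c7 i = -1)
    (hG4 : ∑ i, c4 i * c7 i = 0)
    (hG5 : ∑ i, c5 i * c7 i = 0)
    (hG6 : ∑ i, c6 i * c7 i = 1)
    (hG7 : ∑ i, c7 i * c7 i = 3)
    (hpos : ∀ i, c0 i = 0 → c1 i = 0 → c2 i = 0 → c3 i = 0 → c4 i = 0 → c5 i = 0 → c6 i = 0 → 0 ≤ c7 i)
    (h : St_7_2 c0 c1 c2 c3 c4 c5 c6) :
    False := by
  obtain ⟨i0, i1, i2, i3, i4, i5, i6, i7, ⟨d_0_1, d_0_2, d_0_3, d_0_4, d_0_5, d_0_6, d_0_7, d_1_2, d_1_3, d_1_4, d_1_5, d_1_6, d_1_7, d_2_3, d_2_4, d_2_5, d_2_6, d_2_7, d_3_4, d_3_5, d_3_6, d_3_7, d_4_5, d_4_6, d_4_7, d_5_6, d_5_7, d_6_7⟩, ⟨v_0_0, v_0_1, v_0_2, v_0_3, v_0_4, v_0_5, v_0_6, v_1_0, v_1_1, v_1_2, v_1_3, v_1_4, v_1_5, v_1_6, v_2_0, v_2_1, v_2_2, v_2_3, v_2_4, v_2_5, v_2_6, v_3_0, v_3_1, v_3_2, v_3_3,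 v_3_4, v_3_5, v_3_6, v_4_0, v_4_1, v_4_2, v_4_3, v_4_4, v_4_5, v_4_6, v_5_0, v_5_1, v_5_2, v_5_3, v_5_4, v_5_5, v_5_6, v_6_0, v_6_1, v_6_2, v_6_3, v_6_4, v_6_5, v_6_6, v_7_0, v_7_1, v_7_2, v_7_3, v_7_4, v_7_5, v_7_6⟩, hz⟩ := h
  have hnd : ([i0, i1, i2, i3, i4, i5, i6, i7] : List ι).Nodup := by
    simp only [List.nodup_cons, List.mem_cons, List.not_mem_nil, or_false, not_or, List.nodup_nil, and_true, not_false_eq_true]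
    exact ⟨⟨d_0_1, d_0_2, d_0_3, d_0_4, d_0_5, d_0_6, d_0_7⟩, ⟨d_1_2, d_1_3, d_1_4, d_1_5, d_1_6, d_1_7⟩, ⟨d_2_3, d_2_4, d_2_5, d_2_6, d_2_7⟩, ⟨d_3_4, d_3_5, d_3_6, d_3_7⟩, ⟨d_4_5, d_4_6, d_4_7⟩, ⟨d_5_6, d_5_7⟩, d_6_7⟩
  set S : Finset ι := Finset.univ \ ([i0, i1, i2, i3, i4, i5, i6, i7] : List ι).toFinset with hS
  have hmem : ∀ i, i ∈ S ↔ (i ≠ i0 ∧ i ≠ i1 ∧ i ≠ i2 ∧ i ≠ i3 ∧ i ≠ i4 ∧ i ≠ i5 ∧ i ≠ i6 ∧ i ≠ i7) := by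
    intro i
    simp only [hS, Finset.mem_sdiff, Finset.mem_univ, true_and, List.mem_toFinset, List.mem_cons, List.not_mem_nil, or_false, not_or, ne_eq]
  have hz' : ∀ i ∈ S, (c0 i = 0 ∧ c1 i = 0 ∧ c2 i = 0 ∧ c3 i = 0 ∧ c4 i = 0 ∧ c5 i = 0 ∧ c6 i = 0) := by
    intro i hi
    obtain ⟨n0, n1, n2, n3, n4, n5, n6, n7⟩ := (hmem i).1 hi
    exact hz i n0 n1 n2 n3 n4 n5 n6 n7
  have e0 : (0 : ℤ) = (1) * c7 i0 + (1) * c7 i1 + (0) * c7 i2 + (0) * c7 i3 + (0) * c7 i4 + (0) * c7 i5 + (0) * c7 i6 + (0) * c7 i7 := by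
    have h1 := Cfsg.Agent.Lib.Helper76_ShapeLib.sum_split [i0, i1, i2, i3, i4, i5, i6, i7] hnd (fun i => c0 i * c7 i)
    have h2 : ∑ i ∈ S, c0 i * c7 i = 0 := Finset.sum_eq_zero fun i hi => by
      rw [(hz' i hi).1, zero_mul]
    rw [hG0, h2] at h1
    simp only [List.map_cons, List.map_nil, List.sum_cons, List.sum_nil, v_0_0, v_1_0, v_2_0, v_3_0, v_4_0, v_5_0, v_6_0, v_7_0] at h1
    linarith
  have e1 : (1 : ℤ) = (0) * c7 i0 + (-1) * c7 i1 + (1) * c7 i2 + (1) * c7 i3 + (0) * c7 i4 + (0) * c7 i5 + (0) * c7 i6 + (0) * c7 i7 := by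
    have h1 := Cfsg.Agent.Lib.Helper76_ShapeLib.sum_split [i0, i1, i2, i3, i4, i5, i6, i7] hnd (fun i => c1 i * c7 i)
    have h2 : ∑ i ∈ S, c1 i * c7 i = 0 := Finset.sum_eq_zero fun i hi => by
      rw [(hz' i hi).2.1, zero_mul]
    rw [hG1, h2] at h1
    simp only [List.map_cons, List.map_nil, List.sum_cons, List.sum_nil, v_0_1, v_1_1, v_2_1, v_3_1, v_4_1, v_5_1, v_6_1, v_7_1] at h1
    linarith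
  have e2 : (1 : ℤ) = (0) * c7 i0 + (0) * c7 i1 + (0) * c7 i2 + (0) * c7 i3 + (1) * c7 i4 + (1) * c7 i5 + (0) * c7 i6 + (0) * c7 i7 := by
    have h1 := Cfsg.Agent.Lib.Helper76_ShapeLib.sum_split [i0, i1, i2, i3, i4, i5, i6, i7] hnd (fun i => c2 i * c7 i)
    have h2 : ∑ i ∈ S, c2 i * c7 i = 0 := Finset.sum_eq_zero fun i hi => by
      rw [(hz' i hi).2.2.1, zero_mul]
    rw [hG2, h2] at h1
    simp only [List.map_cons, List.map_nil, List.sum_cons, List.sum_nil, v_0_2, v_1_2, v_2_2, v_3_2, v_4_2, v_5_2, v_6_2, v_7_2] at h1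
    linarith
  have e3 : (-1 : ℤ) = (0) * c7 i0 + (1) * c7 i1 + (0) * c7 i2 + (0) * c7 i3 + (0) * c7 i4 + (-1) * c7 i5 + (1) * c7 i6 + (0) * c7 i7 := by
    have h1 := Cfsg.Agent.Lib.Helper76_ShapeLib.sum_split [i0, i1, i2, i3, i4, i5, i6, i7] hnd (fun i => c3 i * c7 i)
    have h2 : ∑ i ∈ S, c3 i * c7 i = 0 := Finset.sum_eq_zero fun i hi => by
      rw [(hz' i hi).2.2.2.1, zero_mul]
    rw [hG3, h2] at h1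
    simp only [List.map_cons, List.map_nil, List.sum_cons, List.sum_nil, v_0_3, v_1_3, v_2_3, v_3_3, v_4_3, v_5_3, v_6_3, v_7_3] at h1
    linarith
  have e4 : (0 : ℤ) = (0) * c7 i0 + (0) * c7 i1 + (1) * c7 i2 + (0) * c7 i3 + (0) * c7 i4 + (0) * c7 i5 + (1) * c7 i6 + (1) * c7 i7 := by
    have h1 := Cfsg.Agent.Lib.Helper76_ShapeLib.sum_split [i0, i1, i2, i3, i4, i5, i6, i7] hnd (fun i => c4 i * c7 i)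
    have h2 : ∑ i ∈ S, c4 i * c7 i = 0 := Finset.sum_eq_zero fun i hi => by
      rw [(hz' i hi).2.2.2.2.1, zero_mul]
    rw [hG4, h2] at h1
    simp only [List.map_cons, List.map_nil, List.sum_cons, List.sum_nil, v_0_4, v_1_4, v_2_4, v_3_4, v_4_4, v_5_4, v_6_4, v_7_4] at h1
    linarith
  have e5 : (0 : ℤ) = (1) * c7 i0 + (0) * c7 i1 + (-1) * c7 i2 + (0) * c7 i3 + (0) * c7 i4 + (0) * c7 i5 + (1) * c7 i6 + (0) * c7 i7 := by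
    have h1 := Cfsg.Agent.Lib.Helper76_ShapeLib.sum_split [i0, i1, i2, i3, i4, i5, i6, i7] hnd (fun i => c5 i * c7 i)
    have h2 : ∑ i ∈ S, c5 i * c7 i = 0 := Finset.sum_eq_zero fun i hi => by
      rw [(hz' i hi).2.2.2.2.2.1, zero_mul]
    rw [hG5, h2] at h1
    simp only [List.map_cons, List.map_nil, List.sum_cons, List.sum_nil, v_0_5, v_1_5, v_2_5, v_3_5, v_4_5, v_5_5, v_6_5, v_7_5] at h1
    linarith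
  have e6 : (1 : ℤ) = (1) * c7 i0 + (-1) * c7 i1 + (0) * c7 i2 + (0) * c7 i3 + (1) * c7 i4 + (0) * c7 i5 + (0) * c7 i6 + (1) * c7 i7 := by
    have h1 := Cfsg.Agent.Lib.Helper76_ShapeLib.sum_split [i0, i1, i2, i3, i4, i5, i6, i7] hnd (fun i => c6 i * c7 i)
    have h2 : ∑ i ∈ S, c6 i * c7 i = 0 := Finset.sum_eq_zero fun i hi => by
      rw [(hz' i hi).2.2.2.2.2.2, zero_mul]
    rw [hG6, h2] at h1
    simp only [List.map_cons, List.map_nil, List.sum_cons, List.sum_nil, v_0_6, v_1_6, v_2_6, v_3_6, v_4_6, v_5_6, v_6_6, v_7_6] at h1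
    linarith
  have en : (3 : ℤ) = c7 i0 * c7 i0 + c7 i1 * c7 i1 + c7 i2 * c7 i2 + c7 i3 * c7 i3 + c7 i4 * c7 i4 + c7 i5 * c7 i5 + c7 i6 * c7 i6 + c7 i7 * c7 i7 + ∑ i ∈ S, c7 i * c7 i := by
    have h1 := Cfsg.Agent.Lib.Helper76_ShapeLib.sum_split [i0, i1, i2, i3, i4, i5, i6, i7] hnd (fun i => c7 i * c7 i)
    rw [hG7] at h1
    simp only [List.map_cons, List.map_nil, List.sum_cons, List.sum_nil] at h1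
    linarith
  have hr : 0 ≤ ∑ i ∈ S, c7 i * c7 i := Finset.sum_nonneg fun i _ => mul_self_nonneg _
  have hnn : ∀ i ∈ S, 0 ≤ c7 i := by
    intro i hi
    obtain ⟨z0, z1, z2, z3, z4, z5, z6⟩ := hz' i hi
    exact hpos i z0 z1 z2 z3 z4 z5 z6
  have hsol := ar_7_2 (c7 i0) (c7 i1) (c7 i2) (c7 i3) (c7 i4) (c7 i5) (c7 i6) (c7 i7) _ e0 e1 e2 e3 e4 e5 e6 en hr
  exact hsol

theorem ar_7_3 (x0 x1 x2 x3 x4 x5 x6 x7 x8 r : ℤ) (e0 : (0 : ℤ) = (1) * x0 + (1) * x1 + (0) * x2 + (0) * x3 + (0) * x4 + (0) * x5 + (0) * x6 + (0) * x7 + (0) * x8) (e1 : (1 : ℤ) = (0) * x0 + (-1) * x1 + (1) * x2 + (1) * x3 + (0) * x4 + (0) * x5 + (0) * x6 + (0) * x7 + (0) * x8) (e2 : (1 : ℤ) = (0) * x0 + (0) * x1 + (0) * x2 + (0) * x3 + (1) * x4 + (1) * x5 + (0) * x6 + (0) * x7 + (0) * x8) (e3 : (-1 : ℤ) = (0) * x0 + (1) * x1 +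 (0) * x2 + (0) * x3 + (0) * x4 + (-1) * x5 + (1) * x6 + (0) * x7 + (0) * x8) (e4 : (0 : ℤ) = (0) * x0 + (0) * x1 + (1) * x2 + (0) * x3 + (1) * x4 + (-1) * x5 + (0) * x6 + (0) * x7 + (0) * x8) (e5 : (0 : ℤ) = (0) * x0 + (1) * x1 + (0) * x2 + (0) * x3 + (0) * x4 + (0) * x5 + (0) * x6 + (1) * x7 + (1) * x8) (e6 : (1 : ℤ) = (0) * x0 + (0) * x1 + (0) * x2 + (1) * x3 + (1) * x4 + (0) * x5 + (-1) * x6 + (1) * x7 + (0) * x8) (en : (3 : ℤ) = x0 * x0 + x1 * x1 + x2 * x2 + x3 * x3 + x4 * x4 + x5 * x5 + x6 * x6 + x7 * x7 + x8 * x8 + r) (hr : 0 ≤ r) : False := by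
  have hb6 : x6 * x6 ≤ 3 := by linarith [mul_self_nonneg x0, mul_self_nonneg x1, mul_self_nonneg x2, mul_self_nonneg x3, mul_self_nonneg x4, mul_self_nonneg x5, mul_self_nonneg x6, mul_self_nonneg x7, mul_self_nonneg x8]
  obtain ⟨hl6, hu6⟩ := Cfsg.Agent.Lib.Helper76_ShapeLib.bound1 x6 hb6
  have hb7 : x7 * x7 ≤ 3 := by linarith [mul_self_nonneg x0, mul_self_nonneg x1, mul_self_nonneg x2, mul_self_nonneg x3, mul_self_nonneg x4, mul_self_nonneg x5, mul_self_nonneg x6, mul_self_nonneg x7, mul_self_nonneg x8]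
  obtain ⟨hl7, hu7⟩ := Cfsg.Agent.Lib.Helper76_ShapeLib.bound1 x7 hb7
  have hb8 : x8 * x8 ≤ 3 := by linarith [mul_self_nonneg x0, mul_self_nonneg x1, mul_self_nonneg x2, mul_self_nonneg x3, mul_self_nonneg x4, mul_self_nonneg x5, mul_self_nonneg x6, mul_self_nonneg x7, mul_self_nonneg x8]
  obtain ⟨hl8, hu8⟩ := Cfsg.Agent.Lib.Helper76_ShapeLib.bound1 x8 hb8
  obtain rfl : x0 = 0 + (1) * x7 + (1) * x8 := by omega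
  obtain rfl : x1 = 0 + (-1) * x7 + (-1) * x8 := by omega
  obtain rfl : x4 = 0 + (-1) * x6 + (1) * x7 + (1) * x8 := by omega
  obtain rfl : x2 = 1 + (2) * x6 + (-2) * x7 + (-2) * x8 := by omega
  obtain rfl : x3 = 0 + (-2) * x6 + (1) * x7 + (1) * x8 := by omega
  obtain rfl : x5 = 1 + (1) * x6 + (-1) * x7 + (-1) * x8 := by omega
  interval_cases x6 <;> interval_cases x7 <;> interval_cases x8 <;> omega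

theorem ext_7_3 {ι : Type*} [Fintype ι] [DecidableEq ι] (c0 c1 c2 c3 c4 c5 c6 c7 : ι → ℤ)
    (hG0 : ∑ i, c0 i * c7 i = 0)
    (hG1 : ∑ i, c1 i * c7 i = 1)
    (hG2 : ∑ i, c2 i * c7 i = 1)
    (hG3 : ∑ i, c3 i * c7 i = -1)
    (hG4 : ∑ i, c4 i * c7 i = 0)
    (hG5 : ∑ i, c5 i * c7 i = 0)
    (hG6 : ∑ i, c6 i * c7 i = 1)
    (hG7 : ∑ i, c7 i * c7 i = 3)
    (hpos : ∀ i, c0 i = 0 → c1 i = 0 → c2 i = 0 → c3 i = 0 → c4 i = 0 → c5 i = 0 → c6 i = 0 → 0 ≤ c7 i)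
    (h : St_7_3 c0 c1 c2 c3 c4 c5 c6) :
    False := by
  obtain ⟨i0, i1, i2, i3, i4, i5, i6, i7, i8, ⟨d_0_1, d_0_2, d_0_3, d_0_4, d_0_5, d_0_6, d_0_7, d_0_8, d_1_2, d_1_3, d_1_4, d_1_5, d_1_6, d_1_7, d_1_8, d_2_3, d_2_4, d_2_5, d_2_6, d_2_7, d_2_8, d_3_4, d_3_5, d_3_6, d_3_7, d_3_8, d_4_5, d_4_6, d_4_7, d_4_8, d_5_6, d_5_7, d_5_8, d_6_7, d_6_8, d_7_8⟩, ⟨v_0_0, v_0_1, v_0_2, v_0_3, v_0_4, v_0_5, v_0_6, v_1_0, v_1_1, v_1_2, v_1_3, v_1_4, v_1_5, v_1_6, v_2_0, v_2_1, v_2_2, v_2_3, v_2_4, v_2_5, v_2_6, v_3_0, v_3_1, v_3_2, v_3_3, v_3_4, v_3_5, v_3_6, v_4_0, v_4_1, v_4_2, v_4_3, v_4_4, v_4_5, v_4_6, v_5_0, v_5_1, v_5_2, v_5_3, v_5_4, v_5_5, v_5_6, v_6_0, v_6_1, v_6_2, v_6_3, v_6_4, v_6_5, v_6_6, v_7_0, v_7_1, v_7_2, v_7_3, v_7_4, v_7_5, v_7_6, v_8_0, v_8_1, v_8_2, v_8_3, v_8_4, v_8_5, v_8_6⟩, hz⟩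 := h
  have hnd : ([i0, i1, i2, i3, i4, i5, i6, i7, i8] : List ι).Nodup := by
    simp only [List.nodup_cons, List.mem_cons, List.not_mem_nil, or_false, not_or, List.nodup_nil, and_true, not_false_eq_true]
    exact ⟨⟨d_0_1, d_0_2, d_0_3, d_0_4, d_0_5, d_0_6, d_0_7, d_0_8⟩, ⟨d_1_2, d_1_3, d_1_4, d_1_5, d_1_6, d_1_7, d_1_8⟩, ⟨d_2_3, d_2_4, d_2_5, d_2_6, d_2_7, d_2_8⟩, ⟨d_3_4, d_3_5, d_3_6, d_3_7, d_3_8⟩, ⟨d_4_5, d_4_6, d_4_7, d_4_8⟩, ⟨d_5_6, d_5_7, d_5_8⟩, ⟨d_6_7, d_6_8⟩, d_7_8⟩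
  set S : Finset ι := Finset.univ \ ([i0, i1, i2, i3, i4, i5, i6, i7, i8] : List ι).toFinset with hS
  have hmem : ∀ i, i ∈ S ↔ (i ≠ i0 ∧ i ≠ i1 ∧ i ≠ i2 ∧ i ≠ i3 ∧ i ≠ i4 ∧ i ≠ i5 ∧ i ≠ i6 ∧ i ≠ i7 ∧ i ≠ i8) := by
    intro i
    simp only [hS, Finset.mem_sdiff, Finset.mem_univ, true_and, List.mem_toFinset, List.mem_cons, List.not_mem_nil, or_false, not_or, ne_eq]
  have hz' : ∀ i ∈ S, (c0 i = 0 ∧ c1 i = 0 ∧ c2 i = 0 ∧ c3 i = 0 ∧ c4 i = 0 ∧ c5 i = 0 ∧ c6 i = 0) := by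
    intro i hi
    obtain ⟨n0, n1, n2, n3, n4, n5, n6, n7, n8⟩ := (hmem i).1 hi
    exact hz i n0 n1 n2 n3 n4 n5 n6 n7 n8
  have e0 : (0 : ℤ) = (1) * c7 i0 + (1) * c7 i1 + (0) * c7 i2 + (0) * c7 i3 + (0) * c7 i4 + (0) * c7 i5 + (0) * c7 i6 + (0) * c7 i7 + (0) * c7 i8 := by
    have h1 := Cfsg.Agent.Lib.Helper76_ShapeLib.sum_split [i0, i1, i2, i3, i4, i5, i6, i7, i8] hnd (fun i => c0 i * c7 i)
    have h2 : ∑ i ∈ S, c0 i * c7 i = 0 := Finset.sum_eq_zero fun i hi => by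
      rw [(hz' i hi).1, zero_mul]
    rw [hG0, h2] at h1
    simp only [List.map_cons, List.map_nil, List.sum_cons, List.sum_nil, v_0_0, v_1_0, v_2_0, v_3_0, v_4_0, v_5_0, v_6_0, v_7_0, v_8_0] at h1
    linarith
  have e1 : (1 : ℤ) = (0) * c7 i0 + (-1) * c7 i1 + (1) * c7 i2 + (1) * c7 i3 + (0) * c7 i4 + (0) * c7 i5 + (0) * c7 i6 + (0) * c7 i7 + (0) * c7 i8 := by
    have h1 := Cfsg.Agent.Lib.Helper76_ShapeLib.sum_split [i0, i1, i2, i3, i4, i5, i6, i7, i8] hnd (fun i => c1 i * c7 i)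
    have h2 : ∑ i ∈ S, c1 i * c7 i = 0 := Finset.sum_eq_zero fun i hi => by
      rw [(hz' i hi).2.1, zero_mul]
    rw [hG1, h2] at h1
    simp only [List.map_cons, List.map_nil, List.sum_cons, List.sum_nil, v_0_1, v_1_1, v_2_1, v_3_1, v_4_1, v_5_1, v_6_1, v_7_1, v_8_1] at h1
    linarith
  have e2 : (1 : ℤ) = (0) * c7 i0 + (0) * c7 i1 + (0) * c7 i2 + (0) * c7 i3 + (1) * c7 i4 + (1) * c7 i5 + (0) * c7 i6 + (0) * c7 i7 + (0) * c7 i8 := by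
    have h1 := Cfsg.Agent.Lib.Helper76_ShapeLib.sum_split [i0, i1, i2, i3, i4, i5, i6, i7, i8] hnd (fun i => c2 i * c7 i)
    have h2 : ∑ i ∈ S, c2 i * c7 i = 0 := Finset.sum_eq_zero fun i hi => by
      rw [(hz' i hi).2.2.1, zero_mul]
    rw [hG2, h2] at h1
    simp only [List.map_cons, List.map_nil, List.sum_cons, List.sum_nil, v_0_2, v_1_2, v_2_2, v_3_2, v_4_2, v_5_2, v_6_2, v_7_2, v_8_2] at h1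
    linarith
  have e3 : (-1 : ℤ) = (0) * c7 i0 + (1) * c7 i1 + (0) * c7 i2 + (0) * c7 i3 + (0) * c7 i4 + (-1) * c7 i5 + (1) * c7 i6 + (0) * c7 i7 + (0) * c7 i8 := by
    have h1 := Cfsg.Agent.Lib.Helper76_ShapeLib.sum_split [i0, i1, i2, i3, i4, i5, i6, i7, i8] hnd (fun i => c3 i * c7 i)
    have h2 : ∑ i ∈ S, c3 i * c7 i = 0 := Finset.sum_eq_zero fun i hi => by
      rw [(hz' i hi).2.2.2.1, zero_mul]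
    rw [hG3, h2] at h1
    simp only [List.map_cons, List.map_nil, List.sum_cons, List.sum_nil, v_0_3, v_1_3, v_2_3, v_3_3, v_4_3, v_5_3, v_6_3, v_7_3, v_8_3] at h1
    linarith
  have e4 : (0 : ℤ) = (0) * c7 i0 + (0) * c7 i1 + (1) * c7 i2 + (0) * c7 i3 + (1) * c7 i4 + (-1) * c7 i5 + (0) * c7 i6 + (0) * c7 i7 + (0) * c7 i8 := by
    have h1 := Cfsg.Agent.Lib.Helper76_ShapeLib.sum_split [i0, i1, i2, i3, i4, i5, i6, i7, i8] hnd (fun i => c4 i * c7 i)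
    have h2 : ∑ i ∈ S, c4 i * c7 i = 0 := Finset.sum_eq_zero fun i hi => by
      rw [(hz' i hi).2.2.2.2.1, zero_mul]
    rw [hG4, h2] at h1
    simp only [List.map_cons, List.map_nil, List.sum_cons, List.sum_nil, v_0_4, v_1_4, v_2_4, v_3_4, v_4_4, v_5_4, v_6_4, v_7_4, v_8_4] at h1
    linarith
  have e5 : (0 : ℤ) = (0) * c7 i0 + (1) * c7 i1 + (0) * c7 i2 + (0) * c7 i3 + (0) * c7 i4 + (0) * c7 i5 + (0) * c7 i6 + (1) * c7 i7 + (1) * c7 i8 := by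
    have h1 := Cfsg.Agent.Lib.Helper76_ShapeLib.sum_split [i0, i1, i2, i3, i4, i5, i6, i7, i8] hnd (fun i => c5 i * c7 i)
    have h2 : ∑ i ∈ S, c5 i * c7 i = 0 := Finset.sum_eq_zero fun i hi => by
      rw [(hz' i hi).2.2.2.2.2.1, zero_mul]
    rw [hG5, h2] at h1
    simp only [List.map_cons, List.map_nil, List.sum_cons, List.sum_nil, v_0_5, v_1_5, v_2_5, v_3_5, v_4_5, v_5_5, v_6_5, v_7_5, v_8_5] at h1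
    linarith
  have e6 : (1 : ℤ) = (0) * c7 i0 + (0) * c7 i1 + (0) * c7 i2 + (1) * c7 i3 + (1) * c7 i4 + (0) * c7 i5 + (-1) * c7 i6 + (1) * c7 i7 + (0) * c7 i8 := by
    have h1 := Cfsg.Agent.Lib.Helper76_ShapeLib.sum_split [i0, i1, i2, i3, i4, i5, i6, i7, i8] hnd (fun i => c6 i * c7 i)
    have h2 : ∑ i ∈ S, c6 i * c7 i = 0 := Finset.sum_eq_zero fun i hi => by
      rw [(hz' i hi).2.2.2.2.2.2, zero_mul]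
    rw [hG6, h2] at h1
    simp only [List.map_cons, List.map_nil, List.sum_cons, List.sum_nil, v_0_6, v_1_6, v_2_6, v_3_6, v_4_6, v_5_6, v_6_6, v_7_6, v_8_6] at h1
    linarith
  have en : (3 : ℤ) = c7 i0 * c7 i0 + c7 i1 * c7 i1 + c7 i2 * c7 i2 + c7 i3 * c7 i3 + c7 i4 * c7 i4 + c7 i5 * c7 i5 + c7 i6 * c7 i6 + c7 i7 * c7 i7 + c7 i8 * c7 i8 + ∑ i ∈ S, c7 i * c7 i := by
    have h1 := Cfsg.Agent.Lib.Helper76_ShapeLib.sum_split [i0, i1, i2, i3, i4, i5, i6, i7, i8] hnd (fun i => c7 i * c7 i)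
    rw [hG7] at h1
    simp only [List.map_cons, List.map_nil, List.sum_cons, List.sum_nil] at h1
    linarith
  have hr : 0 ≤ ∑ i ∈ S, c7 i * c7 i := Finset.sum_nonneg fun i _ => mul_self_nonneg _
  have hnn : ∀ i ∈ S, 0 ≤ c7 i := by
    intro i hi
    obtain ⟨z0, z1, z2, z3, z4, z5, z6⟩ := hz' i hi
    exact hpos i z0 z1 z2 z3 z4 z5 z6
  have hsol := ar_7_3 (c7 i0) (c7 i1) (c7 i2) (c7 i3) (c7 i4) (c7 i5) (c7 i6) (c7 i7) (c7 i8) _ e0 e1 e2 e3 e4 e5 e6 en hr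
  exact hsol

theorem ar_7_4 (x0 x1 x2 x3 x4 x5 x6 x7 r : ℤ) (e0 : (0 : ℤ) = (1) * x0 + (1) * x1 + (0) * x2 + (0) * x3 + (0) * x4 + (0) * x5 + (0) * x6 + (0) * x7) (e1 : (1 : ℤ) = (0) * x0 + (-1) * x1 + (1) * x2 + (1) * x3 + (0) * x4 + (0) * x5 + (0) * x6 + (0) * x7) (e2 : (1 : ℤ) = (0) * x0 + (0) * x1 + (0) * x2 + (0) * x3 + (1) * x4 + (1) * x5 + (0) * x6 + (0) * x7) (e3 : (-1 : ℤ) = (0) * x0 + (1) * x1 + (0) * x2 + (0) * x3 + (0) * x4 + (-1) * x5 + (1) * x6 + (0) * x7) (e4 : (0 : ℤ) = (0) * x0 + (0) * x1 + (1) * x2 + (0) * x3 + (1) * x4 + (-1) * x5 + (0) * x6 + (0) * x7) (e5 : (0 : ℤ) = (1) * x0 + (0) * x1 + (0) * x2 + (-1) * x3 + (0) * x4 + (0) * x5 + (1) * x6 + (0) * x7) (e6 : (1 : ℤ) = (1) * x0 + (-1) * x1 + (0) * x2 + (0) * x3 + (1) * x4 + (0) * x5 + (0) * x6 + (1) * x7) (en : (3 : ℤ)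 = x0 * x0 + x1 * x1 + x2 * x2 + x3 * x3 + x4 * x4 + x5 * x5 + x6 * x6 + x7 * x7 + r) (hr : 0 ≤ r) : (x0 = 0 ∧ x1 = 0 ∧ x2 = 1 ∧ x3 = 0 ∧ x4 = 0 ∧ x5 = 1 ∧ x6 = 0 ∧ x7 = 1 ∧ r = 0) := by
  have hb5 : x5 * x5 ≤ 3 := by linarith [mul_self_nonneg x0, mul_self_nonneg x1, mul_self_nonneg x2, mul_self_nonneg x3, mul_self_nonneg x4, mul_self_nonneg x5, mul_self_nonneg x6, mul_self_nonneg x7]
  obtain ⟨hl5, hu5⟩ := Cfsg.Agent.Lib.Helper76_ShapeLib.bound1 x5 hb5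
  have hb6 : x6 * x6 ≤ 3 := by linarith [mul_self_nonneg x0, mul_self_nonneg x1, mul_self_nonneg x2, mul_self_nonneg x3, mul_self_nonneg x4, mul_self_nonneg x5, mul_self_nonneg x6, mul_self_nonneg x7]
  obtain ⟨hl6, hu6⟩ := Cfsg.Agent.Lib.Helper76_ShapeLib.bound1 x6 hb6
  obtain rfl : x0 = 1 + (-1) * x5 + (1) * x6 := by omega
  obtain rfl : x1 = -1 + (1) * x5 + (-1) * x6 := by omega
  obtain rfl : x4 = 1 + (-1) * x5 := by omega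
  obtain rfl : x2 = -1 + (2) * x5 := by omega
  obtain rfl : x3 = 1 + (-1) * x5 + (-1) * x6 := by omega
  obtain rfl : x7 = -2 + (3) * x5 + (-2) * x6 := by omega
  interval_cases x5 <;> interval_cases x6 <;> omega

theorem ext_7_4 {ι : Type*} [Fintype ι] [DecidableEq ι] (c0 c1 c2 c3 c4 c5 c6 c7 : ι → ℤ)
    (hG0 : ∑ i, c0 i * c7 i = 0)
    (hG1 : ∑ i, c1 i * c7 i = 1)
    (hG2 : ∑ i, c2 i * c7 i = 1)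
    (hG3 : ∑ i, c3 i * c7 i = -1)
    (hG4 : ∑ i, c4 i * c7 i = 0)
    (hG5 : ∑ i, c5 i * c7 i = 0)
    (hG6 : ∑ i, c6 i * c7 i = 1)
    (hG7 : ∑ i, c7 i * c7 i = 3)
    (hpos : ∀ i, c0 i = 0 → c1 i = 0 → c2 i = 0 → c3 i = 0 → c4 i = 0 → c5 i = 0 → c6 i = 0 → 0 ≤ c7 i)
    (h : St_7_4 c0 c1 c2 c3 c4 c5 c6) :
    St_8_2 c0 c1 c2 c3 c4 c5 c6 c7 := by
  obtain ⟨i0, i1, i2, i3, i4, i5, i6, i7, ⟨d_0_1, d_0_2, d_0_3, d_0_4, d_0_5, d_0_6, d_0_7, d_1_2, d_1_3, d_1_4, d_1_5, d_1_6, d_1_7, d_2_3, d_2_4, d_2_5, d_2_6, d_2_7, d_3_4, d_3_5, d_3_6, d_3_7, d_4_5, d_4_6, d_4_7, d_5_6, d_5_7, d_6_7⟩, ⟨v_0_0, v_0_1, v_0_2, v_0_3, v_0_4, v_0_5, v_0_6, v_1_0, v_1_1, v_1_2, v_1_3, v_1_4, v_1_5, v_1_6, v_2_0, v_2_1, v_2_2, v_2_3, v_2_4, v_2_5, v_2_6, v_3_0, v_3_1, v_3_2, v_3_3, v_3_4, v_3_5, v_3_6, v_4_0, v_4_1,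 v_4_2, v_4_3, v_4_4, v_4_5, v_4_6, v_5_0, v_5_1, v_5_2, v_5_3, v_5_4, v_5_5, v_5_6, v_6_0, v_6_1, v_6_2, v_6_3, v_6_4, v_6_5, v_6_6, v_7_0, v_7_1, v_7_2, v_7_3, v_7_4, v_7_5, v_7_6⟩, hz⟩ := h
  have hnd : ([i0, i1, i2, i3, i4, i5, i6, i7] : List ι).Nodup := by
    simp only [List.nodup_cons, List.mem_cons, List.not_mem_nil, or_false, not_or, List.nodup_nil, and_true, not_false_eq_true]
    exact ⟨⟨d_0_1, d_0_2, d_0_3, d_0_4, d_0_5, d_0_6, d_0_7⟩, ⟨d_1_2, d_1_3, d_1_4, d_1_5, d_1_6, d_1_7⟩, ⟨d_2_3, d_2_4, d_2_5, d_2_6, d_2_7⟩, ⟨d_3_4, d_3_5, d_3_6, d_3_7⟩, ⟨d_4_5, d_4_6, d_4_7⟩, ⟨d_5_6, d_5_7⟩, d_6_7⟩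
  set S : Finset ι := Finset.univ \ ([i0, i1, i2, i3, i4, i5, i6, i7] : List ι).toFinset with hS
  have hmem : ∀ i, i ∈ S ↔ (i ≠ i0 ∧ i ≠ i1 ∧ i ≠ i2 ∧ i ≠ i3 ∧ i ≠ i4 ∧ i ≠ i5 ∧ i ≠ i6 ∧ i ≠ i7) := by
    intro i
    simp only [hS, Finset.mem_sdiff, Finset.mem_univ, true_and, List.mem_toFinset, List.mem_cons, List.not_mem_nil, or_false, not_or, ne_eq]
  have hz' : ∀ i ∈ S, (c0 i = 0 ∧ c1 i = 0 ∧ c2 i = 0 ∧ c3 i = 0 ∧ c4 i = 0 ∧ c5 i = 0 ∧ c6 i = 0) := by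
    intro i hi
    obtain ⟨n0, n1, n2, n3, n4, n5, n6, n7⟩ := (hmem i).1 hi
    exact hz i n0 n1 n2 n3 n4 n5 n6 n7
  have e0 : (0 : ℤ) = (1) * c7 i0 + (1) * c7 i1 + (0) * c7 i2 + (0) * c7 i3 + (0) * c7 i4 + (0) * c7 i5 + (0) * c7 i6 + (0) * c7 i7 := by
    have h1 := Cfsg.Agent.Lib.Helper76_ShapeLib.sum_split [i0, i1, i2, i3, i4, i5, i6, i7] hnd (fun i => c0 i * c7 i)
    have h2 : ∑ i ∈ S, c0 i * c7 i = 0 := Finset.sum_eq_zero fun i hi => by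
      rw [(hz' i hi).1, zero_mul]
    rw [hG0, h2] at h1
    simp only [List.map_cons, List.map_nil, List.sum_cons, List.sum_nil, v_0_0, v_1_0, v_2_0, v_3_0, v_4_0, v_5_0, v_6_0, v_7_0] at h1
    linarith
  have e1 : (1 : ℤ) = (0) * c7 i0 + (-1) * c7 i1 + (1) * c7 i2 + (1) * c7 i3 + (0) * c7 i4 + (0) * c7 i5 + (0) * c7 i6 + (0) * c7 i7 := by
    have h1 := Cfsg.Agent.Lib.Helper76_ShapeLib.sum_split [i0, i1, i2, i3, i4, i5, i6, i7] hnd (fun i => c1 i * c7 i)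
    have h2 : ∑ i ∈ S, c1 i * c7 i = 0 := Finset.sum_eq_zero fun i hi => by
      rw [(hz' i hi).2.1, zero_mul]
    rw [hG1, h2] at h1
    simp only [List.map_cons, List.map_nil, List.sum_cons, List.sum_nil, v_0_1, v_1_1, v_2_1, v_3_1, v_4_1, v_5_1, v_6_1, v_7_1] at h1
    linarith
  have e2 : (1 : ℤ) = (0) * c7 i0 + (0) * c7 i1 + (0) * c7 i2 + (0) * c7 i3 + (1) * c7 i4 + (1) * c7 i5 + (0) * c7 i6 + (0) * c7 i7 := by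
    have h1 := Cfsg.Agent.Lib.Helper76_ShapeLib.sum_split [i0, i1, i2, i3, i4, i5, i6, i7] hnd (fun i => c2 i * c7 i)
    have h2 : ∑ i ∈ S, c2 i * c7 i = 0 := Finset.sum_eq_zero fun i hi => by
      rw [(hz' i hi).2.2.1, zero_mul]
    rw [hG2, h2] at h1
    simp only [List.map_cons, List.map_nil, List.sum_cons, List.sum_nil, v_0_2, v_1_2, v_2_2, v_3_2, v_4_2, v_5_2, v_6_2, v_7_2] at h1
    linarith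
  have e3 : (-1 : ℤ) = (0) * c7 i0 + (1) * c7 i1 + (0) * c7 i2 + (0) * c7 i3 + (0) * c7 i4 + (-1) * c7 i5 + (1) * c7 i6 + (0) * c7 i7 := by
    have h1 := Cfsg.Agent.Lib.Helper76_ShapeLib.sum_split [i0, i1, i2, i3, i4, i5, i6, i7] hnd (fun i => c3 i * c7 i)
    have h2 : ∑ i ∈ S, c3 i * c7 i = 0 := Finset.sum_eq_zero fun i hi => by
      rw [(hz' i hi).2.2.2.1, zero_mul]
    rw [hG3, h2] at h1
    simp only [List.map_cons, List.map_nil, List.sum_cons, List.sum_nil, v_0_3, v_1_3, v_2_3, v_3_3, v_4_3, v_5_3, v_6_3, v_7_3] at h1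
    linarith
  have e4 : (0 : ℤ) = (0) * c7 i0 + (0) * c7 i1 + (1) * c7 i2 + (0) * c7 i3 + (1) * c7 i4 + (-1) * c7 i5 + (0) * c7 i6 + (0) * c7 i7 := by
    have h1 := Cfsg.Agent.Lib.Helper76_ShapeLib.sum_split [i0, i1, i2, i3, i4, i5, i6, i7] hnd (fun i => c4 i * c7 i)
    have h2 : ∑ i ∈ S, c4 i * c7 i = 0 := Finset.sum_eq_zero fun i hi => by
      rw [(hz' i hi).2.2.2.2.1, zero_mul]
    rw [hG4, h2] at h1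
    simp only [List.map_cons, List.map_nil, List.sum_cons, List.sum_nil, v_0_4, v_1_4, v_2_4, v_3_4, v_4_4, v_5_4, v_6_4, v_7_4] at h1
    linarith
  have e5 : (0 : ℤ) = (1) * c7 i0 + (0) * c7 i1 + (0) * c7 i2 + (-1) * c7 i3 + (0) * c7 i4 + (0) * c7 i5 + (1) * c7 i6 + (0) * c7 i7 := by
    have h1 := Cfsg.Agent.Lib.Helper76_ShapeLib.sum_split [i0, i1, i2, i3, i4, i5, i6, i7] hnd (fun i => c5 i * c7 i)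
    have h2 : ∑ i ∈ S, c5 i * c7 i = 0 := Finset.sum_eq_zero fun i hi => by
      rw [(hz' i hi).2.2.2.2.2.1, zero_mul]
    rw [hG5, h2] at h1
    simp only [List.map_cons, List.map_nil, List.sum_cons, List.sum_nil, v_0_5, v_1_5, v_2_5, v_3_5, v_4_5, v_5_5, v_6_5, v_7_5] at h1
    linarith
  have e6 : (1 : ℤ) = (1) * c7 i0 + (-1) * c7 i1 + (0) * c7 i2 + (0) * c7 i3 + (1) * c7 i4 + (0) * c7 i5 + (0) * c7 i6 + (1) * c7 i7 := by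
    have h1 := Cfsg.Agent.Lib.Helper76_ShapeLib.sum_split [i0, i1, i2, i3, i4, i5, i6, i7] hnd (fun i => c6 i * c7 i)
    have h2 : ∑ i ∈ S, c6 i * c7 i = 0 := Finset.sum_eq_zero fun i hi => by
      rw [(hz' i hi).2.2.2.2.2.2, zero_mul]
    rw [hG6, h2] at h1
    simp only [List.map_cons, List.map_nil, List.sum_cons, List.sum_nil, v_0_6, v_1_6, v_2_6, v_3_6, v_4_6, v_5_6, v_6_6, v_7_6] at h1
    linarith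
  have en : (3 : ℤ) = c7 i0 * c7 i0 + c7 i1 * c7 i1 + c7 i2 * c7 i2 + c7 i3 * c7 i3 + c7 i4 * c7 i4 + c7 i5 * c7 i5 + c7 i6 * c7 i6 + c7 i7 * c7 i7 + ∑ i ∈ S, c7 i * c7 i := by
    have h1 := Cfsg.Agent.Lib.Helper76_ShapeLib.sum_split [i0, i1, i2, i3, i4, i5, i6, i7] hnd (fun i => c7 i * c7 i)
    rw [hG7] at h1
    simp only [List.map_cons, List.map_nil, List.sum_cons, List.sum_nil] at h1
    linarith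
  have hr : 0 ≤ ∑ i ∈ S, c7 i * c7 i := Finset.sum_nonneg fun i _ => mul_self_nonneg _
  have hnn : ∀ i ∈ S, 0 ≤ c7 i := by
    intro i hi
    obtain ⟨z0, z1, z2, z3, z4, z5, z6⟩ := hz' i hi
    exact hpos i z0 z1 z2 z3 z4 z5 z6
  have hsol := ar_7_4 (c7 i0) (c7 i1) (c7 i2) (c7 i3) (c7 i4) (c7 i5) (c7 i6) (c7 i7) _ e0 e1 e2 e3 e4 e5 e6 en hr
  rcases hsol with ⟨hx0, hx1, hx2, hx3, hx4, hx5, hx6, hx7, hrho⟩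
  · -- solution (0, 0, 1, 0, 0, 1, 0, 1), rho = 0
    have hzr := Cfsg.Agent.Lib.Helper76_ShapeLib.rem0 S c7 hrho
    refine ⟨i0, i1, i2, i3, i4, i5, i6, i7, ⟨d_0_1, d_0_2, d_0_3, d_0_4, d_0_5, d_0_6, d_0_7, d_1_2, d_1_3, d_1_4, d_1_5, d_1_6, d_1_7, d_2_3, d_2_4, d_2_5, d_2_6, d_2_7, d_3_4, d_3_5, d_3_6, d_3_7, d_4_5, d_4_6, d_4_7, d_5_6, d_5_7, d_6_7⟩, ⟨v_0_0, v_0_1, v_0_2, v_0_3, v_0_4, v_0_5, v_0_6, hx0, v_1_0, v_1_1, v_1_2, v_1_3, v_1_4, v_1_5, v_1_6, hx1, v_2_0, v_2_1, v_2_2, v_2_3, v_2_4, v_2_5, v_2_6, hx2, v_3_0, v_3_1, v_3_2, v_3_3, v_3_4, v_3_5, v_3_6, hx3, v_4_0, v_4_1, v_4_2, v_4_3, v_4_4, v_4_5, v_4_6, hx4, v_5_0, v_5_1, v_5_2, v_5_3, v_5_4, v_5_5, v_5_6, hx5, v_6_0, v_6_1, v_6_2, v_6_3, v_6_4, v_6_5, v_6_6, hx6, v_7_0, v_7_1, v_7_2, v_7_3, v_7_4, v_7_5, v_7_6, hx7⟩, ?_⟩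
    intro i m0 m1 m2 m3 m4 m5 m6 m7
    have hiS : i ∈ S := (hmem i).2 ⟨m0, m1, m2, m3, m4, m5, m6, m7⟩
    obtain ⟨y0, y1, y2, y3, y4, y5, y6⟩ := hz' i hiS
    exact ⟨y0, y1, y2, y3, y4, y5, y6, (hzr i hiS)⟩

theorem ar_7_5 (x0 x1 x2 x3 x4 x5 x6 x7 r : ℤ) (e0 : (0 : ℤ) = (1) * x0 + (1) * x1 + (0) * x2 + (0) * x3 + (0) * x4 + (0) * x5 + (0) * x6 + (0) * x7) (e1 : (1 : ℤ) = (0) * x0 + (-1) * x1 + (1) * x2 + (1) * x3 + (0) * x4 + (0) * x5 + (0) * x6 + (0) * x7) (e2 : (1 : ℤ) = (0) * x0 + (0) * x1 + (1) * x2 + (-1) * x3 + (0) * x4 + (0) * x5 + (0) * x6 + (0) * x7) (e3 : (-1 : ℤ) = (1) * x0 + (0) * x1 + (-1) * x2 + (0) * x3 + (1) * x4 + (0) * x5 + (0) * x6 + (0) * x7) (e4 : (0 : ℤ) = (1) * x0 + (-1) * x1 + (0) * x2 + (0) * x3 + (0) * x4 + (1) * x5 + (0) * x6 + (0) * x7) (e5 : (0 : ℤ) = (0) * x0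 + (1) * x1 + (0) * x2 + (0) * x3 + (1) * x4 + (1) * x5 + (0) * x6 + (0) * x7) (e6 : (1 : ℤ) = (0) * x0 + (0) * x1 + (1) * x2 + (0) * x3 + (0) * x4 + (1) * x5 + (1) * x6 + (1) * x7) (en : (3 : ℤ) = x0 * x0 + x1 * x1 + x2 * x2 + x3 * x3 + x4 * x4 + x5 * x5 + x6 * x6 + x7 * x7 + r) (hr : 0 ≤ r) : (x0 = 0 ∧ x1 = 0 ∧ x2 = 1 ∧ x3 = 0 ∧ x4 = 0 ∧ x5 = 0 ∧ x6 = 0 ∧ x7 = 0 ∧ r = 2) ∨ (x0 = 0 ∧ x1 = 0 ∧ x2 = 1 ∧ x3 = 0 ∧ x4 = 0 ∧ x5 = 0 ∧ x6 = 1 ∧ x7 = -1 ∧ r = 0) ∨ (x0 = 0 ∧ x1 = 0 ∧ x2 = 1 ∧ x3 = 0 ∧ x4 = 0 ∧ x5 = 0 ∧ x6 = -1 ∧ x7 = 1 ∧ r = 0) := by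
  have hb3 : x3 * x3 ≤ 3 := by linarith [mul_self_nonneg x0, mul_self_nonneg x1, mul_self_nonneg x2, mul_self_nonneg x3, mul_self_nonneg x4, mul_self_nonneg x5, mul_self_nonneg x6, mul_self_nonneg x7]
  obtain ⟨hl3, hu3⟩ := Cfsg.Agent.Lib.Helper76_ShapeLib.bound1 x3 hb3
  have hb7 : x7 * x7 ≤ 3 := by linarith [mul_self_nonneg x0, mul_self_nonneg x1, mul_self_nonneg x2, mul_self_nonneg x3, mul_self_nonneg x4, mul_self_nonneg x5, mul_self_nonneg x6, mul_self_nonneg x7]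
  obtain ⟨hl7, hu7⟩ := Cfsg.Agent.Lib.Helper76_ShapeLib.bound1 x7 hb7
  obtain rfl : x0 = 0 + (-2) * x3 := by omega
  obtain rfl : x1 = 0 + (2) * x3 := by omega
  obtain rfl : x2 = 1 + (1) * x3 := by omega
  obtain rfl : x4 = 0 + (3) * x3 := by omega
  obtain rfl : x5 = 0 + (4) * x3 := by omega
  obtain rfl : x6 = 0 + (-5) * x3 + (-1) * x7 := by omega
  interval_cases x3 <;> interval_cases x7 <;> omega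

theorem ext_7_5 {ι : Type*} [Fintype ι] [DecidableEq ι] (c0 c1 c2 c3 c4 c5 c6 c7 : ι → ℤ)
    (hG0 : ∑ i, c0 i * c7 i = 0)
    (hG1 : ∑ i, c1 i * c7 i = 1)
    (hG2 : ∑ i, c2 i * c7 i = 1)
    (hG3 : ∑ i, c3 i * c7 i = -1)
    (hG4 : ∑ i, c4 i * c7 i = 0)
    (hG5 : ∑ i, c5 i * c7 i = 0)
    (hG6 : ∑ i, c6 i * c7 i = 1)
    (hG7 : ∑ i, c7 i * c7 i = 3)
    (hpos : ∀ i, c0 i = 0 → c1 i = 0 → c2 i = 0 → c3 i = 0 → c4 i = 0 → c5 i = 0 → c6 i = 0 → 0 ≤ c7 i)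
    (h : St_7_5 c0 c1 c2 c3 c4 c5 c6) :
    St_8_3 c0 c1 c2 c3 c4 c5 c6 c7 ∨ St_8_4 c0 c1 c2 c3 c4 c5 c6 c7 := by
  obtain ⟨i0, i1, i2, i3, i4, i5, i6, i7, ⟨d_0_1, d_0_2, d_0_3, d_0_4, d_0_5, d_0_6, d_0_7, d_1_2, d_1_3, d_1_4, d_1_5, d_1_6, d_1_7, d_2_3, d_2_4, d_2_5, d_2_6, d_2_7, d_3_4, d_3_5, d_3_6, d_3_7, d_4_5, d_4_6, d_4_7, d_5_6, d_5_7, d_6_7⟩, ⟨v_0_0, v_0_1, v_0_2, v_0_3, v_0_4, v_0_5, v_0_6, v_1_0, v_1_1, v_1_2, v_1_3, v_1_4, v_1_5, v_1_6, v_2_0, v_2_1, v_2_2, v_2_3, v_2_4, v_2_5, v_2_6, v_3_0, v_3_1, v_3_2, v_3_3, v_3_4, v_3_5, v_3_6, v_4_0, v_4_1, v_4_2, v_4_3, v_4_4, v_4_5, v_4_6, v_5_0, v_5_1, v_5_2, v_5_3, v_5_4, v_5_5, v_5_6, v_6_0, v_6_1, v_6_2, v_6_3, v_6_4, v_6_5, v_6_6, v_7_0, v_7_1, v_7_2, v_7_3, v_7_4, v_7_5, v_7_6⟩, hz⟩ := h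
  have hnd : ([i0, i1, i2, i3, i4, i5, i6, i7] : List ι).Nodup := by
    simp only [List.nodup_cons, List.mem_cons, List.not_mem_nil, or_false, not_or, List.nodup_nil, and_true, not_false_eq_true]
    exact ⟨⟨d_0_1, d_0_2, d_0_3, d_0_4, d_0_5, d_0_6, d_0_7⟩, ⟨d_1_2, d_1_3, d_1_4, d_1_5, d_1_6, d_1_7⟩, ⟨d_2_3, d_2_4, d_2_5, d_2_6, d_2_7⟩, ⟨d_3_4, d_3_5, d_3_6, d_3_7⟩, ⟨d_4_5, d_4_6, d_4_7⟩, ⟨d_5_6, d_5_7⟩, d_6_7⟩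
  set S : Finset ι := Finset.univ \ ([i0, i1, i2, i3, i4, i5, i6, i7] : List ι).toFinset with hS
  have hmem : ∀ i, i ∈ S ↔ (i ≠ i0 ∧ i ≠ i1 ∧ i ≠ i2 ∧ i ≠ i3 ∧ i ≠ i4 ∧ i ≠ i5 ∧ i ≠ i6 ∧ i ≠ i7) := by
    intro i
    simp only [hS, Finset.mem_sdiff, Finset.mem_univ, true_and, List.mem_toFinset, List.mem_cons, List.not_mem_nil, or_false, not_or, ne_eq]
  have hz' : ∀ i ∈ S, (c0 i = 0 ∧ c1 i = 0 ∧ c2 i = 0 ∧ c3 i = 0 ∧ c4 i = 0 ∧ c5 i = 0 ∧ c6 i = 0) := by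
    intro i hi
    obtain ⟨n0, n1, n2, n3, n4, n5, n6, n7⟩ := (hmem i).1 hi
    exact hz i n0 n1 n2 n3 n4 n5 n6 n7
  have e0 : (0 : ℤ) = (1) * c7 i0 + (1) * c7 i1 + (0) * c7 i2 + (0) * c7 i3 + (0) * c7 i4 + (0) * c7 i5 + (0) * c7 i6 + (0) * c7 i7 := by
    have h1 := Cfsg.Agent.Lib.Helper76_ShapeLib.sum_split [i0, i1, i2, i3, i4, i5, i6, i7] hnd (fun i => c0 i * c7 i)
    have h2 : ∑ i ∈ S, c0 i * c7 i = 0 := Finset.sum_eq_zero fun i hi => by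
      rw [(hz' i hi).1, zero_mul]
    rw [hG0, h2] at h1
    simp only [List.map_cons, List.map_nil, List.sum_cons, List.sum_nil, v_0_0, v_1_0, v_2_0, v_3_0, v_4_0, v_5_0, v_6_0, v_7_0] at h1
    linarith
  have e1 : (1 : ℤ) = (0) * c7 i0 + (-1) * c7 i1 + (1) * c7 i2 + (1) * c7 i3 + (0) * c7 i4 + (0) * c7 i5 + (0) * c7 i6 + (0) * c7 i7 := by
    have h1 := Cfsg.Agent.Lib.Helper76_ShapeLib.sum_split [i0, i1, i2, i3, i4, i5, i6, i7] hnd (fun i => c1 i * c7 i)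
    have h2 : ∑ i ∈ S, c1 i * c7 i = 0 := Finset.sum_eq_zero fun i hi => by
      rw [(hz' i hi).2.1, zero_mul]
    rw [hG1, h2] at h1
    simp only [List.map_cons, List.map_nil, List.sum_cons, List.sum_nil, v_0_1, v_1_1, v_2_1, v_3_1, v_4_1, v_5_1, v_6_1, v_7_1] at h1
    linarith
  have e2 : (1 : ℤ) = (0) * c7 i0 + (0) * c7 i1 + (1) * c7 i2 + (-1) * c7 i3 + (0) * c7 i4 + (0) * c7 i5 + (0) * c7 i6 + (0) * c7 i7 := by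
    have h1 := Cfsg.Agent.Lib.Helper76_ShapeLib.sum_split [i0, i1, i2, i3, i4, i5, i6, i7] hnd (fun i => c2 i * c7 i)
    have h2 : ∑ i ∈ S, c2 i * c7 i = 0 := Finset.sum_eq_zero fun i hi => by
      rw [(hz' i hi).2.2.1, zero_mul]
    rw [hG2, h2] at h1
    simp only [List.map_cons, List.map_nil, List.sum_cons, List.sum_nil, v_0_2, v_1_2, v_2_2, v_3_2, v_4_2, v_5_2, v_6_2, v_7_2] at h1
    linarith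
  have e3 : (-1 : ℤ) = (1) * c7 i0 + (0) * c7 i1 + (-1) * c7 i2 + (0) * c7 i3 + (1) * c7 i4 + (0) * c7 i5 + (0) * c7 i6 + (0) * c7 i7 := by
    have h1 := Cfsg.Agent.Lib.Helper76_ShapeLib.sum_split [i0, i1, i2, i3, i4, i5, i6, i7] hnd (fun i => c3 i * c7 i)
    have h2 : ∑ i ∈ S, c3 i * c7 i = 0 := Finset.sum_eq_zero fun i hi => by
      rw [(hz' i hi).2.2.2.1, zero_mul]
    rw [hG3, h2] at h1
    simp only [List.map_cons, List.map_nil, List.sum_cons, List.sum_nil, v_0_3, v_1_3, v_2_3, v_3_3, v_4_3, v_5_3, v_6_3, v_7_3] at h1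
    linarith
  have e4 : (0 : ℤ) = (1) * c7 i0 + (-1) * c7 i1 + (0) * c7 i2 + (0) * c7 i3 + (0) * c7 i4 + (1) * c7 i5 + (0) * c7 i6 + (0) * c7 i7 := by
    have h1 := Cfsg.Agent.Lib.Helper76_ShapeLib.sum_split [i0, i1, i2, i3, i4, i5, i6, i7] hnd (fun i => c4 i * c7 i)
    have h2 : ∑ i ∈ S, c4 i * c7 i = 0 := Finset.sum_eq_zero fun i hi => by
      rw [(hz' i hi).2.2.2.2.1, zero_mul]
    rw [hG4, h2] at h1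
    simp only [List.map_cons, List.map_nil, List.sum_cons, List.sum_nil, v_0_4, v_1_4, v_2_4, v_3_4, v_4_4, v_5_4, v_6_4, v_7_4] at h1
    linarith
  have e5 : (0 : ℤ) = (0) * c7 i0 + (1) * c7 i1 + (0) * c7 i2 + (0) * c7 i3 + (1) * c7 i4 + (1) * c7 i5 + (0) * c7 i6 + (0) * c7 i7 := by
    have h1 := Cfsg.Agent.Lib.Helper76_ShapeLib.sum_split [i0, i1, i2, i3, i4, i5, i6, i7] hnd (fun i => c5 i * c7 i)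
    have h2 : ∑ i ∈ S, c5 i * c7 i = 0 := Finset.sum_eq_zero fun i hi => by
      rw [(hz' i hi).2.2.2.2.2.1, zero_mul]
    rw [hG5, h2] at h1
    simp only [List.map_cons, List.map_nil, List.sum_cons, List.sum_nil, v_0_5, v_1_5, v_2_5, v_3_5, v_4_5, v_5_5, v_6_5, v_7_5] at h1
    linarith
  have e6 : (1 : ℤ) = (0) * c7 i0 + (0) * c7 i1 + (1) * c7 i2 + (0) * c7 i3 + (0) * c7 i4 + (1) * c7 i5 + (1) * c7 i6 + (1) * c7 i7 := by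
    have h1 := Cfsg.Agent.Lib.Helper76_ShapeLib.sum_split [i0, i1, i2, i3, i4, i5, i6, i7] hnd (fun i => c6 i * c7 i)
    have h2 : ∑ i ∈ S, c6 i * c7 i = 0 := Finset.sum_eq_zero fun i hi => by
      rw [(hz' i hi).2.2.2.2.2.2, zero_mul]
    rw [hG6, h2] at h1
    simp only [List.map_cons, List.map_nil, List.sum_cons, List.sum_nil, v_0_6, v_1_6, v_2_6, v_3_6, v_4_6, v_5_6, v_6_6, v_7_6] at h1
    linarith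
  have en : (3 : ℤ) = c7 i0 * c7 i0 + c7 i1 * c7 i1 + c7 i2 * c7 i2 + c7 i3 * c7 i3 + c7 i4 * c7 i4 + c7 i5 * c7 i5 + c7 i6 * c7 i6 + c7 i7 * c7 i7 + ∑ i ∈ S, c7 i * c7 i := by
    have h1 := Cfsg.Agent.Lib.Helper76_ShapeLib.sum_split [i0, i1, i2, i3, i4, i5, i6, i7] hnd (fun i => c7 i * c7 i)
    rw [hG7] at h1
    simp only [List.map_cons, List.map_nil, List.sum_cons, List.sum_nil] at h1
    linarith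
  have hr : 0 ≤ ∑ i ∈ S, c7 i * c7 i := Finset.sum_nonneg fun i _ => mul_self_nonneg _
  have hnn : ∀ i ∈ S, 0 ≤ c7 i := by
    intro i hi
    obtain ⟨z0, z1, z2, z3, z4, z5, z6⟩ := hz' i hi
    exact hpos i z0 z1 z2 z3 z4 z5 z6
  have hsol := ar_7_5 (c7 i0) (c7 i1) (c7 i2) (c7 i3) (c7 i4) (c7 i5) (c7 i6) (c7 i7) _ e0 e1 e2 e3 e4 e5 e6 en hr
  rcases hsol with ⟨hx0, hx1, hx2, hx3, hx4, hx5, hx6, hx7, hrho⟩ | ⟨hx0, hx1, hx2, hx3, hx4, hx5, hx6, hx7, hrho⟩ | ⟨hx0, hx1, hx2, hx3, hx4, hx5, hx6, hx7, hrho⟩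
  · -- solution (0, 0, 1, 0, 0, 0, 0, 0), rho = 2
    obtain ⟨a, haS, b, hbS, hab, hfa, hfb, hzr⟩ := Cfsg.Agent.Lib.Helper76_ShapeLib.rem2 S c7 hnn hrho
    obtain ⟨na0, na1, na2, na3, na4, na5, na6, na7⟩ := (hmem a).1 haS
    obtain ⟨za0, za1, za2, za3, za4, za5, za6⟩ := hz' a haS
    obtain ⟨nb0, nb1, nb2, nb3, nb4, nb5, nb6, nb7⟩ := (hmem b).1 hbS
    obtain ⟨zb0, zb1, zb2, zb3, zb4, zb5, zb6⟩ := hz' b hbS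
    refine (Or.inl ⟨i0, i1, i2, i3, i4, i5, i6, i7, a, b, ⟨d_0_1, d_0_2, d_0_3, d_0_4, d_0_5, d_0_6, d_0_7, na0.symm, nb0.symm, d_1_2, d_1_3, d_1_4, d_1_5, d_1_6, d_1_7, na1.symm, nb1.symm, d_2_3, d_2_4, d_2_5, d_2_6, d_2_7, na2.symm, nb2.symm, d_3_4, d_3_5, d_3_6, d_3_7, na3.symm, nb3.symm, d_4_5, d_4_6, d_4_7, na4.symm, nb4.symm, d_5_6, d_5_7, na5.symm, nb5.symm, d_6_7, na6.symm, nb6.symm, na7.symm, nb7.symm, hab⟩, ⟨v_0_0, v_0_1, v_0_2, v_0_3, v_0_4, v_0_5, v_0_6, hx0, v_1_0, v_1_1, v_1_2, v_1_3, v_1_4, v_1_5, v_1_6, hx1, v_2_0, v_2_1, v_2_2, v_2_3, v_2_4, v_2_5, v_2_6, hx2, v_3_0, v_3_1, v_3_2, v_3_3, v_3_4, v_3_5, v_3_6, hx3, v_4_0, v_4_1, v_4_2, v_4_3, v_4_4, v_4_5, v_4_6, hx4, v_5_0, v_5_1, v_5_2, v_5_3, v_5_4, v_5_5, v_5_6, hx5, v_6_0, v_6_1, v_6_2, v_6_3, v_6_4, v_6_5, v_6_6, hx6, v_7_0,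 v_7_1, v_7_2, v_7_3, v_7_4, v_7_5, v_7_6, hx7, za0, za1, za2, za3, za4, za5, za6, hfa, zb0, zb1, zb2, zb3, zb4, zb5, zb6, hfb⟩, ?_⟩)
    intro i m0 m1 m2 m3 m4 m5 m6 m7 m8 m9
    have hiS : i ∈ S := (hmem i).2 ⟨m0, m1, m2, m3, m4, m5, m6, m7⟩
    obtain ⟨y0, y1, y2, y3, y4, y5, y6⟩ := hz' i hiS
    exact ⟨y0, y1, y2, y3, y4, y5, y6, (hzr i hiS m8 m9)⟩
  · -- solution (0, 0, 1, 0, 0, 0, 1, -1), rho = 0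
    have hzr := Cfsg.Agent.Lib.Helper76_ShapeLib.rem0 S c7 hrho
    refine (Or.inr ⟨i0, i1, i2, i3, i4, i5, i6, i7, ⟨d_0_1, d_0_2, d_0_3, d_0_4, d_0_5, d_0_6, d_0_7, d_1_2, d_1_3, d_1_4, d_1_5, d_1_6, d_1_7, d_2_3, d_2_4, d_2_5, d_2_6, d_2_7, d_3_4, d_3_5, d_3_6, d_3_7, d_4_5, d_4_6, d_4_7, d_5_6, d_5_7, d_6_7⟩, ⟨v_0_0, v_0_1, v_0_2, v_0_3, v_0_4, v_0_5, v_0_6, hx0, v_1_0, v_1_1, v_1_2, v_1_3, v_1_4, v_1_5, v_1_6, hx1, v_2_0, v_2_1, v_2_2, v_2_3, v_2_4, v_2_5, v_2_6, hx2, v_3_0, v_3_1, v_3_2, v_3_3, v_3_4, v_3_5, v_3_6, hx3, v_4_0, v_4_1, v_4_2, v_4_3, v_4_4, v_4_5, v_4_6, hx4, v_5_0, v_5_1, v_5_2, v_5_3, v_5_4, v_5_5, v_5_6, hx5, v_6_0, v_6_1, v_6_2, v_6_3, v_6_4, v_6_5, v_6_6, hx6, v_7_0, v_7_1, v_7_2, v_7_3, v_7_4, v_7_5, v_7_6, hx7⟩, ?_⟩)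
    intro i m0 m1 m2 m3 m4 m5 m6 m7
    have hiS : i ∈ S := (hmem i).2 ⟨m0, m1, m2, m3, m4, m5, m6, m7⟩
    obtain ⟨y0, y1, y2, y3, y4, y5, y6⟩ := hz' i hiS
    exact ⟨y0, y1, y2, y3, y4, y5, y6, (hzr i hiS)⟩
  · -- solution (0, 0, 1, 0, 0, 0, -1, 1), rho = 0
    have hzr := Cfsg.Agent.Lib.Helper76_ShapeLib.rem0 S c7 hrho
    refine (Or.inr ⟨i0, i1, i2, i3, i4, i5, i7, i6, ⟨d_0_1, d_0_2, d_0_3, d_0_4, d_0_5, d_0_7, d_0_6, d_1_2, d_1_3, d_1_4, d_1_5, d_1_7, d_1_6, d_2_3, d_2_4, d_2_5, d_2_7, d_2_6, d_3_4, d_3_5, d_3_7, d_3_6, d_4_5, d_4_7, d_4_6, d_5_7, d_5_6, d_6_7.symm⟩, ⟨v_0_0, v_0_1, v_0_2, v_0_3, v_0_4, v_0_5, v_0_6, hx0, v_1_0, v_1_1, v_1_2, v_1_3, v_1_4, v_1_5, v_1_6, hx1, v_2_0, v_2_1, v_2_2, v_2_3, v_2_4, v_2_5, v_2_6, hx2, v_3_0, v_3_1, v_3_2, v_3_3, v_3_4, v_3_5, v_3_6, hx3, v_4_0,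 v_4_1, v_4_2, v_4_3, v_4_4, v_4_5, v_4_6, hx4, v_5_0, v_5_1, v_5_2, v_5_3, v_5_4, v_5_5, v_5_6, hx5, v_7_0, v_7_1, v_7_2, v_7_3, v_7_4, v_7_5, v_7_6, hx7, v_6_0, v_6_1, v_6_2, v_6_3, v_6_4, v_6_5, v_6_6, hx6⟩, ?_⟩)
    intro i m0 m1 m2 m3 m4 m5 m6 m7
    have hiS : i ∈ S := (hmem i).2 ⟨m0, m1, m2, m3, m4, m5, m7, m6⟩
    obtain ⟨y0, y1, y2, y3, y4, y5, y6⟩ := hz' i hiS
    exact ⟨y0, y1, y2, y3, y4, y5, y6, (hzr i hiS)⟩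

theorem ar_8_0 (x0 x1 x2 x3 x4 x5 x6 x7 x8 x9 x10 x11 r : ℤ) (e0 : (0 : ℤ) = (1) * x0 + (1) * x1 + (0) * x2 + (0) * x3 + (0) * x4 + (0) * x5 + (0) * x6 + (0) * x7 + (0) * x8 + (0) * x9 + (0) * x10 + (0) * x11) (e1 : (1 : ℤ) = (0) * x0 + (-1) * x1 + (1) * x2 + (1) * x3 + (0) * x4 + (0) * x5 + (0) * x6 + (0) * x7 + (0) * x8 + (0) * x9 + (0) * x10 + (0) * x11) (e2 : (0 : ℤ) = (0) * x0 + (0) * x1 + (0) * x2 + (0) * x3 + (1) * x4 + (1) * x5 + (0) * x6 + (0) * x7 + (0) * x8 + (0) * x9 + (0) * x10 + (0) * x11) (e3 : (1 : ℤ) = (0) * x0 + (1) * x1 + (0) * x2 + (0) * x3 + (0) * x4 + (-1) * x5 + (1) * x6 + (0) * x7 + (0) * x8 + (0) * x9 + (0) * x10 + (0) * x11) (e4 : (1 : ℤ) = (0) * x0 + (0) * x1 + (1) * x2 + (0) * x3 + (0) * x4 + (0) * x5 + (1) * x6 + (1) * x7 + (0) * x8 + (0) * x9 + (0) * x10 + (0)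 * x11) (e5 : (1 : ℤ) = (0) * x0 + (1) * x1 + (0) * x2 + (0) * x3 + (0) * x4 + (0) * x5 + (0) * x6 + (0) * x7 + (1) * x8 + (1) * x9 + (0) * x10 + (0) * x11) (e6 : (1 : ℤ) = (0) * x0 + (0) * x1 + (1) * x2 + (0) * x3 + (0) * x4 + (1) * x5 + (0) * x6 + (0) * x7 + (1) * x8 + (0) * x9 + (1) * x10 + (0) * x11) (e7 : (1 : ℤ) = (0) * x0 + (0) * x1 + (0) * x2 + (1) * x3 + (0) * x4 + (1) * x5 + (0) * x6 + (0) * x7 + (0) * x8 + (0) * x9 + (0) * x10 + (1) * x11) (en : (4 : ℤ) = x0 * x0 + x1 * x1 + x2 * x2 + x3 * x3 + x4 * x4 + x5 * x5 + x6 * x6 + x7 * x7 + x8 * x8 + x9 * x9 + x10 * x10 + x11 * x11 + r) (hr : 0 ≤ r) : (x0 = 0 ∧ x1 = 0 ∧ x2 = 0 ∧ x3 = 1 ∧ x4 = 0 ∧ x5 = 0 ∧ x6 = 1 ∧ x7 = 0 ∧ x8 = 0 ∧ x9 = 1 ∧ x10 = 1 ∧ x11 = 0 ∧ r = 0) ∨ (x0 = 0 ∧ x1 = 0 ∧ x2 = 0 ∧ x3 = 1 ∧ x4 = 0 ∧ x5 = 0 ∧ x6 = 1 ∧ x7 = 0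 ∧ x8 = 1 ∧ x9 = 0 ∧ x10 = 0 ∧ x11 = 0 ∧ r = 1) ∨ (x0 = -1 ∧ x1 = 1 ∧ x2 = 1 ∧ x3 = 1 ∧ x4 = 0 ∧ x5 = 0 ∧ x6 = 0 ∧ x7 = 0 ∧ x8 = 0 ∧ x9 = 0 ∧ x10 = 0 ∧ x11 = 0 ∧ r = 0) := by
  have hb6 : x6 * x6 ≤ 4 := by linarith [mul_self_nonneg x0, mul_self_nonneg x1, mul_self_nonneg x2, mul_self_nonneg x3, mul_self_nonneg x4, mul_self_nonneg x5, mul_self_nonneg x6, mul_self_nonneg x7, mul_self_nonneg x8, mul_self_nonneg x9, mul_self_nonneg x10, mul_self_nonneg x11]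
  obtain ⟨hl6, hu6⟩ := Cfsg.Agent.Lib.Helper76_ShapeLib.bound2 x6 hb6
  have hb8 : x8 * x8 ≤ 4 := by linarith [mul_self_nonneg x0, mul_self_nonneg x1, mul_self_nonneg x2, mul_self_nonneg x3, mul_self_nonneg x4, mul_self_nonneg x5, mul_self_nonneg x6, mul_self_nonneg x7, mul_self_nonneg x8, mul_self_nonneg x9, mul_self_nonneg x10, mul_self_nonneg x11]
  obtain ⟨hl8, hu8⟩ := Cfsg.Agent.Lib.Helper76_ShapeLib.bound2 x8 hb8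
  have hb9 : x9 * x9 ≤ 4 := by linarith [mul_self_nonneg x0, mul_self_nonneg x1, mul_self_nonneg x2, mul_self_nonneg x3, mul_self_nonneg x4, mul_self_nonneg x5, mul_self_nonneg x6, mul_self_nonneg x7, mul_self_nonneg x8, mul_self_nonneg x9, mul_self_nonneg x10, mul_self_nonneg x11]
  obtain ⟨hl9, hu9⟩ := Cfsg.Agent.Lib.Helper76_ShapeLib.bound2 x9 hb9
  have hb11 : x11 * x11 ≤ 4 := by linarith [mul_self_nonneg x0, mul_self_nonneg x1, mul_self_nonneg x2, mul_self_nonneg x3, mul_self_nonneg x4, mul_self_nonneg x5, mul_self_nonneg x6, mul_self_nonneg x7, mul_self_nonneg x8, mul_self_nonneg x9, mul_self_nonneg x10, mul_self_nonneg x11]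
  obtain ⟨hl11, hu11⟩ := Cfsg.Agent.Lib.Helper76_ShapeLib.bound2 x11 hb11
  obtain rfl : x0 = -1 + (1) * x8 + (1) * x9 := by omega
  obtain rfl : x1 = 1 + (-1) * x8 + (-1) * x9 := by omega
  obtain rfl : x4 = 0 + (-1) * x6 + (1) * x8 + (1) * x9 := by omega
  obtain rfl : x2 = 1 + (1) * x6 + (-2) * x8 + (-2) * x9 + (1) * x11 := by omega
  obtain rfl : x3 = 1 + (-1) * x6 + (1) * x8 + (1) * x9 + (-1) * x11 := by omega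
  obtain rfl : x5 = 0 + (1) * x6 + (-1) * x8 + (-1) * x9 := by omega
  obtain rfl : x7 = 0 + (-2) * x6 + (2) * x8 + (2) * x9 + (-1) * x11 := by omega
  obtain rfl : x10 = 0 + (-2) * x6 + (2) * x8 + (3) * x9 + (-1) * x11 := by omega
  interval_cases x6 <;> interval_cases x8 <;> interval_cases x9 <;> interval_cases x11 <;> omega

theorem ext_8_0 {ι : Type*} [Fintype ι] [DecidableEq ι] (c0 c1 c2 c3 c4 c5 c6 c7 c8 : ι → ℤ)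
    (hG0 : ∑ i, c0 i * c8 i = 0)
    (hG1 : ∑ i, c1 i * c8 i = 1)
    (hG2 : ∑ i, c2 i * c8 i = 0)
    (hG3 : ∑ i, c3 i * c8 i = 1)
    (hG4 : ∑ i, c4 i * c8 i = 1)
    (hG5 : ∑ i, c5 i * c8 i = 1)
    (hG6 : ∑ i, c6 i * c8 i = 1)
    (hG7 : ∑ i, c7 i * c8 i = 1)
    (hG8 : ∑ i, c8 i * c8 i = 4)
    (hpos : ∀ i, c0 i = 0 → c1 i = 0 → c2 i = 0 → c3 i = 0 → c4 i = 0 → c5 i = 0 → c6 i = 0 → c7 i = 0 → 0 ≤ c8 i)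
    (h : St_8_0 c0 c1 c2 c3 c4 c5 c6 c7) :
    St_9_0 c0 c1 c2 c3 c4 c5 c6 c7 c8 ∨ St_9_1 c0 c1 c2 c3 c4 c5 c6 c7 c8 ∨ St_9_2 c0 c1 c2 c3 c4 c5 c6 c7 c8 := by
  obtain ⟨i0, i1, i2, i3, i4, i5, i6, i7, i8, i9, i10, i11, ⟨d_0_1, d_0_2, d_0_3, d_0_4, d_0_5, d_0_6, d_0_7, d_0_8, d_0_9, d_0_10, d_0_11, d_1_2, d_1_3, d_1_4, d_1_5, d_1_6, d_1_7, d_1_8, d_1_9, d_1_10, d_1_11, d_2_3, d_2_4, d_2_5, d_2_6, d_2_7, d_2_8, d_2_9, d_2_10, d_2_11, d_3_4, d_3_5, d_3_6, d_3_7, d_3_8, d_3_9, d_3_10, d_3_11, d_4_5, d_4_6, d_4_7, d_4_8, d_4_9, d_4_10, d_4_11, d_5_6, d_5_7, d_5_8, d_5_9, d_5_10, d_5_11, d_6_7, d_6_8, d_6_9, d_6_10, d_6_11, d_7_8, d_7_9, d_7_10, d_7_11, d_8_9, d_8_10, d_8_11, d_9_10, d_9_11, d_10_11⟩, ⟨v_0_0, v_0_1, v_0_2, v_0_3, v_0_4, v_0_5, v_0_6, v_0_7, v_1_0, v_1_1, v_1_2, v_1_3, v_1_4, v_1_5,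 v_1_6, v_1_7, v_2_0, v_2_1, v_2_2, v_2_3, v_2_4, v_2_5, v_2_6, v_2_7, v_3_0, v_3_1, v_3_2, v_3_3, v_3_4, v_3_5, v_3_6, v_3_7, v_4_0, v_4_1, v_4_2, v_4_3, v_4_4, v_4_5, v_4_6, v_4_7, v_5_0, v_5_1, v_5_2, v_5_3, v_5_4, v_5_5, v_5_6, v_5_7, v_6_0, v_6_1, v_6_2, v_6_3, v_6_4, v_6_5, v_6_6, v_6_7, v_7_0, v_7_1, v_7_2, v_7_3, v_7_4, v_7_5, v_7_6, v_7_7, v_8_0, v_8_1, v_8_2, v_8_3, v_8_4, v_8_5, v_8_6, v_8_7, v_9_0, v_9_1, v_9_2, v_9_3, v_9_4, v_9_5, v_9_6, v_9_7, v_10_0, v_10_1, v_10_2, v_10_3, v_10_4, v_10_5, v_10_6, v_10_7, v_11_0, v_11_1, v_11_2, v_11_3, v_11_4, v_11_5, v_11_6, v_11_7⟩, hz⟩ := h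
  have hnd : ([i0, i1, i2, i3, i4, i5, i6, i7, i8, i9, i10, i11] : List ι).Nodup := by
    simp only [List.nodup_cons, List.mem_cons, List.not_mem_nil, or_false, not_or, List.nodup_nil, and_true, not_false_eq_true]
    exact ⟨⟨d_0_1, d_0_2, d_0_3, d_0_4, d_0_5, d_0_6, d_0_7, d_0_8, d_0_9, d_0_10, d_0_11⟩, ⟨d_1_2, d_1_3, d_1_4, d_1_5, d_1_6, d_1_7, d_1_8, d_1_9, d_1_10, d_1_11⟩, ⟨d_2_3, d_2_4, d_2_5, d_2_6, d_2_7, d_2_8, d_2_9, d_2_10, d_2_11⟩, ⟨d_3_4, d_3_5, d_3_6, d_3_7, d_3_8, d_3_9, d_3_10, d_3_11⟩, ⟨d_4_5, d_4_6, d_4_7, d_4_8, d_4_9, d_4_10, d_4_11⟩, ⟨d_5_6, d_5_7, d_5_8, d_5_9, d_5_10, d_5_11⟩, ⟨d_6_7, d_6_8, d_6_9, d_6_10, d_6_11⟩, ⟨d_7_8, d_7_9, d_7_10, d_7_11⟩, ⟨d_8_9, d_8_10, d_8_11⟩, ⟨d_9_10, d_9_11⟩, d_10_11⟩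
  set S : Finset ι := Finset.univ \ ([i0, i1, i2, i3, i4, i5, i6, i7, i8, i9, i10, i11] : List ι).toFinset with hS
  have hmem : ∀ i, i ∈ S ↔ (i ≠ i0 ∧ i ≠ i1 ∧ i ≠ i2 ∧ i ≠ i3 ∧ i ≠ i4 ∧ i ≠ i5 ∧ i ≠ i6 ∧ i ≠ i7 ∧ i ≠ i8 ∧ i ≠ i9 ∧ i ≠ i10 ∧ i ≠ i11) := by
    intro i
    simp only [hS, Finset.mem_sdiff, Finset.mem_univ, true_and, List.mem_toFinset, List.mem_cons, List.not_mem_nil, or_false, not_or, ne_eq]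
  have hz' : ∀ i ∈ S, (c0 i = 0 ∧ c1 i = 0 ∧ c2 i = 0 ∧ c3 i = 0 ∧ c4 i = 0 ∧ c5 i = 0 ∧ c6 i = 0 ∧ c7 i = 0) := by
    intro i hi
    obtain ⟨n0, n1, n2, n3, n4, n5, n6, n7, n8, n9, n10, n11⟩ := (hmem i).1 hi
    exact hz i n0 n1 n2 n3 n4 n5 n6 n7 n8 n9 n10 n11
  have e0 : (0 : ℤ) = (1) * c8 i0 + (1) * c8 i1 + (0) * c8 i2 + (0) * c8 i3 + (0) * c8 i4 + (0) * c8 i5 + (0) * c8 i6 + (0) * c8 i7 + (0) * c8 i8 + (0) * c8 i9 + (0) * c8 i10 + (0) * c8 i11 := by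
    have h1 := Cfsg.Agent.Lib.Helper76_ShapeLib.sum_split [i0, i1, i2, i3, i4, i5, i6, i7, i8, i9, i10, i11] hnd (fun i => c0 i * c8 i)
    have h2 : ∑ i ∈ S, c0 i * c8 i = 0 := Finset.sum_eq_zero fun i hi => by
      rw [(hz' i hi).1, zero_mul]
    rw [hG0, h2] at h1
    simp only [List.map_cons, List.map_nil, List.sum_cons, List.sum_nil, v_0_0, v_1_0, v_2_0, v_3_0, v_4_0, v_5_0, v_6_0, v_7_0, v_8_0, v_9_0, v_10_0, v_11_0] at h1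
    linarith
  have e1 : (1 : ℤ) = (0) * c8 i0 + (-1) * c8 i1 + (1) * c8 i2 + (1) * c8 i3 + (0) * c8 i4 + (0) * c8 i5 + (0) * c8 i6 + (0) * c8 i7 + (0) * c8 i8 + (0) * c8 i9 + (0) * c8 i10 + (0) * c8 i11 := by
    have h1 := Cfsg.Agent.Lib.Helper76_ShapeLib.sum_split [i0, i1, i2, i3, i4, i5, i6, i7, i8, i9, i10, i11] hnd (fun i => c1 i * c8 i)
    have h2 : ∑ i ∈ S, c1 i * c8 i = 0 := Finset.sum_eq_zero fun i hi => by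
      rw [(hz' i hi).2.1, zero_mul]
    rw [hG1, h2] at h1
    simp only [List.map_cons, List.map_nil, List.sum_cons, List.sum_nil, v_0_1, v_1_1, v_2_1, v_3_1, v_4_1, v_5_1, v_6_1, v_7_1, v_8_1, v_9_1, v_10_1, v_11_1] at h1
    linarith
  have e2 : (0 : ℤ) = (0) * c8 i0 + (0) * c8 i1 + (0) * c8 i2 + (0) * c8 i3 + (1) * c8 i4 + (1) * c8 i5 + (0) * c8 i6 + (0) * c8 i7 + (0) * c8 i8 + (0) * c8 i9 + (0) * c8 i10 + (0) * c8 i11 := by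
    have h1 := Cfsg.Agent.Lib.Helper76_ShapeLib.sum_split [i0, i1, i2, i3, i4, i5, i6, i7, i8, i9, i10, i11] hnd (fun i => c2 i * c8 i)
    have h2 : ∑ i ∈ S, c2 i * c8 i = 0 := Finset.sum_eq_zero fun i hi => by
      rw [(hz' i hi).2.2.1, zero_mul]
    rw [hG2, h2] at h1
    simp only [List.map_cons, List.map_nil, List.sum_cons, List.sum_nil, v_0_2, v_1_2, v_2_2, v_3_2, v_4_2, v_5_2, v_6_2, v_7_2, v_8_2, v_9_2, v_10_2, v_11_2] at h1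
    linarith
  have e3 : (1 : ℤ) = (0) * c8 i0 + (1) * c8 i1 + (0) * c8 i2 + (0) * c8 i3 + (0) * c8 i4 + (-1) * c8 i5 + (1) * c8 i6 + (0) * c8 i7 + (0) * c8 i8 + (0) * c8 i9 + (0) * c8 i10 + (0) * c8 i11 := by
    have h1 := Cfsg.Agent.Lib.Helper76_ShapeLib.sum_split [i0, i1, i2, i3, i4, i5, i6, i7, i8, i9, i10, i11] hnd (fun i => c3 i * c8 i)
    have h2 : ∑ i ∈ S, c3 i * c8 i = 0 := Finset.sum_eq_zero fun i hi => by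
      rw [(hz' i hi).2.2.2.1, zero_mul]
    rw [hG3, h2] at h1
    simp only [List.map_cons, List.map_nil, List.sum_cons, List.sum_nil, v_0_3, v_1_3, v_2_3, v_3_3, v_4_3, v_5_3, v_6_3, v_7_3, v_8_3, v_9_3, v_10_3, v_11_3] at h1
    linarith
  have e4 : (1 : ℤ) = (0) * c8 i0 + (0) * c8 i1 + (1) * c8 i2 + (0) * c8 i3 + (0) * c8 i4 + (0) * c8 i5 + (1) * c8 i6 + (1) * c8 i7 + (0) * c8 i8 + (0) * c8 i9 + (0) * c8 i10 + (0) * c8 i11 := by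
    have h1 := Cfsg.Agent.Lib.Helper76_ShapeLib.sum_split [i0, i1, i2, i3, i4, i5, i6, i7, i8, i9, i10, i11] hnd (fun i => c4 i * c8 i)
    have h2 : ∑ i ∈ S, c4 i * c8 i = 0 := Finset.sum_eq_zero fun i hi => by
      rw [(hz' i hi).2.2.2.2.1, zero_mul]
    rw [hG4, h2] at h1
    simp only [List.map_cons, List.map_nil, List.sum_cons, List.sum_nil, v_0_4, v_1_4, v_2_4, v_3_4, v_4_4, v_5_4, v_6_4, v_7_4, v_8_4, v_9_4, v_10_4, v_11_4] at h1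
    linarith
  have e5 : (1 : ℤ) = (0) * c8 i0 + (1) * c8 i1 + (0) * c8 i2 + (0) * c8 i3 + (0) * c8 i4 + (0) * c8 i5 + (0) * c8 i6 + (0) * c8 i7 + (1) * c8 i8 + (1) * c8 i9 + (0) * c8 i10 + (0) * c8 i11 := by
    have h1 := Cfsg.Agent.Lib.Helper76_ShapeLib.sum_split [i0, i1, i2, i3, i4, i5, i6, i7, i8, i9, i10, i11] hnd (fun i => c5 i * c8 i)
    have h2 : ∑ i ∈ S, c5 i * c8 i = 0 := Finset.sum_eq_zero fun i hi => by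
      rw [(hz' i hi).2.2.2.2.2.1, zero_mul]
    rw [hG5, h2] at h1
    simp only [List.map_cons, List.map_nil, List.sum_cons, List.sum_nil, v_0_5, v_1_5, v_2_5, v_3_5, v_4_5, v_5_5, v_6_5, v_7_5, v_8_5, v_9_5, v_10_5, v_11_5] at h1
    linarith
  have e6 : (1 : ℤ) = (0) * c8 i0 + (0) * c8 i1 + (1) * c8 i2 + (0) * c8 i3 + (0) * c8 i4 + (1) * c8 i5 + (0) * c8 i6 + (0) * c8 i7 + (1) * c8 i8 + (0) * c8 i9 + (1) * c8 i10 + (0) * c8 i11 := by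
    have h1 := Cfsg.Agent.Lib.Helper76_ShapeLib.sum_split [i0, i1, i2, i3, i4, i5, i6, i7, i8, i9, i10, i11] hnd (fun i => c6 i * c8 i)
    have h2 : ∑ i ∈ S, c6 i * c8 i = 0 := Finset.sum_eq_zero fun i hi => by
      rw [(hz' i hi).2.2.2.2.2.2.1, zero_mul]
    rw [hG6, h2] at h1
    simp only [List.map_cons, List.map_nil, List.sum_cons, List.sum_nil, v_0_6, v_1_6, v_2_6, v_3_6, v_4_6, v_5_6, v_6_6, v_7_6, v_8_6, v_9_6, v_10_6, v_11_6] at h1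
    linarith
  have e7 : (1 : ℤ) = (0) * c8 i0 + (0) * c8 i1 + (0) * c8 i2 + (1) * c8 i3 + (0) * c8 i4 + (1) * c8 i5 + (0) * c8 i6 + (0) * c8 i7 + (0) * c8 i8 + (0) * c8 i9 + (0) * c8 i10 + (1) * c8 i11 := by
    have h1 := Cfsg.Agent.Lib.Helper76_ShapeLib.sum_split [i0, i1, i2, i3, i4, i5, i6, i7, i8, i9, i10, i11] hnd (fun i => c7 i * c8 i)
    have h2 : ∑ i ∈ S, c7 i * c8 i = 0 := Finset.sum_eq_zero fun i hi => by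
      rw [(hz' i hi).2.2.2.2.2.2.2, zero_mul]
    rw [hG7, h2] at h1
    simp only [List.map_cons, List.map_nil, List.sum_cons, List.sum_nil, v_0_7, v_1_7, v_2_7, v_3_7, v_4_7, v_5_7, v_6_7, v_7_7, v_8_7, v_9_7, v_10_7, v_11_7] at h1
    linarith
  have en : (4 : ℤ) = c8 i0 * c8 i0 + c8 i1 * c8 i1 + c8 i2 * c8 i2 + c8 i3 * c8 i3 + c8 i4 * c8 i4 + c8 i5 * c8 i5 + c8 i6 * c8 i6 + c8 i7 * c8 i7 + c8 i8 * c8 i8 + c8 i9 * c8 i9 + c8 i10 * c8 i10 + c8 i11 * c8 i11 + ∑ i ∈ S, c8 i * c8 i := by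
    have h1 := Cfsg.Agent.Lib.Helper76_ShapeLib.sum_split [i0, i1, i2, i3, i4, i5, i6, i7, i8, i9, i10, i11] hnd (fun i => c8 i * c8 i)
    rw [hG8] at h1
    simp only [List.map_cons, List.map_nil, List.sum_cons, List.sum_nil] at h1
    linarith
  have hr : 0 ≤ ∑ i ∈ S, c8 i * c8 i := Finset.sum_nonneg fun i _ => mul_self_nonneg _
  have hnn : ∀ i ∈ S, 0 ≤ c8 i := by
    intro i hi
    obtain ⟨z0, z1, z2, z3, z4, z5, z6, z7⟩ := hz' i hi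
    exact hpos i z0 z1 z2 z3 z4 z5 z6 z7
  have hsol := ar_8_0 (c8 i0) (c8 i1) (c8 i2) (c8 i3) (c8 i4) (c8 i5) (c8 i6) (c8 i7) (c8 i8) (c8 i9) (c8 i10) (c8 i11) _ e0 e1 e2 e3 e4 e5 e6 e7 en hr
  rcases hsol with ⟨hx0, hx1, hx2, hx3, hx4, hx5, hx6, hx7, hx8, hx9, hx10, hx11, hrho⟩ | ⟨hx0, hx1, hx2, hx3, hx4, hx5, hx6, hx7, hx8, hx9, hx10, hx11, hrho⟩ | ⟨hx0, hx1, hx2, hx3, hx4, hx5, hx6, hx7, hx8, hx9, hx10, hx11, hrho⟩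
  · -- solution (0, 0, 0, 1, 0, 0, 1, 0, 0, 1, 1, 0), rho = 0
    have hzr := Cfsg.Agent.Lib.Helper76_ShapeLib.rem0 S c8 hrho
    refine (Or.inl ⟨i0, i1, i2, i3, i4, i5, i6, i7, i8, i9, i10, i11, ⟨d_0_1, d_0_2, d_0_3, d_0_4, d_0_5, d_0_6, d_0_7, d_0_8, d_0_9, d_0_10, d_0_11, d_1_2, d_1_3, d_1_4, d_1_5, d_1_6, d_1_7, d_1_8, d_1_9, d_1_10, d_1_11, d_2_3, d_2_4, d_2_5, d_2_6, d_2_7, d_2_8, d_2_9, d_2_10, d_2_11, d_3_4, d_3_5, d_3_6, d_3_7, d_3_8, d_3_9, d_3_10, d_3_11, d_4_5, d_4_6, d_4_7, d_4_8, d_4_9, d_4_10, d_4_11, d_5_6, d_5_7, d_5_8, d_5_9, d_5_10, d_5_11, d_6_7, d_6_8, d_6_9, d_6_10, d_6_11, d_7_8, d_7_9, d_7_10, d_7_11, d_8_9, d_8_10, d_8_11, d_9_10, d_9_11, d_10_11⟩, ⟨v_0_0, v_0_1, v_0_2, v_0_3, v_0_4, v_0_5, v_0_6, v_0_7, hx0, v_1_0, v_1_1, v_1_2, v_1_3, v_1_4, v_1_5, v_1_6, v_1_7, hx1,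 v_2_0, v_2_1, v_2_2, v_2_3, v_2_4, v_2_5, v_2_6, v_2_7, hx2, v_3_0, v_3_1, v_3_2, v_3_3, v_3_4, v_3_5, v_3_6, v_3_7, hx3, v_4_0, v_4_1, v_4_2, v_4_3, v_4_4, v_4_5, v_4_6, v_4_7, hx4, v_5_0, v_5_1, v_5_2, v_5_3, v_5_4, v_5_5, v_5_6, v_5_7, hx5, v_6_0, v_6_1, v_6_2, v_6_3, v_6_4, v_6_5, v_6_6, v_6_7, hx6, v_7_0, v_7_1, v_7_2, v_7_3, v_7_4, v_7_5, v_7_6, v_7_7, hx7, v_8_0, v_8_1, v_8_2, v_8_3, v_8_4, v_8_5, v_8_6, v_8_7, hx8, v_9_0, v_9_1, v_9_2, v_9_3, v_9_4, v_9_5, v_9_6, v_9_7, hx9, v_10_0, v_10_1, v_10_2, v_10_3, v_10_4, v_10_5, v_10_6, v_10_7, hx10, v_11_0, v_11_1, v_11_2, v_11_3, v_11_4, v_11_5, v_11_6, v_11_7, hx11⟩, ?_⟩)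
    intro i m0 m1 m2 m3 m4 m5 m6 m7 m8 m9 m10 m11
    have hiS : i ∈ S := (hmem i).2 ⟨m0, m1, m2, m3, m4, m5, m6, m7, m8, m9, m10, m11⟩
    obtain ⟨y0, y1, y2, y3, y4, y5, y6, y7⟩ := hz' i hiS
    exact ⟨y0, y1, y2, y3, y4, y5, y6, y7, (hzr i hiS)⟩
  · -- solution (0, 0, 0, 1, 0, 0, 1, 0, 1, 0, 0, 0), rho = 1
    obtain ⟨a, haS, hfa, hzr⟩ := Cfsg.Agent.Lib.Helper76_ShapeLib.rem1 S c8 hnn hrho
    obtain ⟨na0, na1, na2, na3, na4, na5, na6, na7, na8, na9, na10, na11⟩ := (hmem a).1 haS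
    obtain ⟨za0, za1, za2, za3, za4, za5, za6, za7⟩ := hz' a haS
    refine (Or.inr (Or.inl ⟨i0, i1, i2, i3, i4, i5, i6, i7, i8, i9, i10, i11, a, ⟨d_0_1, d_0_2, d_0_3, d_0_4, d_0_5, d_0_6, d_0_7, d_0_8, d_0_9, d_0_10, d_0_11, na0.symm, d_1_2, d_1_3, d_1_4, d_1_5, d_1_6, d_1_7, d_1_8, d_1_9, d_1_10, d_1_11, na1.symm, d_2_3, d_2_4, d_2_5, d_2_6, d_2_7, d_2_8, d_2_9, d_2_10, d_2_11, na2.symm, d_3_4, d_3_5, d_3_6, d_3_7, d_3_8, d_3_9, d_3_10, d_3_11, na3.symm, d_4_5, d_4_6, d_4_7, d_4_8, d_4_9, d_4_10, d_4_11, na4.symm, d_5_6, d_5_7, d_5_8, d_5_9, d_5_10, d_5_11, na5.symm, d_6_7, d_6_8, d_6_9, d_6_10, d_6_11, na6.symm, d_7_8, d_7_9, d_7_10, d_7_11, na7.symm, d_8_9, d_8_10, d_8_11, na8.symm, d_9_10, d_9_11, na9.symm, d_10_11, na10.symm, na11.symm⟩, ⟨v_0_0, v_0_1, v_0_2, v_0_3, v_0_4, v_0_5, v_0_6,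 v_0_7, hx0, v_1_0, v_1_1, v_1_2, v_1_3, v_1_4, v_1_5, v_1_6, v_1_7, hx1, v_2_0, v_2_1, v_2_2, v_2_3, v_2_4, v_2_5, v_2_6, v_2_7, hx2, v_3_0, v_3_1, v_3_2, v_3_3, v_3_4, v_3_5, v_3_6, v_3_7, hx3, v_4_0, v_4_1, v_4_2, v_4_3, v_4_4, v_4_5, v_4_6, v_4_7, hx4, v_5_0, v_5_1, v_5_2, v_5_3, v_5_4, v_5_5, v_5_6, v_5_7, hx5, v_6_0, v_6_1, v_6_2, v_6_3, v_6_4, v_6_5, v_6_6, v_6_7, hx6, v_7_0, v_7_1, v_7_2, v_7_3, v_7_4, v_7_5, v_7_6, v_7_7, hx7, v_8_0, v_8_1, v_8_2, v_8_3, v_8_4, v_8_5, v_8_6, v_8_7, hx8, v_9_0, v_9_1, v_9_2, v_9_3, v_9_4, v_9_5, v_9_6, v_9_7, hx9, v_10_0, v_10_1, v_10_2, v_10_3, v_10_4, v_10_5, v_10_6, v_10_7, hx10, v_11_0, v_11_1, v_11_2, v_11_3, v_11_4, v_11_5, v_11_6, v_11_7, hx11, za0, za1, za2, za3, za4, za5, za6, za7, hfa⟩, ?_⟩))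
    intro i m0 m1 m2 m3 m4 m5 m6 m7 m8 m9 m10 m11 m12
    have hiS : i ∈ S := (hmem i).2 ⟨m0, m1, m2, m3, m4, m5, m6, m7, m8, m9, m10, m11⟩
    obtain ⟨y0, y1, y2, y3, y4, y5, y6, y7⟩ := hz' i hiS
    exact ⟨y0, y1, y2, y3, y4, y5, y6, y7, (hzr i hiS m12)⟩
  · -- solution (-1, 1, 1, 1, 0, 0, 0, 0, 0, 0, 0, 0), rho = 0
    have hzr := Cfsg.Agent.Lib.Helper76_ShapeLib.rem0 S c8 hrho
    refine (Or.inr (Or.inr ⟨i0, i1, i2, i3, i4, i5, i6, i7, i8, i9, i10, i11, ⟨d_0_1, d_0_2, d_0_3, d_0_4, d_0_5, d_0_6, d_0_7, d_0_8, d_0_9, d_0_10, d_0_11, d_1_2, d_1_3, d_1_4, d_1_5, d_1_6, d_1_7, d_1_8, d_1_9, d_1_10, d_1_11, d_2_3, d_2_4, d_2_5, d_2_6, d_2_7, d_2_8, d_2_9, d_2_10, d_2_11, d_3_4, d_3_5, d_3_6, d_3_7, d_3_8, d_3_9, d_3_10, d_3_11, d_4_5, d_4_6, d_4_7, d_4_8, d_4_9, d_4_10, d_4_11, d_5_6, d_5_7,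 d_5_8, d_5_9, d_5_10, d_5_11, d_6_7, d_6_8, d_6_9, d_6_10, d_6_11, d_7_8, d_7_9, d_7_10, d_7_11, d_8_9, d_8_10, d_8_11, d_9_10, d_9_11, d_10_11⟩, ⟨v_0_0, v_0_1, v_0_2, v_0_3, v_0_4, v_0_5, v_0_6, v_0_7, hx0, v_1_0, v_1_1, v_1_2, v_1_3, v_1_4, v_1_5, v_1_6, v_1_7, hx1, v_2_0, v_2_1, v_2_2, v_2_3, v_2_4, v_2_5, v_2_6, v_2_7, hx2, v_3_0, v_3_1, v_3_2, v_3_3, v_3_4, v_3_5, v_3_6, v_3_7, hx3, v_4_0, v_4_1, v_4_2, v_4_3, v_4_4, v_4_5, v_4_6, v_4_7, hx4, v_5_0, v_5_1, v_5_2, v_5_3, v_5_4, v_5_5, v_5_6, v_5_7, hx5, v_6_0, v_6_1, v_6_2, v_6_3, v_6_4, v_6_5, v_6_6, v_6_7, hx6, v_7_0, v_7_1, v_7_2, v_7_3, v_7_4, v_7_5, v_7_6, v_7_7, hx7, v_8_0, v_8_1, v_8_2, v_8_3, v_8_4, v_8_5, v_8_6, v_8_7, hx8, v_9_0, v_9_1, v_9_2, v_9_3, v_9_4, v_9_5, v_9_6, v_9_7, hx9, v_10_0, v_10_1, v_10_2, v_10_3, v_10_4, v_10_5,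 v_10_6, v_10_7, hx10, v_11_0, v_11_1, v_11_2, v_11_3, v_11_4, v_11_5, v_11_6, v_11_7, hx11⟩, ?_⟩))
    intro i m0 m1 m2 m3 m4 m5 m6 m7 m8 m9 m10 m11
    have hiS : i ∈ S := (hmem i).2 ⟨m0, m1, m2, m3, m4, m5, m6, m7, m8, m9, m10, m11⟩
    obtain ⟨y0, y1, y2, y3, y4, y5, y6, y7⟩ := hz' i hiS
    exact ⟨y0, y1, y2, y3, y4, y5, y6, y7, (hzr i hiS)⟩

theorem ar_8_1 (x0 x1 x2 x3 x4 x5 x6 x7 x8 x9 x10 r : ℤ) (e0 : (0 : ℤ) = (1) * x0 + (1) * x1 + (0) * x2 + (0) * x3 + (0) * x4 + (0) * x5 + (0) * x6 + (0) * x7 + (0) * x8 + (0) * x9 + (0) * x10) (e1 : (1 : ℤ) = (0) * x0 + (-1) * x1 + (1) * x2 + (1) * x3 + (0) * x4 + (0) * x5 + (0) * x6 + (0) * x7 + (0) * x8 + (0) * x9 + (0) * x10) (e2 : (0 : ℤ) = (0) * x0 + (0) * x1 + (0) * x2 + (0) * x3 + (1) * x4 + (1) * x5 + (0) * x6 + (0) * x7 + (0) * x8 + (0) *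 x9 + (0) * x10) (e3 : (1 : ℤ) = (0) * x0 + (1) * x1 + (0) * x2 + (0) * x3 + (0) * x4 + (-1) * x5 + (1) * x6 + (0) * x7 + (0) * x8 + (0) * x9 + (0) * x10) (e4 : (1 : ℤ) = (0) * x0 + (0) * x1 + (1) * x2 + (0) * x3 + (0) * x4 + (0) * x5 + (1) * x6 + (1) * x7 + (0) * x8 + (0) * x9 + (0) * x10) (e5 : (1 : ℤ) = (0) * x0 + (1) * x1 + (0) * x2 + (0) * x3 + (0) * x4 + (0) * x5 + (0) * x6 + (0) * x7 + (1) * x8 + (1) * x9 + (0) * x10) (e6 : (1 : ℤ) = (0) * x0 + (0) * x1 + (1) * x2 + (0) * x3 + (0) * x4 + (1) * x5 + (0) * x6 + (0) * x7 + (1) * x8 + (0) * x9 + (1) * x10) (e7 : (1 : ℤ) = (0) * x0 + (0) * x1 + (1) * x2 + (0) * x3 + (1) * x4 + (0) * x5 + (-1) * x6 + (0) * x7 + (0) * x8 + (0) * x9 + (0) * x10) (en : (4 : ℤ) = x0 * x0 + x1 * x1 + x2 * x2 + x3 * x3 + x4 * x4 + x5 * x5 + x6 * x6 + x7 * x7 + x8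 * x8 + x9 * x9 + x10 * x10 + r) (hr : 0 ≤ r) : (x0 = -1 ∧ x1 = 1 ∧ x2 = 1 ∧ x3 = 1 ∧ x4 = 0 ∧ x5 = 0 ∧ x6 = 0 ∧ x7 = 0 ∧ x8 = 0 ∧ x9 = 0 ∧ x10 = 0 ∧ r = 0) := by
  have hb6 : x6 * x6 ≤ 4 := by linarith [mul_self_nonneg x0, mul_self_nonneg x1, mul_self_nonneg x2, mul_self_nonneg x3, mul_self_nonneg x4, mul_self_nonneg x5, mul_self_nonneg x6, mul_self_nonneg x7, mul_self_nonneg x8, mul_self_nonneg x9, mul_self_nonneg x10]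
  obtain ⟨hl6, hu6⟩ := Cfsg.Agent.Lib.Helper76_ShapeLib.bound2 x6 hb6
  have hb9 : x9 * x9 ≤ 4 := by linarith [mul_self_nonneg x0, mul_self_nonneg x1, mul_self_nonneg x2, mul_self_nonneg x3, mul_self_nonneg x4, mul_self_nonneg x5, mul_self_nonneg x6, mul_self_nonneg x7, mul_self_nonneg x8, mul_self_nonneg x9, mul_self_nonneg x10]
  obtain ⟨hl9, hu9⟩ := Cfsg.Agent.Lib.Helper76_ShapeLib.bound2 x9 hb9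
  have hb10 : x10 * x10 ≤ 4 := by linarith [mul_self_nonneg x0, mul_self_nonneg x1, mul_self_nonneg x2, mul_self_nonneg x3, mul_self_nonneg x4, mul_self_nonneg x5, mul_self_nonneg x6, mul_self_nonneg x7, mul_self_nonneg x8, mul_self_nonneg x9, mul_self_nonneg x10]
  obtain ⟨hl10, hu10⟩ := Cfsg.Agent.Lib.Helper76_ShapeLib.bound2 x10 hb10
  obtain rfl : x0 = -1 + (3) * x6 + (-1) * x9 + (1) * x10 := by omega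
  obtain rfl : x1 = 1 + (-3) * x6 + (1) * x9 + (-1) * x10 := by omega
  obtain rfl : x4 = 0 + (2) * x6 + (-1) * x9 + (1) * x10 := by omega
  obtain rfl : x2 = 1 + (-1) * x6 + (1) * x9 + (-1) * x10 := by omega
  obtain rfl : x3 = 1 + (-2) * x6 := by omega
  obtain rfl : x5 = 0 + (-2) * x6 + (1) * x9 + (-1) * x10 := by omega
  obtain rfl : x7 = 0 + (-1) * x9 + (1) * x10 := by omega
  obtain rfl : x8 = 0 + (3) * x6 + (-2) * x9 + (1) * x10 := by omega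
  interval_cases x6 <;> interval_cases x9 <;> interval_cases x10 <;> omega

theorem ext_8_1 {ι : Type*} [Fintype ι] [DecidableEq ι] (c0 c1 c2 c3 c4 c5 c6 c7 c8 : ι → ℤ)
    (hG0 : ∑ i, c0 i * c8 i = 0)
    (hG1 : ∑ i, c1 i * c8 i = 1)
    (hG2 : ∑ i, c2 i * c8 i = 0)
    (hG3 : ∑ i, c3 i * c8 i = 1)
    (hG4 : ∑ i, c4 i * c8 i = 1)
    (hG5 : ∑ i, c5 i * c8 i = 1)
    (hG6 : ∑ i, c6 i * c8 i = 1)
    (hG7 : ∑ i, c7 i * c8 i = 1)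
    (hG8 : ∑ i, c8 i * c8 i = 4)
    (hpos : ∀ i, c0 i = 0 → c1 i = 0 → c2 i = 0 → c3 i = 0 → c4 i = 0 → c5 i = 0 → c6 i = 0 → c7 i = 0 → 0 ≤ c8 i)
    (h : St_8_1 c0 c1 c2 c3 c4 c5 c6 c7) :
    St_9_3 c0 c1 c2 c3 c4 c5 c6 c7 c8 := by
  obtain ⟨i0, i1, i2, i3, i4, i5, i6, i7, i8, i9, i10, ⟨d_0_1, d_0_2, d_0_3, d_0_4, d_0_5, d_0_6, d_0_7, d_0_8, d_0_9, d_0_10, d_1_2, d_1_3, d_1_4, d_1_5, d_1_6, d_1_7, d_1_8, d_1_9, d_1_10, d_2_3, d_2_4, d_2_5, d_2_6, d_2_7, d_2_8, d_2_9, d_2_10, d_3_4, d_3_5, d_3_6, d_3_7, d_3_8, d_3_9, d_3_10, d_4_5, d_4_6, d_4_7, d_4_8, d_4_9, d_4_10, d_5_6, d_5_7, d_5_8, d_5_9, d_5_10, d_6_7, d_6_8, d_6_9, d_6_10, d_7_8, d_7_9, d_7_10, d_8_9, d_8_10, d_9_10⟩, ⟨v_0_0, v_0_1, v_0_2, v_0_3, v_0_4, v_0_5, v_0_6, v_0_7, v_1_0, v_1_1, v_1_2, v_1_3, v_1_4, v_1_5, v_1_6, v_1_7, v_2_0,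 v_2_1, v_2_2, v_2_3, v_2_4, v_2_5, v_2_6, v_2_7, v_3_0, v_3_1, v_3_2, v_3_3, v_3_4, v_3_5, v_3_6, v_3_7, v_4_0, v_4_1, v_4_2, v_4_3, v_4_4, v_4_5, v_4_6, v_4_7, v_5_0, v_5_1, v_5_2, v_5_3, v_5_4, v_5_5, v_5_6, v_5_7, v_6_0, v_6_1, v_6_2, v_6_3, v_6_4, v_6_5, v_6_6, v_6_7, v_7_0, v_7_1, v_7_2, v_7_3, v_7_4, v_7_5, v_7_6, v_7_7, v_8_0, v_8_1, v_8_2, v_8_3, v_8_4, v_8_5, v_8_6, v_8_7, v_9_0, v_9_1, v_9_2, v_9_3, v_9_4, v_9_5, v_9_6, v_9_7, v_10_0, v_10_1, v_10_2, v_10_3, v_10_4, v_10_5, v_10_6, v_10_7⟩, hz⟩ := h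
  have hnd : ([i0, i1, i2, i3, i4, i5, i6, i7, i8, i9, i10] : List ι).Nodup := by
    simp only [List.nodup_cons, List.mem_cons, List.not_mem_nil, or_false, not_or, List.nodup_nil, and_true, not_false_eq_true]
    exact ⟨⟨d_0_1, d_0_2, d_0_3, d_0_4, d_0_5, d_0_6, d_0_7, d_0_8, d_0_9, d_0_10⟩, ⟨d_1_2, d_1_3, d_1_4, d_1_5, d_1_6, d_1_7, d_1_8, d_1_9, d_1_10⟩, ⟨d_2_3, d_2_4, d_2_5, d_2_6, d_2_7, d_2_8, d_2_9, d_2_10⟩, ⟨d_3_4, d_3_5, d_3_6, d_3_7, d_3_8, d_3_9, d_3_10⟩, ⟨d_4_5, d_4_6, d_4_7, d_4_8, d_4_9, d_4_10⟩, ⟨d_5_6, d_5_7, d_5_8, d_5_9, d_5_10⟩, ⟨d_6_7, d_6_8, d_6_9, d_6_10⟩, ⟨d_7_8, d_7_9, d_7_10⟩, ⟨d_8_9, d_8_10⟩, d_9_10⟩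
  set S : Finset ι := Finset.univ \ ([i0, i1, i2, i3, i4, i5, i6, i7, i8, i9, i10] : List ι).toFinset with hS
  have hmem : ∀ i, i ∈ S ↔ (i ≠ i0 ∧ i ≠ i1 ∧ i ≠ i2 ∧ i ≠ i3 ∧ i ≠ i4 ∧ i ≠ i5 ∧ i ≠ i6 ∧ i ≠ i7 ∧ i ≠ i8 ∧ i ≠ i9 ∧ i ≠ i10) := by
    intro i
    simp only [hS, Finset.mem_sdiff, Finset.mem_univ, true_and, List.mem_toFinset, List.mem_cons, List.not_mem_nil, or_false, not_or, ne_eq]
  have hz' : ∀ i ∈ S, (c0 i = 0 ∧ c1 i = 0 ∧ c2 i = 0 ∧ c3 i = 0 ∧ c4 i = 0 ∧ c5 i = 0 ∧ c6 i = 0 ∧ c7 i = 0) := by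
    intro i hi
    obtain ⟨n0, n1, n2, n3, n4, n5, n6, n7, n8, n9, n10⟩ := (hmem i).1 hi
    exact hz i n0 n1 n2 n3 n4 n5 n6 n7 n8 n9 n10
  have e0 : (0 : ℤ) = (1) * c8 i0 + (1) * c8 i1 + (0) * c8 i2 + (0) * c8 i3 + (0) * c8 i4 + (0) * c8 i5 + (0) * c8 i6 + (0) * c8 i7 + (0) * c8 i8 + (0) * c8 i9 + (0) * c8 i10 := by
    have h1 := Cfsg.Agent.Lib.Helper76_ShapeLib.sum_split [i0, i1, i2, i3, i4, i5, i6, i7, i8, i9, i10] hnd (fun i => c0 i * c8 i)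
    have h2 : ∑ i ∈ S, c0 i * c8 i = 0 := Finset.sum_eq_zero fun i hi => by
      rw [(hz' i hi).1, zero_mul]
    rw [hG0, h2] at h1
    simp only [List.map_cons, List.map_nil, List.sum_cons, List.sum_nil, v_0_0, v_1_0, v_2_0, v_3_0, v_4_0, v_5_0, v_6_0, v_7_0, v_8_0, v_9_0, v_10_0] at h1
    linarith
  have e1 : (1 : ℤ) = (0) * c8 i0 + (-1) * c8 i1 + (1) * c8 i2 + (1) * c8 i3 + (0) * c8 i4 + (0) * c8 i5 + (0) * c8 i6 + (0) * c8 i7 + (0) * c8 i8 + (0) * c8 i9 + (0) * c8 i10 := by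
    have h1 := Cfsg.Agent.Lib.Helper76_ShapeLib.sum_split [i0, i1, i2, i3, i4, i5, i6, i7, i8, i9, i10] hnd (fun i => c1 i * c8 i)
    have h2 : ∑ i ∈ S, c1 i * c8 i = 0 := Finset.sum_eq_zero fun i hi => by
      rw [(hz' i hi).2.1, zero_mul]
    rw [hG1, h2] at h1
    simp only [List.map_cons, List.map_nil, List.sum_cons, List.sum_nil, v_0_1, v_1_1, v_2_1, v_3_1, v_4_1, v_5_1, v_6_1, v_7_1, v_8_1, v_9_1, v_10_1] at h1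
    linarith
  have e2 : (0 : ℤ) = (0) * c8 i0 + (0) * c8 i1 + (0) * c8 i2 + (0) * c8 i3 + (1) * c8 i4 + (1) * c8 i5 + (0) * c8 i6 + (0) * c8 i7 + (0) * c8 i8 + (0) * c8 i9 + (0) * c8 i10 := by
    have h1 := Cfsg.Agent.Lib.Helper76_ShapeLib.sum_split [i0, i1, i2, i3, i4, i5, i6, i7, i8, i9, i10] hnd (fun i => c2 i * c8 i)
    have h2 : ∑ i ∈ S, c2 i * c8 i = 0 := Finset.sum_eq_zero fun i hi => by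
      rw [(hz' i hi).2.2.1, zero_mul]
    rw [hG2, h2] at h1
    simp only [List.map_cons, List.map_nil, List.sum_cons, List.sum_nil, v_0_2, v_1_2, v_2_2, v_3_2, v_4_2, v_5_2, v_6_2, v_7_2, v_8_2, v_9_2, v_10_2] at h1
    linarith
  have e3 : (1 : ℤ) = (0) * c8 i0 + (1) * c8 i1 + (0) * c8 i2 + (0) * c8 i3 + (0) * c8 i4 + (-1) * c8 i5 + (1) * c8 i6 + (0) * c8 i7 + (0) * c8 i8 + (0) * c8 i9 + (0) * c8 i10 := by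
    have h1 := Cfsg.Agent.Lib.Helper76_ShapeLib.sum_split [i0, i1, i2, i3, i4, i5, i6, i7, i8, i9, i10] hnd (fun i => c3 i * c8 i)
    have h2 : ∑ i ∈ S, c3 i * c8 i = 0 := Finset.sum_eq_zero fun i hi => by
      rw [(hz' i hi).2.2.2.1, zero_mul]
    rw [hG3, h2] at h1
    simp only [List.map_cons, List.map_nil, List.sum_cons, List.sum_nil, v_0_3, v_1_3, v_2_3, v_3_3, v_4_3, v_5_3, v_6_3, v_7_3, v_8_3, v_9_3, v_10_3] at h1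
    linarith
  have e4 : (1 : ℤ) = (0) * c8 i0 + (0) * c8 i1 + (1) * c8 i2 + (0) * c8 i3 + (0) * c8 i4 + (0) * c8 i5 + (1) * c8 i6 + (1) * c8 i7 + (0) * c8 i8 + (0) * c8 i9 + (0) * c8 i10 := by
    have h1 := Cfsg.Agent.Lib.Helper76_ShapeLib.sum_split [i0, i1, i2, i3, i4, i5, i6, i7, i8, i9, i10] hnd (fun i => c4 i * c8 i)
    have h2 : ∑ i ∈ S, c4 i * c8 i = 0 := Finset.sum_eq_zero fun i hi => by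
      rw [(hz' i hi).2.2.2.2.1, zero_mul]
    rw [hG4, h2] at h1
    simp only [List.map_cons, List.map_nil, List.sum_cons, List.sum_nil, v_0_4, v_1_4, v_2_4, v_3_4, v_4_4, v_5_4, v_6_4, v_7_4, v_8_4, v_9_4, v_10_4] at h1
    linarith
  have e5 : (1 : ℤ) = (0) * c8 i0 + (1) * c8 i1 + (0) * c8 i2 + (0) * c8 i3 + (0) * c8 i4 + (0) * c8 i5 + (0) * c8 i6 + (0) * c8 i7 + (1) * c8 i8 + (1) * c8 i9 + (0) * c8 i10 := by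
    have h1 := Cfsg.Agent.Lib.Helper76_ShapeLib.sum_split [i0, i1, i2, i3, i4, i5, i6, i7, i8, i9, i10] hnd (fun i => c5 i * c8 i)
    have h2 : ∑ i ∈ S, c5 i * c8 i = 0 := Finset.sum_eq_zero fun i hi => by
      rw [(hz' i hi).2.2.2.2.2.1, zero_mul]
    rw [hG5, h2] at h1
    simp only [List.map_cons, List.map_nil, List.sum_cons, List.sum_nil, v_0_5, v_1_5, v_2_5, v_3_5, v_4_5, v_5_5, v_6_5, v_7_5, v_8_5, v_9_5, v_10_5] at h1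
    linarith
  have e6 : (1 : ℤ) = (0) * c8 i0 + (0) * c8 i1 + (1) * c8 i2 + (0) * c8 i3 + (0) * c8 i4 + (1) * c8 i5 + (0) * c8 i6 + (0) * c8 i7 + (1) * c8 i8 + (0) * c8 i9 + (1) * c8 i10 := by
    have h1 := Cfsg.Agent.Lib.Helper76_ShapeLib.sum_split [i0, i1, i2, i3, i4, i5, i6, i7, i8, i9, i10] hnd (fun i => c6 i * c8 i)
    have h2 : ∑ i ∈ S, c6 i * c8 i = 0 := Finset.sum_eq_zero fun i hi => by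
      rw [(hz' i hi).2.2.2.2.2.2.1, zero_mul]
    rw [hG6, h2] at h1
    simp only [List.map_cons, List.map_nil, List.sum_cons, List.sum_nil, v_0_6, v_1_6, v_2_6, v_3_6, v_4_6, v_5_6, v_6_6, v_7_6, v_8_6, v_9_6, v_10_6] at h1
    linarith
  have e7 : (1 : ℤ) = (0) * c8 i0 + (0) * c8 i1 + (1) * c8 i2 + (0) * c8 i3 + (1) * c8 i4 + (0) * c8 i5 + (-1) * c8 i6 + (0) * c8 i7 + (0) * c8 i8 + (0) * c8 i9 + (0) * c8 i10 := by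
    have h1 := Cfsg.Agent.Lib.Helper76_ShapeLib.sum_split [i0, i1, i2, i3, i4, i5, i6, i7, i8, i9, i10] hnd (fun i => c7 i * c8 i)
    have h2 : ∑ i ∈ S, c7 i * c8 i = 0 := Finset.sum_eq_zero fun i hi => by
      rw [(hz' i hi).2.2.2.2.2.2.2, zero_mul]
    rw [hG7, h2] at h1
    simp only [List.map_cons, List.map_nil, List.sum_cons, List.sum_nil, v_0_7, v_1_7, v_2_7, v_3_7, v_4_7, v_5_7, v_6_7, v_7_7, v_8_7, v_9_7, v_10_7] at h1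
    linarith
  have en : (4 : ℤ) = c8 i0 * c8 i0 + c8 i1 * c8 i1 + c8 i2 * c8 i2 + c8 i3 * c8 i3 + c8 i4 * c8 i4 + c8 i5 * c8 i5 + c8 i6 * c8 i6 + c8 i7 * c8 i7 + c8 i8 * c8 i8 + c8 i9 * c8 i9 + c8 i10 * c8 i10 + ∑ i ∈ S, c8 i * c8 i := by
    have h1 := Cfsg.Agent.Lib.Helper76_ShapeLib.sum_split [i0, i1, i2, i3, i4, i5, i6, i7, i8, i9, i10] hnd (fun i => c8 i * c8 i)
    rw [hG8] at h1
    simp only [List.map_cons, List.map_nil, List.sum_cons, List.sum_nil] at h1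
    linarith
  have hr : 0 ≤ ∑ i ∈ S, c8 i * c8 i := Finset.sum_nonneg fun i _ => mul_self_nonneg _
  have hnn : ∀ i ∈ S, 0 ≤ c8 i := by
    intro i hi
    obtain ⟨z0, z1, z2, z3, z4, z5, z6, z7⟩ := hz' i hi
    exact hpos i z0 z1 z2 z3 z4 z5 z6 z7
  have hsol := ar_8_1 (c8 i0) (c8 i1) (c8 i2) (c8 i3) (c8 i4) (c8 i5) (c8 i6) (c8 i7) (c8 i8) (c8 i9) (c8 i10) _ e0 e1 e2 e3 e4 e5 e6 e7 en hr
  rcases hsol with ⟨hx0, hx1, hx2, hx3, hx4, hx5, hx6, hx7, hx8, hx9, hx10, hrho⟩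
  · -- solution (-1, 1, 1, 1, 0, 0, 0, 0, 0, 0, 0), rho = 0
    have hzr := Cfsg.Agent.Lib.Helper76_ShapeLib.rem0 S c8 hrho
    refine ⟨i0, i1, i2, i3, i4, i5, i6, i7, i8, i9, i10, ⟨d_0_1, d_0_2, d_0_3, d_0_4, d_0_5, d_0_6, d_0_7, d_0_8, d_0_9, d_0_10, d_1_2, d_1_3, d_1_4, d_1_5, d_1_6, d_1_7, d_1_8, d_1_9, d_1_10, d_2_3, d_2_4, d_2_5, d_2_6, d_2_7, d_2_8, d_2_9, d_2_10, d_3_4, d_3_5, d_3_6, d_3_7, d_3_8, d_3_9, d_3_10, d_4_5, d_4_6, d_4_7, d_4_8, d_4_9, d_4_10, d_5_6, d_5_7, d_5_8, d_5_9, d_5_10, d_6_7, d_6_8, d_6_9, d_6_10, d_7_8, d_7_9, d_7_10, d_8_9, d_8_10, d_9_10⟩, ⟨v_0_0, v_0_1, v_0_2, v_0_3, v_0_4, v_0_5, v_0_6, v_0_7, hx0, v_1_0, v_1_1, v_1_2, v_1_3, v_1_4, v_1_5, v_1_6, v_1_7, hx1, v_2_0, v_2_1, v_2_2, v_2_3, v_2_4, v_2_5, v_2_6, v_2_7, hx2, v_3_0, v_3_1, v_3_2, v_3_3, v_3_4, v_3_5,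 v_3_6, v_3_7, hx3, v_4_0, v_4_1, v_4_2, v_4_3, v_4_4, v_4_5, v_4_6, v_4_7, hx4, v_5_0, v_5_1, v_5_2, v_5_3, v_5_4, v_5_5, v_5_6, v_5_7, hx5, v_6_0, v_6_1, v_6_2, v_6_3, v_6_4, v_6_5, v_6_6, v_6_7, hx6, v_7_0, v_7_1, v_7_2, v_7_3, v_7_4, v_7_5, v_7_6, v_7_7, hx7, v_8_0, v_8_1, v_8_2, v_8_3, v_8_4, v_8_5, v_8_6, v_8_7, hx8, v_9_0, v_9_1, v_9_2, v_9_3, v_9_4, v_9_5, v_9_6, v_9_7, hx9, v_10_0, v_10_1, v_10_2, v_10_3, v_10_4, v_10_5, v_10_6, v_10_7, hx10⟩, ?_⟩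
    intro i m0 m1 m2 m3 m4 m5 m6 m7 m8 m9 m10
    have hiS : i ∈ S := (hmem i).2 ⟨m0, m1, m2, m3, m4, m5, m6, m7, m8, m9, m10⟩
    obtain ⟨y0, y1, y2, y3, y4, y5, y6, y7⟩ := hz' i hiS
    exact ⟨y0, y1, y2, y3, y4, y5, y6, y7, (hzr i hiS)⟩

theorem ar_8_2 (x0 x1 x2 x3 x4 x5 x6 x7 r : ℤ) (e0 : (0 : ℤ) = (1) * x0 + (1) * x1 + (0) * x2 + (0) * x3 + (0) * x4 + (0) * x5 + (0) * x6 + (0) * x7) (e1 : (1 : ℤ) = (0) * x0 + (-1) * x1 + (1) * x2 + (1) * x3 + (0) * x4 + (0) * x5 + (0) * x6 + (0) * x7) (e2 : (0 : ℤ) = (0) * x0 + (0) * x1 + (0) * x2 + (0) * x3 + (1) * x4 + (1) * x5 + (0) * x6 + (0) * x7) (e3 : (1 : ℤ) = (0) * x0 + (1) * x1 + (0) * x2 + (0) * x3 + (0) * x4 + (-1) * x5 + (1) * x6 + (0) * x7) (e4 : (1 : ℤ) = (0) * x0 + (0) * x1 + (1) * x2 + (0) * x3 + (1) * x4 + (-1) * x5 + (0) * x6 + (0) *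 x7) (e5 : (1 : ℤ) = (1) * x0 + (0) * x1 + (0) * x2 + (-1) * x3 + (0) * x4 + (0) * x5 + (1) * x6 + (0) * x7) (e6 : (1 : ℤ) = (1) * x0 + (-1) * x1 + (0) * x2 + (0) * x3 + (1) * x4 + (0) * x5 + (0) * x6 + (1) * x7) (e7 : (1 : ℤ) = (0) * x0 + (0) * x1 + (1) * x2 + (0) * x3 + (0) * x4 + (1) * x5 + (0) * x6 + (1) * x7) (en : (4 : ℤ) = x0 * x0 + x1 * x1 + x2 * x2 + x3 * x3 + x4 * x4 + x5 * x5 + x6 * x6 + x7 * x7 + r) (hr : 0 ≤ r) : False := by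
  have hb5 : x5 * x5 ≤ 4 := by linarith [mul_self_nonneg x0, mul_self_nonneg x1, mul_self_nonneg x2, mul_self_nonneg x3, mul_self_nonneg x4, mul_self_nonneg x5, mul_self_nonneg x6, mul_self_nonneg x7]
  obtain ⟨hl5, hu5⟩ := Cfsg.Agent.Lib.Helper76_ShapeLib.bound2 x5 hb5
  have hb6 : x6 * x6 ≤ 4 := by linarith [mul_self_nonneg x0, mul_self_nonneg x1, mul_self_nonneg x2, mul_self_nonneg x3, mul_self_nonneg x4, mul_self_nonneg x5, mul_self_nonneg x6, mul_self_nonneg x7]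
  obtain ⟨hl6, hu6⟩ := Cfsg.Agent.Lib.Helper76_ShapeLib.bound2 x6 hb6
  obtain rfl : x0 = -1 + (-1) * x5 + (1) * x6 := by omega
  obtain rfl : x1 = 1 + (1) * x5 + (-1) * x6 := by omega
  obtain rfl : x4 = 0 + (-1) * x5 := by omega
  obtain rfl : x2 = 1 + (2) * x5 := by omega
  obtain rfl : x3 = 1 + (-1) * x5 + (-1) * x6 := by omega
  obtain rfl : x7 = 3 + (3) * x5 + (-2) * x6 := by omega
  interval_cases x5 <;> interval_cases x6 <;> omega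

theorem ext_8_2 {ι : Type*} [Fintype ι] [DecidableEq ι] (c0 c1 c2 c3 c4 c5 c6 c7 c8 : ι → ℤ)
    (hG0 : ∑ i, c0 i * c8 i = 0)
    (hG1 : ∑ i, c1 i * c8 i = 1)
    (hG2 : ∑ i, c2 i * c8 i = 0)
    (hG3 : ∑ i, c3 i * c8 i = 1)
    (hG4 : ∑ i, c4 i * c8 i = 1)
    (hG5 : ∑ i, c5 i * c8 i = 1)
    (hG6 : ∑ i, c6 i * c8 i = 1)
    (hG7 : ∑ i, c7 i * c8 i = 1)
    (hG8 : ∑ i, c8 i * c8 i = 4)
    (hpos : ∀ i, c0 i = 0 → c1 i = 0 → c2 i = 0 → c3 i = 0 → c4 i = 0 → c5 i = 0 → c6 i = 0 → c7 i = 0 → 0 ≤ c8 i)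
    (h : St_8_2 c0 c1 c2 c3 c4 c5 c6 c7) :
    False := by
  obtain ⟨i0, i1, i2, i3, i4, i5, i6, i7, ⟨d_0_1, d_0_2, d_0_3, d_0_4, d_0_5, d_0_6, d_0_7, d_1_2, d_1_3, d_1_4, d_1_5, d_1_6, d_1_7, d_2_3, d_2_4, d_2_5, d_2_6, d_2_7, d_3_4, d_3_5, d_3_6, d_3_7, d_4_5, d_4_6, d_4_7, d_5_6, d_5_7, d_6_7⟩, ⟨v_0_0, v_0_1, v_0_2, v_0_3, v_0_4, v_0_5, v_0_6, v_0_7, v_1_0, v_1_1, v_1_2, v_1_3, v_1_4, v_1_5, v_1_6, v_1_7, v_2_0, v_2_1, v_2_2, v_2_3, v_2_4, v_2_5, v_2_6, v_2_7, v_3_0, v_3_1, v_3_2, v_3_3, v_3_4, v_3_5, v_3_6, v_3_7, v_4_0, v_4_1, v_4_2, v_4_3, v_4_4, v_4_5, v_4_6, v_4_7, v_5_0, v_5_1, v_5_2, v_5_3, v_5_4, v_5_5, v_5_6, v_5_7, v_6_0, v_6_1, v_6_2, v_6_3, v_6_4, v_6_5, v_6_6, v_6_7, v_7_0, v_7_1, v_7_2, v_7_3, v_7_4, v_7_5, v_7_6, v_7_7⟩, hz⟩ := h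
  have hnd : ([i0, i1, i2, i3, i4, i5, i6, i7] : List ι).Nodup := by
    simp only [List.nodup_cons, List.mem_cons, List.not_mem_nil, or_false, not_or, List.nodup_nil, and_true, not_false_eq_true]
    exact ⟨⟨d_0_1, d_0_2, d_0_3, d_0_4, d_0_5, d_0_6, d_0_7⟩, ⟨d_1_2, d_1_3, d_1_4, d_1_5, d_1_6, d_1_7⟩, ⟨d_2_3, d_2_4, d_2_5, d_2_6, d_2_7⟩, ⟨d_3_4, d_3_5, d_3_6, d_3_7⟩, ⟨d_4_5, d_4_6, d_4_7⟩, ⟨d_5_6, d_5_7⟩, d_6_7⟩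
  set S : Finset ι := Finset.univ \ ([i0, i1, i2, i3, i4, i5, i6, i7] : List ι).toFinset with hS
  have hmem : ∀ i, i ∈ S ↔ (i ≠ i0 ∧ i ≠ i1 ∧ i ≠ i2 ∧ i ≠ i3 ∧ i ≠ i4 ∧ i ≠ i5 ∧ i ≠ i6 ∧ i ≠ i7) := by
    intro i
    simp only [hS, Finset.mem_sdiff, Finset.mem_univ, true_and, List.mem_toFinset, List.mem_cons, List.not_mem_nil, or_false, not_or, ne_eq]
  have hz' : ∀ i ∈ S, (c0 i = 0 ∧ c1 i = 0 ∧ c2 i = 0 ∧ c3 i = 0 ∧ c4 i = 0 ∧ c5 i = 0 ∧ c6 i = 0 ∧ c7 i = 0) := by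
    intro i hi
    obtain ⟨n0, n1, n2, n3, n4, n5, n6, n7⟩ := (hmem i).1 hi
    exact hz i n0 n1 n2 n3 n4 n5 n6 n7
  have e0 : (0 : ℤ) = (1) * c8 i0 + (1) * c8 i1 + (0) * c8 i2 + (0) * c8 i3 + (0) * c8 i4 + (0) * c8 i5 + (0) * c8 i6 + (0) * c8 i7 := by
    have h1 := Cfsg.Agent.Lib.Helper76_ShapeLib.sum_split [i0, i1, i2, i3, i4, i5, i6, i7] hnd (fun i => c0 i * c8 i)
    have h2 : ∑ i ∈ S, c0 i * c8 i = 0 := Finset.sum_eq_zero fun i hi => by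
      rw [(hz' i hi).1, zero_mul]
    rw [hG0, h2] at h1
    simp only [List.map_cons, List.map_nil, List.sum_cons, List.sum_nil, v_0_0, v_1_0, v_2_0, v_3_0, v_4_0, v_5_0, v_6_0, v_7_0] at h1
    linarith
  have e1 : (1 : ℤ) = (0) * c8 i0 + (-1) * c8 i1 + (1) * c8 i2 + (1) * c8 i3 + (0) * c8 i4 + (0) * c8 i5 + (0) * c8 i6 + (0) * c8 i7 := by
    have h1 := Cfsg.Agent.Lib.Helper76_ShapeLib.sum_split [i0, i1, i2, i3, i4, i5, i6, i7] hnd (fun i => c1 i * c8 i)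
    have h2 : ∑ i ∈ S, c1 i * c8 i = 0 := Finset.sum_eq_zero fun i hi => by
      rw [(hz' i hi).2.1, zero_mul]
    rw [hG1, h2] at h1
    simp only [List.map_cons, List.map_nil, List.sum_cons, List.sum_nil, v_0_1, v_1_1, v_2_1, v_3_1, v_4_1, v_5_1, v_6_1, v_7_1] at h1
    linarith
  have e2 : (0 : ℤ) = (0) * c8 i0 + (0) * c8 i1 + (0) * c8 i2 + (0) * c8 i3 + (1) * c8 i4 + (1) * c8 i5 + (0) * c8 i6 + (0) * c8 i7 := by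
    have h1 := Cfsg.Agent.Lib.Helper76_ShapeLib.sum_split [i0, i1, i2, i3, i4, i5, i6, i7] hnd (fun i => c2 i * c8 i)
    have h2 : ∑ i ∈ S, c2 i * c8 i = 0 := Finset.sum_eq_zero fun i hi => by
      rw [(hz' i hi).2.2.1, zero_mul]
    rw [hG2, h2] at h1
    simp only [List.map_cons, List.map_nil, List.sum_cons, List.sum_nil, v_0_2, v_1_2, v_2_2, v_3_2, v_4_2, v_5_2, v_6_2, v_7_2] at h1
    linarith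
  have e3 : (1 : ℤ) = (0) * c8 i0 + (1) * c8 i1 + (0) * c8 i2 + (0) * c8 i3 + (0) * c8 i4 + (-1) * c8 i5 + (1) * c8 i6 + (0) * c8 i7 := by
    have h1 := Cfsg.Agent.Lib.Helper76_ShapeLib.sum_split [i0, i1, i2, i3, i4, i5, i6, i7] hnd (fun i => c3 i * c8 i)
    have h2 : ∑ i ∈ S, c3 i * c8 i = 0 := Finset.sum_eq_zero fun i hi => by
      rw [(hz' i hi).2.2.2.1, zero_mul]
    rw [hG3, h2] at h1
    simp only [List.map_cons, List.map_nil, List.sum_cons, List.sum_nil, v_0_3, v_1_3, v_2_3, v_3_3, v_4_3, v_5_3, v_6_3, v_7_3] at h1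
    linarith
  have e4 : (1 : ℤ) = (0) * c8 i0 + (0) * c8 i1 + (1) * c8 i2 + (0) * c8 i3 + (1) * c8 i4 + (-1) * c8 i5 + (0) * c8 i6 + (0) * c8 i7 := by
    have h1 := Cfsg.Agent.Lib.Helper76_ShapeLib.sum_split [i0, i1, i2, i3, i4, i5, i6, i7] hnd (fun i => c4 i * c8 i)
    have h2 : ∑ i ∈ S, c4 i * c8 i = 0 := Finset.sum_eq_zero fun i hi => by
      rw [(hz' i hi).2.2.2.2.1, zero_mul]
    rw [hG4, h2] at h1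
    simp only [List.map_cons, List.map_nil, List.sum_cons, List.sum_nil, v_0_4, v_1_4, v_2_4, v_3_4, v_4_4, v_5_4, v_6_4, v_7_4] at h1
    linarith
  have e5 : (1 : ℤ) = (1) * c8 i0 + (0) * c8 i1 + (0) * c8 i2 + (-1) * c8 i3 + (0) * c8 i4 + (0) * c8 i5 + (1) * c8 i6 + (0) * c8 i7 := by
    have h1 := Cfsg.Agent.Lib.Helper76_ShapeLib.sum_split [i0, i1, i2, i3, i4, i5, i6, i7] hnd (fun i => c5 i * c8 i)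
    have h2 : ∑ i ∈ S, c5 i * c8 i = 0 := Finset.sum_eq_zero fun i hi => by
      rw [(hz' i hi).2.2.2.2.2.1, zero_mul]
    rw [hG5, h2] at h1
    simp only [List.map_cons, List.map_nil, List.sum_cons, List.sum_nil, v_0_5, v_1_5, v_2_5, v_3_5, v_4_5, v_5_5, v_6_5, v_7_5] at h1
    linarith
  have e6 : (1 : ℤ) = (1) * c8 i0 + (-1) * c8 i1 + (0) * c8 i2 + (0) * c8 i3 + (1) * c8 i4 + (0) * c8 i5 + (0) * c8 i6 + (1) * c8 i7 := by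
    have h1 := Cfsg.Agent.Lib.Helper76_ShapeLib.sum_split [i0, i1, i2, i3, i4, i5, i6, i7] hnd (fun i => c6 i * c8 i)
    have h2 : ∑ i ∈ S, c6 i * c8 i = 0 := Finset.sum_eq_zero fun i hi => by
      rw [(hz' i hi).2.2.2.2.2.2.1, zero_mul]
    rw [hG6, h2] at h1
    simp only [List.map_cons, List.map_nil, List.sum_cons, List.sum_nil, v_0_6, v_1_6, v_2_6, v_3_6, v_4_6, v_5_6, v_6_6, v_7_6] at h1
    linarith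
  have e7 : (1 : ℤ) = (0) * c8 i0 + (0) * c8 i1 + (1) * c8 i2 + (0) * c8 i3 + (0) * c8 i4 + (1) * c8 i5 + (0) * c8 i6 + (1) * c8 i7 := by
    have h1 := Cfsg.Agent.Lib.Helper76_ShapeLib.sum_split [i0, i1, i2, i3, i4, i5, i6, i7] hnd (fun i => c7 i * c8 i)
    have h2 : ∑ i ∈ S, c7 i * c8 i = 0 := Finset.sum_eq_zero fun i hi => by
      rw [(hz' i hi).2.2.2.2.2.2.2, zero_mul]
    rw [hG7, h2] at h1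
    simp only [List.map_cons, List.map_nil, List.sum_cons, List.sum_nil, v_0_7, v_1_7, v_2_7, v_3_7, v_4_7, v_5_7, v_6_7, v_7_7] at h1
    linarith
  have en : (4 : ℤ) = c8 i0 * c8 i0 + c8 i1 * c8 i1 + c8 i2 * c8 i2 + c8 i3 * c8 i3 + c8 i4 * c8 i4 + c8 i5 * c8 i5 + c8 i6 * c8 i6 + c8 i7 * c8 i7 + ∑ i ∈ S, c8 i * c8 i := by
    have h1 := Cfsg.Agent.Lib.Helper76_ShapeLib.sum_split [i0, i1, i2, i3, i4, i5, i6, i7] hnd (fun i => c8 i * c8 i)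
    rw [hG8] at h1
    simp only [List.map_cons, List.map_nil, List.sum_cons, List.sum_nil] at h1
    linarith
  have hr : 0 ≤ ∑ i ∈ S, c8 i * c8 i := Finset.sum_nonneg fun i _ => mul_self_nonneg _
  have hnn : ∀ i ∈ S, 0 ≤ c8 i := by
    intro i hi
    obtain ⟨z0, z1, z2, z3, z4, z5, z6, z7⟩ := hz' i hi
    exact hpos i z0 z1 z2 z3 z4 z5 z6 z7
  have hsol := ar_8_2 (c8 i0) (c8 i1) (c8 i2) (c8 i3) (c8 i4) (c8 i5) (c8 i6) (c8 i7) _ e0 e1 e2 e3 e4 e5 e6 e7 en hr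
  exact hsol

theorem ar_8_3 (x0 x1 x2 x3 x4 x5 x6 x7 x8 x9 r : ℤ) (e0 : (0 : ℤ) = (1) * x0 + (1) * x1 + (0) * x2 + (0) * x3 + (0) * x4 + (0) * x5 + (0) * x6 + (0) * x7 + (0) * x8 + (0) * x9) (e1 : (1 : ℤ) = (0) * x0 + (-1) * x1 + (1) * x2 + (1) * x3 + (0) * x4 + (0) * x5 + (0) * x6 + (0) * x7 + (0) * x8 + (0) * x9) (e2 : (0 : ℤ) = (0) * x0 + (0) * x1 + (1) * x2 + (-1) * x3 + (0) * x4 + (0) * x5 + (0) * x6 + (0) * x7 + (0) * x8 + (0) * x9) (e3 : (1 : ℤ) = (1) * x0 + (0) * x1 + (-1) * x2 + (0) * x3 + (1) * x4 + (0) * x5 + (0) * x6 + (0) * x7 + (0) * x8 + (0) * x9) (e4 : (1 : ℤ) = (1) * x0 + (-1) * x1 + (0) * x2 + (0) * x3 + (0) * x4 + (1) * x5 + (0) * x6 + (0) * x7 + (0) * x8 + (0) * x9) (e5 : (1 : ℤ) = (0) * x0 + (1) * x1 + (0) * x2 + (0) * x3 + (1) * x4 + (1) * x5 + (0) * x6 + (0) * x7 + (0)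 * x8 + (0) * x9) (e6 : (1 : ℤ) = (0) * x0 + (0) * x1 + (1) * x2 + (0) * x3 + (0) * x4 + (1) * x5 + (1) * x6 + (1) * x7 + (0) * x8 + (0) * x9) (e7 : (1 : ℤ) = (0) * x0 + (0) * x1 + (1) * x2 + (0) * x3 + (0) * x4 + (0) * x5 + (0) * x6 + (0) * x7 + (1) * x8 + (1) * x9) (en : (4 : ℤ) = x0 * x0 + x1 * x1 + x2 * x2 + x3 * x3 + x4 * x4 + x5 * x5 + x6 * x6 + x7 * x7 + x8 * x8 + x9 * x9 + r) (hr : 0 ≤ r) : False := by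
  have hb7 : x7 * x7 ≤ 4 := by linarith [mul_self_nonneg x0, mul_self_nonneg x1, mul_self_nonneg x2, mul_self_nonneg x3, mul_self_nonneg x4, mul_self_nonneg x5, mul_self_nonneg x6, mul_self_nonneg x7, mul_self_nonneg x8, mul_self_nonneg x9]
  obtain ⟨hl7, hu7⟩ := Cfsg.Agent.Lib.Helper76_ShapeLib.bound2 x7 hb7
  have hb8 : x8 * x8 ≤ 4 := by linarith [mul_self_nonneg x0, mul_self_nonneg x1, mul_self_nonneg x2, mul_self_nonneg x3, mul_self_nonneg x4, mul_self_nonneg x5, mul_self_nonneg x6, mul_self_nonneg x7, mul_self_nonneg x8, mul_self_nonneg x9]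
  obtain ⟨hl8, hu8⟩ := Cfsg.Agent.Lib.Helper76_ShapeLib.bound2 x8 hb8
  have hb9 : x9 * x9 ≤ 4 := by linarith [mul_self_nonneg x0, mul_self_nonneg x1, mul_self_nonneg x2, mul_self_nonneg x3, mul_self_nonneg x4, mul_self_nonneg x5, mul_self_nonneg x6, mul_self_nonneg x7, mul_self_nonneg x8, mul_self_nonneg x9]
  obtain ⟨hl9, hu9⟩ := Cfsg.Agent.Lib.Helper76_ShapeLib.bound2 x9 hb9
  obtain rfl : x0 = -1 + (2) * x8 + (2) * x9 := by omega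
  obtain rfl : x1 = 1 + (-2) * x8 + (-2) * x9 := by omega
  obtain rfl : x2 = 1 + (-1) * x8 + (-1) * x9 := by omega
  obtain rfl : x4 = 3 + (-3) * x8 + (-3) * x9 := by omega
  obtain rfl : x5 = 3 + (-4) * x8 + (-4) * x9 := by omega
  obtain rfl : x6 = -3 + (-1) * x7 + (5) * x8 + (5) * x9 := by omega
  obtain rfl : x3 = 1 + (-1) * x8 + (-1) * x9 := by omega
  interval_cases x7 <;> interval_cases x8 <;> interval_cases x9 <;> omega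

theorem ext_8_3 {ι : Type*} [Fintype ι] [DecidableEq ι] (c0 c1 c2 c3 c4 c5 c6 c7 c8 : ι → ℤ)
    (hG0 : ∑ i, c0 i * c8 i = 0)
    (hG1 : ∑ i, c1 i * c8 i = 1)
    (hG2 : ∑ i, c2 i * c8 i = 0)
    (hG3 : ∑ i, c3 i * c8 i = 1)
    (hG4 : ∑ i, c4 i * c8 i = 1)
    (hG5 : ∑ i, c5 i * c8 i = 1)
    (hG6 : ∑ i, c6 i * c8 i = 1)
    (hG7 : ∑ i, c7 i * c8 i = 1)
    (hG8 : ∑ i, c8 i * c8 i = 4)
    (hpos : ∀ i, c0 i = 0 → c1 i = 0 → c2 i = 0 → c3 i = 0 → c4 i = 0 → c5 i = 0 → c6 i = 0 → c7 i = 0 → 0 ≤ c8 i)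
    (h : St_8_3 c0 c1 c2 c3 c4 c5 c6 c7) :
    False := by
  obtain ⟨i0, i1, i2, i3, i4, i5, i6, i7, i8, i9, ⟨d_0_1, d_0_2, d_0_3, d_0_4, d_0_5, d_0_6, d_0_7, d_0_8, d_0_9, d_1_2, d_1_3, d_1_4, d_1_5, d_1_6, d_1_7, d_1_8, d_1_9, d_2_3, d_2_4, d_2_5, d_2_6, d_2_7, d_2_8, d_2_9, d_3_4, d_3_5, d_3_6, d_3_7, d_3_8, d_3_9, d_4_5, d_4_6, d_4_7, d_4_8, d_4_9, d_5_6, d_5_7, d_5_8, d_5_9, d_6_7, d_6_8, d_6_9, d_7_8, d_7_9, d_8_9⟩, ⟨v_0_0, v_0_1, v_0_2, v_0_3, v_0_4, v_0_5, v_0_6, v_0_7, v_1_0, v_1_1, v_1_2, v_1_3, v_1_4, v_1_5, v_1_6, v_1_7, v_2_0, v_2_1, v_2_2, v_2_3, v_2_4, v_2_5, v_2_6, v_2_7, v_3_0, v_3_1, v_3_2, v_3_3, v_3_4, v_3_5, v_3_6, v_3_7, v_4_0, v_4_1, v_4_2, v_4_3, v_4_4, v_4_5, v_4_6, v_4_7, v_5_0, v_5_1, v_5_2, v_5_3, v_5_4, v_5_5, v_5_6, v_5_7, v_6_0, v_6_1, v_6_2, v_6_3, v_6_4, v_6_5,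 v_6_6, v_6_7, v_7_0, v_7_1, v_7_2, v_7_3, v_7_4, v_7_5, v_7_6, v_7_7, v_8_0, v_8_1, v_8_2, v_8_3, v_8_4, v_8_5, v_8_6, v_8_7, v_9_0, v_9_1, v_9_2, v_9_3, v_9_4, v_9_5, v_9_6, v_9_7⟩, hz⟩ := h
  have hnd : ([i0, i1, i2, i3, i4, i5, i6, i7, i8, i9] : List ι).Nodup := by
    simp only [List.nodup_cons, List.mem_cons, List.not_mem_nil, or_false, not_or, List.nodup_nil, and_true, not_false_eq_true]
    exact ⟨⟨d_0_1, d_0_2, d_0_3, d_0_4, d_0_5, d_0_6, d_0_7, d_0_8, d_0_9⟩, ⟨d_1_2, d_1_3, d_1_4, d_1_5, d_1_6, d_1_7, d_1_8, d_1_9⟩, ⟨d_2_3, d_2_4, d_2_5, d_2_6, d_2_7, d_2_8, d_2_9⟩, ⟨d_3_4, d_3_5, d_3_6, d_3_7, d_3_8, d_3_9⟩, ⟨d_4_5, d_4_6, d_4_7, d_4_8, d_4_9⟩, ⟨d_5_6, d_5_7, d_5_8, d_5_9⟩, ⟨d_6_7, d_6_8, d_6_9⟩, ⟨d_7_8, d_7_9⟩, d_8_9⟩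
  set S : Finset ι := Finset.univ \ ([i0, i1, i2, i3, i4, i5, i6, i7, i8, i9] : List ι).toFinset with hS
  have hmem : ∀ i, i ∈ S ↔ (i ≠ i0 ∧ i ≠ i1 ∧ i ≠ i2 ∧ i ≠ i3 ∧ i ≠ i4 ∧ i ≠ i5 ∧ i ≠ i6 ∧ i ≠ i7 ∧ i ≠ i8 ∧ i ≠ i9) := by
    intro i
    simp only [hS, Finset.mem_sdiff, Finset.mem_univ, true_and, List.mem_toFinset, List.mem_cons, List.not_mem_nil, or_false, not_or, ne_eq]
  have hz' : ∀ i ∈ S, (c0 i = 0 ∧ c1 i = 0 ∧ c2 i = 0 ∧ c3 i = 0 ∧ c4 i = 0 ∧ c5 i = 0 ∧ c6 i = 0 ∧ c7 i = 0) := by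
    intro i hi
    obtain ⟨n0, n1, n2, n3, n4, n5, n6, n7, n8, n9⟩ := (hmem i).1 hi
    exact hz i n0 n1 n2 n3 n4 n5 n6 n7 n8 n9
  have e0 : (0 : ℤ) = (1) * c8 i0 + (1) * c8 i1 + (0) * c8 i2 + (0) * c8 i3 + (0) * c8 i4 + (0) * c8 i5 + (0) * c8 i6 + (0) * c8 i7 + (0) * c8 i8 + (0) * c8 i9 := by
    have h1 := Cfsg.Agent.Lib.Helper76_ShapeLib.sum_split [i0, i1, i2, i3, i4, i5, i6, i7, i8, i9] hnd (fun i => c0 i * c8 i)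
    have h2 : ∑ i ∈ S, c0 i * c8 i = 0 := Finset.sum_eq_zero fun i hi => by
      rw [(hz' i hi).1, zero_mul]
    rw [hG0, h2] at h1
    simp only [List.map_cons, List.map_nil, List.sum_cons, List.sum_nil, v_0_0, v_1_0, v_2_0, v_3_0, v_4_0, v_5_0, v_6_0, v_7_0, v_8_0, v_9_0] at h1
    linarith
  have e1 : (1 : ℤ) = (0) * c8 i0 + (-1) * c8 i1 + (1) * c8 i2 + (1) * c8 i3 + (0) * c8 i4 + (0) * c8 i5 + (0) * c8 i6 + (0) * c8 i7 + (0) * c8 i8 + (0) * c8 i9 := by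
    have h1 := Cfsg.Agent.Lib.Helper76_ShapeLib.sum_split [i0, i1, i2, i3, i4, i5, i6, i7, i8, i9] hnd (fun i => c1 i * c8 i)
    have h2 : ∑ i ∈ S, c1 i * c8 i = 0 := Finset.sum_eq_zero fun i hi => by
      rw [(hz' i hi).2.1, zero_mul]
    rw [hG1, h2] at h1
    simp only [List.map_cons, List.map_nil, List.sum_cons, List.sum_nil, v_0_1, v_1_1, v_2_1, v_3_1, v_4_1, v_5_1, v_6_1, v_7_1, v_8_1, v_9_1] at h1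
    linarith
  have e2 : (0 : ℤ) = (0) * c8 i0 + (0) * c8 i1 + (1) * c8 i2 + (-1) * c8 i3 + (0) * c8 i4 + (0) * c8 i5 + (0) * c8 i6 + (0) * c8 i7 + (0) * c8 i8 + (0) * c8 i9 := by
    have h1 := Cfsg.Agent.Lib.Helper76_ShapeLib.sum_split [i0, i1, i2, i3, i4, i5, i6, i7, i8, i9] hnd (fun i => c2 i * c8 i)
    have h2 : ∑ i ∈ S, c2 i * c8 i = 0 := Finset.sum_eq_zero fun i hi => by
      rw [(hz' i hi).2.2.1, zero_mul]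
    rw [hG2, h2] at h1
    simp only [List.map_cons, List.map_nil, List.sum_cons, List.sum_nil, v_0_2, v_1_2, v_2_2, v_3_2, v_4_2, v_5_2, v_6_2, v_7_2, v_8_2, v_9_2] at h1
    linarith
  have e3 : (1 : ℤ) = (1) * c8 i0 + (0) * c8 i1 + (-1) * c8 i2 + (0) * c8 i3 + (1) * c8 i4 + (0) * c8 i5 + (0) * c8 i6 + (0) * c8 i7 + (0) * c8 i8 + (0) * c8 i9 := by
    have h1 := Cfsg.Agent.Lib.Helper76_ShapeLib.sum_split [i0, i1, i2, i3, i4, i5, i6, i7, i8, i9] hnd (fun i => c3 i * c8 i)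
    have h2 : ∑ i ∈ S, c3 i * c8 i = 0 := Finset.sum_eq_zero fun i hi => by
      rw [(hz' i hi).2.2.2.1, zero_mul]
    rw [hG3, h2] at h1
    simp only [List.map_cons, List.map_nil, List.sum_cons, List.sum_nil, v_0_3, v_1_3, v_2_3, v_3_3, v_4_3, v_5_3, v_6_3, v_7_3, v_8_3, v_9_3] at h1
    linarith
  have e4 : (1 : ℤ) = (1) * c8 i0 + (-1) * c8 i1 + (0) * c8 i2 + (0) * c8 i3 + (0) * c8 i4 + (1) * c8 i5 + (0) * c8 i6 + (0) * c8 i7 + (0) * c8 i8 + (0) * c8 i9 := by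
    have h1 := Cfsg.Agent.Lib.Helper76_ShapeLib.sum_split [i0, i1, i2, i3, i4, i5, i6, i7, i8, i9] hnd (fun i => c4 i * c8 i)
    have h2 : ∑ i ∈ S, c4 i * c8 i = 0 := Finset.sum_eq_zero fun i hi => by
      rw [(hz' i hi).2.2.2.2.1, zero_mul]
    rw [hG4, h2] at h1
    simp only [List.map_cons, List.map_nil, List.sum_cons, List.sum_nil, v_0_4, v_1_4, v_2_4, v_3_4, v_4_4, v_5_4, v_6_4, v_7_4, v_8_4, v_9_4] at h1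
    linarith
  have e5 : (1 : ℤ) = (0) * c8 i0 + (1) * c8 i1 + (0) * c8 i2 + (0) * c8 i3 + (1) * c8 i4 + (1) * c8 i5 + (0) * c8 i6 + (0) * c8 i7 + (0) * c8 i8 + (0) * c8 i9 := by
    have h1 := Cfsg.Agent.Lib.Helper76_ShapeLib.sum_split [i0, i1, i2, i3, i4, i5, i6, i7, i8, i9] hnd (fun i => c5 i * c8 i)
    have h2 : ∑ i ∈ S, c5 i * c8 i = 0 := Finset.sum_eq_zero fun i hi => by
      rw [(hz' i hi).2.2.2.2.2.1, zero_mul]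
    rw [hG5, h2] at h1
    simp only [List.map_cons, List.map_nil, List.sum_cons, List.sum_nil, v_0_5, v_1_5, v_2_5, v_3_5, v_4_5, v_5_5, v_6_5, v_7_5, v_8_5, v_9_5] at h1
    linarith
  have e6 : (1 : ℤ) = (0) * c8 i0 + (0) * c8 i1 + (1) * c8 i2 + (0) * c8 i3 + (0) * c8 i4 + (1) * c8 i5 + (1) * c8 i6 + (1) * c8 i7 + (0) * c8 i8 + (0) * c8 i9 := by
    have h1 := Cfsg.Agent.Lib.Helper76_ShapeLib.sum_split [i0, i1, i2, i3, i4, i5, i6, i7, i8, i9] hnd (fun i => c6 i * c8 i)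
    have h2 : ∑ i ∈ S, c6 i * c8 i = 0 := Finset.sum_eq_zero fun i hi => by
      rw [(hz' i hi).2.2.2.2.2.2.1, zero_mul]
    rw [hG6, h2] at h1
    simp only [List.map_cons, List.map_nil, List.sum_cons, List.sum_nil, v_0_6, v_1_6, v_2_6, v_3_6, v_4_6, v_5_6, v_6_6, v_7_6, v_8_6, v_9_6] at h1
    linarith
  have e7 : (1 : ℤ) = (0) * c8 i0 + (0) * c8 i1 + (1) * c8 i2 + (0) * c8 i3 + (0) * c8 i4 + (0) * c8 i5 + (0) * c8 i6 + (0) * c8 i7 + (1) * c8 i8 + (1) * c8 i9 := by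
    have h1 := Cfsg.Agent.Lib.Helper76_ShapeLib.sum_split [i0, i1, i2, i3, i4, i5, i6, i7, i8, i9] hnd (fun i => c7 i * c8 i)
    have h2 : ∑ i ∈ S, c7 i * c8 i = 0 := Finset.sum_eq_zero fun i hi => by
      rw [(hz' i hi).2.2.2.2.2.2.2, zero_mul]
    rw [hG7, h2] at h1
    simp only [List.map_cons, List.map_nil, List.sum_cons, List.sum_nil, v_0_7, v_1_7, v_2_7, v_3_7, v_4_7, v_5_7, v_6_7, v_7_7, v_8_7, v_9_7] at h1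
    linarith
  have en : (4 : ℤ) = c8 i0 * c8 i0 + c8 i1 * c8 i1 + c8 i2 * c8 i2 + c8 i3 * c8 i3 + c8 i4 * c8 i4 + c8 i5 * c8 i5 + c8 i6 * c8 i6 + c8 i7 * c8 i7 + c8 i8 * c8 i8 + c8 i9 * c8 i9 + ∑ i ∈ S, c8 i * c8 i := by
    have h1 := Cfsg.Agent.Lib.Helper76_ShapeLib.sum_split [i0, i1, i2, i3, i4, i5, i6, i7, i8, i9] hnd (fun i => c8 i * c8 i)
    rw [hG8] at h1
    simp only [List.map_cons, List.map_nil, List.sum_cons, List.sum_nil] at h1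
    linarith
  have hr : 0 ≤ ∑ i ∈ S, c8 i * c8 i := Finset.sum_nonneg fun i _ => mul_self_nonneg _
  have hnn : ∀ i ∈ S, 0 ≤ c8 i := by
    intro i hi
    obtain ⟨z0, z1, z2, z3, z4, z5, z6, z7⟩ := hz' i hi
    exact hpos i z0 z1 z2 z3 z4 z5 z6 z7
  have hsol := ar_8_3 (c8 i0) (c8 i1) (c8 i2) (c8 i3) (c8 i4) (c8 i5) (c8 i6) (c8 i7) (c8 i8) (c8 i9) _ e0 e1 e2 e3 e4 e5 e6 e7 en hr
  exact hsol

theorem ar_8_4 (x0 x1 x2 x3 x4 x5 x6 x7 r : ℤ) (e0 : (0 : ℤ) = (1) * x0 + (1) * x1 + (0) * x2 + (0) * x3 + (0) * x4 + (0) * x5 + (0) * x6 + (0) * x7) (e1 : (1 : ℤ) = (0) * x0 + (-1) * x1 + (1) * x2 + (1) * x3 + (0) * x4 + (0) * x5 + (0) * x6 + (0) * x7) (e2 : (0 : ℤ) = (0) * x0 + (0) * x1 + (1) * x2 + (-1) * x3 + (0) * x4 + (0) * x5 + (0) * x6 + (0) * x7) (e3 : (1 : ℤ) = (1) * x0 + (0) * x1 + (-1) * x2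 + (0) * x3 + (1) * x4 + (0) * x5 + (0) * x6 + (0) * x7) (e4 : (1 : ℤ) = (1) * x0 + (-1) * x1 + (0) * x2 + (0) * x3 + (0) * x4 + (1) * x5 + (0) * x6 + (0) * x7) (e5 : (1 : ℤ) = (0) * x0 + (1) * x1 + (0) * x2 + (0) * x3 + (1) * x4 + (1) * x5 + (0) * x6 + (0) * x7) (e6 : (1 : ℤ) = (0) * x0 + (0) * x1 + (1) * x2 + (0) * x3 + (0) * x4 + (1) * x5 + (1) * x6 + (1) * x7) (e7 : (1 : ℤ) = (0) * x0 + (0) * x1 + (1) * x2 + (0) * x3 + (0) * x4 + (0) * x5 + (1) * x6 + (-1) * x7) (en : (4 : ℤ) = x0 * x0 + x1 * x1 + x2 * x2 + x3 * x3 + x4 * x4 + x5 * x5 + x6 * x6 + x7 * x7 + r) (hr : 0 ≤ r) : False := by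
  have hb3 : x3 * x3 ≤ 4 := by linarith [mul_self_nonneg x0, mul_self_nonneg x1, mul_self_nonneg x2, mul_self_nonneg x3, mul_self_nonneg x4, mul_self_nonneg x5, mul_self_nonneg x6, mul_self_nonneg x7]
  obtain ⟨hl3, hu3⟩ := Cfsg.Agent.Lib.Helper76_ShapeLib.bound2 x3 hb3
  have hb7 : x7 * x7 ≤ 4 := by linarith [mul_self_nonneg x0, mul_self_nonneg x1, mul_self_nonneg x2, mul_self_nonneg x3, mul_self_nonneg x4, mul_self_nonneg x5, mul_self_nonneg x6, mul_self_nonneg x7]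
  obtain ⟨hl7, hu7⟩ := Cfsg.Agent.Lib.Helper76_ShapeLib.bound2 x7 hb7
  obtain rfl : x0 = 1 + (-2) * x3 := by omega
  obtain rfl : x1 = -1 + (2) * x3 := by omega
  obtain rfl : x2 = 0 + (1) * x3 := by omega
  obtain rfl : x4 = 0 + (3) * x3 := by omega
  obtain rfl : x5 = -1 + (4) * x3 := by omega
  obtain rfl : x6 = 2 + (-5) * x3 + (-1) * x7 := by omega
  interval_cases x3 <;> interval_cases x7 <;> omega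

theorem ext_8_4 {ι : Type*} [Fintype ι] [DecidableEq ι] (c0 c1 c2 c3 c4 c5 c6 c7 c8 : ι → ℤ)
    (hG0 : ∑ i, c0 i * c8 i = 0)
    (hG1 : ∑ i, c1 i * c8 i = 1)
    (hG2 : ∑ i, c2 i * c8 i = 0)
    (hG3 : ∑ i, c3 i * c8 i = 1)
    (hG4 : ∑ i, c4 i * c8 i = 1)
    (hG5 : ∑ i, c5 i * c8 i = 1)
    (hG6 : ∑ i, c6 i * c8 i = 1)
    (hG7 : ∑ i, c7 i * c8 i = 1)
    (hG8 : ∑ i, c8 i * c8 i = 4)
    (hpos : ∀ i, c0 i = 0 → c1 i = 0 → c2 i = 0 → c3 i = 0 → c4 i = 0 → c5 i = 0 → c6 i = 0 → c7 i = 0 → 0 ≤ c8 i)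
    (h : St_8_4 c0 c1 c2 c3 c4 c5 c6 c7) :
    False := by
  obtain ⟨i0, i1, i2, i3, i4, i5, i6, i7, ⟨d_0_1, d_0_2, d_0_3, d_0_4, d_0_5, d_0_6, d_0_7, d_1_2, d_1_3, d_1_4, d_1_5, d_1_6, d_1_7, d_2_3, d_2_4, d_2_5, d_2_6, d_2_7, d_3_4, d_3_5, d_3_6, d_3_7, d_4_5, d_4_6, d_4_7, d_5_6, d_5_7, d_6_7⟩, ⟨v_0_0, v_0_1, v_0_2, v_0_3, v_0_4, v_0_5, v_0_6, v_0_7, v_1_0, v_1_1, v_1_2, v_1_3, v_1_4, v_1_5, v_1_6, v_1_7, v_2_0, v_2_1, v_2_2, v_2_3, v_2_4, v_2_5, v_2_6, v_2_7, v_3_0, v_3_1, v_3_2, v_3_3, v_3_4, v_3_5, v_3_6, v_3_7, v_4_0, v_4_1, v_4_2, v_4_3, v_4_4, v_4_5, v_4_6, v_4_7, v_5_0, v_5_1, v_5_2, v_5_3, v_5_4, v_5_5, v_5_6, v_5_7, v_6_0, v_6_1, v_6_2, v_6_3, v_6_4, v_6_5, v_6_6, v_6_7, v_7_0, v_7_1, v_7_2, v_7_3, v_7_4, v_7_5, v_7_6, v_7_7⟩, hz⟩ := h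
  have hnd : ([i0, i1, i2, i3, i4, i5, i6, i7] : List ι).Nodup := by
    simp only [List.nodup_cons, List.mem_cons, List.not_mem_nil, or_false, not_or, List.nodup_nil, and_true, not_false_eq_true]
    exact ⟨⟨d_0_1, d_0_2, d_0_3, d_0_4, d_0_5, d_0_6, d_0_7⟩, ⟨d_1_2, d_1_3, d_1_4, d_1_5, d_1_6, d_1_7⟩, ⟨d_2_3, d_2_4, d_2_5, d_2_6, d_2_7⟩, ⟨d_3_4, d_3_5, d_3_6, d_3_7⟩, ⟨d_4_5, d_4_6, d_4_7⟩, ⟨d_5_6, d_5_7⟩, d_6_7⟩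
  set S : Finset ι := Finset.univ \ ([i0, i1, i2, i3, i4, i5, i6, i7] : List ι).toFinset with hS
  have hmem : ∀ i, i ∈ S ↔ (i ≠ i0 ∧ i ≠ i1 ∧ i ≠ i2 ∧ i ≠ i3 ∧ i ≠ i4 ∧ i ≠ i5 ∧ i ≠ i6 ∧ i ≠ i7) := by
    intro i
    simp only [hS, Finset.mem_sdiff, Finset.mem_univ, true_and, List.mem_toFinset, List.mem_cons, List.not_mem_nil, or_false, not_or, ne_eq]
  have hz' : ∀ i ∈ S, (c0 i = 0 ∧ c1 i = 0 ∧ c2 i = 0 ∧ c3 i = 0 ∧ c4 i = 0 ∧ c5 i = 0 ∧ c6 i = 0 ∧ c7 i = 0) := by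
    intro i hi
    obtain ⟨n0, n1, n2, n3, n4, n5, n6, n7⟩ := (hmem i).1 hi
    exact hz i n0 n1 n2 n3 n4 n5 n6 n7
  have e0 : (0 : ℤ) = (1) * c8 i0 + (1) * c8 i1 + (0) * c8 i2 + (0) * c8 i3 + (0) * c8 i4 + (0) * c8 i5 + (0) * c8 i6 + (0) * c8 i7 := by
    have h1 := Cfsg.Agent.Lib.Helper76_ShapeLib.sum_split [i0, i1, i2, i3, i4, i5, i6, i7] hnd (fun i => c0 i * c8 i)
    have h2 : ∑ i ∈ S, c0 i * c8 i = 0 := Finset.sum_eq_zero fun i hi => by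
      rw [(hz' i hi).1, zero_mul]
    rw [hG0, h2] at h1
    simp only [List.map_cons, List.map_nil, List.sum_cons, List.sum_nil, v_0_0, v_1_0, v_2_0, v_3_0, v_4_0, v_5_0, v_6_0, v_7_0] at h1
    linarith
  have e1 : (1 : ℤ) = (0) * c8 i0 + (-1) * c8 i1 + (1) * c8 i2 + (1) * c8 i3 + (0) * c8 i4 + (0) * c8 i5 + (0) * c8 i6 + (0) * c8 i7 := by
    have h1 := Cfsg.Agent.Lib.Helper76_ShapeLib.sum_split [i0, i1, i2, i3, i4, i5, i6, i7] hnd (fun i => c1 i * c8 i)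
    have h2 : ∑ i ∈ S, c1 i * c8 i = 0 := Finset.sum_eq_zero fun i hi => by
      rw [(hz' i hi).2.1, zero_mul]
    rw [hG1, h2] at h1
    simp only [List.map_cons, List.map_nil, List.sum_cons, List.sum_nil, v_0_1, v_1_1, v_2_1, v_3_1, v_4_1, v_5_1, v_6_1, v_7_1] at h1
    linarith
  have e2 : (0 : ℤ) = (0) * c8 i0 + (0) * c8 i1 + (1) * c8 i2 + (-1) * c8 i3 + (0) * c8 i4 + (0) * c8 i5 + (0) * c8 i6 + (0) * c8 i7 := by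
    have h1 := Cfsg.Agent.Lib.Helper76_ShapeLib.sum_split [i0, i1, i2, i3, i4, i5, i6, i7] hnd (fun i => c2 i * c8 i)
    have h2 : ∑ i ∈ S, c2 i * c8 i = 0 := Finset.sum_eq_zero fun i hi => by
      rw [(hz' i hi).2.2.1, zero_mul]
    rw [hG2, h2] at h1
    simp only [List.map_cons, List.map_nil, List.sum_cons, List.sum_nil, v_0_2, v_1_2, v_2_2, v_3_2, v_4_2, v_5_2, v_6_2, v_7_2] at h1
    linarith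
  have e3 : (1 : ℤ) = (1) * c8 i0 + (0) * c8 i1 + (-1) * c8 i2 + (0) * c8 i3 + (1) * c8 i4 + (0) * c8 i5 + (0) * c8 i6 + (0) * c8 i7 := by
    have h1 := Cfsg.Agent.Lib.Helper76_ShapeLib.sum_split [i0, i1, i2, i3, i4, i5, i6, i7] hnd (fun i => c3 i * c8 i)
    have h2 : ∑ i ∈ S, c3 i * c8 i = 0 := Finset.sum_eq_zero fun i hi => by
      rw [(hz' i hi).2.2.2.1, zero_mul]
    rw [hG3, h2] at h1
    simp only [List.map_cons, List.map_nil, List.sum_cons, List.sum_nil, v_0_3, v_1_3, v_2_3, v_3_3, v_4_3, v_5_3, v_6_3, v_7_3] at h1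
    linarith
  have e4 : (1 : ℤ) = (1) * c8 i0 + (-1) * c8 i1 + (0) * c8 i2 + (0) * c8 i3 + (0) * c8 i4 + (1) * c8 i5 + (0) * c8 i6 + (0) * c8 i7 := by
    have h1 := Cfsg.Agent.Lib.Helper76_ShapeLib.sum_split [i0, i1, i2, i3, i4, i5, i6, i7] hnd (fun i => c4 i * c8 i)
    have h2 : ∑ i ∈ S, c4 i * c8 i = 0 := Finset.sum_eq_zero fun i hi => by
      rw [(hz' i hi).2.2.2.2.1, zero_mul]
    rw [hG4, h2] at h1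
    simp only [List.map_cons, List.map_nil, List.sum_cons, List.sum_nil, v_0_4, v_1_4, v_2_4, v_3_4, v_4_4, v_5_4, v_6_4, v_7_4] at h1
    linarith
  have e5 : (1 : ℤ) = (0) * c8 i0 + (1) * c8 i1 + (0) * c8 i2 + (0) * c8 i3 + (1) * c8 i4 + (1) * c8 i5 + (0) * c8 i6 + (0) * c8 i7 := by
    have h1 := Cfsg.Agent.Lib.Helper76_ShapeLib.sum_split [i0, i1, i2, i3, i4, i5, i6, i7] hnd (fun i => c5 i * c8 i)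
    have h2 : ∑ i ∈ S, c5 i * c8 i = 0 := Finset.sum_eq_zero fun i hi => by
      rw [(hz' i hi).2.2.2.2.2.1, zero_mul]
    rw [hG5, h2] at h1
    simp only [List.map_cons, List.map_nil, List.sum_cons, List.sum_nil, v_0_5, v_1_5, v_2_5, v_3_5, v_4_5, v_5_5, v_6_5, v_7_5] at h1
    linarith
  have e6 : (1 : ℤ) = (0) * c8 i0 + (0) * c8 i1 + (1) * c8 i2 + (0) * c8 i3 + (0) * c8 i4 + (1) * c8 i5 + (1) * c8 i6 + (1) * c8 i7 := by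
    have h1 := Cfsg.Agent.Lib.Helper76_ShapeLib.sum_split [i0, i1, i2, i3, i4, i5, i6, i7] hnd (fun i => c6 i * c8 i)
    have h2 : ∑ i ∈ S, c6 i * c8 i = 0 := Finset.sum_eq_zero fun i hi => by
      rw [(hz' i hi).2.2.2.2.2.2.1, zero_mul]
    rw [hG6, h2] at h1
    simp only [List.map_cons, List.map_nil, List.sum_cons, List.sum_nil, v_0_6, v_1_6, v_2_6, v_3_6, v_4_6, v_5_6, v_6_6, v_7_6] at h1
    linarith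
  have e7 : (1 : ℤ) = (0) * c8 i0 + (0) * c8 i1 + (1) * c8 i2 + (0) * c8 i3 + (0) * c8 i4 + (0) * c8 i5 + (1) * c8 i6 + (-1) * c8 i7 := by
    have h1 := Cfsg.Agent.Lib.Helper76_ShapeLib.sum_split [i0, i1, i2, i3, i4, i5, i6, i7] hnd (fun i => c7 i * c8 i)
    have h2 : ∑ i ∈ S, c7 i * c8 i = 0 := Finset.sum_eq_zero fun i hi => by
      rw [(hz' i hi).2.2.2.2.2.2.2, zero_mul]
    rw [hG7, h2] at h1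
    simp only [List.map_cons, List.map_nil, List.sum_cons, List.sum_nil, v_0_7, v_1_7, v_2_7, v_3_7, v_4_7, v_5_7, v_6_7, v_7_7] at h1
    linarith
  have en : (4 : ℤ) = c8 i0 * c8 i0 + c8 i1 * c8 i1 + c8 i2 * c8 i2 + c8 i3 * c8 i3 + c8 i4 * c8 i4 + c8 i5 * c8 i5 + c8 i6 * c8 i6 + c8 i7 * c8 i7 + ∑ i ∈ S, c8 i * c8 i := by
    have h1 := Cfsg.Agent.Lib.Helper76_ShapeLib.sum_split [i0, i1, i2, i3, i4, i5, i6, i7] hnd (fun i => c8 i * c8 i)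
    rw [hG8] at h1
    simp only [List.map_cons, List.map_nil, List.sum_cons, List.sum_nil] at h1
    linarith
  have hr : 0 ≤ ∑ i ∈ S, c8 i * c8 i := Finset.sum_nonneg fun i _ => mul_self_nonneg _
  have hnn : ∀ i ∈ S, 0 ≤ c8 i := by
    intro i hi
    obtain ⟨z0, z1, z2, z3, z4, z5, z6, z7⟩ := hz' i hi
    exact hpos i z0 z1 z2 z3 z4 z5 z6 z7
  have hsol := ar_8_4 (c8 i0) (c8 i1) (c8 i2) (c8 i3) (c8 i4) (c8 i5) (c8 i6) (c8 i7) _ e0 e1 e2 e3 e4 e5 e6 e7 en hr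
  exact hsol

/-- the Gram relations of the nine columns and the sign normalisation (first nonzero coordinate positive) -/
structure GramHyp {ι : Type*} [Fintype ι] (c0 c1 c2 c3 c4 c5 c6 c7 c8 : ι → ℤ) : Prop where
  g_0_0 : ∑ i, c0 i * c0 i = 2
  g_0_1 : ∑ i, c0 i * c1 i = -1
  g_1_1 : ∑ i, c1 i * c1 i = 3
  g_0_2 : ∑ i, c0 i * c2 i = 0
  g_1_2 : ∑ i, c1 i * c2 i = 0
  g_2_2 : ∑ i, c2 i * c2 i = 2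
  g_0_3 : ∑ i, c0 i * c3 i = 1
  g_1_3 : ∑ i, c1 i * c3 i = -1
  g_2_3 : ∑ i, c2 i * c3 i = -1
  g_3_3 : ∑ i, c3 i * c3 i = 3
  g_0_4 : ∑ i, c0 i * c4 i = 0
  g_1_4 : ∑ i, c1 i * c4 i = 1
  g_2_4 : ∑ i, c2 i * c4 i = 0
  g_3_4 : ∑ i, c3 i * c4 i = 1
  g_4_4 : ∑ i, c4 i * c4 i = 3
  g_0_5 : ∑ i, c0 i * c5 i = 1
  g_1_5 : ∑ i, c1 i * c5 i = -1
  g_2_5 : ∑ i, c2 i * c5 i = 0
  g_3_5 : ∑ i, c3 i * c5 i = 1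
  g_4_5 : ∑ i, c4 i * c5 i = 0
  g_5_5 : ∑ i, c5 i * c5 i = 3
  g_0_6 : ∑ i, c0 i * c6 i = 0
  g_1_6 : ∑ i, c1 i * c6 i = 1
  g_2_6 : ∑ i, c2 i * c6 i = 1
  g_3_6 : ∑ i, c3 i * c6 i = -1
  g_4_6 : ∑ i, c4 i * c6 i = 1
  g_5_6 : ∑ i, c5 i * c6 i = 1
  g_6_6 : ∑ i, c6 i * c6 i = 4
  g_0_7 : ∑ i, c0 i * c7 i = 0
  g_1_7 : ∑ i, c1 i * c7 i = 1
  g_2_7 : ∑ i, c2 i * c7 i = 1
  g_3_7 : ∑ i, c3 i * c7 i = -1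
  g_4_7 : ∑ i, c4 i * c7 i = 0
  g_5_7 : ∑ i, c5 i * c7 i = 0
  g_6_7 : ∑ i, c6 i * c7 i = 1
  g_7_7 : ∑ i, c7 i * c7 i = 3
  g_0_8 : ∑ i, c0 i * c8 i = 0
  g_1_8 : ∑ i, c1 i * c8 i = 1
  g_2_8 : ∑ i, c2 i * c8 i = 0
  g_3_8 : ∑ i, c3 i * c8 i = 1
  g_4_8 : ∑ i, c4 i * c8 i = 1
  g_5_8 : ∑ i, c5 i * c8 i = 1
  g_6_8 : ∑ i, c6 i * c8 i = 1
  g_7_8 : ∑ i, c7 i * c8 i = 1
  g_8_8 : ∑ i, c8 i * c8 i = 4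
  pos_0 : ∀ i, 0 ≤ c0 i
  pos_1 : ∀ i, c0 i = 0 → 0 ≤ c1 i
  pos_2 : ∀ i, c0 i = 0 → c1 i = 0 → 0 ≤ c2 i
  pos_3 : ∀ i, c0 i = 0 → c1 i = 0 → c2 i = 0 → 0 ≤ c3 i
  pos_4 : ∀ i, c0 i = 0 → c1 i = 0 → c2 i = 0 → c3 i = 0 → 0 ≤ c4 i
  pos_5 : ∀ i, c0 i = 0 → c1 i = 0 → c2 i = 0 → c3 i = 0 → c4 i = 0 → 0 ≤ c5 i
  pos_6 : ∀ i, c0 i = 0 → c1 i = 0 → c2 i = 0 → c3 i = 0 → c4 i = 0 → c5 i = 0 → 0 ≤ c6 i
  pos_7 : ∀ i, c0 i = 0 → c1 i = 0 → c2 i = 0 → c3 i = 0 → c4 i = 0 → c5 i = 0 → c6 i = 0 → 0 ≤ c7 i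
  pos_8 : ∀ i, c0 i = 0 → c1 i = 0 → c2 i = 0 → c3 i = 0 → c4 i = 0 → c5 i = 0 → c6 i = 0 → c7 i = 0 → 0 ≤ c8 i

/-- the four complete shapes -/
def Final {ι : Type*} (c0 c1 c2 c3 c4 c5 c6 c7 c8 : ι → ℤ) : Prop :=
  St_9_0 c0 c1 c2 c3 c4 c5 c6 c7 c8 ∨ St_9_1 c0 c1 c2 c3 c4 c5 c6 c7 c8 ∨ St_9_2 c0 c1 c2 c3 c4 c5 c6 c7 c8 ∨ St_9_3 c0 c1 c2 c3 c4 c5 c6 c7 c8

theorem down_8_0 {ι : Type*} [Fintype ι] [DecidableEq ι] (c0 c1 c2 c3 c4 c5 c6 c7 c8 : ι → ℤ)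
    (hyp : GramHyp c0 c1 c2 c3 c4 c5 c6 c7 c8) (h : St_8_0 c0 c1 c2 c3 c4 c5 c6 c7) : Final c0 c1 c2 c3 c4 c5 c6 c7 c8 := by
  rcases ext_8_0 c0 c1 c2 c3 c4 c5 c6 c7 c8 hyp.g_0_8 hyp.g_1_8 hyp.g_2_8 hyp.g_3_8 hyp.g_4_8 hyp.g_5_8 hyp.g_6_8 hyp.g_7_8 hyp.g_8_8 hyp.pos_8 h with h1 | h1 | h1
  · exact (Or.inl h1)
  · exact (Or.inr (Or.inl h1))
  · exact (Or.inr (Or.inr (Or.inl h1)))

theorem down_8_1 {ι : Type*} [Fintype ι] [DecidableEq ι] (c0 c1 c2 c3 c4 c5 c6 c7 c8 : ι → ℤ)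
    (hyp : GramHyp c0 c1 c2 c3 c4 c5 c6 c7 c8) (h : St_8_1 c0 c1 c2 c3 c4 c5 c6 c7) : Final c0 c1 c2 c3 c4 c5 c6 c7 c8 := by
  have h1 := ext_8_1 c0 c1 c2 c3 c4 c5 c6 c7 c8 hyp.g_0_8 hyp.g_1_8 hyp.g_2_8 hyp.g_3_8 hyp.g_4_8 hyp.g_5_8 hyp.g_6_8 hyp.g_7_8 hyp.g_8_8 hyp.pos_8 h
  exact (Or.inr (Or.inr (Or.inr h1)))

theorem down_8_2 {ι : Type*} [Fintype ι] [DecidableEq ι] (c0 c1 c2 c3 c4 c5 c6 c7 c8 : ι → ℤ)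
    (hyp : GramHyp c0 c1 c2 c3 c4 c5 c6 c7 c8) (h : St_8_2 c0 c1 c2 c3 c4 c5 c6 c7) : Final c0 c1 c2 c3 c4 c5 c6 c7 c8 := by
  exact (ext_8_2 c0 c1 c2 c3 c4 c5 c6 c7 c8 hyp.g_0_8 hyp.g_1_8 hyp.g_2_8 hyp.g_3_8 hyp.g_4_8 hyp.g_5_8 hyp.g_6_8 hyp.g_7_8 hyp.g_8_8 hyp.pos_8 h).elim

theorem down_8_3 {ι : Type*} [Fintype ι] [DecidableEq ι] (c0 c1 c2 c3 c4 c5 c6 c7 c8 : ι → ℤ)
    (hyp : GramHyp c0 c1 c2 c3 c4 c5 c6 c7 c8) (h : St_8_3 c0 c1 c2 c3 c4 c5 c6 c7) : Final c0 c1 c2 c3 c4 c5 c6 c7 c8 := by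
  exact (ext_8_3 c0 c1 c2 c3 c4 c5 c6 c7 c8 hyp.g_0_8 hyp.g_1_8 hyp.g_2_8 hyp.g_3_8 hyp.g_4_8 hyp.g_5_8 hyp.g_6_8 hyp.g_7_8 hyp.g_8_8 hyp.pos_8 h).elim

theorem down_8_4 {ι : Type*} [Fintype ι] [DecidableEq ι] (c0 c1 c2 c3 c4 c5 c6 c7 c8 : ι → ℤ)
    (hyp : GramHyp c0 c1 c2 c3 c4 c5 c6 c7 c8) (h : St_8_4 c0 c1 c2 c3 c4 c5 c6 c7) : Final c0 c1 c2 c3 c4 c5 c6 c7 c8 := by
  exact (ext_8_4 c0 c1 c2 c3 c4 c5 c6 c7 c8 hyp.g_0_8 hyp.g_1_8 hyp.g_2_8 hyp.g_3_8 hyp.g_4_8 hyp.g_5_8 hyp.g_6_8 hyp.g_7_8 hyp.g_8_8 hyp.pos_8 h).elim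

theorem down_7_0 {ι : Type*} [Fintype ι] [DecidableEq ι] (c0 c1 c2 c3 c4 c5 c6 c7 c8 : ι → ℤ)
    (hyp : GramHyp c0 c1 c2 c3 c4 c5 c6 c7 c8) (h : St_7_0 c0 c1 c2 c3 c4 c5 c6) : Final c0 c1 c2 c3 c4 c5 c6 c7 c8 := by
  exact (ext_7_0 c0 c1 c2 c3 c4 c5 c6 c7 hyp.g_0_7 hyp.g_1_7 hyp.g_2_7 hyp.g_3_7 hyp.g_4_7 hyp.g_5_7 hyp.g_6_7 hyp.g_7_7 hyp.pos_7 h).elim

theorem down_7_1 {ι : Type*} [Fintype ι] [DecidableEq ι] (c0 c1 c2 c3 c4 c5 c6 c7 c8 : ι → ℤ)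
    (hyp : GramHyp c0 c1 c2 c3 c4 c5 c6 c7 c8) (h : St_7_1 c0 c1 c2 c3 c4 c5 c6) : Final c0 c1 c2 c3 c4 c5 c6 c7 c8 := by
  rcases ext_7_1 c0 c1 c2 c3 c4 c5 c6 c7 hyp.g_0_7 hyp.g_1_7 hyp.g_2_7 hyp.g_3_7 hyp.g_4_7 hyp.g_5_7 hyp.g_6_7 hyp.g_7_7 hyp.pos_7 h with h1 | h1
  · exact down_8_0 c0 c1 c2 c3 c4 c5 c6 c7 c8 hyp h1
  · exact down_8_1 c0 c1 c2 c3 c4 c5 c6 c7 c8 hyp h1

theorem down_7_2 {ι : Type*} [Fintype ι] [DecidableEq ι] (c0 c1 c2 c3 c4 c5 c6 c7 c8 : ι → ℤ)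
    (hyp : GramHyp c0 c1 c2 c3 c4 c5 c6 c7 c8) (h : St_7_2 c0 c1 c2 c3 c4 c5 c6) : Final c0 c1 c2 c3 c4 c5 c6 c7 c8 := by
  exact (ext_7_2 c0 c1 c2 c3 c4 c5 c6 c7 hyp.g_0_7 hyp.g_1_7 hyp.g_2_7 hyp.g_3_7 hyp.g_4_7 hyp.g_5_7 hyp.g_6_7 hyp.g_7_7 hyp.pos_7 h).elim

theorem down_7_3 {ι : Type*} [Fintype ι] [DecidableEq ι] (c0 c1 c2 c3 c4 c5 c6 c7 c8 : ι → ℤ)
    (hyp : GramHyp c0 c1 c2 c3 c4 c5 c6 c7 c8) (h : St_7_3 c0 c1 c2 c3 c4 c5 c6) : Final c0 c1 c2 c3 c4 c5 c6 c7 c8 := by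
  exact (ext_7_3 c0 c1 c2 c3 c4 c5 c6 c7 hyp.g_0_7 hyp.g_1_7 hyp.g_2_7 hyp.g_3_7 hyp.g_4_7 hyp.g_5_7 hyp.g_6_7 hyp.g_7_7 hyp.pos_7 h).elim

theorem down_7_4 {ι : Type*} [Fintype ι] [DecidableEq ι] (c0 c1 c2 c3 c4 c5 c6 c7 c8 : ι → ℤ)
    (hyp : GramHyp c0 c1 c2 c3 c4 c5 c6 c7 c8) (h : St_7_4 c0 c1 c2 c3 c4 c5 c6) : Final c0 c1 c2 c3 c4 c5 c6 c7 c8 := by
  have h1 := ext_7_4 c0 c1 c2 c3 c4 c5 c6 c7 hyp.g_0_7 hyp.g_1_7 hyp.g_2_7 hyp.g_3_7 hyp.g_4_7 hyp.g_5_7 hyp.g_6_7 hyp.g_7_7 hyp.pos_7 h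
  exact down_8_2 c0 c1 c2 c3 c4 c5 c6 c7 c8 hyp h1

theorem down_7_5 {ι : Type*} [Fintype ι] [DecidableEq ι] (c0 c1 c2 c3 c4 c5 c6 c7 c8 : ι → ℤ)
    (hyp : GramHyp c0 c1 c2 c3 c4 c5 c6 c7 c8) (h : St_7_5 c0 c1 c2 c3 c4 c5 c6) : Final c0 c1 c2 c3 c4 c5 c6 c7 c8 := by
  rcases ext_7_5 c0 c1 c2 c3 c4 c5 c6 c7 hyp.g_0_7 hyp.g_1_7 hyp.g_2_7 hyp.g_3_7 hyp.g_4_7 hyp.g_5_7 hyp.g_6_7 hyp.g_7_7 hyp.pos_7 h with h1 | h1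
  · exact down_8_3 c0 c1 c2 c3 c4 c5 c6 c7 c8 hyp h1
  · exact down_8_4 c0 c1 c2 c3 c4 c5 c6 c7 c8 hyp h1

theorem down_6_0 {ι : Type*} [Fintype ι] [DecidableEq ι] (c0 c1 c2 c3 c4 c5 c6 c7 c8 : ι → ℤ)
    (hyp : GramHyp c0 c1 c2 c3 c4 c5 c6 c7 c8) (h : St_6_0 c0 c1 c2 c3 c4 c5) : Final c0 c1 c2 c3 c4 c5 c6 c7 c8 := by
  rcases ext_6_0 c0 c1 c2 c3 c4 c5 c6 hyp.g_0_6 hyp.g_1_6 hyp.g_2_6 hyp.g_3_6 hyp.g_4_6 hyp.g_5_6 hyp.g_6_6 hyp.pos_6 h with h1 | h1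
  · exact down_7_0 c0 c1 c2 c3 c4 c5 c6 c7 c8 hyp h1
  · exact down_7_1 c0 c1 c2 c3 c4 c5 c6 c7 c8 hyp h1

theorem down_6_1 {ι : Type*} [Fintype ι] [DecidableEq ι] (c0 c1 c2 c3 c4 c5 c6 c7 c8 : ι → ℤ)
    (hyp : GramHyp c0 c1 c2 c3 c4 c5 c6 c7 c8) (h : St_6_1 c0 c1 c2 c3 c4 c5) : Final c0 c1 c2 c3 c4 c5 c6 c7 c8 := by
  have h1 := ext_6_1 c0 c1 c2 c3 c4 c5 c6 hyp.g_0_6 hyp.g_1_6 hyp.g_2_6 hyp.g_3_6 hyp.g_4_6 hyp.g_5_6 hyp.g_6_6 hyp.pos_6 h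
  exact down_7_2 c0 c1 c2 c3 c4 c5 c6 c7 c8 hyp h1

theorem down_6_2 {ι : Type*} [Fintype ι] [DecidableEq ι] (c0 c1 c2 c3 c4 c5 c6 c7 c8 : ι → ℤ)
    (hyp : GramHyp c0 c1 c2 c3 c4 c5 c6 c7 c8) (h : St_6_2 c0 c1 c2 c3 c4 c5) : Final c0 c1 c2 c3 c4 c5 c6 c7 c8 := by
  have h1 := ext_6_2 c0 c1 c2 c3 c4 c5 c6 hyp.g_0_6 hyp.g_1_6 hyp.g_2_6 hyp.g_3_6 hyp.g_4_6 hyp.g_5_6 hyp.g_6_6 hyp.pos_6 h
  exact down_7_3 c0 c1 c2 c3 c4 c5 c6 c7 c8 hyp h1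

theorem down_6_3 {ι : Type*} [Fintype ι] [DecidableEq ι] (c0 c1 c2 c3 c4 c5 c6 c7 c8 : ι → ℤ)
    (hyp : GramHyp c0 c1 c2 c3 c4 c5 c6 c7 c8) (h : St_6_3 c0 c1 c2 c3 c4 c5) : Final c0 c1 c2 c3 c4 c5 c6 c7 c8 := by
  have h1 := ext_6_3 c0 c1 c2 c3 c4 c5 c6 hyp.g_0_6 hyp.g_1_6 hyp.g_2_6 hyp.g_3_6 hyp.g_4_6 hyp.g_5_6 hyp.g_6_6 hyp.pos_6 h
  exact down_7_4 c0 c1 c2 c3 c4 c5 c6 c7 c8 hyp h1

theorem down_6_4 {ι : Type*} [Fintype ι] [DecidableEq ι] (c0 c1 c2 c3 c4 c5 c6 c7 c8 : ι → ℤ)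
    (hyp : GramHyp c0 c1 c2 c3 c4 c5 c6 c7 c8) (h : St_6_4 c0 c1 c2 c3 c4 c5) : Final c0 c1 c2 c3 c4 c5 c6 c7 c8 := by
  exact (ext_6_4 c0 c1 c2 c3 c4 c5 c6 hyp.g_0_6 hyp.g_1_6 hyp.g_2_6 hyp.g_3_6 hyp.g_4_6 hyp.g_5_6 hyp.g_6_6 hyp.pos_6 h).elim

theorem down_6_5 {ι : Type*} [Fintype ι] [DecidableEq ι] (c0 c1 c2 c3 c4 c5 c6 c7 c8 : ι → ℤ)
    (hyp : GramHyp c0 c1 c2 c3 c4 c5 c6 c7 c8) (h : St_6_5 c0 c1 c2 c3 c4 c5) : Final c0 c1 c2 c3 c4 c5 c6 c7 c8 := by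
  have h1 := ext_6_5 c0 c1 c2 c3 c4 c5 c6 hyp.g_0_6 hyp.g_1_6 hyp.g_2_6 hyp.g_3_6 hyp.g_4_6 hyp.g_5_6 hyp.g_6_6 hyp.pos_6 h
  exact down_7_5 c0 c1 c2 c3 c4 c5 c6 c7 c8 hyp h1

theorem down_5_0 {ι : Type*} [Fintype ι] [DecidableEq ι] (c0 c1 c2 c3 c4 c5 c6 c7 c8 : ι → ℤ)
    (hyp : GramHyp c0 c1 c2 c3 c4 c5 c6 c7 c8) (h : St_5_0 c0 c1 c2 c3 c4) : Final c0 c1 c2 c3 c4 c5 c6 c7 c8 := by
  rcases ext_5_0 c0 c1 c2 c3 c4 c5 hyp.g_0_5 hyp.g_1_5 hyp.g_2_5 hyp.g_3_5 hyp.g_4_5 hyp.g_5_5 hyp.pos_5 h with h1 | h1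
  · exact down_6_0 c0 c1 c2 c3 c4 c5 c6 c7 c8 hyp h1
  · exact down_6_1 c0 c1 c2 c3 c4 c5 c6 c7 c8 hyp h1

theorem down_5_1 {ι : Type*} [Fintype ι] [DecidableEq ι] (c0 c1 c2 c3 c4 c5 c6 c7 c8 : ι → ℤ)
    (hyp : GramHyp c0 c1 c2 c3 c4 c5 c6 c7 c8) (h : St_5_1 c0 c1 c2 c3 c4) : Final c0 c1 c2 c3 c4 c5 c6 c7 c8 := by
  rcases ext_5_1 c0 c1 c2 c3 c4 c5 hyp.g_0_5 hyp.g_1_5 hyp.g_2_5 hyp.g_3_5 hyp.g_4_5 hyp.g_5_5 hyp.pos_5 h with h1 | h1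
  · exact down_6_2 c0 c1 c2 c3 c4 c5 c6 c7 c8 hyp h1
  · exact down_6_3 c0 c1 c2 c3 c4 c5 c6 c7 c8 hyp h1

theorem down_5_2 {ι : Type*} [Fintype ι] [DecidableEq ι] (c0 c1 c2 c3 c4 c5 c6 c7 c8 : ι → ℤ)
    (hyp : GramHyp c0 c1 c2 c3 c4 c5 c6 c7 c8) (h : St_5_2 c0 c1 c2 c3 c4) : Final c0 c1 c2 c3 c4 c5 c6 c7 c8 := by
  exact (ext_5_2 c0 c1 c2 c3 c4 c5 hyp.g_0_5 hyp.g_1_5 hyp.g_2_5 hyp.g_3_5 hyp.g_4_5 hyp.g_5_5 hyp.pos_5 h).elim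

theorem down_5_3 {ι : Type*} [Fintype ι] [DecidableEq ι] (c0 c1 c2 c3 c4 c5 c6 c7 c8 : ι → ℤ)
    (hyp : GramHyp c0 c1 c2 c3 c4 c5 c6 c7 c8) (h : St_5_3 c0 c1 c2 c3 c4) : Final c0 c1 c2 c3 c4 c5 c6 c7 c8 := by
  have h1 := ext_5_3 c0 c1 c2 c3 c4 c5 hyp.g_0_5 hyp.g_1_5 hyp.g_2_5 hyp.g_3_5 hyp.g_4_5 hyp.g_5_5 hyp.pos_5 h
  exact down_6_4 c0 c1 c2 c3 c4 c5 c6 c7 c8 hyp h1

theorem down_5_4 {ι : Type*} [Fintype ι] [DecidableEq ι] (c0 c1 c2 c3 c4 c5 c6 c7 c8 : ι → ℤ)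
    (hyp : GramHyp c0 c1 c2 c3 c4 c5 c6 c7 c8) (h : St_5_4 c0 c1 c2 c3 c4) : Final c0 c1 c2 c3 c4 c5 c6 c7 c8 := by
  have h1 := ext_5_4 c0 c1 c2 c3 c4 c5 hyp.g_0_5 hyp.g_1_5 hyp.g_2_5 hyp.g_3_5 hyp.g_4_5 hyp.g_5_5 hyp.pos_5 h
  exact down_6_5 c0 c1 c2 c3 c4 c5 c6 c7 c8 hyp h1

theorem down_4_0 {ι : Type*} [Fintype ι] [DecidableEq ι] (c0 c1 c2 c3 c4 c5 c6 c7 c8 : ι → ℤ)
    (hyp : GramHyp c0 c1 c2 c3 c4 c5 c6 c7 c8) (h : St_4_0 c0 c1 c2 c3) : Final c0 c1 c2 c3 c4 c5 c6 c7 c8 := by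
  rcases ext_4_0 c0 c1 c2 c3 c4 hyp.g_0_4 hyp.g_1_4 hyp.g_2_4 hyp.g_3_4 hyp.g_4_4 hyp.pos_4 h with h1 | h1
  · exact down_5_0 c0 c1 c2 c3 c4 c5 c6 c7 c8 hyp h1
  · exact down_5_1 c0 c1 c2 c3 c4 c5 c6 c7 c8 hyp h1

theorem down_4_1 {ι : Type*} [Fintype ι] [DecidableEq ι] (c0 c1 c2 c3 c4 c5 c6 c7 c8 : ι → ℤ)
    (hyp : GramHyp c0 c1 c2 c3 c4 c5 c6 c7 c8) (h : St_4_1 c0 c1 c2 c3) : Final c0 c1 c2 c3 c4 c5 c6 c7 c8 := by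
  rcases ext_4_1 c0 c1 c2 c3 c4 hyp.g_0_4 hyp.g_1_4 hyp.g_2_4 hyp.g_3_4 hyp.g_4_4 hyp.pos_4 h with h1 | h1
  · exact down_5_2 c0 c1 c2 c3 c4 c5 c6 c7 c8 hyp h1
  · exact down_5_3 c0 c1 c2 c3 c4 c5 c6 c7 c8 hyp h1

theorem down_4_2 {ι : Type*} [Fintype ι] [DecidableEq ι] (c0 c1 c2 c3 c4 c5 c6 c7 c8 : ι → ℤ)
    (hyp : GramHyp c0 c1 c2 c3 c4 c5 c6 c7 c8) (h : St_4_2 c0 c1 c2 c3) : Final c0 c1 c2 c3 c4 c5 c6 c7 c8 := by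
  have h1 := ext_4_2 c0 c1 c2 c3 c4 hyp.g_0_4 hyp.g_1_4 hyp.g_2_4 hyp.g_3_4 hyp.g_4_4 hyp.pos_4 h
  exact down_5_4 c0 c1 c2 c3 c4 c5 c6 c7 c8 hyp h1

theorem down_3_0 {ι : Type*} [Fintype ι] [DecidableEq ι] (c0 c1 c2 c3 c4 c5 c6 c7 c8 : ι → ℤ)
    (hyp : GramHyp c0 c1 c2 c3 c4 c5 c6 c7 c8) (h : St_3_0 c0 c1 c2) : Final c0 c1 c2 c3 c4 c5 c6 c7 c8 := by
  rcases ext_3_0 c0 c1 c2 c3 hyp.g_0_3 hyp.g_1_3 hyp.g_2_3 hyp.g_3_3 hyp.pos_3 h with h1 | h1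
  · exact down_4_0 c0 c1 c2 c3 c4 c5 c6 c7 c8 hyp h1
  · exact down_4_1 c0 c1 c2 c3 c4 c5 c6 c7 c8 hyp h1

theorem down_3_1 {ι : Type*} [Fintype ι] [DecidableEq ι] (c0 c1 c2 c3 c4 c5 c6 c7 c8 : ι → ℤ)
    (hyp : GramHyp c0 c1 c2 c3 c4 c5 c6 c7 c8) (h : St_3_1 c0 c1 c2) : Final c0 c1 c2 c3 c4 c5 c6 c7 c8 := by
  have h1 := ext_3_1 c0 c1 c2 c3 hyp.g_0_3 hyp.g_1_3 hyp.g_2_3 hyp.g_3_3 hyp.pos_3 h
  exact down_4_2 c0 c1 c2 c3 c4 c5 c6 c7 c8 hyp h1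

theorem down_2_0 {ι : Type*} [Fintype ι] [DecidableEq ι] (c0 c1 c2 c3 c4 c5 c6 c7 c8 : ι → ℤ)
    (hyp : GramHyp c0 c1 c2 c3 c4 c5 c6 c7 c8) (h : St_2_0 c0 c1) : Final c0 c1 c2 c3 c4 c5 c6 c7 c8 := by
  rcases ext_2_0 c0 c1 c2 hyp.g_0_2 hyp.g_1_2 hyp.g_2_2 hyp.pos_2 h with h1 | h1
  · exact down_3_0 c0 c1 c2 c3 c4 c5 c6 c7 c8 hyp h1
  · exact down_3_1 c0 c1 c2 c3 c4 c5 c6 c7 c8 hyp h1

theorem down_1_0 {ι : Type*} [Fintype ι] [DecidableEq ι] (c0 c1 c2 c3 c4 c5 c6 c7 c8 : ι → ℤ)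
    (hyp : GramHyp c0 c1 c2 c3 c4 c5 c6 c7 c8) (h : St_1_0 c0) : Final c0 c1 c2 c3 c4 c5 c6 c7 c8 := by
  have h1 := ext_1_0 c0 c1 hyp.g_0_1 hyp.g_1_1 hyp.pos_1 h
  exact down_2_0 c0 c1 c2 c3 c4 c5 c6 c7 c8 hyp h1

theorem down_0_0 {ι : Type*} [Fintype ι] [DecidableEq ι] (c0 c1 c2 c3 c4 c5 c6 c7 c8 : ι → ℤ)
    (hyp : GramHyp c0 c1 c2 c3 c4 c5 c6 c7 c8)  : Final c0 c1 c2 c3 c4 c5 c6 c7 c8 := by
  have h1 := ext_0_0 c0 hyp.g_0_0 hyp.pos_0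
  exact down_1_0 c0 c1 c2 c3 c4 c5 c6 c7 c8 hyp h1

/-- **SHAPE**: the nine columns realise one of the four complete shapes -/
theorem shape_main {ι : Type*} [Fintype ι] [DecidableEq ι] (c0 c1 c2 c3 c4 c5 c6 c7 c8 : ι → ℤ)
    (hyp : GramHyp c0 c1 c2 c3 c4 c5 c6 c7 c8) : Final c0 c1 c2 c3 c4 c5 c6 c7 c8 :=
  down_0_0 c0 c1 c2 c3 c4 c5 c6 c7 c8 hyp

end Cfsg.Agent.Lib.Helper76_H648ShapeB
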