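import Mathlib
import Cfsg.Agent.Lib.Helper76_ShapeLib
import Cfsg.Agent.Lib.Helper76_H648Defs
import Cfsg.Agent.Lib.Helper76_H648ShapeA
import Cfsg.Agent.Lib.Helper76_H648ShapeB

/-!
# S3702: the four complete shapes (helper76; the `fin_x` lemmas are MACHINE-GENERATED)

`fin_2`, `fin_3`: three degree equations give `3 F = 0`.  `fin_0`: a combination of the cubic equations gives `54 g / F = 0`.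
`fin_1` (the shape of `H`): the relations `R1`, `R4` and the arithmetic `end_H` give `g = 648`.
-/

set_option autoImplicit false
set_option maxHeartbeats 1000000
set_option linter.unusedVariables false
set_option linter.unusedSimpArgs false

namespace Cfsg.Agent.Lib.Helper76_H648Fin

open Cfsg.Agent.Lib.Helper76_H648Defs Cfsg.Agent.Lib.Helper76_H648ShapeA Cfsg.Agent.Lib.Helper76_H648ShapeB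

theorem sum_split' {ι : Type*} [Fintype ι] [DecidableEq ι] {M : Type*} [AddCommMonoid M] (L : List ι)
    (hL : L.Nodup) (f : ι → M) :
    ∑ i, f i = (L.map f).sum + ∑ i ∈ (Finset.univ \ L.toFinset), f i := by
  rw [← List.sum_toFinset f hL, add_comm]
  exact (Finset.sum_sdiff (Finset.subset_univ _)).symm

section
variable {ι : Type*}

/-- the value at the class `A` from the nine columns -/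
def fA (c0 c1 c2 c3 c4 c5 c6 c7 c8 : ι → ℤ) (i : ι) : ℤ :=
  3 * c0 i - 6 * c1 i - 4 * c2 i - 8 * c3 i + 3 * c4 i - 4 * c5 i + 3 * c8 i
/-- the value at the class `B` -/
def fB (c0 c1 c2 c3 c4 c5 c6 c7 c8 : ι → ℤ) (i : ι) : ℤ := 2 * c2 i - 2 * c3 i + 2 * c5 i - 3 * c6 i - 3 * c7 i
/-- the value at the class `D` -/
def fD (c0 c1 c2 c3 c4 c5 c6 c7 c8 : ι → ℤ) (i : ι) : ℤ :=
  -3 * c0 i - 3 * c1 i - c2 i + 4 * c3 i - 3 * c4 i - c5 i + 3 * c6 i + 3 * c7 i - 3 * c8 i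
/-- one term of a cubic equation -/
def mon (e1 e2 e3 : ℕ) (c0 c1 c2 c3 c4 c5 c6 c7 c8 F : ι → ℤ) (i : ι) : ℚ :=
  ((fA c0 c1 c2 c3 c4 c5 c6 c7 c8 i : ℚ) ^ e1 * (fB c0 c1 c2 c3 c4 c5 c6 c7 c8 i : ℚ) ^ e2 * (fD c0 c1 c2 c3 c4 c5 c6 c7 c8 i : ℚ) ^ e3) / (F i : ℚ)
end

theorem fin_2 {ι : Type*} [Fintype ι] [DecidableEq ι] (c0 c1 c2 c3 c4 c5 c6 c7 c8 F : ι → ℤ) (hF : ∀ i, F i ≠ 0)
    (hdeg0 : ∑ i, c0 i * F i = 0) (hdeg1 : ∑ i, c1 i * F i = 0) (hdeg8 : ∑ i, c8 i * F i = 0)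
    (h : St_9_2 c0 c1 c2 c3 c4 c5 c6 c7 c8) : False := by
  obtain ⟨i0, i1, i2, i3, i4, i5, i6, i7, i8, i9, i10, i11, ⟨d_0_1, d_0_2, d_0_3, d_0_4, d_0_5, d_0_6, d_0_7, d_0_8, d_0_9, d_0_10, d_0_11, d_1_2, d_1_3, d_1_4, d_1_5, d_1_6, d_1_7, d_1_8, d_1_9, d_1_10, d_1_11, d_2_3, d_2_4, d_2_5, d_2_6, d_2_7, d_2_8, d_2_9, d_2_10, d_2_11, d_3_4, d_3_5, d_3_6, d_3_7, d_3_8, d_3_9, d_3_10, d_3_11, d_4_5, d_4_6, d_4_7, d_4_8, d_4_9, d_4_10, d_4_11, d_5_6, d_5_7, d_5_8, d_5_9, d_5_10, d_5_11, d_6_7, d_6_8, d_6_9, d_6_10, d_6_11, d_7_8, d_7_9, d_7_10, d_7_11, d_8_9, d_8_10, d_8_11, d_9_10, d_9_11, d_10_11⟩, ⟨v_0_0, v_0_1, v_0_2, v_0_3, v_0_4, v_0_5, v_0_6, v_0_7, v_0_8, v_1_0, v_1_1, v_1_2, v_1_3, v_1_4, v_1_5, v_1_6, v_1_7, v_1_8, v_2_0, v_2_1, v_2_2, v_2_3, v_2_4, v_2_5, v_2_6,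 v_2_7, v_2_8, v_3_0, v_3_1, v_3_2, v_3_3, v_3_4, v_3_5, v_3_6, v_3_7, v_3_8, v_4_0, v_4_1, v_4_2, v_4_3, v_4_4, v_4_5, v_4_6, v_4_7, v_4_8, v_5_0, v_5_1, v_5_2, v_5_3, v_5_4, v_5_5, v_5_6, v_5_7, v_5_8, v_6_0, v_6_1, v_6_2, v_6_3, v_6_4, v_6_5, v_6_6, v_6_7, v_6_8, v_7_0, v_7_1, v_7_2, v_7_3, v_7_4, v_7_5, v_7_6, v_7_7, v_7_8, v_8_0, v_8_1, v_8_2, v_8_3, v_8_4, v_8_5, v_8_6, v_8_7, v_8_8, v_9_0, v_9_1, v_9_2, v_9_3, v_9_4, v_9_5, v_9_6, v_9_7, v_9_8, v_10_0, v_10_1, v_10_2, v_10_3, v_10_4, v_10_5, v_10_6, v_10_7, v_10_8, v_11_0, v_11_1, v_11_2, v_11_3, v_11_4, v_11_5, v_11_6, v_11_7, v_11_8⟩, hz⟩ := h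
  have hnd : ([i0, i1, i2, i3, i4, i5, i6, i7, i8, i9, i10, i11] : List ι).Nodup := by
    simp only [List.nodup_cons, List.mem_cons, List.not_mem_nil, or_false, not_or, List.nodup_nil, and_true, not_false_eq_true]
    exact ⟨⟨d_0_1, d_0_2, d_0_3, d_0_4, d_0_5, d_0_6, d_0_7, d_0_8, d_0_9, d_0_10, d_0_11⟩, ⟨d_1_2, d_1_3, d_1_4, d_1_5, d_1_6, d_1_7, d_1_8, d_1_9, d_1_10, d_1_11⟩, ⟨d_2_3, d_2_4, d_2_5, d_2_6, d_2_7, d_2_8, d_2_9, d_2_10, d_2_11⟩, ⟨d_3_4, d_3_5, d_3_6, d_3_7, d_3_8, d_3_9, d_3_10, d_3_11⟩, ⟨d_4_5, d_4_6, d_4_7, d_4_8, d_4_9, d_4_10, d_4_11⟩, ⟨d_5_6, d_5_7, d_5_8, d_5_9, d_5_10, d_5_11⟩, ⟨d_6_7, d_6_8, d_6_9, d_6_10, d_6_11⟩, ⟨d_7_8, d_7_9, d_7_10, d_7_11⟩, ⟨d_8_9, d_8_10, d_8_11⟩, ⟨d_9_10, d_9_11⟩, d_10_11⟩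
  set S : Finset ι := Finset.univ \ ([i0, i1, i2, i3, i4, i5, i6, i7, i8, i9, i10, i11] : List ι).toFinset with hS
  have hmem : ∀ i, i ∈ S ↔ (i ≠ i0 ∧ i ≠ i1 ∧ i ≠ i2 ∧ i ≠ i3 ∧ i ≠ i4 ∧ i ≠ i5 ∧ i ≠ i6 ∧ i ≠ i7 ∧ i ≠ i8 ∧ i ≠ i9 ∧ i ≠ i10 ∧ i ≠ i11) := by
    intro i
    simp only [hS, Finset.mem_sdiff, Finset.mem_univ, true_and, List.mem_toFinset, List.mem_cons, List.not_mem_nil, or_false, not_or, ne_eq]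
  have hz' : ∀ i ∈ S, (c0 i = 0 ∧ c1 i = 0 ∧ c2 i = 0 ∧ c3 i = 0 ∧ c4 i = 0 ∧ c5 i = 0 ∧ c6 i = 0 ∧ c7 i = 0 ∧ c8 i = 0) := by
    intro i hi
    obtain ⟨n0, n1, n2, n3, n4, n5, n6, n7, n8, n9, n10, n11⟩ := (hmem i).1 hi
    exact hz i n0 n1 n2 n3 n4 n5 n6 n7 n8 n9 n10 n11
  have dg0 : (0 : ℤ) = (1) * F i0 + (1) * F i1 + (0) * F i2 + (0) * F i3 + (0) * F i4 + (0) * F i5 + (0) * F i6 + (0) * F i7 + (0) * F i8 + (0) * F i9 + (0) * F i10 + (0) * F i11 := by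
    have h1 := Cfsg.Agent.Lib.Helper76_ShapeLib.sum_split [i0, i1, i2, i3, i4, i5, i6, i7, i8, i9, i10, i11] hnd (fun i => c0 i * F i)
    have h2 : ∑ i ∈ S, c0 i * F i = 0 := Finset.sum_eq_zero fun i hi => by
      rw [(hz' i hi).1, zero_mul]
    rw [hdeg0, h2] at h1
    simp only [List.map_cons, List.map_nil, List.sum_cons, List.sum_nil, v_0_0, v_1_0, v_2_0, v_3_0, v_4_0, v_5_0, v_6_0, v_7_0, v_8_0, v_9_0, v_10_0, v_11_0] at h1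
    linarith
  have dg1 : (0 : ℤ) = (0) * F i0 + (-1) * F i1 + (1) * F i2 + (1) * F i3 + (0) * F i4 + (0) * F i5 + (0) * F i6 + (0) * F i7 + (0) * F i8 + (0) * F i9 + (0) * F i10 + (0) * F i11 := by
    have h1 := Cfsg.Agent.Lib.Helper76_ShapeLib.sum_split [i0, i1, i2, i3, i4, i5, i6, i7, i8, i9, i10, i11] hnd (fun i => c1 i * F i)
    have h2 : ∑ i ∈ S, c1 i * F i = 0 := Finset.sum_eq_zero fun i hi => by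
      rw [(hz' i hi).2.1, zero_mul]
    rw [hdeg1, h2] at h1
    simp only [List.map_cons, List.map_nil, List.sum_cons, List.sum_nil, v_0_1, v_1_1, v_2_1, v_3_1, v_4_1, v_5_1, v_6_1, v_7_1, v_8_1, v_9_1, v_10_1, v_11_1] at h1
    linarith
  have dg8 : (0 : ℤ) = (-1) * F i0 + (1) * F i1 + (1) * F i2 + (1) * F i3 + (0) * F i4 + (0) * F i5 + (0) * F i6 + (0) * F i7 + (0) * F i8 + (0) * F i9 + (0) * F i10 + (0) * F i11 := by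
    have h1 := Cfsg.Agent.Lib.Helper76_ShapeLib.sum_split [i0, i1, i2, i3, i4, i5, i6, i7, i8, i9, i10, i11] hnd (fun i => c8 i * F i)
    have h2 : ∑ i ∈ S, c8 i * F i = 0 := Finset.sum_eq_zero fun i hi => by
      rw [(hz' i hi).2.2.2.2.2.2.2.2, zero_mul]
    rw [hdeg8, h2] at h1
    simp only [List.map_cons, List.map_nil, List.sum_cons, List.sum_nil, v_0_8, v_1_8, v_2_8, v_3_8, v_4_8, v_5_8, v_6_8, v_7_8, v_8_8, v_9_8, v_10_8, v_11_8] at h1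
    linarith
  have := hF i0
  omega

theorem fin_3 {ι : Type*} [Fintype ι] [DecidableEq ι] (c0 c1 c2 c3 c4 c5 c6 c7 c8 F : ι → ℤ) (hF : ∀ i, F i ≠ 0)
    (hdeg0 : ∑ i, c0 i * F i = 0) (hdeg1 : ∑ i, c1 i * F i = 0) (hdeg8 : ∑ i, c8 i * F i = 0)
    (h : St_9_3 c0 c1 c2 c3 c4 c5 c6 c7 c8) : False := by
  obtain ⟨i0, i1, i2, i3, i4, i5, i6, i7, i8, i9, i10, ⟨d_0_1, d_0_2, d_0_3, d_0_4, d_0_5, d_0_6, d_0_7, d_0_8, d_0_9, d_0_10, d_1_2, d_1_3, d_1_4, d_1_5, d_1_6, d_1_7, d_1_8, d_1_9, d_1_10, d_2_3, d_2_4, d_2_5, d_2_6, d_2_7, d_2_8, d_2_9, d_2_10, d_3_4, d_3_5, d_3_6, d_3_7, d_3_8, d_3_9, d_3_10, d_4_5, d_4_6, d_4_7, d_4_8, d_4_9, d_4_10, d_5_6, d_5_7, d_5_8, d_5_9, d_5_10, d_6_7, d_6_8, d_6_9, d_6_10, d_7_8, d_7_9, d_7_10, d_8_9, d_8_10, d_9_10⟩, ⟨v_0_0, v_0_1, v_0_2,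 v_0_3, v_0_4, v_0_5, v_0_6, v_0_7, v_0_8, v_1_0, v_1_1, v_1_2, v_1_3, v_1_4, v_1_5, v_1_6, v_1_7, v_1_8, v_2_0, v_2_1, v_2_2, v_2_3, v_2_4, v_2_5, v_2_6, v_2_7, v_2_8, v_3_0, v_3_1, v_3_2, v_3_3, v_3_4, v_3_5, v_3_6, v_3_7, v_3_8, v_4_0, v_4_1, v_4_2, v_4_3, v_4_4, v_4_5, v_4_6, v_4_7, v_4_8, v_5_0, v_5_1, v_5_2, v_5_3, v_5_4, v_5_5, v_5_6, v_5_7, v_5_8, v_6_0, v_6_1, v_6_2, v_6_3, v_6_4, v_6_5, v_6_6, v_6_7, v_6_8, v_7_0, v_7_1, v_7_2, v_7_3, v_7_4, v_7_5, v_7_6, v_7_7, v_7_8, v_8_0, v_8_1, v_8_2, v_8_3, v_8_4, v_8_5, v_8_6, v_8_7, v_8_8, v_9_0, v_9_1, v_9_2, v_9_3, v_9_4, v_9_5, v_9_6, v_9_7, v_9_8, v_10_0, v_10_1, v_10_2, v_10_3, v_10_4, v_10_5, v_10_6, v_10_7, v_10_8⟩, hz⟩ := h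
  have hnd : ([i0, i1, i2, i3, i4, i5, i6, i7, i8, i9, i10] : List ι).Nodup := by
    simp only [List.nodup_cons, List.mem_cons, List.not_mem_nil, or_false, not_or, List.nodup_nil, and_true, not_false_eq_true]
    exact ⟨⟨d_0_1, d_0_2, d_0_3, d_0_4, d_0_5, d_0_6, d_0_7, d_0_8, d_0_9, d_0_10⟩, ⟨d_1_2, d_1_3, d_1_4, d_1_5, d_1_6, d_1_7, d_1_8, d_1_9, d_1_10⟩, ⟨d_2_3, d_2_4, d_2_5, d_2_6, d_2_7, d_2_8, d_2_9, d_2_10⟩, ⟨d_3_4, d_3_5, d_3_6, d_3_7, d_3_8, d_3_9, d_3_10⟩, ⟨d_4_5, d_4_6, d_4_7, d_4_8, d_4_9, d_4_10⟩, ⟨d_5_6, d_5_7, d_5_8, d_5_9, d_5_10⟩, ⟨d_6_7, d_6_8, d_6_9, d_6_10⟩, ⟨d_7_8, d_7_9, d_7_10⟩, ⟨d_8_9, d_8_10⟩, d_9_10⟩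
  set S : Finset ι := Finset.univ \ ([i0, i1, i2, i3, i4, i5, i6, i7, i8, i9, i10] : List ι).toFinset with hS
  have hmem : ∀ i, i ∈ S ↔ (i ≠ i0 ∧ i ≠ i1 ∧ i ≠ i2 ∧ i ≠ i3 ∧ i ≠ i4 ∧ i ≠ i5 ∧ i ≠ i6 ∧ i ≠ i7 ∧ i ≠ i8 ∧ i ≠ i9 ∧ i ≠ i10) := by
    intro i
    simp only [hS, Finset.mem_sdiff, Finset.mem_univ, true_and, List.mem_toFinset, List.mem_cons, List.not_mem_nil, or_false, not_or, ne_eq]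
  have hz' : ∀ i ∈ S, (c0 i = 0 ∧ c1 i = 0 ∧ c2 i = 0 ∧ c3 i = 0 ∧ c4 i = 0 ∧ c5 i = 0 ∧ c6 i = 0 ∧ c7 i = 0 ∧ c8 i = 0) := by
    intro i hi
    obtain ⟨n0, n1, n2, n3, n4, n5, n6, n7, n8, n9, n10⟩ := (hmem i).1 hi
    exact hz i n0 n1 n2 n3 n4 n5 n6 n7 n8 n9 n10
  have dg0 : (0 : ℤ) = (1) * F i0 + (1) * F i1 + (0) * F i2 + (0) * F i3 + (0) * F i4 + (0) * F i5 + (0) * F i6 + (0) * F i7 + (0) * F i8 + (0) * F i9 + (0) * F i10 := by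
    have h1 := Cfsg.Agent.Lib.Helper76_ShapeLib.sum_split [i0, i1, i2, i3, i4, i5, i6, i7, i8, i9, i10] hnd (fun i => c0 i * F i)
    have h2 : ∑ i ∈ S, c0 i * F i = 0 := Finset.sum_eq_zero fun i hi => by
      rw [(hz' i hi).1, zero_mul]
    rw [hdeg0, h2] at h1
    simp only [List.map_cons, List.map_nil, List.sum_cons, List.sum_nil, v_0_0, v_1_0, v_2_0, v_3_0, v_4_0, v_5_0, v_6_0, v_7_0, v_8_0, v_9_0, v_10_0] at h1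
    linarith
  have dg1 : (0 : ℤ) = (0) * F i0 + (-1) * F i1 + (1) * F i2 + (1) * F i3 + (0) * F i4 + (0) * F i5 + (0) * F i6 + (0) * F i7 + (0) * F i8 + (0) * F i9 + (0) * F i10 := by
    have h1 := Cfsg.Agent.Lib.Helper76_ShapeLib.sum_split [i0, i1, i2, i3, i4, i5, i6, i7, i8, i9, i10] hnd (fun i => c1 i * F i)
    have h2 : ∑ i ∈ S, c1 i * F i = 0 := Finset.sum_eq_zero fun i hi => by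
      rw [(hz' i hi).2.1, zero_mul]
    rw [hdeg1, h2] at h1
    simp only [List.map_cons, List.map_nil, List.sum_cons, List.sum_nil, v_0_1, v_1_1, v_2_1, v_3_1, v_4_1, v_5_1, v_6_1, v_7_1, v_8_1, v_9_1, v_10_1] at h1
    linarith
  have dg8 : (0 : ℤ) = (-1) * F i0 + (1) * F i1 + (1) * F i2 + (1) * F i3 + (0) * F i4 + (0) * F i5 + (0) * F i6 + (0) * F i7 + (0) * F i8 + (0) * F i9 + (0) * F i10 := by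
    have h1 := Cfsg.Agent.Lib.Helper76_ShapeLib.sum_split [i0, i1, i2, i3, i4, i5, i6, i7, i8, i9, i10] hnd (fun i => c8 i * F i)
    have h2 : ∑ i ∈ S, c8 i * F i = 0 := Finset.sum_eq_zero fun i hi => by
      rw [(hz' i hi).2.2.2.2.2.2.2.2, zero_mul]
    rw [hdeg8, h2] at h1
    simp only [List.map_cons, List.map_nil, List.sum_cons, List.sum_nil, v_0_8, v_1_8, v_2_8, v_3_8, v_4_8, v_5_8, v_6_8, v_7_8, v_8_8, v_9_8, v_10_8] at h1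
    linarith
  have := hF i0
  omega

theorem fin_0 {ι : Type*} [Fintype ι] [DecidableEq ι] (c0 c1 c2 c3 c4 c5 c6 c7 c8 F : ι → ℤ) (g : ℤ) (hg : g ≠ 0)
    (hF : ∀ i, F i ≠ 0)
    (heq0 : (g : ℚ) * (1 + ∑ i, mon 2 1 0 c0 c1 c2 c3 c4 c5 c6 c7 c8 F i) = 23328)
    (heq1 : (g : ℚ) * (1 + ∑ i, mon 1 2 0 c0 c1 c2 c3 c4 c5 c6 c7 c8 F i) = 11664)
    (heq2 : (g : ℚ) * (1 + ∑ i, mon 2 0 1 c0 c1 c2 c3 c4 c5 c6 c7 c8 F i) = 0)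
    (heq4 : (g : ℚ) * (1 + ∑ i, mon 1 0 2 c0 c1 c2 c3 c4 c5 c6 c7 c8 F i) = 26244)
    (heq5 : (g : ℚ) * (1 + ∑ i, mon 0 2 1 c0 c1 c2 c3 c4 c5 c6 c7 c8 F i) = 17496)
    (heq6 : (g : ℚ) * (1 + ∑ i, mon 0 1 2 c0 c1 c2 c3 c4 c5 c6 c7 c8 F i) = 13122)
    (h : St_9_0 c0 c1 c2 c3 c4 c5 c6 c7 c8) : False := by
  obtain ⟨i0, i1, i2, i3, i4, i5, i6, i7, i8, i9, i10, i11, ⟨d_0_1, d_0_2, d_0_3, d_0_4, d_0_5, d_0_6, d_0_7, d_0_8, d_0_9, d_0_10, d_0_11, d_1_2, d_1_3, d_1_4, d_1_5, d_1_6, d_1_7, d_1_8, d_1_9, d_1_10, d_1_11, d_2_3, d_2_4, d_2_5, d_2_6, d_2_7, d_2_8, d_2_9, d_2_10, d_2_11, d_3_4, d_3_5, d_3_6, d_3_7, d_3_8, d_3_9, d_3_10, d_3_11, d_4_5, d_4_6, d_4_7, d_4_8, d_4_9, d_4_10, d_4_11, d_5_6, d_5_7, d_5_8, d_5_9, d_5_10, d_5_11, d_6_7, d_6_8, d_6_9, d_6_10, d_6_11, d_7_8,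 d_7_9, d_7_10, d_7_11, d_8_9, d_8_10, d_8_11, d_9_10, d_9_11, d_10_11⟩, ⟨v_0_0, v_0_1, v_0_2, v_0_3, v_0_4, v_0_5, v_0_6, v_0_7, v_0_8, v_1_0, v_1_1, v_1_2, v_1_3, v_1_4, v_1_5, v_1_6, v_1_7, v_1_8, v_2_0, v_2_1, v_2_2, v_2_3, v_2_4, v_2_5, v_2_6, v_2_7, v_2_8, v_3_0, v_3_1, v_3_2, v_3_3, v_3_4, v_3_5, v_3_6, v_3_7, v_3_8, v_4_0, v_4_1, v_4_2, v_4_3, v_4_4, v_4_5, v_4_6, v_4_7, v_4_8, v_5_0, v_5_1, v_5_2, v_5_3, v_5_4, v_5_5, v_5_6, v_5_7, v_5_8, v_6_0, v_6_1, v_6_2, v_6_3, v_6_4, v_6_5, v_6_6, v_6_7, v_6_8, v_7_0, v_7_1, v_7_2, v_7_3, v_7_4, v_7_5, v_7_6, v_7_7, v_7_8, v_8_0, v_8_1, v_8_2, v_8_3, v_8_4, v_8_5, v_8_6, v_8_7, v_8_8, v_9_0, v_9_1, v_9_2, v_9_3, v_9_4, v_9_5, v_9_6, v_9_7, v_9_8, v_10_0, v_10_1, v_10_2, v_10_3, v_10_4, v_10_5, v_10_6, v_10_7, v_10_8, v_11_0,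 v_11_1, v_11_2, v_11_3, v_11_4, v_11_5, v_11_6, v_11_7, v_11_8⟩, hz⟩ := h
  have hnd : ([i0, i1, i2, i3, i4, i5, i6, i7, i8, i9, i10, i11] : List ι).Nodup := by
    simp only [List.nodup_cons, List.mem_cons, List.not_mem_nil, or_false, not_or, List.nodup_nil, and_true, not_false_eq_true]
    exact ⟨⟨d_0_1, d_0_2, d_0_3, d_0_4, d_0_5, d_0_6, d_0_7, d_0_8, d_0_9, d_0_10, d_0_11⟩, ⟨d_1_2, d_1_3, d_1_4, d_1_5, d_1_6, d_1_7, d_1_8, d_1_9, d_1_10, d_1_11⟩, ⟨d_2_3, d_2_4, d_2_5, d_2_6, d_2_7, d_2_8, d_2_9, d_2_10, d_2_11⟩, ⟨d_3_4, d_3_5, d_3_6, d_3_7, d_3_8, d_3_9, d_3_10, d_3_11⟩, ⟨d_4_5, d_4_6, d_4_7, d_4_8, d_4_9, d_4_10, d_4_11⟩, ⟨d_5_6, d_5_7, d_5_8, d_5_9, d_5_10, d_5_11⟩, ⟨d_6_7, d_6_8, d_6_9, d_6_10, d_6_11⟩, ⟨d_7_8, d_7_9, d_7_10, d_7_11⟩, ⟨d_8_9, d_8_10, d_8_11⟩,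 ⟨d_9_10, d_9_11⟩, d_10_11⟩
  set S : Finset ι := Finset.univ \ ([i0, i1, i2, i3, i4, i5, i6, i7, i8, i9, i10, i11] : List ι).toFinset with hS
  have hmem : ∀ i, i ∈ S ↔ (i ≠ i0 ∧ i ≠ i1 ∧ i ≠ i2 ∧ i ≠ i3 ∧ i ≠ i4 ∧ i ≠ i5 ∧ i ≠ i6 ∧ i ≠ i7 ∧ i ≠ i8 ∧ i ≠ i9 ∧ i ≠ i10 ∧ i ≠ i11) := by
    intro i
    simp only [hS, Finset.mem_sdiff, Finset.mem_univ, true_and, List.mem_toFinset, List.mem_cons, List.not_mem_nil, or_false, not_or, ne_eq]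
  have hz' : ∀ i ∈ S, (c0 i = 0 ∧ c1 i = 0 ∧ c2 i = 0 ∧ c3 i = 0 ∧ c4 i = 0 ∧ c5 i = 0 ∧ c6 i = 0 ∧ c7 i = 0 ∧ c8 i = 0) := by
    intro i hi
    obtain ⟨n0, n1, n2, n3, n4, n5, n6, n7, n8, n9, n10, n11⟩ := (hmem i).1 hi
    exact hz i n0 n1 n2 n3 n4 n5 n6 n7 n8 n9 n10 n11
  have q0 : (g : ℚ) * (1 + ((0 : ℚ) / (F i0 : ℚ) + (0 : ℚ) / (F i1 : ℚ) + (-27 : ℚ) / (F i2 : ℚ) + (-27 : ℚ) / (F i3 : ℚ) + (32 : ℚ) / (F i4 : ℚ) + (-32 : ℚ) / (F i5 : ℚ) + (-8 : ℚ) / (F i6 : ℚ) + (0 : ℚ) / (F i7 : ℚ) + (-16 : ℚ) / (F i8 : ℚ) + (2 : ℚ) / (F i9 : ℚ) + (-27 : ℚ) / (F i10 : ℚ) + (0 : ℚ) / (F i11 : ℚ))) = 23328 := by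
    have h1 := sum_split' [i0, i1, i2, i3, i4, i5, i6, i7, i8, i9, i10, i11] hnd (fun i => mon 2 1 0 c0 c1 c2 c3 c4 c5 c6 c7 c8 F i)
    have h2 : ∑ i ∈ S, mon 2 1 0 c0 c1 c2 c3 c4 c5 c6 c7 c8 F i = 0 := Finset.sum_eq_zero fun i hi => by
      obtain ⟨z0, z1, z2, z3, z4, z5, z6, z7, z8⟩ := hz' i hi
      simp only [mon, fA, fB, fD, z0, z1, z2, z3, z4, z5, z6, z7, z8]
      norm_num
    rw [h2, add_zero] at h1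
    rw [h1] at heq0
    simp only [List.map_cons, List.map_nil, List.sum_cons, List.sum_nil, mon, fA, fB, fD, v_0_0, v_0_1, v_0_2, v_0_3, v_0_4, v_0_5, v_0_6, v_0_7, v_0_8, v_1_0, v_1_1, v_1_2, v_1_3, v_1_4, v_1_5, v_1_6, v_1_7, v_1_8, v_2_0, v_2_1, v_2_2, v_2_3, v_2_4, v_2_5, v_2_6, v_2_7, v_2_8, v_3_0, v_3_1, v_3_2, v_3_3, v_3_4, v_3_5, v_3_6, v_3_7, v_3_8, v_4_0, v_4_1, v_4_2, v_4_3, v_4_4, v_4_5, v_4_6, v_4_7, v_4_8, v_5_0, v_5_1, v_5_2, v_5_3, v_5_4, v_5_5, v_5_6, v_5_7, v_5_8, v_6_0, v_6_1, v_6_2, v_6_3, v_6_4, v_6_5, v_6_6, v_6_7, v_6_8, v_7_0, v_7_1, v_7_2, v_7_3, v_7_4, v_7_5, v_7_6, v_7_7, v_7_8, v_8_0, v_8_1, v_8_2, v_8_3, v_8_4, v_8_5, v_8_6, v_8_7, v_8_8, v_9_0, v_9_1, v_9_2, v_9_3, v_9_4, v_9_5, v_9_6, v_9_7, v_9_8, v_10_0, v_10_1, v_10_2, v_10_3, v_10_4,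 v_10_5, v_10_6, v_10_7, v_10_8, v_11_0, v_11_1, v_11_2, v_11_3, v_11_4, v_11_5, v_11_6, v_11_7, v_11_8] at heq0
    push_cast at heq0
    linear_combination heq0
  have q1 : (g : ℚ) * (1 + ((0 : ℚ) / (F i0 : ℚ) + (0 : ℚ) / (F i1 : ℚ) + (-27 : ℚ) / (F i2 : ℚ) + (-27 : ℚ) / (F i3 : ℚ) + (-16 : ℚ) / (F i4 : ℚ) + (16 : ℚ) / (F i5 : ℚ) + (-8 : ℚ) / (F i6 : ℚ) + (0 : ℚ) / (F i7 : ℚ) + (-4 : ℚ) / (F i8 : ℚ) + (-4 : ℚ) / (F i9 : ℚ) + (27 : ℚ) / (F i10 : ℚ) + (0 : ℚ) / (F i11 : ℚ))) = 11664 := by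
    have h1 := sum_split' [i0, i1, i2, i3, i4, i5, i6, i7, i8, i9, i10, i11] hnd (fun i => mon 1 2 0 c0 c1 c2 c3 c4 c5 c6 c7 c8 F i)
    have h2 : ∑ i ∈ S, mon 1 2 0 c0 c1 c2 c3 c4 c5 c6 c7 c8 F i = 0 := Finset.sum_eq_zero fun i hi => by
      obtain ⟨z0, z1, z2, z3, z4, z5, z6, z7, z8⟩ := hz' i hi
      simp only [mon, fA, fB, fD, z0, z1, z2, z3, z4, z5, z6, z7, z8]
      norm_num
    rw [h2, add_zero] at h1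
    rw [h1] at heq1
    simp only [List.map_cons, List.map_nil, List.sum_cons, List.sum_nil, mon, fA, fB, fD, v_0_0, v_0_1, v_0_2, v_0_3, v_0_4, v_0_5, v_0_6, v_0_7, v_0_8, v_1_0, v_1_1, v_1_2, v_1_3, v_1_4, v_1_5, v_1_6, v_1_7, v_1_8, v_2_0, v_2_1, v_2_2, v_2_3, v_2_4, v_2_5, v_2_6, v_2_7, v_2_8, v_3_0, v_3_1, v_3_2, v_3_3, v_3_4, v_3_5, v_3_6, v_3_7, v_3_8, v_4_0, v_4_1, v_4_2, v_4_3, v_4_4, v_4_5, v_4_6, v_4_7, v_4_8, v_5_0, v_5_1, v_5_2, v_5_3, v_5_4, v_5_5, v_5_6, v_5_7, v_5_8, v_6_0, v_6_1, v_6_2, v_6_3, v_6_4, v_6_5, v_6_6, v_6_7, v_6_8, v_7_0, v_7_1, v_7_2, v_7_3, v_7_4, v_7_5, v_7_6, v_7_7, v_7_8, v_8_0, v_8_1, v_8_2, v_8_3, v_8_4, v_8_5, v_8_6, v_8_7, v_8_8, v_9_0, v_9_1, v_9_2, v_9_3, v_9_4, v_9_5, v_9_6, v_9_7, v_9_8, v_10_0, v_10_1, v_10_2, v_10_3, v_10_4,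 v_10_5, v_10_6, v_10_7, v_10_8, v_11_0, v_11_1, v_11_2, v_11_3, v_11_4, v_11_5, v_11_6, v_11_7, v_11_8] at heq1
    push_cast at heq1
    linear_combination heq1
  have q2 : (g : ℚ) * (1 + ((-27 : ℚ) / (F i0 : ℚ) + (27 : ℚ) / (F i1 : ℚ) + (-27 : ℚ) / (F i2 : ℚ) + (-27 : ℚ) / (F i3 : ℚ) + (-16 : ℚ) / (F i4 : ℚ) + (16 : ℚ) / (F i5 : ℚ) + (-8 : ℚ) / (F i6 : ℚ) + (-27 : ℚ) / (F i7 : ℚ) + (32 : ℚ) / (F i8 : ℚ) + (-4 : ℚ) / (F i9 : ℚ) + (0 : ℚ) / (F i10 : ℚ) + (0 : ℚ) / (F i11 : ℚ))) = 0 := by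
    have h1 := sum_split' [i0, i1, i2, i3, i4, i5, i6, i7, i8, i9, i10, i11] hnd (fun i => mon 2 0 1 c0 c1 c2 c3 c4 c5 c6 c7 c8 F i)
    have h2 : ∑ i ∈ S, mon 2 0 1 c0 c1 c2 c3 c4 c5 c6 c7 c8 F i = 0 := Finset.sum_eq_zero fun i hi => by
      obtain ⟨z0, z1, z2, z3, z4, z5, z6, z7, z8⟩ := hz' i hi
      simp only [mon, fA, fB, fD, z0, z1, z2, z3, z4, z5, z6, z7, z8]
      norm_num
    rw [h2, add_zero] at h1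
    rw [h1] at heq2
    simp only [List.map_cons, List.map_nil, List.sum_cons, List.sum_nil, mon, fA, fB, fD, v_0_0, v_0_1, v_0_2, v_0_3, v_0_4, v_0_5, v_0_6, v_0_7, v_0_8, v_1_0, v_1_1, v_1_2, v_1_3, v_1_4, v_1_5, v_1_6, v_1_7, v_1_8, v_2_0, v_2_1, v_2_2, v_2_3, v_2_4, v_2_5, v_2_6, v_2_7, v_2_8, v_3_0, v_3_1, v_3_2, v_3_3, v_3_4, v_3_5, v_3_6, v_3_7, v_3_8, v_4_0, v_4_1, v_4_2, v_4_3, v_4_4, v_4_5, v_4_6, v_4_7, v_4_8, v_5_0, v_5_1, v_5_2, v_5_3, v_5_4, v_5_5, v_5_6, v_5_7, v_5_8, v_6_0, v_6_1, v_6_2, v_6_3, v_6_4, v_6_5, v_6_6, v_6_7, v_6_8, v_7_0, v_7_1, v_7_2, v_7_3, v_7_4, v_7_5, v_7_6, v_7_7, v_7_8, v_8_0, v_8_1, v_8_2, v_8_3, v_8_4, v_8_5, v_8_6, v_8_7, v_8_8, v_9_0, v_9_1, v_9_2, v_9_3, v_9_4, v_9_5, v_9_6, v_9_7, v_9_8, v_10_0, v_10_1, v_10_2, v_10_3, v_10_4,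 v_10_5, v_10_6, v_10_7, v_10_8, v_11_0, v_11_1, v_11_2, v_11_3, v_11_4, v_11_5, v_11_6, v_11_7, v_11_8] at heq2
    push_cast at heq2
    linear_combination heq2
  have q4 : (g : ℚ) * (1 + ((27 : ℚ) / (F i0 : ℚ) + (-27 : ℚ) / (F i1 : ℚ) + (-27 : ℚ) / (F i2 : ℚ) + (-27 : ℚ) / (F i3 : ℚ) + (-4 : ℚ) / (F i4 : ℚ) + (4 : ℚ) / (F i5 : ℚ) + (-8 : ℚ) / (F i6 : ℚ) + (27 : ℚ) / (F i7 : ℚ) + (-16 : ℚ) / (F i8 : ℚ) + (-16 : ℚ) / (F i9 : ℚ) + (0 : ℚ) / (F i10 : ℚ) + (0 : ℚ) / (F i11 : ℚ))) = 26244 := by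
    have h1 := sum_split' [i0, i1, i2, i3, i4, i5, i6, i7, i8, i9, i10, i11] hnd (fun i => mon 1 0 2 c0 c1 c2 c3 c4 c5 c6 c7 c8 F i)
    have h2 : ∑ i ∈ S, mon 1 0 2 c0 c1 c2 c3 c4 c5 c6 c7 c8 F i = 0 := Finset.sum_eq_zero fun i hi => by
      obtain ⟨z0, z1, z2, z3, z4, z5, z6, z7, z8⟩ := hz' i hi
      simp only [mon, fA, fB, fD, z0, z1, z2, z3, z4, z5, z6, z7, z8]
      norm_num
    rw [h2, add_zero] at h1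
    rw [h1] at heq4
    simp only [List.map_cons, List.map_nil, List.sum_cons, List.sum_nil, mon, fA, fB, fD, v_0_0, v_0_1, v_0_2, v_0_3, v_0_4, v_0_5, v_0_6, v_0_7, v_0_8, v_1_0, v_1_1, v_1_2, v_1_3, v_1_4, v_1_5, v_1_6, v_1_7, v_1_8, v_2_0, v_2_1, v_2_2, v_2_3, v_2_4, v_2_5, v_2_6, v_2_7, v_2_8, v_3_0, v_3_1, v_3_2, v_3_3, v_3_4, v_3_5, v_3_6, v_3_7, v_3_8, v_4_0, v_4_1, v_4_2, v_4_3, v_4_4, v_4_5, v_4_6, v_4_7, v_4_8, v_5_0, v_5_1, v_5_2, v_5_3, v_5_4, v_5_5, v_5_6, v_5_7, v_5_8, v_6_0, v_6_1, v_6_2, v_6_3, v_6_4, v_6_5, v_6_6, v_6_7, v_6_8, v_7_0, v_7_1, v_7_2, v_7_3, v_7_4, v_7_5, v_7_6, v_7_7, v_7_8, v_8_0, v_8_1, v_8_2, v_8_3, v_8_4, v_8_5, v_8_6, v_8_7, v_8_8, v_9_0, v_9_1, v_9_2, v_9_3, v_9_4, v_9_5, v_9_6, v_9_7, v_9_8, v_10_0, v_10_1, v_10_2, v_10_3, v_10_4,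 v_10_5, v_10_6, v_10_7, v_10_8, v_11_0, v_11_1, v_11_2, v_11_3, v_11_4, v_11_5, v_11_6, v_11_7, v_11_8] at heq4
    push_cast at heq4
    linear_combination heq4
  have q5 : (g : ℚ) * (1 + ((0 : ℚ) / (F i0 : ℚ) + (0 : ℚ) / (F i1 : ℚ) + (-27 : ℚ) / (F i2 : ℚ) + (-27 : ℚ) / (F i3 : ℚ) + (-4 : ℚ) / (F i4 : ℚ) + (4 : ℚ) / (F i5 : ℚ) + (-8 : ℚ) / (F i6 : ℚ) + (0 : ℚ) / (F i7 : ℚ) + (2 : ℚ) / (F i8 : ℚ) + (-16 : ℚ) / (F i9 : ℚ) + (0 : ℚ) / (F i10 : ℚ) + (27 : ℚ) / (F i11 : ℚ))) = 17496 := by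
    have h1 := sum_split' [i0, i1, i2, i3, i4, i5, i6, i7, i8, i9, i10, i11] hnd (fun i => mon 0 2 1 c0 c1 c2 c3 c4 c5 c6 c7 c8 F i)
    have h2 : ∑ i ∈ S, mon 0 2 1 c0 c1 c2 c3 c4 c5 c6 c7 c8 F i = 0 := Finset.sum_eq_zero fun i hi => by
      obtain ⟨z0, z1, z2, z3, z4, z5, z6, z7, z8⟩ := hz' i hi
      simp only [mon, fA, fB, fD, z0, z1, z2, z3, z4, z5, z6, z7, z8]
      norm_num
    rw [h2, add_zero] at h1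
    rw [h1] at heq5
    simp only [List.map_cons, List.map_nil, List.sum_cons, List.sum_nil, mon, fA, fB, fD, v_0_0, v_0_1, v_0_2, v_0_3, v_0_4, v_0_5, v_0_6, v_0_7, v_0_8, v_1_0, v_1_1, v_1_2, v_1_3, v_1_4, v_1_5, v_1_6, v_1_7, v_1_8, v_2_0, v_2_1, v_2_2, v_2_3, v_2_4, v_2_5, v_2_6, v_2_7, v_2_8, v_3_0, v_3_1, v_3_2, v_3_3, v_3_4, v_3_5, v_3_6, v_3_7, v_3_8, v_4_0, v_4_1, v_4_2, v_4_3, v_4_4, v_4_5, v_4_6, v_4_7, v_4_8, v_5_0, v_5_1, v_5_2, v_5_3, v_5_4, v_5_5, v_5_6, v_5_7, v_5_8, v_6_0, v_6_1, v_6_2, v_6_3, v_6_4, v_6_5, v_6_6, v_6_7, v_6_8, v_7_0, v_7_1, v_7_2, v_7_3, v_7_4, v_7_5, v_7_6, v_7_7, v_7_8, v_8_0, v_8_1, v_8_2, v_8_3, v_8_4, v_8_5, v_8_6, v_8_7, v_8_8, v_9_0, v_9_1, v_9_2, v_9_3, v_9_4, v_9_5, v_9_6, v_9_7, v_9_8, v_10_0, v_10_1, v_10_2, v_10_3, v_10_4,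 v_10_5, v_10_6, v_10_7, v_10_8, v_11_0, v_11_1, v_11_2, v_11_3, v_11_4, v_11_5, v_11_6, v_11_7, v_11_8] at heq5
    push_cast at heq5
    linear_combination heq5
  have q6 : (g : ℚ) * (1 + ((0 : ℚ) / (F i0 : ℚ) + (0 : ℚ) / (F i1 : ℚ) + (-27 : ℚ) / (F i2 : ℚ) + (-27 : ℚ) / (F i3 : ℚ) + (2 : ℚ) / (F i4 : ℚ) + (-2 : ℚ) / (F i5 : ℚ) + (-8 : ℚ) / (F i6 : ℚ) + (0 : ℚ) / (F i7 : ℚ) + (-4 : ℚ) / (F i8 : ℚ) + (32 : ℚ) / (F i9 : ℚ) + (0 : ℚ) / (F i10 : ℚ) + (-27 : ℚ) / (F i11 : ℚ))) = 13122 := by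
    have h1 := sum_split' [i0, i1, i2, i3, i4, i5, i6, i7, i8, i9, i10, i11] hnd (fun i => mon 0 1 2 c0 c1 c2 c3 c4 c5 c6 c7 c8 F i)
    have h2 : ∑ i ∈ S, mon 0 1 2 c0 c1 c2 c3 c4 c5 c6 c7 c8 F i = 0 := Finset.sum_eq_zero fun i hi => by
      obtain ⟨z0, z1, z2, z3, z4, z5, z6, z7, z8⟩ := hz' i hi
      simp only [mon, fA, fB, fD, z0, z1, z2, z3, z4, z5, z6, z7, z8]
      norm_num
    rw [h2, add_zero] at h1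
    rw [h1] at heq6
    simp only [List.map_cons, List.map_nil, List.sum_cons, List.sum_nil, mon, fA, fB, fD, v_0_0, v_0_1, v_0_2, v_0_3, v_0_4, v_0_5, v_0_6, v_0_7, v_0_8, v_1_0, v_1_1, v_1_2, v_1_3, v_1_4, v_1_5, v_1_6, v_1_7, v_1_8, v_2_0, v_2_1, v_2_2, v_2_3, v_2_4, v_2_5, v_2_6, v_2_7, v_2_8, v_3_0, v_3_1, v_3_2, v_3_3, v_3_4, v_3_5, v_3_6, v_3_7, v_3_8, v_4_0, v_4_1, v_4_2, v_4_3, v_4_4, v_4_5, v_4_6, v_4_7, v_4_8, v_5_0, v_5_1, v_5_2, v_5_3, v_5_4, v_5_5, v_5_6, v_5_7, v_5_8, v_6_0, v_6_1, v_6_2, v_6_3, v_6_4, v_6_5, v_6_6, v_6_7, v_6_8, v_7_0, v_7_1, v_7_2, v_7_3, v_7_4, v_7_5, v_7_6, v_7_7, v_7_8, v_8_0, v_8_1, v_8_2, v_8_3, v_8_4, v_8_5, v_8_6, v_8_7, v_8_8, v_9_0, v_9_1, v_9_2, v_9_3, v_9_4, v_9_5, v_9_6, v_9_7, v_9_8, v_10_0, v_10_1, v_10_2, v_10_3, v_10_4,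 v_10_5, v_10_6, v_10_7, v_10_8, v_11_0, v_11_1, v_11_2, v_11_3, v_11_4, v_11_5, v_11_6, v_11_7, v_11_8] at heq6
    push_cast at heq6
    linear_combination heq6
  have key : (g : ℚ) * ((54 : ℚ) / (F i9 : ℚ)) = 0 := by
    linear_combination (-1 : ℚ) * q0 + (-1 : ℚ) * q1 + (-1 : ℚ) * q2 + (-1 : ℚ) * q4 + (2 : ℚ) * q5 + (2 : ℚ) * q6
  have hg' : (g : ℚ) ≠ 0 := by exact_mod_cast hg
  have hF9 : (F i9 : ℚ) ≠ 0 := by exact_mod_cast hF i9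
  rcases mul_eq_zero.1 key with h1 | h1
  · exact hg' h1
  · rcases div_eq_zero_iff.1 h1 with h2 | h2
    · norm_num at h2
    · exact hF9 h2

theorem fin_1 {ι : Type*} [Fintype ι] [DecidableEq ι] (c0 c1 c2 c3 c4 c5 c6 c7 c8 F : ι → ℤ) (g : ℤ)
    (endH : ∀ (g F2 F3 F4 F6 F8 F9 : ℤ), (∃ t : ℕ, g = 648 + 17496 * (t : ℤ)) →
      F2 ≠ 0 → F3 ≠ 0 → F4 ≠ 0 → F6 ≠ 0 → F8 ≠ 0 → F9 ≠ 0 →
      (g : ℚ) * (2 / (F4 : ℚ) + 1 / (F9 : ℚ)) = 243 →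
      (g : ℚ) * (1 - 27 / (F2 : ℚ) - 27 / (F3 : ℚ) - 8 / (F6 : ℚ) - 1 / (F8 : ℚ)) = 15552 →
      (0 < F2 → 78 ≤ F2) → (0 < F3 → 78 ≤ F3) → (0 < F6 → 52 ≤ F6) → (0 < F8 → 26 ≤ F8) →
      (∃ k : ℤ, F4 = 8 + 27 * k) → (∃ k : ℤ, F9 = 8 + 27 * k) → F4 ^ 2 < g → F9 ^ 2 < g → g = 648)
    (hidx : ∃ t : ℕ, g = 648 + 17496 * (t : ℤ))
    (hF : ∀ i, F i ≠ 0)
    (hm0 : ∀ i, ∃ m : ℤ, F i + 6 * fA c0 c1 c2 c3 c4 c5 c6 c7 c8 i + 12 * fB c0 c1 c2 c3 c4 c5 c6 c7 c8 i + 8 * fD c0 c1 c2 c3 c4 c5 c6 c7 c8 i = 27 * m ∧ (0 < F i → 0 ≤ m))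
    (hsq : ∀ i, F i ^ 2 < g)
    (hdeg2 : ∑ i, c2 i * F i = 0)
    (heq0 : (g : ℚ) * (1 + ∑ i, mon 2 1 0 c0 c1 c2 c3 c4 c5 c6 c7 c8 F i) = 23328) (heq1 : (g : ℚ) * (1 + ∑ i, mon 1 2 0 c0 c1 c2 c3 c4 c5 c6 c7 c8 F i) = 11664)
    (h : St_9_1 c0 c1 c2 c3 c4 c5 c6 c7 c8) : g = 648 := by
  obtain ⟨i0, i1, i2, i3, i4, i5, i6, i7, i8, i9, i10, i11, i12, ⟨d_0_1, d_0_2, d_0_3, d_0_4, d_0_5, d_0_6, d_0_7, d_0_8, d_0_9, d_0_10, d_0_11, d_0_12, d_1_2, d_1_3, d_1_4, d_1_5, d_1_6, d_1_7, d_1_8, d_1_9, d_1_10, d_1_11, d_1_12, d_2_3, d_2_4, d_2_5, d_2_6, d_2_7, d_2_8, d_2_9, d_2_10, d_2_11, d_2_12, d_3_4, d_3_5, d_3_6, d_3_7, d_3_8, d_3_9, d_3_10, d_3_11, d_3_12, d_4_5, d_4_6, d_4_7, d_4_8, d_4_9, d_4_10, d_4_11, d_4_12, d_5_6, d_5_7, d_5_8, d_5_9, d_5_10, d_5_11, d_5_12, d_6_7, d_6_8,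 d_6_9, d_6_10, d_6_11, d_6_12, d_7_8, d_7_9, d_7_10, d_7_11, d_7_12, d_8_9, d_8_10, d_8_11, d_8_12, d_9_10, d_9_11, d_9_12, d_10_11, d_10_12, d_11_12⟩, ⟨v_0_0, v_0_1, v_0_2, v_0_3, v_0_4, v_0_5, v_0_6, v_0_7, v_0_8, v_1_0, v_1_1, v_1_2, v_1_3, v_1_4, v_1_5, v_1_6, v_1_7, v_1_8, v_2_0, v_2_1, v_2_2, v_2_3, v_2_4, v_2_5, v_2_6, v_2_7, v_2_8, v_3_0, v_3_1, v_3_2, v_3_3, v_3_4, v_3_5, v_3_6, v_3_7, v_3_8, v_4_0, v_4_1, v_4_2, v_4_3, v_4_4, v_4_5, v_4_6, v_4_7, v_4_8, v_5_0, v_5_1, v_5_2, v_5_3, v_5_4, v_5_5, v_5_6, v_5_7, v_5_8, v_6_0, v_6_1, v_6_2, v_6_3, v_6_4, v_6_5, v_6_6, v_6_7, v_6_8, v_7_0, v_7_1, v_7_2, v_7_3, v_7_4, v_7_5, v_7_6, v_7_7, v_7_8, v_8_0, v_8_1, v_8_2, v_8_3, v_8_4, v_8_5, v_8_6, v_8_7, v_8_8, v_9_0, v_9_1, v_9_2, v_9_3, v_9_4, v_9_5, v_9_6, v_9_7, v_9_8,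 v_10_0, v_10_1, v_10_2, v_10_3, v_10_4, v_10_5, v_10_6, v_10_7, v_10_8, v_11_0, v_11_1, v_11_2, v_11_3, v_11_4, v_11_5, v_11_6, v_11_7, v_11_8, v_12_0, v_12_1, v_12_2, v_12_3, v_12_4, v_12_5, v_12_6, v_12_7, v_12_8⟩, hz⟩ := h
  have hnd : ([i0, i1, i2, i3, i4, i5, i6, i7, i8, i9, i10, i11, i12] : List ι).Nodup := by
    simp only [List.nodup_cons, List.mem_cons, List.not_mem_nil, or_false, not_or, List.nodup_nil, and_true, not_false_eq_true]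
    exact ⟨⟨d_0_1, d_0_2, d_0_3, d_0_4, d_0_5, d_0_6, d_0_7, d_0_8, d_0_9, d_0_10, d_0_11, d_0_12⟩, ⟨d_1_2, d_1_3, d_1_4, d_1_5, d_1_6, d_1_7, d_1_8, d_1_9, d_1_10, d_1_11, d_1_12⟩, ⟨d_2_3, d_2_4, d_2_5, d_2_6, d_2_7, d_2_8, d_2_9, d_2_10, d_2_11, d_2_12⟩, ⟨d_3_4, d_3_5, d_3_6, d_3_7, d_3_8, d_3_9, d_3_10, d_3_11, d_3_12⟩, ⟨d_4_5, d_4_6, d_4_7, d_4_8, d_4_9, d_4_10, d_4_11, d_4_12⟩, ⟨d_5_6, d_5_7, d_5_8, d_5_9, d_5_10, d_5_11, d_5_12⟩, ⟨d_6_7, d_6_8, d_6_9, d_6_10, d_6_11, d_6_12⟩, ⟨d_7_8, d_7_9, d_7_10, d_7_11, d_7_12⟩, ⟨d_8_9, d_8_10, d_8_11, d_8_12⟩, ⟨d_9_10, d_9_11, d_9_12⟩, ⟨d_10_11, d_10_12⟩, d_11_12⟩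
  set S : Finset ι := Finset.univ \ ([i0, i1, i2, i3, i4, i5, i6, i7, i8, i9, i10, i11, i12] : List ι).toFinset with hS
  have hmem : ∀ i, i ∈ S ↔ (i ≠ i0 ∧ i ≠ i1 ∧ i ≠ i2 ∧ i ≠ i3 ∧ i ≠ i4 ∧ i ≠ i5 ∧ i ≠ i6 ∧ i ≠ i7 ∧ i ≠ i8 ∧ i ≠ i9 ∧ i ≠ i10 ∧ i ≠ i11 ∧ i ≠ i12) := by
    intro i
    simp only [hS, Finset.mem_sdiff, Finset.mem_univ, true_and, List.mem_toFinset, List.mem_cons, List.not_mem_nil, or_false, not_or, ne_eq]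
  have hz' : ∀ i ∈ S, (c0 i = 0 ∧ c1 i = 0 ∧ c2 i = 0 ∧ c3 i = 0 ∧ c4 i = 0 ∧ c5 i = 0 ∧ c6 i = 0 ∧ c7 i = 0 ∧ c8 i = 0) := by
    intro i hi
    obtain ⟨n0, n1, n2, n3, n4, n5, n6, n7, n8, n9, n10, n11, n12⟩ := (hmem i).1 hi
    exact hz i n0 n1 n2 n3 n4 n5 n6 n7 n8 n9 n10 n11 n12
  have dg2 : (0 : ℤ) = (0) * F i0 + (0) * F i1 + (0) * F i2 + (0) * F i3 + (1) * F i4 + (1) * F i5 + (0) * F i6 + (0) * F i7 + (0) * F i8 + (0) * F i9 + (0) * F i10 + (0) * F i11 + (0) * F i12 := by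
    have h1 := Cfsg.Agent.Lib.Helper76_ShapeLib.sum_split [i0, i1, i2, i3, i4, i5, i6, i7, i8, i9, i10, i11, i12] hnd (fun i => c2 i * F i)
    have h2 : ∑ i ∈ S, c2 i * F i = 0 := Finset.sum_eq_zero fun i hi => by
      rw [(hz' i hi).2.2.1, zero_mul]
    rw [hdeg2, h2] at h1
    simp only [List.map_cons, List.map_nil, List.sum_cons, List.sum_nil, v_0_2, v_1_2, v_2_2, v_3_2, v_4_2, v_5_2, v_6_2, v_7_2, v_8_2, v_9_2, v_10_2, v_11_2, v_12_2] at h1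
    linarith
  have q0 : (g : ℚ) * (1 + ((0 : ℚ) / (F i0 : ℚ) + (0 : ℚ) / (F i1 : ℚ) + (-27 : ℚ) / (F i2 : ℚ) + (-27 : ℚ) / (F i3 : ℚ) + (32 : ℚ) / (F i4 : ℚ) + (-32 : ℚ) / (F i5 : ℚ) + (-8 : ℚ) / (F i6 : ℚ) + (0 : ℚ) / (F i7 : ℚ) + (-1 : ℚ) / (F i8 : ℚ) + (32 : ℚ) / (F i9 : ℚ) + (0 : ℚ) / (F i10 : ℚ) + (0 : ℚ) / (F i11 : ℚ) + (0 : ℚ) / (F i12 : ℚ))) = 23328 := by
    have h1 := sum_split' [i0, i1, i2, i3, i4, i5, i6, i7, i8, i9, i10, i11, i12] hnd (fun i => mon 2 1 0 c0 c1 c2 c3 c4 c5 c6 c7 c8 F i)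
    have h2 : ∑ i ∈ S, mon 2 1 0 c0 c1 c2 c3 c4 c5 c6 c7 c8 F i = 0 := Finset.sum_eq_zero fun i hi => by
      obtain ⟨z0, z1, z2, z3, z4, z5, z6, z7, z8⟩ := hz' i hi
      simp only [mon, fA, fB, fD, z0, z1, z2, z3, z4, z5, z6, z7, z8]
      norm_num
    rw [h2, add_zero] at h1
    rw [h1] at heq0
    simp only [List.map_cons, List.map_nil, List.sum_cons, List.sum_nil, mon, fA, fB, fD, v_0_0, v_0_1, v_0_2, v_0_3, v_0_4, v_0_5, v_0_6, v_0_7, v_0_8, v_1_0, v_1_1, v_1_2, v_1_3, v_1_4, v_1_5, v_1_6, v_1_7, v_1_8, v_2_0, v_2_1, v_2_2, v_2_3, v_2_4, v_2_5, v_2_6, v_2_7, v_2_8, v_3_0, v_3_1, v_3_2, v_3_3, v_3_4, v_3_5, v_3_6, v_3_7, v_3_8, v_4_0, v_4_1, v_4_2, v_4_3, v_4_4, v_4_5, v_4_6, v_4_7, v_4_8, v_5_0, v_5_1, v_5_2, v_5_3, v_5_4, v_5_5, v_5_6, v_5_7, v_5_8, v_6_0, v_6_1,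 v_6_2, v_6_3, v_6_4, v_6_5, v_6_6, v_6_7, v_6_8, v_7_0, v_7_1, v_7_2, v_7_3, v_7_4, v_7_5, v_7_6, v_7_7, v_7_8, v_8_0, v_8_1, v_8_2, v_8_3, v_8_4, v_8_5, v_8_6, v_8_7, v_8_8, v_9_0, v_9_1, v_9_2, v_9_3, v_9_4, v_9_5, v_9_6, v_9_7, v_9_8, v_10_0, v_10_1, v_10_2, v_10_3, v_10_4, v_10_5, v_10_6, v_10_7, v_10_8, v_11_0, v_11_1, v_11_2, v_11_3, v_11_4, v_11_5, v_11_6, v_11_7, v_11_8, v_12_0, v_12_1, v_12_2, v_12_3, v_12_4, v_12_5, v_12_6, v_12_7, v_12_8] at heq0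
    push_cast at heq0
    linear_combination heq0
  have q1 : (g : ℚ) * (1 + ((0 : ℚ) / (F i0 : ℚ) + (0 : ℚ) / (F i1 : ℚ) + (-27 : ℚ) / (F i2 : ℚ) + (-27 : ℚ) / (F i3 : ℚ) + (-16 : ℚ) / (F i4 : ℚ) + (16 : ℚ) / (F i5 : ℚ) + (-8 : ℚ) / (F i6 : ℚ) + (0 : ℚ) / (F i7 : ℚ) + (-1 : ℚ) / (F i8 : ℚ) + (-16 : ℚ) / (F i9 : ℚ) + (0 : ℚ) / (F i10 : ℚ) + (0 : ℚ) / (F i11 : ℚ) + (0 : ℚ) / (F i12 : ℚ))) = 11664 := by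
    have h1 := sum_split' [i0, i1, i2, i3, i4, i5, i6, i7, i8, i9, i10, i11, i12] hnd (fun i => mon 1 2 0 c0 c1 c2 c3 c4 c5 c6 c7 c8 F i)
    have h2 : ∑ i ∈ S, mon 1 2 0 c0 c1 c2 c3 c4 c5 c6 c7 c8 F i = 0 := Finset.sum_eq_zero fun i hi => by
      obtain ⟨z0, z1, z2, z3, z4, z5, z6, z7, z8⟩ := hz' i hi
      simp only [mon, fA, fB, fD, z0, z1, z2, z3, z4, z5, z6, z7, z8]
      norm_num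
    rw [h2, add_zero] at h1
    rw [h1] at heq1
    simp only [List.map_cons, List.map_nil, List.sum_cons, List.sum_nil, mon, fA, fB, fD, v_0_0, v_0_1, v_0_2, v_0_3, v_0_4, v_0_5, v_0_6, v_0_7, v_0_8, v_1_0, v_1_1, v_1_2, v_1_3, v_1_4, v_1_5, v_1_6, v_1_7, v_1_8, v_2_0, v_2_1, v_2_2, v_2_3, v_2_4, v_2_5, v_2_6, v_2_7, v_2_8, v_3_0, v_3_1, v_3_2, v_3_3, v_3_4, v_3_5, v_3_6, v_3_7, v_3_8, v_4_0, v_4_1, v_4_2, v_4_3, v_4_4, v_4_5, v_4_6, v_4_7, v_4_8, v_5_0, v_5_1, v_5_2, v_5_3, v_5_4, v_5_5, v_5_6, v_5_7, v_5_8, v_6_0, v_6_1, v_6_2, v_6_3, v_6_4, v_6_5, v_6_6, v_6_7, v_6_8, v_7_0, v_7_1, v_7_2, v_7_3, v_7_4, v_7_5, v_7_6, v_7_7, v_7_8, v_8_0, v_8_1, v_8_2, v_8_3, v_8_4, v_8_5, v_8_6, v_8_7, v_8_8, v_9_0, v_9_1, v_9_2, v_9_3, v_9_4, v_9_5, v_9_6, v_9_7, v_9_8, v_10_0, v_10_1,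 v_10_2, v_10_3, v_10_4, v_10_5, v_10_6, v_10_7, v_10_8, v_11_0, v_11_1, v_11_2, v_11_3, v_11_4, v_11_5, v_11_6, v_11_7, v_11_8, v_12_0, v_12_1, v_12_2, v_12_3, v_12_4, v_12_5, v_12_6, v_12_7, v_12_8] at heq1
    push_cast at heq1
    linear_combination heq1
  have e45 : (F i5 : ℚ) = -(F i4 : ℚ) := by
    have : F i5 = -F i4 := by linarith
    rw [this]; push_cast; ring
  have R1 : (g : ℚ) * (2 / (F i4 : ℚ) + 1 / (F i9 : ℚ)) = 243 := by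
    have h0 : (g : ℚ) * (-1 / (F i4 : ℚ) + 1 / (F i5 : ℚ) - 1 / (F i9 : ℚ)) = -243 := by
      linear_combination (1 / 48 : ℚ) * q1 - (1 / 48 : ℚ) * q0
    rw [e45] at h0
    have h4 : (F i4 : ℚ) ≠ 0 := by exact_mod_cast hF i4
    have e1 : (1 : ℚ) / -(F i4 : ℚ) = -(1 / (F i4 : ℚ)) := by rw [div_neg]
    rw [e1] at h0
    linear_combination (-1 : ℚ) * h0
  have R4 : (g : ℚ) * (1 - 27 / (F i2 : ℚ) - 27 / (F i3 : ℚ) - 8 / (F i6 : ℚ) - 1 / (F i8 : ℚ)) = 15552 := by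
    linear_combination (1 / 3 : ℚ) * q0 + (2 / 3 : ℚ) * q1
  obtain ⟨m2, hm2, hp2⟩ := hm0 i2
  simp only [fA, fB, fD, v_2_0, v_2_1, v_2_2, v_2_3, v_2_4, v_2_5, v_2_6, v_2_7, v_2_8] at hm2
  obtain ⟨m3, hm3, hp3⟩ := hm0 i3
  simp only [fA, fB, fD, v_3_0, v_3_1, v_3_2, v_3_3, v_3_4, v_3_5, v_3_6, v_3_7, v_3_8] at hm3
  obtain ⟨m6, hm6, hp6⟩ := hm0 i6
  simp only [fA, fB, fD, v_6_0, v_6_1, v_6_2, v_6_3, v_6_4, v_6_5, v_6_6, v_6_7, v_6_8] at hm6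
  obtain ⟨m8, hm8, hp8⟩ := hm0 i8
  simp only [fA, fB, fD, v_8_0, v_8_1, v_8_2, v_8_3, v_8_4, v_8_5, v_8_6, v_8_7, v_8_8] at hm8
  obtain ⟨m4, hm4, hp4⟩ := hm0 i4
  simp only [fA, fB, fD, v_4_0, v_4_1, v_4_2, v_4_3, v_4_4, v_4_5, v_4_6, v_4_7, v_4_8] at hm4
  obtain ⟨m9, hm9, hp9⟩ := hm0 i9
  simp only [fA, fB, fD, v_9_0, v_9_1, v_9_2, v_9_3, v_9_4, v_9_5, v_9_6, v_9_7, v_9_8] at hm9
  refine endH g (F i2) (F i3) (F i4) (F i6) (F i8) (F i9) hidx (hF i2) (hF i3) (hF i4) (hF i6) (hF i8) (hF i9) R1 R4 ?_ ?_ ?_ ?_ ⟨m4, by linarith⟩ ⟨m9, by linarith⟩ (hsq i4) (hsq i9)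
  · intro hpos
    have := hp2 hpos
    omega
  · intro hpos
    have := hp3 hpos
    omega
  · intro hpos
    have := hp6 hpos
    omega
  · intro hpos
    have := hp8 hpos
    omega

end Cfsg.Agent.Lib.Helper76_H648Fin
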