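import Mathlib
import Cfsg.Agent.Lib.Helper76_ShapeLib
import Cfsg.Agent.Lib.Helper76_H648Defs
import Cfsg.Agent.Lib.Helper76_H648ShapeA
import Cfsg.Agent.Lib.Helper76_H648ShapeB
import Cfsg.Agent.Lib.Helper76_H648Fin

/-!
# S3702: the arithmetical configuration `PureCfg ι g n f` forces `g = 648` (helper76)

Sign normalisation `sg`, the shape classification `shape_main` and the four `fin_x` lemmas; the arithmetic of the
`H`-shape (package ENDH) enters as the explicit hypothesis `endH`.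
-/

set_option autoImplicit false
set_option maxHeartbeats 1000000
set_option linter.unusedVariables false
set_option linter.unusedSimpArgs false

namespace Cfsg.Agent.Lib.Helper76_H648Pure

open Cfsg.Agent.Lib.Helper76_H648Defs Cfsg.Agent.Lib.Helper76_H648ShapeA Cfsg.Agent.Lib.Helper76_H648ShapeB
  Cfsg.Agent.Lib.Helper76_H648Fin

/-- the sign of the first nonzero coordinate (`1` for the zero vector) -/
def sg (v : Fin 9 → ℤ) : ℤ :=
  if v 0 ≠ 0 then (if v 0 < 0 then -1 else 1) else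
  if v 1 ≠ 0 then (if v 1 < 0 then -1 else 1) else
  if v 2 ≠ 0 then (if v 2 < 0 then -1 else 1) else
  if v 3 ≠ 0 then (if v 3 < 0 then -1 else 1) else
  if v 4 ≠ 0 then (if v 4 < 0 then -1 else 1) else
  if v 5 ≠ 0 then (if v 5 < 0 then -1 else 1) else
  if v 6 ≠ 0 then (if v 6 < 0 then -1 else 1) else
  if v 7 ≠ 0 then (if v 7 < 0 then -1 else 1) else
  if v 8 ≠ 0 then (if v 8 < 0 then -1 else 1) else
  1

theorem sg_cases (v : Fin 9 → ℤ) : sg v = 1 ∨ sg v = -1 := by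
  unfold sg
  split_ifs <;> simp

theorem sg_sq (v : Fin 9 → ℤ) : sg v * sg v = 1 := by
  rcases sg_cases v with h | h <;> rw [h] <;> norm_num

theorem sg_pos0 (v : Fin 9 → ℤ)  : 0 ≤ sg v * v 0 := by
  unfold sg
  simp only [ ne_eq, not_true_eq_false, if_false]
  by_cases hk : v 0 = 0
  · rw [hk, mul_zero]
  · rw [if_pos hk]
    split_ifs with hlt
    · omega
    · omega

theorem sg_pos1 (v : Fin 9 → ℤ) (h0 : v 0 = 0) : 0 ≤ sg v * v 1 := by
  unfold sg
  simp only [h0, ne_eq, not_true_eq_false, if_false]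
  by_cases hk : v 1 = 0
  · rw [hk, mul_zero]
  · rw [if_pos hk]
    split_ifs with hlt
    · omega
    · omega

theorem sg_pos2 (v : Fin 9 → ℤ) (h0 : v 0 = 0) (h1 : v 1 = 0) : 0 ≤ sg v * v 2 := by
  unfold sg
  simp only [h0, h1, ne_eq, not_true_eq_false, if_false]
  by_cases hk : v 2 = 0
  · rw [hk, mul_zero]
  · rw [if_pos hk]
    split_ifs with hlt
    · omega
    · omega

theorem sg_pos3 (v : Fin 9 → ℤ) (h0 : v 0 = 0) (h1 : v 1 = 0) (h2 : v 2 = 0) : 0 ≤ sg v * v 3 := by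
  unfold sg
  simp only [h0, h1, h2, ne_eq, not_true_eq_false, if_false]
  by_cases hk : v 3 = 0
  · rw [hk, mul_zero]
  · rw [if_pos hk]
    split_ifs with hlt
    · omega
    · omega

theorem sg_pos4 (v : Fin 9 → ℤ) (h0 : v 0 = 0) (h1 : v 1 = 0) (h2 : v 2 = 0) (h3 : v 3 = 0) : 0 ≤ sg v * v 4 := by
  unfold sg
  simp only [h0, h1, h2, h3, ne_eq, not_true_eq_false, if_false]
  by_cases hk : v 4 = 0
  · rw [hk, mul_zero]
  · rw [if_pos hk]
    split_ifs with hlt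
    · omega
    · omega

theorem sg_pos5 (v : Fin 9 → ℤ) (h0 : v 0 = 0) (h1 : v 1 = 0) (h2 : v 2 = 0) (h3 : v 3 = 0) (h4 : v 4 = 0) : 0 ≤ sg v * v 5 := by
  unfold sg
  simp only [h0, h1, h2, h3, h4, ne_eq, not_true_eq_false, if_false]
  by_cases hk : v 5 = 0
  · rw [hk, mul_zero]
  · rw [if_pos hk]
    split_ifs with hlt
    · omega
    · omega

theorem sg_pos6 (v : Fin 9 → ℤ) (h0 : v 0 = 0) (h1 : v 1 = 0) (h2 : v 2 = 0) (h3 : v 3 = 0) (h4 : v 4 = 0) (h5 : v 5 = 0) : 0 ≤ sg v * v 6 := by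
  unfold sg
  simp only [h0, h1, h2, h3, h4, h5, ne_eq, not_true_eq_false, if_false]
  by_cases hk : v 6 = 0
  · rw [hk, mul_zero]
  · rw [if_pos hk]
    split_ifs with hlt
    · omega
    · omega

theorem sg_pos7 (v : Fin 9 → ℤ) (h0 : v 0 = 0) (h1 : v 1 = 0) (h2 : v 2 = 0) (h3 : v 3 = 0) (h4 : v 4 = 0) (h5 : v 5 = 0) (h6 : v 6 = 0) : 0 ≤ sg v * v 7 := by
  unfold sg
  simp only [h0, h1, h2, h3, h4, h5, h6, ne_eq, not_true_eq_false, if_false]
  by_cases hk : v 7 = 0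
  · rw [hk, mul_zero]
  · rw [if_pos hk]
    split_ifs with hlt
    · omega
    · omega

theorem sg_pos8 (v : Fin 9 → ℤ) (h0 : v 0 = 0) (h1 : v 1 = 0) (h2 : v 2 = 0) (h3 : v 3 = 0) (h4 : v 4 = 0) (h5 : v 5 = 0) (h6 : v 6 = 0) (h7 : v 7 = 0) : 0 ≤ sg v * v 8 := by
  unfold sg
  simp only [h0, h1, h2, h3, h4, h5, h6, h7, ne_eq, not_true_eq_false, if_false]
  by_cases hk : v 8 = 0
  · rw [hk, mul_zero]
  · rw [if_pos hk]
    split_ifs with hlt
    · omega
    · omega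

theorem mon_neg (A B D f : ℚ) (e1 e2 e3 : ℕ) (h : e1 + e2 + e3 = 3) (hf : f ≠ 0) :
    ((-1 * A) ^ e1 * (-1 * B) ^ e2 * (-1 * D) ^ e3) / (-1 * f) = (A ^ e1 * B ^ e2 * D ^ e3) / f := by
  have hpow : ((-1 : ℚ)) ^ e1 * (-1) ^ e2 * (-1) ^ e3 = -1 := by
    rw [← pow_add, ← pow_add, h]; norm_num
  rw [mul_pow, mul_pow, mul_pow]
  have e : (-1 : ℚ) ^ e1 * A ^ e1 * ((-1) ^ e2 * B ^ e2) * ((-1) ^ e3 * D ^ e3) =
      ((-1) ^ e1 * (-1) ^ e2 * (-1) ^ e3) * (A ^ e1 * B ^ e2 * D ^ e3) := by ring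
  rw [e, hpow]
  field_simp

theorem pure_main {ι : Type*} [Fintype ι]
    (endH : ∀ (g F2 F3 F4 F6 F8 F9 : ℤ), (∃ t : ℕ, g = 648 + 17496 * (t : ℤ)) →
      F2 ≠ 0 → F3 ≠ 0 → F4 ≠ 0 → F6 ≠ 0 → F8 ≠ 0 → F9 ≠ 0 →
      (g : ℚ) * (2 / (F4 : ℚ) + 1 / (F9 : ℚ)) = 243 →
      (g : ℚ) * (1 - 27 / (F2 : ℚ) - 27 / (F3 : ℚ) - 8 / (F6 : ℚ) - 1 / (F8 : ℚ)) = 15552 →
      (0 < F2 → 78 ≤ F2) → (0 < F3 → 78 ≤ F3) → (0 < F6 → 52 ≤ F6) → (0 < F8 → 26 ≤ F8) →
      (∃ k : ℤ, F4 = 8 + 27 * k) → (∃ k : ℤ, F9 = 8 + 27 * k) → F4 ^ 2 < g → F9 ^ 2 < g → g = 648)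
    {g : ℤ} {n : ι → Fin 9 → ℤ} {f : ι → ℤ} (P : PureCfg ι g n f) : g = 648 := by
  classical
  have he : ∀ i, sg (n i) * sg (n i) = 1 := fun i => sg_sq _
  have hec : ∀ i, sg (n i) = 1 ∨ sg (n i) = -1 := fun i => sg_cases _
  set c : Fin 9 → ι → ℤ := fun j i => sg (n i) * n i j with hc
  set F : ι → ℤ := fun i => sg (n i) * f i with hFdef
  have hcz : ∀ i (j : Fin 9), c j i = 0 → n i j = 0 := by
    intro i j h0
    rcases hec i with h1 | h1
    · simpa [hc, h1] using h0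
    · simpa [hc, h1] using h0
  have hgram : ∀ j k : Fin 9, ∑ i, c j i * c k i = Gm j k - r0 j * r0 k := by
    intro j k
    rw [← P.gram j k]
    refine Finset.sum_congr rfl fun i _ => ?_
    simp only [hc]
    linear_combination (n i j * n i k) * he i
  have hdeg : ∀ j : Fin 9, ∑ i, c j i * F i = - r0 j := by
    intro j
    rw [← P.deg j]
    refine Finset.sum_congr rfl fun i _ => ?_
    simp only [hc, hFdef]
    linear_combination (n i j * f i) * he i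
  have hF : ∀ i, F i ≠ 0 := by
    intro i
    have := P.fpos i
    rcases hec i with h1 | h1 <;> simp only [hFdef, h1] <;> omega
  have hsq : ∀ i, F i ^ 2 < g := by
    intro i
    have h1 := P.sq i
    have : F i ^ 2 = f i ^ 2 := by
      simp only [hFdef]
      linear_combination (f i ^ 2) * he i
    rw [this]; exact h1
  have hg0 : g ≠ 0 := by
    obtain ⟨t, ht⟩ := P.idx
    omega
  have hmon : ∀ (e1 e2 e3 : ℕ), e1 + e2 + e3 = 3 → ∀ i,
      mon e1 e2 e3 (c 0) (c 1) (c 2) (c 3) (c 4) (c 5) (c 6) (c 7) (c 8) F i =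
        ((valA (n i) : ℚ) ^ e1 * (valB (n i) : ℚ) ^ e2 * (valD (n i) : ℚ) ^ e3) / (f i : ℚ) := by
    intro e1 e2 e3 hsum i
    have hf : (f i : ℚ) ≠ 0 := by
      have := P.fpos i
      exact_mod_cast this.ne'
    have key : ∀ ε : ℤ, sg (n i) = ε → (ε = 1 ∨ ε = -1) →
        mon e1 e2 e3 (c 0) (c 1) (c 2) (c 3) (c 4) (c 5) (c 6) (c 7) (c 8) F i =
          (((ε : ℚ) * (valA (n i) : ℚ)) ^ e1 * ((ε : ℚ) * (valB (n i) : ℚ)) ^ e2 *
            ((ε : ℚ) * (valD (n i) : ℚ)) ^ e3) / ((ε : ℚ) * (f i : ℚ)) := by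
      intro ε hε _
      simp only [mon, fA, fB, fD, hc, hFdef, hε, valA, valB, valD]
      push_cast
      ring
    rcases hec i with h1 | h1
    · rw [key 1 h1 (Or.inl rfl)]
      push_cast
      simp only [one_mul]
    · rw [key (-1) h1 (Or.inr rfl)]
      push_cast
      exact mon_neg _ _ _ _ e1 e2 e3 hsum hf
  have heq : ∀ e : Fin 7, (g : ℚ) * (1 + ∑ i, mon (mexp e).1 (mexp e).2.1 (mexp e).2.2 (c 0) (c 1) (c 2) (c 3) (c 4) (c 5) (c 6) (c 7) (c 8) F i) = (Kc e : ℚ) := by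
    intro e
    rw [← P.eqs e]
    congr 2
    refine Finset.sum_congr rfl fun i _ => ?_
    exact hmon _ _ _ (by fin_cases e <;> rfl) i
  have hm0 : ∀ i, ∃ m : ℤ, F i + 6 * fA (c 0) (c 1) (c 2) (c 3) (c 4) (c 5) (c 6) (c 7) (c 8) i + 12 * fB (c 0) (c 1) (c 2) (c 3) (c 4) (c 5) (c 6) (c 7) (c 8) i + 8 * fD (c 0) (c 1) (c 2) (c 3) (c 4) (c 5) (c 6) (c 7) (c 8) i = 27 * m ∧ (0 < F i → 0 ≤ m) := by
    intro i
    obtain ⟨m, hm⟩ := P.m0 i
    have hfp := P.fpos i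
    rcases hec i with h1 | h1
    · refine ⟨m, ?_, fun _ => by positivity⟩
      simp only [fA, fB, fD, hc, hFdef, h1, valA, valB, valD] at hm ⊢
      linarith
    · refine ⟨-m, ?_, fun hpos => ?_⟩
      · simp only [fA, fB, fD, hc, hFdef, h1, valA, valB, valD] at hm ⊢
        linarith
      · exfalso
        simp only [hFdef, h1] at hpos
        omega
  have hyp : GramHyp (c 0) (c 1) (c 2) (c 3) (c 4) (c 5) (c 6) (c 7) (c 8) := {
    g_0_0 := (hgram 0 0).trans (by decide),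
    g_0_1 := (hgram 0 1).trans (by decide),
    g_1_1 := (hgram 1 1).trans (by decide),
    g_0_2 := (hgram 0 2).trans (by decide),
    g_1_2 := (hgram 1 2).trans (by decide),
    g_2_2 := (hgram 2 2).trans (by decide),
    g_0_3 := (hgram 0 3).trans (by decide),
    g_1_3 := (hgram 1 3).trans (by decide),
    g_2_3 := (hgram 2 3).trans (by decide),
    g_3_3 := (hgram 3 3).trans (by decide),
    g_0_4 := (hgram 0 4).trans (by decide),
    g_1_4 := (hgram 1 4).trans (by decide),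
    g_2_4 := (hgram 2 4).trans (by decide),
    g_3_4 := (hgram 3 4).trans (by decide),
    g_4_4 := (hgram 4 4).trans (by decide),
    g_0_5 := (hgram 0 5).trans (by decide),
    g_1_5 := (hgram 1 5).trans (by decide),
    g_2_5 := (hgram 2 5).trans (by decide),
    g_3_5 := (hgram 3 5).trans (by decide),
    g_4_5 := (hgram 4 5).trans (by decide),
    g_5_5 := (hgram 5 5).trans (by decide),
    g_0_6 := (hgram 0 6).trans (by decide),
    g_1_6 := (hgram 1 6).trans (by decide),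
    g_2_6 := (hgram 2 6).trans (by decide),
    g_3_6 := (hgram 3 6).trans (by decide),
    g_4_6 := (hgram 4 6).trans (by decide),
    g_5_6 := (hgram 5 6).trans (by decide),
    g_6_6 := (hgram 6 6).trans (by decide),
    g_0_7 := (hgram 0 7).trans (by decide),
    g_1_7 := (hgram 1 7).trans (by decide),
    g_2_7 := (hgram 2 7).trans (by decide),
    g_3_7 := (hgram 3 7).trans (by decide),
    g_4_7 := (hgram 4 7).trans (by decide),
    g_5_7 := (hgram 5 7).trans (by decide),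
    g_6_7 := (hgram 6 7).trans (by decide),
    g_7_7 := (hgram 7 7).trans (by decide),
    g_0_8 := (hgram 0 8).trans (by decide),
    g_1_8 := (hgram 1 8).trans (by decide),
    g_2_8 := (hgram 2 8).trans (by decide),
    g_3_8 := (hgram 3 8).trans (by decide),
    g_4_8 := (hgram 4 8).trans (by decide),
    g_5_8 := (hgram 5 8).trans (by decide),
    g_6_8 := (hgram 6 8).trans (by decide),
    g_7_8 := (hgram 7 8).trans (by decide),
    g_8_8 := (hgram 8 8).trans (by decide),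
    pos_0 := fun i => sg_pos0 (n i),
    pos_1 := fun i a0 => sg_pos1 (n i) (hcz i 0 a0),
    pos_2 := fun i a0 a1 => sg_pos2 (n i) (hcz i 0 a0) (hcz i 1 a1),
    pos_3 := fun i a0 a1 a2 => sg_pos3 (n i) (hcz i 0 a0) (hcz i 1 a1) (hcz i 2 a2),
    pos_4 := fun i a0 a1 a2 a3 => sg_pos4 (n i) (hcz i 0 a0) (hcz i 1 a1) (hcz i 2 a2) (hcz i 3 a3),
    pos_5 := fun i a0 a1 a2 a3 a4 => sg_pos5 (n i) (hcz i 0 a0) (hcz i 1 a1) (hcz i 2 a2) (hcz i 3 a3) (hcz i 4 a4),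
    pos_6 := fun i a0 a1 a2 a3 a4 a5 => sg_pos6 (n i) (hcz i 0 a0) (hcz i 1 a1) (hcz i 2 a2) (hcz i 3 a3) (hcz i 4 a4) (hcz i 5 a5),
    pos_7 := fun i a0 a1 a2 a3 a4 a5 a6 => sg_pos7 (n i) (hcz i 0 a0) (hcz i 1 a1) (hcz i 2 a2) (hcz i 3 a3) (hcz i 4 a4) (hcz i 5 a5) (hcz i 6 a6),
    pos_8 := fun i a0 a1 a2 a3 a4 a5 a6 a7 => sg_pos8 (n i) (hcz i 0 a0) (hcz i 1 a1) (hcz i 2 a2) (hcz i 3 a3) (hcz i 4 a4) (hcz i 5 a5) (hcz i 6 a6) (hcz i 7 a7) }
  rcases shape_main (c 0) (c 1) (c 2) (c 3) (c 4) (c 5) (c 6) (c 7) (c 8) hyp with h | h | h | h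
  · exact (fin_0 (c 0) (c 1) (c 2) (c 3) (c 4) (c 5) (c 6) (c 7) (c 8) F g hg0 hF (by simpa [mexp, Kc] using heq 0) (by simpa [mexp, Kc] using heq 1)
      (by simpa [mexp, Kc] using heq 2) (by simpa [mexp, Kc] using heq 4) (by simpa [mexp, Kc] using heq 5)
      (by simpa [mexp, Kc] using heq 6) h).elim
  · exact fin_1 (c 0) (c 1) (c 2) (c 3) (c 4) (c 5) (c 6) (c 7) (c 8) F g endH P.idx hF hm0 hsq ((hdeg 2).trans (by decide))
      (by simpa [mexp, Kc] using heq 0) (by simpa [mexp, Kc] using heq 1) h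
  · exact (fin_2 (c 0) (c 1) (c 2) (c 3) (c 4) (c 5) (c 6) (c 7) (c 8) F hF ((hdeg 0).trans (by decide)) ((hdeg 1).trans (by decide))
      ((hdeg 8).trans (by decide)) h).elim
  · exact (fin_3 (c 0) (c 1) (c 2) (c 3) (c 4) (c 5) (c 6) (c 7) (c 8) F hF ((hdeg 0).trans (by decide)) ((hdeg 1).trans (by decide))
      ((hdeg 8).trans (by decide)) h).elim

end Cfsg.Agent.Lib.Helper76_H648Pure
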