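import Mathlib
import Cfsg.Prelude.Def_Characters
import Cfsg.Prelude.Def_TwoFusion
import Cfsg.Prelude.Def_Solvable
import Cfsg.Agent.Lib.Helper80_CharBasic
import Cfsg.Agent.Lib.Helper80_CharComplete
import Cfsg.Agent.Lib.Helper17_H27Defs
import Cfsg.Agent.Lib.Helper76_H648Defs

/-!
# S3702 (market `h648_packages`, architect helper76), package DEG

`deg`: the nine coordinates `c_j` are orthogonal to the degree vector: `∑_χ c_j(χ) χ(1) = 0`
(second orthogonality: the nine special class representatives are `≠ 1`).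
-/

set_option autoImplicit false
open scoped ComplexConjugate

namespace Cfsg.Agent.Lib.Helper79_H648_DEG

open Cfsg Cfsg.Agent.Lib.Helper80_CharBasic
  Cfsg.Agent.Lib.Helper76_H648Defs
open Cfsg.Agent.Lib.Helper17_H27Defs (elt)

/-- the matrix of the nine functionals in terms of the nine values -/
noncomputable def Wm : Fin 9 → Fin 9 → ℂ :=
  ![![0, 0, 0, s3 / 6, -(s3 / 6), 0, 0, 0, 0],
    ![-(1 / 36), 1 / 4, 0, -(s3 / 12), s3 / 12, 0, 0, -(1 / 9), -(1 / 9)],
    ![0, 0, 0, 0, 0, 1 / 3, -(1 / 3), 0, 0],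
    ![-(1 / 12), -(1 / 4), 0, s3 / 12, -(s3 / 12), 0, 1 / 3, 0, 0],
    ![-(1 / 36), -(1 / 4), 0, -(1 / 4), -(1 / 4), 0, 0, -(1 / 9), -(1 / 9)],
    ![-(1 / 12), -(1 / 4), 0, s3 / 12, -(s3 / 12), -(1 / 3), -(1 / 3), 0, 0],
    ![0, 0, 1 / 2, 0, 0, 0, -(1 / 3), -(1 / 6), 0],
    ![0, 0, -(1 / 2), 0, 0, 0, -(1 / 3), -(1 / 6), 0],
    ![-(1 / 36), -(1 / 4), 0, 1 / 4, 1 / 4, 0, 0, -(1 / 9), -(1 / 9)]]

theorem cvec_eq_sum {G : Type*} [Group G] (a b c σ u v s : G) (χ : G → ℂ) (j : Fin 9) :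
    cvec a b c σ u v s χ j = ∑ i, Wm j i * χ (rep9 a b c σ u v s i) := by
  fin_cases j <;>
    simp [cvec, cform, Wm, rep9, Fin.sum_univ_succ] <;> ring

section grp
variable {G : Type*} [Group G] [Finite G]

/-- second orthogonality against the identity -/
theorem sum_val_deg (x : G) (hx : x ≠ 1) :
    ∑ᶠ χ : IrrCharacter G, (χ : G → ℂ) x * (χ : G → ℂ) 1 = 0 := by
  have hnc : ¬ IsConj x 1 := by
    rw [isConj_one_left]
    exact hx
  have h := (Cfsg.Agent.Lib.Helper80_CharComplete.second_orthogonality x (1 : G)).2 hnc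
  rw [← h]
  refine finsum_congr (fun χ => ?_)
  obtain ⟨n, -, hn⟩ := irr_apply_one χ
  rw [hn, Complex.conj_natCast]

variable {H J : Subgroup G} {a b c σ u v s : G}

/-- DEG with the non-triviality of the nine representatives as a hypothesis -/
theorem deg_aux (hne : ∀ i : Fin 9, rep9 a b c σ u v s i ≠ 1) (j : Fin 9) :
    ∑ᶠ χ : IrrCharacter G, cvec a b c σ u v s (χ : G → ℂ) j * (χ : G → ℂ) 1 = 0 := by
  classical
  have := Fintype.ofFinite (IrrCharacter G)
  rw [finsum_eq_sum_of_fintype]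
  have h0 : ∀ i : Fin 9, ∑ χ : IrrCharacter G,
      (χ : G → ℂ) (rep9 a b c σ u v s i) * (χ : G → ℂ) 1 = 0 := by
    intro i
    rw [← finsum_eq_sum_of_fintype]
    exact sum_val_deg _ (hne i)
  simp only [cvec_eq_sum, Finset.sum_mul]
  rw [Finset.sum_comm]
  refine Finset.sum_eq_zero (fun i _ => ?_)
  simp only [mul_assoc]
  rw [← Finset.mul_sum, h0 i, mul_zero]

end grp

/-- `rep9` commutes with homomorphisms -/
theorem map_rep9 {G G' : Type*} [Group G] [Group G'] (f : G →* G') (a b c σ u v s : G) (i : Fin 9) :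
    f (rep9 a b c σ u v s i) = rep9 (f a) (f b) (f c) (f σ) (f u) (f v) (f s) i := by
  fin_cases i <;> simp [rep9]

set_option maxRecDepth 100000 in
/-- the nine representatives in `Sym(9)` are non-trivial -/
theorem rep9_perm_ne_one (i : Fin 9) : rep9 pA pB pC pS pU pV pT i ≠ 1 := by
  fin_cases i <;> decide

section grp2
variable {G : Type*} [Group G] [Finite G] {H J : Subgroup G} {a b c σ u v s : G}

omit [Finite G] in
/-- the nine special class representatives are non-trivial -/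
theorem rep9_ne_one (h : Hyp G H J a b c σ u v s) (i : Fin 9) : rep9 a b c σ u v s i ≠ 1 := by
  obtain ⟨ψ, hinj, -, ha, hσ, hu, hv⟩ := h.iso
  set A : ↥(Subgroup.closure S0) := ⟨g1, g1_mem⟩ with hA
  set S : ↥(Subgroup.closure S0) := ⟨g2, g2_mem⟩ with hS
  set U : ↥(Subgroup.closure S0) := ⟨g3, g3_mem⟩ with hU
  set V : ↥(Subgroup.closure S0) := ⟨g4, g4_mem⟩ with hV
  have hb : ψ (S * A * S⁻¹) = b := by rw [h.hb, map_mul, map_mul, map_inv, ha, hσ]
  have hc : ψ (S * (S * A * S⁻¹) * S⁻¹) = c := by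
    rw [h.hc, map_mul, map_mul, map_inv, hb, hσ]
  have hs : ψ (V * (S * U * S⁻¹)) = s := by
    rw [h.hs, map_mul, map_mul, map_mul, map_inv, hσ, hu, hv]
  intro h1
  have h2 : ψ (rep9 A (S * A * S⁻¹) (S * (S * A * S⁻¹) * S⁻¹) S U V (V * (S * U * S⁻¹)) i) = 1 := by
    rw [map_rep9, ha, hb, hc, hσ, hu, hv, hs]
    exact h1
  have h3 : rep9 A (S * A * S⁻¹) (S * (S * A * S⁻¹) * S⁻¹) S U V (V * (S * U * S⁻¹)) i = 1 :=
    hinj (by rw [h2, map_one])
  have h4 := congrArg (Subgroup.subtype (Subgroup.closure S0)) h3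
  rw [map_rep9, map_one] at h4
  exact rep9_perm_ne_one i h4

/-! ### DEG -/
theorem deg (h : Hyp G H J a b c σ u v s) (j : Fin 9) :
    ∑ᶠ χ : IrrCharacter G, cvec a b c σ u v s (χ : G → ℂ) j * (χ : G → ℂ) 1 = 0 :=
  deg_aux (rep9_ne_one h) j

end grp2

end Cfsg.Agent.Lib.Helper79_H648_DEG
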