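import Mathlib

/-!
# S3702 package ENDH (architect helper76): the arithmetic of the `H`-shape

Pure arithmetic: the relations `R1`, `R4` with the positivity bounds, the congruences mod 27 and
the square bounds force `g = 648`.
-/

set_option autoImplicit false

namespace Cfsg.Agent.Lib.Helper80_H648_ENDH

/-- `a / F ≤ a / N` when the nonzero integer `F` is either negative or at least `N > 0`. -/
theorem frac_le (a : ℚ) (ha : 0 ≤ a) (N : ℤ) (hN : 0 < N) (F : ℤ) (hF : F ≠ 0)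
    (h : 0 < F → N ≤ F) : a / (F : ℚ) ≤ a / (N : ℚ) := by
  rcases lt_or_gt_of_ne hF with hneg | hpos
  · have h1 : a / (F : ℚ) ≤ 0 :=
      div_nonpos_of_nonneg_of_nonpos ha (by exact_mod_cast hneg.le)
    have h2 : 0 ≤ a / (N : ℚ) := div_nonneg ha (by exact_mod_cast hN.le)
    linarith
  · have h3 := h hpos
    exact div_le_div_of_nonneg_left ha (by exact_mod_cast hN) (by exact_mod_cast h3)

set_option maxRecDepth 1000000 in
/-- the finite search: no solution of `R1` with `t = 1..7`. -/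
theorem no_sol : ∀ t : Fin 8, ∀ k m : Fin 26, t.val ≠ 0 →
    (648 + 17496 * (t.val : ℤ)) * (2 * (8 + 27 * ((m.val : ℤ) - 13)) + (8 + 27 * ((k.val : ℤ) - 13)))
      = 243 * (8 + 27 * ((k.val : ℤ) - 13)) * (8 + 27 * ((m.val : ℤ) - 13)) →
    ¬ ((8 + 27 * ((k.val : ℤ) - 13)) ^ 2 < 648 + 17496 * (t.val : ℤ)) := by
  decide

theorem end_H (g F2 F3 F4 F6 F8 F9 : ℤ) (hg : ∃ t : ℕ, g = 648 + 17496 * (t : ℤ))
    (h2 : F2 ≠ 0) (h3 : F3 ≠ 0) (h4 : F4 ≠ 0) (h6 : F6 ≠ 0) (h8 : F8 ≠ 0) (h9 : F9 ≠ 0)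
    (R1 : (g : ℚ) * (2 / (F4 : ℚ) + 1 / (F9 : ℚ)) = 243)
    (R4 : (g : ℚ) * (1 - 27 / (F2 : ℚ) - 27 / (F3 : ℚ) - 8 / (F6 : ℚ) - 1 / (F8 : ℚ)) = 15552)
    (p2 : 0 < F2 → 78 ≤ F2) (p3 : 0 < F3 → 78 ≤ F3) (p6 : 0 < F6 → 52 ≤ F6) (p8 : 0 < F8 → 26 ≤ F8)
    (c4 : ∃ k : ℤ, F4 = 8 + 27 * k) (c9 : ∃ k : ℤ, F9 = 8 + 27 * k)
    (s4 : F4 ^ 2 < g) (s9 : F9 ^ 2 < g) : g = 648 := by
  obtain ⟨t, rfl⟩ := hg
  obtain ⟨k, hk⟩ := c4
  obtain ⟨m, hm⟩ := c9
  -- the bound from R4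
  have b2 := frac_le 27 (by norm_num) 78 (by norm_num) F2 h2 p2
  have b3 := frac_le 27 (by norm_num) 78 (by norm_num) F3 h3 p3
  have b6 := frac_le 8 (by norm_num) 52 (by norm_num) F6 h6 p6
  have b8 := frac_le 1 (by norm_num) 26 (by norm_num) F8 h8 p8
  have hgq : (((648 + 17496 * (t : ℤ) : ℤ)) : ℚ) = 648 + 17496 * (t : ℚ) := by push_cast; ring
  rw [hgq] at R1 R4
  have htq : (0 : ℚ) ≤ (t : ℚ) := Nat.cast_nonneg t
  have hX : (3 : ℚ) / 26 ≤ 1 - 27 / (F2 : ℚ) - 27 / (F3 : ℚ) - 8 / (F6 : ℚ) - 1 / (F8 : ℚ) := by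
    have e1 : (27 : ℚ) / ((78 : ℤ) : ℚ) = 27 / 78 := by norm_num
    have e2 : (8 : ℚ) / ((52 : ℤ) : ℚ) = 8 / 52 := by norm_num
    have e3 : (1 : ℚ) / ((26 : ℤ) : ℚ) = 1 / 26 := by norm_num
    rw [e1] at b2 b3
    rw [e2] at b6
    rw [e3] at b8
    linarith
  have hgpos : (0 : ℚ) < 648 + 17496 * (t : ℚ) := by positivity
  have hle : (648 + 17496 * (t : ℚ)) * (3 / 26) ≤ 15552 := by
    rw [← R4]
    exact mul_le_mul_of_nonneg_left hX hgpos.le
  have ht7q : (t : ℚ) ≤ 7 + 2 / 3 := by linarith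
  have ht7 : t ≤ 7 := by
    have : (t : ℚ) < 8 := by linarith
    have : t < 8 := by exact_mod_cast this
    omega
  -- the integer form of R1
  have h4q : (F4 : ℚ) ≠ 0 := by exact_mod_cast h4
  have h9q : (F9 : ℚ) ≠ 0 := by exact_mod_cast h9
  have R1' : (648 + 17496 * (t : ℚ)) * (2 * (F9 : ℚ) + (F4 : ℚ)) = 243 * (F4 : ℚ) * (F9 : ℚ) := by
    have := R1
    field_simp at this
    linarith
  have R1z : (648 + 17496 * (t : ℤ)) * (2 * F9 + F4) = 243 * F4 * F9 := by exact_mod_cast R1'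
  by_cases ht0 : t = 0
  · subst ht0; simp
  · exfalso
    -- bounds on k, m
    have gle : (648 + 17496 * (t : ℤ)) ≤ 123120 := by
      have : (t : ℤ) ≤ 7 := by exact_mod_cast ht7
      linarith
    have hk1 : -13 ≤ k := by
      by_contra hcon
      push Not at hcon
      have : F4 ≤ -370 := by rw [hk]; linarith
      nlinarith
    have hk2 : k ≤ 12 := by
      by_contra hcon
      push Not at hcon
      have : 359 ≤ F4 := by rw [hk]; linarith
      nlinarith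
    have hm1 : -13 ≤ m := by
      by_contra hcon
      push Not at hcon
      have : F9 ≤ -370 := by rw [hm]; linarith
      nlinarith
    have hm2 : m ≤ 12 := by
      by_contra hcon
      push Not at hcon
      have : 359 ≤ F9 := by rw [hm]; linarith
      nlinarith
    -- package as Fin's
    obtain ⟨k', hk'⟩ : ∃ k' : ℕ, k = (k' : ℤ) - 13 := ⟨(k + 13).toNat, by omega⟩
    obtain ⟨m', hm'⟩ : ∃ m' : ℕ, m = (m' : ℤ) - 13 := ⟨(m + 13).toNat, by omega⟩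
    have hk'lt : k' < 26 := by omega
    have hm'lt : m' < 26 := by omega
    have key := no_sol ⟨t, by omega⟩ ⟨k', hk'lt⟩ ⟨m', hm'lt⟩ ht0
    simp only [] at key
    rw [← hk', ← hm', ← hk, ← hm] at key
    exact key R1z s4

end Cfsg.Agent.Lib.Helper80_H648_ENDH
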