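import Mathlib
import Cfsg.Prelude.Def_Characters
import Cfsg.Prelude.Def_TwoFusion
import Cfsg.Prelude.Def_Solvable
import Cfsg.Agent.Lib.Helper80_CharBasic
import Cfsg.Agent.Lib.Helper80_CharComplete
import Cfsg.Agent.Lib.Helper17_H27Defs
import Cfsg.Agent.Lib.Helper76_H648Defs
import Cfsg.Agent.Lib.Helper2_H648_CLSA

/-!
S3702 (architect helper76, market `h648_packages`), package CLS-C: the nine special class representatives are
pairwise non-conjugate in `G`.  `_aux` form: with the statement of `special_fus` (package FUS) and the first clause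
of `perm_param` (package PERM) as hypotheses.

In `K₀ ≤ Sym(9)`: the sizes of the supports of `x, x², x³` separate all pairs except `12A/12B` and `9A/9B`, which are
settled by the 648 conjugators.
-/

set_option autoImplicit false
set_option linter.unusedVariables false
set_option linter.unusedSectionVars false
set_option linter.unusedSimpArgs false
open scoped ComplexConjugate

namespace Cfsg.Agent.Lib.Helper93_H648_CLSCaux

open Cfsg Cfsg.Agent.Lib.Helper80_CharBasic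
  Cfsg.Agent.Lib.Helper76_H648Defs
open Cfsg.Agent.Lib.Helper17_H27Defs (elt)

/-! ### the facts in `Sym(9)` -/

/-- the sizes of the supports of `x, x², x³`: a conjugacy invariant in `Sym(9)` -/
def sig (x : Equiv.Perm (Fin 9)) : ℕ × ℕ × ℕ :=
  (x.support.card, (x ^ 2).support.card, (x ^ 3).support.card)

theorem sig_conj (γ x : Equiv.Perm (Fin 9)) : sig (γ * x * γ⁻¹) = sig x := by
  unfold sig
  rw [conj_pow, conj_pow, Equiv.Perm.card_support_conj, Equiv.Perm.card_support_conj,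
    Equiv.Perm.card_support_conj]

set_option maxRecDepth 100000 in
theorem sig_ne : ∀ i k : Fin 9, i < k → ¬ (i = 3 ∧ k = 4) → ¬ (i = 5 ∧ k = 6) →
    sig (rep9 pA pB pC pS pU pV pT i) ≠ sig (rep9 pA pB pC pS pU pV pT k) := by
  decide +kernel

set_option maxRecDepth 1000000 in
theorem nc12 : ∀ (e : ZMod 3 × ZMod 3 × ZMod 3) (j : Fin 24),
    (elt pA pB pC e * Wfun pS pU pV j) * rep9 pA pB pC pS pU pV pT 3 ≠
      rep9 pA pB pC pS pU pV pT 4 * (elt pA pB pC e * Wfun pS pU pV j) := by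
  decide +kernel

set_option maxRecDepth 1000000 in
theorem nc9 : ∀ (e : ZMod 3 × ZMod 3 × ZMod 3) (j : Fin 24),
    (elt pA pB pC e * Wfun pS pU pV j) * rep9 pA pB pC pS pU pV pT 5 ≠
      rep9 pA pB pC pS pU pV pT 6 * (elt pA pB pC e * Wfun pS pU pV j) := by
  decide +kernel

/-- the nine representatives are pairwise non-conjugate in `K₀` (case `i < k`) -/
theorem perm_nconj_lt
    (hperm : ∀ k ∈ Subgroup.closure S0, ∃ (e : ZMod 3 × ZMod 3 × ZMod 3) (i : Fin 24),
      k = elt pA pB pC e * Wfun pS pU pV i)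
    (i k : Fin 9) (hik : i < k) (γ : Equiv.Perm (Fin 9)) (hγ : γ ∈ Subgroup.closure S0) :
    γ * rep9 pA pB pC pS pU pV pT i * γ⁻¹ ≠ rep9 pA pB pC pS pU pV pT k := by
  intro hc
  by_cases h1 : i = 3 ∧ k = 4
  · obtain ⟨rfl, rfl⟩ := h1
    obtain ⟨e, j, rfl⟩ := hperm γ hγ
    apply nc12 e j
    rw [← hc]
    group
  by_cases h2 : i = 5 ∧ k = 6
  · obtain ⟨rfl, rfl⟩ := h2
    obtain ⟨e, j, rfl⟩ := hperm γ hγ
    apply nc9 e j
    rw [← hc]
    group
  apply sig_ne i k hik h1 h2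
  rw [← hc, sig_conj]

/-- the nine representatives are pairwise non-conjugate in `K₀` -/
theorem perm_nconj
    (hperm : ∀ k ∈ Subgroup.closure S0, ∃ (e : ZMod 3 × ZMod 3 × ZMod 3) (i : Fin 24),
      k = elt pA pB pC e * Wfun pS pU pV i)
    (i k : Fin 9) (hik : i ≠ k) (γ : Equiv.Perm (Fin 9)) (hγ : γ ∈ Subgroup.closure S0) :
    γ * rep9 pA pB pC pS pU pV pT i * γ⁻¹ ≠ rep9 pA pB pC pS pU pV pT k := by
  rcases lt_or_gt_of_ne hik with h | h
  · exact perm_nconj_lt hperm i k h γ hγ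
  · intro hc
    apply perm_nconj_lt hperm k i h γ⁻¹ (Subgroup.inv_mem _ hγ)
    rw [← hc]
    group

section grp
variable {G : Type*} [Group G] [Finite G]
variable {H J : Subgroup G} {a b c σ u v s : G}

/-- CLS-C with the statements of `special_fus` (FUS) and of the first clause of `perm_param` (PERM) as hypotheses -/
theorem rep_nconj_aux (h : Hyp G H J a b c σ u v s)
    (hfus : ∀ {x g : G} {m : ℕ}, x ^ m ∈ J → x ^ m ≠ 1 → g * x * g⁻¹ ∈ H → g ∈ H)
    (hperm : ∀ k ∈ Subgroup.closure S0, ∃ (e : ZMod 3 × ZMod 3 × ZMod 3) (i : Fin 24),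
      k = elt pA pB pC e * Wfun pS pU pV i)
    (i k : Fin 9) (hik : i ≠ k) :
    ¬ IsConj (rep9 a b c σ u v s i) (rep9 a b c σ u v s k) := by
  intro hc
  rw [isConj_iff] at hc
  obtain ⟨g, hg⟩ := hc
  obtain ⟨hiH, m, hmJ, hm1⟩ := Cfsg.Agent.Lib.Helper2_H648_CLSA.rep_special h i
  obtain ⟨hkH, -⟩ := Cfsg.Agent.Lib.Helper2_H648_CLSA.rep_special h k
  have hgH : g ∈ H := hfus hmJ hm1 (by rw [hg]; exact hkH)
  obtain ⟨ψ, hinj, hrange, ha, hσ, hu, hv⟩ := h.iso
  set A0 : ↥(Subgroup.closure S0) := ⟨g1, g1_mem⟩ with hA0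
  set S1 : ↥(Subgroup.closure S0) := ⟨g2, g2_mem⟩ with hS1
  set U0 : ↥(Subgroup.closure S0) := ⟨g3, g3_mem⟩ with hU0
  set V0 : ↥(Subgroup.closure S0) := ⟨g4, g4_mem⟩ with hV0
  set B0 : ↥(Subgroup.closure S0) := S1 * A0 * S1⁻¹ with hB0
  set C0 : ↥(Subgroup.closure S0) := S1 * B0 * S1⁻¹ with hC0
  set T0 : ↥(Subgroup.closure S0) := V0 * (S1 * U0 * S1⁻¹) with hT0
  have hb : ψ B0 = b := by rw [hB0, map_mul, map_mul, map_inv, ha, hσ, h.hb]
  have hc' : ψ C0 = c := by rw [hC0, map_mul, map_mul, map_inv, hb, hσ, h.hc]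
  have hs : ψ T0 = s := by rw [hT0, map_mul, map_mul, map_mul, map_inv, hu, hv, hσ, h.hs]
  set ι : ↥(Subgroup.closure S0) →* Equiv.Perm (Fin 9) := (Subgroup.closure S0).subtype with hι
  have iA : ι A0 = pA := rfl
  have iS : ι S1 = pS := rfl
  have iU : ι U0 = pU := rfl
  have iV : ι V0 = pV := rfl
  have iB : ι B0 = pB := rfl
  have iC : ι C0 = pC := rfl
  have iT : ι T0 = pT := rfl
  have hx : ∀ i, ψ (rep9 A0 B0 C0 S1 U0 V0 T0 i) = rep9 a b c σ u v s i := by
    intro i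
    rw [Cfsg.Agent.Lib.Helper2_H648_CLSA.map_rep9, ha, hb, hc', hσ, hu, hv, hs]
  rw [← hrange] at hgH
  obtain ⟨γ, rfl⟩ := hgH
  rw [← hx i, ← hx k, ← map_inv, ← map_mul, ← map_mul] at hg
  have h1 := hinj hg
  have h2 := congrArg ι h1
  rw [map_mul, map_mul, map_inv, Cfsg.Agent.Lib.Helper2_H648_CLSA.map_rep9,
    Cfsg.Agent.Lib.Helper2_H648_CLSA.map_rep9, iA, iB, iC, iS, iU, iV, iT] at h2
  exact perm_nconj hperm i k hik (ι γ) γ.2 h2

end grp

end Cfsg.Agent.Lib.Helper93_H648_CLSCaux
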