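import Mathlib
import Cfsg.Prelude.Def_Characters
import Cfsg.Prelude.Def_TwoFusion
import Cfsg.Prelude.Def_Solvable
import Cfsg.Agent.Lib.Helper80_CharBasic
import Cfsg.Agent.Lib.Helper17_H27Defs
import Cfsg.Agent.Lib.Helper76_H648Defs
import Cfsg.Agent.Lib.Helper76_H648Pure
import Cfsg.Agent.Lib.Helper52_H648_PERM
import Cfsg.Agent.Lib.Helper47_H648_LOCaux
import Cfsg.Agent.Lib.Helper86_H648_STRUCTaux
import Cfsg.Agent.Lib.Helper99_H648_CONJJ
import Cfsg.Agent.Lib.Helper10_H648_NORM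
import Cfsg.Agent.Lib.Helper10_H648_INT
import Cfsg.Agent.Lib.Helper2_H648_FUS
import Cfsg.Agent.Lib.Helper2_H648_CLSA
import Cfsg.Agent.Lib.Helper41_H648_CLSB
import Cfsg.Agent.Lib.Helper93_H648_CLSCaux
import Cfsg.Agent.Lib.Helper16_H648_TAB
import Cfsg.Agent.Lib.Helper71_H648_L333aux
import Cfsg.Agent.Lib.Helper71_H648_IDXaux
import Cfsg.Agent.Lib.Helper26_H648_CNT
import Cfsg.Agent.Lib.Helper46_H648_MULT12
import Cfsg.Agent.Lib.Helper87_H648_MULT6
import Cfsg.Agent.Lib.Helper87_H648_MULT9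
import Cfsg.Agent.Lib.Helper60_H648_MULTJ
import Cfsg.Agent.Lib.Helper29_H648_GRAMaux
import Cfsg.Agent.Lib.Helper79_H648_DEG
import Cfsg.Agent.Lib.Helper31_H648_EQS
import Cfsg.Agent.Lib.Helper17_H648_GLUEaux
import Cfsg.Agent.Lib.Helper80_H648_ENDH

/-!
# S3702: assembly of the packages of the market `h648_packages` (helper76)

`main_of` : the statement of S3702, from the remaining package statement CORE (`CoreStmt`, pure `Sym(9)`)
as an explicit hypothesis.  Everything else is cited from the landed package files (CENTJ is a special case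
of CLS-B).
-/

set_option autoImplicit false

namespace Cfsg.Agent.Lib.Helper76_H648Main

open Cfsg Cfsg.Agent.Lib.Helper80_CharBasic
  Cfsg.Agent.Lib.Helper76_H648Defs
open Cfsg.Agent.Lib.Helper17_H27Defs (elt)

section grp
variable {G : Type*} [Group G] [Finite G]

variable {H J : Subgroup G} {a b c σ u v s : G}

/-- package CENTJ, a special case of CLS-B (`rep9 0 = c`, `rep9 7 = a * b`, `rep9 8 = a * b * c`) -/
theorem centJ (h : Hyp G H J a b c σ u v s) :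
    Nat.card (Subgroup.centralizer ({c} : Set G)) = 108 ∧
    Nat.card (Subgroup.centralizer ({a * b} : Set G)) = 54 ∧
    Nat.card (Subgroup.centralizer ({a * b * c} : Set G)) = 81 :=
  ⟨Cfsg.Agent.Lib.Helper41_H648_CLSB.rep_cent h 0, Cfsg.Agent.Lib.Helper41_H648_CLSB.rep_cent h 7,
    Cfsg.Agent.Lib.Helper41_H648_CLSB.rep_cent h 8⟩

/-- `|G| = 648` under `Hyp` -/
theorem card_of_hyp (h : Hyp G H J a b c σ u v s) :
    (Nat.card G : ℤ) = 648 := by
  have hcent := centJ h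
  have hst := Cfsg.Agent.Lib.Helper86_H648_STRUCTaux.struct_of
    Cfsg.Agent.Lib.Helper52_H648_PERM.perm_param h
  have hconj := fun e he => Cfsg.Agent.Lib.Helper99_H648_CONJJ.conjJ h e he
  have hnorm : Subgroup.normalizer (J : Set G) = H :=
    Cfsg.Agent.Lib.Helper10_H648_NORM.normalizer_eq_aux h hconj hcent
      hst.2.2.2.2.2.1 hst.2.2.2.2.2.2.1
  have hfus : ∀ {j g : G}, j ∈ J → j ≠ 1 → g * j * g⁻¹ ∈ J → g ∈ H :=
    fun hj hj1 hg => Cfsg.Agent.Lib.Helper2_H648_FUS.fusion_aux h hnorm hst.2.2.2.1 hj hj1 hg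
  have hsfus : ∀ {x g : G} {m : ℕ}, x ^ m ∈ J → x ^ m ≠ 1 → g * x * g⁻¹ ∈ H → g ∈ H :=
    fun hm hm1 hg =>
      Cfsg.Agent.Lib.Helper2_H648_FUS.special_fus_aux h hnorm hst.2.2.2.1 hm hm1 hg
  have hreal := fun i => Cfsg.Agent.Lib.Helper2_H648_CLSA.rep_real h i
  have hrcent := fun i => Cfsg.Agent.Lib.Helper41_H648_CLSB.rep_cent h i
  have hnconj := fun i k hik => Cfsg.Agent.Lib.Helper93_H648_CLSCaux.rep_nconj_aux h hsfus
    Cfsg.Agent.Lib.Helper52_H648_PERM.perm_param.1 i k hik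
  have htabJ := fun e he => Cfsg.Agent.Lib.Helper16_H648_TAB.tabJ h e he
  have h333 : ∀ {p q : G}, p ^ 3 = 1 → q ^ 3 = 1 → p * q ∈ J → p * q ≠ 1 →
      ¬ IsConj (p * q) (a * b * c) → (p ∈ H ∧ q ∈ H) ∨ (IsConj p q ∧ IsConj (p * q) p⁻¹) :=
    fun hp hq hpq hpq1 hw =>
      Cfsg.Agent.Lib.Helper71_H648_L333aux.lemma333_aux h hconj hcent hst hp hq hpq hpq1 hw
  have hcnt := Cfsg.Agent.Lib.Helper26_H648_CNT.counts_aux' h hst h333 hnconj hreal htabJ
  have hidx := Cfsg.Agent.Lib.Helper71_H648_IDXaux.idx_aux h hfus hst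
  have hm12 := fun χ => Cfsg.Agent.Lib.Helper46_H648_MULT12.mult12_aux
    (Cfsg.Agent.Lib.Helper16_H648_TAB.tab12 h) χ
  have hm6 := fun χ => Cfsg.Agent.Lib.Helper87_H648_MULT6.mult6 h χ
  have hm9 := fun χ => Cfsg.Agent.Lib.Helper87_H648_MULT9.mult9 h χ
  have hmJ := fun χ => Cfsg.Agent.Lib.Helper60_H648_MULTJ.multJ h χ
  have hint : ∀ χ : IrrCharacter G, ∃ n : Fin 9 → ℤ, ∀ j : Fin 9,
      cvec a b c σ u v s (χ : G → ℂ) j = (n j : ℂ) := fun χ =>
    Cfsg.Agent.Lib.Helper10_H648_INT.int_aux a b c σ u v s (χ : G → ℂ)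
      (hm12 χ) (hm6 χ) (hm9 χ) (hmJ χ)
  have hgram := fun j k => Cfsg.Agent.Lib.Helper29_H648_GRAMaux.gram_aux hreal hnconj hrcent j k
  have hdeg := fun j => Cfsg.Agent.Lib.Helper79_H648_DEG.deg h j
  have heqs := fun e => Cfsg.Agent.Lib.Helper31_H648_EQS.eqs_of h hcent hcnt e
  obtain ⟨n, f, P⟩ := Cfsg.Agent.Lib.Helper17_H648_GLUEaux.glue_of hint hgram hdeg heqs hmJ hidx
  exact @Cfsg.Agent.Lib.Helper76_H648Pure.pure_main _ (Fintype.ofFinite _)
    Cfsg.Agent.Lib.Helper80_H648_ENDH.end_H _ _ _ P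

/-- S3702 from CORE -/
theorem main_of (hcore : Cfsg.Agent.Lib.Helper47_H648_LOCaux.CoreStmt)
    (H : Subgroup G) (hH : Nonempty (↥H ≃* ↥(Subgroup.closure S0)))
    (J : Subgroup G) (hJ : J = (Cfsg.pCore 3 ↥H).map H.subtype)
    (hC : ∀ j ∈ J, j ≠ 1 → Subgroup.centralizer ({j} : Set G) ≤ H)
    (hsc : Cfsg.IsStronglyClosed J H) : H = ⊤ := by
  obtain ⟨a, b, c, σ, u, v, s, h⟩ :=
    Cfsg.Agent.Lib.Helper47_H648_LOCaux.exists_hyp_of hcore H hH J hJ hC hsc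
  have hG : (Nat.card G : ℤ) = 648 := card_of_hyp h
  have hH648 : Nat.card H = 648 := (Cfsg.Agent.Lib.Helper86_H648_STRUCTaux.struct_of
    Cfsg.Agent.Lib.Helper52_H648_PERM.perm_param h).1
  have hG' : Nat.card G = 648 := by exact_mod_cast hG
  exact Subgroup.eq_top_of_card_eq H (by rw [hH648, hG'])

end grp

end Cfsg.Agent.Lib.Helper76_H648Main
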