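import Mathlib
import Cfsg.Prelude.Def_Characters
import Cfsg.Agent.Lib.Helper76_HIDefs
import Cfsg.Agent.Lib.Helper80_CharBasic
import Cfsg.Agent.Lib.Helper80_CharComplete

/-!
# S4563 + S4564 (market `hi_packages`, architect helper76), package BCNT

`count_sq`: `a² s = |A : B|` if the irreducible character `ξ` of `A` vanishes off `B ⊴ A`
(`[ξ_B, ξ_B] = |A : B|` by vanishing, `= a² s` by Parseval and Clifford).
-/

set_option autoImplicit false
open scoped ComplexConjugate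

namespace Cfsg.Agent.Lib.Helper79_HI_BCNT

open Cfsg Cfsg.Agent.Lib.Helper76_HIDefs Cfsg.Agent.Lib.Helper80_CharBasic
  Cfsg.Agent.Lib.Helper80_CharComplete

/-- Parseval for class functions -/
theorem parseval_cf {G : Type*} [Group G] [Fintype G] [Fintype (Cfsg.IrrCharacter G)]
    (f : G → ℂ) (hf : Cfsg.IsClassFunction G f) :
    Cfsg.classInner f f =
      ∑ χ : Cfsg.IrrCharacter G, Cfsg.classInner f (χ : G → ℂ) * conj (Cfsg.classInner f (χ : G → ℂ)) := by
  have hexp := class_fn_expansion_sum f hf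
  have h1 : ∀ g : G, f g = ∑ χ : Cfsg.IrrCharacter G, Cfsg.classInner f (χ : G → ℂ) * (χ : G → ℂ) g := by
    intro g
    have := congrFun hexp g
    simpa [Finset.sum_apply, Pi.smul_apply, smul_eq_mul] using this
  have h2 : ∀ χ : Cfsg.IrrCharacter G, conj (Cfsg.classInner f (χ : G → ℂ)) =
      (Nat.card G : ℂ)⁻¹ * ∑ g : G, (χ : G → ℂ) g * conj (f g) := by
    intro χ
    unfold Cfsg.classInner
    rw [map_mul, map_inv₀, Complex.conj_natCast, map_sum]
    congr 1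
    refine Finset.sum_congr rfl (fun g _ => ?_)
    rw [map_mul, Complex.conj_conj, mul_comm]
  calc Cfsg.classInner f f
      = (Nat.card G : ℂ)⁻¹ * ∑ g : G,
          (∑ χ : Cfsg.IrrCharacter G, Cfsg.classInner f (χ : G → ℂ) * (χ : G → ℂ) g) * conj (f g) := by
        show (Nat.card G : ℂ)⁻¹ * ∑ g : G, f g * conj (f g) = _
        congr 1
        refine Finset.sum_congr rfl (fun g _ => ?_)
        rw [← h1 g]
    _ = ∑ χ : Cfsg.IrrCharacter G, Cfsg.classInner f (χ : G → ℂ) *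
          ((Nat.card G : ℂ)⁻¹ * ∑ g : G, (χ : G → ℂ) g * conj (f g)) := by
        simp only [Finset.sum_mul, Finset.mul_sum]
        rw [Finset.sum_comm]
        refine Finset.sum_congr rfl (fun χ _ => Finset.sum_congr rfl (fun g _ => ?_))
        ring
    _ = _ := by
        refine Finset.sum_congr rfl (fun χ _ => ?_)
        rw [h2 χ]

section fin
variable {H : Type*} [Group H] [Finite H]

/-! ### BCNT: `a² s = |A : B|` if `ξ` vanishes off `B` -/
set_option linter.unusedVariables false in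
theorem count_sq (A B : Subgroup H) (hBA : B ≤ A)
    (hAN : A ≤ Subgroup.normalizer (B : Set H)) {ξ : ↥A → ℂ} (hξ : Cfsg.IsIrrCharacter ↥A ξ)
    (hvan : ∀ y : ↥A, y.1 ∉ B → ξ y = 0)
    {μ : ↥B → ℂ} (hμ : Cfsg.IsIrrCharacter ↥B μ) (a : ℕ) (ha : ip (rs A B ξ) μ = (a : ℂ))
    (h2 : ∀ ν : ↥B → ℂ, Cfsg.IsIrrCharacter ↥B ν →
      (ip (rs A B ξ) ν ≠ 0 ↔ ∃ g ∈ A, ν = cj B g μ))
    (h3 : ∀ g ∈ A, Cfsg.IsIrrCharacter ↥B (cj B g μ) ∧
      ip (rs A B ξ) (cj B g μ) = ip (rs A B ξ) μ) :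
    a ^ 2 * Nat.card {ν : ↥B → ℂ // ∃ g ∈ A, ν = cj B g μ} = B.relIndex A := by
  classical
  let _ : Fintype ↥A := Fintype.ofFinite _
  let _ : Fintype ↥B := Fintype.ofFinite _
  let _ : Fintype (Cfsg.IrrCharacter ↥B) := Fintype.ofFinite _
  set f : ↥B → ℂ := rs A B ξ with hf
  have hfapp : ∀ b : ↥B, f b = ξ ⟨b.1, hBA b.2⟩ := fun b => rs_apply ξ b (hBA b.2)
  -- `f` is a class function
  have hfcl : Cfsg.IsClassFunction ↥B f := by
    intro g h
    rw [hfapp, hfapp]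
    have := irr_conj (⟨ξ, hξ⟩ : Cfsg.IrrCharacter ↥A) ⟨g.1, hBA g.2⟩ ⟨h.1, hBA h.2⟩
    exact this
  -- the multiplicities
  have hmult : ∀ χ : Cfsg.IrrCharacter ↥B,
      Cfsg.classInner f (χ : ↥B → ℂ) * conj (Cfsg.classInner f (χ : ↥B → ℂ)) =
        if (∃ g ∈ A, (χ : ↥B → ℂ) = cj B g μ) then ((a : ℂ) ^ 2) else 0 := by
    intro χ
    rw [← ip_eq_classInner]
    split_ifs with hχ
    · obtain ⟨g, hg, hχg⟩ := hχ
      rw [hχg, (h3 g hg).2, ha, Complex.conj_natCast]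
      ring
    · have : ip f (χ : ↥B → ℂ) = 0 := by
        by_contra h0
        exact hχ ((h2 _ χ.2).1 h0)
      rw [this, zero_mul]
  -- Parseval
  have hP : Cfsg.classInner f f =
      ((a ^ 2 * Nat.card {ν : ↥B → ℂ // ∃ g ∈ A, ν = cj B g μ} : ℕ) : ℂ) := by
    rw [parseval_cf f hfcl, Finset.sum_congr rfl (fun χ _ => hmult χ), Finset.sum_ite,
      Finset.sum_const_zero, add_zero, Finset.sum_const, nsmul_eq_mul]
    have hcard : (Finset.univ.filter (fun χ : Cfsg.IrrCharacter ↥B =>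
        ∃ g ∈ A, (χ : ↥B → ℂ) = cj B g μ)).card =
        Nat.card {ν : ↥B → ℂ // ∃ g ∈ A, ν = cj B g μ} := by
      rw [← Fintype.card_subtype, ← Nat.card_eq_fintype_card]
      refine Nat.card_congr ⟨fun χ => ⟨χ.1.1, χ.2⟩, fun ν => ⟨⟨ν.1, ?_⟩, ν.2⟩, fun χ => rfl, fun ν => rfl⟩
      obtain ⟨g, hg, hν⟩ := ν.2
      rw [hν]
      exact (h3 g hg).1
    rw [hcard]
    push_cast
    ring
  -- the direct computation
  have hA : Cfsg.classInner ξ ξ = 1 := by
    have := classInner_irr (⟨ξ, hξ⟩ : Cfsg.IrrCharacter ↥A) ⟨ξ, hξ⟩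
    simpa using this
  have hsum : ∑ b : ↥B, f b * conj (f b) = ∑ y : ↥A, ξ y * conj (ξ y) := by
    have h1 : ∑ y : ↥A, ξ y * conj (ξ y) =
        ∑ y ∈ Finset.univ.filter (fun y : ↥A => y.1 ∈ B), ξ y * conj (ξ y) := by
      rw [Finset.sum_filter]
      refine Finset.sum_congr rfl (fun y _ => ?_)
      split_ifs with hy
      · rfl
      · rw [hvan y hy, zero_mul]
    rw [h1]
    refine Finset.sum_bij (fun b _ => (⟨b.1, hBA b.2⟩ : ↥A)) ?_ ?_ ?_ ?_
    · intro b _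
      rw [Finset.mem_filter]
      exact ⟨Finset.mem_univ _, b.2⟩
    · intro b _ b' _ hbb
      have hv := congrArg (fun y : ↥A => (y : H)) hbb
      exact Subtype.ext hv
    · intro y hy
      rw [Finset.mem_filter] at hy
      exact ⟨⟨y.1, hy.2⟩, Finset.mem_univ _, rfl⟩
    · intro b _
      rw [hfapp]
  have hBne : (Nat.card ↥B : ℂ) ≠ 0 := by exact_mod_cast Nat.card_pos.ne'
  have hAne : (Nat.card ↥A : ℂ) ≠ 0 := by exact_mod_cast Nat.card_pos.ne'
  have hD : Cfsg.classInner f f * (Nat.card ↥B : ℂ) = (Nat.card ↥A : ℂ) := by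
    have h1 : ∑ y : ↥A, ξ y * conj (ξ y) = (Nat.card ↥A : ℂ) := by
      unfold Cfsg.classInner at hA
      field_simp at hA
      exact hA
    unfold Cfsg.classInner
    rw [hsum, h1]
    field_simp
  rw [hP] at hD
  have hN : (a ^ 2 * Nat.card {ν : ↥B → ℂ // ∃ g ∈ A, ν = cj B g μ}) * Nat.card ↥B = Nat.card ↥A := by
    exact_mod_cast hD
  have hrel : B.relIndex A * Nat.card ↥B = Nat.card ↥A := by
    have := Subgroup.relIndex_mul_relIndex ⊥ B A bot_le hBA
    rw [Subgroup.relIndex_bot_left, Subgroup.relIndex_bot_left] at this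
    rw [mul_comm]
    exact this
  have hBpos : 0 < Nat.card ↥B := Nat.card_pos
  exact Nat.eq_of_mul_eq_mul_right hBpos (hN.trans hrel.symm)

end fin

end Cfsg.Agent.Lib.Helper79_HI_BCNT
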