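import Mathlib
import Cfsg.Prelude.Def_Characters
import Cfsg.Agent.Lib.Helper76_HIDefs

/-!
# S4563 + S4564 (market `hi_packages`, architect helper76), package D2

`core_fix`: `N_K(B)` fixes `μ` (a normal subgroup with a `p'`-index subgroup acting trivially acts
trivially on a transitive set of `p`-power size; proved here as `normal_trivial'`).
-/

set_option autoImplicit false
open scoped ComplexConjugate

namespace Cfsg.Agent.Lib.Helper79_HI_D2

open Cfsg Cfsg.Agent.Lib.Helper76_HIDefs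

set_option linter.unusedVariables false in
/-- the statement of package ABS -/
theorem normal_trivial' {M Ω : Type*} [Group M] [Finite M] [MulAction M Ω] [Finite Ω]
    [MulAction.IsPretransitive M Ω] (p : ℕ) (hp : p.Prime) (v : ℕ) (hΩ : Nat.card Ω = p ^ v)
    (N N₀ : Subgroup M) [N.Normal] (hle : N₀ ≤ N) (hfix : ∀ n ∈ N₀, ∀ ω : Ω, n • ω = ω)
    (hpN : ¬ p ∣ N₀.relIndex N) : ∀ n ∈ N, ∀ ω : Ω, n • ω = ω := by
  intro n hn ω
  have hblock : MulAction.IsBlock M (MulAction.orbit N ω) := MulAction.IsBlock.orbit_of_normal ω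
  have hne : (MulAction.orbit N ω).Nonempty := ⟨ω, MulAction.mem_orbit_self ω⟩
  have h1 : (MulAction.orbit N ω).ncard ∣ p ^ v := by
    rw [← hΩ]
    exact hblock.ncard_dvd_card hne
  have h2 : (MulAction.orbit N ω).ncard ∣ N₀.relIndex N := by
    rw [← MulAction.index_stabilizer]
    apply Subgroup.index_dvd_of_le
    intro x hx
    rw [MulAction.mem_stabilizer_iff]
    exact hfix x.1 hx ω
  obtain ⟨k, -, hk⟩ := (Nat.dvd_prime_pow hp).1 h1
  have hk0 : k = 0 := by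
    by_contra hk0
    apply hpN
    refine dvd_trans ?_ h2
    rw [hk]
    exact dvd_pow_self p hk0
  rw [hk0, pow_zero, Set.ncard_eq_one] at hk
  obtain ⟨a, ha⟩ := hk
  have h3 : ω ∈ MulAction.orbit N ω := MulAction.mem_orbit_self ω
  have h4 : (⟨n, hn⟩ : N) • ω ∈ MulAction.orbit N ω := MulAction.mem_orbit ω _
  rw [ha, Set.mem_singleton_iff] at h3 h4
  have h5 : (⟨n, hn⟩ : N) • ω = n • ω := rfl
  rw [← h5, h4, h3]

section fin
variable {H : Type*} [Group H] [Finite H]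

omit [Finite H] in
/-- inner automorphisms fix class functions -/
theorem cj_of_mem' {B : Subgroup H} {q : H} (hq : q ∈ B) {ν : ↥B → ℂ}
    (hν : Cfsg.IsClassFunction ↥B ν) : cj B q ν = ν := by
  funext y
  have h : q⁻¹ * y.1 * q ∈ B := B.mul_mem (B.mul_mem (B.inv_mem hq) y.2) hq
  rw [cj_apply ν y h]
  have := hν y ⟨q⁻¹, B.inv_mem hq⟩
  rw [← this]
  congr 1
  apply Subtype.ext
  simp

/-! ### D2 (DB): `N_K(B)` fixes `μ` -/
theorem core_fix (B K Q : Subgroup H) (nK : K.Normal)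
    (hQN : Q ≤ Subgroup.normalizer (B : Set H)) (hBK : B ≤ K) (p : ℕ) (hp : p.Prime) (v : ℕ)
    (hpK : ¬ p ∣ B.relIndex K) (μ : ↥B → ℂ)
    (hcl : ∀ g ∈ Q, Cfsg.IsClassFunction ↥B (cj B g μ))
    (horb : ∀ ν : ↥B → ℂ, (∃ h ∈ Subgroup.normalizer (B : Set H), ν = cj B h μ) ↔
      ∃ g ∈ Q, ν = cj B g μ)
    (hcard : Nat.card {ν : ↥B → ℂ // ∃ g ∈ Q, ν = cj B g μ} = p ^ v) :
    Subgroup.normalizer (B : Set H) ⊓ K ≤ stabIn (Subgroup.normalizer (B : Set H)) B μ := by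
  classical
  have := nK
  set NB : Subgroup H := Subgroup.normalizer (B : Set H) with hNB
  have hBN : B ≤ NB := Subgroup.le_normalizer
  -- the action on the orbit
  have hmem : ∀ (m : ↥NB) (ν : ↥B → ℂ), (∃ g ∈ Q, ν = cj B g μ) → ∃ g ∈ Q, cj B m.1 ν = cj B g μ := by
    rintro m ν ⟨g, hg, rfl⟩
    apply (horb _).1
    exact ⟨m.1 * g, NB.mul_mem m.2 (hQN hg), (cj_mul m.2 (hQN hg) μ).symm⟩
  let act : MulAction ↥NB {ν : ↥B → ℂ // ∃ g ∈ Q, ν = cj B g μ} :=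
    { smul := fun m ω => ⟨cj B m.1 ω.1, hmem m ω.1 ω.2⟩
      one_smul := fun ω => Subtype.ext (cj_one B ω.1)
      mul_smul := fun m m' ω => Subtype.ext (cj_mul m.2 m'.2 ω.1) }
  have hsmul : ∀ (m : ↥NB) (ω : {ν : ↥B → ℂ // ∃ g ∈ Q, ν = cj B g μ}),
      (m • ω).1 = cj B m.1 ω.1 := fun _ _ => rfl
  have : Finite {ν : ↥B → ℂ // ∃ g ∈ Q, ν = cj B g μ} := by
    apply Nat.finite_of_card_ne_zero
    rw [hcard]
    exact pow_ne_zero _ hp.ne_zero
  have : MulAction.IsPretransitive ↥NB {ν : ↥B → ℂ // ∃ g ∈ Q, ν = cj B g μ} := by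
    constructor
    rintro ⟨ν₁, g₁, hg₁, rfl⟩ ⟨ν₂, g₂, hg₂, rfl⟩
    refine ⟨⟨g₂ * g₁⁻¹, NB.mul_mem (hQN hg₂) (NB.inv_mem (hQN hg₁))⟩, ?_⟩
    apply Subtype.ext
    rw [hsmul]
    show cj B (g₂ * g₁⁻¹) (cj B g₁ μ) = cj B g₂ μ
    rw [cj_mul (hQN hg₂) (NB.inv_mem (hQN hg₁)), cj_inv_cj (hQN hg₁)]
  have hfix : ∀ n ∈ B.subgroupOf NB, ∀ ω : {ν : ↥B → ℂ // ∃ g ∈ Q, ν = cj B g μ}, n • ω = ω := by
    rintro n hn ⟨ν, g, hg, rfl⟩
    apply Subtype.ext
    rw [hsmul]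
    exact cj_of_mem' (Subgroup.mem_subgroupOf.1 hn) (hcl g hg)
  have hle : B.subgroupOf NB ≤ K.subgroupOf NB := fun x hx => hBK hx
  have hpN : ¬ p ∣ (B.subgroupOf NB).relIndex (K.subgroupOf NB) := by
    rw [← Subgroup.inf_subgroupOf_right K NB,
      Subgroup.relIndex_subgroupOf (inf_le_right : K ⊓ NB ≤ NB)]
    intro hdvd
    apply hpK
    rw [← Subgroup.relIndex_mul_relIndex B (K ⊓ NB) K (le_inf hBK hBN) inf_le_left]
    exact dvd_mul_of_dvd_left hdvd _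
  have key := normal_trivial' p hp v hcard (K.subgroupOf NB) (B.subgroupOf NB) hle hfix hpN
  intro x hx
  rw [Subgroup.mem_inf] at hx
  refine ⟨hx.1, hx.1, ?_⟩
  have h1 := key ⟨x, hx.1⟩ (Subgroup.mem_subgroupOf.2 hx.2)
    ⟨μ, 1, Q.one_mem, (cj_one B μ).symm⟩
  have h2 := congrArg Subtype.val h1
  rw [hsmul] at h2
  exact h2

end fin

end Cfsg.Agent.Lib.Helper79_HI_D2
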