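import Mathlib
import Cfsg.Prelude.Def_Characters
import Cfsg.Agent.Lib.Helper76_HIDefs
import Cfsg.Agent.Lib.Helper75_CharArith
import Cfsg.Agent.Lib.Helper75_Clifford
import Cfsg.Agent.Lib.Helper80_CharComplete
import Cfsg.Agent.Lib.Helper80_FullyRamified

set_option autoImplicit false
set_option linter.unusedSectionVars false
set_option linter.unusedVariables false

/-!
# hi_packages (architect helper76), package A2: Claim A (DeMeyer–Janusz).
`ξ = e_p θ` on `Z`, `0` off `Z`, is irreducible on `Q` and `χ_Q = e_{p'} ξ`.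
-/

open scoped ComplexConjugate

namespace Cfsg.Agent.Lib.Helper82_HI_A2

open Cfsg Cfsg.Agent.Lib.Helper76_HIDefs

section fin
variable {H : Type*} [Group H] [Finite H]

/-- sum over `Q` of a function vanishing off `Z ≤ Q` -/
theorem h82_sum_of_vanish {M : Type*} [AddCommMonoid M] {Z Q : Subgroup H} [Fintype ↥Z]
    [Fintype ↥Q] (hZQ : Z ≤ Q) (f : ↥Q → M) (hf : ∀ y : ↥Q, y.1 ∉ Z → f y = 0) :
    ∑ y : ↥Q, f y = ∑ z : ↥Z, f ⟨z.1, hZQ z.2⟩ := by
  symm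
  refine Fintype.sum_of_injective (fun z : ↥Z => (⟨z.1, hZQ z.2⟩ : ↥Q)) ?_ _ _ ?_ (fun _ => rfl)
  · intro a b hab
    apply Subtype.ext
    exact congrArg (fun y : ↥Q => y.1) hab
  · intro y hy
    apply hf
    intro hyZ
    exact hy ⟨⟨y.1, hyZ⟩, rfl⟩

open scoped Classical in
/-- splitting a real sum over `Q` into the part over `Z` and the rest -/
theorem h82_sum_split {Z Q : Subgroup H} [Fintype ↥Z] [Fintype ↥Q] (hZQ : Z ≤ Q) (g : ↥Q → ℝ) :
    ∑ y : ↥Q, g y = ∑ z : ↥Z, g ⟨z.1, hZQ z.2⟩ +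
      ∑ y : ↥Q, (if y.1 ∈ Z then 0 else g y) := by
  have h1 : ∑ y : ↥Q, (if y.1 ∈ Z then g y else 0) = ∑ z : ↥Z, g ⟨z.1, hZQ z.2⟩ := by
    rw [h82_sum_of_vanish hZQ _ (fun y hy => if_neg hy)]
    apply Finset.sum_congr rfl
    intro z _
    rw [if_pos z.2]
  rw [← h1, ← Finset.sum_add_distrib]
  apply Finset.sum_congr rfl
  intro y _
  split_ifs <;> simp

theorem h82_card_of_relIndex {Z Q : Subgroup H} (hZQ : Z ≤ Q) :
    Z.relIndex Q * Nat.card ↥Z = Nat.card ↥Q := by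
  rw [Subgroup.relIndex, ← (Z.subgroupOf Q).index_mul_card]
  congr 1
  exact (Nat.card_congr (Subgroup.subgroupOfEquivOfLe hZQ).toEquiv).symm

/-! ### A2: Claim A (DeMeyer–Janusz): `ξ = e_p θ` on `Z`, `0` off `Z`, is irreducible on `Q` and
`χ_Q = e_{p'} ξ` -/
theorem claimA {Z K : Subgroup H} {χ : H → ℂ} {θ : ↥Z → ℂ} {e p : ℕ} (c : Ctx Z K χ θ e p)
    (Q : Subgroup H) (hZQ : Z ≤ Q) (hQ : Z.relIndex Q = p ^ (Z.index.factorization p))
    (hA1 : ∀ η : ↥Q → ℂ, Cfsg.IsIrrCharacter ↥Q η → ip (rsH Q χ) η ≠ 0 →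
      ∃ b : ℕ, ∀ z : ↥Z, η ⟨z.1, hZQ z.2⟩ = (b : ℂ) * θ z) :
    Cfsg.IsIrrCharacter ↥Q (xi Z Q θ (p ^ e.factorization p)) ∧
    ∀ y : ↥Q, χ y.1 =
      ((e / p ^ e.factorization p : ℕ) : ℂ) * xi Z Q θ (p ^ e.factorization p) y := by
  classical
  let _ : Fintype H := Fintype.ofFinite H
  let _ : Fintype ↥Z := Fintype.ofFinite ↥Z
  let _ : Fintype ↥Q := Fintype.ofFinite ↥Q
  obtain ⟨nZ, nK, hZK, hχ, hθ, he, hres, hp⟩ := c
  have hidx : Z.index ≠ 0 := Subgroup.index_ne_zero_of_finite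
  have he0 : e ≠ 0 := by
    intro h
    rw [h] at he
    exact hidx (by rw [← he]; norm_num)
  obtain ⟨w, hw⟩ : ∃ w, w = e.factorization p := ⟨_, rfl⟩
  rw [← hw]
  have hfac : Z.index.factorization p = 2 * w := by
    rw [← he, Nat.factorization_pow, hw]
    rfl
  have hpw : 0 < p ^ w := pow_pos hp.pos w
  have hdvd : p ^ w ∣ e := by
    rw [hw]
    exact Nat.ordProj_dvd e p
  obtain ⟨e', he'⟩ := hdvd
  have hdiv : e / p ^ w = e' := by rw [he', Nat.mul_div_cancel_left _ hpw]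
  have hcop : Nat.Coprime (p ^ w) e' := by
    apply Nat.Coprime.pow_left
    rw [← hdiv, hw]
    exact Nat.coprime_ordCompl hp he0
  -- vanishing
  have hvan : ∀ x : H, x ∉ Z → χ x = 0 := fun x hx =>
    Cfsg.Agent.Lib.Helper80_FullyRamified.vanish_off Z ⟨χ, hχ⟩ ⟨θ, hθ⟩ e he hres hx
  have h2 : ∀ y : ↥Q, χ y.1 = ((e / p ^ w : ℕ) : ℂ) * xi Z Q θ (p ^ w) y := by
    intro y
    by_cases hy : y.1 ∈ Z
    · rw [xi_apply_mem _ _ _ hy, hdiv, ← mul_assoc]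
      have := hres ⟨y.1, hy⟩
      rw [this]
      congr 1
      rw [he']
      push_cast
      ring
    · rw [xi_apply_not_mem _ _ _ hy, mul_zero, hvan _ hy]
  refine ⟨?_, h2⟩
  -- cardinalities
  have hN : 0 < Nat.card ↥Z := Nat.card_pos
  have hcardQ : Nat.card ↥Q = p ^ (2 * w) * Nat.card ↥Z := by
    rw [← hfac, ← hQ]
    exact (h82_card_of_relIndex hZQ).symm
  -- `χ_Q` is a character, with a constituent
  have hχQ : Cfsg.IsCharacter ↥Q (rsH Q χ) :=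
    Cfsg.Agent.Lib.Helper75_CharArith.isCharacter_restrict Q
      (Cfsg.Agent.Lib.Helper3_CharBridge.isCharacter_of_isIrrCharacter hχ)
  obtain ⟨m, hm, hsum⟩ := Cfsg.Agent.Lib.Helper75_CharArith.exists_multiplicities hχQ
  have hθ1 : θ 1 ≠ 0 := Cfsg.Agent.Lib.Helper75_Clifford.irr_one_ne_zero hθ
  have hχ1 : rsH Q χ 1 ≠ 0 := by
    have h3 := hres 1
    rw [Subgroup.coe_one] at h3
    rw [rsH_apply, Subgroup.coe_one, h3]
    exact mul_ne_zero (Nat.cast_ne_zero.mpr he0) hθ1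
  obtain ⟨η, hη⟩ : ∃ η : Cfsg.IrrCharacter ↥Q, m η ≠ 0 := by
    by_contra hcon
    push Not at hcon
    apply hχ1
    rw [hsum]
    simp [hcon]
  have hipη : ip (rsH Q χ) (η : ↥Q → ℂ) = (m η : ℂ) := by
    rw [ip_eq_classInner]
    exact hm η
  have hipne : ip (rsH Q χ) (η : ↥Q → ℂ) ≠ 0 := by
    rw [hipη]
    exact_mod_cast hη
  obtain ⟨b, hb⟩ := hA1 η.1 η.2 hipne
  have hθnorm : ∑ z : ↥Z, θ z * conj (θ z) = (Nat.card ↥Z : ℂ) :=
    Cfsg.Agent.Lib.Helper80_CharComplete.irr_norm_conj ⟨θ, hθ⟩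
  have hηnorm : ∑ y : ↥Q, η.1 y * conj (η.1 y) = (Nat.card ↥Q : ℂ) :=
    Cfsg.Agent.Lib.Helper80_CharComplete.irr_norm_conj η
  -- (*): `m p^{2w} = e b`
  have h1 : ∑ y : ↥Q, rsH Q χ y * conj (η.1 y) = (e : ℂ) * b * Nat.card ↥Z := by
    rw [h82_sum_of_vanish hZQ _ (fun y hy => by rw [rsH_apply, hvan _ hy, zero_mul])]
    have h3 : ∀ z : ↥Z, rsH Q χ ⟨z.1, hZQ z.2⟩ * conj (η.1 ⟨z.1, hZQ z.2⟩) =
        (e : ℂ) * b * (θ z * conj (θ z)) := by
      intro z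
      rw [rsH_apply, hb z, map_mul, Complex.conj_natCast]
      have := hres z
      simp only at this ⊢
      rw [this]
      ring
    simp only [h3]
    rw [← Finset.mul_sum, hθnorm]
  have hNc : (Nat.card ↥Z : ℂ) ≠ 0 := by exact_mod_cast hN.ne'
  have hkey1 : m η * p ^ (2 * w) = e * b := by
    have h3 : Cfsg.classInner (rsH Q χ) η.1 = (m η : ℂ) := hm η
    unfold Cfsg.classInner at h3
    rw [h1, hcardQ] at h3
    have hQc : (((p ^ (2 * w) * Nat.card ↥Z : ℕ)) : ℂ) ≠ 0 := by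
      exact_mod_cast (Nat.mul_pos (pow_pos hp.pos _) hN).ne'
    rw [inv_mul_eq_iff_eq_mul₀ hQc] at h3
    have h4 : ((m η * p ^ (2 * w) : ℕ) : ℂ) * (Nat.card ↥Z : ℂ) =
        ((e * b : ℕ) : ℂ) * (Nat.card ↥Z : ℂ) := by
      push_cast at h3 ⊢
      linear_combination -h3
    exact_mod_cast mul_right_cancel₀ hNc h4
  have hkey2 : m η * p ^ w = e' * b := by
    have h3 : p ^ w * (m η * p ^ w) = p ^ w * (e' * b) := by
      calc p ^ w * (m η * p ^ w) = m η * p ^ (2 * w) := by ring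
        _ = e * b := hkey1
        _ = p ^ w * (e' * b) := by rw [he']; ring
    exact Nat.eq_of_mul_eq_mul_left hpw h3
  have hb0 : b ≠ 0 := by
    intro h
    rw [h, mul_zero] at hkey2
    rcases Nat.mul_eq_zero.mp hkey2 with h3 | h3
    · exact hη h3
    · exact hpw.ne' h3
  have hdvdb : p ^ w ∣ b := by
    have h3 : p ^ w ∣ e' * b := ⟨m η, by rw [← hkey2]; ring⟩
    exact hcop.dvd_of_dvd_mul_left h3
  have hle1 : p ^ w ≤ b := Nat.le_of_dvd (Nat.pos_of_ne_zero hb0) hdvdb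
  -- norms
  have hnormR : ∑ y : ↥Q, Complex.normSq (η.1 y) = (Nat.card ↥Q : ℝ) := by
    have h6 : ∀ y : ↥Q, η.1 y * conj (η.1 y) = ((Complex.normSq (η.1 y) : ℝ) : ℂ) :=
      fun y => Complex.mul_conj _
    simp only [h6] at hηnorm
    exact_mod_cast hηnorm
  have hθnormR : ∑ z : ↥Z, Complex.normSq (θ z) = (Nat.card ↥Z : ℝ) := by
    have h6 : ∀ z : ↥Z, θ z * conj (θ z) = ((Complex.normSq (θ z) : ℝ) : ℂ) :=
      fun z => Complex.mul_conj _
    simp only [h6] at hθnorm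
    exact_mod_cast hθnorm
  rw [h82_sum_split hZQ] at hnormR
  have hZpart : ∑ z : ↥Z, Complex.normSq (η.1 ⟨z.1, hZQ z.2⟩) =
      (b : ℝ) ^ 2 * Nat.card ↥Z := by
    have h3 : ∀ z : ↥Z, Complex.normSq (η.1 ⟨z.1, hZQ z.2⟩) =
        (b : ℝ) ^ 2 * Complex.normSq (θ z) := by
      intro z
      rw [hb z, Complex.normSq_mul, Complex.normSq_natCast]
      ring
    simp only [h3]
    rw [← Finset.mul_sum, hθnormR]
  rw [hZpart] at hnormR
  have hS0 : 0 ≤ ∑ y : ↥Q, (if y.1 ∈ Z then 0 else Complex.normSq (η.1 y)) := by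
    apply Finset.sum_nonneg
    intro y _
    split_ifs
    · exact le_rfl
    · exact Complex.normSq_nonneg _
  have hcardQR : (Nat.card ↥Q : ℝ) = ((p ^ w : ℕ) : ℝ) ^ 2 * Nat.card ↥Z := by
    rw [hcardQ]
    push_cast
    ring
  have hNR : (0 : ℝ) < Nat.card ↥Z := by exact_mod_cast hN
  have hble : b ≤ p ^ w := by
    have h5 : (b : ℝ) ^ 2 * Nat.card ↥Z ≤ ((p ^ w : ℕ) : ℝ) ^ 2 * Nat.card ↥Z := by
      rw [← hcardQR, ← hnormR]
      linarith
    have h6 : (b : ℝ) ^ 2 ≤ ((p ^ w : ℕ) : ℝ) ^ 2 := le_of_mul_le_mul_right h5 hNR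
    have h7 : (b : ℝ) ≤ ((p ^ w : ℕ) : ℝ) :=
      (pow_le_pow_iff_left₀ (Nat.cast_nonneg b) (Nat.cast_nonneg _) (by norm_num)).mp h6
    exact_mod_cast h7
  have hbeq : b = p ^ w := le_antisymm hble hle1
  have hSzero : ∑ y : ↥Q, (if y.1 ∈ Z then 0 else Complex.normSq (η.1 y)) = 0 := by
    rw [hcardQR, hbeq] at hnormR
    linarith
  have hoff : ∀ y : ↥Q, y.1 ∉ Z → η.1 y = 0 := by
    intro y hy
    have h3 := (Finset.sum_eq_zero_iff_of_nonneg (fun y _ => by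
      split_ifs
      · exact le_rfl
      · exact Complex.normSq_nonneg _)).mp hSzero y (Finset.mem_univ y)
    rw [if_neg hy] at h3
    exact Complex.normSq_eq_zero.mp h3
  have hηxi : η.1 = xi Z Q θ (p ^ w) := by
    funext y
    by_cases hy : y.1 ∈ Z
    · rw [xi_apply_mem _ _ _ hy, ← hbeq]
      exact hb ⟨y.1, hy⟩
    · rw [xi_apply_not_mem _ _ _ hy, hoff y hy]
  rw [← hηxi]
  exact η.2

end fin

end Cfsg.Agent.Lib.Helper82_HI_A2
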