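import Mathlib
import Cfsg.Prelude.Def_Characters
import Cfsg.Agent.Lib.Helper76_HIDefs

set_option autoImplicit false
set_option linter.unusedSectionVars false
set_option linter.unusedVariables false

/-!
# hi_packages (architect helper76), package ORB: orbit-stabilizer for `cj`.
-/

open scoped ComplexConjugate

namespace Cfsg.Agent.Lib.Helper82_HI_ORB

open Cfsg Cfsg.Agent.Lib.Helper76_HIDefs

section fin
variable {H : Type*} [Group H] [Finite H]

/-! ### ORB: orbit-stabilizer for `cj` -/
theorem orbit_card (A B : Subgroup H) (hAN : A ≤ Subgroup.normalizer (B : Set H))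
    (μ : ↥B → ℂ) :
    Nat.card {ν : ↥B → ℂ // ∃ g ∈ A, ν = cj B g μ} = (stabIn A B μ).relIndex A := by
  let act : MulAction ↥A (↥B → ℂ) :=
    { smul := fun g f => cj B g.1 f
      one_smul := fun f => cj_one B f
      mul_smul := fun g h f => cj_mul (hAN g.2) (hAN h.2) f }
  have hstab : MulAction.stabilizer ↥A μ = (stabIn A B μ).subgroupOf A := by
    ext g
    rw [MulAction.mem_stabilizer_iff, Subgroup.mem_subgroupOf, mem_stabIn]
    constructor
    · intro h
      exact ⟨g.2, hAN g.2, h⟩
    · intro h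
      exact h.2.2
  have horb : (MulAction.orbit ↥A μ) = {ν : ↥B → ℂ | ∃ g ∈ A, ν = cj B g μ} := by
    ext ν
    constructor
    · rintro ⟨g, rfl⟩
      exact ⟨g.1, g.2, rfl⟩
    · rintro ⟨g, hg, rfl⟩
      exact ⟨⟨g, hg⟩, rfl⟩
  rw [Subgroup.relIndex, ← hstab, MulAction.index_stabilizer, horb]
  rfl

end fin

end Cfsg.Agent.Lib.Helper82_HI_ORB
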