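import Mathlib
import Cfsg.Prelude.Def_Characters
import Cfsg.Agent.Lib.Helper76_HIDefs

/-!
# hi_packages AP (helper85): `claimA'`

`[ξ_B, ν] = (cc·|Z|/|B|)·conj [ν_Z, θ]` for `ξ = cc • θ` on `Z`, `0` off `Z`, and `Z ≤ B ≤ Q`.
-/

set_option autoImplicit false
set_option linter.unusedSectionVars false
set_option linter.unusedVariables false
open scoped ComplexConjugate

namespace Cfsg.Agent.Lib.Helper85_HI_AP

open Cfsg Cfsg.Agent.Lib.Helper76_HIDefs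

section fin
variable {H : Type*} [Group H] [Finite H]

/-- the basic sum identity: summing over `B` a function supported on `Z ≤ B` -/
theorem h85_sum_supported (Z B : Subgroup H) (hZB : Z ≤ B) [Fintype ↥B] [Fintype ↥Z]
    (F : ↥B → ℂ) (hF : ∀ b : ↥B, b.1 ∉ Z → F b = 0) :
    ∑ b : ↥B, F b = ∑ z : ↥Z, F ⟨z.1, hZB z.2⟩ := by
  classical
  symm
  have hinj : Function.Injective (fun z : ↥Z => (⟨z.1, hZB z.2⟩ : ↥B)) := by
    intro a b hab
    apply Subtype.ext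
    exact congrArg (fun x : ↥B => x.1) hab
  have h1 : ∑ z : ↥Z, F ⟨z.1, hZB z.2⟩ =
      ∑ b ∈ Finset.univ.map ⟨fun z : ↥Z => (⟨z.1, hZB z.2⟩ : ↥B), hinj⟩, F b := by
    rw [Finset.sum_map]
    rfl
  rw [h1]
  apply Finset.sum_subset (Finset.subset_univ _)
  intro b _ hb
  apply hF
  intro hbZ
  apply hb
  rw [Finset.mem_map]
  exact ⟨⟨b.1, hbZ⟩, Finset.mem_univ _, rfl⟩

/-- the explicit formula -/
theorem h85_ip_formula (Z Q B : Subgroup H) (hZB : Z ≤ B) (hBQ : B ≤ Q) (θ : ↥Z → ℂ) (cc : ℕ)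
    (ν : ↥B → ℂ) :
    ip (rs Q B (xi Z Q θ cc)) ν =
      (Nat.card ↥B : ℂ)⁻¹ * (cc : ℂ) * (Nat.card ↥Z : ℂ) * conj (ip (rs B Z ν) θ) := by
  classical
  let _ : Fintype ↥B := Fintype.ofFinite _
  let _ : Fintype ↥Z := Fintype.ofFinite _
  have hZ0 : (Nat.card ↥Z : ℂ) ≠ 0 := by
    exact_mod_cast (Nat.card_pos (α := ↥Z)).ne'
  rw [ip_eq_classInner, ip_eq_classInner]
  unfold Cfsg.classInner
  rw [h85_sum_supported Z B hZB (fun b => rs Q B (xi Z Q θ cc) b * conj (ν b))]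
  · rw [map_mul, map_inv₀, Complex.conj_natCast, map_sum]
    have hterm : ∀ z : ↥Z, rs Q B (xi Z Q θ cc) ⟨z.1, hZB z.2⟩ * conj (ν ⟨z.1, hZB z.2⟩) =
        (cc : ℂ) * conj (rs B Z ν z * conj (θ z)) := by
      intro z
      rw [rs_apply (A := Q) (B := B) (xi Z Q θ cc) ⟨z.1, hZB z.2⟩ (hBQ (hZB z.2)),
        xi_apply_mem (Q := Q) θ cc ⟨z.1, hBQ (hZB z.2)⟩ z.2,
        rs_apply (A := B) (B := Z) ν z (hZB z.2), map_mul, Complex.conj_conj]
      ring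
    rw [Finset.sum_congr rfl (fun z _ => hterm z), ← Finset.mul_sum]
    field_simp
  · intro b hb
    rw [rs_apply (A := Q) (B := B) (xi Z Q θ cc) b (hBQ b.2),
      xi_apply_not_mem (Q := Q) θ cc ⟨b.1, hBQ b.2⟩ hb, zero_mul]

/-! ### AP: (A') the constituents of `ξ_B` are the irreducible characters of `B` over `θ` -/
theorem claimA' (Z Q B : Subgroup H) (hZB : Z ≤ B) (hBQ : B ≤ Q) (θ : ↥Z → ℂ) (cc : ℕ)
    (hcc : cc ≠ 0) (ν : ↥B → ℂ) :
    ip (rs Q B (xi Z Q θ cc)) ν ≠ 0 ↔ ip (rs B Z ν) θ ≠ 0 := by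
  have hZ0 : (Nat.card ↥Z : ℂ) ≠ 0 := by
    exact_mod_cast (Nat.card_pos (α := ↥Z)).ne'
  have hB0 : (Nat.card ↥B : ℂ) ≠ 0 := by
    exact_mod_cast (Nat.card_pos (α := ↥B)).ne'
  have hc0 : (cc : ℂ) ≠ 0 := by exact_mod_cast hcc
  rw [h85_ip_formula Z Q B hZB hBQ θ cc ν]
  constructor
  · intro h h0
    apply h
    rw [h0, map_zero, mul_zero]
  · intro h
    have h' : conj (ip (rs B Z ν) θ) ≠ 0 := by
      intro h0
      apply h
      have := congrArg conj h0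
      rwa [Complex.conj_conj, map_zero] at this
    exact mul_ne_zero (mul_ne_zero (mul_ne_zero (inv_ne_zero hB0) hc0) hZ0) h'

end fin

end Cfsg.Agent.Lib.Helper85_HI_AP
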