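import Mathlib
import Cfsg.Prelude.Def_Characters
import Cfsg.Agent.Lib.Helper76_HIDefs
import Cfsg.Agent.Lib.Helper3_CharBridge
import Cfsg.Agent.Lib.Helper75_Clifford

/-!
# hi_packages RCLIFF (helper88): Clifford's theorem for `B ⊴ A ≤ H`

Transport of `Helper75_Clifford.exists_conj_of_constituent` / `classInner_res_conjFun` /
`isIrrCharacter_conjFun` from the ambient group `↥A` with `N := B.subgroupOf A` along
`Subgroup.subgroupOfEquivOfLe hBA : ↥(B.subgroupOf A) ≃* ↥B`.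
-/

set_option autoImplicit false
open scoped ComplexConjugate

namespace Cfsg.Agent.Lib.Helper88_HI_RCLIFF

open Cfsg Cfsg.Agent.Lib.Helper76_HIDefs

section fin
variable {H : Type*} [Group H] [Finite H]

/-- pull a function on `B` back to `B.subgroupOf A` -/
def pull (A B : Subgroup H) (hBA : B ≤ A) (ν : ↥B → ℂ) : ↥(B.subgroupOf A) → ℂ :=
  fun k => ν (Subgroup.subgroupOfEquivOfLe hBA k)

theorem pull_apply (A B : Subgroup H) (hBA : B ≤ A) (ν : ↥B → ℂ) (k : ↥(B.subgroupOf A)) :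
    pull A B hBA ν k = ν (Subgroup.subgroupOfEquivOfLe hBA k) := rfl

theorem pull_injective (A B : Subgroup H) (hBA : B ≤ A) {ν ν' : ↥B → ℂ}
    (h : pull A B hBA ν = pull A B hBA ν') : ν = ν' := by
  funext b
  have h1 := congrFun h ((Subgroup.subgroupOfEquivOfLe hBA).symm b)
  rw [pull_apply, pull_apply, MulEquiv.apply_symm_apply] at h1
  exact h1

theorem res_eq_pull (A B : Subgroup H) (hBA : B ≤ A) (ξ : ↥A → ℂ) :
    Cfsg.Agent.Lib.Helper75_Clifford.res (B.subgroupOf A) ξ = pull A B hBA (rs A B ξ) := by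
  funext n
  rw [pull_apply, Cfsg.Agent.Lib.Helper75_Clifford.res_apply]
  rw [rs_apply ξ _ (hBA (Subgroup.subgroupOfEquivOfLe hBA n).2)]
  rfl

theorem ip_eq_pull (A B : Subgroup H) (hBA : B ≤ A) (φ ν : ↥B → ℂ) :
    ip φ ν = @Cfsg.classInner ↥(B.subgroupOf A) _ (Fintype.ofFinite _)
      (pull A B hBA φ) (pull A B hBA ν) := by
  letI : Fintype ↥(B.subgroupOf A) := Fintype.ofFinite _
  letI : Fintype ↥B := Fintype.ofFinite _
  rw [ip_eq_classInner]
  exact (Cfsg.Agent.Lib.Helper75_Clifford.classInner_comp_equiv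
    (Subgroup.subgroupOfEquivOfLe hBA) φ ν).symm

theorem conjFun_pull (A B : Subgroup H) (hBA : B ≤ A)
    (hN : (B.subgroupOf A).Normal) (hAN : A ≤ Subgroup.normalizer (B : Set H))
    (μ : ↥B → ℂ) (g : ↥A) :
    Cfsg.Agent.Lib.Helper75_Clifford.conjFun (B.subgroupOf A) hN (pull A B hBA μ) g =
      pull A B hBA (cj B (g⁻¹ : ↥A).1 μ) := by
  funext n
  rw [Cfsg.Agent.Lib.Helper75_Clifford.conjFun_apply, pull_apply, pull_apply]
  have hg : ((g⁻¹ : ↥A) : H) ∈ Subgroup.normalizer (B : Set H) := hAN (g⁻¹ : ↥A).2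
  rw [cj_apply' hg]
  congr 1
  apply Subtype.ext
  simp [Subgroup.subgroupOfEquivOfLe]

theorem isIrr_pull (A B : Subgroup H) (hBA : B ≤ A) {μ : ↥B → ℂ}
    (hμ : Cfsg.IsIrrCharacter ↥B μ) :
    Cfsg.IsIrrCharacter ↥(B.subgroupOf A) (pull A B hBA μ) :=
  Cfsg.Agent.Lib.Helper75_Clifford.isIrrCharacter_comp_equiv _ hμ

theorem isIrr_of_pull (A B : Subgroup H) (hBA : B ≤ A) {μ : ↥B → ℂ}
    (hμ : Cfsg.IsIrrCharacter ↥(B.subgroupOf A) (pull A B hBA μ)) :
    Cfsg.IsIrrCharacter ↥B μ := by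
  have h := Cfsg.Agent.Lib.Helper75_Clifford.isIrrCharacter_comp_equiv
    (Subgroup.subgroupOfEquivOfLe hBA).symm hμ
  have h2 : (fun b : ↥B => pull A B hBA μ ((Subgroup.subgroupOfEquivOfLe hBA).symm b)) = μ := by
    funext b
    rw [pull_apply, MulEquiv.apply_symm_apply]
  rw [h2] at h
  exact h

/-! ### RCLIFF: Clifford's theorem for `B ⊴ A ≤ H` -/
theorem rel_clifford (A B : Subgroup H) (hBA : B ≤ A)
    (hAN : A ≤ Subgroup.normalizer (B : Set H)) {ξ : ↥A → ℂ} (hξ : Cfsg.IsIrrCharacter ↥A ξ)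
    {μ : ↥B → ℂ} (hμ : Cfsg.IsIrrCharacter ↥B μ) (h1 : ip (rs A B ξ) μ ≠ 0) :
    (∀ ν : ↥B → ℂ, Cfsg.IsIrrCharacter ↥B ν →
      (ip (rs A B ξ) ν ≠ 0 ↔ ∃ g ∈ A, ν = cj B g μ)) ∧
    (∀ g ∈ A, Cfsg.IsIrrCharacter ↥B (cj B g μ) ∧
      ip (rs A B ξ) (cj B g μ) = ip (rs A B ξ) μ) := by
  have hN : (B.subgroupOf A).Normal := (Subgroup.normal_subgroupOf_iff_le_normalizer hBA).mpr hAN
  letI : Fintype ↥A := Fintype.ofFinite _
  letI : Fintype ↥(B.subgroupOf A) := Fintype.ofFinite _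
  have hξc : Cfsg.IsClassFunction ↥A ξ :=
    Cfsg.Agent.Lib.Helper3_CharBridge.isClassFunction_of_isIrrCharacter hξ
  -- part 2
  have hP2 : ∀ g ∈ A, Cfsg.IsIrrCharacter ↥B (cj B g μ) ∧
      ip (rs A B ξ) (cj B g μ) = ip (rs A B ξ) μ := by
    intro g hg
    have hc := conjFun_pull A B hBA hN hAN μ (⟨g, hg⟩⁻¹ : ↥A)
    rw [inv_inv] at hc
    constructor
    · apply isIrr_of_pull A B hBA
      have := Cfsg.Agent.Lib.Helper75_Clifford.isIrrCharacter_conjFun (B.subgroupOf A) hN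
        (isIrr_pull A B hBA hμ) (⟨g, hg⟩⁻¹ : ↥A)
      rw [hc] at this
      exact this
    · rw [ip_eq_pull A B hBA, ip_eq_pull A B hBA, ← res_eq_pull]
      have hc' : pull A B hBA (cj B g μ) =
          Cfsg.Agent.Lib.Helper75_Clifford.conjFun (B.subgroupOf A) hN (pull A B hBA μ)
            (⟨g, hg⟩⁻¹ : ↥A) := hc.symm
      rw [hc']
      exact Cfsg.Agent.Lib.Helper75_Clifford.classInner_res_conjFun (B.subgroupOf A) hN hξc _ _
  refine ⟨?_, hP2⟩
  intro ν hν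
  constructor
  · intro h2
    have h1' : Cfsg.classInner (Cfsg.Agent.Lib.Helper75_Clifford.res (B.subgroupOf A) ξ)
        (pull A B hBA μ) ≠ 0 := by
      rw [res_eq_pull A B hBA, ← ip_eq_pull A B hBA]
      exact h1
    have h2' : Cfsg.classInner (Cfsg.Agent.Lib.Helper75_Clifford.res (B.subgroupOf A) ξ)
        (pull A B hBA ν) ≠ 0 := by
      rw [res_eq_pull A B hBA, ← ip_eq_pull A B hBA]
      exact h2
    obtain ⟨g, hg⟩ := Cfsg.Agent.Lib.Helper75_Clifford.exists_conj_of_constituent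
      (B.subgroupOf A) hN hξ (isIrr_pull A B hBA hμ) (isIrr_pull A B hBA hν) h1' h2'
    rw [conjFun_pull A B hBA hN hAN μ g] at hg
    exact ⟨(g⁻¹ : ↥A).1, (g⁻¹ : ↥A).2, pull_injective A B hBA hg⟩
  · rintro ⟨g, hg, rfl⟩
    rw [(hP2 g hg).2]
    exact h1

end fin

end Cfsg.Agent.Lib.Helper88_HI_RCLIFF
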