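import Mathlib
import Cfsg.Prelude.Def_Characters
import Cfsg.Agent.Lib.Helper76_HIDefs

/-!
# S4563 + S4564, market `hi_packages` (architect helper76), package CYC:
`Q / (Q ∩ K)` is cyclic if `H / K` has a cyclic Sylow `p`-subgroup
-/

set_option autoImplicit false
open scoped ComplexConjugate

namespace Cfsg.Agent.Lib.Helper91_HI_CYC

open Cfsg Cfsg.Agent.Lib.Helper76_HIDefs

section fin
variable {H : Type*} [Group H] [Finite H]

/-! ### CYC: `Q / (Q ∩ K)` is cyclic if `H / K` has a cyclic Sylow `p`-subgroup (pure group theory) -/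
theorem cyc_of_sylow (K : Subgroup H) [K.Normal] (p : ℕ) [Fact p.Prime] (P : Sylow p (H ⧸ K))
    (hcyc : IsCyclic P) (Q : Subgroup H) (hQ : ∃ n : ℕ, (Q ⊓ K).relIndex Q = p ^ n) :
    ∃ g ∈ Q, ∀ x ∈ Q, ∃ k : ℕ, ∃ b ∈ Q ⊓ K, x = g ^ k * b := by
  obtain ⟨n, hn⟩ := hQ
  -- the image of `Q` in `H ⧸ K` is a `p`-group
  have hnorm : ((Q ⊓ K).subgroupOf Q).Normal := by
    rw [Subgroup.inf_subgroupOf_left]
    infer_instance
  have hpow : ∀ x ∈ Q, x ^ p ^ n ∈ K := by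
    intro x hx
    have h1 := ((Q ⊓ K).subgroupOf Q).pow_index_mem (⟨x, hx⟩ : ↥Q)
    have h2 : ((Q ⊓ K).subgroupOf Q).index = p ^ n := hn
    rw [h2, Subgroup.mem_subgroupOf] at h1
    exact h1.2
  have hp : IsPGroup p ↥(Q.map (QuotientGroup.mk' K)) := by
    rintro ⟨y, hy⟩
    obtain ⟨x, hx, rfl⟩ := hy
    refine ⟨n, ?_⟩
    apply Subtype.ext
    show (QuotientGroup.mk' K x) ^ p ^ n = 1
    rw [← map_pow]
    exact (QuotientGroup.eq_one_iff _).mpr (hpow x hx)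
  obtain ⟨P', hP'⟩ := hp.exists_le_sylow
  obtain ⟨c, hc⟩ := MulAction.exists_smul_eq (H ⧸ K) P P'
  have hcyc' : IsCyclic ↥(P' : Subgroup (H ⧸ K)) := by
    have e := Sylow.equivSMul P c
    rw [hc] at e
    exact isCyclic_of_surjective e.toMonoidHom e.surjective
  have hcycQ : IsCyclic ↥(Q.map (QuotientGroup.mk' K)) :=
    isCyclic_of_injective (Subgroup.inclusion hP') (Subgroup.inclusion_injective hP')
  obtain ⟨⟨γ, hγ⟩, hgen⟩ := hcycQ.exists_generator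
  obtain ⟨g, hg, rfl⟩ := hγ
  refine ⟨g, hg, ?_⟩
  intro x hx
  have hxm : QuotientGroup.mk' K x ∈ Q.map (QuotientGroup.mk' K) := ⟨x, hx, rfl⟩
  have h1 := hgen ⟨QuotientGroup.mk' K x, hxm⟩
  have hfin : IsOfFinOrder (⟨QuotientGroup.mk' K g, ⟨g, hg, rfl⟩⟩ : ↥(Q.map (QuotientGroup.mk' K))) :=
    isOfFinOrder_of_finite _
  rw [← hfin.mem_powers_iff_mem_zpowers] at h1
  obtain ⟨k, hk⟩ := h1
  have hk' : (QuotientGroup.mk' K g) ^ k = QuotientGroup.mk' K x := by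
    have := congrArg Subtype.val hk
    simpa using this
  refine ⟨k, (g ^ k)⁻¹ * x, ⟨Q.mul_mem (Q.inv_mem (Q.pow_mem hg k)) hx, ?_⟩, by group⟩
  show (g ^ k)⁻¹ * x ∈ K
  rw [← QuotientGroup.eq_one_iff, ← QuotientGroup.mk'_apply, map_mul, map_inv, map_pow, hk']
  exact inv_mul_cancel _

end fin

end Cfsg.Agent.Lib.Helper91_HI_CYC
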