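import Mathlib
import Cfsg.Prelude.Def_Characters
import Cfsg.Agent.Lib.Helper76_HIDefs
import Cfsg.Agent.Lib.Helper71_HI_F
import Cfsg.Agent.Lib.Helper30_HI_AQ
import Cfsg.Agent.Lib.Helper53_HI_EXMU
import Cfsg.Agent.Lib.Helper69_HI_A1
import Cfsg.Agent.Lib.Helper82_HI_A2
import Cfsg.Agent.Lib.Helper85_HI_AP
import Cfsg.Agent.Lib.Helper88_HI_RCLIFF
import Cfsg.Agent.Lib.Helper79_HI_BCNT
import Cfsg.Agent.Lib.Helper82_HI_ORB
import Cfsg.Agent.Lib.Helper16_HI_RMF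
import Cfsg.Agent.Lib.Helper91_HI_CYC
import Cfsg.Agent.Lib.Helper49_HI_DINV
import Cfsg.Agent.Lib.Helper2_HI_D3
import Cfsg.Agent.Lib.Helper79_HI_D2
import Cfsg.Agent.Lib.Helper12_HI_CIND
import Cfsg.Agent.S0006
import Cfsg.Agent.Lib.Helper75_Clifford

/-!
# S4563 + S4564: assembly of the market `hi_packages` (helper76)

`key` : if every constituent of `ξ_{Q ∩ K}` has multiplicity one, `H ⧸ K` has a subgroup of index `|H : K|_p`;
`s4563`, `s4564` : the two rows (proof: `pending/lead/S4563_S4564_proof.md`).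
-/

set_option autoImplicit false
set_option linter.unusedSectionVars false
set_option linter.unusedVariables false
set_option linter.style.haveILetI false
open scoped ComplexConjugate

namespace Cfsg.Agent.Lib.Helper76_HIMain

open Cfsg Cfsg.Agent.Lib.Helper76_HIDefs

section fin
variable {H : Type*} [Group H] [Finite H]

theorem isCharacter_of_irr {G : Type*} [Group G] {f : G → ℂ} (hf : Cfsg.IsIrrCharacter G f) :
    Cfsg.IsCharacter G f := by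
  obtain ⟨n, ρ, -, h⟩ := hf
  exact ⟨n, ρ, h⟩

theorem ip_const_mul_left {G : Type*} [Group G] [Finite G] (c : ℂ) (f g : G → ℂ) :
    ip (fun y => c * f y) g = c * ip f g := by
  unfold ip Cfsg.classInner
  rw [Finset.mul_sum, Finset.mul_sum, Finset.mul_sum]
  apply Finset.sum_congr rfl
  intro x _
  ring

theorem inf_normal_le_normalizer (Q K : Subgroup H) (nK : K.Normal) :
    Q ≤ Subgroup.normalizer ((Q ⊓ K : Subgroup H) : Set H) := by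
  intro g hg
  rw [Subgroup.mem_normalizer_iff]
  intro h
  constructor
  · rintro ⟨h1, h2⟩
    exact ⟨Q.mul_mem (Q.mul_mem hg h1) (Q.inv_mem hg), nK.conj_mem h h2 g⟩
  · rintro ⟨h1, h2⟩
    have e : h = g⁻¹ * (g * h * g⁻¹) * g⁻¹⁻¹ := by group
    rw [e]
    exact ⟨Q.mul_mem (Q.mul_mem (Q.inv_mem hg) h1) (Q.inv_mem (Q.inv_mem hg)),
      nK.conj_mem _ h2 g⁻¹⟩

/-- KEY: `a = 1` gives a subgroup of index `|H : K|_p` in `H / K` -/
theorem key {Z K : Subgroup H} [K.Normal] {χ : H → ℂ} {θ : ↥Z → ℂ} {e p : ℕ}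
    (c : Ctx Z K χ θ e p) (Q : Subgroup H) (hZQ : Z ≤ Q)
    (hξirr : Cfsg.IsIrrCharacter ↥Q (xi Z Q θ (p ^ e.factorization p)))
    (hQ2 : (Q ⊓ K).relIndex Q = p ^ (K.index.factorization p))
    (hQ3 : ¬ p ∣ (Q ⊓ K).relIndex K)
    (hQ4 : K ⊔ Subgroup.normalizer ((Q ⊓ K : Subgroup H) : Set H) = ⊤)
    (ha1 : ∀ μ : ↥(Q ⊓ K : Subgroup H) → ℂ, Cfsg.IsIrrCharacter ↥(Q ⊓ K : Subgroup H) μ →
      ip (rs Q (Q ⊓ K) (xi Z Q θ (p ^ e.factorization p))) μ ≠ 0 →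
      ip (rs Q (Q ⊓ K) (xi Z Q θ (p ^ e.factorization p))) μ = 1) :
    ∃ Y : Subgroup (H ⧸ K), Y.index = p ^ (K.index.factorization p) := by
  obtain ⟨Q', hQ'⟩ : ∃ Q' : Subgroup H, Q' = Q ⊓ K := ⟨_, rfl⟩
  obtain ⟨ξ, hξ⟩ : ∃ ξ : ↥Q → ℂ, ξ = xi Z Q θ (p ^ e.factorization p) := ⟨_, rfl⟩
  rw [← hQ'] at hQ2 hQ3 hQ4 ha1
  rw [← hξ] at hξirr ha1
  have hQ'Q : Q' ≤ Q := hQ' ▸ inf_le_left
  have hQ'K : Q' ≤ K := hQ' ▸ inf_le_right
  have hZQ' : Z ≤ Q' := hQ' ▸ le_inf hZQ c.hZK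
  have hQN : Q ≤ Subgroup.normalizer (Q' : Set H) := hQ' ▸ inf_normal_le_normalizer Q K c.nK
  have hpw : p ^ e.factorization p ≠ 0 := pow_ne_zero _ c.hp.ne_zero
  have hθ1 : θ 1 ≠ 0 := Cfsg.Agent.Lib.Helper75_Clifford.irr_one_ne_zero c.hθ
  have hξ1 : ξ 1 ≠ 0 := by
    rw [hξ, xi_apply_mem θ _ (1 : ↥Q) (Z.one_mem)]
    have : (⟨((1 : ↥Q) : H), Z.one_mem⟩ : ↥Z) = 1 := rfl
    rw [this]
    exact mul_ne_zero (by exact_mod_cast hpw) hθ1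
  obtain ⟨μ, hμ, hμ1⟩ := Cfsg.Agent.Lib.Helper53_HI_EXMU.exists_constituent Q Q' hQ'Q (isCharacter_of_irr hξirr) hξ1
  obtain ⟨h2, h3⟩ := Cfsg.Agent.Lib.Helper88_HI_RCLIFF.rel_clifford Q Q' hQ'Q hQN hξirr hμ hμ1
  have ha : ip (rs Q Q' ξ) μ = 1 := ha1 μ hμ hμ1
  have hvan : ∀ y : ↥Q, y.1 ∉ Q' → ξ y = 0 := fun y hy => by
    rw [hξ]; exact xi_apply_not_mem _ _ _ (fun hz => hy (hZQ' hz))
  have hcnt := Cfsg.Agent.Lib.Helper79_HI_BCNT.count_sq Q Q' hQ'Q hQN hξirr hvan hμ 1 (by rw [ha]; simp) h2 h3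
  have hcardO : Nat.card {ν : ↥Q' → ℂ // ∃ g ∈ Q, ν = cj Q' g μ} =
      p ^ (K.index.factorization p) := by
    rw [← hQ2, ← hcnt]; simp
  have hchar : ∀ ν : ↥Q' → ℂ, (Cfsg.IsIrrCharacter ↥Q' ν ∧ ip (rs Q' Z ν) θ ≠ 0) ↔
      ∃ g ∈ Q, ν = cj Q' g μ := by
    intro ν
    constructor
    · rintro ⟨hν, hνθ⟩
      have := (Cfsg.Agent.Lib.Helper85_HI_AP.claimA' Z Q Q' hZQ' hQ'Q θ _ hpw ν).2 hνθ
      rw [← hξ] at this
      exact (h2 ν hν).1 this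
    · rintro ⟨g, hg, rfl⟩
      refine ⟨(h3 g hg).1, (Cfsg.Agent.Lib.Helper85_HI_AP.claimA' Z Q Q' hZQ' hQ'Q θ _ hpw _).1 ?_⟩
      rw [← hξ, (h3 g hg).2]
      exact hμ1
  obtain ⟨M, hM⟩ : ∃ M : Subgroup H, M = Subgroup.normalizer (Q' : Set H) := ⟨_, rfl⟩
  have hinvθ := fun h z hz => Cfsg.Agent.Lib.Helper71_HI_F.theta_inv c h z hz
  have horb : ∀ ν : ↥Q' → ℂ, (∃ h ∈ Subgroup.normalizer (Q' : Set H), ν = cj Q' h μ) ↔
      ∃ g ∈ Q, ν = cj Q' g μ := by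
    intro ν
    constructor
    · rintro ⟨h, hh, rfl⟩
      have hμ' := (hchar μ).2 ⟨1, Q.one_mem, (cj_one Q' μ).symm⟩
      obtain ⟨hi, he⟩ := Cfsg.Agent.Lib.Helper49_HI_DINV.inv_over Z Q' c.nZ hZQ' θ hinvθ hh hμ'.1
      exact (hchar _).1 ⟨hi, by rw [he]; exact hμ'.2⟩
    · rintro ⟨g, hg, rfl⟩
      exact ⟨g, hQN hg, rfl⟩
  have hcl : ∀ g ∈ Q, Cfsg.IsClassFunction ↥Q' (cj Q' g μ) :=
    fun g hg => Cfsg.Agent.Lib.Helper71_HI_F.isClassFunction_of_irr (h3 g hg).1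
  have hfix := Cfsg.Agent.Lib.Helper79_HI_D2.core_fix Q' K Q c.nK hQN hQ'K p c.hp _ hQ3 μ hcl horb hcardO
  have horbM := Cfsg.Agent.Lib.Helper82_HI_ORB.orbit_card (Subgroup.normalizer (Q' : Set H)) Q' le_rfl μ
  have hcardM : Nat.card {ν : ↥Q' → ℂ // ∃ h ∈ Subgroup.normalizer (Q' : Set H),
      ν = cj Q' h μ} = p ^ (K.index.factorization p) := by
    rw [← hcardO]
    exact Nat.card_congr (Equiv.subtypeEquivRight horb)
  have hidx := Cfsg.Agent.Lib.Helper2_HI_D3.index_image K (Subgroup.normalizer (Q' : Set H))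
    (stabIn (Subgroup.normalizer (Q' : Set H)) Q' μ) (stabIn_le _ _ _) hfix hQ4
  exact ⟨_, by rw [hidx, ← horbM, hcardM]⟩


/-- the common preparation: the subgroup `Q` and Claim A -/
theorem prep {Z K : Subgroup H} {χ : H → ℂ} {θ : ↥Z → ℂ} {e p : ℕ}
    (c : Ctx Z K χ θ e p) :
    ∃ Q : Subgroup H, Z ≤ Q ∧
      (Q ⊓ K).relIndex Q = p ^ (K.index.factorization p) ∧
      ¬ p ∣ (Q ⊓ K).relIndex K ∧
      K ⊔ Subgroup.normalizer ((Q ⊓ K : Subgroup H) : Set H) = ⊤ ∧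
      Cfsg.IsIrrCharacter ↥Q (xi Z Q θ (p ^ e.factorization p)) ∧
      ∀ y : ↥Q, χ y.1 =
        ((e / p ^ e.factorization p : ℕ) : ℂ) * xi Z Q θ (p ^ e.factorization p) y := by
  obtain ⟨Q, hZQ, hQ1, hQ2, hQ3, hQ4⟩ := Cfsg.Agent.Lib.Helper30_HI_AQ.exists_Q Z K c.nZ c.nK c.hZK p c.hp
  obtain ⟨h1, h2⟩ := Cfsg.Agent.Lib.Helper82_HI_A2.claimA c Q hZQ hQ1 (fun η hη h1 => Cfsg.Agent.Lib.Helper69_HI_A1.constituent_over c Q hZQ hη h1)
  exact ⟨Q, hZQ, hQ2, hQ3, hQ4, h1, h2⟩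

/-- S4564 -/
theorem s4564 (Z : Subgroup H) [Z.Normal] (χ : Cfsg.IrrCharacter H)
    (hfr : ∃ (θ : Cfsg.IrrCharacter ↥Z) (e : ℕ), e ^ 2 = Z.index ∧
      ∀ z : ↥Z, (χ : H → ℂ) z = (e : ℂ) * (θ : ↥Z → ℂ) z)
    (K : Subgroup H) [K.Normal] (hZK : Z ≤ K) (p : ℕ) [Fact p.Prime] (P : Sylow p (H ⧸ K))
    (hcyc : IsCyclic P) : ∃ M : Subgroup (H ⧸ K), M.IsComplement' (P : Subgroup (H ⧸ K)) := by
  obtain ⟨θ, e, he, hres⟩ := hfr
  have c : Ctx Z K (χ : H → ℂ) (θ : ↥Z → ℂ) e p :=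
    ⟨inferInstance, inferInstance, hZK, χ.2, θ.2, he, fun z => hres z, Fact.out⟩
  obtain ⟨Q, hZQ, hQ2, hQ3, hQ4, hξirr, -⟩ := prep c
  obtain ⟨Y, hY⟩ := key c Q hZQ hξirr hQ2 hQ3 hQ4 (fun μ hμ h1 => by
    rcases Cfsg.Agent.Lib.Helper16_HI_RMF.rel_multfree Q (Q ⊓ K) inf_le_left (inf_normal_le_normalizer Q K c.nK)
      (Cfsg.Agent.Lib.Helper91_HI_CYC.cyc_of_sylow K p P hcyc Q ⟨_, hQ2⟩) hξirr hμ with h | h
    · exact absurd h h1
    · exact h)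
  refine ⟨Y, ?_⟩
  have hcardG : Nat.card (H ⧸ K) = K.index := (Subgroup.index_eq_card K).symm
  have hP : Nat.card (P : Subgroup (H ⧸ K)) = p ^ (K.index.factorization p) := by
    rw [← hcardG]
    exact P.card_eq_multiplicity
  have hYc : Y.index * Nat.card Y = Nat.card (H ⧸ K) := Subgroup.index_mul_card Y
  have hK0 : K.index ≠ 0 := Subgroup.index_ne_zero_of_finite
  have hYcard : Nat.card Y = K.index / p ^ (K.index.factorization p) := by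
    rw [hY, hcardG] at hYc
    exact (Nat.div_eq_of_eq_mul_right (pow_pos (Fact.out : p.Prime).pos _) hYc.symm).symm
  apply Subgroup.isComplement'_of_coprime
  · rw [hP, hcardG, hYcard]
    exact Nat.div_mul_cancel (Nat.ordProj_dvd _ _)
  · rw [hP, hYcard]
    exact (Nat.coprime_ordCompl (Fact.out : p.Prime) hK0).symm.pow_right _ |>.symm.symm

end fin

section fintype
variable {H : Type*} [Group H] [Fintype H]

/-- the arithmetic of (C-ind): `a = 1` -/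
theorem a_eq_one {a m s t F p v : ℕ} (hp : p.Prime) (hm : ¬ p ∣ m) (h1 : a ^ 2 * s = p ^ v)
    (h2 : t * s = a ^ 2 * s) (h3 : m * a = t * F) (ha : a ≠ 0) : a = 1 := by
  have hs : s ≠ 0 := by
    rintro rfl
    rw [mul_zero] at h1
    exact (pow_ne_zero v hp.ne_zero) h1.symm
  have ht : t = a ^ 2 := Nat.eq_of_mul_eq_mul_right (Nat.pos_of_ne_zero hs) h2
  rw [ht] at h3
  have h4 : m = a * F := by
    have : a * m = a * (a * F) := by rw [mul_comm a m, h3]; ring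
    exact Nat.eq_of_mul_eq_mul_left (Nat.pos_of_ne_zero ha) this
  have hadvd : a ∣ p ^ v := ⟨a * s, by rw [← h1]; ring⟩
  obtain ⟨j, -, rfl⟩ := (Nat.dvd_prime_pow hp).mp hadvd
  rcases Nat.eq_zero_or_pos j with rfl | hj
  · simp
  · exfalso
    apply hm
    rw [h4]
    exact Dvd.dvd.mul_right (dvd_pow_self p hj.ne') F

/-- S4563 -/
theorem s4563 (Z : Subgroup H) [Z.Normal] (χ : Cfsg.IrrCharacter H)
    (hfr : ∃ (θ : Cfsg.IrrCharacter ↥Z) (e : ℕ), e ^ 2 = Z.index ∧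
      ∀ z : ↥Z, (χ : H → ℂ) z = (e : ℂ) * (θ : ↥Z → ℂ) z)
    (K : Subgroup H) [K.Normal] [Fintype K] (hZK : Z ≤ K) (hK : K ≠ ⊤) (φ : ↥K → ℂ)
    (hφ : Cfsg.IsCharacter ↥K φ) (hind : Cfsg.indFun K φ = (χ : H → ℂ)) :
    Group.IsSolvable (H ⧸ K) ∧ (Group.IsSolvable ↥K → Group.IsSolvable H) := by
  obtain ⟨θ, e, he, hres⟩ := hfr
  have hsolv : Group.IsSolvable (H ⧸ K) := by
    apply Cfsg.Agent.S0006.result
    intro p hp
    have c : Ctx Z K (χ : H → ℂ) (θ : ↥Z → ℂ) e p :=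
      ⟨inferInstance, inferInstance, hZK, χ.2, θ.2, he, fun z => hres z, hp⟩
    obtain ⟨Q, hZQ, hQ2, hQ3, hQ4, hξirr, hχξ⟩ := prep c
    have hQN := inf_normal_le_normalizer Q K c.nK
    have he0 : e ≠ 0 := by
      rintro rfl
      have : Z.index ≠ 0 := Subgroup.index_ne_zero_of_finite
      exact this (by rw [← he]; rfl)
    obtain ⟨Y, hY⟩ := key c Q hZQ hξirr hQ2 hQ3 hQ4 (fun μ hμ h1 => by
      obtain ⟨a, ha⟩ := Cfsg.Agent.Lib.Helper53_HI_EXMU.mult_nat Q (Q ⊓ K) inf_le_left (isCharacter_of_irr hξirr) hμ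
      have ha0 : a ≠ 0 := by
        rintro rfl
        exact h1 (by rw [ha]; simp)
      obtain ⟨h2, h3⟩ := Cfsg.Agent.Lib.Helper88_HI_RCLIFF.rel_clifford Q (Q ⊓ K) inf_le_left hQN hξirr hμ h1
      have hvan : ∀ y : ↥Q, y.1 ∉ Q ⊓ K →
          xi Z Q θ.1 (p ^ e.factorization p) y = 0 := fun y hy =>
        xi_apply_not_mem _ _ _ (fun hz => hy ⟨hZQ hz, hZK hz⟩)
      have hcnt := Cfsg.Agent.Lib.Helper79_HI_BCNT.count_sq Q (Q ⊓ K) inf_le_left hQN hξirr hvan hμ a ha h2 h3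
      rw [hQ2] at hcnt
      have horb := Cfsg.Agent.Lib.Helper82_HI_ORB.orbit_card Q (Q ⊓ K) hQN μ
      have hQ'T : Q ⊓ K ≤ stabIn Q (Q ⊓ K) μ := by
        intro q hq
        exact ⟨hq.1, hQN hq.1, Cfsg.Agent.Lib.Helper71_HI_F.cj_of_mem hq (Cfsg.Agent.Lib.Helper71_HI_F.isClassFunction_of_irr hμ)⟩
      have hrel := Subgroup.relIndex_mul_relIndex (Q ⊓ K) (stabIn Q (Q ⊓ K) μ) Q hQ'T
        (stabIn_le _ _ _)
      rw [← horb, hQ2, ← hcnt] at hrel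
      obtain ⟨F, hF⟩ := Cfsg.Agent.Lib.Helper12_HI_CIND.ind_div K c.nK φ hφ Q μ hμ
      rw [hind] at hF
      have hχμ : ip (rsH (Q ⊓ K) (χ : H → ℂ)) μ =
          ((e / p ^ e.factorization p : ℕ) : ℂ) * (a : ℂ) := by
        rw [← ha, ← ip_const_mul_left]
        congr 1
        funext y
        rw [rsH_apply, rs_apply _ _ (show y.1 ∈ Q from y.2.1)]
        exact hχξ ⟨y.1, y.2.1⟩
      rw [hχμ] at hF
      have hF' : e / p ^ e.factorization p * a = (Q ⊓ K).relIndex (stabIn Q (Q ⊓ K) μ) * F := by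
        exact_mod_cast hF
      have := a_eq_one hp (Nat.not_dvd_ordCompl hp he0) hcnt hrel hF' ha0
      rw [ha, this]
      simp)
    refine ⟨Y, ?_⟩
    rw [hY, ← Subgroup.index_eq_card K]
  refine ⟨hsolv, fun hKs => ?_⟩
  haveI := hKs
  haveI := hsolv
  exact Group.isSolvable_of_ker_le_range K.subtype (QuotientGroup.mk' K) (by
    rw [QuotientGroup.ker_mk', Subgroup.range_subtype])

end fintype

end Cfsg.Agent.Lib.Helper76_HIMain
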