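import Mathlib
import Cfsg.Prelude.Def_Solvable
import Cfsg.Agent.S0081
import Cfsg.Agent.S0072
import Cfsg.Agent.Lib.Helper22_Cores
import Cfsg.Agent.Lib.Helper32_Sylow
import Cfsg.Agent.Lib.Helper32_PGroup
import Cfsg.Agent.Lib.Helper1_Frattini
import Cfsg.Agent.Lib.Helper76_PSolvable

/-!
# Kernels of irreducible characters of `p'`-degree, part 2: group theory (helper76)

* `exists_pprime_normal_of_inf_le_commutator`: a normal subgroup `K` with `K ∩ P ≤ P'` has the
  form `K = N₁ (P ∩ K)` with `N₁ ⊴ G` of order prime to `p` (Tate's theorem).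
* `coprime_of_inf_centralizer_eq_bot`: a normal subgroup `N` with `C_N(P) = 1` has order prime
  to `p`.
-/

set_option autoImplicit false
set_option linter.unusedSectionVars false
open scoped commutatorElement

namespace Cfsg.Agent.Lib.Helper76_KerPPrimeGrp

open Cfsg

variable {G : Type*} [Group G] [Finite G] {p : ℕ} [Fact p.Prime]

/-- **Tate**: a normal subgroup `K` with `K ∩ P ≤ P'` is `N₁ (P ∩ K)` with `N₁ ⊴ G` a
`p'`-group. -/
theorem exists_pprime_normal_of_inf_le_commutator (P : Sylow p G) (K : Subgroup G) [hK : K.Normal]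
    (h : K ⊓ (P : Subgroup G) ≤ ⁅(P : Subgroup G), (P : Subgroup G)⁆) :
    ∃ N₁ : Subgroup G, N₁.Normal ∧ N₁ ≤ K ∧ (Nat.card N₁).Coprime p ∧
      K ≤ N₁ ⊔ ((P : Subgroup G) ⊓ K) := by
  have hp : p.Prime := Fact.out
  have hfr : K ⊓ (P : Subgroup G) ≤
      (frattini ↥(P : Subgroup G)).map (P : Subgroup G).subtype := by
    refine h.trans ?_
    rw [← Subgroup.map_subtype_commutator]
    exact Subgroup.map_mono
      (Cfsg.Agent.Lib.Helper1_Frattini.commutator_le_frattini_of_isPGroup P.isPGroup')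
  have h1 := Cfsg.Agent.S0081.result P K hfr
  rw [Cfsg.Agent.S0072.hasNPC_iff] at h1
  obtain ⟨K0, hK0n, hK0c, n, hK0i⟩ := h1
  have hKsub : K.IsSubnormal := Subgroup.Normal.isSubnormal inferInstance
  have hsub : (K0.map K.subtype).IsSubnormal := Subgroup.IsSubnormal.trans' hK0n.isSubnormal hKsub
  have hle : K0.map K.subtype ≤ pPrimeCore p G := by
    apply Cfsg.Agent.Lib.Helper22_Cores.le_pPrimeCore_of_isSubnormal p hsub
    rw [Subgroup.card_map_of_injective K.subtype_injective]
    exact hK0c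
  have hcoreN : (pPrimeCore p G).Normal := Cfsg.Agent.Lib.Helper76_PSolvable.pPrimeCore_normal p
  refine ⟨K ⊓ pPrimeCore p G, inferInstance, inf_le_left,
    Cfsg.Agent.Lib.Helper22_Cores.coprime_of_le_pPrimeCore p inf_le_right, ?_⟩
  set N₁ : Subgroup G := K ⊓ pPrimeCore p G with hN₁
  set Q : Subgroup G := (P : Subgroup G) ⊓ K with hQ
  have hK0N₁ : K0.map K.subtype ≤ N₁ := le_inf (Subgroup.map_subtype_le _) hle
  -- the index of `N₁ ⊔ Q` in `K` divides a power of `p` and is prime to `p`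
  have hrel0 : (K0.map K.subtype).relIndex K = p ^ n := by
    unfold Subgroup.relIndex
    rw [Subgroup.subgroupOf, Subgroup.comap_map_eq_self_of_injective K.subtype_injective]
    exact hK0i
  have hd1 : (N₁ ⊔ Q).relIndex K ∣ p ^ n := by
    rw [← hrel0]
    exact Subgroup.relIndex_dvd_of_le_left K (hK0N₁.trans le_sup_left)
  have hd2 : (N₁ ⊔ Q).relIndex K ∣ Q.relIndex K :=
    Subgroup.relIndex_dvd_of_le_left K le_sup_right
  have hnd : ¬ p ∣ Q.relIndex K :=
    Cfsg.Agent.Lib.Helper32_Sylow.not_dvd_relIndex_inf_normal P K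
  have hone : (N₁ ⊔ Q).relIndex K = 1 := by
    obtain ⟨j, _, hj⟩ := (Nat.dvd_prime_pow hp).mp hd1
    rcases Nat.eq_zero_or_pos j with h0 | hpos
    · rw [hj, h0, pow_zero]
    · exfalso
      apply hnd
      refine dvd_trans ?_ hd2
      rw [hj]
      exact dvd_pow_self p hpos.ne'
  exact Subgroup.relIndex_eq_one.mp hone

/-- A normal subgroup in which the Sylow `p`-subgroup `P` has trivial centralizer meets `P`
trivially. -/
theorem inf_sylow_eq_bot_of_inf_centralizer_eq_bot (P : Sylow p G) (N : Subgroup G) [hN : N.Normal]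
    (h : N ⊓ Subgroup.centralizer ((P : Subgroup G) : Set G) = ⊥) :
    (P : Subgroup G) ⊓ N = ⊥ := by
  by_contra hne
  have hne' : N.subgroupOf (P : Subgroup G) ≠ ⊥ := by
    intro h0
    apply hne
    rw [eq_bot_iff]
    intro x hx
    have : (⟨x, hx.1⟩ : (P : Subgroup G)) ∈ N.subgroupOf (P : Subgroup G) :=
      Subgroup.mem_subgroupOf.mpr hx.2
    rw [h0, Subgroup.mem_bot] at this
    rw [Subgroup.mem_bot]
    exact congrArg Subtype.val this
  obtain ⟨z, hzN, hzc, hz1⟩ :=
    Cfsg.Agent.Lib.Helper32_PGroup.exists_mem_center_of_normal P.isPGroup'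
      (N.subgroupOf (P : Subgroup G)) hne'
  apply hz1
  have hz : (z : G) ∈ N ⊓ Subgroup.centralizer ((P : Subgroup G) : Set G) := by
    refine ⟨Subgroup.mem_subgroupOf.mp hzN, ?_⟩
    show (z : G) ∈ Subgroup.centralizer ((P : Subgroup G) : Set G)
    rw [Subgroup.mem_centralizer_iff]
    intro y hy
    have := Subgroup.mem_center_iff.mp hzc ⟨y, hy⟩
    exact congrArg Subtype.val this
  rw [h, Subgroup.mem_bot] at hz
  exact Subtype.ext hz

/-- A normal subgroup in which the Sylow `p`-subgroup `P` has trivial centralizer has order prime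
to `p`. -/
theorem coprime_of_inf_centralizer_eq_bot (P : Sylow p G) (N : Subgroup G) [hN : N.Normal]
    (h : N ⊓ Subgroup.centralizer ((P : Subgroup G) : Set G) = ⊥) : (Nat.card N).Coprime p := by
  have hp : p.Prime := Fact.out
  have h1 := inf_sylow_eq_bot_of_inf_centralizer_eq_bot P N h
  have h2 := Cfsg.Agent.Lib.Helper32_Sylow.not_dvd_relIndex_inf_normal P N
  rw [h1, Subgroup.relIndex_bot_left] at h2
  exact (Nat.Coprime.symm ((Nat.Prime.coprime_iff_not_dvd hp).mpr h2))

end Cfsg.Agent.Lib.Helper76_KerPPrimeGrp
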