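import Mathlib
import Cfsg.Prelude.Def_Characters
import Cfsg.Prelude.Def_Blocks
import Cfsg.Agent.S4444
import Cfsg.Agent.Lib.Helper75_GlaubCount
import Cfsg.Agent.Lib.Helper75_ExtendCoprime
import Cfsg.Agent.Lib.Helper82_ItoMichler
import Cfsg.Agent.Lib.Helper48_PMinimal
import Cfsg.Agent.Lib.Helper57_IndBlock
import Cfsg.Agent.Lib.Helper76_KerPPrime
import Cfsg.Agent.Lib.Helper76_KerPPrimeGrp

/-!
# Kernels of irreducible characters of `p'`-degree, part 3: coprime action (helper76)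

* `card_sInv`: the number of `P`-invariant irreducible characters of a normal `p'`-subgroup `L`
  is the class number of `C_L(P)` (Glauberman).
* `exists_pprime_over`: over a `P`-invariant `θ ∈ Irr(L)` lies a `χ ∈ Irr(G)` of degree prime
  to `p`.
* `inf_centralizer_eq_bot_of_le_kernels`: a normal `p'`-subgroup in the kernel of all
  `p'`-degree irreducible characters has `C_L(P) = 1`.
* `le_kerC_of_inf_centralizer_eq_bot`: conversely a normal subgroup `N` with `C_N(P) = 1` lies
  in the kernel of every irreducible character of degree prime to `p`.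
-/

set_option autoImplicit false
set_option linter.unusedSectionVars false
open scoped ComplexConjugate

namespace Cfsg.Agent.Lib.Helper76_KerPPrimeGlaub

open Cfsg
open Cfsg.Agent.Lib.Helper3_CharBridge Cfsg.Agent.Lib.Helper3_CharOrtho
open Cfsg.Agent.Lib.Helper76_GalConj Cfsg.Agent.Lib.Helper76_KerPPrime
open Cfsg.Agent.Lib.Helper75_GlaubCount

variable {G : Type*} [Group G]

theorem pCorr [Fintype G] : PCorr G :=
  fun G S _ hnorm hcop p hp hS C _ hC hCG =>
    Cfsg.Agent.S4444.result G S hnorm hcop p hp hS C hC hCG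

/-- `P`-invariance in terms of the inertia group. -/
theorem sInv_iff_le_stab (L S : Subgroup G) [hL : L.Normal] (θ : L → ℂ) :
    SInv L S θ ↔ S ≤ Cfsg.Agent.Lib.Helper82_ItoMichler.stab L θ := by
  constructor
  · intro h s hs
    rw [Cfsg.Agent.Lib.Helper82_ItoMichler.mem_stab]
    funext n
    rw [Cfsg.Agent.Lib.Helper75_Clifford.conjFun_apply]
    exact h s hs n ⟨s * n * s⁻¹, hL.conj_mem n n.2 s⟩ rfl
  · intro h s hs g g' hg'
    have h1 := (Cfsg.Agent.Lib.Helper82_ItoMichler.mem_stab L θ s).mp (h hs)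
    have h2 := congrFun h1 g
    rw [Cfsg.Agent.Lib.Helper75_Clifford.conjFun_apply] at h2
    rw [← h2]
    congr 1
    exact Subtype.ext hg'

theorem sylow_isSolvable [Finite G] (p : ℕ) [Fact p.Prime] (P : Sylow p G) :
    Group.IsSolvable (P : Subgroup G) := by
  have : Group.IsNilpotent (P : Subgroup G) := P.isPGroup'.isNilpotent
  infer_instance

theorem coprime_card_sylow [Finite G] (p : ℕ) [Fact p.Prime] (P : Sylow p G) {n : ℕ}
    (h : n.Coprime p) : n.Coprime (Nat.card (P : Subgroup G)) := by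
  obtain ⟨k, hk⟩ := IsPGroup.iff_card.mp P.isPGroup'
  rw [hk]
  exact h.pow_right k

/-- **Glauberman count**: the number of `P`-invariant irreducible characters of a normal
`p'`-subgroup `L` is the class number of `C_L(P)`. -/
theorem card_sInv [Finite G] (p : ℕ) [Fact p.Prime] (P : Sylow p G) (L : Subgroup G)
    [hL : L.Normal] (hLp : (Nat.card L).Coprime p) :
    Nat.card {θ : IrrCharacter L // SInv L (P : Subgroup G) (θ : L → ℂ)} =
      Nat.card (ConjClasses ↥(L ⊓ Subgroup.centralizer ((P : Subgroup G) : Set G))) := by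
  let _ : Fintype G := Fintype.ofFinite G
  exact count_centralizer pCorr L (P : Subgroup G) (fun s _ g hg => hL.conj_mem g hg s)
    (coprime_card_sylow p P hLp) (sylow_isSolvable p P)

/-- Over a `P`-invariant irreducible character of a normal `p'`-subgroup lies an irreducible
character of `G` of degree prime to `p`. -/
theorem exists_pprime_over [Finite G] (p : ℕ) [Fact p.Prime] (P : Sylow p G) (L : Subgroup G)
    [hL : L.Normal] [Fintype L] (hLp : (Nat.card L).Coprime p) (θ : IrrCharacter L)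
    (hθ : SInv L (P : Subgroup G) (θ : L → ℂ)) :
    ∃ χ : IrrCharacter G, ¬ p ∣ charDegree (χ : G → ℂ) ∧
      classInner (fun n : L => (χ : G → ℂ) n) (θ : L → ℂ) ≠ 0 := by
  classical
  have hp : p.Prime := Fact.out
  let _ : Fintype G := Fintype.ofFinite G
  set X : Subgroup G := (P : Subgroup G) ⊔ L with hX
  have hLX : L ≤ X := le_sup_right
  have hPX : (P : Subgroup G) ≤ X := le_sup_left
  let _ : Fintype X := Fintype.ofFinite X
  have hN'n : (L.subgroupOf X).Normal := Subgroup.normal_subgroupOf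
  set ϑ : L.subgroupOf X → ℂ :=
    Cfsg.Agent.Lib.Helper75_Induced.resSubgroupOf L X (θ : L → ℂ) with hϑdef
  have hϑ : IsIrrCharacter (L.subgroupOf X) ϑ :=
    Cfsg.Agent.Lib.Helper75_Clifford.isIrrCharacter_resSubgroupOf L X hLX θ.2
  -- solvable quotient
  have hsolvP : Group.IsSolvable (P : Subgroup G) := sylow_isSolvable p P
  have hsolvQ : Group.IsSolvable (X ⧸ L.subgroupOf X) := by
    let e := QuotientGroup.quotientInfEquivProdNormalQuotient (P : Subgroup G) L
    exact Group.isSolvable_of_surjective (f := e.toMonoidHom) e.surjective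
  -- coprimality
  have hcard : Nat.card (L.subgroupOf X) = Nat.card L :=
    Nat.card_congr (Subgroup.subgroupOfEquivOfLe hLX).toEquiv
  have hidx : ∃ j : ℕ, (L.subgroupOf X).index = p ^ j := by
    have h1 : (L.subgroupOf X).index = L.relIndex (P : Subgroup G) := by
      show L.relIndex X = _
      rw [hX, Subgroup.relIndex_sup_right]
    obtain ⟨k, hk⟩ := IsPGroup.iff_card.mp P.isPGroup'
    have h2 : L.relIndex (P : Subgroup G) ∣ p ^ k := by
      rw [← hk]; exact Subgroup.relIndex_dvd_card _ _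
    obtain ⟨j, _, hj⟩ := (Nat.dvd_prime_pow hp).mp h2
    exact ⟨j, by rw [h1, hj]⟩
  have hcopX : Nat.Coprime (Nat.card (L.subgroupOf X)) (L.subgroupOf X).index := by
    obtain ⟨j, hj⟩ := hidx
    rw [hcard, hj]
    exact hLp.pow_right j
  -- invariance
  have hstab : X ≤ Cfsg.Agent.Lib.Helper82_ItoMichler.stab L (θ : L → ℂ) := by
    rw [hX]
    exact sup_le ((sInv_iff_le_stab L (P : Subgroup G) (θ : L → ℂ)).mp hθ)
      (Cfsg.Agent.Lib.Helper82_ItoMichler.le_stab L (isClassFunction_of_isIrrCharacter θ.2))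
  have hinv : ∀ (g : X) (n : L.subgroupOf X),
      ϑ ⟨g * n * g⁻¹, hN'n.conj_mem (n : X) n.2 g⟩ = ϑ n := by
    intro g n
    have h1 := (Cfsg.Agent.Lib.Helper82_ItoMichler.mem_stab L (θ : L → ℂ) (g : G)).mp (hstab g.2)
    have h2 := congrFun h1 ⟨((n : X) : G), Subgroup.mem_subgroupOf.mp n.2⟩
    rw [Cfsg.Agent.Lib.Helper75_Clifford.conjFun_apply] at h2
    exact h2
  obtain ⟨ψ, hψirr, hψext⟩ :=
    Cfsg.Agent.Lib.Helper75_ExtendCoprime.exists_extension_of_coprime_solvable
      (L.subgroupOf X) hsolvQ hcopX ϑ hϑ hinv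
  -- `ψ` restricted to `L` is `θ`
  have hψL : (fun k : L => ψ (Subgroup.inclusion hLX k)) = (θ : L → ℂ) := by
    funext k
    have h1 := hψext ⟨Subgroup.inclusion hLX k, Subgroup.mem_subgroupOf.mpr k.2⟩
    rw [h1]
    rfl
  have hψ1 : ψ 1 = (θ : L → ℂ) 1 := by
    have h1 := congrFun hψL 1
    simpa using h1
  -- the induced character
  let ψ' : IrrCharacter X := ⟨ψ, hψirr⟩
  have hΦ : IsCharacter G (indFun X ψ) :=
    Cfsg.Agent.Lib.Helper75_IndChar.isCharacter_indFun X (isCharacter_of_isIrrCharacter hψirr)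
  have hdegΦ : indFun X ψ 1 = ((X.index * charDegree (θ : L → ℂ) : ℕ) : ℂ) := by
    have h1 := Cfsg.Agent.Lib.Helper57_IndBlock.indFun_one_eq_natCast X ψ'
    have h2 : charDegree (ψ' : X → ℂ) = charDegree (θ : L → ℂ) := by
      unfold charDegree
      show ⌊(ψ 1).re⌋₊ = _
      rw [hψ1]
    rw [h2] at h1
    exact h1
  have hnd : ¬ p ∣ X.index * charDegree (θ : L → ℂ) := by
    intro hd
    rcases (Nat.Prime.dvd_mul hp).mp hd with h1 | h1
    · exact P.not_dvd_index (h1.trans (Subgroup.index_dvd_of_le hPX))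
    · have h2 : p ∣ Nat.card L := h1.trans (charDegree_dvd_card θ)
      have h3 := Nat.Coprime.eq_one_of_dvd hLp.symm h2
      exact hp.one_lt.ne' h3
  obtain ⟨χ, hχ1, hχ2⟩ := exists_constituent_not_dvd p hΦ _ hdegΦ hnd
  refine ⟨χ, hχ2, ?_⟩
  rw [Cfsg.Agent.Lib.Helper75_Induced.frobenius_reciprocity X ψ (χ : G → ℂ)
    (isClassFunction_of_isIrrCharacter χ.2)] at hχ1
  have hχ1' : classInner (fun h : X => (χ : G → ℂ) (X.subtype h)) (ψ' : X → ℂ) ≠ 0 := by
    intro h0
    apply hχ1
    rw [← classInner_conj_symm, show (fun h : X => (χ : G → ℂ) h) =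
      (fun h : X => (χ : G → ℂ) (X.subtype h)) from rfl]
    show conj (classInner (fun h : X => (χ : G → ℂ) (X.subtype h)) (ψ' : X → ℂ)) = 0
    rw [h0, map_zero]
  have h2 : classInner (fun k : L => (ψ' : X → ℂ) (Subgroup.inclusion hLX k)) (θ : L → ℂ) ≠ 0 := by
    show classInner (fun k : L => ψ (Subgroup.inclusion hLX k)) (θ : L → ℂ) ≠ 0
    rw [hψL, classInner_self_of_isIrrCharacter θ.2]
    exact one_ne_zero
  exact Cfsg.Agent.Lib.Helper76_PrincipalOver.over_trans X.subtype (Subgroup.inclusion hLX)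
    (isCharacter_of_isIrrCharacter χ.2) ψ' θ hχ1' h2

/-- A normal `p'`-subgroup contained in the kernel of every irreducible character of degree
prime to `p` has `C_L(P) = 1`. -/
theorem inf_centralizer_eq_bot_of_le_kernels [Finite G] (p : ℕ) [Fact p.Prime] (P : Sylow p G)
    (L : Subgroup G) [hL : L.Normal] (hLp : (Nat.card L).Coprime p)
    (hker : ∀ χ : IrrCharacter G, ¬ p ∣ charDegree (χ : G → ℂ) → L ≤ kerC χ) :
    L ⊓ Subgroup.centralizer ((P : Subgroup G) : Set G) = ⊥ := by
  classical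
  let _ : Fintype L := Fintype.ofFinite L
  by_contra hne
  have hcount := card_sInv p P L hLp
  have hnt : Nontrivial ↥(L ⊓ Subgroup.centralizer ((P : Subgroup G) : Set G)) :=
    (Subgroup.nontrivial_iff_ne_bot _).mpr hne
  have h2 : Nontrivial (ConjClasses ↥(L ⊓ Subgroup.centralizer ((P : Subgroup G) : Set G))) := by
    obtain ⟨x, hx⟩ := exists_ne (1 : ↥(L ⊓ Subgroup.centralizer ((P : Subgroup G) : Set G)))
    refine ⟨⟨ConjClasses.mk x, ConjClasses.mk 1, ?_⟩⟩
    intro h
    rw [ConjClasses.mk_eq_mk_iff_isConj, isConj_one_left] at h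
    exact hx h
  have h3 : Nontrivial {θ : IrrCharacter L // SInv L (P : Subgroup G) (θ : L → ℂ)} := by
    rw [← Finite.one_lt_card_iff_nontrivial] at h2 ⊢
    rw [hcount]; exact h2
  have hone : SInv L (P : Subgroup G)
      (Cfsg.Agent.Lib.Helper80_CharBasic.oneIrr L : L → ℂ) := fun s hs g g' hg' => rfl
  obtain ⟨⟨θ, hθ⟩, hθne⟩ := exists_ne
    (⟨Cfsg.Agent.Lib.Helper80_CharBasic.oneIrr L, hone⟩ :
      {θ : IrrCharacter L // SInv L (P : Subgroup G) (θ : L → ℂ)})
  have hθne' : θ ≠ Cfsg.Agent.Lib.Helper80_CharBasic.oneIrr L := fun h => hθne (Subtype.ext h)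
  obtain ⟨χ, hχ1, hχ2⟩ := exists_pprime_over p P L hLp θ hθ
  exact hχ2 (classInner_res_eq_zero_of_le_kerC L χ (hker χ hχ1) θ hθne')

/-- A normal subgroup `N` with `C_N(P) = 1` is contained in the kernel of every irreducible
character of degree prime to `p`. -/
theorem le_kerC_of_inf_centralizer_eq_bot [Finite G] (p : ℕ) [Fact p.Prime] (P : Sylow p G)
    (N : Subgroup G) [hN : N.Normal]
    (hNC : N ⊓ Subgroup.centralizer ((P : Subgroup G) : Set G) = ⊥)
    (χ : IrrCharacter G) (hχ : ¬ p ∣ charDegree (χ : G → ℂ)) : N ≤ kerC χ := by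
  classical
  have hp : p.Prime := Fact.out
  let _ : Fintype G := Fintype.ofFinite G
  let _ : Fintype N := Fintype.ofFinite N
  have hNp : (Nat.card N).Coprime p :=
    Cfsg.Agent.Lib.Helper76_KerPPrimeGrp.coprime_of_inf_centralizer_eq_bot P N hNC
  -- only the trivial character is `P`-invariant
  have hcount := card_sInv p P N hNp
  have hone1 : Nat.card (ConjClasses ↥(N ⊓ Subgroup.centralizer ((P : Subgroup G) : Set G))) = 1 := by
    rw [Nat.card_eq_one_iff_unique]
    have hss : Subsingleton ↥(N ⊓ Subgroup.centralizer ((P : Subgroup G) : Set G)) := by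
      rw [hNC]; infer_instance
    constructor
    · constructor
      intro a b
      obtain ⟨x, rfl⟩ := ConjClasses.mk_surjective a
      obtain ⟨y, rfl⟩ := ConjClasses.mk_surjective b
      rw [Subsingleton.elim x y]
    · exact ⟨ConjClasses.mk 1⟩
  rw [hone1, Nat.card_eq_one_iff_unique] at hcount
  have hss := hcount.1
  have hone : SInv N (P : Subgroup G)
      (Cfsg.Agent.Lib.Helper80_CharBasic.oneIrr N : N → ℂ) := fun s hs g g' hg' => rfl
  -- a constituent of `χ|_N`
  have hres : IsCharacter N (fun n : N => (χ : G → ℂ) n) :=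
    Cfsg.Agent.Lib.Helper75_CharArith.isCharacter_restrict N (isCharacter_of_isIrrCharacter χ.2)
  have hdeg1 : (fun n : N => (χ : G → ℂ) n) 1 = (charDegree (χ : G → ℂ) : ℂ) := by
    show (χ : G → ℂ) ((1 : N) : G) = _
    rw [Subgroup.coe_one, irr_one_eq_charDegree]
  obtain ⟨θ₀, hθ₀, -⟩ := exists_constituent_not_dvd 0 hres _ hdeg1
    (by rw [zero_dvd_iff]; exact (charDegree_pos χ).ne')
  -- the inertia group has index prime to `p`
  obtain ⟨e, he⟩ := Cfsg.Agent.Lib.Helper82_ItoMichler.clifford_degree N χ.2 θ₀.2 hθ₀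
    (charDegree (χ : G → ℂ)) (charDegree (θ₀ : N → ℂ)) (irr_one_eq_charDegree χ)
    (irr_one_eq_charDegree θ₀)
  have hidx : ¬ p ∣ (Cfsg.Agent.Lib.Helper82_ItoMichler.stab N (θ₀ : N → ℂ)).index := by
    intro hd
    apply hχ
    rw [he]
    exact Dvd.dvd.mul_left (Dvd.dvd.mul_right hd _) _
  obtain ⟨g, hg⟩ := Cfsg.Agent.Lib.Helper48_PMinimal.exists_conj_smul_le_of_not_dvd_index
    P.isPGroup' hidx
  -- the conjugate `θ₁` of `θ₀` is `P`-invariant
  set θ₁ : N → ℂ := Cfsg.Agent.Lib.Helper75_Clifford.conjFun N hN (θ₀ : N → ℂ) g with hθ₁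
  have hθ₁irr : IsIrrCharacter N θ₁ :=
    Cfsg.Agent.Lib.Helper75_Clifford.isIrrCharacter_conjFun N hN θ₀.2 g
  have hθ₁inv : SInv N (P : Subgroup G) θ₁ := by
    rw [sInv_iff_le_stab]
    intro s hs
    rw [Cfsg.Agent.Lib.Helper82_ItoMichler.mem_stab, hθ₁,
      Cfsg.Agent.Lib.Helper75_Clifford.conjFun_conjFun]
    have h1 : g * s * g⁻¹ ∈ Cfsg.Agent.Lib.Helper82_ItoMichler.stab N (θ₀ : N → ℂ) := by
      apply hg
      rw [Cfsg.Agent.Lib.Helper35_FrobeniusNPC.mem_conj_smul]
      have : g⁻¹ * (g * s * g⁻¹) * g = s := by group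
      rw [this]; exact hs
    rw [Cfsg.Agent.Lib.Helper82_ItoMichler.mem_stab] at h1
    have h2 : g * s = (g * s * g⁻¹) * g := by group
    rw [h2, ← Cfsg.Agent.Lib.Helper75_Clifford.conjFun_conjFun, h1]
  have hθ₁eq : (⟨⟨θ₁, hθ₁irr⟩, hθ₁inv⟩ :
      {θ : IrrCharacter N // SInv N (P : Subgroup G) (θ : N → ℂ)}) =
      ⟨Cfsg.Agent.Lib.Helper80_CharBasic.oneIrr N, hone⟩ := Subsingleton.elim _ _
  have hθ₁one : θ₁ = fun _ : N => (1 : ℂ) := by
    have := congrArg (fun t : {θ : IrrCharacter N // SInv N (P : Subgroup G) (θ : N → ℂ)} =>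
      ((t : IrrCharacter N) : N → ℂ)) hθ₁eq
    exact this
  apply le_kerC_of_one_constituent N χ
  rw [← hθ₁one, hθ₁]
  have h3 := Cfsg.Agent.Lib.Helper75_Clifford.classInner_res_conjFun N hN
    (isClassFunction_of_isIrrCharacter χ.2) (θ₀ : N → ℂ) g
  unfold Cfsg.Agent.Lib.Helper75_Clifford.res at h3
  rw [h3]
  exact hθ₀

end Cfsg.Agent.Lib.Helper76_KerPPrimeGlaub
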