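import Mathlib
import Cfsg.Agent.Lib.Helper76_FieldDeg
import Cfsg.Agent.Lib.Helper76_GalConj
import Cfsg.Agent.Lib.Helper75_Clifford
import Cfsg.Agent.Lib.Helper75_GalConj
import Cfsg.Agent.Lib.Helper3_NilpMono
import Cfsg.Agent.S4014

/-!
# Characters of `p`-groups induced from maximal subgroups, and power maps (helper76)
-/

set_option autoImplicit false
set_option linter.unusedSectionVars false

namespace Cfsg.Agent.Lib.Helper76_PGroupInd

open scoped ComplexConjugate
open Cfsg Cfsg.Agent.Lib.Helper76_FieldDeg Cfsg.Agent.Lib.Helper76_GalConj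
  Cfsg.Agent.Lib.Helper75_Clifford Cfsg.Agent.Lib.Helper75_Induced
  Cfsg.Agent.Lib.Helper75_CharArith Cfsg.Agent.Lib.Helper75_IndChar
  Cfsg.Agent.Lib.Helper3_CharBridge Cfsg.Agent.Lib.Helper3_CharOrtho

/-! ### Power maps by units of `ℤ/N` -/

section pm

variable {Q : Type*} [Group Q] [Finite Q]

/-- The power map `ψ ↦ (g ↦ ψ (g ^ u))`. -/
def pm (N : ℕ) (u : (ZMod N)ˣ) (ψ : Q → ℂ) : Q → ℂ := fun g => ψ (g ^ (u : ZMod N).val)

omit [Finite Q] in
theorem pm_apply (N : ℕ) (u : (ZMod N)ˣ) (ψ : Q → ℂ) (g : Q) :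
    pm N u ψ g = ψ (g ^ (u : ZMod N).val) := rfl

omit [Finite Q] in
theorem mem_powStab_iff_pm {N : ℕ} {u : (ZMod N)ˣ} {ψ : Q → ℂ} :
    u ∈ powStab N ψ ↔ pm N u ψ = ψ := by
  rw [mem_powStab]
  constructor
  · intro h
    funext g
    exact h g
  · intro h g
    exact congrFun h g

theorem pow_card_dvd {N : ℕ} (hN : Nat.card Q ∣ N) (g : Q) : g ^ N = 1 := by
  obtain ⟨k, rfl⟩ := hN
  rw [pow_mul, pow_card_eq_one', one_pow]

theorem pow_val_mul {N : ℕ} [NeZero N] (hN : Nat.card Q ∣ N) (g : Q) (u v : (ZMod N)ˣ) :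
    g ^ ((u * v : (ZMod N)ˣ) : ZMod N).val = (g ^ (u : ZMod N).val) ^ (v : ZMod N).val := by
  rw [Units.val_mul, ZMod.val_mul, ← pow_mul, ← pow_eq_pow_mod _ (pow_card_dvd hN g)]

theorem pow_val_one {N : ℕ} [NeZero N] (hN : Nat.card Q ∣ N) (g : Q) :
    g ^ ((1 : (ZMod N)ˣ) : ZMod N).val = g := by
  rw [Units.val_one, ZMod.val_one_eq_one_mod, ← pow_eq_pow_mod _ (pow_card_dvd hN g), pow_one]

theorem pm_mul {N : ℕ} [NeZero N] (hN : Nat.card Q ∣ N) (u v : (ZMod N)ˣ) (ψ : Q → ℂ) :
    pm N (u * v) ψ = pm N u (pm N v ψ) := by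
  funext g
  rw [pm_apply, pm_apply, pm_apply, pow_val_mul hN]

theorem pm_one {N : ℕ} [NeZero N] (hN : Nat.card Q ∣ N) (ψ : Q → ℂ) : pm N 1 ψ = ψ := by
  funext g
  rw [pm_apply, pow_val_one hN]

theorem coprime_val {N : ℕ} (hN : Nat.card Q ∣ N) (u : (ZMod N)ˣ) :
    ((u : ZMod N).val).Coprime (Nat.card Q) :=
  Nat.Coprime.coprime_dvd_right hN (ZMod.val_coe_unit_coprime u)

end pm

/-! ### Induction from a normal subgroup -/

section ind

variable {P : Type*} [Group P] [Fintype P]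

/-- `extendByZero` commutes with power maps prime to the group order. -/
theorem extendByZero_pow (M : Subgroup P) (θ : M → ℂ) (k : ℕ) (hk : k.Coprime (Nat.card P))
    (h : ∀ m : M, θ (m ^ k) = θ m) (y : P) :
    Cfsg.extendByZero M θ (y ^ k) = Cfsg.extendByZero M θ y := by
  by_cases hy : y ∈ M
  · have h1 : y ^ k = ((⟨y, hy⟩ ^ k : M) : P) := by simp
    rw [h1, extendByZero_coe, h ⟨y, hy⟩]
    have h2 : y = ((⟨y, hy⟩ : M) : P) := rfl
    conv_rhs => rw [h2, extendByZero_coe]
  · have hy' : y ^ k ∉ M := fun h' => hy (mem_of_pow_mem_of_coprime M hk h')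
    rw [extendByZero_of_not_mem M θ hy, extendByZero_of_not_mem M θ hy']

/-- If `θ` is fixed by the `k`-th power map then so is `Ind θ`. -/
theorem indFun_pow_eq (M : Subgroup P) (θ : M → ℂ) (k : ℕ) (hk : k.Coprime (Nat.card P))
    (h : ∀ m : M, θ (m ^ k) = θ m) (g : P) :
    Cfsg.indFun M θ (g ^ k) = Cfsg.indFun M θ g := by
  rw [indFun_apply, indFun_apply]
  congr 1
  refine Finset.sum_congr rfl (fun x _ => ?_)
  have h1 : x⁻¹ * g ^ k * x = (x⁻¹ * g * x) ^ k := by
    have := conj_pow (a := x⁻¹) (b := g) (i := k)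
    rw [inv_inv] at this
    exact this.symm
  rw [h1, extendByZero_pow M θ k hk h]

/-- Conjugation commutes with power maps. -/
theorem conjFun_pow (M : Subgroup P) (hM : M.Normal) (θ : M → ℂ) (k : ℕ) (x : P) :
    Helper75_Clifford.conjFun M hM (fun m : M => θ (m ^ k)) x = fun m : M => Helper75_Clifford.conjFun M hM θ x (m ^ k) := by
  funext m
  rw [conjFun_apply, conjFun_apply]
  congr 1
  apply Subtype.ext
  simp [conj_pow]

/-- If `Ind θ` is irreducible then so is `θ`. -/
theorem irr_of_ind_irr (M : Subgroup P) (hM : M.Normal) {θ : M → ℂ}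
    (hθ : Cfsg.IsCharacter M θ) (hind : Cfsg.IsIrrCharacter P (Cfsg.indFun M θ)) :
    Cfsg.IsIrrCharacter M θ := by
  classical
  have : Fintype M := Fintype.ofFinite M
  have hcl : Cfsg.IsClassFunction M θ := isClassFunction_of_isCharacter hθ
  have h1 := classInner_self_of_isIrrCharacter hind
  rw [classInner_indFun_indFun M hM] at h1
  have hnat : ∀ x : P, ∃ n : ℕ, Cfsg.classInner θ (Helper75_Clifford.conjFun M hM θ x) = n := fun x =>
    classInner_isCharacter_nat hθ (isCharacter_conjFun M hM hθ x)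
  choose n hn using hnat
  obtain ⟨n₀, hn₀⟩ := classInner_isCharacter_nat hθ hθ
  have hM0 : (Nat.card M : ℂ) ≠ 0 := by
    rw [Nat.cast_ne_zero]; exact Nat.card_pos.ne'
  have h2 : ∑ x : P, n x = Nat.card M := by
    have h3 : ((∑ x : P, n x : ℕ) : ℂ) = (Nat.card M : ℂ) := by
      push_cast
      simp_rw [← hn]
      field_simp at h1
      exact h1
    exact_mod_cast h3
  have h4 : ∀ x ∈ (Finset.univ.filter (fun x : P => x ∈ M)), n x = n₀ := by
    intro x hx
    have hxM : x ∈ M := (Finset.mem_filter.mp hx).2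
    have h5 := hn x
    have h6 : Helper75_Clifford.conjFun M hM θ x = θ := conjFun_of_mem M hM hcl ⟨x, hxM⟩
    rw [h6, hn₀] at h5
    exact_mod_cast h5.symm
  have h7 : Nat.card M * n₀ ≤ Nat.card M := by
    calc Nat.card M * n₀ = ∑ x ∈ Finset.univ.filter (fun x : P => x ∈ M), n₀ := by
          rw [Finset.sum_const, smul_eq_mul, Nat.card_eq_fintype_card, Fintype.card_subtype]
      _ = ∑ x ∈ Finset.univ.filter (fun x : P => x ∈ M), n x :=
          (Finset.sum_congr rfl h4).symm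
      _ ≤ ∑ x : P, n x := Finset.sum_le_sum_of_subset (Finset.filter_subset _ _)
      _ = Nat.card M := h2
  have h8 : n₀ ≤ 1 := by
    have hpos : 0 < Nat.card M := Nat.card_pos
    exact Nat.le_of_mul_le_mul_left (by rw [mul_one]; exact h7) hpos
  have h9 : θ 1 ≠ 0 := by
    intro h0
    have h10 := Cfsg.Agent.Lib.Helper75_Clifford.irr_one_ne_zero hind
    rw [indFun_one, h0, mul_zero] at h10
    exact h10 rfl
  have h11 : n₀ ≠ 0 := by
    intro h0
    have := classInner_self_ne_zero h9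
    rw [hn₀, h0] at this
    exact this (by simp)
  have h12 : n₀ = 1 := by omega
  apply isIrrCharacter_of_classInner_self hθ
  rw [hn₀, h12]
  simp

/-- A non-linear irreducible character of a `p`-group is induced from an irreducible character of
a normal subgroup of index `p`. -/
theorem exists_max_ind {P : Type*} [Group P] [Fintype P] {p : ℕ} [hp : Fact p.Prime]
    (hP : IsPGroup p P) (χ : IrrCharacter P) (hdeg : (χ : P → ℂ) 1 ≠ 1) :
    ∃ (M : Subgroup P) (_ : M.Normal) (θ : M → ℂ), M.index = p ∧ Cfsg.IsIrrCharacter M θ ∧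
      (χ : P → ℂ) = Cfsg.indFun M θ := by
  classical
  have : Group.IsNilpotent P := hP.isNilpotent
  obtain ⟨H, lam, hχ⟩ := Cfsg.Agent.Lib.Helper3_NilpMono.monomial_of_nilpotent (χ : P → ℂ) χ.2
  have hH : H ≠ ⊤ := by
    intro hH
    apply hdeg
    have h1 : Nat.card H = Nat.card P := by rw [hH]; exact Subgroup.card_top
    rw [hχ, indFun_one, h1, map_one]
    have h2 : (Nat.card P : ℂ) ≠ 0 := by
      rw [Nat.cast_ne_zero]; exact Nat.card_pos.ne'
    field_simp
    simp
  obtain ⟨M, hHM, hMn, hMidx⟩ := Cfsg.Agent.S4014.exists_normal_index_prime hP H hH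
  have : Fintype M := Fintype.ofFinite M
  set θ : M → ℂ := Cfsg.indFun (H.subgroupOf M)
    (resSubgroupOf H M (fun h => ((lam h : ℂˣ) : ℂ))) with hθ
  have hχ' : (χ : P → ℂ) = Cfsg.indFun M θ := by
    rw [hθ, indFun_trans H M hHM, hχ]
  have hlamchar : Cfsg.IsCharacter (H.subgroupOf M)
      (resSubgroupOf H M (fun h => ((lam h : ℂˣ) : ℂ))) := by
    let φ : (H.subgroupOf M) →* ℂ :=
      ((Units.coeHom ℂ).comp lam).comp
        ((Subgroup.subgroupOfEquivOfLe hHM).toMonoidHom)
    exact (Cfsg.Agent.Lib.Helper15_Linear.isCharacter_of_hom φ).1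
  have hθchar : Cfsg.IsCharacter M θ := isCharacter_indFun (H.subgroupOf M) hlamchar
  refine ⟨M, hMn, θ, hMidx, irr_of_ind_irr M hMn hθchar ?_, hχ'⟩
  rw [← hχ']
  exact χ.2

/-- The restriction of `Ind θ` to `M` contains `θ`. -/
theorem classInner_res_ind_ne_zero (M : Subgroup P) [Fintype M] {θ : M → ℂ}
    (hχ : Cfsg.IsIrrCharacter P (Cfsg.indFun M θ)) :
    Cfsg.classInner (res M (Cfsg.indFun M θ)) θ ≠ 0 := by
  have h1 := frobenius_reciprocity M θ (Cfsg.indFun M θ) (isClassFunction_indFun M θ)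
  rw [classInner_self_of_isIrrCharacter hχ] at h1
  have h2 : Cfsg.classInner (res M (Cfsg.indFun M θ)) θ = conj (1 : ℂ) := by
    rw [h1, classInner_conj_symm]
    rfl
  rw [h2, map_one]
  exact one_ne_zero

/-- A power map fixing `Ind θ` sends `θ` to a conjugate. -/
theorem powMap_conj (M : Subgroup P) (hM : M.Normal) [Fintype M] {θ : M → ℂ}
    (hθ : Cfsg.IsIrrCharacter M θ) (hχ : Cfsg.IsIrrCharacter P (Cfsg.indFun M θ)) (k : ℕ)
    (hk : k.Coprime (Nat.card P))
    (hfix : ∀ g : P, Cfsg.indFun M θ (g ^ k) = Cfsg.indFun M θ g) :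
    ∃ x : P, (fun m : M => θ (m ^ k)) = Helper75_Clifford.conjFun M hM θ x := by
  have hk' : k.Coprime (Nat.card M) :=
    Nat.Coprime.coprime_dvd_right (Subgroup.card_subgroup_dvd_card M) hk
  have hθk : Cfsg.IsIrrCharacter M (fun m : M => θ (m ^ k)) :=
    Cfsg.Agent.Lib.Helper75_GalConj.isIrrCharacter_powMap hθ k hk'
  have h1 := classInner_res_ind_ne_zero M hχ
  have h2 : Cfsg.classInner (res M (Cfsg.indFun M θ)) (fun m : M => θ (m ^ k)) =
      Cfsg.classInner (res M (Cfsg.indFun M θ)) θ := by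
    unfold Cfsg.classInner
    congr 1
    have h3 : ∀ m : M, res M (Cfsg.indFun M θ) m * conj (θ (m ^ k)) =
        (fun m : M => res M (Cfsg.indFun M θ) m * conj (θ m)) (m ^ k) := by
      intro m
      simp only [res_apply]
      rw [Subgroup.coe_pow, hfix]
    simp_rw [h3]
    exact Equiv.sum_comp (powCoprime hk'.symm)
      (fun m : M => res M (Cfsg.indFun M θ) m * conj (θ m))
  rw [← h2] at h1
  exact exists_conj_of_constituent M hM hχ hθ hθk (classInner_res_ind_ne_zero M hχ) h1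

/-- If all `P`-conjugates of `θ` take the value `θ 1` at `m`, then so does `Ind θ`. -/
theorem indFun_eq_one_of_conj (M : Subgroup P) (hM : M.Normal) (θ : M → ℂ) (m : M)
    (h : ∀ x : P, Helper75_Clifford.conjFun M hM θ x m = θ 1) :
    Cfsg.indFun M θ (m : P) = Cfsg.indFun M θ 1 := by
  rw [indFun_restrict_normal M hM θ m, indFun_one]
  simp_rw [h]
  rw [Finset.sum_const, Finset.card_univ, nsmul_eq_mul, ← Nat.card_eq_fintype_card]
  ring

/-- If some power map fixes `Ind θ` (faithful, irreducible) but moves `θ`, then `θ` is faithful. -/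
theorem ker_trivial_of_moved {p : ℕ} [hp : Fact p.Prime] (M : Subgroup P) (hM : M.Normal)
    (hidx : M.index = p) {θ : M → ℂ} (hθ : Cfsg.IsIrrCharacter M θ)
    (hχ : Cfsg.IsIrrCharacter P (Cfsg.indFun M θ))
    (hfaith : ∀ g : P, Cfsg.indFun M θ g = Cfsg.indFun M θ 1 → g = 1) (k : ℕ)
    (hk : k.Coprime (Nat.card P))
    (hfix : ∀ g : P, Cfsg.indFun M θ (g ^ k) = Cfsg.indFun M θ g)
    (hne : ∃ m : M, θ (m ^ k) ≠ θ m) : ∀ m : M, θ m = θ 1 → m = 1 := by
  classical
  have : Fintype M := Fintype.ofFinite M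
  have hcl : Cfsg.IsClassFunction M θ := isClassFunction_of_isIrrCharacter hθ
  obtain ⟨x₁, hx₁⟩ := powMap_conj M hM hθ hχ k hk hfix
  have hx₁M : x₁ ∉ M := by
    intro hmem
    obtain ⟨m, hm⟩ := hne
    apply hm
    have h1 := congrFun hx₁ m
    rw [conjFun_of_mem M hM hcl ⟨x₁, hmem⟩] at h1
    exact h1
  -- the submonoid of elements whose conjugation is a power map
  let S : Submonoid P :=
    { carrier := {x | ∃ j : ℕ, Helper75_Clifford.conjFun M hM θ x = fun m : M => θ (m ^ j)}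
      one_mem' := ⟨1, by rw [conjFun_one]; funext m; rw [pow_one]⟩
      mul_mem' := by
        rintro x y ⟨j₁, h₁⟩ ⟨j₂, h₂⟩
        refine ⟨j₁ * j₂, ?_⟩
        rw [← conjFun_conjFun, h₁, conjFun_pow, h₂]
        funext m
        rw [pow_mul] }
  let T : Subgroup P :=
    { S with
      inv_mem' := by
        intro x hx
        have h1 : x⁻¹ = x ^ (orderOf x - 1) := by
          apply inv_eq_of_mul_eq_one_right
          rw [← pow_succ', Nat.sub_add_cancel (orderOf_pos x), pow_orderOf_eq_one]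
        rw [h1]
        exact S.pow_mem hx _ }
  have hMT : M ≤ T := by
    intro x hx
    refine ⟨1, ?_⟩
    rw [conjFun_of_mem M hM hcl ⟨x, hx⟩]
    funext m
    rw [pow_one]
  have hx₁T : x₁ ∈ T := ⟨k, hx₁.symm⟩
  have hT : T = ⊤ := by
    have h1 : T.index ∣ p := hidx ▸ Subgroup.index_dvd_of_le hMT
    rcases (Nat.dvd_prime hp.out).mp h1 with h2 | h2
    · exact Subgroup.index_eq_one.mp h2
    · exfalso
      have h3 := Subgroup.relIndex_mul_index hMT
      rw [h2, hidx] at h3
      have h4 : M.relIndex T = 1 := by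
        have hp0 : 0 < p := hp.out.pos
        exact Nat.eq_of_mul_eq_mul_right hp0 (by rw [h3, one_mul])
      exact hx₁M (Subgroup.relIndex_eq_one.mp h4 hx₁T)
  intro m hm
  have hmem : m ∈ kerC ⟨θ, hθ⟩ := (mem_kerC ⟨θ, hθ⟩ m).mpr hm
  have h5 : ∀ x : P, Helper75_Clifford.conjFun M hM θ x m = θ 1 := by
    intro x
    have hxT : x ∈ T := hT ▸ Subgroup.mem_top x
    obtain ⟨j, hj⟩ := hxT
    rw [hj]
    exact (mem_kerC ⟨θ, hθ⟩ _).mp ((kerC ⟨θ, hθ⟩).pow_mem hmem j)
  have h6 := hfaith (m : P) (indFun_eq_one_of_conj M hM θ m h5)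
  exact Subtype.ext h6

/-- The order of `M` is bounded by the `[P : M]`-th power of the index of the kernel of `θ`, when
`Ind θ` is faithful. -/
theorem card_le_index_pow (M : Subgroup P) (hM : M.Normal) {θ : M → ℂ}
    (hθ : Cfsg.IsIrrCharacter M θ)
    (hfaith : ∀ g : P, Cfsg.indFun M θ g = Cfsg.indFun M θ 1 → g = 1) :
    Nat.card M ≤ (kerC ⟨θ, hθ⟩).index ^ M.index := by
  classical
  have : Fintype M := Fintype.ofFinite M
  have : Fintype (P ⧸ M) := Fintype.ofFinite _
  have hcl : Cfsg.IsClassFunction M θ := isClassFunction_of_isIrrCharacter hθ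
  let Kq : P ⧸ M → Subgroup M := fun q =>
    (kerC ⟨θ, hθ⟩).comap (MulAut.conjNormal (H := M) (Quotient.out q)).toMonoidHom
  have hidx : ∀ q, (Kq q).index = (kerC ⟨θ, hθ⟩).index := by
    intro q
    exact Subgroup.index_comap_of_surjective _
      (MulAut.conjNormal (H := M) (Quotient.out q)).surjective
  have hinf : (⨅ q, Kq q) = ⊥ := by
    rw [eq_bot_iff]
    intro m hm
    rw [Subgroup.mem_iInf] at hm
    rw [Subgroup.mem_bot]
    have h5 : ∀ x : P, Helper75_Clifford.conjFun M hM θ x m = θ 1 := by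
      intro x
      obtain ⟨m', hm'⟩ := QuotientGroup.mk_out_eq_mul M x
      -- `out (mk x) = x * m'`, so `x = out * m'⁻¹`
      have hx : x = Quotient.out (QuotientGroup.mk x : P ⧸ M) * ((m'⁻¹ : M) : P) := by
        rw [hm']
        simp
      have h1 := hm (QuotientGroup.mk x : P ⧸ M)
      have h2 : Helper75_Clifford.conjFun M hM θ (Quotient.out (QuotientGroup.mk x : P ⧸ M)) m
          = θ 1 := by
        have h3 : (MulAut.conjNormal (H := M) (Quotient.out (QuotientGroup.mk x : P ⧸ M))) m ∈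
            kerC ⟨θ, hθ⟩ := h1
        have h4 := (mem_kerC ⟨θ, hθ⟩ _).mp h3
        rw [conjFun_eq_comp]
        exact h4
      rw [hx, ← conjFun_conjFun,
        conjFun_of_mem M hM (isClassFunction_conjFun M hM hcl _) m'⁻¹]
      exact h2
    have h6 := hfaith (m : P) (indFun_eq_one_of_conj M hM θ m h5)
    exact Subtype.ext h6
  calc Nat.card M = (⊥ : Subgroup M).index := (Subgroup.index_bot).symm
    _ = (⨅ q, Kq q).index := by rw [hinf]
    _ ≤ ∏ q, (Kq q).index := Subgroup.index_iInf_le Kq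
    _ = (kerC ⟨θ, hθ⟩).index ^ M.index := by
        simp_rw [hidx]
        rw [Finset.prod_const, Finset.card_univ]
        congr 1
        rw [Subgroup.index_eq_card M, Nat.card_eq_fintype_card]

/-- There are at most `[P : M]` conjugates of `θ`. -/
theorem exists_finset_conj (M : Subgroup P) (hM : M.Normal) {θ : M → ℂ}
    (hcl : Cfsg.IsClassFunction M θ) :
    ∃ S : Finset (M → ℂ), S.card ≤ M.index ∧ ∀ x : P, Helper75_Clifford.conjFun M hM θ x ∈ S := by
  classical
  have : Fintype (P ⧸ M) := Fintype.ofFinite _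
  refine ⟨Finset.univ.image (fun q : P ⧸ M => Helper75_Clifford.conjFun M hM θ (Quotient.out q)),
    ?_, ?_⟩
  · refine (Finset.card_image_le).trans ?_
    rw [Finset.card_univ, Subgroup.index_eq_card, Nat.card_eq_fintype_card]
  · intro x
    rw [Finset.mem_image]
    refine ⟨(QuotientGroup.mk x : P ⧸ M), Finset.mem_univ _, ?_⟩
    obtain ⟨m', hm'⟩ := QuotientGroup.mk_out_eq_mul M x
    rw [hm', ← conjFun_conjFun, conjFun_of_mem M hM (isClassFunction_conjFun M hM hcl _) m']

theorem card_powStab_eq_card_filter {Q : Type*} [Group Q] (N : ℕ) [NeZero N] (ψ : Q → ℂ)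
    [DecidablePred (fun u : (ZMod N)ˣ => u ∈ powStab N ψ)] :
    Nat.card (powStab N ψ) =
      (Finset.univ.filter (fun u : (ZMod N)ˣ => u ∈ powStab N ψ)).card := by
  rw [← Set.ncard_coe_finset, Nat.card_coe_set_eq]
  congr 1
  ext u
  simp

/-- Counting: the power stabilizer of `Ind θ` is at most `[P : M]` times that of `θ`. -/
theorem card_powStab_le (N : ℕ) [NeZero N] (hN : Nat.card P ∣ N) (M : Subgroup P) (hM : M.Normal)
    {θ : M → ℂ} (hθ : Cfsg.IsIrrCharacter M θ)
    (hχ : Cfsg.IsIrrCharacter P (Cfsg.indFun M θ)) :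
    Nat.card (powStab N (Cfsg.indFun M θ)) ≤ M.index * Nat.card (powStab N θ) := by
  classical
  have : Fintype M := Fintype.ofFinite M
  have hNM : Nat.card M ∣ N := (Subgroup.card_subgroup_dvd_card M).trans hN
  have hcl : Cfsg.IsClassFunction M θ := isClassFunction_of_isIrrCharacter hθ
  obtain ⟨S, hScard, hS⟩ := exists_finset_conj M hM hcl
  rw [card_powStab_eq_card_filter, card_powStab_eq_card_filter]
  set Sχ := Finset.univ.filter (fun u : (ZMod N)ˣ => u ∈ powStab N (Cfsg.indFun M θ)) with hSχ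
  set Sθ := Finset.univ.filter (fun u : (ZMod N)ˣ => u ∈ powStab N θ) with hSθ
  have himg : (Sχ.image (fun u => pm N u θ)).card ≤ M.index := by
    refine le_trans (Finset.card_le_card ?_) hScard
    intro a ha
    obtain ⟨u, hu, rfl⟩ := Finset.mem_image.mp ha
    have hu' : u ∈ powStab N (Cfsg.indFun M θ) := (Finset.mem_filter.mp hu).2
    obtain ⟨x, hx⟩ := powMap_conj M hM hθ hχ (u : ZMod N).val (coprime_val hN u) hu'
    have : pm N u θ = Helper75_Clifford.conjFun M hM θ x := hx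
    rw [this]
    exact hS x
  have hfib : ∀ a ∈ Sχ.image (fun u => pm N u θ),
      (Sχ.filter (fun v => pm N v θ = a)).card ≤ Sθ.card := by
    intro a ha
    obtain ⟨u₀, -, rfl⟩ := Finset.mem_image.mp ha
    apply Finset.card_le_card_of_injOn (fun v => u₀⁻¹ * v)
    · intro v hv
      have hv' : pm N v θ = pm N u₀ θ := (Finset.mem_filter.mp hv).2
      rw [hSθ, Finset.mem_coe, Finset.mem_filter]
      refine ⟨Finset.mem_univ _, ?_⟩
      rw [mem_powStab_iff_pm, pm_mul hNM, hv', ← pm_mul hNM, inv_mul_cancel, pm_one hNM]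
    · intro v _ w _ h
      exact mul_left_cancel h
  calc Sχ.card ≤ Sθ.card * (Sχ.image (fun u => pm N u θ)).card :=
        Finset.card_le_mul_card_image Sχ Sθ.card hfib
    _ ≤ Sθ.card * M.index := Nat.mul_le_mul_left _ himg
    _ = M.index * Sθ.card := mul_comm _ _

end ind

end Cfsg.Agent.Lib.Helper76_PGroupInd
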