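import Mathlib
import Cfsg.Agent.Lib.Helper76_S2647Defs

/-!
# S2647-BAS: basic API of the monomial matrices `monO ε π` (helper76)
-/

set_option autoImplicit false

open Matrix Cfsg.Agent.Lib.Helper76_S2647Defs

namespace Cfsg.Agent.Lib.Helper76_S2647_BAS

variable {F : Type*} [Field F]

theorem sgnF_ne_zero (ε : Fin 7 → ℤˣ) (j : Fin 7) : sgnF F ε j ≠ 0 := by
  intro h
  have := sgnF_mul_self F ε j
  rw [h, mul_zero] at this
  exact zero_ne_one this

theorem sgnF_inj (h2 : (2 : F) ≠ 0) (ε ε' : Fin 7 → ℤˣ) (j : Fin 7) (h : sgnF F ε j = sgnF F ε' j) :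
    ε j = ε' j := by
  unfold sgnF at h
  rcases Int.units_eq_one_or (ε j) with h1 | h1 <;> rcases Int.units_eq_one_or (ε' j) with h1' | h1'
  · rw [h1, h1']
  · exfalso
    rw [h1, h1'] at h
    apply h2
    have : (1 : F) = -1 := by simpa using h
    linear_combination this
  · exfalso
    rw [h1, h1'] at h
    apply h2
    have : (-1 : F) = 1 := by simpa using h
    linear_combination -this
  · rw [h1, h1']

theorem monO_eq_iff (h2 : (2 : F) ≠ 0) (ε ε' : Fin 7 → ℤˣ) (π π' : Equiv.Perm (Fin 7)) :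
    monO F ε π = monO F ε' π' ↔ ε = ε' ∧ π = π' := by
  constructor
  · intro h
    have hM : monM F ε π = monM F ε' π' := by
      have := congrArg (fun k : ↥(O7 F) => ((k : Matrix.GeneralLinearGroup (Fin 7) F) : Matrix (Fin 7) (Fin 7) F)) h
      simpa only [monO_coe] using this
    have hπ : π = π' := by
      ext j
      have := congrFun (congrFun hM (π j)) j
      rw [monM_apply, monM_apply, if_pos rfl] at this
      by_cases hj : π j = π' j
      · rw [hj]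
      · rw [if_neg hj] at this
        exact absurd this (sgnF_ne_zero ε j)
    subst hπ
    refine ⟨?_, rfl⟩
    funext j
    have := congrFun (congrFun hM (π j)) j
    rw [monM_apply, monM_apply, if_pos rfl, if_pos rfl] at this
    exact sgnF_inj h2 ε ε' j this
  · rintro ⟨rfl, rfl⟩
    rfl

theorem monO_mem_Sy_iff (h2 : (2 : F) ≠ 0) (ε : Fin 7 → ℤˣ) (π : Equiv.Perm (Fin 7)) :
    monO F ε π ∈ Sy F ↔ ∏ j, ε j = 1 ∧ π ∈ D8 := by
  rw [mem_Sy_iff]
  constructor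
  · rintro ⟨ε', π', hε', hπ', h⟩
    obtain ⟨rfl, rfl⟩ := (monO_eq_iff h2 _ _ _ _).mp h
    exact ⟨hε', hπ'⟩
  · rintro ⟨hε, hπ⟩
    exact ⟨ε, π, hε, hπ, rfl⟩

theorem monO_mem_Ed_iff (h2 : (2 : F) ≠ 0) (ε : Fin 7 → ℤˣ) (π : Equiv.Perm (Fin 7)) :
    monO F ε π ∈ Ed F ↔ ∏ j, ε j = 1 ∧ π = 1 := by
  rw [mem_Ed_iff]
  constructor
  · rintro ⟨ε', hε', h⟩
    obtain ⟨rfl, rfl⟩ := (monO_eq_iff h2 _ _ _ _).mp h
    exact ⟨hε', rfl⟩
  · rintro ⟨hε, rfl⟩
    exact ⟨ε, hε, rfl⟩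

theorem units_mul_self (u : ℤˣ) : u * u = 1 := by
  rcases Int.units_eq_one_or u with h | h <;> rw [h] <;> rfl

/-- conjugating a sign change by a monomial matrix -/
theorem conj_diag (ε δ : Fin 7 → ℤˣ) (π : Equiv.Perm (Fin 7)) :
    monO F ε π * monO F δ 1 * (monO F ε π)⁻¹ = monO F (fun j => δ (π⁻¹ j)) 1 := by
  rw [monO_inv, monO_mul, monO_mul]
  congr 1
  · funext j
    show ε (π⁻¹ j) * (δ (π⁻¹ j) * ε ((1 : Equiv.Perm (Fin 7)) (π⁻¹ j))) = δ (π⁻¹ j)
    rw [Equiv.Perm.coe_one, id, mul_comm (δ (π⁻¹ j)), ← mul_assoc, units_mul_self, one_mul]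
  · simp

/-- conjugating a monomial matrix by a permutation matrix -/
theorem conj_perm (ε : Fin 7 → ℤˣ) (π σ : Equiv.Perm (Fin 7)) :
    monO F 1 σ * monO F ε π * (monO F 1 σ)⁻¹ = monO F (fun j => ε (σ⁻¹ j)) (σ * π * σ⁻¹) := by
  rw [monO_inv, monO_mul, monO_mul]
  congr 1
  funext j
  simp

/-- the permutation part of a conjugate -/
theorem conj_mon (ε ε' : Fin 7 → ℤˣ) (π π' : Equiv.Perm (Fin 7)) :
    ∃ ε'' : Fin 7 → ℤˣ, monO F ε π * monO F ε' π' * (monO F ε π)⁻¹ = monO F ε'' (π * π' * π⁻¹) := by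
  rw [monO_inv, monO_mul, monO_mul]
  exact ⟨_, rfl⟩

theorem monO_split (ε : Fin 7 → ℤˣ) (π : Equiv.Perm (Fin 7)) :
    monO F ε π = monO F 1 π * monO F ε 1 := by
  rw [monO_mul]
  congr 1
  funext j
  simp

end Cfsg.Agent.Lib.Helper76_S2647_BAS
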