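import Mathlib
import Cfsg.Agent.Lib.Helper76_S2647Defs

/-!
# S2647-MONO: an isometry normalizing `Ed` is monomial (helper76, parallel attempt)
-/

set_option autoImplicit false

open Matrix Cfsg.Agent.Lib.Helper76_S2647Defs

namespace Cfsg.Agent.Lib.Helper76_S2647_MONO

variable {F : Type*} [Field F]

/-- the sign vector flipping `i` and `k` -/
def flip2 (i k : Fin 7) : Fin 7 → ℤˣ := fun j => if j = i ∨ j = k then -1 else 1

theorem prod_flip2 (i k : Fin 7) (hik : i ≠ k) : ∏ j, flip2 i k j = 1 := by
  revert i k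
  decide

theorem exists_third (i k : Fin 7) : ∃ l : Fin 7, l ≠ i ∧ l ≠ k := by
  revert i k
  decide

theorem monM_one_apply (δ : Fin 7 → ℤˣ) (i j : Fin 7) :
    monM F δ 1 i j = if i = j then sgnF F δ j else 0 := by
  rw [monM_apply]
  rfl

theorem mul_monM_one (N : Matrix (Fin 7) (Fin 7) F) (δ : Fin 7 → ℤˣ) (i j : Fin 7) :
    (N * monM F δ 1) i j = N i j * sgnF F δ j := by
  rw [Matrix.mul_apply, Finset.sum_eq_single j]
  · rw [monM_one_apply, if_pos rfl]
  · intro k _ hk
    rw [monM_one_apply, if_neg hk, mul_zero]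
  · intro h
    exact absurd (Finset.mem_univ _) h

theorem monM_one_mul (N : Matrix (Fin 7) (Fin 7) F) (δ : Fin 7 → ℤˣ) (i j : Fin 7) :
    (monM F δ 1 * N) i j = sgnF F δ i * N i j := by
  rw [Matrix.mul_apply, Finset.sum_eq_single i]
  · rw [monM_one_apply, if_pos rfl]
  · intro k _ hk
    rw [monM_one_apply, if_neg (Ne.symm hk), zero_mul]
  · intro h
    exact absurd (Finset.mem_univ _) h

theorem mono (h2 : (2 : F) ≠ 0) (n : ↥(O7 F))
    (hn : ∀ d ∈ Ed F, n * d * n⁻¹ ∈ Ed F) (hn' : ∀ d ∈ Ed F, n⁻¹ * d * n ∈ Ed F) :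
    ∃ (ε : Fin 7 → ℤˣ) (π : Equiv.Perm (Fin 7)), n = monO F ε π := by
  classical
  set N : Matrix (Fin 7) (Fin 7) F := ((n : Matrix.GeneralLinearGroup (Fin 7) F) : Matrix (Fin 7) (Fin 7) F)
    with hN
  set M : Matrix (Fin 7) (Fin 7) F :=
    (((n⁻¹ : ↥(O7 F)) : Matrix.GeneralLinearGroup (Fin 7) F) : Matrix (Fin 7) (Fin 7) F) with hM
  have hMN : M * N = 1 := by
    rw [hM, hN, ← Units.val_mul, ← Subgroup.coe_mul, inv_mul_cancel]
    rfl
  have hne : (1 : F) ≠ -1 := by
    intro h
    apply h2
    linear_combination h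
  -- for every even sign vector `δ'` there is `δ` with `N diag(δ) = diag(δ') N`
  have hkey : ∀ δ' : Fin 7 → ℤˣ, ∏ j, δ' j = 1 → ∃ δ : Fin 7 → ℤˣ,
      ∀ i j, N i j * sgnF F δ j = sgnF F δ' i * N i j := by
    intro δ' hδ'
    obtain ⟨δ, -, hδ⟩ := hn' (monO F δ' 1) ⟨δ', hδ', rfl⟩
    refine ⟨δ, fun i j => ?_⟩
    have h3 : n * monO F δ 1 = monO F δ' 1 * n := by
      rw [← hδ]
      group
    have h4 := congrArg (fun k : ↥(O7 F) =>
      ((k : Matrix.GeneralLinearGroup (Fin 7) F) : Matrix (Fin 7) (Fin 7) F)) h3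
    have h5 : N * monM F δ 1 = monM F δ' 1 * N := h4
    have h6 := congrFun (congrFun h5 i) j
    rwa [mul_monM_one, monM_one_mul] at h6
  -- at most one nonzero entry in each column
  have huniq : ∀ i k j : Fin 7, N i j ≠ 0 → N k j ≠ 0 → i = k := by
    intro i k j hi hk
    by_contra hik
    obtain ⟨l, hl1, hl2⟩ := exists_third i k
    obtain ⟨δ, hδ⟩ := hkey (flip2 i l) (prod_flip2 i l (Ne.symm hl1))
    have h3 := hδ i j
    have h4 := hδ k j
    have e1 : sgnF F (flip2 i l) i = -1 := by simp [sgnF, flip2]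
    have e2 : sgnF F (flip2 i l) k = 1 := by
      have : flip2 i l k = 1 := by
        unfold flip2
        rw [if_neg]
        rintro (h | h)
        · exact hik h.symm
        · exact hl2 h.symm
      simp [sgnF, this]
    rw [e1] at h3
    rw [e2] at h4
    have h5 : sgnF F δ j = -1 := by
      have : N i j * sgnF F δ j = N i j * (-1) := by rw [h3]; ring
      exact mul_left_cancel₀ hi this
    have h6 : sgnF F δ j = 1 := by
      have : N k j * sgnF F δ j = N k j * 1 := by rw [h4]; ring
      exact mul_left_cancel₀ hk this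
    exact hne (h6.symm.trans h5)
  -- at least one nonzero entry in each column
  have hex : ∀ j : Fin 7, ∃ i, N i j ≠ 0 := by
    intro j
    by_contra hcon
    simp only [not_exists, not_not] at hcon
    have h3 := congrFun (congrFun hMN j) j
    rw [Matrix.mul_apply, Matrix.one_apply_eq] at h3
    have : ∑ k, M j k * N k j = 0 := Finset.sum_eq_zero (fun k _ => by rw [hcon k, mul_zero])
    rw [this] at h3
    exact zero_ne_one h3
  choose p hp using hex
  have hp' : ∀ i j, N i j ≠ 0 → i = p j := fun i j h => huniq i (p j) j h (hp j)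
  have hpinj : Function.Injective p := by
    intro j j' hjj'
    by_contra hne'
    have h3 := congrFun (congrFun hMN j) j'
    rw [Matrix.mul_apply, Matrix.one_apply_ne hne', Finset.sum_eq_single (p j')] at h3
    · have h4 := congrFun (congrFun hMN j) j
      rw [Matrix.mul_apply, Matrix.one_apply_eq, Finset.sum_eq_single (p j)] at h4
      · rw [← hjj'] at h3
        rcases mul_eq_zero.mp h3 with h5 | h5
        · rw [h5, zero_mul] at h4
          exact zero_ne_one h4
        · rw [hjj'] at h5
          exact hp j' h5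
      · intro k _ hk
        by_cases h5 : N k j = 0
        · rw [h5, mul_zero]
        · exact absurd (hp' k j h5) hk
      · intro h
        exact absurd (Finset.mem_univ _) h
    · intro k _ hk
      by_cases h5 : N k j' = 0
      · rw [h5, mul_zero]
      · exact absurd (hp' k j' h5) hk
    · intro h
      exact absurd (Finset.mem_univ _) h
  let π : Equiv.Perm (Fin 7) := Equiv.ofBijective p (Finite.injective_iff_bijective.mp hpinj)
  have hπ : ∀ j, π j = p j := fun j => rfl
  -- the nonzero entries are `±1`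
  have hsq : ∀ j, N (p j) j * N (p j) j = 1 := by
    intro j
    have hmem := (Cfsg.Agent.Lib.Helper44_Orth.mem_isometryGroup_iff (⇑(Q7 F)) n.1).mp n.2
    have h3 := hmem (Pi.single j 1)
    rw [Q7_apply, Q7_apply] at h3
    have h4 : ∀ i, (N *ᵥ Pi.single j 1) i = N i j := by
      intro i
      rw [Matrix.mulVec_single_one]
      rfl
    simp only [← hN, h4] at h3
    rw [Finset.sum_eq_single (p j), Finset.sum_eq_single j] at h3
    · simpa using h3
    · intro k _ hk
      simp [hk]
    · intro h
      exact absurd (Finset.mem_univ _) h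
    · intro k _ hk
      by_cases h5 : N k j = 0
      · rw [h5, mul_zero]
      · exact absurd (hp' k j h5) hk
    · intro h
      exact absurd (Finset.mem_univ _) h
  have hpm : ∀ j, N (p j) j = 1 ∨ N (p j) j = -1 := fun j => mul_self_eq_one_iff.mp (hsq j)
  let ε : Fin 7 → ℤˣ := fun j => if N (p j) j = 1 then 1 else -1
  have hε : ∀ j, sgnF F ε j = N (p j) j := by
    intro j
    show (((if N (p j) j = 1 then (1 : ℤˣ) else -1 : ℤˣ) : ℤ) : F) = N (p j) j
    rcases hpm j with h | h
    · rw [if_pos h, h]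
      simp
    · rw [if_neg (by rw [h]; exact fun h' => hne h'.symm), h]
      simp
  refine ⟨ε, π, ?_⟩
  apply Subtype.ext
  apply Units.ext
  show N = monM F ε π
  ext i j
  rw [monM_apply, hπ]
  by_cases hij : i = p j
  · rw [if_pos hij, hε, hij]
  · rw [if_neg hij]
    by_contra h5
    exact hij (hp' i j h5)

end Cfsg.Agent.Lib.Helper76_S2647_MONO
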