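import Mathlib
import Cfsg.Agent.Lib.Helper76_S2647Defs
import Cfsg.Agent.Lib.Helper44_Spinor
import Cfsg.Agent.Lib.Helper44_OmegaOdd

/-!
# S2647-OMEGA: which monomial matrices lie in `Ω₇` (helper76)
-/

set_option autoImplicit false

open Matrix Cfsg.Agent.Lib.Helper76_S2647Defs

namespace Cfsg.Agent.Lib.Helper76_S2647_OMEGA

variable {F : Type*} [Field F] [Fintype F]

theorem mem_Om7_iff (h2 : (2 : F) ≠ 0)
    (hnd : (QuadraticMap.polarBilin (Q7 F)).Nondegenerate)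
    (hdet : ∀ (ε : Fin 7 → ℤˣ) (π : Equiv.Perm (Fin 7)),
      (monM F ε π).det = (((Equiv.Perm.sign π : ℤˣ) : ℤ) : F) * ((((∏ j, ε j : ℤˣ)) : ℤ) : F))
    (hthp : ∀ π : Equiv.Perm (Fin 7), Cfsg.Agent.Lib.Helper44_Spinor.theta (Q7 F) (monO F 1 π) = 1)
    (hthd : ∀ ε : Fin 7 → ℤˣ, Cfsg.Agent.Lib.Helper44_Spinor.theta (Q7 F) (monO F ε 1) = ∏ j, ε j)
    (hsplit : ∀ (ε : Fin 7 → ℤˣ) (π : Equiv.Perm (Fin 7)), monO F ε π = monO F 1 π * monO F ε 1)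
    (ε : Fin 7 → ℤˣ) (π : Equiv.Perm (Fin 7)) :
    monO F ε π ∈ Om7 F ↔ ∏ j, ε j = 1 ∧ Equiv.Perm.sign π = 1 := by
  have hth : Cfsg.Agent.Lib.Helper44_Spinor.theta (Q7 F) (monO F ε π) = ∏ j, ε j := by
    rw [hsplit ε π, map_mul, hthp, hthd, one_mul]
  have hmem := Cfsg.Agent.Lib.Helper44_OmegaOdd.mem_omega_iff_det_theta h2 (Q7 F) hnd (monO F ε π)
  rw [show Om7 F = Cfsg.Omega F (⇑(Q7 F)) from rfl, hmem, monO_coe, hdet, hth]
  constructor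
  · rintro ⟨h1, h3⟩
    refine ⟨h3, ?_⟩
    rw [h3] at h1
    rcases Int.units_eq_one_or (Equiv.Perm.sign π) with h | h
    · exact h
    · exfalso
      rw [h] at h1
      apply h2
      have h4 : (-1 : F) * 1 = 1 := by simpa using h1
      linear_combination -h4
  · rintro ⟨h1, h3⟩
    rw [h1, h3]
    simp

end Cfsg.Agent.Lib.Helper76_S2647_OMEGA
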