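import Mathlib
import Cfsg.Agent.Lib.Helper76_S2647Defs

/-!
# S2647-UNIQC: the hypotheses of UNIQ for `Ed ≤ Sy` (helper76)
-/

set_option autoImplicit false

open Matrix Cfsg.Agent.Lib.Helper76_S2647Defs

namespace Cfsg.Agent.Lib.Helper76_S2647_UNIQC

variable {F : Type*} [Field F]

theorem monO_one_mul (a b : Equiv.Perm (Fin 7)) : monO F 1 a * monO F 1 b = monO F 1 (a * b) := by
  rw [monO_mul]
  congr 1

theorem monO_one_inv (a : Equiv.Perm (Fin 7)) : (monO F 1 a)⁻¹ = monO F 1 a⁻¹ := by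
  rw [monO_inv]
  rfl

/-- the centralizer condition in terms of sign vectors -/
theorem comm_iff
    (heq : ∀ (ε ε' : Fin 7 → ℤˣ) (π π' : Equiv.Perm (Fin 7)),
      monO F ε π = monO F ε' π' ↔ ε = ε' ∧ π = π')
    (hcd : ∀ (ε δ : Fin 7 → ℤˣ) (π : Equiv.Perm (Fin 7)),
      monO F ε π * monO F δ 1 * (monO F ε π)⁻¹ = monO F (fun j => δ (π⁻¹ j)) 1)
    (ε δ : Fin 7 → ℤˣ) (π : Equiv.Perm (Fin 7))
    (h : monO F ε π * monO F δ 1 = monO F δ 1 * monO F ε π) : ∀ j, δ (π j) = δ j := by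
  have h1 : monO F ε π * monO F δ 1 * (monO F ε π)⁻¹ = monO F δ 1 := by
    rw [h]
    group
  rw [hcd] at h1
  obtain ⟨h2, -⟩ := (heq _ _ _ _).mp h1
  intro j
  have := congrFun h2 (π j)
  have hj : π⁻¹ (π j) = j := by simp
  rw [hj] at this
  exact this.symm

theorem uniqc
    (heq : ∀ (ε ε' : Fin 7 → ℤˣ) (π π' : Equiv.Perm (Fin 7)),
      monO F ε π = monO F ε' π' ↔ ε = ε' ∧ π = π')
    (hSy : ∀ (ε : Fin 7 → ℤˣ) (π : Equiv.Perm (Fin 7)), monO F ε π ∈ Sy F ↔ ∏ j, ε j = 1 ∧ π ∈ D8)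
    (hEd : ∀ (ε : Fin 7 → ℤˣ) (π : Equiv.Perm (Fin 7)), monO F ε π ∈ Ed F ↔ ∏ j, ε j = 1 ∧ π = 1)
    (hcd : ∀ (ε δ : Fin 7 → ℤˣ) (π : Equiv.Perm (Fin 7)),
      monO F ε π * monO F δ 1 * (monO F ε π)⁻¹ = monO F (fun j => δ (π⁻¹ j)) 1)
    (hf1 : ∀ π : Equiv.Perm (Fin 7), π ∈ D8 → π ≠ 1 →
      Nat.card {δ : Fin 7 → ℤˣ // ∏ j, δ j = 1 ∧ ∀ j, δ (π j) = δ j} ≤ 16)
    (hf2 : ∀ π π' : Equiv.Perm (Fin 7), π ∈ D8 → π' ∈ D8 → π ≠ 1 → π' ≠ 1 → π ≠ π' →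
      Nat.card {δ : Fin 7 → ℤˣ // ∏ j, δ j = 1 ∧ (∀ j, δ (π j) = δ j) ∧ ∀ j, δ (π' j) = δ j} ≤ 8)
    (hnab : r4 * s2 ≠ s2 * r4) :
    (∀ s ∈ Sy F, ∀ e ∈ Ed F, s * e * s⁻¹ ∈ Ed F) ∧
    (∃ x ∈ Sy F, ∃ y ∈ Sy F, x * y * x⁻¹ * y⁻¹ ∉ Ed F) ∧
    (∀ x ∈ Sy F, x ∉ Ed F → Nat.card {e : ↥(O7 F) // e ∈ Ed F ∧ x * e = e * x} ≤ 16) ∧
    (∀ x ∈ Sy F, ∀ y ∈ Sy F, x ∉ Ed F → y ∉ Ed F → x * y⁻¹ ∉ Ed F →
      Nat.card {e : ↥(O7 F) // e ∈ Ed F ∧ x * e = e * x ∧ y * e = e * y} ≤ 8) ∧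
    (∀ a ∈ Ed F, ∀ b ∈ Ed F, a * b = b * a) := by
  refine ⟨?_, ?_, ?_, ?_, ?_⟩
  · rintro _ ⟨ε, π, -, -, rfl⟩ _ ⟨δ, hδ, rfl⟩
    rw [hcd]
    exact ⟨_, by rw [Equiv.prod_comp π⁻¹ δ]; exact hδ, rfl⟩
  · have hr : r4 ∈ D8 := Subgroup.subset_closure (by simp)
    have hs : s2 ∈ D8 := Subgroup.subset_closure (by simp)
    refine ⟨monO F 1 r4, (hSy 1 r4).mpr ⟨by simp, hr⟩, monO F 1 s2, (hSy 1 s2).mpr ⟨by simp, hs⟩, ?_⟩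
    rw [monO_one_inv, monO_one_inv, monO_one_mul, monO_one_mul, monO_one_mul, hEd]
    rintro ⟨-, h⟩
    apply hnab
    calc r4 * s2 = (r4 * s2 * r4⁻¹ * s2⁻¹) * (s2 * r4) := by group
      _ = s2 * r4 := by rw [h, one_mul]
  · rintro _ ⟨ε, π, hε, hπ, rfl⟩ hx
    have hπ1 : π ≠ 1 := by
      rintro rfl
      exact hx ((hEd ε 1).mpr ⟨hε, rfl⟩)
    refine le_trans ?_ (hf1 π hπ hπ1)
    have hchoose : ∀ e : {e : ↥(O7 F) // e ∈ Ed F ∧ monO F ε π * e = e * monO F ε π},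
        ∃ δ : Fin 7 → ℤˣ, ∏ j, δ j = 1 ∧ e.1 = monO F δ 1 := fun e => e.2.1
    choose f hf using hchoose
    refine Nat.card_le_card_of_injective
      (fun e => (⟨f e, (hf e).1, ?_⟩ : {δ : Fin 7 → ℤˣ // ∏ j, δ j = 1 ∧ ∀ j, δ (π j) = δ j})) ?_
    · have h := e.2.2
      rw [(hf e).2] at h
      exact comm_iff heq hcd ε (f e) π h
    · intro e e' hee'
      have h1 : f e = f e' := congrArg Subtype.val hee'
      apply Subtype.ext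
      rw [(hf e).2, (hf e').2, h1]
  · rintro _ ⟨ε, π, hε, hπ, rfl⟩ _ ⟨ε', π', hε', hπ', rfl⟩ hx hy hxy
    have hπ1 : π ≠ 1 := by
      rintro rfl
      exact hx ((hEd ε 1).mpr ⟨hε, rfl⟩)
    have hπ1' : π' ≠ 1 := by
      rintro rfl
      exact hy ((hEd ε' 1).mpr ⟨hε', rfl⟩)
    have hne : π ≠ π' := by
      rintro rfl
      apply hxy
      have hmem : monO F ε π * (monO F ε' π)⁻¹ ∈ Sy F :=
        (Sy F).mul_mem ((hSy ε π).mpr ⟨hε, hπ⟩) ((Sy F).inv_mem ((hSy ε' π).mpr ⟨hε', hπ'⟩))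
      rw [monO_inv, monO_mul] at hmem ⊢
      have h3 : π * π⁻¹ = 1 := mul_inv_cancel π
      rw [h3] at hmem ⊢
      exact (hEd _ _).mpr ⟨((hSy _ _).mp hmem).1, rfl⟩
    refine le_trans ?_ (hf2 π π' hπ hπ' hπ1 hπ1' hne)
    have hchoose : ∀ e : {e : ↥(O7 F) // e ∈ Ed F ∧ monO F ε π * e = e * monO F ε π ∧
        monO F ε' π' * e = e * monO F ε' π'},
        ∃ δ : Fin 7 → ℤˣ, ∏ j, δ j = 1 ∧ e.1 = monO F δ 1 := fun e => e.2.1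
    choose f hf using hchoose
    refine Nat.card_le_card_of_injective
      (fun e => (⟨f e, (hf e).1, ?_, ?_⟩ : {δ : Fin 7 → ℤˣ // ∏ j, δ j = 1 ∧
        (∀ j, δ (π j) = δ j) ∧ ∀ j, δ (π' j) = δ j})) ?_
    · have h := e.2.2.1
      rw [(hf e).2] at h
      exact comm_iff heq hcd ε (f e) π h
    · have h := e.2.2.2
      rw [(hf e).2] at h
      exact comm_iff heq hcd ε' (f e) π' h
    · intro e e' hee'
      have h1 : f e = f e' := congrArg Subtype.val hee'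
      apply Subtype.ext
      rw [(hf e).2, (hf e').2, h1]
  · rintro _ ⟨δ, -, rfl⟩ _ ⟨δ', -, rfl⟩
    rw [monO_mul, monO_mul]
    congr 1
    funext j
    simp [mul_comm]

end Cfsg.Agent.Lib.Helper76_S2647_UNIQC
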