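import Mathlib
import Cfsg.Prelude.Def_FusionSystem
set_option autoImplicit false

namespace Cfsg.Agent.Lib.Helper84_S2647_GENSC

theorem gensc {G : Type*} [Group G] (S T : Subgroup G)
    (hT : (Cfsg.groupFusionSystem S).StronglyClosed T) :
    T ≤ S ∧ ∀ t ∈ T, ∀ g : G, g * t * g⁻¹ ∈ S → g * t * g⁻¹ ∈ T := by
  refine ⟨hT.1, ?_⟩
  intro t ht g hg
  have hR : Subgroup.zpowers t ≤ T := by
    rw [Subgroup.zpowers_le]
    exact ht
  have hφ : ((MulAut.conj g).toMonoidHom.comp (Subgroup.zpowers t).subtype) ∈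
      (Cfsg.groupFusionSystem S).Hom (Subgroup.zpowers t) := by
    refine ⟨hR.trans hT.1, ?_, g, fun x => rfl⟩
    rintro ⟨x, hx⟩
    obtain ⟨k, rfl⟩ := Subgroup.mem_zpowers_iff.mp hx
    show g * t ^ k * g⁻¹ ∈ S
    have : g * t ^ k * g⁻¹ = (g * t * g⁻¹) ^ k := by
      rw [conj_zpow]
    rw [this]
    exact S.zpow_mem hg k
  exact hT.2 _ hR _ hφ ⟨t, Subgroup.mem_zpowers t⟩

end Cfsg.Agent.Lib.Helper84_S2647_GENSC
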