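import Mathlib
import Cfsg.Agent.Lib.Helper76_S2647Defs
set_option autoImplicit false
open Matrix Cfsg.Agent.Lib.Helper76_S2647Defs

namespace Cfsg.Agent.Lib.Helper84_S2647_NONDEG

variable {F : Type*} [Field F]

theorem polar_Q7' (v x : Fin 7 → F) :
    QuadraticMap.polar (⇑(Q7 F)) v x = 2 * ∑ i, v i * x i := by
  unfold QuadraticMap.polar
  rw [Q7_apply, Q7_apply, Q7_apply, ← Finset.sum_sub_distrib, ← Finset.sum_sub_distrib,
    Finset.mul_sum]
  apply Finset.sum_congr rfl
  intro i _
  simp only [Pi.add_apply]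
  ring

theorem sepLeft (h2 : (2 : F) ≠ 0) : (QuadraticMap.polarBilin (Q7 F)).SeparatingLeft := by
  intro v hv
  funext j
  have h := hv (Pi.single j (1 : F))
  rw [QuadraticMap.polarBilin_apply_apply, polar_Q7'] at h
  rw [Finset.sum_eq_single j] at h
  · simpa [h2] using h
  · intro i _ hij
    rw [Pi.single_eq_of_ne hij, mul_zero]
  · intro hh
    exact absurd (Finset.mem_univ _) hh

theorem nondeg (h2 : (2 : F) ≠ 0) : (QuadraticMap.polarBilin (Q7 F)).Nondegenerate := by
  refine ⟨sepLeft h2, ?_⟩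
  intro v hv
  apply sepLeft h2 v
  intro y
  have h := hv y
  rw [QuadraticMap.polarBilin_apply_apply] at h ⊢
  rw [QuadraticMap.polar_comm]
  exact h

end Cfsg.Agent.Lib.Helper84_S2647_NONDEG
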