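import Mathlib
import Cfsg.Agent.Lib.Helper76_S2647Defs
import Cfsg.Agent.Lib.Helper18_B2OmH
import Cfsg.Agent.Lib.Helper44_OrthIsoTransport

/-!
# S2647 package ISO (helper87, for helper76's market):
`Ω(x₀² + x₁y₁ + x₂y₂ + x₃y₃) ≅ Ω(x₀² + … + x₆²)` when `-1` is a sum of two squares and `2 ≠ 0`.
-/

set_option autoImplicit false
set_option linter.unusedVariables false

open Matrix Cfsg.Agent.Lib.Helper76_S2647Defs

namespace Cfsg.Agent.Lib.Helper87_S2647_ISO

variable {F : Type*} [Field F]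

/-- the reindexing `Unit ⊕ (Fin 3 ⊕ Fin 3) ≃ Fin 7`: `x₀ ↦ 0`, `x_k ↦ k`, `y_k ↦ k + 3` -/
def e7 : Unit ⊕ (Fin 3 ⊕ Fin 3) ≃ Fin 7 where
  toFun
    | Sum.inl _ => 0
    | Sum.inr (Sum.inl i) => ![1, 2, 3] i
    | Sum.inr (Sum.inr i) => ![4, 5, 6] i
  invFun := ![Sum.inl (), Sum.inr (Sum.inl 0), Sum.inr (Sum.inl 1), Sum.inr (Sum.inl 2),
    Sum.inr (Sum.inr 0), Sum.inr (Sum.inr 1), Sum.inr (Sum.inr 2)]
  left_inv := by
    rintro (⟨⟩ | i | i)
    · rfl
    · fin_cases i <;> rfl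
    · fin_cases i <;> rfl
  right_inv := by
    intro j
    fin_cases j <;> rfl

/-- the split form in `Fin 7` coordinates -/
def QH (F : Type*) [Field F] : (Fin 7 → F) → F := fun w => Cfsg.quadFormOdd 3 F (w ∘ e7)

theorem QH_apply (w : Fin 7 → F) :
    QH F w = w 0 ^ 2 + (w 1 * w 4 + w 2 * w 5 + w 3 * w 6) := by
  unfold QH Cfsg.quadFormOdd
  rw [Fin.sum_univ_three]
  rfl

/-- the frame map -/
def Lf (a b : F) : (Fin 7 → F) →ₗ[F] (Fin 7 → F) where
  toFun w := ![a * w 0 + b * w 1, -b * w 0 + a * w 1 + w 4, a * w 2 + b * w 3 + w 5,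
    -b * w 2 + a * w 3 + w 6, -b * w 0 + a * w 1 - w 4, a * w 2 + b * w 3 - w 5,
    -b * w 2 + a * w 3 - w 6]
  map_add' u v := by
    ext i
    fin_cases i <;> simp <;> ring
  map_smul' c u := by
    ext i
    fin_cases i <;> simp <;> ring

theorem Lf_apply (a b : F) (w : Fin 7 → F) :
    Lf a b w = ![a * w 0 + b * w 1, -b * w 0 + a * w 1 + w 4, a * w 2 + b * w 3 + w 5,
    -b * w 2 + a * w 3 + w 6, -b * w 0 + a * w 1 - w 4, a * w 2 + b * w 3 - w 5,
    -b * w 2 + a * w 3 - w 6] := rfl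

theorem QH_Lf (a b : F) (hab : a * a + b * b = -1) (w : Fin 7 → F) :
    QH F (Lf a b w) = -Q7 F w := by
  rw [QH_apply, Q7_apply, Fin.sum_univ_seven, Lf_apply]
  simp only [Matrix.cons_val_zero, Matrix.cons_val_one, Matrix.cons_val]
  linear_combination (w 0 * w 0 + w 1 * w 1 + w 2 * w 2 + w 3 * w 3) * hab

theorem Lf_injective (h2 : (2 : F) ≠ 0) (a b : F) (hab : a * a + b * b = -1) :
    Function.Injective (Lf a b) := by
  rw [injective_iff_map_eq_zero]
  intro w hw
  rw [Lf_apply] at hw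
  have h0 := congrFun hw 0
  have h1 := congrFun hw 1
  have h2' := congrFun hw 2
  have h3 := congrFun hw 3
  have h4 := congrFun hw 4
  have h5 := congrFun hw 5
  have h6 := congrFun hw 6
  simp only [Matrix.cons_val_zero, Matrix.cons_val_one, Matrix.cons_val, Pi.zero_apply]
    at h0 h1 h2' h3 h4 h5 h6
  have w4 : w 4 = 0 := by
    have : (2 : F) * w 4 = 0 := by linear_combination h1 - h4
    rcases mul_eq_zero.mp this with h | h
    · exact absurd h h2
    · exact h
  have w5 : w 5 = 0 := by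
    have : (2 : F) * w 5 = 0 := by linear_combination h2' - h5
    rcases mul_eq_zero.mp this with h | h
    · exact absurd h h2
    · exact h
  have w6 : w 6 = 0 := by
    have : (2 : F) * w 6 = 0 := by linear_combination h3 - h6
    rcases mul_eq_zero.mp this with h | h
    · exact absurd h h2
    · exact h
  have w0 : w 0 = 0 := by
    linear_combination (-a) * h0 + b * h1 - b * w4 + (w 0) * hab
  have w1 : w 1 = 0 := by
    linear_combination (-b) * h0 - a * h1 + a * w4 + (w 1) * hab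
  have w2 : w 2 = 0 := by
    linear_combination (-a) * h2' + b * h3 + a * w5 - b * w6 + (w 2) * hab
  have w3 : w 3 = 0 := by
    linear_combination (-b) * h2' - a * h3 + b * w5 + a * w6 + (w 3) * hab
  ext i
  fin_cases i <;> assumption


open Cfsg.Agent.Lib.Helper44_OrthIsoTransport in
theorem iso (h2 : (2 : F) ≠ 0) (a b : F) (hab : a * a + b * b = -1) :
    Nonempty (↥(Cfsg.Omega F (Cfsg.quadFormOdd 3 F)) ≃* ↥(Om7 F)) := by
  classical
  -- the frame matrix as an element of `GL₇(F)`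
  have hinj : Function.Injective (LinearMap.toMatrix' (Lf a b)).mulVec := by
    intro u v huv
    rw [LinearMap.toMatrix'_mulVec, LinearMap.toMatrix'_mulVec] at huv
    exact Lf_injective h2 a b hab huv
  have hunit : IsUnit (LinearMap.toMatrix' (Lf a b)) := Matrix.mulVec_injective_iff_isUnit.mp hinj
  have hP : (hunit.unit : Matrix.GeneralLinearGroup (Fin 7) F).1 = LinearMap.toMatrix' (Lf a b) :=
    hunit.unit_spec
  have hIs : IsIsom (fun w : Fin 7 → F => -Q7 F w) (QH F) hunit.unit := by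
    intro w
    rw [hP, LinearMap.toMatrix'_mulVec, QH_Lf a b hab]
  -- the three isomorphisms of isometry groups
  let E1 : ↥(Cfsg.isometryGroup F (Cfsg.quadFormOdd 3 F)) ≃* ↥(Cfsg.isometryGroup F (QH F)) :=
    Cfsg.Agent.Lib.Helper18_B2OmH.isometryEquiv e7 (Cfsg.quadFormOdd 3 F) (QH F) (fun _ => rfl)
  let E2 : ↥(Cfsg.isometryGroup F (fun w : Fin 7 → F => -Q7 F w)) ≃*
      ↥(Cfsg.isometryGroup F (QH F)) := isoG hIs
  have heq : Cfsg.isometryGroup F (fun w : Fin 7 → F => -Q7 F w) = O7 F := by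
    ext g
    rw [Cfsg.Agent.Lib.Helper44_Orth.mem_isometryGroup_iff,
      Cfsg.Agent.Lib.Helper44_Orth.mem_isometryGroup_iff]
    constructor
    · intro h u
      exact neg_injective (h u)
    · intro h u
      show -Q7 F _ = -Q7 F u
      rw [h u]
  let E3 : ↥(Cfsg.isometryGroup F (fun w : Fin 7 → F => -Q7 F w)) ≃* ↥(O7 F) :=
    MulEquiv.subgroupCongr heq
  exact ⟨Cfsg.Agent.Lib.Helper18_B2OmH.commutatorEquiv (E1.trans (E2.symm.trans E3))⟩

end Cfsg.Agent.Lib.Helper87_S2647_ISO
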