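import Mathlib
import Cfsg.Agent.Lib.Helper76_S2647Defs

/-!
# S2647 market (helper76), package FIX (helper8): counting the even sign vectors fixed by one resp. two
nonidentity elements of `D8` (finite check by kernel evaluation over the `2^7` sign vectors).
-/

set_option autoImplicit false

open Matrix Cfsg.Agent.Lib.Helper76_S2647Defs

namespace Cfsg.Agent.Lib.Helper8_S2647_FIX

/-- the seven nonidentity elements of `D8` -/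
def L7 : List (Equiv.Perm (Fin 7)) :=
  [r4, r4 * r4, r4 * r4 * r4, s2, r4 * s2, r4 * r4 * s2, r4 * r4 * r4 * s2]

set_option maxRecDepth 100000 in
theorem fix1_aux : ∀ π ∈ L7,
    Fintype.card {δ : Fin 7 → ℤˣ // ∏ j, δ j = 1 ∧ ∀ j, δ (π j) = δ j} ≤ 16 := by
  decide +kernel

set_option maxRecDepth 100000 in
theorem fix2_aux : ∀ π ∈ L7, ∀ π' ∈ L7, π ≠ π' →
    Fintype.card {δ : Fin 7 → ℤˣ // ∏ j, δ j = 1 ∧ (∀ j, δ (π j) = δ j) ∧ ∀ j, δ (π' j) = δ j} ≤ 8 := by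
  decide +kernel

theorem mem_L7
    (hmem : ∀ π : Equiv.Perm (Fin 7), π ∈ D8 ↔ π = 1 ∨ π = r4 ∨ π = r4 * r4 ∨ π = r4 * r4 * r4 ∨
      π = s2 ∨ π = r4 * s2 ∨ π = r4 * r4 * s2 ∨ π = r4 * r4 * r4 * s2)
    (π : Equiv.Perm (Fin 7)) (hπ : π ∈ D8) (hne : π ≠ 1) : π ∈ L7 := by
  rcases (hmem π).mp hπ with h | h | h | h | h | h | h | h
  · exact absurd h hne
  all_goals (rw [h]; simp [L7])

theorem fix1
    (hmem : ∀ π : Equiv.Perm (Fin 7), π ∈ D8 ↔ π = 1 ∨ π = r4 ∨ π = r4 * r4 ∨ π = r4 * r4 * r4 ∨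
      π = s2 ∨ π = r4 * s2 ∨ π = r4 * r4 * s2 ∨ π = r4 * r4 * r4 * s2)
    (π : Equiv.Perm (Fin 7)) (hπ : π ∈ D8) (hne : π ≠ 1) :
    Nat.card {δ : Fin 7 → ℤˣ // ∏ j, δ j = 1 ∧ ∀ j, δ (π j) = δ j} ≤ 16 := by
  rw [Nat.card_eq_fintype_card]
  exact fix1_aux π (mem_L7 hmem π hπ hne)

theorem fix2
    (hmem : ∀ π : Equiv.Perm (Fin 7), π ∈ D8 ↔ π = 1 ∨ π = r4 ∨ π = r4 * r4 ∨ π = r4 * r4 * r4 ∨
      π = s2 ∨ π = r4 * s2 ∨ π = r4 * r4 * s2 ∨ π = r4 * r4 * r4 * s2)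
    (π π' : Equiv.Perm (Fin 7)) (hπ : π ∈ D8) (hπ' : π' ∈ D8) (hne : π ≠ 1) (hne' : π' ≠ 1)
    (hd : π ≠ π') :
    Nat.card {δ : Fin 7 → ℤˣ // ∏ j, δ j = 1 ∧ (∀ j, δ (π j) = δ j) ∧ ∀ j, δ (π' j) = δ j} ≤ 8 := by
  rw [Nat.card_eq_fintype_card]
  exact fix2_aux π (mem_L7 hmem π hπ hne) π' (mem_L7 hmem π' hπ' hne') hd

end Cfsg.Agent.Lib.Helper8_S2647_FIX
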