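import Mathlib
import Cfsg.Agent.Lib.Helper76_S2647Defs
import Cfsg.Agent.Lib.Helper88_FusFam
import Cfsg.Agent.Lib.Helper69_S5320_ZMEET
import Cfsg.Agent.Lib.Helper71_S2647_GENAUT
import Cfsg.Agent.Lib.Helper84_S2647_GENSC
import Cfsg.Agent.Lib.Helper64_S2647_TRANSN
import Cfsg.Agent.Lib.Helper53_S2647_RESTRICT
import Cfsg.Agent.Lib.Helper76_S2647_BAS
import Cfsg.Agent.Lib.Helper60_S2647_D8
import Cfsg.Agent.Lib.Helper96_S2647_D8NORM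
import Cfsg.Agent.Lib.Helper60_S2647_CARD
import Cfsg.Agent.Lib.Helper84_S2647_NONDEG
import Cfsg.Agent.Lib.Helper26_S2647_OMDET
import Cfsg.Agent.Lib.Helper10_S2647_OMTHP
import Cfsg.Agent.Lib.Helper10_S2647_OMTHD
import Cfsg.Agent.Lib.Helper76_S2647_OMEGA
import Cfsg.Agent.Lib.Helper76_S2647_MONO
import Cfsg.Agent.Lib.Helper64_S2647_UNIQ
import Cfsg.Agent.Lib.Helper8_S2647_FIX
import Cfsg.Agent.Lib.Helper76_S2647_UNIQC
import Cfsg.Agent.Lib.Helper28_S2647_ZSY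
import Cfsg.Agent.Lib.Helper47_S2647_GENE
import Cfsg.Agent.Lib.Helper28_S2647_FUSE
import Cfsg.Agent.Lib.Helper47_S2647_SCLD
import Cfsg.Agent.Lib.Helper87_S2647_ISO
import Cfsg.Agent.Lib.Helper53_S2647_ORD
import Cfsg.Agent.Lib.Helper26_S2647_SQ2

/-!
# S2647: assembly (helper76)
-/

set_option autoImplicit false

namespace Cfsg.Agent.Lib.Helper76_S2647_Main

open Matrix Cfsg.Agent.Lib.Helper76_S2647Defs

variable {F : Type*} [Field F] [Fintype F]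

section klevel

variable (h2 : (2 : F) ≠ 0) (hns : ¬ IsSquare (2 : F))

include h2 hns

theorem mem_Om7_iff (ε : Fin 7 → ℤˣ) (π : Equiv.Perm (Fin 7)) :
    monO F ε π ∈ Om7 F ↔ ∏ j, ε j = 1 ∧ Equiv.Perm.sign π = 1 :=
  Cfsg.Agent.Lib.Helper76_S2647_OMEGA.mem_Om7_iff h2 (Cfsg.Agent.Lib.Helper84_S2647_NONDEG.nondeg h2) Cfsg.Agent.Lib.Helper26_S2647_OMDET.det_monM (Cfsg.Agent.Lib.Helper10_S2647_OMTHP.theta_perm h2 hns)
    (Cfsg.Agent.Lib.Helper10_S2647_OMTHD.theta_diag h2) Cfsg.Agent.Lib.Helper76_S2647_BAS.monO_split ε π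

theorem Sy_le_Om7 : Sy F ≤ Om7 F := by
  rintro _ ⟨ε, π, hε, hπ, rfl⟩
  exact (mem_Om7_iff h2 hns ε π).mpr ⟨hε, Cfsg.Agent.Lib.Helper60_S2647_D8.D8_even π hπ⟩

omit hns [Fintype F] in
theorem card_Sy : Nat.card (Sy F) = 512 := Cfsg.Agent.Lib.Helper60_S2647_CARD.card_Sy (Cfsg.Agent.Lib.Helper76_S2647_BAS.monO_eq_iff h2) Cfsg.Agent.Lib.Helper60_S2647_D8.card_D8

omit hns [Fintype F] in
theorem card_Ed : Nat.card (Ed F) = 64 := Cfsg.Agent.Lib.Helper60_S2647_CARD.card_Ed (Cfsg.Agent.Lib.Helper76_S2647_BAS.monO_eq_iff h2)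

/-- `N_{Ω₇}(Sy) = Sy` -/
theorem norm_Sy : ∀ n ∈ Om7 F, (∀ s ∈ Sy F, n * s * n⁻¹ ∈ Sy F) → n ∈ Sy F := by
  intro n hnΩ hn
  have heq := Cfsg.Agent.Lib.Helper76_S2647_BAS.monO_eq_iff (F := F) h2
  have hSy := Cfsg.Agent.Lib.Helper76_S2647_BAS.monO_mem_Sy_iff (F := F) h2
  have hEd := Cfsg.Agent.Lib.Helper76_S2647_BAS.monO_mem_Ed_iff (F := F) h2
  obtain ⟨hEn, hnab, h1, h2', -⟩ := Cfsg.Agent.Lib.Helper76_S2647_UNIQC.uniqc heq hSy hEd Cfsg.Agent.Lib.Helper76_S2647_BAS.conj_diag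
    (Cfsg.Agent.Lib.Helper8_S2647_FIX.fix1 Cfsg.Agent.Lib.Helper60_S2647_D8.mem_D8_iff) (Cfsg.Agent.Lib.Helper8_S2647_FIX.fix2 Cfsg.Agent.Lib.Helper60_S2647_D8.mem_D8_iff) Cfsg.Agent.Lib.Helper60_S2647_D8.D8_nonabelian
  have hEab : ∀ a ∈ Ed F, ∀ b ∈ Ed F, a * b = b * a :=
    (Cfsg.Agent.Lib.Helper76_S2647_UNIQC.uniqc heq hSy hEd Cfsg.Agent.Lib.Helper76_S2647_BAS.conj_diag
      (Cfsg.Agent.Lib.Helper8_S2647_FIX.fix1 Cfsg.Agent.Lib.Helper60_S2647_D8.mem_D8_iff) (Cfsg.Agent.Lib.Helper8_S2647_FIX.fix2 Cfsg.Agent.Lib.Helper60_S2647_D8.mem_D8_iff) Cfsg.Agent.Lib.Helper60_S2647_D8.D8_nonabelian).2.2.2.2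
  -- the conjugate of `Ed` by `n`
  set A : Subgroup ↥(O7 F) := (Ed F).map (MulAut.conj n).toMonoidHom with hA
  have hAmem : ∀ x, x ∈ A ↔ ∃ d ∈ Ed F, n * d * n⁻¹ = x := by
    intro x
    rw [hA, Subgroup.mem_map]
    rfl
  have hAS : A ≤ Sy F := by
    intro x hx
    obtain ⟨d, hd, rfl⟩ := (hAmem x).mp hx
    exact hn d (Ed_le_Sy F hd)
  have hAab : ∀ a ∈ A, ∀ b ∈ A, a * b = b * a := by
    intro a ha b hb
    obtain ⟨d, hd, rfl⟩ := (hAmem a).mp ha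
    obtain ⟨d', hd', rfl⟩ := (hAmem b).mp hb
    have := hEab d hd d' hd'
    calc n * d * n⁻¹ * (n * d' * n⁻¹) = n * (d * d') * n⁻¹ := by group
      _ = n * (d' * d) * n⁻¹ := by rw [this]
      _ = n * d' * n⁻¹ * (n * d * n⁻¹) := by group
  have hAcard : Nat.card A = 64 := by
    rw [hA, Subgroup.card_map_of_injective (MulAut.conj n).injective, card_Ed h2]
  have hAE : A = Ed F :=
    Cfsg.Agent.Lib.Helper64_S2647_UNIQ.uniq (Ed F) (Sy F) (Ed_le_Sy F) hEn (card_Ed h2) (card_Sy h2) hnab h1 h2' A hAS hAab hAcard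
  have hn1 : ∀ d ∈ Ed F, n * d * n⁻¹ ∈ Ed F := by
    intro d hd
    rw [← hAE]
    exact (hAmem _).mpr ⟨d, hd, rfl⟩
  have hn2 : ∀ d ∈ Ed F, n⁻¹ * d * n ∈ Ed F := by
    intro d hd
    rw [← hAE] at hd
    obtain ⟨d', hd', rfl⟩ := (hAmem d).mp hd
    have : n⁻¹ * (n * d' * n⁻¹) * n = d' := by group
    rw [this]
    exact hd'
  obtain ⟨ε, π, rfl⟩ := Cfsg.Agent.Lib.Helper76_S2647_MONO.mono h2 n hn1 hn2
  obtain ⟨hε, hπ⟩ := (mem_Om7_iff h2 hns ε π).mp hnΩ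
  have hnorm : ∀ d ∈ D8, π * d * π⁻¹ ∈ D8 := by
    intro d hd
    have hmem : monO F 1 d ∈ Sy F := (hSy 1 d).mpr ⟨by simp, hd⟩
    obtain ⟨ε'', he⟩ := Cfsg.Agent.Lib.Helper76_S2647_BAS.conj_mon (F := F) ε 1 π d
    have := hn _ hmem
    rw [he] at this
    exact ((hSy _ _).mp this).2
  exact (hSy ε π).mpr ⟨hε, Cfsg.Agent.Lib.Helper96_S2647_D8NORM.d8norm Cfsg.Agent.Lib.Helper60_S2647_D8.mem_D8_iff π hπ hnorm⟩

/-- no proper nontrivial subgroup of `Sy` is strongly closed in `Sy` with respect to `Ω₇` -/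
theorem sc_Sy : ∀ T : Subgroup ↥(O7 F), T ≤ Sy F → T ≠ ⊥ →
    (∀ t ∈ T, ∀ g ∈ Om7 F, g * t * g⁻¹ ∈ Sy F → g * t * g⁻¹ ∈ T) → T = Sy F := by
  intro T hTS hne hsc
  have heq := Cfsg.Agent.Lib.Helper76_S2647_BAS.monO_eq_iff (F := F) h2
  have hSy := Cfsg.Agent.Lib.Helper76_S2647_BAS.monO_mem_Sy_iff (F := F) h2
  have hEd := Cfsg.Agent.Lib.Helper76_S2647_BAS.monO_mem_Ed_iff (F := F) h2
  have hSΩ := Sy_le_Om7 (F := F) h2 hns
  have : Fact (Nat.Prime 2) := ⟨Nat.prime_two⟩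
  have : Finite (Sy F) := Nat.finite_of_card_ne_zero (by rw [card_Sy h2]; norm_num)
  have hP : IsPGroup 2 (Sy F) := IsPGroup.of_card (n := 9) (by rw [card_Sy h2]; norm_num)
  -- a nontrivial central element of `Sy` in `T`
  obtain ⟨t, htT, htne, htc⟩ := Cfsg.Agent.Lib.Helper69_S5320_ZMEET.zmeet 2 (⊥ : Subgroup ↥(O7 F)) T (Sy F)
    hP bot_le hTS hne
    (by
      intro s _ n hn
      rw [Subgroup.mem_bot] at hn ⊢
      rw [hn]
      group)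
    (by
      intro s hs t ht
      exact hsc t ht s (hSΩ hs) ((Sy F).mul_mem ((Sy F).mul_mem hs (hTS ht)) ((Sy F).inv_mem hs)))
  have htc' : ∀ s ∈ Sy F, t * s = s * t := by
    intro s hs
    have := htc s hs
    rw [Subgroup.mem_bot] at this
    have h3 : s * t = t * s := by
      calc s * t = (s * t * s⁻¹ * t⁻¹) * (t * s) := by group
        _ = t * s := by rw [this, one_mul]
    exact h3.symm
  obtain ⟨ζ, rfl, hζ⟩ := Cfsg.Agent.Lib.Helper28_S2647_ZSY.zsy heq t (hTS htT) htc'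
  have hζ' : ζ = ![-1, -1, -1, -1, 1, 1, 1] ∨ ζ = ![1, 1, 1, 1, -1, -1, 1] ∨
      ζ = ![-1, -1, -1, -1, -1, -1, 1] := by
    rcases hζ with rfl | h | h | h
    · exfalso
      apply htne
      rw [Subgroup.mem_bot]
      exact monO_one F
    · exact Or.inl h
    · exact Or.inr (Or.inl h)
    · exact Or.inr (Or.inr h)
  -- `Ed ≤ T`
  have hconjE : ∀ ε : Fin 7 → ℤˣ, monO F ε 1 ∈ T → ∀ σ : Equiv.Perm (Fin 7), Equiv.Perm.sign σ = 1 →
      monO F (fun j => ε (σ j)) 1 ∈ T := by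
    intro ε hε σ hσ
    have hg : monO F 1 σ⁻¹ ∈ Om7 F :=
      (mem_Om7_iff h2 hns 1 σ⁻¹).mpr ⟨by simp, by rw [Equiv.Perm.sign_inv]; exact hσ⟩
    have hc := Cfsg.Agent.Lib.Helper76_S2647_BAS.conj_perm (F := F) ε 1 σ⁻¹
    have h3 : σ⁻¹ * 1 * σ⁻¹⁻¹ = 1 := by group
    rw [h3] at hc
    have h4 : (fun j => ε (σ⁻¹⁻¹ j)) = fun j => ε (σ j) := by
      funext j
      rw [inv_inv]
    rw [h4] at hc
    have hprod : ∏ j, ε (σ j) = 1 := by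
      rw [Equiv.prod_comp σ ε]
      exact ((hSy ε 1).mp (hTS hε)).1
    have := hsc _ hε _ hg (by rw [hc]; exact (hSy _ _).mpr ⟨hprod, (Subgroup.one_mem _)⟩)
    rw [hc] at this
    exact this
  have hET : Ed F ≤ T := Cfsg.Agent.Lib.Helper47_S2647_GENE.gene T ζ hζ' htT hconjE
  -- the permutation matrix of `(0 1)(2 3)` lies in `T`
  have he01 : monO F ![-1, -1, 1, 1, 1, 1, 1] 1 ∈ T := by
    apply hET
    exact (hEd _ _).mpr ⟨by decide, rfl⟩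
  obtain ⟨g, hgΩ, hg⟩ := Cfsg.Agent.Lib.Helper28_S2647_FUSE.fuse h2 hns (Cfsg.Agent.Lib.Helper84_S2647_NONDEG.nondeg h2) Cfsg.Agent.Lib.Helper26_S2647_OMDET.det_monM (Cfsg.Agent.Lib.Helper10_S2647_OMTHP.theta_perm h2 hns)
    (Cfsg.Agent.Lib.Helper10_S2647_OMTHD.theta_diag h2)
  have ht : monO F 1 (Equiv.swap (0 : Fin 7) 1 * Equiv.swap 2 3) ∈ T := by
    have := hsc _ he01 g hgΩ (by rw [hg]; exact (hSy _ _).mpr ⟨by simp, Cfsg.Agent.Lib.Helper60_S2647_D8.t0123_mem⟩)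
    rw [hg] at this
    exact this
  have hconjP : ∀ π : Equiv.Perm (Fin 7), monO F 1 π ∈ T → ∀ σ : Equiv.Perm (Fin 7),
      Equiv.Perm.sign σ = 1 → σ * π * σ⁻¹ ∈ D8 → monO F 1 (σ * π * σ⁻¹) ∈ T := by
    intro π hπ σ hσ hD
    have hgσ : monO F 1 σ ∈ Om7 F := (mem_Om7_iff h2 hns 1 σ).mpr ⟨by simp, hσ⟩
    have hc := Cfsg.Agent.Lib.Helper76_S2647_BAS.conj_perm (F := F) 1 π σ
    have h4 : (fun j => (1 : Fin 7 → ℤˣ) (σ⁻¹ j)) = 1 := rfl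
    rw [h4] at hc
    have := hsc _ hπ _ hgσ (by rw [hc]; exact (hSy _ _).mpr ⟨by simp, hD⟩)
    rw [hc] at this
    exact this
  exact le_antisymm hTS (Cfsg.Agent.Lib.Helper47_S2647_SCLD.scld Cfsg.Agent.Lib.Helper60_S2647_D8.mem_D8_iff Cfsg.Agent.Lib.Helper76_S2647_BAS.monO_split T hET ht hconjP)

end klevel

section hlevel

variable (hq : Fintype.card F % 8 = 3 ∨ Fintype.card F % 8 = 5)

include hq

/-- the Sylow 2-subgroup `Sy ∩ Ω₇` of `Ω₇(F)` together with `FusLocalFam` and self-normalization -/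
theorem exists_sylow (e : ↥(Cfsg.Omega F (Cfsg.quadFormOdd 3 F)) ≃* ↥(Om7 F)) :
    ∃ S₀ : Sylow 2 ↥(Om7 F),
      (∀ n : ↥(Om7 F), (∀ s ∈ S₀, n * s * n⁻¹ ∈ S₀) → n ∈ S₀) ∧
      Cfsg.Agent.Lib.Helper88_FusFam.FusLocalFam (S₀ : Subgroup ↥(Om7 F))
        (fun _ : Unit => (S₀ : Subgroup ↥(Om7 F))) := by
  obtain ⟨h2, hns⟩ := Cfsg.Agent.Lib.Helper26_S2647_SQ2.sq2 hq
  have : Fact (Nat.Prime 2) := ⟨Nat.prime_two⟩
  have hle := Sy_le_Om7 (F := F) h2 hns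
  obtain ⟨hN, hSC⟩ := Cfsg.Agent.Lib.Helper53_S2647_RESTRICT.restrict (Om7 F) (Sy F) hle (norm_Sy h2 hns) (sc_Sy h2 hns)
  have hcard : Nat.card ((Sy F).subgroupOf (Om7 F)) =
      2 ^ (Nat.card ↥(Om7 F)).factorization 2 := by
    rw [Cfsg.Agent.Lib.Helper85_GroupFusion.card_subgroupOf hle, card_Sy h2,
      ← Nat.card_congr e.toEquiv, Cfsg.Agent.Lib.Helper53_S2647_ORD.ord hq]
    norm_num
  refine ⟨Sylow.ofCard ((Sy F).subgroupOf (Om7 F)) hcard, ?_, ?_⟩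
  · intro n hn
    exact hN n hn
  · have hne : (Sy F).subgroupOf (Om7 F) ≠ ⊥ := by
      intro h
      have h1 := Cfsg.Agent.Lib.Helper85_GroupFusion.card_subgroupOf hle
      rw [h, Subgroup.card_bot, card_Sy h2] at h1
      norm_num at h1
    refine ⟨hne, ?_, ?_, ?_, ?_, ?_⟩
    · intro T hT hTne hsc
      exact hSC T hT hTne hsc
    · intro _
      exact le_refl _
    · intro _ n hn q hq'
      exact hn q hq'
    · intro _ c hc
      apply hN c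
      intro s hs
      have : c * s * c⁻¹ = s := by
        rw [hc s hs]
        group
      rw [this]
      exact hs
    · intro n hn
      have hnS := hN n hn
      apply Subgroup.subset_closure
      refine ⟨hn, (), Subgroup.subset_closure ⟨1, ?_, n, hnS, by simp⟩⟩
      intro q hq'
      simpa using hq'

end hlevel

end Cfsg.Agent.Lib.Helper76_S2647_Main
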