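import Mathlib
import Cfsg.Agent.Lib.Helper76_S2647Defs

/-!
# S2647-ZSY: the centre of `Sy` (helper76)
-/

set_option autoImplicit false

open Matrix Cfsg.Agent.Lib.Helper76_S2647Defs

namespace Cfsg.Agent.Lib.Helper76_S2647_ZSY

variable {F : Type*} [Field F]

/-- the sign vector flipping `i` and `k` -/
def flip2 (i k : Fin 7) : Fin 7 → ℤˣ := fun j => if j = i ∨ j = k then -1 else 1

theorem prod_flip2 (i k : Fin 7) (hik : i ≠ k) : ∏ j, flip2 i k j = 1 := by
  revert i k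
  decide

theorem exists_third (i k : Fin 7) : ∃ l : Fin 7, l ≠ i ∧ l ≠ k := by
  revert i k
  decide

theorem zsy
    (heq : ∀ (ε ε' : Fin 7 → ℤˣ) (π π' : Equiv.Perm (Fin 7)),
      monO F ε π = monO F ε' π' ↔ ε = ε' ∧ π = π')
    (k : ↥(O7 F)) (hk : k ∈ Sy F) (hc : ∀ s ∈ Sy F, k * s = s * k) :
    ∃ ζ : Fin 7 → ℤˣ, k = monO F ζ 1 ∧
      (ζ = 1 ∨ ζ = ![-1, -1, -1, -1, 1, 1, 1] ∨ ζ = ![1, 1, 1, 1, -1, -1, 1] ∨
        ζ = ![-1, -1, -1, -1, -1, -1, 1]) := by
  obtain ⟨ε, π, hε, hπ, rfl⟩ := hk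
  -- `π = 1`
  have hπ1 : π = 1 := by
    ext j
    by_contra hj
    obtain ⟨l, hl1, hl2⟩ := exists_third j (π j)
    have hmem : monO F (flip2 j l) 1 ∈ Sy F :=
      ⟨flip2 j l, 1, prod_flip2 j l (Ne.symm hl1), D8.one_mem, rfl⟩
    have h := hc _ hmem
    rw [monO_mul, monO_mul] at h
    obtain ⟨h1, -⟩ := (heq _ _ _ _).mp h
    have h3 := congrFun h1 j
    simp only [Equiv.Perm.coe_one, id] at h3
    have h4 : flip2 j l j = -1 := by simp [flip2]
    have h5 : flip2 j l (π j) = 1 := by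
      unfold flip2
      rw [if_neg]
      rintro (h | h)
      · exact hj (by rw [h]; rfl)
      · exact hl2 h.symm
    rw [h4, h5] at h3
    rcases Int.units_eq_one_or (ε j) with h6 | h6 <;> rw [h6] at h3 <;> exact absurd h3 (by decide)
  subst hπ1
  refine ⟨ε, rfl, ?_⟩
  -- `ε` is `D8`-invariant
  have hinv : ∀ d ∈ D8, ∀ j, ε (d j) = ε j := by
    intro d hd j
    have hmem : monO F 1 d ∈ Sy F := ⟨1, d, by simp, hd, rfl⟩
    have h := hc _ hmem
    rw [monO_mul, monO_mul] at h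
    obtain ⟨h1, -⟩ := (heq _ _ _ _).mp h
    have h3 := congrFun h1 j
    simpa using h3
  have hr := hinv r4 (Subgroup.subset_closure (by simp))
  have hs := hinv s2 (Subgroup.subset_closure (by simp))
  have e1 : ε 1 = ε 0 := hr 0
  have e2 : ε 2 = ε 1 := hr 1
  have e3 : ε 3 = ε 2 := hr 2
  have e5 : ε 5 = ε 4 := hr 4
  have hprod : ε 0 * ε 1 * ε 2 * ε 3 * ε 4 * ε 5 * ε 6 = 1 := by
    rw [← hε]
    simp [Fin.prod_univ_succ, mul_assoc]
  rw [e5, e3, e2, e1] at hprod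
  have hε_eq : ε = ![ε 0, ε 0, ε 0, ε 0, ε 4, ε 4, ε 6] := by
    funext j
    fin_cases j
    · rfl
    · exact e1
    · exact e2.trans e1
    · exact e3.trans (e2.trans e1)
    · rfl
    · exact e5
    · rfl
  rcases Int.units_eq_one_or (ε 0) with h0 | h0 <;> rcases Int.units_eq_one_or (ε 4) with h4 | h4 <;>
    rcases Int.units_eq_one_or (ε 6) with h6 | h6 <;> rw [h0, h4, h6] at hprod hε_eq
  all_goals first
    | exact absurd hprod (by decide)
    | (left; rw [hε_eq]; funext j; fin_cases j <;> rfl)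
    | (right; left; exact hε_eq)
    | (right; right; left; exact hε_eq)
    | (right; right; right; exact hε_eq)

end Cfsg.Agent.Lib.Helper76_S2647_ZSY
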