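import Mathlib
import Cfsg.Agent.Lib.Helper76_PGroup
import Cfsg.Agent.Lib.Helper76_S3157Defs
import Cfsg.Agent.Lib.Helper76_S3157_RHO
import Cfsg.Agent.Lib.Helper41_S3157_CZ
import Cfsg.Agent.Lib.Helper41_S3157_D16

/-!
# Helper76_S3157_C8

S3157, package C8: the fixed points of `x` form a noncommutative subgroup of order 8.
-/

set_option autoImplicit false

open scoped commutatorElement
open Cfsg.Agent.Lib.Helper76_S3157Defs Cfsg.Agent.Lib.Helper76_S3157_RHO

namespace Cfsg.Agent.Lib.Helper76_S3157_C8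

variable {T : Type*} [Group T]

/-- `δ t = t⁻¹ * x t`, a homomorphism from `fixMod x` to the centre -/
def delta (x : MulAut T) : fixMod x →* Subgroup.center T where
  toFun t := ⟨(t : T)⁻¹ * x t, t.2⟩
  map_one' := by
    apply Subtype.ext
    simp
  map_mul' := by
    intro a b
    apply Subtype.ext
    have ha : (a : T)⁻¹ * x a ∈ Subgroup.center T := a.2
    have hc := Subgroup.mem_center_iff.mp ha (b : T)⁻¹
    simp only [Subgroup.coe_mul, map_mul, mul_inv_rev]
    calc (b : T)⁻¹ * (a : T)⁻¹ * (x a * x b) = ((b : T)⁻¹ * ((a : T)⁻¹ * x a)) * x b := by group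
      _ = (((a : T)⁻¹ * x a) * (b : T)⁻¹) * x b := by rw [hc]
      _ = (a : T)⁻¹ * x a * ((b : T)⁻¹ * x b) := by group

theorem delta_apply (x : MulAut T) (t : fixMod x) : ((delta x t : Subgroup.center T) : T)
    = (t : T)⁻¹ * x t := rfl

theorem delta_eq_one_iff (x : MulAut T) (t : fixMod x) : delta x t = 1 ↔ x (t : T) = t := by
  rw [Subtype.ext_iff, delta_apply, Subgroup.coe_one, inv_mul_eq_one, eq_comm]

theorem center_le_fixMod {x : MulAut T}
    (hxZ : ∀ z ∈ Subgroup.center T, x z ∈ Subgroup.center T) :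
    Subgroup.center T ≤ fixMod x := by
  intro z hz
  rw [mem_fixMod]
  exact (Subgroup.center T).mul_mem ((Subgroup.center T).inv_mem hz) (hxZ z hz)

theorem x_center (x : MulAut T) : ∀ z ∈ Subgroup.center T, x z ∈ Subgroup.center T := by
  intro z hz
  rw [Subgroup.mem_center_iff]
  intro g
  have h1 := Subgroup.mem_center_iff.mp hz (x.symm g)
  have h2 := congrArg x h1
  rw [map_mul, map_mul, MulEquiv.apply_symm_apply] at h2
  exact h2

theorem card_fixSub [Finite T] {ρ x : MulAut T} (h : HypX T ρ x) :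
    Nat.card (fixSub x) = 8 ∧
      ∃ c₁ c₂ : T, x c₁ = c₁ ∧ x c₂ = c₂ ∧ c₁ * c₂ ≠ c₂ * c₁ := by
  obtain ⟨z₀, hz₀Z, hz₀1, hxz₀, hfix, z', hz'Z, hz'⟩ :=
    Cfsg.Agent.Lib.Helper41_S3157_CZ.exists_central_fixed h
  have hD16 := Cfsg.Agent.Lib.Helper41_S3157_D16.card_fixMod h
  have hcl := h.cl2
  have hxZ := x_center x
  have hZD : Subgroup.center T ≤ fixMod x := center_le_fixMod hxZ
  have hzz : ∀ w ∈ Subgroup.center T, w * w = 1 := by
    intro w hw; rw [← pow_two]; exact h.z2 w hw
  have hzinv : ∀ w ∈ Subgroup.center T, w⁻¹ = w :=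
    fun w hw => inv_eq_of_mul_eq_one_left (hzz w hw)
  have hcomm' : ∀ w ∈ Subgroup.center T, ∀ g : T, g * w = w * g :=
    fun w hw g => Subgroup.mem_center_iff.mp hw g
  -- values of δ
  have hval : ∀ t : fixMod x, delta x t = 1 ∨ delta x t = ⟨z₀, hz₀Z⟩ := by
    intro t
    set z : T := (t : T)⁻¹ * x t with hz
    have hzZ : z ∈ Subgroup.center T := t.2
    have hxt : x (t : T) = t * z := by rw [hz]; group
    have h1 : z * x z = 1 := by
      have h2 : x (x (t : T)) = t := h.x2 t
      rw [hxt, map_mul, hxt, mul_assoc] at h2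
      exact mul_eq_left.mp h2
    have h3 : x z = z := by
      have : x z = z⁻¹ := eq_inv_of_mul_eq_one_right h1
      rw [this, hzinv z hzZ]
    rcases hfix z hzZ h3 with h4 | h4
    · left; apply Subtype.ext; rw [delta_apply]; exact h4
    · right; apply Subtype.ext; rw [delta_apply]; exact h4
  have hz'D : z' ∈ fixMod x := hZD hz'Z
  have hval' : delta x ⟨z', hz'D⟩ = ⟨z₀, hz₀Z⟩ := by
    apply Subtype.ext
    rw [delta_apply]
    change z'⁻¹ * x z' = z₀
    rw [hzinv z' hz'Z]; exact hz'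
  -- card of the range
  have hrange : Nat.card (delta x).range = 2 := by
    rw [Nat.card_eq_two_iff]
    refine ⟨⟨1, (delta x).range.one_mem⟩, ⟨⟨z₀, hz₀Z⟩, ⟨_, hval'⟩⟩, ?_, ?_⟩
    · intro h0
      have := congrArg (fun u : (delta x).range => ((u : Subgroup.center T) : T)) h0
      exact hz₀1 this.symm
    · ext u
      simp only [Set.mem_insert_iff, Set.mem_singleton_iff, Set.mem_univ, iff_true]
      obtain ⟨u, t, rfl⟩ := u
      rcases hval t with h1 | h1
      · left; apply Subtype.ext; exact h1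
      · right; apply Subtype.ext; exact h1
  -- the kernel is `fixSub x`
  have hker : (delta x).ker = (fixSub x).subgroupOf (fixMod x) := by
    ext t
    rw [MonoidHom.mem_ker, delta_eq_one_iff, Subgroup.mem_subgroupOf, mem_fixSub]
  have hcardker : Nat.card (delta x).ker = Nat.card (fixSub x) := by
    rw [hker]
    exact Nat.card_congr (Subgroup.subgroupOfEquivOfLe (fixSub_le_fixMod x)).toEquiv
  have hC8 : Nat.card (fixSub x) = 8 := by
    have h1 := Subgroup.card_eq_card_quotient_mul_card_subgroup (delta x).ker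
    have h2 : Nat.card (fixMod x ⧸ (delta x).ker) = Nat.card (delta x).range :=
      Nat.card_congr (QuotientGroup.quotientKerEquivRange (delta x)).toEquiv
    rw [h2, hrange, hD16, hcardker] at h1
    omega
  refine ⟨hC8, ?_⟩
  -- noncommutativity
  by_contra hcon
  push Not at hcon
  obtain ⟨a, b, hab⟩ := h.nonab
  apply hab
  -- `D = C Z`
  have hDCZ : ∀ t ∈ fixMod x, ∃ c ∈ fixSub x, ∃ z ∈ Subgroup.center T, t = c * z := by
    intro t ht
    rcases hval ⟨t, ht⟩ with h1 | h1
    · refine ⟨t, ?_, 1, (Subgroup.center T).one_mem, (mul_one t).symm⟩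
      rw [mem_fixSub]
      exact (delta_eq_one_iff x ⟨t, ht⟩).mp h1
    · refine ⟨t * z', ?_, z', hz'Z, ?_⟩
      · rw [mem_fixSub]
        have h2 : delta x (⟨t, ht⟩ * ⟨z', hz'D⟩) = 1 := by
          rw [map_mul, h1, hval']
          apply Subtype.ext
          exact hzz z₀ hz₀Z
        exact (delta_eq_one_iff x _).mp h2
      · rw [mul_assoc, hzz z' hz'Z, mul_one]
  -- `D` is normal
  have hDn : (fixMod x).Normal := by
    constructor
    intro t ht g
    have h1 : g * t * g⁻¹ = ⁅g, t⁆ * t := by rw [commutatorElement_def]; group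
    rw [h1]
    exact (fixMod x).mul_mem (hZD (hcl g t)) ht
  -- `R = ρ D`
  set R : Subgroup T := (fixMod x).map ρ.toMonoidHom with hR
  have hcardR : Nat.card R = 16 := by
    rw [hR, ← hD16]
    exact Nat.card_congr ((fixMod x).equivMapOfInjective ρ.toMonoidHom ρ.injective).symm.toEquiv
  have hDR : fixMod x ⊓ R ≤ Subgroup.center T := by
    intro t ht
    obtain ⟨htD, s, hsD, rfl⟩ := ht
    change ρ s ∈ fixMod x at htD
    change ρ s ∈ Subgroup.center T
    rw [SetLike.mem_coe, mem_fixMod] at hsD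
    rw [mem_fixMod] at htD
    apply h.fpfZ
    -- x (ρ s) = ρ² (x s) = ρ² (s * z) , z = s⁻¹ x s
    set z : T := s⁻¹ * x s with hz
    have hxs : x s = s * z := by rw [hz]; group
    have h1 : x (ρ s) = ρ (ρ s) * ρ (ρ z) := by
      rw [h.xrho, hxs, map_mul, map_mul]
    rw [h1] at htD
    have hρρz : ρ (ρ z) ∈ Subgroup.center T := h.rhoZ _ (h.rhoZ _ hsD)
    have h2 : (ρ s)⁻¹ * ρ (ρ s) = ((ρ s)⁻¹ * (ρ (ρ s) * ρ (ρ z))) * (ρ (ρ z))⁻¹ := by group
    rw [h2]
    exact (Subgroup.center T).mul_mem htD ((Subgroup.center T).inv_mem hρρz)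
  have htop : fixMod x ⊔ R = ⊤ := by
    apply Subgroup.eq_top_of_card_eq
    have h1 := Cfsg.Agent.Lib.Helper76_PGroup.card_mul_relIndex_of_le (fixMod x) (fixMod x ⊔ R)
      le_sup_left
    rw [Subgroup.relIndex_sup_left, ← Subgroup.inf_relIndex_right] at h1
    have h2 := Cfsg.Agent.Lib.Helper76_PGroup.card_mul_relIndex_of_le (fixMod x ⊓ R) R
      inf_le_right
    have h3 : Nat.card (fixMod x ⊓ R : Subgroup T) ≤ 4 := by
      rw [← h.cardZ]
      exact Subgroup.card_le_of_le hDR
    have h4 : Nat.card (fixMod x ⊔ R : Subgroup T) ≤ 64 := by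
      rw [← h.card]
      exact Subgroup.card_le_card_group _
    rw [hcardR] at h2
    rw [hD16] at h1
    rw [h.card]
    have h5 : 0 < Nat.card (fixMod x ⊓ R : Subgroup T) := Nat.card_pos
    nlinarith
  -- the generating set commutes
  let S : Set T := {t | t ∈ fixSub x ∨ (∃ c ∈ fixSub x, t = ρ c) ∨ t ∈ Subgroup.center T}
  have hScomm : ∀ u ∈ S, ∀ v ∈ S, u * v = v * u := by
    have hCC : ∀ c ∈ fixSub x, ∀ c' ∈ fixSub x, ⁅c, c'⁆ = 1 := by
      intro c hc c' hc'
      rw [commutatorElement_eq_one_iff_mul_comm]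
      exact hcon c c' (mem_fixSub.mp hc) (mem_fixSub.mp hc')
    intro u hu v hv
    rw [← commutatorElement_eq_one_iff_mul_comm]
    rcases hu with hu | ⟨c, hc, rfl⟩ | hu
    · rcases hv with hv | ⟨c', hc', rfl⟩ | hv
      · exact hCC u hu v hv
      · rw [h.comm_r, hCC u hu c' hc', map_one, map_one]
      · exact comm_central_right hv u
    · rcases hv with hv | ⟨c', hc', rfl⟩ | hv
      · rw [h.comm_l, hCC c hc v hv, map_one, map_one]
      · rw [← map_commutatorElement, hCC c hc c' hc', map_one]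
      · exact comm_central_right hv _
    · exact comm_central_left hu v
  have hclos : Subgroup.closure S = ⊤ := by
    rw [eq_top_iff, ← htop, sup_le_iff]
    constructor
    · intro t ht
      obtain ⟨c, hc, z, hz, rfl⟩ := hDCZ t ht
      exact (Subgroup.closure S).mul_mem (Subgroup.subset_closure (Or.inl hc))
        (Subgroup.subset_closure (Or.inr (Or.inr hz)))
    · intro t ht
      obtain ⟨s, hs, rfl⟩ := ht
      obtain ⟨c, hc, z, hz, rfl⟩ := hDCZ s hs
      change ρ (c * z) ∈ Subgroup.closure S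
      rw [map_mul]
      exact (Subgroup.closure S).mul_mem (Subgroup.subset_closure (Or.inr (Or.inl ⟨c, hc, rfl⟩)))
        (Subgroup.subset_closure (Or.inr (Or.inr (h.rhoZ z hz))))
  have ha : a ∈ Subgroup.closure S := by rw [hclos]; exact Subgroup.mem_top a
  have hb : b ∈ Subgroup.closure S := by rw [hclos]; exact Subgroup.mem_top b
  have hcommS : IsMulCommutative (Subgroup.closure S) := Subgroup.isMulCommutative_closure hScomm
  have := mul_comm' (⟨a, ha⟩ : Subgroup.closure S) ⟨b, hb⟩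
  exact congrArg Subtype.val this

end Cfsg.Agent.Lib.Helper76_S3157_C8
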