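import Cfsg.Agent.Lib.Helper55_Fitting
import Cfsg.Agent.Lib.Helper48_ThreeDegDefs

/-!
# S4460 (Isaacs 12.15) package PK-MIN: the unique minimal normal subgroup (helper76)
-/

set_option autoImplicit false

namespace Cfsg.Agent.Lib.Helper76_S4460_MIN

open Cfsg Cfsg.Agent.Lib.Helper48_ThreeDegDefs

universe u

variable {G : Type u} [Group G] [Finite G]

/-- PK-MIN. If the solvable group `G` has a unique minimal normal subgroup `W` then `W` is an
`r`-group for a prime `r`, `F(G) = O_r(G)` is an `r`-group and `r` divides the order of every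
nontrivial normal subgroup. -/
theorem unique_minimal_prime [Group.IsSolvable G] (W : Subgroup G) [W.Normal] (hW : W ≠ ⊥)
    (hmin : ∀ X : Subgroup G, X.Normal → X ≠ ⊥ → W ≤ X) :
    ∃ r : ℕ, r.Prime ∧ IsPGroup r (fittingSubgroup G) ∧
      ∀ X : Subgroup G, X.Normal → X ≠ ⊥ → r ∣ Nat.card X := by
  have hcard : Nat.card W ≠ 1 := by rwa [Ne, Subgroup.card_eq_one]
  obtain ⟨r, hr, hrW⟩ := Nat.exists_prime_and_dvd hcard
  have : Fact r.Prime := ⟨hr⟩
  have hdvd : ∀ X : Subgroup G, X.Normal → X ≠ ⊥ → r ∣ Nat.card X := fun X hX hX1 =>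
    hrW.trans (Subgroup.card_dvd_of_le (hmin X hX hX1))
  have hbot : pPrimeCore r G = ⊥ := by
    by_contra hne
    have h1 := hdvd _ (Cfsg.Agent.Lib.Helper1_Cores.pPrimeCore_normal r) hne
    have hcop := Cfsg.Agent.Lib.Helper1_Cores.pPrimeCore_card_coprime (G := G) r
    have h2 : r = 1 := Nat.Coprime.eq_one_of_dvd hcop.symm h1
    exact hr.one_lt.ne' h2
  refine ⟨r, hr, ?_, hdvd⟩
  rw [Cfsg.Agent.Lib.Helper55_Fitting.fittingSubgroup_eq_pCore_of_pPrimeCore_eq_bot r hbot]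
  exact Cfsg.Agent.Lib.Helper1_Cores.pCore_isPGroup r

end Cfsg.Agent.Lib.Helper76_S4460_MIN
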