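import Mathlib
import Cfsg.Agent.Lib.Helper80_S4756Defs

/-!
# S4756 package STRUCT1 (helper76, for helper80's market)

If the commutator subgroup of a finite group `G` is a `p`-group, then a Sylow `p`-subgroup `P` of `G` is
normal, contains the commutator subgroup, and has an abelian complement `H` of order prime to `p`.
-/

set_option autoImplicit false

namespace Cfsg.Agent.Lib.Helper76_S4756_STRUCT1

open Cfsg.Agent.Lib.Helper80_S4756Defs

/-- A subgroup containing the commutator subgroup is normal. -/
theorem normal_of_commutator_le' {G : Type*} [Group G] (K : Subgroup G) (hK : commutator G ≤ K) :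
    K.Normal := by
  refine ⟨fun n hn g => ?_⟩
  have h1 : g * n * g⁻¹ * n⁻¹ ∈ commutator G := by
    rw [commutator_def]
    have := Subgroup.commutator_mem_commutator (Subgroup.mem_top g) (Subgroup.mem_top n)
    simpa [commutatorElement_def] using this
  have h2 : g * n * g⁻¹ = (g * n * g⁻¹ * n⁻¹) * n := by group
  rw [h2]
  exact K.mul_mem (hK h1) hn

theorem struct1 {G : Type*} [Group G] [Finite G] (p : ℕ) [Fact p.Prime]
    (hD : IsPGroup p (commutator G)) :
    ∃ (P : Sylow p G) (H : Subgroup G), (P : Subgroup G).Normal ∧ commutator G ≤ (P : Subgroup G) ∧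
      Subgroup.IsComplement' (P : Subgroup G) H ∧ (∀ a ∈ H, ∀ b ∈ H, a * b = b * a) ∧
      (Nat.card H).Coprime p := by
  obtain ⟨P, hP⟩ := hD.exists_le_sylow
  have hPn : (P : Subgroup G).Normal := normal_of_commutator_le' _ hP
  have hcop : (Nat.card (P : Subgroup G)).Coprime (P : Subgroup G).index := P.card_coprime_index
  obtain ⟨H, hH⟩ := Subgroup.exists_right_complement'_of_coprime hcop
  refine ⟨P, H, hPn, hP, hH, ?_, ?_⟩
  · intro a ha b hb
    have h1 : a * b * a⁻¹ * b⁻¹ ∈ commutator G := by
      rw [commutator_def]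
      have := Subgroup.commutator_mem_commutator (Subgroup.mem_top a) (Subgroup.mem_top b)
      simpa [commutatorElement_def] using this
    have h2 : a * b * a⁻¹ * b⁻¹ ∈ H :=
      H.mul_mem (H.mul_mem (H.mul_mem ha hb) (H.inv_mem ha)) (H.inv_mem hb)
    have h3 : a * b * a⁻¹ * b⁻¹ ∈ (P : Subgroup G) ⊓ H := ⟨hP h1, h2⟩
    rw [hH.disjoint.eq_bot, Subgroup.mem_bot] at h3
    have h4 : a * b = (a * b * a⁻¹ * b⁻¹) * (b * a) := by group
    rw [h4, h3, one_mul]
  · have h1 : Nat.card H = (P : Subgroup G).index := hH.symm.index_eq_card.symm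
    rw [h1]
    have hnd : ¬ p ∣ (P : Subgroup G).index := P.not_dvd_index
    exact ((Nat.Prime.coprime_iff_not_dvd Fact.out).mpr hnd).symm

end Cfsg.Agent.Lib.Helper76_S4756_STRUCT1
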