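import Mathlib
import Cfsg.Agent.Lib.Helper76_S5320Defs
import Cfsg.Agent.Lib.Helper76_S5320Bas

/-!
# S5320-REXP (architect helper76): `blk (ω, ω)` as a product of two `N(Rt Q)`-conjugates of
elements of `St Q`, with explicit `4 × 4` matrices.

With `e₁ = blk(X,-X)τ, e₂ = blk(Y,-Y)τ, e₃ = blk(XY,-XY)τ, e₄ = τ, e₅ = blk(1,-1)`:
`g = (e₃-e₅)(e₁-e₂)/2 = NM/2`, `g' = (e₂-e₅)(e₁-e₃)/2 = NM'/2`,
`g blk(Y,X) g⁻¹ = (e₁-e₂)(e₄-e₅)/2 = NA/2`, `g' (-blk(X,XY)) g'⁻¹ = (e₁-e₃)(e₄-e₅)/2 = NB/2`.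
-/

set_option autoImplicit false
set_option linter.unusedTactic false
set_option linter.unreachableTactic false
set_option linter.unusedSimpArgs false
set_option linter.unusedVariables false

open Matrix Cfsg.Agent.Lib.Helper42_SL2Class Cfsg.Agent.Lib.Helper76_S5320Defs
  Cfsg.Agent.Lib.Helper76_S5320Bas

namespace Cfsg.Agent.Lib.Helper86_S5320_REXP

variable {F : Type*} [Field F]

/-- `4 × 4` matrices in the index set of `Sp₄` -/
abbrev M4 (F : Type*) [Field F] := Matrix (Fin 2 ⊕ Fin 2) (Fin 2 ⊕ Fin 2) F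

/-- `2 g` -/
def NM (a b : F) : M4 F :=
  Matrix.fromBlocks !![-a, -a; -a, -a] !![-b + 1, -b - 1; -b - 1, -b + 1]
    !![-b - 1, -b + 1; -b + 1, -b - 1] !![a, a; a, a]

/-- `2 g'` -/
def NM' (a b : F) : M4 F :=
  Matrix.fromBlocks !![b + a, b - a; b - a, b + a] !![b - a, -b - a; -b - a, b - a]
    !![b - a, -b - a; -b - a, b - a] !![-b - a, -b + a; -b + a, -b - a]

/-- `2 g blk(Y,X) g⁻¹` -/
def NA (a b : F) : M4 F :=
  Matrix.fromBlocks !![a, a; a, -a] !![b + 1, b + 1; b + 1, -b - 1]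
    !![b - 1, b - 1; b - 1, -b + 1] !![-a, -a; -a, a]

/-- `2 g' (-blk(X,XY)) g'⁻¹` -/
def NB (a b : F) : M4 F :=
  Matrix.fromBlocks !![-b + a, -b + a; -b + a, b - a] !![b + a, b + a; b + a, -b - a]
    !![b + a, b + a; b + a, -b - a] !![b - a, b - a; b - a, -b + a]

/-- the matrix of `X` -/
def XM (a b : F) : Matrix (Fin 2) (Fin 2) F := !![a, b; b, -a]

/-- the matrix of `Y` -/
def YM : Matrix (Fin 2) (Fin 2) F := !![0, -1; 1, 0]

/-- the matrix of `X * Y` -/
def KM (a b : F) : Matrix (Fin 2) (Fin 2) F := !![b, -a; -a, -b]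

/-- twice the matrix of `ω` -/
def OM2 (a b : F) : Matrix (Fin 2) (Fin 2) F := !![-1 + a + b, b - 1 - a; b + 1 - a, -1 - a - b]

theorem X_coe (a b : F) (h : a * a + b * b = -1) : (X a b h).1 = XM a b := rfl

theorem Y_coe : (Y : SL2 F).1 = YM := rfl

theorem K_coe (a b : F) (h : a * a + b * b = -1) : (X a b h * Y).1 = KM a b := XY_coe a b h

theorem om_coe (a b : F) (h : a * a + b * b = -1) (h2 : (2 : F) ≠ 0) :
    (om a b h h2).1 = (2⁻¹ : F) • OM2 a b := by
  ext i j
  fin_cases i <;> fin_cases j <;> simp [om, OM2] <;> ring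

/-! ### the symplectic condition -/

theorem NM_symp (a b : F) (h : a * a + b * b = -1) :
    NM a b * Matrix.J (Fin 2) F * (NM a b)ᵀ = (4 : F) • Matrix.J (Fin 2) F := by
  ext i j
  rcases i with i | i <;> rcases j with j | j <;> fin_cases i <;> fin_cases j <;>
    simp [Matrix.mul_apply, Fintype.sum_sum_type, Fin.sum_univ_two, NM, Matrix.J] <;>
    first
      | ring1
      | linear_combination h
      | linear_combination -h
      | linear_combination 2 * h
      | linear_combination (-2) * h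
      | linear_combination 4 * h
      | linear_combination (-4) * h

theorem NM'_symp (a b : F) (h : a * a + b * b = -1) :
    NM' a b * Matrix.J (Fin 2) F * (NM' a b)ᵀ = (4 : F) • Matrix.J (Fin 2) F := by
  ext i j
  rcases i with i | i <;> rcases j with j | j <;> fin_cases i <;> fin_cases j <;>
    simp [Matrix.mul_apply, Fintype.sum_sum_type, Fin.sum_univ_two, NM', Matrix.J] <;>
    first
      | ring1
      | linear_combination h
      | linear_combination -h
      | linear_combination 2 * h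
      | linear_combination (-2) * h
      | linear_combination 4 * h
      | linear_combination (-4) * h

theorem half_mem (h2 : (2 : F) ≠ 0) (N : M4 F)
    (hN : N * Matrix.J (Fin 2) F * Nᵀ = (4 : F) • Matrix.J (Fin 2) F) :
    (2⁻¹ : F) • N ∈ Matrix.symplecticGroup (Fin 2) F := by
  rw [SymplecticGroup.mem_iff, Matrix.transpose_smul, Matrix.smul_mul, Matrix.smul_mul,
    Matrix.mul_smul, hN, smul_smul, smul_smul]
  have : (2⁻¹ : F) * 2⁻¹ * 4 = 1 := by field_simp; norm_num
  rw [this, one_smul]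

/-- `g` -/
def gS (h2 : (2 : F) ≠ 0) (a b : F) (h : a * a + b * b = -1) : Sp4 F :=
  ⟨(2⁻¹ : F) • NM a b, half_mem h2 _ (NM_symp a b h)⟩

/-- `g'` -/
def gS' (h2 : (2 : F) ≠ 0) (a b : F) (h : a * a + b * b = -1) : Sp4 F :=
  ⟨(2⁻¹ : F) • NM' a b, half_mem h2 _ (NM'_symp a b h)⟩

/-! ### matrix identities for `g` -/

theorem NM_XX (a b : F) (h : a * a + b * b = -1) :
    NM a b * blkM (XM a b) (XM a b) = blkM (XM a b) (XM a b) * tauM * NM a b := by
  ext i j
  rcases i with i | i <;> rcases j with j | j <;> fin_cases i <;> fin_cases j <;>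
    simp [Matrix.mul_apply, Fintype.sum_sum_type, Fin.sum_univ_two, NM, blkM, tauM, XM, YM, KM] <;>
    first
      | ring1
      | linear_combination h
      | linear_combination -h
      | linear_combination 2 * h
      | linear_combination (-2) * h

theorem NM_YY (a b : F) (h : a * a + b * b = -1) :
    NM a b * blkM YM YM = (-1 : M4 F) * blkM YM YM * tauM * NM a b := by
  ext i j
  rcases i with i | i <;> rcases j with j | j <;> fin_cases i <;> fin_cases j <;>
    simp [Matrix.mul_apply, Fintype.sum_sum_type, Fin.sum_univ_two, NM, blkM, tauM, XM, YM, KM] <;>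
    first
      | ring1
      | linear_combination h
      | linear_combination -h
      | linear_combination 2 * h
      | linear_combination (-2) * h

theorem NM_tau (a b : F) (h : a * a + b * b = -1) :
    NM a b * tauM = tauM * NM a b := by
  ext i j
  rcases i with i | i <;> rcases j with j | j <;> fin_cases i <;> fin_cases j <;>
    simp [Matrix.mul_apply, Fintype.sum_sum_type, Fin.sum_univ_two, NM, blkM, tauM, XM, YM, KM] <;>
    first
      | ring1
      | linear_combination h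
      | linear_combination -h
      | linear_combination 2 * h
      | linear_combination (-2) * h

theorem NM_zt (a b : F) (h : a * a + b * b = -1) :
    NM a b * blkM (-1) 1 = blkM (-1) 1 * blkM (KM a b) (KM a b) * tauM * NM a b := by
  ext i j
  rcases i with i | i <;> rcases j with j | j <;> fin_cases i <;> fin_cases j <;>
    simp [Matrix.mul_apply, Fintype.sum_sum_type, Fin.sum_univ_two, NM, blkM, tauM, XM, YM, KM] <;>
    first
      | ring1
      | linear_combination h
      | linear_combination -h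
      | linear_combination 2 * h
      | linear_combination (-2) * h

theorem NM_YX (a b : F) (h : a * a + b * b = -1) :
    NA a b * NM a b = (2 : F) • (NM a b * blkM YM (XM a b)) := by
  ext i j
  rcases i with i | i <;> rcases j with j | j <;> fin_cases i <;> fin_cases j <;>
    simp [Matrix.mul_apply, Fintype.sum_sum_type, Fin.sum_univ_two, NM, NA, blkM, tauM, XM, YM,
      KM] <;>
    first
      | ring1
      | linear_combination h
      | linear_combination -h
      | linear_combination 2 * h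
      | linear_combination (-2) * h

/-! ### matrix identities for `g'` -/

theorem NM'_XX (a b : F) (h : a * a + b * b = -1) :
    NM' a b * blkM (XM a b) (XM a b) = (-1 : M4 F) * blkM (XM a b) (XM a b) * tauM * NM' a b := by
  ext i j
  rcases i with i | i <;> rcases j with j | j <;> fin_cases i <;> fin_cases j <;>
    simp [Matrix.mul_apply, Fintype.sum_sum_type, Fin.sum_univ_two, NM', blkM, tauM, XM, YM, KM] <;>
    first
      | ring1
      | linear_combination h
      | linear_combination -h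
      | linear_combination 2 * h
      | linear_combination (-2) * h

theorem NM'_YY (a b : F) (h : a * a + b * b = -1) :
    NM' a b * blkM YM YM = (-1 : M4 F) * blkM YM YM * NM' a b := by
  ext i j
  rcases i with i | i <;> rcases j with j | j <;> fin_cases i <;> fin_cases j <;>
    simp [Matrix.mul_apply, Fintype.sum_sum_type, Fin.sum_univ_two, NM', blkM, tauM, XM, YM, KM] <;>
    first
      | ring1
      | linear_combination h
      | linear_combination -h
      | linear_combination 2 * h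
      | linear_combination (-2) * h

theorem NM'_tau (a b : F) (h : a * a + b * b = -1) :
    NM' a b * tauM = tauM * NM' a b := by
  ext i j
  rcases i with i | i <;> rcases j with j | j <;> fin_cases i <;> fin_cases j <;>
    simp [Matrix.mul_apply, Fintype.sum_sum_type, Fin.sum_univ_two, NM', blkM, tauM, XM, YM, KM] <;>
    first
      | ring1
      | linear_combination h
      | linear_combination -h
      | linear_combination 2 * h
      | linear_combination (-2) * h

theorem NM'_zt (a b : F) (h : a * a + b * b = -1) :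
    NM' a b * blkM (-1) 1 = blkM (-1) 1 * blkM YM YM * tauM * NM' a b := by
  ext i j
  rcases i with i | i <;> rcases j with j | j <;> fin_cases i <;> fin_cases j <;>
    simp [Matrix.mul_apply, Fintype.sum_sum_type, Fin.sum_univ_two, NM', blkM, tauM, XM, YM, KM] <;>
    first
      | ring1
      | linear_combination h
      | linear_combination -h
      | linear_combination 2 * h
      | linear_combination (-2) * h

theorem NM'_XK (a b : F) (h : a * a + b * b = -1) :
    NB a b * NM' a b = (2 : F) • (NM' a b * ((-1 : M4 F) * blkM (XM a b) (KM a b))) := by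
  ext i j
  rcases i with i | i <;> rcases j with j | j <;> fin_cases i <;> fin_cases j <;>
    simp [Matrix.mul_apply, Fintype.sum_sum_type, Fin.sum_univ_two, NM', NB, blkM, tauM, XM, YM,
      KM] <;>
    first
      | ring1
      | linear_combination h
      | linear_combination -h
      | linear_combination 2 * h
      | linear_combination (-2) * h

/-- the product `(g blk(Y,X) g⁻¹)(g' (-blk(X,XY)) g'⁻¹)` is `blk(ω,ω)` -/
theorem NA_NB (a b : F) (h : a * a + b * b = -1) :
    NA a b * NB a b = (2 : F) • blkM (OM2 a b) (OM2 a b) := by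
  ext i j
  rcases i with i | i <;> rcases j with j | j <;> fin_cases i <;> fin_cases j <;>
    simp [Matrix.mul_apply, Fintype.sum_sum_type, Fin.sum_univ_two, NA, NB, blkM, OM2] <;>
    first
      | ring1
      | linear_combination h
      | linear_combination -h
      | linear_combination 2 * h
      | linear_combination (-2) * h


/-! ### group level -/

theorem blkM_smul (c : F) (A B : Matrix (Fin 2) (Fin 2) F) :
    blkM (c • A) (c • B) = c • blkM A B := by
  ext i j
  rcases i with i | i <;> rcases j with j | j <;> fin_cases i <;> fin_cases j <;>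
    simp [blkM]

theorem coe_conj_eq (g y : Sp4 F) (M : M4 F) (hM : g.1 * y.1 = M * g.1) :
    (g * y * g⁻¹).1 = M := by
  have e3 : g.1 * (g⁻¹).1 = 1 := congrArg Subtype.val (mul_inv_cancel g)
  calc (g * y * g⁻¹).1 = g.1 * y.1 * (g⁻¹).1 := rfl
    _ = M * (g.1 * (g⁻¹).1) := by rw [hM, Matrix.mul_assoc]
    _ = M := by rw [e3, Matrix.mul_one]

section grp

variable (h2 : (2 : F) ≠ 0) (a b : F) (h : a * a + b * b = -1)

theorem gS_XX : gS h2 a b h * blk (X a b h, X a b h) * (gS h2 a b h)⁻¹ =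
    blk (X a b h, X a b h) * tau := by
  rw [mul_inv_eq_iff_eq_mul]
  apply Subtype.ext
  show (2⁻¹ : F) • NM a b * blkM (XM a b) (XM a b) =
    blkM (XM a b) (XM a b) * tauM * ((2⁻¹ : F) • NM a b)
  rw [Matrix.smul_mul, Matrix.mul_smul, NM_XX a b h]

theorem gS_YY : gS h2 a b h * blk (Y, Y) * (gS h2 a b h)⁻¹ = negOne * blk (Y, Y) * tau := by
  rw [mul_inv_eq_iff_eq_mul]
  apply Subtype.ext
  show (2⁻¹ : F) • NM a b * blkM YM YM = (-1 : M4 F) * blkM YM YM * tauM * ((2⁻¹ : F) • NM a b)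
  rw [Matrix.smul_mul, Matrix.mul_smul, NM_YY a b h]

theorem gS_tau : gS h2 a b h * tau * (gS h2 a b h)⁻¹ = tau := by
  rw [mul_inv_eq_iff_eq_mul]
  apply Subtype.ext
  show (2⁻¹ : F) • NM a b * tauM = tauM * ((2⁻¹ : F) • NM a b)
  rw [Matrix.smul_mul, Matrix.mul_smul, NM_tau a b h]

theorem zt_coe : (zt : Sp4 F).1 = blkM (-1) 1 := rfl

theorem gS_zt : gS h2 a b h * zt * (gS h2 a b h)⁻¹ =
    zt * blk (X a b h * Y, X a b h * Y) * tau := by
  rw [mul_inv_eq_iff_eq_mul]
  apply Subtype.ext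
  show (2⁻¹ : F) • NM a b * blkM (-1) 1 =
    blkM (-1) 1 * blkM (X a b h * Y).1 (X a b h * Y).1 * tauM * ((2⁻¹ : F) • NM a b)
  rw [K_coe, Matrix.smul_mul, Matrix.mul_smul, NM_zt a b h]

theorem gS'_XX : gS' h2 a b h * blk (X a b h, X a b h) * (gS' h2 a b h)⁻¹ =
    negOne * blk (X a b h, X a b h) * tau := by
  rw [mul_inv_eq_iff_eq_mul]
  apply Subtype.ext
  show (2⁻¹ : F) • NM' a b * blkM (XM a b) (XM a b) =
    (-1 : M4 F) * blkM (XM a b) (XM a b) * tauM * ((2⁻¹ : F) • NM' a b)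
  rw [Matrix.smul_mul, Matrix.mul_smul, NM'_XX a b h]

theorem gS'_YY : gS' h2 a b h * blk (Y, Y) * (gS' h2 a b h)⁻¹ = negOne * blk (Y, Y) := by
  rw [mul_inv_eq_iff_eq_mul]
  apply Subtype.ext
  show (2⁻¹ : F) • NM' a b * blkM YM YM = (-1 : M4 F) * blkM YM YM * ((2⁻¹ : F) • NM' a b)
  rw [Matrix.smul_mul, Matrix.mul_smul, NM'_YY a b h]

theorem gS'_tau : gS' h2 a b h * tau * (gS' h2 a b h)⁻¹ = tau := by
  rw [mul_inv_eq_iff_eq_mul]
  apply Subtype.ext
  show (2⁻¹ : F) • NM' a b * tauM = tauM * ((2⁻¹ : F) • NM' a b)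
  rw [Matrix.smul_mul, Matrix.mul_smul, NM'_tau a b h]

theorem gS'_zt : gS' h2 a b h * zt * (gS' h2 a b h)⁻¹ = zt * blk (Y, Y) * tau := by
  rw [mul_inv_eq_iff_eq_mul]
  apply Subtype.ext
  show (2⁻¹ : F) • NM' a b * blkM (-1) 1 =
    blkM (-1) 1 * blkM YM YM * tauM * ((2⁻¹ : F) • NM' a b)
  rw [Matrix.smul_mul, Matrix.mul_smul, NM'_zt a b h]

theorem half_half_two : (2⁻¹ : F) * 2⁻¹ * 2 = 2⁻¹ := by
  field_simp

theorem gS_YX_coe : (gS h2 a b h * blk (Y, X a b h) * (gS h2 a b h)⁻¹).1 = (2⁻¹ : F) • NA a b := by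
  apply coe_conj_eq
  show (2⁻¹ : F) • NM a b * blkM YM (XM a b) = (2⁻¹ : F) • NA a b * ((2⁻¹ : F) • NM a b)
  rw [Matrix.smul_mul, Matrix.smul_mul, Matrix.mul_smul, NM_YX a b h, smul_smul, smul_smul,
    half_half_two]

theorem gS'_XK_coe : (gS' h2 a b h * (negOne * blk (X a b h, X a b h * Y)) * (gS' h2 a b h)⁻¹).1 =
    (2⁻¹ : F) • NB a b := by
  apply coe_conj_eq
  have e1 : (negOne * blk (X a b h, X a b h * Y) : Sp4 F).1 =
      (-1 : M4 F) * blkM (XM a b) (KM a b) := by
    have : (negOne * blk (X a b h, X a b h * Y) : Sp4 F).1 =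
        (negOne : Sp4 F).1 * (blk (X a b h, X a b h * Y)).1 := rfl
    rw [this, negOne_coe, blk_coe]
    simp only [K_coe, X_coe]
  have e2 : (gS' h2 a b h).1 = (2⁻¹ : F) • NM' a b := rfl
  rw [e1, e2, Matrix.smul_mul, Matrix.smul_mul, Matrix.mul_smul, NM'_XK a b h, smul_smul, smul_smul,
    half_half_two]

theorem om_eq : blk (om a b h h2, om a b h h2) =
    gS h2 a b h * blk (Y, X a b h) * (gS h2 a b h)⁻¹ *
      (gS' h2 a b h * (negOne * blk (X a b h, X a b h * Y)) * (gS' h2 a b h)⁻¹) := by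
  apply Subtype.ext
  show blkM (om a b h h2).1 (om a b h h2).1 =
    (gS h2 a b h * blk (Y, X a b h) * (gS h2 a b h)⁻¹).1 *
      (gS' h2 a b h * (negOne * blk (X a b h, X a b h * Y)) * (gS' h2 a b h)⁻¹).1
  rw [gS_YX_coe, gS'_XK_coe, om_coe, blkM_smul, Matrix.smul_mul, Matrix.mul_smul, NA_NB a b h,
    smul_smul, smul_smul, half_half_two]

end grp

/-- conjugation by `g` preserves `Rt Q` as soon as it maps the four generators into `Rt Q` -/
theorem conj_mem_Rt (a b : F) (h : a * a + b * b = -1) (Q : Subgroup (SL2 F))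
    (hQ : ∀ c : SL2 F, c ∈ Q ↔ E8 a b h c) (g : Sp4 F)
    (hXX : g * blk (X a b h, X a b h) * g⁻¹ ∈ Rt Q) (hYY : g * blk (Y, Y) * g⁻¹ ∈ Rt Q)
    (htau : g * tau * g⁻¹ ∈ Rt Q) (hzt : g * zt * g⁻¹ ∈ Rt Q) :
    ∀ r ∈ Rt Q, g * r * g⁻¹ ∈ Rt Q := by
  let K : Subgroup (Sp4 F) := (Rt Q).comap (MulAut.conj g).toMonoidHom
  have hK : ∀ r : Sp4 F, r ∈ K ↔ g * r * g⁻¹ ∈ Rt Q := fun r => Iff.rfl
  have hXK : blk (X a b h, X a b h) ∈ K := (hK _).mpr hXX
  have hYK : blk (Y, Y) ∈ K := (hK _).mpr hYY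
  have hnegK : blk (negS (1 : SL2 F), negS 1) ∈ K := by
    rw [← X_mul_X a b h, ← blk_mul]
    exact K.mul_mem hXK hXK
  have hneg : ∀ c : SL2 F, blk (c, c) ∈ K → blk (negS c, negS c) ∈ K := by
    intro c hc
    rw [negS_eq c, ← blk_mul]
    exact K.mul_mem hnegK hc
  have hle : Rt Q ≤ K := by
    unfold Rt
    rw [Subgroup.closure_le]
    rintro r (⟨c, hc, rfl⟩ | hr)
    · have hXYK : blk (X a b h * Y, X a b h * Y) ∈ K := by
        rw [← blk_mul]; exact K.mul_mem hXK hYK
      rcases (hQ c).mp hc with rfl | rfl | rfl | rfl | rfl | rfl | rfl | rfl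
      · rw [blk_one]; exact K.one_mem
      · exact hnegK
      · exact hXK
      · exact hneg _ hXK
      · exact hYK
      · exact hneg _ hYK
      · exact hXYK
      · exact hneg _ hXYK
    · rcases hr with rfl | rfl
      · exact (hK _).mpr htau
      · exact (hK _).mpr hzt
  intro r hr
  exact (hK r).mp (hle hr)

theorem rexp (h2 : (2 : F) ≠ 0) (a b : F) (h : a * a + b * b = -1) (Q : Subgroup (SL2 F))
    (hQ : ∀ c : SL2 F, c ∈ Q ↔ E8 a b h c) :
    ∃ g g' : Sp4 F, (∀ r ∈ Rt Q, g * r * g⁻¹ ∈ Rt Q) ∧ (∀ r ∈ Rt Q, g' * r * g'⁻¹ ∈ Rt Q) ∧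
      blk (om a b h h2, om a b h h2) =
        g * blk (Y, X a b h) * g⁻¹ * (g' * (negOne * blk (X a b h, X a b h * Y)) * g'⁻¹) := by
  have hXQ : X a b h ∈ Q := (hQ _).mpr (Or.inr (Or.inr (Or.inl rfl)))
  have hYQ : (Y : SL2 F) ∈ Q := (hQ _).mpr (Or.inr (Or.inr (Or.inr (Or.inr (Or.inl rfl)))))
  have hKQ : X a b h * Y ∈ Q := Q.mul_mem hXQ hYQ
  have hnQ : negS (1 : SL2 F) ∈ Q := (hQ _).mpr (Or.inr (Or.inl rfl))
  have hbX : blk (X a b h, X a b h) ∈ Rt Q :=
    Subgroup.subset_closure (Or.inl ⟨_, hXQ, rfl⟩)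
  have hbY : blk ((Y : SL2 F), (Y : SL2 F)) ∈ Rt Q :=
    Subgroup.subset_closure (Or.inl ⟨_, hYQ, rfl⟩)
  have hbK : blk (X a b h * Y, X a b h * Y) ∈ Rt Q :=
    Subgroup.subset_closure (Or.inl ⟨_, hKQ, rfl⟩)
  have hbn : (negOne : Sp4 F) ∈ Rt Q := by
    rw [negOne_eq_blk]
    exact Subgroup.subset_closure (Or.inl ⟨_, hnQ, rfl⟩)
  have hbt : (tau : Sp4 F) ∈ Rt Q := Subgroup.subset_closure (Or.inr (by simp))
  have hbz : (zt : Sp4 F) ∈ Rt Q := Subgroup.subset_closure (Or.inr (by simp))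
  refine ⟨gS h2 a b h, gS' h2 a b h, ?_, ?_, om_eq h2 a b h⟩
  · apply conj_mem_Rt a b h Q hQ
    · rw [gS_XX]; exact (Rt Q).mul_mem hbX hbt
    · rw [gS_YY]; exact (Rt Q).mul_mem ((Rt Q).mul_mem hbn hbY) hbt
    · rw [gS_tau]; exact hbt
    · rw [gS_zt]; exact (Rt Q).mul_mem ((Rt Q).mul_mem hbz hbK) hbt
  · apply conj_mem_Rt a b h Q hQ
    · rw [gS'_XX]; exact (Rt Q).mul_mem ((Rt Q).mul_mem hbn hbX) hbt
    · rw [gS'_YY]; exact (Rt Q).mul_mem hbn hbY
    · rw [gS'_tau]; exact hbt
    · rw [gS'_zt]; exact (Rt Q).mul_mem ((Rt Q).mul_mem hbz hbY) hbt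

end Cfsg.Agent.Lib.Helper86_S5320_REXP
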