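import Mathlib
import Cfsg.Agent.Lib.Helper76_S5320Defs
import Cfsg.Agent.Lib.Helper76_S5320Bas

/-!
# S5320-SCL (architect helper76): `St Q` has no proper strongly closed subgroup properly
containing the centre (aux form: ZS, FUS1, SLGEN, SLTR, ZMEET are explicit hypotheses).
-/

set_option autoImplicit false
set_option linter.unusedVariables false
set_option linter.unusedTactic false
set_option linter.unreachableTactic false

open Matrix Cfsg.Agent.Lib.Helper42_SL2Class Cfsg.Agent.Lib.Helper76_S5320Defs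
  Cfsg.Agent.Lib.Helper76_S5320Bas

namespace Cfsg.Agent.Lib.Helper86_S5320_SCL

variable {F : Type*} [Field F]

theorem negS_one_inv : (negS (1 : SL2 F))⁻¹ = negS 1 :=
  inv_eq_of_mul_eq_one_right negS_mul_negS

/-- inverses of elements of square `-1` have square `-1` -/
theorem inv_sq {c : SL2 F} (hc : c * c = negS 1) : c⁻¹ * c⁻¹ = negS 1 := by
  rw [← _root_.mul_inv_rev, hc, negS_one_inv]

theorem XY_sq (a b : F) (h : a * a + b * b = -1) : X a b h * Y * (X a b h * Y) = negS 1 := by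
  apply Subtype.ext
  show (X a b h * Y).1 * (X a b h * Y).1 = -(1 : Matrix (Fin 2) (Fin 2) F)
  rw [XY_coe]
  ext i j
  fin_cases i <;> fin_cases j <;> simp [Matrix.mul_apply, Fin.sum_univ_two] <;>
    first
      | ring1
      | linear_combination h
      | linear_combination -h

theorem scl (h2 : (2 : F) ≠ 0) (a b : F) (h : a * a + b * b = -1) (Q : Subgroup (SL2 F))
    (hX : X a b h ∈ Q) (hY : Y ∈ Q)
    (hzs : ∀ x ∈ (Ht : Subgroup (Sp4 F)),
      (∀ y ∈ St Q, x * y * x⁻¹ * y⁻¹ ∈ Subgroup.center (Sp4 F)) →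
        x = 1 ∨ x = negOne ∨ x = zt ∨ x = negOne * zt)
    (hfus : ∃ g : Sp4 F, g * zt * g⁻¹ = tau)
    (hgen : Q ≤ Subgroup.closure {c | c ∈ Q ∧ c * c = negS 1})
    (htr : ∀ c d : SL2 F, c * c = negS 1 → d * d = negS 1 → ∃ u : SL2 F, u * c * u⁻¹ = d)
    (hmeet : ∀ T : Subgroup (Sp4 F), Subgroup.center (Sp4 F) ≤ T → T ≤ St Q →
      T ≠ Subgroup.center (Sp4 F) → (∀ s ∈ St Q, ∀ t ∈ T, s * t * s⁻¹ ∈ T) →
        ∃ t ∈ T, t ∉ Subgroup.center (Sp4 F) ∧ ∀ s ∈ St Q, s * t * s⁻¹ * t⁻¹ ∈ Subgroup.center (Sp4 F))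
    (T : Subgroup (Sp4 F)) (hZT : Subgroup.center (Sp4 F) ≤ T) (hTS : T ≤ St Q)
    (hne : T ≠ Subgroup.center (Sp4 F))
    (hsc : ∀ t ∈ T, ∀ g : Sp4 F, g * t * g⁻¹ ∈ St Q → g * t * g⁻¹ ∈ T) : T = St Q := by
  -- `T` is normal in `St Q`
  have hnorm : ∀ s ∈ St Q, ∀ t ∈ T, s * t * s⁻¹ ∈ T := by
    intro s hs t ht
    exact hsc t ht s ((St Q).mul_mem ((St Q).mul_mem hs (hTS ht)) ((St Q).inv_mem hs))
  have hnegT : (negOne : Sp4 F) ∈ T := hZT negOne_mem_center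
  -- step 1: `zt ∈ T`
  have hztT : (zt : Sp4 F) ∈ T := by
    obtain ⟨t, htT, htZ, htc⟩ := hmeet T hZT hTS hne hnorm
    have hcomm : ∀ y ∈ St Q, t * y * t⁻¹ * y⁻¹ ∈ Subgroup.center (Sp4 F) := by
      intro y hy
      have := (Subgroup.center (Sp4 F)).inv_mem (htc y hy)
      have e : (y * t * y⁻¹ * t⁻¹)⁻¹ = t * y * t⁻¹ * y⁻¹ := by group
      rw [e] at this
      exact this
    rcases hzs t (St_le_Ht Q (hTS htT)) hcomm with rfl | rfl | rfl | rfl
    · exact absurd (Subgroup.one_mem _) htZ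
    · exact absurd negOne_mem_center htZ
    · exact htT
    · have := T.mul_mem hnegT htT
      rwa [← mul_assoc, negOne_mul_negOne, one_mul] at this
  -- step 2: `tau ∈ T`
  have htauT : (tau : Sp4 F) ∈ T := by
    obtain ⟨g, hg⟩ := hfus
    have := hsc zt hztT g (by rw [hg]; exact tau_mem_St Q)
    rwa [hg] at this
  -- step 3: `blk (c, c⁻¹) ∈ T` for `c ∈ Q`
  have hstep3 : ∀ c ∈ Q, blk (c, c⁻¹) ∈ T := by
    intro c hc
    have hs : blk (c, (1 : SL2 F)) ∈ St Q := (blk_mem_St_iff Q _ _).mpr ⟨hc, Q.one_mem⟩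
    have e : blk (c, 1) * tau * (blk (c, (1 : SL2 F)))⁻¹ = blk (c, c⁻¹) * tau := by
      rw [blk_inv, mul_assoc, tau_mul_blk, ← mul_assoc, blk_mul]
      simp
    have := hnorm _ hs _ htauT
    rw [e] at this
    exact (Subgroup.mul_mem_cancel_right T htauT).mp this
  -- step 4: `blk (c, c') ∈ T` for `c, c' ∈ Q` of square `-1`
  have hstep4 : ∀ c ∈ Q, ∀ c' ∈ Q, c * c = negS 1 → c' * c' = negS 1 → blk (c, c') ∈ T := by
    intro c hc c' hc' hcc hcc'
    obtain ⟨u, hu⟩ := htr (X a b h) c (X_mul_X a b h) hcc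
    obtain ⟨u', hu'⟩ := htr (X a b h)⁻¹ c' (inv_sq (X_mul_X a b h)) hcc'
    have e : blk (u, u') * blk (X a b h, (X a b h)⁻¹) * (blk (u, u'))⁻¹ = blk (c, c') := by
      rw [blk_inv, blk_mul, blk_mul, hu, hu']
    have := hsc _ (hstep3 _ hX) (blk (u, u'))
      (by rw [e]; exact (blk_mem_St_iff Q _ _).mpr ⟨hc, hc'⟩)
    rwa [e] at this
  -- step 5: `blk (1, c) ∈ T` and `blk (c, 1) ∈ T` for `c ∈ Q` of square `-1`
  have hXYQ : X a b h * Y ∈ Q := Q.mul_mem hX hY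
  have hstep5 : ∀ c ∈ Q, c * c = negS 1 → blk ((1 : SL2 F), c) ∈ T := by
    intro c hc hcc
    have e : blk ((1 : SL2 F), c) =
        blk (X a b h, c) * blk (Y, X a b h) * blk ((X a b h * Y)⁻¹, (X a b h)⁻¹) := by
      rw [blk_mul, blk_mul]
      simp
    rw [e]
    refine T.mul_mem (T.mul_mem ?_ ?_) ?_
    · exact hstep4 _ hX _ hc (X_mul_X a b h) hcc
    · exact hstep4 _ hY _ hX Y_mul_Y (X_mul_X a b h)
    · exact hstep4 _ (Q.inv_mem hXYQ) _ (Q.inv_mem hX) (inv_sq (XY_sq a b h))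
        (inv_sq (X_mul_X a b h))
  have hstep5' : ∀ c ∈ Q, c * c = negS 1 → blk (c, (1 : SL2 F)) ∈ T := by
    intro c hc hcc
    have := T.mul_mem (T.mul_mem htauT (hstep5 c hc hcc)) (T.inv_mem htauT)
    rwa [tau_conj_blk] at this
  -- step 6: all of `blk (Q × Q)`
  have hall1 : ∀ c ∈ Q, blk (c, (1 : SL2 F)) ∈ T := by
    let K : Subgroup (SL2 F) := T.comap (blk.comp (MonoidHom.inl (SL2 F) (SL2 F)))
    have hK : ∀ c : SL2 F, c ∈ K ↔ blk (c, (1 : SL2 F)) ∈ T := fun c => Iff.rfl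
    have hle : Subgroup.closure {c | c ∈ Q ∧ c * c = negS 1} ≤ K := by
      rw [Subgroup.closure_le]
      rintro c ⟨hc, hcc⟩
      exact (hK c).mpr (hstep5' c hc hcc)
    intro c hc
    exact (hK c).mp (hle (hgen hc))
  have hall2 : ∀ c ∈ Q, blk ((1 : SL2 F), c) ∈ T := by
    let K : Subgroup (SL2 F) := T.comap (blk.comp (MonoidHom.inr (SL2 F) (SL2 F)))
    have hK : ∀ c : SL2 F, c ∈ K ↔ blk ((1 : SL2 F), c) ∈ T := fun c => Iff.rfl
    have hle : Subgroup.closure {c | c ∈ Q ∧ c * c = negS 1} ≤ K := by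
      rw [Subgroup.closure_le]
      rintro c ⟨hc, hcc⟩
      exact (hK c).mpr (hstep5 c hc hcc)
    intro c hc
    exact (hK c).mp (hle (hgen hc))
  have hall : ∀ c ∈ Q, ∀ d ∈ Q, blk (c, d) ∈ T := by
    intro c hc d hd
    have := T.mul_mem (hall1 c hc) (hall2 d hd)
    rwa [blk_mul, mul_one, one_mul] at this
  apply le_antisymm hTS
  intro g hg
  obtain ⟨c, hc, d, hd, rfl | rfl⟩ := (mem_St_iff Q g).mp hg
  · exact hall c hc d hd
  · exact T.mul_mem (hall c hc d hd) htauT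

end Cfsg.Agent.Lib.Helper86_S5320_SCL
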