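import Mathlib
import Cfsg.Agent.Lib.Helper76_S5320Defs
import Cfsg.Agent.Lib.Helper76_S5320Bas

/-!
# S5320 package FUS1 (architect helper76): an explicit element of `Sp₄(F)` conjugating
`zt = blk (-1, 1)` to `tau`.
-/

set_option autoImplicit false

open Matrix Cfsg.Agent.Lib.Helper42_SL2Class Cfsg.Agent.Lib.Helper76_S5320Defs
  Cfsg.Agent.Lib.Helper76_S5320Bas

namespace Cfsg.Agent.Lib.Helper89_S5320_FUS1

variable {F : Type*} [Field F]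

/-- the matrix with columns `e₁-e₂, e₁+e₂, (f₁-f₂)/2, (f₁+f₂)/2` -/
def hM : Matrix (Fin 2 ⊕ Fin 2) (Fin 2 ⊕ Fin 2) F :=
  Matrix.fromBlocks !![1, 1; -1, 1] 0 0 !![1 / 2, 1 / 2; -1 / 2, 1 / 2]

theorem hM_mem (h2 : (2 : F) ≠ 0) :
    (hM : Matrix (Fin 2 ⊕ Fin 2) (Fin 2 ⊕ Fin 2) F) ∈ Matrix.symplecticGroup (Fin 2) F := by
  rw [SymplecticGroup.mem_iff]
  unfold hM Matrix.J
  rw [Matrix.fromBlocks_multiply, Matrix.fromBlocks_transpose, Matrix.fromBlocks_multiply]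
  congr 1
  all_goals
    ext i j
    fin_cases i <;> fin_cases j <;>
      simp [Fin.sum_univ_two, Matrix.vecMul, dotProduct]
  all_goals
    field_simp
  all_goals
    ring

theorem ztM_eq : ((zt : Sp4 F) : Matrix (Fin 2 ⊕ Fin 2) (Fin 2 ⊕ Fin 2) F) =
    Matrix.fromBlocks (Matrix.diagonal ![-1, 1]) 0 0 (Matrix.diagonal ![-1, 1]) := by
  show blkM (negS (1 : SL2 F)).1 (1 : SL2 F).1 = _
  unfold blkM
  rw [negS_coe]
  congr 1 <;> · ext i j; fin_cases i <;> fin_cases j <;> simp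

theorem hM_mul (h2 : (2 : F) ≠ 0) :
    (hM : Matrix (Fin 2 ⊕ Fin 2) (Fin 2 ⊕ Fin 2) F) *
      Matrix.fromBlocks (Matrix.diagonal ![-1, 1]) 0 0 (Matrix.diagonal ![-1, 1]) =
    tauM * hM := by
  unfold hM tauM
  rw [Matrix.fromBlocks_multiply, Matrix.fromBlocks_multiply]
  congr 1
  all_goals
    ext i j
    fin_cases i <;> fin_cases j <;>
      simp [Fin.sum_univ_two, Matrix.vecMul, dotProduct]
  all_goals
    field_simp

/-- **S5320-FUS1**. -/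
theorem fus1 (h2 : (2 : F) ≠ 0) : ∃ h : Sp4 F, h * zt * h⁻¹ = tau := by
  refine ⟨⟨hM, hM_mem h2⟩, ?_⟩
  have key : (⟨hM, hM_mem h2⟩ : Sp4 F) * zt = tau * ⟨hM, hM_mem h2⟩ := by
    apply Subtype.ext
    show hM * ((zt : Sp4 F) : Matrix (Fin 2 ⊕ Fin 2) (Fin 2 ⊕ Fin 2) F) = tauM * hM
    rw [ztM_eq, hM_mul h2]
  rw [key, mul_assoc, mul_inv_cancel, mul_one]

end Cfsg.Agent.Lib.Helper89_S5320_FUS1
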