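import Mathlib
import Cfsg.Agent.Lib.Helper76_S5320Defs
import Cfsg.Agent.Lib.Helper76_S5320Bas

/-!
# S5320 package OMN (architect helper76): `blk (w, w)` normalizes `St Q` and `Rt Q` when `w`
normalizes `Q`.
-/

set_option autoImplicit false

open Matrix Cfsg.Agent.Lib.Helper42_SL2Class Cfsg.Agent.Lib.Helper76_S5320Defs
  Cfsg.Agent.Lib.Helper76_S5320Bas

namespace Cfsg.Agent.Lib.Helper89_S5320_OMN

variable {F : Type*} [Field F]

theorem conj_blk (w c d : SL2 F) :
    blk (w, w) * blk (c, d) * (blk (w, w))⁻¹ = blk (w * c * w⁻¹, w * d * w⁻¹) := by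
  rw [blk_inv, blk_mul, blk_mul]

theorem conj_tau (w : SL2 F) : blk (w, w) * tau * (blk (w, w))⁻¹ = tau := by
  rw [blk_inv, mul_assoc, tau_mul_blk, ← mul_assoc, blk_mul, mul_inv_cancel, blk_one, one_mul]

theorem conj_zt (w : SL2 F) : blk (w, w) * zt * (blk (w, w))⁻¹ = zt := by
  unfold zt
  rw [conj_blk]
  congr 2
  · rw [← negS_eq' w, negS_eq w, mul_assoc, mul_inv_cancel, mul_one]
  · rw [mul_one, mul_inv_cancel]

/-- **S5320-OMN**. -/
theorem omn (Q : Subgroup (SL2 F)) (w : SL2 F) (hw : ∀ c ∈ Q, w * c * w⁻¹ ∈ Q) :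
    (∀ s ∈ St Q, blk (w, w) * s * (blk (w, w))⁻¹ ∈ St Q) ∧
      (∀ r ∈ Rt Q, blk (w, w) * r * (blk (w, w))⁻¹ ∈ Rt Q) := by
  constructor
  · intro s hs
    obtain ⟨c, hc, d, hd, rfl | rfl⟩ := (mem_St_iff Q s).mp hs
    · rw [conj_blk, blk_mem_St_iff]
      exact ⟨hw c hc, hw d hd⟩
    · have e : blk (w, w) * (blk (c, d) * tau) * (blk (w, w))⁻¹ =
          (blk (w, w) * blk (c, d) * (blk (w, w))⁻¹) * (blk (w, w) * tau * (blk (w, w))⁻¹) := by
        group
      rw [e, conj_blk, conj_tau]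
      exact (mem_St_iff Q _).mpr ⟨_, hw c hc, _, hw d hd, Or.inr rfl⟩
  · intro r hr
    unfold Rt at hr ⊢
    induction hr using Subgroup.closure_induction with
    | mem x hx =>
      apply Subgroup.subset_closure
      rcases hx with ⟨c, hc, rfl⟩ | hx
      · left
        exact ⟨w * c * w⁻¹, hw c hc, conj_blk w c c⟩
      · right
        rcases hx with rfl | hx
        · left; exact conj_tau w
        · right
          rw [Set.mem_singleton_iff] at hx
          rw [hx, conj_zt, Set.mem_singleton_iff]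
    | one =>
      rw [mul_one, mul_inv_cancel]
      exact Subgroup.one_mem _
    | mul x y _ _ hx hy =>
      have e : blk (w, w) * (x * y) * (blk (w, w))⁻¹ =
          (blk (w, w) * x * (blk (w, w))⁻¹) * (blk (w, w) * y * (blk (w, w))⁻¹) := by group
      rw [e]
      exact Subgroup.mul_mem _ hx hy
    | inv x _ hx =>
      have e : blk (w, w) * x⁻¹ * (blk (w, w))⁻¹ = (blk (w, w) * x * (blk (w, w))⁻¹)⁻¹ := by group
      rw [e]
      exact Subgroup.inv_mem _ hx

end Cfsg.Agent.Lib.Helper89_S5320_OMN
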