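import Mathlib
import Cfsg.Agent.Lib.Helper76_S5320Defs
import Cfsg.Agent.Lib.Helper76_S5320Bas

/-!
# S5320 package SLOM (architect helper76): explicit `2 × 2` computations with the element `om` of
order `3` normalizing the quaternion group `⟨X, Y⟩`.
-/

set_option autoImplicit false

open Matrix Cfsg.Agent.Lib.Helper42_SL2Class Cfsg.Agent.Lib.Helper76_S5320Defs
  Cfsg.Agent.Lib.Helper76_S5320Bas

namespace Cfsg.Agent.Lib.Helper89_S5320_SLOM

variable {F : Type*} [Field F]

theorem om_mul_X (a b : F) (h : a * a + b * b = -1) (h2 : (2 : F) ≠ 0) :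
    om a b h h2 * X a b h = X a b h * Y * om a b h h2 := by
  apply Subtype.ext
  show !![(-1 + a + b) / 2, (b - 1 - a) / 2; (b + 1 - a) / 2, (-1 - a - b) / 2] * !![a, b; b, -a] =
    !![a, b; b, -a] * !![0, -1; 1, 0] *
      !![(-1 + a + b) / 2, (b - 1 - a) / 2; (b + 1 - a) / 2, (-1 - a - b) / 2]
  ext i j
  fin_cases i <;> fin_cases j <;> simp [Matrix.mul_apply, Fin.sum_univ_two] <;> field_simp <;>
    first | linear_combination h | linear_combination -h | ring

theorem om_mul_Y (a b : F) (h : a * a + b * b = -1) (h2 : (2 : F) ≠ 0) :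
    om a b h h2 * Y = X a b h * om a b h h2 := by
  apply Subtype.ext
  show !![(-1 + a + b) / 2, (b - 1 - a) / 2; (b + 1 - a) / 2, (-1 - a - b) / 2] * !![0, -1; 1, 0] =
    !![a, b; b, -a] *
      !![(-1 + a + b) / 2, (b - 1 - a) / 2; (b + 1 - a) / 2, (-1 - a - b) / 2]
  ext i j
  fin_cases i <;> fin_cases j <;> simp [Matrix.mul_apply, Fin.sum_univ_two] <;> field_simp <;>
    first | linear_combination h | linear_combination -h

theorem om_X (a b : F) (h : a * a + b * b = -1) (h2 : (2 : F) ≠ 0) :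
    om a b h h2 * X a b h * (om a b h h2)⁻¹ = X a b h * Y := by
  rw [om_mul_X, mul_assoc, mul_inv_cancel, mul_one]

theorem om_Y (a b : F) (h : a * a + b * b = -1) (h2 : (2 : F) ≠ 0) :
    om a b h h2 * Y * (om a b h h2)⁻¹ = X a b h := by
  rw [om_mul_Y, mul_assoc, mul_inv_cancel, mul_one]

theorem om_pow_three (a b : F) (h : a * a + b * b = -1) (h2 : (2 : F) ≠ 0) :
    om a b h h2 ^ 3 = 1 := by
  rw [pow_succ, pow_two]
  apply Subtype.ext
  show !![(-1 + a + b) / 2, (b - 1 - a) / 2; (b + 1 - a) / 2, (-1 - a - b) / 2] *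
      !![(-1 + a + b) / 2, (b - 1 - a) / 2; (b + 1 - a) / 2, (-1 - a - b) / 2] *
      !![(-1 + a + b) / 2, (b - 1 - a) / 2; (b + 1 - a) / 2, (-1 - a - b) / 2] = 1
  ext i j
  fin_cases i <;> fin_cases j <;> simp [Matrix.mul_apply, Fin.sum_univ_two] <;> field_simp <;>
    first | linear_combination (2 * a + 2 * b - 6) * h | linear_combination (2 * b - 2 * a - 2) * h |
      linear_combination (2 * b - 2 * a + 2) * h | linear_combination (-2 * a - 2 * b - 6) * h

theorem om_ne_one (a b : F) (h : a * a + b * b = -1) (h2 : (2 : F) ≠ 0) :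
    om a b h h2 ≠ 1 := by
  intro h1
  have h01 := congrFun (congrFun (congrArg Subtype.val h1) 0) 1
  have h10 := congrFun (congrFun (congrArg Subtype.val h1) 1) 0
  simp only [om, Matrix.of_apply, Matrix.cons_val', Matrix.cons_val_zero, Matrix.cons_val_one,
    Matrix.cons_val_fin_one, Matrix.SpecialLinearGroup.coe_one, ne_eq, zero_ne_one,
    not_false_eq_true, Matrix.one_apply_ne, one_ne_zero] at h01 h10
  have e1 : b - 1 - a = 0 := by
    have := div_eq_zero_iff.mp h01
    rcases this with h | h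
    · exact h
    · exact absurd h h2
  have e2 : b + 1 - a = 0 := by
    have := div_eq_zero_iff.mp h10
    rcases this with h | h
    · exact h
    · exact absurd h h2
  apply h2
  linear_combination e2 - e1

/-- conjugation by `ω` and `ω⁻¹` on `X`, `Y`, `XY` -/
theorem om_XY (a b : F) (h : a * a + b * b = -1) (h2 : (2 : F) ≠ 0) :
    om a b h h2 * (X a b h * Y) * (om a b h h2)⁻¹ = Y := by
  have e : om a b h h2 * (X a b h * Y) * (om a b h h2)⁻¹ =
      (om a b h h2 * X a b h * (om a b h h2)⁻¹) * (om a b h h2 * Y * (om a b h h2)⁻¹) := by group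
  rw [e, om_X, om_Y, mul_assoc, Y_mul_X, negS_eq' (X a b h * Y), ← mul_assoc, ← mul_assoc,
    X_mul_X, mul_assoc, ← negS_eq' Y, negS_eq Y, ← mul_assoc, negS_mul_negS, one_mul]

theorem om_negS (a b : F) (h : a * a + b * b = -1) (h2 : (2 : F) ≠ 0) (c : SL2 F) :
    om a b h h2 * negS c * (om a b h h2)⁻¹ = negS (om a b h h2 * c * (om a b h h2)⁻¹) := by
  rw [negS_eq c, negS_eq (om a b h h2 * c * (om a b h h2)⁻¹), ← mul_assoc, ← negS_eq',
    negS_eq (om a b h h2)]
  group

theorem om_inv_negS (a b : F) (h : a * a + b * b = -1) (h2 : (2 : F) ≠ 0) (c : SL2 F) :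
    (om a b h h2)⁻¹ * negS c * om a b h h2 = negS ((om a b h h2)⁻¹ * c * om a b h h2) := by
  rw [negS_eq c, negS_eq ((om a b h h2)⁻¹ * c * om a b h h2), ← mul_assoc, ← negS_eq',
    negS_eq (om a b h h2)⁻¹]
  group

theorem om_inv_X (a b : F) (h : a * a + b * b = -1) (h2 : (2 : F) ≠ 0) :
    (om a b h h2)⁻¹ * X a b h * om a b h h2 = Y := by
  rw [← om_Y a b h h2]
  group

theorem om_inv_XY (a b : F) (h : a * a + b * b = -1) (h2 : (2 : F) ≠ 0) :
    (om a b h h2)⁻¹ * (X a b h * Y) * om a b h h2 = X a b h := by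
  rw [← om_X a b h h2]
  group

theorem om_inv_Y (a b : F) (h : a * a + b * b = -1) (h2 : (2 : F) ≠ 0) :
    (om a b h h2)⁻¹ * Y * om a b h h2 = X a b h * Y := by
  have := om_XY a b h h2
  calc (om a b h h2)⁻¹ * Y * om a b h h2
      = (om a b h h2)⁻¹ * (om a b h h2 * (X a b h * Y) * (om a b h h2)⁻¹) * om a b h h2 := by
        rw [this]
    _ = X a b h * Y := by group

/-- `ω` and `ω⁻¹` permute the eight elements `±1, ±X, ±Y, ±XY` -/
theorem om_conj_E8 (a b : F) (h : a * a + b * b = -1) (h2 : (2 : F) ≠ 0) (c : SL2 F)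
    (hc : E8 a b h c) :
    E8 a b h (om a b h h2 * c * (om a b h h2)⁻¹) ∧ E8 a b h ((om a b h h2)⁻¹ * c * om a b h h2) := by
  have h1 : om a b h h2 * 1 * (om a b h h2)⁻¹ = 1 := by group
  have h1' : (om a b h h2)⁻¹ * 1 * om a b h h2 = 1 := by group
  unfold E8 at hc ⊢
  rcases hc with rfl | rfl | rfl | rfl | rfl | rfl | rfl | rfl
  · rw [h1, h1']; exact ⟨Or.inl rfl, Or.inl rfl⟩
  · rw [om_negS, om_inv_negS, h1, h1']; exact ⟨Or.inr (Or.inl rfl), Or.inr (Or.inl rfl)⟩
  · rw [om_X, om_inv_X]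
    exact ⟨by tauto, by tauto⟩
  · rw [om_negS, om_inv_negS, om_X, om_inv_X]
    exact ⟨by tauto, by tauto⟩
  · rw [om_Y, om_inv_Y]
    exact ⟨by tauto, by tauto⟩
  · rw [om_negS, om_inv_negS, om_Y, om_inv_Y]
    exact ⟨by tauto, by tauto⟩
  · rw [om_XY, om_inv_XY]
    exact ⟨by tauto, by tauto⟩
  · rw [om_negS, om_inv_negS, om_XY, om_inv_XY]
    exact ⟨by tauto, by tauto⟩

end Cfsg.Agent.Lib.Helper89_S5320_SLOM
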