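import Mathlib
import Cfsg.Agent.Lib.Helper76_S5320Defs
import Cfsg.Agent.Lib.Helper76_S5320Bas

/-!
# S5320-ZS (helper76's market): the centre of `St Q` modulo `±1` is `⟨zt⟩`
-/

set_option autoImplicit false

open Matrix Cfsg.Agent.Lib.Helper42_SL2Class Cfsg.Agent.Lib.Helper76_S5320Defs
  Cfsg.Agent.Lib.Helper76_S5320Bas

namespace Cfsg.Agent.Lib.Helper99_S5320_ZS

variable {F : Type*} [Field F]

theorem negS_negS (c : SL2 F) : negS (negS c) = c := by
  apply Subtype.ext
  rw [negS_coe, negS_coe, neg_neg]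

theorem blk_eq_one_iff (c d : SL2 F) : blk (c, d) = 1 ↔ c = 1 ∧ d = 1 := by
  constructor
  · intro h
    rw [← blk_one] at h
    have := blk_injective h
    rw [Prod.mk.injEq] at this
    exact this
  · rintro ⟨rfl, rfl⟩
    exact blk_one

theorem blk_eq_negOne_iff (c d : SL2 F) : blk (c, d) = negOne ↔ c = negS 1 ∧ d = negS 1 := by
  constructor
  · intro h
    rw [negOne_eq_blk] at h
    have := blk_injective h
    rw [Prod.mk.injEq] at this
    exact this
  · rintro ⟨rfl, rfl⟩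
    exact negOne_eq_blk.symm

theorem blk_mem_center_iff (c d : SL2 F) :
    blk (c, d) ∈ Subgroup.center (Sp4 F) ↔ (c = 1 ∧ d = 1) ∨ (c = negS 1 ∧ d = negS 1) := by
  rw [mem_center_iff, blk_eq_one_iff, blk_eq_negOne_iff]

theorem X_ne_one (h2 : (2 : F) ≠ 0) (a b : F) (h : a * a + b * b = -1) : X a b h ≠ 1 := by
  intro hh
  have := X_mul_X a b h
  rw [hh, one_mul] at this
  exact negS_one_ne_one h2 this.symm

theorem X_ne_negS_one (h2 : (2 : F) ≠ 0) (a b : F) (h : a * a + b * b = -1) :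
    X a b h ≠ negS 1 := by
  intro hh
  have := X_mul_X a b h
  rw [hh, negS_mul_negS] at this
  exact negS_one_ne_one h2 this.symm

/-- If `blk (u, 1)` is central then `u = 1` (char ≠ 2). -/
theorem left_central (h2 : (2 : F) ≠ 0) (u : SL2 F)
    (hu : blk (u, 1) ∈ Subgroup.center (Sp4 F)) : u = 1 := by
  rcases (blk_mem_center_iff u 1).mp hu with ⟨h1, -⟩ | ⟨-, h1⟩
  · exact h1
  · exact absurd h1.symm (negS_one_ne_one h2)

theorem right_central (h2 : (2 : F) ≠ 0) (u : SL2 F)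
    (hu : blk (1, u) ∈ Subgroup.center (Sp4 F)) : u = 1 := by
  rcases (blk_mem_center_iff 1 u).mp hu with ⟨-, h1⟩ | ⟨h1, -⟩
  · exact h1
  · exact absurd h1.symm (negS_one_ne_one h2)

/-- **S5320-ZS**. -/
theorem zs (h2 : (2 : F) ≠ 0) (a b : F) (h : a * a + b * b = -1) (Q : Subgroup (SL2 F))
    (hX : X a b h ∈ Q) (hY : Y ∈ Q)
    (hcomm : ∀ n : SL2 F, n * X a b h = X a b h * n → n * Y = Y * n → n = 1 ∨ n = negS 1)
    (x : Sp4 F) (hx : x ∈ (Ht : Subgroup (Sp4 F)))
    (hc : ∀ y ∈ St Q, x * y * x⁻¹ * y⁻¹ ∈ Subgroup.center (Sp4 F)) :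
    x = 1 ∨ x = negOne ∨ x = zt ∨ x = negOne * zt := by
  obtain ⟨⟨c, d⟩, hp | hp⟩ := (mem_Ht_iff x).mp hx
  · -- `x = blk (c, d)`
    subst hp
    have key1 : ∀ u ∈ Q, c * u = u * c := by
      intro u hu
      have h1 := hc (blk (u, 1)) ((blk_mem_St_iff Q u 1).mpr ⟨hu, Q.one_mem⟩)
      rw [blk_inv, blk_inv, blk_mul, blk_mul, blk_mul] at h1
      simp only [mul_one, inv_one, mul_inv_cancel] at h1
      have h3 := left_central h2 _ h1
      calc c * u = (c * u * c⁻¹ * u⁻¹) * (u * c) := by group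
        _ = u * c := by rw [h3, one_mul]
    have key2 : ∀ u ∈ Q, d * u = u * d := by
      intro u hu
      have h1 := hc (blk (1, u)) ((blk_mem_St_iff Q 1 u).mpr ⟨Q.one_mem, hu⟩)
      rw [blk_inv, blk_inv, blk_mul, blk_mul, blk_mul] at h1
      simp only [mul_one, inv_one, mul_inv_cancel] at h1
      have h3 := right_central h2 _ h1
      calc d * u = (d * u * d⁻¹ * u⁻¹) * (u * d) := by group
        _ = u * d := by rw [h3, one_mul]
    have hc' := hcomm c (key1 _ hX) (key1 _ hY)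
    have hd' := hcomm d (key2 _ hX) (key2 _ hY)
    rcases hc' with rfl | rfl <;> rcases hd' with rfl | rfl
    · left; exact blk_one
    · right; right; right
      rw [zt, negOne_mul_blk, negS_negS]
    · right; right; left; rfl
    · right; left; exact negOne_eq_blk.symm
  · -- `x = blk (c, d) * tau`: impossible
    exfalso
    subst hp
    have h1 := hc (blk (X a b h, 1)) ((blk_mem_St_iff Q _ 1).mpr ⟨hX, Q.one_mem⟩)
    have h3 : blk (c, d) * tau * blk (X a b h, 1) * (blk (c, d) * tau)⁻¹ * (blk (X a b h, 1))⁻¹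
        = blk ((X a b h)⁻¹, d * X a b h * d⁻¹) := by
      rw [_root_.mul_inv_rev, tau_inv, mul_assoc (blk (c, d)) tau, tau_mul_blk,
        show blk (c, d) * (blk (1, X a b h) * tau) * (tau * (blk (c, d))⁻¹)
          = blk (c, d) * blk (1, X a b h) * (tau * tau) * (blk (c, d))⁻¹ by group,
        tau_mul_tau, mul_one, blk_inv, blk_inv, blk_mul, blk_mul, blk_mul]
      simp
    rw [h3] at h1
    rcases (blk_mem_center_iff _ _).mp h1 with ⟨h4, -⟩ | ⟨h4, -⟩
    · exact X_ne_one h2 a b h (inv_eq_one.mp h4)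
    · apply X_ne_negS_one h2 a b h
      have : X a b h = (negS 1)⁻¹ := by rw [← h4, inv_inv]
      rw [this]
      exact inv_eq_of_mul_eq_one_left negS_mul_negS

end Cfsg.Agent.Lib.Helper99_S5320_ZS
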