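import Mathlib
import Cfsg.Agent.Lib.Helper76_S5320Defs
import Cfsg.Agent.Lib.Helper76_S5320Bas
import Cfsg.Agent.Lib.Helper99_S5320_ZS

/-!
# S5320-NSH (helper76's market): the normalizer of `St Q` lies in `Ht`
-/

set_option autoImplicit false

open Matrix Cfsg.Agent.Lib.Helper42_SL2Class Cfsg.Agent.Lib.Helper76_S5320Defs
  Cfsg.Agent.Lib.Helper76_S5320Bas

namespace Cfsg.Agent.Lib.Helper99_S5320_NSH

open Cfsg.Agent.Lib.Helper99_S5320_ZS

variable {F : Type*} [Field F]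

theorem negS_one_central (c : SL2 F) : negS 1 * c = c * negS 1 := by
  rw [← negS_eq, ← negS_eq']

theorem zt_mul_blk (c d : SL2 F) : zt * blk (c, d) = blk (c, d) * zt := by
  rw [zt, blk_mul, blk_mul, one_mul, mul_one, negS_one_central]

theorem zt_mul_zt : (zt : Sp4 F) * zt = 1 := by
  rw [zt, blk_mul, negS_mul_negS, one_mul, blk_one]

theorem zt_inv : (zt : Sp4 F)⁻¹ = zt := inv_eq_of_mul_eq_one_left zt_mul_zt

theorem zt_ne_one (h2 : (2 : F) ≠ 0) : (zt : Sp4 F) ≠ 1 := by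
  intro hh
  rw [zt, blk_eq_one_iff] at hh
  exact negS_one_ne_one h2 hh.1

theorem zt_ne_negOne (h2 : (2 : F) ≠ 0) : (zt : Sp4 F) ≠ negOne := by
  intro hh
  rw [zt, blk_eq_negOne_iff] at hh
  exact negS_one_ne_one h2 hh.2.symm

theorem tau_zt_tau : (tau : Sp4 F) * zt * tau = negOne * zt := by
  rw [zt, tau_mul_blk, mul_assoc, tau_mul_tau, mul_one, negOne_mul_blk, negS_negS]

/-- `zt` is central modulo `±1` in `Ht`. -/
theorem zt_comm_mem_center (y : Sp4 F) (hy : y ∈ (Ht : Subgroup (Sp4 F))) :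
    zt * y * zt⁻¹ * y⁻¹ ∈ Subgroup.center (Sp4 F) := by
  obtain ⟨⟨c, d⟩, hp | hp⟩ := (mem_Ht_iff y).mp hy
  · subst hp
    rw [zt_mul_blk, mul_assoc (blk (c, d)), mul_inv_cancel, mul_one, mul_inv_cancel]
    exact Subgroup.one_mem _
  · subst hp
    have : zt * (blk (c, d) * tau) * zt⁻¹ * (blk (c, d) * tau)⁻¹ = (negOne : Sp4 F) := by
      rw [_root_.mul_inv_rev, tau_inv, zt_inv, ← mul_assoc zt, zt_mul_blk,
        show blk (c, d) * zt * tau * zt * (tau * (blk (c, d))⁻¹)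
          = blk (c, d) * (zt * (tau * zt * tau)) * (blk (c, d))⁻¹ by group,
        tau_zt_tau]
      have e1 : (zt : Sp4 F) * (negOne * zt) = negOne := by
        rw [← mul_assoc, ← negOne_mul_comm zt, mul_assoc, zt_mul_zt, mul_one]
      rw [e1, ← negOne_mul_comm (blk (c, d)), mul_assoc, mul_inv_cancel, mul_one]
    rw [this]
    exact negOne_mem_center

variable [Fintype F]

/-- **S5320-NSH**. -/
theorem nsh (h2 : (2 : F) ≠ 0) (a b : F) (h : a * a + b * b = -1) (Q : Subgroup (SL2 F))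
    (hX : X a b h ∈ Q) (hY : Y ∈ Q)
    (hzs : ∀ x ∈ (Ht : Subgroup (Sp4 F)),
      (∀ y ∈ St Q, x * y * x⁻¹ * y⁻¹ ∈ Subgroup.center (Sp4 F)) →
        x = 1 ∨ x = negOne ∨ x = zt ∨ x = negOne * zt)
    (hcz : ∀ g : Sp4 F, (g * zt * g⁻¹ = zt ∨ g * zt * g⁻¹ = negOne * zt) → g ∈ (Ht : Subgroup (Sp4 F)))
    (n : Sp4 F) (hn : ∀ s ∈ St Q, n * s * n⁻¹ ∈ St Q) :
    ∃ c d : SL2 F, (n = blk (c, d) ∨ n = blk (c, d) * tau) ∧ (∀ x ∈ Q, c * x * c⁻¹ ∈ Q) ∧
      (∀ x ∈ Q, d * x * d⁻¹ ∈ Q) ∧ c * d⁻¹ ∈ Q := by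
  classical
  have hneg : negS 1 ∈ Q := negS_one_mem a b h Q hX
  have hzt : (zt : Sp4 F) ∈ St Q := zt_mem_St Q hneg
  -- conjugation by `n⁻¹` also preserves `St Q`
  have hfin : Finite (Sp4 F) := inferInstance
  have hn' : ∀ y ∈ St Q, n⁻¹ * y * n ∈ St Q := by
    intro y hy
    let φ : St Q → St Q := fun s => ⟨n * s.1 * n⁻¹, hn s.1 s.2⟩
    have hinj : Function.Injective φ := by
      intro s t hst
      have := congrArg Subtype.val hst
      simp only [φ] at this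
      apply Subtype.ext
      have h3 : n * s.1 = n * t.1 := mul_right_cancel this
      exact mul_left_cancel h3
    obtain ⟨s, hs⟩ := (Finite.injective_iff_surjective.mp hinj) ⟨y, hy⟩
    have hs' : n * s.1 * n⁻¹ = y := congrArg Subtype.val hs
    rw [← hs']
    have : n⁻¹ * (n * s.1 * n⁻¹) * n = s.1 := by group
    rw [this]
    exact s.2
  -- `n zt n⁻¹` is central mod `±1` in `St Q`
  have hx1 : n * zt * n⁻¹ ∈ St Q := hn _ hzt
  have hx2 : ∀ y ∈ St Q, (n * zt * n⁻¹) * y * (n * zt * n⁻¹)⁻¹ * y⁻¹ ∈ Subgroup.center (Sp4 F) := by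
    intro y hy
    have h1 := zt_comm_mem_center (n⁻¹ * y * n) (St_le_Ht Q (hn' y hy))
    have h3 : (n * zt * n⁻¹) * y * (n * zt * n⁻¹)⁻¹ * y⁻¹
        = n * (zt * (n⁻¹ * y * n) * zt⁻¹ * (n⁻¹ * y * n)⁻¹) * n⁻¹ := by group
    rw [h3]
    exact (inferInstance : (Subgroup.center (Sp4 F)).Normal).conj_mem _ h1 n
  have hnHt : n ∈ (Ht : Subgroup (Sp4 F)) := by
    rcases hzs _ (St_le_Ht Q hx1) hx2 with h1 | h1 | h1 | h1
    · exfalso
      apply zt_ne_one h2
      have : (zt : Sp4 F) = n⁻¹ * (n * zt * n⁻¹) * n := by group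
      rw [this, h1]; group
    · exfalso
      apply zt_ne_negOne h2
      have : (zt : Sp4 F) = n⁻¹ * (n * zt * n⁻¹) * n := by group
      rw [this, h1, mul_assoc, negOne_mul_comm n, ← mul_assoc, inv_mul_cancel, one_mul]
    · exact hcz n (Or.inl h1)
    · exact hcz n (Or.inr h1)
  obtain ⟨⟨c, d⟩, hp | hp⟩ := (mem_Ht_iff n).mp hnHt
  · subst hp
    refine ⟨c, d, Or.inl rfl, ?_, ?_, ?_⟩
    · intro x hx
      have h1 := hn (blk (x, 1)) ((blk_mem_St_iff Q x 1).mpr ⟨hx, Q.one_mem⟩)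
      rw [blk_inv, blk_mul, blk_mul, blk_mem_St_iff] at h1
      exact h1.1
    · intro x hx
      have h1 := hn (blk (1, x)) ((blk_mem_St_iff Q 1 x).mpr ⟨Q.one_mem, hx⟩)
      rw [blk_inv, blk_mul, blk_mul, blk_mem_St_iff] at h1
      exact h1.2
    · have h1 := hn tau (tau_mem_St Q)
      rw [blk_inv, mul_assoc, tau_mul_blk, ← mul_assoc, blk_mul, blk_mul_tau_mem_St_iff] at h1
      exact h1.1
  · subst hp
    refine ⟨c, d, Or.inr rfl, ?_, ?_, ?_⟩
    · intro x hx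
      have h1 := hn (blk (1, x)) ((blk_mem_St_iff Q 1 x).mpr ⟨Q.one_mem, hx⟩)
      have h3 : blk (c, d) * tau * blk (1, x) * (blk (c, d) * tau)⁻¹ = blk (c * x * c⁻¹, 1) := by
        rw [_root_.mul_inv_rev, tau_inv, mul_assoc (blk (c, d)) tau, tau_mul_blk,
          show blk (c, d) * (blk (x, 1) * tau) * (tau * (blk (c, d))⁻¹)
            = blk (c, d) * blk (x, 1) * (tau * tau) * (blk (c, d))⁻¹ by group,
          tau_mul_tau, mul_one, blk_inv, blk_mul, blk_mul]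
        simp
      rw [h3, blk_mem_St_iff] at h1
      exact h1.1
    · intro x hx
      have h1 := hn (blk (x, 1)) ((blk_mem_St_iff Q x 1).mpr ⟨hx, Q.one_mem⟩)
      have h3 : blk (c, d) * tau * blk (x, 1) * (blk (c, d) * tau)⁻¹ = blk (1, d * x * d⁻¹) := by
        rw [_root_.mul_inv_rev, tau_inv, mul_assoc (blk (c, d)) tau, tau_mul_blk,
          show blk (c, d) * (blk (1, x) * tau) * (tau * (blk (c, d))⁻¹)
            = blk (c, d) * blk (1, x) * (tau * tau) * (blk (c, d))⁻¹ by group,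
          tau_mul_tau, mul_one, blk_inv, blk_mul, blk_mul]
        simp
      rw [h3, blk_mem_St_iff] at h1
      exact h1.2
    · have h1 := hn tau (tau_mem_St Q)
      have h3 : blk (c, d) * tau * tau * (blk (c, d) * tau)⁻¹ = blk (c * d⁻¹, d * c⁻¹) * tau := by
        rw [_root_.mul_inv_rev, tau_inv, mul_assoc (blk (c, d)) tau, tau_mul_tau, mul_one,
          blk_inv, ← mul_assoc, mul_assoc (blk (c, d)) tau, tau_mul_blk, ← mul_assoc, blk_mul]
      rw [h3, blk_mul_tau_mem_St_iff] at h1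
      exact h1.1

end Cfsg.Agent.Lib.Helper99_S5320_NSH
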