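import Mathlib
import Cfsg.Agent.Lib.Helper76_S5320Defs
import Cfsg.Agent.Lib.Helper76_S5320Bas
import Cfsg.Agent.Lib.Helper99_S5320_ZS
import Cfsg.Agent.Lib.Helper99_S5320_NSH

/-!
# S5320-RCENT (helper76's market): `C(Rt Q mod ±1) = Rt Q`
-/

set_option autoImplicit false

open Matrix Cfsg.Agent.Lib.Helper42_SL2Class Cfsg.Agent.Lib.Helper76_S5320Defs
  Cfsg.Agent.Lib.Helper76_S5320Bas

namespace Cfsg.Agent.Lib.Helper99_S5320_RCENT

open Cfsg.Agent.Lib.Helper99_S5320_ZS Cfsg.Agent.Lib.Helper99_S5320_NSH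

variable {F : Type*} [Field F]

/-- The common part: `g = blk (c, d) * t` with `t ∈ {1, tau}` and the three commutator
conditions give `c ∈ Q` and `d = c ∨ d = negS c`. -/
theorem core (a b : F) (h : a * a + b * b = -1) (Q : Subgroup (SL2 F))
    (hpm : ∀ n : SL2 F, (n * X a b h * n⁻¹ = X a b h ∨ n * X a b h * n⁻¹ = negS (X a b h)) →
      (n * Y * n⁻¹ = Y ∨ n * Y * n⁻¹ = negS Y) → n ∈ Q)
    (c d : SL2 F)
    (h1 : blk (c * d⁻¹, d * c⁻¹) ∈ Subgroup.center (Sp4 F))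
    (hXX : blk (c * X a b h * c⁻¹ * (X a b h)⁻¹, d * X a b h * d⁻¹ * (X a b h)⁻¹)
      ∈ Subgroup.center (Sp4 F))
    (hYY : blk (c * Y * c⁻¹ * Y⁻¹, d * Y * d⁻¹ * Y⁻¹) ∈ Subgroup.center (Sp4 F)) :
    c ∈ Q ∧ (d = c ∨ d = negS c) := by
  have aux : ∀ u : SL2 F, blk (c * u * c⁻¹ * u⁻¹, d * u * d⁻¹ * u⁻¹) ∈ Subgroup.center (Sp4 F) →
      (c * u * c⁻¹ = u ∨ c * u * c⁻¹ = negS u) := by
    intro u hu
    rcases (blk_mem_center_iff _ _).mp hu with ⟨h3, -⟩ | ⟨h3, -⟩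
    · left
      calc c * u * c⁻¹ = (c * u * c⁻¹ * u⁻¹) * u := by group
        _ = u := by rw [h3, one_mul]
    · right
      calc c * u * c⁻¹ = (c * u * c⁻¹ * u⁻¹) * u := by group
        _ = negS u := by rw [h3, ← negS_eq]
  refine ⟨hpm c (aux _ hXX) (aux _ hYY), ?_⟩
  rcases (blk_mem_center_iff _ _).mp h1 with ⟨-, h3⟩ | ⟨-, h3⟩
  · left
    calc d = (d * c⁻¹) * c := by group
      _ = c := by rw [h3, one_mul]
  · right
    calc d = (d * c⁻¹) * c := by group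
      _ = negS c := by rw [h3, ← negS_eq]

/-- **S5320-RCENT**. -/
theorem rcent (h2 : (2 : F) ≠ 0) (a b : F) (h : a * a + b * b = -1) (Q : Subgroup (SL2 F))
    (hX : X a b h ∈ Q) (hY : Y ∈ Q)
    (hmem : ∀ r : Sp4 F, r ∈ Rt Q ↔ ∃ c ∈ Q, r = blk (c, c) ∨ r = blk (c, negS c) ∨
      r = blk (c, c) * tau ∨ r = blk (c, negS c) * tau)
    (hcz : ∀ g : Sp4 F, (g * zt * g⁻¹ = zt ∨ g * zt * g⁻¹ = negOne * zt) → g ∈ (Ht : Subgroup (Sp4 F)))
    (hpm : ∀ n : SL2 F, (n * X a b h * n⁻¹ = X a b h ∨ n * X a b h * n⁻¹ = negS (X a b h)) →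
      (n * Y * n⁻¹ = Y ∨ n * Y * n⁻¹ = negS Y) → n ∈ Q)
    (g : Sp4 F) (hg : ∀ r ∈ Rt Q, g * r * g⁻¹ * r⁻¹ ∈ Subgroup.center (Sp4 F)) : g ∈ Rt Q := by
  have hneg : negS 1 ∈ Q := negS_one_mem a b h Q hX
  have hztR : (zt : Sp4 F) ∈ Rt Q :=
    (hmem _).mpr ⟨negS 1, hneg, Or.inr (Or.inl (by rw [zt, negS_negS]))⟩
  have htauR : (tau : Sp4 F) ∈ Rt Q :=
    (hmem _).mpr ⟨1, Q.one_mem, Or.inr (Or.inr (Or.inl (by rw [blk_one, one_mul])))⟩
  have hXR : blk (X a b h, X a b h) ∈ Rt Q := (hmem _).mpr ⟨_, hX, Or.inl rfl⟩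
  have hYR : blk ((Y : SL2 F), (Y : SL2 F)) ∈ Rt Q := (hmem _).mpr ⟨_, hY, Or.inl rfl⟩
  -- `g ∈ Ht`
  have hgHt : g ∈ (Ht : Subgroup (Sp4 F)) := by
    apply hcz
    have h1 := hg zt hztR
    rcases (mem_center_iff _).mp h1 with h3 | h3
    · left
      calc g * zt * g⁻¹ = (g * zt * g⁻¹ * zt⁻¹) * zt := by group
        _ = zt := by rw [h3, one_mul]
    · right
      calc g * zt * g⁻¹ = (g * zt * g⁻¹ * zt⁻¹) * zt := by group
        _ = negOne * zt := by rw [h3]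
  obtain ⟨⟨c, d⟩, hp | hp⟩ := (mem_Ht_iff g).mp hgHt
  · subst hp
    have h1 := hg tau htauR
    have e1 : blk (c, d) * tau * (blk (c, d))⁻¹ * tau⁻¹ = blk (c * d⁻¹, d * c⁻¹) := by
      rw [blk_inv, tau_inv, mul_assoc (blk (c, d)) tau, tau_mul_blk, mul_assoc, mul_assoc,
        tau_mul_tau, mul_one, blk_mul]
    rw [e1] at h1
    have hXX := hg _ hXR
    have hYY := hg _ hYR
    rw [blk_inv, blk_inv, blk_mul, blk_mul, blk_mul] at hXX hYY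
    obtain ⟨hcQ, hd | hd⟩ := core a b h Q hpm c d h1 hXX hYY
    · subst hd
      exact (hmem _).mpr ⟨d, hcQ, Or.inl rfl⟩
    · subst hd
      exact (hmem _).mpr ⟨c, hcQ, Or.inr (Or.inl rfl)⟩
  · subst hp
    have h1 := hg tau htauR
    have e1 : blk (c, d) * tau * tau * (blk (c, d) * tau)⁻¹ * tau⁻¹ = blk (c * d⁻¹, d * c⁻¹) := by
      rw [_root_.mul_inv_rev, blk_inv, tau_inv, mul_assoc (blk (c, d)) tau, tau_mul_tau, mul_one,
        ← mul_assoc, mul_assoc (blk (c, d)) tau, tau_mul_blk, mul_assoc, mul_assoc, tau_mul_tau,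
        mul_one, blk_mul]
    rw [e1] at h1
    have conj_uu : ∀ u : SL2 F, blk (c, d) * tau * blk (u, u) * (blk (c, d) * tau)⁻¹ * (blk (u, u))⁻¹
        = blk (c * u * c⁻¹ * u⁻¹, d * u * d⁻¹ * u⁻¹) := by
      intro u
      rw [_root_.mul_inv_rev, tau_inv, mul_assoc (blk (c, d)) tau, tau_mul_blk,
        show blk (c, d) * (blk (u, u) * tau) * (tau * (blk (c, d))⁻¹) * (blk (u, u))⁻¹
          = blk (c, d) * blk (u, u) * (tau * tau) * (blk (c, d))⁻¹ * (blk (u, u))⁻¹ by group,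
        tau_mul_tau, mul_one, blk_inv, blk_inv, blk_mul, blk_mul, blk_mul]
    have hXX := hg _ hXR
    have hYY := hg _ hYR
    rw [conj_uu] at hXX hYY
    obtain ⟨hcQ, hd | hd⟩ := core a b h Q hpm c d h1 hXX hYY
    · subst hd
      exact (hmem _).mpr ⟨d, hcQ, Or.inr (Or.inr (Or.inl rfl))⟩
    · subst hd
      exact (hmem _).mpr ⟨c, hcQ, Or.inr (Or.inr (Or.inr rfl))⟩

end Cfsg.Agent.Lib.Helper99_S5320_RCENT
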