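import Mathlib
import Cfsg.Agent.Lib.Helper76_S5320Defs
import Cfsg.Agent.Lib.Helper76_S5320Bas
import Cfsg.Agent.Lib.Helper88_FusFam
import Cfsg.Agent.Lib.Helper69_S5320_DESCENT
import Cfsg.Agent.Lib.Helper69_S5320_ZMEET
import Cfsg.Agent.Lib.Helper42_S5320_SLCENT
import Cfsg.Agent.Lib.Helper42_S5320_SLGEN
import Cfsg.Agent.Lib.Helper42_S5320_SLTR
import Cfsg.Agent.Lib.Helper42_S5320_SLN1
import Cfsg.Agent.Lib.Helper26_S5320_SLE8
import Cfsg.Agent.Lib.Helper26_S5320_SLQS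
import Cfsg.Agent.Lib.Helper89_S5320_SLOM
import Cfsg.Agent.Lib.Helper73_S5320_SLN3
import Cfsg.Agent.Lib.Helper2_S5320_CENTZ
import Cfsg.Agent.Lib.Helper89_S5320_FUS1
import Cfsg.Agent.Lib.Helper73_S5320_SYL
import Cfsg.Agent.Lib.Helper99_S5320_ZS
import Cfsg.Agent.Lib.Helper86_S5320_SCL
import Cfsg.Agent.Lib.Helper99_S5320_NSH
import Cfsg.Agent.Lib.Helper2_S5320_CS
import Cfsg.Agent.Lib.Helper2_S5320_RMEM
import Cfsg.Agent.Lib.Helper51_S5320_RNORM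
import Cfsg.Agent.Lib.Helper99_S5320_RCENT
import Cfsg.Agent.Lib.Helper86_S5320_REXP
import Cfsg.Agent.Lib.Helper89_S5320_OMN

/-!
# S5320: assembly of `FusLocalFamMod` for `St Q ≤ Sp₄(F)` (helper76)
-/

set_option autoImplicit false

namespace Cfsg.Agent.Lib.Helper76_S5320_Main

open Matrix Cfsg.Agent.Lib.Helper42_SL2Class Cfsg.Agent.Lib.Helper76_S5320Defs
  Cfsg.Agent.Lib.Helper76_S5320Bas

variable {F : Type*} [Field F] [Fintype F]

theorem two_ne_zero_of_odd (hodd : Fintype.card F % 2 = 1) : (2 : F) ≠ 0 := by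
  intro h
  have h' : ((2 : ℕ) : F) = 0 := by exact_mod_cast h
  have := CharP.ringChar_of_prime_eq_zero Nat.prime_two h'
  have := FiniteField.even_card_of_char_two this
  omega

/-- in a finite group, `n K n⁻¹ ⊆ K` implies `n⁻¹ K n ⊆ K` -/
theorem inv_conj_mem {G : Type*} [Group G] [Finite G] (K : Subgroup G) (n : G)
    (hn : ∀ k ∈ K, n * k * n⁻¹ ∈ K) : ∀ k ∈ K, n⁻¹ * k * n ∈ K := by
  intro k hk
  -- conjugation by `n` is an injective self-map of the finite set `K`, hence surjective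
  let f : K → K := fun x => ⟨n * x * n⁻¹, hn x x.2⟩
  have hinj : Function.Injective f := by
    intro x y hxy
    have := congrArg Subtype.val hxy
    simp only [f] at this
    apply Subtype.ext
    have h1 := mul_right_cancel this
    exact mul_left_cancel h1
  have hsurj := Finite.surjective_of_injective hinj
  obtain ⟨x, hx⟩ := hsurj ⟨k, hk⟩
  have hx' : n * (x : G) * n⁻¹ = k := congrArg Subtype.val hx
  have : n⁻¹ * k * n = x := by rw [← hx']; group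
  rw [this]
  exact x.2

omit [Fintype F] in
/-- squares in `E8` are `±1` -/
theorem E8_sq (a b : F) (h : a * a + b * b = -1) (c : SL2 F) (hc : E8 a b h c) :
    c * c = 1 ∨ c * c = negS 1 := by
  have hn : ∀ d : SL2 F, negS d * negS d = d * d := by
    intro d
    apply Subtype.ext
    show (-d.1) * (-d.1) = d.1 * d.1
    simp
  have hxy : X a b h * Y * (X a b h * Y) = negS 1 := by
    apply Subtype.ext
    show ((X a b h * Y : SL2 F) : Matrix (Fin 2) (Fin 2) F) * ((X a b h * Y : SL2 F) :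
      Matrix (Fin 2) (Fin 2) F) = -(1 : Matrix (Fin 2) (Fin 2) F)
    rw [XY_coe]
    ext i j
    fin_cases i <;> fin_cases j <;> simp [Matrix.mul_apply, Fin.sum_univ_two]
    all_goals first | linear_combination h | linear_combination -h | ring
  rcases hc with rfl | rfl | rfl | rfl | rfl | rfl | rfl | rfl
  · left; simp
  · left; exact negS_mul_negS
  · right; exact X_mul_X a b h
  · right; rw [hn]; exact X_mul_X a b h
  · right; exact Y_mul_Y
  · right; rw [hn]; exact Y_mul_Y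
  · right; exact hxy
  · right; rw [hn]; exact hxy

section common

variable (hodd : Fintype.card F % 2 = 1) (a b : F) (h : a * a + b * b = -1)
  (Q : Sylow 2 (SL2 F)) (hX : X a b h ∈ Q) (hY : Y ∈ Q)
  (P : Sylow 2 (Sp4 F)) (hP : (P : Subgroup (Sp4 F)) = St (Q : Subgroup (SL2 F)))

include hodd hX hY

theorem hzs : ∀ x ∈ (Ht : Subgroup (Sp4 F)),
    (∀ y ∈ St (Q : Subgroup (SL2 F)), x * y * x⁻¹ * y⁻¹ ∈ Subgroup.center (Sp4 F)) →
      x = 1 ∨ x = negOne ∨ x = zt ∨ x = negOne * zt :=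
  fun x hx hc => Cfsg.Agent.Lib.Helper99_S5320_ZS.zs (two_ne_zero_of_odd hodd) a b h (Q : Subgroup (SL2 F)) hX hY
    (Cfsg.Agent.Lib.Helper42_S5320_SLCENT.comm_XY (two_ne_zero_of_odd hodd) a b h) x hx hc

include hP

theorem hscl : ∀ T : Subgroup (Sp4 F), Subgroup.center (Sp4 F) ≤ T → T ≤ St (Q : Subgroup (SL2 F)) →
    T ≠ Subgroup.center (Sp4 F) →
    (∀ t ∈ T, ∀ g : Sp4 F, g * t * g⁻¹ ∈ St (Q : Subgroup (SL2 F)) → g * t * g⁻¹ ∈ T) →
    T = St (Q : Subgroup (SL2 F)) := by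
  intro T hZT hTS hne hsc
  have h2 := two_ne_zero_of_odd hodd
  have hfin : Finite (St (Q : Subgroup (SL2 F))) := inferInstance
  have hpg : IsPGroup 2 (St (Q : Subgroup (SL2 F))) := by
    rw [← hP]; exact P.isPGroup'
  refine Cfsg.Agent.Lib.Helper86_S5320_SCL.scl h2 a b h (Q : Subgroup (SL2 F)) hX hY (hzs hodd a b h Q hX hY) (Cfsg.Agent.Lib.Helper89_S5320_FUS1.fus1 h2)
    (Cfsg.Agent.Lib.Helper42_S5320_SLGEN.gen hodd Q) (Cfsg.Agent.Lib.Helper42_S5320_SLTR.conj_of_sq hodd) ?_ T hZT hTS hne hsc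
  intro T' hZT' hTS' hne' hnorm
  refine Cfsg.Agent.Lib.Helper69_S5320_ZMEET.zmeet 2 (Subgroup.center (Sp4 F)) T' (St (Q : Subgroup (SL2 F))) hpg hZT' hTS' hne' ?_ hnorm
  intro s _ n hn
  have : (Subgroup.center (Sp4 F)).Normal := inferInstance
  exact this.conj_mem n hn s

/-- Case `16 ∣ q² - 1`: `N(St Q) = St Q`. -/
theorem main1 (h16 : 16 ∣ Fintype.card F ^ 2 - 1) :
    FusLocalFamMod (Subgroup.center (Sp4 F)) (St (Q : Subgroup (SL2 F)))
      (fun _ : Unit => St (Q : Subgroup (SL2 F))) := by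
  have h2 := two_ne_zero_of_odd hodd
  have hneg : negS 1 ∈ (Q : Subgroup (SL2 F)) := negS_one_mem a b h _ hX
  refine ⟨center_le_St _ hneg, ⟨tau, tau_mem_St _, tau_not_mem_center⟩,
    hscl hodd a b h Q hX hY P hP, ?_, ?_, ?_, ?_⟩
  · intro _
    exact ⟨center_le_St _ hneg, le_rfl⟩
  · intro _ n hn q hq
    exact hn q hq
  · intro _ c hc
    exact Cfsg.Agent.Lib.Helper2_S5320_CS.cs h2 a b h _ hX hY (hzs hodd a b h Q hX hY) (Cfsg.Agent.Lib.Helper2_S5320_CENTZ.centz h2) c hc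
  · intro n hn
    obtain ⟨c, d, hcd, hcQ, hdQ, -⟩ :=
      Cfsg.Agent.Lib.Helper99_S5320_NSH.nsh h2 a b h _ hX hY (hzs hodd a b h Q hX hY) (Cfsg.Agent.Lib.Helper2_S5320_CENTZ.centz h2) n hn
    have hc : c ∈ Q := Cfsg.Agent.Lib.Helper42_S5320_SLN1.norm1 hodd h16 Q c hcQ
    have hd : d ∈ Q := Cfsg.Agent.Lib.Helper42_S5320_SLN1.norm1 hodd h16 Q d hdQ
    have hnS : n ∈ St (Q : Subgroup (SL2 F)) := by
      rcases hcd with rfl | rfl
      · exact (blk_mem_St_iff _ c d).mpr ⟨hc, hd⟩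
      · exact (blk_mul_tau_mem_St_iff _ c d).mpr ⟨hc, hd⟩
    apply Subgroup.subset_closure
    refine ⟨hn, (), Subgroup.subset_closure ⟨1, ?_, n, hnS, by simp⟩⟩
    intro q hq
    simpa using hq

/-- Case `16 ∤ q² - 1`: `N(St Q) = St Q ⟨blk (ω, ω)⟩`, with `Rt Q`. -/
theorem main3 (h16 : ¬ 16 ∣ Fintype.card F ^ 2 - 1) :
    FusLocalFamMod (Subgroup.center (Sp4 F)) (St (Q : Subgroup (SL2 F)))
      (fun _ : Unit => Rt (Q : Subgroup (SL2 F))) := by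
  have h2 := two_ne_zero_of_odd hodd
  have hneg : negS 1 ∈ (Q : Subgroup (SL2 F)) := negS_one_mem a b h _ hX
  have hE : ∀ c : SL2 F, c ∈ Q ↔ E8 a b h c := Cfsg.Agent.Lib.Helper26_S5320_SLE8.eight hodd h16 a b h Q hX hY
  have hEc := Cfsg.Agent.Lib.Helper26_S5320_SLE8.eight_comm hodd h16 a b h Q hX hY
  have hpmE := Cfsg.Agent.Lib.Helper42_S5320_SLCENT.pm_XY h2 a b h
  have hmem := Cfsg.Agent.Lib.Helper2_S5320_RMEM.mem_Rt_iff (Q : Subgroup (SL2 F)) hneg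
  have hRS := Cfsg.Agent.Lib.Helper2_S5320_RMEM.Rt_le_St (Q : Subgroup (SL2 F)) hneg
  have hZR := Cfsg.Agent.Lib.Helper2_S5320_RMEM.center_le_Rt (Q : Subgroup (SL2 F)) hneg
  have hStR := Cfsg.Agent.Lib.Helper51_S5320_RNORM.St_normalizes_Rt (Q : Subgroup (SL2 F)) hneg hmem hEc
    (fun c hc => E8_sq a b h c ((hE c).mp hc))
  set w := om a b h h2 with hw
  -- `ω` and `ω⁻¹` normalize `Q`
  have hwQ : ∀ c ∈ (Q : Subgroup (SL2 F)), w * c * w⁻¹ ∈ (Q : Subgroup (SL2 F)) := fun c hc =>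
    (hE _).mpr (Cfsg.Agent.Lib.Helper89_S5320_SLOM.om_conj_E8 a b h h2 c ((hE c).mp hc)).1
  have hwQ' : ∀ c ∈ (Q : Subgroup (SL2 F)), w⁻¹ * c * w ∈ (Q : Subgroup (SL2 F)) := fun c hc =>
    (hE _).mpr (Cfsg.Agent.Lib.Helper89_S5320_SLOM.om_conj_E8 a b h h2 c ((hE c).mp hc)).2
  have hwkQ' : ∀ k : ℕ, ∀ c ∈ (Q : Subgroup (SL2 F)), (w ^ k)⁻¹ * c * w ^ k ∈ (Q : Subgroup (SL2 F)) := by
    intro k
    induction k with
    | zero => intro c hc; simpa using hc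
    | succ k ih =>
      intro c hc
      have := hwQ' _ (ih c hc)
      have e : (w ^ (k + 1))⁻¹ * c * w ^ (k + 1) = w⁻¹ * ((w ^ k)⁻¹ * c * w ^ k) * w := by
        rw [pow_succ]; group
      rw [e]; exact this
  obtain ⟨hwS, hwR⟩ := Cfsg.Agent.Lib.Helper89_S5320_OMN.omn (Q : Subgroup (SL2 F)) w hwQ
  -- structure of the normalizer
  have hN : ∀ n : Sp4 F, (∀ s ∈ St (Q : Subgroup (SL2 F)), n * s * n⁻¹ ∈ St (Q : Subgroup (SL2 F))) →
      ∃ k : ℕ, ∃ s ∈ St (Q : Subgroup (SL2 F)), n = blk (w, w) ^ k * s := by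
    intro n hn
    obtain ⟨c, d, hcd, hcQ, hdQ, hcdQ⟩ :=
      Cfsg.Agent.Lib.Helper99_S5320_NSH.nsh h2 a b h _ hX hY (hzs hodd a b h Q hX hY) (Cfsg.Agent.Lib.Helper2_S5320_CENTZ.centz h2) n hn
    obtain ⟨k, hk⟩ := Cfsg.Agent.Lib.Helper73_S5320_SLN3.norm3 a b h h2 Q hE hpmE (Cfsg.Agent.Lib.Helper89_S5320_SLOM.om_X a b h h2) (Cfsg.Agent.Lib.Helper89_S5320_SLOM.om_Y a b h h2) c hcQ
    -- `c = ω^k c'`, `d = ω^k d'` with `c', d' ∈ Q`
    have hd' : (w ^ k)⁻¹ * d ∈ (Q : Subgroup (SL2 F)) := by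
      have e : (w ^ k)⁻¹ * d = ((w ^ k)⁻¹ * (c * d⁻¹)⁻¹ * w ^ k) * ((w ^ k)⁻¹ * c) := by group
      rw [e]
      exact Subgroup.mul_mem _ (hwkQ' k _ (Subgroup.inv_mem _ hcdQ)) hk
    have hblk : blk (c, d) = blk (w, w) ^ k * blk ((w ^ k)⁻¹ * c, (w ^ k)⁻¹ * d) := by
      rw [← map_pow, ← map_mul]
      congr 1
      ext <;> simp
    refine ⟨k, ?_⟩
    rcases hcd with rfl | rfl
    · exact ⟨blk ((w ^ k)⁻¹ * c, (w ^ k)⁻¹ * d), (blk_mem_St_iff _ _ _).mpr ⟨hk, hd'⟩, hblk⟩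
    · refine ⟨blk ((w ^ k)⁻¹ * c, (w ^ k)⁻¹ * d) * tau, (blk_mul_tau_mem_St_iff _ _ _).mpr ⟨hk, hd'⟩, ?_⟩
      rw [hblk, mul_assoc]
  refine ⟨center_le_St _ hneg, ⟨tau, tau_mem_St _, tau_not_mem_center⟩,
    hscl hodd a b h Q hX hY P hP, ?_, ?_, ?_, ?_⟩
  · intro _
    exact ⟨hZR, hRS⟩
  · intro _ n hn q hq
    obtain ⟨k, s, hs, rfl⟩ := hN n hn
    -- `blk (ω, ω) ^ k` normalizes `Rt Q`
    have hpow : ∀ k : ℕ, ∀ r ∈ Rt (Q : Subgroup (SL2 F)),
        blk (w, w) ^ k * r * (blk (w, w) ^ k)⁻¹ ∈ Rt (Q : Subgroup (SL2 F)) := by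
      intro k
      induction k with
      | zero => intro r hr; simpa using hr
      | succ k ih =>
        intro r hr
        have := hwR _ (ih r hr)
        have e : blk (w, w) ^ (k + 1) * r * (blk (w, w) ^ (k + 1))⁻¹ =
            blk (w, w) * (blk (w, w) ^ k * r * (blk (w, w) ^ k)⁻¹) * (blk (w, w))⁻¹ := by
          rw [pow_succ']; group
        rw [e]; exact this
    have e : blk (w, w) ^ k * s * q * (blk (w, w) ^ k * s)⁻¹ =
        blk (w, w) ^ k * (s * q * s⁻¹) * (blk (w, w) ^ k)⁻¹ := by group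
    rw [e]
    exact hpow k _ (hStR s hs q hq)
  · intro _ c hc
    exact hRS (Cfsg.Agent.Lib.Helper99_S5320_RCENT.rcent h2 a b h _ hX hY hmem (Cfsg.Agent.Lib.Helper2_S5320_CENTZ.centz h2)
      (fun n h1 h2' => (hE n).mpr (hpmE n h1 h2')) c hc)
  · intro n hn
    obtain ⟨k, s, hs, rfl⟩ := hN n hn
    -- the generating set
    set Gen : Set (Sp4 F) := {x : Sp4 F | (∀ s ∈ St (Q : Subgroup (SL2 F)), x * s * x⁻¹ ∈ St (Q : Subgroup (SL2 F))) ∧
      ∃ _ : Unit, x ∈ Subgroup.closure {y : Sp4 F | ∃ m : Sp4 F,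
        (∀ q ∈ Rt (Q : Subgroup (SL2 F)), m * q * m⁻¹ ∈ Rt (Q : Subgroup (SL2 F))) ∧
        ∃ s ∈ St (Q : Subgroup (SL2 F)), y = m * s * m⁻¹}} with hGen
    have hsGen : ∀ s ∈ St (Q : Subgroup (SL2 F)), s ∈ Gen := by
      intro s hs
      refine ⟨fun t ht => Subgroup.mul_mem _ (Subgroup.mul_mem _ hs ht) (Subgroup.inv_mem _ hs), (),
        Subgroup.subset_closure ⟨1, ?_, s, hs, by simp⟩⟩
      intro q hq
      simpa using hq
    have hwGen : blk (w, w) ∈ Gen := by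
      refine ⟨hwS, (), ?_⟩
      obtain ⟨g, g', hg, hg', hid⟩ := Cfsg.Agent.Lib.Helper86_S5320_REXP.rexp h2 a b h (Q : Subgroup (SL2 F)) hE
      rw [hw, hid]
      refine Subgroup.mul_mem _ (Subgroup.subset_closure ⟨g, hg, blk (Y, X a b h), ?_, rfl⟩)
        (Subgroup.subset_closure ⟨g', hg', negOne * blk (X a b h, X a b h * Y), ?_, rfl⟩)
      · exact (blk_mem_St_iff _ _ _).mpr ⟨hY, hX⟩
      · rw [negOne_mul_blk]
        refine (blk_mem_St_iff _ _ _).mpr ⟨?_, ?_⟩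
        · rw [negS_eq]; exact Subgroup.mul_mem _ hneg hX
        · rw [negS_eq]; exact Subgroup.mul_mem _ hneg (Subgroup.mul_mem _ hX hY)
    exact Subgroup.mul_mem _ (Subgroup.pow_mem _ (Subgroup.subset_closure hwGen) k)
      (Subgroup.subset_closure (hsGen s hs))

end common

end Cfsg.Agent.Lib.Helper76_S5320_Main
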