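import Cfsg.Agent.Lib.Helper76_ShBase

/-!
# Shult's theorem: the case of nonabelian `W` (helper76)

Port of `Helper9_HigA` (helper9) to the class `IsSh`; the step `C_G(W) ≤ Om G` is argued through
the centre of `G ⧸ Om G` since the automorphisms at hand need not be transitive on involutions.
-/

set_option autoImplicit false
set_option linter.unusedSectionVars false
set_option linter.style.haveILetI false
set_option linter.unusedSimpArgs false
set_option linter.unusedVariables false

namespace Cfsg.Agent.Lib.Helper76_ShBase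

open Cfsg.Agent.Lib.Helper9_HigBase

universe u v

variable {F : Type u} [Field F] [Fintype F] [CharP F 2]
variable {K : Type v} [CommGroup K] {G : Type u} [Group G]
variable {n d : ℕ} {lam : Fˣ} {χ : K →* Fˣ} {φ : K →* MulAut G} {e : G → F}

/-- the centre of a nonabelian `W` consists of the central involutions -/
theorem IsSh.centre_W_le (h : IsSh n d lam χ φ e)
    (hW : ∃ a ∈ W G, ∃ b ∈ W G, a * b ≠ b * a)
    (v : G) (hv : v ∈ W G) (hvc : ∀ w ∈ W G, v * w = w * v) : v ∈ Om G := by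
  by_contra hvZ
  let H : Subgroup G := W G ⊓ Subgroup.centralizer (W G : Set G)
  have memH : ∀ x, x ∈ H ↔ x ∈ W G ∧ ∀ w ∈ W G, w * x = x * w := by
    intro x
    show x ∈ W G ⊓ Subgroup.centralizer (W G : Set G) ↔ _
    rw [Subgroup.mem_inf, Subgroup.mem_centralizer_iff]
    rfl
  have hH : ∀ k, ∀ x ∈ H, φ k x ∈ H := by
    intro k x hx
    rw [memH] at hx ⊢
    refine ⟨h.W_inv k x hx.1, ?_⟩
    intro w hw
    have h1 := hx.2 (φ k⁻¹ w) (h.W_inv k⁻¹ w hw)
    have h2 := congrArg (φ k) h1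
    rw [map_mul, map_mul, map_inv, MulAut.apply_inv_self] at h2
    exact h2
  have hvH : v ∈ H := by
    rw [memH]
    exact ⟨hv, fun w hw => (hvc w hw).symm⟩
  have hHab : ∀ x ∈ H, ∀ y ∈ H, x * y = y * x := by
    intro x hx y hy
    rw [memH] at hx hy
    exact (hx.2 y hy.1).symm
  have hHsq : ∀ x ∈ H, x * x ∈ Om G := fun x hx => W_sq ((memH x).mp hx).1
  obtain ⟨a, ha, b, hb, hab⟩ := hW
  obtain ⟨v', hv', hv'2⟩ := h.sq_surj_ab H hH hHab hHsq v hvH hvZ (a * a) (W_sq ha)
  rw [memH] at hv'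
  have hav' : a * v' = v' * a := hv'.2 a ha
  obtain ⟨t, ht, hat⟩ := h.eq_mul_of_sq_eq a v' hav' hv'2
  apply hab
  have hbv' : b * v' = v' * b := hv'.2 b hb
  rw [hat]
  calc t * v' * b = t * (v' * b) := by group
    _ = t * (b * v') := by rw [hbv']
    _ = (t * b) * v' := by group
    _ = (b * t) * v' := by rw [Om_comm ht b]
    _ = b * (t * v') := by group

/-- the centralizer of a nonabelian `W` consists of the central involutions -/
theorem IsSh.centralizer_W_le (h : IsSh n d lam χ φ e)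
    (hW : ∃ a ∈ W G, ∃ b ∈ W G, a * b ≠ b * a)
    (c : G) (hc : ∀ w ∈ W G, c * w = w * c) : c ∈ Om G := by
  haveI := h.fin
  haveI : Fact (Nat.Prime 2) := ⟨Nat.prime_two⟩
  by_contra hcZ
  let C : Subgroup G := Subgroup.centralizer (W G : Set G)
  have memC : ∀ x, x ∈ C ↔ ∀ w ∈ W G, w * x = x * w := fun x => Subgroup.mem_centralizer_iff
  haveI hCn : C.Normal := Subgroup.normal_centralizer
  let N : Subgroup (G ⧸ Om G) := C.map (QuotientGroup.mk' (Om G))
  haveI hNn : N.Normal := Subgroup.Normal.map hCn _ (QuotientGroup.mk'_surjective (Om G))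
  have hN : N ≠ ⊥ := by
    intro hbot
    have h1 : (c : G ⧸ Om G) ∈ N := ⟨c, (memC c).mpr (fun w hw => (hc w hw).symm), rfl⟩
    rw [hbot, Subgroup.mem_bot, QuotientGroup.eq_one_iff] at h1
    exact hcZ h1
  obtain ⟨z, hzN, hzc, hz1⟩ :=
    Cfsg.Agent.Lib.Helper32_PGroup.exists_mem_center_of_normal (h.pgroup.to_quotient (Om G)) N hN
  obtain ⟨m, hm1, hm2⟩ := exists_pow_invol (h.pgroup.to_quotient (Om G)) z hz1
  obtain ⟨c', hc'C, rfl⟩ := hzN
  have hcm : c' ^ m ∈ C := C.pow_mem hc'C m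
  have hcmW : c' ^ m ∈ W G := by
    show ((c' ^ m : G) : G ⧸ Om G) ∈ Om (G ⧸ Om G)
    refine ⟨?_, ?_⟩
    · rw [QuotientGroup.mk_pow]
      exact Subgroup.pow_mem _ hzc m
    · rw [QuotientGroup.mk_pow]
      exact hm2
  have hcmZ : c' ^ m ∉ Om G := by
    intro h0
    apply hm1
    have : ((c' ^ m : G) : G ⧸ Om G) = 1 := (QuotientGroup.eq_one_iff _).mpr h0
    rw [QuotientGroup.mk_pow] at this
    exact this
  exact hcmZ (h.centre_W_le hW (c' ^ m) hcmW
    (fun w hw => (((memC _).mp hcm) w hw).symm))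

/-- all squares are central involutions when `W` is nonabelian -/
theorem IsSh.sq_mem_of_W (h : IsSh n d lam χ φ e)
    (hW : ∃ a ∈ W G, ∃ b ∈ W G, a * b ≠ b * a) (g : G) : g * g ∈ Om G := by
  apply h.centralizer_W_le hW
  intro w hw
  have hc := W_cm hw g
  have e1 : w * g = g * w * cm w g := by
    unfold cm; group
  symm
  calc w * (g * g) = (w * g) * g := by group
    _ = (g * w * cm w g) * g := by rw [e1]
    _ = g * w * (cm w g * g) := by group
    _ = g * w * (g * cm w g) := by rw [Om_comm hc g]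
    _ = g * (w * g) * cm w g := by group
    _ = g * (g * w * cm w g) * cm w g := by rw [e1]
    _ = g * g * w * (cm w g * cm w g) := by group
    _ = g * g * w := by rw [Om_sq hc, mul_one]

theorem IsSh.center_sq_of_W (h : IsSh n d lam χ φ e)
    (hW : ∃ a ∈ W G, ∃ b ∈ W G, a * b ≠ b * a)
    (z : G) (hz : z ∈ Subgroup.center G) : z * z = 1 := by
  have hzc : ∀ g : G, g * z = z * g := Subgroup.mem_center_iff.mp hz
  have hzW : z ∈ W G := by
    rw [mem_W]
    refine ⟨h.sq_mem_of_W hW z, ?_⟩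
    intro g
    have : cm z g = 1 := by
      rw [cm_eq_one_iff]
      exact (hzc g).symm
    rw [this]
    exact (Om G).one_mem
  exact Om_sq (h.centre_W_le hW z hzW (fun w _ => (hzc w).symm))

/-- **Case A**: the conclusion when `W` is nonabelian -/
theorem IsSh.caseA (h : IsSh n d lam χ φ e) (hW : ∃ a ∈ W G, ∃ b ∈ W G, a * b ≠ b * a) :
    (∀ x : G, x * x ∈ Om G) ∧ (∀ z ∈ Subgroup.center G, z * z = 1) :=
  ⟨h.sq_mem_of_W hW, h.center_sq_of_W hW⟩

end Cfsg.Agent.Lib.Helper76_ShBase
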