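import Cfsg.Agent.Lib.Helper76_ShBase
import Cfsg.Agent.Lib.Helper76_ShPkg
import Cfsg.Agent.Lib.Helper9_HigAlg

/-!
# Shult's theorem: endomorphisms of the central involutions (helper76)

The analogue of `Helper9_HigAlg.exists_lines` in the class `IsSh`, given the field-level lines
package.
-/

set_option autoImplicit false
set_option linter.unusedSectionVars false
set_option linter.style.haveILetI false
set_option linter.unusedSimpArgs false
set_option linter.unusedVariables false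

namespace Cfsg.Agent.Lib.Helper76_ShBase

open Cfsg.Agent.Lib.Helper9_HigLP Cfsg.Agent.Lib.Helper9_HigLine Cfsg.Agent.Lib.Helper9_HigKey
open Cfsg.Agent.Lib.Helper9_HigAlg Cfsg.Agent.Lib.Helper9_HigBase Cfsg.Agent.Lib.Helper76_ShPkg

universe u v

variable {F : Type u} [Field F] [Fintype F] [CharP F 2]
variable {K : Type v} [CommGroup K] {G : Type u} [Group G]
variable {n d : ℕ} {lam : Fˣ} {χ : K →* Fˣ} {φ : K →* MulAut G} {e : G → F}

/-- the identification of the central involutions with the field -/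
noncomputable def IsSh.eZ (h : IsSh n d lam χ φ e) : Om G ≃ F :=
  Equiv.ofBijective (fun z : Om G => e z.1)
    ⟨fun x y hxy => Subtype.ext (h.e_inj x.2 y.2 hxy), fun a => by
      obtain ⟨z, hz, hza⟩ := h.e_surj a
      exact ⟨⟨z, hz⟩, hza⟩⟩

theorem IsSh.eZ_apply (h : IsSh n d lam χ φ e) (z : Om G) : h.eZ z = e z.1 := rfl

theorem IsSh.eZ_mul (h : IsSh n d lam χ φ e) (z z' : Om G) :
    h.eZ (z * z') = h.eZ z + h.eZ z' :=
  h.e_mul z.1 z.2 z'.1 z'.2

theorem IsSh.eZ_act (h : IsSh n d lam χ φ e) (k : K) (z : Om G) :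
    h.eZ (resAut φ (Om G) h.Om_inv k z) = ((χ k : Fˣ) : F) * h.eZ z :=
  h.act k z.1 z.2

theorem IsSh.exists_chi_eq (h : IsSh n d lam χ φ e) (κ : Fˣ) (hκ : κ ∈ Subgroup.zpowers lam) :
    ∃ k, χ k = κ := by
  obtain ⟨k₀, hk₀⟩ := h.hk0
  obtain ⟨j, rfl⟩ := Subgroup.mem_zpowers_iff.mp hκ
  exact ⟨k₀ ^ j, by rw [map_zpow, hk₀]⟩

/-- semiregularity relative to the multiplier character -/
def SemiRegX {Z : Type u} [CommGroup Z] (χ : K →* Fˣ) (ρ : K →* MulAut Z)
    (D : Subgroup (Z →* Z)) : Prop :=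
  ∀ k, ∀ ε ∈ D, ε ≠ 1 → cj ρ k ε = ε → χ k = 1

/-- **Structure of invariant semiregular subgroups of endomorphisms** in the class `IsSh`. -/
theorem IsSh.exists_lines (h : IsSh n d lam χ φ e) (hpk : LinesPkg n lam) :
    ∃ (L : Fin n → Subgroup (Om G →* Om G)) (i₀ : Fin n),
      (∀ i, ∀ ε ∈ L i, ε ≠ 1 → Function.Injective ε) ∧
      (∀ i, Nat.card (L i) = Nat.card (Om G)) ∧
      (∀ i, i ≠ i₀ → ∀ u : L i →* Om G, (∀ ε : L i, ε.1 (u ε) = u ε) → ∀ ε, u ε = 1) ∧
      (∀ D : Subgroup (Om G →* Om G), InvD (resAut φ (Om G) h.Om_inv) D →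
        SemiRegX χ (resAut φ (Om G) h.Om_inv) D →
        (∀ i, L i ⊓ D ≠ ⊥ → L i ≤ D) ∧
          (∀ ε ∈ D, ε ∈ Subgroup.closure {ε' | ε' ∈ D ∧ ∃ i, ε' ∈ L i})) := by
  classical
  haveI := h.fin
  have hF : Fintype.card F = 2 ^ n := h.cardF
  have hn2 : 2 ≤ n := h.hn
  have he := h.eZ_mul
  have hact := h.eZ_act
  refine ⟨Ln h.eZ he n hF, ⟨n - 1, by omega⟩, ?_, ?_, ?_, ?_⟩
  · intro i ε hε h1
    exact injective_of_mem_Ln h.eZ he n hF i ε hε h1
  · intro i
    exact card_Ln h.eZ he n hF i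
  · intro i hi u hu
    have hi1 : (i : ℕ) + 1 < n := by
      have h1 : (i : ℕ) ≠ n - 1 := fun h => hi (Fin.ext h)
      have := i.2
      omega
    let el : F → Ln h.eZ he n hF i := fun a =>
      ⟨oc h.eZ he n (Pi.single i a), (oc_mem_Ln h.eZ he n hF i _).mpr (single_mem_line n i a)⟩
    have hel : ∀ a b, el (a + b) = el a * el b := by
      intro a b
      apply Subtype.ext
      show oc h.eZ he n (Pi.single i (a + b)) =
        oc h.eZ he n (Pi.single i a) * oc h.eZ he n (Pi.single i b)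
      rw [Pi.single_add, oc_add h.eZ he n hF]
    let u' : F →+ F := AddMonoidHom.mk' (fun a => h.eZ (u (el a))) (by
      intro a b
      show h.eZ (u (el (a + b))) = h.eZ (u (el a)) + h.eZ (u (el b))
      rw [hel, map_mul, he])
    have hu' : ∀ c : F, c * (u' c) ^ 2 ^ (i : ℕ) = u' c := by
      intro c
      have h1 := hu (el c)
      have h2 : h.eZ ((el c).1 (u (el c))) = c * (h.eZ (u (el c))) ^ 2 ^ (i : ℕ) := by
        show h.eZ (oc h.eZ he n (Pi.single i c) (u (el c))) = _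
        rw [oc, un_apply, Equiv.apply_symm_apply, lin_single]
      show c * (h.eZ (u (el c))) ^ 2 ^ (i : ℕ) = h.eZ (u (el c))
      rw [← h2, h1]
    have h0 := fixed_trivial n hF (i : ℕ) hi1 u' hu'
    intro ε
    have h1 : ε = el (co h.eZ he n hF ε.1 i) := by
      apply Subtype.ext
      show ε.1 = oc h.eZ he n (Pi.single i (co h.eZ he n hF ε.1 i))
      rw [← eq_single_of_mem_line n i _ ε.2, oc_co]
    have h2 : u' (co h.eZ he n hF ε.1 i) = 0 := by rw [h0]; rfl
    have h3 : h.eZ (u ε) = 0 := by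
      rw [h1]
      exact h2
    apply h.eZ.injective
    rw [h3, Cfsg.Agent.Lib.Helper9_HigAlg.e_one h.eZ he]
  · intro D hD hsr
    set ρ := resAut φ (Om G) h.Om_inv with hρ
    obtain ⟨k₀, hk₀⟩ := h.hk0
    have hDi : InvC n lam (tD h.eZ he n hF D) := by
      intro c hc
      have h1 : T n lam c = co h.eZ he n hF (cj ρ k₀ (oc h.eZ he n c)) := by
        rw [co_cj h.eZ he n hF ρ χ hact, co_oc, hk₀]
      rw [h1, co_mem_tD]
      exact hD k₀ _ hc
    have hDs : SemiRegC n lam (tD h.eZ he n hF D) := by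
      intro κ hκ c hc hc0 hfix
      obtain ⟨k, rfl⟩ := h.exists_chi_eq κ hκ
      have h1 : T n (χ k) c = co h.eZ he n hF (cj ρ k (oc h.eZ he n c)) := by
        rw [co_cj h.eZ he n hF ρ χ hact, co_oc]
      have h2 : cj ρ k (oc h.eZ he n c) = oc h.eZ he n c := by
        apply co_injective h.eZ he n hF
        rw [← h1, hfix, co_oc]
      have h3 : oc h.eZ he n c ≠ 1 := by
        intro h'
        apply hc0
        rw [← co_oc h.eZ he n hF c, h', co_one]
      exact hsr k _ hc h3 h2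
    obtain ⟨hsingle, hline⟩ := hpk _ hDi hDs
    constructor
    · intro i hne
      obtain ⟨ε, hε, hε1⟩ : ∃ ε ∈ Ln h.eZ he n hF i ⊓ D, ε ≠ 1 := by
        by_contra hcon
        push Not at hcon
        apply hne
        rw [eq_bot_iff]
        intro ε hε
        rw [Subgroup.mem_bot]
        exact hcon ε hε
      have hl : line n i ⊓ tD h.eZ he n hF D ≠ ⊥ := by
        intro hbot
        have h1 : co h.eZ he n hF ε ∈ line n i ⊓ tD h.eZ he n hF D :=
          ⟨hε.1, (co_mem_tD h.eZ he n hF D ε).mpr hε.2⟩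
        rw [hbot, AddSubgroup.mem_bot] at h1
        exact hε1 ((co_eq_zero h.eZ he n hF ε).mp h1)
      have hle := hline i hl
      intro ε' hε'
      exact (co_mem_tD h.eZ he n hF D ε').mp (hle hε')
    · intro ε hε
      have hc : co h.eZ he n hF ε ∈ tD h.eZ he n hF D := (co_mem_tD h.eZ he n hF D ε).mpr hε
      have h1 : ε = ∏ t : Fin n, oc h.eZ he n (Pi.single t (co h.eZ he n hF ε t)) := by
        rw [← oc_sum h.eZ he n hF, Finset.univ_sum_single, oc_co]
      rw [h1]
      apply Subgroup.prod_mem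
      intro t _
      apply Subgroup.subset_closure
      refine ⟨?_, t, ?_⟩
      · exact hsingle _ hc t
      · exact (oc_mem_Ln h.eZ he n hF t _).mpr (single_mem_line n t _)

end Cfsg.Agent.Lib.Helper76_ShBase
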