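import Cfsg.Agent.Lib.Helper9_HigA
import Cfsg.Agent.Lib.Helper9_HigAlg

/-!
# Higman's theorem: `W` abelian and not central is impossible (helper9)
-/

set_option autoImplicit false
set_option linter.unusedSectionVars false
set_option linter.style.haveILetI false
set_option linter.unusedSimpArgs false
set_option linter.unusedVariables false

namespace Cfsg.Agent.Lib.Helper9_HigBase

open Cfsg.Agent.Lib.Helper9_HigAlg Cfsg.Agent.Lib.Helper9_HigField

universe u v

variable {K : Type v} [CommGroup K] {G : Type u} [Group G] {φ : K →* MulAut G}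

section Eps

variable (h : IsHig φ) (hWab : ∀ a ∈ W G, ∀ b ∈ W G, a * b = b * a)
  (hsurj : ∀ z ∈ Om G, ∃ w ∈ W G, w * w = z)

/-- a square root in `W` of a central involution -/
noncomputable def rt (hsurj : ∀ z ∈ Om G, ∃ w ∈ W G, w * w = z) (z : Om G) : G :=
  Classical.choose (hsurj z.1 z.2)

theorem rt_mem (z : Om G) : rt hsurj z ∈ W G := (Classical.choose_spec (hsurj z.1 z.2)).1

theorem rt_sq (z : Om G) : rt hsurj z * rt hsurj z = z.1 :=
  (Classical.choose_spec (hsurj z.1 z.2)).2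

include h hWab

theorem cm_eq_of_sq_eq (w w' : G) (hw : w ∈ W G) (hw' : w' ∈ W G) (hsq : w * w = w' * w')
    (x : G) : cm w x = cm w' x := by
  obtain ⟨t, ht, hwt⟩ := h.eq_mul_of_sq_eq w w' (hWab w hw w' hw') hsq.symm
  have ht1 : cm t x = 1 := by
    rw [cm_eq_one_iff]
    exact (Om_comm ht x).symm
  rw [hwt, cm_mul_left_of_mem (by rw [ht1]; exact (Om G).one_mem), ht1, one_mul]

theorem cm_rt (w : G) (hw : w ∈ W G) (x : G) :
    cm (rt hsurj ⟨w * w, W_sq hw⟩) x = cm w x :=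
  cm_eq_of_sq_eq h hWab _ _ (rt_mem hsurj _) hw (rt_sq hsurj _) x

/-- the endomorphism `w² ↦ [w, x]` of the central involutions -/
noncomputable def eps (x : G) : Om G →* Om G where
  toFun z := ⟨cm (rt hsurj z) x, W_cm (rt_mem hsurj z) x⟩
  map_one' := by
    apply Subtype.ext
    show cm (rt hsurj 1) x = 1
    have h1 := cm_eq_of_sq_eq h hWab (rt hsurj 1) 1 (rt_mem hsurj 1) (W G).one_mem
      (by rw [rt_sq, mul_one]; rfl) x
    rw [h1, cm_one_left]
  map_mul' := by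
    intro z z'
    apply Subtype.ext
    show cm (rt hsurj (z * z')) x = cm (rt hsurj z) x * cm (rt hsurj z') x
    have hm : rt hsurj z * rt hsurj z' ∈ W G := (W G).mul_mem (rt_mem hsurj z) (rt_mem hsurj z')
    have hsq : rt hsurj (z * z') * rt hsurj (z * z') =
        rt hsurj z * rt hsurj z' * (rt hsurj z * rt hsurj z') := by
      rw [rt_sq]
      have hc := hWab _ (rt_mem hsurj z) _ (rt_mem hsurj z')
      calc ((z * z' : Om G) : G) = z.1 * z'.1 := rfl
        _ = rt hsurj z * rt hsurj z * (rt hsurj z' * rt hsurj z') := by rw [rt_sq, rt_sq]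
        _ = rt hsurj z * (rt hsurj z * rt hsurj z') * rt hsurj z' := by group
        _ = rt hsurj z * (rt hsurj z' * rt hsurj z) * rt hsurj z' := by rw [hc]
        _ = rt hsurj z * rt hsurj z' * (rt hsurj z * rt hsurj z') := by group
    rw [cm_eq_of_sq_eq h hWab _ _ (rt_mem hsurj _) hm hsq x,
      cm_mul_left_of_mem (W_cm (rt_mem hsurj z) x)]

theorem eps_apply (x : G) (z : Om G) :
    ((eps h hWab hsurj x z : Om G) : G) = cm (rt hsurj z) x := rfl

theorem eps_sq (x : G) (w : G) (hw : w ∈ W G) :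
    ((eps h hWab hsurj x ⟨w * w, W_sq hw⟩ : Om G) : G) = cm w x := by
  rw [eps_apply, cm_rt h hWab hsurj w hw]

/-- `x ↦ eps x` as a homomorphism into the pointwise group -/
noncomputable def epsHom : G →* (Om G →* Om G) where
  toFun := eps h hWab hsurj
  map_one' := by
    ext z
    rw [eps_apply, cm_one_right]
    rfl
  map_mul' := by
    intro x y
    ext z
    rw [MonoidHom.mul_apply, Subgroup.coe_mul, eps_apply, eps_apply, eps_apply,
      cm_mul_right_of_mem (W_cm (rt_mem hsurj z) x)]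

theorem epsHom_apply (x : G) (z : Om G) :
    ((epsHom h hWab hsurj x z : Om G) : G) = cm (rt hsurj z) x := rfl

theorem epsHom_sq (x : G) (w : G) (hw : w ∈ W G) :
    ((epsHom h hWab hsurj x ⟨w * w, W_sq hw⟩ : Om G) : G) = cm w x :=
  eps_sq h hWab hsurj x w hw

theorem epsHom_eq_one_iff (x : G) :
    epsHom h hWab hsurj x = 1 ↔ ∀ w ∈ W G, w * x = x * w := by
  constructor
  · intro hx w hw
    have h1 := epsHom_sq h hWab hsurj x w hw
    rw [hx] at h1
    have h2 : cm w x = 1 := h1.symm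
    exact (cm_eq_one_iff w x).mp h2
  · intro hx
    ext z
    rw [epsHom_apply]
    have := (cm_eq_one_iff _ _).mpr (hx _ (rt_mem hsurj z))
    rw [this]
    rfl

theorem epsHom_cj (k : K) (x : G) :
    cj (resAut φ (Om G) h.Om_inv) k (epsHom h hWab hsurj x) = epsHom h hWab hsurj (φ k x) := by
  ext z
  rw [cj_apply, resAut_apply, epsHom_apply, epsHom_apply, h.cm_map]
  apply cm_eq_of_sq_eq h hWab
  · exact h.W_inv k _ (rt_mem hsurj _)
  · exact rt_mem hsurj z
  · rw [← map_mul, rt_sq, rt_sq, resAut_apply, map_inv, MulAut.apply_inv_self]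

/-! ### consequences of injectivity -/

theorem inj_W (x : G) (hinj : Function.Injective (epsHom h hWab hsurj x)) (w : G) (hw : w ∈ W G)
    (hwx : w * x = x * w) : w ∈ Om G := by
  have h1 := epsHom_sq h hWab hsurj x w hw
  rw [(cm_eq_one_iff w x).mpr hwx] at h1
  have h2 : epsHom h hWab hsurj x ⟨w * w, W_sq hw⟩ = epsHom h hWab hsurj x 1 := by
    rw [map_one]
    exact Subtype.ext h1
  have h3 := hinj h2
  rw [h.mem_Om_iff]
  exact congrArg Subtype.val h3

theorem inj_C (x : G) (hinj : Function.Injective (epsHom h hWab hsurj x)) (c : G)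
    (hc : ∀ w ∈ W G, w * c = c * w) (hcx : c * x = x * c) : c ∈ Om G := by
  haveI := h.fin
  by_contra hcZ
  obtain ⟨m, hm1, hm2⟩ := exists_pow_not_mem h.pgroup (Om G) c hcZ
  have hcm : ∀ w ∈ W G, c ^ m * w = w * c ^ m := by
    intro w hw
    exact ((Commute.pow_left ((hc w hw).symm : Commute c w) m) : Commute (c ^ m) w)
  obtain ⟨w, hw, hw2⟩ := hsurj _ hm2
  obtain ⟨t, ht, hct⟩ := h.eq_mul_of_sq_eq (c ^ m) w (hcm w hw) hw2
  have hcW : c ^ m ∈ W G := by
    rw [hct]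
    exact (W G).mul_mem (Om_le_W ht) hw
  have hcmx : c ^ m * x = x * c ^ m :=
    ((Commute.pow_left (hcx : Commute c x) m) : Commute (c ^ m) x)
  exact hm1 (inj_W h hWab hsurj x hinj (c ^ m) hcW hcmx)

theorem epsHom_mul_self (x : G) : epsHom h hWab hsurj (x * x) = 1 := by
  ext z
  rw [map_mul, MonoidHom.mul_apply, Subgroup.coe_mul]
  exact Om_sq (epsHom h hWab hsurj x z).2

theorem inj_sq (x : G) (hinj : Function.Injective (epsHom h hWab hsurj x)) : x * x ∈ Om G := by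
  apply inj_C h hWab hsurj x hinj (x * x)
  · exact (epsHom_eq_one_iff h hWab hsurj (x * x)).mp (epsHom_mul_self h hWab hsurj x)
  · group

omit h hWab hsurj in
theorem conj_mem_centralizer_W (c x : G) (hc : ∀ w ∈ W G, w * c = c * w) :
    ∀ w ∈ W G, w * (x⁻¹ * c * x) = (x⁻¹ * c * x) * w := by
  intro w hw
  have hw' : x * w * x⁻¹ ∈ W G := W_normal.conj_mem w hw x
  have h1 := hc _ hw'
  calc w * (x⁻¹ * c * x) = x⁻¹ * ((x * w * x⁻¹) * c) * x := by group
    _ = x⁻¹ * (c * (x * w * x⁻¹)) * x := by rw [h1]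
    _ = (x⁻¹ * c * x) * w := by group

theorem inj_inv (hCab : ∀ a b : G, (∀ w ∈ W G, w * a = a * w) → (∀ w ∈ W G, w * b = b * w) →
      a * b = b * a)
    (x : G) (hinj : Function.Injective (epsHom h hWab hsurj x)) (c : G)
    (hc : ∀ w ∈ W G, w * c = c * w) : c * (x⁻¹ * c * x) ∈ Om G := by
  have hc' := conj_mem_centralizer_W c x hc
  have hxx := inj_sq h hWab hsurj x hinj
  apply inj_C h hWab hsurj x hinj
  · intro w hw
    calc w * (c * (x⁻¹ * c * x)) = (w * c) * (x⁻¹ * c * x) := by group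
      _ = (c * w) * (x⁻¹ * c * x) := by rw [hc w hw]
      _ = c * (w * (x⁻¹ * c * x)) := by group
      _ = c * ((x⁻¹ * c * x) * w) := by rw [hc' w hw]
      _ = c * (x⁻¹ * c * x) * w := by group
  · have hcomm := hCab c (x⁻¹ * c * x) hc hc'
    have h2 : x⁻¹ * (x⁻¹ * c * x) * x = c := by
      have e1 : x⁻¹ * (x⁻¹ * c * x) * x = (x * x)⁻¹ * c * (x * x) := by group
      rw [e1, mul_assoc, Om_comm hxx c]
      group
    have h3 : x⁻¹ * (c * (x⁻¹ * c * x)) * x = c * (x⁻¹ * c * x) := by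
      calc x⁻¹ * (c * (x⁻¹ * c * x)) * x = (x⁻¹ * c * x) * (x⁻¹ * (x⁻¹ * c * x) * x) := by group
        _ = (x⁻¹ * c * x) * c := by rw [h2]
        _ = c * (x⁻¹ * c * x) := hcomm.symm
    calc c * (x⁻¹ * c * x) * x = x * (x⁻¹ * (c * (x⁻¹ * c * x)) * x) := by group
      _ = x * (c * (x⁻¹ * c * x)) := by rw [h3]

/-- if three suitable elements invert the centralizer of `W` modulo the central involutions, it
has exponent two modulo them -/
theorem C_sq_mem (hCab : ∀ a b : G, (∀ w ∈ W G, w * a = a * w) → (∀ w ∈ W G, w * b = b * w) →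
      a * b = b * a)
    (x₁ x₂ : G) (h1 : Function.Injective (epsHom h hWab hsurj x₁))
    (h2 : Function.Injective (epsHom h hWab hsurj x₂))
    (h3 : Function.Injective (epsHom h hWab hsurj (x₁ * x₂))) (c : G)
    (hc : ∀ w ∈ W G, w * c = c * w) : c * c ∈ Om G := by
  have t1 := inj_inv h hWab hsurj hCab x₁ h1 c hc
  have t2 := inj_inv h hWab hsurj hCab x₂ h2 c hc
  have t3 := inj_inv h hWab hsurj hCab (x₁ * x₂) h3 c hc
  set T1 := c * (x₁⁻¹ * c * x₁) with hT1
  set T2 := c * (x₂⁻¹ * c * x₂) with hT2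
  set T3 := c * ((x₁ * x₂)⁻¹ * c * (x₁ * x₂)) with hT3
  have e1 : x₁⁻¹ * c * x₁ = c⁻¹ * T1 := by rw [hT1]; group
  have e2 : x₂⁻¹ * c⁻¹ * x₂ = T2⁻¹ * c := by rw [hT2]; group
  have e3 : T3 = c * c * (T2⁻¹ * T1) := by
    have : (x₁ * x₂)⁻¹ * c * (x₁ * x₂) = x₂⁻¹ * (x₁⁻¹ * c * x₁) * x₂ := by group
    rw [hT3, this, e1]
    have e4 : x₂⁻¹ * (c⁻¹ * T1) * x₂ = (x₂⁻¹ * c⁻¹ * x₂) * (x₂⁻¹ * T1 * x₂) := by group
    have e5 : x₂⁻¹ * T1 * x₂ = T1 := by
      have : x₂⁻¹ * T1 * x₂ = x₂⁻¹ * (T1 * x₂) := by group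
      rw [this, ← Om_comm t1 x₂]
      group
    rw [e4, e5, e2]
    have e6 : T2⁻¹ * c = c * T2⁻¹ := Om_comm ((Om G).inv_mem t2) c |>.symm
    rw [e6]
    group
  have e7 : c * c = T3 * (T2⁻¹ * T1)⁻¹ := by rw [e3]; group
  rw [e7]
  exact (Om G).mul_mem t3 ((Om G).inv_mem ((Om G).mul_mem ((Om G).inv_mem t2) t1))

end Eps

/-- **Case B1**: `W` abelian with an abelian centralizer different from `G` is impossible -/
theorem IsHig.caseB1 (h : IsHig φ) (hK : ∃ k : K, k ≠ 1)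
    (hWab : ∀ a ∈ W G, ∀ b ∈ W G, a * b = b * a)
    (hWne : ∃ w ∈ W G, w ∉ Om G)
    (hCab : ∀ a b : G, (∀ w ∈ W G, w * a = a * w) → (∀ w ∈ W G, w * b = b * w) → a * b = b * a)
    (hCne : ∃ x : G, ¬ ∀ w ∈ W G, w * x = x * w) : False := by
  classical
  haveI := h.fin
  obtain ⟨w₀, hw₀, hw₀Z⟩ := hWne
  have hsurj : ∀ z ∈ Om G, ∃ w ∈ W G, w * w = z :=
    h.sq_surj (W G) h.W_inv w₀ hw₀ (W_sq hw₀) hw₀Z
  let Φ := epsHom h hWab hsurj
  let ρ := resAut φ (Om G) h.Om_inv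
  have h4 : 4 ≤ Nat.card (Om G) := by
    obtain ⟨n, a, hn, hq, -, -⟩ := h.exists_exponents hK
    rw [hq]
    calc 4 = 2 ^ 2 := by norm_num
      _ ≤ 2 ^ n := Nat.pow_le_pow_right (by norm_num) hn
  obtain ⟨n, L, i₀, hL1, hL5, hL3, hLD⟩ := exists_lines ρ h.regOm h4
  have hDinv : InvD ρ Φ.range := by
    rintro k _ ⟨x, rfl⟩
    exact ⟨φ k x, (epsHom_cj h hWab hsurj k x).symm⟩
  have hker : ∀ x, Φ x = 1 ↔ ∀ w ∈ W G, w * x = x * w := epsHom_eq_one_iff h hWab hsurj
  have hDsr : SemiRegD ρ Φ.range := by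
    rintro k _ ⟨x, rfl⟩ hx1 hfix
    by_contra hk
    rw [epsHom_cj] at hfix
    have h1 : Φ (x⁻¹ * φ k x) = 1 := by
      rw [map_mul, map_inv]
      show (Φ x)⁻¹ * epsHom h hWab hsurj (φ k x) = 1
      rw [hfix]
      exact inv_mul_cancel _
    have hCinv : ∀ c ∈ Subgroup.centralizer (W G : Set G),
        φ k c ∈ Subgroup.centralizer (W G : Set G) := by
      intro c hc
      rw [Subgroup.mem_centralizer_iff] at hc ⊢
      intro w hw
      have h3 := hc (φ k⁻¹ w) (h.W_inv k⁻¹ w hw)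
      have h4 := congrArg (φ k) h3
      rwa [map_mul, map_mul, map_inv, MulAut.apply_inv_self] at h4
    have h2 := h.coset_fix k hk (Subgroup.centralizer (W G : Set G)) hCinv x (by
      rw [Subgroup.mem_centralizer_iff]
      exact (hker _).mp h1)
    apply hx1
    rw [hker]
    exact fun w hw => Subgroup.mem_centralizer_iff.mp h2 w hw
  obtain ⟨hL4, hL2⟩ := hLD Φ.range hDinv hDsr
  -- generation principle
  have hgen : ∀ T : Subgroup G, (∀ g, Φ g = 1 → g ∈ T) → (∀ g i, Φ g ∈ L i → g ∈ T) →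
      ∀ g, g ∈ T := by
    intro T hT1 hT2 g
    have h1 : Φ g ∈ Subgroup.closure {ε' | ε' ∈ Φ.range ∧ ∃ i, ε' ∈ L i} := hL2 _ ⟨g, rfl⟩
    have h2 : Subgroup.closure {ε' | ε' ∈ Φ.range ∧ ∃ i, ε' ∈ L i} ≤ T.map Φ := by
      rw [Subgroup.closure_le]
      rintro _ ⟨⟨y, rfl⟩, i, hi⟩
      exact ⟨y, hT2 y i hi, rfl⟩
    obtain ⟨g', hg', hgg'⟩ := h2 h1
    have h3 : Φ (g'⁻¹ * g) = 1 := by rw [map_mul, map_inv, hgg', inv_mul_cancel]
    have : g = g' * (g'⁻¹ * g) := by group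
    rw [this]
    exact T.mul_mem hg' (hT1 _ h3)
  obtain ⟨x₀, hx₀⟩ := hCne
  have hx₀1 : Φ x₀ ≠ 1 := fun h0 => hx₀ ((hker x₀).mp h0)
  obtain ⟨i₁, hi₁⟩ : ∃ i, L i ⊓ Φ.range ≠ ⊥ := by
    by_contra hcon
    push Not at hcon
    apply hx₀1
    have := hgen Φ.ker (fun g hg => hg) (fun g i hi => by
      have h1 : Φ g ∈ L i ⊓ Φ.range := ⟨hi, g, rfl⟩
      rw [hcon i, Subgroup.mem_bot] at h1
      exact h1) x₀
    exact this
  have hLle := hL4 i₁ hi₁
  haveI : Finite (L i₁) := Nat.finite_of_card_ne_zero (by rw [hL5]; omega)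
  have h3lt : 2 < Nat.card (L i₁) := by rw [hL5]; omega
  obtain ⟨ε₁, ε₂, hε₁, hε₂, hε₁₂⟩ : ∃ ε₁ ε₂ : L i₁, ε₁ ≠ 1 ∧ ε₂ ≠ 1 ∧ ε₁ ≠ ε₂ := by
    haveI : Fintype (L i₁) := Fintype.ofFinite _
    rw [Nat.card_eq_fintype_card, Fintype.two_lt_card_iff] at h3lt
    obtain ⟨a, b, c, hab, hac, hbc⟩ := h3lt
    by_cases ha : a = 1
    · refine ⟨b, c, ?_, ?_, hbc⟩
      · rw [← ha]; exact hab.symm
      · rw [← ha]; exact hac.symm
    · by_cases hb : b = 1
      · refine ⟨a, c, ha, ?_, hac⟩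
        rw [← hb]; exact hbc.symm
      · exact ⟨a, b, ha, hb, hab⟩
  obtain ⟨x₁, hx₁⟩ := hLle ε₁.2
  obtain ⟨x₂, hx₂⟩ := hLle ε₂.2
  have hinj1 : Function.Injective (Φ x₁) := by
    rw [hx₁]
    exact hL1 i₁ ε₁.1 ε₁.2 (fun h0 => hε₁ (Subtype.ext h0))
  have hinj2 : Function.Injective (Φ x₂) := by
    rw [hx₂]
    exact hL1 i₁ ε₂.1 ε₂.2 (fun h0 => hε₂ (Subtype.ext h0))
  have hinj3 : Function.Injective (Φ (x₁ * x₂)) := by
    rw [map_mul, hx₁, hx₂]
    apply hL1 i₁ _ ((L i₁).mul_mem ε₁.2 ε₂.2)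
    intro h0
    apply hε₁₂
    apply Subtype.ext
    have hsq : ε₂.1 * ε₂.1 = 1 := by
      ext z
      rw [MonoidHom.mul_apply, Subgroup.coe_mul]
      exact Om_sq (ε₂.1 z).2
    calc ε₁.1 = ε₁.1 * (ε₂.1 * ε₂.1) := by rw [hsq, mul_one]
      _ = (ε₁.1 * ε₂.1) * ε₂.1 := by group
      _ = ε₂.1 := by rw [h0, one_mul]
  have hCW : ∀ c, (∀ w ∈ W G, w * c = c * w) → c ∈ W G := by
    intro c hc
    have hcc := C_sq_mem h hWab hsurj hCab x₁ x₂ hinj1 hinj2 hinj3 c hc
    obtain ⟨w, hw, hw2⟩ := hsurj _ hcc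
    obtain ⟨t, ht, hct⟩ := h.eq_mul_of_sq_eq c w (hc w hw).symm hw2
    rw [hct]
    exact (W G).mul_mem (Om_le_W ht) hw
  have hker1 : ∀ g, Φ g = 1 → g ∈ W G := fun g hg => hCW g ((hker g).mp hg)
  have hsqL : ∀ x i, Φ x ∈ L i → x * x ∈ Om G := by
    intro x i hi
    by_cases hx1 : Φ x = 1
    · exact W_sq (hker1 x hx1)
    · exact inj_sq h hWab hsurj x (hL1 i _ hi hx1)
  have hcmW : ∀ x y : G, cm x y ∈ W G := by
    intro x y
    apply hker1
    rw [map_cm, cm_eq_one_iff]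
    exact mul_comm _ _
  -- lines other than the exceptional one lie in `W`
  have hα : ∀ i, i ≠ i₀ → ∀ x, Φ x ∈ L i → x ∈ W G := by
    intro i hi x hx
    by_cases hbot : L i ⊓ Φ.range = ⊥
    · apply hker1
      have h1 : Φ x ∈ L i ⊓ Φ.range := ⟨hx, x, rfl⟩
      rw [hbot, Subgroup.mem_bot] at h1
      exact h1
    have hLi := hL4 i hbot
    rw [mem_W]
    refine ⟨hsqL x i hx, ?_⟩
    intro y
    let M : Subgroup G := (L i).comap Φ
    let ΦM : M →* L i := (Φ.comp M.subtype).codRestrict (L i) (fun m => m.2)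
    have hΦMs : Function.Surjective ΦM := by
      intro ε
      obtain ⟨m, hm⟩ := hLi ε.2
      have hmM : m ∈ M := by
        show Φ m ∈ L i
        rw [hm]
        exact ε.2
      exact ⟨⟨m, hmM⟩, Subtype.ext hm⟩
    let u : M →* Om G := MonoidHom.mk' (fun m => ⟨cm m.1 y * cm m.1 y, W_sq (hcmW m.1 y)⟩) (by
      intro m m'
      apply Subtype.ext
      show cm (m.1 * m'.1) y * cm (m.1 * m'.1) y =
        (cm m.1 y * cm m.1 y) * (cm m'.1 y * cm m'.1 y)
      have hb1 := hcmW m.1 y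
      have hb2 := hcmW m'.1 y
      have ht := W_cm hb1 m'.1
      have e1 : cm (m.1 * m'.1) y = cm m.1 y * cm (cm m.1 y) m'.1 * cm m'.1 y := by
        rw [cm_mul_left, conj_eq_mul_cm]
      rw [e1]
      have hbb : cm m.1 y * cm m'.1 y = cm m'.1 y * cm m.1 y := hWab _ hb1 _ hb2
      generalize cm m.1 y = b₁ at *
      generalize cm m'.1 y = b₂ at *
      generalize cm b₁ m'.1 = t at *
      have e2 : b₁ * t = t * b₁ := Om_comm ht b₁
      have e3 : b₁ * b₂ * t = t * (b₁ * b₂) := Om_comm ht (b₁ * b₂)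
      calc b₁ * t * b₂ * (b₁ * t * b₂) = (b₁ * t) * b₂ * ((b₁ * t) * b₂) := by group
        _ = (t * b₁) * b₂ * ((t * b₁) * b₂) := by rw [e2]
        _ = t * (b₁ * b₂ * t) * (b₁ * b₂) := by group
        _ = t * (t * (b₁ * b₂)) * (b₁ * b₂) := by rw [e3]
        _ = (t * t) * b₁ * (b₂ * b₁) * b₂ := by group
        _ = (t * t) * b₁ * (b₁ * b₂) * b₂ := by rw [hbb]
        _ = b₁ * b₁ * (b₂ * b₂) := by rw [Om_sq ht]; group)
    have hkeru : ΦM.ker ≤ u.ker := by
      intro m hm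
      rw [MonoidHom.mem_ker] at hm ⊢
      have h1 : Φ m.1 = 1 := congrArg Subtype.val hm
      have h2 := hker1 m.1 h1
      apply Subtype.ext
      show cm m.1 y * cm m.1 y = 1
      exact Om_sq (W_cm h2 y)
    let ū : L i →* Om G := ΦM.liftOfRightInverse (Function.surjInv hΦMs)
      (Function.rightInverse_surjInv hΦMs) ⟨u, hkeru⟩
    have hū : ∀ m : M, ū (ΦM m) = u m := fun m =>
      MonoidHom.liftOfRightInverse_comp_apply _ _ _ _ m
    have hfix : ∀ ε : L i, ε.1 (ū ε) = ū ε := by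
      intro ε
      obtain ⟨m, rfl⟩ := hΦMs ε
      rw [hū]
      show Φ m.1 (u m) = u m
      apply Subtype.ext
      have hb := hcmW m.1 y
      have hum : u m = ⟨cm m.1 y * cm m.1 y, W_sq hb⟩ := rfl
      rw [hum, epsHom_sq h hWab hsurj m.1 _ hb]
      show cm (cm m.1 y) m.1 = cm m.1 y * cm m.1 y
      have hmm := hsqL m.1 i m.2
      have hconj : m.1 * cm m.1 y = y⁻¹ * m.1 * y := (conj_eq_mul_cm m.1 y).symm
      generalize cm m.1 y = b at *
      have e1 : m.1 * b * (m.1 * b) = m.1 * m.1 := by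
        rw [hconj]
        calc y⁻¹ * m.1 * y * (y⁻¹ * m.1 * y) = y⁻¹ * ((m.1 * m.1) * y) := by group
          _ = y⁻¹ * (y * (m.1 * m.1)) := by rw [Om_comm hmm y]
          _ = m.1 * m.1 := by group
      have e2 : b * m.1 = m.1 * b⁻¹ := by
        have e3 : b * m.1 * b = m.1 := by
          have : m.1 * (b * m.1 * b) = m.1 * m.1 := by
            rw [← e1]
            group
          exact mul_left_cancel this
        calc b * m.1 = (b * m.1 * b) * b⁻¹ := by group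
          _ = m.1 * b⁻¹ := by rw [e3]
      calc cm b m.1 = b⁻¹ * m.1⁻¹ * (b * m.1) := by unfold cm; group
        _ = b⁻¹ * m.1⁻¹ * (m.1 * b⁻¹) := by rw [e2]
        _ = (b * b)⁻¹ := by group
        _ = b * b := Om_inv_eq (W_sq hb)
    have hall := hL3 i hi ū hfix
    have hx' : x ∈ M := hx
    have h1 := hall (ΦM ⟨x, hx'⟩)
    rw [hū] at h1
    have h2 : cm x y * cm x y = 1 := congrArg Subtype.val h1
    exact (h.mem_Om_iff _).mpr h2
  -- the exceptional line
  have hβ : ∀ x y, Φ x ∈ L i₀ → Φ y ∈ L i₀ → cm x y ∈ Om G := by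
    intro x y hx hy
    have hxx := hsqL x i₀ hx
    have hyy := hsqL y i₀ hy
    have hxy := hsqL (x * y) i₀ (by rw [map_mul]; exact (L i₀).mul_mem hx hy)
    have e1 : cm x y = (x * x)⁻¹ * (x * (y * y)⁻¹) * (y * x * y) := by
      unfold cm; group
    rw [e1, Om_comm ((Om G).inv_mem hyy) x]
    have e2 : (x * x)⁻¹ * ((y * y)⁻¹ * x) * (y * x * y) =
        (x * x)⁻¹ * (y * y)⁻¹ * (x * y * (x * y)) := by group
    rw [e2]
    exact (Om G).mul_mem ((Om G).mul_mem ((Om G).inv_mem hxx) ((Om G).inv_mem hyy)) hxy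
  have hγ : ∀ x, Φ x ∈ L i₀ → x ∈ W G := by
    intro x hx
    rw [mem_W]
    refine ⟨hsqL x i₀ hx, ?_⟩
    let T : Subgroup G :=
      { carrier := {g | cm x g ∈ Om G}
        one_mem' := by
          show cm x 1 ∈ Om G
          rw [cm_one_right]
          exact (Om G).one_mem
        mul_mem' := by
          intro a b ha hb
          show cm x (a * b) ∈ Om G
          rw [cm_mul_right_of_mem ha]
          exact (Om G).mul_mem ha hb
        inv_mem' := by
          intro a ha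
          show cm x a⁻¹ ∈ Om G
          rw [cm_inv_right]
          exact Om_normal.conj_mem _ ((Om G).inv_mem ha) a }
    exact hgen T (fun g hg => W_cm' (hker1 g hg) x) (fun g i hi => by
      by_cases hii : i = i₀
      · rw [hii] at hi
        exact hβ x g hx hi
      · exact W_cm' (hα i hii g hi) x)
  have hall : ∀ g, g ∈ W G := hgen (W G) hker1 (fun g i hi => by
    by_cases hii : i = i₀
    · rw [hii] at hi
      exact hγ g hi
    · exact hα i hii g hi)
  apply hx₀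
  intro w hw
  exact hWab w hw x₀ (hall x₀)

end Cfsg.Agent.Lib.Helper9_HigBase
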