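import Cfsg.Agent.Lib.Helper9_HigW
import Cfsg.Agent.Lib.Helper32_PGroup

/-!
# Shult's theorem on Suzuki `2`-groups: the class of groups (helper76)

A finite `2`-group `G` whose involutions are central, whose group `Om G` of central involutions is
identified (by `e`) with the additive group of a finite field `F` of order `2 ^ n`, and a
commutative group `K` of automorphisms acting on `Om G` through multiplications by elements of the
cyclic group generated by `lam : Fˣ`, where `orderOf lam * d = 2 ^ n - 1` and `d ∣ n`, and the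
additive subgroups of `F` stable under multiplication by `lam` are `⊥` and `⊤`.

This generalizes `Helper9_HigBase.IsHig` (there `d = 1` and `K` is regular on involutions).
-/

set_option autoImplicit false
set_option linter.unusedSectionVars false
set_option linter.style.haveILetI false
set_option linter.unusedSimpArgs false
set_option linter.unusedVariables false

namespace Cfsg.Agent.Lib.Helper76_ShBase

open Cfsg.Agent.Lib.Helper9_HigBase

universe u v

variable {F : Type u} [Field F] [Fintype F] [CharP F 2]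
variable {K : Type v} [CommGroup K] {G : Type u} [Group G]

/-- the class of groups -/
structure IsSh (n d : ℕ) (lam : Fˣ) (χ : K →* Fˣ) (φ : K →* MulAut G) (e : G → F) : Prop where
  fin : Finite G
  pgroup : IsPGroup 2 G
  cardF : Fintype.card F = 2 ^ n
  hn : 2 ≤ n
  hd : d ∣ n
  hlam : orderOf lam * d = 2 ^ n - 1
  irr : ∀ S : AddSubgroup F, (∀ x ∈ S, (lam : F) * x ∈ S) → S ≠ ⊥ → S = ⊤
  hχ : ∀ k, χ k ∈ Subgroup.zpowers lam
  hk0 : ∃ k₀, χ k₀ = lam
  invol : ∀ x : G, x * x = 1 → x ∈ Subgroup.center G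
  e_bij : Set.BijOn e (Om G : Set G) Set.univ
  e_mul : ∀ x ∈ Om G, ∀ y ∈ Om G, e (x * y) = e x + e y
  act : ∀ k, ∀ z ∈ Om G, e (φ k z) = ((χ k : Fˣ) : F) * e z

variable {n d : ℕ} {lam : Fˣ} {χ : K →* Fˣ} {φ : K →* MulAut G} {e : G → F}

theorem IsSh.mem_Om_iff (h : IsSh n d lam χ φ e) (z : G) : z ∈ Om G ↔ z * z = 1 :=
  ⟨fun hz => hz.2, fun hz => ⟨h.invol z hz, hz⟩⟩

theorem IsSh.Om_inv (h : IsSh n d lam χ φ e) : ∀ k, ∀ x ∈ Om G, φ k x ∈ Om G := by
  intro k x hx
  rw [h.mem_Om_iff] at hx ⊢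
  rw [← map_mul, hx, map_one]

theorem IsSh.Om_inv_iff (h : IsSh n d lam χ φ e) (k : K) (x : G) : φ k x ∈ Om G ↔ x ∈ Om G := by
  constructor
  · intro hx
    have := h.Om_inv k⁻¹ _ hx
    rwa [map_inv, MulAut.inv_apply_self] at this
  · exact h.Om_inv k x

theorem IsSh.e_one (h : IsSh n d lam χ φ e) : e 1 = 0 := by
  have := h.e_mul 1 (Om G).one_mem 1 (Om G).one_mem
  rw [mul_one] at this
  exact left_eq_add.mp this

theorem IsSh.e_inj (h : IsSh n d lam χ φ e) {x y : G} (hx : x ∈ Om G) (hy : y ∈ Om G)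
    (hxy : e x = e y) : x = y := h.e_bij.injOn hx hy hxy

theorem IsSh.e_eq_zero (h : IsSh n d lam χ φ e) {x : G} (hx : x ∈ Om G) (hx0 : e x = 0) : x = 1 :=
  h.e_inj hx (Om G).one_mem (by rw [hx0, h.e_one])

theorem IsSh.e_surj (h : IsSh n d lam χ φ e) (a : F) : ∃ z ∈ Om G, e z = a := by
  obtain ⟨z, hz, hza⟩ := h.e_bij.surjOn (Set.mem_univ a)
  exact ⟨z, hz, hza⟩

theorem IsSh.card_Om (h : IsSh n d lam χ φ e) : Nat.card (Om G) = 2 ^ n := by
  rw [← h.cardF, ← Nat.card_eq_fintype_card]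
  apply Nat.card_congr
  refine Equiv.ofBijective (fun z : Om G => e z.1) ⟨?_, ?_⟩
  · intro x y hxy
    exact Subtype.ext (h.e_inj x.2 y.2 hxy)
  · intro a
    obtain ⟨z, hz, hza⟩ := h.e_surj a
    exact ⟨⟨z, hz⟩, hza⟩

theorem IsSh.four_le_card_Om (h : IsSh n d lam χ φ e) : 4 ≤ Nat.card (Om G) := by
  rw [h.card_Om]
  calc 4 = 2 ^ 2 := by norm_num
    _ ≤ 2 ^ n := Nat.pow_le_pow_right (by norm_num) h.hn

theorem IsSh.exists_invol (h : IsSh n d lam χ φ e) : ∃ x ∈ Om G, x ≠ 1 := by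
  obtain ⟨z, hz, hz1⟩ := h.e_surj 1
  refine ⟨z, hz, ?_⟩
  intro h0
  rw [h0, h.e_one] at hz1
  exact zero_ne_one hz1

/-- an automorphism acting on `Om G` by a nontrivial multiplier fixes no non-identity element -/
theorem IsSh.fix_eq_one (h : IsSh n d lam χ φ e) (k : K) (hk : χ k ≠ 1) (g : G)
    (hg : φ k g = g) : g = 1 := by
  haveI := h.fin
  by_contra hg1
  obtain ⟨m, hm1, hm2⟩ := exists_pow_invol h.pgroup g hg1
  have hmem : g ^ m ∈ Om G := (h.mem_Om_iff _).mpr hm2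
  have h1 : φ k (g ^ m) = g ^ m := by rw [map_pow, hg]
  have h2 := h.act k _ hmem
  rw [h1] at h2
  have h3 : (((χ k : Fˣ) : F) - 1) * e (g ^ m) = 0 := by
    rw [sub_mul, one_mul, ← h2, sub_self]
  rcases mul_eq_zero.mp h3 with h4 | h4
  · apply hk
    apply Units.ext
    rw [Units.val_one]
    exact sub_eq_zero.mp h4
  · exact hm1 (h.e_eq_zero hmem h4)

/-- such an automorphism fixes no coset of an invariant subgroup other than the subgroup -/
theorem IsSh.coset_fix (h : IsSh n d lam χ φ e) (k : K) (hk : χ k ≠ 1) (N : Subgroup G)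
    (hN : ∀ x ∈ N, φ k x ∈ N) (x : G) (hx : x⁻¹ * φ k x ∈ N) : x ∈ N := by
  haveI := h.fin
  let f : N → N := fun n => ⟨n.1 * (φ k n.1)⁻¹, N.mul_mem n.2 (N.inv_mem (hN n.1 n.2))⟩
  have hf : Function.Injective f := by
    intro n m hnm
    have h1 : n.1 * (φ k n.1)⁻¹ = m.1 * (φ k m.1)⁻¹ := congrArg Subtype.val hnm
    have h2 : φ k (m.1⁻¹ * n.1) = m.1⁻¹ * n.1 := by
      rw [map_mul, map_inv]
      have : m.1⁻¹ * n.1 = (φ k m.1)⁻¹ * φ k n.1 := by
        have h3 : n.1 = m.1 * (φ k m.1)⁻¹ * φ k n.1 := by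
          rw [← h1]
          group
        conv_lhs => rw [h3]
        group
      exact this.symm
    have h3 := h.fix_eq_one k hk _ h2
    apply Subtype.ext
    have : n.1 = m.1 * (m.1⁻¹ * n.1) := by group
    rw [this, h3, mul_one]
  have hs : Function.Surjective f := Finite.surjective_of_injective hf
  obtain ⟨n, hn⟩ := hs ⟨x⁻¹ * φ k x, hx⟩
  have hn' : n.1 * (φ k n.1)⁻¹ = x⁻¹ * φ k x := congrArg Subtype.val hn
  have hfix : φ k (x * n.1) = x * n.1 := by
    rw [map_mul]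
    have : φ k x = x * (x⁻¹ * φ k x) := by group
    rw [this, ← hn']
    group
  have h1 := h.fix_eq_one k hk _ hfix
  have h2 : x = n.1⁻¹ := eq_inv_of_mul_eq_one_left h1
  rw [h2]
  exact N.inv_mem n.2

/-- irreducibility: a nontrivial invariant subgroup of `Om G` is `Om G` -/
theorem IsSh.irr_sub (h : IsSh n d lam χ φ e) (S : Subgroup G) (hS : S ≤ Om G)
    (hinv : ∀ k, ∀ x ∈ S, φ k x ∈ S) (hne : ∃ x ∈ S, x ≠ 1) : Om G ≤ S := by
  have h2 : (2 : F) = 0 := CharP.cast_eq_zero F 2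
  have hneg : ∀ x : F, -x = x := by
    intro x
    have : x + x = 0 := by rw [← two_mul, h2, zero_mul]
    exact neg_eq_of_add_eq_zero_left this
  let A : AddSubgroup F :=
    { carrier := {a | ∃ x ∈ S, e x = a}
      zero_mem' := ⟨1, S.one_mem, h.e_one⟩
      add_mem' := by
        rintro a b ⟨x, hx, rfl⟩ ⟨y, hy, rfl⟩
        exact ⟨x * y, S.mul_mem hx hy, h.e_mul x (hS hx) y (hS hy)⟩
      neg_mem' := by
        rintro a ⟨x, hx, rfl⟩
        exact ⟨x, hx, (hneg _).symm⟩ }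
  have hA : ∀ a, a ∈ A ↔ ∃ x ∈ S, e x = a := fun a => Iff.rfl
  obtain ⟨k₀, hk₀⟩ := h.hk0
  have hAtop : A = ⊤ := by
    apply h.irr
    · rintro a ⟨x, hx, rfl⟩
      refine ⟨φ k₀ x, hinv k₀ x hx, ?_⟩
      rw [h.act k₀ x (hS hx), hk₀]
    · obtain ⟨x, hx, hx1⟩ := hne
      intro hbot
      have h1 : e x ∈ A := ⟨x, hx, rfl⟩
      rw [hbot, AddSubgroup.mem_bot] at h1
      exact hx1 (h.e_eq_zero (hS hx) h1)
  intro z hz
  have h1 : e z ∈ A := by rw [hAtop]; exact AddSubgroup.mem_top _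
  obtain ⟨x, hx, hxz⟩ := h1
  rw [← h.e_inj (hS hx) hz hxz]
  exact hx

/-- squares of an abelian invariant subgroup cover the central involutions -/
theorem IsSh.sq_surj_ab (h : IsSh n d lam χ φ e) (H : Subgroup G)
    (hH : ∀ k, ∀ x ∈ H, φ k x ∈ H) (hab : ∀ a ∈ H, ∀ b ∈ H, a * b = b * a)
    (hsq : ∀ x ∈ H, x * x ∈ Om G) (v : G) (hv : v ∈ H) (hvZ : v ∉ Om G) :
    ∀ z ∈ Om G, ∃ w ∈ H, w * w = z := by
  let S : Subgroup G :=
    { carrier := {z | ∃ w ∈ H, w * w = z}
      one_mem' := ⟨1, H.one_mem, mul_one 1⟩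
      mul_mem' := by
        rintro a b ⟨w, hw, rfl⟩ ⟨w', hw', rfl⟩
        refine ⟨w * w', H.mul_mem hw hw', ?_⟩
        have hc := hab w hw w' hw'
        calc w * w' * (w * w') = w * (w' * w) * w' := by group
          _ = w * (w * w') * w' := by rw [hc]
          _ = w * w * (w' * w') := by group
      inv_mem' := by
        rintro a ⟨w, hw, rfl⟩
        exact ⟨w⁻¹, H.inv_mem hw, by group⟩ }
  have hS : ∀ z, z ∈ S ↔ ∃ w ∈ H, w * w = z := fun z => Iff.rfl
  have hle : Om G ≤ S := by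
    apply h.irr_sub S
    · rintro z ⟨w, hw, rfl⟩
      exact hsq w hw
    · rintro k z ⟨w, hw, rfl⟩
      exact ⟨φ k w, hH k w hw, by rw [← map_mul]⟩
    · refine ⟨v * v, ⟨v, hv, rfl⟩, ?_⟩
      intro h0
      exact hvZ ((h.mem_Om_iff v).mpr h0)
  intro z hz
  exact hle hz

theorem IsSh.cm_map (h : IsSh n d lam χ φ e) (k : K) (x g : G) :
    φ k (cm x g) = cm (φ k x) (φ k g) := by
  unfold cm
  simp

theorem IsSh.W_inv (h : IsSh n d lam χ φ e) : ∀ k, ∀ x ∈ W G, φ k x ∈ W G := by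
  intro k x hx
  rw [mem_W] at hx ⊢
  refine ⟨?_, ?_⟩
  · rw [← map_mul]
    exact h.Om_inv k _ hx.1
  · intro g
    have h1 : cm (φ k x) g = φ k (cm x (φ k⁻¹ g)) := by
      rw [h.cm_map, map_inv, MulAut.apply_inv_self]
    rw [h1]
    exact h.Om_inv k _ (hx.2 _)

theorem IsSh.exists_W_not_mem (h : IsSh n d lam χ φ e) (hne : ∃ x : G, x ∉ Om G) :
    ∃ w ∈ W G, w ∉ Om G := by
  haveI := h.fin
  obtain ⟨x, hx⟩ := hne
  haveI : Nontrivial (G ⧸ Om G) := by
    refine ⟨⟨(x : G ⧸ Om G), 1, ?_⟩⟩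
    rwa [Ne, QuotientGroup.eq_one_iff]
  obtain ⟨z, hz, hz1⟩ := exists_Om_ne_one (h.pgroup.to_quotient (Om G))
  induction z using QuotientGroup.induction_on with
  | H w =>
    refine ⟨w, hz, ?_⟩
    rwa [Ne, QuotientGroup.eq_one_iff] at hz1

/-- if `a` and `v` commute and have the same square, they differ by a central involution -/
theorem IsSh.eq_mul_of_sq_eq (h : IsSh n d lam χ φ e) (a v : G) (hav : a * v = v * a)
    (hsq : v * v = a * a) : ∃ t ∈ Om G, a = t * v := by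
  refine ⟨a * v⁻¹, ?_, by group⟩
  rw [h.mem_Om_iff]
  have h1 : v⁻¹ * a = a * v⁻¹ := by
    have : v⁻¹ * a = v⁻¹ * (a * v) * v⁻¹ := by group
    rw [this, hav]
    group
  calc a * v⁻¹ * (a * v⁻¹) = a * (v⁻¹ * a) * v⁻¹ := by group
    _ = a * (a * v⁻¹) * v⁻¹ := by rw [h1]
    _ = (a * a) * (v * v)⁻¹ := by group
    _ = 1 := by rw [hsq]; group

/-- the class is closed under invariant subgroups containing the central involutions -/
theorem IsSh.sub (h : IsSh n d lam χ φ e) (H : Subgroup G) (hH : ∀ k, ∀ x ∈ H, φ k x ∈ H)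
    (hOm : Om G ≤ H) : IsSh n d lam χ (resAut φ H hH) (fun x : H => e x.1) := by
  have hmem : ∀ x : H, x ∈ Om H ↔ x.1 ∈ Om G := by
    intro x
    constructor
    · intro hx
      have : x.1 * x.1 = 1 := congrArg Subtype.val hx.2
      exact (h.mem_Om_iff x.1).mpr this
    · intro hx
      refine ⟨?_, Subtype.ext hx.2⟩
      rw [Subgroup.mem_center_iff]
      intro g
      exact Subtype.ext (Om_comm hx g.1)
  exact
  { fin := by
      haveI := h.fin
      infer_instance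
    pgroup := h.pgroup.to_subgroup H
    cardF := h.cardF
    hn := h.hn
    hd := h.hd
    hlam := h.hlam
    irr := h.irr
    hχ := h.hχ
    hk0 := h.hk0
    invol := by
      intro x hx
      have h1 : x.1 * x.1 = 1 := congrArg Subtype.val hx
      have h2 := (h.mem_Om_iff x.1).mpr h1
      exact ((hmem x).mpr h2).1
    e_bij := by
      refine ⟨fun x _ => Set.mem_univ _, ?_, ?_⟩
      · intro x hx y hy hxy
        exact Subtype.ext (h.e_inj ((hmem x).mp hx) ((hmem y).mp hy) hxy)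
      · intro a _
        obtain ⟨z, hz, hza⟩ := h.e_surj a
        exact ⟨⟨z, hOm hz⟩, (hmem _).mpr hz, hza⟩
    e_mul := by
      intro x hx y hy
      exact h.e_mul x.1 ((hmem x).mp hx) y.1 ((hmem y).mp hy)
    act := by
      intro k z hz
      exact h.act k z.1 ((hmem z).mp hz) }

end Cfsg.Agent.Lib.Helper76_ShBase
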