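import Cfsg.Agent.Lib.Helper76_ShB1
import Cfsg.Agent.Lib.Helper76_ShA
import Cfsg.Agent.Lib.Helper76_ShPkgPf
import Cfsg.Agent.Lib.Helper76_ShB2

/-!
# Shult's theorem on Suzuki `2`-groups: the induction (helper76)

A group in the class `IsSh` is abelian, or all its squares are central involutions and its centre
has exponent two.  The skeleton is helper9's proof of Higman's theorem (`Helper9_HigMain`).
-/

set_option autoImplicit false
set_option linter.unusedSectionVars false
set_option linter.style.haveILetI false
set_option linter.unusedSimpArgs false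
set_option linter.unusedVariables false

namespace Cfsg.Agent.Lib.Helper76_ShBase

open Cfsg.Agent.Lib.Helper9_HigBase

universe u v

variable {F : Type u} [Field F] [Fintype F] [CharP F 2]
variable {K : Type v} [CommGroup K]
variable {n d : ℕ} {lam : Fˣ} {χ : K →* Fˣ}

theorem shult_aux : ∀ m : ℕ, ∀ (G : Type u) [Group G]
    (φ : K →* MulAut G) (e : G → F), IsSh n d lam χ φ e → Nat.card G ≤ m →
    (∀ a b : G, a * b = b * a) ∨ ((∀ x : G, x * x ∈ Om G) ∧
      (∀ z ∈ Subgroup.center G, z * z = 1)) := by
  intro m
  induction m with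
  | zero =>
    intro G _ φ e h hcard
    haveI := h.fin
    have : 0 < Nat.card G := Nat.card_pos
    omega
  | succ m ih =>
    intro G _ φ e h hcard
    haveI := h.fin
    by_cases hab : ∀ a b : G, a * b = b * a
    · exact Or.inl hab
    right
    push Not at hab
    obtain ⟨a₀, b₀, hab₀⟩ := hab
    by_cases hW : ∃ a ∈ W G, ∃ b ∈ W G, a * b ≠ b * a
    · exact h.caseA hW
    exfalso
    push Not at hW
    have hneZ : ∃ x : G, x ∉ Om G := ⟨b₀, fun h0 => hab₀ (Om_comm h0 a₀)⟩
    have hWne := h.exists_W_not_mem hneZ
    have hOm2 : 2 ≤ Nat.card (Om G) := by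
      have := h.four_le_card_Om
      omega
    by_cases hWc : ∀ w ∈ W G, ∀ g : G, w * g = g * w
    · -- `W` central: use the quotient
      have hq := h.quot hWc hWne
      have hcardq : Nat.card (G ⧸ Om G) ≤ m := by
        have h1 := Subgroup.card_eq_card_quotient_mul_card_subgroup (Om G)
        have hpos : 0 < Nat.card (G ⧸ Om G) := Nat.card_pos
        have : Nat.card (G ⧸ Om G) * 2 ≤ Nat.card G := by
          rw [h1]
          exact Nat.mul_le_mul_left _ hOm2
        omega
      have hIH := ih (G ⧸ Om G) (quotAut φ (Om G) h.Om_inv) _ hq hcardq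
      apply h.caseB2 ⟨a₀, b₀, hab₀⟩ hWc
      rcases hIH with h1 | h1
      · exact Or.inl h1
      · exact Or.inr h1.1
    · -- `W` not central: use its centralizer
      push Not at hWc
      obtain ⟨w₁, hw₁, g₁, hwg₁⟩ := hWc
      let C : Subgroup G := Subgroup.centralizer (W G : Set G)
      have memC : ∀ x, x ∈ C ↔ ∀ w ∈ W G, w * x = x * w := fun x =>
        Subgroup.mem_centralizer_iff
      have hCinv : ∀ k, ∀ c ∈ C, φ k c ∈ C := by
        intro k c hc
        rw [memC] at hc ⊢
        intro w hw
        have h3 := hc (φ k⁻¹ w) (h.W_inv k⁻¹ w hw)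
        have h4 := congrArg (φ k) h3
        rwa [map_mul, map_mul, map_inv, MulAut.apply_inv_self] at h4
      have hWC : W G ≤ C := by
        intro w hw
        rw [memC]
        intro w' hw'
        exact hW w' hw' w hw
      have hC := h.sub C hCinv (Om_le_W.trans hWC)
      have hg₁C : g₁ ∉ C := by
        intro h0
        rw [memC] at h0
        exact hwg₁ (h0 w₁ hw₁)
      have hcardC : Nat.card C ≤ m := by
        have hlt : Nat.card C < Nat.card G := by
          have hss : (C : Set G) ⊂ Set.univ := by
            rw [Set.ssubset_univ_iff]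
            intro h0
            apply hg₁C
            have : g₁ ∈ (C : Set G) := by rw [h0]; exact Set.mem_univ _
            exact this
          have := Set.ncard_lt_ncard hss (Set.toFinite _)
          rw [Set.ncard_univ] at this
          rw [← Nat.card_coe_set_eq] at this
          exact this
        omega
      have hIH := ih C (resAut φ C hCinv) _ hC hcardC
      have hCab : ∀ a b : C, a * b = b * a := by
        rcases hIH with h1 | h1
        · exact h1
        · exfalso
          obtain ⟨w₀, hw₀, hw₀Z⟩ := hWne
          have hw₀c : (⟨w₀, hWC hw₀⟩ : C) ∈ Subgroup.center C := by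
            rw [Subgroup.mem_center_iff]
            intro c
            apply Subtype.ext
            show c.1 * w₀ = w₀ * c.1
            exact ((memC c.1).mp c.2 w₀ hw₀).symm
          have := h1.2 _ hw₀c
          have h2 : w₀ * w₀ = 1 := congrArg Subtype.val this
          exact hw₀Z ((h.mem_Om_iff w₀).mpr h2)
      apply h.caseB1 h.linesPkg hW hWne
      · intro a b ha hb
        have := hCab ⟨a, (memC a).mpr ha⟩ ⟨b, (memC b).mpr hb⟩
        exact congrArg Subtype.val this
      · exact ⟨g₁, fun h0 => hg₁C ((memC g₁).mpr h0)⟩

/-- **Shult's theorem** in the class `IsSh`. -/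
theorem shult {G : Type u} [Group G] {φ : K →* MulAut G} {e : G → F}
    (h : IsSh n d lam χ φ e) :
    (∀ a b : G, a * b = b * a) ∨ ((∀ x : G, x * x ∈ Om G) ∧
      (∀ z ∈ Subgroup.center G, z * z = 1)) :=
  shult_aux (Nat.card G) G φ e h (le_refl _)

end Cfsg.Agent.Lib.Helper76_ShBase
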