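import Mathlib
import Cfsg.Agent.Lib.Helper17_Sylow
import Cfsg.Agent.S0144
import Cfsg.Agent.S0987
import Cfsg.Agent.S0988
import Cfsg.Agent.S1001

/-!
# Generic filters for orders of non-abelian simple groups (helper76, for S0496)

Each `kill_*` lemma derives `False` from `Nat.card G = n` for a non-abelian simple group `G`
whenever `n` has a certain arithmetic shape; the side conditions are decidable.
-/

set_option autoImplicit false

namespace Cfsg.Agent.Lib.Helper76_SmallOrders

open Cfsg.Agent.Lib.Helper17_Sylow Subgroup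

variable {G : Type*} [Group G] [Finite G] [IsSimpleGroup G]

theorem kill_one (h : Nat.card G = 1) : False := by
  have := Finite.one_lt_card (α := G)
  omega

omit [Finite G] [IsSimpleGroup G] in
theorem kill_prime (hG : ¬ IsMulCommutative G) (p : ℕ) (hp : p.Prime) (h : Nat.card G = p) :
    False := by
  have : Fact p.Prime := ⟨hp⟩
  have hc : IsCyclic G := isCyclic_of_prime_card h
  apply hG
  exact ⟨⟨fun a b => (IsCyclic.commGroup (α := G)).mul_comm a b⟩⟩

omit [Finite G] in
theorem kill_solvable (hG : ¬ IsMulCommutative G) (h : Group.IsSolvable G) : False := by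
  apply hG
  have hc := IsSimpleGroup.comm_iff_isSolvable.2 h
  exact ⟨⟨hc⟩⟩

theorem kill_paqb (hG : ¬ IsMulCommutative G) (p q a b : ℕ) (hp : p.Prime) (hq : q.Prime)
    (h : Nat.card G = p ^ a * q ^ b) : False :=
  kill_solvable hG (Cfsg.Agent.S0144.result p q a b hp hq h)

theorem kill_pqr (p q r : ℕ) (hp : p.Prime) (hq : q.Prime) (hr : r.Prime) (hpq : p < q)
    (hqr : q < r) (h : Nat.card G = p * q * r) : False := by
  have : Fact r.Prime := ⟨hr⟩
  obtain ⟨R⟩ : Nonempty (Sylow r G) := inferInstance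
  have hn := Cfsg.Agent.S0987.result p q r hp hq hpq hqr h R
  have hdvd : r ∣ Nat.card G := by rw [h]; exact dvd_mul_left r (p * q)
  rcases hn.eq_bot_or_eq_top with h1 | h1
  · exact R.ne_bot_of_dvd_card hdvd h1
  · have hPG : IsPGroup r G := by
      have h2 := R.isPGroup'
      rw [h1] at h2
      exact (IsPGroup.of_equiv h2 Subgroup.topEquiv)
    obtain ⟨k, hk⟩ := hPG.exists_card_eq
    have hpd : p ∣ r ^ k := by rw [← hk, h]; exact Dvd.dvd.mul_right (dvd_mul_right p q) r
    have := (Nat.prime_dvd_prime_iff_eq hp hr).1 (hp.dvd_of_dvd_pow hpd)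
    omega

theorem kill_p2qr (p q r : ℕ) (hp : p.Prime) (hq : q.Prime) (hr : r.Prime)
    (h : Nat.card G = p ^ 2 * q * r) (h60 : p ^ 2 * q * r ≠ 60) : False := by
  have := Cfsg.Agent.S0988.result (G := G) p q r hp hq hr h
  omega

/-- Sylow filter: every candidate `d` for the number of Sylow `p`-subgroups is excluded, being
`1`, or so small that `G` cannot embed in the alternating group of degree `d`, or (when the Sylow
subgroup has order `p`) forcing `N(P) = C(P)`. -/
theorem kill_sylow (hG : ¬ IsMulCommutative G) (p k m : ℕ) [hp : Fact p.Prime]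
    (h : Nat.card G = p ^ k * m) (hm : ¬ p ∣ m) (hk : 0 < k) (hm1 : 1 < m)
    (hc : ∀ d ∈ sylowCandidates p m, d = 1 ∨ (d ≤ 16 ∧ ¬ (2 * (p ^ k * m) ∣ d.factorial)) ∨
      (k = 1 ∧ Nat.Coprime (m / d) (p - 1))) : False := by
  have hmem := card_sylow_mem_candidates h hm
  have hlt := one_lt_card_sylow_of_card h hm hk hm1
  rcases hc _ hmem with h1 | ⟨-, h1⟩ | ⟨rfl, h1⟩
  · omega
  · apply h1
    have h2 := two_mul_card_dvd_factorial_card_sylow hG hlt
    rwa [h] at h2
  · exact not_coprime_of_simple h hm hm1 h1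

/-- In a non-abelian simple group of order `p * 3 ^ a * 2 ^ b` (`p ≥ 5`), a Sylow `p`-subgroup `P`
is self-centralizing and `|N(P)| = p * e` with `1 < e ∣ p - 1`. -/
theorem sylow_data_s1001 (hG : ¬ IsMulCommutative G) (p a b : ℕ) [hp : Fact p.Prime]
    (h : Nat.card G = p * 3 ^ a * 2 ^ b) (hp5 : 5 ≤ p) (P : Sylow p G) :
    Nat.card (P : Subgroup G) = p ∧ centralizer ((P : Subgroup G) : Set G) = (P : Subgroup G) ∧
      ∃ e : ℕ, 1 < e ∧ e ∣ p - 1 ∧ Nat.card (normalizer ((P : Subgroup G) : Set G)) = p * e := by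
  have hpp := hp.out
  have hm : ¬ p ∣ 3 ^ a * 2 ^ b := by
    intro hd
    rcases (Nat.Prime.dvd_mul hpp).1 hd with h3 | h2
    · have := (Nat.prime_dvd_prime_iff_eq hpp Nat.prime_three).1 (hpp.dvd_of_dvd_pow h3)
      omega
    · have := (Nat.prime_dvd_prime_iff_eq hpp Nat.prime_two).1 (hpp.dvd_of_dvd_pow h2)
      omega
  have h' : Nat.card G = p ^ 1 * (3 ^ a * 2 ^ b) := by rw [h]; ring
  have hP : Nat.card (P : Subgroup G) = p := by
    have := card_sylow_eq_pow h' hm P
    rwa [pow_one] at this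
  have hcyc : IsCyclic (P : Subgroup G) := isCyclic_of_prime_card hP
  obtain ⟨x, hx⟩ := hcyc.exists_generator
  have hxo : orderOf (x : G) = p := by
    rw [Subgroup.orderOf_coe, orderOf_eq_card_of_forall_mem_zpowers hx, hP]
  have hPz : (P : Subgroup G) = zpowers (x : G) :=
    sylow_eq_zpowers P hP x x.2 hxo
  have hC1 := Cfsg.Agent.S1001.result (G := G) p a b hpp h (x : G) hxo
  have hC : centralizer ((P : Subgroup G) : Set G) = (P : Subgroup G) := by
    rw [hPz]
    conv_lhs => rw [Subgroup.zpowers_eq_closure, Subgroup.centralizer_closure]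
    exact hC1
  refine ⟨hP, hC, ?_⟩
  have hle : (P : Subgroup G) ≤ normalizer ((P : Subgroup G) : Set G) := le_normalizer
  have hrel := card_mul_relIndex_of_le hle
  rw [hP] at hrel
  have hdvd := relIndex_centralizer_normalizer_dvd_pred (P : Subgroup G) hP
  rw [hC] at hdvd
  refine ⟨(P : Subgroup G).relIndex (normalizer ((P : Subgroup G) : Set G)), ?_, hdvd, hrel.symm⟩
  by_contra hle1
  have hpos : 0 < (P : Subgroup G).relIndex (normalizer ((P : Subgroup G) : Set G)) := by
    rcases Nat.eq_zero_or_pos ((P : Subgroup G).relIndex (normalizer ((P : Subgroup G) : Set G)))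
      with h0 | h0
    · rw [h0, mul_zero] at hrel
      have : 0 < Nat.card (normalizer ((P : Subgroup G) : Set G)) := Nat.card_pos
      omega
    · exact h0
  have h1 : (P : Subgroup G).relIndex (normalizer ((P : Subgroup G) : Set G)) = 1 := by omega
  rw [h1, mul_one] at hrel
  have hNP : normalizer ((P : Subgroup G) : Set G) = (P : Subgroup G) := by
    symm
    apply Subgroup.eq_of_le_of_card_ge hle
    rw [hP, ← hrel]
  have hNC : normalizer ((P : Subgroup G) : Set G) ≤ centralizer ((P : Subgroup G) : Set G) := by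
    rw [hC, hNP]
  rcases sylow_eq_bot_or_top_of_normalizer_le_centralizer P hNC with h2 | h2
  · rw [h2, Subgroup.card_bot] at hP
    omega
  · rw [h2, Subgroup.card_top, h] at hP
    have h3 : 0 < 3 ^ a * 2 ^ b := by positivity
    have h4 : 3 ^ a * 2 ^ b = 1 := by
      have : p * (3 ^ a * 2 ^ b) = p * 1 := by rw [mul_one, ← mul_assoc]; exact hP
      exact Nat.eq_of_mul_eq_mul_left hpp.pos this
    apply kill_prime hG p hpp
    rw [h, mul_assoc, h4, mul_one]

/-- Filter from S1001: in a non-abelian simple group of order `p * 3 ^ a * 2 ^ b` the number of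
Sylow `p`-subgroups is `3 ^ a * 2 ^ b / e` for a divisor `e > 1` of `p - 1`. -/
theorem kill_s1001 (hG : ¬ IsMulCommutative G) (p a b : ℕ) [hp : Fact p.Prime]
    (h : Nat.card G = p * 3 ^ a * 2 ^ b) (hp5 : 5 ≤ p)
    (hc : ∀ e ∈ (p - 1).divisors, e = 1 ∨ ¬ (e ∣ 3 ^ a * 2 ^ b) ∨ (3 ^ a * 2 ^ b / e) % p ≠ 1 ∨
      (3 ^ a * 2 ^ b / e ≤ 16 ∧ ¬ (2 * (p * 3 ^ a * 2 ^ b) ∣ (3 ^ a * 2 ^ b / e).factorial))) :
    False := by
  have hpp := hp.out
  obtain ⟨P⟩ : Nonempty (Sylow p G) := inferInstance
  obtain ⟨hP, hC, e, he1, hed, hN⟩ := sylow_data_s1001 hG p a b h hp5 P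
  have hNn := card_normalizer_mul_card_sylow P
  rw [hN, h] at hNn
  have hmod := card_sylow_modEq_one p G
  have he0 : 0 < e := by omega
  have hn : 3 ^ a * 2 ^ b = e * Nat.card (Sylow p G) := by
    have : p * (e * Nat.card (Sylow p G)) = p * (3 ^ a * 2 ^ b) := by
      rw [← mul_assoc, hNn, mul_assoc]
    exact (Nat.eq_of_mul_eq_mul_left hpp.pos this).symm
  have hdiv : 3 ^ a * 2 ^ b / e = Nat.card (Sylow p G) := by
    rw [hn, Nat.mul_div_cancel_left _ he0]
  have hmem : e ∈ (p - 1).divisors := by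
    rw [Nat.mem_divisors]
    refine ⟨hed, ?_⟩
    omega
  rcases hc e hmem with h1 | h1 | h1 | ⟨-, h1⟩
  · omega
  · exact h1 ⟨_, hn⟩
  · apply h1
    rw [hdiv]
    have := hmod
    unfold Nat.ModEq at this
    rw [this]
    exact Nat.mod_eq_of_lt hpp.one_lt
  · apply h1
    rw [hdiv]
    have hlt : 1 < Nat.card (Sylow p G) := by
      have hm : ¬ p ∣ 3 ^ a * 2 ^ b := by
        intro hd
        rcases (Nat.Prime.dvd_mul hpp).1 hd with h3 | h2
        · have := (Nat.prime_dvd_prime_iff_eq hpp Nat.prime_three).1 (hpp.dvd_of_dvd_pow h3)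
          omega
        · have := (Nat.prime_dvd_prime_iff_eq hpp Nat.prime_two).1 (hpp.dvd_of_dvd_pow h2)
          omega
      have h' : Nat.card G = p ^ 1 * (3 ^ a * 2 ^ b) := by rw [h]; ring
      apply one_lt_card_sylow_of_card h' hm (by norm_num)
      by_contra hle
      have : 3 ^ a * 2 ^ b = 1 := by
        have : 0 < 3 ^ a * 2 ^ b := by positivity
        omega
      rw [this] at hn
      have := Nat.eq_one_of_mul_eq_one_right hn.symm
      omega
    have h2 := two_mul_card_dvd_factorial_card_sylow hG hlt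
    rwa [h] at h2

end Cfsg.Agent.Lib.Helper76_SmallOrders
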