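import Mathlib
import Cfsg.Agent.S0999
import Cfsg.Agent.S0721
import Cfsg.Agent.Lib.Helper32_BR2_OP
import Cfsg.Agent.Lib.Helper32_BR2_P1
import Cfsg.Agent.Lib.Helper63_BR2_IDX
import Cfsg.Agent.Lib.Helper63_BR2_RED
import Cfsg.Agent.Lib.Helper65_BR2_ORD
import Cfsg.Agent.Lib.Helper65_BR2_SLE
import Cfsg.Agent.Lib.Helper72_BR2_CYC

/-!
# S4701 (Brauer-Reynolds for perfect groups, |G| < p^3): ADAPTER over the landed BR2 packages (helper77)

Land package `PKG` as `Cfsg/Agent/Lib/<Seat>_BR2_<PKG>.lean`, namespace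
`Cfsg.Agent.Lib.<Seat>_BR2_<PKG>`, theorem name `<PKG>`, statement VERBATIM.
-/

set_option autoImplicit false

namespace Cfsg.Agent.Lib.Helper77_BR2Adapter

universe u

/-- **P1** (M). A non-normal Sylow `p`-subgroup of a group of order `< p^3` has order `p`
(`|P| = p²` gives `|Syl_p| = |G : N_G(P)| < p` and `≡ 1 mod p`, so `P ⊴ G`). -/
theorem P1 {G : Type u} [Group G] [Finite G] (p : ℕ) [Fact p.Prime] (hdvd : p ∣ Nat.card G)
    (hbig : Nat.card G < p ^ 3) (P : Sylow p G) (hP : ¬ (P : Subgroup G).Normal) :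
    Nat.card P = p ∧ ¬ p ^ 2 ∣ Nat.card G :=
  Cfsg.Agent.Lib.Helper32_BR2_P1.P1 p hdvd hbig P hP

/-- **OP** (M). A normal `p'`-subgroup `K` of maximal order: `G ⧸ K` has no nontrivial normal
`p'`-subgroup (the preimage of one would be a larger normal `p'`-subgroup). -/
theorem OP {G : Type u} [Group G] [Finite G] (p : ℕ) [Fact p.Prime] :
    ∃ (K : Subgroup G) (_ : K.Normal), (Nat.card K).Coprime p ∧
      ∀ L : Subgroup (G ⧸ K), L.Normal → (Nat.card L).Coprime p → L = ⊥ :=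
  Cfsg.Agent.Lib.Helper32_BR2_OP.OP p

/-- **CYC** (M/L). A finite perfect group `H` with `p ∥ |H|` has no normal subgroup of order `p`:
`H / C_H(N) ↪ Aut(N)` is abelian, so `N ≤ Z(H)`; `N` is a Sylow `p`-subgroup in the centre of its
normalizer, Burnside's transfer (`MonoidHom.ker_transferSylow_isComplement'`) gives a normal
complement with quotient `≃ N` abelian and nontrivial, against `commutator H = ⊤`. -/
theorem CYC {H : Type u} [Group H] [Finite H] (hperf : commutator H = ⊤) (p : ℕ) [Fact p.Prime]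
    (hsq : ¬ p ^ 2 ∣ Nat.card H) (N : Subgroup H) (hN : N.Normal) (hNcard : Nat.card N = p) :
    False :=
  Cfsg.Agent.Lib.Helper72_BR2_CYC.CYC hperf p hsq N hN hNcard

/-- **RED** (L). A minimal normal subgroup of `H` (`Helper9_CLT2.exists_minimal_normal_le` with
`P := ⊤`) is `≃* (Fin m → T)` with `T` simple (`Cfsg.Agent.S0721.result`); `p ∣ |N|` by `hO`, so
`p ∣ |T|`, and `p² ∤ |H|` forces `m = 1`; `T` cyclic would make `|N| = p`, excluded by CYC. -/
theorem RED {H : Type u} [Group H] [Finite H] (hperf : commutator H = ⊤) (p : ℕ) [Fact p.Prime]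
    (hdvd : p ∣ Nat.card H) (hsq : ¬ p ^ 2 ∣ Nat.card H)
    (hO : ∀ L : Subgroup H, L.Normal → (Nat.card L).Coprime p → L = ⊥) :
    ∃ (N : Subgroup H) (T : Type) (_ : Group T), N.Normal ∧ IsSimpleGroup T ∧ ¬ IsCyclic T ∧
      p ∣ Nat.card T ∧ Nonempty (N ≃* T) :=
  Cfsg.Agent.Lib.Helper63_BR2_RED.RED hperf p hdvd hsq hO

/-- **IDX** (S). A perfect group has no proper normal subgroup of index `≤ 2`. -/
theorem IDX {H : Type u} [Group H] [Finite H] (hperf : commutator H = ⊤) (N : Subgroup H)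
    (hN : N.Normal) (hidx : N.index ≤ 2) : N = ⊤ :=
  Cfsg.Agent.Lib.Helper63_BR2_IDX.IDX hperf N hN hidx

/-- **ORD** (M). Order bounds: `3 |PSL(2,F)| ≥ p³` in both cases
(`Helper50_DkOrders.card_PSL2`, `Helper6_GL52Sec.card_PSL2_even`). -/
theorem ORD (p : ℕ) [Fact p.Prime] (h3 : 3 < p) (F : Type) [Field F] [Fintype F]
    (hF : Fintype.card F = p ∨ ∃ m : ℕ, Fintype.card F = 2 ^ m ∧ p = 2 ^ m + 1) :
    p ^ 3 ≤ 3 * Nat.card (Matrix.ProjectiveSpecialLinearGroup (Fin 2) F) :=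
  Cfsg.Agent.Lib.Helper65_BR2_ORD.ORD p h3 F hF

/-- **SLE** (S). `PSL(2,F) ≃* SL(2,F)` when `|F| = 2^m`, `m ≥ 1`
(`Helper39_DegreeGraph.pslEquivEven`). -/
theorem SLE (F : Type) [Field F] [Fintype F] (m : ℕ) (hm : m ≠ 0) (hF : Fintype.card F = 2 ^ m) :
    Nonempty (Matrix.ProjectiveSpecialLinearGroup (Fin 2) F ≃* Matrix.SpecialLinearGroup (Fin 2) F) :=
  Cfsg.Agent.Lib.Helper65_BR2_SLE.SLE F m hm hF

end Cfsg.Agent.Lib.Helper77_BR2Adapter
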