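import Cfsg.Agent.Lib.Helper77_BRDefs
import Cfsg.Agent.Lib.Helper11_BR_V1
import Cfsg.Agent.Lib.Helper35_BR_GEO1
import Cfsg.Agent.Lib.Helper35_BR_GEO2
import Cfsg.Agent.Lib.Helper47_BR_MACK
import Cfsg.Agent.Lib.Helper52_BR_CLSA1
import Cfsg.Agent.Lib.Helper52_BR_CLSA2
import Cfsg.Agent.Lib.Helper5_BR_W1ARITH
import Cfsg.Agent.Lib.Helper5_BR_XARITH
import Cfsg.Agent.Lib.Helper5_BR_XDEG
import Cfsg.Agent.Lib.Helper58_BR_DUAL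
import Cfsg.Agent.Lib.Helper58_BR_EXT
import Cfsg.Agent.Lib.Helper60_BR_HGRP
import Cfsg.Agent.Lib.Helper61_BR_INT
import Cfsg.Agent.Lib.Helper65_BR_CLS1
import Cfsg.Agent.Lib.Helper65_BR_EXC
import Cfsg.Agent.Lib.Helper68_BR_FROBN
import Cfsg.Agent.Lib.Helper75_BR_INDVAL
import Cfsg.Agent.Lib.Helper75_BR_LININD
import Cfsg.Agent.Lib.Helper75_BR_LINSUM
import Cfsg.Agent.Lib.Helper75_BR_LINVAL
import Cfsg.Agent.Lib.Helper84_BR_BPOS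
import Cfsg.Agent.Lib.Helper84_BR_FAITH
import Cfsg.Agent.Lib.Helper84_BR_NOLIN
import Cfsg.Agent.Lib.Helper84_BR_VANaux
import Cfsg.Agent.Lib.Helper8_BR_FIX
import Cfsg.Agent.Lib.Helper8_BR_KER

/-!
# S0999 (Brauer-Reynolds, |G| < p^3): ADAPTER re-exporting the landed SUB packages (helper77)

Suggested cut of the TOP packages W1, CLS, GEO, HG of `Helper77_BRPackagesStub`.
Land `PKG` as `Cfsg/Agent/Lib/<Seat>_BR_<PKG>.lean`, namespace `Cfsg.Agent.Lib.<Seat>_BR_<PKG>`,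
theorem `<PKG>`, statement VERBATIM.
-/

set_option autoImplicit false

namespace Cfsg.Agent.Lib.Helper77_BRAdapter

open Cfsg Cfsg.Agent.Lib.Helper80_CharBasic Cfsg.Agent.Lib.Helper77_BRDefs
open scoped ComplexConjugate

universe u

variable {G : Type u} [Group G] [Fintype G] {p : ℕ} [hp : Fact p.Prime]

/-! ## for W1 -/

/-- **INT** (M). Integrality of `ω_χ` on the sum of all elements of order `p`:
`χ(1) ∣ |Syl_p(G)| · ∑_{1 ≠ x ∈ P} χ(x)`. -/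
theorem INT (P : Sylow p G) (hP : Nat.card P = p) (χ : IrrCharacter G) (k : ℤ)
    (hk : ∑ᶠ x ∈ {x : G | x ∈ (P : Subgroup G) ∧ x ≠ 1}, (χ : G → ℂ) x = (k : ℂ)) :
    (charDegree (χ : G → ℂ) : ℤ) ∣ (Nat.card (Sylow p G) : ℤ) * k :=
  Cfsg.Agent.Lib.Helper61_BR_INT.INT P hP χ k hk

/-- **XARITH** (M, pure arithmetic; checked numerically for p < 60). -/
theorem XARITH (p q n w x u : ℕ) (ε : ℤ) (hp : p.Prime) (hq2 : 2 ≤ q) (hn : 1 ≤ n) (hw : 1 ≤ w)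
    (hbig : p * w * q * (1 + n * p) < p ^ 3) (hε : ε = 1 ∨ ε = -1)
    (hx : (x : ℤ) = u * p + ε) (hx2 : 2 ≤ x) (hsq : x * x < p * w * q * (1 + n * p))
    (hdvd : (x : ℤ) ∣ (1 + n * p : ℤ) * (u + ε)) :
    (ε = 1 ∧ x = 1 + n * p) ∨ (ε = -1 ∧ x = p - 1) :=
  Cfsg.Agent.Lib.Helper5_BR_XARITH.XARITH p q n w x u ε hp hq2 hn hw hbig hε hx hx2 hsq hdvd

/-- **XDEG** (M). Degrees of the nontrivial non-exceptional characters of the principal block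
(INT + XARITH + no linear characters + `χ(1)² < |G|`). -/
theorem XDEG [IsSimpleGroup G] (hnc : ¬ IsCyclic G) (P : Sylow p G) (hP : Nat.card P = p)
    (D : PBData P) (hq2 : 2 ≤ qq P) (n w : ℕ) (hn1 : 1 ≤ n) (hw : 1 ≤ w)
    (hn : Nat.card (Sylow p G) = 1 + n * p)
    (hG : Nat.card G = p * w * qq P * (1 + n * p)) (hbig : Nat.card G < p ^ 3) :
    ∀ χ ∈ D.X, χ ≠ oneIrr G →
      (((χ : G → ℂ) 1 = 1 + (n : ℂ) * (p : ℂ)) ∧ D.εX χ = 1) ∨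
        (((χ : G → ℂ) 1 = (p : ℂ) - 1) ∧ D.εX χ = -1) :=
  Cfsg.Agent.Lib.Helper5_BR_XDEG.XDEG_of P hP (fun χ k hk => INT P hP χ k hk) (fun χ hχ => Cfsg.Agent.Lib.Helper84_BR_NOLIN.NOLIN hnc χ hχ) D hq2 n w hn1 hw hn hG hbig

/-- **KER** (M). A character of degree `p - 1` with value `-1` on the `p`-singular elements of
`C_G(P)` has the `p`-regular elements of `C_G(P)` in its kernel (the projection onto the
`P`-fixed points has trace `0`, hence is `0`). -/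
theorem KER (P : Sylow p G) (hP : Nat.card P = p) (χ : IrrCharacter G)
    (hdeg : (χ : G → ℂ) 1 = (p : ℂ) - 1)
    (hval : ∀ x ∈ (P : Subgroup G), x ≠ 1 → ∀ y ∈ Cen P, ¬ p ∣ orderOf y →
      (χ : G → ℂ) (x * y) = -1) :
    ∀ y ∈ Cen P, ¬ p ∣ orderOf y → (χ : G → ℂ) y = (χ : G → ℂ) 1 :=
  Cfsg.Agent.Lib.Helper8_BR_KER.KER P hP χ hdeg hval

/-- **FAITH** (S). Nontrivial irreducible characters of a simple group are faithful. -/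
theorem FAITH [IsSimpleGroup G] (χ : IrrCharacter G) (hχ : χ ≠ oneIrr G) (g : G)
    (hg : (χ : G → ℂ) g = (χ : G → ℂ) 1) : g = 1 :=
  Cfsg.Agent.Lib.Helper84_BR_FAITH.FAITH χ hχ g hg

/-- **NOLIN** (S). A non-cyclic simple group has no nontrivial linear character. -/
theorem NOLIN [IsSimpleGroup G] (hnc : ¬ IsCyclic G) (χ : IrrCharacter G) (hχ : χ ≠ oneIrr G) :
    2 ≤ charDegree (χ : G → ℂ) :=
  Cfsg.Agent.Lib.Helper84_BR_NOLIN.NOLIN hnc χ hχ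

/-- **V1** (M). With `p + 1` Sylow `p`-subgroups (of order `p`) in a simple group, `C_G(P) = P`:
`c ∈ C_G(P)` acts on the other `p` Sylow subgroups commuting with the regular group `P`, hence as
an element of `P`; the action is faithful. -/
theorem V1 [IsSimpleGroup G] (hnc : ¬ IsCyclic G) (P : Sylow p G) (hP : Nat.card P = p)
    (hS : Nat.card (Sylow p G) = 1 + 1 * p) : ∀ c ∈ Cen P, c ∈ (P : Subgroup G) :=
  Cfsg.Agent.Lib.Helper11_BR_V1.V1 hnc P hP hS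

/-- **W1ARITH** (S, pure arithmetic; checked numerically for p < 200). -/
theorem W1ARITH (p q n w t x0 : ℕ) (hp : p.Prime) (hq2 : 2 ≤ q) (htq : t * q = p - 1)
    (hn : 1 ≤ n) (hw : 1 ≤ w) (hbig : p * w * q * (1 + n * p) < p ^ 3)
    (hx0 : x0 = 1 + (q - 1) * (1 + n * p)) (hsq : t * (x0 * x0) < p * w * q * (1 + n * p)) :
    q = 2 ∧ n = 1 :=
  Cfsg.Agent.Lib.Helper5_BR_W1ARITH.W1ARITH p q n w t x0 hp hq2 htq hn hw hbig hx0 hsq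

/-! ## for CLS (all under `C_G(P) = P`) -/

/-- **LINSUM** (M). `∑_i a_i(χ) = ⟨χ|_P, 1_P⟩`. -/
theorem LINSUM (P : Sylow p G) (hP : Nat.card P = p)
    (hC : ∀ c ∈ Cen P, c ∈ (P : Subgroup G)) (L : LinData P) (χ : IrrCharacter G) :
    ((∑ i : L.ι, L.a i χ : ℕ) : ℂ) * (p : ℂ) =
      ∑ᶠ x ∈ ((P : Subgroup G) : Set G), (χ : G → ℂ) x :=
  Cfsg.Agent.Lib.Helper75_BR_LINSUM.LINSUM P hP hC L χ

/-- **LINVAL** (M). On `N_G(P) \ P` a character is the combination of the linear characters: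
`χ(σ) = ∑_i a_i(χ) μ_i(σ)` (the coset `Pσ` is a single `P`-conjugacy class). -/
theorem LINVAL (P : Sylow p G) (hP : Nat.card P = p)
    (hC : ∀ c ∈ Cen P, c ∈ (P : Subgroup G)) (L : LinData P) (χ : IrrCharacter G)
    (σ : G) (hσN : σ ∈ Nrm P) (hσP : σ ∉ (P : Subgroup G)) :
    (χ : G → ℂ) σ = ∑ i : L.ι, (L.a i χ : ℂ) * L.μ i σ :=
  Cfsg.Agent.Lib.Helper75_BR_LINVAL.LINVAL P hP hC L χ σ hσN hσP

/-- **LININD** (M). Frobenius reciprocity: `μ_i^G = ∑_χ a_i(χ) χ`. -/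
theorem LININD (P : Sylow p G) (L : LinData P) (i : L.ι) (g : G) :
    ∑ χ : IrrCharacter G, (L.a i χ : ℂ) * (χ : G → ℂ) g =
      indFun (Nrm P) (fun x : ↥(Nrm P) => L.μ i (x : G)) g :=
  Cfsg.Agent.Lib.Helper75_BR_LININD.LININD P L i g

/-- **INDVAL** (M). Values of `μ_i^G`: degree `|Syl_p(G)|`, value `1` on `P \ 1`, and `1_N^G` is
the permutation character on `Syl_p(G)`. -/
theorem INDVAL (P : Sylow p G) (hP : Nat.card P = p) (L : LinData P) (i : L.ι) :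
    indFun (Nrm P) (fun x : ↥(Nrm P) => L.μ i (x : G)) 1 = (Nat.card (Sylow p G) : ℂ) ∧
    (∀ z ∈ (P : Subgroup G), z ≠ 1 →
      indFun (Nrm P) (fun x : ↥(Nrm P) => L.μ i (x : G)) z = 1) ∧
    ∀ g : G, indFun (Nrm P) (fun x : ↥(Nrm P) => L.μ L.one (x : G)) g = (fixS p g : ℂ) :=
  Cfsg.Agent.Lib.Helper75_BR_INDVAL.INDVAL P hP L i

/-- **EXC** (M/L). The exceptional characters on `P`. -/
theorem EXC (P : Sylow p G) (hP : Nat.card P = p)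
    (hC : ∀ c ∈ Cen P, c ∈ (P : Subgroup G)) (D : PBData P) (L : LinData P)
    (hq2 : 2 ≤ qq P) (hq : 2 * qq P ≤ p - 1) :
    (∀ z ∈ (P : Subgroup G), z ≠ 1 → ∑ θ ∈ D.Y, (θ : G → ℂ) z = -(D.ε : ℂ)) ∧
    (∀ θ ∈ D.Y, ∑ᶠ x ∈ {x : G | x ∈ (P : Subgroup G) ∧ x ≠ 1}, (θ : G → ℂ) x =
      -(D.ε : ℂ) * (qq P : ℂ)) ∧
    ∀ θ ∈ D.Y, ∀ θ' ∈ D.Y, ∀ i : L.ι, L.a i θ = L.a i θ' :=
  Cfsg.Agent.Lib.Helper65_BR_EXC.EXC P hP hC D L hq2 hq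

/-- **CLS1** (L). Each nontrivial `μ_i` is either induced irreducibly to a member of `X` of degree
`1 + n p` ("covered") or `ε = -1` and `μ_i^G` contains every exceptional character once and no member
of `X` ("uncovered"). -/
theorem CLS1 [IsSimpleGroup G] (hnc : ¬ IsCyclic G) (P : Sylow p G) (hP : Nat.card P = p)
    (hC : ∀ c ∈ Cen P, c ∈ (P : Subgroup G)) (D : PBData P) (L : LinData P)
    (hq2 : 2 ≤ qq P) (hq : 2 * qq P ≤ p - 1) (n : ℕ) (hn1 : 1 ≤ n)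
    (hn : Nat.card (Sylow p G) = 1 + n * p)
    (hX : ∀ χ ∈ D.X, χ ≠ oneIrr G →
      (((χ : G → ℂ) 1 = 1 + (n : ℂ) * (p : ℂ)) ∧ D.εX χ = 1) ∨
        (((χ : G → ℂ) 1 = (p : ℂ) - 1) ∧ D.εX χ = -1)) :
    (∀ χ ∈ D.X, χ ≠ oneIrr G → L.a L.one χ = 0) ∧ (∀ θ ∈ D.Y, L.a L.one θ = 0) ∧
    (∀ i : L.ι, L.a i (oneIrr G) = if i = L.one then 1 else 0) ∧
    ∀ i : L.ι, i ≠ L.one →
      (∃ χ ∈ D.X, (χ : G → ℂ) 1 = 1 + (n : ℂ) * (p : ℂ) ∧ L.a i χ = 1 ∧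
          ∀ χ' : IrrCharacter G, χ' ≠ χ → L.a i χ' = 0) ∨
        (D.ε = -1 ∧ (∀ θ ∈ D.Y, L.a i θ = 1) ∧ ∀ χ ∈ D.X, L.a i χ = 0) :=
  Cfsg.Agent.Lib.Helper65_BR_CLS1.CLS1_of P hP hC D L hq2 hq n hn hX (fun i g => LININD P L i g) (fun i => ⟨(INDVAL P hP L i).1, (INDVAL P hP L i).2.1⟩)

/-- **CLSA1** (S, pure arithmetic): no uncovered `μ`, so the exceptional degree is `q` and S4503
gives `p ≤ 2 q + 1`. -/
theorem CLSA1 (p q n a : ℕ) (hp : p.Prime) (h5 : 5 ≤ p) (hq2 : 2 ≤ q) (hq : 2 * q ≤ p - 1)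
    (hbr : p ≤ 2 * q + 1) (hcnt : q - 1 = a * (n + 1)) (hn1 : 1 ≤ n)
    (hsmall : q * (1 + n * p) < p ^ 2) : n = 1 :=
  Cfsg.Agent.Lib.Helper52_BR_CLSA1.CLSA1 p q n a hp h5 hq2 hq hbr hcnt hn1 hsmall

/-- **CLSA2** (M, pure arithmetic; checked numerically for p < 300): `v ≥ 1` uncovered `μ`'s,
exceptional degree `p v - q`, and `1 + n p ≥ t (p v - q)`. -/
theorem CLSA2 (p q n t v : ℕ) (hp : p.Prime) (h5 : 5 ≤ p) (hq2 : 2 ≤ q) (hq : 2 * q ≤ p - 1)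
    (htq : t * q = p - 1) (hn1 : 1 ≤ n) (hv : 1 ≤ v) (hvq : q < p * v)
    (hsmall : q * (1 + n * p) < p ^ 2) (hle : t * (p * v - q) ≤ 1 + n * p) :
    n = 1 ∨ (v = 1 ∧ n + 1 = t) ∨
      (v = 1 ∧ n = t ∧ ¬ (p - q) ∣ q * (1 + n * p)) :=
  Cfsg.Agent.Lib.Helper52_BR_CLSA2.CLSA2 p q n t v hp h5 hq2 hq htq hn1 hv hvq hsmall hle

/-! ## for GEO (all under `C_G(P) = P`) -/

/-- **FROBN** (M/L). `N_G(P) = P ⋊ Q` is a Frobenius group with cyclic complement. -/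
theorem FROBN (P : Sylow p G) (hP : Nat.card P = p)
    (hC : ∀ c ∈ Cen P, c ∈ (P : Subgroup G)) (hq2 : 2 ≤ qq P) :
    ∃ Q : Subgroup G, Q ≤ Nrm P ∧ Q ⊓ (P : Subgroup G) = ⊥ ∧ Nat.card Q = qq P ∧ IsCyclic Q ∧
      Nat.card (Nrm P) = p * qq P ∧
      (∀ x ∈ Nrm P, ¬ p ∣ orderOf x → ∃ z ∈ (P : Subgroup G), z * x * z⁻¹ ∈ Q) ∧
      (∀ x ∈ Nrm P, x ∉ (P : Subgroup G) → ¬ p ∣ orderOf x) ∧
      ∀ z ∈ (P : Subgroup G), ∀ σ ∈ Q, σ ≠ 1 → z * σ * z⁻¹ ∈ Q → z = 1 :=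
  Cfsg.Agent.Lib.Helper68_BR_FROBN.FROBN P hP hC hq2

/-- **VAN** (S/M, from LINSUM + LINVAL). Members of `X` of degree `p - 1` vanish on
`N_G(P) \ P`. -/
theorem VAN (P : Sylow p G) (hP : Nat.card P = p)
    (hC : ∀ c ∈ Cen P, c ∈ (P : Subgroup G)) (D : PBData P) (L : LinData P)
    (χ : IrrCharacter G) (hχ : χ ∈ D.X) (hdeg : (χ : G → ℂ) 1 = (p : ℂ) - 1)
    (hε : D.εX χ = -1) (σ : G) (hσN : σ ∈ Nrm P) (hσP : σ ∉ (P : Subgroup G)) :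
    (χ : G → ℂ) σ = 0 :=
  Cfsg.Agent.Lib.Helper84_BR_VANaux.VAN_of P hP D L χ hχ hdeg hε σ (LINSUM P hP hC L χ) (LINVAL P hP hC L χ σ hσN hσP)

/-- **FIX** (M). In the `Family`, for `p`-regular `g ≠ 1`:
`fix(g) = t (1 - B(g))`, `B` the sum of the members of `X` of degree `p - 1`
(column orthogonality of `g` with `1`, `hperm`, `hrel`). -/
theorem FIX (P : Sylow p G) (hP : Nat.card P = p)
    (hC : ∀ c ∈ Cen P, c ∈ (P : Subgroup G)) (D : PBData P) (L : LinData P)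
    (hq2 : 2 ≤ qq P) (hq : 2 * qq P ≤ p - 1) (n : ℕ) (hn1 : 1 ≤ n) (hF : Family P D L n)
    (g : G) (hg : ¬ p ∣ orderOf g) (hg1 : g ≠ 1) :
    (fixS p g : ℂ) = (D.Y.card : ℂ) *
      (1 - Bfun D g) :=
  Cfsg.Agent.Lib.Helper8_BR_FIX.FIX P hP hC D L hq2 hq n hn1 hF g hg hg1

/-- **BPOS** (S). In the `Family` some member of `X` has degree `p - 1` (`hrel` at `g = 1`). -/
theorem BPOS (P : Sylow p G) (hP : Nat.card P = p) (D : PBData P) (L : LinData P)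
    (hq2 : 2 ≤ qq P) (hq : 2 * qq P ≤ p - 1) (n : ℕ) (hF : Family P D L n) :
    ∃ χ ∈ D.X, (χ : G → ℂ) 1 = (p : ℂ) - 1 ∧ D.εX χ = -1 :=
  Cfsg.Agent.Lib.Helper84_BR_BPOS.BPOS P hP D L hq2 hq n hF

/-- **GEO1** (L, permutation groups). If every `1 ≠ σ ∈ Q` normalizes exactly `t` Sylow
`p`-subgroups then `|N_G(Q)| = t q` and `N_G(Q) ∩ N_G(P) = Q`: `Fix(Q) = Fix(σ₀)` (`σ₀` a generator)
has `t` points, `N_G(Q)` is transitive on it (complements are conjugate in each `N_G(P')`) and the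
stabilizer of `P` in `N_G(Q)` is `N_N(Q) = Q`. -/
theorem GEO1 (P : Sylow p G) (hP : Nat.card P = p)
    (hC : ∀ c ∈ Cen P, c ∈ (P : Subgroup G)) (hq2 : 2 ≤ qq P) (t : ℕ)
    (Q : Subgroup G) (hQN : Q ≤ Nrm P) (hQP : Q ⊓ (P : Subgroup G) = ⊥)
    (hQcard : Nat.card Q = qq P) (hQcyc : IsCyclic Q)
    (hNcard : Nat.card (Nrm P) = p * qq P)
    (hQconj : ∀ x ∈ Nrm P, ¬ p ∣ orderOf x → ∃ z ∈ (P : Subgroup G), z * x * z⁻¹ ∈ Q)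
    (hQnorm : ∀ z ∈ (P : Subgroup G), ∀ σ ∈ Q, σ ≠ 1 → z * σ * z⁻¹ ∈ Q → z = 1)
    (hfix : ∀ σ ∈ Q, σ ≠ 1 → fixS p σ = t) :
    Nat.card (Subgroup.normalizer (Q : Set G)) = t * qq P ∧
      Subgroup.normalizer (Q : Set G) ⊓ Nrm P = Q :=
  Cfsg.Agent.Lib.Helper35_BR_GEO1.GEO1 P hP hC hq2 t Q hQN hQP hQcard hQcyc hNcard hQconj hQnorm hfix

/-- **GEO2** (L). Every element of `H = N_G(Q)` (of order `p - 1`) normalizes a Sylow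
`p`-subgroup, hence is conjugate into `Q`: restrict `B = ∑ χ` (members of `X` of degree `p - 1`)
to `H`; `B = 1 - fix/t ∈ {0, 1}` on `H \ 1` and `⟨B|_H, 1_H⟩` is an integer. -/
theorem GEO2 (P : Sylow p G) (hP : Nat.card P = p)
    (hC : ∀ c ∈ Cen P, c ∈ (P : Subgroup G)) (D : PBData P)
    (hq2 : 2 ≤ qq P) (hq : 2 * qq P ≤ p - 1)
    (hB : ∃ χ ∈ D.X, (χ : G → ℂ) 1 = (p : ℂ) - 1)
    (hfix : ∀ g : G, ¬ p ∣ orderOf g → g ≠ 1 → (fixS p g : ℂ) = (D.Y.card : ℂ) *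
      (1 - Bfun D g))
    (Q : Subgroup G) (hQN : Q ≤ Nrm P) (hQP : Q ⊓ (P : Subgroup G) = ⊥)
    (hQcard : Nat.card Q = qq P)
    (hQconj : ∀ x ∈ Nrm P, ¬ p ∣ orderOf x → ∃ z ∈ (P : Subgroup G), z * x * z⁻¹ ∈ Q)
    (hQfix : ∀ σ ∈ Q, σ ≠ 1 → fixS p σ = D.Y.card)
    (hH : Nat.card (Subgroup.normalizer (Q : Set G)) = p - 1) :
    ∀ y ∈ Subgroup.normalizer (Q : Set G), ∃ g : G, g * y * g⁻¹ ∈ Q :=
  Cfsg.Agent.Lib.Helper35_BR_GEO2.GEO2 P hP hC D hq2 hq hB hfix Q hQN hQP hQcard hQconj hQfix hH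

/-! ## for HG -/

/-- **MACK** (M). Mackey: if `μ^G` is irreducible and `h ∈ N_G(Q) \ N_G(P)` then `μ` and its
`h`-conjugate differ on `Q` (otherwise `⟨μ^G, μ^G⟩ ≥ 2`; here `N ∩ hNh⁻¹ = Q`). -/
theorem MACK (P : Sylow p G) (hP : Nat.card P = p)
    (hC : ∀ c ∈ Cen P, c ∈ (P : Subgroup G)) (L : LinData P) (i : L.ι)
    (χ : IrrCharacter G)
    (hind : ∀ g : G, indFun (Nrm P) (fun x : ↥(Nrm P) => L.μ i (x : G)) g = (χ : G → ℂ) g)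
    (Q : Subgroup G) (hQN : Q ≤ Nrm P) (hQP : Q ⊓ (P : Subgroup G) = ⊥)
    (hQcard : Nat.card Q = qq P) (h : G) (hh : h ∈ Subgroup.normalizer (Q : Set G))
    (hhN : h ∉ Nrm P) : ∃ σ ∈ Q, L.μ i (h * σ * h⁻¹) ≠ L.μ i σ :=
  Cfsg.Agent.Lib.Helper47_BR_MACK.MACK P hP hC L i χ hind Q hQN hQP hQcard h hh hhN

/-- **HGRP** (L, finite groups only). `H = N_G(Q)`, `Q` cyclic of order `≥ 3`, `|H| = t |Q|`,
every element of `H` is `G`-conjugate into `Q`, and `|C_Q(h)| ≤ 2` for every `h ∈ H \ Q`.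
Then `t ≤ 2`.  (A prime `r ∣ t` gives an `r`-element `y ∈ H \ Q`, of order dividing `|Q|`, acting on
the Sylow `r`-subgroup of `Q` with a nontrivial fixed point: `r = 2`.  If `4 ∣ t` let `R` be a Sylow
`2`-subgroup of `H`; if `4 ∣ |Q|` let `A ≤ Q` have order `4`, else `R` has exponent `2` and let
`A ≤ Q` have odd prime order; in both cases `|R : C_R(A)| ≤ 2`, so `C_R(A) ⊄ Q` and some
`y ∈ H \ Q` centralizes `A`, `|A| ≥ 3`.) -/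
theorem HGRP (Q : Subgroup G) (hQcyc : IsCyclic Q) (t : ℕ)
    (hq3 : 3 ≤ Nat.card Q)
    (hH : Nat.card (Subgroup.normalizer (Q : Set G)) = t * Nat.card Q)
    (hconj : ∀ y ∈ Subgroup.normalizer (Q : Set G), ∃ g : G, g * y * g⁻¹ ∈ Q)
    (hfew : ∀ h ∈ Subgroup.normalizer (Q : Set G), h ∉ Q →
      Nat.card {σ : ↥Q // h * (σ : G) * h⁻¹ = (σ : G)} ≤ 2) :
    t ≤ 2 :=
  Cfsg.Agent.Lib.Helper60_BR_HGRP.HGRP Q hQcyc t hq3 hH hconj hfew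

/-- **DUAL** (M). An automorphism of a finite cyclic group with at least three fixed points fixes
at least three characters (`#`invariant characters `= |Q/[Q,h]| = |C_Q(h)|`). -/
theorem DUAL (Q : Subgroup G) (hQcyc : IsCyclic Q) (h : G)
    (hh : h ∈ Subgroup.normalizer (Q : Set G))
    (h3 : 3 ≤ Nat.card {σ : ↥Q // h * (σ : G) * h⁻¹ = (σ : G)}) :
    ∃ f₁ f₂ f₃ : ↥Q →* ℂˣ, f₁ ≠ f₂ ∧ f₁ ≠ f₃ ∧ f₂ ≠ f₃ ∧
      ∀ f ∈ ({f₁, f₂, f₃} : Set (↥Q →* ℂˣ)), ∀ σ : ↥Q, ∀ hσ : h * (σ : G) * h⁻¹ ∈ Q,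
        f ⟨h * (σ : G) * h⁻¹, hσ⟩ = f σ :=
  Cfsg.Agent.Lib.Helper58_BR_DUAL.DUAL Q hQcyc h hh h3

/-- **EXT** (M). A homomorphism `Q → ℂˣ` is the restriction of some `μ_i`
(`N_G(P) = P ⋊ Q`; extend by `z σ ↦ f σ` and use `LinData.hμ_surj`). -/
theorem EXT (P : Sylow p G) (hP : Nat.card P = p)
    (hC : ∀ c ∈ Cen P, c ∈ (P : Subgroup G)) (L : LinData P)
    (Q : Subgroup G) (hQN : Q ≤ Nrm P) (hQP : Q ⊓ (P : Subgroup G) = ⊥)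
    (hQcard : Nat.card Q = qq P) (f : ↥Q →* ℂˣ) :
    ∃ i : L.ι, ∀ σ : ↥Q, L.μ i (σ : G) = ((f σ : ℂˣ) : ℂ) :=
  Cfsg.Agent.Lib.Helper58_BR_EXT.EXT P hP hC L Q hQN hQP hQcard f

end Cfsg.Agent.Lib.Helper77_BRAdapter
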