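import Mathlib
import Cfsg.Agent.Lib.Helper75_BRDefs
import Cfsg.Agent.Lib.Helper78_CentralNilp
import Cfsg.Agent.Lib.Helper78_CharFacts
import Cfsg.Agent.Lib.Helper77_BR_B3DIMaux
import Cfsg.Agent.Lib.Helper3_BR_RKLIFTIND

/-!
# brandt market (architect helper75), package B3-DIM (helper77): `finrank_blockSub`, verbatim.
`Helper77_BR_B3DIMaux.finrank_blockSub_of` fed with `Helper3_BR_RKLIFTIND.linearIndependent_of_redG`.
-/

set_option autoImplicit false

namespace Cfsg.Agent.Lib.Helper77_BR_B3DIM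

open Cfsg Cfsg.Agent.Lib.Helper78_LocalRing Cfsg.Agent.Lib.Helper78_GroupRing
  Cfsg.Agent.Lib.Helper79_Residue Cfsg.Agent.Lib.Helper75_BRDefs

universe u v w

section B

variable {G : Type u} [Group G] [Fintype G] {M : Ideal AlgInt} [hmax : M.IsMaximal]

/-- **B3 (DIM)**. The block algebra over the residue field has dimension `∑_{χ ∈ B} χ(1)²`. -/
theorem finrank_blockSub {B : Set (IrrCharacter G)} (hB : IsPBlock M B) :
    Module.finrank (ResField M) (blockSub M B) = ∑ᶠ χ ∈ B, charDegree (χ : G → ℂ) ^ 2 := by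
  exact Cfsg.Agent.Lib.Helper77_BR_B3DIMaux.finrank_blockSub_of
    (fun r a ha h => Cfsg.Agent.Lib.Helper3_BR_RKLIFTIND.linearIndependent_of_redG a ha h) hB

end B

end Cfsg.Agent.Lib.Helper77_BR_B3DIM
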