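import Cfsg.Agent.Lib.Helper77_BSWDefs2
import Cfsg.Agent.Lib.Helper77_BSWBridge1
import Cfsg.Agent.Lib.Helper65_BSW_A2

/-!
# Brauer–Suzuki–Wall, bridge 2: consequences of `Coefs` (helper77)

For `C : Coefs K ν a`: `a lam χ = (phi K lam, χ) = (χ, phi K lam)`, `phi K lam = Σ_χ a lam χ · χ`,
the Gram matrix and the degree equation in terms of `a`.
-/

set_option autoImplicit false
open Cfsg
open scoped ComplexConjugate

namespace Cfsg.Agent.Lib.Helper77_BSWBridge2

open Cfsg.Agent.Lib.Helper77_BSWDefs Cfsg.Agent.Lib.Helper77_BSWDefs2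
  Cfsg.Agent.Lib.Helper80_CharBasic Cfsg.Agent.Lib.Helper3_CharComplete
  Cfsg.Agent.Lib.Helper3_CharOrtho Cfsg.Agent.Lib.Helper3_CharBridge
  Cfsg.Agent.Lib.Helper77_BSWBridge1 Cfsg.Agent.Lib.Helper65_BSW_A2

variable {G : Type*} [Group G] [Fintype G] {t s : G} {K : Subgroup G} [Fintype ↥K]
  {ν : IrrCharacter ↥K} {a : IrrCharacter ↥K → IrrCharacter G → ℤ}

/-- The canonical coefficients. -/
noncomputable def coefK (K : Subgroup G) [Fintype ↥K] :
    IrrCharacter ↥K → IrrCharacter G → ℤ :=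
  coef (K := K) (fun lam => phi_isGeneralizedCharacter lam)

theorem coefK_spec (lam : IrrCharacter ↥K) (χ : IrrCharacter G) :
    classInner (χ : G → ℂ) (phi K lam) = (coefK K lam χ : ℂ) :=
  coef_spec' (K := K) (fun lam => phi_isGeneralizedCharacter lam) lam χ

theorem coefs_eq_coefK (C : Coefs K ν a) : a = coefK K := by
  funext lam χ
  have h1 := C.ha lam χ
  rw [coefK_spec] at h1
  exact_mod_cast h1.symm

theorem coefs_inner (C : Coefs K ν a) (lam : IrrCharacter ↥K) (χ : IrrCharacter G) :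
    classInner (phi K lam) (χ : G → ℂ) = (a lam χ : ℂ) := by
  rw [← classInner_conj_symm, C.ha]
  simp

theorem coefs_phi_eq_sum (C : Coefs K ν a) (lam : IrrCharacter ↥K) (g : G) :
    phi K lam g = ∑ χ : IrrCharacter G, (a lam χ : ℂ) * (χ : G → ℂ) g := by
  rw [coefs_eq_coefK C]
  exact Cfsg.Agent.Lib.Helper77_BSWBridge1.phi_eq_sum (K := K)
    (fun lam => phi_isGeneralizedCharacter lam) (fun lam => phi_isClassFunction lam) lam g

theorem coefs_gram (C : Coefs K ν a) (lam mu : IrrCharacter ↥K) :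
    ((∑ χ : IrrCharacter G, a lam χ * a mu χ : ℤ) : ℂ) =
      classInner (phi K lam) (phi K mu) := by
  rw [coefs_eq_coefK C]
  exact sum_coef_mul (K := K)
    (fun lam => phi_isGeneralizedCharacter lam) (fun lam => phi_isClassFunction lam) lam mu

theorem coefs_deg (C : Coefs K ν a) (hcomm : ∀ x ∈ K, ∀ y ∈ K, x * y = y * x)
    (lam : IrrCharacter ↥K) :
    ∑ χ : IrrCharacter G, a lam χ * (charDegree (χ : G → ℂ) : ℤ) = 0 := by
  rw [coefs_eq_coefK C]
  exact sum_coef_deg (K := K)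
    (fun lam => phi_isGeneralizedCharacter lam) (fun lam => phi_isClassFunction lam) lam
    (phi_one hcomm lam)

theorem coefs_apply_one (C : Coefs K ν a) (h : Setup t s K) (hB : Basics t s K)
    (lam : IrrCharacter ↥K) (hlam : lam ≠ oneIrr ↥K) : a lam (oneIrr G) = 1 := by
  rw [coefs_eq_coefK C]
  exact coef_one (K := K) (fun lam => phi_isGeneralizedCharacter lam) lam
    (classInner_phi_one h hB lam hlam)

/-- `Coefs` for the canonical coefficients. -/
theorem coefs_coefK (ν : IrrCharacter ↥K) (hν1 : ν ≠ oneIrr ↥K) (hνr : cj ν = ν)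
    (hνu : ∀ lam : IrrCharacter ↥K, cj lam = lam → lam = oneIrr ↥K ∨ lam = ν) :
    Coefs K ν (coefK K) :=
  ⟨hν1, hνr, hνu, coefK_spec⟩

end Cfsg.Agent.Lib.Helper77_BSWBridge2
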