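import Mathlib
import Cfsg.Agent.Lib.Helper61_SL2

/-!
# Commuting is transitive on the non-identity elements of `SL(2, F)` in characteristic 2 (helper77)

The centralizer of a non-scalar `2 × 2` matrix is commutative.  In characteristic two the only
scalar matrix of determinant one is the identity, hence `SL(2, F)` (and `PSL(2, F)`) is a CT-group.
-/

set_option autoImplicit false

namespace Cfsg.Agent.Lib.Helper77_CAConv

open Matrix

variable {F : Type*} [Field F]

/-- Vectors of `F³` parallel to a common vector with nonzero first coordinate are parallel. -/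
theorem cross1 (a1 a2 a3 b1 b2 b3 c1 c2 c3 : F) (hb : b1 ≠ 0)
    (h12 : a1 * b2 = b1 * a2) (h13 : a1 * b3 = b1 * a3)
    (k12 : c1 * b2 = b1 * c2) (k13 : c1 * b3 = b1 * c3) :
    a1 * c2 = c1 * a2 ∧ a1 * c3 = c1 * a3 ∧ a2 * c3 = c2 * a3 := by
  have ha2 : a2 = a1 / b1 * b2 := by field_simp; linear_combination -h12
  have ha3 : a3 = a1 / b1 * b3 := by field_simp; linear_combination -h13
  have hc2 : c2 = c1 / b1 * b2 := by field_simp; linear_combination -k12
  have hc3 : c3 = c1 / b1 * b3 := by field_simp; linear_combination -k13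
  refine ⟨?_, ?_, ?_⟩
  · rw [ha2, hc2]; ring
  · rw [ha3, hc3]; ring
  · rw [ha2, ha3, hc2, hc3]; ring

/-- Vectors of `F³` parallel to a common nonzero vector are parallel. -/
theorem cross (a1 a2 a3 b1 b2 b3 c1 c2 c3 : F) (hb : b1 ≠ 0 ∨ b2 ≠ 0 ∨ b3 ≠ 0)
    (h12 : a1 * b2 = b1 * a2) (h13 : a1 * b3 = b1 * a3) (h23 : a2 * b3 = b2 * a3)
    (k12 : c1 * b2 = b1 * c2) (k13 : c1 * b3 = b1 * c3) (k23 : c2 * b3 = b2 * c3) :
    a1 * c2 = c1 * a2 ∧ a1 * c3 = c1 * a3 ∧ a2 * c3 = c2 * a3 := by
  rcases hb with hb | hb | hb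
  · exact cross1 a1 a2 a3 b1 b2 b3 c1 c2 c3 hb h12 h13 k12 k13
  · obtain ⟨g1, g2, g3⟩ := cross1 a2 a1 a3 b2 b1 b3 c2 c1 c3 hb
      (by linear_combination -h12) h23 (by linear_combination -k12) k23
    exact ⟨by linear_combination -g1, g3, g2⟩
  · obtain ⟨g1, g2, g3⟩ := cross1 a3 a1 a2 b3 b1 b2 c3 c1 c2 hb
      (by linear_combination -h13) (by linear_combination -h23)
      (by linear_combination -k13) (by linear_combination -k23)
    exact ⟨g3, by linear_combination -g1, by linear_combination -g2⟩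

/-- Two matrices commuting with a common non-scalar `2 × 2` matrix commute. -/
theorem mul_comm_of_commute_nonscalar (A B C : Matrix (Fin 2) (Fin 2) F)
    (hB : B 0 1 ≠ 0 ∨ B 1 0 ≠ 0 ∨ B 0 0 ≠ B 1 1)
    (hAB : A * B = B * A) (hBC : B * C = C * B) : A * C = C * A := by
  have h00 := congrFun (congrFun hAB 0) 0
  have h01 := congrFun (congrFun hAB 0) 1
  have h10 := congrFun (congrFun hAB 1) 0
  have k00 := congrFun (congrFun hBC 0) 0
  have k01 := congrFun (congrFun hBC 0) 1
  have k10 := congrFun (congrFun hBC 1) 0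
  simp only [Matrix.mul_apply, Fin.sum_univ_two] at h00 h01 h10 k00 k01 k10
  have hB' : B 0 1 ≠ 0 ∨ B 1 0 ≠ 0 ∨ B 0 0 - B 1 1 ≠ 0 := by
    rcases hB with h | h | h
    · exact Or.inl h
    · exact Or.inr (Or.inl h)
    · exact Or.inr (Or.inr (sub_ne_zero.mpr h))
  obtain ⟨g1, g2, g3⟩ := cross (A 0 1) (A 1 0) (A 0 0 - A 1 1) (B 0 1) (B 1 0) (B 0 0 - B 1 1)
    (C 0 1) (C 1 0) (C 0 0 - C 1 1) hB'
    (by linear_combination h00) (by linear_combination -h01) (by linear_combination h10)
    (by linear_combination -k00) (by linear_combination k01) (by linear_combination -k10)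
  ext i j
  fin_cases i <;> fin_cases j <;> simp only [Matrix.mul_apply, Fin.sum_univ_two, Fin.zero_eta,
    Fin.mk_one, Fin.isValue]
  · linear_combination g1
  · linear_combination -g2
  · linear_combination g3
  · linear_combination -g1

variable [CharP F 2]

/-- In characteristic two a non-identity element of `SL(2, F)` is not a scalar matrix. -/
theorem nonscalar_of_ne_one (b : SpecialLinearGroup (Fin 2) F) (hb : b ≠ 1) :
    (b : Matrix (Fin 2) (Fin 2) F) 0 1 ≠ 0 ∨ (b : Matrix (Fin 2) (Fin 2) F) 1 0 ≠ 0 ∨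
      (b : Matrix (Fin 2) (Fin 2) F) 0 0 ≠ (b : Matrix (Fin 2) (Fin 2) F) 1 1 := by
  by_contra hcon
  push Not at hcon
  obtain ⟨h01, h10, h00⟩ := hcon
  apply hb
  have hdet := b.det_coe
  rw [Matrix.det_fin_two, h01, h10, ← h00] at hdet
  have h2 : (2 : F) = 0 := CharP.cast_eq_zero F 2
  have hsq : ((b : Matrix (Fin 2) (Fin 2) F) 0 0 - 1) * ((b : Matrix (Fin 2) (Fin 2) F) 0 0 - 1)
      = 0 := by
    linear_combination hdet + (1 - (b : Matrix (Fin 2) (Fin 2) F) 0 0) * h2
  have h1 : (b : Matrix (Fin 2) (Fin 2) F) 0 0 = 1 := by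
    rcases mul_self_eq_zero.mp hsq with h
    exact sub_eq_zero.mp h
  apply Subtype.ext
  ext i j
  fin_cases i <;> fin_cases j
  · simpa using h1
  · simpa using h01
  · simpa using h10
  · simpa using (h00.symm.trans h1)

/-- `SL(2, F)` is a CT-group in characteristic two. -/
theorem commute_trans_sl2 (a b c : SpecialLinearGroup (Fin 2) F) (hb : b ≠ 1)
    (hab : Commute a b) (hbc : Commute b c) : Commute a c := by
  have hAB : (a : Matrix (Fin 2) (Fin 2) F) * (b : Matrix (Fin 2) (Fin 2) F)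
      = (b : Matrix (Fin 2) (Fin 2) F) * (a : Matrix (Fin 2) (Fin 2) F) := by
    have := congrArg Subtype.val hab.eq
    simpa using this
  have hBC : (b : Matrix (Fin 2) (Fin 2) F) * (c : Matrix (Fin 2) (Fin 2) F)
      = (c : Matrix (Fin 2) (Fin 2) F) * (b : Matrix (Fin 2) (Fin 2) F) := by
    have := congrArg Subtype.val hbc.eq
    simpa using this
  have := mul_comm_of_commute_nonscalar _ _ _ (nonscalar_of_ne_one b hb) hAB hBC
  show a * c = c * a
  apply Subtype.ext
  simpa using this

/-- Any group isomorphic to `PSL(2, F)`, `F` of characteristic two, is a CT-group. -/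
theorem commute_trans_of_mulEquiv {G : Type*} [Group G]
    (e : G ≃* Matrix.ProjectiveSpecialLinearGroup (Fin 2) F) (a b c : G) (hb : b ≠ 1)
    (hab : Commute a b) (hbc : Commute b c) : Commute a c := by
  let e' : G ≃* SpecialLinearGroup (Fin 2) F := e.trans Cfsg.Agent.Lib.Helper61_SL2.pslEquivSl
  have hb' : e' b ≠ 1 := fun h => hb (e'.injective (h.trans (map_one e').symm))
  have h := commute_trans_sl2 (e' a) (e' b) (e' c) hb' (hab.map e') (hbc.map e')
  have h2 : e' (a * c) = e' (c * a) := by rw [map_mul, map_mul]; exact h.eq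
  exact e'.injective h2

end Cfsg.Agent.Lib.Helper77_CAConv
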