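import Mathlib
import Cfsg.Agent.Lib.Helper21_BSW

/-!
# CA-groups, part (a): the centralizer of an involution (helper77)

`CT G`: commuting is transitive on the non-identity elements of `G`.  For a finite non-abelian
simple CT-group and an involution `t`, the centralizer `A = C(t)` is an abelian T.I. subgroup
containing a Sylow 2-subgroup, `cA t < N(cA t)`, and `N(cA t)` is strongly embedded.
-/

set_option autoImplicit false
open Cfsg

namespace Cfsg.Agent.Lib.Helper77_CAa

open Cfsg.Agent.Lib.Helper21_StronglyEmbedded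

variable {G : Type*} [Group G]

/-- Commuting is transitive on the non-identity elements. -/
def CT (G : Type*) [Group G] : Prop :=
  ∀ a b c : G, a ≠ 1 → b ≠ 1 → c ≠ 1 → Commute a b → Commute b c → Commute a c

theorem CT.commute_of_commute (h : CT G) {x y z : G} (hx : x ≠ 1) (hy : Commute x y)
    (hz : Commute x z) : Commute y z := by
  by_cases hy1 : y = 1
  · subst hy1; exact Commute.one_left z
  by_cases hz1 : z = 1
  · subst hz1; exact Commute.one_right y
  exact h y x z hy1 hx hz1 hy.symm hz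

theorem mem_centralizer_singleton {x z : G} :
    z ∈ Subgroup.centralizer ({x} : Set G) ↔ Commute x z := by
  rw [Subgroup.mem_centralizer_singleton_iff]
  exact ⟨fun h => h.symm, fun h => h.symm⟩

theorem CT.centralizer_eq (h : CT G) {x y : G} (hx : x ≠ 1) (hy : y ≠ 1) (hxy : Commute x y) :
    Subgroup.centralizer ({y} : Set G) = Subgroup.centralizer ({x} : Set G) := by
  ext z
  rw [mem_centralizer_singleton, mem_centralizer_singleton]
  constructor
  · intro hz
    exact h.commute_of_commute hy hxy.symm hz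
  · intro hz
    exact h.commute_of_commute hx hxy hz

theorem conj_ne_one {g k : G} (hk : k ≠ 1) : g * k * g⁻¹ ≠ 1 := by
  intro h
  apply hk
  have : k = g⁻¹ * (g * k * g⁻¹) * g := by group
  rw [this, h]; group

/-- `A = C(t)`. -/
abbrev cA (t : G) : Subgroup G := Subgroup.centralizer ({t} : Set G)

/-- `H = N(C(t))`. -/
abbrev cH (t : G) : Subgroup G := Subgroup.normalizer ((cA t : Subgroup G) : Set G)

section Invol

variable (hCT : CT G) {t : G} (ht : orderOf t = 2)


include ht in
theorem t_ne_one : t ≠ 1 := by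
  intro h
  rw [h, orderOf_one] at ht
  omega

theorem t_mem : t ∈ cA t := mem_centralizer_singleton.mpr (Commute.refl t)

include hCT ht in
theorem A_comm : ∀ a ∈ cA t, ∀ b ∈ cA t, a * b = b * a := by
  intro a ha b hb
  exact (hCT.commute_of_commute (t_ne_one ht) (mem_centralizer_singleton.mp ha)
    (mem_centralizer_singleton.mp hb)).eq

include hCT ht in
theorem cent_eq {x : G} (hx : x ∈ cA t) (hx1 : x ≠ 1) : Subgroup.centralizer ({x} : Set G) = cA t :=
  hCT.centralizer_eq (t_ne_one ht) hx1 (mem_centralizer_singleton.mp hx)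

include hCT ht in
/-- `cA t` is a T.I. subgroup. -/
theorem TI : ∀ g : G, g ∉ cH t → ∀ k ∈ cA t, g * k * g⁻¹ ∈ cA t → k = 1 := by
  intro g hg k hk hgk
  by_contra hk1
  apply hg
  have h1 := cent_eq hCT ht hk hk1
  have h2 := cent_eq hCT ht hgk (conj_ne_one hk1)
  rw [Subgroup.mem_normalizer_iff]
  intro h
  constructor
  · intro hh
    rw [← h2, mem_centralizer_singleton]
    rw [← h1, mem_centralizer_singleton] at hh
    have := hh.eq
    show g * k * g⁻¹ * (g * h * g⁻¹) = g * h * g⁻¹ * (g * k * g⁻¹)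
    calc g * k * g⁻¹ * (g * h * g⁻¹) = g * (k * h) * g⁻¹ := by group
      _ = g * (h * k) * g⁻¹ := by rw [this]
      _ = g * h * g⁻¹ * (g * k * g⁻¹) := by group
  · intro hh
    rw [← h2, mem_centralizer_singleton] at hh
    rw [← h1, mem_centralizer_singleton]
    have := hh.eq
    show k * h = h * k
    calc k * h = g⁻¹ * (g * k * g⁻¹ * (g * h * g⁻¹)) * g := by group
      _ = g⁻¹ * (g * h * g⁻¹ * (g * k * g⁻¹)) * g := by rw [this]
      _ = h * k := by group

include hCT ht in
theorem cent_le {k : G} (hk : k ∈ cA t) (hk1 : k ≠ 1) : Subgroup.centralizer ({k} : Set G) ≤ cA t :=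
  (cent_eq hCT ht hk hk1).le

end Invol

/-- A `2`-element normalizing a Sylow `2`-subgroup lies in it. -/
theorem mem_sylow_of_mem_normalizer [Finite G] (T : Sylow 2 G) {x : G}
    (hx : IsPGroup 2 (Subgroup.zpowers x))
    (hxN : x ∈ Subgroup.normalizer ((T : Subgroup G) : Set G)) : x ∈ T := by
  have : Fact (Nat.Prime 2) := ⟨Nat.prime_two⟩
  have hT2 : IsPGroup 2 (T : Subgroup G) := T.isPGroup'
  have hle : Subgroup.zpowers x ≤ Subgroup.normalizer ((T : Subgroup G) : Set G) :=
    Subgroup.zpowers_le.mpr hxN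
  have hsup : IsPGroup 2 (Subgroup.zpowers x ⊔ (T : Subgroup G) : Subgroup G) :=
    hx.to_sup_of_normal_right' hT2 hle
  have := T.is_maximal' hsup le_sup_right
  have h2 : x ∈ Subgroup.zpowers x ⊔ (T : Subgroup G) :=
    le_sup_left (a := Subgroup.zpowers x) (Subgroup.mem_zpowers x)
  rw [this] at h2
  exact h2

set_option linter.unusedSectionVars false

section Simple

variable [Finite G] [IsSimpleGroup G] (hna : ¬ IsMulCommutative G)
  (hCT : CT G) {t : G} (ht : orderOf t = 2)

include hna in
theorem center_eq_bot : Subgroup.center G = ⊥ := by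
  rcases (inferInstance : (Subgroup.center G).Normal).eq_bot_or_eq_top with h | h
  · exact h
  · exfalso
    apply hna
    refine ⟨⟨fun a b => ?_⟩⟩
    have ha : a ∈ Subgroup.center G := h ▸ Subgroup.mem_top a
    exact ((Subgroup.mem_center_iff.mp ha) b).symm

include hna ht in
theorem A_ne_top : cA t ≠ ⊤ := by
  intro h
  apply t_ne_one ht
  have htc : t ∈ Subgroup.center G := by
    rw [Subgroup.mem_center_iff]
    intro g
    have hg : g ∈ cA t := h ▸ Subgroup.mem_top g
    exact (mem_centralizer_singleton.mp hg).eq.symm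
  rw [center_eq_bot hna] at htc
  exact Subgroup.mem_bot.mp htc

include hna ht in
theorem H_ne_top : cH t ≠ ⊤ := by
  intro h
  have hn : (cA t).Normal := Subgroup.normalizer_eq_top_iff.mp h
  rcases hn.eq_bot_or_eq_top with h1 | h1
  · apply t_ne_one ht
    have := t_mem (t := t)
    rw [h1] at this
    exact Subgroup.mem_bot.mp this
  · exact A_ne_top hna ht h1

include hCT ht in
/-- `A` contains a Sylow `2`-subgroup of `G` containing `t`. -/
theorem exists_sylow : ∃ T : Sylow 2 G, t ∈ T ∧ (T : Subgroup G) ≤ cA t := by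
  have : Fact (Nat.Prime 2) := ⟨Nat.prime_two⟩
  have hz2 : IsPGroup 2 (Subgroup.zpowers t) := isPGroup_zpowers_of_orderOf_eq_two ht
  obtain ⟨T, hT⟩ := hz2.exists_le_sylow
  have htT : t ∈ T := hT (Subgroup.mem_zpowers t)
  refine ⟨T, htT, ?_⟩
  have hT2 : IsPGroup 2 (T : Subgroup G) := T.isPGroup'
  have hnt : Nontrivial (T : Subgroup G) :=
    ⟨⟨⟨t, htT⟩, 1, fun h => t_ne_one ht (congrArg Subtype.val h)⟩⟩
  have hcnt : Nontrivial (Subgroup.center (T : Subgroup G)) := hT2.center_nontrivial
  obtain ⟨z, hz1⟩ := exists_ne (1 : Subgroup.center (T : Subgroup G))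
  have hz'1 : ((z : (T : Subgroup G)) : G) ≠ 1 := by
    intro h
    apply hz1
    apply Subtype.ext
    apply Subtype.ext
    exact h
  have hcomm : ∀ y : G, y ∈ T → Commute ((z : (T : Subgroup G)) : G) y := by
    intro y hy
    have := Subgroup.mem_center_iff.mp z.2 ⟨y, hy⟩
    exact (congrArg Subtype.val this).symm
  have hz'A : ((z : (T : Subgroup G)) : G) ∈ cA t :=
    mem_centralizer_singleton.mpr (hcomm t htT).symm
  have hC := cent_eq hCT ht hz'A hz'1
  intro y hy
  rw [← hC, mem_centralizer_singleton]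
  exact hcomm y hy

include hCT ht in
/-- `N(A)` normalizes every Sylow `2`-subgroup of `G` contained in `A`. -/
theorem normalizer_le (T : Sylow 2 G) (hTA : (T : Subgroup G) ≤ cA t) :
    cH t ≤ Subgroup.normalizer ((T : Subgroup G) : Set G) := by
  have : Fact (Nat.Prime 2) := ⟨Nat.prime_two⟩
  intro h hh
  apply Sylow.smul_eq_iff_mem_normalizer.mp
  have hle : ((h • T : Sylow 2 G) : Subgroup G) ≤ (T : Subgroup G) := by
    intro x hx
    have hxP : IsPGroup 2 (Subgroup.zpowers x) :=
      (h • T : Sylow 2 G).isPGroup'.to_le (Subgroup.zpowers_le.mpr hx)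
    have hx0 : x ∈ (T : Subgroup G).map (MulAut.conj h).toMonoidHom := hx
    have hx' : h⁻¹ * x * h ∈ (T : Subgroup G) := mem_map_conj_iff.mp hx0
    have hxA : x ∈ cA t := by
      have h1 : h⁻¹ * x * h ∈ cA t := hTA hx'
      have h2 := (Subgroup.mem_normalizer_iff.mp hh (h⁻¹ * x * h)).mp h1
      have h3 : h * (h⁻¹ * x * h) * h⁻¹ = x := by group
      rwa [h3] at h2
    apply mem_sylow_of_mem_normalizer T hxP
    rw [Subgroup.mem_normalizer_iff]
    intro y
    have hyx : ∀ y : G, y ∈ T → x * y * x⁻¹ = y := by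
      intro y hy
      have := A_comm hCT ht x hxA y (hTA hy)
      rw [this]; group
    constructor
    · intro hy
      rw [hyx y hy]; exact hy
    · intro hy
      have h1 := hyx _ hy
      have h2 : x⁻¹ * (x * y * x⁻¹) * x = x⁻¹ * (x * (x * y * x⁻¹) * x⁻¹) * x := by rw [h1]
      have h3 : y = x * y * x⁻¹ := by
        calc y = x⁻¹ * (x * y * x⁻¹) * x := by group
          _ = x⁻¹ * (x * (x * y * x⁻¹) * x⁻¹) * x := h2
          _ = x * y * x⁻¹ := by group
      rw [h3]; exact hy
  have heq := (h • T : Sylow 2 G).is_maximal' T.isPGroup' hle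
  exact Sylow.ext heq.symm

include hCT ht in
/-- Involutions of `N(A)` lie in `A`. -/
theorem invol_mem {s : G} (hs : orderOf s = 2) (hsH : s ∈ cH t) : s ∈ cA t := by
  obtain ⟨T, -, hTA⟩ := exists_sylow hCT ht
  exact hTA (Cfsg.Agent.Lib.Helper21_BSW.mem_of_mem_normalizer T hs
    (normalizer_le hCT ht T hTA hsH))

include hna hCT ht in
/-- `N(A)` is strongly embedded. -/
theorem stronglyEmbedded : IsStronglyEmbedded (cH t) := by
  have : Fact (Nat.Prime 2) := ⟨Nat.prime_two⟩
  refine ⟨H_ne_top hna ht, ?_, ?_⟩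
  · exact even_iff_two_dvd.mpr (two_dvd_card_of_mem ht (Subgroup.le_normalizer t_mem))
  · intro g hg
    by_contra hodd
    rw [Nat.not_odd_iff_even] at hodd
    have h2 : 2 ∣ Nat.card ↥(cH t ⊓ (cH t).map (MulAut.conj g).toMonoidHom) :=
      even_iff_two_dvd.mp hodd
    obtain ⟨s, hs⟩ := exists_prime_orderOf_dvd_card' 2 h2
    have hs2 : orderOf (s : G) = 2 := by rw [← hs, Subgroup.orderOf_coe]
    have hs1 : (s : G) ∈ cA t := invol_mem hCT ht hs2 (Subgroup.mem_inf.mp s.2).1
    have hs' : g⁻¹ * (s : G) * g ∈ cH t := mem_map_conj_iff.mp (Subgroup.mem_inf.mp s.2).2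
    have hs'2 : orderOf (g⁻¹ * (s : G) * g) = 2 := by
      have := orderOf_conj_eq_two hs2 g⁻¹
      rwa [inv_inv] at this
    have hs'A : g⁻¹ * (s : G) * g ∈ cA t := invol_mem hCT ht hs'2 hs'
    have hback : g * (g⁻¹ * (s : G) * g) * g⁻¹ ∈ cA t := by
      have : g * (g⁻¹ * (s : G) * g) * g⁻¹ = (s : G) := by group
      rw [this]; exact hs1
    have h1 := TI hCT ht g hg _ hs'A hback
    rw [h1, orderOf_one] at hs'2
    omega

include hna hCT ht in
/-- `A` is properly contained in its normalizer (Burnside's transfer theorem). -/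
theorem lt_normalizer : cA t < cH t := by
  have : Fact (Nat.Prime 2) := ⟨Nat.prime_two⟩
  refine lt_of_le_of_ne Subgroup.le_normalizer ?_
  intro heq
  obtain ⟨T, htT, hTA⟩ := exists_sylow hCT ht
  have hP : Subgroup.normalizer ((T : Subgroup G) : Set G) ≤
      Subgroup.centralizer ((T : Subgroup G) : Set G) := by
    intro n hn
    have hnH : n ∈ cH t := by
      by_contra hnH
      have h1 : n * t * n⁻¹ ∈ cA t := hTA ((Subgroup.mem_normalizer_iff.mp hn t).mp htT)
      exact t_ne_one ht (TI hCT ht n hnH t t_mem h1)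
    have hnA : n ∈ cA t := heq ▸ hnH
    rw [Subgroup.mem_centralizer_iff]
    intro y hy
    exact A_comm hCT ht y (hTA hy) n hnA
  have hcompl := MonoidHom.ker_transferSylow_isComplement' T hP
  have hcard := hcompl.card_mul_card
  rcases (inferInstance : (MonoidHom.transferSylow T hP).ker.Normal).eq_bot_or_eq_top with h | h
  · rw [h, Subgroup.card_bot, one_mul] at hcard
    have hT : (T : Subgroup G) = ⊤ := Subgroup.eq_top_of_card_eq _ hcard
    apply hna
    refine ⟨⟨fun a b => ?_⟩⟩
    have ha : a ∈ (T : Subgroup G) := hT ▸ Subgroup.mem_top a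
    have hb : b ∈ (T : Subgroup G) := hT ▸ Subgroup.mem_top b
    exact A_comm hCT ht a (hTA ha) b (hTA hb)
  · rw [h, Subgroup.card_top] at hcard
    have h1 : Nat.card (T : Subgroup G) = 1 := by
      have hpos : 0 < Nat.card G := Nat.card_pos
      nlinarith [hcard]
    have h2 := Subgroup.card_eq_one.mp h1
    have : t ∈ (⊥ : Subgroup G) := h2 ▸ htT
    exact t_ne_one ht (Subgroup.mem_bot.mp this)

end Simple

end Cfsg.Agent.Lib.Helper77_CAa
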