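import Mathlib
import Cfsg.Agent.Lib.Helper77_CAa
import Cfsg.Agent.Lib.Helper21_SECount

/-!
# CA-groups, part (b): counting in `H = N(A)` (helper77)

`A = C(t)` for an involution `t` of a finite non-abelian simple CT-group, `H = N(A)`,
`k` the number of involutions of `H`.  Then `|H : A| = k`, `k ∣ |A| - 1`, `A ∩ H^g = 1` for
`g ∉ H`, and for an involution `u ∉ H` the subgroup `D = H ∩ H^u` has order `k`, is inverted by
`u`, meets `A` trivially and `H = A D`.
-/

set_option autoImplicit false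
set_option linter.unusedSectionVars false
open Cfsg

namespace Cfsg.Agent.Lib.Helper77_CAb

open Cfsg.Agent.Lib.Helper77_CAa Cfsg.Agent.Lib.Helper21_StronglyEmbedded
  Cfsg.Agent.Lib.Helper21_SECount

variable {G : Type*} [Group G]

/-- The conjugation action of a subgroup on a subtype closed under conjugation. -/
@[reducible] def conjAction (H : Subgroup G) (p : G → Prop)
    (hp : ∀ h ∈ H, ∀ x, p x → p (h * x * h⁻¹)) : MulAction H {x : G // p x} where
  smul h x := ⟨(h : G) * x * (h : G)⁻¹, hp h h.2 x x.2⟩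
  one_smul x := Subtype.ext (by
    show ((1 : H) : G) * (x : G) * ((1 : H) : G)⁻¹ = x
    simp)
  mul_smul a b x := Subtype.ext (by
    show ((a * b : H) : G) * (x : G) * ((a * b : H) : G)⁻¹
      = (a : G) * ((b : G) * x * (b : G)⁻¹) * (a : G)⁻¹
    simp [mul_assoc])

theorem conjAction_smul_coe (H : Subgroup G) (p : G → Prop)
    (hp : ∀ h ∈ H, ∀ x, p x → p (h * x * h⁻¹)) (h : H) (x : {x : G // p x}) :
    (((conjAction H p hp).smul h x : {x : G // p x}) : G) = (h : G) * x * (h : G)⁻¹ := rfl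

/-- The number of involutions of `H = N(C(t))`. -/
noncomputable def kk (t : G) : ℕ := Nat.card {s : G // orderOf s = 2 ∧ s ∈ cH t}

section Simple

variable [Finite G] [IsSimpleGroup G] (hna : ¬ IsMulCommutative G)
  (hCT : CT G) {t : G} (ht : orderOf t = 2)

include ht in
theorem kk_pos : 0 < kk t := by
  unfold kk
  exact Nat.card_pos_iff.mpr ⟨⟨⟨t, ht, Subgroup.le_normalizer t_mem⟩⟩, inferInstance⟩

include hna hCT ht in
/-- `|H : A|` is the number of involutions of `H`. -/
theorem relIndex_eq : (cA t).relIndex (cH t) = kk t := by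
  have hSE := stronglyEmbedded hna hCT ht
  have hp : ∀ h ∈ cH t, ∀ x, (orderOf x = 2 ∧ x ∈ cH t) →
      (orderOf (h * x * h⁻¹) = 2 ∧ h * x * h⁻¹ ∈ cH t) := by
    intro h hh x hx
    exact ⟨orderOf_conj_eq_two hx.1 h,
      (cH t).mul_mem ((cH t).mul_mem hh hx.2) ((cH t).inv_mem hh)⟩
  let _ := conjAction (cH t) (fun x => orderOf x = 2 ∧ x ∈ cH t) hp
  have htr : MulAction.IsPretransitive (cH t) {x : G // orderOf x = 2 ∧ x ∈ cH t} := by
    refine ⟨fun x y => ?_⟩
    obtain ⟨g, hg⟩ := isConj_iff.mp (isConj_of_involutions hSE x.2.1 y.2.1)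
    have hxA := invol_mem hCT ht x.2.1 x.2.2
    have hyA := invol_mem hCT ht y.2.1 y.2.2
    have hgH : g ∈ cH t := by
      by_contra hgH
      have := TI hCT ht g hgH x.1 hxA (hg ▸ hyA)
      have h2 := x.2.1
      rw [this, orderOf_one] at h2
      omega
    exact ⟨⟨g, hgH⟩, Subtype.ext hg⟩
  have hst : MulAction.stabilizer (cH t)
      (⟨t, ht, Subgroup.le_normalizer t_mem⟩ : {x : G // orderOf x = 2 ∧ x ∈ cH t})
      = (cA t).subgroupOf (cH t) := by
    ext h
    rw [MulAction.mem_stabilizer_iff, Subgroup.mem_subgroupOf, mem_centralizer_singleton]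
    constructor
    · intro hh
      have h1 : (h : G) * t * (h : G)⁻¹ = t := congrArg Subtype.val hh
      show t * (h : G) = (h : G) * t
      calc t * (h : G) = ((h : G) * t * (h : G)⁻¹) * h := by rw [h1]
        _ = (h : G) * t := by group
    · intro hh
      apply Subtype.ext
      show (h : G) * t * (h : G)⁻¹ = t
      have h1 : t * (h : G) = (h : G) * t := hh
      rw [← h1]; group
  have := MulAction.index_stabilizer_of_transitive (cH t)
    (⟨t, ht, Subgroup.le_normalizer t_mem⟩ : {x : G // orderOf x = 2 ∧ x ∈ cH t})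
  rw [hst] at this
  exact this

include hna hCT ht in
theorem card_H : Nat.card (cH t) = Nat.card (cA t) * kk t := by
  rw [← relIndex_eq hna hCT ht]
  have h1 := Subgroup.card_mul_index ((cA t).subgroupOf (cH t))
  have h2 : Nat.card ((cA t).subgroupOf (cH t)) = Nat.card (cA t) :=
    Nat.card_congr (Subgroup.subgroupOfEquivOfLe Subgroup.le_normalizer).toEquiv
  rw [h2] at h1
  exact h1.symm

include hna hCT ht in
/-- `k ≥ 2`. -/
theorem two_le_kk : 2 ≤ kk t := by
  by_contra hlt
  have h1 : kk t = 1 := by have := kk_pos ht; omega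
  have h2 := card_H hna hCT ht
  rw [h1, mul_one] at h2
  have hlt' := lt_normalizer hna hCT ht
  have : cA t = cH t := Subgroup.eq_of_le_of_card_ge hlt'.le h2.le
  exact hlt'.ne this

include hna hCT ht in
/-- `k` divides `|A| - 1`: the conjugation action of `H` on `A \ {1}` has orbits of length `k`. -/
theorem kk_dvd : kk t ∣ Nat.card (cA t) - 1 := by
  classical
  have hp : ∀ h ∈ cH t, ∀ x, (x ∈ cA t ∧ x ≠ 1) → (h * x * h⁻¹ ∈ cA t ∧ h * x * h⁻¹ ≠ 1) := by
    intro h hh x hx
    exact ⟨(Subgroup.mem_normalizer_iff.mp hh x).mp hx.1, conj_ne_one hx.2⟩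
  let _ := conjAction (cH t) (fun x => x ∈ cA t ∧ x ≠ 1) hp
  have hst : ∀ x : {x : G // x ∈ cA t ∧ x ≠ 1},
      MulAction.stabilizer (cH t) x = (cA t).subgroupOf (cH t) := by
    intro x
    ext h
    have hce := cent_eq hCT ht x.2.1 x.2.2
    have key : (h : G) ∈ cA t ↔ Commute (x : G) (h : G) :=
      (SetLike.ext_iff.mp hce (h : G)).symm.trans mem_centralizer_singleton
    rw [MulAction.mem_stabilizer_iff, Subgroup.mem_subgroupOf, key]
    constructor
    · intro hh
      have h1 : (h : G) * x * (h : G)⁻¹ = x := congrArg Subtype.val hh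
      show (x : G) * (h : G) = (h : G) * x
      calc (x : G) * (h : G) = ((h : G) * x * (h : G)⁻¹) * h := by rw [h1]
        _ = (h : G) * x := by group
    · intro hh
      apply Subtype.ext
      show (h : G) * x * (h : G)⁻¹ = x
      have h1 : (x : G) * (h : G) = (h : G) * x := hh
      rw [← h1]; group
  have e := MulAction.selfEquivSigmaOrbitsQuotientStabilizer (cH t) {x : G // x ∈ cA t ∧ x ≠ 1}
  have hcard : Nat.card {x : G // x ∈ cA t ∧ x ≠ 1} = Nat.card (cA t) - 1 := by
    rw [← Cfsg.Agent.Lib.Helper21_BSW.card_subtype_ne_one (cA t)]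
    apply Nat.card_congr
    exact
      { toFun := fun x => ⟨⟨x.1, x.2.1⟩, fun h => x.2.2 (congrArg Subtype.val h)⟩
        invFun := fun x => ⟨x.1.1, x.1.2, fun h => x.2 (Subtype.ext h)⟩
        left_inv := fun x => rfl
        right_inv := fun x => rfl }
  have : Fintype (Quotient (MulAction.orbitRel (cH t) {x : G // x ∈ cA t ∧ x ≠ 1})) :=
    Fintype.ofFinite _
  rw [← hcard, Nat.card_congr e, Nat.card_sigma]
  apply Finset.dvd_sum
  intro ω _
  have : Nat.card (↥(cH t) ⧸ MulAction.stabilizer (cH t) (Quotient.out ω))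
      = (MulAction.stabilizer (cH t) (Quotient.out ω)).index := rfl
  rw [this, hst, ← relIndex_eq hna hCT ht]
  exact dvd_rfl

include hna hCT ht in
theorem coprime_card_kk : Nat.Coprime (Nat.card (cA t)) (kk t) := by
  have h1 := kk_dvd hna hCT ht
  have hpos : 0 < Nat.card (cA t) := Nat.card_pos
  obtain ⟨n, hn⟩ : ∃ n, Nat.card (cA t) = n + 1 := ⟨Nat.card (cA t) - 1, by omega⟩
  rw [hn] at h1 ⊢
  have h2 : Nat.Coprime (n + 1) n := by simp
  exact Nat.Coprime.coprime_dvd_right (by simpa using h1) h2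

include hna hCT ht in
theorem pow_kk_mem {y : G} (hy : y ∈ cH t) : y ^ kk t ∈ cA t := by
  have hn : ((cA t).subgroupOf (cH t)).Normal := Subgroup.normal_in_normalizer
  have := Subgroup.pow_index_mem ((cA t).subgroupOf (cH t)) ⟨y, hy⟩
  rw [Subgroup.mem_subgroupOf] at this
  have h2 : ((cA t).subgroupOf (cH t)).index = kk t := relIndex_eq hna hCT ht
  rw [h2] at this
  simpa using this

include hna hCT ht in
/-- `A ∩ H^g = 1` for `g ∉ H`. -/
theorem eq_one_of_mem_of_conj_mem {g x : G} (hg : g ∉ cH t) (hx : x ∈ cA t)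
    (hgx : g⁻¹ * x * g ∈ cH t) : x = 1 := by
  have h1 := pow_kk_mem hna hCT ht hgx
  have h2 : (g⁻¹ * x * g) ^ kk t = g⁻¹ * x ^ kk t * g := by
    have := conj_pow (a := g⁻¹) (b := x) (i := kk t)
    rw [inv_inv] at this
    exact this
  rw [h2] at h1
  have h3 : g * (g⁻¹ * x ^ kk t * g) * g⁻¹ ∈ cA t := by
    have : g * (g⁻¹ * x ^ kk t * g) * g⁻¹ = x ^ kk t := by group
    rw [this]
    exact (cA t).pow_mem hx _
  have h4 := TI hCT ht g hg _ h1 h3
  have h5 : x ^ kk t = 1 := by
    have : x ^ kk t = g * (g⁻¹ * x ^ kk t * g) * g⁻¹ := by group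
    rw [this, h4]; group
  have h6 : orderOf x ∣ kk t := orderOf_dvd_of_pow_eq_one h5
  have h7 : orderOf x ∣ Nat.card (cA t) := by
    have := orderOf_dvd_natCard (⟨x, hx⟩ : cA t)
    rwa [Subgroup.orderOf_mk] at this
  have h8 : orderOf x = 1 :=
    Nat.eq_one_of_dvd_coprimes (coprime_card_kk hna hCT ht) h7 h6
  exact orderOf_eq_one_iff.mp h8

/-- The two point stabilizer `D = H ∩ H^u`. -/
abbrev cD (t u : G) : Subgroup G := cH t ⊓ (cH t).map (MulAut.conj u).toMonoidHom

variable {u : G} (hu : orderOf u = 2) (huH : u ∉ cH t)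

include hna hCT ht huH in
theorem D_inf_A {x : G} (hxD : x ∈ cD t u) (hxA : x ∈ cA t) : x = 1 :=
  eq_one_of_mem_of_conj_mem hna hCT ht huH hxA (mem_map_conj_iff.mp (Subgroup.mem_inf.mp hxD).2)

include hna hCT ht huH in
theorem card_D_le : Nat.card (cD t u) ≤ kk t := by
  have h1 : (cA t ⊓ cD t u) = ⊥ := by
    rw [eq_bot_iff]
    intro x hx
    exact Subgroup.mem_bot.mpr (D_inf_A hna hCT ht huH hx.2 hx.1)
  have h2 : Nat.card (cD t u) = (cA t).relIndex (cD t u) := by
    rw [← Subgroup.inf_relIndex_right, h1, Subgroup.relIndex_bot_left]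
  rw [h2, ← relIndex_eq hna hCT ht]
  apply Subgroup.relIndex_le_of_le_right inf_le_left
  rw [relIndex_eq hna hCT ht]
  exact (kk_pos ht).ne'

include hna hCT ht hu huH in
/-- `|D| = k` and `u` inverts `D`. -/
theorem card_D_and_inverts :
    Nat.card (cD t u) = kk t ∧ ∀ d ∈ cD t u, u * d * u⁻¹ = d⁻¹ := by
  classical
  have hSE := stronglyEmbedded hna hCT ht
  have huinv : u⁻¹ = u := _root_.inv_eq_self_of_orderOf_eq_two hu
  have huu : u * u = 1 := sq_eq_one_of_orderOf_eq_two hu
  -- the involutions mapping `H` to `uH` inject into the inverted elements of `D`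
  have hcount := card_invol_map hSE (QuotientGroup.mk 1 : G ⧸ cH t) (QuotientGroup.mk u)
  let f : {i : G // orderOf i = 2 ∧ i • (QuotientGroup.mk 1 : G ⧸ cH t) = QuotientGroup.mk u} →
      {d : cD t u // u * (d : G) * u⁻¹ = (d : G)⁻¹} := fun i =>
    have hi2 : i.1 * i.1 = 1 := sq_eq_one_of_orderOf_eq_two i.2.1
    have h1 : u⁻¹ * i.1 ∈ cH t := by
      have := i.2.2
      rw [MulAction.Quotient.smul_mk, smul_eq_mul, mul_one, eq_comm, QuotientGroup.eq] at this
      exact this
    have hkey : u * (u⁻¹ * i.1) * u⁻¹ = (u⁻¹ * i.1)⁻¹ := by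
      have e1 : u * (u⁻¹ * i.1) * u⁻¹ = i.1 * u := by
        calc u * (u⁻¹ * i.1) * u⁻¹ = i.1 * u⁻¹ := by group
          _ = i.1 * u := by rw [huinv]
      have e2 : (u⁻¹ * i.1)⁻¹ = i.1⁻¹ * u := by group
      have e3 : i.1⁻¹ = i.1 := _root_.inv_eq_self_of_orderOf_eq_two i.2.1
      rw [e1, e2, e3]
    ⟨⟨u⁻¹ * i.1, Subgroup.mem_inf.mpr ⟨h1, mem_map_conj_iff.mpr (by
      have e4 : u⁻¹ * (u⁻¹ * i.1) * u = u * (u⁻¹ * i.1) * u⁻¹ := by rw [huinv]
      rw [e4, hkey]
      exact (cH t).inv_mem h1)⟩⟩, hkey⟩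
  have hf : Function.Injective f := by
    intro i j hij
    have h1 : u⁻¹ * i.1 = u⁻¹ * j.1 := congrArg (fun z => ((z.1 : cD t u) : G)) hij
    exact Subtype.ext (mul_left_cancel h1)
  have hle1 : kk t ≤ Nat.card {d : cD t u // u * (d : G) * u⁻¹ = (d : G)⁻¹} := by
    have := Nat.card_le_card_of_injective f hf
    rw [hcount] at this
    exact this
  have hle2 : Nat.card {d : cD t u // u * (d : G) * u⁻¹ = (d : G)⁻¹} ≤ Nat.card (cD t u) :=
    Nat.card_le_card_of_injective Subtype.val Subtype.val_injective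
  have hle3 := card_D_le hna hCT ht huH
  have hcard : Nat.card (cD t u) = kk t := le_antisymm hle3 (hle1.trans hle2)
  refine ⟨hcard, ?_⟩
  have heq : Nat.card {d : cD t u // u * (d : G) * u⁻¹ = (d : G)⁻¹} = Nat.card (cD t u) :=
    le_antisymm hle2 (hcard ▸ hle1)
  have hbij : Function.Bijective
      (Subtype.val : {d : cD t u // u * (d : G) * u⁻¹ = (d : G)⁻¹} → cD t u) :=
    (Nat.bijective_iff_injective_and_card _).mpr ⟨Subtype.val_injective, heq⟩
  intro d hd
  obtain ⟨x, hx⟩ := hbij.2 ⟨d, hd⟩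
  have := x.2
  rw [hx] at this
  exact this

include hna hCT ht hu huH in
/-- `H = A D`. -/
theorem exists_mul_of_mem {h : G} (hh : h ∈ cH t) : ∃ a ∈ cA t, ∃ d ∈ cD t u, h = a * d := by
  classical
  let f : (cA t) × (cD t u) → cH t := fun p =>
    ⟨(p.1 : G) * (p.2 : G), (cH t).mul_mem (Subgroup.le_normalizer p.1.2)
      (Subgroup.mem_inf.mp p.2.2).1⟩
  have hf : Function.Injective f := by
    rintro ⟨a, d⟩ ⟨a', d'⟩ h
    have h1 : (a : G) * d = (a' : G) * d' := congrArg Subtype.val h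
    have h2 : (a' : G)⁻¹ * a = (d' : G) * (d : G)⁻¹ := by
      calc (a' : G)⁻¹ * a = (a' : G)⁻¹ * ((a : G) * d) * (d : G)⁻¹ := by group
        _ = (a' : G)⁻¹ * ((a' : G) * d') * (d : G)⁻¹ := by rw [h1]
        _ = (d' : G) * (d : G)⁻¹ := by group
    have h3 : (a' : G)⁻¹ * a ∈ cA t := (cA t).mul_mem ((cA t).inv_mem a'.2) a.2
    have h4 : (a' : G)⁻¹ * a ∈ cD t u := by
      rw [h2]; exact (cD t u).mul_mem d'.2 ((cD t u).inv_mem d.2)
    have h5 := D_inf_A hna hCT ht huH h4 h3
    have h6 : (a : G) = a' := by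
      have : (a : G) = (a' : G) * ((a' : G)⁻¹ * a) := by group
      rw [this, h5, mul_one]
    have h7 : (d : G) = d' := by
      rw [h6] at h1
      exact mul_left_cancel h1
    exact Prod.ext (Subtype.ext h6) (Subtype.ext h7)
  have hcard : Nat.card ((cA t) × (cD t u)) = Nat.card (cH t) := by
    rw [Nat.card_prod, (card_D_and_inverts hna hCT ht hu huH).1, card_H hna hCT ht]
  have hbij : Function.Bijective f :=
    (Nat.bijective_iff_injective_and_card f).mpr ⟨hf, hcard⟩
  obtain ⟨⟨a, d⟩, had⟩ := hbij.2 ⟨h, hh⟩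
  exact ⟨a, a.2, d, d.2, (congrArg Subtype.val had).symm⟩

end Simple

end Cfsg.Agent.Lib.Helper77_CAb
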