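import Mathlib
import Cfsg.Agent.Lib.Helper77_CAb
import Cfsg.Agent.Lib.Helper21_BSW3

/-!
# CA-groups, part (c): double transitivity (helper77)

With `A = C(t)`, `H = N(A)`, `u ∉ H` an involution and `D = H ∩ H^u`: the centralizer of every
non-identity element of `D` is `D`, the complements `H ∩ H^w` are conjugate to `D` under `A`,
`G = H ∪ H u H`, and `|G : H| = |A| + 1`.
-/

set_option autoImplicit false
set_option linter.unusedSectionVars false
open Cfsg

namespace Cfsg.Agent.Lib.Helper77_CAc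

open Cfsg.Agent.Lib.Helper77_CAa Cfsg.Agent.Lib.Helper77_CAb
  Cfsg.Agent.Lib.Helper21_StronglyEmbedded Cfsg.Agent.Lib.Helper21_SECount

variable {G : Type*} [Group G]

section Simple

variable [Finite G] [IsSimpleGroup G] (hna : ¬ IsMulCommutative G)
  (hCT : CT G) {t : G} (ht : orderOf t = 2)
  {u : G} (hu : orderOf u = 2) (huH : u ∉ cH t)

include hna hCT ht hu huH in
theorem D_comm {d e : G} (hd : d ∈ cD t u) (he : e ∈ cD t u) : d * e = e * d :=
  Cfsg.Agent.Lib.Helper21_BSW.commute_of_inverted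
    (card_D_and_inverts hna hCT ht hu huH).2 hd he

include hna hCT ht huH in
theorem odd_card_D : Odd (Nat.card (cD t u)) :=
  (stronglyEmbedded hna hCT ht).2.2 u huH

include hna hCT ht hu huH in
/-- A subgroup of `H` meeting `A` trivially and containing `D` is `D`. -/
theorem eq_D_of_le {K : Subgroup G} (hKH : K ≤ cH t) (hDK : cD t u ≤ K)
    (hKA : ∀ x ∈ K, x ∈ cA t → x = 1) : K = cD t u := by
  have h1 : (cA t ⊓ K) = ⊥ := by
    rw [eq_bot_iff]
    intro x hx
    exact Subgroup.mem_bot.mpr (hKA x hx.2 hx.1)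
  have h2 : Nat.card K = (cA t).relIndex K := by
    rw [← Subgroup.inf_relIndex_right, h1, Subgroup.relIndex_bot_left]
  have h3 : Nat.card K ≤ kk t := by
    rw [h2, ← relIndex_eq hna hCT ht]
    apply Subgroup.relIndex_le_of_le_right hKH
    rw [relIndex_eq hna hCT ht]
    exact (kk_pos ht).ne'
  have h4 := (card_D_and_inverts hna hCT ht hu huH).1
  exact (Subgroup.eq_of_le_of_card_ge hDK (h4 ▸ h3)).symm

include hna hCT ht hu huH in
/-- An element of `H` inverting `D` cannot exist (as `D ≠ 1` has odd order). -/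
theorem not_inverts_of_mem {h : G} (hh : h ∈ cH t) (hinv : ∀ d ∈ cD t u, h * d * h⁻¹ = d⁻¹)
    {d₀ : G} (hd₀ : d₀ ∈ cD t u) (hd₀1 : d₀ ≠ 1) : False := by
  obtain ⟨a, ha, d', hd', rfl⟩ := exists_mul_of_mem hna hCT ht hu huH hh
  -- `a` inverts `d₀` as well
  have h1 : a * d₀ * a⁻¹ = d₀⁻¹ := by
    have h2 := hinv d₀ hd₀
    have h3 : d' * d₀ * d'⁻¹ = d₀ := by
      rw [D_comm hna hCT ht hu huH hd' hd₀]; group
    calc a * d₀ * a⁻¹ = a * (d' * d₀ * d'⁻¹) * a⁻¹ := by rw [h3]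
      _ = (a * d') * d₀ * (a * d')⁻¹ := by group
      _ = d₀⁻¹ := h2
  -- `d₀⁻² ∈ A ∩ D`
  have hd₀H : d₀ ∈ cH t := (Subgroup.mem_inf.mp hd₀).1
  have h4 : a * (d₀ * a⁻¹ * d₀⁻¹) ∈ cA t :=
    (cA t).mul_mem ha ((Subgroup.mem_normalizer_iff.mp hd₀H a⁻¹).mp ((cA t).inv_mem ha))
  have h5 : a * (d₀ * a⁻¹ * d₀⁻¹) = d₀⁻¹ * d₀⁻¹ := by
    calc a * (d₀ * a⁻¹ * d₀⁻¹) = (a * d₀ * a⁻¹) * d₀⁻¹ := by group
      _ = d₀⁻¹ * d₀⁻¹ := by rw [h1]
  rw [h5] at h4
  have h6 : d₀⁻¹ * d₀⁻¹ ∈ cD t u :=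
    (cD t u).mul_mem ((cD t u).inv_mem hd₀) ((cD t u).inv_mem hd₀)
  have h7 := D_inf_A hna hCT ht huH h6 h4
  have h8 : d₀ ^ 2 = 1 := by
    have : d₀ ^ 2 = (d₀⁻¹ * d₀⁻¹)⁻¹ := by group
    rw [this, h7, inv_one]
  exact hd₀1 (Cfsg.Agent.Lib.Helper21_BSW.eq_one_of_sq_of_odd_card
    (odd_card_D hna hCT ht huH) hd₀ h8)

include hna hCT ht hu huH in
/-- `C(d₀) = D` for `1 ≠ d₀ ∈ D`. -/
theorem centralizer_eq_D {d₀ : G} (hd₀ : d₀ ∈ cD t u) (hd₀1 : d₀ ≠ 1) :
    Subgroup.centralizer ({d₀} : Set G) = cD t u := by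
  have hSE := stronglyEmbedded hna hCT ht
  have hDle : cD t u ≤ Subgroup.centralizer ({d₀} : Set G) := by
    intro d hd
    rw [mem_centralizer_singleton]
    exact D_comm hna hCT ht hu huH hd₀ hd
  have hCA : ∀ x ∈ Subgroup.centralizer ({d₀} : Set G), x ∈ cA t → x = 1 := by
    intro x hx hxA
    by_contra hx1
    have h1 : d₀ ∈ Subgroup.centralizer ({x} : Set G) := by
      rw [mem_centralizer_singleton]
      exact (mem_centralizer_singleton.mp hx).symm
    rw [cent_eq hCT ht hxA hx1] at h1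
    exact hd₀1 (D_inf_A hna hCT ht huH hd₀ h1)
  -- the centralizer is contained in `H`
  have hCH : Subgroup.centralizer ({d₀} : Set G) ≤ cH t := by
    intro x hx
    by_contra hxH
    -- an involution `w` in the coset `xH`
    have hcount := card_invol_map hSE (QuotientGroup.mk 1 : G ⧸ cH t) (QuotientGroup.mk x)
    have hpos : 0 < Nat.card {i : G // orderOf i = 2 ∧
        i • (QuotientGroup.mk 1 : G ⧸ cH t) = QuotientGroup.mk x} := by
      rw [hcount]; exact kk_pos ht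
    obtain ⟨⟨w, hw2, hwx⟩⟩ := (Nat.card_pos_iff.mp hpos).1
    have hwinv : w⁻¹ = w := _root_.inv_eq_self_of_orderOf_eq_two hw2
    have h1 : w⁻¹ * x ∈ cH t := by
      rw [MulAction.Quotient.smul_mk, smul_eq_mul, mul_one, QuotientGroup.eq] at hwx
      exact hwx
    have hwH : w ∉ cH t := by
      intro hwH
      apply hxH
      have : x = w * (w⁻¹ * x) := by group
      rw [this]
      exact (cH t).mul_mem hwH h1
    -- every element of the centralizer commutes with `D`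
    have hxd : ∀ d ∈ cD t u, x * d = d * x := by
      intro d hd
      exact (hCT.commute_of_commute hd₀1 (mem_centralizer_singleton.mp hx)
        (mem_centralizer_singleton.mp (hDle hd))).eq
    have hDw : cD t u ≤ cD t w := by
      intro d hd
      refine Subgroup.mem_inf.mpr ⟨(Subgroup.mem_inf.mp hd).1, mem_map_conj_iff.mpr ?_⟩
      have h2 : w⁻¹ * d * w = (w⁻¹ * x) * d * (w⁻¹ * x)⁻¹ := by
        have : (w⁻¹ * x) * d * (w⁻¹ * x)⁻¹ = w⁻¹ * (x * d) * x⁻¹ * w := by group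
        rw [this, hxd d hd]; group
      rw [h2]
      exact (cH t).mul_mem ((cH t).mul_mem h1 (Subgroup.mem_inf.mp hd).1) ((cH t).inv_mem h1)
    have hDw' : cD t w = cD t u := by
      have c1 := (card_D_and_inverts hna hCT ht hw2 hwH).1
      have c2 := (card_D_and_inverts hna hCT ht hu huH).1
      exact (Subgroup.eq_of_le_of_card_ge hDw (by rw [c1, c2])).symm
    have hwinvD : ∀ d ∈ cD t u, w * d * w⁻¹ = d⁻¹ := by
      intro d hd
      exact (card_D_and_inverts hna hCT ht hw2 hwH).2 d (hDw' ▸ hd)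
    apply not_inverts_of_mem hna hCT ht hu huH h1 ?_ hd₀ hd₀1
    intro d hd
    calc (w⁻¹ * x) * d * (w⁻¹ * x)⁻¹ = w⁻¹ * (x * d) * x⁻¹ * w := by group
      _ = w⁻¹ * (d * x) * x⁻¹ * w := by rw [hxd d hd]
      _ = w⁻¹ * d * w := by group
      _ = w * d * w⁻¹ := by rw [hwinv]
      _ = d⁻¹ := hwinvD d hd
  exact eq_D_of_le hna hCT ht hu huH hCH hDle hCA

include hna hCT ht hu huH in
/-- Complements are conjugate: for an involution `w ∉ H` some `b ∈ A` conjugates `H ∩ H^w`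
into `D`. -/
theorem exists_conj_le {w : G} (hw : orderOf w = 2) (hwH : w ∉ cH t) :
    ∃ b ∈ cA t, ∀ d ∈ cD t w, b * d * b⁻¹ ∈ cD t u := by
  classical
  -- a non-identity element `y` of `H ∩ H^w`
  have hcard := (card_D_and_inverts hna hCT ht hw hwH).1
  have h2 := two_le_kk hna hCT ht
  have hnt : Nontrivial (cD t w) := by
    rw [← Finite.one_lt_card_iff_nontrivial]
    omega
  obtain ⟨y, hy1⟩ := exists_ne (1 : cD t w)
  have hy1' : (y : G) ≠ 1 := fun h => hy1 (Subtype.ext h)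
  obtain ⟨a₁, ha₁, d₁, hd₁, hyad⟩ :=
    exists_mul_of_mem hna hCT ht hu huH (Subgroup.mem_inf.mp y.2).1
  have hd₁1 : d₁ ≠ 1 := by
    intro h
    rw [h, mul_one] at hyad
    apply hy1'
    exact D_inf_A hna hCT ht hwH y.2 (hyad ▸ ha₁)
  have hd₁H : d₁ ∈ cH t := (Subgroup.mem_inf.mp hd₁).1
  -- the map `b ↦ b⁻¹ d₁ b d₁⁻¹` is a bijection of `A`
  let φ : cA t → cA t := fun b =>
    ⟨(b : G)⁻¹ * (d₁ * b * d₁⁻¹), (cA t).mul_mem ((cA t).inv_mem b.2)
      ((Subgroup.mem_normalizer_iff.mp hd₁H b).mp b.2)⟩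
  have hφ : Function.Injective φ := by
    intro b c hbc
    have h3 : (b : G)⁻¹ * (d₁ * b * d₁⁻¹) = (c : G)⁻¹ * (d₁ * c * d₁⁻¹) :=
      congrArg Subtype.val hbc
    have h4 : ((c : G) * (b : G)⁻¹) * d₁ = d₁ * ((c : G) * (b : G)⁻¹) := by
      have e1 : d₁ * b * d₁⁻¹ = (b : G) * ((c : G)⁻¹ * (d₁ * c * d₁⁻¹)) := by
        rw [← h3]; group
      calc ((c : G) * (b : G)⁻¹) * d₁ = (c : G) * (b : G)⁻¹ * (d₁ * b * d₁⁻¹) * d₁ * (b : G)⁻¹ := by
            group
        _ = (c : G) * (b : G)⁻¹ * ((b : G) * ((c : G)⁻¹ * (d₁ * c * d₁⁻¹))) * d₁ * (b : G)⁻¹ := by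
            rw [e1]
        _ = d₁ * ((c : G) * (b : G)⁻¹) := by group
    have h5 : (c : G) * (b : G)⁻¹ ∈ cA t := (cA t).mul_mem c.2 ((cA t).inv_mem b.2)
    have h6 : (c : G) * (b : G)⁻¹ = 1 := by
      by_contra hne
      have : d₁ ∈ Subgroup.centralizer ({(c : G) * (b : G)⁻¹} : Set G) := by
        rw [mem_centralizer_singleton]; exact h4
      rw [cent_eq hCT ht h5 hne] at this
      exact hd₁1 (D_inf_A hna hCT ht huH hd₁ this)
    apply Subtype.ext
    have : (c : G) = (c : G) * (b : G)⁻¹ * b := by group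
    rw [h6, one_mul] at this
    exact this.symm
  have hφs : Function.Surjective φ := Finite.injective_iff_surjective.mp hφ
  obtain ⟨b, hb⟩ := hφs ⟨a₁, ha₁⟩
  have hb' : (b : G)⁻¹ * (d₁ * b * d₁⁻¹) = a₁ := congrArg Subtype.val hb
  have hconj : (b : G) * y * (b : G)⁻¹ = d₁ := by
    rw [hyad, ← hb']; group
  refine ⟨b, b.2, ?_⟩
  intro d hd
  have hcomm : (y : G) * d = d * y := D_comm hna hCT ht hw hwH y.2 hd
  have h7 : (b : G) * d * (b : G)⁻¹ ∈ Subgroup.centralizer ({d₁} : Set G) := by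
    rw [mem_centralizer_singleton]
    show d₁ * ((b : G) * d * (b : G)⁻¹) = (b : G) * d * (b : G)⁻¹ * d₁
    rw [← hconj]
    calc (b : G) * y * (b : G)⁻¹ * ((b : G) * d * (b : G)⁻¹)
        = (b : G) * ((y : G) * d) * (b : G)⁻¹ := by group
      _ = (b : G) * (d * y) * (b : G)⁻¹ := by rw [hcomm]
      _ = (b : G) * d * (b : G)⁻¹ * ((b : G) * y * (b : G)⁻¹) := by group
  rw [centralizer_eq_D hna hCT ht hu huH hd₁ hd₁1] at h7
  exact h7

include hna hCT ht hu huH in
/-- `G = H ∪ H u H`. -/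
theorem exists_double_coset {g : G} (hg : g ∉ cH t) :
    ∃ h₁ ∈ cH t, ∃ h₂ ∈ cH t, g = h₁ * u * h₂ := by
  classical
  have hSE := stronglyEmbedded hna hCT ht
  have huinv : u⁻¹ = u := _root_.inv_eq_self_of_orderOf_eq_two hu
  have hcount := card_invol_map hSE (QuotientGroup.mk 1 : G ⧸ cH t) (QuotientGroup.mk g)
  have hpos : 0 < Nat.card {i : G // orderOf i = 2 ∧
      i • (QuotientGroup.mk 1 : G ⧸ cH t) = QuotientGroup.mk g} := by
    rw [hcount]; exact kk_pos ht
  obtain ⟨⟨w, hw2, hwg⟩⟩ := (Nat.card_pos_iff.mp hpos).1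
  have h1 : w⁻¹ * g ∈ cH t := by
    rw [MulAction.Quotient.smul_mk, smul_eq_mul, mul_one, QuotientGroup.eq] at hwg
    exact hwg
  have hwH : w ∉ cH t := by
    intro hwH
    apply hg
    have : g = w * (w⁻¹ * g) := by group
    rw [this]
    exact (cH t).mul_mem hwH h1
  obtain ⟨b, hbA, hb⟩ := exists_conj_le hna hCT ht hu huH hw2 hwH
  have hbH : b ∈ cH t := Subgroup.le_normalizer hbA
  -- the conjugate involution `w' = b w b⁻¹`
  set w' := b * w * b⁻¹ with hw'
  have hw'2 : orderOf w' = 2 := orderOf_conj_eq_two hw2 b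
  have hw'H : w' ∉ cH t := by
    intro h
    apply hwH
    have : w = b⁻¹ * w' * b := by rw [hw']; group
    rw [this]
    exact (cH t).mul_mem ((cH t).mul_mem ((cH t).inv_mem hbH) h) hbH
  have hDw' : cD t w' ≤ cD t u := by
    intro x hx
    have hx1 : b⁻¹ * x * b ∈ cD t w := by
      refine Subgroup.mem_inf.mpr ⟨(cH t).mul_mem ((cH t).mul_mem ((cH t).inv_mem hbH)
        (Subgroup.mem_inf.mp hx).1) hbH, mem_map_conj_iff.mpr ?_⟩
      have h2 := mem_map_conj_iff.mp (Subgroup.mem_inf.mp hx).2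
      have h3 : w⁻¹ * (b⁻¹ * x * b) * w = b⁻¹ * (w'⁻¹ * x * w') * b := by
        rw [hw']; group
      rw [h3]
      exact (cH t).mul_mem ((cH t).mul_mem ((cH t).inv_mem hbH) h2) hbH
    have := hb _ hx1
    have h4 : b * (b⁻¹ * x * b) * b⁻¹ = x := by group
    rwa [h4] at this
  have hDeq : cD t w' = cD t u := by
    have c1 := (card_D_and_inverts hna hCT ht hw'2 hw'H).1
    have c2 := (card_D_and_inverts hna hCT ht hu huH).1
    exact Subgroup.eq_of_le_of_card_ge hDw' (by rw [c1, c2])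
  have hinv' : ∀ d ∈ cD t u, w' * d * w'⁻¹ = d⁻¹ := by
    intro d hd
    exact (card_D_and_inverts hna hCT ht hw'2 hw'H).2 d (hDeq ▸ hd)
  have hinvu := (card_D_and_inverts hna hCT ht hu huH).2
  -- a non-identity element of `D`
  have hcard := (card_D_and_inverts hna hCT ht hu huH).1
  have h2k := two_le_kk hna hCT ht
  have hnt : Nontrivial (cD t u) := by
    rw [← Finite.one_lt_card_iff_nontrivial]
    omega
  obtain ⟨d₀, hd₀1⟩ := exists_ne (1 : cD t u)
  have hd₀1' : (d₀ : G) ≠ 1 := fun h => hd₀1 (Subtype.ext h)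
  have hmem : w' * u ∈ Subgroup.centralizer ({(d₀ : G)} : Set G) := by
    rw [mem_centralizer_singleton]
    show (d₀ : G) * (w' * u) = w' * u * d₀
    have e1 := hinvu d₀ d₀.2
    have e2 := hinv' ((d₀ : G)⁻¹) ((cD t u).inv_mem d₀.2)
    rw [inv_inv] at e2
    calc (d₀ : G) * (w' * u) = (w' * (d₀ : G)⁻¹ * w'⁻¹) * (w' * u) := by rw [e2]
      _ = w' * (d₀ : G)⁻¹ * u := by group
      _ = w' * (u * d₀ * u⁻¹) * u := by rw [e1]
      _ = w' * u * d₀ := by group
  rw [centralizer_eq_D hna hCT ht hu huH d₀.2 hd₀1'] at hmem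
  have hmemH : w' * u ∈ cH t := (Subgroup.mem_inf.mp hmem).1
  refine ⟨b⁻¹ * (w' * u), (cH t).mul_mem ((cH t).inv_mem hbH) hmemH,
    b * (w⁻¹ * g), (cH t).mul_mem hbH h1, ?_⟩
  have huu : u * u = 1 := sq_eq_one_of_orderOf_eq_two hu
  have hww : w * w = 1 := sq_eq_one_of_orderOf_eq_two hw2
  have hwinv : w⁻¹ = w := _root_.inv_eq_self_of_orderOf_eq_two hw2
  calc g = w * (w⁻¹ * g) := by group
    _ = b⁻¹ * (b * w * b⁻¹) * (u * u) * b * (w⁻¹ * g) := by rw [huu]; group
    _ = b⁻¹ * (w' * u) * u * (b * (w⁻¹ * g)) := by rw [hw']; group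

include hna hCT ht hu huH in
/-- `|G : H| = |A| + 1`. -/
theorem index_H : (cH t).index = Nat.card (cA t) + 1 := by
  classical
  -- the stabilizer in `H` of the coset `uH` is `D`
  have hst : MulAction.stabilizer (cH t) (QuotientGroup.mk u : G ⧸ cH t)
      = (cD t u).subgroupOf (cH t) := by
    ext h
    rw [MulAction.mem_stabilizer_iff, Subgroup.mem_subgroupOf]
    have : (h • (QuotientGroup.mk u : G ⧸ cH t) = QuotientGroup.mk u)
        ↔ ((h : G) • (QuotientGroup.mk u : G ⧸ cH t) = QuotientGroup.mk u) := Iff.rfl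
    rw [this, smul_mk_eq_mk_iff']
    constructor
    · intro hh; exact Subgroup.mem_inf.mpr ⟨h.2, hh⟩
    · intro hh; exact (Subgroup.mem_inf.mp hh).2
  have horb : MulAction.orbit (cH t) (QuotientGroup.mk u : G ⧸ cH t)
      = ({(QuotientGroup.mk 1 : G ⧸ cH t)} : Set (G ⧸ cH t))ᶜ := by
    ext q
    rw [Set.mem_compl_iff, Set.mem_singleton_iff, MulAction.mem_orbit_iff]
    constructor
    · rintro ⟨h, rfl⟩ hq
      have h1 : ((h : G) * u) • (QuotientGroup.mk 1 : G ⧸ cH t) = QuotientGroup.mk 1 := by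
        rw [MulAction.Quotient.smul_mk, smul_eq_mul, mul_one]
        exact hq
      have h2 := smul_mk_one_eq_iff.mp h1
      apply huH
      have : u = (h : G)⁻¹ * ((h : G) * u) := by group
      rw [this]
      exact (cH t).mul_mem ((cH t).inv_mem h.2) h2
    · intro hq
      induction q using QuotientGroup.induction_on with
      | H g =>
        have hg : g ∉ cH t := by
          intro hg
          apply hq
          rw [eq_comm, QuotientGroup.eq]
          simpa using hg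
        obtain ⟨h₁, hh₁, h₂, hh₂, rfl⟩ := exists_double_coset hna hCT ht hu huH hg
        refine ⟨⟨h₁, hh₁⟩, ?_⟩
        show (h₁ : G) • (QuotientGroup.mk u : G ⧸ cH t) = _
        rw [MulAction.Quotient.smul_mk, smul_eq_mul, QuotientGroup.eq]
        have : (h₁ * u)⁻¹ * (h₁ * u * h₂) = h₂ := by group
        rw [this]; exact hh₂
  have h1 := MulAction.index_stabilizer (cH t) (QuotientGroup.mk u : G ⧸ cH t)
  rw [hst, horb, Set.ncard_compl, Set.ncard_singleton] at h1
  -- index of `D` in `H`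
  have h2 := Subgroup.card_mul_index ((cD t u).subgroupOf (cH t))
  have h3 : Nat.card ((cD t u).subgroupOf (cH t)) = Nat.card (cD t u) :=
    Nat.card_congr (Subgroup.subgroupOfEquivOfLe inf_le_left).toEquiv
  rw [h3, (card_D_and_inverts hna hCT ht hu huH).1, card_H hna hCT ht, h1] at h2
  have hk := kk_pos ht
  have h4 : Nat.card (G ⧸ cH t) - 1 = Nat.card (cA t) := by
    have : kk t * (Nat.card (G ⧸ cH t) - 1) = kk t * Nat.card (cA t) := by
      rw [h2]; ring
    exact Nat.eq_of_mul_eq_mul_left hk this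
  have hpos : 0 < Nat.card (G ⧸ cH t) := Nat.card_pos
  rw [Subgroup.index_eq_card]
  omega

include hna hCT ht hu huH in
/-- `|G| = (|A| + 1) |A| k`. -/
theorem card_G : Nat.card G = (Nat.card (cA t) + 1) * (Nat.card (cA t) * kk t) := by
  rw [← index_H hna hCT ht hu huH, ← card_H hna hCT ht, mul_comm]
  exact (Subgroup.card_mul_index (cH t)).symm

end Simple

end Cfsg.Agent.Lib.Helper77_CAc
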