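import Cfsg.Agent.Lib.Helper79_ClassAlgebra
import Cfsg.Agent.Lib.Helper81_CharExpand

/-!
# Consequences of completeness for the class algebra (helper79)

* `isConj_of_forall_irr_eq` : irreducible characters separate conjugacy classes;
* `irr_card_mul_mul` : the product formula of `Helper79_ClassAlgebra` for `Cfsg.IsIrrCharacter`;
* `classProdCount_eq` : the number of pairs `(g, h)` with `g x g⁻¹ * h y h⁻¹ = z` is
  `|G| ∑ χ, χ x⁻¹ χ y⁻¹ χ z / χ 1`.
-/

set_option autoImplicit false

namespace Cfsg.Agent.Lib.Helper79_ClassAlgebra2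

open Cfsg Cfsg.Agent.Lib.Helper81_CharBasic Cfsg.Agent.Lib.Helper81_CharOrth
  Cfsg.Agent.Lib.Helper81_CharComplete Cfsg.Agent.Lib.Helper81_CharExpand
  Cfsg.Agent.Lib.Helper79_ClassAlgebra

universe u

variable {G : Type u} [Group G]

/-- Irreducible characters separate conjugacy classes. -/
theorem isConj_of_forall_irr_eq [Finite G] (g h : G)
    (H : ∀ χ : IrrCharacter G, (χ : G → ℂ) g = (χ : G → ℂ) h) : IsConj g h := by
  classical
  haveI := Fintype.ofFinite G
  haveI := Fintype.ofFinite (IrrCharacter G)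
  let f : G → ℂ := fun x => if IsConj g x then 1 else 0
  have hf : IsClassFunction G f := by
    intro x k
    simp only [f]
    have : IsConj g (k * x * k⁻¹) ↔ IsConj g x := by
      constructor
      · intro h1
        exact h1.trans ((isConj_iff.2 ⟨k, rfl⟩ : IsConj x (k * x * k⁻¹)).symm)
      · intro h1
        exact h1.trans (isConj_iff.2 ⟨k, rfl⟩)
    exact if_congr this rfl rfl
  have hg := classFunction_expansion_apply f hf g
  have hh := classFunction_expansion_apply f hf h
  have : f g = f h := by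
    rw [hg, hh]
    exact Finset.sum_congr rfl fun χ _ => by rw [H χ]
  simp only [f, IsConj.refl, if_true] at this
  by_contra hne
  rw [if_neg hne] at this
  exact one_ne_zero this

/-- The product formula for an irreducible character in the sense of `Cfsg.IsIrrCharacter`. -/
theorem irr_card_mul_mul [Fintype G] {χ : G → ℂ} (hχ : IsIrrCharacter G χ) (x y : G) :
    (Fintype.card G : ℂ) * χ x * χ y = χ 1 * ∑ g : G, χ (x * (g * y * g⁻¹)) := by
  obtain ⟨n, ρ, hρ, rfl⟩ := hχ
  haveI := hρ
  rw [card_mul_char_mul_char ρ x y, Representation.char_one]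

theorem irr_one_ne_zero {χ : G → ℂ} (hχ : IsIrrCharacter G χ) : χ 1 ≠ 0 := by
  obtain ⟨n, ρ, hρ, rfl⟩ := hχ
  haveI := hρ
  rw [Representation.char_one]
  exact finrank_ne_zero_of_irreducible ρ

end Cfsg.Agent.Lib.Helper79_ClassAlgebra2

namespace Cfsg.Agent.Lib.Helper79_ClassAlgebra2

open Cfsg Cfsg.Agent.Lib.Helper81_CharBasic Cfsg.Agent.Lib.Helper81_CharOrth
  Cfsg.Agent.Lib.Helper81_CharComplete Cfsg.Agent.Lib.Helper81_CharExpand
  Cfsg.Agent.Lib.Helper79_ClassAlgebra

universe u

variable {G : Type u} [Group G]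

theorem irr_isConj_eq (χ : IrrCharacter G) {u v : G} (huv : IsConj u v) :
    (χ : G → ℂ) u = (χ : G → ℂ) v := by
  obtain ⟨c, rfl⟩ := isConj_iff.1 huv
  exact ((IsCharacter.isClassFunction (IsIrrCharacter.isCharacter χ.2)) u c).symm

/-- Second orthogonality, up to the (positive) class size: with `N` the size of the class of `w`,
`N * ∑ χ, χ w⁻¹ * χ z` is `|G|` if `z` is conjugate to `w` and `0` otherwise. -/
theorem exists_classSize_mul_sum [Fintype G] [Fintype (IrrCharacter G)] (w : G) :
    ∃ N : ℕ, 0 < N ∧ ∀ z : G,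
      (IsConj w z → (N : ℂ) * ∑ χ : IrrCharacter G, (χ : G → ℂ) w⁻¹ * (χ : G → ℂ) z =
        (Fintype.card G : ℂ)) ∧
      (¬ IsConj w z → (N : ℂ) * ∑ χ : IrrCharacter G, (χ : G → ℂ) w⁻¹ * (χ : G → ℂ) z = 0) := by
  classical
  let f : G → ℂ := fun x => if IsConj w x then 1 else 0
  have hf : IsClassFunction G f := by
    intro x k
    simp only [f]
    have : IsConj w (k * x * k⁻¹) ↔ IsConj w x := by
      constructor
      · intro h1
        exact h1.trans ((isConj_iff.2 ⟨k, rfl⟩ : IsConj x (k * x * k⁻¹)).symm)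
      · intro h1
        exact h1.trans (isConj_iff.2 ⟨k, rfl⟩)
    exact if_congr this rfl rfl
  refine ⟨(Finset.univ.filter (fun g : G => IsConj w g)).card, ?_, fun z => ?_⟩
  · exact Finset.card_pos.2 ⟨w, by simp only [Finset.mem_filter, Finset.mem_univ, true_and]; exact IsConj.refl w⟩
  · have hcoef : ∀ χ : IrrCharacter G, ∑ g : G, f g * (χ : G → ℂ) g⁻¹ =
        ((Finset.univ.filter (fun g : G => IsConj w g)).card : ℂ) * (χ : G → ℂ) w⁻¹ := by
      intro χ
      simp only [f, ite_mul, one_mul, zero_mul]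
      rw [← Finset.sum_filter, Finset.sum_congr rfl (g := fun _ => (χ : G → ℂ) w⁻¹)]
      · simp
      · intro g hg
        have hg' : IsConj w g := (Finset.mem_filter.1 hg).2
        obtain ⟨c, rfl⟩ := isConj_iff.1 hg'
        have := (IsCharacter.isClassFunction (IsIrrCharacter.isCharacter χ.2)) w⁻¹ c
        rw [← this]; congr 1; group
    have hexp := classFunction_expansion_apply f hf z
    simp only [hcoef] at hexp
    have hcard : (Nat.card G : ℂ) ≠ 0 := card_ne_zero
    have hcard' : (Nat.card G : ℂ) = (Fintype.card G : ℂ) := by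
      rw [Nat.card_eq_fintype_card]
    have h2 : (Nat.card G : ℂ) * f z =
        ((Finset.univ.filter (fun g : G => IsConj w g)).card : ℂ) *
          ∑ χ : IrrCharacter G, (χ : G → ℂ) w⁻¹ * (χ : G → ℂ) z := by
      rw [hexp, Finset.mul_sum, Finset.mul_sum]
      refine Finset.sum_congr rfl fun χ _ => ?_
      field_simp
    rw [← h2, ← hcard']
    simp only [f]
    constructor
    · intro hz; rw [if_pos hz, mul_one]
    · intro hz; rw [if_neg hz, mul_zero]

end Cfsg.Agent.Lib.Helper79_ClassAlgebra2
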