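import Mathlib
import Cfsg.Agent.Lib.Helper3_CharColumn
import Cfsg.Agent.Lib.Helper79_ClassAlgebra2

/-!
# General character-theoretic lemmas for the CA-group theorem (helper77)

* `sum_conj_eq`: `∑ g, F (g s g⁻¹) = |C(s)| ∑_{x ∈ s^G} F x`;
* `sum_sum_irr_mul`: `χ(1) ∑_{x, y ∈ s^G} χ(x y) = |s^G|² χ(s)²` for an irreducible character;
* `bessel_two`: Bessel's inequality for two irreducible characters.
-/

set_option autoImplicit false
open Cfsg
open scoped ComplexConjugate

namespace Cfsg.Agent.Lib.Helper77_CAd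

open Cfsg.Agent.Lib.Helper3_CharColumn Cfsg.Agent.Lib.Helper3_CharOrtho
  Cfsg.Agent.Lib.Helper3_CharBridge

variable {L : Type*} [Group L] [Fintype L]

/-- Summation over a conjugacy class via conjugating elements. -/
theorem sum_conj_eq (s : L) (F : L → ℂ) :
    ∑ g : L, F (g * s * g⁻¹) =
      (Nat.card (Subgroup.centralizer ({s} : Set L)) : ℂ) * ∑ x ∈ conjFinset s, F x := by
  classical
  have hmaps : ∀ g ∈ (Finset.univ : Finset L), g * s * g⁻¹ ∈ conjFinset s := by
    intro g _
    rw [mem_conjFinset]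
    exact (isConj_iff.mpr ⟨g, rfl⟩ : IsConj s (g * s * g⁻¹)).symm
  rw [← Finset.sum_fiberwise_of_maps_to hmaps, Finset.mul_sum]
  refine Finset.sum_congr rfl (fun x hx => ?_)
  have hx' : IsConj x s := mem_conjFinset.mp hx
  obtain ⟨c, hc⟩ := isConj_iff.mp hx'
  -- `x = c⁻¹ s c`
  have hsum : ∑ g ∈ Finset.univ.filter (fun g : L => g * s * g⁻¹ = x), F (g * s * g⁻¹)
      = ∑ _g ∈ Finset.univ.filter (fun g : L => g * s * g⁻¹ = x), F x :=
    Finset.sum_congr rfl (fun g hg => by rw [(Finset.mem_filter.mp hg).2])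
  rw [hsum, Finset.sum_const, nsmul_eq_mul]
  congr 1
  have hcard : (Finset.univ.filter (fun g : L => g * s * g⁻¹ = x)).card
      = Nat.card (Subgroup.centralizer ({s} : Set L)) := by
    rw [← Fintype.card_subtype, ← Nat.card_eq_fintype_card]
    apply Nat.card_congr
    exact
      { toFun := fun g => ⟨c * g.1, by
          rw [Subgroup.mem_centralizer_singleton_iff]
          have h1 : g.1 * s * g.1⁻¹ = x := g.2
          calc c * g.1 * s = c * (g.1 * s * g.1⁻¹) * g.1 := by group
            _ = c * x * g.1 := by rw [h1]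
            _ = (c * x * c⁻¹) * c * g.1 := by group
            _ = s * (c * g.1) := by rw [hc]; group⟩
        invFun := fun z => ⟨c⁻¹ * z.1, by
          have h1 : z.1 * s = s * z.1 := Subgroup.mem_centralizer_singleton_iff.mp z.2
          have h2 : x = c⁻¹ * s * c := by rw [← hc]; group
          show c⁻¹ * z.1 * s * (c⁻¹ * z.1)⁻¹ = x
          calc c⁻¹ * z.1 * s * (c⁻¹ * z.1)⁻¹ = c⁻¹ * (z.1 * s) * z.1⁻¹ * c := by group
            _ = c⁻¹ * (s * z.1) * z.1⁻¹ * c := by rw [h1]
            _ = c⁻¹ * s * c := by group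
            _ = x := h2.symm⟩
        left_inv := fun g => Subtype.ext (by simp)
        right_inv := fun z => Subtype.ext (by simp) }
  rw [hcard]

/-- The class-multiplication formula for the square of a conjugacy class. -/
theorem sum_sum_irr_mul {χ : L → ℂ} (hχ : IsIrrCharacter L χ) (s : L) :
    χ 1 * ∑ x ∈ conjFinset s, ∑ y ∈ conjFinset s, χ (x * y) =
      ((conjFinset s).card : ℂ) ^ 2 * χ s ^ 2 := by
  classical
  have hcf := isClassFunction_of_isIrrCharacter hχ
  set c : ℂ := (Nat.card (Subgroup.centralizer ({s} : Set L)) : ℂ) with hc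
  have hc0 : c ≠ 0 := by
    rw [hc, Nat.cast_ne_zero]; exact Nat.card_pos.ne'
  have hcardG : (Fintype.card L : ℂ) = ((conjFinset s).card : ℂ) * c := by
    rw [hc, ← Nat.cast_mul, card_conjFinset_mul_card_centralizer, Nat.card_eq_fintype_card]
  have hx : ∀ x ∈ conjFinset s, χ 1 * (c * ∑ y ∈ conjFinset s, χ (x * y))
      = ((conjFinset s).card : ℂ) * c * χ s ^ 2 := by
    intro x hx
    have h1 := Cfsg.Agent.Lib.Helper79_ClassAlgebra2.irr_card_mul_mul hχ x s
    rw [sum_conj_eq s (fun y => χ (x * y))] at h1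
    have h2 : χ x = χ s := classFunction_apply_of_isConj hcf (mem_conjFinset.mp hx)
    rw [← h1, h2, hcardG]
    ring
  have hsum : c * (χ 1 * ∑ x ∈ conjFinset s, ∑ y ∈ conjFinset s, χ (x * y))
      = c * (((conjFinset s).card : ℂ) ^ 2 * χ s ^ 2) := by
    calc c * (χ 1 * ∑ x ∈ conjFinset s, ∑ y ∈ conjFinset s, χ (x * y))
        = ∑ x ∈ conjFinset s, χ 1 * (c * ∑ y ∈ conjFinset s, χ (x * y)) := by
          rw [Finset.mul_sum, Finset.mul_sum]
          refine Finset.sum_congr rfl (fun x _ => ?_)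
          ring
      _ = ∑ _x ∈ conjFinset s, ((conjFinset s).card : ℂ) * c * χ s ^ 2 :=
          Finset.sum_congr rfl hx
      _ = c * (((conjFinset s).card : ℂ) ^ 2 * χ s ^ 2) := by
          rw [Finset.sum_const, nsmul_eq_mul]; ring
  exact mul_left_cancel₀ hc0 hsum

/-- The inner product of a function with itself is a non-negative real number. -/
theorem classInner_self_nonneg (F : L → ℂ) : ∃ r : ℝ, 0 ≤ r ∧ classInner F F = (r : ℂ) := by
  refine ⟨(Nat.card L : ℝ)⁻¹ * ∑ g : L, Complex.normSq (F g), ?_, ?_⟩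
  · apply mul_nonneg
    · exact inv_nonneg.mpr (Nat.cast_nonneg _)
    · exact Finset.sum_nonneg (fun g _ => Complex.normSq_nonneg _)
  · unfold classInner
    push_cast
    congr 1
    refine Finset.sum_congr rfl (fun g _ => ?_)
    rw [Complex.mul_conj]

/-- Bessel's inequality for two distinct irreducible characters having the same integral
inner product with `ω`. -/
theorem bessel_two {X Y ω : L → ℂ} (hX : IsIrrCharacter L X) (hY : IsIrrCharacter L Y)
    (hXY : X ≠ Y) (M : ℤ) (k : ℕ) (h1 : classInner ω X = (M : ℂ)) (h2 : classInner ω Y = (M : ℂ))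
    (h3 : classInner ω ω = 2 * (k : ℂ)) : M ^ 2 ≤ (k : ℤ) := by
  obtain ⟨r, hr0, hr⟩ := classInner_self_nonneg (ω - (M : ℂ) • X - (M : ℂ) • Y)
  have hXX := classInner_self_of_isIrrCharacter hX
  have hYY := classInner_self_of_isIrrCharacter hY
  have hXY0 := classInner_of_isIrrCharacter_of_ne hX hY hXY
  have hYX0 := classInner_of_isIrrCharacter_of_ne hY hX (Ne.symm hXY)
  have h1' : classInner X ω = (M : ℂ) := by
    rw [← classInner_conj_symm, h1]; simp
  have h2' : classInner Y ω = (M : ℂ) := by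
    rw [← classInner_conj_symm, h2]; simp
  have hexp : classInner (ω - (M : ℂ) • X - (M : ℂ) • Y) (ω - (M : ℂ) • X - (M : ℂ) • Y)
      = 2 * (k : ℂ) - 2 * (M : ℂ) ^ 2 := by
    have e1 : ω - (M : ℂ) • X - (M : ℂ) • Y = ω + (-(M : ℂ)) • X + (-(M : ℂ)) • Y := by
      funext g; simp [sub_eq_add_neg]
    rw [e1]
    simp only [classInner_add_left, classInner_add_right, classInner_smul_left,
      classInner_smul_right, h1, h2, h3, h1', h2', hXX, hYY, hXY0, hYX0, map_neg,
      map_intCast]
    ring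
  rw [hexp] at hr
  have hre : (2 * (k : ℝ) - 2 * (M : ℝ) ^ 2) = r := by
    have hr' : ((2 * (k : ℝ) - 2 * (M : ℝ) ^ 2 : ℝ) : ℂ) = (r : ℂ) := by
      push_cast
      exact hr
    exact Complex.ofReal_injective hr'
  have : (M : ℝ) ^ 2 ≤ (k : ℝ) := by nlinarith
  exact_mod_cast this

end Cfsg.Agent.Lib.Helper77_CAd
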