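import Mathlib
import Cfsg.Agent.Lib.Helper17_FrobChar
import Cfsg.Agent.Lib.Helper57_FrobNorm
import Cfsg.Agent.Lib.Helper75_LinChar
import Cfsg.Agent.Lib.Helper77_CAd

/-!
# Two characters of a Frobenius-type group with abelian kernel (helper77)

`M` a finite group, `B` a normal abelian subgroup with `C_M(b) ≤ B` for `1 ≠ b ∈ B`, of index
`k ≥ 2`, containing all involutions of `M`, the involutions being conjugate in `M`.  If `B` has an
element whose square is not `1`, there are two irreducible characters of degree `k` of `M`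
vanishing off `B`, one taking the value `k` and one the value `-1` on the involutions.
-/

set_option autoImplicit false
set_option linter.unusedSectionVars false
open Cfsg
open scoped ComplexConjugate

namespace Cfsg.Agent.Lib.Helper77_CAe

open Cfsg.Agent.Lib.Helper3_CharColumn Cfsg.Agent.Lib.Helper3_CharOrtho
  Cfsg.Agent.Lib.Helper3_CharBridge Cfsg.Agent.Lib.Helper3_CharComplete
  Cfsg.Agent.Lib.Helper17_FrobChar Cfsg.Agent.Lib.Helper17_TIPrime
  Cfsg.Agent.Lib.Helper57_FrobNorm Cfsg.Agent.Lib.Helper75_LinChar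
  Cfsg.Agent.Lib.Helper75_Induced Cfsg.Agent.Lib.Helper80_CharBasic
  Cfsg.Agent.Lib.Helper77_CAd

variable {M : Type*} [Group M] [Fintype M] (B : Subgroup M) [hBn : B.Normal] [Fintype B]
  (hab : ∀ a b : B, a * b = b * a)
  (hC : ∀ a ∈ B, a ≠ 1 → ∀ m : M, m * a = a * m → m ∈ B)

include hab in
theorem isLin_irr (lam : IrrCharacter B) : IsLin B (lam : B → ℂ) :=
  ⟨isCharacter_of_isIrrCharacter lam.2, irr_apply_one_of_comm hab lam⟩

include hab in
/-- Irreducible characters of `B` separate a non-identity element from the identity. -/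
theorem exists_irr_ne_one {b : B} (hb : b ≠ 1) : ∃ μ : IrrCharacter B, (μ : B → ℂ) b ≠ 1 := by
  classical
  by_contra hcon
  push Not at hcon
  have h := sum_irr_one_mul_eq_zero hb
  have h2 : ∑ φ : IrrCharacter B, (φ : B → ℂ) 1 * (φ : B → ℂ) b
      = ∑ _φ : IrrCharacter B, (1 : ℂ) :=
    Finset.sum_congr rfl (fun φ _ => by rw [irr_apply_one_of_comm hab φ, hcon φ, mul_one])
  rw [h2, Finset.sum_const, Finset.card_univ, nsmul_eq_mul, mul_one] at h
  haveI : Nonempty (IrrCharacter B) := ⟨oneIrr B⟩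
  have h3 : Fintype.card (IrrCharacter B) ≠ 0 := Fintype.card_ne_zero
  exact h3 (by exact_mod_cast h)

/-- Extension by zero of a function on `B`, as a plain `if`. -/
noncomputable def ext0 (lam : B → ℂ) : M → ℂ := fun x =>
  open Classical in if h : x ∈ B then lam ⟨x, h⟩ else 0

theorem ext0_of_mem (lam : B → ℂ) {x : M} (h : x ∈ B) : ext0 B lam x = lam ⟨x, h⟩ := by
  unfold ext0; rw [dif_pos h]

include hab hC in
theorem centralizer_eq {v : M} (hvB : v ∈ B) (hv1 : v ≠ 1) :
    Subgroup.centralizer ({v} : Set M) = B := by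
  ext m
  rw [Subgroup.mem_centralizer_singleton_iff]
  constructor
  · intro h
    exact hC v hvB hv1 m h
  · intro h
    exact congrArg Subtype.val (hab ⟨m, h⟩ ⟨v, hvB⟩)

theorem card_mul_index_complex :
    (Nat.card B : ℂ)⁻¹ * (Nat.card M : ℂ) = (B.index : ℂ) := by
  have h : (Nat.card B : ℂ) ≠ 0 := by
    rw [Nat.cast_ne_zero]; exact Nat.card_pos.ne'
  rw [← Subgroup.card_mul_index B]
  push_cast
  field_simp

/-- The value at an involution, when `lam` is trivial on the elements of square one. -/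
theorem indFun_invol_of_trivial (lam : IrrCharacter B)
    (hlam : ∀ b : B, b ^ 2 = 1 → (lam : B → ℂ) b = 1) {v : M} (hv : v ^ 2 = 1) (hvB : v ∈ B) :
    Cfsg.indFun B (lam : B → ℂ) v = (B.index : ℂ) := by
  have h1 := indFun_apply_normal B (lam : B → ℂ) ⟨v, hvB⟩
  have h2 : ∀ m : M, (lam : B → ℂ) (MulAut.conjNormal m ⟨v, hvB⟩) = 1 := by
    intro m
    apply hlam
    apply Subtype.ext
    rw [Subgroup.coe_pow, MulAut.conjNormal_apply]
    show (m * v * m⁻¹) ^ 2 = 1
    rw [conj_pow, hv]; group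
  have h3 : Cfsg.indFun B (lam : B → ℂ) v = Cfsg.indFun B (lam : B → ℂ) ((⟨v, hvB⟩ : B) : M) := rfl
  rw [h3, h1, Finset.sum_congr rfl (fun m _ => h2 m), Finset.sum_const, Finset.card_univ,
    nsmul_eq_mul, mul_one, ← Nat.card_eq_fintype_card, card_mul_index_complex]

include hab hC in
/-- The value at an involution as a sum over the involutions of `B`. -/
theorem indFun_invol (hinv : ∀ m : M, orderOf m = 2 → m ∈ B)
    (htrans : ∀ v w : M, orderOf v = 2 → orderOf w = 2 → IsConj v w)
    (lam : IrrCharacter B) {v : M} (hv : orderOf v = 2) :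
    Cfsg.indFun B (lam : B → ℂ) v =
      ∑ b ∈ (Finset.univ : Finset B).filter (fun b : B => orderOf b = 2), (lam : B → ℂ) b := by
  classical
  have hvB := hinv v hv
  have hv1 : v ≠ 1 := by
    intro h; rw [h, orderOf_one] at hv; omega
  have h1 := indFun_apply_normal B (lam : B → ℂ) ⟨v, hvB⟩
  have h3 : Cfsg.indFun B (lam : B → ℂ) v = Cfsg.indFun B (lam : B → ℂ) ((⟨v, hvB⟩ : B) : M) := rfl
  have h2 : ∀ m : M, (lam : B → ℂ) (MulAut.conjNormal m ⟨v, hvB⟩)
      = ext0 B (lam : B → ℂ) (m * v * m⁻¹) := by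
    intro m
    have hm : m * v * m⁻¹ ∈ B := hBn.conj_mem v hvB m
    rw [ext0_of_mem B _ hm]
    congr 1
  rw [h3, h1, Finset.sum_congr rfl (fun m _ => h2 m), sum_conj_eq v (ext0 B (lam : B → ℂ)),
    centralizer_eq B hab hC hvB hv1, ← mul_assoc]
  have hB0 : (Nat.card B : ℂ) ≠ 0 := by
    rw [Nat.cast_ne_zero]; exact Nat.card_pos.ne'
  rw [inv_mul_cancel₀ hB0, one_mul]
  symm
  apply Finset.sum_bij (fun (b : B) _ => (b : M))
  · intro b hb
    rw [mem_conjFinset]
    have hb2 : orderOf (b : M) = 2 := by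
      rw [Subgroup.orderOf_coe]; exact (Finset.mem_filter.mp hb).2
    exact htrans _ _ hb2 hv
  · intro b _ b' _ h
    exact Subtype.ext h
  · intro x hx
    have hx2 : orderOf x = 2 := by
      have hc : IsConj x v := mem_conjFinset.mp hx
      obtain ⟨c, hc⟩ := isConj_iff.mp hc
      have hoc : orderOf (c * x * c⁻¹) = orderOf x := by
        rw [← MulAut.conj_apply]
        exact MulEquiv.orderOf_eq _ x
      rw [← hoc, hc, hv]
    refine ⟨⟨x, hinv x hx2⟩, ?_, rfl⟩
    rw [Finset.mem_filter]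
    refine ⟨Finset.mem_univ _, ?_⟩
    rw [← Subgroup.orderOf_coe]
    exact hx2
  · intro b _
    rw [ext0_of_mem B _ b.2]

include hab in
/-- A linear character of `B` not trivial at an involution sums to zero over the elements of
square one, hence to `-1` over the involutions. -/
theorem sum_invol_eq_neg_one (lam : IrrCharacter B) {t₀ : B} (ht₀ : orderOf t₀ = 2)
    (hlam : (lam : B → ℂ) t₀ ≠ 1) :
    ∑ b ∈ (Finset.univ : Finset B).filter (fun b : B => orderOf b = 2), (lam : B → ℂ) b = -1 := by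
  classical
  have hlin := isLin_irr B hab lam
  have ht₀2 : t₀ ^ 2 = 1 := by rw [← ht₀]; exact pow_orderOf_eq_one t₀
  -- the sum over the elements of square one vanishes
  have hS : ∑ b ∈ (Finset.univ : Finset B).filter (fun b : B => b ^ 2 = 1), (lam : B → ℂ) b = 0 := by
    have hre : ∑ b ∈ (Finset.univ : Finset B).filter (fun b : B => b ^ 2 = 1), (lam : B → ℂ) b
        = ∑ b ∈ (Finset.univ : Finset B).filter (fun b : B => b ^ 2 = 1),
            (lam : B → ℂ) (t₀ * b) := by
      symm
      apply Finset.sum_bij (fun (b : B) _ => t₀ * b)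
      · intro b hb
        rw [Finset.mem_filter] at hb ⊢
        refine ⟨Finset.mem_univ _, ?_⟩
        have : (t₀ * b) ^ 2 = t₀ ^ 2 * b ^ 2 := by
          rw [pow_two, pow_two, pow_two]
          calc t₀ * b * (t₀ * b) = t₀ * (b * t₀) * b := by group
            _ = t₀ * (t₀ * b) * b := by rw [hab b t₀]
            _ = t₀ * t₀ * (b * b) := by group
        rw [this, ht₀2, hb.2, one_mul]
      · intro b _ b' _ h
        exact mul_left_cancel h
      · intro c hc
        rw [Finset.mem_filter] at hc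
        refine ⟨t₀⁻¹ * c, ?_, by group⟩
        rw [Finset.mem_filter]
        refine ⟨Finset.mem_univ _, ?_⟩
        have ht₀inv : t₀⁻¹ = t₀ := by
          rw [inv_eq_iff_mul_eq_one, ← pow_two, ht₀2]
        rw [ht₀inv]
        have : (t₀ * c) ^ 2 = t₀ ^ 2 * c ^ 2 := by
          rw [pow_two, pow_two, pow_two]
          calc t₀ * c * (t₀ * c) = t₀ * (c * t₀) * c := by group
            _ = t₀ * (t₀ * c) * c := by rw [hab c t₀]
            _ = t₀ * t₀ * (c * c) := by group
        rw [this, ht₀2, hc.2, one_mul]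
      · intro b _
        rfl
    have hmul : ∑ b ∈ (Finset.univ : Finset B).filter (fun b : B => b ^ 2 = 1),
        (lam : B → ℂ) (t₀ * b) = (lam : B → ℂ) t₀ *
          ∑ b ∈ (Finset.univ : Finset B).filter (fun b : B => b ^ 2 = 1), (lam : B → ℂ) b := by
      rw [Finset.mul_sum]
      exact Finset.sum_congr rfl (fun b _ => hlin.map_mul t₀ b)
    rw [hmul] at hre
    have h0 : (1 - (lam : B → ℂ) t₀) *
        ∑ b ∈ (Finset.univ : Finset B).filter (fun b : B => b ^ 2 = 1), (lam : B → ℂ) b = 0 := by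
      linear_combination hre
    rcases mul_eq_zero.mp h0 with h | h
    · exact absurd (sub_eq_zero.mp h).symm hlam
    · exact h
  -- split off the identity
  have hsplit : (Finset.univ : Finset B).filter (fun b : B => b ^ 2 = 1)
      = insert (1 : B) ((Finset.univ : Finset B).filter (fun b : B => orderOf b = 2)) := by
    ext b
    simp only [Finset.mem_filter, Finset.mem_univ, true_and, Finset.mem_insert]
    constructor
    · intro hb
      by_cases h1 : b = 1
      · exact Or.inl h1
      · exact Or.inr (orderOf_eq_prime hb h1)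
    · rintro (h | h)
      · rw [h, one_pow]
      · rw [← h]; exact pow_orderOf_eq_one b
  have hnot : (1 : B) ∉ (Finset.univ : Finset B).filter (fun b : B => orderOf b = 2) := by
    simp
  rw [hsplit, Finset.sum_insert hnot, hlin.2] at hS
  linear_combination hS

include hab hC in
/-- An induced irreducible character of degree `k ≥ 2` vanishing off `B` is not constant
on `B`. -/
theorem exists_ne_of_induced (lam : IrrCharacter B) (hne : lam ≠ oneIrr B) {k : ℕ} (hk : 2 ≤ k)
    (hindex : B.index = k) :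
    ∃ b : M, b ∈ B ∧ Cfsg.indFun B (lam : B → ℂ) b ≠ Cfsg.indFun B (lam : B → ℂ) 1 := by
  classical
  by_contra hcon
  push Not at hcon
  have hirr := isIrrCharacter_indFun B hab hC lam hne
  have h1 := classInner_self_of_isIrrCharacter hirr
  have hone : Cfsg.indFun B (lam : B → ℂ) 1 = (k : ℂ) := by
    rw [indFun_one, irr_apply_one_of_comm hab lam, mul_one, card_mul_index_complex, hindex]
  have hval : ∀ m : M, Cfsg.indFun B (lam : B → ℂ) m * conj (Cfsg.indFun B (lam : B → ℂ) m)
      = if m ∈ B then (k : ℂ) * (k : ℂ) else 0 := by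
    intro m
    split_ifs with hm
    · rw [hcon m hm, hone, Complex.conj_natCast]
    · rw [indFun_eq_zero_of_not_mem B _ m hm, zero_mul]
  unfold Cfsg.classInner at h1
  rw [Finset.sum_congr rfl (fun m _ => hval m), Finset.sum_ite, Finset.sum_const,
    Finset.sum_const_zero, add_zero, nsmul_eq_mul] at h1
  have h4 : ((Finset.univ.filter (fun m : M => m ∈ B)).card : ℂ) = (Nat.card B : ℂ) := by
    rw [Nat.card_eq_fintype_card, Fintype.card_subtype]
  rw [h4, ← mul_assoc, ← mul_assoc] at h1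
  have h5 : (Nat.card M : ℂ)⁻¹ * (Nat.card B : ℂ) * (k : ℂ) = 1 := by
    have hB0 : (Nat.card B : ℂ) ≠ 0 := by
      rw [Nat.cast_ne_zero]; exact Nat.card_pos.ne'
    have hk0 : (k : ℂ) ≠ 0 := by
      rw [Nat.cast_ne_zero]; omega
    rw [← Subgroup.card_mul_index B, hindex]
    push_cast
    field_simp
  rw [h5, one_mul] at h1
  have : k = 1 := by exact_mod_cast h1
  omega

include hab hC in
/-- The two characters. -/
theorem exists_theta {k : ℕ} (hk : 2 ≤ k) (hindex : B.index = k)
    (hinv : ∀ m : M, orderOf m = 2 → m ∈ B)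
    (htrans : ∀ v w : M, orderOf v = 2 → orderOf w = 2 → IsConj v w)
    {t₀ : M} (ht₀ : orderOf t₀ = 2) {x₀ : M} (hx₀ : x₀ ∈ B) (hx₀2 : x₀ ^ 2 ≠ 1) :
    ∃ θi θj : M → ℂ, IsIrrCharacter M θi ∧ IsIrrCharacter M θj ∧
      (∀ m : M, m ∉ B → θi m = 0) ∧ (∀ m : M, m ∉ B → θj m = 0) ∧
      θi 1 = (k : ℂ) ∧ θj 1 = (k : ℂ) ∧
      (∃ b : M, b ∈ B ∧ θi b ≠ θi 1) ∧ (∃ b : M, b ∈ B ∧ θj b ≠ θj 1) ∧
      (∀ v : M, orderOf v = 2 → θi v = (k : ℂ)) ∧ (∀ v : M, orderOf v = 2 → θj v = -1) := by
  classical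
  have ht₀B := hinv t₀ ht₀
  -- `lam_j`: non-trivial at `t₀`
  have ht₀1 : (⟨t₀, ht₀B⟩ : B) ≠ 1 := by
    intro h
    have : t₀ = 1 := congrArg Subtype.val h
    rw [this, orderOf_one] at ht₀; omega
  obtain ⟨lj, hlj⟩ := exists_irr_ne_one B hab ht₀1
  have hljne : lj ≠ oneIrr B := by
    intro h; apply hlj; rw [h]; rfl
  -- `lam_i = μ²` with `μ (x₀²) ≠ 1`
  have hx1 : (⟨x₀, hx₀⟩ : B) ^ 2 ≠ 1 := by
    intro h
    apply hx₀2
    have := congrArg Subtype.val h
    simpa using this
  obtain ⟨μ, hμ⟩ := exists_irr_ne_one B hab hx1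
  have hμlin := isLin_irr B hab μ
  let li : IrrCharacter B := ⟨(μ : B → ℂ) ^ 2, (hμlin.pow 2).irr⟩
  have hli_apply : ∀ b : B, (li : B → ℂ) b = (μ : B → ℂ) (b ^ 2) := by
    intro b
    show ((μ : B → ℂ) ^ 2) b = _
    rw [Pi.pow_apply, hμlin.map_pow]
  have hline : li ≠ oneIrr B := by
    intro h
    apply hμ
    rw [← hli_apply, h]; rfl
  have hli_triv : ∀ b : B, b ^ 2 = 1 → (li : B → ℂ) b = 1 := by
    intro b hb
    rw [hli_apply, hb, hμlin.2]
  have hone : ∀ lam : IrrCharacter B, Cfsg.indFun B (lam : B → ℂ) 1 = (k : ℂ) := by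
    intro lam
    rw [indFun_one, irr_apply_one_of_comm hab lam, mul_one, card_mul_index_complex, hindex]
  refine ⟨Cfsg.indFun B (li : B → ℂ), Cfsg.indFun B (lj : B → ℂ),
    isIrrCharacter_indFun B hab hC li hline, isIrrCharacter_indFun B hab hC lj hljne,
    fun m hm => indFun_eq_zero_of_not_mem B _ m hm,
    fun m hm => indFun_eq_zero_of_not_mem B _ m hm, hone li, hone lj,
    exists_ne_of_induced B hab hC li hline hk hindex,
    exists_ne_of_induced B hab hC lj hljne hk hindex, ?_, ?_⟩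
  · intro v hv
    have hv2 : v ^ 2 = 1 := by rw [← hv]; exact pow_orderOf_eq_one v
    rw [indFun_invol_of_trivial B li hli_triv hv2 (hinv v hv), hindex]
  · intro v hv
    rw [indFun_invol B hab hC hinv htrans lj hv]
    have ht₀' : orderOf (⟨t₀, ht₀B⟩ : B) = 2 := by
      rw [← Subgroup.orderOf_coe]; exact ht₀
    exact sum_invol_eq_neg_one B hab lj ht₀' hlj

end Cfsg.Agent.Lib.Helper77_CAe
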