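import Mathlib
import Cfsg.Agent.Lib.Helper77_CAc
import Cfsg.Agent.Lib.Helper77_CAe

/-!
# CA-groups, part (f): the two characters of `H = N(A)` (helper77)

Instantiation of `Helper77_CAe.exists_theta` for `M = N(A)`, `B = A`.
-/

set_option autoImplicit false
set_option linter.unusedSectionVars false
open Cfsg
open scoped ComplexConjugate

namespace Cfsg.Agent.Lib.Helper77_CAf

open Cfsg.Agent.Lib.Helper77_CAa Cfsg.Agent.Lib.Helper77_CAb Cfsg.Agent.Lib.Helper77_CAc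
  Cfsg.Agent.Lib.Helper21_StronglyEmbedded

variable {G : Type*} [Group G]

section Simple

variable [Finite G] [IsSimpleGroup G] (hna : ¬ IsMulCommutative G)
  (hCT : CT G) {t : G} (ht : orderOf t = 2)

include hna hCT ht in
/-- Involutions of `H` are conjugate in `H`. -/
theorem exists_conj_of_invol {x y : G} (hx : orderOf x = 2) (hxH : x ∈ cH t)
    (hy : orderOf y = 2) (hyH : y ∈ cH t) : ∃ g ∈ cH t, g * x * g⁻¹ = y := by
  have hSE := stronglyEmbedded hna hCT ht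
  obtain ⟨g, hg⟩ := isConj_iff.mp (isConj_of_involutions hSE hx hy)
  have hxA := invol_mem hCT ht hx hxH
  have hyA := invol_mem hCT ht hy hyH
  refine ⟨g, ?_, hg⟩
  by_contra hgH
  have := TI hCT ht g hgH x hxA (hg ▸ hyA)
  rw [this, orderOf_one] at hx
  omega

include hna hCT ht in
/-- There is an involution outside `H`. -/
theorem exists_invol_not_mem : ∃ u : G, orderOf u = 2 ∧ u ∉ cH t := by
  obtain ⟨g, hg⟩ : ∃ g : G, g ∉ cH t := by
    by_contra h
    push Not at h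
    exact H_ne_top hna ht ((Subgroup.eq_top_iff' _).mpr h)
  refine ⟨g * t * g⁻¹, orderOf_conj_eq_two ht g, ?_⟩
  intro hu
  have huA := invol_mem hCT ht (orderOf_conj_eq_two ht g) hu
  exact t_ne_one ht (TI hCT ht g hg t t_mem huA)

include hna hCT ht in
/-- The two characters `θi`, `θj` of `H`. -/
theorem exists_theta_N [Fintype ↥(cH t)] {x₀ : G} (hx₀ : x₀ ∈ cA t) (hx₀2 : x₀ ^ 2 ≠ 1) :
    ∃ θi θj : ↥(cH t) → ℂ, IsIrrCharacter ↥(cH t) θi ∧ IsIrrCharacter ↥(cH t) θj ∧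
      (∀ n : ↥(cH t), (n : G) ∉ cA t → θi n = 0) ∧ (∀ n : ↥(cH t), (n : G) ∉ cA t → θj n = 0) ∧
      θi 1 = (kk t : ℂ) ∧ θj 1 = (kk t : ℂ) ∧
      (∃ n : ↥(cH t), (n : G) ∈ cA t ∧ θi n ≠ θi 1) ∧
      (∃ n : ↥(cH t), (n : G) ∈ cA t ∧ θj n ≠ θj 1) ∧
      (∀ v : ↥(cH t), orderOf (v : G) = 2 → θi v = (kk t : ℂ)) ∧
      (∀ v : ↥(cH t), orderOf (v : G) = 2 → θj v = -1) := by
  classical
  have : ((cA t).subgroupOf (cH t)).Normal := Subgroup.normal_in_normalizer
  have : Fintype ↥((cA t).subgroupOf (cH t)) := Fintype.ofFinite _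
  have hab : ∀ a b : ↥((cA t).subgroupOf (cH t)), a * b = b * a := by
    intro a b
    apply Subtype.ext
    apply Subtype.ext
    exact A_comm hCT ht _ (Subgroup.mem_subgroupOf.mp a.2) _ (Subgroup.mem_subgroupOf.mp b.2)
  have hC : ∀ a ∈ (cA t).subgroupOf (cH t), a ≠ 1 → ∀ m : ↥(cH t), m * a = a * m →
      m ∈ (cA t).subgroupOf (cH t) := by
    intro a ha ha1 m hm
    rw [Subgroup.mem_subgroupOf] at ha ⊢
    have ha1' : (a : G) ≠ 1 := fun h => ha1 (Subtype.ext h)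
    rw [← cent_eq hCT ht ha ha1', mem_centralizer_singleton]
    exact (congrArg Subtype.val hm).symm
  have hindex : ((cA t).subgroupOf (cH t)).index = kk t := relIndex_eq hna hCT ht
  have hinv : ∀ m : ↥(cH t), orderOf m = 2 → m ∈ (cA t).subgroupOf (cH t) := by
    intro m hm
    rw [Subgroup.mem_subgroupOf]
    apply invol_mem hCT ht _ m.2
    rw [Subgroup.orderOf_coe]; exact hm
  have htrans : ∀ v w : ↥(cH t), orderOf v = 2 → orderOf w = 2 → IsConj v w := by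
    intro v w hv hw
    have hv' : orderOf (v : G) = 2 := by rw [Subgroup.orderOf_coe]; exact hv
    have hw' : orderOf (w : G) = 2 := by rw [Subgroup.orderOf_coe]; exact hw
    obtain ⟨g, hgH, hg⟩ := exists_conj_of_invol hna hCT ht hv' v.2 hw' w.2
    rw [isConj_iff]
    exact ⟨⟨g, hgH⟩, Subtype.ext hg⟩
  have ht₀ : orderOf (⟨t, Subgroup.le_normalizer t_mem⟩ : ↥(cH t)) = 2 := by
    rw [← Subgroup.orderOf_coe]; exact ht
  have hx₀' : (⟨x₀, Subgroup.le_normalizer hx₀⟩ : ↥(cH t)) ∈ (cA t).subgroupOf (cH t) := by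
    rw [Subgroup.mem_subgroupOf]; exact hx₀
  have hx₀2' : (⟨x₀, Subgroup.le_normalizer hx₀⟩ : ↥(cH t)) ^ 2 ≠ 1 := by
    intro h
    apply hx₀2
    have := congrArg Subtype.val h
    simpa using this
  obtain ⟨θi, θj, h1, h2, h3, h4, h5, h6, h7, h8, h9, h10⟩ :=
    Cfsg.Agent.Lib.Helper77_CAe.exists_theta ((cA t).subgroupOf (cH t)) hab hC
      (two_le_kk hna hCT ht) hindex hinv htrans ht₀ hx₀' hx₀2'
  refine ⟨θi, θj, h1, h2, ?_, ?_, h5, h6, ?_, ?_, ?_, ?_⟩
  · intro n hn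
    exact h3 n (fun h => hn (Subgroup.mem_subgroupOf.mp h))
  · intro n hn
    exact h4 n (fun h => hn (Subgroup.mem_subgroupOf.mp h))
  · obtain ⟨b, hb, hne⟩ := h7
    exact ⟨b, Subgroup.mem_subgroupOf.mp hb, hne⟩
  · obtain ⟨b, hb, hne⟩ := h8
    exact ⟨b, Subgroup.mem_subgroupOf.mp hb, hne⟩
  · intro v hv
    apply h9
    rw [← Subgroup.orderOf_coe]; exact hv
  · intro v hv
    apply h10
    rw [← Subgroup.orderOf_coe]; exact hv

end Simple

end Cfsg.Agent.Lib.Helper77_CAf
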