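import Mathlib
import Cfsg.Agent.S0850
import Cfsg.Agent.Lib.Helper17_FrobChar
import Cfsg.Agent.Lib.Helper57_FrobNorm2
import Cfsg.Agent.Lib.Helper17_TIPrime

/-!
# Exceptional characters: restriction to the normalizer (helper77)

Setting of S0851: `K` an abelian T.I. subgroup with Frobenius normalizer `N`, and a sign `ε` and an
injective map `f` from the relevant characters of `N` to `Irr(G)` with
`ind (χ - ξ) = ε (f χ - f ξ)`.  Then `ε f χ - χ` is, on `K \ {1}`, a constant integer independent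
of `χ`.
-/

set_option autoImplicit false
set_option linter.unusedSectionVars false
open Cfsg
open scoped ComplexConjugate

namespace Cfsg.Agent.Lib.Helper77_CAg

open Cfsg.Agent.Lib.Helper3_CharOrtho Cfsg.Agent.Lib.Helper3_CharBridge
  Cfsg.Agent.Lib.Helper3_CharComplete Cfsg.Agent.Lib.Helper3_CharColumn
  Cfsg.Agent.Lib.Helper75_Induced Cfsg.Agent.Lib.Helper75_CharArith
  Cfsg.Agent.Lib.Helper57_FrobNorm Cfsg.Agent.Lib.Helper57_FrobNorm2

variable {G : Type*} [Group G] [Fintype G] (K : Subgroup G)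

/-- The relevant characters of `N(K)`, in the shape used by the frozen statement S0851. -/
abbrev Rel : Type _ :=
  {χ : Cfsg.IrrCharacter (Subgroup.normalizer (K : Set G)) //
    ∃ k : Subgroup.normalizer (K : Set G), (k : G) ∈ K ∧
      (χ : ↥(Subgroup.normalizer (K : Set G)) → ℂ) k ≠
        (χ : ↥(Subgroup.normalizer (K : Set G)) → ℂ) 1}

variable (hTI : ∀ g : G, g ∉ Subgroup.normalizer (K : Set G) → ∀ k ∈ K, g * k * g⁻¹ ∈ K → k = 1)
  (hlt : K < Subgroup.normalizer (K : Set G))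
  (hC : ∀ k ∈ K, k ≠ 1 → Subgroup.centralizer ({k} : Set G) ≤ K)
  (hab : ∀ a ∈ K, ∀ b ∈ K, a * b = b * a)
  [Fintype ↥(Subgroup.normalizer (K : Set G))]

include hC in
theorem hF_of_hC : ∀ x ∈ Subgroup.normalizer (K : Set G), x ∉ K → ∀ k ∈ K,
    x * k = k * x → k = 1 := by
  intro x _ hxK k hk hcomm
  by_contra hk1
  apply hxK
  apply hC k hk hk1
  rw [Subgroup.mem_centralizer_singleton_iff]
  exact hcomm

include hC in
theorem rel_vanish (χ : Rel K) {x : ↥(Subgroup.normalizer (K : Set G))} (hx : (x : G) ∉ K) :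
    (χ.1 : ↥(Subgroup.normalizer (K : Set G)) → ℂ) x = 0 :=
  relevant_vanish (Subgroup.normalizer (K : Set G)) K Subgroup.le_normalizer le_rfl
    (hF_of_hC K hC) (χ := (χ.1 : ↥(Subgroup.normalizer (K : Set G)) → ℂ)) ⟨χ.1.2, χ.2⟩ hx

include hC hab in
theorem rel_degree (χ : Rel K) :
    (χ.1 : ↥(Subgroup.normalizer (K : Set G)) → ℂ) 1 =
      (Nat.card (K.subgroupOf (Subgroup.normalizer (K : Set G))) : ℂ)⁻¹ *
        (Nat.card ↥(Subgroup.normalizer (K : Set G)) : ℂ) := by
  haveI : (K.subgroupOf (Subgroup.normalizer (K : Set G))).Normal := Subgroup.normal_in_normalizer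
  have hab' : ∀ a b : ↥(K.subgroupOf (Subgroup.normalizer (K : Set G))), a * b = b * a := by
    intro a b
    apply Subtype.ext
    apply Subtype.ext
    exact hab _ (Subgroup.mem_subgroupOf.mp a.2) _ (Subgroup.mem_subgroupOf.mp b.2)
  have hC' : ∀ a ∈ K.subgroupOf (Subgroup.normalizer (K : Set G)), a ≠ 1 →
      ∀ m : ↥(Subgroup.normalizer (K : Set G)), m * a = a * m →
        m ∈ K.subgroupOf (Subgroup.normalizer (K : Set G)) := by
    intro a ha ha1 m hm
    rw [Subgroup.mem_subgroupOf] at ha ⊢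
    have ha1' : (a : G) ≠ 1 := fun h => ha1 (Subtype.ext h)
    apply hC (a : G) ha ha1'
    rw [Subgroup.mem_centralizer_singleton_iff]
    exact congrArg Subtype.val hm
  obtain ⟨k, hk, hne⟩ := χ.2
  exact Cfsg.Agent.Lib.Helper17_FrobChar.apply_one_of_relevant
    (K.subgroupOf (Subgroup.normalizer (K : Set G))) hab' hC' χ.1
    ⟨k, Subgroup.mem_subgroupOf.mpr hk, hne⟩

variable (ε : ℂ) (hε : ε = 1 ∨ ε = -1) (f : Rel K → Cfsg.IrrCharacter G)
  (hf : Function.Injective f)
  (hind : ∀ χ ξ : Rel K, Cfsg.indFun (Subgroup.normalizer (K : Set G))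
      ((χ.1 : ↥(Subgroup.normalizer (K : Set G)) → ℂ) -
        (ξ.1 : ↥(Subgroup.normalizer (K : Set G)) → ℂ)) =
      ε • ((f χ : G → ℂ) - (f ξ : G → ℂ)))

include hTI hlt hC hab hind in
/-- On `N`, `ε (f χ - f ξ) = χ - ξ`. -/
theorem restrict_eq (χ ξ : Rel K) (n : ↥(Subgroup.normalizer (K : Set G))) :
    ε * ((f χ : G → ℂ) n - (f ξ : G → ℂ) n) =
      (χ.1 : ↥(Subgroup.normalizer (K : Set G)) → ℂ) n -
        (ξ.1 : ↥(Subgroup.normalizer (K : Set G)) → ℂ) n := by
  have h1 := congrFun (hind χ ξ) (n : G)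
  have hcf : Cfsg.IsClassFunction ↥(Subgroup.normalizer (K : Set G))
      ((χ.1 : ↥(Subgroup.normalizer (K : Set G)) → ℂ) -
        (ξ.1 : ↥(Subgroup.normalizer (K : Set G)) → ℂ)) :=
    isClassFunction_sub (isClassFunction_of_isIrrCharacter χ.1.2)
      (isClassFunction_of_isIrrCharacter ξ.1.2)
  have hvan : ∀ x : ↥(Subgroup.normalizer (K : Set G)), (x : G) ∉ K →
      ((χ.1 : ↥(Subgroup.normalizer (K : Set G)) → ℂ) -
        (ξ.1 : ↥(Subgroup.normalizer (K : Set G)) → ℂ)) x = 0 := by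
    intro x hx
    rw [Pi.sub_apply, rel_vanish K hC χ hx, rel_vanish K hC ξ hx, sub_zero]
  have hone : ((χ.1 : ↥(Subgroup.normalizer (K : Set G)) → ℂ) -
        (ξ.1 : ↥(Subgroup.normalizer (K : Set G)) → ℂ)) 1 = 0 := by
    rw [Pi.sub_apply, rel_degree K hC hab χ, rel_degree K hC hab ξ, sub_self]
  have h2 := (Cfsg.Agent.S0850.result K hTI hlt hC).2 _ hcf hvan hone n
  rw [h2] at h1
  rw [Pi.sub_apply] at h1
  rw [h1]
  simp


include hf in
theorem inner_f_eq (χ φ : Rel K) :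
    Cfsg.classInner (f χ : G → ℂ) (f φ : G → ℂ) =
      Cfsg.classInner (χ.1 : ↥(Subgroup.normalizer (K : Set G)) → ℂ)
        (φ.1 : ↥(Subgroup.normalizer (K : Set G)) → ℂ) := by
  classical
  rw [classInner_irr (f χ).2 (f φ).2, classInner_irr χ.1.2 φ.1.2]
  by_cases h : χ = φ
  · subst h
    simp
  · have h1 : ¬ ((f χ : G → ℂ) = (f φ : G → ℂ)) := fun h' => h (hf (Subtype.ext h'))
    have h2 : ¬ ((χ.1 : ↥(Subgroup.normalizer (K : Set G)) → ℂ) =
        (φ.1 : ↥(Subgroup.normalizer (K : Set G)) → ℂ)) :=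
      fun h' => h (Subtype.ext (Subtype.ext h'))
    rw [if_neg h1, if_neg h2]

include hTI hlt hC hab hε hf hind in
/-- `ε f χ - χ` is a constant integer on `K \ {1}`, independent of `χ`. -/
theorem exists_shift (χ₀ : Rel K) :
    ∃ m : ℤ, ∀ χ : Rel K, ∀ n : ↥(Subgroup.normalizer (K : Set G)), (n : G) ∈ K → n ≠ 1 →
      ε * (f χ : G → ℂ) n - (χ.1 : ↥(Subgroup.normalizer (K : Set G)) → ℂ) n = m := by
  classical
  have hε2 : ε * ε = 1 := by
    rcases hε with h | h <;> rw [h] <;> ring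
  have hεc : conj ε = ε := by
    rcases hε with h | h <;> rw [h] <;> simp
  set δ : ↥(Subgroup.normalizer (K : Set G)) → ℂ :=
    fun n => ε * (f χ₀ : G → ℂ) n - (χ₀.1 : ↥(Subgroup.normalizer (K : Set G)) → ℂ) n with hδdef
  have hδ : ∀ χ : Rel K, ∀ n : ↥(Subgroup.normalizer (K : Set G)),
      ε * (f χ : G → ℂ) n - (χ.1 : ↥(Subgroup.normalizer (K : Set G)) → ℂ) n = δ n := by
    intro χ n
    have := restrict_eq K hTI hlt hC hab ε f hind χ χ₀ n
    simp only [hδdef]
    linear_combination this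
  have hres : Cfsg.IsCharacter ↥(Subgroup.normalizer (K : Set G))
      (fun n : ↥(Subgroup.normalizer (K : Set G)) => (f χ₀ : G → ℂ) n) :=
    isCharacter_restrict _ (isCharacter_of_isIrrCharacter (f χ₀).2)
  have hχ₀c : Cfsg.IsCharacter ↥(Subgroup.normalizer (K : Set G))
      (χ₀.1 : ↥(Subgroup.normalizer (K : Set G)) → ℂ) := isCharacter_of_isIrrCharacter χ₀.1.2
  have hgen : Cfsg.IsGeneralizedCharacter ↥(Subgroup.normalizer (K : Set G)) δ := by
    rcases hε with h | h
    · refine ⟨_, _, hres, hχ₀c, ?_⟩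
      funext n
      simp [hδdef, h]
    · refine ⟨_, _, hχ₀c, isCharacter_add (isCharacter_add hres hχ₀c) hχ₀c, ?_⟩
      funext n
      simp only [hδdef, h, Pi.sub_apply, Pi.add_apply]
      ring
  have hcfδ : Cfsg.IsClassFunction ↥(Subgroup.normalizer (K : Set G)) δ :=
    isClassFunction_of_isGeneralizedCharacter hgen
  have hδeq : δ = ε • (fun n : ↥(Subgroup.normalizer (K : Set G)) => (f χ₀ : G → ℂ) n) -
      (χ₀.1 : ↥(Subgroup.normalizer (K : Set G)) → ℂ) := by
    funext n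
    simp [hδdef]
  -- orthogonality to differences of relevant characters
  have hdiff : ∀ φ ξ : Rel K, Cfsg.classInner δ (φ.1 : ↥(Subgroup.normalizer (K : Set G)) → ℂ) =
      Cfsg.classInner δ (ξ.1 : ↥(Subgroup.normalizer (K : Set G)) → ℂ) := by
    intro φ ξ
    have hcf : Cfsg.IsClassFunction G (f χ₀ : G → ℂ) := isClassFunction_of_isIrrCharacter (f χ₀).2
    have h1 : Cfsg.classInner (fun n : ↥(Subgroup.normalizer (K : Set G)) => (f χ₀ : G → ℂ) n)
        ((φ.1 : ↥(Subgroup.normalizer (K : Set G)) → ℂ) -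
          (ξ.1 : ↥(Subgroup.normalizer (K : Set G)) → ℂ)) =
        ε * (Cfsg.classInner (χ₀.1 : ↥(Subgroup.normalizer (K : Set G)) → ℂ)
            (φ.1 : ↥(Subgroup.normalizer (K : Set G)) → ℂ) -
          Cfsg.classInner (χ₀.1 : ↥(Subgroup.normalizer (K : Set G)) → ℂ)
            (ξ.1 : ↥(Subgroup.normalizer (K : Set G)) → ℂ)) := by
      rw [← classInner_conj_symm, ← frobenius_reciprocity _ _ _ hcf, hind φ ξ,
        classInner_smul_left, classInner_sub_left, map_mul, map_sub, hεc,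
        classInner_conj_symm, classInner_conj_symm, inner_f_eq K f hf, inner_f_eq K f hf]
    have h2 : Cfsg.classInner δ ((φ.1 : ↥(Subgroup.normalizer (K : Set G)) → ℂ) -
          (ξ.1 : ↥(Subgroup.normalizer (K : Set G)) → ℂ)) = 0 := by
      rw [hδeq, classInner_sub_left, classInner_smul_left, h1,
        Cfsg.Agent.Lib.Helper17_TIPrime.classInner_sub_right']
      linear_combination (Cfsg.classInner (χ₀.1 : ↥(Subgroup.normalizer (K : Set G)) → ℂ)
            (φ.1 : ↥(Subgroup.normalizer (K : Set G)) → ℂ) -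
          Cfsg.classInner (χ₀.1 : ↥(Subgroup.normalizer (K : Set G)) → ℂ)
            (ξ.1 : ↥(Subgroup.normalizer (K : Set G)) → ℂ)) * hε2
    rw [Cfsg.Agent.Lib.Helper17_TIPrime.classInner_sub_right'] at h2
    linear_combination h2
  -- Frobenius data in `N`
  haveI hMn : (K.subgroupOf (Subgroup.normalizer (K : Set G))).Normal :=
    Subgroup.normal_in_normalizer
  have hF' : ∀ x : ↥(Subgroup.normalizer (K : Set G)),
      x ∉ K.subgroupOf (Subgroup.normalizer (K : Set G)) →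
      ∀ k ∈ K.subgroupOf (Subgroup.normalizer (K : Set G)), x * k = k * x → k = 1 := by
    intro y hy k hk hyk
    rw [Subgroup.mem_subgroupOf] at hy hk
    have := hF_of_hC K hC y y.2 hy k hk (by exact_mod_cast congrArg Subtype.val hyk)
    exact Subtype.ext this
  have he0 : ((K.subgroupOf (Subgroup.normalizer (K : Set G))).index : ℂ) ≠ 0 := by
    have : (K.subgroupOf (Subgroup.normalizer (K : Set G))).index ≠ 0 :=
      Subgroup.index_ne_zero_of_finite
    exact_mod_cast this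
  have hdeg : ∀ φ : Rel K, (φ.1 : ↥(Subgroup.normalizer (K : Set G)) → ℂ) 1 =
      ((K.subgroupOf (Subgroup.normalizer (K : Set G))).index : ℂ) := by
    intro φ
    rw [rel_degree K hC hab φ]
    have hM0 : (Nat.card (K.subgroupOf (Subgroup.normalizer (K : Set G))) : ℂ) ≠ 0 := by
      have : Nat.card (K.subgroupOf (Subgroup.normalizer (K : Set G))) ≠ 0 := Nat.card_pos.ne'
      exact_mod_cast this
    rw [← Subgroup.card_mul_index (K.subgroupOf (Subgroup.normalizer (K : Set G)))]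
    push_cast
    field_simp
  set c₁ : ℂ := Cfsg.classInner δ (χ₀.1 : ↥(Subgroup.normalizer (K : Set G)) → ℂ) with hc₁
  have hprop : ∀ φ : Cfsg.IrrCharacter ↥(Subgroup.normalizer (K : Set G)),
      (∃ k ∈ K.subgroupOf (Subgroup.normalizer (K : Set G)),
        (φ : ↥(Subgroup.normalizer (K : Set G)) → ℂ) k ≠
          (φ : ↥(Subgroup.normalizer (K : Set G)) → ℂ) 1) →
      Cfsg.classInner δ φ =
        (c₁ / ((K.subgroupOf (Subgroup.normalizer (K : Set G))).index : ℂ)) *
          (φ : ↥(Subgroup.normalizer (K : Set G)) → ℂ) 1 := by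
    intro φ hφ
    obtain ⟨k, hk, hne⟩ := hφ
    have hrel : ∃ k : ↥(Subgroup.normalizer (K : Set G)), (k : G) ∈ K ∧
        (φ : ↥(Subgroup.normalizer (K : Set G)) → ℂ) k ≠
          (φ : ↥(Subgroup.normalizer (K : Set G)) → ℂ) 1 :=
      ⟨k, Subgroup.mem_subgroupOf.mp hk, hne⟩
    have h1 := hdiff ⟨φ, hrel⟩ χ₀
    have h2 := hdeg ⟨φ, hrel⟩
    simp only at h1 h2
    rw [h1, h2, hc₁]
    field_simp
  -- integrality
  have hz : ∀ φ : Cfsg.IrrCharacter ↥(Subgroup.normalizer (K : Set G)),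
      ∃ z : ℤ, Cfsg.classInner δ φ = z := fun φ =>
    classInner_genChar_int hgen (isCharacter_of_isIrrCharacter φ.2)
  choose z hz using hz
  have hd : ∀ φ : Cfsg.IrrCharacter ↥(Subgroup.normalizer (K : Set G)),
      ∃ d : ℕ, (φ : ↥(Subgroup.normalizer (K : Set G)) → ℂ) 1 = d := fun φ => by
    obtain ⟨d, -, hd⟩ := irr_one_eq_natCast φ.2
    exact ⟨d, hd⟩
  choose d hd using hd
  refine ⟨∑ φ : Cfsg.IrrCharacter ↥(Subgroup.normalizer (K : Set G)),
      (if (∃ k ∈ K.subgroupOf (Subgroup.normalizer (K : Set G)),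
        (φ : ↥(Subgroup.normalizer (K : Set G)) → ℂ) k ≠
          (φ : ↥(Subgroup.normalizer (K : Set G)) → ℂ) 1) then 0 else z φ * d φ) - z χ₀.1, ?_⟩
  intro χ n hnK hn1
  rw [hδ χ n]
  have heval := eval_on_kernel (K.subgroupOf (Subgroup.normalizer (K : Set G))) hF' δ hcfδ
    (c₁ / ((K.subgroupOf (Subgroup.normalizer (K : Set G))).index : ℂ)) hprop
    (k := n) (Subgroup.mem_subgroupOf.mpr hnK) hn1
  rw [heval]
  push_cast
  rw [← hz χ₀.1, ← hc₁]
  congr 1
  · refine Finset.sum_congr rfl (fun φ _ => ?_)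
    split_ifs with h
    · rfl
    · rw [hz φ, hd φ]
  · field_simp

end Cfsg.Agent.Lib.Helper77_CAg
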