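import Mathlib
import Cfsg.Agent.Lib.Helper77_CAf
import Cfsg.Agent.Lib.Helper77_CAg
import Cfsg.Agent.Lib.Helper77_CAd
import Cfsg.Agent.Lib.Helper75_IndChar

/-!
# CA-groups, part (h): the permutation character on the cosets of `A` (helper77)

`ω = ind_A^G 1`.  For a T.I. subgroup `K`, `ω` takes the value `|N(K)|/|K|` on `K \ {1}`.
In a simple CT-group with `A = C(t)`, `a = |A|`, `k = |N(A):A|`: `ω(1) = (a+1)k`,
`ω = k` on `A \ {1}`, and `(ω, ω) = 2k`.
-/

set_option autoImplicit false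
set_option linter.unusedSectionVars false
open Cfsg
open scoped ComplexConjugate

namespace Cfsg.Agent.Lib.Helper77_CAh

open Cfsg.Agent.Lib.Helper77_CAa Cfsg.Agent.Lib.Helper77_CAb Cfsg.Agent.Lib.Helper77_CAc
  Cfsg.Agent.Lib.Helper77_CAf Cfsg.Agent.Lib.Helper21_StronglyEmbedded
  Cfsg.Agent.Lib.Helper75_Induced Cfsg.Agent.Lib.Helper3_CharOrtho
  Cfsg.Agent.Lib.Helper3_CharBridge

section General

variable {G : Type*} [Group G] [Fintype G]

/-- The permutation character on the cosets of a T.I. subgroup, on the subgroup. -/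
theorem omega_apply (K : Subgroup G)
    (hTI : ∀ g : G, g ∉ Subgroup.normalizer (K : Set G) → ∀ k ∈ K, g * k * g⁻¹ ∈ K → k = 1)
    {z : G} (hz : z ∈ K) (hz1 : z ≠ 1) :
    Cfsg.indFun K (fun _ => (1 : ℂ)) z =
      (Nat.card K : ℂ)⁻¹ * (Nat.card (Subgroup.normalizer (K : Set G)) : ℂ) := by
  classical
  rw [indFun_apply]
  congr 1
  have hterm : ∀ x : G, Cfsg.extendByZero K (fun _ => (1 : ℂ)) (x⁻¹ * z * x) =
      if x ∈ Subgroup.normalizer (K : Set G) then 1 else 0 := by
    intro x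
    split_ifs with hx
    · have hx' : x⁻¹ ∈ Subgroup.normalizer (K : Set G) := inv_mem hx
      have hmem : x⁻¹ * z * x ∈ K := by
        have := (Subgroup.mem_normalizer_iff.mp hx' z).mp hz
        simpa using this
      rw [extendByZero_of_mem K _ hmem]
    · have hx' : x⁻¹ ∉ Subgroup.normalizer (K : Set G) := fun h => hx (by simpa using inv_mem h)
      rw [extendByZero_of_not_mem]
      intro hmem
      apply hz1
      apply hTI x⁻¹ hx' z hz
      simpa using hmem
  simp_rw [hterm]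
  rw [Finset.sum_boole, Nat.card_eq_fintype_card, Fintype.card_subtype]

theorem classInner_omega (K : Subgroup G) [Fintype K] (X : G → ℂ)
    (hX : Cfsg.IsClassFunction G X) :
    Cfsg.classInner (Cfsg.indFun K (fun _ => (1 : ℂ))) X =
      (Nat.card K : ℂ)⁻¹ * conj (∑ z : K, X z) := by
  rw [frobenius_reciprocity K _ X hX]
  unfold Cfsg.classInner
  simp [map_sum]

theorem sum_eq_of_const {B : Type*} [Group B] [Fintype B] (F : B → ℂ) (m : ℂ)
    (h : ∀ z, z ≠ 1 → F z = m) :
    ∑ z, F z = F 1 + ((Nat.card B : ℂ) - 1) * m := by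
  classical
  rw [← Finset.add_sum_erase Finset.univ F (Finset.mem_univ 1)]
  congr 1
  rw [Finset.sum_congr rfl (fun z hz => h z (Finset.ne_of_mem_erase hz)), Finset.sum_const,
    Finset.card_erase_of_mem (Finset.mem_univ _), Finset.card_univ, nsmul_eq_mul,
    Nat.card_eq_fintype_card, Nat.cast_sub Fintype.card_pos, Nat.cast_one]

end General


section Arith

/-- The final numerical contradiction. -/
theorem arith_false (a k M m x e : ℤ) (he : e = 1 ∨ e = -1) (hk : 2 ≤ k) (hak : k + 1 < a)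
    (hdvd : k ∣ a - 1) (hM : M ^ 2 ≤ k) (h1 : a * M = x + e * (m * (a - 1) - k))
    (h2 : e * x * (k - 1) = (a + 1) * k * (k - 1 + 2 * m)) : False := by
  have he2 : e * e = 1 := by rcases he with h | h <;> rw [h] <;> ring
  have h1' : e * a * M = e * x + (m * (a - 1) - k) := by
    linear_combination e * h1 + (m * (a - 1) - k) * he2
  have key : m * (3 * a * k + k - a + 1) = (k - 1) * a * (e * M - k) := by
    linear_combination (-(k - 1)) * h1' - h2
  obtain ⟨q, hq⟩ := hdvd
  have hkE : k ∣ 3 * a * k + k - a + 1 := ⟨3 * a + 1 - q, by linear_combination (-1 : ℤ) * hq⟩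
  have hk1 : k ∣ (k - 1) * a * (e * M - k) := by
    rw [← key]
    exact Dvd.dvd.mul_left hkE m
  have hcop : IsCoprime k ((k - 1) * a) := by
    apply IsCoprime.mul_right
    · exact ⟨1, -1, by ring⟩
    · exact ⟨-q, 1, by linear_combination hq⟩
  have hk2 : k ∣ e * M - k := hcop.dvd_of_dvd_mul_left hk1
  have hk3 : k ∣ M := by
    have h3 : k ∣ e * M := by
      have := dvd_add hk2 (dvd_refl k)
      simpa using this
    have h4 : M = e * (e * M) := by linear_combination (-M) * he2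
    rw [h4]
    exact Dvd.dvd.mul_left h3 e
  have hM0 : M = 0 := by
    obtain ⟨r, hr⟩ := hk3
    by_contra hne
    have hr0 : r ≠ 0 := by
      rintro rfl
      apply hne
      rw [hr]
      ring
    have hr2 : 1 ≤ r ^ 2 := by
      have := sq_nonneg r
      have h5 : r ^ 2 ≠ 0 := pow_ne_zero 2 hr0
      omega
    rw [hr] at hM
    have h6 : k ^ 2 ≤ (k * r) ^ 2 := by
      have h7 : (k * r) ^ 2 = k ^ 2 * r ^ 2 := by ring
      rw [h7]
      nlinarith [sq_nonneg k]
    nlinarith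
  rw [hM0] at key
  have hfin : (k - 1) * (a - k - 1) = (3 * a * k + k - a + 1) * (-3 * m - k + 1) := by
    linear_combination (3 : ℤ) * key
  have hpos : 0 < (k - 1) * (a - k - 1) := by
    apply mul_pos <;> linarith
  have hlt : (k - 1) * (a - k - 1) < 3 * a * k + k - a + 1 := by nlinarith
  have hE : 0 < 3 * a * k + k - a + 1 := by nlinarith
  rw [hfin] at hpos hlt
  have hn : 0 < -3 * m - k + 1 := by
    by_contra hcon
    rw [not_lt] at hcon
    nlinarith
  nlinarith

end Arith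

section Concrete

variable {G : Type*} [Group G] [Fintype G] [IsSimpleGroup G] (hna : ¬ IsMulCommutative G)
  (hCT : CT G) {t : G} (ht : orderOf t = 2)

/-- The permutation character `ω` on the cosets of `A = C(t)`. -/
noncomputable abbrev om (t : G) : G → ℂ := Cfsg.indFun (cA t) (fun _ => (1 : ℂ))

include hna hCT ht in
theorem card_G_cast : (Nat.card G : ℂ) =
    ((Nat.card (cA t) : ℂ) + 1) * ((Nat.card (cA t) : ℂ) * (kk t : ℂ)) := by
  obtain ⟨u, hu, huH⟩ := exists_invol_not_mem hna hCT ht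
  rw [card_G hna hCT ht hu huH]
  push_cast
  ring

theorem card_A_ne_zero : (Nat.card (cA t) : ℂ) ≠ 0 := by
  rw [Nat.cast_ne_zero]
  exact Nat.card_pos.ne'

include hna hCT ht in
theorem om_one : om t 1 = ((Nat.card (cA t) : ℂ) + 1) * (kk t : ℂ) := by
  have ha := card_A_ne_zero (t := t)
  show Cfsg.indFun (cA t) (fun _ => (1 : ℂ)) 1 = _
  rw [indFun_one, card_G_cast hna hCT ht]
  field_simp

include hna hCT ht in
theorem om_apply {z : G} (hz : z ∈ cA t) (hz1 : z ≠ 1) : om t z = (kk t : ℂ) := by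
  have ha := card_A_ne_zero (t := t)
  show Cfsg.indFun (cA t) (fun _ => (1 : ℂ)) z = _
  rw [omega_apply (cA t) (TI hCT ht) hz hz1]
  have h := card_H hna hCT ht
  rw [h]
  push_cast
  field_simp

include hna hCT ht in
theorem inner_om_om [Fintype ↥(cA t)] : Cfsg.classInner (om t) (om t) = 2 * (kk t : ℂ) := by
  have ha := card_A_ne_zero (t := t)
  rw [classInner_omega (cA t) _ (isClassFunction_indFun _ _)]
  have hsum := sum_eq_of_const (fun z : ↥(cA t) => om t (z : G)) (kk t : ℂ)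
    (fun z hz => om_apply hna hCT ht z.2 (fun h => hz (Subtype.ext h)))
  simp only [OneMemClass.coe_one] at hsum
  rw [om_one hna hCT ht] at hsum
  rw [hsum]
  simp only [map_add, map_mul, map_sub, map_one, Complex.conj_natCast]
  field_simp
  ring

/-- Summation of a shifted character over `A`. -/
theorem sum_shift [Fintype ↥(cA t)] [Fintype ↥(cH t)] (X : G → ℂ) (θ : ↥(cH t) → ℂ)
    (ε m : ℂ) (hε : ε * ε = 1)
    (hvan : ∀ n : ↥(cH t), (n : G) ∉ cA t → θ n = 0) (hsum : ∑ n : ↥(cH t), θ n = 0)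
    (hθ1 : θ 1 = (kk t : ℂ))
    (hshift : ∀ n : ↥(cH t), (n : G) ∈ cA t → n ≠ 1 → ε * X n - θ n = m) :
    ∑ z : ↥(cA t), X z =
      X 1 + ε * (-(kk t : ℂ) + ((Nat.card (cA t) : ℂ) - 1) * m) := by
  classical
  let incl : ↥(cA t) → ↥(cH t) := fun z => ⟨z, Subgroup.le_normalizer z.2⟩
  have hincl : Function.Injective incl :=
    fun a b h => Subtype.ext (congrArg (fun n : ↥(cH t) => (n : G)) h)
  have h0 : ∑ z : ↥(cA t), θ (incl z) = 0 := by
    rw [← hsum]
    apply Fintype.sum_of_injective incl hincl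
    · intro n hn
      apply hvan
      intro hmem
      exact hn ⟨⟨n, hmem⟩, Subtype.ext rfl⟩
    · intro z
      rfl
  have h1 := sum_eq_of_const (fun z : ↥(cA t) => ε * X z - θ (incl z)) m (by
    intro z hz
    apply hshift (incl z) z.2
    intro h
    apply hz
    apply Subtype.ext
    exact congrArg (fun n : ↥(cH t) => (n : G)) h)
  rw [Finset.sum_sub_distrib, h0, sub_zero, ← Finset.mul_sum] at h1
  have h2 : θ (incl 1) = (kk t : ℂ) := by
    rw [← hθ1]
    rfl
  simp only [h2, OneMemClass.coe_one] at h1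
  have h3 : ∑ z : ↥(cA t), X z = ε * (ε * ∑ z : ↥(cA t), X z) := by
    rw [← mul_assoc, hε, one_mul]
  rw [h3, h1]
  linear_combination (X 1) * hε

include hCT ht in
/-- The induced function vanishes at `t v` for an involution `v` outside `A`. -/
theorem indFun_mul_invol_eq_zero (ϑ : ↥(cH t) → ℂ)
    (hvan : ∀ n : ↥(cH t), (n : G) ∉ cA t → ϑ n = 0) (h1 : ϑ 1 = 0) {v : G}
    (hv : orderOf v = 2) (hvA : v ∉ cA t) : Cfsg.indFun (cH t) ϑ (t * v) = 0 := by
  rw [indFun_apply]
  have hterm : ∀ x : G, Cfsg.extendByZero (cH t) ϑ (x⁻¹ * (t * v) * x) = 0 := by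
    intro x
    by_cases hN : x⁻¹ * (t * v) * x ∈ cH t
    · rw [extendByZero_of_mem _ _ hN]
      by_cases hA : x⁻¹ * (t * v) * x ∈ cA t
      · by_cases hy1 : x⁻¹ * (t * v) * x = 1
        · have h2 : (⟨x⁻¹ * (t * v) * x, hN⟩ : ↥(cH t)) = 1 := Subtype.ext hy1
          rw [h2, h1]
        · exfalso
          have htinv : t⁻¹ = t := _root_.inv_eq_self_of_orderOf_eq_two ht
          have hvinv : v⁻¹ = v := _root_.inv_eq_self_of_orderOf_eq_two hv
          have ht'2 : orderOf (x⁻¹ * t * x) = 2 := by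
            have := orderOf_conj_eq_two ht x⁻¹
            simpa using this
          have hconj : (x⁻¹ * t * x) * (x⁻¹ * (t * v) * x) * (x⁻¹ * t * x)⁻¹ =
              (x⁻¹ * (t * v) * x)⁻¹ := by
            have e1 : (x⁻¹ * t * x) * (x⁻¹ * (t * v) * x) * (x⁻¹ * t * x)⁻¹ =
                x⁻¹ * (t * t) * v * t⁻¹ * x := by group
            have e2 : (x⁻¹ * (t * v) * x)⁻¹ = x⁻¹ * v⁻¹ * t⁻¹ * x := by group
            have htt : t * t = 1 := sq_eq_one_of_orderOf_eq_two ht
            rw [e1, e2, htt, hvinv]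
            group
          have ht'H : x⁻¹ * t * x ∈ cH t := by
            by_contra hcon
            apply hy1
            apply TI hCT ht _ hcon _ hA
            rw [hconj]
            exact inv_mem hA
          have ht'A : x⁻¹ * t * x ∈ cA t := invol_mem hCT ht ht'2 ht'H
          have hcomm := A_comm hCT ht _ ht'A _ hA
          have hyy : x⁻¹ * (t * v) * x = (x⁻¹ * (t * v) * x)⁻¹ := by
            rw [← hconj, hcomm]
            group
          have h3 : t * v = (t * v)⁻¹ := by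
            calc t * v = x * (x⁻¹ * (t * v) * x) * x⁻¹ := by group
              _ = x * (x⁻¹ * (t * v) * x)⁻¹ * x⁻¹ := by rw [← hyy]
              _ = (t * v)⁻¹ := by group
          apply hvA
          rw [mem_centralizer_singleton]
          show t * v = v * t
          rw [h3, mul_inv_rev, htinv, hvinv]
      · exact hvan _ hA
    · exact extendByZero_of_not_mem _ _ hN
  simp [hterm]


include hna hCT ht in
theorem isConj_iff_orderOf {v : G} : IsConj v t ↔ orderOf v = 2 := by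
  constructor
  · intro h
    obtain ⟨g, hg⟩ := isConj_iff.mp h
    have h1 : v = g⁻¹ * t * g⁻¹⁻¹ := by
      rw [← hg]
      group
    rw [h1]
    exact orderOf_conj_eq_two ht g⁻¹
  · intro hv
    exact isConj_of_involutions (stronglyEmbedded hna hCT ht) hv ht

theorem card_filter_invol [DecidablePred fun s : G => orderOf s = 2 ∧ s ∈ cH t] :
    (Finset.univ.filter (fun s : G => orderOf s = 2 ∧ s ∈ cH t)).card = kk t := by
  unfold kk
  rw [Nat.card_eq_fintype_card, Fintype.card_subtype]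

include hna hCT ht in
/-- The sum of `ind ϑ (t v)` over the involutions `v`. -/
theorem sum_Phi [Fintype ↥(cH t)] (ϑ : ↥(cH t) → ℂ)
    (hcf : Cfsg.IsClassFunction ↥(cH t) ϑ)
    (hvan : ∀ n : ↥(cH t), (n : G) ∉ cA t → ϑ n = 0) (h1 : ϑ 1 = 0) (c : ℂ)
    (hinv : ∀ w : ↥(cH t), orderOf (w : G) = 2 → ϑ w = c) :
    ∑ v ∈ Cfsg.Agent.Lib.Helper3_CharColumn.conjFinset t, Cfsg.indFun (cH t) ϑ (t * v) =
      ((kk t : ℂ) - 1) * c := by
  classical
  have hS0850 := (Cfsg.Agent.S0850.result (cA t) (TI hCT ht) (lt_normalizer hna hCT ht)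
    (fun k hk hk1 => cent_le hCT ht hk hk1)).2 ϑ hcf hvan h1
  have htt : t * t = 1 := sq_eq_one_of_orderOf_eq_two ht
  have hterm : ∀ v ∈ Cfsg.Agent.Lib.Helper3_CharColumn.conjFinset t,
      Cfsg.indFun (cH t) ϑ (t * v) = if (v ∈ cH t ∧ v ≠ t) then c else 0 := by
    intro v hv
    have hv2 : orderOf v = 2 := (isConj_iff_orderOf hna hCT ht).mp
      (Cfsg.Agent.Lib.Helper3_CharColumn.mem_conjFinset.mp hv)
    split_ifs with h
    · obtain ⟨hvH, hvt⟩ := h
      have hvA : v ∈ cA t := invol_mem hCT ht hv2 hvH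
      have htvA : t * v ∈ cA t := mul_mem t_mem hvA
      have htvH : t * v ∈ cH t := Subgroup.le_normalizer htvA
      have h2 := hS0850 ⟨t * v, htvH⟩
      simp only at h2
      rw [h2]
      apply hinv
      show orderOf (t * v) = 2
      have hcomm : Commute t v := mem_centralizer_singleton.mp hvA
      have : Fact (Nat.Prime 2) := ⟨Nat.prime_two⟩
      apply orderOf_eq_prime
      · rw [hcomm.mul_pow, sq, sq, htt, sq_eq_one_of_orderOf_eq_two hv2, one_mul]
      · intro h3
        apply hvt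
        have h4 : v = t⁻¹ := eq_inv_of_mul_eq_one_right h3
        rw [h4, _root_.inv_eq_self_of_orderOf_eq_two ht]
    · by_cases hvH : v ∈ cH t
      · have hvt : v = t := by
          by_contra hne
          exact h ⟨hvH, hne⟩
        rw [hvt, htt]
        have h2 := hS0850 1
        rw [h1] at h2
        exact h2
      · apply indFun_mul_invol_eq_zero hCT ht ϑ hvan h1 hv2
        intro hvA
        exact hvH (Subgroup.le_normalizer hvA)
  rw [Finset.sum_congr rfl hterm, Finset.sum_ite, Finset.sum_const_zero, add_zero,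
    Finset.sum_const, nsmul_eq_mul]
  congr 1
  have hfilter : (Cfsg.Agent.Lib.Helper3_CharColumn.conjFinset t).filter
      (fun v => v ∈ cH t ∧ v ≠ t) =
      (Finset.univ.filter (fun s : G => orderOf s = 2 ∧ s ∈ cH t)).erase t := by
    ext v
    simp only [Finset.mem_filter, Finset.mem_erase, Finset.mem_univ, true_and,
      Cfsg.Agent.Lib.Helper3_CharColumn.mem_conjFinset, isConj_iff_orderOf hna hCT ht]
    tauto
  have htmem : t ∈ Finset.univ.filter (fun s : G => orderOf s = 2 ∧ s ∈ cH t) := by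
    simp only [Finset.mem_filter, Finset.mem_univ, true_and]
    exact ⟨ht, Subgroup.le_normalizer t_mem⟩
  rw [hfilter, Finset.card_erase_of_mem htmem, card_filter_invol, Nat.cast_sub (kk_pos ht),
    Nat.cast_one]

/-- The class equation for the class of `t`. -/
theorem class_eq {X : G → ℂ} (hX : Cfsg.IsIrrCharacter G X) :
    (Nat.card G : ℂ) * X t * X t =
      X 1 * ((Nat.card (cA t) : ℂ) *
        ∑ v ∈ Cfsg.Agent.Lib.Helper3_CharColumn.conjFinset t, X (t * v)) := by
  have h1 := Cfsg.Agent.Lib.Helper79_ClassAlgebra2.irr_card_mul_mul hX t t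
  rw [Cfsg.Agent.Lib.Helper77_CAd.sum_conj_eq t (fun y => X (t * y))] at h1
  rw [Nat.card_eq_fintype_card]
  exact h1

include hCT ht in
theorem lt_card_A {x₀ : G} (hx₀ : x₀ ∈ cA t) (hx₀2 : x₀ ^ 2 ≠ 1) :
    kk t + 1 < Nat.card (cA t) := by
  classical
  have hA : (Finset.univ.filter (fun s : G => s ∈ cA t)).card = Nat.card (cA t) := by
    rw [Nat.card_eq_fintype_card, Fintype.card_subtype]
  rw [← card_filter_invol (t := t), ← hA]
  have hsub : insert 1 (insert x₀ (Finset.univ.filter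
      (fun s : G => orderOf s = 2 ∧ s ∈ cH t))) ⊆ Finset.univ.filter (fun s : G => s ∈ cA t) := by
    intro y hy
    simp only [Finset.mem_insert, Finset.mem_filter, Finset.mem_univ, true_and] at hy ⊢
    rcases hy with rfl | rfl | ⟨hy2, hyH⟩
    · exact one_mem _
    · exact hx₀
    · exact invol_mem hCT ht hy2 hyH
  have hcard := Finset.card_le_card hsub
  rw [Finset.card_insert_of_notMem, Finset.card_insert_of_notMem] at hcard
  · omega
  · simp only [Finset.mem_filter, Finset.mem_univ, true_and, not_and]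
    intro h2
    exfalso
    apply hx₀2
    rw [← h2]
    exact pow_orderOf_eq_one x₀
  · simp only [Finset.mem_insert, Finset.mem_filter, Finset.mem_univ, true_and, not_or, not_and]
    refine ⟨?_, ?_⟩
    · intro h
      apply hx₀2
      rw [← h]
      exact one_pow 2
    · intro h
      rw [orderOf_one] at h
      omega


include hna hCT ht in
/-- The numerical core: the coherent case leads to a contradiction. -/
theorem no_coherent_aux [Fintype ↥(cH t)] (hak : kk t + 1 < Nat.card (cA t))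
    (θi θj : ↥(cH t) → ℂ) (hirri : Cfsg.IsIrrCharacter ↥(cH t) θi)
    (hirrj : Cfsg.IsIrrCharacter ↥(cH t) θj)
    (hvani : ∀ n : ↥(cH t), (n : G) ∉ cA t → θi n = 0)
    (hvanj : ∀ n : ↥(cH t), (n : G) ∉ cA t → θj n = 0)
    (hθi1 : θi 1 = (kk t : ℂ)) (hθj1 : θj 1 = (kk t : ℂ))
    (hsumi : ∑ n : ↥(cH t), θi n = 0) (hsumj : ∑ n : ↥(cH t), θj n = 0)
    (hinvi : ∀ v : ↥(cH t), orderOf (v : G) = 2 → θi v = (kk t : ℂ))
    (hinvj : ∀ v : ↥(cH t), orderOf (v : G) = 2 → θj v = -1)
    (X Y : G → ℂ) (hXirr : Cfsg.IsIrrCharacter G X) (hYirr : Cfsg.IsIrrCharacter G Y)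
    (hXY : X ≠ Y) (ε : ℂ) (hε : ε = 1 ∨ ε = -1) (m : ℤ)
    (hmX : ∀ n : ↥(cH t), (n : G) ∈ cA t → n ≠ 1 → ε * X n - θi n = (m : ℂ))
    (hmY : ∀ n : ↥(cH t), (n : G) ∈ cA t → n ≠ 1 → ε * Y n - θj n = (m : ℂ))
    (hΦ : Cfsg.indFun (cH t) (θi - θj) = ε • (X - Y)) : False := by
  classical
  have : Fintype ↥(cA t) := Fintype.ofFinite _
  have hε2 : ε * ε = 1 := by
    rcases hε with h | h <;> rw [h] <;> ring
  have hε0 : ε ≠ 0 := by
    rcases hε with h | h <;> rw [h] <;> norm_num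
  have hεc : conj ε = ε := by
    rcases hε with h | h <;> rw [h] <;> simp
  have ha0 := card_A_ne_zero (t := t)
  have hk0 : (kk t : ℂ) + 1 ≠ 0 := by
    have : ((kk t + 1 : ℕ) : ℂ) ≠ 0 := Nat.cast_ne_zero.mpr (Nat.succ_ne_zero _)
    simpa using this
  -- `X 1 = Y 1`
  have hX1 : X 1 = Y 1 := by
    have h1 := congrFun hΦ 1
    rw [indFun_one] at h1
    simp only [Pi.sub_apply, Pi.smul_apply, smul_eq_mul, hθi1, hθj1, sub_self, mul_zero] at h1
    have h2 : X 1 - Y 1 = 0 := by
      rcases mul_eq_zero.mp h1.symm with h | h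
      · exact absurd h hε0
      · exact h
    linear_combination h2
  obtain ⟨d, -, hd⟩ := Cfsg.Agent.Lib.Helper3_CharColumn.irr_one_eq_natCast hXirr
  have hdY : Y 1 = (d : ℂ) := by rw [← hX1, hd]
  -- the sums over `A`
  have hSX := sum_shift X θi ε (m : ℂ) hε2 hvani hsumi hθi1 hmX
  have hSY := sum_shift Y θj ε (m : ℂ) hε2 hvanj hsumj hθj1 hmY
  rw [hd] at hSX
  rw [hdY] at hSY
  -- the inner products with `ω`
  have hωchar : Cfsg.IsCharacter G (om t) :=
    Cfsg.Agent.Lib.Helper75_IndChar.isCharacter_indFun (cA t)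
      (isCharacter_of_isIrrCharacter (Cfsg.Agent.Lib.Helper80_CharBasic.isIrrCharacter_one _))
  obtain ⟨n, hn⟩ := Cfsg.Agent.Lib.Helper75_CharArith.classInner_isCharacter_nat hωchar
    (isCharacter_of_isIrrCharacter hXirr)
  have hconjS : conj ((d : ℂ) + ε * (-(kk t : ℂ) + ((Nat.card (cA t) : ℂ) - 1) * (m : ℂ))) =
      (d : ℂ) + ε * (-(kk t : ℂ) + ((Nat.card (cA t) : ℂ) - 1) * (m : ℂ)) := by
    simp only [map_add, map_mul, map_sub, map_neg, map_one, Complex.conj_natCast,
      map_intCast, hεc]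
  have hinX : Cfsg.classInner (om t) X = (Nat.card (cA t) : ℂ)⁻¹ *
      ((d : ℂ) + ε * (-(kk t : ℂ) + ((Nat.card (cA t) : ℂ) - 1) * (m : ℂ))) := by
    rw [classInner_omega (cA t) X (isClassFunction_of_isIrrCharacter hXirr), hSX, hconjS]
  have hinY : Cfsg.classInner (om t) Y = (Nat.card (cA t) : ℂ)⁻¹ *
      ((d : ℂ) + ε * (-(kk t : ℂ) + ((Nat.card (cA t) : ℂ) - 1) * (m : ℂ))) := by
    rw [classInner_omega (cA t) Y (isClassFunction_of_isIrrCharacter hYirr), hSY, hconjS]
  have hnY : Cfsg.classInner (om t) Y = (n : ℂ) := by rw [hinY, ← hinX, hn]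
  have hbessel := Cfsg.Agent.Lib.Helper77_CAd.bessel_two hXirr hYirr hXY (n : ℤ) (kk t)
    (by rw [hn]; simp) (by rw [hnY]; simp) (inner_om_om hna hCT ht)
  -- equation (I)
  have hEI : (Nat.card (cA t) : ℂ) * (n : ℂ) =
      (d : ℂ) + ε * ((m : ℂ) * ((Nat.card (cA t) : ℂ) - 1) - (kk t : ℂ)) := by
    rw [← hn, hinX]
    field_simp
    ring
  -- values at `t`
  have htH : t ∈ cH t := Subgroup.le_normalizer t_mem
  have ht1 : (⟨t, htH⟩ : ↥(cH t)) ≠ 1 := fun h => t_ne_one ht (congrArg Subtype.val h)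
  have hXt : X t = ε * ((kk t : ℂ) + (m : ℂ)) := by
    have h1 := hmX ⟨t, htH⟩ t_mem ht1
    rw [hinvi ⟨t, htH⟩ ht] at h1
    simp only at h1
    linear_combination ε * h1 - (X t) * hε2
  have hYt : Y t = ε * ((m : ℂ) - 1) := by
    have h1 := hmY ⟨t, htH⟩ t_mem ht1
    rw [hinvj ⟨t, htH⟩ ht] at h1
    simp only at h1
    linear_combination ε * h1 - (Y t) * hε2
  -- the class equations
  have hcX := class_eq (t := t) hXirr
  have hcY := class_eq (t := t) hYirr
  have hcf : Cfsg.IsClassFunction ↥(cH t) (θi - θj) :=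
    Cfsg.Agent.Lib.Helper3_CharComplete.isClassFunction_sub
      (isClassFunction_of_isIrrCharacter hirri) (isClassFunction_of_isIrrCharacter hirrj)
  have hsP := sum_Phi hna hCT ht (θi - θj) hcf
    (fun n hn => by rw [Pi.sub_apply, hvani n hn, hvanj n hn, sub_zero])
    (by rw [Pi.sub_apply, hθi1, hθj1, sub_self]) ((kk t : ℂ) + 1)
    (fun w hw => by rw [Pi.sub_apply, hinvi w hw, hinvj w hw]; ring)
  have hdiff : ∑ v ∈ Cfsg.Agent.Lib.Helper3_CharColumn.conjFinset t, X (t * v) -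
      ∑ v ∈ Cfsg.Agent.Lib.Helper3_CharColumn.conjFinset t, Y (t * v) =
      ε * (((kk t : ℂ) - 1) * ((kk t : ℂ) + 1)) := by
    rw [← hsP, hΦ, ← Finset.sum_sub_distrib, Finset.mul_sum]
    refine Finset.sum_congr rfl (fun v _ => ?_)
    simp only [Pi.sub_apply, Pi.smul_apply, smul_eq_mul]
    linear_combination (-(X (t * v) - Y (t * v))) * hε2
  rw [hd, hXt, card_G_cast hna hCT ht] at hcX
  rw [hdY, hYt, card_G_cast hna hCT ht] at hcY
  -- equation (II)
  have hEII : ε * (d : ℂ) * ((kk t : ℂ) - 1) =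
      ((Nat.card (cA t) : ℂ) + 1) * (kk t : ℂ) * ((kk t : ℂ) - 1 + 2 * (m : ℂ)) := by
    have h3 : (Nat.card (cA t) : ℂ) * ((kk t : ℂ) + 1) *
        (ε * (d : ℂ) * ((kk t : ℂ) - 1)) =
        (Nat.card (cA t) : ℂ) * ((kk t : ℂ) + 1) *
        (((Nat.card (cA t) : ℂ) + 1) * (kk t : ℂ) * ((kk t : ℂ) - 1 + 2 * (m : ℂ))) := by
      linear_combination (-1 : ℂ) * hcX + hcY - (d : ℂ) * (Nat.card (cA t) : ℂ) * hdiff +
        (((Nat.card (cA t) : ℂ) + 1) * ((Nat.card (cA t) : ℂ) * (kk t : ℂ)) *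
          (((kk t : ℂ) + (m : ℂ)) ^ 2 - ((m : ℂ) - 1) ^ 2)) * hε2
    exact mul_left_cancel₀ (mul_ne_zero ha0 hk0) h3
  -- casting to integers
  have hk2 : (2 : ℤ) ≤ (kk t : ℤ) := by exact_mod_cast two_le_kk hna hCT ht
  have hak' : (kk t : ℤ) + 1 < (Nat.card (cA t) : ℤ) := by exact_mod_cast hak
  have hdvd : (kk t : ℤ) ∣ (Nat.card (cA t) : ℤ) - 1 := by
    have h1 := kk_dvd hna hCT ht
    have h2 : 1 ≤ Nat.card (cA t) := Nat.card_pos
    have h3 := Int.natCast_dvd_natCast.mpr h1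
    rwa [Nat.cast_sub h2, Nat.cast_one] at h3
  rcases hε with h | h
  · subst h
    refine arith_false (Nat.card (cA t) : ℤ) (kk t : ℤ) (n : ℤ) m (d : ℤ) 1 (Or.inl rfl) hk2 hak'
      hdvd hbessel ?_ ?_
    · have : (((Nat.card (cA t) : ℤ) * (n : ℤ) : ℤ) : ℂ) =
          (((d : ℤ) + 1 * (m * ((Nat.card (cA t) : ℤ) - 1) - (kk t : ℤ)) : ℤ) : ℂ) := by
        push_cast
        linear_combination hEI
      exact_mod_cast this
    · have : (((1 : ℤ) * (d : ℤ) * ((kk t : ℤ) - 1) : ℤ) : ℂ) =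
          ((((Nat.card (cA t) : ℤ) + 1) * (kk t : ℤ) * ((kk t : ℤ) - 1 + 2 * m) : ℤ) : ℂ) := by
        push_cast
        linear_combination hEII
      exact_mod_cast this
  · subst h
    refine arith_false (Nat.card (cA t) : ℤ) (kk t : ℤ) (n : ℤ) m (d : ℤ) (-1) (Or.inr rfl) hk2 hak'
      hdvd hbessel ?_ ?_
    · have : (((Nat.card (cA t) : ℤ) * (n : ℤ) : ℤ) : ℂ) =
          (((d : ℤ) + (-1) * (m * ((Nat.card (cA t) : ℤ) - 1) - (kk t : ℤ)) : ℤ) : ℂ) := by
        push_cast
        linear_combination hEI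
      exact_mod_cast this
    · have : (((-1 : ℤ) * (d : ℤ) * ((kk t : ℤ) - 1) : ℤ) : ℂ) =
          ((((Nat.card (cA t) : ℤ) + 1) * (kk t : ℤ) * ((kk t : ℤ) - 1 + 2 * m) : ℤ) : ℂ) := by
        push_cast
        linear_combination hEII
      exact_mod_cast this

end Concrete

end Cfsg.Agent.Lib.Helper77_CAh
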