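import Mathlib
import Cfsg.Agent.Lib.Helper77_CAh
import Cfsg.Agent.S0851

/-!
# CA-groups, part (i): centralizers of involutions are elementary abelian (helper77)

In a finite non-abelian simple CT-group the centralizer of every involution is an elementary
abelian 2-group (`CIT` in the sense of `Helper21_BSW`).  The proof uses the dichotomy of S0851 for
the abelian T.I. subgroup `A = C(t)`: the coherent alternative is excluded by
`Helper77_CAh.no_coherent_aux`.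
-/

set_option autoImplicit false
set_option linter.unusedSectionVars false
open Cfsg
open scoped ComplexConjugate

namespace Cfsg.Agent.Lib.Helper77_CAi

open Cfsg.Agent.Lib.Helper77_CAa Cfsg.Agent.Lib.Helper77_CAb Cfsg.Agent.Lib.Helper77_CAc
  Cfsg.Agent.Lib.Helper77_CAf Cfsg.Agent.Lib.Helper77_CAg Cfsg.Agent.Lib.Helper77_CAh
  Cfsg.Agent.Lib.Helper21_StronglyEmbedded Cfsg.Agent.Lib.Helper57_FrobNorm

section Coherent

variable {G : Type*} [Group G] [Fintype G] [IsSimpleGroup G] (hna : ¬ IsMulCommutative G)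
  (hCT : CT G) {t : G} (ht : orderOf t = 2)

include hna hCT ht in
/-- The coherent alternative of S0851 cannot hold for `A = C(t)` unless `A` has exponent 2. -/
theorem no_coherent [Fintype ↥(cH t)] {x₀ : G} (hx₀ : x₀ ∈ cA t) (hx₀2 : x₀ ^ 2 ≠ 1)
    (ε : ℂ) (hε : ε = 1 ∨ ε = -1) (f : Rel (cA t) → Cfsg.IrrCharacter G)
    (hf : Function.Injective f)
    (hind : ∀ χ ξ : Rel (cA t),
      Cfsg.indFun (Subgroup.normalizer ((cA t : Subgroup G) : Set G))
        ((χ.1 : ↥(Subgroup.normalizer ((cA t : Subgroup G) : Set G)) → ℂ) -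
          (ξ.1 : ↥(Subgroup.normalizer ((cA t : Subgroup G) : Set G)) → ℂ)) =
      ε • ((f χ : G → ℂ) - (f ξ : G → ℂ))) : False := by
  have hTI := TI hCT ht
  have hlt := lt_normalizer hna hCT ht
  have hC : ∀ k ∈ cA t, k ≠ 1 → Subgroup.centralizer ({k} : Set G) ≤ cA t :=
    fun k hk hk1 => cent_le hCT ht hk hk1
  have hab := A_comm hCT ht
  obtain ⟨θi, θj, hirri, hirrj, hvani, hvanj, hθi1, hθj1, hreli, hrelj, hinvi, hinvj⟩ :=
    exists_theta_N hna hCT ht hx₀ hx₀2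
  obtain ⟨m, hm⟩ := exists_shift (cA t) hTI hlt hC hab ε hε f hf hind ⟨⟨θi, hirri⟩, hreli⟩
  have htH : t ∈ cH t := Subgroup.le_normalizer t_mem
  have hij : (⟨⟨θi, hirri⟩, hreli⟩ : Rel (cA t)) ≠ ⟨⟨θj, hirrj⟩, hrelj⟩ := by
    intro h
    have h1 : θi = θj := congrArg (fun χ : Rel (cA t) => (χ.1 : ↥(cH t) → ℂ)) h
    have h2 := congrFun h1 ⟨t, htH⟩
    rw [hinvi ⟨t, htH⟩ ht, hinvj ⟨t, htH⟩ ht] at h2
    have h3 : ((kk t + 1 : ℕ) : ℂ) = 0 := by
      push_cast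
      rw [h2]
      ring
    exact Nat.succ_ne_zero _ (Nat.cast_eq_zero.mp h3)
  exact no_coherent_aux hna hCT ht (lt_card_A hCT ht hx₀ hx₀2) θi θj hirri hirrj hvani hvanj
    hθi1 hθj1 (relevant_sum (cH t) (cA t) ⟨hirri, hreli⟩)
    (relevant_sum (cH t) (cA t) ⟨hirrj, hrelj⟩) hinvi hinvj
    (f ⟨⟨θi, hirri⟩, hreli⟩ : G → ℂ) (f ⟨⟨θj, hirrj⟩, hrelj⟩ : G → ℂ)
    (f ⟨⟨θi, hirri⟩, hreli⟩).2 (f ⟨⟨θj, hirrj⟩, hrelj⟩).2
    (fun h => hij (hf (Subtype.ext h))) ε hε m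
    (fun n hn hn1 => hm ⟨⟨θi, hirri⟩, hreli⟩ n hn hn1)
    (fun n hn hn1 => hm ⟨⟨θj, hirrj⟩, hrelj⟩ n hn hn1)
    (hind ⟨⟨θi, hirri⟩, hreli⟩ ⟨⟨θj, hirrj⟩, hrelj⟩)

end Coherent

section Main

variable {G : Type*} [Group G] [Finite G] [IsSimpleGroup G] (hna : ¬ IsMulCommutative G)
  (hCT : CT G)

include hna hCT in
/-- In a finite non-abelian simple CT-group, `C(t)` has exponent 2 for every involution `t`. -/
theorem sq_eq_one_of_mem {t : G} (ht : orderOf t = 2) : ∀ c ∈ cA t, c ^ 2 = 1 := by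
  classical
  by_contra hcon
  push Not at hcon
  obtain ⟨x₀, hx₀, hx₀2⟩ := hcon
  haveI : Fintype G := Fintype.ofFinite G
  haveI : Fintype ↥(cH t) := Fintype.ofFinite _
  have hTI := TI hCT ht
  have hlt := lt_normalizer hna hCT ht
  have hC : ∀ k ∈ cA t, k ≠ 1 → Subgroup.centralizer ({k} : Set G) ≤ cA t :=
    fun k hk hk1 => cent_le hCT ht hk hk1
  have hab := A_comm hCT ht
  rcases Cfsg.Agent.S0851.result (cA t) hTI hlt hC hab with
    ⟨-, p, hp, hel, -⟩ | ⟨ε, f, hε, hf, hind⟩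
  · have h1 : t ^ p = 1 := hel.2 t t_mem
    have h2 : 2 ∣ p := by
      rw [← ht]
      exact orderOf_dvd_of_pow_eq_one h1
    have h3 : p = 2 := ((Nat.prime_dvd_prime_iff_eq Nat.prime_two hp).mp h2).symm
    subst h3
    exact hx₀2 (hel.2 x₀ hx₀)
  · exact no_coherent hna hCT ht hx₀ hx₀2 ε hε f hf hind

include hna hCT in
/-- A finite non-abelian simple CT-group is a CIT-group. -/
theorem cit_of_ct : Cfsg.Agent.Lib.Helper21_BSW.CIT G := by
  intro t ht
  refine ⟨?_, sq_eq_one_of_mem hna hCT ht⟩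
  constructor
  constructor
  intro a b
  apply Subtype.ext
  exact A_comm hCT ht a a.2 b b.2

end Main

end Cfsg.Agent.Lib.Helper77_CAi
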