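import Mathlib
import Cfsg.Prelude.Def_Blocks
import Cfsg.Agent.Lib.Helper77_NormalDefect
import Cfsg.Agent.Lib.Helper16_BlockOrth
import Cfsg.Agent.Lib.Helper78_CentralChar
import Cfsg.Agent.Lib.Helper78_CharFacts
import Cfsg.Agent.Lib.Helper80_CharBasic
import Cfsg.Agent.Lib.Helper75_Clifford
import Cfsg.Agent.Lib.Helper3_CharComplete
import Cfsg.Agent.Lib.Helper77_BlockBasics
import Cfsg.Agent.S0133

set_option autoImplicit false

namespace Cfsg.Agent.Lib.Helper77_CanonChar

open Cfsg Cfsg.Agent.Lib.Helper78_LocalRing Cfsg.Agent.Lib.Helper77_NormalDefect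

open scoped ComplexConjugate

/-- **Rank-one Gram lemma.** If the Gram matrix of the vectors `a i` is a scalar multiple of
`v vᴴ`, each `a i` is a multiple of `v`. -/
theorem exists_smul_of_gram {ι κ : Type*} [Fintype ι] [Fintype κ] (a : ι → κ → ℂ) (v : κ → ℂ)
    (c : ℂ) (h : ∀ y y' : κ, ∑ i, a i y * conj (a i y') = c * (v y * conj (v y')))
    (i₀ : ι) : ∃ t : ℂ, ∀ y, a i₀ y = t * v y := by
  classical
  set N : ℂ := ∑ y, v y * conj (v y) with hN
  have hNreal : conj N = N := by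
    rw [hN, map_sum]
    refine Finset.sum_congr rfl fun y _ => ?_
    rw [map_mul, Complex.conj_conj, mul_comm]
  -- a general consequence: sums of squares
  have hsq : ∀ w : κ → ℂ, (∑ y, v y * conj (w y) = 0) → ∀ i, ∑ y, a i y * conj (w y) = 0 := by
    intro w hw
    have h1 : ∑ i, (∑ y, a i y * conj (w y)) * conj (∑ y, a i y * conj (w y)) = 0 := by
      have : ∀ i, (∑ y, a i y * conj (w y)) * conj (∑ y, a i y * conj (w y)) =
          ∑ y, ∑ y', conj (w y) * w y' * (a i y * conj (a i y')) := by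
        intro i
        rw [map_sum, Finset.sum_mul_sum]
        refine Finset.sum_congr rfl fun y _ => Finset.sum_congr rfl fun y' _ => ?_
        rw [map_mul, Complex.conj_conj]
        ring
      simp_rw [this]
      rw [Finset.sum_comm]
      have h2 : ∀ y, ∑ i, ∑ y', conj (w y) * w y' * (a i y * conj (a i y')) =
          ∑ y', conj (w y) * w y' * (c * (v y * conj (v y'))) := by
        intro y
        rw [Finset.sum_comm]
        refine Finset.sum_congr rfl fun y' _ => ?_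
        rw [← Finset.mul_sum, h y y']
      simp_rw [h2]
      have h3 : ∑ y, ∑ y', conj (w y) * w y' * (c * (v y * conj (v y'))) =
          c * ((∑ y, v y * conj (w y)) * conj (∑ y, v y * conj (w y))) := by
        rw [map_sum, Finset.sum_mul_sum, Finset.mul_sum]
        refine Finset.sum_congr rfl fun y _ => ?_
        rw [Finset.mul_sum]
        refine Finset.sum_congr rfl fun y' _ => ?_
        rw [map_mul, Complex.conj_conj]
        ring
      rw [h3, hw, zero_mul, mul_zero]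
    simp_rw [Complex.mul_conj] at h1
    have h4 : ∑ i, Complex.normSq (∑ y, a i y * conj (w y)) = 0 := by
      have : ((∑ i, Complex.normSq (∑ y, a i y * conj (w y)) : ℝ) : ℂ) = 0 := by
        push_cast
        exact h1
      exact_mod_cast this
    intro i
    have h5 := (Finset.sum_eq_zero_iff_of_nonneg (fun i _ => Complex.normSq_nonneg _)).mp h4 i
      (Finset.mem_univ _)
    exact Complex.normSq_eq_zero.mp h5
  by_cases hN0 : N = 0
  · -- `v = 0`
    have hv : ∀ y, v y = 0 := by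
      have h6 : ∑ y, Complex.normSq (v y) = 0 := by
        have : ((∑ y, Complex.normSq (v y) : ℝ) : ℂ) = 0 := by
          push_cast
          simp_rw [← Complex.mul_conj]
          exact hN0
        exact_mod_cast this
      intro y
      have := (Finset.sum_eq_zero_iff_of_nonneg (fun y _ => Complex.normSq_nonneg _)).mp h6 y
        (Finset.mem_univ _)
      exact Complex.normSq_eq_zero.mp this
    refine ⟨0, fun y => ?_⟩
    have h7 := hsq (a i₀) (by simp [hv]) i₀
    simp_rw [Complex.mul_conj] at h7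
    have h8 : ∑ y, Complex.normSq (a i₀ y) = 0 := by
      have : ((∑ y, Complex.normSq (a i₀ y) : ℝ) : ℂ) = 0 := by
        push_cast
        exact h7
      exact_mod_cast this
    have := (Finset.sum_eq_zero_iff_of_nonneg (fun y _ => Complex.normSq_nonneg _)).mp h8 y
      (Finset.mem_univ _)
    rw [Complex.normSq_eq_zero.mp this, zero_mul]
  · set t : ℂ := (∑ y, a i₀ y * conj (v y)) / N with ht
    set w : κ → ℂ := fun y => a i₀ y - t * v y with hw
    have hvw : ∑ y, v y * conj (w y) = 0 := by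
      simp only [hw, map_sub, map_mul, mul_sub]
      rw [Finset.sum_sub_distrib]
      have h9 : ∑ y, v y * (conj t * conj (v y)) = conj t * N := by
        rw [hN, Finset.mul_sum]
        refine Finset.sum_congr rfl fun y _ => ?_
        ring
      have h10 : conj t = (∑ y, v y * conj (a i₀ y)) / N := by
        rw [ht, map_div₀, hNreal, map_sum]
        congr 1
        refine Finset.sum_congr rfl fun y _ => ?_
        rw [map_mul, Complex.conj_conj, mul_comm]
      rw [h9, h10, div_mul_cancel₀ _ hN0, sub_self]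
    have haw := hsq w hvw i₀
    have hww : ∑ y, w y * conj (w y) = 0 := by
      have : ∀ y, w y * conj (w y) = a i₀ y * conj (w y) - t * (v y * conj (w y)) := by
        intro y
        simp only [hw]
        ring
      simp_rw [this]
      rw [Finset.sum_sub_distrib, ← Finset.mul_sum, haw, hvw, mul_zero, sub_zero]
    simp_rw [Complex.mul_conj] at hww
    have h11 : ∑ y, Complex.normSq (w y) = 0 := by
      have : ((∑ y, Complex.normSq (w y) : ℝ) : ℂ) = 0 := by
        push_cast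
        exact hww
      exact_mod_cast this
    refine ⟨t, fun y => ?_⟩
    have := (Finset.sum_eq_zero_iff_of_nonneg (fun y _ => Complex.normSq_nonneg _)).mp h11 y
      (Finset.mem_univ _)
    have hwy : w y = 0 := Complex.normSq_eq_zero.mp this
    simp only [hw] at hwy
    exact sub_eq_zero.mp hwy

/-- The `p`-part of an element is unique. -/
theorem isPPart_unique {G : Type*} [Group G] [Finite G] {p : ℕ} (hp : p.Prime) {g x x₂ : G}
    (h : IsPPart p g x) (h₂ : IsPPart p g x₂) : x = x₂ := by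
  obtain ⟨y, hxy, hc, ⟨k, hk⟩, hy⟩ := h
  obtain ⟨y₂, hxy₂, hc₂, ⟨k₂, hk₂⟩, hy₂⟩ := h₂
  set K := max k k₂ + 1 with hK
  set m := orderOf y * orderOf y₂ with hm
  have hcop : Nat.Coprime m (p ^ K) := by
    apply Nat.Coprime.pow_right
    apply Nat.Coprime.mul_left
    · exact ((Nat.Prime.coprime_iff_not_dvd hp).mpr hy).symm
    · exact ((Nat.Prime.coprime_iff_not_dvd hp).mpr hy₂).symm
  have hlt : 1 < p ^ K := Nat.one_lt_pow (by omega) hp.one_lt
  obtain ⟨a, -, ha⟩ := Nat.exists_mul_mod_eq_one_of_coprime hcop hlt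
  have hE : m * a = 1 + p ^ K * (m * a / p ^ K) := by
    have := Nat.div_add_mod (m * a) (p ^ K)
    rw [ha] at this
    omega
  set q := m * a / p ^ K with hq
  have h1 : g ^ (m * a) = x := by
    apply Cfsg.Agent.Lib.Helper16_BlockOrth.pow_eq_of_ppart hxy hc (q := p ^ (K - k) * q)
    · exact Dvd.dvd.mul_right (Dvd.intro _ rfl) a
    · rw [hE, hk, ← mul_assoc, ← pow_add]
      congr 3
      omega
  have h2 : g ^ (m * a) = x₂ := by
    apply Cfsg.Agent.Lib.Helper16_BlockOrth.pow_eq_of_ppart hxy₂ hc₂ (q := p ^ (K - k₂) * q)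
    · exact Dvd.dvd.mul_right (Dvd.intro_left _ rfl) a
    · rw [hE, hk₂, ← mul_assoc, ← pow_add]
      congr 3
      omega
  rw [← h1, h2]


/-- **Gram identity on the `p`-section of an element of `P`**, general form. -/
theorem section_gram₂ {G : Type*} [Group G] [Finite G] {p : ℕ} [Fact p.Prime]
    {M : Ideal AlgInt} (hM : IsPModular p M) {B : Set (IrrCharacter G)} (hB : IsPBlock M B)
    (P : Subgroup G) [P.Normal] [Fintype P] [DecidableRel (IsConj : P → P → Prop)]
    (hP : IsPGroup p P) (hG : P ⊔ Subgroup.centralizer (P : Set G) = ⊤)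
    (θ : IrrCharacter G) (hθ : θ ∈ B) (hθk : ∀ u ∈ P, (θ : G → ℂ) u = (θ : G → ℂ) 1)
    (huniq : ∀ χ ∈ B, (∀ u ∈ P, (χ : G → ℂ) u = (χ : G → ℂ) 1) → χ = θ)
    (u : P) (y y' : G) (hy : ¬ p ∣ orderOf y) (hy' : ¬ p ∣ orderOf y') :
    ((Finset.univ.filter (fun v : P => IsConj v u)).card : ℂ) *
      ∑ᶠ χ ∈ B, (χ : G → ℂ) ((u : G) * y) * conj ((χ : G → ℂ) ((u : G) * y')) =
      (Nat.card P : ℂ) * ((θ : G → ℂ) y * conj ((θ : G → ℂ) y')) := by
  classical
  have := Fintype.ofFinite G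
  have hfin : Finite (IrrCharacter G) := Cfsg.Agent.Lib.Helper78_CharFacts.charFacts.finite
  have hreg := commute_of_sup_centralizer P hP hG
  have hS1 : ∑ v : P, ∑ᶠ χ ∈ B, (χ : G → ℂ) (y * (v : G)) * conj ((χ : G → ℂ) ((u : G) * y')) =
      (Nat.card P : ℂ) * ((θ : G → ℂ) y * conj ((θ : G → ℂ) y')) := by
    simp_rw [finsum_mem_eq_finite_toFinset_sum _ (Set.toFinite B)]
    rw [Finset.sum_comm]
    simp_rw [← Finset.sum_mul, sum_mul_normal _ P y]
    rw [Finset.sum_eq_single θ]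
    · rw [if_pos (show P ≤ Cfsg.Agent.S4835.irrKer θ from
        fun v hv => (Cfsg.Agent.S4835.mem_irrKer θ v).mpr (hθk v hv))]
      have : (θ : G → ℂ) ((u : G) * y') = (θ : G → ℂ) y' := by
        rw [← hreg y' hy' u u.2]
        exact irr_mul_ker θ y' u (hθk u u.2)
      rw [this]
      ring
    · intro χ hχ hne
      rw [Set.Finite.mem_toFinset] at hχ
      rw [if_neg, zero_mul]
      intro hle
      exact hne (huniq χ hχ (fun v hv => (Cfsg.Agent.S4835.mem_irrKer χ v).mp (hle hv)))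
    · intro h
      exact absurd ((Set.Finite.mem_toFinset _).mpr hθ) h
  rw [← hS1, ← Finset.sum_filter_add_sum_filter_not Finset.univ (fun v : P => IsConj v u)]
  have h2 : ∑ v ∈ Finset.univ.filter (fun v : P => ¬ IsConj v u),
      ∑ᶠ χ ∈ B, (χ : G → ℂ) (y * (v : G)) * conj ((χ : G → ℂ) ((u : G) * y')) = 0 := by
    apply Finset.sum_eq_zero
    intro v hv
    rw [Finset.mem_filter] at hv
    have hv1 : IsPPart p (y * (v : G)) (v : G) :=
      ⟨y, (hreg y hy v v.2).symm, (hreg y hy v v.2).symm, exists_orderOf_eq_of_mem hP v.2, hy⟩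
    have hu1 : IsPPart p ((u : G) * y') (u : G) :=
      ⟨y', rfl, (hreg y' hy' u u.2).symm, exists_orderOf_eq_of_mem hP u.2, hy'⟩
    apply Cfsg.Agent.Lib.Helper16_BlockOrth.block_orthogonality hM hB hv1 hu1
    intro hconj
    apply hv.2
    obtain ⟨s, hs⟩ := isConj_iff.mp hconj
    obtain ⟨t, ht, hst⟩ := conj_eq_conj_of_sup_centralizer P hG s (v : G) v.2
    rw [isConj_iff]
    refine ⟨⟨t, ht⟩, ?_⟩
    apply Subtype.ext
    simp only [Subgroup.coe_mul, InvMemClass.coe_inv]
    rw [← hst, hs]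
  have h1 : ∑ v ∈ Finset.univ.filter (fun v : P => IsConj v u),
      ∑ᶠ χ ∈ B, (χ : G → ℂ) (y * (v : G)) * conj ((χ : G → ℂ) ((u : G) * y')) =
      ∑ v ∈ Finset.univ.filter (fun v : P => IsConj v u),
      ∑ᶠ χ ∈ B, (χ : G → ℂ) ((u : G) * y) * conj ((χ : G → ℂ) ((u : G) * y')) := by
    refine Finset.sum_congr rfl fun v hv => ?_
    rw [Finset.mem_filter] at hv
    obtain ⟨t, ht⟩ := isConj_iff.mp hv.2.symm
    have hvt : (v : G) = (t : G) * (u : G) * (t : G)⁻¹ := by
      have := congrArg Subtype.val ht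
      simpa using this.symm
    have hyt : y * (t : G) = (t : G) * y := hreg y hy t t.2
    have hyu : y * (u : G) = (u : G) * y := hreg y hy u u.2
    have hconj : y * (v : G) = (t : G) * ((u : G) * y) * (t : G)⁻¹ := by
      rw [hvt]
      calc y * ((t : G) * (u : G) * (t : G)⁻¹) = (y * (t : G)) * (u : G) * (t : G)⁻¹ := by group
        _ = (t : G) * (y * (u : G)) * (t : G)⁻¹ := by rw [hyt]; group
        _ = (t : G) * ((u : G) * y) * (t : G)⁻¹ := by rw [hyu]
    refine finsum_congr fun χ => finsum_congr fun _ => ?_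
    rw [hconj, Cfsg.Agent.Lib.Helper78_CentralChar.isIrrCharacter_isClassFunction χ.2]
  rw [h1, h2, add_zero, Finset.sum_const, nsmul_eq_mul]

/-- **Members of the block on the section of `u ∈ P`** are multiples of the canonical
character. -/
theorem section_value {G : Type*} [Group G] [Finite G] {p : ℕ} [Fact p.Prime]
    {M : Ideal AlgInt} (hM : IsPModular p M) {B : Set (IrrCharacter G)} (hB : IsPBlock M B)
    (P : Subgroup G) [P.Normal]
    (hP : IsPGroup p P) (hG : P ⊔ Subgroup.centralizer (P : Set G) = ⊤)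
    (θ : IrrCharacter G) (hθ : θ ∈ B) (hθk : ∀ u ∈ P, (θ : G → ℂ) u = (θ : G → ℂ) 1)
    (huniq : ∀ χ ∈ B, (∀ u ∈ P, (χ : G → ℂ) u = (χ : G → ℂ) 1) → χ = θ)
    (χ : IrrCharacter G) (hχ : χ ∈ B) (u : G) (hu : u ∈ P) (y : G) (hy : ¬ p ∣ orderOf y) :
    (χ : G → ℂ) (u * y) = (χ : G → ℂ) u / (θ : G → ℂ) 1 * (θ : G → ℂ) y := by
  classical
  have := Fintype.ofFinite G
  have := Fintype.ofFinite P
  have hfin : Finite (IrrCharacter G) := Cfsg.Agent.Lib.Helper78_CharFacts.charFacts.finite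
  have := Fintype.ofFinite (IrrCharacter G)
  have hθ1 : (θ : G → ℂ) 1 ≠ 0 :=
    Cfsg.Agent.Lib.Helper78_CentralChar.isIrrCharacter_one_ne_zero θ.2
  -- index sets: members of `B`, `p`-regular elements
  set R : Finset G := Finset.univ.filter (fun y : G => ¬ p ∣ orderOf y) with hR
  have h1R : (1 : G) ∈ R := by
    rw [hR, Finset.mem_filter]
    refine ⟨Finset.mem_univ _, ?_⟩
    rw [orderOf_one]
    exact (Fact.out : p.Prime).one_lt.ne' ∘ Nat.dvd_one.mp
  set n : ℂ := ((Finset.univ.filter (fun v : P => IsConj v (⟨u, hu⟩ : P))).card : ℂ) with hn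
  have hn0 : n ≠ 0 := by
    rw [hn, Nat.cast_ne_zero]
    apply Finset.card_ne_zero_of_mem (a := (⟨u, hu⟩ : P))
    rw [Finset.mem_filter]
    exact ⟨Finset.mem_univ _, IsConj.refl _⟩
  set T : Finset (IrrCharacter G) := (Set.toFinite B).toFinset with hT
  have hχT : χ ∈ T := (Set.Finite.mem_toFinset _).mpr hχ
  obtain ⟨t, ht⟩ := exists_smul_of_gram (ι := {x // x ∈ T}) (κ := {x // x ∈ R})
    (fun ψ y => ((ψ : IrrCharacter G) : G → ℂ) (u * (y : G)))
    (fun y => (θ : G → ℂ) (y : G)) (n⁻¹ * (Nat.card P : ℂ)) (by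
      intro y y'
      have hy1 : ¬ p ∣ orderOf (y : G) := (Finset.mem_filter.mp y.2).2
      have hy2 : ¬ p ∣ orderOf (y' : G) := (Finset.mem_filter.mp y'.2).2
      have := section_gram₂ hM hB P hP hG θ hθ hθk huniq ⟨u, hu⟩ (y : G) (y' : G) hy1 hy2
      rw [mul_assoc, eq_inv_mul_iff_mul_eq₀ hn0, ← this]
      congr 1
      rw [finsum_mem_eq_finite_toFinset_sum _ (Set.toFinite B)]
      exact Finset.sum_coe_sort T (fun ψ : IrrCharacter G =>
        (ψ : G → ℂ) (u * (y : G)) * conj ((ψ : G → ℂ) (u * (y' : G))))) ⟨χ, hχT⟩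
  have ht1 := ht ⟨1, h1R⟩
  simp only [mul_one] at ht1
  have htval : t = (χ : G → ℂ) u / (θ : G → ℂ) 1 := by
    rw [ht1]
    field_simp
  have hyR : y ∈ R := by
    rw [hR, Finset.mem_filter]
    exact ⟨Finset.mem_univ _, hy⟩
  have := ht ⟨y, hyR⟩
  simp only at this
  rw [this, htval]


/-- The norm of a member of the block, summed over the sections of the elements of `P`. -/
theorem sum_sections_norm {G : Type*} [Group G] [Fintype G] [DecidableEq G] {p : ℕ}
    [Fact p.Prime] {M : Ideal AlgInt} (hM : IsPModular p M) {B : Set (IrrCharacter G)}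
    (hB : IsPBlock M B) (P : Subgroup G) [P.Normal] [Fintype P] (hD : IsDefectGroup p M B P)
    (hreg : ∀ y : G, ¬ p ∣ orderOf y → ∀ u ∈ P, y * u = u * y)
    (χ : IrrCharacter G) (hχ : χ ∈ B) :
    ∑ u : P, ∑ y ∈ Finset.univ.filter (fun y : G => ¬ p ∣ orderOf y),
      (χ : G → ℂ) ((u : G) * y) * conj ((χ : G → ℂ) ((u : G) * y)) = (Nat.card G : ℂ) := by
  obtain ⟨hP, -⟩ := Cfsg.Agent.Lib.Helper77_CentralDefect.card_of_isDefectGroup hM hB hD
  rw [← sum_eq_sum_sections P hP hreg (fun g => (χ : G → ℂ) g * conj ((χ : G → ℂ) g))]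
  · rw [← Cfsg.Agent.Lib.Helper80_CharBasic.irr_norm χ]
    refine Finset.sum_congr rfl fun g _ => ?_
    rw [Cfsg.Agent.Lib.Helper80_CharBasic.irr_inv χ g]
  · intro g x hg hx
    rw [irr_eq_zero_of_ppart_not_mem hM hB P hD χ hχ hg hx, zero_mul]

/-- **The restriction to `P` of a member of the block, divided by the degree of the canonical
character, is an irreducible character of `P`.** -/
theorem isIrrCharacter_res_div {G : Type*} [Group G] [Finite G] {p : ℕ} [Fact p.Prime]
    {M : Ideal AlgInt} (hM : IsPModular p M) {B : Set (IrrCharacter G)} (hB : IsPBlock M B)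
    (P : Subgroup G) [hPn : P.Normal] (hD : IsDefectGroup p M B P)
    (hG : P ⊔ Subgroup.centralizer (P : Set G) = ⊤)
    (θ : IrrCharacter G) (hθ : θ ∈ B) (hθk : ∀ u ∈ P, (θ : G → ℂ) u = (θ : G → ℂ) 1)
    (huniq : ∀ χ ∈ B, (∀ u ∈ P, (χ : G → ℂ) u = (χ : G → ℂ) 1) → χ = θ)
    (χ : IrrCharacter G) (hχ : χ ∈ B) :
    IsIrrCharacter P (fun u : P => (χ : G → ℂ) (u : G) / (θ : G → ℂ) 1) := by
  classical
  have := Fintype.ofFinite G
  have := Fintype.ofFinite P
  obtain ⟨hP, -⟩ := Cfsg.Agent.Lib.Helper77_CentralDefect.card_of_isDefectGroup hM hB hD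
  have hreg := commute_of_sup_centralizer P hP hG
  have hGne : (Nat.card G : ℂ) ≠ 0 := by exact_mod_cast (Nat.card_pos (α := G)).ne'
  have hPne : (Nat.card P : ℂ) ≠ 0 := by exact_mod_cast (Nat.card_pos (α := P)).ne'
  have hθ1 : (θ : G → ℂ) 1 ≠ 0 :=
    Cfsg.Agent.Lib.Helper78_CentralChar.isIrrCharacter_one_ne_zero θ.2
  have hχ1 : (χ : G → ℂ) 1 ≠ 0 :=
    Cfsg.Agent.Lib.Helper78_CentralChar.isIrrCharacter_one_ne_zero χ.2
  have hχcl := Cfsg.Agent.Lib.Helper78_CentralChar.isIrrCharacter_isClassFunction χ.2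
  -- a constituent of the restriction
  have hres : Cfsg.Agent.Lib.Helper75_Clifford.res P (χ : G → ℂ) ≠ 0 := by
    intro h0
    have := congrFun h0 1
    simp only [Cfsg.Agent.Lib.Helper75_Clifford.res_apply, OneMemClass.coe_one,
      Pi.zero_apply] at this
    exact hχ1 this
  obtain ⟨ξ, hξ, hξne⟩ : ∃ ξ : P → ℂ, IsIrrCharacter P ξ ∧
      classInner (Cfsg.Agent.Lib.Helper75_Clifford.res P (χ : G → ℂ)) ξ ≠ 0 := by
    by_contra hcon
    push Not at hcon
    apply hres
    apply Cfsg.Agent.Lib.Helper3_CharComplete.eq_zero_of_forall_classInner_irr_eq_zero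
    · exact Cfsg.Agent.Lib.Helper75_Clifford.isClassFunction_res P hχcl
    · intro ψ hψ
      exact hcon ψ hψ
  have hξcl := Cfsg.Agent.Lib.Helper78_CentralChar.isIrrCharacter_isClassFunction hξ
  -- `ξ` is `G`-invariant
  have hinv : ∀ g : G, Cfsg.Agent.Lib.Helper75_Clifford.conjFun P hPn ξ g = ξ := by
    intro g
    funext n
    rw [Cfsg.Agent.Lib.Helper75_Clifford.conjFun_apply]
    obtain ⟨t, ht, hst⟩ := conj_eq_conj_of_sup_centralizer P hG g (n : G) n.2
    have : (⟨g * (n : G) * g⁻¹, hPn.conj_mem n n.2 g⟩ : P) = (⟨t, ht⟩ : P) * n * (⟨t, ht⟩ : P)⁻¹ := by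
      apply Subtype.ext
      simp only [Subgroup.coe_mul, InvMemClass.coe_inv]
      exact hst
    rw [this, hξcl]
  have hcl := Cfsg.Agent.Lib.Helper75_Clifford.clifford P hPn χ.2 hξ hξne
  have hset : {ψ : P → ℂ | ∃ g : G, ψ = Cfsg.Agent.Lib.Helper75_Clifford.conjFun P hPn ξ g} =
      {ξ} := by
    ext ψ
    simp only [Set.mem_ofPred_eq, Set.mem_singleton_iff]
    constructor
    · rintro ⟨g, rfl⟩
      exact hinv g
    · rintro rfl
      exact ⟨1, (hinv 1).symm⟩
  rw [hset, finsum_mem_singleton] at hcl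
  set e : ℂ := classInner (Cfsg.Agent.Lib.Helper75_Clifford.res P (χ : G → ℂ)) ξ with he
  have hval : ∀ u : P, (χ : G → ℂ) (u : G) = e * ξ u := by
    intro u
    have := congrFun hcl u
    simpa [Cfsg.Agent.Lib.Helper75_Clifford.res_apply] using this
  -- norms
  set R : Finset G := Finset.univ.filter (fun y : G => ¬ p ∣ orderOf y) with hR
  have hnθ := sum_sections_norm hM hB P hD hreg θ hθ
  have hnχ := sum_sections_norm hM hB P hD hreg χ hχ
  have hθsec : ∀ (u : P) (y : G), y ∈ R → (θ : G → ℂ) ((u : G) * y) = (θ : G → ℂ) y := by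
    intro u y hy
    rw [hR, Finset.mem_filter] at hy
    rw [← hreg y hy.2 u u.2]
    exact irr_mul_ker θ y u (hθk u u.2)
  have hnθ' : (Nat.card P : ℂ) * ∑ y ∈ R, (θ : G → ℂ) y * conj ((θ : G → ℂ) y) =
      (Nat.card G : ℂ) := by
    rw [← hnθ]
    rw [Finset.sum_congr rfl (fun u _ => Finset.sum_congr rfl (fun y hy => by
      rw [hθsec u y hy]))]
    rw [Finset.sum_const, Finset.card_univ, nsmul_eq_mul, Nat.card_eq_fintype_card]
  have hχsec : ∀ (u : P) (y : G), y ∈ R → (χ : G → ℂ) ((u : G) * y) =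
      (χ : G → ℂ) (u : G) / (θ : G → ℂ) 1 * (θ : G → ℂ) y := by
    intro u y hy
    rw [hR, Finset.mem_filter] at hy
    exact section_value hM hB P hP hG θ hθ hθk huniq χ hχ (u : G) u.2 y hy.2
  have hnχ' : (∑ u : P, (χ : G → ℂ) (u : G) * conj ((χ : G → ℂ) (u : G))) *
      ∑ y ∈ R, (θ : G → ℂ) y * conj ((θ : G → ℂ) y) =
      (Nat.card G : ℂ) * ((θ : G → ℂ) 1 * conj ((θ : G → ℂ) 1)) := by
    rw [← hnχ]
    rw [Finset.sum_congr rfl (fun u _ => Finset.sum_congr rfl (fun y hy => by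
      rw [hχsec u y hy]))]
    rw [Finset.sum_mul_sum, Finset.sum_mul]
    refine Finset.sum_congr rfl fun u _ => ?_
    rw [Finset.sum_mul]
    refine Finset.sum_congr rfl fun y _ => ?_
    have hc1 : conj ((θ : G → ℂ) 1) ≠ 0 := by
      intro h
      apply hθ1
      have := congrArg conj h
      simpa using this
    rw [map_mul, map_div₀]
    field_simp
  have hsumχ : ∑ u : P, (χ : G → ℂ) (u : G) * conj ((χ : G → ℂ) (u : G)) =
      (Nat.card P : ℂ) * ((θ : G → ℂ) 1 * conj ((θ : G → ℂ) 1)) := by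
    have hS0 : ∑ y ∈ R, (θ : G → ℂ) y * conj ((θ : G → ℂ) y) ≠ 0 := by
      intro h0
      rw [h0, mul_zero] at hnθ'
      exact hGne hnθ'.symm
    apply mul_right_cancel₀ hS0
    rw [hnχ', ← hnθ']
    ring
  -- the norm of `ξ`
  have hξnorm : ∑ u : P, ξ u * conj (ξ u) = (Nat.card P : ℂ) := by
    rw [← Cfsg.Agent.Lib.Helper80_CharBasic.irr_norm (⟨ξ, hξ⟩ : IrrCharacter P)]
    refine Finset.sum_congr rfl fun u _ => ?_
    rw [Cfsg.Agent.Lib.Helper80_CharBasic.irr_inv (⟨ξ, hξ⟩ : IrrCharacter P) u]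
  have hee : e * conj e = (θ : G → ℂ) 1 * conj ((θ : G → ℂ) 1) := by
    apply mul_left_cancel₀ hPne
    rw [← hsumχ]
    simp_rw [hval, map_mul]
    rw [← hξnorm, Finset.sum_mul]
    refine Finset.sum_congr rfl fun u _ => ?_
    ring
  -- degrees are natural numbers
  obtain ⟨a, hapos, ha, -, -⟩ := Cfsg.Agent.Lib.Helper77_BlockBasics.exists_degree χ
  obtain ⟨b, hbpos, hb, -, -⟩ := Cfsg.Agent.Lib.Helper77_BlockBasics.exists_degree
    (⟨ξ, hξ⟩ : IrrCharacter P)
  obtain ⟨c, hcpos, hc, -, -⟩ := Cfsg.Agent.Lib.Helper77_BlockBasics.exists_degree θ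
  simp only at hb
  have hbne : (b : ℂ) ≠ 0 := by exact_mod_cast hbpos.ne'
  have he1 : e = (a : ℂ) / (b : ℂ) := by
    have := hval 1
    rw [OneMemClass.coe_one, ha, hb] at this
    rw [this]
    field_simp
  have hec : e = (c : ℂ) := by
    rw [he1, hc, Complex.conj_natCast, map_div₀, Complex.conj_natCast, Complex.conj_natCast] at hee
    have h1 : (a : ℂ) * (a : ℂ) = (c : ℂ) * (c : ℂ) * ((b : ℂ) * (b : ℂ)) := by
      field_simp at hee
      linear_combination hee
    have h2 : a * a = (c * b) * (c * b) := by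
      have : ((a * a : ℕ) : ℂ) = ((c * b * (c * b) : ℕ) : ℂ) := by
        push_cast
        rw [h1]
        ring
      exact_mod_cast this
    have h3 : a = c * b := by
      exact Nat.mul_self_inj.mp h2
    rw [he1, h3]
    push_cast
    field_simp
  have hfun : (fun u : P => (χ : G → ℂ) (u : G) / (θ : G → ℂ) 1) = ξ := by
    funext u
    rw [hval u, hec, hc]
    have hcne : (c : ℂ) ≠ 0 := by exact_mod_cast hcpos.ne'
    field_simp
  rw [hfun]
  exact hξ


/-- A member of the block is determined by its restriction to `P`. -/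
theorem eq_of_res_eq {G : Type*} [Group G] [Finite G] {p : ℕ} [Fact p.Prime]
    {M : Ideal AlgInt} (hM : IsPModular p M) {B : Set (IrrCharacter G)} (hB : IsPBlock M B)
    (P : Subgroup G) [hPn : P.Normal] (hD : IsDefectGroup p M B P)
    (hG : P ⊔ Subgroup.centralizer (P : Set G) = ⊤)
    (θ : IrrCharacter G) (hθ : θ ∈ B) (hθk : ∀ u ∈ P, (θ : G → ℂ) u = (θ : G → ℂ) 1)
    (huniq : ∀ χ ∈ B, (∀ u ∈ P, (χ : G → ℂ) u = (χ : G → ℂ) 1) → χ = θ)
    (χ χ' : IrrCharacter G) (hχ : χ ∈ B) (hχ' : χ' ∈ B)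
    (h : ∀ u ∈ P, (χ : G → ℂ) u = (χ' : G → ℂ) u) : χ = χ' := by
  obtain ⟨hP, -⟩ := Cfsg.Agent.Lib.Helper77_CentralDefect.card_of_isDefectGroup hM hB hD
  apply Subtype.ext
  funext z
  obtain ⟨x, hx⟩ := Cfsg.Agent.Lib.Helper16_BlockOrth.exists_isPPart (Fact.out : p.Prime) z
  by_cases hxP : x ∈ P
  · obtain ⟨y, hxy, -, -, hy⟩ := hx
    rw [← hxy, section_value hM hB P hP hG θ hθ hθk huniq χ hχ x hxP y hy,
      section_value hM hB P hP hG θ hθ hθk huniq χ' hχ' x hxP y hy, h x hxP]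
  · rw [irr_eq_zero_of_ppart_not_mem hM hB P hD χ hχ hx hxP,
      irr_eq_zero_of_ppart_not_mem hM hB P hD χ' hχ' hx hxP]

/-- **Every irreducible character of `P` occurs**: for each `ζ ∈ Irr(P)` there is a member of the
block whose restriction to `P` is `θ(1) ζ`. -/
theorem exists_mem_block_of_irr {G : Type*} [Group G] [Finite G] {p : ℕ} [Fact p.Prime]
    {M : Ideal AlgInt} (hM : IsPModular p M) {B : Set (IrrCharacter G)} (hB : IsPBlock M B)
    (P : Subgroup G) [hPn : P.Normal] (hD : IsDefectGroup p M B P)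
    (hG : P ⊔ Subgroup.centralizer (P : Set G) = ⊤)
    (θ : IrrCharacter G) (hθ : θ ∈ B) (hθk : ∀ u ∈ P, (θ : G → ℂ) u = (θ : G → ℂ) 1)
    (huniq : ∀ χ ∈ B, (∀ u ∈ P, (χ : G → ℂ) u = (χ : G → ℂ) 1) → χ = θ)
    (ζ : IrrCharacter P) :
    ∃ χ ∈ B, ∀ u : P, (χ : G → ℂ) (u : G) / (θ : G → ℂ) 1 = (ζ : P → ℂ) u := by
  have hθ1 : (θ : G → ℂ) 1 ≠ 0 :=
    Cfsg.Agent.Lib.Helper78_CentralChar.isIrrCharacter_one_ne_zero θ.2
  set Φ : B → IrrCharacter P := fun χ =>
    ⟨fun u : P => ((χ : IrrCharacter G) : G → ℂ) (u : G) / (θ : G → ℂ) 1,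
      isIrrCharacter_res_div hM hB P hD hG θ hθ hθk huniq χ.1 χ.2⟩ with hΦ
  have hinj : Function.Injective Φ := by
    intro χ χ' h
    apply Subtype.ext
    apply eq_of_res_eq hM hB P hD hG θ hθ hθk huniq χ.1 χ'.1 χ.2 χ'.2
    intro u hu
    have := congrArg (fun ζ : IrrCharacter P => (ζ : P → ℂ) ⟨u, hu⟩) h
    simp only [hΦ] at this
    field_simp at this
    exact this
  have hcard : Nat.card B = Nat.card (IrrCharacter P) := by
    rw [card_block_of_sup_centralizer hM hB P hD hG θ hθ hθk huniq, Cfsg.Agent.S0133.result]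
  have hfinP : Finite (IrrCharacter P) := by
    classical
    have := Fintype.ofFinite P
    exact Cfsg.Agent.Lib.Helper78_CharFacts.charFacts.finite
  have hbij := (Nat.bijective_iff_injective_and_card Φ).mpr ⟨hinj, hcard⟩
  obtain ⟨χ, hχ⟩ := hbij.2 ζ
  refine ⟨χ.1, χ.2, fun u => ?_⟩
  have := congrArg (fun ζ : IrrCharacter P => (ζ : P → ℂ) u) hχ
  simpa [hΦ] using this

end Cfsg.Agent.Lib.Helper77_CanonChar
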