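import Mathlib
import Cfsg.Prelude.Def_Blocks
import Cfsg.Agent.Lib.Helper78_LocalRing
import Cfsg.Agent.Lib.Helper78_CentralChar
import Cfsg.Agent.Lib.Helper80_CharBasic
import Cfsg.Agent.Lib.Helper75_Clifford
import Cfsg.Agent.Lib.Helper77_RegClasses

/-!
# Central products and principal blocks (helper77)
-/

set_option autoImplicit false

namespace Cfsg.Agent.Lib.Helper77_CentralProduct

open Cfsg Cfsg.Agent.Lib.Helper78_LocalRing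

variable {G : Type*} [Group G]

/-- The product map `U₁ × U₂ → G` of two commuting subgroups. -/
noncomputable def cpHom (U₁ U₂ : Subgroup G) (hcomm : ∀ u ∈ U₁, ∀ v ∈ U₂, u * v = v * u) :
    U₁ × U₂ →* G :=
  MonoidHom.noncommCoprod U₁.subtype U₂.subtype
    (fun m n => (show Commute (U₁.subtype m) (U₂.subtype n) from hcomm m m.2 n n.2))

theorem cpHom_apply (U₁ U₂ : Subgroup G) (hcomm : ∀ u ∈ U₁, ∀ v ∈ U₂, u * v = v * u)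
    (x : U₁ × U₂) : cpHom U₁ U₂ hcomm x = (x.1 : G) * (x.2 : G) := by
  unfold cpHom
  rw [MonoidHom.noncommCoprod_apply]
  rfl

theorem cpHom_surjective (U₁ U₂ : Subgroup G) (hcomm : ∀ u ∈ U₁, ∀ v ∈ U₂, u * v = v * u)
    (hgen : U₁ ⊔ U₂ = ⊤) : Function.Surjective (cpHom U₁ U₂ hcomm) := by
  rw [← MonoidHom.range_eq_top]
  unfold cpHom
  rw [MonoidHom.noncommCoprod_range, Subgroup.range_subtype, Subgroup.range_subtype, hgen]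

theorem exists_mul (U₁ U₂ : Subgroup G) (hcomm : ∀ u ∈ U₁, ∀ v ∈ U₂, u * v = v * u)
    (hgen : U₁ ⊔ U₂ = ⊤) (g : G) : ∃ u₁ ∈ U₁, ∃ u₂ ∈ U₂, g = u₁ * u₂ := by
  obtain ⟨x, hx⟩ := cpHom_surjective U₁ U₂ hcomm hgen g
  exact ⟨x.1, x.1.2, x.2, x.2.2, by rw [← hx, cpHom_apply]⟩

theorem normal_left (U₁ U₂ : Subgroup G) (hcomm : ∀ u ∈ U₁, ∀ v ∈ U₂, u * v = v * u)
    (hgen : U₁ ⊔ U₂ = ⊤) : U₁.Normal := by
  refine ⟨fun n hn g => ?_⟩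
  obtain ⟨u₁, hu₁, u₂, hu₂, rfl⟩ := exists_mul U₁ U₂ hcomm hgen g
  have h : u₁ * u₂ * n * (u₁ * u₂)⁻¹ = u₁ * n * u₁⁻¹ := by
    have := hcomm n hn u₂ hu₂
    calc u₁ * u₂ * n * (u₁ * u₂)⁻¹ = u₁ * (u₂ * n) * u₂⁻¹ * u₁⁻¹ := by group
      _ = u₁ * (n * u₂) * u₂⁻¹ * u₁⁻¹ := by rw [this]
      _ = u₁ * n * u₁⁻¹ := by group
  rw [h]
  exact U₁.mul_mem (U₁.mul_mem hu₁ hn) (U₁.inv_mem hu₁)

theorem normal_right (U₁ U₂ : Subgroup G) (hcomm : ∀ u ∈ U₁, ∀ v ∈ U₂, u * v = v * u)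
    (hgen : U₁ ⊔ U₂ = ⊤) : U₂.Normal :=
  normal_left U₂ U₁ (fun u hu v hv => (hcomm v hv u hu).symm) (by rw [sup_comm]; exact hgen)

/-- Multiplicativity of an irreducible character of a central product. -/
theorem irr_mul (U₁ U₂ : Subgroup G) [Fintype G] (hcomm : ∀ u ∈ U₁, ∀ v ∈ U₂, u * v = v * u)
    (hgen : U₁ ⊔ U₂ = ⊤) (χ : IrrCharacter G) {u₁ u₂ : G} (hu₁ : u₁ ∈ U₁) (hu₂ : u₂ ∈ U₂) :
    (χ : G → ℂ) (u₁ * u₂) * (χ : G → ℂ) 1 = (χ : G → ℂ) u₁ * (χ : G → ℂ) u₂ := by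
  have hχ1 : (χ : G → ℂ) 1 ≠ 0 :=
    Cfsg.Agent.Lib.Helper78_CentralChar.isIrrCharacter_one_ne_zero χ.2
  have hGne : (Nat.card G : ℂ) ≠ 0 := by exact_mod_cast (Nat.card_pos (α := G)).ne'
  have h := Cfsg.Agent.Lib.Helper78_CentralChar.sum_mul_conj_of_isIrrCharacter χ.2 u₁ u₂
  have hterm : ∀ x : G, (χ : G → ℂ) (u₁ * (x * u₂ * x⁻¹)) = (χ : G → ℂ) (u₁ * u₂) := by
    intro x
    obtain ⟨x₁, hx₁, x₂, hx₂, rfl⟩ := exists_mul U₁ U₂ hcomm hgen x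
    have hw : x₂ * u₂ * x₂⁻¹ ∈ U₂ := U₂.mul_mem (U₂.mul_mem hx₂ hu₂) (U₂.inv_mem hx₂)
    have e1 : x₁ * x₂ * u₂ * (x₁ * x₂)⁻¹ = x₂ * u₂ * x₂⁻¹ := by
      have := hcomm x₁ hx₁ _ hw
      calc x₁ * x₂ * u₂ * (x₁ * x₂)⁻¹ = x₁ * (x₂ * u₂ * x₂⁻¹) * x₁⁻¹ := by group
        _ = (x₂ * u₂ * x₂⁻¹) * x₁ * x₁⁻¹ := by rw [this]
        _ = x₂ * u₂ * x₂⁻¹ := by group
    have e2 : u₁ * (x₂ * u₂ * x₂⁻¹) = x₂ * (u₁ * u₂) * x₂⁻¹ := by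
      have := hcomm u₁ hu₁ x₂ hx₂
      calc u₁ * (x₂ * u₂ * x₂⁻¹) = (u₁ * x₂) * u₂ * x₂⁻¹ := by group
        _ = (x₂ * u₁) * u₂ * x₂⁻¹ := by rw [this]
        _ = x₂ * (u₁ * u₂) * x₂⁻¹ := by group
    rw [e1, e2, Cfsg.Agent.Lib.Helper80_CharBasic.irr_conj]
  rw [Finset.sum_congr rfl (fun x _ => hterm x), Finset.sum_const, Finset.card_univ,
    nsmul_eq_mul, ← Nat.card_eq_fintype_card] at h
  field_simp at h
  linear_combination h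

/-- The restriction of an irreducible character of a central product to a factor is a multiple of
an irreducible character. -/
theorem res_eq_smul (U₁ U₂ : Subgroup G) [Fintype G] [Fintype U₁]
    (hcomm : ∀ u ∈ U₁, ∀ v ∈ U₂, u * v = v * u)
    (hgen : U₁ ⊔ U₂ = ⊤) (χ : IrrCharacter G) (ψ₁ : IrrCharacter U₁)
    (h₁ : classInner (fun u : U₁ => (χ : G → ℂ) u) (ψ₁ : U₁ → ℂ) ≠ 0) (u : U₁) :
    (χ : G → ℂ) u =
      classInner (fun u : U₁ => (χ : G → ℂ) u) (ψ₁ : U₁ → ℂ) * (ψ₁ : U₁ → ℂ) u := by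
  have hN := normal_left U₁ U₂ hcomm hgen
  have hcl := Cfsg.Agent.Lib.Helper75_Clifford.clifford U₁ hN χ.2 ψ₁.2 h₁
  have hset : {ψ : U₁ → ℂ | ∃ g : G, ψ = Cfsg.Agent.Lib.Helper75_Clifford.conjFun U₁ hN
      (ψ₁ : U₁ → ℂ) g} = {(ψ₁ : U₁ → ℂ)} := by
    ext ψ
    simp only [Set.mem_ofPred_eq, Set.mem_singleton_iff]
    constructor
    · rintro ⟨g, rfl⟩
      obtain ⟨x₁, hx₁, x₂, hx₂, rfl⟩ := exists_mul U₁ U₂ hcomm hgen g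
      funext n
      rw [Cfsg.Agent.Lib.Helper75_Clifford.conjFun_apply]
      have hcf := Cfsg.Agent.Lib.Helper78_CentralChar.isIrrCharacter_isClassFunction ψ₁.2
      have := hcf n ⟨x₁, hx₁⟩
      rw [← this]
      refine congrArg (ψ₁ : U₁ → ℂ) (Subtype.ext ?_)
      have hc := hcomm n n.2 x₂ hx₂
      show x₁ * x₂ * (n : G) * (x₁ * x₂)⁻¹ = x₁ * (n : G) * x₁⁻¹
      calc x₁ * x₂ * (n : G) * (x₁ * x₂)⁻¹ = x₁ * (x₂ * (n : G)) * x₂⁻¹ * x₁⁻¹ := by group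
        _ = x₁ * ((n : G) * x₂) * x₂⁻¹ * x₁⁻¹ := by rw [hc]
        _ = x₁ * (n : G) * x₁⁻¹ := by group
    · rintro rfl
      exact ⟨1, (Cfsg.Agent.Lib.Helper75_Clifford.conjFun_one U₁ hN _).symm⟩
  rw [hset, finsum_mem_singleton] at hcl
  have := congrFun hcl u
  simp only [Pi.smul_apply, smul_eq_mul] at this
  exact this

/-- A `p`-regular element of a central product is a product of `p`-regular elements. -/
theorem exists_reg_mul [Finite G] {p : ℕ} [Fact p.Prime] (U₁ U₂ : Subgroup G)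
    (hcomm : ∀ u ∈ U₁, ∀ v ∈ U₂, u * v = v * u) (hgen : U₁ ⊔ U₂ = ⊤) (g : G)
    (hg : ¬ p ∣ orderOf g) :
    ∃ b₁ ∈ U₁, ∃ b₂ ∈ U₂, ¬ p ∣ orderOf b₁ ∧ ¬ p ∣ orderOf b₂ ∧ g = b₁ * b₂ := by
  have hp : p.Prime := Fact.out
  obtain ⟨u₁, hu₁, u₂, hu₂, rfl⟩ := exists_mul U₁ U₂ hcomm hgen g
  set q : ℕ := p ^ (Nat.card G).factorization p with hq
  set m : ℕ := Nat.card G / q with hm
  have hGpos : 0 < Nat.card G := Nat.card_pos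
  have hqm : q * m = Nat.card G := Nat.ordProj_mul_ordCompl_eq_self (Nat.card G) p
  have hpm : ¬ p ∣ m := Nat.not_dvd_ordCompl hp hGpos.ne'
  have hcop : Nat.Coprime q (orderOf (u₁ * u₂)) := by
    rw [hq]
    exact Nat.Coprime.pow_left _ ((Nat.Prime.coprime_iff_not_dvd hp).mpr hg)
  obtain ⟨r, hr⟩ := exists_pow_eq_self_of_coprime hcop
  have hc : Commute u₁ u₂ := hcomm u₁ hu₁ u₂ hu₂
  have hreg : ∀ u : G, ¬ p ∣ orderOf ((u ^ q) ^ r) := by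
    intro u hdiv
    apply hpm
    have h1 : (u ^ q) ^ m = 1 := by rw [← pow_mul, hqm, pow_card_eq_one']
    have h2 : orderOf ((u ^ q) ^ r) ∣ m :=
      (orderOf_pow_dvd r).trans (orderOf_dvd_of_pow_eq_one h1)
    exact hdiv.trans h2
  refine ⟨(u₁ ^ q) ^ r, U₁.pow_mem (U₁.pow_mem hu₁ _) _, (u₂ ^ q) ^ r,
    U₂.pow_mem (U₂.pow_mem hu₂ _) _, hreg u₁, hreg u₂, ?_⟩
  rw [← (hc.pow_pow q q).mul_pow, ← hc.mul_pow, hr]

/-- The centralizer of a product `b₁ * b₂` with `b₁` a `p`-regular element, pulled back to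
`U₁ × U₂`. -/
theorem comap_centralizer [Finite G] {p : ℕ} [Fact p.Prime] (U₁ U₂ : Subgroup G)
    (hcomm : ∀ u ∈ U₁, ∀ v ∈ U₂, u * v = v * u) (hZ : IsPGroup p ↥(U₁ ⊓ U₂))
    (b₁ : U₁) (b₂ : U₂) (h₁ : ¬ p ∣ orderOf b₁) :
    (Subgroup.centralizer ({(b₁ : G) * (b₂ : G)} : Set G)).comap (cpHom U₁ U₂ hcomm) =
      (Subgroup.centralizer ({b₁} : Set U₁)).prod (Subgroup.centralizer ({b₂} : Set U₂)) := by
  have hp : p.Prime := Fact.out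
  ext ⟨x₁, x₂⟩
  rw [Subgroup.mem_comap, Subgroup.mem_prod, cpHom_apply]
  simp only [Subgroup.mem_centralizer_iff, Set.mem_singleton_iff, forall_eq]
  have c12 : ∀ (a : U₁) (b : U₂), (a : G) * (b : G) = (b : G) * (a : G) :=
    fun a b => hcomm a a.2 b b.2
  constructor
  · intro h
    -- h : b₁ b₂ x₁ x₂ = x₁ x₂ b₁ b₂
    have h' : ((b₁ : G) * x₁) * ((b₂ : G) * x₂) = ((x₁ : G) * b₁) * ((x₂ : G) * b₂) := by
      calc ((b₁ : G) * x₁) * ((b₂ : G) * x₂) = (b₁ : G) * ((x₁ : G) * b₂) * x₂ := by group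
        _ = (b₁ : G) * ((b₂ : G) * x₁) * x₂ := by rw [c12 x₁ b₂]
        _ = (b₁ : G) * b₂ * ((x₁ : G) * x₂) := by group
        _ = (x₁ : G) * x₂ * ((b₁ : G) * b₂) := h
        _ = (x₁ : G) * ((x₂ : G) * b₁) * b₂ := by group
        _ = (x₁ : G) * ((b₁ : G) * x₂) * b₂ := by rw [c12 b₁ x₂]
        _ = ((x₁ : G) * b₁) * ((x₂ : G) * b₂) := by group
    set z : G := ((x₁ : G) * b₁)⁻¹ * ((b₁ : G) * x₁) with hz
    have hz' : z = ((x₂ : G) * b₂) * ((b₂ : G) * x₂)⁻¹ := by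
      rw [hz, inv_mul_eq_iff_eq_mul, ← mul_assoc, ← h']
      group
    have hz1 : z ∈ U₁ := by
      rw [hz]
      exact U₁.mul_mem (U₁.inv_mem (U₁.mul_mem x₁.2 b₁.2)) (U₁.mul_mem b₁.2 x₁.2)
    have hz2 : z ∈ U₂ := by
      rw [hz']
      exact U₂.mul_mem (U₂.mul_mem x₂.2 b₂.2) (U₂.inv_mem (U₂.mul_mem b₂.2 x₂.2))
    obtain ⟨k, hk⟩ := hZ ⟨z, Subgroup.mem_inf.mpr ⟨hz1, hz2⟩⟩
    have hk' : z ^ p ^ k = 1 := by
      have := congrArg (fun w : ↥(U₁ ⊓ U₂) => (w : G)) hk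
      simpa using this
    -- x₁⁻¹ b₁ x₁ = b₁ z
    have hconj : (x₁ : G)⁻¹ * b₁ * x₁ = (b₁ : G) * z := by
      rw [hz]; group
    have hcz : Commute (b₁ : G) z := (hcomm b₁ b₁.2 z hz2)
    set m := orderOf (b₁ : G) with hm
    have hpow : ((b₁ : G) * z) ^ m = 1 := by
      rw [← hconj]
      have : ((x₁ : G)⁻¹ * b₁ * x₁) ^ m = (x₁ : G)⁻¹ * (b₁ : G) ^ m * x₁ := by
        have := conj_pow (a := (x₁ : G)⁻¹) (b := (b₁ : G)) (i := m)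
        simpa using this
      rw [this, hm, pow_orderOf_eq_one]
      group
    have hzm : z ^ m = 1 := by
      rw [hcz.mul_pow, hm, pow_orderOf_eq_one, one_mul] at hpow
      exact hpow
    have hm' : ¬ p ∣ m := by
      rw [hm, Subgroup.orderOf_coe]
      exact h₁
    have hz1' : z = 1 := by
      have hd1 : orderOf z ∣ p ^ k := orderOf_dvd_of_pow_eq_one hk'
      have hd2 : orderOf z ∣ m := orderOf_dvd_of_pow_eq_one hzm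
      obtain ⟨i, _, hi⟩ := (Nat.dvd_prime_pow hp).mp hd1
      have hi0 : i = 0 := by
        by_contra hne
        apply hm'
        exact (dvd_pow_self p hne).trans (hi ▸ hd2)
      rw [hi0, pow_zero, orderOf_eq_one_iff] at hi
      exact hi
    have e1 : (b₁ : G) * x₁ = (x₁ : G) * b₁ := by
      have : ((x₁ : G) * b₁)⁻¹ * ((b₁ : G) * x₁) = 1 := by rw [← hz, hz1']
      exact (inv_mul_eq_one.mp this).symm
    have e2 : (b₂ : G) * x₂ = (x₂ : G) * b₂ := by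
      have : ((x₂ : G) * b₂) * ((b₂ : G) * x₂)⁻¹ = 1 := by rw [← hz', hz1']
      exact (mul_inv_eq_one.mp this).symm
    exact ⟨Subtype.ext (by push_cast; exact e1), Subtype.ext (by push_cast; exact e2)⟩
  · rintro ⟨e1, e2⟩
    have e1' : (b₁ : G) * x₁ = (x₁ : G) * b₁ := by
      have := congrArg (fun w : U₁ => (w : G)) e1
      simpa using this
    have e2' : (b₂ : G) * x₂ = (x₂ : G) * b₂ := by
      have := congrArg (fun w : U₂ => (w : G)) e2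
      simpa using this
    calc (b₁ : G) * b₂ * ((x₁ : G) * x₂) = (b₁ : G) * ((b₂ : G) * x₁) * x₂ := by group
      _ = (b₁ : G) * ((x₁ : G) * b₂) * x₂ := by rw [c12 x₁ b₂]
      _ = ((b₁ : G) * x₁) * ((b₂ : G) * x₂) := by group
      _ = ((x₁ : G) * b₁) * ((x₂ : G) * b₂) := by rw [e1', e2']
      _ = (x₁ : G) * ((b₁ : G) * x₂) * b₂ := by group
      _ = (x₁ : G) * ((x₂ : G) * b₁) * b₂ := by rw [c12 b₁ x₂]
      _ = (x₁ : G) * x₂ * ((b₁ : G) * b₂) := by group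

theorem index_centralizer [Finite G] {p : ℕ} [Fact p.Prime] (U₁ U₂ : Subgroup G)
    (hcomm : ∀ u ∈ U₁, ∀ v ∈ U₂, u * v = v * u) (hgen : U₁ ⊔ U₂ = ⊤)
    (hZ : IsPGroup p ↥(U₁ ⊓ U₂)) (b₁ : U₁) (b₂ : U₂) (h₁ : ¬ p ∣ orderOf b₁) :
    (Subgroup.centralizer ({(b₁ : G) * (b₂ : G)} : Set G)).index =
      (Subgroup.centralizer ({b₁} : Set U₁)).index *
        (Subgroup.centralizer ({b₂} : Set U₂)).index := by
  rw [← Subgroup.index_prod, ← comap_centralizer U₁ U₂ hcomm hZ b₁ b₂ h₁,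
    Subgroup.index_comap_of_surjective _ (cpHom_surjective U₁ U₂ hcomm hgen)]

/-- The central character of `χ` at `b₁ * b₂` (with `b₁` a `p`-regular element) is the product of
the central characters of its constituents. -/
theorem centralChar_mul [Fintype G] {p : ℕ} [Fact p.Prime] (U₁ U₂ : Subgroup G) [Fintype U₁]
    [Fintype U₂] (hcomm : ∀ u ∈ U₁, ∀ v ∈ U₂, u * v = v * u) (hgen : U₁ ⊔ U₂ = ⊤)
    (hZ : IsPGroup p ↥(U₁ ⊓ U₂)) (χ : IrrCharacter G) (ψ₁ : IrrCharacter U₁)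
    (ψ₂ : IrrCharacter U₂)
    (h₁ : classInner (fun u : U₁ => (χ : G → ℂ) u) (ψ₁ : U₁ → ℂ) ≠ 0)
    (h₂ : classInner (fun u : U₂ => (χ : G → ℂ) u) (ψ₂ : U₂ → ℂ) ≠ 0)
    (b₁ : U₁) (b₂ : U₂) (hb₁ : ¬ p ∣ orderOf b₁) :
    centralChar (χ : G → ℂ) ((b₁ : G) * (b₂ : G)) =
      centralChar (ψ₁ : U₁ → ℂ) b₁ * centralChar (ψ₂ : U₂ → ℂ) b₂ := by
  have hχ1 : (χ : G → ℂ) 1 ≠ 0 :=
    Cfsg.Agent.Lib.Helper78_CentralChar.isIrrCharacter_one_ne_zero χ.2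
  have hψ1 : (ψ₁ : U₁ → ℂ) 1 ≠ 0 :=
    Cfsg.Agent.Lib.Helper78_CentralChar.isIrrCharacter_one_ne_zero ψ₁.2
  have hψ2 : (ψ₂ : U₂ → ℂ) 1 ≠ 0 :=
    Cfsg.Agent.Lib.Helper78_CentralChar.isIrrCharacter_one_ne_zero ψ₂.2
  have hcomm' : ∀ u ∈ U₂, ∀ v ∈ U₁, u * v = v * u := fun u hu v hv => (hcomm v hv u hu).symm
  have hgen' : U₂ ⊔ U₁ = ⊤ := by rw [sup_comm]; exact hgen
  set m₁ := classInner (fun u : U₁ => (χ : G → ℂ) u) (ψ₁ : U₁ → ℂ) with hm₁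
  set m₂ := classInner (fun u : U₂ => (χ : G → ℂ) u) (ψ₂ : U₂ → ℂ) with hm₂
  have r1 := res_eq_smul U₁ U₂ hcomm hgen χ ψ₁ h₁
  have r2 := res_eq_smul U₂ U₁ hcomm' hgen' χ ψ₂ h₂
  have e1 : (χ : G → ℂ) 1 = m₁ * (ψ₁ : U₁ → ℂ) 1 := by
    have := r1 1
    simpa using this
  have e2 : (χ : G → ℂ) 1 = m₂ * (ψ₂ : U₂ → ℂ) 1 := by
    have := r2 1
    simpa using this
  have hmul := irr_mul U₁ U₂ hcomm hgen χ b₁.2 b₂.2
  have hval : (χ : G → ℂ) ((b₁ : G) * (b₂ : G)) =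
      (χ : G → ℂ) b₁ * (χ : G → ℂ) b₂ / (χ : G → ℂ) 1 := by
    field_simp
    exact hmul
  unfold centralChar
  rw [index_centralizer U₁ U₂ hcomm hgen hZ b₁ b₂ hb₁, hval, r1 b₁, r2 b₂]
  have hm1 : m₁ ≠ 0 := h₁
  have hm2 : m₂ ≠ 0 := h₂
  push_cast
  have : (χ : G → ℂ) 1 * (χ : G → ℂ) 1 = m₁ * (ψ₁ : U₁ → ℂ) 1 * (m₂ * (ψ₂ : U₂ → ℂ) 1) := by
    nth_rewrite 1 [e1]
    rw [e2]
  field_simp
  rw [sq, this]
  ring

theorem centralChar_one_mul [Finite G] {p : ℕ} [Fact p.Prime] (U₁ U₂ : Subgroup G)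
    (hcomm : ∀ u ∈ U₁, ∀ v ∈ U₂, u * v = v * u) (hgen : U₁ ⊔ U₂ = ⊤)
    (hZ : IsPGroup p ↥(U₁ ⊓ U₂)) (b₁ : U₁) (b₂ : U₂) (hb₁ : ¬ p ∣ orderOf b₁) :
    centralChar (fun _ : G => (1 : ℂ)) ((b₁ : G) * (b₂ : G)) =
      centralChar (fun _ : U₁ => (1 : ℂ)) b₁ * centralChar (fun _ : U₂ => (1 : ℂ)) b₂ := by
  unfold centralChar
  rw [index_centralizer U₁ U₂ hcomm hgen hZ b₁ b₂ hb₁]
  push_cast
  ring

theorem centralChar_at_one {H : Type*} [Group H] (f : H → ℂ) (hf : f 1 ≠ 0) :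
    centralChar f 1 = 1 := by
  unfold centralChar
  have : Subgroup.centralizer ({(1 : H)} : Set H) = ⊤ := by
    ext x
    simp [Subgroup.mem_centralizer_iff]
  rw [this, Subgroup.index_top]
  field_simp
  simp

/-- If `χ` is in the principal block, so is its constituent on the first factor. -/
theorem left_mem_principalBlock [Fintype G] {p : ℕ} [Fact p.Prime] {M : Ideal AlgInt}
    (hM : IsPModular p M) (U₁ U₂ : Subgroup G) [Fintype U₁]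
    [Fintype U₂] (hcomm : ∀ u ∈ U₁, ∀ v ∈ U₂, u * v = v * u) (hgen : U₁ ⊔ U₂ = ⊤)
    (hZ : IsPGroup p ↥(U₁ ⊓ U₂)) (χ : IrrCharacter G) (ψ₁ : IrrCharacter U₁)
    (ψ₂ : IrrCharacter U₂)
    (h₁ : classInner (fun u : U₁ => (χ : G → ℂ) u) (ψ₁ : U₁ → ℂ) ≠ 0)
    (h₂ : classInner (fun u : U₂ => (χ : G → ℂ) u) (ψ₂ : U₂ → ℂ) ≠ 0)
    (hχ : χ ∈ principalBlock M G) : ψ₁ ∈ principalBlock M U₁ := by
  have hψ2 : (ψ₂ : U₂ → ℂ) 1 ≠ 0 :=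
    Cfsg.Agent.Lib.Helper78_CentralChar.isIrrCharacter_one_ne_zero ψ₂.2
  show SameBlock M (fun _ : U₁ => (1 : ℂ)) (ψ₁ : U₁ → ℂ)
  refine Cfsg.Agent.Lib.Helper77_RegClasses.sameBlock_of_forall_reg hM
    (Cfsg.Agent.Lib.Helper80_CharBasic.oneIrr U₁) ψ₁ fun b₁ hb₁ => ?_
  have h := hχ ((b₁ : G) * ((1 : U₂) : G))
  rw [centralChar_one_mul U₁ U₂ hcomm hgen hZ b₁ 1 hb₁,
    centralChar_mul U₁ U₂ hcomm hgen hZ χ ψ₁ ψ₂ h₁ h₂ b₁ 1 hb₁,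
    centralChar_at_one (fun _ : U₂ => (1 : ℂ)) one_ne_zero,
    centralChar_at_one (ψ₂ : U₂ → ℂ) hψ2, mul_one, mul_one] at h
  exact h

/-- **Principal block of a central product.** -/
theorem mem_principalBlock_iff [Fintype G] {p : ℕ} [Fact p.Prime] {M : Ideal AlgInt}
    (hM : IsPModular p M) (U₁ U₂ : Subgroup G) [Fintype U₁]
    [Fintype U₂] (hcomm : ∀ u ∈ U₁, ∀ v ∈ U₂, u * v = v * u) (hgen : U₁ ⊔ U₂ = ⊤)
    (hZ : IsPGroup p ↥(U₁ ⊓ U₂)) (χ : IrrCharacter G) (ψ₁ : IrrCharacter U₁)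
    (ψ₂ : IrrCharacter U₂)
    (h₁ : classInner (fun u : U₁ => (χ : G → ℂ) u) (ψ₁ : U₁ → ℂ) ≠ 0)
    (h₂ : classInner (fun u : U₂ => (χ : G → ℂ) u) (ψ₂ : U₂ → ℂ) ≠ 0) :
    χ ∈ principalBlock M G ↔ (ψ₁ ∈ principalBlock M U₁ ∧ ψ₂ ∈ principalBlock M U₂) := by
  have hMp : M.IsPrime := hM.2.1.isPrime
  have hcomm' : ∀ u ∈ U₂, ∀ v ∈ U₁, u * v = v * u := fun u hu v hv => (hcomm v hv u hu).symm
  have hgen' : U₂ ⊔ U₁ = ⊤ := by rw [sup_comm]; exact hgen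
  have hZ' : IsPGroup p ↥(U₂ ⊓ U₁) := by rw [inf_comm]; exact hZ
  constructor
  · intro hχ
    exact ⟨left_mem_principalBlock hM U₁ U₂ hcomm hgen hZ χ ψ₁ ψ₂ h₁ h₂ hχ,
      left_mem_principalBlock hM U₂ U₁ hcomm' hgen' hZ' χ ψ₂ ψ₁ h₂ h₁ hχ⟩
  · rintro ⟨hψ₁, hψ₂⟩
    show SameBlock M (fun _ : G => (1 : ℂ)) (χ : G → ℂ)
    refine Cfsg.Agent.Lib.Helper77_RegClasses.sameBlock_of_forall_reg hM
      (Cfsg.Agent.Lib.Helper80_CharBasic.oneIrr G) χ fun g hg => ?_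
    obtain ⟨b₁, hb₁, b₂, hb₂, hr₁, hr₂, rfl⟩ := exists_reg_mul U₁ U₂ hcomm hgen g hg
    have hr₁' : ¬ p ∣ orderOf (⟨b₁, hb₁⟩ : U₁) := by
      rw [← Subgroup.orderOf_coe]; exact hr₁
    have e1 := centralChar_one_mul U₁ U₂ hcomm hgen hZ ⟨b₁, hb₁⟩ ⟨b₂, hb₂⟩ hr₁'
    have e2 := centralChar_mul U₁ U₂ hcomm hgen hZ χ ψ₁ ψ₂ h₁ h₂ ⟨b₁, hb₁⟩ ⟨b₂, hb₂⟩ hr₁'
    simp only at e1 e2
    show MemLocalIdeal M (centralChar (fun _ : G => (1 : ℂ)) (b₁ * b₂) -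
      centralChar (χ : G → ℂ) (b₁ * b₂))
    rw [e1, e2]
    have k1 := hψ₁ ⟨b₁, hb₁⟩
    have k2 := hψ₂ ⟨b₂, hb₂⟩
    have hI2 : MemLocalRing M (centralChar (fun _ : U₂ => (1 : ℂ)) ⟨b₂, hb₂⟩) := by
      unfold centralChar
      simp only [mul_one, div_one]
      exact memLocalRing_natCast hMp _
    have hω1 : MemLocalRing M (centralChar (ψ₁ : U₁ → ℂ) ⟨b₁, hb₁⟩) :=
      memLocalRing_algInt hMp ⟨_,
        Cfsg.Agent.Lib.Helper78_CentralChar.isIntegral_centralChar_of_isIrrCharacter ψ₁.2 _⟩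
    have := memLocalIdeal_add hMp (memLocalIdeal_mul_right hMp k1 hI2)
      (memLocalIdeal_mul_left hMp hω1 k2)
    convert this using 1
    ring

end Cfsg.Agent.Lib.Helper77_CentralProduct
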