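import Mathlib
import Cfsg.Agent.Lib.Helper1_D8Defs
import Cfsg.Agent.Lib.Helper77_D8_FSSQRTaux
import Cfsg.Agent.Lib.Helper10_D8_CENT
import Cfsg.Agent.Lib.Helper65_D8_ORD6

/-!
# S3716 market (architect helper1), package FSSQRT: the numbers of square roots of `a` and of `a t2`
-/

set_option autoImplicit false
set_option linter.unusedSectionVars false

namespace Cfsg.Agent.Lib.Helper77_D8_FSSQRT

open Cfsg Cfsg.Agent.Lib.Helper80_CharBasic Cfsg.Agent.Lib.Helper1_D8Defs

section grp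
variable {G : Type*} [Group G] [Finite G]

variable {M : Subgroup G} {a b t1 t2 s : G}

/-! ### FSSQRT: numbers of square roots -/
theorem sqrt_counts (h : Hyp G M a b t1 t2 s) :
    Nat.card {x : G // x * x = a} = 4 ∧ Nat.card {x : G // x * x = a * t2} = 0 :=
  Cfsg.Agent.Lib.Helper77_D8_FSSQRTaux.sqrt_counts_of h
    (Cfsg.Agent.Lib.Helper10_D8_CENT.cent_a h).2
    (Cfsg.Agent.Lib.Helper65_D8_ORD6.order_six h).1
    (Cfsg.Agent.Lib.Helper65_D8_ORD6.order_six h).2.2.2.2.2

end grp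

end Cfsg.Agent.Lib.Helper77_D8_FSSQRT
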