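import Mathlib
import Cfsg.Agent.Lib.Helper68_EA2OpDefs

/-!
# EA2 market (architect helper68, S4625), package OP-COL

Clearing the column `f_k` of a unitriangular element of `Ω⁺_{2m}(F)` whose columns `e_i, f_i` (`i < k`) are identity
columns, by left multiplication with positive root elements.
-/

set_option autoImplicit false
set_option linter.unusedSectionVars false
set_option linter.unusedVariables false

namespace Cfsg.Agent.Lib.Helper77_EA2_OP_COL

open Matrix Cfsg.Agent.Lib.Helper68_MatGrp Cfsg.Agent.Lib.Helper68_StOpDefs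
  Cfsg.Agent.Lib.Helper27_StOp_Asm Cfsg.Agent.Lib.Helper68_EA2 Cfsg.Agent.Lib.Helper68_EA2Peel
  Cfsg.Agent.Lib.Helper68_EA2OpDefs

variable {m : ℕ} {F : Type*} [Field F] [Fintype F]

/-- entries of `lxM a c t * X` -/
theorem lxM_mul_apply (a c : I m) (t : F) (X : Matrix (I m) (I m) F) (r s : I m) :
    (lxM a c t * X) r s = X r s + (if r = a then t * X c s else 0) -
      (if r = op c then t * X (op a) s else 0) := by
  unfold lxM
  rw [Matrix.sub_mul, Matrix.add_mul, Matrix.one_mul, Matrix.sub_apply, Matrix.add_apply]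
  congr 1
  · congr 1
    by_cases h : r = a
    · subst h
      rw [if_pos rfl, Matrix.single_mul_apply_same]
    · rw [if_neg h, Matrix.single_mul_apply_of_ne _ _ _ _ _ h]
  · by_cases h : r = op c
    · subst h
      rw [if_pos rfl, Matrix.single_mul_apply_same]
    · rw [if_neg h, Matrix.single_mul_apply_of_ne _ _ _ _ _ h]

/-- unfolding membership in the unitriangular group -/
theorem mem_UUop {x : GO m F} :
    x ∈ UUop m F ↔ (∀ a b, ht m b < ht m a → φ m F x a b = 0) ∧ ∀ a, φ m F x a a = 1 := Iff.rfl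

/-- `CkOp k` is closed under products -/
theorem CkOp_mul {k : ℕ} {x y : GO m F} (hx : x ∈ CkOp (m := m) (F := F) k)
    (hy : y ∈ CkOp (m := m) (F := F) k) : y * x ∈ CkOp (m := m) (F := F) k := by
  intro i hi b
  have key : ∀ c : I m, (∀ b, φ m F x b c = (1 : Matrix (I m) (I m) F) b c) →
      (∀ b, φ m F y b c = (1 : Matrix (I m) (I m) F) b c) →
      φ m F (y * x) b c = (1 : Matrix (I m) (I m) F) b c := by
    intro c hxc hyc
    rw [map_mul, Matrix.mul_apply, Finset.sum_eq_single c]
    · rw [hxc c, Matrix.one_apply_eq, mul_one, hyc b]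
    · intro d _ hd
      rw [hxc d, Matrix.one_apply_ne hd, mul_zero]
    · intro h; exact absurd (Finset.mem_univ _) h
  exact ⟨key _ (fun b => (hx i hi b).1) (fun b => (hy i hi b).1),
    key _ (fun b => (hx i hi b).2) (fun b => (hy i hi b).2)⟩

/-- `CkOp k` is closed under inverses -/
theorem CkOp_inv {k : ℕ} {x : GO m F} (hx : x ∈ CkOp (m := m) (F := F) k) :
    x⁻¹ ∈ CkOp (m := m) (F := F) k := by
  intro i hi b
  have key : ∀ c : I m, (∀ b, φ m F x b c = (1 : Matrix (I m) (I m) F) b c) →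
      φ m F x⁻¹ b c = (1 : Matrix (I m) (I m) F) b c := by
    intro c hxc
    have h1 : φ m F x⁻¹ * φ m F x = 1 := by
      rw [← map_mul, inv_mul_cancel, map_one]
    have h2 := congrFun (congrFun h1 b) c
    rw [Matrix.mul_apply, Finset.sum_eq_single c] at h2
    · rw [hxc c, Matrix.one_apply_eq, mul_one] at h2
      exact h2
    · intro d _ hd
      rw [hxc d, Matrix.one_apply_ne hd, mul_zero]
    · intro h; exact absurd (Finset.mem_univ _) h
  exact ⟨key _ (fun b => (hx i hi b).1), key _ (fun b => (hx i hi b).2)⟩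

/-- the rows `e_i`, `f_i`, `i < k`, of an element of `CkOp k` are identity rows -/
theorem CkOp_row {k : ℕ} {x : GO m F} (hx : x ∈ CkOp (m := m) (F := F) k) (i : Fin m)
    (hi : i.val < k) (c : I m) :
    φ m F x (ie i) c = (1 : Matrix (I m) (I m) F) (ie i) c ∧
      φ m F x (jf i) c = (1 : Matrix (I m) (I m) F) (jf i) c := by
  have hinv := CkOp_inv hx
  have h1 : φ m F x (ie i) c = φ m F x⁻¹ (op c) (jf i) := by
    rw [φ_inv_apply, op_op, op_jf]
  have h2 : φ m F x (jf i) c = φ m F x⁻¹ (op c) (ie i) := by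
    rw [φ_inv_apply, op_op, op_ie]
  constructor
  · rw [h1, (hinv i hi (op c)).2, Matrix.one_apply, Matrix.one_apply]
    by_cases h : ie i = c
    · rw [if_pos h, if_pos (by rw [← h, op_ie])]
    · rw [if_neg h, if_neg]
      intro e
      apply h
      have := congrArg op e
      rw [op_op, op_jf] at this
      exact this.symm
  · rw [h2, (hinv i hi (op c)).1, Matrix.one_apply, Matrix.one_apply]
    by_cases h : jf i = c
    · rw [if_pos h, if_pos (by rw [← h, op_jf])]
    · rw [if_neg h, if_neg]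
      intro e
      apply h
      have := congrArg op e
      rw [op_op, op_ie] at this
      exact this.symm

/-- the "middle" indices `e_j`, `f_j`, `j > k` -/
def Mid (m k : ℕ) (a : I m) : Prop := ∃ j : Fin m, k < j.val ∧ (a = ie j ∨ a = jf j)

theorem Mid.ne_ie {k : ℕ} {a : I m} (h : Mid m k a) (i : Fin m) (hi : i.val ≤ k) : a ≠ ie i := by
  obtain ⟨j, hj, rfl | rfl⟩ := h
  · intro e
    have := ie_injective e
    subst this
    omega
  · exact fun e => ie_ne_jf i j e.symm

theorem Mid.ne_jf {k : ℕ} {a : I m} (h : Mid m k a) (i : Fin m) (hi : i.val ≤ k) : a ≠ jf i := by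
  obtain ⟨j, hj, rfl | rfl⟩ := h
  · exact fun e => ie_ne_jf j i e
  · intro e
    have := jf_injective e
    subst this
    omega

theorem Mid.op {k : ℕ} {a : I m} (h : Mid m k a) : Mid m k (op a) := by
  obtain ⟨j, hj, rfl | rfl⟩ := h
  · exact ⟨j, hj, Or.inr (op_ie j)⟩
  · exact ⟨j, hj, Or.inl (op_jf j)⟩

theorem Mid.lxOK {k : ℕ} {a : I m} (h : Mid m k a) (kk : Fin m) (hkk : kk.val = k) :
    LxOK a (jf kk) := by
  refine ⟨fun e => h.ne_jf kk hkk.le e.symm, fun e => ?_⟩
  have : a = ie kk := by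
    have := congrArg Cfsg.Agent.Lib.Helper68_StOpDefs.op e
    rw [op_op, op_jf] at this
    exact this.symm
  exact h.ne_ie kk hkk.le this

theorem Mid.ht_lt {k : ℕ} {a : I m} (h : Mid m k a) (kk : Fin m) (hkk : kk.val = k) :
    ht m a < ht m (jf kk) := by
  obtain ⟨j, hj, rfl | rfl⟩ := h
  · rw [ht_ie, ht_jf]
    have := j.2
    have := kk.2
    omega
  · rw [ht_jf, ht_jf]
    have := j.2
    have := kk.2
    omega

/-- every index is below, at, or above level `k` -/
theorem index_trichotomy (k : ℕ) (kk : Fin m) (hkk : kk.val = k) (b : I m) :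
    (∃ i : Fin m, i.val < k ∧ (b = ie i ∨ b = jf i)) ∨ b = ie kk ∨ b = jf kk ∨ Mid m k b := by
  rcases index_cases b with ⟨i, rfl⟩ | ⟨i, rfl⟩
  · rcases lt_trichotomy i.val k with h | h | h
    · exact Or.inl ⟨i, h, Or.inl rfl⟩
    · right; left
      congr 1
      exact Fin.ext (h.trans hkk.symm)
    · right; right; right
      exact ⟨i, h, Or.inl rfl⟩
  · rcases lt_trichotomy i.val k with h | h | h
    · exact Or.inl ⟨i, h, Or.inr rfl⟩
    · right; right; left
      congr 1
      exact Fin.ext (h.trans hkk.symm)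
    · right; right; right
      exact ⟨i, h, Or.inr rfl⟩

/-- the root elements used for clearing lie in `UUop` -/
theorem lx_mem_UUop (hm : 3 ≤ m) {a c : I m} (h : LxOK a c) (hlt : ht m a < ht m c) (t : F) :
    lx a c t ∈ UUop m F := by
  refine ⟨Cfsg.Agent.Lib.Helper31_StOp_XB.lx_mem_Boo hm h hlt t, fun r => ?_⟩
  rw [lx_val hm h]
  unfold lxM
  rw [Matrix.sub_apply, Matrix.add_apply, Matrix.one_apply_eq, Matrix.single_apply,
    Matrix.single_apply, if_neg, if_neg]
  · simp
  · rintro ⟨h1, h2⟩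
    exact h.1 (op_injective (h1.trans h2.symm))
  · rintro ⟨h1, h2⟩
    exact h.1 (h2.trans h1.symm)

/-- the root elements used for clearing lie in `CkOp k` -/
theorem lx_mem_CkOp (hm : 3 ≤ m) {k : ℕ} {a : I m} (h : Mid m k a) (kk : Fin m) (hkk : kk.val = k)
    (t : F) : lx a (jf kk) t ∈ CkOp (m := m) (F := F) k := by
  intro i hi b
  rw [lx_val hm (h.lxOK kk hkk)]
  unfold lxM
  have h1 : ∀ c : I m, c ≠ jf kk → c ≠ Cfsg.Agent.Lib.Helper68_StOpDefs.op a →
      (1 + single a (jf kk) t - single (Cfsg.Agent.Lib.Helper68_StOpDefs.op (jf kk))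
        (Cfsg.Agent.Lib.Helper68_StOpDefs.op a) t : Matrix (I m) (I m) F) b c =
      (1 : Matrix (I m) (I m) F) b c := by
    intro c hc1 hc2
    rw [Matrix.sub_apply, Matrix.add_apply, Matrix.single_apply, Matrix.single_apply, if_neg,
      if_neg]
    · simp
    · rintro ⟨-, h2⟩
      exact hc2 h2.symm
    · rintro ⟨-, h2⟩
      exact hc1 h2.symm
  constructor
  · apply h1
    · exact ie_ne_jf i kk
    · exact fun e => h.op.ne_ie i hi.le e.symm
  · apply h1
    · intro e
      have := jf_injective e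
      subst this
      omega
    · exact fun e => h.op.ne_jf i hi.le e.symm

/-- the row `f_k` of an element of `UUop ∩ CkOp k` is the identity row -/
theorem row_jf {k : ℕ} {x : GO m F} (hx : x ∈ UUop m F) (hxk : x ∈ CkOp (m := m) (F := F) k)
    (kk : Fin m) (hkk : kk.val = k) (c : I m) :
    φ m F x (jf kk) c = (1 : Matrix (I m) (I m) F) (jf kk) c := by
  obtain ⟨htri, hdiag⟩ := mem_UUop.mp hx
  by_cases hc : c = jf kk
  · rw [hc, hdiag, Matrix.one_apply_eq]
  · rw [Matrix.one_apply_ne (Ne.symm hc)]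
    rcases lt_or_ge (ht m c) (ht m (jf kk)) with hlt | hge
    · exact htri _ _ hlt
    · -- `c = jf i` with `i < k`
      rcases index_cases c with ⟨i, rfl⟩ | ⟨i, rfl⟩
      · exfalso
        rw [ht_ie, ht_jf] at hge
        have := i.2
        have := kk.2
        omega
      · have hik : i.val < k := by
          rw [ht_jf, ht_jf] at hge
          have := i.2
          have := kk.2
          have hne : i.val ≠ kk.val := fun e => hc (by rw [Fin.ext e])
          omega
        rw [(hxk i hik (jf kk)).2, Matrix.one_apply_ne]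
        exact fun e => hc e.symm

/-- the clearing step: all entries `(a, f_k)`, `a ∈ A`, `A` a set of middle indices, can be cleared -/
theorem clear_finset (hm : 3 ≤ m) (k : ℕ) (kk : Fin m) (hkk : kk.val = k) (x : GO m F)
    (hx : x ∈ UUop m F) (hxk : x ∈ CkOp (m := m) (F := F) k) (A : Finset (I m))
    (hA : ∀ a ∈ A, Mid m k a) :
    ∃ y ∈ Subgroup.closure (posSetOp m F), y * x ∈ UUop m F ∧ y * x ∈ CkOp (m := m) (F := F) k ∧
      ∀ a ∈ A, φ m F (y * x) a (jf kk) = 0 := by
  classical
  induction A using Finset.induction_on with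
  | empty =>
    refine ⟨1, one_mem _, ?_, ?_, ?_⟩
    · rw [one_mul]; exact hx
    · rw [one_mul]; exact hxk
    · intro a ha
      exact absurd ha (Finset.notMem_empty a)
  | insert a₀ A' ha₀ ih =>
    obtain ⟨y', hy', hx'U, hx'k, hx'A⟩ := ih (fun a ha => hA a (Finset.mem_insert_of_mem ha))
    have hmid := hA a₀ (Finset.mem_insert_self a₀ A')
    have hok := hmid.lxOK kk hkk
    have hlt := hmid.ht_lt kk hkk
    set t : F := - φ m F (y' * x) a₀ (jf kk) with ht
    have hL : lx a₀ (jf kk) t ∈ posSetOp m F := ⟨a₀, jf kk, t, hok, hlt, rfl⟩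
    refine ⟨lx a₀ (jf kk) t * y', mul_mem (Subgroup.subset_closure hL) hy', ?_, ?_, ?_⟩
    · rw [mul_assoc]
      exact mul_mem (lx_mem_UUop hm hok hlt t) hx'U
    · rw [mul_assoc]
      exact CkOp_mul hx'k (lx_mem_CkOp hm hmid kk hkk t)
    · intro a ha
      rw [mul_assoc, map_mul, lx_val hm hok, lxM_mul_apply, op_jf]
      have hrow := row_jf hx'U hx'k kk hkk (jf kk)
      rw [Matrix.one_apply_eq] at hrow
      have hane : a ≠ ie kk := (hA a ha).ne_ie kk hkk.le
      rw [if_neg hane, sub_zero]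
      rcases Finset.mem_insert.mp ha with rfl | ha'
      · rw [if_pos rfl, hrow, mul_one, ht, add_neg_cancel]
      · have : a ≠ a₀ := fun e => ha₀ (e ▸ ha')
        rw [if_neg this, add_zero]
        exact hx'A a ha'

/-- elements of `Ω` preserve the quadratic form -/
theorem QP_mulVec (x : GO m F) (v : I m → F) : QP m F (φ m F x *ᵥ v) = QP m F v :=
  (Cfsg.Agent.Lib.Helper44_Orth.mem_isometryGroup_iff _ x.1.1).mp x.1.2 v

/-- the corner entry `(e_k, f_k)` vanishes once the middle of the column `f_k` is cleared -/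
theorem corner_zero {k : ℕ} {x : GO m F} (hx : x ∈ UUop m F) (hxk : x ∈ CkOp (m := m) (F := F) k)
    (kk : Fin m) (hkk : kk.val = k) (hmid : ∀ a, Mid m k a → φ m F x a (jf kk) = 0) :
    φ m F x (ie kk) (jf kk) = 0 := by
  have h1 := QP_mulVec x (Pi.single (jf kk) 1)
  rw [QP_single, QP_apply, Finset.sum_eq_single kk] at h1
  · rw [Matrix.mulVec_single_one] at h1
    have h2 : (φ m F x).col (jf kk) (jf kk) = 1 := (mem_UUop.mp hx).2 (jf kk)
    rw [h2, mul_one] at h1
    exact h1
  · intro i _ hi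
    rw [Matrix.mulVec_single_one]
    have h0 : (φ m F x).col (jf kk) (ie i) = 0 := by
      show φ m F x (ie i) (jf kk) = 0
      rcases lt_or_ge i.val k with hlt | hge
      · rw [(CkOp_row hxk i hlt (jf kk)).1, Matrix.one_apply_ne (ie_ne_jf i kk)]
      · apply hmid
        refine ⟨i, ?_, Or.inl rfl⟩
        have : i.val ≠ kk.val := fun e => hi (Fin.ext e)
        omega
    rw [h0, zero_mul]
  · intro h; exact absurd (Finset.mem_univ _) h

/-- **OP-COL**. -/
theorem op_col (hm : 3 ≤ m) (k : ℕ) (hk : k < m) (x : GO m F) (hx : x ∈ UUop m F)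
    (hxk : x ∈ CkOp (m := m) (F := F) k) :
    ∃ y ∈ Subgroup.closure (posSetOp m F), y * x ∈ CkOp (m := m) (F := F) (k + 1) := by
  classical
  set kk : Fin m := ⟨k, hk⟩ with hkkdef
  have hkk : kk.val = k := rfl
  obtain ⟨y, hy, hyU, hyk, hyA⟩ := clear_finset hm k kk hkk x hx hxk
    (Finset.univ.filter (fun a => Mid m k a)) (fun a ha => (Finset.mem_filter.mp ha).2)
  refine ⟨y, hy, ?_⟩
  have hmid : ∀ a, Mid m k a → φ m F (y * x) a (jf kk) = 0 := fun a ha =>
    hyA a (Finset.mem_filter.mpr ⟨Finset.mem_univ a, ha⟩)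
  have hcorner := corner_zero hyU hyk kk hkk hmid
  obtain ⟨htri, hdiag⟩ := mem_UUop.mp hyU
  intro i hi b
  rcases Nat.lt_succ_iff_lt_or_eq.mp hi with hlt | heq
  · exact hyk i hlt b
  · have hik : i = kk := Fin.ext heq
    subst hik
    rcases index_trichotomy k kk hkk b with ⟨i', hi', rfl | rfl⟩ | rfl | rfl | hb
    · exact ⟨(CkOp_row hyk i' hi' _).1, (CkOp_row hyk i' hi' _).1⟩
    · exact ⟨(CkOp_row hyk i' hi' _).2, (CkOp_row hyk i' hi' _).2⟩
    · refine ⟨?_, ?_⟩
      · rw [hdiag, Matrix.one_apply_eq]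
      · rw [hcorner, Matrix.one_apply_ne (ie_ne_jf kk kk)]
    · exact ⟨row_jf hyU hyk kk hkk _, row_jf hyU hyk kk hkk _⟩
    · refine ⟨?_, ?_⟩
      · rw [Matrix.one_apply_ne (hb.ne_ie kk hkk.le)]
        apply htri
        obtain ⟨j, hj, rfl | rfl⟩ := hb
        · rw [ht_ie, ht_ie]; exact hj
        · rw [ht_ie, ht_jf]
          have := j.2
          omega
      · rw [Matrix.one_apply_ne (hb.ne_jf kk hkk.le)]
        exact hmid b hb

end Cfsg.Agent.Lib.Helper77_EA2_OP_COL
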