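import Mathlib
import Cfsg.Agent.Lib.Helper68_EA2SUDefs

/-!
# EA2 market (architect helper68, S4625), package SU-EMSQ

In characteristic `2`, the square of an Eichler element of the unitriangular group `Usu n σ` of `SUJ n σ` is a
commutator of two elements of `Usu n σ`.
-/

set_option autoImplicit false
set_option linter.unusedSectionVars false
set_option linter.unusedVariables false

namespace Cfsg.Agent.Lib.Helper77_EA2_SU_EMSQ

open Matrix Cfsg.Agent.Lib.Helper68_MatGrp Cfsg.Agent.Lib.Helper27_StSUDefs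
  Cfsg.Agent.Lib.Helper27_StSUBasic Cfsg.Agent.Lib.Helper5_StSU_TU Cfsg.Agent.Lib.Helper88_StSU_GENB
  Cfsg.Agent.Lib.Helper27_StSU_Asm Cfsg.Agent.Lib.Helper68_EA2 Cfsg.Agent.Lib.Helper68_EA2Peel
  Cfsg.Agent.Lib.Helper68_EA2SUDefs

open scoped commutatorElement

variable {n : ℕ} {F : Type*} [Field F] (σ : F →+* F)

/-- the hermitian pairing `h u v = ∑ σ (u (rev y)) v y` -/
def hh (u v : Fin n → F) : F := ∑ y, σ (u (Fin.rev y)) * v y

/-- the row vector `y ↦ σ (w (rev y))` -/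
def wt (w : Fin n → F) : Fin n → F := fun y => σ (w (Fin.rev y))

/-- the Eichler matrix as a sum of rank one matrices -/
theorem eM_eq (a : Fin n) (w : Fin n → F) (c : F) :
    eM σ a w c = 1 + vecMulVec w (Pi.single a 1) - vecMulVec (Pi.single (Fin.rev a) 1) (wt σ w)
      + c • vecMulVec (Pi.single (Fin.rev a) 1) (Pi.single a 1) := by
  ext x y
  rw [eM_apply, Matrix.add_apply, Matrix.sub_apply, Matrix.add_apply, Matrix.smul_apply,
    Matrix.vecMulVec_apply, Matrix.vecMulVec_apply, Matrix.vecMulVec_apply, Matrix.one_apply,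
    Pi.single_apply, Pi.single_apply, smul_eq_mul]
  unfold wt
  by_cases h1 : y = a <;> by_cases h2 : x = Fin.rev a <;> simp [h1, h2]

theorem wt_add (w w₂ : Fin n → F) : wt σ (w + w₂) = wt σ w + wt σ w₂ := by
  funext y
  unfold wt
  rw [Pi.add_apply, Pi.add_apply, map_add]

/-- the product rule for Eichler matrices -/
theorem eM_mul (a : Fin n) (ha : a ≠ Fin.rev a) (w w₂ : Fin n → F) (c c₂ : F) (hwa : w a = 0)
    (hw₂a : w₂ a = 0) :
    eM σ a w c * eM σ a w₂ c₂ = eM σ a (w + w₂) (c + c₂ - hh σ w w₂) := by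
  have e1 : (Pi.single a (1 : F) : Fin n → F) ⬝ᵥ w₂ = 0 := by
    rw [single_dotProduct, hw₂a, mul_zero]
  have e2 : (Pi.single a (1 : F) : Fin n → F) ⬝ᵥ Pi.single (Fin.rev a) 1 = 0 := by
    rw [single_dotProduct, Pi.single_apply, if_neg ha, mul_zero]
  have e3 : wt σ w ⬝ᵥ w₂ = hh σ w w₂ := rfl
  have e4 : wt σ w ⬝ᵥ Pi.single (Fin.rev a) 1 = 0 := by
    rw [dotProduct_single, mul_one]
    unfold wt
    rw [Fin.rev_rev, hwa, map_zero]
  rw [eM_eq, eM_eq, eM_eq, wt_add]
  simp only [Matrix.add_mul, Matrix.sub_mul, Matrix.mul_add, Matrix.mul_sub, Matrix.one_mul,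
    Matrix.mul_one, Matrix.smul_mul, Matrix.mul_smul, Matrix.vecMulVec_mul_vecMulVec, e1, e2, e3, e4,
    zero_smul, smul_zero, Matrix.vecMulVec_zero, sub_zero, add_zero]
  rw [Matrix.vecMulVec_smul, Matrix.add_vecMulVec, Matrix.vecMulVec_add, sub_smul, add_smul]
  abel

theorem hh_smul_right (μ : F) (u v : Fin n → F) : hh σ u (μ • v) = μ * hh σ u v := by
  unfold hh
  rw [Finset.mul_sum]
  apply Finset.sum_congr rfl
  intro y _
  rw [Pi.smul_apply, smul_eq_mul]
  ring

theorem hh_smul_left (μ : F) (u v : Fin n → F) : hh σ (μ • u) v = σ μ * hh σ u v := by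
  unfold hh
  rw [Finset.mul_sum]
  apply Finset.sum_congr rfl
  intro y _
  rw [Pi.smul_apply, smul_eq_mul, map_mul]
  ring

theorem hh_zero_left (v : Fin n → F) : hh σ (0 : Fin n → F) v = 0 := by
  unfold hh
  apply Finset.sum_eq_zero
  intro y _
  rw [Pi.zero_apply, map_zero, zero_mul]

/-- the unitarity relation of an Eichler matrix, in the form used by `eM_unitary` -/
theorem hh_eq_sum (w : Fin n → F) : ∑ x, w x * σ (w (Fin.rev x)) = hh σ w w := by
  unfold hh
  apply Finset.sum_congr rfl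
  intro y _
  rw [mul_comm]

/-- unitarity of an Eichler element: `c + σ c + h w w = 0` -/
theorem eM_rel (r : ↥(SUJ n σ)) (a : Fin n) (w : Fin n → F) (c : F) (ha : a ≠ Fin.rev a)
    (hwa : w a = 0) (hwa' : w (Fin.rev a) = 0) (hr : r.1.1 = eM σ a w c) :
    c + σ c + hh σ w w = 0 := by
  have h := unitary_apply σ r a a
  rw [if_neg ha, hr] at h
  have ha' : Fin.rev a ≠ a := fun e => ha e.symm
  have hterm : ∀ x : Fin n, eM σ a w c x a * σ (eM σ a w c (Fin.rev x) a) =
      w x * σ (w (Fin.rev x)) + (if x = a then σ c else 0) + (if x = Fin.rev a then c else 0) := by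
    intro x
    rw [eM_col σ a w c ha hwa', eM_rcol σ a w c ha hwa']
    by_cases h1 : x = a
    · subst h1
      simp [ha, hwa, hwa']
    · by_cases h2 : x = Fin.rev a
      · subst h2
        simp [ha', hwa, hwa']
      · simp [h1, h2]
  rw [Finset.sum_congr rfl (fun x _ => hterm x), Finset.sum_add_distrib, Finset.sum_add_distrib,
    Finset.sum_ite_eq' Finset.univ a, Finset.sum_ite_eq' Finset.univ (Fin.rev a), if_pos (Finset.mem_univ _),
    if_pos (Finset.mem_univ _), hh_eq_sum] at h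
  rw [← h]
  ring

/-- **SU-EMSQ**. -/
theorem su_emsq [CharP F 2] (hσ : ∀ x, σ (σ x) = x) (μ : F) (hμ : μ + σ μ = 1) (r : ↥(SUJ n σ))
    (hr : r ∈ EiSU σ) : r ^ 2 ∈ ⁅Usu n σ, Usu n σ⁆ := by
  obtain ⟨hrU, a, w, c, hra, hw1, hw2, hrM⟩ := hr
  have ha : a ≠ Fin.rev a := fun e => by
    rw [← e] at hra
    exact lt_irrefl _ hra
  have hwa : w a = 0 := hw1 a le_rfl
  have hwa' : w (Fin.rev a) = 0 := hw2 _ le_rfl
  have two : (2 : F) = 0 := by
    have := CharP.cast_eq_zero F 2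
    exact_mod_cast this
  have hrel := eM_rel σ r a w c ha hwa hwa' hrM
  -- the partner
  have hw₂a : (μ • w) a = 0 := by rw [Pi.smul_apply, hwa, smul_zero]
  have hw₂a' : (μ • w) (Fin.rev a) = 0 := by rw [Pi.smul_apply, hwa', smul_zero]
  have hw₂top : ∀ x, a < x → (μ • w) x = 0 := fun x hx => by
    rw [Pi.smul_apply, hw1 x hx.le, smul_zero]
  have hnot : a < Fin.rev a → μ * σ μ * c = 0 := fun h => absurd h (not_lt.mpr hra.le)
  have hrel₂ : μ * σ μ * c + σ (μ * σ μ * c) + ∑ x, (μ • w) x * σ ((μ • w) (Fin.rev x)) = 0 := by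
    rw [hh_eq_sum, hh_smul_left, hh_smul_right, map_mul, map_mul, hσ]
    linear_combination (μ * σ μ) * hrel
  have hdet₂ : (eM σ a (μ • w) (μ * σ μ * c)).det = 1 := eM_det σ a _ _ ha hw₂a hw₂top hnot
  have huni₂ := eM_unitary σ hσ a (μ • w) (μ * σ μ * c) ha hw₂a hw₂a' hrel₂
  have hr₂M : (mkE σ (eM σ a (μ • w) (μ * σ μ * c))).1.1 = eM σ a (μ • w) (μ * σ μ * c) :=
    mkE_val σ hdet₂ huni₂
  have hr₂U : mkE σ (eM σ a (μ • w) (μ * σ μ * c)) ∈ Usu n σ := by
    rw [mem_Usu]
    constructor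
    · intro x y hyx
      rw [hr₂M]
      exact eM_upper σ a _ _ hw₂top hnot x y hyx
    · intro x
      rw [hr₂M]
      exact eM_diag σ a _ _ ha hw₂a x
  -- the key identity
  have hww : w + w = 0 := by
    funext x
    rw [Pi.add_apply, Pi.zero_apply]
    linear_combination (w x) * two
  have key : r * mkE σ (eM σ a (μ • w) (μ * σ μ * c)) =
      r ^ 2 * (mkE σ (eM σ a (μ • w) (μ * σ μ * c)) * r) := by
    apply ext_val σ
    rw [mul_val, mul_val, mul_val, pow_two, mul_val, hrM, hr₂M,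
      eM_mul σ a ha w (μ • w) c _ hwa hw₂a, eM_mul σ a ha w w c c hwa hwa,
      eM_mul σ a ha (μ • w) w _ c hw₂a hwa,
      eM_mul σ a ha (w + w) (μ • w + w) _ _ (by rw [hww, Pi.zero_apply])
        (by rw [Pi.add_apply, hw₂a, hwa, add_zero])]
    congr 1
    · rw [hww, zero_add, add_comm]
    · rw [hww, hh_zero_left, hh_smul_right, hh_smul_left]
      linear_combination (hh σ w w) * hμ + (-c + hh σ w w * (1 - μ)) * two
  have hcomm : r ^ 2 = ⁅r, mkE σ (eM σ a (μ • w) (μ * σ μ * c))⁆ := by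
    rw [commutatorElement_def, key]
    group
  rw [hcomm]
  exact Subgroup.commutator_mem_commutator hrU hr₂U

end Cfsg.Agent.Lib.Helper77_EA2_SU_EMSQ
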