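import Mathlib
import Cfsg.Prelude.Def_Blocks
import Cfsg.Prelude.Def_BlockLocal
import Cfsg.Agent.Lib.Helper77_StableCover
import Cfsg.Agent.Lib.Helper77_NormalPair
import Cfsg.Agent.Lib.Helper75_CliffordOrbit
import Cfsg.Agent.Lib.Helper78_TransportBlocks

/-!
# Invariant height-zero characters in blocks of normal subgroups (helper77)
-/

set_option autoImplicit false
set_option linter.unusedSectionVars false

namespace Cfsg.Agent.Lib.Helper77_InvHeightZero

open Cfsg Cfsg.Agent.Lib.Helper16_Char Cfsg.Agent.Lib.Helper16_Clifford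
  Cfsg.Agent.Lib.Helper16_Orbit Cfsg.Agent.Lib.Helper16_Cover
  Cfsg.Agent.Lib.Helper78_LocalRing Cfsg.Agent.Lib.Helper78_Osima
  Cfsg.Agent.Lib.Helper78_CentralChar Cfsg.Agent.Lib.Helper78_CharFacts
  Cfsg.Agent.Lib.Helper77_StableCover Cfsg.Agent.Lib.Helper77_BlockBasics
  Cfsg.Agent.Lib.Helper75_Clifford Cfsg.Agent.Lib.Helper75_CliffordOrbit
open scoped ComplexConjugate

universe u

section PPowerIndex

variable {G : Type u} [Group G] [Fintype G] (N : Subgroup G) [hN : N.Normal] [Fintype N]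
  {M : Ideal AlgInt} {p : ℕ} [Fact p.Prime]

/-- The size of the orbit of `θ` under conjugation divides the index of `N`. -/
theorem ncard_orbit_dvd_index (θ : IrrCharacter N) :
    ({ψ : N → ℂ | ∃ g : G, ψ = Cfsg.Agent.Lib.Helper75_Clifford.conjFun N hN (θ : N → ℂ) g}).ncard ∣ N.index := by
  classical
  set x : Fn N := ⟨(θ : N → ℂ)⟩ with hx
  have himg : {ψ : N → ℂ | ∃ g : G, ψ = Cfsg.Agent.Lib.Helper75_Clifford.conjFun N hN (θ : N → ℂ) g} =
      (fun y : Fn N => y.f) '' (MulAction.orbit G x) := by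
    ext ψ
    constructor
    · rintro ⟨g, rfl⟩
      refine ⟨g⁻¹ • x, ⟨g⁻¹, rfl⟩, ?_⟩
      show Cfsg.Agent.Lib.Helper75_Clifford.conjFun N hN (θ : N → ℂ) g⁻¹⁻¹ = _
      rw [inv_inv]
    · rintro ⟨y, ⟨g, rfl⟩, rfl⟩
      exact ⟨g⁻¹, rfl⟩
  have hinj : Function.Injective (fun y : Fn N => y.f) := by
    intro y y' h
    exact Fn.ext h
  rw [himg, Set.ncard_image_of_injective _ hinj, ← MulAction.index_stabilizer]
  apply Subgroup.index_dvd_of_le
  intro n hn
  rw [MulAction.mem_stabilizer_iff]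
  ext1
  show Cfsg.Agent.Lib.Helper75_Clifford.conjFun N hN (θ : N → ℂ) n⁻¹ = (θ : N → ℂ)
  exact conjFun_of_mem N hN (isIrrCharacter_isClassFunction θ.2) ⟨n⁻¹, N.inv_mem hn⟩

/-- Clifford's theorem at the identity. -/
theorem degree_eq_mul (χ : IrrCharacter G) (θ : IrrCharacter N)
    (hθ : classInner (fun n : N => (χ : G → ℂ) n) (θ : N → ℂ) ≠ 0) :
    ∃ e : ℕ, e ≠ 0 ∧ charDegree (χ : G → ℂ) =
      e * ({ψ : N → ℂ | ∃ g : G, ψ = Cfsg.Agent.Lib.Helper75_Clifford.conjFun N hN (θ : N → ℂ) g}).ncard *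
        charDegree (θ : N → ℂ) := by
  classical
  have hcl := clifford N hN χ.2 θ.2 hθ
  obtain ⟨e, he⟩ := Cfsg.Agent.Lib.Helper75_CharArith.classInner_isCharacter_nat
    (Cfsg.Agent.Lib.Helper75_CharArith.isCharacter_restrict N
      (Cfsg.Agent.Lib.Helper3_CharBridge.isCharacter_of_isIrrCharacter χ.2))
    (Cfsg.Agent.Lib.Helper3_CharBridge.isCharacter_of_isIrrCharacter θ.2)
  have he0 : e ≠ 0 := by
    rintro rfl
    apply hθ
    rw [he]
    simp
  refine ⟨e, he0, ?_⟩
  set A : Set (N → ℂ) := {ψ : N → ℂ | ∃ g : G, ψ = Cfsg.Agent.Lib.Helper75_Clifford.conjFun N hN (θ : N → ℂ) g} with hA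
  have hAfin : A.Finite := by
    have : A = Set.range (fun g : G => Cfsg.Agent.Lib.Helper75_Clifford.conjFun N hN (θ : N → ℂ) g) := by
      ext ψ
      constructor
      · rintro ⟨g, rfl⟩; exact ⟨g, rfl⟩
      · rintro ⟨g, rfl⟩; exact ⟨g, rfl⟩
    rw [this]
    exact Set.finite_range _
  have h1 := congrFun hcl 1
  have hres : res N (χ : G → ℂ) 1 = (χ : G → ℂ) 1 := rfl
  have hinner : classInner (res N (χ : G → ℂ)) (θ : N → ℂ) = (e : ℂ) := he
  rw [hres, hinner, Pi.smul_apply, finsum_mem_eq_finite_toFinset_sum _ hAfin,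
    Finset.sum_apply] at h1
  have h2 : ∀ ψ ∈ hAfin.toFinset, ψ 1 = (θ : N → ℂ) 1 := by
    intro ψ hψ
    obtain ⟨g, rfl⟩ := (Set.Finite.mem_toFinset hAfin).mp hψ
    rw [conjFun_apply]
    have : (⟨g * ((1 : N) : G) * g⁻¹, hN.conj_mem _ (1 : N).2 g⟩ : N) = 1 := by
      apply Subtype.ext
      simp
    rw [this]
  rw [Finset.sum_congr rfl h2, Finset.sum_const, ← Set.ncard_eq_toFinset_card A hAfin,
    apply_one_eq_charDegree χ, apply_one_eq_charDegree θ, smul_eq_mul, nsmul_eq_mul] at h1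
  have h3 : ((charDegree (χ : G → ℂ) : ℕ) : ℂ) =
      ((e * A.ncard * charDegree (θ : N → ℂ) : ℕ) : ℂ) := by
    rw [h1]
    push_cast
    ring
  exact_mod_cast h3

/-- In a `G`-stable block of a normal subgroup of `p`-power index there is a `G`-invariant character
of height zero. -/
theorem exists_invariant_height_zero (hM : IsPModular p M) {k : ℕ} (hidx : N.index = p ^ k)
    {c : Set (IrrCharacter N)} (hc : IsPBlock M c) (hst : ∀ x : G, StabilizesBlock N c x) :
    ∃ θ ∈ c, (∀ ξ ∈ c, (charDegree (θ : N → ℂ)).factorization p ≤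
        (charDegree (ξ : N → ℂ)).factorization p) ∧
      ∀ g : G, Cfsg.Agent.Lib.Helper75_Clifford.conjFun N hN (θ : N → ℂ) g = (θ : N → ℂ) := by
  classical
  have hp : p.Prime := Fact.out
  have hMp := isPrime_of_isPModular hM
  obtain ⟨B, hB, hBc⟩ := exists_block_eq N hM hidx hc hst
  have hd := blockDefect_eq_add N hM hidx hc hB hBc
  obtain ⟨χ, hχB, -, hχd⟩ := exists_height_zero p B (isPBlock_nonempty hMp hB)
  obtain ⟨θ, hθ⟩ := exists_under N χ
  have hcst := gClosure_eq_of_stable N hst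
  have hinv : ∀ x : G, cj N x (blockCoeff c) = blockCoeff c := by
    intro x
    have := cj_covF N c x
    unfold covF at this
    rw [hcst] at this
    exact this
  have hθc : θ ∈ c := by
    have h1 : blockCoeff B = extZero N (blockCoeff c) := by
      funext g
      rw [hBc g, extZero_eq_subgroupBlockCoeff]
    have h2 := omega_blockCoeff charFacts B χ
    rw [Set.indicator_of_mem hχB, h1, omega_extZero_eq N χ θ hθ _ hinv,
      omega_blockCoeff charFacts c θ] at h2
    by_contra hθc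
    rw [Set.indicator_of_notMem hθc] at h2
    exact zero_ne_one h2
  obtain ⟨θm, hθmc, hθmin, hθd⟩ := exists_height_zero p c ⟨θ, hθc⟩
  obtain ⟨e, he0, hdeg⟩ := degree_eq_mul N χ θ hθ
  set A : Set (N → ℂ) :=
    {ψ : N → ℂ | ∃ g : G, ψ = Cfsg.Agent.Lib.Helper75_Clifford.conjFun N hN (θ : N → ℂ) g} with hA
  have hdvd : A.ncard ∣ p ^ k := by
    rw [← hidx]
    exact ncard_orbit_dvd_index N θ
  obtain ⟨j, -, hj⟩ := (Nat.dvd_prime_pow hp).mp hdvd
  have hθpos := charDegree_pos θ
  have hν : (charDegree (χ : G → ℂ)).factorization p =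
      e.factorization p + j + (charDegree (θ : N → ℂ)).factorization p := by
    rw [hdeg, hj, Nat.factorization_mul (Nat.mul_ne_zero he0 (pow_pos hp.pos j).ne') hθpos.ne',
      Nat.factorization_mul he0 (pow_pos hp.pos j).ne', Finsupp.add_apply, Finsupp.add_apply,
      Nat.Prime.factorization_pow hp]
    simp
  have ha : (Nat.card G).factorization p = (Nat.card N).factorization p + k := by
    rw [← Subgroup.card_mul_index N, hidx,
      Nat.factorization_mul (Nat.card_pos).ne' (pow_pos hp.pos k).ne', Finsupp.add_apply,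
      Nat.Prime.factorization_pow hp]
    simp
  have h1 := factorization_charDegree_le p χ
  have h2 := factorization_charDegree_le p θm
  have h3 := hθmin θ hθc
  have hj0 : j = 0 := by omega
  have hmin : (charDegree (θ : N → ℂ)).factorization p =
      (charDegree (θm : N → ℂ)).factorization p := by omega
  refine ⟨θ, hθc, fun ξ hξ => by rw [hmin]; exact hθmin ξ hξ, ?_⟩
  intro g
  rw [hj0, pow_zero, Set.ncard_eq_one] at hj
  obtain ⟨a, ha'⟩ := hj
  have h4 : Cfsg.Agent.Lib.Helper75_Clifford.conjFun N hN (θ : N → ℂ) g ∈ A := ⟨g, rfl⟩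
  have h5 : (θ : N → ℂ) ∈ A := ⟨1, (conjFun_one N hN _).symm⟩
  rw [ha', Set.mem_singleton_iff] at h4 h5
  rw [h4, h5]

end PPowerIndex

section transport

open Cfsg.Agent.Lib.Helper78_Transport Cfsg.Agent.Lib.Helper78_TransportBlocks
  Cfsg.Agent.Lib.Helper77_NormalPair

variable {G : Type u} [Group G] [Fintype G] {M : Ideal AlgInt} {p : ℕ} [Fact p.Prime]

theorem charDegree_irrComp {A A' : Type u} [Group A] [Group A'] (φ : A' ≃* A)
    (ξ : IrrCharacter A) : charDegree (irrComp φ ξ : A' → ℂ) = charDegree (ξ : A → ℂ) := by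
  unfold charDegree
  rw [irrComp_apply, map_one]

/-- A block stable under `K ≥ H`, transported to `H` as a subgroup of `K`, is stable. -/
theorem stabilizes_mapBlock (H K : Subgroup G) [hH : H.Normal] [Fintype H] [Fintype K]
    [hn : (H.subgroupOf K).Normal] [Fintype (H.subgroupOf K)] (hHK : H ≤ K)
    (b : Set (IrrCharacter H)) (hst : ∀ k ∈ K, ∀ ξ ∈ b, cjIrr H k ξ ∈ b) (x : K) :
    StabilizesBlock (H.subgroupOf K) (mapBlock (Subgroup.subgroupOfEquivOfLe hHK) b) x := by
  rw [stabilizes_iff]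
  rintro θ' ⟨ξ, hξ, rfl⟩
  have h1 : cjIrr H (x : G) ξ ∈ b := hst x x.2 ξ hξ
  refine ⟨_, h1, ?_⟩
  apply Subtype.ext
  funext n'
  show (ξ : H → ℂ) ((MulAut.conjNormal (x : G)⁻¹ : MulAut H)
      (Subgroup.subgroupOfEquivOfLe hHK n')) =
    (ξ : H → ℂ) (Subgroup.subgroupOfEquivOfLe hHK
      ((MulAut.conjNormal x⁻¹ : MulAut (H.subgroupOf K)) n'))
  congr 1

/-- **S4723.** A block of a normal subgroup contains a character of height zero whose stabilizer has
index prime to `p` in the stabilizer of the block. -/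
theorem exists_height_zero_stab (hM : IsPModular p M) (H : Subgroup G) [hH : H.Normal]
    (b : Set (IrrCharacter H)) (hb : IsPBlock M b) (T : Subgroup G)
    (hT : ∀ g : G, g ∈ T ↔ ∀ θ ∈ b, ∀ θ' : IrrCharacter H,
      (∀ h h' : H, (h' : G) = g * h * g⁻¹ → (θ' : H → ℂ) h' = (θ : H → ℂ) h) → θ' ∈ b) :
    ∃ θ ∈ b, blockHeight p b (θ : H → ℂ) = 0 ∧ ∃ S : Subgroup G, S ≤ T ∧
      (∀ g : G, g ∈ S ↔ (g ∈ T ∧ ∀ h h' : H, (h' : G) = g * h * g⁻¹ →
        (θ : H → ℂ) h' = (θ : H → ℂ) h)) ∧ ¬ p ∣ S.relIndex T := by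
  classical
  have hp : p.Prime := Fact.out
  have hMp := isPrime_of_isPModular hM
  have : Fintype H := Fintype.ofFinite _
  have hT' : ∀ g : G, g ∈ T ↔ ∀ θ ∈ b, cjIrr H g θ ∈ b := by
    intro g
    rw [hT]
    constructor
    · intro h θ hθ
      apply h θ hθ
      intro k k' hk
      show cj H g (θ : H → ℂ) k' = (θ : H → ℂ) k
      unfold cj
      have : (MulAut.conjNormal g⁻¹ : MulAut H) k' = k := by
        apply Subtype.ext
        rw [MulAut.conjNormal_apply, hk]
        group
      rw [this]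
    · intro h θ hθ θ' hrel
      have : θ' = cjIrr H g θ := by
        apply Subtype.ext
        funext k'
        show (θ' : H → ℂ) k' = cj H g (θ : H → ℂ) k'
        unfold cj
        apply hrel
        rw [MulAut.conjNormal_apply]
        group
      rw [this]
      exact h θ hθ
  have hHT : H ≤ T := by
    intro y hy
    rw [hT']
    intro ξ hξ
    have : cjIrr H y ξ = ξ :=
      Subtype.ext (cj_eq_self_of_mem _ hy (isIrrCharacter_isClassFunction ξ.2))
    rw [this]
    exact hξ
  obtain ⟨S⟩ : Nonempty (Sylow p T) := inferInstance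
  set S₀ : Subgroup G := (S : Subgroup T).map T.subtype with hS₀
  have hS₀T : S₀ ≤ T := Subgroup.map_subtype_le _
  have hS₀p : IsPGroup p S₀ := S.isPGroup'.map _
  set K : Subgroup G := H ⊔ S₀ with hK
  have hHK : H ≤ K := le_sup_left
  have hKT : K ≤ T := sup_le hHT hS₀T
  have : Fintype K := Fintype.ofFinite _
  have hn : (H.subgroupOf K).Normal := hH.subgroupOf K
  have : Fintype (H.subgroupOf K) := Fintype.ofFinite _
  have hidx : ∃ k, (H.subgroupOf K).index = p ^ k := by
    have h1 : (H.subgroupOf K).index = H.relIndex S₀ := by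
      show H.relIndex K = _
      rw [hK, Subgroup.relIndex_sup_left]
    obtain ⟨n, hn'⟩ := IsPGroup.iff_card.mp hS₀p
    have h2 : H.relIndex S₀ ∣ p ^ n := by
      rw [← hn']
      exact Subgroup.relIndex_dvd_card H S₀
    obtain ⟨k, -, hk⟩ := (Nat.dvd_prime_pow hp).mp h2
    exact ⟨k, by rw [h1, hk]⟩
  obtain ⟨k, hk⟩ := hidx
  set φ := Subgroup.subgroupOfEquivOfLe hHK with hφ
  set b' := mapBlock φ b with hb'
  have hb'b : IsPBlock M b' := isPBlock_mapBlock φ hb
  have hst : ∀ x : K, StabilizesBlock (H.subgroupOf K) b' x :=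
    stabilizes_mapBlock H K hHK b (fun k hk ξ hξ => (hT' k).mp (hKT hk) ξ hξ)
  obtain ⟨θ', hθ'b, hθ'min, hθ'inv⟩ :=
    exists_invariant_height_zero (H.subgroupOf K) hM hk hb'b hst
  set θ : IrrCharacter H := irrComp φ.symm θ' with hθ
  have hθb : θ ∈ b := (mem_mapBlock_iff φ b θ').mp hθ'b
  have hdeg : charDegree (θ : H → ℂ) = charDegree (θ' : H.subgroupOf K → ℂ) :=
    charDegree_irrComp φ.symm θ'
  have hmin : ∀ ξ ∈ b, (charDegree (θ : H → ℂ)).factorization p ≤
      (charDegree (ξ : H → ℂ)).factorization p := by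
    intro ξ hξ
    have := hθ'min (irrComp φ ξ) (irrComp_mem_mapBlock φ hξ)
    rw [charDegree_irrComp] at this
    rw [hdeg]
    exact this
  refine ⟨θ, hθb, ?_, ?_⟩
  · unfold blockHeight
    rw [Nat.sub_eq_zero_iff_le]
    apply le_csInf
    · exact ⟨_, θ, hθb, rfl⟩
    · rintro _ ⟨ξ, hξ, rfl⟩
      exact hmin ξ hξ
  · obtain ⟨St, hStdef⟩ : ∃ St : Subgroup G,
        St = MulAction.stabilizer G (⟨(θ : H → ℂ)⟩ : Fn H) := ⟨_, rfl⟩
    have hSt : ∀ g : G, g ∈ St ↔ ∀ h h' : H, (h' : G) = g * h * g⁻¹ →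
        (θ : H → ℂ) h' = (θ : H → ℂ) h := by
      intro g
      constructor
      · intro hg h h' hrel
        have hg' : g⁻¹ ∈ St := inv_mem hg
        rw [hStdef, MulAction.mem_stabilizer_iff] at hg'
        have h1 : Cfsg.Agent.Lib.Helper75_Clifford.conjFun H hH (θ : H → ℂ) g = (θ : H → ℂ) := by
          have := congrArg Fn.f hg'
          rwa [smul_f, inv_inv] at this
        have h2 := congrFun h1 h
        rw [conjFun_apply] at h2
        rw [← h2]
        refine congrArg _ ?_
        apply Subtype.ext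
        exact hrel
      · intro hrel
        have : g⁻¹ ∈ St := by
          rw [hStdef, MulAction.mem_stabilizer_iff]
          ext1
          rw [smul_f, inv_inv]
          funext h
          rw [conjFun_apply]
          exact hrel h _ rfl
        have := inv_mem this
        rwa [inv_inv] at this
    refine ⟨T ⊓ St, inf_le_left, fun g => by rw [Subgroup.mem_inf, hSt], ?_⟩
    have hS₀St : S₀ ≤ St := by
      intro s hs
      rw [hSt]
      intro h h' hrel
      have hsK : s ∈ K := (le_sup_right : S₀ ≤ K) hs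
      have h1 := congrFun (hθ'inv ⟨s, hsK⟩) (φ.symm h)
      rw [conjFun_apply] at h1
      show (θ' : H.subgroupOf K → ℂ) (φ.symm h') = (θ' : H.subgroupOf K → ℂ) (φ.symm h)
      rw [← h1]
      refine congrArg _ ?_
      apply Subtype.ext
      apply Subtype.ext
      exact hrel
    have hle : S₀ ≤ T ⊓ St := le_inf hS₀T hS₀St
    have hdvd : (T ⊓ St).relIndex T ∣ S₀.relIndex T := Subgroup.relIndex_dvd_of_le_left T hle
    intro hp'
    have h3 : p ∣ S₀.relIndex T := dvd_trans hp' hdvd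
    have h4 : S₀.relIndex T = (S : Subgroup T).index := by
      show (S₀.subgroupOf T).index = _
      congr 1
      exact Subgroup.comap_map_eq_self_of_injective (Subgroup.subtype_injective T) _
    rw [h4] at h3
    exact S.not_dvd_index h3

end transport

end Cfsg.Agent.Lib.Helper77_InvHeightZero
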