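import Mathlib
import Cfsg.Prelude.Def_Blocks
import Cfsg.Prelude.Def_BlockLocal
import Cfsg.Agent.Lib.Helper77_StableCover
import Cfsg.Agent.Lib.Helper77_NormalPair
import Cfsg.Agent.Lib.Helper77_InvHeightZero
import Cfsg.Agent.Lib.Helper78_InducedTrans
import Cfsg.Agent.Lib.Helper75_IndChar

/-!
# The Fong–Reynolds correspondence (helper77)

`N` normal in `G`, `b` a block of `N`, `T ≥ N` the stabilizer of `b` in `G`.  Induction of characters
is a bijection from the irreducible characters of `T` over `b` to those of `G` over `b`, compatible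
with blocks.
-/

set_option autoImplicit false
set_option linter.unusedSectionVars false

namespace Cfsg.Agent.Lib.Helper77_FongReynolds

open Cfsg Cfsg.Agent.Lib.Helper16_Char Cfsg.Agent.Lib.Helper16_Clifford
  Cfsg.Agent.Lib.Helper16_Orbit Cfsg.Agent.Lib.Helper16_Cover
  Cfsg.Agent.Lib.Helper78_LocalRing Cfsg.Agent.Lib.Helper78_Osima
  Cfsg.Agent.Lib.Helper78_CentralChar Cfsg.Agent.Lib.Helper78_CharFacts
  Cfsg.Agent.Lib.Helper77_StableCover Cfsg.Agent.Lib.Helper77_BlockBasics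
  Cfsg.Agent.Lib.Helper77_NormalPair Cfsg.Agent.Lib.Helper77_InvHeightZero
  Cfsg.Agent.Lib.Helper78_Transport Cfsg.Agent.Lib.Helper78_TransportBlocks
  Cfsg.Agent.Lib.Helper75_Induced Cfsg.Agent.Lib.Helper75_IndChar
  Cfsg.Agent.Lib.Helper75_CharArith Cfsg.Agent.Lib.Helper3_CharOrtho
  Cfsg.Agent.Lib.Helper3_CharBridge
open scoped ComplexConjugate

universe u

section setup

variable {G : Type u} [Group G] [Fintype G] {N : Subgroup G} [hN : N.Normal] [Fintype N]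
  {M : Ideal AlgInt} {T : Subgroup G} [Fintype T]

/-- Restriction to `N` of a function on `T ≥ N`. -/
def resN (hNT : N ≤ T) (ψ : T → ℂ) : N → ℂ := fun n => ψ ⟨(n : G), hNT n.2⟩

theorem classInner_resN_eq (hNT : N ≤ T) [Fintype (N.subgroupOf T)] (ψ : T → ℂ)
    (θ : IrrCharacter N) :
    classInner (fun n' : N.subgroupOf T => ψ n')
      (irrComp (Subgroup.subgroupOfEquivOfLe hNT) θ : N.subgroupOf T → ℂ) =
      classInner (resN hNT ψ) (θ : N → ℂ) :=
  Cfsg.Agent.Lib.Helper75_Clifford.classInner_comp_equiv (Subgroup.subgroupOfEquivOfLe hNT)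
    (resN hNT ψ) (θ : N → ℂ)

variable (hNT : N ≤ T) {b : Set (IrrCharacter N)}

/-- All constituents of the restriction to `N` of a character of `T` over `b` lie in `b`. -/
theorem constituents_mem (hM : M.IsPrime) (hb : IsPBlock M b)
    (hT : ∀ g : G, g ∈ T ↔ ∀ θ ∈ b, cjIrr N g θ ∈ b) (ψ ψ' : IrrCharacter T)
    (hsb : SameBlock M (ψ : T → ℂ) (ψ' : T → ℂ))
    (h : ∃ θ ∈ b, classInner (resN hNT (ψ : T → ℂ)) (θ : N → ℂ) ≠ 0) (θ' : IrrCharacter N)
    (hθ' : classInner (resN hNT (ψ' : T → ℂ)) (θ' : N → ℂ) ≠ 0) : θ' ∈ b := by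
  classical
  have hn : (N.subgroupOf T).Normal := hN.subgroupOf T
  have : Fintype (N.subgroupOf T) := Fintype.ofFinite _
  set φ := Subgroup.subgroupOfEquivOfLe hNT with hφ
  have hb' : IsPBlock M (mapBlock φ b) := isPBlock_mapBlock φ hb
  have hst : ∀ x : T, StabilizesBlock (N.subgroupOf T) (mapBlock φ b) x :=
    stabilizes_mapBlock N T hNT b (fun k hk ξ hξ => (hT k).mp hk ξ hξ)
  have hcl := gClosure_eq_of_stable (N.subgroupOf T) hst
  obtain ⟨θ, hθ, hθψ⟩ := h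
  have h1 := mem_gClosure_of_sameBlock (N.subgroupOf T) hM hb' hsb
    (subset_gClosure _ _ (irrComp_mem_mapBlock φ hθ))
    (by rw [classInner_resN_eq]; exact hθψ) (ψ := irrComp φ θ')
    (by rw [classInner_resN_eq]; exact hθ')
  rw [hcl] at h1
  obtain ⟨θ'', hθ'', heq⟩ := h1
  rw [← irrComp_injective φ heq]
  exact hθ''

/-- A block of `T` covering `b` consists of characters over `b`. -/
theorem exists_under_of_cover (hM : M.IsPrime) (hb : IsPBlock M b)
    (hT : ∀ g : G, g ∈ T ↔ ∀ θ ∈ b, cjIrr N g θ ∈ b) (ψ ψ' : IrrCharacter T)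
    (hsb : SameBlock M (ψ : T → ℂ) (ψ' : T → ℂ))
    (h : ∃ θ ∈ b, classInner (resN hNT (ψ : T → ℂ)) (θ : N → ℂ) ≠ 0) :
    ∃ θ ∈ b, classInner (resN hNT (ψ' : T → ℂ)) (θ : N → ℂ) ≠ 0 := by
  classical
  have hn : (N.subgroupOf T).Normal := hN.subgroupOf T
  have : Fintype (N.subgroupOf T) := Fintype.ofFinite _
  set φ := Subgroup.subgroupOfEquivOfLe hNT with hφ
  obtain ⟨θ'', hθ''⟩ := exists_under (N.subgroupOf T) ψ'
  have heq : irrComp φ (irrComp φ.symm θ'') = θ'' := irrComp_irrComp_symm φ θ''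
  rw [← heq, classInner_resN_eq] at hθ''
  exact ⟨_, constituents_mem hNT hM hb hT ψ ψ' hsb h _ hθ'', hθ''⟩

end setup

section induction

variable {G : Type u} [Group G] [Fintype G] {N : Subgroup G} [hN : N.Normal] [Fintype N]
  {M : Ideal AlgInt} {T : Subgroup G} [Fintype T] (hNT : N ≤ T) {b : Set (IrrCharacter N)}

/-- The induced function on `N`. -/
theorem indFun_coe (ψ : T → ℂ) (n : N) :
    indFun T ψ (n : G) = (Nat.card T : ℂ)⁻¹ * ∑ x : G, cj N x (resN hNT ψ) n := by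
  rw [indFun_apply]
  congr 1
  refine Finset.sum_congr rfl fun x _ => ?_
  have hmem : x⁻¹ * (n : G) * x ∈ N := by
    have := hN.conj_mem n n.2 x⁻¹
    rwa [inv_inv] at this
  rw [extendByZero_of_mem T ψ (hNT hmem)]
  unfold cj resN
  congr 1
  apply Subtype.ext
  rw [MulAut.conjNormal_apply, inv_inv]

theorem cj_eq_conjFun (x : G) (f : N → ℂ) :
    cj N x f = Cfsg.Agent.Lib.Helper75_Clifford.conjFun N hN f x⁻¹ := by
  funext n
  unfold cj
  rw [Cfsg.Agent.Lib.Helper75_Clifford.conjFun_apply]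
  congr 1

theorem classInner_cj (x : G) (f g : N → ℂ) :
    classInner (cj N x f) g = classInner f (cj N x⁻¹ g) := by
  have h := Cfsg.Agent.Lib.Helper75_Clifford.classInner_conjFun N hN f (cj N x⁻¹ g) x⁻¹
  rw [← cj_eq_conjFun, ← cj_eq_conjFun, cj_cj_inv] at h
  exact h

theorem cj_resN_of_mem {ψ : T → ℂ} (hψ : IsClassFunction T ψ) {x : G} (hx : x ∈ T) :
    cj N x (resN hNT ψ) = resN hNT ψ := by
  funext n
  unfold cj resN
  have h1 := hψ ⟨(n : G), hNT n.2⟩ (⟨x, hx⟩ : T)⁻¹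
  rw [← h1]
  congr 1

/-- The multiplicity in `(ψ^G)_N` of a member of `b` is its multiplicity in `ψ_N`. -/
theorem classInner_indFun_res (hM : M.IsPrime) (hb : IsPBlock M b)
    (hT : ∀ g : G, g ∈ T ↔ ∀ θ ∈ b, cjIrr N g θ ∈ b) (ψ : IrrCharacter T)
    (h : ∃ θ ∈ b, classInner (resN hNT (ψ : T → ℂ)) (θ : N → ℂ) ≠ 0) (θ : IrrCharacter N)
    (hθ : θ ∈ b) :
    classInner (fun n : N => indFun T (ψ : T → ℂ) n) (θ : N → ℂ) =
      classInner (resN hNT (ψ : T → ℂ)) (θ : N → ℂ) := by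
  classical
  have hT0 : (Nat.card T : ℂ) ≠ 0 := by exact_mod_cast (Nat.card_pos (α := T)).ne'
  have h1 : (fun n : N => indFun T (ψ : T → ℂ) n) =
      (Nat.card T : ℂ)⁻¹ • ∑ x : G, cj N x (resN hNT (ψ : T → ℂ)) := by
    funext n
    rw [indFun_coe hNT, Pi.smul_apply, Finset.sum_apply, smul_eq_mul]
  rw [h1, classInner_smul_left, classInner_sum_left]
  have h2 : ∀ x : G, classInner (cj N x (resN hNT (ψ : T → ℂ))) (θ : N → ℂ) =
      if x ∈ T then classInner (resN hNT (ψ : T → ℂ)) (θ : N → ℂ) else 0 := by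
    intro x
    by_cases hx : x ∈ T
    · rw [if_pos hx, cj_resN_of_mem hNT (isIrrCharacter_isClassFunction ψ.2) hx]
    · rw [if_neg hx, classInner_cj]
      by_contra hne
      have hmem : cjIrr N x⁻¹ θ ∈ b :=
        constituents_mem hNT hM hb hT ψ ψ (sameBlock_refl hM _) h (cjIrr N x⁻¹ θ) hne
      have hx' : x⁻¹ ∈ T := (hT x⁻¹).mpr (cjIrr_mem_of_one N hM hb hθ hmem)
      exact hx (by simpa using T.inv_mem hx')
  rw [Finset.sum_congr rfl fun x _ => h2 x, ← Finset.sum_filter, Finset.sum_const, nsmul_eq_mul]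
  have hc : ((Finset.univ.filter (fun x : G => x ∈ T)).card : ℂ) = (Nat.card T : ℂ) := by
    rw [Nat.card_eq_fintype_card, Fintype.card_subtype]
  rw [hc]
  field_simp

theorem isCharacter_resN {ψ : T → ℂ} (hψ : IsCharacter T ψ) : IsCharacter N (resN hNT ψ) :=
  isCharacter_comp (Subgroup.inclusion hNT) hψ

theorem resN_sum {ι : Type*} (s : Finset ι) (f : ι → T → ℂ) :
    resN hNT (∑ i ∈ s, f i) = ∑ i ∈ s, resN hNT (f i) := by
  funext n
  unfold resN
  rw [Finset.sum_apply, Finset.sum_apply]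

theorem resN_smul (c : ℂ) (f : T → ℂ) : resN hNT (c • f) = c • resN hNT f := rfl

/-- `ψ^G` is irreducible for `ψ` over `b`, and `ψ` is the only constituent of `(ψ^G)_T` over `b`. -/
theorem ind_irreducible (hM : M.IsPrime) (hb : IsPBlock M b)
    (hT : ∀ g : G, g ∈ T ↔ ∀ θ ∈ b, cjIrr N g θ ∈ b) (ψ : IrrCharacter T)
    (h : ∃ θ ∈ b, classInner (resN hNT (ψ : T → ℂ)) (θ : N → ℂ) ≠ 0) :
    IsIrrCharacter G (indFun T (ψ : T → ℂ)) ∧ ∀ ψ' : IrrCharacter T, ψ' ≠ ψ →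
      classInner (fun t : T => indFun T (ψ : T → ℂ) t) (ψ' : T → ℂ) ≠ 0 →
      ∀ θ ∈ b, classInner (resN hNT (ψ' : T → ℂ)) (θ : N → ℂ) = 0 := by
  classical
  set Φ : G → ℂ := indFun T (ψ : T → ℂ) with hΦdef
  have hΦ : IsCharacter G Φ := isCharacter_indFun T (isCharacter_of_isIrrCharacter ψ.2)
  have hΦT : IsCharacter T (fun t : T => Φ t) := isCharacter_restrict T hΦ
  obtain ⟨m, hm, hsum⟩ := exists_multiplicities hΦT
  have hc : ∀ (ψ' : IrrCharacter T) (θ : IrrCharacter N), ∃ c : ℕ,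
      classInner (resN hNT (ψ' : T → ℂ)) (θ : N → ℂ) = c := fun ψ' θ =>
    classInner_isCharacter_nat (isCharacter_resN hNT (isCharacter_of_isIrrCharacter ψ'.2))
      (isCharacter_of_isIrrCharacter θ.2)
  choose c hc using hc
  -- the multiplicities in `Φ_N`
  have hres : ∀ θ : IrrCharacter N, classInner (fun n : N => Φ n) (θ : N → ℂ) =
      ((∑ ψ' : IrrCharacter T, m ψ' * c ψ' θ : ℕ) : ℂ) := by
    intro θ
    have e1 : (fun n : N => Φ n) = resN hNT (fun t : T => Φ t) := rfl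
    rw [e1, hsum, resN_sum, classInner_sum_left, Nat.cast_sum]
    refine Finset.sum_congr rfl fun ψ' _ => ?_
    rw [resN_smul, classInner_smul_left, hc, Nat.cast_mul]
  have hkey : ∀ θ ∈ b, c ψ θ = ∑ ψ' : IrrCharacter T, m ψ' * c ψ' θ := by
    intro θ hθ
    have := classInner_indFun_res hNT hM hb hT ψ h θ hθ
    rw [hres θ, hc] at this
    exact_mod_cast this.symm
  -- the norm of `Φ`
  have hnorm : classInner Φ Φ = (m ψ : ℂ) := by
    rw [hΦdef, frobenius_reciprocity T (ψ : T → ℂ) Φ (isClassFunction_of_isCharacter hΦ),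
      ← classInner_conj_symm, hm ψ, Complex.conj_natCast]
  have hm0 : m ψ ≠ 0 := by
    intro h0
    have h1 : Φ 1 ≠ 0 := by
      rw [hΦdef, indFun_one]
      have hT0 : (Nat.card T : ℂ) ≠ 0 := by exact_mod_cast (Nat.card_pos (α := T)).ne'
      have hG0 : (Nat.card G : ℂ) ≠ 0 := by exact_mod_cast (Nat.card_pos (α := G)).ne'
      exact mul_ne_zero (mul_ne_zero (inv_ne_zero hT0) hG0) (isIrrCharacter_one_ne_zero ψ.2)
    apply classInner_self_ne_zero h1
    rw [hnorm, h0, Nat.cast_zero]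
  obtain ⟨θ₀, hθ₀, hθ₀ψ⟩ := h
  have hc0 : c ψ θ₀ ≠ 0 := by
    intro h0
    apply hθ₀ψ
    rw [hc, h0, Nat.cast_zero]
  have hsplit : ∀ θ : IrrCharacter N, ∑ ψ' : IrrCharacter T, m ψ' * c ψ' θ =
      m ψ * c ψ θ + ∑ ψ' ∈ Finset.univ.erase ψ, m ψ' * c ψ' θ := fun θ =>
    (Finset.add_sum_erase Finset.univ (fun ψ' => m ψ' * c ψ' θ) (Finset.mem_univ ψ)).symm
  have hm1 : m ψ = 1 := by
    have h1 := hkey θ₀ hθ₀
    rw [hsplit θ₀] at h1
    have h2 : m ψ * c ψ θ₀ ≤ 1 * c ψ θ₀ := by omega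
    have h3 := Nat.le_of_mul_le_mul_right h2 (Nat.pos_of_ne_zero hc0)
    omega
  refine ⟨isIrrCharacter_of_classInner_self hΦ (by rw [hnorm, hm1, Nat.cast_one]), ?_⟩
  intro ψ' hne hψ' θ hθ
  have h1 := hkey θ hθ
  rw [hsplit θ, hm1, one_mul] at h1
  have h2 : ∑ ψ'' ∈ Finset.univ.erase ψ, m ψ'' * c ψ'' θ = 0 := by omega
  have h3 := (Finset.sum_eq_zero_iff.mp h2) ψ' (Finset.mem_erase.mpr ⟨hne, Finset.mem_univ _⟩)
  have hm' : m ψ' ≠ 0 := by
    intro h0
    apply hψ'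
    rw [hm ψ', h0, Nat.cast_zero]
  rcases Nat.mul_eq_zero.mp h3 with h4 | h4
  · exact absurd h4 hm'
  · rw [hc, h4, Nat.cast_zero]

/-- Induction is injective on the characters of `T` over `b`. -/
theorem ind_injective (hM : M.IsPrime) (hb : IsPBlock M b)
    (hT : ∀ g : G, g ∈ T ↔ ∀ θ ∈ b, cjIrr N g θ ∈ b) (ψ₁ ψ₂ : IrrCharacter T)
    (h₁ : ∃ θ ∈ b, classInner (resN hNT (ψ₁ : T → ℂ)) (θ : N → ℂ) ≠ 0)
    (h₂ : ∃ θ ∈ b, classInner (resN hNT (ψ₂ : T → ℂ)) (θ : N → ℂ) ≠ 0)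
    (heq : indFun T (ψ₁ : T → ℂ) = indFun T (ψ₂ : T → ℂ)) : ψ₁ = ψ₂ := by
  classical
  by_contra hne
  obtain ⟨hirr, hother⟩ := ind_irreducible hNT hM hb hT ψ₁ h₁
  have h1 : classInner (fun t : T => indFun T (ψ₁ : T → ℂ) t) (ψ₂ : T → ℂ) ≠ 0 := by
    rw [← classInner_conj_symm, ← frobenius_reciprocity T (ψ₂ : T → ℂ) _
      (isClassFunction_of_isIrrCharacter hirr), ← heq, classInner_self_of_isIrrCharacter hirr,
      map_one]
    exact one_ne_zero
  obtain ⟨θ, hθ, hθψ⟩ := h₂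
  exact hθψ (hother ψ₂ (fun h => hne h.symm) h1 θ hθ)

/-- Every irreducible character of `G` over `b` is induced from a character of `T` over `b`. -/
theorem ind_surjective (hM : M.IsPrime) (hb : IsPBlock M b)
    (hT : ∀ g : G, g ∈ T ↔ ∀ θ ∈ b, cjIrr N g θ ∈ b) (χ : IrrCharacter G) (θ : IrrCharacter N)
    (hθ : θ ∈ b) (hχθ : classInner (fun n : N => (χ : G → ℂ) n) (θ : N → ℂ) ≠ 0) :
    ∃ ψ : IrrCharacter T, classInner (resN hNT (ψ : T → ℂ)) (θ : N → ℂ) ≠ 0 ∧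
      indFun T (ψ : T → ℂ) = (χ : G → ℂ) := by
  classical
  have hχT : IsCharacter T (fun t : T => (χ : G → ℂ) t) :=
    isCharacter_restrict T (isCharacter_of_isIrrCharacter χ.2)
  obtain ⟨m, hm, hsum⟩ := exists_multiplicities hχT
  have e1 : (fun n : N => (χ : G → ℂ) n) = resN hNT (fun t : T => (χ : G → ℂ) t) := rfl
  rw [e1, hsum, resN_sum, classInner_sum_left] at hχθ
  obtain ⟨ψ, -, hψ⟩ := Finset.exists_ne_zero_of_sum_ne_zero hχθ
  rw [resN_smul, classInner_smul_left] at hψ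
  have hmψ : (m ψ : ℂ) ≠ 0 := left_ne_zero_of_mul hψ
  have hψθ : classInner (resN hNT (ψ : T → ℂ)) (θ : N → ℂ) ≠ 0 := right_ne_zero_of_mul hψ
  refine ⟨ψ, hψθ, ?_⟩
  obtain ⟨hirr, -⟩ := ind_irreducible hNT hM hb hT ψ ⟨θ, hθ, hψθ⟩
  by_contra hne
  have h1 := classInner_of_isIrrCharacter_of_ne hirr χ.2 hne
  rw [frobenius_reciprocity T (ψ : T → ℂ) _ (isClassFunction_of_isIrrCharacter χ.2),
    ← classInner_conj_symm, hm ψ, Complex.conj_natCast] at h1
  exact hmψ h1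

end induction

end Cfsg.Agent.Lib.Helper77_FongReynolds
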