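import Mathlib
import Cfsg.Prelude.Def_Blocks
import Cfsg.Prelude.Def_BlockLocal
import Cfsg.Agent.Lib.Helper77_FongReynolds
import Cfsg.Agent.Lib.Helper78_Deficiency
import Cfsg.Agent.Lib.Helper57_IndBlock
import Cfsg.Agent.Lib.Helper78_Defect
import Cfsg.Agent.Lib.Helper77_CentralDefect

set_option autoImplicit false
set_option linter.unusedSectionVars false

namespace Cfsg.Agent.Lib.Helper77_FongReynolds2

open Cfsg Cfsg.Agent.Lib.Helper16_Char Cfsg.Agent.Lib.Helper16_Clifford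
  Cfsg.Agent.Lib.Helper16_Orbit Cfsg.Agent.Lib.Helper16_Cover
  Cfsg.Agent.Lib.Helper78_LocalRing Cfsg.Agent.Lib.Helper78_Osima
  Cfsg.Agent.Lib.Helper78_CentralChar Cfsg.Agent.Lib.Helper78_CharFacts
  Cfsg.Agent.Lib.Helper77_StableCover Cfsg.Agent.Lib.Helper77_BlockBasics
  Cfsg.Agent.Lib.Helper77_NormalPair Cfsg.Agent.Lib.Helper77_InvHeightZero
  Cfsg.Agent.Lib.Helper78_Transport Cfsg.Agent.Lib.Helper78_TransportBlocks
  Cfsg.Agent.Lib.Helper75_Induced Cfsg.Agent.Lib.Helper75_IndChar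
  Cfsg.Agent.Lib.Helper75_CharArith Cfsg.Agent.Lib.Helper3_CharOrtho
  Cfsg.Agent.Lib.Helper3_CharBridge Cfsg.Agent.Lib.Helper77_FongReynolds
  Cfsg.Agent.Lib.Helper78_InducedTrans
open scoped ComplexConjugate

universe u

section general

variable {G : Type u} [Group G] [Fintype G] {M : Ideal AlgInt} (T : Subgroup G) [Fintype T]

/-- The central character of an induced function. -/
theorem omega_indFun (ψ : T → ℂ) (f : G → ℂ) (hf : IsClassFunction G f) :
    omega (indFun T ψ) f = omega ψ (fun t : T => f t) := by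
  classical
  have hT0 : (Nat.card T : ℂ) ≠ 0 := by exact_mod_cast (Nat.card_pos (α := T)).ne'
  have hG0 : (Nat.card G : ℂ) ≠ 0 := by exact_mod_cast (Nat.card_pos (α := G)).ne'
  have hcf : IsClassFunction G (fun g => conj (f g)) := by
    intro g h
    show conj (f (h * g * h⁻¹)) = conj (f g)
    rw [hf g h]
  have h1 := frobenius_reciprocity T ψ (fun g => conj (f g)) hcf
  unfold classInner at h1
  simp only [Complex.conj_conj] at h1
  unfold omega
  rw [indFun_one]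
  have h2 : ∑ g : G, f g * indFun T ψ g =
      (Nat.card T : ℂ)⁻¹ * (Nat.card G : ℂ) * ∑ t : T, f t * ψ t := by
    have e1 : ∑ g : G, f g * indFun T ψ g = ∑ g : G, indFun T ψ g * f g :=
      Finset.sum_congr rfl fun g _ => mul_comm _ _
    have e2 : ∑ t : T, f t * ψ t = ∑ t : T, ψ t * f t :=
      Finset.sum_congr rfl fun g _ => mul_comm _ _
    rw [e1, e2]
    have : ∑ g : G, indFun T ψ g * f g =
        (Nat.card G : ℂ) * ((Nat.card G : ℂ)⁻¹ * ∑ g : G, indFun T ψ g * f g) := by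
      field_simp
    rw [this, h1]
    ring
  rw [h2]
  exact mul_div_mul_left _ _ (mul_ne_zero (inv_ne_zero hT0) hG0)

/-- Induction preserves "same block". -/
theorem sameBlock_indFun (hM : M.IsPrime) {ψ₁ ψ₂ : T → ℂ} (h₁ : IsClassFunction T ψ₁)
    (h₂ : IsClassFunction T ψ₂) (hsb : SameBlock M ψ₁ ψ₂) :
    SameBlock M (indFun T ψ₁) (indFun T ψ₂) := by
  intro g
  rw [← omega_classIndicator (isClassFunction_indFun T ψ₁) g,
    ← omega_classIndicator (isClassFunction_indFun T ψ₂) g,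
    omega_indFun T ψ₁ _ (classIndicator_isClassFunction g),
    omega_indFun T ψ₂ _ (classIndicator_isClassFunction g)]
  refine memLocalIdeal_omega_sub hM h₁ h₂ hsb ?_ (fun t => memLocalRing_classIndicator hM g _)
  intro t k
  show classIndicator g ((k * t * k⁻¹ : T) : G) = classIndicator g t
  push_cast
  exact classIndicator_isClassFunction g _ _

theorem indFun_conj (ψ : T → ℂ) :
    indFun T (fun t => conj (ψ t)) = fun g => conj (indFun T ψ g) := by
  funext g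
  rw [indFun_apply, indFun_apply, map_mul, map_inv₀, Complex.conj_natCast, map_sum]
  congr 1
  refine Finset.sum_congr rfl fun x _ => ?_
  by_cases hx : x⁻¹ * g * x ∈ T
  · rw [extendByZero_of_mem T _ hx, extendByZero_of_mem T _ hx]
  · rw [extendByZero_of_not_mem T _ hx, extendByZero_of_not_mem T _ hx, map_zero]

/-- Summing a right-`T`-invariant function over `G`. -/
theorem sum_eq_card_mul_sum_out [Fintype (G ⧸ T)] (F : G → ℂ)
    (hF : ∀ (x : G) (t : T), F (x * t) = F x) :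
    ∑ g : G, F g = (Nat.card T : ℂ) * ∑ q : G ⧸ T, F q.out := by
  classical
  rw [← Finset.sum_fiberwise Finset.univ (fun g : G => (QuotientGroup.mk g : G ⧸ T)) F,
    Finset.mul_sum]
  refine Finset.sum_congr rfl fun q _ => ?_
  have h1 : ∀ g ∈ Finset.univ.filter (fun g : G => (QuotientGroup.mk g : G ⧸ T) = q),
      F g = F q.out := by
    intro g hg
    have hg' := (Finset.mem_filter.1 hg).2
    have h2 : (QuotientGroup.mk q.out : G ⧸ T) = QuotientGroup.mk g := by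
      rw [hg']; exact QuotientGroup.out_eq' q
    rw [QuotientGroup.eq] at h2
    have := hF q.out ⟨_, h2⟩
    rw [← this]
    congr 1
    simp
  rw [Finset.sum_congr rfl h1, Finset.sum_const, nsmul_eq_mul]
  congr 1
  have hcard : (Finset.univ.filter (fun g : G => (QuotientGroup.mk g : G ⧸ T) = q)).card =
      Nat.card T := by
    rw [Nat.card_eq_fintype_card, ← Finset.card_univ (α := T)]
    symm
    refine Finset.card_bij (fun k _ => q.out * (k : G)) ?_ ?_ ?_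
    · intro k _
      simp only [Finset.mem_filter, Finset.mem_univ, true_and]
      rw [← QuotientGroup.out_eq' q, QuotientGroup.eq]
      simp
    · intro a _ b _ hab
      exact Subtype.ext (mul_left_cancel hab)
    · intro g hg
      have hg' := (Finset.mem_filter.1 hg).2
      have h2 : (QuotientGroup.mk q.out : G ⧸ T) = QuotientGroup.mk g := by
        rw [hg']; exact QuotientGroup.out_eq' q
      rw [QuotientGroup.eq] at h2
      exact ⟨⟨_, h2⟩, Finset.mem_univ _, by simp⟩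
  rw [hcard]

/-- The function induced from a class function of `T` with local-integer values has
local-integer values. -/
theorem memLocalRing_indFun (hM : M.IsPrime) {a : T → ℂ} (ha : IsClassFunction T a)
    (haR : ∀ t, MemLocalRing M (a t)) (g : G) : MemLocalRing M (indFun T a g) := by
  classical
  have : Fintype (G ⧸ T) := Fintype.ofFinite _
  have hT0 : (Nat.card T : ℂ) ≠ 0 := by exact_mod_cast (Nat.card_pos (α := T)).ne'
  rw [indFun_apply, sum_eq_card_mul_sum_out T (fun x => extendByZero T a (x⁻¹ * g * x)),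
    ← mul_assoc, inv_mul_cancel₀ hT0, one_mul]
  · refine memLocalRing_sum hM _ _ fun q _ => ?_
    by_cases hq : q.out⁻¹ * g * q.out ∈ T
    · rw [extendByZero_of_mem T _ hq]
      exact haR _
    · rw [extendByZero_of_not_mem T _ hq]
      exact memLocalRing_zero hM
  · intro x t
    have e : (x * (t : G))⁻¹ * g * (x * t) = (t : G)⁻¹ * (x⁻¹ * g * x) * t := by group
    rw [e]
    by_cases hx : x⁻¹ * g * x ∈ T
    · have hx' : (t : G)⁻¹ * (x⁻¹ * g * x) * t ∈ T :=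
        T.mul_mem (T.mul_mem (T.inv_mem t.2) hx) t.2
      rw [extendByZero_of_mem T _ hx, extendByZero_of_mem T _ hx']
      have := ha ⟨_, hx⟩ t⁻¹
      rw [← this]
      congr 1
      apply Subtype.ext
      simp
    · have hx' : (t : G)⁻¹ * (x⁻¹ * g * x) * t ∉ T := by
        intro h
        apply hx
        have := T.mul_mem (T.mul_mem t.2 h) (T.inv_mem t.2)
        convert this using 1
        group
      rw [extendByZero_of_not_mem T _ hx, extendByZero_of_not_mem T _ hx']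

end general

section indset

variable {G : Type u} [Group G] [Fintype G] {M : Ideal AlgInt} (T : Subgroup G) [Fintype T]

/-- The irreducible characters of `G` induced from members of `B'`. -/
def indSet (B' : Set (IrrCharacter T)) : Set (IrrCharacter G) :=
  {χ | ∃ ψ ∈ B', (χ : G → ℂ) = indFun T (ψ : T → ℂ)}

/-- The idempotent of the set of induced characters is the induced idempotent. -/
theorem blockCoeff_indSet (B' : Set (IrrCharacter T))
    (hirr : ∀ ψ ∈ B', IsIrrCharacter G (indFun T (ψ : T → ℂ)))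
    (hinj : ∀ ψ₁ ∈ B', ∀ ψ₂ ∈ B', indFun T (ψ₁ : T → ℂ) = indFun T (ψ₂ : T → ℂ) → ψ₁ = ψ₂) :
    blockCoeff (indSet T B') = indFun T (blockCoeff B') := by
  classical
  have hfinT : Finite (IrrCharacter T) := (charFacts (G := T)).finite
  have hfin : B'.Finite := Set.toFinite B'
  have hT0 : (Nat.card T : ℂ) ≠ 0 := by exact_mod_cast (Nat.card_pos (α := T)).ne'
  have hG0 : (Nat.card G : ℂ) ≠ 0 := by exact_mod_cast (Nat.card_pos (α := G)).ne'
  let ι : B' → IrrCharacter G := fun ψ => ⟨indFun T ((ψ : IrrCharacter T) : T → ℂ), hirr ψ ψ.2⟩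
  have hι : Function.Injective ι := by
    intro ψ₁ ψ₂ h
    apply Subtype.ext
    exact hinj ψ₁ ψ₁.2 ψ₂ ψ₂.2 (congrArg Subtype.val h)
  have hS : indSet T B' = Set.range ι := by
    ext χ
    constructor
    · rintro ⟨ψ, hψ, h⟩
      exact ⟨⟨ψ, hψ⟩, Subtype.ext h.symm⟩
    · rintro ⟨ψ, rfl⟩
      exact ⟨ψ, ψ.2, rfl⟩
  -- the right side
  have hR : blockCoeff B' = (Nat.card T : ℂ)⁻¹ • ∑ ψ ∈ hfin.toFinset,
      ((ψ : T → ℂ) 1) • (fun t => conj ((ψ : T → ℂ) t)) := by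
    funext t
    unfold blockCoeff
    rw [finsum_mem_eq_finite_toFinset_sum _ hfin, Pi.smul_apply, Finset.sum_apply, smul_eq_mul]
    rfl
  funext g
  rw [hR, indFun_smul, indFun_sum, Pi.smul_apply, Finset.sum_apply, smul_eq_mul]
  unfold blockCoeff
  rw [hS, finsum_mem_range hι]
  have e1 : ∑ᶠ j : B', ((ι j : G → ℂ) 1) * conj ((ι j : G → ℂ) g) =
      ∑ᶠ ψ ∈ B', (indFun T (ψ : T → ℂ) 1) * conj (indFun T (ψ : T → ℂ) g) :=
    finsum_set_coe_eq_finsum_mem (s := B')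
      (f := fun ψ : IrrCharacter T => (indFun T (ψ : T → ℂ) 1) * conj (indFun T (ψ : T → ℂ) g))
  rw [e1, finsum_mem_eq_finite_toFinset_sum _ hfin, Finset.mul_sum, Finset.mul_sum]
  refine Finset.sum_congr rfl fun ψ _ => ?_
  rw [indFun_smul, indFun_conj, Pi.smul_apply, smul_eq_mul, indFun_one]
  field_simp

end indset

section fr

variable {G : Type u} [Group G] [Fintype G] {N : Subgroup G} [hN : N.Normal] [Fintype N]
  {M : Ideal AlgInt} {T : Subgroup G} [Fintype T] (hNT : N ≤ T) {b : Set (IrrCharacter N)}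

/-- Every member of a block of `T` covering `b` lies over `b`. -/
theorem over_of_mem (hM : M.IsPrime) (hb : IsPBlock M b)
    (hT : ∀ g : G, g ∈ T ↔ ∀ θ ∈ b, cjIrr N g θ ∈ b) {B' : Set (IrrCharacter T)}
    (hB' : IsPBlock M B')
    (hcov : ∃ ψ ∈ B', ∃ θ ∈ b, classInner (resN hNT (ψ : T → ℂ)) (θ : N → ℂ) ≠ 0)
    {ψ' : IrrCharacter T} (hψ' : ψ' ∈ B') :
    ∃ θ ∈ b, classInner (resN hNT (ψ' : T → ℂ)) (θ : N → ℂ) ≠ 0 := by
  obtain ⟨ψ, hψ, h⟩ := hcov
  exact exists_under_of_cover hNT hM hb hT ψ ψ' (isPBlock_sameBlock hM hB' hψ hψ') h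

/-- **Fong–Reynolds**: the block of `G` induced by a block of `T` covering `b`. -/
theorem indSet_spec (hM : M.IsPrime) (hb : IsPBlock M b)
    (hT : ∀ g : G, g ∈ T ↔ ∀ θ ∈ b, cjIrr N g θ ∈ b) {B' : Set (IrrCharacter T)}
    (hB' : IsPBlock M B')
    (hcov : ∃ ψ ∈ B', ∃ θ ∈ b, classInner (resN hNT (ψ : T → ℂ)) (θ : N → ℂ) ≠ 0) :
    (∀ ψ ∈ B', IsIrrCharacter G (indFun T (ψ : T → ℂ))) ∧ IsInducedBlock M T B' (indSet T B') := by
  classical
  have hover := fun ψ' (hψ' : ψ' ∈ B') => over_of_mem hNT hM hb hT hB' hcov hψ'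
  have hirr : ∀ ψ ∈ B', IsIrrCharacter G (indFun T (ψ : T → ℂ)) := fun ψ hψ =>
    (ind_irreducible hNT hM hb hT ψ (hover ψ hψ)).1
  have hinj : ∀ ψ₁ ∈ B', ∀ ψ₂ ∈ B', indFun T (ψ₁ : T → ℂ) = indFun T (ψ₂ : T → ℂ) → ψ₁ = ψ₂ :=
    fun ψ₁ h₁ ψ₂ h₂ h => ind_injective hNT hM hb hT ψ₁ ψ₂ (hover ψ₁ h₁) (hover ψ₂ h₂) h
  refine ⟨hirr, ?_⟩
  have hcoef : ∀ g : G, MemLocalRing M (blockCoeff (indSet T B') g) := by
    intro g
    rw [blockCoeff_indSet T B' hirr hinj]
    exact memLocalRing_indFun T hM (blockCoeff_isClassFunction B') (osima_block' hM hB') g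
  obtain ⟨ψ₀, hψ₀⟩ := isPBlock_nonempty hM hB'
  set χ₀ : IrrCharacter G := ⟨indFun T (ψ₀ : T → ℂ), hirr ψ₀ hψ₀⟩ with hχ₀
  have hχ₀S : χ₀ ∈ indSet T B' := ⟨ψ₀, hψ₀, rfl⟩
  have hS : indSet T B' = blockOf M (χ₀ : G → ℂ) := by
    ext χ
    constructor
    · rintro ⟨ψ, hψ, h⟩
      show SameBlock M (χ₀ : G → ℂ) (χ : G → ℂ)
      rw [h]
      exact sameBlock_indFun T hM (isIrrCharacter_isClassFunction ψ₀.2)
        (isIrrCharacter_isClassFunction ψ.2) (isPBlock_sameBlock hM hB' hψ₀ hψ)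
    · intro h
      exact mem_of_sameBlock_of_memLocalRing_blockCoeff' hM _ hcoef hχ₀S h
  have hSB : IsPBlock M (indSet T B') := ⟨χ₀, hS⟩
  rw [isInducedBlock_iff_omega hM T hB' hSB]
  rintro ξ hξ χ ⟨ψ, hψ, h⟩ f hf hfR
  rw [h, omega_indFun T _ f hf]
  refine memLocalIdeal_omega_sub hM (isIrrCharacter_isClassFunction ξ.2)
    (isIrrCharacter_isClassFunction ψ.2) (isPBlock_sameBlock hM hB' hξ hψ) ?_ (fun t => hfR _)
  intro t k
  show f ((k * t * k⁻¹ : T) : G) = f t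
  push_cast
  exact hf _ _

end fr

section statements

variable {G : Type u} [Group G] [Fintype G] {N : Subgroup G} [hN : N.Normal] [Fintype N]
  {M : Ideal AlgInt} {T : Subgroup G} [Fintype T] (hNT : N ≤ T) {b : Set (IrrCharacter N)}

/-- The stabilizer hypothesis in the form used by the statements. -/
theorem stab_iff
    (hT : ∀ g : G, g ∈ T ↔ ∀ θ ∈ b, ∀ θ' : IrrCharacter N, (∀ n : N, (θ' : N → ℂ) n =
      (θ : N → ℂ) ⟨g * n * g⁻¹, hN.conj_mem n n.2 g⟩) → θ' ∈ b) :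
    ∀ g : G, g ∈ T ↔ ∀ θ ∈ b, cjIrr N g θ ∈ b := by
  intro g
  have key : ∀ (θ : IrrCharacter N) (n : N), (cjIrr N g θ : N → ℂ) n =
      (θ : N → ℂ) ⟨g⁻¹ * n * g⁻¹⁻¹, hN.conj_mem n n.2 g⁻¹⟩ := by
    intro θ n
    show cj N g (θ : N → ℂ) n = _
    unfold cj
    congr 1
  rw [← T.inv_mem_iff, hT g⁻¹]
  constructor
  · intro h θ hθ
    exact h θ hθ (cjIrr N g θ) (key θ)
  · intro h θ hθ θ' hθ'
    have : θ' = cjIrr N g θ := by
      apply Subtype.ext
      funext n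
      rw [hθ' n, key θ n]
    rw [this]
    exact h θ hθ

/-- Part (i) of the Fong–Reynolds correspondence. -/
theorem fr_part1 (hM : M.IsPrime) (hb : IsPBlock M b)
    (hT : ∀ g : G, g ∈ T ↔ ∀ θ ∈ b, cjIrr N g θ ∈ b) {B' : Set (IrrCharacter T)}
    (hB' : IsPBlock M B')
    (hcov : ∃ ψ ∈ B', ∃ θ ∈ b, classInner (resN hNT (ψ : T → ℂ)) (θ : N → ℂ) ≠ 0) :
    ∃ B : Set (IrrCharacter G), IsInducedBlock M T B' B ∧
      (∃ χ ∈ B, ∃ θ ∈ b, classInner (fun n : N => (χ : G → ℂ) n) (θ : N → ℂ) ≠ 0) ∧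
      (∀ ψ ∈ B', IsIrrCharacter G (indFun T (ψ : T → ℂ))) ∧
      ∀ χ : IrrCharacter G, χ ∈ B ↔ ∃ ψ ∈ B', (χ : G → ℂ) = indFun T (ψ : T → ℂ) := by
  obtain ⟨hirr, hind⟩ := indSet_spec hNT hM hb hT hB' hcov
  refine ⟨indSet T B', hind, ?_, hirr, fun χ => Iff.rfl⟩
  obtain ⟨ψ, hψ, θ, hθ, hψθ⟩ := hcov
  refine ⟨⟨indFun T (ψ : T → ℂ), hirr ψ hψ⟩, ⟨ψ, hψ, rfl⟩, θ, hθ, ?_⟩
  show classInner (fun n : N => indFun T (ψ : T → ℂ) n) (θ : N → ℂ) ≠ 0
  rw [classInner_indFun_res hNT hM hb hT ψ ⟨θ, hθ, hψθ⟩ θ hθ]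
  exact hψθ

/-- Part (ii) of the Fong–Reynolds correspondence. -/
theorem fr_part2 (hM : M.IsPrime) (hb : IsPBlock M b)
    (hT : ∀ g : G, g ∈ T ↔ ∀ θ ∈ b, cjIrr N g θ ∈ b) {B'₁ B'₂ : Set (IrrCharacter T)}
    (hB'₁ : IsPBlock M B'₁) (hB'₂ : IsPBlock M B'₂)
    (hcov₁ : ∃ ψ ∈ B'₁, ∃ θ ∈ b, classInner (resN hNT (ψ : T → ℂ)) (θ : N → ℂ) ≠ 0)
    (hcov₂ : ∃ ψ ∈ B'₂, ∃ θ ∈ b, classInner (resN hNT (ψ : T → ℂ)) (θ : N → ℂ) ≠ 0)
    {B : Set (IrrCharacter G)} (h₁ : IsInducedBlock M T B'₁ B) (h₂ : IsInducedBlock M T B'₂ B) :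
    B'₁ = B'₂ := by
  obtain ⟨hirr₁, hind₁⟩ := indSet_spec hNT hM hb hT hB'₁ hcov₁
  obtain ⟨hirr₂, hind₂⟩ := indSet_spec hNT hM hb hT hB'₂ hcov₂
  have e₁ : indSet T B'₁ = B :=
    Cfsg.Agent.Lib.Helper78_Deficiency.isInducedBlock_unique hM hind₁ h₁
  have e₂ : indSet T B'₂ = B :=
    Cfsg.Agent.Lib.Helper78_Deficiency.isInducedBlock_unique hM hind₂ h₂
  obtain ⟨ψ₁, hψ₁⟩ := isPBlock_nonempty hM hB'₁
  have hmem : (⟨indFun T (ψ₁ : T → ℂ), hirr₁ ψ₁ hψ₁⟩ : IrrCharacter G) ∈ indSet T B'₂ := by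
    rw [e₂, ← e₁]
    exact ⟨ψ₁, hψ₁, rfl⟩
  obtain ⟨ψ₂, hψ₂, h⟩ := hmem
  have heq : ψ₁ = ψ₂ := ind_injective hNT hM hb hT ψ₁ ψ₂
    (over_of_mem hNT hM hb hT hB'₁ hcov₁ hψ₁) (over_of_mem hNT hM hb hT hB'₂ hcov₂ hψ₂) h
  exact isPBlock_eq_of_mem_of_mem hM hB'₁ hB'₂ hψ₁ (heq ▸ hψ₂)

/-- Part (iii) of the Fong–Reynolds correspondence. -/
theorem fr_part3 (hM : M.IsPrime) (hb : IsPBlock M b)
    (hT : ∀ g : G, g ∈ T ↔ ∀ θ ∈ b, cjIrr N g θ ∈ b) {B : Set (IrrCharacter G)}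
    (hB : IsPBlock M B)
    (hcov : ∃ χ ∈ B, ∃ θ ∈ b, classInner (fun n : N => (χ : G → ℂ) n) (θ : N → ℂ) ≠ 0) :
    ∃ B' : Set (IrrCharacter T), IsPBlock M B' ∧
      (∃ ψ ∈ B', ∃ θ ∈ b, classInner (resN hNT (ψ : T → ℂ)) (θ : N → ℂ) ≠ 0) ∧
      IsInducedBlock M T B' B := by
  obtain ⟨χ, hχ, θ, hθ, hχθ⟩ := hcov
  obtain ⟨ψ, hψθ, hψ⟩ := ind_surjective hNT hM hb hT χ θ hθ hχθ
  have hB' : IsPBlock M (blockOf M (ψ : T → ℂ)) := isPBlock_blockOf ψ
  have hcov' : ∃ ψ' ∈ blockOf M (ψ : T → ℂ), ∃ θ ∈ b,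
      classInner (resN hNT (ψ' : T → ℂ)) (θ : N → ℂ) ≠ 0 :=
    ⟨ψ, mem_blockOf_self hM ψ, θ, hθ, hψθ⟩
  refine ⟨_, hB', hcov', ?_⟩
  obtain ⟨hirr, hind⟩ := indSet_spec hNT hM hb hT hB' hcov'
  have hmem : χ ∈ indSet T (blockOf M (ψ : T → ℂ)) := ⟨ψ, mem_blockOf_self hM ψ, hψ.symm⟩
  have : indSet T (blockOf M (ψ : T → ℂ)) = B :=
    isPBlock_eq_of_mem_of_mem hM hind.2.1 hB hmem hχ
  rw [← this]
  exact hind

end statements

section heights

variable {G : Type u} [Group G] [Fintype G] {N : Subgroup G} [hN : N.Normal] [Fintype N]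
  {M : Ideal AlgInt} {T : Subgroup G} [Fintype T] (hNT : N ≤ T) {b : Set (IrrCharacter N)}

theorem sInf_image_add {A : Set ℕ} (hA : A.Nonempty) (c : ℕ) :
    sInf ((fun k => c + k) '' A) = c + sInf A := by
  apply le_antisymm
  · exact Nat.sInf_le ⟨sInf A, Nat.sInf_mem hA, rfl⟩
  · obtain ⟨a, ha, h⟩ := Nat.sInf_mem (hA.image (fun k => c + k))
    rw [← h]
    exact Nat.add_le_add_left (Nat.sInf_le ha) c

/-- The minimal `p`-part of the degrees in the induced set. -/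
theorem sInf_indSet (p : ℕ) [Fact p.Prime] {B' : Set (IrrCharacter T)} (hne : B'.Nonempty)
    (hirr : ∀ ψ ∈ B', IsIrrCharacter G (indFun T (ψ : T → ℂ))) :
    sInf ((fun χ : IrrCharacter G => (charDegree (χ : G → ℂ)).factorization p) '' indSet T B') =
      T.index.factorization p +
        sInf ((fun ψ : IrrCharacter T => (charDegree (ψ : T → ℂ)).factorization p) '' B') := by
  rw [← sInf_image_add (hne.image _)]
  congr 1
  ext k
  constructor
  · rintro ⟨χ, ⟨ψ, hψ, h⟩, rfl⟩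
    refine ⟨_, ⟨ψ, hψ, rfl⟩, ?_⟩
    show _ = (charDegree (χ : G → ℂ)).factorization p
    rw [h, Cfsg.Agent.Lib.Helper57_IndBlock.charDegree_indFun,
      Nat.factorization_mul Subgroup.index_ne_zero_of_finite (charDegree_pos ψ).ne',
      Finsupp.add_apply]
  · rintro ⟨_, ⟨ψ, hψ, rfl⟩, rfl⟩
    refine ⟨⟨indFun T (ψ : T → ℂ), hirr ψ hψ⟩, ⟨ψ, hψ, rfl⟩, ?_⟩
    show (charDegree (indFun T (ψ : T → ℂ))).factorization p = _
    rw [Cfsg.Agent.Lib.Helper57_IndBlock.charDegree_indFun,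
      Nat.factorization_mul Subgroup.index_ne_zero_of_finite (charDegree_pos ψ).ne',
      Finsupp.add_apply]

/-- Heights and defects under the Fong–Reynolds correspondence. -/
theorem fr_heights (p : ℕ) [Fact p.Prime] (hM : IsPModular p M) (hb : IsPBlock M b)
    (hT : ∀ g : G, g ∈ T ↔ ∀ θ ∈ b, cjIrr N g θ ∈ b) {B' : Set (IrrCharacter T)}
    (hB' : IsPBlock M B')
    (hcov : ∃ ψ ∈ B', ∃ θ ∈ b, classInner (resN hNT (ψ : T → ℂ)) (θ : N → ℂ) ≠ 0)
    {B : Set (IrrCharacter G)} (hind : IsInducedBlock M T B' B) :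
    (∀ D : Subgroup T, IsDefectGroup p M B' D → IsDefectGroup p M B (D.map T.subtype)) ∧
      ∀ ψ ∈ B', ∃ χ ∈ B, (χ : G → ℂ) = indFun T (ψ : T → ℂ) ∧
        blockHeight p B (χ : G → ℂ) = blockHeight p B' (ψ : T → ℂ) := by
  classical
  have hMp := isPrime_of_isPModular hM
  obtain ⟨hirr, hind'⟩ := indSet_spec hNT hMp hb hT hB' hcov
  have hBeq : indSet T B' = B :=
    Cfsg.Agent.Lib.Helper78_Deficiency.isInducedBlock_unique hMp hind' hind
  have hne := isPBlock_nonempty hMp hB'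
  have hinf := sInf_indSet (G := G) (T := T) p hne hirr
  rw [hBeq] at hinf
  constructor
  · intro D hD
    obtain ⟨E, hE, hDE⟩ := Cfsg.Agent.Lib.Helper78_Defect.exists_isDefectGroup_ge_of_induced hM T
      hB' hind.2.1 hind D hD
    have hcD := (Cfsg.Agent.Lib.Helper77_CentralDefect.card_of_isDefectGroup hM hB' hD).2
    have hcE := (Cfsg.Agent.Lib.Helper77_CentralDefect.card_of_isDefectGroup hM hind.2.1 hE).2
    have hdef : blockDefect p B = blockDefect p B' := by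
      unfold blockDefect
      rw [hinf, ← Subgroup.card_mul_index T,
        Nat.factorization_mul Nat.card_pos.ne' Subgroup.index_ne_zero_of_finite,
        Finsupp.add_apply]
      omega
    have hcard : Nat.card E ≤ Nat.card (D.map T.subtype) := by
      rw [Subgroup.card_map_of_injective T.subtype_injective, hcD, hcE, hdef]
    have : D.map T.subtype = E := Subgroup.eq_of_le_of_card_ge hDE hcard
    rw [this]
    exact hE
  · intro ψ hψ
    refine ⟨⟨indFun T (ψ : T → ℂ), hirr ψ hψ⟩, hBeq ▸ ⟨ψ, hψ, rfl⟩, rfl, ?_⟩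
    unfold blockHeight
    rw [hinf]
    show (charDegree (indFun T (ψ : T → ℂ))).factorization p - _ = _
    rw [Cfsg.Agent.Lib.Helper57_IndBlock.charDegree_indFun,
      Nat.factorization_mul Subgroup.index_ne_zero_of_finite (charDegree_pos ψ).ne',
      Finsupp.add_apply]
    omega

end heights

end Cfsg.Agent.Lib.Helper77_FongReynolds2
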