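import Mathlib
import Cfsg.Agent.Lib.Helper83_HP2Defs

set_option autoImplicit false
set_option linter.unusedSectionVars false
set_option linter.unusedVariables false

/-!
HP2 market (architect helper83), package **HP2-R2**, self-contained core (helper77): from a reflection
vector with two nonzero (nonsingular) coordinates one gets a reflection vector with three nonzero
coordinates.  The inputs of the packages PERM and ROTREFL are taken as hypotheses here; Z4 and RINV
are proved inline.  Port of `Helper47_Q2_R2aux`.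
-/

namespace Cfsg.Agent.Lib.Helper77_HP2_R2aux

open Module Cfsg.Agent.Lib.Helper94_Symp Cfsg.Agent.Lib.Helper94_OrthSmall
  Cfsg.Agent.Lib.Helper94_OrthSiegel Cfsg.Agent.Lib.Helper94_OrthNondeg
  Cfsg.Agent.Lib.Helper29_ODDefs Cfsg.Agent.Lib.Helper94_Q2Defs
  Cfsg.Agent.Lib.Helper83_HP2Defs

variable {F : Type*} [Field F] [Finite F] {t : ℕ} {S M L : Subgroup (PV F t ≃ₗ[F] PV F t)}

lemma mem_PSupp {x : PV F t} {l : Fin t} : l ∈ PSupp x ↔ x l ≠ 0 := by
  classical
  unfold PSupp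
  simp only [Finset.mem_filter, Finset.mem_univ, true_and]

/-- `Z4`, proved inline. -/
lemma z4 (hq : 7 ≤ Nat.card F) : ∃ a : F, a ≠ 0 ∧ a ^ 4 ≠ 1 := by
  classical
  haveI := Fintype.ofFinite F
  by_contra h
  push Not at h
  have h1 : (Finset.univ.erase (0 : F)) ⊆ (Polynomial.nthRoots 4 (1 : F)).toFinset := by
    intro x hx
    rw [Multiset.mem_toFinset, Polynomial.mem_nthRoots (by norm_num)]
    exact h x (Finset.ne_of_mem_erase hx)
  have h2 := Finset.card_le_card h1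
  have h3 : (Polynomial.nthRoots 4 (1 : F)).toFinset.card ≤ 4 :=
    (Multiset.toFinset_card_le _).trans (Polynomial.card_nthRoots 4 1)
  rw [Finset.card_erase_of_mem (Finset.mem_univ _), Finset.card_univ] at h2
  rw [Nat.card_eq_fintype_card] at hq
  omega

/-- `RINV`, proved inline. -/
lemma rinv (hLO : L ≤ oG (pQ F t)) {w : PV F t} (hw : PInRc L w)
    {g : PV F t ≃ₗ[F] PV F t} (hg : g ∈ L) : PInRc L (g w) := by
  obtain ⟨hw0, hr⟩ := hw
  have hgO : g ∈ oG (pQ F t) := hLO hg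
  have hgw : pQ F t (g w) ≠ 0 := by rw [hgO w]; exact hw0
  refine ⟨hgw, ?_⟩
  have h := conj_refl (pQ F t) (pB F t) (pQs F t) (pQp F t) hgO hw0
  have h' : prefl F t hgw = g * prefl F t hw0 * g⁻¹ := h.symm
  rw [h']
  exact L.mul_mem (L.mul_mem hg hr) (L.inv_mem hg)

/-- sums over the model of a function vanishing outside `{l, m}`. -/
lemma sum_two {l m : Fin t} (hlm : l ≠ m) (f : Fin t → F)
    (hf : ∀ j, j ≠ l → j ≠ m → f j = 0) : ∑ j, f j = f l + f m := by
  classical
  rw [← Finset.sum_pair hlm]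
  symm
  apply Finset.sum_subset (Finset.subset_univ _)
  intro j _ hj
  simp only [Finset.mem_insert, Finset.mem_singleton, not_or] at hj
  exact hf j hj.1 hj.2

/-- The core of **HP2-R2**. -/
theorem R2_of (hC : PCtxR F t S L)
    (hPERM : ∀ π : Equiv.Perm (Fin t), ∃ g : PV F t ≃ₗ[F] PV F t, g ∈ oG (pQ F t) ∧ g ∈ S ∧
      (∀ x l, g x (π l) = x l) ∧ (Equiv.Perm.sign π = 1 → g ∈ pOm F t))
    (hROT : ∀ (l : Fin t) (c : F), c ≠ 0 → ∃ x y : PV F t, x ∈ pD F t l ∧ y ∈ pD F t l ∧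
      ∃ (hx : pQ F t x ≠ 0) (hy : pQ F t y ≠ 0),
        ∀ v j, (prefl F t hx * prefl F t hy) v j = if j = l then rotAct c (v j) else v j)
    {w : PV F t} (hw : PInRc L w) (h2 : 2 ≤ (PSupp w).card)
    (hns : ∀ j, w j ≠ 0 → ¬ Sing (w j)) : ∃ w', PInRc L w' ∧ 3 ≤ (PSupp w').card := by
  classical
  by_cases h3 : 3 ≤ (PSupp w).card
  · exact ⟨w, hw, h3⟩
  have hcard : (PSupp w).card = 2 := by omega
  obtain ⟨l, m, hlm, hS⟩ := Finset.card_eq_two.mp hcard
  have hwl : w l ≠ 0 := mem_PSupp.mp (by rw [hS]; simp)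
  have hwm : w m ≠ 0 := mem_PSupp.mp (by rw [hS]; simp)
  have hw0 : ∀ j, j ≠ l → j ≠ m → w j = 0 := by
    intro j hjl hjm
    by_contra h
    have hj : j ∈ PSupp w := mem_PSupp.mpr h
    rw [hS] at hj
    simp only [Finset.mem_insert, Finset.mem_singleton] at hj
    tauto
  have hnsl : (w l).1 * (w l).2 ≠ 0 := hns l hwl
  have hl1 : (w l).1 ≠ 0 := left_ne_zero_of_mul hnsl
  have hl2 : (w l).2 ≠ 0 := right_ne_zero_of_mul hnsl
  obtain ⟨a, ha0, ha4⟩ := z4 hC.hq
  have haa : a + a⁻¹ ≠ 0 := by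
    intro h
    apply ha4
    have h1 : a * a = -1 := by
      have h2 : a * (a + a⁻¹) = 0 := by rw [h, mul_zero]
      rw [mul_add, mul_inv_cancel₀ ha0] at h2
      exact eq_neg_of_add_eq_zero_left h2
    calc a ^ 4 = (a * a) * (a * a) := by ring
      _ = 1 := by rw [h1]; ring
  have haai : a ≠ a⁻¹ := by
    intro h
    apply ha4
    have h1 : a * a = 1 := by
      nth_rewrite 2 [h]
      exact mul_inv_cancel₀ ha0
    calc a ^ 4 = (a * a) * (a * a) := by ring
      _ = 1 := by rw [h1, one_mul]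
  have ht := hC.ht
  obtain ⟨m', -, hm'⟩ : ∃ e ∈ (Finset.univ : Finset (Fin t)), e ∉ ({l, m} : Finset (Fin t)) := by
    apply Finset.exists_mem_notMem_of_card_lt_card
    calc ({l, m} : Finset (Fin t)).card ≤ 2 := Finset.card_le_two
      _ < t := by omega
      _ = (Finset.univ : Finset (Fin t)).card := by simp
  obtain ⟨m'', -, hm''⟩ :
      ∃ e ∈ (Finset.univ : Finset (Fin t)), e ∉ ({l, m, m'} : Finset (Fin t)) := by
    apply Finset.exists_mem_notMem_of_card_lt_card
    calc ({l, m, m'} : Finset (Fin t)).card ≤ 3 := Finset.card_le_three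
      _ < t := by omega
      _ = (Finset.univ : Finset (Fin t)).card := by simp
  simp only [Finset.mem_insert, Finset.mem_singleton, not_or] at hm' hm''
  obtain ⟨hm'l, hm'm⟩ := hm'
  obtain ⟨hm''l, hm''m, hm''m'⟩ := hm''
  -- the even permutation
  obtain ⟨π, hπdef⟩ : ∃ π : Equiv.Perm (Fin t), π = Equiv.swap m m' * Equiv.swap m' m'' :=
    ⟨_, rfl⟩
  have hπl : π l = l := by
    rw [hπdef, Equiv.Perm.mul_apply,
      Equiv.swap_apply_of_ne_of_ne (Ne.symm hm'l) (Ne.symm hm''l),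
      Equiv.swap_apply_of_ne_of_ne hlm (Ne.symm hm'l)]
  have hπm : π m = m' := by
    rw [hπdef, Equiv.Perm.mul_apply,
      Equiv.swap_apply_of_ne_of_ne (Ne.symm hm'm) (Ne.symm hm''m), Equiv.swap_apply_left]
  have hπm'' : π m'' = m := by
    rw [hπdef, Equiv.Perm.mul_apply, Equiv.swap_apply_right, Equiv.swap_apply_right]
  have hπs : Equiv.Perm.sign π = 1 := by
    rw [hπdef, Equiv.Perm.sign_mul, Equiv.Perm.sign_swap (Ne.symm hm'm),
      Equiv.Perm.sign_swap (Ne.symm hm''m')]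
    rfl
  obtain ⟨g, hgO, hgS, hgx, hgOm⟩ := hPERM π
  have hgL : g ∈ L := hC.hHL ⟨hgS, hgOm hπs⟩
  -- the rotation
  obtain ⟨x, y, hxl, hyl, hx0, hy0, hc⟩ := hROT l a ha0
  have hcL : prefl F t hx0 * prefl F t hy0 ∈ L :=
    L.mul_mem (hC.hR x ⟨hx0, l, hxl⟩ hx0) (hC.hR y ⟨hy0, l, hyl⟩ hy0)
  -- the vector `w'`
  obtain ⟨w', hw'def⟩ : ∃ w' : PV F t, w' = (prefl F t hx0 * prefl F t hy0) (g w) :=
    ⟨_, rfl⟩
  have hw'R : PInRc L w' := by
    rw [hw'def]
    exact rinv hC.hLO (rinv hC.hLO hw hgL) hcL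
  have hw'l : w' l = rotAct a (w l) := by
    rw [hw'def, hc, if_pos rfl]
    have := hgx w l
    rw [hπl] at this
    rw [this]
  have hw'm' : w' m' = w m := by
    rw [hw'def, hc, if_neg hm'l]
    have := hgx w m
    rw [hπm] at this
    exact this
  have hw'm : w' m = 0 := by
    rw [hw'def, hc, if_neg (Ne.symm hlm)]
    have := hgx w m''
    rw [hπm''] at this
    rw [this]
    exact hw0 m'' hm''l hm''m
  have hwm' : w m' = 0 := hw0 m' hm'l hm'm
  obtain ⟨hw'0, hw'L⟩ := hw'R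
  -- the new vector
  refine ⟨prefl F t hw'0 w, rinv hC.hLO hw hw'L, ?_⟩
  have hBv : pB F t w w' = (w l).1 * (w l).2 * (a + a⁻¹) := by
    rw [pB_apply, sum_two hlm]
    · rw [hw'm, hw'l]
      simp only [rotAct, Prod.fst_zero, Prod.snd_zero, mul_zero, add_zero]
      ring
    · intro j hjl hjm
      rw [hw0 j hjl hjm]
      simp
  obtain ⟨lam, hlam⟩ : ∃ lam : F, lam = (pQ F t w')⁻¹ * pB F t w w' := ⟨_, rfl⟩
  have hlam0 : lam ≠ 0 := by
    rw [hlam, hBv]
    exact mul_ne_zero (inv_ne_zero hw'0) (mul_ne_zero hnsl haa)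
  have hv : prefl F t hw'0 w = w - lam • w' := by
    rw [hlam]
    exact refl_apply (pQ F t) (pB F t) (pQs F t) (pQp F t) hw'0 w
  have h1 : (prefl F t hw'0 w) l ≠ 0 := by
    rw [hv, Pi.sub_apply, Pi.smul_apply, hw'l]
    intro h0
    have e1 : (w l).1 - lam * (a * (w l).1) = 0 := congrArg Prod.fst h0
    have e2 : (w l).2 - lam * (a⁻¹ * (w l).2) = 0 := congrArg Prod.snd h0
    have e1' : (1 - lam * a) * (w l).1 = 0 := by rw [← e1]; ring
    have e2' : (1 - lam * a⁻¹) * (w l).2 = 0 := by rw [← e2]; ring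
    have f1 : 1 - lam * a = 0 := (mul_eq_zero.mp e1').resolve_right hl1
    have f2 : 1 - lam * a⁻¹ = 0 := (mul_eq_zero.mp e2').resolve_right hl2
    have f3 : lam * a = lam * a⁻¹ := by
      rw [← sub_eq_zero]
      linear_combination f2 - f1
    exact haai (mul_left_cancel₀ hlam0 f3)
  have h2' : (prefl F t hw'0 w) m ≠ 0 := by
    rw [hv, Pi.sub_apply, Pi.smul_apply, hw'm, smul_zero, sub_zero]
    exact hwm
  have h3' : (prefl F t hw'0 w) m' ≠ 0 := by
    rw [hv, Pi.sub_apply, Pi.smul_apply, hw'm', hwm', zero_sub, neg_ne_zero]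
    exact smul_ne_zero hlam0 hwm
  have hsub : ({l, m, m'} : Finset (Fin t)) ⊆ PSupp (prefl F t hw'0 w) := by
    intro j hj
    simp only [Finset.mem_insert, Finset.mem_singleton] at hj
    rcases hj with rfl | rfl | rfl
    · exact mem_PSupp.mpr h1
    · exact mem_PSupp.mpr h2'
    · exact mem_PSupp.mpr h3'
  calc 3 = ({l, m, m'} : Finset (Fin t)).card := by
        rw [Finset.card_insert_of_notMem, Finset.card_insert_of_notMem, Finset.card_singleton]
        · simp only [Finset.mem_singleton]; exact Ne.symm hm'm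
        · simp only [Finset.mem_insert, Finset.mem_singleton, not_or]
          exact ⟨hlm, Ne.symm hm'l⟩
    _ ≤ _ := Finset.card_le_card hsub

end Cfsg.Agent.Lib.Helper77_HP2_R2aux
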