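import Mathlib
import Cfsg.Prelude.Def_Blocks
import Cfsg.Agent.Lib.Helper79_UniqueSingular
import Cfsg.Agent.Lib.Helper79_Linear
import Cfsg.Agent.Lib.Helper75_ExtendCoprime
import Cfsg.Agent.Lib.Helper77_QuotBlocks
import Cfsg.Agent.Lib.Helper17_ExcApply

set_option autoImplicit false

namespace Cfsg.Agent.Lib.Helper77_HtChar

open scoped ComplexConjugate
open Cfsg Cfsg.Agent.Lib.Helper75_Clifford Cfsg.Agent.Lib.Helper75_LinChar
  Cfsg.Agent.Lib.Helper3_CharBridge Cfsg.Agent.Lib.Helper79_UniqueSingular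

universe u

/-- Irreducible characters of a finite abelian group have degree one. -/
theorem irr_one_eq_one_of_comm {A : Type*} [Group A] [Finite A] (hc : ∀ a b : A, a * b = b * a)
    (γ : IrrCharacter A) : (γ : A → ℂ) 1 = 1 := by
  classical
  have : Fintype A := Fintype.ofFinite A
  have hcomm : commutator A = ⊥ := by
    rw [commutator_def, Subgroup.commutator_eq_bot_iff_le_centralizer]
    intro x _
    rw [Subgroup.mem_centralizer_iff]
    intro y _
    exact hc y x
  have hL : Nat.card {χ : IrrCharacter A // (χ : A → ℂ) 1 = 1} = Nat.card A := by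
    rw [Cfsg.Agent.Lib.Helper79_Linear.card_linear, hcomm, Subgroup.index_bot]
  have hsum := Cfsg.Agent.Lib.Helper17_ExcApply.sum_sq_deg (G := A)
  have hle : Nat.card {χ : IrrCharacter A // (χ : A → ℂ) 1 = 1} ≤ Nat.card (IrrCharacter A) :=
    Finite.card_subtype_le _
  have hcardIrr : Nat.card (IrrCharacter A) = ∑ _χ : IrrCharacter A, 1 := by
    rw [Nat.card_eq_fintype_card]
    simp
  have hterm : ∀ χ ∈ (Finset.univ : Finset (IrrCharacter A)),
      1 ≤ Cfsg.Agent.Lib.Helper17_ExcApply.deg χ ^ 2 := fun χ _ =>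
    Nat.one_le_pow _ _ (Cfsg.Agent.Lib.Helper17_ExcApply.deg_pos χ)
  have heq : ∑ _χ : IrrCharacter A, 1 = ∑ χ : IrrCharacter A,
      Cfsg.Agent.Lib.Helper17_ExcApply.deg χ ^ 2 := by
    apply le_antisymm (Finset.sum_le_sum hterm)
    rw [hsum, ← hL, ← hcardIrr]
    exact hle
  have h1 := (Finset.sum_eq_sum_iff_of_le hterm).mp heq γ (Finset.mem_univ γ)
  have h2 : Cfsg.Agent.Lib.Helper17_ExcApply.deg γ = 1 := by
    have h3 : Cfsg.Agent.Lib.Helper17_ExcApply.deg γ ^ 2 = 1 ^ 2 := by rw [← h1]; norm_num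
    exact Nat.pow_left_injective (n := 2) (by norm_num) h3
  rw [Cfsg.Agent.Lib.Helper77_BlockBasics.apply_one_eq_charDegree]
  unfold Cfsg.Agent.Lib.Helper17_ExcApply.deg at h2
  rw [h2]
  norm_num

/-- Over an invariant irreducible character `θ` of a normal subgroup `K` with `H / K` abelian of
order prime to `|K|`, every irreducible character of `H` has the degree of `θ`. -/
theorem degree_eq_of_abelian_coprime {H : Type u} [Group H] [Fintype H] (K : Subgroup H)
    [hK : K.Normal] [Fintype K] (hab : ∀ x y : H, x * y * x⁻¹ * y⁻¹ ∈ K)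
    (hcop : Nat.Coprime (Nat.card K) K.index) (θ : K → ℂ) (hθ : IsIrrCharacter K θ)
    (hinv : ∀ (g : H) (n : K), θ ⟨g * n * g⁻¹, hK.conj_mem (n : H) n.2 g⟩ = θ n)
    (φ : H → ℂ) (hφ : IsIrrCharacter H φ) (hover : classInner (res K φ) θ ≠ 0) :
    φ 1 = θ 1 := by
  classical
  have hcommQ : ∀ a b : H ⧸ K, a * b = b * a := by
    intro a b
    obtain ⟨x, rfl⟩ := QuotientGroup.mk'_surjective K a
    obtain ⟨y, rfl⟩ := QuotientGroup.mk'_surjective K b
    have h1 := hab x y
    rw [← QuotientGroup.eq_one_iff, ← QuotientGroup.mk'_apply] at h1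
    rw [map_mul, map_mul, map_mul, map_inv, map_inv] at h1
    calc QuotientGroup.mk' K x * QuotientGroup.mk' K y
        = (QuotientGroup.mk' K x * QuotientGroup.mk' K y * (QuotientGroup.mk' K x)⁻¹ *
            (QuotientGroup.mk' K y)⁻¹) * (QuotientGroup.mk' K y * QuotientGroup.mk' K x) := by
          group
      _ = QuotientGroup.mk' K y * QuotientGroup.mk' K x := by rw [h1, one_mul]
  have hsolv : Group.IsSolvable (H ⧸ K) := by
    exact Group.isSolvable_of_comm (fun a b => hcommQ a b)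
  obtain ⟨χ, hχ, hχK⟩ := Cfsg.Agent.Lib.Helper75_ExtendCoprime.exists_extension_of_coprime_solvable
    K hsolv hcop θ hθ hinv
  have hresχ : res K χ = θ := by
    funext n
    exact hχK n
  have hres : IsIrrCharacter K (res K χ) := by rw [hresχ]; exact hθ
  have hbij := gallagher K hχ hres
  have hprodeq : (fun _ : K => (1 : ℂ)) * res K χ = θ := by
    rw [hresχ]
    funext n
    simp
  have hφmem : φ ∈ {ψ : H → ℂ | IsIrrCharacter H ψ ∧
      classInner (indFun K ((fun _ : K => (1 : ℂ)) * res K χ)) ψ ≠ 0} := by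
    refine ⟨hφ, ?_⟩
    rw [hprodeq, Cfsg.Agent.Lib.Helper75_Induced.frobenius_reciprocity K _ _
      (isClassFunction_of_isIrrCharacter hφ),
      ← Cfsg.Agent.Lib.Helper3_CharOrtho.classInner_conj_symm]
    exact (map_ne_zero _).mpr hover
  obtain ⟨β, ⟨hβ, hβ1⟩, hβφ⟩ := hbij.surjOn hφmem
  -- `β` is trivial on `K`
  have hone : IsIrrCharacter K (fun _ : K => (1 : ℂ)) :=
    Cfsg.Agent.Lib.Helper80_CharBasic.isIrrCharacter_one K
  have hβover : classInner (res K β) (fun _ : K => (1 : ℂ)) ≠ 0 := by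
    rw [Cfsg.Agent.Lib.Helper75_Induced.frobenius_reciprocity K _ _
      (isClassFunction_of_isIrrCharacter hβ),
      ← Cfsg.Agent.Lib.Helper3_CharOrtho.classInner_conj_symm] at hβ1
    exact (map_ne_zero _).mp hβ1
  have hcl := clifford K hK hβ hone hβover
  have hset : {ψ : K → ℂ | ∃ g : H, ψ = Cfsg.Agent.Lib.Helper75_Clifford.conjFun K hK (fun _ : K => (1 : ℂ)) g} =
      {fun _ : K => (1 : ℂ)} := by
    ext ψ
    simp only [Set.mem_ofPred_eq, Set.mem_singleton_iff]
    constructor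
    · rintro ⟨g, rfl⟩
      rfl
    · rintro rfl
      exact ⟨1, rfl⟩
  rw [hset, finsum_mem_singleton] at hcl
  have hβK : ∀ u ∈ K, β u = β 1 := by
    intro u hu
    have h1 := congrFun hcl ⟨u, hu⟩
    have h2 := congrFun hcl ⟨1, K.one_mem⟩
    rw [res_apply] at h1 h2
    simp only [Pi.smul_apply] at h1 h2
    show β u = β 1
    rw [h1, h2]
  obtain ⟨γ, hγ⟩ := Cfsg.Agent.Lib.Helper77_QuotBlocks.exists_quot_char K ⟨β, hβ⟩ hβK
  have hγ1 := irr_one_eq_one_of_comm hcommQ γ
  have hβone : β 1 = 1 := by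
    have h1 := congrFun hγ 1
    simp only [Function.comp] at h1
    rw [h1]
    exact hγ1
  rw [← hβφ]
  show β 1 * χ 1 = θ 1
  rw [hβone, one_mul]
  exact hχK 1

end Cfsg.Agent.Lib.Helper77_HtChar
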