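import Mathlib
import Cfsg.Prelude.Def_Local
import Cfsg.Agent.Lib.Helper52_PLength
import Cfsg.Agent.Lib.Helper76_PSolvable

set_option autoImplicit false

namespace Cfsg.Agent.Lib.Helper77_HtGroup

open Cfsg Cfsg.Agent.Lib.Helper52_PLength Cfsg.Agent.Lib.Helper76_PSolvable

variable {G : Type*} [Group G] [Finite G] (p : ℕ) [Fact p.Prime]

/-- In a finite `p`-solvable group with `N = O_{p'}(G)` and a Sylow `p`-subgroup `P`, there is a
normal subgroup `W ≥ N` with `W / N` an abelian `p`-group and `|G : W|_p ≤ |P : Z(P)|`. -/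
theorem exists_abelian_section (hsol : IsPSolvable p G) (P : Sylow p G) :
    ∃ W : Subgroup G, W.Normal ∧ pPrimeCore p G ≤ W ∧
      (∀ x ∈ W, ∀ y ∈ W, x * y * x⁻¹ * y⁻¹ ∈ pPrimeCore p G) ∧
      (∃ k : ℕ, (pPrimeCore p G).relIndex W = p ^ k) ∧
      W.index.factorization p ≤
        ((Subgroup.center (P : Subgroup G)).index).factorization p := by
  classical
  have hp : p.Prime := Fact.out
  set N := pPrimeCore p G with hN
  set π := QuotientGroup.mk' N with hπ
  have hπs : Function.Surjective π := QuotientGroup.mk'_surjective N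
  set Q := pCore p (G ⧸ N) with hQ
  have hQp : IsPGroup p Q := pCore_isPGroup p
  have hcore : pPrimeCore p (G ⧸ N) = ⊥ := pPrimeCore_quotient_pPrimeCore p
  have hHH : Subgroup.centralizer (Q : Set (G ⧸ N)) ≤ Q :=
    centralizer_pCore_le p (isPSolvable_quotient p N hsol) hcore
  set Z : Subgroup (G ⧸ N) := (Subgroup.center Q).map Q.subtype with hZ
  have hZn : Z.Normal := ConjAct.normal_of_characteristic_of_normal
  have hZp : IsPGroup p Z := (hQp.to_subgroup (Subgroup.center Q)).map Q.subtype
  have hNcop : (Nat.card N).Coprime p := pPrimeCore_card_coprime p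
  refine ⟨Z.comap π, inferInstance, ?_, ?_, ?_, ?_⟩
  · intro x hx
    rw [Subgroup.mem_comap, hπ, QuotientGroup.mk'_apply, (QuotientGroup.eq_one_iff x).mpr hx]
    exact Subgroup.one_mem _
  · intro x hx y hy
    rw [Subgroup.mem_comap] at hx hy
    obtain ⟨a, ha, hax⟩ := hx
    obtain ⟨b, hb, hby⟩ := hy
    have hab : a * b = b * a := Subgroup.mem_center_iff.mp hb a
    have h1 : π x * π y = π y * π x := by
      rw [← hax, ← hby]
      have := congrArg Q.subtype hab
      simpa using this
    rw [← QuotientGroup.eq_one_iff, ← QuotientGroup.mk'_apply, ← hπ]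
    rw [map_mul, map_mul, map_mul, map_inv, map_inv, h1]
    group
  · rw [relIndex_comap_mk]
    exact IsPGroup.iff_card.mp hZp
  · -- the index computation
    set PG : Subgroup G := (P : Subgroup G) with hPG
    have hidx : (Z.comap π).index = Z.index := Subgroup.index_comap_of_surjective Z hπs
    rw [hidx]
    -- the image of the centre of `P` lies in `Z`
    have hQle : Q ≤ PG.map π := by
      have h1 := hQp.le_sylow_of_normal (P.mapSurjective hπs)
      rwa [Sylow.coe_mapSurjective] at h1
    set ZP : Subgroup G := (Subgroup.center PG).map PG.subtype with hZP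
    have hZPle : ZP.map π ≤ Z := by
      rintro _ ⟨z, ⟨z', hz', rfl⟩, rfl⟩
      have hcent : π (PG.subtype z') ∈ Subgroup.centralizer (Q : Set (G ⧸ N)) := by
        rw [Subgroup.mem_centralizer_iff]
        intro q hq
        obtain ⟨x, hx, rfl⟩ := hQle hq
        have h2 : z' * ⟨x, hx⟩ = ⟨x, hx⟩ * z' := (Subgroup.mem_center_iff.mp hz' ⟨x, hx⟩).symm
        have h3 := congrArg (fun t : PG => π (PG.subtype t)) h2
        simp only [map_mul, Subgroup.subtype_apply] at h3
        exact h3.symm
      have hq : π (PG.subtype z') ∈ Q := hHH hcent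
      refine ⟨⟨π (PG.subtype z'), hq⟩, ?_, rfl⟩
      show _ ∈ Subgroup.center Q
      rw [Subgroup.mem_center_iff]
      intro q
      apply Subtype.ext
      have := (Subgroup.mem_centralizer_iff.mp hcent) q q.2
      simpa using this
    -- `π` is injective on `ZP`
    have hZPp : IsPGroup p ZP :=
      ((P.isPGroup').to_subgroup (Subgroup.center PG)).map PG.subtype
    have hinj : Nat.card (ZP.map π) = Nat.card ZP := by
      have h1 := Subgroup.relIndex_ker (K := ZP) π
      rw [QuotientGroup.ker_mk'] at h1
      rw [← h1]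
      have hbot : N ⊓ ZP = ⊥ := by
        apply Subgroup.eq_bot_of_card_eq
        obtain ⟨a, ha⟩ := IsPGroup.iff_card.mp hZPp
        have h3 : Nat.card (N ⊓ ZP : Subgroup G) ∣ Nat.card ZP :=
          Subgroup.card_dvd_of_le inf_le_right
        have h4 : Nat.card (N ⊓ ZP : Subgroup G) ∣ Nat.card N :=
          Subgroup.card_dvd_of_le inf_le_left
        rw [ha] at h3
        exact Nat.eq_one_of_dvd_coprimes (Nat.Coprime.pow_right a hNcop) h4 h3
      rw [← Subgroup.inf_relIndex_right, hbot, Subgroup.relIndex_bot_left]
    have hcardZP : Nat.card ZP = Nat.card (Subgroup.center PG) :=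
      Subgroup.card_map_of_injective PG.subtype_injective
    have hdvd : Nat.card (Subgroup.center PG) ∣ Nat.card Z := by
      rw [← hcardZP, ← hinj]
      exact Subgroup.card_dvd_of_le hZPle
    have ha : Nat.card Z * Z.index = Nat.card (G ⧸ N) := Subgroup.card_mul_index Z
    have hb : Nat.card (G ⧸ N) * Nat.card N = Nat.card G :=
      (Subgroup.card_eq_card_quotient_mul_card_subgroup N).symm
    have hc : Nat.card PG = p ^ (Nat.card G).factorization p := P.card_eq_multiplicity
    have hd : Nat.card (Subgroup.center PG) * (Subgroup.center PG).index = Nat.card PG :=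
      Subgroup.card_mul_index _
    have hZ0 : Nat.card Z ≠ 0 := Nat.card_pos.ne'
    have hZi0 : Z.index ≠ 0 := Subgroup.index_ne_zero_of_finite
    have hC0 : Nat.card (Subgroup.center PG) ≠ 0 := Nat.card_pos.ne'
    have hCi0 : (Subgroup.center PG).index ≠ 0 := Subgroup.index_ne_zero_of_finite
    have hQ0 : Nat.card (G ⧸ N) ≠ 0 := Nat.card_pos.ne'
    have hN0 : Nat.card N ≠ 0 := Nat.card_pos.ne'
    have e1 : (Nat.card Z).factorization p + Z.index.factorization p =
        (Nat.card (G ⧸ N)).factorization p := by
      rw [← ha, Nat.factorization_mul hZ0 hZi0, Finsupp.add_apply]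
    have e2 : (Nat.card (G ⧸ N)).factorization p = (Nat.card G).factorization p := by
      rw [← hb, Nat.factorization_mul hQ0 hN0, Finsupp.add_apply,
        Nat.factorization_eq_zero_of_not_dvd (n := Nat.card N), add_zero]
      intro hdv
      exact hp.one_lt.ne' (Nat.eq_one_of_dvd_coprimes hNcop.symm (dvd_refl p) hdv)
    have e3 : (Nat.card (Subgroup.center PG)).factorization p +
        (Subgroup.center PG).index.factorization p = (Nat.card G).factorization p := by
      have : (Nat.card PG).factorization p = (Nat.card G).factorization p := by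
        rw [hc, hp.factorization_pow, Finsupp.single_eq_same]
      rw [← this, ← hd, Nat.factorization_mul hC0 hCi0, Finsupp.add_apply]
    have e4 : (Nat.card (Subgroup.center PG)).factorization p ≤ (Nat.card Z).factorization p :=
      (Nat.factorization_le_iff_dvd hC0 hZ0).mpr hdvd p
    omega

end Cfsg.Agent.Lib.Helper77_HtGroup
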