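import Mathlib
import Cfsg.Prelude.Def_Blocks
import Cfsg.Agent.S0964
import Cfsg.Agent.S0965
import Cfsg.Agent.S0966
import Cfsg.Agent.S0970
import Cfsg.Agent.Lib.Helper16_Cover
import Cfsg.Agent.Lib.Helper57_CoverUnder
import Cfsg.Agent.Lib.Helper77_BlockBasics
import Cfsg.Agent.Lib.Helper77_StableCover
import Cfsg.Agent.Lib.Helper78_LocalRing
import Cfsg.Agent.Lib.Helper78_CharFacts
import Cfsg.Agent.Lib.Helper78_Deficiency
import Cfsg.Agent.Lib.Helper78_MinMax
import Cfsg.Agent.Lib.Helper80_RelDegree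

/-!
# Blocks covering an invariant block of full defect (helper82)

Let `N` be a normal subgroup of `X` and `b` an `X`-invariant block of `N` containing a character
of degree prime to `p` (a block of full defect).

* `step_pow`: if `|X : N|` is a power of `p`, the irreducible characters of `X` over `b` form a
  block of `X` of full defect;
* `step_coprime`: the same if `p ∤ |X : N|` and `C_X(P) ≤ N` for every Sylow `p`-subgroup `P` of `N`
  (all covering blocks are regular with respect to `N`, hence coincide).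
-/

set_option autoImplicit false

namespace Cfsg.Agent.Lib.Helper82_CoverStep

open Cfsg Cfsg.Agent.Lib.Helper78_LocalRing Cfsg.Agent.Lib.Helper77_BlockBasics
  Cfsg.Agent.Lib.Helper78_CharFacts

universe u

variable {X : Type u} [Group X] [Fintype X] {p : ℕ} [Fact p.Prime] {M : Ideal AlgInt}

/-- `B` covers `b`. -/
def Covers (N : Subgroup X) [Fintype N] (B : Set (IrrCharacter X)) (b : Set (IrrCharacter N)) :
    Prop :=
  ∃ χ ∈ B, ∃ θ ∈ b, classInner (fun n : N => (χ : X → ℂ) n) (θ : N → ℂ) ≠ 0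

/-- `b` is invariant under conjugation by `X`. -/
def InvBlock (N : Subgroup X) [hN : N.Normal] (b : Set (IrrCharacter N)) : Prop :=
  ∀ g : X, ∀ θ ∈ b, ∀ θ' : IrrCharacter N,
    (∀ n : N, (θ' : N → ℂ) n = (θ : N → ℂ) ⟨g * n * g⁻¹, hN.conj_mem n n.2 g⟩) → θ' ∈ b

/-- The irreducible characters of `X` lying over a member of `b`. -/
def overB (N : Subgroup X) [Fintype N] (b : Set (IrrCharacter N)) : Set (IrrCharacter X) :=
  {χ | ∃ ψ ∈ b, classInner (fun n : N => (χ : X → ℂ) n) (ψ : N → ℂ) ≠ 0}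

omit [Fact p.Prime] in
/-- A set of irreducible characters containing one of degree prime to `p` has full defect. -/
theorem blockDefect_eq_of_full {Y : Type*} [Group Y] {B : Set (IrrCharacter Y)}
    {χ₀ : IrrCharacter Y} (h₀ : χ₀ ∈ B) (hdeg : ¬ p ∣ charDegree (χ₀ : Y → ℂ)) :
    blockDefect p B = (Nat.card Y).factorization p := by
  unfold blockDefect
  have h0 : (charDegree (χ₀ : Y → ℂ)).factorization p = 0 :=
    Nat.factorization_eq_zero_of_not_dvd hdeg
  have h1 : sInf ((fun χ : IrrCharacter Y => (charDegree (χ : Y → ℂ)).factorization p) '' B)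
      = 0 := by
    apply Nat.eq_zero_of_le_zero
    rw [← h0]
    exact Nat.sInf_le ⟨χ₀, h₀, rfl⟩
  rw [h1, Nat.sub_zero]

/-- A nonempty set of irreducible characters of full defect contains a character of degree prime
to `p`. -/
theorem exists_full_of_blockDefect {Y : Type*} [Group Y] [Finite Y] {B : Set (IrrCharacter Y)}
    (hne : B.Nonempty) (hd : blockDefect p B = (Nat.card Y).factorization p) :
    ∃ χ ∈ B, ¬ p ∣ charDegree (χ : Y → ℂ) := by
  have hp : p.Prime := Fact.out
  have hSne : ((fun χ : IrrCharacter Y => (charDegree (χ : Y → ℂ)).factorization p) ''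
      B).Nonempty := hne.image _
  obtain ⟨χ, hχ, hχe⟩ := Nat.sInf_mem hSne
  have hle := factorization_charDegree_le p χ
  unfold blockDefect at hd
  refine ⟨χ, hχ, ?_⟩
  intro hdvd
  have hpos := hp.factorization_pos_of_dvd (charDegree_pos χ).ne' hdvd
  simp only at hχe
  omega

section step

variable (N : Subgroup X) [hN : N.Normal] [Fintype N]

/-- Over a normal subgroup of index prime to `p`, a covering block inherits a character of
degree prime to `p`. -/
theorem exists_full_of_covers (hM : IsPModular p M) (hidx : ¬ p ∣ N.index)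
    {B : Set (IrrCharacter X)} (hB : IsPBlock M B) {b : Set (IrrCharacter N)}
    (hb : IsPBlock M b) (hcov : Covers N B b) {ψ₀ : IrrCharacter N} (hψ₀ : ψ₀ ∈ b)
    (hdeg : ¬ p ∣ charDegree (ψ₀ : N → ℂ)) :
    ∃ χ₀ ∈ B, ¬ p ∣ charDegree (χ₀ : X → ℂ) := by
  have hp : p.Prime := Fact.out
  obtain ⟨χ₀, hχ₀, hne⟩ :=
    Cfsg.Agent.Lib.Helper57_CoverUnder.exists_over_of_covers N hM hB hb hcov ψ₀ hψ₀
  obtain ⟨e, he, hediv⟩ := Cfsg.Agent.Lib.Helper80_RelDegree.rel_degree_dvd N (χ₀ : X → ℂ) χ₀.2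
    (ψ₀ : N → ℂ) ψ₀.2 hne _ _ (apply_one_eq_charDegree χ₀) (apply_one_eq_charDegree ψ₀)
  refine ⟨χ₀, hχ₀, ?_⟩
  rw [he]
  intro hdvd
  rcases (Nat.Prime.dvd_mul hp).mp hdvd with h | h
  · exact hidx (dvd_trans h hediv)
  · exact hdeg h

omit [Fintype N] in
/-- A block all of whose defect groups have centralizer inside `N` is regular with respect to
`N`: its central characters vanish (mod `M`) outside `N`. -/
theorem memLocalIdeal_centralChar_of_not_mem (hM : IsPModular p M)
    {B : Set (IrrCharacter X)} (hB : IsPBlock M B)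
    (hcent : ∀ D : Subgroup X, IsDefectGroup p M B D → Subgroup.centralizer (D : Set X) ≤ N)
    {χ : IrrCharacter X} (hχ : χ ∈ B) {x : X} (hx : x ∉ N) :
    MemLocalIdeal M (centralChar (χ : X → ℂ) x) := by
  by_contra hnot
  have hMp := isPrime_of_isPModular hM
  obtain ⟨g, hg⟩ := exists_isDefectClass' hMp hB
  obtain ⟨D⟩ : Nonempty (Sylow p (Subgroup.centralizer ({g} : Set X))) := inferInstance
  obtain ⟨y, hy⟩ := Cfsg.Agent.Lib.Helper78_MinMax.conj_le_centralizer_of_centralChar_not_mem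
    hM hB hg D x ⟨χ, hχ, hnot⟩
  set D' : Subgroup X := (D : Subgroup (Subgroup.centralizer ({g} : Set X))).map
    (Subgroup.centralizer ({g} : Set X)).subtype with hD'
  have hD'def : IsDefectGroup p M B D' := ⟨g, hg, D, rfl⟩
  have hc := hcent D' hD'def
  have hmem : y⁻¹ * x * y ∈ Subgroup.centralizer (D' : Set X) := by
    rw [Subgroup.mem_centralizer_iff]
    intro d hd
    have h1 : y * d * y⁻¹ ∈ Subgroup.centralizer ({x} : Set X) := by
      apply hy
      exact ⟨d, hd, by simp [MulAut.conj_apply]⟩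
    rw [Subgroup.mem_centralizer_iff] at h1
    have h2 := h1 x rfl
    calc d * (y⁻¹ * x * y) = y⁻¹ * ((y * d * y⁻¹) * x) * y := by group
      _ = y⁻¹ * (x * (y * d * y⁻¹)) * y := by rw [h2]
      _ = y⁻¹ * x * y * d := by group
  have h3 := hc hmem
  have h4 := hN.conj_mem _ h3 y
  have h5 : y * (y⁻¹ * x * y) * y⁻¹ = x := by group
  rw [h5] at h4
  exact hx h4

/-- Two blocks covering `b`, both regular with respect to `N`, coincide. -/
theorem eq_of_regular (hM : IsPModular p M) {B' B'' : Set (IrrCharacter X)}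
    (hB' : IsPBlock M B') (hB'' : IsPBlock M B'') {b : Set (IrrCharacter N)}
    (hb : IsPBlock M b) (hc' : Covers N B' b) (hc'' : Covers N B'' b)
    (hr' : ∀ χ ∈ B', ∀ x : X, x ∉ N → MemLocalIdeal M (centralChar (χ : X → ℂ) x))
    (hr'' : ∀ χ ∈ B'', ∀ x : X, x ∉ N → MemLocalIdeal M (centralChar (χ : X → ℂ) x)) :
    B' = B'' := by
  have hMp := isPrime_of_isPModular hM
  obtain ⟨θ, hθ⟩ := isPBlock_nonempty hMp hb
  obtain ⟨χ', hχ'⟩ := isPBlock_nonempty hMp hB'
  obtain ⟨χ'', hχ''⟩ := isPBlock_nonempty hMp hB''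
  have h1 := (Cfsg.Agent.S0965.result p M hM N B' hB' b hb).mp hc'
  have h2 := (Cfsg.Agent.S0965.result p M hM N B'' hB'' b hb).mp hc''
  have hsb : SameBlock M (χ' : X → ℂ) (χ'' : X → ℂ) := by
    intro x
    by_cases hx : x ∈ N
    · have e1 := h1 χ' hχ' θ hθ ⟨x, hx⟩
      have e2 := h2 χ'' hχ'' θ hθ ⟨x, hx⟩
      have e3 := memLocalIdeal_sub hMp e1 e2
      have e4 : centralChar (χ' : X → ℂ) x - inducedCentralChar N (θ : N → ℂ) x -
          (centralChar (χ'' : X → ℂ) x - inducedCentralChar N (θ : N → ℂ) x) =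
          centralChar (χ' : X → ℂ) x - centralChar (χ'' : X → ℂ) x := by ring
      rw [← e4]
      exact e3
    · exact memLocalIdeal_sub hMp (hr' χ' hχ' x hx) (hr'' χ'' hχ'' x hx)
  exact isPBlock_eq_of_mem_of_mem hMp hB' hB''
    (isPBlock_mem_of_sameBlock hMp hB' hχ' (sameBlock_refl hMp _))
    (isPBlock_mem_of_sameBlock hMp hB'' hχ'' (sameBlock_symm hsb))

/-- If `B` is the only block covering the invariant block `b`, then `B` consists of the
irreducible characters over `b`. -/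
theorem overB_eq_of_unique (hM : IsPModular p M) {b : Set (IrrCharacter N)} (hb : IsPBlock M b)
    (hinv : InvBlock N b) {B : Set (IrrCharacter X)} (hB : IsPBlock M B) (hcov : Covers N B b)
    (huniq : ∀ B' : Set (IrrCharacter X), IsPBlock M B' → Covers N B' b → B' = B) :
    overB N b = B := by
  have hMp := isPrime_of_isPModular hM
  ext χ
  constructor
  · rintro ⟨ψ, hψ, hne⟩
    have h1 := huniq (blockOf M (χ : X → ℂ)) (isPBlock_blockOf χ)
      ⟨χ, mem_blockOf_self hMp χ, ψ, hψ, hne⟩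
    rw [← h1]
    exact mem_blockOf_self hMp χ
  · intro hχ
    obtain ⟨χ₀, hχ₀, θ₀, hθ₀, h0⟩ := hcov
    obtain ⟨ψ, hψ⟩ := Cfsg.Agent.Lib.Helper77_StableCover.exists_under N χ
    obtain ⟨g, θ', hθ', hconj⟩ := Cfsg.Agent.S0964.result p M hM N B hB b hb χ₀ hχ₀ θ₀ hθ₀ h0
      χ hχ ψ hψ
    exact ⟨ψ, hinv g θ' hθ' ψ hconj, hψ⟩

/-- **The `p`-power step.** -/
theorem step_pow (hM : IsPModular p M) (hidx : ∃ k : ℕ, N.index = p ^ k)
    {b : Set (IrrCharacter N)} (hb : IsPBlock M b) (hinv : InvBlock N b)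
    (hfull : ∃ ψ₀ ∈ b, ¬ p ∣ charDegree (ψ₀ : N → ℂ)) :
    IsPBlock M (overB N b) ∧ ∃ χ₀ ∈ overB N b, ¬ p ∣ charDegree (χ₀ : X → ℂ) := by
  have hMp := isPrime_of_isPModular hM
  obtain ⟨B, ⟨hB, hcov⟩, huniq⟩ := Cfsg.Agent.S0966.result p M hM N hidx b hb
  have huniq' : ∀ B' : Set (IrrCharacter X), IsPBlock M B' → Covers N B' b → B' = B :=
    fun B' hB' hc' => huniq B' ⟨hB', hc'⟩
  have hover : overB N b = B := overB_eq_of_unique N hM hb hinv hB hcov huniq'
  rw [hover]
  refine ⟨hB, ?_⟩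
  obtain ⟨ψ₀, hψ₀, hdeg⟩ := hfull
  obtain ⟨P, hP⟩ := Cfsg.Agent.Lib.Helper78_Deficiency.exists_isDefectGroup hM hB
  have hmax : ∀ B' : Set (IrrCharacter X), IsPBlock M B' →
      (∃ χ ∈ B', ∃ θ ∈ b, classInner (fun n : N => (χ : X → ℂ) n) (θ : N → ℂ) ≠ 0) →
      blockDefect p B' ≤ blockDefect p B := by
    intro B' hB' hc'
    rw [huniq' B' hB' hc']
  obtain ⟨-, -, hdef⟩ := Cfsg.Agent.S0970.result p M hM N b hb hinv B hB hcov hmax P hP
  have hbd : blockDefect p b = (Nat.card N).factorization p := blockDefect_eq_of_full hψ₀ hdeg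
  apply exists_full_of_blockDefect (isPBlock_nonempty hMp hB)
  rw [hdef, hbd, ← Subgroup.card_mul_index N,
    Nat.factorization_mul (Nat.card_pos (α := N)).ne' (Subgroup.index_ne_zero_of_finite),
    Finsupp.add_apply]

/-- **The `p'` step.** -/
theorem step_coprime (hM : IsPModular p M) (hidx : ¬ p ∣ N.index)
    (hcent : ∀ P : Subgroup X, P ≤ N →
      Nat.card P = p ^ (Nat.card N).factorization p → Subgroup.centralizer (P : Set X) ≤ N)
    {b : Set (IrrCharacter N)} (hb : IsPBlock M b) (hinv : InvBlock N b)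
    (hfull : ∃ ψ₀ ∈ b, ¬ p ∣ charDegree (ψ₀ : N → ℂ)) :
    IsPBlock M (overB N b) ∧ ∃ χ₀ ∈ overB N b, ¬ p ∣ charDegree (χ₀ : X → ℂ) := by
  have hMp := isPrime_of_isPModular hM
  have hp : p.Prime := Fact.out
  obtain ⟨ψ₀, hψ₀, hdeg⟩ := hfull
  have hbd : blockDefect p b = (Nat.card N).factorization p := blockDefect_eq_of_full hψ₀ hdeg
  have hcardeq : (Nat.card X).factorization p = (Nat.card N).factorization p := by
    rw [← Subgroup.card_mul_index N,
      Nat.factorization_mul (Nat.card_pos (α := N)).ne' (Subgroup.index_ne_zero_of_finite),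
      Finsupp.add_apply, Nat.factorization_eq_zero_of_not_dvd hidx, add_zero]
  -- every covering block is regular
  have hreg : ∀ B' : Set (IrrCharacter X), IsPBlock M B' → Covers N B' b →
      (∃ χ₀ ∈ B', ¬ p ∣ charDegree (χ₀ : X → ℂ)) ∧
      ∀ χ ∈ B', ∀ x : X, x ∉ N → MemLocalIdeal M (centralChar (χ : X → ℂ) x) := by
    intro B' hB' hc'
    obtain ⟨χ₀, hχ₀, hχdeg⟩ := exists_full_of_covers N hM hidx hB' hb hc' hψ₀ hdeg
    refine ⟨⟨χ₀, hχ₀, hχdeg⟩, ?_⟩
    have hBd : blockDefect p B' = (Nat.card X).factorization p :=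
      blockDefect_eq_of_full hχ₀ hχdeg
    have hmax : ∀ B'' : Set (IrrCharacter X), IsPBlock M B'' →
        (∃ χ ∈ B'', ∃ θ ∈ b, classInner (fun n : N => (χ : X → ℂ) n) (θ : N → ℂ) ≠ 0) →
        blockDefect p B'' ≤ blockDefect p B' := by
      intro B'' _ _
      rw [hBd]
      unfold blockDefect
      exact Nat.sub_le _ _
    have hcent' : ∀ D : Subgroup X, IsDefectGroup p M B' D →
        Subgroup.centralizer (D : Set X) ≤ N := by
      intro D hD
      obtain ⟨-, hDN, -⟩ := Cfsg.Agent.S0970.result p M hM N b hb hinv B' hB' hc' hmax D hD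
      have hcard := Cfsg.Agent.Lib.Helper78_Deficiency.card_isDefectGroup hM hb hDN
      rw [hbd] at hcard
      have hcard' : Nat.card ((D ⊓ N : Subgroup X)) = p ^ (Nat.card N).factorization p := by
        rw [← hcard]
        exact (Nat.card_congr (Subgroup.subgroupOfEquivOfLe (inf_le_right)).toEquiv).symm
      have h1 := hcent (D ⊓ N) inf_le_right hcard'
      exact le_trans (Subgroup.centralizer_le (by
        intro d hd
        exact (inf_le_left : D ⊓ N ≤ D) hd)) h1
    intro χ hχ x hx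
    exact memLocalIdeal_centralChar_of_not_mem N hM hB' hcent' hχ hx
  -- existence of a covering block
  obtain ⟨χ₁, hχ₁⟩ := Cfsg.Agent.Lib.Helper16_Cover.exists_over N ψ₀
  set B := blockOf M (χ₁ : X → ℂ) with hBdef
  have hB : IsPBlock M B := isPBlock_blockOf χ₁
  have hcov : Covers N B b := ⟨χ₁, mem_blockOf_self hMp χ₁, ψ₀, hψ₀, hχ₁⟩
  have huniq : ∀ B' : Set (IrrCharacter X), IsPBlock M B' → Covers N B' b → B' = B := by
    intro B' hB' hc'
    exact eq_of_regular N hM hB' hB hb hc' hcov (hreg B' hB' hc').2 (hreg B hB hcov).2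
  have hover : overB N b = B := overB_eq_of_unique N hM hb hinv hB hcov huniq
  rw [hover]
  exact ⟨hB, (hreg B hB hcov).1⟩

end step

end Cfsg.Agent.Lib.Helper82_CoverStep
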