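import Mathlib
import Cfsg.Prelude.Def_Blocks
import Cfsg.Agent.S0914
import Cfsg.Agent.Lib.Helper75_CharArith
import Cfsg.Agent.Lib.Helper78_TransportBlocks
import Cfsg.Agent.Lib.Helper82_CoverStep

/-!
# Irreducible characters over a fixed character of a subgroup, via a homomorphism (helper82)

For a homomorphism `ι : K₀ →* Y` and `θ : K₀ → ℂ`, `overSet ι θ` is the set of irreducible
characters `ψ` of `Y` with `[ψ ∘ ι, θ] ≠ 0`.  This form makes towers `K₀ → N → X` and transport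
along isomorphisms painless.
-/

set_option autoImplicit false

namespace Cfsg.Agent.Lib.Helper82_OverSet

open Cfsg Cfsg.Agent.Lib.Helper78_LocalRing Cfsg.Agent.Lib.Helper77_BlockBasics
  Cfsg.Agent.Lib.Helper82_CoverStep Cfsg.Agent.Lib.Helper78_TransportBlocks
  Cfsg.Agent.Lib.Helper78_Transport Cfsg.Agent.Lib.Helper75_CharArith
  Cfsg.Agent.Lib.Helper3_CharBridge Cfsg.Agent.Lib.Helper3_CharOrtho

universe u

variable {K₀ : Type u} [Group K₀] [Fintype K₀]

/-- The irreducible characters of `Y` lying over `θ` (through `ι`). -/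
def overSet {Y : Type u} [Group Y] (ι : K₀ →* Y) (θ : K₀ → ℂ) : Set (IrrCharacter Y) :=
  {ψ | classInner (fun k => (ψ : Y → ℂ) (ι k)) θ ≠ 0}

theorem mem_overSet {Y : Type u} [Group Y] (ι : K₀ →* Y) (θ : K₀ → ℂ) (ψ : IrrCharacter Y) :
    ψ ∈ overSet ι θ ↔ classInner (fun k => (ψ : Y → ℂ) (ι k)) θ ≠ 0 := Iff.rfl

/-- **Transitivity**: the characters of `X` over `θ` are those over a character of `N` over `θ`. -/
theorem overSet_comp_subtype {X : Type u} [Group X] [Fintype X] (N : Subgroup X) [Fintype N]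
    (ι : K₀ →* N) (θ : IrrCharacter K₀) :
    overSet (N.subtype.comp ι) (θ : K₀ → ℂ) = overB N (overSet ι (θ : K₀ → ℂ)) := by
  classical
  ext χ
  have hφ : IsCharacter N (fun n : N => (χ : X → ℂ) n) :=
    isCharacter_restrict N (isCharacter_of_isIrrCharacter χ.2)
  obtain ⟨m, hm, hsum⟩ := exists_multiplicities hφ
  have hθ : IsCharacter K₀ (θ : K₀ → ℂ) := isCharacter_of_isIrrCharacter θ.2
  have hn : ∀ ψ : IrrCharacter N, ∃ n : ℕ,
      classInner (fun k => (ψ : N → ℂ) (ι k)) (θ : K₀ → ℂ) = n := fun ψ =>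
    classInner_isCharacter_nat (isCharacter_comp ι (isCharacter_of_isIrrCharacter ψ.2)) hθ
  choose n hn using hn
  have hfun : (fun k => (χ : X → ℂ) ((N.subtype.comp ι) k)) =
      ∑ ψ : IrrCharacter N, (m ψ : ℂ) • (fun k => (ψ : N → ℂ) (ι k)) := by
    funext k
    have h1 := congrFun hsum (ι k)
    simp only [Finset.sum_apply, Pi.smul_apply, smul_eq_mul] at h1 ⊢
    exact h1
  have hinner : classInner (fun k => (χ : X → ℂ) ((N.subtype.comp ι) k)) (θ : K₀ → ℂ) =
      ((∑ ψ : IrrCharacter N, m ψ * n ψ : ℕ) : ℂ) := by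
    rw [hfun, classInner_sum_left]
    push_cast
    refine Finset.sum_congr rfl fun ψ _ => ?_
    rw [classInner_smul_left, hn ψ]
  rw [mem_overSet, hinner]
  constructor
  · intro h
    have h1 : (∑ ψ : IrrCharacter N, m ψ * n ψ) ≠ 0 := by
      intro h0
      rw [h0] at h
      exact h (by simp)
    obtain ⟨ψ, -, hψ⟩ := Finset.exists_ne_zero_of_sum_ne_zero h1
    refine ⟨ψ, ?_, ?_⟩
    · rw [mem_overSet, hn ψ]
      intro h0
      have : n ψ = 0 := by exact_mod_cast h0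
      rw [this, mul_zero] at hψ
      exact hψ rfl
    · rw [hm ψ]
      intro h0
      have : m ψ = 0 := by exact_mod_cast h0
      rw [this, zero_mul] at hψ
      exact hψ rfl
  · rintro ⟨ψ, hψ, hne⟩
    rw [mem_overSet, hn ψ] at hψ
    rw [hm ψ] at hne
    have h1 : n ψ ≠ 0 := fun h0 => hψ (by rw [h0]; simp)
    have h2 : m ψ ≠ 0 := fun h0 => hne (by rw [h0]; simp)
    have h3 : m ψ * n ψ ≤ ∑ ψ : IrrCharacter N, m ψ * n ψ :=
      Finset.single_le_sum (f := fun ψ => m ψ * n ψ) (fun _ _ => Nat.zero_le _) (Finset.mem_univ ψ)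
    have h4 : 0 < m ψ * n ψ := Nat.mul_pos (Nat.pos_of_ne_zero h2) (Nat.pos_of_ne_zero h1)
    have h5 : (∑ ψ : IrrCharacter N, m ψ * n ψ) ≠ 0 := by omega
    exact_mod_cast h5

open scoped ComplexConjugate in
/-- Reindexing the inner product by a bijection preserving `θ`. -/
theorem classInner_comp_equiv (σ : K₀ ≃ K₀) (f θ : K₀ → ℂ) (hθ : ∀ k, θ (σ k) = θ k) :
    classInner (fun k => f (σ k)) θ = classInner f θ := by
  unfold classInner
  congr 1
  rw [← Equiv.sum_comp σ (fun k => f k * conj (θ k))]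
  refine Finset.sum_congr rfl fun k _ => ?_
  rw [hθ k]

/-- If `θ` is invariant under the conjugation action of `X` (through `ι'`), then the set of
characters of the normal subgroup `Nn` over `θ` is `X`-invariant. -/
theorem invBlock_overSet {X : Type u} [Group X] (Nn : Subgroup X) [hNn : Nn.Normal]
    (ι' : K₀ →* Nn) (θ : K₀ → ℂ)
    (hσ : ∀ g : X, ∃ σ : K₀ ≃ K₀,
      (∀ k, ((ι' (σ k) : Nn) : X) = g * ((ι' k : Nn) : X) * g⁻¹) ∧ ∀ k, θ (σ k) = θ k) :
    InvBlock Nn (overSet ι' θ) := by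
  intro g θ₁ hθ₁ θ₁' hconj
  obtain ⟨σ, hσ1, hσ2⟩ := hσ g
  rw [mem_overSet] at hθ₁ ⊢
  have h1 : (fun k => (θ₁' : Nn → ℂ) (ι' k)) = fun k => (θ₁ : Nn → ℂ) (ι' (σ k)) := by
    funext k
    rw [hconj (ι' k)]
    have h2 : (⟨g * ((ι' k : Nn) : X) * g⁻¹, hNn.conj_mem (ι' k) (ι' k).2 g⟩ : Nn) = ι' (σ k) :=
      Subtype.ext (hσ1 k).symm
    rw [h2]
  rw [h1, classInner_comp_equiv σ (fun k => (θ₁ : Nn → ℂ) (ι' k)) θ hσ2]
  exact hθ₁

/-- Transport of `overSet` along an isomorphism. -/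
theorem mapBlock_overSet {Y Y' : Type u} [Group Y] [Group Y'] (φ : Y' ≃* Y) (ι : K₀ →* Y)
    (θ : K₀ → ℂ) :
    mapBlock φ (overSet ι θ) = overSet ((φ.symm : Y →* Y').comp ι) θ := by
  ext ξ
  rw [mem_mapBlock_iff, mem_overSet, mem_overSet]
  rfl

theorem charDegree_irrComp {Y Y' : Type u} [Group Y] [Group Y'] (φ : Y' ≃* Y)
    (χ : IrrCharacter Y) : charDegree (irrComp φ χ : Y' → ℂ) = charDegree (χ : Y → ℂ) := by
  unfold charDegree
  rw [irrComp_apply, map_one]

/-- Transport of "block containing a character of degree prime to `p`". -/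
theorem full_mapBlock {Y Y' : Type u} [Group Y] [Group Y'] {p : ℕ} (φ : Y' ≃* Y)
    {B : Set (IrrCharacter Y)} (h : ∃ χ ∈ B, ¬ p ∣ charDegree (χ : Y → ℂ)) :
    ∃ ξ ∈ mapBlock φ B, ¬ p ∣ charDegree (ξ : Y' → ℂ) := by
  obtain ⟨χ, hχ, hdeg⟩ := h
  exact ⟨irrComp φ χ, irrComp_mem_mapBlock φ hχ, by rw [charDegree_irrComp]; exact hdeg⟩

/-- **Base case**: over itself, an irreducible character `θ` of a `p'`-group is alone, forms a
block, and has degree prime to `p`. -/
theorem base {p : ℕ} [Fact p.Prime] {M : Ideal AlgInt} (hM : IsPModular p M)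
    (hK : (Nat.card K₀).Coprime p) (θ : IrrCharacter K₀) :
    IsPBlock M (overSet (MonoidHom.id K₀) (θ : K₀ → ℂ)) ∧
      ∃ ψ ∈ overSet (MonoidHom.id K₀) (θ : K₀ → ℂ), ¬ p ∣ charDegree (ψ : K₀ → ℂ) := by
  have hp : p.Prime := Fact.out
  have hMp := isPrime_of_isPModular hM
  have hnd : ∀ ψ : IrrCharacter K₀, ¬ p ∣ charDegree (ψ : K₀ → ℂ) := by
    intro ψ hdvd
    have h1 := dvd_trans hdvd (charDegree_dvd_card ψ)
    exact hp.one_lt.ne' (Nat.eq_one_of_dvd_coprimes hK.symm (dvd_refl p) h1)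
  have hset : overSet (MonoidHom.id K₀) (θ : K₀ → ℂ) = {θ} := by
    ext ψ
    rw [mem_overSet, Set.mem_singleton_iff]
    show classInner (ψ : K₀ → ℂ) (θ : K₀ → ℂ) ≠ 0 ↔ ψ = θ
    constructor
    · intro h
      by_contra hne
      exact h (classInner_of_isIrrCharacter_of_ne ψ.2 θ.2 (fun h' => hne (Subtype.ext h')))
    · rintro rfl
      rw [classInner_self_of_isIrrCharacter ψ.2]
      exact one_ne_zero
  rw [hset]
  refine ⟨?_, θ, rfl, hnd θ⟩
  have h1 : ¬ p ∣ Nat.card K₀ / charDegree (θ : K₀ → ℂ) := by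
    intro hdvd
    have h2 : p ∣ Nat.card K₀ :=
      dvd_trans hdvd (Nat.div_dvd_of_dvd (charDegree_dvd_card θ))
    have := Nat.eq_one_of_dvd_coprimes hK.symm (dvd_refl p) h2
    exact hp.one_lt.ne' this
  have h2 := (Cfsg.Agent.S0914.result p M hM θ).mp h1
  rw [← h2]
  exact isPBlock_blockOf θ

end Cfsg.Agent.Lib.Helper82_OverSet
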