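import Mathlib
import Cfsg.Prelude.Def_Blocks
import Cfsg.Prelude.Def_Local
import Cfsg.Agent.Lib.Helper77_HtGroup
import Cfsg.Agent.Lib.Helper77_HtChar
import Cfsg.Agent.Lib.Helper77_FongReynolds
import Cfsg.Agent.Lib.Helper82_OverSet
import Cfsg.Agent.Lib.Helper80_RelDegree
import Cfsg.Agent.Lib.Helper78_BrauerCorr

set_option autoImplicit false

namespace Cfsg.Agent.Lib.Helper77_HtInv

open scoped ComplexConjugate
open Cfsg Cfsg.Agent.Lib.Helper77_HtGroup Cfsg.Agent.Lib.Helper77_HtChar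
  Cfsg.Agent.Lib.Helper77_FongReynolds Cfsg.Agent.Lib.Helper82_OverSet
  Cfsg.Agent.Lib.Helper78_Transport Cfsg.Agent.Lib.Helper78_TransportBlocks
  Cfsg.Agent.Lib.Helper82_CoverStep Cfsg.Agent.Lib.Helper76_PSolvable

universe u

variable {G : Type u} [Group G] [Fintype G] (p : ℕ) [Fact p.Prime]

/-- The invariant case: `θ` an invariant irreducible character of `N = O_{p'}(G)`, `G` `p`-solvable,
`χ` over `θ`, `P` a Sylow `p`-subgroup: `χ(1)_p ≤ |P : Z(P)|`. -/
theorem degree_le_of_invariant (hsol : IsPSolvable p G) (N : Subgroup G) [hN : N.Normal]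
    [Fintype N] (hNdef : N = pPrimeCore p G) (θ : IrrCharacter N)
    (hinv : ∀ (g : G) (n : N), (θ : N → ℂ) ⟨g * n * g⁻¹, hN.conj_mem n n.2 g⟩ = (θ : N → ℂ) n)
    (χ : IrrCharacter G) (hχ : classInner (fun n : N => (χ : G → ℂ) n) (θ : N → ℂ) ≠ 0)
    (P : Sylow p G) :
    (charDegree (χ : G → ℂ)).factorization p ≤
      ((Subgroup.center (P : Subgroup G)).index).factorization p := by
  classical
  have hp : p.Prime := Fact.out
  obtain ⟨W, hWn, hNW, hab, ⟨k, hk⟩, hidx⟩ := exists_abelian_section p hsol P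
  rw [← hNdef] at hNW hab hk
  have hFW : Fintype W := Fintype.ofFinite W
  have hNcop : (Nat.card N).Coprime p := by
    rw [hNdef]; exact pPrimeCore_card_coprime p
  -- a constituent `φ` of `χ|_W` over `θ`
  set ι : N →* W := Subgroup.inclusion hNW with hι
  have hmem : χ ∈ overSet (W.subtype.comp ι) (θ : N → ℂ) := hχ
  rw [overSet_comp_subtype W ι θ] at hmem
  obtain ⟨φ, hφθ, hχφ⟩ := hmem
  rw [mem_overSet] at hφθ
  -- degrees
  set K : Subgroup W := N.subgroupOf W with hK
  have hKn : K.Normal := by rw [hK]; infer_instance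
  have hFK : Fintype K := Fintype.ofFinite K
  set e : K ≃* N := Subgroup.subgroupOfEquivOfLe hNW with he
  have hover : classInner (Cfsg.Agent.Lib.Helper75_Clifford.res K (φ : W → ℂ))
      (irrComp e θ : K → ℂ) ≠ 0 := by
    have h1 := classInner_resN_eq hNW (φ : W → ℂ) θ
    have h2 : resN hNW (φ : W → ℂ) = fun k => (φ : W → ℂ) (ι k) := rfl
    rw [h2] at h1
    rw [← h1] at hφθ
    exact hφθ
  have hcardK : Nat.card K = Nat.card N :=
    Cfsg.Agent.Lib.Helper78_BrauerCorr.card_subgroupOf_of_le hNW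
  have hKidx : K.index = p ^ k := by
    rw [hK, ← hk]
    rfl
  have hcop : Nat.Coprime (Nat.card K) K.index := by
    rw [hcardK, hKidx]
    exact Nat.Coprime.pow_right k hNcop
  have habW : ∀ x y : W, x * y * x⁻¹ * y⁻¹ ∈ K := by
    intro x y
    rw [hK, Subgroup.mem_subgroupOf]
    exact hab x x.2 y y.2
  have hinvW : ∀ (g : W) (n : K), (irrComp e θ : K → ℂ)
      ⟨g * n * g⁻¹, hKn.conj_mem (n : W) n.2 g⟩ = (irrComp e θ : K → ℂ) n := by
    intro g n
    rw [irrComp_apply, irrComp_apply]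
    have := hinv (g : G) (e n)
    rw [← this]
    congr 1
  have hdeg := degree_eq_of_abelian_coprime K habW hcop (irrComp e θ : K → ℂ) (irrComp e θ).2
    hinvW (φ : W → ℂ) φ.2 hover
  have hθ1 : (irrComp e θ : K → ℂ) 1 = (θ : N → ℂ) 1 := by
    rw [irrComp_apply, map_one]
  rw [hθ1] at hdeg
  -- relative degree
  have hc := Cfsg.Agent.Lib.Helper77_BlockBasics.apply_one_eq_charDegree χ
  have hd := Cfsg.Agent.Lib.Helper77_BlockBasics.apply_one_eq_charDegree θ
  rw [hd] at hdeg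
  obtain ⟨r, hr, hrdvd⟩ := Cfsg.Agent.Lib.Helper80_RelDegree.rel_degree_dvd W (χ : G → ℂ) χ.2
    (φ : W → ℂ) φ.2 hχφ _ _ hc hdeg
  have hθdvd : charDegree (θ : N → ℂ) ∣ Nat.card N :=
    Cfsg.Agent.Lib.Helper77_BlockBasics.charDegree_dvd_card θ
  have hθ0 : (charDegree (θ : N → ℂ)).factorization p = 0 := by
    apply Nat.factorization_eq_zero_of_not_dvd
    intro hdv
    exact hp.one_lt.ne' (Nat.eq_one_of_dvd_coprimes hNcop.symm (dvd_refl p) (hdv.trans hθdvd))
  have hχpos := Cfsg.Agent.Lib.Helper77_BlockBasics.charDegree_pos χ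
  have hθpos := Cfsg.Agent.Lib.Helper77_BlockBasics.charDegree_pos θ
  have hr0 : r ≠ 0 := by
    rintro rfl
    rw [zero_mul] at hr
    omega
  have hWi0 : W.index ≠ 0 := Subgroup.index_ne_zero_of_finite
  have h1 : (charDegree (χ : G → ℂ)).factorization p = r.factorization p := by
    rw [hr, Nat.factorization_mul hr0 hθpos.ne', Finsupp.add_apply, hθ0, add_zero]
  have h2 : r.factorization p ≤ W.index.factorization p :=
    (Nat.factorization_le_iff_dvd hr0 hWi0).mpr hrdvd p
  omega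

end Cfsg.Agent.Lib.Helper77_HtInv
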