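import Mathlib
import Cfsg.Prelude.Def_Blocks
import Cfsg.Prelude.Def_BlockLocal
import Cfsg.Agent.Lib.Helper77_FongReynolds2
import Cfsg.Agent.Lib.Helper16_Fong

/-!
# The defect of the unique block covering a block of a normal subgroup (helper77)
-/

set_option autoImplicit false
set_option linter.unusedSectionVars false

namespace Cfsg.Agent.Lib.Helper77_StabDefect

open Cfsg Cfsg.Agent.Lib.Helper16_Char Cfsg.Agent.Lib.Helper16_Clifford
  Cfsg.Agent.Lib.Helper16_Orbit Cfsg.Agent.Lib.Helper16_Cover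
  Cfsg.Agent.Lib.Helper78_LocalRing Cfsg.Agent.Lib.Helper78_Osima
  Cfsg.Agent.Lib.Helper78_CentralChar Cfsg.Agent.Lib.Helper78_CharFacts
  Cfsg.Agent.Lib.Helper77_StableCover Cfsg.Agent.Lib.Helper77_BlockBasics
  Cfsg.Agent.Lib.Helper77_NormalPair Cfsg.Agent.Lib.Helper77_InvHeightZero
  Cfsg.Agent.Lib.Helper78_Transport Cfsg.Agent.Lib.Helper78_TransportBlocks
  Cfsg.Agent.Lib.Helper77_FongReynolds Cfsg.Agent.Lib.Helper77_FongReynolds2
open scoped ComplexConjugate

universe u

section transport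

variable {G : Type u} [Group G] [Finite G] {H : Type u} [Group H] {M : Ideal AlgInt} {p : ℕ}
  [Fact p.Prime]

/-- Transport along an isomorphism preserves the defect. -/
theorem blockDefect_mapBlock (hM : IsPModular p M) (φ : H ≃* G) {B : Set (IrrCharacter G)}
    (hB : IsPBlock M B) : blockDefect p (mapBlock φ B) = blockDefect p B := by
  have : Finite H := Finite.of_equiv G φ.symm.toEquiv
  obtain ⟨D, hD⟩ := Cfsg.Agent.Lib.Helper78_Deficiency.exists_isDefectGroup hM hB
  have h1 := Cfsg.Agent.Lib.Helper78_Deficiency.card_isDefectGroup hM hB hD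
  have h2 := Cfsg.Agent.Lib.Helper78_Deficiency.card_isDefectGroup hM (isPBlock_mapBlock φ hB)
    (isDefectGroup_mapBlock φ hD)
  rw [Subgroup.card_map_of_injective φ.symm.injective, h1] at h2
  exact (Nat.pow_right_injective (Fact.out : p.Prime).two_le h2).symm

end transport

section main

variable {G : Type u} [Group G] [Fintype G] {N : Subgroup G} [hN : N.Normal] [Fintype N]
  {M : Ideal AlgInt} {T : Subgroup G} [Fintype T] {b : Set (IrrCharacter N)}

/-- If `β` is the only block of `G` covering the block `b` of the normal subgroup `N`, and `T` is the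
stabilizer of `b`, then `d(β) = d(b) + ν_p(|T : N|)`. -/
theorem blockDefect_of_unique_cover (hNT : N ≤ T) (p : ℕ) [Fact p.Prime] (hM : IsPModular p M)
    (hb : IsPBlock M b) (hT : ∀ g : G, g ∈ T ↔ ∀ θ ∈ b, cjIrr N g θ ∈ b)
    {β : Set (IrrCharacter G)} (hβ : IsPBlock M β)
    (hcov : ∃ χ ∈ β, ∃ θ ∈ b, classInner (fun n : N => (χ : G → ℂ) n) (θ : N → ℂ) ≠ 0)
    (huniq : ∀ B : Set (IrrCharacter G), IsPBlock M B →
      (∃ χ ∈ B, ∃ θ ∈ b, classInner (fun n : N => (χ : G → ℂ) n) (θ : N → ℂ) ≠ 0) → B = β) :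
    blockDefect p β = blockDefect p b + (N.relIndex T).factorization p := by
  classical
  have hMp := isPrime_of_isPModular hM
  obtain ⟨B', hB', hcov', hind⟩ := fr_part3 hNT hMp hb hT hβ hcov
  -- the defects of `B'` and `β` agree
  have hdef : blockDefect p β = blockDefect p B' := by
    obtain ⟨D, hD⟩ := Cfsg.Agent.Lib.Helper78_Deficiency.exists_isDefectGroup hM hB'
    have hD' := (fr_heights hNT p hM hb hT hB' hcov' hind).1 D hD
    have h1 := Cfsg.Agent.Lib.Helper78_Deficiency.card_isDefectGroup hM hB' hD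
    have h2 := Cfsg.Agent.Lib.Helper78_Deficiency.card_isDefectGroup hM hβ hD'
    rw [Subgroup.card_map_of_injective T.subtype_injective, h1] at h2
    exact (Nat.pow_right_injective (Fact.out : p.Prime).two_le h2).symm
  rw [hdef]
  -- Fong's theorem in `T`
  have hn : (N.subgroupOf T).Normal := hN.subgroupOf T
  have : Fintype (N.subgroupOf T) := Fintype.ofFinite _
  set φ := Subgroup.subgroupOfEquivOfLe hNT with hφ
  have hb' : IsPBlock M (mapBlock φ b) := isPBlock_mapBlock φ hb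
  have hst : ∀ x : T, ∀ θ ∈ mapBlock φ b, cjIrr (N.subgroupOf T) x θ ∈ mapBlock φ b := by
    intro x
    rw [← stabilizes_iff]
    exact stabilizes_mapBlock N T hNT b (fun k hk ξ hξ => (hT k).mp hk ξ hξ) x
  -- covering, in both forms
  have hcovIff : ∀ B'' : Set (IrrCharacter T),
      (∃ χ ∈ B'', ∃ θ ∈ mapBlock φ b, classInner (fun n : N.subgroupOf T => (χ : T → ℂ) n)
        (θ : N.subgroupOf T → ℂ) ≠ 0) ↔
      ∃ ψ ∈ B'', ∃ θ ∈ b, classInner (resN hNT (ψ : T → ℂ)) (θ : N → ℂ) ≠ 0 := by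
    intro B''
    constructor
    · rintro ⟨χ, hχ, θ', ⟨θ, hθ, rfl⟩, h⟩
      rw [classInner_resN_eq] at h
      exact ⟨χ, hχ, θ, hθ, h⟩
    · rintro ⟨χ, hχ, θ, hθ, h⟩
      refine ⟨χ, hχ, irrComp φ θ, irrComp_mem_mapBlock φ hθ, ?_⟩
      rw [classInner_resN_eq]
      exact h
  have hmax : ∀ B'' : Set (IrrCharacter T), IsPBlock M B'' →
      (∃ χ ∈ B'', ∃ θ ∈ mapBlock φ b, classInner (fun n : N.subgroupOf T => (χ : T → ℂ) n)
        (θ : N.subgroupOf T → ℂ) ≠ 0) → blockDefect p B'' ≤ blockDefect p B' := by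
    intro B'' hB'' hc''
    have hc := (hcovIff B'').mp hc''
    obtain ⟨S, hS, hScov, -, -⟩ := fr_part1 hNT hMp hb hT hB'' hc
    have hSβ : S = β := huniq S hS.2.1 hScov
    rw [hSβ] at hS
    rw [fr_part2 hNT hMp hb hT hB'' hB' hc hcov' hS hind]
  obtain ⟨D, hD⟩ := Cfsg.Agent.Lib.Helper78_Deficiency.exists_isDefectGroup hM hB'
  have hfong := Cfsg.Agent.Lib.Helper16_Fong.fong (N.subgroupOf T) hM hb' hst hB'
    ((hcovIff B').mpr hcov') hmax hD
  rw [hfong.2.2, blockDefect_mapBlock hM φ hb]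
  rfl

end main

end Cfsg.Agent.Lib.Helper77_StabDefect
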