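import Mathlib
import Cfsg.Prelude.Def_Blocks
import Cfsg.Prelude.Def_BlockLocal
import Cfsg.Agent.Lib.Helper77_StabDefect
import Cfsg.Agent.Lib.Helper78_ExtFirstMain

set_option autoImplicit false
set_option linter.unusedSectionVars false

namespace Cfsg.Agent.Lib.Helper77_StabDefect2

open Cfsg Cfsg.Agent.Lib.Helper16_Char Cfsg.Agent.Lib.Helper16_Clifford
  Cfsg.Agent.Lib.Helper16_Orbit Cfsg.Agent.Lib.Helper16_Cover
  Cfsg.Agent.Lib.Helper78_LocalRing Cfsg.Agent.Lib.Helper78_Osima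
  Cfsg.Agent.Lib.Helper78_CentralChar Cfsg.Agent.Lib.Helper78_CharFacts
  Cfsg.Agent.Lib.Helper77_StableCover Cfsg.Agent.Lib.Helper77_BlockBasics
  Cfsg.Agent.Lib.Helper77_NormalPair Cfsg.Agent.Lib.Helper77_InvHeightZero
  Cfsg.Agent.Lib.Helper78_Transport Cfsg.Agent.Lib.Helper78_TransportBlocks
  Cfsg.Agent.Lib.Helper77_FongReynolds Cfsg.Agent.Lib.Helper77_FongReynolds2
  Cfsg.Agent.Lib.Helper77_StabDefect Cfsg.Agent.Lib.Helper78_ExtFirstMain
  Cfsg.Agent.Lib.Helper78_FirstMain Cfsg.Agent.Lib.Helper78_FirstMainGT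
  Cfsg.Agent.Lib.Helper78_InducedTrans Cfsg.Agent.Lib.Helper78_BrauerCorr
open scoped ComplexConjugate

universe u

section abstract

variable {K : Type u} [Group K] [Fintype K] {M : Ideal AlgInt} {p : ℕ} [Fact p.Prime]

/-- `Q` a normal `p`-subgroup of `K`, `L = Q C_K(Q)`, `c` a block of `L` with stabilizer `S`: the
block of `K` induced by `c` has defect `d(c) + ν_p(|S : L|)`. -/
theorem exists_induced_defect (hM : IsPModular p M) (Q : Subgroup K) [Q.Normal]
    (hQ : IsPGroup p Q) [Fintype ↥(Q ⊔ Subgroup.centralizer (Q : Set K))]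
    (c : Set (IrrCharacter ↥(Q ⊔ Subgroup.centralizer (Q : Set K)))) (hc : IsPBlock M c)
    (S : Subgroup K) [Fintype S]
    (hS : ∀ g : K, g ∈ S ↔ ∀ θ ∈ c, cjIrr (Q ⊔ Subgroup.centralizer (Q : Set K)) g θ ∈ c) :
    ∃ β : Set (IrrCharacter K),
      IsInducedBlock M (Q ⊔ Subgroup.centralizer (Q : Set K)) c β ∧
      blockDefect p β = blockDefect p c +
        ((Q ⊔ Subgroup.centralizer (Q : Set K)).relIndex S).factorization p := by
  classical
  have hMp := isPrime_of_isPModular hM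
  obtain ⟨⟨β, hβ⟩, hβu⟩ := Cfsg.Agent.S0971.result p M hM Q hQ c hc
  refine ⟨β, hβ, ?_⟩
  obtain ⟨ξ, hξ⟩ := isPBlock_nonempty hMp hc
  obtain ⟨χ, hχ, hχξ⟩ := Cfsg.Agent.S0934.result p M hM _ c β hβ ξ hξ
  have huniq : ∀ B₂ : Set (IrrCharacter K), IsPBlock M B₂ →
      (∃ χ ∈ B₂, ∃ θ ∈ c, classInner (fun n : ↥(Q ⊔ Subgroup.centralizer (Q : Set K)) =>
        (χ : K → ℂ) n) (θ : ↥(Q ⊔ Subgroup.centralizer (Q : Set K)) → ℂ) ≠ 0) → B₂ = β := by
    intro B₂ hB₂ hc
    exact Cfsg.Agent.Lib.Helper78_Deficiency.isInducedBlock_unique hMp (hβu B₂ hB₂ hc) hβ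
  have hLS : Q ⊔ Subgroup.centralizer (Q : Set K) ≤ S := by
    intro l hl
    rw [hS]
    intro θ hθ
    have : cjIrr (Q ⊔ Subgroup.centralizer (Q : Set K)) l θ = θ :=
      Subtype.ext (cj_eq_self_of_mem _ hl (isIrrCharacter_isClassFunction θ.2))
    rw [this]
    exact hθ
  exact blockDefect_of_unique_cover hLS p hM hc hS hβ.2.1 ⟨χ, hχ, ξ, hξ, hχξ⟩ huniq

end abstract

section translate

variable {G : Type u} [Group G] {M : Ideal AlgInt}

/-- Translating the stabilizer condition from a subgroup `H` of `G` normalized by `𝒩` to the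
corresponding normal subgroup `L` of `𝒩`. -/
theorem stab_translate (𝒩 H : Subgroup G) (L : Subgroup 𝒩) [hLn : L.Normal] (e : L ≃* H)
    (he : ∀ l : L, ((e l : H) : G) = ((l : 𝒩) : G)) (b : Set (IrrCharacter H)) (T : Subgroup G)
    (hT : ∀ g : G, g ∈ T ↔ (g ∈ 𝒩 ∧ ∀ θ ∈ b, ∀ θ' : IrrCharacter H,
      (∀ h h' : H, (h' : G) = g * h * g⁻¹ → (θ' : H → ℂ) h' = (θ : H → ℂ) h) → θ' ∈ b)) :
    ∀ g : 𝒩, g ∈ T.subgroupOf 𝒩 ↔ ∀ θ ∈ mapBlock e b, cjIrr L g θ ∈ mapBlock e b := by
  have hsymm : ∀ h' : H, (((e.symm h' : L) : 𝒩) : G) = (h' : G) := by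
    intro h'
    rw [← he, MulEquiv.apply_symm_apply]
  have key : ∀ (g : 𝒩) (θ : IrrCharacter H) (h h' : H), (h' : G) = (g : G) * h * (g : G)⁻¹ →
      (cjIrr L g (irrComp e θ) : L → ℂ) (e.symm h') = (θ : H → ℂ) h := by
    intro g θ h h' hh
    show cj L g (irrComp e θ : L → ℂ) (e.symm h') = _
    unfold cj
    rw [irrComp_apply]
    refine congrArg _ (Subtype.ext ?_)
    rw [he, MulAut.conjNormal_apply]
    push_cast
    rw [hsymm, hh]
    group
  intro g
  rw [Subgroup.mem_subgroupOf, hT]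
  constructor
  · rintro ⟨-, h⟩ θL ⟨θ, hθ, rfl⟩
    have h1 := h θ hθ (irrComp e.symm (cjIrr L g (irrComp e θ))) (fun h h' hh => by
      rw [irrComp_apply]
      exact key g θ h h' hh)
    have h2 := irrComp_mem_mapBlock e h1
    rwa [irrComp_irrComp_symm] at h2
  · intro h
    refine ⟨g.2, fun θ hθ θ' hθ' => ?_⟩
    obtain ⟨θ'', hθ'', heq⟩ := h _ (irrComp_mem_mapBlock e hθ)
    have : θ' = θ'' := by
      apply Subtype.ext
      funext h'
      have h2 := hLn.conj_mem _ (e.symm h').2 g⁻¹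
      have h3 : ((e ⟨_, h2⟩ : H) : G) = (g : G)⁻¹ * (h' : G) * (g : G) := by
        rw [he]
        push_cast
        rw [hsymm, inv_inv]
      have hh : (h' : G) = (g : G) * ((e ⟨_, h2⟩ : H) : G) * (g : G)⁻¹ := by
        rw [h3]
        group
      rw [hθ' (e ⟨_, h2⟩) h' hh, ← key g θ (e ⟨_, h2⟩) h' hh, ← heq, irrComp_apply,
        MulEquiv.apply_symm_apply]
    rw [this]
    exact hθ''

end translate

section main

variable {G : Type u} [Group G] [Fintype G] {M : Ideal AlgInt} {p : ℕ} [Fact p.Prime]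

/-- The block of `N_G(P)` induced by a block `b` of `P C_G(P)`, and its defect. -/
theorem exists_normalizer_block (hM : IsPModular p M) (P : Subgroup G) (hP : IsPGroup p P)
    [Fintype ↥(P ⊔ Subgroup.centralizer (P : Set G))]
    (b : Set (IrrCharacter ↥(P ⊔ Subgroup.centralizer (P : Set G)))) (hb : IsPBlock M b)
    (B : Set (IrrCharacter G))
    (hind : IsInducedBlock M (P ⊔ Subgroup.centralizer (P : Set G)) b B) (T : Subgroup G)
    (hT : ∀ g : G, g ∈ T ↔ (g ∈ Subgroup.normalizer (P : Set G) ∧ ∀ θ ∈ b,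
      ∀ θ' : IrrCharacter ↥(P ⊔ Subgroup.centralizer (P : Set G)),
      (∀ h h' : ↥(P ⊔ Subgroup.centralizer (P : Set G)), (h' : G) = g * h * g⁻¹ →
        (θ' : ↥(P ⊔ Subgroup.centralizer (P : Set G)) → ℂ) h' =
          (θ : ↥(P ⊔ Subgroup.centralizer (P : Set G)) → ℂ) h) → θ' ∈ b)) :
    ∃ β : Set (IrrCharacter (Subgroup.normalizer (P : Set G))),
      IsInducedBlock M (Subgroup.normalizer (P : Set G)) β B ∧
      blockDefect p β = blockDefect p b +
        ((P ⊔ Subgroup.centralizer (P : Set G)).relIndex T).factorization p := by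
  classical
  have hMp := isPrime_of_isPModular hM
  have hB := hind.2.1
  have := Fintype.ofFinite (Subgroup.normalizer (P : Set G))
  have hPN : P ≤ Subgroup.normalizer (P : Set G) := Subgroup.le_normalizer
  have hQn : (P.subgroupOf (Subgroup.normalizer (P : Set G))).Normal :=
    (Subgroup.normal_subgroupOf_iff_le_normalizer hPN).2 le_rfl
  have hQp : IsPGroup p (P.subgroupOf (Subgroup.normalizer (P : Set G))) := hP.comap_subtype
  have := Fintype.ofFinite ↥((P.subgroupOf (Subgroup.normalizer (P : Set G))) ⊔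
      Subgroup.centralizer ((P.subgroupOf (Subgroup.normalizer (P : Set G)) :
        Subgroup (Subgroup.normalizer (P : Set G))) : Set (Subgroup.normalizer (P : Set G))))
  have := Fintype.ofFinite ↥(T.subgroupOf (Subgroup.normalizer (P : Set G)))
  have hTN := stab_translate (Subgroup.normalizer (P : Set G)) _ _ (supEquiv P) (supEquiv_coe P)
    b T hT
  obtain ⟨β, hβ, hdef⟩ := exists_induced_defect hM
    (P.subgroupOf (Subgroup.normalizer (P : Set G))) hQp (mapBlock (supEquiv P) b)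
    (isPBlock_mapBlock _ hb) (T.subgroupOf (Subgroup.normalizer (P : Set G))) hTN
  refine ⟨β, (isInducedBlock_trans hMp (supEquiv P) (supEquiv_coe P) hB hβ).mpr hind, ?_⟩
  rw [hdef, blockDefect_mapBlock hM (supEquiv P) hb]
  congr 2
  have hTle : T ≤ Subgroup.normalizer (P : Set G) := fun g hg => ((hT g).mp hg).1
  rw [← Subgroup.relIndex_map_map_of_injective _ _
    (Subgroup.subtype_injective (Subgroup.normalizer (P : Set G))),
    Subgroup.map_subgroupOf_eq_of_le hTle, map_sup_centralizer P]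

/-- **S4437.** `b^G` has defect group `P` iff `p ∤ |T(b) : P C_G(P)|`. -/
theorem defect_iff (hM : IsPModular p M) (P : Subgroup G) (hP : IsPGroup p P)
    [Fintype ↥(P ⊔ Subgroup.centralizer (P : Set G))]
    (b : Set (IrrCharacter ↥(P ⊔ Subgroup.centralizer (P : Set G)))) (hb : IsPBlock M b)
    (hbP : IsDefectGroup p M b (P.subgroupOf (P ⊔ Subgroup.centralizer (P : Set G))))
    (B : Set (IrrCharacter G))
    (hind : IsInducedBlock M (P ⊔ Subgroup.centralizer (P : Set G)) b B) (T : Subgroup G)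
    (hT : ∀ g : G, g ∈ T ↔ (g ∈ Subgroup.normalizer (P : Set G) ∧ ∀ θ ∈ b,
      ∀ θ' : IrrCharacter ↥(P ⊔ Subgroup.centralizer (P : Set G)),
      (∀ h h' : ↥(P ⊔ Subgroup.centralizer (P : Set G)), (h' : G) = g * h * g⁻¹ →
        (θ' : ↥(P ⊔ Subgroup.centralizer (P : Set G)) → ℂ) h' =
          (θ : ↥(P ⊔ Subgroup.centralizer (P : Set G)) → ℂ) h) → θ' ∈ b)) :
    IsDefectGroup p M B P ↔ ¬ p ∣ (P ⊔ Subgroup.centralizer (P : Set G)).relIndex T := by
  classical
  have hp : p.Prime := Fact.out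
  have hMp := isPrime_of_isPModular hM
  have hPN : P ≤ Subgroup.normalizer (P : Set G) := Subgroup.le_normalizer
  obtain ⟨β, hβB, hdef⟩ := exists_normalizer_block hM P hP b hb B hind T hT
  have hcb : Nat.card P = p ^ blockDefect p b := by
    rw [← Cfsg.Agent.Lib.Helper78_Deficiency.card_isDefectGroup hM hb hbP,
      card_subgroupOf_of_le le_sup_left]
  have hne : (P ⊔ Subgroup.centralizer (P : Set G)).relIndex T ≠ 0 :=
    Subgroup.index_ne_zero_of_finite
  constructor
  · intro hBP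
    have h1 := isDefectGroup_subgroupOf_of_induced hM hPN le_rfl hBP hβB
    have h2 := Cfsg.Agent.Lib.Helper78_Deficiency.card_isDefectGroup hM hβB.1 h1
    rw [card_subgroupOf_of_le hPN, hcb] at h2
    have h3 := Nat.pow_right_injective hp.two_le h2
    have h4 : ((P ⊔ Subgroup.centralizer (P : Set G)).relIndex T).factorization p = 0 := by
      omega
    rcases (Nat.factorization_eq_zero_iff _ _).mp h4 with h | h | h
    · exact absurd hp h
    · exact h
    · exact absurd h hne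
  · intro hndvd
    rw [Nat.factorization_eq_zero_of_not_dvd hndvd, add_zero] at hdef
    have hQn : (P.subgroupOf (Subgroup.normalizer (P : Set G))).Normal :=
      (Subgroup.normal_subgroupOf_iff_le_normalizer hPN).2 le_rfl
    have hQp : IsPGroup p (P.subgroupOf (Subgroup.normalizer (P : Set G))) := hP.comap_subtype
    obtain ⟨D, hD⟩ := Cfsg.Agent.Lib.Helper78_Deficiency.exists_isDefectGroup hM hβB.1
    have h1 : P.subgroupOf (Subgroup.normalizer (P : Set G)) ≤ D :=
      (Cfsg.Agent.Lib.Helper1_Cores.le_pCore hQn hQp).trans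
        (Cfsg.Agent.S0912.result p M hM β hβB.1 D hD)
    have h2 : Nat.card D ≤ Nat.card (P.subgroupOf (Subgroup.normalizer (P : Set G))) := by
      rw [Cfsg.Agent.Lib.Helper78_Deficiency.card_isDefectGroup hM hβB.1 hD,
        card_subgroupOf_of_le hPN, hcb, hdef]
    have h3 : P.subgroupOf (Subgroup.normalizer (P : Set G)) = D :=
      Subgroup.eq_of_le_of_card_ge h1 h2
    rw [← h3] at hD
    obtain ⟨B₁, -, hB₁P, hB₁⟩ := firstMain_induced hM P hP hβB.1 hD
    rw [← Cfsg.Agent.Lib.Helper78_Deficiency.isInducedBlock_unique hMp hB₁ hβB]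
    exact hB₁P

end main

end Cfsg.Agent.Lib.Helper77_StabDefect2
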