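import Mathlib
import Cfsg.Prelude.Def_Blocks
import Cfsg.Prelude.Def_BlockLocal
import Cfsg.Agent.S4437

/-!
# Inertial quotients of blocks with abelian / cyclic defect groups (helper77)
-/

set_option autoImplicit false
set_option linter.unusedSectionVars false

namespace Cfsg.Agent.Lib.Helper77_InertialCyclic

open Cfsg Cfsg.Agent.Lib.Helper78_LocalRing
  Cfsg.Agent.Lib.Helper78_Transport Cfsg.Agent.Lib.Helper78_TransportBlocks
  Cfsg.Agent.Lib.Helper78_FirstMain Cfsg.Agent.Lib.Helper78_FirstMainGT
  Cfsg.Agent.Lib.Helper78_BrauerCorr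

universe u

section inertial

variable {G : Type u} [Group G] [Finite G] {M : Ideal AlgInt} {p : ℕ} [Fact p.Prime]

theorem normalizer_le_normalizer_centralizer (P : Subgroup G) :
    Subgroup.normalizer (P : Set G) ≤
      Subgroup.normalizer ((Subgroup.centralizer (P : Set G) : Subgroup G) : Set G) := by
  have key : ∀ g ∈ Subgroup.normalizer (P : Set G), ∀ c ∈ Subgroup.centralizer (P : Set G),
      g * c * g⁻¹ ∈ Subgroup.centralizer (P : Set G) := by
    intro g hg c hc
    rw [Subgroup.mem_centralizer_iff]
    intro q hq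
    have hq' : g⁻¹ * q * g ∈ P := by
      have := (Subgroup.mem_set_normalizer_iff.mp (inv_mem hg) q).mp hq
      simpa using this
    have h1 := Subgroup.mem_centralizer_iff.mp hc _ hq'
    calc q * (g * c * g⁻¹) = g * ((g⁻¹ * q * g) * c) * g⁻¹ := by group
      _ = g * (c * (g⁻¹ * q * g)) * g⁻¹ := by rw [h1]
      _ = g * c * g⁻¹ * q := by group
  intro g hg
  rw [Subgroup.mem_set_normalizer_iff]
  intro c
  constructor
  · intro hc
    exact key g hg c hc
  · intro hc
    have := key g⁻¹ (inv_mem hg) _ hc
    simpa [mul_assoc] using this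

/-- The inertial index of a block with abelian defect group is prime to `p`. -/
theorem not_dvd_relIndex_of_abelian (hM : IsPModular p M) {B : Set (IrrCharacter G)}
    {P : Subgroup G} (hPD : IsDefectGroup p M B P) (hPab : ∀ x ∈ P, ∀ y ∈ P, x * y = y * x)
    (c : Set (IrrCharacter (Subgroup.centralizer (P : Set G))))
    (hc : IsInducedBlock M (Subgroup.centralizer (P : Set G)) c B) (T : Subgroup G)
    (hT : ∀ g : G, g ∈ T ↔ (g ∈ Subgroup.normalizer (P : Set G) ∧
      StabilizesBlock (Subgroup.centralizer (P : Set G)) c g)) :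
    ¬ p ∣ (Subgroup.centralizer (P : Set G)).relIndex T := by
  classical
  have := Fintype.ofFinite G
  have := Fintype.ofFinite (Subgroup.centralizer (P : Set G))
  have hPle : P ≤ Subgroup.centralizer (P : Set G) := by
    intro x hx
    rw [Subgroup.mem_centralizer_iff]
    intro y hy
    exact hPab y hy x hx
  have hPp : IsPGroup p P := isDefectGroup_isPGroup hPD
  have hbP := isDefectGroup_subgroupOf_of_induced hM hPle (centralizer_le_normalizer P) hPD hc
  have hT' : ∀ g : G, g ∈ T ↔ (g ∈ Subgroup.normalizer (P : Set G) ∧ ∀ θ ∈ c,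
      ∀ θ' : IrrCharacter (Subgroup.centralizer (P : Set G)),
      (∀ h h' : Subgroup.centralizer (P : Set G), (h' : G) = g * h * g⁻¹ →
        (θ' : Subgroup.centralizer (P : Set G) → ℂ) h' =
          (θ : Subgroup.centralizer (P : Set G) → ℂ) h) → θ' ∈ c) := by
    intro g
    rw [hT]
    constructor
    · rintro ⟨hg, hgH, hst⟩
      refine ⟨hg, fun θ hθ θ' hθ' => ?_⟩
      obtain ⟨χ', hχ', hconj⟩ := hst θ hθ
      have : θ' = χ' := by
        apply Subtype.ext
        funext k'
        have hk : (k' : G) = g * ((conjEquiv _ g hgH k' : Subgroup.centralizer (P : Set G)) : G) *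
            g⁻¹ := by
          rw [conjEquiv_apply]
          group
        rw [hθ' _ k' hk, hconj _ k' hk]
      rw [this]
      exact hχ'
    · rintro ⟨hg, h⟩
      have hgH := normalizer_le_normalizer_centralizer P hg
      exact ⟨hg, hgH, fun χ hχ => ⟨irrComp (conjEquiv _ g hgH) χ,
        h χ hχ _ (isConjCharOf_irrComp _ g hgH χ), isConjCharOf_irrComp _ g hgH χ⟩⟩
  exact (Cfsg.Agent.S4437.result p M hM P hPp (Subgroup.centralizer (P : Set G))
    (sup_eq_right.mpr hPle).symm c hc.1 hbP B hc T hT').mp hPD

end inertial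

end Cfsg.Agent.Lib.Helper77_InertialCyclic
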