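import Mathlib
import Cfsg.Prelude.Def_Blocks
import Cfsg.Prelude.Def_BlockLocal
import Cfsg.Prelude.Def_BrauerPairs
import Cfsg.Agent.Lib.Helper16_Cover
import Cfsg.Agent.Lib.Helper57_CoverUnder
import Cfsg.Agent.Lib.Helper77_BlockBasics
import Cfsg.Agent.Lib.Helper77_StableCover
import Cfsg.Agent.Lib.Helper77_CentralDefect
import Cfsg.Agent.Lib.Helper77_QuotDefect2
import Cfsg.Agent.Lib.Helper78_LocalRing
import Cfsg.Agent.Lib.Helper78_CharFacts
import Cfsg.Agent.Lib.Helper78_Osima
import Cfsg.Agent.Lib.Helper78_MinMax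
import Cfsg.Agent.Lib.Helper80_RelDegree
import Cfsg.Agent.Lib.Helper78_TransportBlocks
import Cfsg.Agent.Lib.Helper77_WeakOrth
import Cfsg.Agent.Lib.Helper82_CoverStep
import Cfsg.Agent.Lib.Helper82_OverSet

/-!
# Defects of covering and covered blocks (helper82)

Let `N` be a normal subgroup of the finite group `X`.

* `defect_le_of_covers`: a block of `X` covering the block `b` of `N` has defect at least that
  of `b` (degrees only);
* `memLocalIdeal_omega_of_forall`: central characters map class functions with values in the local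
  ideal into the local ideal;
* `defect_le_of_defectGroup_le`: if the block `B` of `X` covers the `X`-stable block `c` of `N` and
  some defect group of `B` lies in `N`, then the defect of `B` is at most that of `c`.
-/

set_option autoImplicit false

namespace Cfsg.Agent.Lib.Helper82_CoverDefect

open Cfsg Cfsg.Agent.Lib.Helper78_LocalRing Cfsg.Agent.Lib.Helper77_BlockBasics
  Cfsg.Agent.Lib.Helper78_CharFacts Cfsg.Agent.Lib.Helper78_Osima
  Cfsg.Agent.Lib.Helper78_CentralChar Cfsg.Agent.Lib.Helper16_Cover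
  Cfsg.Agent.Lib.Helper16_Orbit Cfsg.Agent.Lib.Helper77_StableCover
  Cfsg.Agent.Lib.Helper78_Transport Cfsg.Agent.Lib.Helper78_TransportBlocks
  Cfsg.Agent.Lib.Helper82_CoverStep Cfsg.Agent.Lib.Helper82_OverSet

universe u

variable {X : Type u} [Group X] [Fintype X] {p : ℕ} [Fact p.Prime] {M : Ideal AlgInt}

section general

variable (N : Subgroup X) [hN : N.Normal] [Fintype N]

/-- A covering block has defect at least that of the covered block. -/
theorem defect_le_of_covers (hM : IsPModular p M) {B : Set (IrrCharacter X)} (hB : IsPBlock M B)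
    {b : Set (IrrCharacter N)} (hb : IsPBlock M b)
    (hcov : ∃ χ ∈ B, ∃ θ ∈ b, classInner (fun n : N => (χ : X → ℂ) n) (θ : N → ℂ) ≠ 0) :
    blockDefect p b ≤ blockDefect p B := by
  have hp : p.Prime := Fact.out
  have hMp := isPrime_of_isPModular hM
  obtain ⟨θ₁, hθ₁⟩ := isPBlock_nonempty hMp hb
  have hSne : ((fun θ : IrrCharacter N => (charDegree (θ : N → ℂ)).factorization p) ''
      b).Nonempty := ⟨_, θ₁, hθ₁, rfl⟩
  obtain ⟨ψ₀, hψ₀, hψe⟩ := Nat.sInf_mem hSne
  obtain ⟨χ₀, hχ₀, hne⟩ :=
    Cfsg.Agent.Lib.Helper57_CoverUnder.exists_over_of_covers N hM hB hb hcov ψ₀ hψ₀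
  obtain ⟨e, he, hediv⟩ := Cfsg.Agent.Lib.Helper80_RelDegree.rel_degree_dvd N (χ₀ : X → ℂ) χ₀.2
    (ψ₀ : N → ℂ) ψ₀.2 hne _ _ (apply_one_eq_charDegree χ₀) (apply_one_eq_charDegree ψ₀)
  have hinfB : sInf ((fun χ : IrrCharacter X => (charDegree (χ : X → ℂ)).factorization p) '' B) ≤
      (charDegree (χ₀ : X → ℂ)).factorization p := Nat.sInf_le ⟨χ₀, hχ₀, rfl⟩
  have hψpos := charDegree_pos ψ₀
  have hχpos := charDegree_pos χ₀
  have hepos : e ≠ 0 := by
    intro h0
    rw [h0, zero_mul] at he
    omega
  have hfac : (charDegree (χ₀ : X → ℂ)).factorization p =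
      e.factorization p + (charDegree (ψ₀ : N → ℂ)).factorization p := by
    rw [he, Nat.factorization_mul hepos hψpos.ne', Finsupp.add_apply]
  have hidx : N.index ≠ 0 := Subgroup.index_ne_zero_of_finite
  have hele : e.factorization p ≤ N.index.factorization p :=
    (Nat.factorization_le_iff_dvd hepos hidx).mpr hediv p
  have hcard : (Nat.card X).factorization p =
      (Nat.card N).factorization p + N.index.factorization p := by
    rw [← Subgroup.card_mul_index N, Nat.factorization_mul Nat.card_pos.ne' hidx,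
      Finsupp.add_apply]
  have hle := factorization_charDegree_le p ψ₀
  simp only at hψe
  unfold blockDefect
  omega

omit [Fact p.Prime] in
/-- Central characters map class functions with values in the local ideal into the local ideal. -/
theorem memLocalIdeal_omega_of_forall (hMp : M.IsPrime) {χ : X → ℂ} (hχ : IsIrrCharacter X χ)
    {g : X → ℂ} (hg : IsClassFunction X g) (hgI : ∀ x, MemLocalIdeal M (g x)) :
    MemLocalIdeal M (omega χ g) := by
  classical
  rw [omega_eq_sum_conjClasses (isIrrCharacter_isClassFunction hχ) hg]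
  refine memLocalIdeal_sum hMp _ _ fun c _ => ?_
  refine memLocalIdeal_mul_right hMp (hgI _) ?_
  have := memLocalRing_algInt hMp (centralCharAlgInt ⟨χ, hχ⟩ c.out)
  simpa using this

/-- **The covering block has small defect when a defect group lies in `N`.** If `B` covers the
`X`-stable block `c` of `N` and a defect group `D` of `B` lies in `N`, then the defect of `B` is at
most the defect of `c`. -/
theorem defect_le_of_defectGroup_le (hM : IsPModular p M) {B : Set (IrrCharacter X)}
    (hB : IsPBlock M B) {c : Set (IrrCharacter N)} (hc : IsPBlock M c)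
    (hst : ∀ x : X, StabilizesBlock N c x)
    (hcov : ∃ χ ∈ B, ∃ θ ∈ c, classInner (fun n : N => (χ : X → ℂ) n) (θ : N → ℂ) ≠ 0)
    {D : Subgroup X} (hD : IsDefectGroup p M B D) (hDN : D ≤ N) :
    blockDefect p B ≤ blockDefect p c := by
  classical
  have hp : p.Prime := Fact.out
  have hMp := isPrime_of_isPModular hM
  have hcst : gClosure N c = c := gClosure_eq_of_stable N hst
  -- the class function `f`
  have hinv : ∀ x : X, cj N x (blockCoeff c) = blockCoeff c := by
    intro x
    have := cj_covF N c x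
    unfold covF at this
    rw [hcst] at this
    exact this
  set f : X → ℂ := extZero N (blockCoeff c) with hf
  have hfc : IsClassFunction X f := extZero_isClassFunction N _ hinv
  have hfR : ∀ g, MemLocalRing M (f g) :=
    memLocalRing_extZero N hMp _ (fun n => osima_block' hMp hc n)
  obtain ⟨χ₀, hχ₀, θ₀, hθ₀, hχθ₀⟩ := hcov
  have h1 : omega (χ₀ : X → ℂ) f = 1 := by
    rw [hf, omega_extZero_eq N χ₀ θ₀ hχθ₀ _ hinv, omega_blockCoeff charFacts c θ₀,
      Set.indicator_of_mem hθ₀]
  -- the truncated function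
  set f' : X → ℂ := fun x => if MemLocalIdeal M (f x) then 0 else f x with hf'
  have hf'c : IsClassFunction X f' := by
    intro x y
    simp only [hf']
    rw [hfc x y]
  have hf'R : ∀ g, MemLocalRing M (f' g) := by
    intro g
    simp only [hf']
    split_ifs
    · exact memLocalRing_zero hMp
    · exact hfR g
  have hdiffc : IsClassFunction X (f - f') := by
    intro x y
    simp only [Pi.sub_apply]
    rw [hfc x y, hf'c x y]
  have hdiffI : ∀ x, MemLocalIdeal M ((f - f') x) := by
    intro x
    simp only [Pi.sub_apply, hf']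
    split_ifs with h
    · rwa [sub_zero]
    · rw [sub_self]
      exact memLocalIdeal_zero hMp
  have hu : ∀ χ ∈ B, ¬ MemLocalIdeal M (omega ((χ : IrrCharacter X) : X → ℂ) f') := by
    intro χ hχ hI
    have e1 := memLocalIdeal_omega_of_forall hMp χ.2 hdiffc hdiffI
    rw [omega_sub] at e1
    have e2 := memLocalIdeal_add hMp e1 hI
    rw [sub_add_cancel] at e2
    have e3 := memLocalIdeal_omega_sub hMp (isIrrCharacter_isClassFunction χ₀.2)
      (isIrrCharacter_isClassFunction χ.2) (isPBlock_sameBlock hMp hB hχ₀ hχ) hfc hfR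
    have e4 := memLocalIdeal_add hMp e3 e2
    rw [sub_add_cancel, h1] at e4
    exact not_memLocalIdeal_one hMp e4
  -- the defect group
  have hcardD := Cfsg.Agent.Lib.Helper77_CentralDefect.card_of_isDefectGroup hM hB hD
  obtain ⟨g₀, hg₀, P, hDP⟩ := hD
  have hDcent : D ≤ Subgroup.centralizer ({g₀} : Set X) := by
    rw [hDP]
    exact Cfsg.Agent.Lib.Helper78_MinMax.map_sylow_le _ P
  obtain ⟨x, hx, hDx⟩ := Cfsg.Agent.Lib.Helper78_MinMax.exists_centralized_of_blockCoeff hM hB
    hf'c hf'R hu g₀ hg₀.2.1 D hcardD.1 hDcent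
  -- `x ∈ N` and the coefficient of `c` at `x` is a unit
  have hxI : ¬ MemLocalIdeal M (f x) := by
    intro h
    apply hx
    simp only [hf']
    rw [if_pos h]
  have hxN : x ∈ N := by
    by_contra hxN
    apply hxI
    rw [hf, extZero_not_mem N _ hxN]
    exact memLocalIdeal_zero hMp
  have hcx : ¬ MemLocalIdeal M (blockCoeff c ⟨x, hxN⟩) := by
    have := extZero_mem N (blockCoeff c) ⟨x, hxN⟩
    rw [← this]
    exact hxI
  -- the max half of the min-max theorem in `N`
  obtain ⟨Q, hQ⟩ := Cfsg.Agent.Lib.Helper77_QuotDefect2.exists_dg hM hc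
  have hcardQ := Cfsg.Agent.Lib.Helper77_CentralDefect.card_of_isDefectGroup hM hc hQ
  obtain ⟨n₁, hn₁, D₁, hQD⟩ := hQ
  set S : Subgroup N := D.subgroupOf N with hS
  have hSp : IsPGroup p S := hcardD.1.comap_subtype
  have hSx : S ≤ Subgroup.centralizer ({(⟨x, hxN⟩ : N)} : Set N) := by
    intro s hs
    rw [Subgroup.mem_centralizer_iff]
    intro k hk
    rw [Set.mem_singleton_iff] at hk
    subst hk
    have h2 : (s : X) ∈ Subgroup.centralizer ({x} : Set X) := hDx (Subgroup.mem_subgroupOf.mp hs)
    rw [Subgroup.mem_centralizer_iff] at h2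
    apply Subtype.ext
    exact h2 x (Set.mem_singleton x)
  obtain ⟨y, hy⟩ := Cfsg.Agent.Lib.Helper78_MinMax.le_conj_of_blockCoeff_not_mem hM hc hn₁ D₁
    ⟨x, hxN⟩ hcx S hSp hSx
  -- compare the orders
  have hSD : Nat.card S = Nat.card D := by
    rw [hS]
    exact Nat.card_congr (Subgroup.subgroupOfEquivOfLe hDN).toEquiv
  have hle : Nat.card S ≤ Nat.card Q := by
    have h3 : Nat.card S ≤ Nat.card (((D₁ : Subgroup (Subgroup.centralizer ({n₁} : Set N))).map
        (Subgroup.centralizer ({n₁} : Set N)).subtype).map (MulAut.conj y).toMonoidHom) :=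
      Subgroup.card_le_of_le hy
    have h4 : Nat.card (((D₁ : Subgroup (Subgroup.centralizer ({n₁} : Set N))).map
        (Subgroup.centralizer ({n₁} : Set N)).subtype).map (MulAut.conj y).toMonoidHom) =
        Nat.card ((D₁ : Subgroup (Subgroup.centralizer ({n₁} : Set N))).map
        (Subgroup.centralizer ({n₁} : Set N)).subtype) :=
      Subgroup.card_map_of_injective (MulAut.conj y).injective
    rw [h4, ← hQD] at h3
    exact h3
  rw [hSD, hcardD.2, hcardQ.2] at hle
  exact (Nat.pow_le_pow_iff_right hp.one_lt).mp hle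

end general

section transport

omit [Fintype X] [Fact p.Prime] in
/-- Defects are preserved by transport along an isomorphism. -/
theorem blockDefect_mapBlock {Y Y' : Type u} [Group Y] [Group Y'] (φ : Y' ≃* Y)
    (B : Set (IrrCharacter Y)) : blockDefect p (mapBlock φ B) = blockDefect p B := by
  unfold blockDefect
  congr 1
  · rw [Nat.card_congr φ.toEquiv]
  · congr 1
    unfold mapBlock
    rw [Set.image_image]
    apply Set.image_congr
    intro χ _
    rw [charDegree_irrComp]

omit [Fintype X] [Fact p.Prime] in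
/-- Inner products are preserved by pulling back along a group isomorphism. -/
theorem classInner_comp_mulEquiv {K L : Type*} [Group K] [Group L] [Fintype K] [Fintype L]
    (e : K ≃* L) (α β : L → ℂ) :
    classInner (fun k => α (e k)) (fun k => β (e k)) = classInner α β := by
  unfold classInner
  rw [Nat.card_congr e.toEquiv]
  congr 1
  exact Fintype.sum_equiv e.toEquiv _ _ (fun k => rfl)

end transport

section tower

variable (N L : Subgroup X) [hN : N.Normal] [hL : L.Normal] [Fintype N] [Fintype L]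

omit [Fintype X] [Fact p.Prime] hN hL [Fintype N] [Fintype L] in
/-- Stability passes to the copy of `N` inside `L`. -/
theorem stabilizesBlock_subgroupOf (hNL : N ≤ L) {c : Set (IrrCharacter N)} (l : L)
    (hst : StabilizesBlock N c (l : X)) :
    StabilizesBlock (N.subgroupOf L) (mapBlock (Subgroup.subgroupOfEquivOfLe hNL) c) l := by
  obtain ⟨hnorm, hconj⟩ := hst
  refine ⟨?_, ?_⟩
  · rw [Subgroup.mem_normalizer_iff] at hnorm ⊢
    intro h
    rw [Subgroup.mem_subgroupOf, Subgroup.mem_subgroupOf]
    have := hnorm (h : X)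
    simpa using this
  · rintro _ ⟨θ, hθ, rfl⟩
    obtain ⟨θ', hθ', hθθ'⟩ := hconj θ hθ
    refine ⟨irrComp (Subgroup.subgroupOfEquivOfLe hNL) θ', irrComp_mem_mapBlock _ hθ', ?_⟩
    intro k k' hk
    rw [irrComp_apply, irrComp_apply]
    apply hθθ'
    have := congrArg (fun z : L => (z : X)) hk
    simpa using this

/-- **The tower inequality.** Let `N ≤ L` be normal subgroups of `X` with `|L : N| = p ^ k`, `c` an
`X`-stable block of `N` and `B` a block of `X` covering `c`.  Then the defect of `B` is at least the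
defect of `c` plus `k`. -/
theorem defect_add_le_of_covers (hM : IsPModular p M) (hNL : N ≤ L) {k : ℕ}
    (hidx : (N.subgroupOf L).index = p ^ k) {c : Set (IrrCharacter N)} (hc : IsPBlock M c)
    (hst : ∀ x : X, StabilizesBlock N c x) {B : Set (IrrCharacter X)} (hB : IsPBlock M B)
    (hcov : ∃ χ ∈ B, ∃ θ ∈ c, classInner (fun n : N => (χ : X → ℂ) n) (θ : N → ℂ) ≠ 0) :
    blockDefect p c + k ≤ blockDefect p B := by
  classical
  have hp : p.Prime := Fact.out
  have hMp := isPrime_of_isPModular hM
  let e : N.subgroupOf L ≃* N := Subgroup.subgroupOfEquivOfLe hNL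
  have hnormal : (N.subgroupOf L).Normal := Subgroup.normal_subgroupOf
  set cL : Set (IrrCharacter (N.subgroupOf L)) := mapBlock e c with hcL
  have hcLb : IsPBlock M cL := isPBlock_mapBlock e hc
  have hstL : ∀ l : L, StabilizesBlock (N.subgroupOf L) cL l :=
    fun l => stabilizesBlock_subgroupOf N L hNL l (hst l)
  have hcst : gClosure (N.subgroupOf L) cL = cL := gClosure_eq_of_stable (N.subgroupOf L) hstL
  -- every character of `L` over a member of `cL` lies in a block with the idempotent of `cL`
  have key : ∀ ξ : IrrCharacter L, (∃ θ ∈ cL,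
      classInner (fun n : N.subgroupOf L => (ξ : L → ℂ) n) (θ : N.subgroupOf L → ℂ) ≠ 0) →
      blockCoeff (blockOf M (ξ : L → ℂ)) = extZero (N.subgroupOf L) (blockCoeff cL) := by
    rintro ξ ⟨θ, hθ, hξθ⟩
    have hb : IsPBlock M (blockOf M (ξ : L → ℂ)) := isPBlock_blockOf ξ
    exact blockCoeff_eq_extZero (N.subgroupOf L) hMp hcLb hcst hb
      (fun g hg => Cfsg.Agent.Lib.Helper77_WeakOrth.blockCoeff_block_eq_zero_of_sing hM hb g
        (dvd_orderOf_of_not_mem (N.subgroupOf L) hidx hg))
      ⟨ξ, mem_blockOf_self hMp ξ, θ, hθ, hξθ⟩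
  -- a character of `L` under `B` over `c`
  obtain ⟨χ, hχ, θ, hθ, hχθ⟩ := hcov
  have hmem : χ ∈ overSet (L.subtype.comp (Subgroup.inclusion hNL)) (θ : N → ℂ) := hχθ
  rw [overSet_comp_subtype L (Subgroup.inclusion hNL) θ] at hmem
  obtain ⟨ξ, hξ, hχξ⟩ := hmem
  have hξθ : classInner (fun n : N.subgroupOf L => (ξ : L → ℂ) n)
      (irrComp e θ : N.subgroupOf L → ℂ) ≠ 0 := by
    have h1 := classInner_comp_mulEquiv e
      (fun k : N => (ξ : L → ℂ) (Subgroup.inclusion hNL k)) (θ : N → ℂ)
    have h2 : (fun n : N.subgroupOf L => (ξ : L → ℂ) n) =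
        fun n : N.subgroupOf L => (ξ : L → ℂ) (Subgroup.inclusion hNL (e n)) := by
      funext n
      congr 1
    have h3 : (irrComp e θ : N.subgroupOf L → ℂ) = fun n => (θ : N → ℂ) (e n) := by
      funext n
      rw [irrComp_apply]
    rw [h2, h3, h1]
    exact hξ
  set c₁ : Set (IrrCharacter L) := blockOf M (ξ : L → ℂ) with hc₁
  have hc₁b : IsPBlock M c₁ := isPBlock_blockOf ξ
  have hcoef := key ξ ⟨irrComp e θ, irrComp_mem_mapBlock e hθ, hξθ⟩
  have hdef : blockDefect p c₁ = blockDefect p cL + k :=
    blockDefect_eq_add (N.subgroupOf L) hM hidx hcLb hc₁b (fun g => by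
      rw [hcoef, extZero_eq_subgroupBlockCoeff])
  have hdefL : blockDefect p cL = blockDefect p c := blockDefect_mapBlock e c
  have hcovB : ∃ χ ∈ B, ∃ ζ ∈ c₁, classInner (fun l : L => (χ : X → ℂ) l) (ζ : L → ℂ) ≠ 0 :=
    ⟨χ, hχ, ξ, mem_blockOf_self hMp ξ, hχξ⟩
  have hle := defect_le_of_covers L hM hB hc₁b hcovB
  omega

end tower

end Cfsg.Agent.Lib.Helper82_CoverDefect
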