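import Mathlib
import Cfsg.Prelude.Def_Blocks
import Cfsg.Prelude.Def_BlockLocal
import Cfsg.Agent.Lib.Helper77_StabDefect
import Cfsg.Agent.Lib.Helper82_CoverDefect
import Cfsg.Agent.Lib.Helper78_ExtFirstMain
import Cfsg.Agent.Lib.Helper78_InducedTrans
import Cfsg.Agent.Lib.Helper78_BrauerMap
import Cfsg.Agent.Lib.Helper78_Defect
import Cfsg.Agent.Lib.Helper78_MinMax
import Cfsg.Agent.Lib.Helper78_FirstMainGT
import Cfsg.Agent.Lib.Helper78_BrauerCorr

/-!
# Knörr's theorem for a stable block of a normal subgroup (helper77)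
-/

set_option autoImplicit false
set_option linter.unusedSectionVars false

namespace Cfsg.Agent.Lib.Helper77_Knorr

open Cfsg Cfsg.Agent.Lib.Helper16_Char Cfsg.Agent.Lib.Helper16_Clifford
  Cfsg.Agent.Lib.Helper16_Orbit Cfsg.Agent.Lib.Helper16_Cover
  Cfsg.Agent.Lib.Helper78_LocalRing Cfsg.Agent.Lib.Helper78_Osima
  Cfsg.Agent.Lib.Helper78_CentralChar Cfsg.Agent.Lib.Helper78_CharFacts
  Cfsg.Agent.Lib.Helper77_StableCover Cfsg.Agent.Lib.Helper77_BlockBasics
  Cfsg.Agent.Lib.Helper77_NormalPair Cfsg.Agent.Lib.Helper77_InvHeightZero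
  Cfsg.Agent.Lib.Helper78_Transport Cfsg.Agent.Lib.Helper78_TransportBlocks
  Cfsg.Agent.Lib.Helper77_FongReynolds Cfsg.Agent.Lib.Helper77_FongReynolds2
  Cfsg.Agent.Lib.Helper77_StabDefect Cfsg.Agent.Lib.Helper77_QuotDefect2
  Cfsg.Agent.Lib.Helper3_CharBridge Cfsg.Agent.Lib.Helper3_CharOrtho
  Cfsg.Agent.Lib.Helper3_CharComplete Cfsg.Agent.Lib.Helper75_CharArith
open scoped ComplexConjugate

universe u

section middle

variable {X : Type u} [Group X] [Fintype X] {N T : Subgroup X} [hN : N.Normal] [Fintype N]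
  [Fintype T]

/-- A constituent `θ₀` of `χ|_N` lies under a constituent `η` of `χ|_T`, for `N ≤ T`. -/
theorem exists_middle (hNT : N ≤ T) (χ : IrrCharacter X) (θ₀ : IrrCharacter N)
    (h : classInner (fun n : N => (χ : X → ℂ) n) (θ₀ : N → ℂ) ≠ 0) :
    ∃ η : IrrCharacter T, classInner (fun t : T => (χ : X → ℂ) t) (η : T → ℂ) ≠ 0 ∧
      classInner (resN hNT (η : T → ℂ)) (θ₀ : N → ℂ) ≠ 0 := by
  classical
  by_contra hcon
  push Not at hcon
  apply h
  have hch : IsCharacter T (fun t : T => (χ : X → ℂ) t) :=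
    isCharacter_restrict T (isCharacter_of_isIrrCharacter χ.2)
  have hsum := classFunction_eq_sum _ (isClassFunction_of_isCharacter hch)
  have hres : (fun n : N => (χ : X → ℂ) n) = resN hNT (fun t : T => (χ : X → ℂ) t) := rfl
  rw [hres, hsum, resN_sum, classInner_sum_left]
  apply Finset.sum_eq_zero
  intro η _
  rw [resN_smul, classInner_smul_left]
  by_cases h1 : classInner (fun t : T => (χ : X → ℂ) t) (η : T → ℂ) = 0
  · rw [h1, zero_mul]
  · rw [hcon η h1, mul_zero]

end middle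

section lemmaA

variable {X : Type u} [Group X] [Fintype X] {p : ℕ} [Fact p.Prime] {M : Ideal AlgInt}

/-- If `β` covers the `X`-stable block `c` of `N`, `D` is a defect group of `β` and `D N` is normal
in `X`, then `p ^ d(c) ≤ |D ∩ N|`. -/
theorem defect_le_of_sup_normal (hM : IsPModular p M) (N : Subgroup X) [hN : N.Normal]
    [Fintype N] {c : Set (IrrCharacter N)} (hc : IsPBlock M c)
    (hst : ∀ x : X, StabilizesBlock N c x)
    {β : Set (IrrCharacter X)} (hβ : IsPBlock M β)
    (hcov : ∃ χ ∈ β, ∃ θ ∈ c, classInner (fun n : N => (χ : X → ℂ) n) (θ : N → ℂ) ≠ 0)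
    {D : Subgroup X} (hD : IsDefectGroup p M β D) (hnorm : (D ⊔ N).Normal) :
    blockDefect p c ≤ (Nat.card ↥(D ⊓ N)).factorization p := by
  classical
  have hp : p.Prime := Fact.out
  have hMp := isPrime_of_isPModular hM
  set T : Subgroup X := D ⊔ N with hT
  have : Fintype T := Fintype.ofFinite _
  have hTn : T.Normal := hnorm
  have hNT : N ≤ T := le_sup_right
  have hn : (N.subgroupOf T).Normal := hN.subgroupOf T
  have : Fintype (N.subgroupOf T) := Fintype.ofFinite _
  obtain ⟨χ₀, hχ₀, θ₀, hθ₀, hne⟩ := hcov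
  obtain ⟨η, hη1, hη2⟩ := exists_middle hNT χ₀ θ₀ hne
  set φ := Subgroup.subgroupOfEquivOfLe hNT with hφ
  set c' := mapBlock φ c with hc'
  have hc'b : IsPBlock M c' := isPBlock_mapBlock φ hc
  have hst' : ∀ x : T, StabilizesBlock (N.subgroupOf T) c' x :=
    stabilizes_mapBlock N T hNT c (fun k _ ξ hξ => cjIrr_mem_of_stabilizes N (hst k) hξ)
  set b' := blockOf M (η : T → ℂ) with hb'
  have hb'b : IsPBlock M b' := isPBlock_blockOf η
  have hηb' : η ∈ b' := mem_blockOf_self hMp η
  have hcov1 : ∃ χ ∈ β, ∃ θ ∈ b', classInner (fun t : T => (χ : X → ℂ) t) (θ : T → ℂ) ≠ 0 :=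
    ⟨χ₀, hχ₀, η, hηb', hη1⟩
  have hcov2 : ∃ ψ ∈ b', ∃ θ ∈ c', classInner (fun n : N.subgroupOf T => (ψ : T → ℂ) n)
      (θ : N.subgroupOf T → ℂ) ≠ 0 := by
    refine ⟨η, hηb', irrComp φ θ₀, irrComp_mem_mapBlock φ hθ₀, ?_⟩
    rw [classInner_resN_eq]
    exact hη2
  have hDp : IsPGroup p D := Cfsg.Agent.Lib.Helper78_FirstMainGT.isDefectGroup_isPGroup hD
  obtain ⟨k, hk⟩ : ∃ k, N.relIndex D = p ^ k := hDp.index (N.subgroupOf D)
  have hidx : (N.subgroupOf T).index = p ^ k := by
    show N.relIndex T = p ^ k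
    rw [hT, Subgroup.relIndex_sup_right, hk]
  have hcoef : ∀ g : T, blockCoeff b' g = subgroupBlockCoeff (N.subgroupOf T) c' g := by
    have := blockCoeff_eq_extZero (N.subgroupOf T) hMp hc'b
      (gClosure_eq_of_stable (N.subgroupOf T) hst') hb'b
      (fun g hg => Cfsg.Agent.Lib.Helper77_WeakOrth.blockCoeff_block_eq_zero_of_sing hM hb'b g
        (dvd_orderOf_of_not_mem (N.subgroupOf T) hidx hg)) hcov2
    intro g
    rw [this, extZero_eq_subgroupBlockCoeff]
  have h1 := blockDefect_eq_add (N.subgroupOf T) hM hidx hc'b hb'b hcoef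
  have h2 : blockDefect p c' = blockDefect p c := blockDefect_mapBlock hM φ hc
  have h3 := Cfsg.Agent.Lib.Helper82_CoverDefect.defect_le_of_covers T hM hβ hb'b hcov1
  have h4 := Cfsg.Agent.Lib.Helper78_Deficiency.card_isDefectGroup hM hβ hD
  have h5 : Nat.card ↥(D ⊓ N) * N.relIndex D = Nat.card D := by
    have := Subgroup.relIndex_mul_relIndex (⊥ : Subgroup X) (D ⊓ N) D bot_le inf_le_left
    rw [Subgroup.relIndex_bot_left, Subgroup.relIndex_bot_left, Subgroup.inf_relIndex_left] at this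
    exact this
  have h6 : (Nat.card ↥(D ⊓ N)).factorization p + k = blockDefect p β := by
    have h7 : (Nat.card ↥(D ⊓ N) * p ^ k).factorization p = (p ^ blockDefect p β).factorization p := by
      rw [← hk, h5, h4]
    rw [Nat.factorization_mul Nat.card_pos.ne' (pow_pos hp.pos k).ne', Finsupp.add_apply,
      Nat.Prime.factorization_pow hp, Nat.Prime.factorization_pow hp] at h7
    simpa using h7
  omega

end lemmaA


section lemmaB

variable {G : Type u} [Group G] [Fintype G] {p : ℕ} [Fact p.Prime] {M : Ideal AlgInt}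

/-- `N D C_G(D)` normalizes `D N`. -/
theorem sup_le_normalizer_sup (D N : Subgroup G) [hN : N.Normal] :
    N ⊔ (D ⊔ Subgroup.centralizer (D : Set G)) ≤
      Subgroup.normalizer ((D ⊔ N : Subgroup G) : Set G) := by
  have h1 : Subgroup.normalizer (D : Set G) ≤
      Subgroup.normalizer ((D ⊔ N : Subgroup G) : Set G) := by
    intro g hg
    have hg' : g⁻¹ ∈ Subgroup.normalizer (D : Set G) := inv_mem hg
    rw [Subgroup.mem_normalizer_iff] at hg hg' ⊢
    intro h
    constructor
    · intro hh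
      obtain ⟨d, hd, n, hn, rfl⟩ := Subgroup.mem_sup_of_normal_right.mp hh
      refine Subgroup.mem_sup_of_normal_right.mpr
        ⟨g * d * g⁻¹, (hg d).mp hd, g * n * g⁻¹, hN.conj_mem n hn g, ?_⟩
      group
    · intro hh
      obtain ⟨d, hd, n, hn, hdn⟩ := Subgroup.mem_sup_of_normal_right.mp hh
      refine Subgroup.mem_sup_of_normal_right.mpr
        ⟨g⁻¹ * d * g⁻¹⁻¹, (hg' d).mp hd, g⁻¹ * n * g⁻¹⁻¹, hN.conj_mem n hn g⁻¹, ?_⟩
      have : h = g⁻¹ * (g * h * g⁻¹) * g := by group
      rw [this, ← hdn]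
      group
  refine sup_le ?_ (sup_le ?_ ?_)
  · exact (le_sup_right : N ≤ D ⊔ N).trans Subgroup.le_normalizer
  · exact (Subgroup.le_normalizer).trans h1
  · exact (Cfsg.Agent.Lib.Helper78_FirstMain.centralizer_le_normalizer D).trans h1

/-- The function `extZero N (blockCoeff b)` restricted to a subgroup `K ≥ N`. -/
theorem extZero_restrict (N K : Subgroup G) [Fintype N] [Fintype K] (hNK : N ≤ K)
    [Fintype (N.subgroupOf K)] (b : Set (IrrCharacter N)) (h : K) :
    extZero N (blockCoeff b) (h : G) =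
      extZero (N.subgroupOf K)
        (blockCoeff (mapBlock (Subgroup.subgroupOfEquivOfLe hNK) b)) h := by
  by_cases hh : (h : G) ∈ N
  · have hh' : h ∈ N.subgroupOf K := Subgroup.mem_subgroupOf.mpr hh
    have e1 := extZero_mem N (blockCoeff b) ⟨(h : G), hh⟩
    have e2 := extZero_mem (N.subgroupOf K)
      (blockCoeff (mapBlock (Subgroup.subgroupOfEquivOfLe hNK) b)) ⟨h, hh'⟩
    rw [e1, e2, blockCoeff_mapBlock]
    rfl
  · have hh' : h ∉ N.subgroupOf K := fun hc => hh (Subgroup.mem_subgroupOf.mp hc)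
    rw [extZero_not_mem N _ hh, extZero_not_mem (N.subgroupOf K) _ hh']

/-- The invariance of the idempotent of a stable block. -/
theorem cj_blockCoeff_of_stable (N : Subgroup G) [hN : N.Normal] [Fintype N]
    {b : Set (IrrCharacter N)} (hst : ∀ x : G, StabilizesBlock N b x) (x : G) :
    cj N x (blockCoeff b) = blockCoeff b := by
  have := cj_covF N b x
  unfold covF at this
  rw [gClosure_eq_of_stable N hst] at this
  exact this

/-- If `b^G = B` and `B` covers the stable block `b₀` of `N ≤ H`, then `b` covers `b₀`. -/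
theorem covers_of_induced (hM : IsPModular p M) (N : Subgroup G) [hN : N.Normal] [Fintype N]
    {b₀ : Set (IrrCharacter N)} (hb₀ : IsPBlock M b₀) (hst : ∀ x : G, StabilizesBlock N b₀ x)
    {B : Set (IrrCharacter G)} (hB : IsPBlock M B)
    (hcov : ∃ χ ∈ B, ∃ θ ∈ b₀, classInner (fun n : N => (χ : G → ℂ) n) (θ : N → ℂ) ≠ 0)
    (H : Subgroup G) [Fintype H] (hNH : N ≤ H) [Fintype (N.subgroupOf H)]
    {β : Set (IrrCharacter H)} (hind : IsInducedBlock M H β B) :
    ∃ ξ ∈ β, ∃ θ ∈ mapBlock (Subgroup.subgroupOfEquivOfLe hNH) b₀,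
      classInner (fun n : N.subgroupOf H => (ξ : H → ℂ) n) (θ : N.subgroupOf H → ℂ) ≠ 0 := by
  classical
  have hMp := isPrime_of_isPModular hM
  have hn : (N.subgroupOf H).Normal := hN.subgroupOf H
  set φ := Subgroup.subgroupOfEquivOfLe hNH with hφ
  have hβ : IsPBlock M β := hind.1
  have hinv := cj_blockCoeff_of_stable N hst
  set f : G → ℂ := extZero N (blockCoeff b₀) with hf
  have hfc : IsClassFunction G f := extZero_isClassFunction N _ hinv
  have hfR : ∀ g, MemLocalRing M (f g) :=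
    memLocalRing_extZero N hMp _ (fun n => osima_block' hMp hb₀ n)
  obtain ⟨χ₀, hχ₀, θ₀, hθ₀, hχθ₀⟩ := hcov
  have h1 : omega (χ₀ : G → ℂ) f = 1 := by
    rw [hf, omega_extZero_eq N χ₀ θ₀ hχθ₀ _ hinv, omega_blockCoeff charFacts b₀ θ₀,
      Set.indicator_of_mem hθ₀]
  obtain ⟨ξ, hξ⟩ := isPBlock_nonempty hMp hβ
  have h2 := (Cfsg.Agent.Lib.Helper78_InducedTrans.isInducedBlock_iff_omega hMp H hβ hB).mp hind
    ξ hξ χ₀ hχ₀ f hfc hfR
  rw [h1] at h2
  have hst' : ∀ x : H, StabilizesBlock (N.subgroupOf H) (mapBlock φ b₀) x :=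
    stabilizes_mapBlock N H hNH b₀ (fun k _ ξ hξ => cjIrr_mem_of_stabilizes N (hst k) hξ)
  have hinv' := cj_blockCoeff_of_stable (N.subgroupOf H) hst'
  have hfH : (fun h : H => f h) = extZero (N.subgroupOf H) (blockCoeff (mapBlock φ b₀)) := by
    funext h
    exact extZero_restrict N H hNH b₀ h
  obtain ⟨θ₁, hθ₁⟩ := exists_under (N.subgroupOf H) ξ
  rw [hfH, omega_extZero_eq (N.subgroupOf H) ξ θ₁ hθ₁ _ hinv',
    omega_blockCoeff charFacts (mapBlock φ b₀) θ₁] at h2
  refine ⟨ξ, hξ, θ₁, ?_, hθ₁⟩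
  by_contra hnot
  rw [Set.indicator_of_notMem hnot, zero_sub] at h2
  have h3 : MemLocalIdeal M (1 : ℂ) := by
    have := Cfsg.Agent.Lib.Helper78_LocalRing.memLocalIdeal_neg h2
    simpa using this
  exact not_memLocalIdeal_one hMp h3


/-- **Knörr, the inequality.** If `B` covers the `G`-stable block `b` of `N` and `D` is a defect
group of `B`, then `p ^ d(b) ≤ |D ∩ N|`. -/
theorem defect_le_card_inf (hM : IsPModular p M) (N : Subgroup G) [hN : N.Normal] [Fintype N]
    {b : Set (IrrCharacter N)} (hb : IsPBlock M b) (hst : ∀ x : G, StabilizesBlock N b x)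
    {B : Set (IrrCharacter G)} (hB : IsPBlock M B)
    (hcov : ∃ χ ∈ B, ∃ θ ∈ b, classInner (fun n : N => (χ : G → ℂ) n) (θ : N → ℂ) ≠ 0)
    {D : Subgroup G} (hD : IsDefectGroup p M B D) :
    blockDefect p b ≤ (Nat.card ↥(D ⊓ N)).factorization p := by
  classical
  have hp : p.Prime := Fact.out
  have hMp := isPrime_of_isPModular hM
  have hDp : IsPGroup p D := Cfsg.Agent.Lib.Helper78_FirstMainGT.isDefectGroup_isPGroup hD
  set L : Subgroup G := D ⊔ Subgroup.centralizer (D : Set G) with hL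
  obtain ⟨bD, hbD, hbDind⟩ : ∃ b : Set (IrrCharacter ↥L),
      IsDefectGroup p M b (D.subgroupOf L) ∧ IsInducedBlock M L b B :=
    Cfsg.Agent.Lib.Helper78_ExtFirstMain.exists_induced_of_defect hM hB hD
  set Hs : Subgroup G := N ⊔ L with hHs
  have : Fintype L := Fintype.ofFinite _
  have : Fintype Hs := Fintype.ofFinite _
  have hLH : L ≤ Hs := le_sup_right
  have hNH : N ≤ Hs := le_sup_left
  have hDL : D ≤ L := le_sup_left
  have hDH : D ≤ Hs := hDL.trans hLH
  set K₁ : Subgroup Hs := L.subgroupOf Hs with hK₁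
  have : Fintype K₁ := Fintype.ofFinite _
  set φL : K₁ ≃* L := Subgroup.subgroupOfEquivOfLe hLH with hφL
  have hφLc : ∀ k : K₁, ((φL k : L) : G) = ((k : Hs) : G) := fun k => rfl
  have hbD' : IsPBlock M (mapBlock φL bD) := isPBlock_mapBlock φL hbDind.1
  set P' : Subgroup Hs := D.subgroupOf Hs with hP'
  have hP'p : IsPGroup p P' := hDp.comap_subtype
  have hP'K : P' ≤ K₁ := by
    intro x hx
    exact Subgroup.mem_subgroupOf.mpr (hDL (Subgroup.mem_subgroupOf.mp hx))
  have hCK : Subgroup.centralizer (P' : Set Hs) ≤ K₁ := by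
    intro x hx
    rw [hK₁, Subgroup.mem_subgroupOf]
    apply (le_sup_right : Subgroup.centralizer (D : Set G) ≤ L)
    rw [Subgroup.mem_centralizer_iff] at hx ⊢
    intro d hd
    have := hx ⟨d, hDH hd⟩ (Subgroup.mem_subgroupOf.mpr hd)
    exact congrArg Subtype.val this
  have hKN : K₁ ≤ Subgroup.normalizer (P' : Set Hs) := by
    intro x hx
    have hxL : (x : G) ∈ L := Subgroup.mem_subgroupOf.mp hx
    have hxN : (x : G) ∈ Subgroup.normalizer (D : Set G) :=
      (sup_le Subgroup.le_normalizer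
        (Cfsg.Agent.Lib.Helper78_FirstMain.centralizer_le_normalizer D)) hxL
    rw [Subgroup.mem_normalizer_iff] at hxN ⊢
    intro h
    rw [hP', Subgroup.mem_subgroupOf, Subgroup.mem_subgroupOf]
    exact hxN h
  obtain ⟨β, hβind⟩ :=
    Cfsg.Agent.Lib.Helper78_BrauerMap.inducedBlockDefined hM hP'p hP'K hCK hKN hbD'
  have hβ : IsPBlock M β := hβind.2.1
  have hβG : IsInducedBlock M Hs β B :=
    (Cfsg.Agent.Lib.Helper78_InducedTrans.isInducedBlock_trans hMp φL hφLc hB hβind).mpr hbDind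
  -- `P'` is a defect group of `β`
  have hP'def : IsDefectGroup p M β P' := by
    have h1 := isDefectGroup_mapBlock (p := p) (M := M) φL hbD
    obtain ⟨D₂, hD₂, hle⟩ := Cfsg.Agent.Lib.Helper78_Defect.exists_isDefectGroup_ge_of_induced hM K₁
      hbD' hβ hβind _ h1
    have hP'le : P' ≤ D₂ := by
      intro x hx
      apply hle
      have hxD : (x : G) ∈ D := Subgroup.mem_subgroupOf.mp hx
      refine ⟨φL.symm ⟨(x : G), hDL hxD⟩,
        ⟨⟨(x : G), hDL hxD⟩, Subgroup.mem_subgroupOf.mpr hxD, rfl⟩, ?_⟩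
      apply Subtype.ext
      rfl
    obtain ⟨E, hE, hDE⟩ := Cfsg.Agent.Lib.Helper78_Defect.exists_isDefectGroup_ge_of_induced hM Hs
      hβ hB hβG D₂ hD₂
    have hcard : Nat.card D₂ ≤ Nat.card P' := by
      have e1 : Nat.card (D₂.map Hs.subtype) = Nat.card D₂ :=
        Subgroup.card_map_of_injective (Subgroup.subtype_injective Hs)
      rw [hP', Cfsg.Agent.Lib.Helper78_BrauerCorr.card_subgroupOf_of_le hDH,
        Cfsg.Agent.Lib.Helper78_FirstMainGT.isDefectGroup_card_eq hM hB hE hD, ← e1]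
      exact Subgroup.card_le_of_le hDE
    have : P' = D₂ := Subgroup.eq_of_le_of_card_ge hP'le hcard
    rw [this]
    exact hD₂
  have hn' : (N.subgroupOf Hs).Normal := hN.subgroupOf Hs
  have : Fintype (N.subgroupOf Hs) := Fintype.ofFinite _
  set ψ := Subgroup.subgroupOfEquivOfLe hNH with hψ
  have hb' : IsPBlock M (mapBlock ψ b) := isPBlock_mapBlock ψ hb
  have hst' : ∀ x : Hs, StabilizesBlock (N.subgroupOf Hs) (mapBlock ψ b) x :=
    stabilizes_mapBlock N Hs hNH b (fun k _ ξ hξ => cjIrr_mem_of_stabilizes N (hst k) hξ)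
  have hcov' := covers_of_induced hM N hb hst hB hcov Hs hNH hβG
  have hnorm : (P' ⊔ N.subgroupOf Hs).Normal := by
    rw [hP', ← Subgroup.subgroupOf_sup hDH hNH]
    exact (Subgroup.normal_subgroupOf_iff_le_normalizer (sup_le hDH hNH)).mpr
      (sup_le_normalizer_sup D N)
  have hA := defect_le_of_sup_normal hM (N.subgroupOf Hs) hb' hst' hβ hcov' hP'def hnorm
  rw [blockDefect_mapBlock hM ψ hb] at hA
  have hcardeq : Nat.card ↥(P' ⊓ N.subgroupOf Hs) = Nat.card ↥(D ⊓ N) := by
    have e : P' ⊓ N.subgroupOf Hs = (D ⊓ N).subgroupOf Hs := by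
      rw [hP']
      exact (Subgroup.comap_inf D N Hs.subtype).symm
    rw [e]
    exact Cfsg.Agent.Lib.Helper78_BrauerCorr.card_subgroupOf_of_le (inf_le_left.trans hDH)
  rw [hcardeq] at hA
  exact hA

end lemmaB


section lemmaC

variable {G : Type u} [Group G] [Fintype G] {p : ℕ} [Fact p.Prime] {M : Ideal AlgInt}

/-- If `B` covers the stable block `b` of `N` and `D` is a defect group of `B`, some `x ∈ N` with
`blockCoeff b x` outside the local ideal is centralized by `D`. -/
theorem exists_unit_centralized (hM : IsPModular p M) (N : Subgroup G) [hN : N.Normal]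
    [Fintype N] {b : Set (IrrCharacter N)} (hb : IsPBlock M b)
    (hst : ∀ x : G, StabilizesBlock N b x)
    {B : Set (IrrCharacter G)} (hB : IsPBlock M B)
    (hcov : ∃ χ ∈ B, ∃ θ ∈ b, classInner (fun n : N => (χ : G → ℂ) n) (θ : N → ℂ) ≠ 0)
    {D : Subgroup G} (hD : IsDefectGroup p M B D) :
    ∃ x : N, ¬ MemLocalIdeal M (blockCoeff b x) ∧
      D ≤ Subgroup.centralizer ({(x : G)} : Set G) := by
  classical
  have hp : p.Prime := Fact.out
  have hMp := isPrime_of_isPModular hM
  have hinv := cj_blockCoeff_of_stable N hst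
  set f : G → ℂ := extZero N (blockCoeff b) with hf
  have hfc : IsClassFunction G f := extZero_isClassFunction N _ hinv
  have hfR : ∀ g, MemLocalRing M (f g) :=
    memLocalRing_extZero N hMp _ (fun n => osima_block' hMp hb n)
  obtain ⟨χ₀, hχ₀, θ₀, hθ₀, hχθ₀⟩ := hcov
  have h1 : omega (χ₀ : G → ℂ) f = 1 := by
    rw [hf, omega_extZero_eq N χ₀ θ₀ hχθ₀ _ hinv, omega_blockCoeff charFacts b θ₀,
      Set.indicator_of_mem hθ₀]
  set f' : G → ℂ := fun x => if MemLocalIdeal M (f x) then 0 else f x with hf'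
  have hf'c : IsClassFunction G f' := by
    intro x y
    simp only [hf']
    rw [hfc x y]
  have hf'R : ∀ g, MemLocalRing M (f' g) := by
    intro g
    simp only [hf']
    split_ifs
    · exact memLocalRing_zero hMp
    · exact hfR g
  have hdiffc : IsClassFunction G (f - f') := by
    intro x y
    simp only [Pi.sub_apply]
    rw [hfc x y, hf'c x y]
  have hdiffI : ∀ x, MemLocalIdeal M ((f - f') x) := by
    intro x
    simp only [Pi.sub_apply, hf']
    split_ifs with h
    · rwa [sub_zero]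
    · rw [sub_self]
      exact memLocalIdeal_zero hMp
  have hu : ∀ χ ∈ B, ¬ MemLocalIdeal M (omega ((χ : IrrCharacter G) : G → ℂ) f') := by
    intro χ hχ hI
    have e1 := Cfsg.Agent.Lib.Helper82_CoverDefect.memLocalIdeal_omega_of_forall hMp χ.2 hdiffc
      hdiffI
    rw [omega_sub] at e1
    have e2 := memLocalIdeal_add hMp e1 hI
    rw [sub_add_cancel] at e2
    have e3 := memLocalIdeal_omega_sub hMp (isIrrCharacter_isClassFunction χ₀.2)
      (isIrrCharacter_isClassFunction χ.2) (isPBlock_sameBlock hMp hB hχ₀ hχ) hfc hfR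
    have e4 := memLocalIdeal_add hMp e3 e2
    rw [sub_add_cancel, h1] at e4
    exact not_memLocalIdeal_one hMp e4
  have hcardD := Cfsg.Agent.Lib.Helper77_CentralDefect.card_of_isDefectGroup hM hB hD
  obtain ⟨g₀, hg₀, P, hDP⟩ := hD
  have hDcent : D ≤ Subgroup.centralizer ({g₀} : Set G) := by
    rw [hDP]
    exact Cfsg.Agent.Lib.Helper78_MinMax.map_sylow_le _ P
  obtain ⟨x, hx, hDx⟩ := Cfsg.Agent.Lib.Helper78_MinMax.exists_centralized_of_blockCoeff hM hB
    hf'c hf'R hu g₀ hg₀.2.1 D hcardD.1 hDcent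
  have hxI : ¬ MemLocalIdeal M (f x) := by
    intro h
    apply hx
    simp only [hf']
    rw [if_pos h]
  have hxN : x ∈ N := by
    by_contra hxN
    apply hxI
    rw [hf, extZero_not_mem N _ hxN]
    exact memLocalIdeal_zero hMp
  refine ⟨⟨x, hxN⟩, ?_, hDx⟩
  have := extZero_mem N (blockCoeff b) ⟨x, hxN⟩
  rw [← this]
  exact hxI

/-- **Knörr's theorem, stable case.** If the block `B` of `G` covers the `G`-stable block `b` of
the normal subgroup `N`, then `D ∩ N` is a defect group of `b` for every defect group `D` of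
`B`. -/
theorem inf_isDefectGroup_of_stable (hM : IsPModular p M) (N : Subgroup G) [hN : N.Normal]
    [Fintype N] {b : Set (IrrCharacter N)} (hb : IsPBlock M b)
    (hst : ∀ x : G, StabilizesBlock N b x)
    {B : Set (IrrCharacter G)} (hB : IsPBlock M B)
    (hcov : ∃ χ ∈ B, ∃ θ ∈ b, classInner (fun n : N => (χ : G → ℂ) n) (θ : N → ℂ) ≠ 0)
    {D : Subgroup G} (hD : IsDefectGroup p M B D) :
    IsDefectGroup p M b ((D ⊓ N).subgroupOf N) := by
  classical
  have hp : p.Prime := Fact.out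
  have hMp := isPrime_of_isPModular hM
  have hineq := defect_le_card_inf hM N hb hst hB hcov hD
  obtain ⟨x, hcx, hDx⟩ := exists_unit_centralized hM N hb hst hB hcov hD
  have hcardD := Cfsg.Agent.Lib.Helper77_CentralDefect.card_of_isDefectGroup hM hB hD
  obtain ⟨Q, hQ⟩ := exists_dg hM hb
  have hcardQ := Cfsg.Agent.Lib.Helper77_CentralDefect.card_of_isDefectGroup hM hb hQ
  have hQ₀ := hQ
  obtain ⟨n₁, hn₁, D₁, hQD⟩ := hQ
  set S : Subgroup N := (D ⊓ N).subgroupOf N with hS
  have hSp : IsPGroup p S := (hcardD.1.to_le inf_le_left).comap_subtype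
  have hSx : S ≤ Subgroup.centralizer ({x} : Set N) := by
    intro s hs
    rw [Subgroup.mem_centralizer_singleton_iff]
    have h1 : (s : G) ∈ D := (Subgroup.mem_subgroupOf.mp hs).1
    have h2 := Subgroup.mem_centralizer_singleton_iff.mp (hDx h1)
    apply Subtype.ext
    exact h2
  obtain ⟨y, hy⟩ := Cfsg.Agent.Lib.Helper78_MinMax.le_conj_of_blockCoeff_not_mem hM hb hn₁ D₁
    x hcx S hSp hSx
  rw [← hQD] at hy
  have hQ' := isDefectGroup_map_conj hM hb hQ₀ y
  have hcardS : Nat.card S = Nat.card ↥(D ⊓ N) :=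
    Nat.card_congr (Subgroup.subgroupOfEquivOfLe inf_le_right).toEquiv
  obtain ⟨m, hm⟩ := (hcardD.1.to_le (inf_le_left : D ⊓ N ≤ D)).exists_card_eq
  have hle : Nat.card (Q.map (MulAut.conj y).toMonoidHom) ≤ Nat.card S := by
    rw [Subgroup.card_map_of_injective (MulAut.conj y).injective, hcardQ.2, hcardS, hm]
    apply Nat.pow_le_pow_right hp.pos
    rw [hm, Nat.Prime.factorization_pow hp] at hineq
    simpa using hineq
  have hSQ : S = Q.map (MulAut.conj y).toMonoidHom := Subgroup.eq_of_le_of_card_ge hy hle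
  rw [hSQ]
  exact hQ'

end lemmaC

end Cfsg.Agent.Lib.Helper77_Knorr
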