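import Mathlib
import Cfsg.Prelude.Def_Blocks
import Cfsg.Prelude.Def_BlockLocal
import Cfsg.Agent.Lib.Helper77_Knorr

/-!
# Knörr's theorem, general case (helper77)

* `stabSub N b`: the stabilizer in `G` of a set `b` of irreducible characters of `N ⊴ G`, as a
  subgroup; `mem_stabSub_iff`, `le_stabSub`.
* `exists_defectGroup_inf`: if the block `B` of `G` covers the block `b` of `N`, some defect group
  `D` of `B` stabilizes `b` and has `D ∩ N` a defect group of `b`.
-/

set_option autoImplicit false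
set_option linter.unusedSectionVars false

namespace Cfsg.Agent.Lib.Helper77_Knorr2

open Cfsg Cfsg.Agent.Lib.Helper16_Char Cfsg.Agent.Lib.Helper16_Clifford
  Cfsg.Agent.Lib.Helper16_Orbit Cfsg.Agent.Lib.Helper16_Cover
  Cfsg.Agent.Lib.Helper78_LocalRing Cfsg.Agent.Lib.Helper78_Osima
  Cfsg.Agent.Lib.Helper78_CentralChar Cfsg.Agent.Lib.Helper78_CharFacts
  Cfsg.Agent.Lib.Helper77_StableCover Cfsg.Agent.Lib.Helper77_BlockBasics
  Cfsg.Agent.Lib.Helper77_NormalPair Cfsg.Agent.Lib.Helper77_InvHeightZero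
  Cfsg.Agent.Lib.Helper78_Transport Cfsg.Agent.Lib.Helper78_TransportBlocks
  Cfsg.Agent.Lib.Helper77_FongReynolds Cfsg.Agent.Lib.Helper77_FongReynolds2
  Cfsg.Agent.Lib.Helper77_StabDefect Cfsg.Agent.Lib.Helper77_QuotDefect2
  Cfsg.Agent.Lib.Helper77_Knorr
open scoped ComplexConjugate

universe u

section stab

variable {G : Type u} [Group G] (N : Subgroup G) [hN : N.Normal] {M : Ideal AlgInt}

/-- The stabilizer of a set of irreducible characters of the normal subgroup `N`. -/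
def stabSub (b : Set (IrrCharacter N)) : Subgroup G where
  carrier := {g | ∀ θ : IrrCharacter N, θ ∈ b ↔ cjIrr N g θ ∈ b}
  one_mem' := by
    intro θ
    have : cjIrr N 1 θ = θ := Subtype.ext (cj_one N θ)
    rw [this]
  mul_mem' := by
    intro x y hx hy θ
    have : cjIrr N (x * y) θ = cjIrr N x (cjIrr N y θ) := Subtype.ext (cj_mul N x y θ)
    rw [this, ← hx, ← hy]
  inv_mem' := by
    intro x hx θ
    have : cjIrr N x (cjIrr N x⁻¹ θ) = θ := Subtype.ext (cj_cj_inv N x θ)
    rw [hx (cjIrr N x⁻¹ θ), this]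

theorem mem_stabSub_iff (hM : M.IsPrime) {b : Set (IrrCharacter N)} (hb : IsPBlock M b) (g : G) :
    g ∈ stabSub N b ↔ ∀ θ ∈ b, cjIrr N g θ ∈ b := by
  constructor
  · intro h θ hθ
    exact (h θ).mp hθ
  · intro h θ
    refine ⟨h θ, fun hθ => ?_⟩
    obtain ⟨θ₀, hθ₀⟩ := isPBlock_nonempty hM hb
    have h0 := isPBlock_sameBlock hM hb (h θ₀ hθ₀) hθ
    have e0 : ((cjIrr N g θ₀ : IrrCharacter N) : N → ℂ) = cj N g (θ₀ : N → ℂ) := rfl
    have e1 : ((cjIrr N g θ : IrrCharacter N) : N → ℂ) = cj N g (θ : N → ℂ) := rfl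
    rw [e0, e1] at h0
    have h2 : SameBlock M (cj N g⁻¹ (cj N g (θ₀ : N → ℂ))) (cj N g⁻¹ (cj N g (θ : N → ℂ))) :=
      sameBlock_cj N g⁻¹ h0
    rw [cj_inv_cj, cj_inv_cj] at h2
    exact isPBlock_mem_of_sameBlock hM hb hθ₀ h2

theorem le_stabSub [Fintype G] [Fintype N] (hM : M.IsPrime) {b : Set (IrrCharacter N)} (hb : IsPBlock M b) :
    N ≤ stabSub N b := by
  intro n hn
  rw [mem_stabSub_iff N hM hb]
  intro θ hθ
  have : cjIrr N n θ = θ :=
    Subtype.ext (cj_eq_self_of_mem N hn (isIrrCharacter_isClassFunction θ.2))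
  rw [this]
  exact hθ

end stab

section main

variable {G : Type u} [Group G] [Fintype G] {p : ℕ} [Fact p.Prime] {M : Ideal AlgInt}

/-- **Knörr's theorem.** If the block `B` of `G` covers the block `b` of `N ⊴ G`, some defect group
`D` of `B` stabilizes `b` and has `D ∩ N` a defect group of `b`. -/
theorem exists_defectGroup_inf (hM : IsPModular p M) (N : Subgroup G) [hN : N.Normal] [Fintype N]
    {b : Set (IrrCharacter N)} (hb : IsPBlock M b)
    {B : Set (IrrCharacter G)} (hB : IsPBlock M B)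
    (hcov : ∃ χ ∈ B, ∃ θ ∈ b, classInner (fun n : N => (χ : G → ℂ) n) (θ : N → ℂ) ≠ 0) :
    ∃ D : Subgroup G, IsDefectGroup p M B D ∧ (∀ x ∈ D, StabilizesBlock N b x) ∧
      IsDefectGroup p M b ((D ⊓ N).subgroupOf N) := by
  classical
  have hMp := isPrime_of_isPModular hM
  set T : Subgroup G := stabSub N b with hTdef
  have : Fintype T := Fintype.ofFinite _
  have hT : ∀ g : G, g ∈ T ↔ ∀ θ ∈ b, cjIrr N g θ ∈ b := mem_stabSub_iff N hMp hb
  have hNT : N ≤ T := le_stabSub N hMp hb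
  obtain ⟨B', hB', hcov', hind⟩ := fr_part3 hNT hMp hb hT hB hcov
  have hn : (N.subgroupOf T).Normal := hN.subgroupOf T
  have : Fintype (N.subgroupOf T) := Fintype.ofFinite _
  set φ := Subgroup.subgroupOfEquivOfLe hNT with hφ
  have hb' : IsPBlock M (mapBlock φ b) := isPBlock_mapBlock φ hb
  have hst' : ∀ x : T, StabilizesBlock (N.subgroupOf T) (mapBlock φ b) x :=
    stabilizes_mapBlock N T hNT b (fun k hk ξ hξ => (hT k).mp hk ξ hξ)
  have hcov'' : ∃ χ ∈ B', ∃ θ ∈ mapBlock φ b,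
      classInner (fun n : N.subgroupOf T => (χ : T → ℂ) n) (θ : N.subgroupOf T → ℂ) ≠ 0 := by
    obtain ⟨χ, hχ, θ, hθ, h⟩ := hcov'
    refine ⟨χ, hχ, irrComp φ θ, irrComp_mem_mapBlock φ hθ, ?_⟩
    rw [classInner_resN_eq]
    exact h
  obtain ⟨D', hD'⟩ := Cfsg.Agent.Lib.Helper78_Deficiency.exists_isDefectGroup hM hB'
  have hK := inf_isDefectGroup_of_stable hM (N.subgroupOf T) hb' hst' hB' hcov'' hD'
  have hD := (fr_heights hNT p hM hb hT hB' hcov' hind).1 D' hD'
  refine ⟨D'.map T.subtype, hD, ?_, ?_⟩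
  · rintro _ ⟨d, _, rfl⟩
    rw [stabilizes_iff]
    exact (hT (d : G)).mp d.2
  · have h1 := isDefectGroup_mapBlock (p := p) (M := M) φ.symm hK
    rw [mapBlock_symm_mapBlock] at h1
    have heq : ((D' ⊓ N.subgroupOf T).subgroupOf (N.subgroupOf T)).map
        ((φ.symm.symm : N.subgroupOf T ≃* N) : N.subgroupOf T →* N) =
        (D'.map T.subtype ⊓ N).subgroupOf N := by
      ext n
      constructor
      · rintro ⟨q, hq, rfl⟩
        have hq' := Subgroup.mem_subgroupOf.mp hq
        rw [Subgroup.mem_subgroupOf]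
        refine ⟨⟨(q : T), hq'.1, rfl⟩, ?_⟩
        exact (φ q).2
      · intro hn'
        have hn'' := Subgroup.mem_subgroupOf.mp hn'
        obtain ⟨d, hd, hdn⟩ := hn''.1
        have hdN : d ∈ N.subgroupOf T := by
          rw [Subgroup.mem_subgroupOf]
          show (d : G) ∈ N
          have : (d : G) = (n : G) := hdn
          rw [this]
          exact n.2
        refine ⟨⟨d, hdN⟩, ?_, ?_⟩
        · rw [SetLike.mem_coe, Subgroup.mem_subgroupOf]
          exact ⟨hd, hdN⟩
        · apply Subtype.ext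
          exact hdn
    rw [heq] at h1
    exact h1

end main

end Cfsg.Agent.Lib.Helper77_Knorr2
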