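import Mathlib
import Cfsg.Prelude.Def_Blocks
import Cfsg.Agent.Lib.Helper78_LocalRing
import Cfsg.Agent.Lib.Helper77_MatrixLocal
import Cfsg.Agent.Lib.Helper77_PRoots
import Cfsg.Agent.Lib.Helper77_PermTrace

/-!
# The key trace lemma for monomial matrices (helper77)

Generalization of `Helper77_PermTrace.trace_pmat_mul_idempotent_eq_zero` from permutation matrices
to arbitrary matrices supported on the graph of a permutation all of whose cycles have length
divisible by `p`.
-/

set_option autoImplicit false
set_option linter.unusedSectionVars false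

namespace Cfsg.Agent.Lib.Helper77_Monomial

open Cfsg Cfsg.Agent.Lib.Helper78_LocalRing Cfsg.Agent.Lib.Helper77_MatrixLocal
  Cfsg.Agent.Lib.Helper77_PRoots Cfsg.Agent.Lib.Helper77_PermTrace Matrix

variable {M : Ideal AlgInt} {n : Type*} [Fintype n] [DecidableEq n]

/-- **Key lemma, monomial form.** Let `T` be a matrix supported on the graph of a permutation `π`
all of whose cycles have length divisible by `p`, and `F` an idempotent matrix with local-integer
entries commuting with `T`. Then `trace (T * F) = 0`. -/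
theorem trace_monomial_mul_idempotent_eq_zero {p : ℕ} (hM : IsPModular p M) (π : Equiv.Perm n)
    (hπ : ∀ (j : ℕ) (a : n), (π ^ j) a = a → p ∣ j)
    (T : Matrix n n ℂ) (hT : ∀ i j, i ≠ π j → T i j = 0)
    {F : Matrix n n ℂ} (hF : F * F = F) (hFR : EntR M F)
    (hc : T * F = F * T) : (T * F).trace = 0 := by
  have hp : p.Prime := hM.1
  have hMp : M.IsPrime := hM.2.1.isPrime
  -- a primitive p-th root of unity
  obtain ⟨ω, hω1, hωp⟩ : ∃ ω : ℂ, ω ≠ 1 ∧ ω ^ p = 1 := by
    have hprim := Complex.isPrimitiveRoot_exp p hp.ne_zero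
    refine ⟨_, ?_, hprim.pow_eq_one⟩
    exact hprim.ne_one hp.one_lt
  have hω0 : ω ≠ 0 := by
    intro h
    rw [h, zero_pow hp.ne_zero] at hωp
    exact zero_ne_one hωp
  obtain ⟨δ, hδπ, hδk⟩ := exists_twist π hπ ω hωp
  have hδ0 : ∀ a, δ a ≠ 0 := by
    intro a
    obtain ⟨k, hk⟩ := hδk a
    rw [hk]
    exact pow_ne_zero _ hω0
  have hδp : ∀ a, δ a ^ p = 1 := by
    intro a
    obtain ⟨k, hk⟩ := hδk a
    rw [hk, ← pow_mul, mul_comm, pow_mul, hωp, one_pow]
  set D : Matrix n n ℂ := Matrix.diagonal δ with hD
  set D' : Matrix n n ℂ := Matrix.diagonal (fun a => (δ a)⁻¹) with hD'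
  have hDD' : D * D' = 1 := by
    rw [hD, hD', Matrix.diagonal_mul_diagonal]
    rw [← Matrix.diagonal_one]
    congr 1
    funext a
    exact mul_inv_cancel₀ (hδ0 a)
  have hD'D : D' * D = 1 := by
    rw [hD, hD', Matrix.diagonal_mul_diagonal]
    rw [← Matrix.diagonal_one]
    congr 1
    funext a
    exact inv_mul_cancel₀ (hδ0 a)
  -- twisting relations
  have hDP : D * T = ω • (T * D) := by
    ext i j
    rw [hD, Matrix.diagonal_mul, Matrix.smul_apply, Matrix.mul_diagonal, smul_eq_mul]
    by_cases h : i = π j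
    · rw [h, hδπ]; ring
    · rw [hT i j h]; ring
  have hPD' : T * D' = ω • (D' * T) := by
    ext i j
    rw [hD', Matrix.mul_diagonal, Matrix.smul_apply, Matrix.diagonal_mul, smul_eq_mul]
    by_cases h : i = π j
    · rw [h, hδπ, mul_inv]
      field_simp
    · rw [hT i j h]; ring
  set F' : Matrix n n ℂ := D' * F * D with hF'def
  have hF' : F' * F' = F' := by
    rw [hF'def]
    calc D' * F * D * (D' * F * D) = D' * F * (D * D') * F * D := by
          simp only [mul_assoc]
      _ = D' * (F * F) * D := by rw [hDD', mul_one]; simp only [mul_assoc]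
      _ = D' * F * D := by rw [hF]
  have hN : EntI M (F' - F) := by
    intro i j
    have h1 : (F' - F) i j = F i j * ((δ i)⁻¹ * δ j - 1) := by
      rw [Matrix.sub_apply, hF'def, hD, Matrix.mul_diagonal, hD', Matrix.diagonal_mul]
      ring
    rw [h1]
    apply memLocalIdeal_mul_left hMp (hFR i j)
    apply memLocalIdeal_sub_one_of_pow_eq_one hM _ 1
    rw [pow_one, mul_pow, inv_pow, hδp, hδp, inv_one, one_mul]
  have hcF' : T * F' = F' * T := by
    rw [hF'def]
    have e1 : T * (D' * F * D) = ω • (D' * (T * F) * D) := by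
      rw [← mul_assoc, ← mul_assoc, hPD']
      simp only [Matrix.smul_mul, mul_assoc]
    have e2 : D' * F * D * T = ω • (D' * (F * T) * D) := by
      rw [mul_assoc (D' * F), hDP]
      simp only [Matrix.mul_smul, mul_assoc]
    rw [e1, e2, hc]
  have key := trace_mul_eq_of_idempotent_congr hMp hF hF' hFR hN hc hcF'
  have htr : (T * F').trace = ω * (T * F).trace := by
    rw [hF'def]
    calc (T * (D' * F * D)).trace = ((T * D' * F) * D).trace := by
          simp only [mul_assoc]
      _ = (D * (T * D' * F)).trace := Matrix.trace_mul_comm _ _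
      _ = ((D * T) * D' * F).trace := by simp only [mul_assoc]
      _ = (ω • (T * (D * D') * F)).trace := by
          rw [hDP]; simp only [Matrix.smul_mul, mul_assoc]
      _ = ω * (T * F).trace := by
          rw [hDD', mul_one, Matrix.trace_smul, smul_eq_mul]
  rw [htr] at key
  have h2 : (ω - 1) * (T * F).trace = 0 := by
    rw [sub_mul, key, one_mul, sub_self]
  rcases mul_eq_zero.mp h2 with h | h
  · exact absurd (sub_eq_zero.mp h) hω1
  · exact h


end Cfsg.Agent.Lib.Helper77_Monomial
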