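import Mathlib
import Cfsg.Prelude.Def_Blocks
import Cfsg.Agent.Lib.Helper77_Monomial
import Cfsg.Agent.Lib.Helper77_MatrixLocal
import Cfsg.Agent.Lib.Helper77_WeakOrth
import Cfsg.Agent.Lib.Helper77_CentralDefect
import Cfsg.Agent.Lib.Helper77_NormalDefect
import Cfsg.Agent.Lib.Helper77_BlockBasics
import Cfsg.Agent.Lib.Helper78_LocalRing
import Cfsg.Agent.Lib.Helper78_CentralChar
import Cfsg.Agent.Lib.Helper78_CharFacts
import Cfsg.Agent.Lib.Helper80_CharBasic
import Cfsg.Agent.Lib.Helper16_Quot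
import Cfsg.Agent.Lib.Helper3_CharEigen
import Cfsg.Agent.Lib.Helper16_PCongr
import Cfsg.Agent.Lib.Helper77_RegClasses
import Cfsg.Agent.Lib.Helper77_DefectOrder

set_option autoImplicit false
set_option linter.unusedSectionVars false

namespace Cfsg.Agent.Lib.Helper77_Laradji

open Cfsg Cfsg.Agent.Lib.Helper78_LocalRing Cfsg.Agent.Lib.Helper77_MatrixLocal
  Cfsg.Agent.Lib.Helper77_BlockBasics Cfsg.Agent.Lib.Helper78_Osima

open scoped ComplexConjugate

/-- Generalized orthogonality relation for an irreducible character. -/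
theorem gen_orth {G : Type*} [Group G] [Fintype G] (χ : IrrCharacter G) (g : G) :
    ∑ x : G, (χ : G → ℂ) x * (χ : G → ℂ) (x⁻¹ * g) =
      (Nat.card G : ℂ) / (χ : G → ℂ) 1 * (χ : G → ℂ) g := by
  classical
  have hfin : Finite (IrrCharacter G) := Cfsg.Agent.Lib.Helper78_CharFacts.charFacts.finite
  have hGne : (Nat.card G : ℂ) ≠ 0 := by exact_mod_cast (Nat.card_pos (α := G)).ne'
  have hχ1 : (χ : G → ℂ) 1 ≠ 0 :=
    Cfsg.Agent.Lib.Helper78_CentralChar.isIrrCharacter_one_ne_zero χ.2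
  have hreal : conj ((χ : G → ℂ) 1) = (χ : G → ℂ) 1 := by
    rw [apply_one_eq_charDegree χ, Complex.conj_natCast]
  have h := congrFun (Cfsg.Agent.Lib.Helper77_WeakOrth.conv_blockCoeff_self ({χ} : Set (IrrCharacter G))) g
  unfold conv blockCoeff at h
  simp only [finsum_mem_singleton] at h
  have h2 := congrArg conj h
  simp only [map_sum, map_mul, map_inv₀, Complex.conj_natCast, Complex.conj_conj, hreal] at h2
  have h3 : ∑ x : G, (χ : G → ℂ) x * (χ : G → ℂ) (x⁻¹ * g) =
      ((Nat.card G : ℂ) / (χ : G → ℂ) 1) ^ 2 *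
      ∑ x : G, (Nat.card G : ℂ)⁻¹ * ((χ : G → ℂ) 1 * (χ : G → ℂ) x) *
        ((Nat.card G : ℂ)⁻¹ * ((χ : G → ℂ) 1 * (χ : G → ℂ) (x⁻¹ * g))) := by
    rw [Finset.mul_sum]
    refine Finset.sum_congr rfl fun x _ => ?_
    field_simp
  rw [h3, h2]
  field_simp

theorem irr_memLocalRing {G : Type*} [Group G] [Finite G] {M : Ideal AlgInt} (hMp : M.IsPrime)
    (χ : IrrCharacter G) (g : G) : MemLocalRing M ((χ : G → ℂ) g) := by
  obtain ⟨k, ρ, hirr, hρ⟩ := χ.2
  rw [← hρ]
  exact memLocalRing_algInt hMp ⟨_, Cfsg.Agent.Lib.Helper3_CharEigen.isIntegral_char ρ g⟩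

theorem irr_mul_comm {G : Type*} [Group G] (χ : IrrCharacter G) (a b : G) :
    (χ : G → ℂ) (a * b) = (χ : G → ℂ) (b * a) := by
  have h := Cfsg.Agent.Lib.Helper80_CharBasic.irr_conj χ (a * b) b
  rw [← h]
  group

theorem twist_cancel {G : Type*} [Group G] [Finite G] (χ : IrrCharacter G) {u : G}
    (hu : u ∈ Subgroup.center G) (z : G) :
    (χ : G → ℂ) u / (χ : G → ℂ) 1 * (χ : G → ℂ) (z * u⁻¹) = (χ : G → ℂ) z := by
  have h := Cfsg.Agent.Lib.Helper77_CentralDefect.irr_mul_center χ u hu (z * u⁻¹)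
  rw [inv_mul_cancel_right] at h
  rw [h]
  ring

theorem twist_mul_inv {G : Type*} [Group G] [Finite G] (χ : IrrCharacter G) {u : G}
    (hu : u ∈ Subgroup.center G) :
    (χ : G → ℂ) u * (χ : G → ℂ) u⁻¹ = (χ : G → ℂ) 1 ^ 2 := by
  have hχ1 : (χ : G → ℂ) 1 ≠ 0 :=
    Cfsg.Agent.Lib.Helper78_CentralChar.isIrrCharacter_one_ne_zero χ.2
  have h := Cfsg.Agent.Lib.Helper77_CentralDefect.irr_mul_center χ u hu u⁻¹
  rw [inv_mul_cancel] at h
  field_simp at h
  linear_combination -h

/-- A coset representative. -/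
noncomputable def rep {G : Type*} [Group G] (D : Subgroup G) (q : G ⧸ D) : G := Quotient.out q

theorem mk_rep {G : Type*} [Group G] (D : Subgroup G) (q : G ⧸ D) :
    (QuotientGroup.mk (rep D q) : G ⧸ D) = q :=
  QuotientGroup.out_eq' q

theorem sum_rep {G : Type*} [Group G] [Fintype G] (D : Subgroup G) [D.Normal]
    [Fintype (G ⧸ D)] (h : G → ℂ) (hh : ∀ b : G, ∀ u ∈ D, h (b * u) = h b) :
    (Nat.card D : ℂ) * ∑ q : G ⧸ D, h (rep D q) = ∑ b : G, h b := by
  rw [← Cfsg.Agent.Lib.Helper16_Quot.sum_comp_mk D (fun q => h (rep D q))]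
  refine Finset.sum_congr rfl fun b _ => ?_
  obtain ⟨u, hu⟩ := QuotientGroup.mk_out_eq_mul D b
  show h (Quotient.out (QuotientGroup.mk b : G ⧸ D)) = h b
  rw [hu, hh b u u.2]

/-- The twisted orthogonality relation summed over coset representatives. -/
theorem sum_rep_twist {G : Type*} [Group G] [Fintype G] (D : Subgroup G) [D.Normal]
    [Fintype (G ⧸ D)] (hDZ : D ≤ Subgroup.center G) (χ : IrrCharacter G) (a d : G) :
    (Nat.card D : ℂ) * ∑ q : G ⧸ D,
        (χ : G → ℂ) (rep D q * a⁻¹) * (χ : G → ℂ) (d * (rep D q)⁻¹) =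
      (Nat.card G : ℂ) / (χ : G → ℂ) 1 * (χ : G → ℂ) (d * a⁻¹) := by
  have hχ1 : (χ : G → ℂ) 1 ≠ 0 :=
    Cfsg.Agent.Lib.Helper78_CentralChar.isIrrCharacter_one_ne_zero χ.2
  rw [sum_rep D (fun b => (χ : G → ℂ) (b * a⁻¹) * (χ : G → ℂ) (d * b⁻¹))]
  · rw [← gen_orth χ (d * a⁻¹)]
    rw [← Equiv.sum_comp (Equiv.mulRight a⁻¹)
      (fun x => (χ : G → ℂ) x * (χ : G → ℂ) (x⁻¹ * (d * a⁻¹)))]
    refine Finset.sum_congr rfl fun b _ => ?_
    simp only [Equiv.coe_mulRight]
    congr 1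
    have h1 : (b * a⁻¹)⁻¹ * (d * a⁻¹) = a * (b⁻¹ * d) * a⁻¹ := by group
    rw [h1, Cfsg.Agent.Lib.Helper80_CharBasic.irr_conj, irr_mul_comm]
  · intro b u hu
    have huZ := hDZ hu
    have huZ' : u⁻¹ ∈ Subgroup.center G := Subgroup.inv_mem _ huZ
    have hc : ∀ w : G, u * w = w * u := fun w => (Subgroup.mem_center_iff.mp huZ w).symm
    have hc' : ∀ w : G, u⁻¹ * w = w * u⁻¹ := fun w => (Subgroup.mem_center_iff.mp huZ' w).symm
    have e1 : b * u * a⁻¹ = (b * a⁻¹) * u := by rw [mul_assoc, hc, ← mul_assoc]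
    have e2 : d * (b * u)⁻¹ = (d * b⁻¹) * u⁻¹ := by rw [mul_inv_rev, hc', ← mul_assoc]
    show (χ : G → ℂ) (b * u * a⁻¹) * (χ : G → ℂ) (d * (b * u)⁻¹) = _
    rw [e1, e2, Cfsg.Agent.Lib.Helper77_CentralDefect.irr_mul_center χ u huZ,
      Cfsg.Agent.Lib.Helper77_CentralDefect.irr_mul_center χ u⁻¹ huZ']
    have h2 := twist_mul_inv χ huZ
    field_simp
    linear_combination ((χ : G → ℂ) (b * a⁻¹) * (χ : G → ℂ) (d * b⁻¹)) * h2

section twisted

variable {G : Type*} [Group G] [Fintype G] (D : Subgroup G) [D.Normal]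
  [Fintype (G ⧸ D)] [DecidableEq (G ⧸ D)] (χ : IrrCharacter G)

/-- The normalizing constant. -/
noncomputable def laC : ℂ := (χ : G → ℂ) 1 * (Nat.card D : ℂ) / (Nat.card G : ℂ)

/-- The matrix of the central idempotent of `χ` on the representation induced from `D`. -/
noncomputable def laF : Matrix (G ⧸ D) (G ⧸ D) ℂ :=
  fun i j => laC D χ * (χ : G → ℂ) (rep D j * (rep D i)⁻¹)

/-- The (monomial) matrix of `g` on the representation induced from `D`. -/
noncomputable def laT (g : G) : Matrix (G ⧸ D) (G ⧸ D) ℂ :=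
  fun i j => if i = (QuotientGroup.mk g : G ⧸ D) * j then
    (χ : G → ℂ) ((rep D i)⁻¹ * g * rep D j) / (χ : G → ℂ) 1 else 0

theorem laF_mul_laF (hDZ : D ≤ Subgroup.center G) : laF D χ * laF D χ = laF D χ := by
  have hχ1 : (χ : G → ℂ) 1 ≠ 0 :=
    Cfsg.Agent.Lib.Helper78_CentralChar.isIrrCharacter_one_ne_zero χ.2
  have hGne : (Nat.card G : ℂ) ≠ 0 := by exact_mod_cast (Nat.card_pos (α := G)).ne'
  have hDne : (Nat.card D : ℂ) ≠ 0 := by exact_mod_cast (Nat.card_pos (α := D)).ne'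
  ext i k
  rw [Matrix.mul_apply]
  unfold laF
  have h := sum_rep_twist D hDZ χ (rep D i) (rep D k)
  have h2 : ∑ j : G ⧸ D, laC D χ * (χ : G → ℂ) (rep D j * (rep D i)⁻¹) *
      (laC D χ * (χ : G → ℂ) (rep D k * (rep D j)⁻¹)) =
      laC D χ ^ 2 * ∑ q : G ⧸ D,
        (χ : G → ℂ) (rep D q * (rep D i)⁻¹) * (χ : G → ℂ) (rep D k * (rep D q)⁻¹) := by
    rw [Finset.mul_sum]
    refine Finset.sum_congr rfl fun j _ => ?_
    ring
  rw [h2]
  have h3 : ∑ q : G ⧸ D,
        (χ : G → ℂ) (rep D q * (rep D i)⁻¹) * (χ : G → ℂ) (rep D k * (rep D q)⁻¹) =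
      (Nat.card G : ℂ) / (χ : G → ℂ) 1 * (χ : G → ℂ) (rep D k * (rep D i)⁻¹) / (Nat.card D : ℂ) := by
    rw [← h]
    field_simp
  rw [h3]
  unfold laC
  field_simp

theorem laT_mul_laF_apply (hDZ : D ≤ Subgroup.center G) (g : G) (i k : G ⧸ D) :
    (laT D χ g * laF D χ) i k =
      laC D χ * (χ : G → ℂ) (rep D k * (rep D i)⁻¹ * g) := by
  rw [Matrix.mul_apply]
  rw [Finset.sum_eq_single ((QuotientGroup.mk g : G ⧸ D)⁻¹ * i)]
  · unfold laT laF
    rw [if_pos (by group)]
    set j : G ⧸ D := (QuotientGroup.mk g : G ⧸ D)⁻¹ * i with hj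
    set u : G := (rep D i)⁻¹ * g * rep D j with hu
    have huD : u ∈ D := by
      rw [← QuotientGroup.eq_one_iff, hu, QuotientGroup.mk_mul, QuotientGroup.mk_mul,
        QuotientGroup.mk_inv, mk_rep, mk_rep, hj]
      group
    have hc' : ∀ w : G, u⁻¹ * w = w * u⁻¹ := fun w =>
      (Subgroup.mem_center_iff.mp (Subgroup.inv_mem _ (hDZ huD)) w).symm
    have e : rep D k * (rep D j)⁻¹ = (rep D k * (rep D i)⁻¹ * g) * u⁻¹ := by
      have e0 : rep D k * (rep D j)⁻¹ = rep D k * (u⁻¹ * ((rep D i)⁻¹ * g)) := by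
        rw [hu]; group
      rw [e0, hc']
      simp only [mul_assoc]
    rw [e]
    have h := twist_cancel χ (hDZ huD) (rep D k * (rep D i)⁻¹ * g)
    rw [← h]
    ring
  · intro j _ hj
    unfold laT
    rw [if_neg, zero_mul]
    intro h
    apply hj
    rw [h]
    group
  · intro h
    exact absurd (Finset.mem_univ _) h

theorem laF_mul_laT_apply (hDZ : D ≤ Subgroup.center G) (g : G) (i k : G ⧸ D) :
    (laF D χ * laT D χ g) i k =
      laC D χ * (χ : G → ℂ) (rep D k * (rep D i)⁻¹ * g) := by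
  rw [Matrix.mul_apply]
  rw [Finset.sum_eq_single ((QuotientGroup.mk g : G ⧸ D) * k)]
  · unfold laT laF
    rw [if_pos rfl]
    set j : G ⧸ D := (QuotientGroup.mk g : G ⧸ D) * k with hj
    set u : G := (rep D j)⁻¹ * g * rep D k with hu
    have huD : u ∈ D := by
      rw [← QuotientGroup.eq_one_iff, hu, QuotientGroup.mk_mul, QuotientGroup.mk_mul,
        QuotientGroup.mk_inv, mk_rep, mk_rep, hj]
      group
    have hc' : ∀ w : G, u⁻¹ * w = w * u⁻¹ := fun w =>
      (Subgroup.mem_center_iff.mp (Subgroup.inv_mem _ (hDZ huD)) w).symm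
    have e : rep D j * (rep D i)⁻¹ = (g * rep D k * (rep D i)⁻¹) * u⁻¹ := by
      have e0 : rep D j * (rep D i)⁻¹ = g * rep D k * (u⁻¹ * (rep D i)⁻¹) := by
        rw [hu]; group
      rw [e0, hc']
      simp only [mul_assoc]
    rw [e]
    have h := twist_cancel χ (hDZ huD) (g * rep D k * (rep D i)⁻¹)
    have h2 : (χ : G → ℂ) (rep D k * (rep D i)⁻¹ * g) =
        (χ : G → ℂ) (g * rep D k * (rep D i)⁻¹) := by
      rw [irr_mul_comm χ (rep D k * (rep D i)⁻¹) g, mul_assoc]
    rw [h2, ← h]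
    ring
  · intro j _ hj
    unfold laT
    rw [if_neg hj, mul_zero]
  · intro h
    exact absurd (Finset.mem_univ _) h

theorem laT_mul_laF_comm (hDZ : D ≤ Subgroup.center G) (g : G) :
    laT D χ g * laF D χ = laF D χ * laT D χ g := by
  ext i k
  rw [laT_mul_laF_apply D χ hDZ, laF_mul_laT_apply D χ hDZ]

theorem trace_laT_mul_laF (hDZ : D ≤ Subgroup.center G) (g : G) :
    (laT D χ g * laF D χ).trace =
      (Fintype.card (G ⧸ D) : ℂ) * (laC D χ * (χ : G → ℂ) g) := by
  unfold Matrix.trace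
  simp only [Matrix.diag_apply]
  rw [Finset.sum_congr rfl (fun i _ => laT_mul_laF_apply D χ hDZ g i i)]
  simp only [mul_inv_cancel, one_mul]
  rw [Finset.sum_const, Finset.card_univ, nsmul_eq_mul]

end twisted

/-- A quotient of natural numbers is a local integer as soon as the exponent of `p` in the
denominator is at most that in the numerator. -/
theorem memLocalRing_natCast_div_of_le {p : ℕ} {M : Ideal AlgInt} (hM : IsPModular p M)
    {a b : ℕ} (hb : b ≠ 0) (h : b.factorization p ≤ a.factorization p) :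
    MemLocalRing M ((a : ℂ) / (b : ℂ)) := by
  have hp : p.Prime := hM.1
  have hb' : ¬ p ∣ b / p ^ b.factorization p := Nat.not_dvd_ordCompl hp hb
  have hbdec : b = p ^ b.factorization p * (b / p ^ b.factorization p) :=
    (Nat.ordProj_mul_ordCompl_eq_self b p).symm
  have hadec : a = p ^ a.factorization p * (a / p ^ a.factorization p) :=
    (Nat.ordProj_mul_ordCompl_eq_self a p).symm
  obtain ⟨e, he⟩ := Nat.exists_eq_add_of_le h
  set b' := b / p ^ b.factorization p with hb'def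
  set a' := a / p ^ a.factorization p with ha'def
  have hb'0 : (b' : ℂ) ≠ 0 := by
    have : b' ≠ 0 := fun h0 => hb' (h0 ▸ dvd_zero p)
    exact_mod_cast this
  have hp0 : (p : ℂ) ≠ 0 := by exact_mod_cast hp.ne_zero
  have hval : (a : ℂ) / (b : ℂ) = ((p ^ e * a' : ℕ) : ℂ) / (b' : ℂ) := by
    have h1 : (a : ℂ) = (p : ℂ) ^ b.factorization p * (p : ℂ) ^ e * a' := by
      have : a = p ^ b.factorization p * p ^ e * a' := by
        conv_lhs => rw [hadec, he]
        rw [pow_add]
      exact_mod_cast this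
    have h2 : (b : ℂ) = (p : ℂ) ^ b.factorization p * b' := by exact_mod_cast hbdec
    rw [h1, h2]
    push_cast
    have hpt : (p : ℂ) ^ b.factorization p ≠ 0 := pow_ne_zero _ hp0
    field_simp
  rw [hval]
  exact memLocalRing_natCast_div hM _ hb'

theorem normal_of_le_center {G : Type*} [Group G] {D : Subgroup G}
    (hDZ : D ≤ Subgroup.center G) : D.Normal := by
  refine ⟨fun n hn g => ?_⟩
  have h := Subgroup.mem_center_iff.mp (hDZ hn) g
  rw [h, mul_inv_cancel_right]
  exact hn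

/-- **Laradji's vanishing theorem.** If `D` is a central subgroup and the exponent of `p` in `χ 1`
equals that in the index of `D`, then `χ` vanishes at every `g` whose `p`-part lies outside `D`. -/
theorem irr_eq_zero_of_ppart_not_mem_central {G : Type*} [Group G] [Finite G] {p : ℕ}
    {M : Ideal AlgInt} (hM : IsPModular p M) (D : Subgroup G) (hDZ : D ≤ Subgroup.center G)
    (χ : IrrCharacter G)
    (hdeg : (charDegree (χ : G → ℂ)).factorization p = D.index.factorization p)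
    (g x : G) (hgx : IsPPart p g x) (hx : x ∉ D) : (χ : G → ℂ) g = 0 := by
  classical
  have := Fintype.ofFinite G
  have hp : p.Prime := hM.1
  have hMp : M.IsPrime := hM.2.1.isPrime
  have hDn : D.Normal := normal_of_le_center hDZ
  have := Fintype.ofFinite (G ⧸ D)
  have hχ1 : (χ : G → ℂ) 1 ≠ 0 :=
    Cfsg.Agent.Lib.Helper78_CentralChar.isIrrCharacter_one_ne_zero χ.2
  have hGne : (Nat.card G : ℂ) ≠ 0 := by exact_mod_cast (Nat.card_pos (α := G)).ne'
  have hDne : (Nat.card D : ℂ) ≠ 0 := by exact_mod_cast (Nat.card_pos (α := D)).ne'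
  -- the constant is a local integer
  have hCval : laC D χ = (charDegree (χ : G → ℂ) : ℂ) / (D.index : ℂ) := by
    unfold laC
    rw [apply_one_eq_charDegree χ]
    have h1 : (Nat.card G : ℂ) = (Nat.card D : ℂ) * (D.index : ℂ) := by
      exact_mod_cast (Subgroup.card_mul_index D).symm
    rw [h1]
    have hI : (D.index : ℂ) ≠ 0 := by
      exact_mod_cast (Subgroup.index_ne_zero_of_finite (H := D))
    field_simp
  have hCR : MemLocalRing M (laC D χ) := by
    rw [hCval]
    exact memLocalRing_natCast_div_of_le hM Subgroup.index_ne_zero_of_finite hdeg.ge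
  have hC0 : laC D χ ≠ 0 := by
    unfold laC
    exact div_ne_zero (mul_ne_zero hχ1 hDne) hGne
  have hFR : EntR M (laF D χ) := fun i j =>
    memLocalRing_mul hMp hCR (irr_memLocalRing hMp χ _)
  -- the permutation
  obtain ⟨y, hxy, hcomm, ⟨k, hk⟩, hy⟩ := hgx
  have hπ : ∀ (j : ℕ) (a : G ⧸ D),
      ((Equiv.mulLeft (QuotientGroup.mk g : G ⧸ D)) ^ j) a = a → p ∣ j := by
    intro j a ha
    rw [Equiv.pow_mulLeft, Equiv.coe_mulLeft] at ha
    have h1 : (QuotientGroup.mk g : G ⧸ D) ^ j = 1 := mul_eq_right.mp ha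
    have h2 : g ^ j ∈ D := by
      rw [← QuotientGroup.eq_one_iff, QuotientGroup.mk_pow]
      exact h1
    by_contra hpj
    apply hx
    have h3 : (g ^ j) ^ orderOf y = x ^ (j * orderOf y) := by
      rw [← hxy, hcomm.mul_pow, (hcomm.pow_pow j j).mul_pow, ← pow_mul, ← pow_mul,
        mul_comm j (orderOf y), pow_mul y, pow_orderOf_eq_one, one_pow, mul_one, mul_comm]
    have h4 : x ^ (j * orderOf y) ∈ D := by
      rw [← h3]
      exact Subgroup.pow_mem _ h2 _
    have hcop : Nat.Coprime (j * orderOf y) (orderOf x) := by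
      rw [hk]
      apply Nat.Coprime.pow_right
      apply Nat.Coprime.mul_left
      · exact ((Nat.Prime.coprime_iff_not_dvd hp).mpr hpj).symm
      · exact ((Nat.Prime.coprime_iff_not_dvd hp).mpr hy).symm
    obtain ⟨t, ht⟩ := exists_pow_eq_self_of_coprime hcop
    rw [← ht]
    exact Subgroup.pow_mem _ h4 _
  have hT : ∀ i j : G ⧸ D, i ≠ (Equiv.mulLeft (QuotientGroup.mk g : G ⧸ D)) j →
      laT D χ g i j = 0 := by
    intro i j hij
    unfold laT
    rw [if_neg]
    simpa using hij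
  have key := Cfsg.Agent.Lib.Helper77_Monomial.trace_monomial_mul_idempotent_eq_zero hM
    (Equiv.mulLeft (QuotientGroup.mk g : G ⧸ D)) hπ (laT D χ g) hT (laF_mul_laF D χ hDZ) hFR
    (laT_mul_laF_comm D χ hDZ g)
  rw [trace_laT_mul_laF D χ hDZ g] at key
  have hcard : (Fintype.card (G ⧸ D) : ℂ) ≠ 0 := by
    exact_mod_cast Fintype.card_ne_zero
  rcases mul_eq_zero.mp key with h | h
  · exact absurd h hcard
  · rcases mul_eq_zero.mp h with h' | h'
    · exact absurd h' hC0
    · exact h'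

/-- The sum of `χ y * χ y⁻¹` over the `p`-regular elements. -/
theorem sum_reg_norm {G : Type*} [Group G] [Fintype G] [DecidableEq G] {p : ℕ} [Fact p.Prime]
    (D : Subgroup G) (hD : IsPGroup p D) (hDZ : D ≤ Subgroup.center G) (χ : IrrCharacter G)
    (hvan : ∀ g x : G, IsPPart p g x → x ∉ D → (χ : G → ℂ) g = 0) :
    (Nat.card D : ℂ) * ∑ y ∈ Finset.univ.filter (fun y : G => ¬ p ∣ orderOf y),
      (χ : G → ℂ) y * (χ : G → ℂ) y⁻¹ = Nat.card G := by
  have := Fintype.ofFinite D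
  have hχ1 : (χ : G → ℂ) 1 ≠ 0 :=
    Cfsg.Agent.Lib.Helper78_CentralChar.isIrrCharacter_one_ne_zero χ.2
  rw [← Cfsg.Agent.Lib.Helper80_CharBasic.irr_norm χ]
  rw [Cfsg.Agent.Lib.Helper77_NormalDefect.sum_eq_sum_sections D hD
    (fun y _ u hu => Subgroup.mem_center_iff.mp (hDZ hu) y)
    (fun g => (χ : G → ℂ) g * (χ : G → ℂ) g⁻¹)
    (fun g x hgx hx => by rw [hvan g x hgx hx, zero_mul])]
  have hterm : ∀ (u : D) (y : G), (χ : G → ℂ) ((u : G) * y) * (χ : G → ℂ) ((u : G) * y)⁻¹ =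
      (χ : G → ℂ) y * (χ : G → ℂ) y⁻¹ := by
    intro u y
    have huZ := hDZ u.2
    have huZ' : (u : G)⁻¹ ∈ Subgroup.center G := Subgroup.inv_mem _ huZ
    have e1 : (u : G) * y = y * u := (Subgroup.mem_center_iff.mp huZ y).symm
    have e2 : ((u : G) * y)⁻¹ = y⁻¹ * (u : G)⁻¹ := by rw [e1, mul_inv_rev, 
      (Subgroup.mem_center_iff.mp huZ' y⁻¹)]
    rw [e2, e1, Cfsg.Agent.Lib.Helper77_CentralDefect.irr_mul_center χ u huZ,
      Cfsg.Agent.Lib.Helper77_CentralDefect.irr_mul_center χ _ huZ']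
    have h2 := twist_mul_inv χ huZ
    field_simp
    linear_combination ((χ : G → ℂ) y * (χ : G → ℂ) y⁻¹) * h2
  rw [Finset.sum_congr rfl (fun u _ => Finset.sum_congr rfl (fun y _ => hterm u y))]
  rw [Finset.sum_const, Finset.card_univ, nsmul_eq_mul, Nat.card_eq_fintype_card]

theorem memLocalRing_laC {G : Type*} [Group G] [Finite G] {p : ℕ}
    {M : Ideal AlgInt} (hM : IsPModular p M) (D : Subgroup G) (χ : IrrCharacter G)
    (hdeg : (charDegree (χ : G → ℂ)).factorization p = D.index.factorization p) :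
    MemLocalRing M ((χ : G → ℂ) 1 * (Nat.card D : ℂ) / (Nat.card G : ℂ)) := by
  have hDne : (Nat.card D : ℂ) ≠ 0 := by exact_mod_cast (Nat.card_pos (α := D)).ne'
  have hCval : (χ : G → ℂ) 1 * (Nat.card D : ℂ) / (Nat.card G : ℂ) =
      (charDegree (χ : G → ℂ) : ℂ) / (D.index : ℂ) := by
    rw [apply_one_eq_charDegree χ]
    have h1 : (Nat.card G : ℂ) = (Nat.card D : ℂ) * (D.index : ℂ) := by
      exact_mod_cast (Subgroup.card_mul_index D).symm
    rw [h1]
    have hI : (D.index : ℂ) ≠ 0 := by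
      exact_mod_cast (Subgroup.index_ne_zero_of_finite (H := D))
    field_simp
  rw [hCval]
  exact memLocalRing_natCast_div_of_le hM Subgroup.index_ne_zero_of_finite hdeg.ge

/-- There is a `p`-regular element at which both the central character and the value of `χ` at
the inverse are units. -/
theorem exists_reg_unit {G : Type*} [Group G] [Finite G] {p : ℕ} [Fact p.Prime]
    {M : Ideal AlgInt} (hM : IsPModular p M) (D : Subgroup G) (hD : IsPGroup p D)
    (hDZ : D ≤ Subgroup.center G) (χ : IrrCharacter G)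
    (hdeg : (charDegree (χ : G → ℂ)).factorization p = D.index.factorization p) :
    ∃ y : G, ¬ p ∣ orderOf y ∧ ¬ MemLocalIdeal M (centralChar (χ : G → ℂ) y) ∧
      ¬ MemLocalIdeal M ((χ : G → ℂ) y⁻¹) := by
  classical
  have := Fintype.ofFinite G
  have hMp : M.IsPrime := hM.2.1.isPrime
  have hχ1 : (χ : G → ℂ) 1 ≠ 0 :=
    Cfsg.Agent.Lib.Helper78_CentralChar.isIrrCharacter_one_ne_zero χ.2
  have hGne : (Nat.card G : ℂ) ≠ 0 := by exact_mod_cast (Nat.card_pos (α := G)).ne'
  have hDne : (Nat.card D : ℂ) ≠ 0 := by exact_mod_cast (Nat.card_pos (α := D)).ne'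
  by_contra hcon
  push Not at hcon
  have hord : ∀ x k : G, orderOf (x * k * x⁻¹) = orderOf k := fun x k =>
    orderOf_injective (MulAut.conj x).toMonoidHom (MulAut.conj x).injective k
  set f : G → ℂ := fun c => if ¬ p ∣ orderOf c then
    (χ : G → ℂ) c * (χ : G → ℂ) c⁻¹ / (χ : G → ℂ) 1 else 0 with hf
  have hfc : ∀ x c : G, f (x * c * x⁻¹) = f c := by
    intro x c
    simp only [hf, hord]
    have e : (x * c * x⁻¹)⁻¹ = x * c⁻¹ * x⁻¹ := by group
    rw [e, Cfsg.Agent.Lib.Helper80_CharBasic.irr_conj, Cfsg.Agent.Lib.Helper80_CharBasic.irr_conj]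
  have hloc : ∀ c : G, MemLocalIdeal M
      (((Subgroup.centralizer ({c} : Set G)).index : ℂ) * f c) := by
    intro c
    by_cases hc : p ∣ orderOf c
    · simp only [hf, if_neg (not_not.mpr hc), mul_zero]
      exact memLocalIdeal_zero hMp
    · simp only [hf, if_pos hc]
      have e : ((Subgroup.centralizer ({c} : Set G)).index : ℂ) *
          ((χ : G → ℂ) c * (χ : G → ℂ) c⁻¹ / (χ : G → ℂ) 1) =
          centralChar (χ : G → ℂ) c * (χ : G → ℂ) c⁻¹ := by
        unfold centralChar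
        ring
      rw [e]
      by_cases h1 : MemLocalIdeal M (centralChar (χ : G → ℂ) c)
      · exact memLocalIdeal_mul_right hMp h1 (irr_memLocalRing hMp χ _)
      · refine memLocalIdeal_mul_left hMp ?_ (hcon c hc h1)
        exact memLocalRing_algInt hMp ⟨_,
          Cfsg.Agent.Lib.Helper78_CentralChar.isIntegral_centralChar_of_isIrrCharacter χ.2 c⟩
  have hsum := Cfsg.Agent.Lib.Helper16_Quot.sum_invariant_set M hM.2.1
    (fun k : G => ¬ p ∣ orderOf k) (fun x k hk => by rw [hord]; exact hk) f hfc hloc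
  have hvan := irr_eq_zero_of_ppart_not_mem_central hM D hDZ χ hdeg
  have hnorm := sum_reg_norm D hD hDZ χ hvan
  have hval : (∑ k : G, if ¬ p ∣ orderOf k then f k else 0) =
      (Nat.card G : ℂ) / ((Nat.card D : ℂ) * (χ : G → ℂ) 1) := by
    rw [← Finset.sum_filter]
    have : ∀ k ∈ Finset.univ.filter (fun k : G => ¬ p ∣ orderOf k),
        f k = (χ : G → ℂ) k * (χ : G → ℂ) k⁻¹ / (χ : G → ℂ) 1 := by
      intro k hk
      simp only [hf, if_pos (Finset.mem_filter.mp hk).2]
    rw [Finset.sum_congr rfl this, ← Finset.sum_div, ← hnorm]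
    field_simp
  rw [hval] at hsum
  have hone := memLocalIdeal_mul_left hMp (memLocalRing_laC hM D χ hdeg) hsum
  have : (χ : G → ℂ) 1 * (Nat.card D : ℂ) / (Nat.card G : ℂ) *
      ((Nat.card G : ℂ) / ((Nat.card D : ℂ) * (χ : G → ℂ) 1)) = 1 := by
    field_simp
  rw [this] at hone
  exact not_memLocalIdeal_one hMp hone

/-- **Laradji's theorem, defect group part.** -/
theorem isDefectGroup_of_central {G : Type*} [Group G] [Finite G] {p : ℕ} [Fact p.Prime]
    {M : Ideal AlgInt} (hM : IsPModular p M) (D : Subgroup G) (hD : IsPGroup p D)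
    (hDZ : D ≤ Subgroup.center G) (χ : IrrCharacter G)
    (hdeg : (charDegree (χ : G → ℂ)).factorization p = D.index.factorization p) :
    IsDefectGroup p M (blockOf M (χ : G → ℂ)) D := by
  classical
  have hp : p.Prime := hM.1
  have hMp : M.IsPrime := hM.2.1.isPrime
  obtain ⟨y, hy, hω, hχy⟩ := exists_reg_unit hM D hD hDZ χ hdeg
  have hvan := irr_eq_zero_of_ppart_not_mem_central hM D hDZ χ hdeg
  set B := blockOf M (χ : G → ℂ) with hBdef
  have hB : IsPBlock M B := ⟨χ, rfl⟩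
  have hχB : χ ∈ B := sameBlock_refl hMp _
  obtain ⟨n, hn⟩ := hD.exists_card_eq
  -- `p`-elements of `C(y)` lie in `D`
  have hmem : ∀ u : G, u * y = y * u → (∃ k, orderOf u = p ^ k) → u ∈ D := by
    rintro u hu ⟨k, hk⟩
    by_contra huD
    have hcomm : u * y⁻¹ = y⁻¹ * u := by
      calc u * y⁻¹ = y⁻¹ * (y * u) * y⁻¹ := by group
        _ = y⁻¹ * (u * y) * y⁻¹ := by rw [hu]
        _ = y⁻¹ * u := by group
    have h0 := hvan (u * y⁻¹) u ⟨y⁻¹, rfl, hcomm, ⟨k, hk⟩, by rw [orderOf_inv]; exact hy⟩ huD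
    have hcong := Cfsg.Agent.Lib.Helper16_PCongr.memLocalIdeal_irr_mul_sub hM χ hcomm hk
    rw [h0, zero_sub] at hcong
    exact hχy (by simpa using memLocalIdeal_neg hcong)
  -- the defect is at most `n`
  have h1 := Cfsg.Agent.Lib.Helper77_RegClasses.blockDefect_le_of_centralChar hM hB hχB y hω
  have h2 : (Nat.card (Subgroup.centralizer ({y} : Set G))).factorization p ≤ n := by
    set C : Subgroup G := Subgroup.centralizer ({y} : Set G) with hC
    obtain ⟨S⟩ : Nonempty (Sylow p C) := inferInstance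
    have hSD : (S : Subgroup C).map C.subtype ≤ D := by
      rintro _ ⟨s, hs, rfl⟩
      apply hmem
      · have := Subgroup.mem_centralizer_iff.mp s.2 y (Set.mem_singleton y)
        exact this.symm
      · obtain ⟨k, hk⟩ := S.isPGroup' ⟨s, hs⟩
        have hk' : (s : G) ^ p ^ k = 1 := by
          have := congrArg (fun z : (S : Subgroup C) => ((z : C) : G)) hk
          simpa using this
        obtain ⟨i, _, hi⟩ := (Nat.dvd_prime_pow hp).mp (orderOf_dvd_of_pow_eq_one hk')
        exact ⟨i, hi⟩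
    have hcard := Subgroup.card_le_of_le hSD
    rw [Subgroup.card_map_of_injective C.subtype_injective, S.card_eq_multiplicity, hn] at hcard
    exact (Nat.pow_le_pow_iff_right hp.one_lt).mp hcard
  -- the defect is at least `n`
  have hGfac : (Nat.card G).factorization p = n + D.index.factorization p := by
    rw [← Subgroup.card_mul_index D, Nat.factorization_mul Nat.card_pos.ne'
      Subgroup.index_ne_zero_of_finite, hn]
    simp [hp.factorization_self]
  have h3 : n ≤ blockDefect p B := by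
    unfold blockDefect
    have hle : sInf ((fun χ : IrrCharacter G => (charDegree (χ : G → ℂ)).factorization p) '' B) ≤
        (charDegree (χ : G → ℂ)).factorization p := Nat.sInf_le ⟨χ, hχB, rfl⟩
    rw [hGfac]
    omega
  have hdef : blockDefect p B = n := le_antisymm (h1.trans h2) h3
  -- a defect class
  obtain ⟨g₀, hg₀⟩ := Cfsg.Agent.Lib.Helper78_CharFacts.exists_isDefectClass' hMp hB
  have hcardC := Cfsg.Agent.Lib.Helper77_DefectOrder.card_defectGroup hM hB hg₀
  rw [hdef] at hcardC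
  refine ⟨g₀, hg₀, ?_⟩
  set C₀ : Subgroup G := Subgroup.centralizer ({g₀} : Set G) with hC₀
  have hDC : D ≤ C₀ := by
    intro u hu
    rw [hC₀, Subgroup.mem_centralizer_iff]
    intro z hz
    rw [Set.mem_singleton_iff] at hz
    subst hz
    exact Subgroup.mem_center_iff.mp (hDZ hu) z
  have hDp : IsPGroup p (D.subgroupOf C₀) := hD.comap_subtype
  obtain ⟨S, hS⟩ := hDp.exists_le_sylow
  refine ⟨S, ?_⟩
  have hcard1 : Nat.card (D.subgroupOf C₀) = p ^ n := by
    rw [Nat.card_congr (Subgroup.subgroupOfEquivOfLe hDC).toEquiv, hn]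
  have hcard2 : Nat.card (S : Subgroup C₀) = p ^ n := by
    rw [S.card_eq_multiplicity, hcardC]
  have heq : D.subgroupOf C₀ = (S : Subgroup C₀) :=
    Subgroup.eq_of_le_of_card_ge hS (by rw [hcard1, hcard2])
  rw [← heq, Subgroup.map_subgroupOf_eq_of_le hDC]

end Cfsg.Agent.Lib.Helper77_Laradji
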