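import Mathlib
import Cfsg.Agent.S0302
import Cfsg.Agent.Lib.Helper44_StdForms

/-!
helper77 — package OP-KLEIN of helper95's S2345 market:
the Klein homomorphism `SL_4(F) → Ω(qfPlus 3 F)` is surjective (first half of `S0302.result`).
-/

set_option autoImplicit false
set_option linter.unusedSimpArgs false

namespace Cfsg.Agent.Lib.Helper77_OP_KLEIN

open Matrix Cfsg.Agent.Lib.Helper5_OmegaCenter Cfsg.Agent.Lib.Helper5_OmegaIndex
  Cfsg.Agent.Lib.Helper44_StdForms Cfsg.Agent.Lib.Helper5_Klein Cfsg.Agent.S0302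

universe u

variable {F : Type u} [Field F] [Fintype F]

theorem exists_surj_SL4 :
    ∃ f : Matrix.SpecialLinearGroup (Fin 4) F →* ↥(Cfsg.Omega F (⇑(qfPlus 3 F))),
      Function.Surjective f := by
  classical
  have hcardO := Cfsg.Agent.S0287.card_plus (F := F) 2
  rw [← coe_qfPlus 3 F] at hcardO
  set Q := qfPlus 3 F with hQdef
  have hnd := Cfsg.Agent.S0287.nondeg_qfPlus (F := F) 3
  have hQ := Cfsg.Agent.S0294.nondegenerate_of_hnd Q hnd
  have hle : (rho (F := F)).range ≤ Cfsg.Omega F (⇑Q) := by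
    rintro _ ⟨g, rfl⟩
    have hg : g ∈ commutator (SpecialLinearGroup (Fin 4) F) := by
      rw [Cfsg.Agent.Lib.Helper5_SLGen.commutator_eq_top_of_three_le_card (by simp)]
      trivial
    exact Cfsg.Agent.Lib.Helper44_Orth.map_mem_commutator rho hg
  have hq : 2 ≤ Fintype.card F := Fintype.one_lt_card
  have hSL : Nat.card (SpecialLinearGroup (Fin 4) F) =
      Fintype.card F ^ 6 * (Fintype.card F ^ 4 - 1) * (Fintype.card F ^ 3 - 1) * (Fintype.card F ^ 2 - 1) := by
    apply arithSL _ _ hq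
    rw [← Cfsg.Agent.Lib.Helper5_SLCard.card_GL_eq_card_SL_mul 4 (by norm_num), Matrix.card_GL_field]
  have hker := Subgroup.card_eq_card_quotient_mul_card_subgroup (rho (F := F)).ker
  rw [Nat.card_congr (QuotientGroup.quotientKerEquivRange (rho (F := F))).toEquiv, hSL] at hker
  have hmul := Subgroup.card_mul_index (Cfsg.Omega F (⇑Q))
  rw [hcardO] at hmul
  have hN : 2 * Fintype.card F ^ ((2 + 1) * 2) * (Fintype.card F ^ (2 + 1) - 1)
        * ∏ i ∈ Finset.range 2, (Fintype.card F ^ (2 * (i + 1)) - 1) =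
      2 * (Fintype.card F ^ 6 * (Fintype.card F ^ 4 - 1) * (Fintype.card F ^ 3 - 1) * (Fintype.card F ^ 2 - 1)) := by
    simp only [Finset.prod_range_succ, Finset.prod_range_zero]
    norm_num
    ring
  rw [hN] at hmul
  have hcard : Nat.card ↥(Cfsg.Omega F (⇑Q)) ≤ Nat.card ↥(rho (F := F)).range := by
    generalize Fintype.card F ^ 6 * (Fintype.card F ^ 4 - 1) * (Fintype.card F ^ 3 - 1) * (Fintype.card F ^ 2 - 1) = N at hmul hker
    by_cases h2 : (2 : F) = 0
    · have hidx := index_omega_two h2 Q hQ (Or.inr (by simp)) (v := s0) (by rw [Q_pl]; simp [s0])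
      rw [hidx] at hmul
      rw [ker_eq_bot_of_two h2, Subgroup.card_bot, mul_one] at hker
      omega
    · have hidx := index_omega_odd h2 Q hQ (by simp)
      rw [hidx] at hmul
      have h3 : Nat.card ↥(rho (F := F)).range * Nat.card ↥(rho (F := F)).ker
          ≤ Nat.card ↥(rho (F := F)).range * 2 := Nat.mul_le_mul_left _ card_ker_le_two
      omega
  have heq : (rho (F := F)).range = Cfsg.Omega F (⇑Q) := Subgroup.eq_of_le_of_card_ge hle hcard
  refine ⟨(rho (F := F)).codRestrict (Cfsg.Omega F (⇑Q)) (fun g => hle ⟨g, rfl⟩), ?_⟩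
  intro ω
  have : ω.1 ∈ (rho (F := F)).range := by rw [heq]; exact ω.2
  obtain ⟨g, hg⟩ := this
  exact ⟨g, Subtype.ext hg⟩

end Cfsg.Agent.Lib.Helper77_OP_KLEIN
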