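import Mathlib
import Cfsg.Prelude.Def_Characters
import Cfsg.Agent.Lib.Helper74_FS4

set_option autoImplicit false

namespace Cfsg.Agent.Lib.Helper77_OddInv

open scoped ComplexConjugate Matrix
open Cfsg.Agent.Lib.Helper74_FS

variable {G : Type*} [Group G] [Fintype G]

/-- A skew-symmetric complex matrix of odd size is singular. -/
theorem det_eq_zero_of_skew_odd {d : ℕ} (A : Matrix (Fin d) (Fin d) ℂ) (hA : Aᵀ = -A)
    (hd : Odd d) : A.det = 0 := by
  have h1 : A.det = (-A).det := by rw [← hA, Matrix.det_transpose]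
  rw [Matrix.det_neg, Fintype.card_fin, hd.neg_one_pow] at h1
  have h2 : (2 : ℂ) * A.det = 0 := by linear_combination h1
  rcases mul_eq_zero.mp h2 with h | h
  · norm_num at h
  · exact h

theorem bil_sum {n : ℕ} (M : Matrix (Fin n) (Fin n) ℂ) {ι : Type*} (s : Finset ι)
    (f : ι → (Fin n → ℂ)) (x : Fin n → ℂ) :
    x ⬝ᵥ (M *ᵥ ∑ h ∈ s, f h) = ∑ h ∈ s, x ⬝ᵥ (M *ᵥ f h) := by
  rw [Matrix.mulVec_sum, dotProduct_sum]

/-- If an irreducible representation with real-valued character has an odd-dimensional space of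
fixed vectors for some subgroup, its Frobenius–Schur indicator is `1`. -/
theorem fsInd_eq_one_of_odd_invariants {n : ℕ} (ρ : Representation ℂ G (Fin n → ℂ))
    [ρ.IsIrreducible] (hreal : ∀ g : G, (ρ.character g).im = 0) (H : Subgroup G)
    (hH : Odd (Module.finrank ℂ (Representation.invariants (ρ.comp H.subtype)))) :
    fsInd ρ.character = 1 := by
  classical
  obtain ⟨M, hM0, hM⟩ := exists_invariant_form_ne_zero ρ hreal
  rcases fsInd_trichotomy ρ with ⟨-, hbot⟩ | ⟨-, h1 | hm1⟩
  · exfalso
    rw [hbot, Submodule.mem_bot] at hM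
    exact hM0 hM
  · exact h1
  exfalso
  have hMt : Mᵀ = -M := by
    rw [transpose_eq_fsInd_smul ρ hreal M hM, hm1, neg_one_smul]
  have hu := isUnit_of_invariant ρ M hM hM0
  have hMinv := (mem_invariants_formRep ρ M).mp hM
  set σ : Representation ℂ H (Fin n → ℂ) := ρ.comp H.subtype with hσ
  set W := Representation.invariants σ with hW
  set d := Module.finrank ℂ W with hd
  -- the bilinear form
  set B : (Fin n → ℂ) → (Fin n → ℂ) → ℂ := fun x y => x ⬝ᵥ (M *ᵥ y) with hB
  have hBinv : ∀ (g : G) (x y : Fin n → ℂ), B (ρ g x) (ρ g y) = B x y := by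
    intro g x y
    have e : ∀ v, ρ g v = mat ρ g *ᵥ v := by
      intro v
      rw [rho_eq_toLin' ρ g, Matrix.toLin'_apply]
    simp only [hB, e]
    rw [Matrix.mulVec_mulVec, ← Matrix.vecMul_transpose, ← Matrix.dotProduct_mulVec,
      Matrix.mulVec_mulVec, ← Matrix.mul_assoc, hMinv g]
  have hBskew : ∀ x y, B x y = -B y x := by
    intro x y
    simp only [hB]
    conv_lhs => rw [Matrix.dotProduct_mulVec, ← Matrix.mulVec_transpose, hMt, Matrix.neg_mulVec,
      neg_dotProduct, dotProduct_comm]
  have hBadd : ∀ x y z, B x (y + z) = B x y + B x z := by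
    intro x y z
    simp only [hB, Matrix.mulVec_add, dotProduct_add]
  have hBsmul : ∀ (c : ℂ) x y, B x (c • y) = c * B x y := by
    intro c x y
    simp only [hB, Matrix.mulVec_smul, dotProduct_smul, smul_eq_mul]
  have hBsum : ∀ (s : Finset (Fin d)) (f : Fin d → (Fin n → ℂ)) x,
      B x (∑ h ∈ s, f h) = ∑ h ∈ s, B x (f h) := by
    intro s f x
    simp only [hB]
    exact bil_sum M s f x
  have hBsumH : ∀ (s : Finset H) (f : H → (Fin n → ℂ)) x,
      B x (∑ h ∈ s, f h) = ∑ h ∈ s, B x (f h) := by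
    intro s f x
    simp only [hB]
    exact bil_sum M s f x
  -- averaging
  have : Invertible (Fintype.card H : ℂ) :=
    invertibleOfNonzero (Nat.cast_ne_zero.mpr Fintype.card_ne_zero)
  have havg : ∀ u ∈ W, ∀ w, B u (σ.averageMap w) = B u w := by
    intro u hu_inv w
    have hu_fix : ∀ h : H, ρ (h : G) u = u := fun h => hu_inv h
    have hcard : (Fintype.card H : ℂ) ≠ 0 := Nat.cast_ne_zero.mpr Fintype.card_ne_zero
    have hQ : σ.averageMap = (Fintype.card H : ℂ)⁻¹ • ∑ h : H, σ h := by
      simp [Representation.averageMap, GroupAlgebra.average, map_sum]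
    rw [hQ, LinearMap.smul_apply, LinearMap.sum_apply, hBsmul, hBsumH]
    have h3 : ∀ h : H, B u (σ h w) = B u w := by
      intro h
      have h4 := hBinv (h : G) u w
      rw [hu_fix h] at h4
      exact h4
    simp only [h3, Finset.sum_const, Finset.card_univ, nsmul_eq_mul]
    rw [← mul_assoc, inv_mul_cancel₀ hcard, one_mul]
  -- Gram matrix on a basis of the invariants
  let b : Module.Basis (Fin d) ℂ W := Module.finBasis ℂ W
  set A : Matrix (Fin d) (Fin d) ℂ := fun i j => B (b i : Fin n → ℂ) (b j : Fin n → ℂ) with hAdef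
  have hAt : Aᵀ = -A := by
    ext i j
    rw [Matrix.transpose_apply, Matrix.neg_apply]
    exact hBskew _ _
  have hdet := det_eq_zero_of_skew_odd A hAt hH
  obtain ⟨v, hv0, hAv⟩ := Matrix.exists_mulVec_eq_zero_iff.mpr hdet
  set u : W := ∑ j, v j • b j with hudef
  have hu0 : u ≠ 0 := by
    intro h0
    apply hv0
    have := (Fintype.linearIndependent_iff.mp b.linearIndependent) v h0
    funext j
    exact this j
  have hucoe : (u : Fin n → ℂ) = ∑ j, v j • (b j : Fin n → ℂ) := by
    rw [hudef]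
    simp
  have hbu : ∀ i, B (b i : Fin n → ℂ) (u : Fin n → ℂ) = 0 := by
    intro i
    rw [hucoe, hBsum]
    have := congrFun hAv i
    simp only [Matrix.mulVec, dotProduct, Pi.zero_apply] at this
    rw [← this]
    refine Finset.sum_congr rfl (fun j _ => ?_)
    rw [hBsmul, hAdef, mul_comm]
  have hub : ∀ w : W, B (u : Fin n → ℂ) (w : Fin n → ℂ) = 0 := by
    intro w
    have hw := b.sum_repr w
    have hwcoe : (w : Fin n → ℂ) = ∑ j, b.repr w j • (b j : Fin n → ℂ) := by
      have := congrArg (Subtype.val : W → (Fin n → ℂ)) hw.symm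
      refine this.trans ?_
      simp only [Submodule.coe_sum, Submodule.coe_smul]
    rw [hwcoe, hBsum]
    refine Finset.sum_eq_zero (fun j _ => ?_)
    rw [hBsmul, hBskew, hbu, neg_zero, mul_zero]
  have hBu : ∀ w, B (u : Fin n → ℂ) w = 0 := by
    intro w
    rw [← havg u u.2 w]
    exact hub ⟨σ.averageMap w, σ.averageMap_invariant w⟩
  -- nondegeneracy
  have h5 : Mᵀ *ᵥ (u : Fin n → ℂ) = 0 := by
    funext i
    have := hBu (Pi.single i 1)
    simp only [hB] at this
    rw [Matrix.dotProduct_mulVec, dotProduct_single, mul_one] at this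
    rw [Matrix.mulVec_transpose]
    exact this
  have hut : IsUnit Mᵀ := by
    rw [Matrix.isUnit_iff_isUnit_det, Matrix.det_transpose, ← Matrix.isUnit_iff_isUnit_det]
    exact hu
  have h6 := (Matrix.mulVec_injective_iff_isUnit.mpr hut) (h5.trans (Matrix.mulVec_zero _).symm)
  exact hu0 (Subtype.ext h6)

end Cfsg.Agent.Lib.Helper77_OddInv
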