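import Mathlib
import Cfsg.Agent.Lib.Helper37_RHDefs
import Cfsg.Agent.Lib.Helper26_RHTorDefs
import Cfsg.Agent.Lib.Helper10_RH_ARITH
import Cfsg.Agent.Lib.Helper31_RH_FIXINV
import Cfsg.Agent.Lib.Helper55_RH_FIX2
import Cfsg.Agent.Lib.Helper86_RH_SYL3
import Cfsg.Agent.Lib.Helper60_RH_CENTH
import Cfsg.Agent.Lib.Helper91_RH_INH
import Cfsg.Agent.Lib.Helper91_RH_SIGCONJ

/-!
# REEHALL market (architect helper37), package NOFIX

The fixed-point-free elements of a group `G` with `RH G Ω m` are exactly the `π`-elements and the elements of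
`σ`-type.

* `nofix_of_prime` : an element whose order is divisible by an odd prime `p ∣ q ^ 3 + 1` has no fixed point
  (the element of order `p` in `⟨g⟩` would have `≥ p ≥ 3` fixed points, hence be an involution).
* `sq_eq_one_of_two_pow` : `G` has no element of order 4 (`h.syl2`).
* `nofix_of_pi`, `nofix_of_sig`, `nofix_cases` : the three statements of the package, verbatim.
  `nofix_cases` does not use PICENT: the only case where it is needed (`orderOf g = 2 n'`, `1 < n' ∣ N`) is the case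
  `s = 2` of PICENT, done here directly (`g ^ 2` lies in the centraliser of the involution `g ^ n'`, of order
  `q (q ^ 2 - 1)`).
-/

set_option autoImplicit false

namespace Cfsg.Agent.Lib.Helper86_RH_NOFIX

open MulAction Subgroup Cfsg.Agent.Lib.Helper37_RHDefs
open scoped Pointwise

variable {G : Type*} [Group G] [Finite G] {Ω : Type*} [MulAction G Ω] {m : ℕ}

omit [Finite G] in
/-- `fixN Ω g = 0` iff `g` has no fixed point -/
theorem fixN_eq_zero_iff [Finite Ω] (g : G) : fixN Ω g = 0 ↔ ∀ x : Ω, g • x ≠ x := by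
  unfold fixN
  rw [Nat.card_eq_zero]
  constructor
  · rintro (h | h)
    · intro x hx
      exact h.false ⟨x, hx⟩
    · exact (not_finite ↥(MulAction.fixedBy Ω g)).elim
  · intro h
    left
    exact ⟨fun a => h a.1 a.2⟩

omit [Finite G] in
theorem pow_smul_fixed (g : G) (x : Ω) (hx : g • x = x) (e : ℕ) : g ^ e • x = x := by
  induction e with
  | zero => rw [pow_zero, one_smul]
  | succ e ih => rw [pow_succ, mul_smul, hx, ih]

theorem finite_Ω (h : RH G Ω m) : Finite Ω :=
  Nat.finite_of_card_ne_zero (by rw [h.card_Ω]; positivity)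

/-- an element whose order is divisible by an odd prime dividing `q ^ 3 + 1 = |Ω|` has no fixed point -/
theorem nofix_of_prime (h : RH G Ω m) (g : G) (p : ℕ) (hp : p.Prime) (hp2 : p ≠ 2)
    (hpΩ : p ∣ (Q m) ^ 3 + 1) (hpg : p ∣ orderOf g) : fixN Ω g = 0 := by
  have : Fact p.Prime := ⟨hp⟩
  have : Finite Ω := finite_Ω h
  rw [fixN_eq_zero_iff]
  intro x hx
  have hn0 : orderOf g ≠ 0 := (orderOf_pos g).ne'
  set gd := g ^ (orderOf g / p) with hgd
  have hord : orderOf gd = p := orderOf_pow_orderOf_div hn0 hpg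
  have hgdx : gd • x = x := pow_smul_fixed g x hx _
  have hgd1 : gd ≠ 1 := by
    intro e
    rw [e, orderOf_one] at hord
    exact hp.one_lt.ne hord
  have hP : IsPGroup p ↥(zpowers gd) := by
    apply IsPGroup.of_card (n := 1)
    rw [Nat.card_zpowers, hord, pow_one]
  have hmod := hP.card_modEq_card_fixedPoints Ω
  rw [h.card_Ω] at hmod
  have hdvd : p ∣ Nat.card ↥(fixedPoints ↥(zpowers gd) Ω) := by
    have h0 : (Q m) ^ 3 + 1 ≡ 0 [MOD p] := (Nat.modEq_zero_iff_dvd).mpr hpΩ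
    exact (Nat.modEq_zero_iff_dvd).mp (hmod.symm.trans h0)
  have hxmem : x ∈ fixedPoints ↥(zpowers gd) Ω := by
    rintro ⟨k, hk⟩
    obtain ⟨j, rfl⟩ := mem_zpowers_iff.mp hk
    show gd ^ j • x = x
    have : gd ∈ stabilizer G x := hgdx
    exact (stabilizer G x).zpow_mem this j
  have : Nonempty ↥(fixedPoints ↥(zpowers gd) Ω) := ⟨⟨x, hxmem⟩⟩
  have hpos : 0 < Nat.card ↥(fixedPoints ↥(zpowers gd) Ω) := Nat.card_pos
  have h3 : 2 < Nat.card ↥(fixedPoints ↥(zpowers gd) Ω) := by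
    have h1 := Nat.le_of_dvd hpos hdvd
    have h2 := hp.two_le
    omega
  have : Fintype ↥(fixedPoints ↥(zpowers gd) Ω) := Fintype.ofFinite _
  rw [Nat.card_eq_fintype_card] at h3
  obtain ⟨a, b, c, hab, hac, hbc⟩ := Fintype.two_lt_card_iff.mp h3
  have hfa : gd • a.1 = a.1 := a.2 ⟨gd, mem_zpowers gd⟩
  have hfb : gd • b.1 = b.1 := b.2 ⟨gd, mem_zpowers gd⟩
  have hfc : gd • c.1 = c.1 := c.2 ⟨gd, mem_zpowers gd⟩
  have h2 := Cfsg.Agent.Lib.Helper31_RH_FIXINV.invol_of_fix h gd hgd1 a.1 b.1 c.1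
    (fun e => hab (Subtype.ext e)) (fun e => hac (Subtype.ext e)) (fun e => hbc (Subtype.ext e)) hfa hfb hfc
  rw [hord] at h2
  exact hp2 h2

/-- `G` has no element of order 4: a 2-element squares to 1 -/
theorem sq_eq_one_of_two_pow (h : RH G Ω m) (g : G) (k : ℕ) (hg : g ^ 2 ^ k = 1) : g * g = 1 := by
  have : Fact (Nat.Prime 2) := ⟨Nat.prime_two⟩
  obtain ⟨j, _, hj⟩ := (Nat.dvd_prime_pow Nat.prime_two).mp (orderOf_dvd_of_pow_eq_one hg)
  have hP : IsPGroup 2 ↥(zpowers g) := by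
    apply IsPGroup.of_card (n := j)
    rw [Nat.card_zpowers, hj]
  obtain ⟨S, hS⟩ := hP.exists_le_sylow
  exact (h.syl2 S).2.1 g (hS (mem_zpowers g))

/-- PK NOFIX (second part). -/
theorem nofix_of_pi (h : RH G Ω m) (g : G) (hg : IsPi m g) : fixN Ω g = 0 := by
  obtain ⟨hg1, hgN⟩ := hg
  have hm := h.hm
  have hne : orderOf g ≠ 1 := fun e => hg1 (orderOf_eq_one_iff.mp e)
  have hp : (orderOf g).minFac.Prime := Nat.minFac_prime hne
  have hpg : (orderOf g).minFac ∣ orderOf g := Nat.minFac_dvd _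
  have hpN : (orderOf g).minFac ∣ (Q m) ^ 2 - Q m + 1 := hpg.trans hgN
  obtain ⟨-, -, -, h4, -⟩ := Cfsg.Agent.Lib.Helper10_RH_ARITH.arith_primes m hm _ hp
  obtain ⟨h7, -, -⟩ := h4 hpN
  obtain ⟨-, -, -, -, -, -, -, -, -, hcube, -⟩ := Cfsg.Agent.Lib.Helper10_RH_ARITH.arith m hm
  refine nofix_of_prime h g _ hp (by omega) ?_ hpg
  rw [hcube]
  exact hpN.mul_left _

omit [Finite G] in
/-- an element of `D ∖ V` has order divisible by an odd prime dividing `q + 1` -/
theorem exists_odd_prime_of_not_mem_V [Finite G] (h : RH G Ω m) (D T V : Subgroup G) (hT : TorT m D T V) (d : G)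
    (hdD : d ∈ D) (hdV : d ∉ V) : ∃ p : ℕ, p.Prime ∧ p ≠ 2 ∧ p ∣ Q m + 1 ∧ p ∣ orderOf d := by
  have hn0 : orderOf d ≠ 0 := (orderOf_pos d).ne'
  have hdd : d * d ≠ 1 := fun e => hdV (hT.mem_V d hdD e)
  have hdvd : orderOf d ∣ Q m + 1 := by
    rw [← hT.card_D]
    exact Subgroup.orderOf_dvd_natCard D hdD
  by_contra hcon
  push Not at hcon
  have hall : ∀ {p : ℕ}, p.Prime → p ∣ orderOf d → p = 2 := by
    intro p hp hpd
    by_contra hp2
    exact hcon p hp hp2 (hpd.trans hdvd) hpd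
  have hpow := Nat.eq_prime_pow_of_unique_prime_dvd hn0 hall
  apply hdd
  apply sq_eq_one_of_two_pow h d (orderOf d).primeFactorsList.length
  rw [← hpow]
  exact pow_orderOf_eq_one d

/-- PK NOFIX (third part). -/
theorem nofix_of_sig (h : RH G Ω m) (D T V : Subgroup G) (hT : TorT m D T V) (g : G) (hg : IsSig D V g) :
    fixN Ω g = 0 ∧ ¬ IsPi m g := by
  obtain ⟨c, hcD, hcV⟩ := hg
  have hm := h.hm
  obtain ⟨p, hp, hp2, hpq, hpd⟩ := exists_odd_prime_of_not_mem_V h D T V hT _ hcD hcV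
  have hord : orderOf (c * g * c⁻¹) = orderOf g := by
    have := (MulAut.conj c).orderOf_eq g
    rwa [MulAut.conj_apply] at this
  obtain ⟨-, -, -, -, -, -, -, -, -, hcube, -, hsq, -⟩ := Cfsg.Agent.Lib.Helper10_RH_ARITH.arith m hm
  constructor
  · rw [← Cfsg.Agent.Lib.Helper55_RH_FIX2.fixN_conj c g]
    refine nofix_of_prime h _ p hp hp2 ?_ hpd
    rw [hcube]
    exact hpq.mul_right _
  · rintro ⟨-, hgN⟩
    rw [hord] at hpd
    obtain ⟨-, -, -, h4, -⟩ := Cfsg.Agent.Lib.Helper10_RH_ARITH.arith_primes m hm p hp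
    obtain ⟨-, hnd, -⟩ := h4 (hpd.trans hgN)
    apply hnd
    rw [hsq]
    exact (hpq.mul_left _).mul_left _

/-- an involution has a fixed point, so it is not fixed-point-free -/
theorem fixN_ne_zero_of_invol (h : RH G Ω m) (t : G) (ht : orderOf t = 2) : fixN Ω t ≠ 0 := by
  have := (Cfsg.Agent.Lib.Helper31_RH_FIXINV.invol_fix h t t ht ht).2
  omega

/-- the order of an element commuting with an involution divides `q (q ^ 2 - 1)` -/
theorem orderOf_dvd_of_comm_invol (h : RH G Ω m) (t x : G) (ht : orderOf t = 2) (hx : x * t = t * x) :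
    orderOf x ∣ Q m * ((Q m) ^ 2 - 1) := by
  obtain ⟨a, ha, hconj, hcard, -⟩ := h.invol
  obtain ⟨c, hc⟩ := hconj t ht
  have hmem : c⁻¹ * x * c ∈ centralizer ({a} : Set G) := by
    rw [mem_centralizer_singleton_iff]
    have e1 : t = c * a * c⁻¹ := hc.symm
    rw [e1] at hx
    have e2 : a = c⁻¹ * (c * a * c⁻¹) * c := by group
    calc c⁻¹ * x * c * a = c⁻¹ * (x * (c * a * c⁻¹)) * c := by group
      _ = c⁻¹ * ((c * a * c⁻¹) * x) * c := by rw [hx]
      _ = a * (c⁻¹ * x * c) := by group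
  have hord : orderOf (c⁻¹ * x * c) = orderOf x := by
    have := (MulAut.conj c⁻¹).orderOf_eq x
    rwa [MulAut.conj_apply, inv_inv] at this
  rw [← hord, ← hcard]
  exact Subgroup.orderOf_dvd_natCard _ hmem

/-- PK NOFIX.  A fixed-point-free element is a `π`-element or of `σ`-type. -/
theorem nofix_cases (h : RH G Ω m) (D T V : Subgroup G) (hT : TorT m D T V) (g : G) (hg : fixN Ω g = 0) :
    IsPi m g ∨ IsSig D V g := by
  have : Finite Ω := finite_Ω h
  have hm := h.hm
  obtain ⟨h27, h8, h3, h4, hodd4, h7, h43, h2, hodd2, hcube, hcop, hsq, hcop1, hcop4⟩ :=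
    Cfsg.Agent.Lib.Helper10_RH_ARITH.arith m hm
  have hfix := (fixN_eq_zero_iff g).mp hg
  have hn0 : orderOf g ≠ 0 := (orderOf_pos g).ne'
  have hg1 : g ≠ 1 := by
    rintro rfl
    have hpos : 0 < Nat.card Ω := by rw [h.card_Ω]; positivity
    obtain ⟨x⟩ : Nonempty Ω := (Nat.card_pos_iff.mp hpos).1
    exact hfix x (one_smul _ _)
  -- Step 1 : `3 ∤ orderOf g`
  have h3n : ¬ 3 ∣ orderOf g := by
    intro h3d
    obtain ⟨x, hx, -⟩ := Cfsg.Agent.Lib.Helper86_RH_SYL3.fix_of_three_dvd h g h3d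
    exact hfix x hx
  -- Step 2 : no odd prime dividing `q - 1` divides `orderOf g`
  have hminus : ∀ s : ℕ, s.Prime → s ≠ 2 → s ∣ Q m - 1 → ¬ s ∣ orderOf g := by
    intro s hs hs2 hsq hsn
    set gs := g ^ (orderOf g / s) with hgs
    have hord : orderOf gs = s := orderOf_pow_orderOf_div hn0 hsn
    have hs3 : 2 < s := lt_of_le_of_ne hs.two_le (Ne.symm hs2)
    obtain ⟨x, y, hxy, hx, hy⟩ := Cfsg.Agent.Lib.Helper91_RH_INH.mem_stab2_of_order h gs
      (by rw [hord]; exact hsq) (by rw [hord]; exact hs3)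
    have hgs2 : gs * gs ≠ 1 := by
      intro e
      have hd2 : orderOf gs ∣ 2 := orderOf_dvd_of_pow_eq_one (by rw [pow_two, e])
      rw [hord] at hd2
      have := Nat.le_of_dvd (by norm_num) hd2
      omega
    have hc := Cfsg.Agent.Lib.Helper60_RH_CENTH.cent_of_stab2 h x y hxy gs hx hy hgs2
    have hmem : g ∈ centralizer ({gs} : Set G) := by
      rw [mem_centralizer_singleton_iff, hgs, ← pow_succ, ← pow_succ']
    rw [hc] at hmem
    exact hfix x hmem.1
  by_cases hplus : ∃ s : ℕ, s.Prime ∧ s ≠ 2 ∧ s ∣ Q m + 1 ∧ s ∣ orderOf g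
  · -- Step 3 : `σ`-type
    right
    obtain ⟨s, hs, hs2, hsq, hsn⟩ := hplus
    set gs := g ^ (orderOf g / s) with hgs
    have hord : orderOf gs = s := orderOf_pow_orderOf_div hn0 hsn
    have hgs1 : gs ≠ 1 := by
      intro e
      rw [e, orderOf_one] at hord
      exact hs.one_lt.ne hord
    obtain ⟨-, -, hc3, -⟩ := Cfsg.Agent.Lib.Helper10_RH_ARITH.arith_primes m hm s hs
    obtain ⟨-, -, hs4, -⟩ := hc3 hs2 hsq
    obtain ⟨c, hc⟩ := Cfsg.Agent.Lib.Helper91_RH_SIGCONJ.sig_conj h D T V hT gs hgs1 (by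
      intro p hp hpd
      rw [hord] at hpd
      rw [(Nat.prime_dvd_prime_iff_eq hp hs).mp hpd]
      exact hs4)
    have hne : c * gs * c⁻¹ ≠ 1 := by
      intro e
      apply hgs1
      have : gs = c⁻¹ * (c * gs * c⁻¹) * c := by group
      rw [this, e]
      group
    have hcent := hT.cent _ hc hne
    have hcomm : g * gs = gs * g := by
      rw [hgs, ← pow_succ, ← pow_succ']
    have hmem : c * g * c⁻¹ ∈ centralizer ({c * gs * c⁻¹} : Set G) := by
      rw [mem_centralizer_singleton_iff]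
      calc c * g * c⁻¹ * (c * gs * c⁻¹) = c * (g * gs) * c⁻¹ := by group
        _ = c * (gs * g) * c⁻¹ := by rw [hcomm]
        _ = c * gs * c⁻¹ * (c * g * c⁻¹) := by group
    rw [hcent] at hmem
    refine ⟨c, hmem, fun hV => ?_⟩
    have e1 := hT.V_sq _ hV
    have e2 : g * g = 1 := by
      have : g * g = c⁻¹ * ((c * g * c⁻¹) * (c * g * c⁻¹)) * c := by group
      rw [this, e1]
      group
    have hd2 : orderOf g ∣ 2 := orderOf_dvd_of_pow_eq_one (by rw [pow_two, e2])
    exact hs2 ((Nat.prime_dvd_prime_iff_eq hs Nat.prime_two).mp (hsn.trans hd2))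
  · -- Step 4 : `π`-element
    left
    push Not at hplus
    -- every odd prime dividing `orderOf g` divides `N` and not `q (q ^ 2 - 1)`
    have hcardG : orderOf g ∣ (Q m) ^ 3 * (Q m - 1) * ((Q m) ^ 3 + 1) := by
      rw [← h.card_G]
      exact orderOf_dvd_natCard g
    have hodd : ∀ p : ℕ, p.Prime → p ≠ 2 → p ∣ orderOf g → ¬ p ∣ Q m * ((Q m) ^ 2 - 1) := by
      intro p hp hp2 hpn hpM
      obtain ⟨hc1, -⟩ := Cfsg.Agent.Lib.Helper10_RH_ARITH.arith_primes m hm p hp
      rcases hc1 hpM with e | e | ⟨-, e⟩ | ⟨-, e⟩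
      · exact hp2 e
      · exact h3n (e ▸ hpn)
      · exact hminus p hp hp2 e hpn
      · exact hplus p hp hp2 e hpn
    -- `4 ∤ orderOf g`
    have h4n : ¬ 4 ∣ orderOf g := by
      intro h4d
      set g4 := g ^ (orderOf g / 4) with hg4
      have hord : orderOf g4 = 4 := orderOf_pow_orderOf_div hn0 h4d
      have e1 : g4 ^ 2 ^ 2 = 1 := by
        have := pow_orderOf_eq_one g4
        rw [hord] at this
        exact this
      have e2 := sq_eq_one_of_two_pow h g4 2 e1
      have hd2 : orderOf g4 ∣ 2 := orderOf_dvd_of_pow_eq_one (by rw [pow_two, e2])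
      rw [hord] at hd2
      have := Nat.le_of_dvd (by norm_num) hd2
      omega
    -- the odd part
    obtain ⟨e, n', hn'odd, hn⟩ := Nat.exists_eq_two_pow_mul_odd hn0
    have hn'dvd : n' ∣ orderOf g := ⟨2 ^ e, by rw [hn]; ring⟩
    have hn'cop : Nat.Coprime n' (Q m * ((Q m) ^ 2 - 1)) := by
      apply Nat.coprime_of_dvd
      intro p hp hpn' hpM
      have hp2 : p ≠ 2 := by
        rintro rfl
        exact (Nat.not_even_iff_odd.mpr hn'odd) (even_iff_two_dvd.mpr hpn')
      exact hodd p hp hp2 (hpn'.trans hn'dvd) hpM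
    have hn'N : n' ∣ (Q m) ^ 2 - Q m + 1 := by
      have h1 : n' ∣ ((Q m) ^ 2 - Q m + 1) * ((Q m) ^ 2 * (Q m * ((Q m) ^ 2 - 1))) := by
        refine (hn'dvd.trans hcardG).trans (dvd_of_eq ?_)
        rw [hcube, hsq]
        ring
      have hcop2 : Nat.Coprime n' ((Q m) ^ 2 * (Q m * ((Q m) ^ 2 - 1))) := by
        apply Nat.Coprime.mul_right _ hn'cop
        apply Nat.Coprime.pow_right
        exact Nat.Coprime.coprime_dvd_right (Dvd.intro _ rfl) hn'cop
      exact hcop2.dvd_of_dvd_mul_right h1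
    have he : e = 0 ∨ e = 1 := by
      rcases Nat.lt_or_ge e 2 with h | h
      · omega
      · exfalso
        apply h4n
        rw [hn]
        exact Dvd.dvd.mul_right (pow_dvd_pow 2 h) n'
    rcases he with rfl | rfl
    · refine ⟨hg1, ?_⟩
      rw [hn, pow_zero, one_mul]
      exact hn'N
    · exfalso
      rw [pow_one] at hn
      by_cases hn1 : n' = 1
      · rw [hn1, mul_one] at hn
        exact fixN_ne_zero_of_invol h g hn hg
      · -- `t = g ^ n'` is an involution commuting with `x = g ^ 2` of order `n'`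
        have h2dvd : 2 ∣ orderOf g := ⟨n', hn⟩
        have ht : orderOf (g ^ (orderOf g / 2)) = 2 := orderOf_pow_orderOf_div hn0 h2dvd
        have hx : orderOf (g ^ (orderOf g / n')) = n' := orderOf_pow_orderOf_div hn0 hn'dvd
        have hcomm : g ^ (orderOf g / n') * g ^ (orderOf g / 2) = g ^ (orderOf g / 2) * g ^ (orderOf g / n') := by
          rw [← pow_add, ← pow_add, add_comm]
        have hd := orderOf_dvd_of_comm_invol h _ _ ht hcomm
        rw [hx] at hd
        exact hn1 (Nat.Coprime.eq_one_of_dvd hn'cop hd)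

end Cfsg.Agent.Lib.Helper86_RH_NOFIX
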