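import Mathlib
import Cfsg.Agent.Lib.Helper37_RHDefs
import Cfsg.Agent.Lib.Helper26_RHTorDefs
import Cfsg.Agent.Lib.Helper77_RH_F1159aux
import Cfsg.Agent.Lib.Helper86_RH_NOFIX
import Cfsg.Agent.Lib.Helper88_RH_ONEFIX
import Cfsg.Agent.Lib.Helper47_RH_F2357A
import Cfsg.Agent.Lib.Helper39_RH_TOR8D
import Cfsg.Agent.Lib.Helper79_RH_TORHYPaux
import Cfsg.Agent.Lib.Helper92_RH_PICENT
import Cfsg.Agent.Lib.Helper26_RH_CARDPIaux
import Cfsg.Agent.Lib.Helper3_RH_SIGCOUNT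

/-!
# REEHALL market (architect helper37), package F1159 (final form)

The element orders of a group satisfying `RH` (abstract form of S1159).  The argument is
`Helper77_RH_F1159aux.f1159_of`; here its hypotheses are discharged by the landed packages NOFIX, ONEFIX, F2357A, TOR8D,
TORHYP (via `torHyp_of` + PICENT) and CARDPI (via `card_pi_of` + NOFIX + SIGCOUNT).
-/

set_option autoImplicit false

namespace Cfsg.Agent.Lib.Helper77_RH_F1159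

open MulAction Subgroup Cfsg.Agent.Lib.Helper37_RHDefs Cfsg.Agent.Lib.Helper26_RHTorDefs
open scoped Pointwise

variable {G : Type*} [Group G] [Finite G] {Ω : Type*} [MulAction G Ω] {m : ℕ}

/-- TORHYP, assembled from `torHyp_of` and PICENT. -/
theorem torHyp' (h : RH G Ω m) :
    TorHyp G ((3 ^ (2 * m + 1)) ^ 2 - 3 ^ (2 * m + 1) + 1)
      ((3 ^ (2 * m + 1)) ^ 3 * (3 ^ (2 * m + 1) + 1) * (3 ^ (2 * m + 1) - 1)) :=
  Cfsg.Agent.Lib.Helper79_RH_TORHYPaux.torHyp_of h (Cfsg.Agent.Lib.Helper92_RH_PICENT.cent_pi h)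

/-- CARDPI, assembled from `card_pi_of`, NOFIX and SIGCOUNT. -/
theorem card_pi' (h : RH G Ω m) :
    3 * Nat.card {g : G // g ≠ 1 ∧ orderOf g ∣ (3 ^ (2 * m + 1)) ^ 2 - 3 ^ (2 * m + 1) + 1} =
      (3 ^ (2 * m + 1)) ^ 4 * (3 ^ (2 * m + 1) + 1) * (3 ^ (2 * m + 1) - 1) * (3 ^ (2 * m + 1) - 2) :=
  Cfsg.Agent.Lib.Helper26_RH_CARDPIaux.card_pi_of h
    (Cfsg.Agent.Lib.Helper86_RH_NOFIX.nofix_cases h)
    (Cfsg.Agent.Lib.Helper86_RH_NOFIX.nofix_of_pi h)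
    (Cfsg.Agent.Lib.Helper86_RH_NOFIX.nofix_of_sig h)
    (Cfsg.Agent.Lib.Helper3_RH_SIGCOUNT.card_sig h)

/-- PK F1159. -/
theorem f1159 (h : RH G Ω m) (d : ℕ) :
    (∃ g : G, orderOf g = d) ↔
      (d ∣ 6 ∨ d ∣ 9 ∨ d ∣ 3 ^ (2 * m + 1) - 1 ∨ d ∣ (3 ^ (2 * m + 1) + 1) / 2 ∨
        d ∣ 3 ^ (2 * m + 1) - 3 ^ (m + 1) + 1 ∨ d ∣ 3 ^ (2 * m + 1) + 3 ^ (m + 1) + 1) :=
  Cfsg.Agent.Lib.Helper77_RH_F1159aux.f1159_of h
    (Cfsg.Agent.Lib.Helper86_RH_NOFIX.nofix_cases h)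
    (Cfsg.Agent.Lib.Helper88_RH_ONEFIX.fixN_eq_one_iff h)
    (Cfsg.Agent.Lib.Helper88_RH_ONEFIX.order_of_three_dvd h)
    (Cfsg.Agent.Lib.Helper47_RH_F2357A.f2357a h)
    (Cfsg.Agent.Lib.Helper39_RH_TOR8D.order_dvd h.hm (torHyp' h) (card_pi' h))
    (Cfsg.Agent.Lib.Helper39_RH_TOR8D.exists_order h.hm (torHyp' h) (card_pi' h))
    d

end Cfsg.Agent.Lib.Helper77_RH_F1159
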