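import Mathlib
import Cfsg.Agent.Lib.Helper37_RHDefs
import Cfsg.Agent.Lib.Helper26_RHTorDefs
import Cfsg.Agent.Lib.Helper77_RH_F2361aux
import Cfsg.Agent.Lib.Helper77_RH_F1159
import Cfsg.Agent.Lib.Helper57_RH_N4B
import Cfsg.Agent.Lib.Helper3_RH_NORMT
import Cfsg.Agent.Lib.Helper91_RH_INH
import Cfsg.Agent.Lib.Helper26_RH_TOR7

/-!
# REEHALL market (architect helper37), package F2361 (final form)

Every solvable subgroup of a group satisfying `RH` normalises a Sylow 2-subgroup, a Sylow 3-subgroup, or a cyclic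
Hall subgroup of order `(q - 1) / 2`, `(q + 1) / 4`, `q - r + 1` or `q + r + 1` (abstract form of S2361).  The argument is
`Helper77_RH_F2361aux.f2361_of`; here its hypotheses are discharged by the landed packages N4B, NORMT, INH, TOR7,
TORHYP and CARDPI (the last two as assembled in `Helper77_RH_F1159`).
-/

set_option autoImplicit false

namespace Cfsg.Agent.Lib.Helper77_RH_F2361

open MulAction Subgroup Cfsg.Agent.Lib.Helper37_RHDefs Cfsg.Agent.Lib.Helper26_RHTorDefs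
open scoped Pointwise

variable {G : Type*} [Group G] [Finite G] {Ω : Type*} [MulAction G Ω] {m : ℕ}

/-- PK F2361. -/
theorem f2361 (h : RH G Ω m) (S : Subgroup G) (hS : Group.IsSolvable S) :
    ∃ A : Subgroup G, S ≤ Subgroup.normalizer (A : Set G) ∧
      ((∃ P : Sylow 2 G, A = P) ∨ (∃ P : Sylow 3 G, A = P) ∨
       (IsCyclic A ∧ (Nat.card A = (3 ^ (2 * m + 1) - 1) / 2 ∨ Nat.card A = (3 ^ (2 * m + 1) + 1) / 4 ∨
          Nat.card A = 3 ^ (2 * m + 1) - 3 ^ (m + 1) + 1 ∨ Nat.card A = 3 ^ (2 * m + 1) + 3 ^ (m + 1) + 1))) :=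
  Cfsg.Agent.Lib.Helper77_RH_F2361aux.f2361_of h
    (Cfsg.Agent.Lib.Helper57_RH_N4B.four_conj h)
    (Cfsg.Agent.Lib.Helper3_RH_NORMT.normalizer_torT h)
    (Cfsg.Agent.Lib.Helper91_RH_INH.mem_stab2_of_order h)
    (Cfsg.Agent.Lib.Helper77_RH_F1159.torHyp' h)
    (fun C hC => (Cfsg.Agent.Lib.Helper26_RH_TOR7.two_classes h.hm
      (Cfsg.Agent.Lib.Helper77_RH_F1159.torHyp' h) (Cfsg.Agent.Lib.Helper77_RH_F1159.card_pi' h)).2 C hC)
    S hS

end Cfsg.Agent.Lib.Helper77_RH_F2361
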