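import Mathlib
import Cfsg.Prelude.Def_Characters
import Cfsg.Agent.Lib.Helper80_ExtSylow
import Cfsg.Agent.Lib.Helper81_CharOrth2
import Cfsg.Agent.Lib.Helper80_CharBasic
import Cfsg.Agent.Lib.Helper75_CharProd

/-!
# Real extensions of real invariant characters to odd index overgroups (helper77)

If `N ⊴ G` has odd index and `ϑ ∈ Irr N` is real valued and `G`-invariant, then `ϑ` has a real
valued extension to `G`.  Extendibility uses the stabilizer cover of helper80: the invariant
bilinear form of `ϑ` shows that `2` is a good exponent, and the index of `N` always is.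
-/

set_option autoImplicit false
set_option linter.unusedSectionVars false

namespace Cfsg.Agent.Lib.Helper77_RealExt

open Cfsg.Agent.Lib.Helper80_StabCover Cfsg.Agent.Lib.Helper80_ExtSylow
open Cfsg.Agent.Lib.Helper75_LinChar
open scoped ComplexConjugate

universe u

section form

variable {G : Type u} [Group G] (N : Subgroup G) [hN : N.Normal]
  {V : Type*} [AddCommGroup V] [Module ℂ V] [FiniteDimensional ℂ V]
  (Y : Representation ℂ N V) [hY : Y.IsIrreducible] (k : ℕ)

/-- an element of the cover scales an invariant bilinear form -/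
theorem exists_scale (e : Y.Equiv Y.dual) (x : cover N Y k) :
    ∃ c : ℂ, ∀ v w : V, e ((x.1.2 : Module.End ℂ V) v) ((x.1.2 : Module.End ℂ V) w) =
      c * e v w := by
  set u : Module.End ℂ V := (x.1.2 : Module.End ℂ V) with hu
  have hinvar : ∀ (n : N) (v w : V), e (Y n v) w = e v (Y n⁻¹ w) := by
    intro n v w
    have h := Representation.IntertwiningMap.isIntertwining _ _ e.toIntertwiningMap n v
    have h2 : e (Y n v) = Y.dual n (e v) := h
    rw [h2]
    rfl
  have hcomm : ∀ (n : N) (v : V), u (Y n v) = Y (MulAut.conjNormal x.1.1 n) (u v) := by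
    intro n v
    have := x.2.1 n
    exact congrArg (fun f : Module.End ℂ V => f v) this
  let A : Module.End ℂ V :=
    e.toLinearEquiv.symm.toLinearMap ∘ₗ (Module.Dual.transpose (R := ℂ) u) ∘ₗ
      e.toLinearEquiv.toLinearMap ∘ₗ u
  have hA : ∀ v w : V, e (A v) w = e (u v) (u w) := by
    intro v w
    have h1 : e (A v) = (Module.Dual.transpose (R := ℂ) u) (e (u v)) :=
      e.toLinearEquiv.apply_symm_apply _
    rw [h1]
    rfl
  have hAcomm : ∀ n : N, A * Y n = Y n * A := by
    intro n
    apply LinearMap.ext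
    intro v
    apply e.toLinearEquiv.injective
    apply LinearMap.ext
    intro w
    show e (A (Y n v)) w = e (Y n (A v)) w
    rw [hA, hcomm, hinvar, hinvar, hA]
    congr 1
    have h3 := hcomm n⁻¹ w
    rw [map_inv (MulAut.conjNormal x.1.1 : N ≃* N) n] at h3
    exact h3.symm
  obtain ⟨c, hc⟩ := exists_scalar_of_commute N Y A hAcomm
  refine ⟨c, fun v w => ?_⟩
  rw [← hA, hc]
  simp

/-- the form is not zero -/
theorem exists_form_ne_zero [Nontrivial V] (e : Y.Equiv Y.dual) : ∃ v w : V, e v w ≠ 0 := by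
  obtain ⟨v, hv⟩ := exists_ne (0 : V)
  have h1 : e v ≠ 0 := by
    intro h0
    apply hv
    apply e.toLinearEquiv.injective
    rw [map_zero]
    exact h0
  by_contra hcon
  push Not at hcon
  apply h1
  apply LinearMap.ext
  intro w
  exact hcon v w

/-- the scaling factor -/
noncomputable def scale (e : Y.Equiv Y.dual) (x : cover N Y k) : ℂ :=
  Classical.choose (exists_scale N Y k e x)

theorem scale_spec (e : Y.Equiv Y.dual) (x : cover N Y k) (v w : V) :
    e ((x.1.2 : Module.End ℂ V) v) ((x.1.2 : Module.End ℂ V) w) = scale N Y k e x * e v w :=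
  Classical.choose_spec (exists_scale N Y k e x) v w

theorem scale_eq [Nontrivial V] (e : Y.Equiv Y.dual) (x : cover N Y k) (c : ℂ)
    (h : ∀ v w : V, e ((x.1.2 : Module.End ℂ V) v) ((x.1.2 : Module.End ℂ V) w) = c * e v w) :
    scale N Y k e x = c := by
  obtain ⟨v, w, hvw⟩ := exists_form_ne_zero N Y e
  have h1 := scale_spec N Y k e x v w
  rw [h v w] at h1
  exact (mul_right_cancel₀ hvw h1).symm

/-- the scaling factor as a homomorphism -/
noncomputable def scaleHom [Nontrivial V] (e : Y.Equiv Y.dual) : cover N Y k →* ℂ where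
  toFun := scale N Y k e
  map_one' := by
    apply scale_eq
    intro v w
    rw [one_mul]
    rfl
  map_mul' x y := by
    apply scale_eq
    intro v w
    have h1 : (((x * y : cover N Y k).1.2 : (Module.End ℂ V)ˣ) : Module.End ℂ V) =
        (x.1.2 : Module.End ℂ V) * (y.1.2 : Module.End ℂ V) := rfl
    rw [h1, Module.End.mul_apply, Module.End.mul_apply, scale_spec, scale_spec, mul_assoc]

variable (hdet : ∀ n : N, LinearMap.det (Y n) ^ k = 1)

/-- For a representation with an invariant bilinear form, `2` is a good exponent. -/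
theorem two_mem_goodExp [Nontrivial V] (e : Y.Equiv Y.dual) : (2 : ℤ) ∈ goodExp N Y k hdet := by
  refine ⟨(MonoidHom.toHomUnits (scaleHom N Y k e))⁻¹, fun n => ?_, fun z hz c hc => ?_⟩
  · have h1 : scaleHom N Y k e (coverIncl N Y k hdet n) = 1 := by
      apply scale_eq
      intro v w
      rw [one_mul]
      show e (Y n v) (Y n w) = e v w
      have h := Representation.IntertwiningMap.isIntertwining _ _ e.toIntertwiningMap n v
      have h2 : e (Y n v) = Y.dual n (e v) := h
      rw [h2]
      show e v (Y n⁻¹ (Y n w)) = e v w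
      rw [← Module.End.mul_apply, ← map_mul, inv_mul_cancel, map_one, Module.End.one_apply]
    rw [MonoidHom.inv_apply, inv_eq_one]
    apply Units.ext
    rw [MonoidHom.coe_toHomUnits, h1]
    rfl
  · have hc0 : c ≠ 0 := scalar_ne_zero z.1.2 c hc
    have h1 : scaleHom N Y k e z = c ^ 2 := by
      apply scale_eq
      intro v w
      rw [hc]
      simp only [LinearMap.smul_apply, Module.End.one_apply, map_smul, smul_eq_mul]
      ring
    rw [MonoidHom.inv_apply, Units.val_inv_eq_inv_val, MonoidHom.coe_toHomUnits, h1]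
    have h2 : c ^ (2 : ℤ) = c ^ 2 := by norm_cast
    rw [h2]
    exact inv_mul_cancel₀ (pow_ne_zero 2 hc0)

end form

section ext

variable {G : Type u} [Group G] [Finite G]

/-- A real valued invariant irreducible character of a normal subgroup of odd index extends. -/
theorem exists_extension_of_real_odd (N : Subgroup G) [hN : N.Normal] (hodd : Odd N.index)
    (ϑ : N → ℂ) (hϑ : Cfsg.IsIrrCharacter N ϑ)
    (hinv : ∀ (g : G) (n : N), ϑ ⟨g * n * g⁻¹, hN.conj_mem (n : G) n.2 g⟩ = ϑ n)
    (hreal : ∀ n : N, conj (ϑ n) = ϑ n) :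
    ∃ χ : G → ℂ, Cfsg.IsIrrCharacter G χ ∧ ∀ n : N, χ n = ϑ n := by
  classical
  have : Fintype N := Fintype.ofFinite N
  have hϑ' := hϑ
  obtain ⟨d, Y, hYirr, hYchar⟩ := hϑ
  have hdpos : 0 < d := by
    have := finrank_pos_of_irr N Y
    rwa [Module.finrank_fin_fun] at this
  have hnt : Nontrivial (Fin d → ℂ) := by
    have : Nonempty (Fin d) := ⟨⟨0, hdpos⟩⟩
    infer_instance
  set k := Nat.card N with hk
  have hkpos : 0 < k := Nat.card_pos
  have hdet : ∀ n : N, LinearMap.det (Y n) ^ k = 1 := fun n => det_pow_card_eq_one N Y n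
  have hinv' : ∀ (g : G) (n : N), Y.character (MulAut.conjNormal g n) = Y.character n := by
    intro g n
    rw [hYchar]
    have h1 : (MulAut.conjNormal g n : N) = ⟨g * n * g⁻¹, hN.conj_mem (n : G) n.2 g⟩ := by
      apply Subtype.ext
      rw [MulAut.conjNormal_apply]
    rw [h1]
    exact hinv g n
  have hsurj : Function.Surjective (coverFst N Y k) := coverFst_surjective N Y k hkpos hinv'
  -- the index is a good exponent
  have h1 : ((N.index : ℕ) : ℤ) ∈ goodExp N Y k hdet := by
    refine index_mem_goodExp N Y k hkpos hdet hsurj N le_rfl ϑ hϑ' ?_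
    intro n
    rw [hYchar]
  -- the invariant form
  have hdual : Y.dual.IsIrreducible := Cfsg.Agent.Lib.Helper81_CharOrth2.dual_isIrreducible Y
  have hchar : Y.dual.character = Y.character := by
    funext n
    rw [Representation.char_dual, hYchar]
    have h5 := Cfsg.Agent.Lib.Helper80_CharBasic.irr_inv ⟨ϑ, hϑ'⟩ n
    exact h5.trans (hreal n)
  obtain ⟨e⟩ := Cfsg.Agent.Lib.Helper3_CharOrtho.nonempty_equiv_of_char_eq Y.dual Y hchar
  have h2 : (2 : ℤ) ∈ goodExp N Y k hdet := two_mem_goodExp N Y k hdet e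
  obtain ⟨j, hj⟩ := hodd
  have h3 : (1 : ℤ) ∈ goodExp N Y k hdet := by
    have h4 : (1 : ℤ) = ((N.index : ℕ) : ℤ) - (j : ℤ) • (2 : ℤ) := by
      rw [hj]
      push_cast
      rw [smul_eq_mul]
      ring
    rw [h4]
    exact (goodExp N Y k hdet).sub_mem h1 ((goodExp N Y k hdet).zsmul_mem h2 _)
  obtain ⟨ρ, hρ⟩ := exists_extension_of_one_mem N Y k hdet hsurj h3
  have hρirr : ρ.IsIrreducible := isIrreducible_of_comp N.subtype ρ Y hρ
  refine ⟨ρ.character, ⟨d, ρ, hρirr, rfl⟩, fun n => ?_⟩
  rw [← hYchar]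
  show LinearMap.trace ℂ _ (ρ (n : G)) = LinearMap.trace ℂ _ (Y n)
  rw [hρ n]

/-- A real valued invariant irreducible character of a normal subgroup of odd index has a real
valued extension. -/
theorem exists_real_extension (N : Subgroup G) [hN : N.Normal] (hodd : Odd N.index)
    (ϑ : N → ℂ) (hϑ : Cfsg.IsIrrCharacter N ϑ)
    (hinv : ∀ (g : G) (n : N), ϑ ⟨g * n * g⁻¹, hN.conj_mem (n : G) n.2 g⟩ = ϑ n)
    (hreal : ∀ n : N, conj (ϑ n) = ϑ n) :
    ∃ χ : G → ℂ, Cfsg.IsIrrCharacter G χ ∧ (∀ n : N, χ n = ϑ n) ∧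
      ∀ g : G, conj (χ g) = χ g := by
  classical
  have : Fintype G := Fintype.ofFinite G
  obtain ⟨η, hη, hηres⟩ := exists_extension_of_real_odd N hodd ϑ hϑ hinv hreal
  have hηN : Cfsg.IsIrrCharacter N (fun n : N => η n) := by
    have : (fun n : N => η n) = ϑ := funext hηres
    rw [this]
    exact hϑ
  have hconj : Cfsg.IsIrrCharacter G (fun g => conj (η g)) :=
    Cfsg.Agent.Lib.Helper75_CharProd.isIrrCharacter_conj hη
  obtain ⟨β, hβ, hβN, hβη⟩ := Cfsg.Agent.Lib.Helper75_Gallagher.exists_lin_of_extensions N hη hconj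
    hηN (fun n => by
      show conj (η n) = η n
      rw [hηres, hreal])
  obtain ⟨j, hj⟩ := hodd
  have hμ : IsLin G (β ^ (j + 1)) := hβ.pow (j + 1)
  have hsq : ∀ g : G, (β ^ (j + 1)) g * (β ^ (j + 1)) g = β g := by
    intro g
    have h1 := hβ.pow_index_eq_one N hβN g
    rw [Pi.pow_apply, ← pow_add]
    have h2 : j + 1 + (j + 1) = N.index + 1 := by omega
    rw [h2, pow_succ, h1, one_mul]
  refine ⟨β ^ (j + 1) * η, hμ.mul_irr hη, fun n => ?_, fun g => ?_⟩
  · rw [Pi.mul_apply, Pi.pow_apply, hβN, one_pow, one_mul, hηres]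
  · rw [Pi.mul_apply, map_mul, hμ.conj_eq_inv]
    have h3 : conj (η g) = β g * η g := congrFun hβη g
    rw [h3, ← hsq g]
    have h4 : (β ^ (j + 1)) g ≠ 0 := hμ.ne_zero g
    field_simp

end ext

end Cfsg.Agent.Lib.Helper77_RealExt
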