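import Mathlib
import Cfsg.Prelude.Def_Characters
import Cfsg.Agent.Lib.Helper77_RealExt
import Cfsg.Agent.Lib.Helper75_RelGlaubMain
import Cfsg.Agent.Lib.Helper82_ItoMichler
import Cfsg.Agent.Lib.Helper77_FongReynolds2
import Cfsg.Agent.Lib.Helper75_AbelianInertia2
import Cfsg.Agent.S4873
import Cfsg.Agent.S4866

/-!
# Clifford theory of real characters over a normal subgroup of odd index (helper77)

Let `H ⊴ X` have odd index.  Every irreducible constituent of the restriction to `H` of a real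
valued `χ ∈ Irr X` is real valued; over a real valued `θ ∈ Irr H` lies exactly one real valued
`χ ∈ Irr X`, and `χ(1) = |X : I_X(θ)| θ(1)`.
-/

set_option autoImplicit false
set_option linter.unusedSectionVars false

namespace Cfsg.Agent.Lib.Helper77_RealCliff

open Cfsg
open Cfsg.Agent.Lib.Helper75_Clifford Cfsg.Agent.Lib.Helper82_ItoMichler
open Cfsg.Agent.Lib.Helper3_CharBridge Cfsg.Agent.Lib.Helper3_CharOrtho
open Cfsg.Agent.Lib.Helper75_RelGlaubCliff Cfsg.Agent.Lib.Helper75_RelGlaubGal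
open Cfsg.Agent.Lib.Helper75_Induced
open Cfsg.Agent.S4866
open scoped ComplexConjugate

universe u

section

variable {X : Type u} [Group X] [Fintype X] (H : Subgroup X) [hH : H.Normal] [Fintype H]

/-- the constituents of a real character on a normal subgroup of odd index are real -/
theorem real_of_constituent (hodd : Odd H.index) (χ : IrrCharacter X)
    (hχ : ∀ x, ((χ : X → ℂ) x).im = 0) (θ : IrrCharacter H)
    (hθ : classInner (res H (χ : X → ℂ)) (θ : H → ℂ) ≠ 0) :
    ∀ h, ((θ : H → ℂ) h).im = 0 := by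
  rw [real_iff_conjIrr_eq]
  have hc : (conjIrr θ : H → ℂ) = fun k => conj ((θ : H → ℂ) k) := by
    funext k
    rw [conjIrr_apply, Cfsg.Agent.Lib.Helper80_CharBasic.irr_inv]
  have h1 : classInner (res H (χ : X → ℂ)) (conjIrr θ : H → ℂ) ≠ 0 := by
    have h2 : res H (χ : X → ℂ) = fun k => conj (res H (χ : X → ℂ) k) := by
      funext k
      exact (Complex.conj_eq_iff_im.2 (hχ k)).symm
    rw [hc, h2, Cfsg.Agent.Lib.Helper75_CharProd.classInner_conj_conj]
    exact (map_ne_zero _).2 hθ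
  obtain ⟨g, hg⟩ := exists_conj_of_constituent H hH χ.2 θ.2 (conjIrr θ).2 hθ h1
  have h3 : conjIrr (g • θ) = θ := by
    apply Subtype.ext
    funext k
    rw [conjIrr_apply, smul_irr_apply, map_inv, ← conjIrr_apply, hg, Helper75_Clifford.conjFun_eq_comp]
    show (θ : H → ℂ) ((MulAut.conjNormal g : MulAut H) ((MulAut.conjNormal g⁻¹ : MulAut H) k)) = _
    rw [← MulAut.mul_apply, ← map_mul, mul_inv_cancel, map_one, MulAut.one_apply]
  exact ((odd_trick H hodd g θ).2 h3).1

/-- over a real character of a normal subgroup of odd index lies a real character of the expected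
degree -/
theorem exists_real_over_degree (hodd : Odd H.index) (θ : IrrCharacter H)
    (hθ : ∀ h, ((θ : H → ℂ) h).im = 0) :
    ∃ χ : IrrCharacter X, (∀ x, ((χ : X → ℂ) x).im = 0) ∧
      classInner (res H (χ : X → ℂ)) (θ : H → ℂ) ≠ 0 ∧
      (χ : X → ℂ) 1 = ((stab H (θ : H → ℂ)).index : ℂ) * (θ : H → ℂ) 1 := by
  classical
  obtain ⟨T, hTdef⟩ : ∃ T : Subgroup X, T = stab H (θ : H → ℂ) := ⟨_, rfl⟩
  have hT : ∀ g : X, g ∈ T ↔ Helper75_Clifford.conjFun H hH (θ : H → ℂ) g = (θ : H → ℂ) := by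
    intro g
    rw [hTdef]
    exact mem_stab H _ g
  have hHT : H ≤ T := by
    rw [hTdef]
    exact le_stab H (isClassFunction_of_isIrrCharacter θ.2)
  have : Fintype T := Fintype.ofFinite T
  have : Fintype (H.subgroupOf T) := Fintype.ofFinite _
  have hHTn : (H.subgroupOf T).Normal := hH.subgroupOf T
  have hodd' : Odd (H.subgroupOf T).index :=
    Odd.of_dvd_nat hodd (Subgroup.relIndex_dvd_index_of_normal H T)
  have hirr' := isIrrCharacter_resSubgroupOf H T hHT θ.2
  have hinv : ∀ (t : T) (n : H.subgroupOf T),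
      resSubgroupOf H T (θ : H → ℂ) ⟨t * n * t⁻¹, hHTn.conj_mem (n : T) n.2 t⟩ =
        resSubgroupOf H T (θ : H → ℂ) n := by
    intro t n
    have h1 := (hT (t : X)).1 t.2
    have h2 := congrFun h1 ⟨((n : T) : X), Subgroup.mem_subgroupOf.mp n.2⟩
    rw [Helper75_Clifford.conjFun_apply] at h2
    exact h2
  have hreal' : ∀ n : H.subgroupOf T,
      conj (resSubgroupOf H T (θ : H → ℂ) n) = resSubgroupOf H T (θ : H → ℂ) n := by
    intro n
    exact Complex.conj_eq_iff_im.2 (hθ _)
  obtain ⟨ψ, hψirr, hψres, hψreal⟩ :=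
    Cfsg.Agent.Lib.Helper77_RealExt.exists_real_extension (H.subgroupOf T) hodd'
      (resSubgroupOf H T (θ : H → ℂ)) hirr' hinv hreal'
  have hψH : (fun n : H => ψ ⟨(n : X), hHT n.2⟩) = (θ : H → ℂ) := by
    funext n
    have := hψres ⟨⟨(n : X), hHT n.2⟩, Subgroup.mem_subgroupOf.mpr n.2⟩
    exact this
  have hover : OverT H T hHT (θ : H → ℂ) ψ := by
    unfold OverT
    rw [hψH, classInner_self_of_isIrrCharacter θ.2]
    exact one_ne_zero
  have hχirr := cliff_irr H T hH hHT θ.2 hT ⟨ψ, hψirr⟩ hover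
  have hχover := Cfsg.Agent.Lib.Helper75_RelGlaubMain.over_ind H T hH hHT θ.2 hT ⟨ψ, hψirr⟩ hover
  refine ⟨⟨indFun T ψ, hχirr⟩, fun x => ?_, hχover, ?_⟩
  · apply Complex.conj_eq_iff_im.1
    have h1 := congrFun (Cfsg.Agent.Lib.Helper77_FongReynolds2.indFun_conj (T := T) ψ) x
    have h2 : (fun t => conj (ψ t)) = ψ := funext hψreal
    rw [h2] at h1
    exact h1.symm
  · show indFun T ψ 1 = _
    rw [Cfsg.Agent.Lib.Helper75_AbelianInertia2.indFun_one_index T ψ, ← hTdef]
    congr 1
    have := congrFun hψH 1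
    exact this

/-- the real character over a real character of a normal subgroup of odd index is unique -/
theorem real_over_unique (hodd : Odd H.index) (θ : IrrCharacter H) (χ χ' : IrrCharacter X)
    (hχ : ∀ x, ((χ : X → ℂ) x).im = 0) (hχ' : ∀ x, ((χ' : X → ℂ) x).im = 0)
    (h : classInner (res H (χ : X → ℂ)) (θ : H → ℂ) ≠ 0)
    (h' : classInner (res H (χ' : X → ℂ)) (θ : H → ℂ) ≠ 0) : χ = χ' :=
  Cfsg.Agent.S4873.eq_of_real_of_lying_over H hodd θ χ χ'
    (fun g => Complex.conj_eq_iff_im.2 (hχ g)) (fun g => Complex.conj_eq_iff_im.2 (hχ' g)) h h'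

/-- the degree of a real character over a real character of a normal subgroup of odd index -/
theorem degree_of_real_over (hodd : Odd H.index) (θ : IrrCharacter H)
    (hθ : ∀ h, ((θ : H → ℂ) h).im = 0) (χ : IrrCharacter X)
    (hχ : ∀ x, ((χ : X → ℂ) x).im = 0)
    (h : classInner (res H (χ : X → ℂ)) (θ : H → ℂ) ≠ 0) :
    (χ : X → ℂ) 1 = ((stab H (θ : H → ℂ)).index : ℂ) * (θ : H → ℂ) 1 := by
  obtain ⟨χ', hχ'real, hχ'over, hχ'deg⟩ := exists_real_over_degree H hodd θ hθ
  rw [real_over_unique H hodd θ χ χ' hχ hχ'real h hχ'over]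
  exact hχ'deg

end

end Cfsg.Agent.Lib.Helper77_RealCliff
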