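import Mathlib
import Cfsg.Prelude.Def_Characters
import Cfsg.Agent.Lib.Helper81_FrobSchur
import Cfsg.Agent.Lib.Helper79_NormalKer

/-!
# Real characters constant on cosets of a normal subgroup (helper77)

If every real-valued irreducible character of `G` has the normal subgroup `M` in its kernel, then
the number of square roots is constant on cosets of `M`.  Consequences:
* if `M` has odd order, every `2`-element of `G` centralizes `M`;
* `M` cannot be a nontrivial complemented normal subgroup of exponent two.
-/

set_option autoImplicit false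

namespace Cfsg.Agent.Lib.Helper77_RealDeg

open Cfsg Cfsg.Agent.Lib.Helper81_FrobSchur
open scoped ComplexConjugate

variable {G : Type*} [Group G]

/-- every real-valued irreducible character is constant on the cosets of `M` -/
def RealKer (M : Subgroup G) : Prop :=
  ∀ χ : IrrCharacter G, (∀ g : G, ((χ : G → ℂ) g).im = 0) →
    ∀ (g m : G), m ∈ M → (χ : G → ℂ) (g * m) = (χ : G → ℂ) g

theorem sqrtCount_mul_of_realKer [Fintype G] (M : Subgroup G) (h : RealKer M) (g m : G)
    (hm : m ∈ M) : sqrtCount G (g * m) = sqrtCount G g := by
  classical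
  have : Fintype (IrrCharacter G) := Fintype.ofFinite _
  rw [sqrtCount_eq, sqrtCount_eq]
  refine Finset.sum_congr rfl (fun χ _ => ?_)
  by_cases h0 : ∑ u : G, (χ : G → ℂ) (u * u) = 0
  · rw [h0, mul_zero, zero_mul, zero_mul]
  · rw [h χ (irr_real_of_sum_sq_ne_zero χ h0) g m hm]

theorem sqrtCount_eq_card [Fintype G] [DecidableEq G] (w : G) :
    sqrtCount G w = ((Finset.univ.filter (fun u : G => u * u = w)).card : ℂ) := by
  unfold sqrtCount
  rw [Nat.card_eq_fintype_card, Fintype.card_subtype]

/-- **Odd case.** If `M` has odd order and all real irreducible characters are trivial on `M`,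
every `2`-element centralizes `M`. -/
theorem two_elem_centralizes [Fintype G] (M : Subgroup G) (hodd : Odd (Nat.card M))
    (h : RealKer M) : ∀ (k : ℕ) (t : G), orderOf t = 2 ^ k → ∀ x ∈ M, t * x = x * t := by
  classical
  intro k
  induction k with
  | zero =>
    intro t ht x _
    rw [pow_zero, orderOf_eq_one_iff] at ht
    rw [ht, one_mul, mul_one]
  | succ k ih =>
    intro t ht x hx
    have htt : orderOf (t * t) = 2 ^ k := by
      rw [← pow_two, orderOf_pow' t (by norm_num : (2 : ℕ) ≠ 0), ht, pow_succ]
      simp
    have hcomm : (t * t) * x = x * (t * t) := ih (t * t) htt x hx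
    have hcomm' : Commute (t * t) x := hcomm
    set n := orderOf x with hn
    have hnodd : Odd n := by
      have h1 : n ∣ Nat.card M := by
        have := orderOf_dvd_natCard (⟨x, hx⟩ : M)
        rwa [Subgroup.orderOf_mk] at this
      exact Odd.of_dvd_nat hodd h1
    obtain ⟨j, hj⟩ := hnodd
    have hxn : x ^ n = 1 := pow_orderOf_eq_one x
    have htk : (t * t) ^ (2 ^ k) = 1 := by
      rw [← htt]; exact pow_orderOf_eq_one _
    -- elements whose square is `t²x` commute with `x`
    have hA : ∀ y : G, y * y = t * t * x → Commute y x := by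
      intro y hy
      have h1 : Commute y (y * y) := (Commute.refl y).mul_right (Commute.refl y)
      rw [hy] at h1
      have h2 : Commute y ((t * t * x) ^ (2 ^ k)) := h1.pow_right _
      rw [hcomm'.mul_pow, htk, one_mul] at h2
      have hcop : Nat.Coprime (2 ^ k) (orderOf x) := by
        apply Nat.Coprime.pow_left
        rw [Nat.coprime_two_left]
        rw [← hn]; exact ⟨j, hj⟩
      obtain ⟨u, hu⟩ := exists_pow_eq_self_of_coprime hcop
      rw [← hu]
      exact h2.pow_right u
    have hcount : (Finset.univ.filter (fun u : G => u * u = t * t * x)).card =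
        (Finset.univ.filter (fun u : G => u * u = t * t)).card := by
      have := sqrtCount_mul_of_realKer M h (t * t) x hx
      rw [sqrtCount_eq_card, sqrtCount_eq_card] at this
      exact_mod_cast this
    set A := Finset.univ.filter (fun u : G => u * u = t * t * x) with hAdef
    set B := Finset.univ.filter (fun u : G => u * u = t * t) with hBdef
    set B' := B.filter (fun s : G => s * x = x * s) with hB'def
    have hle : A.card ≤ B'.card := by
      apply Finset.card_le_card_of_injOn (fun y => y * x ^ j)
      · intro y hy
        have hy' : y * y = t * t * x := by simpa [hAdef] using hy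
        have hc := hA y hy'
        have hcj : Commute y (x ^ j) := hc.pow_right j
        simp only [hB'def, hBdef, Finset.coe_filter, Finset.mem_filter, Finset.mem_univ, true_and,
          Set.mem_ofPred_eq]
        constructor
        · calc y * x ^ j * (y * x ^ j) = y * (x ^ j * y) * x ^ j := by group
            _ = y * (y * x ^ j) * x ^ j := by rw [hcj.eq]
            _ = (y * y) * (x ^ j * x ^ j) := by group
            _ = t * t * (x * (x ^ j * x ^ j)) := by rw [hy']; group
            _ = t * t * x ^ n := by
                congr 1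
                rw [hj, ← pow_add, ← pow_succ']
                congr 1
                ring
            _ = t * t := by rw [hxn, mul_one]
        · have : Commute (y * x ^ j) x := hc.mul_left ((Commute.refl x).pow_left j)
          exact this.eq
      · intro a _ b _ hab
        exact mul_right_cancel hab
    have hB'B : B' ⊆ B := Finset.filter_subset _ _
    have heq : B' = B := by
      apply Finset.eq_of_subset_of_card_le hB'B
      rw [← hcount]
      exact hle
    have htB : t ∈ B := by simp [hBdef]
    rw [← heq] at htB
    simp only [hB'def, Finset.mem_filter] at htB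
    exact htB.2

/-- **Even case.** A nontrivial normal subgroup `M` of exponent two with a complement `H` cannot lie
in the kernel of all real irreducible characters. -/
theorem false_of_complement [Fintype G] (M H : Subgroup G) [M.Normal]
    (hexp : ∀ m ∈ M, m * m = 1) (hM : M ≠ ⊥) (hdisj : H ⊓ M = ⊥)
    (hprod : ∀ g : G, ∃ h ∈ H, ∃ m ∈ M, g = h * m) (h : RealKer M) : False := by
  classical
  set X := Finset.univ.filter (fun y : G => y * y = 1) with hX
  set Y := Finset.univ.filter (fun y : G => y * y ∈ M) with hY
  set I := Finset.univ.filter (fun y : G => y ∈ H ∧ y * y = 1) with hI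
  set MF := Finset.univ.filter (fun y : G => y ∈ M) with hMF
  -- (1) `|Y| = |M| |X|`
  have h1 : Y.card = MF.card * X.card := by
    have hmaps : ∀ y ∈ Y, y * y ∈ MF := by
      intro y hy
      simpa [hY, hMF] using hy
    rw [Finset.card_eq_sum_card_fiberwise hmaps]
    rw [Finset.sum_congr rfl (g := fun _ => X.card)]
    · rw [Finset.sum_const, smul_eq_mul]
    · intro m hm
      have hmM : m ∈ M := by simpa [hMF] using hm
      have hc := sqrtCount_mul_of_realKer M h 1 m hmM
      rw [one_mul, sqrtCount_eq_card, sqrtCount_eq_card] at hc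
      have hc' : (Finset.univ.filter (fun u : G => u * u = m)).card = X.card := by
        exact_mod_cast hc
      rw [← hc']
      congr 1
      ext y
      simp only [hY, Finset.mem_filter, Finset.mem_univ, true_and]
      constructor
      · intro hy; exact hy.2
      · intro hy; exact ⟨by rw [hy]; exact hmM, hy⟩
  -- (2) `|Y| ≤ |I| |M|`
  choose hh hhH mm hmmM hdec using hprod
  have h2 : Y.card ≤ (I ×ˢ MF).card := by
    apply Finset.card_le_card_of_injOn (fun y => (hh y, mm y))
    · intro y hy
      have hy' : y * y ∈ M := by simpa [hY] using hy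
      simp only [Finset.coe_product, Set.mem_prod, Finset.mem_coe, hI, hMF, Finset.mem_filter,
        Finset.mem_univ, true_and]
      refine ⟨⟨hhH y, ?_⟩, hmmM y⟩
      -- `h² ∈ H ∩ M`
      have e1 : y * y = hh y * hh y * ((hh y)⁻¹ * mm y * hh y * mm y) := by
        conv_lhs => rw [hdec y]
        group
      have e2 : (hh y)⁻¹ * mm y * hh y * mm y ∈ M := by
        apply M.mul_mem _ (hmmM y)
        have := (inferInstance : M.Normal).conj_mem (mm y) (hmmM y) (hh y)⁻¹
        simpa using this
      have e3 : hh y * hh y ∈ M := by
        have : hh y * hh y = y * y * ((hh y)⁻¹ * mm y * hh y * mm y)⁻¹ := by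
          rw [e1]; group
        rw [this]
        exact M.mul_mem hy' (M.inv_mem e2)
      have e4 : hh y * hh y ∈ H ⊓ M := ⟨H.mul_mem (hhH y) (hhH y), e3⟩
      rw [hdisj, Subgroup.mem_bot] at e4
      exact e4
    · intro a _ b _ hab
      simp only [Prod.mk.injEq] at hab
      rw [hdec a, hdec b, hab.1, hab.2]
  rw [Finset.card_product] at h2
  -- (3) `|X| ≥ |I| + 1`
  obtain ⟨m₀, hm₀M, hm₀1⟩ : ∃ m₀ ∈ M, m₀ ≠ 1 := by
    by_contra hcon
    push Not at hcon
    apply hM
    rw [Subgroup.eq_bot_iff_forall]
    exact hcon
  have hm₀I : m₀ ∉ I := by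
    intro hmem
    simp only [hI, Finset.mem_filter, Finset.mem_univ, true_and] at hmem
    have : m₀ ∈ H ⊓ M := ⟨hmem.1, hm₀M⟩
    rw [hdisj, Subgroup.mem_bot] at this
    exact hm₀1 this
  have h3 : I.card + 1 ≤ X.card := by
    rw [← Finset.card_insert_of_notMem hm₀I]
    apply Finset.card_le_card
    intro y hy
    rw [Finset.mem_insert] at hy
    simp only [hX, Finset.mem_filter, Finset.mem_univ, true_and]
    rcases hy with rfl | hy
    · exact hexp _ hm₀M
    · simp only [hI, Finset.mem_filter, Finset.mem_univ, true_and] at hy
      exact hy.2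
  have hMpos : 0 < MF.card := by
    apply Finset.card_pos.2
    exact ⟨1, by simp [hMF, M.one_mem]⟩
  have : MF.card * (I.card + 1) ≤ I.card * MF.card := by
    calc MF.card * (I.card + 1) ≤ MF.card * X.card := Nat.mul_le_mul_left _ h3
      _ = Y.card := h1.symm
      _ ≤ I.card * MF.card := h2
  nlinarith

/-- a sufficient condition for `RealKer` -/
theorem realKer_of_sum_ne_zero [Fintype G] (M : Subgroup G) [M.Normal] [Fintype M]
    (hs : ∀ χ : IrrCharacter G, (∀ g : G, ((χ : G → ℂ) g).im = 0) →
      ∑ m : M, (χ : G → ℂ) m ≠ 0) : RealKer M := by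
  intro χ hreal g m hm
  have hs' := hs χ hreal
  obtain ⟨n, ρ, hρ, hχ⟩ := χ.2
  have := hρ
  rw [← hχ] at hs' ⊢
  obtain ⟨v, hv, hfix⟩ := Cfsg.Agent.Lib.Helper79_NormalKer.exists_fixed_of_sum_ne_zero ρ M hs'
  exact Cfsg.Agent.Lib.Helper79_NormalKer.char_mul_of_fixed ρ M v hv hfix g hm

end Cfsg.Agent.Lib.Helper77_RealDeg
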