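import Mathlib
import Cfsg.Prelude.Def_Characters
import Cfsg.Agent.Lib.Helper77_RealDeg
import Cfsg.Agent.Lib.Helper77_BlockBasics
import Cfsg.Agent.Lib.Helper79_CharVals
import Cfsg.Agent.Lib.Helper75_CharProd
import Cfsg.Agent.Lib.Helper75_IndChar
import Cfsg.Agent.Lib.Helper75_Clifford
import Cfsg.Agent.Lib.Helper80_CharBasic
import Cfsg.Agent.Lib.Helper80_RelDegree
import Cfsg.Agent.Lib.Helper74_LinAct
import Cfsg.Agent.S4457

/-!
# Characters of degree prime to `p` and abelian normal `p'`-subgroups (helper77)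
-/

set_option autoImplicit false
set_option linter.unusedSectionVars false

namespace Cfsg.Agent.Lib.Helper77_RealDegA

open Cfsg
open Cfsg.Agent.Lib.Helper3_CharBridge Cfsg.Agent.Lib.Helper3_CharOrtho
  Cfsg.Agent.Lib.Helper75_CharArith Cfsg.Agent.Lib.Helper75_Induced
  Cfsg.Agent.Lib.Helper75_Clifford Cfsg.Agent.Lib.Helper75_CharProd
  Cfsg.Agent.Lib.Helper75_IndChar
  Cfsg.Agent.Lib.Helper80_CharBasic Cfsg.Agent.Lib.Helper77_RealDeg
open scoped ComplexConjugate

section chars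

variable {G : Type*} [Group G] [Fintype G]

/-- If `χ` restricted to the subgroup `Q` has a linear constituent, then `χ` has a nonzero sum
over every subgroup `M ≤ [Q, Q]`. -/
theorem sum_ne_zero_of_linear_constituent (Q M : Subgroup G) [Fintype Q] [Fintype M]
    (hMQ : M ≤ ⁅Q, Q⁆) (χ : IrrCharacter G) (ψ : IrrCharacter Q)
    (hψ1 : (ψ : Q → ℂ) 1 = 1) (hcon : classInner (res Q (χ : G → ℂ)) (ψ : Q → ℂ) ≠ 0) :
    ∑ m : M, (χ : G → ℂ) m ≠ 0 := by
  classical
  have hMleQ : M ≤ Q := le_trans hMQ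
    (Subgroup.commutator_le.2 (fun a ha b hb =>
      Q.mul_mem (Q.mul_mem (Q.mul_mem ha hb) (Q.inv_mem ha)) (Q.inv_mem hb)))
  set M' : Subgroup Q := M.subgroupOf Q with hM'
  have : Fintype M' := Fintype.ofFinite _
  have hχQ : IsCharacter Q (res Q (χ : G → ℂ)) :=
    isCharacter_res _ (isCharacter_of_isIrrCharacter χ.2)
  obtain ⟨b, hb, hsum⟩ := exists_multiplicities hχQ
  have hd : ∀ μ : IrrCharacter Q, ∃ d : ℕ,
      ∑ z : M', (μ : Q → ℂ) z = (Nat.card M' : ℂ) * d :=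
    fun μ => Cfsg.Agent.Lib.Helper79_CharVals.sum_subgroup_char
      (isCharacter_of_isIrrCharacter μ.2) M'
  choose d hd using hd
  have hM'ne : (Nat.card M' : ℂ) ≠ 0 := by exact_mod_cast Nat.card_pos.ne'
  have hsumM : ∑ m : M, (χ : G → ℂ) m =
      (Nat.card M' : ℂ) * ((∑ μ : IrrCharacter Q, b μ * d μ : ℕ) : ℂ) := by
    have e1 : ∑ m : M, (χ : G → ℂ) m =
        ∑ z : M', res Q (χ : G → ℂ) (z : Q) := by
      symm
      refine Fintype.sum_equiv (Subgroup.subgroupOfEquivOfLe hMleQ).toEquiv _ _ (fun z => ?_)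
      rfl
    rw [e1]
    have e2 : ∀ z : M', res Q (χ : G → ℂ) (z : Q) =
        ∑ μ : IrrCharacter Q, (b μ : ℂ) * (μ : Q → ℂ) z := by
      intro z
      conv_lhs => rw [hsum]
      rw [Finset.sum_apply]
      rfl
    rw [Finset.sum_congr rfl (fun z _ => e2 z), Finset.sum_comm]
    push_cast
    rw [Finset.mul_sum]
    refine Finset.sum_congr rfl (fun μ _ => ?_)
    rw [← Finset.mul_sum, hd]
    ring
  intro h0
  rw [hsumM] at h0
  have h1 : (∑ μ : IrrCharacter Q, b μ * d μ : ℕ) = 0 := by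
    rcases mul_eq_zero.1 h0 with h | h
    · exact absurd h hM'ne
    · exact_mod_cast h
  have h2 : b ψ * d ψ = 0 := (Finset.sum_eq_zero_iff.1 h1) ψ (Finset.mem_univ _)
  have hbψ : b ψ ≠ 0 := by
    intro h
    apply hcon
    rw [hb, h]
    simp
  obtain ⟨f, hf⟩ := Cfsg.Agent.Lib.Helper74_LinAct.exists_lin_of_one hψ1
  have hfM : ∀ z : M', f (z : Q) = 1 := by
    intro z
    have hz : ((z : Q) : G) ∈ ⁅Q, Q⁆ := hMQ z.2
    have hmap : Subgroup.map Q.subtype ⁅(⊤ : Subgroup Q), (⊤ : Subgroup Q)⁆ = ⁅Q, Q⁆ := by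
      rw [Subgroup.map_commutator, ← MonoidHom.range_eq_map, Subgroup.range_subtype]
    rw [← hmap] at hz
    obtain ⟨w, hw, hwz⟩ := hz
    have hwz' : w = (z : Q) := Subtype.ext hwz
    rw [← hwz']
    have hker : commutator Q ≤ f.ker := Abelianization.commutator_subset_ker f
    exact hker hw
  have h4 : ∑ z : M', (ψ : Q → ℂ) z = (Nat.card M' : ℂ) := by
    rw [hf]
    simp only [Cfsg.Agent.Lib.Helper74_LinAct.lin_apply, hfM, Units.val_one, Finset.sum_const,
      Finset.card_univ, nsmul_eq_mul, mul_one, Nat.card_eq_fintype_card]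
  rw [hd] at h4
  have h5 : (d ψ : ℂ) = 1 := mul_left_cancel₀ hM'ne (h4.trans (mul_one _).symm)
  have h6 : d ψ = 1 := by exact_mod_cast h5
  rw [h6, mul_one] at h2
  exact hbψ h2

/-- a character has an irreducible constituent on every subgroup -/
theorem exists_constituent_res (Q : Subgroup G) [Fintype Q] (χ : IrrCharacter G) :
    ∃ ψ : IrrCharacter Q, classInner (res Q (χ : G → ℂ)) (ψ : Q → ℂ) ≠ 0 := by
  classical
  have hχQ : IsCharacter Q (res Q (χ : G → ℂ)) :=
    isCharacter_res _ (isCharacter_of_isIrrCharacter χ.2)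
  obtain ⟨b, hb, hsum⟩ := exists_multiplicities hχQ
  by_contra hcon
  push Not at hcon
  have hb0 : ∀ μ : IrrCharacter Q, b μ = 0 := by
    intro μ
    have := hcon μ
    rw [hb] at this
    exact_mod_cast this
  have h1 : res Q (χ : G → ℂ) 1 = 0 := by
    rw [hsum, Finset.sum_apply]
    apply Finset.sum_eq_zero
    intro μ _
    rw [hb0 μ]
    simp
  have h2 : (χ : G → ℂ) 1 = 0 := h1
  rw [Cfsg.Agent.Lib.Helper77_BlockBasics.apply_one_eq_charDegree χ] at h2
  have := Cfsg.Agent.Lib.Helper77_BlockBasics.charDegree_pos χ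
  have h3 : charDegree (χ : G → ℂ) = 0 := by exact_mod_cast h2
  omega

/-- **Itô step.** `M ≤ F` normal subgroups, `M` abelian, `|F : M|` a power of `p`, `M ≤ [F, F]`:
an irreducible character of degree prime to `p` has `M` in its kernel (nonzero sum over `M`). -/
theorem sum_ne_zero_of_ito (p : ℕ) [Fact p.Prime] (F M : Subgroup G) [hF : F.Normal] [Fintype M]
    (hMn : M.Normal) (hMF : M ≤ F) (hab : ∀ a ∈ M, ∀ b ∈ M, a * b = b * a) (m : ℕ)
    (hidx : M.relIndex F = p ^ m) (hMc : M ≤ ⁅F, F⁆) (χ : IrrCharacter G)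
    (hdeg : ¬ p ∣ charDegree (χ : G → ℂ)) : ∑ x : M, (χ : G → ℂ) x ≠ 0 := by
  classical
  have hp : p.Prime := Fact.out
  have : Fintype F := Fintype.ofFinite _
  obtain ⟨ψ, hψ⟩ := exists_constituent_res F χ
  set c := charDegree (χ : G → ℂ) with hc
  set dψ := charDegree (ψ : F → ℂ) with hdψ
  have hχ1 : (χ : G → ℂ) 1 = c := Cfsg.Agent.Lib.Helper77_BlockBasics.apply_one_eq_charDegree χ
  have hψ1 : (ψ : F → ℂ) 1 = dψ := Cfsg.Agent.Lib.Helper77_BlockBasics.apply_one_eq_charDegree ψ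
  obtain ⟨e, he, -⟩ := Cfsg.Agent.Lib.Helper80_RelDegree.rel_degree_dvd F (χ : G → ℂ) χ.2
    (ψ : F → ℂ) ψ.2 hψ c dψ hχ1 hψ1
  have hnd : ¬ p ∣ dψ := fun h => hdeg (by rw [he]; exact Dvd.dvd.mul_left h e)
  -- Itô
  have hM'n : (M.subgroupOf F).Normal := by
    have := hMn
    infer_instance
  have hito := Cfsg.Agent.S4457.ito_char ψ dψ hψ1 (M.subgroupOf F)
    (by
      intro a ha b hb
      apply Subtype.ext
      exact hab a ha b hb)
  have hidx' : (M.subgroupOf F).index = p ^ m := hidx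
  rw [hidx'] at hito
  obtain ⟨j, -, hj⟩ := (Nat.dvd_prime_pow hp).1 hito
  have hj0 : j = 0 := by
    by_contra hj0
    apply hnd
    rw [hj]
    exact dvd_pow_self p hj0
  rw [hj0, pow_zero] at hj
  have hψone : (ψ : F → ℂ) 1 = 1 := by rw [hψ1, hj]; simp
  exact sum_ne_zero_of_linear_constituent F M hMc χ ψ hψone hψ

end chars

end Cfsg.Agent.Lib.Helper77_RealDegA
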