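import Mathlib
import Cfsg.Agent.Lib.Helper82_ItoMichler
import Cfsg.Agent.Lib.Lead_Subnormal
import Cfsg.Agent.Lib.Helper1_MinNormal
import Cfsg.Agent.Lib.Helper77_RealDegA
import Cfsg.Agent.S4872

/-!
# Isaacs--Navarro Theorem A (helper77)

Groups whose real irreducible characters have degree prime to `p` (with solvable `O^{p'}`):
the subgroup generated by the `2`-elements has a normal Sylow `p`-subgroup.
-/

set_option autoImplicit false
set_option linter.unusedSectionVars false

namespace Cfsg.Agent.Lib.Helper77_RealDegB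

open Cfsg Cfsg.Agent.Lib.Helper77_RealDeg Cfsg.Agent.Lib.Helper77_RealDegA
  Cfsg.Agent.Lib.Helper82_ItoMichler
open Cfsg.Agent.Lib.Helper3_CharBridge Cfsg.Agent.Lib.Helper3_CharOrtho
  Cfsg.Agent.Lib.Helper75_CharArith Cfsg.Agent.Lib.Helper75_Induced
  Cfsg.Agent.Lib.Helper75_Clifford Cfsg.Agent.Lib.Helper75_CharProd
  Cfsg.Agent.Lib.Helper75_IndChar
  Cfsg.Agent.Lib.Helper80_CharBasic
open scoped ComplexConjugate

section pgen

variable {G : Type*} [Group G]

/-- subgroup generated by the `p`-elements -/
def pGen (p : ℕ) (G : Type*) [Group G] : Subgroup G :=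
  Subgroup.closure {g : G | ∃ k : ℕ, orderOf g = p ^ k}

theorem pGen_normal (p : ℕ) : (pGen p G).Normal := by
  constructor
  intro n hn g
  unfold pGen at hn ⊢
  induction hn using Subgroup.closure_induction with
  | mem x hx =>
    apply Subgroup.subset_closure
    obtain ⟨k, hk⟩ := hx
    refine ⟨k, ?_⟩
    rw [← hk]
    exact orderOf_injective (MulAut.conj g).toMonoidHom (MulAut.conj g).injective x
  | one => simp
  | mul x y _ _ ihx ihy =>
    rw [← conj_mul]; exact Subgroup.mul_mem _ ihx ihy
  | inv x _ ihx =>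
    rw [← conj_inv]; exact Subgroup.inv_mem _ ihx

theorem mem_pGen_of_pow {p : ℕ} [Fact p.Prime] {x : G} {k : ℕ} (hx : x ^ p ^ k = 1) :
    x ∈ pGen p G := by
  have hp : p.Prime := Fact.out
  apply Subgroup.subset_closure
  have h1 : orderOf x ∣ p ^ k := orderOf_dvd_of_pow_eq_one hx
  obtain ⟨j, -, hj⟩ := (Nat.dvd_prime_pow hp).1 h1
  exact ⟨j, hj⟩

theorem le_pGen_of_isPGroup {p : ℕ} [Fact p.Prime] (R : Subgroup G) (hR : IsPGroup p R) :
    R ≤ pGen p G := by
  intro x hx
  obtain ⟨k, hk⟩ := hR ⟨x, hx⟩
  have hk' : x ^ p ^ k = 1 := by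
    have := congrArg Subtype.val hk
    simpa using this
  exact mem_pGen_of_pow hk'

theorem not_dvd_index_pGen [Finite G] {p : ℕ} [Fact p.Prime] : ¬ p ∣ (pGen p G).index := by
  obtain ⟨P⟩ := (inferInstance : Nonempty (Sylow p G))
  intro h
  apply P.not_dvd_index
  exact h.trans (Subgroup.index_dvd_of_le (le_pGen_of_isPGroup (P : Subgroup G) P.isPGroup'))

/-- a normal subgroup of index prime to `p` contains all `p`-elements -/
theorem pGen_le_of_index [Finite G] {p : ℕ} [Fact p.Prime] (N : Subgroup G) [N.Normal]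
    (hN : ¬ p ∣ N.index) : pGen p G ≤ N := by
  have hp : p.Prime := Fact.out
  unfold pGen
  rw [Subgroup.closure_le]
  rintro g ⟨k, hk⟩
  rw [SetLike.mem_coe, ← QuotientGroup.eq_one_iff]
  have h1 : orderOf (g : G ⧸ N) ∣ p ^ k := by
    rw [← hk]
    exact orderOf_map_dvd (QuotientGroup.mk' N) g
  have h2 : orderOf (g : G ⧸ N) ∣ N.index := by
    rw [Subgroup.index_eq_card]
    exact orderOf_dvd_natCard _
  obtain ⟨j, -, hj⟩ := (Nat.dvd_prime_pow hp).1 h1
  rcases j with _ | j
  · rw [pow_zero] at hj
    exact orderOf_eq_one_iff.1 hj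
  · exfalso
    apply hN
    refine dvd_trans ?_ h2
    rw [hj]
    exact dvd_pow_self p (Nat.succ_ne_zero j)

theorem map_pGen_le {H : Type*} [Group H] (p : ℕ) [Fact p.Prime] (f : G →* H) :
    (pGen p G).map f ≤ pGen p H := by
  have hp : p.Prime := Fact.out
  unfold pGen
  rw [MonoidHom.map_closure, Subgroup.closure_le]
  rintro _ ⟨g, ⟨k, hk⟩, rfl⟩
  have h1 : orderOf (f g) ∣ p ^ k := by
    rw [← hk]
    exact orderOf_map_dvd f g
  obtain ⟨j, -, hj⟩ := (Nat.dvd_prime_pow hp).1 h1
  exact Subgroup.subset_closure ⟨j, hj⟩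

theorem pGen_le_map [Finite G] {H : Type*} [Group H] [Finite H] (p : ℕ) [Fact p.Prime] (f : G →* H)
    (hf : Function.Surjective f) : pGen p H ≤ (pGen p G).map f := by
  have := pGen_normal (G := G) p
  have hn : ((pGen p G).map f).Normal := Subgroup.Normal.map inferInstance f hf
  apply pGen_le_of_index
  intro h
  apply not_dvd_index_pGen (G := G) (p := p)
  exact h.trans (Subgroup.index_map_dvd _ hf)

theorem pGen_quot_top [Finite G] (p : ℕ) [Fact p.Prime] (M : Subgroup G) [M.Normal]
    (h : pGen p G = ⊤) : pGen p (G ⧸ M) = ⊤ := by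
  rw [eq_top_iff]
  refine le_trans ?_ (map_pGen_le p (QuotientGroup.mk' M))
  rw [h, ← MonoidHom.range_eq_map, MonoidHom.range_eq_top.2 (QuotientGroup.mk'_surjective M)]

theorem pGen_quot_solvable [Finite G] (p : ℕ) [Fact p.Prime] (M : Subgroup G) [M.Normal]
    (h : Group.IsSolvable (pGen p G)) : Group.IsSolvable (pGen p (G ⧸ M)) := by
  have h1 : Group.IsSolvable ((pGen p G).map (QuotientGroup.mk' M)) :=
    Group.isSolvable_of_surjective ((QuotientGroup.mk' M).subgroupMap_surjective (pGen p G))
  have h2 := pGen_le_map p (QuotientGroup.mk' M) (QuotientGroup.mk'_surjective M)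
  exact Group.isSolvable_of_isSolvable_injective (Subgroup.inclusion_injective h2)

end pgen


section grp

variable {G : Type*} [Group G] {p : ℕ} [Fact p.Prime]

/-- If a Sylow `p`-subgroup `P` centralizes the normal subgroup `M` and `F = P ⊔ M` is normal,
then `P` is normal. -/
theorem normal_of_centralizes' (M F : Subgroup G) (hF : F.Normal) (P : Sylow p G)
    (hsup : F = (P : Subgroup G) ⊔ M)
    (hcent : ∀ x ∈ (P : Subgroup G), ∀ n ∈ M, x * n = n * x) : (P : Subgroup G).Normal := by
  have hPF : (P : Subgroup G) ≤ F := hsup ▸ le_sup_left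
  have hKnorm : F ≤ Subgroup.normalizer ((P : Subgroup G) : Set G) := by
    rw [hsup]
    refine sup_le Subgroup.le_normalizer ?_
    intro n hn
    rw [Subgroup.mem_normalizer_iff]
    intro h
    constructor
    · intro hh
      have : n * h * n⁻¹ = h := by
        have := hcent h hh n hn
        rw [← this]; group
      rw [this]; exact hh
    · intro hh
      have h3 := hcent _ hh n hn
      have : h = n * h * n⁻¹ := by
        have h4 : n * h * n⁻¹ * n = n * (n * h * n⁻¹) := h3
        have h5 : n * h = n * (n * h * n⁻¹) := by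
          rw [← h4]; group
        exact mul_left_cancel h5
      rw [this]; exact hh
  refine ⟨fun h hh g => ?_⟩
  apply mem_sylow_of_mem_normalizer P (hKnorm (hF.conj_mem h (hPF hh) g))
  have h6 : Subgroup.zpowers (g * h * g⁻¹) ≤
      ((P : Subgroup G).map (MulAut.conj g).toMonoidHom) := by
    rw [Subgroup.zpowers_le]
    exact ⟨h, hh, by simp⟩
  exact (P.isPGroup'.map _).to_le h6



/-- the main step -/
theorem step [Finite G] (h2 : pGen 2 G = ⊤)
    (hreal : ∀ χ : IrrCharacter G, (∀ g, ((χ : G → ℂ) g).im = 0) →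
      ¬ p ∣ charDegree (χ : G → ℂ))
    (M : Subgroup G) (hMn : M.Normal) (hM1 : M ≠ ⊥)
    (hMmin : ∀ L : Subgroup G, L.Normal → L ≤ M → L = ⊥ ∨ L = M)
    (hab : ∀ a ∈ M, ∀ b ∈ M, a * b = b * a) (q : ℕ) (hq : q.Prime) (hexp : ∀ x ∈ M, x ^ q = 1)
    (Qb : Subgroup (G ⧸ M)) [Qb.Normal] (hQb : IsPGroup p Qb) (hidx : ¬ p ∣ Qb.index)
    (P : Sylow p G) : (P : Subgroup G).Normal := by
  classical
  have hp : p.Prime := Fact.out
  have : Fintype G := Fintype.ofFinite G
  have : Fintype M := Fintype.ofFinite M
  set F : Subgroup G := Qb.comap (QuotientGroup.mk' M) with hF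
  have hFn : F.Normal := Subgroup.Normal.comap inferInstance _
  have hPF : (P : Subgroup G) ≤ F := sylow_le_comap M Qb hQb hidx P
  have hMF : M ≤ F := by
    intro n hn
    rw [hF, Subgroup.mem_comap]
    have : QuotientGroup.mk' M n = 1 := (QuotientGroup.eq_one_iff n).2 hn
    rw [this]
    exact one_mem _
  obtain ⟨m, hm⟩ := IsPGroup.iff_card.1 hQb
  have hrel : M.relIndex F = p ^ m := by rw [hF, relIndex_comap_eq, hm]
  have hMq : IsPGroup q M := by
    intro x
    refine ⟨1, ?_⟩
    apply Subtype.ext
    rw [pow_one]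
    simpa using hexp x x.2
  by_cases hqp : q = p
  · -- `F` is a `p`-group
    subst hqp
    have hFp : IsPGroup q F := by
      apply IsPGroup.comap_of_ker_isPGroup hQb
      rw [QuotientGroup.ker_mk']
      exact hMq
    have hFP : F = (P : Subgroup G) := P.is_maximal' hFp hPF
    rw [← hFP]
    exact hFn
  · have : Fact q.Prime := ⟨hq⟩
    obtain ⟨r, hr⟩ := IsPGroup.iff_card.1 hMq
    have hMcop : (Nat.card M).Coprime p := by
      rw [hr]
      exact Nat.Coprime.pow_left r ((Nat.coprime_primes hq hp).2 hqp)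
    -- `F = P ⊔ M`
    have hsup : (P : Subgroup G) ⊔ M ≤ F := sup_le hPF hMF
    have hFle : F ≤ (P : Subgroup G) ⊔ M := by
      rw [← Subgroup.relIndex_eq_one]
      have h1 : ((P : Subgroup G) ⊔ M).relIndex F ∣ M.relIndex F :=
        Subgroup.relIndex_dvd_of_le_left F le_sup_right
      rw [hrel] at h1
      obtain ⟨j, -, hj⟩ := (Nat.dvd_prime_pow hp).1 h1
      have h2 : ((P : Subgroup G) ⊔ M).relIndex F ∣ (P : Subgroup G).index :=
        (Subgroup.relIndex_dvd_index_of_le hsup).trans (Subgroup.index_dvd_of_le le_sup_left)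
      rcases j with _ | j
      · rw [hj, pow_zero]
      · exfalso
        apply P.not_dvd_index
        refine dvd_trans ?_ h2
        rw [hj]
        exact dvd_pow_self p (Nat.succ_ne_zero j)
    have hFeq : F = (P : Subgroup G) ⊔ M := le_antisymm hFle hsup
    have hPM : (P : Subgroup G) ⊓ M = ⊥ := by
      apply disjoint_iff.1
      apply Subgroup.disjoint_of_coprime_natCard
      obtain ⟨m', hm'⟩ := IsPGroup.iff_card.1 P.isPGroup'
      rw [hm']
      exact Nat.Coprime.pow_left m' hMcop.symm
    have hCn : (⁅M, F⁆ : Subgroup G).Normal := inferInstance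
    have hCle : ⁅M, F⁆ ≤ M := Subgroup.commutator_le_left M F
    rcases hMmin _ hCn hCle with hC | hC
    · -- `F` centralizes `M`
      have h1 : M ≤ Subgroup.centralizer (F : Set G) :=
        Subgroup.commutator_eq_bot_iff_le_centralizer.1 hC
      apply normal_of_centralizes' M F hFn P hFeq
      intro x hx n hn
      have := (Subgroup.mem_centralizer_iff.1 (h1 hn)) x (hPF hx)
      exact this
    · exfalso
      have hMc : M ≤ ⁅F, F⁆ := by
        rw [← hC]
        exact Subgroup.commutator_mono hMF le_rfl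
      have hker : RealKer M := by
        apply realKer_of_sum_ne_zero M
        intro χ hχ
        exact sum_ne_zero_of_ito p F M hMn hMF hab m hrel hMc χ (hreal χ hχ)
      -- the centralizer part
      have hZn : (M ⊓ Subgroup.centralizer (F : Set G)).Normal := inferInstance
      have hZ : M ⊓ Subgroup.centralizer (F : Set G) = ⊥ := by
        rcases hMmin _ hZn inf_le_left with h | h
        · exact h
        · exfalso
          have h1 : M ≤ Subgroup.centralizer (F : Set G) := by
            rw [← h]; exact inf_le_right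
          have h2 : ⁅M, F⁆ = ⊥ := Subgroup.commutator_eq_bot_iff_le_centralizer.2 h1
          rw [h2] at hC
          exact hM1 hC.symm
      by_cases hq2 : q = 2
      · -- complement
        subst hq2
        refine false_of_complement M (Subgroup.normalizer ((P : Subgroup G) : Set G))
          (fun m hm => by rw [← pow_two]; exact hexp m hm) hM1 ?_ ?_ hker
        · -- disjoint
          rw [eq_bot_iff]
          intro x hx
          rw [← hZ]
          refine ⟨hx.2, ?_⟩
          show x ∈ Subgroup.centralizer (F : Set G)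
          rw [Subgroup.mem_centralizer_iff]
          intro f hf
          rw [SetLike.mem_coe, hFeq] at hf
          -- x commutes with P and M
          have hxP : ∀ y ∈ (P : Subgroup G), y * x = x * y := by
            intro y hy
            have h1 : x * y * x⁻¹ * y⁻¹ ∈ (P : Subgroup G) := by
              have := (Subgroup.mem_normalizer_iff.1 hx.1 y).1 hy
              exact (P : Subgroup G).mul_mem this ((P : Subgroup G).inv_mem hy)
            have h2 : x * y * x⁻¹ * y⁻¹ ∈ M := by
              have h3 : y * x⁻¹ * y⁻¹ ∈ M := hMn.conj_mem _ (M.inv_mem hx.2) y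
              have h4 : x * (y * x⁻¹ * y⁻¹) ∈ M := M.mul_mem hx.2 h3
              have h5 : x * y * x⁻¹ * y⁻¹ = x * (y * x⁻¹ * y⁻¹) := by group
              rw [h5]; exact h4
            have h3 : x * y * x⁻¹ * y⁻¹ ∈ (P : Subgroup G) ⊓ M := ⟨h1, h2⟩
            rw [hPM, Subgroup.mem_bot] at h3
            calc y * x = (x * y * x⁻¹ * y⁻¹) * (y * x) := by rw [h3, one_mul]
              _ = x * y := by group
          have hcl : (P : Subgroup G) ⊔ M ≤ Subgroup.centralizer ({x} : Set G) := by
            apply sup_le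
            · intro y hy
              rw [Subgroup.mem_centralizer_singleton_iff]
              exact hxP y hy
            · intro y hy
              rw [Subgroup.mem_centralizer_singleton_iff]
              exact hab y hy x hx.2
          have := hcl hf
          rw [Subgroup.mem_centralizer_singleton_iff] at this
          exact this
        · -- product
          intro g
          have hfr : Subgroup.normalizer ((P : Subgroup G) : Set G) ⊔ F = ⊤ :=
            Sylow.normalizer_sup_eq_top' P hPF
          have h1 : Subgroup.normalizer ((P : Subgroup G) : Set G) ⊔ M = ⊤ := by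
            rw [eq_top_iff, ← hfr, hFeq]
            refine sup_le le_sup_left (sup_le ?_ le_sup_right)
            exact le_trans Subgroup.le_normalizer le_sup_left
          have h2 : g ∈ ((Subgroup.normalizer ((P : Subgroup G) : Set G) ⊔ M : Subgroup G) : Set G) := by
            rw [h1]; trivial
          rw [Subgroup.mul_normal] at h2
          obtain ⟨h, hh, m', hm', hg⟩ := h2
          exact ⟨h, hh, m', hm', hg.symm⟩
      · -- odd
        have hodd : Odd (Nat.card M) := by
          rw [hr]
          exact Odd.pow (hq.odd_of_ne_two hq2)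
        have hcent := two_elem_centralizes M hodd hker
        have hG : pGen 2 G ≤ Subgroup.centralizer (M : Set G) := by
          unfold pGen
          rw [Subgroup.closure_le]
          rintro t ⟨k, hk⟩
          rw [SetLike.mem_coe, Subgroup.mem_centralizer_iff]
          intro x hx
          exact (hcent k t hk x hx).symm
        rw [h2] at hG
        have h1 : M ≤ Subgroup.centralizer (F : Set G) := by
          intro x hx
          rw [Subgroup.mem_centralizer_iff]
          intro f _
          have hf : f ∈ Subgroup.centralizer (M : Set G) := hG trivial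
          exact ((Subgroup.mem_centralizer_iff.1 hf) x hx).symm
        have h3 : ⁅M, F⁆ = ⊥ := Subgroup.commutator_eq_bot_iff_le_centralizer.2 h1
        rw [h3] at hC
        exact hM1 hC.symm

end grp

section chars

variable {G : Type*} [Group G]

/-- over a real character of a normal subgroup of odd index lies a real character -/
theorem real_over [Fintype G] (K : Subgroup G) (hK : K.Normal) [Fintype K] (hodd : Odd K.index)
    (ψ : IrrCharacter K) (hψ : ∀ k, ((ψ : K → ℂ) k).im = 0) :
    ∃ χ : IrrCharacter G, (∀ g, ((χ : G → ℂ) g).im = 0) ∧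
      classInner (res K (χ : G → ℂ)) (ψ : K → ℂ) ≠ 0 := by
  classical
  have := hK
  have hchar : IsCharacter G (indFun K (ψ : K → ℂ)) :=
    isCharacter_indFun K (isCharacter_of_isIrrCharacter ψ.2)
  obtain ⟨m, hm, -⟩ := exists_multiplicities hchar
  set T := stab K (ψ : K → ℂ) with hTdef
  have hT : ∀ g : G, g ∈ T ↔ Helper75_Clifford.conjFun K hK (ψ : K → ℂ) g = (ψ : K → ℂ) := fun g => mem_stab K _ g
  have h1 := classInner_indFun_self K hK ψ.2 T hT
  have h2 := classInner_self_eq_sum (isClassFunction_of_isCharacter hchar)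
  have hKT : K ≤ T := le_stab K (isClassFunction_of_isIrrCharacter ψ.2)
  have hcard : Nat.card T = Nat.card K * K.relIndex T := by
    have := Subgroup.relIndex_mul_relIndex ⊥ K T bot_le hKT
    rw [Subgroup.relIndex_bot_left, Subgroup.relIndex_bot_left] at this
    exact this.symm
  have hKne : (Nat.card K : ℂ) ≠ 0 := by exact_mod_cast Nat.card_pos.ne'
  have hsum : ∑ χ : IrrCharacter G, (m χ) ^ 2 = K.relIndex T := by
    have h3 : ((∑ χ : IrrCharacter G, (m χ) ^ 2 : ℕ) : ℂ) = (K.relIndex T : ℂ) := by
      push_cast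
      have h4 : (K.relIndex T : ℂ) = (Nat.card K : ℂ)⁻¹ * (Nat.card T : ℂ) := by
        rw [hcard]; push_cast; field_simp
      rw [h4, ← h1, h2]
      refine Finset.sum_congr rfl (fun χ _ => ?_)
      rw [hm χ, Complex.conj_natCast, pow_two]
    exact_mod_cast h3
  have hoddsum : Odd (∑ χ : IrrCharacter G, (m χ) ^ 2) := by
    rw [hsum]
    exact Odd.of_dvd_nat hodd (Subgroup.relIndex_dvd_index_of_normal K T)
  -- invariance of multiplicities
  have hψconj : Helper75_Clifford.conjFun K hK (ψ : K → ℂ) 1 = fun n => conj ((ψ : K → ℂ) n) := by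
    rw [Helper75_Clifford.conjFun_one]
    funext n
    exact (Complex.conj_eq_iff_im.2 (hψ n)).symm
  have hmres : ∀ χ : IrrCharacter G, classInner (res K (χ : G → ℂ)) (ψ : K → ℂ) = m χ := by
    intro χ
    have h5 := frobenius_reciprocity K (ψ : K → ℂ) (χ : G → ℂ)
      (isClassFunction_of_isIrrCharacter χ.2)
    rw [hm χ] at h5
    have h6 : classInner (ψ : K → ℂ) (res K (χ : G → ℂ)) = m χ := h5.symm
    rw [← classInner_conj_symm, h6, Complex.conj_natCast]
  have hinv : ∀ χ : IrrCharacter G, m (Cfsg.Agent.S4872.conjI χ) = m χ := by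
    intro χ
    have h7 := Cfsg.Agent.S4872.mult_conj K hK ψ 1 hψconj χ
    rw [hmres, hmres, Complex.conj_natCast] at h7
    exact_mod_cast h7
  obtain ⟨χ, hχfix, hχodd⟩ := Cfsg.Agent.S4872.exists_fixed_odd
    (Cfsg.Agent.S4872.conjI (G := G)) Cfsg.Agent.S4872.conjI_conjI (fun χ => (m χ) ^ 2)
    (fun χ => by simp only [hinv]) hoddsum
  refine ⟨χ, ?_, ?_⟩
  · intro g
    have := (Cfsg.Agent.S4872.conjI_eq_self_iff χ).1 hχfix g
    exact Complex.conj_eq_iff_im.1 this
  · rw [hmres]
    intro h0
    have h8 : m χ = 0 := by exact_mod_cast h0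
    rw [h8] at hχodd
    simp at hχodd

end chars


section induction

universe u

theorem real_degrees_quotient {G : Type*} [Group G] {p : ℕ} (N : Subgroup G) [N.Normal]
    (hdeg : ∀ χ : IrrCharacter G, (∀ g, ((χ : G → ℂ) g).im = 0) →
      ¬ p ∣ charDegree (χ : G → ℂ))
    (χ : IrrCharacter (G ⧸ N)) (hχ : ∀ g, ((χ : G ⧸ N → ℂ) g).im = 0) :
    ¬ p ∣ charDegree (χ : G ⧸ N → ℂ) := by
  have h := hdeg ⟨fun x => (χ : G ⧸ N → ℂ) (QuotientGroup.mk' N x),
    Cfsg.Agent.Lib.Helper57_FrobNorm.isIrrCharacter_comp_surjective (QuotientGroup.mk' N)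
      (QuotientGroup.mk'_surjective N) χ.2⟩ (fun g => hχ _)
  unfold Cfsg.charDegree at h ⊢
  simpa using h

/-- **Isaacs--Navarro, Theorem A for groups generated by their `2`-elements.** -/
theorem thmA' (p : ℕ) [Fact p.Prime] :
    ∀ (n : ℕ) (G : Type u) [Group G] [Finite G], Nat.card G = n → pGen 2 G = ⊤ →
      Group.IsSolvable (pGen p G) →
      (∀ χ : IrrCharacter G, (∀ g, ((χ : G → ℂ) g).im = 0) → ¬ p ∣ charDegree (χ : G → ℂ)) →
      ∀ P : Sylow p G, (P : Subgroup G).Normal := by
  intro n
  induction n using Nat.strong_induction_on with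
  | _ n ih =>
    intro G _ _ hcard h2 hsolv hreal P
    by_cases hbot : pGen p G = ⊥
    · have h1 : (P : Subgroup G) = ⊥ := by
        rw [eq_bot_iff, ← hbot]
        exact le_pGen_of_isPGroup _ P.isPGroup'
      rw [h1]
      infer_instance
    · have hNn := pGen_normal (G := G) p
      obtain ⟨M, ⟨hMn, hM1, hMmin⟩, hMN⟩ :=
        Cfsg.Agent.Lib.Lead_Subnormal.exists_isMinNormal_le (pGen p G) hNn hbot
      have := hMn
      have hMsolv : Group.IsSolvable M :=
        Group.isSolvable_of_isSolvable_injective (Subgroup.inclusion_injective hMN)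
      obtain ⟨hab, q, hq, hexp⟩ :=
        Cfsg.Agent.Lib.Helper1_MinNormal.elementary_abelian_of_minimal M hMsolv hM1 hMmin
      have hlt : Nat.card (G ⧸ M) < n := by
        have h1 := Subgroup.card_eq_card_quotient_mul_card_subgroup M
        have h2 : 1 < Nat.card M := (Subgroup.one_lt_card_iff_ne_bot M).2 hM1
        have h3 : 0 < Nat.card (G ⧸ M) := Nat.card_pos
        rw [← hcard, h1]
        nlinarith
      obtain ⟨Qb⟩ := (inferInstance : Nonempty (Sylow p (G ⧸ M)))
      have hQbn : (Qb : Subgroup (G ⧸ M)).Normal :=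
        ih _ hlt (G ⧸ M) rfl (pGen_quot_top 2 M h2) (pGen_quot_solvable p M hsolv)
          (real_degrees_quotient M hreal) Qb
      have hab' : ∀ a ∈ M, ∀ b ∈ M, a * b = b * a := by
        intro a ha b hb
        have := hab.is_comm.comm ⟨a, ha⟩ ⟨b, hb⟩
        exact congrArg Subtype.val this
      exact step h2 hreal M hMn hM1 hMmin hab' q hq hexp (Qb : Subgroup (G ⧸ M)) Qb.isPGroup'
        Qb.not_dvd_index P

/-- **Isaacs--Navarro, Theorem A.** -/
theorem thmA {G : Type u} [Group G] [Finite G] (p : ℕ) [Fact p.Prime]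
    (hsolv : Group.IsSolvable (pGen p G))
    (hreal : ∀ χ : IrrCharacter G, (∀ g, ((χ : G → ℂ) g).im = 0) →
      ¬ p ∣ charDegree (χ : G → ℂ))
    (K : Subgroup G) (hK : K = pGen 2 G)
    (Q : Sylow p K) : (Q : Subgroup K).Normal := by
  classical
  have : Fintype G := Fintype.ofFinite G
  have : Fintype K := Fintype.ofFinite K
  have hKn : K.Normal := hK ▸ pGen_normal 2
  have hodd : Odd K.index := by
    rw [← Nat.not_even_iff_odd, even_iff_two_dvd, hK]
    exact not_dvd_index_pGen
  refine thmA' p (Nat.card K) K rfl ?_ ?_ ?_ Q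
  · -- generated by `2`-elements
    apply Subgroup.map_injective K.subtype_injective
    rw [← MonoidHom.range_eq_map, Subgroup.range_subtype]
    unfold pGen
    rw [MonoidHom.map_closure]
    conv_rhs => rw [hK]
    unfold pGen
    congr 1
    ext g
    constructor
    · rintro ⟨x, ⟨k, hk⟩, rfl⟩
      refine ⟨k, ?_⟩
      rw [← hk]
      exact Subgroup.orderOf_coe x
    · rintro ⟨k, hk⟩
      have hgK : g ∈ K := by
        rw [hK]
        exact Subgroup.subset_closure ⟨k, hk⟩
      refine ⟨⟨g, hgK⟩, ⟨k, ?_⟩, rfl⟩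
      rw [← hk]
      exact (Subgroup.orderOf_coe (⟨g, hgK⟩ : K)).symm
  · -- solvable
    have hle : ∀ x : pGen p K, ((x : K) : G) ∈ pGen p G := by
      intro x
      have := map_pGen_le p K.subtype
      exact this ⟨x, x.2, rfl⟩
    let f : pGen p K →* pGen p G :=
      (K.subtype.comp (pGen p K).subtype).codRestrict (pGen p G) hle
    have hf : Function.Injective f := by
      intro x y hxy
      have := congrArg Subtype.val hxy
      exact Subtype.ext (Subtype.ext this)
    exact Group.isSolvable_of_isSolvable_injective hf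
  · -- real characters
    intro ψ hψ
    obtain ⟨χ, hχreal, hχψ⟩ := real_over K hKn hodd ψ hψ
    have h1 := hreal χ hχreal
    have hχ1 := Cfsg.Agent.Lib.Helper77_BlockBasics.apply_one_eq_charDegree χ
    have hψ1 := Cfsg.Agent.Lib.Helper77_BlockBasics.apply_one_eq_charDegree ψ
    obtain ⟨e, he, -⟩ := Cfsg.Agent.Lib.Helper80_RelDegree.rel_degree_dvd K (χ : G → ℂ) χ.2
      (ψ : K → ℂ) ψ.2 hχψ _ _ hχ1 hψ1
    intro h
    apply h1
    rw [he]
    exact Dvd.dvd.mul_left h e

end induction

end Cfsg.Agent.Lib.Helper77_RealDegB
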