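import Mathlib
import Cfsg.Agent.Lib.Helper77_RealDegB
import Cfsg.Agent.S4866

/-!
# Isaacs--Navarro, second part (helper77)

Real irreducible characters of degree prime to `p`, `O^{p'}(G)` solvable, `K = O^{2'}(G)`,
`U/K` a normal `p`-subgroup of `G/K`: then `U` has a normal Sylow `p`-subgroup.
-/

set_option autoImplicit false
set_option linter.unusedSectionVars false

namespace Cfsg.Agent.Lib.Helper77_RealDegC

open Cfsg Cfsg.Agent.Lib.Helper77_RealDegB Cfsg.Agent.S4866
open Cfsg.Agent.Lib.Helper82_ItoMichler

section L2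

variable {G : Type*} [Group G] (K : Subgroup G) [K.Normal]

/-- the two solution sets have the same size when both are nonempty -/
theorem card_conj_sol_eq (a b k : K) (c₀ d₀ : K) (hc : c₀ * a * c₀⁻¹ = k) (hd : d₀ * b * d₀⁻¹ = k)
    [Finite K] :
    Nat.card {c : K // c * a * c⁻¹ = k} = Nat.card {c : K // c * b * c⁻¹ = k} := by
  refine Nat.card_congr ⟨fun c => ⟨c.1 * c₀⁻¹ * d₀, ?_⟩, fun c => ⟨c.1 * d₀⁻¹ * c₀, ?_⟩, ?_, ?_⟩
  · have h1 := c.2
    calc c.1 * c₀⁻¹ * d₀ * b * (c.1 * c₀⁻¹ * d₀)⁻¹
        = c.1 * c₀⁻¹ * (d₀ * b * d₀⁻¹) * c₀ * c.1⁻¹ := by group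
      _ = c.1 * c₀⁻¹ * (c₀ * a * c₀⁻¹) * c₀ * c.1⁻¹ := by rw [hd, hc]
      _ = c.1 * a * c.1⁻¹ := by group
      _ = k := h1
  · have h1 := c.2
    calc c.1 * d₀⁻¹ * c₀ * a * (c.1 * d₀⁻¹ * c₀)⁻¹
        = c.1 * d₀⁻¹ * (c₀ * a * c₀⁻¹) * d₀ * c.1⁻¹ := by group
      _ = c.1 * d₀⁻¹ * (d₀ * b * d₀⁻¹) * d₀ * c.1⁻¹ := by rw [hd, hc]
      _ = c.1 * b * c.1⁻¹ := by group
      _ = k := h1
  · intro c
    apply Subtype.ext
    show c.1 * c₀⁻¹ * d₀ * d₀⁻¹ * c₀ = c.1
    group
  · intro c
    apply Subtype.ext
    show c.1 * d₀⁻¹ * c₀ * c₀⁻¹ * d₀ = c.1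
    group

/-- **Brauer's permutation lemma, real version.** If `K` has odd index and `g` fixes every real
irreducible character of `K`, then `g` stabilizes every real class of `K`. -/
theorem fixes_real_classes [Finite G] (hodd : Odd K.index) (g : G)
    (hfix : ∀ θ : IrrCharacter K, (∀ k : K, ((θ : K → ℂ) k).im = 0) → g • θ = θ)
    (k : K) (hk : IsConj k k⁻¹) :
    ∃ c : K, c * ((MulAut.conjNormal g⁻¹ : MulAut K) k⁻¹) * c⁻¹ = k := by
  classical
  have := Fintype.ofFinite G
  have := Fintype.ofFinite K
  have : Finite (IrrCharacter K) := Cfsg.Agent.Lib.Helper81_CharOrth.finite_irrCharacter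
  have := Fintype.ofFinite (IrrCharacter K)
  have hKne : (Nat.card K : ℂ) ≠ 0 := by exact_mod_cast Nat.card_pos.ne'
  set A : G → K → ℕ := fun g k =>
    Nat.card {c : K // c * ((MulAut.conjNormal g⁻¹ : MulAut K) k⁻¹) * c⁻¹ = k} with hA
  have h1 := card_fixed_conj K g
  have h2 := card_fixed_conj K (1 : G)
  have hset : ∀ θ : IrrCharacter K, conjIrr (g • θ) = θ ↔ conjIrr ((1 : G) • θ) = θ := by
    intro θ
    rw [one_smul]
    constructor
    · intro h
      exact ((odd_trick K hodd g θ).2 h).1
    · intro h
      apply (odd_trick K hodd g θ).1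
      exact ⟨h, hfix θ ((real_iff_conjIrr_eq θ).2 h)⟩
  have hcardeq : Nat.card {θ : IrrCharacter K // conjIrr (g • θ) = θ} =
      Nat.card {θ : IrrCharacter K // conjIrr ((1 : G) • θ) = θ} :=
    Nat.card_congr (Equiv.subtypeEquivRight hset)
  have hsum : ∑ k : K, A g k = ∑ k : K, A 1 k := by
    have h3 : (Nat.card K : ℂ)⁻¹ * ((∑ k : K, A g k : ℕ) : ℂ) =
        (Nat.card K : ℂ)⁻¹ * ((∑ k : K, A 1 k : ℕ) : ℂ) := by
      push_cast
      rw [← h1, ← h2, hcardeq]
    have h4 := mul_left_cancel₀ (inv_ne_zero hKne) h3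
    exact_mod_cast h4
  have hone : ∀ k : K, (MulAut.conjNormal (1 : G)⁻¹ : MulAut K) k⁻¹ = k⁻¹ := by
    intro k
    rw [inv_one, map_one]
    rfl
  have hle : ∀ k ∈ (Finset.univ : Finset K), A g k ≤ A 1 k := by
    intro k _
    by_cases hne : Nonempty {c : K // c * ((MulAut.conjNormal g⁻¹ : MulAut K) k⁻¹) * c⁻¹ = k}
    · obtain ⟨⟨c₀, hc₀⟩⟩ := hne
      have hinv : ((c₀ : G) * g⁻¹) * (k : G)⁻¹ * ((c₀ : G) * g⁻¹)⁻¹ = (k : G) := by
        have := congrArg (Subtype.val : K → G) hc₀
        simp only [Subgroup.coe_mul, MulAut.conjNormal_apply, Subgroup.coe_inv, inv_inv] at this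
        calc ((c₀ : G) * g⁻¹) * (k : G)⁻¹ * ((c₀ : G) * g⁻¹)⁻¹
            = (c₀ : G) * (g⁻¹ * (k : G)⁻¹ * g) * (c₀ : G)⁻¹ := by group
          _ = (k : G) := this
      have hreal : IsConj k k⁻¹ := real_of_inverted K hodd _ k hinv
      obtain ⟨d, hd⟩ := isConj_iff.1 hreal
      have hd' : d⁻¹ * ((MulAut.conjNormal (1 : G)⁻¹ : MulAut K) k⁻¹) * d⁻¹⁻¹ = k := by
        rw [hone, ← hd]
        group
      exact le_of_eq (card_conj_sol_eq K _ _ k c₀ d⁻¹ hc₀ hd')
    · rw [not_nonempty_iff] at hne
      have : A g k = 0 := by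
        simp only [hA]
        exact Nat.card_of_isEmpty
      rw [this]
      exact Nat.zero_le _
  have heq := (Finset.sum_eq_sum_iff_of_le hle).1 hsum k (Finset.mem_univ k)
  obtain ⟨d, hd⟩ := isConj_iff.1 hk
  have hpos : 0 < A 1 k := by
    simp only [hA]
    rw [Nat.card_pos_iff]
    refine ⟨⟨⟨d⁻¹, ?_⟩⟩, inferInstance⟩
    rw [hone, ← hd]
    group
  rw [← heq] at hpos
  simp only [hA] at hpos
  obtain ⟨⟨c, hc⟩⟩ := (Nat.card_pos_iff.1 hpos).1
  exact ⟨c, hc⟩

end L2


section L2b

variable {G : Type*} [Group G]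

/-- If `U/K` is a `p`-group and real characters of `G` have `p'`-degree, then `U` fixes every real
irreducible character of `K`. -/
theorem fixes_real_chars [Finite G] (K U : Subgroup G) [hK : K.Normal] [hU : U.Normal]
    (hodd : Odd K.index) (p : ℕ) [Fact p.Prime] (a : ℕ)
    (hidx : K.relIndex U = p ^ a)
    (hreal : ∀ χ : IrrCharacter G, (∀ g, ((χ : G → ℂ) g).im = 0) →
      ¬ p ∣ charDegree (χ : G → ℂ))
    (g : G) (hg : g ∈ U) (θ : IrrCharacter K) (hθ : ∀ k : K, ((θ : K → ℂ) k).im = 0) :
    g • θ = θ := by
  classical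
  have hp : p.Prime := Fact.out
  have := Fintype.ofFinite G
  have := Fintype.ofFinite K
  obtain ⟨χ, hχreal, hχθ⟩ := real_over K hK hodd θ hθ
  have hχ1 := Cfsg.Agent.Lib.Helper77_BlockBasics.apply_one_eq_charDegree χ
  have hθ1 := Cfsg.Agent.Lib.Helper77_BlockBasics.apply_one_eq_charDegree θ
  obtain ⟨e, he⟩ := clifford_degree K χ.2 θ.2 hχθ _ _ hχ1 hθ1
  have hnd : ¬ p ∣ (stab K (θ : K → ℂ)).index := by
    intro h
    apply hreal χ hχreal
    rw [he]
    exact Dvd.dvd.mul_left (Dvd.dvd.mul_right h _) e
  set T := stab K (θ : K → ℂ) with hT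
  have hKT : K ≤ T :=
    le_stab K (Cfsg.Agent.Lib.Helper3_CharBridge.isClassFunction_of_isIrrCharacter θ.2)
  have h1 : T.relIndex U ∣ T.index := relIndex_dvd_index_of_normal_right T U
  have h2 : T.relIndex U ∣ p ^ a := by
    rw [← hidx]
    exact Subgroup.relIndex_dvd_of_le_left U hKT
  obtain ⟨j, -, hj⟩ := (Nat.dvd_prime_pow hp).1 h2
  have hUT : U ≤ T := by
    rw [← Subgroup.relIndex_eq_one]
    rcases j with _ | j
    · rw [hj, pow_zero]
    · exfalso
      apply hnd
      refine dvd_trans ?_ h1
      rw [hj]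
      exact dvd_pow_self p (Nat.succ_ne_zero j)
  have hg' : g⁻¹ ∈ T := hUT (U.inv_mem hg)
  rw [hT, mem_stab, Cfsg.Agent.Lib.Helper75_Clifford.conjFun_eq_comp] at hg'
  apply Subtype.ext
  funext k
  rw [smul_irr_apply]
  exact congrFun hg' k

end L2b


section L3

variable {G : Type*} [Group G]

/-- A `p`-group stabilizing a conjugacy class of a normal `p'`-subgroup `K` centralizes an element
of the class. -/
theorem exists_fixed_conj [Finite G] (K R : Subgroup G) [K.Normal] (p : ℕ) [Fact p.Prime]
    (hK : ¬ p ∣ Nat.card K) (hR : IsPGroup p R) (v : K)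
    (hfix : ∀ x ∈ R, IsConj ((MulAut.conjNormal x : MulAut K) v) v) :
    ∃ w : K, IsConj w v ∧ ∀ x ∈ R, (MulAut.conjNormal x : MulAut K) w = w := by
  classical
  have := Fintype.ofFinite K
  let α := {w : K // IsConj w v}
  let actR : MulAction R α :=
    { smul := fun x w => ⟨(MulAut.conjNormal (x : G) : MulAut K) w.1,
        (MonoidHom.map_isConj ((MulAut.conjNormal (x : G) : MulAut K) : K →* K) w.2).trans
          (hfix x x.2)⟩
      one_smul := by
        intro w
        apply Subtype.ext
        show (MulAut.conjNormal ((1 : R) : G) : MulAut K) w.1 = w.1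
        rw [Subgroup.coe_one, map_one]
        rfl
      mul_smul := by
        intro x y w
        apply Subtype.ext
        show (MulAut.conjNormal ((x * y : R) : G) : MulAut K) w.1 =
          (MulAut.conjNormal (x : G) : MulAut K) ((MulAut.conjNormal (y : G) : MulAut K) w.1)
        rw [Subgroup.coe_mul, map_mul]
        rfl }
  have hcardα : Nat.card α = (Cfsg.Agent.Lib.Helper3_CharColumn.conjFinset v).card := by
    rw [Nat.card_eq_fintype_card]
    exact Fintype.card_of_subtype _ (fun g => Cfsg.Agent.Lib.Helper3_CharColumn.mem_conjFinset)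
  have hdvd : Nat.card α ∣ Nat.card K := by
    rw [hcardα]
    exact Dvd.intro _ (Cfsg.Agent.Lib.Helper3_CharColumn.card_conjFinset_mul_card_centralizer v)
  have hnd : ¬ p ∣ Nat.card α := fun h => hK (h.trans hdvd)
  obtain ⟨w, hw⟩ := IsPGroup.nonempty_fixed_point_of_prime_not_dvd_card hR α hnd
  refine ⟨w.1, w.2, ?_⟩
  intro x hx
  have := hw ⟨x, hx⟩
  exact congrArg Subtype.val this

end L3


section L4

variable {G : Type*} [Group G]

/-- If no nontrivial element of the normal subgroup `V` is inverted by a `2`-element, then every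
`2`-element centralizes `V`. -/
theorem two_elem_centralizes_of_no_inverted (V : Subgroup G) [hV : V.Normal]
    (hno : ∀ v ∈ V, ∀ t : G, (∃ k : ℕ, orderOf t = 2 ^ k) → t * v * t⁻¹ = v⁻¹ → v = 1) :
    ∀ (k : ℕ) (t : G), orderOf t = 2 ^ k → ∀ x ∈ V, t * x = x * t := by
  intro k
  induction k with
  | zero =>
    intro t ht x _
    rw [pow_zero, orderOf_eq_one_iff] at ht
    rw [ht, one_mul, mul_one]
  | succ k ih =>
    intro t ht x hx
    have htt : orderOf (t * t) = 2 ^ k := by
      rw [← pow_two, orderOf_pow' t (by norm_num : (2 : ℕ) ≠ 0), ht, pow_succ]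
      simp
    have hcomm : (t * t) * x = x * (t * t) := ih (t * t) htt x hx
    have hy : x * (t * x * t⁻¹)⁻¹ ∈ V :=
      V.mul_mem hx (V.inv_mem (hV.conj_mem x hx t))
    have hinv : t * (x * (t * x * t⁻¹)⁻¹) * t⁻¹ = (x * (t * x * t⁻¹)⁻¹)⁻¹ := by
      have h1 : (t * t) * x⁻¹ * (t * t)⁻¹ = x⁻¹ := by
        have h2 : (t * t) * x⁻¹ = x⁻¹ * (t * t) := by
          calc (t * t) * x⁻¹ = x⁻¹ * (x * (t * t)) * x⁻¹ := by group
            _ = x⁻¹ * ((t * t) * x) * x⁻¹ := by rw [hcomm]
            _ = x⁻¹ * (t * t) := by group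
        rw [h2]; group
      calc t * (x * (t * x * t⁻¹)⁻¹) * t⁻¹
          = (t * x * t⁻¹) * ((t * t) * x⁻¹ * (t * t)⁻¹) := by group
        _ = (t * x * t⁻¹) * x⁻¹ := by rw [h1]
        _ = (x * (t * x * t⁻¹)⁻¹)⁻¹ := by group
    have h1 := hno _ hy t ⟨k + 1, ht⟩ hinv
    have h2 : x = t * x * t⁻¹ := by
      calc x = x * (t * x * t⁻¹)⁻¹ * (t * x * t⁻¹) := by group
        _ = t * x * t⁻¹ := by rw [h1, one_mul]
    calc t * x = (t * x * t⁻¹) * t := by group
      _ = x * t := by rw [← h2]

end L4

section L5

variable {G : Type*} [Group G] {p : ℕ} [Fact p.Prime]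

/-- a `p`-subgroup `T` of `S` with `R ⊔ T` a `p`-group lies in the Sylow `p`-subgroup `R` of `S` -/
theorem le_of_isPGroup_sup [Finite G] (R S T : Subgroup G) (hRS : R ≤ S) (hTS : T ≤ S)
    (hsup : IsPGroup p (R ⊔ T : Subgroup G)) (hidx : ¬ p ∣ R.relIndex S) : T ≤ R := by
  have hp : p.Prime := Fact.out
  have h1 : R.relIndex (R ⊔ T) ∣ R.relIndex S :=
    Dvd.intro _ (Subgroup.relIndex_mul_relIndex R (R ⊔ T) S le_sup_left (sup_le hRS hTS))
  obtain ⟨n, hn⟩ := hsup.index (R.subgroupOf (R ⊔ T))
  have h2 : R.relIndex (R ⊔ T) = p ^ n := hn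
  have h3 : R.relIndex (R ⊔ T) = 1 := by
    rcases n with _ | n
    · rw [h2, pow_zero]
    · exfalso
      apply hidx
      refine dvd_trans ?_ h1
      rw [h2]
      exact dvd_pow_self p (Nat.succ_ne_zero n)
  have h4 : R ⊔ T ≤ R := Subgroup.relIndex_eq_one.1 h3
  exact le_trans le_sup_right h4

/-- a Sylow `p`-subgroup `R` of a normal subgroup `S`, normalized by `S`, is normal -/
theorem normal_of_normal_sylow [Finite G] (R S : Subgroup G) (hS : S.Normal) (hRS : R ≤ S)
    (hR : IsPGroup p R) (hidx : ¬ p ∣ R.relIndex S)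
    (hnorm : S ≤ Subgroup.normalizer (R : Set G)) : R.Normal := by
  refine ⟨fun h hh g => ?_⟩
  set T : Subgroup G := R.map (MulAut.conj g).toMonoidHom with hT
  have hTS : T ≤ S := by
    rintro _ ⟨y, hy, rfl⟩
    exact hS.conj_mem y (hRS hy) g
  have hTp : IsPGroup p T := hR.map _
  have hsup : IsPGroup p (R ⊔ T : Subgroup G) :=
    IsPGroup.to_sup_of_normal_left' hR hTp (le_trans hTS hnorm)
  have hTR : T ≤ R := le_of_isPGroup_sup R S T hRS hTS hsup hidx
  exact hTR ⟨h, hh, by simp⟩

end L5


section main

variable {G : Type*} [Group G]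

/-- `U` stabilizes the real classes of `K` -/
theorem isConj_conjNormal_of_real [Finite G] (K U : Subgroup G) [hK : K.Normal] [hU : U.Normal]
    (hodd : Odd K.index) (p : ℕ) [Fact p.Prime] (a : ℕ)
    (hidx : K.relIndex U = p ^ a)
    (hreal : ∀ χ : IrrCharacter G, (∀ g, ((χ : G → ℂ) g).im = 0) →
      ¬ p ∣ charDegree (χ : G → ℂ))
    (x : G) (hx : x ∈ U) (v : K) (hv : IsConj v v⁻¹) :
    IsConj ((MulAut.conjNormal x : MulAut K) v) v := by
  obtain ⟨c, hc⟩ := fixes_real_classes K hodd x⁻¹
    (fun θ hθ => fixes_real_chars K U hodd p a hidx hreal x⁻¹ (U.inv_mem hx) θ hθ) v hv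
  rw [inv_inv, map_inv] at hc
  have h1 : c * ((MulAut.conjNormal x : MulAut K) v) * c⁻¹ = v⁻¹ := by
    have := congrArg (fun z => z⁻¹) hc
    simp only [mul_inv_rev, inv_inv] at this
    rw [← this]
    group
  have h2 : IsConj ((MulAut.conjNormal x : MulAut K) v) v⁻¹ := isConj_iff.2 ⟨c, h1⟩
  exact h2.trans hv.symm

/-- an element of `K ⊓ (R ⊔ V)` lies in `V` when `K` is a `p'`-group, `R` a `p`-group -/
theorem inf_sup_le [Finite G] (K R V : Subgroup G) [hV : V.Normal] (p : ℕ) [Fact p.Prime]
    (hKp : ¬ p ∣ Nat.card K) (hRp : IsPGroup p R) : K ⊓ (R ⊔ V) ≤ V := by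
  have hp : p.Prime := Fact.out
  intro y hy
  have h1 : (QuotientGroup.mk' V y) ∈ (R ⊔ V).map (QuotientGroup.mk' V) := ⟨y, hy.2, rfl⟩
  rw [Subgroup.map_sup, QuotientGroup.map_mk'_self, sup_bot_eq] at h1
  obtain ⟨j, hj⟩ := (hRp.map (QuotientGroup.mk' V)) ⟨_, h1⟩
  have hj' : (QuotientGroup.mk' V y) ^ p ^ j = 1 := by
    have := congrArg Subtype.val hj
    simpa using this
  have h2 : y ^ p ^ j ∈ V := by
    rw [← QuotientGroup.eq_one_iff]
    rw [← hj']
    rfl
  have h3 : orderOf y ∣ Nat.card K := by
    have := orderOf_dvd_natCard (⟨y, hy.1⟩ : K)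
    rwa [Subgroup.orderOf_mk] at this
  have hcop : Nat.Coprime (p ^ j) (orderOf y) := by
    apply Nat.Coprime.pow_left
    rw [Nat.Prime.coprime_iff_not_dvd hp]
    exact fun h => hKp (h.trans h3)
  obtain ⟨m, hm⟩ := exists_pow_eq_self_of_coprime hcop
  rw [← hm]
  exact V.pow_mem h2 m

end main

section induction

universe u

set_option maxHeartbeats 1600000 in
/-- **Isaacs--Navarro, second part.** -/
theorem thmB' (p : ℕ) [Fact p.Prime] :
    ∀ (n : ℕ) (G : Type u) [Group G] [Finite G], Nat.card G = n →
      Group.IsSolvable (pGen p G) →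
      (∀ χ : IrrCharacter G, (∀ g, ((χ : G → ℂ) g).im = 0) → ¬ p ∣ charDegree (χ : G → ℂ)) →
      ∀ (U R : Subgroup G), U.Normal → pGen 2 G ≤ U → R ≤ U → IsPGroup p R →
        (∃ a : ℕ, (pGen 2 G).relIndex U = p ^ a) → ¬ p ∣ R.relIndex U → R.Normal := by
  have hp : p.Prime := Fact.out
  intro n
  induction n using Nat.strong_induction_on with
  | _ n ih =>
    intro G _ _ hcard hsolv hreal U R hU hKU hRU hRp hUa hidx
    obtain ⟨a, ha⟩ := hUa
    have hKn : (pGen 2 G).Normal := pGen_normal 2
    have hNn : (pGen p G).Normal := pGen_normal p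
    -- the quotient step
    have hquot : ∀ M : Subgroup G, M.Normal → M ≤ U → M ≠ ⊥ → (R ⊔ M).Normal := by
      intro M hMn hMU hM1
      have := hMn
      have hsurj := QuotientGroup.mk'_surjective M
      have hlt : Nat.card (G ⧸ M) < n := by
        have h1 := Subgroup.card_eq_card_quotient_mul_card_subgroup M
        have h2 : 1 < Nat.card M := (Subgroup.one_lt_card_iff_ne_bot M).2 hM1
        have h3 : 0 < Nat.card (G ⧸ M) := Nat.card_pos
        rw [← hcard, h1]
        nlinarith
      have hK' : pGen 2 (G ⧸ M) = (pGen 2 G).map (QuotientGroup.mk' M) :=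
        le_antisymm (pGen_le_map 2 _ hsurj) (map_pGen_le 2 _)
      have hUM : U ⊔ M = U := sup_eq_left.2 hMU
      have hrel1 : ((pGen 2 G).map (QuotientGroup.mk' M)).relIndex (U.map (QuotientGroup.mk' M)) ∣
          p ^ a := by
        rw [Subgroup.relIndex_map_map, QuotientGroup.ker_mk', hUM, ← ha]
        exact Subgroup.relIndex_dvd_of_le_left U le_sup_left
      obtain ⟨b, -, hb⟩ := (Nat.dvd_prime_pow hp).1 hrel1
      have hrel2 : ¬ p ∣ (R.map (QuotientGroup.mk' M)).relIndex (U.map (QuotientGroup.mk' M)) := by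
        rw [Subgroup.relIndex_map_map, QuotientGroup.ker_mk', hUM]
        intro h
        exact hidx (h.trans (Subgroup.relIndex_dvd_of_le_left U le_sup_left))
      have hRn : (R.map (QuotientGroup.mk' M)).Normal :=
        ih _ hlt (G ⧸ M) rfl (pGen_quot_solvable p M hsolv) (real_degrees_quotient M hreal)
          (U.map (QuotientGroup.mk' M)) (R.map (QuotientGroup.mk' M))
          (Subgroup.Normal.map hU _ hsurj) (hK' ▸ Subgroup.map_mono hKU) (Subgroup.map_mono hRU)
          (hRp.map _) ⟨b, hK' ▸ hb⟩ hrel2
      have h5 : R ⊔ M = (R.map (QuotientGroup.mk' M)).comap (QuotientGroup.mk' M) := by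
        rw [Subgroup.comap_map_eq, QuotientGroup.ker_mk']
      rw [h5]
      exact hRn.comap _
    have hodd : Odd (pGen 2 G).index := by
      rw [← Nat.not_even_iff_odd, even_iff_two_dvd]
      exact not_dvd_index_pGen
    -- `U = K R`
    have hUle : U ≤ pGen 2 G ⊔ R := by
      rw [← Subgroup.relIndex_eq_one]
      have h1 : (pGen 2 G ⊔ R).relIndex U ∣ p ^ a := by
        rw [← ha]
        exact Subgroup.relIndex_dvd_of_le_left U le_sup_left
      have h2 : (pGen 2 G ⊔ R).relIndex U ∣ R.relIndex U :=
        Subgroup.relIndex_dvd_of_le_left U le_sup_right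
      obtain ⟨j, -, hj⟩ := (Nat.dvd_prime_pow hp).1 h1
      rcases j with _ | j
      · rw [hj, pow_zero]
      · exfalso
        apply hidx
        refine dvd_trans ?_ h2
        rw [hj]
        exact dvd_pow_self p (Nat.succ_ne_zero j)
    -- the normal Sylow `p`-subgroup of `K`
    obtain ⟨Q'⟩ := (inferInstance : Nonempty (Sylow p (pGen 2 G)))
    have hQ'n : (Q' : Subgroup (pGen 2 G)).Normal := thmA p hsolv hreal _ rfl Q'
    have hQ'c : (Q' : Subgroup (pGen 2 G)).Characteristic := Sylow.characteristic_of_normal Q' hQ'n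
    set Q : Subgroup G := (Q' : Subgroup (pGen 2 G)).map (pGen 2 G).subtype with hQ
    have hQn : Q.Normal := ConjAct.normal_of_characteristic_of_normal
    have hQp : IsPGroup p Q := Q'.isPGroup'.map _
    have hQK : Q ≤ pGen 2 G := Subgroup.map_subtype_le _
    have hQidx : ¬ p ∣ Q.relIndex (pGen 2 G) := by
      have h1 : Q.subgroupOf (pGen 2 G) = (Q' : Subgroup (pGen 2 G)) := by
        rw [hQ]
        exact Subgroup.comap_map_eq_self_of_injective (Subgroup.subtype_injective _) _
      unfold Subgroup.relIndex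
      rw [h1]
      exact Q'.not_dvd_index
    by_cases hQ1 : Q = ⊥
    · -- `K` is a `p'`-group
      have hKp : ¬ p ∣ Nat.card (pGen 2 G) := by
        rw [hQ1, Subgroup.relIndex_bot_left] at hQidx
        exact hQidx
      have hRpG : R ≤ pGen p G := le_pGen_of_isPGroup R hRp
      by_cases hN1 : pGen 2 G ⊓ pGen p G = ⊥
      · -- `R` centralizes `K`
        have hcent : ∀ k ∈ pGen 2 G, ∀ x ∈ R, k * x = x * k := by
          intro k hk x hx
          have h1 : k * x * k⁻¹ * x⁻¹ ∈ pGen 2 G ⊓ pGen p G := by
            constructor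
            · have h2 : x * k⁻¹ * x⁻¹ ∈ pGen 2 G := hKn.conj_mem _ ((pGen 2 G).inv_mem hk) x
              have h3 : k * x * k⁻¹ * x⁻¹ = k * (x * k⁻¹ * x⁻¹) := by group
              rw [h3]
              exact mul_mem hk h2
            · have h2 : k * x * k⁻¹ ∈ pGen p G := hNn.conj_mem _ (hRpG hx) k
              exact (pGen p G).mul_mem h2 ((pGen p G).inv_mem (hRpG hx))
          rw [hN1, Subgroup.mem_bot] at h1
          calc k * x = (k * x * k⁻¹ * x⁻¹) * (x * k) := by group
            _ = x * k := by rw [h1, one_mul]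
        apply normal_of_normal_sylow R U hU hRU hRp hidx
        refine hUle.trans (sup_le ?_ Subgroup.le_normalizer)
        intro k hk
        rw [Subgroup.mem_normalizer_iff]
        intro h
        constructor
        · intro hh
          have : k * h * k⁻¹ = h := by
            rw [hcent k hk h hh]; group
          rw [this]; exact hh
        · intro hh
          have h3 := hcent k hk _ hh
          have : h = k * h * k⁻¹ := by
            have h4 : k * (k * h * k⁻¹) = k * h * k⁻¹ * k := h3
            have h5 : k * (k * h * k⁻¹) = k * h := by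
              rw [h4]; group
            exact (mul_left_cancel h5).symm
          rw [this]; exact hh
      · -- a minimal normal subgroup
        have hNnorm : (pGen 2 G ⊓ pGen p G).Normal := inferInstance
        obtain ⟨V, ⟨hVn, hV1, hVmin⟩, hVN⟩ :=
          Cfsg.Agent.Lib.Lead_Subnormal.exists_isMinNormal_le _ hNnorm hN1
        have := hVn
        have hVK : V ≤ pGen 2 G := hVN.trans inf_le_left
        have hVU : V ≤ U := hVK.trans hKU
        have hVsolv : Group.IsSolvable V :=
          Group.isSolvable_of_isSolvable_injective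
            (Subgroup.inclusion_injective (hVN.trans inf_le_right))
        obtain ⟨hab, q, hq, hexp⟩ :=
          Cfsg.Agent.Lib.Helper1_MinNormal.elementary_abelian_of_minimal V hVsolv hV1 hVmin
        have hab' : ∀ a ∈ V, ∀ b ∈ V, a * b = b * a := by
          intro a ha b hb
          have := hab.is_comm.comm ⟨a, ha⟩ ⟨b, hb⟩
          exact congrArg Subtype.val this
        have hS₁n : (R ⊔ V).Normal := hquot V hVn hVU hV1
        have hRS₁idx : ¬ p ∣ R.relIndex (R ⊔ V) := by
          intro h
          apply hidx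
          exact h.trans (Dvd.intro _ (Subgroup.relIndex_mul_relIndex R (R ⊔ V) U le_sup_left
            (sup_le hRU hVU)))
        have hCn : (⁅V, R ⊔ V⁆ : Subgroup G).Normal := inferInstance
        have hCle : ⁅V, R ⊔ V⁆ ≤ V := Subgroup.commutator_le_left V _
        rcases hVmin _ hCn hCle with hC | hC
        · -- `R` centralizes `V`
          have h1 : V ≤ Subgroup.centralizer ((R ⊔ V : Subgroup G) : Set G) :=
            Subgroup.commutator_eq_bot_iff_le_centralizer.1 hC
          have hcent : ∀ k ∈ V, ∀ x ∈ R, k * x = x * k := by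
            intro k hk x hx
            have := (Subgroup.mem_centralizer_iff.1 (h1 hk)) x
              (show x ∈ ((R ⊔ V : Subgroup G) : Set G) from (le_sup_left : R ≤ R ⊔ V) hx)
            exact this.symm
          apply normal_of_normal_sylow R (R ⊔ V) hS₁n le_sup_left hRp hRS₁idx
          refine sup_le Subgroup.le_normalizer ?_
          intro k hk
          rw [Subgroup.mem_normalizer_iff]
          intro h
          constructor
          · intro hh
            have : k * h * k⁻¹ = h := by
              rw [hcent k hk h hh]; group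
            rw [this]; exact hh
          · intro hh
            have h3 := hcent k hk _ hh
            have : h = k * h * k⁻¹ := by
              have h4 : k * (k * h * k⁻¹) = k * h * k⁻¹ * k := h3
              have h5 : k * (k * h * k⁻¹) = k * h := by
                rw [h4]; group
              exact (mul_left_cancel h5).symm
            rw [this]; exact hh
        · exfalso
          -- no element of `V` is centralized by `R ⊔ V`
          have hZn : (V ⊓ Subgroup.centralizer ((R ⊔ V : Subgroup G) : Set G)).Normal :=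
            inferInstance
          have hZ : V ⊓ Subgroup.centralizer ((R ⊔ V : Subgroup G) : Set G) = ⊥ := by
            rcases hVmin _ hZn inf_le_left with h | h
            · exact h
            · exfalso
              have h1 : V ≤ Subgroup.centralizer ((R ⊔ V : Subgroup G) : Set G) := by
                intro x hx
                have hx' : x ∈ V ⊓ Subgroup.centralizer ((R ⊔ V : Subgroup G) : Set G) := by
                  rw [h]; exact hx
                exact hx'.2
              have h2 : ⁅V, R ⊔ V⁆ = ⊥ := Subgroup.commutator_eq_bot_iff_le_centralizer.2 h1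
              rw [h2] at hC
              exact hV1 hC.symm
          -- no nontrivial real element
          have hnoreal : ∀ v : pGen 2 G, (v : G) ∈ V → IsConj v v⁻¹ → (v : G) = 1 := by
            intro v hvV hv
            obtain ⟨w, hwv, hwfix⟩ := exists_fixed_conj (pGen 2 G) R p hKp hRp v
              (fun x hx => isConj_conjNormal_of_real (pGen 2 G) U hodd p a ha hreal x (hRU hx) v hv)
            obtain ⟨c, hc⟩ := isConj_iff.1 hwv
            -- `w ∈ V`
            have hwV : (w : G) ∈ V := by
              have h1 : (v : G) = (c : G) * (w : G) * (c : G)⁻¹ := by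
                have := congrArg (Subtype.val : pGen 2 G → G) hc
                simpa using this.symm
              have h2 : (w : G) = (c : G)⁻¹ * (v : G) * ((c : G)⁻¹)⁻¹ := by
                rw [h1]; group
              rw [h2]
              exact hVn.conj_mem _ hvV _
            have hwZ : (w : G) ∈ V ⊓ Subgroup.centralizer ((R ⊔ V : Subgroup G) : Set G) := by
              refine ⟨hwV, ?_⟩
              have hcl : R ⊔ V ≤ Subgroup.centralizer ({(w : G)} : Set G) := by
                apply sup_le
                · intro x hx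
                  rw [Subgroup.mem_centralizer_singleton_iff]
                  have := congrArg (Subtype.val : pGen 2 G → G) (hwfix x hx)
                  rw [MulAut.conjNormal_apply] at this
                  calc x * (w : G) = (x * (w : G) * x⁻¹) * x := by group
                    _ = (w : G) * x := by rw [this]
                · intro y hy
                  rw [Subgroup.mem_centralizer_singleton_iff]
                  exact hab' y hy _ hwV
              show (w : G) ∈ Subgroup.centralizer ((R ⊔ V : Subgroup G) : Set G)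
              rw [Subgroup.mem_centralizer_iff]
              intro f hf
              have := hcl hf
              rw [Subgroup.mem_centralizer_singleton_iff] at this
              exact this
            rw [hZ, Subgroup.mem_bot] at hwZ
            have hw1 : w = 1 := Subtype.ext hwZ
            rw [hw1] at hc
            have hv1 : v = 1 := by
              rw [← hc]; group
            rw [hv1]; rfl
          by_cases hq2 : q = 2
          · -- involutions are real
            subst hq2
            obtain ⟨v, hvV, hv1⟩ : ∃ v ∈ V, v ≠ 1 := by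
              by_contra hcon
              push Not at hcon
              apply hV1
              rw [eq_bot_iff]
              intro v hv
              rw [Subgroup.mem_bot]
              exact hcon v hv
            have hvinv : (⟨v, hVK hvV⟩ : pGen 2 G)⁻¹ = ⟨v, hVK hvV⟩ := by
              apply Subtype.ext
              show v⁻¹ = v
              have := hexp v hvV
              rw [pow_two] at this
              exact inv_eq_of_mul_eq_one_left this
            apply hv1
            exact hnoreal ⟨v, hVK hvV⟩ hvV (by rw [hvinv])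
          · -- `q` odd
            have hno : ∀ v ∈ V, ∀ t : G, (∃ k : ℕ, orderOf t = 2 ^ k) →
                t * v * t⁻¹ = v⁻¹ → v = 1 := by
              intro v hvV t ht htv
              have htK : t ∈ pGen 2 G := Subgroup.subset_closure ht
              apply hnoreal ⟨v, hVK hvV⟩ hvV
              rw [isConj_iff]
              refine ⟨⟨t, htK⟩, ?_⟩
              apply Subtype.ext
              exact htv
            have hcentV := two_elem_centralizes_of_no_inverted V hno
            -- commutators of `K` and `R` lie in `V`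
            have hKRV : ∀ k ∈ pGen 2 G, ∀ x ∈ R, k * x * k⁻¹ * x⁻¹ ∈ V := by
              intro k hk x hx
              apply inf_sup_le (pGen 2 G) R V p hKp hRp
              constructor
              · have h2 : x * k⁻¹ * x⁻¹ ∈ pGen 2 G := hKn.conj_mem _ ((pGen 2 G).inv_mem hk) x
                have h3 : k * x * k⁻¹ * x⁻¹ = k * (x * k⁻¹ * x⁻¹) := by group
                rw [h3]
                exact mul_mem hk h2
              · have hxS : x ∈ R ⊔ V := (le_sup_left : R ≤ R ⊔ V) hx
                exact (R ⊔ V).mul_mem (hS₁n.conj_mem x hxS k) ((R ⊔ V).inv_mem hxS)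
            -- every `2`-element commutes with `R`
            have hcomm : ∀ (k : ℕ) (t : G), orderOf t = 2 ^ k → ∀ x ∈ R, x * t = t * x := by
              intro k t ht x hx
              have htK : t ∈ pGen 2 G := Subgroup.subset_closure ⟨k, ht⟩
              set w := t⁻¹ * x * t⁻¹⁻¹ * x⁻¹ with hw
              have hwV : w ∈ V := hKRV t⁻¹ (inv_mem htK) x hx
              have hxt : x * t * x⁻¹ = t * w := by rw [hw]; group
              have htw : Commute t w := hcentV k t ht w hwV
              have h1 : (t * w) ^ 2 ^ k = w ^ 2 ^ k := by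
                rw [htw.mul_pow, ← ht, pow_orderOf_eq_one, one_mul]
              have h2 : (x * t * x⁻¹) ^ 2 ^ k = 1 := by
                rw [conj_pow, ← ht, pow_orderOf_eq_one]; group
              rw [hxt, h1] at h2
              have h3 : orderOf w ∣ 2 ^ k := orderOf_dvd_of_pow_eq_one h2
              have h4 : orderOf w ∣ q := orderOf_dvd_of_pow_eq_one (hexp w hwV)
              have h5 : Nat.Coprime (2 ^ k) q := by
                apply Nat.Coprime.pow_left
                exact (Nat.coprime_primes Nat.prime_two hq).2 (Ne.symm hq2)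
              have h6 : orderOf w = 1 := Nat.eq_one_of_dvd_coprimes h5 h3 h4
              have h7 : w = 1 := orderOf_eq_one_iff.1 h6
              rw [h7, mul_one] at hxt
              calc x * t = (x * t * x⁻¹) * x := by group
                _ = t * x := by rw [hxt]
            have hKcentR : pGen 2 G ≤ Subgroup.centralizer (R : Set G) := by
              unfold pGen
              rw [Subgroup.closure_le]
              rintro t ⟨k, hk⟩
              rw [SetLike.mem_coe, Subgroup.mem_centralizer_iff]
              intro x hx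
              exact hcomm k t hk x hx
            have h1 : V ≤ Subgroup.centralizer ((R ⊔ V : Subgroup G) : Set G) := by
              intro v hv
              have hcl : R ⊔ V ≤ Subgroup.centralizer ({v} : Set G) := by
                apply sup_le
                · intro x hx
                  rw [Subgroup.mem_centralizer_singleton_iff]
                  exact (Subgroup.mem_centralizer_iff.1 (hKcentR (hVK hv))) x hx
                · intro y hy
                  rw [Subgroup.mem_centralizer_singleton_iff]
                  exact hab' y hy v hv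
              rw [Subgroup.mem_centralizer_iff]
              intro f hf
              have := hcl hf
              rw [Subgroup.mem_centralizer_singleton_iff] at this
              exact this
            have h2 : ⁅V, R ⊔ V⁆ = ⊥ := Subgroup.commutator_eq_bot_iff_le_centralizer.2 h1
            rw [h2] at hC
            exact hV1 hC.symm
    · -- pass to `G ⧸ Q`
      have h1 : (R ⊔ Q).Normal := hquot Q hQn (hQK.trans hKU) hQ1
      have h2 : Q ≤ R := le_of_isPGroup_sup R U Q hRU (hQK.trans hKU)
        (IsPGroup.to_sup_of_normal_right hRp hQp) hidx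
      rw [sup_eq_left.2 h2] at h1
      exact h1

end induction


section final

universe u

/-- **Isaacs--Navarro**: `U` has a normal Sylow `p`-subgroup. -/
theorem thmB {G : Type u} [Group G] [Finite G] (p : ℕ) [Fact p.Prime]
    (hsolv : Group.IsSolvable (pGen p G))
    (hreal : ∀ χ : IrrCharacter G, (∀ g, ((χ : G → ℂ) g).im = 0) →
      ¬ p ∣ charDegree (χ : G → ℂ))
    (U : Subgroup G) (hU : U.Normal) (hKU : pGen 2 G ≤ U)
    (hUp : ∃ a : ℕ, (pGen 2 G).relIndex U = p ^ a) (Q : Sylow p U) :
    (Q : Subgroup U).Normal := by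
  set R : Subgroup G := (Q : Subgroup U).map U.subtype with hR
  have hRU : R ≤ U := Subgroup.map_subtype_le _
  have hRp : IsPGroup p R := Q.isPGroup'.map _
  have h1 : R.subgroupOf U = (Q : Subgroup U) :=
    Subgroup.comap_map_eq_self_of_injective (Subgroup.subtype_injective _) _
  have hidx : ¬ p ∣ R.relIndex U := by
    unfold Subgroup.relIndex
    rw [h1]
    exact Q.not_dvd_index
  have hRn : R.Normal := thmB' p (Nat.card G) G rfl hsolv hreal U R hU hKU hRU hRp hUp hidx
  rw [← h1]
  exact hRn.subgroupOf U

end final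

end Cfsg.Agent.Lib.Helper77_RealDegC
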