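import Mathlib
import Cfsg.Agent.Lib.Helper77_RealDegC
import Cfsg.Agent.Lib.Helper3_RealGlaub

/-!
# Isaacs--Navarro: Sylow normalizers meet every real class (helper77)

`thmC0`: `K` normal `p'`-subgroup of odd index, every real irreducible character of `K` is
stabilized by some Sylow `p`-subgroup: then every real element of `K` is conjugate to an element
centralized by a given Sylow `p`-subgroup.  Proof by counting orbits (S4866 for `(G, K)` and for
`(N_G(P), C_K(P))`) and the Glauberman correspondence for `p`-groups.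
-/

set_option autoImplicit false
set_option linter.unusedSectionVars false

namespace Cfsg.Agent.Lib.Helper77_RealDegD

open Cfsg Cfsg.Agent.Lib.Helper77_RealDegB Cfsg.Agent.Lib.Helper77_RealDegC Cfsg.Agent.S4866
open Cfsg.Agent.Lib.Helper82_ItoMichler
open Cfsg.Agent.Lib.Helper3_GlaubGood Cfsg.Agent.Lib.Helper3_GlaubInd
  Cfsg.Agent.Lib.Helper3_GlaubAmbient

universe u

section grp

variable {G : Type u} [Group G]

/-- in a normal `p'`-subgroup, normalizing a `p`-subgroup is the same as centralizing it -/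
theorem inf_normalizer_eq [Finite G] (p : ℕ) [Fact p.Prime] (K : Subgroup G) [hK : K.Normal]
    (hKp : ¬ p ∣ Nat.card K) (P : Subgroup G) (hP : IsPGroup p P) :
    K ⊓ Subgroup.normalizer (P : Set G) = K ⊓ Subgroup.centralizer (P : Set G) := by
  have hp : p.Prime := Fact.out
  apply le_antisymm
  · intro k hk
    refine ⟨hk.1, ?_⟩
    show k ∈ Subgroup.centralizer (P : Set G)
    rw [Subgroup.mem_centralizer_iff]
    intro x hx
    have hPK : P ⊓ K = ⊥ := by
      apply disjoint_iff.1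
      apply Subgroup.disjoint_of_coprime_natCard
      obtain ⟨m, hm⟩ := IsPGroup.iff_card.1 hP
      rw [hm]
      apply Nat.Coprime.pow_left
      rw [Nat.Prime.coprime_iff_not_dvd hp]
      exact hKp
    have h1 : k * x * k⁻¹ * x⁻¹ ∈ P := by
      have := (Subgroup.mem_normalizer_iff.1 hk.2 x).1 hx
      exact P.mul_mem this (P.inv_mem hx)
    have h2 : k * x * k⁻¹ * x⁻¹ ∈ K := by
      have h3 : x * k⁻¹ * x⁻¹ ∈ K := hK.conj_mem _ (K.inv_mem hk.1) x
      have h5 : k * x * k⁻¹ * x⁻¹ = k * (x * k⁻¹ * x⁻¹) := by group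
      rw [h5]; exact K.mul_mem hk.1 h3
    have h3 : k * x * k⁻¹ * x⁻¹ ∈ P ⊓ K := ⟨h1, h2⟩
    rw [hPK, Subgroup.mem_bot] at h3
    calc x * k = (k * x * k⁻¹ * x⁻¹)⁻¹ * (k * x) := by group
      _ = k * x := by rw [h3, inv_one, one_mul]
  · exact inf_le_inf_left K (Subgroup.centralizer_le_normalizer _)

theorem card_orbits_eq [Finite G] (K : Subgroup G) [K.Normal] (hodd : Odd K.index) :
    Nat.card (Quotient (MulAction.orbitRel G (RealIrr K))) =
      Nat.card (Quotient (MulAction.orbitRel G (RealElt K))) := by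
  have h1 := orbits_realIrr K hodd
  have h2 := orbits_realElt K hodd
  have h3 : (Nat.card (Quotient (MulAction.orbitRel G (RealIrr K))) * Nat.card G : ℕ) =
      Nat.card (Quotient (MulAction.orbitRel G (RealElt K))) * Nat.card G := by
    rw [h2]
    exact_mod_cast h1
  exact Nat.eq_of_mul_eq_mul_right Nat.card_pos h3

/-- the centralizer in `K` of the Sylow subgroup, inside its normalizer, is normal -/
theorem centralizer_subgroupOf_normal (K P : Subgroup G) [hK : K.Normal] :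
    ((K ⊓ Subgroup.centralizer (P : Set G)).subgroupOf
      (Subgroup.normalizer (P : Set G))).Normal := by
  constructor
  rintro ⟨c, hcN⟩ hc ⟨n, hn⟩
  rw [Subgroup.mem_subgroupOf] at hc ⊢
  show n * c * n⁻¹ ∈ K ⊓ Subgroup.centralizer (P : Set G)
  have hc' : c ∈ K ⊓ Subgroup.centralizer (P : Set G) := hc
  refine ⟨hK.conj_mem c hc'.1 n, ?_⟩
  show n * c * n⁻¹ ∈ Subgroup.centralizer (P : Set G)
  rw [Subgroup.mem_centralizer_iff]
  intro x hx
  have hx' : n⁻¹ * x * n⁻¹⁻¹ ∈ P :=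
    (Subgroup.mem_normalizer_iff.1 (Subgroup.inv_mem _ hn) x).1 hx
  have h1 := (Subgroup.mem_centralizer_iff.1 hc'.2) _ hx'
  calc x * (n * c * n⁻¹) = n * ((n⁻¹ * x * n⁻¹⁻¹) * c) * n⁻¹ := by group
    _ = n * (c * (n⁻¹ * x * n⁻¹⁻¹)) * n⁻¹ := by rw [h1]
    _ = n * c * n⁻¹ * x := by group

end grp

section main

variable {G : Type u} [Group G]

theorem thmC0 [Finite G] (p : ℕ) [hp : Fact p.Prime] (K : Subgroup G) [hK : K.Normal]
    (hodd : Odd K.index) (hKp : ¬ p ∣ Nat.card K) (P : Sylow p G)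
    (H1 : ∀ θ : IrrCharacter K, (∀ k : K, ((θ : K → ℂ) k).im = 0) →
      ∃ g : G, ∀ x ∈ (P : Subgroup G), ∀ k : K,
        ((g • θ : IrrCharacter K) : K → ℂ) ((MulAut.conjNormal x : MulAut K) k) =
          ((g • θ : IrrCharacter K) : K → ℂ) k)
    (k : K) (hk : IsConj k k⁻¹) :
    ∃ g : G, g * (k : G) * g⁻¹ ∈ Subgroup.centralizer ((P : Subgroup G) : Set G) := by
  classical
  have hp2 : 2 ≤ p := hp.out.two_le
  have : Fintype K := Fintype.ofFinite K
  obtain ⟨N, hN⟩ : ∃ N : Subgroup G, N = Subgroup.normalizer ((P : Subgroup G) : Set G) :=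
    ⟨_, rfl⟩
  obtain ⟨Cg, hCg⟩ : ∃ Cg : Subgroup G,
    Cg = K ⊓ Subgroup.centralizer ((P : Subgroup G) : Set G) := ⟨_, rfl⟩
  have hCgN : Cg ≤ N := by
    rw [hCg, hN]
    exact inf_le_right.trans (Subgroup.centralizer_le_normalizer _)
  have hCgK : Cg ≤ K := hCg ▸ inf_le_left
  obtain ⟨C', hC'⟩ : ∃ C' : Subgroup N, C' = Cg.subgroupOf N := ⟨_, rfl⟩
  have hC'n : C'.Normal := by
    subst hC' hCg hN
    exact centralizer_subgroupOf_normal K (P : Subgroup G)
  have : Fintype C' := Fintype.ofFinite C'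
  have hmemC' : ∀ c : N, c ∈ C' ↔ (c : G) ∈ Cg := by
    intro c
    rw [hC', Subgroup.mem_subgroupOf]
  -- odd index
  have hodd' : Odd C'.index := by
    have h1 : C'.index = Cg.relIndex N := by rw [hC']; rfl
    have h2 : Cg.relIndex N = K.relIndex N := by
      rw [hCg, ← inf_normalizer_eq p K hKp (P : Subgroup G) P.isPGroup', ← hN,
        Subgroup.inf_relIndex_right]
    rw [h1, h2]
    exact Odd.of_dvd_nat hodd (Subgroup.relIndex_dvd_index_of_normal K N)
  -- counting
  have hc1 := card_orbits_eq K hodd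
  have hc2 := card_orbits_eq C' hodd'
  -- Glauberman
  have hnorm : ∀ s ∈ (P : Subgroup G), ∀ g ∈ K, s * g * s⁻¹ ∈ K :=
    fun s _ g hg => hK.conj_mem g hg s
  obtain ⟨n, hn⟩ := IsPGroup.iff_card.1 P.isPGroup'
  let φ := conjHom K (P : Subgroup G) hnorm
  let ι : C' →* K :=
    { toFun := fun c => ⟨((c : N) : G), hCgK ((hmemC' c).1 c.2)⟩
      map_one' := rfl
      map_mul' := fun _ _ => rfl }
  have hιval : ∀ c : C', ((ι c : K) : G) = ((c : N) : G) := fun _ => rfl
  have hι : Function.Injective ι := by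
    intro a b hab
    have := congrArg (Subtype.val : K → G) hab
    exact Subtype.ext (Subtype.ext this)
  have hfix : ∀ g : K, (∀ s : (P : Subgroup G), φ s g = g) ↔ g ∈ ι.range := by
    intro g
    constructor
    · intro h
      have hgC : (g : G) ∈ Cg := by
        rw [hCg]
        refine ⟨g.2, ?_⟩
        show (g : G) ∈ Subgroup.centralizer ((P : Subgroup G) : Set G)
        rw [Subgroup.mem_centralizer_iff]
        intro s hs
        have h1 := congrArg Subtype.val (h ⟨s, hs⟩)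
        rw [conjHom_apply] at h1
        have h2 : s * (g : G) = (s * g * s⁻¹) * s := by group
        rw [h2, h1]
      exact ⟨⟨⟨g, hCgN hgC⟩, (hmemC' _).2 hgC⟩, Subtype.ext rfl⟩
    · rintro ⟨c, rfl⟩ s
      apply Subtype.ext
      rw [conjHom_apply, hιval]
      have hc : ((c : N) : G) ∈ Cg := (hmemC' c).1 c.2
      rw [hCg] at hc
      have hc2 := (Subgroup.mem_centralizer_iff.1 hc.2) s s.2
      rw [hc2]; group
  have habc := glauberman_pgroup (p := p) n (fun _ => hKp) hn φ ι hι hfix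
  choose Θ hΘinv hΘgood using habc.surj
  -- real characters correspond to real characters
  have hΘreal : ∀ β : IrrCharacter C', (∀ c : C', ((β : C' → ℂ) c).im = 0) →
      ∀ k : K, ((Θ β : K → ℂ) k).im = 0 := by
    intro β hβ
    rw [Cfsg.Agent.Lib.Helper3_RealGlaub.real_iff_conjIrr] at hβ ⊢
    have h1 := Cfsg.Agent.Lib.Helper3_RealClasses.good_conj (hΘgood β)
    rw [hβ] at h1
    have h2 : InvSet (Set.range φ)
        ((Cfsg.Agent.Lib.Helper3_RealClasses.conjIrr (Θ β) : IrrCharacter K) : K → ℂ) := by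
      intro a ha g
      show (starRingEnd ℂ) ((Θ β : K → ℂ) (a g)) = (starRingEnd ℂ) ((Θ β : K → ℂ) g)
      rw [hΘinv β a ha g]
    exact (habc.inj (Θ β) _ (hΘinv β) h2 β (hΘgood β) h1).symm
  -- equivariance
  have hequiv : ∀ (m : N) (β : IrrCharacter C'), Θ (m • β) = (m : G) • Θ β := by
    intro m β
    refine habc.inj _ _ (hΘinv _) ?_ (m • β) (hΘgood _) ?_
    · rintro a ⟨s, rfl⟩ g
      show (Θ β : K → ℂ) ((MulAut.conjNormal (m : G)⁻¹ : MulAut K) (φ s g)) =
        (Θ β : K → ℂ) ((MulAut.conjNormal (m : G)⁻¹ : MulAut K) g)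
      have hs' : (m : G)⁻¹ * (s : G) * ((m : G)⁻¹)⁻¹ ∈ (P : Subgroup G) := by
        have hm : (m : G)⁻¹ ∈ Subgroup.normalizer ((P : Subgroup G) : Set G) := by
          rw [← hN]; exact N.inv_mem m.2
        exact (Subgroup.mem_normalizer_iff.1 hm s).1 s.2
      have h1 : (MulAut.conjNormal (m : G)⁻¹ : MulAut K) (φ s g) =
          φ ⟨_, hs'⟩ ((MulAut.conjNormal (m : G)⁻¹ : MulAut K) g) := by
        apply Subtype.ext
        rw [MulAut.conjNormal_apply, conjHom_apply, conjHom_apply, MulAut.conjNormal_apply]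
        group
      rw [h1]
      exact hΘinv β _ ⟨_, rfl⟩ _
    · have h1 := good_comp_aut (MulAut.conjNormal m⁻¹ : MulAut C') (hΘgood β)
      have h2 : (Cfsg.Agent.Lib.Helper3_BrauerPermAut.compAut (MulAut.conjNormal m⁻¹ : MulAut C') β) = m • β := Subtype.ext rfl
      rw [h2] at h1
      have h3 : (fun c : C' => (((m : G) • Θ β : IrrCharacter K) : K → ℂ) (ι c)) =
          fun c : C' => (fun c : C' => (Θ β : K → ℂ) (ι c))
            ((MulAut.conjNormal m⁻¹ : MulAut C') c) := by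
        funext c
        show (Θ β : K → ℂ) ((MulAut.conjNormal (m : G)⁻¹ : MulAut K) (ι c)) =
          (Θ β : K → ℂ) (ι ((MulAut.conjNormal m⁻¹ : MulAut C') c))
        congr 1
      rw [h3]
      exact h1
  have : Finite (IrrCharacter K) := Cfsg.Agent.Lib.Helper81_CharOrth.finite_irrCharacter
  have : Finite (IrrCharacter C') := Cfsg.Agent.Lib.Helper81_CharOrth.finite_irrCharacter
  -- the surjection on orbits of real characters
  let F : RealIrr C' → Quotient (MulAction.orbitRel G (RealIrr K)) :=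
    fun β => Quotient.mk'' ⟨Θ β.1, hΘreal β.1 β.2⟩
  have hFwd : ∀ a b : RealIrr C', (MulAction.orbitRel N (RealIrr C')) a b → F a = F b := by
    intro a b hab
    obtain ⟨m, hm⟩ := hab
    apply Quotient.sound'
    refine ⟨(m : G), ?_⟩
    apply Subtype.ext
    show (m : G) • Θ b.1 = Θ a.1
    rw [← hequiv, ← hm]
    rfl
  let F' : Quotient (MulAction.orbitRel N (RealIrr C')) →
      Quotient (MulAction.orbitRel G (RealIrr K)) := Quotient.lift F hFwd
  have hF'surj : Function.Surjective F' := by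
    intro q
    induction q using Quotient.inductionOn' with
    | _ θ =>
      obtain ⟨g, hg⟩ := H1 θ.1 θ.2
      have hinv : InvSet (Set.range φ) ((g • θ.1 : IrrCharacter K) : K → ℂ) := by
        rintro a ⟨s, rfl⟩ k
        have h1 := hg s s.2 k
        have h2 : φ s k = (MulAut.conjNormal (s : G) : MulAut K) k := Subtype.ext rfl
        rw [h2]
        exact h1
      obtain ⟨β, hβ⟩ := habc.exists_good (g • θ.1) hinv
      have hgθreal : ∀ k : K, (((g • θ.1 : IrrCharacter K) : K → ℂ) k).im = 0 := (g • θ).2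
      have hβreal : ∀ c : C', ((β : C' → ℂ) c).im = 0 := by
        rw [Cfsg.Agent.Lib.Helper3_RealGlaub.real_iff_conjIrr]
        have h1 := Cfsg.Agent.Lib.Helper3_RealClasses.good_conj hβ
        have h2 : (fun c : C' => (starRingEnd ℂ) (((g • θ.1 : IrrCharacter K) : K → ℂ) (ι c))) =
            fun c : C' => ((g • θ.1 : IrrCharacter K) : K → ℂ) (ι c) :=
          funext (fun c => Complex.conj_eq_iff_im.2 (hgθreal _))
        rw [h2] at h1
        exact Good.unique hp2 h1 hβ
      have hΘβ : Θ β = g • θ.1 := habc.inj _ _ (hΘinv β) hinv β (hΘgood β) hβ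
      refine ⟨Quotient.mk'' ⟨β, hβreal⟩, ?_⟩
      show F ⟨β, hβreal⟩ = _
      apply Quotient.sound'
      exact ⟨g, Subtype.ext hΘβ.symm⟩
  -- the injection on orbits of real elements
  have hιreal : ∀ c : RealElt C', IsConj (ι c.1) (ι c.1)⁻¹ := by
    intro c
    have := MonoidHom.map_isConj ι c.2
    rwa [map_inv] at this
  let Ψ₀ : RealElt C' → Quotient (MulAction.orbitRel G (RealElt K)) :=
    fun c => Quotient.mk'' ⟨ι c.1, hιreal c⟩
  have hΨwd : ∀ a b : RealElt C', (MulAction.orbitRel N (RealElt C')) a b → Ψ₀ a = Ψ₀ b := by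
    intro a b hab
    obtain ⟨m, hm⟩ := hab
    apply Quotient.sound'
    refine ⟨(m : G), ?_⟩
    apply Subtype.ext
    apply Subtype.ext
    rw [smul_realElt_coe]
    show (m : G) * ((b.1 : N) : G) * (m : G)⁻¹ = ((a.1 : N) : G)
    rw [← hm]
    have := smul_realElt_coe C' m b
    rw [this]
    rfl
  let Ψ : Quotient (MulAction.orbitRel N (RealElt C')) →
      Quotient (MulAction.orbitRel G (RealElt K)) := Quotient.lift Ψ₀ hΨwd
  have hcentι : ∀ c : C', ((c : N) : G) ∈ Subgroup.centralizer ((P : Subgroup G) : Set G) := by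
    intro c
    have hc : ((c : N) : G) ∈ Cg := (hmemC' c).1 c.2
    rw [hCg] at hc
    exact hc.2
  have hΨinj : Function.Injective Ψ := by
    intro q₁ q₂
    induction q₁ using Quotient.inductionOn' with
    | _ a =>
      induction q₂ using Quotient.inductionOn' with
      | _ b =>
        intro h
        have h1 : (MulAction.orbitRel G (RealElt K)) ⟨ι a.1, hιreal a⟩ ⟨ι b.1, hιreal b⟩ :=
          Quotient.exact' h
        obtain ⟨g, hg⟩ := h1
        have hg' : g * (((b.1 : C') : N) : G) * g⁻¹ = (((a.1 : C') : N) : G) := by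
          have := congrArg (fun z : RealElt K => ((z.1 : K) : G)) hg
          simp only [smul_realElt_coe] at this
          exact this
        obtain ⟨n', hn', hnn⟩ := Sylow.conj_eq_normalizer_conj_of_mem_centralizer P
          (((b.1 : C') : N) : G) g⁻¹ (hcentι b.1) (by rw [inv_inv, hg']; exact hcentι a.1)
        rw [inv_inv, hg'] at hnn
        apply Quotient.sound'
        have hn'N : n'⁻¹ ∈ N := by rw [hN]; exact Subgroup.inv_mem _ hn'
        refine ⟨⟨n'⁻¹, hn'N⟩, ?_⟩
        apply Subtype.ext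
        apply Subtype.ext
        apply Subtype.ext
        have := smul_realElt_coe C' (⟨n'⁻¹, hn'N⟩ : N) b
        rw [this]
        show n'⁻¹ * (((b.1 : C') : N) : G) * n'⁻¹⁻¹ = (((a.1 : C') : N) : G)
        rw [hnn, inv_inv]
  -- counting
  have hle1 : Nat.card (Quotient (MulAction.orbitRel G (RealIrr K))) ≤
      Nat.card (Quotient (MulAction.orbitRel N (RealIrr C'))) :=
    Nat.card_le_card_of_surjective F' hF'surj
  have hΨbij : Function.Bijective Ψ := by
    apply Function.Injective.bijective_of_nat_card_le hΨinj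
    rw [← hc1, ← hc2]
    exact hle1
  obtain ⟨q, hq⟩ := hΨbij.2 (Quotient.mk'' ⟨k, hk⟩)
  induction q using Quotient.inductionOn' with
  | _ c =>
    have h1 : (MulAction.orbitRel G (RealElt K)) ⟨ι c.1, hιreal c⟩ ⟨k, hk⟩ := Quotient.exact' hq
    obtain ⟨g, hg⟩ := h1
    have hg' : g * (k : G) * g⁻¹ = (((c.1 : C') : N) : G) := by
      have := congrArg (fun z : RealElt K => ((z.1 : K) : G)) hg
      simp only [smul_realElt_coe] at this
      exact this
    exact ⟨g, by rw [hg']; exact hcentι c.1⟩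

end main

section c1

variable {G : Type u} [Group G]

/-- a group of odd order has no nontrivial real elements -/
theorem eq_one_of_isConj_inv_of_odd {H : Type*} [Group H] [Finite H] (hodd : Odd (Nat.card H))
    (y : H) (hy : IsConj y y⁻¹) : y = 1 := by
  obtain ⟨j, hj⟩ := hodd
  obtain ⟨c, hc⟩ := isConj_iff.1 hy
  have hcc : (c * c) * y = y * (c * c) := by
    have h1 : c * y⁻¹ * c⁻¹ = y := by
      calc c * y⁻¹ * c⁻¹ = (c * y * c⁻¹)⁻¹ := by group
        _ = y := by rw [hc, inv_inv]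
    calc (c * c) * y = c * (c * y * c⁻¹) * c := by group
      _ = c * y⁻¹ * c := by rw [hc]
      _ = (c * y⁻¹ * c⁻¹) * (c * c) := by group
      _ = y * (c * c) := by rw [h1]
  have hcpow : c = (c * c) ^ (j + 1) := by
    have h1 : c ^ Nat.card H = 1 := pow_card_eq_one'
    rw [← pow_two, ← pow_mul]
    have h2 : 2 * (j + 1) = Nat.card H + 1 := by omega
    rw [h2, pow_succ, h1, one_mul]
  have hcy : c * y = y * c := by
    have : Commute (c * c) y := hcc
    have h3 := this.pow_left (j + 1)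
    rw [← hcpow] at h3
    exact h3
  have hyy : y = y⁻¹ := by
    rw [← hc, hcy]; group
  have hy2 : y * y = 1 := by
    nth_rw 2 [hyy]
    exact mul_inv_cancel y
  have h1 : y ^ Nat.card H = 1 := pow_card_eq_one'
  have h2 : y = (y * y) ^ (j + 1) := by
    rw [← pow_two, ← pow_mul]
    have h2 : 2 * (j + 1) = Nat.card H + 1 := by omega
    rw [h2, pow_succ, h1, one_mul]
  rw [h2, hy2, one_pow]

/-- real elements lie in every normal subgroup of odd index, and are real there -/
theorem real_mem_of_odd_index [Finite G] (K : Subgroup G) [hK : K.Normal] (hodd : Odd K.index)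
    (x : G) (hx : IsConj x x⁻¹) : ∃ hxK : x ∈ K, IsConj (⟨x, hxK⟩ : K) (⟨x, hxK⟩ : K)⁻¹ := by
  have h1 : IsConj (QuotientGroup.mk' K x) (QuotientGroup.mk' K x)⁻¹ := by
    have := MonoidHom.map_isConj (QuotientGroup.mk' K) hx
    rwa [map_inv] at this
  have h2 : Odd (Nat.card (G ⧸ K)) := by rwa [← Subgroup.index_eq_card]
  have h3 := eq_one_of_isConj_inv_of_odd h2 _ h1
  have hxK : x ∈ K := (QuotientGroup.eq_one_iff x).1 h3
  refine ⟨hxK, ?_⟩
  obtain ⟨c, hc⟩ := isConj_iff.1 hx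
  apply real_of_inverted K hodd c ⟨x, hxK⟩
  show c * x⁻¹ * c⁻¹ = x
  calc c * x⁻¹ * c⁻¹ = (c * x * c⁻¹)⁻¹ := by group
    _ = x := by rw [hc, inv_inv]

/-- a subgroup of index prime to `p` contains a conjugate of every `p`-subgroup -/
theorem exists_conj_le_of_index [Finite G] (p : ℕ) [Fact p.Prime] (T P : Subgroup G)
    (hP : IsPGroup p P) (hT : ¬ p ∣ T.index) : ∃ g : G, ∀ x ∈ P, g⁻¹ * x * g ∈ T := by
  have hnd : ¬ p ∣ Nat.card (G ⧸ T) := by rwa [← Subgroup.index_eq_card]
  obtain ⟨q, hq⟩ := IsPGroup.nonempty_fixed_point_of_prime_not_dvd_card hP (G ⧸ T) hnd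
  induction q using QuotientGroup.induction_on with
  | H g =>
    refine ⟨g, fun x hx => ?_⟩
    have h1 : (⟨x, hx⟩ : P) • (g : G ⧸ T) = (g : G ⧸ T) := hq ⟨x, hx⟩
    have h2 : ((x * g : G) : G ⧸ T) = (g : G ⧸ T) := h1
    rw [QuotientGroup.eq] at h2
    have h3 : g⁻¹ * x * g = ((x * g)⁻¹ * g)⁻¹ := by group
    rw [h3]
    exact T.inv_mem h2

theorem thmC1 [Finite G] (p : ℕ) [Fact p.Prime] (K : Subgroup G) [hK : K.Normal]
    (hodd : Odd K.index) (hKp : ¬ p ∣ Nat.card K)
    (hreal : ∀ χ : IrrCharacter G, (∀ g, ((χ : G → ℂ) g).im = 0) →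
      ¬ p ∣ charDegree (χ : G → ℂ))
    (P : Sylow p G) (x : G) (hx : IsConj x x⁻¹) :
    ∃ g : G, g * x * g⁻¹ ∈ Subgroup.centralizer ((P : Subgroup G) : Set G) := by
  classical
  have := Fintype.ofFinite G
  have := Fintype.ofFinite K
  obtain ⟨hxK, hxreal⟩ := real_mem_of_odd_index K hodd x hx
  refine thmC0 p K hodd hKp P ?_ ⟨x, hxK⟩ hxreal
  intro θ hθ
  obtain ⟨χ, hχreal, hχθ⟩ := real_over K hK hodd θ hθ
  have hχ1 := Cfsg.Agent.Lib.Helper77_BlockBasics.apply_one_eq_charDegree χ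
  have hθ1 := Cfsg.Agent.Lib.Helper77_BlockBasics.apply_one_eq_charDegree θ
  obtain ⟨e, he⟩ := clifford_degree K χ.2 θ.2 hχθ _ _ hχ1 hθ1
  have hnd : ¬ p ∣ (stab K (θ : K → ℂ)).index := by
    intro h
    apply hreal χ hχreal
    rw [he]
    exact Dvd.dvd.mul_left (Dvd.dvd.mul_right h _) e
  obtain ⟨g, hg⟩ := exists_conj_le_of_index p (stab K (θ : K → ℂ)) (P : Subgroup G)
    P.isPGroup' hnd
  refine ⟨g, fun y hy k => ?_⟩
  have h1 := hg y hy
  rw [mem_stab, Cfsg.Agent.Lib.Helper75_Clifford.conjFun_eq_comp] at h1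
  rw [smul_irr_apply, smul_irr_apply]
  have h2 := congrFun h1 ((MulAut.conjNormal g⁻¹ : MulAut K) k)
  rw [← h2]
  refine congrArg (θ : K → ℂ) ?_
  apply Subtype.ext
  simp only [MulAut.conjNormal_apply]
  group

end c1

section thmc

variable {G : Type u} [Group G]

/-- the normal Sylow `p`-subgroup of `O^{2'}(G)`, from Theorem A -/
theorem exists_normal_sylow_pGen [Finite G] (p : ℕ) [Fact p.Prime]
    (hsolv : Group.IsSolvable (pGen p G))
    (hreal : ∀ χ : IrrCharacter G, (∀ g, ((χ : G → ℂ) g).im = 0) →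
      ¬ p ∣ charDegree (χ : G → ℂ)) :
    ∃ Q : Subgroup G, Q.Normal ∧ IsPGroup p Q ∧ Q ≤ pGen 2 G ∧
      ¬ p ∣ Q.relIndex (pGen 2 G) := by
  have hKn : (pGen 2 G).Normal := pGen_normal 2
  obtain ⟨Q'⟩ := (inferInstance : Nonempty (Sylow p (pGen 2 G)))
  have hQ'n : (Q' : Subgroup (pGen 2 G)).Normal := thmA p hsolv hreal _ rfl Q'
  have hQ'c : (Q' : Subgroup (pGen 2 G)).Characteristic := Sylow.characteristic_of_normal Q' hQ'n
  refine ⟨(Q' : Subgroup (pGen 2 G)).map (pGen 2 G).subtype,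
    ConjAct.normal_of_characteristic_of_normal, Q'.isPGroup'.map _, Subgroup.map_subtype_le _, ?_⟩
  have h1 : ((Q' : Subgroup (pGen 2 G)).map (pGen 2 G).subtype).subgroupOf (pGen 2 G) =
      (Q' : Subgroup (pGen 2 G)) :=
    Subgroup.comap_map_eq_self_of_injective (Subgroup.subtype_injective _) _
  unfold Subgroup.relIndex
  rw [h1]
  exact Q'.not_dvd_index

/-- **Isaacs--Navarro**: the normalizer of a Sylow `p`-subgroup meets every real class. -/
theorem thmC [Finite G] (p : ℕ) [Fact p.Prime]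
    (hsolv : Group.IsSolvable (pGen p G))
    (hreal : ∀ χ : IrrCharacter G, (∀ g, ((χ : G → ℂ) g).im = 0) →
      ¬ p ∣ charDegree (χ : G → ℂ))
    (P : Sylow p G) (x : G) (hx : IsConj x x⁻¹) :
    ∃ y ∈ Subgroup.normalizer ((P : Subgroup G) : Set G), IsConj x y := by
  obtain ⟨Q, hQn, hQp, hQK, hQidx⟩ := exists_normal_sylow_pGen p hsolv hreal
  have := hQn
  have hsurj := QuotientGroup.mk'_surjective Q
  have hK' : pGen 2 (G ⧸ Q) = (pGen 2 G).map (QuotientGroup.mk' Q) :=
    le_antisymm (pGen_le_map 2 _ hsurj) (map_pGen_le 2 _)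
  have hKn' : (pGen 2 (G ⧸ Q)).Normal := pGen_normal 2
  have hodd' : Odd (pGen 2 (G ⧸ Q)).index := by
    rw [← Nat.not_even_iff_odd, even_iff_two_dvd]
    exact not_dvd_index_pGen
  have hKp' : ¬ p ∣ Nat.card (pGen 2 (G ⧸ Q)) := by
    rw [hK', ← Subgroup.relIndex_ker, QuotientGroup.ker_mk']
    exact hQidx
  have hx' : IsConj (QuotientGroup.mk' Q x) (QuotientGroup.mk' Q x)⁻¹ := by
    have := MonoidHom.map_isConj (QuotientGroup.mk' Q) hx
    rwa [map_inv] at this
  obtain ⟨gb, hgb⟩ := thmC1 p (pGen 2 (G ⧸ Q)) hodd' hKp' (real_degrees_quotient Q hreal)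
    (P.mapSurjective hsurj) (QuotientGroup.mk' Q x) hx'
  obtain ⟨g, rfl⟩ := hsurj gb
  refine ⟨g * x * g⁻¹, ?_, isConj_iff.2 ⟨g, rfl⟩⟩
  have hQP : Q ≤ P := hQp.le_sylow_of_normal P
  have hconj : ∀ h ∈ (P : Subgroup G), (g * x * g⁻¹) * h * (g * x * g⁻¹)⁻¹ ∈ (P : Subgroup G) := by
    intro h hh
    have hmem : QuotientGroup.mk' Q h ∈
        (((P.mapSurjective hsurj : Sylow p (G ⧸ Q)) : Subgroup (G ⧸ Q)) : Set (G ⧸ Q)) := by
      rw [Sylow.coe_mapSurjective]
      exact ⟨h, hh, rfl⟩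
    have h1 := (Subgroup.mem_centralizer_iff.1 hgb) _ hmem
    have h2 : QuotientGroup.mk' Q ((g * x * g⁻¹) * h * (g * x * g⁻¹)⁻¹ * h⁻¹) = 1 := by
      have e1 : QuotientGroup.mk' Q ((g * x * g⁻¹) * h * (g * x * g⁻¹)⁻¹ * h⁻¹) =
          (QuotientGroup.mk' Q g * QuotientGroup.mk' Q x * (QuotientGroup.mk' Q g)⁻¹) *
            QuotientGroup.mk' Q h *
            (QuotientGroup.mk' Q g * QuotientGroup.mk' Q x * (QuotientGroup.mk' Q g)⁻¹)⁻¹ *
            (QuotientGroup.mk' Q h)⁻¹ := by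
        simp only [map_mul, map_inv]
      rw [e1, ← h1]
      group
    have h3 : (g * x * g⁻¹) * h * (g * x * g⁻¹)⁻¹ * h⁻¹ ∈ Q := (QuotientGroup.eq_one_iff _).1 h2
    have h4 : (g * x * g⁻¹) * h * (g * x * g⁻¹)⁻¹ =
        ((g * x * g⁻¹) * h * (g * x * g⁻¹)⁻¹ * h⁻¹) * h := by group
    rw [h4]
    exact (P : Subgroup G).mul_mem (hQP h3) hh
  have hle : (((g * x * g⁻¹) • P : Sylow p G) : Subgroup G) ≤ (P : Subgroup G) := by
    rw [Sylow.coe_subgroup_smul]
    rintro _ ⟨h, hh, rfl⟩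
    have h6 := hconj h hh
    show (MulAut.conj (g * x * g⁻¹)) h ∈ (P : Subgroup G)
    rw [MulAut.conj_apply]
    exact h6
  have h5 := ((g * x * g⁻¹) • P : Sylow p G).is_maximal' P.isPGroup' hle
  exact (Sylow.smul_eq_iff_mem_normalizer (P := P)).1 (Sylow.ext h5.symm)

end thmc

end Cfsg.Agent.Lib.Helper77_RealDegD
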