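import Mathlib

/-!
# Sylow arithmetic for the real McKay bijection (helper77)
-/

set_option autoImplicit false
set_option linter.unusedSectionVars false

namespace Cfsg.Agent.Lib.Helper77_RealMcKayA

universe u

variable {G : Type u} [Group G] [Finite G] (p : ℕ) [Fact p.Prime]

/-- for `P ≤ T` a Sylow `p`-subgroup, `|G : T| ≡ |N_G(P) : N_T(P)|` modulo `p` -/
theorem index_modEq_relIndex_normalizer (P : Sylow p G) (T : Subgroup G)
    (hPT : (P : Subgroup G) ≤ T) :
    T.index ≡ T.relIndex (Subgroup.normalizer ((P : Subgroup G) : Set G)) [MOD p] := by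
  obtain ⟨N, hN⟩ : ∃ N : Subgroup G, N = Subgroup.normalizer ((P : Subgroup G) : Set G) :=
    ⟨_, rfl⟩
  rw [← hN]
  have h1 : N.index ≡ 1 [MOD p] := by
    have h0 : Nat.card (Sylow p G) = (Subgroup.normalizer ((P : Subgroup G) : Set G)).index :=
      Sylow.card_eq_index_normalizer P
    rw [hN, ← h0]
    exact card_sylow_modEq_one p G
  have h2 : N.relIndex T ≡ 1 [MOD p] := by
    have h3 : N.subgroupOf T =
        Subgroup.normalizer (((P.subtype hPT : Sylow p T) : Subgroup T) : Set T) := by
      rw [hN, Sylow.coe_subtype]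
      exact Subgroup.subgroupOf_normalizer_eq hPT
    have h4 : N.relIndex T = (N.subgroupOf T).index := rfl
    have h0 : Nat.card (Sylow p T) =
        (Subgroup.normalizer (((P.subtype hPT : Sylow p T) : Subgroup T) : Set T)).index :=
      Sylow.card_eq_index_normalizer (P.subtype hPT)
    rw [h4, h3, ← h0]
    exact card_sylow_modEq_one p T
  have h5 : N.relIndex T * T.index = (N ⊓ T).index := by
    rw [← Subgroup.inf_relIndex_right]
    exact Subgroup.relIndex_mul_index inf_le_right
  have h6 : T.relIndex N * N.index = (N ⊓ T).index := by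
    rw [← Subgroup.inf_relIndex_left]
    exact Subgroup.relIndex_mul_index inf_le_left
  have h7 : N.relIndex T * T.index ≡ 1 * T.index [MOD p] := Nat.ModEq.mul_right _ h2
  have h8 : T.relIndex N * N.index ≡ T.relIndex N * 1 [MOD p] := Nat.ModEq.mul_left _ h1
  rw [one_mul] at h7
  rw [mul_one] at h8
  rw [h5] at h7
  rw [h6] at h8
  exact h7.symm.trans h8

/-- Sylow subgroups of `G` inside `T` are conjugate under `T` -/
theorem exists_mem_smul_eq (P₁ P₂ : Sylow p G) (T : Subgroup G)
    (h₁ : (P₁ : Subgroup G) ≤ T) (h₂ : (P₂ : Subgroup G) ≤ T) : ∃ t ∈ T, t • P₁ = P₂ := by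
  obtain ⟨t, ht⟩ := MulAction.exists_smul_eq T (P₁.subtype h₁) (P₂.subtype h₂)
  rw [Sylow.smul_subtype] at ht
  exact ⟨(t : G), t.2, Sylow.subtype_injective ht⟩

end Cfsg.Agent.Lib.Helper77_RealMcKayA
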