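import Mathlib
import Cfsg.Prelude.Def_Characters
import Cfsg.Agent.Lib.Helper75_RelGlaubMain
import Cfsg.Agent.Lib.Helper82_ItoMichler
import Cfsg.Agent.Lib.Helper77_RealDegC
import Cfsg.Agent.S4866

/-!
# The relative Glauberman correspondence between `K` and `N_K(P)` (helper77)

`K ⊴ G` has a normal Sylow `p`-subgroup `Q`, `P` is a Sylow `p`-subgroup of `G`, `N = N_G(P)`.
The `P`-invariant irreducible characters of `K` and of `K ∩ N` correspond; the correspondence
commutes with complex conjugation and with the action of `N`.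
-/

set_option autoImplicit false
set_option linter.unusedSectionVars false

namespace Cfsg.Agent.Lib.Helper77_RealMcKayB

open Cfsg
open Cfsg.Agent.S4866
open Cfsg.Agent.Lib.Helper82_ItoMichler
open Cfsg.Agent.Lib.Helper75_RelGlaubQuot Cfsg.Agent.Lib.Helper75_RelGlaubMain

universe u

section stab

variable {Y : Type u} [Group Y] (L : Subgroup Y) [hL : L.Normal]

theorem mem_stab_iff (θ : IrrCharacter L) (y : Y) : y ∈ stab L (θ : L → ℂ) ↔ y • θ = θ := by
  rw [mem_stab, Helper75_Clifford.conjFun_eq_comp]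
  constructor
  · intro h
    have h1 : y⁻¹ • θ = θ := by
      apply Subtype.ext
      funext k
      rw [smul_irr_apply, inv_inv]
      exact congrFun h k
    calc y • θ = y • (y⁻¹ • θ) := by rw [h1]
      _ = θ := by rw [smul_inv_smul]
  · intro h
    have h1 : y⁻¹ • θ = θ := by rw [inv_smul_eq_iff, h]
    funext k
    have := congrFun (congrArg Subtype.val h1) k
    rw [smul_irr_apply, inv_inv] at this
    exact this

theorem mem_stab_smul_iff (θ : IrrCharacter L) (n y : Y) :
    y ∈ stab L ((n • θ : IrrCharacter L) : L → ℂ) ↔ n⁻¹ * y * n ∈ stab L (θ : L → ℂ) := by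
  rw [mem_stab_iff, mem_stab_iff, mul_smul, mul_smul, inv_smul_eq_iff]

theorem conjIrr_smul (θ : IrrCharacter L) (n : Y) : conjIrr (n • θ) = n • conjIrr θ := by
  apply Subtype.ext
  funext k
  rw [conjIrr_apply, smul_irr_apply, smul_irr_apply, conjIrr_apply, map_inv]

theorem sInv_iff (P' : Subgroup Y) (θ : IrrCharacter L) :
    SInv ((MulAut.conjNormal (H := L)).comp P'.subtype) (θ : L → ℂ) ↔
      P' ≤ stab L (θ : L → ℂ) := by
  constructor
  · intro h s hs
    rw [mem_stab, Helper75_Clifford.conjFun_eq_comp]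
    funext k
    exact h ⟨s, hs⟩ k
  · intro h s k
    have h1 := h s.2
    rw [mem_stab, Helper75_Clifford.conjFun_eq_comp] at h1
    exact congrFun h1 k

end stab

section defs

variable {G : Type u} [Group G] (K : Subgroup G) [hK : K.Normal] (N P : Subgroup G)
  (hPN : P ≤ N)

/-- conjugation action of `P` on `K` -/
def phiK : P →* MulAut K := (MulAut.conjNormal (H := K)).comp P.subtype

/-- conjugation action of `P` on `K ∩ N` -/
def phiM : P →* MulAut (K.subgroupOf N) :=
  (MulAut.conjNormal (H := K.subgroupOf N)).comp (Subgroup.inclusion hPN)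

/-- the inclusion of `K ∩ N` in `K` -/
def iotaM : K.subgroupOf N →* K :=
  (N.subtype.comp (K.subgroupOf N).subtype).codRestrict K
    (fun c => Subgroup.mem_subgroupOf.mp c.2)

theorem iotaM_coe (c : K.subgroupOf N) : ((iotaM K N c : K) : G) = ((c : N) : G) := rfl

theorem sInv_phiK_iff (θ : IrrCharacter K) :
    SInv (phiK K P) (θ : K → ℂ) ↔ P ≤ stab K (θ : K → ℂ) := sInv_iff K P θ

theorem sInv_phiM_iff (η : IrrCharacter (K.subgroupOf N)) :
    SInv (phiM K N P hPN) (η : K.subgroupOf N → ℂ) ↔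
      P.subgroupOf N ≤ stab (K.subgroupOf N) (η : K.subgroupOf N → ℂ) := by
  constructor
  · intro h s hs
    rw [mem_stab, Helper75_Clifford.conjFun_eq_comp]
    funext k
    exact h ⟨(s : G), Subgroup.mem_subgroupOf.mp hs⟩ k
  · intro h s k
    have h1 : (Subgroup.inclusion hPN s : N) ∈ P.subgroupOf N := by
      rw [Subgroup.mem_subgroupOf]
      exact s.2
    have h2 := h h1
    rw [mem_stab, Helper75_Clifford.conjFun_eq_comp] at h2
    exact congrFun h2 k

end defs

section setup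

variable {G : Type u} [Group G] [Finite G] (p : ℕ) [hp : Fact p.Prime] (K : Subgroup G)
  [hK : K.Normal] (P : Sylow p G) (Q : Subgroup G) [hQ : Q.Normal]

/-- an element all of whose conjugates of `P` stay in `P` normalizes `P` -/
theorem mem_normalizer_of_conj_mem (k : G)
    (h : ∀ s ∈ (P : Subgroup G), k * s * k⁻¹ ∈ (P : Subgroup G)) :
    k ∈ Subgroup.normalizer ((P : Subgroup G) : Set G) := by
  have hle : ((k • P : Sylow p G) : Subgroup G) ≤ (P : Subgroup G) := by
    rw [Sylow.coe_subgroup_smul]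
    rintro _ ⟨s, hs, rfl⟩
    show (MulAut.conj k) s ∈ (P : Subgroup G)
    rw [MulAut.conj_apply]
    exact h s hs
  have h5 := (k • P : Sylow p G).is_maximal' P.isPGroup' hle
  exact (Sylow.smul_eq_iff_mem_normalizer (P := P)).1 (Sylow.ext h5.symm)

theorem setup (hQp : IsPGroup p Q) (hQK : Q ≤ K) (hQidx : ¬ p ∣ Q.relIndex K)
    (N : Subgroup G) (hN : N = Subgroup.normalizer ((P : Subgroup G) : Set G))
    (hPN : (P : Subgroup G) ≤ N) :
    Setup p (phiK K (P : Subgroup G)) (phiM K N (P : Subgroup G) hPN) (iotaM K N)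
      (Q.subgroupOf K) where
  inj := by
    intro a b h
    apply Subtype.ext
    apply Subtype.ext
    exact congrArg (fun x : K => (x : G)) h
  compat := by
    intro s c
    apply Subtype.ext
    rfl
  normal := hQ.subgroupOf K
  stable := by
    intro s q hq
    rw [Subgroup.mem_subgroupOf] at hq ⊢
    show ((MulAut.conjNormal (s : G) : MulAut K) q : G) ∈ Q
    rw [MulAut.conjNormal_apply]
    exact hQ.conj_mem _ hq _
  range := by
    have hQP : Q ≤ (P : Subgroup G) := hQp.le_sylow_of_normal P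
    have hPKQ : (P : Subgroup G) ⊓ K ≤ Q := by
      apply Cfsg.Agent.Lib.Helper77_RealDegC.le_of_isPGroup_sup Q K _ hQK inf_le_right _ hQidx
      exact P.isPGroup'.to_le (sup_le hQP inf_le_left)
    intro k
    constructor
    · rintro ⟨c, rfl⟩ s
      rw [Subgroup.mem_subgroupOf]
      show ((MulAut.conjNormal (s : G) : MulAut K) (iotaM K N c) : G) * ((iotaM K N c : K) : G)⁻¹ ∈ Q
      rw [MulAut.conjNormal_apply, iotaM_coe]
      apply hPKQ
      have hcN : ((c : N) : G) ∈ Subgroup.normalizer ((P : Subgroup G) : Set G) := by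
        rw [← hN]
        exact (c : N).2
      have hcK : ((c : N) : G) ∈ K := Subgroup.mem_subgroupOf.mp c.2
      refine ⟨?_, ?_⟩
      · have h1 : ((c : N) : G) * (s : G)⁻¹ * ((c : N) : G)⁻¹ ∈ (P : Subgroup G) :=
          (Subgroup.mem_normalizer_iff.1 hcN _).1 ((P : Subgroup G).inv_mem s.2)
        have h2 : (s : G) * ((c : N) : G) * (s : G)⁻¹ * ((c : N) : G)⁻¹ =
            (s : G) * (((c : N) : G) * (s : G)⁻¹ * ((c : N) : G)⁻¹) := by group
        rw [h2]
        exact (P : Subgroup G).mul_mem s.2 h1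
      · exact K.mul_mem (hK.conj_mem _ hcK _) (K.inv_mem hcK)
    · intro h
      have hkN : (k : G) ∈ N := by
        rw [hN]
        apply mem_normalizer_of_conj_mem
        intro s hs
        have h1 := h ⟨s⁻¹, (P : Subgroup G).inv_mem hs⟩
        rw [Subgroup.mem_subgroupOf] at h1
        have h2 : ((MulAut.conjNormal (s⁻¹ : G) : MulAut K) k : G) * ((k : K) : G)⁻¹ ∈ Q := h1
        rw [MulAut.conjNormal_apply, inv_inv] at h2
        have h3 : (k : G) * s * (k : G)⁻¹ = s * (s⁻¹ * (k : G) * s * (k : G)⁻¹) := by group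
        rw [h3]
        exact (P : Subgroup G).mul_mem hs (hQP h2)
      refine ⟨⟨⟨(k : G), hkN⟩, Subgroup.mem_subgroupOf.mpr k.2⟩, ?_⟩
      apply Subtype.ext
      rfl
  cardS := IsPGroup.iff_card.mp P.isPGroup'
  idx := hQidx
  cardQ := IsPGroup.iff_card.mp (hQp.comap_subtype)

end setup

section transport

variable {C S : Type u} [Group C] [Group S] [Fintype C]

/-- transport of `GoodInv` along a bijection of `C` compatible with the invariant characters -/
theorem goodInv_transport (p : ℕ) (φC : S →* MulAut C) (b : C ≃ C)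
    (T T' : IrrCharacter C → IrrCharacter C)
    (hT : ∀ (ξ : IrrCharacter C) (c : C), (T ξ : C → ℂ) c = (ξ : C → ℂ) (b c))
    (hTT' : ∀ ξ, T (T' ξ) = ξ)
    (hinv : ∀ ξ : IrrCharacter C, SInv φC (ξ : C → ℂ) → SInv φC (T' ξ : C → ℂ))
    (Φ : C → ℂ) (ξ : IrrCharacter C) (h : GoodInv p φC Φ ξ) :
    GoodInv p φC (fun c => Φ (b c)) (T ξ) := by
  have key : ∀ ξ' : IrrCharacter C,
      classInner (fun c => Φ (b c)) (T ξ' : C → ℂ) = classInner Φ (ξ' : C → ℂ) := by
    intro ξ'
    unfold classInner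
    congr 1
    exact Fintype.sum_equiv b _ _ (fun c => by rw [hT])
  refine ⟨?_, ?_⟩
  · obtain ⟨m, ε, hε, hm⟩ := h.1
    exact ⟨m, ε, hε, by rw [key, hm]⟩
  · intro ξ'' hinv'' hne
    have h1 : T' ξ'' ≠ ξ := fun h0 => hne (by rw [← h0, hTT'])
    obtain ⟨m', hm'⟩ := h.2 (T' ξ'') (hinv ξ'' hinv'') h1
    refine ⟨m', ?_⟩
    have h2 := key (T' ξ'')
    rw [hTT'] at h2
    rw [h2, hm']

end transport

section rel

variable {G : Type u} [Group G] [Finite G] (p : ℕ) [hp : Fact p.Prime] (K : Subgroup G)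
  [hK : K.Normal] (N P : Subgroup G) (hPN : P ≤ N) [Fintype K] [Fintype (K.subgroupOf N)]

/-- the correspondence, as a relation -/
def Rel (θ : IrrCharacter K) (η : IrrCharacter (K.subgroupOf N)) : Prop :=
  SInv (phiK K P) (θ : K → ℂ) ∧ SInv (phiM K N P hPN) (η : K.subgroupOf N → ℂ) ∧
    GoodInv p (phiM K N P hPN) (fun c => (θ : K → ℂ) (iotaM K N c)) η

variable {p K N P hPN}

theorem rel_conj {θ : IrrCharacter K} {η : IrrCharacter (K.subgroupOf N)}
    (h : Rel p K N P hPN θ η) : Rel p K N P hPN (conjIrr θ) (conjIrr η) := by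
  obtain ⟨h1, h2, h3⟩ := h
  have hinvM : ∀ ξ : IrrCharacter (K.subgroupOf N),
      SInv (phiM K N P hPN) (ξ : K.subgroupOf N → ℂ) →
      SInv (phiM K N P hPN) (conjIrr ξ : K.subgroupOf N → ℂ) := by
    intro ξ hξ s k
    show (ξ : K.subgroupOf N → ℂ) ((phiM K N P hPN s k)⁻¹) = (ξ : K.subgroupOf N → ℂ) k⁻¹
    rw [← map_inv]
    exact hξ s k⁻¹
  refine ⟨?_, hinvM η h2, ?_⟩
  · intro s k
    show (θ : K → ℂ) ((phiK K P s k)⁻¹) = (θ : K → ℂ) k⁻¹
    rw [← map_inv]
    exact h1 s k⁻¹
  · have h4 := goodInv_transport p (phiM K N P hPN) (Equiv.inv (K.subgroupOf N))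
      conjIrr conjIrr (fun ξ c => rfl)
      (fun ξ => by
        apply Subtype.ext
        funext c
        rw [conjIrr_apply, conjIrr_apply, inv_inv])
      hinvM _ η h3
    have h5 : (fun c : K.subgroupOf N => (θ : K → ℂ) (iotaM K N (Equiv.inv (K.subgroupOf N) c))) =
        fun c => (conjIrr θ : K → ℂ) (iotaM K N c) := by
      funext c
      rw [conjIrr_apply, ← map_inv]
      rfl
    rw [h5] at h4
    exact h4

theorem rel_smul (hNP : N ≤ Subgroup.normalizer (P : Set G)) {θ : IrrCharacter K}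
    {η : IrrCharacter (K.subgroupOf N)}
    (h : Rel p K N P hPN θ η) (n : N) : Rel p K N P hPN ((n : G) • θ) (n • η) := by
  obtain ⟨h1, h2, h3⟩ := h
  have hconj : ∀ (m : N) (y : G), y ∈ P → (m : G)⁻¹ * y * (m : G) ∈ P := by
    intro m y hy
    have h4 := (Subgroup.mem_normalizer_iff.1 (hNP (N.inv_mem m.2)) y).1 hy
    rw [inv_inv] at h4
    exact h4
  have hinvM : ∀ (m : N) (ξ : IrrCharacter (K.subgroupOf N)),
      SInv (phiM K N P hPN) (ξ : K.subgroupOf N → ℂ) →
      SInv (phiM K N P hPN) ((m • ξ : IrrCharacter (K.subgroupOf N)) : K.subgroupOf N → ℂ) := by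
    intro m ξ hξ
    rw [sInv_phiM_iff] at hξ ⊢
    intro y hy
    rw [mem_stab_smul_iff]
    apply hξ
    rw [Subgroup.mem_subgroupOf] at hy ⊢
    exact hconj m _ hy
  refine ⟨?_, hinvM n η h2, ?_⟩
  · rw [sInv_phiK_iff] at h1 ⊢
    intro y hy
    rw [mem_stab_smul_iff]
    exact h1 (hconj n y hy)
  · have h4 := goodInv_transport p (phiM K N P hPN)
      ((MulAut.conjNormal n⁻¹ : MulAut (K.subgroupOf N)).toEquiv)
      (fun ξ => n • ξ) (fun ξ => n⁻¹ • ξ) (fun ξ c => rfl)
      (fun ξ => smul_inv_smul n ξ)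
      (fun ξ hξ => hinvM n⁻¹ ξ hξ) _ η h3
    have h5 : (fun c : K.subgroupOf N => (θ : K → ℂ)
        (iotaM K N ((MulAut.conjNormal n⁻¹ : MulAut (K.subgroupOf N)).toEquiv c))) =
        fun c => (((n : G) • θ : IrrCharacter K) : K → ℂ) (iotaM K N c) := by
      funext c
      rw [smul_irr_apply]
      congr 1
    rw [h5] at h4
    exact h4

variable {Q' : Subgroup K} (hS : Setup p (phiK K P) (phiM K N P hPN) (iotaM K N) Q')

include hS in
theorem rel_exists_right (θ : IrrCharacter K) (hθ : SInv (phiK K P) (θ : K → ℂ)) :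
    ∃ η, Rel p K N P hPN θ η := by
  obtain ⟨η, h1, h2⟩ := (rel_corr hS).1 θ hθ
  exact ⟨η, hθ, h1, h2⟩

include hS in
theorem rel_exists_left (η : IrrCharacter (K.subgroupOf N))
    (hη : SInv (phiM K N P hPN) (η : K.subgroupOf N → ℂ)) :
    ∃ θ, Rel p K N P hPN θ η := by
  obtain ⟨θ, h1, h2⟩ := (rel_corr hS).2.2 η hη
  exact ⟨θ, h1, hη, h2⟩

include hS in
theorem rel_left_unique {θ θ' : IrrCharacter K} {η : IrrCharacter (K.subgroupOf N)}
    (h : Rel p K N P hPN θ η) (h' : Rel p K N P hPN θ' η) : θ = θ' :=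
  (rel_corr hS).2.1 θ θ' h.1 h'.1 η h.2.1 h.2.2 h'.2.2

theorem rel_right_unique {θ : IrrCharacter K} {η η' : IrrCharacter (K.subgroupOf N)}
    (h : Rel p K N P hPN θ η) (h' : Rel p K N P hPN θ η') : η = η' :=
  (GoodInv.unique hp.out.two_le h'.2.2 h.2.2 h.2.1)

include hS in
theorem rel_degree {θ : IrrCharacter K} {η : IrrCharacter (K.subgroupOf N)}
    (h : Rel p K N P hPN θ η) {dθ dη : ℕ} (hdθ : (θ : K → ℂ) 1 = dθ)
    (hdη : (η : K.subgroupOf N → ℂ) 1 = dη) :
    (dη : ZMod p) = (dθ : ZMod p) ∨ (dη : ZMod p) = -(dθ : ZMod p) :=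
  degree_congr hS θ h.1 η h.2.1 h.2.2 hdθ hdη

include hS in
theorem rel_real_iff {θ : IrrCharacter K} {η : IrrCharacter (K.subgroupOf N)}
    (h : Rel p K N P hPN θ η) :
    (∀ k, ((θ : K → ℂ) k).im = 0) ↔ (∀ c, ((η : K.subgroupOf N → ℂ) c).im = 0) := by
  rw [real_iff_conjIrr_eq, real_iff_conjIrr_eq]
  constructor
  · intro h1
    have h2 := rel_conj h
    rw [h1] at h2
    exact (rel_right_unique h h2).symm
  · intro h1
    have h2 := rel_conj h
    rw [h1] at h2
    exact rel_left_unique hS h2 h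

include hS in
theorem rel_stab (hNP : N ≤ Subgroup.normalizer (P : Set G)) {θ : IrrCharacter K}
    {η : IrrCharacter (K.subgroupOf N)} (h : Rel p K N P hPN θ η) (n : N) :
    n ∈ stab (K.subgroupOf N) (η : K.subgroupOf N → ℂ) ↔ (n : G) ∈ stab K (θ : K → ℂ) := by
  rw [mem_stab_iff, mem_stab_iff]
  have h2 := rel_smul hNP h n
  constructor
  · intro h1
    rw [h1] at h2
    exact rel_left_unique hS h2 h
  · intro h1
    rw [h1] at h2
    exact rel_right_unique h2 h

end rel

end Cfsg.Agent.Lib.Helper77_RealMcKayB
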