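import Mathlib
import Cfsg.Prelude.Def_Characters
import Cfsg.Agent.Lib.Helper77_RealCliff
import Cfsg.Agent.Lib.Helper77_RealMcKayA
import Cfsg.Agent.Lib.Helper77_RealMcKayB
import Cfsg.Agent.Lib.Helper77_RealDegD
import Cfsg.Agent.Lib.Helper77_BlockBasics

/-!
# The real McKay bijection of Isaacs--Navarro (helper77)
-/

set_option autoImplicit false
set_option linter.unusedSectionVars false

namespace Cfsg.Agent.Lib.Helper77_RealMcKayC

open Cfsg
open Cfsg.Agent.S4866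
open Cfsg.Agent.Lib.Helper82_ItoMichler
open Cfsg.Agent.Lib.Helper75_Clifford (res)
open Cfsg.Agent.Lib.Helper75_RelGlaubQuot Cfsg.Agent.Lib.Helper75_RelGlaubMain
open Cfsg.Agent.Lib.Helper77_RealCliff Cfsg.Agent.Lib.Helper77_RealMcKayA
  Cfsg.Agent.Lib.Helper77_RealMcKayB
open Cfsg.Agent.Lib.Helper77_BlockBasics (apply_one_eq_charDegree)

universe u

section general

variable {Y : Type u} [Group Y] [Fintype Y] (L : Subgroup Y) [hL : L.Normal] [Fintype L]

theorem smul_coe (θ : IrrCharacter L) (g : Y) :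
    ((g • θ : IrrCharacter L) : L → ℂ) = Helper75_Clifford.conjFun L hL (θ : L → ℂ) g⁻¹ := by
  rw [Helper75_Clifford.conjFun_eq_comp]
  rfl

/-- conjugates of a constituent are constituents -/
theorem over_smul (χ : IrrCharacter Y) (θ : IrrCharacter L) (g : Y)
    (h : classInner (res L (χ : Y → ℂ)) (θ : L → ℂ) ≠ 0) :
    classInner (res L (χ : Y → ℂ)) ((g • θ : IrrCharacter L) : L → ℂ) ≠ 0 := by
  rw [smul_coe, Helper75_Clifford.classInner_res_conjFun L hL
    (Cfsg.Agent.Lib.Helper3_CharBridge.isClassFunction_of_isIrrCharacter χ.2)]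
  exact h

/-- constituents are conjugate -/
theorem exists_smul_eq_of_over (χ : IrrCharacter Y) (θ θ' : IrrCharacter L)
    (h : classInner (res L (χ : Y → ℂ)) (θ : L → ℂ) ≠ 0)
    (h' : classInner (res L (χ : Y → ℂ)) (θ' : L → ℂ) ≠ 0) : ∃ g : Y, θ' = g • θ := by
  obtain ⟨g, hg⟩ := Helper75_Clifford.exists_conj_of_constituent L hL χ.2 θ.2 θ'.2 h h'
  refine ⟨g⁻¹, ?_⟩
  apply Subtype.ext
  rw [smul_coe, inv_inv]
  exact hg

/-- the degree of a real character over a real character, in natural numbers -/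
theorem charDegree_of_real_over (hodd : Odd L.index) (θ : IrrCharacter L)
    (hθ : ∀ h, ((θ : L → ℂ) h).im = 0) (χ : IrrCharacter Y)
    (hχ : ∀ x, ((χ : Y → ℂ) x).im = 0)
    (h : classInner (res L (χ : Y → ℂ)) (θ : L → ℂ) ≠ 0) :
    charDegree (χ : Y → ℂ) = (stab L (θ : L → ℂ)).index * charDegree (θ : L → ℂ) := by
  have h1 := degree_of_real_over L hodd θ hθ χ hχ h
  rw [apply_one_eq_charDegree χ, apply_one_eq_charDegree θ] at h1
  exact_mod_cast h1

end general

section main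

variable {G : Type u} [Group G] [Fintype G] (p : ℕ) [hp : Fact p.Prime]
  (K : Subgroup G) [hK : K.Normal] [Fintype K] (hodd : Odd K.index)
  (P : Sylow p G) (N : Subgroup G) [Fintype N] [Fintype (K.subgroupOf N)]
  (hN : N = Subgroup.normalizer ((P : Subgroup G) : Set G))
  (hPN : (P : Subgroup G) ≤ N)
  {Q' : Subgroup K}
  (hS : Setup p (phiK K (P : Subgroup G)) (phiM K N (P : Subgroup G) hPN) (iotaM K N) Q')
  (hreal : ∀ χ : IrrCharacter G, (∀ g, ((χ : G → ℂ) g).im = 0) →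
    ¬ p ∣ charDegree (χ : G → ℂ))

include hodd hreal in
/-- a real character of `G` lies over a `P`-invariant real character of `K` -/
theorem exists_inv_real_under (χ : IrrCharacter G) (hχ : ∀ g, ((χ : G → ℂ) g).im = 0) :
    ∃ θ : IrrCharacter K, (∀ k, ((θ : K → ℂ) k).im = 0) ∧
      classInner (res K (χ : G → ℂ)) (θ : K → ℂ) ≠ 0 ∧
      (P : Subgroup G) ≤ stab K (θ : K → ℂ) := by
  obtain ⟨θ₀, hθ₀⟩ := Cfsg.Agent.Lib.Helper77_RealDegA.exists_constituent_res K χ
  have hθ₀r := real_of_constituent K hodd χ hχ θ₀ hθ₀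
  have hdeg := charDegree_of_real_over K hodd θ₀ hθ₀r χ hχ hθ₀
  have hnd : ¬ p ∣ (stab K (θ₀ : K → ℂ)).index := by
    intro h
    apply hreal χ hχ
    rw [hdeg]
    exact Dvd.dvd.mul_right h _
  obtain ⟨g, hg⟩ := Cfsg.Agent.Lib.Helper77_RealDegD.exists_conj_le_of_index p
    (stab K (θ₀ : K → ℂ)) (P : Subgroup G) P.isPGroup' hnd
  refine ⟨g • θ₀, fun k => hθ₀r _, over_smul K χ θ₀ g hθ₀, ?_⟩
  intro y hy
  rw [mem_stab_smul_iff]
  exact hg y hy

include hN in
/-- a character of `K ∩ N` whose inertia group has index prime to `p` is `P`-invariant -/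
theorem sInv_of_index (η : IrrCharacter (K.subgroupOf N))
    (hnd : ¬ p ∣ (stab (K.subgroupOf N) (η : K.subgroupOf N → ℂ)).index) :
    SInv (phiM K N (P : Subgroup G) hPN) (η : K.subgroupOf N → ℂ) := by
  rw [sInv_phiM_iff]
  have hPNn : ((P : Subgroup G).subgroupOf N).Normal :=
    (Subgroup.normal_subgroupOf_iff_le_normalizer hPN).2 hN.le
  have hPNp : IsPGroup p ((P : Subgroup G).subgroupOf N) := P.isPGroup'.comap_subtype
  obtain ⟨g, hg⟩ := Cfsg.Agent.Lib.Helper77_RealDegD.exists_conj_le_of_index p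
    (stab (K.subgroupOf N) (η : K.subgroupOf N → ℂ)) ((P : Subgroup G).subgroupOf N) hPNp hnd
  intro x hx
  have h1 := hg (g * x * g⁻¹) (hPNn.conj_mem x hx g)
  have e : g⁻¹ * (g * x * g⁻¹) * g = x := by group
  rw [e] at h1
  exact h1

include hN in
/-- `P`-invariant conjugate characters are conjugate under the normalizer of `P` -/
theorem exists_normalizer_smul_eq (θ : IrrCharacter K) (g : G)
    (h1 : (P : Subgroup G) ≤ stab K (θ : K → ℂ))
    (h2 : (P : Subgroup G) ≤ stab K ((g • θ : IrrCharacter K) : K → ℂ)) :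
    ∃ n : N, g • θ = (n : G) • θ := by
  have h3 : ((g • P : Sylow p G) : Subgroup G) ≤ stab K ((g • θ : IrrCharacter K) : K → ℂ) := by
    rw [Sylow.coe_subgroup_smul]
    rintro _ ⟨s, hs, rfl⟩
    rw [mem_stab_smul_iff]
    show g⁻¹ * (MulAut.conj g s) * g ∈ stab K (θ : K → ℂ)
    rw [MulAut.conj_apply]
    have e : g⁻¹ * (g * s * g⁻¹) * g = s := by group
    rw [e]
    exact h1 hs
  obtain ⟨t, ht, htP⟩ := exists_mem_smul_eq p (g • P) P
    (stab K ((g • θ : IrrCharacter K) : K → ℂ)) h3 h2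
  have h4 : (t * g) • P = P := by
    rw [mul_smul]
    exact htP
  have h5 : t * g ∈ N := by
    rw [hN]
    exact Sylow.smul_eq_iff_mem_normalizer.1 h4
  refine ⟨⟨t * g, h5⟩, ?_⟩
  show g • θ = (t * g) • θ
  rw [mul_smul]
  exact ((mem_stab_iff K (g • θ) t).1 ht).symm

/-- the data linking a character of `G` and a character of `N` -/
def Data (χ : IrrCharacter G) (ξ : IrrCharacter N) : Prop :=
  ∃ (θ : IrrCharacter K) (η : IrrCharacter (K.subgroupOf N)),
    (∀ k, ((θ : K → ℂ) k).im = 0) ∧ classInner (res K (χ : G → ℂ)) (θ : K → ℂ) ≠ 0 ∧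
    Rel p K N (P : Subgroup G) hPN θ η ∧
    classInner (res (K.subgroupOf N) (ξ : N → ℂ)) (η : K.subgroupOf N → ℂ) ≠ 0

include hodd hreal hS in
theorem exists_data (χ : IrrCharacter G) (hχ : ∀ g, ((χ : G → ℂ) g).im = 0) :
    ∃ ξ : IrrCharacter N, (∀ n, ((ξ : N → ℂ) n).im = 0) ∧ Data p K P N hPN χ ξ := by
  have hoddM : Odd (K.subgroupOf N).index :=
    Odd.of_dvd_nat hodd (Subgroup.relIndex_dvd_index_of_normal K N)
  obtain ⟨θ, hθr, hθo, hθP⟩ := exists_inv_real_under p K hodd P hreal χ hχ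
  obtain ⟨η, hrel⟩ := rel_exists_right hS θ ((sInv_phiK_iff K (P : Subgroup G) θ).2 hθP)
  have hηr := (rel_real_iff hS hrel).1 hθr
  obtain ⟨ξ, hξr, hξo, -⟩ := exists_real_over_degree (K.subgroupOf N) hoddM η hηr
  exact ⟨ξ, hξr, θ, η, hθr, hθo, hrel, hξo⟩

include hodd hS hN in
theorem data_degree (χ : IrrCharacter G) (hχ : ∀ g, ((χ : G → ℂ) g).im = 0)
    (ξ : IrrCharacter N) (hξ : ∀ n, ((ξ : N → ℂ) n).im = 0) (h : Data p K P N hPN χ ξ) :
    (charDegree (ξ : N → ℂ) : ZMod p) = (charDegree (χ : G → ℂ) : ZMod p) ∨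
      (charDegree (ξ : N → ℂ) : ZMod p) = -(charDegree (χ : G → ℂ) : ZMod p) := by
  have hoddM : Odd (K.subgroupOf N).index :=
    Odd.of_dvd_nat hodd (Subgroup.relIndex_dvd_index_of_normal K N)
  obtain ⟨θ, η, hθr, hθo, hrel, hηo⟩ := h
  have hηr := (rel_real_iff hS hrel).1 hθr
  have hθP : (P : Subgroup G) ≤ stab K (θ : K → ℂ) :=
    (sInv_phiK_iff K (P : Subgroup G) θ).1 hrel.1
  have dχ := charDegree_of_real_over K hodd θ hθr χ hχ hθo
  have dξ := charDegree_of_real_over (K.subgroupOf N) hoddM η hηr ξ hξ hηo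
  have hidx : (stab (K.subgroupOf N) (η : K.subgroupOf N → ℂ)).index =
      (stab K (θ : K → ℂ)).relIndex N := by
    have h1 : stab (K.subgroupOf N) (η : K.subgroupOf N → ℂ) =
        (stab K (θ : K → ℂ)).subgroupOf N := by
      ext n
      rw [Subgroup.mem_subgroupOf]
      exact rel_stab hS hN.le hrel n
    rw [h1]
    rfl
  have hmod : (stab K (θ : K → ℂ)).index ≡ (stab K (θ : K → ℂ)).relIndex N [MOD p] := by
    rw [hN]
    exact index_modEq_relIndex_normalizer p P _ hθP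
  have hmod' : (((stab K (θ : K → ℂ)).index : ℕ) : ZMod p) =
      (((stab K (θ : K → ℂ)).relIndex N : ℕ) : ZMod p) :=
    (ZMod.natCast_eq_natCast_iff _ _ _).2 hmod
  have hdeg := rel_degree hS hrel (apply_one_eq_charDegree θ) (apply_one_eq_charDegree η)
  rw [dχ, dξ, hidx]
  push_cast
  rw [hmod']
  rcases hdeg with h | h
  · left
    rw [h]
  · right
    rw [h]
    ring

include hodd hS hN in
theorem data_injective (χ χ' : IrrCharacter G) (hχ : ∀ g, ((χ : G → ℂ) g).im = 0)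
    (hχ' : ∀ g, ((χ' : G → ℂ) g).im = 0) (ξ : IrrCharacter N)
    (h : Data p K P N hPN χ ξ) (h' : Data p K P N hPN χ' ξ) : χ = χ' := by
  obtain ⟨θ, η, hθr, hθo, hrel, hηo⟩ := h
  obtain ⟨θ', η', hθr', hθo', hrel', hηo'⟩ := h'
  obtain ⟨n, hn⟩ := exists_smul_eq_of_over (K.subgroupOf N) ξ η η' hηo hηo'
  have h1 := rel_smul hN.le hrel n
  rw [← hn] at h1
  have h2 : (n : G) • θ = θ' := rel_left_unique hS h1 hrel'
  have h3 := over_smul K χ θ (n : G) hθo
  rw [h2] at h3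
  exact real_over_unique K hodd θ' χ χ' hχ hχ' h3 hθo'

include hodd hS hN in
theorem data_surjective (ξ : IrrCharacter N) (hξ : ∀ n, ((ξ : N → ℂ) n).im = 0)
    (hξp : ¬ p ∣ charDegree (ξ : N → ℂ)) :
    ∃ χ : IrrCharacter G, (∀ g, ((χ : G → ℂ) g).im = 0) ∧
      ∀ ξ' : IrrCharacter N, (∀ n, ((ξ' : N → ℂ) n).im = 0) → Data p K P N hPN χ ξ' →
        ξ' = ξ := by
  have hoddM : Odd (K.subgroupOf N).index :=
    Odd.of_dvd_nat hodd (Subgroup.relIndex_dvd_index_of_normal K N)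
  obtain ⟨η, hηo⟩ := Cfsg.Agent.Lib.Helper77_RealDegA.exists_constituent_res (K.subgroupOf N) ξ
  have hηr := real_of_constituent (K.subgroupOf N) hoddM ξ hξ η hηo
  have dξ := charDegree_of_real_over (K.subgroupOf N) hoddM η hηr ξ hξ hηo
  have hnd : ¬ p ∣ (stab (K.subgroupOf N) (η : K.subgroupOf N → ℂ)).index := by
    intro h
    apply hξp
    rw [dξ]
    exact Dvd.dvd.mul_right h _
  have hηS := sInv_of_index p K P N hN hPN η hnd
  obtain ⟨θ, hrel⟩ := rel_exists_left hS η hηS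
  have hθr := (rel_real_iff hS hrel).2 hηr
  obtain ⟨χ, hχr, hχo, -⟩ := exists_real_over_degree K hodd θ hθr
  refine ⟨χ, hχr, ?_⟩
  rintro ξ' hξ'r ⟨θ', η', hθ'r, hθ'o, hrel', hη'o⟩
  obtain ⟨g, hg⟩ := exists_smul_eq_of_over K χ θ θ' hχo hθ'o
  have hθP : (P : Subgroup G) ≤ stab K (θ : K → ℂ) :=
    (sInv_phiK_iff K (P : Subgroup G) θ).1 hrel.1
  have hθ'P : (P : Subgroup G) ≤ stab K (θ' : K → ℂ) :=
    (sInv_phiK_iff K (P : Subgroup G) θ').1 hrel'.1
  rw [hg] at hθ'P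
  obtain ⟨n, hn⟩ := exists_normalizer_smul_eq p K P N hN θ g hθP hθ'P
  have h1 := rel_smul hN.le hrel n
  rw [← hn, ← hg] at h1
  have h2 : η' = n • η := rel_right_unique hrel' h1
  have h3 := over_smul (K.subgroupOf N) ξ η n hηo
  rw [← h2] at h3
  exact real_over_unique (K.subgroupOf N) hoddM η' ξ' ξ hξ'r hξ hη'o h3

end main

section final

open Cfsg.Agent.Lib.Helper77_RealDegB Cfsg.Agent.Lib.Helper77_RealDegD

/-- **Isaacs--Navarro, Theorem D**: the real McKay bijection with degrees congruent up to sign. -/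
theorem real_mckay {G : Type u} [Group G] [Finite G] (p : ℕ) [Fact p.Prime]
    (hsolv : Group.IsSolvable (pGen p G))
    (hreal : ∀ χ : IrrCharacter G, (∀ g, ((χ : G → ℂ) g).im = 0) →
      ¬ p ∣ charDegree (χ : G → ℂ))
    (P : Sylow p G) :
    ∃ f : {χ : IrrCharacter G // ∀ g : G, ((χ : G → ℂ) g).im = 0} →
        {ξ : IrrCharacter (Subgroup.normalizer ((P : Subgroup G) : Set G)) //
          (∀ n, ((ξ : Subgroup.normalizer ((P : Subgroup G) : Set G) → ℂ) n).im = 0) ∧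
          ¬ p ∣ charDegree (ξ : Subgroup.normalizer ((P : Subgroup G) : Set G) → ℂ)},
      Function.Bijective f ∧ ∀ χ,
        ((charDegree ((f χ).1 : Subgroup.normalizer ((P : Subgroup G) : Set G) → ℂ) : ZMod p) =
          (charDegree (χ.1 : G → ℂ) : ZMod p) ∨
        (charDegree ((f χ).1 : Subgroup.normalizer ((P : Subgroup G) : Set G) → ℂ) : ZMod p) =
          -(charDegree (χ.1 : G → ℂ) : ZMod p)) := by
  classical
  have : Fintype G := Fintype.ofFinite G
  obtain ⟨Q, hQn, hQp, hQK, hQidx⟩ := exists_normal_sylow_pGen p hsolv hreal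
  have hKn : (pGen 2 G).Normal := pGen_normal 2
  have : Fact (Nat.Prime 2) := ⟨Nat.prime_two⟩
  have hodd : Odd (pGen 2 G).index := by
    rw [← Nat.not_even_iff_odd, even_iff_two_dvd]
    exact not_dvd_index_pGen
  have : Fintype (pGen 2 G) := Fintype.ofFinite _
  have hPN : (P : Subgroup G) ≤ Subgroup.normalizer ((P : Subgroup G) : Set G) :=
    Subgroup.le_normalizer
  have : Fintype (Subgroup.normalizer ((P : Subgroup G) : Set G)) := Fintype.ofFinite _
  have : Fintype ((pGen 2 G).subgroupOf (Subgroup.normalizer ((P : Subgroup G) : Set G))) :=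
    Fintype.ofFinite _
  have hS := setup p (pGen 2 G) P Q hQp hQK hQidx _ rfl hPN
  have hex := fun χ : {χ : IrrCharacter G // ∀ g : G, ((χ : G → ℂ) g).im = 0} =>
    exists_data p (pGen 2 G) hodd P _ hPN hS hreal χ.1 χ.2
  choose F hFr hFd using hex
  have hdeg := fun χ : {χ : IrrCharacter G // ∀ g : G, ((χ : G → ℂ) g).im = 0} =>
    data_degree p (pGen 2 G) hodd P _ rfl hPN hS χ.1 χ.2 (F χ) (hFr χ) (hFd χ)
  have hFp : ∀ χ : {χ : IrrCharacter G // ∀ g : G, ((χ : G → ℂ) g).im = 0},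
      ¬ p ∣ charDegree ((F χ : IrrCharacter (Subgroup.normalizer ((P : Subgroup G) : Set G))) :
        Subgroup.normalizer ((P : Subgroup G) : Set G) → ℂ) := by
    intro χ hdvd
    apply hreal χ.1 χ.2
    have h0 := (ZMod.natCast_eq_zero_iff _ _).2 hdvd
    rw [← ZMod.natCast_eq_zero_iff]
    rcases hdeg χ with h | h
    · rw [← h, h0]
    · rw [h0] at h
      exact neg_eq_zero.1 h.symm
  refine ⟨fun χ => ⟨F χ, hFr χ, hFp χ⟩, ⟨?_, ?_⟩, hdeg⟩
  · intro χ χ' h
    have h1 : F χ = F χ' := congrArg Subtype.val h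
    apply Subtype.ext
    have h2 := hFd χ'
    rw [← h1] at h2
    exact data_injective p (pGen 2 G) hodd P _ rfl hPN hS χ.1 χ'.1 χ.2 χ'.2 (F χ) (hFd χ) h2
  · rintro ⟨ξ, hξr, hξp⟩
    obtain ⟨χ, hχr, hχ⟩ := data_surjective p (pGen 2 G) hodd P _ rfl hPN hS ξ hξr hξp
    refine ⟨⟨χ, hχr⟩, Subtype.ext ?_⟩
    show F ⟨χ, hχr⟩ = ξ
    exact hχ (F ⟨χ, hχr⟩) (hFr ⟨χ, hχr⟩) (hFd ⟨χ, hχr⟩)

end final

end Cfsg.Agent.Lib.Helper77_RealMcKayC
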