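import Mathlib
import Cfsg.Agent.Lib.Helper56_S3366Defs

/-!
helper77 — package COMPL of helper56's S3366 market: the complement `L = T ⟨y⟩`.
-/

set_option autoImplicit false
open Cfsg.Agent.Lib.Helper56_S3366Defs
open scoped commutatorElement

namespace Cfsg.Agent.Lib.Helper77_S3366_COMPL

/-- `|H ⊔ N| = |H| |N|` when `H` normalises `N` and `H ⊓ N = ⊥`. -/
theorem card_sup_of_le_normalizer {G : Type*} [Group G] (H N : Subgroup G)
    (hLE : H ≤ Subgroup.normalizer (N : Set G)) (hd : Disjoint H N) :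
    Nat.card ↥(H ⊔ N) = Nat.card H * Nat.card N := by
  rw [← Nat.card_prod]
  symm
  have hset := Subgroup.coe_mul_of_left_le_normalizer_right H N hLE
  refine Nat.card_congr (Equiv.ofBijective
    (fun p : H × N => (⟨(p.1 : G) * (p.2 : G), by
      have : (p.1 : G) * (p.2 : G) ∈ ((H ⊔ N : Subgroup G) : Set G) := by
        rw [hset]
        exact Set.mul_mem_mul p.1.2 p.2.2
      exact this⟩ : ↥(H ⊔ N))) ⟨?_, ?_⟩)
  · intro p p' h
    have h' : (p.1 : G) * (p.2 : G) = (p'.1 : G) * (p'.2 : G) := congrArg Subtype.val h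
    exact Subgroup.mul_injective_of_disjoint hd h'
  · rintro ⟨g, hg⟩
    have hg' : g ∈ ((H ⊔ N : Subgroup G) : Set G) := hg
    rw [hset] at hg'
    obtain ⟨h, hh, n, hn, rfl⟩ := hg'
    exact ⟨(⟨h, hh⟩, ⟨n, hn⟩), rfl⟩

variable {X : Type*} [Group X]

theorem exists_complement {Q Z : Subgroup X} {ψ : X →* SL2} (hS : Setting Q Z ψ)
    (z : X) (hfix : ∀ q ∈ Q, z * q * z⁻¹ = q → q ∈ Z)
    (T : Subgroup X) (hT8 : Nat.card T = 8) (hTz : ∀ t ∈ T, t * z = z * t)
    (hTn : ∀ n : X, n * z = z * n → ∀ t ∈ T, n * t * n⁻¹ ∈ T)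
    (y : X) (hyz : y * z = z * y) (hy3 : y ^ 3 = 1) (hyQ : y ∉ Q) :
    ∃ L : Subgroup X, Nat.card L = 24 ∧ L ⊓ Q = ⊥ ∧ ∀ l ∈ L, l * z = z * l := by
  have : Finite X := hS.fin
  have hy1 : y ≠ 1 := fun h => hyQ (h ▸ Q.one_mem)
  -- the order of `y`
  have hoy : orderOf y = 3 := by
    have hdvd : orderOf y ∣ 3 := orderOf_dvd_of_pow_eq_one hy3
    rcases (Nat.dvd_prime Nat.prime_three).mp hdvd with h | h
    · exact absurd (orderOf_eq_one_iff.mp h) hy1
    · exact h
  have hcY : Nat.card (Subgroup.zpowers y) = 3 := by rw [Nat.card_zpowers, hoy]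
  -- `⟨y⟩` normalises `T`
  have hYn : Subgroup.zpowers y ≤ Subgroup.normalizer (T : Set X) := by
    rw [Subgroup.zpowers_le]
    rw [Subgroup.mem_normalizer_iff]
    intro t
    constructor
    · intro ht
      exact hTn y hyz t ht
    · intro ht
      have hyi : y⁻¹ * z = z * y⁻¹ := by
        have : y⁻¹ * (y * z) * y⁻¹ = y⁻¹ * (z * y) * y⁻¹ := by rw [hyz]
        simpa [mul_assoc] using this.symm
      have := hTn y⁻¹ hyi _ ht
      simpa [mul_assoc] using this
  have hdisj : Disjoint (Subgroup.zpowers y) T := by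
    apply Subgroup.disjoint_of_coprime_natCard
    rw [hcY, hT8]
    decide
  set L : Subgroup X := Subgroup.zpowers y ⊔ T with hL
  have hLcard : Nat.card L = 24 := by
    rw [hL, card_sup_of_le_normalizer _ _ hYn hdisj, hcY, hT8]
  have hLz : ∀ l ∈ L, l * z = z * l := by
    have hle : L ≤ Subgroup.centralizer {z} := by
      rw [hL]
      apply sup_le
      · rw [Subgroup.zpowers_le, Subgroup.mem_centralizer_iff]
        intro h hh
        rw [Set.mem_singleton_iff] at hh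
        rw [hh]
        exact hyz.symm
      · intro t ht
        rw [Subgroup.mem_centralizer_iff]
        intro h hh
        rw [Set.mem_singleton_iff] at hh
        rw [hh]
        exact (hTz t ht).symm
    intro l hl
    have := hle hl
    rw [Subgroup.mem_centralizer_iff] at this
    exact (this z rfl).symm
  refine ⟨L, hLcard, ?_, hLz⟩
  -- `L ⊓ Q = ⊥`
  by_contra hne
  obtain ⟨⟨q, hqLQ⟩, hq1⟩ := (Subgroup.ne_bot_iff_exists_ne_one.mp hne)
  have hq1' : q ≠ 1 := fun h => hq1 (Subtype.ext h)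
  have hqL : q ∈ L := hqLQ.1
  have hqQ : q ∈ Q := hqLQ.2
  have hqZ : q ∈ Z := by
    apply hfix q hqQ
    rw [← hLz q hqL, mul_inv_cancel_right]
  -- `Z ≤ L`
  have : Fact (Nat.Prime 3) := ⟨Nat.prime_three⟩
  have hZL : Z ≤ L := by
    have htop : Subgroup.zpowers (⟨q, hqZ⟩ : Z) = ⊤ :=
      zpowers_eq_top_of_prime_card hS.Zcard (fun h => hq1' (congrArg Subtype.val h))
    intro ξ hξ
    have hmem : (⟨ξ, hξ⟩ : Z) ∈ Subgroup.zpowers (⟨q, hqZ⟩ : Z) := by rw [htop]; trivial
    obtain ⟨k, hk⟩ := Subgroup.mem_zpowers_iff.mp hmem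
    have hk' : q ^ k = ξ := by
      have := congrArg Subtype.val hk
      simpa using this
    rw [← hk']
    exact L.zpow_mem hqL k
  -- `T ⊔ Z = L`
  have := hS.Znormal
  have hdTZ : Disjoint T Z := by
    apply Subgroup.disjoint_of_coprime_natCard
    rw [hS.Zcard, hT8]
    decide
  have hTZcard : Nat.card ↥(T ⊔ Z) = 24 := by
    rw [card_sup_of_le_normalizer T Z Subgroup.le_normalizer_of_normal hdTZ, hT8, hS.Zcard]
  have hTZle : T ⊔ Z ≤ L := sup_le (by rw [hL]; exact le_sup_right) hZL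
  have hTZ : T ⊔ Z = L :=
    Subgroup.eq_of_le_of_card_ge hTZle (by rw [hTZcard, hLcard])
  have hyL : y ∈ T ⊔ Z := by
    rw [hTZ, hL]
    exact le_sup_left (a := Subgroup.zpowers y) (Subgroup.mem_zpowers y)
  have hyset : y ∈ ((T ⊔ Z : Subgroup X) : Set X) := hyL
  rw [Subgroup.mul_normal] at hyset
  obtain ⟨t, ht, ξ, hξ, hy⟩ := hyset
  -- modulo `Z`
  have ht8 : t ^ 8 = 1 := by
    have := pow_card_eq_one' (G := T) (x := ⟨t, ht⟩)
    rw [hT8] at this
    have h2 := congrArg Subtype.val this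
    simpa using h2
  have hπy : (QuotientGroup.mk' Z) y = (QuotientGroup.mk' Z) t := by
    simp only [QuotientGroup.mk'_apply]
    rw [QuotientGroup.eq]
    have : y⁻¹ * t = ξ⁻¹ := by
      simp only [← hy]
      group
    rw [this]
    exact Z.inv_mem hξ
  have h3 : ((QuotientGroup.mk' Z) y) ^ 3 = 1 := by rw [← map_pow, hy3, map_one]
  have h8 : ((QuotientGroup.mk' Z) y) ^ 8 = 1 := by rw [hπy, ← map_pow, ht8, map_one]
  have h1 : (QuotientGroup.mk' Z) y = 1 := by
    have h9 : ((QuotientGroup.mk' Z) y) ^ 9 = 1 := by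
      rw [show 9 = 3 * 3 by norm_num, pow_mul, h3, one_pow]
    have : ((QuotientGroup.mk' Z) y) ^ 9 = ((QuotientGroup.mk' Z) y) ^ 8 * (QuotientGroup.mk' Z) y := by
      rw [← pow_succ]
    rw [h9, h8, one_mul] at this
    exact this.symm
  have hyZ : y ∈ Z := by
    rw [QuotientGroup.mk'_apply, QuotientGroup.eq_one_iff] at h1
    exact h1
  exact hyQ (hS.ZleQ hyZ)

end Cfsg.Agent.Lib.Helper77_S3366_COMPL
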