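import Mathlib
import Cfsg.Agent.Lib.Helper77_SLnDefs
import Cfsg.Prelude.Def_Characters
import Cfsg.Agent.Lib.Helper3_RepDecomp
import Cfsg.Agent.Lib.Helper61_S2332_FIXVEC
import Cfsg.Agent.Lib.Helper55_S2332_WSNUM
import Cfsg.Agent.Lib.Helper60_S2332_PERFECT

/-!
# S2332-CARRYGEN (helper87, for helper77's market): going down one more level in the Levi factor

`carry_gen_of_internal` is the package statement with the second-level weight decomposition
(package WSDEC) as an explicit hypothesis `hint`; the verbatim `carry_gen` is the one-line wrapper in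
`Helper87_S2332_CARRYGENW.lean`.
-/

set_option autoImplicit false
set_option linter.unusedVariables false
open Matrix Cfsg.Agent.Lib.Helper5_Transv Cfsg.Agent.Lib.Helper77_SLnDefs
open Cfsg.Agent.Lib.Helper3_RepDecomp
open Cfsg.Agent.Lib.Helper61_S2332_FIXVEC Cfsg.Agent.Lib.Helper55_S2332_WSNUM
open Cfsg.Agent.Lib.Helper60_S2332_PERFECT
open scoped commutatorElement

namespace Cfsg.Agent.Lib.Helper87_S2332_CARRYGEN

section generic

variable {G : Type*} [Group G] {X : Type*} [AddCommGroup X] [Module ℂ X]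

/-- A perfect group acts trivially on a line. -/
theorem trivial_of_finrank_one (hperf : commutator G = ⊤) (σ : Representation ℂ G X)
    (h1 : Module.finrank ℂ X = 1) (g : G) (x : X) : σ g x = x := by
  obtain ⟨x0, hx0, hsp⟩ := finrank_eq_one_iff'.mp h1
  -- every `σ a` is a scalar
  have hsc : ∀ a : G, ∃ c : ℂ, ∀ y : X, σ a y = c • y := by
    intro a
    obtain ⟨c, hc⟩ := hsp (σ a x0)
    refine ⟨c, fun y => ?_⟩
    obtain ⟨d, hd⟩ := hsp y
    rw [← hd, map_smul, ← hc, smul_comm]
  have hker : commutator G ≤ (σ : G →* (X →ₗ[ℂ] X)).ker := by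
    rw [commutator_eq_closure, Subgroup.closure_le]
    rintro _ ⟨a, b, rfl⟩
    show σ ⁅a, b⁆ = 1
    obtain ⟨ca, hca⟩ := hsc a
    obtain ⟨cb, hcb⟩ := hsc b
    obtain ⟨ca', hca'⟩ := hsc a⁻¹
    obtain ⟨cb', hcb'⟩ := hsc b⁻¹
    have haa : ca * ca' = 1 := by
      have h : σ a (σ a⁻¹ x0) = x0 := by
        rw [← Module.End.mul_apply, ← map_mul, mul_inv_cancel, map_one, Module.End.one_apply]
      rw [hca', map_smul, hca, smul_smul] at h
      have h2 : (ca' * ca - 1) • x0 = 0 := by rw [sub_smul, h, one_smul, sub_self]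
      rcases smul_eq_zero.mp h2 with h3 | h3
      · rw [mul_comm]; exact sub_eq_zero.mp h3
      · exact absurd h3 hx0
    have hbb : cb * cb' = 1 := by
      have h : σ b (σ b⁻¹ x0) = x0 := by
        rw [← Module.End.mul_apply, ← map_mul, mul_inv_cancel, map_one, Module.End.one_apply]
      rw [hcb', map_smul, hcb, smul_smul] at h
      have h2 : (cb' * cb - 1) • x0 = 0 := by rw [sub_smul, h, one_smul, sub_self]
      rcases smul_eq_zero.mp h2 with h3 | h3
      · rw [mul_comm]; exact sub_eq_zero.mp h3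
      · exact absurd h3 hx0
    apply LinearMap.ext
    intro y
    rw [commutatorElement_def, map_mul, map_mul, map_mul, Module.End.mul_apply,
      Module.End.mul_apply, Module.End.mul_apply, hca, hcb, hca', hcb', smul_smul, smul_smul,
      smul_smul, Module.End.one_apply]
    have : ca * cb * ca' * cb' = 1 := by
      calc ca * cb * ca' * cb' = (ca * ca') * (cb * cb') := by ring
        _ = 1 := by rw [haa, hbb, one_mul]
    rw [this, one_smul]
  have hg : g ∈ (σ : G →* (X →ₗ[ℂ] X)).ker := hker (by rw [hperf]; trivial)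
  have h2 : σ g = 1 := hg
  rw [h2, Module.End.one_apply]

/-- If a representation has a nonzero vector fixed by `H`, some irreducible subrepresentation
has one too. -/
theorem exists_irr_sub_fixed [Finite G] [FiniteDimensional ℂ X] (σ : Representation ℂ G X)
    (H : Subgroup G) (hne : stabFix σ H ≠ ⊥) :
    ∃ (W : Submodule ℂ X) (hW : IsInv σ W), (subRep σ W hW).IsIrreducible ∧
      stabFix (subRep σ W hW) H ≠ ⊥ := by
  classical
  have : NeZero (Nat.card G : ℂ) := ⟨Nat.cast_ne_zero.mpr Nat.card_pos.ne'⟩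
  have hex : ∃ n : ℕ, ∃ W : Submodule ℂ X, IsInv σ W ∧ W ⊓ stabFix σ H ≠ ⊥ ∧
      Module.finrank ℂ W = n :=
    ⟨_, ⊤, fun g w _ => trivial, by rwa [top_inf_eq], rfl⟩
  obtain ⟨W, hW, hWf, hn⟩ := Nat.find_spec hex
  have hmin : ∀ U : Submodule ℂ X, IsInv σ U → U ⊓ stabFix σ H ≠ ⊥ → U ≤ W → U = W := by
    intro U hU hUf hUW
    have h1 : Nat.find hex ≤ Module.finrank ℂ U := Nat.find_min' hex ⟨U, hU, hUf, rfl⟩
    rw [← hn] at h1
    exact Submodule.eq_of_le_of_finrank_le hUW h1
  obtain ⟨w, hw, hw0⟩ := (Submodule.ne_bot_iff _).mp hWf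
  have hwW : w ∈ W := hw.1
  have hwF : ∀ h ∈ H, σ h w = w := hw.2
  have hWne : W ≠ ⊥ := by
    intro h0
    apply hWf
    rw [h0, bot_inf_eq]
  refine ⟨W, hW, isIrreducible_subRep_of_minimal σ W hW hWne ?_, ?_⟩
  · intro U hU hUW
    obtain ⟨U', hU', hc⟩ := exists_isInv_isCompl σ U hU
    -- decompose `w = a + b`
    have htop : w ∈ U ⊔ U' := by rw [hc.sup_eq_top]; trivial
    obtain ⟨a, ha, b, hb, hab⟩ := Submodule.mem_sup.mp htop
    have hbW : b ∈ W := by
      have : b = w - a := by rw [← hab]; abel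
      rw [this]
      exact W.sub_mem hwW (hUW ha)
    have hfix : ∀ h ∈ H, σ h a = a ∧ σ h b = b := by
      intro h hh
      have h1 := hwF h hh
      rw [← hab, map_add] at h1
      have h2 : σ h a - a = b - σ h b := by
        have : σ h a + σ h b - (a + σ h b) = a + b - (a + σ h b) := by rw [h1]
        calc σ h a - a = σ h a + σ h b - (a + σ h b) := by abel
          _ = a + b - (a + σ h b) := this
          _ = b - σ h b := by abel
      have h3 : σ h a - a ∈ U ⊓ U' := by
        refine ⟨U.sub_mem (hU h a ha) ha, ?_⟩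
        rw [h2]
        exact U'.sub_mem hb (hU' h b hb)
      rw [hc.inf_eq_bot, Submodule.mem_bot] at h3
      refine ⟨sub_eq_zero.mp h3, ?_⟩
      rw [h3] at h2
      exact (sub_eq_zero.mp h2.symm).symm
    by_cases ha0 : a = 0
    · left
      have hb0 : b ≠ 0 := by
        intro hb0
        apply hw0
        rw [← hab, ha0, hb0, add_zero]
      have hInv : IsInv σ (U' ⊓ W) := fun g x hx => ⟨hU' g x hx.1, hW g x hx.2⟩
      have hne' : (U' ⊓ W) ⊓ stabFix σ H ≠ ⊥ := by
        rw [Submodule.ne_bot_iff]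
        exact ⟨b, ⟨⟨hb, hbW⟩, fun h hh => (hfix h hh).2⟩, hb0⟩
      have h4 := hmin _ hInv hne' inf_le_right
      have h5 : W ≤ U' := by rw [← h4]; exact inf_le_left
      rw [eq_bot_iff]
      intro x hx
      have : x ∈ U ⊓ U' := ⟨hx, h5 (hUW hx)⟩
      rwa [hc.inf_eq_bot] at this
    · right
      have hne' : U ⊓ stabFix σ H ≠ ⊥ := by
        rw [Submodule.ne_bot_iff]
        exact ⟨a, ⟨ha, fun h hh => (hfix h hh).1⟩, ha0⟩
      exact hmin U hU hne' hUW
  · rw [Submodule.ne_bot_iff]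
    refine ⟨⟨w, hwW⟩, ?_, ?_⟩
    · intro h hh
      apply Subtype.ext
      rw [subRep_apply]
      exact hwF h hh
    · intro h0
      apply hw0
      exact congrArg Subtype.val h0

end generic


section main

variable {F : Type*} [Field F] [Fintype F] [DecidableEq F] {κ : Type} [Fintype κ] [DecidableEq κ]
  {V : Type} [AddCommGroup V] [Module ℂ V] [FiniteDimensional ℂ V]

/-- a nonzero invariant subspace on which the group acts trivially gives a nonzero invariant -/
theorem invariants_ne_bot_of_trivial_sub {G : Type*} [Group G] {X : Type*} [AddCommGroup X]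
    [Module ℂ X] (σ : Representation ℂ G X) (U : Submodule ℂ X) (hU : IsInv σ U) (hne : U ≠ ⊥)
    (htriv : ∀ (g : G) (x : U), subRep σ U hU g x = x) : σ.invariants ≠ ⊥ := by
  obtain ⟨x, hx, hx0⟩ := (Submodule.ne_bot_iff _).mp hne
  rw [Submodule.ne_bot_iff]
  refine ⟨x, ?_, hx0⟩
  rw [Representation.mem_invariants]
  intro g
  have := congrArg Subtype.val (htriv g ⟨x, hx⟩)
  rwa [subRep_apply] at this

theorem carry_gen_of_internal {κ2 : Type} [Fintype κ2] [DecidableEq κ2]
    (hκ2 : 2 ≤ Fintype.card κ2)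
    (hperf2 : commutator (Matrix.SpecialLinearGroup κ2 F) = ⊤)
    (ρ : Representation ℂ (Matrix.SpecialLinearGroup (Unit ⊕ (Unit ⊕ κ2)) F) V)
    (hirr : ρ.IsIrreducible) (ψ : AddChar F ℂ) (hψ : ψ ≠ 1) (f : ℕ) (hW : WData ρ ψ 1 f)
    (htr : ∀ u' : κ2 → F, u' ≠ 0 →
      LinearMap.trace ℂ (wsp ρ ψ (0 : Unit ⊕ κ2 → F)) (psiRep ρ ψ (xu u')) =
        (f : ℂ) - (Fintype.card F : ℂ) ^ Fintype.card κ2)
    (hnofix : (psiRep ρ ψ).invariants = ⊥)
    (ht3b : ∀ (Y : Type) [AddCommGroup Y] [Module ℂ Y] [FiniteDimensional ℂ Y]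
      (τ : Representation ℂ (Matrix.SpecialLinearGroup (Unit ⊕ κ2) F) Y), τ.IsIrreducible →
      stabFix τ (MulAction.stabilizer (Matrix.SpecialLinearGroup (Unit ⊕ κ2) F)
        (x0 : NZv (Unit ⊕ κ2) F)) ≠ ⊥ →
      Module.finrank ℂ Y = 1 ∨ NN (Fintype.card F) (Fintype.card κ2 + 1) - 1 ≤ Module.finrank ℂ Y)
    (hf : f + 2 ≤ NN (Fintype.card F) (Fintype.card κ2 + 1))
    (dmin : ℕ) (hmin : MinDeg F (Fintype.card κ2) dmin)
    (hint : DirectSum.IsInternal (fun v : κ2 → F => wsp (psiRep ρ ψ) ψ v)) :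
    f + 1 = Fintype.card F ^ Fintype.card κ2 ∨ Fintype.card F ^ Fintype.card κ2 + dmin ≤ f + 1 := by
  classical
  -- the second-level weight data
  obtain ⟨e', f', hW'⟩ := exists_wdata hκ2 (psiRep ρ ψ) ψ hψ hint
  have hf0 : Module.finrank ℂ (wsp ρ ψ (0 : Unit ⊕ κ2 → F)) = f := hW.hf
  have hD' := hW'.hD
  rw [hf0] at hD'
  -- a nonzero `u'`
  have hne : Nonempty κ2 := by
    rw [← Fintype.card_pos_iff]; omega
  obtain ⟨i⟩ := hne
  have hu' : (Pi.single i 1 : κ2 → F) ≠ 0 := by
    intro h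
    have := congrFun h i
    simp at this
  have h1 := hW'.htr _ hu'
  rw [htr _ hu'] at h1
  -- `Q = q ^ m2 = Q' + 1`
  have hQpos : 0 < Fintype.card F ^ Fintype.card κ2 := pow_pos Fintype.card_pos _
  obtain ⟨Q', hQ'⟩ := Nat.exists_eq_succ_of_ne_zero hQpos.ne'
  rw [hQ'] at hD'
  have hD'' : f = f' + e' * Q' := by rw [hD']; simp
  have hQc : (Fintype.card F : ℂ) ^ Fintype.card κ2 = (Q' : ℂ) + 1 := by
    have : ((Fintype.card F ^ Fintype.card κ2 : ℕ) : ℂ) = ((Q'.succ : ℕ) : ℂ) := by rw [hQ']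
    push_cast at this
    exact this
  rw [hQc, hD''] at h1
  push_cast at h1
  have he' : e' = 1 := by
    have h2 : ((e' * (Q' + 1) : ℕ) : ℂ) = ((Q' + 1 : ℕ) : ℂ) := by
      push_cast
      linear_combination h1
    have h3 : e' * (Q' + 1) = Q' + 1 := by exact_mod_cast h2
    have h4 : e' * (Q' + 1) = 1 * (Q' + 1) := by rw [h3, one_mul]
    exact Nat.eq_of_mul_eq_mul_right (Nat.succ_pos _) h4
  subst he'
  have hkey : f + 1 = f' + Fintype.card F ^ Fintype.card κ2 := by
    rw [hQ', hD'']; simp [Nat.succ_eq_add_one]; ring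
  by_cases hf'0 : f' = 0
  · left
    rw [hkey, hf'0, zero_add]
  right
  -- the claim: no invariant vectors at the second level
  have hcl : (psiRep (psiRep ρ ψ) ψ).invariants = ⊥ := by
    by_contra hne
    obtain ⟨w, hw, hw0⟩ := (Submodule.ne_bot_iff _).mp hne
    have hfix : stabFix (psiRep ρ ψ) (MulAction.stabilizer
        (Matrix.SpecialLinearGroup (Unit ⊕ κ2) F) (x0 : NZv (Unit ⊕ κ2) F)) ≠ ⊥ := by
      rw [Submodule.ne_bot_iff]
      refine ⟨(w : wsp ρ ψ (0 : Unit ⊕ κ2 → F)), ?_, ?_⟩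
      · rw [mem_invariants_stabilizer_iff (psiRep ρ ψ) ψ]
        exact ⟨w.2, hw⟩
      · intro h0
        apply hw0
        exact Subtype.ext h0
    obtain ⟨U, hU, hUirr, hUfix⟩ := exists_irr_sub_fixed (psiRep ρ ψ) _ hfix
    rcases ht3b U (subRep (psiRep ρ ψ) U hU) hUirr hUfix with h1U | hbig
    · -- dimension one: trivial action since the Levi factor is perfect
      have hperf1 : commutator (Matrix.SpecialLinearGroup (Unit ⊕ κ2) F) = ⊤ := by
        apply sl_perfect
        left
        rw [Fintype.card_sum, Fintype.card_unit]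
        omega
      have hUne : U ≠ ⊥ := by
        intro h0
        rw [h0, finrank_bot] at h1U
        exact zero_ne_one h1U
      exact invariants_ne_bot_of_trivial_sub (psiRep ρ ψ) U hU hUne
        (fun g x => trivial_of_finrank_one hperf1 _ h1U g x) hnofix
    · have hle : Module.finrank ℂ U ≤ f := by
        rw [← hf0]
        exact Submodule.finrank_le U
      omega
  -- an irreducible constituent of the second-level fixed space
  have hfr : Module.finrank ℂ (wsp (psiRep ρ ψ) ψ (0 : κ2 → F)) = f' := hW'.hf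
  have hnt : Nontrivial (wsp (psiRep ρ ψ) ψ (0 : κ2 → F)) := by
    apply Module.nontrivial_of_finrank_pos (R := ℂ)
    rw [hfr]
    omega
  obtain ⟨Z, hZ, hZne, hZirr⟩ := exists_irreducible_sub (psiRep (psiRep ρ ψ) ψ)
  have hZ2 : 2 ≤ Module.finrank ℂ Z := by
    by_contra hlt
    have hpos : 0 < Module.finrank ℂ Z := by
      have : Nontrivial Z := Submodule.nontrivial_iff_ne_bot.mpr hZne
      exact Module.finrank_pos (R := ℂ) (M := Z)
    have h1Z : Module.finrank ℂ Z = 1 := by omega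
    exact invariants_ne_bot_of_trivial_sub _ Z hZ hZne
      (fun g x => trivial_of_finrank_one hperf2 _ h1Z g x) hcl
  have hd := hmin κ2 rfl Z (subRep (psiRep (psiRep ρ ψ) ψ) Z hZ) hZirr hZ2
  have hle : Module.finrank ℂ Z ≤ f' := by
    rw [← hfr]
    exact Submodule.finrank_le Z
  omega

end main

end Cfsg.Agent.Lib.Helper87_S2332_CARRYGEN
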