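import Mathlib
import Cfsg.Agent.Lib.Helper77_SLnDefs
import Cfsg.Prelude.Def_Characters
import Cfsg.Agent.Lib.Helper30_S2332_INT
import Cfsg.Agent.Lib.Helper30_S2332_LINE2
import Cfsg.Agent.Lib.Helper30_S2332_LINE4
import Cfsg.Agent.Lib.Helper30_S2332_LINE5
import Cfsg.Agent.Lib.Helper30_S2332_ORBSPAN
import Cfsg.Agent.Lib.Helper30_S2332_REC
import Cfsg.Agent.Lib.Helper4_S2332_IRRSUB
import Cfsg.Agent.Lib.Helper51_S2332_S2336G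
import Cfsg.Agent.Lib.Helper51_S2332_SL24
import Cfsg.Agent.Lib.Helper52_S2332_TRACEA
import Cfsg.Agent.Lib.Helper52_S2332_TRACEC
import Cfsg.Agent.Lib.Helper53_S2332_B3ARITH
import Cfsg.Agent.Lib.Helper53_S2332_E2
import Cfsg.Agent.Lib.Helper53_S2332_NNFORM
import Cfsg.Agent.Lib.Helper53_S2332_PHANTOM
import Cfsg.Agent.Lib.Helper55_S2332_AVG
import Cfsg.Agent.Lib.Helper55_S2332_WSNUM
import Cfsg.Agent.Lib.Helper58_S2332_TRACEALL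
import Cfsg.Agent.Lib.Helper58_S2332_WSPDIAG
import Cfsg.Agent.Lib.Helper60_S2332_LINEGEN
import Cfsg.Agent.Lib.Helper60_S2332_NORMALIZE
import Cfsg.Agent.Lib.Helper60_S2332_PERFECT
import Cfsg.Agent.Lib.Helper60_S2332_TRANS
import Cfsg.Agent.Lib.Helper61_S2332_FIXVEC
import Cfsg.Agent.Lib.Helper61_S2332_INDEX
import Cfsg.Agent.Lib.Helper65_S2332_CLS
import Cfsg.Agent.Lib.Helper65_S2332_TRACEB
import Cfsg.Agent.Lib.Helper69_S2332_NONTRIV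
import Cfsg.Agent.Lib.Helper69_S2332_WSDEC
import Cfsg.Agent.Lib.Helper73_S2332_TRANSPORT
import Cfsg.Agent.Lib.Helper87_S2332_CARRYGEN

set_option autoImplicit false
open Matrix Cfsg.Agent.Lib.Helper5_Transv Cfsg.Agent.Lib.Helper77_SLnDefs

namespace Cfsg.Agent.Lib.Helper77_SLnPkg

variable {F : Type*} [Field F] [Fintype F] [DecidableEq F] {κ : Type} [Fintype κ] [DecidableEq κ]
  {V : Type} [AddCommGroup V] [Module ℂ V] [FiniteDimensional ℂ V]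


/-! ### WSDEC -/
theorem wsp_isInternal (ρ : Representation ℂ (Matrix.SpecialLinearGroup (Unit ⊕ κ) F) V)
    (ψ : AddChar F ℂ) (hψ : ψ ≠ 1) :
    DirectSum.IsInternal (fun v : κ → F => wsp ρ ψ v) :=
  Cfsg.Agent.Lib.Helper69_S2332_WSDEC.wsp_isInternal ρ ψ hψ

/-! ### WSNUM -/
theorem exists_wdata (hκ : 2 ≤ Fintype.card κ)
    (ρ : Representation ℂ (Matrix.SpecialLinearGroup (Unit ⊕ κ) F) V)
    (ψ : AddChar F ℂ) (hψ : ψ ≠ 1)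
    (hint : DirectSum.IsInternal (fun v : κ → F => wsp ρ ψ v)) : ∃ e f : ℕ, WData ρ ψ e f :=
  Cfsg.Agent.Lib.Helper55_S2332_WSNUM.exists_wdata hκ ρ ψ hψ hint

/-! ### NONTRIV -/
theorem one_le_e (hκ : 2 ≤ Fintype.card κ)
    (ρ : Representation ℂ (Matrix.SpecialLinearGroup (Unit ⊕ κ) F) V) (hirr : ρ.IsIrreducible)
    (h2 : 2 ≤ Module.finrank ℂ V) (ψ : AddChar F ℂ) (hψ : ψ ≠ 1) (e f : ℕ)
    (hW : WData ρ ψ e f) : 1 ≤ e :=
  Cfsg.Agent.Lib.Helper69_S2332_NONTRIV.one_le_e hκ ρ hirr h2 ψ hψ e f hW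

/-! ### CLS -/
theorem index_centralizer_xu (hκ : 2 ≤ Fintype.card κ) (u : κ → F) (hu : u ≠ 0) :
    (Subgroup.centralizer ({xu u} : Set (Matrix.SpecialLinearGroup (Unit ⊕ κ) F))).index =
      NN (Fintype.card F) (Fintype.card κ + 1) * (Fintype.card F ^ Fintype.card κ - 1) :=
  Cfsg.Agent.Lib.Helper65_S2332_CLS.index_centralizer_xu hκ u hu

/-! ### INT -/
theorem dvd_of_wdata (ρ : Representation ℂ (Matrix.SpecialLinearGroup (Unit ⊕ κ) F) V)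
    (hirr : ρ.IsIrreducible) (ψ : AddChar F ℂ) (e f : ℕ) (hW : WData ρ ψ e f)
    (u : κ → F) (hu : u ≠ 0) (N : ℕ)
    (hidx : (Subgroup.centralizer ({xu u} : Set (Matrix.SpecialLinearGroup (Unit ⊕ κ) F))).index = N) :
    Module.finrank ℂ V ∣ N * (e * Fintype.card F ^ Fintype.card κ) :=
  Cfsg.Agent.Lib.Helper30_S2332_INT.dvd_of_wdata ρ hirr ψ e f hW u hu N hidx

/-! ### LINEGEN -/
theorem comm_fixes_line {G : Type*} [Group G] {X : Type*} [AddCommGroup X] [Module ℂ X]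
    (ρ : Representation ℂ G X) (L : Submodule ℂ X) (hL : Module.finrank ℂ L = 1) (a b : G)
    (ha : ∀ w ∈ L, ρ a w ∈ L) (hb : ∀ w ∈ L, ρ b w ∈ L) (w : X) (hw : w ∈ L) :
    ρ (a * b * a⁻¹ * b⁻¹) w = w :=
  Cfsg.Agent.Lib.Helper60_S2332_LINEGEN.comm_fixes_line ρ L hL a b ha hb w hw

/-! ### WSPDIAG -/
theorem wsp_diagS (ρ : Representation ℂ (Matrix.SpecialLinearGroup (Unit ⊕ κ) F) V) (ψ : AddChar F ℂ)
    (d : Unit ⊕ κ → F) (hd : ∏ i, d i = 1) (v : κ → F) (w : V) (hw : w ∈ wsp ρ ψ v) :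
    ρ (diagS d hd) w ∈ wsp ρ ψ (fun i => (d (Sum.inl ()))⁻¹ * d (Sum.inr i) * v i) :=
  Cfsg.Agent.Lib.Helper58_S2332_WSPDIAG.wsp_diagS ρ ψ d hd v w hw

/-! ### LINE5, LINE4, LINE2 -/
theorem line_fixed_ge4 (hκ : 4 ≤ Fintype.card κ)
    (ρ : Representation ℂ (Matrix.SpecialLinearGroup (Unit ⊕ κ) F) V) (ψ : AddChar F ℂ)
    (j k : κ) (hjk : j ≠ k) (t : F) (v : κ → F) (hv0 : v ≠ 0) (hv : v k = 0)
    (h1 : Module.finrank ℂ (wsp ρ ψ v) = 1) (w : V) (hw : w ∈ wsp ρ ψ v) :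
    ρ (emb (rootEl j k hjk t)) w = w :=
  Cfsg.Agent.Lib.Helper30_S2332_LINE5.line_fixed_ge4 hκ ρ ψ j k hjk t v hv0 hv h1 w hw

theorem line_fixed_eq3 (hκ : Fintype.card κ = 3) (hq : 4 ≤ Fintype.card F)
    (ρ : Representation ℂ (Matrix.SpecialLinearGroup (Unit ⊕ κ) F) V) (ψ : AddChar F ℂ)
    (j k : κ) (hjk : j ≠ k) (t : F) (v : κ → F) (hv0 : v ≠ 0) (hv : v k = 0)
    (h1 : Module.finrank ℂ (wsp ρ ψ v) = 1) (w : V) (hw : w ∈ wsp ρ ψ v) :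
    ρ (emb (rootEl j k hjk t)) w = w :=
  Cfsg.Agent.Lib.Helper30_S2332_LINE4.line_fixed_eq3 hκ hq ρ ψ j k hjk t v hv0 hv h1 w hw

theorem line_fixed_eq2 (hκ : Fintype.card κ = 2) (hq2 : Fintype.card F ≠ 2)
    (hq4 : Fintype.card F ≠ 4)
    (ρ : Representation ℂ (Matrix.SpecialLinearGroup (Unit ⊕ κ) F) V) (ψ : AddChar F ℂ)
    (j k : κ) (hjk : j ≠ k) (t : F) (v : κ → F) (hv0 : v ≠ 0) (hv : v k = 0)
    (h1 : Module.finrank ℂ (wsp ρ ψ v) = 1) (w : V) (hw : w ∈ wsp ρ ψ v) :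
    ρ (emb (rootEl j k hjk t)) w = w :=
  Cfsg.Agent.Lib.Helper30_S2332_LINE2.line_fixed_eq2 hκ hq2 hq4 ρ ψ j k hjk t v hv0 hv h1 w hw

/-! ### TRACEA -/
theorem trace_emb_tvS (hκ : 2 ≤ Fintype.card κ)
    (ρ : Representation ℂ (Matrix.SpecialLinearGroup (Unit ⊕ κ) F) V)
    (ψ : AddChar F ℂ) (e f : ℕ) (hW : WData ρ ψ e f)
    (a φ : κ → F) (ha : a ≠ 0) (hφ : φ ≠ 0) (h : φ ⬝ᵥ a = 0) (c : F) (hc : c ≠ 0) :
    LinearMap.trace ℂ V (ρ (emb (tvS a φ h c))) = (f : ℂ) - (e : ℂ) :=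
  Cfsg.Agent.Lib.Helper52_S2332_TRACEA.trace_emb_tvS hκ ρ ψ e f hW a φ ha hφ h c hc

/-! ### TRACEB -/
theorem trace_emb_split (ρ : Representation ℂ (Matrix.SpecialLinearGroup (Unit ⊕ κ) F) V)
    (ψ : AddChar F ℂ) (hint : DirectSum.IsInternal (fun v : κ → F => wsp ρ ψ v))
    (A : Matrix.SpecialLinearGroup κ F)
    (hfix : ∀ v : κ → F, v ≠ 0 → A.1 *ᵥ v = v → ∀ w ∈ wsp ρ ψ v, ρ (emb A) w = w) :
    LinearMap.trace ℂ V (ρ (emb A)) =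
      LinearMap.trace ℂ (wsp ρ ψ (0 : κ → F)) (psiRep ρ ψ A) +
        ∑ v ∈ Finset.univ.filter (fun v : κ → F => v ≠ 0 ∧ A.1 *ᵥ v = v),
          (Module.finrank ℂ (wsp ρ ψ v) : ℂ) :=
  Cfsg.Agent.Lib.Helper65_S2332_TRACEB.trace_emb_split ρ ψ hint A hfix

/-! ### TRACEC -/
theorem trace_psiRep_of_split (hκ : 1 ≤ Fintype.card κ)
    (ρ : Representation ℂ (Matrix.SpecialLinearGroup (Unit ⊕ κ) F) V)
    (ψ : AddChar F ℂ) (f : ℕ) (hW : WData ρ ψ 1 f)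
    (j k : κ) (hjk : j ≠ k) (t : F) (ht : t ≠ 0)
    (hA : LinearMap.trace ℂ V (ρ (emb (rootEl j k hjk t))) = (f : ℂ) - 1)
    (hB : LinearMap.trace ℂ V (ρ (emb (rootEl j k hjk t))) =
      LinearMap.trace ℂ (wsp ρ ψ (0 : κ → F)) (psiRep ρ ψ (rootEl j k hjk t)) +
        ∑ v ∈ Finset.univ.filter
          (fun v : κ → F => v ≠ 0 ∧ (rootEl j k hjk t).1 *ᵥ v = v),
          (Module.finrank ℂ (wsp ρ ψ v) : ℂ)) :
    LinearMap.trace ℂ (wsp ρ ψ (0 : κ → F)) (psiRep ρ ψ (rootEl j k hjk t)) =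
      (f : ℂ) - (Fintype.card F : ℂ) ^ (Fintype.card κ - 1) :=
  Cfsg.Agent.Lib.Helper52_S2332_TRACEC.trace_psiRep_of_split hκ ρ ψ f hW j k hjk t ht hA hB

/-! ### TRACEALL -/
theorem trace_psiRep_tvS (hκ : 3 ≤ Fintype.card κ)
    (ρ : Representation ℂ (Matrix.SpecialLinearGroup (Unit ⊕ κ) F) V)
    (ψ : AddChar F ℂ) (c : ℂ) (j k : κ) (hjk : j ≠ k)
    (h0 : LinearMap.trace ℂ (wsp ρ ψ (0 : κ → F)) (psiRep ρ ψ (rootEl j k hjk 1)) = c)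
    (a φ : κ → F) (ha : a ≠ 0) (hφ : φ ≠ 0) (h : φ ⬝ᵥ a = 0) :
    LinearMap.trace ℂ (wsp ρ ψ (0 : κ → F)) (psiRep ρ ψ (tvS a φ h 1)) = c :=
  Cfsg.Agent.Lib.Helper58_S2332_TRACEALL.trace_psiRep_tvS hκ ρ ψ c j k hjk h0 a φ ha hφ h

/-! ### PERFECT -/
theorem sl_perfect (ι : Type*) [Fintype ι] [DecidableEq ι]
    (h : 3 ≤ Fintype.card ι ∨ (Fintype.card ι = 2 ∧ 4 ≤ Fintype.card F)) :
    commutator (Matrix.SpecialLinearGroup ι F) = ⊤ :=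
  Cfsg.Agent.Lib.Helper60_S2332_PERFECT.sl_perfect ι h

/-! ### IRRSUB -/
theorem exists_irr_sub_of_ne_one {G : Type*} [Group G] [Finite G] (hperf : commutator G = ⊤)
    {X : Type} [AddCommGroup X] [Module ℂ X] [FiniteDimensional ℂ X]
    (σ : Representation ℂ G X) (g : G) (hg : σ g ≠ 1) :
    ∃ (Y : Type) (_ : AddCommGroup Y) (_ : Module ℂ Y) (_ : FiniteDimensional ℂ Y)
      (τ : Representation ℂ G Y), τ.IsIrreducible ∧ 2 ≤ Module.finrank ℂ Y ∧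
        Module.finrank ℂ Y ≤ Module.finrank ℂ X :=
  Cfsg.Agent.Lib.Helper4_S2332_IRRSUB.exists_irr_sub_of_ne_one hperf σ g hg

/-! ### PHANTOM, B3ARITH, E2, NNFORM -/
theorem phantom (q n : ℕ) (hq : 2 ≤ q) (hn : 3 ≤ n) :
    ¬ (NN q n - 2 ∣ NN q n * (q ^ (n - 1) - 1) * (1 * q ^ (n - 1))) :=
  Cfsg.Agent.Lib.Helper53_S2332_PHANTOM.phantom q n hq hn

theorem b3arith (q : ℕ) (hpp : IsPrimePow q) (hq2 : q ≠ 2) (hq4 : q ≠ 4) :
    ¬ (q ^ 2 + q - 2 ∣ NN q 3 * (q ^ 2 - 1) * (1 * q ^ 2)) :=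
  Cfsg.Agent.Lib.Helper53_S2332_B3ARITH.b3arith q hpp hq2 hq4

theorem e_ge_two (q m e f : ℕ) (hq : 2 ≤ q) (hm : 1 ≤ m) (he : 2 ≤ e) :
    NN q (m + 1) - 1 ≤ f + e * (q ^ m - 1) :=
  Cfsg.Agent.Lib.Helper53_S2332_E2.e_ge_two q m e f hq hm he

theorem nn_form (q n : ℕ) (hq : 2 ≤ q) (hn : 1 ≤ n) : (q ^ n - q) / (q - 1) = NN q n - 1 :=
  Cfsg.Agent.Lib.Helper53_S2332_NNFORM.nn_form q n hq hn

/-! ### AVG -/
theorem sum_trace_rootEl {X : Type*} [AddCommGroup X] [Module ℂ X] [FiniteDimensional ℂ X]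
    (σ : Representation ℂ (Matrix.SpecialLinearGroup κ F) X) (j k : κ) (hjk : j ≠ k) :
    ∃ d : ℕ, ∑ t : F, LinearMap.trace ℂ X (σ (rootEl j k hjk t)) = (Fintype.card F : ℂ) * d :=
  Cfsg.Agent.Lib.Helper55_S2332_AVG.sum_trace_rootEl σ j k hjk

/-! ### TRANSPORT -/
theorem minDeg_of_model (κ : Type) [Fintype κ] [DecidableEq κ] (n d : ℕ)
    (hn : Fintype.card κ + 1 = n)
    (h : ∀ (V : Type) [AddCommGroup V] [Module ℂ V] [FiniteDimensional ℂ V]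
      (ρ : Representation ℂ (Matrix.SpecialLinearGroup (Unit ⊕ κ) F) V),
      ρ.IsIrreducible → 2 ≤ Module.finrank ℂ V → d ≤ Module.finrank ℂ V) :
    MinDeg F n d :=
  Cfsg.Agent.Lib.Helper73_S2332_TRANSPORT.minDeg_of_model κ n d hn h

/-! ### TRANS -/
theorem isPretransitive_NZv (ι : Type*) [Fintype ι] [DecidableEq ι] (h : 2 ≤ Fintype.card ι) :
    MulAction.IsPretransitive (Matrix.SpecialLinearGroup ι F) (NZv ι F) :=
  Cfsg.Agent.Lib.Helper60_S2332_TRANS.isPretransitive_NZv ι h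

/-! ### S2336G -/
theorem s2336_general (ι : Type) [Fintype ι] [DecidableEq ι] (hn : 3 ≤ Fintype.card ι) :
    ∃ χ : Fin (Fintype.card F - 1) → (Matrix.SpecialLinearGroup ι F → ℂ),
      (∀ i, Cfsg.IsIrrCharacter (Matrix.SpecialLinearGroup ι F) (χ i)) ∧ Function.Injective χ ∧
      ∀ g : Matrix.SpecialLinearGroup ι F,
        (Nat.card (MulAction.fixedBy (NZv ι F) g) : ℂ) = 1 + ∑ i, χ i g :=
  Cfsg.Agent.Lib.Helper51_S2332_S2336G.s2336_general ι hn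

/-! ### REC -/
theorem classInner_perm_eq_finrank {G : Type*} [Group G] [Fintype G] {Ω : Type*} [Fintype Ω]
    [MulAction G Ω] [MulAction.IsPretransitive G Ω] (a : Ω)
    {X : Type*} [AddCommGroup X] [Module ℂ X] [FiniteDimensional ℂ X] (σ : Representation ℂ G X) :
    Cfsg.classInner (fun g : G => (Nat.card (MulAction.fixedBy Ω g) : ℂ)) σ.character =
      (Module.finrank ℂ (stabFix σ (MulAction.stabilizer G a)) : ℂ) :=
  Cfsg.Agent.Lib.Helper30_S2332_REC.classInner_perm_eq_finrank a σ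

/-! ### PVEC -/
theorem mem_stabilizer_x0 (g : Matrix.SpecialLinearGroup (Unit ⊕ κ) F) :
    g ∈ MulAction.stabilizer (Matrix.SpecialLinearGroup (Unit ⊕ κ) F) (x0 : NZv (Unit ⊕ κ) F) ↔
      ∃ (u : κ → F) (A : Matrix.SpecialLinearGroup κ F), g = xu u * emb A :=
  Cfsg.Agent.Lib.Helper61_S2332_FIXVEC.mem_stabilizer_x0 g

/-! ### FIXVEC -/
theorem mem_invariants_stabilizer_iff
    (ρ : Representation ℂ (Matrix.SpecialLinearGroup (Unit ⊕ κ) F) V) (ψ : AddChar F ℂ) (w : V) :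
    w ∈ stabFix ρ (MulAction.stabilizer (Matrix.SpecialLinearGroup (Unit ⊕ κ) F)
        (x0 : NZv (Unit ⊕ κ) F)) ↔
      ∃ hw : w ∈ wsp ρ ψ (0 : κ → F), (⟨w, hw⟩ : wsp ρ ψ (0 : κ → F)) ∈ (psiRep ρ ψ).invariants :=
  Cfsg.Agent.Lib.Helper61_S2332_FIXVEC.mem_invariants_stabilizer_iff ρ ψ w

/-! ### ORBSPAN -/
theorem finrank_le_index {G : Type*} [Group G] {X : Type*} [AddCommGroup X] [Module ℂ X]
    [FiniteDimensional ℂ X] (σ : Representation ℂ G X) (hirr : σ.IsIrreducible) (H : Subgroup G)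
    [H.FiniteIndex] (w : X) (hw : w ≠ 0) (hH : ∀ h ∈ H, ∃ c : ℂ, σ h w = c • w) :
    Module.finrank ℂ X ≤ H.index :=
  Cfsg.Agent.Lib.Helper30_S2332_ORBSPAN.finrank_le_index σ hirr H w hw hH

/-! ### INDEX -/
theorem index_Pline (hκ : 1 ≤ Fintype.card κ) :
    (Pline : Subgroup (Matrix.SpecialLinearGroup (Unit ⊕ κ) F)).index =
      NN (Fintype.card F) (Fintype.card κ + 1) :=
  Cfsg.Agent.Lib.Helper61_S2332_INDEX.index_Pline hκ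

/-! ### NORMALIZE -/
theorem pline_normalizes (p s : Matrix.SpecialLinearGroup (Unit ⊕ κ) F) (hp : p ∈ Pline)
    (hs : s ∈ MulAction.stabilizer (Matrix.SpecialLinearGroup (Unit ⊕ κ) F)
      (x0 : NZv (Unit ⊕ κ) F)) :
    p⁻¹ * s * p ∈ MulAction.stabilizer (Matrix.SpecialLinearGroup (Unit ⊕ κ) F)
      (x0 : NZv (Unit ⊕ κ) F) :=
  Cfsg.Agent.Lib.Helper60_S2332_NORMALIZE.pline_normalizes p s hp hs

/-! ### CARRYGEN -/
theorem carry_gen {κ2 : Type} [Fintype κ2] [DecidableEq κ2] (hκ2 : 2 ≤ Fintype.card κ2)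
    (hperf2 : commutator (Matrix.SpecialLinearGroup κ2 F) = ⊤)
    (ρ : Representation ℂ (Matrix.SpecialLinearGroup (Unit ⊕ (Unit ⊕ κ2)) F) V)
    (hirr : ρ.IsIrreducible) (ψ : AddChar F ℂ) (hψ : ψ ≠ 1) (f : ℕ) (hW : WData ρ ψ 1 f)
    (htr : ∀ u' : κ2 → F, u' ≠ 0 →
      LinearMap.trace ℂ (wsp ρ ψ (0 : Unit ⊕ κ2 → F)) (psiRep ρ ψ (xu u')) =
        (f : ℂ) - (Fintype.card F : ℂ) ^ Fintype.card κ2)
    (hnofix : (psiRep ρ ψ).invariants = ⊥)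
    (ht3b : ∀ (Y : Type) [AddCommGroup Y] [Module ℂ Y] [FiniteDimensional ℂ Y]
      (τ : Representation ℂ (Matrix.SpecialLinearGroup (Unit ⊕ κ2) F) Y), τ.IsIrreducible →
      stabFix τ (MulAction.stabilizer (Matrix.SpecialLinearGroup (Unit ⊕ κ2) F)
        (x0 : NZv (Unit ⊕ κ2) F)) ≠ ⊥ →
      Module.finrank ℂ Y = 1 ∨ NN (Fintype.card F) (Fintype.card κ2 + 1) - 1 ≤ Module.finrank ℂ Y)
    (hf : f + 2 ≤ NN (Fintype.card F) (Fintype.card κ2 + 1))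
    (dmin : ℕ) (hmin : MinDeg F (Fintype.card κ2) dmin) :
    f + 1 = Fintype.card F ^ Fintype.card κ2 ∨ Fintype.card F ^ Fintype.card κ2 + dmin ≤ f + 1 :=
  Cfsg.Agent.Lib.Helper87_S2332_CARRYGEN.carry_gen_of_internal hκ2 hperf2 ρ hirr ψ hψ f hW htr hnofix ht3b hf dmin hmin
    (Cfsg.Agent.Lib.Helper69_S2332_WSDEC.wsp_isInternal (psiRep ρ ψ) ψ hψ)

/-! ### SL24 -/
theorem sl24 (hq : Fintype.card F = 4) : MinDeg F 2 3 :=
  Cfsg.Agent.Lib.Helper51_S2332_SL24.sl24 hq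

end Cfsg.Agent.Lib.Helper77_SLnPkg
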