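import Mathlib
import Cfsg.Agent.Lib.Helper77_SLnDefs
import Cfsg.Agent.Lib.Helper77_SLnPkg
import Cfsg.Agent.Lib.Helper3_CharOrtho
import Cfsg.Agent.Lib.Helper80_CharBasic
import Cfsg.Agent.Lib.Helper81_Rank

set_option autoImplicit false
set_option linter.unusedSectionVars false
set_option linter.unusedVariables false
open Matrix Cfsg.Agent.Lib.Helper5_Transv Cfsg.Agent.Lib.Helper77_SLnDefs
open Cfsg.Agent.Lib.Helper77_SLnPkg

namespace Cfsg.Agent.Lib.Helper77_SLnSecond

variable {F : Type*} [Field F] [Fintype F] [DecidableEq F] {κ : Type} [Fintype κ] [DecidableEq κ]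
  {V : Type} [AddCommGroup V] [Module ℂ V] [FiniteDimensional ℂ V]

theorem NN_succ' (q m : ℕ) : NN q (m + 1) = NN q m + q ^ m := by
  unfold NN
  rw [Finset.sum_range_succ]

/-! ### STEP -/
theorem step (hκ : 3 ≤ Fintype.card κ)
    (hmin : MinDeg F (Fintype.card κ) (NN (Fintype.card F) (Fintype.card κ) - 1))
    (ρ : Representation ℂ (Matrix.SpecialLinearGroup (Unit ⊕ κ) F) V) (hirr : ρ.IsIrreducible)
    (ψ : AddChar F ℂ) (f : ℕ) (hW : WData ρ ψ 1 f)
    (hdvd : Module.finrank ℂ V ∣ NN (Fintype.card F) (Fintype.card κ + 1) *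
      (Fintype.card F ^ Fintype.card κ - 1) * (1 * Fintype.card F ^ Fintype.card κ))
    (j k : κ) (hjk : j ≠ k) (t : F)
    (htr : LinearMap.trace ℂ (wsp ρ ψ (0 : κ → F)) (psiRep ρ ψ (rootEl j k hjk t)) =
      (f : ℂ) - (Fintype.card F : ℂ) ^ (Fintype.card κ - 1)) :
    NN (Fintype.card F) (Fintype.card κ + 1) - 1 ≤ Module.finrank ℂ V := by
  have hq2 : 2 ≤ Fintype.card F := Fintype.one_lt_card
  have hne : psiRep ρ ψ (rootEl j k hjk t) ≠ 1 := by
    intro h1
    rw [h1] at htr
    have : LinearMap.trace ℂ (wsp ρ ψ (0 : κ → F)) (1 : Module.End ℂ (wsp ρ ψ (0 : κ → F))) =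
        (f : ℂ) := by
      rw [LinearMap.trace_one, hW.hf]
    rw [this] at htr
    have h0 : (Fintype.card F : ℂ) ^ (Fintype.card κ - 1) = 0 := by linear_combination htr
    have hq0 : (Fintype.card F : ℂ) ≠ 0 := by
      exact_mod_cast (by omega : Fintype.card F ≠ 0)
    exact pow_ne_zero _ hq0 h0
  obtain ⟨Y, _, _, _, τ, hτ, hY2, hYf⟩ :=
    exists_irr_sub_of_ne_one (sl_perfect (F := F) κ (Or.inl hκ)) (psiRep ρ ψ) _ hne
  have hY := hmin κ rfl Y τ hτ hY2
  rw [hW.hf] at hYf
  have hD := hW.hD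
  have hNN := NN_succ' (Fintype.card F) (Fintype.card κ)
  have hQ : 1 ≤ Fintype.card F ^ Fintype.card κ := Nat.one_le_pow _ _ (by omega)
  have hph := phantom (Fintype.card F) (Fintype.card κ + 1) hq2 (by omega)
  rw [Nat.add_sub_cancel] at hph
  by_contra hlt
  push Not at hlt
  apply hph
  have : Module.finrank ℂ V = NN (Fintype.card F) (Fintype.card κ + 1) - 2 := by omega
  rw [← this]
  exact hdvd

/-! ### BASE3 -/
theorem base3 (hκ : Fintype.card κ = 2) (hq2 : Fintype.card F ≠ 2) (hq4 : Fintype.card F ≠ 4)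
    (ρ : Representation ℂ (Matrix.SpecialLinearGroup (Unit ⊕ κ) F) V) (hirr : ρ.IsIrreducible)
    (ψ : AddChar F ℂ) (f : ℕ) (hW : WData ρ ψ 1 f)
    (hdvd : Module.finrank ℂ V ∣ NN (Fintype.card F) 3 *
      (Fintype.card F ^ 2 - 1) * (1 * Fintype.card F ^ 2))
    (j k : κ) (hjk : j ≠ k)
    (htr : ∀ t : F, t ≠ 0 →
      LinearMap.trace ℂ (wsp ρ ψ (0 : κ → F)) (psiRep ρ ψ (rootEl j k hjk t)) =
      (f : ℂ) - (Fintype.card F : ℂ)) :
    Fintype.card F ^ 2 + Fintype.card F ≤ Module.finrank ℂ V := by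
  have hq : 2 ≤ Fintype.card F := Fintype.one_lt_card
  obtain ⟨d, hd⟩ := sum_trace_rootEl (psiRep ρ ψ) j k hjk
  -- evaluate the sum
  have h0 : LinearMap.trace ℂ (wsp ρ ψ (0 : κ → F)) (psiRep ρ ψ (rootEl j k hjk 0)) = (f : ℂ) := by
    have : rootEl j k hjk (0 : F) = 1 := by
      unfold rootEl
      exact tvS_zero _ _ _
    rw [this, map_one, LinearMap.trace_one, hW.hf]
  have hsum : ∑ t : F, LinearMap.trace ℂ (wsp ρ ψ (0 : κ → F)) (psiRep ρ ψ (rootEl j k hjk t)) =
      (f : ℂ) + ((Fintype.card F : ℂ) - 1) * ((f : ℂ) - (Fintype.card F : ℂ)) := by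
    rw [← Finset.add_sum_erase Finset.univ _ (Finset.mem_univ (0 : F)), h0]
    congr 1
    rw [Finset.sum_congr rfl (fun t ht => htr t (Finset.ne_of_mem_erase ht))]
    rw [Finset.sum_const, Finset.card_erase_of_mem (Finset.mem_univ _), Finset.card_univ,
      nsmul_eq_mul, Nat.cast_sub (by omega), Nat.cast_one]
  rw [hsum] at hd
  have hq0 : (Fintype.card F : ℂ) ≠ 0 := by
    exact_mod_cast (by omega : Fintype.card F ≠ 0)
  have hfd : (f : ℂ) = (d : ℂ) + ((Fintype.card F : ℂ) - 1) := by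
    have : (Fintype.card F : ℂ) * ((f : ℂ) - ((d : ℂ) + ((Fintype.card F : ℂ) - 1))) = 0 := by
      linear_combination hd
    rcases mul_eq_zero.mp this with h | h
    · exact absurd h hq0
    · linear_combination h
  have hfd' : f + 1 = d + Fintype.card F := by
    have : ((f + 1 : ℕ) : ℂ) = ((d + Fintype.card F : ℕ) : ℂ) := by
      push_cast
      linear_combination hfd
    exact_mod_cast this
  have hD := hW.hD
  rw [hκ, one_mul] at hD
  have hQ : Fintype.card F ^ 2 ≥ 4 := by nlinarith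
  have hNN3 : NN (Fintype.card F) 3 = 1 + Fintype.card F + Fintype.card F ^ 2 := by
    unfold NN
    simp [Finset.sum_range_succ]
  -- exclude d = 0
  have hd0 : d ≠ 0 := by
    intro h0'
    have hf : f = Fintype.card F - 1 := by omega
    apply b3arith (Fintype.card F) (Fintype.isPrimePow_card_of_field) hq2 hq4
    have : Module.finrank ℂ V = Fintype.card F ^ 2 + Fintype.card F - 2 := by omega
    rw [← this]
    exact hdvd
  -- exclude d = 1
  have hd1 : d ≠ 1 := by
    intro h1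
    have hf : f = Fintype.card F := by omega
    apply phantom (Fintype.card F) 3 hq (le_refl _)
    have : Module.finrank ℂ V = NN (Fintype.card F) 3 - 2 := by rw [hNN3]; omega
    rw [← this]
    exact hdvd
  omega

/-! ### T3BUB -/
theorem finrank_le_NN_of_fixed (hκ : 1 ≤ Fintype.card κ)
    (ρ : Representation ℂ (Matrix.SpecialLinearGroup (Unit ⊕ κ) F) V) (hirr : ρ.IsIrreducible)
    (h1 : Module.finrank ℂ (stabFix ρ (MulAction.stabilizer
      (Matrix.SpecialLinearGroup (Unit ⊕ κ) F) (x0 : NZv (Unit ⊕ κ) F))) = 1) :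
    Module.finrank ℂ V ≤ NN (Fintype.card F) (Fintype.card κ + 1) := by
  obtain ⟨w, hw0, hw⟩ := finrank_eq_one_iff'.mp h1
  have hw0' : (w : V) ≠ 0 := fun h => hw0 (Subtype.ext h)
  have hH : ∀ p ∈ (Pline : Subgroup (Matrix.SpecialLinearGroup (Unit ⊕ κ) F)),
      ∃ c : ℂ, ρ p (w : V) = c • (w : V) := by
    intro p hp
    have hmem : ρ p (w : V) ∈ stabFix ρ (MulAction.stabilizer
        (Matrix.SpecialLinearGroup (Unit ⊕ κ) F) (x0 : NZv (Unit ⊕ κ) F)) := by
      intro s hs
      have h2 := pline_normalizes p s hp hs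
      have h3 : ρ (p⁻¹ * s * p) (w : V) = (w : V) := w.2 _ h2
      have h4 : s * p = p * (p⁻¹ * s * p) := by group
      rw [← Module.End.mul_apply, ← map_mul, h4, map_mul, Module.End.mul_apply, h3]
    obtain ⟨c, hc⟩ := hw ⟨ρ p (w : V), hmem⟩
    exact ⟨c, by simpa using (congrArg Subtype.val hc).symm⟩
  have := finrank_le_index ρ hirr Pline (w : V) hw0' hH
  rwa [index_Pline hκ] at this

theorem card_NZv (ι : Type*) [Fintype ι] [DecidableEq ι] :
    Fintype.card (NZv ι F) = Fintype.card F ^ Fintype.card ι - 1 := by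
  classical
  have h : Nat.card (NZv ι F) = Nat.card {x : ι → F // x ≠ 0} := rfl
  rw [← Nat.card_eq_fintype_card, h, Nat.card_eq_fintype_card, Fintype.card_subtype_compl,
    Fintype.card_fun]
  simp

theorem geom_NN (q m : ℕ) (hq : 1 ≤ q) : (q - 1) * NN q m = q ^ m - 1 := by
  induction m with
  | zero => simp [NN]
  | succ m ih =>
    rw [NN_succ', mul_add, ih]
    have h1 : 1 ≤ q ^ m := Nat.one_le_pow _ _ hq
    have h2 : (q - 1) * q ^ m = q ^ (m + 1) - q ^ m := by
      rw [Nat.sub_mul, one_mul, pow_succ']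
    have h3 : q ^ m ≤ q ^ (m + 1) := Nat.pow_le_pow_right hq (Nat.le_succ m)
    omega

/-- the decomposition of the permutation character on nonzero vectors, with degrees -/
theorem perm_core (hκ : 2 ≤ Fintype.card κ) :
    ∃ (χ : Fin (Fintype.card F - 1) → (Matrix.SpecialLinearGroup (Unit ⊕ κ) F → ℂ))
      (deg : Fin (Fintype.card F - 1) → ℕ),
      (∀ i, ∃ τ : Representation ℂ (Matrix.SpecialLinearGroup (Unit ⊕ κ) F) (Fin (deg i) → ℂ),
        τ.IsIrreducible ∧ τ.character = χ i) ∧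
      (∀ i, deg i + 1 = NN (Fintype.card F) (Fintype.card κ + 1) ∨
        deg i = NN (Fintype.card F) (Fintype.card κ + 1)) ∧
      (∃ i, deg i + 1 = NN (Fintype.card F) (Fintype.card κ + 1)) ∧
      (∀ (X : Type) [AddCommGroup X] [Module ℂ X] [FiniteDimensional ℂ X]
        (σ : Representation ℂ (Matrix.SpecialLinearGroup (Unit ⊕ κ) F) X), σ.IsIrreducible →
        stabFix σ (MulAction.stabilizer (Matrix.SpecialLinearGroup (Unit ⊕ κ) F)
          (x0 : NZv (Unit ⊕ κ) F)) ≠ ⊥ →
        σ.character = (fun _ => 1) ∨ ∃ i, σ.character = χ i) := by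
  classical
  have hq : 2 ≤ Fintype.card F := Fintype.one_lt_card
  have hcard : Fintype.card (Unit ⊕ κ) = Fintype.card κ + 1 := by simp; omega
  have : MulAction.IsPretransitive (Matrix.SpecialLinearGroup (Unit ⊕ κ) F) (NZv (Unit ⊕ κ) F) :=
    isPretransitive_NZv (Unit ⊕ κ) (by rw [hcard]; omega)
  have : Nonempty (NZv (Unit ⊕ κ) F) := ⟨x0⟩
  obtain ⟨χ, hχirr, hχinj, hπ⟩ := s2336_general (F := F) (Unit ⊕ κ) (by rw [hcard]; omega)
  obtain ⟨π, hπdef⟩ : ∃ π : Matrix.SpecialLinearGroup (Unit ⊕ κ) F → ℂ,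
      π = fun g => (Nat.card (MulAction.fixedBy (NZv (Unit ⊕ κ) F) g) : ℂ) := ⟨_, rfl⟩
  have hπeq : π = (fun _ => (1 : ℂ)) + ∑ i, χ i := by
    funext g
    rw [hπdef]
    simp only [hπ g, Pi.add_apply, Finset.sum_apply]
  have h1irr := Cfsg.Agent.Lib.Helper80_CharBasic.isIrrCharacter_one
    (Matrix.SpecialLinearGroup (Unit ⊕ κ) F)
  -- inner product of π with an irreducible character
  have hinner : ∀ θ : Matrix.SpecialLinearGroup (Unit ⊕ κ) F → ℂ,
      Cfsg.IsIrrCharacter (Matrix.SpecialLinearGroup (Unit ⊕ κ) F) θ →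
      Cfsg.classInner π θ = (if (fun _ => (1 : ℂ)) = θ then 1 else 0) +
        ∑ i, (if χ i = θ then (1 : ℂ) else 0) := by
    intro θ hθ
    have h2 : ∀ i, Cfsg.classInner (χ i) θ = if χ i = θ then (1 : ℂ) else 0 := fun i =>
      Cfsg.Agent.Lib.Helper3_CharOrtho.classInner_irr (hχirr i) hθ
    rw [hπeq, Cfsg.Agent.Lib.Helper3_CharOrtho.classInner_add_left,
      Cfsg.Agent.Lib.Helper3_CharOrtho.classInner_sum_left,
      Cfsg.Agent.Lib.Helper3_CharOrtho.classInner_irr h1irr hθ,
      Finset.sum_congr rfl (fun i _ => h2 i)]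
  -- no χ i is trivial
  have hne1 : ∀ i, χ i ≠ (fun _ => (1 : ℂ)) := by
    intro i hi
    have h := hinner _ h1irr
    rw [hπdef, Cfsg.Agent.Lib.Helper81_Rank.classInner_perm_one, if_pos rfl] at h
    have hcard1 : ∑ j, (if χ j = (fun _ => (1 : ℂ)) then (1 : ℂ) else 0) =
        ((Finset.univ.filter (fun j => χ j = (fun _ => (1 : ℂ)))).card : ℂ) := by
      rw [Finset.sum_ite, Finset.sum_const_zero, add_zero, Finset.sum_const, nsmul_eq_mul, mul_one]
    have hpos : 1 ≤ (Finset.univ.filter (fun j => χ j = (fun _ => (1 : ℂ)))).card :=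
      Finset.card_pos.mpr ⟨i, by simp [hi]⟩
    rw [hcard1] at h
    have h4 : ((Finset.univ.filter (fun j => χ j = (fun _ => (1 : ℂ)))).card : ℂ) = 0 := by
      linear_combination -h
    have h5 : (Finset.univ.filter (fun j => χ j = (fun _ => (1 : ℂ)))).card = 0 := by
      exact_mod_cast h4
    omega
  -- inner product with χ i is one
  have hinner_i : ∀ i, Cfsg.classInner π (χ i) = 1 := by
    intro i
    rw [hinner _ (hχirr i), if_neg (fun h => hne1 i h.symm), zero_add]
    rw [Finset.sum_eq_single i]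
    · rw [if_pos rfl]
    · intro j _ hji
      rw [if_neg (fun h => hji (hχinj h))]
    · intro h
      exact absurd (Finset.mem_univ i) h
  -- realisations
  choose n τ hτirr hτχ using hχirr
  have hdeg : ∀ i, χ i 1 = (n i : ℂ) := by
    intro i
    rw [← hτχ i, Representation.char_one, Module.finrank_fin_fun]
  -- upper bound
  have hub : ∀ i, n i ≤ NN (Fintype.card F) (Fintype.card κ + 1) := by
    intro i
    have hrec := classInner_perm_eq_finrank (G := Matrix.SpecialLinearGroup (Unit ⊕ κ) F)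
      (Ω := NZv (Unit ⊕ κ) F) (x0 : NZv (Unit ⊕ κ) F) (τ i)
    rw [hτχ i, ← hπdef] at hrec
    have h1 : Module.finrank ℂ (stabFix (τ i) (MulAction.stabilizer
        (Matrix.SpecialLinearGroup (Unit ⊕ κ) F) (x0 : NZv (Unit ⊕ κ) F))) = 1 := by
      have : ((Module.finrank ℂ (stabFix (τ i) (MulAction.stabilizer
        (Matrix.SpecialLinearGroup (Unit ⊕ κ) F) (x0 : NZv (Unit ⊕ κ) F))) : ℕ) : ℂ) = 1 := by
        rw [← hrec]; exact hinner_i i
      exact_mod_cast this
    have := finrank_le_NN_of_fixed (by omega) (τ i) (hτirr i) h1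
    rwa [Module.finrank_fin_fun] at this
  -- the sum of the degrees
  have hsum : ∑ i, n i + 2 = Fintype.card F ^ (Fintype.card κ + 1) := by
    have h1 : π 1 = (Fintype.card (NZv (Unit ⊕ κ) F) : ℂ) := by
      rw [hπdef]
      exact Cfsg.Agent.Lib.Helper81_Rank.perm_one
    rw [hπeq, card_NZv, hcard] at h1
    simp only [Pi.add_apply, Finset.sum_apply, hdeg] at h1
    have hQ : 2 ≤ Fintype.card F ^ (Fintype.card κ + 1) := by
      calc 2 ≤ Fintype.card F := hq
        _ = Fintype.card F ^ 1 := (pow_one _).symm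
        _ ≤ Fintype.card F ^ (Fintype.card κ + 1) := Nat.pow_le_pow_right (by omega) (by omega)
    have h2 : ((∑ i, n i + 2 : ℕ) : ℂ) = ((Fintype.card F ^ (Fintype.card κ + 1) : ℕ) : ℂ) := by
      rw [Nat.cast_sub (by omega)] at h1
      push_cast at h1 ⊢
      linear_combination h1
    exact_mod_cast h2
  have hgeom := geom_NN (Fintype.card F) (Fintype.card κ + 1) (by omega)
  -- the deficiencies sum to one
  have hdef : ∑ i, (NN (Fintype.card F) (Fintype.card κ + 1) - n i) = 1 := by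
    have h1 : ∑ i, (NN (Fintype.card F) (Fintype.card κ + 1) - n i) + ∑ i, n i =
        (Fintype.card F - 1) * NN (Fintype.card F) (Fintype.card κ + 1) := by
      rw [← Finset.sum_add_distrib]
      rw [Finset.sum_congr rfl (fun i _ => Nat.sub_add_cancel (hub i))]
      simp
    have hQ : 1 ≤ Fintype.card F ^ (Fintype.card κ + 1) := Nat.one_le_pow _ _ (by omega)
    omega
  have hle1 : ∀ i, NN (Fintype.card F) (Fintype.card κ + 1) - n i ≤ 1 := by
    intro i
    have := Finset.single_le_sum (f := fun i => NN (Fintype.card F) (Fintype.card κ + 1) - n i)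
      (fun _ _ => Nat.zero_le _) (Finset.mem_univ i)
    rw [hdef] at this
    exact this
  refine ⟨χ, n, fun i => ⟨τ i, hτirr i, hτχ i⟩, ?_, ?_, ?_⟩
  · intro i
    have := hle1 i
    have := hub i
    omega
  · by_contra hcon
    push Not at hcon
    have : ∑ i, (NN (Fintype.card F) (Fintype.card κ + 1) - n i) = 0 := by
      apply Finset.sum_eq_zero
      intro i _
      have := hle1 i
      have := hub i
      have := hcon i
      omega
    omega
  · intro X _ _ _ σ hσ hfix
    have : σ.IsIrreducible := hσ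
    have hσirr := Cfsg.Agent.Lib.Helper3_CharBridge.isIrrCharacter_of_rep σ
    have hrec := classInner_perm_eq_finrank (G := Matrix.SpecialLinearGroup (Unit ⊕ κ) F)
      (Ω := NZv (Unit ⊕ κ) F) (x0 : NZv (Unit ⊕ κ) F) σ
    have hpos : Module.finrank ℂ (stabFix σ (MulAction.stabilizer
        (Matrix.SpecialLinearGroup (Unit ⊕ κ) F) (x0 : NZv (Unit ⊕ κ) F))) ≠ 0 := by
      intro h0
      exact hfix (Submodule.finrank_eq_zero.mp h0)
    rw [← hπdef] at hrec
    have hne0 : Cfsg.classInner π σ.character ≠ 0 := by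
      rw [hrec]
      exact_mod_cast hpos
    rw [hinner _ hσirr] at hne0
    by_cases h1 : (fun _ => (1 : ℂ)) = σ.character
    · exact Or.inl h1.symm
    · right
      rw [if_neg h1, zero_add] at hne0
      obtain ⟨i, _, hi⟩ := Finset.exists_ne_zero_of_sum_ne_zero hne0
      by_cases h2 : χ i = σ.character
      · exact ⟨i, h2.symm⟩
      · rw [if_neg h2] at hi
        exact absurd rfl hi


/-! ### T3B -/
theorem t3b (hκ : 2 ≤ Fintype.card κ)
    (ρ : Representation ℂ (Matrix.SpecialLinearGroup (Unit ⊕ κ) F) V) (hirr : ρ.IsIrreducible)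
    (hfix : stabFix ρ (MulAction.stabilizer (Matrix.SpecialLinearGroup (Unit ⊕ κ) F)
      (x0 : NZv (Unit ⊕ κ) F)) ≠ ⊥) :
    Module.finrank ℂ V = 1 ∨ Module.finrank ℂ V = NN (Fintype.card F) (Fintype.card κ + 1) - 1 ∨
      Module.finrank ℂ V = NN (Fintype.card F) (Fintype.card κ + 1) := by
  obtain ⟨χ, deg, hτ, hdeg, _, hfixed⟩ := perm_core (F := F) (κ := κ) hκ
  rcases hfixed V ρ hirr hfix with h | ⟨i, hi⟩
  · left
    have := congrFun h 1
    rw [Representation.char_one] at this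
    exact_mod_cast this
  · obtain ⟨τ, hτirr, hτχ⟩ := hτ i
    have h1 : (Module.finrank ℂ V : ℂ) = deg i := by
      rw [← Representation.char_one ρ, hi, ← hτχ, Representation.char_one, Module.finrank_fin_fun]
    have h2 : Module.finrank ℂ V = deg i := by exact_mod_cast h1
    rcases hdeg i with h | h
    · right; left; omega
    · right; right; omega

/-! ### EXIST -/
theorem exists_irr_deg (hκ : 2 ≤ Fintype.card κ) :
    ∃ ρ : Representation ℂ (Matrix.SpecialLinearGroup (Unit ⊕ κ) F)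
      (Fin (NN (Fintype.card F) (Fintype.card κ + 1) - 1) → ℂ), ρ.IsIrreducible := by
  obtain ⟨χ, deg, hτ, _, ⟨i, hi⟩, _⟩ := perm_core (F := F) (κ := κ) hκ
  obtain ⟨τ, hτirr, _⟩ := hτ i
  have h : deg i = NN (Fintype.card F) (Fintype.card κ + 1) - 1 := by omega
  rw [← h]
  exact ⟨τ, hτirr⟩

end Cfsg.Agent.Lib.Helper77_SLnSecond
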