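import Mathlib
import Cfsg.Agent.Lib.Helper77_SLnDefs
import Cfsg.Agent.Lib.Helper77_SLnPkg
import Cfsg.Agent.Lib.Helper77_SLnSecond

set_option autoImplicit false
set_option linter.unusedSectionVars false
open Matrix Cfsg.Agent.Lib.Helper5_Transv Cfsg.Agent.Lib.Helper77_SLnDefs
open Cfsg.Agent.Lib.Helper77_SLnPkg Cfsg.Agent.Lib.Helper77_SLnSecond

namespace Cfsg.Agent.Lib.Helper77_SLnMain

variable {F : Type*} [Field F] [Fintype F] [DecidableEq F]

theorem two_le_q : 2 ≤ Fintype.card F := Fintype.one_lt_card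

theorem NN_succ (q m : ℕ) : NN q (m + 1) = NN q m + q ^ m := by
  unfold NN
  rw [Finset.sum_range_succ]

theorem exists_ne_zero_vec {κ : Type} [Fintype κ] [DecidableEq κ] (hκ : 1 ≤ Fintype.card κ) :
    ∃ u : κ → F, u ≠ 0 := by
  have : Nonempty κ := Fintype.card_pos_iff.mp hκ
  obtain ⟨i⟩ := this
  refine ⟨Pi.single i 1, fun h => ?_⟩
  have := congrFun h i
  simp at this

/-- common reduction to `e = 1` with the divisibility constraint -/
theorem reduce {κ : Type} [Fintype κ] [DecidableEq κ] {V : Type} [AddCommGroup V] [Module ℂ V]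
    [FiniteDimensional ℂ V] (hκ : 2 ≤ Fintype.card κ)
    (ρ : Representation ℂ (Matrix.SpecialLinearGroup (Unit ⊕ κ) F) V) (hirr : ρ.IsIrreducible)
    (h2 : 2 ≤ Module.finrank ℂ V)
    (hmain : ∀ (ψ : AddChar F ℂ), ψ ≠ 1 → ∀ f : ℕ, WData ρ ψ 1 f →
      Module.finrank ℂ V ∣ NN (Fintype.card F) (Fintype.card κ + 1) *
        (Fintype.card F ^ Fintype.card κ - 1) * (1 * Fintype.card F ^ Fintype.card κ) →
      NN (Fintype.card F) (Fintype.card κ + 1) - 1 ≤ Module.finrank ℂ V) :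
    NN (Fintype.card F) (Fintype.card κ + 1) - 1 ≤ Module.finrank ℂ V := by
  obtain ⟨ψ, hψ'⟩ := (AddChar.exists_apply_ne_zero (α := F) (a := (1 : F))).mpr one_ne_zero
  have hψ : ψ ≠ 1 := fun h => hψ' (by rw [h]; rfl)
  obtain ⟨e, f, hW⟩ := exists_wdata hκ ρ ψ hψ (wsp_isInternal ρ ψ hψ)
  have he := one_le_e hκ ρ hirr h2 ψ hψ e f hW
  by_cases he2 : 2 ≤ e
  · rw [hW.hD]
    exact e_ge_two _ _ e f two_le_q (by omega) he2
  · have he1 : e = 1 := by omega
    subst he1
    obtain ⟨u, hu⟩ := exists_ne_zero_vec (F := F) (κ := κ) (by omega)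
    have hidx := index_centralizer_xu (F := F) hκ u hu
    have hdvd := dvd_of_wdata ρ hirr ψ 1 f hW u hu _ hidx
    exact hmain ψ hψ f hW hdvd


theorem rootEl_mulVec {κ : Type} [Fintype κ] [DecidableEq κ] (j k : κ) (hjk : j ≠ k) (t : F)
    (v : κ → F) : (rootEl j k hjk t).1 *ᵥ v = v + (t * v k) • (e j : κ → F) := by
  unfold rootEl
  rw [tvS_coe, tv_mulVec, e_dot]

/-- the trace formula (T4) -/
theorem trace_psiRep_rootEl {κ : Type} [Fintype κ] [DecidableEq κ] {V : Type} [AddCommGroup V]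
    [Module ℂ V] [FiniteDimensional ℂ V] (hκ : 2 ≤ Fintype.card κ)
    (ρ : Representation ℂ (Matrix.SpecialLinearGroup (Unit ⊕ κ) F) V)
    (ψ : AddChar F ℂ) (hψ : ψ ≠ 1) (f : ℕ) (hW : WData ρ ψ 1 f)
    (j k : κ) (hjk : j ≠ k) (t : F) (ht : t ≠ 0)
    (hline : ∀ v : κ → F, v ≠ 0 → v k = 0 → ∀ w ∈ wsp ρ ψ v, ρ (emb (rootEl j k hjk t)) w = w) :
    LinearMap.trace ℂ (wsp ρ ψ (0 : κ → F)) (psiRep ρ ψ (rootEl j k hjk t)) =
      (f : ℂ) - (Fintype.card F : ℂ) ^ (Fintype.card κ - 1) := by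
  have hej : (e j : κ → F) ≠ 0 := by
    intro h
    have := congrFun h j
    simp [e] at this
  have hek : (e k : κ → F) ≠ 0 := by
    intro h
    have := congrFun h k
    simp [e] at this
  have hA : LinearMap.trace ℂ V (ρ (emb (rootEl j k hjk t))) = (f : ℂ) - 1 := by
    have := trace_emb_tvS hκ ρ ψ 1 f hW (e j) (e k) hej hek
      (by rw [e_dot]; simp [e, hjk]) t ht
    simpa [rootEl] using this
  have hB := trace_emb_split ρ ψ (wsp_isInternal ρ ψ hψ) (rootEl j k hjk t) (by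
    intro v hv0 hfix w hw
    apply hline v hv0 _ w hw
    rw [rootEl_mulVec] at hfix
    have h1 : (t * v k) • (e j : κ → F) = 0 := by
      have := congrArg (fun x => x - v) hfix
      simpa using this
    have h2 := congrFun h1 j
    simp [e] at h2
    rcases h2 with h2 | h2
    · exact absurd h2 ht
    · exact h2)
  exact trace_psiRep_of_split (by omega) ρ ψ f hW j k hjk t ht hA hB

theorem NN_three (q : ℕ) : NN q 3 = 1 + q + q ^ 2 := by
  unfold NN
  simp [Finset.sum_range_succ]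

/-- base case `n = 3` -/
theorem minDeg_base3 (hq2 : Fintype.card F ≠ 2) (hq4 : Fintype.card F ≠ 4) :
    MinDeg F 3 (NN (Fintype.card F) 3 - 1) := by
  apply minDeg_of_model (Fin 2) 3 _ (by simp)
  intro V _ _ _ ρ hirr h2
  have hκ : Fintype.card (Fin 2) = 2 := by simp
  have key := reduce (F := F) (κ := Fin 2) (by simp) ρ hirr h2 ?_
  · simpa using key
  intro ψ hψ f hW hdvd
  have hjk : (0 : Fin 2) ≠ 1 := by decide
  have htr : ∀ t : F, t ≠ 0 →
      LinearMap.trace ℂ (wsp ρ ψ (0 : Fin 2 → F)) (psiRep ρ ψ (rootEl 0 1 hjk t)) =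
      (f : ℂ) - (Fintype.card F : ℂ) := by
    intro t ht
    have := trace_psiRep_rootEl (F := F) (κ := Fin 2) (by simp) ρ ψ hψ f hW 0 1 hjk t ht
      (fun v hv0 hv w hw =>
        line_fixed_eq2 hκ hq2 hq4 ρ ψ 0 1 hjk t v hv0 hv (hW.he v hv0) w hw)
    simpa using this
  have h3 := base3 (F := F) (κ := Fin 2) hκ hq2 hq4 ρ hirr ψ f hW (by simpa using hdvd) 0 1 hjk htr
  have h4 : NN (Fintype.card F) (Fintype.card (Fin 2) + 1) - 1 =
      Fintype.card F ^ 2 + Fintype.card F := by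
    simp only [Fintype.card_fin]
    rw [NN_three]
    omega
  rw [h4]
  exact h3


/-- the line hypothesis, for `|κ| ≥ 3` (with `q ≥ 4` when `|κ| = 3`) -/
theorem line_fixed {κ : Type} [Fintype κ] [DecidableEq κ] {V : Type} [AddCommGroup V] [Module ℂ V]
    [FiniteDimensional ℂ V] (hκ : 3 ≤ Fintype.card κ)
    (hq : Fintype.card κ = 3 → 4 ≤ Fintype.card F)
    (ρ : Representation ℂ (Matrix.SpecialLinearGroup (Unit ⊕ κ) F) V) (ψ : AddChar F ℂ)
    (j k : κ) (hjk : j ≠ k) (t : F) (v : κ → F) (hv0 : v ≠ 0) (hv : v k = 0)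
    (h1 : Module.finrank ℂ (wsp ρ ψ v) = 1) (w : V) (hw : w ∈ wsp ρ ψ v) :
    ρ (emb (rootEl j k hjk t)) w = w := by
  by_cases h3 : Fintype.card κ = 3
  · exact line_fixed_eq3 h3 (hq h3) ρ ψ j k hjk t v hv0 hv h1 w hw
  · exact line_fixed_ge4 (by omega) ρ ψ j k hjk t v hv0 hv h1 w hw

theorem exists_pair {κ : Type} [Fintype κ] [DecidableEq κ] (hκ : 2 ≤ Fintype.card κ) :
    ∃ j k : κ, j ≠ k := by
  have : 1 < Fintype.card κ := by omega
  obtain ⟨j, k, hjk⟩ := Fintype.one_lt_card_iff.mp this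
  exact ⟨j, k, hjk⟩

/-- the generic induction step -/
theorem minDeg_step (n : ℕ) (hn : 4 ≤ n) (hq : n = 4 → 4 ≤ Fintype.card F)
    (hprev : MinDeg F (n - 1) (NN (Fintype.card F) (n - 1) - 1)) :
    MinDeg F n (NN (Fintype.card F) n - 1) := by
  apply minDeg_of_model (Fin (n - 1)) n _ (by simp; omega)
  intro V _ _ _ ρ hirr h2
  have hκ : Fintype.card (Fin (n - 1)) = n - 1 := by simp
  have hn1 : Fintype.card (Fin (n - 1)) + 1 = n := by rw [hκ]; omega
  have key := reduce (F := F) (κ := Fin (n - 1)) (by rw [hκ]; omega) ρ hirr h2 ?_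
  · rwa [hn1] at key
  intro ψ hψ f hW hdvd
  obtain ⟨j, k, hjk⟩ := exists_pair (κ := Fin (n - 1)) (by rw [hκ]; omega)
  have htr := trace_psiRep_rootEl (F := F) (κ := Fin (n - 1)) (by rw [hκ]; omega) ρ ψ hψ f hW
    j k hjk 1 one_ne_zero
    (fun v hv0 hv w hw =>
      line_fixed (by rw [hκ]; omega) (fun h => hq (by rw [hκ] at h; omega)) ρ ψ j k hjk 1 v hv0 hv
        (hW.he v hv0) w hw)
  exact step (F := F) (κ := Fin (n - 1)) (by rw [hκ]; omega) (by rw [hκ]; exact hprev) ρ hirr ψ f hW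
    hdvd j k hjk 1 htr


theorem ext0_ne_zero {κ : Type} [Fintype κ] [DecidableEq κ] (u : κ → F) (hu : u ≠ 0) :
    (ext0 u : Unit ⊕ κ → F) ≠ 0 := by
  intro h
  apply hu
  funext i
  have := congrFun h (Sum.inr i)
  simpa [ext0] using this

/-- the carried cases: one more level down -/
theorem minDeg_carry (n : ℕ) (hn : 4 ≤ n) (hq : n = 4 → 4 ≤ Fintype.card F)
    (hperf2 : commutator (Matrix.SpecialLinearGroup (Fin (n - 2)) F) = ⊤)
    (dmin : ℕ) (hmin : MinDeg F (n - 2) dmin)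
    (harith : ∀ f D : ℕ, D = f + 1 * (Fintype.card F ^ (n - 1) - 1) →
      f + 2 ≤ NN (Fintype.card F) (n - 1) →
      (f + 1 = Fintype.card F ^ (n - 2) ∨ Fintype.card F ^ (n - 2) + dmin ≤ f + 1) →
      D ∣ NN (Fintype.card F) n * (Fintype.card F ^ (n - 1) - 1) *
        (1 * Fintype.card F ^ (n - 1)) → False) :
    MinDeg F n (NN (Fintype.card F) n - 1) := by
  apply minDeg_of_model (Unit ⊕ Fin (n - 2)) n _ (by simp; omega)
  intro V _ _ _ ρ hirr h2
  have hκ2 : Fintype.card (Fin (n - 2)) = n - 2 := by simp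
  have hκ : Fintype.card (Unit ⊕ Fin (n - 2)) = n - 1 := by simp; omega
  have hn1 : Fintype.card (Unit ⊕ Fin (n - 2)) + 1 = n := by rw [hκ]; omega
  have key := reduce (F := F) (κ := Unit ⊕ Fin (n - 2)) (by rw [hκ]; omega) ρ hirr h2 ?_
  · rwa [hn1] at key
  intro ψ hψ f hW hdvd
  rw [hn1]
  rw [hn1, hκ] at hdvd
  by_contra hlt
  push Not at hlt
  have hD := hW.hD
  rw [hκ] at hD
  have hq2 : 2 ≤ Fintype.card F := two_le_q
  have hNN : NN (Fintype.card F) n = NN (Fintype.card F) (n - 1) + Fintype.card F ^ (n - 1) := by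
    have := NN_succ (Fintype.card F) (n - 1)
    rwa [show n - 1 + 1 = n by omega] at this
  have hQpos : 1 ≤ Fintype.card F ^ (n - 1) := Nat.one_le_pow _ _ (by omega)
  -- the phantom is excluded
  have hph : Module.finrank ℂ V ≠ NN (Fintype.card F) n - 2 := by
    intro h
    apply phantom (Fintype.card F) n hq2 (by omega)
    rw [← h]
    exact hdvd
  have hf : f + 2 ≤ NN (Fintype.card F) (n - 1) := by omega
  -- no fixed vectors of the vector stabiliser
  have hnofix : (psiRep ρ ψ).invariants = ⊥ := by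
    rw [eq_bot_iff]
    intro w hw
    by_contra hw0
    have hfix : stabFix ρ (MulAction.stabilizer
        (Matrix.SpecialLinearGroup (Unit ⊕ (Unit ⊕ Fin (n - 2))) F)
        (x0 : NZv (Unit ⊕ (Unit ⊕ Fin (n - 2))) F)) ≠ ⊥ := by
      intro hbot
      have hmem : (w : V) ∈ stabFix ρ (MulAction.stabilizer
          (Matrix.SpecialLinearGroup (Unit ⊕ (Unit ⊕ Fin (n - 2))) F)
          (x0 : NZv (Unit ⊕ (Unit ⊕ Fin (n - 2))) F)) :=
        (mem_invariants_stabilizer_iff ρ ψ (w : V)).mpr ⟨w.2, hw⟩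
      rw [hbot, Submodule.mem_bot] at hmem
      apply hw0
      rw [Submodule.mem_bot]
      exact Subtype.ext hmem
    have h3 := t3b (F := F) (κ := Unit ⊕ Fin (n - 2)) (by rw [hκ]; omega) ρ hirr hfix
    rw [hn1] at h3
    omega
  -- the trace formula on all of the next unipotent radical
  obtain ⟨j, k, hjk⟩ := exists_pair (κ := Unit ⊕ Fin (n - 2)) (by rw [hκ]; omega)
  have htr0 := trace_psiRep_rootEl (F := F) (κ := Unit ⊕ Fin (n - 2)) (by rw [hκ]; omega) ρ ψ hψ f
    hW j k hjk 1 one_ne_zero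
    (fun v hv0 hv w hw =>
      line_fixed (by rw [hκ]; omega) (fun h => hq (by rw [hκ] at h; omega)) ρ ψ j k hjk 1 v hv0 hv
        (hW.he v hv0) w hw)
  have htr : ∀ u' : Fin (n - 2) → F, u' ≠ 0 →
      LinearMap.trace ℂ (wsp ρ ψ (0 : Unit ⊕ Fin (n - 2) → F)) (psiRep ρ ψ (xu u')) =
        (f : ℂ) - (Fintype.card F : ℂ) ^ Fintype.card (Fin (n - 2)) := by
    intro u' hu'
    have := trace_psiRep_tvS (F := F) (κ := Unit ⊕ Fin (n - 2)) (by rw [hκ]; omega) ρ ψ _ j k hjk
      htr0 e0 (ext0 u') e0_ne_zero (ext0_ne_zero u' hu') (ext0_dot_e0 u')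
    rw [hκ] at this
    rw [hκ2]
    rw [show n - 1 - 1 = n - 2 by omega] at this
    exact this
  have ht3b : ∀ (Y : Type) [AddCommGroup Y] [Module ℂ Y] [FiniteDimensional ℂ Y]
      (τ : Representation ℂ (Matrix.SpecialLinearGroup (Unit ⊕ Fin (n - 2)) F) Y), τ.IsIrreducible →
      stabFix τ (MulAction.stabilizer (Matrix.SpecialLinearGroup (Unit ⊕ Fin (n - 2)) F)
        (x0 : NZv (Unit ⊕ Fin (n - 2)) F)) ≠ ⊥ →
      Module.finrank ℂ Y = 1 ∨
        NN (Fintype.card F) (Fintype.card (Fin (n - 2)) + 1) - 1 ≤ Module.finrank ℂ Y := by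
    intro Y _ _ _ τ hτ hfix
    rcases t3b (F := F) (κ := Fin (n - 2)) (by rw [hκ2]; omega) τ hτ hfix with h | h | h
    · exact Or.inl h
    · exact Or.inr (by omega)
    · exact Or.inr (by omega)
  have hcg := carry_gen (F := F) (κ2 := Fin (n - 2)) (by rw [hκ2]; omega) hperf2 ρ hirr ψ hψ f hW
    htr hnofix ht3b (by rw [hκ2, show n - 2 + 1 = n - 1 by omega]; exact hf) dmin
    (by rw [hκ2]; exact hmin)
  rw [hκ2] at hcg
  exact harith f (Module.finrank ℂ V) hD hf hcg hdvd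


/-- the crude bound `q^(n-1) - 1` -/
theorem minDeg_crude (n : ℕ) (hn : 3 ≤ n) : MinDeg F n (Fintype.card F ^ (n - 1) - 1) := by
  apply minDeg_of_model (Fin (n - 1)) n _ (by simp; omega)
  intro V _ _ _ ρ hirr h2
  have hκ : Fintype.card (Fin (n - 1)) = n - 1 := by simp
  obtain ⟨ψ, hψ'⟩ := (AddChar.exists_apply_ne_zero (α := F) (a := (1 : F))).mpr one_ne_zero
  have hψ : ψ ≠ 1 := fun h => hψ' (by rw [h]; rfl)
  obtain ⟨e, f, hW⟩ := exists_wdata (F := F) (κ := Fin (n - 1)) (by rw [hκ]; omega) ρ ψ hψ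
    (wsp_isInternal ρ ψ hψ)
  have he := one_le_e (by rw [hκ]; omega) ρ hirr h2 ψ hψ e f hW
  rw [hW.hD, hκ]
  calc Fintype.card F ^ (n - 1) - 1 = 1 * (Fintype.card F ^ (n - 1) - 1) := (one_mul _).symm
    _ ≤ e * (Fintype.card F ^ (n - 1) - 1) := Nat.mul_le_mul_right _ he
    _ ≤ f + e * (Fintype.card F ^ (n - 1) - 1) := Nat.le_add_left _ _

theorem carry44 (hq : Fintype.card F = 4) : MinDeg F 4 (NN (Fintype.card F) 4 - 1) := by
  apply minDeg_carry 4 (by norm_num) (fun _ => by omega)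
    (sl_perfect (Fin (4 - 2)) (Or.inr ⟨by simp, by omega⟩)) 3 (sl24 hq)
  intro f D hD hf hcg hdvd
  rw [hq] at hD hf hcg hdvd
  have hNN3 : NN 4 (4 - 1) = 21 := by unfold NN; decide
  have hNN4 : NN 4 4 = 85 := by unfold NN; decide
  rw [hNN3] at hf
  rw [hNN4] at hdvd
  norm_num at hD hcg hdvd
  have hfr : f = 15 ∨ f = 18 ∨ f = 19 := by omega
  rcases hfr with rfl | rfl | rfl <;> subst hD <;> norm_num at hdvd

theorem carry52 (hq : Fintype.card F = 2) : MinDeg F 5 (NN (Fintype.card F) 5 - 1) := by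
  have hmin : MinDeg F (5 - 2) 3 := by
    have := minDeg_crude (F := F) 3 (by norm_num)
    rw [hq] at this
    exact this
  apply minDeg_carry 5 (by norm_num) (fun h => by omega)
    (sl_perfect (Fin (5 - 2)) (Or.inl (by simp))) 3 hmin
  intro f D hD hf hcg hdvd
  rw [hq] at hD hf hcg hdvd
  have hNN4 : NN 2 (5 - 1) = 15 := by unfold NN; decide
  have hNN5 : NN 2 5 = 31 := by unfold NN; decide
  rw [hNN4] at hf
  rw [hNN5] at hdvd
  norm_num at hD hcg hdvd
  have hfr : f = 7 ∨ f = 10 ∨ f = 11 ∨ f = 12 ∨ f = 13 := by omega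
  rcases hfr with rfl | rfl | rfl | rfl | rfl <;> subst hD <;> norm_num at hdvd

theorem carry53 (hq : Fintype.card F = 3) : MinDeg F 5 (NN (Fintype.card F) 5 - 1) := by
  have hmin : MinDeg F (5 - 2) 12 := by
    have := minDeg_base3 (F := F) (by omega) (by omega)
    rw [hq] at this
    have h12 : NN 3 3 - 1 = 12 := by unfold NN; decide
    rw [h12] at this
    exact this
  apply minDeg_carry 5 (by norm_num) (fun h => by omega)
    (sl_perfect (Fin (5 - 2)) (Or.inl (by simp))) 12 hmin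
  intro f D hD hf hcg hdvd
  rw [hq] at hD hf hcg hdvd
  have hNN4 : NN 3 (5 - 1) = 40 := by unfold NN; decide
  have hNN5 : NN 3 5 = 121 := by unfold NN; decide
  rw [hNN4] at hf
  rw [hNN5] at hdvd
  norm_num at hD hcg hdvd
  have hfr : f = 26 ∨ f = 38 := by omega
  rcases hfr with rfl | rfl <;> subst hD <;> norm_num at hdvd


/-- **the lower bound**, by induction on `n` -/
theorem minDeg_main : ∀ (n : ℕ), 3 ≤ n →
    ¬ ((n = 3 ∧ Fintype.card F = 2) ∨ (n = 3 ∧ Fintype.card F = 4) ∨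
      (n = 4 ∧ Fintype.card F = 2) ∨ (n = 4 ∧ Fintype.card F = 3)) →
    MinDeg F n (NN (Fintype.card F) n - 1) := by
  intro n
  induction n using Nat.strong_induction_on with
  | _ n ih =>
    intro hn hex
    have hq2 : 2 ≤ Fintype.card F := two_le_q
    by_cases h3 : n = 3
    · subst h3
      exact minDeg_base3 (fun h => hex (Or.inl ⟨rfl, h⟩)) (fun h => hex (Or.inr (Or.inl ⟨rfl, h⟩)))
    by_cases h4 : n = 4
    · subst h4
      by_cases hq4 : Fintype.card F = 4
      · exact carry44 hq4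
      · have hq5 : 5 ≤ Fintype.card F := by
          have h1 : Fintype.card F ≠ 2 := fun h => hex (Or.inr (Or.inr (Or.inl ⟨rfl, h⟩)))
          have h2 : Fintype.card F ≠ 3 := fun h => hex (Or.inr (Or.inr (Or.inr ⟨rfl, h⟩)))
          omega
        apply minDeg_step 4 (by norm_num) (fun _ => by omega)
        exact ih 3 (by norm_num) (by norm_num) (by omega)
    by_cases h5 : n = 5
    · subst h5
      by_cases hq2' : Fintype.card F = 2
      · exact carry52 hq2'
      by_cases hq3' : Fintype.card F = 3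
      · exact carry53 hq3'
      apply minDeg_step 5 (by norm_num) (fun h => by omega)
      exact ih 4 (by norm_num) (by norm_num) (by omega)
    apply minDeg_step n (by omega) (fun h => by omega)
    exact ih (n - 1) (by omega) (by omega) (by omega)

end Cfsg.Agent.Lib.Helper77_SLnMain
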