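import Cfsg.Agent.Lib.Helper35_CosetCertDefs

/-!
# sz8 market (architect helper35), package SZ8-CERT (helper77): soundness of the coset-table
certificate, `index_le`.

Representatives `rep c` along the spanning tree; every entry `(c, s)` of the table is *sound*
(`rep c * S s * (rep (T c s))⁻¹ ∈ H`) by induction on its level (`walk_sound` reads the justifying
relator); the cosets `(rep c)⁻¹ H` are then permuted by the letters, hence are all the cosets.
-/


set_option autoImplicit false
set_option linter.unusedVariables false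

namespace Cfsg.Agent.Lib.Helper77_SZ8_CERT

open Cfsg.Agent.Lib.Helper35_CosetCertDefs

variable {G : Type*} [Group G]

/-- coset representatives along the spanning tree -/
noncomputable def rep (C : Cert) (S : ℕ → G) : ℕ → G
  | c => if h : 0 < c ∧ C.par c < c then rep C S (C.par c) * S (C.plet c) else 1
termination_by c => c
decreasing_by exact h.2

theorem rep_zero (C : Cert) (S : ℕ → G) : rep C S 0 = 1 := by
  rw [rep]
  simp

theorem rep_pos (C : Cert) (S : ℕ → G) {c : ℕ} (h0 : 0 < c) (h : C.par c < c) :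
    rep C S c = rep C S (C.par c) * S (C.plet c) := by
  conv_lhs => rw [rep]
  rw [dif_pos ⟨h0, h⟩]

theorem wprod_nil (S : ℕ → G) : wprod S [] = 1 := rfl

theorem wprod_cons (S : ℕ → G) (t : ℕ) (w : List ℕ) : wprod S (t :: w) = S t * wprod S w := rfl

/-- the entry `(d, t)` is sound -/
def Snd (C : Cert) (S : ℕ → G) (H : Subgroup G) (d t : ℕ) : Prop :=
  rep C S d * S t * (rep C S (C.T d t))⁻¹ ∈ H

variable {C : Cert} {S : ℕ → G} {H : Subgroup G}

theorem snd_rev (hC : Valid C) (hSinv : ∀ s < C.k, S (C.inv s) = (S s)⁻¹) {c s : ℕ} (hc : c < C.n)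
    (hs : s < C.k) : Snd C S H (C.T c s) (C.inv s) ↔ Snd C S H c s := by
  unfold Snd
  rw [(hC.htab c hc s hs).2, hSinv s hs]
  have e : rep C S (C.T c s) * (S s)⁻¹ * (rep C S c)⁻¹ =
      (rep C S c * S s * (rep C S (C.T c s))⁻¹)⁻¹ := by group
  rw [e, inv_mem_iff]

theorem walk_sound (hC : Valid C) (hSinv : ∀ s < C.k, S (C.inv s) = (S s)⁻¹) (L c s : ℕ)
    (hc : c < C.n) (hs : s < C.k)
    (IH : ∀ d < C.n, ∀ t < C.k, C.lev d t < L → Snd C S H d t) :
    ∀ (w : List ℕ) (d cnt d' cnt' : ℕ), d < C.n →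
      walkAux C L c s w d cnt = some (d', cnt') →
      d' < C.n ∧ cnt ≤ cnt' ∧
        (cnt' = cnt → rep C S d * wprod S w * (rep C S d')⁻¹ ∈ H) ∧
        (cnt' = cnt + 1 → rep C S d * wprod S w * (rep C S d')⁻¹ ∈ H → Snd C S H c s) := by
  intro w
  induction w with
  | nil =>
    intro d cnt d' cnt' hd hw
    simp only [walkAux, Option.some.injEq, Prod.mk.injEq] at hw
    obtain ⟨rfl, rfl⟩ := hw
    refine ⟨hd, le_rfl, fun _ => ?_, fun h => ?_⟩
    · rw [wprod_nil, mul_one, mul_inv_cancel]; exact H.one_mem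
    · omega
  | cons t w ih =>
    intro d cnt d' cnt' hd hw
    rw [walkAux] at hw
    by_cases ht : t < C.k
    · rw [if_pos ht] at hw
      have he : C.T d t < C.n := (hC.htab d hd t ht).1
      have hsplit : rep C S d * wprod S (t :: w) * (rep C S d')⁻¹ =
          (rep C S d * S t * (rep C S (C.T d t))⁻¹) *
            (rep C S (C.T d t) * wprod S w * (rep C S d')⁻¹) := by
        rw [wprod_cons]; group
      by_cases hsp : (d = c ∧ t = s) ∨ (d = C.T c s ∧ t = C.inv s)
      · rw [if_pos hsp] at hw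
        obtain ⟨h1, h2, h3, h4⟩ := ih (C.T d t) (cnt + 1) d' cnt' he hw
        have hX : Snd C S H d t ↔ Snd C S H c s := by
          rcases hsp with ⟨rfl, rfl⟩ | ⟨rfl, rfl⟩
          · exact Iff.rfl
          · exact snd_rev hC hSinv hc hs
        refine ⟨h1, by omega, fun h => by omega, fun h hmem => ?_⟩
        have htail := h3 (by omega)
        rw [hsplit] at hmem
        exact hX.mp ((H.mul_mem_cancel_right htail).mp hmem)
      · rw [if_neg hsp] at hw
        by_cases hl : C.lev d t < L
        · rw [if_pos hl] at hw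
          obtain ⟨h1, h2, h3, h4⟩ := ih (C.T d t) cnt d' cnt' he hw
          have hg : Snd C S H d t := IH d hd t ht hl
          refine ⟨h1, h2, fun h => ?_, fun h hmem => ?_⟩
          · rw [hsplit]; exact H.mul_mem hg (h3 h)
          · rw [hsplit] at hmem
            exact h4 h ((H.mul_mem_cancel_left hg).mp hmem)
        · rw [if_neg hl] at hw
          exact absurd hw (by simp)
    · rw [if_neg ht] at hw
      exact absurd hw (by simp)

theorem snd_all (hC : Valid C) (hSinv : ∀ s < C.k, S (C.inv s) = (S s)⁻¹)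
    (hrel : ∀ r ∈ C.rels, wprod S r = 1) (hH : S C.hlet ∈ H) :
    ∀ (L c s : ℕ), c < C.n → s < C.k → C.lev c s = L → Snd C S H c s := by
  intro L
  induction L using Nat.strong_induction_on with
  | _ L ihL =>
    intro c s hc hs hL
    rcases Nat.eq_zero_or_pos L with h0 | hpos
    · -- level `0`
      have hb := hC.hbase c hc s hs (hL.trans h0)
      rcases hb with ⟨h1, h2, h3⟩ | ⟨h1, h2, h3⟩ | ⟨h1, h2, h3⟩
      · have hT : C.T c s < C.n := (hC.htab c hc s hs).1
        have ht := hC.htree (C.T c s) hT h1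
        unfold Snd
        rw [rep_pos C S h1 ht.1, h2, h3, mul_inv_cancel]
        exact H.one_mem
      · have ht := hC.htree c hc h1
        unfold Snd
        have e : ∀ a b : G, a * b * b⁻¹ * a⁻¹ = 1 := by intro a b; group
        rw [rep_pos C S h1 ht.1, h2, ← h3, hSinv _ ht.2.1, e]
        exact H.one_mem
      · unfold Snd
        rw [h2, h1, rep_zero, one_mul, inv_one, mul_one]
        rcases h3 with rfl | rfl
        · exact hH
        · rw [hSinv _ hC.hh]; exact H.inv_mem hH
    · -- positive level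
      have hj := hC.hjust c hc s hs (by omega)
      obtain ⟨hj1, hj2, hj3⟩ := hj
      have hmemr : C.rels.getD (C.jr c s) [] ∈ C.rels := by
        rw [List.getD_eq_getElem _ _ hj1]
        exact List.getElem_mem _
      have hw1 : wprod S (C.rels.getD (C.jr c s) []) = 1 := hrel _ hmemr
      have IH : ∀ d < C.n, ∀ t < C.k, C.lev d t < C.lev c s → Snd C S H d t := by
        intro d hd t ht hlt
        exact ihL (C.lev d t) (by omega) d t hd ht rfl
      obtain ⟨-, -, -, h4⟩ := walk_sound hC hSinv (C.lev c s) c s hc hs IH _ _ _ _ _ hj2 hj3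
      refine h4 (by omega) ?_
      rw [hw1, mul_one, mul_inv_cancel]
      exact H.one_mem

/-- **Soundness.** -/
theorem index_le {G : Type*} [Group G] (C : Cert) (hC : Valid C) (S : ℕ → G) (H : Subgroup G)
    (hSinv : ∀ s < C.k, S (C.inv s) = (S s)⁻¹)
    (hrel : ∀ r ∈ C.rels, wprod S r = 1)
    (hH : S C.hlet ∈ H)
    (hgen : Subgroup.closure (S '' {s | s < C.k}) = ⊤) :
    H.index ≠ 0 ∧ H.index ≤ C.n := by
  classical
  have hsnd : ∀ c < C.n, ∀ s < C.k, Snd C S H c s :=
    fun c hc s hs => snd_all hC hSinv hrel hH _ c s hc hs rfl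
  -- the cosets `(rep c)⁻¹ H`
  let q : Fin C.n → G ⧸ H := fun c => QuotientGroup.mk (rep C S c)⁻¹
  -- a letter permutes them
  have hstep : ∀ s < C.k, ∀ c : Fin C.n, ∃ c' : Fin C.n, S s • q c = q c' := by
    intro s hs c
    have his : C.inv s < C.k := (hC.hinv s hs).1
    have hT : C.T c (C.inv s) < C.n := (hC.htab c c.2 _ his).1
    refine ⟨⟨C.T c (C.inv s), hT⟩, ?_⟩
    have h1 := hsnd c c.2 _ his
    unfold Snd at h1
    rw [hSinv s hs] at h1
    show (QuotientGroup.mk (S s * (rep C S c)⁻¹) : G ⧸ H) = QuotientGroup.mk _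
    rw [QuotientGroup.eq]
    have e : (S s * (rep C S c)⁻¹)⁻¹ * (rep C S (C.T c (C.inv s)))⁻¹ =
        rep C S c * (S s)⁻¹ * (rep C S (C.T c (C.inv s)))⁻¹ := by group
    rw [e]
    exact h1
  -- the subgroup of the elements permuting them
  let K : Subgroup G :=
    { carrier := {g | ∀ c : Fin C.n, (∃ c', g • q c = q c') ∧ ∃ c', g⁻¹ • q c = q c'}
      one_mem' := fun c => ⟨⟨c, one_smul _ _⟩, ⟨c, by rw [inv_one, one_smul]⟩⟩
      mul_mem' := by
        intro g h hg hh c
        constructor
        · obtain ⟨c1, h1⟩ := (hh c).1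
          obtain ⟨c2, h2⟩ := (hg c1).1
          exact ⟨c2, by rw [mul_smul, h1, h2]⟩
        · obtain ⟨c1, h1⟩ := (hg c).2
          obtain ⟨c2, h2⟩ := (hh c1).2
          exact ⟨c2, by rw [mul_inv_rev, mul_smul, h1, h2]⟩
      inv_mem' := by
        intro g hg c
        refine ⟨(hg c).2, ?_⟩
        rw [inv_inv]
        exact (hg c).1 }
  have hK : K = ⊤ := by
    rw [eq_top_iff, ← hgen, Subgroup.closure_le]
    rintro _ ⟨s, hs, rfl⟩
    intro c
    refine ⟨hstep s hs c, ?_⟩
    have his : C.inv s < C.k := (hC.hinv s hs).1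
    have := hstep (C.inv s) his c
    rwa [hSinv s hs] at this
  have hsurj : Function.Surjective q := by
    intro x
    induction x using QuotientGroup.induction_on with
    | H g =>
      have hg : g ∈ K := by rw [hK]; exact Subgroup.mem_top g
      obtain ⟨c', hc'⟩ := (hg ⟨0, hC.hn⟩).1
      refine ⟨c', ?_⟩
      rw [← hc']
      show (QuotientGroup.mk (g * (rep C S 0)⁻¹) : G ⧸ H) = QuotientGroup.mk g
      rw [rep_zero, inv_one, mul_one]
  have hfin : Finite (G ⧸ H) := Finite.of_surjective q hsurj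
  constructor
  · exact Subgroup.index_ne_zero_of_finite
  · have := Nat.card_le_card_of_surjective q hsurj
    rw [Nat.card_fin] at this
    exact this

end Cfsg.Agent.Lib.Helper77_SZ8_CERT
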