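import Mathlib
import Cfsg.Prelude.Def_Characters
import Cfsg.Prelude.Def_Blocks
import Cfsg.Agent.Lib.Helper16_SO_Brauer
import Cfsg.Agent.Lib.Helper17_Sylow
import Cfsg.Agent.Lib.Helper74_CharTools
import Cfsg.Agent.Lib.Helper77_BlockBasics
import Cfsg.Agent.Lib.Helper80_CharBasic

/-!
# A7 market (S0984), package Z35-BR

Brauer's defect-one data for `p = 7`, `e = 2` in a simple group of order `2520`: the principal
7-block contains a non-exceptional character of degree `8` (sign `+1`) or `6` (sign `-1`).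
-/

set_option autoImplicit false
open Cfsg Cfsg.Agent.Lib.Helper80_CharBasic

namespace Cfsg.Agent.Lib.Helper78_A7_Z35BR

/-- The arithmetic of the case `p = 7`, `e = 2`, `|G| = 2520`. -/
theorem arith (f D : ℕ) (s ε : ℤ) (hs : s = 1 ∨ s = -1) (hε : ε = 1 ∨ ε = -1)
    (hf2 : 2 ≤ f) (hfd : f ∣ 2520) (hDd : D ∣ 2520)
    (hfs : (f : ℤ) ≡ s [ZMOD 7]) (hDε : (D : ℤ) ≡ ε * 2 [ZMOD 7])
    (hrel : ε * (D : ℤ) = 1 + s * (f : ℤ))
    (hsq : 1 + f ^ 2 + 3 * D ^ 2 ≤ 2520) :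
    (f = 8 ∧ s = 1) ∨ (f = 6 ∧ s = -1) := by
  have hf50 : f ≤ 50 := by
    by_contra h
    have : 51 ≤ f := by omega
    nlinarith
  have hfm : 2520 % f = 0 := Nat.mod_eq_zero_of_dvd hfd
  unfold Int.ModEq at hfs hDε
  rcases hs with hs | hs <;> rcases hε with hε | hε <;> subst hs <;> subst hε
  · -- `D = 1 + f`
    have hD : D = 1 + f := by omega
    subst hD
    have hDm : 2520 % (1 + f) = 0 := Nat.mod_eq_zero_of_dvd hDd
    left
    refine ⟨?_, rfl⟩
    interval_cases f <;> omega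
  · exfalso; omega
  · exfalso; omega
  · -- `D = f - 1`
    have hD : f = D + 1 := by omega
    subst hD
    have hDm : 2520 % D = 0 := Nat.mod_eq_zero_of_dvd hDd
    right
    refine ⟨?_, rfl⟩
    have hD49 : D ≤ 49 := by omega
    have hD1 : 1 ≤ D := by omega
    interval_cases D <;> omega

theorem z35_br {G : Type*} [Group G] [Finite G] [IsSimpleGroup G] [Fact (Nat.Prime 7)]
    (hG : Nat.card G = 2520) (P : Sylow 7 G) (hP : Nat.card P = 7)
    (he : (Subgroup.centralizer ((P : Subgroup G) : Set G)).relIndex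
      (Subgroup.normalizer ((P : Subgroup G) : Set G)) = 2) :
    ∃ (χ : Cfsg.IrrCharacter G) (s : ℤ),
      ((Cfsg.charDegree (χ : G → ℂ) = 8 ∧ s = 1) ∨ (Cfsg.charDegree (χ : G → ℂ) = 6 ∧ s = -1)) ∧
      ∀ x : G, x ∈ (P : Subgroup G) → x ≠ 1 → ∀ y : G,
        y ∈ Subgroup.centralizer ((P : Subgroup G) : Set G) → ¬ 7 ∣ orderOf y →
        (χ : G → ℂ) (x * y) = (s : ℂ) := by
  classical
  have hnc : ¬ IsMulCommutative G := by
    apply Cfsg.Agent.Lib.Helper17_Sylow.not_isMulCommutative_of_not_prime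
    rw [hG]; norm_num
  have hna : ¬ ∀ a b : G, a * b = b * a :=
    Cfsg.Agent.Lib.Helper16_SO_Brauer.not_comm_of_not_isMulCommutative hnc
  obtain ⟨X, εX, θ, ε, hXc, hθX, h1X, hX, hε, hθdeg, hrel, -, hsq, -⟩ :=
    Cfsg.Agent.Lib.Helper16_SO_Brauer.brauer_data (p := 7) (by norm_num) P hP 2 he (by norm_num)
  have h1 : oneIrr G ∈ X ∧ εX (oneIrr G) = 1 := by
    rcases h1X with h | ⟨-, -, h⟩
    · exact h
    · exfalso; omega
  obtain ⟨h1mem, h1sign⟩ := h1
  -- `X = {1, χ}`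
  have hcard : (X.erase (oneIrr G)).card = 1 := by
    rw [Finset.card_erase_of_mem h1mem, hXc]
  obtain ⟨χ, hχ⟩ := Finset.card_eq_one.mp hcard
  have hχmem : χ ∈ X.erase (oneIrr G) := by rw [hχ]; exact Finset.mem_singleton_self χ
  have hχne : χ ≠ oneIrr G := (Finset.mem_erase.mp hχmem).1
  have hχX : χ ∈ X := (Finset.mem_erase.mp hχmem).2
  have hXeq : X = insert (oneIrr G) ({χ} : Finset (IrrCharacter G)) := by
    rw [← hχ, Finset.insert_erase h1mem]
  have hnotin : oneIrr G ∉ ({χ} : Finset (IrrCharacter G)) := by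
    rw [Finset.mem_singleton]; exact fun h => hχne h.symm
  obtain ⟨hs, hfs, hval⟩ := hX χ hχX
  have hdeg1 := Cfsg.Agent.Lib.Helper16_SO_Brauer.charDegree_oneIrr G
  rw [hXeq, Finset.sum_insert hnotin, Finset.sum_singleton, h1sign, hdeg1] at hrel
  rw [hXeq, Finset.sum_insert hnotin, Finset.sum_singleton, hdeg1, hG] at hsq
  set f := Cfsg.charDegree (χ : G → ℂ) with hf_def
  set D := Cfsg.charDegree (θ : G → ℂ) with hD_def
  have hfd : f ∣ 2520 := by
    rw [← hG]; exact Cfsg.Agent.Lib.Helper77_BlockBasics.charDegree_dvd_card χ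
  have hDd : D ∣ 2520 := by
    rw [← hG]; exact Cfsg.Agent.Lib.Helper77_BlockBasics.charDegree_dvd_card θ
  have hfpos : 0 < f := Cfsg.Agent.Lib.Helper77_BlockBasics.charDegree_pos χ
  have hf2 : 2 ≤ f := by
    by_contra h
    have hf1 : f = 1 := by omega
    exact hχne (Cfsg.Agent.Lib.Helper74_CharTools.eq_oneIrr_of_degree_one hna χ hf1)
  have hsq' : 1 + f ^ 2 + 3 * D ^ 2 ≤ 2520 := by
    have : (7 - 1) / 2 = 3 := by norm_num
    rw [this] at hsq
    simpa using hsq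
  have hrel' : ε * (D : ℤ) = 1 + εX χ * (f : ℤ) := by
    rw [hrel]; simp
  have hfs' : (f : ℤ) ≡ εX χ [ZMOD 7] := by exact_mod_cast hfs
  have hθdeg' : (D : ℤ) ≡ ε * 2 [ZMOD 7] := by exact_mod_cast hθdeg
  have key := arith f D (εX χ) ε hs hε hf2 hfd hDd hfs' hθdeg' hrel' hsq'
  exact ⟨χ, εX χ, key, hval⟩

end Cfsg.Agent.Lib.Helper78_A7_Z35BR
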