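import Mathlib
import Cfsg.Agent.Lib.Helper17_Sylow

/-!
# A7 market (S0984), package Z35-LOC

Local analysis in a simple group of order `2520` with `36` Sylow `7`-subgroups:
`|N(P)| = 70`, `|N(P) : C(P)| = 2`, and there are commuting `x` of order `7`, `y` of order `5`
with `|C(y)| = 35`.
-/

set_option autoImplicit false

namespace Cfsg.Agent.Lib.Helper78_A7_Z35LOC

open Subgroup Cfsg.Agent.Lib.Helper17_Sylow

/-- The centralizer of a cyclic subgroup is the centralizer of its generator. -/
theorem centralizer_zpowers_eq {G : Type*} [Group G] (y : G) :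
    centralizer ((zpowers y : Subgroup G) : Set G) = centralizer ({y} : Set G) := by
  apply le_antisymm
  · apply Subgroup.centralizer_le
    intro z hz
    rw [Set.mem_singleton_iff] at hz
    subst hz
    exact mem_zpowers z
  · intro g hg
    rw [Subgroup.mem_centralizer_iff] at hg ⊢
    intro z hz
    obtain ⟨k, rfl⟩ := Subgroup.mem_zpowers_iff.mp hz
    have hc : Commute y g := hg y (Set.mem_singleton y)
    exact hc.zpow_left k

/-- In a simple group of order `2520`, a Sylow `p`-subgroup (`p = 5` or `7`) of order `p` whose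
normalizer has order `70` has `|N : C| = 2` and `|C| = 35`. -/
theorem relIndex_eq_two_of_card_normalizer {G : Type*} [Group G] [Finite G] [IsSimpleGroup G]
    {p : ℕ} [hp : Fact p.Prime] (hG : Nat.card G = 2520) (P : Sylow p G)
    (hP : Nat.card (P : Subgroup G) = p) (hp57 : p = 5 ∨ p = 7)
    (hN : Nat.card (normalizer ((P : Subgroup G) : Set G)) = 70) :
    (centralizer ((P : Subgroup G) : Set G)).relIndex (normalizer ((P : Subgroup G) : Set G)) = 2 ∧
      Nat.card (centralizer ((P : Subgroup G) : Set G)) = 35 := by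
  have hCN : centralizer ((P : Subgroup G) : Set G) ≤ normalizer ((P : Subgroup G) : Set G) :=
    centralizer_le_normalizer _
  have h1 := card_mul_relIndex_of_le hCN
  rw [hN] at h1
  have hk := relIndex_centralizer_normalizer_dvd_pred (P : Subgroup G) hP
  set k := (centralizer ((P : Subgroup G) : Set G)).relIndex
    (normalizer ((P : Subgroup G) : Set G)) with hk_def
  have hk70 : k ∣ 70 := Dvd.intro_left _ h1
  have hk2 : k ∣ 2 := by
    rcases hp57 with h | h
    · subst h
      have : k ∣ Nat.gcd (5 - 1) 70 := Nat.dvd_gcd hk hk70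
      simpa using this
    · subst h
      have : k ∣ Nat.gcd (7 - 1) 70 := Nat.dvd_gcd hk hk70
      simpa using this
  have hk12 : k = 1 ∨ k = 2 := (Nat.dvd_prime Nat.prime_two).mp hk2
  have hkne : k ≠ 1 := by
    intro hk1
    have hNC : normalizer ((P : Subgroup G) : Set G) ≤ centralizer ((P : Subgroup G) : Set G) :=
      Subgroup.relIndex_eq_one.mp hk1
    rcases sylow_eq_bot_or_top_of_normalizer_le_centralizer P hNC with h | h
    · rw [h, Subgroup.card_bot] at hP
      rcases hp57 with h' | h' <;> omega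
    · rw [h, Subgroup.card_top, hG] at hP
      rcases hp57 with h' | h' <;> omega
  have hk2' : k = 2 := by
    rcases hk12 with h | h
    · exact absurd h hkne
    · exact h
  refine ⟨hk2', ?_⟩
  rw [hk2'] at h1
  omega

theorem z35_loc {G : Type*} [Group G] [Finite G] [IsSimpleGroup G] [Fact (Nat.Prime 7)]
    (hG : Nat.card G = 2520) (h36 : Nat.card (Sylow 7 G) = 36) :
    ∃ (P : Sylow 7 G) (x y : G), Nat.card P = 7 ∧
      (Subgroup.centralizer ((P : Subgroup G) : Set G)).relIndex
        (Subgroup.normalizer ((P : Subgroup G) : Set G)) = 2 ∧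
      x ∈ (P : Subgroup G) ∧ orderOf x = 7 ∧
      y ∈ Subgroup.centralizer ((P : Subgroup G) : Set G) ∧ orderOf y = 5 ∧
      Nat.card (Subgroup.centralizer ({y} : Set G)) = 35 := by
  have h5 : Fact (Nat.Prime 5) := ⟨by norm_num⟩
  have hG7 : Nat.card G = 7 ^ 1 * 360 := by rw [hG]; norm_num
  have hG5 : Nat.card G = 5 ^ 1 * 504 := by rw [hG]; norm_num
  have hnc : ¬ IsMulCommutative G := by
    apply not_isMulCommutative_of_not_prime
    rw [hG]; norm_num
  obtain ⟨P⟩ : Nonempty (Sylow 7 G) := inferInstance
  have hP : Nat.card (P : Subgroup G) = 7 := by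
    have := card_sylow_eq_pow hG7 (by norm_num) P
    simpa using this
  have hNP : Nat.card (normalizer ((P : Subgroup G) : Set G)) = 70 := by
    have := card_normalizer_mul_card_sylow P
    rw [h36, hG] at this
    omega
  obtain ⟨hk, hC⟩ := relIndex_eq_two_of_card_normalizer hG P hP (Or.inr rfl) hNP
  -- the generator `x`
  obtain ⟨x0, hx0⟩ := exists_prime_orderOf_dvd_card' (G := (P : Subgroup G)) 7 (by rw [hP])
  have hx7 : orderOf (x0 : G) = 7 := by rw [Subgroup.orderOf_coe]; exact hx0
  -- the element `y`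
  obtain ⟨y0, hy0⟩ := exists_prime_orderOf_dvd_card'
    (G := centralizer ((P : Subgroup G) : Set G)) 5 (by rw [hC]; norm_num)
  have hy5 : orderOf (y0 : G) = 5 := by rw [Subgroup.orderOf_coe]; exact hy0
  set x : G := (x0 : G) with hx_def
  set y : G := (y0 : G) with hy_def
  have hxP : x ∈ (P : Subgroup G) := x0.2
  have hyC : y ∈ centralizer ((P : Subgroup G) : Set G) := y0.2
  have hxy : x * y = y * x := (Subgroup.mem_centralizer_iff.mp hyC) x hxP
  -- the Sylow 5-subgroup `R = ⟨y⟩`
  have hR5 : ∀ R : Sylow 5 G, Nat.card (R : Subgroup G) = 5 := by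
    intro R
    have := card_sylow_eq_pow hG5 (by norm_num) R
    simpa using this
  obtain ⟨R, hR⟩ := exists_sylow_eq_zpowers hR5 y hy5
  have hCR : centralizer ((R : Subgroup G) : Set G) = centralizer ({y} : Set G) := by
    rw [hR]; exact centralizer_zpowers_eq y
  have hxCR : x ∈ centralizer ((R : Subgroup G) : Set G) := by
    rw [hCR, Subgroup.mem_centralizer_iff]
    intro z hz
    rw [Set.mem_singleton_iff] at hz
    subst hz
    exact hxy.symm
  have hxNR : x ∈ normalizer ((R : Subgroup G) : Set G) := centralizer_le_normalizer _ hxCR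
  have hyNR : y ∈ normalizer ((R : Subgroup G) : Set G) := by
    apply Subgroup.le_normalizer
    rw [hR]; exact mem_zpowers y
  have h7N : 7 ∣ Nat.card (normalizer ((R : Subgroup G) : Set G)) := by
    have := orderOf_dvd_natCard (⟨x, hxNR⟩ : normalizer ((R : Subgroup G) : Set G))
    rwa [Subgroup.orderOf_mk, hx7] at this
  have h5N : 5 ∣ Nat.card (normalizer ((R : Subgroup G) : Set G)) := by
    have := orderOf_dvd_natCard (⟨y, hyNR⟩ : normalizer ((R : Subgroup G) : Set G))
    rwa [Subgroup.orderOf_mk, hy5] at this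
  have h35N : 35 ∣ Nat.card (normalizer ((R : Subgroup G) : Set G)) := by
    have : Nat.Coprime 5 7 := by norm_num
    exact this.mul_dvd_of_dvd_of_dvd h5N h7N
  have hNn := card_normalizer_mul_card_sylow R
  rw [hG] at hNn
  have hmod : Nat.card (Sylow 5 G) % 5 = 1 := by
    have := card_sylow_modEq_one 5 G
    unfold Nat.ModEq at this
    rw [this]
  have hn1 : 1 < Nat.card (Sylow 5 G) :=
    one_lt_card_sylow_of_card hG5 (by norm_num) (by norm_num) (by norm_num)
  have hn6 : Nat.card (Sylow 5 G) ≠ 6 := by
    intro h6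
    have := two_mul_card_dvd_factorial_card_sylow hnc (p := 5) hn1
    rw [h6, hG] at this
    revert this
    decide
  obtain ⟨c, hc⟩ := h35N
  rw [hc] at hNn
  set n := Nat.card (Sylow 5 G) with hn_def
  have hcn : c * n = 72 := by
    have : 35 * (c * n) = 35 * 72 := by rw [← mul_assoc]; exact hNn
    exact Nat.eq_of_mul_eq_mul_left (by norm_num) this
  have hn72 : n ≤ 72 := Nat.le_of_dvd (by norm_num) (Dvd.intro_left _ hcn)
  have hn36 : n = 36 := by
    interval_cases n <;> omega
  have hNR : Nat.card (normalizer ((R : Subgroup G) : Set G)) = 70 := by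
    rw [hc]
    rw [hn36] at hcn
    omega
  obtain ⟨-, hCR35⟩ := relIndex_eq_two_of_card_normalizer hG R (hR5 R) (Or.inl rfl) hNR
  refine ⟨P, x, y, hP, hk, hxP, hx7, hyC, hy5, ?_⟩
  rw [← hCR]; exact hCR35

end Cfsg.Agent.Lib.Helper78_A7_Z35LOC
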