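import Mathlib
import Cfsg.Prelude.Def_Blocks
import Cfsg.Prelude.Def_BlockLocal
import Cfsg.Prelude.Def_BrauerPairs
import Cfsg.Prelude.Def_BlockFusion
import Cfsg.Agent.Lib.Helper78_LocalRing
import Cfsg.Agent.Lib.Helper78_Transport
import Cfsg.Agent.Lib.Helper78_TransportBlocks
import Cfsg.Agent.Lib.Helper78_PrincipalFusion
import Cfsg.Agent.Lib.Helper78_BrauerCorr
import Cfsg.Agent.Lib.Helper78_SubpairUnique
import Cfsg.Agent.Lib.Helper78_FirstMainGT
import Cfsg.Agent.Lib.Helper78_MaxPair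
import Cfsg.Agent.Lib.Helper78_PairConj
import Cfsg.Agent.Lib.Helper78_PairCent
import Cfsg.Agent.Lib.Helper78_StabBlock
import Cfsg.Agent.Lib.Helper78_PairStab
import Cfsg.Agent.Lib.Helper78_BlockFusion

/-!
# The fusion system of a block: fully normalized subgroups (helper78, S4679)
-/

set_option autoImplicit false
set_option linter.unusedSectionVars false

namespace Cfsg.Agent.Lib.Helper78_BlockFusion2

open Cfsg Cfsg.Agent.Lib.Helper78_LocalRing Cfsg.Agent.Lib.Helper78_Transport
  Cfsg.Agent.Lib.Helper78_TransportBlocks Cfsg.Agent.Lib.Helper78_PrincipalFusion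
  Cfsg.Agent.Lib.Helper78_BrauerCorr Cfsg.Agent.Lib.Helper78_SubpairUnique
  Cfsg.Agent.Lib.Helper78_FirstMainGT Cfsg.Agent.Lib.Helper78_MaxPair
  Cfsg.Agent.Lib.Helper78_PairConj Cfsg.Agent.Lib.Helper78_PairCent
  Cfsg.Agent.Lib.Helper78_StabBlock Cfsg.Agent.Lib.Helper78_PairStab
  Cfsg.Agent.Lib.Helper78_BlockFusion

universe u

variable {G : Type u} [Group G] {M : Ideal AlgInt} {p : ℕ}

/-- The conjugate of the stabilizer is the stabilizer of the conjugate pair. -/
theorem mem_map_conj_stab_iff {Q T : Subgroup G}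
    {f : Set (IrrCharacter (Subgroup.centralizer (Q : Set G)))}
    (hT : ∀ y : G, y ∈ T ↔ y ∈ Subgroup.normalizer (Q : Set G) ∧
      StabilizesBlock (Subgroup.centralizer (Q : Set G)) f y) (x y : G) :
    y ∈ T.map (MulAut.conj x).toMonoidHom ↔
      y ∈ Subgroup.normalizer ((Q.map (MulAut.conj x).toMonoidHom : Subgroup G) : Set G) ∧
      StabilizesBlock (Subgroup.centralizer
        ((Q.map (MulAut.conj x).toMonoidHom : Subgroup G) : Set G)) (conjBlock Q x f) y := by
  rw [mem_map_conj_iff, hT]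
  have h1 := stab_conj_iff Q x f (x⁻¹ * y * x)
  have e1 : x * (x⁻¹ * y * x) * x⁻¹ = y := by group
  rw [e1] at h1
  exact h1.symm

section Main

variable [Fintype G] [Fact p.Prime]

/-- The blocks of the stabilizers of conjugate pairs have defect groups of the same order. -/
theorem card_defect_stab_conj (hM : IsPModular p M) {Q T T' : Subgroup G} (x : G)
    {f : Set (IrrCharacter (Subgroup.centralizer (Q : Set G)))}
    (hT : ∀ y : G, y ∈ T ↔ y ∈ Subgroup.normalizer (Q : Set G) ∧
      StabilizesBlock (Subgroup.centralizer (Q : Set G)) f y)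
    (hT' : ∀ y : G, y ∈ T' ↔
      y ∈ Subgroup.normalizer ((Q.map (MulAut.conj x).toMonoidHom : Subgroup G) : Set G) ∧
      StabilizesBlock (Subgroup.centralizer
        ((Q.map (MulAut.conj x).toMonoidHom : Subgroup G) : Set G)) (conjBlock Q x f) y)
    {F : Set (IrrCharacter T)} (hF : IsPBlock M F)
    (hFc : ∀ t : T, blockCoeff F t =
      subgroupBlockCoeff (Subgroup.centralizer (Q : Set G)) f (t : G))
    {F' : Set (IrrCharacter T')} (hF' : IsPBlock M F')
    (hF'c : ∀ t : T', blockCoeff F' t = subgroupBlockCoeff (Subgroup.centralizer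
      ((Q.map (MulAut.conj x).toMonoidHom : Subgroup G) : Set G)) (conjBlock Q x f) (t : G))
    {D : Subgroup T} (hD : IsDefectGroup p M F D) {E' : Subgroup T'}
    (hE' : IsDefectGroup p M F' E') : Nat.card E' = Nat.card D := by
  have hMp := isPrime_of_isPModular hM
  have hTT' : ∀ t' : G, t' ∈ T' ↔ x⁻¹ * t' * x ∈ T := by
    intro t'
    rw [hT', hT]
    have h1 := stab_conj_iff Q x f (x⁻¹ * t' * x)
    have e1 : x * (x⁻¹ * t' * x) * x⁻¹ = t' := by group
    rw [e1] at h1
    exact h1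
  have hmap : mapBlock (stabConjIso x hTT') F = F' := by
    apply eq_of_blockCoeff_congr hMp (isPBlock_mapBlock _ hF) hF'
    intro t'
    rw [blockCoeff_mapBlock, hFc, hF'c, stabConjIso_apply]
    have h1 := subgroupBlockCoeff_conj Q x f (x⁻¹ * (t' : G) * x)
    have e1 : x * (x⁻¹ * (t' : G) * x) * x⁻¹ = (t' : G) := by group
    rw [e1] at h1
    rw [h1, sub_self]
    exact memLocalIdeal_zero hMp
  have hDx : IsDefectGroup p M F' (D.map ((stabConjIso x hTT').symm : T →* T')) := by
    rw [← hmap]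
    exact isDefectGroup_mapBlock (stabConjIso x hTT') hD
  rw [isDefectGroup_card_eq hM hF' hDx hE']
  exact Subgroup.card_map_of_injective (stabConjIso x hTT').symm.injective

/-- **S4679**: `Q` is fully normalized iff `N_P(Q)` is a defect group of the block of the
stabilizer of `f` with the idempotent of `f`. -/
theorem isFullyNormalized_iff (hM : IsPModular p M) {B : Set (IrrCharacter G)} {P : Subgroup G}
    {e : Set (IrrCharacter (Subgroup.centralizer (P : Set G)))}
    (hmax : IsMaximalBrauerPair p M B P e) {F : FusionSystem P}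
    (hF : IsBlockFusionSystemOn p M B P e F) {Q : Subgroup G}
    {f : Set (IrrCharacter (Subgroup.centralizer (Q : Set G)))} (hQP : Q ≤ P)
    (hf : IsPBlock M f) (hle : SubpairLE p M Q f P e) (T : Subgroup G)
    (hT : ∀ y : G, y ∈ T ↔ y ∈ Subgroup.normalizer (Q : Set G) ∧
      StabilizesBlock (Subgroup.centralizer (Q : Set G)) f y) :
    F.IsFullyNormalized Q ↔ ∃ F' : Set (IrrCharacter T), IsPBlock M F' ∧
      (∀ t : T, blockCoeff F' t =
        subgroupBlockCoeff (Subgroup.centralizer (Q : Set G)) f (t : G)) ∧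
      IsDefectGroup p M F' ((P ⊓ Subgroup.normalizer (Q : Set G)).subgroupOf T) := by
  classical
  have := Fintype.ofFinite T
  have hPe := hmax.1.1
  have hQ : IsPGroup p Q := hPe.1.to_le hQP
  obtain ⟨⟨F₀, hF₀, hF₀c, D, hD, hDle⟩, x, hx, hxT⟩ := normalizer_defect hM hmax hQP hf hle T hT
  obtain ⟨hR₁T, -⟩ := pair_of_normalizer hM hPe hQP hf hle T hT hF₀ hF₀c
  constructor
  · rintro ⟨-, hfn⟩
    have h1 := hfn _ ((isConj_iff hM hF hQP hle _).mpr ⟨x, rfl, hx⟩)
    unfold FusionSystem.normalizerIn at h1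
    obtain ⟨F', hF', hF'c, hD'⟩ := hxT (T.map (MulAut.conj x).toMonoidHom)
      (mem_map_conj_stab_iff hT x)
    have := Fintype.ofFinite (T.map (MulAut.conj x).toMonoidHom)
    have hfx : IsPBlock M (conjBlock Q x f) := (isBrauerPair_conj x ⟨hQ, hf⟩).2
    obtain ⟨hR₁'T', -⟩ := pair_of_normalizer hM hPe (le_of_chain hx) hfx hx
      (T.map (MulAut.conj x).toMonoidHom) (mem_map_conj_stab_iff hT x) hF' hF'c
    have h2 := card_defect_stab_conj hM x hT (mem_map_conj_stab_iff hT x) hF₀ hF₀c hF' hF'c hD hD'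
    rw [card_subgroupOf_of_le hR₁'T'] at h2
    have h3 : Nat.card D ≤ Nat.card ((P ⊓ Subgroup.normalizer (Q : Set G)).subgroupOf T) := by
      rw [card_subgroupOf_of_le hR₁T, ← h2]
      exact h1
    refine ⟨F₀, hF₀, hF₀c, ?_⟩
    rw [Subgroup.eq_of_le_of_card_ge hDle h3]
    exact hD
  · rintro ⟨F', hF', hF'c, hD'⟩
    refine ⟨hQP, fun Q' hQ' => ?_⟩
    obtain ⟨g, rfl, hg⟩ := (isConj_iff hM hF hQP hle _).mp hQ'
    unfold FusionSystem.normalizerIn
    have := Fintype.ofFinite (T.map (MulAut.conj g).toMonoidHom)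
    have hfg : IsPBlock M (conjBlock Q g f) := (isBrauerPair_conj g ⟨hQ, hf⟩).2
    have hQg : IsPGroup p (Q.map (MulAut.conj g).toMonoidHom) := hQ.map _
    obtain ⟨Fg, hFg, hFgc⟩ := exists_block_stabilizer' hM hQg hfg
      (T.map (MulAut.conj g).toMonoidHom) (mem_map_conj_stab_iff hT g)
    obtain ⟨hRgT, g₂, hg₂⟩ := pair_of_normalizer hM hPe (le_of_chain hg) hfg hg
      (T.map (MulAut.conj g).toMonoidHom) (mem_map_conj_stab_iff hT g) hFg hFgc
    obtain ⟨Eg, hEg, hEgle⟩ := exists_isDefectGroup_ge_of_pair hM hg₂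
    have h2 := card_defect_stab_conj hM g hT (mem_map_conj_stab_iff hT g) hF' hF'c hFg hFgc hD' hEg
    rw [card_subgroupOf_of_le hR₁T] at h2
    rw [← h2, ← card_subgroupOf_of_le hRgT]
    exact Subgroup.card_le_of_le hEgle

end Main

end Cfsg.Agent.Lib.Helper78_BlockFusion2
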