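import Mathlib
import Cfsg.Prelude.Def_Blocks
import Cfsg.Prelude.Def_BlockLocal
import Cfsg.Prelude.Def_BrauerPairs
import Cfsg.Prelude.Def_BlockFusion
import Cfsg.Agent.Lib.Helper78_BlockFusion2
import Cfsg.Agent.Lib.Helper78_Saturated

/-!
# Blocks with abelian defect groups: stabilizers of subpairs (helper78, S4682, S4687)
-/

set_option autoImplicit false
set_option linter.unusedSectionVars false

namespace Cfsg.Agent.Lib.Helper78_AbelianDefect

open Cfsg Cfsg.Agent.Lib.Helper78_LocalRing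
  Cfsg.Agent.Lib.Helper78_Transport
  Cfsg.Agent.Lib.Helper78_TransportBlocks Cfsg.Agent.Lib.Helper78_NilpotentPrincipal
  Cfsg.Agent.Lib.Helper78_PrincipalFusion
  Cfsg.Agent.Lib.Helper78_BrauerCorr
  Cfsg.Agent.Lib.Helper78_SubpairBasic Cfsg.Agent.Lib.Helper78_SubpairNormal
  Cfsg.Agent.Lib.Helper78_SubpairTrans Cfsg.Agent.Lib.Helper78_SubpairUnique
  Cfsg.Agent.Lib.Helper78_FirstMainGT
  Cfsg.Agent.Lib.Helper78_FirstMain Cfsg.Agent.Lib.Helper78_MaxPair
  Cfsg.Agent.Lib.Helper78_PairConj Cfsg.Agent.Lib.Helper78_PairStab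
  Cfsg.Agent.Lib.Helper78_BlockFusion Cfsg.Agent.Lib.Helper78_BlockFusion2
  Cfsg.Agent.Lib.Helper78_BlockFusionSys
  Cfsg.Agent.Lib.Helper78_Automized Cfsg.Agent.Lib.Helper78_Receptive
  Cfsg.Agent.Lib.Helper78_Saturated Cfsg.Agent.Lib.Helper78_FongKnorrSub

universe u

variable {G : Type u} [Group G] {M : Ideal AlgInt} {p : ℕ}

theorem le_normalizer_of_abelian {P Q : Subgroup G}
    (hab : ∀ x ∈ P, ∀ y ∈ P, x * y = y * x) (hQP : Q ≤ P) :
    P ≤ Subgroup.normalizer (Q : Set G) := by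
  intro x hx
  rw [Subgroup.mem_set_normalizer_iff]
  intro q
  constructor
  · intro hq
    have h1 := hab x hx q (hQP hq)
    have h2 : x * q * x⁻¹ = q := by rw [h1]; group
    rw [SetLike.mem_coe, h2]
    exact hq
  · intro hq
    have hq' : x * q * x⁻¹ ∈ P := hQP hq
    have hqP : q ∈ P := by
      have h1 : q = x⁻¹ * (x * q * x⁻¹) * x := by group
      rw [h1]
      exact P.mul_mem (P.mul_mem (P.inv_mem hx) hq') hx
    have h1 := hab x hx q hqP
    have h2 : x * q * x⁻¹ = q := by rw [h1]; group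
    rw [SetLike.mem_coe, h2] at hq
    exact hq

theorem le_centralizer_of_abelian {P Q : Subgroup G}
    (hab : ∀ x ∈ P, ∀ y ∈ P, x * y = y * x) (hQP : Q ≤ P) :
    P ≤ Subgroup.centralizer (Q : Set G) := by
  intro x hx
  rw [Subgroup.mem_centralizer_iff]
  intro q hq
  exact hab q (hQP hq) x hx

section Main

variable [Fintype G] [Fact p.Prime]

/-- For an abelian `P`, every subpair is fully normalized: `N_P(Q) = P` is a defect group of the
block of the stabilizer. -/
theorem exists_block_defect_of_abelian (hM : IsPModular p M) {B : Set (IrrCharacter G)}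
    {P : Subgroup G} {e : Set (IrrCharacter (Subgroup.centralizer (P : Set G)))}
    (hmax : IsMaximalBrauerPair p M B P e) (hab : ∀ x ∈ P, ∀ y ∈ P, x * y = y * x)
    {Q : Subgroup G} {f : Set (IrrCharacter (Subgroup.centralizer (Q : Set G)))} (hQP : Q ≤ P)
    (hf : IsPBlock M f) (hle : SubpairLE p M Q f P e) (T : Subgroup G)
    (hT : ∀ y : G, y ∈ T ↔ y ∈ Subgroup.normalizer (Q : Set G) ∧
      StabilizesBlock (Subgroup.centralizer (Q : Set G)) f y) :
    ∃ F' : Set (IrrCharacter T), IsPBlock M F' ∧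
      (∀ t : T, blockCoeff F' t =
        subgroupBlockCoeff (Subgroup.centralizer (Q : Set G)) f (t : G)) ∧
      IsDefectGroup p M F' ((P ⊓ Subgroup.normalizer (Q : Set G)).subgroupOf T) := by
  have hF := isBlockFusionSystemOn_blockFusionSystem hM hmax
  refine (isFullyNormalized_iff hM hmax hF hQP hf hle T hT).mp ⟨hQP, fun Q' _ => ?_⟩
  unfold FusionSystem.normalizerIn
  apply Subgroup.card_le_of_le
  exact le_inf inf_le_left (inf_le_left.trans (le_normalizer_of_abelian hab hQP))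

/-- **S4682, first part**: `T_Q ⊆ T_P C_G(Q)`. -/
theorem stab_factor (hM : IsPModular p M) {B : Set (IrrCharacter G)}
    {P : Subgroup G} {e : Set (IrrCharacter (Subgroup.centralizer (P : Set G)))}
    (hmax : IsMaximalBrauerPair p M B P e) (hab : ∀ x ∈ P, ∀ y ∈ P, x * y = y * x)
    {Q : Subgroup G} {f : Set (IrrCharacter (Subgroup.centralizer (Q : Set G)))} (hQP : Q ≤ P)
    (hf : IsPBlock M f) (hle : SubpairLE p M Q f P e) {x : G}
    (hxN : x ∈ Subgroup.normalizer (Q : Set G))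
    (hxst : StabilizesBlock (Subgroup.centralizer (Q : Set G)) f x) :
    ∃ y : G, (y ∈ Subgroup.normalizer (P : Set G) ∧
      StabilizesBlock (Subgroup.centralizer (P : Set G)) e y) ∧
      ∃ c ∈ Subgroup.centralizer (Q : Set G), x = y * c := by
  have hMp := isPrime_of_isPModular hM
  have hPe := hmax.1.1
  obtain ⟨F', hF', hF'c, hD⟩ := exists_block_defect_of_abelian hM hmax hab hQP hf hle
    (stabPair Q f) (mem_stabPair_iff hMp hf)
  have hA : Relation.ReflTransGen (NormalSubpairRel p M) (⟨Q, f⟩ : BrauerPairIdx G)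
      (conjPair x ⟨P, e⟩) := by
    have h1 := chain_conj x hle
    have h2 : conjPair x (⟨Q, f⟩ : BrauerPairIdx G) = ⟨Q, f⟩ :=
      conjPair_eq_of_stab hMp hf hxN hxst
    show Relation.ReflTransGen (NormalSubpairRel p M) (⟨Q, f⟩ : BrauerPairIdx G)
      (conjPair x ⟨P, e⟩)
    rw [← h2]
    exact h1
  have hAX : (conjPair x (⟨P, e⟩ : BrauerPairIdx G)).1 ≤
      (P ⊓ Subgroup.normalizer (Q : Set G)) ⊔ Subgroup.centralizer (Q : Set G) := by
    refine le_trans ?_ le_sup_right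
    rintro _ ⟨a, ha, rfl⟩
    simp only [MulEquiv.coe_toMonoidHom, MulAut.conj_apply]
    rw [Subgroup.mem_centralizer_iff]
    intro q hq
    have hq' : x⁻¹ * q * x ∈ Q := by
      have := (Subgroup.mem_set_normalizer_iff.mp (inv_mem hxN) q).mp hq
      rwa [inv_inv] at this
    have h1 := hab (x⁻¹ * q * x) (hQP hq') a ha
    calc q * (x * a * x⁻¹) = x * ((x⁻¹ * q * x) * a) * x⁻¹ := by group
      _ = x * (a * (x⁻¹ * q * x)) * x⁻¹ := by rw [h1]
      _ = x * a * x⁻¹ * q := by group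
  obtain ⟨c, hc, hchain⟩ := exists_centralizer_conj hM hPe hQP hf hle (stabPair Q f)
    (mem_stabPair_iff hMp hf) hF' hF'c hD (isBrauerPair_conj x hPe) hA hAX
  have hchain' : Relation.ReflTransGen (NormalSubpairRel p M)
      (conjPair c (conjPair x (⟨P, e⟩ : BrauerPairIdx G))) ⟨P, e⟩ := hchain
  rw [← conjPair_mul] at hchain'
  have hle' : (conjPair (c * x) (⟨P, e⟩ : BrauerPairIdx G)).1 ≤ P := le_of_chain hchain'
  have heq1 : (conjPair (c * x) (⟨P, e⟩ : BrauerPairIdx G)).1 = P :=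
    Subgroup.eq_of_le_of_card_ge hle' (by
      show Nat.card P ≤ Nat.card (P.map (MulAut.conj (c * x)).toMonoidHom)
      rw [card_map_conj])
  have heq : conjPair (c * x) (⟨P, e⟩ : BrauerPairIdx G) = ⟨P, e⟩ :=
    eq_of_chain_same hMp hchain' heq1
  have hyN : c * x ∈ Subgroup.normalizer (P : Set G) := mem_normalizer_of_map_conj_eq heq1
  have hcN : c ∈ Subgroup.normalizer (Q : Set G) := centralizer_le_normalizer Q hc
  refine ⟨c * x, ⟨hyN, stab_of_conjPair_eq hyN heq⟩, (c * x)⁻¹ * c⁻¹ * (c * x), ?_, by group⟩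
  -- `C_G(Q)` is normalized by `N_G(Q)`
  have hcxN : c * x ∈ Subgroup.normalizer (Q : Set G) := Subgroup.mul_mem _ hcN hxN
  have h1 := normalizer_le Q (Subgroup.inv_mem _ hcxN)
  have h2 := (Subgroup.mem_set_normalizer_iff.mp h1 c⁻¹).mp (Subgroup.inv_mem _ hc)
  rwa [inv_inv] at h2

/-- Elements of `T_P ∩ N_G(Q)` stabilize `f`. -/
theorem stab_of_stab_max (hM : IsPModular p M) {P : Subgroup G}
    {e : Set (IrrCharacter (Subgroup.centralizer (P : Set G)))}
    (hPe : IsBrauerPair p M P e)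
    {Q : Subgroup G} {f : Set (IrrCharacter (Subgroup.centralizer (Q : Set G)))}
    (hle : SubpairLE p M Q f P e) {y : G}
    (hyP : y ∈ Subgroup.normalizer (P : Set G))
    (hyst : StabilizesBlock (Subgroup.centralizer (P : Set G)) e y)
    (hyQ : y ∈ Subgroup.normalizer (Q : Set G)) :
    StabilizesBlock (Subgroup.centralizer (Q : Set G)) f y := by
  have hMp := isPrime_of_isPModular hM
  have h1 := chain_conj y hle
  rw [conjPair_eq_of_stab hMp hPe.2 hyP hyst] at h1
  have h2 : conjPair y (⟨Q, f⟩ : BrauerPairIdx G) = ⟨Q, f⟩ :=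
    pair_unique hM h1 hle (map_conj_eq_of_mem_normalizer hyQ)
  exact stab_of_conjPair_eq hyQ h2

/-- **S4682**. -/
theorem stabilizer_factorization (hM : IsPModular p M) {B : Set (IrrCharacter G)}
    {P : Subgroup G} {e : Set (IrrCharacter (Subgroup.centralizer (P : Set G)))}
    (hmax : IsMaximalBrauerPair p M B P e) (hab : ∀ x ∈ P, ∀ y ∈ P, x * y = y * x)
    {Q : Subgroup G} {f : Set (IrrCharacter (Subgroup.centralizer (Q : Set G)))} (hQP : Q ≤ P)
    (hf : IsPBlock M f) (hle : SubpairLE p M Q f P e) (TQ : Subgroup G)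
    (hTQ : ∀ y : G, y ∈ TQ ↔ y ∈ Subgroup.normalizer (Q : Set G) ∧
      StabilizesBlock (Subgroup.centralizer (Q : Set G)) f y) (TP : Subgroup G)
    (hTP : ∀ y : G, y ∈ TP ↔ y ∈ Subgroup.normalizer (P : Set G) ∧
      StabilizesBlock (Subgroup.centralizer (P : Set G)) e y) :
    (∀ x ∈ TQ, ∃ y ∈ TP, ∃ c ∈ Subgroup.centralizer (Q : Set G), x = y * c) ∧
    ((Subgroup.centralizer (Q : Set G)).subgroupOf TQ).index =
      ((TP ⊓ Subgroup.centralizer (Q : Set G)).subgroupOf
        (TP ⊓ Subgroup.normalizer (Q : Set G))).index := by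
  have hPe := hmax.1.1
  have hfac : ∀ x ∈ TQ, ∃ y ∈ TP, ∃ c ∈ Subgroup.centralizer (Q : Set G), x = y * c := by
    intro x hx
    obtain ⟨hxN, hxst⟩ := (hTQ x).mp hx
    obtain ⟨y, hy, c, hc, hxy⟩ := stab_factor hM hmax hab hQP hf hle hxN hxst
    exact ⟨y, (hTP y).mpr hy, c, hc, hxy⟩
  refine ⟨hfac, ?_⟩
  have hCN : Subgroup.centralizer (Q : Set G) ≤ Subgroup.normalizer (Q : Set G) :=
    centralizer_le_normalizer Q
  have hCT : Subgroup.centralizer (Q : Set G) ≤ TQ := centralizer_le_stab hTQ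
  have hHT : TP ⊓ Subgroup.normalizer (Q : Set G) ≤ TQ := by
    rintro y ⟨hyT, hyQ⟩
    obtain ⟨hyP, hyst⟩ := (hTP y).mp hyT
    exact (hTQ y).mpr ⟨hyQ, stab_of_stab_max hM hPe hle hyP hyst hyQ⟩
  have hTQN : TQ ≤ Subgroup.normalizer (Q : Set G) := fun y hy => ((hTQ y).mp hy).1
  have hnorm : ((Subgroup.centralizer (Q : Set G)).subgroupOf TQ).Normal := by
    rw [Subgroup.normal_subgroupOf_iff_le_normalizer hCT]
    exact hTQN.trans (normalizer_le Q)
  have hsup : (TP ⊓ Subgroup.normalizer (Q : Set G)).subgroupOf TQ ⊔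
      (Subgroup.centralizer (Q : Set G)).subgroupOf TQ = ⊤ := by
    rw [eq_top_iff]
    rintro t -
    obtain ⟨y, hy, c, hc, hxy⟩ := hfac (t : G) t.2
    have hyN : y ∈ Subgroup.normalizer (Q : Set G) := by
      have h1 : y = (t : G) * c⁻¹ := by rw [hxy]; group
      rw [h1]
      exact Subgroup.mul_mem _ (hTQN t.2) (Subgroup.inv_mem _ (hCN hc))
    have hyH : y ∈ TP ⊓ Subgroup.normalizer (Q : Set G) := ⟨hy, hyN⟩
    have h2 : t = (⟨y, hHT hyH⟩ : TQ) * ⟨c, hCT hc⟩ := Subtype.ext hxy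
    rw [h2]
    exact Subgroup.mul_mem_sup (Subgroup.mem_subgroupOf.mpr hyH) (Subgroup.mem_subgroupOf.mpr hc)
  have h1 : ((Subgroup.centralizer (Q : Set G)).subgroupOf TQ).index =
      (Subgroup.centralizer (Q : Set G)).relIndex (TP ⊓ Subgroup.normalizer (Q : Set G)) := by
    rw [← Subgroup.relIndex_top_right, ← hsup, Subgroup.relIndex_sup_right,
      Subgroup.relIndex_subgroupOf hHT]
  have h2 : TP ⊓ Subgroup.centralizer (Q : Set G) =
      Subgroup.centralizer (Q : Set G) ⊓ (TP ⊓ Subgroup.normalizer (Q : Set G)) := by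
    ext y
    simp only [Subgroup.mem_inf]
    constructor
    · rintro ⟨h, h'⟩
      exact ⟨h', h, hCN h'⟩
    · rintro ⟨h, h', -⟩
      exact ⟨h', h⟩
  rw [h1]
  show _ = (TP ⊓ Subgroup.centralizer (Q : Set G)).relIndex
    (TP ⊓ Subgroup.normalizer (Q : Set G))
  rw [h2, Subgroup.inf_relIndex_right]

end Main

end Cfsg.Agent.Lib.Helper78_AbelianDefect
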