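import Mathlib
import Cfsg.Prelude.Def_Blocks
import Cfsg.Prelude.Def_BlockLocal
import Cfsg.Prelude.Def_BrauerPairs
import Cfsg.Prelude.Def_BlockFusion
import Cfsg.Agent.Lib.Helper78_AbelianDefect

/-!
# Nilpotent blocks with abelian defect groups (helper78, S4687)

A block with abelian defect group `P` and maximal Brauer pair `(P, e)` is nilpotent iff
`N_G(P, e) = C_G(P)`.
-/

set_option autoImplicit false
set_option linter.unusedSectionVars false

namespace Cfsg.Agent.Lib.Helper78_AbelianNilpotent

open Cfsg Cfsg.Agent.Lib.Helper78_LocalRing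
  Cfsg.Agent.Lib.Helper78_SubpairUnique
  Cfsg.Agent.Lib.Helper78_FirstMain Cfsg.Agent.Lib.Helper78_MaxPair
  Cfsg.Agent.Lib.Helper78_PairConj Cfsg.Agent.Lib.Helper78_PairStab
  Cfsg.Agent.Lib.Helper78_BlockFusionSys
  Cfsg.Agent.Lib.Helper78_Automized
  Cfsg.Agent.Lib.Helper78_Saturated Cfsg.Agent.Lib.Helper78_FongKnorrSub
  Cfsg.Agent.Lib.Helper78_AbelianDefect

universe u

variable {G : Type u} [Group G] {M : Ideal AlgInt} {p : ℕ}

/-- The `p'`-part of an element: some `p`-power power of `t` has order prime to `p`. -/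
theorem exists_pow_not_dvd_orderOf [Finite G] [Fact p.Prime] (t : G) :
    ∃ k : ℕ, ¬ p ∣ orderOf (t ^ p ^ k) := by
  have hp : p.Prime := Fact.out
  have hn : orderOf t ≠ 0 := (orderOf_pos t).ne'
  obtain ⟨k, m, hm, hkm⟩ := Nat.exists_eq_pow_mul_and_not_dvd hn p hp.ne_one
  refine ⟨k, ?_⟩
  have hpk : 0 < p ^ k := pow_pos hp.pos k
  have h1 : orderOf (t ^ p ^ k) = m := by
    rw [orderOf_pow' t hpk.ne', hkm]
    have hgcd : Nat.gcd (p ^ k * m) (p ^ k) = p ^ k :=
      Nat.gcd_eq_right (Dvd.intro m rfl)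
    rw [hgcd]
    exact Nat.mul_div_cancel_left m hpk
  rw [h1]
  exact hm

section Main

variable [Fintype G] [Fact p.Prime]

/-- **S4687**. -/
theorem nilpotent_iff_of_abelian (hM : IsPModular p M) {B : Set (IrrCharacter G)}
    {P : Subgroup G} {e : Set (IrrCharacter (Subgroup.centralizer (P : Set G)))}
    (hmax : IsMaximalBrauerPair p M B P e) (hab : ∀ x ∈ P, ∀ y ∈ P, x * y = y * x) :
    IsNilpotentBlock p M B ↔ ∀ x : G, x ∈ Subgroup.normalizer (P : Set G) →
      StabilizesBlock (Subgroup.centralizer (P : Set G)) e x →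
        x ∈ Subgroup.centralizer (P : Set G) := by
  classical
  have hp : p.Prime := Fact.out
  have hMp := isPrime_of_isPModular hM
  have hPe := hmax.1.1
  have he := hPe.2
  constructor
  · intro hnil x hxN hxst
    have hTP := mem_stabPair_iff hMp he (Q := P)
    obtain ⟨F', hF', hF'c, hD⟩ := exists_block_defect_of_abelian hM hmax hab le_rfl he
      Relation.ReflTransGen.refl (stabPair P e) hTP
    have hCT : Subgroup.centralizer (P : Set G) ≤ stabPair P e := centralizer_le_stab hTP
    have hTN : stabPair P e ≤ Subgroup.normalizer (P : Set G) := fun y hy => ((hTP y).mp hy).1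
    have hnorm : ((Subgroup.centralizer (P : Set G)).subgroupOf (stabPair P e)).Normal := by
      rw [Subgroup.normal_subgroupOf_iff_le_normalizer hCT]
      exact hTN.trans (normalizer_le P)
    have hidx := (defect_of_eq_sub hM hCT hnorm he hF' hF'c hD).2
    have hle : (P ⊓ Subgroup.normalizer (P : Set G)).subgroupOf (stabPair P e) ≤
        (Subgroup.centralizer (P : Set G)).subgroupOf (stabPair P e) := by
      intro t ht
      rw [Subgroup.mem_subgroupOf] at ht ⊢
      exact le_centralizer_of_abelian hab le_rfl ht.1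
    rw [sup_eq_left.mpr hle] at hidx
    -- the quotient is a `p`-group
    have hquot : IsPGroup p ((stabPair P e) ⧸
        (Subgroup.centralizer (P : Set G)).subgroupOf (stabPair P e)) := by
      intro q
      obtain ⟨t, rfl⟩ := QuotientGroup.mk_surjective q
      obtain ⟨k, hk⟩ := exists_pow_not_dvd_orderOf (p := p) t
      refine ⟨k, ?_⟩
      rw [← QuotientGroup.mk_pow, QuotientGroup.eq_one_iff, Subgroup.mem_subgroupOf]
      have hmem := (hTP _).mp (t ^ p ^ k).2
      refine hnil.2 P e hmax.1 _ hmem.1 hmem.2 ?_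
      unfold IsPRegular
      rw [Subgroup.orderOf_coe]
      exact hk
    obtain ⟨j, hj⟩ := hquot.exists_card_eq
    rw [Subgroup.index_eq_card, hj] at hidx
    have hj0 : j = 0 := by
      by_contra hne
      exact hidx (dvd_pow_self p hne)
    have htop : (Subgroup.centralizer (P : Set G)).subgroupOf (stabPair P e) = ⊤ := by
      rw [← Subgroup.index_eq_one, Subgroup.index_eq_card, hj, hj0, pow_zero]
    have hxT : x ∈ stabPair P e := (hTP x).mpr ⟨hxN, hxst⟩
    have h1 : (⟨x, hxT⟩ : stabPair P e) ∈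
        (Subgroup.centralizer (P : Set G)).subgroupOf (stabPair P e) := by
      rw [htop]
      exact Subgroup.mem_top _
    exact Subgroup.mem_subgroupOf.mp h1
  · intro h
    refine ⟨hmax.1.2.1, fun R g hRg x hxN hxst _ => ?_⟩
    obtain ⟨y, hy⟩ := exists_conj_subpairLE hM hmax hRg
    have hQP : R.map (MulAut.conj y).toMonoidHom ≤ P := le_of_chain hy
    have hf : IsPBlock M (conjBlock R y g) := (isBrauerPair_conj y hRg.1).2
    obtain ⟨hx'N, hx'st⟩ := (stab_conj_iff R y g x).mpr ⟨hxN, hxst⟩
    obtain ⟨y', ⟨hy'N, hy'st⟩, c, hc, hxy⟩ := stab_factor hM hmax hab hQP hf hy hx'N hx'st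
    have hy'C := Subgroup.centralizer_le hQP (h y' hy'N hy'st)
    have h1 : y * x * y⁻¹ ∈ Subgroup.centralizer
        ((R.map (MulAut.conj y).toMonoidHom : Subgroup G) : Set G) := by
      rw [hxy]
      exact Subgroup.mul_mem _ hy'C hc
    exact (mem_centralizer_map_conj_iff R y x).mp h1

end Main

end Cfsg.Agent.Lib.Helper78_AbelianNilpotent
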