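import Mathlib
import Cfsg.Prelude.Def_Blocks
import Cfsg.Prelude.Def_BlockLocal
import Cfsg.Prelude.Def_BrauerPairs
import Cfsg.Prelude.Def_BlockFusion
import Cfsg.Agent.Lib.Helper78_Automized
import Cfsg.Agent.Lib.Helper78_AbelianNilpotent

/-!
# The automorphism groups of the fusion system of a block (helper78)

`Aut_F(Q)` is the image of the stabilizer `T = N_G(Q, f)` in `Aut(Q)`, with kernel `C_G(Q)`, and
`Aut_P(Q)` is the image of `N_P(Q)`.  For a nilpotent block all `Aut_F(Q)` are `p`-groups.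
-/

set_option autoImplicit false
set_option linter.unusedSectionVars false

namespace Cfsg.Agent.Lib.Helper78_AutGroup

open Cfsg Cfsg.Agent.Lib.Helper78_LocalRing
  Cfsg.Agent.Lib.Helper78_SubpairTrans Cfsg.Agent.Lib.Helper78_SubpairUnique
  Cfsg.Agent.Lib.Helper78_FirstMain Cfsg.Agent.Lib.Helper78_MaxPair
  Cfsg.Agent.Lib.Helper78_PairConj Cfsg.Agent.Lib.Helper78_PairStab
  Cfsg.Agent.Lib.Helper78_BlockFusion Cfsg.Agent.Lib.Helper78_BlockFusionSys
  Cfsg.Agent.Lib.Helper78_Automized Cfsg.Agent.Lib.Helper78_AbelianNilpotent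

universe u

variable {G : Type u} [Group G] {M : Ideal AlgInt} {p : ℕ}

/-- The action of a subgroup of `N_G(Q)` on `Q`. -/
noncomputable def stabAut {Q T : Subgroup G} (hTN : T ≤ Subgroup.normalizer (Q : Set G)) :
    T →* MulAut Q :=
  (normAut Q).comp (Subgroup.inclusion hTN)

theorem stabAut_apply {Q T : Subgroup G} (hTN : T ≤ Subgroup.normalizer (Q : Set G)) (t : T)
    (u : Q) : ((stabAut hTN t u : Q) : G) = (t : G) * (u : G) * (t : G)⁻¹ := rfl

theorem stabAut_ker {Q T : Subgroup G} (hTN : T ≤ Subgroup.normalizer (Q : Set G)) :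
    (stabAut hTN).ker = (Subgroup.centralizer (Q : Set G)).subgroupOf T := by
  ext t
  rw [MonoidHom.mem_ker, Subgroup.mem_subgroupOf, Subgroup.mem_centralizer_iff]
  constructor
  · intro h q hq
    have h1 := stabAut_apply hTN t ⟨q, hq⟩
    rw [h] at h1
    have h2 : q = (t : G) * q * (t : G)⁻¹ := h1
    calc q * (t : G) = (t : G) * q * (t : G)⁻¹ * (t : G) := by rw [← h2]
      _ = (t : G) * q := by group
  · intro h
    ext u
    rw [stabAut_apply]
    have h1 := h (u : G) u.2
    show (t : G) * (u : G) * (t : G)⁻¹ = (u : G)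
    rw [← h1]
    group

section Main

variable [Fintype G] [Fact p.Prime]

/-- `N_P(Q)` stabilizes `f` when `(Q, f) ≤ (P, e)`. -/
theorem normalizerIn_le_stab (hM : IsPModular p M) {P Q : Subgroup G}
    {e : Set (IrrCharacter (Subgroup.centralizer (P : Set G)))}
    {f : Set (IrrCharacter (Subgroup.centralizer (Q : Set G)))}
    (hle : SubpairLE p M Q f P e) (T : Subgroup G)
    (hT : ∀ y : G, y ∈ T ↔ y ∈ Subgroup.normalizer (Q : Set G) ∧
      StabilizesBlock (Subgroup.centralizer (Q : Set G)) f y) :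
    P ⊓ Subgroup.normalizer (Q : Set G) ≤ T := by
  rintro y ⟨hyP, hyQ⟩
  rw [hT]
  refine ⟨hyQ, ?_⟩
  have h1 := chain_conj y hle
  rw [conjPair_of_mem hyP] at h1
  have h2 : conjPair y (⟨Q, f⟩ : BrauerPairIdx G) = ⟨Q, f⟩ :=
    pair_unique hM h1 hle (map_conj_eq_of_mem_normalizer hyQ)
  exact stab_of_conjPair_eq hyQ h2

theorem autGroup_eq_range (hM : IsPModular p M) {B : Set (IrrCharacter G)} {P : Subgroup G}
    {e : Set (IrrCharacter (Subgroup.centralizer (P : Set G)))} {F : FusionSystem P}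
    (hF : IsBlockFusionSystemOn p M B P e F) {Q : Subgroup G}
    {f : Set (IrrCharacter (Subgroup.centralizer (Q : Set G)))} (hQP : Q ≤ P)
    (hf : IsPBlock M f) (hle : SubpairLE p M Q f P e) (T : Subgroup G)
    (hT : ∀ y : G, y ∈ T ↔ y ∈ Subgroup.normalizer (Q : Set G) ∧
      StabilizesBlock (Subgroup.centralizer (Q : Set G)) f y)
    (hTN : T ≤ Subgroup.normalizer (Q : Set G)) :
    F.autGroup Q = (stabAut hTN).range := by
  unfold FusionSystem.autGroup
  have hset : {α : MulAut Q | Q.subtype.comp α.toMonoidHom ∈ F.Hom Q} =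
      ((stabAut hTN).range : Set (MulAut Q)) := by
    ext α
    rw [Set.mem_setOf_eq, mem_autGen_iff hM hF hQP hf hle T hT]
    constructor
    · rintro ⟨t, ht, hα⟩
      refine ⟨⟨t, ht⟩, ?_⟩
      ext u
      rw [stabAut_apply, hα]
    · rintro ⟨t, rfl⟩
      exact ⟨(t : G), t.2, fun u => stabAut_apply hTN t u⟩
  rw [hset, Subgroup.closure_eq]

theorem autInducedBy_eq_map {P Q T : Subgroup G}
    (hTN : T ≤ Subgroup.normalizer (Q : Set G))
    (hDT : P ⊓ Subgroup.normalizer (Q : Set G) ≤ T) :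
    autInducedBy P Q = ((P ⊓ Subgroup.normalizer (Q : Set G)).subgroupOf T).map (stabAut hTN) := by
  unfold autInducedBy
  have hset : {α : MulAut Q | ∃ g ∈ P, ∀ x : Q, ((α x : Q) : G) = g * (x : G) * g⁻¹} =
      ((((P ⊓ Subgroup.normalizer (Q : Set G)).subgroupOf T).map (stabAut hTN) :
        Subgroup (MulAut Q)) : Set (MulAut Q)) := by
    ext α
    constructor
    · rintro ⟨g, hgP, hα⟩
      have hgN := mem_normalizer_of_map_conj_eq (map_conj_eq_of_aut α hα)
      have hgD : g ∈ P ⊓ Subgroup.normalizer (Q : Set G) := ⟨hgP, hgN⟩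
      refine ⟨⟨g, hDT hgD⟩, ?_, ?_⟩
      · rw [SetLike.mem_coe, Subgroup.mem_subgroupOf]
        exact hgD
      · ext u
        rw [stabAut_apply, hα]
    · rintro ⟨t, ht, rfl⟩
      rw [SetLike.mem_coe, Subgroup.mem_subgroupOf] at ht
      exact ⟨(t : G), ht.1, fun u => stabAut_apply hTN t u⟩
  rw [hset, Subgroup.closure_eq]

/-- For a nilpotent block, the automorphism groups of the fusion system are `p`-groups. -/
theorem isPGroup_autGroup_of_nilpotent (hM : IsPModular p M) {B : Set (IrrCharacter G)}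
    {P : Subgroup G} {e : Set (IrrCharacter (Subgroup.centralizer (P : Set G)))}
    {F : FusionSystem P} (hF : IsBlockFusionSystemOn p M B P e F)
    (hnil : IsNilpotentBlock p M B) {Q : Subgroup G}
    {f : Set (IrrCharacter (Subgroup.centralizer (Q : Set G)))} (hQP : Q ≤ P)
    (hf : IsPBlock M f) (hle : SubpairLE p M Q f P e) (T : Subgroup G)
    (hT : ∀ y : G, y ∈ T ↔ y ∈ Subgroup.normalizer (Q : Set G) ∧
      StabilizesBlock (Subgroup.centralizer (Q : Set G)) f y) :
    IsPGroup p (F.autGroup Q) := by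
  have hTN : T ≤ Subgroup.normalizer (Q : Set G) := fun y hy => ((hT y).mp hy).1
  have hQf : IsBrauerPairOf p M B Q f :=
    (isBrauerPairOf_iff_of_subpairLE hM hle hF.1.1.2.1).mp hF.1.1
  rw [autGroup_eq_range hM hF hQP hf hle T hT hTN]
  rintro ⟨α, t, rfl⟩
  obtain ⟨k, hk⟩ := exists_pow_not_dvd_orderOf (p := p) t
  refine ⟨k, ?_⟩
  apply Subtype.ext
  show (stabAut hTN t) ^ p ^ k = 1
  rw [← map_pow, ← MonoidHom.mem_ker, stabAut_ker, Subgroup.mem_subgroupOf]
  have hmem := (hT _).mp (t ^ p ^ k).2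
  refine hnil.2 Q f hQf _ hmem.1 hmem.2 ?_
  unfold IsPRegular
  rw [Subgroup.orderOf_coe]
  exact hk

end Main

end Cfsg.Agent.Lib.Helper78_AutGroup
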