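import Mathlib
import Cfsg.Agent.Lib.Helper78_BG1372

/-!
# S1372 without the frozen statement S1440

The frozen statement S1440 asserts `⁅M, M⁆ = F(M)` also for `K = 1`, which fails; so S1372 must not
use it.  Here the TI-property of `F(M)` (for `K ≠ 1`, `U ≠ 1`) is derived from the *local* form of
B-G 15.7: "if `F(M) ∩ F(M)^g ≠ 1` for some `g ∉ M` then `U = 1`" (or, alternatively, from the second
conjunct of S1440 for this particular `M, K, U`).
-/

set_option autoImplicit false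

namespace Cfsg.Agent.Lib.Helper78_BG1372b

open Subgroup Cfsg Cfsg.Agent.Lib.Helper78_SigmaDecomp Cfsg.Agent.Lib.Helper78_BG1372

universe u

variable {G : Type u} [Group G]

/-- a violation of the TI-property of `F(M)` gives `g ∉ M` with `F(M) ∩ F(M)^g ≠ 1` -/
theorem exists_of_not_isTISubset {M : Subgroup G} (h : ¬ IsTISubset (fittingOf M : Set G)) :
    ∃ g : G, g ∉ M ∧ fittingOf M ⊓ (fittingOf M).map (MulAut.conj g).toMonoidHom ≠ ⊥ := by
  unfold IsTISubset at h
  push Not at h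
  obtain ⟨g, hg, x, hxF, hgx, hx1⟩ := h
  have hgM : g⁻¹ ∉ M := by
    intro h
    exact hg (Cfsg.Agent.Lib.Helper22_FitLocal.le_normalizer_fittingOf M (M.inv_mem_iff.mp h))
  refine ⟨g⁻¹, hgM, ?_⟩
  intro h
  apply hx1
  have : x ∈ fittingOf M ⊓ (fittingOf M).map (MulAut.conj g⁻¹).toMonoidHom := by
    refine ⟨hxF, g * x * g⁻¹, hgx, ?_⟩
    simp only [MulEquiv.coe_toMonoidHom, MulAut.conj_apply, inv_inv]
    group
  rw [h, mem_bot] at this
  exact this

/-- `F(M)` is TI as soon as every violation forces `U = 1`. -/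
theorem isTISubset_of_U_eq_bot {M U : Subgroup G}
    (h : ∀ g : G, g ∉ M → fittingOf M ⊓ (fittingOf M).map (MulAut.conj g).toMonoidHom ≠ ⊥ →
      U = ⊥) (hU1 : U ≠ ⊥) : IsTISubset (fittingOf M : Set G) := by
  by_contra hnot
  obtain ⟨g, hg, hX⟩ := exists_of_not_isTISubset hnot
  exact hU1 (h g hg hX)

/-- **Statement S1372** from the frozen statements S1350, S1353, S1355, S1429, S1430 and the local
form of B-G 15.7 (`F(M)` not TI forces `U = 1` when `K ≠ 1`). -/
theorem main' [Finite G] (hG : IsMinSimpleOddOrder G) (h50 : H1350 G) (h53 : H1353 G) (h55 : H1355 G)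
    (h29 : H1429 G) (h30 : H1430 G)
    (M : Subgroup G) (hM : IsCoatom M) (K U : Subgroup G) (hKU : IsSigmaDecomposition M K U)
    (hK1 : K ≠ ⊥) (hU1 : U ≠ ⊥)
    (h57 : ∀ g : G, g ∉ M → fittingOf M ⊓ (fittingOf M).map (MulAut.conj g).toMonoidHom ≠ ⊥ →
      U = ⊥) :
    (Nat.card K).Prime ∧ IsTISubset (fittingOf M : Set G) ∧ sigmaCore M ≤ fittingOf M :=
  ⟨prime_card_K hG h50 h53 h55 h29 h30 hM hKU hK1 hU1,
    isTISubset_of_U_eq_bot h57 hU1,
    sigmaCore_le_fittingOf h50 h29 hM hKU hU1⟩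

end Cfsg.Agent.Lib.Helper78_BG1372b
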