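import Mathlib
import Cfsg.Agent.Lib.Helper77_BSWDefs2
import Cfsg.Agent.Lib.Helper11_BSW_A4
import Cfsg.Agent.Lib.Helper75_CommChar
import Cfsg.Agent.Lib.Helper3_CharBridge

/-!
# S3282 (abstract Brauer–Suzuki–Wall), package GEN1 (for helper77)

The values on `K ∖ 1` of the irreducible characters of `G` in the generic shape
(`GenShape → GenVals`), from `A4.apply_of_mem`.
-/

set_option autoImplicit false
open Cfsg
open scoped ComplexConjugate

namespace Cfsg.Agent.Lib.Helper78_BSW_GEN1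

open Cfsg.Agent.Lib.Helper77_BSWDefs Cfsg.Agent.Lib.Helper77_BSWDefs2
  Cfsg.Agent.Lib.Helper80_CharBasic Cfsg.Agent.Lib.Helper3_CharComplete

variable {G : Type*} [Group G] [Fintype G] {K : Subgroup G} [Fintype ↥K]
  {ν : IrrCharacter ↥K} {a : IrrCharacter ↥K → IrrCharacter G → ℤ} {ε : ℤ}
  {Z : IrrCharacter G} {W : IrrCharacter ↥K → IrrCharacter G} {c d : IrrCharacter G} {bc bd : ℤ}

theorem cj_cj {A : Type*} [Group A] [Fintype A] (lam : IrrCharacter A) : cj (cj lam) = lam :=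
  Cfsg.Agent.Lib.Helper3_RealClasses.conjIrr_conjIrr lam

/-- `χ(y) = - Σ_{lam ≠ 1} a lam χ · lam(y)` for `1 ≠ y ∈ K`. -/
theorem apply_eq (hcomm : ∀ x ∈ K, ∀ y ∈ K, x * y = y * x) (C : Coefs K ν a)
    (χ : IrrCharacter G) {y : G} (hy : y ∈ K) (hy1 : y ≠ 1) :
    (χ : G → ℂ) y = - ∑ lam ∈ Finset.univ.erase (oneIrr ↥K),
      (a lam χ : ℂ) * (lam : ↥K → ℂ) ⟨y, hy⟩ := by
  rw [Cfsg.Agent.Lib.Helper11_BSW_A4.apply_of_mem hcomm (χ : G → ℂ)
    (Cfsg.Agent.Lib.Helper3_CharBridge.isClassFunction_of_isIrrCharacter χ.2) hy hy1]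
  congr 1
  refine Finset.sum_congr rfl fun lam _ => ?_
  rw [C.ha lam χ]

/-- `Σ_{lam ≠ 1} lam(y) = -1` for `1 ≠ y ∈ K`. -/
theorem sum_erase_one (hcomm : ∀ x ∈ K, ∀ y ∈ K, x * y = y * x) {y : G} (hy : y ∈ K)
    (hy1 : y ≠ 1) :
    ∑ lam ∈ Finset.univ.erase (oneIrr ↥K), (lam : ↥K → ℂ) ⟨y, hy⟩ = -1 := by
  have hK : ∀ a b : ↥K, a * b = b * a := fun a b => Subtype.ext (hcomm a a.2 b b.2)
  have hy1' : (⟨y, hy⟩ : ↥K) ≠ 1 := fun h => hy1 (congrArg Subtype.val h)
  have h0 := Cfsg.Agent.Lib.Helper75_CommChar.sum_irr_apply hK hy1'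
  rw [← Finset.add_sum_erase Finset.univ _ (Finset.mem_univ (oneIrr ↥K))] at h0
  have h1 : ((oneIrr ↥K : IrrCharacter ↥K) : ↥K → ℂ) ⟨y, hy⟩ = 1 := rfl
  rw [h1] at h0
  linear_combination h0

theorem values_gen (hcomm : ∀ x ∈ K, ∀ y ∈ K, x * y = y * x) (C : Coefs K ν a)
    (S : GenShape K ν a ε Z W c d bc bd) : GenVals K ν ε Z W c d bc bd := by
  have hνmem : ν ∈ Finset.univ.erase (oneIrr ↥K) :=
    Finset.mem_erase.mpr ⟨C.hν1, Finset.mem_univ _⟩
  refine ⟨?_, ?_, ?_, ?_, ?_⟩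
  · -- `Z`
    intro y hy hy1
    rw [apply_eq hcomm C Z hy hy1]
    have h1 : ∀ lam ∈ Finset.univ.erase (oneIrr ↥K),
        (a lam Z : ℂ) * (lam : ↥K → ℂ) ⟨y, hy⟩ = (ε : ℂ) * (lam : ↥K → ℂ) ⟨y, hy⟩ := by
      intro lam hlam
      rw [S.a_Z lam (Finset.ne_of_mem_erase hlam)]
    rw [Finset.sum_congr rfl h1, ← Finset.mul_sum, sum_erase_one hcomm hy hy1]
    ring
  · -- `W mu`
    intro mu hmu1 hmuν y hy hy1
    rw [apply_eq hcomm C (W mu) hy hy1]
    have hcj1 : cj mu ≠ oneIrr ↥K := by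
      intro h
      apply hmu1
      have := congrArg cj h
      rw [cj_cj] at this
      rw [this]
      apply Subtype.ext
      funext z
      show conj (1 : ℂ) = 1
      simp
    have hcjν : cj mu ≠ ν := by
      intro h
      apply hmuν
      have := congrArg cj h
      rw [cj_cj, C.hνr] at this
      exact this
    have hne : mu ≠ cj mu := by
      intro h
      rcases C.hνu mu h.symm with h' | h'
      · exact hmu1 h'
      · exact hmuν h'
    have hsub : ({mu, cj mu} : Finset (IrrCharacter ↥K)) ⊆ Finset.univ.erase (oneIrr ↥K) := by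
      intro lam hlam
      rw [Finset.mem_insert, Finset.mem_singleton] at hlam
      rcases hlam with rfl | rfl
      · exact Finset.mem_erase.mpr ⟨hmu1, Finset.mem_univ _⟩
      · exact Finset.mem_erase.mpr ⟨hcj1, Finset.mem_univ _⟩
    have hzero : ∀ lam ∈ Finset.univ.erase (oneIrr ↥K),
        lam ∉ ({mu, cj mu} : Finset (IrrCharacter ↥K)) →
        (a lam (W mu) : ℂ) * (lam : ↥K → ℂ) ⟨y, hy⟩ = 0 := by
      intro lam hlam hnot
      rw [Finset.mem_insert, Finset.mem_singleton] at hnot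
      have hlam1 : lam ≠ oneIrr ↥K := Finset.ne_of_mem_erase hlam
      have h0 : a lam (W mu) = 0 := by
        by_cases hlν : lam = ν
        · rw [hlν]
          obtain ⟨w1, w2, w3, w4⟩ := S.hW mu hmu1 hmuν
          exact S.a_ν_other (W mu) w1 w2 w3 w4
        · obtain ⟨w1, w2, -, -⟩ := S.hW mu hmu1 hmuν
          refine S.a_other lam hlam1 hlν (W mu) w1 w2 ?_
          intro hW
          have := (S.hWinj mu lam hmu1 hmuν hlam1 hlν).mp hW
          rcases this with h | h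
          · exact hnot (Or.inl h.symm)
          · apply hnot
            right
            rw [h, cj_cj]
      rw [h0]
      simp
    rw [← Finset.sum_subset hsub hzero, Finset.sum_pair hne]
    have h1 : a mu (W mu) = -ε := S.a_W mu hmu1 hmuν
    have h2 : a (cj mu) (W mu) = -ε := by
      have hWeq : W (cj mu) = W mu :=
        (S.hWinj (cj mu) mu hcj1 hcjν hmu1 hmuν).mpr (Or.inr rfl)
      rw [← hWeq]
      exact S.a_W (cj mu) hcj1 hcjν
    rw [h1, h2]
    have h3 : ((cj mu : IrrCharacter ↥K) : ↥K → ℂ) ⟨y, hy⟩ = conj ((mu : ↥K → ℂ) ⟨y, hy⟩) := rfl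
    rw [h3]
    push_cast
    ring
  · -- `c`
    intro y hy hy1
    rw [apply_eq hcomm C c hy hy1, Finset.sum_eq_single_of_mem ν hνmem]
    · rw [S.a_c]
      ring
    · intro lam hlam hne
      obtain ⟨-, -, w3, -⟩ := S.hW lam (Finset.ne_of_mem_erase hlam) hne
      rw [S.a_other lam (Finset.ne_of_mem_erase hlam) hne c S.hc1 S.hcZ (fun h => w3 h.symm)]
      simp
  · -- `d`
    intro y hy hy1
    rw [apply_eq hcomm C d hy hy1, Finset.sum_eq_single_of_mem ν hνmem]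
    · rw [S.a_d]
      ring
    · intro lam hlam hne
      obtain ⟨-, -, -, w4⟩ := S.hW lam (Finset.ne_of_mem_erase hlam) hne
      rw [S.a_other lam (Finset.ne_of_mem_erase hlam) hne d S.hd1 S.hdZ (fun h => w4 h.symm)]
      simp
  · -- the others
    intro χ hχ1 hχZ hχc hχd hχW y hy hy1
    rw [apply_eq hcomm C χ hy hy1, Finset.sum_eq_zero, neg_zero]
    intro lam hlam
    have hlam1 : lam ≠ oneIrr ↥K := Finset.ne_of_mem_erase hlam
    by_cases hlν : lam = ν
    · rw [hlν, S.a_ν_other χ hχ1 hχZ hχc hχd]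
      simp
    · rw [S.a_other lam hlam1 hlν χ hχ1 hχZ (hχW lam hlam1 hlν)]
      simp

end Cfsg.Agent.Lib.Helper78_BSW_GEN1
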