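import Mathlib
import Cfsg.Agent.Lib.Helper78_BrDecomp

/-!
# Blocks of `C_G(P)` inducing a given block (helper78)

`exists_block_inducing_centralizer`: the analogue of `Helper78_BrDecomp.exists_block_inducing` for
`H = C_G(P)`, without the hypothesis `P ≤ H`.
-/

set_option autoImplicit false

namespace Cfsg.Agent.Lib.Helper78_BrCent

open Cfsg Cfsg.Agent.Lib.Helper78_LocalRing Cfsg.Agent.Lib.Helper78_CentralChar
  Cfsg.Agent.Lib.Helper78_Osima Cfsg.Agent.Lib.Helper78_Idempotent
  Cfsg.Agent.Lib.Helper78_Brauer Cfsg.Agent.Lib.Helper78_AlgHom Cfsg.Agent.Lib.Helper78_BrauerMap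
  Cfsg.Agent.Lib.Helper78_BrDecomp

universe u
variable {G : Type u} [Group G] [Fintype G] {M : Ideal AlgInt} {p : ℕ}
variable {P H : Subgroup G} [Fintype H]

omit [Fintype G] [Fintype H] in
theorem inducedCentralChar_eq_brauerCentralChar (hHC : H ≤ Subgroup.centralizer (P : Set G))
    (ξ : H → ℂ) (g : G) : inducedCentralChar H ξ g = brauerCentralChar P H ξ g := by
  unfold inducedCentralChar brauerCentralChar
  have : {h : H | IsConj g (h : G)} =
      {h : H | IsConj g (h : G) ∧ (h : G) ∈ Subgroup.centralizer (P : Set G)} := by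
    ext h
    simp only [Set.mem_setOf_eq]
    exact ⟨fun hc => ⟨hc, hHC h.2⟩, fun hc => hc.1⟩
  rw [this]

theorem exists_block_inducing_centralizer (hM : IsPModular p M) (hP : IsPGroup p P)
    (hCH : Subgroup.centralizer (P : Set G) ≤ H) (hHC : H ≤ Subgroup.centralizer (P : Set G))
    {B : Set (IrrCharacter G)} (hB : IsPBlock M B) (h₀ : H)
    (ha : ¬ MemLocalIdeal M (blockCoeff B (h₀ : G))) :
    ∃ b : Set (IrrCharacter H), IsInducedBlock M H b B ∧
      ¬ MemLocalIdeal M (blockCoeff b h₀) := by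
  classical
  have hHN : H ≤ Subgroup.normalizer (P : Set G) :=
    hHC.trans (Subgroup.centralizer_le_normalizer _)
  have hh₀ : (h₀ : G) ∈ Subgroup.centralizer (P : Set G) := hHC h₀.2
  have hMp := isPrime_of_isPModular hM
  have hcG := Cfsg.Agent.Lib.Helper78_CharFacts.charFacts (G := G)
  have hcH := Cfsg.Agent.Lib.Helper78_CharFacts.charFacts (G := H)
  have hec := blockCoeff_isClassFunction B
  have heR : ∀ g, MemLocalRing M (blockCoeff B g) := osima_block hcG hMp hB
  set c : H → ℂ := br P H (blockCoeff B) with hc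
  have hcc : IsClassFunction H c := br_isClassFunction hHN hec
  have hcR : ∀ h, MemLocalRing M (c h) := br_memLocalRing hMp heR
  have hidem : ∀ h, MemLocalIdeal M (conv c c h - c h) := br_blockCoeff_idem hM hP hCH hB
  have hch₀ : c h₀ = blockCoeff B (h₀ : G) := br_apply_of_mem _ hh₀
  obtain ⟨b, hb, -, hlb⟩ := exists_block_not_mem hcH hMp (fun f => conv c f h₀)
    (fun f f' => by
      unfold conv
      simp only [Pi.add_apply, mul_add, Finset.sum_add_distrib])
    (by unfold conv; simp) _ Set.univ rfl (fun _ _ _ _ => Set.mem_univ _) (by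
      show ¬ MemLocalIdeal M (conv c (blockCoeff Set.univ) h₀)
      rw [blockCoeff_univ hcH, conv_classIndicator_one_right hcH hcc, hch₀]
      exact ha)
  have hbS : ∀ χ ∈ b, ∀ ψ : IrrCharacter H, SameBlock M (χ : H → ℂ) (ψ : H → ℂ) → ψ ∈ b :=
    fun _ hχ _ h => isPBlock_mem_of_sameBlock hMp hb hχ h
  obtain ⟨ξ, hξ⟩ := isPBlock_nonempty hMp hb
  obtain ⟨χ, hχ⟩ := exists_irr_brauer hM hP hCH hHN ξ.2
  have hωξ : MemLocalIdeal M (omega (ξ : H → ℂ) c - B.indicator (fun _ => (1 : ℂ)) χ) := by
    have := hχ (blockCoeff B) hec heR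
    rwa [omega_blockCoeff hcG] at this
  have hsame : ∀ ψ ∈ b, MemLocalIdeal M (omega ((ψ : IrrCharacter H) : H → ℂ) c -
      omega (ξ : H → ℂ) c) := fun ψ hψ =>
    memLocalIdeal_omega_sub hMp (isIrrCharacter_isClassFunction ψ.2)
      (isIrrCharacter_isClassFunction ξ.2) (isPBlock_sameBlock hMp hb hψ hξ) hcc hcR
  have hχB : χ ∈ B := by
    by_contra hχB
    rw [Set.indicator_of_notMem hχB, sub_zero] at hωξ
    apply hlb
    refine conv_blockCoeff_mem_of_omega_mem hcH hMp hcc hcR hidem b hbS (fun ψ hψ => ?_) h₀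
    have := memLocalIdeal_add hMp (hsame ψ hψ) hωξ
    rwa [sub_add_cancel] at this
  rw [Set.indicator_of_mem hχB] at hωξ
  refine ⟨b, ⟨hb, hB, fun ξ' hξ' χ' hχ' g => ?_⟩, ?_⟩
  · rw [inducedCentralChar_eq_brauerCentralChar hHC]
    have h2 := memLocalIdeal_brauerCentralChar_sub hMp hHN ξ'.2 ξ.2
      (isPBlock_sameBlock hMp hb hξ' hξ) g
    have h3 : MemLocalIdeal M (brauerCentralChar P H (ξ : H → ℂ) g -
        centralChar (χ : G → ℂ) g) := by
      have := hχ (classIndicator g) (classIndicator_isClassFunction g)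
        (memLocalRing_classIndicator hMp g)
      rwa [omega_br_classIndicator,
        omega_classIndicator (isIrrCharacter_isClassFunction χ.2)] at this
    have h4 : MemLocalIdeal M (centralChar (χ : G → ℂ) g - centralChar (χ' : G → ℂ) g) :=
      isPBlock_sameBlock hMp hB hχB hχ' g
    have h5 := memLocalIdeal_add hMp (memLocalIdeal_add hMp h2 h3) h4
    have h6 : (brauerCentralChar P H (ξ' : H → ℂ) g - brauerCentralChar P H (ξ : H → ℂ) g) +
        (brauerCentralChar P H (ξ : H → ℂ) g - centralChar (χ : G → ℂ) g) +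
        (centralChar (χ : G → ℂ) g - centralChar (χ' : G → ℂ) g) =
        brauerCentralChar P H (ξ' : H → ℂ) g - centralChar (χ' : G → ℂ) g := by ring
    rwa [h6] at h5
  · intro hmem
    apply hlb
    have h7 := blockCoeff_sub_conv_mem_of_omega_sub_one_mem hcH hMp hcc hcR hidem b hbS
      (fun ψ hψ => by
        have := memLocalIdeal_add hMp (hsame ψ hψ) hωξ
        rwa [sub_add_sub_cancel] at this) h₀
    have h8 := memLocalIdeal_sub hMp hmem h7
    rwa [sub_sub_cancel] at h8

end Cfsg.Agent.Lib.Helper78_BrCent
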