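import Mathlib
import Cfsg.Prelude.Def_Blocks
import Cfsg.Prelude.Def_BlockLocal
import Cfsg.Prelude.Def_BrauerPairs
import Cfsg.Agent.Lib.Helper78_LocalRing
import Cfsg.Agent.Lib.Helper78_BrauerMap
import Cfsg.Agent.Lib.Helper78_FirstMainGT
import Cfsg.Agent.Lib.Helper78_FirstMain
import Cfsg.Agent.Lib.Helper78_TransportBlocks
import Cfsg.Agent.Lib.Helper78_BrauerCorr

/-!
# The Brauer correspondence over a subgroup `H ⊇ N_G(P)` (helper78, S4670)
-/

set_option autoImplicit false
set_option linter.unusedSectionVars false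

namespace Cfsg.Agent.Lib.Helper78_BrauerCorrOver

open Cfsg Cfsg.Agent.Lib.Helper78_LocalRing
  Cfsg.Agent.Lib.Helper78_BrauerMap
  Cfsg.Agent.Lib.Helper78_FirstMainGT Cfsg.Agent.Lib.Helper78_FirstMain
  Cfsg.Agent.Lib.Helper78_TransportBlocks Cfsg.Agent.Lib.Helper78_BrauerCorr

universe u

variable {G : Type u} [Group G] {M : Ideal AlgInt} {p : ℕ}

/-- The normalizer of `P ∩ H` in `H` is the normalizer of `P` in `G`, when the latter lies in
`H`. -/
noncomputable def normEquiv (P H : Subgroup G) (hH : Subgroup.normalizer (P : Set G) ≤ H) :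
    Subgroup.normalizer ((P.subgroupOf H : Subgroup H) : Set H) ≃*
      Subgroup.normalizer (P : Set G) where
  toFun n' := ⟨((n' : H) : G), by
    have hn := n'.2
    rw [Subgroup.mem_set_normalizer_iff] at hn ⊢
    have hPH : P ≤ H := Subgroup.le_normalizer.trans hH
    intro g
    constructor
    · intro hg
      have := (hn ⟨g, hPH hg⟩).mp (Subgroup.mem_subgroupOf.mpr hg)
      exact Subgroup.mem_subgroupOf.mp this
    · intro hg
      have hgH : g ∈ H := by
        have h1 : g = ((n' : H) : G)⁻¹ * (((n' : H) : G) * g * ((n' : H) : G)⁻¹) *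
            ((n' : H) : G) := by group
        rw [h1]
        exact H.mul_mem (H.mul_mem (H.inv_mem (n' : H).2) (hPH hg)) (n' : H).2
      have := (hn ⟨g, hgH⟩).mpr (Subgroup.mem_subgroupOf.mpr hg)
      exact Subgroup.mem_subgroupOf.mp this⟩
  invFun n := ⟨⟨(n : G), hH n.2⟩, by
    have hn := n.2
    rw [Subgroup.mem_set_normalizer_iff] at hn ⊢
    intro h
    constructor
    · intro hh
      exact Subgroup.mem_subgroupOf.mpr ((hn (h : G)).mp (Subgroup.mem_subgroupOf.mp hh))
    · intro hh
      exact Subgroup.mem_subgroupOf.mpr ((hn (h : G)).mpr (Subgroup.mem_subgroupOf.mp hh))⟩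
  left_inv n' := rfl
  right_inv n := rfl
  map_mul' a b := rfl

theorem normEquiv_coe (P H : Subgroup G) (hH : Subgroup.normalizer (P : Set G) ≤ H)
    (n' : Subgroup.normalizer ((P.subgroupOf H : Subgroup H) : Set H)) :
    ((normEquiv P H hH n' : Subgroup.normalizer (P : Set G)) : G) = ((n' : H) : G) := rfl

theorem map_normEquiv_symm (P H : Subgroup G) (hH : Subgroup.normalizer (P : Set G) ≤ H) :
    (P.subgroupOf (Subgroup.normalizer (P : Set G))).map
      ((normEquiv P H hH).symm : Subgroup.normalizer (P : Set G) →*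
        Subgroup.normalizer ((P.subgroupOf H : Subgroup H) : Set H)) =
      (P.subgroupOf H).subgroupOf (Subgroup.normalizer ((P.subgroupOf H : Subgroup H) : Set H)) := by
  ext n'
  constructor
  · rintro ⟨n, hn, rfl⟩
    exact hn
  · intro hn'
    exact ⟨normEquiv P H hH n', hn', (normEquiv P H hH).symm_apply_apply n'⟩

theorem map_normEquiv (P H : Subgroup G) (hH : Subgroup.normalizer (P : Set G) ≤ H) :
    ((P.subgroupOf H).subgroupOf (Subgroup.normalizer ((P.subgroupOf H : Subgroup H) : Set H))).map
      ((normEquiv P H hH).symm.symm :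
        Subgroup.normalizer ((P.subgroupOf H : Subgroup H) : Set H) →*
          Subgroup.normalizer (P : Set G)) =
      P.subgroupOf (Subgroup.normalizer (P : Set G)) := by
  ext n
  constructor
  · rintro ⟨n', hn', rfl⟩
    exact hn'
  · intro hn
    exact ⟨(normEquiv P H hH).symm n, hn, (normEquiv P H hH).apply_symm_apply n⟩

theorem mem_centralizer_subgroupOf {P H : Subgroup G} (hPH : P ≤ H) (h : H) :
    h ∈ Subgroup.centralizer ((P.subgroupOf H : Subgroup H) : Set H) ↔
      (h : G) ∈ Subgroup.centralizer (P : Set G) := by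
  rw [Subgroup.mem_centralizer_iff, Subgroup.mem_centralizer_iff]
  constructor
  · intro hh q hq
    have := hh ⟨q, hPH hq⟩ (Subgroup.mem_subgroupOf.mpr hq)
    exact congrArg Subtype.val this
  · intro hh q hq
    apply Subtype.ext
    exact hh (q : G) (Subgroup.mem_subgroupOf.mp hq)

variable [Finite G] [Fact p.Prime]

/-- The congruence of idempotents along the correspondence `B ↔ b ↔ c`. -/
theorem corr_congr (hM : IsPModular p M) (P H : Subgroup G)
    (hH : Subgroup.normalizer (P : Set G) ≤ H)
    {B : Set (IrrCharacter G)} (hBP : IsDefectGroup p M B P)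
    {b : Set (IrrCharacter (Subgroup.normalizer (P : Set G)))}
    (hind : IsInducedBlock M (Subgroup.normalizer (P : Set G)) b B)
    {c : Set (IrrCharacter H)} (hcP : IsDefectGroup p M c (P.subgroupOf H))
    (hindc : IsInducedBlock M (Subgroup.normalizer ((P.subgroupOf H : Subgroup H) : Set H))
      (mapBlock (normEquiv P H hH) b) c)
    (x : G) (hx : x ∈ Subgroup.centralizer (P : Set G)) :
    MemLocalIdeal M (blockCoeff B x - subgroupBlockCoeff H c x) := by
  classical
  have hMp := isPrime_of_isPModular hM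
  have hPH : P ≤ H := Subgroup.le_normalizer.trans hH
  have hxN : x ∈ Subgroup.normalizer (P : Set G) := centralizer_le_normalizer P hx
  have hxH : x ∈ H := hH hxN
  set n : Subgroup.normalizer (P : Set G) := ⟨x, hxN⟩ with hn
  set n' : Subgroup.normalizer ((P.subgroupOf H : Subgroup H) : Set H) :=
    (normEquiv P H hH).symm n with hn'
  have hn'H : (n' : H) = ⟨x, hxH⟩ := rfl
  have e1 := br_blockCoeff_sub_mem hM hBP hind n
  rw [br_apply_of_mem _ (show ((n : Subgroup.normalizer (P : Set G)) : G) ∈
    Subgroup.centralizer (P : Set G) from hx)] at e1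
  have e2 := br_blockCoeff_sub_mem hM hcP hindc n'
  have hn'C : ((n' : Subgroup.normalizer ((P.subgroupOf H : Subgroup H) : Set H)) : H) ∈
      Subgroup.centralizer ((P.subgroupOf H : Subgroup H) : Set H) := by
    rw [mem_centralizer_subgroupOf hPH]
    exact hx
  rw [br_apply_of_mem _ hn'C, blockCoeff_mapBlock, hn', MulEquiv.apply_symm_apply] at e2
  have e3 : subgroupBlockCoeff H c x = blockCoeff c ⟨x, hxH⟩ := by
    unfold subgroupBlockCoeff
    rw [dif_pos hxH]
  rw [e3]
  have e4 := memLocalIdeal_sub hMp e1 e2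
  have e5 : blockCoeff B ((n : Subgroup.normalizer (P : Set G)) : G) - blockCoeff b n -
      (blockCoeff c (((normEquiv P H hH).symm n :
        Subgroup.normalizer ((P.subgroupOf H : Subgroup H) : Set H)) : H) - blockCoeff b n) =
      blockCoeff B x - blockCoeff c ⟨x, hxH⟩ := by
    have : (((normEquiv P H hH).symm n :
        Subgroup.normalizer ((P.subgroupOf H : Subgroup H) : Set H)) : H) = ⟨x, hxH⟩ := rfl
    rw [this]
    show blockCoeff B x - blockCoeff b n - (blockCoeff c ⟨x, hxH⟩ - blockCoeff b n) = _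
    ring
  rwa [e5] at e4

/-- **S4670**: the Brauer correspondence over a subgroup containing `N_G(P)`. -/
theorem brauer_corr_over (hM : IsPModular p M) (P H : Subgroup G) (hP : IsPGroup p P)
    (hH : Subgroup.normalizer (P : Set G) ≤ H) :
    (∀ B : Set (IrrCharacter G), IsPBlock M B → IsDefectGroup p M B P →
      ∃! c : Set (IrrCharacter H), IsPBlock M c ∧ IsDefectGroup p M c (P.subgroupOf H) ∧
        ∀ x : G, x ∈ Subgroup.centralizer (P : Set G) →
          MemLocalIdeal M (blockCoeff B x - subgroupBlockCoeff H c x)) ∧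
    (∀ c : Set (IrrCharacter H), IsPBlock M c → IsDefectGroup p M c (P.subgroupOf H) →
      ∃! B : Set (IrrCharacter G), IsPBlock M B ∧ IsDefectGroup p M B P ∧
        ∀ x : G, x ∈ Subgroup.centralizer (P : Set G) →
          MemLocalIdeal M (blockCoeff B x - subgroupBlockCoeff H c x)) := by
  classical
  have hMp := isPrime_of_isPModular hM
  have hPH : P ≤ H := Subgroup.le_normalizer.trans hH
  have hP' : IsPGroup p (P.subgroupOf H) := hP.comap_subtype
  have hsbc : ∀ (c : Set (IrrCharacter H)) (h : H),
      subgroupBlockCoeff H c (h : G) = blockCoeff c h := by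
    intro c h
    unfold subgroupBlockCoeff
    rw [dif_pos h.2]
  constructor
  · intro B hB hBP
    obtain ⟨b, hb, hbP, hind⟩ := firstMain_exists_block hM P hP hB hBP
    have hb' : IsPBlock M (mapBlock (normEquiv P H hH) b) := isPBlock_mapBlock _ hb
    have hb'P := isDefectGroup_mapBlock (normEquiv P H hH) hbP
    rw [map_normEquiv_symm] at hb'P
    obtain ⟨c, hc, hcP, hindc⟩ := firstMain_induced hM (P.subgroupOf H) hP' hb' hb'P
    refine ⟨c, ⟨hc, hcP, corr_congr hM P H hH hBP hind hcP hindc⟩, ?_⟩
    rintro c₂ ⟨hc₂, hc₂P, hcong₂⟩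
    refine corr_unique hM hc₂ hc hc₂P hcP fun h hh => ?_
    have hx : (h : G) ∈ Subgroup.centralizer (P : Set G) :=
      (mem_centralizer_subgroupOf hPH h).mp hh
    have e1 := corr_congr hM P H hH hBP hind hcP hindc (h : G) hx
    have e2 := hcong₂ (h : G) hx
    rw [hsbc] at e1 e2
    have e3 := memLocalIdeal_sub hMp e1 e2
    have e4 : blockCoeff B (h : G) - blockCoeff c h - (blockCoeff B (h : G) - blockCoeff c₂ h) =
        blockCoeff c₂ h - blockCoeff c h := by ring
    rwa [e4] at e3
  · intro c hc hcP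
    obtain ⟨b', hb', hb'P, hindc⟩ := firstMain_exists_block hM (P.subgroupOf H) hP' hc hcP
    have hb : IsPBlock M (mapBlock (normEquiv P H hH).symm b') := isPBlock_mapBlock _ hb'
    have hbP := isDefectGroup_mapBlock (normEquiv P H hH).symm hb'P
    rw [map_normEquiv] at hbP
    obtain ⟨B, hB, hBP, hind⟩ := firstMain_induced hM P hP hb hbP
    have hindc' : IsInducedBlock M (Subgroup.normalizer ((P.subgroupOf H : Subgroup H) : Set H))
        (mapBlock (normEquiv P H hH) (mapBlock (normEquiv P H hH).symm b')) c := by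
      rw [mapBlock_mapBlock_symm]
      exact hindc
    refine ⟨B, ⟨hB, hBP, corr_congr hM P H hH hBP hind hcP hindc'⟩, ?_⟩
    rintro B₂ ⟨hB₂, hB₂P, hcong₂⟩
    refine corr_unique hM hB₂ hB hB₂P hBP fun x hx => ?_
    have e1 := corr_congr hM P H hH hBP hind hcP hindc' x hx
    have e2 := hcong₂ x hx
    have e3 := memLocalIdeal_sub hMp e2 e1
    have e4 : blockCoeff B₂ x - subgroupBlockCoeff H c x -
        (blockCoeff B x - subgroupBlockCoeff H c x) = blockCoeff B₂ x - blockCoeff B x := by ring
    rwa [e4] at e3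

end Cfsg.Agent.Lib.Helper78_BrauerCorrOver
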