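import Mathlib
import Cfsg.Prelude.Def_Blocks
import Cfsg.Prelude.Def_BlockLocal
import Cfsg.Prelude.Def_BrauerPairs
import Cfsg.Prelude.Def_BlockFusion
import Cfsg.Agent.Lib.Helper78_StabBlock
import Cfsg.Agent.Lib.Helper78_BlockFusion
import Cfsg.Agent.Lib.Helper78_LocalBlockX
import Cfsg.Agent.Lib.Helper78_FongKnorrSub

/-!
# Centric subpairs stabilized by the whole group (helper78, S4693)

If `(Q, f) ≤ (P, e)` with `Q` centric and every element of `G` normalizes `Q` and stabilizes `f`,
then the idempotent of `B` is that of `f`, and `f` is the idempotent of a nilpotent block of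
`Q C_G(Q)`.
-/

set_option autoImplicit false
set_option linter.unusedSectionVars false

namespace Cfsg.Agent.Lib.Helper78_CentricNormal

open Cfsg Cfsg.Agent.Lib.Helper78_LocalRing Cfsg.Agent.Lib.Helper78_Osima
  Cfsg.Agent.Lib.Helper78_CharFacts Cfsg.Agent.Lib.Helper78_ExtConv
  Cfsg.Agent.Lib.Helper78_BrauerPairs
  Cfsg.Agent.Lib.Helper78_Transport Cfsg.Agent.Lib.Helper78_TransportBlocks
  Cfsg.Agent.Lib.Helper78_BrauerCorr
  Cfsg.Agent.Lib.Helper78_SubpairTrans Cfsg.Agent.Lib.Helper78_SubpairUnique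
  Cfsg.Agent.Lib.Helper78_FirstMainGT
  Cfsg.Agent.Lib.Helper78_FirstMain Cfsg.Agent.Lib.Helper78_MaxPair
  Cfsg.Agent.Lib.Helper78_PairConj Cfsg.Agent.Lib.Helper78_StabBlock
  Cfsg.Agent.Lib.Helper78_BlockFusion Cfsg.Agent.Lib.Helper78_LocalBlockX
  Cfsg.Agent.Lib.Helper78_FongKnorrSub

universe u

variable {G : Type u} [Group G] {M : Ideal AlgInt} {p : ℕ}

/-- The cardinality of `C ∩ E` for a subgroup `E` of `X`, in two forms. -/
theorem card_subgroupOf_subgroupOf {C X : Subgroup G} (E : Subgroup X) :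
    Nat.card ((C.subgroupOf X).subgroupOf E) =
      Nat.card (E.map X.subtype ⊓ C : Subgroup G) := by
  have h : (C.subgroupOf X ⊓ E).map X.subtype = E.map X.subtype ⊓ C := by
    ext y
    constructor
    · rintro ⟨x, ⟨hxC, hxE⟩, rfl⟩
      exact ⟨⟨x, hxE, rfl⟩, Subgroup.mem_subgroupOf.mp hxC⟩
    · rintro ⟨⟨x, hxE, rfl⟩, hyC⟩
      exact ⟨x, ⟨Subgroup.mem_subgroupOf.mpr hyC, hxE⟩, rfl⟩
  rw [← Subgroup.inf_subgroupOf_right, card_subgroupOf_of_le inf_le_right,
    ← Subgroup.card_map_of_injective (Subgroup.subtype_injective X), h]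

/-- The order of a subgroup `E` of `X` with `C E = X`, for `C` normal in `X`. -/
theorem card_eq_of_sup_eq_top {C X : Subgroup G} (hnorm : (C.subgroupOf X).Normal)
    (E : Subgroup X) (hsup : C.subgroupOf X ⊔ E = ⊤) :
    Nat.card E = Nat.card (E.map X.subtype ⊓ C : Subgroup G) * (C.subgroupOf X).index := by
  have h1 : Nat.card ((C.subgroupOf X).subgroupOf E) * (C.subgroupOf X).relIndex E = Nat.card E :=
    Subgroup.card_mul_index ((C.subgroupOf X).subgroupOf E)
  rw [← h1, card_subgroupOf_subgroupOf, ← Subgroup.relIndex_sup_left, hsup,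
    Subgroup.relIndex_top_right]

section Main

variable [Fintype G] [Fact p.Prime]

/-- A pair `(Q, f)` is a Brauer pair of a block whose idempotent is that of `f`. -/
theorem isBrauerPairOf_of_blockCoeff_eq (hM : M.IsPrime) {Q : Subgroup G} (hQ : IsPGroup p Q)
    {f : Set (IrrCharacter (Subgroup.centralizer (Q : Set G)))} (hf : IsPBlock M f)
    {B₀ : Set (IrrCharacter G)} (hB₀ : IsPBlock M B₀)
    (h : ∀ g : G, blockCoeff B₀ g = subgroupBlockCoeff (Subgroup.centralizer (Q : Set G)) f g) :
    IsBrauerPairOf p M B₀ Q f := by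
  classical
  have := Fintype.ofFinite (Subgroup.centralizer (Q : Set G))
  have hcC := Cfsg.Agent.Lib.Helper78_CharFacts.charFacts (G := Subgroup.centralizer (Q : Set G))
  refine ⟨⟨hQ, hf⟩, hB₀, fun ξ hξ => ?_⟩
  rw [brauerOmega_eq_omega]
  have h1 : res (Subgroup.centralizer (Q : Set G)) (blockCoeff B₀) = blockCoeff f := by
    funext c
    rw [res_apply, h]
    unfold subgroupBlockCoeff
    rw [dif_pos c.2]
  rw [h1, omega_blockCoeff hcC, Set.indicator_of_mem hξ, sub_self]
  exact memLocalIdeal_zero hM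

/-- **S4693**. -/
theorem centric_normal (hM : IsPModular p M) {B : Set (IrrCharacter G)}
    {P : Subgroup G} {e : Set (IrrCharacter (Subgroup.centralizer (P : Set G)))}
    (hmax : IsMaximalBrauerPair p M B P e) {F : FusionSystem P}
    (hF : IsBlockFusionSystemOn p M B P e F) {Q : Subgroup G}
    {f : Set (IrrCharacter (Subgroup.centralizer (Q : Set G)))} (hQP : Q ≤ P)
    (hf : IsPBlock M f) (hle : SubpairLE p M Q f P e) (hcen : F.IsCentric Q)
    (hG : ∀ x : G, x ∈ Subgroup.normalizer (Q : Set G) ∧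
      StabilizesBlock (Subgroup.centralizer (Q : Set G)) f x) :
    (∀ g : G, MemLocalIdeal M (blockCoeff B g -
      subgroupBlockCoeff (Subgroup.centralizer (Q : Set G)) f g)) ∧
    ∃ F' : Set (IrrCharacter ↥(Q ⊔ Subgroup.centralizer (Q : Set G))), IsPBlock M F' ∧
      (∀ t : ↥(Q ⊔ Subgroup.centralizer (Q : Set G)), blockCoeff F' t =
        subgroupBlockCoeff (Subgroup.centralizer (Q : Set G)) f (t : G)) ∧
      IsNilpotentBlock p M F' := by
  classical
  have hp : p.Prime := Fact.out
  have hMp := isPrime_of_isPModular hM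
  have hPe := hmax.1.1
  have hB := hmax.1.2.1
  have hQ : IsPGroup p Q := hPe.1.to_le hQP
  have hQf : IsBrauerPairOf p M B Q f := (isBrauerPairOf_iff_of_subpairLE hM hle hB).mp hmax.1
  constructor
  · -- the block of `G` with the idempotent of `f`
    obtain ⟨F₀, hF₀, hF₀c⟩ := exists_block_stabilizer' hM hQ hf ⊤
      (fun y => ⟨fun _ => hG y, fun _ => Subgroup.mem_top y⟩)
    have hB₀ : IsPBlock M (mapBlock (Subgroup.topEquiv (G := G)).symm F₀) :=
      isPBlock_mapBlock _ hF₀
    have hB₀c : ∀ g : G, blockCoeff (mapBlock (Subgroup.topEquiv (G := G)).symm F₀) g =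
        subgroupBlockCoeff (Subgroup.centralizer (Q : Set G)) f g := by
      intro g
      rw [blockCoeff_mapBlock, hF₀c]
      rfl
    have hpair := isBrauerPairOf_of_blockCoeff_eq hMp hQ hf hB₀ hB₀c
    obtain ⟨B', -, huniq⟩ := existsUnique_isBrauerPairOf hM Q hQ hf
    have hBB : B = mapBlock (Subgroup.topEquiv (G := G)).symm F₀ :=
      (huniq B hQf).trans (huniq _ hpair).symm
    intro g
    rw [hBB, hB₀c, sub_self]
    exact memLocalIdeal_zero hMp
  · -- the block of `Q C_G(Q)`
    have hQC : Q ≤ Subgroup.normalizer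
        ((Subgroup.centralizer (Q : Set G) : Subgroup G) : Set G) :=
      fun y hy => normalizer_le Q (Subgroup.le_normalizer hy)
    have hnorm := normal_subgroupOf_sup hQC
    obtain ⟨k, hk⟩ := index_sup_ppower hQ hQC
    have hCX : Subgroup.centralizer (Q : Set G) ≤ Q ⊔ Subgroup.centralizer (Q : Set G) :=
      le_sup_right
    have hQX : Q ≤ Q ⊔ Subgroup.centralizer (Q : Set G) := le_sup_left
    obtain ⟨F', hF', hF'c⟩ := exists_block_of_ppower hM hCX hnorm hk hf (fun x _ => (hG x).2)
    refine ⟨F', hF', hF'c, hF', fun R g hRg x hxN hxst hreg => ?_⟩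
    have := Fintype.ofFinite ↥(Q ⊔ Subgroup.centralizer (Q : Set G))
    -- `x` lies in `C_G(Q)`
    have hxC : (x : G) ∈ Subgroup.centralizer (Q : Set G) := by
      have h1 := Subgroup.pow_index_mem
        ((Subgroup.centralizer (Q : Set G)).subgroupOf (Q ⊔ Subgroup.centralizer (Q : Set G))) x
      rw [hk] at h1
      have hcop : (p ^ k).Coprime (orderOf x) :=
        Nat.Coprime.pow_left k ((Nat.Prime.coprime_iff_not_dvd hp).mpr hreg)
      obtain ⟨m, hm⟩ := exists_pow_eq_self_of_coprime hcop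
      have h2 := Subgroup.pow_mem _ h1 m
      rw [hm] at h2
      exact Subgroup.mem_subgroupOf.mp h2
    -- `R` lies in `Q`
    obtain ⟨E, hE, hRE⟩ := exists_isDefectGroup_ge_of_pair hM hRg
    obtain ⟨hEf, hEidx⟩ := defect_of_eq_sub hM hCX hnorm hf hF' hF'c hE
    have hZ := (isCentric_iff hM hmax hF hQP hf hle).mp hcen
    have hQnormal : Q.Normal := by
      rw [← Subgroup.normalizer_eq_top_iff, eq_top_iff]
      intro y _
      exact (hG y).1
    have hQXn : (Q.subgroupOf (Q ⊔ Subgroup.centralizer (Q : Set G))).Normal := inferInstance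
    -- `Q ≤ E`
    have hQE : Q.subgroupOf (Q ⊔ Subgroup.centralizer (Q : Set G)) ≤ E := by
      obtain ⟨y, hy, Sy, hESy⟩ := hE
      have hyC : (y : G) ∈ Subgroup.centralizer (Q : Set G) := by
        by_contra hyC
        apply hy.2.1
        rw [hF'c]
        unfold subgroupBlockCoeff
        rw [dif_neg hyC]
        exact memLocalIdeal_zero hMp
      have hQcent : Q.subgroupOf (Q ⊔ Subgroup.centralizer (Q : Set G)) ≤
          Subgroup.centralizer ({y} : Set ↥(Q ⊔ Subgroup.centralizer (Q : Set G))) := by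
        intro q hq
        rw [Subgroup.mem_subgroupOf] at hq
        rw [Subgroup.mem_centralizer_singleton_iff]
        apply Subtype.ext
        have := Subgroup.mem_centralizer_iff.mp hyC (q : G) hq
        exact this
      have hNp : IsPGroup p ((Q.subgroupOf (Q ⊔ Subgroup.centralizer (Q : Set G))).subgroupOf
          (Subgroup.centralizer ({y} : Set ↥(Q ⊔ Subgroup.centralizer (Q : Set G))))) :=
        (hQ.comap_subtype).comap_subtype
      have hle' := hNp.le_sylow_of_normal Sy
      intro q hq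
      rw [hESy]
      exact ⟨⟨q, hQcent hq⟩, hle' (Subgroup.mem_subgroupOf.mpr hq), rfl⟩
    -- cardinalities
    have hsupE : (Subgroup.centralizer (Q : Set G)).subgroupOf
        (Q ⊔ Subgroup.centralizer (Q : Set G)) ⊔ E = ⊤ := by
      rw [← Subgroup.index_eq_one]
      have hdvd : ((Subgroup.centralizer (Q : Set G)).subgroupOf
          (Q ⊔ Subgroup.centralizer (Q : Set G)) ⊔ E).index ∣ p ^ k := by
        rw [← hk]
        exact Subgroup.index_dvd_of_le le_sup_left
      obtain ⟨j, -, hj⟩ := (Nat.dvd_prime_pow hp).mp hdvd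
      rw [hj] at hEidx ⊢
      have hj0 : j = 0 := by
        by_contra hne
        exact hEidx (dvd_pow_self p hne)
      rw [hj0, pow_zero]
    have hsupQ : (Subgroup.centralizer (Q : Set G)).subgroupOf
        (Q ⊔ Subgroup.centralizer (Q : Set G)) ⊔
        Q.subgroupOf (Q ⊔ Subgroup.centralizer (Q : Set G)) = ⊤ := by
      rw [eq_top_iff]
      rintro t -
      obtain ⟨q, hq, c, hc, htqc⟩ := exists_mul_of_mem_sup hQC t.2
      have h2 : t = (⟨q, hQX hq⟩ : ↥(Q ⊔ Subgroup.centralizer (Q : Set G))) * ⟨c, hCX hc⟩ :=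
        Subtype.ext htqc
      rw [h2]
      exact Subgroup.mul_mem _ (Subgroup.mem_sup_right (Subgroup.mem_subgroupOf.mpr hq))
        (Subgroup.mem_sup_left (Subgroup.mem_subgroupOf.mpr hc))
    have hcE := card_eq_of_sup_eq_top hnorm E hsupE
    have hcQ := card_eq_of_sup_eq_top hnorm _ hsupQ
    have hmapQ : (Q.subgroupOf (Q ⊔ Subgroup.centralizer (Q : Set G))).map
        (Q ⊔ Subgroup.centralizer (Q : Set G)).subtype = Q :=
      Subgroup.map_subgroupOf_eq_of_le hQX
    rw [hmapQ] at hcQ
    have hcard1 := isDefectGroup_card_eq hM hf hZ hEf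
    rw [card_subgroupOf_of_le inf_le_right, card_subgroupOf_of_le inf_le_right] at hcard1
    have hEQ : Q.subgroupOf (Q ⊔ Subgroup.centralizer (Q : Set G)) = E :=
      Subgroup.eq_of_le_of_card_ge hQE (by rw [hcE, hcQ, hcard1])
    -- conclusion
    rw [Subgroup.mem_centralizer_iff]
    intro r hr
    have hrQ : (r : G) ∈ Q := by
      have := hRE hr
      rw [← hEQ, Subgroup.mem_subgroupOf] at this
      exact this
    apply Subtype.ext
    exact Subgroup.mem_centralizer_iff.mp hxC (r : G) hrQ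

end Main

end Cfsg.Agent.Lib.Helper78_CentricNormal
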