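import Mathlib

/-!
# A nilpotency argument for idempotents with braided components (helper78)

`𝔄` is a ring, `Γ` a finite group and `c : Γ → 𝔄` a family with the braiding relation
`c γ * c δ = c (γ δ γ⁻¹) * c γ`.  `I` is a subring containing the `c γ` and `Z` an additive subgroup
stable under multiplication by `I` on both sides ("zero modulo").  If `e = ∑ γ, c γ` is idempotent
and every product `c γ₁ ⋯ c γ_r` over a nonempty word of length at most `|Γ|` with `γ₁ ⋯ γ_r = 1`
has a power in `Z`, then `e ∈ Z`.
-/

set_option autoImplicit false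

namespace Cfsg.Agent.Lib.Helper78_GradedNil

variable {𝔄 : Type*} [Ring 𝔄] {Γ : Type*} [Group Γ]

/-- The product of the components along a word. -/
def wordProd (c : Γ → 𝔄) (w : List Γ) : 𝔄 := (w.map c).prod

/-- The conjugate of a word. -/
def conjWord (γ : Γ) (w : List Γ) : List Γ := w.map (fun δ => γ * δ * γ⁻¹)

theorem wordProd_nil (c : Γ → 𝔄) : wordProd c [] = 1 := rfl

theorem wordProd_cons (c : Γ → 𝔄) (γ : Γ) (w : List Γ) :
    wordProd c (γ :: w) = c γ * wordProd c w := by
  unfold wordProd
  rw [List.map_cons, List.prod_cons]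

theorem wordProd_append (c : Γ → 𝔄) (u w : List Γ) :
    wordProd c (u ++ w) = wordProd c u * wordProd c w := by
  unfold wordProd
  rw [List.map_append, List.prod_append]

theorem conjWord_nil (γ : Γ) : conjWord γ ([] : List Γ) = [] := rfl

theorem conjWord_cons (γ δ : Γ) (w : List Γ) :
    conjWord γ (δ :: w) = (γ * δ * γ⁻¹) :: conjWord γ w := rfl

theorem conjWord_length (γ : Γ) (w : List Γ) : (conjWord γ w).length = w.length :=
  List.length_map _

theorem conjWord_ne_nil (γ : Γ) {w : List Γ} (hw : w ≠ []) : conjWord γ w ≠ [] := by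
  intro h
  apply hw
  have := congrArg List.length h
  rw [conjWord_length] at this
  exact List.eq_nil_of_length_eq_zero this

theorem conjWord_prod (γ : Γ) (w : List Γ) : (conjWord γ w).prod = γ * w.prod * γ⁻¹ := by
  induction w with
  | nil => simp [conjWord]
  | cons δ w ih =>
    rw [conjWord_cons, List.prod_cons, List.prod_cons, ih]
    group

theorem conjWord_one (w : List Γ) : conjWord (1 : Γ) w = w := by
  unfold conjWord
  simp

theorem conjWord_mul (γ δ : Γ) (w : List Γ) :
    conjWord γ (conjWord δ w) = conjWord (γ * δ) w := by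
  unfold conjWord
  rw [List.map_map]
  congr 1
  funext x
  simp only [Function.comp_apply, mul_inv_rev]
  group

variable {c : Γ → 𝔄}

theorem braid_word (hbr : ∀ γ δ : Γ, c γ * c δ = c (γ * δ * γ⁻¹) * c γ) (γ : Γ) (w : List Γ) :
    c γ * wordProd c w = wordProd c (conjWord γ w) * c γ := by
  induction w with
  | nil => simp [wordProd_nil, conjWord_nil]
  | cons δ w ih =>
    rw [wordProd_cons, conjWord_cons, wordProd_cons, ← mul_assoc, hbr, mul_assoc (c _) (c γ), ih,
      ← mul_assoc]

theorem braid_words (hbr : ∀ γ δ : Γ, c γ * c δ = c (γ * δ * γ⁻¹) * c γ) (u w : List Γ) :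
    wordProd c u * wordProd c w = wordProd c (conjWord u.prod w) * wordProd c u := by
  induction u generalizing w with
  | nil => simp [wordProd_nil, conjWord_one]
  | cons γ u ih =>
    rw [wordProd_cons, mul_assoc, ih, ← mul_assoc, braid_word hbr, conjWord_mul, List.prod_cons,
      mul_assoc]

theorem commute_wordProd (hbr : ∀ γ δ : Γ, c γ * c δ = c (γ * δ * γ⁻¹) * c γ) {s : List Γ}
    (hs : s.prod = 1) (w : List Γ) : Commute (wordProd c s) (wordProd c w) := by
  show wordProd c s * wordProd c w = wordProd c w * wordProd c s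
  rw [braid_words hbr, hs, conjWord_one]

/-- A word of length at least `|Γ|` contains a nonempty segment with product `1`. -/
theorem exists_segment [Fintype Γ] (w : List Γ) (hw : Fintype.card Γ ≤ w.length) :
    ∃ u s v : List Γ, w = u ++ s ++ v ∧ s ≠ [] ∧ s.prod = 1 ∧ s.length ≤ Fintype.card Γ := by
  classical
  set m := Fintype.card Γ with hm
  let f : Fin (m + 1) → Γ := fun i => (w.take i).prod
  have hcard : Fintype.card Γ < Fintype.card (Fin (m + 1)) := by
    rw [Fintype.card_fin]
    omega
  obtain ⟨i, j, hij, hf⟩ := Fintype.exists_ne_map_eq_of_card_lt f hcard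
  wlog hlt : i < j generalizing i j
  · exact this j i hij.symm hf.symm (lt_of_le_of_ne (not_lt.mp hlt) hij.symm)
  have hi : (i : ℕ) < (j : ℕ) := hlt
  have hj : (j : ℕ) ≤ m := Nat.lt_succ_iff.mp j.2
  refine ⟨w.take i, (w.drop i).take (j - i), w.drop j, ?_, ?_, ?_, ?_⟩
  · have h1 : w.take i ++ (w.drop i).take (j - i) = w.take j := by
      have := List.take_add (l := w) (i := (i : ℕ)) (j := (j : ℕ) - i)
      rw [show (i : ℕ) + ((j : ℕ) - i) = j by omega] at this
      exact this.symm
    rw [h1, List.take_append_drop]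
  · intro h
    have := congrArg List.length h
    rw [List.length_take, List.length_drop, List.length_nil] at this
    omega
  · have h1 : w.take j = w.take i ++ (w.drop i).take (j - i) := by
      have := List.take_add (l := w) (i := (i : ℕ)) (j := (j : ℕ) - i)
      rw [show (i : ℕ) + ((j : ℕ) - i) = j by omega] at this
      exact this
    have h2 : (w.take j).prod = (w.take i).prod * ((w.drop i).take (j - i)).prod := by
      rw [h1, List.prod_append]
    have h3 : (w.take i).prod = (w.take j).prod := hf
    rw [← h3] at h2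
    exact (mul_eq_left.mp h2.symm)
  · rw [List.length_take, List.length_drop]
    omega

/-- Extracting `q` segments of product `1` from a long word. -/
theorem extract [Fintype Γ] (hbr : ∀ γ δ : Γ, c γ * c δ = c (γ * δ * γ⁻¹) * c γ) :
    ∀ (q : ℕ) (w : List Γ), q * Fintype.card Γ ≤ w.length →
      ∃ (ss : List (List Γ)) (w' : List Γ), ss.length = q ∧
        (∀ s ∈ ss, s ≠ [] ∧ s.prod = 1 ∧ s.length ≤ Fintype.card Γ) ∧
        wordProd c w = (ss.map (wordProd c)).prod * wordProd c w' := by
  intro q
  induction q with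
  | zero =>
    intro w _
    exact ⟨[], w, rfl, by simp, by simp⟩
  | succ q ih =>
    intro w hw
    have hm : Fintype.card Γ ≤ w.length := by
      have : Fintype.card Γ ≤ (q + 1) * Fintype.card Γ := Nat.le_mul_of_pos_left _ (Nat.succ_pos q)
      omega
    obtain ⟨u, s, v, hw', hs0, hs1, hsl⟩ := exists_segment w hm
    have hlen : q * Fintype.card Γ ≤ (u ++ v).length := by
      have h1 : w.length = u.length + s.length + v.length := by
        rw [hw', List.length_append, List.length_append]
      rw [List.length_append]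
      have h2 : (q + 1) * Fintype.card Γ = q * Fintype.card Γ + Fintype.card Γ := by ring
      omega
    obtain ⟨ss, w', hss, hprop, heq⟩ := ih (u ++ v) hlen
    refine ⟨conjWord u.prod s :: ss, w', by simp [hss], ?_, ?_⟩
    · intro t ht
      rcases List.mem_cons.mp ht with rfl | ht
      · refine ⟨conjWord_ne_nil _ hs0, ?_, ?_⟩
        · rw [conjWord_prod, hs1, mul_one, mul_inv_cancel]
        · rw [conjWord_length]; exact hsl
      · exact hprop t ht
    · rw [hw', wordProd_append, wordProd_append, braid_words hbr u s, List.map_cons,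
        List.prod_cons, mul_assoc, mul_assoc, ← wordProd_append, heq]

/-- Collecting the occurrences of a commuting element in a product. -/
theorem prod_eq_pow_mul_filter [DecidableEq 𝔄] (t : 𝔄) (l : List 𝔄)
    (hcomm : ∀ x ∈ l, Commute t x) :
    l.prod = t ^ (l.count t) * (l.filter (fun x => x ≠ t)).prod := by
  induction l with
  | nil => simp
  | cons x l ih =>
    have hl : ∀ y ∈ l, Commute t y := fun y hy => hcomm y (List.mem_cons_of_mem _ hy)
    by_cases hx : x = t
    · subst hx
      rw [List.prod_cons, List.count_cons_self, pow_succ', ih hl, List.filter_cons_of_neg (by simp),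
        mul_assoc]
    · have hx' : (x == t) = false := by simpa using hx
      rw [List.prod_cons, List.count_cons_of_ne hx,
        List.filter_cons_of_pos (by simpa using hx), List.prod_cons, ih hl, ← mul_assoc,
        ← mul_assoc]
      congr 1
      exact ((hcomm x List.mem_cons_self).pow_left _).eq.symm

variable (I : Subring 𝔄) (Z : AddSubgroup 𝔄)

/-- A long product of pairwise commuting elements, each with a power in `Z`, lies in `Z`. -/
theorem prod_mem_of_long (hIZ : ∀ a ∈ I, ∀ z ∈ Z, a * z ∈ Z) (hZI : ∀ z ∈ Z, ∀ a ∈ I, z * a ∈ Z)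
    (n₀ : ℕ) (hn₀ : 0 < n₀) :
    ∀ (T : Finset 𝔄), (∀ t ∈ T, t ∈ I) → (∀ t ∈ T, t ^ n₀ ∈ Z) →
      (∀ t ∈ T, ∀ t' ∈ T, Commute t t') →
      ∀ l : List 𝔄, (∀ x ∈ l, x ∈ T) → 0 < l.length → T.card * n₀ ≤ l.length → l.prod ∈ Z := by
  classical
  intro T
  induction T using Finset.induction_on with
  | empty =>
    intro _ _ _ l hl hpos _
    exfalso
    obtain ⟨x, hx⟩ := List.exists_mem_of_length_pos hpos
    exact absurd (hl x hx) (by simp)
  | insert t T ht ih =>
    intro hTI hTZ hTc l hl hpos hlen
    have hcomm : ∀ x ∈ l, Commute t x := fun x hx =>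
      hTc t (Finset.mem_insert_self t T) x (hl x hx)
    have hprodI : ∀ l' : List 𝔄, (∀ x ∈ l', x ∈ I) → l'.prod ∈ I := fun l' h =>
      I.list_prod_mem h
    rw [prod_eq_pow_mul_filter t l hcomm]
    have hfI : (l.filter (fun x => x ≠ t)).prod ∈ I := by
      apply hprodI
      intro x hx
      exact hTI x (hl x (List.mem_of_mem_filter hx))
    have htI : t ∈ I := hTI t (Finset.mem_insert_self t T)
    by_cases hk : n₀ ≤ l.count t
    · have h1 : t ^ (l.count t) = t ^ n₀ * t ^ (l.count t - n₀) := by
        rw [← pow_add]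
        congr 1
        omega
      rw [h1]
      refine hZI _ (hZI _ (hTZ t (Finset.mem_insert_self t T)) _ (I.pow_mem htI _)) _ hfI
    · have hk' : l.count t < n₀ := not_le.mp hk
      have hfl : (l.filter (fun x => x ≠ t)).length + l.count t = l.length := by
        have h1 := List.length_eq_length_filter_add (l := l) (fun x => decide (x ≠ t))
        have h2 : (l.filter (fun x => !decide (x ≠ t))).length = l.count t := by
          rw [List.count_eq_length_filter]
          congr 1
          apply List.filter_congr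
          intro x _
          by_cases h : x = t
          · subst h
            simp
          · have h' : ¬ t = x := fun h'' => h h''.symm
            simp [h, h']
        rw [h2] at h1
        omega
      have hcard : (insert t T).card = T.card + 1 := Finset.card_insert_of_notMem ht
      rw [hcard] at hlen
      have hlen' : T.card * n₀ ≤ (l.filter (fun x => x ≠ t)).length := by
        have : (T.card + 1) * n₀ = T.card * n₀ + n₀ := by ring
        omega
      have hpos' : 0 < (l.filter (fun x => x ≠ t)).length := by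
        have : (T.card + 1) * n₀ = T.card * n₀ + n₀ := by ring
        omega
      have hmem : ∀ x ∈ l.filter (fun x => x ≠ t), x ∈ T := by
        intro x hx
        have h1 := hl x (List.mem_of_mem_filter hx)
        have h2 : x ≠ t := by simpa using (List.mem_filter.mp hx).2
        exact Finset.mem_of_mem_insert_of_ne h1 h2
      have := ih (fun t' ht' => hTI t' (Finset.mem_insert_of_mem ht'))
        (fun t' ht' => hTZ t' (Finset.mem_insert_of_mem ht'))
        (fun a ha b hb => hTc a (Finset.mem_insert_of_mem ha) b (Finset.mem_insert_of_mem hb))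
        _ hmem hpos' hlen'
      exact hIZ _ (I.pow_mem htI _) _ this

/-- Expanding a power of a sum along words. -/
theorem mul_pow_mem [Fintype Γ] (e : 𝔄) (he : e = ∑ γ, c γ) :
    ∀ (L : ℕ) (u : List Γ), (∀ w : List Γ, w.length = u.length + L → wordProd c w ∈ Z) →
      wordProd c u * e ^ L ∈ Z := by
  intro L
  induction L with
  | zero =>
    intro u h
    rw [pow_zero, mul_one]
    exact h u rfl
  | succ L ih =>
    intro u h
    have hexp : wordProd c u * e ^ (L + 1) = ∑ γ, wordProd c u * c γ * e ^ L := by
      rw [pow_succ', ← mul_assoc]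
      nth_rewrite 1 [he]
      rw [Finset.mul_sum, Finset.sum_mul]
    rw [hexp]
    refine Z.sum_mem fun γ _ => ?_
    have h1 : wordProd c u * c γ = wordProd c (u ++ [γ]) := by
      rw [wordProd_append, wordProd_cons, wordProd_nil, mul_one]
    rw [h1]
    apply ih
    intro w hw
    apply h
    rw [hw, List.length_append, List.length_singleton]
    ring

/-- **The nilpotency argument.** -/
theorem mem_of_braided [Fintype Γ] (hIZ : ∀ a ∈ I, ∀ z ∈ Z, a * z ∈ Z)
    (hZI : ∀ z ∈ Z, ∀ a ∈ I, z * a ∈ Z) (hcI : ∀ γ, c γ ∈ I)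
    (hbr : ∀ γ δ : Γ, c γ * c δ = c (γ * δ * γ⁻¹) * c γ) (e : 𝔄) (he : e = ∑ γ, c γ)
    (hee : e * e = e)
    (hnil : ∀ s : List Γ, s ≠ [] → s.prod = 1 → s.length ≤ Fintype.card Γ →
      ∃ n : ℕ, wordProd c s ^ n ∈ Z) : e ∈ Z := by
  classical
  set m := Fintype.card Γ with hm
  have hwI : ∀ w : List Γ, wordProd c w ∈ I := by
    intro w
    unfold wordProd
    apply I.list_prod_mem
    intro x hx
    obtain ⟨γ, -, rfl⟩ := List.mem_map.mp hx
    exact hcI γ
  -- the finite set of short words of product one
  have hfin : {s : List Γ | s.length ≤ m}.Finite := List.finite_length_le Γ m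
  set F : Finset (List Γ) := hfin.toFinset.filter (fun s => s ≠ [] ∧ s.prod = 1) with hF
  have hFmem : ∀ s : List Γ, s ∈ F ↔ s.length ≤ m ∧ s ≠ [] ∧ s.prod = 1 := by
    intro s
    rw [hF, Finset.mem_filter, Set.Finite.mem_toFinset]
    rfl
  have hex : ∀ s : F, ∃ n : ℕ, wordProd c (s : List Γ) ^ n ∈ Z := by
    intro s
    obtain ⟨h1, h2, h3⟩ := (hFmem s).mp s.2
    exact hnil s h2 h3 h1
  choose nf hnf using hex
  set n₀ : ℕ := (Finset.univ.sup nf) + 1 with hn₀
  have hn₀pos : 0 < n₀ := Nat.succ_pos _
  have hpow : ∀ s ∈ F, wordProd c s ^ n₀ ∈ Z := by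
    intro s hs
    have h1 : nf ⟨s, hs⟩ ≤ n₀ := by
      have : nf ⟨s, hs⟩ ≤ Finset.univ.sup nf := Finset.le_sup (Finset.mem_univ _)
      omega
    have h2 : wordProd c s ^ n₀ = wordProd c s ^ (nf ⟨s, hs⟩) * wordProd c s ^ (n₀ - nf ⟨s, hs⟩) := by
      rw [← pow_add]
      congr 1
      omega
    rw [h2]
    exact hZI _ (hnf ⟨s, hs⟩) _ (I.pow_mem (hwI s) _)
  set T : Finset 𝔄 := F.image (wordProd c) with hT
  -- the one-letter word `[1]` lies in `F`
  have hF1 : ([1] : List Γ) ∈ F := by
    rw [hFmem]
    refine ⟨?_, by simp, by simp⟩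
    rw [List.length_singleton]
    exact Fintype.card_pos
  have hTne : 0 < T.card := Finset.card_pos.mpr ⟨_, Finset.mem_image_of_mem _ hF1⟩
  set q : ℕ := T.card * n₀ with hq
  have hqpos : 0 < q := Nat.mul_pos hTne hn₀pos
  set L : ℕ := q * m with hL
  have hmpos : 0 < m := Fintype.card_pos
  have hLpos : 0 < L := Nat.mul_pos hqpos hmpos
  -- every word of length `L` has product in `Z`
  have hword : ∀ w : List Γ, w.length = L → wordProd c w ∈ Z := by
    intro w hw
    obtain ⟨ss, w', hss, hprop, heq⟩ := extract hbr q w (by rw [hw])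
    rw [heq]
    refine hZI _ ?_ _ (hwI w')
    apply prod_mem_of_long I Z hIZ hZI n₀ hn₀pos T
    · intro t ht
      obtain ⟨s, -, rfl⟩ := Finset.mem_image.mp ht
      exact hwI s
    · intro t ht
      obtain ⟨s, hs, rfl⟩ := Finset.mem_image.mp ht
      exact hpow s hs
    · intro t ht t' ht'
      obtain ⟨s, hs, rfl⟩ := Finset.mem_image.mp ht
      obtain ⟨s', -, rfl⟩ := Finset.mem_image.mp ht'
      exact commute_wordProd hbr ((hFmem s).mp hs).2.2 s'
    · intro x hx
      obtain ⟨s, hs, rfl⟩ := List.mem_map.mp hx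
      obtain ⟨h1, h2, h3⟩ := hprop s hs
      exact Finset.mem_image_of_mem _ ((hFmem s).mpr ⟨h3, h1, h2⟩)
    · rw [List.length_map, hss]; exact hqpos
    · rw [List.length_map, hss]
  have h1 := mul_pow_mem Z e he L [] (fun w hw => hword w (by simpa using hw))
  rw [wordProd_nil, one_mul] at h1
  have h2 : e ^ L = e := by
    obtain ⟨L', hL'⟩ : ∃ L', L = L' + 1 := ⟨L - 1, by omega⟩
    rw [hL']
    exact (IsIdempotentElem.pow_succ_eq L' hee)
  rwa [h2] at h1

end Cfsg.Agent.Lib.Helper78_GradedNil
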