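import Mathlib
import Cfsg.Agent.Lib.Helper78_GroupRing
import Cfsg.Agent.Lib.Helper78_GradedNil

/-!
# The components of a class function along the cosets of a normal subgroup (helper78)

For `N` normal in `G` and a function `f` on `G`, `comp N f γ` is the element of the group algebra
with the coefficients of `f` on the coset `γ : G ⧸ N` and zero elsewhere.  For a class function the
components satisfy the braid relation `comp γ * comp δ = comp (γ δ γ⁻¹) * comp γ`.  Products of
components along a word are invariant under conjugation by `N` and supported on the coset given by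
the product of the word.  `extMA N` is extension by zero from the group algebra of `N`.
-/

set_option autoImplicit false
set_option linter.unusedSectionVars false

namespace Cfsg.Agent.Lib.Helper78_CosetComp

open Cfsg Cfsg.Agent.Lib.Helper78_LocalRing Cfsg.Agent.Lib.Helper78_Osima
  Cfsg.Agent.Lib.Helper78_ExtConv Cfsg.Agent.Lib.Helper78_GroupRing
  Cfsg.Agent.Lib.Helper78_GradedNil

universe u

variable {G : Type u} [Group G] [Fintype G] (N : Subgroup G) [hN : N.Normal]

open Classical in
/-- The component of `f` on the coset `γ`. -/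
noncomputable def comp (f : G → ℂ) (γ : G ⧸ N) : MonoidAlgebra ℂ G :=
  ofFn (fun g => if (QuotientGroup.mk g : G ⧸ N) = γ then f g else 0)

open Classical in
theorem fn_comp (f : G → ℂ) (γ : G ⧸ N) (g : G) :
    fn (comp N f γ) g = if (QuotientGroup.mk g : G ⧸ N) = γ then f g else 0 := by
  unfold comp
  rw [fn_ofFn]

theorem fn_comp_of_eq (f : G → ℂ) {γ : G ⧸ N} {g : G} (h : (QuotientGroup.mk g : G ⧸ N) = γ) :
    fn (comp N f γ) g = f g := by
  rw [fn_comp, if_pos h]

theorem fn_comp_of_ne (f : G → ℂ) {γ : G ⧸ N} {g : G} (h : (QuotientGroup.mk g : G ⧸ N) ≠ γ) :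
    fn (comp N f γ) g = 0 := by
  rw [fn_comp, if_neg h]

theorem sum_comp [Fintype (G ⧸ N)] (f : G → ℂ) : ∑ γ : G ⧸ N, comp N f γ = ofFn f := by
  classical
  apply fn_injective
  rw [fn_sum, fn_ofFn]
  funext g
  rw [Finset.sum_eq_single (QuotientGroup.mk g : G ⧸ N)]
  · exact fn_comp_of_eq N f rfl
  · intro γ _ hγ
    exact fn_comp_of_ne N f (Ne.symm hγ)
  · intro h
    exact absurd (Finset.mem_univ _) h

theorem comp_mem_Isub {M : Ideal AlgInt} (hM : M.IsPrime) {f : G → ℂ}
    (hf : ∀ g, MemLocalRing M (f g)) (γ : G ⧸ N) : comp N f γ ∈ Isub G hM := by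
  classical
  intro g
  rw [fn_comp]
  split_ifs
  · exact hf g
  · exact memLocalRing_zero hM

/-- The braid relation for the components of a class function. -/
theorem braid {f : G → ℂ} (hf : IsClassFunction G f) (γ δ : G ⧸ N) :
    comp N f γ * comp N f δ = comp N f (γ * δ * γ⁻¹) * comp N f γ := by
  classical
  apply fn_injective
  rw [fn_mul, fn_mul]
  funext g
  unfold conv
  rw [← Equiv.sum_comp ((Equiv.inv G).trans (Equiv.mulLeft g))
    (fun y => fn (comp N f (γ * δ * γ⁻¹)) y * fn (comp N f γ) (y⁻¹ * g))]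
  refine Finset.sum_congr rfl fun x _ => ?_
  simp only [Equiv.trans_apply, Equiv.inv_apply, Equiv.coe_mulLeft]
  have e1 : (g * x⁻¹)⁻¹ * g = x := by group
  rw [e1]
  by_cases hx : (QuotientGroup.mk x : G ⧸ N) = γ
  · rw [fn_comp_of_eq N f hx]
    have hcls : (QuotientGroup.mk (g * x⁻¹) : G ⧸ N) =
        γ * (QuotientGroup.mk (x⁻¹ * g) : G ⧸ N) * γ⁻¹ := by
      rw [← hx, ← QuotientGroup.mk_inv, ← QuotientGroup.mk_mul, ← QuotientGroup.mk_mul]
      congr 1
      group
    have hval : f (g * x⁻¹) = f (x⁻¹ * g) := by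
      have := hf (g * x⁻¹) x⁻¹
      rw [← this]
      congr 1
      group
    by_cases hδ : (QuotientGroup.mk (x⁻¹ * g) : G ⧸ N) = δ
    · rw [fn_comp_of_eq N f hδ, fn_comp_of_eq N f (by rw [hcls, hδ]), hval]
      ring
    · rw [fn_comp_of_ne N f hδ, fn_comp_of_ne N f (by
        rw [hcls]
        intro h
        apply hδ
        have h2 := mul_right_cancel h
        exact mul_left_cancel h2)]
      ring
  · rw [fn_comp_of_ne N f hx]
    ring

/-! ### Degrees -/

/-- The element is supported on the coset `γ`. -/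
def HasDeg (a : MonoidAlgebra ℂ G) (γ : G ⧸ N) : Prop :=
  ∀ g, fn a g ≠ 0 → (QuotientGroup.mk g : G ⧸ N) = γ

theorem hasDeg_comp (f : G → ℂ) (γ : G ⧸ N) : HasDeg N (comp N f γ) γ := by
  intro g hg
  by_contra h
  exact hg (fn_comp_of_ne N f h)

theorem hasDeg_one : HasDeg N (1 : MonoidAlgebra ℂ G) 1 := by
  classical
  intro g hg
  rw [fn_one] at hg
  by_cases h : g = 1
  · subst h
    rfl
  · simp [h] at hg

theorem hasDeg_mul {a b : MonoidAlgebra ℂ G} {γ δ : G ⧸ N} (ha : HasDeg N a γ)
    (hb : HasDeg N b δ) : HasDeg N (a * b) (γ * δ) := by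
  intro g hg
  rw [fn_mul] at hg
  unfold conv at hg
  obtain ⟨x, -, hx⟩ := Finset.exists_ne_zero_of_sum_ne_zero hg
  have h1 := ha x (left_ne_zero_of_mul hx)
  have h2 := hb _ (right_ne_zero_of_mul hx)
  rw [← h1, ← h2, ← QuotientGroup.mk_mul]
  congr 1
  group

theorem hasDeg_wordProd (c : G ⧸ N → MonoidAlgebra ℂ G) (hc : ∀ γ, HasDeg N (c γ) γ)
    (w : List (G ⧸ N)) : HasDeg N (wordProd c w) w.prod := by
  induction w with
  | nil =>
    rw [wordProd_nil, List.prod_nil]
    exact hasDeg_one N
  | cons γ w ih =>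
    rw [wordProd_cons, List.prod_cons]
    exact hasDeg_mul N (hc γ) ih

theorem fn_eq_zero_of_hasDeg_one {a : MonoidAlgebra ℂ G} (ha : HasDeg N a 1) {g : G}
    (hg : g ∉ N) : fn a g = 0 := by
  by_contra h
  have := ha g h
  rw [QuotientGroup.eq_one_iff] at this
  exact hg this

/-! ### Invariance under conjugation -/

/-- Invariance of the coefficients under conjugation by the elements of a subgroup. -/
def IsInv (S : Subgroup G) (a : MonoidAlgebra ℂ G) : Prop :=
  ∀ q ∈ S, ∀ g, fn a (q * g * q⁻¹) = fn a g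

theorem isInv_one (S : Subgroup G) : IsInv S (1 : MonoidAlgebra ℂ G) := by
  intro q _ g
  exact isCentral_one g q

theorem isInv_mul {S : Subgroup G} {a b : MonoidAlgebra ℂ G} (ha : IsInv S a) (hb : IsInv S b) :
    IsInv S (a * b) := by
  intro q hq g
  rw [fn_mul]
  exact conv_conj_invariant (ha q hq) (hb q hq) g

theorem isInv_comp {f : G → ℂ} (hf : IsClassFunction G f) (γ : G ⧸ N) :
    IsInv N (comp N f γ) := by
  classical
  intro q hq g
  rw [fn_comp, fn_comp, hf g q]
  have : (QuotientGroup.mk (q * g * q⁻¹) : G ⧸ N) = QuotientGroup.mk g := by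
    rw [QuotientGroup.mk_mul, QuotientGroup.mk_mul, QuotientGroup.mk_inv,
      (QuotientGroup.eq_one_iff q).mpr hq]
    simp
  rw [this]

theorem isInv_wordProd {S : Subgroup G} (c : G ⧸ N → MonoidAlgebra ℂ G)
    (hc : ∀ γ, IsInv S (c γ)) (w : List (G ⧸ N)) : IsInv S (wordProd c w) := by
  induction w with
  | nil =>
    rw [wordProd_nil]
    exact isInv_one S
  | cons γ w ih =>
    rw [wordProd_cons]
    exact isInv_mul (hc γ) ih

theorem isInv_mono {S S' : Subgroup G} (h : S ≤ S') {a : MonoidAlgebra ℂ G} (ha : IsInv S' a) :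
    IsInv S a := fun q hq g => ha q (h hq) g

/-! ### Multiplying a component by a function supported on `N` -/

theorem comp_conv {f ψ : G → ℂ} (hψ : ∀ g, g ∉ N → ψ g = 0) (γ : G ⧸ N) :
    comp N (conv f ψ) γ = comp N f γ * ofFn ψ := by
  classical
  apply fn_injective
  rw [fn_mul, fn_ofFn]
  funext g
  rw [fn_comp]
  unfold conv
  have key : ∀ x : G, (if (QuotientGroup.mk g : G ⧸ N) = γ then f x * ψ (x⁻¹ * g) else 0) =
      fn (comp N f γ) x * ψ (x⁻¹ * g) := by
    intro x
    by_cases hn : x⁻¹ * g ∈ N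
    · have hxg : (QuotientGroup.mk x : G ⧸ N) = QuotientGroup.mk g := QuotientGroup.eq.mpr hn
      rw [fn_comp, hxg]
      split_ifs <;> ring
    · rw [hψ _ hn]
      split_ifs <;> ring
  rw [← Finset.sum_congr rfl fun x _ => key x]
  split_ifs
  · rfl
  · rw [Finset.sum_const_zero]

/-! ### Extension by zero from the group algebra of a subgroup -/

section Ext

variable {G' : Type u} [Group G'] [Fintype G'] (H : Subgroup G') [Fintype H]

/-- Extension by zero. -/
noncomputable def extMA (a : MonoidAlgebra ℂ H) : MonoidAlgebra ℂ G' := ofFn (ext H (fn a))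

theorem fn_extMA (a : MonoidAlgebra ℂ H) : fn (extMA H a) = ext H (fn a) := by
  unfold extMA
  rw [fn_ofFn]

theorem extMA_mul (a b : MonoidAlgebra ℂ H) : extMA H (a * b) = extMA H a * extMA H b := by
  apply fn_injective
  rw [fn_mul, fn_extMA, fn_extMA, fn_extMA, fn_mul, ext_conv]

theorem extMA_one : extMA H (1 : MonoidAlgebra ℂ H) = 1 := by
  apply fn_injective
  rw [fn_extMA, fn_one', fn_one', ext_classIndicator_one]

theorem extMA_pow (a : MonoidAlgebra ℂ H) (n : ℕ) : extMA H (a ^ n) = extMA H a ^ n := by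
  induction n with
  | zero => rw [pow_zero, pow_zero, extMA_one]
  | succ n ih => rw [pow_succ, pow_succ, extMA_mul, ih]

theorem extMA_ofFn (φ : H → ℂ) : extMA H (ofFn φ) = ofFn (ext H φ) := by
  unfold extMA
  rw [fn_ofFn]

theorem extMA_mem_Zsub {M : Ideal AlgInt} (hM : M.IsPrime) {a : MonoidAlgebra ℂ H}
    (ha : a ∈ Zsub H hM) : extMA H a ∈ Zsub G' hM := by
  intro g
  rw [fn_extMA]
  by_cases hg : g ∈ H
  · rw [ext_of_mem H _ hg]
    exact ha _
  · rw [ext_of_notMem H _ hg]
    exact memLocalIdeal_zero hM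

theorem extMA_injective : Function.Injective (extMA H) := by
  intro a b h
  apply fn_injective
  funext x
  have := congrFun (congrArg fn h) (x : G')
  rwa [fn_extMA, fn_extMA, ext_coe, ext_coe] at this

/-- An element supported on `H` is the extension of its restriction. -/
theorem eq_extMA_res {z : MonoidAlgebra ℂ G'} (hz : ∀ g, g ∉ H → fn z g = 0) :
    z = extMA H (ofFn (res H (fn z))) := by
  apply fn_injective
  rw [fn_extMA, fn_ofFn]
  funext g
  by_cases hg : g ∈ H
  · rw [ext_of_mem H _ hg]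
    rfl
  · rw [ext_of_notMem H _ hg, hz g hg]

end Ext

end Cfsg.Agent.Lib.Helper78_CosetComp
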