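import Mathlib
import Cfsg.Agent.Lib.Helper1_D8Defs

/-!
# S3716 market (architect helper1), package ARITH4f

The sixth sign pattern of shape 4: the average of the two class equations is
`h (1 + 1/A + ... + 1/H + 8/I) = 9` with `h ≥ 10`, impossible.
-/

set_option autoImplicit false
set_option linter.unusedVariables false

namespace Cfsg.Agent.Lib.Helper78_D8_ARITH4f

open Cfsg Cfsg.Agent.Lib.Helper1_D8Defs

theorem arith4f (A B C D E F H I h : ℕ)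
    (hA : 0 < A) (hB : 0 < B) (hC : 0 < C) (hD : 0 < D) (hE : 0 < E) (hF : 0 < F) (hH : 0 < H) (hI : 0 < I)
    (c1 : (1 : ℤ) - F + H + I = 0)
    (c2 : (0 : ℤ) - C + D + E + I = 0)
    (c3 : (1 : ℤ) - B + E + I = 0)
    (c4 : (0 : ℤ) - A + D + H + I = 0)
    (e1 : (h : ℚ) * (1 + 4 / (A : ℚ) + 4 / (B : ℚ) - 2 / (C : ℚ) + 1 / (D : ℚ) + 1 / (E : ℚ) - 2 / (F : ℚ) + 1 / (H : ℚ) + 8 / (I : ℚ)) = 9)
    (e2 : (h : ℚ) * (1 - 2 / (A : ℚ) - 2 / (B : ℚ) + 4 / (C : ℚ) + 1 / (D : ℚ) + 1 / (E : ℚ) + 4 / (F : ℚ) + 1 / (H : ℚ) + 8 / (I : ℚ)) = 9)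
    (sq : 1 + A ^ 2 + B ^ 2 + C ^ 2 + D ^ 2 + E ^ 2 + F ^ 2 + H ^ 2 + I ^ 2 ≤ 72 * h)
    (mA : A % 9 = 4) (mB : B % 9 = 4) (mC : C % 9 = 4) (mD : D % 9 = 1) (mE : E % 9 = 1) (mF : F % 9 = 4) (mH : H % 9 = 1) (mI : I % 9 = 2)
    (hmod : h % 9 = 1) (hne : h ≠ 1)
    (lD : D ≠ 1) (lE : E ≠ 1) (lH : H ≠ 1) : False := by
  have hh : (10 : ℚ) ≤ (h : ℚ) := by
    have : 10 ≤ h := by omega
    exact_mod_cast this
  have pA : (0 : ℚ) < 1 / (A : ℚ) := by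
    have : (0 : ℚ) < A := by exact_mod_cast hA
    positivity
  have pB : (0 : ℚ) < 1 / (B : ℚ) := by
    have : (0 : ℚ) < B := by exact_mod_cast hB
    positivity
  have pC : (0 : ℚ) < 1 / (C : ℚ) := by
    have : (0 : ℚ) < C := by exact_mod_cast hC
    positivity
  have pD : (0 : ℚ) < 1 / (D : ℚ) := by
    have : (0 : ℚ) < D := by exact_mod_cast hD
    positivity
  have pE : (0 : ℚ) < 1 / (E : ℚ) := by
    have : (0 : ℚ) < E := by exact_mod_cast hE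
    positivity
  have pF : (0 : ℚ) < 1 / (F : ℚ) := by
    have : (0 : ℚ) < F := by exact_mod_cast hF
    positivity
  have pH : (0 : ℚ) < 1 / (H : ℚ) := by
    have : (0 : ℚ) < H := by exact_mod_cast hH
    positivity
  have pI : (0 : ℚ) < 1 / (I : ℚ) := by
    have : (0 : ℚ) < I := by exact_mod_cast hI
    positivity
  have key : (h : ℚ) * (1 + (1 / (A : ℚ) + 1 / (B : ℚ) + 1 / (C : ℚ) + 1 / (D : ℚ) + 1 / (E : ℚ) +
      1 / (F : ℚ) + 1 / (H : ℚ) + 8 * (1 / (I : ℚ)))) = 9 := by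
    linear_combination (1 / 2 : ℚ) * e1 + (1 / 2 : ℚ) * e2
  have hS : (0 : ℚ) < 1 / (A : ℚ) + 1 / (B : ℚ) + 1 / (C : ℚ) + 1 / (D : ℚ) + 1 / (E : ℚ) +
      1 / (F : ℚ) + 1 / (H : ℚ) + 8 * (1 / (I : ℚ)) := by linarith
  nlinarith [mul_pos (show (0 : ℚ) < h by linarith) hS]

end Cfsg.Agent.Lib.Helper78_D8_ARITH4f
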