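import Mathlib
import Cfsg.Agent.Lib.Helper1_D8Defs

/-!
# S3716 market (architect helper1), package SIGNS4

The six sign patterns of shape 4: the rows of `R4` are distinct up to sign, so all `ν' k = 1`, and the
four Frobenius–Schur equations leave six sign vectors.
-/

set_option autoImplicit false
set_option linter.unusedVariables false

namespace Cfsg.Agent.Lib.Helper78_D8_SIGNS4

open Cfsg Cfsg.Agent.Lib.Helper1_D8Defs

/-- the rows of `R4` are pairwise distinct up to sign -/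
theorem rows_distinct (k k' : Fin 8) (hne : k' ≠ k) (s s' : ℤ) (hs : s = 1 ∨ s = -1)
    (hs' : s' = 1 ∨ s' = -1) : ¬ ∀ j, s' * R4 k' j = s * R4 k j := by
  rcases hs with rfl | rfl <;> rcases hs' with rfl | rfl <;> revert k k' <;> decide

/-- a vector of length eight in coordinates -/
theorem vec8_eq (ε : Fin 8 → ℤ) (a0 a1 a2 a3 a4 a5 a6 a7 : ℤ) (h0 : ε 0 = a0) (h1 : ε 1 = a1)
    (h2 : ε 2 = a2) (h3 : ε 3 = a3) (h4 : ε 4 = a4) (h5 : ε 5 = a5) (h6 : ε 6 = a6) (h7 : ε 7 = a7) :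
    ε = ![a0, a1, a2, a3, a4, a5, a6, a7] := by
  funext k
  fin_cases k
  · exact h0
  · exact h1
  · exact h2
  · exact h3
  · exact h4
  · exact h5
  · exact h6
  · exact h7

theorem signs4 (ε ν' : Fin 8 → ℤ) (hε : ∀ k, ε k = 1 ∨ ε k = -1) (hν : ∀ k, ν' k = 0 ∨ ν' k = 1)
    (hν0 : ∀ k, ν' k = 0 → ∃ k', k' ≠ k ∧ (∀ j, ε k' * R4 k' j = ε k * R4 k j) ∧ ν' k' = 0)
    (hfs : ∀ j, (![1, 0, 1, 0] : Fin 4 → ℤ) j + ∑ k, ν' k * ε k * R4 k j = 2) :
    ε = ![1, 1, 1, 1, 1, 1, 1, -1] ∨ ε = ![1, 1, 1, 1, -1, 1, -1, 1] ∨ ε = ![1, -1, 1, -1, 1, -1, 1, 1] ∨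
    ε = ![1, -1, -1, 1, 1, 1, -1, 1] ∨ ε = ![-1, 1, 1, 1, -1, -1, 1, 1] ∨
    ε = ![-1, -1, -1, 1, 1, -1, 1, 1] := by
  have hν1 : ∀ k, ν' k = 1 := by
    intro k
    rcases hν k with h0 | h1
    · exfalso
      obtain ⟨k', hne, hrow, -⟩ := hν0 k h0
      exact rows_distinct k k' hne (ε k) (ε k') (hε k) (hε k') hrow
    · exact h1
  have g0 : ε 5 + ε 6 + ε 7 = 1 := by
    have f := hfs 0
    simp only [Fin.sum_univ_eight, hν1, one_mul] at f
    rw [show R4 0 0 = 0 from rfl, show R4 1 0 = 0 from rfl, show R4 2 0 = 0 from rfl,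
      show R4 3 0 = 0 from rfl, show R4 4 0 = 0 from rfl, show R4 5 0 = 1 from rfl,
      show R4 6 0 = 1 from rfl, show R4 7 0 = 1 from rfl,
      show (![1, 0, 1, 0] : Fin 4 → ℤ) 0 = 1 from rfl] at f
    linarith
  have g1 : ε 2 + ε 3 + ε 4 + ε 7 = 2 := by
    have f := hfs 1
    simp only [Fin.sum_univ_eight, hν1, one_mul] at f
    rw [show R4 0 1 = 0 from rfl, show R4 1 1 = 0 from rfl, show R4 2 1 = 1 from rfl,
      show R4 3 1 = 1 from rfl, show R4 4 1 = 1 from rfl, show R4 5 1 = 0 from rfl,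
      show R4 6 1 = 0 from rfl, show R4 7 1 = 1 from rfl,
      show (![1, 0, 1, 0] : Fin 4 → ℤ) 1 = 0 from rfl] at f
    linarith
  have g2 : ε 1 + ε 4 + ε 7 = 1 := by
    have f := hfs 2
    simp only [Fin.sum_univ_eight, hν1, one_mul] at f
    rw [show R4 0 2 = 0 from rfl, show R4 1 2 = 1 from rfl, show R4 2 2 = 0 from rfl,
      show R4 3 2 = 0 from rfl, show R4 4 2 = 1 from rfl, show R4 5 2 = 0 from rfl,
      show R4 6 2 = 0 from rfl, show R4 7 2 = 1 from rfl,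
      show (![1, 0, 1, 0] : Fin 4 → ℤ) 2 = 1 from rfl] at f
    linarith
  have g3 : ε 0 + ε 3 + ε 6 + ε 7 = 2 := by
    have f := hfs 3
    simp only [Fin.sum_univ_eight, hν1, one_mul] at f
    rw [show R4 0 3 = 1 from rfl, show R4 1 3 = 0 from rfl, show R4 2 3 = 0 from rfl,
      show R4 3 3 = 1 from rfl, show R4 4 3 = 0 from rfl, show R4 5 3 = 0 from rfl,
      show R4 6 3 = 1 from rfl, show R4 7 3 = 1 from rfl,
      show (![1, 0, 1, 0] : Fin 4 → ℤ) 3 = 0 from rfl] at f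
    linarith
  have e0 := hε 0
  have e1 := hε 1
  have e2 := hε 2
  have e3 := hε 3
  have e4 := hε 4
  have e5 := hε 5
  have e6 := hε 6
  have e7 := hε 7
  rcases e7 with h7 | h7 <;> rcases e6 with h6 | h6 <;> rcases e5 with h5 | h5 <;>
    first
    | (exfalso; omega)
    | (rcases e4 with h4 | h4 <;> rcases e1 with h1 | h1 <;>
        first
        | (exfalso; omega)
        | (rcases e3 with h3 | h3 <;> rcases e2 with h2 | h2 <;>
            first
            | (exfalso; omega)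
            | (rcases e0 with h0 | h0 <;>
                first
                | (exfalso; omega)
                | (rw [vec8_eq ε _ _ _ _ _ _ _ _ h0 h1 h2 h3 h4 h5 h6 h7]; decide))))

end Cfsg.Agent.Lib.Helper78_D8_SIGNS4
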