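import Mathlib
import Cfsg.Agent.Lib.Helper78_CosetComp
import Cfsg.Agent.Lib.Helper78_CentralNilp
import Cfsg.Agent.Lib.Helper78_MinMax
import Cfsg.Agent.Lib.Helper78_BrauerMap
import Cfsg.Agent.Lib.Helper16_Cover
import Cfsg.Agent.Lib.Helper77_StableCover
import Cfsg.Agent.Lib.Helper77_QuotDefect2
import Cfsg.Agent.Lib.Helper78_TransportBlocks

/-!
# Knörr's theorem for a stable block of a normal subgroup (helper78)

`N` is normal in `G`, `b` a `G`-stable block of `N` and `B` a block of `G` covering `b`.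
-/

set_option autoImplicit false
set_option linter.unusedSectionVars false

namespace Cfsg.Agent.Lib.Helper78_KnorrStable

open Cfsg Cfsg.Agent.Lib.Helper78_LocalRing Cfsg.Agent.Lib.Helper78_Osima
  Cfsg.Agent.Lib.Helper78_ExtConv Cfsg.Agent.Lib.Helper78_GroupRing
  Cfsg.Agent.Lib.Helper78_GradedNil Cfsg.Agent.Lib.Helper78_CosetComp
  Cfsg.Agent.Lib.Helper78_CentralNilp Cfsg.Agent.Lib.Helper78_CharFacts
  Cfsg.Agent.Lib.Helper78_CentralChar Cfsg.Agent.Lib.Helper78_PGroupSum
  Cfsg.Agent.Lib.Helper16_Orbit Cfsg.Agent.Lib.Helper16_Cover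

universe u

section FixedPoints

variable {G : Type u} [Group G] [Fintype G] {p : ℕ} {M : Ideal AlgInt}

/-- A sharper form of `exists_conj_fixed_ne_zero`: the fixed point can be chosen with value outside
the local ideal. -/
theorem exists_conj_fixed_not_mem (S : Subgroup G) (hS : IsPGroup p S) (hM : IsPModular p M)
    (F : G → ℂ) (hF : ∀ q ∈ S, ∀ x : G, F (q * x * q⁻¹) = F x) (hR : ∀ x, MemLocalRing M (F x))
    (hsum : ¬ MemLocalIdeal M (∑ x, F x)) :
    ∃ x : G, ¬ MemLocalIdeal M (F x) ∧ ∀ q ∈ S, q * x * q⁻¹ = x := by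
  classical
  have hMp := isPrime_of_isPModular hM
  let _ : MulAction S G := MulAction.compHom G ((MulAut.conj (G := G)).comp S.subtype)
  have hsmul : ∀ (q : S) (x : G), q • x = (q : G) * x * (q : G)⁻¹ := fun q x => rfl
  by_contra hcon
  push Not at hcon
  have h := sum_sub_sum_fixed_mem hS hM F (fun q x => by rw [hsmul]; exact hF q q.2 x) hR
  have hz : MemLocalIdeal M
      (∑ x ∈ Finset.univ.filter (fun x : G => ∀ q : S, q • x = x), F x) := by
    refine memLocalIdeal_sum hMp _ _ fun x hx => ?_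
    by_contra hne
    obtain ⟨q, hq, hqx⟩ := hcon x hne
    have := (Finset.mem_filter.mp hx).2 ⟨q, hq⟩
    rw [hsmul] at this
    exact hqx this
  apply hsum
  have := memLocalIdeal_add hMp h hz
  rwa [sub_add_cancel] at this

/-- A sharper form of `exists_centralized_of_blockCoeff`. -/
theorem exists_centralized_not_mem (hM : IsPModular p M)
    {B : Set (IrrCharacter G)} (hB : IsPBlock M B) {f : G → ℂ} (hf : IsClassFunction G f)
    (hfR : ∀ g, MemLocalRing M (f g))
    (hu : ∀ χ ∈ B, ¬ MemLocalIdeal M (omega ((χ : IrrCharacter G) : G → ℂ) f))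
    (h : G) (hh : ¬ MemLocalIdeal M (blockCoeff B h)) (S : Subgroup G) (hS : IsPGroup p S)
    (hSh : S ≤ Subgroup.centralizer ({h} : Set G)) :
    ∃ x : G, ¬ MemLocalIdeal M (f x) ∧ S ≤ Subgroup.centralizer ({x} : Set G) := by
  classical
  have hMp := isPrime_of_isPModular hM
  obtain ⟨w, hw, hwR, hconv⟩ := exists_conv_eq_blockCoeff charFacts hMp hB hf hfR hu
  have hsum : blockCoeff B h = ∑ x : G, f x * w (x⁻¹ * h) := by
    rw [← hconv, conv]
  rw [hsum] at hh
  have hinv : ∀ q ∈ S, ∀ x : G, (fun x => f x * w (x⁻¹ * h)) (q * x * q⁻¹) =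
      (fun x => f x * w (x⁻¹ * h)) x := by
    intro q hq x
    have hqh : q * h = h * q := by
      have := hSh hq
      rw [Subgroup.mem_centralizer_iff] at this
      exact (this h (Set.mem_singleton h)).symm
    show f (q * x * q⁻¹) * w ((q * x * q⁻¹)⁻¹ * h) = f x * w (x⁻¹ * h)
    rw [hf x q]
    congr 1
    have h1 : (q * x * q⁻¹)⁻¹ * h = q * (x⁻¹ * h) * q⁻¹ := by
      have : q⁻¹ * h = h * q⁻¹ := by
        calc q⁻¹ * h = q⁻¹ * (h * q) * q⁻¹ := by group
          _ = q⁻¹ * (q * h) * q⁻¹ := by rw [hqh]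
          _ = h * q⁻¹ := by group
      calc (q * x * q⁻¹)⁻¹ * h = q * x⁻¹ * (q⁻¹ * h) := by group
        _ = q * x⁻¹ * (h * q⁻¹) := by rw [this]
        _ = q * (x⁻¹ * h) * q⁻¹ := by group
    rw [h1, hw _ q]
  have hR : ∀ x : G, MemLocalRing M ((fun x => f x * w (x⁻¹ * h)) x) := by
    intro x
    exact memLocalRing_mul hMp (hfR x) (hwR _)
  obtain ⟨x, hx, hfix⟩ := exists_conj_fixed_not_mem S hS hM (fun x => f x * w (x⁻¹ * h))
    hinv hR hh
  refine ⟨x, fun hfx => hx (memLocalIdeal_mul_right hMp hfx (hwR _)), ?_⟩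
  intro q hq
  rw [Subgroup.mem_centralizer_iff]
  intro y hy
  rw [Set.mem_singleton_iff] at hy
  subst hy
  have := hfix q hq
  calc y * q = (q * y * q⁻¹) * q := by rw [this]
    _ = q * y := by group

/-- If a product of two local-integral elements invariant under the `p`-group `S` has a coefficient
outside the local ideal at an element centralized by `S`, then the first factor has a coefficient
outside the local ideal at an element centralized by `S`. -/
theorem exists_fixed_of_mul (hM : IsPModular p M) (S : Subgroup G) (hS : IsPGroup p S)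
    {a c : MonoidAlgebra ℂ G} (ha : a ∈ Isub G (isPrime_of_isPModular hM))
    (hc : c ∈ Isub G (isPrime_of_isPModular hM)) (hainv : IsInv S a) (hcinv : IsInv S c)
    {x : G} (hx : ∀ q ∈ S, q * x * q⁻¹ = x) (hne : ¬ MemLocalIdeal M (fn (a * c) x)) :
    ∃ y : G, ¬ MemLocalIdeal M (fn a y) ∧ ∀ q ∈ S, q * y * q⁻¹ = y := by
  have hMp := isPrime_of_isPModular hM
  rw [fn_mul] at hne
  unfold conv at hne
  have hinv : ∀ q ∈ S, ∀ y : G, (fun y => fn a y * fn c (y⁻¹ * x)) (q * y * q⁻¹) =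
      (fun y => fn a y * fn c (y⁻¹ * x)) y := by
    intro q hq y
    show fn a (q * y * q⁻¹) * fn c ((q * y * q⁻¹)⁻¹ * x) = fn a y * fn c (y⁻¹ * x)
    rw [hainv q hq y]
    congr 1
    have h1 : (q * y * q⁻¹)⁻¹ * x = q * (y⁻¹ * x) * q⁻¹ := by
      have hx' := hx q hq
      calc (q * y * q⁻¹)⁻¹ * x = (q * y * q⁻¹)⁻¹ * (q * x * q⁻¹) := by rw [hx']
        _ = q * (y⁻¹ * x) * q⁻¹ := by group
    rw [h1, hcinv q hq]
  obtain ⟨y, hy, hfix⟩ := exists_conj_fixed_not_mem S hS hM (fun y => fn a y * fn c (y⁻¹ * x))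
    hinv (fun y => memLocalRing_mul hMp (ha y) (hc _)) hne
  exact ⟨y, fun h => hy (memLocalIdeal_mul_right hMp h (hc _)), hfix⟩

end FixedPoints

section Stable

variable {G : Type u} [Group G] [Fintype G] {p : ℕ} {M : Ideal AlgInt}
  (N : Subgroup G) [hN : N.Normal] [Fintype N]

theorem ext_eq_extZero (F : N → ℂ) : ext N F = extZero N F := by
  funext g
  by_cases hg : g ∈ N
  · rw [ext_of_mem N F hg]
    exact (extZero_mem N F ⟨g, hg⟩).symm
  · rw [ext_of_notMem N F hg, extZero_not_mem N F hg]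

variable {b : Set (IrrCharacter N)} {B : Set (IrrCharacter G)}

/-- Step A: the central characters of `B` take the value `1` on the idempotent of `b`. -/
theorem omega_ext_blockCoeff (hM : M.IsPrime) (hb : IsPBlock M b)
    (hst : ∀ x : G, cj N x (blockCoeff b) = blockCoeff b) (hB : IsPBlock M B)
    (hcov : ∃ χ ∈ B, ∃ θ ∈ b, classInner (fun n : N => (χ : G → ℂ) n) (θ : N → ℂ) ≠ 0) :
    ∀ χ ∈ B, omega (χ : G → ℂ) (ext N (blockCoeff b)) = 1 := by
  classical
  obtain ⟨χ₀, hχ₀, θ₀, hθ₀, h0⟩ := hcov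
  rw [ext_eq_extZero]
  have hFR : ∀ n, MemLocalRing M (blockCoeff b n) := fun n => osima_block' hM hb n
  have h1 : omega (χ₀ : G → ℂ) (extZero N (blockCoeff b)) = 1 := by
    rw [omega_extZero_eq N χ₀ θ₀ h0 _ hst, omega_blockCoeff charFacts b θ₀,
      Set.indicator_of_mem hθ₀]
  intro χ hχ
  obtain ⟨θ', hθ'⟩ := Cfsg.Agent.Lib.Helper77_StableCover.exists_under N χ
  have h2 : omega (χ : G → ℂ) (extZero N (blockCoeff b)) =
      b.indicator (fun _ => (1 : ℂ)) θ' := by
    rw [omega_extZero_eq N χ θ' hθ' _ hst, omega_blockCoeff charFacts b θ']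
  by_cases hθb : θ' ∈ b
  · rw [h2, Set.indicator_of_mem hθb]
  · exfalso
    rw [Set.indicator_of_notMem hθb] at h2
    have h3 := memLocalIdeal_omega_extZero_sub N hM (isPBlock_sameBlock hM hB hχ₀ hχ)
      (blockCoeff b) hst hFR
    rw [h1, h2, sub_zero] at h3
    exact not_memLocalIdeal_one hM h3

/-- Step B: `e_B e_b = e_B`. -/
theorem conv_blockCoeff_ext (hM : M.IsPrime) (hb : IsPBlock M b)
    (hst : ∀ x : G, cj N x (blockCoeff b) = blockCoeff b) (hB : IsPBlock M B)
    (hcov : ∃ χ ∈ B, ∃ θ ∈ b, classInner (fun n : N => (χ : G → ℂ) n) (θ : N → ℂ) ≠ 0) :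
    conv (blockCoeff B) (ext N (blockCoeff b)) = blockCoeff B := by
  classical
  have hcl : IsClassFunction G (ext N (blockCoeff b)) := by
    rw [ext_eq_extZero]
    exact extZero_isClassFunction N _ hst
  refine eq_of_omega_eq charFacts (conv_isClassFunction (blockCoeff_isClassFunction B) hcl)
    (blockCoeff_isClassFunction B) ?_
  intro χ
  rw [omega_conv χ.2 _ hcl, omega_blockCoeff charFacts B χ]
  by_cases hχ : χ ∈ B
  · rw [Set.indicator_of_mem hχ, omega_ext_blockCoeff N hM hb hst hB hcov χ hχ, mul_one]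
  · rw [Set.indicator_of_notMem hχ, zero_mul]


/-- Step C: some product of components along a nonempty word with product `1` has central
character values outside the local ideal on `b`. -/
theorem exists_word (hM : IsPModular p M) (hb : IsPBlock M b)
    (hst : ∀ x : G, cj N x (blockCoeff b) = blockCoeff b) (hB : IsPBlock M B)
    (hcov : ∃ χ ∈ B, ∃ θ ∈ b, classInner (fun n : N => (χ : G → ℂ) n) (θ : N → ℂ) ≠ 0) :
    ∃ s : List (G ⧸ N), s ≠ [] ∧ s.prod = 1 ∧ ∃ θ ∈ b, ¬ MemLocalIdeal M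
      (omega (θ : N → ℂ) (res N (fn (wordProd (comp N (blockCoeff B)) s)))) := by
  classical
  have hMp := isPrime_of_isPModular hM
  have : Fintype (G ⧸ N) := Fintype.ofFinite _
  by_contra hcon
  push Not at hcon
  set c : G ⧸ N → MonoidAlgebra ℂ G := comp N (blockCoeff B) with hc
  have hBcl : IsClassFunction G (blockCoeff B) := blockCoeff_isClassFunction B
  have hcI : ∀ γ, c γ ∈ Isub G hMp := fun γ => comp_mem_Isub N hMp (osima_block' hMp hB) γ
  have hbr : ∀ γ δ : G ⧸ N, c γ * c δ = c (γ * δ * γ⁻¹) * c γ := braid N hBcl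
  have he : ofFn (blockCoeff B) = ∑ γ, c γ := (sum_comp N _).symm
  have hee : ofFn (blockCoeff B) * ofFn (blockCoeff B) = ofFn (blockCoeff B) := by
    rw [← ofFn_conv, Cfsg.Agent.Lib.Helper78_AlgHom.conv_blockCoeff_self charFacts]
  have hsupp : ∀ g, g ∉ N → ext N (blockCoeff b) g = 0 := fun g hg => ext_of_notMem N _ hg
  have hcE : ∀ γ, c γ * ofFn (ext N (blockCoeff b)) = c γ := by
    intro γ
    rw [hc, ← comp_conv N hsupp γ, conv_blockCoeff_ext N hMp hb hst hB hcov]
  have hwI : ∀ w : List (G ⧸ N), wordProd c w ∈ Isub G hMp := by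
    intro w
    unfold wordProd
    apply (Isub G hMp).list_prod_mem
    intro x hx
    obtain ⟨γ, -, rfl⟩ := List.mem_map.mp hx
    exact hcI γ
  have hnil : ∀ s : List (G ⧸ N), s ≠ [] → s.prod = 1 → s.length ≤ Fintype.card (G ⧸ N) →
      ∃ n : ℕ, wordProd c s ^ n ∈ Zsub G hMp := by
    intro s hs hs1 _
    set z := wordProd c s with hz
    have hzdeg : HasDeg N z 1 := by
      have := hasDeg_wordProd N c (fun γ => hasDeg_comp N _ γ) s
      rwa [hs1] at this
    have hzsupp : ∀ g, g ∉ N → fn z g = 0 := fun g hg => fn_eq_zero_of_hasDeg_one N hzdeg hg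
    have hzinv : IsInv N z := isInv_wordProd N c (fun γ => isInv_comp N hBcl γ) s
    have hzI : z ∈ Isub G hMp := hwI s
    set A : MonoidAlgebra ℂ N := ofFn (res N (fn z)) with hA
    have hzA : z = extMA N A := eq_extMA_res N hzsupp
    have hAc : IsCentral A := by
      unfold IsCentral
      rw [hA, fn_ofFn]
      exact res_isClassFunction N hzinv
    have hAI : A ∈ Isub N hMp := by
      intro x
      rw [hA, fn_ofFn]
      exact hzI x
    have hzE : z * ofFn (ext N (blockCoeff b)) = z := by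
      rcases List.eq_nil_or_concat s with h | ⟨L, γ, h⟩
      · exact absurd h hs
      · rw [hz, h, List.concat_eq_append, wordProd_append, wordProd_cons, wordProd_nil, mul_one,
          mul_assoc, hcE]
    have hAE : A * ofFn (blockCoeff b) = A := by
      apply extMA_injective N
      rw [extMA_mul, ← hzA, extMA_ofFn, hzE]
    have hω : ∀ θ ∈ b, MemLocalIdeal M (Om (θ : N → ℂ) A) := by
      intro θ hθ
      unfold Om
      rw [hA, fn_ofFn]
      exact hcon s hs hs1 θ hθ
    obtain ⟨n, hn⟩ := central_nilpotent hMp hb hAc hAI hAE hω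
    refine ⟨n, ?_⟩
    rw [hzA, ← extMA_pow]
    exact extMA_mem_Zsub N hMp hn
  have hmem := mem_of_braided (Isub G hMp) (Zsub G hMp) (Isub_mul_Zsub hMp) (Zsub_mul_Isub hMp)
    hcI hbr _ he hee hnil
  obtain ⟨χ, hχ⟩ := isPBlock_nonempty hMp hB
  have h1 : omega (χ : G → ℂ) (blockCoeff B) = 1 := by
    rw [omega_blockCoeff charFacts B χ, Set.indicator_of_mem hχ]
  have h2 : MemLocalIdeal M (omega (χ : G → ℂ) (blockCoeff B)) := by
    refine Cfsg.Agent.Lib.Helper78_BrauerMap.memLocalIdeal_omega_of_pointwise hMp χ.2 hBcl ?_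
    intro g
    have := hmem g
    rwa [fn_ofFn] at this
  rw [h1] at h2
  exact not_memLocalIdeal_one hMp h2


/-- Step D: some element centralized by a defect group of `b` has idempotent coefficient outside the
local ideal. -/
theorem exists_blockCoeff_not_mem [Fact p.Prime] (hM : IsPModular p M) (hb : IsPBlock M b)
    (hst : ∀ x : G, cj N x (blockCoeff b) = blockCoeff b) (hB : IsPBlock M B)
    (hcov : ∃ χ ∈ B, ∃ θ ∈ b, classInner (fun n : N => (χ : G → ℂ) n) (θ : N → ℂ) ≠ 0)
    {Q : Subgroup G} (hQN : Q ≤ N) (hQ : IsDefectGroup p M b (Q.subgroupOf N)) :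
    ∃ y : G, ¬ MemLocalIdeal M (blockCoeff B y) ∧ Q ≤ Subgroup.centralizer ({y} : Set G) := by
  classical
  have hMp := isPrime_of_isPModular hM
  obtain ⟨s, hs, hs1, θ, hθ, hne⟩ := exists_word N hM hb hst hB hcov
  set c : G ⧸ N → MonoidAlgebra ℂ G := comp N (blockCoeff B) with hc
  have hBcl : IsClassFunction G (blockCoeff B) := blockCoeff_isClassFunction B
  have hcI : ∀ γ, c γ ∈ Isub G hMp := fun γ => comp_mem_Isub N hMp (osima_block' hMp hB) γ
  have hwI : ∀ w : List (G ⧸ N), wordProd c w ∈ Isub G hMp := by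
    intro w
    unfold wordProd
    apply (Isub G hMp).list_prod_mem
    intro x hx
    obtain ⟨γ, -, rfl⟩ := List.mem_map.mp hx
    exact hcI γ
  have hwinv : ∀ w : List (G ⧸ N), IsInv N (wordProd c w) :=
    fun w => isInv_wordProd N c (fun γ => isInv_comp N hBcl γ) w
  set z := wordProd c s with hz
  set ζ : N → ℂ := res N (fn z) with hζ
  have hζcl : IsClassFunction N ζ := res_isClassFunction N (hwinv s)
  have hζR : ∀ x, MemLocalRing M (ζ x) := fun x => hwI s x
  have hu : ∀ θ' ∈ b, ¬ MemLocalIdeal M (omega ((θ' : IrrCharacter N) : N → ℂ) ζ) := by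
    intro θ' hθ' hmem
    apply hne
    have h1 := memLocalIdeal_omega_sub hMp (isIrrCharacter_isClassFunction θ'.2)
      (isIrrCharacter_isClassFunction θ.2) (isPBlock_sameBlock hMp hb hθ' hθ) hζcl hζR
    have h2 := memLocalIdeal_sub hMp hmem h1
    rwa [sub_sub_cancel] at h2
  obtain ⟨h, hh, D, hQD⟩ := hQ
  have hS : IsPGroup p (Q.subgroupOf N) := by
    rw [hQD]
    exact Cfsg.Agent.Lib.Helper78_MinMax.isPGroup_map_sylow _ D
  have hSh : Q.subgroupOf N ≤ Subgroup.centralizer ({h} : Set N) := by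
    rw [hQD]
    exact Cfsg.Agent.Lib.Helper78_MinMax.map_sylow_le _ D
  obtain ⟨x, hx, hSx⟩ := exists_centralized_not_mem hM hb hζcl hζR hu h hh.2.1
    (Q.subgroupOf N) hS hSh
  have hQp : IsPGroup p Q := by
    have h1 := hS.map N.subtype
    rwa [Subgroup.map_subgroupOf_eq_of_le hQN] at h1
  have hQx : ∀ q ∈ Q, q * (x : G) * q⁻¹ = x := by
    intro q hq
    have h1 : (⟨q, hQN hq⟩ : N) ∈ Q.subgroupOf N := by
      rw [Subgroup.mem_subgroupOf]
      exact hq
    have h2 := hSx h1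
    rw [Subgroup.mem_centralizer_iff] at h2
    have h3 := h2 x (Set.mem_singleton x)
    have h4 : (x : G) * q = q * (x : G) := congrArg Subtype.val h3
    calc q * (x : G) * q⁻¹ = (x : G) * q * q⁻¹ := by rw [h4]
      _ = x := by group
  obtain ⟨γ, s', hs'⟩ := List.exists_cons_of_ne_nil hs
  have hzeq : z = c γ * wordProd c s' := by rw [hz, hs', wordProd_cons]
  have hne' : ¬ MemLocalIdeal M (fn (c γ * wordProd c s') (x : G)) := by
    rw [← hzeq]
    exact hx
  obtain ⟨y, hy, hfix⟩ := exists_fixed_of_mul hM Q hQp (hcI γ) (hwI s')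
    (isInv_mono hQN (isInv_comp N hBcl γ)) (isInv_mono hQN (hwinv s')) hQx hne'
  refine ⟨y, ?_, ?_⟩
  · intro hmem
    apply hy
    rw [hc, fn_comp]
    split_ifs
    · exact hmem
    · exact memLocalIdeal_zero hMp
  · intro q hq
    rw [Subgroup.mem_centralizer_iff]
    intro k hk
    rw [Set.mem_singleton_iff] at hk
    subst hk
    have := hfix q hq
    calc k * q = (q * k * q⁻¹) * q := by rw [this]
      _ = q * k := by group

/-- Step E: the intersection of a defect group of `B` with `N` lies in an `N`-conjugate of a defect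
group of `b`. -/
theorem inf_le_conj [Fact p.Prime] (hM : IsPModular p M) (hb : IsPBlock M b)
    (hst : ∀ x : G, cj N x (blockCoeff b) = blockCoeff b) (hB : IsPBlock M B)
    (hcov : ∃ χ ∈ B, ∃ θ ∈ b, classInner (fun n : N => (χ : G → ℂ) n) (θ : N → ℂ) ≠ 0)
    {Q : Subgroup G} (hQ : IsDefectGroup p M b (Q.subgroupOf N))
    {P : Subgroup G} (hP : IsDefectGroup p M B P) :
    ∃ n : G, P ⊓ N ≤ Q.map (MulAut.conj n).toMonoidHom := by
  classical
  have hMp := isPrime_of_isPModular hM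
  have hPp := (Cfsg.Agent.Lib.Helper77_CentralDefect.card_of_isDefectGroup hM hB hP).1
  obtain ⟨g₀, hg₀, D₀, rfl⟩ := hP
  have hfcl : IsClassFunction G (ext N (blockCoeff b)) := by
    rw [ext_eq_extZero]
    exact extZero_isClassFunction N _ hst
  have hfR : ∀ g, MemLocalRing M (ext N (blockCoeff b) g) :=
    ext_memLocalRing hMp N (fun n => osima_block' hMp hb n)
  have hu : ∀ χ ∈ B, ¬ MemLocalIdeal M
      (omega ((χ : IrrCharacter G) : G → ℂ) (ext N (blockCoeff b))) := by
    intro χ hχ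
    rw [omega_ext_blockCoeff N hMp hb hst hB hcov χ hχ]
    exact not_memLocalIdeal_one hMp
  obtain ⟨x, hx, hPx⟩ := exists_centralized_not_mem hM hB hfcl hfR hu g₀ hg₀.2.1 _ hPp
    (Cfsg.Agent.Lib.Helper78_MinMax.map_sylow_le _ D₀)
  have hxN : x ∈ N := by
    by_contra hxN
    apply hx
    rw [ext_of_notMem N _ hxN]
    exact memLocalIdeal_zero hMp
  rw [ext_of_mem N _ hxN] at hx
  obtain ⟨h, hh, D, hQD⟩ := hQ
  set P : Subgroup G := (D₀ : Subgroup (Subgroup.centralizer ({g₀} : Set G))).map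
    (Subgroup.centralizer ({g₀} : Set G)).subtype with hPdef
  have hSp : IsPGroup p ((P ⊓ N).subgroupOf N) := by
    have h1 : IsPGroup p (P ⊓ N : Subgroup G) := hPp.to_le inf_le_left
    exact h1.comap_subtype
  have hSc : (P ⊓ N).subgroupOf N ≤ Subgroup.centralizer ({(⟨x, hxN⟩ : N)} : Set N) := by
    intro y hy
    rw [Subgroup.mem_subgroupOf] at hy
    have h1 := hPx hy.1
    rw [Subgroup.mem_centralizer_iff] at h1 ⊢
    intro k hk
    rw [Set.mem_singleton_iff] at hk
    subst hk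
    apply Subtype.ext
    exact h1 x (Set.mem_singleton x)
  obtain ⟨n, hn⟩ := Cfsg.Agent.Lib.Helper78_MinMax.le_conj_of_blockCoeff_not_mem hM hb hh D
    ⟨x, hxN⟩ hx _ hSp hSc
  refine ⟨(n : G), ?_⟩
  intro y hy
  have hyN : y ∈ N := hy.2
  have h1 : (⟨y, hyN⟩ : N) ∈ (P ⊓ N).subgroupOf N := by
    rw [Subgroup.mem_subgroupOf]
    exact hy
  have h2 := hn h1
  rw [← hQD] at h2
  obtain ⟨q, hq, hqy⟩ := h2
  rw [SetLike.mem_coe, Subgroup.mem_subgroupOf] at hq
  refine ⟨(q : G), hq, ?_⟩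
  have := congrArg Subtype.val hqy
  simpa using this

/-- Step F: a conjugate of any defect group of `B` meets `N` in the given defect group of `b`. -/
theorem exists_conj_inf_eq [Fact p.Prime] (hM : IsPModular p M) (hb : IsPBlock M b)
    (hst : ∀ x : G, cj N x (blockCoeff b) = blockCoeff b) (hB : IsPBlock M B)
    (hcov : ∃ χ ∈ B, ∃ θ ∈ b, classInner (fun n : N => (χ : G → ℂ) n) (θ : N → ℂ) ≠ 0)
    {Q : Subgroup G} (hQN : Q ≤ N) (hQ : IsDefectGroup p M b (Q.subgroupOf N))
    {P : Subgroup G} (hP : IsDefectGroup p M B P) :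
    ∃ t : G, P.map (MulAut.conj t).toMonoidHom ⊓ N = Q := by
  classical
  obtain ⟨y, hy, hQy⟩ := exists_blockCoeff_not_mem N hM hb hst hB hcov hQN hQ
  have hQp : IsPGroup p Q := by
    have h1 := (Cfsg.Agent.Lib.Helper77_CentralDefect.card_of_isDefectGroup hM hb hQ).1
    have h2 := h1.map N.subtype
    rwa [Subgroup.map_subgroupOf_eq_of_le hQN] at h2
  obtain ⟨n, hn⟩ := inf_le_conj N hM hb hst hB hcov hQ hP
  obtain ⟨g₀, hg₀, D₀, rfl⟩ := hP
  obtain ⟨t, ht⟩ := Cfsg.Agent.Lib.Helper78_MinMax.le_conj_of_blockCoeff_not_mem hM hB hg₀ D₀ y hy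
    Q hQp hQy
  refine ⟨t, ?_⟩
  set P : Subgroup G := (D₀ : Subgroup (Subgroup.centralizer ({g₀} : Set G))).map
    (Subgroup.centralizer ({g₀} : Set G)).subtype with hPdef
  symm
  apply Subgroup.eq_of_le_of_card_ge (le_inf ht hQN)
  have h1 : (P.map (MulAut.conj t).toMonoidHom ⊓ N).map (MulAut.conj t⁻¹).toMonoidHom ≤ P ⊓ N := by
    rintro _ ⟨x, ⟨⟨x', hx', rfl⟩, hxN⟩, rfl⟩
    have e : (MulAut.conj t⁻¹).toMonoidHom ((MulAut.conj t).toMonoidHom x') = x' := by
      simp only [MulEquiv.coe_toMonoidHom, MulAut.conj_apply]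
      group
    refine ⟨?_, ?_⟩
    · rw [e]; exact hx'
    · rw [e]
      have h2 : (MulAut.conj t).toMonoidHom x' ∈ N := hxN
      have h3 := hN.conj_mem _ h2 t⁻¹
      simp only [MulEquiv.coe_toMonoidHom, MulAut.conj_apply] at h3
      have e2 : t⁻¹ * (t * x' * t⁻¹) * t⁻¹⁻¹ = x' := by group
      rwa [e2] at h3
  calc Nat.card ↥(P.map (MulAut.conj t).toMonoidHom ⊓ N)
      = Nat.card ↥((P.map (MulAut.conj t).toMonoidHom ⊓ N).map (MulAut.conj t⁻¹).toMonoidHom) :=
        (Subgroup.card_map_of_injective (MulAut.conj t⁻¹).injective).symm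
    _ ≤ Nat.card ↥(P ⊓ N) := Subgroup.card_le_of_le h1
    _ ≤ Nat.card ↥(Q.map (MulAut.conj n).toMonoidHom) := Subgroup.card_le_of_le hn
    _ = Nat.card Q := Subgroup.card_map_of_injective (MulAut.conj n).injective


/-! ### The theorems for a stable block -/

theorem cj_blockCoeff_of_stable (hst : ∀ x : G, ∀ θ ∈ b, cjIrr N x θ ∈ b) (x : G) :
    cj N x (blockCoeff b) = blockCoeff b := by
  have h1 : gClosure N b = b := by
    apply Set.Subset.antisymm
    · rintro φ ⟨y, θ, hθ, h⟩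
      have h2 : cjIrr N y θ = φ := Subtype.ext h.symm
      rw [← h2]
      exact hst y θ hθ
    · exact subset_gClosure N b
  have h2 := cj_covF N b x
  unfold covF at h2
  rwa [h1] at h2

/-- **Knörr's theorem, stable case, existence form.** -/
theorem knorr_stable_exists [Fact p.Prime] (hM : IsPModular p M) (hb : IsPBlock M b)
    (hst : ∀ x : G, ∀ θ ∈ b, cjIrr N x θ ∈ b) (hB : IsPBlock M B)
    (hcov : ∃ χ ∈ B, ∃ θ ∈ b, classInner (fun n : N => (χ : G → ℂ) n) (θ : N → ℂ) ≠ 0)
    {Q : Subgroup G} (hQN : Q ≤ N) (hQ : IsDefectGroup p M b (Q.subgroupOf N)) :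
    ∃ P : Subgroup G, IsDefectGroup p M B P ∧ P ⊓ N = Q := by
  have hMp := isPrime_of_isPModular hM
  obtain ⟨g, hg⟩ := exists_isDefectClass' hMp hB
  obtain ⟨D⟩ : Nonempty (Sylow p (Subgroup.centralizer ({g} : Set G))) := inferInstance
  have hP₀ : IsDefectGroup p M B ((D : Subgroup (Subgroup.centralizer ({g} : Set G))).map
      (Subgroup.centralizer ({g} : Set G)).subtype) := ⟨g, hg, D, rfl⟩
  obtain ⟨t, ht⟩ := exists_conj_inf_eq N hM hb (cj_blockCoeff_of_stable N hst) hB hcov hQN hQ hP₀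
  exact ⟨_, Cfsg.Agent.Lib.Helper77_QuotDefect2.isDefectGroup_map_conj hM hB hP₀ t, ht⟩

open Cfsg.Agent.Lib.Helper78_TransportBlocks Cfsg.Agent.Lib.Helper78_Transport in
/-- **Knörr's theorem, stable case, intersection form.** -/
theorem knorr_stable_inf [Fact p.Prime] (hM : IsPModular p M) (hb : IsPBlock M b)
    (hst : ∀ x : G, ∀ θ ∈ b, cjIrr N x θ ∈ b) (hB : IsPBlock M B)
    (hcov : ∃ χ ∈ B, ∃ θ ∈ b, classInner (fun n : N => (χ : G → ℂ) n) (θ : N → ℂ) ≠ 0)
    {P : Subgroup G} (hP : IsDefectGroup p M B P) :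
    IsDefectGroup p M b ((P ⊓ N).subgroupOf N) := by
  have hMp := isPrime_of_isPModular hM
  obtain ⟨h, hh⟩ := exists_isDefectClass' hMp hb
  obtain ⟨D⟩ : Nonempty (Sylow p (Subgroup.centralizer ({h} : Set N))) := inferInstance
  set Q' : Subgroup N := (D : Subgroup (Subgroup.centralizer ({h} : Set N))).map
      (Subgroup.centralizer ({h} : Set N)).subtype with hQ'
  have hQ'd : IsDefectGroup p M b Q' := ⟨h, hh, D, rfl⟩
  set Q : Subgroup G := Q'.map N.subtype with hQdef
  have hQN : Q ≤ N := by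
    rintro _ ⟨x, -, rfl⟩
    exact x.2
  have hQsub : Q.subgroupOf N = Q' := by
    ext x
    rw [Subgroup.mem_subgroupOf, hQdef, Subgroup.mem_map]
    constructor
    · rintro ⟨y, hy, hyx⟩
      have : y = x := Subtype.ext hyx
      rwa [← this]
    · intro hx
      exact ⟨x, hx, rfl⟩
  have hQd : IsDefectGroup p M b (Q.subgroupOf N) := by rw [hQsub]; exact hQ'd
  obtain ⟨t, ht⟩ := exists_conj_inf_eq N hM hb (cj_blockCoeff_of_stable N hst) hB hcov hQN hQd hP
  set φ : N ≃* N := (MulAut.conjNormal t : MulAut N) with hφ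
  have hφapply : ∀ n : N, ((φ n : N) : G) = t * (n : G) * t⁻¹ := by
    intro n
    rw [hφ, MulAut.conjNormal_apply]
  have h1 := isDefectGroup_mapBlock (p := p) (M := M) φ hQ'd
  have hmap : mapBlock φ b = b := by
    have hirr : ∀ θ : IrrCharacter N, irrComp φ θ = cjIrr N t⁻¹ θ := by
      intro θ
      apply Subtype.ext
      funext n
      show (θ : N → ℂ) (φ n) = cj N t⁻¹ (θ : N → ℂ) n
      unfold cj
      rw [inv_inv]
    apply Set.Subset.antisymm
    · rintro _ ⟨θ, hθ, rfl⟩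
      rw [hirr]
      exact hst t⁻¹ θ hθ
    · intro θ hθ
      refine ⟨cjIrr N t θ, hst t θ hθ, ?_⟩
      rw [hirr]
      exact Subtype.ext (cj_inv_cj N t θ)
  rw [hmap] at h1
  have heq : Q'.map (φ.symm : N →* N) = (P ⊓ N).subgroupOf N := by
    ext n
    rw [Subgroup.mem_subgroupOf, Subgroup.mem_map]
    constructor
    · rintro ⟨q, hq, rfl⟩
      have hqQ : (q : G) ∈ Q := ⟨q, hq, rfl⟩
      rw [← ht] at hqQ
      obtain ⟨x, hx, hxq⟩ := hqQ.1
      have e : ((φ.symm q : N) : G) = x := by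
        have h2 := hφapply (φ.symm q)
        rw [MulEquiv.apply_symm_apply] at h2
        have h3 : t * x * t⁻¹ = (q : G) := by simpa using hxq
        rw [← h3] at h2
        have h4 : t⁻¹ * (t * x * t⁻¹) * t = t⁻¹ * (t * ((φ.symm q : N) : G) * t⁻¹) * t := by
          rw [h2]
        have e1 : t⁻¹ * (t * x * t⁻¹) * t = x := by group
        have e2 : t⁻¹ * (t * ((φ.symm q : N) : G) * t⁻¹) * t = ((φ.symm q : N) : G) := by group
        rw [e1, e2] at h4
        exact h4.symm
      refine ⟨?_, (φ.symm q).2⟩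
      show ((φ.symm q : N) : G) ∈ P
      rw [e]
      exact hx
    · intro hn
      have hmem : ((φ n : N) : G) ∈ P.map (MulAut.conj t).toMonoidHom ⊓ N := by
        refine ⟨⟨(n : G), hn.1, ?_⟩, (φ n).2⟩
        rw [hφapply]
        simp
      rw [ht] at hmem
      obtain ⟨q, hq, hqn⟩ := hmem
      have hqn' : q = φ n := Subtype.ext hqn
      refine ⟨φ n, ?_, ?_⟩
      · rw [← hqn']
        exact hq
      · show φ.symm (φ n) = n
        rw [MulEquiv.symm_apply_apply]
  rw [heq] at h1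
  exact h1

end Stable

end Cfsg.Agent.Lib.Helper78_KnorrStable
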