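import Mathlib
import Cfsg.Agent.Lib.Helper78_KnorrStable
import Cfsg.Agent.Lib.Helper77_FongReynolds2
import Cfsg.Agent.Lib.Helper78_Deficiency

/-!
# Knörr's theorem (helper78)

`knorr_general`: `N` normal in `G`, `b` a block of `N` with defect group `Q`, `B` a block of `G`
covering `b`.  Then `B` has a defect group `P` with `P ⊓ N = Q`, and `P` stabilizes `b`.
(Reduction to the stable case `Helper78_KnorrStable` by the Fong–Reynolds correspondence.)
-/

set_option autoImplicit false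
set_option linter.unusedSectionVars false

namespace Cfsg.Agent.Lib.Helper78_KnorrGeneral

open Cfsg Cfsg.Agent.Lib.Helper78_LocalRing Cfsg.Agent.Lib.Helper78_CharFacts
  Cfsg.Agent.Lib.Helper78_CentralChar
  Cfsg.Agent.Lib.Helper16_Orbit Cfsg.Agent.Lib.Helper16_Cover
  Cfsg.Agent.Lib.Helper78_Transport Cfsg.Agent.Lib.Helper78_TransportBlocks
  Cfsg.Agent.Lib.Helper77_NormalPair Cfsg.Agent.Lib.Helper77_InvHeightZero
  Cfsg.Agent.Lib.Helper77_FongReynolds Cfsg.Agent.Lib.Helper77_FongReynolds2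
  Cfsg.Agent.Lib.Helper78_KnorrStable

universe u

variable {G : Type u} [Group G] [Fintype G] {p : ℕ} {M : Ideal AlgInt}
  (N : Subgroup G) [hN : N.Normal] [Fintype N]

theorem cjIrr_one (θ : IrrCharacter N) : cjIrr N (1 : G) θ = θ :=
  Subtype.ext (cj_one N _)

theorem cjIrr_mul (x y : G) (θ : IrrCharacter N) :
    cjIrr N (x * y) θ = cjIrr N x (cjIrr N y θ) :=
  Subtype.ext (cj_mul N x y _)

theorem cjIrr_inv_cjIrr (x : G) (θ : IrrCharacter N) : cjIrr N x⁻¹ (cjIrr N x θ) = θ :=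
  Subtype.ext (cj_inv_cj N x _)

theorem cjIrr_cjIrr_inv (x : G) (θ : IrrCharacter N) : cjIrr N x (cjIrr N x⁻¹ θ) = θ :=
  Subtype.ext (cj_cj_inv N x _)

/-- The stabilizer of a set of irreducible characters of `N`. -/
def blockStab (b : Set (IrrCharacter N)) : Subgroup G where
  carrier := {g | ∀ θ, θ ∈ b ↔ cjIrr N g θ ∈ b}
  mul_mem' := by
    intro g h hg hh θ
    rw [cjIrr_mul]
    exact (hh θ).trans (hg _)
  one_mem' := by
    intro θ
    rw [cjIrr_one]
  inv_mem' := by
    intro g hg θ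
    have := hg (cjIrr N g⁻¹ θ)
    rw [cjIrr_cjIrr_inv] at this
    exact this.symm

theorem mem_blockStab (b : Set (IrrCharacter N)) (g : G) :
    g ∈ blockStab N b ↔ ∀ θ ∈ b, cjIrr N g θ ∈ b := by
  classical
  constructor
  · intro hg θ hθ
    exact (hg θ).mp hθ
  · intro h θ
    refine ⟨h θ, fun hθ => ?_⟩
    have hfin : Finite (IrrCharacter N) := (charFacts (G := N)).finite
    let f : b → b := fun θ => ⟨cjIrr N g θ, h θ θ.2⟩
    have hinj : Function.Injective f := by
      intro θ₁ θ₂ h12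
      have := congrArg Subtype.val h12
      exact Subtype.ext ((cjIrr N g).injective this)
    obtain ⟨θ', hθ'⟩ := Finite.surjective_of_injective hinj ⟨cjIrr N g θ, hθ⟩
    have := congrArg Subtype.val hθ'
    have h2 : (θ' : IrrCharacter N) = θ := (cjIrr N g).injective this
    rw [← h2]
    exact θ'.2

theorem le_blockStab (b : Set (IrrCharacter N)) : N ≤ blockStab N b := by
  intro y hy
  rw [mem_blockStab]
  intro θ hθ
  have : cjIrr N y θ = θ :=
    Subtype.ext (cj_eq_self_of_mem _ hy (isIrrCharacter_isClassFunction θ.2))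
  rw [this]
  exact hθ

variable [Fact p.Prime]

/-- **Knörr's theorem.** -/
theorem knorr_general (hM : IsPModular p M) {b : Set (IrrCharacter N)} (hb : IsPBlock M b)
    {Q : Subgroup G} (hQN : Q ≤ N) (hQ : IsDefectGroup p M b (Q.subgroupOf N))
    {B : Set (IrrCharacter G)} (hB : IsPBlock M B)
    (hcov : ∃ χ ∈ B, ∃ θ ∈ b, classInner (fun n : N => (χ : G → ℂ) n) (θ : N → ℂ) ≠ 0) :
    ∃ P : Subgroup G, IsDefectGroup p M B P ∧ P ⊓ N = Q ∧
      ∀ x ∈ P, ∀ θ ∈ b, cjIrr N x θ ∈ b := by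
  classical
  have hMp := isPrime_of_isPModular hM
  set T : Subgroup G := blockStab N b with hTdef
  have hT : ∀ g : G, g ∈ T ↔ ∀ θ ∈ b, cjIrr N g θ ∈ b := mem_blockStab N b
  have hNT : N ≤ T := le_blockStab N b
  have : Fintype T := Fintype.ofFinite _
  obtain ⟨B', hB', hcov', hind⟩ := fr_part3 hNT hMp hb hT hB hcov
  have hfr := (fr_heights hNT p hM hb hT hB' hcov' hind).1
  have hn : (N.subgroupOf T).Normal := hN.subgroupOf T
  have : Fintype (N.subgroupOf T) := Fintype.ofFinite _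
  set φ := Subgroup.subgroupOfEquivOfLe hNT with hφ
  have hb' : IsPBlock M (mapBlock φ b) := isPBlock_mapBlock φ hb
  have hst : ∀ x : T, ∀ θ ∈ mapBlock φ b, cjIrr (N.subgroupOf T) x θ ∈ mapBlock φ b := by
    intro x
    rw [← stabilizes_iff]
    exact stabilizes_mapBlock N T hNT b (fun k hk ξ hξ => (hT k).mp hk ξ hξ) x
  have hcov'' : ∃ χ ∈ B', ∃ θ ∈ mapBlock φ b,
      classInner (fun n : N.subgroupOf T => (χ : T → ℂ) n) (θ : N.subgroupOf T → ℂ) ≠ 0 := by
    obtain ⟨χ, hχ, θ, hθ, h⟩ := hcov'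
    refine ⟨χ, hχ, irrComp φ θ, irrComp_mem_mapBlock φ hθ, ?_⟩
    rw [classInner_resN_eq]
    exact h
  have hQ'N : Q.subgroupOf T ≤ N.subgroupOf T := by
    intro x hx
    rw [Subgroup.mem_subgroupOf] at hx ⊢
    exact hQN hx
  have hQ' : IsDefectGroup p M (mapBlock φ b)
      ((Q.subgroupOf T).subgroupOf (N.subgroupOf T)) := by
    have h1 := isDefectGroup_mapBlock (p := p) (M := M) φ hQ
    have h2 : (Q.subgroupOf N).map (φ.symm : N →* N.subgroupOf T) =
        (Q.subgroupOf T).subgroupOf (N.subgroupOf T) := by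
      ext n'
      rw [Subgroup.mem_subgroupOf, Subgroup.mem_subgroupOf]
      constructor
      · rintro ⟨q, hq, rfl⟩
        rw [SetLike.mem_coe, Subgroup.mem_subgroupOf] at hq
        exact hq
      · intro hn'
        refine ⟨φ n', ?_, ?_⟩
        · rw [SetLike.mem_coe, Subgroup.mem_subgroupOf]
          exact hn'
        · show φ.symm (φ n') = n'
          rw [MulEquiv.symm_apply_apply]
    rwa [h2] at h1
  obtain ⟨P', hP', hPN'⟩ := knorr_stable_exists (N.subgroupOf T) hM hb' hst hB' hcov'' hQ'N hQ'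
  refine ⟨P'.map T.subtype, hfr P' hP', ?_, ?_⟩
  · ext x
    constructor
    · rintro ⟨⟨y, hy, rfl⟩, hxN⟩
      have h0 : y ∈ N.subgroupOf T := by rw [Subgroup.mem_subgroupOf]; exact hxN
      have h1 : y ∈ P' ⊓ N.subgroupOf T := ⟨hy, h0⟩
      rw [hPN', Subgroup.mem_subgroupOf] at h1
      exact h1
    · intro hx
      have hxT : x ∈ T := hNT (hQN hx)
      have h1 : (⟨x, hxT⟩ : T) ∈ Q.subgroupOf T := by
        rw [Subgroup.mem_subgroupOf]
        exact hx
      rw [← hPN'] at h1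
      exact ⟨⟨⟨x, hxT⟩, h1.1, rfl⟩, hQN hx⟩
  · rintro _ ⟨y, -, rfl⟩
    exact (hT _).mp y.2

end Cfsg.Agent.Lib.Helper78_KnorrGeneral
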