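import Mathlib
import Cfsg.Agent.S4438
import Cfsg.Agent.S0965
import Cfsg.Agent.Lib.Helper78_MinMax
import Cfsg.Agent.Lib.Helper78_LocalRing

/-!
# A block of a normal subgroup whose defect group has its centralizer inside the normal subgroup is
covered by a unique block (helper78)

`N ⊴ G`, `b` a block of `N` with defect group `D`, `C_G(D) ≤ N`.  Then
* `memLocalIdeal_centralChar_of_not_mem`: the central characters of a block of `G` covering `b`
  vanish modulo the local ideal outside `N`;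
* `eq_of_cover`: two blocks of `G` covering `b` are equal.
-/

set_option autoImplicit false

namespace Cfsg.Agent.Lib.Helper78_UniqueCover

open Cfsg Cfsg.Agent.Lib.Helper78_LocalRing Cfsg.Agent.Lib.Helper78_MinMax

universe u

variable {G : Type u} [Group G] [Fintype G] {p : ℕ} [Fact p.Prime] {M : Ideal AlgInt}

/-- The central characters of a block covering `b` vanish modulo the ideal outside `N`. -/
theorem memLocalIdeal_centralChar_of_not_mem (hM : IsPModular p M) (N : Subgroup G)
    [hN : N.Normal] [Fintype N] (b : Set (IrrCharacter N)) (hb : IsPBlock M b)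
    (D : Subgroup G) (hDN : D ≤ N) (hD : IsDefectGroup p M b (D.subgroupOf N))
    (hC : Subgroup.centralizer (D : Set G) ≤ N)
    (B : Set (IrrCharacter G)) (hB : IsPBlock M B)
    (hcov : ∃ χ ∈ B, ∃ θ ∈ b, classInner (fun n : N => (χ : G → ℂ) n) (θ : N → ℂ) ≠ 0)
    (χ : IrrCharacter G) (hχ : χ ∈ B) (h : G) (hh : h ∉ N) :
    MemLocalIdeal M (centralChar (χ : G → ℂ) h) := by
  by_contra hnot
  obtain ⟨P, hP, hPN⟩ := Cfsg.Agent.S4438.result p M hM N b hb D hDN hD B hB hcov
  obtain ⟨g, hg, D₀, rfl⟩ := hP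
  obtain ⟨x, hx⟩ := conj_le_centralizer_of_centralChar_not_mem hM hB hg D₀ h ⟨χ, hχ, hnot⟩
  apply hh
  -- `x⁻¹ h x` centralizes `D`
  have h1 : x⁻¹ * h * x ∈ Subgroup.centralizer (D : Set G) := by
    rw [Subgroup.mem_centralizer_iff]
    intro d hd
    have hdP : d ∈ (D₀ : Subgroup (Subgroup.centralizer ({g} : Set G))).map
        (Subgroup.centralizer ({g} : Set G)).subtype := by
      have : d ∈ ((D₀ : Subgroup (Subgroup.centralizer ({g} : Set G))).map
        (Subgroup.centralizer ({g} : Set G)).subtype) ⊓ N := by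
        rw [hPN]; exact hd
      exact this.1
    have h2 : x * d * x⁻¹ ∈ Subgroup.centralizer ({h} : Set G) := by
      apply hx
      exact ⟨d, hdP, by simp⟩
    have h3 := Subgroup.mem_centralizer_iff.mp h2 h rfl
    -- h3 : h * (x * d * x⁻¹) = x * d * x⁻¹ * h
    calc d * (x⁻¹ * h * x) = x⁻¹ * ((x * d * x⁻¹) * h) * x := by group
      _ = x⁻¹ * (h * (x * d * x⁻¹)) * x := by rw [h3]
      _ = x⁻¹ * h * x * d := by group
  have h4 := hC h1
  have h5 := hN.conj_mem _ h4 x
  have e : x * (x⁻¹ * h * x) * x⁻¹ = h := by group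
  rwa [e] at h5

/-- Two blocks of `G` covering `b` are equal. -/
theorem eq_of_cover (hM : IsPModular p M) (N : Subgroup G)
    [hN : N.Normal] [Fintype N] (b : Set (IrrCharacter N)) (hb : IsPBlock M b)
    (D : Subgroup G) (hDN : D ≤ N) (hD : IsDefectGroup p M b (D.subgroupOf N))
    (hC : Subgroup.centralizer (D : Set G) ≤ N)
    (B B' : Set (IrrCharacter G)) (hB : IsPBlock M B) (hB' : IsPBlock M B')
    (hcov : ∃ χ ∈ B, ∃ θ ∈ b, classInner (fun n : N => (χ : G → ℂ) n) (θ : N → ℂ) ≠ 0)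
    (hcov' : ∃ χ ∈ B', ∃ θ ∈ b, classInner (fun n : N => (χ : G → ℂ) n) (θ : N → ℂ) ≠ 0) :
    B = B' := by
  have hMp := isPrime_of_isPModular hM
  obtain ⟨χ, hχ⟩ := isPBlock_nonempty hMp hB
  obtain ⟨χ', hχ'⟩ := isPBlock_nonempty hMp hB'
  obtain ⟨θ, hθ⟩ := isPBlock_nonempty hMp hb
  have hsb : SameBlock M (χ : G → ℂ) (χ' : G → ℂ) := by
    intro h
    by_cases hh : h ∈ N
    · have h1 := (Cfsg.Agent.S0965.result p M hM N B hB b hb).mp hcov χ hχ θ hθ ⟨h, hh⟩
      have h2 := (Cfsg.Agent.S0965.result p M hM N B' hB' b hb).mp hcov' χ' hχ' θ hθ ⟨h, hh⟩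
      have h3 := memLocalIdeal_sub hMp h1 h2
      have e : centralChar (χ : G → ℂ) h - inducedCentralChar N (θ : N → ℂ) h -
          (centralChar (χ' : G → ℂ) h - inducedCentralChar N (θ : N → ℂ) h) =
          centralChar (χ : G → ℂ) h - centralChar (χ' : G → ℂ) h := by ring
      simpa [e] using h3
    · exact memLocalIdeal_sub hMp
        (memLocalIdeal_centralChar_of_not_mem hM N b hb D hDN hD hC B hB hcov χ hχ h hh)
        (memLocalIdeal_centralChar_of_not_mem hM N b hb D hDN hD hC B' hB' hcov' χ' hχ' h hh)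
  exact isPBlock_eq_of_mem_of_mem hMp hB hB' hχ
    (isPBlock_mem_of_sameBlock hMp hB' hχ' (sameBlock_symm hsb))

end Cfsg.Agent.Lib.Helper78_UniqueCover
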