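import Mathlib
import Cfsg.Agent.S0964
import Cfsg.Agent.S0966
import Cfsg.Agent.S0970
import Cfsg.Agent.Lib.Helper78_FongBasic
import Cfsg.Agent.Lib.Helper78_UniqueCover
import Cfsg.Agent.Lib.Helper78_Transport
import Cfsg.Agent.Lib.Helper78_Deficiency
import Cfsg.Agent.Lib.Helper16_Cover
import Cfsg.Agent.Lib.Helper75_Clifford
import Cfsg.Agent.Lib.Helper82_NormalSylowBlocks

/-!
# Characters over an invariant character of a normal `p'`-subgroup of a `p`-constrained group form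
a block (helper78)

`K ≤ L` normal subgroups of the finite group `X`, `K` a `p'`-group, `L/K` a `p`-group, `Q` a Sylow
`p`-subgroup of `L` with `C_X(Q) ≤ L`, and `θ` an `X`-invariant irreducible character of `K`.
`core`: the irreducible characters of `X` over `θ` form a block, and every Sylow `p`-subgroup of
`X` is a defect group of it.
-/

set_option autoImplicit false

namespace Cfsg.Agent.Lib.Helper78_FongCore

open Cfsg Cfsg.Agent.Lib.Helper78_LocalRing Cfsg.Agent.Lib.Helper78_CentralChar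
  Cfsg.Agent.Lib.Helper78_FongBasic Cfsg.Agent.Lib.Helper78_Transport

open scoped ComplexConjugate

universe u

variable {X : Type u} [Group X] [Fintype X] {p : ℕ} [Fact p.Prime] {M : Ideal AlgInt}

variable (K : Subgroup X) [hK : K.Normal] [Fintype K]

theorem eq_of_forall_conj {θ : IrrCharacter K}
    (hθ : ∀ g : X, IsConjCharOf K g (θ : K → ℂ) (θ : K → ℂ)) (ψ : IrrCharacter K) (g : X)
    (h : ∀ n : K, (ψ : K → ℂ) n = (θ : K → ℂ) ⟨g * n * g⁻¹, hK.conj_mem n n.2 g⟩) : ψ = θ := by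
  apply Subtype.ext
  funext n
  rw [h n]
  exact hθ g n ⟨g * n * g⁻¹, hK.conj_mem n n.2 g⟩ rfl

/-- `S0970`-style invariance of the block `{θ}`. -/
theorem hinv_singleton {θ : IrrCharacter K}
    (hθ : ∀ g : X, IsConjCharOf K g (θ : K → ℂ) (θ : K → ℂ)) :
    ∀ g : X, ∀ θ₁ ∈ ({θ} : Set (IrrCharacter K)), ∀ θ' : IrrCharacter K,
      (∀ n : K, (θ' : K → ℂ) n = (θ₁ : K → ℂ) ⟨g * n * g⁻¹, hK.conj_mem n n.2 g⟩) →
      θ' ∈ ({θ} : Set (IrrCharacter K)) := by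
  intro g θ₁ hθ₁ θ' h
  rw [Set.mem_singleton_iff] at hθ₁ ⊢
  subst hθ₁
  exact eq_of_forall_conj K hθ θ' g h

theorem isClassFunction_res (H : Subgroup X) (χ : IrrCharacter X) :
    IsClassFunction H (fun k : H => (χ : X → ℂ) k) := by
  intro g h
  show (χ : X → ℂ) ((h * g * h⁻¹ : H) : X) = (χ : X → ℂ) (g : X)
  rw [Subgroup.coe_mul, Subgroup.coe_mul, Subgroup.coe_inv]
  exact isIrrCharacter_isClassFunction χ.2 _ _

/-- Every member of a block covering `{θ}` lies over `θ`. -/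
theorem ne_zero_of_cover (hM : IsPModular p M) (hKp : ¬ p ∣ Nat.card K) {θ : IrrCharacter K}
    (hθ : ∀ g : X, IsConjCharOf K g (θ : K → ℂ) (θ : K → ℂ))
    {B₁ : Set (IrrCharacter X)} (hB₁ : IsPBlock M B₁) {χ₀ : IrrCharacter X} (hχ₀ : χ₀ ∈ B₁)
    (h₀ : classInner (fun k : K => (χ₀ : X → ℂ) k) (θ : K → ℂ) ≠ 0) {χ : IrrCharacter X}
    (hχ : χ ∈ B₁) : classInner (fun k : K => (χ : X → ℂ) k) (θ : K → ℂ) ≠ 0 := by
  have hcf := isClassFunction_res K χ
  have h1 : (fun k : K => (χ : X → ℂ) k) 1 ≠ 0 := by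
    show (χ : X → ℂ) ((1 : K) : X) ≠ 0
    rw [Subgroup.coe_one]
    exact isIrrCharacter_one_ne_zero χ.2
  obtain ⟨ψ, hψ⟩ := Cfsg.Agent.Lib.Helper82_NormalSylowBlocks.exists_constituent hcf h1
  obtain ⟨g, θ', hθ', hg⟩ := Cfsg.Agent.S0964.result p M hM K B₁ hB₁ {θ}
    (isPBlock_singleton hM hKp θ) χ₀ hχ₀ θ rfl h₀ χ hχ ψ hψ
  rw [Set.mem_singleton_iff] at hθ'
  subst hθ'
  have := eq_of_forall_conj K hθ ψ g hg
  rwa [this] at hψ

omit hK in
/-- A character of `X` over `θ` has a constituent on `L` lying over `θ`. -/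
theorem exists_mid (L : Subgroup X) [Fintype L] (hKL : K ≤ L) (θ : IrrCharacter K)
    (χ : IrrCharacter X)
    (h : classInner (fun k : K => (χ : X → ℂ) k) (θ : K → ℂ) ≠ 0) :
    ∃ ψ : IrrCharacter L, classInner (fun l : L => (χ : X → ℂ) l) (ψ : L → ℂ) ≠ 0 ∧
      classInner (fun k : K => (ψ : L → ℂ) ⟨k, hKL k.2⟩) (θ : K → ℂ) ≠ 0 := by
  classical
  by_contra hcon
  push Not at hcon
  apply h
  have hcf := isClassFunction_res L χ
  have hsum := Cfsg.Agent.Lib.Helper3_CharComplete.classFunction_eq_sum _ hcf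
  have hk : ∀ k : K, (χ : X → ℂ) k = ∑ ψ : IrrCharacter L,
      classInner (fun l : L => (χ : X → ℂ) l) (ψ : L → ℂ) * (ψ : L → ℂ) ⟨k, hKL k.2⟩ := by
    intro k
    have := congrFun hsum ⟨k, hKL k.2⟩
    simp only [Finset.sum_apply, Pi.smul_apply, smul_eq_mul] at this
    exact this
  unfold classInner
  have h2 : ∑ k : K, (χ : X → ℂ) k * conj ((θ : K → ℂ) k) = ∑ ψ : IrrCharacter L,
      classInner (fun l : L => (χ : X → ℂ) l) (ψ : L → ℂ) *
        ∑ k : K, (ψ : L → ℂ) ⟨k, hKL k.2⟩ * conj ((θ : K → ℂ) k) := by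
    simp_rw [Finset.mul_sum]
    rw [Finset.sum_comm]
    refine Finset.sum_congr rfl fun k _ => ?_
    rw [hk k, Finset.sum_mul]
    refine Finset.sum_congr rfl fun ψ _ => ?_
    ring
  rw [h2, Finset.sum_eq_zero, mul_zero]
  intro ψ _
  by_cases hψ : classInner (fun l : L => (χ : X → ℂ) l) (ψ : L → ℂ) = 0
  · rw [hψ, zero_mul]
  · have h3 := hcon ψ hψ
    unfold classInner at h3
    rcases mul_eq_zero.mp h3 with h' | h'
    · exfalso
      have : (Nat.card K : ℂ) ≠ 0 := by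
        rw [Nat.cast_ne_zero]; exact Nat.card_pos.ne'
      exact inv_ne_zero this h'
    · rw [h', mul_zero]


/-- The block of `L` over `θ`: it contains every irreducible character of `L` over `θ`, and the
Sylow `p`-subgroup `Q` of `L` is a defect group of it. -/
theorem exists_block_L (hM : IsPModular p M) (hKp : ¬ p ∣ Nat.card K) (L : Subgroup X)
    [Fintype L] (hKL : K ≤ L) (hidx : ∃ k : ℕ, K.relIndex L = p ^ k) (Q : Subgroup X)
    (hQp : IsPGroup p Q) (hQS : ¬ p ∣ Q.relIndex L)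
    (θ : IrrCharacter K) (hθ : ∀ g : X, IsConjCharOf K g (θ : K → ℂ) (θ : K → ℂ)) :
    ∃ bL : Set (IrrCharacter L), IsPBlock M bL ∧ IsDefectGroup p M bL (Q.subgroupOf L) ∧
      ∀ ψ : IrrCharacter L,
        classInner (fun k : K => (ψ : L → ℂ) ⟨k, hKL k.2⟩) (θ : K → ℂ) ≠ 0 → ψ ∈ bL := by
  classical
  have hMp := isPrime_of_isPModular hM
  set K' : Subgroup L := K.subgroupOf L with hK'
  haveI hK'n : K'.Normal := hK.subgroupOf L
  haveI : Fintype K' := Fintype.ofFinite _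
  set φ : K' ≃* K := Subgroup.subgroupOfEquivOfLe hKL with hφ
  set θ' : IrrCharacter K' := irrComp φ θ with hθ'
  have hK'p : ¬ p ∣ Nat.card K' := by rwa [Nat.card_congr φ.toEquiv]
  have hθ'inv : ∀ g : L, IsConjCharOf K' g (θ' : K' → ℂ) (θ' : K' → ℂ) := by
    intro g k k' hk
    rw [hθ', irrComp_apply, irrComp_apply]
    refine hθ (g : X) (φ k) (φ k') ?_
    have := congrArg Subtype.val hk
    simp only [Subgroup.coe_mul, Subgroup.coe_inv] at this
    exact this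
  have hbθ' := isPBlock_singleton hM hK'p θ'
  have hidx' : ∃ k : ℕ, K'.index = p ^ k := hidx
  obtain ⟨bL, ⟨hbL, hcovL⟩, huniq⟩ := Cfsg.Agent.S0966.result p M hM K' hidx' {θ'} hbθ'
  refine ⟨bL, hbL, ?_, ?_⟩
  · obtain ⟨P, hP⟩ := Cfsg.Agent.Lib.Helper78_Deficiency.exists_isDefectGroup hM hbL
    have hF := Cfsg.Agent.S0970.result p M hM K' {θ'} hbθ' (hinv_singleton K' hθ'inv) bL hbL
      hcovL (fun B' hB' hcov' => by rw [huniq B' ⟨hB', hcov'⟩]) P hP
    have hPidx : ¬ p ∣ P.index := not_dvd_index_of_sup P K' hK'p hF.1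
    have hQ'p : IsPGroup p (Q.subgroupOf L) := hQp.comap_subtype
    have hQ'idx : ¬ p ∣ (Q.subgroupOf L).index := hQS
    have := isDefectGroup_sylow hM hbL hP hPidx (hQ'p.toSylow hQ'idx)
    rwa [IsPGroup.toSylow_coe] at this
  · intro ψ hψ
    have hcov : ∃ ψ' ∈ blockOf M (ψ : L → ℂ), ∃ θ₁ ∈ ({θ'} : Set (IrrCharacter K')),
        classInner (fun n : K' => (ψ' : L → ℂ) n) (θ₁ : K' → ℂ) ≠ 0 := by
      refine ⟨ψ, mem_blockOf_self hMp ψ, θ', rfl, ?_⟩
      have h1 := Cfsg.Agent.Lib.Helper75_Clifford.classInner_comp_equiv φ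
        (fun k : K => (ψ : L → ℂ) ⟨k, hKL k.2⟩) (θ : K → ℂ)
      rw [← h1] at hψ
      exact hψ
    have := huniq (blockOf M (ψ : L → ℂ)) ⟨isPBlock_blockOf ψ, hcov⟩
    rw [← this]
    exact mem_blockOf_self hMp ψ

/-- **Fong-type theorem.** The irreducible characters over an invariant character `θ` of the
normal `p'`-subgroup `K` of a `p`-constrained group form a block, with the Sylow `p`-subgroups as
defect groups. -/
theorem core (hM : IsPModular p M) (hKp : ¬ p ∣ Nat.card K) (L : Subgroup X) [hL : L.Normal]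
    (hKL : K ≤ L) (hidx : ∃ k : ℕ, K.relIndex L = p ^ k) (Q : Subgroup X) (hQL : Q ≤ L)
    (hQp : IsPGroup p Q) (hQS : ¬ p ∣ Q.relIndex L)
    (hCQ : Subgroup.centralizer (Q : Set X) ≤ L)
    (θ : IrrCharacter K) (hθ : ∀ g : X, IsConjCharOf K g (θ : K → ℂ) (θ : K → ℂ))
    (B : Set (IrrCharacter X))
    (hBdef : ∀ χ : IrrCharacter X, χ ∈ B ↔
      classInner (fun k : K => (χ : X → ℂ) k) (θ : K → ℂ) ≠ 0) :
    IsPBlock M B ∧ ∀ S : Sylow p X, IsDefectGroup p M B S := by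
  classical
  have hMp := isPrime_of_isPModular hM
  haveI : Fintype L := Fintype.ofFinite _
  obtain ⟨bL, hbL, hQdef, hbLmem⟩ := exists_block_L K hM hKp L hKL hidx Q hQp hQS θ hθ
  have hcovL : ∀ B₁ : Set (IrrCharacter X),
      (∃ χ ∈ B₁, classInner (fun k : K => (χ : X → ℂ) k) (θ : K → ℂ) ≠ 0) →
      ∃ χ ∈ B₁, ∃ ψ ∈ bL, classInner (fun n : L => (χ : X → ℂ) n) (ψ : L → ℂ) ≠ 0 := by
    rintro B₁ ⟨χ, hχ, h⟩
    obtain ⟨ψ, h1, h2⟩ := exists_mid K L hKL θ χ h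
    exact ⟨χ, hχ, ψ, hbLmem ψ h2, h1⟩
  have huniq : ∀ B₁ B₂ : Set (IrrCharacter X), IsPBlock M B₁ → IsPBlock M B₂ →
      (∃ χ ∈ B₁, classInner (fun k : K => (χ : X → ℂ) k) (θ : K → ℂ) ≠ 0) →
      (∃ χ ∈ B₂, classInner (fun k : K => (χ : X → ℂ) k) (θ : K → ℂ) ≠ 0) → B₁ = B₂ :=
    fun B₁ B₂ hB₁ hB₂ h₁ h₂ =>
      Cfsg.Agent.Lib.Helper78_UniqueCover.eq_of_cover hM L bL hbL Q hQL hQdef hCQ B₁ B₂ hB₁ hB₂
        (hcovL B₁ h₁) (hcovL B₂ h₂)
  obtain ⟨χ₀, hχ₀⟩ := Cfsg.Agent.Lib.Helper16_Cover.exists_over K θ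
  have hBeq : B = blockOf M (χ₀ : X → ℂ) := by
    ext χ
    constructor
    · intro hχ
      have := huniq (blockOf M (χ : X → ℂ)) (blockOf M (χ₀ : X → ℂ)) (isPBlock_blockOf χ)
        (isPBlock_blockOf χ₀) ⟨χ, mem_blockOf_self hMp χ, (hBdef χ).mp hχ⟩
        ⟨χ₀, mem_blockOf_self hMp χ₀, hχ₀⟩
      rw [← this]
      exact mem_blockOf_self hMp χ
    · intro hχ
      exact (hBdef χ).mpr (ne_zero_of_cover K hM hKp hθ (isPBlock_blockOf χ₀)
        (mem_blockOf_self hMp χ₀) hχ₀ hχ)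
  have hB : IsPBlock M B := hBeq ▸ isPBlock_blockOf χ₀
  have hχ₀B : χ₀ ∈ B := (hBdef χ₀).mpr hχ₀
  refine ⟨hB, ?_⟩
  obtain ⟨P, hP⟩ := Cfsg.Agent.Lib.Helper78_Deficiency.exists_isDefectGroup hM hB
  have hF := Cfsg.Agent.S0970.result p M hM K {θ} (isPBlock_singleton hM hKp θ)
    (hinv_singleton K hθ) B hB ⟨χ₀, hχ₀B, θ, rfl, hχ₀⟩ (fun B' hB' hcov' => by
      obtain ⟨χ', hχ', θ₁, hθ₁, h⟩ := hcov'
      rw [Set.mem_singleton_iff] at hθ₁
      subst hθ₁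
      rw [huniq B' B hB' hB ⟨χ', hχ', h⟩ ⟨χ₀, hχ₀B, hχ₀⟩]) P hP
  have hPidx := not_dvd_index_of_sup P K hKp hF.1
  exact fun S => isDefectGroup_sylow hM hB hP hPidx S

end Cfsg.Agent.Lib.Helper78_FongCore
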