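import Mathlib
import Cfsg.Prelude.Def_Solvable
import Cfsg.Agent.Lib.Helper1_Cores
import Cfsg.Agent.Lib.Helper24_CoprimeAction
import Cfsg.Agent.Lib.Helper49_CharP5

/-!
# Group theory for Fong's theorem in `p`-constrained groups (helper78)

`K ⊴ G` a `p'`-group.
* `isCharP_quotient`: if `L` is the preimage of `O_p(G/K)`, `Q ≤ L` a `p`-subgroup with
  `C_G(Q) ≤ L`, then `G/K` has characteristic `p`.
* `exists_lift_centralizer`: `C_{G/K}(R̄)` is the image of `C_G(R)` for a `p`-subgroup `R`.
* `isCharP_centralizer`: the centralizer of a `p`-subgroup in a group of characteristic `p` has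
  characteristic `p`.
* `constrained_data`: from a surjection `π : X → Y` with `p'`-kernel `K` onto a group of
  characteristic `p`, the subgroups `L` (preimage of `O_p(Y)`) and `Q` (a Sylow `p`-subgroup of `L`)
  with `C_X(Q) ≤ L`.
-/

set_option autoImplicit false

namespace Cfsg.Agent.Lib.Helper78_FongGroup

open Cfsg Cfsg.Agent.Lib.Helper49_CharP

variable {p : ℕ} [hp : Fact p.Prime]

theorem isSolvable_of_isPGroup {G : Type*} [Group G] [Finite G] {A : Subgroup G}
    (hA : IsPGroup p A) : Group.IsSolvable A := by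
  haveI := hA.isNilpotent
  infer_instance

theorem coprime_card_of_isPGroup {G : Type*} [Group G] [Finite G] {A K : Subgroup G}
    (hA : IsPGroup p A) (hK : ¬ p ∣ Nat.card K) : (Nat.card A).Coprime (Nat.card K) := by
  obtain ⟨n, hn⟩ := hA.exists_card_eq
  rw [hn]
  exact Nat.Coprime.pow_left n ((Nat.Prime.coprime_iff_not_dvd hp.out).mpr hK)

/-- If `ȳ ∈ G/K` commutes with the image of the `p`-subgroup `A` and `K` is a normal `p'`-subgroup,
some lift of `ȳ` centralizes `A`. -/
theorem exists_lift_commute {G : Type*} [Group G] [Finite G] (K : Subgroup G) [hK : K.Normal]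
    (hKp : ¬ p ∣ Nat.card K) (A : Subgroup G) (hA : IsPGroup p A) (y : G)
    (hy : ∀ a ∈ A, QuotientGroup.mk' K y * QuotientGroup.mk' K a =
      QuotientGroup.mk' K a * QuotientGroup.mk' K y) :
    ∃ d ∈ K, ∀ a ∈ A, a * (y * d) = (y * d) * a := by
  apply Cfsg.Agent.Lib.Helper24_CoprimeAction.exists_fixed_in_coset A K
  · rw [Subgroup.normalizer_eq_top]; exact le_top
  · exact coprime_card_of_isPGroup hA hKp
  · exact Or.inl (isSolvable_of_isPGroup hA)
  · intro a ha
    rw [← QuotientGroup.eq_one_iff, ← QuotientGroup.mk'_apply]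
    simp only [map_mul, map_inv]
    rw [← hy a ha]
    group

theorem exists_lift_centralizer {G : Type*} [Group G] [Finite G] (K : Subgroup G) [hK : K.Normal]
    (hKp : ¬ p ∣ Nat.card K) (R : Subgroup G) (hR : IsPGroup p R) (z : G ⧸ K)
    (hz : z ∈ Subgroup.centralizer ((R.map (QuotientGroup.mk' K) : Subgroup (G ⧸ K)) : Set (G ⧸ K))) :
    ∃ c ∈ Subgroup.centralizer (R : Set G), QuotientGroup.mk' K c = z := by
  obtain ⟨y, rfl⟩ := QuotientGroup.mk'_surjective K z
  obtain ⟨d, hd, hcomm⟩ := exists_lift_commute K hKp R hR y (fun a ha => by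
    have := Subgroup.mem_centralizer_iff.mp hz (QuotientGroup.mk' K a) ⟨a, ha, rfl⟩
    exact this.symm)
  refine ⟨y * d, ?_, ?_⟩
  · rw [Subgroup.mem_centralizer_iff]
    intro a ha
    exact hcomm a ha
  · rw [map_mul]
    have : QuotientGroup.mk' K d = 1 := by
      rw [QuotientGroup.mk'_apply, QuotientGroup.eq_one_iff]; exact hd
    rw [this, mul_one]

/-- `G/K` has characteristic `p` when `C_G(Q) ≤ L` for a `p`-subgroup `Q` of the preimage `L` of
`O_p(G/K)`. -/
theorem isCharP_quotient {G : Type*} [Group G] [Finite G] (K : Subgroup G) [hK : K.Normal]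
    (hKp : ¬ p ∣ Nat.card K) (L : Subgroup G)
    (hL : L = (pCore p (G ⧸ K)).comap (QuotientGroup.mk' K)) (Q : Subgroup G) (hQL : Q ≤ L)
    (hQp : IsPGroup p Q) (hCQ : Subgroup.centralizer (Q : Set G) ≤ L) : IsCharP p (G ⧸ K) := by
  intro z hz
  obtain ⟨y, rfl⟩ := QuotientGroup.mk'_surjective K z
  obtain ⟨d, hd, hcomm⟩ := exists_lift_commute K hKp Q hQp y (fun a ha => by
    have ha' : QuotientGroup.mk' K a ∈ pCore p (G ⧸ K) := by
      have := hQL ha
      rw [hL] at this
      exact this
    have := Subgroup.mem_centralizer_iff.mp hz (QuotientGroup.mk' K a) ha'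
    exact this.symm)
  have h1 : y * d ∈ L := by
    apply hCQ
    rw [Subgroup.mem_centralizer_iff]
    intro a ha
    exact hcomm a ha
  have h2 : QuotientGroup.mk' K d = 1 := by
    rw [QuotientGroup.mk'_apply, QuotientGroup.eq_one_iff]; exact hd
  have h3 : QuotientGroup.mk' K (y * d) ∈ pCore p (G ⧸ K) := by
    rw [hL] at h1
    exact h1
  rw [map_mul, h2, mul_one] at h3
  exact h3

/-- The centralizer of a `p`-subgroup in a group of characteristic `p` has characteristic `p`. -/
theorem isCharP_centralizer {Y : Type*} [Group Y] [Finite Y] (hY : IsCharP p Y) (A : Subgroup Y)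
    (hA : IsPGroup p A) : IsCharP p ↥(Subgroup.centralizer (A : Set Y)) := by
  have h1 : IsCharP p ↥(⊤ : Subgroup Y) := hY.of_mulEquiv Subgroup.topEquiv.symm
  have h2 := IsCharP.inf_centralizer (K := (⊤ : Subgroup Y)) (A := A) h1 hA (by
    rw [Subgroup.normalizer_eq_top]; exact le_top)
  exact h2.of_mulEquiv (MulEquiv.subgroupCongr (top_inf_eq _))

/-- The data of a `p`-constrained group from a surjection with `p'`-kernel onto a group of
characteristic `p`. -/
theorem constrained_data {X Y : Type*} [Group X] [Finite X] [Group Y] (K : Subgroup X)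
    (hKp : ¬ p ∣ Nat.card K) (π : X →* Y) (hπ : Function.Surjective π) (hker : π.ker = K)
    (hY : IsCharP p Y) :
    ∃ L Q : Subgroup X, L.Normal ∧ K ≤ L ∧ (∃ k : ℕ, K.relIndex L = p ^ k) ∧ Q ≤ L ∧
      IsPGroup p Q ∧ ¬ p ∣ Q.relIndex L ∧ Subgroup.centralizer (Q : Set X) ≤ L := by
  classical
  have : Finite Y := Finite.of_surjective π hπ
  set L : Subgroup X := (pCore p Y).comap π with hL
  have hLn : L.Normal := (Cfsg.Agent.Lib.Helper1_Cores.pCore_normal p).comap π
  have hKL : K ≤ L := by
    rw [← hker, hL]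
    exact Subgroup.ker_le_comap π _
  have hLmap : L.map π = pCore p Y := Subgroup.map_comap_eq_self_of_surjective hπ _
  obtain ⟨k, hk⟩ := (Cfsg.Agent.Lib.Helper1_Cores.pCore_isPGroup (G := Y) p).exists_card_eq
  have hrel : K.relIndex L = p ^ k := by
    rw [← hker, Subgroup.relIndex_ker, hLmap, hk]
  obtain ⟨Q₀⟩ : Nonempty (Sylow p L) := inferInstance
  set Q : Subgroup X := (Q₀ : Subgroup L).map L.subtype with hQ
  have hQL : Q ≤ L := Subgroup.map_subtype_le _
  have hQp : IsPGroup p Q := Q₀.isPGroup'.map _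
  have hQsub : Q.subgroupOf L = (Q₀ : Subgroup L) := by
    rw [hQ]
    exact Subgroup.comap_map_eq_self_of_injective (Subgroup.subtype_injective L) _
  have hQidx : ¬ p ∣ Q.relIndex L := by
    unfold Subgroup.relIndex
    rw [hQsub]
    exact Q₀.not_dvd_index
  refine ⟨L, Q, hLn, hKL, ⟨k, hrel⟩, hQL, hQp, hQidx, ?_⟩
  -- `π(Q) = O_p(Y)`
  have hcardQ : Nat.card Q = p ^ k := by
    have h1 : Nat.card Q = Nat.card (Q₀ : Subgroup L) := by
      rw [hQ]
      exact Subgroup.card_map_of_injective (Subgroup.subtype_injective L)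
    rw [h1, Q₀.card_eq_multiplicity]
    congr 1
    have h2 : Nat.card L = Nat.card K * p ^ k := by
      have := Subgroup.relIndex_mul_relIndex (H := (⊥ : Subgroup X)) (K := K) (L := L) bot_le hKL
      rw [Subgroup.relIndex_bot_left, Subgroup.relIndex_bot_left, hrel] at this
      exact this.symm
    rw [h2, Nat.factorization_mul (Nat.card_pos.ne') (pow_ne_zero _ hp.out.ne_zero),
      Finsupp.add_apply, Nat.factorization_eq_zero_of_not_dvd hKp, zero_add,
      Nat.factorization_pow, Finsupp.smul_apply, hp.out.factorization_self, smul_eq_mul, mul_one]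
  have hQmap : Q.map π = pCore p Y := by
    apply Subgroup.eq_of_le_of_card_ge
    · rw [← hLmap]
      exact Subgroup.map_mono hQL
    · have h1 : Nat.card (Q.map π) = Nat.card Q := by
        rw [← Subgroup.relIndex_ker, hker, ← Subgroup.inf_relIndex_right]
        have : K ⊓ Q = ⊥ := by
          apply (Subgroup.disjoint_of_coprime_natCard _).eq_bot
          obtain ⟨n, hn⟩ := hQp.exists_card_eq
          rw [hn]
          exact (Nat.Coprime.pow_left n ((Nat.Prime.coprime_iff_not_dvd hp.out).mpr hKp)).symm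
        rw [this, Subgroup.relIndex_bot_left]
      rw [h1, hcardQ, hk]
  intro x hx
  rw [hL, Subgroup.mem_comap]
  apply hY
  rw [Subgroup.mem_centralizer_iff]
  intro y hy
  rw [← hQmap] at hy
  obtain ⟨q, hq, rfl⟩ := hy
  have := Subgroup.mem_centralizer_iff.mp hx q hq
  rw [← map_mul, ← map_mul, this]

end Cfsg.Agent.Lib.Helper78_FongGroup
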