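import Mathlib
import Cfsg.Agent.S4444
import Cfsg.Agent.Lib.Helper78_FongCore
import Cfsg.Agent.Lib.Helper78_FongGroup
import Cfsg.Agent.Lib.Helper78_BrCent
import Cfsg.Agent.Lib.Helper78_InducedTrans
import Cfsg.Agent.Lib.Helper78_TransportBlocks
import Cfsg.Agent.Lib.Helper16_HeightZero
import Cfsg.Agent.Lib.Helper75_CharArith
import Cfsg.Agent.Lib.Helper80_CharBasic

/-!
# Blocks of principal type over an invariant character of a normal `p'`-subgroup (helper78)

`K ⊴ G` a `p'`-group, `θ` a `G`-invariant irreducible character of `K`, `B` the block of the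
characters of `G` over `θ`.  For a subgroup `C` of `G` and a block `f` of `C` inducing `B`, every
irreducible constituent `β'` of the restriction to `K ∩ C` of a member of `f` occurs in `θ` with
multiplicity prime to `p` (`not_dvd_mult`).  For `C = C_G(R)`, `R` a `p`-subgroup, Glauberman's
correspondence (S4444) says that there is exactly one such `β'`.
-/

set_option autoImplicit false

namespace Cfsg.Agent.Lib.Helper78_FongGlauberman

open Cfsg Cfsg.Agent.Lib.Helper78_LocalRing Cfsg.Agent.Lib.Helper78_CentralChar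
  Cfsg.Agent.Lib.Helper78_Osima Cfsg.Agent.Lib.Helper78_Transport
  Cfsg.Agent.Lib.Helper78_TransportBlocks Cfsg.Agent.Lib.Helper16_Orbit
  Cfsg.Agent.Lib.Helper16_Cover

open scoped ComplexConjugate

universe u

variable {G : Type u} [Group G] [Fintype G] {p : ℕ} [Fact p.Prime] {M : Ideal AlgInt}

section Idem

variable (K : Subgroup G) [hK : K.Normal] [Fintype K]

/-- The coefficients of the central idempotent of `θ`. -/
noncomputable def idemF (θ : IrrCharacter K) : K → ℂ :=
  fun k => (θ : K → ℂ) 1 * conj ((θ : K → ℂ) k) / (Nat.card K : ℂ)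

theorem cj_idemF {θ : IrrCharacter K}
    (hθ : ∀ g : G, IsConjCharOf K g (θ : K → ℂ) (θ : K → ℂ)) (x : G) :
    cj K x (idemF K θ) = idemF K θ := by
  funext n
  unfold cj idemF
  have : (θ : K → ℂ) ((MulAut.conjNormal x⁻¹ : MulAut K) n) = (θ : K → ℂ) n := by
    apply hθ x⁻¹ n
    rw [MulAut.conjNormal_apply]
  rw [this]

omit hK in
theorem idemF_memLocalRing (hM : IsPModular p M) (hKp : ¬ p ∣ Nat.card K) (θ : IrrCharacter K)
    (k : K) : MemLocalRing M (idemF K θ k) := by
  have hMp := isPrime_of_isPModular hM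
  unfold idemF
  have h1 : MemLocalRing M ((θ : K → ℂ) 1) :=
    Cfsg.Agent.Lib.Helper16_HeightZero.memLocalRing_irr hMp θ 1
  have h2 : MemLocalRing M (conj ((θ : K → ℂ) k)) := by
    rw [← Cfsg.Agent.Lib.Helper80_CharBasic.irr_inv θ k]
    exact Cfsg.Agent.Lib.Helper16_HeightZero.memLocalRing_irr hMp θ k⁻¹
  have h3 : MemLocalRing M ((Nat.card K : ℂ)⁻¹) := memLocalRing_inv_natCast hM hKp
  rw [div_eq_mul_inv]
  exact memLocalRing_mul hMp (memLocalRing_mul hMp h1 h2) h3

omit hK in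
theorem omega_idemF (θ : IrrCharacter K) : omega (θ : K → ℂ) (idemF K θ) = 1 := by
  have h1 := Cfsg.Agent.Lib.Helper3_CharOrtho.classInner_self_of_isIrrCharacter θ.2
  unfold classInner at h1
  have hθ1 : (θ : K → ℂ) 1 ≠ 0 := isIrrCharacter_one_ne_zero θ.2
  unfold omega idemF
  rw [div_eq_iff hθ1, one_mul]
  have h2 : ∑ g : K, (θ : K → ℂ) 1 * conj ((θ : K → ℂ) g) / (Nat.card K : ℂ) * (θ : K → ℂ) g =
      (θ : K → ℂ) 1 * ((Nat.card K : ℂ)⁻¹ * ∑ g : K, (θ : K → ℂ) g * conj ((θ : K → ℂ) g)) := by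
    rw [Finset.mul_sum, Finset.mul_sum]
    refine Finset.sum_congr rfl fun g _ => ?_
    ring
  rw [h2, h1, mul_one]

end Idem


section Restrict

variable (K : Subgroup G) [hK : K.Normal] [Fintype K] (C : Subgroup G) [Fintype C]
  [Fintype (K.subgroupOf C)]

/-- The restriction of `θ` to `K ∩ C`, as a function on `K.subgroupOf C`. -/
def resN (θ : IrrCharacter K) : K.subgroupOf C → ℂ :=
  fun n => (θ : K → ℂ) ⟨((n : C) : G), Subgroup.mem_subgroupOf.mp n.2⟩

/-- The restriction of `idemF` to `K ∩ C`. -/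
noncomputable def idemFN (θ : IrrCharacter K) : K.subgroupOf C → ℂ :=
  fun n => idemF K θ ⟨((n : C) : G), Subgroup.mem_subgroupOf.mp n.2⟩

omit [Fintype G] hK [Fintype C] [Fintype (K.subgroupOf C)] in
theorem extZero_restrict (θ : IrrCharacter K) (c : C) :
    extZero K (idemF K θ) (c : G) = extZero (K.subgroupOf C) (idemFN K C θ) c := by
  by_cases hc : (c : G) ∈ K
  · have hc' : c ∈ K.subgroupOf C := Subgroup.mem_subgroupOf.mpr hc
    rw [extZero_mem K (idemF K θ) ⟨(c : G), hc⟩,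
      extZero_mem (K.subgroupOf C) (idemFN K C θ) ⟨c, hc'⟩]
    rfl
  · have hc' : c ∉ K.subgroupOf C := fun h => hc (Subgroup.mem_subgroupOf.mp h)
    rw [extZero_not_mem K _ hc, extZero_not_mem (K.subgroupOf C) _ hc']

omit [Fintype G] [Fintype C] [Fintype (K.subgroupOf C)] in
theorem cj_idemFN {θ : IrrCharacter K}
    (hθ : ∀ g : G, IsConjCharOf K g (θ : K → ℂ) (θ : K → ℂ)) (c : C) :
    haveI : (K.subgroupOf C).Normal := hK.subgroupOf C
    cj (K.subgroupOf C) c (idemFN K C θ) = idemFN K C θ := by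
  haveI : (K.subgroupOf C).Normal := hK.subgroupOf C
  funext n
  unfold cj idemFN idemF
  have : (θ : K → ℂ) ⟨((((MulAut.conjNormal c⁻¹ : MulAut (K.subgroupOf C)) n : K.subgroupOf C) : C)
      : G), Subgroup.mem_subgroupOf.mp
        ((MulAut.conjNormal c⁻¹ : MulAut (K.subgroupOf C)) n).2⟩ =
      (θ : K → ℂ) ⟨((n : C) : G), Subgroup.mem_subgroupOf.mp n.2⟩ := by
    apply hθ ((c : G)⁻¹)
    show ((((MulAut.conjNormal c⁻¹ : MulAut (K.subgroupOf C)) n : K.subgroupOf C) : C) : G) = _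
    rw [MulAut.conjNormal_apply]
    simp
  rw [this]

omit [Fintype G] hK [Fintype C] in
theorem omega_idemFN (θ : IrrCharacter K) (β' : IrrCharacter (K.subgroupOf C)) :
    omega (β' : K.subgroupOf C → ℂ) (idemFN K C θ) =
      (θ : K → ℂ) 1 * (Nat.card (K.subgroupOf C) : ℂ) *
        classInner (β' : K.subgroupOf C → ℂ) (resN K C θ) /
        ((Nat.card K : ℂ) * (β' : K.subgroupOf C → ℂ) 1) := by
  have hN0 : (Nat.card (K.subgroupOf C) : ℂ) ≠ 0 := by
    rw [Nat.cast_ne_zero]; exact Nat.card_pos.ne'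
  have h1 : ∑ n : K.subgroupOf C, idemFN K C θ n * (β' : K.subgroupOf C → ℂ) n =
      (θ : K → ℂ) 1 / (Nat.card K : ℂ) *
        ∑ n : K.subgroupOf C, (β' : K.subgroupOf C → ℂ) n * conj (resN K C θ n) := by
    rw [Finset.mul_sum]
    refine Finset.sum_congr rfl fun n _ => ?_
    unfold idemFN idemF resN
    ring
  have h2 : ∑ n : K.subgroupOf C, (β' : K.subgroupOf C → ℂ) n * conj (resN K C θ n) =
      (Nat.card (K.subgroupOf C) : ℂ) *
        classInner (β' : K.subgroupOf C → ℂ) (resN K C θ) := by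
    unfold classInner
    rw [← mul_assoc, mul_inv_cancel₀ hN0, one_mul]
  unfold omega
  rw [h1, h2]
  ring


/-- The inclusion of `K ∩ C` into `K`. -/
def inclN : K.subgroupOf C →* K where
  toFun n := ⟨((n : C) : G), Subgroup.mem_subgroupOf.mp n.2⟩
  map_one' := rfl
  map_mul' _ _ := rfl

omit [Fintype G] hK [Fintype K] [Fintype C] [Fintype (K.subgroupOf C)] in
theorem isCharacter_resN (θ : IrrCharacter K) : IsCharacter (K.subgroupOf C) (resN K C θ) :=
  Cfsg.Agent.Lib.Helper75_CharArith.isCharacter_comp (inclN K C) (isIrrCharacter_isCharacter θ.2)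

/-- **Key congruence.**  If the block `f` of `C` induces the block `B` of the characters over the
invariant character `θ` of the normal `p'`-subgroup `K`, then every constituent `β'` of the
restriction to `K ∩ C` of a member of `f` has multiplicity prime to `p` in `θ`. -/
theorem not_dvd_mult (hM : IsPModular p M) (hKp : ¬ p ∣ Nat.card K) {θ : IrrCharacter K}
    (hθ : ∀ g : G, IsConjCharOf K g (θ : K → ℂ) (θ : K → ℂ))
    {B : Set (IrrCharacter G)} {f : Set (IrrCharacter C)} (hind : IsInducedBlock M C f B)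
    {χ : IrrCharacter G} (hχ : χ ∈ B)
    (hχθ : classInner (fun k : K => (χ : G → ℂ) k) (θ : K → ℂ) ≠ 0)
    {ξ : IrrCharacter C} (hξ : ξ ∈ f) (β' : IrrCharacter (K.subgroupOf C))
    (hβ' : classInner (fun n : K.subgroupOf C => (ξ : C → ℂ) n) (β' : K.subgroupOf C → ℂ) ≠ 0) :
    ∃ m : ℕ, classInner (resN K C θ) (β' : K.subgroupOf C → ℂ) = (m : ℂ) ∧ ¬ p ∣ m := by
  classical
  have hMp := isPrime_of_isPModular hM
  haveI hNn : (K.subgroupOf C).Normal := hK.subgroupOf C
  obtain ⟨m, hm⟩ := Cfsg.Agent.Lib.Helper75_CharArith.classInner_isCharacter_nat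
    (isCharacter_resN K C θ) (isIrrCharacter_isCharacter β'.2)
  refine ⟨m, hm, ?_⟩
  intro hpm
  -- the class function `a = e_θ`
  have hF := cj_idemF K hθ
  have ha : IsClassFunction G (extZero K (idemF K θ)) := extZero_isClassFunction K _ hF
  have haR : ∀ g, MemLocalRing M (extZero K (idemF K θ) g) :=
    memLocalRing_extZero K hMp _ (idemF_memLocalRing K hM hKp θ)
  have h1 := (Cfsg.Agent.Lib.Helper78_InducedTrans.isInducedBlock_iff_omega hMp C hind.1
    hind.2.1).mp hind ξ hξ χ hχ _ ha haR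
  rw [omega_extZero_eq K χ θ hχθ _ hF, omega_idemF] at h1
  have h2 : (fun h : C => extZero K (idemF K θ) (h : G)) =
      extZero (K.subgroupOf C) (idemFN K C θ) := funext (extZero_restrict K C θ)
  rw [h2, omega_extZero_eq (K.subgroupOf C) ξ β' hβ' _ (cj_idemFN K C hθ), omega_idemFN] at h1
  -- the multiplicity
  have h3 : classInner (β' : K.subgroupOf C → ℂ) (resN K C θ) = (m : ℂ) := by
    rw [← Cfsg.Agent.Lib.Helper3_CharOrtho.classInner_conj_symm, hm, Complex.conj_natCast]
  rw [h3] at h1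
  -- degrees
  have hθ1 := (isIrrCharacter_one_eq_charDegree θ.2).1
  have hβ1 := (isIrrCharacter_one_eq_charDegree β'.2).1
  set d := charDegree (β' : K.subgroupOf C → ℂ) with hd
  have hdN : d ∣ Nat.card (K.subgroupOf C) :=
    Cfsg.Agent.Lib.Helper77_BlockBasics.charDegree_dvd_card β'
  have hNK : Nat.card (K.subgroupOf C) ∣ Nat.card K := by
    have : Nat.card (K.subgroupOf C) = Nat.card ↥(K ⊓ C) := by
      rw [← Subgroup.inf_subgroupOf_right]
      exact Nat.card_congr (Subgroup.subgroupOfEquivOfLe inf_le_right).toEquiv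
    rw [this]
    exact Subgroup.card_dvd_of_le inf_le_left
  have hpd : ¬ p ∣ Nat.card K * d := by
    intro h
    rcases (Nat.Prime.dvd_mul (Fact.out : p.Prime)).mp h with h | h
    · exact hKp h
    · exact hKp (dvd_trans h (dvd_trans hdN hNK))
  have h4 : MemLocalIdeal M ((θ : K → ℂ) 1 * (Nat.card (K.subgroupOf C) : ℂ) * (m : ℂ) /
      ((Nat.card K : ℂ) * (β' : K.subgroupOf C → ℂ) 1)) := by
    rw [hθ1, hβ1]
    have e : ((charDegree (θ : K → ℂ) : ℕ) : ℂ) * (Nat.card (K.subgroupOf C) : ℂ) * (m : ℂ) /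
        ((Nat.card K : ℂ) * (d : ℂ)) =
        (((charDegree (θ : K → ℂ) * Nat.card (K.subgroupOf C) : ℕ) : ℂ) /
          ((Nat.card K * d : ℕ) : ℂ)) * (m : ℂ) := by
      push_cast
      ring
    rw [e]
    exact memLocalIdeal_mul_left hMp (memLocalRing_natCast_div hM _ hpd)
      ((memLocalIdeal_natCast_iff hM m).mpr hpm)
  have h5 := memLocalIdeal_sub hMp h4 h1
  rw [sub_sub_cancel] at h5
  exact not_memLocalIdeal_one hMp h5

end Restrict


section Glauberman

variable (K : Subgroup G) [hK : K.Normal] [Fintype K]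

/-- `K.subgroupOf C ≃* K ⊓ C`. -/
def equivInf (C : Subgroup G) : K.subgroupOf C ≃* ↥(K ⊓ C) where
  toFun n := ⟨((n : C) : G), ⟨Subgroup.mem_subgroupOf.mp n.2, (n : C).2⟩⟩
  invFun k := ⟨⟨(k : G), k.2.2⟩, Subgroup.mem_subgroupOf.mpr k.2.1⟩
  left_inv _ := rfl
  right_inv _ := rfl
  map_mul' _ _ := rfl

/-- **Glauberman correspondent.**  For a `p`-subgroup `R` and `C = C_G(R)`, exactly one irreducible
character of `C_K(R)` occurs in the `G`-invariant irreducible character `θ` of the normal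
`p'`-subgroup `K` with multiplicity prime to `p`. -/
theorem existsUnique_mult (hKp : ¬ p ∣ Nat.card K) (θ : IrrCharacter K)
    (hθ : ∀ g : G, IsConjCharOf K g (θ : K → ℂ) (θ : K → ℂ)) (R : Subgroup G)
    (hR : IsPGroup p R) (C : Subgroup G) (hC : C = Subgroup.centralizer (R : Set G))
    [Fintype (K.subgroupOf C)] :
    ∃! β' : IrrCharacter (K.subgroupOf C), ∃ m : ℕ,
      classInner (resN K C θ) (β' : K.subgroupOf C → ℂ) = (m : ℂ) ∧ ¬ p ∣ m := by
  classical
  haveI : Fintype ↥(K ⊓ C) := Fintype.ofFinite _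
  have hcop : (Nat.card K).Coprime (Nat.card R) :=
    (Cfsg.Agent.Lib.Helper78_FongGroup.coprime_card_of_isPGroup hR hKp).symm
  have hS := (Cfsg.Agent.S4444.result K R (fun s _ g hg => hK.conj_mem g hg s) hcop p
    (Fact.out : p.Prime) hR (K ⊓ C) (by rw [hC]) inf_le_left).1 θ
    (fun s _ g g' hgg' => hθ s g g' hgg')
  have key : ∀ β' : IrrCharacter (K.subgroupOf C),
      classInner (fun c : ↥(K ⊓ C) => (θ : K → ℂ) ⟨c, c.2.1⟩)
        (irrComp (equivInf K C).symm β' : ↥(K ⊓ C) → ℂ) =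
      classInner (resN K C θ) (β' : K.subgroupOf C → ℂ) := by
    intro β'
    have h := Cfsg.Agent.Lib.Helper75_Clifford.classInner_comp_equiv (equivInf K C)
      (fun c : ↥(K ⊓ C) => (θ : K → ℂ) ⟨c, c.2.1⟩)
      (irrComp (equivInf K C).symm β' : ↥(K ⊓ C) → ℂ)
    rw [← h]
    congr 1
  obtain ⟨β, ⟨m, hm, hpm⟩, huniq⟩ := hS
  refine ⟨irrComp (equivInf K C) β, ⟨m, ?_, hpm⟩, ?_⟩
  · rw [← key, irrComp_symm_irrComp]
    exact hm
  · rintro β' ⟨m', hm', hpm'⟩
    have := huniq (irrComp (equivInf K C).symm β') ⟨m', by rw [← hm', ← key], hpm'⟩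
    rw [← this, irrComp_irrComp_symm]


omit [Fintype G] [Fintype K] in
/-- The unique constituent of `θ` on `K ∩ C` with multiplicity prime to `p` is `C`-invariant. -/
theorem isConjCharOf_of_unique {θ : IrrCharacter K}
    (hθ : ∀ g : G, IsConjCharOf K g (θ : K → ℂ) (θ : K → ℂ)) (C : Subgroup G)
    [Fintype (K.subgroupOf C)] (β₀ : IrrCharacter (K.subgroupOf C)) (m : ℕ)
    (hm : classInner (resN K C θ) (β₀ : K.subgroupOf C → ℂ) = (m : ℂ)) (hpm : ¬ p ∣ m)
    (huniq : ∀ y : IrrCharacter (K.subgroupOf C), (∃ m : ℕ,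
      classInner (resN K C θ) (y : K.subgroupOf C → ℂ) = (m : ℂ) ∧ ¬ p ∣ m) → y = β₀) (c : C) :
    IsConjCharOf (K.subgroupOf C) c (β₀ : K.subgroupOf C → ℂ) (β₀ : K.subgroupOf C → ℂ) := by
  haveI hNn : (K.subgroupOf C).Normal := hK.subgroupOf C
  intro n n' hn'
  set α : K.subgroupOf C ≃* K.subgroupOf C := MulAut.conjNormal c with hα
  have h1 : classInner (resN K C θ) (irrComp α β₀ : K.subgroupOf C → ℂ) = (m : ℂ) := by
    have h := Cfsg.Agent.Lib.Helper75_Clifford.classInner_comp_equiv α (resN K C θ)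
      (β₀ : K.subgroupOf C → ℂ)
    have h2 : (fun n => resN K C θ (α n)) = resN K C θ := by
      funext n
      unfold resN
      apply hθ (c : G)
      show (((α n : K.subgroupOf C) : C) : G) = _
      rw [hα, MulAut.conjNormal_apply]
      simp
    rw [h2] at h
    exact h.trans hm
  have h3 := huniq (irrComp α β₀) ⟨m, h1, hpm⟩
  have h4 : n' = α n := by
    apply Subtype.ext
    rw [hn', hα, MulAut.conjNormal_apply]
  rw [h4]
  exact congrFun (congrArg Subtype.val h3) n

end Glauberman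

end Cfsg.Agent.Lib.Helper78_FongGlauberman
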