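import Mathlib
import Cfsg.Agent.Lib.Helper78_FongGlauberman

/-!
# The block over an invariant character of `O_{p'}(G)` in a `p`-constrained group is of principal
type (helper78)

`principal_type`: `K ⊴ G` a `p'`-group with `G/K` of characteristic `p`, `θ` a `G`-invariant
irreducible character of `K`, `B` the set of irreducible characters over `θ`, assumed to be a block
with the Sylow `p`-subgroups as defect groups.  Then for every `p`-subgroup `R` exactly one block
of `C_G(R)` induces `B`.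
-/

set_option autoImplicit false

namespace Cfsg.Agent.Lib.Helper78_FongPrincipal

open Cfsg Cfsg.Agent.Lib.Helper78_LocalRing Cfsg.Agent.Lib.Helper78_CentralChar
  Cfsg.Agent.Lib.Helper78_FongGlauberman Cfsg.Agent.Lib.Helper78_FongGroup
  Cfsg.Agent.Lib.Helper78_FongCore Cfsg.Agent.Lib.Helper49_CharP

universe u

variable {G : Type u} [Group G] [Fintype G] {p : ℕ} [Fact p.Prime] {M : Ideal AlgInt}

theorem principal_type_aux (hM : IsPModular p M) (K : Subgroup G) [hK : K.Normal] [Fintype K]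
    (hKp : ¬ p ∣ Nat.card K) (hY : IsCharP p (G ⧸ K)) (θ : IrrCharacter K)
    (hθ : ∀ g : G, IsConjCharOf K g (θ : K → ℂ) (θ : K → ℂ))
    (B : Set (IrrCharacter G))
    (hBdef : ∀ χ : IrrCharacter G, χ ∈ B ↔
      classInner (fun k : K => (χ : G → ℂ) k) (θ : K → ℂ) ≠ 0)
    (hB : IsPBlock M B) (hSyl : ∀ S : Sylow p G, IsDefectGroup p M B S)
    (R : Subgroup G) (hR : IsPGroup p R) (C : Subgroup G)
    (hC : C = Subgroup.centralizer (R : Set G)) :
    ∃! f : Set (IrrCharacter C), IsInducedBlock M C f B := by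
  classical
  have hMp := isPrime_of_isPModular hM
  haveI : Fintype C := Fintype.ofFinite _
  haveI hNn : (K.subgroupOf C).Normal := hK.subgroupOf C
  haveI : Fintype (K.subgroupOf C) := Fintype.ofFinite _
  have hNK : Nat.card (K.subgroupOf C) ∣ Nat.card K := by
    have : Nat.card (K.subgroupOf C) = Nat.card ↥(K ⊓ C) :=
      Nat.card_congr (equivInf K C).toEquiv
    rw [this]
    exact Subgroup.card_dvd_of_le inf_le_left
  have hNp : ¬ p ∣ Nat.card (K.subgroupOf C) := fun h => hKp (dvd_trans h hNK)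
  obtain ⟨β₀, ⟨m, hm, hpm⟩, huniq⟩ := existsUnique_mult K hKp θ hθ R hR C hC
  have hβinv : ∀ c : C, IsConjCharOf (K.subgroupOf C) c (β₀ : K.subgroupOf C → ℂ)
      (β₀ : K.subgroupOf C → ℂ) := isConjCharOf_of_unique K hθ C β₀ m hm hpm huniq
  -- the surjection of `C` onto `C_{G/K}(R̄)`
  set Rbar : Subgroup (G ⧸ K) := R.map (QuotientGroup.mk' K) with hRbar
  have hmem : ∀ c : C, ((QuotientGroup.mk' K).comp C.subtype) c ∈
      Subgroup.centralizer (Rbar : Set (G ⧸ K)) := by
    intro c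
    rw [Subgroup.mem_centralizer_iff]
    rintro _ ⟨r, hr, rfl⟩
    have hc : (c : G) ∈ Subgroup.centralizer (R : Set G) := hC ▸ c.2
    have := Subgroup.mem_centralizer_iff.mp hc r hr
    show QuotientGroup.mk' K r * QuotientGroup.mk' K (c : G) =
      QuotientGroup.mk' K (c : G) * QuotientGroup.mk' K r
    rw [← map_mul, ← map_mul, this]
  set π : C →* Subgroup.centralizer (Rbar : Set (G ⧸ K)) :=
    ((QuotientGroup.mk' K).comp C.subtype).codRestrict _ hmem with hπ
  have hπsurj : Function.Surjective π := by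
    intro z
    obtain ⟨c, hc, hcz⟩ := exists_lift_centralizer K hKp R hR (z : G ⧸ K) z.2
    exact ⟨⟨c, hC ▸ hc⟩, Subtype.ext hcz⟩
  have hker : π.ker = K.subgroupOf C := by
    ext c
    rw [MonoidHom.mem_ker, Subgroup.mem_subgroupOf, Subtype.ext_iff]
    show QuotientGroup.mk' K (c : G) = 1 ↔ _
    rw [QuotientGroup.mk'_apply, QuotientGroup.eq_one_iff]
  have hYC : IsCharP p ↥(Subgroup.centralizer (Rbar : Set (G ⧸ K))) :=
    isCharP_centralizer hY Rbar (hR.map _)
  obtain ⟨L, Q, hLn, hKL, hidx, hQL, hQp, hQS, hCQ⟩ :=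
    constrained_data (K.subgroupOf C) hNp π hπsurj hker hYC
  -- the block of `C` over `β₀`
  set B_C : Set (IrrCharacter C) :=
    {ξ | classInner (fun n : K.subgroupOf C => (ξ : C → ℂ) n) (β₀ : K.subgroupOf C → ℂ) ≠ 0}
    with hBC
  have hcore := core (K.subgroupOf C) hM hNp L hKL hidx Q hQL hQp hQS hCQ β₀ hβinv B_C
    (fun ξ => Iff.rfl)
  -- existence
  obtain ⟨S, hRS⟩ := hR.exists_le_sylow
  obtain ⟨g, hg, P, hSP⟩ := hSyl S
  have hgC : g ∈ C := by
    rw [hC, Subgroup.mem_centralizer_iff]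
    intro r hr
    have h1 : r ∈ Subgroup.centralizer ({g} : Set G) := by
      have := hRS hr
      rw [hSP] at this
      exact Subgroup.map_subtype_le _ this
    exact (Subgroup.mem_centralizer_iff.mp h1 g rfl).symm
  obtain ⟨f, hf, -⟩ := Cfsg.Agent.Lib.Helper78_BrCent.exists_block_inducing_centralizer
    (P := R) (H := C) hM hR (hC ▸ le_rfl) (hC ▸ le_rfl) hB ⟨g, hgC⟩ hg.2.1
  -- uniqueness
  have hall : ∀ f' : Set (IrrCharacter C), IsInducedBlock M C f' B → f' = B_C := by
    intro f' hf'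
    obtain ⟨ξ, hξ⟩ := isPBlock_nonempty hMp hf'.1
    obtain ⟨χ, hχ⟩ := isPBlock_nonempty hMp hB
    have hχθ := (hBdef χ).mp hχ
    have hξ1 : (fun n : K.subgroupOf C => (ξ : C → ℂ) n) 1 ≠ 0 := by
      show (ξ : C → ℂ) ((1 : K.subgroupOf C) : C) ≠ 0
      rw [Subgroup.coe_one]
      exact isIrrCharacter_one_ne_zero ξ.2
    obtain ⟨β', hβ'⟩ := Cfsg.Agent.Lib.Helper82_NormalSylowBlocks.exists_constituent
      (isClassFunction_res (K.subgroupOf C) ξ) hξ1
    have h1 := not_dvd_mult K C hM hKp hθ hf' hχ hχθ hξ β' hβ'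
    have h2 := huniq β' h1
    rw [h2] at hβ'
    exact isPBlock_eq_of_mem_of_mem hMp hf'.1 hcore.1 hξ hβ'
  refine ⟨f, hf, ?_⟩
  intro f' hf'
  rw [hall f' hf', hall f hf]

/-- **Principal type.** -/
theorem principal_type (hM : IsPModular p M) (K : Subgroup G) [hK : K.Normal] [Fintype K]
    (hKp : ¬ p ∣ Nat.card K) (hY : IsCharP p (G ⧸ K)) (θ : IrrCharacter K)
    (hθ : ∀ g : G, IsConjCharOf K g (θ : K → ℂ) (θ : K → ℂ))
    (B : Set (IrrCharacter G))
    (hBdef : ∀ χ : IrrCharacter G, χ ∈ B ↔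
      classInner (fun k : K => (χ : G → ℂ) k) (θ : K → ℂ) ≠ 0)
    (hB : IsPBlock M B) (hSyl : ∀ S : Sylow p G, IsDefectGroup p M B S)
    (R : Subgroup G) (hR : IsPGroup p R) :
    ∃! f : Set (IrrCharacter (Subgroup.centralizer (R : Set G))),
      IsInducedBlock M (Subgroup.centralizer (R : Set G)) f B :=
  principal_type_aux hM K hKp hY θ hθ B hBdef hB hSyl R hR _ rfl

end Cfsg.Agent.Lib.Helper78_FongPrincipal
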