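import Mathlib
import Cfsg.Agent.Lib.Helper78_InducedTrans
import Cfsg.Agent.Lib.Helper78_BrauerCorrOver
import Cfsg.Agent.Lib.Helper75_Clifford

/-!
# Bridges for the Harris–Knörr correspondence (helper78)

* `isInducedBlockIn_iff`: block induction computed inside a subgroup `H` (`IsInducedBlockIn`), read
  as block induction in the group `H`.
* The Brauer correspondence over a subgroup `H ⊇ N_G(P)` in terms of block induction:
  `fm_over_exists_induced`, `fm_over_exists_block`, `fm_over_unique`.
-/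

set_option autoImplicit false
set_option linter.unusedSectionVars false

namespace Cfsg.Agent.Lib.Helper78_HKBridge

open Cfsg Cfsg.Agent.Lib.Helper78_LocalRing Cfsg.Agent.Lib.Helper78_Osima
  Cfsg.Agent.Lib.Helper78_Transport Cfsg.Agent.Lib.Helper78_TransportBlocks
  Cfsg.Agent.Lib.Helper78_InducedTrans Cfsg.Agent.Lib.Helper78_FirstMain
  Cfsg.Agent.Lib.Helper78_BrauerCorrOver

universe u

variable {G : Type u} [Group G] {M : Ideal AlgInt} {p : ℕ}

/-- The induced central character computed inside `H`, read in the group `H`. -/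
theorem inducedCentralChar_comp {H K : Subgroup G} {K₁ : Subgroup H} (κ : K₁ ≃* K)
    (hκ : ∀ k : K₁, ((κ k : K) : G) = ((k : H) : G)) (ξ : K → ℂ) (h : H) :
    inducedCentralChar K₁ (ξ ∘ κ) h = inducedCentralCharIn H K ξ (h : G) := by
  unfold inducedCentralChar inducedCentralCharIn
  refine finsum_mem_eq_of_bijOn κ ⟨?_, ?_, ?_⟩ ?_
  · intro k hk
    obtain ⟨x, hx⟩ := isConj_iff.mp hk
    refine ⟨x⁻¹, ?_⟩
    rw [hκ, ← hx]
    push_cast
    group
  · intro a _ b _ hab
    exact κ.injective hab
  · rintro k ⟨x, hx⟩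
    refine ⟨κ.symm k, ?_, κ.apply_symm_apply k⟩
    show IsConj h _
    rw [isConj_iff]
    refine ⟨x⁻¹, ?_⟩
    apply Subtype.ext
    have h1 : (((κ.symm k : K₁) : H) : G) = (k : G) := by
      rw [← hκ, MulEquiv.apply_symm_apply]
    push_cast
    rw [h1, ← hx]
    group
  · intro k _
    simp only [Function.comp_apply, map_one]

theorem isInducedBlockIn_iff {H K : Subgroup G} {K₁ : Subgroup H} (κ : K₁ ≃* K)
    (hκ : ∀ k : K₁, ((κ k : K) : G) = ((k : H) : G))
    (e : Set (IrrCharacter K)) (f : Set (IrrCharacter H)) :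
    IsInducedBlockIn M H K e f ↔ IsInducedBlock M K₁ (mapBlock κ e) f := by
  constructor
  · rintro ⟨he, hf, h⟩
    refine ⟨isPBlock_mapBlock _ he, hf, ?_⟩
    rintro _ ⟨ξ, hξ, rfl⟩ χ hχ x
    have h1 : (irrComp κ ξ : K₁ → ℂ) = (ξ : K → ℂ) ∘ κ := rfl
    rw [h1, inducedCentralChar_comp κ hκ]
    exact h ξ hξ χ hχ x
  · rintro ⟨he, hf, h⟩
    have he' : IsPBlock M e := by
      have := isPBlock_mapBlock (M := M) κ.symm he
      rwa [mapBlock_symm_mapBlock] at this
    refine ⟨he', hf, ?_⟩
    intro ξ hξ χ hχ x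
    have h2 := h (irrComp κ ξ) (irrComp_mem_mapBlock κ hξ) χ hχ x
    have h1 : (irrComp κ ξ : K₁ → ℂ) = (ξ : K → ℂ) ∘ κ := rfl
    rwa [h1, inducedCentralChar_comp κ hκ] at h2

section FirstMainOver

variable [Finite G] [Fact p.Prime]

theorem fm_over_exists_induced (hM : IsPModular p M) (P H : Subgroup G) (hP : IsPGroup p P)
    (hH : Subgroup.normalizer (P : Set G) ≤ H) {c : Set (IrrCharacter H)} (hc : IsPBlock M c)
    (hcP : IsDefectGroup p M c (P.subgroupOf H)) :
    ∃ B : Set (IrrCharacter G), IsPBlock M B ∧ IsDefectGroup p M B P ∧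
      IsInducedBlock M H c B := by
  classical
  have := Fintype.ofFinite G
  have := Fintype.ofFinite H
  have := Fintype.ofFinite (Subgroup.normalizer (P : Set G))
  have := Fintype.ofFinite (Subgroup.normalizer ((P.subgroupOf H : Subgroup H) : Set H))
  have hMp := isPrime_of_isPModular hM
  have hP' : IsPGroup p (P.subgroupOf H) := hP.comap_subtype
  obtain ⟨b', hb', hb'P, hindc⟩ := firstMain_exists_block hM (P.subgroupOf H) hP' hc hcP
  have hb : IsPBlock M (mapBlock (normEquiv P H hH).symm b') := isPBlock_mapBlock _ hb'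
  have hbP := isDefectGroup_mapBlock (p := p) (M := M) (normEquiv P H hH).symm hb'P
  rw [map_normEquiv] at hbP
  obtain ⟨B, hB, hBP, hind⟩ := firstMain_induced hM P hP hb hbP
  have hindc' : IsInducedBlock M (Subgroup.normalizer ((P.subgroupOf H : Subgroup H) : Set H))
      (mapBlock (normEquiv P H hH) (mapBlock (normEquiv P H hH).symm b')) c := by
    rw [mapBlock_mapBlock_symm]
    exact hindc
  refine ⟨B, hB, hBP, ?_⟩
  exact (isInducedBlock_trans hMp (normEquiv P H hH) (normEquiv_coe P H hH) hB hindc').mpr hind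

theorem fm_over_exists_block (hM : IsPModular p M) (P H : Subgroup G) (hP : IsPGroup p P)
    (hH : Subgroup.normalizer (P : Set G) ≤ H) {B : Set (IrrCharacter G)} (hB : IsPBlock M B)
    (hBP : IsDefectGroup p M B P) :
    ∃ c : Set (IrrCharacter H), IsPBlock M c ∧ IsDefectGroup p M c (P.subgroupOf H) ∧
      IsInducedBlock M H c B := by
  classical
  have := Fintype.ofFinite G
  have := Fintype.ofFinite H
  have := Fintype.ofFinite (Subgroup.normalizer (P : Set G))
  have := Fintype.ofFinite (Subgroup.normalizer ((P.subgroupOf H : Subgroup H) : Set H))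
  have hMp := isPrime_of_isPModular hM
  have hP' : IsPGroup p (P.subgroupOf H) := hP.comap_subtype
  obtain ⟨b, hb, hbP, hind⟩ := firstMain_exists_block hM P hP hB hBP
  have hb' : IsPBlock M (mapBlock (normEquiv P H hH) b) := isPBlock_mapBlock _ hb
  have hb'P := isDefectGroup_mapBlock (p := p) (M := M) (normEquiv P H hH) hbP
  rw [map_normEquiv_symm] at hb'P
  obtain ⟨c, hc, hcP, hindc⟩ := firstMain_induced hM (P.subgroupOf H) hP' hb' hb'P
  refine ⟨c, hc, hcP, ?_⟩
  exact (isInducedBlock_trans hMp (normEquiv P H hH) (normEquiv_coe P H hH) hB hindc).mpr hind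

theorem fm_over_unique (hM : IsPModular p M) (P H : Subgroup G) (hP : IsPGroup p P)
    (hH : Subgroup.normalizer (P : Set G) ≤ H) {B : Set (IrrCharacter G)}
    {c₁ c₂ : Set (IrrCharacter H)}
    (hc₁P : IsDefectGroup p M c₁ (P.subgroupOf H)) (hc₂P : IsDefectGroup p M c₂ (P.subgroupOf H))
    (h₁ : IsInducedBlock M H c₁ B) (h₂ : IsInducedBlock M H c₂ B) : c₁ = c₂ := by
  classical
  have := Fintype.ofFinite G
  have := Fintype.ofFinite H
  have := Fintype.ofFinite (Subgroup.normalizer (P : Set G))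
  have := Fintype.ofFinite (Subgroup.normalizer ((P.subgroupOf H : Subgroup H) : Set H))
  have hMp := isPrime_of_isPModular hM
  have hB := h₁.2.1
  have hP' : IsPGroup p (P.subgroupOf H) := hP.comap_subtype
  obtain ⟨b'₁, hb'₁, hb'₁P, hind₁⟩ := firstMain_exists_block hM (P.subgroupOf H) hP' h₁.1 hc₁P
  obtain ⟨b'₂, hb'₂, hb'₂P, hind₂⟩ := firstMain_exists_block hM (P.subgroupOf H) hP' h₂.1 hc₂P
  -- transport to `N_G(P)`
  have key : ∀ (b' : Set (IrrCharacter (Subgroup.normalizer ((P.subgroupOf H : Subgroup H) :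
      Set H)))) (c : Set (IrrCharacter H)),
      IsInducedBlock M (Subgroup.normalizer ((P.subgroupOf H : Subgroup H) : Set H)) b' c →
      IsInducedBlock M H c B →
      IsInducedBlock M (Subgroup.normalizer (P : Set G))
        (mapBlock (normEquiv P H hH).symm b') B := by
    intro b' c hind hc
    have hind' : IsInducedBlock M (Subgroup.normalizer ((P.subgroupOf H : Subgroup H) : Set H))
        (mapBlock (normEquiv P H hH) (mapBlock (normEquiv P H hH).symm b')) c := by
      rw [mapBlock_mapBlock_symm]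
      exact hind
    exact (isInducedBlock_trans hMp (normEquiv P H hH) (normEquiv_coe P H hH) hB hind').mp hc
  have k₁ := key b'₁ c₁ hind₁ h₁
  have k₂ := key b'₂ c₂ hind₂ h₂
  have d₁ := isDefectGroup_mapBlock (p := p) (M := M) (normEquiv P H hH).symm hb'₁P
  have d₂ := isDefectGroup_mapBlock (p := p) (M := M) (normEquiv P H hH).symm hb'₂P
  rw [map_normEquiv] at d₁ d₂
  have heq := firstMain_unique hM P hP hB (isPBlock_mapBlock _ hb'₁) d₁ k₁
    (isPBlock_mapBlock _ hb'₂) d₂ k₂
  have heq' : b'₁ = b'₂ := by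
    have := congrArg (mapBlock (normEquiv P H hH)) heq
    rwa [mapBlock_mapBlock_symm, mapBlock_mapBlock_symm] at this
  rw [heq'] at hind₁
  exact Cfsg.Agent.Lib.Helper78_Deficiency.isInducedBlock_unique hMp hind₁ hind₂

end FirstMainOver

end Cfsg.Agent.Lib.Helper78_HKBridge
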