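import Mathlib
import Cfsg.Agent.Lib.Helper78_KnorrGeneral

/-!
# Knörr's theorem, intersection form (helper78)

`knorr_inf`: `N` normal in `G`, `B` a block of `G` with defect group `P`.  Then some block `c` of `N`
covered by `B` is `P`-stable and has defect group `P ⊓ N`.
-/

set_option autoImplicit false
set_option linter.unusedSectionVars false

namespace Cfsg.Agent.Lib.Helper78_KnorrInf

open Cfsg Cfsg.Agent.Lib.Helper78_LocalRing Cfsg.Agent.Lib.Helper78_CharFacts
  Cfsg.Agent.Lib.Helper78_CentralChar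
  Cfsg.Agent.Lib.Helper16_Orbit Cfsg.Agent.Lib.Helper16_Cover
  Cfsg.Agent.Lib.Helper78_Transport Cfsg.Agent.Lib.Helper78_TransportBlocks
  Cfsg.Agent.Lib.Helper77_NormalPair Cfsg.Agent.Lib.Helper77_FongReynolds
  Cfsg.Agent.Lib.Helper78_KnorrGeneral

universe u

variable {G : Type u} [Group G] [Fintype G] {p : ℕ} [Fact p.Prime] {M : Ideal AlgInt}
  (N : Subgroup G) [hN : N.Normal] [Fintype N]

theorem cj_restrict {χ : G → ℂ} (hχ : IsClassFunction G χ) (g : G) :
    cj N g (fun n : N => χ n) = fun n : N => χ n := by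
  funext n
  unfold cj
  show χ ((MulAut.conjNormal g⁻¹ : MulAut N) n : N) = χ n
  rw [MulAut.conjNormal_apply]
  exact hχ _ _

theorem knorr_inf (hM : IsPModular p M) {B : Set (IrrCharacter G)} (hB : IsPBlock M B)
    {P : Subgroup G} (hP : IsDefectGroup p M B P) :
    ∃ c : Set (IrrCharacter N), IsPBlock M c ∧ (∀ x ∈ P, StabilizesBlock N c x) ∧
      (∃ χ ∈ B, ∃ θ ∈ c, classInner (fun n : N => (χ : G → ℂ) n) (θ : N → ℂ) ≠ 0) ∧
      IsDefectGroup p M c ((P ⊓ N).subgroupOf N) := by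
  classical
  have hMp := isPrime_of_isPModular hM
  obtain ⟨χ, hχ⟩ := isPBlock_nonempty hMp hB
  obtain ⟨θ, hθ⟩ := Cfsg.Agent.Lib.Helper77_StableCover.exists_under N χ
  set b : Set (IrrCharacter N) := blockOf M (θ : N → ℂ) with hbdef
  have hb : IsPBlock M b := isPBlock_blockOf θ
  have hθb : θ ∈ b := mem_blockOf_self hMp θ
  have hcov : ∃ χ ∈ B, ∃ θ ∈ b, classInner (fun n : N => (χ : G → ℂ) n) (θ : N → ℂ) ≠ 0 :=
    ⟨χ, hχ, θ, hθb, hθ⟩
  obtain ⟨Q', hQ'd⟩ := Cfsg.Agent.Lib.Helper78_Deficiency.exists_isDefectGroup hM hb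
  set Q : Subgroup G := Q'.map N.subtype with hQdef
  have hQN : Q ≤ N := by
    rintro _ ⟨x, -, rfl⟩
    exact x.2
  have hQsub : Q.subgroupOf N = Q' := by
    ext x
    rw [Subgroup.mem_subgroupOf, hQdef, Subgroup.mem_map]
    constructor
    · rintro ⟨y, hy, hyx⟩
      have : y = x := Subtype.ext hyx
      rwa [← this]
    · intro hx
      exact ⟨x, hx, rfl⟩
  have hQd : IsDefectGroup p M b (Q.subgroupOf N) := by rw [hQsub]; exact hQ'd
  obtain ⟨P₁, hP₁, hP₁N, hstab₁⟩ := knorr_general N hM hb hQN hQd hB hcov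
  obtain ⟨g, hg⟩ := Cfsg.Agent.Lib.Helper77_QuotDefect2.exists_conj_eq hM hB hP₁ hP
  set φ : N ≃* N := (MulAut.conjNormal g : MulAut N).symm with hφ
  have hφapply : ∀ n : N, ((φ n : N) : G) = g⁻¹ * (n : G) * g := by
    intro n
    have h1 : φ n = (MulAut.conjNormal g⁻¹ : MulAut N) n := by
      rw [hφ, map_inv]
      rfl
    rw [h1, MulAut.conjNormal_apply, inv_inv]
  have hφsymm : ∀ n : N, ((φ.symm n : N) : G) = g * (n : G) * g⁻¹ := by
    intro n
    rw [hφ, MulEquiv.symm_symm, MulAut.conjNormal_apply]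
  have hirr : ∀ ξ : IrrCharacter N, irrComp φ ξ = cjIrr N g ξ := by
    intro ξ
    apply Subtype.ext
    funext n
    show (ξ : N → ℂ) (φ n) = cj N g (ξ : N → ℂ) n
    unfold cj
    congr 1
  refine ⟨mapBlock φ b, isPBlock_mapBlock φ hb, ?_, ?_, ?_⟩
  · intro x hx
    rw [stabilizes_iff]
    rintro _ ⟨ξ, hξ, rfl⟩
    rw [hg] at hx
    obtain ⟨y, hy, rfl⟩ := hx
    have h1 : cjIrr N y ξ ∈ b := hstab₁ y hy ξ hξ
    refine ⟨cjIrr N y ξ, h1, ?_⟩
    rw [hirr, hirr, ← cjIrr_mul, ← cjIrr_mul]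
    congr 1
    simp only [MulEquiv.coe_toMonoidHom, MulAut.conj_apply]
    group
  · refine ⟨χ, hχ, irrComp φ θ, irrComp_mem_mapBlock φ hθb, ?_⟩
    rw [hirr]
    show classInner (fun n : N => (χ : G → ℂ) n) (cj N g (θ : N → ℂ)) ≠ 0
    have h1 := classInner_cj (N := N) g⁻¹ (fun n : N => (χ : G → ℂ) n) (θ : N → ℂ)
    rw [inv_inv, cj_restrict N (isIrrCharacter_isClassFunction χ.2)] at h1
    rw [← h1]
    exact hθ
  · have h1 := isDefectGroup_mapBlock (p := p) (M := M) φ hQ'd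
    have heq : Q'.map (φ.symm : N →* N) = (P ⊓ N).subgroupOf N := by
      ext n
      rw [Subgroup.mem_subgroupOf, Subgroup.mem_map]
      constructor
      · rintro ⟨q, hq, rfl⟩
        refine ⟨?_, (φ.symm q).2⟩
        rw [hg]
        have hqQ : (q : G) ∈ P₁ ⊓ N := by
          rw [hP₁N]
          exact ⟨q, hq, rfl⟩
        refine ⟨(q : G), hqQ.1, ?_⟩
        show (MulAut.conj g).toMonoidHom (q : G) = ((φ.symm q : N) : G)
        rw [hφsymm]
        simp
      · intro hn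
        have hnP := hn.1
        rw [hg] at hnP
        obtain ⟨y, hy, hyn⟩ := hnP
        have hyn' : g * y * g⁻¹ = (n : G) := by simpa using hyn
        have hyφ : ((φ n : N) : G) = y := by
          rw [hφapply, ← hyn']
          group
        have hyQ : y ∈ Q := by
          rw [← hP₁N]
          refine ⟨hy, ?_⟩
          rw [← hyφ]
          exact (φ n).2
        obtain ⟨q, hq, hqy⟩ := hyQ
        have hqφ : q = φ n := Subtype.ext (hqy.trans hyφ.symm)
        refine ⟨φ n, ?_, ?_⟩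
        · rw [← hqφ]
          exact hq
        · show φ.symm (φ n) = n
          rw [MulEquiv.symm_apply_apply]
    rwa [heq] at h1

end Cfsg.Agent.Lib.Helper78_KnorrInf
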