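import Mathlib
import Cfsg.Agent.Lib.Helper78_HKBridge
import Cfsg.Agent.Lib.Helper78_KnorrInf

/-!
# Induction of blocks and covering (helper78)

`covers_of_induced`: `N` normal in `G`, `H ≤ G`.  If the block `c` of `H` covers the block `e` of
`H ⊓ N`, `c` induces the block `B` of `G` and `e` induces (inside `N`) the block `d` of `N`, then
`B` covers `d`.
-/

set_option autoImplicit false
set_option linter.unusedSectionVars false

namespace Cfsg.Agent.Lib.Helper78_HKCover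

open Cfsg Cfsg.Agent.Lib.Helper78_LocalRing Cfsg.Agent.Lib.Helper78_Osima
  Cfsg.Agent.Lib.Helper78_CharFacts Cfsg.Agent.Lib.Helper78_CentralChar
  Cfsg.Agent.Lib.Helper16_Orbit Cfsg.Agent.Lib.Helper16_Cover
  Cfsg.Agent.Lib.Helper78_Transport Cfsg.Agent.Lib.Helper78_TransportBlocks
  Cfsg.Agent.Lib.Helper78_InducedTrans Cfsg.Agent.Lib.Helper78_HKBridge
  Cfsg.Agent.Lib.Helper77_FongReynolds Cfsg.Agent.Lib.Helper78_KnorrInf

universe u

variable {G : Type u} [Group G] {M : Ideal AlgInt} (N : Subgroup G) (H : Subgroup G)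

/-- `N ∩ H` as a subgroup of `H` and as a subgroup of `G`. -/
noncomputable def iotaH : ↥(N.subgroupOf H) ≃* ↥(H ⊓ N) where
  toFun n' := ⟨((n' : H) : G), ⟨(n' : H).2, n'.2⟩⟩
  invFun l := ⟨⟨(l : G), l.2.1⟩, l.2.2⟩
  left_inv _ := rfl
  right_inv _ := rfl
  map_mul' _ _ := rfl

theorem iotaH_coe (n' : ↥(N.subgroupOf H)) : ((iotaH N H n' : ↥(H ⊓ N)) : G) = ((n' : H) : G) :=
  rfl

theorem classInner_bridgeH [Fintype ↥(H ⊓ N)] [Fintype ↥(N.subgroupOf H)] (ψ : H → ℂ)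
    (ξ : ↥(H ⊓ N) → ℂ) :
    classInner (fun n' : N.subgroupOf H => ψ n') (ξ ∘ iotaH N H) =
      classInner (fun l : ↥(H ⊓ N) => ψ (Subgroup.inclusion inf_le_left l)) ξ :=
  Cfsg.Agent.Lib.Helper75_Clifford.classInner_comp_equiv (iotaH N H)
    (fun l : ↥(H ⊓ N) => ψ (Subgroup.inclusion inf_le_left l)) ξ

variable [Fintype G] [hN : N.Normal] [Fintype N] [Fintype H] [Fintype ↥(H ⊓ N)]

theorem covers_of_induced (hM : M.IsPrime) {c : Set (IrrCharacter H)}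
    {e : Set (IrrCharacter ↥(H ⊓ N))} {d : Set (IrrCharacter N)} {B : Set (IrrCharacter G)}
    (hcov : ∃ ψ ∈ c, ∃ ξ ∈ e, classInner (fun l : ↥(H ⊓ N) =>
      (ψ : H → ℂ) (Subgroup.inclusion inf_le_left l)) (ξ : ↥(H ⊓ N) → ℂ) ≠ 0)
    (hcB : IsInducedBlock M H c B) (hed : IsInducedBlockIn M N (H ⊓ N) e d) :
    ∃ χ ∈ B, ∃ θ ∈ d, classInner (fun n : N => (χ : G → ℂ) n) (θ : N → ℂ) ≠ 0 := by
  classical
  have hnH : (N.subgroupOf H).Normal := hN.subgroupOf H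
  have : Fintype ↥(N.subgroupOf H) := Fintype.ofFinite _
  have : Fintype ↥((H ⊓ N).subgroupOf N) := Fintype.ofFinite _
  obtain ⟨ψ, hψ, ξ, hξ, hψξ⟩ := hcov
  have hd := hed.2.1
  have hB := hcB.2.1
  have hc := hcB.1
  obtain ⟨χ, hχ⟩ := isPBlock_nonempty hM hB
  obtain ⟨θ, hθ⟩ := isPBlock_nonempty hM hd
  set z : N → ℂ := covF N d with hz
  have hzinv : ∀ x : G, cj N x z = z := cj_covF N d
  have hzR : ∀ n, MemLocalRing M (z n) := covF_memLocalRing N hM hd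
  have hzcl : IsClassFunction N z := blockCoeff_isClassFunction _
  set f : G → ℂ := extZero N z with hf
  have hfcl : IsClassFunction G f := extZero_isClassFunction N z hzinv
  have hfR : ∀ g, MemLocalRing M (f g) := memLocalRing_extZero N hM z hzR
  have a1 := (isInducedBlock_iff_omega hM H hc hB).mp hcB ψ hψ χ hχ f hfcl hfR
  set F' : ↥(N.subgroupOf H) → ℂ := fun n' => z ⟨((n' : H) : G), n'.2⟩ with hF'
  have hfH : (fun h : H => f h) = extZero (N.subgroupOf H) F' := by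
    funext h
    by_cases hh : (h : G) ∈ N
    · have hh' : h ∈ N.subgroupOf H := hh
      have e1 : extZero (N.subgroupOf H) F' h = F' ⟨h, hh'⟩ :=
        extZero_mem (N.subgroupOf H) F' ⟨h, hh'⟩
      rw [e1]
      exact extZero_mem N z ⟨h, hh⟩
    · have hh' : h ∉ N.subgroupOf H := hh
      rw [extZero_not_mem (N.subgroupOf H) F' hh']
      exact extZero_not_mem N z hh
  have hF'inv : ∀ x : H, cj (N.subgroupOf H) x F' = F' := by
    intro x
    funext n'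
    have h1 := congrFun (hzinv (x : G)) ⟨((n' : H) : G), n'.2⟩
    unfold cj at h1 ⊢
    show z _ = z ⟨((n' : H) : G), n'.2⟩
    rw [← h1]
    congr 1
  have a2 : omega (ψ : H → ℂ) (extZero (N.subgroupOf H) F') =
      omega ((ξ : ↥(H ⊓ N) → ℂ) ∘ iotaH N H) F' := by
    have h1 := omega_extZero_eq (N.subgroupOf H) ψ (irrComp (iotaH N H) ξ)
      (by
        show classInner (fun n' : N.subgroupOf H => (ψ : H → ℂ) n')
          ((ξ : ↥(H ⊓ N) → ℂ) ∘ iotaH N H) ≠ 0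
        rw [classInner_bridgeH]
        exact hψξ) F' hF'inv
    exact h1
  set F'' : ↥(H ⊓ N) → ℂ := fun l => z ⟨(l : G), l.2.2⟩ with hF''
  have a3 : omega ((ξ : ↥(H ⊓ N) → ℂ) ∘ iotaH N H) F' = omega (ξ : ↥(H ⊓ N) → ℂ) F'' := by
    have e2 : F' = F'' ∘ iotaH N H := rfl
    rw [e2, omega_comp]
  set κ := Subgroup.subgroupOfEquivOfLe (inf_le_right : H ⊓ N ≤ N) with hκdef
  have hκ : ∀ k : ↥((H ⊓ N).subgroupOf N), ((κ k : ↥(H ⊓ N)) : G) = ((k : N) : G) :=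
    fun k => rfl
  have hed' := (isInducedBlockIn_iff κ hκ e d).mp hed
  have a4 := (isInducedBlock_iff_omega hM ((H ⊓ N).subgroupOf N) hed'.1 hd).mp hed'
    (irrComp κ ξ) (irrComp_mem_mapBlock κ hξ) θ hθ z hzcl hzR
  have a5 : omega (irrComp κ ξ : ↥((H ⊓ N).subgroupOf N) → ℂ)
      (fun k : ↥((H ⊓ N).subgroupOf N) => z k) = omega (ξ : ↥(H ⊓ N) → ℂ) F'' := by
    have e1 : (irrComp κ ξ : ↥((H ⊓ N).subgroupOf N) → ℂ) = (ξ : ↥(H ⊓ N) → ℂ) ∘ κ := rfl
    have e2 : (fun k : ↥((H ⊓ N).subgroupOf N) => z k) = F'' ∘ κ := rfl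
    rw [e1, e2, omega_comp]
  have a6 : omega (θ : N → ℂ) z = 1 := by
    rw [hz, omega_covF, Set.indicator_of_mem (subset_gClosure N d hθ)]
  rw [hfH, a2, a3] at a1
  rw [a5, a6] at a4
  -- a1 : ω_ξ F'' - ω_χ f ∈ 𝔪,  a4 : ω_ξ F'' - 1 ∈ 𝔪
  have a7 : MemLocalIdeal M (1 - omega (χ : G → ℂ) f) := by
    have := memLocalIdeal_sub hM a1 a4
    have e : omega (ξ : ↥(H ⊓ N) → ℂ) F'' - omega (χ : G → ℂ) f -
        (omega (ξ : ↥(H ⊓ N) → ℂ) F'' - 1) = 1 - omega (χ : G → ℂ) f := by ring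
    rwa [e] at this
  obtain ⟨θ', hθ'⟩ := Cfsg.Agent.Lib.Helper77_StableCover.exists_under N χ
  have a8 : omega (χ : G → ℂ) f = (gClosure N d).indicator (fun _ => (1 : ℂ)) θ' := by
    rw [hf, omega_extZero_eq N χ θ' hθ' z hzinv, hz, omega_covF]
  by_cases hmem : θ' ∈ gClosure N d
  · obtain ⟨x, θ₀, hθ₀, hx⟩ := hmem
    refine ⟨χ, hχ, θ₀, hθ₀, ?_⟩
    have h1 := classInner_cj (N := N) x (fun n : N => (χ : G → ℂ) n) (θ' : N → ℂ)
    rw [cj_restrict N (isIrrCharacter_isClassFunction χ.2), hx, cj_inv_cj] at h1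
    rw [← h1, ← hx]
    exact hθ'
  · exfalso
    rw [a8, Set.indicator_of_notMem hmem, sub_zero] at a7
    exact not_memLocalIdeal_one hM a7

end Cfsg.Agent.Lib.Helper78_HKCover
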