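import Mathlib
import Cfsg.Agent.Lib.Helper78_HKCover
import Cfsg.Agent.Lib.Helper78_BrauerCorr
import Cfsg.Agent.Lib.Helper78_BrauerMap
import Cfsg.Agent.Lib.Helper78_Brauer

/-!
# The Harris–Knörr correspondence (helper78)

`N` normal in `G`, `Q ≤ N` a `p`-subgroup, `H = N_G(Q)`, `L = H ⊓ N = N_N(Q)`, `d` a block of `N` with
defect group `Q` and `e` the block of `L` with `e^N = d`.
-/

set_option autoImplicit false
set_option linter.unusedSectionVars false

namespace Cfsg.Agent.Lib.Helper78_HKMain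

open Cfsg Cfsg.Agent.Lib.Helper78_LocalRing Cfsg.Agent.Lib.Helper78_Osima
  Cfsg.Agent.Lib.Helper78_CharFacts Cfsg.Agent.Lib.Helper78_CentralChar
  Cfsg.Agent.Lib.Helper16_Orbit Cfsg.Agent.Lib.Helper16_Cover
  Cfsg.Agent.Lib.Helper78_Transport Cfsg.Agent.Lib.Helper78_TransportBlocks
  Cfsg.Agent.Lib.Helper78_InducedTrans Cfsg.Agent.Lib.Helper78_HKBridge
  Cfsg.Agent.Lib.Helper78_HKCover Cfsg.Agent.Lib.Helper78_BrauerMap
  Cfsg.Agent.Lib.Helper78_BrauerCorr Cfsg.Agent.Lib.Helper78_BrauerCorrOver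
  Cfsg.Agent.Lib.Helper77_FongReynolds Cfsg.Agent.Lib.Helper78_KnorrInf
  Cfsg.Agent.Lib.Helper78_KnorrGeneral

universe u

variable {G : Type u} [Group G] {M : Ideal AlgInt} {p : ℕ} (N : Subgroup G) (Q : Subgroup G)

/-- Membership in the normalizer of `Q ≤ N`, computed in `N`. -/
theorem mem_normalizer_subgroupOf_iff (hQN : Q ≤ N) (n : N) :
    n ∈ Subgroup.normalizer ((Q.subgroupOf N : Subgroup N) : Set N) ↔
      (n : G) ∈ Subgroup.normalizer (Q : Set G) := by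
  rw [Subgroup.mem_set_normalizer_iff, Subgroup.mem_set_normalizer_iff]
  constructor
  · intro h g
    constructor
    · intro hg
      have h1 := (h ⟨g, hQN hg⟩).mp (Subgroup.mem_subgroupOf.mpr hg)
      exact Subgroup.mem_subgroupOf.mp h1
    · intro hg
      have hgN : g ∈ N := by
        have h1 : (n : G) * g * (n : G)⁻¹ ∈ N := hQN hg
        have h2 := N.mul_mem (N.mul_mem (N.inv_mem n.2) h1) n.2
        have e : (n : G)⁻¹ * ((n : G) * g * (n : G)⁻¹) * (n : G) = g := by group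
        rwa [e] at h2
      have h1 := (h ⟨g, hgN⟩).mpr (Subgroup.mem_subgroupOf.mpr hg)
      exact Subgroup.mem_subgroupOf.mp h1
  · intro h m
    exact h (m : G)

/-- `N_N(Q)` as a subgroup of `N` and as the subgroup `N_G(Q) ⊓ N` of `G`. -/
noncomputable def kappaN (hQN : Q ≤ N) :
    ↥(Subgroup.normalizer ((Q.subgroupOf N : Subgroup N) : Set N)) ≃*
      ↥(Subgroup.normalizer (Q : Set G) ⊓ N) where
  toFun k := ⟨((k : N) : G), ⟨(mem_normalizer_subgroupOf_iff N Q hQN (k : N)).mp k.2, (k : N).2⟩⟩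
  invFun l := ⟨⟨(l : G), l.2.2⟩, (mem_normalizer_subgroupOf_iff N Q hQN ⟨(l : G), l.2.2⟩).mpr l.2.1⟩
  left_inv _ := rfl
  right_inv _ := rfl
  map_mul' _ _ := rfl

theorem kappaN_coe (hQN : Q ≤ N)
    (k : ↥(Subgroup.normalizer ((Q.subgroupOf N : Subgroup N) : Set N))) :
    ((kappaN N Q hQN k : ↥(Subgroup.normalizer (Q : Set G) ⊓ N)) : G) = ((k : N) : G) := rfl

section Star

variable [Finite G] [Fact p.Prime]

/-- The Brauer congruence between the idempotents of `d` and of its correspondent `e`. -/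
theorem br_congr (hM : IsPModular p M) (hQN : Q ≤ N) {d : Set (IrrCharacter N)}
    {e : Set (IrrCharacter ↥(Subgroup.normalizer (Q : Set G) ⊓ N))}
    (hdQ : IsDefectGroup p M d (Q.subgroupOf N))
    (hed : IsInducedBlockIn M N (Subgroup.normalizer (Q : Set G) ⊓ N) e d)
    (l : ↥(Subgroup.normalizer (Q : Set G) ⊓ N)) :
    ((l : G) ∈ Subgroup.centralizer (Q : Set G) →
      MemLocalIdeal M (blockCoeff d ⟨(l : G), l.2.2⟩ - blockCoeff e l)) ∧
    ((l : G) ∉ Subgroup.centralizer (Q : Set G) → MemLocalIdeal M (blockCoeff e l)) := by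
  classical
  have : Finite N := inferInstance
  have hMp := isPrime_of_isPModular hM
  have hed' := (isInducedBlockIn_iff (kappaN N Q hQN) (kappaN_coe N Q hQN) e d).mp hed
  have h1 := br_blockCoeff_sub_mem hM hdQ hed' ((kappaN N Q hQN).symm l)
  rw [blockCoeff_mapBlock, MulEquiv.apply_symm_apply] at h1
  have hmem : ((((kappaN N Q hQN).symm l :
      ↥(Subgroup.normalizer ((Q.subgroupOf N : Subgroup N) : Set N))) : N)) ∈
      Subgroup.centralizer ((Q.subgroupOf N : Subgroup N) : Set N) ↔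
      (l : G) ∈ Subgroup.centralizer (Q : Set G) :=
    mem_centralizer_subgroupOf hQN _
  constructor
  · intro hl
    rw [br_apply_of_mem _ (hmem.mpr hl)] at h1
    exact h1
  · intro hl
    rw [br_apply_of_notMem _ (fun h => hl (hmem.mp h)), zero_sub] at h1
    have := memLocalIdeal_neg h1
    rwa [neg_neg] at this

end Star

section ConjBlock

variable [hN : N.Normal]

/-- The automorphism `n ↦ g⁻¹ n g` of the normal subgroup `N`. -/
noncomputable def phiN (g : G) : N ≃* N := (MulAut.conjNormal g : MulAut N).symm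

theorem phiN_apply (g : G) (n : N) : ((phiN N g n : N) : G) = g⁻¹ * (n : G) * g := by
  have h1 : phiN N g n = (MulAut.conjNormal g⁻¹ : MulAut N) n := by
    unfold phiN
    rw [map_inv]
    rfl
  rw [h1, MulAut.conjNormal_apply, inv_inv]

theorem phiN_symm_apply (g : G) (n : N) : (((phiN N g).symm n : N) : G) = g * (n : G) * g⁻¹ := by
  unfold phiN
  rw [MulEquiv.symm_symm, MulAut.conjNormal_apply]

theorem irrComp_phiN (g : G) (θ : IrrCharacter N) : irrComp (phiN N g) θ = cjIrr N g θ := by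
  apply Subtype.ext
  funext n
  show (θ : N → ℂ) (phiN N g n) = cj N g (θ : N → ℂ) n
  unfold cj
  congr 1

theorem mapBlock_phiN_eq_image (g : G) (d : Set (IrrCharacter N)) :
    mapBlock (phiN N g) d = cjIrr N g '' d := by
  unfold mapBlock
  ext θ
  constructor
  · rintro ⟨θ₀, h, rfl⟩
    exact ⟨θ₀, h, (irrComp_phiN N g θ₀).symm⟩
  · rintro ⟨θ₀, h, rfl⟩
    exact ⟨θ₀, h, irrComp_phiN N g θ₀⟩

theorem mapBlock_phiN_mul_of_mem [Fintype G] [Fintype N] {n : G} (hn : n ∈ N) (g : G) (d : Set (IrrCharacter N)) :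
    mapBlock (phiN N (n * g)) d = mapBlock (phiN N g) d := by
  rw [mapBlock_phiN_eq_image, mapBlock_phiN_eq_image]
  ext θ
  constructor
  · rintro ⟨θ₀, h, rfl⟩
    refine ⟨θ₀, h, ?_⟩
    rw [cjIrr_mul]
    exact (Subtype.ext (Cfsg.Agent.Lib.Helper77_NormalPair.cj_eq_self_of_mem _ hn
      (isIrrCharacter_isClassFunction (cjIrr N g θ₀).2))).symm
  · rintro ⟨θ₀, h, rfl⟩
    refine ⟨θ₀, h, ?_⟩
    rw [cjIrr_mul]
    exact Subtype.ext (Cfsg.Agent.Lib.Helper77_NormalPair.cj_eq_self_of_mem _ hn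
      (isIrrCharacter_isClassFunction (cjIrr N g θ₀).2))

variable {N Q}

/-- The conjugate block has the conjugate defect group. -/
theorem isDefectGroup_conjBlock [Finite G] [Fact p.Prime] (hQN : Q ≤ N)
    {d : Set (IrrCharacter N)} (hdQ : IsDefectGroup p M d (Q.subgroupOf N)) (g : G) :
    IsDefectGroup p M (mapBlock (phiN N g) d)
      ((Q.map (MulAut.conj g).toMonoidHom).subgroupOf N) := by
  have h1 := isDefectGroup_mapBlock (p := p) (M := M) (phiN N g) hdQ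
  have heq : (Q.subgroupOf N).map ((phiN N g).symm : N →* N) =
      (Q.map (MulAut.conj g).toMonoidHom).subgroupOf N := by
    ext n
    rw [Subgroup.mem_subgroupOf, Subgroup.mem_map]
    constructor
    · rintro ⟨q, hq, rfl⟩
      refine ⟨(q : G), Subgroup.mem_subgroupOf.mp hq, ?_⟩
      show (MulAut.conj g).toMonoidHom (q : G) = (((phiN N g).symm q : N) : G)
      rw [phiN_symm_apply]
      simp
    · rintro ⟨y, hy, hyn⟩
      refine ⟨⟨y, hQN hy⟩, Subgroup.mem_subgroupOf.mpr hy, ?_⟩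
      apply Subtype.ext
      show (((phiN N g).symm ⟨y, hQN hy⟩ : N) : G) = (n : G)
      rw [phiN_symm_apply, ← hyn]
      simp
  rwa [heq] at h1

theorem mem_normalizer_of_map_conj_eq {h : G} (hh : Q.map (MulAut.conj h).toMonoidHom = Q) :
    h ∈ Subgroup.normalizer (Q : Set G) := by
  rw [Subgroup.mem_set_normalizer_iff]
  intro x
  constructor
  · intro hx
    have : h * x * h⁻¹ ∈ Q.map (MulAut.conj h).toMonoidHom := ⟨x, hx, by simp⟩
    rwa [hh] at this
  · intro hx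
    have hx' : h * x * h⁻¹ ∈ Q.map (MulAut.conj h).toMonoidHom := by rw [hh]; exact hx
    obtain ⟨y, hy, hyx⟩ := hx'
    have : y = x := by
      have h1 : h * y * h⁻¹ = h * x * h⁻¹ := by simpa using hyx
      have h2 := mul_right_cancel h1
      exact mul_left_cancel h2
    rwa [← this]

theorem map_conj_eq_of_mem_normalizer {h : G} (hh : h ∈ Subgroup.normalizer (Q : Set G)) :
    Q.map (MulAut.conj h).toMonoidHom = Q := by
  rw [Subgroup.mem_set_normalizer_iff] at hh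
  ext x
  constructor
  · rintro ⟨y, hy, rfl⟩
    simpa using (hh y).mp hy
  · intro hx
    refine ⟨h⁻¹ * x * h, ?_, ?_⟩
    · apply (hh _).mpr
      have e : h * (h⁻¹ * x * h) * h⁻¹ = x := by group
      rw [SetLike.mem_coe, e]
      exact hx
    · simp only [MulEquiv.coe_toMonoidHom, MulAut.conj_apply]
      group

/-- If a block of `N_N(Q)` induces a `G`-conjugate of `d`, the conjugating element can be taken in
`N_G(Q)`. -/
theorem exists_normalizer_conj [Fintype G] [Fintype N] [Fact p.Prime] (hM : IsPModular p M)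
    (hQ : IsPGroup p Q) (hQN : Q ≤ N) {d : Set (IrrCharacter N)} (hd : IsPBlock M d)
    (hdQ : IsDefectGroup p M d (Q.subgroupOf N))
    {e' : Set (IrrCharacter ↥(Subgroup.normalizer (Q : Set G) ⊓ N))} {d' : Set (IrrCharacter N)}
    (hed' : IsInducedBlockIn M N (Subgroup.normalizer (Q : Set G) ⊓ N) e' d') (g : G)
    (hd' : d' = mapBlock (phiN N g) d) :
    ∃ h ∈ Subgroup.normalizer (Q : Set G), d' = mapBlock (phiN N h) d := by
  classical
  have hMp := isPrime_of_isPModular hM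
  have he' := hed'.1
  have hd'b := hed'.2.1
  obtain ⟨D', hD'⟩ := Cfsg.Agent.Lib.Helper78_Deficiency.exists_isDefectGroup hM he'
  have hnorm : (Q.subgroupOf (Subgroup.normalizer (Q : Set G) ⊓ N)).Normal :=
    Subgroup.normal_subgroupOf_of_le_normalizer inf_le_left
  have hQLD : Q.subgroupOf (Subgroup.normalizer (Q : Set G) ⊓ N) ≤ D' :=
    Cfsg.Agent.Lib.Helper77_QuotDefect2.le_of_isDefectGroup hM
      (Q.subgroupOf (Subgroup.normalizer (Q : Set G) ⊓ N)) hQ.comap_subtype he' hD'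
  set κ := kappaN N Q hQN with hκ
  have hind' := (isInducedBlockIn_iff κ (kappaN_coe N Q hQN) e' d').mp hed'
  have hD'N := isDefectGroup_mapBlock (p := p) (M := M) κ hD'
  obtain ⟨E, hE, hDE⟩ := Cfsg.Agent.Lib.Helper78_Defect.exists_isDefectGroup_ge_of_induced hM _
    hind'.1 hd'b hind' _ hD'N
  have hQg := isDefectGroup_conjBlock (p := p) (M := M) hQN hdQ g
  rw [← hd'] at hQg
  obtain ⟨n, hn⟩ := Cfsg.Agent.Lib.Helper77_QuotDefect2.exists_conj_eq hM hd'b hQg hE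
  have hle : Q ≤ Q.map (MulAut.conj ((n : G) * g)).toMonoidHom := by
    intro q hq
    have hqL : q ∈ Subgroup.normalizer (Q : Set G) ⊓ N := ⟨Subgroup.le_normalizer hq, hQN hq⟩
    have h1 : (⟨q, hqL⟩ : ↥(Subgroup.normalizer (Q : Set G) ⊓ N)) ∈ D' :=
      hQLD (Subgroup.mem_subgroupOf.mpr hq)
    have h2 : (⟨q, hQN hq⟩ : N) ∈ E := by
      apply hDE
      refine ⟨κ.symm ⟨q, hqL⟩, ⟨⟨q, hqL⟩, h1, rfl⟩, rfl⟩
    rw [hn] at h2
    obtain ⟨x, hx, hxq⟩ := h2
    rw [SetLike.mem_coe, Subgroup.mem_subgroupOf] at hx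
    obtain ⟨y, hy, hyx⟩ := hx
    refine ⟨y, hy, ?_⟩
    have h3 : (n : G) * (x : G) * (n : G)⁻¹ = q := by
      have := congrArg Subtype.val hxq
      simpa using this
    have h4 : g * y * g⁻¹ = (x : G) := by simpa using hyx
    simp only [MulEquiv.coe_toMonoidHom, MulAut.conj_apply]
    rw [← h3, ← h4]
    group
  have heq : Q.map (MulAut.conj ((n : G) * g)).toMonoidHom = Q := by
    symm
    apply Subgroup.eq_of_le_of_card_ge hle
    rw [Subgroup.card_map_of_injective (MulAut.conj ((n : G) * g)).injective]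
  refine ⟨(n : G) * g, mem_normalizer_of_map_conj_eq heq, ?_⟩
  rw [hd', mapBlock_phiN_mul_of_mem N n.2]

end ConjBlock

section ConjL

variable {N Q} [hN : N.Normal]

theorem mem_normalizer_inf {H : Subgroup G} {h : G} (hh : h ∈ H) :
    h ∈ Subgroup.normalizer ((H ⊓ N : Subgroup G) : Set G) := by
  rw [Subgroup.mem_set_normalizer_iff]
  intro x
  constructor
  · rintro ⟨hx1, hx2⟩
    exact ⟨H.mul_mem (H.mul_mem hh hx1) (H.inv_mem hh), hN.conj_mem x hx2 h⟩
  · rintro ⟨hx1, hx2⟩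
    constructor
    · have h1 := H.mul_mem (H.mul_mem (H.inv_mem hh) hx1) hh
      have e : h⁻¹ * (h * x * h⁻¹) * h = x := by group
      rwa [e] at h1
    · have h1 := hN.conj_mem _ hx2 h⁻¹
      have e : h⁻¹ * (h * x * h⁻¹) * h⁻¹⁻¹ = x := by group
      rwa [e] at h1

/-- Covering is insensitive to conjugation inside `H`. -/
theorem classInner_conj {H : Subgroup G} [Fintype ↥(H ⊓ N)] {h : G} (hh : h ∈ H)
    (ψ : IrrCharacter H) (ξ : IrrCharacter ↥(H ⊓ N)) :
    classInner (fun l : ↥(H ⊓ N) => (ψ : H → ℂ) (Subgroup.inclusion inf_le_left l))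
      (irrComp (conjEquiv (H ⊓ N) h (mem_normalizer_inf hh)) ξ : ↥(H ⊓ N) → ℂ) =
    classInner (fun l : ↥(H ⊓ N) => (ψ : H → ℂ) (Subgroup.inclusion inf_le_left l))
      (ξ : ↥(H ⊓ N) → ℂ) := by
  have h1 := Cfsg.Agent.Lib.Helper75_Clifford.classInner_comp_equiv
    (conjEquiv (H ⊓ N) h (mem_normalizer_inf hh))
    (fun l : ↥(H ⊓ N) => (ψ : H → ℂ) (Subgroup.inclusion inf_le_left l)) (ξ : ↥(H ⊓ N) → ℂ)
  rw [← h1]
  congr 1
  funext l
  have h2 := isIrrCharacter_isClassFunction ψ.2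
    (Subgroup.inclusion (inf_le_left : H ⊓ N ≤ H) l) (⟨h, hh⟩ : H)⁻¹
  have e : Subgroup.inclusion (inf_le_left : H ⊓ N ≤ H)
      (conjEquiv (H ⊓ N) h (mem_normalizer_inf hh) l) =
      (⟨h, hh⟩ : H)⁻¹ * Subgroup.inclusion (inf_le_left : H ⊓ N ≤ H) l * ((⟨h, hh⟩ : H)⁻¹)⁻¹ := by
    apply Subtype.ext
    simp [conjEquiv_apply]
  show (ψ : H → ℂ) _ = (ψ : H → ℂ) _
  rw [e]
  exact h2.symm

/-- A block of `N_N(Q)` inducing the `h`-conjugate of `d`, `h ∈ N_G(Q)`, is the `h`-conjugate of the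
correspondent of `d`. -/
theorem eq_conj_of_induced [Fintype G] [Fintype N] [Fact p.Prime] (hM : IsPModular p M)
    (hQN : Q ≤ N) {d : Set (IrrCharacter N)}
    {e e' : Set (IrrCharacter ↥(Subgroup.normalizer (Q : Set G) ⊓ N))}
    (hdQ : IsDefectGroup p M d (Q.subgroupOf N))
    (hed : IsInducedBlockIn M N (Subgroup.normalizer (Q : Set G) ⊓ N) e d) {h : G}
    (hh : h ∈ Subgroup.normalizer (Q : Set G))
    (hed' : IsInducedBlockIn M N (Subgroup.normalizer (Q : Set G) ⊓ N) e'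
      (mapBlock (phiN N h) d)) :
    e' = mapBlock (conjEquiv (Subgroup.normalizer (Q : Set G) ⊓ N) h (mem_normalizer_inf hh)) e := by
  classical
  have hMp := isPrime_of_isPModular hM
  set σ := conjEquiv (Subgroup.normalizer (Q : Set G) ⊓ N) h (mem_normalizer_inf hh) with hσ
  have hd'Q : IsDefectGroup p M (mapBlock (phiN N h) d) (Q.subgroupOf N) := by
    have := isDefectGroup_conjBlock (p := p) (M := M) hQN hdQ h
    rwa [map_conj_eq_of_mem_normalizer hh] at this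
  refine eq_of_blockCoeff_congr hMp hed'.1 (isPBlock_mapBlock σ hed.1) fun l => ?_
  rw [blockCoeff_mapBlock]
  have hcoe : ((σ l : ↥(Subgroup.normalizer (Q : Set G) ⊓ N)) : G) = h⁻¹ * (l : G) * h :=
    conjEquiv_apply _ h _ l
  have hcent : ((σ l : ↥(Subgroup.normalizer (Q : Set G) ⊓ N)) : G) ∈
      Subgroup.centralizer (Q : Set G) ↔ (l : G) ∈ Subgroup.centralizer (Q : Set G) := by
    rw [hcoe]
    have := Cfsg.Agent.Lib.Helper78_Brauer.conj_mem_centralizer_iff_of_mem_normalizer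
      (P := Q) (x := h⁻¹) (h := (l : G)) (inv_mem hh)
    rwa [inv_inv] at this
  have b1 := br_congr N Q hM hQN hd'Q hed' l
  have b2 := br_congr N Q hM hQN hdQ hed (σ l)
  by_cases hl : (l : G) ∈ Subgroup.centralizer (Q : Set G)
  · have c1 := b1.1 hl
    have c2 := b2.1 (hcent.mpr hl)
    rw [blockCoeff_mapBlock] at c1
    have e1 : phiN N h ⟨(l : G), l.2.2⟩ =
        ⟨((σ l : ↥(Subgroup.normalizer (Q : Set G) ⊓ N)) : G), (σ l).2.2⟩ := by
      apply Subtype.ext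
      rw [phiN_apply, hcoe]
    rw [e1] at c1
    have c3 := memLocalIdeal_sub hMp c2 c1
    have e2 : blockCoeff d ⟨((σ l : ↥(Subgroup.normalizer (Q : Set G) ⊓ N)) : G), (σ l).2.2⟩ -
        blockCoeff e (σ l) -
        (blockCoeff d ⟨((σ l : ↥(Subgroup.normalizer (Q : Set G) ⊓ N)) : G), (σ l).2.2⟩ -
          blockCoeff e' l) = blockCoeff e' l - blockCoeff e (σ l) := by ring
    rwa [e2] at c3
  · have c1 := b1.2 hl
    have c2 := b2.2 (fun h' => hl (hcent.mp h'))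
    exact memLocalIdeal_sub hMp c1 c2

end ConjL

section Main

variable {N Q} [Fintype G] [hN : N.Normal] [Fintype N] [Fact p.Prime]
  [Fintype ↥(Subgroup.normalizer (Q : Set G) ⊓ N)]

theorem normalizer_le_of_inf_eq {P : Subgroup G} (hPN : P ⊓ N = Q) :
    Subgroup.normalizer (P : Set G) ≤ Subgroup.normalizer (Q : Set G) := by
  intro g hg
  rw [Subgroup.mem_set_normalizer_iff] at hg ⊢
  intro x
  rw [← hPN]
  constructor
  · rintro ⟨h1, h2⟩
    exact ⟨(hg x).mp h1, hN.conj_mem x h2 g⟩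
  · rintro ⟨h1, h2⟩
    refine ⟨(hg x).mpr h1, ?_⟩
    have h3 := hN.conj_mem _ h2 g⁻¹
    have e : g⁻¹ * (g * x * g⁻¹) * g⁻¹⁻¹ = x := by group
    rwa [e] at h3

/-- Surjectivity of the Harris–Knörr map. -/
theorem hk_exists (hM : IsPModular p M) (hQ : IsPGroup p Q) (hQN : Q ≤ N)
    {d : Set (IrrCharacter N)} (hd : IsPBlock M d)
    (hdQ : IsDefectGroup p M d (Q.subgroupOf N))
    {e : Set (IrrCharacter ↥(Subgroup.normalizer (Q : Set G) ⊓ N))}
    (hed : IsInducedBlockIn M N (Subgroup.normalizer (Q : Set G) ⊓ N) e d)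
    {B : Set (IrrCharacter G)} (hB : IsPBlock M B)
    (hcovB : ∃ χ ∈ B, ∃ θ ∈ d, classInner (fun n : N => (χ : G → ℂ) n) (θ : N → ℂ) ≠ 0) :
    ∃ c : Set (IrrCharacter ↥(Subgroup.normalizer (Q : Set G))), IsPBlock M c ∧
      (∃ ψ ∈ c, ∃ ξ ∈ e, classInner (fun l : ↥(Subgroup.normalizer (Q : Set G) ⊓ N) =>
        (ψ : ↥(Subgroup.normalizer (Q : Set G)) → ℂ) (Subgroup.inclusion inf_le_left l))
        (ξ : ↥(Subgroup.normalizer (Q : Set G) ⊓ N) → ℂ) ≠ 0) ∧
      IsInducedBlock M (Subgroup.normalizer (Q : Set G)) c B := by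
  classical
  have hMp := isPrime_of_isPModular hM
  have : Fintype ↥(Subgroup.normalizer (Q : Set G)) := Fintype.ofFinite _
  have hnH : (N.subgroupOf (Subgroup.normalizer (Q : Set G))).Normal := hN.subgroupOf _
  have : Fintype ↥(N.subgroupOf (Subgroup.normalizer (Q : Set G))) := Fintype.ofFinite _
  obtain ⟨P, hP, hPN, -⟩ := knorr_general N hM hd hQN hdQ hB hcovB
  have hPp := (Cfsg.Agent.Lib.Helper77_CentralDefect.card_of_isDefectGroup hM hB hP).1
  have hH : Subgroup.normalizer (P : Set G) ≤ Subgroup.normalizer (Q : Set G) :=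
    normalizer_le_of_inf_eq hPN
  obtain ⟨c, hc, hcP, hind⟩ := fm_over_exists_block hM P _ hPp hH hB hP
  refine ⟨c, hc, ?_, hind⟩
  obtain ⟨ψ, hψ⟩ := isPBlock_nonempty hMp hc
  obtain ⟨ξ', hξ'⟩ := Cfsg.Agent.Lib.Helper77_StableCover.exists_under
    (N.subgroupOf (Subgroup.normalizer (Q : Set G))) ψ
  set ι := iotaH N (Subgroup.normalizer (Q : Set G)) with hι
  set ξ : IrrCharacter ↥(Subgroup.normalizer (Q : Set G) ⊓ N) := irrComp ι.symm ξ' with hξ
  have hψξ : classInner (fun l : ↥(Subgroup.normalizer (Q : Set G) ⊓ N) =>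
      (ψ : ↥(Subgroup.normalizer (Q : Set G)) → ℂ) (Subgroup.inclusion inf_le_left l))
      (ξ : ↥(Subgroup.normalizer (Q : Set G) ⊓ N) → ℂ) ≠ 0 := by
    rw [← classInner_bridgeH]
    have e1 : (ξ : ↥(Subgroup.normalizer (Q : Set G) ⊓ N) → ℂ) ∘ ι =
        (ξ' : ↥(N.subgroupOf (Subgroup.normalizer (Q : Set G))) → ℂ) := by
      have := congrArg Subtype.val (irrComp_irrComp_symm ι ξ')
      exact this
    rw [e1]
    exact hξ'
  set e' : Set (IrrCharacter ↥(Subgroup.normalizer (Q : Set G) ⊓ N)) :=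
    blockOf M (ξ : ↥(Subgroup.normalizer (Q : Set G) ⊓ N) → ℂ) with he'def
  have he' : IsPBlock M e' := isPBlock_blockOf ξ
  have hξe' : ξ ∈ e' := mem_blockOf_self hMp ξ
  -- `e'` induces a block `d'` of `N`
  have : Fintype ↥(Subgroup.normalizer ((Q.subgroupOf N : Subgroup N) : Set N)) :=
    Fintype.ofFinite _
  obtain ⟨d', hind'⟩ := inducedBlockDefined (G := N) hM (P := Q.subgroupOf N)
    (H := Subgroup.normalizer ((Q.subgroupOf N : Subgroup N) : Set N)) hQ.comap_subtype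
    Subgroup.le_normalizer (Cfsg.Agent.Lib.Helper78_FirstMain.centralizer_le_normalizer _) le_rfl
    (isPBlock_mapBlock (kappaN N Q hQN) he')
  have hed' : IsInducedBlockIn M N (Subgroup.normalizer (Q : Set G) ⊓ N) e' d' :=
    (isInducedBlockIn_iff (kappaN N Q hQN) (kappaN_coe N Q hQN) e' d').mpr hind'
  have hd'b := hed'.2.1
  -- `B` covers `d'`
  obtain ⟨χ₂, hχ₂, θ₂, hθ₂, hχθ₂⟩ := covers_of_induced N (Subgroup.normalizer (Q : Set G)) hMp
    ⟨ψ, hψ, ξ, hξe', hψξ⟩ hind hed'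
  obtain ⟨χ₁, hχ₁, θ₁, hθ₁, hχθ₁⟩ := hcovB
  have hmem := mem_gClosure_of_sameBlock N hMp hd (isPBlock_sameBlock hMp hB hχ₁ hχ₂)
    (subset_gClosure N d hθ₁) hχθ₁ hχθ₂
  obtain ⟨g, θ₀, hθ₀, hg⟩ := hmem
  have hd'eq : d' = mapBlock (phiN N g) d := by
    refine isPBlock_eq_of_mem_of_mem hMp hd'b (isPBlock_mapBlock _ hd) hθ₂ ?_
    refine ⟨θ₀, hθ₀, ?_⟩
    rw [irrComp_phiN]
    exact Subtype.ext hg.symm
  obtain ⟨h, hh, hd'h⟩ := exists_normalizer_conj hM hQ hQN hd hdQ hed' g hd'eq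
  rw [hd'h] at hed'
  have he'eq := eq_conj_of_induced hM hQN hdQ hed hh hed'
  rw [he'eq] at hξe'
  obtain ⟨ξ₀, hξ₀, hξ₀ξ⟩ := hξe'
  refine ⟨ψ, hψ, ξ₀, hξ₀, ?_⟩
  rw [← classInner_conj hh ψ ξ₀, hξ₀ξ]
  exact hψξ

/-- Injectivity of the Harris–Knörr map (for a subgroup `H ⊇ N_G(Q)`). -/
theorem hk_unique_aux (H : Subgroup G) [Fintype ↥(H ⊓ N)]
    (hHQ : Subgroup.normalizer (Q : Set G) ≤ H)
    (hM : IsPModular p M) (hQ : IsPGroup p Q) (hQN : Q ≤ N)
    {e : Set (IrrCharacter ↥(H ⊓ N))} (he : IsPBlock M e)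
    (heQ : IsDefectGroup p M e (Q.subgroupOf (H ⊓ N)))
    {B : Set (IrrCharacter G)} {c₁ c₂ : Set (IrrCharacter ↥H)}
    (hcov₁ : ∃ ψ ∈ c₁, ∃ ξ ∈ e, classInner (fun l : ↥(H ⊓ N) =>
        (ψ : ↥H → ℂ) (Subgroup.inclusion inf_le_left l)) (ξ : ↥(H ⊓ N) → ℂ) ≠ 0)
    (hcov₂ : ∃ ψ ∈ c₂, ∃ ξ ∈ e, classInner (fun l : ↥(H ⊓ N) =>
        (ψ : ↥H → ℂ) (Subgroup.inclusion inf_le_left l)) (ξ : ↥(H ⊓ N) → ℂ) ≠ 0)
    (h₁ : IsInducedBlock M H c₁ B) (h₂ : IsInducedBlock M H c₂ B) : c₁ = c₂ := by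
  classical
  have hMp := isPrime_of_isPModular hM
  have hB := h₁.2.1
  have : Fintype ↥H := Fintype.ofFinite _
  have hnH : (N.subgroupOf H).Normal := hN.subgroupOf _
  have : Fintype ↥(N.subgroupOf H) := Fintype.ofFinite _
  set ι := iotaH N H with hι
  have hQH : Q ≤ H := Subgroup.le_normalizer.trans hHQ
  have heH : IsPBlock M (mapBlock ι e) := isPBlock_mapBlock ι he
  have hQHN : Q.subgroupOf H ≤ N.subgroupOf H := by
    intro x hx
    rw [Subgroup.mem_subgroupOf] at hx ⊢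
    exact hQN hx
  have hQe : IsDefectGroup p M (mapBlock ι e) ((Q.subgroupOf H).subgroupOf (N.subgroupOf H)) := by
    have h1 := isDefectGroup_mapBlock (p := p) (M := M) ι heQ
    have h2 : (Q.subgroupOf (H ⊓ N)).map (ι.symm : ↥(H ⊓ N) →* ↥(N.subgroupOf H)) =
        (Q.subgroupOf H).subgroupOf (N.subgroupOf H) := by
      ext n'
      rw [Subgroup.mem_subgroupOf, Subgroup.mem_subgroupOf]
      constructor
      · rintro ⟨q, hq, rfl⟩
        rw [SetLike.mem_coe, Subgroup.mem_subgroupOf] at hq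
        exact hq
      · intro hn'
        refine ⟨ι n', ?_, ?_⟩
        · rw [SetLike.mem_coe, Subgroup.mem_subgroupOf]
          exact hn'
        · show ι.symm (ι n') = n'
          rw [MulEquiv.symm_apply_apply]
    rwa [h2] at h1
  -- covering, read in `H`
  have hcovH : ∀ c : Set (IrrCharacter ↥H),
      (∃ ψ ∈ c, ∃ ξ ∈ e, classInner (fun l : ↥(H ⊓ N) =>
        (ψ : ↥H → ℂ) (Subgroup.inclusion inf_le_left l)) (ξ : ↥(H ⊓ N) → ℂ) ≠ 0) →
      ∃ ψ ∈ c, ∃ ξ' ∈ mapBlock ι e, classInner (fun n' : N.subgroupOf H => (ψ : ↥H → ℂ) n')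
        (ξ' : ↥(N.subgroupOf H) → ℂ) ≠ 0 := by
    rintro c ⟨ψ, hψ, ξ, hξ, h⟩
    refine ⟨ψ, hψ, irrComp ι ξ, irrComp_mem_mapBlock ι hξ, ?_⟩
    show classInner (fun n' : N.subgroupOf H => (ψ : ↥H → ℂ) n')
      ((ξ : ↥(H ⊓ N) → ℂ) ∘ ι) ≠ 0
    rw [classInner_bridgeH]
    exact h
  -- the defect groups from Knörr's theorem
  have key : ∀ c : Set (IrrCharacter ↥H), IsInducedBlock M H c B →
      (∃ ψ ∈ c, ∃ ξ ∈ e, classInner (fun l : ↥(H ⊓ N) =>
        (ψ : ↥H → ℂ) (Subgroup.inclusion inf_le_left l)) (ξ : ↥(H ⊓ N) → ℂ) ≠ 0) →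
      ∃ P : Subgroup ↥H, IsDefectGroup p M c P ∧ (P.map H.subtype) ⊓ N = Q ∧
        IsDefectGroup p M B (P.map H.subtype) := by
    intro c hcB hcov
    obtain ⟨P, hP, hPN, -⟩ := knorr_general (N.subgroupOf H) hM heH hQHN hQe hcB.1 (hcovH c hcov)
    have hPNQ : (P.map H.subtype) ⊓ N = Q := by
      ext x
      constructor
      · rintro ⟨⟨y, hy, rfl⟩, hxN⟩
        have h0 : y ∈ N.subgroupOf H := by rw [Subgroup.mem_subgroupOf]; exact hxN
        have h1 : y ∈ P ⊓ N.subgroupOf H := ⟨hy, h0⟩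
        rw [hPN, Subgroup.mem_subgroupOf] at h1
        exact h1
      · intro hx
        have h1 : (⟨x, hQH hx⟩ : ↥H) ∈ Q.subgroupOf H := by
          rw [Subgroup.mem_subgroupOf]
          exact hx
        rw [← hPN] at h1
        exact ⟨⟨⟨x, hQH hx⟩, h1.1, rfl⟩, hQN hx⟩
    refine ⟨P, hP, hPNQ, ?_⟩
    have hPp : IsPGroup p (P.map H.subtype) :=
      (Cfsg.Agent.Lib.Helper77_CentralDefect.card_of_isDefectGroup hM hcB.1 hP).1.map _
    have hsub : (P.map H.subtype).subgroupOf H = P := by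
      ext y
      rw [Subgroup.mem_subgroupOf]
      constructor
      · rintro ⟨z, hz, hzy⟩
        have : z = y := Subtype.ext hzy
        rwa [← this]
      · intro hy
        exact ⟨y, hy, rfl⟩
    obtain ⟨B', hB', hB'P, hind'⟩ := fm_over_exists_induced hM (P.map H.subtype) H hPp
      ((normalizer_le_of_inf_eq hPNQ).trans hHQ) hcB.1 (by rw [hsub]; exact hP)
    have : B' = B := Cfsg.Agent.Lib.Helper78_Deficiency.isInducedBlock_unique hMp hind' hcB
    rwa [this] at hB'P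
  obtain ⟨P₁, hP₁, hP₁N, hBP₁⟩ := key c₁ h₁ hcov₁
  obtain ⟨P₂, hP₂, hP₂N, hBP₂⟩ := key c₂ h₂ hcov₂
  obtain ⟨g, hg⟩ := Cfsg.Agent.Lib.Helper77_QuotDefect2.exists_conj_eq hM hB hBP₁ hBP₂
  -- `g` normalizes `Q`
  have hgH : g ∈ H := by
    apply hHQ
    apply mem_normalizer_of_map_conj_eq
    symm
    apply Subgroup.eq_of_le_of_card_ge
    · intro q hq
      have h1 : q ∈ (P₂.map H.subtype) ⊓ N := by rw [hP₂N]; exact hq
      rw [hg] at h1
      obtain ⟨⟨y, hy, hyq⟩, hqN⟩ := h1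
      have hyq' : g * y * g⁻¹ = q := by simpa using hyq
      refine ⟨y, ?_, hyq⟩
      rw [← hP₁N]
      refine ⟨hy, ?_⟩
      have h3 := hN.conj_mem _ hqN g⁻¹
      rw [← hyq'] at h3
      have e : g⁻¹ * (g * y * g⁻¹) * g⁻¹⁻¹ = y := by group
      rwa [e] at h3
    · rw [Subgroup.card_map_of_injective (MulAut.conj g).injective]
  -- `P₂` is a defect group of `c₁`
  have hP₂eq : P₂ = P₁.map (MulAut.conj (⟨g, hgH⟩ : ↥H)).toMonoidHom := by
    ext y
    constructor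
    · intro hy
      have h1 : (y : G) ∈ P₂.map H.subtype := ⟨y, hy, rfl⟩
      rw [hg] at h1
      obtain ⟨z, ⟨w, hw, rfl⟩, hzy⟩ := h1
      refine ⟨w, hw, ?_⟩
      apply Subtype.ext
      have : g * (w : G) * g⁻¹ = (y : G) := by simpa using hzy
      simpa using this
    · rintro ⟨w, hw, rfl⟩
      have h1 : (((MulAut.conj (⟨g, hgH⟩ : ↥H)).toMonoidHom w : ↥H) : G) ∈ P₂.map H.subtype := by
        rw [hg]
        refine ⟨(w : G), ⟨w, hw, rfl⟩, ?_⟩
        simp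
      obtain ⟨z, hz, hzw⟩ := h1
      have : z = (MulAut.conj (⟨g, hgH⟩ : ↥H)).toMonoidHom w := Subtype.ext hzw
      rwa [← this]
  have hc₁P₂ : IsDefectGroup p M c₁ P₂ := by
    rw [hP₂eq]
    exact Cfsg.Agent.Lib.Helper77_QuotDefect2.isDefectGroup_map_conj hM h₁.1 hP₁ _
  have hsub : (P₂.map H.subtype).subgroupOf H = P₂ := by
    ext y
    rw [Subgroup.mem_subgroupOf]
    constructor
    · rintro ⟨z, hz, hzy⟩
      have : z = y := Subtype.ext hzy
      rwa [← this]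
    · intro hy
      exact ⟨y, hy, rfl⟩
  have hPp : IsPGroup p (P₂.map H.subtype) :=
    (Cfsg.Agent.Lib.Helper77_CentralDefect.card_of_isDefectGroup hM h₂.1 hP₂).1.map _
  exact fm_over_unique hM (P₂.map H.subtype) H hPp ((normalizer_le_of_inf_eq hP₂N).trans hHQ)
    (by rw [hsub]; exact hc₁P₂) (by rw [hsub]; exact hP₂) h₁ h₂

theorem hk_unique (hM : IsPModular p M) (hQ : IsPGroup p Q) (hQN : Q ≤ N)
    {e : Set (IrrCharacter ↥(Subgroup.normalizer (Q : Set G) ⊓ N))} (he : IsPBlock M e)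
    (heQ : IsDefectGroup p M e (Q.subgroupOf (Subgroup.normalizer (Q : Set G) ⊓ N)))
    {B : Set (IrrCharacter G)} {c₁ c₂ : Set (IrrCharacter ↥(Subgroup.normalizer (Q : Set G)))}
    (hcov₁ : ∃ ψ ∈ c₁, ∃ ξ ∈ e, classInner (fun l : ↥(Subgroup.normalizer (Q : Set G) ⊓ N) =>
        (ψ : ↥(Subgroup.normalizer (Q : Set G)) → ℂ) (Subgroup.inclusion inf_le_left l))
        (ξ : ↥(Subgroup.normalizer (Q : Set G) ⊓ N) → ℂ) ≠ 0)
    (hcov₂ : ∃ ψ ∈ c₂, ∃ ξ ∈ e, classInner (fun l : ↥(Subgroup.normalizer (Q : Set G) ⊓ N) =>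
        (ψ : ↥(Subgroup.normalizer (Q : Set G)) → ℂ) (Subgroup.inclusion inf_le_left l))
        (ξ : ↥(Subgroup.normalizer (Q : Set G) ⊓ N) → ℂ) ≠ 0)
    (h₁ : IsInducedBlock M (Subgroup.normalizer (Q : Set G)) c₁ B)
    (h₂ : IsInducedBlock M (Subgroup.normalizer (Q : Set G)) c₂ B) : c₁ = c₂ :=
  hk_unique_aux (Subgroup.normalizer (Q : Set G)) le_rfl hM hQ hQN he heQ hcov₁ hcov₂ h₁ h₂

end Main

end Cfsg.Agent.Lib.Helper78_HKMain
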