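import Mathlib
import Cfsg.Prelude.Def_Blocks
import Cfsg.Agent.Lib.Helper78_LocalRing
import Cfsg.Agent.Lib.Helper78_CentralChar
import Cfsg.Agent.Lib.Helper78_Osima
import Cfsg.Agent.Lib.Helper78_CharFacts
import Cfsg.Agent.Lib.Helper78_InducedTrans
import Cfsg.Agent.Lib.Helper77_NormalDefect
import Cfsg.Agent.S4835

/-!
# The idempotent of a normal subgroup of order prime to `p` and kernels of blocks (helper78)

For a normal subgroup `N` of the finite group `X`, `kerIdem N` is the function `|N|⁻¹ 1_N` (the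
coefficients of the central idempotent `|N|⁻¹ ∑_{n ∈ N} n`).  The central character of an
irreducible character `χ` takes the value `1` on it when `N ≤ ker χ` and `0` otherwise.  When `p`
does not divide `|N|` the function has local-integer values, so that

* `le_irrKer_iff_of_mem_block`: `N` lies in the kernel of one member of a block iff it lies in the
  kernel of all of them;
* `induced_ker_iff`: if the block `b` of `H ≤ X` induces the block `B` of `X` then `N ≤ ker B` iff
  `N ∩ H ≤ ker b`.
-/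

set_option autoImplicit false
set_option linter.unusedSectionVars false

namespace Cfsg.Agent.Lib.Helper78_KerIdem

open Cfsg Cfsg.Agent.Lib.Helper78_LocalRing Cfsg.Agent.Lib.Helper78_CentralChar
  Cfsg.Agent.Lib.Helper78_Osima Cfsg.Agent.Lib.Helper78_InducedTrans
open Cfsg.Agent.S4835 (irrKer mem_irrKer)

universe u

variable {X : Type u} [Group X] {M : Ideal AlgInt} {p : ℕ}

open Classical in
/-- The coefficients of the idempotent `|N|⁻¹ ∑_{n ∈ N} n`. -/
noncomputable def kerIdem (N : Subgroup X) : X → ℂ :=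
  fun x => if x ∈ N then (Nat.card N : ℂ)⁻¹ else 0

theorem kerIdem_of_mem (N : Subgroup X) {x : X} (hx : x ∈ N) :
    kerIdem N x = (Nat.card N : ℂ)⁻¹ := by
  unfold kerIdem
  rw [if_pos hx]

theorem kerIdem_of_notMem (N : Subgroup X) {x : X} (hx : x ∉ N) : kerIdem N x = 0 := by
  unfold kerIdem
  rw [if_neg hx]

theorem kerIdem_isClassFunction (N : Subgroup X) [hN : N.Normal] :
    IsClassFunction X (kerIdem N) := by
  intro g h
  by_cases hg : g ∈ N
  · rw [kerIdem_of_mem N hg, kerIdem_of_mem N (hN.conj_mem g hg h)]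
  · have : h * g * h⁻¹ ∉ N := fun hc => hg (by
      have := hN.conj_mem _ hc h⁻¹
      simpa [mul_assoc] using this)
    rw [kerIdem_of_notMem N hg, kerIdem_of_notMem N this]

theorem kerIdem_memLocalRing (hM : IsPModular p M) (N : Subgroup X)
    (hN : ¬ p ∣ Nat.card N) (x : X) : MemLocalRing M (kerIdem N x) := by
  have hMp := isPrime_of_isPModular hM
  by_cases hx : x ∈ N
  · rw [kerIdem_of_mem N hx]
    exact memLocalRing_inv_natCast hM hN
  · rw [kerIdem_of_notMem N hx]
    exact memLocalRing_zero hMp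

/-- The central character of `χ` at the idempotent of `N` is `1` or `0` according to whether `N`
lies in the kernel of `χ`. -/
theorem omega_kerIdem [Fintype X] (χ : IrrCharacter X) (N : Subgroup X) [N.Normal]
    [Decidable (N ≤ irrKer χ)] :
    omega (χ : X → ℂ) (kerIdem N) = if N ≤ irrKer χ then 1 else 0 := by
  classical
  have := Fintype.ofFinite N
  have h1 := Cfsg.Agent.Lib.Helper77_NormalDefect.sum_mul_normal χ N (1 : X)
  have hχ1 := isIrrCharacter_one_ne_zero χ.2
  have hN0 : (Nat.card N : ℂ) ≠ 0 := by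
    have : 0 < Nat.card N := Nat.card_pos
    exact_mod_cast this.ne'
  have hsum : ∑ g : X, kerIdem N g * (χ : X → ℂ) g =
      (Nat.card N : ℂ)⁻¹ * ∑ v : N, (χ : X → ℂ) (1 * (v : X)) := by
    have h2 : ∑ g : X, kerIdem N g * (χ : X → ℂ) g =
        ∑ g ∈ Finset.univ.filter (fun g : X => g ∈ N), (Nat.card N : ℂ)⁻¹ * (χ : X → ℂ) g := by
      rw [Finset.sum_filter]
      refine Finset.sum_congr rfl (fun g _ => ?_)
      by_cases hg : g ∈ N
      · rw [if_pos hg, kerIdem_of_mem N hg]
      · rw [if_neg hg, kerIdem_of_notMem N hg, zero_mul]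
    have h3 : ∑ g ∈ Finset.univ.filter (fun g : X => g ∈ N), (χ : X → ℂ) g =
        ∑ v : N, (χ : X → ℂ) (v : X) :=
      Finset.sum_subtype _ (fun g => by simp) _
    rw [h2, ← Finset.mul_sum, h3]
    congr 1
    refine Finset.sum_congr rfl (fun v _ => ?_)
    rw [one_mul]
  unfold omega
  rw [hsum, h1]
  split_ifs with h
  · rw [← mul_assoc, inv_mul_cancel₀ hN0, one_mul, div_self hχ1]
  · rw [mul_zero, zero_div]

/-- The central character of `χ` at the idempotent of `N` is `0` or `1`. -/
theorem omega_kerIdem_eq_one_iff [Fintype X] (χ : IrrCharacter X) (N : Subgroup X) [N.Normal] :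
    omega (χ : X → ℂ) (kerIdem N) = 1 ↔ N ≤ irrKer χ := by
  classical
  rw [omega_kerIdem χ N]
  split_ifs with h
  · simp [h]
  · simp [h]

theorem omega_kerIdem_eq_zero_iff [Fintype X] (χ : IrrCharacter X) (N : Subgroup X) [N.Normal] :
    omega (χ : X → ℂ) (kerIdem N) = 0 ↔ ¬ N ≤ irrKer χ := by
  classical
  rw [omega_kerIdem χ N]
  split_ifs with h
  · simp [h]
  · simp [h]

/-- Two characters in the same block have the same normal subgroups of order prime to `p` in their
kernels. -/
theorem le_irrKer_iff_of_sameBlock [Finite X] (hM : IsPModular p M) (N : Subgroup X) [N.Normal]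
    (hN : ¬ p ∣ Nat.card N) {χ χ' : IrrCharacter X}
    (hsb : SameBlock M (χ : X → ℂ) (χ' : X → ℂ)) : N ≤ irrKer χ ↔ N ≤ irrKer χ' := by
  classical
  have := Fintype.ofFinite X
  have hMp := isPrime_of_isPModular hM
  have h := memLocalIdeal_omega_sub hMp (isIrrCharacter_isClassFunction χ.2)
    (isIrrCharacter_isClassFunction χ'.2) hsb (kerIdem_isClassFunction N)
    (kerIdem_memLocalRing hM N hN)
  rw [omega_kerIdem χ N, omega_kerIdem χ' N] at h
  by_cases h1 : N ≤ irrKer χ <;> by_cases h2 : N ≤ irrKer χ'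
  · exact ⟨fun _ => h2, fun _ => h1⟩
  · exfalso
    rw [if_pos h1, if_neg h2, sub_zero] at h
    exact not_memLocalIdeal_one hMp h
  · exfalso
    rw [if_neg h1, if_pos h2, zero_sub] at h
    have := memLocalIdeal_neg h
    rw [neg_neg] at this
    exact not_memLocalIdeal_one hMp this
  · exact ⟨fun h' => absurd h' h1, fun h' => absurd h' h2⟩

theorem le_irrKer_iff_of_mem_block [Finite X] (hM : IsPModular p M) (N : Subgroup X) [N.Normal]
    (hN : ¬ p ∣ Nat.card N) {B : Set (IrrCharacter X)} (hB : IsPBlock M B)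
    {χ χ' : IrrCharacter X} (hχ : χ ∈ B) (hχ' : χ' ∈ B) : N ≤ irrKer χ ↔ N ≤ irrKer χ' :=
  le_irrKer_iff_of_sameBlock hM N hN (isPBlock_sameBlock (isPrime_of_isPModular hM) hB hχ hχ')

/-- The restriction of the idempotent of `N` to a subgroup `H` is a multiple of the idempotent of
`N ∩ H`. -/
theorem kerIdem_restrict [Finite X] (N H : Subgroup X) (h : H) :
    kerIdem N (h : X) =
      ((Nat.card (N.subgroupOf H) : ℂ) * (Nat.card N : ℂ)⁻¹) * kerIdem (N.subgroupOf H) h := by
  have hN0 : (Nat.card (N.subgroupOf H) : ℂ) ≠ 0 := by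
    have : 0 < Nat.card (N.subgroupOf H) := Nat.card_pos
    exact_mod_cast this.ne'
  by_cases hh : (h : X) ∈ N
  · rw [kerIdem_of_mem N hh, kerIdem_of_mem (N.subgroupOf H) (Subgroup.mem_subgroupOf.mpr hh)]
    field_simp
  · rw [kerIdem_of_notMem N hh,
      kerIdem_of_notMem (N.subgroupOf H) (fun hc => hh (Subgroup.mem_subgroupOf.mp hc)), mul_zero]

theorem card_subgroupOf_dvd [Finite X] (N H : Subgroup X) :
    Nat.card (N.subgroupOf H) ∣ Nat.card N := by
  have hinj : Function.Injective (fun n : N.subgroupOf H => (⟨((n : H) : X),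
      Subgroup.mem_subgroupOf.mp n.2⟩ : N)) := by
    intro a b hab
    have := congrArg Subtype.val hab
    exact Subtype.ext (Subtype.ext this)
  let φ : N.subgroupOf H →* N :=
    { toFun := fun n => ⟨((n : H) : X), Subgroup.mem_subgroupOf.mp n.2⟩
      map_one' := rfl
      map_mul' := fun _ _ => rfl }
  exact Subgroup.card_dvd_of_injective φ hinj

/-- The ratio `|N ∩ H| / |N|` is a unit of the local ring when `p` does not divide `|N|`. -/
theorem ratio_unit [Finite X] (hM : IsPModular p M) (N H : Subgroup X)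
    (hN : ¬ p ∣ Nat.card N) :
    MemLocalRing M ((Nat.card (N.subgroupOf H) : ℂ) * (Nat.card N : ℂ)⁻¹) ∧
      ¬ MemLocalIdeal M ((Nat.card (N.subgroupOf H) : ℂ) * (Nat.card N : ℂ)⁻¹) := by
  have hMp := isPrime_of_isPModular hM
  have hN' : ¬ p ∣ Nat.card (N.subgroupOf H) :=
    fun h => hN (dvd_trans h (card_subgroupOf_dvd N H))
  have h1 : MemLocalRing M (Nat.card (N.subgroupOf H) : ℂ) := memLocalRing_natCast hMp _
  have h2 : MemLocalRing M ((Nat.card N : ℂ)⁻¹) := memLocalRing_inv_natCast hM hN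
  refine ⟨memLocalRing_mul hMp h1 h2, fun hc => ?_⟩
  rcases (memLocalIdeal_mul_iff hMp h1 h2).mp hc with h | h
  · exact hN' ((memLocalIdeal_natCast_iff hM _).mp h)
  · have hN0 : (Nat.card N : ℂ) ≠ 0 := by
      have : 0 < Nat.card N := Nat.card_pos
      exact_mod_cast this.ne'
    have := memLocalIdeal_mul_left hMp (memLocalRing_natCast hMp (Nat.card N)) h
    rw [mul_inv_cancel₀ hN0] at this
    exact not_memLocalIdeal_one hMp this

/-- If `z` is a local unit and `t, t' ∈ {0, 1}` satisfy `z t' ≡ t`, then `t = 1 ↔ t' = 1`. -/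
theorem zero_one_congr (hMp : M.IsPrime) {z : ℂ} (_hz : MemLocalRing M z)
    (hz' : ¬ MemLocalIdeal M z) {a a' : Prop} [Decidable a] [Decidable a']
    (h : MemLocalIdeal M (z * (if a' then (1 : ℂ) else 0) - (if a then (1 : ℂ) else 0))) :
    a ↔ a' := by
  by_cases h1 : a <;> by_cases h2 : a'
  · exact ⟨fun _ => h2, fun _ => h1⟩
  · exfalso
    rw [if_pos h1, if_neg h2, mul_zero, zero_sub] at h
    have := memLocalIdeal_neg h
    rw [neg_neg] at this
    exact not_memLocalIdeal_one hMp this
  · exfalso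
    rw [if_neg h1, if_pos h2, mul_one, sub_zero] at h
    exact hz' h
  · exact ⟨fun h' => absurd h' h1, fun h' => absurd h' h2⟩

/-- If the block `b` of `H` induces the block `B` of `X` and `N` is a normal subgroup of `X` of order
prime to `p`, then `N` lies in the kernel of a member of `B` iff `N ∩ H` lies in the kernel of a
member of `b`. -/
theorem induced_ker_iff_aux [Finite X] (hM : IsPModular p M) {H : Subgroup X}
    {b : Set (IrrCharacter H)} {B : Set (IrrCharacter X)} (hind : IsInducedBlock M H b B)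
    (N : Subgroup X) [N.Normal] (hN : ¬ p ∣ Nat.card N) {χ : IrrCharacter X} (hχ : χ ∈ B)
    {ψ : IrrCharacter H} (hψ : ψ ∈ b) :
    N ≤ irrKer χ ↔ N.subgroupOf H ≤ irrKer ψ := by
  classical
  have := Fintype.ofFinite X
  have := Fintype.ofFinite H
  have hMp := isPrime_of_isPModular hM
  have h := (isInducedBlock_iff_omega hMp H hind.1 hind.2.1).mp hind ψ hψ χ hχ (kerIdem N)
    (kerIdem_isClassFunction N) (kerIdem_memLocalRing hM N hN)
  have hfun : (fun h : H => kerIdem N (h : X)) = fun h : H =>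
      ((Nat.card (N.subgroupOf H) : ℂ) * (Nat.card N : ℂ)⁻¹) * kerIdem (N.subgroupOf H) h := by
    funext h
    exact kerIdem_restrict N H h
  rw [hfun, omega_smul, omega_kerIdem ψ (N.subgroupOf H), omega_kerIdem χ N] at h
  obtain ⟨hu, hu'⟩ := ratio_unit hM N H hN
  exact zero_one_congr hMp hu hu' h

theorem induced_ker_iff [Finite X] (hM : IsPModular p M) {H : Subgroup X}
    {b : Set (IrrCharacter H)} {B : Set (IrrCharacter X)} (hind : IsInducedBlock M H b B)
    (N : Subgroup X) [N.Normal] (hN : ¬ p ∣ Nat.card N) :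
    (∀ χ ∈ B, N ≤ irrKer χ) ↔ (∀ ψ ∈ b, N.subgroupOf H ≤ irrKer ψ) := by
  have hMp := isPrime_of_isPModular hM
  obtain ⟨χ₀, hχ₀⟩ := isPBlock_nonempty hMp hind.2.1
  obtain ⟨ψ₀, hψ₀⟩ := isPBlock_nonempty hMp hind.1
  constructor
  · intro h ψ hψ
    exact (induced_ker_iff_aux hM hind N hN hχ₀ hψ).mp (h χ₀ hχ₀)
  · intro h χ hχ
    exact (induced_ker_iff_aux hM hind N hN hχ hψ₀).mpr (h ψ₀ hψ₀)

end Cfsg.Agent.Lib.Helper78_KerIdem
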