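import Mathlib
import Cfsg.Prelude.Def_Blocks
import Cfsg.Prelude.Def_BlockRank
import Cfsg.Prelude.Def_BrauerPairs
import Cfsg.Agent.Lib.Helper78_LocalRing
import Cfsg.Agent.Lib.Helper78_NilpotentPrincipal
import Cfsg.Agent.Lib.Helper35_FrobeniusNPC
import Cfsg.Agent.Lib.Helper16_BlockOrth
import Cfsg.Agent.Lib.Helper80_CharBasic
import Cfsg.Agent.S0938

/-!
# Nilpotency of the principal block and its `p`-regular rank (helper78)

* `isNilpotentBlock_principal_iff_blockRank` (S4646): the principal block is nilpotent iff its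
  `p`-regular rank is `1`.
-/

set_option autoImplicit false
set_option linter.unusedSectionVars false

namespace Cfsg.Agent.Lib.Helper78_NilpotentRank

open Cfsg Cfsg.Agent.Lib.Helper78_LocalRing
  Cfsg.Agent.Lib.Helper78_NilpotentPrincipal
  Cfsg.Agent.Lib.Helper35_FrobeniusNPC Cfsg.Agent.Lib.Helper16_BlockOrth
  Cfsg.Agent.Lib.Helper80_CharBasic

universe u

variable {G : Type u} [Group G] {M : Ideal AlgInt} {p : ℕ}

theorem pRegularPart_of_reg {χ : G → ℂ} {g : G} (hg : IsPRegular p g) :
    pRegularPart p χ g = χ g := by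
  unfold pRegularPart
  simp only [if_pos hg]

theorem pRegularPart_of_sing {χ : G → ℂ} {g : G} (hg : ¬ IsPRegular p g) :
    pRegularPart p χ g = 0 := by
  unfold pRegularPart
  simp only [if_neg hg]

theorem isPRegular_one [hp : Fact p.Prime] : IsPRegular p (1 : G) := by
  unfold IsPRegular
  rw [orderOf_one]
  exact hp.1.not_dvd_one

theorem oneIrr_mem_principalBlock (hMp : M.IsPrime) :
    oneIrr G ∈ principalBlock M G := by
  show SameBlock M _ _
  exact sameBlock_refl hMp _

/-- the `p`-regular part of the principal character -/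
noncomputable def v0 (p : ℕ) (G : Type u) [Group G] : G → ℂ :=
  pRegularPart p (fun _ : G => (1 : ℂ))

theorem v0_one [Fact p.Prime] : v0 p G 1 = 1 := by
  unfold v0
  rw [pRegularPart_of_reg isPRegular_one]

theorem v0_ne_zero [Fact p.Prime] : v0 p G ≠ 0 := by
  intro h
  have := congrFun h 1
  rw [v0_one] at this
  simp at this

theorem v0_mem (hMp : M.IsPrime) :
    v0 p G ∈ ((fun χ : IrrCharacter G => pRegularPart p (χ : G → ℂ)) '' principalBlock M G) :=
  ⟨oneIrr G, oneIrr_mem_principalBlock hMp, rfl⟩

/-- If every `p`-regular element lies in the kernel of the principal block, the rank is one. -/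
theorem blockRank_eq_one_of_reg_mem [Fact p.Prime] (hMp : M.IsPrime)
    (h : ∀ g : G, IsPRegular p g → g ∈ blockKer (principalBlock M G)) :
    blockRank p (principalBlock M G) = 1 := by
  unfold blockRank
  have hspan : Submodule.span ℂ ((fun χ : IrrCharacter G => pRegularPart p (χ : G → ℂ)) ''
      principalBlock M G) = Submodule.span ℂ {v0 p G} := by
    apply le_antisymm
    · rw [Submodule.span_le]
      rintro _ ⟨χ, hχ, rfl⟩
      have : pRegularPart p (χ : G → ℂ) = ((χ : G → ℂ) 1) • v0 p G := by
        funext g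
        by_cases hg : IsPRegular p g
        · rw [pRegularPart_of_reg hg, Pi.smul_apply]
          unfold v0
          rw [pRegularPart_of_reg hg, smul_eq_mul, mul_one]
          exact h g hg χ hχ
        · rw [pRegularPart_of_sing hg, Pi.smul_apply]
          unfold v0
          rw [pRegularPart_of_sing hg, smul_zero]
      show pRegularPart p (χ : G → ℂ) ∈ Submodule.span ℂ {v0 p G}
      rw [this]
      exact Submodule.smul_mem _ _ (Submodule.subset_span rfl)
    · rw [Submodule.span_le]
      rintro _ rfl
      exact Submodule.subset_span (v0_mem hMp)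
  rw [hspan]
  exact finrank_span_singleton v0_ne_zero

/-- If the rank is one, every `p`-regular element lies in the kernel of the principal block. -/
theorem reg_mem_of_blockRank_eq_one [Fact p.Prime] (hMp : M.IsPrime)
    (h : blockRank p (principalBlock M G) = 1) (g : G) (hg : IsPRegular p g) :
    g ∈ blockKer (principalBlock M G) := by
  unfold blockRank at h
  intro χ hχ
  set S := ((fun χ : IrrCharacter G => pRegularPart p (χ : G → ℂ)) '' principalBlock M G)
    with hS
  have hv0 : v0 p G ∈ Submodule.span ℂ S := Submodule.subset_span (v0_mem hMp)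
  have hnz : (⟨v0 p G, hv0⟩ : Submodule.span ℂ S) ≠ 0 := by
    intro h0
    exact v0_ne_zero (congrArg Subtype.val h0)
  have hall := (finrank_eq_one_iff_of_nonzero' (⟨v0 p G, hv0⟩ : Submodule.span ℂ S) hnz).mp h
  have hχm : pRegularPart p (χ : G → ℂ) ∈ Submodule.span ℂ S :=
    Submodule.subset_span ⟨χ, hχ, rfl⟩
  obtain ⟨c, hc⟩ := hall ⟨_, hχm⟩
  have hc' : c • v0 p G = pRegularPart p (χ : G → ℂ) := congrArg Subtype.val hc
  have h1 := congrFun hc' 1
  rw [Pi.smul_apply, v0_one, pRegularPart_of_reg isPRegular_one, smul_eq_mul, mul_one] at h1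
  have h2 := congrFun hc' g
  rw [Pi.smul_apply, pRegularPart_of_reg hg] at h2
  unfold v0 at h2
  rw [pRegularPart_of_reg hg, smul_eq_mul, mul_one] at h2
  rw [← h2, h1]

/-- **S4646**: the principal block is nilpotent iff its `p`-regular rank is `1`. -/
theorem isNilpotentBlock_principal_iff_blockRank [Finite G] [hp : Fact p.Prime]
    (hM : IsPModular p M) :
    IsNilpotentBlock p M (principalBlock M G) ↔ blockRank p (principalBlock M G) = 1 := by
  classical
  have := Fintype.ofFinite G
  have hMp := isPrime_of_isPModular hM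
  have hPG : IsPBlock M (principalBlock M G) := ⟨oneIrr G, rfl⟩
  obtain ⟨K, hKn, hKeq, hKp, -, hKmax⟩ :=
    Cfsg.Agent.S0938.result p M hM (principalBlock M G) hPG (oneIrr G)
      (oneIrr_mem_principalBlock hMp)
  rw [isNilpotentBlock_principal_iff_frobHyp hM]
  constructor
  · intro hF
    obtain ⟨K', hK'n, hK'c, n, hK'i⟩ := hasNPC_of_frobHyp hF
    have hle : K' ≤ K := by
      apply hKmax K' hK'n
      · intro hdvd
        have := Nat.Coprime.eq_one_of_dvd hK'c.symm hdvd
        exact hp.1.one_lt.ne' this
      · intro g _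
        rfl
    apply blockRank_eq_one_of_reg_mem hMp
    intro g hg
    have hgK' : g ∈ K' := by
      haveI := hK'n
      exact mem_of_coprime_order K' hK'i
        ((Nat.Prime.coprime_iff_not_dvd hp.1).mpr hg).symm
    have : g ∈ (K : Set G) := hle hgK'
    rwa [hKeq] at this
  · intro hr
    apply frobHyp_of_hasNPC
    have hreg : ∀ g : G, IsPRegular p g → g ∈ K := by
      intro g hg
      have := reg_mem_of_blockRank_eq_one hMp hr g hg
      rw [← hKeq] at this
      exact this
    haveI := hKn
    have hpg : IsPGroup p (G ⧸ K) := by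
      intro q
      obtain ⟨g, rfl⟩ := QuotientGroup.mk_surjective q
      obtain ⟨z, y, hzy, -, ⟨k, hk⟩, hy⟩ := exists_isPPart hp.1 g
      refine ⟨k, ?_⟩
      have hyK : y ∈ K := hreg y hy
      have : (g : G ⧸ K) = (z : G ⧸ K) := by
        rw [← hzy, QuotientGroup.mk_mul, (QuotientGroup.eq_one_iff y).mpr hyK, mul_one]
      rw [this, ← QuotientGroup.mk_pow, ← hk, pow_orderOf_eq_one]
      rfl
    obtain ⟨n, hn⟩ := IsPGroup.iff_card.mp hpg
    refine ⟨K, hKn, ?_, n, ?_⟩
    · exact ((Nat.Prime.coprime_iff_not_dvd hp.1).mpr hKp).symm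
    · rw [Subgroup.index_eq_card, hn]

end Cfsg.Agent.Lib.Helper78_NilpotentRank
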