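import Mathlib
import Cfsg.Prelude.Def_Blocks
import Cfsg.Prelude.Def_Local
import Cfsg.Agent.Lib.Helper78_KerIdem
import Cfsg.Agent.Lib.Helper78_NilpotentRank
import Cfsg.Agent.Lib.Helper78_Brauer503L
import Cfsg.Agent.Lib.Helper52_ZPL
import Cfsg.Agent.Lib.Helper73_PLen
import Cfsg.Agent.Lib.Helper16_BlockOrth
import Cfsg.Agent.Lib.Helper77_NormalDefect
import Cfsg.Agent.Lib.Helper23_ZStarB
import Cfsg.Agent.S4432
import Cfsg.Agent.S0938

/-!
# The Isaacs–Smith characterisation of `p`-length one (helper78, for S4711)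

`G` has `p`-length one iff every irreducible character of the principal `p`-block restricts
irreducibly to the normalizer of a Sylow `p`-subgroup.

* `forward`: `p`-length one gives `G = N_G(P) K` with `K` a normal `p'`-subgroup (Frattini); `K` lies in
  the kernel of the principal block, so the restriction of the representation to `N_G(P)` has the
  same invariant subspaces.
* `backward`: by Clifford (in the form `sum_mul_normal`) every `χ ∈ B₀(G)` either has `P` in its
  kernel or has `[χ_P, 1_P] = 0`; covering (S4432) passes this to `L = ⟨P^G⟩`, where only the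
  trivial character has `P` in its kernel; block orthogonality then gives
  `∑_{θ ∈ B₀(L)} θ(1) conj θ(y) = |P|` for every `p`-regular `y`, which forces `θ(y) = θ(1)`; so the
  kernel of `B₀(L)` is a normal `p`-complement of `L`.
-/

set_option autoImplicit false
set_option linter.unusedSectionVars false

namespace Cfsg.Agent.Lib.Helper78_IsaacsSmith

open Cfsg Cfsg.Agent.Lib.Helper78_LocalRing Cfsg.Agent.Lib.Helper78_KerIdem
  Cfsg.Agent.Lib.Helper78_NilpotentRank Cfsg.Agent.Lib.Helper80_CharBasic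
  Cfsg.Agent.Lib.Helper52_PLength Cfsg.Agent.Lib.Helper52_ZPL

open scoped ComplexConjugate

universe u

section forward

variable {G : Type u} [Group G]

/-- Restriction along a homomorphism whose image has the same image under `ρ` preserves
irreducibility. -/
theorem isIrreducible_comp_of_cover {H : Type*} [Group H] {V : Type*} [AddCommGroup V]
    [Module ℂ V] (ρ : Representation ℂ G V) (f : H →* G)
    (hcov : ∀ g : G, ∃ h : H, ρ (f h) = ρ g) (hρ : ρ.IsIrreducible) :
    Representation.IsIrreducible (MonoidHom.comp ρ f : Representation ℂ H V) := by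
  have e : Subrepresentation (MonoidHom.comp ρ f : Representation ℂ H V) ≃o
      Subrepresentation ρ :=
    { toFun := fun W => ⟨W.toSubmodule, fun g v hv => by
        obtain ⟨h, hh⟩ := hcov g
        rw [← hh]
        exact W.apply_mem_toSubmodule h hv⟩
      invFun := fun W => ⟨W.toSubmodule, fun h v hv => W.apply_mem_toSubmodule (f h) hv⟩
      left_inv := fun W => rfl
      right_inv := fun W => rfl
      map_rel_iff' := Iff.rfl }
  exact (OrderIso.isSimpleOrder_iff e).mpr hρ

/-- If `G = N K` and `K` lies in the kernel of the irreducible character `χ` then `χ` restricts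
irreducibly to `N`. -/
theorem restrict_irr_of_decomp [Finite G] (K N : Subgroup G)
    (hNK : ∀ m : G, ∃ n ∈ N, ∃ k ∈ K, m = n * k) (χ : IrrCharacter G)
    (hK : ∀ k ∈ K, (χ : G → ℂ) k = (χ : G → ℂ) 1) :
    IsIrrCharacter N (fun n : N => (χ : G → ℂ) n) := by
  obtain ⟨d, ρ, hirr, hρ⟩ := χ.2
  refine ⟨d, (MonoidHom.comp ρ N.subtype : Representation ℂ N (Fin d → ℂ)), ?_, ?_⟩
  · apply isIrreducible_comp_of_cover ρ N.subtype _ hirr
    intro g
    obtain ⟨n, hn, k, hk, rfl⟩ := hNK g
    refine ⟨⟨n, hn⟩, ?_⟩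
    have h1 : ρ k = 1 := by
      have := hK k hk
      rw [← hρ] at this
      exact (Cfsg.Agent.Lib.Helper23_ZStarB.char_eq_char_one_iff ρ k).mp this
    rw [map_mul, h1, mul_one]
    rfl
  · funext n
    rw [← hρ]
    rfl

/-- **Isaacs–Smith, forward direction.** -/
theorem forward [Finite G] {p : ℕ} [Fact p.Prime] {M : Ideal AlgInt} (hM : IsPModular p M)
    (P : Sylow p G) (h : PLengthLE p 1 G) (χ : IrrCharacter G)
    (hχ : χ ∈ principalBlock M G) :
    IsIrrCharacter ↥(Subgroup.normalizer ((P : Subgroup G) : Set G))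
      (fun n : ↥(Subgroup.normalizer ((P : Subgroup G) : Set G)) => (χ : G → ℂ) n) := by
  obtain ⟨K, hKn, hKp, hdec⟩ := Cfsg.Agent.Lib.Helper73_PLen.exists_decomp' h
  haveI := hKn
  have hp : p.Prime := Fact.out
  have hMp := isPrime_of_isPModular hM
  have hB : IsPBlock M (principalBlock M G) := ⟨oneIrr G, rfl⟩
  have hKp' : ¬ p ∣ Nat.card K := fun hd =>
    hp.one_lt.ne' (Nat.Coprime.eq_one_of_dvd hKp.symm hd)
  have h1 : K ≤ Cfsg.Agent.S4835.irrKer χ := by
    rw [le_irrKer_iff_of_mem_block hM K hKp' hB hχ (oneIrr_mem_principalBlock hMp)]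
    intro k _
    rfl
  exact restrict_irr_of_decomp K _ (hdec P) χ (fun k hk => h1 hk)

end forward

section backward

variable {G : Type u} [Group G]

/-- Clifford for a normal subgroup and the trivial character: if `χ` restricts irreducibly to the
normalizer of `P` then `P` is in the kernel of `χ` or the values of `χ` on `P` sum to zero. -/
theorem dichotomy [Finite G] (P : Subgroup G) [Fintype P] (χ : IrrCharacter G)
    (hirr : IsIrrCharacter ↥(Subgroup.normalizer (P : Set G))
      (fun n : ↥(Subgroup.normalizer (P : Set G)) => (χ : G → ℂ) n)) :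
    (∀ x ∈ P, (χ : G → ℂ) x = (χ : G → ℂ) 1) ∨ ∑ x : P, (χ : G → ℂ) x = 0 := by
  classical
  set N : Subgroup G := Subgroup.normalizer (P : Set G) with hN
  have hPN : P ≤ N := Subgroup.le_normalizer
  let ψ : IrrCharacter ↥N := ⟨_, hirr⟩
  haveI : (P.subgroupOf N).Normal := Subgroup.normal_in_normalizer
  have := Fintype.ofFinite ↥(P.subgroupOf N)
  have h1 := Cfsg.Agent.Lib.Helper77_NormalDefect.sum_mul_normal ψ (P.subgroupOf N) (1 : ↥N)
  by_cases hk : P.subgroupOf N ≤ Cfsg.Agent.S4835.irrKer ψ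
  · left
    intro x hx
    have hx' : (⟨x, hPN hx⟩ : ↥N) ∈ P.subgroupOf N := Subgroup.mem_subgroupOf.mpr hx
    exact hk hx'
  · right
    rw [if_neg hk] at h1
    rw [← h1]
    symm
    refine Fintype.sum_equiv (Subgroup.subgroupOfEquivOfLe hPN).toEquiv _ _ ?_
    intro v
    rw [one_mul]
    rfl

end backward

section key

variable {X : Type u} [Group X] [Finite X] {p : ℕ} [hp : Fact p.Prime] {M : Ideal AlgInt}

/-- Degree and the bound `‖χ(y)‖ ≤ χ(1)`. -/
theorem irr_bound (χ : IrrCharacter X) :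
    ∃ n : ℕ, 0 < n ∧ (χ : X → ℂ) 1 = n ∧ ∀ y : X, ‖(χ : X → ℂ) y‖ ≤ n := by
  obtain ⟨d, ρ, hirr, hρ⟩ := χ.2
  refine ⟨d, irr_dim_pos ρ hirr, ?_, ?_⟩
  · rw [← hρ, Representation.char_one]
    simp
  · intro y
    have := Cfsg.Agent.Lib.Helper3_CharEigen.norm_char_le ρ y
    rw [← hρ]
    simpa using this

/-- A complex number of norm at most `n` and real part `n` is `n`. -/
theorem eq_of_norm_le_of_re_eq {z : ℂ} {n : ℝ} (h1 : ‖z‖ ≤ n) (h2 : z.re = n) : z = (n : ℂ) := by
  have hn : 0 ≤ n := (norm_nonneg z).trans h1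
  have h3 : ‖z‖ ^ 2 ≤ n ^ 2 := pow_le_pow_left₀ (norm_nonneg z) h1 2
  rw [Complex.sq_norm, Complex.normSq_apply, h2] at h3
  have h4 : z.im = 0 := by nlinarith
  apply Complex.ext
  · rw [h2, Complex.ofReal_re]
  · rw [h4, Complex.ofReal_im]

/-- Block orthogonality between a nontrivial `p`-element and a `p`-regular element. -/
theorem orth_p_reg (hM : IsPModular p M) {h y : X} (hh1 : h ≠ 1) (hh : ∃ k : ℕ, orderOf h = p ^ k)
    (hy : IsPRegular p y) :
    ∑ᶠ χ ∈ principalBlock M X, (χ : X → ℂ) h * conj ((χ : X → ℂ) y) = 0 := by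
  have hB : IsPBlock M (principalBlock M X) := ⟨oneIrr X, rfl⟩
  apply Cfsg.Agent.Lib.Helper16_BlockOrth.block_orthogonality hM hB (x := h) (y := 1)
  · exact ⟨1, mul_one h, Commute.one_right h, hh, by rw [orderOf_one]; exact hp.1.not_dvd_one⟩
  · exact ⟨y, one_mul y, Commute.one_left y, ⟨0, by rw [orderOf_one, pow_zero]⟩, hy⟩
  · intro hc
    exact hh1 (isConj_one_left.mp hc)

/-- **Key lemma.**  If `Q` is a `p`-subgroup on which every nontrivial member of the principal
block sums to zero, every `p`-regular element lies in the kernel of the principal block. -/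
theorem reg_mem_blockKer (hM : IsPModular p M) (Q : Subgroup X) [Fintype Q] (hQ : IsPGroup p Q)
    (hvan : ∀ θ ∈ principalBlock M X, θ ≠ oneIrr X → ∑ x : Q, (θ : X → ℂ) x = 0)
    (y : X) (hy : IsPRegular p y) : y ∈ blockKer (principalBlock M X) := by
  classical
  have := Fintype.ofFinite X
  have hMp := isPrime_of_isPModular hM
  have hfin : Finite (IrrCharacter X) := Cfsg.Agent.Lib.Helper78_CharFacts.charFacts.finite
  have := Fintype.ofFinite (IrrCharacter X)
  set S : Finset (IrrCharacter X) := Finset.univ.filter (fun χ => χ ∈ principalBlock M X) with hS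
  have hBS : principalBlock M X = ↑S := by
    ext χ
    simp [hS]
  have hmemS : ∀ χ, χ ∈ S ↔ χ ∈ principalBlock M X := by
    intro χ
    simp [hS]
  have h1S : oneIrr X ∈ S := (hmemS _).mpr (oneIrr_mem_principalBlock hMp)
  -- (★): the weighted column sum at a `p`-regular element is `|Q|`
  have star : ∀ z : X, IsPRegular p z →
      ∑ χ ∈ S, (χ : X → ℂ) 1 * conj ((χ : X → ℂ) z) = (Nat.card Q : ℂ) := by
    intro z hz
    have hA : ∑ h : Q, ∑ χ ∈ S, (χ : X → ℂ) (h : X) * conj ((χ : X → ℂ) z) =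
        ∑ χ ∈ S, (χ : X → ℂ) 1 * conj ((χ : X → ℂ) z) := by
      rw [Finset.sum_eq_single (1 : Q)]
      · rfl
      · intro h _ hh1
        have hh1' : (h : X) ≠ 1 := fun hc => hh1 (Subtype.ext hc)
        have hord : ∃ k : ℕ, orderOf (h : X) = p ^ k := by
          obtain ⟨k, hk⟩ := (IsPGroup.iff_orderOf.mp hQ) h
          exact ⟨k, by rw [← hk, Subgroup.orderOf_coe]⟩
        have := orth_p_reg hM hh1' hord hz
        rw [hBS, finsum_mem_coe_finset] at this
        exact this
      · intro hc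
        exact absurd (Finset.mem_univ _) hc
    have hB' : ∑ h : Q, ∑ χ ∈ S, (χ : X → ℂ) (h : X) * conj ((χ : X → ℂ) z) =
        (Nat.card Q : ℂ) := by
      rw [Finset.sum_comm]
      rw [Finset.sum_eq_single (oneIrr X)]
      · rw [← Finset.sum_mul]
        show (∑ _h : Q, (1 : ℂ)) * conj (1 : ℂ) = _
        rw [map_one, mul_one, Finset.sum_const, Finset.card_univ, Nat.card_eq_fintype_card]
        simp
      · intro χ hχ hne
        rw [← Finset.sum_mul, hvan χ ((hmemS χ).mp hχ) hne, zero_mul]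
      · intro hc
        exact absurd h1S hc
    rw [← hA, hB']
  intro χ hχ
  have hχS : χ ∈ S := (hmemS χ).mpr hχ
  have h1 := star y hy
  have h2 := star 1 isPRegular_one
  have h3 : ∑ ψ ∈ S, (((ψ : X → ℂ) 1 * conj ((ψ : X → ℂ) 1)).re -
      ((ψ : X → ℂ) 1 * conj ((ψ : X → ℂ) y)).re) = 0 := by
    rw [Finset.sum_sub_distrib, ← Complex.re_sum, ← Complex.re_sum, h1, h2, sub_self]
  have hnonneg : ∀ ψ ∈ S, 0 ≤ (((ψ : X → ℂ) 1 * conj ((ψ : X → ℂ) 1)).re -
      ((ψ : X → ℂ) 1 * conj ((ψ : X → ℂ) y)).re) := by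
    intro ψ _
    obtain ⟨n, hn0, hn1, hnb⟩ := irr_bound ψ
    rw [hn1, Complex.conj_natCast]
    have hre : ((ψ : X → ℂ) y).re ≤ n := (Complex.re_le_norm _).trans (hnb y)
    have e1 : ((n : ℂ) * (n : ℂ)).re = (n : ℝ) * n := by
      rw [← Nat.cast_mul, Complex.natCast_re, Nat.cast_mul]
    have e2 : ((n : ℂ) * conj ((ψ : X → ℂ) y)).re = (n : ℝ) * ((ψ : X → ℂ) y).re := by
      rw [← Complex.ofReal_natCast, Complex.re_ofReal_mul, Complex.conj_re]
    rw [e1, e2, ← mul_sub]
    exact mul_nonneg (Nat.cast_nonneg n) (sub_nonneg.mpr hre)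
  have h4 := (Finset.sum_eq_zero_iff_of_nonneg hnonneg).mp h3 χ hχS
  obtain ⟨n, hn0, hn1, hnb⟩ := irr_bound χ
  rw [hn1, Complex.conj_natCast] at h4
  have e1 : ((n : ℂ) * (n : ℂ)).re = (n : ℝ) * n := by
    rw [← Nat.cast_mul, Complex.natCast_re, Nat.cast_mul]
  have e2 : ((n : ℂ) * conj ((χ : X → ℂ) y)).re = (n : ℝ) * ((χ : X → ℂ) y).re := by
    rw [← Complex.ofReal_natCast, Complex.re_ofReal_mul, Complex.conj_re]
  rw [e1, e2, ← mul_sub] at h4
  have hn0' : (n : ℝ) ≠ 0 := by exact_mod_cast hn0.ne'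
  have h5 : ((χ : X → ℂ) y).re = n := by
    rcases mul_eq_zero.mp h4 with h | h
    · exact absurd h hn0'
    · linarith
  have h6 := eq_of_norm_le_of_re_eq (hnb y) h5
  rw [h6, hn1]
  simp

/-- If all `p`-regular elements lie in the kernel of the principal block, the group has a normal
`p`-complement, in particular `p`-length at most one. -/
theorem plengthLE_one_of_reg_mem (hM : IsPModular p M)
    (h : ∀ y : X, IsPRegular p y → y ∈ blockKer (principalBlock M X)) : PLengthLE p 1 X := by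
  have hMp := isPrime_of_isPModular hM
  have hPG : IsPBlock M (principalBlock M X) := ⟨oneIrr X, rfl⟩
  obtain ⟨K, hKn, hKeq, hKp, -, -⟩ :=
    Cfsg.Agent.S0938.result p M hM (principalBlock M X) hPG (oneIrr X)
      (oneIrr_mem_principalBlock hMp)
  haveI := hKn
  have hreg : ∀ g : X, IsPRegular p g → g ∈ K := by
    intro g hg
    have := h g hg
    rw [← hKeq] at this
    exact this
  have hpg : IsPGroup p (X ⧸ K) := by
    intro q
    obtain ⟨g, rfl⟩ := QuotientGroup.mk_surjective q
    obtain ⟨z, y, hzy, -, ⟨k, hk⟩, hy⟩ :=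
      Cfsg.Agent.Lib.Helper16_BlockOrth.exists_isPPart hp.1 g
    refine ⟨k, ?_⟩
    have hyK : y ∈ K := hreg y hy
    have : (g : X ⧸ K) = (z : X ⧸ K) := by
      rw [← hzy, QuotientGroup.mk_mul, (QuotientGroup.eq_one_iff y).mpr hyK, mul_one]
    rw [this, ← QuotientGroup.mk_pow, ← hk, pow_orderOf_eq_one]
    rfl
  apply plengthLE_one_of_surjective_of_ker p (QuotientGroup.mk' K)
    (QuotientGroup.mk'_surjective K) (plengthLE_one_of_isPGroup p hpg)
  rw [QuotientGroup.ker_mk']
  exact ((Nat.Prime.coprime_iff_not_dvd hp.1).mpr hKp).symm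

end key

section closure

variable {G : Type u} [Group G] [Finite G] {p : ℕ} [hp : Fact p.Prime] {M : Ideal AlgInt}

/-- Passing the dichotomy to the normal closure `L` of `P` by covering: a nontrivial member of
the principal block of `L` sums to zero on `P`. -/
theorem vanish_on_closure (hM : IsPModular p M) (P : Subgroup G)
    (hH : ∀ χ ∈ principalBlock M G, IsIrrCharacter ↥(Subgroup.normalizer (P : Set G))
      (fun n : ↥(Subgroup.normalizer (P : Set G)) => (χ : G → ℂ) n))
    (L : Subgroup G) [L.Normal] (hPL : P ≤ L)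
    (hL : ∀ R : Subgroup G, R.Normal → P ≤ R → L ≤ R)
    [Fintype ↥(P.subgroupOf L)]
    (θ : IrrCharacter ↥L) (hθ : θ ∈ principalBlock M ↥L) (hne : θ ≠ oneIrr ↥L) :
    ∑ x : ↥(P.subgroupOf L), (θ : ↥L → ℂ) x = 0 := by
  classical
  have := Fintype.ofFinite G
  have := Fintype.ofFinite ↥L
  have := Fintype.ofFinite ↥P
  have hMp := isPrime_of_isPModular hM
  have hcf : Cfsg.Agent.Lib.Helper78_Osima.CharFacts ↥L :=
    Cfsg.Agent.Lib.Helper78_CharFacts.charFacts
  have h11 : classInner (fun n : ↥L => ((oneIrr G : IrrCharacter G) : G → ℂ) n)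
      ((oneIrr ↥L : IrrCharacter ↥L) : ↥L → ℂ) ≠ 0 := by
    have := hcf.orth (oneIrr ↥L) (oneIrr ↥L)
    rw [if_pos rfl] at this
    show classInner ((oneIrr ↥L : IrrCharacter ↥L) : ↥L → ℂ) _ ≠ 0
    rw [this]
    exact one_ne_zero
  obtain ⟨χ, hχ, hcov⟩ := Cfsg.Agent.S4432.result p M hM L (principalBlock M G)
    ⟨oneIrr G, rfl⟩ (principalBlock M ↥L) ⟨oneIrr ↥L, rfl⟩
    ⟨oneIrr G, oneIrr_mem_principalBlock hMp, oneIrr ↥L, oneIrr_mem_principalBlock hMp, h11⟩
    θ hθ
  have hcardQ : (Nat.card ↥(P.subgroupOf L) : ℂ) ≠ 0 := by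
    have : 0 < Nat.card ↥(P.subgroupOf L) := Nat.card_pos
    exact_mod_cast this.ne'
  rcases dichotomy P χ (hH χ hχ) with h | h
  · -- `P ≤ ker χ`, hence `L ≤ ker χ` and `θ` is trivial
    exfalso
    apply hcov
    have hLk : L ≤ Cfsg.Agent.S4835.irrKer χ :=
      hL _ inferInstance (fun x hx => h x hx)
    have h0 := hcf.orth (oneIrr ↥L) θ
    rw [if_neg (Ne.symm hne)] at h0
    unfold classInner at h0 ⊢
    have hL0 : (Nat.card ↥L : ℂ)⁻¹ ≠ 0 := by
      have : 0 < Nat.card ↥L := Nat.card_pos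
      exact inv_ne_zero (by exact_mod_cast this.ne')
    have h1 : ∑ g : ↥L, conj ((θ : ↥L → ℂ) g) = 0 := by
      rcases mul_eq_zero.mp h0 with h0 | h0
      · exact absurd h0 hL0
      · rw [← h0]
        refine Finset.sum_congr rfl fun g _ => ?_
        show _ = (1 : ℂ) * _
        rw [one_mul]
    have h2 : ∑ g : ↥L, (χ : G → ℂ) (g : G) * conj ((θ : ↥L → ℂ) g) =
        (χ : G → ℂ) 1 * ∑ g : ↥L, conj ((θ : ↥L → ℂ) g) := by
      rw [Finset.mul_sum]
      refine Finset.sum_congr rfl fun g _ => ?_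
      rw [(Cfsg.Agent.S4835.mem_irrKer χ _).mp (hLk g.2)]
    rw [h2, h1, mul_zero, mul_zero]
  · -- `[χ_P, 1_P] = 0`, hence `[θ_P, 1_P] = 0`
    have hβ : IsCharacter ↥L (fun n : ↥L => (χ : G → ℂ) n) :=
      Cfsg.Agent.Lib.Helper75_CharArith.isCharacter_restrict L
        (Cfsg.Agent.Lib.Helper3_CharBridge.isCharacter_of_isIrrCharacter χ.2)
    have hμ : IsCharacter ↥(P.subgroupOf L) (fun _ => (1 : ℂ)) :=
      Cfsg.Agent.Lib.Helper3_CharBridge.isCharacter_of_isIrrCharacter
        (isIrrCharacter_one ↥(P.subgroupOf L))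
    obtain ⟨a, b, ha, hb, hle⟩ := Cfsg.Agent.Lib.Helper78_Brauer503L.sum_res_inner_le hβ
      {θ} (fun χ' hχ' => by rw [Finset.mem_singleton.mp hχ']; exact hcov)
      (P.subgroupOf L) hμ
    have ha0 : a = 0 := by
      have h1 : classInner (fun h : ↥(P.subgroupOf L) => (χ : G → ℂ) ((h : ↥L) : G))
          (fun _ => (1 : ℂ)) = 0 := by
        unfold classInner
        have h2 : ∑ g : ↥(P.subgroupOf L), (χ : G → ℂ) ((g : ↥L) : G) * conj (1 : ℂ) =
            ∑ x : ↥P, (χ : G → ℂ) x := by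
          refine Fintype.sum_equiv (Subgroup.subgroupOfEquivOfLe hPL).toEquiv _ _ ?_
          intro v
          rw [map_one, mul_one]
          rfl
        rw [h2, h, mul_zero]
      rw [h1] at ha
      exact_mod_cast ha.symm
    have hb0 : b θ = 0 := by
      rw [Finset.sum_singleton, ha0] at hle
      exact Nat.le_zero.mp hle
    have h4 := hb θ
    rw [hb0, Nat.cast_zero] at h4
    unfold classInner at h4
    rcases mul_eq_zero.mp h4 with h4 | h4
    · exact absurd (inv_eq_zero.mp h4) hcardQ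
    · rw [← h4]
      refine Finset.sum_congr rfl fun g _ => ?_
      rw [map_one, mul_one]

/-- **Isaacs–Smith, backward direction.** -/
theorem backward (hM : IsPModular p M) (P : Sylow p G)
    (hH : ∀ χ ∈ principalBlock M G,
      IsIrrCharacter ↥(Subgroup.normalizer ((P : Subgroup G) : Set G))
        (fun n : ↥(Subgroup.normalizer ((P : Subgroup G) : Set G)) => (χ : G → ℂ) n)) :
    PLengthLE p 1 G := by
  classical
  set L : Subgroup G := Subgroup.normalClosure ((P : Subgroup G) : Set G) with hLdef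
  have hLn : L.Normal := Subgroup.normalClosure_normal
  have hPL : (P : Subgroup G) ≤ L := Subgroup.le_normalClosure
  have hL : ∀ R : Subgroup G, R.Normal → (P : Subgroup G) ≤ R → L ≤ R := by
    intro R hR hPR
    exact Subgroup.normalClosure_le_normal hPR
  have := Fintype.ofFinite ↥((P : Subgroup G).subgroupOf L)
  have hQ : IsPGroup p ↥((P : Subgroup G).subgroupOf L) :=
    P.isPGroup'.comap_subtype
  have hreg := reg_mem_blockKer (X := ↥L) hM ((P : Subgroup G).subgroupOf L) hQ
    (fun θ hθ hne => vanish_on_closure hM (P : Subgroup G) hH L hPL hL θ hθ hne)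
  have h1 : PLengthLE p 1 ↥L := plengthLE_one_of_reg_mem hM hreg
  have h0 : PLengthLE p 0 (G ⧸ L) := by
    rw [plengthLE_zero_iff]
    have hidx : Nat.card (G ⧸ L) = L.index := rfl
    rw [hidx]
    have hdvd : L.index ∣ (P : Subgroup G).index := Subgroup.index_dvd_of_le hPL
    have hnd : ¬ p ∣ (P : Subgroup G).index := P.not_dvd_index
    have hnd' : ¬ p ∣ L.index := fun hd => hnd (hd.trans hdvd)
    exact ((Nat.Prime.coprime_iff_not_dvd hp.1).mpr hnd').symm
  have := PLengthLE.ext L h1 h0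
  simpa using this

end closure

end Cfsg.Agent.Lib.Helper78_IsaacsSmith
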