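import Mathlib
import Cfsg.Prelude.Def_Blocks
import Cfsg.Prelude.Def_BlockLocal
import Cfsg.Prelude.Def_BrauerPairs
import Cfsg.Agent.Lib.Helper78_LocalRing
import Cfsg.Agent.Lib.Helper78_CentralChar
import Cfsg.Agent.Lib.Helper78_Osima
import Cfsg.Agent.Lib.Helper78_CharFacts
import Cfsg.Agent.Lib.Helper78_AlgHom
import Cfsg.Agent.Lib.Helper78_BrauerMap
import Cfsg.Agent.Lib.Helper78_ExtConv
import Cfsg.Agent.Lib.Helper78_BrauerPairs
import Cfsg.Agent.Lib.Helper78_NilpotentPrincipal
import Cfsg.Agent.Lib.Helper78_SubpairBasic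
import Cfsg.Agent.Lib.Helper78_KerIdem

/-!
# Kernels of blocks along a normal inclusion of Brauer pairs (helper78)

Let `(Q, f) ⊴ (R, g)` be a normal inclusion of Brauer pairs and `L ≤ C_G(Q)` a subgroup of order
prime to `p` normalized by `C_G(Q)` and by `R`.  Then `L` lies in the kernel of `f` if and only if
`L ∩ C_G(R)` lies in the kernel of `g` (`normalSubpair_ker_iff`).
-/

set_option autoImplicit false
set_option linter.unusedSectionVars false

namespace Cfsg.Agent.Lib.Helper78_KerIdemPair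

open Cfsg Cfsg.Agent.Lib.Helper78_LocalRing Cfsg.Agent.Lib.Helper78_CentralChar
  Cfsg.Agent.Lib.Helper78_Osima Cfsg.Agent.Lib.Helper78_CharFacts
  Cfsg.Agent.Lib.Helper78_AlgHom Cfsg.Agent.Lib.Helper78_BrauerMap
  Cfsg.Agent.Lib.Helper78_ExtConv Cfsg.Agent.Lib.Helper78_BrauerPairs
  Cfsg.Agent.Lib.Helper78_NilpotentPrincipal Cfsg.Agent.Lib.Helper78_SubpairBasic
  Cfsg.Agent.Lib.Helper78_KerIdem
open Cfsg.Agent.S4835 (irrKer mem_irrKer)

universe u

variable {G : Type u} [Group G] {M : Ideal AlgInt} {p : ℕ}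

theorem kerIdem_conj (L : Subgroup G) {y : G} (hy : ∀ l ∈ L, y * l * y⁻¹ ∈ L)
    (hy' : ∀ l ∈ L, y⁻¹ * l * y ∈ L) (x : G) : kerIdem L (y * x * y⁻¹) = kerIdem L x := by
  by_cases hx : x ∈ L
  · rw [kerIdem_of_mem L hx, kerIdem_of_mem L (hy x hx)]
  · have : y * x * y⁻¹ ∉ L := fun hc => hx (by
      have := hy' _ hc
      have e : y⁻¹ * (y * x * y⁻¹) * y = x := by group
      rwa [e] at this)
    rw [kerIdem_of_notMem L hx, kerIdem_of_notMem L this]

theorem ext_restrict_kerIdem (L C : Subgroup G) (hLC : L ≤ C) :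
    ext C (fun c : C => kerIdem L (c : G)) = kerIdem L := by
  funext x
  by_cases hx : x ∈ C
  · rw [ext_of_mem C _ hx]
  · rw [ext_of_notMem C _ hx, kerIdem_of_notMem L (fun h => hx (hLC h))]

theorem subgroupOf_normal_of_conj (L C : Subgroup G)
    (hLn : ∀ y ∈ C, ∀ l ∈ L, y * l * y⁻¹ ∈ L) : (L.subgroupOf C).Normal := by
  constructor
  intro n hn c
  rw [Subgroup.mem_subgroupOf] at hn ⊢
  simpa using hLn (c : G) c.2 (n : G) hn

/-- If `z, z'` are local units and `a, a'` are propositions with `z [a] ≡ z' [a']`, then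
`a ↔ a'`. -/
theorem zero_one_congr2 (hMp : M.IsPrime) {z z' : ℂ}
    (hz' : ¬ MemLocalIdeal M z) (hz'' : ¬ MemLocalIdeal M z')
    {a a' : Prop} [Decidable a] [Decidable a']
    (h : MemLocalIdeal M (z * (if a then (1 : ℂ) else 0) - z' * (if a' then (1 : ℂ) else 0))) :
    a ↔ a' := by
  by_cases h1 : a <;> by_cases h2 : a'
  · exact ⟨fun _ => h2, fun _ => h1⟩
  · exfalso
    rw [if_pos h1, if_neg h2, mul_zero, sub_zero, mul_one] at h
    exact hz' h
  · exfalso
    rw [if_neg h1, if_pos h2, mul_zero, zero_sub, mul_one] at h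
    have := memLocalIdeal_neg h
    rw [neg_neg] at this
    exact hz'' this
  · exact ⟨fun h' => absurd h' h1, fun h' => absurd h' h2⟩

section Main

variable [Fintype G]

/-- Core computation: `K` a subgroup normalized by the `p`-group `R` with `C_G(R) ≤ K`, `f` an
`R`-stable block of `K` and `ξ` an irreducible character of `C_G(R)` with `ω_ξ(Br_R(e_f)) ≡ 1`.
For `L ≤ K` of order prime to `p` normalized by `K` and `R`: `L ≤ ker ψ₀` (`ψ₀ ∈ f`) iff
`L ∩ C_G(R) ≤ ker ξ`. -/
theorem core_ker_iff (hM : IsPModular p M) {R K : Subgroup G} (hR : IsPGroup p R)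
    (hRK : R ≤ Subgroup.normalizer (K : Set G))
    (hCK : Subgroup.centralizer (R : Set G) ≤ K)
    {f : Set (IrrCharacter K)} (hf : IsPBlock M f) (hfR : PStable K R f)
    (L : Subgroup G) (hLC : L ≤ K)
    (hLnC : ∀ y ∈ K, ∀ l ∈ L, y * l * y⁻¹ ∈ L)
    (hLnR : ∀ y ∈ R, ∀ l ∈ L, y * l * y⁻¹ ∈ L) (hLp : ¬ p ∣ Nat.card L)
    [(L.subgroupOf K).Normal]
    [(L.subgroupOf (Subgroup.centralizer (R : Set G))).Normal]
    {ψ₀ : IrrCharacter K} (hψ₀ : ψ₀ ∈ f)
    (ξ : IrrCharacter (Subgroup.centralizer (R : Set G)))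
    (hlamξ : MemLocalIdeal M (lam R K f (ξ : Subgroup.centralizer (R : Set G) → ℂ) - 1)) :
    L.subgroupOf K ≤ irrKer ψ₀ ↔
      L.subgroupOf (Subgroup.centralizer (R : Set G)) ≤ irrKer ξ := by
  classical
  have := Fintype.ofFinite (Subgroup.centralizer (R : Set G))
  have := Fintype.ofFinite K
  have hMp := isPrime_of_isPModular hM
  have hcQ := Cfsg.Agent.Lib.Helper78_CharFacts.charFacts (G := K)
  -- the two functions
  have hβR : ∀ x, MemLocalRing M (ext K (blockCoeff f) x) :=
    ext_memLocalRing hMp K (osima_block hcQ hMp hf)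
  have hνR : ∀ x, MemLocalRing M (kerIdem L x) := kerIdem_memLocalRing hM L hLp
  have hβinv : ∀ q ∈ R, ∀ x, ext K (blockCoeff f) (q * x * q⁻¹) = ext K (blockCoeff f) x :=
    fun q hq x => ext_blockCoeff_invariant hRK hfR q hq x
  have hνinv : ∀ q ∈ R, ∀ x, kerIdem L (q * x * q⁻¹) = kerIdem L x := fun q hq x =>
    kerIdem_conj L (hLnR q hq) (fun l hl => by
      have := hLnR q⁻¹ (R.inv_mem hq) l hl
      rwa [inv_inv] at this) x
  have hνinvC : ∀ q ∈ K, ∀ x, kerIdem L (q * x * q⁻¹) = kerIdem L x := fun q hq x =>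
    kerIdem_conj L (hLnC q hq) (fun l hl => by
      have := hLnC q⁻¹ (K.inv_mem hq) l hl
      rwa [inv_inv] at this) x
  have hνQc : IsClassFunction K (fun c : K => kerIdem L (c : G)) :=
    fun c y => hνinvC (y : G) y.2 (c : G)
  have hfc : IsClassFunction K (blockCoeff f) := blockCoeff_isClassFunction _
  -- values of the central characters
  obtain ⟨huQ, huQ'⟩ := ratio_unit hM L K hLp
  obtain ⟨huR, huR'⟩ := ratio_unit hM L (Subgroup.centralizer (R : Set G)) hLp
  have hνQeq : (fun c : K => kerIdem L (c : G)) = fun c : K =>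
      ((Nat.card (L.subgroupOf K) : ℂ) * (Nat.card L : ℂ)⁻¹) * kerIdem (L.subgroupOf K) c := by
    funext c
    exact kerIdem_restrict L K c
  have homQ : ∀ ψ : IrrCharacter K, omega (ψ : K → ℂ) (fun c : K => kerIdem L (c : G)) =
      ((Nat.card (L.subgroupOf K) : ℂ) * (Nat.card L : ℂ)⁻¹) *
        (if L.subgroupOf K ≤ irrKer ψ then 1 else 0) := by
    intro ψ
    rw [hνQeq, omega_smul, omega_kerIdem ψ (L.subgroupOf K)]
  have hpQ : ¬ p ∣ Nat.card (L.subgroupOf K) :=
    fun hd => hLp (dvd_trans hd (card_subgroupOf_dvd L K))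
  -- `e_f * e_L = t e_f`
  have hconvQ : conv (blockCoeff f) (fun c : K => kerIdem L (c : G)) =
      fun c => omega (ψ₀ : K → ℂ) (fun c : K => kerIdem L (c : G)) * blockCoeff f c := by
    apply eq_of_omega_eq hcQ (conv_isClassFunction hfc hνQc)
      (fun c y => by
        show omega _ _ * blockCoeff f _ = omega _ _ * blockCoeff f _
        rw [hfc c y])
    intro ψ
    rw [omega_conv ψ.2 _ hνQc, omega_smul, omega_blockCoeff hcQ]
    by_cases hψ : ψ ∈ f
    · rw [Set.indicator_of_mem hψ, one_mul, mul_one, homQ ψ, homQ ψ₀]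
      have := le_irrKer_iff_of_mem_block hM (L.subgroupOf K) hpQ hf hψ hψ₀
      by_cases h1 : L.subgroupOf K ≤ irrKer ψ
      · rw [if_pos h1, if_pos (this.mp h1)]
      · rw [if_neg h1, if_neg (fun hc => h1 (this.mpr hc))]
    · rw [Set.indicator_of_notMem hψ, zero_mul, mul_zero]
  have hconvG : conv (ext K (blockCoeff f)) (kerIdem L) =
      fun x => omega (ψ₀ : K → ℂ) (fun c : K => kerIdem L (c : G)) * ext K (blockCoeff f) x := by
    have h1 : kerIdem L = ext K (fun c : K => kerIdem L (c : G)) :=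
      (ext_restrict_kerIdem L K hLC).symm
    rw [h1, ext_conv, hconvQ, ← h1]
    funext x
    by_cases hx : x ∈ K
    · rw [ext_of_mem K _ hx, ext_of_mem K _ hx]
    · rw [ext_of_notMem K _ hx, ext_of_notMem K _ hx, mul_zero]
  -- the Brauer congruence at `R`
  have hpt := res_conv_mem hM R hR hβinv hνinv hβR hνR
  have hresβc : IsClassFunction (Subgroup.centralizer (R : Set G))
      (res (Subgroup.centralizer (R : Set G)) (ext K (blockCoeff f))) := by
    apply res_isClassFunction
    intro q hq x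
    have hq' : q ∈ K := hCK hq
    by_cases hx : x ∈ K
    · have hx' : q * x * q⁻¹ ∈ K := K.mul_mem (K.mul_mem hq' hx) (K.inv_mem hq')
      rw [ext_of_mem K _ hx, ext_of_mem K _ hx']
      exact hfc ⟨x, hx⟩ ⟨q, hq'⟩
    · have hx' : q * x * q⁻¹ ∉ K := fun hc => hx (by
        have := K.mul_mem (K.mul_mem (K.inv_mem hq') hc) hq'
        have e : q⁻¹ * (q * x * q⁻¹) * q = x := by group
        rwa [e] at this)
      rw [ext_of_notMem K _ hx, ext_of_notMem K _ hx']
  have hresνc : IsClassFunction (Subgroup.centralizer (R : Set G))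
      (res (Subgroup.centralizer (R : Set G)) (kerIdem L)) :=
    res_isClassFunction _ (fun q hq x => hνinvC q (hCK hq) x)
  have hres1 : res (Subgroup.centralizer (R : Set G))
      (conv (ext K (blockCoeff f)) (kerIdem L)) =
      fun c => omega (ψ₀ : K → ℂ) (fun c : K => kerIdem L (c : G)) *
        res (Subgroup.centralizer (R : Set G)) (ext K (blockCoeff f)) c := by
    rw [hconvG]
    rfl
  have hdiffc : IsClassFunction (Subgroup.centralizer (R : Set G))
      (res (Subgroup.centralizer (R : Set G)) (conv (ext K (blockCoeff f)) (kerIdem L)) -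
        conv (res (Subgroup.centralizer (R : Set G)) (ext K (blockCoeff f)))
          (res (Subgroup.centralizer (R : Set G)) (kerIdem L))) := by
    intro c y
    have h1 : res (Subgroup.centralizer (R : Set G))
        (conv (ext K (blockCoeff f)) (kerIdem L)) (y * c * y⁻¹) =
        res (Subgroup.centralizer (R : Set G)) (conv (ext K (blockCoeff f)) (kerIdem L)) c := by
      rw [hres1]
      show omega _ _ * _ = omega _ _ * _
      rw [hresβc c y]
    have h2 := conv_isClassFunction hresβc hresνc c y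
    simp only [Pi.sub_apply]
    rw [h1, h2]
  have hom := memLocalIdeal_omega_of_pointwise hMp ξ.2 hdiffc (fun c => hpt c)
  rw [omega_sub, omega_conv ξ.2 _ hresνc, hres1, omega_smul] at hom
  -- evaluate
  have hresν : res (Subgroup.centralizer (R : Set G)) (kerIdem L) =
      fun c : Subgroup.centralizer (R : Set G) =>
        ((Nat.card (L.subgroupOf (Subgroup.centralizer (R : Set G))) : ℂ) * (Nat.card L : ℂ)⁻¹) *
          kerIdem (L.subgroupOf (Subgroup.centralizer (R : Set G))) c := by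
    funext c
    exact kerIdem_restrict L _ c
  rw [hresν, omega_smul, omega_kerIdem ξ (L.subgroupOf (Subgroup.centralizer (R : Set G))),
    homQ ψ₀] at hom
  rw [lam_eq_omega] at hlamξ
  unfold rs at hlamξ
  have hlamR : MemLocalRing M (omega (ξ : Subgroup.centralizer (R : Set G) → ℂ)
      (res (Subgroup.centralizer (R : Set G)) (ext K (blockCoeff f)))) := by
    have := memLocalRing_add hMp (memLocalRing_of_memLocalIdeal hlamξ) (memLocalRing_one hMp)
    rwa [sub_add_cancel] at this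
  -- `uQ [a] lamv - lamv uR [a'] ∈ ideal`, `lamv ≡ 1`
  have key : MemLocalIdeal M
      (((Nat.card (L.subgroupOf K) : ℂ) * (Nat.card L : ℂ)⁻¹) *
        (if L.subgroupOf K ≤ irrKer ψ₀ then (1 : ℂ) else 0) -
      ((Nat.card (L.subgroupOf (Subgroup.centralizer (R : Set G))) : ℂ) * (Nat.card L : ℂ)⁻¹) *
        (if L.subgroupOf (Subgroup.centralizer (R : Set G)) ≤ irrKer ξ then (1 : ℂ) else 0)) := by
    have hAR : MemLocalRing M (((Nat.card (L.subgroupOf K) : ℂ) * (Nat.card L : ℂ)⁻¹) *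
        (if L.subgroupOf K ≤ irrKer ψ₀ then (1 : ℂ) else 0)) := by
      split_ifs
      · rw [mul_one]; exact huQ
      · rw [mul_zero]; exact memLocalRing_zero hMp
    have hBR : MemLocalRing M
        (((Nat.card (L.subgroupOf (Subgroup.centralizer (R : Set G))) : ℂ) *
          (Nat.card L : ℂ)⁻¹) *
        (if L.subgroupOf (Subgroup.centralizer (R : Set G)) ≤ irrKer ξ then (1 : ℂ) else 0)) := by
      split_ifs
      · rw [mul_one]; exact huR
      · rw [mul_zero]; exact memLocalRing_zero hMp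
    have h1 := memLocalIdeal_mul_right hMp hlamξ (memLocalRing_sub hMp hAR hBR)
    have h2 := memLocalIdeal_sub hMp hom h1
    convert h2 using 1
    ring
  exact zero_one_congr2 hMp huQ' huR' key

/-- Along a normal inclusion `(Q, f) ⊴ (R, g)`, a subgroup `L ≤ C_G(Q)` of order prime to `p`
normalized by `C_G(Q)` and `R` lies in the kernel of `f` iff `L ∩ C_G(R)` lies in the kernel of
`g`. -/
theorem normalSubpair_ker_iff (hM : IsPModular p M) {Q R : Subgroup G}
    {f : Set (IrrCharacter (Subgroup.centralizer (Q : Set G)))}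
    {g : Set (IrrCharacter (Subgroup.centralizer (R : Set G)))}
    (h : IsNormalSubpair p M Q f R g) (L : Subgroup G)
    (hLC : L ≤ Subgroup.centralizer (Q : Set G))
    (hLnC : ∀ y ∈ Subgroup.centralizer (Q : Set G), ∀ l ∈ L, y * l * y⁻¹ ∈ L)
    (hLnR : ∀ y ∈ R, ∀ l ∈ L, y * l * y⁻¹ ∈ L) (hLp : ¬ p ∣ Nat.card L) :
    (∀ ψ ∈ f, ∀ c : Subgroup.centralizer (Q : Set G), (c : G) ∈ L →
        (ψ : Subgroup.centralizer (Q : Set G) → ℂ) c =
          (ψ : Subgroup.centralizer (Q : Set G) → ℂ) 1) ↔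
      (∀ ξ ∈ g, ∀ c : Subgroup.centralizer (R : Set G), (c : G) ∈ L →
        (ξ : Subgroup.centralizer (R : Set G) → ℂ) c =
          (ξ : Subgroup.centralizer (R : Set G) → ℂ) 1) := by
  have hMp := isPrime_of_isPModular hM
  obtain ⟨hQf, hRg, hQR, hRN, hfR, hlam⟩ := h
  have hCK : Subgroup.centralizer (R : Set G) ≤ Subgroup.centralizer (Q : Set G) :=
    Subgroup.centralizer_le hQR
  have hRK : R ≤ Subgroup.normalizer
      ((Subgroup.centralizer (Q : Set G) : Subgroup G) : Set G) :=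
    fun x hx => normalizer_le_normalizer_centralizer Q (hRN hx)
  have : (L.subgroupOf (Subgroup.centralizer (Q : Set G))).Normal :=
    subgroupOf_normal_of_conj L _ hLnC
  have : (L.subgroupOf (Subgroup.centralizer (R : Set G))).Normal :=
    subgroupOf_normal_of_conj L _ (fun y hy => hLnC y (hCK hy))
  obtain ⟨ψ₀, hψ₀⟩ := isPBlock_nonempty hMp hQf.2
  obtain ⟨ξ₀, hξ₀⟩ := isPBlock_nonempty hMp hRg.2
  constructor
  · intro hf ξ hξ c hc
    have h1 : L.subgroupOf (Subgroup.centralizer (Q : Set G)) ≤ irrKer ψ₀ := by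
      intro c' hc'
      rw [mem_irrKer]
      exact hf ψ₀ hψ₀ c' (Subgroup.mem_subgroupOf.mp hc')
    have h2 := (core_ker_iff hM hRg.1 hRK hCK hQf.2 hfR L hLC hLnC hLnR hLp hψ₀ ξ
      (hlam ξ hξ)).mp h1
    exact (mem_irrKer ξ c).mp (h2 (Subgroup.mem_subgroupOf.mpr hc))
  · intro hg ψ hψ c hc
    have h1 : L.subgroupOf (Subgroup.centralizer (R : Set G)) ≤ irrKer ξ₀ := by
      intro c' hc'
      rw [mem_irrKer]
      exact hg ξ₀ hξ₀ c' (Subgroup.mem_subgroupOf.mp hc')
    have h2 := (core_ker_iff hM hRg.1 hRK hCK hQf.2 hfR L hLC hLnC hLnR hLp hψ ξ₀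
      (hlam ξ₀ hξ₀)).mpr h1
    exact (mem_irrKer ψ c).mp (h2 (Subgroup.mem_subgroupOf.mpr hc))

end Main

end Cfsg.Agent.Lib.Helper78_KerIdemPair
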