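import Mathlib
import Cfsg.Prelude.Def_Characters
import Cfsg.Prelude.Def_Blocks
import Cfsg.Agent.Lib.Helper74_PrimeDegC
import Cfsg.Agent.Lib.Helper77_InvHeightZero
import Cfsg.Agent.Lib.Helper17_MultFree

/-!
# Manz's theorem: no three "separated" sets of degree primes in a solvable group (helper78)

`Bad G π` says that `π 0, π 1, π 2` are pairwise disjoint sets of numbers, each containing a prime
dividing some irreducible character degree of `G`, and such that whenever a prime of `π i` divides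
an irreducible degree, all prime divisors of that degree lie in `π i`.

`no_bad`: a finite solvable group admits no bad triple.

Proof: minimal counterexample `G`, `N` normal of prime index `r`.  If `r` divides no degree meeting
the `π i` in the relevant way, all the relevant characters restrict irreducibly and `N` is a smaller
counterexample.  Otherwise `r ∈ π i`; the primes of `π j`, `π k` survive in `N`, so those of
`π i` do not; hence `N` has a non-invariant linear character `λ`, all nonlinear irreducible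
characters `ψ` of `N` are invariant, `(λ^g/λ) ψ = ψ`, so all of them vanish off a proper subgroup
`C` of `N`, hence have degrees divisible by any prime divisor of `|N : C|`; but `N` has nonlinear
characters with coprime degrees (from `π j` and `π k`).
-/

set_option autoImplicit false

namespace Cfsg.Agent.Lib.Helper78_Manz

open Cfsg Cfsg.Agent.Lib
open scoped ComplexConjugate commutatorElement
open Cfsg.Agent.Lib.Helper75_Clifford Cfsg.Agent.Lib.Helper3_CharOrtho
  Cfsg.Agent.Lib.Helper3_CharBridge Cfsg.Agent.Lib.Helper75_CharArith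
  Cfsg.Agent.Lib.Helper75_LinChar

universe u

/-- a "bad" triple of sets of primes -/
def Bad (G : Type u) [Group G] (π : Fin 3 → Set ℕ) : Prop :=
  (∀ i, ∃ p ∈ π i, p.Prime ∧ ∃ χ : IrrCharacter G, p ∣ charDegree (χ : G → ℂ)) ∧
  (∀ i j, i ≠ j → Disjoint (π i) (π j)) ∧
  (∀ (χ : IrrCharacter G) (i : Fin 3) (p q : ℕ), p.Prime → q.Prime → p ∈ π i →
    p ∣ charDegree (χ : G → ℂ) → q ∣ charDegree (χ : G → ℂ) → q ∈ π i)

section Tools

variable {G : Type u} [Group G] [Fintype G] (N : Subgroup G) [hN : N.Normal] [Fintype N]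

/-- a character of degree prime to the prime index restricts irreducibly -/
theorem res_irr_of_not_dvd {r : ℕ} (hr : r.Prime) (hidx : N.index = r) (χ : IrrCharacter G)
    (hχ : ¬ r ∣ charDegree (χ : G → ℂ)) : IsIrrCharacter N (res N (χ : G → ℂ)) := by
  have hsolv : Group.IsSolvable (G ⧸ N) := by
    apply Cfsg.Agent.Lib.Helper74_PrimeDegC.isSolvable_of_prime_card hr
    rw [← Subgroup.index_eq_card, hidx]
  have h1 : (χ : G → ℂ) 1 = (charDegree (χ : G → ℂ) : ℂ) :=
    Cfsg.Agent.Lib.Helper77_BlockBasics.apply_one_eq_charDegree χ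
  exact Cfsg.Agent.Lib.Helper75_CoprimeDeg.irr_restrict_of_coprime r N hidx hsolv χ _ h1
    (by rw [hidx]; exact (Nat.Coprime.symm ((Nat.Prime.coprime_iff_not_dvd hr).mpr hχ)))

/-- the degree of the restriction -/
theorem charDegree_res (χ : IrrCharacter G) (h : IsIrrCharacter N (res N (χ : G → ℂ))) :
    charDegree ((⟨_, h⟩ : IrrCharacter N) : N → ℂ) = charDegree (χ : G → ℂ) := by
  have h1 := Cfsg.Agent.Lib.Helper77_BlockBasics.apply_one_eq_charDegree χ
  have h2 := Cfsg.Agent.Lib.Helper77_BlockBasics.apply_one_eq_charDegree (⟨_, h⟩ : IrrCharacter N)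
  have h3 : ((⟨_, h⟩ : IrrCharacter N) : N → ℂ) 1 = (χ : G → ℂ) 1 := rfl
  rw [h3, h1] at h2
  exact_mod_cast h2.symm

/-- every irreducible character of `N` lies under one of `G`, with dividing degree -/
theorem exists_over (ψ : IrrCharacter N) :
    ∃ η : IrrCharacter G, classInner (res N (η : G → ℂ)) (ψ : N → ℂ) ≠ 0 ∧
      charDegree (ψ : N → ℂ) ∣ charDegree (η : G → ℂ) := by
  obtain ⟨η, hη, hne⟩ := Cfsg.Agent.Lib.Helper59_CliffordDeg.exists_irr_over N ψ.2
  refine ⟨⟨η, hη⟩, hne, ?_⟩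
  exact Cfsg.Agent.Lib.Helper59_CliffordDeg.degree_dvd_of_clifford N hN hη ψ.2 hne _ _
    (Cfsg.Agent.Lib.Helper77_BlockBasics.apply_one_eq_charDegree ⟨η, hη⟩)
    (Cfsg.Agent.Lib.Helper77_BlockBasics.apply_one_eq_charDegree ψ)

/-- descent of badness to a normal subgroup in which all three sets survive -/
theorem bad_descend {π : Fin 3 → Set ℕ} (hbad : Bad G π)
    (hsurv : ∀ i, ∃ p ∈ π i, p.Prime ∧ ∃ ψ : IrrCharacter N, p ∣ charDegree (ψ : N → ℂ)) :
    Bad N π := by
  refine ⟨hsurv, hbad.2.1, ?_⟩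
  intro ψ i p q hp hq hpi hpd hqd
  obtain ⟨η, -, hdvd⟩ := exists_over N ψ
  exact hbad.2.2 η i p q hp hq hpi (hpd.trans hdvd) (hqd.trans hdvd)

/-- a non-invariant irreducible character of a normal subgroup of prime index `r` lies only under
characters of degree divisible by `r` -/
theorem dvd_of_not_invariant {r : ℕ} (hr : r.Prime) (hidx : N.index = r) (ψ : IrrCharacter N)
    (g : G) (hg : Helper75_Clifford.conjFun N hN (ψ : N → ℂ) g ≠ (ψ : N → ℂ)) (η : IrrCharacter G)
    (hη : classInner (res N (η : G → ℂ)) (ψ : N → ℂ) ≠ 0) :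
    r ∣ charDegree (η : G → ℂ) := by
  classical
  obtain ⟨e, -, hdeg⟩ := Cfsg.Agent.Lib.Helper77_InvHeightZero.degree_eq_mul N η ψ hη
  have hdvd := Cfsg.Agent.Lib.Helper77_InvHeightZero.ncard_orbit_dvd_index (G := G) N ψ
  rw [hidx] at hdvd
  set A : Set (N → ℂ) := {φ : N → ℂ | ∃ g : G, φ = Helper75_Clifford.conjFun N hN (ψ : N → ℂ) g} with hA
  have hAfin : A.Finite := by
    have : A = Set.range (fun g : G => Helper75_Clifford.conjFun N hN (ψ : N → ℂ) g) := by
      ext φ
      constructor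
      · rintro ⟨g, rfl⟩; exact ⟨g, rfl⟩
      · rintro ⟨g, rfl⟩; exact ⟨g, rfl⟩
    rw [this]
    exact Set.finite_range _
  have h1 : A.ncard ≠ 1 := by
    intro h1
    obtain ⟨a, ha⟩ := Set.ncard_eq_one.mp h1
    have h2 : (ψ : N → ℂ) ∈ A := ⟨1, (conjFun_one N hN _).symm⟩
    have h3 : Helper75_Clifford.conjFun N hN (ψ : N → ℂ) g ∈ A := ⟨g, rfl⟩
    rw [ha, Set.mem_singleton_iff] at h2 h3
    exact hg (h3.trans h2.symm)
  have h2 : A.ncard = r := by
    rcases (Nat.dvd_prime hr).mp hdvd with h | h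
    · exact absurd h h1
    · exact h
  rw [hdeg, h2]
  exact Dvd.dvd.mul_right (Dvd.intro_left _ rfl) _

/-- if `χ₀` restricts reducibly to the normal subgroup `N` of prime index and every irreducible
character of `N` of degree dividing `χ₀(1)` is linear, then `N` has a linear character which is
not `G`-invariant -/
theorem exists_lin_not_inv {r : ℕ} (hr : r.Prime) (hidx : N.index = r) (χ₀ : IrrCharacter G)
    (hχ₀ : ¬ IsIrrCharacter N (res N (χ₀ : G → ℂ)))
    (hlin : ∀ ψ : IrrCharacter N, charDegree (ψ : N → ℂ) ∣ charDegree (χ₀ : G → ℂ) →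
      charDegree (ψ : N → ℂ) = 1) :
    ∃ θ : N → ℂ, IsLin N θ ∧ ∃ g : G, Helper75_Clifford.conjFun N hN θ g ≠ θ := by
  classical
  have h10 := Cfsg.Agent.Lib.Helper77_BlockBasics.apply_one_eq_charDegree χ₀
  have hres : IsCharacter N (res N (χ₀ : G → ℂ)) :=
    isCharacter_res N (isCharacter_of_isIrrCharacter χ₀.2)
  have hd0 : charDegree (χ₀ : G → ℂ) ≠ 0 := by
    obtain ⟨n, hn, h⟩ := Cfsg.Agent.Lib.Helper3_CharColumn.irr_one_eq_natCast χ₀.2
    rw [h10] at h
    have : charDegree (χ₀ : G → ℂ) = n := by exact_mod_cast h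
    omega
  have h11 : res N (χ₀ : G → ℂ) 1 ≠ 0 := by
    show (χ₀ : G → ℂ) ((1 : N) : G) ≠ 0
    rw [Subgroup.coe_one, h10]
    exact_mod_cast hd0
  obtain ⟨θ, hθ, hne⟩ := Cfsg.Agent.S0857.exists_constituent hres h11
  obtain ⟨m, t, hm, ht, hdeg, -, hinv⟩ :=
    Cfsg.Agent.Lib.Helper74_PrimeDegC.clifford_numbers N hN χ₀.2 hθ hne
  have h20 := Cfsg.Agent.Lib.Helper77_BlockBasics.apply_one_eq_charDegree (⟨θ, hθ⟩ : IrrCharacter N)
  have h20' : θ 1 = (charDegree θ : ℂ) := h20
  have hfmtb : charDegree (χ₀ : G → ℂ) = m * t * charDegree θ := by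
    have h2 : (charDegree (χ₀ : G → ℂ) : ℂ) = ((m * t * charDegree θ : ℕ) : ℂ) := by
      rw [← h10, hdeg, h20']
      push_cast
      ring
    exact_mod_cast h2
  have hb1 : charDegree θ = 1 := hlin ⟨θ, hθ⟩ ⟨m * t, by rw [hfmtb]; ring⟩
  have hlinθ : IsLin N θ := ⟨isCharacter_of_isIrrCharacter hθ, by rw [h20', hb1, Nat.cast_one]⟩
  refine ⟨θ, hlinθ, ?_⟩
  by_contra hcon
  push Not at hcon
  have ht1 := hinv hcon
  -- multiplicity one
  have hcyc : IsCyclic (G ⧸ N) := by
    have : Fact r.Prime := ⟨hr⟩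
    apply isCyclic_of_prime_card (p := r)
    rw [← Subgroup.index_eq_card, hidx]
  have hm1 : m = 1 := by
    obtain ⟨m', hm'⟩ := classInner_isCharacter_nat hres (isCharacter_of_isIrrCharacter hθ)
    -- recompute `m` from Clifford
    have h4 := clifford N hN χ₀.2 hθ hne
    have hA : {ψ : N → ℂ | ∃ g : G, ψ = Helper75_Clifford.conjFun N hN θ g} = {θ} := by
      ext ψ
      simp only [Set.mem_setOf_eq, Set.mem_singleton_iff]
      constructor
      · rintro ⟨g, rfl⟩
        exact hcon g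
      · rintro rfl
        exact ⟨1, (conjFun_one N hN ψ).symm⟩
    rw [hA, finsum_mem_singleton, hm'] at h4
    have h5 := congrFun h4 1
    rw [Pi.smul_apply, smul_eq_mul, h20', hb1, Nat.cast_one, mul_one] at h5
    have h6 : res N (χ₀ : G → ℂ) 1 = (charDegree (χ₀ : G → ℂ) : ℂ) := by
      show (χ₀ : G → ℂ) ((1 : N) : G) = _
      rw [Subgroup.coe_one, h10]
    rw [h6] at h5
    have h7 : charDegree (χ₀ : G → ℂ) = m' := by exact_mod_cast h5
    have h8 : m' = m := by rw [← h7, hfmtb, ht1, hb1, mul_one, mul_one]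
    rcases Cfsg.Agent.Lib.Helper17_MultFree.classInner_res_eq_zero_or_one N hN hcyc χ₀.2 hθ
      with h9 | h9
    · exact absurd h9 hne
    · have h9' : classInner (res N (χ₀ : G → ℂ)) θ = 1 := h9
      rw [hm'] at h9'
      have : m' = 1 := by exact_mod_cast h9'
      rw [← h8, this]
  apply hχ₀
  have h3 := Cfsg.Agent.Lib.Helper80_CharInd.eq_of_constituent_of_degree_le
    (res N (χ₀ : G → ℂ)) hres ⟨θ, hθ⟩ hne (charDegree (χ₀ : G → ℂ)) 1
    (by show (χ₀ : G → ℂ) ((1 : N) : G) = _; rw [Subgroup.coe_one, h10])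
    (by show θ 1 = _; rw [h20', hb1])
    (by rw [hfmtb, hm1, ht1, hb1])
  rw [h3]
  exact hθ

/-- the conjugate of a product -/
theorem conjFun_mul (α β : N → ℂ) (g : G) :
    Helper75_Clifford.conjFun N hN (α * β) g =
      Helper75_Clifford.conjFun N hN α g * Helper75_Clifford.conjFun N hN β g := rfl

/-- if `ψ` and `λψ` are both fixed by `g` then `ψ` vanishes where `λ^g ≠ λ` -/
theorem vanish_of_fixed {lam ψ : N → ℂ} (g : G)
    (h1 : Helper75_Clifford.conjFun N hN ψ g = ψ)
    (h2 : Helper75_Clifford.conjFun N hN (lam * ψ) g = lam * ψ) (n : N)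
    (hn : Helper75_Clifford.conjFun N hN lam g n ≠ lam n) : ψ n = 0 := by
  rw [conjFun_mul, h1] at h2
  have h3 := congrFun h2 n
  rw [Pi.mul_apply, Pi.mul_apply] at h3
  have h4 : (Helper75_Clifford.conjFun N hN lam g n - lam n) * ψ n = 0 := by
    rw [sub_mul, h3, sub_self]
  rcases mul_eq_zero.mp h4 with h5 | h5
  · exact absurd (sub_eq_zero.mp h5) hn
  · exact h5

end Tools

section Vanish

variable {K : Type u} [Group K] [Fintype K]

/-- the subgroup on which two linear characters agree -/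
def eqSub {a b : K → ℂ} (ha : IsLin K a) (hb : IsLin K b) : Subgroup K where
  carrier := {k | a k = b k}
  one_mem' := by
    show a 1 = b 1
    rw [ha.2, hb.2]
  mul_mem' := by
    intro x y hx hy
    show a (x * y) = b (x * y)
    rw [ha.map_mul, hb.map_mul, hx, hy]
  inv_mem' := by
    intro x hx
    show a x⁻¹ = b x⁻¹
    rw [ha.map_inv, hb.map_inv, hx]

theorem mem_eqSub {a b : K → ℂ} (ha : IsLin K a) (hb : IsLin K b) (k : K) :
    k ∈ eqSub ha hb ↔ a k = b k := Iff.rfl

theorem eqSub_normal {a b : K → ℂ} (ha : IsLin K a) (hb : IsLin K b) : (eqSub ha hb).Normal := by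
  constructor
  intro n hn m
  rw [mem_eqSub] at hn ⊢
  have h1 := ha.ne_zero m
  have h2 := hb.ne_zero m
  rw [ha.map_mul, ha.map_mul, ha.map_inv, hb.map_mul, hb.map_mul, hb.map_inv, hn]
  field_simp

/-- an irreducible character vanishing off a normal subgroup `C` has degree divisible by every
prime divisor of the index of `C` -/
theorem prime_dvd_of_vanish (C : Subgroup K) (hC : C.Normal) (ψ : IrrCharacter K)
    (hv : ∀ k : K, k ∉ C → (ψ : K → ℂ) k = 0) {q : ℕ} (hq : q.Prime) (hqd : q ∣ C.index) :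
    q ∣ charDegree (ψ : K → ℂ) := by
  classical
  have : Fintype C := Fintype.ofFinite C
  have hnorm := Cfsg.Agent.S0857.norm_res_of_vanish C ψ.2 hv
  have h10 := Cfsg.Agent.Lib.Helper77_BlockBasics.apply_one_eq_charDegree ψ
  have hd0 : charDegree (ψ : K → ℂ) ≠ 0 := by
    obtain ⟨n, hn, h⟩ := Cfsg.Agent.Lib.Helper3_CharColumn.irr_one_eq_natCast ψ.2
    rw [h10] at h
    have : charDegree (ψ : K → ℂ) = n := by exact_mod_cast h
    omega
  have hresc : IsCharacter C (res C (ψ : K → ℂ)) :=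
    isCharacter_res C (isCharacter_of_isIrrCharacter ψ.2)
  have h11 : res C (ψ : K → ℂ) 1 ≠ 0 := by
    show (ψ : K → ℂ) ((1 : C) : K) ≠ 0
    rw [Subgroup.coe_one, h10]
    exact_mod_cast hd0
  obtain ⟨φ, hφ, hne⟩ := Cfsg.Agent.S0857.exists_constituent hresc h11
  obtain ⟨m, t, hm, ht, hdeg, hnorm2, -⟩ :=
    Cfsg.Agent.Lib.Helper74_PrimeDegC.clifford_numbers C hC ψ.2 hφ hne
  obtain ⟨b, hb0, hb⟩ := Cfsg.Agent.Lib.Helper3_CharColumn.irr_one_eq_natCast hφ
  have hqmtb : charDegree (ψ : K → ℂ) = m * t * b := by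
    have h2 : (charDegree (ψ : K → ℂ) : ℂ) = ((m * t * b : ℕ) : ℂ) := by
      rw [← h10, hdeg, hb]
      push_cast
      ring
    exact_mod_cast h2
  have hidxC : C.index = m * m * t := by
    have h2 : (C.index : ℂ) = ((m * m * t : ℕ) : ℂ) := by
      rw [← hnorm, hnorm2]
    exact_mod_cast h2
  rw [hidxC] at hqd
  rw [hqmtb]
  rcases (Nat.Prime.dvd_mul hq).mp hqd with h | h
  · rcases (Nat.Prime.dvd_mul hq).mp h with h' | h' <;>
      exact Dvd.dvd.mul_right (Dvd.dvd.mul_right h' _) _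
  · exact Dvd.dvd.mul_right (Dvd.dvd.mul_left h _) _

end Vanish

section Main

/-- a nontrivial finite solvable group has a normal subgroup of prime index -/
theorem exists_normal_prime_index' (K : Type u) [Group K] [Finite K] [Nontrivial K]
    [hs : Group.IsSolvable K] : ∃ (M : Subgroup K) (q : ℕ), M.Normal ∧ q.Prime ∧ M.index = q := by
  have hlt : commutator K < ⊤ := Group.IsSolvable.commutator_lt_top_of_nontrivial K
  obtain ⟨M, hM, hle⟩ := (eq_top_or_exists_le_coatom (commutator K)).resolve_left hlt.ne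
  have hMn : M.Normal := by
    refine ⟨fun x hx g => ?_⟩
    have : g * x * g⁻¹ = ⁅g, x⁆ * x := by rw [commutatorElement_def]; group
    rw [this]
    exact M.mul_mem (hle (Subgroup.commutator_mem_commutator (Subgroup.mem_top g)
      (Subgroup.mem_top x))) hx
  have hidx1 : M.index ≠ 1 := fun h => hM.1 (Subgroup.index_eq_one.1 h)
  obtain ⟨q, hq, hqd⟩ := Nat.exists_prime_and_dvd hidx1
  have hqf : Fact q.Prime := ⟨hq⟩
  have hqd' : q ∣ Nat.card (K ⧸ M) := by rwa [← Subgroup.index_eq_card]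
  obtain ⟨x, hx⟩ := exists_prime_orderOf_dvd_card' q hqd'
  have hMT : M ≤ (Subgroup.zpowers x).comap (QuotientGroup.mk' M) := by
    intro m hm
    rw [Subgroup.mem_comap, QuotientGroup.mk'_apply, (QuotientGroup.eq_one_iff m).2 hm]
    exact one_mem _
  have hne : (Subgroup.zpowers x).comap (QuotientGroup.mk' M) ≠ M := by
    intro h
    obtain ⟨y, rfl⟩ := QuotientGroup.mk_surjective x
    have hy : y ∈ (Subgroup.zpowers (y : K ⧸ M)).comap (QuotientGroup.mk' M) :=
      Subgroup.mem_zpowers _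
    rw [h] at hy
    have : (y : K ⧸ M) = 1 := (QuotientGroup.eq_one_iff y).2 hy
    rw [this, orderOf_one] at hx
    exact hq.one_lt.ne hx
  have hT : (Subgroup.zpowers x).comap (QuotientGroup.mk' M) = ⊤ :=
    hM.2 _ (lt_of_le_of_ne hMT (Ne.symm hne))
  have hz : Subgroup.zpowers x = ⊤ := by
    rw [eq_top_iff]
    intro z _
    obtain ⟨y, rfl⟩ := QuotientGroup.mk_surjective z
    have : y ∈ (Subgroup.zpowers x).comap (QuotientGroup.mk' M) := hT ▸ Subgroup.mem_top y
    exact this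
  refine ⟨M, q, hMn, hq, ?_⟩
  have h1 := Nat.card_zpowers x
  rw [hz, Subgroup.card_top, hx] at h1
  rw [Subgroup.index_eq_card, h1]

/-- **Manz's theorem, abstract form**: a finite solvable group has no bad triple. -/
theorem no_bad : ∀ (n : ℕ) (G : Type u) [Group G] [Finite G] [Group.IsSolvable G],
    Nat.card G = n → ∀ π : Fin 3 → Set ℕ, ¬ Bad G π := by
  intro n
  induction n using Nat.strong_induction_on with
  | _ n ih =>
  intro G _ _ _ hcard π hbad
  classical
  have : Fintype G := Fintype.ofFinite G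
  -- `G` is nontrivial
  have hnt : Nontrivial G := by
    by_contra hnt
    rw [not_nontrivial_iff_subsingleton] at hnt
    obtain ⟨p, -, hpp, χ, hχ⟩ := hbad.1 0
    have h1 := Cfsg.Agent.Lib.Helper77_BlockBasics.charDegree_dvd_card χ
    rw [Nat.card_unique] at h1
    exact hpp.one_lt.ne' (Nat.dvd_one.mp (hχ.trans h1))
  obtain ⟨N, r, hN, hr, hidx⟩ := exists_normal_prime_index' G
  have : Fintype N := Fintype.ofFinite N
  have hNlt : Nat.card N < n := by
    have h1 := N.card_mul_index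
    rw [hidx, hcard] at h1
    have h2 := hr.two_le
    have h3 : 0 < Nat.card N := Nat.card_pos
    nlinarith
  have hIH : ∀ π' : Fin 3 → Set ℕ, ¬ Bad N π' := fun π' => ih (Nat.card N) hNlt N rfl π'
  -- survivors
  have hsurv_of : ∀ i, (∀ χ : IrrCharacter G, ∀ p ∈ π i, p.Prime → p ∣ charDegree (χ : G → ℂ) →
      ¬ r ∣ charDegree (χ : G → ℂ)) →
      ∃ p ∈ π i, p.Prime ∧ ∃ ψ : IrrCharacter N, p ∣ charDegree (ψ : N → ℂ) := by
    intro i h
    obtain ⟨p, hpi, hp, χ, hχ⟩ := hbad.1 i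
    have hirr := res_irr_of_not_dvd N hr hidx χ (h χ p hpi hp hχ)
    exact ⟨p, hpi, hp, ⟨_, hirr⟩, by rw [charDegree_res N χ hirr]; exact hχ⟩
  -- if `r` lies in no `π i`
  by_cases hrπ : ∃ i, r ∈ π i
  swap
  · push Not at hrπ
    apply hIH π
    apply bad_descend N hbad
    intro i
    apply hsurv_of i
    intro χ p hpi hp hpd hrd
    exact hrπ i (hbad.2.2 χ i p r hp hr hpi hpd hrd)
  obtain ⟨i, hri⟩ := hrπ
  obtain ⟨j, k, hji, hki, hjk⟩ : ∃ j k : Fin 3, j ≠ i ∧ k ≠ i ∧ j ≠ k := by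
    fin_cases i
    · exact ⟨1, 2, by decide, by decide, by decide⟩
    · exact ⟨0, 2, by decide, by decide, by decide⟩
    · exact ⟨0, 1, by decide, by decide, by decide⟩
  -- survivors for the other two sets
  have hsurv_ne : ∀ l, l ≠ i →
      ∃ p ∈ π l, p.Prime ∧ ∃ ψ : IrrCharacter N, p ∣ charDegree (ψ : N → ℂ) := by
    intro l hl
    apply hsurv_of l
    intro χ p hpl hp hpd hrd
    have h1 := hbad.2.2 χ l p r hp hr hpl hpd hrd
    exact Set.disjoint_left.mp (hbad.2.1 l i hl) h1 hri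
  -- `π i` does not survive
  have hmiss : ∀ p ∈ π i, p.Prime → ∀ ψ : IrrCharacter N, ¬ p ∣ charDegree (ψ : N → ℂ) := by
    intro p hpi hp ψ hpd
    apply hIH π
    apply bad_descend N hbad
    intro l
    by_cases hl : l = i
    · subst hl
      exact ⟨p, hpi, hp, ψ, hpd⟩
    · exact hsurv_ne l hl
  -- does `r` divide some degree of `G`?
  by_cases hrd : ∃ χ₀ : IrrCharacter G, r ∣ charDegree (χ₀ : G → ℂ)
  swap
  · push Not at hrd
    apply hIH π
    apply bad_descend N hbad
    intro l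
    apply hsurv_of l
    intro χ p _ _ _
    exact hrd χ
  obtain ⟨χ₀, hχ₀⟩ := hrd
  have hχ₀red : ¬ IsIrrCharacter N (res N (χ₀ : G → ℂ)) := by
    intro hirr
    apply hmiss r hri hr ⟨_, hirr⟩
    rw [charDegree_res N χ₀ hirr]
    exact hχ₀
  -- a linear non-invariant character
  obtain ⟨lam, hlam, g, hg⟩ := exists_lin_not_inv N hr hidx χ₀ hχ₀red (by
    intro ψ hdvd
    by_contra h1
    obtain ⟨s, hs, hsd⟩ := Nat.exists_prime_and_dvd h1
    have hsi : s ∈ π i := hbad.2.2 χ₀ i r s hr hs hri hχ₀ (hsd.trans hdvd)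
    exact hmiss s hsi hs ψ hsd)
  -- nonlinear characters of `N` are invariant
  have hinv : ∀ ψ : IrrCharacter N, charDegree (ψ : N → ℂ) ≠ 1 →
      ∀ x : G, Helper75_Clifford.conjFun N hN (ψ : N → ℂ) x = (ψ : N → ℂ) := by
    intro ψ h1 x
    by_contra hx
    obtain ⟨η, hη, hdvd⟩ := exists_over N ψ
    have hrη := dvd_of_not_invariant N hr hidx ψ x hx η hη
    obtain ⟨s, hs, hsd⟩ := Nat.exists_prime_and_dvd h1
    have hsi : s ∈ π i := hbad.2.2 η i r s hr hs hri hrη (hsd.trans hdvd)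
    exact hmiss s hsi hs ψ hsd
  -- the subgroup `C`
  have hlamg : IsLin N (Helper75_Clifford.conjFun N hN lam g) :=
    Cfsg.Agent.Lib.Helper74_PrimeDegC.isLin_conjFun N hlam g
  have hCn : (eqSub hlamg hlam).Normal := eqSub_normal _ _
  have hCtop : eqSub hlamg hlam ≠ ⊤ := by
    intro hc
    apply hg
    funext n
    have h1 : n ∈ eqSub hlamg hlam := by rw [hc]; exact Subgroup.mem_top n
    exact h1
  have hCidx : (eqSub hlamg hlam).index ≠ 1 := fun h => hCtop (Subgroup.index_eq_one.mp h)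
  obtain ⟨q, hq, hqd⟩ := Nat.exists_prime_and_dvd hCidx
  -- `q` divides every nonlinear degree of `N`
  have hqall : ∀ ψ : IrrCharacter N, charDegree (ψ : N → ℂ) ≠ 1 → q ∣ charDegree (ψ : N → ℂ) := by
    intro ψ h1
    apply prime_dvd_of_vanish (eqSub hlamg hlam) hCn ψ _ hq hqd
    intro n hn
    have hprod : IsIrrCharacter N (lam * (ψ : N → ℂ)) := hlam.mul_irr ψ.2
    have hdeg : charDegree (lam * (ψ : N → ℂ)) = charDegree (ψ : N → ℂ) := by
      apply Cfsg.Agent.Lib.Helper75_CoprimeDeg.charDegree_eq_of_one_eq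
      rw [Pi.mul_apply, hlam.2, one_mul]
      exact Cfsg.Agent.Lib.Helper77_BlockBasics.apply_one_eq_charDegree ψ
    exact vanish_of_fixed N g (hinv ψ h1 g)
      (hinv ⟨_, hprod⟩ (by show charDegree (lam * (ψ : N → ℂ)) ≠ 1; rw [hdeg]; exact h1) g) n hn
  -- contradiction
  obtain ⟨pj, hpj, hpjp, ψj, hψj⟩ := hsurv_ne j hji
  obtain ⟨pk, hpk, hpkp, ψk, hψk⟩ := hsurv_ne k hki
  have hψj1 : charDegree (ψj : N → ℂ) ≠ 1 := by
    intro h
    rw [h] at hψj
    exact hpjp.one_lt.ne' (Nat.dvd_one.mp hψj)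
  have hψk1 : charDegree (ψk : N → ℂ) ≠ 1 := by
    intro h
    rw [h] at hψk
    exact hpkp.one_lt.ne' (Nat.dvd_one.mp hψk)
  have hqj : q ∈ π j := by
    obtain ⟨η, -, hdvd⟩ := exists_over N ψj
    exact hbad.2.2 η j pj q hpjp hq hpj (hψj.trans hdvd) ((hqall ψj hψj1).trans hdvd)
  have hqk : q ∈ π k := by
    obtain ⟨η, -, hdvd⟩ := exists_over N ψk
    exact hbad.2.2 η k pk q hpkp hq hpk (hψk.trans hdvd) ((hqall ψk hψk1).trans hdvd)
  exact Set.disjoint_left.mp (hbad.2.1 j k hjk) hqj hqk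

end Main

end Cfsg.Agent.Lib.Helper78_Manz
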