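import Mathlib
import Cfsg.Prelude.Def_Characters
import Cfsg.Prelude.Def_Blocks
import Cfsg.Agent.Lib.Helper78_McKayA

/-!
# Groups with a Sylow `p`-subgroup of order `p`: the count of characters of `p'`-degree in local
terms (helper78)

* `Tsub P θ` : the stabilizer of `θ ∈ Irr(C_G(P))` in `N_G(P)` as a subgroup of `G`, with the
  membership predicate of the frozen statement S4442 (`mem_Tsub_iff`);
* `CountHyp G p P` : the first clause of S4442 for all primes `p` (to be supplied by the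
  structure theory of blocks of defect one);
* `card_mul_card'` : under `CountHyp`, `|N_G(P)| · #{χ : p ∤ χ(1)} = ∑_θ wt p |C| |N_θ|`.
-/

set_option autoImplicit false
set_option linter.unusedSectionVars false

namespace Cfsg.Agent.Lib.Helper78_McKayB

open Cfsg Cfsg.Agent.Lib.Helper78_LocalRing Cfsg.Agent.Lib.Helper78_CharFacts
  Cfsg.Agent.Lib.Helper78_CentralChar
  Cfsg.Agent.Lib.Helper78_CentralProd Cfsg.Agent.Lib.Helper78_PartAGen
  Cfsg.Agent.Lib.Helper78_PartAGen2 Cfsg.Agent.Lib.Helper78_Transport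
  Cfsg.Agent.Lib.Helper78_TransportBlocks Cfsg.Agent.Lib.Helper78_McKayA

universe u

variable {G : Type u} [Group G] {p : ℕ} [Finite G] [hp : Fact p.Prime] {M : Ideal AlgInt}
  (P : Sylow p G)

/-- The stabilizer of `θ` in `N_G(P)`, as a subgroup of `G`. -/
def Tsub (θ : IrrCharacter (CC P)) : Subgroup G := (stabN P θ).map (NN P).subtype

theorem mem_Tsub_iff (θ : IrrCharacter (CC P)) (g : G) :
    g ∈ Tsub P θ ↔ (g ∈ NN P ∧ ∀ c c' : CC P, (c' : G) = g * c * g⁻¹ →
      (θ : CC P → ℂ) c' = (θ : CC P → ℂ) c) := by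
  unfold Tsub
  rw [Subgroup.mem_map]
  constructor
  · rintro ⟨n, hn, rfl⟩
    refine ⟨n.2, fun c c' hc' => ?_⟩
    have h1 : c' = ⟨(n : G) * (c : G) * (n : G)⁻¹, conj_mem_CC P n c⟩ := Subtype.ext hc'
    have h2 : conjIrr P n θ = θ := hn
    rw [h1, ← conjIrr_apply, h2]
  · rintro ⟨hg, h⟩
    refine ⟨⟨g, hg⟩, ?_, rfl⟩
    show conjIrr P ⟨g, hg⟩ θ = θ
    apply Subtype.ext
    funext c
    rw [conjIrr_apply]
    exact h c ⟨_, conj_mem_CC P ⟨g, hg⟩ c⟩ rfl

theorem card_Tsub (θ : IrrCharacter (CC P)) : Nat.card (Tsub P θ) = Nat.card (stabN P θ) :=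
  Subgroup.card_map_of_injective (Subgroup.subtype_injective _)

theorem cc_le_Tsub (θ : IrrCharacter (CC P)) : CC P ≤ Tsub P θ := by
  intro g hg
  rw [mem_Tsub_iff]
  refine ⟨Subgroup.centralizer_le_normalizer _ hg, fun c c' hc' => ?_⟩
  have hcl := isIrrCharacter_isClassFunction θ.2
  have h1 : c' = (⟨g, hg⟩ : CC P) * c * (⟨g, hg⟩ : CC P)⁻¹ := Subtype.ext (by rw [hc']; rfl)
  rw [h1]
  exact hcl c ⟨g, hg⟩

theorem relIndex_Tsub (θ : IrrCharacter (CC P)) :
    (CC P).relIndex (Tsub P θ) = Nat.card (stabN P θ) / Nat.card (CC P) := by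
  have h1 : (CC P).relIndex (Tsub P θ) * Nat.card (CC P) = Nat.card (Tsub P θ) := by
    unfold Subgroup.relIndex
    rw [← Subgroup.card_mul_index ((CC P).subgroupOf (Tsub P θ)), mul_comm,
      Nat.card_congr (Subgroup.subgroupOfEquivOfLe (cc_le_Tsub P θ)).toEquiv]
  rw [← card_Tsub, ← h1, Nat.mul_div_cancel _ Nat.card_pos]

/-- The first clause of the frozen statement S4442, for all primes. -/
def CountHyp (G : Type u) [Group G] (p : ℕ) (P : Sylow p G) : Prop :=
  ∀ (M : Ideal AlgInt), IsPModular p M → ∀ (B : Set (IrrCharacter G))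
    (b : Set (IrrCharacter (CC P))) (θ : IrrCharacter (CC P)),
    IsInducedBlock M (CC P) b B → θ ∈ b → KerZ (ZZ P) θ →
    ∀ T : Subgroup G, (∀ g : G, g ∈ T ↔ (g ∈ NN P ∧ ∀ c c' : CC P, (c' : G) = g * c * g⁻¹ →
      (θ : CC P → ℂ) c' = (θ : CC P → ℂ) c)) →
    Nat.card B = (CC P).relIndex T + (p - 1) / (CC P).relIndex T

/-- The local weight of a character `θ` of `C_G(P)`: `t (t/c + (p-1)/(t/c))` with `c = |C_G(P)|`,
`t = |N_θ|`. -/
def wt (p c t : ℕ) : ℕ := t * (t / c + (p - 1) / (t / c))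

open scoped Classical in
theorem card_mul_card' [Fintype (IrrCharacter (CC P))] [Fintype (IrrCharacter G)]
    (hM : IsPModular p M) (hP : Nat.card P = p) (hC : CountHyp G p P) :
    Nat.card (NN P) * Nat.card {χ : IrrCharacter G // ¬ p ∣ charDegree (χ : G → ℂ)} =
      ∑ θ : IrrCharacter (CC P),
        if KerZ (ZZ P) θ then wt p (Nat.card (CC P)) (Nat.card (stabN P θ)) else 0 := by
  rw [card_mul_card P hM hP]
  refine Finset.sum_congr rfl fun θ _ => ?_
  split_ifs with hk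
  · have h1 := hC M hM (indBlk P M θ) _ θ (indBlk_spec P hM hP θ)
      (mem_blockOf_self (isPrime_of_isPModular hM) θ) hk (Tsub P θ) (mem_Tsub_iff P θ)
    rw [h1, relIndex_Tsub]
    rfl
  · rfl

end Cfsg.Agent.Lib.Helper78_McKayB
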