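import Mathlib
import Cfsg.Prelude.Def_Characters
import Cfsg.Prelude.Def_Blocks
import Cfsg.Agent.S0133
import Cfsg.Agent.S0165
import Cfsg.Agent.Lib.Helper3_Ito
import Cfsg.Agent.Lib.Helper78_McKayB

/-!
# McKay's equality for a Sylow `p`-subgroup of order `p`, from the block count (helper78)

`mckay` : if the first clause of S4442 (`CountHyp`) holds for `G` and for `N_G(P)`, then the number
of irreducible characters of `G` of degree prime to `p` is the class number of `N_G(P)`.
The proof applies the weighted count `card_mul_card'` to `G` and to the group `N_G(P)` (whose Sylow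
subgroup `P` is normal, so that all its irreducible characters have degree prime to `p` by Itô),
and compares the two local sums through `C_{N_G(P)}(P) = C_G(P)`.
-/

set_option autoImplicit false
set_option linter.unusedSectionVars false

namespace Cfsg.Agent.Lib.Helper78_McKayC

open Cfsg Cfsg.Agent.Lib.Helper78_LocalRing Cfsg.Agent.Lib.Helper78_CharFacts
  Cfsg.Agent.Lib.Helper78_CentralChar
  Cfsg.Agent.Lib.Helper78_CentralProd Cfsg.Agent.Lib.Helper78_PartAGen
  Cfsg.Agent.Lib.Helper78_PartAGen2 Cfsg.Agent.Lib.Helper78_Transport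
  Cfsg.Agent.Lib.Helper78_TransportBlocks Cfsg.Agent.Lib.Helper78_McKayA
  Cfsg.Agent.Lib.Helper78_McKayB

universe u

variable {G : Type u} [Group G] {p : ℕ} [Finite G] [hp : Fact p.Prime] (P : Sylow p G)

/-- `P` as a Sylow subgroup of its normalizer. -/
noncomputable abbrev PN : Sylow p (NN P) := P.subtype Subgroup.le_normalizer

theorem coe_PN : ((PN P : Sylow p (NN P)) : Subgroup (NN P)) = (P : Subgroup G).subgroupOf (NN P) :=
  rfl

theorem card_PN (hP : Nat.card P = p) : Nat.card (PN P) = p := by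
  have h1 : Nat.card (PN P) = Nat.card ((P : Subgroup G).subgroupOf (NN P)) := rfl
  rw [h1, Nat.card_congr (Subgroup.subgroupOfEquivOfLe
    (Subgroup.le_normalizer (H := (P : Subgroup G)))).toEquiv]
  exact hP

theorem mem_CC_PN (x : NN P) : x ∈ CC (PN P) ↔ (x : G) ∈ CC P := by
  show x ∈ Subgroup.centralizer (((PN P : Sylow p (NN P)) : Subgroup (NN P)) : Set (NN P)) ↔
    (x : G) ∈ Subgroup.centralizer ((P : Subgroup G) : Set G)
  rw [Subgroup.mem_centralizer_iff, Subgroup.mem_centralizer_iff]
  constructor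
  · intro h y hy
    have h1 := h ⟨y, Subgroup.le_normalizer hy⟩ (by
      show (⟨y, _⟩ : NN P) ∈ (P : Subgroup G).subgroupOf (NN P)
      rw [Subgroup.mem_subgroupOf]; exact hy)
    exact congrArg Subtype.val h1
  · intro h y hy
    have hy' : (y : G) ∈ (P : Subgroup G) := Subgroup.mem_subgroupOf.mp hy
    exact Subtype.ext (h (y : G) hy')

/-- `C_{N_G(P)}(P) ≃ C_G(P)`. -/
def kap : CC (PN P) ≃* CC P where
  toFun x := ⟨((x : NN P) : G), (mem_CC_PN P x.1).mp x.2⟩
  invFun c := ⟨⟨c.1, Subgroup.centralizer_le_normalizer _ c.2⟩, (mem_CC_PN P _).mpr c.2⟩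
  left_inv _ := rfl
  right_inv _ := rfl
  map_mul' _ _ := rfl

theorem kap_coe (x : CC (PN P)) : ((kap P x : CC P) : G) = ((x : NN P) : G) := rfl

theorem NN_PN : NN (PN P) = ⊤ := by
  have : ((P : Subgroup G).subgroupOf (NN P)).Normal := Subgroup.normal_in_normalizer
  show Subgroup.normalizer ((((PN P : Sylow p (NN P)) : Subgroup (NN P))) : Set (NN P)) = ⊤
  rw [coe_PN]
  exact Subgroup.normalizer_eq_top ((P : Subgroup G).subgroupOf (NN P))

theorem card_NN_PN : Nat.card (NN (PN P)) = Nat.card (NN P) := by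
  rw [NN_PN]
  exact Nat.card_congr Subgroup.topEquiv.toEquiv

theorem card_CC_PN : Nat.card (CC (PN P)) = Nat.card (CC P) :=
  Nat.card_congr (kap P).toEquiv

theorem conjIrr_irrComp (n' : NN (PN P)) (θ : IrrCharacter (CC P)) :
    conjIrr (PN P) n' (irrComp (kap P) θ) = irrComp (kap P) (conjIrr P n'.1 θ) := by
  apply Subtype.ext
  funext c
  rw [conjIrr_apply, irrComp_apply, irrComp_apply, conjIrr_apply]
  refine congrArg _ (Subtype.ext ?_)
  rfl

theorem kerZ_irrComp_iff (θ : IrrCharacter (CC P)) :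
    KerZ (ZZ (PN P)) (irrComp (kap P) θ) ↔ KerZ (ZZ P) θ := by
  constructor
  · intro h z hz
    have hz' : (z : G) ∈ (P : Subgroup G) := Subgroup.mem_subgroupOf.mp hz
    have h1 := h ((kap P).symm z) (by
      rw [Subgroup.mem_subgroupOf]
      show (((kap P).symm z : CC (PN P)) : NN P) ∈ (P : Subgroup G).subgroupOf (NN P)
      rw [Subgroup.mem_subgroupOf]
      exact hz')
    rw [irrComp_apply, irrComp_apply, MulEquiv.apply_symm_apply, map_one] at h1
    exact h1
  · intro h z hz
    rw [irrComp_apply, irrComp_apply, map_one]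
    apply h
    rw [Subgroup.mem_subgroupOf]
    have h1 : ((z : CC (PN P)) : NN P) ∈ (P : Subgroup G).subgroupOf (NN P) :=
      Subgroup.mem_subgroupOf.mp hz
    exact Subgroup.mem_subgroupOf.mp h1

theorem card_stabN_irrComp (θ : IrrCharacter (CC P)) :
    Nat.card (stabN (PN P) (irrComp (kap P) θ)) = Nat.card (stabN P θ) := by
  have key : ∀ n' : NN (PN P), n' ∈ stabN (PN P) (irrComp (kap P) θ) ↔ n'.1 ∈ stabN P θ := by
    intro n'
    rw [mem_stabN, mem_stabN, conjIrr_irrComp]
    exact ⟨fun h => irrComp_injective (kap P) h, fun h => by rw [h]⟩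
  apply Nat.card_congr
  refine ⟨fun n' => ⟨n'.1.1, (key n'.1).mp n'.2⟩,
    fun n => ⟨⟨n.1, by rw [NN_PN]; exact Subgroup.mem_top _⟩, (key _).mpr n.2⟩, ?_, ?_⟩
  · intro n'
    rfl
  · intro n
    rfl

/-- Every irreducible character of `N_G(P)` has degree prime to `p`. -/
theorem not_dvd_charDegree_NN (hP : Nat.card P = p) (ψ : IrrCharacter (NN P)) :
    ¬ p ∣ charDegree (ψ : NN P → ℂ) := by
  have hnorm : ((P : Subgroup G).subgroupOf (NN P)).Normal := Subgroup.normal_in_normalizer
  obtain ⟨n, ρ, hirr, hρ⟩ := ψ.2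
  have := hirr
  have hab : ∀ a ∈ (P : Subgroup G).subgroupOf (NN P), ∀ b ∈ (P : Subgroup G).subgroupOf (NN P),
      a * b = b * a := by
    intro a ha b hb
    have ha' : (a : G) ∈ (P : Subgroup G) := Subgroup.mem_subgroupOf.mp ha
    have hb' : (b : G) ∈ (P : Subgroup G) := Subgroup.mem_subgroupOf.mp hb
    have h1 := Subgroup.mem_centralizer_iff.mp (le_cc P hP hb') (a : G) ha'
    exact Subtype.ext h1
  have h1 := Cfsg.Agent.Lib.Helper3_Ito.ito ρ ((P : Subgroup G).subgroupOf (NN P)) hab
  rw [Module.finrank_fin_fun] at h1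
  obtain ⟨m, -, hm1, hm2, -⟩ := Cfsg.Agent.Lib.Helper77_BlockBasics.exists_degree ψ
  have h3 : (ψ : NN P → ℂ) 1 = n := by
    rw [← hρ, Representation.char_one]
    simp
  have h4 : m = n := by
    rw [hm1] at h3
    exact_mod_cast h3
  rw [hm2, h4]
  intro hdvd
  have h5 : p ∣ ((PN P : Sylow p (NN P)) : Subgroup (NN P)).index := by
    rw [coe_PN]
    exact hdvd.trans h1
  exact (PN P).not_dvd_index h5

open scoped Classical in
/-- **McKay's equality** for a Sylow subgroup of order `p`, from the block counts for `G` and for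
`N_G(P)`. -/
theorem mckay (hP : Nat.card P = p) (hCG : CountHyp G p P) (hCN : CountHyp (NN P) p (PN P)) :
    Nat.card {χ : IrrCharacter G // ¬ p ∣ charDegree (χ : G → ℂ)} =
      Nat.card (ConjClasses (NN P)) := by
  obtain ⟨M, hM⟩ := Cfsg.Agent.S0165.exists_isPModular p hp.out
  have := Fintype.ofFinite G
  have : Fintype (IrrCharacter G) := @Fintype.ofFinite _ charFacts.finite
  have : Fintype (NN P) := Fintype.ofFinite _
  have : Fintype (CC P) := Fintype.ofFinite _
  have : Fintype (CC (PN P)) := Fintype.ofFinite _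
  have : Fintype (IrrCharacter (NN P)) := @Fintype.ofFinite _ charFacts.finite
  have : Fintype (IrrCharacter (CC P)) := @Fintype.ofFinite _ charFacts.finite
  have : Fintype (IrrCharacter (CC (PN P))) := @Fintype.ofFinite _ charFacts.finite
  have e1 := card_mul_card' P hM hP hCG
  have e2 := card_mul_card' (PN P) hM (card_PN P hP) hCN
  -- all characters of `N` count
  have hall : Nat.card {ψ : IrrCharacter (NN P) // ¬ p ∣ charDegree (ψ : NN P → ℂ)} =
      Nat.card (ConjClasses (NN P)) := by
    rw [← Cfsg.Agent.S0133.result (G := NN P)]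
    exact Nat.card_congr (Equiv.subtypeUnivEquiv (not_dvd_charDegree_NN P hP))
  rw [hall, card_NN_PN] at e2
  -- the two local sums agree
  let E : IrrCharacter (CC P) ≃ IrrCharacter (CC (PN P)) :=
    ⟨irrComp (kap P), irrComp (kap P).symm, irrComp_symm_irrComp (kap P),
      irrComp_irrComp_symm (kap P)⟩
  have hsum : (∑ θ : IrrCharacter (CC P),
      if KerZ (ZZ P) θ then wt p (Nat.card (CC P)) (Nat.card (stabN P θ)) else 0) =
      ∑ θ' : IrrCharacter (CC (PN P)),
        if KerZ (ZZ (PN P)) θ' then wt p (Nat.card (CC (PN P))) (Nat.card (stabN (PN P) θ'))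
        else 0 := by
    rw [← Equiv.sum_comp E]
    refine Finset.sum_congr rfl fun θ _ => ?_
    show _ = if KerZ (ZZ (PN P)) (irrComp (kap P) θ) then
      wt p (Nat.card (CC (PN P))) (Nat.card (stabN (PN P) (irrComp (kap P) θ))) else 0
    rw [card_stabN_irrComp, card_CC_PN]
    simp only [kerZ_irrComp_iff]
  rw [← hsum, ← e1] at e2
  exact (Nat.eq_of_mul_eq_mul_left Nat.card_pos e2).symm

end Cfsg.Agent.Lib.Helper78_McKayC
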