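import Mathlib
import Cfsg.Prelude.Def_Characters
import Cfsg.Prelude.Def_Blocks
import Cfsg.Agent.Lib.Helper16_GenMain
import Cfsg.Agent.Lib.Helper16_GenBridge
import Cfsg.Agent.Lib.Helper78_McKayB

/-!
# The number of characters in a block of defect one, from the structure theorem (helper78)

`countHyp_of` : the hypothesis `CountHyp G p P` of `Helper78_McKayB` (the first clause of S4442 for
every prime `p`) follows from `CTGen G p P` (helper57) and `H1V` (helper17/helper74) through
helper16's structure theorem `gen_structure` and the bridge `Helper16_GenBridge`.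
-/

set_option autoImplicit false
set_option linter.unusedSectionVars false

namespace Cfsg.Agent.Lib.Helper78_McKayD

open Cfsg Cfsg.Agent.Lib.Helper78_LocalRing Cfsg.Agent.Lib.Helper78_CharFacts
  Cfsg.Agent.Lib.Helper78_CentralProd Cfsg.Agent.Lib.Helper78_PartAGen
  Cfsg.Agent.Lib.Helper78_PartAGen2 Cfsg.Agent.Lib.Helper78_McKayA
  Cfsg.Agent.Lib.Helper78_McKayB
  Cfsg.Agent.Lib.Helper16_GenSetup Cfsg.Agent.Lib.Helper16_GenK Cfsg.Agent.Lib.Helper16_GenMain
  Cfsg.Agent.Lib.Helper16_GenBridge

universe u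

variable {G : Type u} [Group G] [Fintype G] {p : ℕ} [hp : Fact p.Prime] (P : Sylow p G)

theorem countHyp_of (hP : Nat.card P = p) (hCT : CTGen G p P)
    (hH1 : ∀ (V : Subgroup G) [Fintype ↥V] (hV : IsPCompl P V) (θ : IrrCharacter ↥V),
      H1V hV θ) : CountHyp G p P := by
  classical
  intro M hM B b θ hind hθ hk T hT
  obtain ⟨V, hV⟩ := exists_isPCompl (P := P) hP
  let _ : Fintype ↥V := Fintype.ofFinite _
  let _ : Fintype ↥(P : Subgroup G) := Fintype.ofFinite _
  let _ : Fintype (↥(P : Subgroup G) →* ℂˣ) := Fintype.ofFinite _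
  have hker : KerP θ := kerP_of_kerZ hk
  set θV := resV hP hV θ hker with hθV
  have hstab : stab hV θV = T := stab_eq hP hV θ hker T hT
  obtain ⟨X, Y, εX, ε, hXY, hdisj, hXc, hYc, -⟩ :=
    gen_structure hP hV θV ((CC P).relIndex T) (by rw [hstab]) hCT (hH1 V hV θV)
  have hB : IsPBlock M B := hind.2.1
  have hBP : IsDefectGroup p M B (P : Subgroup G) := isDefectGroup_of_induced P hM hP hind
  -- `B = BGen P V θV`
  have hBeq : B = ((X ∪ Y : Finset (IrrCharacter G)) : Set (IrrCharacter G)) := by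
    ext χ
    rw [Finset.mem_coe, Finset.mem_union, ← hXY χ, mem_BGen]
    constructor
    · intro hχ
      obtain ⟨x, hx, hx1, hne⟩ := exists_aCoef_ne_zero P hM hP hB hBP hind hθ hk hχ
      refine ⟨⟨x, hx⟩, fun h => hx1 (congrArg Subtype.val h), ?_⟩
      rw [← aCoef_eq_sfun hP hV θ hker χ ⟨x, hx⟩]
      exact hne
    · rintro ⟨h, hh1, hne⟩
      by_contra hχ
      apply hne
      rw [← aCoef_eq_sfun hP hV θ hker χ h]
      exact aCoef_eq_zero_of_not_mem P hM hP hind hθ hχ h.2
        (fun h1 => hh1 (Subtype.ext h1))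
  have hcard : Nat.card B = (X ∪ Y).card := by
    rw [hBeq, Nat.card_coe_set_eq, Set.ncard_coe_finset]
  rw [hcard, Finset.card_union_of_disjoint hdisj, hXc]
  congr 1
  have hp1 : 0 < p - 1 := by have := hp.out.two_le; omega
  have he0 : 0 < (CC P).relIndex T := by
    rcases Nat.eq_zero_or_pos ((CC P).relIndex T) with h | h
    · rw [h, zero_mul] at hYc; omega
    · exact h
  exact (Nat.div_eq_of_eq_mul_right he0 hYc.symm).symm

end Cfsg.Agent.Lib.Helper78_McKayD
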