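import Mathlib
import Cfsg.Prelude.Def_Blocks
import Cfsg.Prelude.Def_BlockLocal
import Cfsg.Prelude.Def_BrauerPairs
import Cfsg.Prelude.Def_BlockFusion
import Cfsg.Agent.Lib.Helper78_AutGroup
import Cfsg.Agent.Lib.Helper78_Saturated
import Cfsg.Agent.Lib.Helper78_BlockFusion2
import Cfsg.Agent.Lib.Helper84_FusionEssential
import Cfsg.Agent.Lib.Helper48_SPE

/-!
# A block is nilpotent iff its fusion system is inner (helper78, S4686)
-/

set_option autoImplicit false
set_option linter.unusedSectionVars false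

namespace Cfsg.Agent.Lib.Helper78_NilpotentInner

open Cfsg Cfsg.Agent.Lib.Helper78_LocalRing
  Cfsg.Agent.Lib.Helper78_SubpairTrans Cfsg.Agent.Lib.Helper78_SubpairUnique
  Cfsg.Agent.Lib.Helper78_FirstMain Cfsg.Agent.Lib.Helper78_MaxPair
  Cfsg.Agent.Lib.Helper78_PairConj Cfsg.Agent.Lib.Helper78_PairStab
  Cfsg.Agent.Lib.Helper78_BlockFusion Cfsg.Agent.Lib.Helper78_BlockFusion2
  Cfsg.Agent.Lib.Helper78_BlockFusionSys
  Cfsg.Agent.Lib.Helper78_Automized Cfsg.Agent.Lib.Helper78_Saturated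
  Cfsg.Agent.Lib.Helper78_AbelianNilpotent Cfsg.Agent.Lib.Helper78_AutGroup

universe u

/-- A finite `p`-group has no strongly `p`-embedded subgroup. -/
theorem not_isStronglyPEmbedded_of_isPGroup {X : Type*} [Group X] [Finite X] {p : ℕ}
    [Fact p.Prime] (hX : IsPGroup p X) (Y : Subgroup X) : ¬ IsStronglyPEmbedded p Y := by
  rintro ⟨hdvd, hne, T, hT⟩
  have hp : p.Prime := Fact.out
  apply hne
  rw [eq_top_iff]
  refine le_trans ?_ hT
  have hTtop : (⊤ : Subgroup X) = (T : Subgroup X) := T.is_maximal' (hX.to_subgroup ⊤) le_top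
  have hnt : Nontrivial X := by
    rw [← Finite.one_lt_card_iff_nontrivial]
    have h1 : p ≤ Nat.card X := Nat.le_of_dvd Nat.card_pos hdvd
    exact lt_of_lt_of_le hp.one_lt h1
  have hTne : (T : Subgroup X) ≠ ⊥ := by
    rw [← hTtop]
    exact (bot_ne_top (α := Subgroup X)).symm
  have hnr : ¬ PRankLE p 0 (T : Subgroup X) :=
    Cfsg.Agent.Lib.Helper48_SPE.not_pRankLE_zero_of_ne_bot T.2 hTne
  have hnorm : (⊤ : Subgroup X) ≤ Subgroup.normalizer (((T : Subgroup X)) : Set X) := by
    intro x _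
    rw [Subgroup.mem_set_normalizer_iff]
    intro h
    rw [SetLike.mem_coe, SetLike.mem_coe, ← hTtop]
    exact ⟨fun _ => Subgroup.mem_top _, fun _ => Subgroup.mem_top _⟩
  refine hnorm.trans ?_
  unfold kGeneratedCore
  exact le_iSup (fun Q : {Q : Subgroup X // Q ≤ (T : Subgroup X) ∧ ¬ PRankLE p (1 - 1) Q} =>
    Subgroup.normalizer ((Q : Subgroup X) : Set X)) ⟨(T : Subgroup X), le_rfl, by simpa using hnr⟩

variable {G : Type u} [Group G] {M : Ideal AlgInt} {p : ℕ}

section Main

variable [Fintype G] [Fact p.Prime]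

/-- **S4686**. -/
theorem nilpotent_iff_inner (hM : IsPModular p M) {B : Set (IrrCharacter G)}
    {P : Subgroup G} {e : Set (IrrCharacter (Subgroup.centralizer (P : Set G)))}
    (hmax : IsMaximalBrauerPair p M B P e) {F : FusionSystem P}
    (hF : IsBlockFusionSystemOn p M B P e F) :
    IsNilpotentBlock p M B ↔ ∀ Q : Subgroup G, F.Hom Q = (innerFusionSystem P).Hom Q := by
  classical
  have hp : p.Prime := Fact.out
  have hMp := isPrime_of_isPModular hM
  have hPe := hmax.1.1
  have he := hPe.2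
  constructor
  · intro hnil
    have hsat := isSaturated hM hF
    have hpg : ∀ Q : Subgroup G, Q ≤ P → IsPGroup p (F.autGroup Q) := by
      intro Q hQP
      obtain ⟨f, hf, hle⟩ := exists_subpairLE hM hPe Q hQP
      exact isPGroup_autGroup_of_nilpotent hM hF hnil hQP hf hle (stabPair Q f)
        (mem_stabPair_iff hMp hf)
    have hle : F ≤ innerFusionSystem P := by
      apply Cfsg.Agent.Lib.Helper84_FusionEssential.alperin_goldschmidt hPe.1 F hsat
      intro Q hQ
      rcases hQ with hQ | hess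
      · subst hQ
        have hTP := mem_stabPair_iff hMp he (Q := Q)
        obtain ⟨F', hF', hF'c, hD⟩ := (isFullyNormalized_iff hM hmax hF le_rfl he
          Relation.ReflTransGen.refl (stabPair Q e) hTP).mp ⟨le_rfl, fun Q' _ => by
            unfold FusionSystem.normalizerIn
            apply Subgroup.card_le_of_le
            exact le_inf inf_le_left (inf_le_left.trans Subgroup.le_normalizer)⟩
        obtain ⟨-, R, hR⟩ := isFullyAutomized_of_defect hM hF le_rfl he
          Relation.ReflTransGen.refl (stabPair Q e) hTP hF' hF'c hD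
        have hRtop : (⊤ : Subgroup (F.autGroup Q)) = (R : Subgroup (F.autGroup Q)) :=
          R.is_maximal' ((hpg Q le_rfl).to_subgroup ⊤) le_top
        have h1 : F.autGroup Q ≤ autInducedBy Q Q := by
          intro α hα
          have h2 : (⟨α, hα⟩ : F.autGroup Q) ∈ (R : Subgroup (F.autGroup Q)) := by
            rw [← hRtop]
            exact Subgroup.mem_top _
          rw [hR, Subgroup.mem_subgroupOf] at h2
          exact h2
        refine h1.trans ?_
        unfold autInducedBy FusionSystem.autGroup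
        apply Subgroup.closure_mono
        rintro α ⟨g, hg, hα⟩
        exact ⟨le_rfl, g, hg, fun x => hα x⟩
      · exfalso
        obtain ⟨hcen, -, hnorm, E', hE'⟩ := hess
        have hq : IsPGroup p (F.autGroup Q ⧸ (Inn Q).subgroupOf (F.autGroup Q)) :=
          (hpg Q hcen.1).to_quotient _
        exact not_isStronglyPEmbedded_of_isPGroup hq E' hE'
    intro Q
    apply Set.Subset.antisymm (hle Q)
    rintro φ ⟨hQP, g, hg, hφ⟩
    have h1 : φ = conjHom Q g := by
      ext x
      rw [hφ]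
      rfl
    rw [h1]
    exact F.conj_mem hQP hg
  · intro h
    refine ⟨hmax.1.2.1, fun R g hRg x hxN hxst hreg => ?_⟩
    obtain ⟨y, hy⟩ := exists_conj_subpairLE hM hmax hRg
    have hQP : R.map (MulAut.conj y).toMonoidHom ≤ P := le_of_chain hy
    have hf : IsPBlock M (conjBlock R y g) := (isBrauerPair_conj y hRg.1).2
    have hx' := (stab_conj_iff R y g x).mpr ⟨hxN, hxst⟩
    have hT := mem_stabPair_iff hMp hf (Q := R.map (MulAut.conj y).toMonoidHom)
    have hTN : stabPair _ (conjBlock R y g) ≤ Subgroup.normalizer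
        ((R.map (MulAut.conj y).toMonoidHom : Subgroup G) : Set G) :=
      fun z hz => ((hT z).mp hz).1
    have hx'T : y * x * y⁻¹ ∈ stabPair _ (conjBlock R y g) := (hT _).mpr hx'
    have hmemF : (R.map (MulAut.conj y).toMonoidHom).subtype.comp
        (stabAut hTN ⟨y * x * y⁻¹, hx'T⟩).toMonoidHom ∈
        F.Hom (R.map (MulAut.conj y).toMonoidHom) :=
      (mem_autGen_iff hM hF hQP hf hy _ hT _).mpr ⟨y * x * y⁻¹, hx'T, fun u => rfl⟩
    rw [h] at hmemF
    obtain ⟨-, g₁, hg₁P, hg₁⟩ := hmemF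
    have hg₁' : ∀ u : (R.map (MulAut.conj y).toMonoidHom : Subgroup G),
        ((stabAut hTN ⟨y * x * y⁻¹, hx'T⟩ u : (R.map (MulAut.conj y).toMonoidHom : Subgroup G)) : G) =
          g₁ * (u : G) * g₁⁻¹ := fun u => hg₁ u
    have hg₁N := mem_normalizer_of_map_conj_eq (map_conj_eq_of_aut _ hg₁')
    have hg₁T : g₁ ∈ stabPair _ (conjBlock R y g) :=
      normalizerIn_le_stab hM hy _ hT ⟨hg₁P, hg₁N⟩
    have heq : stabAut hTN ⟨y * x * y⁻¹, hx'T⟩ = stabAut hTN ⟨g₁, hg₁T⟩ := by
      ext u
      rw [hg₁' u]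
      rfl
    -- orders
    have ho1 : orderOf (stabAut hTN ⟨y * x * y⁻¹, hx'T⟩) ∣ orderOf x := by
      have h1 := orderOf_map_dvd (stabAut hTN) (⟨y * x * y⁻¹, hx'T⟩ : stabPair _ (conjBlock R y g))
      have h2 : orderOf (⟨y * x * y⁻¹, hx'T⟩ : stabPair _ (conjBlock R y g)) = orderOf x := by
        rw [← Subgroup.orderOf_coe]
        exact (MulAut.conj y).orderOf_eq x
      rwa [h2] at h1
    obtain ⟨k, hk⟩ := (IsPGroup.iff_orderOf.mp hPe.1) ⟨g₁, hg₁P⟩
    have ho2 : orderOf (stabAut hTN ⟨y * x * y⁻¹, hx'T⟩) ∣ p ^ k := by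
      rw [heq]
      have h1 := orderOf_map_dvd (stabAut hTN) (⟨g₁, hg₁T⟩ : stabPair _ (conjBlock R y g))
      have h2 : orderOf (⟨g₁, hg₁T⟩ : stabPair _ (conjBlock R y g)) = p ^ k := by
        rw [← Subgroup.orderOf_coe]
        rw [← hk, ← Subgroup.orderOf_coe]
      rwa [h2] at h1
    have hcop : Nat.Coprime (orderOf x) (p ^ k) :=
      Nat.Coprime.pow_right k ((Nat.Prime.coprime_iff_not_dvd hp).mpr hreg).symm
    have hone : orderOf (stabAut hTN ⟨y * x * y⁻¹, hx'T⟩) = 1 :=
      Nat.eq_one_of_dvd_coprimes hcop ho1 ho2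
    rw [orderOf_eq_one_iff, ← MonoidHom.mem_ker, stabAut_ker, Subgroup.mem_subgroupOf] at hone
    exact (mem_centralizer_map_conj_iff R y x).mp hone

end Main

end Cfsg.Agent.Lib.Helper78_NilpotentInner
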