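import Mathlib
import Cfsg.Prelude.Def_Blocks
import Cfsg.Prelude.Def_BlockLocal
import Cfsg.Prelude.Def_BrauerPairs
import Cfsg.Prelude.Def_BlockFusion
import Cfsg.Agent.Lib.Helper78_PairCent
import Cfsg.Agent.Lib.Helper78_NilpotentInner

/-!
# Local blocks of a nilpotent block (helper78, S4688)

For a nilpotent block `B` and a Brauer pair `(Q, f)` of `B`, the block `f` of `C_G(Q)` is
nilpotent; if `(Q, f) ≤ (P, e)` then `C_P(Q)` is a defect group of `f`.
-/

set_option autoImplicit false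
set_option linter.unusedSectionVars false

namespace Cfsg.Agent.Lib.Helper78_NilpotentLocal

open Cfsg Cfsg.Agent.Lib.Helper78_LocalRing
  Cfsg.Agent.Lib.Helper78_Transport Cfsg.Agent.Lib.Helper78_TransportBlocks
  Cfsg.Agent.Lib.Helper78_SubpairTrans Cfsg.Agent.Lib.Helper78_SubpairUnique
  Cfsg.Agent.Lib.Helper78_FirstMainGT
  Cfsg.Agent.Lib.Helper78_FirstMain Cfsg.Agent.Lib.Helper78_MaxPair
  Cfsg.Agent.Lib.Helper78_PairConj Cfsg.Agent.Lib.Helper78_PairCent
  Cfsg.Agent.Lib.Helper78_BlockFusion Cfsg.Agent.Lib.Helper78_BlockFusionSys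
  Cfsg.Agent.Lib.Helper78_NilpotentInner

universe u

variable {G : Type u} [Group G] {M : Ideal AlgInt} {p : ℕ}

/-- `C_P(Q^g) = C_P(Q)^g` for `g ∈ P`. -/
theorem centralizerIn_map_conj {P Q : Subgroup G} {g : G} (hg : g ∈ P) :
    P ⊓ Subgroup.centralizer ((Q.map (MulAut.conj g).toMonoidHom : Subgroup G) : Set G) =
      (P ⊓ Subgroup.centralizer (Q : Set G)).map (MulAut.conj g).toMonoidHom := by
  ext y
  constructor
  · rintro ⟨hyP, hyC⟩
    refine ⟨g⁻¹ * y * g, ⟨P.mul_mem (P.mul_mem (P.inv_mem hg) hyP) hg, ?_⟩, ?_⟩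
    · show g⁻¹ * y * g ∈ Subgroup.centralizer (Q : Set G)
      rw [← mem_centralizer_map_conj_iff Q g]
      have h1 : g * (g⁻¹ * y * g) * g⁻¹ = y := by group
      rw [h1]
      exact hyC
    · simp only [MulEquiv.coe_toMonoidHom, MulAut.conj_apply]
      group
  · rintro ⟨c, ⟨hcP, hcC⟩, rfl⟩
    simp only [MulEquiv.coe_toMonoidHom, MulAut.conj_apply]
    exact ⟨P.mul_mem (P.mul_mem hg hcP) (P.inv_mem hg), (mem_centralizer_map_conj_iff Q g c).mpr hcC⟩

section Main

variable [Fintype G] [Fact p.Prime]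

/-- The local blocks of a nilpotent block are nilpotent. -/
theorem isNilpotentBlock_local (hM : IsPModular p M) {B : Set (IrrCharacter G)}
    (hnil : IsNilpotentBlock p M B) {Q : Subgroup G}
    {f : Set (IrrCharacter (Subgroup.centralizer (Q : Set G)))}
    (hQf : IsBrauerPairOf p M B Q f) : IsNilpotentBlock p M f := by
  have hB := hQf.2.1
  have hQ := hQf.1.1
  refine ⟨hQf.1.2, fun D g' hDg' x hxN hxst hreg => ?_⟩
  have hn := isNormalSubpair_of_isBrauerPairOf hQ hDg'
  have hpair : IsBrauerPairOf p M B (supSub Q D) (mapBlock (centIso Q D).symm g') :=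
    (isBrauerPairOf_iff_of_isNormalSubpair hM hn hB).mpr hQf
  -- `x` normalizes `Q ⊔ D`
  have hxQ : (x : G) ∈ Subgroup.normalizer (Q : Set G) := centralizer_le_normalizer Q x.2
  have hxD : (x : G) ∈ Subgroup.normalizer
      ((D.map (Subgroup.centralizer (Q : Set G)).subtype : Subgroup G) : Set G) :=
    Subgroup.le_normalizer_map _ ⟨x, hxN, rfl⟩
  have hxS : (x : G) ∈ Subgroup.normalizer ((supSub Q D : Subgroup G) : Set G) :=
    Subgroup.normalizer_inf_normalizer_le_normalizer_sup Q _ ⟨hxQ, hxD⟩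
  have hst : StabilizesBlock (Subgroup.centralizer ((supSub Q D : Subgroup G) : Set G))
      (mapBlock (centIso Q D).symm g') (x : G) := by
    refine ⟨normalizer_le _ hxS, ?_⟩
    rintro _ ⟨ξ, hξ, rfl⟩
    obtain ⟨ξ', hξ', hconj⟩ := hxst.2 ξ hξ
    refine ⟨irrComp (centIso Q D).symm ξ', irrComp_mem_mapBlock _ hξ', ?_⟩
    intro k k' hkk'
    rw [irrComp_apply, irrComp_apply]
    apply hconj
    apply Subtype.ext
    exact hkk'
  have hreg' : IsPRegular p (x : G) := by
    unfold IsPRegular at hreg ⊢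
    rwa [Subgroup.orderOf_coe]
  have hc := hnil.2 (supSub Q D) _ hpair (x : G) hxS hst hreg'
  exact ((centIso Q D).symm ⟨(x : G), hc⟩).2

/-- **S4688**. -/
theorem nilpotent_local (hM : IsPModular p M) {B : Set (IrrCharacter G)}
    {P : Subgroup G} {e : Set (IrrCharacter (Subgroup.centralizer (P : Set G)))}
    (hmax : IsMaximalBrauerPair p M B P e) (hnil : IsNilpotentBlock p M B) {Q : Subgroup G}
    {f : Set (IrrCharacter (Subgroup.centralizer (Q : Set G)))}
    (hQf : IsBrauerPairOf p M B Q f) :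
    IsNilpotentBlock p M f ∧ (SubpairLE p M Q f P e → IsDefectGroup p M f
      ((P ⊓ Subgroup.centralizer (Q : Set G)).subgroupOf (Subgroup.centralizer (Q : Set G)))) := by
  refine ⟨isNilpotentBlock_local hM hnil hQf, fun hle => ?_⟩
  have hF := isBlockFusionSystemOn_blockFusionSystem hM hmax
  have hinner := (nilpotent_iff_inner hM hmax hF).mp hnil
  have hQP : Q ≤ P := le_of_chain hle
  rw [← isFullyCentralized_iff hM hmax hF hQP hQf.1.2 hle]
  refine ⟨hQP, fun Q' hQ' => ?_⟩
  obtain ⟨φ, hφ, hrange⟩ := hQ'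
  rw [hinner] at hφ
  obtain ⟨-, g, hg, hφg⟩ := hφ
  rw [← hrange, range_eq_map_conj hφg]
  unfold FusionSystem.centralizerIn
  rw [centralizerIn_map_conj hg, card_map_conj]

end Main

end Cfsg.Agent.Lib.Helper78_NilpotentLocal
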