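import Mathlib
import Cfsg.Agent.Lib.Helper98_OFADefs
import Cfsg.Agent.Lib.Helper54_OFA_API1
import Cfsg.Agent.Lib.Helper50_OFA_ZAPI
import Cfsg.Agent.Lib.Helper50_OFA_Z1

set_option autoImplicit false
set_option linter.unusedSectionVars false
set_option linter.unusedVariables false

/-!
# OFA package TAN1 (helper78 for helper98)

A tangent pair `(x, T)` (`x ∈ X`, `∅ ≠ T ⊂ supp x`, `nu T x = 0`) with enough room outside `T` gives the
good singular vector `u = x_T`.
-/

namespace Cfsg.Agent.Lib.Helper78_OFA_TAN1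

open Module Cfsg.Agent.Lib.Helper94_Symp Cfsg.Agent.Lib.Helper94_OrthSmall
  Cfsg.Agent.Lib.Helper94_OrthSiegel Cfsg.Agent.Lib.Helper32_OFDefs
  Cfsg.Agent.Lib.Helper98_OFADefs

variable {F V : Type*} [Field F] [Finite F] [AddCommGroup V] [Module F V] [FiniteDimensional F V]
variable {Q : V → F} {B : LinearMap.BilinForm F V}
variable {ι : Type*} [Fintype ι] [DecidableEq ι] {c : F} {e : ι → V}
variable {L : Subgroup (V ≃ₗ[F] V)}

/-- the coordinates of the partial vector -/
theorem co_part (hfr : OFr Q B c e) (T : Finset ι) (x : V) (i : ι) :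
    co B c e (part B c e T x) i = if i ∈ T then co B c e x i else 0 := by
  have h1 : part B c e T x = ∑ j, (if j ∈ T then co B c e x j else 0) • e j := by
    unfold part
    have : ∀ j, (if j ∈ T then co B c e x j else 0) • e j =
        if j ∈ T then co B c e x j • e j else 0 := by
      intro j
      split_ifs
      · rfl
      · rw [zero_smul]
    simp only [this]
    rw [Finset.sum_ite_mem, Finset.univ_inter]
  rw [h1, hfr.co_sum]

/-- a vector is determined by its coordinates -/
theorem ext_co (hfr : OFr Q B c e) {u v : V} (h : ∀ i, co B c e u i = co B c e v i) : u = v := by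
  apply hfr.ext
  intro i
  have := h i
  unfold co at this
  exact mul_left_cancel₀ (inv_ne_zero hfr.two_c) this

/-- OFA-TAN1 (M). -/
theorem TAN1 (hC : TCtx Q B c e L) {x : V} (hx : x ∈ XL Q B c L) {T : Finset ι}
    (hT : T.Nonempty) (hTS : T ⊂ osupp B c e x) (hnu : nu B c e T x = 0)
    (hout : 3 ≤ Tᶜ.card ∨ (Tᶜ.card = 2 ∧ Tᶜ ⊆ osupp B c e x)) :
    ∃ u, GoodU Q B c e L u := by
  have hfr := hC.fr
  have h2 : (2 : F) ≠ 0 := hfr.h2
  have hc0 : c ≠ 0 := hfr.c0
  set u := part B c e T x with hu
  have hcou : ∀ i, co B c e u i = if i ∈ T then co B c e x i else 0 := co_part hfr T x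
  have hTsub : ∀ i ∈ T, co B c e x i ≠ 0 := fun i hi => mem_osupp.mp (hTS.subset hi)
  -- `Q u = 0`
  have hQu : Q u = 0 := by
    rw [hfr.Q_eq]
    have : ∑ i, co B c e u i * co B c e u i = nu B c e T x := by
      unfold nu
      simp only [hcou]
      have : ∀ i, ((if i ∈ T then co B c e x i else 0) * (if i ∈ T then co B c e x i else 0) : F) =
          if i ∈ T then co B c e x i * co B c e x i else 0 := by
        intro i
        split_ifs
        · rfl
        · rw [mul_zero]
      simp only [this]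
      rw [Finset.sum_ite_mem, Finset.univ_inter]
    rw [this, hnu, mul_zero]
  -- `B x u = 0`
  have hBxu : B x u = 0 := by
    rw [hfr.B_eq]
    have : ∑ i, co B c e x i * co B c e u i = nu B c e T x := by
      unfold nu
      simp only [hcou]
      have : ∀ i, (co B c e x i * (if i ∈ T then co B c e x i else 0) : F) =
          if i ∈ T then co B c e x i * co B c e x i else 0 := by
        intro i
        split_ifs
        · rfl
        · rw [mul_zero]
      simp only [this]
      rw [Finset.sum_ite_mem, Finset.univ_inter]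
    rw [this, hnu, mul_zero]
  -- `u ≠ 0`
  have hu0 : u ≠ 0 := by
    obtain ⟨i0, hi0⟩ := hT
    intro h0
    have h1 := hcou i0
    rw [if_pos hi0, h0] at h1
    apply hTsub i0 hi0
    rw [← h1]
    unfold co
    simp
  -- the support of `u`
  have hsupp : osupp B c e u = T := by
    ext i
    rw [mem_osupp, hcou]
    split_ifs with hi
    · exact ⟨fun _ => hi, fun _ => hTsub i hi⟩
    · exact ⟨fun h => absurd rfl h, fun h => absurd h hi⟩
  have hzero : ∀ j, co B c e u j = 0 → j ∉ T := by
    intro j hj hjT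
    rw [hcou, if_pos hjT] at hj
    exact hTsub j hjT hj
  -- `x ∈ Z_u`
  have hzx : zJ B c e T x = x + (-2 : F) • u := by
    apply ext_co hfr
    intro i
    rw [Cfsg.Agent.Lib.Helper54_OFA_API1.co_zJ hfr]
    have : co B c e (x + (-2 : F) • u) i = co B c e x i + (-2) * co B c e u i := by
      unfold co
      rw [map_add, map_smul, LinearMap.add_apply, LinearMap.smul_apply, smul_eq_mul]
      ring
    rw [this, hcou]
    split_ifs <;> ring
  have hzJL : zJ B c e T ∈ L := Cfsg.Agent.Lib.Helper54_OFA_API1.zJ_mem hC T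
  have hzX : x + (-2 : F) • u ∈ XL Q B c L := by
    rw [← hzx]
    exact Cfsg.Agent.Lib.Helper54_OFA_API1.map_mem_XL hC hzJL hx
  have hQu' : Q ((-2 : F) • u) = 0 := by rw [hfr.hQs, hQu, mul_zero]
  have hBxu' : B x ((-2 : F) • u) = 0 := by rw [map_smul, hBxu, smul_zero]
  have hm2 : (-2 : F) ≠ 0 := neg_ne_zero.mpr h2
  have hxZ : x ∈ ZL Q B L u := by
    have h1 := Cfsg.Agent.Lib.Helper50_OFA_ZAPI.zl_G0 hfr.hQs hfr.hQp hC.hp hc0 hx hQu' hBxu' hzX
    rwa [Cfsg.Agent.Lib.Helper50_OFA_ZAPI.zl_smul_left hfr.hQs hfr.hQp hC.hp hQu hm2] at h1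
  obtain ⟨hZ1a, hZ1b⟩ := Cfsg.Agent.Lib.Helper50_OFA_Z1.Z1 hC hQu
  -- zero coordinates in the support of `x`
  have hin : ∀ j, co B c e u j = 0 → co B c e x j ≠ 0 → e j ∈ ZL Q B L u :=
    fun j h1 h2' => hZ1a x hxZ j h1 h2'
  refine ⟨u, hQu, hu0, ?_, ?_⟩
  · rw [hsupp]
    rcases hout with h | h
    · omega
    · omega
  · intro j hj
    by_cases hxj : co B c e x j = 0
    · -- `j` outside the support of `x`
      have hjT : j ∉ T := hzero j hj
      have h3 : 3 ≤ (osupp B c e u)ᶜ.card := by
        rw [hsupp]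
        rcases hout with h | ⟨-, h⟩
        · exact h
        · exfalso
          have : j ∈ osupp B c e x := h (Finset.mem_compl.mpr hjT)
          exact mem_osupp.mp this hxj
      obtain ⟨j0, hj0S, hj0T⟩ := Finset.exists_of_ssubset hTS
      have hj0u : co B c e u j0 = 0 := by rw [hcou, if_neg hj0T]
      have hj0 : e j0 ∈ ZL Q B L u := hin j0 hj0u (mem_osupp.mp hj0S)
      exact hZ1b j0 j hj0u hj h3 hj0
    · exact hin j hj hxj

end Cfsg.Agent.Lib.Helper78_OFA_TAN1
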