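import Mathlib
import Cfsg.Agent.Lib.Helper95_OPDefs
import Cfsg.Agent.Lib.Helper95_OPBasic
import Cfsg.Agent.Lib.Helper48_OODefs
import Cfsg.Agent.Lib.Helper87_OO2Defs
import Cfsg.Agent.Lib.Helper87_OO2Defs2
import Cfsg.Agent.Lib.Helper85_OO2_RankOne
import Cfsg.Agent.Lib.Helper85_OO2_LemK
import Cfsg.Agent.Lib.Helper16_OO2B3Defs
import Cfsg.Agent.Lib.Helper9_OP_PAIRS
import Cfsg.Agent.Lib.Helper78_OO_CNTA

/-!
# S2344 market, wave 3 (co-cutter helper16), package OO2-B3-PAIRS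

The number of pairs `(y, z)` of singular vectors spanning a totally singular line of an odd-type
quadratic space of rank `n`: `(q^(2n) - 1) (q^(2n-1) - q)`.  Copy of `Helper9_OP_PAIRS.card_root_pairs`
with the odd counts (`Helper78_OO_CNTA.card_sing_perp_one_zero`).
-/

set_option autoImplicit false

namespace Cfsg.Agent.Lib.Helper78_OO2_B3_PAIRS

open Module Cfsg.Agent.Lib.Helper94_OrthSmall Cfsg.Agent.Lib.Helper44_QuadClass
  Cfsg.Agent.Lib.Helper14_OmegaSimple Cfsg.Agent.Lib.Helper38_MIODefs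
  Cfsg.Agent.Lib.Helper95_OPDefs Cfsg.Agent.Lib.Helper95_OPBasic Cfsg.Agent.Lib.Helper48_OODefs
  Cfsg.Agent.Lib.Helper87_OO2Defs Cfsg.Agent.Lib.Helper16_OO2B3Defs

/-- Removing a sub-predicate from a count. -/
theorem card_and_not {α : Type*} [Finite α] (P R : α → Prop) (h : ∀ a, R a → P a) :
    Nat.card {a : α // P a ∧ ¬ R a} + Nat.card {a : α // R a} = Nat.card {a : α // P a} := by
  classical
  have e1 : {a : α // P a ∧ ¬ R a} ≃ {x : {a : α // P a} // ¬ R x.1} :=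
    (Equiv.subtypeSubtypeEquivSubtypeInter P (fun a => ¬ R a)).symm
  have e2 : {a : α // R a} ≃ {x : {a : α // P a} // R x.1} :=
    (Equiv.subtypeEquivRight (fun a => ⟨fun hr => ⟨h a hr, hr⟩, fun hr => hr.2⟩)).trans
      (Equiv.subtypeSubtypeEquivSubtypeInter P R).symm
  rw [Nat.card_congr e1, Nat.card_congr e2, add_comm, ← Nat.card_sum]
  exact Nat.card_congr (Equiv.sumCompl (fun x : {a : α // P a} => R x.1))

section partH

variable {F V : Type*} [Field F] [Fintype F] [AddCommGroup V] [Module F V] [FiniteDimensional F V]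

omit [FiniteDimensional F V] in
/-- The number of vectors on the line through a non-zero vector. -/
theorem card_span_singleton (y : V) (hy0 : y ≠ 0) :
    Nat.card {z : V // z ∈ Submodule.span F {y}} = Fintype.card F := by
  rw [← Nat.card_eq_fintype_card]
  exact (Nat.card_congr (LinearEquiv.toSpanNonzeroSingleton F V y hy0).toEquiv).symm

/-- The fibre count. -/
theorem card_fibre_odd (Q : QuadraticForm F V) (n : ℕ) (hn : 1 ≤ n) (hP : IsOddT Q n) (y : V)
    (hy0 : y ≠ 0) (hy : Q y = 0) :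
    Nat.card {z : V // Q z = 0 ∧ QuadraticMap.polar (⇑Q) y z = 0 ∧ z ∉ Submodule.span F {y}} =
      Fintype.card F ^ (2 * n - 1) - Fintype.card F := by
  have hfin : Finite V := Module.finite_of_finite F
  have hyy : QuadraticMap.polar (⇑Q) y y = 0 := by
    rw [QuadraticMap.polar_self, hy, smul_zero]
  have h1 := card_and_not (fun z : V => Q z = 0 ∧ QuadraticMap.polar (⇑Q) z y = 0)
    (fun z => z ∈ Submodule.span F {y}) (by
      intro z hz
      obtain ⟨c, rfl⟩ := Submodule.mem_span_singleton.mp hz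
      refine ⟨?_, ?_⟩
      · rw [QuadraticMap.map_smul, hy, smul_zero]
      · rw [QuadraticMap.polar_smul_left, hyy, smul_zero])
  rw [Cfsg.Agent.Lib.Helper78_OO_CNTA.card_sing_perp_one_zero Q n hn hP y hy0 hy,
    card_span_singleton y hy0] at h1
  have e : {z : V // Q z = 0 ∧ QuadraticMap.polar (⇑Q) y z = 0 ∧ z ∉ Submodule.span F {y}} ≃
      {z : V // (Q z = 0 ∧ QuadraticMap.polar (⇑Q) z y = 0) ∧ ¬ z ∈ Submodule.span F {y}} :=
    Equiv.subtypeEquivRight (fun z => by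
      rw [QuadraticMap.polar_comm (⇑Q) y z, and_assoc])
  rw [Nat.card_congr e]
  omega

/-! ## OO2-B3-PAIRS (M/L) -/
theorem card_root_pairs_odd (Q : QuadraticForm F V) (n : ℕ) (hn : 2 ≤ n) (hP : IsOddT Q n) :
    Nat.card {p : V × V // p.1 ≠ 0 ∧ Q p.1 = 0 ∧ Q p.2 = 0 ∧
        QuadraticMap.polar (⇑Q) p.1 p.2 = 0 ∧ p.2 ∉ Submodule.span F {p.1}} =
      (Fintype.card F ^ (2 * n) - 1) * (Fintype.card F ^ (2 * n - 1) - Fintype.card F) := by
  classical
  have : Finite V := Module.finite_of_finite F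
  have : Fintype {y : V // y ≠ 0 ∧ Q y = 0} := Fintype.ofFinite _
  have e : {p : V × V // p.1 ≠ 0 ∧ Q p.1 = 0 ∧ Q p.2 = 0 ∧
        QuadraticMap.polar (⇑Q) p.1 p.2 = 0 ∧ p.2 ∉ Submodule.span F {p.1}} ≃
      Σ y : {y : V // y ≠ 0 ∧ Q y = 0},
        {z : V // Q z = 0 ∧ QuadraticMap.polar (⇑Q) y.1 z = 0 ∧ z ∉ Submodule.span F {y.1}} :=
    { toFun := fun p => ⟨⟨p.1.1, p.2.1, p.2.2.1⟩, ⟨p.1.2, p.2.2.2.1, p.2.2.2.2.1, p.2.2.2.2.2⟩⟩
      invFun := fun s => ⟨(s.1.1, s.2.1), s.1.2.1, s.1.2.2, s.2.2.1, s.2.2.2.1, s.2.2.2.2⟩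
      left_inv := fun p => rfl
      right_inv := fun s => rfl }
  rw [Nat.card_congr e, Nat.card_sigma]
  have hfib : ∀ y : {y : V // y ≠ 0 ∧ Q y = 0},
      Nat.card {z : V // Q z = 0 ∧ QuadraticMap.polar (⇑Q) y.1 z = 0 ∧
        z ∉ Submodule.span F {y.1}} = Fintype.card F ^ (2 * n - 1) - Fintype.card F :=
    fun y => card_fibre_odd Q n (by omega) hP y.1 y.2.1 y.2.2
  rw [Finset.sum_congr rfl (fun y _ => hfib y), Finset.sum_const, Finset.card_univ, smul_eq_mul,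
    ← Nat.card_eq_fintype_card]
  congr 1
  have h1 := Cfsg.Agent.Lib.Helper9_OP_PAIRS.card_nonzero_sing Q
  rw [hP.zeros] at h1
  omega

end partH

end Cfsg.Agent.Lib.Helper78_OO2_B3_PAIRS
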