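import Mathlib
import Cfsg.Agent.Lib.Helper38_OTDefs
import Cfsg.Agent.Lib.Helper17_UT_BAS1

set_option autoImplicit false
set_option linter.unusedSectionVars false
set_option linter.unusedVariables false

/-!
OTENS4 package OT-ORB (helper78): a subspace of dimension `b` of `A ⊗ B` invariant under all
`1 ⊗ P_y` is a fibre `x ⊗ B` (simplified twin of UT-ORB).
-/

namespace Cfsg.Agent.Lib.Helper78_OT_ORB

open Matrix Module
open Cfsg.Agent.Lib.Helper98_ExtDefs Cfsg.Agent.Lib.Helper97_TensDefs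
open Cfsg.Agent.Lib.Helper94_Herm
open Cfsg.Agent.Lib.Helper67_UT2Defs Cfsg.Agent.Lib.Helper37_UTDefs
open Cfsg.Agent.Lib.Helper37_UTPairDefs
open Cfsg.Agent.Lib.Helper94_OrthSmall Cfsg.Agent.Lib.Helper94_OrthSiegel
open Cfsg.Agent.Lib.Helper67_T2ODefs (IsAltMap aw)
open Cfsg.Agent.Lib.Helper38_OTDefs

variable {F : Type*} [Field F] {ι κ : Type*} [Fintype ι] [Fintype κ] [DecidableEq ι]
  [DecidableEq κ]
variable {α : LinearMap.BilinForm F (ι → F)} {β : LinearMap.BilinForm F (κ → F)}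
variable {Q : Matrix ι κ F → F} {M : Subgroup (Matrix ι κ F ≃ₗ[F] Matrix ι κ F)}

theorem h78_vmR_injective {x : ι → F} (hx : x ≠ 0) :
    Function.Injective (vmR (κ := κ) x) := by
  obtain ⟨i, hi⟩ : ∃ i, x i ≠ 0 := by
    by_contra h
    push Not at h
    exact hx (funext h)
  intro w w' h
  ext j
  have := congrFun (congrFun h i) j
  simp only [vmR_apply, vecMulVec_apply] at this
  exact mul_left_cancel₀ hi this

theorem h78_fibB_eq_range (x : ι → F) :
    fibB (κ := κ) x = LinearMap.range (vmR (κ := κ) x) := by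
  ext X
  rw [mem_fibB, LinearMap.mem_range]
  constructor
  · rintro ⟨w, rfl⟩; exact ⟨w, rfl⟩
  · rintro ⟨w, rfl⟩; exact ⟨w, rfl⟩

theorem h78_finrank_fibB {x : ι → F} (hx : x ≠ 0) :
    finrank F (fibB (κ := κ) x) = Fintype.card κ := by
  rw [h78_fibB_eq_range, LinearMap.finrank_range_of_inj (h78_vmR_injective hx),
    Module.finrank_fintype_fun_eq_card]

/-- ORB (M): a subspace of dimension `b` invariant under all `1 ⊗ P_y` is a fibre `x ⊗ B`. -/
theorem fibB_of_invariantO (hβ : ∀ y, β y y = 0) (hβN : NondegOn β ⊤)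
    (h2 : 2 ≤ Fintype.card κ) (t : Submodule F (Matrix ι κ F))
    (hdim : finrank F t = Fintype.card κ)
    (hinv : ∀ y : κ → F, ∀ X ∈ t, nI (ι := ι) β y X ∈ t) :
    ∃ x : ι → F, x ≠ 0 ∧ t = fibB x := by
  -- a nonzero element of `t`
  obtain ⟨X, hXt, hX0⟩ : ∃ X ∈ t, X ≠ 0 := by
    by_contra h
    push Not at h
    have : t = ⊥ := by
      rw [Submodule.eq_bot_iff]
      exact h
    rw [this, finrank_bot] at hdim
    omega
  obtain ⟨i, hi⟩ : ∃ i, X i ≠ 0 := by
    by_contra h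
    push Not at h
    exact hX0 (funext h)
  -- a `y` with nonzero contraction
  obtain ⟨y, -, hy⟩ := hβN (X i) Submodule.mem_top hi
  have hxy : ctrB β y X ≠ 0 := by
    intro h
    apply hy
    have := congrFun h i
    rwa [ctrB_apply] at this
  set x : ι → F := ctrB β y X with hx
  have hy0 : y ≠ 0 := by
    intro h
    apply hxy
    ext i'
    rw [hx, ctrB_apply, h]
    simp
  have hxyt : vecMulVec x y ∈ t := by
    have := hinv y X hXt
    rwa [Cfsg.Agent.Lib.Helper17_UT_BAS1.nI_apply] at this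
  -- one step
  have step : ∀ y1 z : κ → F, vecMulVec x y1 ∈ t → β y1 z ≠ 0 → vecMulVec x z ∈ t := by
    intro y1 z h1 hne
    have := hinv z _ h1
    rw [Cfsg.Agent.Lib.Helper17_UT_BAS1.nI_apply, Cfsg.Agent.Lib.Helper17_UT_BAS1.ctrB_pure,
      Matrix.smul_vecMulVec] at this
    have h3 := t.smul_mem (β y1 z)⁻¹ this
    rwa [smul_smul, inv_mul_cancel₀ hne, one_smul] at h3
  obtain ⟨z₀, -, hz₀⟩ := hβN y Submodule.mem_top hy0
  have hz₀t : vecMulVec x z₀ ∈ t := step y z₀ hxyt hz₀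
  have hall : ∀ z : κ → F, vecMulVec x z ∈ t := by
    intro z
    by_cases hyz : β y z = 0
    · have h1 : β y (z + z₀) ≠ 0 := by
        rw [map_add, hyz, zero_add]
        exact hz₀
      have h2' := step y (z + z₀) hxyt h1
      rw [vecMulVec_add] at h2'
      have := t.sub_mem h2' hz₀t
      rwa [add_sub_cancel_right] at this
    · exact step y z hxyt hyz
  have hle : fibB (κ := κ) x ≤ t := by
    rintro _ ⟨w, rfl⟩
    exact hall w
  have heq : fibB (κ := κ) x = t :=
    Submodule.eq_of_le_of_finrank_eq hle (by rw [h78_finrank_fibB hxy, hdim])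
  exact ⟨x, hxy, heq.symm⟩

end Cfsg.Agent.Lib.Helper78_OT_ORB
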