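import Mathlib
import Cfsg.Agent.Lib.Helper38_OTDefs
import Cfsg.Agent.Lib.Helper44_UT_BAS4

set_option autoImplicit false
set_option linter.unusedSectionVars false
set_option linter.unusedVariables false

/-!
OTENS4 package OT-STABII (helper78), the core: the assembly of `StabII α M` from the statements of
the packages TORUS (`exists_uG_move`), KMEM (`tmE_mem`) and STABF (`stab_kron`), taken as
hypotheses.  The verbatim `stabII_O` is the wrapper `Helper78_OT_STABII.stabII_O`.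
-/

namespace Cfsg.Agent.Lib.Helper78_OT_STABIIaux

open Matrix Module
open Cfsg.Agent.Lib.Helper98_ExtDefs Cfsg.Agent.Lib.Helper97_TensDefs
open Cfsg.Agent.Lib.Helper94_Herm
open Cfsg.Agent.Lib.Helper67_UT2Defs Cfsg.Agent.Lib.Helper37_UTDefs
open Cfsg.Agent.Lib.Helper37_UTPairDefs
open Cfsg.Agent.Lib.Helper94_OrthSmall Cfsg.Agent.Lib.Helper94_OrthSiegel
open Cfsg.Agent.Lib.Helper67_T2ODefs (IsAltMap aw)
open Cfsg.Agent.Lib.Helper38_OTDefs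

variable {F : Type*} [Field F] {ι κ : Type*} [Fintype ι] [Fintype κ] [DecidableEq ι]
  [DecidableEq κ]
variable {α : LinearMap.BilinForm F (ι → F)} {β : LinearMap.BilinForm F (κ → F)}
variable {Q : Matrix ι κ F → F} {M : Subgroup (Matrix ι κ F ≃ₗ[F] Matrix ι κ F)}

/-- products of Kronecker maps are Kronecker maps -/
theorem h78_isKron_mul {g h : Matrix ι κ F ≃ₗ[F] Matrix ι κ F} (hg : IsKron g) (hh : IsKron h) :
    IsKron (g * h) := by
  obtain ⟨P, R, hPR⟩ := hg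
  obtain ⟨P', R', hPR'⟩ := hh
  refine ⟨P * P', R * R', fun X => ?_⟩
  rw [LinearEquiv.mul_apply, hPR', hPR, transpose_mul]
  simp only [Matrix.mul_assoc]

/-- STABII, the core -/
theorem stabII_O_of
    (hmove : ∀ {v v' : ι → F}, v ≠ 0 → v' ≠ 0 →
      ∃ T : (ι → F) ≃ₗ[F] (ι → F), T ∈ uG α ∧ T v = v')
    (htmE : ∀ {P : (ι → F) ≃ₗ[F] (ι → F)} {R : (κ → F) ≃ₗ[F] (κ → F)}, P ∈ uG α → R ∈ uG β →
      tmE P R ∈ M)
    (hstab : ∀ {x : ι → F}, x ≠ 0 → ∀ {g : Matrix ι κ F ≃ₗ[F] Matrix ι κ F}, g ∈ M →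
      (∀ w : κ → F, ∃ w' : κ → F, g (vecMulVec x w) = vecMulVec x w') → IsKron g) :
    StabII α M := by
  intro h hh x x' hx0 hx'0 hx hst
  obtain ⟨P₀, hP₀, hP₀x⟩ := hmove hx'0 hx0
  have hn : tmE P₀ (1 : (κ → F) ≃ₗ[F] (κ → F)) ∈ M := htmE hP₀ (Subgroup.one_mem _)
  have hg : tmE P₀ (1 : (κ → F) ≃ₗ[F] (κ → F)) * h ∈ M := M.mul_mem hn hh
  have hst' : ∀ w : κ → F, ∃ w' : κ → F,
      (tmE P₀ (1 : (κ → F) ≃ₗ[F] (κ → F)) * h) (vecMulVec x w) = vecMulVec x w' := by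
    intro w
    obtain ⟨w', hw'⟩ := hst w
    refine ⟨w', ?_⟩
    rw [LinearEquiv.mul_apply, hw', tmE_pure, hP₀x]
    rfl
  have hk : IsKron (tmE P₀ (1 : (κ → F) ≃ₗ[F] (κ → F)) * h) := hstab hx0 hg hst'
  have heq : h = (tmE P₀ (1 : (κ → F) ≃ₗ[F] (κ → F)))⁻¹ *
      (tmE P₀ (1 : (κ → F) ≃ₗ[F] (κ → F)) * h) := by
    rw [inv_mul_cancel_left]
  rw [heq, Cfsg.Agent.Lib.Helper44_UT_BAS4.tmE_inv]
  exact h78_isKron_mul (isKron_tmE _ _) hk

end Cfsg.Agent.Lib.Helper78_OT_STABIIaux
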