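import Mathlib
import Cfsg.Agent.Lib.Helper97_OX2Defs
import Cfsg.Agent.Lib.Helper94_OrthVec

set_option autoImplicit false
set_option linter.unusedSectionVars false
set_option linter.unusedVariables false

/-!
# OEXT2 market (helper97), package S_POINT (core, helper78)

`point_of_lines_of`: S_POINT with the conclusion of G_LINES (`exists_two_lines` for `(QK, BK)`) as a
hypothesis.
-/

namespace Cfsg.Agent.Lib.Helper78_OX2_S_POINTaux

open Module Cfsg.Agent.Lib.Helper94_OrthSmall Cfsg.Agent.Lib.Helper94_OrthSiegel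
  Cfsg.Agent.Lib.Helper98_ExtDefs Cfsg.Agent.Lib.Helper97_OX2Defs
open scoped commutatorElement

variable {F K V : Type*} [Field F] [Field K] [Algebra F K] [AddCommGroup V] [Module F V]
  [Module K V] [IsScalarTower F K V]
variable {θ : K} {ε : F} {τ : K →ₗ[F] F} {QK : V → K} {BK : LinearMap.BilinForm K V}

theorem point_of_lines_of
    (hlines : ∀ p : V, p ≠ 0 → QK p = 0 → ∃ a b : V, QK a = 0 ∧ QK b = 0 ∧ BK p a = 0 ∧
      BK p b = 0 ∧ ∀ x y z : K, x • p + y • a + z • b = 0 → x = 0 ∧ y = 0 ∧ z = 0)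
    (g : V ≃ₗ[F] V)
    (h : ∀ u w : V, QK u = 0 → QK w = 0 → BK u w = 0 →
      (∀ x y : K, x • u + y • w = 0 → x = 0 ∧ y = 0) → ∀ k a b : K,
      ∃ a' b' : K, k • g (a • u + b • w) = g (a' • u + b' • w)) :
    ∀ p : V, QK p = 0 → ∀ k : K, ∃ c : K, k • g p = g (c • p) := by
  intro p hp k
  by_cases hp0 : p = 0
  · refine ⟨0, ?_⟩
    rw [hp0, smul_zero, map_zero, smul_zero]
  obtain ⟨a, b, ha, hb, hpa, hpb, hind⟩ := hlines p hp0 hp
  have ind1 : ∀ x y : K, x • p + y • a = 0 → x = 0 ∧ y = 0 := by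
    intro x y hxy
    have := hind x y 0 (by rw [zero_smul, add_zero]; exact hxy)
    exact ⟨this.1, this.2.1⟩
  have ind2 : ∀ x y : K, x • p + y • b = 0 → x = 0 ∧ y = 0 := by
    intro x y hxy
    have := hind x 0 y (by rw [zero_smul, add_zero]; exact hxy)
    exact ⟨this.1, this.2.2⟩
  obtain ⟨a', b', h1⟩ := h p a hp ha hpa ind1 k 1 0
  obtain ⟨a'', b'', h2⟩ := h p b hp hb hpb ind2 k 1 0
  rw [one_smul, zero_smul, add_zero] at h1 h2
  have heq : a' • p + b' • a = a'' • p + b'' • b := g.injective (h1.symm.trans h2)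
  have hzero : (a' - a'') • p + b' • a + (-b'') • b = 0 := by
    rw [sub_smul, neg_smul]
    have : a' • p - a'' • p + b' • a + -(b'' • b) = (a' • p + b' • a) - (a'' • p + b'' • b) := by
      abel
    rw [this, heq, sub_self]
  have hb' : b' = 0 := (hind _ _ _ hzero).2.1
  refine ⟨a', ?_⟩
  rw [h1, hb', zero_smul, add_zero]

end Cfsg.Agent.Lib.Helper78_OX2_S_POINTaux
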