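import Mathlib
import Cfsg.Agent.Lib.Helper97_OX3Defs
import Cfsg.Agent.Lib.Helper94_OrthVec
import Cfsg.Agent.Lib.Helper82_OX2_G_HYP

set_option autoImplicit false
set_option linter.unusedSectionVars false
set_option linter.unusedVariables false

/-!
# OEXT3 market (architect helper97), package ALLSIEG (helper78)
`all_sieg3`: from the Siegel elements `sieg a f` with `a` a `K`-singular vector and `f` in the
`F`-orthogonal of `a` to all Siegel elements (`Helper94_OrthVec.all_of_pair`).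
-/

namespace Cfsg.Agent.Lib.Helper78_OX3_ALLSIEG

open Module Cfsg.Agent.Lib.Helper94_OrthSmall Cfsg.Agent.Lib.Helper94_OrthSiegel
  Cfsg.Agent.Lib.Helper98_ExtDefs Cfsg.Agent.Lib.Helper97_OX2Defs
  Cfsg.Agent.Lib.Helper97_OX3Defs
open scoped commutatorElement

variable {F K V : Type*} [Field F] [Field K] [Algebra F K] [AddCommGroup V] [Module F V]
  [Module K V] [IsScalarTower F K V]
variable {τ : K →ₗ[F] F} {QK : V → K} {BK : LinearMap.BilinForm K V}
variable [Finite F] [Finite K] [Module.Finite F V] [Module.Finite K V]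

/-- ALLSIEG -/
theorem all_sieg3 (C : Ctx3 τ QK BK) (hs : Split3 QK BK)
    (M : Subgroup (V ≃ₗ[F] V)) (hM : HypO3 τ QK BK M)
    (hfull : ∀ a f : V, QK a = 0 → trB τ BK a f = 0 → sieg (trQ τ QK) (trB τ BK) a f ∈ M) :
    AllSieg (trQ τ QK) (trB τ BK) M := by
  obtain ⟨u, w, hu, hw, huw, hind⟩ := hs
  have hu0 : u ≠ 0 := by
    intro h0
    have := (hind 1 0 (by rw [h0, smul_zero, zero_smul, add_zero])).1
    exact one_ne_zero this
  obtain ⟨p', hp', hpp'⟩ :=
    Cfsg.Agent.Lib.Helper82_OX2_G_HYP.exists_hyp QK BK C.hQs C.hQp C.hN hu0 hu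
  obtain ⟨k₀, hk₀⟩ := C.exists_tau_eq_one
  have hQ2 : QK (k₀ • p') = 0 := by rw [C.hQs, hp', mul_zero]
  have h12 : trB τ BK u (k₀ • p') ≠ 0 := by
    rw [trB_apply, map_smul, smul_eq_mul, hpp', mul_one, hk₀]
    exact one_ne_zero
  exact Cfsg.Agent.Lib.Helper94_OrthVec.all_of_pair (trQ τ QK) (trB τ BK) C.trQ_smul C.trQ_add
    C.trB_nondeg M hM.le ⟨trQ_eq_zero hu, fun z hz => hfull u z hu hz⟩
    ⟨trQ_eq_zero hQ2, fun z hz => hfull (k₀ • p') z hQ2 hz⟩ h12

end Cfsg.Agent.Lib.Helper78_OX3_ALLSIEG
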