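import Mathlib
import Cfsg.Agent.Lib.Helper97_OX3Defs
import Cfsg.Agent.Lib.Helper94_OrthVec

set_option autoImplicit false
set_option linter.unusedSectionVars false
set_option linter.unusedVariables false

/-!
# OEXT3 market (architect helper97), package ROOTALL, core (helper78)
`root_all3_of`: the root subgroup property spreads from one singular point to all singular
vectors, given the transitivity statement TRANS3 (`ks_trans3`) as a hypothesis
(port of `Helper90_OX2_ALL1aux.root_all_of`).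
-/

namespace Cfsg.Agent.Lib.Helper78_OX3_ROOTALLaux

open Module Cfsg.Agent.Lib.Helper94_OrthSmall Cfsg.Agent.Lib.Helper94_OrthSiegel
  Cfsg.Agent.Lib.Helper98_ExtDefs Cfsg.Agent.Lib.Helper97_OX2Defs
  Cfsg.Agent.Lib.Helper97_OX3Defs
open scoped commutatorElement

variable {F K V : Type*} [Field F] [Field K] [Algebra F K] [AddCommGroup V] [Module F V]
  [Module K V] [IsScalarTower F K V]
variable {τ : K →ₗ[F] F} {QK : V → K} {BK : LinearMap.BilinForm K V}

/-- ROOTALL with TRANS3 as a hypothesis -/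
theorem root_all3_of (C : Ctx3 τ QK BK)
    (htrans : ∀ {p v : V}, p ≠ 0 → v ≠ 0 → QK p = 0 → QK v = 0 →
      ∃ h ∈ KS F QK BK, ∃ c : K, c ≠ 0 ∧ h p = c • v)
    (M : Subgroup (V ≃ₗ[F] V)) (hM : HypO3 τ QK BK M) {p₁ : V} (hp0 : p₁ ≠ 0) (hp : QK p₁ = 0)
    (hroot : Root τ QK BK M p₁) : ∀ v : V, QK v = 0 → Root τ QK BK M v := by
  intro v hv κ l
  by_cases hv0 : v = 0
  · rw [hv0, smul_zero, sieg_zero_left (trQ τ QK) (trB τ BK) C.trQ_smul C.trQ_add]
    exact M.one_mem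
  obtain ⟨h, hh, c, hc, hhp⟩ := htrans hp0 hv0 hp hv
  have hhM : h ∈ M := hM.KS_le hh
  have hhO : h ∈ oG (trQ τ QK) := hM.le hhM
  have hsm : ∀ k : K, k • v = h ((k * c⁻¹) • p₁) := by
    intro k
    rw [KS_smul hh, hhp, smul_smul, mul_assoc, inv_mul_cancel₀ hc, mul_one]
  have hQ : ∀ k : K, trQ τ QK (k • p₁) = 0 := by
    intro k
    apply trQ_eq_zero
    rw [C.hQs, hp, mul_zero]
  have hB : ∀ k k' : K, trB τ BK (k • p₁) (k' • p₁) = 0 := by
    intro k k'
    apply trB_eq_zero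
    have h1 : BK (k • p₁) (k' • p₁) = k' * (k * BK p₁ p₁) := by
      simp only [map_smul, LinearMap.smul_apply, smul_eq_mul]
    rw [h1, B_self QK BK C.hQs C.hQp, hp, mul_zero, mul_zero, mul_zero]
  have hconj := conj_sieg (trQ τ QK) (trB τ BK) C.trQ_smul C.trQ_add hhO (hQ (κ * c⁻¹))
    (hB (κ * c⁻¹) (l * c⁻¹))
  rw [hsm κ, hsm l, ← hconj]
  exact M.mul_mem (M.mul_mem hhM (hroot _ _)) (M.inv_mem hhM)

end Cfsg.Agent.Lib.Helper78_OX3_ROOTALLaux
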