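import Mathlib
import Cfsg.Agent.Lib.Helper97_OX3Defs
import Cfsg.Agent.Lib.Helper94_OrthVec
import Cfsg.Agent.Lib.Helper94_OX3_TRANS3
import Cfsg.Agent.Lib.Helper78_OX3_ROOTALLaux

set_option autoImplicit false
set_option linter.unusedSectionVars false
set_option linter.unusedVariables false

/-!
# OEXT3 market (architect helper97), package ROOTALL (helper78)
`root_all3`: the root subgroup property spreads from one singular point to all singular vectors.
-/

namespace Cfsg.Agent.Lib.Helper78_OX3_ROOTALL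

open Module Cfsg.Agent.Lib.Helper94_OrthSmall Cfsg.Agent.Lib.Helper94_OrthSiegel
  Cfsg.Agent.Lib.Helper98_ExtDefs Cfsg.Agent.Lib.Helper97_OX2Defs
  Cfsg.Agent.Lib.Helper97_OX3Defs
open scoped commutatorElement

variable {F K V : Type*} [Field F] [Field K] [Algebra F K] [AddCommGroup V] [Module F V]
  [Module K V] [IsScalarTower F K V]
variable {τ : K →ₗ[F] F} {QK : V → K} {BK : LinearMap.BilinForm K V}
variable [Finite F] [Finite K] [Module.Finite F V] [Module.Finite K V]

/-- ROOTALL -/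
theorem root_all3 (C : Ctx3 τ QK BK) (hs : Split3 QK BK)
    (M : Subgroup (V ≃ₗ[F] V)) (hM : HypO3 τ QK BK M) {p₁ : V} (hp0 : p₁ ≠ 0) (hp : QK p₁ = 0)
    (hroot : Root τ QK BK M p₁) : ∀ v : V, QK v = 0 → Root τ QK BK M v :=
  Cfsg.Agent.Lib.Helper78_OX3_ROOTALLaux.root_all3_of C
    (fun hp0 hv0 hp hv => Cfsg.Agent.Lib.Helper94_OX3_TRANS3.ks_trans3 C hs hp0 hv0 hp hv)
    M hM hp0 hp hroot

end Cfsg.Agent.Lib.Helper78_OX3_ROOTALL
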