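import Mathlib
import Cfsg.Agent.Lib.Helper32_P3Defs
import Cfsg.Agent.Lib.Helper32_OFRoot

/-!
# P3 market (architect helper32), package P3-ROT

If the rotation `r_a r_b` satisfies `(r_a r_b)^k = 1` on the span of `a`, `b` for some `1 ≤ k ≤ 5`, then
`rotPoly (B a b ^ 2) (Q a * Q b) = 0`.
-/

set_option autoImplicit false

namespace Cfsg.Agent.Lib.Helper78_P3_ROT

open Module Cfsg.Agent.Lib.Helper94_Symp Cfsg.Agent.Lib.Helper94_OrthSmall
  Cfsg.Agent.Lib.Helper94_OrthSiegel Cfsg.Agent.Lib.Helper32_P3Defs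

variable {F : Type*} [Field F]

section Ambient

variable {V : Type*} [AddCommGroup V] [Module F V]
variable {Q : V → F} {B : LinearMap.BilinForm F V}

/-- The step of the recursion: the matrix of `r_a r_b` on `(a, b)`. -/
def stepF (s u w : F) (x : F × F) : F × F := (s * x.1 + u * x.2, -(w * x.1) - x.2)

/-- The action of `r_a r_b` on combinations of `a` and `b`. -/
theorem rot_apply (hQs : ∀ (a : F) (v : V), Q (a • v) = a * a * Q v)
    (hQp : ∀ u v : V, Q (u + v) = Q u + Q v + B u v) {a b : V}
    (ha : Q a ≠ 0) (hb : Q b ≠ 0) (x₁ x₂ : F) :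
    (refl Q B hQs hQp ha * refl Q B hQs hQp hb) (x₁ • a + x₂ • b) =
      (((B a b / Q a) * (B a b / Q b) - 1) * x₁ + (B a b / Q a) * x₂) • a +
        (-((B a b / Q b) * x₁) - x₂) • b := by
  have hba : B b a = B a b := B_symm Q B hQp b a
  have haa : B a a = 2 * Q a := B_self Q B hQs hQp a
  have hbb : B b b = 2 * Q b := B_self Q B hQs hQp b
  rw [LinearEquiv.mul_apply, refl_apply, refl_apply]
  simp only [map_add, map_sub, map_smul, LinearMap.add_apply, LinearMap.sub_apply,
    LinearMap.smul_apply, smul_eq_mul, hba, haa, hbb]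
  have e1 : ∀ c₁ c₂ c₃ c₄ : F, c₁ = c₃ → c₂ = c₄ → c₁ • a + c₂ • b = c₃ • a + c₄ • b := by
    intro c₁ c₂ c₃ c₄ h1 h2
    rw [h1, h2]
  have e2 : x₁ • a + x₂ • b - ((Q b)⁻¹ * (x₁ * B a b + x₂ * (2 * Q b))) • b -
      ((Q a)⁻¹ * (x₁ * (2 * Q a) + x₂ * B a b -
        (Q b)⁻¹ * (x₁ * B a b + x₂ * (2 * Q b)) * B a b)) • a =
      (x₁ - (Q a)⁻¹ * (x₁ * (2 * Q a) + x₂ * B a b -
        (Q b)⁻¹ * (x₁ * B a b + x₂ * (2 * Q b)) * B a b)) • a +
      (x₂ - (Q b)⁻¹ * (x₁ * B a b + x₂ * (2 * Q b))) • b := by
    simp only [sub_smul]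
    abel
  rw [e2]
  apply e1
  · field_simp
    ring
  · field_simp
    ring

/-- Iterating. -/
theorem rot_pow_apply (hQs : ∀ (a : F) (v : V), Q (a • v) = a * a * Q v)
    (hQp : ∀ u v : V, Q (u + v) = Q u + Q v + B u v) {a b : V}
    (ha : Q a ≠ 0) (hb : Q b ≠ 0) (k : ℕ) (x : F × F) :
    ((refl Q B hQs hQp ha * refl Q B hQs hQp hb) ^ k) (x.1 • a + x.2 • b) =
      ((stepF ((B a b / Q a) * (B a b / Q b) - 1) (B a b / Q a) (B a b / Q b))^[k] x).1 • a +
      ((stepF ((B a b / Q a) * (B a b / Q b) - 1) (B a b / Q a) (B a b / Q b))^[k] x).2 • b := by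
  induction k generalizing x with
  | zero => simp
  | succ k ih =>
    rw [pow_succ, LinearEquiv.mul_apply, rot_apply hQs hQp ha hb, Function.iterate_succ,
      Function.comp_apply]
    exact ih (stepF _ _ _ x)

/-- The polynomial identities: from the coefficients of `ρ^k b` to the roots. -/
theorem poly_of_iter (u w : F) (k : ℕ) (hk1 : 1 ≤ k) (hk5 : k ≤ 5)
    (hX : ((stepF (u * w - 1) u w)^[k] (0, 1)).1 = 0)
    (hY : ((stepF (u * w - 1) u w)^[k] (0, 1)).2 = 1) :
    (u * w) * (u * w - 4) * (u * w - 1) * (u * w - 2) *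
      ((u * w) * (u * w) - 3 * (u * w) + 1) = 0 := by
  interval_cases k
  · simp only [Function.iterate_succ, Function.iterate_zero, Function.comp_apply, id, stepF]
      at hX hY
    linear_combination (w * (u * w - 4) * (u * w - 1) * (u * w - 2) *
      ((u * w) * (u * w) - 3 * (u * w) + 1)) * hX
  · simp only [Function.iterate_succ, Function.iterate_zero, Function.comp_apply, id, stepF]
      at hX hY
    linear_combination (-((u * w - 4) * (u * w - 1) * (u * w - 2) *
      ((u * w) * (u * w) - 3 * (u * w) + 1))) * hY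
  · simp only [Function.iterate_succ, Function.iterate_zero, Function.comp_apply, id, stepF]
      at hX hY
    linear_combination (-((u * w) * (u * w - 4) *
      ((u * w) * (u * w) - 3 * (u * w) + 1))) * hY
  · simp only [Function.iterate_succ, Function.iterate_zero, Function.comp_apply, id, stepF]
      at hX hY
    linear_combination (-(u * w - 1) * ((u * w - 4) * (u * w - 1) *
      ((u * w) * (u * w) - 3 * (u * w) + 1))) * hY +
      (-w * ((u * w - 4) * (u * w - 1) *
      ((u * w) * (u * w) - 3 * (u * w) + 1))) * hX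
  · simp only [Function.iterate_succ, Function.iterate_zero, Function.comp_apply, id, stepF]
      at hX hY
    linear_combination (-(u * w) * (u * w - 2) * ((u * w - 4) * (u * w - 1) * (u * w - 2))) * hY +
      (-w * (u * w - 1) * ((u * w - 4) * (u * w - 1) * (u * w - 2))) * hX

/-! ## P3-ROT (L) -/
theorem ROT (hQs : ∀ (a : F) (v : V), Q (a • v) = a * a * Q v)
    (hQp : ∀ u v : V, Q (u + v) = Q u + Q v + B u v) (_h2 : (2 : F) ≠ 0) {a b : V}
    (ha : Q a ≠ 0) (hb : Q b ≠ 0) (k : ℕ) (hk1 : 1 ≤ k) (hk5 : k ≤ 5)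
    (hk : ((refl Q B hQs hQp ha * refl Q B hQs hQp hb) ^ k) a = a ∧
      ((refl Q B hQs hQp ha * refl Q B hQs hQp hb) ^ k) b = b) :
    rotPoly (B a b * B a b) (Q a * Q b) = 0 := by
  have hba : B b a = B a b := B_symm Q B hQp b a
  have haa : B a a = 2 * Q a := B_self Q B hQs hQp a
  have hbb : B b b = 2 * Q b := B_self Q B hQs hQp b
  by_cases hind : ∀ x y : F, x • a + y • b = 0 → x = 0 ∧ y = 0
  · -- independent case
    have h1 := rot_pow_apply hQs hQp ha hb k ((0 : F), (1 : F))
    simp only [zero_smul, one_smul, zero_add] at h1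
    rw [hk.2] at h1
    set X := ((stepF ((B a b / Q a) * (B a b / Q b) - 1) (B a b / Q a) (B a b / Q b))^[k]
      ((0 : F), (1 : F))).1 with hXdef
    set Y := ((stepF ((B a b / Q a) * (B a b / Q b) - 1) (B a b / Q a) (B a b / Q b))^[k]
      ((0 : F), (1 : F))).2 with hYdef
    have h3 : X • a + (Y - 1) • b = 0 := by
      have h1' : X • a + Y • b = b := h1.symm
      rw [sub_smul, one_smul, ← add_sub_assoc, h1', sub_self]
    obtain ⟨hX, hY⟩ := hind _ _ h3
    have hY' : Y = 1 := sub_eq_zero.mp hY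
    have hpoly := poly_of_iter (B a b / Q a) (B a b / Q b) k hk1 hk5 hX hY'
    have hrot : rotPoly (B a b * B a b) (Q a * Q b) = (Q a * Q b) ^ 6 *
        ((B a b / Q a * (B a b / Q b)) * (B a b / Q a * (B a b / Q b) - 4) *
          (B a b / Q a * (B a b / Q b) - 1) * (B a b / Q a * (B a b / Q b) - 2) *
          ((B a b / Q a * (B a b / Q b)) * (B a b / Q a * (B a b / Q b)) -
            3 * (B a b / Q a * (B a b / Q b)) + 1)) := by
      unfold rotPoly
      field_simp
    rw [hrot, hpoly, mul_zero]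
  · -- dependent case: `t = 4 n`
    push Not at hind
    obtain ⟨x, y, hxy, hne⟩ := hind
    have e1 : x * (2 * Q a) + y * B a b = 0 := by
      have := congrArg (fun z => B z a) hxy
      simp only [map_add, map_smul, LinearMap.add_apply, LinearMap.smul_apply, smul_eq_mul,
        map_zero, LinearMap.zero_apply, haa, hba] at this
      exact this
    have e2 : x * B a b + y * (2 * Q b) = 0 := by
      have := congrArg (fun z => B z b) hxy
      simp only [map_add, map_smul, LinearMap.add_apply, LinearMap.smul_apply, smul_eq_mul,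
        map_zero, LinearMap.zero_apply, hbb] at this
      exact this
    have h4 : B a b * B a b - 4 * (Q a * Q b) = 0 := by
      by_contra hne4
      have hx : x = 0 := by
        have : (B a b * B a b - 4 * (Q a * Q b)) * x = 0 := by
          linear_combination (-2 * Q b) * e1 + (B a b) * e2
        rcases mul_eq_zero.mp this with h | h
        · exact absurd h hne4
        · exact h
      have hy : y = 0 := by
        have : (B a b * B a b - 4 * (Q a * Q b)) * y = 0 := by
          linear_combination (B a b) * e1 + (-2 * Q a) * e2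
        rcases mul_eq_zero.mp this with h | h
        · exact absurd h hne4
        · exact h
      exact hne hx hy
    unfold rotPoly
    rw [h4]
    ring

end Ambient

end Cfsg.Agent.Lib.Helper78_P3_ROT
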