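import Mathlib
import Cfsg.Prelude.Def_Blocks
import Cfsg.Prelude.Def_BlockLocal
import Cfsg.Agent.Lib.Helper16_Cover
import Cfsg.Agent.Lib.Helper77_StableCover
import Cfsg.Agent.Lib.Helper77_FongReynolds
import Cfsg.Agent.Lib.Helper78_TransportBlocks

/-!
# Automorphisms, covering blocks and normal subgroups of `p`-power index (helper78, S4692)

`K` is a normal subgroup of `H`, `α` an automorphism of `H` preserving `K`.  If `K` has `p`-power
index, a block of `H` covering an `α`-stable block of `K` is `α`-stable; conversely if `α` has order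
prime to `p` and acts trivially on `H / K`, a block of `K` covered by an `α`-stable block is
`α`-stable.
-/

set_option autoImplicit false
set_option linter.unusedSectionVars false

namespace Cfsg.Agent.Lib.Helper78_PExtAbs

open Cfsg Cfsg.Agent.Lib.Helper16_Char Cfsg.Agent.Lib.Helper16_Clifford
  Cfsg.Agent.Lib.Helper16_Orbit Cfsg.Agent.Lib.Helper16_Cover
  Cfsg.Agent.Lib.Helper78_LocalRing Cfsg.Agent.Lib.Helper78_Osima
  Cfsg.Agent.Lib.Helper78_CentralChar Cfsg.Agent.Lib.Helper78_CharFacts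
  Cfsg.Agent.Lib.Helper77_StableCover Cfsg.Agent.Lib.Helper77_BlockBasics
  Cfsg.Agent.Lib.Helper78_Transport Cfsg.Agent.Lib.Helper78_TransportBlocks
open scoped ComplexConjugate

universe u

section ResAut

variable {H : Type u} [Group H] (K : Subgroup H)

/-- The restriction to `K` of an automorphism of `H` preserving `K`. -/
noncomputable def resAut (α : H ≃* H) (hα : ∀ h : H, α h ∈ K ↔ h ∈ K) : K ≃* K where
  toFun k := ⟨α k, (hα k).mpr k.2⟩
  invFun k := ⟨α.symm k, (hα _).mp (by rw [MulEquiv.apply_symm_apply]; exact k.2)⟩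
  left_inv k := by
    apply Subtype.ext
    simp
  right_inv k := by
    apply Subtype.ext
    simp
  map_mul' a b := by
    apply Subtype.ext
    simp

theorem resAut_apply (α : H ≃* H) (hα : ∀ h : H, α h ∈ K ↔ h ∈ K) (k : K) :
    ((resAut K α hα k : K) : H) = α k := rfl

end ResAut

variable {H : Type u} [Group H] [Fintype H] (K : Subgroup H) [hK : K.Normal] [Fintype K]
  {M : Ideal AlgInt} {p : ℕ} [Fact p.Prime]

/-- Being a constituent of the restriction is preserved by twisting both characters. -/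
theorem classInner_irrComp (α : H ≃* H) (hα : ∀ h : H, α h ∈ K ↔ h ∈ K) (χ : IrrCharacter H)
    (θ : IrrCharacter K) :
    classInner (fun n : K => (irrComp α χ : H → ℂ) n) (irrComp (resAut K α hα) θ : K → ℂ) =
      classInner (fun n : K => (χ : H → ℂ) n) (θ : K → ℂ) := by
  unfold classInner
  congr 1
  exact Fintype.sum_equiv (resAut K α hα).toEquiv _ _ (fun n => rfl)

/-- A class function of `H` restricted to `K` is invariant under conjugation. -/
theorem cj_res_of_isClassFunction {χ : H → ℂ} (hχ : IsClassFunction H χ) (y : H) :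
    cj K y (fun n : K => χ n) = fun n : K => χ n := by
  funext n
  unfold cj
  show χ (((MulAut.conjNormal y⁻¹ : MulAut K) n : K) : H) = χ n
  rw [MulAut.conjNormal_apply]
  exact hχ (n : H) y⁻¹

/-- Conjugation by an element of `K` fixes class functions of `K`. -/
theorem cj_of_mem {ψ : K → ℂ} (hψ : IsClassFunction K ψ) {z : H} (hz : z ∈ K) :
    cj K z ψ = ψ := by
  funext n
  unfold cj
  have h1 : (MulAut.conjNormal z⁻¹ : MulAut K) n = (⟨z, hz⟩ : K)⁻¹ * n * (⟨z, hz⟩ : K)⁻¹⁻¹ := by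
    apply Subtype.ext
    rw [MulAut.conjNormal_apply]
    simp
  rw [h1]
  exact hψ n (⟨z, hz⟩ : K)⁻¹

/-- A character of `H` lying over a conjugate of `θ` lies over `θ`. -/
theorem classInner_cj_right (χ : IrrCharacter H) (y : H) (θ : K → ℂ) :
    classInner (fun n : K => (χ : H → ℂ) n) (cj K y θ) =
      classInner (fun n : K => (χ : H → ℂ) n) θ := by
  have h := Cfsg.Agent.Lib.Helper77_FongReynolds.classInner_cj (N := K) y⁻¹
    (fun n : K => (χ : H → ℂ) n) θ
  rw [inv_inv, cj_res_of_isClassFunction K (isIrrCharacter_isClassFunction χ.2)] at h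
  exact h.symm

/-- If `K` has `p`-power index, the block of `H` covering an `α`-stable block of `K` is
`α`-stable. -/
theorem stab_up (hM : IsPModular p M) {k : ℕ} (hidx : K.index = p ^ k) (α : H ≃* H)
    (hα : ∀ h : H, α h ∈ K ↔ h ∈ K) {f : Set (IrrCharacter H)} (hf : IsPBlock M f)
    {f'' : Set (IrrCharacter K)} (hf'' : IsPBlock M f'')
    (hcov : ∃ χ ∈ f, ∃ θ ∈ f'', classInner (fun n : K => (χ : H → ℂ) n) (θ : K → ℂ) ≠ 0)
    (hst : mapBlock (resAut K α hα) f'' ⊆ f'') : mapBlock α f ⊆ f := by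
  have hMp := isPrime_of_isPModular hM
  obtain ⟨χ, hχ, θ, hθ, hχθ⟩ := hcov
  rintro _ ⟨χ₁, hχ₁, rfl⟩
  obtain ⟨θ₁, hθ₁⟩ := exists_under K χ₁
  have hcl : θ₁ ∈ gClosure K f'' :=
    mem_gClosure_of_sameBlock K hMp hf'' (isPBlock_sameBlock hMp hf hχ hχ₁)
      (subset_gClosure K f'' hθ) hχθ hθ₁
  obtain ⟨y, θ₂, hθ₂, hy⟩ := hcl
  have h2 : classInner (fun n : K => (χ₁ : H → ℂ) n) (θ₂ : K → ℂ) ≠ 0 := by
    rw [← classInner_cj_right K χ₁ y, ← hy]
    exact hθ₁
  have hθ₃ : irrComp (resAut K α hα) θ₂ ∈ f'' := hst (irrComp_mem_mapBlock _ hθ₂)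
  have h3 : classInner (fun n : K => (irrComp α χ₁ : H → ℂ) n)
      (irrComp (resAut K α hα) θ₂ : K → ℂ) ≠ 0 := by
    rw [classInner_irrComp]
    exact h2
  exact mem_of_cover K hM hidx hf hχ (isPBlock_sameBlock hMp hf'' hθ hθ₃) hχθ h3

/-- Twisting commutes with conjugation, for automorphisms acting trivially on `H / K`. -/
theorem irrComp_cjIrr (α : H ≃* H) (hα : ∀ h : H, α h ∈ K ↔ h ∈ K)
    (htriv : ∀ y : H, y⁻¹ * α y ∈ K) (y : H) (θ : IrrCharacter K) :
    irrComp (resAut K α hα) (cjIrr K y θ) = cjIrr K y (irrComp (resAut K α hα) θ) := by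
  apply Subtype.ext
  funext n
  show cj K y (θ : K → ℂ) (resAut K α hα n) = cj K y (irrComp (resAut K α hα) θ : K → ℂ) n
  unfold cj
  rw [irrComp_apply]
  set w : K := ⟨y⁻¹ * α y, htriv y⟩ with hw
  have h1 : resAut K α hα ((MulAut.conjNormal y⁻¹ : MulAut K) n) =
      w⁻¹ * ((MulAut.conjNormal y⁻¹ : MulAut K) (resAut K α hα n)) * w⁻¹⁻¹ := by
    apply Subtype.ext
    have e1 : (((MulAut.conjNormal y⁻¹ : MulAut K) n : K) : H) = y⁻¹ * n * y := by
      rw [MulAut.conjNormal_apply, inv_inv]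
    have e2 : (((MulAut.conjNormal y⁻¹ : MulAut K) (resAut K α hα n) : K) : H) =
        y⁻¹ * α n * y := by
      rw [MulAut.conjNormal_apply, inv_inv, resAut_apply]
    rw [resAut_apply, e1, Subgroup.coe_mul, Subgroup.coe_mul, e2, inv_inv, Subgroup.coe_inv]
    show α (y⁻¹ * n * y) = (y⁻¹ * α y)⁻¹ * (y⁻¹ * α n * y) * (y⁻¹ * α y)
    rw [map_mul, map_mul, map_inv]
    group
  rw [h1]
  exact (isIrrCharacter_isClassFunction θ.2 _ w⁻¹).symm

theorem iterate_irrComp (β : K ≃* K) (j : ℕ) (θ : IrrCharacter K) (n : K) :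
    (((irrComp β)^[j] θ : IrrCharacter K) : K → ℂ) n = (θ : K → ℂ) (β^[j] n) := by
  induction j generalizing n with
  | zero => rfl
  | succ j ih =>
    rw [Function.iterate_succ_apply', irrComp_apply, ih, ← Function.iterate_succ_apply]

theorem iterate_resAut (α : H ≃* H) (hα : ∀ h : H, α h ∈ K ↔ h ∈ K) (j : ℕ) (n : K) :
    (((resAut K α hα)^[j] n : K) : H) = α^[j] n := by
  induction j with
  | zero => rfl
  | succ j ih =>
    rw [Function.iterate_succ_apply', Function.iterate_succ_apply', resAut_apply, ih]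

/-- If `α` has order prime to `p` and acts trivially on `H / K` of `p`-power order, a block of `K`
covered by an `α`-stable block of `H` is `α`-stable. -/
theorem stab_down (hM : IsPModular p M) {k : ℕ} (hidx : K.index = p ^ k) (α : H ≃* H)
    (hα : ∀ h : H, α h ∈ K ↔ h ∈ K) (htriv : ∀ y : H, y⁻¹ * α y ∈ K) {m : ℕ}
    (hm : ∀ h : H, α^[m] h = h) (hmp : ¬ p ∣ m) {f : Set (IrrCharacter H)} (hf : IsPBlock M f)
    {f'' : Set (IrrCharacter K)} (hf'' : IsPBlock M f'')
    (hcov : ∃ χ ∈ f, ∃ θ ∈ f'', classInner (fun n : K => (χ : H → ℂ) n) (θ : K → ℂ) ≠ 0)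
    (hst : mapBlock α f ⊆ f) : mapBlock (resAut K α hα) f'' ⊆ f'' := by
  have hMp := isPrime_of_isPModular hM
  obtain ⟨χ, hχ, θ, hθ, hχθ⟩ := hcov
  set A : IrrCharacter K → IrrCharacter K := irrComp (resAut K α hα) with hA
  -- `A θ` lies in a conjugate of `f''`
  have h1 : classInner (fun n : K => (irrComp α χ : H → ℂ) n) (A θ : K → ℂ) ≠ 0 := by
    rw [hA, classInner_irrComp]
    exact hχθ
  have hcl : A θ ∈ gClosure K f'' :=
    mem_gClosure_of_sameBlock K hMp hf''
      (isPBlock_sameBlock hMp hf hχ (hst (irrComp_mem_mapBlock _ hχ)))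
      (subset_gClosure K f'' hθ) hχθ h1
  obtain ⟨y, θ₂, hθ₂, hy⟩ := hcl
  have hAθ : A θ = cjIrr K y θ₂ := Subtype.ext hy
  have hbase : SameBlock M (A θ : K → ℂ) (cjIrr K y θ : K → ℂ) := by
    rw [hAθ]
    exact sameBlock_cj K y (isPBlock_sameBlock hMp hf'' hθ₂ hθ)
  -- induction
  have hind : ∀ j : ℕ, SameBlock M ((A^[j] θ : IrrCharacter K) : K → ℂ)
      (cjIrr K (y ^ j) θ : K → ℂ) := by
    intro j
    induction j with
    | zero =>
      rw [Function.iterate_zero, id, pow_zero]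
      have : (cjIrr K 1 θ : K → ℂ) = (θ : K → ℂ) := cj_one K _
      rw [this]
      exact sameBlock_refl hMp _
    | succ j ih =>
      rw [Function.iterate_succ_apply']
      have s1 : SameBlock M (A (A^[j] θ) : K → ℂ) (A (cjIrr K (y ^ j) θ) : K → ℂ) :=
        sameBlock_comp_mulEquiv (resAut K α hα) ih
      have e1 : A (cjIrr K (y ^ j) θ) = cjIrr K (y ^ j) (A θ) :=
        irrComp_cjIrr K α hα htriv (y ^ j) θ
      have s2 : SameBlock M (cjIrr K (y ^ j) (A θ) : K → ℂ)
          (cjIrr K (y ^ j) (cjIrr K y θ) : K → ℂ) := sameBlock_cj K (y ^ j) hbase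
      have e2 : (cjIrr K (y ^ j) (cjIrr K y θ) : K → ℂ) = (cjIrr K (y ^ (j + 1)) θ : K → ℂ) := by
        show cj K (y ^ j) (cj K y (θ : K → ℂ)) = cj K (y ^ (j + 1)) (θ : K → ℂ)
        rw [pow_succ, cj_mul]
      rw [e1] at s1
      rw [e2] at s2
      exact sameBlock_trans hMp s1 s2
  -- the exponent
  have hcop : Nat.Coprime m (p ^ k) :=
    Nat.Coprime.pow_right k ((Nat.Coprime.symm ((Nat.Prime.coprime_iff_not_dvd Fact.out).mpr hmp)))
  have hyK : y ^ (p ^ k) ∈ K := by
    rw [← hidx]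
    exact Subgroup.pow_index_mem K y
  have hkey : SameBlock M (θ : K → ℂ) (cjIrr K y θ : K → ℂ) := by
    by_cases hk1 : p ^ k = 1
    · have hy1 : y ∈ K := by
        rw [hk1, pow_one] at hyK
        exact hyK
      have : (cjIrr K y θ : K → ℂ) = (θ : K → ℂ) :=
        cj_of_mem K (isIrrCharacter_isClassFunction θ.2) hy1
      rw [this]
      exact sameBlock_refl hMp _
    · have hk2 : 1 < p ^ k := by
        have : 0 < p ^ k := pow_pos (Fact.out : p.Prime).pos k
        omega
      obtain ⟨u, -, hu⟩ := Nat.exists_mul_mod_eq_one_of_coprime hcop hk2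
      have hdm := Nat.div_add_mod (m * u) (p ^ k)
      rw [hu] at hdm
      have hj := hind (m * u)
      have e1 : A^[m * u] θ = θ := by
        apply Subtype.ext
        funext n
        rw [hA, iterate_irrComp]
        have hn : (resAut K α hα)^[m * u] n = n := by
          apply Subtype.ext
          rw [iterate_resAut, Function.iterate_mul]
          exact Function.iterate_fixed (hm _) u
        rw [hn]
      have e2 : (cjIrr K (y ^ (m * u)) θ : K → ℂ) = (cjIrr K y θ : K → ℂ) := by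
        show cj K (y ^ (m * u)) (θ : K → ℂ) = cj K y (θ : K → ℂ)
        rw [← hdm, pow_add, pow_one, pow_mul, cj_mul]
        exact cj_of_mem K (isIrrCharacter_isClassFunction (cjIrr K y θ).2)
          (K.pow_mem hyK _)
      rw [e1, e2] at hj
      exact hj
  have hAθmem : A θ ∈ f'' := by
    have s : SameBlock M (θ : K → ℂ) (A θ : K → ℂ) :=
      sameBlock_trans hMp hkey (sameBlock_symm hbase)
    exact isPBlock_mem_of_sameBlock hMp hf'' hθ s
  rintro _ ⟨θ', hθ', rfl⟩
  have s : SameBlock M (A θ : K → ℂ) (A θ' : K → ℂ) :=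
    sameBlock_comp_mulEquiv (resAut K α hα) (isPBlock_sameBlock hMp hf'' hθ hθ')
  exact isPBlock_mem_of_sameBlock hMp hf'' hAθmem s

end Cfsg.Agent.Lib.Helper78_PExtAbs
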