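import Mathlib
import Cfsg.Prelude.Def_Blocks
import Cfsg.Prelude.Def_BlockLocal
import Cfsg.Prelude.Def_BrauerPairs
import Cfsg.Agent.Lib.Helper78_PExtAbs
import Cfsg.Agent.Lib.Helper78_PairTransport
import Cfsg.Agent.Lib.Helper78_Automized

/-!
# Blocks of a normal subgroup of `p`-power index and nilpotency (helper78, S4692)

`N` is normal of `p`-power index in `G`, `c` a `G`-stable block of `N` and `B` the block of `G`
with the same idempotent.  Then `c` is nilpotent if and only if `B` is.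
-/

set_option autoImplicit false
set_option linter.unusedSectionVars false

namespace Cfsg.Agent.Lib.Helper78_PExt

open Cfsg Cfsg.Agent.Lib.Helper16_Char Cfsg.Agent.Lib.Helper16_Clifford
  Cfsg.Agent.Lib.Helper16_Orbit Cfsg.Agent.Lib.Helper16_Cover
  Cfsg.Agent.Lib.Helper78_LocalRing Cfsg.Agent.Lib.Helper78_Osima
  Cfsg.Agent.Lib.Helper78_CentralChar Cfsg.Agent.Lib.Helper78_CharFacts
  Cfsg.Agent.Lib.Helper78_ExtConv Cfsg.Agent.Lib.Helper78_BrauerPairs
  Cfsg.Agent.Lib.Helper77_StableCover Cfsg.Agent.Lib.Helper77_BlockBasics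
  Cfsg.Agent.Lib.Helper78_Transport Cfsg.Agent.Lib.Helper78_TransportBlocks
  Cfsg.Agent.Lib.Helper78_NilpotentPrincipal
  Cfsg.Agent.Lib.Helper78_SubpairBasic
  Cfsg.Agent.Lib.Helper78_SubpairTrans Cfsg.Agent.Lib.Helper78_SubpairUnique
  Cfsg.Agent.Lib.Helper78_MaxPair Cfsg.Agent.Lib.Helper78_PairConj
  Cfsg.Agent.Lib.Helper78_PairTransport Cfsg.Agent.Lib.Helper78_BlockFusionSys
  Cfsg.Agent.Lib.Helper78_Automized Cfsg.Agent.Lib.Helper78_PExtAbs
open scoped ComplexConjugate

universe u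

variable {G : Type u} [Group G] {M : Ideal AlgInt} {p : ℕ}

variable (N : Subgroup G)

/-- `C_G(Q')` for a subgroup `Q'` of `N`. -/
abbrev CG (Q' : Subgroup N) : Subgroup G :=
  Subgroup.centralizer ((Q'.map N.subtype : Subgroup G) : Set G)

/-- `N ∩ C_G(Q')` as a subgroup of `C_G(Q')`. -/
abbrev CN (Q' : Subgroup N) : Subgroup (CG N Q') := N.subgroupOf (CG N Q')

/-- `C_N(Q') ≃* N ∩ C_G(Q')`, the latter as a subgroup of `C_G(Q')`. -/
noncomputable def centIsoN (Q' : Subgroup N) :
    Subgroup.centralizer (Q' : Set N) ≃*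
      (N.subgroupOf (Subgroup.centralizer ((Q'.map N.subtype : Subgroup G) : Set G))) where
  toFun n := ⟨⟨((n : N) : G), (mem_centralizer_map_iff Q' (n : N)).mpr n.2⟩,
    Subgroup.mem_subgroupOf.mpr (n : N).2⟩
  invFun y := ⟨⟨((y : Subgroup.centralizer ((Q'.map N.subtype : Subgroup G) : Set G)) : G),
      Subgroup.mem_subgroupOf.mp y.2⟩,
    (mem_centralizer_map_iff Q' _).mp
      (y : Subgroup.centralizer ((Q'.map N.subtype : Subgroup G) : Set G)).2⟩
  left_inv n := rfl
  right_inv y := rfl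
  map_mul' a b := rfl

theorem centIsoN_apply (Q' : Subgroup N) (n : Subgroup.centralizer (Q' : Set N)) :
    (((centIsoN N Q' n :
      N.subgroupOf (Subgroup.centralizer ((Q'.map N.subtype : Subgroup G) : Set G))) :
      Subgroup.centralizer ((Q'.map N.subtype : Subgroup G) : Set G)) : G) = ((n : N) : G) := rfl

theorem index_subgroupOf_pow [hN : N.Normal] [Fact p.Prime] {k : ℕ} (hidx : N.index = p ^ k)
    (C : Subgroup G) : ∃ j : ℕ, (N.subgroupOf C).index = p ^ j := by
  have h1 : (N.subgroupOf C).index ∣ p ^ k := by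
    rw [← hidx]
    exact Subgroup.relIndex_dvd_index_of_normal N C
  obtain ⟨j, -, hj⟩ := (Nat.dvd_prime_pow (Fact.out : p.Prime)).mp h1
  exact ⟨j, hj⟩

section PartC

variable [Fintype G] [hN : N.Normal] [Fintype N]

/-- The Brauer-map values of the idempotents of `B` and of `c` agree along covering. -/
theorem brauerOmega_eq {B : Set (IrrCharacter G)} {c : Set (IrrCharacter N)}
    (hBc : ∀ g : G, blockCoeff B g = subgroupBlockCoeff N c g) (Q' : Subgroup N)
    [Fintype (Subgroup.centralizer ((Q'.map N.subtype : Subgroup G) : Set G))]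
    [Fintype (N.subgroupOf (Subgroup.centralizer ((Q'.map N.subtype : Subgroup G) : Set G)))]
    [Fintype (Subgroup.centralizer (Q' : Set N))]
    (χ : IrrCharacter (Subgroup.centralizer ((Q'.map N.subtype : Subgroup G) : Set G)))
    (θ : IrrCharacter
      (N.subgroupOf (Subgroup.centralizer ((Q'.map N.subtype : Subgroup G) : Set G))))
    (hχθ : classInner
      (fun n : N.subgroupOf (Subgroup.centralizer ((Q'.map N.subtype : Subgroup G) : Set G)) =>
        (χ : Subgroup.centralizer ((Q'.map N.subtype : Subgroup G) : Set G) → ℂ) n)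
      (θ : N.subgroupOf (Subgroup.centralizer ((Q'.map N.subtype : Subgroup G) : Set G)) → ℂ)
        ≠ 0) :
    brauerOmega (Q'.map N.subtype) (blockCoeff B)
        (χ : Subgroup.centralizer ((Q'.map N.subtype : Subgroup G) : Set G) → ℂ) =
      brauerOmega Q' (blockCoeff c)
        (irrComp (centIsoN N Q') θ : Subgroup.centralizer (Q' : Set N) → ℂ) := by
  classical
  set F : CN N Q' → ℂ := fun n => blockCoeff B ((n : CG N Q') : G) with hF
  have hFinv : ∀ y : CG N Q', cj (CN N Q') y F = F := by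
    intro y
    funext n
    unfold cj
    simp only [hF]
    rw [MulAut.conjNormal_apply, inv_inv]
    have := blockCoeff_isClassFunction B ((n : CG N Q') : G) ((y⁻¹ : CG N Q') : G)
    rw [← this]
    congr 1
    simp
  have h1 : res (CG N Q') (blockCoeff B) = extZero (CN N Q') F := by
    funext y
    by_cases hy : y ∈ CN N Q'
    · have : extZero (CN N Q') F y = F ⟨y, hy⟩ := extZero_mem (CN N Q') F ⟨y, hy⟩
      rw [this]
      rfl
    · rw [extZero_not_mem (CN N Q') F hy, res_apply, hBc]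
      unfold subgroupBlockCoeff
      rw [dif_neg]
      exact fun h => hy (Subgroup.mem_subgroupOf.mpr h)
  rw [brauerOmega_eq_omega, h1, omega_extZero_eq (CN N Q') χ θ hχθ F hFinv, brauerOmega_eq_omega]
  have h2 : res (Subgroup.centralizer (Q' : Set N)) (blockCoeff c) = F ∘ (centIsoN N Q') := by
    funext n
    rw [res_apply, Function.comp_apply]
    simp only [hF]
    rw [centIsoN_apply, hBc]
    unfold subgroupBlockCoeff
    rw [dif_pos (n : N).2]
  rw [h2]
  exact (omega_comp (centIsoN N Q') (θ : CN N Q' → ℂ) F).symm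

/-- Along covering, `(Q', f')` is a Brauer pair of `c` in `N` iff `(Q', f)` is a Brauer pair of
`B` in `G`. -/
theorem isBrauerPairOf_iff (hM : IsPModular p M) {B : Set (IrrCharacter G)}
    {c : Set (IrrCharacter N)} (hB : IsPBlock M B) (hc : IsPBlock M c)
    (hBc : ∀ g : G, blockCoeff B g = subgroupBlockCoeff N c g) (Q' : Subgroup N)
    [Fintype (Subgroup.centralizer ((Q'.map N.subtype : Subgroup G) : Set G))]
    [Fintype (N.subgroupOf (Subgroup.centralizer ((Q'.map N.subtype : Subgroup G) : Set G)))]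
    {f : Set (IrrCharacter (Subgroup.centralizer ((Q'.map N.subtype : Subgroup G) : Set G)))}
    (hf : IsPBlock M f) {f' : Set (IrrCharacter (Subgroup.centralizer (Q' : Set N)))}
    (hf' : IsPBlock M f')
    (hcov : ∃ χ ∈ f, ∃ θ ∈ mapBlock (centIsoN N Q').symm f', classInner
      (fun n : N.subgroupOf (Subgroup.centralizer ((Q'.map N.subtype : Subgroup G) : Set G)) =>
        (χ : Subgroup.centralizer ((Q'.map N.subtype : Subgroup G) : Set G) → ℂ) n)
      (θ : N.subgroupOf (Subgroup.centralizer ((Q'.map N.subtype : Subgroup G) : Set G)) → ℂ)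
        ≠ 0) :
    IsBrauerPairOf p M B (Q'.map N.subtype) f ↔ IsBrauerPairOf p M c Q' f' := by
  classical
  have hMp := isPrime_of_isPModular hM
  have := Fintype.ofFinite (Subgroup.centralizer (Q' : Set N))
  obtain ⟨χ, hχ, θ, hθ, hχθ⟩ := hcov
  have heq := brauerOmega_eq N hBc Q' χ θ hχθ
  have hξ₀ : irrComp (centIsoN N Q') θ ∈ f' := by
    have := (mem_mapBlock_iff (centIsoN N Q').symm f' θ).mp hθ
    exact this
  have hpg : IsPGroup p (Q'.map N.subtype : Subgroup G) ↔ IsPGroup p Q' := by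
    constructor
    · intro h
      exact h.of_equiv (Q'.equivMapOfInjective N.subtype N.subtype_injective).symm
    · intro h
      exact h.of_equiv (Q'.equivMapOfInjective N.subtype N.subtype_injective)
  constructor
  · rintro ⟨⟨hQ, -⟩, -, hcond⟩
    refine ⟨⟨hpg.mp hQ, hf'⟩, hc, fun ξ hξ => ?_⟩
    have h0 := hcond χ hχ
    rw [heq] at h0
    have h1 := memLocalIdeal_brauerOmega_sub hMp Q' (isPBlock_sameBlock hMp hf' hξ hξ₀)
      (blockCoeff_isClassFunction c) (fun g => osima_block' hMp hc g)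
    have := memLocalIdeal_add hMp h1 h0
    rwa [sub_add_sub_cancel] at this
  · rintro ⟨⟨hQ, -⟩, -, hcond⟩
    refine ⟨⟨hpg.mpr hQ, hf⟩, hB, fun ξ hξ => ?_⟩
    have h0 := hcond _ hξ₀
    rw [← heq] at h0
    have h1 := memLocalIdeal_brauerOmega_sub hMp (Q'.map N.subtype)
      (isPBlock_sameBlock hMp hf hξ hχ)
      (blockCoeff_isClassFunction B) (fun g => osima_block' hMp hB g)
    have := memLocalIdeal_add hMp h1 h0
    rwa [sub_add_sub_cancel] at this

end PartC

section PartD

variable [hN : N.Normal]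

theorem conj_mem_CN_iff (Q' : Subgroup N) {x : G}
    (hx : x ∈ Subgroup.normalizer ((CG N Q' : Subgroup G) : Set G)) (h : CG N Q') :
    conjEquiv (CG N Q') x hx h ∈ CN N Q' ↔ h ∈ CN N Q' := by
  rw [Subgroup.mem_subgroupOf, Subgroup.mem_subgroupOf, conjEquiv_apply]
  constructor
  · intro hh
    have := hN.conj_mem _ hh x
    have e : x * (x⁻¹ * (h : G) * x) * x⁻¹ = (h : G) := by group
    rwa [e] at this
  · intro hh
    have := hN.conj_mem _ hh x⁻¹
    rwa [inv_inv] at this

theorem conj_triv (Q' : Subgroup N) {x : G} (hxN : x ∈ N)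
    (hx : x ∈ Subgroup.normalizer ((CG N Q' : Subgroup G) : Set G)) (y : CG N Q') :
    y⁻¹ * conjEquiv (CG N Q') x hx y ∈ CN N Q' := by
  rw [Subgroup.mem_subgroupOf, Subgroup.coe_mul, Subgroup.coe_inv, conjEquiv_apply]
  have h1 := hN.conj_mem _ (N.inv_mem hxN) (y : G)⁻¹
  rw [inv_inv] at h1
  have e : (y : G)⁻¹ * (x⁻¹ * (y : G) * x) = ((y : G)⁻¹ * x⁻¹ * (y : G)) * x := by group
  rw [e]
  exact N.mul_mem h1 hxN

theorem conj_iterate (C : Subgroup G) {x : G}
    (hx : x ∈ Subgroup.normalizer ((C : Subgroup G) : Set G)) (j : ℕ) (h : C) :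
    ((((conjEquiv C x hx)^[j] h : C)) : G) = (x ^ j)⁻¹ * (h : G) * x ^ j := by
  induction j with
  | zero => simp
  | succ j ih =>
    rw [Function.iterate_succ_apply', conjEquiv_apply, ih, pow_succ]
    group

theorem conj_iterate_orderOf (C : Subgroup G) {x : G}
    (hx : x ∈ Subgroup.normalizer ((C : Subgroup G) : Set G)) (h : C) :
    (conjEquiv C x hx)^[orderOf x] h = h := by
  apply Subtype.ext
  rw [conj_iterate, pow_orderOf_eq_one]
  simp

theorem coe_mem_normalizer_map (Q' : Subgroup N) {x' : N}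
    (hx' : x' ∈ Subgroup.normalizer (Q' : Set N)) :
    (x' : G) ∈ Subgroup.normalizer ((Q'.map N.subtype : Subgroup G) : Set G) :=
  Subgroup.le_normalizer_map N.subtype ⟨x', hx', rfl⟩

/-- Conjugation by `x'` in `C_N(Q')` corresponds to conjugation by `x'` in `N ∩ C_G(Q')`. -/
theorem centIsoN_conj (Q' : Subgroup N) {x' : N}
    (hx' : x' ∈ Subgroup.normalizer ((Subgroup.centralizer (Q' : Set N) : Subgroup N) : Set N))
    (hx : (x' : G) ∈ Subgroup.normalizer ((CG N Q' : Subgroup G) : Set G))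
    (n : Subgroup.centralizer (Q' : Set N)) :
    centIsoN N Q' (conjEquiv (Subgroup.centralizer (Q' : Set N)) x' hx' n) =
      resAut (CN N Q') (conjEquiv (CG N Q') (x' : G) hx) (conj_mem_CN_iff N Q' hx)
        (centIsoN N Q' n) := by
  apply Subtype.ext
  apply Subtype.ext
  rw [centIsoN_apply, resAut_apply, conjEquiv_apply, conjEquiv_apply, centIsoN_apply]
  simp

/-- Stability of `f'` in `N` and of its image in `N ∩ C_G(Q')`. -/
theorem stab_bridge (Q' : Subgroup N) {x' : N}
    (hx' : x' ∈ Subgroup.normalizer ((Subgroup.centralizer (Q' : Set N) : Subgroup N) : Set N))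
    (hx : (x' : G) ∈ Subgroup.normalizer ((CG N Q' : Subgroup G) : Set G))
    (f' : Set (IrrCharacter (Subgroup.centralizer (Q' : Set N)))) :
    mapBlock (resAut (CN N Q') (conjEquiv (CG N Q') (x' : G) hx) (conj_mem_CN_iff N Q' hx))
        (mapBlock (centIsoN N Q').symm f') ⊆ mapBlock (centIsoN N Q').symm f' ↔
      mapBlock (conjEquiv (Subgroup.centralizer (Q' : Set N)) x' hx') f' ⊆ f' := by
  constructor
  · rintro h _ ⟨ξ, hξ, rfl⟩
    have h1 : irrComp (centIsoN N Q').symm ξ ∈ mapBlock (centIsoN N Q').symm f' :=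
      irrComp_mem_mapBlock _ hξ
    have h2 := h (irrComp_mem_mapBlock _ h1)
    have h3 := (mem_mapBlock_iff (centIsoN N Q').symm f' _).mp h2
    have e : irrComp (centIsoN N Q').symm.symm
        (irrComp (resAut (CN N Q') (conjEquiv (CG N Q') (x' : G) hx) (conj_mem_CN_iff N Q' hx))
          (irrComp (centIsoN N Q').symm ξ)) =
        irrComp (conjEquiv (Subgroup.centralizer (Q' : Set N)) x' hx') ξ := by
      apply Subtype.ext
      funext n
      rw [irrComp_apply, irrComp_apply, irrComp_apply, irrComp_apply]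
      congr 1
    rwa [e] at h3
  · rintro h _ ⟨_, ⟨ξ, hξ, rfl⟩, rfl⟩
    have h1 := h (irrComp_mem_mapBlock _ hξ)
    have e : irrComp
        (resAut (CN N Q') (conjEquiv (CG N Q') (x' : G) hx) (conj_mem_CN_iff N Q' hx))
          (irrComp (centIsoN N Q').symm ξ) =
        irrComp (centIsoN N Q').symm
          (irrComp (conjEquiv (Subgroup.centralizer (Q' : Set N)) x' hx') ξ) := by
      apply Subtype.ext
      funext n
      rw [irrComp_apply, irrComp_apply, irrComp_apply, irrComp_apply]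
      congr 1
    rw [e]
    exact irrComp_mem_mapBlock _ h1

/-- A `p`-regular element of `N` normalizing the `p`-group `Q` and centralizing `Q ∩ N`
centralizes `Q`. -/
theorem mem_centralizer_of_coprime {Q : Subgroup G} (hQ : IsPGroup p Q) {x : G} (hxN : x ∈ N)
    (hxQ : x ∈ Subgroup.normalizer (Q : Set G))
    (hxc : ∀ r : G, r ∈ Q → r ∈ N → r * x = x * r) (hreg : ¬ p ∣ orderOf x) [Fact p.Prime] :
    x ∈ Subgroup.centralizer (Q : Set G) := by
  rw [Subgroup.mem_centralizer_iff]
  intro u hu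
  set r : G := u⁻¹ * (x * u * x⁻¹) with hr
  have hxu : x * u * x⁻¹ ∈ Q := (Subgroup.mem_set_normalizer_iff.mp hxQ u).mp hu
  have hrQ : r ∈ Q := Q.mul_mem (Q.inv_mem hu) hxu
  have hrN : r ∈ N := by
    have h1 := hN.conj_mem _ hxN u⁻¹
    rw [inv_inv] at h1
    have e : r = (u⁻¹ * x * u) * x⁻¹ := by rw [hr]; group
    rw [e]
    exact N.mul_mem h1 (N.inv_mem hxN)
  have hcomm := hxc r hrQ hrN
  have hxur : x * u * x⁻¹ = u * r := by rw [hr]; group
  have hpow : ∀ j : ℕ, x ^ j * u * (x ^ j)⁻¹ = u * r ^ j := by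
    intro j
    induction j with
    | zero => simp
    | succ j ih =>
      have hrj : x * r ^ j * x⁻¹ = r ^ j := by
        have : Commute r x := hcomm
        have h2 : Commute (r ^ j) x := this.pow_left j
        calc x * r ^ j * x⁻¹ = (r ^ j * x) * x⁻¹ := by rw [h2.eq]
          _ = r ^ j := by group
      calc x ^ (j + 1) * u * (x ^ (j + 1))⁻¹ = x * (x ^ j * u * (x ^ j)⁻¹) * x⁻¹ := by
            rw [pow_succ']; group
        _ = x * (u * r ^ j) * x⁻¹ := by rw [ih]
        _ = (x * u * x⁻¹) * (x * r ^ j * x⁻¹) := by group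
        _ = u * r * r ^ j := by rw [hxur, hrj]
        _ = u * r ^ (j + 1) := by rw [pow_succ', mul_assoc]
  have h1 := hpow (orderOf x)
  rw [pow_orderOf_eq_one, one_mul, inv_one, mul_one] at h1
  have hrm : r ^ orderOf x = 1 := by
    have := mul_left_cancel (a := u) (b := 1) (c := r ^ orderOf x) (by rw [mul_one]; exact h1)
    exact this.symm
  have hdvd : orderOf r ∣ orderOf x := orderOf_dvd_of_pow_eq_one hrm
  obtain ⟨a, ha⟩ := hQ ⟨r, hrQ⟩
  have ha' : r ^ (p ^ a) = 1 := by
    have := congrArg (fun z : Q => (z : G)) ha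
    simpa using this
  have hdvd2 : orderOf r ∣ p ^ a := orderOf_dvd_of_pow_eq_one ha'
  have hcop : Nat.Coprime (p ^ a) (orderOf x) :=
    Nat.Coprime.pow_left a ((Nat.Prime.coprime_iff_not_dvd Fact.out).mpr hreg)
  have h1' : orderOf r = 1 :=
    Nat.Coprime.eq_one_of_dvd (Nat.Coprime.coprime_dvd_left hdvd2 hcop) hdvd
  have hr1 : r = 1 := orderOf_eq_one_iff.mp h1'
  rw [hr1, mul_one] at hxur
  calc u * x = (x * u * x⁻¹) * x := by rw [hxur]
    _ = x * u := by group

end PartD

section Main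

variable [Fintype G] [hN : N.Normal] [Fact p.Prime]

/-- If `B` is nilpotent, so is `c`. -/
theorem nilpotent_up (hM : IsPModular p M) {k : ℕ} (hidx : N.index = p ^ k)
    {c : Set (IrrCharacter N)} (hc : IsPBlock M c) {B : Set (IrrCharacter G)}
    (hB : IsPBlock M B) (hBc : ∀ g : G, blockCoeff B g = subgroupBlockCoeff N c g)
    (hnil : IsNilpotentBlock p M B) : IsNilpotentBlock p M c := by
  classical
  have hMp := isPrime_of_isPModular hM
  haveI : Fintype N := Fintype.ofFinite N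
  refine ⟨hc, ?_⟩
  intro Q' f' hpair x' hx' hstab hreg
  haveI : Fintype (CG N Q') := Fintype.ofFinite _
  haveI : Fintype (CN N Q') := Fintype.ofFinite _
  have hf' : IsPBlock M f' := hpair.1.2
  have hf'' : IsPBlock M (mapBlock (centIsoN N Q').symm f') := isPBlock_mapBlock _ hf'
  obtain ⟨θ, hθ⟩ := isPBlock_nonempty hMp hf''
  obtain ⟨χ, hχ⟩ := exists_over (CN N Q') θ
  have hf : IsPBlock M (blockOf M (χ : CG N Q' → ℂ)) := isPBlock_blockOf χ
  have hcov : ∃ χ' ∈ blockOf M (χ : CG N Q' → ℂ), ∃ θ' ∈ mapBlock (centIsoN N Q').symm f',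
      classInner (fun n : CN N Q' => (χ' : CG N Q' → ℂ) n) (θ' : CN N Q' → ℂ) ≠ 0 :=
    ⟨χ, mem_blockOf_self hMp χ, θ, hθ, hχ⟩
  have hpairG : IsBrauerPairOf p M B (Q'.map N.subtype) (blockOf M (χ : CG N Q' → ℂ)) :=
    (isBrauerPairOf_iff N hM hB hc hBc Q' hf hf' hcov).mpr hpair
  have hxG := coe_mem_normalizer_map N Q' hx'
  have hxC : (x' : G) ∈ Subgroup.normalizer ((CG N Q' : Subgroup G) : Set G) :=
    normalizer_le _ hxG
  have hx'C : x' ∈ Subgroup.normalizer
      ((Subgroup.centralizer (Q' : Set N) : Subgroup N) : Set N) := normalizer_le Q' hx'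
  have hst' := (stabilizesBlock_iff _ f' x' hx'C).mp hstab
  have hst'' := (stab_bridge N Q' hx'C hxC f').mpr hst'
  obtain ⟨j, hj⟩ := index_subgroupOf_pow (p := p) N hidx (CG N Q')
  have hstG := stab_up (CN N Q') hM hj _ (conj_mem_CN_iff N Q' hxC) hf hf'' hcov hst''
  have hstabG : StabilizesBlock (CG N Q') (blockOf M (χ : CG N Q' → ℂ)) (x' : G) :=
    (stabilizesBlock_iff _ _ _ hxC).mpr hstG
  have hregG : IsPRegular p (x' : G) := by
    unfold IsPRegular at hreg ⊢
    rwa [Subgroup.orderOf_coe]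
  have := hnil.2 (Q'.map N.subtype) _ hpairG (x' : G) hxG hstabG hregG
  exact (mem_centralizer_map_iff Q' x').mp this

/-- If `c` is nilpotent, so is `B`. -/
theorem nilpotent_down (hM : IsPModular p M) {k : ℕ} (hidx : N.index = p ^ k)
    {c : Set (IrrCharacter N)} (hc : IsPBlock M c) {B : Set (IrrCharacter G)}
    (hB : IsPBlock M B) (hBc : ∀ g : G, blockCoeff B g = subgroupBlockCoeff N c g)
    (hnil : IsNilpotentBlock p M c) : IsNilpotentBlock p M B := by
  classical
  have hMp := isPrime_of_isPModular hM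
  haveI : Fintype N := Fintype.ofFinite N
  refine ⟨hB, ?_⟩
  intro Q e hpair x hx hstab hreg
  have hxN : x ∈ N := by
    by_contra h
    exact hreg (dvd_orderOf_of_not_mem N hidx h)
  set Q' : Subgroup N := Q.subgroupOf N with hQ'
  haveI : Fintype (CG N Q') := Fintype.ofFinite _
  haveI : Fintype (CN N Q') := Fintype.ofFinite _
  have hR : ∀ y : G, y ∈ Q'.map N.subtype ↔ y ∈ Q ∧ y ∈ N := by
    intro y
    constructor
    · rintro ⟨n, hn, rfl⟩
      exact ⟨Subgroup.mem_subgroupOf.mp hn, n.2⟩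
    · rintro ⟨hyQ, hyN⟩
      exact ⟨⟨y, hyN⟩, Subgroup.mem_subgroupOf.mpr hyQ, rfl⟩
  have hRQ : Q'.map N.subtype ≤ Q := fun y hy => ((hR y).mp hy).1
  have hPe : IsBrauerPair p M Q e := hpair.1
  obtain ⟨f, hf, hle⟩ := exists_subpairLE hM hPe (Q'.map N.subtype) hRQ
  have hpairR : IsBrauerPairOf p M B (Q'.map N.subtype) f :=
    (isBrauerPairOf_iff_of_subpairLE hM hle hB).mp hpair
  have hxR : x ∈ Subgroup.normalizer ((Q'.map N.subtype : Subgroup G) : Set G) := by
    rw [Subgroup.mem_set_normalizer_iff]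
    intro y
    rw [SetLike.mem_coe, SetLike.mem_coe, hR, hR]
    constructor
    · rintro ⟨hyQ, hyN⟩
      exact ⟨(Subgroup.mem_set_normalizer_iff.mp hx y).mp hyQ, hN.conj_mem y hyN x⟩
    · rintro ⟨hyQ, hyN⟩
      refine ⟨(Subgroup.mem_set_normalizer_iff.mp hx y).mpr hyQ, ?_⟩
      have := hN.conj_mem _ hyN x⁻¹
      have e : x⁻¹ * (x * y * x⁻¹) * x⁻¹⁻¹ = y := by group
      rwa [e] at this
  have hconjQ : conjPair x (⟨Q, e⟩ : BrauerPairIdx G) = ⟨Q, e⟩ :=
    conjPair_eq_of_stab hMp hPe.2 hx hstab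
  have hchain := chain_conj (p := p) (M := M) x hle
  rw [hconjQ] at hchain
  have heq : conjPair x (⟨Q'.map N.subtype, f⟩ : BrauerPairIdx G) = ⟨Q'.map N.subtype, f⟩ :=
    pair_unique hM hchain hle (map_conj_eq_of_mem_normalizer hxR)
  have hstabR : StabilizesBlock (CG N Q') f x := stab_of_conjPair_eq hxR heq
  have hxC : x ∈ Subgroup.normalizer ((CG N Q' : Subgroup G) : Set G) := normalizer_le _ hxR
  have hstG := (stabilizesBlock_iff _ f x hxC).mp hstabR
  -- a covered block
  obtain ⟨χ, hχ⟩ := isPBlock_nonempty hMp hf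
  obtain ⟨θ, hθ⟩ := exists_under (CN N Q') χ
  have hf''0 : IsPBlock M (blockOf M (θ : CN N Q' → ℂ)) := isPBlock_blockOf θ
  set f' : Set (IrrCharacter (Subgroup.centralizer (Q' : Set N))) :=
    mapBlock (centIsoN N Q') (blockOf M (θ : CN N Q' → ℂ)) with hf'def
  have hf' : IsPBlock M f' := isPBlock_mapBlock _ hf''0
  have hf''eq : mapBlock (centIsoN N Q').symm f' = blockOf M (θ : CN N Q' → ℂ) :=
    mapBlock_symm_mapBlock _ _
  have hf'' : IsPBlock M (mapBlock (centIsoN N Q').symm f') := by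
    rw [hf''eq]; exact hf''0
  have hcov : ∃ χ' ∈ f, ∃ θ' ∈ mapBlock (centIsoN N Q').symm f',
      classInner (fun n : CN N Q' => (χ' : CG N Q' → ℂ) n) (θ' : CN N Q' → ℂ) ≠ 0 := by
    refine ⟨χ, hχ, θ, ?_, hθ⟩
    rw [hf''eq]
    exact mem_blockOf_self hMp θ
  have hpair' : IsBrauerPairOf p M c Q' f' :=
    (isBrauerPairOf_iff N hM hB hc hBc Q' hf hf' hcov).mp hpairR
  have hx' : (⟨x, hxN⟩ : N) ∈ Subgroup.normalizer (Q' : Set N) := by
    rw [Subgroup.mem_set_normalizer_iff]
    intro n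
    rw [SetLike.mem_coe, SetLike.mem_coe, hQ', Subgroup.mem_subgroupOf, Subgroup.mem_subgroupOf]
    exact Subgroup.mem_set_normalizer_iff.mp hx (n : G)
  have hx'C : (⟨x, hxN⟩ : N) ∈ Subgroup.normalizer
      ((Subgroup.centralizer (Q' : Set N) : Subgroup N) : Set N) := normalizer_le Q' hx'
  obtain ⟨j, hj⟩ := index_subgroupOf_pow (p := p) N hidx (CG N Q')
  have hdown := stab_down (CN N Q') hM hj (conjEquiv (CG N Q') x hxC)
    (conj_mem_CN_iff N Q' hxC) (conj_triv N Q' hxN hxC)
    (conj_iterate_orderOf (CG N Q') hxC) hreg hf hf'' hcov hstG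
  have hst' := (stab_bridge N Q' (x' := ⟨x, hxN⟩) hx'C hxC f').mp hdown
  have hstab' : StabilizesBlock (Subgroup.centralizer (Q' : Set N)) f' (⟨x, hxN⟩ : N) :=
    (stabilizesBlock_iff _ f' _ hx'C).mpr hst'
  have hreg' : IsPRegular p (⟨x, hxN⟩ : N) := by
    unfold IsPRegular at hreg ⊢
    rw [← Subgroup.orderOf_coe]
    exact hreg
  have hcen := hnil.2 Q' f' hpair' ⟨x, hxN⟩ hx' hstab' hreg'
  rw [Subgroup.mem_centralizer_iff] at hcen
  refine mem_centralizer_of_coprime N hPe.1 hxN hx ?_ hreg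
  intro r hrQ hrN
  have := hcen ⟨r, hrN⟩ (Subgroup.mem_subgroupOf.mpr hrQ)
  exact congrArg (fun z : N => (z : G)) this

/-- S4692: `c` is nilpotent iff `B` is. -/
theorem nilpotent_iff (hM : IsPModular p M) {k : ℕ} (hidx : N.index = p ^ k)
    {c : Set (IrrCharacter N)} (hc : IsPBlock M c) {B : Set (IrrCharacter G)}
    (hB : IsPBlock M B) (hBc : ∀ g : G, blockCoeff B g = subgroupBlockCoeff N c g) :
    IsNilpotentBlock p M c ↔ IsNilpotentBlock p M B :=
  ⟨nilpotent_down N hM hidx hc hB hBc, nilpotent_up N hM hidx hc hB hBc⟩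

end Main

end Cfsg.Agent.Lib.Helper78_PExt
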