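import Mathlib
import Cfsg.Prelude.Def_Blocks
import Cfsg.Agent.Lib.Helper78_RCDefs

/-!
# RC-GRP2 (helper8, package of helper78's S4937 plan): `relIdx_inv`, `relIdx_coe`.
-/

set_option autoImplicit false

namespace Cfsg.Agent.Lib.Helper8_RC_GRP2

open Cfsg Cfsg.Agent.Lib.Helper78_RCDefs

universe u

/-- RC-GRP2 (a) (S). `centralizer {g⁻¹} = centralizer {g}`. -/
theorem relIdx_inv {G : Type u} [Group G] (N : Subgroup G) (g : G) :
    relIdx N g⁻¹ = relIdx N g := by
  have h : Subgroup.centralizer ({g⁻¹} : Set G) = Subgroup.centralizer ({g} : Set G) := by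
    ext x
    rw [Subgroup.mem_centralizer_singleton_iff, Subgroup.mem_centralizer_singleton_iff]
    constructor
    · intro h1
      have : g * (x * g⁻¹) * g = g * (g⁻¹ * x) * g := by rw [h1]
      exact (by simpa [mul_assoc] using this : g * x = x * g).symm
    · intro h1
      have : g⁻¹ * (x * g) * g⁻¹ = g⁻¹ * (g * x) * g⁻¹ := by rw [h1]
      exact (by simpa [mul_assoc] using this : g⁻¹ * x = x * g⁻¹).symm
  unfold relIdx
  rw [h]

/-- RC-GRP2 (b) (S). `(centralizer {(n:G)}).subgroupOf N = centralizer {n}` as subgroups of `N`. -/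
theorem relIdx_coe {G : Type u} [Group G] (N : Subgroup G) (n : N) :
    relIdx N (n : G) = (Subgroup.centralizer ({n} : Set N)).index := by
  have h : (Subgroup.centralizer ({(n : G)} : Set G)).subgroupOf N =
      Subgroup.centralizer ({n} : Set N) := by
    ext x
    rw [Subgroup.mem_subgroupOf, Subgroup.mem_centralizer_singleton_iff,
      Subgroup.mem_centralizer_singleton_iff]
    constructor
    · intro h1
      exact Subtype.ext h1
    · intro h1
      exact congrArg Subtype.val h1
  unfold relIdx
  rw [h]

end Cfsg.Agent.Lib.Helper8_RC_GRP2
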