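import Mathlib
import Cfsg.Prelude.Def_Blocks
import Cfsg.Agent.Lib.Helper78_RCDefs
import Cfsg.Agent.Lib.Helper78_LocalRing
import Cfsg.Agent.Lib.Helper78_CentralChar
import Cfsg.Agent.Lib.Helper75_LinChar
import Cfsg.Agent.Lib.Helper78_RC_SCHUR
import Cfsg.Agent.Lib.Helper8_RC_GRP2
import Cfsg.Agent.Lib.Helper64_RC_GRP1
import Cfsg.Agent.Lib.Helper64_RC_CLS
import Cfsg.Agent.Lib.Helper43_RC_PROD
import Cfsg.Agent.Lib.Helper82_RC_TEICH

/-!
# S4937: assembly (architect helper78)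

THEOREM. `N ⊴ G`, `P ∈ Syl_p(N)`, `G = N·C_G(P)`, `θ ∈ B₀(N)` the restriction of some `ψ ∈ Irr(G)`. Then
`θ` is the restriction of some `χ ∈ B₀(G)` such that `χ|_J ∈ B₀(J)` for every subgroup `N ≤ J ≤ G`.

Proof via the relative central character `relOmega N ψ g = |N : C_N(g)| ψ(g)/ψ(1)`: it is integral and
multiplicative modulo the local ideal (RC-SCHUR, RC-PROD); on the coset of `c ∈ C_G(P)` it is
`≡ (ψ(c)/ψ(1)) |K_g|`, the multiplier is multiplicative on `G/N` and lifts to a linear character `λ`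
(RC-TEICH); `χ = λ⁻¹ψ` has `relOmega N χ g ≡ |K_g|` for all `g`, which gives `χ|_J ∈ B₀(J)` (RC-CLS).
Packages: RC-SCHUR, RC-IRR, RCOrb (helper78), RC-GRP2 (helper8), RC-GRP1, RC-CLS (helper64),
RC-PROD (helper43), RC-TEICH (helper82).
-/

set_option autoImplicit false

namespace Cfsg.Agent.Lib.Helper78_RCMain

open Cfsg Cfsg.Agent.Lib.Helper78_RCDefs Cfsg.Agent.Lib.Helper78_LocalRing
open Cfsg.Agent.Lib.Helper75_LinChar
open Cfsg.Agent.Lib.Helper78_RC_SCHUR Cfsg.Agent.Lib.Helper8_RC_GRP2 Cfsg.Agent.Lib.Helper64_RC_GRP1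
  Cfsg.Agent.Lib.Helper64_RC_CLS Cfsg.Agent.Lib.Helper43_RC_PROD Cfsg.Agent.Lib.Helper82_RC_TEICH

universe u

variable {p : ℕ} {M : Ideal AlgInt}

open Cfsg.Agent.Lib.Helper78_CentralChar

/-- natural-number unit: a natural number prime to `p` is a unit of the local ring -/
theorem memLocalIdeal_natCast_mul_iff (hM : IsPModular p M) {r : ℕ} (hr : ¬ p ∣ r) {y : ℂ}
    (hy : MemLocalRing M y) : MemLocalIdeal M ((r : ℂ) * y) ↔ MemLocalIdeal M y :=
  memLocalIdeal_unit_mul_iff (isPrime_of_isPModular hM)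
    (memLocalRing_natCast (isPrime_of_isPModular hM) r)
    (fun h => hr ((memLocalIdeal_natCast_iff hM r).1 h)) hy

/-- The key construction: if every coset of `N` contains an element whose `N`-orbit has size prime
to `p`, then a member `θ` of the principal block of `N` that extends to `G` has an extension `χ`
with `relOmega N χ g ≡ |K_g|` modulo the local ideal for ALL `g : G` (a "good" extension). -/
theorem exists_good_ext {G : Type u} [Group G] [Finite G] [Fact p.Prime] (hM : IsPModular p M)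
    (N : Subgroup G) [hN : N.Normal]
    (hgood : ∀ g : G, ∃ c : G, g⁻¹ * c ∈ N ∧ ¬ p ∣ relIdx N c)
    (θ : IrrCharacter N) (hθ : θ ∈ principalBlock M N)
    (ψ : IrrCharacter G) (hext : ∀ x : N, (ψ : G → ℂ) x = (θ : N → ℂ) x) :
    ∃ χf : G → ℂ, IsIrrCharacter G χf ∧ (∀ x : N, χf x = (θ : N → ℂ) x) ∧
      ∀ g : G, MemLocalIdeal M (relOmega N χf g - (relIdx N g : ℂ)) := by
  classical
  have hMp := isPrime_of_isPModular hM
  have := Fintype.ofFinite G
  obtain ⟨ψf, hψ⟩ := ψ
  change ∀ x : N, ψf x = (θ : N → ℂ) x at hext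
  have hres : IsIrrCharacter N (fun n : N => ψf n) := by
    have h1 : (fun n : N => ψf n) = (θ : N → ℂ) := funext hext
    rw [h1]; exact θ.2
  have hψ1 : ψf 1 ≠ 0 := isIrrCharacter_one_ne_zero hψ
  have hΩR : ∀ g, MemLocalRing M (relOmega N ψf g) := fun g =>
    memLocalRing_algInt hMp ⟨_, isIntegral_relOmega N ψf hψ hres g⟩
  -- the base congruence on `N`
  have hbase : ∀ z : G, z ∈ N →
      MemLocalIdeal M (relOmega N ψf z - 1 * (relIdx N z : ℂ)) := by
    intro z hz
    have h1 : MemLocalIdeal M (centralChar (fun _ : N => (1 : ℂ)) ⟨z, hz⟩ -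
        centralChar (θ : N → ℂ) ⟨z, hz⟩) := hθ ⟨z, hz⟩
    have h2 : relOmega N ψf z = centralChar (θ : N → ℂ) ⟨z, hz⟩ := by
      unfold relOmega centralChar
      rw [relIdx_coe N ⟨z, hz⟩, ← hext ⟨z, hz⟩, ← hext 1]
      rfl
    have h3 : (1 : ℂ) * (relIdx N z : ℂ) = centralChar (fun _ : N => (1 : ℂ)) ⟨z, hz⟩ := by
      unfold centralChar
      rw [relIdx_coe N ⟨z, hz⟩]
      simp
    rw [h2, h3]
    have := memLocalIdeal_neg h1
    rwa [neg_sub] at this
  -- good representatives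
  have key : ∀ c : G, ¬ p ∣ relIdx N c → MemLocalRing M (ψf c / ψf 1) ∧
      ∀ g : G, c⁻¹ * g ∈ N →
        MemLocalIdeal M (relOmega N ψf g - ψf c / ψf 1 * (relIdx N g : ℂ)) := by
    intro c hc
    have hr0 : ((relIdx N c : ℕ) : ℂ) ≠ 0 := by
      intro h0
      have : relIdx N c = 0 := by exact_mod_cast h0
      exact hc (this ▸ dvd_zero p)
    have hrinv := memLocalRing_inv_natCast hM hc
    have ha : ψf c / ψf 1 = relOmega N ψf c * ((relIdx N c : ℕ) : ℂ)⁻¹ := by
      unfold relOmega; field_simp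
    have ha' : ψf c⁻¹ / ψf 1 = relOmega N ψf c⁻¹ * ((relIdx N c : ℕ) : ℂ)⁻¹ := by
      unfold relOmega; rw [relIdx_inv]; field_simp
    have haR : MemLocalRing M (ψf c / ψf 1) := by
      rw [ha]; exact memLocalRing_mul hMp (hΩR c) hrinv
    have ha'R : MemLocalRing M (ψf c⁻¹ / ψf 1) := by
      rw [ha']; exact memLocalRing_mul hMp (hΩR c⁻¹) hrinv
    -- the congruence (i) for a general `g` in the coset
    have hi : ∀ g : G, c⁻¹ * g ∈ N →
        MemLocalIdeal M (relOmega N ψf g * (ψf c⁻¹ / ψf 1) - (relIdx N g : ℂ)) := by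
      intro g hg
      have hgc : g * c⁻¹ ∈ N := by
        have := hN.conj_mem _ hg c
        have h2 : c * (c⁻¹ * g) * c⁻¹ = g * c⁻¹ := by group
        rwa [h2] at this
      have hP := relOmega_mul_congr hMp N ψf hψ hres g c⁻¹ 1 (fun z hz => by
        apply hbase z
        have := N.mul_mem hgc hz
        have h2 : g * c⁻¹ * ((g * c⁻¹)⁻¹ * z) = z := by group
        rwa [h2] at this)
      have h4 : relOmega N ψf g * relOmega N ψf c⁻¹ -
          1 * (relIdx N g : ℂ) * (relIdx N c⁻¹ : ℂ) =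
          ((relIdx N c : ℕ) : ℂ) *
            (relOmega N ψf g * (ψf c⁻¹ / ψf 1) - (relIdx N g : ℂ)) := by
        rw [ha', relIdx_inv]; field_simp
      rw [h4] at hP
      refine (memLocalIdeal_natCast_mul_iff hM hc ?_).1 hP
      exact memLocalRing_sub hMp (memLocalRing_mul hMp (hΩR g) ha'R) (memLocalRing_natCast hMp _)
    have hii : MemLocalIdeal M (ψf c / ψf 1 * (ψf c⁻¹ / ψf 1) - 1) := by
      have h5 := hi c (by simp)
      have h6 : relOmega N ψf c * (ψf c⁻¹ / ψf 1) - (relIdx N c : ℂ) =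
          ((relIdx N c : ℕ) : ℂ) * (ψf c / ψf 1 * (ψf c⁻¹ / ψf 1) - 1) := by
        unfold relOmega; field_simp
      rw [h6] at h5
      refine (memLocalIdeal_natCast_mul_iff hM hc ?_).1 h5
      exact memLocalRing_sub hMp (memLocalRing_mul hMp haR ha'R) (memLocalRing_one hMp)
    refine ⟨haR, fun g hg => ?_⟩
    have h7 : relOmega N ψf g - ψf c / ψf 1 * (relIdx N g : ℂ) =
        ψf c / ψf 1 * (relOmega N ψf g * (ψf c⁻¹ / ψf 1) - (relIdx N g : ℂ)) -
          relOmega N ψf g * (ψf c / ψf 1 * (ψf c⁻¹ / ψf 1) - 1) := by ring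
    rw [h7]
    exact memLocalIdeal_sub hMp (memLocalIdeal_mul_left hMp haR (hi g hg))
      (memLocalIdeal_mul_left hMp (hΩR g) hii)
  -- choose representatives and define the multiplier
  choose cc hccN hccp using hgood
  have hccN' : ∀ g, (cc g)⁻¹ * g ∈ N := fun g => by
    have := N.inv_mem (hccN g)
    rwa [mul_inv_rev, inv_inv] at this
  set u : G → ℂ := fun g => ψf (cc g) / ψf 1 with hu
  have huR : ∀ g, MemLocalRing M (u g) := fun g => (key (cc g) (hccp g)).1
  have hucong : ∀ g, MemLocalIdeal M (relOmega N ψf g - u g * (relIdx N g : ℂ)) := fun g =>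
    (key (cc g) (hccp g)).2 g (hccN' g)
  have humul : ∀ g h, MemLocalIdeal M (u g * u h - u (g * h)) := by
    intro g h
    have hP := relOmega_mul_congr hMp N ψf hψ hres (cc g) (cc h) (u (g * h)) (fun z hz => by
      refine (key (cc (g * h)) (hccp (g * h))).2 z ?_
      -- `cc (g*h)⁻¹ * z ∈ N`
      have h1 : (cc (g * h))⁻¹ * (g * h) ∈ N := hccN' (g * h)
      have h2 : h⁻¹ * cc h ∈ N := hccN h
      have h3 : g⁻¹ * cc g ∈ N := hccN g
      have h4 : h⁻¹ * (g⁻¹ * cc g) * h ∈ N := by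
        have := hN.conj_mem _ h3 h⁻¹
        rwa [inv_inv] at this
      have h5 : (g * h)⁻¹ * (cc g * cc h) ∈ N := by
        have := N.mul_mem h4 h2
        have h6 : h⁻¹ * (g⁻¹ * cc g) * h * (h⁻¹ * cc h) = (g * h)⁻¹ * (cc g * cc h) := by group
        rwa [h6] at this
      have := N.mul_mem (N.mul_mem h1 h5) hz
      have h7 : (cc (g * h))⁻¹ * (g * h) * ((g * h)⁻¹ * (cc g * cc h)) *
          ((cc g * cc h)⁻¹ * z) = (cc (g * h))⁻¹ * z := by group
      rwa [h7] at this)
    have h8 : relOmega N ψf (cc g) * relOmega N ψf (cc h) -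
        u (g * h) * (relIdx N (cc g) : ℂ) * (relIdx N (cc h) : ℂ) =
        ((relIdx N (cc g) : ℕ) : ℂ) * (((relIdx N (cc h) : ℕ) : ℂ) * (u g * u h - u (g * h))) := by
      simp only [hu]; unfold relOmega; field_simp
    rw [h8] at hP
    have hR : MemLocalRing M (u g * u h - u (g * h)) :=
      memLocalRing_sub hMp (memLocalRing_mul hMp (huR g) (huR h)) (huR _)
    have h9 := (memLocalIdeal_natCast_mul_iff hM (hccp g)
      (memLocalRing_mul hMp (memLocalRing_natCast hMp _) hR)).1 hP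
    exact (memLocalIdeal_natCast_mul_iff hM (hccp h) hR).1 h9
  have huN : ∀ n ∈ N, MemLocalIdeal M (u n - 1) := by
    intro n hn
    have hc : cc n ∈ N := by
      have := N.mul_mem hn (hccN n)
      rwa [mul_inv_cancel_left] at this
    have h1 := hbase (cc n) hc
    have h2 : relOmega N ψf (cc n) - 1 * (relIdx N (cc n) : ℂ) =
        ((relIdx N (cc n) : ℕ) : ℂ) * (u n - 1) := by
      simp only [hu]; unfold relOmega; field_simp
    rw [h2] at h1
    exact (memLocalIdeal_natCast_mul_iff hM (hccp n)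
      (memLocalRing_sub hMp (huR n) (memLocalRing_one hMp))).1 h1
  -- the Teichmüller lift
  obtain ⟨lam, hlam, hlamN, hlamu⟩ := exists_lift hM N u huR humul huN
  have hlinv := hlam.inv
  have hχirr : IsIrrCharacter G ((fun g => (lam g)⁻¹) * ψf) := hlinv.mul_irr hψ
  set χf : G → ℂ := (fun g => (lam g)⁻¹) * ψf with hχf
  have hχval : ∀ g, χf g = (lam g)⁻¹ * ψf g := fun g => rfl
  have hlam1 : lam 1 = 1 := hlam.2
  have hχ1 : χf 1 = ψf 1 := by rw [hχval, hlam1, inv_one, one_mul]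
  -- `(lam g)⁻¹` is a local integer
  have hlinvR : ∀ g, MemLocalRing M (lam g)⁻¹ := by
    intro g
    have h1 : ((lam g)⁻¹) ^ Nat.card G = 1 := by
      rw [inv_pow, hlam.pow_card_eq_one g, inv_one]
    have h2 : IsIntegral ℤ ((lam g)⁻¹) :=
      IsIntegral.of_pow Nat.card_pos (by rw [h1]; exact isIntegral_one)
    exact memLocalRing_algInt hMp ⟨_, h2⟩
  have hlamR : ∀ g, MemLocalRing M (lam g) := by
    intro g
    have h2 : IsIntegral ℤ (lam g) :=
      IsIntegral.of_pow Nat.card_pos (by rw [hlam.pow_card_eq_one g]; exact isIntegral_one)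
    exact memLocalRing_algInt hMp ⟨_, h2⟩
  have hχcong : ∀ g : G, MemLocalIdeal M (relOmega N χf g - (relIdx N g : ℂ)) := by
    intro g
    have hl0 : lam g ≠ 0 := hlam.ne_zero g
    have h1 : relOmega N χf g - (relIdx N g : ℂ) =
        (lam g)⁻¹ * ((relOmega N ψf g - u g * (relIdx N g : ℂ)) -
          (lam g - u g) * (relIdx N g : ℂ)) := by
      unfold relOmega
      rw [hχ1, hχval]
      field_simp
      ring
    rw [h1]
    refine memLocalIdeal_mul_left hMp (hlinvR g) (memLocalIdeal_sub hMp (hucong g) ?_)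
    exact memLocalIdeal_mul_right hMp (hlamu g) (memLocalRing_natCast hMp _)
  have hχN : ∀ x : N, χf x = (θ : N → ℂ) x := by
    intro x
    rw [hχval, hlamN x x.2, inv_one, one_mul, hext]
  exact ⟨χf, hχirr, hχN, hχcong⟩

/-- A good extension restricts into the principal block of every intermediate subgroup. -/
theorem good_ext_spec {G : Type u} [Group G] [Finite G] (hMp : M.IsPrime)
    (N : Subgroup G) [hN : N.Normal] (θ : IrrCharacter N) (χf : G → ℂ)
    (hχirr : IsIrrCharacter G χf) (hχN : ∀ x : N, χf x = (θ : N → ℂ) x)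
    (hχcong : ∀ g : G, MemLocalIdeal M (relOmega N χf g - (relIdx N g : ℂ))) :
    (⟨χf, hχirr⟩ : IrrCharacter G) ∈ principalBlock M G ∧
      ∀ J : Subgroup G, N ≤ J → ∃ ξ : IrrCharacter J, ξ ∈ principalBlock M J ∧
        ∀ y : J, (ξ : J → ℂ) y = χf y := by
  have hχres : IsIrrCharacter N (fun n : N => χf n) := by
    have h1 : (fun n : N => χf n) = (θ : N → ℂ) := funext hχN
    rw [h1]; exact θ.2
  refine ⟨sameBlock_of_relOmega hMp N χf hχcong, fun J hNJ => ?_⟩
  exact ⟨⟨fun y : J => χf y, isIrr_res_of_isIrr_res N J hNJ χf hχirr hχres⟩,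
    sameBlock_res_of_relOmega hMp N χf hχcong J hNJ, fun y => rfl⟩

/-- **S4937**, main form. -/
theorem main {G : Type u} [Group G] [Finite G] [Fact p.Prime] (hM : IsPModular p M)
    (N : Subgroup G) [hN : N.Normal] (P : Sylow p N)
    (hcov : N ⊔ Subgroup.centralizer (((P : Subgroup N).map N.subtype : Subgroup G) : Set G) = ⊤)
    (θ : IrrCharacter N) (hθ : θ ∈ principalBlock M N)
    (ψ : IrrCharacter G) (hext : ∀ x : N, (ψ : G → ℂ) x = (θ : N → ℂ) x) :
    ∃ χ : IrrCharacter G, χ ∈ principalBlock M G ∧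
      (∀ x : N, (χ : G → ℂ) x = (θ : N → ℂ) x) ∧
      ∀ J : Subgroup G, N ≤ J → ∃ ξ : IrrCharacter J, ξ ∈ principalBlock M J ∧
        ∀ y : J, (ξ : J → ℂ) y = (χ : G → ℂ) y := by
  obtain ⟨χf, hχirr, hχN, hχcong⟩ :=
    exists_good_ext hM N (exists_good_rep N P hcov) θ hθ ψ hext
  obtain ⟨h1, h2⟩ := good_ext_spec (isPrime_of_isPModular hM) N θ χf hχirr hχN hχcong
  exact ⟨⟨χf, hχirr⟩, h1, hχN, h2⟩

end Cfsg.Agent.Lib.Helper78_RCMain
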