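import Mathlib
import Cfsg.Prelude.Def_Blocks
import Cfsg.Prelude.Def_CharExt
import Cfsg.Agent.Lib.Helper81_CharOrth2
import Cfsg.Agent.Lib.Helper75_ExtendSolvable
import Cfsg.Agent.Lib.Helper75_GalConj
import Cfsg.Agent.Lib.Helper75_CanonExt

/-!
# S4892 package PR-INV (helper79, for architect helper78)

Uniqueness of a normalized extension gives its invariance under automorphisms stabilizing `N` and `θ`
and under power maps fixing `θ`.
-/

set_option autoImplicit false

namespace Cfsg.Agent.Lib.Helper79_PR_INV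

open Cfsg

universe u

variable {p : ℕ}

theorem invariance_of_unique {H : Type u} [Group H] [Finite H] [Fact p.Prime] (N : Subgroup H)
    (θ : N → ℂ) (C : (H → ℂ) → Prop)
    (hCα : ∀ (α : H ≃* H), (∀ h : H, α h ∈ N ↔ h ∈ N) → ∀ χ' : H → ℂ, C χ' →
      C (fun h => χ' (α h)))
    (hCk : ∀ k : ℕ, k.Coprime (Nat.card H) → ∀ χ' : H → ℂ, C χ' → C (fun h => χ' (h ^ k)))
    (χ : H → ℂ) (hχ : IsIrrCharacter H χ) (hres : ∀ n : N, χ n = θ n) (hC : C χ)
    (hd : ¬ p ∣ detOrder χ)
    (huniq : ∀ χ' : H → ℂ, IsIrrCharacter H χ' → (∀ n : N, χ' n = θ n) → C χ' →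
      ¬ p ∣ detOrder χ' → χ' = χ) :
    (∀ α : H ≃* H, (∀ h : H, α h ∈ N ↔ h ∈ N) →
      (∀ (n : N) (hn : α (n : H) ∈ N), θ ⟨α (n : H), hn⟩ = θ n) → ∀ h, χ (α h) = χ h) ∧
    (∀ k : ℕ, k.Coprime (Nat.card H) → (∀ n : N, χ ((n : H) ^ k) = χ n) →
      ∀ h, χ (h ^ k) = χ h) := by
  have : Fintype H := Fintype.ofFinite H
  have hχc : IsCharacter H χ := by
    obtain ⟨n, ρ, -, rfl⟩ := hχ
    exact ⟨n, ρ, rfl⟩
  refine ⟨?_, ?_⟩
  · intro α hα hθα h
    have hirr : IsIrrCharacter H (fun h => χ (α h)) :=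
      Cfsg.Agent.Lib.Helper81_CharOrth2.isIrrCharacter_comp_mulEquiv α hχ
    have hext : ∀ n : N, (fun h => χ (α h)) n = θ n := by
      intro n
      have hn : α (n : H) ∈ N := (hα n).2 n.2
      have := hres ⟨α (n : H), hn⟩
      simp only at this ⊢
      rw [this, hθα n hn]
    have hdet : detChar (fun h => χ (α h)) = fun h => detChar χ (α h) :=
      Cfsg.Agent.Lib.Helper75_ExtendSolvable.detChar_comp_hom α.toMonoidHom hχc
    have hord : detOrder (fun h => χ (α h)) ∣ detOrder χ := by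
      unfold detOrder
      rw [hdet]
      apply orderOf_dvd_of_pow_eq_one
      funext x
      have h1 : (detChar χ) ^ orderOf (detChar χ) = 1 := pow_orderOf_eq_one _
      have h2 := congrFun h1 (α x)
      simpa using h2
    have hnd : ¬ p ∣ detOrder (fun h => χ (α h)) := fun hp => hd (hp.trans hord)
    have := huniq _ hirr hext (hCα α hα χ hC) hnd
    exact congrFun this h
  · intro k hk hθk h
    have hirr : IsIrrCharacter H (fun h => χ (h ^ k)) :=
      Cfsg.Agent.Lib.Helper75_GalConj.isIrrCharacter_powMap hχ k hk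
    have hext : ∀ n : N, (fun h => χ (h ^ k)) n = θ n := by
      intro n
      simp only
      rw [hθk n, hres n]
    have hdet : detChar (fun h => χ (h ^ k)) = detChar χ ^ k :=
      Cfsg.Agent.Lib.Helper75_CanonExt.detChar_powMap hχ k hk
    have hord : detOrder (fun h => χ (h ^ k)) ∣ detOrder χ := by
      unfold detOrder
      rw [hdet]
      exact orderOf_pow_dvd k
    have hnd : ¬ p ∣ detOrder (fun h => χ (h ^ k)) := fun hp => hd (hp.trans hord)
    have := huniq _ hirr hext (hCk k hk χ hC) hnd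
    exact congrFun this h

end Cfsg.Agent.Lib.Helper79_PR_INV
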