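import Mathlib
import Cfsg.Prelude.Def_Blocks
import Cfsg.Prelude.Def_CharExt
import Cfsg.Agent.Lib.Helper78_RCDefs
import Cfsg.Agent.Lib.Helper78_PRDefs
import Cfsg.Agent.Lib.Helper78_LocalRing
import Cfsg.Agent.Lib.Helper78_CentralChar
import Cfsg.Agent.Lib.Helper75_Gallagher
import Cfsg.Agent.Lib.Helper75_DetChar
import Cfsg.Agent.Lib.Helper75_LinChar
import Cfsg.Agent.Lib.Helper82_RC_TEICH
import Cfsg.Agent.Lib.Helper64_AD_UNIQ

/-!
# S4892 package PR-NORM-U (helper79, for architect helper78)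

Uniqueness of the good extension with determinantal order prime to `p`.
-/

set_option autoImplicit false

namespace Cfsg.Agent.Lib.Helper79_PR_NORMU

open Cfsg Cfsg.Agent.Lib.Helper78_RCDefs Cfsg.Agent.Lib.Helper78_PRDefs
  Cfsg.Agent.Lib.Helper78_LocalRing Cfsg.Agent.Lib.Helper75_LinChar

universe u

variable {p : ℕ} {M : Ideal AlgInt}

theorem good_normalized_unique {H : Type u} [Group H] [Finite H] [Fact p.Prime]
    (hM : IsPModular p M) (N : Subgroup H) [hN : N.Normal] (hgr : HasGoodReps p N) (θ : N → ℂ)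
    (hθ : IsIrrCharacter N θ) (hdeg : ¬ p ∣ charDegree θ)
    (χ χ' : H → ℂ) (hχ : IsIrrCharacter H χ) (hχ' : IsIrrCharacter H χ')
    (hres : ∀ n : N, χ n = θ n) (hres' : ∀ n : N, χ' n = θ n)
    (hgood : IsGood M N χ) (hgood' : IsGood M N χ')
    (hd : ¬ p ∣ detOrder χ) (hd' : ¬ p ∣ detOrder χ') : χ' = χ := by
  classical
  have : Fintype H := Fintype.ofFinite H
  have hp : p.Prime := Fact.out
  have hMp := isPrime_of_isPModular hM
  have hχc : IsCharacter H χ := by
    obtain ⟨n, ρ, -, rfl⟩ := hχ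
    exact ⟨n, ρ, rfl⟩
  have hηN : IsIrrCharacter N (fun n : N => χ n) := by
    have : (fun n : N => χ n) = θ := funext hres
    rw [this]; exact hθ
  obtain ⟨β, hβ, hβN, hβχ⟩ := Cfsg.Agent.Lib.Helper75_Gallagher.exists_lin_of_extensions N hχ hχ'
    hηN (fun n => (hres' n).trans (hres n).symm)
  -- the degree
  have hθ1 := (Cfsg.Agent.Lib.Helper78_CentralChar.isIrrCharacter_one_eq_charDegree hθ).1
  set f := charDegree θ with hf
  have hχ1 : χ 1 = (f : ℂ) := by
    have := hres 1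
    simp only [OneMemClass.coe_one] at this
    rw [this, hθ1]
  have hfpos : 0 < f := (Cfsg.Agent.Lib.Helper78_CentralChar.isIrrCharacter_one_eq_charDegree hθ).2
  have hf0 : (f : ℂ) ≠ 0 := by exact_mod_cast hfpos.ne'
  -- |H| = p^b * e'
  have hcard0 : Nat.card H ≠ 0 := Nat.card_pos.ne'
  obtain ⟨b, e', he', hcard⟩ := Nat.exists_eq_pow_mul_and_not_dvd hcard0 p hp.ne_one
  -- β ^ (p^b) = 1
  have hβpow : β ^ (p ^ b) = 1 := by
    funext g
    rw [Pi.pow_apply, Pi.one_apply]
    obtain ⟨c, hcN, hr⟩ := hgr g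
    set r := relIdx N c with hrdef
    have hβc : β c = β g := by
      have h1 : c = g * (g⁻¹ * c) := by group
      rw [h1, hβ.map_mul, hβN ⟨g⁻¹ * c, hcN⟩, mul_one]
    have hβroot : β c ^ Nat.card H = 1 := hβ.pow_card_eq_one c
    have hβR : MemLocalRing M (β c) :=
      Cfsg.Agent.Lib.Helper82_RC_TEICH.root_memLocalRing hMp (β c) (Nat.card H) Nat.card_pos hβroot
    have h1 := hgood c
    have h2 := hgood' c
    rw [← hrdef] at h1 h2
    set Ω := relOmega N χ c with hΩ
    have hΩ' : relOmega N χ' c = β c * Ω := by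
      rw [hΩ]
      unfold relOmega
      rw [hβχ]
      simp only [Pi.mul_apply]
      rw [hβ.2, one_mul]
      ring
    rw [hΩ'] at h2
    have hrR : MemLocalRing M (r : ℂ) := memLocalRing_natCast hMp r
    have hΩR : MemLocalRing M Ω := by
      have := memLocalRing_add hMp (memLocalRing_of_memLocalIdeal h1) hrR
      simpa using this
    have h3 : MemLocalIdeal M ((r : ℂ) * (β c - 1)) := by
      have h4 : (r : ℂ) * (β c - 1) = (β c * Ω - (r : ℂ)) - β c * (Ω - (r : ℂ)) := by ring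
      rw [h4]
      exact memLocalIdeal_sub hMp h2 (memLocalIdeal_mul_left hMp hβR h1)
    have hr' : ¬ MemLocalIdeal M (r : ℂ) := fun h => hr ((memLocalIdeal_natCast_iff hM r).1 h)
    have hβ1R : MemLocalRing M (β c - 1) := memLocalRing_sub hMp hβR (memLocalRing_one hMp)
    have h5 : MemLocalIdeal M (β c - 1) :=
      (memLocalIdeal_unit_mul_iff hMp hrR hr' hβ1R).1 h3
    have h6 : MemLocalIdeal M ((β c) ^ (p ^ b) - 1) :=
      Cfsg.Agent.Lib.Helper82_RC_TEICH.pow_congr_one hMp (β c) h5 (p ^ b)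
    have h7 : ((β c) ^ (p ^ b)) ^ e' = 1 := by
      rw [← pow_mul, ← hcard]; exact hβroot
    have h8 := Cfsg.Agent.Lib.Helper64_AD_UNIQ.eq_one_of_memLocalIdeal hM ((β c) ^ (p ^ b)) e' he' h7 h6
    rw [← hβc]; exact h8
  -- determinants
  have hdet : detChar χ' = β ^ f * detChar χ := by
    rw [hβχ]
    exact Cfsg.Agent.Lib.Helper75_DetChar.detChar_linear_mul hβ.1 hβ.2 hχc f hχ1
  set a := detOrder χ with ha
  set a' := detOrder χ' with ha'
  have h1 : detChar χ ^ (a * a') = 1 := by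
    rw [pow_mul, ha]; unfold detOrder; rw [pow_orderOf_eq_one, one_pow]
  have h2 : detChar χ' ^ (a * a') = 1 := by
    rw [mul_comm, pow_mul, ha']; unfold detOrder; rw [pow_orderOf_eq_one, one_pow]
  have h3 : β ^ (f * (a * a')) = 1 := by
    have := congrArg (· ^ (a * a')) hdet
    simp only [mul_pow, h1, h2, mul_one, ← pow_mul] at this
    exact this.symm
  have h5 : orderOf β ∣ Nat.gcd (f * (a * a')) (p ^ b) :=
    Nat.dvd_gcd (orderOf_dvd_of_pow_eq_one h3) (orderOf_dvd_of_pow_eq_one hβpow)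
  have hcop : ∀ {x : ℕ}, ¬ p ∣ x → Nat.Coprime x (p ^ b) := by
    intro x hx
    exact Nat.Coprime.pow_right b ((Nat.Prime.coprime_iff_not_dvd hp).2 hx).symm
  have h6 : Nat.gcd (f * (a * a')) (p ^ b) = 1 :=
    Nat.Coprime.mul_left (hcop hdeg) (Nat.Coprime.mul_left (hcop hd) (hcop hd'))
  rw [h6, Nat.dvd_one, orderOf_eq_one_iff] at h5
  rw [hβχ, h5, one_mul]

end Cfsg.Agent.Lib.Helper79_PR_NORMU
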