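import Mathlib
import Cfsg.Prelude.Def_Blocks
import Cfsg.Prelude.Def_CharExt
import Cfsg.Agent.Lib.Helper78_RCDefs
import Cfsg.Agent.Lib.Helper78_PRDefs
import Cfsg.Agent.Lib.Helper78_ADDefs
import Cfsg.Agent.Lib.Helper78_LocalRing
import Cfsg.Agent.Lib.Helper78_RCMain
import Cfsg.Agent.Lib.Helper78_Transport
import Cfsg.Agent.Lib.Helper76_ResidualExt
import Cfsg.Agent.Lib.Helper78_PR_GRP
import Cfsg.Agent.Lib.Helper78_PR_A
import Cfsg.Agent.Lib.Helper43_PR_TORS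
import Cfsg.Agent.Lib.Helper43_PR_GOODINV
import Cfsg.Agent.Lib.Helper55_PR_DETK
import Cfsg.Agent.Lib.Helper55_PR_GAL
import Cfsg.Agent.Lib.Helper79_PR_INV
import Cfsg.Agent.Lib.Helper79_PR_NORMU
import Cfsg.Agent.Lib.Helper5_PR_NORME
import Cfsg.Agent.Lib.Helper5_PR_EXT

/-!
# S4892: assembly (architect helper78)

THEOREM (S4892). `p` odd, `N ⊴ G`, `θ ∈ B₀(N)` `G`-invariant, `p ∤ θ(1)`, `θ` with values in `ℚ(ζ_m)` (`p ∤ m`),
`Q ∈ Syl_p(N)`, `|G : N·C_G(Q)|` a power of `p`. Then `θ` extends to some `χ ∈ B₀(G)` with values in `ℚ(ζ_m)`.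

`H := N·C_G(Q) ⊴ G` (Frattini), `G/H` a `p`-group. On `H`: `θ` extends (Sylow preimages; Alperin–Dade S4551 for
`q ≠ p`, the canonical extension over a `p`-group quotient for `q = p`), so it has a good extension
(S4937: `Helper78_RCMain.exists_good_ext`); among the good extensions exactly one, `χ*`, has determinantal order
prime to `p`; by uniqueness `χ*` is invariant under `G` and under the Galois power maps, so it takes values in
`ℚ(ζ_m)`, and it lies in `B₀(H)`. The canonical extension of `χ*` over the `p`-group `G/H` again has values in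
`ℚ(ζ_m)` and lies in `B₀(G)` (the only block covering `B₀(H)`).
Packages: PR-TORS, PR-GOODINV (helper43), PR-GAL, PR-DETK (helper55), PR-INV, PR-NORMU (helper79), PR-NORME (helper5),
PR-EXT (helper5), PR-A, PR-GRP, PR-FRAT, PR-RCH (helper78).
-/

set_option autoImplicit false

namespace Cfsg.Agent.Lib.Helper78_PRMain

open Cfsg Cfsg.Agent.Lib.Helper78_RCDefs Cfsg.Agent.Lib.Helper78_PRDefs
  Cfsg.Agent.Lib.Helper78_ADDefs Cfsg.Agent.Lib.Helper78_LocalRing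
open Cfsg.Agent.Lib.Helper78_PR_GRP Cfsg.Agent.Lib.Helper78_PR_A Cfsg.Agent.Lib.Helper43_PR_TORS
  Cfsg.Agent.Lib.Helper43_PR_GOODINV Cfsg.Agent.Lib.Helper55_PR_DETK Cfsg.Agent.Lib.Helper55_PR_GAL
  Cfsg.Agent.Lib.Helper79_PR_INV Cfsg.Agent.Lib.Helper79_PR_NORMU Cfsg.Agent.Lib.Helper5_PR_NORME
  Cfsg.Agent.Lib.Helper5_PR_EXT

universe u

variable {p : ℕ} {M : Ideal AlgInt}

open Cfsg.Agent.Lib.Helper78_Transport

/-- **Theorem B** (typed): the canonical good extension. -/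
theorem exists_canonical_good_ext {H : Type u} [Group H] [Finite H] [Fact p.Prime]
    (hM : IsPModular p M) (N : Subgroup H) [hN : N.Normal] (hQ : RCHyp p H N)
    (K₀ : Subfield ℂ) (hK₀ : PTorsionFree p K₀)
    (θ : IrrCharacter N) (hθ : θ ∈ principalBlock M N)
    (hinv : ∀ (g : H) (n : N),
      (θ : N → ℂ) ⟨g * n * g⁻¹, hN.conj_mem (n : H) n.2 g⟩ = (θ : N → ℂ) n)
    (hdeg : ¬ p ∣ charDegree (θ : N → ℂ)) (hval : ∀ n : N, (θ : N → ℂ) n ∈ K₀) :
    ∃ χ : H → ℂ, IsIrrCharacter H χ ∧ (∀ n : N, χ n = (θ : N → ℂ) n) ∧ IsGood M N χ ∧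
      ¬ p ∣ detOrder χ ∧ (∀ h, χ h ∈ K₀) ∧
      ∀ α : H ≃* H, (∀ h : H, α h ∈ N ↔ h ∈ N) →
        (∀ (n : N) (hn : α (n : H) ∈ N), (θ : N → ℂ) ⟨α (n : H), hn⟩ = (θ : N → ℂ) n) →
        ∀ h, χ (α h) = χ h := by
  have hdet : ¬ p ∣ detOrder (θ : N → ℂ) := not_dvd_detOrder K₀ hK₀ (θ : N → ℂ) θ.2 hval
  have hgr : HasGoodReps p N := hasGoodReps_of_rcHyp N hQ
  obtain ⟨ψ, hψ, hψres⟩ := exists_ext hM N hQ θ hθ hinv hdeg hdet
  obtain ⟨χ₁, hχ₁, hres₁, hgood₁⟩ :=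
    Cfsg.Agent.Lib.Helper78_RCMain.exists_good_ext hM N hgr θ hθ ⟨ψ, hψ⟩ hψres
  obtain ⟨χ, hχ, hres, hgood, hd⟩ :=
    exists_good_normalized hM N (θ : N → ℂ) θ.2 hdeg hdet χ₁ hχ₁ hres₁ hgood₁
  have huniq : ∀ χ' : H → ℂ, IsIrrCharacter H χ' → (∀ n : N, χ' n = (θ : N → ℂ) n) →
      IsGood M N χ' → ¬ p ∣ detOrder χ' → χ' = χ := fun χ' hχ' hres' hgood' hd' =>
    good_normalized_unique hM N hgr (θ : N → ℂ) θ.2 hdeg χ χ' hχ hχ' hres hres' hgood hgood' hd hd'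
  obtain ⟨hα, hk⟩ := invariance_of_unique (p := p) N (θ : N → ℂ) (IsGood M N)
    (fun α hαN χ' hC => isGood_comp_mulEquiv N χ' hC α hαN)
    (fun k hk χ' hC => isGood_powMap N χ' hC k hk) χ hχ hres hgood hd huniq
  refine ⟨χ, hχ, hres, hgood, hd, ?_, hα⟩
  exact values_mem_of_powMap_fixed K₀ N χ hχ (fun n => by rw [hres n]; exact hval n) hk

/-- **Theorem A'** (typed): the canonical extension over a `p`-group quotient takes values in
`K₀`. -/
theorem exists_ext_pgroup_values {G : Type u} [Group G] [Finite G] [Fact p.Prime]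
    (N : Subgroup G) [hN : N.Normal] (hidx : ∃ a : ℕ, N.index = p ^ a) (K₀ : Subfield ℂ)
    (θ : N → ℂ) (hθ : IsIrrCharacter N θ)
    (hinv : ∀ (g : G) (n : N), θ ⟨g * n * g⁻¹, hN.conj_mem (n : G) n.2 g⟩ = θ n)
    (hdeg : ¬ p ∣ charDegree θ) (hdet : ¬ p ∣ detOrder θ) (hval : ∀ n : N, θ n ∈ K₀) :
    ∃ χ : G → ℂ, IsIrrCharacter G χ ∧ (∀ n : N, χ n = θ n) ∧ ∀ g, χ g ∈ K₀ := by
  obtain ⟨χ, hχ, hres, hd, huniq⟩ :=
    exists_unique_ext_of_pgroup_quot N hidx θ hθ hinv hdeg hdet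
  obtain ⟨-, hk⟩ := invariance_of_unique (p := p) N θ (fun _ => True)
    (fun _ _ _ _ => trivial) (fun _ _ _ _ => trivial) χ hχ hres trivial hd
    (fun χ' hχ' hres' _ hd' => huniq χ' hχ' hres' hd')
  exact ⟨χ, hχ, hres,
    values_mem_of_powMap_fixed K₀ N χ hχ (fun n => by rw [hres n]; exact hval n) hk⟩

/-- **S4892**, main form. -/
theorem main {G : Type u} [Group G] [Finite G] [Fact p.Prime] (hp : p ≠ 2)
    (hM : IsPModular p M) (N : Subgroup G) [hN : N.Normal] (θ : IrrCharacter N)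
    (hinv : ∀ g : G, ∀ n n' : N, (n' : G) = g * (n : G) * g⁻¹ →
      (θ : N → ℂ) n' = (θ : N → ℂ) n)
    (hdeg : ¬ p ∣ charDegree (θ : N → ℂ))
    (m : ℕ) (hm : ¬ p ∣ m)
    (hrat : ∀ n : N, (θ : N → ℂ) n ∈ IntermediateField.adjoin ℚ
      ({Complex.exp (2 * Real.pi * Complex.I / m)} : Set ℂ))
    (hB : θ ∈ principalBlock M N) (Q : Sylow p N)
    (hidx : ∃ a : ℕ, (N ⊔ Subgroup.centralizer
      (((Q : Subgroup N).map N.subtype : Subgroup G) : Set G)).index = p ^ a) :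
    ∃ χ : IrrCharacter G, χ ∈ principalBlock M G ∧
      (∀ g : G, (χ : G → ℂ) g ∈ IntermediateField.adjoin ℚ
        ({Complex.exp (2 * Real.pi * Complex.I / m)} : Set ℂ)) ∧
      ∀ n : N, (χ : G → ℂ) n = (θ : N → ℂ) n := by
  have hMp := isPrime_of_isPModular hM
  set H : Subgroup G := N ⊔ Subgroup.centralizer
    (((Q : Subgroup N).map N.subtype : Subgroup G) : Set G) with hH
  have hHn : H.Normal := normal_sup_centralizer N Q
  have hNH : N ≤ H := le_sup_left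
  set K₀ : Subfield ℂ := (IntermediateField.adjoin ℚ
    ({Complex.exp (2 * Real.pi * Complex.I / m)} : Set ℂ)).toSubfield with hK₀def
  have hK₀ : PTorsionFree p K₀ := pTorsionFree_adjoin hp m hm
  -- the typed data on `H`
  set N' : Subgroup H := N.subgroupOf H with hN'
  have hN'n : N'.Normal := Subgroup.normal_subgroupOf
  have hQ' : RCHyp p H N' := rcHyp_sup_centralizer N Q
  set e : N' ≃* N := Subgroup.subgroupOfEquivOfLe hNH with he
  set θ' : IrrCharacter N' := irrComp e θ with hθ'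
  have hθ'B : θ' ∈ principalBlock M N' := by
    have h1 : SameBlock M ((fun _ : N => (1 : ℂ)) ∘ e) ((θ : N → ℂ) ∘ e) :=
      sameBlock_comp_mulEquiv e hB
    exact h1
  have hθ'val : ∀ n : N', (θ' : N' → ℂ) n ∈ K₀ := fun n => hrat (e n)
  have hθ'deg : ¬ p ∣ charDegree (θ' : N' → ℂ) := by
    have h1 : (θ' : N' → ℂ) 1 = (θ : N → ℂ) 1 := by
      rw [hθ', irrComp_apply, map_one]
    unfold charDegree at hdeg ⊢
    rwa [h1]
  -- invariance of `θ'` under automorphisms induced by `G`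
  have hθ'G : ∀ (g : G) (n : N') (hn : (MulAut.conjNormal g : MulAut H) (n : H) ∈ N'),
      (θ' : N' → ℂ) ⟨(MulAut.conjNormal g : MulAut H) (n : H), hn⟩ = (θ' : N' → ℂ) n := by
    intro g n hn
    rw [hθ', irrComp_apply, irrComp_apply]
    apply hinv g
    rfl
  have hθ'inv : ∀ (h : H) (n : N'),
      (θ' : N' → ℂ) ⟨h * n * h⁻¹, hN'n.conj_mem (n : H) n.2 h⟩ = (θ' : N' → ℂ) n := by
    intro h n
    rw [hθ', irrComp_apply, irrComp_apply]
    apply hinv (h : G)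
    rfl
  obtain ⟨χs, hχs, hχsres, hχsgood, hχsd, hχsval, hχsα⟩ :=
    exists_canonical_good_ext hM N' hQ' K₀ hK₀ θ' hθ'B hθ'inv hθ'deg hθ'val
  -- `χs` lies in the principal block of `H` and is `G`-invariant
  have hχsB : (⟨χs, hχs⟩ : IrrCharacter H) ∈ principalBlock M H :=
    (Cfsg.Agent.Lib.Helper78_RCMain.good_ext_spec hMp N' θ' χs hχs hχsres hχsgood).1
  have hαN : ∀ (g : G) (h : H), (MulAut.conjNormal g : MulAut H) h ∈ N' ↔ h ∈ N' := by
    intro g h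
    rw [hN', Subgroup.mem_subgroupOf, Subgroup.mem_subgroupOf, MulAut.conjNormal_apply]
    constructor
    · intro h1
      have := hN.conj_mem _ h1 g⁻¹
      have h2 : g⁻¹ * (g * (h : G) * g⁻¹) * g⁻¹⁻¹ = (h : G) := by group
      rwa [h2] at this
    · intro h1
      exact hN.conj_mem _ h1 g
  have hχsinv : ∀ (g : G) (h : H),
      χs ⟨g * h * g⁻¹, hHn.conj_mem (h : G) h.2 g⟩ = χs h := by
    intro g h
    have h1 := hχsα (MulAut.conjNormal g : MulAut H) (hαN g) (hθ'G g) h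
    rw [← h1]
    congr 1
  have hχsdeg : ¬ p ∣ charDegree χs := by
    have h1 : χs 1 = (θ' : N' → ℂ) 1 := hχsres 1
    unfold charDegree at hθ'deg ⊢
    rwa [h1]
  -- the `p`-group step
  obtain ⟨χ, hχ, hχres, hχval⟩ :=
    exists_ext_pgroup_values H hidx K₀ χs hχs hχsinv hχsdeg hχsd hχsval
  obtain ⟨a, ha⟩ := hidx
  refine ⟨⟨χ, hχ⟩, ?_, hχval, ?_⟩
  · exact Cfsg.Agent.Lib.Helper76_ResidualExt.ext_mem_principalBlock hM H ha ⟨χs, hχs⟩ hχsB
      ⟨χ, hχ⟩ hχres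
  · intro n
    show χ (n : G) = _
    have h1 := hχres ⟨(n : G), hNH n.2⟩
    have h2 := hχsres ⟨⟨(n : G), hNH n.2⟩, n.2⟩
    rw [h1, h2, hθ', irrComp_apply]
    congr 1

end Cfsg.Agent.Lib.Helper78_PRMain
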