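import Mathlib
import Cfsg.Prelude.Def_Blocks
import Cfsg.Prelude.Def_BlockLocal
import Cfsg.Prelude.Def_BrauerPairs
import Cfsg.Prelude.Def_OddOrderLocal
import Cfsg.Agent.Lib.Helper32_Cores
import Cfsg.Agent.Lib.Helper78_LocalRing
import Cfsg.Agent.Lib.Helper78_Transport
import Cfsg.Agent.Lib.Helper78_TransportBlocks
import Cfsg.Agent.Lib.Helper78_NilpotentPrincipal
import Cfsg.Agent.Lib.Helper78_PrincipalFusion
import Cfsg.Agent.Lib.Helper78_PairConj
import Cfsg.Agent.Lib.Helper78_KerIdem
import Cfsg.Agent.Lib.Helper78_KerIdemPair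

/-!
# `π'`-cores of centralizers in the kernels of Brauer pairs (helper78)

For a set of primes `π` containing `p`, `KerP π b` says that `O_{π'}(X)` lies in the kernel of the
set `b` of irreducible characters of `X`, and `HallP π X` that `O_{π'}(X)` contains every
`π'`-element of `X`.  Along a normal inclusion of Brauer pairs `(Q, f) ⊴ (R, g)`:

* `kerP_step_down`: `KerP π g → KerP π f`;
* `kerP_step_up`: `HallP π C_G(Q) → KerP π f → HallP π C_G(R) ∧ KerP π g`,

and the same along chains (`kerP_of_subpairLE`, `kerP_up_of_subpairLE`).  Both properties are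
transported by isomorphisms, in particular by conjugation of pairs.
-/

set_option autoImplicit false
set_option linter.unusedSectionVars false

namespace Cfsg.Agent.Lib.Helper78_PiCoreKer

open Cfsg Cfsg.Agent.Lib.Helper78_LocalRing Cfsg.Agent.Lib.Helper78_Transport
  Cfsg.Agent.Lib.Helper78_TransportBlocks Cfsg.Agent.Lib.Helper78_NilpotentPrincipal
  Cfsg.Agent.Lib.Helper78_PrincipalFusion Cfsg.Agent.Lib.Helper78_PairConj
  Cfsg.Agent.Lib.Helper78_KerIdem Cfsg.Agent.Lib.Helper78_KerIdemPair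
  Cfsg.Agent.Lib.Helper32_Cores
open Cfsg.Agent.S4835 (irrKer mem_irrKer)

universe u

/-! ### The `π`-core under isomorphisms -/

theorem map_piCore_le {H X : Type*} [Group H] [Group X] (π : Set ℕ) (φ : H ≃* X) :
    (piCore π H).map (φ : H →* X) ≤ piCore π X := by
  rw [Subgroup.map_le_iff_le_comap]
  unfold piCore
  apply sSup_le
  rintro N ⟨hN, hNπ⟩
  rw [← Subgroup.map_le_iff_le_comap]
  apply le_sSup
  refine ⟨hN.map (φ : H →* X) φ.surjective, ?_⟩
  have hcard : Nat.card (N.map (φ : H →* X)) = Nat.card N :=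
    Subgroup.card_map_of_injective φ.injective
  rw [hcard]
  exact hNπ

theorem mem_piCore_equiv_iff {H X : Type*} [Group H] [Group X] (π : Set ℕ) (φ : H ≃* X) (x : H) :
    φ x ∈ piCore π X ↔ x ∈ piCore π H := by
  constructor
  · intro h
    have h1 := map_piCore_le π φ.symm (Subgroup.mem_map_of_mem (φ.symm : X →* H) h)
    simpa using h1
  · intro h
    exact map_piCore_le π φ (Subgroup.mem_map_of_mem (φ : H →* X) h)

/-! ### The two properties -/

/-- `O_{π'}(X)` lies in the kernel of `b`. -/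
def KerP (π : Set ℕ) {X : Type u} [Group X] (b : Set (IrrCharacter X)) : Prop :=
  ∀ x : X, x ∈ piCore {q | q ∉ π} X → x ∈ blockKer b

/-- `O_{π'}(X)` contains every `π'`-element of `X`. -/
def HallP (π : Set ℕ) (X : Type u) [Group X] : Prop :=
  ∀ x : X, (∀ q : ℕ, q.Prime → q ∣ orderOf x → q ∉ π) → x ∈ piCore {q | q ∉ π} X

theorem kerP_mapBlock_iff (π : Set ℕ) {H X : Type u} [Group H] [Group X] (φ : H ≃* X)
    (b : Set (IrrCharacter X)) : KerP π (mapBlock φ b) ↔ KerP π b := by
  constructor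
  · intro h x hx χ hχ
    have h1 := h (φ.symm x) ((mem_piCore_equiv_iff _ φ.symm x).mpr hx) (irrComp φ χ)
      (irrComp_mem_mapBlock φ hχ)
    rw [irrComp_apply, irrComp_apply, map_one, MulEquiv.apply_symm_apply] at h1
    exact h1
  · intro h y hy ξ hξ
    obtain ⟨χ, hχ, rfl⟩ := hξ
    rw [irrComp_apply, irrComp_apply, map_one]
    exact h (φ y) ((mem_piCore_equiv_iff _ φ y).mpr hy) χ hχ

theorem hallP_equiv (π : Set ℕ) {H X : Type u} [Group H] [Group X] (φ : H ≃* X)
    (h : HallP π X) : HallP π H := by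
  intro y hy
  rw [← mem_piCore_equiv_iff _ φ y]
  apply h
  intro q hq hd
  rw [MulEquiv.orderOf_eq] at hd
  exact hy q hq hd

theorem hallP_equiv_iff (π : Set ℕ) {H X : Type u} [Group H] [Group X] (φ : H ≃* X) :
    HallP π H ↔ HallP π X :=
  ⟨hallP_equiv π φ.symm, hallP_equiv π φ⟩

/-- Elements of `O_{π'}(X)` are `π'`-elements. -/
theorem orderOf_of_mem_piCore (π : Set ℕ) {X : Type u} [Group X] [Finite X] {x : X}
    (hx : x ∈ piCore {q | q ∉ π} X) : ∀ q : ℕ, q.Prime → q ∣ orderOf x → q ∉ π := by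
  intro q hq hd
  have h1 : orderOf x ∣ Nat.card (piCore {q | q ∉ π} X) := by
    have := orderOf_dvd_natCard (⟨x, hx⟩ : piCore {q | q ∉ π} X)
    rwa [Subgroup.orderOf_mk] at this
  exact card_piCore {q | q ∉ π} q hq (dvd_trans hd h1)

theorem not_dvd_card_piCore {π : Set ℕ} {p : ℕ} (hp : p.Prime) (hpπ : p ∈ π) (X : Type u)
    [Group X] [Finite X] : ¬ p ∣ Nat.card (piCore {q | q ∉ π} X) :=
  fun h => card_piCore {q | q ∉ π} p hp h hpπ

/-! ### The `π'`-core of a subgroup, as a subgroup of the group -/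

section Sub

variable {G : Type u} [Group G]

/-- `O_{π'}(K)` as a subgroup of `G`. -/
def coreIn (π : Set ℕ) (K : Subgroup G) : Subgroup G :=
  (piCore {q | q ∉ π} K).map K.subtype

theorem coreIn_le (π : Set ℕ) (K : Subgroup G) : coreIn π K ≤ K := by
  rintro _ ⟨x, _, rfl⟩
  exact x.2

theorem coe_mem_coreIn_iff (π : Set ℕ) (K : Subgroup G) (c : K) :
    (c : G) ∈ coreIn π K ↔ c ∈ piCore {q | q ∉ π} K := by
  constructor
  · rintro ⟨x, hx, hxc⟩
    have : x = c := Subtype.ext hxc
    rwa [← this]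
  · intro h
    exact ⟨c, h, rfl⟩

theorem card_coreIn (π : Set ℕ) (K : Subgroup G) :
    Nat.card (coreIn π K) = Nat.card (piCore {q | q ∉ π} K) :=
  Subgroup.card_map_of_injective K.subtype_injective

/-- `O_{π'}(K)` is normalized by the normalizer of `K`. -/
theorem conj_mem_coreIn (π : Set ℕ) (K : Subgroup G) {y : G}
    (hy : y ∈ Subgroup.normalizer (K : Set G)) {l : G} (hl : l ∈ coreIn π K) :
    y * l * y⁻¹ ∈ coreIn π K := by
  obtain ⟨x, hx, rfl⟩ := hl
  have hy' : y⁻¹ ∈ Subgroup.normalizer (K : Set G) := inv_mem hy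
  have h1 := (mem_piCore_equiv_iff {q | q ∉ π} (conjEquiv K y⁻¹ hy') x).mpr hx
  refine ⟨conjEquiv K y⁻¹ hy' x, h1, ?_⟩
  show ((conjEquiv K y⁻¹ hy' x : K) : G) = y * (x : G) * y⁻¹
  rw [conjEquiv_apply, inv_inv]

/-- A normal `π'`-subgroup of `C ≤ K` cut out by `O_{π'}(K)` lies in `O_{π'}(C)`. -/
theorem mem_piCore_of_mem_coreIn [Finite G] (π : Set ℕ) {C K : Subgroup G} (hCK : C ≤ K) (c : C)
    (hc : (c : G) ∈ coreIn π K) : c ∈ piCore {q | q ∉ π} C := by
  have hn : ((coreIn π K).subgroupOf C).Normal :=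
    subgroupOf_normal_of_conj _ _ (fun y hy l hl =>
      conj_mem_coreIn π K (Subgroup.le_normalizer (hCK hy)) hl)
  have hle : (coreIn π K).subgroupOf C ≤ piCore {q | q ∉ π} C := by
    apply le_piCore hn
    intro q hq hd
    have h1 := dvd_trans hd (card_subgroupOf_dvd (coreIn π K) C)
    rw [card_coreIn] at h1
    exact card_piCore {q | q ∉ π} q hq h1
  exact hle (Subgroup.mem_subgroupOf.mpr hc)

end Sub

/-! ### Steps along a normal inclusion -/

section Steps

variable {G : Type u} [Group G] [Finite G] {M : Ideal AlgInt} {p : ℕ}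

theorem normalSubpair_core_iff (hM : IsPModular p M) {π : Set ℕ} (hpπ : p ∈ π)
    {Q R : Subgroup G}
    {f : Set (IrrCharacter (Subgroup.centralizer (Q : Set G)))}
    {g : Set (IrrCharacter (Subgroup.centralizer (R : Set G)))}
    (h : IsNormalSubpair p M Q f R g) :
    KerP π f ↔
      (∀ ξ ∈ g, ∀ c : Subgroup.centralizer (R : Set G),
        (c : G) ∈ coreIn π (Subgroup.centralizer (Q : Set G)) →
          (ξ : Subgroup.centralizer (R : Set G) → ℂ) c =
            (ξ : Subgroup.centralizer (R : Set G) → ℂ) 1) := by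
  classical
  have := Fintype.ofFinite G
  have hRN := h.2.2.2.1
  have hLp : ¬ p ∣ Nat.card (coreIn π (Subgroup.centralizer (Q : Set G))) := by
    rw [card_coreIn]
    exact not_dvd_card_piCore hM.1 hpπ _
  have key := normalSubpair_ker_iff hM h (coreIn π (Subgroup.centralizer (Q : Set G)))
    (coreIn_le π _)
    (fun y hy l hl => conj_mem_coreIn π _ (Subgroup.le_normalizer hy) hl)
    (fun y hy l hl => conj_mem_coreIn π _
      (normalizer_le_normalizer_centralizer Q (hRN hy)) hl) hLp
  rw [← key]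
  constructor
  · intro hk ψ hψ c hc
    exact hk c ((coe_mem_coreIn_iff π _ c).mp hc) ψ hψ
  · intro hk x hx ψ hψ
    exact hk ψ hψ x ((coe_mem_coreIn_iff π _ x).mpr hx)

/-- Going down a normal inclusion of Brauer pairs. -/
theorem kerP_step_down (hM : IsPModular p M) {π : Set ℕ} (hpπ : p ∈ π) {Q R : Subgroup G}
    {f : Set (IrrCharacter (Subgroup.centralizer (Q : Set G)))}
    {g : Set (IrrCharacter (Subgroup.centralizer (R : Set G)))}
    (h : IsNormalSubpair p M Q f R g) (hg : KerP π g) : KerP π f := by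
  rw [normalSubpair_core_iff hM hpπ h]
  intro ξ hξ c hc
  have hCK : Subgroup.centralizer (R : Set G) ≤ Subgroup.centralizer (Q : Set G) :=
    Subgroup.centralizer_le h.2.2.1
  exact hg c (mem_piCore_of_mem_coreIn π hCK c hc) ξ hξ

/-- Going up a normal inclusion of Brauer pairs, under the Hall condition. -/
theorem kerP_step_up (hM : IsPModular p M) {π : Set ℕ} (hpπ : p ∈ π) {Q R : Subgroup G}
    {f : Set (IrrCharacter (Subgroup.centralizer (Q : Set G)))}
    {g : Set (IrrCharacter (Subgroup.centralizer (R : Set G)))}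
    (h : IsNormalSubpair p M Q f R g)
    (hH : HallP π (Subgroup.centralizer (Q : Set G))) (hf : KerP π f) :
    HallP π (Subgroup.centralizer (R : Set G)) ∧ KerP π g := by
  have hCK : Subgroup.centralizer (R : Set G) ≤ Subgroup.centralizer (Q : Set G) :=
    Subgroup.centralizer_le h.2.2.1
  have hkey := (normalSubpair_core_iff hM hpπ h).mp hf
  -- `π'`-elements of `C_G(R)` lie in the core of `C_G(Q)`
  have hmem : ∀ x : Subgroup.centralizer (R : Set G),
      (∀ q : ℕ, q.Prime → q ∣ orderOf x → q ∉ π) →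
      (x : G) ∈ coreIn π (Subgroup.centralizer (Q : Set G)) := by
    intro x hx
    have h1 : (⟨(x : G), hCK x.2⟩ : Subgroup.centralizer (Q : Set G)) ∈
        piCore {q | q ∉ π} (Subgroup.centralizer (Q : Set G)) := by
      apply hH
      intro q hq hd
      apply hx q hq
      rw [← Subgroup.orderOf_coe] at hd ⊢
      exact hd
    exact (coe_mem_coreIn_iff π _ ⟨(x : G), hCK x.2⟩).mpr h1
  refine ⟨fun x hx => mem_piCore_of_mem_coreIn π hCK x (hmem x hx), ?_⟩
  intro x hx ξ hξ
  exact hkey ξ hξ x (hmem x (orderOf_of_mem_piCore π hx))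

/-- `KerP` for the second component of an index pair. -/
def KerPI (π : Set ℕ) (a : BrauerPairIdx G) : Prop :=
  KerP π (X := Subgroup.centralizer (a.1 : Set G)) a.2

/-- `HallP` for the centralizer of the first component of an index pair. -/
def HallPI (π : Set ℕ) (a : BrauerPairIdx G) : Prop :=
  HallP π (Subgroup.centralizer (a.1 : Set G))

theorem kerPI_of_chain (hM : IsPModular p M) {π : Set ℕ} (hpπ : p ∈ π) {a b : BrauerPairIdx G}
    (h : Relation.ReflTransGen (NormalSubpairRel p M) a b) (hb : KerPI π b) : KerPI π a := by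
  induction h with
  | refl => exact hb
  | tail _ hbc ih => exact ih (kerP_step_down hM hpπ hbc hb)

theorem kerPI_up_of_chain (hM : IsPModular p M) {π : Set ℕ} (hpπ : p ∈ π) {a b : BrauerPairIdx G}
    (h : Relation.ReflTransGen (NormalSubpairRel p M) a b) (ha : HallPI π a ∧ KerPI π a) :
    HallPI π b ∧ KerPI π b := by
  induction h with
  | refl => exact ha
  | tail _ hbc ih => exact kerP_step_up hM hpπ hbc ih.1 ih.2

/-- Going down an inclusion of Brauer pairs. -/
theorem kerP_of_subpairLE (hM : IsPModular p M) {π : Set ℕ} (hpπ : p ∈ π) {Q P : Subgroup G}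
    {f : Set (IrrCharacter (Subgroup.centralizer (Q : Set G)))}
    {e : Set (IrrCharacter (Subgroup.centralizer (P : Set G)))}
    (h : SubpairLE p M Q f P e) (he : KerP π e) : KerP π f :=
  kerPI_of_chain hM hpπ (a := ⟨Q, f⟩) (b := ⟨P, e⟩) h he

/-- Going up an inclusion of Brauer pairs, under the Hall condition. -/
theorem kerP_up_of_subpairLE (hM : IsPModular p M) {π : Set ℕ} (hpπ : p ∈ π) {Q P : Subgroup G}
    {f : Set (IrrCharacter (Subgroup.centralizer (Q : Set G)))}
    {e : Set (IrrCharacter (Subgroup.centralizer (P : Set G)))}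
    (h : SubpairLE p M Q f P e)
    (hH : HallP π (Subgroup.centralizer (Q : Set G))) (hf : KerP π f) :
    HallP π (Subgroup.centralizer (P : Set G)) ∧ KerP π e :=
  kerPI_up_of_chain hM hpπ (a := ⟨Q, f⟩) (b := ⟨P, e⟩) h ⟨hH, hf⟩

/-- Conjugation of pairs preserves `KerP`. -/
theorem kerP_conjBlock_iff (π : Set ℕ) (Q : Subgroup G) (x : G)
    (f : Set (IrrCharacter (Subgroup.centralizer (Q : Set G)))) :
    KerP π (conjBlock Q x f) ↔ KerP π f := by
  rw [conjBlock_eq_mapBlock]
  exact kerP_mapBlock_iff π (centConjEquiv Q x) f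

theorem hallP_conj_iff (π : Set ℕ) (Q : Subgroup G) (x : G) :
    HallP π (Subgroup.centralizer ((Q.map (MulAut.conj x).toMonoidHom : Subgroup G) : Set G)) ↔
      HallP π (Subgroup.centralizer (Q : Set G)) :=
  hallP_equiv_iff π (centConjEquiv Q x)

end Steps

end Cfsg.Agent.Lib.Helper78_PiCoreKer
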