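import Mathlib
import Cfsg.Prelude.Def_Blocks
import Cfsg.Prelude.Def_BlockLocal
import Cfsg.Prelude.Def_BrauerPairs
import Cfsg.Agent.Lib.Helper78_AbelianNilpotent
import Cfsg.Agent.Lib.Helper78_InducedTrans

set_option autoImplicit false

namespace Cfsg.Agent.Lib.Helper97_InducedPair

open Cfsg Cfsg.Agent.Lib.Helper78_LocalRing Cfsg.Agent.Lib.Helper78_CentralChar
  Cfsg.Agent.Lib.Helper78_Osima Cfsg.Agent.Lib.Helper78_CharFacts
  Cfsg.Agent.Lib.Helper78_ExtConv
  Cfsg.Agent.Lib.Helper78_BrauerPairs Cfsg.Agent.Lib.Helper78_Transport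
  Cfsg.Agent.Lib.Helper78_TransportBlocks
  Cfsg.Agent.Lib.Helper78_InducedTrans
  Cfsg.Agent.Lib.Helper78_SubpairUnique
  Cfsg.Agent.Lib.Helper78_FirstMainGT
  Cfsg.Agent.Lib.Helper78_MaxPair

universe u

variable {G : Type u} [Group G] {M : Ideal AlgInt} {p : ℕ}

/-- A block `c` of `C_G(P)` inducing `B` gives a Brauer pair `(P, c)` of `B`. -/
theorem isBrauerPairOf_of_isInducedBlock [Fintype G] [Fact p.Prime] (hM : IsPModular p M)
    {B : Set (IrrCharacter G)} {P : Subgroup G} (hP : IsPGroup p P)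
    {c : Set (IrrCharacter (Subgroup.centralizer (P : Set G)))}
    (hc : IsInducedBlock M (Subgroup.centralizer (P : Set G)) c B) :
    IsBrauerPairOf p M B P c := by
  classical
  have := Fintype.ofFinite (Subgroup.centralizer (P : Set G))
  have hMp := isPrime_of_isPModular hM
  have hcb := hc.1
  have hB := hc.2.1
  obtain ⟨ξ, hξ⟩ := isPBlock_nonempty hMp hcb
  obtain ⟨χ, hχ⟩ := isPBlock_nonempty hMp hB
  obtain ⟨χ', hχ'⟩ := exists_irr_brauerOmega hM P hP ξ
  rw [isBrauerPairOf_iff_mem hM P hP hcb hB hξ hχ']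
  refine isPBlock_mem_of_sameBlock hMp hB hχ ?_
  intro g
  have h1 := hχ' (classIndicator g) (classIndicator_isClassFunction g)
    (memLocalRing_classIndicator hMp g)
  have h2 := (isInducedBlock_iff_omega hMp _ hcb hB).mp hc ξ hξ χ hχ (classIndicator g)
    (classIndicator_isClassFunction g) (memLocalRing_classIndicator hMp g)
  rw [brauerOmega_eq_omega] at h1
  rw [omega_classIndicator (isIrrCharacter_isClassFunction χ'.2)] at h1
  rw [omega_classIndicator (isIrrCharacter_isClassFunction χ.2)] at h2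
  have h3 := memLocalIdeal_sub hMp h1 h2
  have h4 : omega (ξ : Subgroup.centralizer (P : Set G) → ℂ)
      (res (Subgroup.centralizer (P : Set G)) (classIndicator g)) -
      centralChar (χ' : G → ℂ) g - (omega (ξ : Subgroup.centralizer (P : Set G) → ℂ)
      (fun h : Subgroup.centralizer (P : Set G) => classIndicator g (h : G)) -
      centralChar (χ : G → ℂ) g) = centralChar (χ : G → ℂ) g - centralChar (χ' : G → ℂ) g := by
    show omega _ (fun h : Subgroup.centralizer (P : Set G) => classIndicator g (h : G)) - _ - _ = _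
    ring
  rwa [h4] at h3

/-- If moreover `P` is a defect group of `B`, the pair is maximal. -/
theorem isMaximalBrauerPair_of_isInducedBlock [Fintype G] [Fact p.Prime] (hM : IsPModular p M)
    {B : Set (IrrCharacter G)} {P : Subgroup G} (hPD : IsDefectGroup p M B P)
    {c : Set (IrrCharacter (Subgroup.centralizer (P : Set G)))}
    (hc : IsInducedBlock M (Subgroup.centralizer (P : Set G)) c B) :
    IsMaximalBrauerPair p M B P c := by
  have hP : IsPGroup p P := isDefectGroup_isPGroup hPD
  have hB := hc.2.1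
  refine ⟨isBrauerPairOf_of_isInducedBlock hM hP hc, fun R g hRg hle => ?_⟩
  have hPR : P ≤ R := le_of_chain hle
  obtain ⟨E, hE, hRE⟩ := exists_isDefectGroup_ge_of_pair hM hRg
  have hcard := isDefectGroup_card_eq hM hB hE hPD
  symm
  apply Subgroup.eq_of_le_of_card_ge hPR
  rw [hcard]
  exact Subgroup.card_le_of_le hRE

theorem mem_centralizer_subgroupOf_iff {P H : Subgroup G} (hPH : P ≤ H) (h : H) :
    h ∈ Subgroup.centralizer ((P.subgroupOf H : Subgroup H) : Set H) ↔
      (h : G) ∈ Subgroup.centralizer (P : Set G) := by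
  rw [Subgroup.mem_centralizer_iff, Subgroup.mem_centralizer_iff]
  constructor
  · intro hh q hq
    have := hh ⟨q, hPH hq⟩ (Subgroup.mem_subgroupOf.mpr hq)
    exact congrArg Subtype.val this
  · intro hh q hq
    apply Subtype.ext
    exact hh (q : G) (Subgroup.mem_subgroupOf.mp hq)

/-- `C_H(P) ≃* C_G(P)` for `P ≤ H` and `C_G(P) ≤ H`. -/
noncomputable def centSubIso {P H : Subgroup G} (hPH : P ≤ H)
    (hKH : Subgroup.centralizer (P : Set G) ≤ H) :
    Subgroup.centralizer ((P.subgroupOf H : Subgroup H) : Set H) ≃*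
      Subgroup.centralizer (P : Set G) where
  toFun k := ⟨((k : H) : G), (mem_centralizer_subgroupOf_iff hPH (k : H)).mp k.2⟩
  invFun c := ⟨⟨(c : G), hKH c.2⟩, (mem_centralizer_subgroupOf_iff hPH _).mpr c.2⟩
  left_inv k := rfl
  right_inv c := rfl
  map_mul' a b := rfl

theorem centSubIso_coe {P H : Subgroup G} (hPH : P ≤ H)
    (hKH : Subgroup.centralizer (P : Set G) ≤ H)
    (k : Subgroup.centralizer ((P.subgroupOf H : Subgroup H) : Set H)) :
    ((centSubIso hPH hKH k : Subgroup.centralizer (P : Set G)) : G) = ((k : H) : G) := rfl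

/-- The induced central character computed inside `H`, read in the group `H`. -/
theorem inducedCentralChar_centSubIso {P H : Subgroup G} (hPH : P ≤ H)
    (hKH : Subgroup.centralizer (P : Set G) ≤ H)
    (ξ : Subgroup.centralizer (P : Set G) → ℂ) (h : H) :
    inducedCentralChar (Subgroup.centralizer ((P.subgroupOf H : Subgroup H) : Set H))
      (ξ ∘ centSubIso hPH hKH) h =
    inducedCentralCharIn H (Subgroup.centralizer (P : Set G)) ξ (h : G) := by
  unfold inducedCentralChar inducedCentralCharIn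
  refine finsum_mem_eq_of_bijOn (centSubIso hPH hKH) ⟨?_, ?_, ?_⟩ ?_
  · intro k hk
    obtain ⟨x, hx⟩ := isConj_iff.mp hk
    refine ⟨x⁻¹, ?_⟩
    rw [centSubIso_coe, ← hx]
    push_cast
    group
  · intro a _ b _ hab
    exact (centSubIso hPH hKH).injective hab
  · rintro k ⟨x, hx⟩
    refine ⟨(centSubIso hPH hKH).symm k, ?_, (centSubIso hPH hKH).apply_symm_apply k⟩
    show IsConj h _
    rw [isConj_iff]
    refine ⟨x⁻¹, ?_⟩
    apply Subtype.ext
    have h1 : ((((centSubIso hPH hKH).symm k :
        Subgroup.centralizer ((P.subgroupOf H : Subgroup H) : Set H)) : H) : G) = (k : G) := by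
      rw [← centSubIso_coe hPH hKH, MulEquiv.apply_symm_apply]
    push_cast
    rw [h1, ← hx]
    group
  · intro k _
    simp only [Function.comp_apply, map_one]

theorem isInducedBlockIn_iff {P H : Subgroup G} (hPH : P ≤ H)
    (hKH : Subgroup.centralizer (P : Set G) ≤ H)
    (c : Set (IrrCharacter (Subgroup.centralizer (P : Set G)))) (f : Set (IrrCharacter H)) :
    IsInducedBlockIn M H (Subgroup.centralizer (P : Set G)) c f ↔
      IsInducedBlock M (Subgroup.centralizer ((P.subgroupOf H : Subgroup H) : Set H))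
        (mapBlock (centSubIso hPH hKH) c) f := by
  constructor
  · rintro ⟨hc, hf, h⟩
    refine ⟨isPBlock_mapBlock _ hc, hf, ?_⟩
    rintro _ ⟨ξ, hξ, rfl⟩ χ hχ x
    have h1 : (irrComp (centSubIso hPH hKH) ξ :
        Subgroup.centralizer ((P.subgroupOf H : Subgroup H) : Set H) → ℂ) =
        (ξ : Subgroup.centralizer (P : Set G) → ℂ) ∘ centSubIso hPH hKH := rfl
    rw [h1, inducedCentralChar_centSubIso]
    exact h ξ hξ χ hχ x
  · rintro ⟨hc, hf, h⟩
    have hc' : IsPBlock M c := by
      have := isPBlock_mapBlock (centSubIso hPH hKH).symm hc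
      rwa [mapBlock_symm_mapBlock] at this
    refine ⟨hc', hf, fun ξ hξ χ hχ x => ?_⟩
    have h2 := h _ (irrComp_mem_mapBlock (centSubIso hPH hKH) hξ) χ hχ x
    have h1 : (irrComp (centSubIso hPH hKH) ξ :
        Subgroup.centralizer ((P.subgroupOf H : Subgroup H) : Set H) → ℂ) =
        (ξ : Subgroup.centralizer (P : Set G) → ℂ) ∘ centSubIso hPH hKH := rfl
    rw [h1, inducedCentralChar_centSubIso] at h2
    exact h2


theorem isConjCharOf_centSubIso {P H : Subgroup G} (hPH : P ≤ H)
    (hKH : Subgroup.centralizer (P : Set G) ≤ H) (x : H)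
    (χ χ₂ : Subgroup.centralizer (P : Set G) → ℂ) :
    IsConjCharOf (Subgroup.centralizer ((P.subgroupOf H : Subgroup H) : Set H)) x
      (χ ∘ centSubIso hPH hKH) (χ₂ ∘ centSubIso hPH hKH) ↔
    IsConjCharOf (Subgroup.centralizer (P : Set G)) (x : G) χ χ₂ := by
  unfold IsConjCharOf
  constructor
  · intro h k k' hk
    have h1 := h ((centSubIso hPH hKH).symm k) ((centSubIso hPH hKH).symm k') (by
      apply Subtype.ext
      have e1 : ∀ z : Subgroup.centralizer (P : Set G), ((((centSubIso hPH hKH).symm z :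
          Subgroup.centralizer ((P.subgroupOf H : Subgroup H) : Set H)) : H) : G) = (z : G) := by
        intro z
        rw [← centSubIso_coe hPH hKH, MulEquiv.apply_symm_apply]
      push_cast
      rw [e1, e1, hk])
    simpa only [Function.comp_apply, MulEquiv.apply_symm_apply] using h1
  · intro h k k' hk
    have h1 := h (centSubIso hPH hKH k) (centSubIso hPH hKH k') (by
      rw [centSubIso_coe, centSubIso_coe, hk]
      push_cast
      rfl)
    exact h1

theorem mem_normalizer_subgroupOf_iff {P H : Subgroup G} (hPH : P ≤ H) (x : H) :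
    x ∈ Subgroup.normalizer ((P.subgroupOf H : Subgroup H) : Set H) ↔
      (x : G) ∈ Subgroup.normalizer (P : Set G) := by
  rw [Subgroup.mem_set_normalizer_iff, Subgroup.mem_set_normalizer_iff]
  constructor
  · intro h n
    constructor
    · intro hn
      have := (h ⟨n, hPH hn⟩).mp (Subgroup.mem_subgroupOf.mpr hn)
      exact Subgroup.mem_subgroupOf.mp this
    · intro hn
      have hnH : n ∈ H := by
        have h1 : n = (x : G)⁻¹ * ((x : G) * n * (x : G)⁻¹) * (x : G) := by group
        rw [h1]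
        exact H.mul_mem (H.mul_mem (H.inv_mem x.2) (hPH hn)) x.2
      have := (h ⟨n, hnH⟩).mpr (Subgroup.mem_subgroupOf.mpr hn)
      exact Subgroup.mem_subgroupOf.mp this
  · intro h n
    have := h (n : G)
    constructor
    · intro hn
      exact Subgroup.mem_subgroupOf.mpr (this.mp (Subgroup.mem_subgroupOf.mp hn))
    · intro hn
      exact Subgroup.mem_subgroupOf.mpr (this.mpr (Subgroup.mem_subgroupOf.mp hn))

theorem stabilizesBlock_centSubIso {P H : Subgroup G} (hPH : P ≤ H)
    (hKH : Subgroup.centralizer (P : Set G) ≤ H) (x : H)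
    (hx : (x : G) ∈ Subgroup.normalizer (P : Set G))
    (c : Set (IrrCharacter (Subgroup.centralizer (P : Set G)))) :
    StabilizesBlock (Subgroup.centralizer ((P.subgroupOf H : Subgroup H) : Set H))
      (mapBlock (centSubIso hPH hKH) c) x ↔
    StabilizesBlock (Subgroup.centralizer (P : Set G)) c (x : G) := by
  constructor
  · intro h
    refine ⟨normalizer_le P hx, fun χ hχ => ?_⟩
    obtain ⟨_, ⟨χ₂, hχ₂, rfl⟩, hconj⟩ := h.2 _ (irrComp_mem_mapBlock (centSubIso hPH hKH) hχ)
    exact ⟨χ₂, hχ₂, (isConjCharOf_centSubIso hPH hKH x _ _).mp hconj⟩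
  · intro h
    refine ⟨normalizer_le _ ((mem_normalizer_subgroupOf_iff hPH x).mpr hx), ?_⟩
    rintro _ ⟨χ, hχ, rfl⟩
    obtain ⟨χ₂, hχ₂, hconj⟩ := h.2 χ hχ
    exact ⟨_, irrComp_mem_mapBlock (centSubIso hPH hKH) hχ₂,
      (isConjCharOf_centSubIso hPH hKH x _ _).mpr hconj⟩


section Main

variable [Fintype G] [Fact p.Prime]

/-- For an abelian defect group `P` of `B = c^G` and `Q ≤ P`, the block `f = c^{C_G(Q)}` has
defect group `P` and induces `B`. -/
theorem isDefectGroup_of_isInducedBlockIn (hM : IsPModular p M) {B : Set (IrrCharacter G)}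
    {P Q : Subgroup G} (hPD : IsDefectGroup p M B P)
    (hab : ∀ x ∈ P, ∀ y ∈ P, x * y = y * x) (hQP : Q ≤ P)
    {c : Set (IrrCharacter (Subgroup.centralizer (P : Set G)))}
    (hc : IsInducedBlock M (Subgroup.centralizer (P : Set G)) c B)
    {f : Set (IrrCharacter (Subgroup.centralizer (Q : Set G)))}
    (hf : IsInducedBlockIn M (Subgroup.centralizer (Q : Set G))
      (Subgroup.centralizer (P : Set G)) c f) :
    IsDefectGroup p M f (P.subgroupOf (Subgroup.centralizer (Q : Set G))) ∧
      IsInducedBlock M (Subgroup.centralizer (Q : Set G)) f B := by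
  classical
  have hMp := isPrime_of_isPModular hM
  have hB := hc.2.1
  have hPH : P ≤ Subgroup.centralizer (Q : Set G) :=
    Cfsg.Agent.Lib.Helper78_AbelianDefect.le_centralizer_of_abelian hab hQP
  have hKH : Subgroup.centralizer (P : Set G) ≤ Subgroup.centralizer (Q : Set G) :=
    Subgroup.centralizer_le hQP
  have hPK : P ≤ Subgroup.centralizer (P : Set G) :=
    Cfsg.Agent.Lib.Helper78_AbelianDefect.le_centralizer_of_abelian hab le_rfl
  have hKN : Subgroup.centralizer (P : Set G) ≤ Subgroup.normalizer (P : Set G) :=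
    Cfsg.Agent.Lib.Helper78_FirstMain.centralizer_le_normalizer P
  have hcD : IsDefectGroup p M c (P.subgroupOf (Subgroup.centralizer (P : Set G))) :=
    Cfsg.Agent.Lib.Helper78_BrauerCorr.isDefectGroup_subgroupOf_of_induced hM hPK hKN hPD hc
  have hcD' := isDefectGroup_mapBlock (centSubIso hPH hKH) hcD
  have hind' := (isInducedBlockIn_iff hPH hKH c f).mp hf
  obtain ⟨E, hE, hDE⟩ := Cfsg.Agent.Lib.Helper78_Defect.exists_isDefectGroup_ge_of_induced hM _
    hind'.1 hind'.2.1 hind' _ hcD'
  have hfB : IsInducedBlock M (Subgroup.centralizer (Q : Set G)) f B :=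
    (isInducedBlock_trans hMp (centSubIso hPH hKH) (centSubIso_coe hPH hKH) hB hind').mpr hc
  refine ⟨?_, hfB⟩
  obtain ⟨E', hE', hEE'⟩ := Cfsg.Agent.Lib.Helper78_Defect.exists_isDefectGroup_ge_of_induced hM _
    hind'.2.1 hB hfB E hE
  have hle : P.subgroupOf (Subgroup.centralizer (Q : Set G)) ≤ E := by
    intro h hh
    apply hDE
    have hhP : (h : G) ∈ P := Subgroup.mem_subgroupOf.mp hh
    refine ⟨(centSubIso hPH hKH).symm ⟨(h : G), hPK hhP⟩, ?_, rfl⟩
    exact ⟨⟨(h : G), hPK hhP⟩, Subgroup.mem_subgroupOf.mpr hhP, rfl⟩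
  have hcard : Nat.card E ≤ Nat.card (P.subgroupOf (Subgroup.centralizer (Q : Set G))) := by
    rw [Cfsg.Agent.Lib.Helper78_BrauerCorr.card_subgroupOf_of_le hPH,
      isDefectGroup_card_eq hM hB hE' hPD]
    calc Nat.card E = Nat.card (E.map (Subgroup.centralizer (Q : Set G)).subtype) :=
          (Subgroup.card_map_of_injective (Subgroup.subtype_injective _)).symm
      _ ≤ _ := Subgroup.card_le_of_le hEE'
  have := Subgroup.eq_of_le_of_card_ge hle hcard
  rw [this]
  exact hE


/-- The nilpotency criterion for the local block `f = c^{C_G(Q)}`: `f` is nilpotent iff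
`C_T(Q) ≤ C_G(P)`, where `T` is the stabilizer of `c` in `N_G(P)`. -/
theorem nilpotent_local_iff (hM : IsPModular p M) {B : Set (IrrCharacter G)}
    {P Q : Subgroup G} (hPD : IsDefectGroup p M B P)
    (hab : ∀ x ∈ P, ∀ y ∈ P, x * y = y * x) (hQP : Q ≤ P)
    {c : Set (IrrCharacter (Subgroup.centralizer (P : Set G)))}
    (hc : IsInducedBlock M (Subgroup.centralizer (P : Set G)) c B)
    {f : Set (IrrCharacter (Subgroup.centralizer (Q : Set G)))}
    (hf : IsInducedBlockIn M (Subgroup.centralizer (Q : Set G))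
      (Subgroup.centralizer (P : Set G)) c f) :
    IsNilpotentBlock p M f ↔ ∀ g : G, g ∈ Subgroup.centralizer (Q : Set G) →
      g ∈ Subgroup.normalizer (P : Set G) →
      StabilizesBlock (Subgroup.centralizer (P : Set G)) c g →
        g ∈ Subgroup.centralizer (P : Set G) := by
  classical
  have hPH : P ≤ Subgroup.centralizer (Q : Set G) :=
    Cfsg.Agent.Lib.Helper78_AbelianDefect.le_centralizer_of_abelian hab hQP
  have hKH : Subgroup.centralizer (P : Set G) ≤ Subgroup.centralizer (Q : Set G) :=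
    Subgroup.centralizer_le hQP
  obtain ⟨hfD, -⟩ := isDefectGroup_of_isInducedBlockIn hM hPD hab hQP hc hf
  have hind' := (isInducedBlockIn_iff hPH hKH c f).mp hf
  have : Fintype (Subgroup.centralizer (Q : Set G)) := Fintype.ofFinite _
  have hmax : IsMaximalBrauerPair p M f (P.subgroupOf (Subgroup.centralizer (Q : Set G)))
      (mapBlock (centSubIso hPH hKH) c) := isMaximalBrauerPair_of_isInducedBlock hM hfD hind'
  have hab' : ∀ x ∈ P.subgroupOf (Subgroup.centralizer (Q : Set G)),
      ∀ y ∈ P.subgroupOf (Subgroup.centralizer (Q : Set G)), x * y = y * x := by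
    intro x hx y hy
    apply Subtype.ext
    exact hab _ (Subgroup.mem_subgroupOf.mp hx) _ (Subgroup.mem_subgroupOf.mp hy)
  rw [Cfsg.Agent.Lib.Helper78_AbelianNilpotent.nilpotent_iff_of_abelian hM hmax hab']
  constructor
  · intro h g hgQ hgN hgst
    have := h ⟨g, hgQ⟩ ((mem_normalizer_subgroupOf_iff hPH _).mpr hgN)
      ((stabilizesBlock_centSubIso hPH hKH ⟨g, hgQ⟩ hgN c).mpr hgst)
    exact (mem_centralizer_subgroupOf_iff hPH _).mp this
  · intro h x hxN hxst
    have hxN' := (mem_normalizer_subgroupOf_iff hPH x).mp hxN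
    exact (mem_centralizer_subgroupOf_iff hPH x).mpr
      (h x x.2 hxN' ((stabilizesBlock_centSubIso hPH hKH x hxN' c).mp hxst))

/-- The local block `c^{C_G(Q)}` exists. -/
theorem exists_isInducedBlockIn (hM : IsPModular p M) {P Q : Subgroup G} (hP : IsPGroup p P)
    (hab : ∀ x ∈ P, ∀ y ∈ P, x * y = y * x) (hQP : Q ≤ P)
    {c : Set (IrrCharacter (Subgroup.centralizer (P : Set G)))} (hc : IsPBlock M c) :
    ∃ f : Set (IrrCharacter (Subgroup.centralizer (Q : Set G))),
      IsInducedBlockIn M (Subgroup.centralizer (Q : Set G))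
        (Subgroup.centralizer (P : Set G)) c f := by
  classical
  have hPH : P ≤ Subgroup.centralizer (Q : Set G) :=
    Cfsg.Agent.Lib.Helper78_AbelianDefect.le_centralizer_of_abelian hab hQP
  have hKH : Subgroup.centralizer (P : Set G) ≤ Subgroup.centralizer (Q : Set G) :=
    Subgroup.centralizer_le hQP
  have : Fintype (Subgroup.centralizer (Q : Set G)) := Fintype.ofFinite _
  have : Fintype (Subgroup.centralizer
    ((P.subgroupOf (Subgroup.centralizer (Q : Set G)) :
      Subgroup (Subgroup.centralizer (Q : Set G))) : Set (Subgroup.centralizer (Q : Set G)))) :=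
    Fintype.ofFinite _
  have hab' : ∀ x ∈ P.subgroupOf (Subgroup.centralizer (Q : Set G)),
      ∀ y ∈ P.subgroupOf (Subgroup.centralizer (Q : Set G)), x * y = y * x := by
    intro x hx y hy
    apply Subtype.ext
    exact hab _ (Subgroup.mem_subgroupOf.mp hx) _ (Subgroup.mem_subgroupOf.mp hy)
  obtain ⟨f, hf⟩ := Cfsg.Agent.Lib.Helper78_BrauerMap.inducedBlockDefined hM
    (P := P.subgroupOf (Subgroup.centralizer (Q : Set G))) hP.comap_subtype
    (Cfsg.Agent.Lib.Helper78_AbelianDefect.le_centralizer_of_abelian hab' le_rfl) le_rfl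
    (Cfsg.Agent.Lib.Helper78_FirstMain.centralizer_le_normalizer _)
    (isPBlock_mapBlock (centSubIso hPH hKH) hc)
  exact ⟨f, (isInducedBlockIn_iff hPH hKH c f).mpr hf⟩

end Main

end Cfsg.Agent.Lib.Helper97_InducedPair
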