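import Mathlib
import Cfsg.Prelude.Def_Blocks
import Cfsg.Prelude.Def_BlockLocal
import Cfsg.Prelude.Def_BrauerPairs
import Cfsg.Agent.Lib.Helper97_InducedPair

set_option autoImplicit false

namespace Cfsg.Agent.Lib.Helper97_InducedPair2

open Cfsg Cfsg.Agent.Lib.Helper78_LocalRing Cfsg.Agent.Lib.Helper78_CentralChar
  Cfsg.Agent.Lib.Helper78_Osima Cfsg.Agent.Lib.Helper78_CharFacts
  Cfsg.Agent.Lib.Helper78_ExtConv
  Cfsg.Agent.Lib.Helper78_BrauerPairs Cfsg.Agent.Lib.Helper78_Transport
  Cfsg.Agent.Lib.Helper78_TransportBlocks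
  Cfsg.Agent.Lib.Helper78_InducedTrans
  Cfsg.Agent.Lib.Helper78_SubpairUnique
  Cfsg.Agent.Lib.Helper78_FirstMainGT
  Cfsg.Agent.Lib.Helper78_MaxPair
  Cfsg.Agent.Lib.Helper78_PairConj
  Cfsg.Agent.Lib.Helper78_PairCent
  Cfsg.Agent.Lib.Helper97_InducedPair

universe u

variable {G : Type u} [Group G] {M : Ideal AlgInt} {p : ℕ}

section Main

variable [Fintype G] [Fact p.Prime]

/-- Converse: the block of a Brauer pair `(P, c)` of `B` induces `B`. -/
theorem isInducedBlock_of_isBrauerPairOf (hM : IsPModular p M)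
    {B : Set (IrrCharacter G)} {P : Subgroup G}
    {c : Set (IrrCharacter (Subgroup.centralizer (P : Set G)))}
    (h : IsBrauerPairOf p M B P c) :
    IsInducedBlock M (Subgroup.centralizer (P : Set G)) c B := by
  classical
  have := Fintype.ofFinite (Subgroup.centralizer (P : Set G))
  have hMp := isPrime_of_isPModular hM
  have hP := h.1.1
  have hcb := h.1.2
  have hB := h.2.1
  rw [isInducedBlock_iff_omega hMp _ hcb hB]
  intro ξ hξ χ hχ f hf hfR
  obtain ⟨χ', hχ'⟩ := exists_irr_brauerOmega hM P hP ξ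
  have hχ'B : χ' ∈ B := (isBrauerPairOf_iff_mem hM P hP hcb hB hξ hχ').mp h
  have h1 := hχ' f hf hfR
  rw [brauerOmega_eq_omega] at h1
  have h2 := memLocalIdeal_omega_sub hMp (isIrrCharacter_isClassFunction χ'.2)
    (isIrrCharacter_isClassFunction χ.2) (isPBlock_sameBlock hMp hB hχ'B hχ) hf hfR
  have h3 := memLocalIdeal_add hMp h1 h2
  rwa [sub_add_sub_cancel] at h3

/-- A Brauer pair of `B` on a defect group of `B` is maximal. -/
theorem isMaximalBrauerPair_of_isDefectGroup (hM : IsPModular p M)
    {B : Set (IrrCharacter G)} {P : Subgroup G} (hPD : IsDefectGroup p M B P)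
    {c : Set (IrrCharacter (Subgroup.centralizer (P : Set G)))}
    (hc : IsBrauerPairOf p M B P c) : IsMaximalBrauerPair p M B P c :=
  isMaximalBrauerPair_of_isInducedBlock hM hPD (isInducedBlock_of_isBrauerPairOf hM hc)

/-- `C_G(⊥) ≃* G`. -/
noncomputable def centBotIso (G : Type u) [Group G] :
    Subgroup.centralizer (((⊥ : Subgroup G) : Subgroup G) : Set G) ≃* G where
  toFun c := (c : G)
  invFun g := ⟨g, by
    rw [Subgroup.mem_centralizer_iff]
    intro h hh
    have : h = 1 := by simpa using hh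
    rw [this, one_mul, mul_one]⟩
  left_inv c := rfl
  right_inv g := rfl
  map_mul' a b := rfl

/-- Every block has a Brauer pair on the trivial subgroup. -/
theorem isBrauerPairOf_bot (hM : IsPModular p M) {B : Set (IrrCharacter G)}
    (hB : IsPBlock M B) :
    IsBrauerPairOf p M B ⊥ (mapBlock (centBotIso G) B) := by
  classical
  have hMp := isPrime_of_isPModular hM
  have hcG := Cfsg.Agent.Lib.Helper78_CharFacts.charFacts (G := G)
  refine ⟨⟨IsPGroup.of_bot, isPBlock_mapBlock _ hB⟩, hB, ?_⟩
  rintro _ ⟨χ, hχ, rfl⟩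
  have h1 : brauerOmega (⊥ : Subgroup G) (blockCoeff B)
      (irrComp (centBotIso G) χ : Subgroup.centralizer (((⊥ : Subgroup G) : Subgroup G) : Set G) → ℂ)
      = omega (χ : G → ℂ) (blockCoeff B) := by
    unfold brauerOmega omega
    rw [← finsum_comp_equiv (centBotIso G).symm.toEquiv, finsum_eq_sum_of_fintype, Finset.sum_div]
    refine Finset.sum_congr rfl fun g _ => ?_
    rfl
  rw [h1, omega_blockCoeff hcG, Set.indicator_of_mem hχ, sub_self]
  exact memLocalIdeal_zero hMp

/-- A maximal Brauer pair on any given defect group. -/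
theorem exists_isMaximalBrauerPair (hM : IsPModular p M) {B : Set (IrrCharacter G)}
    (hB : IsPBlock M B) {P : Subgroup G} (hPD : IsDefectGroup p M B P) :
    ∃ c : Set (IrrCharacter (Subgroup.centralizer (P : Set G))),
      IsMaximalBrauerPair p M B P c := by
  obtain ⟨D', β', hmax', -⟩ := exists_maximal_ge (p := p) (M := M) B _ _ (isBrauerPairOf_bot hM hB)
  have hD' : IsDefectGroup p M B D' := isDefectGroup_of_isMaximalBrauerPair hM hmax'
  obtain ⟨y, hy⟩ := exists_conj_eq_of_isDefectGroup hM hB hD' hPD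
  have h1 := isBrauerPairOf_conj y hmax'.1
  obtain ⟨c, hc⟩ := Cfsg.Agent.Lib.Helper78_LocalBlockX.exists_pair_eq hy.symm (conjBlock D' y β')
  have h2 : ∀ a : BrauerPairIdx G, a = ⟨P, c⟩ → IsBrauerPairOf p M B a.1 a.2 →
      IsBrauerPairOf p M B P c := by
    rintro a rfl h
    exact h
  exact ⟨c, isMaximalBrauerPair_of_isDefectGroup hM hPD (h2 _ hc h1)⟩


/-- The block of a maximal Brauer pair `(P, c)` has defect group `Z(P)`. -/
theorem isDefectGroup_of_isMaximalBrauerPair_cent (hM : IsPModular p M)
    {B : Set (IrrCharacter G)} {P : Subgroup G}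
    {c : Set (IrrCharacter (Subgroup.centralizer (P : Set G)))}
    (hmax : IsMaximalBrauerPair p M B P c) :
    IsDefectGroup p M c ((P ⊓ Subgroup.centralizer (P : Set G)).subgroupOf
      (Subgroup.centralizer (P : Set G))) := by
  have hMp := isPrime_of_isPModular hM
  obtain ⟨-, x, hchain, hD⟩ := centralizer_defect hM hmax le_rfl hmax.1.1.2
    Relation.ReflTransGen.refl
  have hle : P.map (MulAut.conj x).toMonoidHom ≤ P := le_of_chain hchain
  have heq1 : P.map (MulAut.conj x).toMonoidHom = P :=
    Subgroup.eq_of_le_of_card_ge hle (by rw [card_map_conj])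
  have heq : conjPair x (⟨P, c⟩ : BrauerPairIdx G) = ⟨P, c⟩ :=
    eq_of_chain_same hMp hchain heq1
  have h2 : ∀ a : BrauerPairIdx G, a = ⟨P, c⟩ →
      IsDefectGroup p M a.2 ((P ⊓ Subgroup.centralizer (a.1 : Set G)).subgroupOf
        (Subgroup.centralizer (a.1 : Set G))) →
      IsDefectGroup p M c ((P ⊓ Subgroup.centralizer (P : Set G)).subgroupOf
        (Subgroup.centralizer (P : Set G))) := by
    rintro a rfl h
    exact h
  exact h2 _ heq hD


/-- For a block `b` of `H` with defect group `P ≤ H` and `C_G(P) ≤ H`: a block `β'` of `C_G(P)`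
with defect group `Z(P)` such that `b` induces `B` iff `β'` does. -/
theorem exists_root_cent (hM : IsPModular p M) (H : Subgroup G) {b : Set (IrrCharacter H)}
    (hb : IsPBlock M b) {P : Subgroup G} (hPH : P ≤ H)
    (hD₀ : IsDefectGroup p M b (P.subgroupOf H))
    (hC : Subgroup.centralizer (P : Set G) ≤ H) :
    ∃ β' : Set (IrrCharacter (Subgroup.centralizer (P : Set G))), IsPBlock M β' ∧
      IsDefectGroup p M β' ((P ⊓ Subgroup.centralizer (P : Set G)).subgroupOf
        (Subgroup.centralizer (P : Set G))) ∧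
      ∀ B : Set (IrrCharacter G), IsPBlock M B →
        (IsInducedBlock M H b B ↔ IsInducedBlock M (Subgroup.centralizer (P : Set G)) β' B) := by
  classical
  have hMp := isPrime_of_isPModular hM
  have : Fintype H := Fintype.ofFinite _
  have : Fintype (Subgroup.centralizer (P : Set G)) := Fintype.ofFinite _
  have : Fintype (Subgroup.centralizer ((P.subgroupOf H : Subgroup H) : Set H)) :=
    Fintype.ofFinite _
  obtain ⟨β, hmaxβ⟩ := exists_isMaximalBrauerPair hM hb hD₀
  have hβD := isDefectGroup_of_isMaximalBrauerPair_cent hM hmaxβ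
  have hβb := isInducedBlock_of_isBrauerPairOf hM hmaxβ.1
  have hβ : IsPBlock M β := hmaxβ.1.1.2
  refine ⟨mapBlock (centSubIso hPH hC).symm β, isPBlock_mapBlock _ hβ, ?_, ?_⟩
  · have h1 := isDefectGroup_mapBlock (centSubIso hPH hC).symm hβD
    have h2 : (((P.subgroupOf H : Subgroup H) ⊓
        Subgroup.centralizer ((P.subgroupOf H : Subgroup H) : Set H)).subgroupOf
        (Subgroup.centralizer ((P.subgroupOf H : Subgroup H) : Set H))).map
        (((centSubIso hPH hC).symm.symm : Subgroup.centralizer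
          ((P.subgroupOf H : Subgroup H) : Set H) ≃* Subgroup.centralizer (P : Set G)) :
          Subgroup.centralizer ((P.subgroupOf H : Subgroup H) : Set H) →*
            Subgroup.centralizer (P : Set G)) =
        (P ⊓ Subgroup.centralizer (P : Set G)).subgroupOf
          (Subgroup.centralizer (P : Set G)) := by
      ext c
      constructor
      · rintro ⟨z, hz, rfl⟩
        rw [SetLike.mem_coe, Subgroup.mem_subgroupOf] at hz
        rw [Subgroup.mem_subgroupOf]
        refine ⟨?_, (centSubIso hPH hC z).2⟩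
        exact Subgroup.mem_subgroupOf.mp hz.1
      · intro hc
        rw [Subgroup.mem_subgroupOf] at hc
        refine ⟨(centSubIso hPH hC).symm c, ?_, (centSubIso hPH hC).apply_symm_apply c⟩
        rw [SetLike.mem_coe, Subgroup.mem_subgroupOf]
        refine ⟨?_, ((centSubIso hPH hC).symm c).2⟩
        show (((centSubIso hPH hC).symm c : Subgroup.centralizer
          ((P.subgroupOf H : Subgroup H) : Set H)) : H) ∈ P.subgroupOf H
        rw [Subgroup.mem_subgroupOf]
        exact hc.1
    rw [h2] at h1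
    exact h1
  · intro B hB
    refine isInducedBlock_trans hMp (centSubIso hPH hC) (centSubIso_coe hPH hC) hB ?_
    rw [mapBlock_mapBlock_symm]
    exact hβb


/-- **S4726, core**: for a block `b` of `H` with defect group `P ≤ H` and `C_G(P) ≤ H`, the induced
block is defined, and every block `B` induced by `b` has a defect group `D ≥ P` with
`Z(D) ≤ P`. -/
theorem induced_of_cent_le (hM : IsPModular p M) (H : Subgroup G) {b : Set (IrrCharacter H)}
    (hb : IsPBlock M b) {P : Subgroup G} (hPH : P ≤ H)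
    (hD₀ : IsDefectGroup p M b (P.subgroupOf H))
    (hC : Subgroup.centralizer (P : Set G) ≤ H) :
    InducedBlockDefined M H b ∧ ∀ B : Set (IrrCharacter G), IsInducedBlock M H b B →
      ∃ D : Subgroup G, IsDefectGroup p M B D ∧ P ≤ D ∧
        ∀ z ∈ D, (∀ d ∈ D, z * d = d * z) → z ∈ P := by
  classical
  have hMp := isPrime_of_isPModular hM
  have : Fintype (Subgroup.centralizer (P : Set G)) := Fintype.ofFinite _
  have hP : IsPGroup p P :=
    (isDefectGroup_isPGroup hD₀).of_equiv (Subgroup.subgroupOfEquivOfLe hPH)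
  obtain ⟨β', hβ', hβ'D, hiff⟩ := exists_root_cent hM H hb hPH hD₀ hC
  constructor
  · obtain ⟨B, hB, -⟩ := existsUnique_isBrauerPairOf hM P hP hβ'
    exact ⟨B, (hiff B hB.2.1).mpr (isInducedBlock_of_isBrauerPairOf hM hB)⟩
  · intro B hind
    have hB := hind.2.1
    have hβ'B := (hiff B hB).mp hind
    have hpair : IsBrauerPairOf p M B P β' := isBrauerPairOf_of_isInducedBlock hM hP hβ'B
    obtain ⟨D, δ, hmax, hle⟩ := exists_maximal_ge (p := p) (M := M) B P β' hpair
    have hD := isDefectGroup_of_isMaximalBrauerPair hM hmax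
    have hPD : P ≤ D := le_of_chain hle
    obtain ⟨⟨D', hD', hle'⟩, -⟩ := centralizer_defect hM hmax hPD hβ' hle
    obtain ⟨y, hy⟩ := exists_conj_eq_of_isDefectGroup hM hβ' hβ'D hD'
    have hD'le : D' ≤ (P ⊓ Subgroup.centralizer (P : Set G)).subgroupOf
        (Subgroup.centralizer (P : Set G)) := by
      rw [← hy]
      rintro _ ⟨z, hz, rfl⟩
      rw [SetLike.mem_coe, Subgroup.mem_subgroupOf] at hz
      have hcomm : y * z * y⁻¹ = z := by
        apply Subtype.ext
        have h1 := Subgroup.mem_centralizer_iff.mp y.2 (z : G) hz.1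
        push_cast
        rw [← h1]
        group
      simp only [MulEquiv.coe_toMonoidHom, MulAut.conj_apply]
      rw [hcomm, Subgroup.mem_subgroupOf]
      exact hz
    refine ⟨D, hD, hPD, fun z hzD hzc => ?_⟩
    have hzC : z ∈ Subgroup.centralizer (P : Set G) := by
      rw [Subgroup.mem_centralizer_iff]
      intro q hq
      exact (hzc q (hPD hq)).symm
    have h1 : (⟨z, hzC⟩ : Subgroup.centralizer (P : Set G)) ∈
        (D ⊓ Subgroup.centralizer (P : Set G)).subgroupOf (Subgroup.centralizer (P : Set G)) := by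
      rw [Subgroup.mem_subgroupOf]
      exact ⟨hzD, hzC⟩
    have h2 := hD'le (hle' h1)
    rw [Subgroup.mem_subgroupOf] at h2
    exact h2.1

end Main

end Cfsg.Agent.Lib.Helper97_InducedPair2
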