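import Mathlib
import Cfsg.Prelude.Def_Blocks
import Cfsg.Prelude.Def_BlockLocal
import Cfsg.Prelude.Def_BrauerPairs
import Cfsg.Prelude.Def_OddOrderLocal
import Cfsg.Agent.Lib.Helper32_Cores
import Cfsg.Agent.Lib.Helper78_LocalRing
import Cfsg.Agent.Lib.Helper78_Transport
import Cfsg.Agent.Lib.Helper78_TransportBlocks
import Cfsg.Agent.Lib.Helper78_BrauerPairs
import Cfsg.Agent.Lib.Helper78_BrauerCorr
import Cfsg.Agent.Lib.Helper78_FirstMain
import Cfsg.Agent.Lib.Helper78_InducedTrans
import Cfsg.Agent.Lib.Helper78_PairStab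
import Cfsg.Agent.Lib.Helper78_KerIdem
import Cfsg.Agent.Lib.Helper78_KerIdemPair
import Cfsg.Agent.Lib.Helper78_PiCoreKer
import Cfsg.Agent.Lib.Helper97_InducedPair
import Cfsg.Agent.Lib.Helper97_InducedPair2

/-!
# `π'`-cores and induced blocks: the top and the bottom of a chain of Brauer pairs (helper78)

* `kerP_of_induced`: if `b` induces `B` and `O_{π'}(H) ≤ ker b` then `O_{π'}(X) ≤ ker B`.
* `kerP_of_induced_normal`: if `H` is normal in `X`, `b` induces `B` and `O_{π'}(X) ≤ ker B` then
  `O_{π'}(H) ≤ ker b`.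
* `top_induced`: for a Brauer pair `(D, c₀)` of `B` with `D` a defect group, the block `c₀` of
  `C_G(D)`, read inside `N_G(D)`, induces the Brauer correspondent `B₁` of `B`.
* `bottom_pair`: if the block `b` of `H` induces `B` and has a defect group `Δ` with
  `C_G(Δ) ≤ H`, there is a Brauer pair `(Δ, β')` of `B` such that `β'`, read inside `H`, induces
  `b`.
-/

set_option autoImplicit false
set_option linter.unusedSectionVars false

namespace Cfsg.Agent.Lib.Helper78_PiCoreTop

open Cfsg Cfsg.Agent.Lib.Helper78_LocalRing Cfsg.Agent.Lib.Helper78_Transport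
  Cfsg.Agent.Lib.Helper78_TransportBlocks Cfsg.Agent.Lib.Helper78_BrauerPairs
  Cfsg.Agent.Lib.Helper78_BrauerCorr Cfsg.Agent.Lib.Helper78_FirstMain
  Cfsg.Agent.Lib.Helper78_InducedTrans Cfsg.Agent.Lib.Helper78_PairStab
  Cfsg.Agent.Lib.Helper78_KerIdem Cfsg.Agent.Lib.Helper78_KerIdemPair
  Cfsg.Agent.Lib.Helper78_PiCoreKer Cfsg.Agent.Lib.Helper32_Cores
  Cfsg.Agent.Lib.Helper97_InducedPair Cfsg.Agent.Lib.Helper97_InducedPair2
open Cfsg.Agent.S4835 (irrKer mem_irrKer)

universe u

variable {M : Ideal AlgInt} {p : ℕ}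

/-! ### Kernels and induced blocks -/

section Induced

variable {X : Type u} [Group X] [Finite X]

/-- If `b` induces `B` and `O_{π'}(H)` lies in the kernel of `b`, then `O_{π'}(X)` lies in the
kernel of `B`. -/
theorem kerP_of_induced (hM : IsPModular p M) {π : Set ℕ} (hpπ : p ∈ π) {H : Subgroup X}
    {b : Set (IrrCharacter H)} {B : Set (IrrCharacter X)} (hind : IsInducedBlock M H b B)
    (hb : KerP π b) : KerP π B := by
  have hNp : ¬ p ∣ Nat.card (piCore {q | q ∉ π} X) := not_dvd_card_piCore hM.1 hpπ X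
  have key := (induced_ker_iff hM hind (piCore {q | q ∉ π} X) hNp).mpr (by
    intro ψ hψ c hc
    rw [mem_irrKer]
    have hn : ((piCore {q | q ∉ π} X).subgroupOf H).Normal := Subgroup.Normal.subgroupOf
      (piCore_normal _ X) H
    have hle : (piCore {q | q ∉ π} X).subgroupOf H ≤ piCore {q | q ∉ π} H := by
      apply le_piCore hn
      intro q hq hd
      exact card_piCore {q | q ∉ π} q hq
        (dvd_trans hd (card_subgroupOf_dvd (piCore {q | q ∉ π} X) H))
    exact hb c (hle hc) ψ hψ)
  intro x hx χ hχ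
  exact (mem_irrKer χ x).mp (key χ hχ hx)

/-- If the normal subgroup `H` has a block `b` inducing `B` and `O_{π'}(X)` lies in the kernel of
`B`, then `O_{π'}(H)` lies in the kernel of `b`. -/
theorem kerP_of_induced_normal (hM : IsPModular p M) {π : Set ℕ} (hpπ : p ∈ π) {H : Subgroup X}
    [hH : H.Normal] {b : Set (IrrCharacter H)} {B : Set (IrrCharacter X)}
    (hind : IsInducedBlock M H b B) (hB : KerP π B) : KerP π b := by
  have hnorm : ∀ y : X, y ∈ Subgroup.normalizer (H : Set X) := by
    intro y
    rw [Subgroup.mem_set_normalizer_iff]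
    intro h
    constructor
    · intro hh
      exact hH.conj_mem h hh y
    · intro hh
      have := hH.conj_mem _ hh y⁻¹
      simpa [mul_assoc] using this
  have hNn : (coreIn π H).Normal := by
    constructor
    intro n hn y
    exact conj_mem_coreIn π H (hnorm y) hn
  have hNp : ¬ p ∣ Nat.card (coreIn π H) := by
    rw [card_coreIn]
    exact not_dvd_card_piCore hM.1 hpπ H
  have hle : coreIn π H ≤ piCore {q | q ∉ π} X := by
    apply le_piCore hNn
    intro q hq hd
    rw [card_coreIn] at hd
    exact card_piCore {q | q ∉ π} q hq hd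
  have key := (induced_ker_iff hM hind (coreIn π H) hNp).mp (by
    intro χ hχ n hn
    rw [mem_irrKer]
    exact hB n (hle hn) χ hχ)
  intro x hx ψ hψ
  exact (mem_irrKer ψ x).mp (key ψ hψ
    (Subgroup.mem_subgroupOf.mpr ((coe_mem_coreIn_iff π H x).mpr hx)))

end Induced

/-! ### The top of a chain -/

section Top

variable {G : Type u} [Group G] [Finite G] [Fact p.Prime]

/-- For a Brauer pair `(D, c₀)` of `B` with `D` a defect group, `c₀` read inside `N_G(D)` induces
the Brauer correspondent of `B`. -/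
theorem top_induced (hM : IsPModular p M) {B : Set (IrrCharacter G)} (hB : IsPBlock M B)
    {D : Subgroup G} (hBD : IsDefectGroup p M B D)
    {B₁ : Set (IrrCharacter (Subgroup.normalizer (D : Set G)))}
    (hB₁ : IsInducedBlock M (Subgroup.normalizer (D : Set G)) B₁ B)
    (hB₁D : IsDefectGroup p M B₁ (D.subgroupOf (Subgroup.normalizer (D : Set G))))
    {c₀ : Set (IrrCharacter (Subgroup.centralizer (D : Set G)))}
    (hc₀ : IsBrauerPairOf p M B D c₀) :
    IsInducedBlock M
      (Subgroup.centralizer ((D.subgroupOf (Subgroup.normalizer (D : Set G)) :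
        Subgroup (Subgroup.normalizer (D : Set G))) : Set (Subgroup.normalizer (D : Set G))))
      (mapBlock (centSubIso (Subgroup.le_normalizer (H := D))
        (centralizer_le_normalizer D)) c₀) B₁ := by
  classical
  have := Fintype.ofFinite G
  have := Fintype.ofFinite (Subgroup.normalizer (D : Set G))
  have := Fintype.ofFinite (Subgroup.centralizer (D : Set G))
  have hMp := isPrime_of_isPModular hM
  have hD : IsPGroup p D := hc₀.1.1
  have hDX : IsPGroup p (D.subgroupOf (Subgroup.normalizer (D : Set G))) :=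
    hD.comap_of_injective _ (Subgroup.subtype_injective _)
  have hc₁ : IsPBlock M (mapBlock (centSubIso (Subgroup.le_normalizer (H := D))
      (centralizer_le_normalizer D)) c₀) := isPBlock_mapBlock _ hc₀.1.2
  obtain ⟨B₁', hB₁', -⟩ := existsUnique_isBrauerPairOf hM
    (D.subgroupOf (Subgroup.normalizer (D : Set G))) hDX hc₁
  have h1 := isInducedBlock_of_isBrauerPairOf hM hB₁'
  have h2 := (isInducedBlock_trans hMp (centSubIso (Subgroup.le_normalizer (H := D))
    (centralizer_le_normalizer D)) (centSubIso_coe _ _) hB h1).mpr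
    (isInducedBlock_of_isBrauerPairOf hM hc₀)
  have h3 := isDefectGroup_subgroupOf_of_induced hM (Subgroup.le_normalizer (H := D)) le_rfl
    hBD h2
  have h4 : B₁' = B₁ := firstMain_unique hM D hD hB h2.1 h3 h2 hB₁.1 hB₁D hB₁
  rw [← h4]
  exact h1

/-- The top step: for a Brauer pair `(D, c₀)` of `B` with `D` a defect group, `O_{π'}(N_G(D))`
lies in the kernel of the Brauer correspondent iff `O_{π'}(C_G(D))` lies in the kernel of `c₀`. -/
theorem top_kerP_iff (hM : IsPModular p M) {π : Set ℕ} (hpπ : p ∈ π)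
    {B : Set (IrrCharacter G)} (hB : IsPBlock M B)
    {D : Subgroup G} (hBD : IsDefectGroup p M B D)
    {B₁ : Set (IrrCharacter (Subgroup.normalizer (D : Set G)))}
    (hB₁ : IsInducedBlock M (Subgroup.normalizer (D : Set G)) B₁ B)
    (hB₁D : IsDefectGroup p M B₁ (D.subgroupOf (Subgroup.normalizer (D : Set G))))
    {c₀ : Set (IrrCharacter (Subgroup.centralizer (D : Set G)))}
    (hc₀ : IsBrauerPairOf p M B D c₀) : KerP π B₁ ↔ KerP π c₀ := by
  have hT := top_induced hM hB hBD hB₁ hB₁D hc₀
  have hn : (D.subgroupOf (Subgroup.normalizer (D : Set G))).Normal := by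
    constructor
    intro d hd y
    rw [Subgroup.mem_subgroupOf] at hd ⊢
    have := (Subgroup.mem_set_normalizer_iff.mp y.2 (d : G)).mp hd
    simpa using this
  rw [← kerP_mapBlock_iff π (centSubIso (Subgroup.le_normalizer (H := D))
    (centralizer_le_normalizer D)) c₀]
  exact ⟨kerP_of_induced_normal hM hpπ hT, kerP_of_induced hM hpπ hT⟩

end Top

/-! ### The bottom of a chain -/

section Bottom

variable {G : Type u} [Group G] [Finite G] [Fact p.Prime]

/-- If the block `b` of `H` induces `B` and has a defect group `Δ` with `C_G(Δ) ≤ H`, there is a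
Brauer pair `(Δ, β')` of `B` such that `β'`, read inside `H`, induces `b`. -/
theorem bottom_pair (hM : IsPModular p M) {B : Set (IrrCharacter G)} {H : Subgroup G}
    {b : Set (IrrCharacter H)} (hind : IsInducedBlock M H b B) {Δ : Subgroup H}
    (hΔ : IsDefectGroup p M b Δ)
    (hC : Subgroup.centralizer ((Δ.map H.subtype : Subgroup G) : Set G) ≤ H) :
    ∃ β' : Set (IrrCharacter (Subgroup.centralizer ((Δ.map H.subtype : Subgroup G) : Set G))),
      IsBrauerPairOf p M B (Δ.map H.subtype) β' ∧
      IsInducedBlock M (Subgroup.centralizer (Δ : Set H))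
        (mapBlock (centIsoT hC Δ le_rfl) β') b := by
  classical
  have := Fintype.ofFinite G
  have := Fintype.ofFinite H
  have := Fintype.ofFinite (Subgroup.centralizer ((Δ.map H.subtype : Subgroup G) : Set G))
  have hMp := isPrime_of_isPModular hM
  obtain ⟨c, hc⟩ := exists_isMaximalBrauerPair hM hind.1 hΔ
  have hcb := isInducedBlock_of_isBrauerPairOf hM hc.1
  have hΔp : IsPGroup p Δ := hc.1.1.1
  refine ⟨mapBlock (centIsoT hC Δ le_rfl).symm c, ?_, ?_⟩
  · apply isBrauerPairOf_of_isInducedBlock hM (hΔp.map _)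
    have h1 : IsInducedBlock M (Subgroup.centralizer (Δ : Set H))
        (mapBlock (centIsoT hC Δ le_rfl) (mapBlock (centIsoT hC Δ le_rfl).symm c)) b := by
      rw [mapBlock_mapBlock_symm]
      exact hcb
    exact (isInducedBlock_trans hMp (centIsoT hC Δ le_rfl) (centIsoT_apply hC Δ le_rfl)
      hind.2.1 h1).mp hind
  · rw [mapBlock_mapBlock_symm]
    exact hcb

end Bottom

end Cfsg.Agent.Lib.Helper78_PiCoreTop
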