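import Mathlib
import Cfsg.Prelude.Def_Blocks
import Cfsg.Prelude.Def_BlockLocal
import Cfsg.Prelude.Def_BrauerPairs
import Cfsg.Prelude.Def_OddOrderLocal
import Cfsg.Agent.Lib.Helper32_Cores
import Cfsg.Agent.Lib.Helper78_LocalRing
import Cfsg.Agent.Lib.Helper78_Transport
import Cfsg.Agent.Lib.Helper78_TransportBlocks
import Cfsg.Agent.Lib.Helper78_NilpotentPrincipal
import Cfsg.Agent.Lib.Helper78_Deficiency
import Cfsg.Agent.Lib.Helper78_MaxPair
import Cfsg.Agent.Lib.Helper78_PairConj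
import Cfsg.Agent.Lib.Helper78_PairStab
import Cfsg.Agent.Lib.Helper78_KerIdem
import Cfsg.Agent.Lib.Helper78_KerIdemPair
import Cfsg.Agent.Lib.Helper78_PiCoreKer
import Cfsg.Agent.Lib.Helper78_PiCoreTop
import Cfsg.Agent.Lib.Helper77_QuotDefect2
import Cfsg.Agent.Lib.Helper97_InducedPair
import Cfsg.Agent.Lib.Helper97_InducedPair2

/-!
# Brauer: `π'`-cores of local subgroups in the kernels of Brauer correspondents (helper78)

`B` is a block with defect group `D` and Brauer correspondent `B₁` in `N_G(D)`; `π` is a set of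
primes containing `p`.

* `descend` (S4734): if `O_{π'}(N_G(D)) ≤ ker B₁`, then `O_{π'}(G₀) ≤ ker B₀` for every block `B₀`
  of a subgroup `G₀` inducing `B` whose defect group `D₀` satisfies `C_G(D₀) ≤ G₀`.
* `ascend` (S4728): conversely, if some block `b` of `D₀ C_G(D₀)` induces `B`, `O_{π'}(C_G(D₀))`
  contains all `π'`-elements of `C_G(D₀)` and lies in the kernel of `b`, then
  `O_{π'}(N_G(D)) ≤ ker B₁`.
-/

set_option autoImplicit false
set_option linter.unusedSectionVars false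

namespace Cfsg.Agent.Lib.Helper78_PiCoreMain

open Cfsg Cfsg.Agent.Lib.Helper78_LocalRing Cfsg.Agent.Lib.Helper78_Transport
  Cfsg.Agent.Lib.Helper78_TransportBlocks Cfsg.Agent.Lib.Helper78_NilpotentPrincipal
  Cfsg.Agent.Lib.Helper78_Deficiency Cfsg.Agent.Lib.Helper78_MaxPair
  Cfsg.Agent.Lib.Helper78_PairConj Cfsg.Agent.Lib.Helper78_PairStab
  Cfsg.Agent.Lib.Helper78_KerIdem Cfsg.Agent.Lib.Helper78_KerIdemPair
  Cfsg.Agent.Lib.Helper78_PiCoreKer Cfsg.Agent.Lib.Helper78_PiCoreTop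
  Cfsg.Agent.Lib.Helper32_Cores
  Cfsg.Agent.Lib.Helper97_InducedPair Cfsg.Agent.Lib.Helper97_InducedPair2
open Cfsg.Agent.S4835 (irrKer mem_irrKer)

universe u

variable {G : Type u} [Group G] [Finite G] {M : Ideal AlgInt} {p : ℕ} [Fact p.Prime]

/-- **S4734.** -/
theorem descend (hM : IsPModular p M) {π : Set ℕ} (hpπ : p ∈ π)
    {B : Set (IrrCharacter G)} (hB : IsPBlock M B)
    {D : Subgroup G} (hBD : IsDefectGroup p M B D)
    {B₁ : Set (IrrCharacter (Subgroup.normalizer (D : Set G)))}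
    (hB₁ : IsInducedBlock M (Subgroup.normalizer (D : Set G)) B₁ B)
    (hB₁D : IsDefectGroup p M B₁ (D.subgroupOf (Subgroup.normalizer (D : Set G))))
    (hker : KerP π B₁) {G₀ : Subgroup G} {B₀ : Set (IrrCharacter G₀)}
    (hB₀ : IsInducedBlock M G₀ B₀ B) {D₀ : Subgroup G₀} (hD₀ : IsDefectGroup p M B₀ D₀)
    (hC : Subgroup.centralizer ((D₀.map G₀.subtype : Subgroup G) : Set G) ≤ G₀) :
    KerP π B₀ := by
  classical
  have := Fintype.ofFinite G
  obtain ⟨c₀, hmax⟩ := exists_isMaximalBrauerPair hM hB hBD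
  have hc₀ : KerP π c₀ := (top_kerP_iff hM hpπ hB hBD hB₁ hB₁D hmax.1).mp hker
  obtain ⟨β', hpair, hlink⟩ := bottom_pair hM hB₀ hD₀ hC
  obtain ⟨x, hle⟩ := exists_conj_subpairLE hM hmax hpair
  have h1 : KerP π (conjBlock _ x β') := kerP_of_subpairLE hM hpπ hle hc₀
  have h2 : KerP π β' := (kerP_conjBlock_iff π _ x β').mp h1
  have h3 : KerP π (mapBlock (centIsoT hC D₀ le_rfl) β') :=
    (kerP_mapBlock_iff π _ β').mpr h2
  exact kerP_of_induced hM hpπ hlink h3

/-- **S4728.** -/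
theorem ascend (hM : IsPModular p M) {π : Set ℕ} (hpπ : p ∈ π)
    {B : Set (IrrCharacter G)} (hB : IsPBlock M B)
    {D : Subgroup G} (hBD : IsDefectGroup p M B D)
    {B₁ : Set (IrrCharacter (Subgroup.normalizer (D : Set G)))}
    (hB₁ : IsInducedBlock M (Subgroup.normalizer (D : Set G)) B₁ B)
    (hB₁D : IsDefectGroup p M B₁ (D.subgroupOf (Subgroup.normalizer (D : Set G))))
    {D₀ : Subgroup G} (hD₀ : IsPGroup p D₀) {H₀ : Subgroup G}
    (hH₀ : H₀ = D₀ ⊔ Subgroup.centralizer (D₀ : Set G))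
    {b : Set (IrrCharacter H₀)} (hb : IsInducedBlock M H₀ b B)
    (hcompl : HallP π (Subgroup.centralizer (D₀ : Set G)))
    (hkerb : ∀ x : Subgroup.centralizer (D₀ : Set G),
      x ∈ piCore {q | q ∉ π} (Subgroup.centralizer (D₀ : Set G)) → ∀ θ ∈ b, ∀ h : H₀,
        (h : G) = (x : G) → (θ : H₀ → ℂ) h = (θ : H₀ → ℂ) 1) :
    KerP π B₁ := by
  classical
  have := Fintype.ofFinite G
  have hMp := isPrime_of_isPModular hM
  -- `H₀` normalizes `D₀`
  have hD₀H : D₀ ≤ H₀ := hH₀ ▸ le_sup_left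
  have hCH : Subgroup.centralizer (D₀ : Set G) ≤ H₀ := hH₀ ▸ le_sup_right
  have hHN : H₀ ≤ Subgroup.normalizer (D₀ : Set G) := by
    rw [hH₀]
    exact sup_le Subgroup.le_normalizer (Subgroup.centralizer_le_normalizer _)
  -- a defect group of `b` containing `D₀`
  obtain ⟨Δ, hΔ⟩ := exists_isDefectGroup hM hb.1
  have hn : (D₀.subgroupOf H₀).Normal := by
    constructor
    intro d hd y
    rw [Subgroup.mem_subgroupOf] at hd ⊢
    have := (Subgroup.mem_set_normalizer_iff.mp (hHN y.2) (d : G)).mp hd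
    simpa using this
  have hpD₀' : IsPGroup p (D₀.subgroupOf H₀) :=
    hD₀.comap_of_injective _ (Subgroup.subtype_injective _)
  have hle : D₀.subgroupOf H₀ ≤ Δ :=
    Cfsg.Agent.Lib.Helper77_QuotDefect2.le_of_isDefectGroup hM (D₀.subgroupOf H₀) hpD₀' hb.1 hΔ
  have hD₀Δ : D₀ ≤ Δ.map H₀.subtype := by
    intro d hd
    exact ⟨⟨d, hD₀H hd⟩, hle (Subgroup.mem_subgroupOf.mpr hd), rfl⟩
  have hCK : Subgroup.centralizer ((Δ.map H₀.subtype : Subgroup G) : Set G) ≤
      Subgroup.centralizer (D₀ : Set G) := Subgroup.centralizer_le hD₀Δ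
  have hC : Subgroup.centralizer ((Δ.map H₀.subtype : Subgroup G) : Set G) ≤ H₀ :=
    le_trans hCK hCH
  obtain ⟨β', hpair, hlink⟩ := bottom_pair hM hb hΔ hC
  -- `π'`-elements of `C_G(Δ)` lie in the core of `C_G(D₀)`
  have hmem : ∀ x : Subgroup.centralizer ((Δ.map H₀.subtype : Subgroup G) : Set G),
      (∀ q : ℕ, q.Prime → q ∣ orderOf x → q ∉ π) →
      (x : G) ∈ coreIn π (Subgroup.centralizer (D₀ : Set G)) := by
    intro x hx
    have h1 : (⟨(x : G), hCK x.2⟩ : Subgroup.centralizer (D₀ : Set G)) ∈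
        piCore {q | q ∉ π} (Subgroup.centralizer (D₀ : Set G)) := by
      apply hcompl
      intro q hq hd
      apply hx q hq
      rw [← Subgroup.orderOf_coe] at hd ⊢
      exact hd
    exact (coe_mem_coreIn_iff π _ ⟨(x : G), hCK x.2⟩).mpr h1
  have hHall : HallP π (Subgroup.centralizer ((Δ.map H₀.subtype : Subgroup G) : Set G)) :=
    fun x hx => mem_piCore_of_mem_coreIn π hCK x (hmem x hx)
  -- the kernel condition passes from `b` to `β'`
  have hNn : ((coreIn π (Subgroup.centralizer (D₀ : Set G))).subgroupOf H₀).Normal :=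
    subgroupOf_normal_of_conj _ _ (fun y hy l hl =>
      conj_mem_coreIn π _ (normalizer_le_normalizer_centralizer D₀ (hHN hy)) hl)
  have hNp : ¬ p ∣ Nat.card ((coreIn π (Subgroup.centralizer (D₀ : Set G))).subgroupOf H₀) := by
    intro hd
    have h1 := dvd_trans hd (card_subgroupOf_dvd (coreIn π (Subgroup.centralizer (D₀ : Set G))) H₀)
    rw [card_coreIn] at h1
    exact not_dvd_card_piCore hM.1 hpπ _ h1
  have hkey := (induced_ker_iff hM hlink
    ((coreIn π (Subgroup.centralizer (D₀ : Set G))).subgroupOf H₀) hNp).mp (by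
      intro θ hθ h hh
      rw [mem_irrKer]
      obtain ⟨x, hx, hxh⟩ := Subgroup.mem_subgroupOf.mp hh
      exact hkerb x hx θ hθ h hxh.symm)
  have hKer : KerP π β' := by
    intro x hx χ hχ
    have hx' := hmem x (orderOf_of_mem_piCore π hx)
    have h1 := hkey (irrComp (centIsoT hC Δ le_rfl) χ) (irrComp_mem_mapBlock _ hχ)
      (x := (centIsoT hC Δ le_rfl).symm x) (by
        rw [Subgroup.mem_subgroupOf, Subgroup.mem_subgroupOf]
        have : ((((centIsoT hC Δ le_rfl).symm x : Subgroup.centralizer (Δ : Set H₀)) : H₀) : G) =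
            (x : G) := by
          rw [← centIsoT_apply hC Δ le_rfl, MulEquiv.apply_symm_apply]
        rw [this]
        exact hx')
    rw [mem_irrKer, irrComp_apply, irrComp_apply, MulEquiv.apply_symm_apply, map_one] at h1
    exact h1
  -- go up to a maximal pair
  obtain ⟨P, e, hmax, hchain⟩ := exists_maximal_ge (p := p) (M := M) B _ β' hpair
  obtain ⟨-, hKe⟩ := kerP_up_of_subpairLE hM hpπ hchain hHall hKer
  have hPD := isDefectGroup_of_isMaximalBrauerPair hM hmax
  obtain ⟨y, hy⟩ := exists_conj_eq_of_isDefectGroup hM hB hPD hBD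
  subst hy
  have hc₀ := isBrauerPairOf_conj (p := p) (M := M) y hmax.1
  exact (top_kerP_iff hM hpπ hB hBD hB₁ hB₁D hc₀).mpr ((kerP_conjBlock_iff π P y e).mpr hKe)

end Cfsg.Agent.Lib.Helper78_PiCoreMain
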