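import Mathlib
import Cfsg.Prelude.Def_Blocks
import Cfsg.Agent.Lib.Helper78_LocalRing
import Cfsg.Agent.Lib.Helper78_CharFacts
import Cfsg.Agent.Lib.Helper78_CentralChar
import Cfsg.Agent.Lib.Helper78_SecondMainChar
import Cfsg.Agent.Lib.Helper16_BlockOrth
import Cfsg.Agent.Lib.Helper16_InducedFusion
import Cfsg.Agent.Lib.Helper82_Linking

/-!
# `p`-sections and block spans (helper82)

* `sec p x`: the `p`-section of `x` (elements whose `p`-part is conjugate to `x`);
* `indicator_sec_mem_span`: for `χ` in a block `B`, the restriction of `χ` to a `p`-section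
  (extended by zero) lies in the span of `B` (from block orthogonality).
-/

set_option autoImplicit false
set_option linter.unusedSectionVars false

namespace Cfsg.Agent.Lib.Helper82_Sections

open Cfsg Cfsg.Agent.Lib.Helper78_LocalRing Cfsg.Agent.Lib.Helper78_CharFacts
  Cfsg.Agent.Lib.Helper16_BlockOrth

open scoped ComplexConjugate

universe u

variable {G : Type u} [Group G]

/-- The `p`-section of `x`: the elements whose `p`-part is conjugate to `x`. -/
def sec (p : ℕ) (x : G) : Set G := {g | ∃ z : G, IsPPart p g z ∧ IsConj x z}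

theorem conj_mem_sec {p : ℕ} {x g : G} (hg : g ∈ sec p x) (s : G) : s * g * s⁻¹ ∈ sec p x := by
  obtain ⟨z, hz, hxz⟩ := hg
  refine ⟨s * z * s⁻¹, Cfsg.Agent.Lib.Helper16_InducedFusion.isPPart_conj hz s, ?_⟩
  exact hxz.trans (isConj_iff.mpr ⟨s, rfl⟩)

/-- `x * c` lies in the section of the `p`-element `x` when `c` is a `p`-regular element
commuting with `x`. -/
theorem isPPart_mul {p : ℕ} {x c : G} (hx : ∃ k : ℕ, orderOf x = p ^ k) (hc : Commute x c)
    (hreg : ¬ p ∣ orderOf c) : IsPPart p (x * c) x :=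
  ⟨c, rfl, hc, hx, hreg⟩

theorem mul_mem_sec {p : ℕ} {x c : G} (hx : ∃ k : ℕ, orderOf x = p ^ k) (hc : Commute x c)
    (hreg : ¬ p ∣ orderOf c) : x * c ∈ sec p x :=
  ⟨x, isPPart_mul hx hc hreg, IsConj.refl x⟩

/-- An element lying in two sections: the two base points are conjugate. -/
theorem isConj_of_mem_sec [Finite G] {p : ℕ} (hp : p.Prime) {x x' g : G} (h : g ∈ sec p x)
    (h' : g ∈ sec p x') : IsConj x x' := by
  obtain ⟨z, hz, hxz⟩ := h
  obtain ⟨z', hz', hxz'⟩ := h'
  have := Cfsg.Agent.Lib.Helper78_SecondMainChar.isPPart_unique hp hz hz'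
  rw [this] at hxz
  exact hxz.trans hxz'.symm

section fin

variable [Fintype G]

/-- For `χ` in the block `B`, the restriction of `χ` to a `p`-section lies in the span of `B`. -/
theorem indicator_sec_mem_span {p : ℕ} {M : Ideal AlgInt} (hM : IsPModular p M)
    {B : Set (IrrCharacter G)} (hB : IsPBlock M B) (x : G) (χ : IrrCharacter G) (hχ : χ ∈ B) :
    (sec p x).indicator (χ : G → ℂ) ∈
      Submodule.span ℂ ((fun ψ : IrrCharacter G => (ψ : G → ℂ)) '' B) := by
  classical
  have hp : p.Prime := hM.1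
  have hfin : Finite (IrrCharacter G) := charFacts.finite
  have hG : (Nat.card G : ℂ) ≠ 0 := by
    exact_mod_cast (Nat.card_pos (α := G)).ne'
  set Bf : Finset (IrrCharacter G) := (Set.toFinite B).toFinset with hBf
  have hmemBf : ∀ ψ : IrrCharacter G, ψ ∈ Bf ↔ ψ ∈ B := fun ψ => Set.Finite.mem_toFinset _
  set f : G → ℂ := (sec p x).indicator (χ : G → ℂ) with hf
  -- the kernel of the block
  have hT : ∀ h g : G, ∑ᶠ ψ ∈ B, (ψ : G → ℂ) h * conj ((ψ : G → ℂ) g) =
      ∑ ψ ∈ Bf, (ψ : G → ℂ) h * conj ((ψ : G → ℂ) g) := fun h g =>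
    finsum_mem_eq_finite_toFinset_sum _ (Set.toFinite B)
  -- block orthogonality between an element of the section and one outside
  have horth : ∀ h g : G, (h ∈ sec p x ∧ g ∉ sec p x) ∨ (h ∉ sec p x ∧ g ∈ sec p x) →
      ∑ ψ ∈ Bf, (ψ : G → ℂ) h * conj ((ψ : G → ℂ) g) = 0 := by
    intro h g hhg
    obtain ⟨zh, hzh⟩ := exists_isPPart hp h
    obtain ⟨zg, hzg⟩ := exists_isPPart hp g
    rw [← hT]
    apply block_orthogonality hM hB hzh hzg
    intro hc
    rcases hhg with ⟨⟨z, hz, hxz⟩, hg⟩ | ⟨hh, ⟨z, hz, hxz⟩⟩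
    · apply hg
      have : z = zh := Cfsg.Agent.Lib.Helper78_SecondMainChar.isPPart_unique hp hz hzh
      exact ⟨zg, hzg, (this ▸ hxz).trans hc⟩
    · apply hh
      have : z = zg := Cfsg.Agent.Lib.Helper78_SecondMainChar.isPPart_unique hp hz hzg
      exact ⟨zh, hzh, (this ▸ hxz).trans hc.symm⟩
  -- the expansion
  have hexp : f = ∑ ψ ∈ Bf,
      ((Nat.card G : ℂ)⁻¹ * ∑ g : G, f g * conj ((ψ : G → ℂ) g)) • (ψ : G → ℂ) := by
    funext h
    simp only [Finset.sum_apply, Pi.smul_apply, smul_eq_mul]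
    have h1 : ∑ ψ ∈ Bf, ((Nat.card G : ℂ)⁻¹ * ∑ g : G, f g * conj ((ψ : G → ℂ) g)) *
        (ψ : G → ℂ) h = (Nat.card G : ℂ)⁻¹ * ∑ g : G, f g *
          ∑ ψ ∈ Bf, (ψ : G → ℂ) h * conj ((ψ : G → ℂ) g) := by
      simp_rw [Finset.mul_sum, Finset.sum_mul]
      rw [Finset.sum_comm]
      refine Finset.sum_congr rfl fun g _ => ?_
      refine Finset.sum_congr rfl fun ψ _ => ?_
      ring
    rw [h1]
    by_cases hh : h ∈ sec p x
    · -- all `g` outside the section contribute zero on both sides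
      have h2 : ∀ g : G, f g * ∑ ψ ∈ Bf, (ψ : G → ℂ) h * conj ((ψ : G → ℂ) g) =
          (χ : G → ℂ) g * ∑ ψ ∈ Bf, (ψ : G → ℂ) h * conj ((ψ : G → ℂ) g) := by
        intro g
        by_cases hg : g ∈ sec p x
        · rw [hf, Set.indicator_of_mem hg]
        · rw [horth h g (Or.inl ⟨hh, hg⟩), mul_zero, mul_zero]
      simp_rw [h2]
      have h3 : ∑ g : G, (χ : G → ℂ) g * ∑ ψ ∈ Bf, (ψ : G → ℂ) h * conj ((ψ : G → ℂ) g) =
          ∑ ψ ∈ Bf, (ψ : G → ℂ) h * ∑ g : G, (χ : G → ℂ) g * conj ((ψ : G → ℂ) g) := by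
        simp_rw [Finset.mul_sum]
        rw [Finset.sum_comm]
        refine Finset.sum_congr rfl fun ψ _ => ?_
        refine Finset.sum_congr rfl fun g _ => ?_
        ring
      rw [h3]
      simp_rw [Cfsg.Agent.Lib.Helper82_Linking.sum_mul_conj_irr]
      rw [Finset.sum_eq_single χ]
      · rw [if_pos rfl, hf, Set.indicator_of_mem hh]
        field_simp
      · intro ψ _ hne
        rw [if_neg (Ne.symm hne), mul_zero]
      · intro hn
        exact absurd ((hmemBf χ).mpr hχ) hn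
    · rw [hf, Set.indicator_of_notMem hh]
      symm
      rw [mul_eq_zero]
      right
      apply Finset.sum_eq_zero
      intro g _
      by_cases hg : g ∈ sec p x
      · rw [horth h g (Or.inr ⟨hh, hg⟩), mul_zero]
      · rw [Set.indicator_of_notMem hg, zero_mul]
  rw [hexp]
  apply Submodule.sum_mem
  intro ψ hψ
  apply Submodule.smul_mem
  apply Submodule.subset_span
  exact ⟨ψ, (hmemBf ψ).mp hψ, rfl⟩

end fin

end Cfsg.Agent.Lib.Helper82_Sections
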