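import Mathlib
import Cfsg.Prelude.Def_Blocks
import Cfsg.Prelude.Def_BlockRank
import Cfsg.Agent.Lib.Helper78_LocalRing
import Cfsg.Agent.Lib.Helper78_CharFacts
import Cfsg.Agent.Lib.Helper77_RegProj
import Cfsg.Agent.Lib.Helper80_CharBasic

/-!
# The `p`-regular rank of unions of blocks (helper82)

`regSpan p S` is the span of the `p`-regular parts of the members of `S`, so that
`blockRank p S = finrank (regSpan p S)`.  Using helper77's projection `tmat p * kmat S` we show,
for sets `S` whose idempotent has local-integer coefficients (in particular for unions of blocks):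

* `rank_formula_of_local`: `|G| * finrank (regSpan p S)` is the sum over the `p`-regular `x` of
  `∑_{χ ∈ S} χ x * χ x⁻¹`;
* `disjoint_regSpan_compl`: `regSpan p S` and `regSpan p Sᶜ` meet trivially;
* `finrank_regSpan_sUnion`: the rank of a union of blocks is the sum of the ranks.
-/

set_option autoImplicit false
set_option linter.unusedSectionVars false

namespace Cfsg.Agent.Lib.Helper82_SubsecRank

open Cfsg Cfsg.Agent.Lib.Helper78_LocalRing Cfsg.Agent.Lib.Helper78_Osima
  Cfsg.Agent.Lib.Helper78_CharFacts Cfsg.Agent.Lib.Helper77_RegProj Matrix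

open scoped ComplexConjugate

universe u

variable {G : Type u} [Group G]

/-- The span of the `p`-regular parts of the members of `S`. -/
noncomputable def regSpan (p : ℕ) (S : Set (IrrCharacter G)) : Submodule ℂ (G → ℂ) :=
  Submodule.span ℂ ((fun χ : IrrCharacter G => pRegularPart p (χ : G → ℂ)) '' S)

theorem blockRank_eq_finrank (p : ℕ) (S : Set (IrrCharacter G)) :
    blockRank p S = Module.finrank ℂ (regSpan p S) := rfl

theorem regSpan_mono (p : ℕ) {S T : Set (IrrCharacter G)} (h : S ⊆ T) :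
    regSpan p S ≤ regSpan p T :=
  Submodule.span_mono (Set.image_mono h)

theorem pRegularPart_add (p : ℕ) (f g : G → ℂ) :
    pRegularPart p (f + g) = pRegularPart p f + pRegularPart p g := by
  funext x
  by_cases hx : p ∣ orderOf x
  · simp [pRegularPart_of_sing _ hx]
  · simp [pRegularPart_of_reg _ hx]

theorem pRegularPart_smul (p : ℕ) (a : ℂ) (f : G → ℂ) :
    pRegularPart p (a • f) = a • pRegularPart p f := by
  funext x
  by_cases hx : p ∣ orderOf x
  · simp [pRegularPart_of_sing _ hx]
  · simp [pRegularPart_of_reg _ hx]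

/-- `pRegularPart` as a linear map. -/
noncomputable def regL (p : ℕ) : (G → ℂ) →ₗ[ℂ] (G → ℂ) where
  toFun f := pRegularPart p f
  map_add' := pRegularPart_add p
  map_smul' := pRegularPart_smul p

@[simp] theorem regL_apply (p : ℕ) (f : G → ℂ) : regL p f = pRegularPart p f := rfl

section fin

variable [Fintype G] [DecidableEq G]

/-- The projection `tmat p * kmat S` acts on `p`-regular parts of irreducible characters. -/
theorem emat_mulVec_reg {p : ℕ} {M : Ideal AlgInt} (hM : IsPModular p M)
    (S : Set (IrrCharacter G)) (hS : ∀ g : G, MemLocalRing M (blockCoeff S g))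
    (χ : IrrCharacter G) :
    (tmat p * kmat S).mulVec (pRegularPart p (χ : G → ℂ)) =
      by classical exact if χ ∈ S then pRegularPart p (χ : G → ℂ) else 0 := by
  classical
  rw [← tmat_mulVec p (χ : G → ℂ), Matrix.mulVec_mulVec, Matrix.mul_assoc,
    ← tmat_mul_kmat_comm hM S hS, ← Matrix.mul_assoc, ← Matrix.mulVec_mulVec,
    ← Matrix.mulVec_mulVec, kmat_mulVec_irr]
  split_ifs with h
  · rw [tmat_mulVec, tmat_mulVec]
    funext x
    by_cases hx : p ∣ orderOf x
    · rw [pRegularPart_of_sing _ hx, pRegularPart_of_sing _ hx]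
    · rw [pRegularPart_of_reg _ hx, pRegularPart_of_reg _ hx]
  · rw [Matrix.mulVec_zero, Matrix.mulVec_zero]

theorem emat_mulVec_of_mem {p : ℕ} {M : Ideal AlgInt} (hM : IsPModular p M)
    (S : Set (IrrCharacter G)) (hS : ∀ g : G, MemLocalRing M (blockCoeff S g))
    {v : G → ℂ} (hv : v ∈ regSpan p S) : (tmat p * kmat S).mulVec v = v := by
  classical
  unfold regSpan at hv
  induction hv using Submodule.span_induction with
  | mem x hx =>
    obtain ⟨χ, hχ, rfl⟩ := hx
    rw [emat_mulVec_reg hM S hS χ, if_pos hχ]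
  | zero => rw [Matrix.mulVec_zero]
  | add x y _ _ hx hy => rw [Matrix.mulVec_add, hx, hy]
  | smul a x _ hx => rw [Matrix.mulVec_smul, hx]

theorem emat_mulVec_of_mem_compl {p : ℕ} {M : Ideal AlgInt} (hM : IsPModular p M)
    (S : Set (IrrCharacter G)) (hS : ∀ g : G, MemLocalRing M (blockCoeff S g))
    {v : G → ℂ} (hv : v ∈ regSpan p Sᶜ) : (tmat p * kmat S).mulVec v = 0 := by
  classical
  unfold regSpan at hv
  induction hv using Submodule.span_induction with
  | mem x hx =>
    obtain ⟨χ, hχ, rfl⟩ := hx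
    rw [emat_mulVec_reg hM S hS χ, if_neg hχ]
  | zero => rw [Matrix.mulVec_zero]
  | add x y _ _ hx hy => rw [Matrix.mulVec_add, hx, hy, add_zero]
  | smul a x _ hx => rw [Matrix.mulVec_smul, hx, smul_zero]

/-- `regSpan p S` and `regSpan p Sᶜ` meet trivially. -/
theorem disjoint_regSpan_compl {p : ℕ} {M : Ideal AlgInt} (hM : IsPModular p M)
    (S : Set (IrrCharacter G)) (hS : ∀ g : G, MemLocalRing M (blockCoeff S g)) :
    Disjoint (regSpan p S) (regSpan p Sᶜ) := by
  rw [Submodule.disjoint_def]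
  intro v hv hv'
  rw [← emat_mulVec_of_mem hM S hS hv, emat_mulVec_of_mem_compl hM S hS hv']

/-- The rank formula for a set of characters whose idempotent has local-integer coefficients
(the proof is helper77's proof of the case of a block). -/
theorem rank_formula_of_local {p : ℕ} {M : Ideal AlgInt} (hM : IsPModular p M)
    (S : Set (IrrCharacter G)) (hS : ∀ g : G, MemLocalRing M (blockCoeff S g)) :
    (Nat.card G : ℂ) * (Module.finrank ℂ (regSpan p S) : ℂ) =
      ∑ x : G, ∑ᶠ χ ∈ S, pRegularPart p (χ : G → ℂ) x * (χ : G → ℂ) x⁻¹ := by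
  classical
  have hfin : Finite (IrrCharacter G) := charFacts.finite
  have hG : (Nat.card G : ℂ) ≠ 0 := by
    exact_mod_cast (Nat.card_pos (α := G)).ne'
  set E : Matrix G G ℂ := tmat p * kmat S with hE
  have hcomm := tmat_mul_kmat_comm hM S hS
  have htt : tmat (G := G) p * tmat p = tmat p := by
    unfold tmat
    rw [Matrix.diagonal_mul_diagonal]
    congr 1
    funext x
    by_cases h : p ∣ orderOf x
    · rw [pRegularPart_of_sing _ h, mul_zero]
    · rw [pRegularPart_of_reg _ h, mul_one]
  have hEE : E * E = E := by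
    rw [hE]
    calc tmat p * kmat S * (tmat p * kmat S) = tmat p * (kmat S * tmat p) * kmat S := by
          simp only [Matrix.mul_assoc]
      _ = tmat p * tmat p * (kmat S * kmat S) := by
          rw [← hcomm]; simp only [Matrix.mul_assoc]
      _ = tmat p * kmat S := by rw [htt, kmat_mul_kmat]
  have hidem : IsIdempotentElem (Matrix.toLin' E) := by
    show Matrix.toLin' E * Matrix.toLin' E = Matrix.toLin' E
    rw [Module.End.mul_eq_comp, ← Matrix.toLin'_mul, hEE]
  have htr := (LinearMap.IsIdempotentElem.isProj_range _ hidem).trace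
  rw [Matrix.trace_toLin'_eq] at htr
  have hrange : LinearMap.range (Matrix.toLin' E) = regSpan p S := by
    apply le_antisymm
    · rintro _ ⟨f, rfl⟩
      rw [Matrix.toLin'_apply, hE, ← Matrix.mulVec_mulVec, tmat_mulVec]
      -- `kmat S f` is a combination of members of `S`
      have hk : (kmat S).mulVec f = ∑ χ ∈ (Set.toFinite S).toFinset,
          ((Nat.card G : ℂ)⁻¹ * ∑ y : G, conj ((χ : G → ℂ) y) * f y) • (χ : G → ℂ) := by
        funext x
        unfold Matrix.mulVec dotProduct kmat
        simp_rw [finsum_mem_eq_finite_toFinset_sum _ (Set.toFinite S)]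
        simp only [Finset.sum_apply, Pi.smul_apply, smul_eq_mul]
        simp_rw [Finset.mul_sum, Finset.sum_mul]
        rw [Finset.sum_comm]
        refine Finset.sum_congr rfl fun χ _ => ?_
        refine Finset.sum_congr rfl fun y _ => ?_
        ring
      rw [hk, ← regL_apply, map_sum]
      apply Submodule.sum_mem
      intro χ hχ
      rw [map_smul]
      apply Submodule.smul_mem
      apply Submodule.subset_span
      exact ⟨χ, (Set.Finite.mem_toFinset _).mp hχ, rfl⟩
    · intro v hv
      exact ⟨v, by rw [Matrix.toLin'_apply, emat_mulVec_of_mem hM S hS hv]⟩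
  have hrank : (Module.finrank ℂ (regSpan p S) : ℂ) = E.trace := by
    rw [htr, hrange]
  rw [hrank, hE]
  unfold Matrix.trace
  rw [Finset.mul_sum]
  refine Finset.sum_congr rfl fun x _ => ?_
  rw [Matrix.diag_apply]
  unfold tmat
  rw [Matrix.diagonal_mul]
  unfold kmat
  rw [← mul_assoc, mul_comm (Nat.card G : ℂ), mul_assoc, ← mul_assoc (Nat.card G : ℂ),
    mul_inv_cancel₀ hG, one_mul]
  by_cases hx : p ∣ orderOf x
  · rw [pRegularPart_of_sing _ hx, zero_mul]
    symm
    apply finsum_mem_eq_zero_of_forall_eq_zero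
    intro χ _
    rw [pRegularPart_of_sing _ hx, zero_mul]
  · rw [pRegularPart_of_reg _ hx, one_mul]
    refine finsum_congr fun χ => ?_
    refine finsum_congr fun _ => ?_
    rw [pRegularPart_of_reg _ hx, Cfsg.Agent.Lib.Helper80_CharBasic.irr_inv χ x]

end fin

/-- The rank of a union of blocks is the sum of the ranks of the blocks. -/
theorem finrank_regSpan_sUnion [Finite G] {p : ℕ} {M : Ideal AlgInt} (hM : IsPModular p M)
    (𝔅 : Set (Set (IrrCharacter G))) (h𝔅 : ∀ b ∈ 𝔅, IsPBlock M b) :
    Module.finrank ℂ (regSpan p (⋃₀ 𝔅)) = ∑ᶠ b ∈ 𝔅, blockRank p b := by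
  classical
  have := Fintype.ofFinite G
  have hMp : M.IsPrime := isPrime_of_isPModular hM
  have hfin : Finite (IrrCharacter G) := charFacts.finite
  have hG : (Nat.card G : ℂ) ≠ 0 := by
    exact_mod_cast (Nat.card_pos (α := G)).ne'
  have h𝔅fin : 𝔅.Finite := Set.toFinite 𝔅
  have hloc : ∀ b ∈ 𝔅, ∀ g : G, MemLocalRing M (blockCoeff b g) := fun b hb g =>
    osima_block' hMp (h𝔅 b hb) g
  have hlocU : ∀ g : G, MemLocalRing M (blockCoeff (⋃₀ 𝔅) g) := by
    apply osima' hMp
    rintro χ ⟨b, hb, hχ⟩ ψ hsb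
    exact ⟨b, hb, isPBlock_mem_of_sameBlock hMp (h𝔅 b hb) hχ hsb⟩
  have hdisj : 𝔅.PairwiseDisjoint id := by
    intro b hb b' hb' hne
    exact isPBlock_disjoint_of_ne hMp (h𝔅 b hb) (h𝔅 b' hb') hne
  have h1 := rank_formula_of_local hM (⋃₀ 𝔅) hlocU
  have h2 : ∀ x : G, ∑ᶠ χ ∈ ⋃₀ 𝔅, pRegularPart p (χ : G → ℂ) x * (χ : G → ℂ) x⁻¹ =
      ∑ b ∈ h𝔅fin.toFinset, ∑ᶠ χ ∈ b, pRegularPart p (χ : G → ℂ) x * (χ : G → ℂ) x⁻¹ := by
    intro x
    rw [finsum_mem_sUnion hdisj h𝔅fin (fun b _ => Set.toFinite b),
      finsum_mem_eq_finite_toFinset_sum _ h𝔅fin]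
  simp_rw [h2] at h1
  rw [Finset.sum_comm] at h1
  have h3 : ∀ b ∈ h𝔅fin.toFinset,
      ∑ x : G, ∑ᶠ χ ∈ b, pRegularPart p (χ : G → ℂ) x * (χ : G → ℂ) x⁻¹ =
        (Nat.card G : ℂ) * (blockRank p b : ℂ) := by
    intro b hb
    rw [blockRank_eq_finrank,
      rank_formula_of_local hM b (hloc b ((Set.Finite.mem_toFinset _).mp hb))]
  rw [Finset.sum_congr rfl h3, ← Finset.mul_sum] at h1
  have h4 := mul_left_cancel₀ hG h1
  rw [finsum_mem_eq_finite_toFinset_sum _ h𝔅fin]
  exact_mod_cast h4

end Cfsg.Agent.Lib.Helper82_SubsecRank
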