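import Mathlib
import Cfsg.Prelude.Def_Blocks
import Cfsg.Prelude.Def_BlockRank
import Cfsg.Agent.Lib.Helper78_LocalRing
import Cfsg.Agent.Lib.Helper78_CharFacts
import Cfsg.Agent.Lib.Helper78_CentralChar
import Cfsg.Agent.Lib.Helper78_SecondMainChar
import Cfsg.Agent.Lib.Helper16_BlockOrth
import Cfsg.Agent.Lib.Helper81_CharOrth
import Cfsg.Agent.Lib.Helper3_CharComplete
import Cfsg.Agent.Lib.Helper77_RegProj
import Cfsg.Agent.Lib.Helper82_Sections
import Cfsg.Agent.Lib.Helper82_SubsecRank

/-!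
# Brauer's count of characters by subsections: the section decomposition (helper82)

For a block `B` of `G` and a set `X` of representatives of the classes of `p`-elements:
`Nat.card B = ∑ x ∈ X, finrank (d^x (span B))`, where `d^x φ` is the function
`c ↦ φ (x c)` on the `p`-regular elements of `C_G(x)` (`card_eq_sum_finrank`).
-/

set_option autoImplicit false
set_option linter.unusedSectionVars false

namespace Cfsg.Agent.Lib.Helper82_Subsections

open Cfsg Cfsg.Agent.Lib.Helper78_LocalRing Cfsg.Agent.Lib.Helper78_CharFacts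
  Cfsg.Agent.Lib.Helper16_BlockOrth Cfsg.Agent.Lib.Helper82_Sections
  Cfsg.Agent.Lib.Helper82_SubsecRank Cfsg.Agent.Lib.Helper77_RegProj

open scoped ComplexConjugate

universe u

variable {G : Type u} [Group G]

/-- The span of a set of irreducible characters. -/
noncomputable def charSpan (B : Set (IrrCharacter G)) : Submodule ℂ (G → ℂ) :=
  Submodule.span ℂ ((fun ψ : IrrCharacter G => (ψ : G → ℂ)) '' B)

theorem mem_charSpan_of_mem {B : Set (IrrCharacter G)} {χ : IrrCharacter G} (h : χ ∈ B) :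
    (χ : G → ℂ) ∈ charSpan B :=
  Submodule.subset_span ⟨χ, h, rfl⟩

theorem isClassFunction_of_mem_charSpan {B : Set (IrrCharacter G)} {w : G → ℂ}
    (hw : w ∈ charSpan B) : IsClassFunction G w := by
  unfold charSpan at hw
  induction hw using Submodule.span_induction with
  | mem x hx =>
    obtain ⟨χ, -, rfl⟩ := hx
    exact Cfsg.Agent.Lib.Helper78_CentralChar.isIrrCharacter_isClassFunction χ.2
  | zero => intro g h; rfl
  | add x y _ _ hx hy =>
    intro g h
    show x (h * g * h⁻¹) + y (h * g * h⁻¹) = x g + y g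
    rw [hx g h, hy g h]
  | smul a x _ hx =>
    intro g h
    show a • x (h * g * h⁻¹) = a • x g
    rw [hx g h]

theorem finrank_charSpan [Finite G] (B : Set (IrrCharacter G)) :
    Module.finrank ℂ (charSpan B) = Nat.card B := by
  classical
  have := Fintype.ofFinite G
  have hfin : Finite (IrrCharacter G) := charFacts.finite
  have := Fintype.ofFinite B
  have hli : LinearIndependent ℂ (fun ψ : B => ((ψ : IrrCharacter G) : G → ℂ)) :=
    (Cfsg.Agent.Lib.Helper81_CharOrth.linearIndependent_irr (G := G)).comp _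
      Subtype.val_injective
  have hrange : Set.range (fun ψ : B => ((ψ : IrrCharacter G) : G → ℂ)) =
      (fun ψ : IrrCharacter G => (ψ : G → ℂ)) '' B := by
    ext f
    constructor
    · rintro ⟨ψ, rfl⟩
      exact ⟨ψ.1, ψ.2, rfl⟩
    · rintro ⟨ψ, hψ, rfl⟩
      exact ⟨⟨ψ, hψ⟩, rfl⟩
  unfold charSpan
  rw [← hrange, finrank_span_eq_card hli, Nat.card_eq_fintype_card]

/-- The generalized decomposition map at `x`: `φ ↦ (c ↦ φ (x c))` on the `p`-regular elements of
the centralizer of `x`. -/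
noncomputable def dmap (p : ℕ) (x : G) :
    (G → ℂ) →ₗ[ℂ] (↥(Subgroup.centralizer ({x} : Set G)) → ℂ) :=
  (regL p).comp (LinearMap.funLeft ℂ ℂ
    (fun c : ↥(Subgroup.centralizer ({x} : Set G)) => x * (c : G)))

theorem dmap_eq (p : ℕ) (x : G) (φ : G → ℂ) :
    dmap p x φ = pRegularPart p
      (fun c : ↥(Subgroup.centralizer ({x} : Set G)) => φ (x * (c : G))) := rfl

theorem dmap_apply_reg {p : ℕ} (x : G) (φ : G → ℂ) {c : ↥(Subgroup.centralizer ({x} : Set G))}
    (hc : ¬ p ∣ orderOf c) : dmap p x φ c = φ (x * (c : G)) := by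
  rw [dmap_eq, pRegularPart_of_reg _ hc]

theorem dmap_apply_sing {p : ℕ} (x : G) (φ : G → ℂ) {c : ↥(Subgroup.centralizer ({x} : Set G))}
    (hc : p ∣ orderOf c) : dmap p x φ c = 0 := by
  rw [dmap_eq, pRegularPart_of_sing _ hc]

/-- Restriction to the `p`-section of `x`, extended by zero. -/
noncomputable def tmap (p : ℕ) (x : G) : (G → ℂ) →ₗ[ℂ] (G → ℂ) where
  toFun φ := (sec p x).indicator φ
  map_add' φ ψ := Set.indicator_add' (sec p x) φ ψ
  map_smul' a φ := by
    funext g
    by_cases hg : g ∈ sec p x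
    · simp [Set.indicator_of_mem hg]
    · simp [Set.indicator_of_notMem hg]

@[simp] theorem tmap_apply (p : ℕ) (x : G) (φ : G → ℂ) :
    tmap p x φ = (sec p x).indicator φ := rfl

theorem commute_of_mem_centralizer {x : G} (c : ↥(Subgroup.centralizer ({x} : Set G))) :
    Commute x (c : G) :=
  Subgroup.mem_centralizer_iff.mp c.2 x (Set.mem_singleton x)

/-- `d^{x'} ∘ T_x = δ_{x x'} d^{x'}` for representatives of the classes of `p`-elements. -/
theorem dmap_tmap [Finite G] {p : ℕ} (hp : p.Prime) {x x' : G}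
    (hx' : ∃ k : ℕ, orderOf x' = p ^ k) (hconj : IsConj x x' → x = x') (φ : G → ℂ) :
    dmap p x' (tmap p x φ) = by classical exact if x = x' then dmap p x' φ else 0 := by
  classical
  funext c
  by_cases hc : p ∣ orderOf c
  · rw [dmap_apply_sing _ _ hc]
    split_ifs
    · rw [dmap_apply_sing _ _ hc]
    · rfl
  · rw [dmap_apply_reg _ _ hc, tmap_apply]
    have hcG : ¬ p ∣ orderOf (c : G) := by rwa [Subgroup.orderOf_coe]
    have hmem : x' * (c : G) ∈ sec p x' := mul_mem_sec hx' (commute_of_mem_centralizer c) hcG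
    split_ifs with hxx
    · rw [dmap_apply_reg _ _ hc, hxx, Set.indicator_of_mem hmem]
    · rw [Set.indicator_of_notMem]
      · rfl
      · intro hmem'
        exact hxx (hconj (isConj_of_mem_sec hp hmem' hmem))

/-- A class function killed by all the generalized decomposition maps vanishes. -/
theorem eq_zero_of_dmap_eq_zero [Finite G] {p : ℕ} (hp : p.Prime) (X : Finset G)
    (hXrep : ∀ g : G, (∃ k : ℕ, orderOf g = p ^ k) → ∃ x, x ∈ X ∧ IsConj g x)
    {φ : G → ℂ} (hφ : IsClassFunction G φ) (h : ∀ x ∈ X, dmap p x φ = 0) : φ = 0 := by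
  funext g
  obtain ⟨z, y, hzy, hcomm, hz, hy⟩ := exists_isPPart hp g
  obtain ⟨x, hxX, hzx⟩ := hXrep z hz
  obtain ⟨t, ht⟩ := isConj_iff.mp hzx
  have hcmem : t * y * t⁻¹ ∈ Subgroup.centralizer ({x} : Set G) := by
    rw [Subgroup.mem_centralizer_iff]
    intro k hk
    rw [Set.mem_singleton_iff] at hk
    rw [hk, ← ht]
    calc t * z * t⁻¹ * (t * y * t⁻¹) = t * (z * y) * t⁻¹ := by group
      _ = t * (y * z) * t⁻¹ := by rw [hcomm.eq]
      _ = t * y * t⁻¹ * (t * z * t⁻¹) := by group
  have hord : orderOf (⟨t * y * t⁻¹, hcmem⟩ : ↥(Subgroup.centralizer ({x} : Set G))) =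
      orderOf y := by
    rw [← Subgroup.orderOf_coe]
    exact (MulAut.conj t).orderOf_eq y
  have hreg : ¬ p ∣ orderOf (⟨t * y * t⁻¹, hcmem⟩ : ↥(Subgroup.centralizer ({x} : Set G))) := by
    rw [hord]; exact hy
  have h1 := congrFun (h x hxX) ⟨t * y * t⁻¹, hcmem⟩
  rw [dmap_apply_reg _ _ hreg] at h1
  have h2 : x * (t * y * t⁻¹) = t * g * t⁻¹ := by
    rw [← ht, ← hzy]; group
  show φ g = 0
  rw [← hφ g t, ← h2]
  exact h1

/-- `T_x` preserves the span of a block. -/
theorem tmap_mem_charSpan [Finite G] {p : ℕ} {M : Ideal AlgInt} (hM : IsPModular p M)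
    {B : Set (IrrCharacter G)} (hB : IsPBlock M B) (x : G) {w : G → ℂ} (hw : w ∈ charSpan B) :
    tmap p x w ∈ charSpan B := by
  have := Fintype.ofFinite G
  have hle : (charSpan B).map (tmap p x) ≤ charSpan B := by
    unfold charSpan
    rw [Submodule.map_span_le]
    rintro _ ⟨χ, hχ, rfl⟩
    exact indicator_sec_mem_span hM hB x χ hχ
  exact hle (Submodule.mem_map_of_mem hw)

/-- The combined decomposition map on a subspace `W`. -/
noncomputable def Dmap (p : ℕ) (X : Finset G) (W : Submodule ℂ (G → ℂ)) :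
    W →ₗ[ℂ] ((x : ↥X) → ↥(W.map (dmap p (x : G)))) :=
  LinearMap.pi fun x => ((dmap p (x : G)).comp W.subtype).codRestrict (W.map (dmap p (x : G)))
    (fun w => Submodule.mem_map_of_mem w.2)

theorem Dmap_apply (p : ℕ) (X : Finset G) (W : Submodule ℂ (G → ℂ)) (w : W) (x : ↥X) :
    ((Dmap p X W w x : ↥(W.map (dmap p (x : G)))) :
      ↥(Subgroup.centralizer ({(x : G)} : Set G)) → ℂ) = dmap p (x : G) (w : G → ℂ) := rfl

/-- **Section decomposition**: the number of characters of a block is the sum over the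
representatives `x` of the classes of `p`-elements of the ranks of `d^x (span B)`. -/
theorem card_eq_sum_finrank [Finite G] {p : ℕ} {M : Ideal AlgInt} (hM : IsPModular p M)
    {B : Set (IrrCharacter G)} (hB : IsPBlock M B) (X : Finset G)
    (hX : ∀ x ∈ X, ∃ k : ℕ, orderOf x = p ^ k)
    (hXrep : ∀ g : G, (∃ k : ℕ, orderOf g = p ^ k) → ∃! x, x ∈ X ∧ IsConj g x) :
    Nat.card B = ∑ x ∈ X, Module.finrank ℂ ((charSpan B).map (dmap p x)) := by
  classical
  have hp : p.Prime := hM.1
  have hrep : ∀ g : G, (∃ k : ℕ, orderOf g = p ^ k) → ∃ x, x ∈ X ∧ IsConj g x := fun g hg =>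
    (hXrep g hg).exists
  have hconj : ∀ x ∈ X, ∀ x' ∈ X, IsConj x x' → x = x' := by
    intro x hx x' hx' hc
    obtain ⟨x₀, -, huniq⟩ := hXrep x (hX x hx)
    rw [huniq x ⟨hx, IsConj.refl x⟩, huniq x' ⟨hx', hc⟩]
  set W := charSpan B with hW
  have hinj : Function.Injective (Dmap p X W) := by
    rw [← LinearMap.ker_eq_bot, LinearMap.ker_eq_bot']
    intro w hw
    apply Subtype.ext
    apply eq_zero_of_dmap_eq_zero hp X hrep (isClassFunction_of_mem_charSpan w.2)
    intro x hx
    have := congrArg (fun f => ((f ⟨x, hx⟩ : ↥(W.map (dmap p x))) :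
      ↥(Subgroup.centralizer ({x} : Set G)) → ℂ)) hw
    exact this
  have hsurj : Function.Surjective (Dmap p X W) := by
    intro y
    have hex : ∀ x : ↥X, ∃ w : G → ℂ, w ∈ W ∧ dmap p (x : G) w = (y x : _) := fun x =>
      Submodule.mem_map.mp (y x).2
    choose w hwW hwy using hex
    have hmem : ∑ x : ↥X, tmap p (x : G) (w x) ∈ W :=
      Submodule.sum_mem _ fun x _ => tmap_mem_charSpan hM hB (x : G) (hwW x)
    refine ⟨⟨_, hmem⟩, ?_⟩
    funext x'
    apply Subtype.ext
    rw [Dmap_apply]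
    show dmap p (x' : G) (∑ x : ↥X, tmap p (x : G) (w x)) = _
    rw [map_sum]
    have h1 : ∀ x : ↥X, dmap p (x' : G) (tmap p (x : G) (w x)) =
        if x = x' then dmap p (x' : G) (w x) else 0 := by
      intro x
      rw [dmap_tmap hp (hX x' x'.2) (hconj x x.2 x' x'.2)]
      by_cases hxx : x = x'
      · rw [if_pos hxx, if_pos (congrArg Subtype.val hxx)]
      · rw [if_neg hxx, if_neg (fun h => hxx (Subtype.ext h))]
    simp_rw [h1]
    rw [Finset.sum_ite_eq' Finset.univ x' (fun x => dmap p (x' : G) (w x)),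
      if_pos (Finset.mem_univ _), hwy]
  have e := LinearEquiv.ofBijective (Dmap p X W) ⟨hinj, hsurj⟩
  rw [← finrank_charSpan B, ← hW, e.finrank_eq, Module.finrank_pi_fintype ℂ,
    ← Finset.sum_coe_sort X (fun x => Module.finrank ℂ ((charSpan B).map (dmap p x)))]

end Cfsg.Agent.Lib.Helper82_Subsections
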