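import Mathlib
import Cfsg.Prelude.Def_Blocks
import Cfsg.Prelude.Def_BlockRank
import Cfsg.Agent.Lib.Helper78_LocalRing
import Cfsg.Agent.Lib.Helper78_CharFacts
import Cfsg.Agent.Lib.Helper78_CentralChar
import Cfsg.Agent.Lib.Helper78_SecondMainChar
import Cfsg.Agent.Lib.Helper16_BlockOrth
import Cfsg.Agent.Lib.Helper16_InducedFusion
import Cfsg.Agent.Lib.Helper3_CharComplete
import Cfsg.Agent.Lib.Helper77_RegProj
import Cfsg.Agent.Lib.Helper82_Sections
import Cfsg.Agent.Lib.Helper82_SubsecRank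
import Cfsg.Agent.Lib.Helper82_Subsections

/-!
# Brauer's count of characters by subsections: the image of `d^x` (helper82)

For a `p`-element `x`, a block `B` of `G` and `S_B` the union of the blocks of `C_G(x)` inducing
`B`: `d^x (span B) = regSpan p S_B` (`map_dmap_charSpan`), a form of Brauer's second main theorem
plus the surjectivity of the generalized decomposition map.  Hence
`card_eq_sum_blockRank`: `k(B) = ∑_x ∑_{b^G = B} l(b)`.
-/

set_option autoImplicit false
set_option linter.unusedSectionVars false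

namespace Cfsg.Agent.Lib.Helper82_SubsecClaim

open Cfsg Cfsg.Agent.Lib.Helper78_LocalRing Cfsg.Agent.Lib.Helper78_CharFacts
  Cfsg.Agent.Lib.Helper16_BlockOrth Cfsg.Agent.Lib.Helper82_Sections
  Cfsg.Agent.Lib.Helper82_SubsecRank Cfsg.Agent.Lib.Helper77_RegProj
  Cfsg.Agent.Lib.Helper82_Subsections

open scoped ComplexConjugate

universe u

variable {G : Type u} [Group G]

/-- The union of the blocks of `C_G(x)` inducing `B`. -/
def indSet (M : Ideal AlgInt) (x : G) (B : Set (IrrCharacter G)) :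
    Set (IrrCharacter ↥(Subgroup.centralizer ({x} : Set G))) :=
  ⋃₀ {b | IsInducedBlock M (Subgroup.centralizer ({x} : Set G)) b B}

/-- A block induces at most one block (copy of helper78's lemma, to keep imports light). -/
theorem isInducedBlock_unique' {M : Ideal AlgInt} (hM : M.IsPrime) {H : Subgroup G}
    {b : Set (IrrCharacter H)} {B₁ B₂ : Set (IrrCharacter G)} (h1 : IsInducedBlock M H b B₁)
    (h2 : IsInducedBlock M H b B₂) : B₁ = B₂ := by
  obtain ⟨ξ, hξ⟩ := isPBlock_nonempty hM h1.1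
  obtain ⟨χ₁, hχ₁⟩ := isPBlock_nonempty hM h1.2.1
  obtain ⟨χ₂, hχ₂⟩ := isPBlock_nonempty hM h2.2.1
  have hsb : SameBlock M (χ₁ : G → ℂ) (χ₂ : G → ℂ) := by
    intro g
    have e1 := h1.2.2 ξ hξ χ₁ hχ₁ g
    have e2 := h2.2.2 ξ hξ χ₂ hχ₂ g
    have := memLocalIdeal_sub hM e2 e1
    have h3 : inducedCentralChar H (ξ : H → ℂ) g - centralChar (χ₂ : G → ℂ) g -
        (inducedCentralChar H (ξ : H → ℂ) g - centralChar (χ₁ : G → ℂ) g) =
        centralChar (χ₁ : G → ℂ) g - centralChar (χ₂ : G → ℂ) g := by ring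
    rwa [h3] at this
  exact isPBlock_eq_of_mem_of_mem hM h1.2.1 h2.2.1
    (isPBlock_mem_of_sameBlock hM h1.2.1 hχ₁ (sameBlock_refl hM _))
    (isPBlock_mem_of_sameBlock hM h2.2.1 hχ₂ (sameBlock_symm hsb))

/-- The complement of `indSet` is the union of the blocks not inducing `B`. -/
theorem compl_indSet {M : Ideal AlgInt} (hM : M.IsPrime) (x : G) (B : Set (IrrCharacter G)) :
    (indSet M x B)ᶜ = ⋃₀ {b | IsPBlock M b ∧
      ¬ IsInducedBlock M (Subgroup.centralizer ({x} : Set G)) b B} := by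
  ext ξ
  constructor
  · intro hξ
    have hself : ξ ∈ blockOf M (ξ : ↥(Subgroup.centralizer ({x} : Set G)) → ℂ) :=
      mem_blockOf_self hM ξ
    refine ⟨blockOf M (ξ : ↥(Subgroup.centralizer ({x} : Set G)) → ℂ),
      ⟨isPBlock_blockOf ξ, fun hind => hξ ?_⟩, hself⟩
    exact ⟨_, hind, hself⟩
  · rintro ⟨b, ⟨hb, hnot⟩, hξb⟩ ⟨b', hb', hξb'⟩
    have hbb : b = b' := isPBlock_eq_of_mem_of_mem hM hb hb'.1 hξb hξb'
    rw [hbb] at hnot
    exact hnot hb'

section general

variable {K : Type u} [Group K] [Finite K]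

/-- The `p`-regular part of the `S`-part of a function lies in `regSpan p S`. -/
theorem regPart_blockPart_mem (p : ℕ) (S : Set (IrrCharacter K)) (ϑ : K → ℂ) :
    pRegularPart p (blockPart S ϑ) ∈ regSpan p S := by
  classical
  let _ : Fintype K := Fintype.ofFinite K
  have hfin : Finite (IrrCharacter K) := charFacts.finite
  have h : blockPart S ϑ = ∑ χ ∈ (Set.toFinite S).toFinset,
      (classInner ϑ (χ : K → ℂ)) • (χ : K → ℂ) := by
    funext g
    unfold blockPart
    rw [finsum_mem_eq_finite_toFinset_sum _ (Set.toFinite S)]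
    simp only [Finset.sum_apply, Pi.smul_apply, smul_eq_mul]
  rw [h, ← regL_apply, map_sum]
  apply Submodule.sum_mem
  intro χ hχ
  rw [map_smul]
  apply Submodule.smul_mem
  apply Submodule.subset_span
  exact ⟨χ, (Set.Finite.mem_toFinset _).mp hχ, rfl⟩

/-- A class function is the sum of its `S`-part and its `Sᶜ`-part. -/
theorem blockPart_add_compl (S : Set (IrrCharacter K)) {ϑ : K → ℂ} (hϑ : IsClassFunction K ϑ)
    (y : K) : ϑ y = blockPart S ϑ y + blockPart Sᶜ ϑ y := by
  classical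
  let _ : Fintype K := Fintype.ofFinite K
  have hfin : Finite (IrrCharacter K) := charFacts.finite
  have h1 := Cfsg.Agent.Lib.Helper3_CharComplete.classFunction_eq_finsum ϑ hϑ
  have h2 : ϑ y = ∑ᶠ χ : IrrCharacter K, classInner ϑ (χ : K → ℂ) * (χ : K → ℂ) y := by
    conv_lhs => rw [h1]
    rw [finsum_eq_sum_of_fintype, finsum_eq_sum_of_fintype]
    simp only [Finset.sum_apply, Pi.smul_apply, smul_eq_mul]
  rw [h2]
  unfold blockPart
  rw [← finsum_mem_union disjoint_compl_right (Set.toFinite S) (Set.toFinite Sᶜ),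
    Set.union_compl_self, finsum_mem_univ]

/-- The part of a union of blocks is the sum of the parts. -/
theorem blockPart_sUnion {M : Ideal AlgInt} (hM : M.IsPrime) (𝔅 : Set (Set (IrrCharacter K)))
    (h𝔅 : ∀ b ∈ 𝔅, IsPBlock M b) (ϑ : K → ℂ) (y : K) :
    blockPart (⋃₀ 𝔅) ϑ y = ∑ᶠ b ∈ 𝔅, blockPart b ϑ y := by
  classical
  have := Fintype.ofFinite K
  have hfin : Finite (IrrCharacter K) := charFacts.finite
  have hdisj : 𝔅.PairwiseDisjoint id := by
    intro b hb b' hb' hne
    exact isPBlock_disjoint_of_ne hM (h𝔅 b hb) (h𝔅 b' hb') hne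
  unfold blockPart
  exact finsum_mem_sUnion hdisj (Set.toFinite 𝔅) (fun b _ => Set.toFinite b)

theorem isClassFunction_pRegularPart (p : ℕ) {η : K → ℂ} (hη : IsClassFunction K η) :
    IsClassFunction K (pRegularPart p η) := by
  intro g h
  have hord : orderOf (h * g * h⁻¹) = orderOf g := (MulAut.conj h).orderOf_eq g
  by_cases hg : p ∣ orderOf g
  · rw [pRegularPart_of_sing _ hg, pRegularPart_of_sing _ (by rw [hord]; exact hg)]
  · rw [pRegularPart_of_reg _ hg, pRegularPart_of_reg _ (by rw [hord]; exact hg), hη]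

end general

/-- A class function of `G`, shifted by `x`, is a class function on the centralizer of `x`. -/
theorem isClassFunction_shift (x : G) {φ : G → ℂ} (hφ : IsClassFunction G φ) :
    IsClassFunction ↥(Subgroup.centralizer ({x} : Set G))
      (fun c : ↥(Subgroup.centralizer ({x} : Set G)) => φ (x * (c : G))) := by
  intro c k
  show φ (x * ((k * c * k⁻¹ : ↥(Subgroup.centralizer ({x} : Set G))) : G)) = φ (x * (c : G))
  push_cast
  have hk : x * (k : G) = (k : G) * x := (commute_of_mem_centralizer k).eq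
  have : x * ((k : G) * (c : G) * (k : G)⁻¹) = (k : G) * (x * (c : G)) * (k : G)⁻¹ := by
    calc x * ((k : G) * (c : G) * (k : G)⁻¹) = (x * (k : G)) * (c : G) * (k : G)⁻¹ := by group
      _ = ((k : G) * x) * (c : G) * (k : G)⁻¹ := by rw [hk]
      _ = (k : G) * (x * (c : G)) * (k : G)⁻¹ := by group
  rw [this, hφ]

/-- **Second main theorem, span form**: for `χ ∈ B`, `d^x χ` lies in the span of the `p`-regular
parts of the characters of `C_G(x)` in blocks inducing `B`. -/
theorem dmap_irr_mem_regSpan [Finite G] {p : ℕ} {M : Ideal AlgInt} (hM : IsPModular p M) {x : G}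
    (hx : ∃ k : ℕ, orderOf x = p ^ k) {B : Set (IrrCharacter G)} (hB : IsPBlock M B)
    {χ : IrrCharacter G} (hχ : χ ∈ B) :
    dmap p x (χ : G → ℂ) ∈ regSpan p (indSet M x B) := by
  classical
  have hfact : Fact p.Prime := ⟨hM.1⟩
  have hMp : M.IsPrime := isPrime_of_isPModular hM
  have hϑ : IsClassFunction ↥(Subgroup.centralizer ({x} : Set G))
      (fun c : ↥(Subgroup.centralizer ({x} : Set G)) => (χ : G → ℂ) (x * (c : G))) :=
    isClassFunction_shift x (Cfsg.Agent.Lib.Helper78_CentralChar.isIrrCharacter_isClassFunction χ.2)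
  have hzero : ∀ y : ↥(Subgroup.centralizer ({x} : Set G)), ¬ p ∣ orderOf y →
      blockPart (indSet M x B)ᶜ
        (fun c : ↥(Subgroup.centralizer ({x} : Set G)) => (χ : G → ℂ) (x * (c : G))) y = 0 := by
    intro y hy
    rw [compl_indSet hMp, blockPart_sUnion hMp _ (fun b hb => hb.1)]
    apply finsum_mem_eq_zero_of_forall_eq_zero
    intro b hb
    exact Cfsg.Agent.Lib.Helper78_SecondMainChar.second_main_char hM x hx B hB χ hχ b hb.1 hb.2
      y hy
  have heq : dmap p x (χ : G → ℂ) = pRegularPart p (blockPart (indSet M x B)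
      (fun c : ↥(Subgroup.centralizer ({x} : Set G)) => (χ : G → ℂ) (x * (c : G)))) := by
    rw [dmap_eq]
    funext y
    by_cases hy : p ∣ orderOf y
    · rw [pRegularPart_of_sing _ hy, pRegularPart_of_sing _ hy]
    · rw [pRegularPart_of_reg _ hy, pRegularPart_of_reg _ hy,
        blockPart_add_compl (indSet M x B) hϑ y, hzero y hy, add_zero]
  rw [heq]
  exact regPart_blockPart_mem p _ _

section lift

variable [Fintype G]

/-- Extension by zero of `c ↦ η c` along `c ↦ x * c`. -/
noncomputable def liftF (x : G) (η : ↥(Subgroup.centralizer ({x} : Set G)) → ℂ) (g : G) : ℂ := by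
  classical
  exact if h : x⁻¹ * g ∈ Subgroup.centralizer ({x} : Set G) then η ⟨x⁻¹ * g, h⟩ else 0

/-- The class function of `G` obtained by averaging `liftF` (an induced class function). -/
noncomputable def liftC (x : G) (η : ↥(Subgroup.centralizer ({x} : Set G)) → ℂ) (g : G) : ℂ :=
  (Nat.card ↥(Subgroup.centralizer ({x} : Set G)) : ℂ)⁻¹ * ∑ t : G, liftF x η (t⁻¹ * g * t)

theorem isClassFunction_liftC (x : G) (η : ↥(Subgroup.centralizer ({x} : Set G)) → ℂ) :
    IsClassFunction G (liftC x η) := by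
  intro g s
  unfold liftC
  congr 1
  rw [← Equiv.sum_comp (Equiv.mulLeft s)]
  refine Finset.sum_congr rfl fun t _ => ?_
  congr 1
  simp only [Equiv.coe_mulLeft]
  group

theorem liftF_conj {p : ℕ} (hp : p.Prime) {x : G} (hx : ∃ k : ℕ, orderOf x = p ^ k)
    {η : ↥(Subgroup.centralizer ({x} : Set G)) → ℂ}
    (hη : IsClassFunction ↥(Subgroup.centralizer ({x} : Set G)) η)
    (hsupp : ∀ c, p ∣ orderOf c → η c = 0) (c : ↥(Subgroup.centralizer ({x} : Set G)))
    (hc : ¬ p ∣ orderOf c) (t : G) :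
    liftF x η (t⁻¹ * (x * (c : G)) * t) =
      by classical exact if t ∈ Subgroup.centralizer ({x} : Set G) then η c else 0 := by
  classical
  have hcG : ¬ p ∣ orderOf (c : G) := by rwa [Subgroup.orderOf_coe]
  by_cases ht : t ∈ Subgroup.centralizer ({x} : Set G)
  · rw [if_pos ht]
    have hxt : Commute x t := Subgroup.mem_centralizer_iff.mp ht x (Set.mem_singleton x)
    have key : x⁻¹ * (t⁻¹ * (x * (c : G)) * t) = t⁻¹ * (c : G) * t := by
      have h1 : t⁻¹ * x = x * t⁻¹ := (hxt.inv_right).eq.symm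
      calc x⁻¹ * (t⁻¹ * (x * (c : G)) * t) = x⁻¹ * (t⁻¹ * x) * (c : G) * t := by group
        _ = x⁻¹ * (x * t⁻¹) * (c : G) * t := by rw [h1]
        _ = t⁻¹ * (c : G) * t := by group
    have hmem : x⁻¹ * (t⁻¹ * (x * (c : G)) * t) ∈ Subgroup.centralizer ({x} : Set G) := by
      rw [key]
      exact Subgroup.mul_mem _ (Subgroup.mul_mem _ (Subgroup.inv_mem _ ht) c.2) ht
    unfold liftF
    rw [dif_pos hmem]
    have heq : (⟨x⁻¹ * (t⁻¹ * (x * (c : G)) * t), hmem⟩ : ↥(Subgroup.centralizer ({x} : Set G))) =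
        (⟨t, ht⟩ : ↥(Subgroup.centralizer ({x} : Set G)))⁻¹ * c *
          ((⟨t, ht⟩ : ↥(Subgroup.centralizer ({x} : Set G)))⁻¹)⁻¹ := by
      apply Subtype.ext
      show x⁻¹ * (t⁻¹ * (x * (c : G)) * t) = _
      rw [key]
      simp
    rw [heq, hη]
  · rw [if_neg ht]
    unfold liftF
    by_cases h : x⁻¹ * (t⁻¹ * (x * (c : G)) * t) ∈ Subgroup.centralizer ({x} : Set G)
    · rw [dif_pos h]
      by_cases hc' : p ∣ orderOf (⟨x⁻¹ * (t⁻¹ * (x * (c : G)) * t), h⟩ :
          ↥(Subgroup.centralizer ({x} : Set G)))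
      · exact hsupp _ hc'
      · exfalso
        apply ht
        have hc'G : ¬ p ∣ orderOf (x⁻¹ * (t⁻¹ * (x * (c : G)) * t)) := by
          rw [← Subgroup.orderOf_coe] at hc'
          exact hc'
        have hcomm' : Commute x (x⁻¹ * (t⁻¹ * (x * (c : G)) * t)) :=
          Subgroup.mem_centralizer_iff.mp h x (Set.mem_singleton x)
        have P1 : IsPPart p (x * (x⁻¹ * (t⁻¹ * (x * (c : G)) * t))) x :=
          isPPart_mul hx hcomm' hc'G
        rw [mul_inv_cancel_left] at P1
        have P2 := Cfsg.Agent.Lib.Helper16_InducedFusion.isPPart_conj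
          (isPPart_mul hx (commute_of_mem_centralizer c) hcG) t⁻¹
        rw [inv_inv] at P2
        have hxx : x = t⁻¹ * x * t :=
          Cfsg.Agent.Lib.Helper78_SecondMainChar.isPPart_unique hp P1 P2
        rw [Subgroup.mem_centralizer_iff]
        intro k hk
        rw [Set.mem_singleton_iff] at hk
        rw [hk]
        calc x * t = t * (t⁻¹ * x * t) := by group
          _ = t * x := by rw [← hxx]
    · rw [dif_neg h]

theorem liftC_apply {p : ℕ} (hp : p.Prime) {x : G} (hx : ∃ k : ℕ, orderOf x = p ^ k)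
    {η : ↥(Subgroup.centralizer ({x} : Set G)) → ℂ}
    (hη : IsClassFunction ↥(Subgroup.centralizer ({x} : Set G)) η)
    (hsupp : ∀ c, p ∣ orderOf c → η c = 0) (c : ↥(Subgroup.centralizer ({x} : Set G)))
    (hc : ¬ p ∣ orderOf c) : liftC x η (x * (c : G)) = η c := by
  classical
  unfold liftC
  simp_rw [liftF_conj hp hx hη hsupp c hc]
  rw [Finset.sum_ite, Finset.sum_const_zero, add_zero, Finset.sum_const, nsmul_eq_mul]
  have hcard : (Finset.filter (fun t : G => t ∈ Subgroup.centralizer ({x} : Set G))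
      Finset.univ).card = Nat.card ↥(Subgroup.centralizer ({x} : Set G)) := by
    rw [Nat.card_eq_fintype_card, Fintype.card_subtype]
  rw [hcard]
  have hne : (Nat.card ↥(Subgroup.centralizer ({x} : Set G)) : ℂ) ≠ 0 := by
    exact_mod_cast (Nat.card_pos (α := ↥(Subgroup.centralizer ({x} : Set G)))).ne'
  field_simp

theorem dmap_liftC {p : ℕ} (hp : p.Prime) {x : G} (hx : ∃ k : ℕ, orderOf x = p ^ k)
    {η : ↥(Subgroup.centralizer ({x} : Set G)) → ℂ}
    (hη : IsClassFunction ↥(Subgroup.centralizer ({x} : Set G)) η)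
    (hsupp : ∀ c, p ∣ orderOf c → η c = 0) : dmap p x (liftC x η) = η := by
  funext c
  by_cases hc : p ∣ orderOf c
  · rw [dmap_apply_sing _ _ hc, hsupp c hc]
  · rw [dmap_apply_reg _ _ hc, liftC_apply hp hx hη hsupp c hc]

end lift

/-- The idempotent of `indSet` has local-integer coefficients. -/
theorem memLocalRing_blockCoeff_indSet [Finite G] {M : Ideal AlgInt} (hM : M.IsPrime) (x : G)
    (B : Set (IrrCharacter G)) (g : ↥(Subgroup.centralizer ({x} : Set G))) :
    MemLocalRing M (blockCoeff (indSet M x B) g) := by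
  apply osima' hM
  rintro ξ ⟨b, hb, hξ⟩ ψ hsb
  exact ⟨b, hb, isPBlock_mem_of_sameBlock hM hb.1 hξ hsb⟩

/-- **Surjectivity**: for `ξ` in a block of `C_G(x)` inducing `B`, the `p`-regular part of `ξ` is
`d^x` of an element of the span of `B`. -/
theorem regPart_mem_map [Finite G] {p : ℕ} {M : Ideal AlgInt} (hM : IsPModular p M) {x : G}
    (hx : ∃ k : ℕ, orderOf x = p ^ k) {B : Set (IrrCharacter G)} (hB : IsPBlock M B)
    {ξ : IrrCharacter ↥(Subgroup.centralizer ({x} : Set G))} (hξ : ξ ∈ indSet M x B) :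
    pRegularPart p (ξ : ↥(Subgroup.centralizer ({x} : Set G)) → ℂ) ∈
      (charSpan B).map (dmap p x) := by
  classical
  have := Fintype.ofFinite G
  have := Fintype.ofFinite ↥(Subgroup.centralizer ({x} : Set G))
  have hp : p.Prime := hM.1
  have hMp : M.IsPrime := isPrime_of_isPModular hM
  have hfinI : Finite (IrrCharacter G) := charFacts.finite
  set η : ↥(Subgroup.centralizer ({x} : Set G)) → ℂ :=
    pRegularPart p (ξ : ↥(Subgroup.centralizer ({x} : Set G)) → ℂ) with hηdef
  have hηc : IsClassFunction ↥(Subgroup.centralizer ({x} : Set G)) η :=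
    isClassFunction_pRegularPart p
      (Cfsg.Agent.Lib.Helper78_CentralChar.isIrrCharacter_isClassFunction ξ.2)
  have hsupp : ∀ c, p ∣ orderOf c → η c = 0 := fun c hc => pRegularPart_of_sing _ hc
  set φ : G → ℂ := liftC x η with hφdef
  have hφ : IsClassFunction G φ := isClassFunction_liftC x η
  have hd : dmap p x φ = η := dmap_liftC hp hx hηc hsupp
  have hexp := Cfsg.Agent.Lib.Helper3_CharComplete.classFunction_eq_sum φ hφ
  set φB : G → ℂ := ∑ χ ∈ Finset.univ.filter (fun χ : IrrCharacter G => χ ∈ B),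
    classInner φ (χ : G → ℂ) • (χ : G → ℂ) with hφB
  set φB' : G → ℂ := ∑ χ ∈ Finset.univ.filter (fun χ : IrrCharacter G => ¬ χ ∈ B),
    classInner φ (χ : G → ℂ) • (χ : G → ℂ) with hφB'
  have hsplit : φ = φB + φB' := by
    conv_lhs => rw [hexp]
    exact (Finset.sum_filter_add_sum_filter_not _ _ _).symm
  have hφBmem : φB ∈ charSpan B := by
    apply Submodule.sum_mem
    intro χ hχ
    exact Submodule.smul_mem _ _ (mem_charSpan_of_mem (Finset.mem_filter.mp hχ).2)
  have h1 : dmap p x φB ∈ regSpan p (indSet M x B) := by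
    rw [hφB, map_sum]
    apply Submodule.sum_mem
    intro χ hχ
    rw [map_smul]
    exact Submodule.smul_mem _ _ (dmap_irr_mem_regSpan hM hx hB (Finset.mem_filter.mp hχ).2)
  have h2 : dmap p x φB' ∈ regSpan p (indSet M x B)ᶜ := by
    rw [hφB', map_sum]
    apply Submodule.sum_mem
    intro χ hχ
    rw [map_smul]
    apply Submodule.smul_mem
    have hχB : χ ∉ B := (Finset.mem_filter.mp hχ).2
    have hmem := dmap_irr_mem_regSpan hM hx (isPBlock_blockOf (M := M) χ) (mem_blockOf_self hMp χ)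
    refine regSpan_mono p ?_ hmem
    rintro ξ' ⟨b, hb, hξ'b⟩ ⟨b', hb', hξ'b'⟩
    have hbb : b = b' := isPBlock_eq_of_mem_of_mem hMp hb.1 hb'.1 hξ'b hξ'b'
    subst hbb
    have hBB : blockOf M (χ : G → ℂ) = B := isInducedBlock_unique' hMp hb hb'
    exact hχB (hBB ▸ mem_blockOf_self hMp χ)
  have h3 : η - dmap p x φB = dmap p x φB' := by
    rw [← hd, hsplit, map_add]
    abel
  have hηmem : η ∈ regSpan p (indSet M x B) := Submodule.subset_span ⟨ξ, hξ, rfl⟩
  have h4 : η - dmap p x φB ∈ regSpan p (indSet M x B) := Submodule.sub_mem _ hηmem h1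
  have hdisj := disjoint_regSpan_compl hM (indSet M x B)
    (memLocalRing_blockCoeff_indSet hMp x B)
  have h5 : η - dmap p x φB = 0 :=
    (Submodule.disjoint_def.mp hdisj) _ h4 (h3 ▸ h2)
  exact ⟨φB, hφBmem, (sub_eq_zero.mp h5).symm⟩

/-- **The image of the generalized decomposition map on a block.** -/
theorem map_dmap_charSpan [Finite G] {p : ℕ} {M : Ideal AlgInt} (hM : IsPModular p M) {x : G}
    (hx : ∃ k : ℕ, orderOf x = p ^ k) {B : Set (IrrCharacter G)} (hB : IsPBlock M B) :
    (charSpan B).map (dmap p x) = regSpan p (indSet M x B) := by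
  apply le_antisymm
  · unfold charSpan
    rw [Submodule.map_span_le]
    rintro _ ⟨χ, hχ, rfl⟩
    exact dmap_irr_mem_regSpan hM hx hB hχ
  · unfold regSpan
    rw [Submodule.span_le]
    rintro _ ⟨ξ, hξ, rfl⟩
    exact regPart_mem_map hM hx hB hξ

/-- **Brauer's count of the characters of a block by subsections.** -/
theorem card_eq_sum_blockRank [Finite G] {p : ℕ} {M : Ideal AlgInt} (hM : IsPModular p M)
    {B : Set (IrrCharacter G)} (hB : IsPBlock M B) (X : Finset G)
    (hX : ∀ x ∈ X, ∃ k : ℕ, orderOf x = p ^ k)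
    (hXrep : ∀ g : G, (∃ k : ℕ, orderOf g = p ^ k) → ∃! x, x ∈ X ∧ IsConj g x) :
    Nat.card B = ∑ x ∈ X, ∑ᶠ b ∈ {b : Set (IrrCharacter ↥(Subgroup.centralizer ({x} : Set G))) |
      IsInducedBlock M (Subgroup.centralizer ({x} : Set G)) b B}, blockRank p b := by
  rw [card_eq_sum_finrank hM hB X hX hXrep]
  refine Finset.sum_congr rfl fun x hx => ?_
  rw [map_dmap_charSpan hM (hX x hx) hB]
  exact finrank_regSpan_sUnion hM _ (fun b hb => hb.1)

end Cfsg.Agent.Lib.Helper82_SubsecClaim
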