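import Mathlib
import Cfsg.Prelude.Def_Blocks
import Cfsg.Prelude.Def_OddOrderLocal
import Cfsg.Agent.Lib.Helper78_LocalRing
import Cfsg.Agent.Lib.Helper78_CentralChar
import Cfsg.Agent.Lib.Helper78_Deficiency
import Cfsg.Agent.Lib.Helper78_SecondMainChar
import Cfsg.Agent.Lib.Helper78_PiCoreKer
import Cfsg.Agent.Lib.Helper78_PiCoreMain
import Cfsg.Agent.Lib.Helper77_QuotDefect2
import Cfsg.Agent.Lib.Helper82_SubsecClaim

/-!
# Brauer: characters of a block are constant on cosets of `π'`-elements (helper78, S4727)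

`B` is a block with defect group `D` whose Brauer correspondent `B₁` has `O_{π'}(N_G(D))` in its
kernel.  For a `p`-element `y` such that `C_G(y)` has a normal Hall `π'`-subgroup, every `χ ∈ B`
satisfies `χ(y x) = χ(y)` for the `π'`-elements `x` of `C_G(y)`: by the second main theorem only
the blocks of `C_G(y)` inducing `B` contribute to `χ(y ·)` on `p`-regular elements, and these
blocks have `O_{π'}(C_G(y))` in their kernel (`Helper78_PiCoreMain.descend`).
-/

set_option autoImplicit false
set_option linter.unusedSectionVars false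

namespace Cfsg.Agent.Lib.Helper78_PiCoreSecond

open Cfsg Cfsg.Agent.Lib.Helper78_LocalRing Cfsg.Agent.Lib.Helper78_CentralChar
  Cfsg.Agent.Lib.Helper78_Deficiency Cfsg.Agent.Lib.Helper78_PiCoreKer
  Cfsg.Agent.Lib.Helper78_PiCoreMain Cfsg.Agent.Lib.Helper82_SubsecClaim

universe u

variable {G : Type u} [Group G] [Finite G] {M : Ideal AlgInt} {p : ℕ} [Fact p.Prime]

/-- Blocks of the centralizer of a `p`-element `y` inducing `B` inherit the kernel condition. -/
theorem kerP_centralizer (hM : IsPModular p M) {π : Set ℕ} (hpπ : p ∈ π)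
    {B : Set (IrrCharacter G)} (hB : IsPBlock M B)
    {D : Subgroup G} (hBD : IsDefectGroup p M B D)
    {B₁ : Set (IrrCharacter (Subgroup.normalizer (D : Set G)))}
    (hB₁ : IsInducedBlock M (Subgroup.normalizer (D : Set G)) B₁ B)
    (hB₁D : IsDefectGroup p M B₁ (D.subgroupOf (Subgroup.normalizer (D : Set G))))
    (hker : KerP π B₁) {y : G} (hy : ∃ k : ℕ, orderOf y = p ^ k)
    {b : Set (IrrCharacter (Subgroup.centralizer ({y} : Set G)))}
    (hb : IsInducedBlock M (Subgroup.centralizer ({y} : Set G)) b B) : KerP π b := by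
  obtain ⟨D₀, hD₀⟩ := exists_isDefectGroup hM hb.1
  obtain ⟨hZp, hZC, -, hCN⟩ := centralizer_facts (p := p) hy
  have hn : ((Subgroup.zpowers y).subgroupOf (Subgroup.centralizer ({y} : Set G))).Normal := by
    constructor
    intro d hd k
    rw [Subgroup.mem_subgroupOf] at hd ⊢
    have := (Subgroup.mem_set_normalizer_iff.mp (hCN k.2) (d : G)).mp hd
    simpa using this
  have hZp' : IsPGroup p ((Subgroup.zpowers y).subgroupOf (Subgroup.centralizer ({y} : Set G))) :=
    hZp.comap_of_injective _ (Subgroup.subtype_injective _)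
  have hle := Cfsg.Agent.Lib.Helper77_QuotDefect2.le_of_isDefectGroup hM
    ((Subgroup.zpowers y).subgroupOf (Subgroup.centralizer ({y} : Set G))) hZp' hb.1 hD₀
  have hyC : y ∈ Subgroup.centralizer ({y} : Set G) := hZC (Subgroup.mem_zpowers y)
  have hyD : y ∈ D₀.map (Subgroup.centralizer ({y} : Set G)).subtype :=
    ⟨⟨y, hyC⟩, hle (Subgroup.mem_subgroupOf.mpr (Subgroup.mem_zpowers y)), rfl⟩
  have hC : Subgroup.centralizer
      ((D₀.map (Subgroup.centralizer ({y} : Set G)).subtype : Subgroup G) : Set G) ≤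
      Subgroup.centralizer ({y} : Set G) :=
    Subgroup.centralizer_le (by
      intro z hz
      rw [Set.mem_singleton_iff] at hz
      rw [hz]
      exact hyD)
  exact descend hM hpπ hB hBD hB₁ hB₁D hker hb hD₀ hC

/-- **S4727.** -/
theorem coset_const (hM : IsPModular p M) {π : Set ℕ} (hpπ : p ∈ π)
    {B : Set (IrrCharacter G)} (hB : IsPBlock M B)
    {D : Subgroup G} (hBD : IsDefectGroup p M B D)
    {B₁ : Set (IrrCharacter (Subgroup.normalizer (D : Set G)))}
    (hB₁ : IsInducedBlock M (Subgroup.normalizer (D : Set G)) B₁ B)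
    (hB₁D : IsDefectGroup p M B₁ (D.subgroupOf (Subgroup.normalizer (D : Set G))))
    (hker : KerP π B₁) {y : G} (hy : ∃ k : ℕ, orderOf y = p ^ k)
    (hC : HallP π (Subgroup.centralizer ({y} : Set G)))
    {χ : IrrCharacter G} (hχ : χ ∈ B) {x : G} (hx : x ∈ Subgroup.centralizer ({y} : Set G))
    (hxπ : ∀ q : ℕ, q.Prime → q ∣ orderOf x → q ∉ π) :
    (χ : G → ℂ) (y * x) = (χ : G → ℂ) y := by
  classical
  have hMp := isPrime_of_isPModular hM
  have hpp : p.Prime := hM.1
  have hη : IsClassFunction ↥(Subgroup.centralizer ({y} : Set G))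
      (fun c : ↥(Subgroup.centralizer ({y} : Set G)) => (χ : G → ℂ) (y * (c : G))) :=
    isClassFunction_shift y (isIrrCharacter_isClassFunction χ.2)
  -- the complement of the inducing blocks does not contribute on `p`-regular elements
  have hzero : ∀ c : ↥(Subgroup.centralizer ({y} : Set G)), ¬ p ∣ orderOf c →
      blockPart (indSet M y B)ᶜ
        (fun c : ↥(Subgroup.centralizer ({y} : Set G)) => (χ : G → ℂ) (y * (c : G))) c = 0 := by
    intro c hc
    rw [compl_indSet hMp, blockPart_sUnion hMp _ (fun b hb => hb.1)]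
    apply finsum_mem_eq_zero_of_forall_eq_zero
    intro b hb
    exact Cfsg.Agent.Lib.Helper78_SecondMainChar.second_main_char hM y hy B hB χ hχ b hb.1 hb.2
      c hc
  have hreg : ∀ c : ↥(Subgroup.centralizer ({y} : Set G)), ¬ p ∣ orderOf c →
      (χ : G → ℂ) (y * (c : G)) = blockPart (indSet M y B)
        (fun c : ↥(Subgroup.centralizer ({y} : Set G)) => (χ : G → ℂ) (y * (c : G))) c := by
    intro c hc
    have h1 := blockPart_add_compl (indSet M y B) hη c
    rw [hzero c hc, add_zero] at h1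
    exact h1
  -- the element `x` in the centralizer
  have hxo : orderOf (⟨x, hx⟩ : ↥(Subgroup.centralizer ({y} : Set G))) = orderOf x :=
    Subgroup.orderOf_mk x hx
  have hxcore : (⟨x, hx⟩ : ↥(Subgroup.centralizer ({y} : Set G))) ∈
      piCore {q | q ∉ π} ↥(Subgroup.centralizer ({y} : Set G)) := by
    apply hC
    intro q hq hd
    rw [hxo] at hd
    exact hxπ q hq hd
  have hxreg : ¬ p ∣ orderOf (⟨x, hx⟩ : ↥(Subgroup.centralizer ({y} : Set G))) := by
    rw [hxo]
    intro hd
    exact hxπ p hpp hd hpπ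
  have h1reg : ¬ p ∣ orderOf (1 : ↥(Subgroup.centralizer ({y} : Set G))) := by
    rw [orderOf_one]
    exact hpp.one_lt.ne' ∘ Nat.dvd_one.mp
  have e1 := hreg ⟨x, hx⟩ hxreg
  have e2 := hreg 1 h1reg
  have e3 : blockPart (indSet M y B)
      (fun c : ↥(Subgroup.centralizer ({y} : Set G)) => (χ : G → ℂ) (y * (c : G))) ⟨x, hx⟩ =
      blockPart (indSet M y B)
      (fun c : ↥(Subgroup.centralizer ({y} : Set G)) => (χ : G → ℂ) (y * (c : G))) 1 := by
    unfold blockPart
    apply finsum_mem_congr rfl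
    intro ψ hψ
    obtain ⟨b, hb, hψb⟩ := Set.mem_sUnion.mp hψ
    have hk := kerP_centralizer hM hpπ hB hBD hB₁ hB₁D hker hy hb
    rw [hk ⟨x, hx⟩ hxcore ψ hψb]
  simp only [Subgroup.coe_one, mul_one] at e2
  rw [show (χ : G → ℂ) (y * x) = (χ : G → ℂ) (y * ((⟨x, hx⟩ :
    ↥(Subgroup.centralizer ({y} : Set G))) : G)) from rfl, e1, e3, ← e2]

end Cfsg.Agent.Lib.Helper78_PiCoreSecond
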