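import Mathlib
import Cfsg.Agent.Lib.Helper50_ReeMultDefs
import Cfsg.Agent.Lib.Helper99_S2113_BRK
import Cfsg.Agent.Lib.Helper99_S2113_LNC1

set_option autoImplicit false

/-!
# S2113 market (architect helper50), package LNC2

`lnc_update_mul`: the left-normed commutator is multiplicative in each variable modulo the next term of the lower
central series; `lnc_congr`: modulo that term it depends only on the variables modulo `Z(P) P'`.
-/

namespace Cfsg.Agent.Lib.Helper78_S2113_LNC2

open scoped commutatorElement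
open Cfsg.Agent.Lib.Helper50_ReeMultDefs Cfsg.Agent.Lib.Helper99_S2113_BRK Cfsg.Agent.Lib.Helper99_S2113_LNC1

variable {P : Type*} [Group P]

/-- If `c'' ≡ c c'` modulo `γ_{n+1}` with `c, c' ∈ γ_n`, then `⁅c'', w⁆ ≡ ⁅c, w⁆ ⁅c', w⁆` modulo `γ_{n+2}`. -/
theorem brk_congr (n : ℕ) (c c' c'' w : P) (hc : c ∈ (⊤ : Subgroup P).lowerCentralSeries n)
    (hc' : c' ∈ (⊤ : Subgroup P).lowerCentralSeries n)
    (h : (c * c')⁻¹ * c'' ∈ (⊤ : Subgroup P).lowerCentralSeries (n + 1)) :
    (⁅c, w⁆ * ⁅c', w⁆)⁻¹ * ⁅c'', w⁆ ∈ (⊤ : Subgroup P).lowerCentralSeries (n + 1 + 1) := by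
  have he : (c * c')⁻¹ * c'' ∈ (⊤ : Subgroup P).lowerCentralSeries n :=
    Subgroup.lowerCentralSeries_antitone _ (Nat.le_succ n) h
  have h1 : (⁅c, w⁆ * ⁅c', w⁆)⁻¹ * ⁅c * c', w⁆ ∈ (⊤ : Subgroup P).lowerCentralSeries (n + 1 + 1) :=
    brk_mul_left ((⊤ : Subgroup P).lowerCentralSeries n) c c' w hc hc'
  have h2 : (⁅c * c', w⁆ * ⁅(c * c')⁻¹ * c'', w⁆)⁻¹ * ⁅c * c' * ((c * c')⁻¹ * c''), w⁆ ∈
      (⊤ : Subgroup P).lowerCentralSeries (n + 1 + 1) :=
    brk_mul_left ((⊤ : Subgroup P).lowerCentralSeries n) (c * c') ((c * c')⁻¹ * c'') w (mul_mem hc hc') he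
  have h3 : ⁅(c * c')⁻¹ * c'', w⁆ ∈ (⊤ : Subgroup P).lowerCentralSeries (n + 1 + 1) :=
    Subgroup.commutator_mem_commutator h (Subgroup.mem_top w)
  rw [mul_inv_cancel_left] at h2
  have e : (⁅c, w⁆ * ⁅c', w⁆)⁻¹ * ⁅c'', w⁆ =
      ((⁅c, w⁆ * ⁅c', w⁆)⁻¹ * ⁅c * c', w⁆) * ⁅(c * c')⁻¹ * c'', w⁆ *
        ((⁅c * c', w⁆ * ⁅(c * c')⁻¹ * c'', w⁆)⁻¹ * ⁅c'', w⁆) := by group
  rw [e]
  exact mul_mem (mul_mem h1 h3) h2

/-- (LNC2) -/
theorem lnc_update_mul (n : ℕ) (x : Fin (n + 1) → P) (i : Fin (n + 1)) (y y' : P) :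
    (lnc n (Function.update x i y) * lnc n (Function.update x i y'))⁻¹ *
      lnc n (Function.update x i (y * y')) ∈ (⊤ : Subgroup P).lowerCentralSeries (n + 1) := by
  induction n with
  | zero =>
    have hi : i = 0 := Fin.ext (by have := i.2; simp only [Fin.val_zero]; omega)
    subst hi
    simp only [lnc_zero, Function.update_self]
    rw [inv_mul_cancel]
    exact one_mem _
  | succ n ih =>
    induction i using Fin.lastCases with
    | last =>
      simp only [lnc_succ, Fin.init_update_last, Function.update_self]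
      exact brk_mul_right ((⊤ : Subgroup P).lowerCentralSeries n) _ y y' (lnc_mem n _)
    | cast j =>
      have hlast : ∀ z : P, Function.update x j.castSucc z (Fin.last (n + 1)) = x (Fin.last (n + 1)) :=
        fun z => Function.update_of_ne (Fin.castSucc_lt_last j).ne' _ _
      simp only [lnc_succ, Fin.init_update_castSucc, hlast]
      exact brk_congr n _ _ _ _ (lnc_mem n _) (lnc_mem n _) (ih (Fin.init x) j)

/-- A variable in `Z(P) P'` makes the left-normed commutator of `n + 1 ≥ 2` variables trivial modulo `γ_{n+2}`. -/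
theorem lnc_update_mem (n : ℕ) (hn : 1 ≤ n) (x : Fin (n + 1) → P) (i : Fin (n + 1)) (z : P)
    (hz : z ∈ Subgroup.center P ⊔ commutator P) :
    lnc n (Function.update x i z) ∈ (⊤ : Subgroup P).lowerCentralSeries (n + 1) := by
  have hz' : z ∈ ((Subgroup.center P ⊔ commutator P : Subgroup P) : Set P) := hz
  rw [Subgroup.normal_mul] at hz'
  obtain ⟨z1, hz1, z2, hz2, rfl⟩ := Set.mem_mul.mp hz'
  have h := lnc_update_mul n x i z1 z2
  have h1 : lnc n (Function.update x i z1) = 1 :=
    lnc_center n hn _ i (by rw [Function.update_self]; exact hz1)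
  have h2 : lnc n (Function.update x i z2) ∈ (⊤ : Subgroup P).lowerCentralSeries (n + 1) :=
    lnc_comm n _ i (by rw [Function.update_self]; exact hz2)
  rw [h1, one_mul] at h
  have h3 := mul_mem h2 h
  rwa [mul_inv_cancel_left] at h3

/-- Changing one variable by an element of `Z(P) P'`. -/
theorem lnc_update_congr (n : ℕ) (hn : 1 ≤ n) (x : Fin (n + 1) → P) (i : Fin (n + 1)) (z : P)
    (hz : z ∈ Subgroup.center P ⊔ commutator P) :
    (lnc n x)⁻¹ * lnc n (Function.update x i (x i * z)) ∈ (⊤ : Subgroup P).lowerCentralSeries (n + 1) := by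
  have h := lnc_update_mul n x i (x i) z
  rw [Function.update_eq_self] at h
  have h2 := lnc_update_mem n hn x i z hz
  have e : (lnc n x)⁻¹ * lnc n (Function.update x i (x i * z)) =
      lnc n (Function.update x i z) *
        ((lnc n x * lnc n (Function.update x i z))⁻¹ * lnc n (Function.update x i (x i * z))) := by group
  rw [e]
  exact mul_mem h2 h

/-- (LNC2) -/
theorem lnc_congr (n : ℕ) (hn : 1 ≤ n) (x y : Fin (n + 1) → P)
    (h : ∀ i, (x i)⁻¹ * y i ∈ Subgroup.center P ⊔ commutator P) :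
    (lnc n x)⁻¹ * lnc n y ∈ (⊤ : Subgroup P).lowerCentralSeries (n + 1) := by
  classical
  have key : ∀ S : Finset (Fin (n + 1)),
      (lnc n x)⁻¹ * lnc n (fun i => if i ∈ S then y i else x i) ∈
        (⊤ : Subgroup P).lowerCentralSeries (n + 1) := by
    intro S
    induction S using Finset.induction_on with
    | empty =>
      simp only [Finset.notMem_empty, if_false]
      rw [inv_mul_cancel]
      exact one_mem _
    | insert a S ha ih =>
      set xS : Fin (n + 1) → P := fun i => if i ∈ S then y i else x i with hxS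
      have e1 : (fun i => if i ∈ insert a S then y i else x i) =
          Function.update xS a (xS a * ((x a)⁻¹ * y a)) := by
        funext i
        by_cases hia : i = a
        · subst hia
          rw [Function.update_self, hxS]
          simp only [Finset.mem_insert, true_or, if_true, if_neg ha]
          group
        · rw [Function.update_of_ne hia, hxS]
          simp only [Finset.mem_insert, hia, false_or]
      rw [e1]
      have h2 := lnc_update_congr n hn xS a ((x a)⁻¹ * y a) (h a)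
      have e : (lnc n x)⁻¹ * lnc n (Function.update xS a (xS a * ((x a)⁻¹ * y a))) =
          ((lnc n x)⁻¹ * lnc n xS) * ((lnc n xS)⁻¹ * lnc n (Function.update xS a (xS a * ((x a)⁻¹ * y a)))) := by
        group
      rw [e]
      exact mul_mem ih h2
  have h1 := key Finset.univ
  simpa using h1

end Cfsg.Agent.Lib.Helper78_S2113_LNC2
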