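import Mathlib
import Cfsg.Agent.Lib.Helper50_ReeMultDefs
import Cfsg.Agent.Lib.Helper99_S2113_BRK
import Cfsg.Agent.Lib.Helper99_S2113_LNC1

set_option autoImplicit false

/-!
# S2113 market (architect helper50), package LNC3

`lnc_gen`: the `n`-th term of the lower central series is generated, modulo the next term, by the left-normed
commutators of `n + 1` variables.
-/

namespace Cfsg.Agent.Lib.Helper78_S2113_LNC3

open scoped commutatorElement
open Cfsg.Agent.Lib.Helper50_ReeMultDefs Cfsg.Agent.Lib.Helper99_S2113_BRK Cfsg.Agent.Lib.Helper99_S2113_LNC1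

variable {P : Type*} [Group P]

/-- Appending a variable to a left-normed commutator. -/
theorem lnc_snoc (n : ℕ) (x : Fin (n + 1) → P) (q : P) :
    lnc (n + 1) (Fin.snoc (α := fun _ => P) x q : Fin (n + 2) → P) = ⁅lnc n x, q⁆ := by
  rw [lnc_succ, Fin.init_snoc, Fin.snoc_last]

/-- (LNC3) -/
theorem lnc_gen (n : ℕ) : (⊤ : Subgroup P).lowerCentralSeries n ≤
    Subgroup.closure (Set.range (lnc (P := P) n)) ⊔ (⊤ : Subgroup P).lowerCentralSeries (n + 1) := by
  induction n with
  | zero =>
    intro g _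
    apply Subgroup.mem_sup_left
    apply Subgroup.subset_closure
    exact ⟨fun _ => g, rfl⟩
  | succ n ih =>
    show ⁅(⊤ : Subgroup P).lowerCentralSeries n, (⊤ : Subgroup P)⁆ ≤ _
    rw [Subgroup.commutator_le]
    intro p hp q _
    have hp' := ih hp
    rw [← Subgroup.closure_eq ((⊤ : Subgroup P).lowerCentralSeries (n + 1)), ← Subgroup.closure_union] at hp'
    have key : ∀ p ∈ Subgroup.closure (Set.range (lnc (P := P) n) ∪
        ((⊤ : Subgroup P).lowerCentralSeries (n + 1) : Set P)),
        p ∈ (⊤ : Subgroup P).lowerCentralSeries n ∧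
        ⁅p, q⁆ ∈ Subgroup.closure (Set.range (lnc (P := P) (n + 1))) ⊔
          (⊤ : Subgroup P).lowerCentralSeries (n + 1 + 1) := by
      intro p hp
      induction hp using Subgroup.closure_induction with
      | mem x hx =>
        rcases hx with ⟨y, rfl⟩ | hx
        · exact ⟨lnc_mem n y, Subgroup.mem_sup_left (Subgroup.subset_closure ⟨_, lnc_snoc n y q⟩)⟩
        · refine ⟨Subgroup.lowerCentralSeries_antitone _ (Nat.le_succ n) hx, Subgroup.mem_sup_right ?_⟩
          exact Subgroup.commutator_mem_commutator hx (Subgroup.mem_top q)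
      | one =>
        refine ⟨one_mem _, ?_⟩
        rw [commutatorElement_one_left]
        exact one_mem _
      | mul a b _ _ iha ihb =>
        refine ⟨mul_mem iha.1 ihb.1, ?_⟩
        have h := brk_mul_left ((⊤ : Subgroup P).lowerCentralSeries n) a b q iha.1 ihb.1
        have h' : (⁅a, q⁆ * ⁅b, q⁆)⁻¹ * ⁅a * b, q⁆ ∈ Subgroup.closure (Set.range (lnc (P := P) (n + 1))) ⊔
            (⊤ : Subgroup P).lowerCentralSeries (n + 1 + 1) := Subgroup.mem_sup_right h
        have h2 := mul_mem (mul_mem iha.2 ihb.2) h'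
        rwa [mul_inv_cancel_left] at h2
      | inv a _ iha =>
        refine ⟨inv_mem iha.1, ?_⟩
        have h := brk_mul_left ((⊤ : Subgroup P).lowerCentralSeries n) a a⁻¹ q iha.1 (inv_mem iha.1)
        rw [mul_inv_cancel, commutatorElement_one_left, mul_one, mul_inv_rev] at h
        have h' : (⁅a⁻¹, q⁆)⁻¹ * (⁅a, q⁆)⁻¹ ∈ Subgroup.closure (Set.range (lnc (P := P) (n + 1))) ⊔
            (⊤ : Subgroup P).lowerCentralSeries (n + 1 + 1) := Subgroup.mem_sup_right h
        have h2 := inv_mem (mul_mem h' iha.2)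
        rwa [inv_mul_cancel_right, inv_inv] at h2
    exact (key p hp').2

end Cfsg.Agent.Lib.Helper78_S2113_LNC3
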