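import Mathlib
import Cfsg.Agent.Lib.Helper81_UceA

/-!
# S2400 market (architect helper72), package ZPOW

In a central extension, lifts of two powers of one element commute.
-/

set_option autoImplicit false

namespace Cfsg.Agent.Lib.Helper78_S2400_ZPOW

open Cfsg.Agent.Lib.Helper81_UceA

variable {E Γ : Type*} [Group E] [Group Γ] {ψ : E →* Γ}

/-- ZPOW (S): lifts of two powers of one element commute. -/
theorem ZPOW (hψ : CExt ψ) {g : Γ} {a x : E} {m n : ℤ} (ha : ψ a = g ^ m) (hx : ψ x = g ^ n) :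
    a * x = x * a := by
  obtain ⟨e, he⟩ := hψ.surj g
  have ha' : ψ (e ^ m) = ψ a := by rw [map_zpow, he, ha]
  have hx' : ψ (e ^ n) = ψ x := by rw [map_zpow, he, hx]
  obtain ⟨z, hz, rfl⟩ := hψ.exists_mul_of_eq ha'
  obtain ⟨w, hw, rfl⟩ := hψ.exists_mul_of_eq hx'
  have h1 : ∀ y, z * y = y * z := hψ.comm_of_ker hz
  have h2 : ∀ y, w * y = y * w := hψ.comm_of_ker hw
  have hc : e ^ m * e ^ n = e ^ n * e ^ m := by
    rw [← zpow_add, ← zpow_add, add_comm]
  calc e ^ m * z * (e ^ n * w) = e ^ m * (z * (e ^ n * w)) := by group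
    _ = e ^ m * (e ^ n * w * z) := by rw [h1]
    _ = (e ^ m * e ^ n) * (w * z) := by group
    _ = (e ^ n * e ^ m) * (w * z) := by rw [hc]
    _ = e ^ n * (e ^ m * w) * z := by group
    _ = e ^ n * (w * e ^ m) * z := by rw [h2]
    _ = e ^ n * w * (e ^ m * z) := by group

end Cfsg.Agent.Lib.Helper78_S2400_ZPOW
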