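import Mathlib
import Cfsg.Agent.Lib.Helper74_S94Defs2
import Cfsg.Agent.Lib.Helper66_S96Rank
import Cfsg.Agent.Lib.Helper77_S94_WCJS_A
import Cfsg.Agent.Lib.Helper77_S94_WCJS_B
import Cfsg.Agent.Lib.Helper78_S94_WCALCSaux

set_option autoImplicit false
set_option linter.unusedVariables false
set_option linter.unusedSectionVars false

/-!
# s94 market (helper74), package B_WCALCS (helper78): verbatim wrapper
-/

namespace Cfsg.Agent.Lib.Helper74_S94

open Cfsg.Agent.Lib.Helper5_SteinbergA Cfsg.Agent.Lib.Helper66_S92 Cfsg.Agent.Lib.Helper66_S96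

section generic

variable {ι : Type*} [DecidableEq ι] {K : Type*} [Field K] {V0 : Type*} [AddCommGroup V0]
  [Module K V0] {G : Type*} [Group G] {Q0 : QuadraticForm K V0}
  {X : ι ⊕ ι → ι ⊕ ι → K → G} {XS : ι ⊕ ι → V0 → G}

theorem wCalcS_of_bStAB (h : BStAB Q0 X XS) (hD : DSt X) : WCalcS X XS :=
  h78_wCalcS_aux hD (wcjS_out h) (wcjS_1 h) (wcjS_2 h) (wcjS_3 h) (wcjS_4 h)

end generic

end Cfsg.Agent.Lib.Helper74_S94
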