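import Mathlib
import Cfsg.Agent.Lib.Helper97_SpTensBasic

/-!
# SP3 market (architect helper97), package QGEN

A subspace of `A ⊗ B` invariant under all the involutions `rA m x x' ⊗ 1` (`sympForm x x' = 1`) is
invariant under the root elements `1 + c N_x` (`m ≥ 2`).

Proof: with `E a b X = a ⊗ ctr b X`, invariance under `rA x x'` gives invariance under
`E x x' - E x' x`; differences for `x'` and `x' + u` (`u ⊥ x`) give `D u = E x u - E u x`, and
`D u (D w X) = - sympForm w u • nA x X` for `u, w ⊥ x`.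
-/

set_option autoImplicit false
set_option linter.unusedSectionVars false
set_option linter.unusedVariables false

namespace Cfsg.Agent.Lib.Helper78_SP3_QGEN

open Matrix Module
open Cfsg.Agent.Lib.Helper98_ExtDefs Cfsg.Agent.Lib.Helper97_TensDefs
  Cfsg.Agent.Lib.Helper97_SpTensDefs Cfsg.Agent.Lib.Helper97_SpTensBasic
  Cfsg.Agent.Lib.Helper13_Symp Cfsg.Agent.Lib.Helper13_SympTrans

variable {F : Type*} [Field F] [Fintype F] {m : ℕ}

local notation "V" => Matrix (Fin m ⊕ Fin m) (Fin 3) F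

/-- `(a ⊗ ω(·, b)) ⊗ 1` as left multiplication by a matrix. -/
theorem vecMulVec_J_mul (a b : Fin m ⊕ Fin m → F) (X : V) :
    vecMulVec a (Matrix.J (Fin m) F *ᵥ b) * X = vecMulVec a (ctr m b X) := by
  ext i k
  simp only [Matrix.mul_apply, vecMulVec_apply, ctr, colv, Cfsg.sympForm, dotProduct]
  rw [Finset.mul_sum]
  refine Finset.sum_congr rfl (fun j _ => ?_)
  ring

/-- the contraction is additive in the vector -/
theorem ctr_add_left (x x' : Fin m ⊕ Fin m → F) (X : V) :
    ctr m (x + x') X = ctr m x X + ctr m x' X := by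
  funext k
  simp only [ctr, sympForm_add_right, Pi.add_apply]

/-- The involution `rA m x x' ⊗ 1` in terms of contractions. -/
theorem rA_mul (x x' : Fin m ⊕ Fin m → F) (X : V) :
    rA m x x' * X = X - (2 : F) • (vecMulVec x (ctr m x' X) - vecMulVec x' (ctr m x X)) := by
  unfold rA
  rw [Matrix.sub_mul, Matrix.one_mul, Matrix.smul_mul, Matrix.sub_mul, vecMulVec_J_mul,
    vecMulVec_J_mul]

/-- Two vectors orthogonal to `x` with non-zero product (`m ≥ 2`). -/
theorem exists_orth_pair (hm : 2 ≤ m) (x x' : Fin m ⊕ Fin m → F)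
    (hxx' : Cfsg.sympForm m F x x' = 1) :
    ∃ u w : Fin m ⊕ Fin m → F, Cfsg.sympForm m F u x = 0 ∧ Cfsg.sympForm m F w x = 0 ∧
      Cfsg.sympForm m F w u ≠ 0 := by
  -- a non-zero vector orthogonal to `x` and `x'`
  let f : (Fin m ⊕ Fin m → F) →ₗ[F] (F × F) :=
    { toFun := fun v => (Cfsg.sympForm m F v x, Cfsg.sympForm m F v x')
      map_add' := by
        intro v v'
        simp only [sympForm_add_left, Prod.mk_add_mk]
      map_smul' := by
        intro c v
        simp only [sympForm_smul_left, RingHom.id_apply, Prod.smul_mk, smul_eq_mul] }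
  have hfr : finrank F (F × F) < finrank F (Fin m ⊕ Fin m → F) := by
    rw [Module.finrank_prod, Module.finrank_self, Module.finrank_fintype_fun_eq_card,
      Fintype.card_sum, Fintype.card_fin]
    omega
  have hker := LinearMap.ker_ne_bot_of_finrank_lt (f := f) hfr
  obtain ⟨w, hwker, hw0⟩ := (Submodule.ne_bot_iff _).mp hker
  have hw : Cfsg.sympForm m F w x = 0 ∧ Cfsg.sympForm m F w x' = 0 := by
    have := LinearMap.mem_ker.mp hwker
    exact ⟨congrArg Prod.fst this, congrArg Prod.snd this⟩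
  obtain ⟨y, hy⟩ := exists_sympForm_ne_zero m hw0
  have hx'x : Cfsg.sympForm m F x' x = -1 := by rw [sympForm_swap, hxx']
  refine ⟨y - Cfsg.sympForm m F y x' • x + Cfsg.sympForm m F y x • x', w, ?_, hw.1, ?_⟩
  · rw [sympForm_add_left, sympForm_sub_left, sympForm_smul_left, sympForm_smul_left,
      sympForm_self, hx'x]
    ring
  · rw [sympForm_add_right, sympForm_sub_right, sympForm_smul_right, sympForm_smul_right,
      hw.1, hw.2]
    simpa using hy

theorem root_of_invol_invariant (h2 : (2 : F) ≠ 0) (hm : 2 ≤ m) (x : Fin m ⊕ Fin m → F) (hx : x ≠ 0)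
    (L : Submodule F V)
    (hinv : ∀ x' : Fin m ⊕ Fin m → F, Cfsg.sympForm m F x x' = 1 → ∀ X ∈ L, rA m x x' * X ∈ L) :
    ∀ (c : F), ∀ X ∈ L, X + c • nA m x X ∈ L := by
  -- step 1: the "projections"
  have hP : ∀ x' : Fin m ⊕ Fin m → F, Cfsg.sympForm m F x x' = 1 → ∀ X ∈ L,
      vecMulVec x (ctr m x' X) - vecMulVec x' (ctr m x X) ∈ L := by
    intro x' hx' X hX
    have h1 := hinv x' hx' X hX
    rw [rA_mul] at h1
    have h3 : (2 : F) • (vecMulVec x (ctr m x' X) - vecMulVec x' (ctr m x X)) ∈ L := by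
      have := L.sub_mem hX h1
      rwa [sub_sub_cancel] at this
    have h4 := L.smul_mem (2 : F)⁻¹ h3
    rwa [smul_smul, inv_mul_cancel₀ h2, one_smul] at h4
  -- a partner of `x`
  obtain ⟨w₀, hw₀⟩ := exists_sympForm_ne_zero m hx
  obtain ⟨x₀, hx₀⟩ : ∃ x₀ : Fin m ⊕ Fin m → F, Cfsg.sympForm m F x x₀ = 1 :=
    ⟨(Cfsg.sympForm m F x w₀)⁻¹ • w₀, by rw [sympForm_smul_right, inv_mul_cancel₀ hw₀]⟩
  -- step 2: the maps `D u`
  have hD : ∀ u : Fin m ⊕ Fin m → F, Cfsg.sympForm m F u x = 0 → ∀ X ∈ L,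
      vecMulVec x (ctr m u X) - vecMulVec u (ctr m x X) ∈ L := by
    intro u hu X hX
    have hxu : Cfsg.sympForm m F x (x₀ + u) = 1 := by
      rw [sympForm_add_right, hx₀, sympForm_swap, hu]
      ring
    have h1 := hP (x₀ + u) hxu X hX
    have h2' := hP x₀ hx₀ X hX
    have h3 := L.sub_mem h1 h2'
    have e : vecMulVec x (ctr m (x₀ + u) X) - vecMulVec (x₀ + u) (ctr m x X) -
        (vecMulVec x (ctr m x₀ X) - vecMulVec x₀ (ctr m x X)) =
        vecMulVec x (ctr m u X) - vecMulVec u (ctr m x X) := by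
      rw [ctr_add_left, vecMulVec_add, add_vecMulVec]
      abel
    rwa [e] at h3
  -- step 3: the product of two such maps
  obtain ⟨u, w, hu, hw, hwu⟩ := exists_orth_pair hm x x₀ hx₀
  have hN : ∀ X ∈ L, nA m x X ∈ L := by
    intro X hX
    have h1 := hD w hw X hX
    have h3 := hD u hu _ h1
    have hxu : Cfsg.sympForm m F x u = 0 := by rw [sympForm_swap, hu, neg_zero]
    have e : vecMulVec x (ctr m u (vecMulVec x (ctr m w X) - vecMulVec w (ctr m x X))) -
        vecMulVec u (ctr m x (vecMulVec x (ctr m w X) - vecMulVec w (ctr m x X))) =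
        (-Cfsg.sympForm m F w u) • nA m x X := by
      rw [ctr_sub, ctr_sub, ctr_vecMulVec, ctr_vecMulVec, ctr_vecMulVec, ctr_vecMulVec, hxu,
        sympForm_self, hw, nA_apply]
      have hz : vecMulVec u (0 : Fin 3 → F) = 0 := by
        ext i k
        simp [vecMulVec_apply]
      simp only [zero_smul, sub_zero, zero_sub, vecMulVec_neg, vecMulVec_smul, neg_smul]
      simp [hz]
    rw [e] at h3
    have h4 := L.smul_mem (-Cfsg.sympForm m F w u)⁻¹ h3
    rwa [smul_smul, inv_mul_cancel₀ (neg_ne_zero.mpr hwu), one_smul] at h4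
  intro c X hX
  exact L.add_mem hX (L.smul_mem c (hN X hX))

end Cfsg.Agent.Lib.Helper78_SP3_QGEN
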