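import Mathlib
import Cfsg.Agent.Lib.Helper97_SpTensBasic

/-!
# SP3 market (architect helper97), package STABNORM

An element `g ∈ M` stabilising the fibre `l_x = x ⊗ B` acts on `l_x` like an element of
`H = Sp(A) ⊗ O(B)` (under `RadStd m M x`).
-/

set_option autoImplicit false
set_option linter.unusedSectionVars false
set_option linter.unusedVariables false

namespace Cfsg.Agent.Lib.Helper78_SP3_STABNORM

open Matrix Module
open Cfsg.Agent.Lib.Helper98_ExtDefs Cfsg.Agent.Lib.Helper97_TensDefs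
  Cfsg.Agent.Lib.Helper97_SpTensDefs Cfsg.Agent.Lib.Helper97_SpTensBasic
  Cfsg.Agent.Lib.Helper13_Symp Cfsg.Agent.Lib.Helper13_SympTrans
  Cfsg.Agent.Lib.Helper97_TensBasic

variable {F : Type*} [Field F] [Fintype F] {m : ℕ}

local notation "V" => Matrix (Fin m ⊕ Fin m) (Fin 3) F

/-- `y ↦ x ⊗ y` as a linear map -/
def tens (x : Fin m ⊕ Fin m → F) : (Fin 3 → F) →ₗ[F] V where
  toFun y := vecMulVec x y
  map_add' := vecMulVec_add x
  map_smul' c y := by rw [vecMulVec_smul, RingHom.id_apply]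

theorem tens_apply (x : Fin m ⊕ Fin m → F) (y : Fin 3 → F) : tens x y = vecMulVec x y := rfl

/-- `x ⊗ ·` is injective for `x ≠ 0` -/
theorem vecMulVec_left_inj {x : Fin m ⊕ Fin m → F} (hx : x ≠ 0) {a b : Fin 3 → F}
    (h : vecMulVec x a = vecMulVec x b) : a = b := by
  have h1 : vecMulVec x (a - b) = 0 := by rw [vecMulVec_sub, h, sub_self]
  exact sub_eq_zero.mp (vecMulVec_eq_zero_left hx h1)

/-- A matrix is determined by its bilinear form. -/
theorem matrix_eq_of_bilin (A B : Matrix (Fin 3) (Fin 3) F)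
    (h : ∀ u v : Fin 3 → F, u ⬝ᵥ A *ᵥ v = u ⬝ᵥ B *ᵥ v) : A = B := by
  ext i j
  simpa using h (Pi.single i 1) (Pi.single j 1)

/-- An automorphism mapping the fibre `x ⊗ B` into itself acts on it by a matrix. -/
theorem exists_matrix_of_map {x : Fin m ⊕ Fin m → F} (g : V ≃ₗ[F] V)
    (hmap : ∀ y : Fin 3 → F, g (vecMulVec x y) ∈ bfib x) :
    ∃ Φ : Matrix (Fin 3) (Fin 3) F, ∀ y : Fin 3 → F, g (vecMulVec x y) = vecMulVec x (Φ *ᵥ y) := by
  choose t ht using fun k : Fin 3 => hmap (Pi.single k 1)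
  refine ⟨Matrix.of fun i k => t k i, ?_⟩
  have hlin : g.toLinearMap ∘ₗ tens x =
      tens x ∘ₗ Matrix.mulVecLin (Matrix.of fun i k => t k i) := by
    apply (Pi.basisFun F (Fin 3)).ext
    intro k
    rw [Pi.basisFun_apply, LinearMap.comp_apply, LinearMap.comp_apply, tens_apply,
      LinearEquiv.coe_coe, ht k, Matrix.mulVecLin_apply, tens_apply, Matrix.mulVec_single_one]
    rfl
  intro y
  have := LinearMap.congr_fun hlin y
  simpa [tens_apply] using this

theorem det_S0 : (S0 F).det = -1 := by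
  simp [S0, Matrix.det_fin_three]

theorem stab_norm (h2 : (2 : F) ≠ 0) (M : Subgroup (V ≃ₗ[F] V)) (hSp : MSp m M) (hK : KronSp m M)
    (x : Fin m ⊕ Fin m → F) (hx : x ≠ 0) (hrs : RadStd m M x)
    (g : V ≃ₗ[F] V) (hg : g ∈ M) (hgx : (bfib x).map g.toLinearMap = bfib x) :
    ∃ h ∈ M, IsKron h ∧ ∀ y : Fin 3 → F, g (vecMulVec x y) = h (vecMulVec x y) := by
  -- Step A
  have hmap : ∀ y : Fin 3 → F, g (vecMulVec x y) ∈ bfib x := by
    intro y
    rw [← hgx]
    exact Submodule.mem_map_of_mem (vecMulVec_mem_bfib x y)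
  -- Step B
  obtain ⟨Φ, hΦ⟩ := exists_matrix_of_map g hmap
  -- a partner of `x`
  obtain ⟨w₀, hw₀⟩ := exists_sympForm_ne_zero m hx
  have hw₀' : Cfsg.sympForm m F w₀ x ≠ 0 := by
    rw [sympForm_swap]
    exact neg_ne_zero.mpr hw₀
  obtain ⟨x', hx'⟩ : ∃ x' : Fin m ⊕ Fin m → F, Cfsg.sympForm m F x' x = 1 :=
    ⟨(Cfsg.sympForm m F w₀ x)⁻¹ • w₀, by rw [sympForm_smul_left, inv_mul_cancel₀ hw₀']⟩
  have hctr : ∀ u : Fin 3 → F, ctr m x (vecMulVec x' u) = u := by
    intro u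
    rw [ctr_vecMulVec, hx', one_smul]
  -- Step C
  have hZ : cN m g x ∈ ZRad m M x := by
    refine ⟨?_, ?_, ?_⟩
    · intro X
      rw [cN_apply]
      obtain ⟨y, hy⟩ := nA_mem_bfib x (g.symm X)
      rw [hy]
      exact hmap y
    · intro X hX
      rw [cN_apply]
      have h0 : ctr m x (g.symm X) = 0 := by
        apply eq_zero_of_be
        intro y'
        rw [← tf_vecMulVec_right]
        have h1 := hSp g hg (g.symm X) (vecMulVec x y')
        rw [LinearEquiv.apply_symm_apply, hΦ, tf_vecMulVec_right, hX] at h1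
        rw [← h1]
        simp [be]
      rw [nA_eq_zero_of_ctr h0, map_zero]
    · obtain ⟨r, hr, hrx⟩ := hasMap_root hK x (1 : F) (M := M)
      have hrx' : ∀ Y : V, r Y = Y + nA m x Y := by
        intro Y
        rw [hrx Y]
        show Y + (1 : F) • nA m x Y = Y + nA m x Y
        rw [one_smul]
      refine ⟨g * r * g⁻¹, M.mul_mem (M.mul_mem hg hr) (M.inv_mem hg), fun X => ?_⟩
      show (g * r * g⁻¹) X = X + cN m g x X
      rw [LinearEquiv.mul_apply, LinearEquiv.mul_apply, hrx', map_add, cN_apply]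
      have e : g⁻¹ X = g.symm X := rfl
      rw [e, LinearEquiv.apply_symm_apply]
  -- Step D
  obtain ⟨μ, hμ⟩ := hrs _ hZ
  have hμ0 : μ ≠ 0 := by
    intro h0
    rw [h0, zero_smul] at hμ
    have h1 : cN m g x (g (vecMulVec x' (e0 : Fin 3 → F))) = 0 := by rw [hμ]; rfl
    rw [cN_apply, LinearEquiv.symm_apply_apply, nA_vecMulVec, hx', one_smul] at h1
    have h3 : vecMulVec x (e0 : Fin 3 → F) = 0 := by
      have := congrArg g.symm h1
      rwa [LinearEquiv.symm_apply_apply, map_zero] at this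
    exact e0_ne_zero (vecMulVec_eq_zero_left hx h3)
  -- Step E
  have hE : ∀ X : V, Φ *ᵥ ctr m x X = μ • ctr m x (g X) := by
    intro X
    have h1 : cN m g x (g X) = (μ • nA m x) (g X) := by rw [hμ]
    rw [cN_apply, LinearEquiv.symm_apply_apply, nA_apply, hΦ, LinearMap.smul_apply, nA_apply,
      ← vecMulVec_smul] at h1
    exact vecMulVec_left_inj hx h1
  -- Step F
  have hF : ∀ u v : Fin 3 → F, be (Φ *ᵥ u) (Φ *ᵥ v) = μ * be u v := by
    intro u v
    have h1 := hSp g hg (vecMulVec x' u) (vecMulVec x v)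
    rw [hΦ, tf_vecMulVec_right, tf_vecMulVec_right, hctr] at h1
    have h3 := hE (vecMulVec x' u)
    rw [hctr] at h3
    rw [h3, be_smul_left, h1]
  -- Step G
  have hG : Φᵀ * S0 F * Φ = μ • S0 F := by
    apply matrix_eq_of_bilin
    intro u v
    have h1 := hF u v
    rw [be_eq_dotProduct, be_eq_dotProduct, Matrix.mulVec_mulVec, ← Matrix.vecMul_transpose,
      dotProduct_mulVec, Matrix.vecMul_vecMul, ← Matrix.mul_assoc, ← dotProduct_mulVec] at h1
    rw [h1, Matrix.smul_mulVec, dotProduct_smul, smul_eq_mul]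
  -- Step H
  have hdet : Φ.det ^ 2 = μ ^ 3 := by
    have h1 := congrArg Matrix.det hG
    rw [Matrix.det_mul, Matrix.det_mul, Matrix.det_transpose, Matrix.det_smul, det_S0,
      Fintype.card_fin] at h1
    linear_combination -h1
  obtain ⟨ν, hν⟩ : ∃ ν : F, ν = Φ.det / μ := ⟨_, rfl⟩
  have hνsq : ν ^ 2 = μ := by
    rw [hν, div_pow, hdet]
    field_simp
  have hν0 : ν ≠ 0 := by
    intro h0
    rw [h0] at hνsq
    apply hμ0
    rw [← hνsq]
    ring
  -- Step I
  have hQ : (ν⁻¹ • Φ)ᵀ * S0 F * (ν⁻¹ • Φ) = S0 F := by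
    rw [transpose_smul, Matrix.smul_mul, Matrix.smul_mul, Matrix.mul_smul, smul_smul, hG, smul_smul,
      ← hνsq]
    have : ν⁻¹ * ν⁻¹ * ν ^ 2 = 1 := by
      field_simp
    rw [this, one_smul]
  -- Step J
  obtain ⟨A, -, hA⟩ := exists_transv_map m x (ν • x) hx (smul_ne_zero hν0 hx)
  obtain ⟨h, hhM, hh⟩ := hK (A : Matrix (Fin m ⊕ Fin m) (Fin m ⊕ Fin m) F) (ν⁻¹ • Φ) A.2 hQ
  have hh' : ∀ X : V, h X = (A : Matrix (Fin m ⊕ Fin m) (Fin m ⊕ Fin m) F) * X * (ν⁻¹ • Φ)ᵀ := hh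
  refine ⟨h, hhM, ⟨_, _, hh'⟩, fun y => ?_⟩
  rw [hh', kron_vecMulVec, hA, hΦ, Matrix.smul_mulVec, smul_vecMulVec, vecMulVec_smul, smul_smul,
    mul_inv_cancel₀ hν0, one_smul]

end Cfsg.Agent.Lib.Helper78_SP3_STABNORM
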