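import Mathlib

/-!
# S2184 market (architect helper18), package SIG (helper78)

The Tits endomorphism `sg K m = iterateFrobenius K 2 (m + 1)` of a field with `2 ^ (2 m + 1)`
elements squares to the Frobenius, and every element of a finite field of characteristic two is a
square.  (`sg` itself lives in the architect's spec; the statements here are for
`iterateFrobenius K 2 (m + 1)`, to which `sg K m` unfolds by `rfl`.)
-/

set_option autoImplicit false

namespace Cfsg.Agent.Lib.Helper78_TF4I_SIG

section

variable {K : Type*} [Field K] [Fintype K] [CharP K 2] {m : ℕ} (hK : Fintype.card K = 2 ^ (2 * m + 1))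

include hK in
theorem sg_sg (x : K) :
    iterateFrobenius K 2 (m + 1) (iterateFrobenius K 2 (m + 1) x) = x ^ 2 := by
  rw [iterateFrobenius_def, iterateFrobenius_def, ← pow_mul, ← pow_add]
  have h : m + 1 + (m + 1) = (2 * m + 1) + 1 := by ring
  rw [h, pow_succ, pow_mul, ← hK, FiniteField.pow_card]

theorem exists_sqrt (x : K) : ∃ y : K, y ^ 2 = x := by
  obtain ⟨r, hr⟩ := FiniteField.isSquare_of_char_two (ringChar.eq K 2) x
  exact ⟨r, by rw [hr, sq]⟩

end

end Cfsg.Agent.Lib.Helper78_TF4I_SIG
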