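import Mathlib
import Cfsg.Agent.Lib.Helper56_U320Defs
import Cfsg.Agent.Lib.Helper56_U320_REL

/-!
# S1903 market (architect helper56), package TX (core)

`nf_Ts` (complete) and `nf_Tx_of` (with the statements of STEPA `step01` and STEPB `step23` as
hypotheses): left multiplication by `s` and `x` on the normal form.
-/

set_option autoImplicit false
open Cfsg.Agent.Lib.Helper56_U320Defs

namespace Cfsg.Agent.Lib.Helper78_U320_TXaux

open Cfsg.Agent.Lib.Helper56_U320_REL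

variable {G : Type*} [Group G]

/-- the statement of STEPA for the group `G` -/
def StepA (G : Type*) [Group G] : Prop :=
  ∀ (y0 y1 y2 y3 c1 c2 : G),
    (∀ g : G, c1 * g = g * c1) → (∀ g : G, c2 * g = g * c2) →
    c1 * c1 = 1 → c2 * c2 = 1 →
    y0 * y0 = c1 * c2 → y1 * y1 = c1 * c2 →
    y1 * y0 = y0 * y1 * c1 → ∀ t : Bits × Gam,
    y0 * (xpw y0 y1 y2 y3 t.1 * cpw c1 c2 t.2) = xpw y0 y1 y2 y3 (st0 t).1 * cpw c1 c2 (st0 t).2 ∧
    y1 * (xpw y0 y1 y2 y3 t.1 * cpw c1 c2 t.2) = xpw y0 y1 y2 y3 (st1 t).1 * cpw c1 c2 (st1 t).2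

/-- the statement of STEPB for the group `G` -/
def StepB (G : Type*) [Group G] : Prop :=
  ∀ (y0 y1 y2 y3 c1 c2 : G),
    (∀ g : G, c1 * g = g * c1) → (∀ g : G, c2 * g = g * c2) →
    c1 * c1 = 1 → c2 * c2 = 1 →
    y2 * y2 = c1 * c2 → y3 * y3 = c1 * c2 →
    y2 * y0 = y0 * y2 * c2 → y3 * y0 = y0 * y3 * c2 →
    y2 * y1 = y1 * y2 * c1 → y3 * y1 = y1 * y3 * c2 → y3 * y2 = y2 * y3 * c1 →
    ∀ t : Bits × Gam,
    y2 * (xpw y0 y1 y2 y3 t.1 * cpw c1 c2 t.2) = xpw y0 y1 y2 y3 (st2 t).1 * cpw c1 c2 (st2 t).2 ∧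
    y3 * (xpw y0 y1 y2 y3 t.1 * cpw c1 c2 t.2) = xpw y0 y1 y2 y3 (st3 t).1 * cpw c1 c2 (st3 t).2

theorem nf_Ts (D : Data G) (t : Idx) : D.s * nf D t = nf D (Ts t) := by
  obtain ⟨i, u⟩ := t
  have hpow : D.s * D.s ^ (i : ℕ) = D.s ^ ((i + 1 : Fin 5) : ℕ) := by
    have h5 := D.core.s5
    fin_cases i
    · simp
    · show D.s * D.s ^ 1 = D.s ^ 2
      rw [pow_succ' D.s 1]
    · show D.s * D.s ^ 2 = D.s ^ 3
      rw [pow_succ' D.s 2]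
    · show D.s * D.s ^ 3 = D.s ^ 4
      rw [pow_succ' D.s 3]
    · show D.s * D.s ^ 4 = D.s ^ 0
      rw [← pow_succ' D.s 4, h5, pow_zero]
  unfold nf Ts
  simp only [mul_assoc]
  rw [← mul_assoc, hpow]

/-- `x * s^i = s^i * X_k` when `i + k = 5` -/
theorem x_mul_pow (D : Data G) (i k : ℕ) (hik : i + k = 5) :
    D.x * D.s ^ i = D.s ^ i * cj D.s D.x k := by
  have h1 : D.s ^ i * D.s ^ k = 1 := by rw [← pow_add, hik, D.core.s5]
  have h2 : (D.s ^ k)⁻¹ = D.s ^ i := by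
    rw [inv_eq_iff_mul_eq_one, ← pow_add, add_comm, hik, D.core.s5]
  unfold cj
  rw [h2, ← mul_assoc, ← mul_assoc, h1, one_mul]

theorem conj_sq (D : Data G) (k : ℕ) : cj D.s D.x k * cj D.s D.x k = D.c1 * D.c2 := by
  unfold cj
  have : D.s ^ k * D.x * (D.s ^ k)⁻¹ * (D.s ^ k * D.x * (D.s ^ k)⁻¹) =
      D.s ^ k * (D.x * D.x) * (D.s ^ k)⁻¹ := by group
  rw [this, D.xsq]
  have hc : (D.c1 * D.c2) * (D.s ^ k)⁻¹ = (D.s ^ k)⁻¹ * (D.c1 * D.c2) := by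
    rw [mul_assoc, D.core.c2c, ← mul_assoc, D.core.c1c, mul_assoc]
  rw [mul_assoc, hc, ← mul_assoc, mul_inv_cancel, one_mul]

theorem key (D : Data G) (i k : ℕ) (hik : i + k = 5) (u u' : Bits × Gam)
    (h : cj D.s D.x k * (xpw D.x (cj D.s D.x 1) (cj D.s D.x 2) (cj D.s D.x 3) u.1 * cpw D.c1 D.c2 u.2) =
      xpw D.x (cj D.s D.x 1) (cj D.s D.x 2) (cj D.s D.x 3) u'.1 * cpw D.c1 D.c2 u'.2) :
    D.x * (D.s ^ i * xpw D.x (cj D.s D.x 1) (cj D.s D.x 2) (cj D.s D.x 3) u.1 * cpw D.c1 D.c2 u.2) =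
      D.s ^ i * xpw D.x (cj D.s D.x 1) (cj D.s D.x 2) (cj D.s D.x 3) u'.1 * cpw D.c1 D.c2 u'.2 := by
  rw [mul_assoc (D.s ^ i), ← mul_assoc D.x, x_mul_pow D i k hik, mul_assoc (D.s ^ i), h, ← mul_assoc]

theorem Tx_0 (u : Bits × Gam) : Tx ((0 : Fin 5), u) = ((0 : Fin 5), st0 u) := rfl
theorem Tx_1 (u : Bits × Gam) : Tx ((1 : Fin 5), u) = ((1 : Fin 5), st4 u) := rfl
theorem Tx_2 (u : Bits × Gam) : Tx ((2 : Fin 5), u) = ((2 : Fin 5), st3 u) := rfl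
theorem Tx_3 (u : Bits × Gam) : Tx ((3 : Fin 5), u) = ((3 : Fin 5), st2 u) := rfl
theorem Tx_4 (u : Bits × Gam) : Tx ((4 : Fin 5), u) = ((4 : Fin 5), st1 u) := rfl

theorem nf_Tx_of (hA : StepA G) (hB : StepB G) (D : Data G) (t : Idx) :
    D.x * nf D t = nf D (Tx t) := by
  obtain ⟨r1, r2, r3, r21, r31, r32⟩ := rel_all D.core
  have sA := hA D.x (cj D.s D.x 1) (cj D.s D.x 2) (cj D.s D.x 3) D.c1 D.c2 D.core.c1c D.core.c2c
    D.core.c1sq D.core.c2sq D.xsq (conj_sq D 1) r1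
  have sB := hB D.x (cj D.s D.x 1) (cj D.s D.x 2) (cj D.s D.x 3) D.c1 D.c2 D.core.c1c D.core.c2c
    D.core.c1sq D.core.c2sq (conj_sq D 2) (conj_sq D 3) r2 r3 r21 r31 r32
  obtain ⟨i, u⟩ := t
  fin_cases i
  · -- i = 0
    show D.x * nf D ((0 : Fin 5), u) = nf D (Tx ((0 : Fin 5), u))
    rw [Tx_0]
    unfold nf
    simp only [Fin.val_zero, pow_zero, one_mul]
    exact (sA u).1
  · -- i = 1 : `X4 = x X1 X2 X3`
    show D.x * nf D ((1 : Fin 5), u) = nf D (Tx ((1 : Fin 5), u))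
    rw [Tx_1]
    unfold nf
    refine key D 1 4 rfl u (st4 u) ?_
    rw [D.r4]
    have e3 := (sB u).2
    have e2 := (sB (st3 u)).1
    have e1 := (sA (st2 (st3 u))).2
    have e0 := (sA (st1 (st2 (st3 u)))).1
    simp only [mul_assoc] at e3 e2 e1 e0 ⊢
    rw [e3, e2, e1, e0]
    rfl
  · show D.x * nf D ((2 : Fin 5), u) = nf D (Tx ((2 : Fin 5), u))
    rw [Tx_2]
    unfold nf
    exact key D 2 3 rfl u (st3 u) (sB u).2
  · show D.x * nf D ((3 : Fin 5), u) = nf D (Tx ((3 : Fin 5), u))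
    rw [Tx_3]
    unfold nf
    exact key D 3 2 rfl u (st2 u) (sB u).1
  · show D.x * nf D ((4 : Fin 5), u) = nf D (Tx ((4 : Fin 5), u))
    rw [Tx_4]
    unfold nf
    exact key D 4 1 rfl u (st1 u) (sA u).2

end Cfsg.Agent.Lib.Helper78_U320_TXaux
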