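import Mathlib
import Cfsg.Agent.Lib.Helper56_U320Defs
import Cfsg.Agent.Lib.Helper21_U320_STEPA
import Cfsg.Agent.Lib.Helper29_U320_STEPB
import Cfsg.Agent.Lib.Helper78_U320_TXaux

/-!
# S1903 market (architect helper56), package TX

`nf_Ts`, `nf_Tx` verbatim: left multiplication by `s` and `x` on the normal form.
-/

set_option autoImplicit false
open Cfsg.Agent.Lib.Helper56_U320Defs

namespace Cfsg.Agent.Lib.Helper78_U320_TX

section
variable {G : Type*} [Group G]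
theorem nf_Ts (D : Data G) (t : Idx) : D.s * nf D t = nf D (Ts t) :=
  Cfsg.Agent.Lib.Helper78_U320_TXaux.nf_Ts D t
theorem nf_Tx (D : Data G) (t : Idx) : D.x * nf D t = nf D (Tx t) :=
  Cfsg.Agent.Lib.Helper78_U320_TXaux.nf_Tx_of
    (fun y0 y1 y2 y3 c1 c2 hc1 hc2 c1sq c2sq q0 q1 h10 t =>
      Cfsg.Agent.Lib.Helper21_U320_STEPA.step01 y0 y1 y2 y3 c1 c2 hc1 hc2 c1sq c2sq q0 q1 h10 t)
    (fun y0 y1 y2 y3 c1 c2 hc1 hc2 c1sq c2sq q2 q3 h20 h30 h21 h31 h32 t =>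
      Cfsg.Agent.Lib.Helper29_U320_STEPB.step23 y0 y1 y2 y3 c1 c2 hc1 hc2 c1sq c2sq q2 q3 h20 h30 h21
        h31 h32 t) D t
end

end Cfsg.Agent.Lib.Helper78_U320_TX
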