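import Mathlib
import Cfsg.Agent.Lib.Helper56_U320Defs
import Cfsg.Agent.Lib.Helper78_U320_TX

/-!
# S1903 market (architect helper56), package HOM (core)

`iso_of_data_of`: two groups with `Data` whose normal-form maps are bijective (package BIJ) are
isomorphic.
-/

set_option autoImplicit false
open Cfsg.Agent.Lib.Helper56_U320Defs

namespace Cfsg.Agent.Lib.Helper78_U320_HOMaux

open Cfsg.Agent.Lib.Helper78_U320_TX

universe u v

theorem nf_one {G : Type*} [Group G] (D : Data G) :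
    nf D ((0 : Fin 5), (false, false, false, false), (false, false)) = 1 := by
  simp [nf, xpw, cpw]

theorem iso_of_data_of {G₁ : Type u} {G₂ : Type v} [Group G₁] [Group G₂] (D₁ : Data G₁) (D₂ : Data G₂)
    (h₁ : Function.Bijective (nf D₁)) (h₂ : Function.Bijective (nf D₂)) :
    Nonempty (G₁ ≃* G₂) := by
  let e₁ : Idx ≃ G₁ := Equiv.ofBijective (nf D₁) h₁
  let Θ : G₁ → G₂ := fun g => nf D₂ (e₁.symm g)
  have hΘ : ∀ t : Idx, Θ (nf D₁ t) = nf D₂ t := by
    intro t
    show nf D₂ (e₁.symm (e₁ t)) = nf D₂ t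
    rw [Equiv.symm_apply_apply]
  have hrep : ∀ g : G₁, ∃ t : Idx, g = nf D₁ t := fun g => ⟨e₁.symm g, (e₁.apply_symm_apply g).symm⟩
  have hΘbij : Function.Bijective Θ := h₂.comp e₁.symm.bijective
  have hΘ1 : Θ 1 = 1 := by
    rw [← nf_one D₁, hΘ, nf_one]
  have hs : ∀ g : G₁, Θ (D₁.s * g) = D₂.s * Θ g := by
    intro g
    obtain ⟨t, rfl⟩ := hrep g
    rw [nf_Ts, hΘ, hΘ, nf_Ts]
  have hx : ∀ g : G₁, Θ (D₁.x * g) = D₂.x * Θ g := by
    intro g
    obtain ⟨t, rfl⟩ := hrep g
    rw [nf_Tx, hΘ, hΘ, nf_Tx]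
  have hΘs : Θ D₁.s = D₂.s := by
    have := hs 1
    rwa [mul_one, hΘ1, mul_one] at this
  have hΘx : Θ D₁.x = D₂.x := by
    have := hx 1
    rwa [mul_one, hΘ1, mul_one] at this
  -- multiplicativity
  have hP : ∀ a : G₁, ∀ g : G₁, Θ (a * g) = Θ a * Θ g := by
    intro a
    have ha : a ∈ Subgroup.closure ({D₁.s, D₁.x} : Set G₁) := by rw [D₁.gen]; trivial
    induction ha using Subgroup.closure_induction with
    | mem y hy =>
      rcases hy with rfl | rfl
      · intro g; rw [hs, hΘs]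
      · intro g; rw [hx, hΘx]
    | one => intro g; rw [one_mul, hΘ1, one_mul]
    | mul a b _ _ iha ihb =>
      intro g
      rw [mul_assoc, iha, ihb, iha b, mul_assoc]
    | inv a _ iha =>
      have key : ∀ g : G₁, Θ (a⁻¹ * g) = (Θ a)⁻¹ * Θ g := by
        intro g
        have := iha (a⁻¹ * g)
        rw [mul_inv_cancel_left] at this
        rw [this, inv_mul_cancel_left]
      intro g
      have h1 := key 1
      rw [mul_one, hΘ1, mul_one] at h1
      rw [key, h1]
  exact ⟨MulEquiv.ofBijective (MonoidHom.mk' Θ (fun a b => hP a b)) hΘbij⟩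

end Cfsg.Agent.Lib.Helper78_U320_HOMaux
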