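import Mathlib
import Cfsg.Agent.Lib.Helper56_U320Defs
import Cfsg.Agent.Lib.Helper78_U320_TX
import Cfsg.Agent.Lib.Helper78_U320_HOMaux

/-!
# S1903 market (architect helper56), package HOM

`iso_of_data` verbatim: two groups with `Data` are isomorphic.  Self-contained: the statement of
package BIJ is proved here as `h78_nf_bijective`.
-/

set_option autoImplicit false
open Cfsg.Agent.Lib.Helper56_U320Defs

namespace Cfsg.Agent.Lib.Helper78_U320_HOM

open Cfsg.Agent.Lib.Helper78_U320_TX Cfsg.Agent.Lib.Helper78_U320_HOMaux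

/-- the statement of package BIJ -/
theorem h78_nf_bijective {G : Type*} [Group G] (D : Data G) : Function.Bijective (nf D) := by
  have hfin : Finite G := Nat.finite_of_card_ne_zero (by rw [D.card]; norm_num)
  -- the submonoid of all `g` with `g * range ⊆ range`
  let M : Submonoid G :=
    { carrier := {g | ∀ h ∈ Set.range (nf D), g * h ∈ Set.range (nf D)}
      mul_mem' := by
        intro a b ha hb h hh
        rw [mul_assoc]
        exact ha _ (hb _ hh)
      one_mem' := by
        intro h hh
        rwa [one_mul] }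
  have hsM : D.s ∈ M := by
    rintro _ ⟨t, rfl⟩
    exact ⟨Ts t, (nf_Ts D t).symm⟩
  have hxM : D.x ∈ M := by
    rintro _ ⟨t, rfl⟩
    exact ⟨Tx t, (nf_Tx D t).symm⟩
  have hinv : ∀ g ∈ M, g⁻¹ ∈ M := by
    intro g hg
    have hpos : 0 < orderOf g := orderOf_pos g
    have : g⁻¹ = g ^ (orderOf g - 1) := by
      rw [inv_eq_iff_mul_eq_one, ← pow_succ', Nat.sub_add_cancel hpos, pow_orderOf_eq_one]
    rw [this]
    exact M.pow_mem hg _
  have hall : ∀ g : G, g ∈ M := by
    intro g
    have hg : g ∈ Subgroup.closure ({D.s, D.x} : Set G) := by rw [D.gen]; trivial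
    induction hg using Subgroup.closure_induction with
    | mem y hy =>
      rcases hy with rfl | rfl
      · exact hsM
      · exact hxM
    | one => exact M.one_mem
    | mul a b _ _ iha ihb => exact M.mul_mem iha ihb
    | inv a _ iha => exact hinv a iha
  have hsurj : Function.Surjective (nf D) := by
    intro g
    have := hall g 1 ⟨_, nf_one D⟩
    rwa [mul_one] at this
  have hcard : Nat.card Idx = Nat.card G := by
    rw [D.card]
    simp [Idx, Bits, Gam, Nat.card_eq_fintype_card]
  exact (Nat.bijective_iff_surjective_and_card (nf D)).2 ⟨hsurj, hcard⟩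

universe u v
theorem iso_of_data {G₁ : Type u} {G₂ : Type v} [Group G₁] [Group G₂] (D₁ : Data G₁) (D₂ : Data G₂) :
    Nonempty (G₁ ≃* G₂) :=
  iso_of_data_of D₁ D₂ (h78_nf_bijective D₁) (h78_nf_bijective D₂)

end Cfsg.Agent.Lib.Helper78_U320_HOM
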