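import Mathlib
import Cfsg.Agent.Lib.Helper39_U4Defs
import Cfsg.Agent.Lib.Helper94_HermBridge

/-!
# S2150 market (architect helper39), package BR-HYP

The standard hermitian space `(F^4, hermB)` satisfies the standing hypotheses `U4Hyp`.
-/

set_option autoImplicit false

namespace Cfsg.Agent.Lib.Helper78_U4_BRHYP

open Module Cfsg.Agent.Lib.Helper94_Symp Cfsg.Agent.Lib.Helper94_Herm
  Cfsg.Agent.Lib.Helper94_HermBridge Cfsg.Agent.Lib.Helper39_U4Defs

variable {F : Type*} [Field F] [Fintype F] {q : ℕ}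

/-- BR-HYP: the standard hermitian space satisfies the standing hypotheses. -/
theorem br_hyp (hF : Fintype.card F = q ^ 2) (σ : F →+* F) (hσq : ∀ x, σ x = x ^ q)
    (hσ : Invol σ) : U4Hyp (hermB 4 σ hσq) q where
  hσ := hσ
  hB := hermB_isHerm σ hσq hσ
  hN := hermB_nondeg σ hσq
  h4 := by simp
  hq := by rw [Nat.card_eq_fintype_card, hF]
  hσq := hσq

end Cfsg.Agent.Lib.Helper78_U4_BRHYP
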