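import Mathlib
import Cfsg.Agent.Lib.Helper37_UTDefs
import Cfsg.Agent.Lib.Helper37_UTPairDefs
import Cfsg.Agent.Lib.Helper31_UT_BAS3
import Cfsg.Agent.Lib.Helper85_UT_RL
import Cfsg.Agent.Lib.Helper53_UT_GAM
import Cfsg.Agent.Lib.Helper89_UT_PGM
import Cfsg.Agent.Lib.Helper78_UT_KEYBaux

set_option autoImplicit false
set_option linter.unusedSectionVars false
set_option linter.unusedVariables false

/-!
UTENS package UT-KEYB (helper78): the key lemma (i) for the base pair, verbatim statement.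
-/

namespace Cfsg.Agent.Lib.Helper78_UT_KEYB

open Matrix Module
open Cfsg.Agent.Lib.Helper98_ExtDefs Cfsg.Agent.Lib.Helper97_TensDefs
open Cfsg.Agent.Lib.Helper94_Herm Cfsg.Agent.Lib.Helper13_PSUSimple
open Cfsg.Agent.Lib.Helper67_UT2Defs Cfsg.Agent.Lib.Helper37_UTDefs
open Cfsg.Agent.Lib.Helper37_UTPairDefs

variable {F : Type*} [Field F] {ι κ : Type*} [Fintype ι] [Fintype κ] [DecidableEq ι]
  [DecidableEq κ] {σ : F →+* F}
variable {α : (ι → F) →ₗ[F] (ι → F) →ₛₗ[σ] F} {β : (κ → F) →ₗ[F] (κ → F) →ₛₗ[σ] F}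
variable {M : Subgroup (Matrix ι κ F ≃ₗ[F] Matrix ι κ F)}

/-! ## KEYB (L): the key lemma (i) for the base pair -/

theorem key_base [Finite F] (hC : UTCtx α β M) (hII : RadStdII α M) (hS : StabII α M)
    {x : ι → F} (hx0 : x ≠ 0) (hx : α x x = 0) {d : ℕ} (hd : 1 ≤ d) (hmax : MaxD x M d)
    {g : Matrix ι κ F ≃ₗ[F] Matrix ι κ F} (hp : IsPair x M d 1 g)
    {γ : Matrix ι κ F ≃ₗ[F] Matrix ι κ F} (hγ : γ ∈ Gam σ (nII (κ := κ) α x) (Ng α x g))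
    (hst : ∀ X ∈ fibB (κ := κ) x, γ X ∈ fibB (κ := κ) x) :
    ∃ s : F, σ s = -s ∧ ∀ X, γ X = X + s • nII α x X := by
  have hR1 := Cfsg.Agent.Lib.Helper85_UT_RL.rootLine_Lg
    (Cfsg.Agent.Lib.Helper37_UTPairDefs.UTCtx.base hC) hII hx0 hx hp.mem₁
  have hR2 := Cfsg.Agent.Lib.Helper85_UT_RL.rootLine_Lg
    (Cfsg.Agent.Lib.Helper37_UTPairDefs.UTCtx.base hC) hII hx0 hx hp.mem₂
  obtain ⟨hG, hU⟩ := Cfsg.Agent.Lib.Helper89_UT_PGM.pairGeo_model hC hII hS hx0 hx hd hmax hp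
  have hf : IsHerm (tf α β) := Cfsg.Agent.Lib.Helper31_UT_BAS3.tf_isHerm hC.hσ hC.hα hC.hβ
  have hfacts := Cfsg.Agent.Lib.Helper53_UT_GAM.gam_facts hC.hσ hf hR1.toIsRootOp
    hR2.toIsRootOp hG hU (γ := γ) (by rw [Ng_one]; exact hγ)
  exact Cfsg.Agent.Lib.Helper78_UT_KEYBaux.key_base_of hC hS hx0 hx hd hp hR1 hR2 hG hU hγ
    hfacts hst

end Cfsg.Agent.Lib.Helper78_UT_KEYB
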