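import Mathlib
import Cfsg.Agent.Lib.Helper79_BG138
import Cfsg.Agent.Lib.Helper52_BG139
import Cfsg.Agent.Lib.Helper49_BG139
import Cfsg.Agent.Lib.Helper72_BG1311a

set_option autoImplicit false
set_option linter.unusedVariables false

/-!
# Bender–Glauberman 13.8/13.9: the asymmetry lemma in the shapes used by the other files (helper79)
-/

namespace Cfsg.Agent.Lib.Helper79_BG138c

open Subgroup Cfsg Cfsg.Agent.Lib.Helper79_BG138

universe u

variable {G : Type u} [Group G] [Finite G]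

/-- 13.8 in the shape of `Helper52_BG139.Asym` -/
theorem asym52 (hG : IsMinSimpleOddOrder G) : Cfsg.Agent.Lib.Helper52_BG139.Asym G :=
  fun M Ms hM hMs hnc p q qs _ _ _ hp hps P Q Qs hP hPI hQ hQs hPQ hPQs hf hfs hN hNs =>
    asymmetry hG hM hMs hnc hp hps hP hPI hQ hQs hPQ hPQs hf hfs hN hNs

/-- 13.8 in the shape of `Helper49_BG139.Asym` -/
theorem asym49 (hG : IsMinSimpleOddOrder G) : Cfsg.Agent.Lib.Helper49_BG139.Asym G :=
  fun M Ms hM hMs hnc p q qs hp hq hqs hpM hpMs P Q Qs hP hPI hQ hQs hPQ hPQs hfix hfixs hNQ hNQs => by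
    haveI := Fact.mk hp
    haveI := Fact.mk hq
    haveI := Fact.mk hqs
    exact asymmetry hG hM hMs hnc hpM hpMs hP hPI hQ hQs hPQ hPQs hfix hfixs hNQ hNQs

/-- **Bender–Glauberman 13.9** (the `σ`-partition), from 13.4 (= S1428) alone -/
theorem sigmaPart (hG : IsMinSimpleOddOrder G) (h28 : Cfsg.Agent.Lib.Helper23_BG13Hyp.H1428 G) :
    Cfsg.Agent.Lib.Helper72_BG1311a.SigmaPart G :=
  Cfsg.Agent.Lib.Helper52_BG139.sigma_part hG h28 (asym52 hG)

/-- 13.9, elementwise -/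
theorem sigma_disjoint (hG : IsMinSimpleOddOrder G) (h28 : Cfsg.Agent.Lib.Helper23_BG13Hyp.H1428 G)
    {M N : Subgroup G} (hM : IsCoatom M) (hN : IsCoatom N)
    (hnc : ∀ g : G, N ≠ M.map (MulAut.conj g).toMonoidHom) {s : ℕ} (hs : s ∈ sigma M) :
    s ∉ sigma N := by
  intro hsN
  obtain ⟨g, hg⟩ := sigmaPart hG h28 M N hM hN ⟨s, hs, hsN⟩
  exact hnc g hg

end Cfsg.Agent.Lib.Helper79_BG138c
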