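import Mathlib
import Cfsg.Agent.Lib.Helper79_BG138c
import Cfsg.Agent.Lib.Helper73_F2Glue
import Cfsg.Agent.Lib.Helper62_BG137b
import Cfsg.Agent.S1428

set_option autoImplicit false
set_option linter.unusedVariables false

/-!
# Bender–Glauberman §13: the hypothesis Props `H1428`, `F1`, `F2`, `SigmaPart`, `Tau13Reg`, `Asym`,
all closed (helper79; assembly of the files of helper23, helper31, helper39, helper49, helper52, helper62,
helper70, helper72, helper73 and `Helper79_BG138`)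
-/

namespace Cfsg.Agent.Lib.Helper79_BG13Final

open Subgroup Cfsg

universe u

variable {G : Type u} [Group G] [Finite G]

/-- B-G 13.4 -/
theorem h1428 (hG : IsMinSimpleOddOrder G) : Cfsg.Agent.Lib.Helper23_BG13Hyp.H1428 G :=
  Cfsg.Agent.Lib.Helper73_F2Glue.h1428 hG

/-- B-G 13.8 in the three shapes -/
theorem asym73 (hG : IsMinSimpleOddOrder G) : Cfsg.Agent.Lib.Helper73_BG1310.Asym G :=
  Cfsg.Agent.Lib.Helper73_F2Glue.asym_of_asym52 (Cfsg.Agent.Lib.Helper79_BG138c.asym52 hG)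

/-- B-G 13.9 -/
theorem sigmaPart (hG : IsMinSimpleOddOrder G) : Cfsg.Agent.Lib.Helper72_BG1311a.SigmaPart G :=
  Cfsg.Agent.Lib.Helper79_BG138c.sigmaPart hG (h1428 hG)

/-- B-G 13.10(b) -/
theorem tau13Reg (hG : IsMinSimpleOddOrder G) : Cfsg.Agent.Lib.Helper72_BG1311a.Tau13Reg G :=
  Cfsg.Agent.Lib.Helper73_F2Glue.tau13Reg_of_asym hG (asym73 hG)

/-- B-G 13.7/13.12 -/
theorem f1 (hG : IsMinSimpleOddOrder G) : Cfsg.Agent.Lib.Helper23_BG13Hyp.F1 G :=
  Cfsg.Agent.Lib.Helper62_BG137.f1_of_h1428 hG (h1428 hG)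

/-- B-G 13.11/13.13 -/
theorem f2 (hG : IsMinSimpleOddOrder G) : Cfsg.Agent.Lib.Helper23_BG13Hyp.F2 G :=
  Cfsg.Agent.Lib.Helper73_F2Glue.f2_of_asym52 hG (Cfsg.Agent.Lib.Helper79_BG138c.asym52 hG)

end Cfsg.Agent.Lib.Helper79_BG13Final
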