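import Mathlib
import Cfsg.Agent.Lib.Helper78_LocalRing
import Cfsg.Agent.Lib.Helper78_Osima

/-!
# Functions on a finite group as elements of the complex group algebra (helper79)

`toMA f` is the element `∑ g, f g • g` of `MonoidAlgebra ℂ G`; convolution becomes multiplication
(`toMA_conv`), class functions become central elements (`toMA_commute`).  The predicates `RVal`
and `IVal` say that all coefficients are local integers at `M`, respectively lie in the local
ideal; `RVal` elements form a subring in which the `IVal` elements form an ideal.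
-/

set_option autoImplicit false
set_option linter.unusedSectionVars false

namespace Cfsg.Agent.Lib.Helper79_ConvMA

open Cfsg Cfsg.Agent.Lib.Helper78_LocalRing Cfsg.Agent.Lib.Helper78_Osima

universe u
variable {G : Type u} [Group G] [Fintype G] {M : Ideal AlgInt}

/-- The group algebra element with coefficient function `f`. -/
noncomputable def toMA (f : G → ℂ) : MonoidAlgebra ℂ G :=
  MonoidAlgebra.ofCoeff (Finsupp.equivFunOnFinite.symm f)

@[simp] theorem toMA_coeff (f : G → ℂ) (g : G) : (toMA f).coeff g = f g := by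
  simp [toMA]

theorem toMA_coeff_self (x : MonoidAlgebra ℂ G) : toMA (fun g => x.coeff g) = x := by
  ext g
  simp

theorem coeff_mul_eq_sum (x y : MonoidAlgebra ℂ G) (g : G) :
    (x * y).coeff g = ∑ h : G, x.coeff h * y.coeff (h⁻¹ * g) := by
  rw [MonoidAlgebra.coeff_mul_apply_left, Finsupp.sum_fintype]
  intro i
  simp

theorem toMA_conv (f f' : G → ℂ) : toMA (conv f f') = toMA f * toMA f' := by
  ext g
  rw [coeff_mul_eq_sum]
  simp [conv]

theorem toMA_add (f f' : G → ℂ) : toMA (f + f') = toMA f + toMA f' := by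
  ext g
  simp

theorem toMA_sub (f f' : G → ℂ) : toMA (f - f') = toMA f - toMA f' := by
  ext g
  simp

theorem toMA_smul (c : ℂ) (f : G → ℂ) : toMA (fun g => c * f g) = c • toMA f := by
  ext g
  simp

theorem toMA_injective : Function.Injective (toMA : (G → ℂ) → MonoidAlgebra ℂ G) := by
  intro f f' h
  funext g
  have := congrArg (fun x => x.coeff g) h
  simpa using this

/-- A class function gives a central element. -/
theorem toMA_commute {f : G → ℂ} (hf : IsClassFunction G f) (y : MonoidAlgebra ℂ G) :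
    Commute (toMA f) y := by
  ext g
  rw [coeff_mul_eq_sum, coeff_mul_eq_sum]
  simp only [toMA_coeff]
  refine Fintype.sum_equiv ((Equiv.inv G).trans (Equiv.mulRight g)) _ _ ?_
  intro k
  simp only [Equiv.trans_apply, Equiv.inv_apply, Equiv.coe_mulRight]
  have h1 : (k⁻¹ * g)⁻¹ * g = g⁻¹ * k * g := by group
  have h2 := hf k g⁻¹
  rw [inv_inv] at h2
  rw [h1, h2, mul_comm]

/-- All coefficients are local integers. -/
def RVal (M : Ideal AlgInt) (x : MonoidAlgebra ℂ G) : Prop := ∀ g, MemLocalRing M (x.coeff g)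

/-- All coefficients lie in the local ideal. -/
def IVal (M : Ideal AlgInt) (x : MonoidAlgebra ℂ G) : Prop := ∀ g, MemLocalIdeal M (x.coeff g)

theorem IVal.rVal {x : MonoidAlgebra ℂ G} (h : IVal M x) : RVal M x :=
  fun g => memLocalRing_of_memLocalIdeal (h g)

theorem RVal.add (hM : M.IsPrime) {x y : MonoidAlgebra ℂ G} (hx : RVal M x) (hy : RVal M y) :
    RVal M (x + y) := fun g => by
  rw [MonoidAlgebra.coeff_add, Finsupp.add_apply]
  exact memLocalRing_add hM (hx g) (hy g)

theorem RVal.mul (hM : M.IsPrime) {x y : MonoidAlgebra ℂ G} (hx : RVal M x) (hy : RVal M y) :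
    RVal M (x * y) := fun g => by
  rw [coeff_mul_eq_sum]
  exact memLocalRing_sum hM _ _ fun h _ => memLocalRing_mul hM (hx h) (hy _)

theorem RVal.one (hM : M.IsPrime) : RVal M (1 : MonoidAlgebra ℂ G) := fun g => by
  classical
  rw [MonoidAlgebra.one_def, MonoidAlgebra.coeff_single, Finsupp.single_apply]
  split_ifs
  · exact memLocalRing_one hM
  · exact memLocalRing_zero hM

theorem RVal.pow (hM : M.IsPrime) {x : MonoidAlgebra ℂ G} (hx : RVal M x) (n : ℕ) :
    RVal M (x ^ n) := by
  induction n with
  | zero => rw [pow_zero]; exact RVal.one hM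
  | succ n ih => rw [pow_succ]; exact ih.mul hM hx

theorem RVal.single (hM : M.IsPrime) (g : G) {c : ℂ} (hc : MemLocalRing M c) :
    RVal M (MonoidAlgebra.single g c) := fun h => by
  classical
  rw [MonoidAlgebra.coeff_single, Finsupp.single_apply]
  split_ifs
  · exact hc
  · exact memLocalRing_zero hM

theorem RVal.smul (hM : M.IsPrime) {c : ℂ} (hc : MemLocalRing M c) {x : MonoidAlgebra ℂ G}
    (hx : RVal M x) : RVal M (c • x) := fun g => by
  rw [MonoidAlgebra.coeff_smul_apply, smul_eq_mul]
  exact memLocalRing_mul hM hc (hx g)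

theorem RVal.toMA {f : G → ℂ} (hf : ∀ g, MemLocalRing M (f g)) : RVal M (toMA f) := fun g => by
  rw [toMA_coeff]
  exact hf g

theorem IVal.add (hM : M.IsPrime) {x y : MonoidAlgebra ℂ G} (hx : IVal M x) (hy : IVal M y) :
    IVal M (x + y) := fun g => by
  rw [MonoidAlgebra.coeff_add, Finsupp.add_apply]
  exact memLocalIdeal_add hM (hx g) (hy g)

theorem IVal.neg {x : MonoidAlgebra ℂ G} (hx : IVal M x) : IVal M (-x) := fun g => by
  have : (-x).coeff g = -(x.coeff g) := by simp
  rw [this]
  exact memLocalIdeal_neg (hx g)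

theorem IVal.sub (hM : M.IsPrime) {x y : MonoidAlgebra ℂ G} (hx : IVal M x) (hy : IVal M y) :
    IVal M (x - y) := by
  rw [sub_eq_add_neg]
  exact hx.add hM hy.neg

theorem IVal.mul_right (hM : M.IsPrime) {x y : MonoidAlgebra ℂ G} (hx : IVal M x)
    (hy : RVal M y) : IVal M (x * y) := fun g => by
  rw [coeff_mul_eq_sum]
  exact memLocalIdeal_sum hM _ _ fun h _ => memLocalIdeal_mul_right hM (hx h) (hy _)

theorem IVal.mul_left (hM : M.IsPrime) {x y : MonoidAlgebra ℂ G} (hx : RVal M x)
    (hy : IVal M y) : IVal M (x * y) := fun g => by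
  rw [coeff_mul_eq_sum]
  exact memLocalIdeal_sum hM _ _ fun h _ => memLocalIdeal_mul_left hM (hx h) (hy _)

theorem IVal.smul (hM : M.IsPrime) {c : ℂ} (hc : MemLocalIdeal M c) {x : MonoidAlgebra ℂ G}
    (hx : RVal M x) : IVal M (c • x) := fun g => by
  rw [MonoidAlgebra.coeff_smul_apply, smul_eq_mul]
  exact memLocalIdeal_mul_right hM hc (hx g)

theorem IVal.sum (hM : M.IsPrime) {ι : Type*} (s : Finset ι) (f : ι → MonoidAlgebra ℂ G)
    (hf : ∀ i ∈ s, IVal M (f i)) : IVal M (∑ i ∈ s, f i) := fun g => by
  rw [MonoidAlgebra.coeff_sum, Finsupp.finsetSum_apply]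
  exact memLocalIdeal_sum hM _ _ fun i hi => hf i hi g

end Cfsg.Agent.Lib.Helper79_ConvMA
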