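import Mathlib
import Cfsg.Agent.Lib.Helper78_Osima
import Cfsg.Agent.Lib.Helper78_AlgHom
import Cfsg.Agent.Lib.Helper78_CharFacts
import Cfsg.Agent.Lib.Helper79_ConvMA

/-!
# Central elements killed modulo `M` by all central characters are nilpotent modulo `M` (helper79)

For a class function `ν` with local-integer values such that `ω_χ(ν)` lies in the local ideal for
every irreducible `χ`, some convolution power of `ν` has all its values in the local ideal
(`exists_cpow_memLocalIdeal`).  Proof: `∏_χ (X - ω_χ(ν))` kills `ν` (all central characters vanish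
on the result) and is monic with lower coefficients in the local ideal.
-/

set_option autoImplicit false
set_option linter.unusedSectionVars false

namespace Cfsg.Agent.Lib.Helper79_CentralNilp

open Cfsg Cfsg.Agent.Lib.Helper78_LocalRing Cfsg.Agent.Lib.Helper78_Osima
  Cfsg.Agent.Lib.Helper78_AlgHom Cfsg.Agent.Lib.Helper78_CharFacts
  Cfsg.Agent.Lib.Helper78_CentralChar Cfsg.Agent.Lib.Helper79_ConvMA

open Polynomial

universe u
variable {G : Type u} [Group G] [Fintype G] {M : Ideal AlgInt}

/-- Convolution powers. -/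
noncomputable def cpow (ν : G → ℂ) : ℕ → (G → ℂ)
  | 0 => classIndicator 1
  | (n + 1) => conv (cpow ν n) ν

theorem cpow_zero (ν : G → ℂ) : cpow ν 0 = classIndicator 1 := rfl

theorem cpow_succ (ν : G → ℂ) (n : ℕ) : cpow ν (n + 1) = conv (cpow ν n) ν := rfl

theorem cpow_isClassFunction {ν : G → ℂ} (hν : IsClassFunction G ν) :
    ∀ n, IsClassFunction G (cpow ν n)
  | 0 => classIndicator_isClassFunction 1
  | (n + 1) => conv_isClassFunction (cpow_isClassFunction hν n) hν

theorem cpow_memLocalRing (hM : M.IsPrime) {ν : G → ℂ} (hν : ∀ g, MemLocalRing M (ν g)) :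
    ∀ n g, MemLocalRing M (cpow ν n g)
  | 0, g => memLocalRing_classIndicator hM 1 g
  | (n + 1), g => by
    rw [cpow_succ]
    unfold conv
    exact memLocalRing_sum hM _ _ fun x _ =>
      memLocalRing_mul hM (cpow_memLocalRing hM hν n x) (hν _)

theorem omega_cpow (χ : IrrCharacter G) {ν : G → ℂ} (hν : IsClassFunction G ν) :
    ∀ n, omega (χ : G → ℂ) (cpow ν n) = (omega (χ : G → ℂ) ν) ^ n
  | 0 => by rw [cpow_zero, omega_classIndicator_one χ.2, pow_zero]
  | (n + 1) => by rw [cpow_succ, omega_conv χ.2 _ hν, omega_cpow χ hν n, pow_succ]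

theorem toMA_classIndicator_one : toMA (classIndicator (1 : G)) = 1 := by
  classical
  ext g
  rw [toMA_coeff, MonoidAlgebra.one_def, MonoidAlgebra.coeff_single, Finsupp.single_apply]
  unfold classIndicator
  rw [Set.indicator_apply]
  simp only [Set.mem_ofPred_eq, isConj_one_right]
  by_cases h : g = 1
  · rw [if_pos h, if_pos h.symm]
  · rw [if_neg h, if_neg (fun h' => h h'.symm)]

theorem toMA_cpow (ν : G → ℂ) : ∀ n, toMA (cpow ν n) = (toMA ν) ^ n
  | 0 => by rw [cpow_zero, toMA_classIndicator_one, pow_zero]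
  | (n + 1) => by rw [cpow_succ, toMA_conv, toMA_cpow ν n, pow_succ]

theorem omega_sum_mul (χ : G → ℂ) {ι : Type*} (s : Finset ι) (c : ι → ℂ) (f : ι → G → ℂ) :
    omega χ (fun g => ∑ j ∈ s, c j * f j g) = ∑ j ∈ s, c j * omega χ (f j) := by
  unfold omega
  have h1 : ∑ g : G, (∑ j ∈ s, c j * f j g) * χ g = ∑ j ∈ s, c j * ∑ g : G, f j g * χ g := by
    simp only [Finset.sum_mul, Finset.mul_sum]
    rw [Finset.sum_comm]
    exact Finset.sum_congr rfl fun j _ => Finset.sum_congr rfl fun g _ => by ring
  rw [h1, Finset.sum_div]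
  exact Finset.sum_congr rfl fun j _ => by rw [mul_div_assoc]

/-- A product of monic linear factors with roots in the local ideal has local-integer
coefficients, and its coefficients below the degree are in the local ideal. -/
theorem coeff_prod_X_sub_C (hM : M.IsPrime) {ι : Type*} [DecidableEq ι] (s : Finset ι)
    (μ : ι → ℂ) (hμ : ∀ i ∈ s, MemLocalIdeal M (μ i)) :
    (∀ j, MemLocalRing M ((∏ i ∈ s, (X - C (μ i))).coeff j)) ∧
      ∀ j, j < s.card → MemLocalIdeal M ((∏ i ∈ s, (X - C (μ i))).coeff j) := by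
  induction s using Finset.induction_on with
  | empty =>
    refine ⟨fun j => ?_, fun j hj => absurd hj (by simp)⟩
    rw [Finset.prod_empty, coeff_one]
    split_ifs
    · exact memLocalRing_one hM
    · exact memLocalRing_zero hM
  | insert a s ha ih =>
    obtain ⟨ihR, ihI⟩ := ih (fun i hi => hμ i (Finset.mem_insert_of_mem hi))
    have hμa := hμ a (Finset.mem_insert_self a s)
    set P := ∏ i ∈ s, (X - C (μ i)) with hP
    have hcoeff : ∀ j, ((X - C (μ a)) * P).coeff j =
        (if j = 0 then 0 else P.coeff (j - 1)) - μ a * P.coeff j := by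
      intro j
      rw [sub_mul, coeff_sub, coeff_C_mul]
      congr 1
      cases j with
      | zero => simp
      | succ j => simp [coeff_X_mul]
    rw [Finset.prod_insert ha, Finset.card_insert_of_notMem ha]
    refine ⟨fun j => ?_, fun j hj => ?_⟩
    · rw [hcoeff]
      refine memLocalRing_sub hM ?_ (memLocalRing_mul hM (memLocalRing_of_memLocalIdeal hμa) (ihR j))
      split_ifs
      · exact memLocalRing_zero hM
      · exact ihR _
    · rw [hcoeff]
      refine memLocalIdeal_sub hM ?_ (memLocalIdeal_mul_right hM hμa (ihR j))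
      split_ifs with h0
      · exact memLocalIdeal_zero hM
      · exact ihI _ (by omega)

/-- **Nilpotency modulo the local ideal.** -/
theorem exists_cpow_memLocalIdeal (hM : M.IsPrime) {ν : G → ℂ} (hν : IsClassFunction G ν)
    (hνR : ∀ g, MemLocalRing M (ν g))
    (hω : ∀ χ : IrrCharacter G, MemLocalIdeal M (omega (χ : G → ℂ) ν)) :
    ∃ k, ∀ g, MemLocalIdeal M (cpow ν k g) := by
  classical
  have hfin := (charFacts (G := G)).finite
  have := Fintype.ofFinite (IrrCharacter G)
  set P : ℂ[X] := ∏ χ : IrrCharacter G, (X - C (omega (χ : G → ℂ) ν)) with hP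
  set k := Fintype.card (IrrCharacter G) with hk
  obtain ⟨hPR, hPI⟩ := coeff_prod_X_sub_C hM (Finset.univ : Finset (IrrCharacter G))
    (fun χ => omega (χ : G → ℂ) ν) (fun χ _ => hω χ)
  have hmonic : P.Monic := monic_prod_of_monic _ _ fun χ _ => monic_X_sub_C _
  have hdeg : P.natDegree = k := by
    rw [hP, natDegree_prod_of_monic _ _ fun χ _ => monic_X_sub_C _]
    simp [hk]
  have hPk : P.coeff k = 1 := by
    rw [← hdeg]
    exact hmonic.coeff_natDegree
  refine ⟨k, ?_⟩
  set Q : G → ℂ := fun g => ∑ j ∈ Finset.range (k + 1), P.coeff j * cpow ν j g with hQ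
  have hQcf : IsClassFunction G Q := by
    intro g h
    simp only [hQ]
    refine Finset.sum_congr rfl fun j _ => ?_
    rw [cpow_isClassFunction hν j g h]
  have hQ0 : Q = 0 := by
    refine eq_zero_of_omega_eq_zero charFacts hQcf fun ψ => ?_
    rw [hQ, omega_sum_mul]
    have h1 : ∑ j ∈ Finset.range (k + 1), P.coeff j * omega (ψ : G → ℂ) (cpow ν j) =
        P.eval (omega (ψ : G → ℂ) ν) := by
      rw [eval_eq_sum_range, hdeg]
      refine Finset.sum_congr rfl fun j _ => ?_
      rw [omega_cpow ψ hν]
    rw [h1, hP, eval_prod]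
    exact Finset.prod_eq_zero (Finset.mem_univ ψ) (by simp)
  intro g
  have h2 := congrFun hQ0 g
  simp only [hQ, Pi.zero_apply] at h2
  rw [Finset.sum_range_succ, hPk, one_mul] at h2
  have h3 : cpow ν k g = -∑ j ∈ Finset.range k, P.coeff j * cpow ν j g := by
    rw [eq_neg_iff_add_eq_zero, add_comm]
    exact h2
  rw [h3]
  refine memLocalIdeal_neg (memLocalIdeal_sum hM _ _ fun j hj => ?_)
  refine memLocalIdeal_mul_right hM ?_ (cpow_memLocalRing hM hνR j g)
  have hj' : j < (Finset.univ : Finset (IrrCharacter G)).card := by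
    rw [Finset.card_univ]
    exact Finset.mem_range.1 hj
  exact hPI j hj'

end Cfsg.Agent.Lib.Helper79_CentralNilp
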