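/-
helper79 — package R7 of helper40's DEFZERO market (S2318 + S2440 + S4538):
if `ψ` is invariant under right translation by `Ua` and its sum over `X` is nonzero, then its sum
over `U = X Ua` is nonzero.
-/
import Mathlib
import Cfsg.Prelude.Def_Characters
import Cfsg.Prelude.Def_ParabolicCharacters
import Cfsg.Agent.Lib.Helper40_DefZeroDefs
import Cfsg.Agent.Lib.Helper40_DefZeroDefs2

set_option autoImplicit false

namespace Cfsg.Agent.Lib.Helper79_DZ_R7

open Cfsg Cfsg.Agent.Lib.Helper40_DefZeroDefs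

variable {P : Type*} [Group P] [Fintype P]

open Classical in
/-- the counting identity: for subgroups `X, A ≤ U` with `U = X A` and `ψ` right-`A`-invariant,
`|X ∩ A| * ∑_U ψ = |A| * ∑_X ψ` -/
theorem sum_prod_eq (U A X : Subgroup P) (hAU : A ≤ U) (hXU : X ≤ U)
    (hprod : ∀ u ∈ U, ∃ x ∈ X, ∃ v ∈ A, u = x * v) (ψ : P → ℂ)
    (hker : ∀ g : P, ∀ v ∈ A, ψ (g * v) = ψ g) :
    (∑ y : P, if y ∈ X ⊓ A then (1 : ℂ) else 0) * ssum (U : Set P) ψ
      = (∑ v : P, if v ∈ A then (1 : ℂ) else 0) * ssum (X : Set P) ψ := by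
  classical
  unfold ssum
  simp only [SetLike.mem_coe]
  -- the double sum
  have h1 : ∑ x : P, ∑ v : P, (if x ∈ X ∧ v ∈ A then ψ (x * v) else 0)
      = (∑ v : P, if v ∈ A then (1 : ℂ) else 0) * ∑ x : P, (if x ∈ X then ψ x else 0) := by
    rw [Finset.mul_sum]
    refine Finset.sum_congr rfl (fun x _ => ?_)
    rw [Finset.sum_mul]
    refine Finset.sum_congr rfl (fun v _ => ?_)
    by_cases hx : x ∈ X <;> by_cases hv : v ∈ A <;> simp [hx, hv, hker x v]
  have h2 : ∑ x : P, ∑ v : P, (if x ∈ X ∧ v ∈ A then ψ (x * v) else 0)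
      = ∑ u : P, ψ u * ∑ x : P, (if x ∈ X ∧ x⁻¹ * u ∈ A then (1 : ℂ) else 0) := by
    have h3 : ∀ x : P, ∑ v : P, (if x ∈ X ∧ v ∈ A then ψ (x * v) else 0)
        = ∑ u : P, (if x ∈ X ∧ x⁻¹ * u ∈ A then ψ u else 0) := by
      intro x
      rw [← Equiv.sum_comp (Equiv.mulLeft x) (fun u => if x ∈ X ∧ x⁻¹ * u ∈ A then ψ u else 0)]
      refine Finset.sum_congr rfl (fun v _ => ?_)
      simp only [Equiv.coe_mulLeft, inv_mul_cancel_left]
    rw [Finset.sum_congr rfl (fun x _ => h3 x), Finset.sum_comm]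
    refine Finset.sum_congr rfl (fun u _ => ?_)
    rw [Finset.mul_sum]
    refine Finset.sum_congr rfl (fun x _ => ?_)
    split_ifs <;> simp
  -- the fibre count
  have h4 : ∀ u : P, ∑ x : P, (if x ∈ X ∧ x⁻¹ * u ∈ A then (1 : ℂ) else 0)
      = if u ∈ U then (∑ y : P, if y ∈ X ⊓ A then (1 : ℂ) else 0) else 0 := by
    intro u
    by_cases hu : u ∈ U
    · rw [if_pos hu]
      obtain ⟨x0, hx0, v0, hv0, rfl⟩ := hprod u hu
      rw [← Equiv.sum_comp (Equiv.mulLeft x0)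
        (fun x => if x ∈ X ∧ x⁻¹ * (x0 * v0) ∈ A then (1 : ℂ) else 0)]
      refine Finset.sum_congr rfl (fun y _ => ?_)
      simp only [Equiv.coe_mulLeft]
      have e1 : x0 * y ∈ X ↔ y ∈ X := Subgroup.mul_mem_cancel_left X hx0
      have e2 : (x0 * y)⁻¹ * (x0 * v0) ∈ A ↔ y ∈ A := by
        have : (x0 * y)⁻¹ * (x0 * v0) = y⁻¹ * v0 := by group
        rw [this, Subgroup.mul_mem_cancel_right A hv0, inv_mem_iff]
      simp only [e1, e2, Subgroup.mem_inf]
    · rw [if_neg hu]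
      apply Finset.sum_eq_zero
      intro x _
      rw [if_neg]
      rintro ⟨hx, hxu⟩
      apply hu
      have : u = x * (x⁻¹ * u) := by group
      rw [this]
      exact U.mul_mem (hXU hx) (hAU hxu)
  rw [← h1, h2, Finset.mul_sum]
  refine Finset.sum_congr rfl (fun u _ => ?_)
  rw [h4 u]
  split_ifs <;> ring

/-- R7. -/
theorem dz_r7 {p q : ℕ} [Fact p.Prime] (R : RData P p q) (ψ : P → ℂ)
    (hker : ∀ g : P, ∀ v ∈ R.Ua, ψ (g * v) = ψ g) (hX : ssum (R.X : Set P) ψ ≠ 0) :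
    ssum (R.U : Set P) ψ ≠ 0 := by
  classical
  intro h0
  have h := sum_prod_eq R.U R.Ua R.X R.Ua_le_U R.X_le_U R.U_prod ψ hker
  rw [h0, mul_zero] at h
  have hA : (∑ v : P, if v ∈ R.Ua then (1 : ℂ) else 0) ≠ 0 := by
    rw [Finset.sum_boole]
    have : 0 < (Finset.univ.filter (fun v : P => v ∈ R.Ua)).card :=
      Finset.card_pos.2 ⟨1, by simp [R.Ua.one_mem]⟩
    exact_mod_cast this.ne'
  rcases mul_eq_zero.1 h.symm with h5 | h5
  · exact hA h5
  · exact hX h5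

end Cfsg.Agent.Lib.Helper79_DZ_R7
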