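import Mathlib

/-!
# Involutions acting on `p`-subgroups when centralizers of `p`-elements have odd order (helper79)

* `exists_invariant_sylow_centralizer`: an involution `g` inverting `u` with `C_G(u)` of odd
  order normalizes a Sylow `p`-subgroup of `C_G(u)` (which contains `u` when `u` is a
  `p`-element).
* `inverts_of_invariant`: if no non-identity element of a `g`-invariant finite subgroup `Q`
  commutes with the involution `g`, then `g` inverts `Q` elementwise.
* `commute_of_inverts`: a subgroup inverted elementwise is commutative.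
-/

set_option autoImplicit false

namespace Cfsg.Agent.Lib.Helper79_FpfInvolution

open scoped Pointwise

variable {G : Type*} [Group G]

/-- conjugation by an element `g` inverting `u` preserves the centralizer of `u` -/
theorem conj_mem_centralizer {g u : G} (hinv : g * u * g⁻¹ = u⁻¹) {c : G}
    (hc : c ∈ Subgroup.centralizer ({u} : Set G)) :
    g * c * g⁻¹ ∈ Subgroup.centralizer ({u} : Set G) := by
  rw [Subgroup.mem_centralizer_singleton_iff] at hc ⊢
  have hc' : Commute c u := hc
  have h1 : Commute (MulAut.conj g c) (MulAut.conj g u) := hc'.map (MulAut.conj g)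
  rw [MulAut.conj_apply, MulAut.conj_apply, hinv] at h1
  exact (Commute.inv_right_iff.mp h1).eq

theorem conj_conj_of_mul_self {g : G} (hgg : g * g = 1) (c : G) :
    g * (g * c * g⁻¹) * g⁻¹ = c := by
  calc g * (g * c * g⁻¹) * g⁻¹ = (g * g) * c * (g * g)⁻¹ := by group
    _ = c := by rw [hgg, one_mul, inv_one, mul_one]

/-- conjugation by the involution `g` as an automorphism of the centralizer of an element it
inverts -/
noncomputable def conjAut {g u : G} (hgg : g * g = 1) (hinv : g * u * g⁻¹ = u⁻¹) :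
    MulAut ↥(Subgroup.centralizer ({u} : Set G)) where
  toFun c := ⟨g * c * g⁻¹, conj_mem_centralizer hinv c.2⟩
  invFun c := ⟨g * c * g⁻¹, conj_mem_centralizer hinv c.2⟩
  left_inv c := Subtype.ext (conj_conj_of_mul_self hgg c)
  right_inv c := Subtype.ext (conj_conj_of_mul_self hgg c)
  map_mul' a b := by
    apply Subtype.ext
    simp only [Subgroup.coe_mul]
    group

theorem conjAut_apply {g u : G} (hgg : g * g = 1) (hinv : g * u * g⁻¹ = u⁻¹)
    (c : ↥(Subgroup.centralizer ({u} : Set G))) :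
    ((conjAut hgg hinv c : ↥(Subgroup.centralizer ({u} : Set G))) : G) = g * c * g⁻¹ := rfl

theorem conjAut_mul_self {g u : G} (hgg : g * g = 1) (hinv : g * u * g⁻¹ = u⁻¹) :
    conjAut hgg hinv * conjAut hgg hinv = 1 := by
  ext c
  rw [MulAut.mul_apply, conjAut_apply, conjAut_apply, MulAut.one_apply]
  exact conj_conj_of_mul_self hgg c

/-- An involution `g` inverting `u`, with `C_G(u)` of odd order, normalizes some Sylow
`p`-subgroup `Q` of `C_G(u)`; if `u` is a `p`-element then `u ∈ Q`. -/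
theorem exists_invariant_sylow_centralizer [Finite G] (p : ℕ) [Fact p.Prime] {g u : G}
    (hgg : g * g = 1) (hinv : g * u * g⁻¹ = u⁻¹) (hup : ∃ k : ℕ, orderOf u = p ^ k)
    (hodd : Odd (Nat.card ↥(Subgroup.centralizer ({u} : Set G)))) :
    ∃ Q : Subgroup G, Q ≤ Subgroup.centralizer ({u} : Set G) ∧
      Nat.card ↥Q = p ^ (Nat.card ↥(Subgroup.centralizer ({u} : Set G))).factorization p ∧
      u ∈ Q ∧ ∀ q ∈ Q, g * q * g⁻¹ ∈ Q := by
  classical
  set C : Subgroup G := Subgroup.centralizer ({u} : Set G) with hC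
  set α : MulAut ↥C := conjAut hgg hinv with hα
  have hαα : α * α = 1 := conjAut_mul_self hgg hinv
  -- the group generated by `α` is a `2`-group
  have hA : IsPGroup 2 ↥(Subgroup.zpowers α) := by
    rintro ⟨a, ha⟩
    obtain ⟨n, rfl⟩ := Subgroup.mem_zpowers_iff.mp ha
    refine ⟨1, ?_⟩
    apply Subtype.ext
    simp only [pow_one, Subgroup.coe_pow, Subgroup.coe_one]
    rw [sq, ← zpow_add, ← two_mul, zpow_mul, zpow_ofNat, sq, hαα, one_zpow]
  -- the number of Sylow subgroups of `C` is odd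
  have hcard : ¬ 2 ∣ Nat.card (Sylow p ↥C) := by
    intro h2
    obtain ⟨P0⟩ : Nonempty (Sylow p ↥C) := inferInstance
    have h3 : Nat.card (Sylow p ↥C) ∣ Nat.card ↥C :=
      (Sylow.card_dvd_index P0).trans (Subgroup.index_dvd_card _)
    exact (Nat.not_even_iff_odd.mpr hodd) (even_iff_two_dvd.mpr (h2.trans h3))
  obtain ⟨Q, hQ⟩ := hA.nonempty_fixed_point_of_prime_not_dvd_card (Sylow p ↥C) hcard
  have hfix : α • Q = Q := hQ ⟨α, Subgroup.mem_zpowers α⟩
  have hfix' : α • (Q : Subgroup ↥C) = (Q : Subgroup ↥C) := by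
    rw [← Sylow.pointwise_smul_def, hfix]
  refine ⟨(Q : Subgroup ↥C).map C.subtype, ?_, ?_, ?_, ?_⟩
  · rintro _ ⟨c, -, rfl⟩
    exact c.2
  · rw [Nat.card_congr ((Q : Subgroup ↥C).equivMapOfInjective C.subtype
      (Subgroup.subtype_injective C)).symm.toEquiv]
    exact Q.card_eq_multiplicity
  · -- `u` is a central `p`-element of `C`
    have huC : u ∈ C := by
      rw [hC, Subgroup.mem_centralizer_singleton_iff]
    set u' : ↥C := ⟨u, huC⟩ with hu'
    have hcentral : u' ∈ Subgroup.center ↥C := by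
      rw [Subgroup.mem_center_iff]
      intro c
      apply Subtype.ext
      have := (Subgroup.mem_centralizer_singleton_iff).mp c.2
      simp only [Subgroup.coe_mul, hu']
      exact this
    have hcomm : ∀ (a : ↥C) (n : ↥C), n ∈ Subgroup.zpowers u' → a * n = n * a := by
      intro a n hn
      obtain ⟨k, rfl⟩ := Subgroup.mem_zpowers_iff.mp hn
      have hau : Commute a u' := (Subgroup.mem_center_iff.mp hcentral a)
      exact (hau.zpow_right k).eq
    haveI : (Subgroup.zpowers u').Normal := by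
      constructor
      intro n hn a
      rw [hcomm a n hn, mul_inv_cancel_right]
      exact hn
    have hp' : IsPGroup p ↥(Subgroup.zpowers u') := by
      obtain ⟨k, hk⟩ := hup
      refine IsPGroup.of_card (n := k) ?_
      rw [Nat.card_zpowers, ← hk, hu']
      exact Subgroup.orderOf_mk u huC
    have hle := hp'.le_sylow_of_normal Q
    exact ⟨u', hle (Subgroup.mem_zpowers u'), rfl⟩
  · rintro _ ⟨c, hc, rfl⟩
    have h1 : α • c ∈ α • (Q : Subgroup ↥C) := Subgroup.smul_mem_pointwise_smul c α _ hc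
    rw [hfix'] at h1
    exact ⟨α • c, h1, rfl⟩

/-- If the involution `g` normalizes the finite subgroup `Q` and commutes with no non-identity
element of `Q`, then it inverts every element of `Q`. -/
theorem inverts_of_invariant {g : G} (hgg : g * g = 1) (Q : Subgroup G) [Finite ↥Q]
    (hQ : ∀ q ∈ Q, g * q * g⁻¹ ∈ Q) (hfpf : ∀ q ∈ Q, g * q = q * g → q = 1) :
    ∀ q ∈ Q, g * q * g⁻¹ = q⁻¹ := by
  let f : ↥Q → ↥Q := fun q => ⟨(q : G)⁻¹ * (g * q * g⁻¹), Q.mul_mem (Q.inv_mem q.2) (hQ q q.2)⟩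
  have hinj : Function.Injective f := by
    intro q r hqr
    have h1 : (q : G)⁻¹ * (g * q * g⁻¹) = (r : G)⁻¹ * (g * r * g⁻¹) := congrArg Subtype.val hqr
    have h3 : (r : G) * (q : G)⁻¹ = g * (r * (q : G)⁻¹) * g⁻¹ := by
      calc (r : G) * (q : G)⁻¹ = r * ((q : G)⁻¹ * (g * q * g⁻¹)) * (g * q * g⁻¹)⁻¹ := by group
        _ = r * ((r : G)⁻¹ * (g * r * g⁻¹)) * (g * q * g⁻¹)⁻¹ := by rw [h1]
        _ = g * (r * (q : G)⁻¹) * g⁻¹ := by group
    have h2 : g * ((r : G) * (q : G)⁻¹) = ((r : G) * (q : G)⁻¹) * g := by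
      calc g * ((r : G) * (q : G)⁻¹) = (g * (r * (q : G)⁻¹) * g⁻¹) * g := by group
        _ = ((r : G) * (q : G)⁻¹) * g := by rw [← h3]
    have h4 := hfpf _ (Q.mul_mem r.2 (Q.inv_mem q.2)) h2
    apply Subtype.ext
    have : (r : G) = q := by
      calc (r : G) = (r * (q : G)⁻¹) * q := by group
        _ = q := by rw [h4, one_mul]
    exact this.symm
  have hsurj : Function.Surjective f := Finite.surjective_of_injective hinj
  intro q hq
  obtain ⟨r, hr⟩ := hsurj ⟨q, hq⟩
  have h1 : (r : G)⁻¹ * (g * r * g⁻¹) = q := congrArg Subtype.val hr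
  rw [← h1]
  have hginv : g⁻¹ = g := inv_eq_of_mul_eq_one_left hgg
  calc g * ((r : G)⁻¹ * (g * r * g⁻¹)) * g⁻¹
      = g * (r : G)⁻¹ * g * r * (g * g)⁻¹ := by group
    _ = g * (r : G)⁻¹ * g * r := by rw [hgg, inv_one, mul_one]
    _ = g * (r : G)⁻¹ * g⁻¹ * r := by rw [hginv]
    _ = ((r : G)⁻¹ * (g * r * g⁻¹))⁻¹ := by group

/-- A subgroup all of whose elements are inverted by conjugation with `g` is commutative. -/
theorem commute_of_inverts {g : G} (Q : Subgroup G) (hinv : ∀ q ∈ Q, g * q * g⁻¹ = q⁻¹)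
    {a b : G} (ha : a ∈ Q) (hb : b ∈ Q) : a * b = b * a := by
  have h1 := hinv (a * b) (Q.mul_mem ha hb)
  have h2 : g * (a * b) * g⁻¹ = (g * a * g⁻¹) * (g * b * g⁻¹) := by group
  rw [h2, hinv a ha, hinv b hb, mul_inv_rev] at h1
  have h3 : (a⁻¹ * b⁻¹)⁻¹ = (b⁻¹ * a⁻¹)⁻¹ := by rw [h1]
  rw [mul_inv_rev, mul_inv_rev, inv_inv, inv_inv] at h3
  exact h3.symm

end Cfsg.Agent.Lib.Helper79_FpfInvolution
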