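import Mathlib
import Cfsg.Agent.Lib.Helper79_ConvMA
import Cfsg.Agent.Lib.Helper78_PGroupSum

/-!
# The Frobenius congruence for the coefficient at `1` of a `p`-power in the group algebra (helper79)

For `x` in `ℂ[G]` with local-integer coefficients and `q = p ^ n`,
`(x ^ q).coeff 1 ≡ ∑_{h, h ^ q = 1} (x.coeff h) ^ q` modulo the local ideal
(`coeff_one_pow_sub_mem`).  The proof expands `x ^ q` over `q`-tuples and lets the cyclic group
of order `q` rotate the tuples with product `1`.
-/

set_option autoImplicit false
set_option linter.unusedSectionVars false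
set_option warn.classDefReducibility false

namespace Cfsg.Agent.Lib.Helper79_Frobenius

open Cfsg Cfsg.Agent.Lib.Helper78_LocalRing Cfsg.Agent.Lib.Helper79_ConvMA
  Cfsg.Agent.Lib.Helper78_PGroupSum

universe u
variable {G : Type u} [Group G] [Fintype G] {M : Ideal AlgInt} {p : ℕ}

/-- Expansion of the coefficients of a power over tuples. -/
theorem coeff_pow_eq_sum [DecidableEq G] (x : MonoidAlgebra ℂ G) :
    ∀ (q : ℕ) (g : G), (x ^ q).coeff g =
      ∑ f : Fin q → G, if (List.ofFn f).prod = g then ∏ i, x.coeff (f i) else 0 := by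
  intro q
  induction q with
  | zero =>
    intro g
    rw [pow_zero, MonoidAlgebra.one_def, MonoidAlgebra.coeff_single, Finsupp.single_apply]
    rw [Fintype.sum_eq_single (fun i : Fin 0 => i.elim0)]
    · simp
    · intro f hf
      exact absurd (Subsingleton.elim f _) hf
  | succ q ih =>
    intro g
    rw [pow_succ', coeff_mul_eq_sum]
    rw [← (Fin.consEquiv (fun _ : Fin (q + 1) => G)).sum_comp, Fintype.sum_prod_type]
    refine Finset.sum_congr rfl fun h _ => ?_
    rw [ih, Finset.mul_sum]
    refine Finset.sum_congr rfl fun f _ => ?_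
    have h1 : (List.ofFn ((Fin.consEquiv (fun _ : Fin (q + 1) => G)) (h, f))).prod =
        h * (List.ofFn f).prod := by
      simp [List.ofFn_succ]
    have h2 : ∏ i, x.coeff ((Fin.consEquiv (fun _ : Fin (q + 1) => G)) (h, f) i) =
        x.coeff h * ∏ i, x.coeff (f i) := by
      simp [Fin.prod_univ_succ]
    rw [h1, h2]
    by_cases hc : (List.ofFn f).prod = h⁻¹ * g
    · rw [if_pos hc, if_pos (by rw [hc]; group)]
    · rw [if_neg hc, if_neg (fun h' => hc (by rw [← h']; group)), mul_zero]

/-- Rotating a tuple by one step does not change whether its product is `1`. -/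
theorem prod_rot_one {m : ℕ} (f : Fin (m + 1) → G) :
    (List.ofFn (fun i => f (i + 1))).prod = 1 ↔ (List.ofFn f).prod = 1 := by
  rw [List.ofFn_succ' (fun i => f (i + 1)), List.ofFn_succ (f := f)]
  simp only [List.concat_eq_append, List.prod_append, List.prod_cons, List.prod_nil, mul_one,
    Fin.last_add_one, Fin.coeSucc_eq_succ]
  exact mul_eq_one_comm

theorem prod_rot {m : ℕ} (f : Fin (m + 1) → G) (k : Fin (m + 1)) :
    (List.ofFn (fun i => f (i + k))).prod = 1 ↔ (List.ofFn f).prod = 1 := by
  induction k using Fin.induction with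
  | zero => simp
  | succ j ih =>
    have h1 : (fun i => f (i + j.succ)) = fun i => f (i + 1 + Fin.castSucc j) := by
      funext i
      congr 1
      rw [← Fin.coeSucc_eq_succ]
      abel
    rw [h1]
    exact (prod_rot_one (fun i => f (i + Fin.castSucc j))).trans ih

/-- The rotation action of the cyclic group `Fin (m + 1)` on tuples. -/
def rotAction (m : ℕ) (G : Type u) : MulAction (Multiplicative (Fin (m + 1))) (Fin (m + 1) → G) where
  smul k f := fun i => f (i + Multiplicative.toAdd k)
  one_smul f := by
    funext i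
    show f (i + Multiplicative.toAdd (1 : Multiplicative (Fin (m + 1)))) = f i
    simp
  mul_smul k l f := by
    funext i
    show f (i + Multiplicative.toAdd (k * l)) =
      f (i + Multiplicative.toAdd k + Multiplicative.toAdd l)
    rw [toAdd_mul, add_assoc]

/-- **Frobenius congruence** for the coefficient at `1`. -/
theorem coeff_one_pow_sub_mem [DecidableEq G] (hM : IsPModular p M) (n : ℕ)
    (x : MonoidAlgebra ℂ G) (hx : RVal M x) :
    MemLocalIdeal M ((x ^ (p ^ n)).coeff 1 -
      ∑ h : G, if h ^ (p ^ n) = 1 then (x.coeff h) ^ (p ^ n) else 0) := by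
  classical
  have hMp := isPrime_of_isPModular hM
  have hp : p.Prime := hM.1
  obtain ⟨m, hm⟩ : ∃ m, p ^ n = m + 1 :=
    Nat.exists_eq_succ_of_ne_zero (pow_ne_zero n hp.ne_zero)
  rw [hm, coeff_pow_eq_sum]
  let _ := rotAction m G
  have hsmul : ∀ (k : Multiplicative (Fin (m + 1))) (f : Fin (m + 1) → G) (i : Fin (m + 1)),
      (k • f) i = f (i + Multiplicative.toAdd k) := fun k f i => rfl
  let F : (Fin (m + 1) → G) → ℂ :=
    fun f => if (List.ofFn f).prod = 1 then ∏ i, x.coeff (f i) else 0
  have hP : IsPGroup p (Multiplicative (Fin (m + 1))) := by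
    refine IsPGroup.of_card (n := n) ?_
    rw [Nat.card_eq_fintype_card, Fintype.card_multiplicative, Fintype.card_fin, hm]
  have hF : ∀ (k : Multiplicative (Fin (m + 1))) (f : Fin (m + 1) → G), F (k • f) = F f := by
    intro k f
    simp only [F]
    have h1 : (List.ofFn (k • f)).prod = 1 ↔ (List.ofFn f).prod = 1 :=
      prod_rot f (Multiplicative.toAdd k)
    have h2 : ∏ i, x.coeff ((k • f) i) = ∏ i, x.coeff (f i) :=
      Fintype.prod_equiv (Equiv.addRight (Multiplicative.toAdd k)) _ _ (fun i => rfl)
    rw [h2]
    by_cases hc : (List.ofFn f).prod = 1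
    · rw [if_pos hc, if_pos (h1.2 hc)]
    · rw [if_neg hc, if_neg (fun h' => hc (h1.1 h'))]
  have hR : ∀ f, MemLocalRing M (F f) := by
    intro f
    simp only [F]
    split_ifs
    · exact memLocalRing_prod hMp _ _ fun i _ => hx _
    · exact memLocalRing_zero hMp
  have key := sum_sub_sum_fixed_mem hP hM F hF hR
  have hfixed : ∑ f ∈ Finset.univ.filter
      (fun f : Fin (m + 1) → G => ∀ k : Multiplicative (Fin (m + 1)), k • f = f), F f =
      ∑ h : G, if h ^ (m + 1) = 1 then (x.coeff h) ^ (m + 1) else 0 := by
    have himg : Finset.univ.filter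
        (fun f : Fin (m + 1) → G => ∀ k : Multiplicative (Fin (m + 1)), k • f = f) =
        Finset.univ.image (fun h : G => (fun _ : Fin (m + 1) => h)) := by
      ext f
      simp only [Finset.mem_filter, Finset.mem_univ, true_and, Finset.mem_image]
      constructor
      · intro hf
        refine ⟨f 0, ?_⟩
        funext i
        have := congrFun (hf (Multiplicative.ofAdd i)) 0
        rw [hsmul] at this
        simpa using this.symm
      · rintro ⟨h, rfl⟩ k
        rfl
    rw [himg, Finset.sum_image]
    · refine Finset.sum_congr rfl fun h _ => ?_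
      simp only [F]
      have h1 : (List.ofFn (fun _ : Fin (m + 1) => h)).prod = h ^ (m + 1) := by
        rw [List.ofFn_const, List.prod_replicate]
      rw [h1]
      simp
    · intro h _ h' _ hh
      exact congrFun hh 0
  rw [hfixed] at key
  exact key

end Cfsg.Agent.Lib.Helper79_Frobenius
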