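import Mathlib
import Cfsg.Prelude.Def_Characters
import Cfsg.Agent.Lib.Helper51_Isaacs124
import Cfsg.Agent.Lib.Helper59_CliffordDeg
import Cfsg.Agent.Lib.Helper80_CharBasic
import Cfsg.Agent.Lib.Helper80_RelDegree

/-!
# S4460 package PF (helper79): the Frobenius case inside `G`

`K ≤ N` normal in `G` with `G/K` Frobenius with abelian kernel `N/K` of order `p ^ a`, and
`cd(G) ⊆ {1, m, n}` with `m, n` coprime.  Then `N` has at most two character degrees.
-/

set_option autoImplicit false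

namespace Cfsg.Agent.Lib.Helper79_Isaacs1215_PF

open Cfsg

universe u

theorem natCast_inj_C {a b : ℕ} (h : (a : ℂ) = (b : ℂ)) : a = b := by exact_mod_cast h

/-- PF = the Frobenius case (inside `G`) -/
theorem PF {G : Type u} [Group G] [Finite G] (K N : Subgroup G) [K.Normal] [N.Normal]
    (hKN : K ≤ N) (hne : K ≠ N)
    (hab : ∀ x ∈ N, ∀ y ∈ N, x * y * x⁻¹ * y⁻¹ ∈ K)
    (hcop : (K.relIndex N).Coprime N.index)
    (hfpf : ∀ g : G, g ∉ N → ∀ x ∈ N, x⁻¹ * (g⁻¹ * x * g) ∈ K → x ∈ K)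
    (p a : ℕ) (hp : p.Prime) (hrel : K.relIndex N = p ^ a) (hidx : N.index ≠ 1)
    (m n : ℕ) (hmn : m.Coprime n)
    (hcd : ∀ χ : IrrCharacter G, (χ : G → ℂ) 1 = 1 ∨ (χ : G → ℂ) 1 = m ∨ (χ : G → ℂ) 1 = n) :
    ∃ g : ℕ, ∀ ψ : IrrCharacter N, (ψ : N → ℂ) 1 = 1 ∨ (ψ : N → ℂ) 1 = g := by
  classical
  have hFin : Fintype G := Fintype.ofFinite G
  have hFinN : Fintype N := Fintype.ofFinite N
  set f := N.index with hf
  have hfpos : 0 < f := Nat.pos_of_ne_zero Subgroup.index_ne_zero_of_finite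
  -- `a > 0`
  have hapos : 0 < a := by
    rcases Nat.eq_zero_or_pos a with h | h
    · exfalso
      rw [h, pow_zero, Subgroup.relIndex_eq_one] at hrel
      exact hne (le_antisymm hKN hrel)
    · exact h
  have hpf : ¬ p ∣ f := by
    intro hpf
    rw [hrel] at hcop
    have h1 : p ∣ p ^ a := dvd_pow_self p hapos.ne'
    exact hp.one_lt.ne' (Nat.eq_one_of_dvd_coprimes hcop h1 hpf)
  -- `f` is a character degree of `G`
  have hfcd : ∃ χ : IrrCharacter G, (χ : G → ℂ) 1 = (f : ℂ) := by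
    rcases Cfsg.Agent.Lib.Helper51_Isaacs124.isaacs_12_4_degree K N hKN hne hab hcop hfpf
      (Cfsg.Agent.Lib.Helper80_CharBasic.oneIrr N) 1 (by
        show (1 : ℂ) = ((1 : ℕ) : ℂ)
        simp) with ⟨χ, hχ⟩ | ⟨_, h2⟩
    · refine ⟨χ, ?_⟩
      rw [hχ, mul_one]
    · exact absurd (Nat.coprime_one_left _) h2
  obtain ⟨χf, hχf⟩ := hfcd
  -- the general dichotomy for a degree `d` of `N`, given the "other" degree `g`
  have key : ∀ g : ℕ, g.Coprime f → (∀ χ : IrrCharacter G,
      (χ : G → ℂ) 1 = 1 ∨ (χ : G → ℂ) 1 = f ∨ (χ : G → ℂ) 1 = g) →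
      ∀ ψ : IrrCharacter N, (ψ : N → ℂ) 1 = 1 ∨ (ψ : N → ℂ) 1 = g := by
    intro g hgf hcd' ψ
    obtain ⟨d, hdpos, hd⟩ := Cfsg.Agent.Lib.Helper80_CharBasic.irr_apply_one ψ
    rcases Cfsg.Agent.Lib.Helper51_Isaacs124.isaacs_12_4_degree K N hKN hne hab hcop hfpf
      ψ d hd with ⟨χ, hχ⟩ | ⟨hvan, _⟩
    · -- `f * d` is a degree
      rcases hcd' χ with h | h | h
      · exfalso
        rw [hχ] at h
        have h1 : f * d = 1 := by exact_mod_cast h
        exact hidx (Nat.eq_one_of_mul_eq_one_right h1)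
      · left
        rw [hχ] at h
        have h1 : f * d = f := by exact_mod_cast h
        have h2 : d = 1 := by
          have : f * d = f * 1 := by rw [h1, mul_one]
          exact Nat.eq_of_mul_eq_mul_left hfpos this
        rw [hd, h2]
        simp
      · exfalso
        rw [hχ] at h
        have h1 : f * d = g := by exact_mod_cast h
        have h2 : f ∣ g := ⟨d, h1.symm⟩
        exact hidx (Nat.eq_one_of_dvd_coprimes hgf.symm (dvd_refl f) h2)
    · -- `p ∣ d`
      have hpd : p ∣ d :=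
        Cfsg.Agent.Lib.Helper51_Isaacs124.prime_dvd_of_vanish K N hKN hne ψ hvan d hd hp hrel
      obtain ⟨χ, hχirr, hχcon⟩ :=
        Cfsg.Agent.Lib.Helper59_CliffordDeg.exists_irr_over N ψ.2
      obtain ⟨c, hcpos, hc⟩ := Cfsg.Agent.Lib.Helper80_CharBasic.irr_apply_one
        (⟨χ, hχirr⟩ : IrrCharacter G)
      have hc' : χ 1 = (c : ℂ) := hc
      obtain ⟨e, hce, hef⟩ := Cfsg.Agent.Lib.Helper80_RelDegree.rel_degree_dvd N χ hχirr
        (ψ : N → ℂ) ψ.2 hχcon c d hc' hd
      have hpc : p ∣ c := by rw [hce]; exact Dvd.dvd.mul_left hpd e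
      rcases hcd' ⟨χ, hχirr⟩ with h | h | h
      · exfalso
        have h0 : χ 1 = 1 := h
        rw [hc'] at h0
        have h1 : c = 1 := by exact_mod_cast h0
        rw [h1] at hpc
        exact hp.one_lt.ne' (Nat.dvd_one.mp hpc)
      · exfalso
        have h0 : χ 1 = (f : ℂ) := h
        rw [hc'] at h0
        have h1 : c = f := natCast_inj_C h0
        rw [h1] at hpc
        exact hpf hpc
      · right
        have h0 : χ 1 = (g : ℂ) := h
        rw [hc'] at h0
        have h1 : c = g := natCast_inj_C h0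
        have h2 : e ∣ g := ⟨d, by rw [← h1, hce]⟩
        have h3 : e = 1 := Nat.eq_one_of_dvd_coprimes hgf h2 hef
        rw [hd]
        rw [h3, one_mul] at hce
        rw [← h1, hce]
  -- `f = m` or `f = n`
  rcases hcd χf with h | h | h
  · exfalso
    rw [hχf] at h
    have : f = 1 := by exact_mod_cast h
    exact hidx this
  · rw [hχf] at h
    have hfm : f = m := natCast_inj_C h
    refine ⟨n, key n (hfm ▸ hmn.symm) (fun χ => ?_)⟩
    rw [hfm]
    exact hcd χ
  · rw [hχf] at h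
    have hfn : f = n := natCast_inj_C h
    refine ⟨m, key m (hfn ▸ hmn) (fun χ => ?_)⟩
    rw [hfn]
    rcases hcd χ with h | h | h
    · exact Or.inl h
    · exact Or.inr (Or.inr h)
    · exact Or.inr (Or.inl h)

end Cfsg.Agent.Lib.Helper79_Isaacs1215_PF
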