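import Mathlib
import Cfsg.Agent.Lib.Helper79_ConvMA
import Cfsg.Agent.Lib.Helper79_Frobenius
import Cfsg.Agent.Lib.Helper79_CentralNilp
import Cfsg.Agent.Lib.Helper78_PRegSum
import Cfsg.Agent.Lib.Helper77_WeakOrth

/-!
# Külshammer's formula for the principal block idempotent (helper79)

With `s` the sum of the `p`-regular elements, `R` their number and `e₀` the principal block
idempotent: `s = R e₀ + ν` with `ν` nilpotent modulo the local ideal, so `s ^ q ≡ R ^ q e₀` for a
large power `q` of `p` (`ival_pow_sub`).  The Frobenius congruence applied to `s g⁻¹` then gives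
`(s ^ q).coeff g ≡ #{h : h ^ q = 1, h g p-regular}` (`kulshammer_aux`).
-/

set_option autoImplicit false
set_option linter.unusedSectionVars false

namespace Cfsg.Agent.Lib.Helper79_Kulshammer

open Cfsg Cfsg.Agent.Lib.Helper78_LocalRing Cfsg.Agent.Lib.Helper78_Osima
  Cfsg.Agent.Lib.Helper78_CharFacts Cfsg.Agent.Lib.Helper78_CentralChar
  Cfsg.Agent.Lib.Helper78_PRegSum Cfsg.Agent.Lib.Helper79_ConvMA
  Cfsg.Agent.Lib.Helper79_Frobenius Cfsg.Agent.Lib.Helper79_CentralNilp

universe u
variable {G : Type u} [Group G] [Fintype G] {M : Ideal AlgInt} {p : ℕ}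

/-- The number of `p`-regular elements, as the sum of the indicator function. -/
theorem sum_regInd_eq_card [DecidableEq G] :
    ∑ x : G, regInd p G x = ((Finset.univ.filter (fun y : G => ¬ p ∣ orderOf y)).card : ℂ) := by
  rw [Finset.card_filter]
  push_cast
  refine Finset.sum_congr rfl fun x _ => ?_
  by_cases h : p ∣ orderOf x
  · rw [regInd_of_sing h, if_neg (fun hn => hn h)]
  · rw [regInd_of_reg h, if_pos h]

/-- `ν = s - R e₀` is killed modulo the local ideal by every central character. -/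
theorem memLocalIdeal_omega_nu [Fact p.Prime] (hM : IsPModular p M) (χ : IrrCharacter G) :
    MemLocalIdeal M (omega (χ : G → ℂ)
      (regInd p G - fun g => (∑ x : G, regInd p G x) * blockCoeff (principalBlock M G) g)) := by
  classical
  have hMp := isPrime_of_isPModular hM
  rw [omega_sub, omega_smul, omega_blockCoeff charFacts]
  by_cases hχ : χ ∈ principalBlock M G
  · rw [Set.indicator_of_mem hχ, mul_one]
    have h1 : omega (fun _ : G => (1 : ℂ)) (regInd p G) = ∑ x : G, regInd p G x := by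
      unfold omega
      simp
    rw [← h1]
    have hsb : SameBlock M (χ : G → ℂ) (fun _ : G => (1 : ℂ)) :=
      sameBlock_symm (mem_blockOf_iff.1 hχ)
    exact memLocalIdeal_omega_sub hMp (isIrrCharacter_isClassFunction χ.2) (fun _ _ => rfl) hsb
      regInd_isClassFunction (regInd_memLocalRing hMp)
  · rw [Set.indicator_of_notMem hχ, mul_zero, sub_zero, omega_regInd_eq_zero hM χ hχ]
    exact memLocalIdeal_zero hMp

theorem natCast_mul_eq_smul (n : ℕ) (x : MonoidAlgebra ℂ G) :
    x * (n : MonoidAlgebra ℂ G) = (n : ℂ) • x := by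
  rw [← nsmul_eq_mul', Nat.cast_smul_eq_nsmul]

/-- `s ^ q ≡ R ^ q e₀` for every sufficiently large power `q` of `p`. -/
theorem ival_pow_sub [Fact p.Prime] (hM : IsPModular p M) :
    ∃ k : ℕ, ∀ n : ℕ, k ≤ p ^ n → 1 ≤ n →
      IVal M ((toMA (regInd p G)) ^ (p ^ n) -
        ((∑ x : G, regInd p G x) ^ (p ^ n)) • toMA (blockCoeff (principalBlock M G))) := by
  classical
  have hMp := isPrime_of_isPModular hM
  have hp : p.Prime := hM.1
  set R : ℂ := ∑ x : G, regInd p G x with hR
  set a₀ : G → ℂ := blockCoeff (principalBlock M G) with ha₀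
  have hblock : IsPBlock M (principalBlock M G) :=
    ⟨Cfsg.Agent.Lib.Helper80_CharBasic.oneIrr G, rfl⟩
  have ha₀R : ∀ g, MemLocalRing M (a₀ g) := fun g => osima_block' hMp hblock g
  have ha₀c : IsClassFunction G a₀ := blockCoeff_isClassFunction _
  have hRR : MemLocalRing M R := by
    rw [hR, sum_regInd_eq_card]
    exact memLocalRing_natCast hMp _
  set ν : G → ℂ := regInd p G - fun g => R * a₀ g with hν
  have hνc : IsClassFunction G ν := by
    intro g h
    simp only [hν, Pi.sub_apply]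
    rw [regInd_isClassFunction g h, ha₀c g h]
  have hνR : ∀ g, MemLocalRing M (ν g) := by
    intro g
    simp only [hν, Pi.sub_apply]
    exact memLocalRing_sub hMp (regInd_memLocalRing hMp g) (memLocalRing_mul hMp hRR (ha₀R g))
  obtain ⟨k, hk⟩ := exists_cpow_memLocalIdeal hMp hνc hνR (fun χ => memLocalIdeal_omega_nu hM χ)
  refine ⟨k, fun n hkn hn => ?_⟩
  set q := p ^ n with hq
  have hq1 : 1 ≤ q := Nat.one_le_pow _ _ hp.pos
  set S := toMA (regInd p G) with hS
  set E := toMA a₀ with hE
  set V := toMA ν with hV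
  have hSEV : S = R • E + V := by
    rw [hV, hν, toMA_sub, toMA_smul, ← hS, ← hE]
    abel
  have hEE : E * E = E := by
    rw [hE, ← toMA_conv, ha₀, Cfsg.Agent.Lib.Helper77_WeakOrth.conv_blockCoeff_self]
  have hEpow : ∀ m : ℕ, 1 ≤ m → E ^ m = E := by
    intro m hm
    induction m with
    | zero => omega
    | succ m ih =>
      rcases Nat.eq_zero_or_pos m with h0 | h0
      · rw [h0, zero_add, pow_one]
      · rw [pow_succ, ih h0, hEE]
  have hER : RVal M E := RVal.toMA ha₀R
  have hVR : RVal M V := RVal.toMA hνR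
  have hVk : IVal M (V ^ k) := by
    rw [hV, ← toMA_cpow]
    intro g
    rw [toMA_coeff]
    exact hk g
  have hcomm : Commute (R • E) V := (toMA_commute hνc (R • E)).symm
  rw [hSEV, hcomm.add_pow, Finset.sum_range_succ]
  have hlast : (R • E) ^ q * V ^ (q - q) * ((q.choose q : ℕ) : MonoidAlgebra ℂ G) = R ^ q • E := by
    rw [Nat.sub_self, pow_zero, mul_one, Nat.choose_self, Nat.cast_one, mul_one, smul_pow,
      hEpow q hq1]
  rw [hlast, add_sub_cancel_right]
  refine IVal.sum hMp _ _ fun m hm => ?_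
  have hmq : m < q := Finset.mem_range.1 hm
  rw [natCast_mul_eq_smul]
  have hRE : RVal M ((R • E) ^ m) := (RVal.smul hMp hRR hER).pow hMp m
  rcases Nat.eq_zero_or_pos m with h0 | h0
  · subst h0
    rw [pow_zero, one_mul, Nat.sub_zero, Nat.choose_zero_right, Nat.cast_one, one_smul]
    have : V ^ q = V ^ k * V ^ (q - k) := by
      rw [← pow_add, Nat.add_sub_cancel' hkn]
    rw [this]
    exact hVk.mul_right hMp (hVR.pow hMp _)
  · refine IVal.smul hMp ?_ (hRE.mul hMp (hVR.pow hMp _))
    rw [memLocalIdeal_natCast_iff hM]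
    exact hp.dvd_choose_pow h0.ne' hmq.ne

theorem regInd_pow (z : G) {q : ℕ} (hq : 1 ≤ q) : (regInd p G z) ^ q = regInd p G z := by
  by_cases h : p ∣ orderOf z
  · rw [regInd_of_sing h, zero_pow (by omega)]
  · rw [regInd_of_reg h, one_pow]

/-- **Külshammer's congruence**, before division by the number of `p`-regular elements. -/
theorem kulshammer_main [Fact p.Prime] (hM : IsPModular p M) (g : G)
    (hg : ¬ p ∣ orderOf g) :
    MemLocalIdeal M ((∑ x : G, regInd p G x) * blockCoeff (principalBlock M G) g -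
      (Nat.card {h : G // (∃ k : ℕ, orderOf h = p ^ k) ∧ ¬ p ∣ orderOf (h * g)} : ℂ)) := by
  classical
  rw [Nat.card_eq_fintype_card, Fintype.card_subtype]
  set N : ℂ := ((Finset.univ.filter (fun h : G => (∃ k : ℕ, orderOf h = p ^ k) ∧
        ¬ p ∣ orderOf (h * g))).card : ℂ) with hN
  have hMp := isPrime_of_isPModular hM
  have hp : p.Prime := hM.1
  obtain ⟨k, hk⟩ := ival_pow_sub (G := G) hM
  set m := orderOf g with hm
  have hmpos : 0 < m := orderOf_pos g
  set t := Nat.totient m with ht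
  have htpos : 0 < t := Nat.totient_pos.2 hmpos
  set A := Fintype.card G + k + 1 with hA
  set n := t * A with hn
  have hAn : A ≤ n := Nat.le_mul_of_pos_left A htpos
  have hn1 : 1 ≤ n := le_trans (by omega) hAn
  set q := p ^ n with hq
  have hq1 : 1 ≤ q := Nat.one_le_pow _ _ hp.pos
  have hkq : k ≤ q := by
    have h1 : k < p ^ k := Nat.lt_pow_self hp.one_lt
    have h2 : p ^ k ≤ p ^ n := Nat.pow_le_pow_right hp.pos (by omega)
    omega
  -- `g ^ q = g`
  have hgq : g ^ q = g := by
    have hcop : Nat.Coprime p m := (Nat.Prime.coprime_iff_not_dvd hp).2 hg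
    have h1 : p ^ t ≡ 1 [MOD m] := Nat.ModEq.pow_totient hcop
    have h2 : q ≡ 1 [MOD m] := by
      rw [hq, hn, pow_mul]
      have := h1.pow A
      rwa [one_pow] at this
    have h3 : g ^ q = g ^ 1 := (pow_eq_pow_iff_modEq).2 h2
    rwa [pow_one] at h3
  -- `p`-elements are the solutions of `h ^ q = 1`
  have hpel : ∀ h : G, h ^ q = 1 ↔ ∃ j : ℕ, orderOf h = p ^ j := by
    intro h
    constructor
    · intro hh
      obtain ⟨j, -, hj⟩ := (Nat.dvd_prime_pow hp).1 (orderOf_dvd_of_pow_eq_one hh)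
      exact ⟨j, hj⟩
    · rintro ⟨j, hj⟩
      have h1 : p ^ j ≤ Fintype.card G := hj ▸ orderOf_le_card_univ
      have h2 : j < p ^ j := Nat.lt_pow_self hp.one_lt
      have h3 : j ≤ n := by omega
      apply orderOf_dvd_iff_pow_eq_one.1
      rw [hj]
      exact pow_dvd_pow p h3
  set S := toMA (regInd p G) with hS
  have hSR : RVal M S := RVal.toMA (regInd_memLocalRing hMp)
  set x : MonoidAlgebra ℂ G := S * MonoidAlgebra.single g⁻¹ 1 with hx
  have hxR : RVal M x := hSR.mul hMp (RVal.single hMp _ (memLocalRing_one hMp))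
  have hxq : x ^ q = S ^ q * MonoidAlgebra.single g⁻¹ 1 := by
    rw [hx, (toMA_commute regInd_isClassFunction _).mul_pow, MonoidAlgebra.single_pow, one_pow,
      inv_pow, hgq]
  have hfrob := coeff_one_pow_sub_mem hM n x hxR
  rw [← hq, hxq, MonoidAlgebra.coeff_mul_single_apply, inv_inv, one_mul, mul_one] at hfrob
  have hsum : (∑ h : G, if h ^ q = 1 then (x.coeff h) ^ q else 0) = N := by
    rw [hN, Finset.card_filter]
    push_cast
    refine Finset.sum_congr rfl fun h _ => ?_
    have hxc : x.coeff h = regInd p G (h * g) := by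
      rw [hx, MonoidAlgebra.coeff_mul_single_apply, inv_inv, mul_one, hS, toMA_coeff]
    rw [hxc, regInd_pow _ hq1]
    by_cases h1 : h ^ q = 1
    · rw [if_pos h1]
      by_cases h2 : p ∣ orderOf (h * g)
      · rw [regInd_of_sing h2, if_neg (fun hc => hc.2 h2)]
      · rw [regInd_of_reg h2, if_pos ⟨(hpel h).1 h1, h2⟩]
    · rw [if_neg h1, if_neg (fun hc => h1 ((hpel h).2 hc.1))]
  rw [hsum] at hfrob
  have h1 := hk n hkq hn1 g
  rw [← hq] at h1
  have h2 : ((S ^ q - (∑ x : G, regInd p G x) ^ q • toMA (blockCoeff (principalBlock M G))).coeff g) =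
      (S ^ q).coeff g - (∑ x : G, regInd p G x) ^ q * blockCoeff (principalBlock M G) g := by
    simp
  rw [h2] at h1
  -- `R ^ q ≡ R`
  set r := (Finset.univ.filter (fun y : G => ¬ p ∣ orderOf y)).card with hr
  have hRr : ∑ x : G, regInd p G x = (r : ℂ) := sum_regInd_eq_card
  have h3 : MemLocalIdeal M (((r : ℂ)) ^ q - (r : ℂ)) := by
    have hz : (((r : ℤ) ^ q - (r : ℤ) : ℤ) : ZMod p) = 0 := by
      push_cast
      rw [hq, ZMod.pow_card_pow, sub_self]
    have hdvd : (p : ℤ) ∣ (r : ℤ) ^ q - (r : ℤ) := (ZMod.intCast_zmod_eq_zero_iff_dvd _ p).1 hz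
    have := (memLocalIdeal_intCast_iff hM ((r : ℤ) ^ q - (r : ℤ))).2 hdvd
    push_cast at this
    exact this
  set a := blockCoeff (principalBlock M G) g with ha
  have haR : MemLocalRing M a := osima_block' hMp ⟨Cfsg.Agent.Lib.Helper80_CharBasic.oneIrr G, rfl⟩ g
  rw [hRr] at h1 ⊢
  have h4 := memLocalIdeal_mul_right hMp h3 haR
  have h5 := memLocalIdeal_sub hMp (memLocalIdeal_sub hMp hfrob h1) h4
  have h6 : (S ^ q).coeff g - N - ((S ^ q).coeff g - (r : ℂ) ^ q * a) -
      ((r : ℂ) ^ q - (r : ℂ)) * a = (r : ℂ) * a - N := by ring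
  rw [← h6]
  exact h5

end Cfsg.Agent.Lib.Helper79_Kulshammer
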