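import Mathlib
import Cfsg.Agent.Lib.Helper17_Sylow
import Cfsg.Agent.S0111
import Cfsg.Agent.S3993

/-!
# M11 package L11c (helper53's market)

A simple group of order `7920` in which involutions centralizing a Sylow `11`-subgroup `P` have
their centralizer inside `N(P)` cannot have `45` Sylow `11`-subgroups.  Thompson transfer shows
every involution centralizes a unique Sylow `11`-subgroup, then the nontrivial `2`-elements are
counted by that subgroup, and Frobenius' theorem is applied both to `G` and to `N(P)`.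
-/

set_option autoImplicit false

namespace Cfsg.Agent.Lib.Helper79_M11_L11c

open Subgroup
open Cfsg.Agent.Lib.Helper17_Sylow

section invol

variable {G : Type*} [Group G]

/-- The involution of the cyclic group generated by a nontrivial `2`-element. -/
noncomputable def invol (h : G) : G := h ^ (orderOf h / 2)

theorem two_dvd_of_dvd_sixteen (o : ℕ) (h : o ∣ 16) (h1 : o ≠ 1) : 2 ∣ o := by
  have hle : o ≤ 16 := Nat.le_of_dvd (by norm_num) h
  interval_cases o <;> omega

theorem four_dvd_of_dvd_sixteen (o : ℕ) (h : o ∣ 16) (h1 : o ≠ 1) (h2 : o ≠ 2) : 4 ∣ o := by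
  have hle : o ≤ 16 := Nat.le_of_dvd (by norm_num) h
  interval_cases o <;> omega

theorem orderOf_dvd_sixteen {h : G} (h16 : h ^ 16 = 1) : orderOf h ∣ 16 :=
  orderOf_dvd_of_pow_eq_one h16

theorem orderOf_ne_one {h : G} (h1 : h ≠ 1) : orderOf h ≠ 1 := fun e =>
  h1 (orderOf_eq_one_iff.mp e)

theorem orderOf_invol {h : G} (h1 : h ≠ 1) (h16 : h ^ 16 = 1) : orderOf (invol h) = 2 := by
  obtain ⟨n, hn⟩ := two_dvd_of_dvd_sixteen _ (orderOf_dvd_sixteen h16) (orderOf_ne_one h1)
  have hpos : 0 < orderOf h := Nat.pos_of_dvd_of_pos (orderOf_dvd_sixteen h16) (by norm_num)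
  have hn0 : n ≠ 0 := by
    rintro rfl
    omega
  unfold invol
  have h2 : orderOf h / 2 = n := by omega
  rw [h2, orderOf_pow_of_dvd hn0 ⟨2, by omega⟩, hn]
  exact Nat.mul_div_cancel _ (Nat.pos_of_ne_zero hn0)

theorem invol_of_orderOf_two {h : G} (h2 : orderOf h = 2) : invol h = h := by
  unfold invol
  rw [h2]
  simp

theorem invol_eq_sq {h : G} (h1 : h ≠ 1) (h16 : h ^ 16 = 1) (h2 : orderOf h ≠ 2) :
    ∃ n : ℕ, invol h = (h ^ n) ^ 2 := by
  obtain ⟨n, hn⟩ := four_dvd_of_dvd_sixteen _ (orderOf_dvd_sixteen h16) (orderOf_ne_one h1) h2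
  refine ⟨n, ?_⟩
  unfold invol
  have : orderOf h / 2 = n * 2 := by omega
  rw [this, pow_mul]

theorem invol_conj (g h : G) : invol (g * h * g⁻¹) = g * invol h * g⁻¹ := by
  unfold invol
  rw [orderOf_conj', conj_pow]

theorem commute_invol (h : G) : invol h * h = h * invol h := by
  unfold invol
  exact ((Commute.refl h).pow_left _).eq

end invol

section numerics

variable {G : Type*} [Group G] [Finite G]

theorem fact11 : Fact (Nat.Prime 11) := ⟨by norm_num⟩

attribute [local instance] fact11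

theorem card_P (hG : Nat.card G = 7920) (P : Sylow 11 G) : Nat.card (P : Subgroup G) = 11 := by
  have := card_sylow_eq_pow (p := 11) (k := 1) (m := 720) (by rw [hG]; norm_num) (by norm_num) P
  simpa using this

theorem card_N (hG : Nat.card G = 7920) (h45 : Nat.card (Sylow 11 G) = 45) (P : Sylow 11 G) :
    Nat.card (normalizer ((P : Subgroup G) : Set G)) = 176 := by
  have := card_normalizer_mul_card_sylow P
  rw [h45, hG] at this
  omega

theorem P_le_C (hG : Nat.card G = 7920) (P : Sylow 11 G) :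
    (P : Subgroup G) ≤ centralizer ((P : Subgroup G) : Set G) := by
  have : IsCyclic (P : Subgroup G) := isCyclic_of_prime_card (p := 11) (card_P hG P)
  exact le_centralizer_of_isCyclic _

theorem relIndex_C [IsSimpleGroup G] (hG : Nat.card G = 7920) (h45 : Nat.card (Sylow 11 G) = 45)
    (P : Sylow 11 G) :
    (centralizer ((P : Subgroup G) : Set G)).relIndex (normalizer ((P : Subgroup G) : Set G)) = 2 ∧
    Nat.card (centralizer ((P : Subgroup G) : Set G)) = 88 := by
  have hP := card_P hG P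
  have hN := card_N hG h45 P
  have hCN : centralizer ((P : Subgroup G) : Set G) ≤ normalizer ((P : Subgroup G) : Set G) :=
    centralizer_le_normalizer _
  have h1 := relIndex_centralizer_normalizer_dvd_pred (p := 11) (P : Subgroup G) hP
  have h2 := card_mul_relIndex_of_le hCN
  rw [hN] at h2
  set r := (centralizer ((P : Subgroup G) : Set G)).relIndex
    (normalizer ((P : Subgroup G) : Set G)) with hr
  set c := Nat.card (centralizer ((P : Subgroup G) : Set G)) with hc
  have hr10 : r ∣ 10 := h1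
  have hr176 : r ∣ 176 := ⟨c, by rw [← h2]; ring⟩
  have hr2 : r ∣ 2 := by
    have := Nat.dvd_gcd hr10 hr176
    norm_num at this
    exact this
  have hrle : r ≤ 2 := Nat.le_of_dvd (by norm_num) hr2
  have hr0 : r ≠ 0 := by
    rintro h0
    rw [h0] at h2
    omega
  have hr1 : r ≠ 1 := by
    intro h1'
    rw [h1', mul_one] at h2
    have hle : normalizer ((P : Subgroup G) : Set G) ≤ centralizer ((P : Subgroup G) : Set G) := by
      have := eq_of_le_of_card_ge hCN (by rw [hN, ← hc, h2])
      exact this.ge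
    rcases sylow_eq_bot_or_top_of_normalizer_le_centralizer P hle with hb | ht
    · rw [hb, card_bot] at hP
      omega
    · rw [ht, card_top, hG] at hP
      omega
  have hr2' : r = 2 := by omega
  refine ⟨hr2', ?_⟩
  rw [hr2'] at h2
  omega

end numerics

section struct

variable {G : Type*} [Group G] [Finite G]

attribute [local instance] fact11

/-- Conjugation moves centralizers of Sylow subgroups. -/
theorem conj_mem_centralizer (g x : G) (P : Sylow 11 G)
    (hx : x ∈ centralizer ((P : Subgroup G) : Set G)) :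
    g * x * g⁻¹ ∈ centralizer (((g • P : Sylow 11 G) : Subgroup G) : Set G) := by
  rw [mem_centralizer_iff]
  intro y hy
  have hy' : g⁻¹ * y * g ∈ (P : Subgroup G) := (mem_smul_sylow g y P).mp hy
  have hc : g⁻¹ * y * g * x = x * (g⁻¹ * y * g) := (mem_centralizer_iff.mp hx) _ hy'
  calc y * (g * x * g⁻¹) = g * (g⁻¹ * y * g * x) * g⁻¹ := by group
    _ = g * (x * (g⁻¹ * y * g)) * g⁻¹ := by rw [hc]
    _ = g * x * g⁻¹ * y := by group

/-- Step 2: an involution centralizes at most one Sylow `11`-subgroup. -/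
theorem sylow_unique
    (hb : ∀ (P : Sylow 11 G) (k : G), orderOf k = 2 →
      k ∈ Subgroup.centralizer ((P : Subgroup G) : Set G) →
      Subgroup.centralizer ({k} : Set G) ≤ Subgroup.normalizer ((P : Subgroup G) : Set G))
    (w : G) (hw : orderOf w = 2) (P₁ P₂ : Sylow 11 G)
    (h1 : w ∈ centralizer ((P₁ : Subgroup G) : Set G))
    (h2 : w ∈ centralizer ((P₂ : Subgroup G) : Set G)) : P₂ = P₁ := by
  have hN : (P₂ : Subgroup G) ≤ normalizer ((P₁ : Subgroup G) : Set G) := by
    refine le_trans ?_ (hb P₁ w hw h1)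
    intro y hy
    rw [mem_centralizer_singleton_iff]
    exact (mem_centralizer_iff.mp h2) y hy
  have hfix : P₁ ∈ MulAction.fixedPoints (↥(P₂ : Subgroup G)) (Sylow 11 G) :=
    (Subgroup.sylow_mem_fixedPoints_iff (P₂ : Subgroup G)).mpr hN
  have hle : (P₂ : Subgroup G) ≤ (P₁ : Subgroup G) :=
    (IsPGroup.sylow_mem_fixedPoints_iff P₂.isPGroup').mp hfix
  exact Sylow.ext (P₂.is_maximal' P₁.isPGroup' hle).symm

/-- A Sylow `2`-subgroup of `G` inside `N(P)` meeting `C(P)` in a subgroup of index `2`. -/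
theorem exists_sylow_two [IsSimpleGroup G] (hG : Nat.card G = 7920)
    (h45 : Nat.card (Sylow 11 G) = 45) (P : Sylow 11 G) :
    ∃ S : Sylow 2 G, (S : Subgroup G) ≤ normalizer ((P : Subgroup G) : Set G) ∧
      ((S : Subgroup G) ⊓ centralizer ((P : Subgroup G) : Set G)).relIndex (S : Subgroup G) = 2 := by
  have hN := card_N hG h45 P
  obtain ⟨hr, hC⟩ := relIndex_C hG h45 P
  set N := normalizer ((P : Subgroup G) : Set G) with hNdef
  set C := centralizer ((P : Subgroup G) : Set G) with hCdef
  obtain ⟨S₀, hS₀⟩ := Sylow.exists_subgroup_card_pow_prime 2 (n := 4) (G := ↥N)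
    (by rw [hN]; norm_num)
  set S₁ : Subgroup G := S₀.map N.subtype with hS₁
  have hS₁c : Nat.card S₁ = 16 := by
    rw [hS₁, card_map_of_injective N.subtype_injective, hS₀]
    norm_num
  have hS₁N : S₁ ≤ N := map_subtype_le _
  have hp : IsPGroup 2 S₁ := IsPGroup.of_card (n := 4) (by rw [hS₁c]; norm_num)
  obtain ⟨S, hS⟩ := hp.exists_le_sylow
  have hSc : Nat.card (S : Subgroup G) = 16 := by
    have := card_sylow_eq_pow (p := 2) (k := 4) (m := 495) (by rw [hG]; norm_num) (by norm_num) S
    simpa using this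
  have hSeq : S₁ = (S : Subgroup G) := eq_of_le_of_card_ge hS (by rw [hSc, hS₁c])
  have hSN : (S : Subgroup G) ≤ N := hSeq ▸ hS₁N
  refine ⟨S, hSN, ?_⟩
  obtain ⟨Q, hQ⟩ : ∃ Q : Subgroup G, Q = (S : Subgroup G) ⊓ C := ⟨_, rfl⟩
  have hQS : Q ≤ (S : Subgroup G) := hQ ▸ inf_le_left
  have hQC : Q ≤ C := hQ ▸ inf_le_right
  have h1 : Q.relIndex (S : Subgroup G) = C.relIndex (S : Subgroup G) :=
    hQ ▸ inf_relIndex_left _ _
  have h2 : C.relIndex (S : Subgroup G) ≤ 2 := by
    have := relIndex_le_of_le_right (H := C) hSN (by rw [hr]; norm_num)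
    rwa [hr] at this
  have h3 := card_mul_relIndex_of_le hQS
  rw [hSc] at h3
  have h4 : Nat.card Q ∣ 88 := hC ▸ card_dvd_of_le hQC
  have h5 : Nat.card Q ∣ 16 := hSc ▸ card_dvd_of_le hQS
  have h6 : Nat.card Q ∣ 8 := by
    have := Nat.dvd_gcd h4 h5
    norm_num at this
    exact this
  have h7 : Nat.card Q ≤ 8 := Nat.le_of_dvd (by norm_num) h6
  rw [← hQ, h1]
  rw [h1] at h3
  generalize C.relIndex (S : Subgroup G) = r at h2 h3 ⊢
  have hr3 : r = 0 ∨ r = 1 ∨ r = 2 := by omega
  rcases hr3 with rfl | rfl | rfl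
  · omega
  · omega
  · rfl

/-- Step 1: every involution centralizes some Sylow `11`-subgroup (Thompson transfer). -/
theorem exists_sylow_centralized [IsSimpleGroup G] (hG : Nat.card G = 7920)
    (h45 : Nat.card (Sylow 11 G) = 45) (w : G) (hw : orderOf w = 2) :
    ∃ P : Sylow 11 G, w ∈ centralizer ((P : Subgroup G) : Set G) := by
  obtain ⟨P⟩ : Nonempty (Sylow 11 G) := inferInstance
  obtain ⟨S, hSN, hrel⟩ := exists_sylow_two hG h45 P
  suffices h : ∃ g : G, g * w * g⁻¹ ∈ centralizer ((P : Subgroup G) : Set G) by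
    obtain ⟨g, hg⟩ := h
    refine ⟨g⁻¹ • P, ?_⟩
    have := conj_mem_centralizer g⁻¹ _ P hg
    simpa [mul_assoc] using this
  have hp : IsPGroup 2 (zpowers w) :=
    IsPGroup.of_card (n := 1) (by rw [Nat.card_zpowers, hw]; norm_num)
  obtain ⟨S', hS'⟩ := hp.exists_le_sylow
  obtain ⟨g, hg⟩ := MulAction.exists_smul_eq G S' S
  have hwS' : w ∈ (S' : Subgroup G) := hS' (mem_zpowers w)
  have huS : g * w * g⁻¹ ∈ (S : Subgroup G) := by
    rw [← hg, mem_smul_sylow]
    simpa [mul_assoc] using hwS'
  have hu : orderOf (g * w * g⁻¹) = 2 := by rw [orderOf_conj', hw]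
  by_cases huQ : g * w * g⁻¹ ∈ (S : Subgroup G) ⊓ centralizer ((P : Subgroup G) : Set G)
  · exact ⟨g, huQ.2⟩
  · rcases Cfsg.Agent.S0111.result S _ inf_le_left hrel _ hu huS huQ with
      ⟨M, hMn, hMi, -⟩ | ⟨g', hg'⟩
    · exfalso
      rcases hMn.eq_bot_or_eq_top with h | h
      · rw [h, index_bot, hG] at hMi
        omega
      · rw [h, index_top] at hMi
        omega
    · refine ⟨g' * g, ?_⟩
      have : g' * g * w * (g' * g)⁻¹ = g' * (g * w * g⁻¹) * g'⁻¹ := by group
      rw [this]
      exact hg'.2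

end struct

section counting

variable {G : Type*} [Group G] [Finite G]

attribute [local instance] fact11

/-- The nontrivial `2`-elements whose involution centralizes `P`. -/
def Fp (P : Sylow 11 G) (h : G) : Prop :=
  (h ≠ 1 ∧ h ^ 16 = 1) ∧ invol h ∈ centralizer ((P : Subgroup G) : Set G)

theorem Fp_conj (g : G) (P : Sylow 11 G) (h : G) (hh : Fp P h) :
    Fp (g • P) (g * h * g⁻¹) := by
  obtain ⟨⟨h1, h16⟩, hc⟩ := hh
  refine ⟨⟨?_, ?_⟩, ?_⟩
  · intro e
    apply h1
    have : h = g⁻¹ * (g * h * g⁻¹) * g := by group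
    rw [this, e]
    group
  · rw [conj_pow, h16]
    group
  · rw [invol_conj]
    exact conj_mem_centralizer g _ P hc

theorem card_Fp_smul (g : G) (P : Sylow 11 G) :
    Nat.card {h : G // Fp (g • P) h} = Nat.card {h : G // Fp P h} := by
  apply Nat.card_congr
  refine Equiv.subtypeEquiv (MulAut.conj g⁻¹).toEquiv (fun h => ?_)
  constructor
  · intro hh
    have := Fp_conj g⁻¹ (g • P) h hh
    rw [inv_smul_smul] at this
    simpa [MulAut.conj_apply] using this
  · intro hh
    have := Fp_conj g P _ hh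
    simpa [MulAut.conj_apply, mul_assoc] using this

/-- The involutions of `N(P)` outside `C(P)` are permuted freely by `P`. -/
theorem card_BP (hG : Nat.card G = 7920) (P : Sylow 11 G) :
    11 ∣ Nat.card {h : G // h ∈ normalizer ((P : Subgroup G) : Set G) ∧
      h ∉ centralizer ((P : Subgroup G) : Set G) ∧ h ^ 2 = 1} := by
  have hPC : (P : Subgroup G) ≤ centralizer ((P : Subgroup G) : Set G) := P_le_C hG P
  have hPN : (P : Subgroup G) ≤ normalizer ((P : Subgroup G) : Set G) := le_normalizer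
  set N := normalizer ((P : Subgroup G) : Set G) with hNdef
  set C := centralizer ((P : Subgroup G) : Set G) with hCdef
  letI : MulAction ↥(P : Subgroup G) {h : G // h ∈ N ∧ h ∉ C ∧ h ^ 2 = 1} :=
    { smul := fun y h => ⟨y.1 * h.1 * y.1⁻¹,
        N.mul_mem (N.mul_mem (hPN y.2) h.2.1) (N.inv_mem (hPN y.2)),
        fun hc => h.2.2.1 (by
          have := C.mul_mem (C.mul_mem (C.inv_mem (hPC y.2)) hc) (hPC y.2)
          simpa [mul_assoc] using this),
        by rw [conj_pow, h.2.2.2]; group⟩
      one_smul := fun h => Subtype.ext (by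
        show (1 : ↥(P : Subgroup G)).1 * h.1 * (1 : ↥(P : Subgroup G)).1⁻¹ = h.1
        simp)
      mul_smul := fun y z h => Subtype.ext (by
        show (y * z).1 * h.1 * (y * z).1⁻¹ = y.1 * (z.1 * h.1 * z.1⁻¹) * y.1⁻¹
        simp [mul_assoc]) }
  have hmod := IsPGroup.card_modEq_card_fixedPoints P.isPGroup'
    {h : G // h ∈ N ∧ h ∉ C ∧ h ^ 2 = 1}
  have hempty : IsEmpty (MulAction.fixedPoints ↥(P : Subgroup G)
      {h : G // h ∈ N ∧ h ∉ C ∧ h ^ 2 = 1}) := by
    constructor
    rintro ⟨h, hh⟩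
    apply h.2.2.1
    rw [mem_centralizer_iff]
    intro y hy
    have := hh ⟨y, hy⟩
    have h2 : y * h.1 * y⁻¹ = h.1 := congrArg Subtype.val this
    calc y * h.1 = y * h.1 * y⁻¹ * y := by group
      _ = h.1 * y := by rw [h2]
  have h0 : Nat.card (MulAction.fixedPoints ↥(P : Subgroup G)
      {h : G // h ∈ N ∧ h ∉ C ∧ h ^ 2 = 1}) = 0 := Nat.card_of_isEmpty
  rw [h0] at hmod
  exact (Nat.modEq_zero_iff_dvd.mp hmod)

theorem card_BP_le [IsSimpleGroup G] (hG : Nat.card G = 7920)
    (h45 : Nat.card (Sylow 11 G) = 45) (P : Sylow 11 G) :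
    Nat.card {h : G // h ∈ normalizer ((P : Subgroup G) : Set G) ∧
      h ∉ centralizer ((P : Subgroup G) : Set G) ∧ h ^ 2 = 1} ≤ 88 := by
  have hN := card_N hG h45 P
  obtain ⟨-, hC⟩ := relIndex_C hG h45 P
  have hCN : centralizer ((P : Subgroup G) : Set G) ≤ normalizer ((P : Subgroup G) : Set G) :=
    centralizer_le_normalizer _
  set N := normalizer ((P : Subgroup G) : Set G) with hNdef
  set C := centralizer ((P : Subgroup G) : Set G) with hCdef
  have hinj : Function.Injective
      (fun x : {h : G // h ∈ N ∧ h ∉ C ∧ h ^ 2 = 1} ⊕ ↥C =>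
        (Sum.elim (fun h => ⟨h.1, h.2.1⟩) (fun c => ⟨c.1, hCN c.2⟩) x : ↥N)) := by
    rintro (x | x) (y | y) hxy
    · have h' := congrArg Subtype.val hxy
      have : x.1 = y.1 := h'
      rw [Subtype.ext this]
    · have h' := congrArg Subtype.val hxy
      have : x.1 = y.1 := h'
      exact absurd (this ▸ y.2) x.2.2.1
    · have h' := congrArg Subtype.val hxy
      have : x.1 = y.1 := h'
      exact absurd (this ▸ x.2) y.2.2.1
    · have h' := congrArg Subtype.val hxy
      have : x.1 = y.1 := h'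
      rw [Subtype.ext this]
  have := Nat.card_le_card_of_injective _ hinj
  rw [Nat.card_sum, hN, hC] at this
  omega

theorem sixteen_dvd_card_AP (hG : Nat.card G = 7920)
    (h45 : Nat.card (Sylow 11 G) = 45) (P : Sylow 11 G) :
    16 ∣ Nat.card {h : G // h ∈ normalizer ((P : Subgroup G) : Set G) ∧ h ^ 16 = 1} := by
  have hN := card_N hG h45 P
  set N := normalizer ((P : Subgroup G) : Set G) with hNdef
  have h1 := Cfsg.Agent.S3993.result (G := ↥N) 16 (by rw [hN]; norm_num)
  have e : {g : ↥N // g ^ 16 = 1} ≃ {h : G // h ∈ N ∧ h ^ 16 = 1} :=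
    { toFun := fun g => ⟨g.1.1, g.1.2, by
        have := congrArg Subtype.val g.2
        simpa using this⟩
      invFun := fun h => ⟨⟨h.1, h.2.1⟩, Subtype.ext (by simpa using h.2.2)⟩
      left_inv := fun g => rfl
      right_inv := fun h => rfl }
  rwa [Nat.card_congr e] at h1

theorem card_AP [IsSimpleGroup G] (hG : Nat.card G = 7920)
    (h45 : Nat.card (Sylow 11 G) = 45)
    (hb : ∀ (P : Sylow 11 G) (k : G), orderOf k = 2 →
      k ∈ Subgroup.centralizer ((P : Subgroup G) : Set G) →
      Subgroup.centralizer ({k} : Set G) ≤ Subgroup.normalizer ((P : Subgroup G) : Set G))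
    (P : Sylow 11 G) :
    Nat.card {h : G // h ∈ normalizer ((P : Subgroup G) : Set G) ∧ h ^ 16 = 1} =
      1 + Nat.card {h : G // h ∈ normalizer ((P : Subgroup G) : Set G) ∧
        h ∉ centralizer ((P : Subgroup G) : Set G) ∧ h ^ 2 = 1} +
      Nat.card {h : G // Fp P h} := by
  classical
  haveI : Fintype G := Fintype.ofFinite G
  obtain ⟨hr, hC⟩ := relIndex_C hG h45 P
  have hb' := hb P
  set N := normalizer ((P : Subgroup G) : Set G) with hNdef
  set C := centralizer ((P : Subgroup G) : Set G) with hCdef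
  have hsq : ∀ v ∈ N, v ^ 2 ∈ C := by
    intro v hv
    have := sq_mem_of_index_two (H := C.subgroupOf N) hr ⟨v, hv⟩
    rw [mem_subgroupOf] at this
    simpa using this
  set BPf := Finset.univ.filter (fun h : G => h ∈ N ∧ h ∉ C ∧ h ^ 2 = 1) with hBPf
  set FPf := Finset.univ.filter (fun h : G => Fp P h) with hFPf
  have h1B : (1 : G) ∉ BPf := by simp [hBPf, C.one_mem]
  have h1F : (1 : G) ∉ FPf := by
    rw [hFPf, Finset.mem_filter]
    rintro ⟨-, ⟨h, -⟩, -⟩
    exact h rfl
  have hdisj : Disjoint BPf FPf := by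
    rw [Finset.disjoint_left]
    intro h hB hF
    simp only [hBPf, hFPf, Finset.mem_filter, Finset.mem_univ, true_and] at hB hF
    obtain ⟨hN, hnC, h2⟩ := hB
    obtain ⟨⟨h1, h16⟩, hc⟩ := hF
    have ho : orderOf h = 2 := orderOf_eq_prime h2 h1
    rw [invol_of_orderOf_two ho] at hc
    exact hnC hc
  have key : ∀ h : G, h ∈ insert 1 (BPf ∪ FPf) ↔ h ∈ N ∧ h ^ 16 = 1 := by
    intro h
    simp only [Finset.mem_insert, Finset.mem_union, hBPf, hFPf, Finset.mem_filter,
      Finset.mem_univ, true_and]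
    constructor
    · rintro (rfl | ⟨hN, hnC, h2⟩ | ⟨⟨h1, h16⟩, hc⟩)
      · exact ⟨N.one_mem, one_pow _⟩
      · refine ⟨hN, ?_⟩
        have : h ^ 16 = (h ^ 2) ^ 8 := by rw [← pow_mul]
        rw [this, h2, one_pow]
      · refine ⟨?_, h16⟩
        have hle := hb' (invol h) (orderOf_invol h1 h16) hc
        apply hle
        rw [mem_centralizer_singleton_iff]
        exact (commute_invol h).symm
    · rintro ⟨hN, h16⟩
      by_cases h1 : h = 1
      · left
        exact h1
      right
      by_cases hB : h ∈ N ∧ h ∉ C ∧ h ^ 2 = 1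
      · left
        exact hB
      right
      refine ⟨⟨h1, h16⟩, ?_⟩
      by_cases ho : orderOf h = 2
      · rw [invol_of_orderOf_two ho]
        by_contra hnC
        exact hB ⟨hN, hnC, by rw [← ho]; exact pow_orderOf_eq_one h⟩
      · obtain ⟨n, hn⟩ := invol_eq_sq h1 h16 ho
        rw [hn]
        exact hsq _ (N.pow_mem hN n)
  rw [Nat.subtype_card _ key, Finset.card_insert_of_notMem (by simp [h1B, h1F]),
    Finset.card_union_of_disjoint hdisj]
  rw [Nat.subtype_card BPf (by simp [hBPf]), Nat.subtype_card FPf (by simp [hFPf])]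
  ring

theorem card_two_elements [IsSimpleGroup G] (hG : Nat.card G = 7920)
    (h45 : Nat.card (Sylow 11 G) = 45)
    (hb : ∀ (P : Sylow 11 G) (k : G), orderOf k = 2 →
      k ∈ Subgroup.centralizer ((P : Subgroup G) : Set G) →
      Subgroup.centralizer ({k} : Set G) ≤ Subgroup.normalizer ((P : Subgroup G) : Set G))
    (P : Sylow 11 G) :
    Nat.card {h : G // h ≠ 1 ∧ h ^ 16 = 1} = Nat.card {h : G // Fp P h} * 45 := by
  classical
  have hex : ∀ a : {h : G // h ≠ 1 ∧ h ^ 16 = 1}, ∃ P' : Sylow 11 G,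
      invol a.1 ∈ centralizer ((P' : Subgroup G) : Set G) := fun a =>
    exists_sylow_centralized hG h45 _ (orderOf_invol a.2.1 a.2.2)
  choose f hf using hex
  have hfib : ∀ P' : Sylow 11 G,
      Nat.card {a : {h : G // h ≠ 1 ∧ h ^ 16 = 1} // f a = P'} = Nat.card {h : G // Fp P h} := by
    intro P'
    obtain ⟨g, rfl⟩ := MulAction.exists_smul_eq G P P'
    rw [← card_Fp_smul g P]
    apply Nat.card_congr
    exact
      { toFun := fun x => ⟨x.1.1, x.1.2, by
          have := hf x.1
          rw [x.2] at this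
          exact this⟩
        invFun := fun y => ⟨⟨y.1, y.2.1⟩,
          sylow_unique hb _ (orderOf_invol y.2.1.1 y.2.1.2) _ _ y.2.2 (hf _)⟩
        left_inv := fun x => rfl
        right_inv := fun y => rfl }
  rw [card_eq_mul_of_fibers f _ hfib, h45]

end counting

section main

variable {G : Type*} [Group G] [Finite G]

/-- M11-L11c: `45` Sylow `11`-subgroups is impossible. -/
theorem L11c [IsSimpleGroup G] (hG : Nat.card G = 7920) (h45 : Nat.card (Sylow 11 G) = 45)
    (hb : ∀ (P : Sylow 11 G) (k : G), orderOf k = 2 →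
      k ∈ Subgroup.centralizer ((P : Subgroup G) : Set G) →
      Subgroup.centralizer ({k} : Set G) ≤ Subgroup.normalizer ((P : Subgroup G) : Set G)) :
    False := by
  classical
  have hf11 := fact11
  obtain ⟨P⟩ : Nonempty (Sylow 11 G) := inferInstance
  haveI : Fintype G := Fintype.ofFinite G
  have h16 : 16 ∣ Nat.card {g : G // g ^ 16 = 1} :=
    Cfsg.Agent.S3993.result 16 (by rw [hG]; norm_num)
  have hi : Nat.card {g : G // g ^ 16 = 1} =
      Nat.card {h : G // h ≠ 1 ∧ h ^ 16 = 1} + 1 := by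
    have key : ∀ x : G, x ∈ insert (1 : G)
        (Finset.univ.filter (fun h : G => h ≠ 1 ∧ h ^ 16 = 1)) ↔ x ^ 16 = 1 := by
      intro x
      simp only [Finset.mem_insert, Finset.mem_filter, Finset.mem_univ, true_and]
      constructor
      · rintro (rfl | ⟨-, h⟩)
        · exact one_pow _
        · exact h
      · intro h
        by_cases h1 : x = 1
        · left
          exact h1
        · right
          exact ⟨h1, h⟩
    rw [Nat.subtype_card _ key, Finset.card_insert_of_notMem (by simp),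
      Nat.subtype_card (Finset.univ.filter (fun h : G => h ≠ 1 ∧ h ^ 16 = 1)) (by simp)]
  have hii := card_two_elements hG h45 hb P
  have hiii := card_AP hG h45 hb P
  have hiv := sixteen_dvd_card_AP hG h45 P
  have hv1 := card_BP hG P
  have hv2 := card_BP_le hG h45 P
  omega

end main

end Cfsg.Agent.Lib.Helper79_M11_L11c
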