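/-
helper79 — package OF-FRAME of helper32's OF market (S5679 + S5696, orthogonal frames):
a decomposition into nondegenerate isometric lines gives an orthogonal frame.
-/
import Mathlib
import Cfsg.Agent.Lib.Helper32_OFDefs

set_option autoImplicit false
set_option linter.unusedVariables false
set_option linter.unusedSectionVars false

namespace Cfsg.Agent.Lib.Helper79_OF_FRAME

open Module Cfsg.Agent.Lib.Helper94_Symp Cfsg.Agent.Lib.Helper94_OrthSmall
  Cfsg.Agent.Lib.Helper29_ODDefs Cfsg.Agent.Lib.Helper32_OFDefs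

variable {F V : Type*} [Field F] [AddCommGroup V] [Module F V]
variable {Q : V → F} {B : LinearMap.BilinForm F V}

/-- OF-FRAME.  A decomposition into nondegenerate isometric lines gives a frame. -/
theorem FRAME [FiniteDimensional F V] (hQs : ∀ (a : F) (v : V), Q (a • v) = a * a * Q v)
    (hQp : ∀ u v : V, Q (u + v) = Q u + Q v + B u v) (h2 : (2 : F) ≠ 0) {t : ℕ}
    (D : Fin t → Submodule F V) (hD : ODec Q B 1 D) (ht : 0 < t) :
    ∃ (c : F) (e : Fin t → V), OFr Q B c e ∧ ∀ i, D i = Submodule.span F {e i} := by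
  classical
  set i0 : Fin t := ⟨0, ht⟩ with hi0
  -- a generator of the first line
  obtain ⟨e0, he0, hgen⟩ := finrank_eq_one_iff'.1 (hD.fr i0)
  have he0V : (e0 : V) ≠ 0 := fun h => he0 (Subtype.ext h)
  -- the isometries
  choose φ hφ using hD.iso i0
  let e : Fin t → V := fun i => ((φ i e0 : D i) : V)
  have heD : ∀ i, e i ∈ D i := fun i => (φ i e0).2
  have he0' : ∀ i, e i ≠ 0 := by
    intro i h
    apply he0
    have h1 : φ i e0 = 0 := Subtype.ext h
    exact (φ i).map_eq_zero_iff.1 h1
  have hQe : ∀ i, Q (e i) = Q (e0 : V) := fun i => hφ i e0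
  -- the lines
  have hspan : ∀ i, D i = Submodule.span F {e i} := by
    intro i
    symm
    apply Submodule.eq_of_le_of_finrank_eq
    · rw [Submodule.span_singleton_le_iff_mem]
      exact heD i
    · rw [finrank_span_singleton (he0' i), hD.fr i]
  -- the norm
  have hc0 : Q (e0 : V) ≠ 0 := by
    obtain ⟨x, hx, hxe⟩ := hD.nd i0 e0 e0.2 he0V
    obtain ⟨a, ha⟩ := hgen ⟨x, hx⟩
    have hx' : x = a • (e0 : V) := by
      have := congrArg Subtype.val ha
      simpa using this.symm
    intro h0
    apply hxe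
    rw [hx', map_smul, LinearMap.smul_apply, B_self Q B hQs hQp, h0, mul_zero, smul_zero]
  have horth : ∀ i j, i ≠ j → B (e i) (e j) = 0 :=
    fun i j hij => hD.orth i j hij (e i) (heD i) (e j) (heD j)
  have hBee : ∀ i j, B (e i) (e j) = if i = j then 2 * Q (e0 : V) else 0 := by
    intro i j
    split_ifs with hij
    · rw [← hij, B_self Q B hQs hQp, hQe]
    · exact horth i j hij
  refine ⟨Q (e0 : V), e, ⟨hQs, hQp, h2, hc0, hQe, horth, ?_⟩, hspan⟩
  -- the expansion
  intro v
  have htop : Submodule.span F (Set.range e) = ⊤ := by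
    rw [Submodule.span_range_eq_iSup, ← hD.sup]
    exact (iSup_congr hspan).symm
  have hv : v ∈ Submodule.span F (Set.range e) := by rw [htop]; trivial
  obtain ⟨a, ha⟩ := (Submodule.mem_span_range_iff_exists_fun F).1 hv
  have hco : ∀ j, B v (e j) = 2 * Q (e0 : V) * a j := by
    intro j
    rw [← ha]
    simp only [map_sum, map_smul, LinearMap.sum_apply, LinearMap.smul_apply, smul_eq_mul, hBee]
    rw [Finset.sum_eq_single j]
    · simp; ring
    · intro i _ hij
      simp [hij]
    · intro h
      exact absurd (Finset.mem_univ j) h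
  have h2c : (2 * Q (e0 : V)) ≠ 0 := mul_ne_zero h2 hc0
  conv_lhs => rw [← ha]
  refine Finset.sum_congr rfl (fun i _ => ?_)
  rw [hco i, ← mul_assoc, inv_mul_cancel₀ h2c, one_mul]

end Cfsg.Agent.Lib.Helper79_OF_FRAME
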