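import Cfsg.Agent.S4740
import Cfsg.Agent.S4744
import Cfsg.Agent.Lib.Helper79_FpfInvolution
import Cfsg.Agent.Lib.Helper77_BlockBasics

/-!
# Groups in which non-identity `p`-elements have centralizers of odd order (helper79)

`exists_inverted_sylow`: if `p` is odd, `p ∣ |G|`, the centralizers of the non-identity
`p`-elements have odd order and `G` has no character of `p`-defect zero, then every
involution `x` has a conjugate inverting some Sylow `p`-subgroup elementwise.

`isConj_of_invert`: two involutions inverting the same subgroup `P`, whose centralizer has odd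
order, are conjugate.
-/

set_option autoImplicit false
open Cfsg

namespace Cfsg.Agent.Lib.Helper79_OddCentralizers

open Cfsg.Agent.Lib.Helper79_FpfInvolution Cfsg.Agent.S4744
open scoped Pointwise

variable {G : Type*} [Group G] [Finite G]

/-- Without a character of `p`-defect zero, each involution has a conjugate inverting a Sylow
`p`-subgroup elementwise. -/
theorem exists_inverted_sylow (p : ℕ) [Fact p.Prime] (hp2 : p ≠ 2) (hpG : p ∣ Nat.card G)
    (h2G : 2 ∣ Nat.card G)
    (hC : ∀ g : G, g ≠ 1 → (∃ k : ℕ, orderOf g = p ^ k) →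
      Odd (Nat.card ↥(Subgroup.centralizer ({g} : Set G))))
    (hno : ¬ ∃ χ : Cfsg.IrrCharacter G,
      (Cfsg.charDegree (χ : G → ℂ)).factorization p = (Nat.card G).factorization p)
    (x : G) (hx : orderOf x = 2) :
    ∃ (Q : Sylow p G) (g : G), IsConj x g ∧ ∀ q ∈ Q, g * q * g⁻¹ = q⁻¹ := by
  classical
  have hp : p.Prime := Fact.out
  haveI : Fact (Nat.Prime 2) := ⟨Nat.prime_two⟩
  have hG0 : Nat.card G ≠ 0 := Nat.card_pos.ne'
  obtain ⟨P0⟩ : Nonempty (Sylow p G) := inferInstance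
  set c := (Nat.card G).factorization p with hc
  have hP0 : Nat.card ↥(P0 : Subgroup G) = p ^ c := P0.card_eq_multiplicity
  -- Claim A
  have hA : ∃ g : G, IsConj x g ∧ ∃ z ∈ (P0 : Subgroup G), z ≠ 1 ∧ g * z * g⁻¹ = z⁻¹ := by
    by_contra hcon
    push Not at hcon
    have ha : (Nat.card ↥(Subgroup.centralizer ({x} : Set G))).factorization p = 0 := by
      apply Nat.factorization_eq_zero_of_not_dvd
      intro hdvd
      obtain ⟨w, hw⟩ := exists_prime_orderOf_dvd_card'
        (G := ↥(Subgroup.centralizer ({x} : Set G))) p hdvd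
      have hwo : orderOf (w : G) = p := by rw [Subgroup.orderOf_coe]; exact hw
      have hw1 : (w : G) = 1 := by
        refine eq_one_of_commute p hC hx ⟨1, by rw [hwo, pow_one]⟩ ?_
        exact ((Subgroup.mem_centralizer_singleton_iff).mp w.2).symm
      rw [hw1, orderOf_one] at hwo
      exact hp.one_lt.ne hwo
    obtain ⟨χ, hχ⟩ := Cfsg.Agent.S4740.result p hp2 (even_iff_two_dvd.mpr h2G) x hx
      (P0 : Subgroup G) c hP0 (fun g hg z hz hz1 => hcon g hg z hz hz1) 0 ha
    rw [Nat.sub_zero] at hχ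
    apply hno
    refine ⟨χ, ?_⟩
    have hdvd := Cfsg.Agent.Lib.Helper77_BlockBasics.charDegree_dvd_card χ
    have hd0 : Cfsg.charDegree (χ : G → ℂ) ≠ 0 := by
      intro h0
      rw [h0] at hdvd
      exact hG0 (Nat.eq_zero_of_zero_dvd hdvd)
    apply le_antisymm
    · exact (Nat.factorization_le_iff_dvd hd0 hG0).mpr hdvd p
    · exact (hp.pow_dvd_iff_le_factorization hd0).mp hχ
  obtain ⟨g, hxg, z, hzP, hz1, hgz⟩ := hA
  have hg2 : orderOf g = 2 := by
    obtain ⟨t, rfl⟩ := isConj_iff.mp hxg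
    rw [← hx]
    exact orderOf_conj' t x
  have hgg : g * g = 1 := by
    have := pow_orderOf_eq_one g
    rw [hg2, sq] at this
    exact this
  have hnc : ∀ q : G, (∃ k : ℕ, orderOf q = p ^ k) → g * q = q * g → q = 1 :=
    fun q hq hcomm => eq_one_of_commute p hC hg2 hq hcomm
  have hzp : ∃ k : ℕ, orderOf z = p ^ k := orderOf_eq_pow_of_mem P0.isPGroup' hzP
  -- first invariant Sylow subgroup
  obtain ⟨Q1, hQ1C, hQ1card, hzQ1, hQ1inv⟩ :=
    exists_invariant_sylow_centralizer p hgg hgz hzp (hC z hz1 hzp)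
  have hQ1p : IsPGroup p ↥Q1 := IsPGroup.of_card hQ1card
  have hQ1invert : ∀ q ∈ Q1, g * q * g⁻¹ = q⁻¹ :=
    inverts_of_invariant hgg Q1 hQ1inv (fun q hq => hnc q (orderOf_eq_pow_of_mem hQ1p hq))
  obtain ⟨P2, hP2⟩ := hQ1p.exists_le_sylow
  -- a non-identity central element of `P2`
  have hP2card : Nat.card ↥(P2 : Subgroup G) = p ^ c := P2.card_eq_multiplicity
  have hc0 : c ≠ 0 := by
    rw [hc]
    exact (Nat.Prime.factorization_pos_of_dvd hp hG0 hpG).ne'
  haveI : Nontrivial ↥(P2 : Subgroup G) := by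
    rw [← Finite.one_lt_card_iff_nontrivial, hP2card]
    exact Nat.one_lt_pow hc0 hp.one_lt
  haveI := P2.isPGroup'.center_nontrivial
  obtain ⟨⟨w', hw'c⟩, hw'1⟩ := exists_ne (1 : ↥(Subgroup.center ↥(P2 : Subgroup G)))
  set w : G := (w' : G) with hw
  have hw1 : w ≠ 1 := by
    intro h
    apply hw'1
    apply Subtype.ext
    apply Subtype.ext
    exact h
  have hwP2 : w ∈ (P2 : Subgroup G) := w'.2
  have hwcomm : ∀ y ∈ (P2 : Subgroup G), y * w = w * y := by
    intro y hy
    have := (Subgroup.mem_center_iff.mp hw'c) ⟨y, hy⟩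
    exact congrArg Subtype.val this
  have hwp : ∃ k : ℕ, orderOf w = p ^ k := orderOf_eq_pow_of_mem P2.isPGroup' hwP2
  -- `w ∈ Q1`
  have hwQ1 : w ∈ Q1 := by
    set R : Subgroup G := (P2 : Subgroup G) ⊓ Subgroup.centralizer ({z} : Set G) with hR
    have hRp : IsPGroup p ↥R := P2.isPGroup'.to_le inf_le_left
    obtain ⟨j, hj⟩ := IsPGroup.iff_card.mp hRp
    have hRdvd : Nat.card ↥R ∣ Nat.card ↥(Subgroup.centralizer ({z} : Set G)) :=
      Subgroup.card_dvd_of_le inf_le_right
    have hCz0 : Nat.card ↥(Subgroup.centralizer ({z} : Set G)) ≠ 0 := Nat.card_pos.ne'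
    have hjle : j ≤ (Nat.card ↥(Subgroup.centralizer ({z} : Set G))).factorization p := by
      rw [hj] at hRdvd
      exact (hp.pow_dvd_iff_le_factorization hCz0).mp hRdvd
    have hle : Q1 ≤ R := le_inf hP2 hQ1C
    have hcardle : Nat.card ↥R ≤ Nat.card ↥Q1 := by
      rw [hj, hQ1card]
      exact Nat.pow_le_pow_right hp.pos hjle
    have hEq : Q1 = R := Subgroup.eq_of_le_of_card_ge hle hcardle
    rw [hEq, hR]
    refine ⟨hwP2, ?_⟩
    show w ∈ Subgroup.centralizer ({z} : Set G)
    rw [Subgroup.mem_centralizer_singleton_iff]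
    exact (hwcomm z (hP2 hzQ1)).symm
  have hgw : g * w * g⁻¹ = w⁻¹ := hQ1invert w hwQ1
  -- second invariant Sylow subgroup
  obtain ⟨Q3, hQ3C, hQ3card, -, hQ3inv⟩ :=
    exists_invariant_sylow_centralizer p hgg hgw hwp (hC w hw1 hwp)
  have hfac : (Nat.card ↥(Subgroup.centralizer ({w} : Set G))).factorization p = c := by
    have hCw0 : Nat.card ↥(Subgroup.centralizer ({w} : Set G)) ≠ 0 := Nat.card_pos.ne'
    apply le_antisymm
    · exact (Nat.factorization_le_iff_dvd hCw0 hG0).mpr (Subgroup.card_subgroup_dvd_card _) p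
    · have hle : (P2 : Subgroup G) ≤ Subgroup.centralizer ({w} : Set G) := by
        intro y hy
        rw [Subgroup.mem_centralizer_singleton_iff]
        exact hwcomm y hy
      have := Subgroup.card_dvd_of_le hle
      rw [hP2card] at this
      exact (hp.pow_dvd_iff_le_factorization hCw0).mp this
  rw [hfac] at hQ3card
  have hQ3p : IsPGroup p ↥Q3 := IsPGroup.of_card hQ3card
  have hQ3invert : ∀ q ∈ Q3, g * q * g⁻¹ = q⁻¹ :=
    inverts_of_invariant hgg Q3 hQ3inv (fun q hq => hnc q (orderOf_eq_pow_of_mem hQ3p hq))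
  exact ⟨Sylow.ofCard Q3 hQ3card, g, hxg, fun q hq => hQ3invert q hq⟩

omit [Finite G] in
/-- Two involutions whose product has odd order are conjugate (dihedral argument):
`c^j a c^-j = c^(2j) a = c⁻¹ a = b` for `c = a b` of order `2j+1`. -/
theorem isConj_of_odd_orderOf_mul {a b : G} (haa : a * a = 1) (hbb : b * b = 1)
    (hodd : Odd (orderOf (a * b))) : IsConj a b := by
  obtain ⟨j, hj⟩ := hodd
  obtain ⟨c, hc⟩ : ∃ c : G, c = a * b := ⟨_, rfl⟩
  rw [← hc] at hj
  have hainv : a⁻¹ = a := inv_eq_of_mul_eq_one_left haa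
  have hbinv : b⁻¹ = b := inv_eq_of_mul_eq_one_left hbb
  -- `a` inverts `c`
  have hac : a * c * a⁻¹ = c⁻¹ := by
    rw [hc, mul_inv_rev, hainv, hbinv]
    calc a * (a * b) * a = (a * a) * b * a := by group
      _ = b * a := by rw [haa, one_mul]
  have hacj : ∀ n : ℕ, a * c ^ n * a⁻¹ = (c ^ n)⁻¹ := by
    intro n
    induction n with
    | zero => simp
    | succ n ih =>
      calc a * c ^ (n + 1) * a⁻¹ = (a * c ^ n * a⁻¹) * (a * c * a⁻¹) := by
            rw [pow_succ]; group
        _ = (c ^ n)⁻¹ * c⁻¹ := by rw [ih, hac]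
        _ = (c ^ (n + 1))⁻¹ := by
            rw [pow_succ', mul_inv_rev]
  have hcpow : c ^ (2 * j + 1) = 1 := by rw [← hj]; exact pow_orderOf_eq_one c
  rw [isConj_iff]
  refine ⟨c ^ j, ?_⟩
  have h1 : c ^ j * a * (c ^ j)⁻¹ = c ^ j * (a * (c ^ j)⁻¹ * a⁻¹) * a := by group
  have h2 : a * (c ^ j)⁻¹ * a⁻¹ = c ^ j := by
    have := hacj j
    calc a * (c ^ j)⁻¹ * a⁻¹ = (a * c ^ j * a⁻¹)⁻¹ := by group
      _ = c ^ j := by rw [this, inv_inv]
  rw [h1, h2]
  have h3 : c ^ j * c ^ j = c⁻¹ := by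
    have : c ^ j * c ^ j * c = 1 := by
      rw [← pow_add, ← pow_succ, ← two_mul]; exact hcpow
    exact eq_inv_of_mul_eq_one_left this
  rw [h3, hc, mul_inv_rev, hainv, hbinv]
  calc b * a * a = b * (a * a) := by group
    _ = b := by rw [haa, mul_one]

/-- Two involutions inverting every element of a subgroup `P` containing a non-identity element
whose centralizer has odd order are conjugate. -/
theorem isConj_of_invert {a b u : G} (P : Subgroup G) (haa : a * a = 1) (hbb : b * b = 1)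
    (ha : ∀ q ∈ P, a * q * a⁻¹ = q⁻¹) (hb : ∀ q ∈ P, b * q * b⁻¹ = q⁻¹) (hu : u ∈ P)
    (hodd : Odd (Nat.card ↥(Subgroup.centralizer ({u} : Set G)))) : IsConj a b := by
  apply isConj_of_odd_orderOf_mul haa hbb
  have hmem : a * b ∈ Subgroup.centralizer ({u} : Set G) := by
    rw [Subgroup.mem_centralizer_singleton_iff]
    have h1 : b * u * b⁻¹ = u⁻¹ := hb u hu
    have h2 : a * u⁻¹ * a⁻¹ = u := by
      have := ha u⁻¹ (P.inv_mem hu)
      rw [inv_inv] at this
      exact this
    calc a * b * u = a * (b * u * b⁻¹) * a⁻¹ * (a * b) := by group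
      _ = u * (a * b) := by rw [h1, h2]
  have h3 : orderOf (a * b) ∣ Nat.card ↥(Subgroup.centralizer ({u} : Set G)) := by
    have := orderOf_dvd_natCard (⟨a * b, hmem⟩ : ↥(Subgroup.centralizer ({u} : Set G)))
    rwa [Subgroup.orderOf_mk] at this
  exact Odd.of_dvd_nat hodd h3

end Cfsg.Agent.Lib.Helper79_OddCentralizers
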