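import Mathlib
import Cfsg.Prelude.Def_Blocks
import Cfsg.Agent.Lib.Helper79_RobinsonFormula
import Cfsg.Agent.Lib.Helper77_BlockBasics
import Cfsg.Agent.Lib.Helper80_CharBasic

/-!
# Products of two conjugacy classes and irreducible characters (helper79)

`prodCount a b g` is the number of pairs `(v, w)` with `v` conjugate to `a`, `w` conjugate to `b`
and `v * w = g`.  We prove Burnside's formula

`prodCount a b g = ∑_χ (χ(1)/|G|) ω_χ(a) ω_χ(b) conj(χ(g))`

and the denominator-free form

`|C(z)|² · prodCount z z y⁻¹ = ∑_χ (|G|/χ(1)) χ(z)² χ(y)`.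
-/

set_option autoImplicit false
set_option linter.unusedSectionVars false

namespace Cfsg.Agent.Lib.Helper79_ProdCount

open Cfsg Cfsg.Agent.Lib.Helper78_LocalRing Cfsg.Agent.Lib.Helper78_CentralChar
  Cfsg.Agent.Lib.Helper78_Osima Cfsg.Agent.Lib.Helper79_RobinsonFormula

open scoped ComplexConjugate

universe u

variable {G : Type u} [Group G] [Fintype G]

/-- The number of ways of writing `g` as `v * w` with `v` conjugate to `a` and `w` conjugate
to `b`. -/
noncomputable def prodCount (a b g : G) : ℕ :=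
  Nat.card {vw : G × G // IsConj a vw.1 ∧ IsConj b vw.2 ∧ vw.1 * vw.2 = g}

open Classical in
theorem prodCount_eq_conv (a b g : G) :
    (prodCount a b g : ℂ) = conv (classIndicator a) (classIndicator b) g := by
  have e : {vw : G × G // IsConj a vw.1 ∧ IsConj b vw.2 ∧ vw.1 * vw.2 = g} ≃
      {v : G // IsConj a v ∧ IsConj b (v⁻¹ * g)} :=
    { toFun := fun x => ⟨x.1.1, x.2.1, by
        have h : x.1.2 = x.1.1⁻¹ * g := by
          have h3 := x.2.2.2
          calc x.1.2 = x.1.1⁻¹ * (x.1.1 * x.1.2) := by group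
            _ = x.1.1⁻¹ * g := by rw [h3]
        rw [← h]; exact x.2.2.1⟩
      invFun := fun v => ⟨(v.1, v.1⁻¹ * g), v.2.1, v.2.2, by group⟩
      left_inv := by
        rintro ⟨⟨v, w⟩, h1, h2, h3⟩
        apply Subtype.ext
        show (v, v⁻¹ * g) = (v, w)
        rw [← h3]
        congr 1
        group
      right_inv := by
        rintro ⟨v, h1, h2⟩
        rfl }
  have h1 : prodCount a b g = ∑ v : G, if (IsConj a v ∧ IsConj b (v⁻¹ * g)) then 1 else 0 := by
    unfold prodCount
    rw [Nat.card_congr e, Nat.card_eq_fintype_card, Fintype.card_subtype, Finset.card_filter]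
  rw [h1]
  push_cast
  unfold conv
  refine Finset.sum_congr rfl fun v _ => ?_
  rw [classIndicator_apply, classIndicator_apply]
  by_cases ha : IsConj a v
  · by_cases hb : IsConj b (v⁻¹ * g)
    · rw [if_pos ⟨ha, hb⟩, if_pos ha, if_pos hb]; simp
    · rw [if_neg (fun h => hb h.2), if_pos ha, if_neg hb]; simp
  · rw [if_neg (fun h => ha h.1), if_neg ha]; simp

/-- **Burnside's formula** for the product of two classes. -/
theorem prodCount_eq_sum_irr [Fintype (IrrCharacter G)] (a b g : G) :
    (prodCount a b g : ℂ) = ∑ χ : IrrCharacter G,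
      ((χ : G → ℂ) 1 / (Nat.card G : ℂ)) * centralChar (χ : G → ℂ) a *
        centralChar (χ : G → ℂ) b * conj ((χ : G → ℂ) g) := by
  rw [prodCount_eq_conv]
  have hcl : IsClassFunction G (conv (classIndicator a) (classIndicator b)) :=
    conv_isClassFunction (classIndicator_isClassFunction a) (classIndicator_isClassFunction b)
  rw [class_inversion hcl g]
  refine Finset.sum_congr rfl fun χ _ => ?_
  rw [omega_conv χ.2 _ (classIndicator_isClassFunction b),
    omega_classIndicator (isIrrCharacter_isClassFunction χ.2),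
    omega_classIndicator (isIrrCharacter_isClassFunction χ.2)]
  ring

/-- The denominator-free form of Burnside's formula for `z * z' = y⁻¹` with `z, z'` in one
class. -/
theorem card_sq_mul_prodCount [Fintype (IrrCharacter G)] (y z : G) :
    ((Nat.card (Subgroup.centralizer ({z} : Set G)) : ℂ)) ^ 2 * (prodCount z z y⁻¹ : ℂ) =
      ∑ χ : IrrCharacter G,
        ((Nat.card G / charDegree (χ : G → ℂ) : ℕ) : ℂ) * (χ : G → ℂ) z ^ 2 * (χ : G → ℂ) y := by
  rw [prodCount_eq_sum_irr, Finset.mul_sum]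
  refine Finset.sum_congr rfl fun χ _ => ?_
  obtain ⟨n, hn, h1, hdeg, hdvd⟩ := Cfsg.Agent.Lib.Helper77_BlockBasics.exists_degree χ
  obtain ⟨k, hk⟩ := hdvd
  have hnC : (n : ℂ) ≠ 0 := by exact_mod_cast hn.ne'
  have hG0 : (Nat.card G : ℂ) ≠ 0 := by exact_mod_cast Nat.card_pos.ne'
  have hquot : Nat.card G / charDegree (χ : G → ℂ) = k := by
    rw [hdeg, hk, Nat.mul_div_cancel_left _ hn]
  have hidx : ((Subgroup.centralizer ({z} : Set G)).index : ℂ) *
      (Nat.card (Subgroup.centralizer ({z} : Set G)) : ℂ) = (Nat.card G : ℂ) := by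
    exact_mod_cast Subgroup.index_mul_card (Subgroup.centralizer ({z} : Set G))
  have hinv : conj ((χ : G → ℂ) y⁻¹) = (χ : G → ℂ) y := by
    rw [Cfsg.Agent.Lib.Helper80_CharBasic.irr_inv χ y, Complex.conj_conj]
  have hGk : (Nat.card G : ℂ) = (n : ℂ) * (k : ℂ) := by exact_mod_cast hk
  rw [hinv, hquot]
  unfold centralChar
  rw [h1]
  set c : ℂ := (Nat.card (Subgroup.centralizer ({z} : Set G)) : ℂ) with hc
  set i : ℂ := ((Subgroup.centralizer ({z} : Set G)).index : ℂ) with hi
  have hic : i * c = (n : ℂ) * (k : ℂ) := by rw [hidx, hGk]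
  rw [hGk]
  have hk0 : (k : ℂ) ≠ 0 := by
    intro h0
    rw [h0, mul_zero] at hGk
    exact hG0 hGk
  field_simp
  have : (i * c) ^ 2 = ((n : ℂ) * (k : ℂ)) ^ 2 := by rw [hic]
  linear_combination ((χ : G → ℂ) z ^ 2 * (χ : G → ℂ) y) * this

end Cfsg.Agent.Lib.Helper79_ProdCount
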