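import Mathlib
import Cfsg.Agent.Lib.Helper79_ProdCount

/-!
# Elements of order three normalizing no nontrivial 2-subgroup (helper79)

For an element `y` of order three that normalizes no nontrivial `2`-subgroup:

* no involution commutes with `y` (`Iso3.eq_one_of_commute`), so the centralizer has odd order
  (`Iso3.not_two_dvd_card_centralizer`);
* no involution `r` has `(r * y) ^ 3 = 1` (`Iso3.eq_one_of_pow_three`): otherwise `y` normalizes
  a four-group;
* for `z` of order three, the number of ways of writing `y⁻¹ = v * w` with `v, w` conjugate to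
  `z` is congruent mod 2 to `1` if `z` is conjugate to `y` and to `0` otherwise
  (`prodCount_modEq`): the map `(v, w) ↦ (y w y⁻¹, y⁻¹ v y)` is an involution on the solutions
  whose only possible fixed point is `(y, y)`.
-/

set_option autoImplicit false
set_option linter.unusedSectionVars false

namespace Cfsg.Agent.Lib.Helper79_OrderThreeParity

open Cfsg.Agent.Lib.Helper79_ProdCount

universe u

variable {G : Type u} [Group G]

/-- `g` has order three and normalizes no nontrivial `2`-subgroup. -/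
def Iso3 (g : G) : Prop :=
  orderOf g = 3 ∧ ∀ Q : Subgroup G, IsPGroup 2 ↥Q → g ∈ Subgroup.normalizer (Q : Set G) → Q = ⊥

/-- The four-group generated by two commuting involutions. -/
def fourGroup (r s : G) (hr : r * r = 1) (hs : s * s = 1) (hc : r * s = s * r) : Subgroup G where
  carrier := {x | x = 1 ∨ x = r ∨ x = s ∨ x = r * s}
  one_mem' := Or.inl rfl
  mul_mem' := by
    have hr' : ∀ x : G, r * (r * x) = x := fun x => by rw [← mul_assoc, hr, one_mul]
    have hs' : ∀ x : G, s * (s * x) = x := fun x => by rw [← mul_assoc, hs, one_mul]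
    have hsr : ∀ x : G, s * (r * x) = r * (s * x) := fun x => by
      rw [← mul_assoc, ← hc, mul_assoc]
    intro a b ha hb
    rcases ha with h | h | h | h <;> rcases hb with h' | h' | h' | h' <;> rw [h, h'] <;>
      show (_ = 1 ∨ _ = r ∨ _ = s ∨ _ = r * s)
    · exact Or.inl (one_mul _)
    · exact Or.inr (Or.inl (one_mul _))
    · exact Or.inr (Or.inr (Or.inl (one_mul _)))
    · exact Or.inr (Or.inr (Or.inr (one_mul _)))
    · exact Or.inr (Or.inl (mul_one _))
    · exact Or.inl hr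
    · exact Or.inr (Or.inr (Or.inr rfl))
    · exact Or.inr (Or.inr (Or.inl (hr' _)))
    · exact Or.inr (Or.inr (Or.inl (mul_one _)))
    · exact Or.inr (Or.inr (Or.inr hc.symm))
    · exact Or.inl hs
    · exact Or.inr (Or.inl (by rw [hsr, hs, mul_one]))
    · exact Or.inr (Or.inr (Or.inr (mul_one _)))
    · exact Or.inr (Or.inr (Or.inl (by rw [mul_assoc, ← hc, hr'])))
    · exact Or.inr (Or.inl (by rw [mul_assoc, hs, mul_one]))
    · exact Or.inl (by rw [mul_assoc, hsr, hs, mul_one, hr])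
  inv_mem' := by
    intro a ha
    rcases ha with h | h | h | h <;> rw [h] <;> show (_ = 1 ∨ _ = r ∨ _ = s ∨ _ = r * s)
    · exact Or.inl inv_one
    · exact Or.inr (Or.inl (inv_eq_of_mul_eq_one_left hr))
    · exact Or.inr (Or.inr (Or.inl (inv_eq_of_mul_eq_one_left hs)))
    · refine Or.inr (Or.inr (Or.inr (inv_eq_of_mul_eq_one_left ?_)))
      rw [mul_assoc, ← mul_assoc s r s, ← hc, mul_assoc r s s, hs, mul_one, hr]

theorem mem_fourGroup {r s : G} (hr : r * r = 1) (hs : s * s = 1) (hc : r * s = s * r) (x : G) :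
    x ∈ fourGroup r s hr hs hc ↔ x = 1 ∨ x = r ∨ x = s ∨ x = r * s := Iff.rfl

theorem fourGroup_isPGroup {r s : G} (hr : r * r = 1) (hs : s * s = 1) (hc : r * s = s * r) :
    IsPGroup 2 ↥(fourGroup r s hr hs hc) := by
  rintro ⟨x, hx⟩
  refine ⟨1, ?_⟩
  apply Subtype.ext
  rw [pow_one, sq]
  show x * x = 1
  rcases hx with h | h | h | h <;> rw [h]
  · exact one_mul _
  · exact hr
  · exact hs
  · rw [mul_assoc, ← mul_assoc s r s, ← hc, mul_assoc r s s, hs, mul_one, hr]

/-- If conjugation by `y` maps a subgroup into itself and `y` has finite order, `y` normalizes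
it. -/
theorem mem_normalizer_of_conj_le {y : G} (hy : IsOfFinOrder y) (Q : Subgroup G)
    (h : ∀ x ∈ Q, y * x * y⁻¹ ∈ Q) : y ∈ Subgroup.normalizer (Q : Set G) := by
  have hpow : ∀ n : ℕ, ∀ x ∈ Q, y ^ n * x * (y ^ n)⁻¹ ∈ Q := by
    intro n
    induction n with
    | zero => intro x hx; simpa using hx
    | succ n ih =>
      intro x hx
      have := h _ (ih x hx)
      have e : y ^ (n + 1) * x * (y ^ (n + 1))⁻¹ = y * (y ^ n * x * (y ^ n)⁻¹) * y⁻¹ := by
        rw [pow_succ']; group
      rw [e]; exact this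
  rw [Subgroup.mem_normalizer_iff]
  intro x
  refine ⟨h x, fun hx => ?_⟩
  obtain ⟨n, hn, hyn⟩ := hy.exists_pow_eq_one
  obtain ⟨m, rfl⟩ : ∃ m, n = m + 1 := ⟨n - 1, by omega⟩
  have := hpow m _ hx
  have e : y ^ m * (y * x * y⁻¹) * (y ^ m)⁻¹ = x := by
    have h1 : y ^ m * y = 1 := by rw [← pow_succ]; exact hyn
    have h2 : y⁻¹ * (y ^ m)⁻¹ = 1 := by rw [← mul_inv_rev, h1, inv_one]
    calc y ^ m * (y * x * y⁻¹) * (y ^ m)⁻¹ = (y ^ m * y) * x * (y⁻¹ * (y ^ m)⁻¹) := by group
      _ = x := by rw [h1, h2, one_mul, mul_one]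
  rw [e] at this
  exact this

namespace Iso3

variable {y : G}

theorem isOfFinOrder (hy : Iso3 y) : IsOfFinOrder y :=
  isOfFinOrder_iff_pow_eq_one.mpr ⟨3, by norm_num, by rw [← hy.1]; exact pow_orderOf_eq_one y⟩

theorem pow_three (hy : Iso3 y) : y ^ 3 = 1 := by
  rw [← hy.1]; exact pow_orderOf_eq_one y

theorem ne_one (hy : Iso3 y) : y ≠ 1 := by
  intro h
  have := hy.1
  rw [h, orderOf_one] at this
  omega

/-- No involution commutes with `y`. -/
theorem eq_one_of_commute (hy : Iso3 y) {r : G} (hr : r * r = 1) (hc : r * y = y * r) :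
    r = 1 := by
  have hr1 : (1 : G) * 1 = 1 := one_mul 1
  have hc1 : r * 1 = 1 * r := by rw [mul_one, one_mul]
  set Q := fourGroup r 1 hr hr1 hc1 with hQ
  have hn : y ∈ Subgroup.normalizer (Q : Set G) := by
    refine mem_normalizer_of_conj_le hy.isOfFinOrder Q ?_
    intro x hx
    have hfix : ∀ x : G, (x = 1 ∨ x = r) → y * x * y⁻¹ = x := by
      rintro x (rfl | rfl)
      · group
      · rw [← hc, mul_assoc, mul_inv_cancel, mul_one]
    rcases hx with rfl | rfl | rfl | rfl
    · rw [hfix 1 (Or.inl rfl)]; exact Or.inl rfl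
    · rw [hfix _ (Or.inr rfl)]; exact Or.inr (Or.inl rfl)
    · rw [hfix 1 (Or.inl rfl)]; exact Or.inl rfl
    · rw [mul_one, hfix _ (Or.inr rfl)]; exact Or.inr (Or.inl rfl)
  have hbot := hy.2 Q (fourGroup_isPGroup hr hr1 hc1) hn
  have hrQ : r ∈ Q := Or.inr (Or.inl rfl)
  rw [hbot] at hrQ
  exact Subgroup.mem_bot.mp hrQ

/-- The centralizer of `y` has odd order. -/
theorem not_two_dvd_card_centralizer [Finite G] (hy : Iso3 y) :
    ¬ 2 ∣ Nat.card (Subgroup.centralizer ({y} : Set G)) := by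
  intro h2
  have : Fact (Nat.Prime 2) := ⟨Nat.prime_two⟩
  obtain ⟨r, hr⟩ := exists_prime_orderOf_dvd_card' 2 h2
  have hr2 : (r : G) * (r : G) = 1 := by
    have : r ^ 2 = 1 := by rw [← hr]; exact pow_orderOf_eq_one r
    have := congrArg Subtype.val this
    simpa [sq] using this
  have hc : (r : G) * y = y * (r : G) :=
    (Subgroup.mem_centralizer_iff.mp r.2 y (Set.mem_singleton y)).symm
  have h1 := hy.eq_one_of_commute hr2 hc
  have : r = 1 := Subtype.ext h1
  rw [this, orderOf_one] at hr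
  omega

/-- No involution `r` has `(r * y) ^ 3 = 1`. -/
theorem eq_one_of_pow_three (hy : Iso3 y) {r : G} (hr : r * r = 1) (h3 : (r * y) ^ 3 = 1) :
    r = 1 := by
  have hy3 := hy.pow_three
  set s : G := y * r * y⁻¹ with hs
  set s' : G := y * s * y⁻¹ with hs'
  have hs2 : s * s = 1 := by
    rw [hs]
    calc y * r * y⁻¹ * (y * r * y⁻¹) = y * (r * r) * y⁻¹ := by group
      _ = 1 := by rw [hr]; group
  have hs'2 : s' * s' = 1 := by
    rw [hs']
    calc y * s * y⁻¹ * (y * s * y⁻¹) = y * (s * s) * y⁻¹ := by group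
      _ = 1 := by rw [hs2]; group
  -- (r y)^3 = r s s' y^3
  have hprod : r * s * s' = 1 := by
    have e3 : ∀ x : G, x ^ 3 = x * x * x := fun x => by
      rw [show (3 : ℕ) = 2 + 1 from rfl, pow_succ, pow_two]
    have e : (r * y) ^ 3 = r * s * s' * y ^ 3 := by
      rw [hs', hs, e3, e3]; group
    rw [e, hy3, mul_one] at h3
    exact h3
  have hs'eq : s' = r * s := by
    have h1 : s' = (r * s)⁻¹ := eq_inv_of_mul_eq_one_right hprod
    have h2 : (r * s) * (r * s) = 1 := by
      have : (r * s)⁻¹ * (r * s)⁻¹ = 1 := by rw [← h1]; exact hs'2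
      have h3 : ((r * s) * (r * s))⁻¹ = 1 := by rw [mul_inv_rev]; exact this
      exact inv_eq_one.mp h3
    rw [h1]
    exact inv_eq_of_mul_eq_one_left h2
  have hc : r * s = s * r := by
    have h2 : (r * s) * (r * s) = 1 := by rw [← hs'eq]; exact hs'2
    -- r s r s = 1 → r s = s⁻¹ r⁻¹ = s r
    have hrinv : r⁻¹ = r := inv_eq_of_mul_eq_one_left hr
    have hsinv : s⁻¹ = s := inv_eq_of_mul_eq_one_left hs2
    have : r * s = (r * s)⁻¹ := eq_inv_of_mul_eq_one_left h2
    rw [mul_inv_rev, hrinv, hsinv] at this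
    exact this
  set Q := fourGroup r s hr hs2 hc with hQ
  have hn : y ∈ Subgroup.normalizer (Q : Set G) := by
    refine mem_normalizer_of_conj_le hy.isOfFinOrder Q ?_
    intro x hx
    rcases hx with rfl | rfl | rfl | rfl
    · refine Or.inl ?_; group
    · exact Or.inr (Or.inr (Or.inl rfl))
    · refine Or.inr (Or.inr (Or.inr ?_)); exact hs'eq
    · refine Or.inr (Or.inl ?_)
      have e : y * (r * s) * y⁻¹ = s * s' := by
        rw [hs', hs]; group
      rw [e, hs'eq, ← mul_assoc, ← hc, mul_assoc, hs2, mul_one]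
  have hbot := hy.2 Q (fourGroup_isPGroup hr hs2 hc) hn
  have hrQ : r ∈ Q := Or.inr (Or.inl rfl)
  rw [hbot] at hrQ
  exact Subgroup.mem_bot.mp hrQ

end Iso3

/-- If `y` has order three and normalizes no nontrivial `2`-subgroup and `z` has order three, the
number of ways of writing `y⁻¹` as a product of two conjugates of `z` is odd exactly when `z` is
conjugate to `y`. -/
theorem prodCount_modEq [Fintype G] {y z : G} (hy : Iso3 y) (hz : orderOf z = 3)
    [Decidable (IsConj z y)] :
    prodCount z z y⁻¹ ≡ (if IsConj z y then 1 else 0) [MOD 2] := by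
  classical
  have hy3 := hy.pow_three
  have hyy : y * y = y⁻¹ := by
    refine eq_inv_of_mul_eq_one_left ?_
    rw [← hy3, show (3 : ℕ) = 2 + 1 from rfl, pow_succ, pow_two]
  have hinv3 : y⁻¹ * y⁻¹ * y⁻¹ = 1 := by
    have : (y * y * y)⁻¹ = 1 := by
      rw [hyy, inv_mul_cancel, inv_one]
    rw [← this]; group
  have hpow3 : ∀ v : G, IsConj z v → v ^ 3 = 1 := by
    intro v hv
    obtain ⟨c, hc⟩ := isConj_iff.mp hv
    rw [← hc, conj_pow, ← hz, pow_orderOf_eq_one]
    group
  have : Fintype {vw : G × G // IsConj z vw.1 ∧ IsConj z vw.2 ∧ vw.1 * vw.2 = y⁻¹} :=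
    Fintype.ofFinite _
  -- the involution
  let τ : Function.End {vw : G × G // IsConj z vw.1 ∧ IsConj z vw.2 ∧ vw.1 * vw.2 = y⁻¹} :=
    fun x => ⟨(y * x.1.2 * y⁻¹, y⁻¹ * x.1.1 * y),
      (Cfsg.Agent.Lib.Helper78_Osima.isConj_conj_iff z x.1.2 y).mpr x.2.2.1,
      by
        have := (Cfsg.Agent.Lib.Helper78_Osima.isConj_conj_iff z x.1.1 y⁻¹).mpr x.2.1
        rwa [inv_inv] at this,
      by
        have h3 := x.2.2.2
        have hw : x.1.2 = x.1.1⁻¹ * y⁻¹ := by
          calc x.1.2 = x.1.1⁻¹ * (x.1.1 * x.1.2) := by group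
            _ = x.1.1⁻¹ * y⁻¹ := by rw [h3]
        show y * x.1.2 * y⁻¹ * (y⁻¹ * x.1.1 * y) = y⁻¹
        rw [hw]
        calc y * (x.1.1⁻¹ * y⁻¹) * y⁻¹ * (y⁻¹ * x.1.1 * y)
            = y * x.1.1⁻¹ * (y⁻¹ * y⁻¹ * y⁻¹) * x.1.1 * y := by group
          _ = y * y := by rw [hinv3]; group
          _ = y⁻¹ := hyy⟩
  have hτ : ∀ x, (τ x).1 = (y * x.1.2 * y⁻¹, y⁻¹ * x.1.1 * y) := fun x => rfl
  have hf : τ ^ 2 ^ 1 = 1 := by
    rw [pow_one, sq]
    funext x
    show τ (τ x) = x
    apply Subtype.ext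
    rw [hτ, hτ]
    refine Prod.ext ?_ ?_
    · show y * (y⁻¹ * x.1.1 * y) * y⁻¹ = x.1.1
      group
    · show y⁻¹ * (y * x.1.2 * y⁻¹) * y = x.1.2
      group
  have hmod := Equiv.Perm.card_fixedPoints_modEq (f := τ) (p := 2) (n := 1) hf
  rw [← Nat.card_eq_fintype_card, ← Nat.card_eq_fintype_card] at hmod
  -- the fixed points
  have hfix : ∀ x, x ∈ Function.fixedPoints τ → x.1 = (y, y) := by
    intro x hx
    have hx' : τ x = x := hx
    have h1 : (τ x).1 = x.1 := congrArg Subtype.val hx'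
    rw [hτ] at h1
    have hv : y * x.1.2 * y⁻¹ = x.1.1 := congrArg Prod.fst h1
    have hw : y⁻¹ * x.1.1 * y = x.1.2 := congrArg Prod.snd h1
    have h3 := x.2.2.2
    set v := x.1.1 with hvdef
    set w := x.1.2 with hwdef
    -- r = v y⁻¹ is an involution or trivial
    have hr : (v * y⁻¹) * (v * y⁻¹) = 1 := by
      have e1 : v * (y⁻¹ * v * y) = y⁻¹ := by rw [hw]; exact h3
      calc (v * y⁻¹) * (v * y⁻¹) = (v * (y⁻¹ * v * y)) * (y⁻¹ * y⁻¹) := by group
        _ = y⁻¹ * (y⁻¹ * y⁻¹) := by rw [e1]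
        _ = 1 := by rw [← mul_assoc]; exact hinv3
    have hry : (v * y⁻¹ * y) ^ 3 = 1 := by
      rw [inv_mul_cancel_right]
      exact hpow3 v x.2.1
    have hr1 := hy.eq_one_of_pow_three hr hry
    have hvy : v = y := by
      have := mul_inv_eq_one.mp hr1
      exact this
    have hwy : w = y := by
      rw [← hw, hvy]; group
    exact Prod.ext hvy hwy
  have hcard : Nat.card (Function.fixedPoints τ) = if IsConj z y then 1 else 0 := by
    by_cases hzy : IsConj z y
    · rw [if_pos hzy]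
      rw [Nat.card_eq_one_iff_unique]
      refine ⟨⟨?_⟩, ⟨⟨⟨(y, y), hzy, hzy, hyy⟩, ?_⟩⟩⟩
      · rintro ⟨a, ha⟩ ⟨b, hb⟩
        apply Subtype.ext
        apply Subtype.ext
        rw [hfix a ha, hfix b hb]
      · show τ _ = _
        apply Subtype.ext
        rw [hτ]
        refine Prod.ext ?_ ?_
        · show y * y * y⁻¹ = y
          group
        · show y⁻¹ * y * y = y
          group
    · rw [if_neg hzy]
      have : IsEmpty (Function.fixedPoints τ) := by
        refine ⟨fun x => hzy ?_⟩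
        have h1 := hfix x.1 x.2
        have h2 := x.1.2.1
        rw [h1] at h2
        exact h2
      exact Nat.card_of_isEmpty
  rw [hcard] at hmod
  exact hmod

end Cfsg.Agent.Lib.Helper79_OrderThreeParity
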