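import Mathlib

/-!
# S2314 (market `pc_packages`, architect helper81), package PK-MOEB

`moebius_signed`: signed Moebius inversion over `Finset.powerset`.
-/

set_option autoImplicit false

namespace Cfsg.Agent.Lib.Helper79_PC_MOEB

/-- alternating sum over the interval `[L, J]` of the subset lattice -/
theorem sum_between {ι : Type*} [DecidableEq ι] {R : Type*} [CommRing R] (J L : Finset ι)
    (hL : L ⊆ J) :
    ∑ K ∈ J.powerset.filter (fun K => L ⊆ K), (-1 : R) ^ K.card
      = if L = J then (-1 : R) ^ J.card else 0 := by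
  rw [← Finset.Icc_eq_filter_powerset, Finset.Icc_eq_image_powerset hL]
  rw [Finset.sum_image]
  · have h1 : ∀ M ∈ (J \ L).powerset, (-1 : R) ^ (L ∪ M).card = (-1 : R) ^ L.card * (-1 : R) ^ M.card := by
      intro M hM
      rw [Finset.mem_powerset] at hM
      have hd : Disjoint L M := by
        rw [Finset.disjoint_left]
        intro a ha hb
        exact (Finset.mem_sdiff.1 (hM hb)).2 ha
      rw [Finset.card_union_of_disjoint hd, pow_add]
    rw [Finset.sum_congr rfl h1, ← Finset.mul_sum]
    have h2 := congrArg (Int.cast : ℤ → R) (Finset.sum_powerset_neg_one_pow_card (x := J \ L))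
    push_cast at h2
    rw [h2]
    by_cases hLJ : L = J
    · subst hLJ
      simp
    · have : J \ L ≠ ∅ := by
        intro h0
        rw [Finset.sdiff_eq_empty_iff_subset] at h0
        exact hLJ (Finset.Subset.antisymm hL h0)
      simp [hLJ, this]
  · intro M hM M' hM' hMM
    simp only [Finset.coe_powerset, Set.mem_preimage, Set.mem_powerset_iff, Finset.coe_subset] at hM hM'
    have hMM : L ∪ M = L ∪ M' := hMM
    ext a
    constructor
    · intro ha
      have : a ∈ L ∪ M' := by rw [← hMM]; exact Finset.mem_union_right _ ha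
      rcases Finset.mem_union.1 this with h | h
      · exact absurd h (Finset.mem_sdiff.1 (hM ha)).2
      · exact h
    · intro ha
      have : a ∈ L ∪ M := by rw [hMM]; exact Finset.mem_union_right _ ha
      rcases Finset.mem_union.1 this with h | h
      · exact absurd h (Finset.mem_sdiff.1 (hM' ha)).2
      · exact h

end Cfsg.Agent.Lib.Helper79_PC_MOEB

namespace Cfsg.Agent.Lib.Helper81_PCount

theorem moebius_signed {ι : Type*} [DecidableEq ι] {R : Type*} [CommRing R] (I : Finset ι)
    (f g : Finset ι → R)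
    (h : ∀ J ⊆ I, g J = ∑ K ∈ J.powerset, (-1 : R) ^ K.card * f K) :
    ∀ J ⊆ I, f J = ∑ K ∈ J.powerset, (-1 : R) ^ K.card * g K := by
  intro J hJ
  have e1 : ∑ K ∈ J.powerset, (-1 : R) ^ K.card * g K
      = ∑ K ∈ J.powerset, ∑ L ∈ J.powerset,
          if L ⊆ K then (-1 : R) ^ K.card * ((-1 : R) ^ L.card * f L) else 0 := by
    refine Finset.sum_congr rfl (fun K hK => ?_)
    rw [Finset.mem_powerset] at hK
    rw [h K (hK.trans hJ), Finset.mul_sum, ← Finset.sum_filter]
    refine Finset.sum_congr ?_ (fun _ _ => rfl)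
    ext L
    simp only [Finset.mem_powerset, Finset.mem_filter]
    exact ⟨fun hLK => ⟨hLK.trans hK, hLK⟩, fun hh => hh.2⟩
  rw [e1, Finset.sum_comm]
  have e2 : ∀ L ∈ J.powerset, (∑ K ∈ J.powerset,
      if L ⊆ K then (-1 : R) ^ K.card * ((-1 : R) ^ L.card * f L) else 0)
      = if L = J then f J else 0 := by
    intro L hL
    rw [Finset.mem_powerset] at hL
    rw [← Finset.sum_filter, ← Finset.sum_mul,
      Cfsg.Agent.Lib.Helper79_PC_MOEB.sum_between J L hL]
    by_cases hLJ : L = J
    · subst hLJ
      simp only [if_true]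
      rw [← mul_assoc, ← pow_add, ← two_mul, pow_mul]
      simp
    · simp [hLJ]
  rw [Finset.sum_congr rfl e2, Finset.sum_ite_eq' J.powerset J]
  simp

end Cfsg.Agent.Lib.Helper81_PCount
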