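/-
Q2 market (architect helper94), package Q2-NRMH: the reflections in the vectors of the planes normalise `H = S ⊓ Ω`.
-/
import Mathlib
import Cfsg.Agent.Lib.Helper94_Q2Defs
import Cfsg.Agent.Lib.Helper53_Q2_BLREFL

set_option autoImplicit false
set_option linter.unusedSectionVars false
set_option linter.unusedVariables false

namespace Cfsg.Agent.Lib.Helper79_Q2_NRMH

open Module Cfsg.Agent.Lib.Helper94_Symp Cfsg.Agent.Lib.Helper94_OrthSmall
  Cfsg.Agent.Lib.Helper94_OrthSiegel Cfsg.Agent.Lib.Helper94_OrthNondeg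
  Cfsg.Agent.Lib.Helper29_ODDefs Cfsg.Agent.Lib.Helper94_Q2Defs
open scoped commutatorElement

variable {F : Type*} [Field F] [Finite F] {a b : F} [Fact (∀ r : F, r ^ 2 ≠ a + b * r)] {t : ℕ}
  {S M L : Subgroup (MV a b t ≃ₗ[F] MV a b t)}

/-- the commutator subgroup of a subgroup `O` is stable under conjugation by the elements of `O` -/
theorem conj_mem_commutator {G : Type*} [Group G] (O : Subgroup G) {g h : G} (hg : g ∈ O)
    (hh : h ∈ ⁅O, O⁆) : g * h * g⁻¹ ∈ ⁅O, O⁆ := by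
  have hle : ⁅O, O⁆ ≤ O := by
    rw [Subgroup.commutator_le]
    intro g₁ h₁ g₂ h₂
    exact O.mul_mem (O.mul_mem (O.mul_mem h₁ h₂) (O.inv_mem h₁)) (O.inv_mem h₂)
  have h1 : ⁅g, h⁆ ∈ ⁅O, O⁆ := Subgroup.commutator_mem_commutator hg (hle hh)
  have e : g * h * g⁻¹ = ⁅g, h⁆ * h := by
    rw [commutatorElement_def]
    group
  rw [e]
  exact Subgroup.mul_mem _ h1 hh

theorem NRMH (hS : IsDStab (mD a b t) S) {x : MV a b t} (hx : IsBl x) (hx' : mQ a b t x ≠ 0)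
    {h : MV a b t ≃ₗ[F] MV a b t} (hh : h ∈ S ⊓ mOm a b t) :
    mrefl a b t hx' * h * mrefl a b t hx' ∈ S ⊓ mOm a b t := by
  have hrS : mrefl a b t hx' ∈ S := Cfsg.Agent.Lib.Helper53_Q2_BLREFL.BLREFL S hS hx hx'
  have hrO : mrefl a b t hx' ∈ oG (mQ a b t) := refl_mem _ _ _ _ hx'
  refine ⟨S.mul_mem (S.mul_mem hrS hh.1) hrS, ?_⟩
  have h1 := conj_mem_commutator (oG (mQ a b t)) hrO hh.2
  rw [refl_inv] at h1
  exact h1

end Cfsg.Agent.Lib.Helper79_Q2_NRMH
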