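import Mathlib
import Cfsg.Prelude.Def_Transfer
import Cfsg.Agent.Lib.Helper35_FrobeniusNPC

/-!
# ru market (S3175) package NPC (architect helper56; formalised by helper79)

If the elements of odd order of `N_G(P)` centralise the Sylow 2-subgroup `P`, then `N_G(P)` has a normal 2-complement
(Frobenius' criterion `Helper35_FrobeniusNPC.hasNPC_of_frobHyp` inside `N_G(P)`, where every 2-subgroup lies in `P`).
-/

set_option autoImplicit false

namespace Cfsg.Agent.Lib.Helper79_RU_NPC

open Cfsg.Agent.Lib.Helper35_FrobeniusNPC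

/-- NPC. -/
theorem has_npc {G : Type*} [Group G] [Finite G] (P : Sylow 2 G)
    (hcen : ∀ g ∈ Subgroup.normalizer ((P : Subgroup G) : Set G), Odd (orderOf g) →
      ∀ x ∈ (P : Subgroup G), g * x = x * g) :
    Cfsg.HasNormalPComplement 2 ↥(Subgroup.normalizer ((P : Subgroup G) : Set G)) := by
  have hp2 : Fact (Nat.Prime 2) := ⟨Nat.prime_two⟩
  have hF : FrobHyp 2 ↥(Subgroup.normalizer ((P : Subgroup G) : Set G)) := by
    intro Q hQ g _ hgo
    have hQ' : IsPGroup 2 (Q.map (Subgroup.normalizer ((P : Subgroup G) : Set G)).subtype) :=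
      hQ.map _
    have hQM : Q.map (Subgroup.normalizer ((P : Subgroup G) : Set G)).subtype ≤
        Subgroup.normalizer ((P : Subgroup G) : Set G) := Subgroup.map_subtype_le Q
    have hsup : IsPGroup 2
        (Q.map (Subgroup.normalizer ((P : Subgroup G) : Set G)).subtype ⊔ (P : Subgroup G) :
          Subgroup G) :=
      IsPGroup.to_sup_of_normal_right' hQ' P.isPGroup' hQM
    have heq := P.is_maximal' hsup le_sup_right
    have hQP : Q.map (Subgroup.normalizer ((P : Subgroup G) : Set G)).subtype ≤ P :=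
      le_sup_left.trans (le_of_eq heq)
    have hodd : Odd (orderOf (g : G)) := by
      rw [Subgroup.orderOf_coe]
      exact Nat.coprime_two_right.1 hgo
    rw [Subgroup.mem_centralizer_iff]
    intro q hq
    have hc := hcen (g : G) g.2 hodd (q : G) (hQP ⟨q, hq, rfl⟩)
    apply Subtype.ext
    rw [Subgroup.coe_mul, Subgroup.coe_mul]
    exact hc.symm
  obtain ⟨K, hKn, hKc, n, hKi⟩ := hasNPC_of_frobHyp hF
  obtain ⟨S⟩ : Nonempty (Sylow 2 ↥(Subgroup.normalizer ((P : Subgroup G) : Set G))) :=
    inferInstance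
  exact ⟨S, K, hKn, isComplement'_of_npc hKc hKi S⟩

end Cfsg.Agent.Lib.Helper79_RU_NPC
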