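import Mathlib
import Cfsg.Prelude.Def_Blocks
import Cfsg.Agent.Lib.Helper78_LocalRing
import Cfsg.Agent.Lib.Helper78_CentralChar
import Cfsg.Agent.Lib.Helper79_Residue
import Cfsg.Agent.Lib.Helper79_RankTools
import Cfsg.Agent.Lib.Helper79_RobinsonFormula
import Cfsg.Agent.Lib.Helper79_RobinsonTerm
import Cfsg.Agent.Lib.Helper79_RobinsonMain

/-!
# Robinson's matrix over the residue field (helper79)

* `exists_rows_det_ne_zero`: a matrix with `r` columns and rank `r` has `r` rows forming an
  invertible matrix;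
* `robinson_matrix_eq`: the matrix of pair counts divided by `p ^ (a - d)`, reduced to the residue
  field, equals `Ω'ᵀ U Ω` with `Ω = (ω_B(x_j))`, `Ω' = (ω_B(x_i⁻¹))`, `U = diag(e_B(1) / p ^ (a - d))`;
* `pairCount_of_separated`: the pair count of separated classes.
-/

set_option autoImplicit false
set_option linter.unusedSectionVars false

namespace Cfsg.Agent.Lib.Helper79_RobinsonMatrix

open Cfsg Cfsg.Agent.Lib.Helper78_LocalRing Cfsg.Agent.Lib.Helper78_CentralChar
  Cfsg.Agent.Lib.Helper79_Residue Cfsg.Agent.Lib.Helper79_RankTools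
  Cfsg.Agent.Lib.Helper79_RobinsonFormula Cfsg.Agent.Lib.Helper79_RobinsonTerm
  Cfsg.Agent.Lib.Helper79_RobinsonMain

open scoped Matrix

/-- A matrix with `r` columns and rank `r` has `r` rows forming an invertible matrix. -/
theorem exists_rows_det_ne_zero {K : Type*} [Field K] {b : Type*} [Fintype b] {r : ℕ}
    (Ω : Matrix b (Fin r) K) (hrank : Ω.rank = r) :
    ∃ sel : Fin r → b, Function.Injective sel ∧
      (Matrix.of fun i j : Fin r => Ω (sel i) j).det ≠ 0 := by
  classical
  have h1 := Matrix.rank_eq_finrank_span_row Ω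
  obtain ⟨f, hfmem, -, hfli⟩ := Submodule.exists_fun_fin_finrank_span_eq K (Set.range Ω.row)
  have hn : r = Module.finrank K (Submodule.span K (Set.range Ω.row)) := by rw [← h1, hrank]
  set f' : Fin r → (Fin r → K) := f ∘ Fin.cast hn with hf'
  have hli' : LinearIndependent K f' := hfli.comp _ (Fin.cast_injective hn)
  have hmem' : ∀ i : Fin r, ∃ B : b, Ω.row B = f' i := fun i => hfmem (Fin.cast hn i)
  choose sel hsel using hmem'
  refine ⟨sel, ?_, ?_⟩
  · intro i j hij
    apply hli'.injective
    rw [← hsel i, ← hsel j, hij]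
  · have hrow : (Matrix.of fun i j : Fin r => Ω (sel i) j).row = f' := by
      funext i
      rw [← hsel i]
      rfl
    have hunit : IsUnit (Matrix.of fun i j : Fin r => Ω (sel i) j) := by
      rw [← Matrix.linearIndependent_rows_iff_isUnit, hrow]
      exact hli'
    exact ((Matrix.isUnit_iff_isUnit_det _).mp hunit).ne_zero

universe u

variable {G : Type u} [Group G] [Fintype G] {p : ℕ} [Fact p.Prime] {M : Ideal AlgInt}

/-- **Robinson's matrix identity** over the residue field. -/
theorem robinson_matrix_eq [hmax : M.IsMaximal] (hM : IsPModular p M) (D : Subgroup G)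
    (S : Sylow p G) {ι : Type*} [Fintype ι] [DecidableEq ι] (x : ι → G)
    (hxS : ∀ i, HasSylow p D (x i)) [Fintype (GoodBlock p M D)] [DecidableEq (GoodBlock p M D)]
    (rep : GoodBlock p M D → IrrCharacter G) (hrep : ∀ B, rep B ∈ B.1) :
    (Matrix.of fun i j : ι => redFun M ((pairCount (S : Subgroup G) (x i) (x j) : ℂ) /
      (p : ℂ) ^ ((Nat.card G).factorization p - (Nat.card D).factorization p))) =
    (Matrix.of fun (B : GoodBlock p M D) (i : ι) =>
        redFun M (centralChar (rep B : G → ℂ) (x i)⁻¹))ᵀ *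
      Matrix.diagonal (fun B : GoodBlock p M D => redFun M (blockCoeff B.1 1 /
        (p : ℂ) ^ ((Nat.card G).factorization p - (Nat.card D).factorization p))) *
      (Matrix.of fun (B : GoodBlock p M D) (j : ι) =>
        redFun M (centralChar (rep B : G → ℂ) (x j))) := by
  have hMp := hmax.isPrime
  set k := (Nat.card G).factorization p - (Nat.card D).factorization p with hk
  ext i j
  rw [transpose_mul_diag_mul_apply]
  simp only [Matrix.of_apply]
  have h1 := main_congruence hM S D (hxS i) (hxS j) rep hrep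
  have hR : ∀ B ∈ (Finset.univ : Finset (GoodBlock p M D)),
      MemLocalRing M (blockCoeff B.1 1 / (p : ℂ) ^ k * centralChar (rep B : G → ℂ) (x j) *
        centralChar (rep B : G → ℂ) (x i)⁻¹) := fun B _ =>
    memLocalRing_mul hMp (memLocalRing_mul hMp (blockCoeff_one_div hM B.2.1 B.2.2).1
      (memLocalRing_centralChar hMp _ _)) (memLocalRing_centralChar hMp _ _)
  have h2 := redFun_eq_of_sub (memLocalRing_pairCount_div hM S D (hxS i) (hxS j))
    (memLocalRing_sum hMp _ _ hR) h1
  rw [h2, redFun_sum _ _ hR]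
  refine Finset.sum_congr rfl fun B _ => ?_
  rw [redFun_mul (memLocalRing_mul hMp (blockCoeff_one_div hM B.2.1 B.2.2).1
      (memLocalRing_centralChar hMp _ _)) (memLocalRing_centralChar hMp _ _),
    redFun_mul (blockCoeff_one_div hM B.2.1 B.2.2).1 (memLocalRing_centralChar hMp _ _)]
  ring

/-- The pair count for two classes such that no quotient of their elements is a nontrivial
`p`-element. -/
theorem pairCount_of_separated (S : Sylow p G) (x y : G)
    (hsep : ∀ u v : G, IsConj x u → IsConj y v → ∀ k : ℕ, 0 < k → orderOf (v * u⁻¹) ≠ p ^ k) :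
    (pairCount (S : Subgroup G) x y : ℂ) =
      haveI := Classical.propDecidable (IsConj x y)
      if IsConj x y then ((Subgroup.centralizer ({x} : Set G)).index : ℂ) else 0 := by
  classical
  have hp : p.Prime := Fact.out
  have hkey : ∀ u v : G, IsConj x u → IsConj y v → v * u⁻¹ ∈ (S : Subgroup G) → v = u := by
    intro u v hu hv hmem
    obtain ⟨m, hm⟩ := (IsPGroup.iff_orderOf.mp S.isPGroup') ⟨v * u⁻¹, hmem⟩
    have hm' : orderOf (v * u⁻¹) = p ^ m := by
      rw [← hm]
      exact (Subgroup.orderOf_mk _ hmem).symm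
    have hm0 : m = 0 := by
      by_contra h0
      exact hsep u v hu hv m (Nat.pos_of_ne_zero h0) hm'
    rw [hm0, pow_zero, orderOf_eq_one_iff] at hm'
    exact mul_inv_eq_one.mp hm'
  unfold pairCount
  rw [Nat.card_eq_fintype_card, Fintype.card_subtype]
  by_cases hxy : IsConj x y
  · rw [if_pos hxy, ← card_conjClass_filter x]
    congr 1
    refine Finset.card_bij' (fun uv _ => uv.1) (fun u _ => (u, u)) ?_ ?_ ?_ ?_
    · intro uv huv
      rw [Finset.mem_filter] at huv ⊢
      exact ⟨Finset.mem_univ _, huv.2.1⟩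
    · intro u hu
      rw [Finset.mem_filter] at hu ⊢
      refine ⟨Finset.mem_univ _, hu.2, hxy.symm.trans hu.2, ?_⟩
      simp
    · intro uv huv
      rw [Finset.mem_filter] at huv
      have := hkey uv.1 uv.2 huv.2.1 huv.2.2.1 huv.2.2.2
      exact Prod.ext rfl this.symm
    · intro u _
      rfl
  · rw [if_neg hxy]
    have : (Finset.univ.filter fun uv : G × G =>
        IsConj x uv.1 ∧ IsConj y uv.2 ∧ uv.2 * uv.1⁻¹ ∈ (S : Subgroup G)) = ∅ := by
      rw [Finset.filter_eq_empty_iff]
      intro uv _ huv
      have := hkey uv.1 uv.2 huv.1 huv.2.1 huv.2.2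
      apply hxy
      exact huv.1.trans (this ▸ huv.2.1.symm)
    rw [this]
    simp

end Cfsg.Agent.Lib.Helper79_RobinsonMatrix
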