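import Mathlib
import Cfsg.Agent.Lib.Helper33_U2Defs

set_option autoImplicit false

open Cfsg.Agent.Lib.Helper33_U2Defs

/-!
S2153-S2 (architect helper33, finding 179, STEP 2): covering count on `Fix(t)`.
-/

namespace Cfsg.Agent.Lib.Helper79_S2153_S2

section basic

variable {G : Type*} [Group G] {W : Type*} [AddCommGroup W] {D : QDat G W}

theorem z2 (x : ZMod 2) : x + x = 0 := by
  revert x; decide

theorem neg_eq (hD : D.Ok) (w : W) : -w = w :=
  neg_eq_of_add_eq_zero_left (hD.two w)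

theorem β_zero_left (hD : D.Ok) (u : W) : D.β 0 u = 0 := by
  have h := hD.β_add 0 0 u
  rw [add_zero, z2] at h
  exact h

theorem β_zero_right (hD : D.Ok) (u : W) : D.β u 0 = 0 := by
  rw [hD.β_symm]; exact β_zero_left hD u

theorem β_add_right (hD : D.Ok) (u w w' : W) : D.β u (w + w') = D.β u w + D.β u w' := by
  rw [hD.β_symm u, hD.β_add, hD.β_symm w, hD.β_symm w']

theorem β_eq (hD : D.Ok) (w w' : W) : D.β w w' = D.qf (w + w') + D.qf w + D.qf w' := by
  rw [hD.qf_add]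
  have h1 := z2 (D.qf w)
  have h2 := z2 (D.qf w')
  linear_combination -h1 - h2

theorem π_one (hD : D.Ok) : D.π 1 = 0 := by
  have h := hD.π_mul 1 (one_mem _) 1 (one_mem _)
  rw [one_mul] at h
  exact add_eq_left.mp h.symm

theorem π_inv (hD : D.Ok) (g : G) (hg : g ∈ D.Q) : D.π g⁻¹ = D.π g := by
  have h := hD.π_mul g hg g⁻¹ (inv_mem hg)
  rw [mul_inv_cancel, π_one hD] at h
  have h2 := hD.two (D.π g)
  exact (add_left_cancel (h2.trans h)).symm

theorem t_comm (hD : D.Ok) (g : G) (hg : g ∈ D.Q) : g * D.t = D.t * g := by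
  have h := hD.comm g hg D.t hD.t_mem
  rw [hD.π_t, β_zero_right hD, ZMod.val_zero, pow_zero, one_mul] at h
  exact h

theorem t_pow_inj (hD : D.Ok) (a b : ZMod 2) (h : D.t ^ a.val = D.t ^ b.val) : a = b := by
  have ha := ZMod.val_lt a
  have hb := ZMod.val_lt b
  apply ZMod.val_injective
  have ht := hD.t_ne
  generalize a.val = x at *
  generalize b.val = y at *
  interval_cases x <;> interval_cases y
  · rfl
  · rw [pow_zero, pow_one] at h; exact absurd h.symm ht
  · rw [pow_zero, pow_one] at h; exact absurd h ht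
  · rfl

theorem ρ_add (hD : D.Ok) (k : G) (hk : k ∈ D.K) (w w' : W) :
    D.ρ k (w + w') = D.ρ k w + D.ρ k w' := by
  obtain ⟨g, hg, rfl⟩ := hD.π_surj w
  obtain ⟨g', hg', rfl⟩ := hD.π_surj w'
  rw [← hD.π_mul g hg g' hg', ← hD.K_conj_π k hk _ (mul_mem hg hg'), ← hD.K_conj_π k hk g hg,
    ← hD.K_conj_π k hk g' hg',
    ← hD.π_mul _ (hD.K_conj_mem k hk g hg) _ (hD.K_conj_mem k hk g' hg')]
  congr 1; group

theorem ρ_mul (hD : D.Ok) (k k' : G) (hk : k ∈ D.K) (hk' : k' ∈ D.K) (w : W) :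
    D.ρ (k * k') w = D.ρ k (D.ρ k' w) := by
  obtain ⟨g, hg, rfl⟩ := hD.π_surj w
  rw [← hD.K_conj_π (k * k') (mul_mem hk hk') g hg, ← hD.K_conj_π k' hk' g hg,
    ← hD.K_conj_π k hk _ (hD.K_conj_mem k' hk' g hg)]
  congr 1; group

theorem ρ_one (hD : D.Ok) (w : W) : D.ρ 1 w = w := by
  obtain ⟨g, hg, rfl⟩ := hD.π_surj w
  rw [← hD.K_conj_π 1 (one_mem _) g hg]; simp

theorem ρ_inv_ρ (hD : D.Ok) (k : G) (hk : k ∈ D.K) (w : W) : D.ρ k⁻¹ (D.ρ k w) = w := by
  rw [← ρ_mul hD _ _ (inv_mem hk) hk, inv_mul_cancel, ρ_one hD]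

theorem ρ_ρ_inv (hD : D.Ok) (k : G) (hk : k ∈ D.K) (w : W) : D.ρ k (D.ρ k⁻¹ w) = w := by
  rw [← ρ_mul hD _ _ hk (inv_mem hk), mul_inv_cancel, ρ_one hD]

theorem ρ_inj (hD : D.Ok) (k : G) (hk : k ∈ D.K) : Function.Injective (D.ρ k) :=
  Function.LeftInverse.injective (ρ_inv_ρ hD k hk)

theorem ρ_zero (hD : D.Ok) (k : G) (hk : k ∈ D.K) : D.ρ k 0 = 0 := by
  have h := ρ_add hD k hk 0 0
  rw [add_zero] at h
  exact add_eq_left.mp h.symm

theorem ρ_ne_zero (hD : D.Ok) (k : G) (hk : k ∈ D.K) (w : W) : D.ρ k w ≠ 0 ↔ w ≠ 0 := by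
  constructor
  · intro h h0; exact h (by rw [h0, ρ_zero hD k hk])
  · intro h h0; exact h (ρ_inj hD k hk (by rw [h0, ρ_zero hD k hk]))

theorem ρ_qf (hD : D.Ok) (k : G) (hk : k ∈ D.K) (w : W) : D.qf (D.ρ k w) = D.qf w := by
  obtain ⟨g, hg, rfl⟩ := hD.π_surj w
  apply t_pow_inj hD
  have h1 : (k * g * k⁻¹) * (k * g * k⁻¹) = D.t ^ (D.qf (D.ρ k (D.π g))).val := by
    rw [hD.sq _ (hD.K_conj_mem k hk g hg), hD.K_conj_π k hk g hg]
  have h2 : (k * g * k⁻¹) * (k * g * k⁻¹) = k * (g * g) * k⁻¹ := by group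
  rw [hD.sq g hg] at h2
  have hc : Commute k (D.t ^ (D.qf (D.π g)).val) := Commute.pow_right (hD.K_t k hk) _
  rw [hc.eq, mul_inv_cancel_right] at h2
  rw [← h1, h2]

theorem ρ_β (hD : D.Ok) (k : G) (hk : k ∈ D.K) (w w' : W) :
    D.β (D.ρ k w) (D.ρ k w') = D.β w w' := by
  rw [β_eq hD, β_eq hD w w', ← ρ_add hD k hk, ρ_qf hD k hk, ρ_qf hD k hk, ρ_qf hD k hk]

end basic

section stab

variable {G : Type*} [Group G] {W : Type*} [AddCommGroup W] {D : QDat G W}
  {Ω : Type*} [MulAction G Ω]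

/-- Image in `W` of the stabiliser of `ω` in `Q`. -/
def Jsub (hD : D.Ok) (ω : Ω) : AddSubgroup W where
  carrier := {w | ∃ g ∈ D.Q, g • ω = ω ∧ D.π g = w}
  zero_mem' := ⟨1, one_mem _, one_smul _ _, π_one hD⟩
  add_mem' := by
    rintro _ _ ⟨g, hg, hgω, rfl⟩ ⟨g', hg', hg'ω, rfl⟩
    exact ⟨g * g', mul_mem hg hg', by rw [mul_smul, hg'ω, hgω], hD.π_mul g hg g' hg'⟩
  neg_mem' := by
    rintro _ ⟨g, hg, hgω, rfl⟩
    rw [neg_eq hD]; exact ⟨g, hg, hgω, rfl⟩

theorem mem_Jsub (hD : D.Ok) (ω : Ω) (w : W) :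
    w ∈ Jsub hD ω ↔ ∃ g ∈ D.Q, g • ω = ω ∧ D.π g = w := Iff.rfl

theorem mem_Jsub_iff (hD : D.Ok) {ω : Ω} (hω : D.t • ω = ω) (g : G) (hg : g ∈ D.Q) :
    D.π g ∈ Jsub hD ω ↔ g • ω = ω := by
  constructor
  · rintro ⟨h, hh, hhω, hπ⟩
    have h0 : D.π (g * h⁻¹) = 0 := by
      rw [hD.π_mul g hg _ (inv_mem hh), π_inv hD h hh, hπ, hD.two]
    rcases hD.π_ker _ (mul_mem hg (inv_mem hh)) h0 with h1 | h1
    · have : g = h := by rwa [mul_inv_eq_one] at h1
      rw [this]; exact hhω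
    · have : g = D.t * h := by rw [← h1]; group
      rw [this, mul_smul, hhω, hω]
  · intro h; exact ⟨g, hg, h, rfl⟩

theorem Jsub_smul_Q (hD : D.Ok) (ω : Ω) (g : G) (hg : g ∈ D.Q) :
    Jsub hD (g • ω) = Jsub hD ω := by
  ext w
  constructor
  · rintro ⟨h, hh, hhω, rfl⟩
    refine ⟨g⁻¹ * h * g, mul_mem (mul_mem (inv_mem hg) hh) hg, ?_, ?_⟩
    · rw [mul_smul, mul_smul, hhω, inv_smul_smul]
    · rw [hD.π_mul _ (mul_mem (inv_mem hg) hh) g hg, hD.π_mul _ (inv_mem hg) h hh, π_inv hD g hg,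
        add_right_comm, hD.two, zero_add]
  · rintro ⟨h, hh, hhω, rfl⟩
    refine ⟨g * h * g⁻¹, mul_mem (mul_mem hg hh) (inv_mem hg), ?_, ?_⟩
    · rw [mul_smul, mul_smul, inv_smul_smul, hhω]
    · rw [hD.π_mul _ (mul_mem hg hh) _ (inv_mem hg), hD.π_mul _ hg h hh, π_inv hD g hg,
        add_right_comm, hD.two, zero_add]

theorem t_smul_Q (hD : D.Ok) {ω : Ω} (hω : D.t • ω = ω) (g : G) (hg : g ∈ D.Q) :
    D.t • (g • ω) = g • ω := by
  rw [← mul_smul, ← t_comm hD g hg, mul_smul, hω]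

theorem t_smul_K (hD : D.Ok) {ω : Ω} (hω : D.t • ω = ω) (k : G) (hk : k ∈ D.K) :
    D.t • (k • ω) = k • ω := by
  rw [← mul_smul, ← hD.K_t k hk, mul_smul, hω]

theorem mem_Jsub_smul_K (hD : D.Ok) (ω : Ω) (k : G) (hk : k ∈ D.K) (w : W) :
    w ∈ Jsub hD (k • ω) ↔ ∃ j ∈ Jsub hD ω, D.ρ k j = w := by
  constructor
  · rintro ⟨h, hh, hhω, rfl⟩
    have hmem : k⁻¹ * h * k ∈ D.Q := by
      have := hD.K_conj_mem k⁻¹ (inv_mem hk) h hh
      rwa [inv_inv] at this
    refine ⟨D.π (k⁻¹ * h * k), ⟨k⁻¹ * h * k, hmem, ?_, rfl⟩, ?_⟩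
    · rw [mul_smul, mul_smul, hhω, inv_smul_smul]
    · rw [← hD.K_conj_π k hk _ hmem]
      congr 1; group
  · rintro ⟨_, ⟨g, hg, hgω, rfl⟩, rfl⟩
    refine ⟨k * g * k⁻¹, hD.K_conj_mem k hk g hg, ?_, hD.K_conj_π k hk g hg⟩
    rw [mul_smul, mul_smul, inv_smul_smul, hgω]

/-- Orthogonal complement with respect to `β`. -/
def perp (hD : D.Ok) (S : AddSubgroup W) : AddSubgroup W where
  carrier := {a | ∀ j ∈ S, D.β a j = 0}
  zero_mem' := fun j _ => β_zero_left hD j
  add_mem' := by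
    intro a b ha hb j hj
    rw [hD.β_add, ha j hj, hb j hj, add_zero]
  neg_mem' := by
    intro a ha
    rw [neg_eq hD]; exact ha

theorem mem_perp (hD : D.Ok) (S : AddSubgroup W) (a : W) :
    a ∈ perp hD S ↔ ∀ j ∈ S, D.β a j = 0 := Iff.rfl

theorem mem_perp_smul_K (hD : D.Ok) (ω : Ω) (k : G) (hk : k ∈ D.K) (w : W) :
    w ∈ perp hD (Jsub hD (k • ω)) ↔ ∃ a ∈ perp hD (Jsub hD ω), D.ρ k a = w := by
  constructor
  · intro hw
    refine ⟨D.ρ k⁻¹ w, ?_, ρ_ρ_inv hD k hk w⟩
    intro j hj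
    rw [← ρ_β hD k hk, ρ_ρ_inv hD k hk]
    exact hw _ ((mem_Jsub_smul_K hD ω k hk _).2 ⟨j, hj, rfl⟩)
  · rintro ⟨a, ha, rfl⟩ j' hj'
    obtain ⟨j, hj, rfl⟩ := (mem_Jsub_smul_K hD ω k hk _).1 hj'
    rw [ρ_β hD k hk]
    exact ha j hj

end stab

section count

/-- The sign character of `ZMod 2`. -/
def sgn (x : ZMod 2) : ℤ := if x = 0 then 1 else -1

theorem sgn_add (x y : ZMod 2) : sgn (x + y) = sgn x * sgn y := by
  revert x y; decide

theorem sgn_zero : sgn 0 = 1 := rfl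

theorem sgn_of_ne (x : ZMod 2) (h : x ≠ 0) : sgn x = -1 := by
  unfold sgn; rw [if_neg h]

theorem char_sum_zero {H : Type*} [AddGroup H] [Fintype H] (χ : H → ZMod 2)
    (hχ : ∀ x y, χ (x + y) = χ x + χ y) (x₀ : H) (hx₀ : χ x₀ ≠ 0) :
    ∑ x : H, sgn (χ x) = 0 := by
  have h1 : ∑ x : H, sgn (χ (x + x₀)) = ∑ x : H, sgn (χ x) :=
    Equiv.sum_comp (Equiv.addRight x₀) (fun x => sgn (χ x))
  have h2 : sgn (χ x₀) = -1 := sgn_of_ne _ hx₀
  have h3 : ∑ x : H, sgn (χ (x + x₀)) = - ∑ x : H, sgn (χ x) := by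
    rw [← Finset.sum_neg_distrib]
    apply Finset.sum_congr rfl
    intro x _
    rw [hχ, sgn_add, h2]; ring
  linarith

variable {G : Type*} [Group G] {W : Type*} [AddCommGroup W] {D : QDat G W}

theorem perp_card (hD : D.Ok) [Finite W] (S : AddSubgroup W) :
    Nat.card (perp hD S) * Nat.card S = Nat.card W := by
  classical
  let _ : Fintype W := Fintype.ofFinite W
  let _ : Fintype S := Fintype.ofFinite S
  have hT1 : ∑ w : W, ∑ j : S, sgn (D.β (j : W) w) = (Nat.card W : ℤ) := by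
    rw [Finset.sum_comm]
    have : ∀ j : S, ∑ w : W, sgn (D.β (j : W) w) = if j = 0 then (Nat.card W : ℤ) else 0 := by
      intro j
      split_ifs with hj
      · rw [hj]
        simp only [ZeroMemClass.coe_zero, β_zero_left hD, sgn_zero, Finset.sum_const,
          Finset.card_univ, nsmul_eq_mul, mul_one, Nat.card_eq_fintype_card]
      · have hj' : (j : W) ≠ 0 := fun h => hj (Subtype.ext h)
        have : ¬ ∀ u, D.β (j : W) u = 0 := fun h => hj' (hD.β_nondeg _ h)
        push Not at this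
        obtain ⟨u, hu⟩ := this
        exact char_sum_zero (fun w => D.β (j : W) w) (fun x y => β_add_right hD _ x y) u hu
    rw [Finset.sum_congr rfl (fun j _ => this j)]
    simp
  have hT2 : ∑ w : W, ∑ j : S, sgn (D.β (j : W) w)
      = ∑ w : W, if w ∈ perp hD S then (Nat.card S : ℤ) else 0 := by
    apply Finset.sum_congr rfl
    intro w _
    split_ifs with hw
    · have : ∀ j : S, sgn (D.β (j : W) w) = 1 := by
        intro j
        rw [hD.β_symm, hw j j.2, sgn_zero]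
      rw [Finset.sum_congr rfl (fun j _ => this j)]
      simp [Nat.card_eq_fintype_card]
    · have : ¬ ∀ j ∈ S, D.β w j = 0 := hw
      push Not at this
      obtain ⟨j₀, hj₀, hne⟩ := this
      refine char_sum_zero (fun j : S => D.β (j : W) w) (fun x y => ?_) ⟨j₀, hj₀⟩ ?_
      · simp only [AddSubgroup.coe_add]; exact hD.β_add _ _ _
      · simpa [hD.β_symm j₀ w] using hne
  have hT3 : (∑ w : W, if w ∈ perp hD S then (Nat.card S : ℤ) else 0)
      = (Nat.card (perp hD S) : ℤ) * Nat.card S := by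
    rw [← Finset.sum_filter, Finset.sum_const, nsmul_eq_mul]
    congr 2
    exact (Nat.subtype_card (Finset.univ.filter (· ∈ perp hD S)) (by simp)).symm
  have : (Nat.card (perp hD S) : ℤ) * Nat.card S = Nat.card W := by
    rw [← hT3, ← hT2, hT1]
  exact_mod_cast this

variable {Ω : Type*} [MulAction G Ω]

theorem fiber_card (hD : D.Ok) [Finite W] [Finite Ω] (ω : Ω) (hω : D.t • ω = ω) :
    Nat.card W ≤
      Nat.card {ω' : Ω // D.t • ω' = ω' ∧ Jsub hD ω' = Jsub hD ω} * Nat.card (Jsub hD ω) := by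
  classical
  let _ : Fintype W := Fintype.ofFinite W
  let _ : Fintype Ω := Fintype.ofFinite Ω
  choose gf hgQ hgπ using hD.π_surj
  set φ : W → Ω := fun w => gf w • ω with hφ
  have hfib : ∀ b ∈ (Finset.univ : Finset W).image φ,
      ((Finset.univ : Finset W).filter (fun w => φ w = b)).card ≤ Nat.card (Jsub hD ω) := by
    intro b hb
    obtain ⟨w₀, -, rfl⟩ := Finset.mem_image.1 hb
    have hsub : (Finset.univ : Finset W).filter (fun w => φ w = φ w₀)
        ⊆ ((Finset.univ : Finset W).filter (· ∈ Jsub hD ω)).image (fun j => w₀ + j) := by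
      intro w hw
      rw [Finset.mem_filter] at hw
      have h1 : ((gf w₀)⁻¹ * gf w) • ω = ω := by
        rw [mul_smul]
        have : gf w • ω = gf w₀ • ω := hw.2
        rw [this, inv_smul_smul]
      have h2 : D.π ((gf w₀)⁻¹ * gf w) = w₀ + w := by
        rw [hD.π_mul _ (inv_mem (hgQ w₀)) _ (hgQ w), π_inv hD _ (hgQ w₀), hgπ, hgπ]
      rw [Finset.mem_image]
      refine ⟨w₀ + w, ?_, ?_⟩
      · rw [Finset.mem_filter]
        refine ⟨Finset.mem_univ _, ?_⟩
        rw [← h2]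
        exact ⟨_, mul_mem (inv_mem (hgQ w₀)) (hgQ w), h1, rfl⟩
      · rw [← add_assoc, hD.two, zero_add]
    calc _ ≤ (((Finset.univ : Finset W).filter (· ∈ Jsub hD ω)).image (fun j => w₀ + j)).card :=
          Finset.card_le_card hsub
      _ ≤ ((Finset.univ : Finset W).filter (· ∈ Jsub hD ω)).card := Finset.card_image_le
      _ = Nat.card (Jsub hD ω) :=
          (Nat.subtype_card (Finset.univ.filter (· ∈ Jsub hD ω)) (by simp)).symm
  have h1 := Finset.card_le_mul_card_image (Finset.univ : Finset W) _ hfib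
  have h2 : ((Finset.univ : Finset W).image φ).card
      ≤ Nat.card {ω' : Ω // D.t • ω' = ω' ∧ Jsub hD ω' = Jsub hD ω} := by
    rw [Nat.subtype_card (Finset.univ.filter
      (fun ω' : Ω => D.t • ω' = ω' ∧ Jsub hD ω' = Jsub hD ω)) (by simp)]
    apply Finset.card_le_card
    intro b hb
    obtain ⟨w, -, rfl⟩ := Finset.mem_image.1 hb
    rw [Finset.mem_filter]
    exact ⟨Finset.mem_univ _, t_smul_Q hD hω _ (hgQ w), Jsub_smul_Q hD ω _ (hgQ w)⟩
  rw [Finset.card_univ, ← Nat.card_eq_fintype_card] at h1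
  calc Nat.card W ≤ Nat.card (Jsub hD ω) * ((Finset.univ : Finset W).image φ).card := h1
    _ ≤ Nat.card (Jsub hD ω) * Nat.card {ω' : Ω // D.t • ω' = ω' ∧ Jsub hD ω' = Jsub hD ω} :=
        Nat.mul_le_mul_left _ h2
    _ = _ := Nat.mul_comm _ _

theorem orbit_ge (hD : D.Ok) [Finite W] [Finite Ω] (ω : Ω) (hω : D.t • ω = ω) :
    Nat.card (perp hD (Jsub hD ω)) ≤
      Nat.card {ω' : Ω // D.t • ω' = ω' ∧ Jsub hD ω' = Jsub hD ω} := by
  have h1 := fiber_card hD ω hω
  have h2 := perp_card hD (Jsub hD ω)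
  rw [← h2] at h1
  have hpos : 0 < Nat.card (Jsub hD ω) := Nat.card_pos
  exact Nat.le_of_mul_le_mul_right h1 hpos

end count

section main

variable {G : Type*} [Group G] {W : Type*} [AddCommGroup W] {D : QDat G W}

theorem qf_zero (hD : D.Ok) : D.qf 0 = 0 := by
  have h := hD.qf_add 0 0
  rw [add_zero, β_zero_left hD, add_zero, z2] at h
  exact h

theorem zmod2_ne_zero (x : ZMod 2) : ¬ x = 0 ↔ x = 1 := by
  revert x; decide

theorem split_card [DecidableEq W] (T : Finset W) (q : W → ZMod 2) (h0 : (0 : W) ∈ T) :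
    (T.filter (fun w => w ≠ 0 ∧ q w = 0)).card + (T.filter (fun w => w ≠ 0 ∧ q w = 1)).card + 1
      = T.card := by
  have h1 : (T.filter (fun w => w ≠ 0)).card + 1 = T.card := by
    rw [Finset.filter_ne' T 0, Finset.card_erase_of_mem h0]
    have := Finset.card_pos.2 ⟨0, h0⟩
    omega
  have h2 := Finset.card_filter_add_card_filter_not (s := T.filter (fun w => w ≠ 0))
    (fun w => q w = 0)
  rw [Finset.filter_filter, Finset.filter_filter] at h2
  have h3 : T.filter (fun w => w ≠ 0 ∧ ¬ q w = 0) = T.filter (fun w => w ≠ 0 ∧ q w = 1) := by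
    apply Finset.filter_congr
    intro w _
    rw [zmod2_ne_zero]
  rw [h3] at h2
  omega

/-- If all nonzero elements of the additive subgroup `A` are nonsingular then `|A| ≤ 4`. -/
theorem card_le_four_of_nonsing (hD : D.Ok) [DecidableEq W] (A : AddSubgroup W) (T : Finset W)
    (hT : ∀ w, w ∈ T ↔ w ∈ A) (h : ∀ a ∈ A, a ≠ 0 → D.qf a = 1) : T.card ≤ 4 := by
  by_contra hc
  push Not at hc
  obtain ⟨a, haT, ha⟩ := Finset.exists_mem_notMem_of_card_lt_card (s := {0}) (t := T)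
    (by rw [Finset.card_singleton]; omega)
  obtain ⟨b, hbT, hb⟩ := Finset.exists_mem_notMem_of_card_lt_card (s := {0, a}) (t := T)
    (lt_of_le_of_lt Finset.card_le_two (by omega))
  obtain ⟨c, hcT, hc'⟩ := Finset.exists_mem_notMem_of_card_lt_card (s := {0, a, b, a + b}) (t := T)
    (lt_of_le_of_lt Finset.card_le_four hc)
  simp only [Finset.mem_insert, Finset.mem_singleton, not_or] at ha hb hc'
  have haA := (hT a).1 haT
  have hbA := (hT b).1 hbT
  have hcA := (hT c).1 hcT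
  obtain ⟨hb0, hba⟩ := hb
  obtain ⟨hc0, hca, hcb, hcab⟩ := hc'
  have qa := h a haA ha
  have qb := h b hbA hb0
  have qc := h c hcA hc0
  have hab0 : a + b ≠ 0 := by
    intro h0
    apply hba
    have := neg_eq_of_add_eq_zero_left h0
    rw [neg_eq hD] at this
    exact this
  have hac0 : a + c ≠ 0 := by
    intro h0
    apply hca
    have := neg_eq_of_add_eq_zero_left h0
    rw [neg_eq hD] at this
    exact this
  have hbc0 : b + c ≠ 0 := by
    intro h0
    apply hcb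
    have := neg_eq_of_add_eq_zero_left h0
    rw [neg_eq hD] at this
    exact this
  have habc0 : a + b + c ≠ 0 := by
    intro h0
    apply hcab
    have := neg_eq_of_add_eq_zero_left h0
    rw [neg_eq hD] at this
    exact this
  have qab := h _ (A.add_mem haA hbA) hab0
  have qac := h _ (A.add_mem haA hcA) hac0
  have qbc := h _ (A.add_mem hbA hcA) hbc0
  have qabc := h _ (A.add_mem (A.add_mem haA hbA) hcA) habc0
  have bac : D.β a c = 1 := by rw [β_eq hD, qac, qa, qc]; decide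
  have bbc : D.β b c = 1 := by rw [β_eq hD, qbc, qb, qc]; decide
  rw [hD.qf_add, qab, qc, hD.β_add, bac, bbc] at qabc
  revert qabc; decide

/-- The action of `K` on finite subsets of `W` through `ρ`. -/
@[reducible] def actK (hD : D.Ok) [DecidableEq W] : MulAction D.K (Finset W) where
  smul k B := B.image (D.ρ k)
  one_smul B := by
    change B.image (D.ρ ((1 : D.K) : G)) = B
    have : D.ρ ((1 : D.K) : G) = id := by
      funext w; rw [Subgroup.coe_one]; exact ρ_one hD w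
    rw [this, Finset.image_id]
  mul_smul k k' B := by
    change B.image (D.ρ ((k * k' : D.K) : G)) = (B.image (D.ρ k')).image (D.ρ k)
    rw [Finset.image_image]
    congr 1
    funext w
    rw [Subgroup.coe_mul]
    exact ρ_mul hD k k' k.2 k'.2 w

variable {Ω : Type*} [MulAction G Ω]

theorem S2 [Finite W] [Finite Ω]
    (D : QDat G W) (hD : D.Ok) (d m : ℕ) (hd : 1 ≤ d) (hW : Nat.card W = 4 ^ d)
    (horb : ∀ w w' : W, w ≠ 0 → w' ≠ 0 → D.qf w = D.qf w' → ∃ k ∈ D.K, D.ρ k w = w')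
    (hirr : ∀ I : AddSubgroup W, (∀ k ∈ D.K, ∀ w ∈ I, D.ρ k w ∈ I) → I = ⊥ ∨ I = ⊤)
    (hmu : ∀ L : Subgroup G, L ≤ D.K → L ≠ D.K → m ≤ L.relIndex D.K)
    (hsing : Nat.card {w : W // w ≠ 0 ∧ D.qf w = 0} = (2 ^ d - 1) * (2 ^ (d - 1) + 1))
    (hm2 : 2 ^ (d - 1) * (2 ^ d - 1) ≤ 6 * m)
    (hf : 3 * Nat.card {ω : Ω // D.t • ω = ω} < 2 ^ (d + 1) * (2 ^ d - 1)) :
    ∀ ω : Ω, D.t • ω = ω → ∀ g ∈ D.Q, g • ω = ω := by
  classical
  by_contra hcon
  push Not at hcon
  obtain ⟨ω₀, hω₀, g₀, hg₀, hgω₀⟩ := hcon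
  let _ : Fintype W := Fintype.ofFinite W
  let _ : Fintype Ω := Fintype.ofFinite Ω
  set J := Jsub hD ω₀ with hJ
  set A := perp hD J with hA
  have hAJ : Nat.card A * Nat.card J = Nat.card W := perp_card hD J
  have hJne : J ≠ ⊤ := by
    intro h
    have : D.π g₀ ∈ J := by rw [h]; trivial
    exact hgω₀ ((mem_Jsub_iff hD hω₀ g₀ hg₀).1 this)
  set Afin : Finset W := Finset.univ.filter (· ∈ A) with hAfin
  have hmemA : ∀ w, w ∈ Afin ↔ w ∈ A := by intro w; simp [hAfin]
  have hAcard : Nat.card A = Afin.card := Nat.subtype_card Afin hmemA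
  have ha2 : 2 ≤ Afin.card := by
    rw [← hAcard]
    by_contra h
    have h1 : Nat.card A = 1 := by
      have : 0 < Nat.card A := Nat.card_pos
      omega
    rw [h1, one_mul] at hAJ
    exact hJne ((AddSubgroup.card_eq_iff_eq_top J).1 hAJ)
  set Nfam : Finset (Finset W) :=
    Finset.univ.filter (fun B => ∃ k ∈ D.K, B = Afin.image (D.ρ k)) with hNfam
  set Ffin : Finset Ω := Finset.univ.filter (fun ω => D.t • ω = ω) with hFfin
  have hFcard : Nat.card {ω : Ω // D.t • ω = ω} = Ffin.card :=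
    Nat.subtype_card Ffin (by simp [hFfin])
  set Φ : Ω → Finset W := fun ω => Finset.univ.filter (· ∈ perp hD (Jsub hD ω)) with hΦ
  -- (i) `N |A| ≤ f`
  have hfN : Nfam.card * Afin.card ≤ Ffin.card := by
    have h1 : ∀ B ∈ Nfam, Afin.card ≤ (Ffin.filter (fun ω => Φ ω = B)).card := by
      intro B hB
      rw [hNfam, Finset.mem_filter] at hB
      obtain ⟨-, k, hk, rfl⟩ := hB
      have hω₁ := t_smul_K hD hω₀ k hk
      have hΦ₁ : Φ (k • ω₀) = Afin.image (D.ρ k) := by
        ext w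
        simp only [hΦ, hAfin, Finset.mem_filter, Finset.mem_univ, true_and, Finset.mem_image]
        exact mem_perp_smul_K hD ω₀ k hk w
      have h2 := orbit_ge hD (k • ω₀) hω₁
      rw [Nat.subtype_card (Φ (k • ω₀)) (by simp [hΦ]), hΦ₁,
        Finset.card_image_of_injective _ (ρ_inj hD k hk)] at h2
      refine h2.trans ?_
      rw [Nat.subtype_card (Ffin.filter (fun ω' => Jsub hD ω' = Jsub hD (k • ω₀)))
        (by simp [hFfin])]
      apply Finset.card_le_card
      intro ω' hω'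
      rw [Finset.mem_filter] at hω' ⊢
      refine ⟨hω'.1, ?_⟩
      rw [← hΦ₁]
      simp only [hΦ]
      rw [hω'.2]
    calc Nfam.card * Afin.card = ∑ _B ∈ Nfam, Afin.card := by
          rw [Finset.sum_const, smul_eq_mul]
      _ ≤ ∑ B ∈ Nfam, (Ffin.filter (fun ω => Φ ω = B)).card := Finset.sum_le_sum h1
      _ = (Ffin.filter (fun ω => Φ ω ∈ Nfam)).card :=
          Finset.sum_card_fiberwise_eq_card_filter _ _ _
      _ ≤ Ffin.card := Finset.card_filter_le _ _
  -- (ii) covering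
  have hcover : ∀ i : ZMod 2, (∃ a ∈ A, a ≠ 0 ∧ D.qf a = i) →
      (Finset.univ.filter (fun w : W => w ≠ 0 ∧ D.qf w = i)).card
        ≤ Nfam.card * (Afin.filter (fun w => w ≠ 0 ∧ D.qf w = i)).card := by
    rintro i ⟨a, haA, ha0, hai⟩
    have hsub : Finset.univ.filter (fun w : W => w ≠ 0 ∧ D.qf w = i)
        ⊆ Nfam.biUnion (fun B => B.filter (fun w => w ≠ 0 ∧ D.qf w = i)) := by
      intro w hw
      rw [Finset.mem_filter] at hw
      obtain ⟨k, hk, rfl⟩ := horb a w ha0 hw.2.1 (hai.trans hw.2.2.symm)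
      rw [Finset.mem_biUnion]
      refine ⟨Afin.image (D.ρ k), ?_, ?_⟩
      · rw [hNfam, Finset.mem_filter]; exact ⟨Finset.mem_univ _, k, hk, rfl⟩
      · rw [Finset.mem_filter]
        exact ⟨Finset.mem_image_of_mem _ ((hmemA a).2 haA), hw.2⟩
    refine (Finset.card_le_card hsub).trans (Finset.card_biUnion_le.trans ?_)
    rw [← smul_eq_mul, ← Finset.sum_const]
    apply Finset.sum_le_sum
    intro B hB
    rw [hNfam, Finset.mem_filter] at hB
    obtain ⟨-, k, hk, rfl⟩ := hB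
    have : (Afin.image (D.ρ k)).filter (fun w => w ≠ 0 ∧ D.qf w = i)
        = (Afin.filter (fun w => w ≠ 0 ∧ D.qf w = i)).image (D.ρ k) := by
      ext w
      simp only [Finset.mem_filter, Finset.mem_image]
      constructor
      · rintro ⟨⟨a', ha', rfl⟩, h0, hq⟩
        exact ⟨a', ⟨ha', (ρ_ne_zero hD k hk a').1 h0, by rw [← ρ_qf hD k hk]; exact hq⟩, rfl⟩
      · rintro ⟨a', ⟨ha', h0, hq⟩, rfl⟩
        exact ⟨⟨a', ha', rfl⟩, (ρ_ne_zero hD k hk a').2 h0, by rw [ρ_qf hD k hk]; exact hq⟩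
    rw [this, Finset.card_image_of_injective _ (ρ_inj hD k hk)]
  -- numbers
  have hS := split_card (Finset.univ : Finset W) D.qf (Finset.mem_univ _)
  have hs := split_card Afin D.qf ((hmemA 0).2 A.zero_mem)
  have hS0 : (Finset.univ.filter (fun w : W => w ≠ 0 ∧ D.qf w = 0)).card
      = (2 ^ d - 1) * (2 ^ (d - 1) + 1) := by
    rw [← hsing]
    exact (Nat.subtype_card _ (by simp)).symm
  rw [Finset.card_univ, ← Nat.card_eq_fintype_card, hW] at hS
  rw [hFcard] at hf
  have hN1 : 1 ≤ Nfam.card := by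
    apply Finset.card_pos.2
    refine ⟨Afin.image (D.ρ 1), ?_⟩
    rw [hNfam, Finset.mem_filter]
    exact ⟨Finset.mem_univ _, 1, one_mem _, rfl⟩
  -- arithmetic setup
  obtain ⟨e, rfl⟩ : ∃ e, d = e + 1 := ⟨d - 1, by omega⟩
  rw [Nat.add_sub_cancel] at hS0 hm2
  set X := 2 ^ e with hX
  have hX1 : 1 ≤ X := Nat.one_le_two_pow
  have h2d : 2 ^ (e + 1) = 2 * X := by rw [pow_succ]; ring
  have h2d1 : 2 ^ (e + 1 + 1) = 4 * X := by rw [pow_succ, pow_succ]; ring
  have h4d : 4 ^ (e + 1) = 4 * X * X := by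
    rw [show (4 : ℕ) = 2 ^ 2 by norm_num, ← pow_mul, mul_comm 2, pow_mul, h2d]; ring
  obtain ⟨Y, hY⟩ : ∃ Y, 2 * X = Y + 1 := ⟨2 * X - 1, by omega⟩
  have hYs : 2 ^ (e + 1) - 1 = Y := by rw [h2d, hY]; rfl
  rw [h2d1, hYs] at hf
  rw [hYs] at hm2 hS0
  rw [h4d] at hS
  set S0 := (Finset.univ.filter (fun w : W => w ≠ 0 ∧ D.qf w = 0)).card with hS0def
  set S1 := (Finset.univ.filter (fun w : W => w ≠ 0 ∧ D.qf w = 1)).card with hS1def
  set s0 := (Afin.filter (fun w => w ≠ 0 ∧ D.qf w = 0)).card with hs0def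
  set s1 := (Afin.filter (fun w => w ≠ 0 ∧ D.qf w = 1)).card with hs1def
  have hS1 : S1 = X * Y := by
    have key : Y * (X + 1) + X * Y + 1 = 4 * X * X := by
      zify at hY ⊢
      linear_combination (-(2 * (X : ℤ)) - 1) * hY
    rw [hS0] at hS
    omega
  have hXY : X * Y ≤ 2 * X * X := by
    have : Y ≤ 2 * X := by omega
    calc X * Y ≤ X * (2 * X) := Nat.mul_le_mul_left _ this
      _ = 2 * X * X := by ring
  have hs1z : (¬ ∃ a ∈ A, a ≠ 0 ∧ D.qf a = 1) → s1 = 0 := by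
    intro h
    rw [hs1def, Finset.card_eq_zero, Finset.filter_eq_empty_iff]
    intro w hw hc
    exact h ⟨w, (hmemA w).1 hw, hc.1, hc.2⟩
  have hs0z : (¬ ∃ a ∈ A, a ≠ 0 ∧ D.qf a = 0) → s0 = 0 := by
    intro h
    rw [hs0def, Finset.card_eq_zero, Finset.filter_eq_empty_iff]
    intro w hw hc
    exact h ⟨w, (hmemA w).1 hw, hc.1, hc.2⟩
  by_cases h0 : ∃ a ∈ A, a ≠ 0 ∧ D.qf a = 0
  · by_cases h1 : ∃ a ∈ A, a ≠ 0 ∧ D.qf a = 1
    · -- case (a): both kinds
      have c0 : S0 ≤ Nfam.card * s0 := hcover 0 h0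
      have c1 : S1 ≤ Nfam.card * s1 := hcover 1 h1
      have h4 : 4 * X * X ≤ Ffin.card := by
        calc 4 * X * X = S0 + S1 + 1 := hS.symm
          _ ≤ Nfam.card * s0 + Nfam.card * s1 + Nfam.card := by omega
          _ = Nfam.card * (s0 + s1 + 1) := by ring
          _ = Nfam.card * Afin.card := by rw [hs]
          _ ≤ Ffin.card := hfN
      nlinarith
    · -- case (c): totally singular
      have hz := hs1z h1
      have c0 : S0 ≤ Nfam.card * s0 := hcover 0 h0
      have hsa : s0 + 1 = Afin.card := by omega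
      by_cases ha4 : Afin.card ≤ 4
      · have h3 : s0 ≤ 3 := by omega
        have h5 : Nfam.card * s0 ≤ Nfam.card * 3 := Nat.mul_le_mul_left _ h3
        have h6 : 4 * (Nfam.card * s0) ≤ 3 * (Nfam.card * Afin.card) := by
          rw [← hsa]; nlinarith
        have h7 : 4 * (Y * (X + 1)) ≤ 3 * Ffin.card := by
          rw [← hS0]; omega
        nlinarith
      · push Not at ha4
        have hdvd : Afin.card ∣ 2 ^ (2 * (e + 1)) := by
          rw [← hAcard, pow_mul, show (2 : ℕ) ^ 2 = 4 by norm_num, ← hW]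
          exact AddSubgroup.card_addSubgroup_dvd_card A
        obtain ⟨j, -, hj2⟩ := (Nat.dvd_prime_pow Nat.prime_two).1 hdvd
        have ha8 : 8 ≤ Afin.card := by
          rw [hj2] at ha4 ⊢
          have h3j : 3 ≤ j := by
            by_contra hlt
            have hj2' : j ≤ 2 := by omega
            have := Nat.pow_le_pow_right (show 0 < 2 by norm_num) hj2'
            omega
          calc 8 = 2 ^ 3 := by norm_num
            _ ≤ 2 ^ j := Nat.pow_le_pow_right (by norm_num) h3j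
        have hsingA : ∀ a ∈ A, D.qf a = 0 := by
          intro a ha
          by_cases ha0 : a = 0
          · rw [ha0]; exact qf_zero hD
          · by_contra hq
            exact h1 ⟨a, ha, ha0, (zmod2_ne_zero _).1 hq⟩
        obtain ⟨a', ha'A, ha'0, -⟩ := h0
        have hninv : ¬ (∀ k ∈ D.K, ∀ w ∈ A, D.ρ k w ∈ A) := by
          intro h
          rcases hirr A h with hb | ht
          · rw [hb] at ha'A
            exact ha'0 ((AddSubgroup.mem_bot).1 ha'A)
          · apply ha'0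
            apply hD.β_nondeg
            intro u
            have hu : u ∈ A := by rw [ht]; trivial
            rw [β_eq hD, hsingA _ (A.add_mem ha'A hu), hsingA _ ha'A, hsingA _ hu]
            decide
        push Not at hninv
        obtain ⟨k₁, hk₁, w₁, hw₁A, hw₁⟩ := hninv
        let act : MulAction D.K (Finset W) := actK hD
        set St : Subgroup D.K := MulAction.stabilizer D.K Afin with hSt
        set L : Subgroup G := St.map D.K.subtype with hL
        have hLK : L ≤ D.K := Subgroup.map_subtype_le St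
        have hstab : ∀ k : D.K, k ∈ St ↔ Afin.image (D.ρ k) = Afin :=
          fun k => MulAction.mem_stabilizer_iff
        have hLne : L ≠ D.K := by
          intro h
          have hk₁L : k₁ ∈ L := by rw [h]; exact hk₁
          obtain ⟨k', hst, rfl⟩ := Subgroup.mem_map.1 hk₁L
          have := (hstab k').1 hst
          apply hw₁
          rw [← hmemA, ← this]
          exact Finset.mem_image_of_mem _ ((hmemA w₁).2 hw₁A)
        have hm := hmu L hLK hLne
        have hrel : L.relIndex D.K = St.index := by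
          unfold Subgroup.relIndex
          congr 1
          ext k
          rw [Subgroup.mem_subgroupOf, hL, Subgroup.mem_map]
          constructor
          · rintro ⟨k', hk', hkk'⟩
            have : k' = k := Subtype.ext hkk'
            rw [← this]; exact hk'
          · intro hk; exact ⟨k, hk, rfl⟩
        have hidx : St.index ≤ Nfam.card := by
          rw [hSt, MulAction.index_stabilizer, ← Set.ncard_coe_finset Nfam]
          apply Set.ncard_le_ncard _ (Finset.finite_toSet _)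
          rintro B ⟨k, rfl⟩
          rw [Finset.mem_coe, hNfam, Finset.mem_filter]
          exact ⟨Finset.mem_univ _, k, k.2, rfl⟩
        have hmN : m ≤ Nfam.card := by rw [hrel] at hm; exact hm.trans hidx
        have h8 : m * 8 ≤ Ffin.card :=
          (Nat.mul_le_mul hmN ha8).trans hfN
        nlinarith
  · -- case (b): no nonzero singular vector in `A`
    have hz := hs0z h0
    obtain ⟨a', ha'T, ha'⟩ := Finset.exists_mem_notMem_of_card_lt_card (s := {0}) (t := Afin)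
      (by rw [Finset.card_singleton]; omega)
    rw [Finset.mem_singleton] at ha'
    have hnon : ∀ a ∈ A, a ≠ 0 → D.qf a = 1 := by
      intro a ha ha0
      have : ¬ D.qf a = 0 := fun hq => h0 ⟨a, ha, ha0, hq⟩
      exact (zmod2_ne_zero _).1 this
    have h1 : ∃ a ∈ A, a ≠ 0 ∧ D.qf a = 1 :=
      ⟨a', (hmemA a').1 ha'T, ha', hnon a' ((hmemA a').1 ha'T) ha'⟩
    have c1 : S1 ≤ Nfam.card * s1 := hcover 1 h1
    have ha4 := card_le_four_of_nonsing hD A Afin hmemA hnon
    have hsa : s1 + 1 = Afin.card := by omega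
    have h3 : s1 ≤ 3 := by omega
    have h5 : Nfam.card * s1 ≤ Nfam.card * 3 := Nat.mul_le_mul_left _ h3
    have h6 : 4 * (Nfam.card * s1) ≤ 3 * (Nfam.card * Afin.card) := by
      rw [← hsa]; nlinarith
    have h7 : 4 * (X * Y) ≤ 3 * Ffin.card := by
      rw [← hS1]; omega
    nlinarith

end main

end Cfsg.Agent.Lib.Helper79_S2153_S2
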