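import Mathlib
import Cfsg.Agent.Lib.Helper87_S4016Cfg

/-!
# S4016, packages V4A / V4B: shared lemmas (helper79)
-/

set_option autoImplicit false

namespace Cfsg.Agent.Lib.Helper79_S4016_V4Common

open Cfsg.Agent.Lib.Helper87_S4016

variable {G : Type*} [Group G] [Finite G]

omit [Finite G] in
/-- `N(P) = P L` elementwise. -/
theorem exists_mul_of_mem_normalizer {p : ℕ} [Fact p.Prime] {P : Sylow p G} {L : Subgroup G} {l : G}
    (h : Cfg p P L l) :
    ∀ n ∈ Subgroup.normalizer ((P : Subgroup G) : Set G), ∃ a ∈ P, ∃ m ∈ L, n = a * m := by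
  classical
  let T : Subgroup G :=
    { carrier := {n | ∃ a ∈ P, ∃ m ∈ L, n = a * m}
      one_mem' := ⟨1, one_mem _, 1, one_mem _, by simp⟩
      mul_mem' := by
        rintro _ _ ⟨a, ha, m, hm, rfl⟩ ⟨a', ha', m', hm', rfl⟩
        refine ⟨a * (m * a' * m⁻¹), ?_, m * m', mul_mem hm hm', by group⟩
        refine mul_mem ha ?_
        have := h.L_le hm
        rw [Subgroup.mem_normalizer_iff] at this
        exact (this a').1 ha'
      inv_mem' := by
        rintro _ ⟨a, ha, m, hm, rfl⟩
        refine ⟨m⁻¹ * a⁻¹ * (m⁻¹)⁻¹, ?_, m⁻¹, inv_mem hm, by group⟩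
        have := h.L_le (inv_mem hm)
        rw [Subgroup.mem_normalizer_iff] at this
        exact (this a⁻¹).1 (inv_mem ha) }
  have h1 : (P : Subgroup G) ≤ T := fun a ha => ⟨a, ha, 1, one_mem _, by simp⟩
  have h2 : L ≤ T := fun m hm => ⟨1, one_mem _, m, hm, by simp⟩
  intro n hn
  rw [← h.sup] at hn
  exact (sup_le h1 h2) hn

/-- If `y ∉ N(P)` and `1 ≠ v ∈ L ⊓ C(P)` then `y v y⁻¹ ∉ C(P)`. -/
theorem conj_not_mem_centralizer {p : ℕ} [Fact p.Prime] {P : Sylow p G} {L : Subgroup G} {l : G}
    (h : Cfg p P L l)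
    (hc3 : ∀ v ∈ Subgroup.centralizer ((P : Subgroup G) : Set G), (orderOf v).Coprime p → v ≠ 1 →
      Subgroup.centralizer ({v} : Set G) = Subgroup.normalizer ((P : Subgroup G) : Set G))
    (y : G) (hy : y ∉ Subgroup.normalizer ((P : Subgroup G) : Set G))
    (v : G) (hvL : v ∈ L) (hvC : v ∈ Subgroup.centralizer ((P : Subgroup G) : Set G))
    (hv1 : v ≠ 1) :
    y * v * y⁻¹ ∉ Subgroup.centralizer ((P : Subgroup G) : Set G) := by
  intro hw
  have hp : p.Prime := Fact.out
  have hcop : (orderOf v).Coprime p := by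
    have h1 : orderOf v ∣ Nat.card ↥L := Subgroup.orderOf_dvd_natCard L hvL
    have h2 : p.Coprime (Nat.card ↥L) := (Nat.Prime.coprime_iff_not_dvd hp).2 h.L_cop
    exact (Nat.Coprime.coprime_dvd_right h1 h2).symm
  have hord : orderOf (y * v * y⁻¹) = orderOf v := by
    have := (MulAut.conj y).orderOf_eq v
    simpa [MulAut.conj_apply] using this
  have hw1 : y * v * y⁻¹ ≠ 1 := by
    intro h1
    apply hv1
    have : v = y⁻¹ * (y * v * y⁻¹) * y := by group
    rw [this, h1]; group
  have hCv := hc3 v hvC hcop hv1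
  have hCw := hc3 (y * v * y⁻¹) hw (hord ▸ hcop) hw1
  apply hy
  have hNN : Subgroup.normalizer
      ((Subgroup.normalizer ((P : Subgroup G) : Set G) : Subgroup G) : Set G) =
      Subgroup.normalizer ((P : Subgroup G) : Set G) := Sylow.normalizer_normalizer P
  rw [← hNN, Subgroup.mem_normalizer_iff]
  intro n
  have e1 : n ∈ Subgroup.normalizer ((P : Subgroup G) : Set G) ↔ v * n = n * v := by
    rw [← hCv, Subgroup.mem_centralizer_singleton_iff]
    exact eq_comm
  have e2 : y * n * y⁻¹ ∈ Subgroup.normalizer ((P : Subgroup G) : Set G) ↔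
      (y * v * y⁻¹) * (y * n * y⁻¹) = (y * n * y⁻¹) * (y * v * y⁻¹) := by
    rw [← hCw, Subgroup.mem_centralizer_singleton_iff]
    exact eq_comm
  change n ∈ Subgroup.normalizer ((P : Subgroup G) : Set G) ↔
    y * n * y⁻¹ ∈ Subgroup.normalizer ((P : Subgroup G) : Set G)
  rw [e1, e2]
  constructor
  · intro hh
    have : y * v * y⁻¹ * (y * n * y⁻¹) = y * (v * n) * y⁻¹ := by group
    rw [this, hh]; group
  · intro hh
    have e3 : v * n = y⁻¹ * (y * v * y⁻¹ * (y * n * y⁻¹)) * y := by group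
    rw [e3, hh]; group

/-- An element of order `3` of the cyclic Sylow `3`-subgroup, and the elements killed by `3`. -/
theorem exists_order_three {P : Sylow 3 G} (hcyc : IsCyclic ↥P) (hP : (P : Subgroup G) ≠ ⊥) :
    ∃ g ∈ P, orderOf g = 3 ∧ ∀ z ∈ P, z ^ 3 = 1 → z = 1 ∨ z = g ∨ z = g⁻¹ := by
  classical
  have : Fintype ↥(P : Subgroup G) := Fintype.ofFinite _
  have h3 : 3 ∣ Nat.card ↥(P : Subgroup G) := by
    obtain ⟨n, hn⟩ := IsPGroup.iff_card.mp P.2
    rcases Nat.eq_zero_or_pos n with h0 | h0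
    · exfalso
      rw [h0, pow_zero] at hn
      exact hP ((P : Subgroup G).eq_bot_of_card_eq hn)
    · rw [hn]
      exact dvd_pow_self 3 (Nat.pos_iff_ne_zero.mp h0)
  obtain ⟨g', hg'⟩ := exists_prime_orderOf_dvd_card' (G := ↥(P : Subgroup G)) 3 h3
  refine ⟨(g' : G), g'.2, ?_, ?_⟩
  · exact (Subgroup.orderOf_coe g').trans hg'
  · intro z hz hz3
    by_contra hne
    push Not at hne
    obtain ⟨hz1, hzg, hzg'⟩ := hne
    let z' : ↥(P : Subgroup G) := ⟨z, hz⟩
    have hz'3 : z' ^ 3 = 1 := Subtype.ext (by simpa using hz3)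
    have hg3 : g' ^ 3 = 1 := by
      have := pow_orderOf_eq_one g'
      rwa [hg'] at this
    have hg1 : g' ≠ 1 := by
      intro h1; rw [h1, orderOf_one] at hg'; omega
    have hgi : g' ≠ g'⁻¹ := by
      intro h1
      have : g' ^ 2 = 1 := by
        rw [pow_two]; nth_rewrite 2 [h1]; exact mul_inv_cancel g'
      have := orderOf_dvd_of_pow_eq_one this
      rw [hg'] at this; omega
    have hsub : ({1, g', g'⁻¹, z'} : Finset ↥(P : Subgroup G)) ⊆
        Finset.univ.filter (fun a : ↥(P : Subgroup G) => a ^ 3 = 1) := by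
      intro a ha
      simp only [Finset.mem_insert, Finset.mem_singleton] at ha
      simp only [Finset.mem_filter, Finset.mem_univ, true_and]
      rcases ha with rfl | rfl | rfl | rfl
      · simp
      · exact hg3
      · rw [inv_pow, hg3, inv_one]
      · exact hz'3
    have hcard : ({1, g', g'⁻¹, z'} : Finset ↥(P : Subgroup G)).card = 4 := by
      have hz'1 : z' ≠ 1 := fun hh => hz1 (by simpa [z'] using congrArg Subtype.val hh)
      have hz'g : z' ≠ g' := fun hh => hzg (by simpa [z'] using congrArg Subtype.val hh)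
      have hz'gi : z' ≠ g'⁻¹ := fun hh => hzg' (by simpa [z'] using congrArg Subtype.val hh)
      have hgi1 : g'⁻¹ ≠ 1 := by simpa using hg1
      rw [Finset.card_insert_of_notMem, Finset.card_insert_of_notMem,
        Finset.card_insert_of_notMem, Finset.card_singleton]
      · simp only [Finset.mem_singleton]; exact fun hh => hz'gi hh.symm
      · simp only [Finset.mem_insert, Finset.mem_singleton, not_or]
        exact ⟨hgi, fun hh => hz'g hh.symm⟩
      · simp only [Finset.mem_insert, Finset.mem_singleton, not_or]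
        exact ⟨fun hh => hg1 hh.symm, fun hh => hgi1 hh.symm, fun hh => hz'1 hh.symm⟩
    have hle := IsCyclic.card_pow_eq_one_le (α := ↥(P : Subgroup G)) (n := 3) (by norm_num)
    have := Finset.card_le_card hsub
    rw [hcard] at this
    omega

end Cfsg.Agent.Lib.Helper79_S4016_V4Common
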