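import Mathlib
import Cfsg.Agent.Lib.Helper87_S4016Cfg
import Cfsg.Agent.Lib.Helper79_S4016_V4Common

/-!
# S4016, package V4A (architect helper87; formalized by helper79)
-/

set_option autoImplicit false

namespace Cfsg.Agent.Lib.Helper79_S4016_V4A

open Cfsg.Agent.Lib.Helper87_S4016 Cfsg.Agent.Lib.Helper79_S4016_V4Common

theorem V4A {G : Type*} [Group G] [Finite G] {P : Sylow 3 G} {L : Subgroup G} {l : G}
    (h : Cfg 3 P L l)
    (hc1 : ∀ y ∈ P, y ≠ 1 →
      Subgroup.centralizer ({y} : Set G) = Subgroup.centralizer ((P : Subgroup G) : Set G))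
    (hc3 : ∀ v ∈ Subgroup.centralizer ((P : Subgroup G) : Set G), (orderOf v).Coprime 3 → v ≠ 1 →
      Subgroup.centralizer ({v} : Set G) = Subgroup.normalizer ((P : Subgroup G) : Set G))
    (hL0 : L ⊓ Subgroup.centralizer ((P : Subgroup G) : Set G) ≠ ⊥)
    (hr2 : ∀ x ∈ L ⊓ Subgroup.centralizer ((P : Subgroup G) : Set G), (orderOf x).Prime →
      orderOf x = 2)
    (hS : ∀ x ∈ L ⊓ Subgroup.centralizer ((P : Subgroup G) : Set G), orderOf x = 2 →
      ∀ S : Sylow 2 G, x ∈ S →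
        (S : Subgroup G) ≤ Subgroup.normalizer ((P : Subgroup G) : Set G) ∧
        ∃ y ∈ Subgroup.normalizer ((S : Subgroup G) : Set G), orderOf y = 3 ∧
          ∀ k : ℕ, 0 < k → k < 3 → y ^ k ∉ Subgroup.normalizer ((P : Subgroup G) : Set G)) :
    Nat.card ↥L = 4 ∧ Nat.card ↥(L ⊓ Subgroup.centralizer ((P : Subgroup G) : Set G)) = 2 ∧
    (∀ w : G, orderOf w = 2 → ∃ u : G, u * w * u⁻¹ ∈ L) ∧
    ∃ y ∈ Subgroup.normalizer (L : Set G), orderOf y = 3 ∧
      ∀ k : ℕ, 0 < k → k < 3 → y ^ k ∉ Subgroup.normalizer ((P : Subgroup G) : Set G) := by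
  classical
  have hPbot : (P : Subgroup G) ≠ ⊥ := by
    intro hb
    apply h.notNormal
    rw [hb]
    infer_instance
  obtain ⟨g, hgP, hg3, hguniq⟩ := exists_order_three h.cyc hPbot
  have hg1 : g ≠ 1 := by
    intro h1
    rw [h1, orderOf_one] at hg3
    omega
  -- conjugates of `g`
  have hconj : ∀ m ∈ Subgroup.normalizer ((P : Subgroup G) : Set G),
      m * g * m⁻¹ = g ∨ m * g * m⁻¹ = g⁻¹ := by
    intro m hm
    have hmem : m * g * m⁻¹ ∈ P := ((Subgroup.mem_normalizer_iff.mp hm) g).1 hgP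
    have hpow : (m * g * m⁻¹) ^ 3 = 1 := by
      have hg3' : g ^ 3 = 1 := by
        have := pow_orderOf_eq_one g
        rwa [hg3] at this
      rw [conj_pow, hg3']
      group
    rcases hguniq _ hmem hpow with h1 | h1 | h1
    · exfalso
      apply hg1
      have : g = m⁻¹ * (m * g * m⁻¹) * m := by group
      rw [this, h1]
      group
    · exact Or.inl h1
    · exact Or.inr h1
  have hcent : ∀ m, m * g = g * m →
      m ∈ Subgroup.centralizer ((P : Subgroup G) : Set G) := by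
    intro m hm
    rw [← hc1 g hgP hg1, Subgroup.mem_centralizer_singleton_iff]
    exact hm
  have hcent' : ∀ m ∈ Subgroup.centralizer ((P : Subgroup G) : Set G), m * g = g * m := by
    intro m hm
    exact ((Subgroup.mem_centralizer_iff.mp hm) g hgP).symm
  have hcomm_of_conj : ∀ m, m * g * m⁻¹ = g → m * g = g * m := by
    intro m h1
    calc m * g = (m * g * m⁻¹) * m := by group
      _ = g * m := by rw [h1]
  have hlC : l ∉ Subgroup.centralizer ((P : Subgroup G) : Set G) := fun hl =>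
    h.fpf g hgP hg1 (hcent' l hl)
  have hinv : ∀ m ∈ L, m ∉ Subgroup.centralizer ((P : Subgroup G) : Set G) →
      m * g * m⁻¹ = g⁻¹ := by
    intro m hm hmC
    rcases hconj m (h.L_le hm) with h1 | h1
    · exact absurd (hcent m (hcomm_of_conj m h1)) hmC
    · exact h1
  have hinv2 : ∀ m m', m * g * m⁻¹ = g⁻¹ → m' * g * m'⁻¹ = g⁻¹ →
      (m⁻¹ * m') * g = g * (m⁻¹ * m') := by
    intro m m' h1 h2
    have h3 : m' * g * m'⁻¹ = m * g * m⁻¹ := h2.trans h1.symm
    calc m⁻¹ * m' * g = m⁻¹ * (m' * g * m'⁻¹) * m' := by group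
      _ = m⁻¹ * (m * g * m⁻¹) * m' := by rw [h3]
      _ = g * (m⁻¹ * m') := by group
  have hinv3 : ∀ m m', m * g * m⁻¹ = g⁻¹ → m' * g * m'⁻¹ = g⁻¹ →
      (m * m') * g = g * (m * m') := by
    intro m m' h1 h2
    have h3 : m⁻¹ * g * (m⁻¹)⁻¹ = g⁻¹ := by
      have : g = m⁻¹ * (m * g * m⁻¹) * m := by group
      have h4 : m⁻¹ * g⁻¹ * m = g := by
        nth_rewrite 2 [this]
        rw [h1]
      calc m⁻¹ * g * (m⁻¹)⁻¹ = (m⁻¹ * g⁻¹ * m)⁻¹ := by group
        _ = g⁻¹ := by rw [h4]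
    have := hinv2 m⁻¹ m' h3 h2
    simpa using this
  -- `L₀` is a 2-group
  have hL0_2 : ∀ v ∈ L ⊓ Subgroup.centralizer ((P : Subgroup G) : Set G),
      ∃ k, orderOf v = 2 ^ k := by
    intro v hv
    have hpos : orderOf v ≠ 0 := (orderOf_pos v).ne'
    refine ⟨_, Nat.eq_prime_pow_of_unique_prime_dvd hpos ?_⟩
    intro d hd hdv
    have h1 : orderOf (v ^ (orderOf v / d)) = d := orderOf_pow_orderOf_div hpos hdv
    have hmem : v ^ (orderOf v / d) ∈ L ⊓ Subgroup.centralizer ((P : Subgroup G) : Set G) :=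
      pow_mem hv _
    have h2 := hr2 _ hmem (by rw [h1]; exact hd)
    rw [h1] at h2
    exact h2
  -- squares of elements of `L` lie in `L₀`
  have hsq : ∀ m ∈ L, m ^ 2 ∈ L ⊓ Subgroup.centralizer ((P : Subgroup G) : Set G) := by
    intro m hm
    by_cases hmC : m ∈ Subgroup.centralizer ((P : Subgroup G) : Set G)
    · exact pow_mem (Subgroup.mem_inf.mpr ⟨hm, hmC⟩) 2
    · have h1 := hinv m hm hmC
      refine ⟨pow_mem hm 2, hcent _ ?_⟩
      rw [pow_two]
      exact hinv3 m m h1 h1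
  have hL2grp : IsPGroup 2 ↥L := by
    rintro ⟨m, hm⟩
    obtain ⟨k, hk⟩ := hL0_2 _ (hsq m hm)
    refine ⟨k + 1, ?_⟩
    apply Subtype.ext
    simp only [Subgroup.coe_pow, Subgroup.coe_one]
    rw [pow_succ', pow_mul, ← hk, pow_orderOf_eq_one]
  -- an involution of `L₀`
  obtain ⟨x, hx, hx2⟩ : ∃ x ∈ L ⊓ Subgroup.centralizer ((P : Subgroup G) : Set G),
      orderOf x = 2 := by
    obtain ⟨⟨v, hv⟩, hv1⟩ :
        ∃ a : ↥(L ⊓ Subgroup.centralizer ((P : Subgroup G) : Set G)), a ≠ 1 :=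
      (Subgroup.ne_bot_iff_exists_ne_one).mp hL0
    have hv1' : v ≠ 1 := fun hh => hv1 (Subtype.ext hh)
    obtain ⟨k, hk⟩ := hL0_2 v hv
    have hk0 : k ≠ 0 := by
      intro h0
      rw [h0, pow_zero, orderOf_eq_one_iff] at hk
      exact hv1' hk
    have hpos : orderOf v ≠ 0 := (orderOf_pos v).ne'
    have h2 : 2 ∣ orderOf v := by
      rw [hk]
      exact dvd_pow_self 2 hk0
    exact ⟨v ^ (orderOf v / 2), pow_mem hv _, orderOf_pow_orderOf_div hpos h2⟩
  -- the Sylow 2-subgroup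
  obtain ⟨S, hLS⟩ := IsPGroup.exists_le_sylow hL2grp
  obtain ⟨hSN, y, hyS, hy3, hyk⟩ := hS x hx hx2 S (hLS hx.1)
  have hSL : (S : Subgroup G) = L := by
    apply le_antisymm _ hLS
    intro s hs
    obtain ⟨a, ha, m, hm, rfl⟩ := exists_mul_of_mem_normalizer h s (hSN hs)
    have ha' : a ∈ (S : Subgroup G) := by
      have : a = (a * m) * m⁻¹ := by group
      rw [this]
      exact mul_mem hs (inv_mem (hLS hm))
    have ha1 : a = 1 := by
      have hdis : Disjoint (S : Subgroup G) (P : Subgroup G) :=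
        IsPGroup.disjoint_of_ne 2 3 (by norm_num) _ _ S.2 P.2
      exact Subgroup.disjoint_def.mp hdis ha' ha
    rw [ha1, one_mul]
    exact hm
  have hyL : y ∈ Subgroup.normalizer (L : Set G) := by
    rw [← hSL]
    exact hyS
  have hyN : y ∉ Subgroup.normalizer ((P : Subgroup G) : Set G) := by
    have := hyk 1 (by norm_num) (by norm_num)
    simpa using this
  -- conjugating into `L`
  have hconjL : ∀ v ∈ L, y * v * y⁻¹ ∈ L := fun v hv =>
    ((Subgroup.mem_normalizer_iff.mp hyL) v).1 hv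
  have hB : ∀ v ∈ L ⊓ Subgroup.centralizer ((P : Subgroup G) : Set G), v ≠ 1 →
      y * v * y⁻¹ ∉ Subgroup.centralizer ((P : Subgroup G) : Set G) := fun v hv hv1 =>
    conj_not_mem_centralizer h hc3 y hyN v hv.1 hv.2 hv1
  have hx1 : x ≠ 1 := by
    intro h1
    rw [h1, orderOf_one] at hx2
    omega
  have huniq : ∀ v ∈ L ⊓ Subgroup.centralizer ((P : Subgroup G) : Set G), v = 1 ∨ v = x := by
    intro v hv
    by_cases hv1 : v = 1
    · exact Or.inl hv1
    · right
      have e1 := hinv _ (hconjL v hv.1) (hB v hv hv1)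
      have e2 := hinv _ (hconjL x hx.1) (hB x hx hx1)
      have e3 := hinv2 _ _ e1 e2
      have e4 : (y * v * y⁻¹)⁻¹ * (y * x * y⁻¹) = y * (v⁻¹ * x) * y⁻¹ := by group
      rw [e4] at e3
      have hmem : v⁻¹ * x ∈ L ⊓ Subgroup.centralizer ((P : Subgroup G) : Set G) :=
        mul_mem (inv_mem hv) hx
      by_contra hne
      have hne1 : v⁻¹ * x ≠ 1 := by
        intro hh
        exact hne (inv_mul_eq_one.mp hh)
      exact hB _ hmem hne1 (hcent _ e3)
  have hcardL0 : Nat.card ↥(L ⊓ Subgroup.centralizer ((P : Subgroup G) : Set G)) = 2 := by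
    rw [Nat.card_eq_two_iff]
    refine ⟨1, ⟨x, hx⟩, ?_, ?_⟩
    · intro hh
      exact hx1 (congrArg Subtype.val hh).symm
    · ext ⟨v, hv⟩
      simp only [Set.mem_insert_iff, Set.mem_singleton_iff, Set.mem_univ, iff_true]
      rcases huniq v hv with h1 | h1
      · left; exact Subtype.ext h1
      · right; exact Subtype.ext h1
  have hidx : (L ⊓ Subgroup.centralizer ((P : Subgroup G) : Set G)).relIndex L = 2 := by
    rw [Subgroup.relIndex, Subgroup.index_eq_two_iff]
    refine ⟨⟨l, h.l_mem⟩, ?_⟩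
    rintro ⟨b, hb⟩
    simp only [Subgroup.mem_subgroupOf, Subgroup.coe_mul]
    have hlinv := hinv l h.l_mem hlC
    by_cases hbC : b ∈ Subgroup.centralizer ((P : Subgroup G) : Set G)
    · right
      refine ⟨⟨hb, hbC⟩, ?_⟩
      intro hbl
      apply hlC
      have : l = b⁻¹ * (b * l) := by group
      rw [this]
      exact mul_mem (inv_mem hbC) hbl.2
    · left
      refine ⟨⟨mul_mem hb h.l_mem, hcent _ ?_⟩, fun hh => hbC hh.2⟩
      exact hinv3 b l (hinv b hb hbC) hlinv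
  have hcardL : Nat.card ↥L = 4 := by
    have h1 := Subgroup.relIndex_mul_relIndex (⊥ : Subgroup G)
      (L ⊓ Subgroup.centralizer ((P : Subgroup G) : Set G)) L bot_le inf_le_left
    rw [Subgroup.relIndex_bot_left, Subgroup.relIndex_bot_left, hidx, hcardL0] at h1
    omega
  refine ⟨hcardL, hcardL0, ?_, y, hyL, hy3, hyk⟩
  intro w hw
  have hz : IsPGroup 2 ↥(Subgroup.zpowers w) := by
    apply IsPGroup.of_card (n := 1)
    rw [Nat.card_zpowers, hw, pow_one]
  obtain ⟨S', hS'⟩ := hz.exists_le_sylow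
  obtain ⟨u, hu⟩ := MulAction.exists_smul_eq G S' S
  refine ⟨u, ?_⟩
  rw [← hSL, ← hu, Sylow.coe_subgroup_smul]
  have hwS' : w ∈ (S' : Subgroup G) := hS' (Subgroup.mem_zpowers w)
  have := Subgroup.smul_mem_pointwise_smul w (MulAut.conj u) (S' : Subgroup G) hwS'
  simpa [MulAut.smul_def, MulAut.conj_apply] using this

end Cfsg.Agent.Lib.Helper79_S4016_V4A
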