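import Mathlib
import Cfsg.Agent.Lib.Helper87_S4016Cfg
import Cfsg.Agent.Lib.Helper79_S4016_V4Common

/-!
# S4016, package V4B (architect helper87; formalized by helper79)
-/

set_option autoImplicit false

namespace Cfsg.Agent.Lib.Helper79_S4016_V4B

open Cfsg.Agent.Lib.Helper87_S4016 Cfsg.Agent.Lib.Helper79_S4016_V4Common

theorem V4B {G : Type*} [Group G] [Finite G] {P : Sylow 3 G} {L : Subgroup G} {l : G}
    (h : Cfg 3 P L l)
    (hc1 : ∀ y ∈ P, y ≠ 1 →
      Subgroup.centralizer ({y} : Set G) = Subgroup.centralizer ((P : Subgroup G) : Set G))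
    (hc3 : ∀ v ∈ Subgroup.centralizer ((P : Subgroup G) : Set G), (orderOf v).Coprime 3 → v ≠ 1 →
      Subgroup.centralizer ({v} : Set G) = Subgroup.normalizer ((P : Subgroup G) : Set G))
    (hL4 : Nat.card ↥L = 4)
    (hL2 : Nat.card ↥(L ⊓ Subgroup.centralizer ((P : Subgroup G) : Set G)) = 2)
    (hsyl : ∀ w : G, orderOf w = 2 → ∃ u : G, u * w * u⁻¹ ∈ L)
    (y : G) (hyL : y ∈ Subgroup.normalizer (L : Set G)) (hy3 : orderOf y = 3)
    (hyk : ∀ k : ℕ, 0 < k → k < 3 → y ^ k ∉ Subgroup.normalizer ((P : Subgroup G) : Set G)) :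
    ∃ t s : G, orderOf t = 2 ∧ orderOf s = 2 ∧ t * s = s * t ∧ s ≠ t ∧
      (∀ z ∈ P, t * z = z * t) ∧ (∀ z ∈ P, s * z * s⁻¹ = z⁻¹) ∧
      Subgroup.centralizer ({t} : Set G) = (P : Subgroup G) ⊔ Subgroup.closure {t, s} ∧
      Subgroup.normalizer ((P : Subgroup G) : Set G) = (P : Subgroup G) ⊔ Subgroup.closure {t, s} ∧
      ∀ a b : G, orderOf a = 2 → orderOf b = 2 → IsConj a b := by
  classical
  -- the involution `t` of `L₀`
  obtain ⟨⟨t, ht⟩, ht1, -⟩ := (Nat.card_eq_two_iff' (1 : ↥(L ⊓
    Subgroup.centralizer ((P : Subgroup G) : Set G)))).mp hL2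
  have ht1' : t ≠ 1 := fun hh => ht1 (Subtype.ext hh)
  have ht2 : orderOf t = 2 := by
    have h1 : orderOf t ∣ 2 := by
      rw [← hL2]
      exact Subgroup.orderOf_dvd_natCard _ ht
    have h2 : orderOf t ≠ 1 := fun hh => ht1' (orderOf_eq_one_iff.mp hh)
    have h3 : orderOf t ≤ 2 := Nat.le_of_dvd (by norm_num) h1
    have h4 : 0 < orderOf t := orderOf_pos t
    omega
  have htt : t * t = 1 := by
    have := pow_orderOf_eq_one t
    rwa [ht2, pow_two] at this
  have hyN : y ∉ Subgroup.normalizer ((P : Subgroup G) : Set G) := by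
    have := hyk 1 (by norm_num) (by norm_num)
    simpa using this
  have hconjL : ∀ v ∈ L, y * v * y⁻¹ ∈ L := fun v hv =>
    ((Subgroup.mem_normalizer_iff.mp hyL) v).1 hv
  have hord_conj : ∀ (u v : G), orderOf (u * v * u⁻¹) = orderOf v := by
    intro u v
    have := (MulAut.conj u).orderOf_eq v
    simpa [MulAut.conj_apply] using this
  -- `s`
  have hsL : y * t * y⁻¹ ∈ L := hconjL t ht.1
  have hs2 : orderOf (y * t * y⁻¹) = 2 := (hord_conj y t).trans ht2
  have hsC : y * t * y⁻¹ ∉ Subgroup.centralizer ((P : Subgroup G) : Set G) :=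
    conj_not_mem_centralizer h hc3 y hyN t ht.1 ht.2 ht1'
  have hst : y * t * y⁻¹ ≠ t := fun hh => hsC (by rw [hh]; exact ht.2)
  have hs1 : y * t * y⁻¹ ≠ 1 := by
    intro hh
    rw [hh, orderOf_one] at hs2
    omega
  have hss : (y * t * y⁻¹) * (y * t * y⁻¹) = 1 := by
    have := pow_orderOf_eq_one (y * t * y⁻¹)
    rwa [hs2, pow_two] at this
  have hLab : ∀ a ∈ L, ∀ b ∈ L, a * b = b * a := h.hab L h.L_cop
  have hcomm : t * (y * t * y⁻¹) = (y * t * y⁻¹) * t := hLab _ ht.1 _ hsL
  have hPcomm : ∀ a ∈ P, ∀ b ∈ P, a * b = b * a := by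
    intro a ha b hb
    have := h.cyc
    let _ := IsCyclic.commGroup (α := ↥(P : Subgroup G))
    have := mul_comm (⟨a, ha⟩ : ↥(P : Subgroup G)) ⟨b, hb⟩
    exact congrArg Subtype.val this
  -- enumeration of `L`
  have hLenum : ∀ m ∈ L, m = 1 ∨ m = t ∨ m = y * t * y⁻¹ ∨ m = t * (y * t * y⁻¹) := by
    have : Fintype ↥L := Fintype.ofFinite _
    let F : Finset ↥L := {1, ⟨t, ht.1⟩, ⟨y * t * y⁻¹, hsL⟩,
      ⟨t * (y * t * y⁻¹), mul_mem ht.1 hsL⟩}
    have hts1 : t * (y * t * y⁻¹) ≠ 1 := by
      intro hh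
      apply hst
      calc y * t * y⁻¹ = t * (t * (y * t * y⁻¹)) := by rw [← mul_assoc, htt, one_mul]
        _ = t := by rw [hh, mul_one]
    have htst : t * (y * t * y⁻¹) ≠ t := by
      intro hh
      exact hs1 (mul_left_cancel (hh.trans (mul_one t).symm))
    have htss : t * (y * t * y⁻¹) ≠ y * t * y⁻¹ := by
      intro hh
      exact ht1' (mul_right_cancel (hh.trans (one_mul _).symm))
    have hcard : F.card = 4 := by
      rw [Finset.card_insert_of_notMem, Finset.card_insert_of_notMem,
        Finset.card_insert_of_notMem, Finset.card_singleton]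
      · simp only [Finset.mem_singleton, Subtype.mk.injEq]
        exact fun hh => htss hh.symm
      · simp only [Finset.mem_insert, Finset.mem_singleton, Subtype.mk.injEq, not_or]
        exact ⟨fun hh => hst hh.symm, fun hh => htst hh.symm⟩
      · simp only [Finset.mem_insert, Finset.mem_singleton, not_or]
        refine ⟨fun hh => ht1' ?_, fun hh => hs1 ?_, fun hh => hts1 ?_⟩
        · exact (congrArg Subtype.val hh).symm
        · exact (congrArg Subtype.val hh).symm
        · exact (congrArg Subtype.val hh).symm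
    have huniv : F = Finset.univ := by
      apply Finset.eq_univ_of_card
      rw [hcard, ← Nat.card_eq_fintype_card, hL4]
    intro m hm
    have hmF : (⟨m, hm⟩ : ↥L) ∈ F := by
      rw [huniv]
      exact Finset.mem_univ _
    simp only [F, Finset.mem_insert, Finset.mem_singleton, Subtype.mk.injEq] at hmF
    rcases hmF with h1 | h1 | h1 | h1
    · left; exact congrArg Subtype.val h1
    · right; left; exact h1
    · right; right; left; exact h1
    · right; right; right; exact h1
  -- `closure {t, s} = L`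
  have hcl : Subgroup.closure ({t, y * t * y⁻¹} : Set G) = L := by
    apply le_antisymm
    · rw [Subgroup.closure_le]
      intro a ha
      simp only [Set.mem_insert_iff, Set.mem_singleton_iff] at ha
      rcases ha with rfl | rfl
      · exact ht.1
      · exact hsL
    · intro m hm
      have h1 : t ∈ Subgroup.closure ({t, y * t * y⁻¹} : Set G) :=
        Subgroup.subset_closure (by simp)
      have h2 : y * t * y⁻¹ ∈ Subgroup.closure ({t, y * t * y⁻¹} : Set G) :=
        Subgroup.subset_closure (by simp)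
      rcases hLenum m hm with rfl | rfl | rfl | rfl
      · exact one_mem _
      · exact h1
      · exact h2
      · exact mul_mem h1 h2
  have hcop2 : (orderOf t).Coprime 3 := by rw [ht2]; norm_num
  have hCt : Subgroup.centralizer ({t} : Set G) =
      Subgroup.normalizer ((P : Subgroup G) : Set G) := hc3 t ht.2 hcop2 ht1'
  refine ⟨t, y * t * y⁻¹, ht2, hs2, hcomm, hst, ?_, ?_, ?_, ?_, ?_⟩
  · intro z hz
    exact (Subgroup.mem_centralizer_iff.mp ht.2 z hz).symm
  · -- `s` inverts `P`
    intro z hz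
    set s := y * t * y⁻¹ with hs
    have hsN := h.L_le hsL
    have hszP : s * z * s⁻¹ ∈ P := ((Subgroup.mem_normalizer_iff.mp hsN) z).1 hz
    have hsinv : s⁻¹ = s := inv_eq_of_mul_eq_one_right hss
    have hw : s * (z * (s * z * s⁻¹)) = (z * (s * z * s⁻¹)) * s := by
      have e1 : s * (z * (s * z * s⁻¹)) = (s * z * s⁻¹) * (s * s) * z * s⁻¹ := by group
      rw [e1, hss, mul_one, hPcomm _ hszP _ hz, hsinv]
    by_contra hne
    have hw1 : z * (s * z * s⁻¹) ≠ 1 := by
      intro hh
      exact hne (eq_inv_of_mul_eq_one_right hh)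
    apply hsC
    rw [← hc1 _ (mul_mem hz hszP) hw1, Subgroup.mem_centralizer_singleton_iff]
    exact hw
  · rw [hcl, hCt, h.sup]
  · rw [hcl, h.sup]
  · -- one class of involutions
    have hys : y * (y * t * y⁻¹) * y⁻¹ = t * (y * t * y⁻¹) := by
      have hmem := hconjL _ hsL
      have h2 : orderOf (y * (y * t * y⁻¹) * y⁻¹) = 2 := (hord_conj y _).trans hs2
      rcases hLenum _ hmem with h1 | h1 | h1 | h1
      · rw [h1, orderOf_one] at h2
        omega
      · exfalso
        apply hyk 2 (by norm_num) (by norm_num)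
        rw [← hCt, Subgroup.mem_centralizer_singleton_iff]
        have e1 : y ^ 2 * t = (y * (y * t * y⁻¹) * y⁻¹) * y ^ 2 := by
          rw [pow_two]
          group
        rw [e1, h1]
      · exfalso
        apply hst
        have e1 : y * t * y⁻¹ = y⁻¹ * (y * (y * t * y⁻¹) * y⁻¹) * y := by group
        rw [e1, h1]
        group
      · exact h1
    have hts : IsConj t (y * t * y⁻¹) := isConj_iff.mpr ⟨y, rfl⟩
    have hsts : IsConj (y * t * y⁻¹) (t * (y * t * y⁻¹)) := isConj_iff.mpr ⟨y, hys⟩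
    have hall : ∀ a : G, orderOf a = 2 → IsConj a t := by
      intro a ha
      obtain ⟨u, hu⟩ := hsyl a ha
      have h2 : orderOf (u * a * u⁻¹) = 2 := (hord_conj u a).trans ha
      have hau : IsConj a (u * a * u⁻¹) := isConj_iff.mpr ⟨u, rfl⟩
      rcases hLenum _ hu with h1 | h1 | h1 | h1
      · rw [h1, orderOf_one] at h2
        omega
      · rw [h1] at hau
        exact hau
      · rw [h1] at hau
        exact hau.trans hts.symm
      · rw [h1] at hau
        exact hau.trans (hsts.symm.trans hts.symm)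
    intro a b ha hb
    exact (hall a ha).trans (hall b hb).symm

end Cfsg.Agent.Lib.Helper79_S4016_V4B
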