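import Mathlib
import Cfsg.Agent.Lib.Helper85_Sp2Defs
import Cfsg.Agent.Lib.Helper85_Sp2Basic
import Cfsg.Prelude.Def_Classical

/-!
# S2142, package COUNT (architect helper85; formalized by helper79): the final counting contradiction
-/

set_option autoImplicit false

namespace Cfsg.Agent.Lib.Helper79_Sp2_COUNT

open Cfsg.Agent.Lib.Helper85_Sp2Defs Cfsg.Agent.Lib.Helper85_Sp2Basic

variable {𝒢 : Type*} {F : Type*} {U : Type*} [Group 𝒢] [Field F] [Fintype F]
  [AddCommGroup U] [Module F U] [Fintype U]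

theorem count_contra (hF : Fintype.card F = 2) (D : SpAct 𝒢 F U) (m : ℕ) (hm : 3 ≤ m)
    (hU : Fintype.card U = 4 ^ m) (H : Subgroup 𝒢)
    (hcls : ∀ Q : QF D.β,
      (0 < gsum Q → Nat.card {Q' : QF D.β // SameType Q Q'} = 2 ^ (m - 1) * (2 ^ m + 1)) ∧
      (¬ 0 < gsum Q → Nat.card {Q' : QF D.β // SameType Q Q'} = 2 ^ (m - 1) * (2 ^ m - 1)))
    (htransQ : ∀ Q Q' : QF D.β, SameType Q Q' → ∃ h ∈ H, D.Moves h Q Q')
    (hfix : ∀ v : U, v ≠ 0 →
      Nat.card {Q : QF D.β // ∀ b ∈ H ⊓ D.Qrad v, D.FixesQ b Q} = 2) : False := by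
  classical
  have : Fintype (QF D.β) := Fintype.ofFinite _
  let Fx : U → QF D.β → Prop := fun v Q => ∀ b ∈ H ⊓ D.Qrad v, D.FixesQ b Q
  let s : QF D.β → ℕ := fun Q => (Finset.univ.filter (fun v : U => v ≠ 0 ∧ Fx v Q)).card
  -- invariance of `s`
  have hs_le : ∀ (h : 𝒢), h ∈ H → ∀ Q Q' : QF D.β, D.Moves h Q Q' → s Q ≤ s Q' := by
    intro h hh Q Q' hmv
    apply Finset.card_le_card_of_injOn (fun v => D.ρ h v)
    · intro v hv
      simp only [Finset.coe_filter, Finset.mem_univ, true_and, Set.mem_ofPred_eq] at hv ⊢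
      refine ⟨?_, ?_⟩
      · intro h0
        apply hv.1
        have h1 := D.rho_inv_apply h v
        rw [h0, map_zero] at h1
        exact h1.symm
      · intro b' hb'
        have hbQ : h⁻¹ * b' * h ∈ D.Qrad v := by
          have h1 := Qrad_conj D (D.ρ h v) h⁻¹ b' hb'.2
          rwa [inv_inv, D.rho_inv_apply] at h1
        have hbH : h⁻¹ * b' * h ∈ H := H.mul_mem (H.mul_mem (H.inv_mem hh) hb'.1) hh
        have hfx := hv.2 _ ⟨hbH, hbQ⟩
        intro x
        rw [hmv, hmv, ← D.rho_mul_apply]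
        have e : h⁻¹ * b' = (h⁻¹ * b' * h) * h⁻¹ := by group
        rw [e, D.rho_mul_apply, hfx]
    · intro v _ v' _ hvv'
      have h1 := congrArg (D.ρ h⁻¹) hvv'
      simpa [D.rho_inv_apply] using h1
  have hs_eq : ∀ Q Q' : QF D.β, SameType Q Q' → s Q = s Q' := by
    intro Q Q' hst
    obtain ⟨h, hh, hmv⟩ := htransQ Q Q' hst
    apply le_antisymm (hs_le h hh Q Q' hmv)
    apply hs_le h⁻¹ (H.inv_mem hh) Q' Q
    intro x
    rw [inv_inv, hmv, D.rho_inv_apply]
  -- first count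
  have hN1 : ∑ v : U, ∑ Q : QF D.β, (if v ≠ 0 ∧ Fx v Q then 1 else 0) = 2 * (4 ^ m - 1) := by
    have h1 : ∀ v : U, ∑ Q : QF D.β, (if v ≠ 0 ∧ Fx v Q then 1 else 0) =
        if v ≠ 0 then 2 else 0 := by
      intro v
      by_cases hv : v ≠ 0
      · rw [if_pos hv]
        have h2 := hfix v hv
        rw [Nat.card_eq_fintype_card, Fintype.card_subtype] at h2
        rw [← h2, Finset.card_filter]
        refine Finset.sum_congr rfl fun Q _ => ?_
        simp only [hv, ne_eq, not_false_eq_true, true_and, Fx]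
      · rw [if_neg hv]
        apply Finset.sum_eq_zero
        intro Q _
        rw [if_neg]
        exact fun hh => hv hh.1
    simp_rw [h1]
    rw [Finset.sum_ite, Finset.sum_const_zero, add_zero, Finset.sum_const, smul_eq_mul]
    have h3 : (Finset.univ.filter (fun v : U => v ≠ 0)).card = 4 ^ m - 1 := by
      rw [Finset.filter_ne', Finset.card_erase_of_mem (Finset.mem_univ _), Finset.card_univ, hU]
    rw [h3, mul_comm]
  have hN2 : ∑ v : U, ∑ Q : QF D.β, (if v ≠ 0 ∧ Fx v Q then 1 else 0) =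
      ∑ Q : QF D.β, s Q := by
    rw [Finset.sum_comm]
    refine Finset.sum_congr rfl fun Q _ => ?_
    simp only [s]
    rw [Finset.card_filter]
  -- class sums
  have hclass : ∀ Q₀ : QF D.β,
      2 ^ (m - 1) ∣ ∑ Q ∈ Finset.univ.filter (fun Q => SameType Q₀ Q), s Q := by
    intro Q₀
    have h1 : ∑ Q ∈ Finset.univ.filter (fun Q => SameType Q₀ Q), s Q =
        (Finset.univ.filter (fun Q => SameType Q₀ Q)).card * s Q₀ := by
      rw [Finset.sum_congr rfl
        (fun Q hQ => (hs_eq Q₀ Q (Finset.mem_filter.mp hQ).2).symm), Finset.sum_const,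
        smul_eq_mul]
    have h2 : (Finset.univ.filter (fun Q => SameType Q₀ Q)).card =
        Nat.card {Q' : QF D.β // SameType Q₀ Q'} := by
      rw [Nat.card_eq_fintype_card, Fintype.card_subtype]
    rw [h1, h2]
    by_cases hpos : 0 < gsum Q₀
    · rw [(hcls Q₀).1 hpos]
      exact dvd_mul_of_dvd_left (dvd_mul_right _ _) _
    · rw [(hcls Q₀).2 hpos]
      exact dvd_mul_of_dvd_left (dvd_mul_right _ _) _
  have hpart : ∀ (p : QF D.β → Prop) [DecidablePred p],
      (∀ Q Q', p Q → (p Q' ↔ SameType Q Q')) →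
      2 ^ (m - 1) ∣ ∑ Q ∈ Finset.univ.filter p, s Q := by
    intro p _ hp
    by_cases hne : ∃ Q₀, p Q₀
    · obtain ⟨Q₀, hQ₀⟩ := hne
      have h1 : Finset.univ.filter p = Finset.univ.filter (fun Q => SameType Q₀ Q) := by
        apply Finset.filter_congr
        intro Q _
        exact hp Q₀ Q hQ₀
      rw [h1]
      exact hclass Q₀
    · push Not at hne
      rw [Finset.filter_false_of_mem (fun Q _ => hne Q)]
      simp
  have htot : 2 ^ (m - 1) ∣ 2 * (4 ^ m - 1) := by
    rw [← hN1, hN2,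
      ← Finset.sum_filter_add_sum_filter_not Finset.univ (fun Q : QF D.β => 0 < gsum Q)]
    have hA : 2 ^ (m - 1) ∣ ∑ Q ∈ Finset.univ.filter (fun Q : QF D.β => 0 < gsum Q), s Q := by
      apply hpart
      intro Q Q' hQ
      unfold SameType
      tauto
    have hB : 2 ^ (m - 1) ∣ ∑ Q ∈ Finset.univ.filter (fun Q : QF D.β => ¬ 0 < gsum Q), s Q := by
      apply hpart
      intro Q Q' hQ
      unfold SameType
      tauto
    exact dvd_add hA hB
  -- arithmetic
  have h4 : 4 ∣ 2 ^ (m - 1) := by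
    have h1 : (2 : ℕ) ^ 2 ∣ 2 ^ (m - 1) := pow_dvd_pow 2 (by omega)
    simpa using h1
  obtain ⟨c, hc⟩ := h4.trans htot
  have h4m : 4 ^ m = 4 * 4 ^ (m - 1) := by
    rw [← pow_succ']
    congr 1
    omega
  have hq : 1 ≤ 4 ^ (m - 1) := Nat.one_le_pow _ _ (by norm_num)
  omega

end Cfsg.Agent.Lib.Helper79_Sp2_COUNT
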