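import Mathlib
import Cfsg.Agent.Lib.Helper85_Sp2Defs
import Cfsg.Agent.Lib.Helper85_Sp2Basic
import Cfsg.Prelude.Def_Classical

/-!
# S2142, package QFEX (architect helper85; formalized by helper79): forms exist
-/

set_option autoImplicit false

namespace Cfsg.Agent.Lib.Helper79_Sp2_QFEX

open Cfsg.Agent.Lib.Helper85_Sp2Defs Cfsg.Agent.Lib.Helper85_Sp2Basic

variable {𝒢 : Type*} {F : Type*} {U : Type*} [Group 𝒢] [Field F] [Fintype F]
  [AddCommGroup U] [Module F U] [Fintype U]

theorem exists_QF (hF : Fintype.card F = 2) (D : SpAct 𝒢 F U) : Nonempty (QF D.β) := by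
  classical
  have : Module.Finite F U := Module.Finite.of_finite
  let b := Module.finBasis F U
  let M : Matrix (Fin (Module.finrank F U)) (Fin (Module.finrank F U)) F :=
    fun i j => if i < j then D.β (b i) (b j) else 0
  let γ : LinearMap.BilinForm F U := Matrix.toBilin b M
  have hγ : ∀ i j, γ (b i) (b j) = M i j := by
    intro i j
    rw [← LinearMap.BilinForm.toMatrix_apply b γ i j]
    show LinearMap.BilinForm.toMatrix b (Matrix.toBilin b M) i j = M i j
    rw [LinearMap.BilinForm.toMatrix_toBilin]
  have hsum : γ + γ.flip = D.β := by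
    apply LinearMap.BilinForm.ext_basis b
    intro i j
    simp only [LinearMap.add_apply, LinearMap.BilinForm.flip_apply, hγ, M]
    rcases lt_trichotomy i j with h | h | h
    · rw [if_pos h, if_neg (not_lt.mpr h.le), add_zero]
    · subst h
      rw [if_neg (lt_irrefl _), add_zero, D.alt]
    · rw [if_neg (not_lt.mpr h.le), if_pos h, zero_add]
      exact beta_symm hF D _ _
  refine ⟨⟨fun x => γ x x, ?_⟩⟩
  intro x y
  have h1 : γ x y + γ y x = D.β x y := by
    have := congrArg (fun B : LinearMap.BilinForm F U => B x y) hsum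
    simpa [LinearMap.add_apply, LinearMap.BilinForm.flip_apply] using this
  show γ (x + y) (x + y) = γ x x + γ y y + D.β x y
  rw [← h1]
  simp only [map_add, LinearMap.add_apply]
  ring

end Cfsg.Agent.Lib.Helper79_Sp2_QFEX
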