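import Mathlib
import Cfsg.Agent.Lib.Helper65_U3Defs
import Cfsg.Agent.Lib.Helper17_Sylow
import Cfsg.Agent.Lib.Helper65_U3A_BAS3

set_option autoImplicit false
set_option linter.unusedSectionVars false
set_option linter.unusedVariables false

/-!
# S2148 abstract half, package S5Q11 (architect helper65; formalized by helper79)

`q = 11`, `|H ⊓ Q| = 11`, `|H ⊓ T| = 10`: `|H| = 1332 * 110 = 2^3 3^2 5 11 37`.  `n_37 ∈ {1, 3960}`.
`n_37 = 1`: S2H gives `11 ∣ 36`.  `n_37 = 3960`: there are `3960 * 36` elements of order `37`; the Sylow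
`11`-subgroup `H ⊓ Q` fixes only `u`, so its normalizer in `H` lies in `H ⊓ B` (order `110`), hence
`n_11 ≥ 1332` and there are at least `13320` elements of order `11`: too many elements.
-/

open Cfsg.Agent.Lib.Helper65_U3Defs

namespace Cfsg.Agent.Lib.Helper79_U3A_S5Q11

variable {p q : ℕ} {F G U : Type*} [Field F] [Group G] [MulAction G U]
variable {D : U3Data p q F G U} {H : Subgroup G}

theorem candidates37 : Cfsg.Agent.Lib.Helper17_Sylow.sylowCandidates 37 3960 = [1, 3960] := by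
  decide +kernel

/-- inner form: the facts of BAS3, S2E, S2H used enter as hypotheses. -/
theorem step5_q11_aux [Finite G]
    (hcardH : Nat.card ↥H = 146520)
    (hS2H : ∀ S : Subgroup G, S ≤ H → Nat.card ↥S = 37 →
      (∀ h ∈ H, ∀ s ∈ S, h * s * h⁻¹ ∈ S) → Nat.card ↥(H ⊓ D.Q) ∣ 37 - 1)
    (hQfix : ∀ {z : G}, z ∈ D.Q → z ≠ 1 → ∀ {w : U}, z • w = w → w = D.u)
    (hB : Nat.card ↥(H ⊓ D.B) = 110)
    (hr : Nat.card ↥(H ⊓ D.Q) = 11) : False := by
  classical
  have : Fact (Nat.Prime 37) := ⟨by norm_num⟩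
  have : Fact (Nat.Prime 11) := ⟨by norm_num⟩
  have hH37 : Nat.card ↥H = 37 ^ 1 * 3960 := by rw [hcardH]; norm_num
  have hH11 : Nat.card ↥H = 11 ^ 1 * 13320 := by rw [hcardH]; norm_num
  have hcardsub : ∀ K : Subgroup G, Nat.card ↥((H ⊓ K).subgroupOf H) = Nat.card ↥(H ⊓ K) :=
    fun K => Nat.card_congr (Subgroup.subgroupOfEquivOfLe inf_le_left).toEquiv
  have hcand := Cfsg.Agent.Lib.Helper17_Sylow.card_sylow_mem_candidates hH37 (by norm_num)
  rw [candidates37] at hcand
  simp only [List.mem_cons, List.not_mem_nil, or_false] at hcand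
  rcases hcand with h1 | h3960
  · -- a normal Sylow 37-subgroup
    obtain ⟨P⟩ : Nonempty (Sylow 37 ↥H) := inferInstance
    have hPcard : Nat.card ↥(P : Subgroup ↥H) = 37 := by
      have := Cfsg.Agent.Lib.Helper17_Sylow.card_sylow_eq_pow hH37 (by norm_num) P
      simpa using this
    have hNtop : Subgroup.normalizer ((P : Subgroup ↥H) : Set ↥H) = ⊤ := by
      have h2 := Cfsg.Agent.Lib.Helper17_Sylow.card_normalizer_mul_card_sylow P
      rw [h1, mul_one] at h2
      exact Subgroup.eq_top_of_card_eq _ h2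
    have hPn : (P : Subgroup ↥H).Normal := Subgroup.normalizer_eq_top_iff.mp hNtop
    have hdvd := hS2H ((P : Subgroup ↥H).map H.subtype) (Subgroup.map_subtype_le _)
      (by
        rw [Subgroup.card_map_of_injective (Subgroup.subtype_injective H)]
        exact hPcard)
      (by
        rintro h hh s ⟨s', hs', rfl⟩
        refine ⟨(⟨h, hh⟩ : ↥H) * s' * (⟨h, hh⟩ : ↥H)⁻¹, hPn.conj_mem s' hs' ⟨h, hh⟩, ?_⟩
        simp)
    rw [hr] at hdvd
    omega
  · -- 3960 Sylow 37-subgroups
    have h37 : Nat.card {g : ↥H // orderOf g = 37} = 3960 * 36 := by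
      rw [Cfsg.Agent.Lib.Helper17_Sylow.card_orderOf_eq_prime (p := 37), h3960]
      intro P
      have := Cfsg.Agent.Lib.Helper17_Sylow.card_sylow_eq_pow hH37 (by norm_num) P
      simpa using this
    -- the Sylow 11-subgroup
    have hR11 : IsPGroup 11 ↥((H ⊓ D.Q).subgroupOf H) := by
      apply IsPGroup.of_card (n := 1)
      rw [hcardsub, hr, pow_one]
    obtain ⟨P, hRP⟩ := hR11.exists_le_sylow
    have hPcard : Nat.card ↥(P : Subgroup ↥H) = 11 := by
      have := Cfsg.Agent.Lib.Helper17_Sylow.card_sylow_eq_pow hH11 (by norm_num) P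
      simpa using this
    have hRcard : Nat.card ↥((H ⊓ D.Q).subgroupOf H) = 11 := by
      rw [hcardsub]
      exact hr
    have hReq : (H ⊓ D.Q).subgroupOf H = (P : Subgroup ↥H) :=
      Subgroup.eq_of_le_of_card_ge hRP (by rw [hPcard, hRcard])
    -- a nonidentity element of it
    obtain ⟨⟨z, hzP⟩, hz1⟩ : ∃ z : ↥(P : Subgroup ↥H), z ≠ 1 := by
      have : Nontrivial ↥(P : Subgroup ↥H) := by
        rw [← Finite.one_lt_card_iff_nontrivial, hPcard]
        norm_num
      exact exists_ne 1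
    have hz1' : (z : G) ≠ 1 := by
      intro hh
      apply hz1
      apply Subtype.ext
      apply Subtype.ext
      simpa using hh
    -- the normalizer lies in the stabilizer of `u`
    have hNle : Subgroup.normalizer ((P : Subgroup ↥H) : Set ↥H) ≤ (H ⊓ D.B).subgroupOf H := by
      intro g hg
      rw [Subgroup.mem_subgroupOf]
      refine ⟨g.2, ?_⟩
      apply D.mem_B.mpr
      have h2 : g⁻¹ * z * (g⁻¹)⁻¹ ∈ (P : Subgroup ↥H) := by
        have := (Subgroup.mem_normalizer_iff.mp (Subgroup.inv_mem _ hg)) z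
        exact this.1 hzP
      rw [← hReq, Subgroup.mem_subgroupOf] at h2 hzP
      have h3 : ((g⁻¹ * z * (g⁻¹)⁻¹ : ↥H) : G) • D.u = D.u := by
        have := (D.Q_le_B h2.2)
        rwa [D.mem_B] at this
      have h4 : (z : G) • ((g : G) • D.u) = (g : G) • D.u := by
        have e : ((g⁻¹ * z * (g⁻¹)⁻¹ : ↥H) : G) = (g : G)⁻¹ * (z : G) * (g : G) := by
          simp
        rw [e, mul_smul, mul_smul, inv_smul_eq_iff] at h3
        exact h3
      exact hQfix hzP.2 hz1' h4
    have hNcard : Nat.card ↥(Subgroup.normalizer ((P : Subgroup ↥H) : Set ↥H)) ≤ 110 := by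
      have := Subgroup.card_le_of_le hNle
      rwa [hcardsub, hB] at this
    have hprod := Cfsg.Agent.Lib.Helper17_Sylow.card_normalizer_mul_card_sylow P
    rw [hcardH] at hprod
    have hn11 : 1332 ≤ Nat.card (Sylow 11 ↥H) := by
      by_contra hlt
      push Not at hlt
      have : Nat.card ↥(Subgroup.normalizer ((P : Subgroup ↥H) : Set ↥H)) *
          Nat.card (Sylow 11 ↥H) ≤ 110 * 1331 :=
        Nat.mul_le_mul hNcard (by omega)
      omega
    have h11 : Nat.card {g : ↥H // orderOf g = 11} = Nat.card (Sylow 11 ↥H) * 10 := by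
      rw [Cfsg.Agent.Lib.Helper17_Sylow.card_orderOf_eq_prime (p := 11)]
      intro P'
      have := Cfsg.Agent.Lib.Helper17_Sylow.card_sylow_eq_pow hH11 (by norm_num) P'
      simpa using this
    have hsum := Cfsg.Agent.Lib.Helper17_Sylow.sum_card_orderOf_le (G := ↥H) {37, 11}
    rw [Finset.sum_pair (by norm_num), h37, h11, hcardH] at hsum
    omega

/-- `step5_q11` with the facts of BAS4 (`card_T`), S2E (`good_card_H`) and S2H
(`good_card_dvd_of_normal`) as hypotheses, in exactly the shape of the package statements; BAS3 is used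
from main.  The verbatim wrapper `step5_q11` is added when BAS4, S2E, S2H are on main. -/
theorem step5_q11_of
    (hcard_T : Nat.card ↥D.T * Nat.gcd 3 (q + 1) = q ^ 2 - 1)
    (hgood_card_H : Nat.card ↥H = (q ^ 3 + 1) * (Nat.card ↥(H ⊓ D.Q) * Nat.card ↥(H ⊓ D.T)))
    (hS2H : ∀ {l : ℕ}, l.Prime → ¬ l ∣ q ^ 3 * Nat.card ↥D.T → ∀ S : Subgroup G, S ≤ H →
      Nat.card ↥S = l → (∀ h ∈ H, ∀ s ∈ S, h * s * h⁻¹ ∈ S) → Nat.card ↥(H ⊓ D.Q) ∣ l - 1)
    (hG : Good D H) (hq : q = 11) (hr : Nat.card ↥(H ⊓ D.Q) = 11)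
    (ht : Nat.card ↥(H ⊓ D.T) = 10) : False := by
  subst hq
  have := D.finG
  have hcardT : Nat.card ↥D.T = 40 := by
    have h1 := hcard_T
    have h3 : Nat.gcd 3 (11 + 1) = 3 := by decide
    rw [h3] at h1
    omega
  have hcardH : Nat.card ↥H = 146520 := by
    have h1 := hgood_card_H
    rw [hr, ht] at h1
    rw [h1]
    norm_num
  have hB : Nat.card ↥(H ⊓ D.B) = 110 := by
    rw [hG.split, hr, ht]
  refine step5_q11_aux (D := D) hcardH ?_
    (fun hz h1 _ hw => Cfsg.Agent.Lib.Helper65_U3A_BAS3.Q_fix D hz h1 hw) hB hr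
  intro S hSH hS hn
  refine hS2H (by norm_num) ?_ S hSH hS hn
  rw [hcardT]
  decide

end Cfsg.Agent.Lib.Helper79_U3A_S5Q11
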