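/-
S2150 package L-STAB2 (architect helper39): the stabiliser in `LL` of a non-isotropic vector
has order at most `q + 1`.
-/
import Mathlib
import Cfsg.Agent.Lib.Helper39_U4Defs
import Cfsg.Agent.Lib.Helper13_SUGen
import Cfsg.Agent.Lib.Helper94_HermTrans

set_option autoImplicit false

namespace Cfsg.Agent.Lib.Helper79_U4_LSTAB2

open Module Cfsg.Agent.Lib.Helper94_Symp Cfsg.Agent.Lib.Helper94_Herm
  Cfsg.Agent.Lib.Helper94_HermEich Cfsg.Agent.Lib.Helper94_HermOrth
  Cfsg.Agent.Lib.Helper13_SUGen Cfsg.Agent.Lib.Helper39_U4Defs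

variable {F W : Type*} [Field F] [AddCommGroup W] [Module F W] {σ : F →+* F}
  {h : W →ₗ[F] W →ₛₗ[σ] F} [Finite F] [FiniteDimensional F W]

/-- In a nondegenerate hermitian plane, an isometry of determinant one fixing a non-isotropic
vector is the identity. -/
theorem eq_one_of_fix (hh : IsHerm h) (hN : NondegOn h ⊤) (h2 : finrank F W = 2)
    {w : W} (hw : h w w ≠ 0) {g : W ≃ₗ[F] W} (hg : g ∈ uG h) (hgw : g w = w)
    (hdet : LinearEquiv.det g = 1) : g = 1 := by
  have hw0 : w ≠ 0 := by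
    rintro rfl
    exact hw (by simp)
  have hfr := finrank_orthS hh hN (Submodule.span F {w})
  rw [finrank_span_singleton hw0, h2] at hfr
  have hfr1 : finrank F ↥(orthS h (Submodule.span F {w})) = 1 := by omega
  have hpos : 0 < finrank F ↥(orthS h (Submodule.span F {w})) := by omega
  obtain ⟨⟨w', hw'mem⟩, hw'ne⟩ : ∃ x : ↥(orthS h (Submodule.span F {w})), x ≠ 0 :=
    Module.finrank_pos_iff_exists_ne_zero.mp hpos
  have hw'0 : w' ≠ 0 := fun h0 => hw'ne (Subtype.ext h0)
  have hall := (finrank_eq_one_iff_of_nonzero' (⟨w', hw'mem⟩ : ↥(orthS h (Submodule.span F {w})))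
    hw'ne).mp hfr1
  have hww' : h w w' = 0 := (mem_orthS.mp hw'mem) w (Submodule.mem_span_singleton_self w)
  have hw'w : h w' w = 0 := herm_eq_zero hh hww'
  -- `g w'` is orthogonal to `w`
  have hgmem : g w' ∈ orthS h (Submodule.span F {w}) := by
    rw [mem_orthS]
    intro x hx
    obtain ⟨a, rfl⟩ := Submodule.mem_span_singleton.mp hx
    rw [map_smul, LinearMap.smul_apply]
    have : h w (g w') = 0 := by
      have := hg w w'
      rw [hgw] at this
      rw [this, hww']
    rw [this, smul_zero]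
  obtain ⟨d, hd⟩ := hall ⟨g w', hgmem⟩
  have hd' : g w' = d • w' := by
    have := congrArg Subtype.val hd
    simpa using this.symm
  -- basis
  have hli : LinearIndependent F ![w, w'] := by
    rw [LinearIndependent.pair_iff]
    intro s t hst
    have h1 : h (s • w + t • w') w = 0 := by rw [hst]; simp
    rw [map_add, LinearMap.add_apply, map_smul, map_smul, LinearMap.smul_apply,
      LinearMap.smul_apply, hw'w, smul_zero, add_zero, smul_eq_mul] at h1
    have hs : s = 0 := by
      rcases mul_eq_zero.mp h1 with h0 | h0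
      · exact h0
      · exact absurd h0 hw
    subst hs
    rw [zero_smul, zero_add] at hst
    rcases smul_eq_zero.mp hst with h0 | h0
    · exact ⟨rfl, h0⟩
    · exact absurd h0 hw'0
  let b : Basis (Fin 2) F W := basisOfLinearIndependentOfCardEqFinrank hli (by simp [h2])
  have hb0 : b 0 = w := by simp [b]
  have hb1 : b 1 = w' := by simp [b]
  have hdetd : LinearMap.det (g : W →ₗ[F] W) = d := by
    rw [← LinearMap.det_toMatrix b, Matrix.det_fin_two]
    simp only [LinearMap.toMatrix_apply, LinearEquiv.coe_coe, hb0, hb1, hgw, hd']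
    rw [← hb0, ← hb1]
    simp
  have hd1 : d = 1 := by
    have := congrArg Units.val hdet
    rw [LinearEquiv.coe_det, hdetd] at this
    simpa using this
  apply b.ext'
  intro i
  fin_cases i
  · show g (b 0) = (1 : W ≃ₗ[F] W) (b 0)
    rw [hb0, hgw]; rfl
  · show g (b 1) = (1 : W ≃ₗ[F] W) (b 1)
    rw [hb1, hd', hd1, one_smul]; rfl

/-- L-STAB2 (L3): the stabiliser in `LL` of a non-isotropic vector has order `≤ q + 1`. -/
theorem stab_vec_LL {q : ℕ} (hσ : Invol σ) (hh : IsHerm h) (hN : NondegOn h ⊤) (h2 : finrank F W = 2)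
    (hq : Nat.card F = q ^ 2) (hσq : ∀ x, σ x = x ^ q) {w : W} (hw : h w w ≠ 0) :
    Nat.card {p : ↥(LL h) // σ ((p : Fˣ × (W ≃ₗ[F] W)).1 : F) • (p : Fˣ × (W ≃ₗ[F] W)).2 w = w} ≤ q + 1 := by
  classical
  have hFin : Fintype F := Fintype.ofFinite F
  -- the target: `(q+1)`-th roots of unity
  have hroots : Nat.card {c : F // c ^ (q + 1) = 1} ≤ q + 1 := by
    rw [Nat.subtype_card (Polynomial.nthRoots (q + 1) (1 : F)).toFinset (by
      intro x
      rw [Multiset.mem_toFinset, Polynomial.mem_nthRoots (Nat.succ_pos q)])]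
    exact (Multiset.toFinset_card_le _).trans (Polynomial.card_nthRoots _ _)
  -- the norm-one property
  have hnorm : ∀ p : {p : ↥(LL h) // σ ((p : Fˣ × (W ≃ₗ[F] W)).1 : F) •
      (p : Fˣ × (W ≃ₗ[F] W)).2 w = w}, (((p : ↥(LL h)) : Fˣ × (W ≃ₗ[F] W)).1 : F) ^ (q + 1) = 1 := by
    rintro ⟨⟨⟨c, k⟩, hpL⟩, hp⟩
    simp only at hp ⊢
    have hk : k ∈ uG h := (mem_LL.mp hpL).1
    have h1 : h w w = (σ (c : F) * σ (σ (c : F))) * h w w := by
      conv_lhs => rw [← hp]
      rw [self_smul, hk]
    rw [hσ.invol] at h1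
    have h3 : σ (c : F) * (c : F) = 1 := by
      have h4 : (σ (c : F) * (c : F) - 1) * h w w = 0 := by
        rw [sub_mul, one_mul, ← h1, sub_self]
      rcases mul_eq_zero.mp h4 with h5 | h5
      · exact sub_eq_zero.mp h5
      · exact absurd h5 hw
    rw [pow_succ, ← hσq]
    exact h3
  let f : {p : ↥(LL h) // σ ((p : Fˣ × (W ≃ₗ[F] W)).1 : F) • (p : Fˣ × (W ≃ₗ[F] W)).2 w = w} →
      {c : F // c ^ (q + 1) = 1} := fun p => ⟨_, hnorm p⟩
  have hf : Function.Injective f := by
    rintro ⟨⟨⟨c, k⟩, hpL⟩, hp⟩ ⟨⟨⟨c', k'⟩, hpL'⟩, hp'⟩ hff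
    have hcc : (c : F) = (c' : F) := congrArg Subtype.val hff
    have hc : c = c' := Units.ext hcc
    subst hc
    simp only at hp hp'
    obtain ⟨hk, hkd⟩ := mem_LL.mp hpL
    obtain ⟨hk', hkd'⟩ := mem_LL.mp hpL'
    simp only at hk hkd hk' hkd'
    have hσc : σ (c : F) ≠ 0 := (map_ne_zero σ).mpr c.ne_zero
    have hkw : k w = k' w := by
      have : σ (c : F) • k w = σ (c : F) • k' w := by rw [hp, hp']
      exact smul_right_injective W hσc this
    have hdd : LinearEquiv.det k = LinearEquiv.det k' := by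
      apply Units.ext
      have : ((LinearEquiv.det k : Fˣ) : F) * (c : F) = ((LinearEquiv.det k' : Fˣ) : F) * (c : F) := by
        rw [hkd, hkd']
      exact mul_right_cancel₀ c.ne_zero this
    have hg1 : k⁻¹ * k' = 1 := by
      apply eq_one_of_fix hh hN h2 hw ((uG h).mul_mem ((uG h).inv_mem hk) hk')
      · rw [LinearEquiv.mul_apply, ← hkw]
        have : k⁻¹ (k w) = (k⁻¹ * k) w := rfl
        rw [this, inv_mul_cancel]; rfl
      · rw [map_mul, map_inv, hdd, inv_mul_cancel]
    have hkk : k = k' := by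
      have := congrArg (fun x => k * x) hg1
      simpa [mul_assoc] using this.symm
    subst hkk
    rfl
  exact (Nat.card_le_card_of_injective f hf).trans hroots

end Cfsg.Agent.Lib.Helper79_U4_LSTAB2
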