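import Mathlib
import Cfsg.Agent.Lib.Helper17_Sylow
import Cfsg.Agent.Lib.Helper21_SCNCDefs

/-!
# A7 market (helper62, row S0984), package L3ABR: the `a, b, r` configuration in `N(P₃)` is impossible.

Route (slightly shorter than the package sketch): `|C(a)| = 24`; `⟨r⟩` is the only Sylow 3-subgroup of `C(a)`
(its normalizer in `C(a)` contains `⟨r⟩` and the four-group `⟨a, b⟩`), so `C(a) ∩ C(r)` has index at most 2 in
`C(a)` and `4 ∣ |C(r)|`; `36 ∣ |C(r)| ∣ 72`, and `|N(⟨r⟩)| = 2 |C(r)|` divides 2520, so `|C(r)| = 36`; then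
`P ⊴ C(r)` by Sylow counting, `C(r) = N(P) ∋ b`: contradiction.
-/

set_option autoImplicit false

namespace Cfsg.Agent.Lib.Helper7_A7_L3ABR

open Subgroup

section general

variable {G : Type*} [Group G]

/-- Sylow counting inside a subgroup `H`: if `Q ≤ H` has the order of a Sylow `p`-subgroup of `H`, the number
`|H : N_H(Q)|` of `H`-conjugates of `Q` is `≡ 1 (mod p)`. -/
theorem relIndex_normalizer_modEq_one [Finite G] {p k m : ℕ} [hp : Fact p.Prime]
    (H Q : Subgroup G) (hQH : Q ≤ H) (hH : Nat.card H = p ^ k * m) (hm : ¬ p ∣ m)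
    (hQ : Nat.card Q = p ^ k) :
    (H ⊓ normalizer (Q : Set G)).relIndex H ≡ 1 [MOD p] := by
  have hQ'card : Nat.card (Q.subgroupOf H) = p ^ k := by
    rw [← hQ]; exact Nat.card_congr (Subgroup.subgroupOfEquivOfLe hQH).toEquiv
  have hQ'p : IsPGroup p (Q.subgroupOf H) := IsPGroup.of_card hQ'card
  obtain ⟨S, hS⟩ := hQ'p.exists_le_sylow
  have hScard : Nat.card (S : Subgroup H) = p ^ k :=
    Cfsg.Agent.Lib.Helper17_Sylow.card_sylow_eq_pow hH hm S
  have hSQ : Q.subgroupOf H = (S : Subgroup H) := by
    apply Subgroup.eq_of_le_of_card_ge hS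
    rw [hScard, hQ'card]
  have h1 := card_sylow_modEq_one p H
  rw [Sylow.card_eq_index_normalizer S] at h1
  rw [Subgroup.inf_relIndex_left]
  have h2 : normalizer ((S : Subgroup H) : Set H) = (normalizer (Q : Set G)).subgroupOf H := by
    rw [← hSQ, ← Subgroup.subgroupOf_normalizer_eq hQH]
  have h3 : (normalizer (Q : Set G)).relIndex H
      = (normalizer ((S : Subgroup H) : Set H)).index := by
    rw [h2]; rfl
  rw [h3]
  exact h1

/-- If every element of prime order `q` has centralizer of order `q`, then `q` does not divide the order of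
the centralizer of an element whose order does not divide `q`. -/
theorem not_dvd_card_centralizer [Finite G] {q : ℕ} [hq : Fact q.Prime]
    (hcq : ∀ y : G, orderOf y = q → Nat.card (centralizer ({y} : Set G)) = q)
    (x : G) (hx : ¬ orderOf x ∣ q) : ¬ q ∣ Nat.card (centralizer ({x} : Set G)) := by
  intro hdvd
  obtain ⟨y, hy⟩ := exists_prime_orderOf_dvd_card' q hdvd
  have hyq : orderOf (y : G) = q := by rw [Subgroup.orderOf_coe]; exact hy
  have hcomm : x * (y : G) = (y : G) * x :=
    (mem_centralizer_iff.mp y.2) x (Set.mem_singleton x)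
  have hxC : x ∈ centralizer ({(y : G)} : Set G) := by
    rw [mem_centralizer_iff]
    intro h hh
    rw [Set.mem_singleton_iff] at hh
    subst hh
    exact hcomm.symm
  have h1 := orderOf_dvd_natCard (⟨x, hxC⟩ : centralizer ({(y : G)} : Set G))
  rw [Subgroup.orderOf_mk, hcq _ hyq] at h1
  exact hx h1

/-- conjugation by `x` preserves `⟨r⟩` as soon as it maps `r` into `⟨r⟩` -/
theorem conj_mem_zpowers {x r : G} (h : x * r * x⁻¹ ∈ zpowers r) :
    ∀ n ∈ ((zpowers r : Subgroup G) : Set G), x * n * x⁻¹ ∈ ((zpowers r : Subgroup G) : Set G) := by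
  intro n hn
  obtain ⟨k, rfl⟩ := mem_zpowers_iff.mp hn
  have h1 := map_zpow (MulAut.conj x) r k
  simp only [MulAut.conj_apply] at h1
  rw [SetLike.mem_coe, h1]
  exact zpow_mem h k

theorem centralizer_zpowers (r : G) :
    centralizer ((zpowers r : Subgroup G) : Set G) = centralizer ({r} : Set G) := by
  ext x
  rw [mem_centralizer_iff, mem_centralizer_iff]
  constructor
  · intro h y hy
    rw [Set.mem_singleton_iff] at hy
    subst hy
    exact h y (mem_zpowers y)
  · intro h y hy
    obtain ⟨k, rfl⟩ := mem_zpowers_iff.mp hy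
    have h1 : Commute r x := h r (Set.mem_singleton r)
    exact (h1.zpow_left k).eq

theorem arith24 (d : ℕ) (h : d ∣ 2520) (h8 : 8 ∣ d) (h3 : 3 ∣ d) (h5 : ¬ 5 ∣ d) (h7 : ¬ 7 ∣ d)
    (h9 : ¬ 9 ∣ d) : d = 24 := by
  have h24 : 24 ∣ d := by
    have := Nat.Coprime.mul_dvd_of_dvd_of_dvd (by decide : Nat.Coprime 8 3) h8 h3
    simpa using this
  obtain ⟨k, rfl⟩ := h24
  have hk : k ∣ 105 := by
    have : 24 * k ∣ 24 * 105 := by simpa using h
    exact Nat.dvd_of_mul_dvd_mul_left (by norm_num) this
  have hk3 : ¬ 3 ∣ k := fun h => h9 (by omega)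
  have hk5 : ¬ 5 ∣ k := fun h => h5 (Dvd.dvd.mul_left h 24)
  have hk7 : ¬ 7 ∣ k := fun h => h7 (Dvd.dvd.mul_left h 24)
  have c3 : Nat.Coprime k 3 := ((Nat.Prime.coprime_iff_not_dvd Nat.prime_three).mpr hk3).symm
  have c5 : Nat.Coprime k 5 := ((Nat.Prime.coprime_iff_not_dvd Nat.prime_five).mpr hk5).symm
  have c7 : Nat.Coprime k 7 :=
    ((Nat.Prime.coprime_iff_not_dvd (by norm_num : Nat.Prime 7)).mpr hk7).symm
  have c105 : Nat.Coprime k 105 := by
    have := (c3.mul_right c5).mul_right c7
    simpa using this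
  have : k = 1 := Nat.Coprime.eq_one_of_dvd c105 hk
  rw [this]

theorem arith36 (m : ℕ) (h : m ∣ 2520) (h2 : m * 2 ∣ 2520) (h4 : 4 ∣ m) (h9 : 9 ∣ m)
    (h5 : ¬ 5 ∣ m) (h7 : ¬ 7 ∣ m) : m = 36 := by
  have h36 : 36 ∣ m := by
    have := Nat.Coprime.mul_dvd_of_dvd_of_dvd (by decide : Nat.Coprime 4 9) h4 h9
    simpa using this
  obtain ⟨j, rfl⟩ := h36
  have hj : j ∣ 70 := by
    have : 36 * j ∣ 36 * 70 := by simpa using h
    exact Nat.dvd_of_mul_dvd_mul_left (by norm_num) this
  have hj35 : 36 * j * 2 ∣ 36 * 2 * 35 := by simpa using h2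
  have hj' : j ∣ 35 := by
    have : 36 * 2 * j ∣ 36 * 2 * 35 := by
      have e : 36 * 2 * j = 36 * j * 2 := by ring
      rw [e]; exact hj35
    exact Nat.dvd_of_mul_dvd_mul_left (by norm_num) this
  have hj5 : ¬ 5 ∣ j := fun h => h5 (Dvd.dvd.mul_left h 36)
  have hj7 : ¬ 7 ∣ j := fun h => h7 (Dvd.dvd.mul_left h 36)
  have c5 : Nat.Coprime j 5 := ((Nat.Prime.coprime_iff_not_dvd Nat.prime_five).mpr hj5).symm
  have c7 : Nat.Coprime j 7 :=
    ((Nat.Prime.coprime_iff_not_dvd (by norm_num : Nat.Prime 7)).mpr hj7).symm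
  have c35 : Nat.Coprime j 35 := by
    have := c5.mul_right c7
    simpa using this
  have : j = 1 := Nat.Coprime.eq_one_of_dvd c35 hj'
  rw [this]

end general

theorem abr_false {G : Type*} [Group G] [Finite G] [IsSimpleGroup G] [Fact (Nat.Prime 3)]
    (hG : Nat.card G = 2520)
    (h5 : ∀ y : G, orderOf y = 5 → Nat.card (Subgroup.centralizer ({y} : Set G)) = 5)
    (h7 : ∀ x : G, orderOf x = 7 → Nat.card (Subgroup.centralizer ({x} : Set G)) = 7)
    (h2 : ∀ s t : G, orderOf s = 2 → orderOf t = 2 → IsConj s t)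
    (hnc : ∀ (Q : Sylow 3 G) (t : G), orderOf t = 2 →
      t ∉ Subgroup.centralizer ((Q : Subgroup G) : Set G))
    (P : Sylow 3 G) (hN : Nat.card (Subgroup.normalizer ((P : Subgroup G) : Set G)) = 36)
    (a b r : G) (ha : a ∈ Subgroup.normalizer ((P : Subgroup G) : Set G))
    (hb : b ∈ Subgroup.normalizer ((P : Subgroup G) : Set G)) (hr : r ∈ (P : Subgroup G))
    (ha2 : orderOf a = 2) (hb2 : orderOf b = 2) (hab : a * b = b * a) (hr3 : orderOf r = 3)
    (har : a * r = r * a) (hbr : b * r * b⁻¹ = r⁻¹) : False := by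
  classical
  have : Fact (Nat.Prime 2) := ⟨Nat.prime_two⟩
  have : Fact (Nat.Prime 5) := ⟨by norm_num⟩
  have : Fact (Nat.Prime 7) := ⟨by norm_num⟩
  -- basic facts
  have hrinv : r⁻¹ ≠ r := by
    intro h
    have h1 : r ^ 2 = 1 := by
      rw [pow_two]
      calc r * r = r⁻¹ * r := by rw [h]
        _ = 1 := inv_mul_cancel r
    have h2' := orderOf_dvd_of_pow_eq_one h1
    rw [hr3] at h2'
    exact absurd h2' (by decide)
  have hbM : b ∉ centralizer ({r} : Set G) := by
    intro h
    have h1 : r * b = b * r := (mem_centralizer_iff.mp h) r (Set.mem_singleton r)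
    apply hrinv
    rw [← hbr, ← h1, mul_inv_cancel_right]
  have hne : a ≠ b := by
    intro h
    apply hbM
    rw [← h, mem_centralizer_iff]
    intro y hy
    rw [Set.mem_singleton_iff] at hy
    subst hy
    exact har.symm
  -- the centralizer of `a`
  have haC : a ∈ centralizer ({a} : Set G) := by
    rw [mem_centralizer_iff]
    intro y hy
    rw [Set.mem_singleton_iff] at hy
    subst hy
    rfl
  have hrC : r ∈ centralizer ({a} : Set G) := by
    rw [mem_centralizer_iff]
    intro y hy
    rw [Set.mem_singleton_iff] at hy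
    subst hy
    exact har
  have hbC : b ∈ centralizer ({a} : Set G) := by
    rw [mem_centralizer_iff]
    intro y hy
    rw [Set.mem_singleton_iff] at hy
    subst hy
    exact hab
  -- `|C(a)| = 24`
  have h8 : 8 ∣ Nat.card (centralizer ({a} : Set G)) := by
    obtain ⟨T⟩ : Nonempty (Sylow 2 G) := inferInstance
    have hT8 : Nat.card (T : Subgroup G) = 8 :=
      Cfsg.Agent.Lib.Helper17_Sylow.card_sylow_eq_pow (p := 2) (k := 3) (m := 315)
        (by rw [hG]; norm_num) (by decide) T
    obtain ⟨j, hj0, hj⟩ := IsPGroup.card_center_eq_prime_pow (p := 2) (G := (T : Subgroup G))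
      (n := 3) (by rw [hT8]; norm_num) (by norm_num)
    have h2dvd : 2 ∣ Nat.card (Subgroup.center (T : Subgroup G)) := by
      rw [hj]; exact dvd_pow_self 2 (by omega)
    obtain ⟨z, hz⟩ := exists_prime_orderOf_dvd_card' 2 h2dvd
    have hzG2 : orderOf (((z : (T : Subgroup G)) : G)) = 2 := by
      rw [Subgroup.orderOf_coe, Subgroup.orderOf_coe]; exact hz
    have hTle : (T : Subgroup G) ≤ centralizer ({((z : (T : Subgroup G)) : G)} : Set G) := by
      intro x hx
      rw [mem_centralizer_iff]
      intro h hh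
      rw [Set.mem_singleton_iff] at hh
      subst hh
      have h1 := Subgroup.mem_center_iff.mp z.2 ⟨x, hx⟩
      have h2' := congrArg Subtype.val h1
      exact h2'.symm
    have h8z : 8 ∣ Nat.card (centralizer ({((z : (T : Subgroup G)) : G)} : Set G)) := by
      rw [← hT8]; exact Subgroup.card_dvd_of_le hTle
    obtain ⟨c, hc⟩ := isConj_iff.mp (h2 _ a hzG2 ha2)
    have h3 := Cfsg.Agent.Lib.Helper17_Sylow.card_centralizer_conj
      ((z : (T : Subgroup G)) : G) c⁻¹
    rw [inv_inv, hc] at h3
    rw [h3]; exact h8z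
  have h3 : 3 ∣ Nat.card (centralizer ({a} : Set G)) := by
    have := orderOf_dvd_natCard (⟨r, hrC⟩ : centralizer ({a} : Set G))
    rwa [Subgroup.orderOf_mk, hr3] at this
  have hCdvd : Nat.card (centralizer ({a} : Set G)) ∣ 2520 := by
    rw [← hG]; exact Subgroup.card_subgroup_dvd_card _
  have hC5 : ¬ 5 ∣ Nat.card (centralizer ({a} : Set G)) :=
    not_dvd_card_centralizer h5 a (by rw [ha2]; decide)
  have hC7 : ¬ 7 ∣ Nat.card (centralizer ({a} : Set G)) :=
    not_dvd_card_centralizer h7 a (by rw [ha2]; decide)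
  have hC9 : ¬ 9 ∣ Nat.card (centralizer ({a} : Set G)) := by
    intro h9
    obtain ⟨K, hK⟩ := Sylow.exists_subgroup_card_pow_prime 3 (n := 2)
      (G := centralizer ({a} : Set G)) (by norm_num; exact h9)
    have hK' : Nat.card (K.map (centralizer ({a} : Set G)).subtype) = 9 := by
      rw [Subgroup.card_map_of_injective (Subgroup.subtype_injective _), hK]; norm_num
    have hK'p : IsPGroup 3 (K.map (centralizer ({a} : Set G)).subtype) :=
      IsPGroup.of_card (n := 2) (by rw [hK']; norm_num)
    obtain ⟨Q, hQ⟩ := hK'p.exists_le_sylow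
    have hQ9 : Nat.card (Q : Subgroup G) = 9 :=
      Cfsg.Agent.Lib.Helper17_Sylow.card_sylow_eq_pow (p := 3) (k := 2) (m := 280)
        (by rw [hG]; norm_num) (by decide) Q
    have hQK : K.map (centralizer ({a} : Set G)).subtype = (Q : Subgroup G) :=
      Subgroup.eq_of_le_of_card_ge hQ (by rw [hQ9, hK'])
    apply hnc Q a ha2
    rw [mem_centralizer_iff]
    intro h hh
    have hh' : h ∈ K.map (centralizer ({a} : Set G)).subtype := by rw [hQK]; exact hh
    obtain ⟨k, -, rfl⟩ := hh'
    have := (mem_centralizer_iff.mp k.2) a (Set.mem_singleton a)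
    exact this.symm
  have hC24 : Nat.card (centralizer ({a} : Set G)) = 24 := arith24 _ hCdvd h8 h3 hC5 hC7 hC9
  -- `⟨r⟩` is normal in `C(a)`
  have hD3 : Nat.card (zpowers r) = 3 := by rw [Nat.card_zpowers, hr3]
  have hDC : zpowers r ≤ centralizer ({a} : Set G) := zpowers_le.mpr hrC
  have hV4 : Nat.card (closure ({a, b} : Set G)) = 4 :=
    Cfsg.Agent.Lib.Helper21_SCNC.card_closure_pair ha2 hb2 hne hab
  have haN : a ∈ normalizer ((zpowers r : Subgroup G) : Set G) := by
    apply mem_normalizer_fintype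
    apply conj_mem_zpowers
    have : a * r * a⁻¹ = r := by rw [har, mul_inv_cancel_right]
    rw [this]; exact mem_zpowers r
  have hbN : b ∈ normalizer ((zpowers r : Subgroup G) : Set G) := by
    apply mem_normalizer_fintype
    apply conj_mem_zpowers
    rw [hbr]; exact inv_mem (mem_zpowers r)
  have hVle : closure ({a, b} : Set G) ≤
      centralizer ({a} : Set G) ⊓ normalizer ((zpowers r : Subgroup G) : Set G) := by
    rw [closure_le]
    intro x hx
    rcases hx with rfl | hx
    · exact ⟨haC, haN⟩
    · rw [Set.mem_singleton_iff] at hx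
      subst hx
      exact ⟨hbC, hbN⟩
  have hDle : zpowers r ≤
      centralizer ({a} : Set G) ⊓ normalizer ((zpowers r : Subgroup G) : Set G) :=
    le_inf hDC le_normalizer
  have h12 : 12 ∣ Nat.card
      ↥(centralizer ({a} : Set G) ⊓ normalizer ((zpowers r : Subgroup G) : Set G)) := by
    have d3 : 3 ∣ Nat.card
        ↥(centralizer ({a} : Set G) ⊓ normalizer ((zpowers r : Subgroup G) : Set G)) := by
      rw [← hD3]; exact Subgroup.card_dvd_of_le hDle
    have d4 : 4 ∣ Nat.card
        ↥(centralizer ({a} : Set G) ⊓ normalizer ((zpowers r : Subgroup G) : Set G)) := by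
      rw [← hV4]; exact Subgroup.card_dvd_of_le hVle
    have := Nat.Coprime.mul_dvd_of_dvd_of_dvd (by decide : Nat.Coprime 3 4) d3 d4
    simpa using this
  have hCN : centralizer ({a} : Set G) ≤ normalizer ((zpowers r : Subgroup G) : Set G) := by
    have hmod := relIndex_normalizer_modEq_one (p := 3) (k := 1) (m := 8)
      (centralizer ({a} : Set G)) (zpowers r) hDC (by rw [hC24]; norm_num) (by decide)
      (by rw [hD3]; norm_num)
    have hmul := Cfsg.Agent.Lib.Helper17_Sylow.card_mul_relIndex_of_le
      (inf_le_left : centralizer ({a} : Set G) ⊓ normalizer ((zpowers r : Subgroup G) : Set G)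
        ≤ centralizer ({a} : Set G))
    rw [hC24] at hmul
    obtain ⟨j, hj⟩ := h12
    rw [hj] at hmul
    have hn1 : (centralizer ({a} : Set G) ⊓
        normalizer ((zpowers r : Subgroup G) : Set G)).relIndex (centralizer ({a} : Set G)) = 1 := by
      unfold Nat.ModEq at hmod
      have hle : (centralizer ({a} : Set G) ⊓
        normalizer ((zpowers r : Subgroup G) : Set G)).relIndex (centralizer ({a} : Set G)) ≤ 2 := by
        rcases Nat.eq_zero_or_pos j with hj0 | hj0
        · rw [hj0] at hmul; omega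
        · nlinarith
      interval_cases hx : (centralizer ({a} : Set G) ⊓
        normalizer ((zpowers r : Subgroup G) : Set G)).relIndex (centralizer ({a} : Set G))
      · omega
      · rfl
      · omega
    exact (relIndex_eq_one.mp hn1).trans inf_le_right
  -- every element of `C(a)` centralizes or inverts `r`
  have hconj : ∀ g ∈ centralizer ({a} : Set G), g * r * g⁻¹ = r ∨ g * r * g⁻¹ = r⁻¹ := by
    intro g hg
    have h1 : g * r * g⁻¹ ∈ zpowers r :=
      (mem_normalizer_iff.mp (hCN hg) r).mp (mem_zpowers r)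
    obtain ⟨k, hk⟩ := mem_zpowers_iff.mp h1
    have hord : orderOf (g * r * g⁻¹) = 3 := by
      rw [Cfsg.Agent.Lib.Helper17_Sylow.orderOf_conj', hr3]
    rw [← hk, ← zpow_mod_orderOf, hr3] at hord ⊢
    have h0 : 0 ≤ k % ((3 : ℕ) : ℤ) := Int.emod_nonneg _ (by norm_num)
    have h3' : k % ((3 : ℕ) : ℤ) < 3 := Int.emod_lt_of_pos _ (by norm_num)
    obtain ⟨n, hn⟩ : ∃ n : ℕ, k % ((3 : ℕ) : ℤ) = n := ⟨(k % ((3 : ℕ) : ℤ)).toNat, by omega⟩
    rw [hn, zpow_natCast] at hord ⊢
    have hn3 : n < 3 := by omega
    interval_cases n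
    · rw [pow_zero, orderOf_one] at hord; omega
    · left; rw [pow_one]
    · right
      rw [eq_inv_iff_mul_eq_one, ← pow_succ]
      have : r ^ 3 = 1 := by rw [← hr3]; exact pow_orderOf_eq_one r
      exact this
  -- `C(a) ∩ C(r)` has at least 12 elements
  have hKcard : 24 ≤ 2 * Nat.card
      ↥(centralizer ({a} : Set G) ⊓ centralizer ({r} : Set G)) := by
    have hb_inv : b⁻¹ = b := by
      rw [inv_eq_iff_mul_eq_one, ← pow_two, ← hb2]; exact pow_orderOf_eq_one b
    let φ : centralizer ({a} : Set G) →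
        ↥(centralizer ({a} : Set G) ⊓ centralizer ({r} : Set G)) × Bool := fun g =>
      if h : (g : G) ∈ centralizer ({r} : Set G) then (⟨g, ⟨g.2, h⟩⟩, true)
      else (⟨b * g, ⟨mul_mem hbC g.2, by
        show b * (g : G) ∈ centralizer ({r} : Set G)
        rw [mem_centralizer_iff]
        intro y hy
        rw [Set.mem_singleton_iff] at hy
        subst hy
        rcases hconj g g.2 with h1 | h1
        · exfalso
          apply h
          rw [mem_centralizer_iff]
          intro y hy
          rw [Set.mem_singleton_iff] at hy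
          subst hy
          calc y * (g : G) = (g : G) * y * (g : G)⁻¹ * (g : G) := by rw [h1]
            _ = (g : G) * y := by group
        · have h2' : (g : G) * y = y⁻¹ * (g : G) := by
            calc (g : G) * y = (g : G) * y * (g : G)⁻¹ * (g : G) := by group
              _ = y⁻¹ * (g : G) := by rw [h1]
          have h3' : b * y⁻¹ = y * b := by
            have : b * y * b⁻¹ = y⁻¹ := hbr
            calc b * y⁻¹ = b * (b * y * b⁻¹) := by rw [this]
              _ = (b * b) * y * b⁻¹ := by group
              _ = y * b := by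
                rw [hb_inv]
                have : b * b = 1 := by rw [← pow_two, ← hb2]; exact pow_orderOf_eq_one b
                rw [this, one_mul]
          calc y * (b * (g : G)) = (y * b) * (g : G) := by group
            _ = b * y⁻¹ * (g : G) := by rw [h3']
            _ = b * (y⁻¹ * (g : G)) := by group
            _ = b * ((g : G) * y) := by rw [h2']
            _ = b * (g : G) * y := by group⟩⟩, false)
    have hφ : Function.Injective φ := by
      intro g g' hgg
      by_cases h : (g : G) ∈ centralizer ({r} : Set G) <;>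
        by_cases h' : (g' : G) ∈ centralizer ({r} : Set G)
      · simp only [φ, dif_pos h, dif_pos h', Prod.mk.injEq, and_true] at hgg
        have h1 := congrArg
          (fun x : ↥(centralizer ({a} : Set G) ⊓ centralizer ({r} : Set G)) => (x : G)) hgg
        exact Subtype.ext h1
      · simp [φ, dif_pos h, dif_neg h'] at hgg
      · simp [φ, dif_neg h, dif_pos h'] at hgg
      · simp only [φ, dif_neg h, dif_neg h', Prod.mk.injEq, and_true] at hgg
        have h1 := congrArg
          (fun x : ↥(centralizer ({a} : Set G) ⊓ centralizer ({r} : Set G)) => (x : G)) hgg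
        exact Subtype.ext (mul_left_cancel h1)
    have hle := Nat.card_le_card_of_injective φ hφ
    rw [hC24, Nat.card_prod, Nat.card_eq_fintype_card (α := Bool), Fintype.card_bool] at hle
    omega
  -- the centralizer of `r`
  have hP9 : Nat.card (P : Subgroup G) = 9 :=
    Cfsg.Agent.Lib.Helper17_Sylow.card_sylow_eq_pow (p := 3) (k := 2) (m := 280)
      (by rw [hG]; norm_num) (by decide) P
  have hPM : (P : Subgroup G) ≤ centralizer ({r} : Set G) := by
    intro x hx
    rw [mem_centralizer_iff]
    intro y hy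
    rw [Set.mem_singleton_iff] at hy
    subst hy
    have hcomm : IsMulCommutative (P : Subgroup G) :=
      IsPGroup.isMulCommutative_of_card_eq_prime_sq (p := 3) (by rw [hP9]; norm_num)
    have := hcomm.is_comm.comm ⟨y, hr⟩ ⟨x, hx⟩
    exact congrArg Subtype.val this
  have haM : a ∈ centralizer ({r} : Set G) := by
    rw [mem_centralizer_iff]
    intro y hy
    rw [Set.mem_singleton_iff] at hy
    subst hy
    exact har.symm
  have hM9 : 9 ∣ Nat.card (centralizer ({r} : Set G)) := by
    rw [← hP9]; exact Subgroup.card_dvd_of_le hPM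
  have hM4 : 4 ∣ Nat.card (centralizer ({r} : Set G)) := by
    have h1 : Nat.card ↥(centralizer ({a} : Set G) ⊓ centralizer ({r} : Set G)) ∣ 24 := by
      rw [← hC24]; exact Subgroup.card_dvd_of_le inf_le_left
    have h2' : Nat.card ↥(centralizer ({a} : Set G) ⊓ centralizer ({r} : Set G)) ∣
        Nat.card (centralizer ({r} : Set G)) := Subgroup.card_dvd_of_le inf_le_right
    have h4 : 4 ∣ Nat.card ↥(centralizer ({a} : Set G) ⊓ centralizer ({r} : Set G)) := by
      obtain ⟨e, he⟩ := h1
      have hpos : 0 < Nat.card ↥(centralizer ({a} : Set G) ⊓ centralizer ({r} : Set G)) :=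
        Nat.card_pos
      have he2 : e ≤ 2 := by nlinarith
      interval_cases e
      · omega
      · omega
      · omega
    exact h4.trans h2'
  have hMdvd : Nat.card (centralizer ({r} : Set G)) ∣ 2520 := by
    rw [← hG]; exact Subgroup.card_subgroup_dvd_card _
  have hM5 : ¬ 5 ∣ Nat.card (centralizer ({r} : Set G)) :=
    not_dvd_card_centralizer h5 r (by rw [hr3]; decide)
  have hM7 : ¬ 7 ∣ Nat.card (centralizer ({r} : Set G)) :=
    not_dvd_card_centralizer h7 r (by rw [hr3]; decide)
  have hM2 : Nat.card (centralizer ({r} : Set G)) * 2 ∣ 2520 := by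
    have hrel := Cfsg.Agent.Lib.Helper17_Sylow.relIndex_centralizer_normalizer_dvd_pred (p := 3)
      (zpowers r) hD3
    rw [centralizer_zpowers] at hrel
    have hle : centralizer ({r} : Set G) ≤ normalizer ((zpowers r : Subgroup G) : Set G) := by
      rw [← centralizer_zpowers]; exact centralizer_le_normalizer _
    have hne1 : (centralizer ({r} : Set G)).relIndex
        (normalizer ((zpowers r : Subgroup G) : Set G)) ≠ 1 := by
      intro h
      exact hbM (relIndex_eq_one.mp h hbN)
    have h2' : (centralizer ({r} : Set G)).relIndex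
        (normalizer ((zpowers r : Subgroup G) : Set G)) = 2 := by
      have hle2 := Nat.le_of_dvd (by norm_num) hrel
      have hpos : 0 < (centralizer ({r} : Set G)).relIndex
        (normalizer ((zpowers r : Subgroup G) : Set G)) := Nat.pos_of_dvd_of_pos hrel (by norm_num)
      omega
    have hmul := Cfsg.Agent.Lib.Helper17_Sylow.card_mul_relIndex_of_le hle
    rw [h2'] at hmul
    rw [hmul, ← hG]
    exact Subgroup.card_subgroup_dvd_card _
  have hM36 : Nat.card (centralizer ({r} : Set G)) = 36 :=
    arith36 _ hMdvd hM2 hM4 hM9 hM5 hM7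
  -- `P` is normal in `C(r)`
  have hPle : (P : Subgroup G) ≤
      centralizer ({r} : Set G) ⊓ normalizer ((P : Subgroup G) : Set G) :=
    le_inf hPM le_normalizer
  have h18 : 18 ∣ Nat.card
      ↥(centralizer ({r} : Set G) ⊓ normalizer ((P : Subgroup G) : Set G)) := by
    have d9 : 9 ∣ Nat.card
        ↥(centralizer ({r} : Set G) ⊓ normalizer ((P : Subgroup G) : Set G)) := by
      rw [← hP9]; exact Subgroup.card_dvd_of_le hPle
    have d2 : 2 ∣ Nat.card
        ↥(centralizer ({r} : Set G) ⊓ normalizer ((P : Subgroup G) : Set G)) := by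
      have := orderOf_dvd_natCard (⟨a, ⟨haM, ha⟩⟩ :
        ↥(centralizer ({r} : Set G) ⊓ normalizer ((P : Subgroup G) : Set G)))
      rwa [← Subgroup.orderOf_coe, ha2] at this
    have := Nat.Coprime.mul_dvd_of_dvd_of_dvd (by decide : Nat.Coprime 9 2) d9 d2
    simpa using this
  have hMN : centralizer ({r} : Set G) ≤ normalizer ((P : Subgroup G) : Set G) := by
    have hmod := relIndex_normalizer_modEq_one (p := 3) (k := 2) (m := 4)
      (centralizer ({r} : Set G)) (P : Subgroup G) hPM (by rw [hM36]; norm_num) (by decide)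
      (by rw [hP9]; norm_num)
    have hmul := Cfsg.Agent.Lib.Helper17_Sylow.card_mul_relIndex_of_le
      (inf_le_left : centralizer ({r} : Set G) ⊓ normalizer ((P : Subgroup G) : Set G)
        ≤ centralizer ({r} : Set G))
    rw [hM36] at hmul
    obtain ⟨j, hj⟩ := h18
    rw [hj] at hmul
    have hn1 : (centralizer ({r} : Set G) ⊓
        normalizer ((P : Subgroup G) : Set G)).relIndex (centralizer ({r} : Set G)) = 1 := by
      unfold Nat.ModEq at hmod
      have hle : (centralizer ({r} : Set G) ⊓
        normalizer ((P : Subgroup G) : Set G)).relIndex (centralizer ({r} : Set G)) ≤ 2 := by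
        rcases Nat.eq_zero_or_pos j with hj0 | hj0
        · rw [hj0] at hmul; omega
        · nlinarith
      interval_cases hx : (centralizer ({r} : Set G) ⊓
        normalizer ((P : Subgroup G) : Set G)).relIndex (centralizer ({r} : Set G))
      · omega
      · rfl
      · omega
    exact (relIndex_eq_one.mp hn1).trans inf_le_right
  have hMeq : centralizer ({r} : Set G) = normalizer ((P : Subgroup G) : Set G) :=
    Subgroup.eq_of_le_of_card_ge hMN (by rw [hN, hM36])
  exact hbM (hMeq ▸ hb)

end Cfsg.Agent.Lib.Helper7_A7_L3ABR
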