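import Mathlib
import Cfsg.Agent.S0215
import Cfsg.Agent.Lib.Helper55_Ord8
import Cfsg.Agent.Lib.Helper17_Sylow

/-!
# A7 market (helper62, row S0984), package T2A: a Sylow 2-subgroup of a simple group of order 2520
containing an element of order 4 is dihedral of order 8 (via Glauberman's Z*-theorem S0215).
-/

set_option autoImplicit false

namespace Cfsg.Agent.Lib.Helper7_A7_T2A

open Subgroup Cfsg.Agent.Lib.Helper55_Ord8

variable {G : Type*} [Group G] [Finite G] [IsSimpleGroup G]

/-- Z*-theorem consequence: in a simple group of order 2520 every involution of a Sylow 2-subgroup `T`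
has a conjugate in `T` different from itself. -/
theorem exists_conj_ne (hG : Nat.card G = 2520) (T : Sylow 2 G) (u : G) (hu : orderOf u = 2)
    (huT : u ∈ (T : Subgroup G)) : ∃ g : G, g * u * g⁻¹ ∈ (T : Subgroup G) ∧ g * u * g⁻¹ ≠ u := by
  by_contra hcon
  push Not at hcon
  obtain ⟨N, hN, hodd, hcomm⟩ := Cfsg.Agent.S0215.result T u hu huT hcon
  have hNbot : N = ⊥ := by
    rcases hN.eq_bot_or_eq_top with h | h
    · exact h
    · exfalso
      rw [h, Subgroup.card_top, hG] at hodd
      exact absurd hodd (by decide)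
  have hcen : u ∈ Subgroup.center G := by
    rw [Subgroup.mem_center_iff]
    intro g
    have h1 := hcomm g
    rw [hNbot, Subgroup.mem_bot] at h1
    have h2 : u * g = g * u := by
      calc u * g = u * g * u⁻¹ * g⁻¹ * (g * u) := by group
        _ = g * u := by rw [h1, one_mul]
    exact h2.symm
  have hctop : Subgroup.center G = ⊤ := by
    rcases (inferInstance : (Subgroup.center G).Normal).eq_bot_or_eq_top with h | h
    · exfalso
      rw [h, Subgroup.mem_bot] at hcen
      rw [hcen, orderOf_one] at hu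
      omega
    · exact h
  have hcomm' : IsMulCommutative G := ⟨⟨fun a b => by
    have ha : a ∈ Subgroup.center G := by rw [hctop]; trivial
    exact (Subgroup.mem_center_iff.mp ha b).symm⟩⟩
  refine Cfsg.Agent.Lib.Helper17_Sylow.not_isMulCommutative_of_not_prime (G := G) ?_ hcomm'
  rw [hG]
  norm_num

theorem sylow2_dihedral [Fact (Nat.Prime 2)]
    (hG : Nat.card G = 2520) (hw : ∃ w : G, orderOf w = 4) (T : Sylow 2 G) :
    ∃ c a : G, c ∈ (T : Subgroup G) ∧ a ∈ (T : Subgroup G) ∧ orderOf c = 4 ∧ orderOf a = 2 ∧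
      a ∉ Subgroup.zpowers c ∧ a * c * a⁻¹ = c⁻¹ ∧
      ∀ x ∈ (T : Subgroup G), x ∉ Subgroup.zpowers c → x * x = 1 := by
  classical
  have hT8 : Nat.card (T : Subgroup G) = 8 :=
    Cfsg.Agent.Lib.Helper17_Sylow.card_sylow_eq_pow (p := 2) (k := 3) (m := 315)
      (by rw [hG]; norm_num) (by decide) T
  -- an element of order 4 in `T`
  obtain ⟨w, hw4⟩ := hw
  have hwp : IsPGroup 2 (Subgroup.zpowers w) := by
    refine IsPGroup.of_card (n := 2) ?_
    rw [Nat.card_zpowers, hw4]; norm_num
  obtain ⟨T', hT'⟩ := hwp.exists_le_sylow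
  obtain ⟨g, hg⟩ := MulAction.exists_smul_eq G T' T
  have hc0T : g * w * g⁻¹ ∈ (T : Subgroup G) := by
    rw [← hg, Sylow.coe_subgroup_smul]
    rw [Subgroup.mem_pointwise_smul_iff_inv_smul_mem]
    simp only [MulAut.smul_def, MulAut.conj_inv_apply]
    have : w ∈ (T' : Subgroup G) := hT' (Subgroup.mem_zpowers w)
    convert this using 1
    group
  set c0 : G := g * w * g⁻¹ with hc0
  have hc04 : orderOf c0 = 4 := by rw [hc0, orderOf_conj', hw4]
  -- `T` is not abelian
  have hnab : ¬ ∀ a b : (T : Subgroup G), a * b = b * a := by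
    intro hab
    have habG : ∀ a ∈ (T : Subgroup G), ∀ b ∈ (T : Subgroup G), a * b = b * a := by
      intro a ha b hb
      have := hab ⟨a, ha⟩ ⟨b, hb⟩
      exact congrArg Subtype.val this
    have hidx : (Subgroup.zpowers c0).relIndex (T : Subgroup G) = 2 := by
      have hle : Subgroup.zpowers c0 ≤ (T : Subgroup G) := Subgroup.zpowers_le.mpr hc0T
      have h1 := Cfsg.Agent.Lib.Helper17_Sylow.card_mul_relIndex_of_le hle
      rw [Nat.card_zpowers, hc04, hT8] at h1
      omega
    -- squares of elements of `T` lie in `⟨c0⟩`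
    have hsq : ∀ x ∈ (T : Subgroup G), x * x ∈ Subgroup.zpowers c0 := by
      intro x hx
      have hle : Subgroup.zpowers c0 ≤ (T : Subgroup G) := Subgroup.zpowers_le.mpr hc0T
      have hidx' : ((Subgroup.zpowers c0).subgroupOf (T : Subgroup G)).index = 2 := hidx
      have := (Subgroup.mul_self_mem_of_index_two hidx' ⟨x, hx⟩)
      rwa [Subgroup.mem_subgroupOf] at this
    by_cases hcyc : ∃ x ∈ (T : Subgroup G), x * x = c0 ∨ x * x = c0⁻¹
    · -- cyclic case: unique involution
      obtain ⟨x, hxT, hx⟩ := hcyc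
      have hx2 : orderOf (x ^ 2) = 4 := by
        rw [pow_two]
        rcases hx with h | h
        · rw [h, hc04]
        · rw [h, orderOf_inv, hc04]
      have hx8 : orderOf x = 8 := by
        have hdvd : orderOf x ∣ 8 := by
          have h1 : orderOf (⟨x, hxT⟩ : (T : Subgroup G)) ∣ Nat.card (T : Subgroup G) :=
            orderOf_dvd_natCard _
          rw [hT8, Subgroup.orderOf_mk] at h1
          exact h1
        have h2 : orderOf (x ^ 2) = orderOf x / Nat.gcd (orderOf x) 2 := orderOf_pow x
        rw [hx2] at h2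
        have hdvd' : orderOf x ∣ 2 ^ 3 := by norm_num; exact hdvd
        obtain ⟨k, hk3, hk⟩ := (Nat.dvd_prime_pow Nat.prime_two).mp hdvd'
        rw [hk] at h2 ⊢
        interval_cases k
        · norm_num at h2
        · norm_num at h2
        · norm_num at h2
        · norm_num
      have hTx : (T : Subgroup G) = Subgroup.zpowers x := by
        symm
        apply Subgroup.eq_of_le_of_card_ge (Subgroup.zpowers_le.mpr hxT)
        rw [Nat.card_zpowers, hx8, hT8]
      set u : G := x ^ 4 with hu
      have hu2 : orderOf u = 2 := by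
        rw [hu, orderOf_pow' x (by norm_num), hx8]; norm_num
      have huT : u ∈ (T : Subgroup G) := Subgroup.pow_mem _ hxT 4
      obtain ⟨k, hkT, hkne⟩ := exists_conj_ne hG T u hu2 huT
      apply hkne
      -- an involution of `⟨x⟩` is `x ^ 4`
      rw [hTx] at hkT
      obtain ⟨n, hn⟩ := Subgroup.mem_zpowers_iff.mp hkT
      have hord : orderOf (k * u * k⁻¹) = 2 := by rw [orderOf_conj', hu2]
      rw [← hn] at hord ⊢
      rw [← zpow_mod_orderOf, hx8] at hord ⊢
      have h0 : 0 ≤ n % ((8 : ℕ) : ℤ) := Int.emod_nonneg _ (by norm_num)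
      have h8 : n % ((8 : ℕ) : ℤ) < 8 := Int.emod_lt_of_pos _ (by norm_num)
      obtain ⟨m, hm⟩ : ∃ m : ℕ, n % ((8 : ℕ) : ℤ) = m := ⟨(n % ((8 : ℕ) : ℤ)).toNat, by omega⟩
      rw [hm, zpow_natCast] at hord ⊢
      have hm8 : m < 8 := by omega
      have hgcd : orderOf (x ^ m) = 8 / Nat.gcd 8 m := by rw [orderOf_pow, hx8]
      rw [hord] at hgcd
      interval_cases m
      · norm_num at hgcd
      · norm_num at hgcd
      · norm_num at hgcd
      · norm_num at hgcd
      · exact hu.symm
      · norm_num at hgcd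
      · norm_num at hgcd
      · norm_num at hgcd
    · -- noncyclic abelian case: `u = c0 ^ 2`
      push Not at hcyc
      have hsq' : ∀ x ∈ (T : Subgroup G), x * x = 1 ∨ x * x = c0 ^ 2 := by
        intro x hx
        rcases mem_zpowers_four hc04 (hsq x hx) with h | h | h | h
        · left; exact h
        · exact absurd h (hcyc x hx).1
        · right; exact h
        · rw [pow_three_eq_inv hc04] at h
          exact absurd h (hcyc x hx).2
      set u : G := c0 ^ 2 with hu
      have hu2 : orderOf u = 2 := orderOf_sq hc04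
      have huT : u ∈ (T : Subgroup G) := Subgroup.pow_mem _ hc0T 2
      obtain ⟨k, hkT, hkne⟩ := exists_conj_ne hG T u hu2 huT
      apply hkne
      have hTc : IsMulCommutative T := ⟨⟨fun a b => hab a b⟩⟩
      have hkT' : k⁻¹⁻¹ * u * k⁻¹ ∈ T := by
        rw [inv_inv]; exact hkT
      obtain ⟨n, hn, hnu⟩ := Sylow.conj_eq_normalizer_conj_of_mem T u k⁻¹ huT hkT'
      simp only [inv_inv] at hnu
      rw [hnu]
      -- `n⁻¹ * u * n` is the square of `n⁻¹ * c0 * n ∈ T`, of order 4
      have hn' : n⁻¹ ∈ Subgroup.normalizer ((T : Subgroup G) : Set G) := Subgroup.inv_mem _ hn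
      have hcT : n⁻¹ * c0 * n ∈ (T : Subgroup G) := by
        have := (Subgroup.mem_normalizer_iff.mp hn' c0).mp hc0T
        simpa using this
      have hsqc : (n⁻¹ * c0 * n) * (n⁻¹ * c0 * n) = n⁻¹ * u * n := by
        rw [hu, pow_two]; group
      rcases hsq' _ hcT with h | h
      · exfalso
        have h4 : orderOf (n⁻¹ * c0 * n) = 4 := by
          have := orderOf_conj' n⁻¹ c0
          rw [inv_inv] at this
          rw [this, hc04]
        have h5 : orderOf (n⁻¹ * c0 * n) ∣ 2 := by
          apply orderOf_dvd_of_pow_eq_one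
          rw [pow_two]; exact h
        rw [h4] at h5
        exact absurd h5 (by decide)
      · rw [← hsqc, h]
  -- structure of the nonabelian group `T` of order 8
  obtain ⟨c, hc4, -, hcase⟩ := order8_structure (S := (T : Subgroup G)) hT8 hnab
  have hcG : orderOf (c : G) = 4 := by rw [Subgroup.orderOf_coe, hc4]
  have hzp : ∀ x : (T : Subgroup G), (x : G) ∈ Subgroup.zpowers (c : G) ↔ x ∈ Subgroup.zpowers c := by
    intro x
    constructor
    · rintro ⟨k, hk⟩
      refine ⟨k, ?_⟩
      apply Subtype.ext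
      simpa using hk
    · rintro ⟨k, hk⟩
      refine ⟨k, ?_⟩
      have := congrArg Subtype.val hk
      simpa using this
  rcases hcase with ⟨a, haM, ha2, hac, hall⟩ | hq
  · refine ⟨(c : G), (a : G), c.2, a.2, hcG, ?_, ?_, ?_, ?_⟩
    · have ha1 : a ≠ 1 := by
        intro h
        apply haM
        rw [h]
        exact Subgroup.one_mem _
      have : orderOf a = 2 := orderOf_eq_prime (by rw [pow_two]; exact ha2) ha1
      rw [Subgroup.orderOf_coe, this]
    · rw [hzp]; exact haM
    · have := congrArg Subtype.val hac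
      simpa using this
    · intro x hx hxc
      have h1 : (⟨x, hx⟩ : (T : Subgroup G)) ∉ Subgroup.zpowers c := by
        rw [← hzp]; exact hxc
      have := congrArg Subtype.val (hall ⟨x, hx⟩ h1)
      simpa using this
  · -- quaternion case: unique involution
    exfalso
    set u : G := (c : G) ^ 2 with hu
    have hu2 : orderOf u = 2 := orderOf_sq hcG
    have huT : u ∈ (T : Subgroup G) := Subgroup.pow_mem _ c.2 2
    obtain ⟨k, hkT, hkne⟩ := exists_conj_ne hG T u hu2 huT
    apply hkne
    have hord : orderOf (⟨k * u * k⁻¹, hkT⟩ : (T : Subgroup G)) = 2 := by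
      rw [Subgroup.orderOf_mk, orderOf_conj', hu2]
    have := congrArg Subtype.val (hq _ hord)
    simpa [hu] using this

end Cfsg.Agent.Lib.Helper7_A7_T2A
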