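import Cfsg.Agent.Lib.Helper7_Mono
import Cfsg.Agent.Lib.Helper7_Code
import Cfsg.Agent.S0367

/-!
The length-24 code is spanned by the words `σ c + c`, for `σ` in its group and `c` a code word
(the code has no quotient with trivial action).
-/

set_option autoImplicit false
open scoped Pointwise
open Cfsg

namespace Cfsg.Agent.Lib.Helper7_CodeComm

open Cfsg.Agent.Lib.Helper7_M24 Cfsg.Agent.Lib.Helper7_Bits Cfsg.Agent.Lib.Helper7_Code
  Cfsg.Agent.Lib.Helper7_Mono

/-- A code word which is the sum of two words of weight 8 is of the form `σ c + c`. -/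
theorem comm_of_masks (g u : ℕ) (hu : inCode u = true) (hg : inCode g = true)
    (h8 : popcount u = 8) (h8' : popcount (u ^^^ g) = 8) :
    ∃ σ : ↥M24, ∃ c : ↥golayCode, toWord g = permWord σ.1 c.1 + c.1 := by
  have hcu : toWord u ∈ golayCode := toWord_mem_of_inCode hu
  have hcg : toWord g ∈ golayCode := toWord_mem_of_inCode hg
  have hcug : toWord (u ^^^ g) ∈ golayCode := by
    rw [toWord_xor]
    exact golayCode.add_mem hcu hcg
  have ho : support₂ (toWord u) ∈ octads :=
    ⟨⟨toWord u, hcu, rfl⟩, by rw [card_support₂_toWord, h8]⟩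
  have ho' : support₂ (toWord (u ^^^ g)) ∈ octads :=
    ⟨⟨toWord (u ^^^ g), hcug, rfl⟩, by rw [card_support₂_toWord, h8']⟩
  obtain ⟨σ, hσ⟩ := Cfsg.Agent.S0367.result _ _ ho ho'
  refine ⟨σ, ⟨toWord u, hcu⟩, ?_⟩
  have h1 : permWord σ.1 (toWord u) = toWord (u ^^^ g) := by
    apply support₂_injective
    rw [support₂_permWord]
    exact hσ
  show toWord g = permWord σ.1 (toWord u) + toWord u
  rw [h1, toWord_xor, add_comm (toWord u) (toWord g), add_assoc,
    Cfsg.Agent.Lib.Helper7_Base.add_self_word, add_zero]

/-- The generators of the code, with the all-ones word replaced by the complement of the first. -/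
def gens : List ℕ := [340831, 681662, 1363324, 2726648, 5453296, 2517985, 5035970, 1683333,
  3366666, 6733332, 5078057, 1767507, 3535014, 7070028, 5751449, 3114291, 6228582, 4068557,
  8137114, 7885621, 7382635, 6376663, 4364719, 16436384]

/-- Octads meeting the generators in six points. -/
def wits : List ℕ := [3416079, 6832158, 843820, 1687640, 4415544, 11952160, 15515712, 1302533,
  2605066, 5210132, 11100169, 9347075, 1302533, 1302533, 1302533, 9347075, 10305542, 12222476,
  3416079, 6053905, 3416079, 12656663, 8536111, 12222476]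

theorem gens_ok : ∀ k : Fin 24, inCode (wits.getD k.val 0) = true ∧ inCode (gens.getD k.val 0) = true ∧
    popcount (wits.getD k.val 0) = 8 ∧ popcount (wits.getD k.val 0 ^^^ gens.getD k.val 0) = 8 := by
  decide +kernel

theorem gens_qr : ∀ t : Fin 23, gens.getD t.val 0 = qrMask t.val := by decide +kernel

theorem gens_last : gens.getD 23 0 = fullMask ^^^ qrMask 0 := by decide +kernel

/-- An additive subgroup of the code containing all `σ c + c` is the whole code. -/
theorem span_comm (S : AddSubgroup ↥golayCode)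
    (h : ∀ (σ : ↥M24) (c : ↥golayCode), act σ c + c ∈ S) (c : ↥golayCode) : c ∈ S := by
  -- the generators are in `S`
  have hgen : ∀ k : Fin 24, ∃ hk : toWord (gens.getD k.val 0) ∈ golayCode,
      (⟨toWord (gens.getD k.val 0), hk⟩ : ↥golayCode) ∈ S := by
    intro k
    obtain ⟨h1, h2, h3, h4⟩ := gens_ok k
    obtain ⟨σ, c, hc⟩ := comm_of_masks _ _ h1 h2 h3 h4
    refine ⟨toWord_mem_of_inCode h2, ?_⟩
    have : (⟨toWord (gens.getD k.val 0), toWord_mem_of_inCode h2⟩ : ↥golayCode) = act σ c + c :=
      Subtype.ext hc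
    rw [this]
    exact h σ c
  -- pass to a subgroup of the ambient space
  let T : AddSubgroup (GolayPt → ZMod 2) := S.map golayCode.toAddSubgroup.subtype
  have hT : ∀ x (hx : x ∈ golayCode), (⟨x, hx⟩ : ↥golayCode) ∈ S → x ∈ T := by
    intro x hx hxS
    exact ⟨⟨x, hx⟩, hxS, rfl⟩
  have hqr : ∀ t : ZMod 23, qrWord t ∈ T := by
    intro t
    obtain ⟨hk, hkS⟩ := hgen ⟨t.val, lt_trans (ZMod.val_lt t) (by norm_num)⟩
    have e : toWord (gens.getD t.val 0) = qrWord t := by
      rw [gens_qr ⟨t.val, ZMod.val_lt t⟩, toWord_qrMask]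
    have := hT _ hk hkS
    rwa [e] at this
  have hone : (1 : GolayPt → ZMod 2) ∈ T := by
    obtain ⟨hk, hkS⟩ := hgen ⟨23, by norm_num⟩
    have e : toWord (gens.getD 23 0) = 1 + qrWord 0 := by
      rw [gens_last, toWord_xor, toWord_fullMask]
      have := toWord_qrMask 0
      rw [ZMod.val_zero] at this
      rw [this]
    have h1 := hT _ hk hkS
    rw [e] at h1
    have h2 := T.add_mem h1 (hqr 0)
    rwa [add_assoc, Cfsg.Agent.Lib.Helper7_Base.add_self_word, add_zero] at h2
  have hall : ∀ x ∈ golayCode, x ∈ T := by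
    intro x hx
    unfold golayCode at hx
    induction hx using Submodule.span_induction with
    | mem x hx =>
      rcases hx with ⟨t, rfl⟩ | hx
      · exact hqr t
      · rw [Set.mem_singleton_iff] at hx
        subst hx
        exact hone
    | zero => exact T.zero_mem
    | add x y _ _ hx hy => exact T.add_mem hx hy
    | smul a x _ hx =>
      have ha : a = 0 ∨ a = 1 := by revert a; decide
      rcases ha with rfl | rfl
      · rw [zero_smul]; exact T.zero_mem
      · rw [one_smul]; exact hx
  obtain ⟨c', hc', hcc⟩ := hall c.1 c.2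
  have : c' = c := Subtype.ext hcc
  rwa [this] at hc'

end Cfsg.Agent.Lib.Helper7_CodeComm
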