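import Mathlib

/-!
A variant of Iwasawa's criterion for a group with a maximal subgroup `N` which is a split extension
of an abelian group `E` (the image of `eps`) by a simple group (acting through `perm`), such that
the normal closure of `E` meets `N` outside `E` and `E` has no quotient with trivial action: every
normal subgroup either lies in the subgroup `Z` containing the core of `N`, or is the whole group.
-/

set_option autoImplicit false

namespace Cfsg.Agent.Lib.Helper7_Iwasawa

theorem normal_eq_top {G : Type*} [Group G] {Mg : Type*} [Group Mg] [IsSimpleGroup Mg]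
    {Cd : Type*} [AddCommGroup Cd]
    (N Z : Subgroup G) (hN : IsCoatom N)
    (eps : Cd → G) (perm : Mg →* G) (act : Mg → Cd → Cd)
    (eps_zero : eps 0 = 1)
    (eps_add : ∀ u w, eps (u + w) = eps u * eps w)
    (perm_conj : ∀ σ c, perm σ * eps c * (perm σ)⁻¹ = eps (act σ c))
    (hNmem : ∀ g ∈ N, ∃ σ u, g = eps u * perm σ)
    (hcore : ∀ K : Subgroup G, K.Normal → K ≤ N → K ≤ Z)
    (heZ : ∃ u, eps u ∉ Z)
    (hm : ∃ (x : G) (c : Cd) (σ : Mg) (u : Cd), σ ≠ 1 ∧ x * eps c * x⁻¹ = eps u * perm σ)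
    (hspan : ∀ S : AddSubgroup Cd, (∀ σ c, act σ c - c ∈ S) → ∀ c, c ∈ S)
    (K : Subgroup G) (hK : K.Normal) (hKZ : ¬ K ≤ Z) : K = ⊤ := by
  have eps_neg : ∀ c, eps (-c) = (eps c)⁻¹ := fun c =>
    eq_inv_of_mul_eq_one_left (by rw [← eps_add, neg_add_cancel, eps_zero])
  have eps_comm : ∀ a b, eps a * eps b = eps b * eps a := fun a b => by
    rw [← eps_add, ← eps_add, add_comm]
  -- conjugation of the elements `eps c` by elements of `N`
  have conjN : ∀ n ∈ N, ∀ c, ∃ c', n * eps c * n⁻¹ = eps c' := by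
    intro n hn c
    obtain ⟨σ, u, rfl⟩ := hNmem n hn
    refine ⟨act σ c, ?_⟩
    rw [← perm_conj, mul_inv_rev]
    have : eps u * perm σ * eps c * ((perm σ)⁻¹ * (eps u)⁻¹) =
        eps u * (perm σ * eps c * (perm σ)⁻¹) * (eps u)⁻¹ := by group
    rw [this, perm_conj, eps_comm, mul_assoc, mul_inv_cancel, mul_one]
  -- a normal subgroup not inside `Z` supplements `N`
  have join : ∀ K' : Subgroup G, K'.Normal → ¬ K' ≤ Z → ∀ g : G, ∃ k ∈ K', ∃ n ∈ N, g = k * n := by
    intro K' hK' hK'Z g
    have h1 : ¬ K' ≤ N := fun h => hK'Z (hcore K' hK' h)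
    have h2 : K' ⊔ N = ⊤ := by
      apply hN.2
      refine lt_of_le_of_ne le_sup_right ?_
      intro h
      apply h1
      rw [h]
      exact le_sup_left
    have h3 : g ∈ K' ⊔ N := by rw [h2]; exact Subgroup.mem_top g
    have := hK'
    rw [← SetLike.mem_coe, Subgroup.normal_mul] at h3
    obtain ⟨k, hk, n, hn, rfl⟩ := Set.mem_mul.mp h3
    exact ⟨k, hk, n, hn, rfl⟩
  -- the normal closure of `E` is the whole group
  have hLn : (Subgroup.normalClosure (Set.range eps)).Normal := Subgroup.normalClosure_normal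
  have hLe : ∀ c, eps c ∈ Subgroup.normalClosure (Set.range eps) :=
    fun c => Subgroup.subset_normalClosure ⟨c, rfl⟩
  have hLZ : ¬ Subgroup.normalClosure (Set.range eps) ≤ Z := by
    obtain ⟨u, hu⟩ := heZ
    exact fun h => hu (h (hLe u))
  have hLtop : Subgroup.normalClosure (Set.range eps) = ⊤ := by
    obtain ⟨x, c, σ, u, hσ, hx⟩ := hm
    have hmL : eps u * perm σ ∈ Subgroup.normalClosure (Set.range eps) := by
      rw [← hx]
      exact hLn.conj_mem _ (hLe c) x
    have hσL : perm σ ∈ Subgroup.normalClosure (Set.range eps) := by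
      have := Subgroup.mul_mem _ (Subgroup.inv_mem _ (hLe u)) hmL
      rwa [inv_mul_cancel_left] at this
    have hQ : (Subgroup.normalClosure (Set.range eps)).comap perm = ⊤ := by
      have := hLn
      rcases (inferInstance : ((Subgroup.normalClosure (Set.range eps)).comap perm).Normal).eq_bot_or_eq_top
        with h | h
      · exfalso
        have : σ ∈ (Subgroup.normalClosure (Set.range eps)).comap perm := hσL
        rw [h, Subgroup.mem_bot] at this
        exact hσ this
      · exact h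
    have hperm : ∀ τ, perm τ ∈ Subgroup.normalClosure (Set.range eps) := by
      intro τ
      have : τ ∈ (Subgroup.normalClosure (Set.range eps)).comap perm := by
        rw [hQ]; exact Subgroup.mem_top τ
      exact this
    rw [eq_top_iff]
    intro g _
    obtain ⟨l, hl, n, hn, rfl⟩ := join _ hLn hLZ g
    obtain ⟨τ, w, rfl⟩ := hNmem n hn
    exact Subgroup.mul_mem _ hl (Subgroup.mul_mem _ (hLe w) (hperm τ))
  -- the subgroup `E`
  let E : Subgroup G :=
    { carrier := Set.range eps
      mul_mem' := by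
        rintro _ _ ⟨a, rfl⟩ ⟨b, rfl⟩
        exact ⟨a + b, eps_add a b⟩
      one_mem' := ⟨0, eps_zero⟩
      inv_mem' := by
        rintro _ ⟨a, rfl⟩
        exact ⟨-a, eps_neg a⟩ }
  have hEmem : ∀ c, eps c ∈ E := fun c => ⟨c, rfl⟩
  have hKE : K ⊔ E = ⊤ := by
    rw [eq_top_iff, ← hLtop]
    unfold Subgroup.normalClosure
    rw [Subgroup.closure_le]
    intro y hy
    rw [Group.mem_conjugatesOfSet_iff] at hy
    obtain ⟨b, ⟨c, rfl⟩, hby⟩ := hy
    rw [isConj_iff] at hby
    obtain ⟨g, rfl⟩ := hby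
    obtain ⟨k, hk, n, hn, rfl⟩ := join K hK hKZ g
    obtain ⟨c', hc'⟩ := conjN n hn c
    have : k * n * eps c * (k * n)⁻¹ = k * (n * eps c * n⁻¹) * k⁻¹ := by group
    rw [SetLike.mem_coe, this, hc']
    have hkKE : k ∈ K ⊔ E := Subgroup.mem_sup_left hk
    exact (K ⊔ E).mul_mem ((K ⊔ E).mul_mem hkKE (Subgroup.mem_sup_right (hEmem c')))
      ((K ⊔ E).inv_mem hkKE)
  -- the elements `c` with `eps c ∈ K`
  let S : AddSubgroup Cd :=
    { carrier := {c | eps c ∈ K}
      zero_mem' := by
        show eps 0 ∈ K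
        rw [eps_zero]; exact K.one_mem
      add_mem' := by
        intro a b ha hb
        show eps (a + b) ∈ K
        rw [eps_add]; exact K.mul_mem ha hb
      neg_mem' := by
        intro a ha
        show eps (-a) ∈ K
        rw [eps_neg]; exact K.inv_mem ha }
  have hS : ∀ c, c ∈ S := by
    apply hspan
    intro σ c
    have h3 : perm σ ∈ K ⊔ E := by rw [hKE]; exact Subgroup.mem_top _
    have := hK
    rw [← SetLike.mem_coe, Subgroup.normal_mul] at h3
    obtain ⟨k, hk, e, ⟨u, rfl⟩, hke⟩ := Set.mem_mul.mp h3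
    have hk' : k = perm σ * (eps u)⁻¹ := by rw [← hke, mul_inv_cancel_right]
    have hcomm : k * eps c * k⁻¹ * (eps c)⁻¹ ∈ K := by
      have h1 : eps c * k⁻¹ * (eps c)⁻¹ ∈ K := hK.conj_mem _ (K.inv_mem hk) _
      have h2 := K.mul_mem hk h1
      have : k * (eps c * k⁻¹ * (eps c)⁻¹) = k * eps c * k⁻¹ * (eps c)⁻¹ := by group
      rwa [this] at h2
    have hcalc : k * eps c * k⁻¹ = eps (act σ c) := by
      rw [hk', ← perm_conj]
      have h1 : perm σ * (eps u)⁻¹ * eps c * (perm σ * (eps u)⁻¹)⁻¹ =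
          perm σ * ((eps u)⁻¹ * eps c * eps u) * (perm σ)⁻¹ := by group
      have h2 : (eps u)⁻¹ * eps c * eps u = eps c := by
        rw [← eps_neg, eps_comm, mul_assoc, eps_neg, inv_mul_cancel, mul_one]
      rw [h1, h2]
    show eps (act σ c - c) ∈ K
    rw [sub_eq_add_neg, eps_add, eps_neg, ← hcalc]
    exact hcomm
  rw [eq_top_iff, ← hKE]
  apply sup_le le_rfl
  rintro _ ⟨c, rfl⟩
  exact hS c

end Cfsg.Agent.Lib.Helper7_Iwasawa
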