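import Cfsg.Agent.Lib.Helper7_Mono
import Cfsg.Agent.Lib.Helper7_Xi
import Cfsg.Agent.Lib.Helper7_Perm

/-!
A conjugate of a sign change by the non-monomial automorphism `ξ` of the lattice which is again
monomial, with a non-trivial permutation part.
-/

set_option autoImplicit false
open scoped Pointwise
open Cfsg

namespace Cfsg.Agent.Lib.Helper7_XiConj

open Cfsg.Agent.Lib.Helper7_M24 Cfsg.Agent.Lib.Helper7_Leech Cfsg.Agent.Lib.Helper92_Monomial
  Cfsg.Agent.Lib.Helper7_Bits Cfsg.Agent.Lib.Helper7_Code Cfsg.Agent.Lib.Helper7_Perm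
  Cfsg.Agent.Lib.Helper7_Xi Cfsg.Agent.Lib.Helper7_Mono Cfsg.Agent.S0393
open Cfsg.Agent.S5546 (Lam vec8 e8)

/-- The octad meeting four tetrads of the sextet in two points each. -/
def cMask : ℕ := 1302533

/-- The sign part of the conjugate. -/
def wMask : ℕ := 12584506

/-- The permutation part of the conjugate. -/
def sl : List ℕ := [2,23,0,5,22,3,6,7,8,10,9,11,12,16,17,20,13,14,18,19,15,21,4,1]

theorem sl_inv : checkInv sl sl = true := by decide

theorem sl_code : checkCode sl = true := by decide +kernel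

def σ0 : Equiv.Perm GolayPt := listPerm sl sl sl_inv sl_inv

theorem σ0_mem : σ0 ∈ M24 := listPerm_mem_M24 sl sl sl_inv sl_inv sl_code

theorem cMask_mem : toWord cMask ∈ golayCode := toWord_mem_of_inCode (by decide +kernel)

theorem wMask_mem : toWord wMask ∈ golayCode := toWord_mem_of_inCode (by decide +kernel)

/-- The diagonal matrix of the sign change. -/
def Dm : Matrix GolayPt GolayPt ℤ :=
  Matrix.diagonal (fun i => if cMask.testBit (enc i) then -1 else 1)

/-- The signed permutation matrix of the conjugate. -/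
def Ms : Matrix GolayPt GolayPt ℤ :=
  fun i k => if k = dec (sl.getD (enc i) 0) then (if wMask.testBit (enc i) then -1 else 1) else 0

theorem key : A * Dm * A = (4 : ℤ) • Ms := by decide +kernel

theorem signFlip_eq_mulVec (y : GolayPt → ℤ) :
    signFlip (support₂ (toWord cMask)) y = Dm.mulVec y := by
  funext i
  unfold Dm
  rw [Matrix.mulVec_diagonal]
  unfold signFlip
  by_cases h : cMask.testBit (enc i) = true
  · rw [if_pos ((mem_support₂_toWord _ _).mpr h), if_pos h]; ring
  · rw [if_neg (fun h' => h ((mem_support₂_toWord _ _).mp h')), if_neg h]; ring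

theorem signedPerm_eq_mulVec (x : GolayPt → ℤ) :
    signedPerm σ0 (support₂ (toWord wMask)) x = Ms.mulVec x := by
  funext i
  unfold Matrix.mulVec dotProduct Ms
  rw [Finset.sum_eq_single (dec (sl.getD (enc i) 0))]
  · beta_reduce
    rw [if_pos rfl]
    unfold signedPerm
    have hs : σ0.symm i = dec (sl.getD (enc i) 0) := rfl
    by_cases h : wMask.testBit (enc i) = true
    · rw [if_pos ((mem_support₂_toWord _ _).mpr h), if_pos h, hs]; ring
    · rw [if_neg (fun h' => h ((mem_support₂_toWord _ _).mp h')), if_neg h, hs]; ring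
  · intro k _ hk
    beta_reduce
    rw [if_neg hk, zero_mul]
  · intro h
    exact absurd (Finset.mem_univ _) h

theorem dbl_signFlip (c : Finset GolayPt) (y : GolayPt → ℤ) :
    dbl (signFlip c y) = signFlip c (dbl y) := by
  funext i
  rw [dbl_apply]
  unfold signFlip
  split_ifs
  · rw [dbl_apply]; ring
  · rw [dbl_apply]

/-- `ξ` as an element of the group. -/
def xiE : ↥Co0 := ⟨xi, xi_mem_Co0⟩

theorem xiE_inv : xiE⁻¹ = xiE := by
  apply Subtype.ext
  apply Equiv.ext
  intro v
  rfl

theorem xiE_smul (v : Lam) : dbl ((xiE • v : Lam) : GolayPt → ℤ) = A.mulVec v.1 := by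
  rw [← xi2_apply]
  exact dbl_xi v

/-- The code word of the octad. -/
def cC : ↥golayCode := ⟨toWord cMask, cMask_mem⟩

/-- The conjugate. -/
def m : ↥Co0 := xiE * eps cC * xiE⁻¹

theorem m_apply (v : Lam) :
    ((m • v : Lam) : GolayPt → ℤ) = signedPerm σ0 (support₂ (toWord wMask)) v.1 := by
  unfold m
  rw [xiE_inv, mul_smul', mul_smul']
  apply dbl_injective
  apply dbl_injective
  rw [xiE_smul, ← xi2_apply, ← xi2_dbl, xi2_apply, eps_apply, dbl_signFlip, xiE_smul]
  show A.mulVec (signFlip (support₂ (toWord cMask)) (A.mulVec v.1)) = _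
  rw [signFlip_eq_mulVec, Matrix.mulVec_mulVec, Matrix.mulVec_mulVec, key,
    signedPerm_eq_mulVec, Matrix.smul_mulVec]
  funext i
  rw [dbl_apply, dbl_apply, Pi.smul_apply, smul_eq_mul]
  ring

/-- The permutation part, as an element of `M24`. -/
def σ0' : ↥M24 := ⟨σ0, σ0_mem⟩

/-- The sign part, as a code word. -/
def w0 : ↥golayCode := ⟨toWord wMask, wMask_mem⟩

theorem m_eq : m = eps w0 * perm σ0' := by
  rw [← mono_eq]
  apply ext_elt
  intro v
  rw [m_apply]
  rfl

theorem σ0'_ne_one : σ0' ≠ 1 := by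
  intro h
  have h1 : σ0 (dec 0) = dec 0 := by
    have := congrArg (fun s : ↥M24 => s.1 (dec 0)) h
    exact this
  revert h1
  decide

end Cfsg.Agent.Lib.Helper7_XiConj
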