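import Cfsg.Agent.S0393
import Cfsg.Agent.S0358
import Cfsg.Agent.Lib.Helper92_Monomial

/-!
# Generators of the Leech lattice

`le_of_gens`: an additive subgroup of `GolayPt → ℤ` containing the 38 vectors
`fO none 1 = (-3, 1^23)`, `twoInd (bvec k)` (`k : Fin 12`, twice a basis of the Golay code),
`eDiff i = 4 e_i - 4 e_∞` and `e8 = 8 e_∞` contains `leechLattice`.
-/

set_option autoImplicit false
open Cfsg

namespace Cfsg.Agent.Lib.Helper7_LeechGen

open Cfsg.Agent.Lib.Helper7_M24 Cfsg.Agent.Lib.Helper7_Leech Cfsg.Agent.Lib.Helper92_LeechParity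
  Cfsg.Agent.Lib.Helper92_Monomial Cfsg.Agent.S0393 Cfsg.Agent.S0358

/-- `4 e_i - 4 e_∞`. -/
def eDiff (i : GolayPt) : GolayPt → ℤ :=
  fun j => 4 * (if j = i then 1 else 0) - 4 * (if j = none then 1 else 0)

/-- `8 e_∞`. -/
def e8 : GolayPt → ℤ := fun j => 8 * (if j = none then 1 else 0)

/-- The odd generator `(-3, 1^23)`. -/
def u0 : GolayPt → ℤ := Cfsg.Agent.S0394.fO none 1

theorem u0_mem : u0 ∈ leechLattice :=
  (mem_leechLattice_iff _).mpr (Cfsg.Agent.S0394.fO_mem none 1 one_mem)

theorem u0_none : u0 none = -3 := by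
  unfold u0 Cfsg.Agent.S0394.fO
  simp

/-- The 0/1 lift of a binary word. -/
def lift (u : GolayPt → ZMod 2) : GolayPt → ℤ := fun i => if u i = 1 then 1 else 0

theorem dbl_lift (u : GolayPt → ZMod 2) : dbl (lift u) = twoInd u := by
  funext i
  rw [dbl_apply]
  unfold lift twoInd
  split_ifs <;> rfl

theorem red_lift (u : GolayPt → ZMod 2) : red (lift u) = u := by
  funext i
  rw [red_apply]
  unfold lift
  rcases zmod2_cases (u i) with h | h
  · rw [h, if_neg (by decide)]; rfl
  · rw [h, if_pos rfl]; rfl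

theorem four_dvd_sum_lift : ∀ k : Fin 12, (4 : ℤ) ∣ ∑ i, lift (bvec k) i := by
  decide

/-- The decomposition of a vector with even coordinate sum. -/
theorem four_smul_eq (v : GolayPt → ℤ) (s : ℤ) (hs : ∑ i, v i = 2 * s) :
    dbl (dbl v) = ∑ i, v i • eDiff i + s • e8 := by
  funext j
  rw [dbl_apply, dbl_apply, Pi.add_apply, Finset.sum_apply, Pi.smul_apply]
  simp only [Pi.smul_apply, smul_eq_mul]
  unfold eDiff e8
  simp only [mul_sub, Finset.sum_sub_distrib]
  have h1 : ∑ i, v i * (4 * (if j = i then 1 else 0)) = 4 * v j := by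
    rw [Finset.sum_eq_single j]
    · rw [if_pos rfl]; ring
    · intro b _ hb
      rw [if_neg (Ne.symm hb)]; ring
    · intro h; exact absurd (Finset.mem_univ j) h
  have h2 : ∑ i, v i * (4 * (if j = none then 1 else 0)) =
      (∑ i, v i) * (4 * (if j = none then 1 else 0)) := by
    rw [Finset.sum_mul]
  rw [h1, h2, hs]
  ring

/-- An additive subgroup containing the 38 generators contains the whole lattice. -/
theorem le_of_gens (M : AddSubgroup (GolayPt → ℤ)) (h0 : u0 ∈ M)
    (h1 : ∀ k : Fin 12, twoInd (bvec k) ∈ M) (h2 : ∀ i, eDiff i ∈ M) (h3 : e8 ∈ M) :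
    leechLattice ≤ M := by
  -- the even part
  have key : ∀ x ∈ leechLattice, par x = 0 → x ∈ M := by
    intro x hx hp
    have hxL : x ∈ Leven := by
      rw [Leven_eq]
      exact ⟨hx, hp⟩
    obtain ⟨w, hw, rfl⟩ := hxL
    have hw' := (mem_K2 w).mp hw
    obtain ⟨hw4, hwC⟩ := hw'
    rw [span_eq] at hwC
    obtain ⟨a, ha⟩ := (Submodule.mem_span_range_iff_exists_fun (ZMod 2)).mp hwC
    -- the lift of the code word
    set g : GolayPt → ℤ := ∑ k, ((a k).val : ℤ) • lift (bvec k) with hg
    have hredg : red g = red w := by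
      rw [hg, map_sum, ← ha]
      apply Finset.sum_congr rfl
      intro k _
      rw [map_zsmul, red_lift]
      funext i
      rw [Pi.smul_apply, Pi.smul_apply, zsmul_eq_mul, smul_eq_mul, Int.cast_natCast,
        ZMod.natCast_zmod_val]
    have hdblg : dbl g ∈ M := by
      rw [hg, map_sum]
      apply M.sum_mem
      intro k _
      rw [map_zsmul, dbl_lift]
      exact M.zsmul_mem (h1 k) _
    have hsumg : (4 : ℤ) ∣ ∑ i, g i := by
      rw [hg]
      have : ∑ i, (∑ k, ((a k).val : ℤ) • lift (bvec k)) i =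
          ∑ k, ((a k).val : ℤ) * ∑ i, lift (bvec k) i := by
        simp only [Finset.sum_apply, Pi.smul_apply, smul_eq_mul]
        rw [Finset.sum_comm]
        apply Finset.sum_congr rfl
        intro k _
        rw [Finset.mul_sum]
      rw [this]
      apply Finset.dvd_sum
      intro k _
      exact Dvd.dvd.mul_left (four_dvd_sum_lift k) _
    -- the rest is divisible by 2
    have hker : w - g ∈ red.ker := by
      rw [AddMonoidHom.mem_ker, map_sub, hredg, sub_self]
    rw [← range_dbl] at hker
    obtain ⟨v, hv⟩ := hker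
    have hsumv : (2 : ℤ) ∣ ∑ i, v i := by
      have e1 : ∑ i, (w - g) i = 2 * ∑ i, v i := by
        rw [← hv]; exact sum_dbl v
      have e2 : ∑ i, (w - g) i = ∑ i, w i - ∑ i, g i := by
        simp only [Pi.sub_apply, Finset.sum_sub_distrib]
      obtain ⟨c1, hc1⟩ := hw4
      obtain ⟨c2, hc2⟩ := hsumg
      rw [e2, hc1, hc2] at e1
      exact ⟨c1 - c2, by omega⟩
    obtain ⟨s, hs⟩ := hsumv
    have hvv : dbl (dbl v) ∈ M := by
      rw [four_smul_eq v s hs]
      apply M.add_mem
      · apply M.sum_mem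
        intro i _
        exact M.zsmul_mem (h2 i) _
      · exact M.zsmul_mem h3 _
    have : dbl w = dbl g + dbl (dbl v) := by
      rw [hv, ← map_add]
      congr 1
      abel
    rw [this]
    exact M.add_mem hdblg hvv
  intro x hx
  by_cases hp : par x = 0
  · exact key x hx hp
  · have hp1 : par x = 1 := by
      rcases zmod2_cases (par x) with h | h
      · exact absurd h hp
      · exact h
    have hu0 : par u0 = 1 := by
      rw [par_apply, u0_none]; decide
    have : x - u0 ∈ M := by
      apply key _ (leechLattice.sub_mem hx u0_mem)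
      rw [map_sub, hp1, hu0, sub_self]
    have hx' : x = (x - u0) + u0 := by abel
    rw [hx']
    exact M.add_mem this h0

end Cfsg.Agent.Lib.Helper7_LeechGen
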