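import Cfsg.Agent.Lib.Helper92_OrthPairs
import Cfsg.Agent.S0400
import Cfsg.Agent.S0401
import Cfsg.Agent.S1567

/-!
The rank-24 lattice modulo twice itself as a module for its automorphism group.

* An automorphism acting trivially modulo twice the lattice is `1` or `-1`.
* Assuming transitivity on the classes of the vectors of sum of squares 64 (`Trans64`), an
  invariant subgroup between twice the lattice and the lattice is one of the two.
-/

set_option autoImplicit false
open scoped Pointwise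
open Cfsg

namespace Cfsg.Agent.Lib.Helper92_Mod2Module

open Cfsg.Agent.Lib.Helper7_M24 Cfsg.Agent.Lib.Helper7_Leech Cfsg.Agent.Lib.Helper92_LeechMod2
  Cfsg.Agent.Lib.Helper92_Monomial Cfsg.Agent.Lib.Helper92_Co0Order
  Cfsg.Agent.Lib.Helper92_OrthPairs Cfsg.Agent.Lib.Helper7_Bits
  Cfsg.Agent.Lib.Helper92_LeechShapes
open Cfsg.Agent.S5546 (Lam vec8 e8 addHom addHom_apply eight_smul_map)
open Cfsg.Agent.S0394 (sgn sqNorm_sgn sgn_four_mem)

/-! ### the vectors `4 e_i ± 4 e_j` -/

/-- `4 e_i + 4 e_j`. -/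
def pA (i j : GolayPt) (hij : i ≠ j) : Lam :=
  ⟨sgn 4 {i, j} ∅, (mem_leechLattice_iff _).mpr
    (sgn_four_mem _ _ (Finset.card_pair hij) (Finset.empty_subset _))⟩

/-- `4 e_i - 4 e_j`. -/
def pB (i j : GolayPt) (hij : i ≠ j) : Lam :=
  ⟨sgn 4 {i, j} {j}, (mem_leechLattice_iff _).mpr
    (sgn_four_mem _ _ (Finset.card_pair hij) (by
      intro k hk; rw [Finset.mem_singleton] at hk; rw [hk]; simp))⟩

theorem pA_norm (i j : GolayPt) (hij : i ≠ j) :
    sqNorm ((pA i j hij : Lam) : GolayPt → ℤ) = 32 := by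
  show sqNorm (sgn 4 {i, j} ∅) = 32
  rw [sqNorm_sgn, Finset.card_pair hij]; rfl

theorem pB_norm (i j : GolayPt) (hij : i ≠ j) :
    sqNorm ((pB i j hij : Lam) : GolayPt → ℤ) = 32 := by
  show sqNorm (sgn 4 {i, j} {j}) = 32
  rw [sqNorm_sgn, Finset.card_pair hij]; rfl

theorem e8_val (a b : GolayPt) : ((e8 a : Lam) : GolayPt → ℤ) b = if b = a then 8 else 0 := rfl

theorem neg_e8_val (a b : GolayPt) :
    ((-e8 a : Lam) : GolayPt → ℤ) b = -(if b = a then 8 else 0) := rfl

theorem pA_add_pB (i j : GolayPt) (hij : i ≠ j) : pA i j hij + pB i j hij = e8 i := by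
  apply Subtype.ext
  funext k
  show sgn 4 {i, j} ∅ k + sgn 4 {i, j} {j} k = if k = i then 8 else 0
  unfold sgn
  by_cases h1 : k = i
  · subst h1
    simp [hij]
  · by_cases h2 : k = j
    · subst h2
      simp [h1]
    · simp [h1, h2]

theorem pA_sub_pB (i j : GolayPt) (hij : i ≠ j) : pA i j hij - pB i j hij = e8 j := by
  apply Subtype.ext
  funext k
  show sgn 4 {i, j} ∅ k - sgn 4 {i, j} {j} k = if k = j then 8 else 0
  unfold sgn
  by_cases h1 : k = i
  · subst h1
    simp [hij]
  · by_cases h2 : k = j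
    · subst h2
      simp [h1]
    · simp [h1, h2]

theorem pA_add_pA (i j : GolayPt) (hij : i ≠ j) : pA i j hij + pA i j hij = e8 i + e8 j := by
  rw [← pA_add_pB i j hij, ← pA_sub_pB i j hij]; abel

/-! ### automorphisms trivial modulo twice the lattice -/

section faithful

variable (g : ↥Co0)
  (H : ∀ v : Lam, ∃ w : Lam,
    ((g • v : Lam) : GolayPt → ℤ) - (v : GolayPt → ℤ) = 2 • (w : GolayPt → ℤ))

include H

theorem pm_of_min (v : Lam) (hv : sqNorm (v : GolayPt → ℤ) = 32) : g • v = v ∨ g • v = -v := by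
  by_contra hcon
  rw [not_or] at hcon
  obtain ⟨w, hw⟩ := H v
  have hc : ∃ z ∈ leechLattice, (v : GolayPt → ℤ) - ((g • v : Lam) : GolayPt → ℤ) = 2 • z :=
    ⟨-(w : GolayPt → ℤ), leechLattice.neg_mem w.2, by rw [smul_neg, ← hw]; abel⟩
  have := claimA (v : GolayPt → ℤ) ((g • v : Lam) : GolayPt → ℤ) v.2 (g • v).2
    (by rw [hv]; decide) (by rw [sqNorm_smul, hv]; decide) hc
    (fun h => hcon.1 (Subtype.ext h)) (fun h => hcon.2 (Subtype.ext h))
  rw [hv] at this
  exact absurd this.1 (by decide)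

theorem e8_cases (i j : GolayPt) (hij : i ≠ j) :
    g • e8 i = e8 i ∨ g • e8 i = -e8 i ∨ g • e8 i = e8 j ∨ g • e8 i = -e8 j := by
  have e : g • e8 i = g • pA i j hij + g • pB i j hij := by
    rw [← smul_add', pA_add_pB]
  rcases pm_of_min g H (pA i j hij) (pA_norm i j hij) with h1 | h1 <;>
    rcases pm_of_min g H (pB i j hij) (pB_norm i j hij) with h2 | h2 <;>
    rw [h1, h2] at e
  · left; rw [e, pA_add_pB]
  · right; right; left; rw [e, ← pA_sub_pB i j hij]; abel
  · right; right; right; rw [e, ← pA_sub_pB i j hij]; abel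
  · right; left; rw [e, ← pA_add_pB i j hij]; abel

theorem e8_pm (i : GolayPt) : g • e8 i = e8 i ∨ g • e8 i = -e8 i := by
  obtain ⟨j, k, hij, hik, hjk⟩ : ∃ j k : GolayPt, i ≠ j ∧ i ≠ k ∧ j ≠ k := by
    revert i; decide
  rcases e8_cases g H i j hij with h | h | h | h
  · exact Or.inl h
  · exact Or.inr h
  · exfalso
    have hj : ((g • e8 i : Lam) : GolayPt → ℤ) j = 8 := by
      rw [h, e8_val, if_pos rfl]
    rcases e8_cases g H i k hik with h' | h' | h' | h' <;> rw [h'] at hj
    · rw [e8_val, if_neg (Ne.symm hij)] at hj; exact absurd hj (by decide)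
    · rw [neg_e8_val, if_neg (Ne.symm hij)] at hj; exact absurd hj (by decide)
    · rw [e8_val, if_neg hjk] at hj; exact absurd hj (by decide)
    · rw [neg_e8_val, if_neg hjk] at hj; exact absurd hj (by decide)
  · exfalso
    have hj : ((g • e8 i : Lam) : GolayPt → ℤ) j = -8 := by
      rw [h, neg_e8_val, if_pos rfl]
    rcases e8_cases g H i k hik with h' | h' | h' | h' <;> rw [h'] at hj
    · rw [e8_val, if_neg (Ne.symm hij)] at hj; exact absurd hj (by decide)
    · rw [neg_e8_val, if_neg (Ne.symm hij)] at hj; exact absurd hj (by decide)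
    · rw [e8_val, if_neg hjk] at hj; exact absurd hj (by decide)
    · rw [neg_e8_val, if_neg hjk] at hj; exact absurd hj (by decide)

theorem e8_sign (i j : GolayPt) (hij : i ≠ j) :
    (g • e8 i = e8 i ∧ g • e8 j = e8 j) ∨ (g • e8 i = -e8 i ∧ g • e8 j = -e8 j) := by
  have e : g • pA i j hij + g • pA i j hij = g • e8 i + g • e8 j := by
    rw [← smul_add', ← smul_add', pA_add_pA]
  have vi : ∀ x : Lam, x + x = e8 i + e8 j →
      (x : GolayPt → ℤ) i + (x : GolayPt → ℤ) i = 8 ∧
        (x : GolayPt → ℤ) j + (x : GolayPt → ℤ) j = 8 := by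
    intro x hx
    have h1 := congrArg (fun y : Lam => (y : GolayPt → ℤ) i) hx
    have h2 := congrArg (fun y : Lam => (y : GolayPt → ℤ) j) hx
    simp only [AddSubgroup.coe_add, Pi.add_apply, e8_val, if_pos, if_neg hij,
      if_neg (Ne.symm hij)] at h1 h2
    constructor <;> omega
  have hA := vi (pA i j hij) (pA_add_pA i j hij)
  rcases e8_pm g H i with hi | hi <;> rcases e8_pm g H j with hj | hj
  · exact Or.inl ⟨hi, hj⟩
  · exfalso
    rw [hi, hj] at e
    have h1 := congrArg (fun y : Lam => (y : GolayPt → ℤ) i) e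
    have h2 := congrArg (fun y : Lam => (y : GolayPt → ℤ) j) e
    simp only [AddSubgroup.coe_add, Pi.add_apply, e8_val, neg_e8_val, if_pos, if_neg hij,
      if_neg (Ne.symm hij)] at h1 h2
    rcases pm_of_min g H (pA i j hij) (pA_norm i j hij) with h | h <;> rw [h] at h1 h2
    · omega
    · simp only [AddSubgroup.coe_neg, Pi.neg_apply] at h1 h2
      omega
  · exfalso
    rw [hi, hj] at e
    have h1 := congrArg (fun y : Lam => (y : GolayPt → ℤ) i) e
    have h2 := congrArg (fun y : Lam => (y : GolayPt → ℤ) j) e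
    simp only [AddSubgroup.coe_add, Pi.add_apply, e8_val, neg_e8_val, if_pos, if_neg hij,
      if_neg (Ne.symm hij)] at h1 h2
    rcases pm_of_min g H (pA i j hij) (pA_norm i j hij) with h | h <;> rw [h] at h1 h2
    · omega
    · simp only [AddSubgroup.coe_neg, Pi.neg_apply] at h1 h2
      omega
  · exact Or.inr ⟨hi, hj⟩

omit H in
theorem eq_of_eight_smul_eq' {a b : Lam} (h : (8 : ℤ) • a = (8 : ℤ) • b) : a = b := by
  apply Subtype.ext
  funext k
  have := congrArg (fun x : Lam => (x : GolayPt → ℤ) k) h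
  simp only [AddSubgroup.coe_zsmul, Pi.smul_apply, smul_eq_mul] at this
  omega

/-- An automorphism acting trivially modulo twice the lattice is the identity or its negative. -/
theorem pm_one : (∀ v : Lam, g • v = v) ∨ (∀ v : Lam, g • v = -v) := by
  rcases e8_pm g H none with h0 | h0
  · left
    have hall : ∀ i, g • e8 i = e8 i := by
      intro i
      by_cases hi : i = none
      · rw [hi]; exact h0
      · rcases e8_sign g H none i (Ne.symm hi) with h | h
        · exact h.2
        · exfalso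
          have := h0.symm.trans h.1
          have h1 := congrArg (fun y : Lam => (y : GolayPt → ℤ) none) this
          simp only [e8_val, neg_e8_val, if_pos] at h1
          omega
    intro v
    apply eq_of_eight_smul_eq'
    have h1 := eight_smul_map g.1 g.2 v
    rw [Cfsg.Agent.S5546.eight_smul_eq v]
    rw [show g • v = g.1 v from rfl, h1]
    apply Finset.sum_congr rfl
    intro i _
    rw [show g.1 (e8 i) = g • e8 i from rfl, hall i]
  · right
    have hall : ∀ i, g • e8 i = -e8 i := by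
      intro i
      by_cases hi : i = none
      · rw [hi]; exact h0
      · rcases e8_sign g H none i (Ne.symm hi) with h | h
        · exfalso
          have := h0.symm.trans h.1
          have h1 := congrArg (fun y : Lam => (y : GolayPt → ℤ) none) this
          simp only [e8_val, neg_e8_val, if_pos] at h1
          omega
        · exact h.2
    intro v
    apply eq_of_eight_smul_eq'
    have h1 := eight_smul_map g.1 g.2 v
    rw [smul_neg, Cfsg.Agent.S5546.eight_smul_eq v]
    rw [show g • v = g.1 v from rfl, h1, ← Finset.sum_neg_distrib]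
    apply Finset.sum_congr rfl
    intro i _
    rw [show g.1 (e8 i) = g • e8 i from rfl, hall i, smul_neg]

/-- An automorphism acting trivially modulo twice the lattice is central. -/
theorem central : g ∈ Subgroup.center ↥Co0 := by
  rw [Subgroup.mem_center_iff]
  intro h
  apply Subtype.ext
  apply Equiv.ext
  intro v
  show h • (g • v) = g • (h • v)
  rcases pm_one g H with hg | hg
  · rw [hg, hg]
  · rw [hg, hg, smul_neg']

end faithful

/-! ### invariant subgroups between twice the lattice and the lattice -/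

section irreducible

variable (M : AddSubgroup (GolayPt → ℤ))
  (h2 : ∀ v ∈ leechLattice, (2 : ℤ) • v ∈ M)
  (hinv : ∀ g : ↥Co0, ∀ v : Lam, (v : GolayPt → ℤ) ∈ M → ((g • v : Lam) : GolayPt → ℤ) ∈ M)

include hinv in
/-- An invariant subgroup containing a minimal vector contains the lattice. -/
theorem le_of_min (v : Lam) (hv : sqNorm (v : GolayPt → ℤ) = 32) (hvM : (v : GolayPt → ℤ) ∈ M) :
    leechLattice ≤ M := by
  rw [← Cfsg.Agent.S1567.result, AddSubgroup.closure_le]
  rintro x ⟨hx, hxn⟩
  obtain ⟨g, hg⟩ := Cfsg.Agent.S0400.result v ⟨x, hx⟩ hv hxn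
  have := hinv g v hvM
  rw [hg] at this
  exact this

/-- `(-5, -1^23)` with the `-5` at the point `0`. -/
def q0 : GolayPt → ℤ := od 0 {dec 0} ∅

/-- `(-5, -1^23)` with the `-5` at the point `1`. -/
def q1 : GolayPt → ℤ := od 0 {dec 1} ∅

theorem q0_mem : q0 ∈ leechLattice :=
  (mem_leechLattice_iff _).mpr (od_mem 0 {dec 0} ∅ golayCode.zero_mem
    (Finset.disjoint_empty_right _) (by decide))

theorem q1_mem : q1 ∈ leechLattice :=
  (mem_leechLattice_iff _).mpr (od_mem 0 {dec 1} ∅ golayCode.zero_mem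
    (Finset.disjoint_empty_right _) (by decide))

theorem q0_norm : sqNorm q0 = 48 := by decide +kernel

theorem q1_norm : sqNorm q1 = 48 := by decide +kernel

theorem q_diff : ∀ p, q0 p - q1 p = sgn 4 {dec 0, dec 1} {dec 0} p := by decide +kernel

/-- `(4^4, 0^20)`. -/
def r0 : GolayPt → ℤ := sgn 4 {dec 0, dec 1} ∅ + sgn 4 {dec 2, dec 3} ∅

/-- `(0, 4^3, -4, 0^19)`. -/
def r1 : GolayPt → ℤ := sgn 4 {dec 1, dec 2} ∅ + sgn 4 {dec 3, dec 4} {dec 4}

theorem r0_mem : r0 ∈ leechLattice :=
  leechLattice.add_mem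
    ((mem_leechLattice_iff _).mpr (sgn_four_mem _ _ (by decide) (Finset.empty_subset _)))
    ((mem_leechLattice_iff _).mpr (sgn_four_mem _ _ (by decide) (Finset.empty_subset _)))

theorem r1_mem : r1 ∈ leechLattice :=
  leechLattice.add_mem
    ((mem_leechLattice_iff _).mpr (sgn_four_mem _ _ (by decide) (Finset.empty_subset _)))
    ((mem_leechLattice_iff _).mpr (sgn_four_mem _ _ (by decide) (by decide)))

theorem r0_norm : sqNorm r0 = 64 := by decide +kernel

theorem r1_norm : sqNorm r1 = 64 := by decide +kernel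

theorem r_diff : ∀ p, r0 p - r1 p = sgn 4 {dec 0, dec 4} ∅ p := by decide +kernel

include h2 hinv in
/-- Assuming `Trans64`: an invariant subgroup containing twice the lattice and a vector outside
twice the lattice contains the lattice. -/
theorem le_of_not_sub (htrans : Trans64) (x : GolayPt → ℤ) (hx : x ∈ leechLattice) (hxM : x ∈ M)
    (hx2 : ¬ ∃ w ∈ leechLattice, x = (2 : ℤ) • w) : leechLattice ≤ M := by
  obtain ⟨y, hy, hyn, z, hz, hxyz⟩ := exists_short x hx
  have h2' : ∀ v ∈ leechLattice, (2 : ℕ) • v ∈ M := by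
    intro v hv
    have := h2 v hv
    rwa [← natCast_zsmul]
  have hyM : y ∈ M := by
    have : y = x - 2 • z := by rw [← hxyz]; abel
    rw [this]
    exact M.sub_mem hxM (h2' z hz)
  have hy0 : y ≠ 0 := by
    rintro rfl
    apply hx2
    refine ⟨z, hz, ?_⟩
    rw [sub_zero] at hxyz
    rw [hxyz, ← natCast_zsmul]; rfl
  rcases norm_vals ⟨y, hy⟩ hyn with h | h | h | h
  · exfalso
    rw [Sn_zero, Set.mem_singleton_iff] at h
    exact hy0 (congrArg Subtype.val h)
  · exact le_of_min M hinv ⟨y, hy⟩ h hyM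
  · -- sum of squares 48
    have hall : ∀ u : Lam, sqNorm (u : GolayPt → ℤ) = 48 → (u : GolayPt → ℤ) ∈ M := by
      intro u hu
      obtain ⟨g, hg⟩ := Cfsg.Agent.S0401.result ⟨y, hy⟩ u h hu
      have := hinv g ⟨y, hy⟩ hyM
      rwa [hg] at this
    have hm : sgn 4 {dec 0, dec 1} {dec 0} ∈ M := by
      rw [← funext q_diff]
      exact M.sub_mem (hall ⟨q0, q0_mem⟩ q0_norm) (hall ⟨q1, q1_mem⟩ q1_norm)
    have hmem : sgn 4 {dec 0, dec 1} {dec 0} ∈ leechLattice :=
      (mem_leechLattice_iff _).mpr (sgn_four_mem _ _ (by decide) (by decide))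
    exact le_of_min M hinv ⟨_, hmem⟩ (by
      show sqNorm (sgn 4 {dec 0, dec 1} {dec 0}) = 32
      rw [sqNorm_sgn]; rfl) hm
  · -- sum of squares 64
    have hall : ∀ u : Lam, sqNorm (u : GolayPt → ℤ) = 64 → (u : GolayPt → ℤ) ∈ M := by
      intro u hu
      obtain ⟨g, t, ht, hg⟩ := htrans ⟨y, hy⟩ u h hu
      have h1 := hinv g ⟨y, hy⟩ hyM
      have : (u : GolayPt → ℤ) = ((g • (⟨y, hy⟩ : Lam) : Lam) : GolayPt → ℤ) - 2 • t := by
        rw [← hg]; abel
      rw [this]
      exact M.sub_mem h1 (h2' t ht)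
    have hm : sgn 4 {dec 0, dec 4} ∅ ∈ M := by
      rw [← funext r_diff]
      exact M.sub_mem (hall ⟨r0, r0_mem⟩ r0_norm) (hall ⟨r1, r1_mem⟩ r1_norm)
    have hmem : sgn 4 {dec 0, dec 4} ∅ ∈ leechLattice :=
      (mem_leechLattice_iff _).mpr (sgn_four_mem _ _ (by decide) (Finset.empty_subset _))
    exact le_of_min M hinv ⟨_, hmem⟩ (by
      show sqNorm (sgn 4 {dec 0, dec 4} ∅) = 32
      rw [sqNorm_sgn]; rfl) hm

include h2 hinv in
theorem irreducible (htrans : Trans64) (hle : M ≤ leechLattice) :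
    (∀ x ∈ M, ∃ w ∈ leechLattice, x = (2 : ℤ) • w) ∨ M = leechLattice := by
  by_cases hc : ∀ x ∈ M, ∃ w ∈ leechLattice, x = (2 : ℤ) • w
  · exact Or.inl hc
  · right
    simp only [not_forall] at hc
    obtain ⟨x, hxM, hx2⟩ := hc
    exact le_antisymm hle (le_of_not_sub M h2 hinv htrans x (hle hxM) hxM hx2)

end irreducible

end Cfsg.Agent.Lib.Helper92_Mod2Module
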