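import Cfsg.Prelude.Def_Sporadic
import Cfsg.Agent.Lib.Helper7_Iwasawa
import Cfsg.Agent.Lib.Helper7_Mono
import Cfsg.Agent.Lib.Helper7_XiConj
import Cfsg.Agent.Lib.Helper7_CodeComm
import Cfsg.Agent.S5392
import Cfsg.Agent.S0365
import Cfsg.Agent.S0397
import Cfsg.Agent.S0398

/-!
The automorphism group of the lattice modulo its centre is simple, given that the stabiliser of the
standard cross is a maximal subgroup.
-/

set_option autoImplicit false
open scoped Pointwise
open Cfsg

namespace Cfsg.Agent.Lib.Helper7_Co1Simple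

open Cfsg.Agent.Lib.Helper7_M24 Cfsg.Agent.Lib.Helper7_Leech Cfsg.Agent.Lib.Helper92_Monomial
  Cfsg.Agent.Lib.Helper7_Mono Cfsg.Agent.Lib.Helper7_XiConj
open Cfsg.Agent.S5546 (Lam vec8 e8 addHom addHom_apply)
open Cfsg.Agent.Lib.Helper92_LeechMod2 (cls cls_eq_iff norm_vals Sn)
open Cfsg.Agent.Lib.Helper92_Co0Order (X0 crossOf stdCross_sub sqNorm_e8)

/-- The action of an element of the group, as an additive map. -/
def smulHom (k : ↥Co0) : Lam →+ Lam := addHom k.1 k.2

theorem smulHom_apply (k : ↥Co0) (v : Lam) : smulHom k v = k • v := rfl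

/-- A normal subgroup contained in the stabiliser of the standard cross is central. -/
theorem core_le (K : Subgroup ↥Co0) (hn : K.Normal) (hK : K ≤ N) : K ≤ Subgroup.center ↥Co0 := by
  obtain ⟨h1, h2⟩ := Cfsg.Agent.S5392.result
  let M' : AddSubgroup Lam :=
    { carrier := {v | ∀ k ∈ K, ∃ w : Lam, k • v - v = w + w}
      zero_mem' := fun k _ => ⟨0, by rw [← smulHom_apply, map_zero, sub_zero, add_zero]⟩
      add_mem' := by
        intro a b ha hb k hk
        obtain ⟨w1, hw1⟩ := ha k hk
        obtain ⟨w2, hw2⟩ := hb k hk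
        refine ⟨w1 + w2, ?_⟩
        rw [← smulHom_apply, map_add, smulHom_apply, smulHom_apply]
        have : k • a + k • b - (a + b) = (k • a - a) + (k • b - b) := by abel
        rw [this, hw1, hw2]
        abel
      neg_mem' := by
        intro a ha k hk
        obtain ⟨w, hw⟩ := ha k hk
        refine ⟨-w, ?_⟩
        rw [← smulHom_apply, map_neg, smulHom_apply]
        have : -(k • a) - -a = -(k • a - a) := by abel
        rw [this, hw]
        abel }
  have hM' : ∀ v : Lam, v ∈ M' ↔ ∀ k ∈ K, ∃ w : Lam, k • v - v = w + w := fun v => Iff.rfl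
  have hcases := h2 (M'.map leechLattice.subtype) ?_ ?_ ?_
  · -- the standard vector is in `M'`
    have he8 : e8 none ∈ M' := by
      intro k hk
      have hkN : k ∈ N := hK hk
      have h3 : k • e8 none ∈ X0 := by
        have h4 : k • X0 = X0 := hkN
        rw [← h4]
        exact Set.smul_mem_smul_set (stdCross_sub _ (Cfsg.Agent.S1571.vec8_mem_stdCross none))
      obtain ⟨z, hz, hzz⟩ := (cls_eq_iff _ _).mp h3.2
      refine ⟨⟨z, hz⟩, Subtype.ext ?_⟩
      show ((k • e8 none : Lam) : GolayPt → ℤ) - ((e8 none : Lam) : GolayPt → ℤ) = z + z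
      rw [hzz, two_smul]
    rcases hcases with hc | hc
    · exfalso
      obtain ⟨w, hw, hxw⟩ := hc (vec8 none) ⟨e8 none, he8, rfl⟩
      have hn1 : sqNorm (vec8 none) = 64 := sqNorm_e8 none
      have hn2 : sqNorm ((2 : ℤ) • w) = 4 * sqNorm w := by
        have : (2 : ℤ) • w = Cfsg.Agent.S0393.dbl w := by
          funext i
          rw [Cfsg.Agent.S0393.dbl_apply, Pi.smul_apply, smul_eq_mul]
        rw [this, Cfsg.Agent.Lib.Helper7_Xi.sqNorm_dbl]
      rw [hxw, hn2] at hn1
      have h16 : sqNorm w = 16 := by omega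
      have := norm_vals ⟨w, hw⟩ (by show sqNorm w ≤ 64; omega)
      rcases this with h | h | h | h
      all_goals
        have h' : sqNorm w = _ := h
        omega
    · intro k hk
      apply h1 k
      intro v
      have hv : (v : GolayPt → ℤ) ∈ M'.map leechLattice.subtype := by rw [hc]; exact v.2
      obtain ⟨v', hv', hvv⟩ := hv
      have hvv' : v' = v := Subtype.ext hvv
      subst hvv'
      obtain ⟨w, hw⟩ := hv' k hk
      refine ⟨w, ?_⟩
      have := congrArg (fun x : Lam => (x : GolayPt → ℤ)) hw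
      rw [two_smul]
      exact this
  · -- contains twice the lattice
    intro v hv
    refine ⟨(⟨v, hv⟩ : Lam) + ⟨v, hv⟩, ?_, ?_⟩
    · intro k hk
      refine ⟨k • (⟨v, hv⟩ : Lam) - ⟨v, hv⟩, ?_⟩
      rw [← smulHom_apply, map_add, smulHom_apply]
      abel
    · show v + v = (2 : ℤ) • v
      rw [two_smul]
  · -- inside the lattice
    rintro _ ⟨v, _, rfl⟩
    exact v.2
  · -- invariant
    intro g v hv
    obtain ⟨v', hv', hvv⟩ := hv
    have hvv' : v' = v := Subtype.ext hvv
    subst hvv'
    refine ⟨g • v', ?_, rfl⟩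
    intro k hk
    have hk' : g⁻¹ * k * g ∈ K := by
      have := hn.conj_mem k hk g⁻¹
      rwa [inv_inv] at this
    obtain ⟨w, hw⟩ := hv' _ hk'
    refine ⟨g • w, ?_⟩
    have h5 := congrArg (smulHom g) hw
    rw [map_sub, map_add, smulHom_apply, smulHom_apply, smulHom_apply] at h5
    rw [← h5, ← mul_smul, ← mul_smul]
    congr 2
    group

/-- A sign change which is not central. -/
theorem eps_cC_notMem : eps cC ∉ Subgroup.center ↥Co0 := by
  intro h
  rw [Subgroup.mem_center_iff] at h
  have h1 : m = eps cC := by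
    unfold m
    rw [h xiE, mul_assoc, mul_inv_cancel, mul_one]
  rw [m_eq] at h1
  have h2 : eps w0 * perm σ0' = eps cC * perm 1 := by rw [h1, perm_one, mul_one]
  exact σ0'_ne_one (mono_injective h2).1

theorem neg_code (c : ↥golayCode) : -c = c := by
  apply neg_eq_of_add_eq_zero_left
  apply Subtype.ext
  exact Cfsg.Agent.Lib.Helper7_Base.add_self_word c.1

/-- Every normal subgroup is central or the whole group. -/
theorem normal_cases (hN : IsCoatom N) (K : Subgroup ↥Co0) (hK : K.Normal) :
    K ≤ Subgroup.center ↥Co0 ∨ K = ⊤ := by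
  by_cases h : K ≤ Subgroup.center ↥Co0
  · exact Or.inl h
  · right
    have := Cfsg.Agent.S0365.result
    refine Cfsg.Agent.Lib.Helper7_Iwasawa.normal_eq_top N (Subgroup.center ↥Co0) hN eps permHom act
      eps_zero eps_add (fun σ c => perm_conj_eps σ c) (fun g hg => exists_of_mem_N hg)
      core_le ⟨cC, eps_cC_notMem⟩ ⟨xiE, cC, σ0', w0, σ0'_ne_one, m_eq⟩ ?_ K hK h
    intro S hS c
    apply Cfsg.Agent.Lib.Helper7_CodeComm.span_comm S _ c
    intro σ c
    have := hS σ c
    rwa [sub_eq_add_neg, neg_code] at this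

/-- The quotient by the centre is simple of the order of the first Conway group. -/
theorem isCo1 (hN : IsCoatom N) : IsCo1 (↥Co0 ⧸ Subgroup.center ↥Co0) := by
  have hcard : Nat.card (↥Co0 ⧸ Subgroup.center ↥Co0) = 4157776806543360000 := by
    have h1 := Subgroup.card_eq_card_quotient_mul_card_subgroup (Subgroup.center ↥Co0)
    rw [Cfsg.Agent.S0397.result, Cfsg.Agent.S0398.result] at h1
    omega
  refine ⟨?_, hcard⟩
  haveI : Finite (↥Co0 ⧸ Subgroup.center ↥Co0) :=
    Nat.finite_of_card_ne_zero (by rw [hcard]; norm_num)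
  haveI : Nontrivial (↥Co0 ⧸ Subgroup.center ↥Co0) :=
    Finite.one_lt_card_iff_nontrivial.mp (by rw [hcard]; norm_num)
  refine ⟨fun H hH => ?_⟩
  have hsurj := QuotientGroup.mk'_surjective (Subgroup.center ↥Co0)
  rcases normal_cases hN (H.comap (QuotientGroup.mk' (Subgroup.center ↥Co0)))
    (Subgroup.Normal.comap hH _) with hc | hc
  · left
    rw [Subgroup.eq_bot_iff_forall]
    intro x hx
    obtain ⟨g, rfl⟩ := hsurj x
    have hg : g ∈ Subgroup.center ↥Co0 := hc hx
    exact (QuotientGroup.eq_one_iff g).mpr hg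
  · right
    rw [eq_top_iff]
    intro x _
    obtain ⟨g, rfl⟩ := hsurj x
    have : g ∈ H.comap (QuotientGroup.mk' (Subgroup.center ↥Co0)) := by
      rw [hc]; exact Subgroup.mem_top g
    exact this

end Cfsg.Agent.Lib.Helper7_Co1Simple
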