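import Mathlib

/-!
Conway's characterisation of the Leech lattice, part A.

For an even positive definite Gram matrix `B` of rank 24 without vectors of norm 2 and with the
right numbers of vectors of norms 4, 6, 8, a count of the classes modulo `2L` produces a *frame*:
24 pairwise orthogonal vectors of norm 8 which are pairwise congruent modulo `2L`.
-/

set_option autoImplicit false
open Matrix

namespace Cfsg.Agent.Lib.Helper7_ConwayA

/-- The bilinear form of the Gram matrix. -/
def bf (B : Matrix (Fin 24) (Fin 24) ℤ) (x y : Fin 24 → ℤ) : ℤ := x ⬝ᵥ (B *ᵥ y)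

variable {B : Matrix (Fin 24) (Fin 24) ℤ}

theorem bf_eq (x y : Fin 24 → ℤ) : bf B x y = Matrix.toBilin' B x y :=
  (Matrix.toBilin'_apply' B x y).symm

theorem bf_add_left (x y z : Fin 24 → ℤ) : bf B (x + y) z = bf B x z + bf B y z := by
  simp only [bf_eq, map_add, LinearMap.add_apply]

theorem bf_add_right (x y z : Fin 24 → ℤ) : bf B x (y + z) = bf B x y + bf B x z := by
  simp only [bf_eq, map_add]

theorem bf_smul_left (c : ℤ) (x y : Fin 24 → ℤ) : bf B (c • x) y = c * bf B x y := by
  simp only [bf_eq, map_smul, LinearMap.smul_apply, smul_eq_mul]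

theorem bf_smul_right (c : ℤ) (x y : Fin 24 → ℤ) : bf B x (c • y) = c * bf B x y := by
  simp only [bf_eq, map_smul, smul_eq_mul]

theorem bf_neg_left (x y : Fin 24 → ℤ) : bf B (-x) y = -bf B x y := by
  simp only [bf_eq, map_neg, LinearMap.neg_apply]

theorem bf_neg_right (x y : Fin 24 → ℤ) : bf B x (-y) = -bf B x y := by
  simp only [bf_eq, map_neg]

theorem bf_sub_left (x y z : Fin 24 → ℤ) : bf B (x - y) z = bf B x z - bf B y z := by
  simp only [bf_eq, map_sub, LinearMap.sub_apply]

theorem bf_sub_right (x y z : Fin 24 → ℤ) : bf B x (y - z) = bf B x y - bf B x z := by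
  simp only [bf_eq, map_sub]

theorem bf_zero_left (y : Fin 24 → ℤ) : bf B 0 y = 0 := by
  simp only [bf_eq, map_zero, LinearMap.zero_apply]

theorem bf_zero_right (x : Fin 24 → ℤ) : bf B x 0 = 0 := by
  simp only [bf_eq, map_zero]

theorem bf_sum_left {ι : Type*} (s : Finset ι) (f : ι → Fin 24 → ℤ) (y : Fin 24 → ℤ) :
    bf B (∑ i ∈ s, f i) y = ∑ i ∈ s, bf B (f i) y := by
  simp only [bf_eq, map_sum, LinearMap.sum_apply]

theorem bf_sum_right {ι : Type*} (s : Finset ι) (x : Fin 24 → ℤ) (f : ι → Fin 24 → ℤ) :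
    bf B x (∑ i ∈ s, f i) = ∑ i ∈ s, bf B x (f i) := by
  simp only [bf_eq, map_sum]

theorem bf_comm (hB : B.IsSymm) (x y : Fin 24 → ℤ) : bf B x y = bf B y x := by
  unfold bf
  rw [dotProduct_mulVec, dotProduct_comm, ← mulVec_transpose, hB.eq]

/-- The hypotheses on the Gram matrix. -/
structure IsLeechLike (B : Matrix (Fin 24) (Fin 24) ℤ) : Prop where
  symm : B.IsSymm
  pos : ∀ x : Fin 24 → ℤ, x ≠ 0 → 0 < bf B x x
  even : ∀ x : Fin 24 → ℤ, (2 : ℤ) ∣ bf B x x
  no2 : ∀ x : Fin 24 → ℤ, bf B x x ≠ 2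

theorem four_le (hB : IsLeechLike B) {x : Fin 24 → ℤ} (hx : x ≠ 0) : 4 ≤ bf B x x := by
  have h1 := hB.pos x hx
  obtain ⟨k, hk⟩ := hB.even x
  have h2 := hB.no2 x
  omega

theorem bf_self_add (hB : IsLeechLike B) (x y : Fin 24 → ℤ) :
    bf B (x + y) (x + y) = bf B x x + 2 * bf B x y + bf B y y := by
  rw [bf_add_left, bf_add_right, bf_add_right, bf_comm hB.symm y x]; ring

theorem bf_self_sub (hB : IsLeechLike B) (x y : Fin 24 → ℤ) :
    bf B (x - y) (x - y) = bf B x x - 2 * bf B x y + bf B y y := by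
  rw [bf_sub_left, bf_sub_right, bf_sub_right, bf_comm hB.symm y x]; ring

theorem bf_self_two_smul (z : Fin 24 → ℤ) :
    bf B ((2 : ℤ) • z) ((2 : ℤ) • z) = 4 * bf B z z := by
  rw [bf_smul_left, bf_smul_right]; ring

/-- Two distinct, non-opposite short vectors congruent modulo `2L` have norm 8 and are
orthogonal. -/
theorem short_congr (hB : IsLeechLike B) {x y z : Fin 24 → ℤ} (hx : bf B x x ≤ 8)
    (hy : bf B y y ≤ 8) (hz : x - y = (2 : ℤ) • z) (h1 : x ≠ y) (h2 : x ≠ -y) :
    bf B x x = 8 ∧ bf B y y = 8 ∧ bf B x y = 0 := by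
  have hz0 : z ≠ 0 := by
    rintro rfl
    apply h1
    rw [smul_zero, sub_eq_zero] at hz
    exact hz
  have e1 : x + y = (2 : ℤ) • (z + y) := by
    rw [smul_add, ← hz, two_smul]; abel
  have hzy : z + y ≠ 0 := by
    intro h
    apply h2
    rw [h, smul_zero] at e1
    exact eq_neg_of_add_eq_zero_left e1
  have a1 := four_le hB hz0
  have a2 := four_le hB hzy
  have b1 := bf_self_sub hB x y
  have b2 := bf_self_add hB x y
  rw [hz, bf_self_two_smul] at b1
  rw [e1, bf_self_two_smul] at b2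
  refine ⟨by omega, by omega, by omega⟩

/-- Reduction modulo 2. -/
def red : (Fin 24 → ℤ) →+ (Fin 24 → ZMod 2) where
  toFun x i := (x i : ZMod 2)
  map_zero' := by funext i; simp
  map_add' x y := by funext i; simp

theorem red_apply (x : Fin 24 → ℤ) (i : Fin 24) : red x i = (x i : ZMod 2) := rfl

theorem exists_of_red_eq {x y : Fin 24 → ℤ} (h : red x = red y) :
    ∃ z : Fin 24 → ℤ, x - y = (2 : ℤ) • z := by
  have : ∀ i, ∃ k : ℤ, x i - y i = 2 * k := by
    intro i
    have hi := congrFun h i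
    rw [red_apply, red_apply, ZMod.intCast_eq_intCast_iff_dvd_sub] at hi
    obtain ⟨k, hk⟩ := hi
    exact ⟨-k, by push_cast at hk; linarith⟩
  choose z hz using this
  exact ⟨z, by funext i; simp [hz i]⟩

theorem red_ne_of_norm_ne (hB : IsLeechLike B) {x y : Fin 24 → ℤ} (hx : bf B x x ≤ 8)
    (hy : bf B y y ≤ 8) (hne : bf B x x ≠ bf B y y) : red x ≠ red y := by
  intro h
  obtain ⟨z, hz⟩ := exists_of_red_eq h
  have h1 : x ≠ y := by rintro rfl; exact hne rfl
  have h2 : x ≠ -y := by
    rintro rfl; apply hne; rw [bf_neg_left, bf_neg_right, neg_neg]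
  obtain ⟨a, b, _⟩ := short_congr hB hx hy hz h1 h2
  exact hne (a.trans b.symm)

theorem card_le_two_mul (hB : IsLeechLike B) (S : Finset (Fin 24 → ℤ)) (n : ℤ) (hn : n < 8)
    (hS : ∀ x ∈ S, bf B x x = n) : S.card ≤ 2 * (S.image red).card := by
  classical
  apply Finset.card_le_mul_card_image
  intro b hb
  obtain ⟨x0, hx0, rfl⟩ := Finset.mem_image.mp hb
  calc _ ≤ ({x0, -x0} : Finset (Fin 24 → ℤ)).card := by
        apply Finset.card_le_card
        intro x hx
        rw [Finset.mem_filter] at hx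
        obtain ⟨z, hz⟩ := exists_of_red_eq hx.2
        by_contra hcon
        rw [Finset.mem_insert, Finset.mem_singleton, not_or] at hcon
        have := short_congr hB (by rw [hS x hx.1]; omega) (by rw [hS x0 hx0]; omega) hz
          hcon.1 hcon.2
        rw [hS x hx.1] at this; omega
    _ ≤ 2 := Finset.card_le_two

theorem disj_images (hB : IsLeechLike B) (S S' : Finset (Fin 24 → ℤ)) (n n' : ℤ) (hn : n ≤ 8)
    (hn' : n' ≤ 8) (hne : n ≠ n') (hS : ∀ x ∈ S, bf B x x = n) (hS' : ∀ x ∈ S', bf B x x = n') :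
    Disjoint (S.image red) (S'.image red) := by
  classical
  rw [Finset.disjoint_left]
  intro b hb hb'
  obtain ⟨x, hx, rfl⟩ := Finset.mem_image.mp hb
  obtain ⟨y, hy, hxy⟩ := Finset.mem_image.mp hb'
  exact red_ne_of_norm_ne hB (by rw [hS' y hy]; exact hn') (by rw [hS x hx]; exact hn)
    (by rw [hS' y hy, hS x hx]; exact hne.symm) hxy

theorem exists_big_fibre (hB : IsLeechLike B) (S4 S6 S8 : Finset (Fin 24 → ℤ))
    (h4 : ∀ x ∈ S4, bf B x x = 4) (h6 : ∀ x ∈ S6, bf B x x = 6) (h8 : ∀ x ∈ S8, bf B x x = 8)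
    (c4 : S4.card = 196560) (c6 : S6.card = 16773120) (c8 : S8.card = 398034000) :
    ∃ b, 48 ≤ (S8.filter (fun x => red x = b)).card := by
  classical
  by_contra hcon
  push Not at hcon
  have k8 : S8.card ≤ 47 * (S8.image red).card :=
    Finset.card_le_mul_card_image S8 47 (fun b _ => by have := hcon b; omega)
  have k4 := card_le_two_mul hB S4 4 (by norm_num) h4
  have k6 := card_le_two_mul hB S6 6 (by norm_num) h6
  have h0 : ∀ x ∈ ({0} : Finset (Fin 24 → ℤ)), bf B x x = 0 := by
    intro x hx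
    rw [Finset.mem_singleton] at hx
    rw [hx, bf_zero_left]
  have d04 := disj_images hB _ _ 0 4 (by norm_num) (by norm_num) (by norm_num) h0 h4
  have d06 := disj_images hB _ _ 0 6 (by norm_num) (by norm_num) (by norm_num) h0 h6
  have d08 := disj_images hB _ _ 0 8 (by norm_num) (by norm_num) (by norm_num) h0 h8
  have d46 := disj_images hB _ _ 4 6 (by norm_num) (by norm_num) (by norm_num) h4 h6
  have d48 := disj_images hB _ _ 4 8 (by norm_num) (by norm_num) (by norm_num) h4 h8
  have d68 := disj_images hB _ _ 6 8 (by norm_num) (by norm_num) (by norm_num) h6 h8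
  have hle : ((({0} : Finset (Fin 24 → ℤ)).image red ∪ S4.image red) ∪ S6.image red ∪
      S8.image red).card ≤ Fintype.card (Fin 24 → ZMod 2) := Finset.card_le_univ _
  rw [Finset.card_union_of_disjoint (Finset.disjoint_union_left.mpr
      ⟨Finset.disjoint_union_left.mpr ⟨d08, d48⟩, d68⟩),
    Finset.card_union_of_disjoint (Finset.disjoint_union_left.mpr ⟨d06, d46⟩),
    Finset.card_union_of_disjoint d04, Finset.image_singleton, Finset.card_singleton] at hle
  have hc : Fintype.card (Fin 24 → ZMod 2) = 2 ^ 24 := by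
    rw [Fintype.card_fun, ZMod.card, Fintype.card_fin]
  rw [hc] at hle
  omega

/-- The frame: 24 pairwise orthogonal vectors of norm 8, pairwise congruent modulo `2L`. -/
theorem exists_frame (hB : IsLeechLike B)
    (h4 : {x : Fin 24 → ℤ | bf B x x = 4}.ncard = 196560)
    (h6 : {x : Fin 24 → ℤ | bf B x x = 6}.ncard = 16773120)
    (h8 : {x : Fin 24 → ℤ | bf B x x = 8}.ncard = 398034000) :
    ∃ v : Fin 24 → (Fin 24 → ℤ), (∀ i j, bf B (v i) (v j) = if i = j then 8 else 0) ∧
      ∀ i j, ∃ z : Fin 24 → ℤ, v i - v j = (2 : ℤ) • z := by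
  classical
  have hf4 : {x : Fin 24 → ℤ | bf B x x = 4}.Finite :=
    Set.finite_of_ncard_ne_zero (by rw [h4]; norm_num)
  have hf6 : {x : Fin 24 → ℤ | bf B x x = 6}.Finite :=
    Set.finite_of_ncard_ne_zero (by rw [h6]; norm_num)
  have hf8 : {x : Fin 24 → ℤ | bf B x x = 8}.Finite :=
    Set.finite_of_ncard_ne_zero (by rw [h8]; norm_num)
  obtain ⟨b, hb⟩ := exists_big_fibre hB hf4.toFinset hf6.toFinset hf8.toFinset
    (fun x hx => by simpa using hx) (fun x hx => by simpa using hx) (fun x hx => by simpa using hx)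
    (by rw [← Set.ncard_eq_toFinset_card _ hf4, h4])
    (by rw [← Set.ncard_eq_toFinset_card _ hf6, h6])
    (by rw [← Set.ncard_eq_toFinset_card _ hf8, h8])
  set F := hf8.toFinset.filter (fun x => red x = b) with hF
  have hF8 : ∀ x ∈ F, bf B x x = 8 := by
    intro x hx
    rw [hF, Finset.mem_filter, Set.Finite.mem_toFinset] at hx
    exact hx.1
  have hFr : ∀ x ∈ F, red x = b := by
    intro x hx
    rw [hF, Finset.mem_filter] at hx
    exact hx.2
  have hF0 : ∀ x ∈ F, x ≠ -x := by
    intro x hx h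
    have h8 := hF8 x hx
    have : x = 0 := by
      funext i
      have := congrFun h i
      simp only [Pi.neg_apply, Pi.zero_apply] at this ⊢
      omega
    rw [this, bf_zero_left] at h8
    norm_num at h8
  -- a maximal antipodal-free subset
  let 𝒯 := F.powerset.filter (fun T => ∀ x ∈ T, ∀ y ∈ T, x ≠ -y)
  have h𝒯 : 𝒯.Nonempty := ⟨∅, by simp [𝒯]⟩
  obtain ⟨T, hT⟩ := Finset.exists_maximal h𝒯
  have hT1 : T ⊆ F := by
    have := hT.prop
    simp only [𝒯, Finset.mem_filter, Finset.mem_powerset] at this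
    exact this.1
  have hT2 : ∀ x ∈ T, ∀ y ∈ T, x ≠ -y := by
    have := hT.prop
    simp only [𝒯, Finset.mem_filter, Finset.mem_powerset] at this
    exact this.2
  have hcover : F ⊆ T ∪ T.image Neg.neg := by
    intro x hx
    by_contra hcon
    rw [Finset.mem_union, not_or] at hcon
    obtain ⟨hxT, hxN⟩ := hcon
    have hins : insert x T ∈ 𝒯 := by
      simp only [𝒯, Finset.mem_filter, Finset.mem_powerset]
      refine ⟨Finset.insert_subset hx hT1, ?_⟩
      intro y hy y' hy'
      rw [Finset.mem_insert] at hy hy'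
      rcases hy with hy | hy <;> rcases hy' with hy' | hy'
      · rw [hy, hy']
        exact hF0 x hx
      · intro h
        apply hxN
        rw [Finset.mem_image]
        exact ⟨y', hy', by rw [← hy, h]⟩
      · intro h
        apply hxN
        rw [Finset.mem_image]
        exact ⟨y, hy, by rw [h, neg_neg, hy']⟩
      · exact hT2 y hy y' hy'
    have := hT.le_of_ge hins (Finset.subset_insert x T)
    exact hxT (this (Finset.mem_insert_self x T))
  have hcard : 24 ≤ T.card := by
    have h1 : F.card ≤ (T ∪ T.image Neg.neg).card := Finset.card_le_card hcover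
    have h2 := Finset.card_union_le T (T.image Neg.neg)
    have h3 : (T.image Neg.neg).card ≤ T.card := Finset.card_image_le
    omega
  obtain ⟨T', hT'sub, hT'card⟩ := Finset.exists_subset_card_eq hcard
  let g : Fin 24 ≃ T' := (Finset.equivFinOfCardEq hT'card).symm
  refine ⟨fun i => (g i : Fin 24 → ℤ), ?_, ?_⟩
  · intro i j
    have hi : (g i : Fin 24 → ℤ) ∈ T := hT'sub (g i).2
    have hj : (g j : Fin 24 → ℤ) ∈ T := hT'sub (g j).2
    by_cases hij : i = j
    · rw [if_pos hij, hij]
      exact hF8 _ (hT1 hj)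
    · rw [if_neg hij]
      have hne : (g i : Fin 24 → ℤ) ≠ (g j : Fin 24 → ℤ) := by
        intro h
        exact hij (g.injective (Subtype.ext h))
      obtain ⟨z, hz⟩ := exists_of_red_eq
        ((hFr _ (hT1 hi)).trans (hFr _ (hT1 hj)).symm)
      exact (short_congr hB (le_of_eq (hF8 _ (hT1 hi))) (le_of_eq (hF8 _ (hT1 hj))) hz hne
        (hT2 _ hi _ hj)).2.2
  · intro i j
    have hi : (g i : Fin 24 → ℤ) ∈ T := hT'sub (g i).2
    have hj : (g j : Fin 24 → ℤ) ∈ T := hT'sub (g j).2
    exact exists_of_red_eq ((hFr _ (hT1 hi)).trans (hFr _ (hT1 hj)).symm)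

end Cfsg.Agent.Lib.Helper7_ConwayA
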