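import Cfsg.Agent.Lib.Helper7_ConwayA

/-!
Conway's characterisation of the Leech lattice, part B: coordinates with respect to a frame.
The image of the lattice in `ℤ^24` is a "nice" sublattice.
-/

set_option autoImplicit false
open Matrix

namespace Cfsg.Agent.Lib.Helper7_ConwayB

open Cfsg.Agent.Lib.Helper7_ConwayA

variable {B : Matrix (Fin 24) (Fin 24) ℤ} {v : Fin 24 → (Fin 24 → ℤ)}

/-- A frame: 24 pairwise orthogonal vectors of norm 8, pairwise congruent modulo `2L`. -/
structure IsFrame (B : Matrix (Fin 24) (Fin 24) ℤ) (v : Fin 24 → (Fin 24 → ℤ)) : Prop where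
  orth : ∀ i j, bf B (v i) (v j) = if i = j then 8 else 0
  congr : ∀ i j, ∃ z : Fin 24 → ℤ, v i - v j = (2 : ℤ) • z

/-- The coordinates of a vector with respect to a frame. -/
def coord (B : Matrix (Fin 24) (Fin 24) ℤ) (v : Fin 24 → (Fin 24 → ℤ)) :
    (Fin 24 → ℤ) →+ (Fin 24 → ℤ) where
  toFun x i := bf B x (v i)
  map_zero' := by funext i; simp [bf_zero_left]
  map_add' x y := by funext i; simp [bf_add_left]

theorem coord_apply (x : Fin 24 → ℤ) (i : Fin 24) : coord B v x i = bf B x (v i) := rfl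

theorem eq_zero_of_orth (hv : IsFrame B v) {y : Fin 24 → ℤ} (hy : ∀ i, bf B (v i) y = 0) :
    y = 0 := by
  let V : Matrix (Fin 24) (Fin 24) ℤ := Matrix.of v
  have key : ∀ i j, ((V * B) * Vᵀ) i j = bf B (v i) (v j) := by
    intro i j
    unfold bf
    rw [dotProduct_mulVec]
    simp only [Matrix.mul_apply, dotProduct, vecMul, Matrix.transpose_apply, V, Matrix.of_apply]
  have h1 : (V * B) * Vᵀ = (8 : ℤ) • (1 : Matrix (Fin 24) (Fin 24) ℤ) := by
    ext i j
    rw [key, hv.orth, Matrix.smul_apply, Matrix.one_apply]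
    split_ifs <;> simp
  have hdet : (V * B).det ≠ 0 := by
    intro h
    have h2 := congrArg Matrix.det h1
    rw [Matrix.det_mul, h, zero_mul, Matrix.det_smul, Matrix.det_one] at h2
    norm_num at h2
  apply Matrix.eq_zero_of_mulVec_eq_zero hdet
  funext i
  rw [← Matrix.mulVec_mulVec]
  exact hy i

theorem expand (hB : IsLeechLike B) (hv : IsFrame B v) (x : Fin 24 → ℤ) :
    (8 : ℤ) • x = ∑ i, coord B v x i • v i := by
  rw [← sub_eq_zero]
  apply eq_zero_of_orth hv
  intro j
  rw [bf_sub_right, bf_smul_right, bf_sum_right]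
  simp only [bf_smul_right, hv.orth, coord_apply, mul_ite, mul_zero, Finset.sum_ite_eq,
    Finset.mem_univ, if_true]
  rw [bf_comm hB.symm x (v j)]
  ring

theorem coord_dot (hB : IsLeechLike B) (hv : IsFrame B v) (x x' : Fin 24 → ℤ) :
    coord B v x ⬝ᵥ coord B v x' = 8 * bf B x x' := by
  have := congrArg (fun y => bf B y x') (expand hB hv x)
  simp only [bf_smul_left, bf_sum_left] at this
  rw [this]
  unfold dotProduct
  apply Finset.sum_congr rfl
  intro i _
  rw [coord_apply, coord_apply, bf_comm hB.symm (v i) x']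

theorem coord_injective (hB : IsLeechLike B) (hv : IsFrame B v) :
    Function.Injective (coord B v) := by
  rw [injective_iff_map_eq_zero]
  intro x hx
  have h := expand hB hv x
  rw [hx] at h
  simp only [Pi.zero_apply, zero_smul, Finset.sum_const_zero] at h
  funext i
  have := congrFun h i
  simp only [Pi.smul_apply, smul_eq_mul, Pi.zero_apply] at this ⊢
  omega

/-- The properties of the coordinate lattice. -/
structure Nice (Λ : AddSubgroup (Fin 24 → ℤ)) : Prop where
  dvd8 : ∀ a ∈ Λ, ∀ a' ∈ Λ, (8 : ℤ) ∣ a ⬝ᵥ a'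
  dvd16 : ∀ a ∈ Λ, (16 : ℤ) ∣ a ⬝ᵥ a
  min32 : ∀ a ∈ Λ, a ≠ 0 → 32 ≤ a ⬝ᵥ a
  e8 : ∀ i, (Pi.single i (8 : ℤ) : Fin 24 → ℤ) ∈ Λ
  e4 : ∀ i j, (Pi.single i (4 : ℤ) - Pi.single j (4 : ℤ) : Fin 24 → ℤ) ∈ Λ
  n32 : {a : Fin 24 → ℤ | a ∈ Λ ∧ a ⬝ᵥ a = 32}.ncard = 196560

theorem nice_range (hB : IsLeechLike B) (hv : IsFrame B v)
    (h4 : {x : Fin 24 → ℤ | bf B x x = 4}.ncard = 196560) : Nice (coord B v).range where
  dvd8 := by
    rintro _ ⟨x, rfl⟩ _ ⟨x', rfl⟩
    rw [coord_dot hB hv]
    exact dvd_mul_right _ _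
  dvd16 := by
    rintro _ ⟨x, rfl⟩
    rw [coord_dot hB hv]
    obtain ⟨k, hk⟩ := hB.even x
    exact ⟨k, by rw [hk]; ring⟩
  min32 := by
    rintro _ ⟨x, rfl⟩ hne
    rw [coord_dot hB hv]
    have hx : x ≠ 0 := by
      rintro rfl
      exact hne (map_zero _)
    have := four_le hB hx
    omega
  e8 := by
    intro i
    refine ⟨v i, ?_⟩
    funext j
    rw [coord_apply, hv.orth, Pi.single_apply]
    by_cases h : i = j
    · rw [if_pos h, if_pos h.symm]
    · rw [if_neg h, if_neg (fun h' => h h'.symm)]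
  e4 := by
    intro i j
    obtain ⟨z, hz⟩ := hv.congr i j
    refine ⟨z, ?_⟩
    funext k
    have h1 : 2 * bf B z (v k) = bf B (v i) (v k) - bf B (v j) (v k) := by
      rw [← bf_smul_left, ← hz, bf_sub_left]
    rw [hv.orth, hv.orth] at h1
    rw [coord_apply, Pi.sub_apply, Pi.single_apply, Pi.single_apply]
    by_cases hi : i = k <;> by_cases hj : j = k
    · rw [if_pos hi, if_pos hj] at h1
      rw [if_pos hi.symm, if_pos hj.symm]; omega
    · rw [if_pos hi, if_neg hj] at h1
      rw [if_pos hi.symm, if_neg (fun h' => hj h'.symm)]; omega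
    · rw [if_neg hi, if_pos hj] at h1
      rw [if_neg (fun h' => hi h'.symm), if_pos hj.symm]; omega
    · rw [if_neg hi, if_neg hj] at h1
      rw [if_neg (fun h' => hi h'.symm), if_neg (fun h' => hj h'.symm)]; omega
  n32 := by
    have : {a : Fin 24 → ℤ | a ∈ (coord B v).range ∧ a ⬝ᵥ a = 32} =
        coord B v '' {x : Fin 24 → ℤ | bf B x x = 4} := by
      ext a
      constructor
      · rintro ⟨⟨x, rfl⟩, h⟩
        rw [coord_dot hB hv] at h
        exact ⟨x, by simp only [Set.mem_ofPred_eq]; omega, rfl⟩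
      · rintro ⟨x, hx, rfl⟩
        simp only [Set.mem_ofPred_eq] at hx
        refine ⟨⟨x, rfl⟩, ?_⟩
        rw [coord_dot hB hv, hx]; norm_num
    rw [this, Set.ncard_image_of_injective _ (coord_injective hB hv), h4]

end Cfsg.Agent.Lib.Helper7_ConwayB
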