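import Cfsg.Agent.Lib.Helper7_ConwayB
import Cfsg.Agent.Lib.Helper93_Code24

/-!
Conway's characterisation of the Leech lattice, part C: the binary code of a nice sublattice of
`ℤ^24` is self-orthogonal, doubly even and of minimum weight at least 8.
-/

set_option autoImplicit false
open Matrix

namespace Cfsg.Agent.Lib.Helper7_ConwayC

open Cfsg.Agent.Lib.Helper7_ConwayA Cfsg.Agent.Lib.Helper7_ConwayB

variable {Λ : AddSubgroup (Fin 24 → ℤ)}

theorem e4' (hΛ : Nice Λ) (i j : Fin 24) :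
    (Pi.single i (4 : ℤ) + Pi.single j (4 : ℤ) : Fin 24 → ℤ) ∈ Λ := by
  have h1 := hΛ.e4 i j
  have h2 := hΛ.e8 j
  have : (Pi.single i (4 : ℤ) + Pi.single j (4 : ℤ) : Fin 24 → ℤ) =
      (Pi.single i 4 - Pi.single j 4) + Pi.single j 8 := by
    funext k
    simp only [Pi.add_apply, Pi.sub_apply, Pi.single_apply]
    split_ifs <;> norm_num
  rw [this]
  exact Λ.add_mem h1 h2

theorem parity (hΛ : Nice Λ) {a : Fin 24 → ℤ} (ha : a ∈ Λ) (i j : Fin 24) :
    (2 : ℤ) ∣ a i - a j := by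
  have := hΛ.dvd8 a ha _ (hΛ.e4 i j)
  rw [dotProduct_sub, dotProduct_single, dotProduct_single] at this
  omega

/-- The sublattice `{u | 4 ∣ u i, 8 ∣ ∑ u i}` is contained in a nice lattice. -/
theorem mem_of_dvd4 (hΛ : Nice Λ) {u : Fin 24 → ℤ} (h4 : ∀ i, (4 : ℤ) ∣ u i)
    (h8 : (8 : ℤ) ∣ ∑ i, u i) : u ∈ Λ := by
  choose k hk using h4
  obtain ⟨m, hm⟩ := h8
  have hs : ∑ i, k i * 4 = 8 * m := by
    rw [← hm]
    apply Finset.sum_congr rfl
    intro i _
    rw [hk i]; ring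
  have : u = ∑ i, k i • (Pi.single i (4 : ℤ) - Pi.single 0 (4 : ℤ) : Fin 24 → ℤ) +
      m • (Pi.single 0 (8 : ℤ) : Fin 24 → ℤ) := by
    funext j
    simp only [Pi.add_apply, Finset.sum_apply, Pi.smul_apply, Pi.sub_apply, Pi.single_apply,
      smul_eq_mul]
    by_cases hj : j = 0
    · simp only [hj, if_true, mul_sub, Finset.sum_sub_distrib, mul_ite, mul_zero,
        Finset.sum_ite_eq, Finset.mem_univ]
      rw [hs, hk 0]; ring
    · simp only [hj, if_false, mul_sub, Finset.sum_sub_distrib, mul_ite, mul_zero,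
        Finset.sum_ite_eq, Finset.mem_univ, if_true, Finset.sum_const_zero, sub_zero, add_zero]
      rw [hk j]; ring
  rw [this]
  apply Λ.add_mem
  · apply Λ.sum_mem
    intro i _
    exact Λ.zsmul_mem (hΛ.e4 i 0) _
  · exact Λ.zsmul_mem (hΛ.e8 0) _

/-- The even half of the lattice, halved. -/
def half (Λ : AddSubgroup (Fin 24 → ℤ)) : AddSubgroup (Fin 24 → ℤ) :=
  Λ.comap (zsmulAddGroupHom 2)

theorem mem_half {h : Fin 24 → ℤ} : h ∈ half Λ ↔ (2 : ℤ) • h ∈ Λ := Iff.rfl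

/-- The binary code of the lattice. -/
def code (Λ : AddSubgroup (Fin 24 → ℤ)) : Submodule (ZMod 2) (Fin 24 → ZMod 2) :=
  AddSubgroup.toZModSubmodule 2 ((half Λ).map red)

theorem mem_code {c : Fin 24 → ZMod 2} :
    c ∈ code Λ ↔ ∃ h : Fin 24 → ℤ, (2 : ℤ) • h ∈ Λ ∧ red h = c := by
  unfold code
  rw [AddSubgroup.mem_toZModSubmodule, AddSubgroup.mem_map]
  rfl

theorem cast_eq_zero_iff (n : ℤ) : ((n : ℤ) : ZMod 2) = 0 ↔ n % 2 = 0 := by
  rw [ZMod.intCast_zmod_eq_zero_iff_dvd]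
  push_cast
  omega

theorem hammingNorm_red (h : Fin 24 → ℤ) : (hammingNorm (red h) : ℤ) = ∑ i, h i % 2 := by
  unfold hammingNorm
  rw [Finset.card_filter]
  push_cast
  apply Finset.sum_congr rfl
  intro i _
  rw [red_apply]
  have := cast_eq_zero_iff (h i)
  split_ifs with h1
  · have h2 : h i % 2 ≠ 0 := fun h' => h1 (this.mpr h')
    omega
  · rw [not_not] at h1
    have h2 := this.mp h1
    omega

theorem sq_sub_mod (n : ℤ) : (4 : ℤ) ∣ n * n - n % 2 := by
  obtain ⟨k, hk | hk⟩ := Int.even_or_odd' n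
  · have hr : n % 2 = 0 := by omega
    rw [hr, hk]
    exact ⟨k * k, by ring⟩
  · have hr : n % 2 = 1 := by omega
    rw [hr, hk]
    exact ⟨k * k + k, by ring⟩

theorem norm_sub_wt (h : Fin 24 → ℤ) : (4 : ℤ) ∣ h ⬝ᵥ h - (hammingNorm (red h) : ℤ) := by
  rw [hammingNorm_red]
  unfold dotProduct
  rw [← Finset.sum_sub_distrib]
  exact Finset.dvd_sum (fun i _ => sq_sub_mod (h i))

theorem mod_two_le_sq (n : ℤ) : n % 2 ≤ n * n := by
  rcases eq_or_ne n 0 with rfl | hn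
  · simp
  · have h1 : 1 ≤ n * n := by
      rcases lt_or_gt_of_ne hn with h | h <;> nlinarith
    omega

theorem wt_le_norm (h : Fin 24 → ℤ) : (hammingNorm (red h) : ℤ) ≤ h ⬝ᵥ h := by
  rw [hammingNorm_red]
  exact Finset.sum_le_sum (fun i _ => mod_two_le_sq (h i))

theorem two_smul_dot (h h' : Fin 24 → ℤ) :
    ((2 : ℤ) • h) ⬝ᵥ ((2 : ℤ) • h') = 4 * (h ⬝ᵥ h') := by
  rw [smul_dotProduct, dotProduct_smul, smul_eq_mul, smul_eq_mul]; ring

theorem code_orth (hΛ : Nice Λ) {c c' : Fin 24 → ZMod 2} (hc : c ∈ code Λ)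
    (hc' : c' ∈ code Λ) : ∑ i, c i * c' i = 0 := by
  rw [mem_code] at hc hc'
  obtain ⟨h, hh, rfl⟩ := hc
  obtain ⟨h', hh', rfl⟩ := hc'
  have h8 := hΛ.dvd8 _ hh _ hh'
  rw [two_smul_dot] at h8
  have h2 : (2 : ℤ) ∣ h ⬝ᵥ h' := by omega
  have : ∑ i, red h i * red h' i = ((h ⬝ᵥ h' : ℤ) : ZMod 2) := by
    unfold dotProduct
    push_cast
    rfl
  rw [this, ZMod.intCast_zmod_eq_zero_iff_dvd]
  exact_mod_cast h2

theorem code_dvd4 (hΛ : Nice Λ) {c : Fin 24 → ZMod 2} (hc : c ∈ code Λ) :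
    4 ∣ hammingNorm c := by
  rw [mem_code] at hc
  obtain ⟨h, hh, rfl⟩ := hc
  have h16 := hΛ.dvd16 _ hh
  rw [two_smul_dot] at h16
  have h1 := norm_sub_wt h
  omega

/-- Every non-zero code word lifts to a lattice vector with entries `±2` on its support and `0`
elsewhere. -/
theorem exists_lift (hΛ : Nice Λ) {c : Fin 24 → ZMod 2} (hc : c ∈ code Λ) (hc0 : c ≠ 0) :
    ∃ t ∈ Λ, ∀ i, (c i = 0 → t i = 0) ∧ (c i ≠ 0 → t i = 2 ∨ t i = -2) := by
  obtain ⟨h, hh, rfl⟩ := mem_code.mp hc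
  obtain ⟨j0, hj0⟩ : ∃ j, red h j ≠ 0 := by
    by_contra hcon
    push Not at hcon
    exact hc0 (funext hcon)
  let t0 : Fin 24 → ℤ := fun i => 2 * (h i % 2)
  have hu4 : ∀ i, (4 : ℤ) ∣ ((2 : ℤ) • h - t0) i := by
    intro i
    simp only [Pi.sub_apply, Pi.smul_apply, smul_eq_mul, t0]
    omega
  have hsum4 : (4 : ℤ) ∣ ∑ i, ((2 : ℤ) • h - t0) i := Finset.dvd_sum (fun i _ => hu4 i)
  have hprop : ∀ i, (red h i = 0 → t0 i = 0) ∧ (red h i ≠ 0 → t0 i = 2) := by
    intro i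
    rw [red_apply, ne_eq, cast_eq_zero_iff]
    simp only [t0]
    constructor <;> intro _ <;> omega
  by_cases h8 : (8 : ℤ) ∣ ∑ i, ((2 : ℤ) • h - t0) i
  · refine ⟨t0, ?_, ?_⟩
    · have := mem_of_dvd4 hΛ hu4 h8
      have h' := Λ.sub_mem hh this
      rwa [sub_sub_cancel] at h'
    · intro i
      exact ⟨(hprop i).1, fun hi => Or.inl ((hprop i).2 hi)⟩
  · refine ⟨t0 - (Pi.single j0 (4 : ℤ) : Fin 24 → ℤ), ?_, ?_⟩
    · have hu4' : ∀ i, (4 : ℤ) ∣ ((2 : ℤ) • h - (t0 - (Pi.single j0 (4 : ℤ) : Fin 24 → ℤ))) i := by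
        intro i
        have := hu4 i
        simp only [Pi.sub_apply, Pi.smul_apply, smul_eq_mul, Pi.single_apply] at this ⊢
        split_ifs <;> omega
      have h8' : (8 : ℤ) ∣ ∑ i, ((2 : ℤ) • h - (t0 - (Pi.single j0 (4 : ℤ) : Fin 24 → ℤ))) i := by
        have : ∑ i, ((2 : ℤ) • h - (t0 - (Pi.single j0 (4 : ℤ) : Fin 24 → ℤ))) i =
            ∑ i, ((2 : ℤ) • h - t0) i + 4 := by
          have : ∀ i, ((2 : ℤ) • h - (t0 - (Pi.single j0 (4 : ℤ) : Fin 24 → ℤ))) i =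
              ((2 : ℤ) • h - t0) i + (Pi.single j0 (4 : ℤ) : Fin 24 → ℤ) i := by
            intro i
            simp only [Pi.sub_apply]
            ring
          simp_rw [this]
          rw [Finset.sum_add_distrib, Finset.sum_pi_single']
          simp
        rw [this]
        omega
      have := mem_of_dvd4 hΛ hu4' h8'
      have h' := Λ.sub_mem hh this
      rwa [sub_sub_cancel] at h'
    · intro i
      simp only [Pi.sub_apply, Pi.single_apply]
      constructor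
      · intro hi
        have : i ≠ j0 := by rintro rfl; exact hj0 hi
        rw [if_neg this, (hprop i).1 hi]; rfl
      · intro hi
        rw [(hprop i).2 hi]
        split_ifs
        · right; norm_num
        · left; norm_num

theorem code_min (hΛ : Nice Λ) {c : Fin 24 → ZMod 2} (hc : c ∈ code Λ) (hc0 : c ≠ 0) :
    8 ≤ hammingNorm c := by
  obtain ⟨t, ht, hti⟩ := exists_lift hΛ hc hc0
  have hdot : t ⬝ᵥ t = 4 * (hammingNorm c : ℤ) := by
    unfold dotProduct hammingNorm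
    rw [Finset.card_filter]
    push_cast
    rw [Finset.mul_sum]
    apply Finset.sum_congr rfl
    intro i _
    by_cases hi : c i = 0
    · rw [(hti i).1 hi, if_neg (not_not.mpr hi)]; norm_num
    · rw [if_pos hi]
      rcases (hti i).2 hi with h | h <;> rw [h] <;> norm_num
  have t0 : t ≠ 0 := by
    obtain ⟨j, hj⟩ : ∃ j, c j ≠ 0 := by
      by_contra hcon
      push Not at hcon
      exact hc0 (funext hcon)
    intro h
    rcases (hti j).2 hj with h' | h' <;> rw [h] at h' <;> norm_num at h'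
  have := hΛ.min32 t ht t0
  omega

theorem finrank_le_of_orth (C : Submodule (ZMod 2) (Fin 24 → ZMod 2))
    (horth : ∀ v ∈ C, ∀ w ∈ C, ∑ i, v i * w i = 0) : Module.finrank (ZMod 2) C ≤ 12 := by
  let Bf : LinearMap.BilinForm (ZMod 2) (Fin 24 → ZMod 2) := Matrix.toBilin' 1
  have hnd : Bf.Nondegenerate :=
    LinearMap.BilinForm.nondegenerate_toBilin'_of_det_ne_zero' _ (by rw [Matrix.det_one]; exact one_ne_zero)
  have hle : C ≤ Bf.orthogonal C := by
    intro w hw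
    rw [LinearMap.BilinForm.mem_orthogonal_iff]
    intro n hn
    show Bf n w = 0
    rw [Matrix.toBilin'_apply', Matrix.one_mulVec]
    exact horth n hn w hw
  have h1 := LinearMap.BilinForm.finrank_orthogonal hnd C
  have h2 := Submodule.finrank_mono hle
  have h3 : Module.finrank (ZMod 2) (Fin 24 → ZMod 2) = 24 := by simp
  have h4 := Submodule.finrank_le C
  omega

end Cfsg.Agent.Lib.Helper7_ConwayC
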