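import Cfsg.Agent.Lib.Helper7_ConwayC

/-!
Conway's characterisation of the Leech lattice, part D: the vectors of norm 32 of a nice sublattice
of `ℤ^24` have the shapes `(±4, ±4, 0^22)`, `(±2^8, 0^16)` and `(∓3, ±1^23)`; counting them shows
that the code has dimension 12 and that the lattice has vectors with odd coordinates.
-/

set_option autoImplicit false
open Matrix

namespace Cfsg.Agent.Lib.Helper7_ConwayD

open Cfsg.Agent.Lib.Helper7_ConwayA Cfsg.Agent.Lib.Helper7_ConwayB Cfsg.Agent.Lib.Helper7_ConwayC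
open Cfsg.Agent.Lib.Helper93_Code24 (supp)

variable {Λ : AddSubgroup (Fin 24 → ℤ)}

/-- Halving a vector. -/
def hv (a : Fin 24 → ℤ) : Fin 24 → ℤ := fun i => a i / 2

theorem two_smul_hv (hΛ : Nice Λ) {a : Fin 24 → ℤ} (ha : a ∈ Λ) (h0 : a 0 % 2 = 0) :
    (2 : ℤ) • hv a = a := by
  funext i
  have := parity hΛ ha i 0
  simp only [Pi.smul_apply, smul_eq_mul, hv]
  omega

theorem red_hv_mem (hΛ : Nice Λ) {a : Fin 24 → ℤ} (ha : a ∈ Λ) (h0 : a 0 % 2 = 0) :
    red (hv a) ∈ code Λ :=
  mem_code.mpr ⟨hv a, by rw [two_smul_hv hΛ ha h0]; exact ha, rfl⟩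

theorem hv_dot (hΛ : Nice Λ) {a : Fin 24 → ℤ} (ha : a ∈ Λ) (h0 : a 0 % 2 = 0)
    (h32 : a ⬝ᵥ a = 32) : hv a ⬝ᵥ hv a = 8 := by
  have := two_smul_dot (hv a) (hv a)
  rw [two_smul_hv hΛ ha h0, h32] at this
  omega

theorem wt_cases (hΛ : Nice Λ) {a : Fin 24 → ℤ} (ha : a ∈ Λ) (h0 : a 0 % 2 = 0)
    (h32 : a ⬝ᵥ a = 32) :
    hammingNorm (red (hv a)) = 0 ∨ hammingNorm (red (hv a)) = 8 := by
  have h1 := wt_le_norm (hv a)
  rw [hv_dot hΛ ha h0 h32] at h1
  have h2 := code_dvd4 hΛ (red_hv_mem hΛ ha h0)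
  by_cases hc : red (hv a) = 0
  · left; rw [hc]; exact hammingNorm_zero
  · have h3 := code_min hΛ (red_hv_mem hΛ ha h0) hc
    right; omega

theorem cast_eq_iff (m n : ℤ) : ((m : ℤ) : ZMod 2) = (n : ZMod 2) ↔ (m - n) % 2 = 0 := by
  rw [ZMod.intCast_eq_intCast_iff_dvd_sub]
  push_cast
  omega

/-- The odd vectors of norm 32 have shape `(±3, ±1^23)`. -/
theorem odd_shape (hΛ : Nice Λ) {a : Fin 24 → ℤ} (ha : a ∈ Λ) (h0 : a 0 % 2 = 1)
    (h32 : a ⬝ᵥ a = 32) : ∃ i, a i * a i = 9 ∧ ∀ k, k ≠ i → a k * a k = 1 := by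
  have hodd : ∀ k, a k % 2 = 1 := fun k => by have := parity hΛ ha k 0; omega
  have hsum : ∑ k, (a k * a k - 1) = 8 := by
    rw [Finset.sum_sub_distrib]
    have : ∑ k, a k * a k = 32 := h32
    rw [this]; simp
  have hnn : ∀ k, 0 ≤ a k * a k - 1 := by
    intro k
    have := hodd k
    have h0 : a k ≠ 0 := by omega
    have : 1 ≤ a k * a k := by
      rcases lt_or_gt_of_ne h0 with h | h <;> nlinarith
    omega
  have hbig : ∀ k, a k * a k - 1 ≠ 0 → 8 ≤ a k * a k - 1 := by
    intro k hk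
    have := hodd k
    have h3 : a k ≤ -3 ∨ 3 ≤ a k := by
      by_contra hcon
      push Not at hcon
      have : a k = 1 ∨ a k = -1 := by omega
      rcases this with h | h <;> rw [h] at hk <;> norm_num at hk
    rcases h3 with h | h <;> nlinarith
  obtain ⟨i, hi⟩ : ∃ i, a i * a i - 1 ≠ 0 := by
    by_contra hcon
    push Not at hcon
    rw [Finset.sum_eq_zero (fun k _ => hcon k)] at hsum
    norm_num at hsum
  have hsplit := Finset.add_sum_erase Finset.univ (fun k => a k * a k - 1) (Finset.mem_univ i)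
  have hrest_nn : 0 ≤ ∑ k ∈ Finset.univ.erase i, (a k * a k - 1) :=
    Finset.sum_nonneg (fun k _ => hnn k)
  have hi8 := hbig i hi
  have hrest : ∑ k ∈ Finset.univ.erase i, (a k * a k - 1) = 0 := by linarith
  have hi9 : a i * a i = 9 := by linarith
  rw [Finset.sum_eq_zero_iff_of_nonneg (fun k _ => hnn k)] at hrest
  refine ⟨i, hi9, fun k hk => ?_⟩
  have := hrest k (Finset.mem_erase.mpr ⟨hk, Finset.mem_univ k⟩)
  linarith

/-- The vectors of norm 8 with 8 odd coordinates have entries `0, ±1`. -/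
theorem octad_shape {h : Fin 24 → ℤ} (h8 : h ⬝ᵥ h = 8) (hw : hammingNorm (red h) = 8) :
    ∀ i, h i = 0 ∨ h i = 1 ∨ h i = -1 := by
  have hsum : ∑ i, (h i * h i - h i % 2) = 0 := by
    rw [Finset.sum_sub_distrib, ← hammingNorm_red, hw]
    have : ∑ i, h i * h i = 8 := h8
    rw [this]; norm_num
  rw [Finset.sum_eq_zero_iff_of_nonneg (fun i _ => sub_nonneg.mpr (mod_two_le_sq (h i)))] at hsum
  intro i
  have h0 := hsum i (Finset.mem_univ i)
  have h1 : h i * h i ≤ 1 := by
    have : h i % 2 < 2 := Int.emod_lt_of_pos _ (by norm_num)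
    linarith
  have h2 : -1 ≤ h i ∧ h i ≤ 1 := by constructor <;> nlinarith
  omega

/-- The vectors of norm 32 with all coordinates divisible by 4 have shape `(±4, ±4, 0^22)`. -/
theorem two_shape {a : Fin 24 → ℤ} (h4 : ∀ i, (4 : ℤ) ∣ a i) (h32 : a ⬝ᵥ a = 32) :
    ∃ i j, ∃ s t : ℤ, (s = 4 ∨ s = -4) ∧ (t = 4 ∨ t = -4) ∧
      a = Pi.single i s + Pi.single j t := by
  have hsum : ∑ k, a k * a k = 32 := h32
  have hnn : ∀ k, 0 ≤ a k * a k := fun k => mul_self_nonneg _
  have hval : ∀ k, a k ≠ 0 → a k * a k ≤ 32 → (a k = 4 ∨ a k = -4) := by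
    intro k hk hle
    have := h4 k
    have h5 : -5 ≤ a k ∧ a k ≤ 5 := by constructor <;> nlinarith
    omega
  obtain ⟨i, hi⟩ : ∃ i, a i ≠ 0 := by
    by_contra hcon
    push Not at hcon
    rw [Finset.sum_eq_zero (fun k _ => by rw [hcon k]; ring)] at hsum
    norm_num at hsum
  have hsplit := Finset.add_sum_erase Finset.univ (fun k => a k * a k) (Finset.mem_univ i)
  have hrest_nn : 0 ≤ ∑ k ∈ Finset.univ.erase i, a k * a k :=
    Finset.sum_nonneg (fun k _ => hnn k)
  have hi4 := hval i hi (by linarith)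
  have hfi : a i * a i = 16 := by rcases hi4 with h | h <;> rw [h] <;> norm_num
  have hrest : ∑ k ∈ Finset.univ.erase i, a k * a k = 16 := by linarith
  obtain ⟨j, hj, hj0⟩ : ∃ j ∈ Finset.univ.erase i, a j ≠ 0 := by
    by_contra hcon
    push Not at hcon
    rw [Finset.sum_eq_zero (fun k hk => by rw [hcon k hk]; ring)] at hrest
    norm_num at hrest
  have hsplit2 := Finset.add_sum_erase (Finset.univ.erase i) (fun k => a k * a k) hj
  have hrest2_nn : 0 ≤ ∑ k ∈ (Finset.univ.erase i).erase j, a k * a k :=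
    Finset.sum_nonneg (fun k _ => hnn k)
  have hj4 := hval j hj0 (by linarith)
  have hfj : a j * a j = 16 := by rcases hj4 with h | h <;> rw [h] <;> norm_num
  have hrest2 : ∑ k ∈ (Finset.univ.erase i).erase j, a k * a k = 0 := by linarith
  rw [Finset.sum_eq_zero_iff_of_nonneg (fun k _ => hnn k)] at hrest2
  refine ⟨i, j, a i, a j, hi4, hj4, ?_⟩
  funext k
  simp only [Pi.add_apply, Pi.single_apply]
  have hji : j ≠ i := (Finset.mem_erase.mp hj).1
  by_cases hki : k = i
  · subst hki
    rw [if_pos rfl, if_neg (Ne.symm hji)]; ring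
  · by_cases hkj : k = j
    · subst hkj
      rw [if_neg hki, if_pos rfl]; ring
    · rw [if_neg hki, if_neg hkj]
      have := hrest2 k (Finset.mem_erase.mpr ⟨hkj, Finset.mem_erase.mpr ⟨hki, Finset.mem_univ k⟩⟩)
      rw [mul_self_eq_zero.mp this]; ring

/-- Parameters for the vectors of shape `(±4, ±4, 0^22)`. -/
def twoParams : Finset (Fin 24 × Fin 24 × ℤ × ℤ) :=
  Finset.univ ×ˢ Finset.univ ×ˢ ({4, -4} : Finset ℤ) ×ˢ ({4, -4} : Finset ℤ)

theorem card_twoParams : twoParams.card = 2304 := by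
  have h2 : ({4, -4} : Finset ℤ).card = 2 := by decide
  simp only [twoParams, Finset.card_product, Finset.card_univ, Fintype.card_fin, h2]

theorem mem_twoParams (i j : Fin 24) (s t : ℤ) (hs : s = 4 ∨ s = -4) (ht : t = 4 ∨ t = -4) :
    (i, j, s, t) ∈ twoParams := by
  simp only [twoParams, Finset.mem_product, Finset.mem_univ, true_and, Finset.mem_insert,
    Finset.mem_singleton]
  exact ⟨hs, ht⟩

theorem card_two (S : Finset (Fin 24 → ℤ))
    (hS : ∀ a ∈ S, (∀ i, (4 : ℤ) ∣ a i) ∧ a ⬝ᵥ a = 32) : S.card ≤ 2304 := by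
  classical
  have hsub : S ⊆ twoParams.image
      (fun p => (Pi.single p.1 p.2.2.1 + Pi.single p.2.1 p.2.2.2 : Fin 24 → ℤ)) := by
    intro a ha
    obtain ⟨i, j, s, t, hs, ht, hab⟩ := two_shape (hS a ha).1 (hS a ha).2
    rw [Finset.mem_image]
    exact ⟨(i, j, s, t), mem_twoParams i j s t hs ht, hab.symm⟩
  calc S.card ≤ _ := Finset.card_le_card hsub
    _ ≤ twoParams.card := Finset.card_image_le
    _ = 2304 := card_twoParams

theorem add_self_zmod2 (c : Fin 24 → ZMod 2) : c + c = 0 := by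
  funext i
  simp only [Pi.add_apply, Pi.zero_apply]
  generalize c i = x
  revert x; decide

open scoped Classical in
/-- There are at most 759 code words of weight 8. -/
theorem card_octads (hΛ : Nice Λ) :
    (Finset.univ.filter
      (fun c : Fin 24 → ZMod 2 => c ∈ code Λ ∧ hammingNorm c = 8)).card ≤ 759 := by
  classical
  set 𝒪 := Finset.univ.filter (fun c : Fin 24 → ZMod 2 => c ∈ code Λ ∧ hammingNorm c = 8)
    with h𝒪
  have hdisj : (𝒪 : Set (Fin 24 → ZMod 2)).PairwiseDisjoint
      (fun c => (supp c).powersetCard 5) := by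
    intro c hc c' hc' hne
    rw [Function.onFun, Finset.disjoint_left]
    intro S hS hS'
    rw [Finset.mem_powersetCard] at hS hS'
    have hinter : 5 ≤ (supp c ∩ supp c').card := by
      rw [← hS.2]
      exact Finset.card_le_card (Finset.subset_inter hS.1 hS'.1)
    have hc1 := (Finset.mem_filter.mp hc).2
    have hc'1 := (Finset.mem_filter.mp hc').2
    have hsum : c + c' ∈ code Λ := (code Λ).add_mem hc1.1 hc'1.1
    have hne0 : c + c' ≠ 0 := by
      intro h
      apply hne
      have h2 : c + c' + c' = c := by rw [add_assoc, add_self_zmod2, add_zero]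
      rw [← h2, h, zero_add]
    have h5 := code_min hΛ hsum hne0
    have h6 := Cfsg.Agent.Lib.Helper93_Code24.wt_add c c'
    rw [hc1.2, hc'1.2] at h6
    omega
  have h1 := Finset.card_biUnion hdisj
  have h2 : 𝒪.biUnion (fun c => (supp c).powersetCard 5) ⊆
      (Finset.univ : Finset (Fin 24)).powersetCard 5 := by
    intro S hS
    rw [Finset.mem_biUnion] at hS
    obtain ⟨c, _, hS⟩ := hS
    rw [Finset.mem_powersetCard] at hS ⊢
    exact ⟨Finset.subset_univ _, hS.2⟩
  have h3 := Finset.card_le_card h2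
  rw [h1, Finset.card_powersetCard, Finset.card_univ, Fintype.card_fin] at h3
  have h4 : ∑ c ∈ 𝒪, ((supp c).powersetCard 5).card = 𝒪.card * 56 := by
    rw [Finset.sum_const_nat]
    intro c hc
    rw [Finset.card_powersetCard, ← Cfsg.Agent.Lib.Helper93_Code24.hammingNorm_eq,
      (Finset.mem_filter.mp hc).2.2]
    rfl
  rw [h4] at h3
  have h5 : Nat.choose 24 5 = 42504 := by decide
  omega

/-- The vectors of shape `(±2^8, 0^16)`: at most `128 * 759`. -/
theorem card_octad_type (hΛ : Nice Λ) (S : Finset (Fin 24 → ℤ))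
    (hS : ∀ a ∈ S, a ∈ Λ ∧ a ⬝ᵥ a = 32 ∧ a 0 % 2 = 0 ∧ hammingNorm (red (hv a)) = 8) :
    S.card ≤ 128 * 759 := by
  classical
  have hfib : ∀ c ∈ S.image (fun a => red (hv a)),
      (S.filter (fun a => red (hv a) = c)).card ≤ 128 := by
    intro c hc
    obtain ⟨a0, ha0, hca⟩ := Finset.mem_image.mp hc
    have hwc : hammingNorm c = 8 := by rw [← hca]; exact (hS a0 ha0).2.2.2
    obtain ⟨o, ho⟩ : ∃ o, c o ≠ 0 := by
      by_contra hcon
      push Not at hcon
      have : c = 0 := funext hcon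
      rw [this, hammingNorm_zero] at hwc
      norm_num at hwc
    have ho' : o ∈ supp c := by
      rw [supp, Finset.mem_filter]; exact ⟨Finset.mem_univ o, ho⟩
    have hT : (((supp c).erase o).powerset).card = 128 := by
      rw [Finset.card_powerset, Finset.card_erase_of_mem ho',
        ← Cfsg.Agent.Lib.Helper93_Code24.hammingNorm_eq, hwc]
      rfl
    rw [← hT]
    -- the shape of the vectors in the fibre
    have hshape : ∀ a ∈ S.filter (fun a => red (hv a) = c), ∀ k,
        (hv a k = 0 ∨ hv a k = 1 ∨ hv a k = -1) ∧ a k = 2 * hv a k ∧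
          ((hv a k : ℤ) : ZMod 2) = c k := by
      intro a ha k
      rw [Finset.mem_filter] at ha
      obtain ⟨haS, hac⟩ := ha
      obtain ⟨h1, h2, h3, h4⟩ := hS a haS
      refine ⟨octad_shape (hv_dot hΛ h1 h3 h2) h4 k, ?_, ?_⟩
      · have := congrFun (two_smul_hv hΛ h1 h3) k
        simp only [Pi.smul_apply, smul_eq_mul] at this
        exact this.symm
      · rw [← hac]; rfl
    apply Finset.card_le_card_of_injOn
      (fun a => Finset.univ.filter (fun i => i ≠ o ∧ a i = 2))
    · intro a ha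
      rw [Finset.mem_coe] at ha
      rw [Finset.mem_coe, Finset.mem_powerset]
      intro i hi
      rw [Finset.mem_filter] at hi
      rw [Finset.mem_erase]
      refine ⟨hi.2.1, ?_⟩
      rw [supp, Finset.mem_filter]
      refine ⟨Finset.mem_univ i, ?_⟩
      obtain ⟨_, h2, h3⟩ := hshape a ha i
      rw [← h3]
      have : hv a i = 1 := by omega
      rw [this]
      decide
    · intro a ha a' ha' heq
      rw [Finset.mem_coe] at ha ha'
      simp only at heq
      have hk : ∀ k, k ≠ o → a k = a' k := by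
        intro k hko
        obtain ⟨h1, h2, h3⟩ := hshape a ha k
        obtain ⟨h1', h2', h3'⟩ := hshape a' ha' k
        have hpar : (hv a k - hv a' k) % 2 = 0 := by
          rw [← cast_eq_iff, h3, h3']
        have hmem := Finset.ext_iff.mp heq k
        simp only [Finset.mem_filter, Finset.mem_univ, true_and] at hmem
        have hiff : a k = 2 ↔ a' k = 2 := by
          constructor
          · intro h; exact (hmem.mp ⟨hko, h⟩).2
          · intro h; exact (hmem.mpr ⟨hko, h⟩).2
        omega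
      have hmemΛ : a - a' ∈ Λ :=
        Λ.sub_mem (hS a (Finset.mem_filter.mp ha).1).1 (hS a' (Finset.mem_filter.mp ha').1).1
      have hd : ∀ k, k ≠ o → (a - a') k = 0 := by
        intro k hko
        rw [Pi.sub_apply, hk k hko, sub_self]
      have hdot : (a - a') ⬝ᵥ (a - a') = (a - a') o * (a - a') o := by
        unfold dotProduct
        apply Finset.sum_eq_single o
        · intro k _ hko
          rw [hd k hko]; ring
        · intro h; exact absurd (Finset.mem_univ o) h
      have hzero : a - a' = 0 := by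
        by_contra hne
        have h32 := hΛ.min32 _ hmemΛ hne
        rw [hdot] at h32
        obtain ⟨h1, h2, h3⟩ := hshape a ha o
        obtain ⟨h1', h2', h3'⟩ := hshape a' ha' o
        have hpar : (hv a o - hv a' o) % 2 = 0 := by
          rw [← cast_eq_iff, h3, h3']
        have h4 : (a - a') o = 0 ∨ (a - a') o = 4 ∨ (a - a') o = -4 := by
          rw [Pi.sub_apply]; omega
        rcases h4 with h | h | h <;> rw [h] at h32 <;> norm_num at h32
      exact sub_eq_zero.mp hzero
  have h1 := Finset.card_le_mul_card_image S 128 hfib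
  have h2 : S.image (fun a => red (hv a)) ⊆ Finset.univ.filter
      (fun c : Fin 24 → ZMod 2 => c ∈ code Λ ∧ hammingNorm c = 8) := by
    intro c hc
    obtain ⟨a, ha, rfl⟩ := Finset.mem_image.mp hc
    rw [Finset.mem_filter]
    obtain ⟨h1, _, h3, h4⟩ := hS a ha
    exact ⟨Finset.mem_univ _, red_hv_mem hΛ h1 h3, h4⟩
  have h3 := (Finset.card_le_card h2).trans (card_octads hΛ)
  calc S.card ≤ 128 * (S.image (fun a => red (hv a))).card := h1
    _ ≤ 128 * 759 := Nat.mul_le_mul_left 128 h3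

/-- The position of the entry `±3`. -/
noncomputable def pos (a : Fin 24 → ℤ) : Fin 24 :=
  if h : ∃ i, a i * a i = 9 then h.choose else 0

theorem pos_eq {a : Fin 24 → ℤ} {i : Fin 24} (hi : a i * a i = 9)
    (hk : ∀ k, k ≠ i → a k * a k = 1) : pos a = i := by
  have h : ∃ i, a i * a i = 9 := ⟨i, hi⟩
  unfold pos
  rw [dif_pos h]
  by_contra hne
  have h1 := h.choose_spec
  rw [hk _ hne] at h1
  norm_num at h1

theorem sq_eq_nine {n : ℤ} (h : n * n = 9) : n = 3 ∨ n = -3 := by
  have : (n - 3) * (n + 3) = 0 := by ring_nf; linarith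
  rcases mul_eq_zero.mp this with h | h
  · left; omega
  · right; omega

theorem sq_eq_one {n : ℤ} (h : n * n = 1) : n = 1 ∨ n = -1 := by
  have : (n - 1) * (n + 1) = 0 := by ring_nf; linarith
  rcases mul_eq_zero.mp this with h | h
  · left; omega
  · right; omega

open scoped Classical in
/-- The vectors of shape `(∓3, ±1^23)`: at most 24 times the size of the code. -/
theorem card_odd_type (hΛ : Nice Λ) (S : Finset (Fin 24 → ℤ))
    (hS : ∀ a ∈ S, a ∈ Λ ∧ a ⬝ᵥ a = 32 ∧ a 0 % 2 = 1) :
    S.card ≤ 24 * (Finset.univ.filter (fun c : Fin 24 → ZMod 2 => c ∈ code Λ)).card := by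
  classical
  rcases S.eq_empty_or_nonempty with rfl | ⟨w, hw⟩
  · simp
  have hT : ((Finset.univ : Finset (Fin 24)) ×ˢ
      (Finset.univ.filter (fun c : Fin 24 → ZMod 2 => c ∈ code Λ))).card =
      24 * (Finset.univ.filter (fun c : Fin 24 → ZMod 2 => c ∈ code Λ)).card := by
    rw [Finset.card_product, Finset.card_univ, Fintype.card_fin]
  rw [← hT]
  obtain ⟨hw1, hw2, hw3⟩ := hS w hw
  have hoddw : ∀ k, w k % 2 = 1 := fun k => by have := parity hΛ hw1 k 0; omega
  apply Finset.card_le_card_of_injOn (fun a => (pos a, red (hv (a - w))))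
  · intro a ha
    rw [Finset.mem_coe] at ha
    obtain ⟨h1, h2, h3⟩ := hS a ha
    rw [Finset.mem_coe, Finset.mem_product, Finset.mem_filter]
    refine ⟨Finset.mem_univ _, Finset.mem_univ _, ?_⟩
    apply red_hv_mem hΛ (Λ.sub_mem h1 hw1)
    rw [Pi.sub_apply]; omega
  · intro a ha a' ha' heq
    rw [Finset.mem_coe] at ha ha'
    obtain ⟨h1, h2, h3⟩ := hS a ha
    obtain ⟨h1', h2', h3'⟩ := hS a' ha'
    have hodda : ∀ k, a k % 2 = 1 := fun k => by have := parity hΛ h1 k 0; omega
    have hodda' : ∀ k, a' k % 2 = 1 := fun k => by have := parity hΛ h1' k 0; omega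
    obtain ⟨i, hi9, hi1⟩ := odd_shape hΛ h1 h3 h2
    obtain ⟨i', hi9', hi1'⟩ := odd_shape hΛ h1' h3' h2'
    simp only [Prod.mk.injEq] at heq
    obtain ⟨hpos, hred⟩ := heq
    rw [pos_eq hi9 hi1, pos_eq hi9' hi1'] at hpos
    subst hpos
    funext k
    have hk := congrFun hred k
    rw [red_apply, red_apply, cast_eq_iff] at hk
    simp only [hv, Pi.sub_apply] at hk
    have ha := hodda k
    have ha' := hodda' k
    have hw := hoddw k
    by_cases hki : k = i
    · subst hki
      rcases sq_eq_nine hi9 with h | h <;> rcases sq_eq_nine hi9' with h' | h' <;> omega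
    · rcases sq_eq_one (hi1 k hki) with h | h <;> rcases sq_eq_one (hi1' k hki) with h' | h' <;>
        omega

open scoped Classical in
theorem card_code (Λ : AddSubgroup (Fin 24 → ℤ)) :
    (Finset.univ.filter (fun c : Fin 24 → ZMod 2 => c ∈ code Λ)).card =
      2 ^ Module.finrank (ZMod 2) (code Λ) := by
  rw [← Fintype.card_subtype]
  have := Module.card_eq_pow_finrank (K := ZMod 2) (V := code Λ)
  rw [ZMod.card] at this
  convert this

/-- The count of the vectors of norm 32: the lattice has odd vectors and the code has dimension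
12. -/
theorem count (hΛ : Nice Λ) :
    (∃ a ∈ Λ, a 0 % 2 = 1) ∧ Module.finrank (ZMod 2) (code Λ) = 12 := by
  classical
  have hfin : {a : Fin 24 → ℤ | a ∈ Λ ∧ a ⬝ᵥ a = 32}.Finite :=
    Set.finite_of_ncard_ne_zero (by rw [hΛ.n32]; norm_num)
  set Nf := hfin.toFinset with hNf
  have hcard : Nf.card = 196560 := by rw [← Set.ncard_eq_toFinset_card _ hfin, hΛ.n32]
  have hmem : ∀ a ∈ Nf, a ∈ Λ ∧ a ⬝ᵥ a = 32 := fun a ha => by simpa [hNf] using ha
  let No := Nf.filter (fun a => a 0 % 2 = 1)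
  let Na := Nf.filter (fun a => a 0 % 2 = 0 ∧ hammingNorm (red (hv a)) = 8)
  let Nb := Nf.filter (fun a => a 0 % 2 = 0 ∧ hammingNorm (red (hv a)) = 0)
  have hcover : Nf ⊆ No ∪ Na ∪ Nb := by
    intro a ha
    obtain ⟨h1, h2⟩ := hmem a ha
    simp only [No, Na, Nb, Finset.mem_union, Finset.mem_filter]
    rcases Int.emod_two_eq_zero_or_one (a 0) with h0 | h0
    · rcases wt_cases hΛ h1 h0 h2 with hw | hw
      · right; exact ⟨ha, h0, hw⟩
      · left; right; exact ⟨ha, h0, hw⟩
    · left; left; exact ⟨ha, h0⟩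
  have hNo := card_odd_type hΛ No (fun a ha => by
    obtain ⟨h, h0⟩ := Finset.mem_filter.mp ha
    exact ⟨(hmem a h).1, (hmem a h).2, h0⟩)
  have hNa := card_octad_type hΛ Na (fun a ha => by
    obtain ⟨h, h0, hw⟩ := Finset.mem_filter.mp ha
    exact ⟨(hmem a h).1, (hmem a h).2, h0, hw⟩)
  have hNb := card_two Nb (fun a ha => by
    obtain ⟨h, h0, hw⟩ := Finset.mem_filter.mp ha
    refine ⟨fun i => ?_, (hmem a h).2⟩
    rw [hammingNorm_eq_zero] at hw
    have h1 := congrFun hw i
    rw [red_apply, Pi.zero_apply, cast_eq_zero_iff] at h1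
    have h2 := congrFun (two_smul_hv hΛ (hmem a h).1 h0) i
    simp only [Pi.smul_apply, smul_eq_mul] at h2
    omega)
  have hle : Nf.card ≤ No.card + Na.card + Nb.card :=
    (Finset.card_le_card hcover).trans ((Finset.card_union_le _ _).trans
      (Nat.add_le_add_right (Finset.card_union_le _ _) _))
  rw [card_code] at hNo
  have hd := finrank_le_of_orth (code Λ) (fun v hv w hw => code_orth hΛ hv hw)
  constructor
  · have hpos : 0 < No.card := by omega
    obtain ⟨a, ha⟩ := Finset.card_pos.mp hpos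
    obtain ⟨h, h0⟩ := Finset.mem_filter.mp ha
    exact ⟨a, (hmem a h).1, h0⟩
  · by_contra hne
    have h11 : Module.finrank (ZMod 2) (code Λ) ≤ 11 := by omega
    have hpow : 2 ^ Module.finrank (ZMod 2) (code Λ) ≤ 2 ^ 11 :=
      Nat.pow_le_pow_right (by norm_num) h11
    omega

end Cfsg.Agent.Lib.Helper7_ConwayD
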