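import Cfsg.Agent.Lib.Helper7_ConwayD
import Cfsg.Agent.Lib.Helper7_Leech

/-!
Conway's characterisation of the Leech lattice, part E: a nice sublattice of `ℤ^24` containing a
vector with all coordinates `≡ 1 (mod 4)` and whose code is a copy of the Golay code is a copy of
the Leech lattice.
-/

set_option autoImplicit false
open Matrix Cfsg

namespace Cfsg.Agent.Lib.Helper7_ConwayE

open Cfsg.Agent.Lib.Helper7_ConwayA Cfsg.Agent.Lib.Helper7_ConwayB Cfsg.Agent.Lib.Helper7_ConwayC
  Cfsg.Agent.Lib.Helper7_ConwayD Cfsg.Agent.Lib.Helper7_Leech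

variable {Λ : AddSubgroup (Fin 24 → ℤ)}

/-- Transport of integer vectors along a bijection of the coordinates. -/
def tr (e : Fin 24 ≃ GolayPt) : (Fin 24 → ℤ) ≃+ (GolayPt → ℤ) where
  toFun y p := y (e.symm p)
  invFun z i := z (e i)
  left_inv y := by funext i; simp
  right_inv z := by funext p; simp
  map_add' _ _ := rfl

theorem tr_apply (e : Fin 24 ≃ GolayPt) (y : Fin 24 → ℤ) (p : GolayPt) :
    tr e y p = y (e.symm p) := rfl

/-- The word of the positions with coordinate `≡ k (mod 4)`. -/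
def word (y : Fin 24 → ℤ) (k : ℤ) : Fin 24 → ZMod 2 :=
  fun i => if y i ≡ k [ZMOD 4] then 1 else 0

/-- The standard description of the Leech lattice, relative to a code on `Fin 24`. -/
def Std (C : Submodule (ZMod 2) (Fin 24 → ZMod 2)) (y : Fin 24 → ℤ) : Prop :=
  ∃ m : ℤ, (∀ i, y i ≡ m [ZMOD 2]) ∧ (∑ i, y i ≡ 4 * m [ZMOD 8]) ∧ ∀ k : ℤ, word y k ∈ C

theorem std_iff (e : Fin 24 ≃ GolayPt)
    (he : ∀ w : GolayPt → ZMod 2, w ∈ golayCode ↔ (fun i => w (e i)) ∈ code Λ)
    (y : Fin 24 → ℤ) : Std (code Λ) y ↔ tr e y ∈ leechLattice := by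
  rw [mem_leechLattice_iff, mem_leechSet_iff]
  have hsum : ∑ p, tr e y p = ∑ i, y i := Equiv.sum_comp e.symm y
  have hword : ∀ k : ℤ, (fun i => indWord (fun p => tr e y p ≡ k [ZMOD 4]) (e i)) = word y k := by
    intro k
    funext i
    simp only [indWord, word, tr_apply, Equiv.symm_apply_apply]
  constructor
  · rintro ⟨m, h1, h2, h3⟩
    refine ⟨m, fun p => h1 _, by rw [hsum]; exact h2, fun k => ?_⟩
    rw [he, hword]
    exact h3 k
  · rintro ⟨m, h1, h2, h3⟩
    refine ⟨m, fun i => ?_, by rw [← hsum]; exact h2, fun k => ?_⟩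
    · have := h1 (e i)
      rwa [tr_apply, Equiv.symm_apply_apply] at this
    · rw [← hword, ← he]
      exact h3 k

theorem cast_eq_one_iff (n : ℤ) : ((n : ℤ) : ZMod 2) = 1 ↔ n % 2 = 1 := by
  have h := cast_eq_iff n 1
  rw [Int.cast_one] at h
  rw [h]
  omega

/-- The words of an even lattice vector are code words. -/
theorem word_mem (hΛ : Nice Λ) (h1C : (1 : Fin 24 → ZMod 2) ∈ code Λ) {d : Fin 24 → ℤ}
    (hd : d ∈ Λ) (hd0 : d 0 % 2 = 0) (j : ℤ) : word d j ∈ code Λ := by
  have hc := red_hv_mem hΛ hd hd0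
  have heven : ∀ i, d i % 2 = 0 := fun i => by have := parity hΛ hd i 0; omega
  have hj : j % 4 = 0 ∨ j % 4 = 2 ∨ j % 2 = 1 := by omega
  rcases hj with hj | hj | hj
  · have : word d j = 1 + red (hv d) := by
      funext i
      simp only [word, Pi.add_apply, Pi.one_apply, red_apply, hv]
      have h2 := heven i
      by_cases h : d i ≡ j [ZMOD 4]
      · rw [if_pos h]
        unfold Int.ModEq at h
        have : (d i / 2) % 2 = 0 := by omega
        rw [(cast_eq_zero_iff _).mpr this]; norm_num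
      · rw [if_neg h]
        unfold Int.ModEq at h
        have : (d i / 2) % 2 = 1 := by omega
        rw [(cast_eq_one_iff _).mpr this]; decide
    rw [this]
    exact (code Λ).add_mem h1C hc
  · have : word d j = red (hv d) := by
      funext i
      simp only [word, red_apply, hv]
      have h2 := heven i
      by_cases h : d i ≡ j [ZMOD 4]
      · rw [if_pos h]
        unfold Int.ModEq at h
        have : (d i / 2) % 2 = 1 := by omega
        rw [(cast_eq_one_iff _).mpr this]
      · rw [if_neg h]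
        unfold Int.ModEq at h
        have : (d i / 2) % 2 = 0 := by omega
        rw [(cast_eq_zero_iff _).mpr this]
    rw [this]
    exact hc
  · have : word d j = 0 := by
      funext i
      simp only [word, Pi.zero_apply]
      have h2 := heven i
      rw [if_neg]
      unfold Int.ModEq
      omega
    rw [this]
    exact (code Λ).zero_mem

/-- The coordinate sum of an even lattice vector is divisible by 8. -/
theorem even_sum (hΛ : Nice Λ) {w0 : Fin 24 → ℤ} (hw0 : w0 ∈ Λ) (hw04 : ∀ i, w0 i % 4 = 1)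
    {d : Fin 24 → ℤ} (hd : d ∈ Λ) (hd0 : d 0 % 2 = 0) : (8 : ℤ) ∣ ∑ i, d i := by
  have heven : ∀ i, d i % 2 = 0 := fun i => by have := parity hΛ hd i 0; omega
  have h8 := hΛ.dvd8 d hd w0 hw0
  have hdiff : (8 : ℤ) ∣ d ⬝ᵥ w0 - ∑ i, d i := by
    unfold dotProduct
    rw [← Finset.sum_sub_distrib]
    apply Finset.dvd_sum
    intro i _
    have h1 : (2 : ℤ) ∣ d i := by have := heven i; omega
    have h2 : (4 : ℤ) ∣ w0 i - 1 := by have := hw04 i; omega
    have : d i * w0 i - d i = d i * (w0 i - 1) := by ring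
    rw [this]
    exact mul_dvd_mul h1 h2
  have := dvd_sub h8 hdiff
  rwa [sub_sub_cancel] at this

/-- The coordinate sum of `w0` is `4` modulo 8. -/
theorem w0_sum (hΛ : Nice Λ) {w0 : Fin 24 → ℤ} (hw0 : w0 ∈ Λ) (hw04 : ∀ i, w0 i % 4 = 1) :
    (∑ i, w0 i) % 8 = 4 := by
  have h16 := hΛ.dvd16 w0 hw0
  have e1 : ∀ i, w0 i = 4 * (w0 i / 4) + 1 := fun i => by have := hw04 i; omega
  have e2 : w0 ⬝ᵥ w0 = 16 * ∑ i, (w0 i / 4) * (w0 i / 4) + 8 * ∑ i, (w0 i / 4) + 24 := by
    unfold dotProduct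
    rw [Finset.mul_sum, Finset.mul_sum]
    have : (24 : ℤ) = ∑ _i : Fin 24, (1 : ℤ) := by simp
    rw [this, ← Finset.sum_add_distrib, ← Finset.sum_add_distrib]
    apply Finset.sum_congr rfl
    intro i _
    have := e1 i
    generalize w0 i / 4 = t at this ⊢
    rw [this]; ring
  have e3 : ∑ i, w0 i = 4 * ∑ i, (w0 i / 4) + 24 := by
    rw [Finset.mul_sum]
    have : (24 : ℤ) = ∑ _i : Fin 24, (1 : ℤ) := by simp
    rw [this, ← Finset.sum_add_distrib]
    apply Finset.sum_congr rfl
    intro i _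
    exact e1 i
  rw [e2] at h16
  rw [e3]
  omega

theorem std_of_mem (hΛ : Nice Λ) (h1C : (1 : Fin 24 → ZMod 2) ∈ code Λ) {w0 : Fin 24 → ℤ}
    (hw0 : w0 ∈ Λ) (hw04 : ∀ i, w0 i % 4 = 1) {y : Fin 24 → ℤ} (hy : y ∈ Λ) :
    Std (code Λ) y := by
  rcases Int.emod_two_eq_zero_or_one (y 0) with h0 | h0
  · have heven : ∀ i, y i % 2 = 0 := fun i => by have := parity hΛ hy i 0; omega
    refine ⟨0, fun i => ?_, ?_, fun k => word_mem hΛ h1C hy h0 k⟩
    · unfold Int.ModEq; have := heven i; omega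
    · have := even_sum hΛ hw0 hw04 hy h0
      unfold Int.ModEq; omega
  · have hodd : ∀ i, y i % 2 = 1 := fun i => by have := parity hΛ hy i 0; omega
    have hd : y - w0 ∈ Λ := Λ.sub_mem hy hw0
    have hd0 : (y - w0) 0 % 2 = 0 := by
      have := hw04 0
      rw [Pi.sub_apply]; omega
    refine ⟨1, fun i => ?_, ?_, fun k => ?_⟩
    · unfold Int.ModEq; have := hodd i; omega
    · have h1 := even_sum hΛ hw0 hw04 hd hd0
      have h2 := w0_sum hΛ hw0 hw04
      have h3 : ∑ i, (y - w0) i = ∑ i, y i - ∑ i, w0 i := by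
        simp only [Pi.sub_apply, Finset.sum_sub_distrib]
      rw [h3] at h1
      unfold Int.ModEq; omega
    · have : word y k = word (y - w0) (k - 1) := by
        funext i
        simp only [word, Pi.sub_apply]
        have := hw04 i
        apply if_congr _ rfl rfl
        unfold Int.ModEq
        omega
      rw [this]
      exact word_mem hΛ h1C hd hd0 (k - 1)

theorem mem_of_std_even (hΛ : Nice Λ) {w0 : Fin 24 → ℤ}
    (hw0 : w0 ∈ Λ) (hw04 : ∀ i, w0 i % 4 = 1) {y : Fin 24 → ℤ} (hy : Std (code Λ) y)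
    (h0 : y 0 % 2 = 0) : y ∈ Λ := by
  obtain ⟨m, h1, h2, h3⟩ := hy
  have hm : m % 2 = 0 := by
    have := h1 0
    unfold Int.ModEq at this; omega
  have heven : ∀ i, y i % 2 = 0 := fun i => by
    have := h1 i
    unfold Int.ModEq at this; omega
  obtain ⟨h, hh, hc⟩ := mem_code.mp (h3 2)
  have ha0 : ((2 : ℤ) • h) 0 % 2 = 0 := by
    simp only [Pi.smul_apply, smul_eq_mul]; omega
  have hsa := even_sum hΛ hw0 hw04 hh ha0
  have hdiff : y - (2 : ℤ) • h ∈ Λ := by
    apply mem_of_dvd4 hΛ
    · intro i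
      have hci := congrFun hc i
      simp only [word, red_apply] at hci
      have h2 := heven i
      simp only [Pi.sub_apply, Pi.smul_apply, smul_eq_mul]
      by_cases hi : y i ≡ 2 [ZMOD 4]
      · rw [if_pos hi] at hci
        have hci' := (cast_eq_one_iff _).mp hci
        unfold Int.ModEq at hi
        omega
      · rw [if_neg hi] at hci
        have hci' := (cast_eq_zero_iff _).mp hci
        unfold Int.ModEq at hi
        omega
    · have h3 : ∑ i, (y - (2 : ℤ) • h) i = ∑ i, y i - ∑ i, ((2 : ℤ) • h) i := by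
        simp only [Pi.sub_apply, Finset.sum_sub_distrib]
      rw [h3]
      unfold Int.ModEq at h2
      omega
  have := Λ.add_mem hdiff hh
  rwa [sub_add_cancel] at this

/-- The lattice is the transport of the Leech lattice. -/
theorem mem_iff (hΛ : Nice Λ) {w0 : Fin 24 → ℤ} (hw0 : w0 ∈ Λ) (hw04 : ∀ i, w0 i % 4 = 1)
    (e : Fin 24 ≃ GolayPt)
    (he : ∀ w : GolayPt → ZMod 2, w ∈ golayCode ↔ (fun i => w (e i)) ∈ code Λ)
    (y : Fin 24 → ℤ) : y ∈ Λ ↔ tr e y ∈ leechLattice := by
  have h1C : (1 : Fin 24 → ZMod 2) ∈ code Λ := by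
    have := (he 1).mp Cfsg.Agent.Lib.Helper7_M24.one_mem
    exact this
  constructor
  · intro hy
    rw [← std_iff e he]
    exact std_of_mem hΛ h1C hw0 hw04 hy
  · intro hy
    rcases Int.emod_two_eq_zero_or_one (y 0) with h0 | h0
    · rw [← std_iff e he] at hy
      exact mem_of_std_even hΛ hw0 hw04 hy h0
    · have hw : tr e w0 ∈ leechLattice := by
        rw [← std_iff e he]
        exact std_of_mem hΛ h1C hw0 hw04 hw0
      have hd : tr e (y - w0) ∈ leechLattice := by
        rw [map_sub]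
        exact leechLattice.sub_mem hy hw
      rw [← std_iff e he] at hd
      have hd0 : (y - w0) 0 % 2 = 0 := by
        have := hw04 0
        rw [Pi.sub_apply]; omega
      have := Λ.add_mem (mem_of_std_even hΛ hw0 hw04 hd hd0) hw0
      rwa [sub_add_cancel] at this

end Cfsg.Agent.Lib.Helper7_ConwayE
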