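import Mathlib
import Cfsg.Agent.Lib.Helper83_HP2Defs
import Cfsg.Agent.Lib.Helper48_Q2_BRIDGE

/-!
# HP2-BRIDGE (helper83's HP2 market, row S5692, `k = 2`, plus-type planes): transport of the model
theorem along an isometry `φ : V ≃ PV F t` (the conclusion of HP2-BRISO, given as a hypothesis).
Port of `Helper48_Q2_BRIDGE.BRIDGE_of`; the generic transport lemmas of that file are reused.
-/

set_option autoImplicit false
set_option linter.unusedSectionVars false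
set_option linter.unusedVariables false

namespace Cfsg.Agent.Lib.Helper7_HP2_BRIDGE

open Module Cfsg.Agent.Lib.Helper94_Symp Cfsg.Agent.Lib.Helper94_OrthSmall
  Cfsg.Agent.Lib.Helper94_OrthSiegel Cfsg.Agent.Lib.Helper94_OrthNondeg
  Cfsg.Agent.Lib.Helper29_ODDefs Cfsg.Agent.Lib.Helper94_Q2Defs Cfsg.Agent.Lib.Helper83_HP2Defs
  Cfsg.Agent.Lib.Helper48_Q2_BRIDGE

/-- **HP2-BRIDGE** [L] (twin Q2-BRIDGE = Helper48_Q2_BRIDGE.BRIDGE_of: same proof with the isomorphism φ given as a hypothesis) -/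
theorem BRIDGE {F V : Type*} [Field F] [AddCommGroup V] [Module F V] [Finite F]
    [FiniteDimensional F V] {Q : V → F} {B : LinearMap.BilinForm F V}
    (hmodel : ∀ (t : ℕ), 7 ≤ t → 7 ≤ Nat.card F →
      (∀ u z, pQ F t u = 0 → pB F t u z = 0 →
        sieg (pQ F t) (pB F t) u z ∈ pOm F t) →
      (∀ M : Subgroup (PV F t ≃ₗ[F] PV F t),
        (∀ u z, pQ F t u = 0 → pB F t u z = 0 → sieg (pQ F t) (pB F t) u z ∈ M) →
          pOm F t ≤ M) →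
      ∀ S : Subgroup (PV F t ≃ₗ[F] PV F t), IsDStab (pD F t) S →
        (S ⊓ pOm F t < pOm F t) ∧
          ∀ M : Subgroup (PV F t ≃ₗ[F] PV F t), S ⊓ pOm F t ≤ M → M ≤ pOm F t →
            M = S ⊓ pOm F t ∨ M = pOm F t)
    (hQs : ∀ (c : F) (v : V), Q (c • v) = c * c * Q v)
    (hQp : ∀ u v : V, Q (u + v) = Q u + Q v + B u v)
    (hG2 : ∀ u z, Q u = 0 → B u z = 0 → sieg Q B u z ∈ ⁅oG Q, oG Q⁆)
    (hG3 : ∀ M : Subgroup (V ≃ₗ[F] V),
      (∀ u z, Q u = 0 → B u z = 0 → sieg Q B u z ∈ M) → ⁅oG Q, oG Q⁆ ≤ M)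
    {t : ℕ} (D : Fin t → Submodule F V)
    (hφ : ∃ φ : V ≃ₗ[F] PV F t, (∀ v, pQ F t (φ v) = Q v) ∧
      ∀ l, (D l).map (φ : V →ₗ[F] PV F t) = pD F t l)
    (ht : 7 ≤ t) (hq : 7 ≤ Nat.card F)
    (S : Subgroup (V ≃ₗ[F] V)) (hS : IsDStab D S) :
    (S ⊓ ⁅oG Q, oG Q⁆ < ⁅oG Q, oG Q⁆) ∧
      ∀ M : Subgroup (V ≃ₗ[F] V), S ⊓ ⁅oG Q, oG Q⁆ ≤ M → M ≤ ⁅oG Q, oG Q⁆ →
        M = S ⊓ ⁅oG Q, oG Q⁆ ∨ M = ⁅oG Q, oG Q⁆ := by
  obtain ⟨φ, hφQ, hφD⟩ := hφ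
  set Φ := (cj φ).toMonoidHom with hΦ
  have hinj : Function.Injective Φ := (cj φ).injective
  have hΩ : (⁅oG Q, oG Q⁆).map Φ = pOm F t := map_comm_oG φ hφQ
  have hsieg : ∀ {u z : V}, Q u = 0 → B u z = 0 →
      cj φ (sieg Q B u z) = sieg (pQ F t) (pB F t) (φ u) (φ z) := fun hu huz =>
    cj_sieg hQs hQp (pQs F t) (pQp F t) φ hφQ hu huz
  have hBt := B_transport hQp (pQp F t) φ hφQ
  -- transported generation hypotheses
  have hG2' : ∀ u z, pQ F t u = 0 → pB F t u z = 0 →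
      sieg (pQ F t) (pB F t) u z ∈ pOm F t := by
    intro u' z' hu' hz'
    obtain ⟨u, rfl⟩ := φ.surjective u'
    obtain ⟨z, rfl⟩ := φ.surjective z'
    rw [hφQ] at hu'
    rw [hBt] at hz'
    rw [← hsieg hu' hz', ← hΩ]
    exact Subgroup.mem_map_of_mem Φ (hG2 u z hu' hz')
  have hG3' : ∀ M : Subgroup (PV F t ≃ₗ[F] PV F t),
      (∀ u z, pQ F t u = 0 → pB F t u z = 0 → sieg (pQ F t) (pB F t) u z ∈ M) →
        pOm F t ≤ M := by
    intro M' hM'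
    have h1 : ⁅oG Q, oG Q⁆ ≤ M'.comap Φ := by
      apply hG3
      intro u z hu huz
      rw [Subgroup.mem_comap]
      show cj φ (sieg Q B u z) ∈ M'
      rw [hsieg hu huz]
      exact hM' _ _ (by rw [hφQ, hu]) (by rw [hBt, huz])
    rw [← hΩ]
    exact Subgroup.map_le_iff_le_comap.2 h1
  have hS' : IsDStab (pD F t) (S.map Φ) := isDStab_map φ D (pD F t) hφD S hS
  obtain ⟨hlt, hmax⟩ := hmodel t ht hq hG2' hG3' (S.map Φ) hS'
  have hinf : S.map Φ ⊓ pOm F t = (S ⊓ ⁅oG Q, oG Q⁆).map Φ := by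
    rw [← hΩ, Subgroup.map_inf _ _ Φ hinj]
  rw [hinf] at hlt hmax
  rw [← hΩ] at hlt hmax
  constructor
  · refine lt_of_le_of_ne inf_le_right ?_
    intro heq
    rw [heq] at hlt
    exact lt_irrefl _ hlt
  · intro M hHM hMΩ
    rcases hmax (M.map Φ) (Subgroup.map_mono hHM) (Subgroup.map_mono hMΩ) with h | h
    · exact Or.inl (Subgroup.map_injective hinj h)
    · exact Or.inr (Subgroup.map_injective hinj h)

end Cfsg.Agent.Lib.Helper7_HP2_BRIDGE
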