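/-
helper7: a verified search-tree checker for the uniqueness of Steiner systems `S(t, t+1, n)` on
`Fin n` (blocks as bit masks), with canonical labelling of new points, plus a rigidity checker
(an automorphism fixing the first `t` points is the identity).
-/
import Mathlib
import Cfsg.Prelude.Def_Sporadic_a

set_option autoImplicit false
set_option linter.unusedSectionVars false
set_option linter.unusedVariables false

namespace Cfsg.Agent.Lib.Helper7_SteinerTree

open Cfsg

/-! ### bit masks -/

/-- the subset of `Fin n` with bit mask `m` -/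
def toSet (n m : ℕ) : Finset (Fin n) := Finset.univ.filter fun i => m.testBit i.val = true

theorem mem_toSet {n m : ℕ} {i : Fin n} : i ∈ toSet n m ↔ m.testBit i.val = true := by
  simp [toSet]

theorem toSet_and (n a b : ℕ) : toSet n (a &&& b) = toSet n a ∩ toSet n b := by
  ext i; simp [mem_toSet, Nat.testBit_and]

theorem toSet_or (n a b : ℕ) : toSet n (a ||| b) = toSet n a ∪ toSet n b := by
  ext i; simp [mem_toSet, Nat.testBit_or]

theorem toSet_bit {n : ℕ} (q : Fin n) : toSet n (1 <<< q.val) = {q} := by
  ext i
  simp only [mem_toSet, Nat.one_shiftLeft, Nat.testBit_two_pow, decide_eq_true_eq,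
    Finset.mem_singleton, Fin.ext_iff]
  exact eq_comm

theorem testBit_false_of_lt {m k i : ℕ} (hm : m < 2 ^ k) (hi : k ≤ i) : m.testBit i = false :=
  Nat.testBit_lt_two_pow (lt_of_lt_of_le hm (Nat.pow_le_pow_right (by norm_num) hi))

theorem toSet_injOn {n a b : ℕ} (ha : a < 2 ^ n) (hb : b < 2 ^ n) (h : toSet n a = toSet n b) :
    a = b := by
  apply Nat.eq_of_testBit_eq
  intro i
  by_cases hi : i < n
  · have := Finset.ext_iff.mp h ⟨i, hi⟩
    simp only [mem_toSet] at this
    exact Bool.eq_iff_iff.mpr this
  · push Not at hi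
    rw [testBit_false_of_lt ha hi, testBit_false_of_lt hb hi]

theorem val_lt_of_mem_toSet {n m k : ℕ} (hm : m < 2 ^ k) {i : Fin n} (hi : i ∈ toSet n m) :
    i.val < k := by
  by_contra h
  push Not at h
  rw [mem_toSet, testBit_false_of_lt hm h] at hi
  exact Bool.false_ne_true hi

/-- every subset is the set of some mask -/
theorem exists_mask {n : ℕ} (s : Finset (Fin n)) : ∃ m, m < 2 ^ n ∧ toSet n m = s := by
  refine ⟨Nat.ofBits (fun i => decide (i ∈ s)), Nat.ofBits_lt_two_pow _, ?_⟩
  ext i
  simp [mem_toSet, Nat.testBit_ofBits_lt]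

/-- number of set bits below `n` -/
def popL : ℕ → ℕ → ℕ
  | 0, _ => 0
  | n + 1, m => popL n m + (if m.testBit n then 1 else 0)

theorem card_toSet (n m : ℕ) : (toSet n m).card = popL n m := by
  unfold toSet
  rw [Finset.card_filter]
  induction n with
  | zero => simp [popL]
  | succ n ih =>
    rw [Fin.sum_univ_castSucc, popL]
    simp only [Fin.val_castSucc, Fin.val_last]
    rw [ih]

/-- SWAR popcount for numbers below `2 ^ 12` -/
def popc (x : ℕ) : ℕ :=
  let x1 := x - ((x >>> 1) &&& 0x555)
  let x2 := (x1 &&& 0x333) + ((x1 >>> 2) &&& 0x333)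
  (x2 &&& 0xF) + ((x2 >>> 4) &&& 0xF) + (x2 >>> 8)

theorem popc_eq12 : ∀ m < 2 ^ 12, popc m = popL 12 m := by
  have h : ∀ a < 64, ∀ b < 64, popc (a * 64 + b) = popL 12 (a * 64 + b) := by decide +kernel
  intro m hm
  have := h (m / 64) (by omega) (m % 64) (by omega)
  rwa [Nat.div_add_mod'] at this

theorem popc_eq11 : ∀ m < 2 ^ 11, popc m = popL 11 m := by
  have h : ∀ a < 32, ∀ b < 64, popc (a * 64 + b) = popL 11 (a * 64 + b) := by decide +kernel
  intro m hm
  have := h (m / 64) (by omega) (m % 64) (by omega)
  rwa [Nat.div_add_mod'] at this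

/-! ### transport of set systems -/

section transport

variable {α β γ : Type*} [DecidableEq α] [DecidableEq β] [DecidableEq γ]

/-- the image of a set system under a bijection -/
def tr (e : α ≃ β) (X : Set (Finset α)) : Set (Finset β) := (fun b => b.image e) '' X

theorem image_symm_image (e : α ≃ β) (b : Finset α) : (b.image e).image e.symm = b := by
  rw [Finset.image_image]; simp

theorem image_image_symm (e : α ≃ β) (c : Finset β) : (c.image e.symm).image e = c := by
  rw [Finset.image_image]; simp

theorem mem_tr {e : α ≃ β} {X : Set (Finset α)} {c : Finset β} :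
    c ∈ tr e X ↔ c.image e.symm ∈ X := by
  constructor
  · rintro ⟨b, hb, rfl⟩
    rwa [image_symm_image]
  · intro h
    exact ⟨_, h, image_image_symm e c⟩

theorem image_mem_tr {e : α ≃ β} {X : Set (Finset α)} {b : Finset α} (hb : b ∈ X) :
    b.image e ∈ tr e X := ⟨b, hb, rfl⟩

theorem tr_trans (e : α ≃ β) (f : β ≃ γ) (X : Set (Finset α)) :
    tr (e.trans f) X = tr f (tr e X) := by
  ext c
  simp only [tr, Set.mem_image]
  constructor
  · rintro ⟨b, hb, rfl⟩
    exact ⟨b.image e, ⟨b, hb, rfl⟩, by rw [Finset.image_image]; rfl⟩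
  · rintro ⟨_, ⟨b, hb, rfl⟩, rfl⟩
    exact ⟨b, hb, by rw [Finset.image_image]; rfl⟩

theorem tr_refl (X : Set (Finset α)) : tr (Equiv.refl α) X = X := by
  ext c; simp [tr]

theorem tr_symm_tr (e : α ≃ β) (X : Set (Finset α)) : tr e.symm (tr e X) = X := by
  rw [← tr_trans]; simp [tr_refl]

theorem tr_tr_symm (e : α ≃ β) (Y : Set (Finset β)) : tr e (tr e.symm Y) = Y := by
  rw [← tr_trans]; simp [tr_refl]

theorem steiner_tr {t k : ℕ} (e : α ≃ β) {X : Set (Finset α)} (hX : IsSteinerSystem t k X) :
    IsSteinerSystem t k (tr e X) := by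
  refine ⟨?_, ?_⟩
  · rintro _ ⟨b, hb, rfl⟩
    rw [Finset.card_image_of_injective _ e.injective]
    exact hX.1 b hb
  · intro s hs
    obtain ⟨b, ⟨hbX, hsb⟩, hu⟩ := hX.2 (s.image e.symm)
      (by rw [Finset.card_image_of_injective _ e.symm.injective, hs])
    refine ⟨b.image e, ⟨image_mem_tr hbX, ?_⟩, ?_⟩
    · have := Finset.image_subset_image (f := e) hsb
      rwa [image_image_symm] at this
    · rintro c ⟨hc, hsc⟩
      have h1 := hu (c.image e.symm) ⟨mem_tr.mp hc, Finset.image_subset_image hsc⟩
      rw [← h1, image_image_symm]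

/-- two blocks of a Steiner system sharing `t` points coincide -/
theorem block_eq_of_inter {t k : ℕ} {X : Set (Finset α)} (hX : IsSteinerSystem t k X)
    {b c : Finset α} (hb : b ∈ X) (hc : c ∈ X) (h : t ≤ (b ∩ c).card) : b = c := by
  obtain ⟨s, hs, hst⟩ := Finset.exists_subset_card_eq h
  obtain ⟨d, _, hd⟩ := hX.2 s hst
  exact (hd b ⟨hb, hs.trans Finset.inter_subset_left⟩).trans
    (hd c ⟨hc, hs.trans Finset.inter_subset_right⟩).symm

end transport

/-! ### permutations given by lists, images of masks -/

/-- image of the mask `m` under the map `i ↦ σ[i]`, over the index list -/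
def permMaskAux (σ : List ℕ) (m : ℕ) : List ℕ → ℕ
  | [] => 0
  | i :: is => (if m.testBit i then 1 <<< σ.getD i 0 else 0) ||| permMaskAux σ m is

/-- image of the mask `m` under the map `i ↦ σ[i]` -/
def permMask (n : ℕ) (σ : List ℕ) (m : ℕ) : ℕ := permMaskAux σ m (List.range n)

theorem testBit_permMaskAux (σ : List ℕ) (m : ℕ) (is : List ℕ) (j : ℕ) :
    (permMaskAux σ m is).testBit j = true ↔ ∃ i ∈ is, m.testBit i = true ∧ σ.getD i 0 = j := by
  induction is with
  | nil => simp [permMaskAux]
  | cons i is ih =>
    rw [permMaskAux, Nat.testBit_or, Bool.or_eq_true, ih]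
    by_cases hmi : m.testBit i = true
    · simp only [hmi, if_true, Nat.one_shiftLeft, Nat.testBit_two_pow, decide_eq_true_eq,
        List.mem_cons, exists_eq_or_imp, true_and]
    · simp only [hmi, if_false, Nat.zero_testBit, Bool.false_eq_true, false_or,
        List.mem_cons, exists_eq_or_imp, false_and]

theorem toSet_permMask {n : ℕ} (σ : List ℕ) (m : ℕ) (h : Equiv.Perm (Fin n))
    (hag : ∀ i : Fin n, m.testBit i.val = true → σ.getD i.val 0 = (h i).val) :
    toSet n (permMask n σ m) = (toSet n m).image h := by
  ext j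
  rw [mem_toSet, permMask, testBit_permMaskAux, Finset.mem_image]
  constructor
  · rintro ⟨i, hi, hmi, hij⟩
    rw [List.mem_range] at hi
    refine ⟨⟨i, hi⟩, mem_toSet.mpr hmi, ?_⟩
    apply Fin.ext
    rw [← hag ⟨i, hi⟩ hmi]
    exact hij
  · rintro ⟨i, hi, rfl⟩
    rw [mem_toSet] at hi
    exact ⟨i.val, List.mem_range.mpr i.isLt, hi, hag i hi⟩

theorem permMask_lt {n : ℕ} (σ : List ℕ) (m : ℕ)
    (hlt : ∀ i < n, m.testBit i = true → σ.getD i 0 < n) : permMask n σ m < 2 ^ n := by
  apply Nat.lt_pow_two_of_testBit
  intro j hj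
  by_contra hne
  rw [Bool.not_eq_false, permMask, testBit_permMaskAux] at hne
  obtain ⟨i, hi, hmi, hij⟩ := hne
  have := hlt i (List.mem_range.mp hi) hmi
  omega

/-- the list is a permutation of `0, …, n-1` -/
def validPerm (n : ℕ) (σ : List ℕ) : Bool :=
  σ.length == n && σ.all (fun x => decide (x < n)) && decide σ.Nodup

theorem validPerm_lt {n : ℕ} {σ : List ℕ} (h : validPerm n σ = true) (i : ℕ) (hi : i < n) :
    σ.getD i 0 < n := by
  simp only [validPerm, Bool.and_eq_true, beq_iff_eq, List.all_eq_true, decide_eq_true_eq] at h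
  obtain ⟨⟨hl, hall⟩, _⟩ := h
  have hi' : i < σ.length := by omega
  rw [List.getD_eq_getElem _ _ hi']
  exact hall _ (List.getElem_mem hi')

theorem validPerm_inj {n : ℕ} {σ : List ℕ} (h : validPerm n σ = true) (i j : ℕ) (hi : i < n)
    (hj : j < n) (hij : σ.getD i 0 = σ.getD j 0) : i = j := by
  simp only [validPerm, Bool.and_eq_true, beq_iff_eq, List.all_eq_true, decide_eq_true_eq] at h
  obtain ⟨⟨hl, _⟩, hnd⟩ := h
  have hi' : i < σ.length := by omega
  have hj' : j < σ.length := by omega
  rw [List.getD_eq_getElem _ _ hi', List.getD_eq_getElem _ _ hj'] at hij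
  exact (List.Nodup.getElem_inj_iff hnd).mp hij

/-- the permutation of `Fin n` given by a valid list -/
noncomputable def listPerm (n : ℕ) (σ : List ℕ) (h : validPerm n σ = true) : Equiv.Perm (Fin n) :=
  Equiv.ofBijective (fun i => ⟨σ.getD i.val 0, validPerm_lt h i.val i.isLt⟩)
    (Finite.injective_iff_bijective.mp (by
      intro i j hij
      apply Fin.ext
      exact validPerm_inj h i.val j.val i.isLt j.isLt (by simpa using hij)))

theorem listPerm_val {n : ℕ} {σ : List ℕ} (h : validPerm n σ = true) (i : Fin n) :
    (listPerm n σ h i).val = σ.getD i.val 0 := rfl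

/-! ### the search-tree checker -/

/-- certificate items, in depth-first order -/
inductive Item where
  | leaf (ρ : List ℕ)
  | label
  | query (s : ℕ)

/-- the candidate block `b` meets a known block in at least `t` points -/
def conflict (t : ℕ) (K : List ℕ) (b : ℕ) : Bool :=
  K.any fun m => m != b && decide (t ≤ popc (m &&& b))

/-- a leaf: `ρ` is a permutation fixing the first `t` points and mapping the target system into
the known blocks -/
def leafOK (n t : ℕ) (S0 K ρ : List ℕ) : Bool :=
  validPerm n ρ && (List.range t).all (fun i => ρ.getD i 0 == i) &&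
    S0.all fun m0 => K.contains (permMask n ρ m0)

/-- case analysis over the candidate answers to the query `s` -/
def go (rec : ℕ → List ℕ → List Item → Option (List Item)) (t k : ℕ) (K : List ℕ) (s : ℕ) :
    List ℕ → List Item → Option (List Item)
  | [], cert => some cert
  | q :: qs, cert =>
      if s.testBit q then go rec t k K s qs cert else
      if conflict t K (s ||| (1 <<< q)) then go rec t k K s qs cert
      else match rec (if q = k then k + 1 else k) ((s ||| (1 <<< q)) :: K) cert with
        | none => none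
        | some cert' => go rec t k K s qs cert'

/-- the checker: consumes a certificate, returns the unused rest -/
def check (n t : ℕ) (S0 : List ℕ) : ℕ → ℕ → List ℕ → List Item → Option (List Item)
  | 0, _, _, _ => none
  | fuel + 1, k, K, cert =>
    match cert with
    | [] => none
    | Item.leaf ρ :: rest => if leafOK n t S0 K ρ then some rest else none
    | Item.label :: rest => if k < n then check n t S0 fuel (k + 1) K rest else none
    | Item.query s :: rest =>
        if decide (s < 2 ^ k) && popc s == t then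
          go (check n t S0 fuel) t k K s (List.range (min (k + 1) n)) rest
        else none

section sound

variable (n t : ℕ) (S0 : List ℕ)

/-- what a successful check certifies for the known blocks `K` -/
def Claim (K : List ℕ) : Prop :=
  ∀ X : Set (Finset (Fin n)), IsSteinerSystem t (t + 1) X → (∀ m ∈ K, toSet n m ∈ X) →
    ∃ ρ : Equiv.Perm (Fin n), (∀ i : Fin n, i.val < t → ρ i = i) ∧
      ∀ m0 ∈ S0, (toSet n m0).image ρ ∈ X

/-- the invariant: the first `k` points are labelled, the known blocks live on them -/
def Inv (k : ℕ) (K : List ℕ) : Prop := t ≤ k ∧ k ≤ n ∧ ∀ m ∈ K, m < 2 ^ k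

variable {n t S0}

theorem leaf_sound {K ρ : List ℕ} (h : leafOK n t S0 K ρ = true) : Claim n t S0 K := by
  simp only [leafOK, Bool.and_eq_true, List.all_eq_true, List.mem_range, beq_iff_eq,
    List.contains_iff_mem] at h
  obtain ⟨⟨hv, hfix⟩, hall⟩ := h
  intro X hX hK
  refine ⟨listPerm n ρ hv, ?_, ?_⟩
  · intro i hi
    apply Fin.ext
    rw [listPerm_val]
    exact hfix i.val hi
  · intro m0 hm0
    rw [← toSet_permMask ρ m0 (listPerm n ρ hv) (fun i _ => (listPerm_val hv i).symm)]
    exact hK _ (hall m0 hm0)

variable (hpop : ∀ m < 2 ^ n, popc m = popL n m)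
include hpop

theorem conflict_absurd {K : List ℕ} {b : ℕ} (hc : conflict t K b = true)
    (hKn : ∀ m ∈ K, m < 2 ^ n) (hbn : b < 2 ^ n)
    {X : Set (Finset (Fin n))} (hX : IsSteinerSystem t (t + 1) X) (hK : ∀ m ∈ K, toSet n m ∈ X)
    (hb : toSet n b ∈ X) : False := by
  simp only [conflict, List.any_eq_true, Bool.and_eq_true, bne_iff_ne, ne_eq,
    decide_eq_true_eq] at hc
  obtain ⟨m, hmK, hne, hle⟩ := hc
  have hmn := hKn m hmK
  have hand : m &&& b < 2 ^ n := lt_of_le_of_lt Nat.and_le_left hmn
  rw [hpop _ hand, ← card_toSet, toSet_and] at hle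
  exact hne (toSet_injOn hmn hbn (block_eq_of_inter hX (hK m hmK) hb hle))

/-- analysis of the answer to a query -/
theorem query_step {k : ℕ} {K : List ℕ} (hInv : Inv n t k K) {s : ℕ} (hsk : s < 2 ^ k)
    (hst : popc s = t) {X : Set (Finset (Fin n))} (hX : IsSteinerSystem t (t + 1) X)
    (hK : ∀ m ∈ K, toSet n m ∈ X) :
    ∃ q, q ≤ k ∧ q < n ∧ s.testBit q = false ∧ ∃ τ : Equiv.Perm (Fin n),
      (∀ i : Fin n, i.val < k → τ i = i) ∧ (∀ m ∈ K, toSet n m ∈ tr τ X) ∧
      toSet n (s ||| (1 <<< q)) ∈ tr τ X := by
  obtain ⟨htk, hkn, hKk⟩ := hInv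
  have hsn : s < 2 ^ n := lt_of_lt_of_le hsk (Nat.pow_le_pow_right (by norm_num) hkn)
  have hcard : (toSet n s).card = t := by rw [card_toSet, ← hpop s hsn, hst]
  obtain ⟨b, ⟨hbX, hsb⟩, _⟩ := hX.2 (toSet n s) hcard
  have hbc : b.card = t + 1 := hX.1 b hbX
  have h1 : (b \ toSet n s).card = 1 := by
    rw [Finset.card_sdiff_of_subset hsb, hbc, hcard]; omega
  obtain ⟨p, hp⟩ := Finset.card_eq_one.mp h1
  have hpb : p ∈ b ∧ p ∉ toSet n s := by
    have : p ∈ b \ toSet n s := by rw [hp]; exact Finset.mem_singleton_self p
    exact Finset.mem_sdiff.mp this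
  have hbeq : b = toSet n s ∪ {p} := by
    rw [← hp, Finset.union_sdiff_of_subset hsb]
  have hps : s.testBit p.val = false := by
    have := hpb.2
    rw [mem_toSet] at this
    simpa using this
  by_cases hpk : p.val < k
  · refine ⟨p.val, hpk.le, p.isLt, hps, 1, fun _ _ => rfl, ?_, ?_⟩
    · intro m hm
      have : tr (1 : Equiv.Perm (Fin n)) X = X := tr_refl X
      rw [this]; exact hK m hm
    · have : tr (1 : Equiv.Perm (Fin n)) X = X := tr_refl X
      rw [this, toSet_or, toSet_bit, ← hbeq]; exact hbX
  · push Not at hpk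
    have hkn' : k < n := lt_of_le_of_lt hpk p.isLt
    set kk : Fin n := ⟨k, hkn'⟩ with hkk
    have hks : s.testBit k = false := testBit_false_of_lt hsk le_rfl
    have hfix : ∀ i : Fin n, i.val < k → Equiv.swap p kk i = i := by
      intro i hi
      apply Equiv.swap_apply_of_ne_of_ne
      · intro h; rw [h] at hi; omega
      · intro h; rw [h] at hi; simp [hkk] at hi
    have himg : ∀ m, m < 2 ^ k → (toSet n m).image (Equiv.swap p kk) = toSet n m := by
      intro m hm
      have : (toSet n m).image (Equiv.swap p kk) = (toSet n m).image id := by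
        apply Finset.image_congr
        intro i hi
        exact hfix i (val_lt_of_mem_toSet hm hi)
      rw [this, Finset.image_id]
    refine ⟨k, le_rfl, hkn', hks, Equiv.swap p kk, hfix, ?_, ?_⟩
    · intro m hm
      rw [← himg m (hKk m hm)]
      exact image_mem_tr (hK m hm)
    · have : toSet n (s ||| (1 <<< k)) = b.image (Equiv.swap p kk) := by
        rw [hbeq, Finset.image_union, himg s hsk, Finset.image_singleton, Equiv.swap_apply_left,
          toSet_or]
        congr 1
        exact toSet_bit kk
      rw [this]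
      exact image_mem_tr hbX

theorem go_sound (rec : ℕ → List ℕ → List Item → Option (List Item))
    (hrec : ∀ k' K' c r, rec k' K' c = some r → Inv n t k' K' → Claim n t S0 K')
    {k : ℕ} {K : List ℕ} (hInv : Inv n t k K) {s : ℕ} (hsk : s < 2 ^ k) :
    ∀ (qs : List ℕ) (cert rest : List Item), go rec t k K s qs cert = some rest →
      ∀ q ∈ qs, s.testBit q = false → q ≤ k → q < n →
        (conflict t K (s ||| (1 <<< q)) = true ∨ Claim n t S0 ((s ||| (1 <<< q)) :: K)) := by
  intro qs
  induction qs with
  | nil => intro _ _ _ q hq; simp at hq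
  | cons q0 qs ih =>
    intro cert rest hgo q hq hsq hqk hqn
    rw [go] at hgo
    by_cases h0 : s.testBit q0 = true
    · rw [if_pos h0] at hgo
      rcases List.mem_cons.mp hq with rfl | hq'
      · rw [h0] at hsq; exact absurd hsq (by simp)
      · exact ih cert rest hgo q hq' hsq hqk hqn
    · rw [if_neg h0] at hgo
      by_cases hc : conflict t K (s ||| (1 <<< q0)) = true
      · rw [if_pos hc] at hgo
        rcases List.mem_cons.mp hq with rfl | hq'
        · exact Or.inl hc
        · exact ih cert rest hgo q hq' hsq hqk hqn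
      · rw [if_neg hc] at hgo
        cases hr : rec (if q0 = k then k + 1 else k) ((s ||| (1 <<< q0)) :: K) cert with
        | none => rw [hr] at hgo; simp at hgo
        | some cert' =>
          rw [hr] at hgo
          simp only at hgo
          rcases List.mem_cons.mp hq with rfl | hq'
          · right
            apply hrec _ _ _ _ hr
            obtain ⟨htk, hkn, hKk⟩ := hInv
            have hk' : k ≤ (if q = k then k + 1 else k) := by split <;> omega
            have hqk' : q < (if q = k then k + 1 else k) := by split <;> omega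
            refine ⟨le_trans htk hk', ?_, ?_⟩
            · split <;> omega
            · intro m hm
              rcases List.mem_cons.mp hm with rfl | hm'
              · apply Nat.or_lt_two_pow
                · exact lt_of_lt_of_le hsk (Nat.pow_le_pow_right (by norm_num) hk')
                · rw [Nat.one_shiftLeft]
                  exact Nat.pow_lt_pow_right (by norm_num) hqk'
              · exact lt_of_lt_of_le (hKk m hm') (Nat.pow_le_pow_right (by norm_num) hk')
          · exact ih cert' rest hgo q hq' hsq hqk hqn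

theorem check_sound : ∀ (fuel k : ℕ) (K : List ℕ) (cert rest : List Item),
    check n t S0 fuel k K cert = some rest → Inv n t k K → Claim n t S0 K := by
  intro fuel
  induction fuel with
  | zero => intro k K cert rest h; simp [check] at h
  | succ fuel ih =>
    intro k K cert rest h hInv
    match cert, h with
    | [], h => simp [check] at h
    | Item.leaf ρ :: rest', h =>
      simp only [check] at h
      by_cases hl : leafOK n t S0 K ρ = true
      · exact leaf_sound hl
      · rw [if_neg hl] at h; simp at h
    | Item.label :: rest', h =>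
      simp only [check] at h
      by_cases hk : k < n
      · rw [if_pos hk] at h
        obtain ⟨htk, hkn, hKk⟩ := hInv
        exact ih (k + 1) K rest' rest h ⟨by omega, by omega, fun m hm =>
          lt_of_lt_of_le (hKk m hm) (Nat.pow_le_pow_right (by norm_num) (Nat.le_succ k))⟩
      · rw [if_neg hk] at h; simp at h
    | Item.query s :: rest', h =>
      simp only [check] at h
      by_cases hq : (decide (s < 2 ^ k) && popc s == t) = true
      · rw [if_pos hq] at h
        simp only [Bool.and_eq_true, decide_eq_true_eq, beq_iff_eq] at hq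
        obtain ⟨hsk, hst⟩ := hq
        intro X hX hK
        obtain ⟨q, hqk, hqn, hsq, τ, hτ, hK', hb'⟩ := query_step hpop hInv hsk hst hX hK
        have hX' := steiner_tr (t := t) (k := t + 1) τ hX
        have hmem : q ∈ List.range (min (k + 1) n) := by
          rw [List.mem_range]; omega
        obtain ⟨htk, hkn, hKk⟩ := hInv
        have hKn : ∀ m ∈ K, m < 2 ^ n := fun m hm =>
          lt_of_lt_of_le (hKk m hm) (Nat.pow_le_pow_right (by norm_num) hkn)
        have hbn : s ||| (1 <<< q) < 2 ^ n := by
          apply Nat.or_lt_two_pow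
          · exact lt_of_lt_of_le hsk (Nat.pow_le_pow_right (by norm_num) hkn)
          · rw [Nat.one_shiftLeft]; exact Nat.pow_lt_pow_right (by norm_num) hqn
        rcases go_sound hpop (check n t S0 fuel) (fun k' K' c r hc hI => ih k' K' c r hc hI)
          ⟨htk, hkn, hKk⟩ hsk _ _ _ h q hmem hsq hqk hqn with hc | hcl
        · exact (conflict_absurd hpop hc hKn hbn hX' hK' hb').elim
        · obtain ⟨ρ', hfix', hS'⟩ := hcl (tr τ X) hX' (by
            intro m hm
            rcases List.mem_cons.mp hm with rfl | hm'
            · exact hb'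
            · exact hK' m hm')
          refine ⟨ρ'.trans τ.symm, ?_, ?_⟩
          · intro i hi
            rw [Equiv.trans_apply, hfix' i hi, Equiv.symm_apply_eq, hτ i (by omega)]
          · intro m0 hm0
            have := mem_tr.mp (hS' m0 hm0)
            rw [Finset.image_image] at this
            exact this
      · rw [if_neg hq] at h; simp at h

end sound

/-! ### the target system, coverage, the uniqueness theorem on `Fin n` -/

/-- the set system given by a list of masks -/
def sys (n : ℕ) (S0 : List ℕ) : Set (Finset (Fin n)) := {b | ∃ m0 ∈ S0, b = toSet n m0}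

/-- every `t`-subset (as a mask `a * 64 + b`) lies in a member of `S0` -/
def covers (A t : ℕ) (S0 : List ℕ) : Bool :=
  (List.range A).all fun a => (List.range 64).all fun b =>
    popc (a * 64 + b) != t || S0.any fun m0 => (a * 64 + b) &&& m0 == a * 64 + b

theorem covers_spec {A t : ℕ} {S0 : List ℕ} (h : covers A t S0 = true) {s : ℕ} (hs : s < A * 64)
    (hst : popc s = t) : ∃ m0 ∈ S0, s &&& m0 = s := by
  simp only [covers, List.all_eq_true, List.mem_range, Bool.or_eq_true, bne_iff_ne, ne_eq,
    List.any_eq_true, beq_iff_eq] at h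
  have := h (s / 64) (by omega) (s % 64) (by omega)
  rw [Nat.div_add_mod'] at this
  rcases this with h1 | h1
  · exact absurd hst h1
  · exact h1

theorem unique_of_check {n t : ℕ} {S0 : List ℕ} (hpop : ∀ m < 2 ^ n, popc m = popL n m)
    (htn : t ≤ n) {fuel : ℕ} {cert rest : List Item}
    (hc : check n t S0 fuel t [] cert = some rest) {A : ℕ} (hA : 2 ^ n ≤ A * 64)
    (hcov : covers A t S0 = true) {X : Set (Finset (Fin n))}
    (hX : IsSteinerSystem t (t + 1) X) :
    ∃ ρ : Equiv.Perm (Fin n), (∀ i : Fin n, i.val < t → ρ i = i) ∧ tr ρ (sys n S0) = X := by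
  have hcl : Claim n t S0 [] := check_sound hpop fuel t [] cert rest hc
    ⟨le_rfl, htn, fun m hm => by simp at hm⟩
  obtain ⟨ρ, hfix, hS⟩ := hcl X hX (fun m hm => by simp at hm)
  refine ⟨ρ, hfix, ?_⟩
  apply Set.eq_of_subset_of_subset
  · rintro _ ⟨b, ⟨m0, hm0, rfl⟩, rfl⟩
    exact hS m0 hm0
  · intro b hb
    have hbc : b.card = t + 1 := hX.1 b hb
    obtain ⟨u, hub, hut⟩ := Finset.exists_subset_card_eq (show t ≤ b.card by omega)
    obtain ⟨s', hs'n, hs'⟩ := exists_mask (u.image ρ.symm)
    have hpc : popc s' = t := by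
      rw [hpop s' hs'n, ← card_toSet, hs', Finset.card_image_of_injective _ ρ.symm.injective, hut]
    obtain ⟨m0, hm0, hand⟩ := covers_spec hcov (lt_of_lt_of_le hs'n hA) hpc
    have hsub : toSet n s' ⊆ toSet n m0 := by
      rw [← hand, toSet_and]; exact Finset.inter_subset_right
    have hu : u ⊆ (toSet n m0).image ρ := by
      have := Finset.image_subset_image (f := ρ) hsub
      rwa [hs', image_image_symm] at this
    obtain ⟨d, _, hd⟩ := hX.2 u hut
    have h1 := hd b ⟨hb, hub⟩
    have h2 := hd _ ⟨hS m0 hm0, hu⟩
    rw [h1, ← h2]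
    exact ⟨toSet n m0, ⟨m0, hm0, rfl⟩, rfl⟩

/-! ### rigidity -/

/-- some block inside the domain of the partial map `pre` is not mapped to a block -/
def bad (n : ℕ) (S0 : List ℕ) (pre : List ℕ) : Bool :=
  S0.any fun m => decide (m < 2 ^ pre.length) && !(S0.contains (permMask n pre m))

/-- every extension of the partial map `pre` to an automorphism is the identity -/
def rigid (n : ℕ) (S0 : List ℕ) : ℕ → List ℕ → Bool
  | 0, pre => bad n S0 pre || pre == List.range n
  | f + 1, pre => bad n S0 pre ||
      (List.range n).all fun v => pre.contains v || rigid n S0 f (pre ++ [v])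

theorem bad_absurd {n : ℕ} {S0 pre : List ℕ} (hS0 : ∀ m ∈ S0, m < 2 ^ n)
    (hb : bad n S0 pre = true) (h : Equiv.Perm (Fin n))
    (haut : ∀ m ∈ S0, ∃ m' ∈ S0, (toSet n m).image h = toSet n m')
    (hag : ∀ i : Fin n, i.val < pre.length → pre.getD i.val 0 = (h i).val) : False := by
  simp only [bad, List.any_eq_true, Bool.and_eq_true, decide_eq_true_eq, Bool.not_eq_eq_eq_not,
    Bool.not_true, List.contains_eq_mem, decide_eq_false_iff_not] at hb
  obtain ⟨m, hm, hml, hnot⟩ := hb
  have hbits : ∀ i : Fin n, m.testBit i.val = true → i.val < pre.length := by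
    intro i hi
    by_contra hlt
    push Not at hlt
    rw [testBit_false_of_lt hml hlt] at hi
    exact Bool.false_ne_true hi
  obtain ⟨m', hm', himg⟩ := haut m hm
  have h1 : toSet n (permMask n pre m) = toSet n m' := by
    rw [toSet_permMask pre m h (fun i hi => hag i (hbits i hi)), himg]
  have h2 : permMask n pre m < 2 ^ n := by
    apply permMask_lt
    intro i hi hmi
    rw [hag ⟨i, hi⟩ (hbits ⟨i, hi⟩ hmi)]
    exact (h ⟨i, hi⟩).isLt
  rw [toSet_injOn h2 (hS0 m' hm') h1] at hnot
  exact hnot hm'

theorem rigid_sound {n : ℕ} {S0 : List ℕ} (hS0 : ∀ m ∈ S0, m < 2 ^ n) :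
    ∀ (f : ℕ) (pre : List ℕ), rigid n S0 f pre = true → pre.length + f = n →
      ∀ h : Equiv.Perm (Fin n), (∀ m ∈ S0, ∃ m' ∈ S0, (toSet n m).image h = toSet n m') →
        (∀ i : Fin n, i.val < pre.length → pre.getD i.val 0 = (h i).val) → h = 1 := by
  intro f
  induction f with
  | zero =>
    intro pre hr hlen h haut hag
    rw [rigid, Bool.or_eq_true] at hr
    rcases hr with hb | he
    · exact (bad_absurd hS0 hb h haut hag).elim
    · rw [beq_iff_eq] at he
      ext i
      have := hag i (by omega)
      rw [he, List.getD_eq_getElem _ _ (by simp), List.getElem_range] at this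
      rw [Equiv.Perm.one_apply, ← this]
  | succ f ih =>
    intro pre hr hlen h haut hag
    rw [rigid, Bool.or_eq_true] at hr
    rcases hr with hb | hall
    · exact (bad_absurd hS0 hb h haut hag).elim
    · have hln : pre.length < n := by omega
      set v := (h ⟨pre.length, hln⟩).val with hv
      rw [List.all_eq_true] at hall
      have hv' := hall v (List.mem_range.mpr (h ⟨pre.length, hln⟩).isLt)
      rw [Bool.or_eq_true] at hv'
      rcases hv' with hc | hr'
      · exfalso
        rw [List.contains_eq_mem, decide_eq_true_eq] at hc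
        obtain ⟨i, hi, hiv⟩ := List.getElem_of_mem hc
        have h1 := hag ⟨i, by omega⟩ hi
        rw [List.getD_eq_getElem _ _ hi] at h1
        have h2 : h ⟨i, by omega⟩ = h ⟨pre.length, hln⟩ := by
          apply Fin.ext; rw [← h1, hiv]
        have h3 := h.injective h2
        rw [Fin.ext_iff] at h3
        simp only at h3
        omega
      · apply ih (pre ++ [v]) hr' (by rw [List.length_append]; simp; omega) h haut
        intro i hi
        rw [List.length_append, List.length_singleton] at hi
        by_cases hil : i.val < pre.length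
        · rw [List.getD_append _ _ _ _ hil]
          exact hag i hil
        · have hie : i.val = pre.length := by omega
          rw [List.getD_append_right _ _ _ _ (by omega), hie, Nat.sub_self]
          simp only [List.getD_cons_zero]
          rw [hv]
          congr 2
          exact (Fin.ext hie).symm

/-! ### transfer to an arbitrary type with `n` elements -/

section transfer

variable {α : Type*} [Fintype α] [DecidableEq α]

theorem exists_equiv {n t : ℕ} {S0 : List ℕ} (hpop : ∀ m < 2 ^ n, popc m = popL n m)
    (htn : t ≤ n) {fuel : ℕ} {cert rest : List Item}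
    (hc : check n t S0 fuel t [] cert = some rest) {A : ℕ} (hA : 2 ^ n ≤ A * 64)
    (hcov : covers A t S0 = true) (hα : Fintype.card α = n) {B : Set (Finset α)}
    (hB : IsSteinerSystem t (t + 1) B) (x : Fin t ↪ α) :
    ∃ e : Fin n ≃ α, (∀ i : Fin t, e (Fin.castLE htn i) = x i) ∧ tr e (sys n S0) = B := by
  have e1 : Fin n ≃ α := (Fintype.equivFinOfCardEq hα).symm
  obtain ⟨g, hg⟩ := Equiv.Perm.exists_smul_eq_embedding (Fin.castLEEmb htn)
    (x.trans e1.symm.toEmbedding)
  have hg' : ∀ i : Fin t, e1 (g (Fin.castLE htn i)) = x i := by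
    intro i
    have := DFunLike.congr_fun hg i
    simp only [Function.Embedding.smul_apply, Fin.castLEEmb_apply, Equiv.Perm.smul_def,
      Function.Embedding.trans_apply, Equiv.coe_toEmbedding] at this
    rw [this, Equiv.apply_symm_apply]
  set e2 : Fin n ≃ α := g.trans e1 with he2
  obtain ⟨ρ, hfix, hρ⟩ := unique_of_check hpop htn hc hA hcov (steiner_tr e2.symm hB)
  refine ⟨ρ.trans e2, ?_, ?_⟩
  · intro i
    rw [Equiv.trans_apply, hfix _ (by simp), he2, Equiv.trans_apply]
    exact hg' i
  · rw [tr_trans, hρ, tr_tr_symm]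

end transfer

end Cfsg.Agent.Lib.Helper7_SteinerTree
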