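/-
helper7: a concrete strongly regular graph with parameters (100, 22, 0, 6) on `Fin 100` (the
Higman–Sims graph), with an explicit involutory automorphism fixing the vertex `0` that is an
odd permutation of the vertices.
-/
import Mathlib
import Cfsg.Agent.Lib.Helper7_SteinerTree

set_option autoImplicit false
set_option linter.unusedSectionVars false
set_option linter.unusedVariables false

namespace Cfsg.Agent.Lib.Helper7_HSmodel

open Cfsg.Agent.Lib.Helper7_SteinerTree

def adjMask : ℕ := 2851204014949792371505139313096064118787239910366355003158964036411444580900373700723098531992676486435317342395716219956404936492702386905305773484564082583964429648528085938587548773016048741083531437244252065925046545715085306384173241320523459431485354273431413553746030496108392428919015468605793609072870038970144466943115111108741902809708265140856734360841071124488611892848654518177008661446786589353246917650076202660810684476866094036771150668874359327649610718237008446554725234961477814844161576628194495454880949937051831608309103804730556035599923592369837845929143588592665684307858139464181964775191195255219534021170942762282095777439512233648063901204227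25399399763911356387590151149071850761980740346062049973962767379591289814980208477864369153870300735159757474710484025753916873401040035288873327286385789507541166249523962207073044542420496530286763985640421826812546246884290180804330324844458716619065072799745860023122895658530963728563046155308623756206337116968625045245897409510796111004841898627176124508450067865338472452271216801574088584145074128992576051198971288349753257720183584538876690928486421048843333220489385408930945507877324301799709922684131792521327318159432941129341380168185644800847910256068807343786915640785702742270025644979693505864166068762340322453302208839060408609697686456807584755043715047822156056190341849103055489197095900682419703933119230505062897334245600651018534421469193034099825058646878912517116702171646309969692077177564204611015323951315642216739406990379707217075789836094148906916876517553700888341201191341328577048236635552260096068803647464985136275064576933194465940588724405884145952901953510704227482808824219991837341500678701084353510851551857615456702589115954426789917804718402171539329953626271022091338412671399874568933018659263260421684925563206858919470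99911461750906077716317392239017748110415565874482554237841087253671319664034460984644788063659459909873089901304440478483847428478082456941842674797051438385739836820944275200537907290287901040669284776677827349941618129260581576462212142419597844479549529383215917086535219729274859393316468223887078848136503983674497494545667358590111127898204740017452112768375683129230717098075036392281764017534114998738665624300929750100871107725587654106436658602346415985986981611476194730595682561736303970261533928523472108008650089225637595192236583814112038800251436733146970427718112123904624482358890801681736540564329182378700065417840526313255497542942198080199095941109518939577476073533698110485350615870537033479225039151327829340265875181342615446599495688808845563160795974344387316558908304627965102467905817953608843673623485947719073664963519315185134243437362829309131400893491247347543871561777178822111130829572780576306695785910295999048749137623388727214652216510758518822639231075896142373037651919998712835043572443608087821580469169089459868078646537561545746161177789603711914656064744130102435000462002731164086046912288681992650750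

def tlNum : ℕ := 1489497196267901105844924117334143477712377590520255654484669254217736185509020094329113098420181599221223686029519181959252002580841957267502744304543688681863075526582210454673016157024412593791851509619804928

def pairs : List (ℕ × ℕ) := [(1, 22), (2, 11), (3, 15), (4, 17), (5, 9), (6, 19), (7, 13), (8, 20), (10, 16), (12, 21), (14, 18), (23, 47), (24, 94), (25, 70), (26, 92), (28, 58), (29, 75), (30, 90), (31, 98), (32, 86), (33, 59), (34, 42), (36, 99), (37, 68), (38, 48), (39, 74), (40, 81), (41, 55), (44, 71), (45, 96), (46, 76), (49, 62), (50, 80), (51, 61), (52, 97), (53, 82), (54, 73), (56, 63), (60, 85), (64, 79), (65, 78), (66, 67), (69, 87), (72, 88), (77, 91), (83, 84), (89, 93)]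

/-! ### numbers with a known list of bits -/

/-- the number with the given bits set -/
def orPow : List ℕ → ℕ
  | [] => 0
  | p :: ps => (1 <<< p) ||| orPow ps

theorem testBit_orPow (ps : List ℕ) (j : ℕ) : (orPow ps).testBit j = true ↔ j ∈ ps := by
  induction ps with
  | nil => simp [orPow]
  | cons p ps ih =>
    rw [orPow, Nat.testBit_or, Bool.or_eq_true, ih, Nat.one_shiftLeft, Nat.testBit_two_pow,
      decide_eq_true_eq, List.mem_cons]
    constructor
    · rintro (h | h)
      · exact Or.inl h.symm
      · exact Or.inr h
    · rintro (h | h)
      · exact Or.inl h.symm
      · exact Or.inr h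

/-- the positions of the highest bits of `x`, found with `Nat.log2` (untrusted, checked later) -/
def topBits : ℕ → ℕ → List ℕ
  | 0, _ => []
  | k + 1, x => if x = 0 then [] else Nat.log2 x :: topBits k (x - 1 <<< Nat.log2 x)

/-- strictly decreasing -/
def sortedDesc : List ℕ → Bool
  | [] => true
  | [_] => true
  | p :: q :: ps => decide (q < p) && sortedDesc (q :: ps)

theorem nodup_of_sortedDesc : ∀ ps : List ℕ, sortedDesc ps = true →
    ps.Nodup ∧ ∀ p ∈ ps, ∀ q ∈ ps.head?, p ≤ q := by
  intro ps
  induction ps with
  | nil => intro _; simp
  | cons p ps ih =>
    intro h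
    cases ps with
    | nil => simp
    | cons q ps =>
      rw [sortedDesc, Bool.and_eq_true, decide_eq_true_eq] at h
      obtain ⟨hnd, hle⟩ := ih h.2
      constructor
      · rw [List.nodup_cons]
        refine ⟨?_, hnd⟩
        intro hp
        have := hle p hp q (by simp)
        omega
      · intro r hr s hs
        simp only [List.head?_cons, Option.mem_def, Option.some.injEq] at hs
        subst hs
        rcases List.mem_cons.mp hr with rfl | hr'
        · exact le_rfl
        · have := hle r hr' q (by simp)
          omega

/-- `x` has exactly `k` bits -/
def bitsOK (k x : ℕ) : Bool :=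
  (topBits (k + 1) x).length == k && sortedDesc (topBits (k + 1) x) &&
    orPow (topBits (k + 1) x) == x

theorem card_toSet_of_bitsOK {n k x : ℕ} (hx : x < 2 ^ n) (h : bitsOK k x = true) :
    (toSet n x).card = k := by
  simp only [bitsOK, Bool.and_eq_true, beq_iff_eq] at h
  obtain ⟨⟨hlen, hsort⟩, hor⟩ := h
  set ps := topBits (k + 1) x with hps
  have hnd := (nodup_of_sortedDesc ps hsort).1
  have hmem : ∀ j, x.testBit j = true ↔ j ∈ ps := by
    intro j; rw [← hor]; exact testBit_orPow ps j
  have himg : (toSet n x).image Fin.val = ps.toFinset := by
    ext j
    simp only [Finset.mem_image, mem_toSet, List.mem_toFinset]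
    constructor
    · rintro ⟨i, hi, rfl⟩
      exact (hmem _).mp hi
    · intro hj
      have hj' := (hmem j).mpr hj
      have hjn : j < n := by
        by_contra hge
        push Not at hge
        rw [testBit_false_of_lt hx hge] at hj'
        exact Bool.false_ne_true hj'
      exact ⟨⟨j, hjn⟩, hj', rfl⟩
  rw [← Finset.card_image_of_injective _ Fin.val_injective, himg,
    List.toFinset_card_of_nodup hnd, hlen]

/-! ### the graph -/

/-- the neighbourhood of the vertex `v` as a bit mask -/
def rowOf (v : ℕ) : ℕ := (adjMask >>> (100 * v)) % 2 ^ 100

theorem rowOf_lt (v : ℕ) : rowOf v < 2 ^ 100 := Nat.mod_lt _ (by norm_num)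

/-- adjacency of the model, on natural numbers -/
def adjB (v w : ℕ) : Bool := (rowOf v).testBit w

/-- all the checks for the pair `v, w` -/
def pairOK (v w : ℕ) : Bool :=
  (adjB v w == adjB w v) &&
    (if v = w then !(adjB v v) && bitsOK 22 (rowOf v)
     else if adjB v w then rowOf v &&& rowOf w == 0 else bitsOK 6 (rowOf v &&& rowOf w))

def allOK : Bool := (List.range 100).all fun v => (List.range 100).all fun w =>
  decide (v < w) || pairOK w v

theorem allOK_eq : allOK = true := by decide +kernel

theorem pairOK_of_le {v w : ℕ} (hv : v < 100) (hvw : w ≤ v) : pairOK w v = true := by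
  have h := allOK_eq
  simp only [allOK, List.all_eq_true, List.mem_range, Bool.or_eq_true, decide_eq_true_eq] at h
  rcases h v hv w (by omega) with h1 | h1
  · omega
  · exact h1

theorem adjB_symm {v w : ℕ} (hv : v < 100) (hw : w < 100) : adjB v w = adjB w v := by
  rcases le_total w v with h | h
  · have := pairOK_of_le hv h
    simp only [pairOK, Bool.and_eq_true, beq_iff_eq] at this
    exact this.1.symm
  · have := pairOK_of_le hw h
    simp only [pairOK, Bool.and_eq_true, beq_iff_eq] at this
    exact this.1

theorem adjB_irrefl {v : ℕ} (hv : v < 100) : adjB v v = false := by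
  have := pairOK_of_le hv le_rfl
  simp only [pairOK, if_true, Bool.and_eq_true, Bool.not_eq_eq_eq_not, Bool.not_true] at this
  exact this.2.1

theorem deg_ok {v : ℕ} (hv : v < 100) : bitsOK 22 (rowOf v) = true := by
  have := pairOK_of_le hv le_rfl
  simp only [pairOK, if_true, Bool.and_eq_true] at this
  exact this.2.2

theorem cn_ok {v w : ℕ} (hv : v < 100) (hw : w < 100) (hne : v ≠ w) :
    (toSet 100 (rowOf v &&& rowOf w)).card = if adjB v w then 0 else 6 := by
  have key : ∀ {a b : ℕ}, a < 100 → b ≤ a → a ≠ b →
      (toSet 100 (rowOf b &&& rowOf a)).card = if adjB b a then 0 else 6 := by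
    intro a b ha hba hab
    have := pairOK_of_le ha hba
    have hne' : ¬ b = a := fun h => hab h.symm
    simp only [pairOK, if_neg hne', Bool.and_eq_true] at this
    by_cases hadj : adjB b a = true
    · rw [if_pos hadj] at this ⊢
      have h2 := this.2
      rw [beq_iff_eq] at h2
      rw [h2]
      simp [toSet]
    · rw [if_neg hadj] at this ⊢
      exact card_toSet_of_bitsOK (lt_of_le_of_lt Nat.and_le_left (rowOf_lt b)) this.2
  rcases le_total w v with h | h
  · have := key hv h hne
    rw [Nat.and_comm, adjB_symm hv hw]
    exact this
  · exact key hw h hne.symm

/-- the model graph -/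
def Γ0 : SimpleGraph (Fin 100) where
  Adj v w := adjB v.val w.val = true
  symm := ⟨by
    intro v w h
    rw [← adjB_symm v.isLt w.isLt]
    exact h⟩
  loopless := ⟨by
    intro v h
    rw [adjB_irrefl v.isLt] at h
    exact Bool.false_ne_true h⟩

instance : DecidableRel Γ0.Adj := fun v w => inferInstanceAs (Decidable (adjB v.val w.val = true))

theorem Γ0_srg : Γ0.IsSRGWith 100 22 0 6 := by
  have hcard : ∀ v w : Fin 100, Fintype.card (Γ0.commonNeighbors v w) =
      (toSet 100 (rowOf v.val &&& rowOf w.val)).card := by
    intro v w
    rw [Fintype.card_subtype]
    congr 1
    ext u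
    simp only [SimpleGraph.mem_commonNeighbors, Finset.mem_filter, Finset.mem_univ, true_and,
      mem_toSet, Nat.testBit_and, Bool.and_eq_true]
    rfl
  refine ⟨by simp, ?_, ?_, ?_⟩
  · intro v
    rw [SimpleGraph.degree, SimpleGraph.neighborFinset_eq_filter,
      ← card_toSet_of_bitsOK (rowOf_lt v.val) (deg_ok v.isLt)]
    rfl
  · intro v w h
    have hne : v ≠ w := Γ0.ne_of_adj h
    rw [hcard, cn_ok v.isLt w.isLt (fun h => hne (Fin.ext h))]
    have h' : adjB v.val w.val = true := h
    rw [if_pos h']
  · intro v w hne h
    rw [hcard, cn_ok v.isLt w.isLt (fun h => hne (Fin.ext h))]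
    have h' : ¬ adjB v.val w.val = true := h
    rw [if_neg h']

/-! ### the odd automorphism -/

/-- the involution on natural numbers -/
def f0 (v : ℕ) : ℕ := (tlNum >>> (7 * v)) % 128

def f0OK : Bool := (List.range 100).all fun v => decide (f0 v < 100) && (f0 (f0 v) == v) &&
  (List.range 100).all fun w => !(adjB v w) || adjB (f0 v) (f0 w)

theorem f0OK_eq : f0OK = true := by decide +kernel

theorem f0_lt {v : ℕ} (hv : v < 100) : f0 v < 100 := by
  have h := f0OK_eq
  simp only [f0OK, List.all_eq_true, List.mem_range, Bool.and_eq_true, decide_eq_true_eq] at h
  exact (h v hv).1.1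

theorem f0_f0 {v : ℕ} (hv : v < 100) : f0 (f0 v) = v := by
  have h := f0OK_eq
  simp only [f0OK, List.all_eq_true, List.mem_range, Bool.and_eq_true, beq_iff_eq] at h
  exact (h v hv).1.2

theorem f0_adj {v w : ℕ} (hv : v < 100) (hw : w < 100) (h : adjB v w = true) :
    adjB (f0 v) (f0 w) = true := by
  have h0 := f0OK_eq
  simp only [f0OK, List.all_eq_true, List.mem_range, Bool.and_eq_true, Bool.or_eq_true,
    Bool.not_eq_eq_eq_not, Bool.not_true] at h0
  rcases (h0 v hv).2 w hw with h1 | h1
  · rw [h] at h1; exact absurd h1 (by simp)
  · exact h1

/-- the automorphism, as a permutation of `Fin 100` -/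
def t0 : Equiv.Perm (Fin 100) where
  toFun i := ⟨f0 i.val, f0_lt i.isLt⟩
  invFun i := ⟨f0 i.val, f0_lt i.isLt⟩
  left_inv i := Fin.ext (f0_f0 i.isLt)
  right_inv i := Fin.ext (f0_f0 i.isLt)

theorem t0_val (i : Fin 100) : (t0 i).val = f0 i.val := rfl

theorem t0_adj (v w : Fin 100) : Γ0.Adj (t0 v) (t0 w) ↔ Γ0.Adj v w := by
  constructor
  · intro h
    have h1 : adjB (f0 (f0 v.val)) (f0 (f0 w.val)) = true :=
      f0_adj (f0_lt v.isLt) (f0_lt w.isLt) h
    rw [f0_f0 v.isLt, f0_f0 w.isLt] at h1
    exact h1
  · intro h
    exact f0_adj v.isLt w.isLt h

theorem t0_zero : t0 0 = 0 := by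
  apply Fin.ext
  rw [t0_val]
  rfl

/-- a transposition of `Fin 100` given by two numbers -/
def sw (a b : ℕ) : Equiv.Perm (Fin 100) := Equiv.swap (Fin.ofNat 100 a) (Fin.ofNat 100 b)

/-- the product of the transpositions of a list of pairs -/
def swProd : List (ℕ × ℕ) → Equiv.Perm (Fin 100)
  | [] => 1
  | p :: l => sw p.1 p.2 * swProd l

theorem sign_swProd (l : List (ℕ × ℕ)) (h : ∀ p ∈ l, Fin.ofNat 100 p.1 ≠ Fin.ofNat 100 p.2) :
    Equiv.Perm.sign (swProd l) = (-1) ^ l.length := by
  induction l with
  | nil => simp [swProd]
  | cons p l ih =>
    rw [swProd, Equiv.Perm.sign_mul, ih (fun q hq => h q (List.mem_cons_of_mem _ hq)), sw,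
      Equiv.Perm.sign_swap (h p List.mem_cons_self), List.length_cons, pow_succ, mul_comm]

theorem pairs_ne : ∀ p ∈ pairs, Fin.ofNat 100 p.1 ≠ Fin.ofNat 100 p.2 := by decide +kernel

theorem swProd_val : ∀ i : Fin 100, (swProd pairs i).val = f0 i.val := by decide +kernel

theorem t0_eq : t0 = swProd pairs := by
  ext i
  rw [t0_val, swProd_val]

theorem sign_t0 : Equiv.Perm.sign t0 = -1 := by
  rw [t0_eq, sign_swProd pairs pairs_ne]
  have : pairs.length = 47 := by decide
  rw [this]
  norm_num

end Cfsg.Agent.Lib.Helper7_HSmodel
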