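/-
helper7: a simplicity criterion for a transitive group of degree 100 whose point stabiliser is
simple with suborbits of sizes 1, 22, 77 (the Higman–Sims situation).
-/
import Mathlib

set_option autoImplicit false
set_option linter.unusedSectionVars false
set_option linter.unusedVariables false

namespace Cfsg.Agent.Lib.Helper7_Rank3Simple

open MulAction

variable {H V : Type*} [Group H] [MulAction H V]

/-- an invariant set meeting an orbit contains it -/
theorem orbit_subset_of_mem {S : Subgroup H} {O : Set V} (hO : ∀ s ∈ S, ∀ y ∈ O, s • y ∈ O)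
    {a y : V} (hy : y ∈ O) (hya : y ∈ orbit S a) : orbit S a ⊆ O := by
  intro z hz
  rw [← orbit_eq_iff.mpr hya] at hz
  obtain ⟨s, rfl⟩ := hz
  exact hO s.1 s.2 y hy

section main

variable [Finite H] [Finite V] (x a b : V)
  (hV : Nat.card V = 100)
  (ha : (orbit (stabilizer H x) a).ncard = 22)
  (hb : (orbit (stabilizer H x) b).ncard = 77)

include hV ha hb

theorem x_notMem_orbit_a : x ∉ orbit (stabilizer H x) a := by
  intro hx
  have h1 : orbit (stabilizer H x) a = orbit (stabilizer H x) x := (orbit_eq_iff.mpr hx).symm
  have h2 : orbit (stabilizer H x) x = {x} := by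
    ext y
    constructor
    · rintro ⟨s, rfl⟩
      exact s.2
    · rintro rfl
      exact mem_orbit_self _
  rw [h1, h2, Set.ncard_singleton] at ha
  omega

theorem x_notMem_orbit_b : x ∉ orbit (stabilizer H x) b := by
  intro hx
  have h1 : orbit (stabilizer H x) b = orbit (stabilizer H x) x := (orbit_eq_iff.mpr hx).symm
  have h2 : orbit (stabilizer H x) x = {x} := by
    ext y
    constructor
    · rintro ⟨s, rfl⟩
      exact s.2
    · rintro rfl
      exact mem_orbit_self _
  rw [h1, h2, Set.ncard_singleton] at hb
  omega

theorem disjoint_orbits : Disjoint (orbit (stabilizer H x) a) (orbit (stabilizer H x) b) := by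
  rw [Set.disjoint_left]
  intro y hya hyb
  have h1 : orbit (stabilizer H x) a = orbit (stabilizer H x) b :=
    (orbit_eq_iff.mpr hya).symm.trans (orbit_eq_iff.mpr hyb)
  rw [h1] at ha
  omega

/-- the three suborbits cover everything -/
theorem cover (y : V) : y = x ∨ y ∈ orbit (stabilizer H x) a ∨ y ∈ orbit (stabilizer H x) b := by
  classical
  have hfin : ∀ s : Set V, s.Finite := fun s => Set.toFinite s
  have hd1 : Disjoint ({x} : Set V) (orbit (stabilizer H x) a) :=
    Set.disjoint_singleton_left.mpr (x_notMem_orbit_a x a b hV ha hb)
  have hd2 : Disjoint (({x} : Set V) ∪ orbit (stabilizer H x) a) (orbit (stabilizer H x) b) := by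
    rw [Set.disjoint_union_left]
    exact ⟨Set.disjoint_singleton_left.mpr (x_notMem_orbit_b x a b hV ha hb),
      disjoint_orbits x a b hV ha hb⟩
  have hcard : ((({x} : Set V) ∪ orbit (stabilizer H x) a) ∪ orbit (stabilizer H x) b).ncard
      = 100 := by
    rw [Set.ncard_union_eq hd2 (hfin _) (hfin _), Set.ncard_union_eq hd1 (hfin _) (hfin _),
      Set.ncard_singleton, ha, hb]
  have huniv : (({x} : Set V) ∪ orbit (stabilizer H x) a) ∪ orbit (stabilizer H x) b
      = Set.univ := by
    apply Set.eq_of_subset_of_ncard_le (Set.subset_univ _) _ (hfin _)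
    rw [Set.ncard_univ, hV, hcard]
  have : y ∈ (({x} : Set V) ∪ orbit (stabilizer H x) a) ∪ orbit (stabilizer H x) b := by
    rw [huniv]; trivial
  rcases this with (h | h) | h
  · exact Or.inl h
  · exact Or.inr (Or.inl h)
  · exact Or.inr (Or.inr h)

/-- an invariant set containing `x` has 1, 23, 78 or 100 elements -/
theorem ncard_invariant {O : Set V} (hxO : x ∈ O)
    (hO : ∀ s ∈ stabilizer H x, ∀ y ∈ O, s • y ∈ O) :
    O.ncard = 1 ∨ O.ncard = 23 ∨ O.ncard = 78 ∨ O = Set.univ := by
  classical
  have hfin : ∀ s : Set V, s.Finite := fun s => Set.toFinite s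
  have hd1 : Disjoint ({x} : Set V) (orbit (stabilizer H x) a) :=
    Set.disjoint_singleton_left.mpr (x_notMem_orbit_a x a b hV ha hb)
  have hd1' : Disjoint ({x} : Set V) (orbit (stabilizer H x) b) :=
    Set.disjoint_singleton_left.mpr (x_notMem_orbit_b x a b hV ha hb)
  have hcov := cover x a b hV ha hb
  by_cases hA : ∃ y ∈ O, y ∈ orbit (stabilizer H x) a
  · obtain ⟨y, hy, hya⟩ := hA
    have hAsub := orbit_subset_of_mem hO hy hya
    by_cases hB : ∃ y ∈ O, y ∈ orbit (stabilizer H x) b
    · obtain ⟨z, hz, hzb⟩ := hB
      have hBsub := orbit_subset_of_mem hO hz hzb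
      right; right; right
      apply Set.eq_univ_of_forall
      intro w
      rcases hcov w with rfl | h | h
      · exact hxO
      · exact hAsub h
      · exact hBsub h
    · push Not at hB
      right; left
      have : O = ({x} : Set V) ∪ orbit (stabilizer H x) a := by
        apply Set.eq_of_subset_of_subset
        · intro w hw
          rcases hcov w with rfl | h | h
          · exact Or.inl rfl
          · exact Or.inr h
          · exact absurd h (hB w hw)
        · intro w hw
          rcases hw with rfl | h
          · exact hxO
          · exact hAsub h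
      rw [this, Set.ncard_union_eq hd1 (hfin _) (hfin _), Set.ncard_singleton, ha]
  · push Not at hA
    by_cases hB : ∃ y ∈ O, y ∈ orbit (stabilizer H x) b
    · obtain ⟨z, hz, hzb⟩ := hB
      have hBsub := orbit_subset_of_mem hO hz hzb
      right; right; left
      have : O = ({x} : Set V) ∪ orbit (stabilizer H x) b := by
        apply Set.eq_of_subset_of_subset
        · intro w hw
          rcases hcov w with rfl | h | h
          · exact Or.inl rfl
          · exact absurd h (hA w hw)
          · exact Or.inr h
        · intro w hw
          rcases hw with rfl | h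
          · exact hxO
          · exact hBsub h
      rw [this, Set.ncard_union_eq hd1' (hfin _) (hfin _), Set.ncard_singleton, hb]
    · push Not at hB
      left
      have : O = ({x} : Set V) := by
        apply Set.eq_of_subset_of_subset
        · intro w hw
          rcases hcov w with rfl | h | h
          · rfl
          · exact absurd h (hA w hw)
          · exact absurd h (hB w hw)
        · intro w hw
          rw [Set.mem_singleton_iff] at hw
          rw [hw]; exact hxO
      rw [this, Set.ncard_singleton]

variable [IsPretransitive H V]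

theorem card_eq : Nat.card H = 100 * Nat.card (stabilizer H x) := by
  have h := Subgroup.card_mul_index (stabilizer H x)
  rw [index_stabilizer, (isPretransitive_iff_orbit_eq_univ x).mp inferInstance,
    Set.ncard_univ, hV] at h
  rw [← h, mul_comm]

/-- the point stabiliser is a maximal subgroup -/
theorem isCoatom_stabilizer : IsCoatom (stabilizer H x) := by
  classical
  have hcard := card_eq x a b hV ha hb
  have hSpos : 0 < Nat.card (stabilizer H x) := Nat.card_pos
  refine ⟨?_, ?_⟩
  · intro htop
    rw [htop, Subgroup.card_top] at hcard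
    have : 0 < Nat.card H := Nat.card_pos
    omega
  · intro L hlt
    have hSL : stabilizer H x ≤ L := hlt.le
    have hne : ¬ L ≤ stabilizer H x := not_le_of_gt hlt
    -- the orbit of `x` under `L`
    set O : Set V := orbit L x with hOdef
    have hxO : x ∈ O := mem_orbit_self _
    have hO : ∀ s ∈ stabilizer H x, ∀ y ∈ O, s • y ∈ O := by
      rintro s hs _ ⟨l, rfl⟩
      exact ⟨⟨s, hSL hs⟩ * l, by simp [mul_smul]⟩
    have hstab : Nat.card (stabilizer L x) = Nat.card (stabilizer H x) := by
      have : stabilizer L x = (stabilizer H x).subgroupOf L := by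
        ext l
        simp [mem_stabilizer_iff, Subgroup.mem_subgroupOf]
        rfl
      rw [this]
      exact Nat.card_congr (Subgroup.subgroupOfEquivOfLe hSL).toEquiv
    have hL : Nat.card L = O.ncard * Nat.card (stabilizer H x) := by
      have h := Subgroup.card_mul_index (stabilizer L x)
      rw [index_stabilizer, hstab] at h
      rw [← h, mul_comm]
    have hdvd : O.ncard ∣ 100 := by
      have h1 : Nat.card L ∣ Nat.card H := Subgroup.card_subgroup_dvd_card L
      rw [hL, hcard] at h1
      exact Nat.dvd_of_mul_dvd_mul_right hSpos h1
    rcases ncard_invariant x a b hV ha hb hxO hO with h | h | h | h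
    · -- `O = {x}`: then `L ≤ S`
      exfalso
      apply hne
      intro l hl
      rw [mem_stabilizer_iff]
      have h1 : O = {x} := by
        obtain ⟨z, hz⟩ := Set.ncard_eq_one.mp h
        rw [hz] at hxO ⊢
        rw [Set.mem_singleton_iff] at hxO
        rw [hxO]
      have h2 : (⟨l, hl⟩ : L) • x ∈ O := mem_orbit x _
      rw [h1, Set.mem_singleton_iff] at h2
      exact h2
    · rw [h] at hdvd; omega
    · rw [h] at hdvd; omega
    · have h1 : O.ncard = 100 := by rw [h, Set.ncard_univ, hV]
      rw [h1, ← hcard] at hL
      exact Subgroup.eq_top_of_card_eq L hL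

theorem isPreprimitive : IsPreprimitive H V := by
  have : Nontrivial V := by
    rw [← Finite.one_lt_card_iff_nontrivial, hV]; norm_num
  exact (isCoatom_stabilizer_iff_preprimitive H x).mp (isCoatom_stabilizer x a b hV ha hb)

/-- The simplicity criterion. -/
theorem isSimpleGroup [FaithfulSMul H V] (hS : IsSimpleGroup (stabilizer H x)) :
    IsSimpleGroup H := by
  classical
  have hprim := isPreprimitive x a b hV ha hb
  have hcard := card_eq x a b hV ha hb
  have : Nontrivial H := by
    rw [← Finite.one_lt_card_iff_nontrivial, hcard]
    have : 0 < Nat.card (stabilizer H x) := Nat.card_pos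
    omega
  -- nontrivial normal subgroups are transitive
  have htrans : ∀ (M : Subgroup H) [M.Normal], M ≠ ⊥ → IsPretransitive M V := by
    intro M _ hM
    apply IsQuasiPreprimitive.isPretransitive_of_normal
    intro hfix
    apply hM
    rw [Subgroup.eq_bot_iff_forall]
    intro m hm
    apply FaithfulSMul.eq_of_smul_eq_smul (α := V)
    intro v
    have hv : v ∈ fixedPoints M V := by rw [hfix]; trivial
    rw [one_smul]
    exact hv ⟨m, hm⟩
  have hdvd : ∀ (M : Subgroup H) [M.Normal], M ≠ ⊥ → 100 ∣ Nat.card M := by
    intro M _ hM
    have := htrans M hM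
    have h := Subgroup.card_mul_index (stabilizer M x)
    rw [index_stabilizer, (isPretransitive_iff_orbit_eq_univ x).mp inferInstance,
      Set.ncard_univ, hV] at h
    exact Dvd.intro_left _ h
  refine ⟨fun N hN => ?_⟩
  by_contra hcon
  push Not at hcon
  obtain ⟨hNbot, hNtop⟩ := hcon
  have := htrans N hNbot
  rcases hS.eq_bot_or_eq_top_of_normal (N.subgroupOf (stabilizer H x)) inferInstance with h | h
  · -- `N` meets the stabiliser trivially: `N` is regular of order 100
    rw [Subgroup.subgroupOf_eq_bot] at h
    have hstabN : stabilizer N x = ⊥ := by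
      rw [Subgroup.eq_bot_iff_forall]
      intro n hn
      have h1 : (n : H) ∈ N ⊓ stabilizer H x := ⟨n.2, hn⟩
      rw [h.eq_bot, Subgroup.mem_bot] at h1
      exact Subtype.ext h1
    have hN100 : Nat.card N = 100 := by
      have h1 := Subgroup.card_mul_index (stabilizer N x)
      rw [index_stabilizer, (isPretransitive_iff_orbit_eq_univ x).mp inferInstance,
        Set.ncard_univ, hV, hstabN, Subgroup.card_bot] at h1
      omega
    have : Fact (Nat.Prime 5) := ⟨by norm_num⟩
    obtain ⟨P⟩ : Nonempty (Sylow 5 N) := inferInstance
    have hPcard : Nat.card (P : Subgroup N) = 25 := by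
      obtain ⟨k, hk⟩ := (IsPGroup.iff_card.mp P.isPGroup')
      have h1 := Subgroup.card_mul_index (P : Subgroup N)
      have h2 := P.not_dvd_index
      rw [hN100, hk] at h1
      have hk3 : k < 3 := by
        by_contra hk3
        push Not at hk3
        have : 5 ^ 3 ≤ 5 ^ k := Nat.pow_le_pow_right (by norm_num) hk3
        have hpos : 0 < (P : Subgroup N).index := by
          rcases Nat.eq_zero_or_pos (P : Subgroup N).index with h0 | h0
          · rw [h0] at h1; omega
          · exact h0
        nlinarith
      interval_cases k
      · exfalso; apply h2; rw [show (P : Subgroup N).index = 100 by omega]; norm_num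
      · exfalso; apply h2; rw [show (P : Subgroup N).index = 20 by omega]; norm_num
      · rw [hk]; norm_num
    have hn5 : Nat.card (Sylow 5 N) = 1 := by
      have h1 := card_sylow_modEq_one 5 N
      have h2 := P.card_dvd_index
      have h3 := Subgroup.card_mul_index (P : Subgroup N)
      rw [hN100, hPcard] at h3
      have h4 : (P : Subgroup N).index = 4 := by omega
      rw [h4] at h2
      have h5 : Nat.card (Sylow 5 N) ≤ 4 := Nat.le_of_dvd (by norm_num) h2
      have h6 := h1
      unfold Nat.ModEq at h6
      have : 0 < Nat.card (Sylow 5 N) := Nat.card_pos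
      omega
    have : Subsingleton (Sylow 5 N) := (Nat.card_eq_one_iff_unique.mp hn5).1
    have : (P : Subgroup N).Characteristic := Sylow.characteristic_of_subsingleton P
    have hnorm : ((P : Subgroup N).map N.subtype).Normal := inferInstance
    have hc : Nat.card ((P : Subgroup N).map N.subtype) = 25 := by
      rw [← hPcard]
      exact (Nat.card_congr
        ((P : Subgroup N).equivMapOfInjective N.subtype N.subtype_injective).toEquiv).symm
    have hne : (P : Subgroup N).map N.subtype ≠ ⊥ := by
      intro h0
      rw [h0, Subgroup.card_bot] at hc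
      omega
    have := hdvd _ hne
    rw [hc] at this
    omega
  · -- `N` contains the stabiliser: `N = ⊤`
    rw [Subgroup.subgroupOf_eq_top] at h
    apply hNtop
    rw [Subgroup.eq_top_iff']
    intro g
    obtain ⟨n, hn⟩ := exists_smul_eq N x (g • x)
    have h1 : (n : H)⁻¹ * g ∈ stabilizer H x := by
      rw [mem_stabilizer_iff, mul_smul, ← hn]
      exact inv_smul_smul _ _
    have h2 := N.mul_mem n.2 (h h1)
    rwa [mul_inv_cancel_left] at h2

end main

end Cfsg.Agent.Lib.Helper7_Rank3Simple
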