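import Mathlib
import Cfsg.Agent.Lib.Helper7_Simple

/-!
A simplicity criterion for finite primitive permutation groups whose degree is divisible by a
prime `p` with `p ∥ |G|`, in terms of the order of the normalizer of a Sylow `p`-subgroup.

* `map_normal_of_coprime`: a normal Hall subgroup of a normal subgroup is normal.
* `card_normalizer_sylow'`: the order of the normalizer of a Sylow subgroup of prime order from
  Sylow counting and information on its centralizer.
* `isSimpleGroup_of_preprimitive_sylow`: the criterion.
-/

set_option autoImplicit false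
set_option linter.style.haveILetI false
set_option linter.unusedSectionVars false

namespace Cfsg.Agent.Lib.Helper7_Simple2

open MulAction Cfsg.Agent.Lib.Helper7_Simple

/-- A normal subgroup `K` of a normal subgroup `N` of `G` whose order is coprime to its index in
`N` is normal in `G`. -/
theorem map_normal_of_coprime {G : Type*} [Group G] [Finite G] (N : Subgroup G) [hN : N.Normal]
    (K : Subgroup N) [K.Normal] (hcop : (Nat.card K).Coprime K.index) :
    (K.map N.subtype).Normal := by
  constructor
  intro k hk g
  rw [Subgroup.mem_map] at hk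
  obtain ⟨k', hk', rfl⟩ := hk
  let n : N := ⟨g * (k' : G) * g⁻¹, hN.conj_mem _ k'.2 g⟩
  have hord : orderOf n ∣ Nat.card K := by
    have h1 : orderOf n = orderOf (g * (k' : G) * g⁻¹) := (Subgroup.orderOf_coe n).symm
    have h2 : orderOf (g * (k' : G) * g⁻¹) = orderOf (k' : G) := by
      have := orderOf_injective (MulAut.conj g).toMonoidHom (MulAut.conj g).injective (k' : G)
      simpa using this
    have h3 : orderOf (k' : G) = orderOf k' := Subgroup.orderOf_coe k'
    have h4 : orderOf k' = orderOf (⟨k', hk'⟩ : K) := Subgroup.orderOf_coe (⟨k', hk'⟩ : K)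
    rw [h1, h2, h3, h4]
    exact orderOf_dvd_natCard _
  have hq1 : orderOf (QuotientGroup.mk' K n) ∣ orderOf n := orderOf_map_dvd _ n
  have hq2 : orderOf (QuotientGroup.mk' K n) ∣ K.index := by
    rw [Subgroup.index_eq_card]
    exact orderOf_dvd_natCard _
  have hone : orderOf (QuotientGroup.mk' K n) = 1 :=
    Nat.eq_one_of_dvd_coprimes hcop (hq1.trans hord) hq2
  rw [orderOf_eq_one_iff] at hone
  have hnK : n ∈ K := (QuotientGroup.eq_one_iff n).mp hone
  exact Subgroup.mem_map.mpr ⟨n, hnK, rfl⟩

section sylow

variable {G : Type*} [Group G] [Finite G] {α : Type*} [MulAction G α] [FaithfulSMul G α] [Finite α]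

variable {p t : ℕ} [hp : Fact p.Prime]

/-- The order of the normalizer of a Sylow subgroup of prime order `p`, when Sylow counting
together with the order `c` of its centralizer determines it. -/
theorem card_normalizer_sylow' {q : ℕ} (hG : Nat.card G = p * t) (hpt : ¬ p ∣ t)
    (P : Sylow p G)
    (harith : ∀ c k n : ℕ, k ∣ p - 1 → n * (c * k) = p * t → n % p = 1 →
      c = Nat.card (Subgroup.centralizer ((P : Subgroup G) : Set G)) → c * k = p * q) :
    Nat.card (Subgroup.normalizer ((P : Subgroup G) : Set G)) = p * q := by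
  have hP := sylow_card hG hpt P
  have h1 := Subgroup.card_eq_card_quotient_mul_card_subgroup
    (P : Subgroup G).normalizerMonoidHom.ker
  rw [Nat.card_congr (QuotientGroup.quotientKerEquivRange _).toEquiv] at h1
  have h2 : Nat.card (P : Subgroup G).normalizerMonoidHom.ker =
      Nat.card (Subgroup.centralizer ((P : Subgroup G) : Set G)) := by
    rw [Subgroup.normalizerMonoidHom_ker,
      Nat.card_congr (Subgroup.subgroupOfEquivOfLe (Subgroup.centralizer_le_normalizer _)).toEquiv]
  have h3 : Nat.card (P : Subgroup G).normalizerMonoidHom.range ∣ p - 1 := by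
    have hd := Subgroup.card_subgroup_dvd_card (P : Subgroup G).normalizerMonoidHom.range
    haveI := isCyclic_of_prime_card hP
    rw [IsCyclic.card_mulAut, hP, Nat.totient_prime hp.out] at hd
    exact hd
  have h4 : Nat.card (Sylow p G) * Nat.card (Subgroup.normalizer ((P : Subgroup G) : Set G)) =
      p * t := by
    rw [Sylow.card_eq_index_normalizer P, ← hG]
    exact Subgroup.index_mul_card _
  have h5 := card_sylow_modEq_one p G
  have h6 : Nat.card (Sylow p G) % p = 1 := by
    have := h5
    unfold Nat.ModEq at this
    rw [this, Nat.mod_eq_of_lt hp.out.one_lt]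
  rw [h2] at h1
  rw [h1] at h4 ⊢
  rw [mul_comm]
  exact harith _ _ _ h3 (by rw [mul_comm (Nat.card _) (Nat.card _)] at h4; exact h4) h6 rfl

/-- All Sylow `p`-subgroups have normalizers of the same order. -/
theorem card_normalizer_eq (P Q : Sylow p G) :
    Nat.card (Subgroup.normalizer ((P : Subgroup G) : Set G)) =
      Nat.card (Subgroup.normalizer ((Q : Subgroup G) : Set G)) := by
  have h1 := Subgroup.card_mul_index (Subgroup.normalizer ((P : Subgroup G) : Set G))
  have h2 := Subgroup.card_mul_index (Subgroup.normalizer ((Q : Subgroup G) : Set G))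
  rw [show (Subgroup.normalizer ((P : Subgroup G) : Set G)).index = Nat.card (Sylow p G) from
    (Sylow.card_eq_index_normalizer P).symm] at h1
  rw [show (Subgroup.normalizer ((Q : Subgroup G) : Set G)).index = Nat.card (Sylow p G) from
    (Sylow.card_eq_index_normalizer Q).symm] at h2
  have hpos : 0 < Nat.card (Sylow p G) := Nat.card_pos
  exact Nat.eq_of_mul_eq_mul_right hpos (h1.trans h2.symm)

/-- Simplicity of a primitive group of order `p * t` (`p ∤ t`) and of degree divisible by `p` but
different from `p`, when the normalizer of a Sylow `p`-subgroup has order `p * q`, `q` prime. -/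
theorem isSimpleGroup_of_preprimitive_sylow {q : ℕ} (hq : q.Prime) [IsPreprimitive G α]
    [Nonempty α] (hG : Nat.card G = p * t) (hpt : ¬ p ∣ t) (hα : p ∣ Nat.card α)
    (hα' : Nat.card α ≠ p) (P0 : Sylow p G)
    (hnorm0 : Nat.card (Subgroup.normalizer ((P0 : Subgroup G) : Set G)) = p * q) :
    IsSimpleGroup G := by
  have ht0 : t ≠ 0 := fun h => hpt (h ▸ dvd_zero p)
  haveI : Nontrivial G := by
    rw [← Finite.one_lt_card_iff_nontrivial, hG]
    calc 1 < p := hp.out.one_lt
      _ ≤ p * t := Nat.le_mul_of_pos_right p (Nat.pos_of_ne_zero ht0)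
  -- a nontrivial normal subgroup has order divisible by the degree
  have hdvd : ∀ (N : Subgroup G) [N.Normal], N ≠ ⊥ → Nat.card α ∣ Nat.card N := by
    intro N _ hN
    haveI := isPretransitive_of_normal_of_preprimitive (α := α) N hN
    obtain ⟨a⟩ := ‹Nonempty α›
    rw [← index_stabilizer_of_transitive N a]
    exact Subgroup.index_dvd_card _
  refine ⟨fun N hN => ?_⟩
  by_cases hbot : N = ⊥
  · exact Or.inl hbot
  right
  have hαN : Nat.card α ∣ Nat.card N := hdvd N hbot
  have hpN : p ∣ Nat.card N := hα.trans hαN
  -- a Sylow subgroup inside N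
  obtain ⟨x, hx⟩ := exists_prime_orderOf_dvd_card' p hpN
  have hx' : orderOf (x : G) = p := by rw [Subgroup.orderOf_coe]; exact hx
  have hpg : IsPGroup p (Subgroup.zpowers (x : G)) :=
    IsPGroup.of_card (n := 1) (by rw [Nat.card_zpowers, hx', pow_one])
  obtain ⟨P, hP⟩ := hpg.exists_le_sylow
  have hPc := sylow_card hG hpt P
  have hPeq : Subgroup.zpowers (x : G) = P :=
    Subgroup.eq_of_le_of_card_ge hP (by rw [hPc, Nat.card_zpowers, hx'])
  have hPN : (P : Subgroup G) ≤ N := by
    rw [← hPeq, Subgroup.zpowers_le]; exact x.2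
  have hnorm : Nat.card (Subgroup.normalizer ((P : Subgroup G) : Set G)) = p * q := by
    rw [card_normalizer_eq P P0, hnorm0]
  have hPle : (P : Subgroup G) ≤ Subgroup.centralizer ((P : Subgroup G) : Set G) := by
    rw [Subgroup.le_centralizer_iff_isMulCommutative]
    haveI := isCyclic_of_prime_card hPc
    exact IsCyclic.isMulCommutative
  have hPcomm : ∀ a ∈ (P : Subgroup G), ∀ b ∈ (P : Subgroup G), a * b = b * a := by
    intro a ha b hb
    exact (Subgroup.mem_centralizer_iff.mp (hPle hb)) a ha
  -- the Sylow subgroup of N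
  let PN : Sylow p N := P.subtype hPN
  have hPNcoe : (PN : Subgroup N) = (P : Subgroup G).subgroupOf N := Sylow.coe_subtype P hPN
  have hPNmap : (PN : Subgroup N).map N.subtype = P := by
    rw [hPNcoe, Subgroup.map_subgroupOf_eq_of_le hPN]
  have hfrat := Sylow.normalizer_sup_eq_top PN
  rw [hPNmap] at hfrat
  suffices hle : Subgroup.normalizer ((P : Subgroup G) : Set G) ≤ N by
    rw [← hfrat]; exact (sup_eq_right.mpr hle).symm
  by_cases hB : Subgroup.normalizer ((PN : Subgroup N) : Set N) ≤
      Subgroup.centralizer ((PN : Subgroup N) : Set N)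
  · -- Burnside transfer: normal complement K, normal in G, hence trivial
    exfalso
    have hcompl : (MonoidHom.transferSylow PN hB).ker.IsComplement' PN :=
      MonoidHom.ker_transferSylow_isComplement' PN hB
    have hnd : ¬ p ∣ Nat.card (MonoidHom.transferSylow PN hB).ker :=
      MonoidHom.not_dvd_card_ker_transferSylow PN hB
    have hPNc : Nat.card (PN : Subgroup N) = p := by
      rw [hPNcoe, Nat.card_congr (Subgroup.subgroupOfEquivOfLe hPN).toEquiv, hPc]
    have hidx : (MonoidHom.transferSylow PN hB).ker.index = p := by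
      rw [hcompl.symm.index_eq_card, hPNc]
    have hcop : (Nat.card (MonoidHom.transferSylow PN hB).ker).Coprime
        (MonoidHom.transferSylow PN hB).ker.index := by
      rw [hidx, Nat.coprime_comm]
      exact (Nat.Prime.coprime_iff_not_dvd hp.out).mpr hnd
    haveI hKn := map_normal_of_coprime N (MonoidHom.transferSylow PN hB).ker hcop
    have hKcard : Nat.card ((MonoidHom.transferSylow PN hB).ker.map N.subtype) =
        Nat.card (MonoidHom.transferSylow PN hB).ker :=
      Subgroup.card_map_of_injective N.subtype_injective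
    have hKbot : (MonoidHom.transferSylow PN hB).ker = ⊥ := by
      by_contra hKne
      have hKne' : (MonoidHom.transferSylow PN hB).ker.map N.subtype ≠ ⊥ := by
        intro h
        exact hKne ((Subgroup.map_eq_bot_iff_of_injective _ N.subtype_injective).mp h)
      apply hnd
      have hd := hdvd _ hKne'
      rw [hKcard] at hd
      exact hα.trans hd
    have htop : (PN : Subgroup N) = ⊤ := by
      rw [hKbot] at hcompl
      exact Subgroup.isComplement'_bot_left.mp hcompl
    have hNP : N = P := by
      rw [← hPNmap, htop, ← MonoidHom.range_eq_map, Subgroup.range_subtype]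
    have hNc : Nat.card N = p := by rw [hNP, hPc]
    rw [hNc] at hαN
    rcases (Nat.dvd_prime hp.out).mp hαN with h1 | h1
    · rw [h1] at hα
      exact hp.out.one_lt.ne' (Nat.dvd_one.mp hα)
    · exact hα' h1
  · -- some y ∈ N normalizes P but does not centralize it
    rw [SetLike.not_le_iff_exists] at hB
    obtain ⟨y, hyN, hyC⟩ := hB
    have hyN' : (y : G) ∈ Subgroup.normalizer ((P : Subgroup G) : Set G) := by
      rw [hPNcoe, ← Subgroup.subgroupOf_normalizer_eq hPN, Subgroup.mem_subgroupOf] at hyN
      exact hyN
    have hyC' : (y : G) ∉ (P : Subgroup G) := by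
      intro hyP
      apply hyC
      rw [Subgroup.mem_centralizer_iff]
      intro h hh
      have hh' : (h : G) ∈ (P : Subgroup G) := by
        have : h ∈ (PN : Subgroup N) := hh
        rw [hPNcoe, Subgroup.mem_subgroupOf] at this
        exact this
      apply Subtype.ext
      exact hPcomm _ hh' _ hyP
    have hPL : (P : Subgroup G) ≤ N ⊓ Subgroup.normalizer ((P : Subgroup G) : Set G) :=
      le_inf hPN Subgroup.le_normalizer
    have hLcard : Nat.card ↥(N ⊓ Subgroup.normalizer ((P : Subgroup G) : Set G)) ∣ p * q := by
      rw [← hnorm]; exact Subgroup.card_dvd_of_le inf_le_right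
    have hpL : p ∣ Nat.card ↥(N ⊓ Subgroup.normalizer ((P : Subgroup G) : Set G)) := by
      have hd := Subgroup.card_dvd_of_le hPL
      rw [hPc] at hd
      exact hd
    have hne : Nat.card ↥(N ⊓ Subgroup.normalizer ((P : Subgroup G) : Set G)) ≠ p := by
      intro h
      have hPLeq : (P : Subgroup G) = N ⊓ Subgroup.normalizer ((P : Subgroup G) : Set G) :=
        Subgroup.eq_of_le_of_card_ge hPL (by rw [h, hPc])
      apply hyC'
      rw [hPLeq]
      exact Subgroup.mem_inf.mpr ⟨y.2, hyN'⟩
    have hLpq : Nat.card ↥(N ⊓ Subgroup.normalizer ((P : Subgroup G) : Set G)) = p * q := by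
      generalize Nat.card ↥(N ⊓ Subgroup.normalizer ((P : Subgroup G) : Set G)) = l at *
      obtain ⟨m, rfl⟩ := hpL
      have hm : m ∣ q := (Nat.mul_dvd_mul_iff_left hp.out.pos).mp hLcard
      rcases (Nat.dvd_prime hq).mp hm with rfl | rfl
      · exact absurd (mul_one p) hne
      · rfl
    have hLeq : N ⊓ Subgroup.normalizer ((P : Subgroup G) : Set G) =
        Subgroup.normalizer ((P : Subgroup G) : Set G) :=
      Subgroup.eq_of_le_of_card_ge inf_le_right (by rw [hLpq, hnorm])
    rw [← hLeq]; exact inf_le_left

end sylow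

end Cfsg.Agent.Lib.Helper7_Simple2
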