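/-
helper7: the automorphism group of the point-block graph of a Steiner system S(3, 6, 22) contains
a simple subgroup of order 44352000 (the even automorphisms).
-/
import Mathlib
import Cfsg.Prelude.Def_Sporadic_a
import Cfsg.Prelude.Def_Sporadic
import Cfsg.Agent.S0414
import Cfsg.Agent.S0428
import Cfsg.Agent.S0430
import Cfsg.Agent.Lib.Helper41_HSaut
import Cfsg.Agent.Lib.Helper7_HSmodel
import Cfsg.Agent.Lib.Helper7_Rank3Simple

set_option autoImplicit false
set_option linter.unusedSectionVars false
set_option linter.unusedVariables false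

namespace Cfsg.Agent.Lib.Helper7_HSgraph

open Cfsg Cfsg.Agent.Lib.Helper41_HSaut Cfsg.Agent.Lib.Helper7_HSmodel MulAction
open scoped Classical

variable {α : Type*} [Fintype α] [DecidableEq α] {B : Set (Finset α)}

/-- the blocks form a finite type -/
noncomputable local instance fintypeB : Fintype ↥B := Fintype.ofFinite _

/-- a graph automorphism as a permutation of the vertices -/
def toPerm (B : Set (Finset α)) :
    (pointBlockGraph B ≃g pointBlockGraph B) →* Equiv.Perm (Option (α ⊕ ↥B)) where
  toFun f := f.toEquiv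
  map_one' := rfl
  map_mul' _ _ := rfl

/-- the sign of a graph automorphism as a permutation of the 100 vertices -/
noncomputable def chi (B : Set (Finset α)) : (pointBlockGraph B ≃g pointBlockGraph B) →* ℤˣ :=
  Equiv.Perm.sign.comp (toPerm B)

/-- an odd automorphism fixing the extra vertex -/
theorem exists_odd (hα : Fintype.card α = 22) (hB : IsSteinerSystem 3 6 B) :
    ∃ t : pointBlockGraph B ≃g pointBlockGraph B, t none = none ∧ chi B t = -1 := by
  have hsrg := Cfsg.Agent.S0428.result hα hB
  obtain ⟨φ⟩ := Cfsg.Agent.S0430.result hsrg Γ0_srg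
  obtain ⟨τ, hτ⟩ := exists_aut_to_none hα hB (φ.symm 0)
  -- an isomorphism onto the model taking the extra vertex to `0`
  set ψ : pointBlockGraph B ≃g Γ0 := τ.symm.trans φ with hψ
  have hψ0 : ψ none = 0 := by
    rw [hψ, RelIso.trans_apply, ← hτ, RelIso.symm_apply_apply, RelIso.apply_symm_apply]
  let t0g : Γ0 ≃g Γ0 := ⟨t0, fun {v w} => t0_adj v w⟩
  refine ⟨(ψ.trans t0g).trans ψ.symm, ?_, ?_⟩
  · rw [RelIso.trans_apply, RelIso.trans_apply, hψ0]
    show ψ.symm (t0 0) = none
    rw [t0_zero, ← hψ0, RelIso.symm_apply_apply]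
  · show Equiv.Perm.sign ((ψ.toEquiv.trans t0).trans ψ.toEquiv.symm) = -1
    rw [Equiv.Perm.sign_trans_trans_symm, sign_t0]

/-- the automorphisms of the system as graph automorphisms, as a homomorphism -/
def Phi (B : Set (Finset α)) :
    ↥(setSystemAut B) →* (pointBlockGraph B ≃g pointBlockGraph B) where
  toFun g := autOfPerm g
  map_one' := by
    apply RelIso.ext
    rintro (_ | a | b)
    · rfl
    · rfl
    · show some (Sum.inr (blockEquiv _ _ b)) = some (Sum.inr b)
      congr 2
      apply Subtype.ext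
      rw [blockEquiv_coe]
      simp
  map_mul' g g' := by
    apply RelIso.ext
    rintro (_ | a | b)
    · rfl
    · rfl
    · show some (Sum.inr (blockEquiv _ _ b)) =
        some (Sum.inr (blockEquiv _ _ (blockEquiv _ _ b)))
      congr 2
      apply Subtype.ext
      rw [blockEquiv_coe, blockEquiv_coe, blockEquiv_coe, Finset.image_image]
      rfl

theorem Phi_apply (g : ↥(setSystemAut B)) : Phi B g = autOfPerm g := rfl

theorem Phi_injective : Function.Injective (Phi B) := autOfPerm_injective

theorem Phi_none (g : ↥(setSystemAut B)) : Phi B g none = none := rfl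

theorem Phi_pt (g : ↥(setSystemAut B)) (a : α) :
    Phi B g (some (Sum.inl a)) = some (Sum.inl (g.1 a)) := rfl

theorem Phi_bl (g : ↥(setSystemAut B)) (b : ↥B) :
    ∃ b' : ↥B, Phi B g (some (Sum.inr b)) = some (Sum.inr b') ∧ b'.1 = b.1.image g.1 :=
  ⟨_, rfl, rfl⟩

theorem exists_Phi (hB : IsSteinerSystem 3 6 B) (φ : pointBlockGraph B ≃g pointBlockGraph B)
    (hφ : φ none = none) : ∃ g : ↥(setSystemAut B), Phi B g = φ :=
  exists_autOfPerm hB φ hφ

/-- the sign character on the automorphism group of the system -/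
noncomputable def psi (B : Set (Finset α)) : ↥(setSystemAut B) →* ℤˣ := (chi B).comp (Phi B)

theorem psi_apply (g : ↥(setSystemAut B)) : psi B g = chi B (Phi B g) := rfl

theorem exists_psi_neg (hα : Fintype.card α = 22) (hB : IsSteinerSystem 3 6 B) :
    ∃ g : ↥(setSystemAut B), psi B g = -1 := by
  obtain ⟨t, ht, hodd⟩ := exists_odd hα hB
  obtain ⟨g, hg⟩ := exists_Phi hB t ht
  exact ⟨g, by rw [psi_apply, hg, hodd]⟩

theorem card_units_int : Nat.card ℤˣ = 2 := by
  rw [Nat.card_eq_fintype_card]; rfl

theorem psi_ker_index (hα : Fintype.card α = 22) (hB : IsSteinerSystem 3 6 B) :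
    (psi B).ker.index = 2 := by
  rw [Subgroup.index_ker]
  have hsurj : Function.Surjective (psi B) := by
    intro u
    rcases Int.units_eq_one_or u with rfl | rfl
    · exact ⟨1, map_one _⟩
    · exact exists_psi_neg hα hB
  rw [MonoidHom.range_eq_top.mpr hsurj, Subgroup.card_top, card_units_int]

/-- the kernel of the sign character is the simple subgroup of index 2 -/
theorem psi_ker_simple (hα : Fintype.card α = 22) (hB : IsSteinerSystem 3 6 B) :
    IsSimpleGroup (psi B).ker ∧ Nat.card (psi B).ker = 443520 := by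
  obtain ⟨hcard, -, K0, hidx, hsimple, hK0card⟩ := Cfsg.Agent.S0414.result hα hB
  have : Finite ↥(setSystemAut B) := Nat.finite_of_card_ne_zero (by rw [hcard]; norm_num)
  -- the simple group lies in the kernel
  have hle : K0 ≤ (psi B).ker := by
    have hnorm : ((psi B).comp K0.subtype).ker.Normal := inferInstance
    rcases hsimple.eq_bot_or_eq_top_of_normal _ hnorm with h | h
    · exfalso
      have hinj : Function.Injective ((psi B).comp K0.subtype) :=
        (MonoidHom.ker_eq_bot_iff _).mp h
      have := Nat.card_le_card_of_injective _ hinj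
      rw [hK0card, card_units_int] at this
      omega
    · intro k hk
      have : (⟨k, hk⟩ : K0) ∈ ((psi B).comp K0.subtype).ker := by rw [h]; trivial
      exact this
  have hcardker : Nat.card (psi B).ker = 443520 := by
    have h1 := Subgroup.card_mul_index (psi B).ker
    rw [psi_ker_index hα hB, hcard] at h1
    omega
  have heq : K0 = (psi B).ker :=
    Subgroup.eq_of_le_of_card_ge hle (by rw [hcardker, hK0card])
  rw [← heq]
  exact ⟨hsimple, hK0card⟩

/-! ### the group of even automorphisms -/

/-- the even automorphisms of the graph -/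
noncomputable def HSgroup (B : Set (Finset α)) :
    Subgroup (pointBlockGraph B ≃g pointBlockGraph B) := (chi B).ker

theorem mem_HSgroup {f : pointBlockGraph B ≃g pointBlockGraph B} :
    f ∈ HSgroup B ↔ chi B f = 1 := MonoidHom.mem_ker

/-- the isomorphism from the kernel of the sign character onto the point stabiliser -/
noncomputable def stabHom (B : Set (Finset α)) :
    ↥(psi B).ker →* ↥(stabilizer ↥(HSgroup B) (none : Option (α ⊕ ↥B))) :=
  (((Phi B).comp (psi B).ker.subtype).codRestrict (HSgroup B)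
    (fun g => mem_HSgroup.mpr (MonoidHom.mem_ker.mp g.2))).codRestrict _
    (fun g => by
      rw [mem_stabilizer_iff]
      rfl)

theorem stabHom_smul (g : ↥(psi B).ker) (x : Option (α ⊕ ↥B)) :
    stabHom B g • x = Phi B g.1 x := rfl

theorem stabHom_bijective (hB : IsSteinerSystem 3 6 B) : Function.Bijective (stabHom B) := by
  constructor
  · intro g g' h
    apply Subtype.ext
    apply Phi_injective
    have := congrArg (fun s : ↥(stabilizer ↥(HSgroup B) (none : Option (α ⊕ ↥B))) => s.1.1) h
    exact this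
  · rintro ⟨⟨φ, hφ⟩, hs⟩
    have hnone : φ none = none := by
      rw [mem_stabilizer_iff] at hs
      exact hs
    obtain ⟨g, hg⟩ := exists_Phi hB φ hnone
    have hgker : g ∈ (psi B).ker := by
      rw [MonoidHom.mem_ker, psi_apply, hg]
      exact mem_HSgroup.mp hφ
    refine ⟨⟨g, hgker⟩, ?_⟩
    apply Subtype.ext
    apply Subtype.ext
    exact hg

theorem stab_simple (hα : Fintype.card α = 22) (hB : IsSteinerSystem 3 6 B) :
    IsSimpleGroup ↥(stabilizer ↥(HSgroup B) (none : Option (α ⊕ ↥B))) := by
  have := (psi_ker_simple hα hB).1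
  exact (MulEquiv.ofBijective (stabHom B) (stabHom_bijective hB)).symm.isSimpleGroup

theorem stab_card (hα : Fintype.card α = 22) (hB : IsSteinerSystem 3 6 B) :
    Nat.card ↥(stabilizer ↥(HSgroup B) (none : Option (α ⊕ ↥B))) = 443520 := by
  rw [← (psi_ker_simple hα hB).2]
  exact (Nat.card_congr (MulEquiv.ofBijective (stabHom B) (stabHom_bijective hB)).toEquiv).symm

/-- every element of the point stabiliser comes from the kernel of the sign character -/
theorem exists_stabHom (hB : IsSteinerSystem 3 6 B)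
    (s : ↥(stabilizer ↥(HSgroup B) (none : Option (α ⊕ ↥B)))) :
    ∃ g : ↥(psi B).ker, stabHom B g = s := (stabHom_bijective hB).2 s

/-- the even automorphisms are transitive on the vertices -/
theorem HS_pretransitive (hα : Fintype.card α = 22) (hB : IsSteinerSystem 3 6 B) :
    IsPretransitive ↥(HSgroup B) (Option (α ⊕ ↥B)) := by
  obtain ⟨t, ht, hodd⟩ := exists_odd hα hB
  have key : ∀ y : Option (α ⊕ ↥B), ∃ h : ↥(HSgroup B), h • (none : Option (α ⊕ ↥B)) = y := by
    intro y
    obtain ⟨τ, hτ⟩ := exists_aut_to_none hα hB y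
    have hτ' : τ⁻¹ none = y := by
      rw [← hτ]
      exact τ.symm_apply_apply y
    rcases Int.units_eq_one_or (chi B τ) with h1 | h1
    · refine ⟨⟨τ⁻¹, mem_HSgroup.mpr (by rw [map_inv, h1, inv_one])⟩, hτ'⟩
    · refine ⟨⟨τ⁻¹ * t, mem_HSgroup.mpr (by rw [map_mul, map_inv, h1, hodd]; rfl)⟩, ?_⟩
      show τ⁻¹ (t none) = y
      rw [ht, hτ']
  constructor
  intro x y
  obtain ⟨hx, rfl⟩ := key x
  obtain ⟨hy, rfl⟩ := key y
  exact ⟨hy * hx⁻¹, by rw [mul_smul, inv_smul_smul]⟩

/-! ### the suborbits -/

/-- the kernel of the sign character is transitive on the points -/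
theorem ker_transitive_pts (hα : Fintype.card α = 22) (hB : IsSteinerSystem 3 6 B) (a a' : α) :
    ∃ g : ↥(psi B).ker, g.1.1 a = a' := by
  have h3 := Cfsg.Agent.Lib.Helper41_S22d.three_transitive hα hB
  have h2 : IsMultiplyPretransitive ↥(setSystemAut B) α 2 :=
    isMultiplyPretransitive_of_le (n := 3) (by norm_num)
      (by rw [Nat.card_eq_fintype_card, hα]; norm_num)
  have hprim : IsPreprimitive ↥(setSystemAut B) α := isPreprimitive_of_is_two_pretransitive h2
  have hfix : fixedPoints ↥(psi B).ker α ≠ Set.univ := by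
    intro hfix
    have hbot : (psi B).ker = ⊥ := by
      rw [Subgroup.eq_bot_iff_forall]
      intro g hg
      apply Subtype.ext
      ext x
      have hx : x ∈ fixedPoints ↥(psi B).ker α := by rw [hfix]; trivial
      exact hx ⟨g, hg⟩
    have := (psi_ker_simple hα hB).2
    rw [hbot, Subgroup.card_bot] at this
    omega
  have := IsQuasiPreprimitive.isPretransitive_of_normal (G := ↥(setSystemAut B)) (X := α) hfix
  obtain ⟨g, hg⟩ := exists_smul_eq ↥(psi B).ker a a'
  exact ⟨g, hg⟩

/-- the automorphism group of the system is transitive on the blocks -/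
theorem aut_transitive_blocks (hα : Fintype.card α = 22) (hB : IsSteinerSystem 3 6 B)
    {b b' : Finset α} (hb : b ∈ B) (hb' : b' ∈ B) :
    ∃ g : ↥(setSystemAut B), b.image g.1 = b' := by
  obtain ⟨x₀, x₁, x₂, hx0, hx1, hx2, h01, h02, h12⟩ :=
    Finset.two_lt_card_iff.mp (by rw [hB.1 b hb]; norm_num : 2 < b.card)
  obtain ⟨y₀, y₁, y₂, hy0, hy1, hy2, k01, k02, k12⟩ :=
    Finset.two_lt_card_iff.mp (by rw [hB.1 b' hb']; norm_num : 2 < b'.card)
  obtain ⟨g, hg, h0, h1, h2⟩ :=
    Cfsg.Agent.Lib.Helper41_S22d.exists_aut_three hα hB h01 h02 h12 k01 k02 k12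
  refine ⟨⟨g, hg⟩, ?_⟩
  have himg : b.image g ∈ B := Cfsg.Agent.Lib.Helper41_S22c.image_mem_of_mem_aut hg hb
  apply Cfsg.Agent.Lib.Helper7_SteinerTree.block_eq_of_inter hB himg hb'
  have hsub : ({y₀, y₁, y₂} : Finset α) ⊆ b.image g ∩ b' := by
    intro y hy
    simp only [Finset.mem_insert, Finset.mem_singleton] at hy
    rw [Finset.mem_inter]
    rcases hy with rfl | rfl | rfl
    · exact ⟨h0 ▸ Finset.mem_image_of_mem g hx0, hy0⟩
    · exact ⟨h1 ▸ Finset.mem_image_of_mem g hx1, hy1⟩
    · exact ⟨h2 ▸ Finset.mem_image_of_mem g hx2, hy2⟩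
  calc 3 = ({y₀, y₁, y₂} : Finset α).card := by
        rw [Finset.card_insert_of_notMem, Finset.card_insert_of_notMem, Finset.card_singleton]
        · simpa using k12
        · simp only [Finset.mem_insert, Finset.mem_singleton, not_or]
          exact ⟨k01, k02⟩
    _ ≤ (b.image g ∩ b').card := Finset.card_le_card hsub

theorem card_blocks (hα : Fintype.card α = 22) (hB : IsSteinerSystem 3 6 B) :
    Fintype.card ↥B = 77 := by
  have hsrg := Cfsg.Agent.S0428.result hα hB
  have h := hsrg.card
  rw [Fintype.card_option, Fintype.card_sum, hα] at h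
  omega

/-- the kernel of the sign character is transitive on the blocks -/
theorem ker_transitive_blocks (hα : Fintype.card α = 22) (hB : IsSteinerSystem 3 6 B)
    {b b' : Finset α} (hb : b ∈ B) (hb' : b' ∈ B) :
    ∃ g : ↥(psi B).ker, b.image g.1.1 = b' := by
  obtain ⟨hcard, -, -⟩ := Cfsg.Agent.S0414.result hα hB
  have : Finite ↥(setSystemAut B) := Nat.finite_of_card_ne_zero (by rw [hcard]; norm_num)
  -- the stabiliser of the block `b` in the automorphism group
  let T : Subgroup ↥(setSystemAut B) :=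
    { carrier := {g | b.image g.1 = b}
      one_mem' := by simp
      mul_mem' := by
        intro g g' hg hg'
        show b.image (g.1 * g'.1) = b
        rw [Equiv.Perm.coe_mul, ← Finset.image_image, hg', hg]
      inv_mem' := by
        intro g hg
        show b.image ((g.1)⁻¹ : Equiv.Perm α) = b
        conv_lhs => rw [← hg]
        rw [Finset.image_image]
        simp }
  -- its index is the number of blocks
  have hT : Nat.card T * 77 = 887040 := by
    rw [← hcard, ← Subgroup.card_mul_index T]
    congr 1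
    rw [Subgroup.index, ← card_blocks hα hB, ← Nat.card_eq_fintype_card]
    symm
    apply Nat.card_congr
    refine Equiv.ofBijective (Quotient.lift (fun g : ↥(setSystemAut B) =>
      (⟨b.image g.1, Cfsg.Agent.Lib.Helper41_S22c.image_mem_of_mem_aut g.2 hb⟩ : ↥B)) ?_) ⟨?_, ?_⟩
    · intro g g' hgg'
      have h1 : g⁻¹ * g' ∈ T := QuotientGroup.leftRel_apply.mp hgg'
      apply Subtype.ext
      show b.image g.1 = b.image g'.1
      have h2 : b.image (g.1⁻¹ * g'.1 : Equiv.Perm α) = b := h1
      conv_lhs => rw [← h2]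
      rw [Finset.image_image]
      congr 1
      ext x
      simp
    · intro q q'
      refine Quotient.inductionOn₂ q q' ?_
      intro g g' h
      apply Quotient.sound
      apply QuotientGroup.leftRel_apply.mpr
      show b.image (g.1⁻¹ * g'.1 : Equiv.Perm α) = b
      have h1 : b.image g.1 = b.image g'.1 := congrArg Subtype.val h
      rw [Equiv.Perm.coe_mul, ← Finset.image_image, ← h1, Finset.image_image]
      simp
    · intro c
      obtain ⟨g, hg⟩ := aut_transitive_blocks hα hB hb c.2
      exact ⟨Quotient.mk _ g, Subtype.ext hg⟩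
  -- the block stabiliser is not contained in the kernel
  have hnot : ¬ T ≤ (psi B).ker := by
    intro hle
    have h1 := Subgroup.card_dvd_of_le hle
    rw [(psi_ker_simple hα hB).2] at h1
    have h2 : Nat.card T = 11520 := by omega
    rw [h2] at h1
    omega
  obtain ⟨c, hcT, hcker⟩ := SetLike.not_le_iff_exists.mp hnot
  have hc : psi B c = -1 := by
    rcases Int.units_eq_one_or (psi B c) with h | h
    · exact absurd (MonoidHom.mem_ker.mpr h) hcker
    · exact h
  obtain ⟨g, hg⟩ := aut_transitive_blocks hα hB hb hb'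
  rcases Int.units_eq_one_or (psi B g) with h | h
  · exact ⟨⟨g, MonoidHom.mem_ker.mpr h⟩, hg⟩
  · refine ⟨⟨g * c, MonoidHom.mem_ker.mpr (by rw [map_mul, h, hc]; rfl)⟩, ?_⟩
    show b.image (g.1 * c.1 : Equiv.Perm α) = b'
    have hc' : b.image c.1 = b := hcT
    rw [Equiv.Perm.coe_mul, ← Finset.image_image, hc', hg]

theorem orbit_pt (hα : Fintype.card α = 22) (hB : IsSteinerSystem 3 6 B) (a₀ : α) :
    (orbit ↥(stabilizer ↥(HSgroup B) (none : Option (α ⊕ ↥B)))
      (some (Sum.inl a₀) : Option (α ⊕ ↥B))).ncard = 22 := by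
  have h : orbit ↥(stabilizer ↥(HSgroup B) (none : Option (α ⊕ ↥B)))
      (some (Sum.inl a₀) : Option (α ⊕ ↥B)) =
      (fun a : α => (some (Sum.inl a) : Option (α ⊕ ↥B))) '' Set.univ := by
    apply Set.eq_of_subset_of_subset
    · rintro _ ⟨s, rfl⟩
      obtain ⟨g, rfl⟩ := exists_stabHom hB s
      exact ⟨g.1.1 a₀, trivial, rfl⟩
    · rintro _ ⟨a, -, rfl⟩
      obtain ⟨g, hg⟩ := ker_transitive_pts hα hB a₀ a
      refine ⟨stabHom B g, ?_⟩
      show Phi B g.1 (some (Sum.inl a₀)) = some (Sum.inl a)
      rw [Phi_pt, hg]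
  rw [h, Set.ncard_image_of_injective _ (fun a a' haa' => Sum.inl.inj (Option.some.inj haa')),
    Set.ncard_univ, Nat.card_eq_fintype_card, hα]

theorem orbit_bl (hα : Fintype.card α = 22) (hB : IsSteinerSystem 3 6 B) (b₀ : ↥B) :
    (orbit ↥(stabilizer ↥(HSgroup B) (none : Option (α ⊕ ↥B)))
      (some (Sum.inr b₀) : Option (α ⊕ ↥B))).ncard = 77 := by
  have h : orbit ↥(stabilizer ↥(HSgroup B) (none : Option (α ⊕ ↥B)))
      (some (Sum.inr b₀) : Option (α ⊕ ↥B)) =
      (fun b : ↥B => (some (Sum.inr b) : Option (α ⊕ ↥B))) '' Set.univ := by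
    apply Set.eq_of_subset_of_subset
    · rintro _ ⟨s, rfl⟩
      obtain ⟨g, rfl⟩ := exists_stabHom hB s
      obtain ⟨b', hb', -⟩ := Phi_bl g.1 b₀
      exact ⟨b', trivial, hb'.symm⟩
    · rintro _ ⟨b, -, rfl⟩
      obtain ⟨g, hg⟩ := ker_transitive_blocks hα hB b₀.2 b.2
      refine ⟨stabHom B g, ?_⟩
      obtain ⟨b', hb', hb'img⟩ := Phi_bl g.1 b₀
      show Phi B g.1 (some (Sum.inr b₀)) = some (Sum.inr b)
      rw [hb']
      congr 2
      apply Subtype.ext
      rw [hb'img, hg]
  rw [h, Set.ncard_image_of_injective _ (fun b b' hbb' => Sum.inr.inj (Option.some.inj hbb')),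
    Set.ncard_univ, Nat.card_eq_fintype_card, card_blocks hα hB]

/-- The even automorphisms of the Higman–Sims graph form a simple group of order 44352000. -/
theorem isHS (hα : Fintype.card α = 22) (hB : IsSteinerSystem 3 6 B) :
    IsHS ↥(HSgroup B) := by
  have hsrg := Cfsg.Agent.S0428.result hα hB
  have hV : Nat.card (Option (α ⊕ ↥B)) = 100 := by
    rw [Nat.card_eq_fintype_card]; exact hsrg.card
  have hfinG : Finite (pointBlockGraph B ≃g pointBlockGraph B) :=
    Finite.of_injective (fun φ => (φ : Option (α ⊕ ↥B) → Option (α ⊕ ↥B)))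
      DFunLike.coe_injective
  have htrans := HS_pretransitive hα hB
  obtain ⟨a₀⟩ : Nonempty α := by
    rw [← Fintype.card_pos_iff, hα]; norm_num
  obtain ⟨b₀⟩ : Nonempty ↥B := by
    rw [← Fintype.card_pos_iff, card_blocks hα hB]; norm_num
  refine ⟨?_, ?_⟩
  · exact Cfsg.Agent.Lib.Helper7_Rank3Simple.isSimpleGroup (H := ↥(HSgroup B))
      (none : Option (α ⊕ ↥B)) (some (Sum.inl a₀)) (some (Sum.inr b₀)) hV
      (orbit_pt hα hB a₀) (orbit_bl hα hB b₀) (stab_simple hα hB)
  · rw [Cfsg.Agent.Lib.Helper7_Rank3Simple.card_eq (H := ↥(HSgroup B))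
      (none : Option (α ⊕ ↥B)) (some (Sum.inl a₀)) (some (Sum.inr b₀)) hV
      (orbit_pt hα hB a₀) (orbit_bl hα hB b₀), stab_card hα hB]

end Cfsg.Agent.Lib.Helper7_HSgraph
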