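/-
helper7: a strongly regular graph with 100 vertices and valency 22 has parameters (0, 6).
Integrality via traces modulo 3 and 23 (Frobenius / nilpotency), no spectral theory.
-/
import Mathlib

set_option autoImplicit false

namespace Cfsg.Agent.Lib.Helper7_SRG100

open SimpleGraph Matrix

variable {V : Type*} [Fintype V] [DecidableEq V] {Γ : SimpleGraph V} [DecidableRel Γ.Adj]

/-- the trace of `A * C` vanishes (`C` the adjacency matrix of the complement) -/
theorem trace_adj_mul_compl (R : Type*) [CommRing R] :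
    trace (Γ.adjMatrix R * Γᶜ.adjMatrix R) = 0 := by
  rw [trace]
  apply Finset.sum_eq_zero
  intro v _
  rw [diag_apply, mul_apply]
  apply Finset.sum_eq_zero
  intro w _
  rw [adjMatrix_apply, adjMatrix_apply]
  by_cases h : Γ.Adj v w
  · have : ¬ Γᶜ.Adj w v := by
      rw [compl_adj]
      exact fun h' => h'.2 h.symm
    rw [if_neg this, mul_zero]
  · rw [if_neg h, zero_mul]

theorem trace_compl (R : Type*) [CommRing R] : trace (Γᶜ.adjMatrix R) = 0 :=
  trace_adjMatrix _ _

/-- the trace of `A ^ 2` -/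
theorem trace_sq (R : Type*) [CommRing R] {n k ℓ μ : ℕ} (h : Γ.IsSRGWith n k ℓ μ) :
    trace (Γ.adjMatrix R ^ 2) = (n : R) * k := by
  rw [h.matrix_eq, trace_add, trace_add, trace_smul, trace_smul, trace_smul, trace_adjMatrix,
    trace_compl, trace_one, h.card]
  simp [mul_comm]

/-- the trace of `A ^ 3` -/
theorem trace_cube (R : Type*) [CommRing R] {n k ℓ μ : ℕ} (h : Γ.IsSRGWith n k ℓ μ) :
    trace (Γ.adjMatrix R ^ 3) = (ℓ : R) * ((n : R) * k) := by
  have h3 : Γ.adjMatrix R ^ 3 = Γ.adjMatrix R * Γ.adjMatrix R ^ 2 := by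
    rw [pow_succ' _ 2]
  have h2 := trace_sq R h
  rw [h3]
  conv_lhs => rw [h.matrix_eq]
  rw [mul_add, mul_add, trace_add, trace_add, mul_smul_comm, mul_smul_comm, mul_smul_comm,
    trace_smul, trace_smul, trace_smul, mul_one, trace_adjMatrix, trace_adj_mul_compl,
    ← pow_two, h2]
  simp

theorem aux3a : ((100 : ℕ) : ZMod 3) * ((22 : ℕ) : ZMod 3) = 1 := by decide

theorem aux3b : (0 : ZMod 3) ^ 3 = 0 := by decide

theorem aux23a : ((23 : ℕ) : ZMod 23) = 0 := by decide

theorem aux23b : ¬ ((100 : ℕ) : ZMod 23) = 0 := by decide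

/-- `ℓ` is divisible by 3 -/
theorem three_dvd {ℓ μ : ℕ} (h : Γ.IsSRGWith 100 22 ℓ μ) : 3 ∣ ℓ := by
  have : Fact (Nat.Prime 3) := ⟨by norm_num⟩
  have h1 := ZMod.trace_pow_card (Γ.adjMatrix (ZMod 3))
  rw [trace_cube (ZMod 3) h, trace_adjMatrix] at h1
  rw [aux3a, mul_one] at h1
  have h3 : (ℓ : ZMod 3) = 0 := by
    rw [h1]; exact aux3b
  exact (ZMod.natCast_eq_zero_iff ℓ 3).mp h3

/-- the case `(21, 0)` is impossible -/
theorem not_21_0 (h : Γ.IsSRGWith 100 22 21 0) : False := by
  have : Fact (Nat.Prime 23) := ⟨by norm_num⟩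
  set A := Γ.adjMatrix (ZMod 23) with hA
  have hsq : A ^ 2 = (22 : ℕ) • (1 : Matrix V V (ZMod 23)) + (21 : ℕ) • A := by
    have := h.matrix_eq (α := ZMod 23)
    rw [zero_smul, add_zero] at this
    exact this
  have hF : (A + 1) ^ 2 = 0 := by
    have e : (A + 1) ^ 2 = A ^ 2 + (2 : ℕ) • A + 1 := by
      rw [pow_two, pow_two, add_mul, mul_add, mul_add, mul_one, one_mul, one_mul, two_smul]
      abel
    rw [e, hsq]
    have key : ∀ M N : Matrix V V (ZMod 23),
        (22 : ℕ) • M + (21 : ℕ) • N + (2 : ℕ) • N + M = (23 : ℕ) • M + (23 : ℕ) • N := by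
      intro M N; abel
    have := key 1 A
    rw [this]
    have h23 : ∀ M : Matrix V V (ZMod 23), (23 : ℕ) • M = 0 := by
      intro M
      ext i j
      rw [Matrix.smul_apply, Matrix.zero_apply, nsmul_eq_mul]
      rw [aux23a, zero_mul]
    rw [h23, h23, add_zero]
  have hnil : IsNilpotent (A + 1) := ⟨2, hF⟩
  have ht := (Matrix.isNilpotent_trace_of_isNilpotent hnil).eq_zero
  rw [trace_add, hA, trace_adjMatrix, trace_one, h.card, zero_add] at ht
  exact aux23b ht

/-- the parameters of a strongly regular graph with 100 vertices and valency 22 -/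
theorem params {ℓ μ : ℕ} (h : Γ.IsSRGWith 100 22 ℓ μ) : ℓ = 0 ∧ μ = 6 := by
  have hp := h.param_eq Γ (by norm_num)
  have h3 := three_dvd h
  have hlt : ℓ < 22 := by
    obtain ⟨v⟩ : Nonempty V := by
      rw [← Fintype.card_pos_iff, h.card]; norm_num
    have hdeg : Γ.degree v = 22 := h.regular v
    have hpos : 0 < Γ.degree v := by rw [hdeg]; norm_num
    obtain ⟨w, hw⟩ := (Γ.degree_pos_iff_exists_adj v).mp hpos
    have := hw.card_commonNeighbors_lt_degree
    rw [h.of_adj v w hw, hdeg] at this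
    exact this
  by_cases h21 : ℓ = 21
  · subst h21
    have hμ : μ = 0 := by omega
    subst hμ
    exact (not_21_0 h).elim
  · obtain ⟨c, rfl⟩ := h3
    omega

end Cfsg.Agent.Lib.Helper7_SRG100
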