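/-
helper7: the orbital graph of a transitive group of degree 100 with suborbits 1, 22, 77 is
strongly regular with parameters (100, 22, 0, 6), and the group acts on it by automorphisms.
-/
import Mathlib
import Cfsg.Agent.Lib.Helper7_Rank3Simple
import Cfsg.Agent.Lib.Helper7_SRG100

set_option autoImplicit false
set_option linter.unusedSectionVars false
set_option linter.unusedVariables false

namespace Cfsg.Agent.Lib.Helper7_OrbitalGraph

open MulAction Cfsg.Agent.Lib.Helper7_Rank3Simple

variable (H : Type*) {V : Type*} [Group H] [MulAction H V]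

/-- the orbital relation of the pair `(x, a)` -/
def orb (x a y z : V) : Prop := ∃ g : H, g • x = y ∧ g • a = z

variable {H}

theorem orb_smul {x a y z : V} (k : H) (h : orb H x a y z) : orb H x a (k • y) (k • z) := by
  obtain ⟨g, rfl, rfl⟩ := h
  exact ⟨k * g, mul_smul _ _ _, mul_smul _ _ _⟩

theorem orb_smul_iff {x a y z : V} (k : H) : orb H x a (k • y) (k • z) ↔ orb H x a y z := by
  constructor
  · intro h
    have := orb_smul k⁻¹ h
    rwa [inv_smul_smul, inv_smul_smul] at this
  · exact orb_smul k

theorem orb_base_iff {x a z : V} : orb H x a x z ↔ z ∈ orbit (stabilizer H x) a := by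
  constructor
  · rintro ⟨g, hg, rfl⟩
    exact ⟨⟨g, hg⟩, rfl⟩
  · rintro ⟨s, rfl⟩
    exact ⟨s.1, s.2, rfl⟩

/-- two pairs in the same orbital are conjugate -/
theorem orb_trans {x a y z y' z' : V} (h : orb H x a y z) (h' : orb H x a y' z') :
    ∃ g : H, g • y = y' ∧ g • z = z' := by
  obtain ⟨g, rfl, rfl⟩ := h
  obtain ⟨g', rfl, rfl⟩ := h'
  exact ⟨g' * g⁻¹, by rw [mul_smul, inv_smul_smul], by rw [mul_smul, inv_smul_smul]⟩

section main

variable [Fintype V] in
/-- out-neighbours -/
noncomputable def outN (x a y : V) : Finset V :=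
  @Finset.filter _ (fun z => orb H x a y z) (Classical.decPred _) Finset.univ

variable [Fintype V] in
/-- in-neighbours -/
noncomputable def inN (x a z : V) : Finset V :=
  @Finset.filter _ (fun y => orb H x a y z) (Classical.decPred _) Finset.univ


variable [Finite H] [Fintype V] [DecidableEq V] [IsPretransitive H V] (x a b : V)
  (hV : Nat.card V = 100)
  (ha : (orbit (stabilizer H x) a).ncard = 22)
  (hb : (orbit (stabilizer H x) b).ncard = 77)

include hV ha hb

theorem orb_irrefl (y : V) : ¬ orb H x a y y := by
  rintro ⟨g, h1, h2⟩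
  have hxa : x = a := smul_left_cancel g (h1.trans h2.symm)
  apply x_notMem_orbit_a x a b hV ha hb
  rw [hxa]
  exact mem_orbit_self _

omit hV ha hb in
theorem mem_outN {y z : V} : z ∈ outN (H := H) x a y ↔ orb H x a y z := by
  unfold outN
  exact (@Finset.mem_filter _ _ (Classical.decPred _) _ _).trans
    ⟨fun h => h.2, fun h => ⟨Finset.mem_univ _, h⟩⟩

omit hV ha hb in
theorem mem_inN {y z : V} : y ∈ inN (H := H) x a z ↔ orb H x a y z := by
  unfold inN
  exact (@Finset.mem_filter _ _ (Classical.decPred _) _ _).trans
    ⟨fun h => h.2, fun h => ⟨Finset.mem_univ _, h⟩⟩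

omit hV ha hb in
theorem card_outN_smul (g : H) (y : V) :
    (outN (H := H) x a (g • y)).card = (outN (H := H) x a y).card := by
  symm
  apply Finset.card_bij (fun z _ => g • z)
  · intro z hz
    rw [mem_outN] at hz ⊢
    exact orb_smul g hz
  · intro z _ z' _ h
    exact smul_left_cancel g h
  · intro z hz
    rw [mem_outN] at hz
    refine ⟨g⁻¹ • z, ?_, smul_inv_smul g z⟩
    rw [mem_outN]
    have := orb_smul g⁻¹ hz
    rwa [inv_smul_smul] at this

omit hV ha hb in
theorem card_inN_smul (g : H) (z : V) :
    (inN (H := H) x a (g • z)).card = (inN (H := H) x a z).card := by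
  symm
  apply Finset.card_bij (fun y _ => g • y)
  · intro y hy
    rw [mem_inN] at hy ⊢
    exact orb_smul g hy
  · intro y _ y' _ h
    exact smul_left_cancel g h
  · intro y hy
    rw [mem_inN] at hy
    refine ⟨g⁻¹ • y, ?_, smul_inv_smul g y⟩
    rw [mem_inN]
    have := orb_smul g⁻¹ hy
    rwa [inv_smul_smul] at this

omit hV hb in
theorem card_outN_base : (outN (H := H) x a x).card = 22 := by
  rw [← ha, ← Set.ncard_coe_finset]
  congr 1
  ext z
  rw [Finset.mem_coe, mem_outN, orb_base_iff]

omit hV hb in
theorem card_outN (y : V) : (outN (H := H) x a y).card = 22 := by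
  obtain ⟨g, rfl⟩ := exists_smul_eq H x y
  rw [card_outN_smul, card_outN_base x a ha]

omit hb in
theorem card_inN_base : (inN (H := H) x a x).card = 22 := by
  classical
  have hcardV : Fintype.card V = 100 := by rw [← Nat.card_eq_fintype_card]; exact hV
  have hdc := Finset.sum_card_bipartiteAbove_eq_sum_card_bipartiteBelow
    (s := (Finset.univ : Finset V)) (t := (Finset.univ : Finset V)) (orb H x a)
  have h1 : ∀ y ∈ (Finset.univ : Finset V),
      ((Finset.univ : Finset V).bipartiteAbove (orb H x a) y).card = 22 := by
    intro y _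
    have : (Finset.univ : Finset V).bipartiteAbove (orb H x a) y = outN (H := H) x a y := by
      ext z
      rw [Finset.mem_bipartiteAbove, mem_outN]
      exact ⟨fun h => h.2, fun h => ⟨Finset.mem_univ _, h⟩⟩
    rw [this, card_outN x a ha]
  have h2 : ∀ z ∈ (Finset.univ : Finset V),
      ((Finset.univ : Finset V).bipartiteBelow (orb H x a) z).card
        = (inN (H := H) x a x).card := by
    intro z _
    have : (Finset.univ : Finset V).bipartiteBelow (orb H x a) z = inN (H := H) x a z := by
      ext y
      rw [Finset.mem_bipartiteBelow, mem_inN]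
      exact ⟨fun h => h.2, fun h => ⟨Finset.mem_univ _, h⟩⟩
    rw [this]
    obtain ⟨g, rfl⟩ := exists_smul_eq H x z
    rw [card_inN_smul]
  rw [Finset.sum_congr rfl h1, Finset.sum_congr rfl h2, Finset.sum_const, Finset.sum_const,
    Finset.card_univ, hcardV, smul_eq_mul, smul_eq_mul] at hdc
  omega

/-- the in-neighbours of the base point are its out-neighbours -/
theorem inN_base_eq : (inN (H := H) x a x : Set V) = orbit (stabilizer H x) a := by
  have hinv : ∀ s ∈ stabilizer H x, ∀ y ∈ (inN (H := H) x a x : Set V),
      s • y ∈ (inN (H := H) x a x : Set V) := by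
    intro s hs y hy
    rw [Finset.mem_coe, mem_inN] at hy ⊢
    have := orb_smul s hy
    rwa [mem_stabilizer_iff.mp hs] at this
  have hsub : (inN (H := H) x a x : Set V) ⊆ orbit (stabilizer H x) a := by
    intro y hy
    rcases cover x a b hV ha hb y with h0 | h | h
    · rw [Finset.mem_coe, mem_inN, h0] at hy
      exact absurd hy (orb_irrefl x a b hV ha hb _)
    · exact h
    · exfalso
      have hsub := orbit_subset_of_mem hinv hy h
      have hle := Set.ncard_le_ncard hsub (Finset.finite_toSet _)
      rw [hb, Set.ncard_coe_finset, card_inN_base x a hV ha] at hle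
      omega
  apply Set.eq_of_subset_of_ncard_le hsub _ (Set.toFinite _)
  rw [ha, Set.ncard_coe_finset, card_inN_base x a hV ha]

theorem orb_symm {y z : V} (h : orb H x a y z) : orb H x a z y := by
  obtain ⟨g, rfl⟩ := exists_smul_eq H x y
  have h1 : orb H x a x (g⁻¹ • z) := by
    have := orb_smul g⁻¹ h
    rwa [inv_smul_smul] at this
  have h2 : g⁻¹ • z ∈ (inN (H := H) x a x : Set V) := by
    rw [inN_base_eq x a b hV ha hb]
    exact orb_base_iff.mp h1
  rw [Finset.mem_coe, mem_inN] at h2
  have := orb_smul g h2
  rwa [smul_inv_smul] at this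

/-- a pair of distinct points which is not in the first orbital is in the second -/
theorem orb_b_of_not {y z : V} (hne : y ≠ z) (h : ¬ orb H x a y z) : orb H x b y z := by
  obtain ⟨g, rfl⟩ := exists_smul_eq H x y
  rcases cover x a b hV ha hb (g⁻¹ • z) with h0 | h0 | h0
  · exfalso
    apply hne
    rw [← h0, smul_inv_smul]
  · exfalso
    apply h
    have := orb_smul g (orb_base_iff.mpr h0)
    rwa [smul_inv_smul] at this
  · have := orb_smul g (orb_base_iff.mpr h0)
    rwa [smul_inv_smul] at this

/-- the orbital graph -/
def graph : SimpleGraph V where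
  Adj y z := orb H x a y z
  symm := ⟨fun y z h => orb_symm x a b hV ha hb h⟩
  loopless := ⟨fun y h => orb_irrefl x a b hV ha hb y h⟩

theorem graph_adj {y z : V} : (graph x a b hV ha hb).Adj y z ↔ orb H x a y z := Iff.rfl

/-- the action by automorphisms -/
def toAut : H →* (graph x a b hV ha hb ≃g graph x a b hV ha hb) where
  toFun g :=
    { toEquiv := MulAction.toPerm g
      map_rel_iff' := by
        intro y z
        exact orb_smul_iff g }
  map_one' := by
    ext y
    exact one_smul _ _
  map_mul' g g' := by
    ext y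
    exact mul_smul _ _ _

theorem toAut_apply (g : H) (y : V) : toAut x a b hV ha hb g y = g • y := rfl

theorem toAut_injective [FaithfulSMul H V] : Function.Injective (toAut x a b hV ha hb) := by
  intro g g' h
  apply FaithfulSMul.eq_of_smul_eq_smul (α := V)
  intro y
  have := DFunLike.congr_fun h y
  exact this

open scoped Classical in
theorem card_commonNeighbors_smul (g : H) (y z : V) :
    Fintype.card ((graph x a b hV ha hb).commonNeighbors (g • y) (g • z))
      = Fintype.card ((graph x a b hV ha hb).commonNeighbors y z) := by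
  symm
  apply Fintype.card_congr
  refine Equiv.subtypeEquiv (MulAction.toPerm g) ?_
  intro u
  rw [SimpleGraph.mem_commonNeighbors, SimpleGraph.mem_commonNeighbors]
  show orb H x a y u ∧ orb H x a z u ↔ orb H x a (g • y) (g • u) ∧ orb H x a (g • z) (g • u)
  rw [orb_smul_iff, orb_smul_iff]

open scoped Classical in
/-- the orbital graph is strongly regular -/
theorem isSRG : (graph x a b hV ha hb).IsSRGWith 100 22 0 6 := by
  have hsrg : (graph x a b hV ha hb).IsSRGWith 100 22
      (Fintype.card ((graph x a b hV ha hb).commonNeighbors x a))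
      (Fintype.card ((graph x a b hV ha hb).commonNeighbors x b)) := by
    refine ⟨?_, ?_, ?_, ?_⟩
    · rw [← Nat.card_eq_fintype_card]; exact hV
    · intro v
      rw [← SimpleGraph.card_neighborFinset_eq_degree]
      rw [← card_outN x a ha v]
      congr 1
      ext z
      rw [SimpleGraph.mem_neighborFinset, mem_outN]
      rfl
    · intro v w hvw
      have h0 : orb H x a x a := ⟨1, one_smul _ _, one_smul _ _⟩
      obtain ⟨g, rfl, rfl⟩ := orb_trans h0 hvw
      exact card_commonNeighbors_smul x a b hV ha hb g x a
    · intro v w hne hvw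
      have h0 : orb H x b x b := ⟨1, one_smul _ _, one_smul _ _⟩
      have h1 := orb_b_of_not x a b hV ha hb hne hvw
      obtain ⟨g, rfl, rfl⟩ := orb_trans h0 h1
      exact card_commonNeighbors_smul x a b hV ha hb g x b
  obtain ⟨h1, h2⟩ := Cfsg.Agent.Lib.Helper7_SRG100.params hsrg
  rw [h1, h2] at hsrg
  exact hsrg

end main

end Cfsg.Agent.Lib.Helper7_OrbitalGraph
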