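/-
helper7: two faithful transitive groups of degree 100 with point stabilisers of order 443520 and
suborbits 1, 22, 77 are isomorphic (both are the index-2 subgroup of the automorphism group of
the strongly regular graph with parameters (100, 22, 0, 6)).
-/
import Mathlib
import Cfsg.Agent.Lib.Helper7_OrbitalGraph
import Cfsg.Agent.Lib.Helper7_HSgraph
import Cfsg.Agent.Lib.Helper41_HSloc
import Cfsg.Agent.Lib.Helper41_HSloc2
import Cfsg.Agent.S0430
import Cfsg.Agent.S1586

set_option autoImplicit false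
set_option linter.unusedSectionVars false
set_option linter.unusedVariables false

namespace Cfsg.Agent.Lib.Helper7_HSunique

open MulAction Cfsg Cfsg.Agent.Lib.Helper7_Rank3Simple Cfsg.Agent.Lib.Helper7_OrbitalGraph
  Cfsg.Agent.Lib.Helper7_HSgraph

/-- conjugation by a graph isomorphism -/
def conjIso {W W' : Type*} {Γ : SimpleGraph W} {Γ' : SimpleGraph W'} (φ : Γ ≃g Γ') :
    (Γ ≃g Γ) ≃* (Γ' ≃g Γ') where
  toFun f := (φ.symm.trans f).trans φ
  invFun f := (φ.trans f).trans φ.symm
  left_inv f := by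
    ext y
    simp
  right_inv f := by
    ext y
    simp
  map_mul' f g := by
    ext y
    simp

section pbg

open scoped Classical

variable {α : Type*} [Fintype α] [DecidableEq α] {B : Set (Finset α)}

/-- a subgroup of order 44352000 of the automorphism group is the group of even automorphisms -/
theorem eq_HSgroup_of_card (hα : Fintype.card α = 22) (hB : IsSteinerSystem 3 6 B)
    (K : Subgroup (pointBlockGraph B ≃g pointBlockGraph B)) (hK : Nat.card K = 44352000) :
    K = HSgroup B := by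
  have hAut := Cfsg.Agent.S1586.result hα hB
  have hfin : Finite (pointBlockGraph B ≃g pointBlockGraph B) :=
    Nat.finite_of_card_ne_zero (by rw [hAut]; norm_num)
  obtain ⟨hsimple, hcard⟩ := isHS hα hB
  have hidx : K.index = 2 := by
    have := K.card_mul_index
    rw [hK, hAut] at this
    omega
  haveI : K.Normal := Subgroup.normal_of_index_eq_two hidx
  rcases (inferInstance : (K.subgroupOf (HSgroup B)).Normal).eq_bot_or_eq_top with h | h
  · exfalso
    have h1 := Subgroup.relIndex_dvd_index_of_normal K (HSgroup B)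
    rw [Subgroup.relIndex, h, Subgroup.index_bot, hcard, hidx] at h1
    omega
  · rw [Subgroup.subgroupOf_eq_top] at h
    exact (Subgroup.eq_of_le_of_card_ge h (by rw [hK, hcard])).symm

end pbg

section srg

open scoped Classical

variable {W : Type*} [Fintype W] {Γ : SimpleGraph W}

/-- the automorphism group of the graph has at most one subgroup of order 44352000 -/
theorem unique_sub (hΓ : Γ.IsSRGWith 100 22 0 6) (K K' : Subgroup (Γ ≃g Γ))
    (hK : Nat.card K = 44352000) (hK' : Nat.card K' = 44352000) : K = K' := by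
  have hg := Cfsg.Agent.Lib.Helper41_HSloc.isHS_of_srg Γ hΓ
  obtain ⟨v⟩ : Nonempty W := by
    rw [← Fintype.card_pos_iff, hΓ.card]; norm_num
  have hα := Cfsg.Agent.Lib.Helper41_HSloc2.card_lpts hg v
  have hB := Cfsg.Agent.Lib.Helper41_HSloc2.localSys_steiner hg v
  set c := conjIso (Cfsg.Agent.Lib.Helper41_HSloc2.locIso hg v) with hc
  have h1 : K.map c.toMonoidHom = HSgroup _ := by
    apply eq_HSgroup_of_card hα hB
    rw [← hK]
    exact (Nat.card_congr (K.equivMapOfInjective c.toMonoidHom c.injective).toEquiv).symm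
  have h2 : K'.map c.toMonoidHom = HSgroup _ := by
    apply eq_HSgroup_of_card hα hB
    rw [← hK']
    exact (Nat.card_congr (K'.equivMapOfInjective c.toMonoidHom c.injective).toEquiv).symm
  exact Subgroup.map_injective c.injective (h1.trans h2.symm)

end srg

section main

open scoped Classical

variable {H₁ V₁ H₂ V₂ : Type*} [Group H₁] [MulAction H₁ V₁] [Finite H₁] [Fintype V₁]
  [IsPretransitive H₁ V₁] [FaithfulSMul H₁ V₁]
  [Group H₂] [MulAction H₂ V₂] [Finite H₂] [Fintype V₂]
  [IsPretransitive H₂ V₂] [FaithfulSMul H₂ V₂]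

/-- two groups of Higman–Sims type are isomorphic -/
theorem iso_of_rank3 (x₁ a₁ b₁ : V₁) (hV₁ : Nat.card V₁ = 100)
    (ha₁ : (orbit (stabilizer H₁ x₁) a₁).ncard = 22)
    (hb₁ : (orbit (stabilizer H₁ x₁) b₁).ncard = 77)
    (hs₁ : Nat.card (stabilizer H₁ x₁) = 443520)
    (x₂ a₂ b₂ : V₂) (hV₂ : Nat.card V₂ = 100)
    (ha₂ : (orbit (stabilizer H₂ x₂) a₂).ncard = 22)
    (hb₂ : (orbit (stabilizer H₂ x₂) b₂).ncard = 77)
    (hs₂ : Nat.card (stabilizer H₂ x₂) = 443520) : Nonempty (H₁ ≃* H₂) := by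
  have hsrg₁ := isSRG x₁ a₁ b₁ hV₁ ha₁ hb₁
  have hsrg₂ := isSRG x₂ a₂ b₂ hV₂ ha₂ hb₂
  obtain ⟨ψ⟩ := Cfsg.Agent.S0430.result hsrg₁ hsrg₂
  have hc₁ : Nat.card H₁ = 44352000 := by
    rw [card_eq x₁ a₁ b₁ hV₁ ha₁ hb₁, hs₁]
  have hc₂ : Nat.card H₂ = 44352000 := by
    rw [card_eq x₂ a₂ b₂ hV₂ ha₂ hb₂, hs₂]
  have hinj₁ := toAut_injective x₁ a₁ b₁ hV₁ ha₁ hb₁
  have hinj₂ := toAut_injective x₂ a₂ b₂ hV₂ ha₂ hb₂
  set c := conjIso ψ with hc
  let e₁ := MonoidHom.ofInjective hinj₁
  let e₂ := MonoidHom.ofInjective hinj₂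
  let e₃ := (toAut x₁ a₁ b₁ hV₁ ha₁ hb₁).range.equivMapOfInjective c.toMonoidHom c.injective
  have hK₁ : Nat.card ((toAut x₁ a₁ b₁ hV₁ ha₁ hb₁).range.map c.toMonoidHom) = 44352000 := by
    rw [← hc₁]
    exact (Nat.card_congr (e₁.trans e₃).toEquiv).symm
  have hK₂ : Nat.card (toAut x₂ a₂ b₂ hV₂ ha₂ hb₂).range = 44352000 := by
    rw [← hc₂]
    exact (Nat.card_congr e₂.toEquiv).symm
  have heq := unique_sub hsrg₂ _ _ hK₁ hK₂
  exact ⟨(e₁.trans e₃).trans ((MulEquiv.subgroupCongr heq).trans e₂.symm)⟩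

end main

end Cfsg.Agent.Lib.Helper7_HSunique
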