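import Cfsg.Agent.Lib.Helper92_HSStab
import Cfsg.Agent.Lib.Helper92_RankSimple
import Cfsg.Agent.S1583

/-!
The common stabiliser `G1` of `v1 = (5, 1, 1^22)` and `w1 = -(1, 5, 1^22)` in the automorphism
group of the rank-24 lattice is a simple group of order `44352000`: it acts primitively on the
`100` minimal vectors with inner products `24` and `-24` with `v1` and `w1`, the stabiliser of one
of them being the simple group of the coordinate permutations fixing the two points.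
-/

set_option autoImplicit false
set_option linter.constructorNameAsVariable false
open Cfsg
open scoped Pointwise

namespace Cfsg.Agent.Lib.Helper92_HS

open Cfsg.Agent.Lib.Helper7_M24 Cfsg.Agent.Lib.Helper7_Leech Cfsg.Agent.Lib.Helper92_Monomial
  Cfsg.Agent.Lib.Helper92_Co0Order Cfsg.Agent.Lib.Helper92_MaxN
  Cfsg.Agent.Lib.Helper7_Mono Cfsg.Agent.Lib.Helper92_Co2 Cfsg.Agent.Lib.Helper92_RankSimple
open Cfsg.Agent.Lib.Helper26_Leech (pa pb pa_ne_pb v0 v0_apply dotInt_v0 v0_mem v0_norm)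
open Cfsg.Agent.Lib.Helper26_Co2 (v0L permVec_v0 signFlip_v0)
open Cfsg.Agent.S5546 (Lam vec8 e8)
open MulAction

instance finiteCo0 : Finite ↥Co0 :=
  Nat.finite_of_card_ne_zero (by rw [Cfsg.Agent.S0397.result]; norm_num)

/-- The `100` points. -/
def X1 : Set Lam := {x : ↥leechLattice | sqNorm (x : GolayPt → ℤ) = 32 ∧
  dotInt (v1L : GolayPt → ℤ) (x : GolayPt → ℤ) = 24 ∧
  dotInt (w1L : GolayPt → ℤ) (x : GolayPt → ℤ) = -24}

theorem bpL_mem : bpL ∈ X1 := ⟨bp_norm, dot_v1_bp, dot_w1_bp⟩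

theorem X1_std : X1.ncard = 100 ∧ ∀ x ∈ X1, ∀ x' ∈ X1,
    ∃ g : ↥Co0, g • v1L = v1L ∧ g • w1L = w1L ∧ g • x = x' :=
  Cfsg.Agent.S1583.result v1L w1L v1_norm w1_norm dot_v1_w1

theorem smul_G1 (g : ↥G1) (x : Lam) : g • x = (g : ↥Co0) • x := rfl

theorem orbit_eq : orbit ↥G1 bpL = X1 := by
  ext x
  constructor
  · rintro ⟨g, rfl⟩
    have h1 : (g : ↥Co0) • v1L = v1L := g.2.1
    have h2 : (g : ↥Co0) • w1L = w1L := g.2.2
    refine ⟨?_, ?_, ?_⟩
    · show sqNorm (((g : ↥Co0) • bpL : Lam) : GolayPt → ℤ) = 32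
      rw [sqNorm_smul]; exact bp_norm
    · show dotInt (v1L : GolayPt → ℤ) (((g : ↥Co0) • bpL : Lam) : GolayPt → ℤ) = 24
      have := Cfsg.Agent.S5593.dot_smul (g : ↥Co0) v1L bpL
      rw [h1] at this
      rw [this]; exact dot_v1_bp
    · show dotInt (w1L : GolayPt → ℤ) (((g : ↥Co0) • bpL : Lam) : GolayPt → ℤ) = -24
      have := Cfsg.Agent.S5593.dot_smul (g : ↥Co0) w1L bpL
      rw [h2] at this
      rw [this]; exact dot_w1_bp
  · intro hx
    obtain ⟨g, h1, h2, h3⟩ := X1_std.2 bpL bpL_mem x hx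
    exact ⟨⟨g, h1, h2⟩, h3⟩

theorem orbit_ncard : (orbit ↥G1 bpL).ncard = 100 := by
  rw [orbit_eq]; exact X1_std.1

theorem arith100 : ∀ b1 b2 : Bool,
    (1 + (if b1 = true then 22 else 0) + (if b2 = true then 77 else 0)) ∣ 100 →
    (b1 = true ∧ b2 = true) ∨ (b1 = false ∧ b2 = false) := by
  decide

/-- The statement on the rank-3 action, for the standard vectors. -/
def Rank3 : Prop :=
  {y : ↥leechLattice | y ∈ X1 ∧ dotInt (bpL : GolayPt → ℤ) (y : GolayPt → ℤ) = 8}.ncard = 22 ∧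
  {y : ↥leechLattice | y ∈ X1 ∧ y ≠ bpL ∧
    dotInt (bpL : GolayPt → ℤ) (y : GolayPt → ℤ) ≠ 8}.ncard = 77 ∧
  ∀ y ∈ X1, ∀ y' ∈ X1, y ≠ bpL → y' ≠ bpL →
    (dotInt (bpL : GolayPt → ℤ) (y : GolayPt → ℤ) = 8 ↔
      dotInt (bpL : GolayPt → ℤ) (y' : GolayPt → ℤ) = 8) →
    ∃ g : ↥Co0, g • v1L = v1L ∧ g • w1L = w1L ∧ g • bpL = bpL ∧ g • y = y'

/-- The classes of the points under the stabiliser of `bp`. -/
def Cl3 : Fin 3 → Set Lam
  | 0 => {bpL}
  | 1 => {y : ↥leechLattice | y ∈ X1 ∧ dotInt (bpL : GolayPt → ℤ) (y : GolayPt → ℤ) = 8}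
  | 2 => {y : ↥leechLattice | y ∈ X1 ∧ y ≠ bpL ∧
      dotInt (bpL : GolayPt → ℤ) (y : GolayPt → ℤ) ≠ 8}

theorem dot_bp_bp : dotInt (bpL : GolayPt → ℤ) (bpL : GolayPt → ℤ) = 32 := by
  rw [Cfsg.Agent.Lib.Helper26_HSPair.dot_self]
  exact bp_norm

theorem Cl3_sub (i : Fin 3) : Cl3 i ⊆ X1 := by
  fin_cases i
  · intro y hy
    rw [show y = bpL from hy]; exact bpL_mem
  · intro y hy; exact hy.1
  · intro y hy; exact hy.1

theorem Cl3_cover : X1 ⊆ ⋃ i, Cl3 i := by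
  intro y hy
  rw [Set.mem_iUnion]
  by_cases h1 : y = bpL
  · exact ⟨0, h1⟩
  · by_cases h2 : dotInt (bpL : GolayPt → ℤ) (y : GolayPt → ℤ) = 8
    · exact ⟨1, hy, h2⟩
    · exact ⟨2, hy, h1, h2⟩

theorem Cl3_disj : ∀ i j : Fin 3, i ≠ j → Disjoint (Cl3 i) (Cl3 j) := by
  have h01 : Disjoint (Cl3 0) (Cl3 1) := by
    rw [Set.disjoint_left]
    intro y hy hy'
    rw [show y = bpL from hy] at hy'
    have := hy'.2
    rw [dot_bp_bp] at this
    exact absurd this (by decide)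
  have h02 : Disjoint (Cl3 0) (Cl3 2) := by
    rw [Set.disjoint_left]
    intro y hy hy'
    exact hy'.2.1 hy
  have h12 : Disjoint (Cl3 1) (Cl3 2) := by
    rw [Set.disjoint_left]
    intro y hy hy'
    exact hy'.2.2 hy.2
  intro i j hij
  fin_cases i <;> fin_cases j
  · exact absurd rfl hij
  · exact h01
  · exact h02
  · exact h01.symm
  · exact absurd rfl hij
  · exact h12
  · exact h02.symm
  · exact h12.symm
  · exact absurd rfl hij

theorem Cl3_finite (hR : Rank3) (i : Fin 3) : (Cl3 i).Finite := by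
  fin_cases i
  · exact Set.finite_singleton _
  · exact Set.finite_of_ncard_pos (by
      show 0 < (Cl3 1).ncard
      rw [show (Cl3 1).ncard = 22 from hR.1]; norm_num)
  · exact Set.finite_of_ncard_pos (by
      show 0 < (Cl3 2).ncard
      rw [show (Cl3 2).ncard = 77 from hR.2.1]; norm_num)

/-- Two points of the same class are exchanged by the stabiliser of `bp`. -/
theorem Cl3_homog (hR : Rank3) (i : Fin 3) :
    ∀ y ∈ Cl3 i, ∀ y' ∈ Cl3 i, ∃ h ∈ stabilizer ↥G1 bpL, h • y = y' := by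
  have key : ∀ y ∈ X1, ∀ y' ∈ X1, y ≠ bpL → y' ≠ bpL →
      (dotInt (bpL : GolayPt → ℤ) (y : GolayPt → ℤ) = 8 ↔
        dotInt (bpL : GolayPt → ℤ) (y' : GolayPt → ℤ) = 8) →
      ∃ h ∈ stabilizer ↥G1 bpL, h • y = y' := by
    intro y hy y' hy' h1 h2 h3
    obtain ⟨g, g1, g2, g3, g4⟩ := hR.2.2 y hy y' hy' h1 h2 h3
    exact ⟨⟨g, g1, g2⟩, g3, g4⟩
  fin_cases i
  · intro y hy y' hy'
    refine ⟨1, Subgroup.one_mem _, ?_⟩
    rw [one_smul, show y = bpL from hy, show y' = bpL from hy']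
  · intro y hy y' hy'
    have n1 : y ≠ bpL := by
      intro h
      have := hy.2
      rw [h, dot_bp_bp] at this
      exact absurd this (by decide)
    have n2 : y' ≠ bpL := by
      intro h
      have := hy'.2
      rw [h, dot_bp_bp] at this
      exact absurd this (by decide)
    exact key y hy.1 y' hy'.1 n1 n2 ⟨fun _ => hy'.2, fun _ => hy.2⟩
  · intro y hy y' hy'
    exact key y hy.1 y' hy'.1 hy.2.1 hy'.2.1
      ⟨fun h => absurd h hy.2.2, fun h => absurd h hy'.2.2⟩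

theorem hprim (hR : Rank3) : ∀ O : Set Lam, bpL ∈ O → O ⊆ orbit ↥G1 bpL →
    (∀ h ∈ stabilizer ↥G1 bpL, ∀ y ∈ O, h • y ∈ O) → O.ncard ∣ (orbit ↥G1 bpL).ncard →
    O = {bpL} ∨ O = orbit ↥G1 bpL := by
  intro O h0 hsub hinv hdvd
  rw [orbit_eq] at hsub ⊢
  rw [orbit_ncard] at hdvd
  have hdich : ∀ i, Cl3 i ⊆ O ∨ Disjoint (Cl3 i) O := by
    intro i
    by_cases h : ∃ y ∈ Cl3 i, y ∈ O
    · left
      obtain ⟨y, hy, hyO⟩ := h
      intro y' hy'
      obtain ⟨k, hk, hk'⟩ := Cl3_homog hR i y hy y' hy'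
      rw [← hk']
      exact hinv k hk y hyO
    · right
      rw [Set.disjoint_left]
      intro y hy hyO
      exact h ⟨y, hy, hyO⟩
  obtain ⟨e, he1, he0, hsum⟩ := ncard_of_classes O Cl3 (Cl3_finite hR) Cl3_disj
    (hsub.trans Cl3_cover) hdich
  have e0 : e 0 = true := by
    cases hh : e 0
    · exact absurd h0 (Set.disjoint_left.mp (he0 0 hh) rfl)
    · rfl
  have hsum' : O.ncard = 1 + (if e 1 = true then 22 else 0) + (if e 2 = true then 77 else 0) := by
    rw [hsum, Fin.sum_univ_three, if_pos e0]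
    show ({bpL} : Set Lam).ncard + (if e 1 = true then (Cl3 1).ncard else 0) +
      (if e 2 = true then (Cl3 2).ncard else 0) = _
    rw [Set.ncard_singleton, show (Cl3 1).ncard = 22 from hR.1,
      show (Cl3 2).ncard = 77 from hR.2.1]
  rw [hsum'] at hdvd
  rcases arith100 (e 1) (e 2) hdvd with ⟨h1, h2⟩ | ⟨h1, h2⟩
  · right
    apply Set.Subset.antisymm hsub
    intro y hy
    obtain ⟨i, hi⟩ := Set.mem_iUnion.mp (Cl3_cover hy)
    fin_cases i
    · exact he1 0 e0 hi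
    · exact he1 1 h1 hi
    · exact he1 2 h2 hi
  · left
    apply Set.Subset.antisymm
    · intro y hy
      obtain ⟨i, hi⟩ := Set.mem_iUnion.mp (Cl3_cover (hsub hy))
      fin_cases i
      · exact hi
      · exact absurd hy (Set.disjoint_left.mp (he0 1 h1) hi)
      · exact absurd hy (Set.disjoint_left.mp (he0 2 h2) hi)
    · intro y hy
      rw [show y = bpL from hy]; exact h0

theorem hmove (hR : Rank3) :
    ∃ h ∈ stabilizer ↥G1 bpL, ∃ g : ↥G1, h • (g • bpL) ≠ g • bpL := by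
  have h22 : 1 < (Cl3 1).ncard := by
    rw [show (Cl3 1).ncard = 22 from hR.1]; norm_num
  obtain ⟨y, y', hy, hy', hne⟩ := (Set.one_lt_ncard_iff (Cl3_finite hR 1)).mp h22
  obtain ⟨h, hh, hyy⟩ := Cl3_homog hR 1 y hy y' hy'
  have hyo : y ∈ orbit ↥G1 bpL := by
    rw [orbit_eq]; exact hy.1
  obtain ⟨g, hg⟩ := hyo
  refine ⟨h, hh, g, ?_⟩
  have hg' : g • bpL = y := hg
  rw [hg', hyy]
  exact hne.symm

/-- `G1` is a simple group. -/
theorem G1_simple (hR : Rank3) : IsSimpleGroup ↥G1 :=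
  simple_of_action_100 (G := ↥G1) bpL inferInstance orbit_ncard (hprim hR) (hmove hR)

/-- The order of `G1`. -/
theorem G1_card : Nat.card ↥G1 = 44352000 := by
  rw [card_eq_of_action (G := ↥G1) bpL, orbit_ncard, card_stab]

end Cfsg.Agent.Lib.Helper92_HS
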