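/-
helper7: the concrete Higman–Sims group (joint stabiliser of `(5, 1, 1^22)` and `-(1, 5, 1^22)`
in the automorphism group of the rank-24 lattice) is isomorphic to every faithful transitive
group of degree 100 with point stabiliser of order 443520 and suborbits 1, 22, 77.
-/
import Mathlib
import Cfsg.Agent.Lib.Helper7_HSunique
import Cfsg.Agent.Lib.Helper92_HSMain
import Cfsg.Agent.S1584
import Cfsg.Agent.S5593

set_option autoImplicit false
set_option linter.unusedSectionVars false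
set_option linter.unusedVariables false

namespace Cfsg.Agent.Lib.Helper7_HSconcrete

open MulAction Cfsg Cfsg.Agent.Lib.Helper92_HS Cfsg.Agent.Lib.Helper92_RankSimple
open Cfsg.Agent.Lib.Helper92_MaxN (bpL)
open Cfsg.Agent.S5546 (Lam)

/-- the rank 3 property of the standard configuration -/
theorem hR : Rank3 :=
  Cfsg.Agent.S1584.result v1L w1L bpL v1_norm w1_norm dot_v1_w1 bpL_mem

/-- the 100 points, as a type -/
abbrev Y : Type := ↥(orbit ↥G1 bpL)

theorem Y_finite : (orbit ↥G1 bpL).Finite :=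
  Set.finite_of_ncard_pos (by rw [orbit_ncard]; norm_num)

noncomputable instance : Fintype Y := Y_finite.fintype

theorem card_Y : Nat.card Y = 100 := by
  rw [Nat.card_coe_set_eq, orbit_ncard]

/-- the base point -/
def y0 : Y := ⟨bpL, mem_orbit_self _⟩

theorem coe_smul_Y (g : ↥G1) (y : Y) : ((g • y : Y) : Lam) = g • (y : Lam) := rfl

theorem stab_y0 : stabilizer ↥G1 y0 = stabilizer ↥G1 bpL := by
  ext g
  rw [mem_stabilizer_iff, mem_stabilizer_iff]
  constructor
  · intro h
    exact congrArg Subtype.val h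
  · intro h
    exact Subtype.ext h

theorem card_stab_y0 : Nat.card ↥(stabilizer ↥G1 y0) = 443520 := by
  rw [stab_y0]; exact card_stab

theorem dot_stab (s : ↥G1) (hs : s ∈ stabilizer ↥G1 bpL) (y : Lam) :
    dotInt (bpL : GolayPt → ℤ) ((s • y : Lam) : GolayPt → ℤ)
      = dotInt (bpL : GolayPt → ℤ) (y : GolayPt → ℤ) := by
  have h := Cfsg.Agent.S5593.dot_smul (s : ↥Co0) bpL y
  have hs' : (s : ↥Co0) • bpL = bpL := mem_stabilizer_iff.mp hs
  rw [hs'] at h
  exact h

theorem X1_smul (s : ↥G1) {y : Lam} (hy : y ∈ X1) : s • y ∈ X1 := by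
  rw [← orbit_eq] at hy ⊢
  exact mem_orbit_of_mem_orbit s hy

theorem Cl3_smul (i : Fin 3) (s : ↥G1) (hs : s ∈ stabilizer ↥G1 bpL) {y : Lam}
    (hy : y ∈ Cl3 i) : s • y ∈ Cl3 i := by
  fin_cases i
  · have : y = bpL := hy
    rw [this]
    exact mem_stabilizer_iff.mp hs
  · exact ⟨X1_smul s hy.1, by rw [dot_stab s hs]; exact hy.2⟩
  · refine ⟨X1_smul s hy.1, ?_, by rw [dot_stab s hs]; exact hy.2.2⟩
    intro h
    apply hy.2.1
    have hs' : s • bpL = bpL := mem_stabilizer_iff.mp hs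
    have : s • y = s • bpL := h.trans hs'.symm
    exact smul_left_cancel s this

/-- the orbit of a point of a class under the point stabiliser is the class -/
theorem orbit_stab_eq (i : Fin 3) (y : Y) (hy : (y : Lam) ∈ Cl3 i) :
    Subtype.val '' (orbit ↥(stabilizer ↥G1 y0) y) = Cl3 i := by
  ext z
  constructor
  · rintro ⟨_, ⟨s, rfl⟩, rfl⟩
    have hs : (s : ↥G1) ∈ stabilizer ↥G1 bpL := by
      rw [← stab_y0]; exact s.2
    exact Cl3_smul i s.1 hs hy
  · intro hz
    obtain ⟨h, hh, hhz⟩ := Cl3_homog hR i y hy z hz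
    have hh' : h ∈ stabilizer ↥G1 y0 := by rw [stab_y0]; exact hh
    refine ⟨(⟨h, hh'⟩ : ↥(stabilizer ↥G1 y0)) • y, ⟨⟨h, hh'⟩, rfl⟩, ?_⟩
    exact hhz

theorem ncard_orbit_stab (i : Fin 3) (y : Y) (hy : (y : Lam) ∈ Cl3 i) :
    (orbit ↥(stabilizer ↥G1 y0) y).ncard = (Cl3 i).ncard := by
  rw [← orbit_stab_eq i y hy, Set.ncard_image_of_injective _ Subtype.val_injective]

theorem exists_mem_Cl3 (i : Fin 3) : ∃ y : Y, (y : Lam) ∈ Cl3 i := by
  have hne : (Cl3 i).Nonempty := by
    fin_cases i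
    · exact ⟨bpL, rfl⟩
    · apply Set.nonempty_of_ncard_ne_zero
      show (Cl3 1).ncard ≠ 0
      rw [show (Cl3 1).ncard = 22 from hR.1]; norm_num
    · apply Set.nonempty_of_ncard_ne_zero
      show (Cl3 2).ncard ≠ 0
      rw [show (Cl3 2).ncard = 77 from hR.2.1]; norm_num
  obtain ⟨y, hy⟩ := hne
  have hyX : y ∈ orbit ↥G1 bpL := by
    rw [orbit_eq]; exact Cl3_sub i hy
  exact ⟨⟨y, hyX⟩, hy⟩

instance faithful_Y : FaithfulSMul ↥G1 Y := by
  have hsimple := G1_simple hR
  have hker : (MulAction.toPermHom ↥G1 Y).ker = ⊥ := by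
    rcases (inferInstance : (MulAction.toPermHom ↥G1 Y).ker.Normal).eq_bot_or_eq_top with h | h
    · exact h
    · exfalso
      obtain ⟨y1, hy1⟩ := exists_mem_Cl3 1
      have hne : y1 ≠ y0 := by
        intro h0
        have : (y1 : Lam) ∈ Cl3 0 := by rw [h0]; rfl
        exact Set.disjoint_left.mp (Cl3_disj 0 1 (by decide)) this hy1
      obtain ⟨g, hg⟩ := exists_smul_eq ↥G1 y0 y1
      have hgk : g ∈ (MulAction.toPermHom ↥G1 Y).ker := by rw [h]; trivial
      rw [MonoidHom.mem_ker] at hgk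
      have : g • y0 = y0 := by
        have := congrArg (fun f : Equiv.Perm Y => f y0) hgk
        exact this
      exact hne (hg.symm.trans this)
  refine ⟨fun {g g'} h => ?_⟩
  apply (MonoidHom.ker_eq_bot_iff _).mp hker
  apply Equiv.ext
  intro y
  exact h y

/-- every group of Higman–Sims type is isomorphic to the standard one -/
theorem iso_G1 {H V : Type*} [Group H] [MulAction H V] [Finite H] [Fintype V]
    [IsPretransitive H V] [FaithfulSMul H V] (x a b : V) (hV : Nat.card V = 100)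
    (ha : (orbit (stabilizer H x) a).ncard = 22)
    (hb : (orbit (stabilizer H x) b).ncard = 77)
    (hs : Nat.card (stabilizer H x) = 443520) : Nonempty (H ≃* ↥G1) := by
  obtain ⟨a₂, ha₂⟩ := exists_mem_Cl3 1
  obtain ⟨b₂, hb₂⟩ := exists_mem_Cl3 2
  exact Cfsg.Agent.Lib.Helper7_HSunique.iso_of_rank3 x a b hV ha hb hs y0 a₂ b₂ card_Y
    (by rw [ncard_orbit_stab 1 a₂ ha₂]; exact hR.1)
    (by rw [ncard_orbit_stab 2 b₂ hb₂]; exact hR.2.1) card_stab_y0

end Cfsg.Agent.Lib.Helper7_HSconcrete
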