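import Cfsg.Agent.Lib.Helper26_IcoCent3
import Cfsg.Agent.Lib.Helper8_J2F

/-!
# `Aut(J₂)` permutes the 315 reflection images (helper7)

The image `z` of a reflection generates the centre of a Sylow 2-subgroup of `J₂`
(`C_{J₂}(Q) = ⟨z⟩` for the extraspecial `Q = O₂(C(z))`), so automorphisms map reflection images to
reflection images, and `MulAut J2` acts on `Refl` compatibly with conjugation.
-/

set_option autoImplicit false

namespace Cfsg.Agent.Lib.Helper7_J2Out

open Cfsg.Agent.Lib.Helper26_Ico Cfsg.Spor MulAction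
open scoped Pointwise

/-! ### A generic Sylow lemma -/

theorem exists_conj_of_center {G : Type*} [Group G] [Finite G] (p : ℕ) [Fact p.Prime]
    (S : Sylow p G) (z : G) (hzS : z ∈ S) (hzc : ∀ y ∈ S, y * z = z * y)
    (hZ : ∀ x ∈ S, (∀ y ∈ S, y * x = x * y) → x = 1 ∨ x = z) (hz1 : z ≠ 1) (α : MulAut G) :
    ∃ g : G, α z = g * z * g⁻¹ := by
  obtain ⟨g, hg⟩ := MulAction.exists_smul_eq G S (α • S)
  have hcoe : (MulAut.conj g • (S : Subgroup G)) = α • (S : Subgroup G) := by
    rw [← Sylow.coe_subgroup_smul, hg, Sylow.pointwise_smul_def]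
  have hαz : α z ∈ α • (S : Subgroup G) := by
    have := (Subgroup.smul_mem_pointwise_smul_iff (a := α) (S := (S : Subgroup G)) (x := z)).2 hzS
    rwa [MulAut.smul_def] at this
  have hx : g⁻¹ * α z * g ∈ (S : Subgroup G) := by
    rw [← hcoe, Subgroup.mem_pointwise_smul_iff_inv_smul_mem] at hαz
    have e : (MulAut.conj g)⁻¹ • α z = g⁻¹ * α z * g := by
      rw [← map_inv, MulAut.smul_def, MulAut.conj_apply, inv_inv]
    rwa [e] at hαz
  have hcen : ∀ y ∈ S, y * (g⁻¹ * α z * g) = g⁻¹ * α z * g * y := by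
    intro y hy
    have h1 : MulAut.conj g • y ∈ α • (S : Subgroup G) := by
      rw [← hcoe]
      exact Subgroup.smul_mem_pointwise_smul_iff.2 hy
    rw [Subgroup.mem_pointwise_smul_iff_inv_smul_mem] at h1
    have h2 := hzc _ h1
    have h3 := congrArg α h2
    rw [map_mul, map_mul, MulAut.smul_def, MulAut.smul_def, MulAut.apply_inv_self,
      MulAut.conj_apply] at h3
    calc y * (g⁻¹ * α z * g) = g⁻¹ * (g * y * g⁻¹ * α z) * g := by group
      _ = g⁻¹ * (α z * (g * y * g⁻¹)) * g := by rw [h3]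
      _ = g⁻¹ * α z * g * y := by group
  rcases hZ _ hx hcen with h | h
  · exfalso
    apply hz1
    have : α z = 1 := by
      calc α z = g * (g⁻¹ * α z * g) * g⁻¹ := by group
        _ = 1 := by rw [h]; group
    exact (map_eq_one_iff α α.injective).1 this
  · refine ⟨g, ?_⟩
    calc α z = g * (g⁻¹ * α z * g) * g⁻¹ := by group
      _ = g * z * g⁻¹ := by rw [h]

/-! ### Basic facts on `J₂` -/

theorem card_J2 : Nat.card J2 = 604800 := by
  have hG := Cfsg.Agent.Lib.Helper8_J2.card_twoJ2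
  have hZ := Cfsg.Agent.Lib.Helper8_J2.card_center
  have h := Subgroup.card_eq_card_quotient_mul_card_subgroup (Subgroup.center ↥Cfsg.Spor.twoJ2)
  rw [hG, hZ] at h
  show Nat.card (↥Cfsg.Spor.twoJ2 ⧸ Subgroup.center ↥Cfsg.Spor.twoJ2) = 604800
  omega

instance finite_J2 : Finite J2 := Nat.finite_of_card_ne_zero (by rw [card_J2]; norm_num)

theorem toJ_inj : Function.Injective Refl.toJ :=
  toJ_injective Cfsg.Agent.Lib.Helper8_J2.card_center
    ⟨Cfsg.Agent.Lib.Helper8_J2.negOne', Cfsg.Agent.Lib.Helper8_J2.negOne'_mem_center,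
      fun x => Cfsg.Agent.Lib.Helper8_J2.negOne_apply x⟩

theorem card_QSt : Nat.card QSt = 32 := (card_quot_QSt (card_St card_J2)).1

/-- The reflection image `z`. -/
noncomputable abbrev zJ : J2 := (Rn 0).toJ

/-- An element of `J₂` commuting with `z` and with the ten reflection images commuting with `z`
is `1` or `z`. -/
theorem cent_Q {g : J2} (h0 : g * zJ = zJ * g)
    (hT : ∀ k ∈ Tl, g * (Rn k).toJ = (Rn k).toJ * g) : g = 1 ∨ g = zJ := by
  have hg0 : actN g 0 = 0 := fix_of_comm toJ_inj (k := 0) (by norm_num) h0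
  have hgSt : g ∈ St := by
    rw [St, MulAction.mem_stabilizer_iff, ← Rn_actN, hg0]
  have hfix : FixT g := fun k hk => fix_of_comm toJ_inj (Tl_lt hk) (hT k hk)
  have hQ : (⟨g, hgSt⟩ : St) ∈ QSt := by
    rw [mem_QSt_iff]
    intro b
    show frF (actN g (rep b)) = b
    rw [hfix _ (rep_mem b), frF_rep]
  rcases claimK card_QSt ⟨⟨g, hgSt⟩, hQ⟩ hfix with h | h
  · left
    have := congrArg (fun q : QSt => q.1.1) h
    exact this
  · right
    have := congrArg (fun q : QSt => q.1.1) h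
    exact this

/-- The image of `O₂(C(z))` in `J₂`. -/
noncomputable def QJ : Subgroup J2 := QSt.map St.subtype

theorem card_QJ : Nat.card QJ = 32 := by
  rw [QJ, Subgroup.card_map_of_injective (Subgroup.subtype_injective St), card_QSt]

theorem zJ_mem_QJ : zJ ∈ QJ := ⟨c0St, c0St_mem, rfl⟩

theorem toJ_mem_QJ {k : ℕ} (hk : k ∈ Tl) : (Rn k).toJ ∈ QJ :=
  ⟨(qQ k hk).1, (qQ k hk).2, qQ_val k hk⟩

theorem zJ_ne_one : zJ ≠ 1 := c0_ne_one

/-- Every automorphism maps `z` to a conjugate. -/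
theorem aut_zJ (α : MulAut J2) : ∃ g : J2, α zJ = g * zJ * g⁻¹ := by
  have : Fact (Nat.Prime 2) := ⟨Nat.prime_two⟩
  have hp : IsPGroup 2 QJ := IsPGroup.of_card (n := 5) (by rw [card_QJ]; norm_num)
  obtain ⟨S, hS⟩ := hp.exists_le_sylow
  have hzS : zJ ∈ S := hS zJ_mem_QJ
  -- central elements of `S` centralise `Q`
  have hZ : ∀ x ∈ S, (∀ y ∈ S, y * x = x * y) → x = 1 ∨ x = zJ := by
    intro x _ hx
    apply cent_Q
    · exact (hx zJ hzS).symm
    · intro k hk
      exact (hx _ (hS (toJ_mem_QJ hk))).symm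
  -- the centre of `S` is not trivial
  have hnt : Nontrivial S := ⟨⟨⟨zJ, hzS⟩, 1, fun h => zJ_ne_one (congrArg Subtype.val h)⟩⟩
  have hcn : Nontrivial (Subgroup.center S) := S.isPGroup'.center_nontrivial
  obtain ⟨⟨c, hc⟩, hc1⟩ := exists_ne (1 : Subgroup.center S)
  have hc1' : c.1 ≠ 1 := fun h => hc1 (Subtype.ext (Subtype.ext h))
  have hccomm : ∀ y ∈ S, y * c.1 = c.1 * y := by
    intro y hy
    have := Subgroup.mem_center_iff.1 hc ⟨y, hy⟩
    exact congrArg Subtype.val this
  have hcz : c.1 = zJ := by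
    rcases hZ c.1 c.2 hccomm with h | h
    · exact absurd h hc1'
    · exact h
  have hzc : ∀ y ∈ S, y * zJ = zJ * y := by
    intro y hy
    rw [← hcz]
    exact hccomm y hy
  exact exists_conj_of_center 2 S zJ hzS hzc hZ zJ_ne_one α

/-- Automorphisms map reflection images to reflection images. -/
theorem aut_refl (α : MulAut J2) (x : Refl) : ∃ y : Refl, y.toJ = α x.toJ := by
  obtain ⟨g, hg⟩ := aut_zJ α
  have : IsPretransitive J2 Refl := primitive_J2.toIsPretransitive
  obtain ⟨h, hh⟩ := MulAction.exists_smul_eq J2 (Rn 0) x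
  refine ⟨(α h * g) • Rn 0, ?_⟩
  rw [← hh, toJ_smulJ, toJ_smulJ, map_mul, map_mul, map_inv, hg]
  group

/-! ### The action of `Aut(J₂)` on the reflections -/

/-- The image of a reflection under an automorphism. -/
noncomputable def aS (α : MulAut J2) (x : Refl) : Refl := Classical.choose (aut_refl α x)

theorem aS_toJ (α : MulAut J2) (x : Refl) : (aS α x).toJ = α x.toJ :=
  Classical.choose_spec (aut_refl α x)

theorem aS_one (x : Refl) : aS 1 x = x := toJ_inj (by rw [aS_toJ]; rfl)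

theorem aS_mul (α β : MulAut J2) (x : Refl) : aS (α * β) x = aS α (aS β x) :=
  toJ_inj (by rw [aS_toJ, aS_toJ, aS_toJ]; rfl)

noncomputable instance instAutRefl : MulAction (MulAut J2) Refl where
  smul := aS
  one_smul := aS_one
  mul_smul := aS_mul

theorem aut_smul_toJ (α : MulAut J2) (x : Refl) : (α • x).toJ = α x.toJ := aS_toJ α x

theorem aut_smul_smul (α : MulAut J2) (x y : Refl) :
    α • (x.toJ • y) = (α • x).toJ • (α • y) := by
  apply toJ_inj
  rw [aut_smul_toJ, toJ_smulJ, toJ_smulJ, aut_smul_toJ, aut_smul_toJ, map_mul, map_mul, map_inv]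

theorem conj_smul (g : J2) (x : Refl) : (MulAut.conj g) • x = g • x := by
  apply toJ_inj
  rw [aut_smul_toJ, toJ_smulJ, MulAut.conj_apply]

/-- The action on indices. -/
noncomputable def aN (α : MulAut J2) (k : ℕ) : ℕ := idx (α • Rn k)

theorem Rn_aN (α : MulAut J2) (k : ℕ) : Rn (aN α k) = α • Rn k := Rn_idx _

theorem aN_lt (α : MulAut J2) (k : ℕ) : aN α k < 315 := idx_lt _

theorem aN_inj (α : MulAut J2) {k l : ℕ} (hk : k < 315) (hl : l < 315) (h : aN α k = aN α l) :
    k = l := by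
  have h1 : α • Rn k = α • Rn l := by rw [← Rn_aN, ← Rn_aN, h]
  exact Rn_inj hk hl (MulAction.injective α h1)

theorem aN_actN (α : MulAut J2) (k j : ℕ) :
    aN α (actN (Rn k).toJ j) = actN (Rn (aN α k)).toJ (aN α j) := by
  apply Rn_inj (aN_lt _ _) (actN_lt _ _)
  rw [Rn_aN, Rn_actN, Rn_actN, aut_smul_smul, Rn_aN, Rn_aN]

theorem aN_of_smul {α : MulAut J2} {k l : ℕ} (hl : l < 315) (h : α • Rn k = Rn l) :
    aN α k = l := by
  apply Rn_inj (aN_lt _ _) hl
  rw [Rn_aN, h]

theorem aut_toJ (α : MulAut J2) (k : ℕ) : α (Rn k).toJ = (Rn (aN α k)).toJ := by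
  rw [Rn_aN, aut_smul_toJ]

end Cfsg.Agent.Lib.Helper7_J2Out
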