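import Cfsg.Agent.Lib.Helper26_IcoCent

/-!
# Certified line tables for `Out(J₂)`: the row checker (helper7)
-/

set_option autoImplicit false

namespace Cfsg.Agent.Lib.Helper7_J2Out

open Cfsg.Agent.Lib.Helper26_Ico

/-- A row `(k, [(j, i, u), ...])` of the table is certified when every entry passes helper26's
`edgeOK`: the reflection in line `k` maps line `j` to `u •` line `i`. -/
def rowOK (r : ℕ × List (ℕ × ℕ × List ℤ)) : Bool :=
  r.2.all fun e => edgeOK (e.1, r.1, e.2.1, e.2.2)

end Cfsg.Agent.Lib.Helper7_J2Out
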