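import Cfsg.Agent.Lib.Helper7_J2OutTab
import Cfsg.Agent.Lib.Helper7_J2OutAut
import Cfsg.Agent.Lib.Helper7_J2OutData8

/-!
# `|Aut(J₂)| ≤ 2 |J₂|` (helper7)

`J₂` is generated by the reflection images `r₀, r₂₇, r₅, r₄₂` (spanning tree in the certified table);
an automorphism is determined by the images of these four lines; orbit–stabiliser and certified
relation filters bound `|Aut(J₂)|` by `315 · 160 · 24`.
-/

set_option autoImplicit false

namespace Cfsg.Agent.Lib.Helper7_J2Out

open Cfsg.Agent.Lib.Helper26_Ico Cfsg.Spor MulAction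

/-! ### Generation -/

/-- The four generating lines. -/
def gv : Fin 4 → ℕ := ![0, 27, 5, 42]

def gensL : List ℕ := [0, 27, 5, 42]

/-- The four generators. -/
noncomputable def gJ (i : Fin 4) : J2 := (Rn (gv i)).toJ

def treeStep (acc : List ℕ) (e : ℕ × ℕ × ℕ) : List ℕ :=
  if gensL.contains e.2.1 && acc.contains e.2.2 && (tabJ e.2.1 e.2.2 == e.1) && decide (e.1 < 315)
  then e.1 :: acc else acc

def treeReach : List ℕ := genTree.foldl treeStep gensL

set_option maxHeartbeats 4000000 in
theorem tree_ok : (List.range 315).all (fun i => treeReach.contains i) = true := by decide +kernel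

theorem gens_mem {g : ℕ} (hg : g ∈ gensL) :
    (Rn g).toJ ∈ Subgroup.closure (Set.range gJ) := by
  simp only [gensL, List.mem_cons, List.not_mem_nil, or_false] at hg
  rcases hg with rfl | rfl | rfl | rfl
  · exact Subgroup.subset_closure ⟨0, rfl⟩
  · exact Subgroup.subset_closure ⟨1, rfl⟩
  · exact Subgroup.subset_closure ⟨2, rfl⟩
  · exact Subgroup.subset_closure ⟨3, rfl⟩

theorem treeFold_sound (t : List (ℕ × ℕ × ℕ)) :
    ∀ acc : List ℕ, (∀ n ∈ acc, (Rn n).toJ ∈ Subgroup.closure (Set.range gJ)) →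
      ∀ n ∈ t.foldl treeStep acc, (Rn n).toJ ∈ Subgroup.closure (Set.range gJ) := by
  induction t with
  | nil => intro acc h; exact h
  | cons e t ih =>
    intro acc h
    rw [List.foldl_cons]
    apply ih
    intro n hn
    unfold treeStep at hn
    split_ifs at hn with hc
    · simp only [Bool.and_eq_true, List.contains_iff_mem, beq_iff_eq, decide_eq_true_eq] at hc
      obtain ⟨⟨⟨hg, hq⟩, ht⟩, hlt⟩ := hc
      rcases List.mem_cons.1 hn with rfl | hn
      · have hlt' : tabJ e.2.1 e.2.2 < 315 := by rw [ht]; exact hlt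
        have hs := (tabJ_sound hlt').1
        rw [ht] at hs
        rw [← hs, toJ_smulJ]
        exact mul_mem (mul_mem (gens_mem hg) (h _ hq)) (inv_mem (gens_mem hg))
      · exact h n hn
    · exact h n hn

theorem gen_top : Subgroup.closure (Set.range gJ) = ⊤ := by
  rw [eq_top_iff, ← closure_toJ, Subgroup.closure_le]
  rintro _ ⟨x, rfl⟩
  obtain ⟨n, hn, rfl⟩ := Rn_surj x
  have h0 : ∀ m ∈ gensL, (Rn m).toJ ∈ Subgroup.closure (Set.range gJ) := fun m hm => gens_mem hm
  have := treeFold_sound genTree gensL h0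
  apply this
  show n ∈ treeReach
  have hall := tree_ok
  rw [List.all_eq_true] at hall
  have := hall n (List.mem_range.2 hn)
  simpa using this

/-- An automorphism is determined by the images of the four generating lines. -/
theorem aut_ext {α β : MulAut J2} (h : ∀ i, aN α (gv i) = aN β (gv i)) : α = β := by
  have hm : α.toMonoidHom = β.toMonoidHom := by
    apply MonoidHom.eq_of_eqOn_dense gen_top
    rintro _ ⟨i, rfl⟩
    show α (Rn (gv i)).toJ = β (Rn (gv i)).toJ
    rw [aut_toJ, aut_toJ, h i]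
  ext x
  exact DFunLike.congr_fun hm x

/-! ### Relations among the generators -/

theorem LL_eval {k j v : ℕ} (h : tabJ k j = v) (hv : v < 315) : LL k j = v := by
  rw [← h] at hv ⊢
  exact LL_tab hv

theorem rel_0_27 : LL 0 27 = LL 27 0 := by
  rw [LL_eval (v := 186) (by decide +kernel) (by norm_num),
    LL_eval (v := 186) (by decide +kernel) (by norm_num)]

theorem rel_0_5 : LL 0 5 = 5 := LL_eval (by decide +kernel) (by norm_num)

theorem rel_27_5 : LL 27 (LL 5 27) = LL 5 (LL 27 5) := by
  rw [LL_eval (k := 5) (j := 27) (v := 67) (by decide +kernel) (by norm_num),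
    LL_eval (k := 27) (j := 67) (v := 242) (by decide +kernel) (by norm_num),
    LL_eval (k := 27) (j := 5) (v := 295) (by decide +kernel) (by norm_num),
    LL_eval (k := 5) (j := 295) (v := 242) (by decide +kernel) (by norm_num)]

theorem rel_0_42 : LL 0 42 = LL 42 0 := by
  rw [LL_eval (v := 171) (by decide +kernel) (by norm_num),
    LL_eval (v := 171) (by decide +kernel) (by norm_num)]

theorem rel_27_42 : LL 42 (LL 27 42) = LL 27 42 := by
  rw [LL_eval (k := 27) (j := 42) (v := 11) (by decide +kernel) (by norm_num),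
    LL_eval (k := 42) (j := 11) (v := 11) (by decide +kernel) (by norm_num)]

theorem rel_27_42' : LL 27 42 ≠ 42 := by
  rw [LL_eval (k := 27) (j := 42) (v := 11) (by decide +kernel) (by norm_num)]
  norm_num

theorem rel_5_42 : LL 5 (LL 42 5) = LL 42 (LL 5 42) := by
  rw [LL_eval (k := 42) (j := 5) (v := 232) (by decide +kernel) (by norm_num),
    LL_eval (k := 5) (j := 232) (v := 291) (by decide +kernel) (by norm_num),
    LL_eval (k := 5) (j := 42) (v := 103) (by decide +kernel) (by norm_num),
    LL_eval (k := 42) (j := 103) (v := 291) (by decide +kernel) (by norm_num)]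

theorem aN_LL (α : MulAut J2) (k j : ℕ) : aN α (LL k j) = LL (aN α k) (aN α j) := aN_actN α k j

/-! ### The filters -/

/-- Candidates for the image of line 27 under an automorphism fixing line 0. -/
def D160 : List ℕ :=
  (List.range 315).filter fun x => decide (x ≠ 0) && eqU (tabJ 0 x) (tabJ x 0)

set_option maxHeartbeats 4000000 in
theorem D160_length : D160.length = 160 := by decide +kernel

/-- Filter for the image of line 5. -/
def Fb (y : ℕ) : Bool :=
  decide (y ≠ 0) && decide (y ≠ 27) && eqU (tabJ 0 y) y &&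
    eqU (tabJ 27 (tabJ y 27)) (tabJ y (tabJ 27 y))

/-- Filter for the image of line 42, given the image `y` of line 5. -/
def Fc (y z : ℕ) : Bool :=
  decide (z ≠ 0) && decide (z ≠ 27) && decide (z ≠ y) && eqU (tabJ 0 z) (tabJ z 0) &&
    eqU (tabJ z (tabJ 27 z)) (tabJ 27 z) && neU (tabJ 27 z) z &&
    eqU (tabJ y (tabJ z y)) (tabJ z (tabJ y z))

/-- Candidates for the images of lines 5 and 42 under an automorphism fixing lines 0 and 27. -/
def P24 : List (ℕ × ℕ) :=
  (List.range 315).flatMap fun y =>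
    if Fb y then ((List.range 315).filter (Fc y)).map (fun z => (y, z)) else []

set_option maxHeartbeats 4000000 in
theorem P24_length : P24.length = 24 := by decide +kernel

theorem mem_D160 {α : MulAut J2} (h0 : aN α 0 = 0) : aN α 27 ∈ D160 := by
  rw [D160, List.mem_filter, List.mem_range]
  refine ⟨aN_lt _ _, ?_⟩
  rw [Bool.and_eq_true, decide_eq_true_eq]
  constructor
  · intro h
    rw [← h0] at h
    exact absurd (aN_inj α (by norm_num) (by norm_num) h) (by norm_num)
  · apply eqU_of (Kn_tab (Kn_const 0) (Kn_const _)) (Kn_tab (Kn_const _) (Kn_const 0))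
    have := congrArg (aN α) rel_0_27
    rwa [aN_LL, aN_LL, h0] at this

theorem mem_P24 {α : MulAut J2} (h0 : aN α 0 = 0) (h27 : aN α 27 = 27) :
    (aN α 5, aN α 42) ∈ P24 := by
  have ne0 : ∀ {k : ℕ}, k < 315 → k ≠ 0 → aN α k ≠ 0 := by
    intro k hk hk0 h
    rw [← h0] at h
    exact hk0 (aN_inj α hk (by norm_num) h)
  have ne27 : ∀ {k : ℕ}, k < 315 → k ≠ 27 → aN α k ≠ 27 := by
    intro k hk hk0 h
    rw [← h27] at h
    exact hk0 (aN_inj α hk (by norm_num) h)
  have hb : Fb (aN α 5) = true := by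
    unfold Fb
    simp only [Bool.and_eq_true, decide_eq_true_eq]
    refine ⟨⟨⟨ne0 (by norm_num) (by norm_num), ne27 (by norm_num) (by norm_num)⟩, ?_⟩, ?_⟩
    · apply eqU_of (Kn_tab (Kn_const 0) (Kn_const _)) (Kn_const _)
      have := congrArg (aN α) rel_0_5
      rwa [aN_LL, h0] at this
    · apply eqU_of (Kn_tab (Kn_const 27) (Kn_tab (Kn_const _) (Kn_const 27)))
        (Kn_tab (Kn_const _) (Kn_tab (Kn_const 27) (Kn_const _)))
      have := congrArg (aN α) rel_27_5
      rwa [aN_LL, aN_LL, aN_LL, aN_LL, h27] at this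
  have hc : Fc (aN α 5) (aN α 42) = true := by
    unfold Fc
    simp only [Bool.and_eq_true, decide_eq_true_eq]
    refine ⟨⟨⟨⟨⟨⟨ne0 (by norm_num) (by norm_num), ne27 (by norm_num) (by norm_num)⟩, ?_⟩, ?_⟩, ?_⟩,
      ?_⟩, ?_⟩
    · intro h
      exact absurd (aN_inj α (by norm_num) (by norm_num) h) (by norm_num)
    · apply eqU_of (Kn_tab (Kn_const 0) (Kn_const _)) (Kn_tab (Kn_const _) (Kn_const 0))
      have := congrArg (aN α) rel_0_42
      rwa [aN_LL, aN_LL, h0] at this
    · apply eqU_of (Kn_tab (Kn_const _) (Kn_tab (Kn_const 27) (Kn_const _)))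
        (Kn_tab (Kn_const 27) (Kn_const _))
      have := congrArg (aN α) rel_27_42
      rwa [aN_LL, aN_LL, h27] at this
    · apply neU_of (Kn_tab (Kn_const 27) (Kn_const _)) (Kn_const _)
      intro h
      apply rel_27_42'
      apply aN_inj α (LL_lt _ _) (by norm_num)
      rw [aN_LL, h27, h]
    · apply eqU_of (Kn_tab (Kn_const _) (Kn_tab (Kn_const _) (Kn_const _)))
        (Kn_tab (Kn_const _) (Kn_tab (Kn_const _) (Kn_const _)))
      have := congrArg (aN α) rel_5_42
      rwa [aN_LL, aN_LL, aN_LL, aN_LL] at this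
  rw [P24, List.mem_flatMap]
  refine ⟨aN α 5, List.mem_range.2 (aN_lt _ _), ?_⟩
  rw [if_pos hb, List.mem_map]
  exact ⟨aN α 42, List.mem_filter.2 ⟨List.mem_range.2 (aN_lt _ _), hc⟩, rfl⟩

/-! ### Counting -/

/-- Automorphisms fixing line 0. -/
noncomputable def autB : Subgroup (MulAut J2) := stabilizer (MulAut J2) (Rn 0)

/-- Automorphisms fixing lines 0 and 27. -/
noncomputable def autC : Subgroup autB := stabilizer autB (Rn 27)

theorem aN_B (b : autB) : aN b.1 0 = 0 :=
  aN_of_smul (by norm_num) (MulAction.mem_stabilizer_iff.1 b.2)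

theorem aN_C (c : autC) : aN c.1.1 27 = 27 :=
  aN_of_smul (by norm_num) (MulAction.mem_stabilizer_iff.1 c.2)

instance finite_aut : Finite (MulAut J2) :=
  Finite.of_injective (fun α : MulAut J2 => (α : J2 → J2)) DFunLike.coe_injective

theorem card_autC_le : Nat.card autC ≤ 24 := by
  let f : autC → {p : ℕ × ℕ // p ∈ P24.toFinset} := fun c =>
    ⟨(aN c.1.1 5, aN c.1.1 42), List.mem_toFinset.2 (mem_P24 (aN_B c.1) (aN_C c))⟩
  have hf : Function.Injective f := by
    intro c d h
    have h' := congrArg Subtype.val h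
    simp only [f, Prod.mk.injEq] at h'
    apply Subtype.ext
    apply Subtype.ext
    apply aut_ext
    intro i
    fin_cases i
    · show aN c.1.1 0 = aN d.1.1 0
      rw [aN_B, aN_B]
    · show aN c.1.1 27 = aN d.1.1 27
      rw [aN_C, aN_C]
    · exact h'.1
    · exact h'.2
  calc Nat.card autC ≤ Nat.card {p : ℕ × ℕ // p ∈ P24.toFinset} := Nat.card_le_card_of_injective f hf
    _ = P24.toFinset.card := by rw [Nat.card_eq_fintype_card, Fintype.card_coe]
    _ ≤ P24.length := List.toFinset_card_le _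
    _ = 24 := P24_length

theorem card_autB_le : Nat.card autB ≤ 160 * 24 := by
  classical
  have h1 := Cfsg.Agent.Lib.Helper8_J2.card_eq_stab_mul (H := autB) (Rn 27)
  have hsub : orbit autB (Rn 27) ⊆ ((D160.map Rn).toFinset : Set Refl) := by
    rintro _ ⟨b, rfl⟩
    rw [Finset.mem_coe, List.mem_toFinset, List.mem_map]
    refine ⟨aN b.1 27, mem_D160 (aN_B b), ?_⟩
    rw [Rn_aN]
    rfl
  have h2 : (orbit autB (Rn 27)).ncard ≤ 160 := by
    calc (orbit autB (Rn 27)).ncard ≤ ((D160.map Rn).toFinset : Set Refl).ncard :=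
          Set.ncard_le_ncard hsub (Finset.finite_toSet _)
      _ = (D160.map Rn).toFinset.card := Set.ncard_coe_finset _
      _ ≤ (D160.map Rn).length := List.toFinset_card_le _
      _ = 160 := by rw [List.length_map, D160_length]
  rw [h1]
  calc Nat.card (stabilizer autB (Rn 27)) * (orbit autB (Rn 27)).ncard
      ≤ 24 * 160 := Nat.mul_le_mul card_autC_le h2
    _ = 160 * 24 := by norm_num

theorem card_aut_le : Nat.card (MulAut J2) ≤ 1209600 := by
  have h1 := Cfsg.Agent.Lib.Helper8_J2.card_eq_stab_mul (H := MulAut J2) (Rn 0)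
  have : Finite Refl := Nat.finite_of_card_ne_zero (by rw [card_Refl]; norm_num)
  have h2 : (orbit (MulAut J2) (Rn 0)).ncard ≤ 315 := by
    rw [← card_Refl]
    exact Set.ncard_le_card _
  rw [h1]
  calc Nat.card (stabilizer (MulAut J2) (Rn 0)) * (orbit (MulAut J2) (Rn 0)).ncard
      ≤ (160 * 24) * 315 := Nat.mul_le_mul card_autB_le h2
    _ = 1209600 := by norm_num

end Cfsg.Agent.Lib.Helper7_J2Out
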