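import Cfsg.Agent.Lib.Helper7_J2OutBase

/-!
# Certified line table for `Out(J₂)` (helper7), chunk 2
Row `(k, [(j, i, u), ...])`: the reflection in line `k` maps line `j` to `u •` line `i`
(lines and units as in `Helper26_IcoData`).  Generated by scratch/j2out/emit.py.
-/

set_option autoImplicit false

namespace Cfsg.Agent.Lib.Helper7_J2Out

open Cfsg.Agent.Lib.Helper26_Ico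

set_option maxHeartbeats 4000000 in
def rows2 : List (ℕ × List (ℕ × ℕ × List ℤ)) := [
  (27, [(0, 186, m8 2 0 0 0 0 0 0 0), (1, 179, m8 2 0 0 0 0 0 0 0), (2, 19, m8 0 0 (-1) 1 0 (-1) (-1) 0), (3, 41, m8 0 0 1 (-1) 0 1 1 0), (4, 55, m8 1 (-1) 0 0 (-1) 0 0 1), (5, 295, m8 0 0 (-1) 1 0 (-1) (-1) 0), (6, 200, m8 0 (-1) (-1) 0 0 0 1 (-1)), (7, 48, m8 0 (-1) (-1) 0 0 0 1 (-1)), (8, 287, m8 0 0 (-1) 1 0 (-1) (-1) 0), (9, 207, m8 1 (-1) 0 0 (-1) 0 0 1), (10, 193, m8 0 0 1 (-1) 0 1 1 0), (11, 42, m8 0 0 1 (-1) 0 1 1 0), (12, 56, m8 1 (-1) 0 0 (-1) 0 0 1), (13, 302, m8 0 0 1 (-1) 0 1 1 0), (14, 199, m8 0 (-1) (-1) 0 0 0 1 (-1)), (15, 47, m8 0 (-1) (-1) 0 0 0 1 (-1)), (16, 310, m8 0 0 1 (-1) 0 1 1 0), (17, 208, m8 1 (-1) 0 0 (-1) 0 0 1), (18,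 194, m8 0 0 1 (-1) 0 1 1 0), (19, 2, m8 0 0 1 (-1) 0 1 1 0), (20, 181, m8 1 (-1) 0 1 0 0 1 0), (21, 182, m8 1 (-1) 0 0 1 0 0 1), (22, 185, m8 1 (-1) 1 0 0 1 0 0), (23, 180, m8 0 (-1) 0 0 1 (-1) 1 0), (24, 183, m8 0 (-1) 1 0 0 0 1 (-1)), (25, 184, m8 0 (-1) 1 (-1) 1 0 0 0), (26, 26, m8 2 0 0 0 0 0 0 0), (27, 27, m8 (-2) 0 0 0 0 0 0 0), (28, 33, m8 0 0 0 0 (-2) 0 0 0), (29, 32, m8 0 0 2 0 0 0 0 0), (30, 31, m8 0 0 0 0 0 0 2 0), (31, 30, m8 0 0 0 0 0 0 (-2) 0), (32, 29, m8 0 0 (-2) 0 0 0 0 0), (33, 28, m8 0 0 0 0 2 0 0 0), (34, 34, m8 2 0 0 0 0 0 0 0), (35, 130, m8 0 0 (-1) 0 (-1) 1 0 (-1)), (36, 88, m8 1 0 0 0 0 (-1) 1 (-1)), (37, 111, m8 1 0 0 (-1) (-1) 1 0 0), (38, 101, m8 0 0 (-1) 1 0 1 1 0), (39, 94, m8 0 1 0 0 1 (-1) (-1) 0), (40,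 115, m8 1 (-1) (-1) 0 0 (-1) 0 0), (41, 3, m8 0 0 (-1) 1 0 (-1) (-1) 0), (42, 11, m8 0 0 (-1) 1 0 (-1) (-1) 0), (43, 120, m8 0 0 0 1 (-1) 0 1 (-1)), (44, 92, m8 1 0 (-1) 1 0 0 0 1), (45, 109, m8 0 0 (-1) 1 0 1 (-1) 0), (46, 102, m8 1 0 0 1 1 (-1) 0 0), (47, 15, m8 0 (-1) 1 0 0 0 (-1) 1), (48, 7, m8 0 (-1) 1 0 0 0 (-1) 1), (49, 84, m8 0 1 1 (-1) 1 0 0 0), (50, 127, m8 1 (-1) 0 (-1) 0 0 1 0), (51, 107, m8 0 1 1 0 0 0 (-1) 1), (52, 100, m8 1 (-1) 0 0 (-1) 0 0 1), (53, 90, m8 0 0 1 0 (-1) 1 0 (-1)), (54, 125, m8 1 0 0 0 0 1 (-1) 1), (55, 4, m8 1 (-1) 0 0 1 0 0 (-1)), (56, 12, m8 1 (-1) 0 0 1 0 0 (-1)), (57, 121, m8 1 0 1 (-1) 0 0 0 (-1)), (58, 96, m8 0 0 0 1 1 0 1 (-1)), (59, 77, m8 0 0 0 1 (-1) 0 (-1) 1), (60, 229, m8 0 0 0 1 (-1) 0 (-1)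 1), (61, 81, m8 0 0 (-1) 0 1 (-1) 0 (-1)), (62, 233, m8 0 0 (-1) 0 1 (-1) 0 (-1)), (63, 232, m8 0 0 1 (-1) 0 1 1 0), (64, 80, m8 0 0 1 (-1) 0 1 1 0), (65, 75, m8 1 0 1 0 1 0 (-1) 0), (66, 227, m8 1 0 1 0 1 0 (-1) 0), (67, 242, m8 1 0 (-1) 0 (-1) 0 1 0), (68, 138, m8 1 0 (-1) 0 (-1) 0 1 0), (69, 235, m8 0 1 (-1) 1 1 0 0 0), (70, 131, m8 0 1 (-1) 1 1 0 0 0), (71, 135, m8 0 1 0 0 (-1) 1 (-1) 0), (72, 239, m8 0 1 0 0 (-1) 1 (-1) 0), (73, 134, m8 0 1 1 0 0 0 1 (-1)), (74, 238, m8 0 1 1 0 0 0 1 (-1)), (75, 65, m8 1 0 (-1) 0 (-1) 0 1 0), (76, 217, m8 1 0 (-1) 0 (-1) 0 1 0), (77, 59, m8 0 0 0 (-1) 1 0 1 (-1)), (78, 211, m8 0 0 0 (-1) 1 0 1 (-1)), (79, 216, m8 0 0 (-1) 1 0 (-1) (-1) 0), (80, 64, m8 0 0 (-1) 1 0 (-1) (-1) 0), (81, 61, m8 0 0 1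 0 (-1) 1 0 1), (82, 213, m8 0 0 1 0 (-1) 1 0 1), (83, 205, m8 0 0 (-1) 0 1 (-1) 0 1), (84, 49, m8 0 1 (-1) 1 (-1) 0 0 0), (85, 188, m8 1 0 0 0 0 1 (-1) 1), (86, 291, m8 0 0 1 0 (-1) 1 0 (-1)), (87, 285, m8 0 0 1 0 (-1) 1 0 (-1)), (88, 36, m8 1 0 0 0 0 1 (-1) 1), (89, 201, m8 0 1 (-1) 1 (-1) 0 0 0), (90, 53, m8 0 0 (-1) 0 1 (-1) 0 1), (91, 308, m8 1 0 1 (-1) 0 0 0 (-1)), (92, 44, m8 1 0 1 (-1) 0 0 0 (-1)), (93, 210, m8 0 0 0 (-1) (-1) 0 (-1) 1), (94, 39, m8 0 1 0 0 (-1) 1 1 0), (95, 191, m8 0 1 0 0 (-1) 1 1 0), (96, 58, m8 0 0 0 (-1) (-1) 0 (-1) 1), (97, 196, m8 1 0 1 (-1) 0 0 0 (-1)), (98, 304, m8 1 0 1 (-1) 0 0 0 (-1)), (99, 299, m8 0 1 1 0 0 0 1 (-1)), (100, 52, m8 1 (-1) 0 0 1 0 0 (-1)), (101, 38, m8 0 0 1 (-1) 0 (-1) (-1) 0), (102,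 46, m8 1 0 0 (-1) (-1) 1 0 0), (103, 198, m8 1 0 0 (-1) (-1) 1 0 0), (104, 190, m8 0 0 1 (-1) 0 (-1) (-1) 0), (105, 204, m8 1 (-1) 0 0 1 0 0 (-1)), (106, 284, m8 0 1 1 0 0 0 1 (-1)), (107, 51, m8 0 1 (-1) 0 0 0 1 (-1)), (108, 313, m8 1 (-1) 0 0 (-1) 0 0 (-1)), (109, 45, m8 0 0 1 (-1) 0 (-1) 1 0), (110, 189, m8 1 0 0 1 1 (-1) 0 0), (111, 37, m8 1 0 0 1 1 (-1) 0 0), (112, 197, m8 0 0 1 (-1) 0 (-1) 1 0), (113, 298, m8 1 (-1) 0 0 (-1) 0 0 (-1)), (114, 203, m8 0 1 (-1) 0 0 0 1 (-1)), (115, 40, m8 1 (-1) 1 0 0 1 0 0), (116, 209, m8 1 0 (-1) 1 0 0 0 1), (117, 195, m8 0 0 0 (-1) 1 0 (-1) 1), (118, 293, m8 0 0 0 1 (-1) 0 1 (-1)), (119, 289, m8 0 0 0 1 (-1) 0 1 (-1)), (120, 43, m8 0 0 0 (-1) 1 0 (-1) 1), (121, 57, m8 1 0 (-1) 1 0 0 0 1), (122,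 192, m8 1 (-1) 1 0 0 1 0 0), (123, 187, m8 0 0 1 0 1 (-1) 0 1), (124, 306, m8 1 0 0 0 0 (-1) 1 (-1)), (125, 54, m8 1 0 0 0 0 (-1) 1 (-1)), (126, 202, m8 1 (-1) 0 1 0 0 (-1) 0), (127, 50, m8 1 (-1) 0 1 0 0 (-1) 0), (128, 206, m8 1 0 0 0 0 (-1) 1 (-1)), (129, 312, m8 1 0 0 0 0 (-1) 1 (-1)), (130, 35, m8 0 0 1 0 1 (-1) 0 1), (131, 70, m8 0 1 1 (-1) (-1) 0 0 0), (132, 222, m8 0 1 1 (-1) (-1) 0 0 0), (133, 225, m8 0 1 (-1) 0 0 0 (-1) 1), (134, 73, m8 0 1 (-1) 0 0 0 (-1) 1), (135, 71, m8 0 1 0 0 1 (-1) 1 0), (136, 223, m8 0 1 0 0 1 (-1) 1 0), (137, 220, m8 1 0 1 0 1 0 (-1) 0), (138, 68, m8 1 0 1 0 1 0 (-1) 0), (139, 150, m8 1 (-1) 0 0 (-1) 0 0 (-1)), (140, 254, m8 1 (-1) 0 0 (-1) 0 0 (-1)), (141, 153, m8 1 (-1) (-1) 0 0 1 0 0), (142, 257,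 m8 1 (-1) (-1) 0 0 1 0 0), (143, 255, m8 1 (-1) 0 1 0 0 1 0), (144, 151, m8 1 (-1) 0 1 0 0 1 0), (145, 148, m8 1 0 1 0 1 0 (-1) 0), (146, 252, m8 1 0 1 0 1 0 (-1) 0), (147, 249, m8 1 0 (-1) 0 (-1) 0 1 0), (148, 145, m8 1 0 (-1) 0 (-1) 0 1 0), (149, 243, m8 1 (-1) 0 0 1 0 0 1), (150, 139, m8 1 (-1) 0 0 1 0 0 1), (151, 144, m8 1 (-1) 0 (-1) 0 0 (-1) 0), (152, 248, m8 1 (-1) 0 (-1) 0 0 (-1) 0), (153, 141, m8 1 (-1) 1 0 0 (-1) 0 0), (154, 245, m8 1 (-1) 1 0 0 (-1) 0 0), (155, 273, m8 1 0 (-1) 1 0 0 0 1), (156, 169, m8 1 0 (-1) 1 0 0 0 1), (157, 262, m8 2 0 0 0 0 0 0 0), (158, 158, m8 2 0 0 0 0 0 0 0), (159, 177, m8 1 0 0 0 0 (-1) 1 (-1)), (160, 281, m8 1 0 0 0 0 (-1) 1 (-1)), (161, 300, m8 1 0 0 1 (-1) 1 0 0), (162, 314, m8 1 0 0 1 (-1)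 1 0 0), (163, 305, m8 0 1 1 (-1) (-1) 0 0 0), (164, 286, m8 0 1 1 (-1) (-1) 0 0 0), (165, 165, m8 2 0 0 0 0 0 0 0), (166, 269, m8 2 0 0 0 0 0 0 0), (167, 176, m8 1 0 0 (-1) (-1) 1 0 0), (168, 280, m8 1 0 0 (-1) (-1) 1 0 0), (169, 156, m8 1 0 1 (-1) 0 0 0 (-1)), (170, 260, m8 1 0 1 (-1) 0 0 0 (-1)), (171, 276, m8 2 0 0 0 0 0 0 0), (172, 172, m8 2 0 0 0 0 0 0 0), (173, 294, m8 1 (-1) 1 0 0 (-1) 0 0), (174, 307, m8 1 (-1) 1 0 0 (-1) 0 0), (175, 271, m8 1 0 0 1 1 (-1) 0 0), (176, 167, m8 1 0 0 1 1 (-1) 0 0), (177, 159, m8 1 0 0 0 0 1 (-1) 1), (178, 263, m8 1 0 0 0 0 1 (-1) 1), (179, 1, m8 2 0 0 0 0 0 0 0), (180, 23, m8 0 (-1) 0 0 (-1) 1 (-1) 0), (181, 20, m8 1 (-1) 0 (-1) 0 0 (-1) 0), (182, 21, m8 1 (-1) 0 0 (-1) 0 0 (-1)), (183, 24, m8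 0 (-1) (-1) 0 0 0 (-1) 1), (184, 25, m8 0 (-1) (-1) 1 (-1) 0 0 0), (185, 22, m8 1 (-1) (-1) 0 0 (-1) 0 0), (186, 0, m8 2 0 0 0 0 0 0 0), (187, 123, m8 0 0 (-1) 0 (-1) 1 0 (-1)), (188, 85, m8 1 0 0 0 0 (-1) 1 (-1)), (189, 110, m8 1 0 0 (-1) (-1) 1 0 0), (190, 104, m8 0 0 (-1) 1 0 1 1 0), (191, 95, m8 0 1 0 0 1 (-1) (-1) 0), (192, 122, m8 1 (-1) (-1) 0 0 (-1) 0 0), (193, 10, m8 0 0 (-1) 1 0 (-1) (-1) 0), (194, 18, m8 0 0 (-1) 1 0 (-1) (-1) 0), (195, 117, m8 0 0 0 1 (-1) 0 1 (-1)), (196, 97, m8 1 0 (-1) 1 0 0 0 1), (197, 112, m8 0 0 (-1) 1 0 1 (-1) 0), (198, 103, m8 1 0 0 1 1 (-1) 0 0), (199, 14, m8 0 (-1) 1 0 0 0 (-1) 1), (200, 6, m8 0 (-1) 1 0 0 0 (-1) 1), (201, 89, m8 0 1 1 (-1) 1 0 0 0), (202, 126, m8 1 (-1) 0 (-1) 0 0 1 0), (203, 114,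 m8 0 1 1 0 0 0 (-1) 1), (204, 105, m8 1 (-1) 0 0 (-1) 0 0 1), (205, 83, m8 0 0 1 0 (-1) 1 0 (-1)), (206, 128, m8 1 0 0 0 0 1 (-1) 1), (207, 9, m8 1 (-1) 0 0 1 0 0 (-1)), (208, 17, m8 1 (-1) 0 0 1 0 0 (-1)), (209, 116, m8 1 0 1 (-1) 0 0 0 (-1)), (210, 93, m8 0 0 0 1 1 0 1 (-1)), (211, 78, m8 0 0 0 1 (-1) 0 (-1) 1), (212, 230, m8 0 0 0 1 (-1) 0 (-1) 1), (213, 82, m8 0 0 (-1) 0 1 (-1) 0 (-1)), (214, 234, m8 0 0 (-1) 0 1 (-1) 0 (-1)), (215, 231, m8 0 0 1 (-1) 0 1 1 0), (216, 79, m8 0 0 1 (-1) 0 1 1 0), (217, 76, m8 1 0 1 0 1 0 (-1) 0), (218, 228, m8 1 0 1 0 1 0 (-1) 0), (219, 241, m8 1 0 (-1) 0 (-1) 0 1 0), (220, 137, m8 1 0 (-1) 0 (-1) 0 1 0), (221, 236, m8 0 1 (-1) 1 1 0 0 0), (222, 132, m8 0 1 (-1) 1 1 0 0 0), (223, 136, m8 0 1 0 0 (-1)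 1 (-1) 0), (224, 240, m8 0 1 0 0 (-1) 1 (-1) 0), (225, 133, m8 0 1 1 0 0 0 1 (-1)), (226, 237, m8 0 1 1 0 0 0 1 (-1)), (227, 66, m8 1 0 (-1) 0 (-1) 0 1 0), (228, 218, m8 1 0 (-1) 0 (-1) 0 1 0), (229, 60, m8 0 0 0 (-1) 1 0 1 (-1)), (230, 212, m8 0 0 0 (-1) 1 0 1 (-1)), (231, 215, m8 0 0 (-1) 1 0 (-1) (-1) 0), (232, 63, m8 0 0 (-1) 1 0 (-1) (-1) 0), (233, 62, m8 0 0 1 0 (-1) 1 0 1), (234, 214, m8 0 0 1 0 (-1) 1 0 1), (235, 69, m8 0 1 1 (-1) (-1) 0 0 0), (236, 221, m8 0 1 1 (-1) (-1) 0 0 0), (237, 226, m8 0 1 (-1) 0 0 0 (-1) 1), (238, 74, m8 0 1 (-1) 0 0 0 (-1) 1), (239, 72, m8 0 1 0 0 1 (-1) 1 0), (240, 224, m8 0 1 0 0 1 (-1) 1 0), (241, 219, m8 1 0 1 0 1 0 (-1) 0), (242, 67, m8 1 0 1 0 1 0 (-1) 0), (243, 149, m8 1 (-1) 0 0 (-1) 0 0 (-1)),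 (244, 253, m8 1 (-1) 0 0 (-1) 0 0 (-1)), (245, 154, m8 1 (-1) (-1) 0 0 1 0 0), (246, 258, m8 1 (-1) (-1) 0 0 1 0 0), (247, 256, m8 1 (-1) 0 1 0 0 1 0), (248, 152, m8 1 (-1) 0 1 0 0 1 0), (249, 147, m8 1 0 1 0 1 0 (-1) 0), (250, 251, m8 1 0 1 0 1 0 (-1) 0), (251, 250, m8 1 0 (-1) 0 (-1) 0 1 0), (252, 146, m8 1 0 (-1) 0 (-1) 0 1 0), (253, 244, m8 1 (-1) 0 0 1 0 0 1), (254, 140, m8 1 (-1) 0 0 1 0 0 1), (255, 143, m8 1 (-1) 0 (-1) 0 0 (-1) 0), (256, 247, m8 1 (-1) 0 (-1) 0 0 (-1) 0), (257, 142, m8 1 (-1) 1 0 0 (-1) 0 0), (258, 246, m8 1 (-1) 1 0 0 (-1) 0 0), (259, 274, m8 1 0 (-1) 1 0 0 0 1), (260, 170, m8 1 0 (-1) 1 0 0 0 1), (261, 261, m8 2 0 0 0 0 0 0 0), (262, 157, m8 2 0 0 0 0 0 0 0), (263, 178, m8 1 0 0 0 0 (-1) 1 (-1)), (264, 282,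 m8 1 0 0 0 0 (-1) 1 (-1)), (265, 297, m8 (-1) 0 0 (-1) 1 (-1) 0 0), (266, 283, m8 (-1) 0 0 (-1) 1 (-1) 0 0), (267, 292, m8 0 (-1) (-1) 1 1 0 0 0), (268, 311, m8 0 (-1) (-1) 1 1 0 0 0), (269, 166, m8 2 0 0 0 0 0 0 0), (270, 270, m8 2 0 0 0 0 0 0 0), (271, 175, m8 1 0 0 (-1) (-1) 1 0 0), (272, 279, m8 1 0 0 (-1) (-1) 1 0 0), (273, 155, m8 1 0 1 (-1) 0 0 0 (-1)), (274, 259, m8 1 0 1 (-1) 0 0 0 (-1)), (275, 275, m8 2 0 0 0 0 0 0 0), (276, 171, m8 2 0 0 0 0 0 0 0), (277, 303, m8 (-1) 1 (-1) 0 0 1 0 0), (278, 290, m8 (-1) 1 (-1) 0 0 1 0 0), (279, 272, m8 1 0 0 1 1 (-1) 0 0), (280, 168, m8 1 0 0 1 1 (-1) 0 0), (281, 160, m8 1 0 0 0 0 1 (-1) 1), (282, 264, m8 1 0 0 0 0 1 (-1) 1), (283, 266, m8 (-1) 0 0 1 (-1) 1 0 0), (284, 106, m8 0 1 (-1) 0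 0 0 (-1) 1), (285, 87, m8 0 0 (-1) 0 1 (-1) 0 1), (286, 164, m8 0 1 (-1) 1 1 0 0 0), (287, 8, m8 0 0 1 (-1) 0 1 1 0), (288, 296, m8 (-2) 0 0 0 0 0 0 0), (289, 119, m8 0 0 0 (-1) 1 0 (-1) 1), (290, 278, m8 (-1) 1 1 0 0 (-1) 0 0), (291, 86, m8 0 0 (-1) 0 1 (-1) 0 1), (292, 267, m8 0 (-1) 1 (-1) (-1) 0 0 0), (293, 118, m8 0 0 0 (-1) 1 0 (-1) 1), (294, 173, m8 1 (-1) (-1) 0 0 1 0 0), (295, 5, m8 0 0 1 (-1) 0 1 1 0), (296, 288, m8 (-2) 0 0 0 0 0 0 0), (297, 265, m8 (-1) 0 0 1 (-1) 1 0 0), (298, 113, m8 1 (-1) 0 0 1 0 0 1), (299, 99, m8 0 1 (-1) 0 0 0 (-1) 1), (300, 161, m8 1 0 0 (-1) 1 (-1) 0 0), (301, 301, m8 2 0 0 0 0 0 0 0), (302, 13, m8 0 0 (-1) 1 0 (-1) (-1) 0), (303, 277, m8 (-1) 1 1 0 0 (-1) 0 0), (304, 98, m8 1 0 (-1) 1 0 0 0 1),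 (305, 163, m8 0 1 (-1) 1 1 0 0 0), (306, 124, m8 1 0 0 0 0 1 (-1) 1), (307, 174, m8 1 (-1) (-1) 0 0 1 0 0), (308, 91, m8 1 0 (-1) 1 0 0 0 1), (309, 309, m8 2 0 0 0 0 0 0 0), (310, 16, m8 0 0 (-1) 1 0 (-1) (-1) 0), (311, 268, m8 0 (-1) 1 (-1) (-1) 0 0 0), (312, 129, m8 1 0 0 0 0 1 (-1) 1), (313, 108, m8 1 (-1) 0 0 1 0 0 1), (314, 162, m8 1 0 0 (-1) 1 (-1) 0 0)])
]

set_option maxHeartbeats 4000000 in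
theorem rows2_ok : rows2.all rowOK = true := by decide +kernel

end Cfsg.Agent.Lib.Helper7_J2Out
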