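import Cfsg.Agent.Lib.Helper7_J2OutBase

/-!
# Certified line table for `Out(J₂)` (helper7), chunk 5
Row `(k, [(j, i, u), ...])`: the reflection in line `k` maps line `j` to `u •` line `i`
(lines and units as in `Helper26_IcoData`).  Generated by scratch/j2out/emit.py.
-/

set_option autoImplicit false

namespace Cfsg.Agent.Lib.Helper7_J2Out

open Cfsg.Agent.Lib.Helper26_Ico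

set_option maxHeartbeats 4000000 in
def rows5 : List (ℕ × List (ℕ × ℕ × List ℤ)) := [
  (42, [(0, 171, m8 2 0 0 0 0 0 0 0), (1, 18, m8 0 0 (-1) 1 0 (-1) (-1) 0), (2, 41, m8 (-2) 0 0 0 0 0 0 0), (3, 276, m8 0 0 (-1) 1 0 (-1) (-1) 0), (4, 88, m8 0 (-1) 0 0 1 (-1) (-1) 0), (5, 232, m8 2 0 0 0 0 0 0 0), (6, 210, m8 0 0 (-1) 0 (-1) 1 0 (-1)), (7, 121, m8 1 (-1) 0 1 0 0 (-1) 0), (8, 216, m8 (-2) 0 0 0 0 0 0 0), (9, 187, m8 0 0 0 (-1) (-1) 0 (-1) 1), (10, 34, m8 0 0 (-1) 1 0 (-1) (-1) 0), (11, 11, m8 2 0 0 0 0 0 0 0), (12, 159, m8 0 (-1) 1 (-1) 1 0 0 0), (13, 139, m8 0 (-1) 1 0 0 0 1 (-1)), (14, 43, m8 0 (-1) 0 0 1 (-1) 1 0), (15, 169, m8 1 (-1) 1 0 0 1 0 0), (16, 73, m8 1 (-1) 0 0 1 0 0 1), (17, 53, m8 1 (-1) 0 1 0 0 1 0), (18, 1, m8 0 0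 1 (-1) 0 1 1 0), (19, 186, m8 0 0 1 (-1) 0 1 1 0), (20, 128, m8 1 (-1) 0 0 (-1) 0 0 1), (21, 237, m8 0 0 1 (-1) 0 1 1 0), (22, 259, m8 0 0 1 (-1) 0 1 1 0), (23, 97, m8 0 (-1) (-1) 0 0 0 1 (-1)), (24, 253, m8 0 0 1 (-1) 0 1 1 0), (25, 282, m8 0 0 1 (-1) 0 1 1 0), (26, 193, m8 0 0 1 (-1) 0 1 1 0), (27, 275, m8 2 0 0 0 0 0 0 0), (28, 117, m8 1 0 1 (-1) 0 0 0 (-1)), (29, 83, m8 1 0 0 0 0 (-1) 1 (-1)), (30, 133, m8 1 (-1) 0 0 (-1) 0 0 (-1)), (31, 149, m8 0 1 1 0 0 0 1 (-1)), (32, 178, m8 0 0 1 0 (-1) 1 0 (-1)), (33, 155, m8 0 0 0 1 (-1) 0 1 (-1)), (34, 10, m8 0 0 1 (-1) 0 1 1 0), (35, 261, m8 1 0 0 0 0 (-1) 1 (-1)), (36, 264, m8 0 0 1 0 (-1) 1 0 (-1)), (37, 114, m8 1 (-1) 1 0 0 1 0 0), (38, 251, m8 1 0 1 (-1) 0 0 0 (-1)), (39, 104, m8 0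 1 (-1) 0 0 0 1 (-1)), (40, 236, m8 0 1 1 0 0 0 1 (-1)), (41, 2, m8 (-2) 0 0 0 0 0 0 0), (42, 42, m8 (-2) 0 0 0 0 0 0 0), (43, 14, m8 0 (-1) 0 0 (-1) 1 (-1) 0), (44, 170, m8 0 0 0 0 (-2) 0 0 0), (45, 241, m8 1 0 0 0 0 (-1) 1 (-1)), (46, 105, m8 0 1 (-1) 1 (-1) 0 0 0), (47, 199, m8 0 0 0 1 (-1) 0 1 (-1)), (48, 185, m8 1 0 1 (-1) 0 0 0 (-1)), (49, 258, m8 1 (-1) 0 0 (-1) 0 0 (-1)), (50, 112, m8 1 (-1) 0 0 1 0 0 (-1)), (51, 89, m8 0 0 1 (-1) 0 (-1) 1 0), (52, 122, m8 0 0 1 (-1) 0 (-1) (-1) 0), (53, 17, m8 1 (-1) 0 (-1) 0 0 (-1) 0), (54, 160, m8 0 0 2 0 0 0 0 0), (55, 184, m8 1 0 0 0 0 (-1) 1 (-1)), (56, 208, m8 0 0 1 0 (-1) 1 0 (-1)), (57, 274, m8 0 0 0 1 (-1) 0 1 (-1)), (58, 270, m8 1 0 1 (-1) 0 0 0 (-1)), (59, 119, m8 0 1 1 (-1) (-1)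 0 0 0), (60, 76, m8 0 0 1 0 (-1) 1 0 1), (61, 266, m8 1 0 1 0 (-1) 0 1 0), (62, 78, m8 1 0 (-1) 0 (-1) 0 1 0), (63, 244, m8 0 (-1) 1 0 0 0 1 (-1)), (64, 309, m8 0 0 1 (-1) 0 1 1 0), (65, 87, m8 0 1 0 0 1 (-1) 1 0), (66, 82, m8 0 0 0 (-1) 1 0 1 (-1)), (67, 247, m8 1 (-1) 0 0 (-1) 0 0 (-1)), (68, 129, m8 1 0 0 (-1) (-1) 1 0 0), (69, 230, m8 0 0 0 1 (-1) 0 1 (-1)), (70, 106, m8 0 1 0 0 (-1) 1 1 0), (71, 278, m8 1 0 0 0 0 (-1) 1 (-1)), (72, 228, m8 0 0 1 0 (-1) 1 0 (-1)), (73, 16, m8 1 (-1) 0 0 (-1) 0 0 (-1)), (74, 140, m8 0 0 0 0 0 0 2 0), (75, 118, m8 1 (-1) 0 (-1) 0 0 (-1) 0), (76, 60, m8 0 0 (-1) 0 1 (-1) 0 (-1)), (77, 265, m8 1 0 1 0 (-1) 0 (-1) 0), (78, 62, m8 1 0 1 0 1 0 (-1) 0), (79, 226, m8 (-1) 1 0 0 (-1) 0 0 (-1)), (80, 301,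 m8 0 0 (-1) 1 0 (-1) (-1) 0), (81, 86, m8 1 (-1) 1 0 0 (-1) 0 0), (82, 66, m8 0 0 0 1 (-1) 0 (-1) 1), (83, 29, m8 1 0 0 0 0 1 (-1) 1), (84, 115, m8 1 0 0 (-1) (-1) 1 0 0), (85, 188, m8 0 0 2 0 0 0 0 0), (86, 81, m8 1 (-1) (-1) 0 0 1 0 0), (87, 65, m8 0 1 0 0 (-1) 1 (-1) 0), (88, 4, m8 0 (-1) 0 0 (-1) 1 1 0), (89, 51, m8 0 0 (-1) 1 0 1 (-1) 0), (90, 177, m8 0 0 (-1) 0 (-1) 1 0 (-1)), (91, 223, m8 0 1 (-1) 0 0 0 1 (-1)), (92, 92, m8 2 0 0 0 0 0 0 0), (93, 196, m8 (-1) 0 1 (-1) 0 0 0 (-1)), (94, 286, m8 (-1) 1 0 (-1) 0 0 (-1) 0), (95, 298, m8 0 (-1) 1 (-1) (-1) 0 0 0), (96, 165, m8 1 0 1 (-1) 0 0 0 (-1)), (97, 23, m8 0 (-1) 1 0 0 0 (-1) 1), (98, 145, m8 1 0 0 (-1) (-1) 1 0 0), (99, 229, m8 1 (-1) 1 0 0 (-1) 0 0), (100, 242, m8 0 1 1 (-1)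 (-1) 0 0 0), (101, 235, m8 1 0 0 1 (-1) 1 0 0), (102, 135, m8 1 0 1 0 1 0 (-1) 0), (103, 291, m8 (-1) 0 1 0 1 0 (-1) 0), (104, 39, m8 0 1 1 0 0 0 (-1) 1), (105, 46, m8 0 1 1 (-1) 1 0 0 0), (106, 70, m8 0 1 0 0 1 (-1) (-1) 0), (107, 252, m8 1 (-1) 1 0 0 (-1) 0 0), (108, 213, m8 0 1 1 (-1) (-1) 0 0 0), (109, 257, m8 1 0 0 1 (-1) 1 0 0), (110, 289, m8 (-1) 0 (-1) 0 (-1) 0 1 0), (111, 151, m8 1 0 (-1) 0 (-1) 0 1 0), (112, 50, m8 1 (-1) 0 0 (-1) 0 0 1), (113, 141, m8 1 (-1) 0 (-1) 0 0 1 0), (114, 37, m8 1 (-1) (-1) 0 0 (-1) 0 0), (115, 84, m8 1 0 0 1 1 (-1) 0 0), (116, 209, m8 0 0 0 0 (-2) 0 0 0), (117, 28, m8 1 0 (-1) 1 0 0 0 1), (118, 75, m8 1 (-1) 0 1 0 0 1 0), (119, 59, m8 0 1 (-1) 1 1 0 0 0), (120, 156, m8 0 0 0 1 1 0 1 (-1)), (121,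 7, m8 1 (-1) 0 (-1) 0 0 1 0), (122, 52, m8 0 0 (-1) 1 0 1 1 0), (123, 206, m8 (-1) 0 0 0 0 (-1) 1 (-1)), (124, 248, m8 1 (-1) 0 0 1 0 0 (-1)), (125, 125, m8 2 0 0 0 0 0 0 0), (126, 284, m8 (-1) 1 1 0 0 (-1) 0 0), (127, 294, m8 0 (-1) 0 0 1 (-1) 1 0), (128, 20, m8 1 (-1) 0 0 1 0 0 (-1)), (129, 68, m8 1 0 0 1 1 (-1) 0 0), (130, 158, m8 1 0 0 0 0 (-1) 1 (-1)), (131, 271, m8 1 0 (-1) 1 0 0 0 (-1)), (132, 304, m8 0 0 0 (-1) 1 0 1 (-1)), (133, 30, m8 1 (-1) 0 0 1 0 0 1), (134, 150, m8 0 0 1 (-1) 0 1 1 0), (135, 102, m8 1 0 (-1) 0 (-1) 0 1 0), (136, 306, m8 (-1) 0 (-1) 0 (-1) 0 1 0), (137, 190, m8 0 0 1 0 1 (-1) 0 (-1)), (138, 300, m8 0 0 1 0 (-1) 1 0 1), (139, 13, m8 0 (-1) (-1) 0 0 0 (-1) 1), (140, 74, m8 0 0 0 0 0 0 (-2) 0), (141, 113,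 m8 1 (-1) 0 1 0 0 (-1) 0), (142, 214, m8 0 0 1 0 (-1) 1 0 (-1)), (143, 218, m8 0 0 0 1 (-1) 0 1 (-1)), (144, 267, m8 1 0 1 (-1) 0 0 0 (-1)), (145, 98, m8 1 0 0 1 1 (-1) 0 0), (146, 224, m8 0 1 1 0 0 0 1 (-1)), (147, 197, m8 0 0 0 (-1) (-1) 0 1 (-1)), (148, 314, m8 0 0 0 1 (-1) 0 (-1) 1), (149, 31, m8 0 1 (-1) 0 0 0 (-1) 1), (150, 134, m8 0 0 (-1) 1 0 (-1) (-1) 0), (151, 111, m8 1 0 1 0 1 0 (-1) 0), (152, 308, m8 (-1) 0 1 0 1 0 (-1) 0), (153, 280, m8 1 0 0 0 0 1 1 (-1)), (154, 312, m8 0 0 (-1) 0 1 (-1) 0 (-1)), (155, 33, m8 0 0 0 (-1) 1 0 (-1) 1), (156, 120, m8 0 0 0 (-1) (-1) 0 (-1) 1), (157, 205, m8 1 0 0 0 0 (-1) 1 (-1)), (158, 130, m8 1 0 0 0 0 1 (-1) 1), (159, 12, m8 0 (-1) (-1) 1 (-1) 0 0 0), (160, 54, m8 0 0 (-2) 0 0 0 0 0), (161,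 245, m8 1 (-1) 0 0 (-1) 0 0 (-1)), (162, 222, m8 0 1 1 0 0 0 1 (-1)), (163, 233, m8 1 (-1) 0 0 (-1) 0 0 (-1)), (164, 220, m8 0 1 1 0 0 0 1 (-1)), (165, 96, m8 1 0 (-1) 1 0 0 0 1), (166, 195, m8 1 0 1 (-1) 0 0 0 (-1)), (167, 255, m8 1 0 0 0 0 (-1) 1 (-1)), (168, 191, m8 0 0 1 0 (-1) 1 0 (-1)), (169, 15, m8 1 (-1) (-1) 0 0 (-1) 0 0), (170, 44, m8 0 0 0 0 2 0 0 0), (171, 0, m8 2 0 0 0 0 0 0 0), (172, 172, m8 2 0 0 0 0 0 0 0), (173, 249, m8 1 (-1) 0 0 (-1) 0 0 (-1)), (174, 211, m8 0 1 1 0 0 0 1 (-1)), (175, 202, m8 0 0 0 1 (-1) 0 1 (-1)), (176, 239, m8 1 0 1 (-1) 0 0 0 (-1)), (177, 90, m8 0 0 1 0 1 (-1) 0 1), (178, 32, m8 0 0 (-1) 0 1 (-1) 0 1), (179, 179, m8 2 0 0 0 0 0 0 0), (180, 200, m8 0 0 0 1 1 0 1 (-1)), (181, 207, m8 0 0 (-1) 0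 (-1) 1 0 (-1)), (182, 287, m8 (-1) 1 0 0 1 0 0 1), (183, 295, m8 0 (-1) (-1) 0 0 0 (-1) 1), (184, 55, m8 1 0 0 0 0 1 (-1) 1), (185, 48, m8 1 0 (-1) 1 0 0 0 1), (186, 19, m8 0 0 (-1) 1 0 (-1) (-1) 0), (187, 9, m8 0 0 0 1 1 0 1 (-1)), (188, 85, m8 0 0 (-2) 0 0 0 0 0), (189, 297, m8 1 0 0 0 0 (-1) (-1) 1), (190, 137, m8 0 0 (-1) 0 (-1) 1 0 1), (191, 168, m8 0 0 (-1) 0 1 (-1) 0 1), (192, 256, m8 0 0 1 0 1 (-1) 0 1), (193, 26, m8 0 0 (-1) 1 0 (-1) (-1) 0), (194, 194, m8 2 0 0 0 0 0 0 0), (195, 166, m8 1 0 (-1) 1 0 0 0 1), (196, 93, m8 (-1) 0 (-1) 1 0 0 0 1), (197, 147, m8 0 0 0 1 1 0 (-1) 1), (198, 283, m8 1 0 1 (-1) 0 0 0 1), (199, 47, m8 0 0 0 (-1) 1 0 (-1) 1), (200, 180, m8 0 0 0 (-1) (-1) 0 (-1) 1), (201, 240, m8 0 0 0 (-1) (-1) 0 (-1)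 1), (202, 175, m8 0 0 0 (-1) 1 0 (-1) 1), (203, 292, m8 1 0 (-1) 0 1 0 (-1) 0), (204, 290, m8 1 0 (-1) 0 1 0 1 0), (205, 157, m8 1 0 0 0 0 1 (-1) 1), (206, 123, m8 (-1) 0 0 0 0 1 (-1) 1), (207, 181, m8 0 0 1 0 1 (-1) 0 1), (208, 56, m8 0 0 (-1) 0 1 (-1) 0 1), (209, 116, m8 0 0 0 0 2 0 0 0), (210, 6, m8 0 0 1 0 1 (-1) 0 1), (211, 174, m8 0 1 (-1) 0 0 0 (-1) 1), (212, 250, m8 0 0 (-1) 1 0 (-1) (-1) 0), (213, 108, m8 0 1 (-1) 1 1 0 0 0), (214, 142, m8 0 0 (-1) 0 1 (-1) 0 1), (215, 231, m8 (-2) 0 0 0 0 0 0 0), (216, 8, m8 (-2) 0 0 0 0 0 0 0), (217, 268, m8 0 0 0 (-1) (-1) 0 (-1) 1), (218, 143, m8 0 0 0 (-1) 1 0 (-1) 1), (219, 234, m8 0 0 (-1) 1 0 (-1) (-1) 0), (220, 164, m8 0 1 (-1) 0 0 0 (-1) 1), (221, 246, m8 0 0 (-1) 1 0 (-1) (-1) 0),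 (222, 162, m8 0 1 (-1) 0 0 0 (-1) 1), (223, 91, m8 0 1 1 0 0 0 (-1) 1), (224, 146, m8 0 1 (-1) 0 0 0 (-1) 1), (225, 296, m8 0 (-1) (-1) 0 0 0 (-1) 1), (226, 79, m8 (-1) 1 0 0 1 0 0 1), (227, 277, m8 0 0 1 0 1 (-1) 0 1), (228, 72, m8 0 0 (-1) 0 1 (-1) 0 1), (229, 99, m8 1 (-1) (-1) 0 0 1 0 0), (230, 69, m8 0 0 0 (-1) 1 0 (-1) 1), (231, 215, m8 (-2) 0 0 0 0 0 0 0), (232, 5, m8 2 0 0 0 0 0 0 0), (233, 163, m8 1 (-1) 0 0 1 0 0 1), (234, 219, m8 0 0 1 (-1) 0 1 1 0), (235, 101, m8 1 0 0 (-1) 1 (-1) 0 0), (236, 40, m8 0 1 (-1) 0 0 0 (-1) 1), (237, 21, m8 0 0 (-1) 1 0 (-1) (-1) 0), (238, 238, m8 2 0 0 0 0 0 0 0), (239, 176, m8 1 0 (-1) 1 0 0 0 1), (240, 201, m8 0 0 0 1 1 0 1 (-1)), (241, 45, m8 1 0 0 0 0 1 (-1) 1), (242, 100, m8 0 1 (-1) 1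 1 0 0 0), (243, 288, m8 (-1) 1 0 0 1 0 0 1), (244, 63, m8 0 (-1) (-1) 0 0 0 (-1) 1), (245, 161, m8 1 (-1) 0 0 1 0 0 1), (246, 221, m8 0 0 1 (-1) 0 1 1 0), (247, 67, m8 1 (-1) 0 0 1 0 0 1), (248, 124, m8 1 (-1) 0 0 (-1) 0 0 1), (249, 173, m8 1 (-1) 0 0 1 0 0 1), (250, 212, m8 0 0 1 (-1) 0 1 1 0), (251, 38, m8 1 0 (-1) 1 0 0 0 1), (252, 107, m8 1 (-1) (-1) 0 0 1 0 0), (253, 24, m8 0 0 (-1) 1 0 (-1) (-1) 0), (254, 254, m8 2 0 0 0 0 0 0 0), (255, 167, m8 1 0 0 0 0 1 (-1) 1), (256, 192, m8 0 0 (-1) 0 (-1) 1 0 (-1)), (257, 109, m8 1 0 0 (-1) 1 (-1) 0 0), (258, 49, m8 1 (-1) 0 0 1 0 0 1), (259, 22, m8 0 0 (-1) 1 0 (-1) (-1) 0), (260, 260, m8 2 0 0 0 0 0 0 0), (261, 35, m8 1 0 0 0 0 1 (-1) 1), (262, 263, m8 0 0 (-1) 0 (-1) 1 0 (-1)), (263,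 262, m8 0 0 1 0 1 (-1) 0 1), (264, 36, m8 0 0 (-1) 0 1 (-1) 0 1), (265, 77, m8 1 0 (-1) 0 1 0 1 0), (266, 61, m8 1 0 (-1) 0 1 0 (-1) 0), (267, 144, m8 1 0 (-1) 1 0 0 0 1), (268, 217, m8 0 0 0 1 1 0 1 (-1)), (269, 273, m8 0 0 0 1 1 0 1 (-1)), (270, 58, m8 1 0 (-1) 1 0 0 0 1), (271, 131, m8 1 0 1 (-1) 0 0 0 1), (272, 293, m8 0 0 0 1 1 0 (-1) 1), (273, 269, m8 0 0 0 (-1) (-1) 0 (-1) 1), (274, 57, m8 0 0 0 (-1) 1 0 (-1) 1), (275, 27, m8 2 0 0 0 0 0 0 0), (276, 3, m8 0 0 1 (-1) 0 1 1 0), (277, 227, m8 0 0 (-1) 0 (-1) 1 0 (-1)), (278, 71, m8 1 0 0 0 0 1 (-1) 1), (279, 285, m8 0 0 (-1) 0 (-1) 1 0 1), (280, 153, m8 1 0 0 0 0 (-1) (-1) 1), (281, 281, m8 2 0 0 0 0 0 0 0), (282, 25, m8 0 0 (-1) 1 0 (-1) (-1) 0), (283, 198, m8 1 0 (-1) 1 0 0 0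 (-1)), (284, 126, m8 (-1) 1 (-1) 0 0 1 0 0), (285, 279, m8 0 0 1 0 1 (-1) 0 (-1)), (286, 94, m8 (-1) 1 0 1 0 0 1 0), (287, 182, m8 (-1) 1 0 0 (-1) 0 0 (-1)), (288, 243, m8 (-1) 1 0 0 (-1) 0 0 (-1)), (289, 110, m8 (-1) 0 1 0 1 0 (-1) 0), (290, 204, m8 1 0 1 0 (-1) 0 (-1) 0), (291, 103, m8 (-1) 0 (-1) 0 (-1) 0 1 0), (292, 203, m8 1 0 1 0 (-1) 0 1 0), (293, 272, m8 0 0 0 (-1) (-1) 0 1 (-1)), (294, 127, m8 0 (-1) 0 0 (-1) 1 (-1) 0), (295, 183, m8 0 (-1) 1 0 0 0 1 (-1)), (296, 225, m8 0 (-1) 1 0 0 0 1 (-1)), (297, 189, m8 1 0 0 0 0 1 1 (-1)), (298, 95, m8 0 (-1) (-1) 1 1 0 0 0), (299, 311, m8 0 0 1 0 (-1) 1 0 1), (300, 138, m8 0 0 (-1) 0 1 (-1) 0 (-1)), (301, 80, m8 0 0 1 (-1) 0 1 1 0), (302, 310, m8 0 0 (-1) 1 0 (-1) (-1) 0), (303, 313,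 m8 0 0 0 (-1) 1 0 1 (-1)), (304, 132, m8 0 0 0 1 (-1) 0 (-1) 1), (305, 307, m8 1 0 (-1) 0 (-1) 0 1 0), (306, 136, m8 (-1) 0 1 0 1 0 (-1) 0), (307, 305, m8 1 0 1 0 1 0 (-1) 0), (308, 152, m8 (-1) 0 (-1) 0 (-1) 0 1 0), (309, 64, m8 0 0 (-1) 1 0 (-1) (-1) 0), (310, 302, m8 0 0 1 (-1) 0 1 1 0), (311, 299, m8 0 0 (-1) 0 1 (-1) 0 (-1)), (312, 154, m8 0 0 1 0 (-1) 1 0 1), (313, 303, m8 0 0 0 1 (-1) 0 (-1) 1), (314, 148, m8 0 0 0 (-1) 1 0 1 (-1))])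
]

set_option maxHeartbeats 4000000 in
theorem rows5_ok : rows5.all rowOK = true := by decide +kernel

end Cfsg.Agent.Lib.Helper7_J2Out
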