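import Cfsg.Agent.Lib.Helper7_J2OutBase

/-!
# Certified line table for `Out(J₂)` (helper7), chunk 7
Row `(k, [(j, i, u), ...])`: the reflection in line `k` maps line `j` to `u •` line `i`
(lines and units as in `Helper26_IcoData`).  Generated by scratch/j2out/emit.py.
-/

set_option autoImplicit false

namespace Cfsg.Agent.Lib.Helper7_J2Out

open Cfsg.Agent.Lib.Helper26_Ico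

set_option maxHeartbeats 4000000 in
def rows7 : List (ℕ × List (ℕ × ℕ × List ℤ)) := [
  (109, [(0, 104, m8 2 0 0 0 0 0 0 0), (5, 73, m8 (-1) 0 0 1 (-1) 1 0 0), (8, 249, m8 0 0 1 (-1) 0 1 1 0), (45, 45, m8 2 0 0 0 0 0 0 0), (73, 5, m8 (-1) 0 0 (-1) 1 (-1) 0 0), (140, 140, m8 2 0 0 0 0 0 0 0)]),
  (110, [(0, 103, m8 2 0 0 0 0 0 0 0), (5, 305, m8 0 0 0 0 0 0 (-2) 0), (8, 289, m8 0 0 0 0 0 0 (-2) 0), (42, 216, m8 (-1) 0 (-1) 0 1 0 (-1) 0), (171, 238, m8 1 0 1 0 (-1) 0 (-1) 0), (189, 189, m8 2 0 0 0 0 0 0 0)]),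
  (111, [(0, 102, m8 2 0 0 0 0 0 0 0), (37, 27, m8 1 0 0 1 1 (-1) 0 0)]),
  (112, [(0, 101, m8 2 0 0 0 0 0 0 0), (197, 27, m8 (-1) 0 0 1 1 (-1) 0 0)]),
  (113, [(0, 100, m8 2 0 0 0 0 0 0 0), (298, 27, m8 (-1) 0 0 1 (-1) 1 0 0)]),
  (114, [(0, 99, m8 2 0 0 0 0 0 0 0), (203, 240, m8 0 1 0 0 1 (-1) 1 0)]),
  (115, [(0, 98, m8 2 0 0 0 0 0 0 0), (40, 131, m8 0 1 1 (-1) (-1) 0 0 0)]),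
  (116, [(0, 97, m8 2 0 0 0 0 0 0 0), (5, 298, m8 1 (-1) 0 1 0 0 (-1) 0), (8, 286, m8 1 (-1) 0 1 0 0 (-1) 0), (56, 229, m8 (-1) 0 1 0 (-1) 0 1 0), (157, 257, m8 1 0 (-1) 0 (-1) 0 (-1) 0), (209, 209, m8 2 0 0 0 0 0 0 0)]),
  (117, [(0, 96, m8 2 0 0 0 0 0 0 0), (195, 27, m8 (-1) 0 (-1) 1 0 0 0 1)]),
  (118, [(0, 95, m8 2 0 0 0 0 0 0 0), (5, 204, m8 0 0 2 0 0 0 0 0), (8, 177, m8 0 0 0 0 0 0 2 0), (36, 36, m8 2 0 0 0 0 0 0 0), (177, 8, m8 0 0 0 0 0 0 (-2) 0), (293, 293, m8 2 0 0 0 0 0 0 0)]),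
  (119, [(0, 94, m8 2 0 0 0 0 0 0 0), (289, 27, m8 (-1) 1 1 0 0 (-1) 0 0)]),
  (120, [(0, 93, m8 2 0 0 0 0 0 0 0), (5, 220, m8 1 (-1) 0 0 (-1) 0 0 1), (8, 141, m8 1 0 0 (-1) 1 (-1) 0 0), (43, 43, m8 2 0 0 0 0 0 0 0), (72, 72, m8 2 0 0 0 0 0 0 0), (141, 8, m8 1 0 0 1 (-1) 1 0 0)]),
  (121, [(0, 92, m8 2 0 0 0 0 0 0 0), (57, 27, m8 1 0 (-1) 1 0 0 0 1)]),
  (122, [(0, 91, m8 2 0 0 0 0 0 0 0), (192, 253, m8 1 (-1) 0 0 1 0 0 1)]),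
  (123, [(0, 90, m8 2 0 0 0 0 0 0 0), (187, 27, m8 (-1) 0 0 0 0 (-1) 1 (-1))]),
  (124, [(0, 89, m8 2 0 0 0 0 0 0 0), (5, 192, m8 1 (-1) 0 1 0 0 (-1) 0), (8, 176, m8 0 (-1) 1 (-1) (-1) 0 0 0), (37, 37, m8 2 0 0 0 0 0 0 0), (176, 8, m8 0 (-1) (-1) 1 1 0 0 0), (306, 306, m8 2 0 0 0 0 0 0 0)]),
  (125, [(0, 88, m8 2 0 0 0 0 0 0 0), (54, 27, m8 1 0 0 0 0 (-1) 1 (-1))]),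
  (126, [(0, 87, m8 2 0 0 0 0 0 0 0), (202, 258, m8 1 (-1) 1 0 0 (-1) 0 0)]),
  (127, [(0, 86, m8 2 0 0 0 0 0 0 0), (50, 134, m8 0 1 (-1) 0 0 0 (-1) 1)]),
  (128, [(0, 85, m8 2 0 0 0 0 0 0 0), (5, 304, m8 0 (-1) 0 0 1 (-1) (-1) 0), (8, 314, m8 0 (-1) 0 0 1 (-1) (-1) 0), (47, 233, m8 (-1) 0 (-1) 0 (-1) 0 (-1) 0), (166, 255, m8 1 0 (-1) 0 1 0 1 0), (206, 206, m8 2 0 0 0 0 0 0 0)]),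
  (129, [(0, 84, m8 2 0 0 0 0 0 0 0), (312, 27, m8 0 (-1) 1 (-1) (-1) 0 0 0)]),
  (130, [(0, 83, m8 2 0 0 0 0 0 0 0), (5, 220, m8 0 (-1) (-1) 0 0 0 1 (-1)), (8, 144, m8 1 0 0 (-1) 1 (-1) 0 0), (35, 35, m8 2 0 0 0 0 0 0 0), (69, 69, m8 2 0 0 0 0 0 0 0), (144, 8, m8 1 0 0 1 (-1) 1 0 0)]),
  (131, [(0, 82, m8 2 0 0 0 0 0 0 0), (70, 40, m8 1 (-1) (-1) 0 0 (-1) 0 0)]),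
  (132, [(0, 81, m8 2 0 0 0 0 0 0 0), (222, 27, m8 (-1) 1 0 (-1) 0 0 (-1) 0)]),
  (133, [(0, 80, m8 2 0 0 0 0 0 0 0), (225, 27, m8 (-1) 1 0 0 1 0 0 1)]),
  (134, [(0, 79, m8 2 0 0 0 0 0 0 0), (73, 50, m8 1 (-1) 0 (-1) 0 0 1 0)]),
  (135, [(0, 78, m8 2 0 0 0 0 0 0 0), (71, 52, m8 1 (-1) 0 0 (-1) 0 0 1)]),
  (136, [(0, 77, m8 2 0 0 0 0 0 0 0), (223, 27, m8 (-1) 1 1 0 0 (-1) 0 0)]),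
  (137, [(0, 76, m8 2 0 0 0 0 0 0 0), (220, 310, m8 (-1) 0 (-1) 0 1 0 1 0)]),
  (138, [(0, 75, m8 2 0 0 0 0 0 0 0), (68, 27, m8 1 0 1 0 1 0 (-1) 0)]),
  (139, [(0, 74, m8 2 0 0 0 0 0 0 0), (150, 94, m8 0 1 0 0 (-1) 1 1 0)]),
  (140, [(0, 73, m8 2 0 0 0 0 0 0 0), (254, 27, m8 0 0 (-1) 1 0 (-1) (-1) 0)]),
  (141, [(0, 72, m8 2 0 0 0 0 0 0 0), (153, 84, m8 0 1 (-1) 1 (-1) 0 0 0)]),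
  (142, [(0, 71, m8 2 0 0 0 0 0 0 0), (257, 27, m8 0 0 0 (-1) 1 0 1 (-1))]),
  (143, [(0, 70, m8 2 0 0 0 0 0 0 0), (255, 27, m8 0 0 1 0 (-1) 1 0 1)]),
  (144, [(0, 69, m8 2 0 0 0 0 0 0 0), (151, 107, m8 0 1 (-1) 0 0 0 1 (-1))]),
  (145, [(0, 68, m8 2 0 0 0 0 0 0 0), (148, 27, m8 1 0 1 0 1 0 (-1) 0)]),
  (146, [(0, 67, m8 2 0 0 0 0 0 0 0), (252, 8, m8 (-1) 0 0 (-1) 1 (-1) 0 0)]),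
  (147, [(0, 66, m8 2 0 0 0 0 0 0 0), (249, 302, m8 (-1) 0 (-1) 0 1 0 (-1) 0)]),
  (148, [(0, 65, m8 2 0 0 0 0 0 0 0), (145, 27, m8 1 0 (-1) 0 (-1) 0 1 0)]),
  (149, [(0, 64, m8 2 0 0 0 0 0 0 0), (243, 27, m8 0 (-1) (-1) 0 0 0 (-1) 1)]),
  (150, [(0, 63, m8 2 0 0 0 0 0 0 0), (139, 39, m8 0 1 0 0 1 (-1) (-1) 0)]),
  (151, [(0, 62, m8 2 0 0 0 0 0 0 0), (144, 51, m8 0 1 1 0 0 0 (-1) 1)]),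
  (152, [(0, 61, m8 2 0 0 0 0 0 0 0), (248, 27, m8 0 (-1) 1 (-1) (-1) 0 0 0)]),
  (153, [(0, 60, m8 2 0 0 0 0 0 0 0), (141, 49, m8 0 1 1 (-1) 1 0 0 0)]),
  (154, [(0, 59, m8 2 0 0 0 0 0 0 0), (245, 27, m8 0 (-1) 0 0 1 (-1) 1 0)]),
  (155, [(0, 58, m8 2 0 0 0 0 0 0 0), (273, 27, m8 0 0 0 (-1) 1 0 (-1) 1)]),
  (156, [(0, 57, m8 2 0 0 0 0 0 0 0), (169, 27, m8 1 0 (-1) 1 0 0 0 1)]),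
  (157, [(0, 56, m8 2 0 0 0 0 0 0 0), (5, 239, m8 1 0 0 0 0 (-1) 1 (-1)), (8, 257, m8 (-1) 0 0 0 0 1 (-1) 1), (97, 300, m8 1 0 1 0 1 0 1 0), (116, 286, m8 (-1) 0 1 0 (-1) 0 (-1) 0), (262, 262, m8 2 0 0 0 0 0 0 0)]),
  (158, [(0, 55, m8 2 0 0 0 0 0 0 0), (158, 158, m8 (-2) 0 0 0 0 0 0 0)]),
  (159, [(0, 54, m8 2 0 0 0 0 0 0 0), (177, 27, m8 1 0 0 0 0 (-1) 1 (-1))]),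
  (160, [(0, 53, m8 2 0 0 0 0 0 0 0), (281, 27, m8 0 0 1 0 1 (-1) 0 1)]),
  (161, [(0, 52, m8 2 0 0 0 0 0 0 0), (300, 27, m8 (-1) 1 0 0 (-1) 0 0 (-1))]),
  (162, [(0, 51, m8 2 0 0 0 0 0 0 0), (314, 27, m8 0 (-1) 1 0 0 0 1 (-1))]),
  (163, [(0, 50, m8 2 0 0 0 0 0 0 0), (305, 27, m8 0 0 1 0 (-1) 1 0 (-1))]),
  (164, [(0, 49, m8 2 0 0 0 0 0 0 0), (286, 27, m8 (-1) 0 0 0 0 (-1) 1 (-1))]),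
  (165, [(0, 48, m8 2 0 0 0 0 0 0 0), (165, 165, m8 (-2) 0 0 0 0 0 0 0)]),
  (166, [(0, 47, m8 2 0 0 0 0 0 0 0), (5, 235, m8 1 0 1 (-1) 0 0 0 (-1)), (8, 255, m8 (-1) 0 (-1) 1 0 0 0 1), (85, 294, m8 (-1) 0 1 0 (-1) 0 1 0), (128, 314, m8 1 0 (-1) 0 (-1) 0 (-1) 0), (269, 269, m8 2 0 0 0 0 0 0 0)]),
  (167, [(0, 46, m8 2 0 0 0 0 0 0 0), (176, 27, m8 1 0 0 (-1) (-1) 1 0 0)]),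
  (168, [(0, 45, m8 2 0 0 0 0 0 0 0), (280, 27, m8 0 0 1 (-1) 0 (-1) (-1) 0)]),
  (169, [(0, 44, m8 2 0 0 0 0 0 0 0), (156, 27, m8 1 0 1 (-1) 0 0 0 (-1))]),
  (170, [(0, 43, m8 2 0 0 0 0 0 0 0), (260, 27, m8 0 0 0 (-1) (-1) 0 (-1) 1)]),
  (171, [(0, 42, m8 2 0 0 0 0 0 0 0), (5, 238, m8 2 0 0 0 0 0 0 0), (8, 254, m8 (-2) 0 0 0 0 0 0 0), (103, 307, m8 1 0 1 0 1 0 (-1) 0), (110, 305, m8 1 0 (-1) 0 (-1) 0 1 0), (276, 276, m8 2 0 0 0 0 0 0 0)]),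
  (172, [(0, 41, m8 2 0 0 0 0 0 0 0), (172, 172, m8 (-2) 0 0 0 0 0 0 0)]),
  (173, [(0, 40, m8 2 0 0 0 0 0 0 0), (294, 27, m8 (-1) 0 1 (-1) 0 0 0 (-1))]),
  (174, [(0, 39, m8 2 0 0 0 0 0 0 0), (307, 27, m8 0 0 0 1 (-1) 0 1 (-1))]),
  (175, [(0, 38, m8 2 0 0 0 0 0 0 0), (271, 27, m8 0 0 1 (-1) 0 (-1) 1 0)]),
  (176, [(0, 37, m8 2 0 0 0 0 0 0 0), (167, 27, m8 1 0 0 1 1 (-1) 0 0)]),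
  (177, [(0, 36, m8 2 0 0 0 0 0 0 0), (159, 27, m8 1 0 0 0 0 1 (-1) 1)]),
  (178, [(0, 35, m8 2 0 0 0 0 0 0 0), (263, 27, m8 0 0 (-1) 0 1 (-1) 0 1)]),
  (179, [(0, 34, m8 2 0 0 0 0 0 0 0), (1, 27, m8 (-2) 0 0 0 0 0 0 0)]),
  (180, [(0, 33, m8 2 0 0 0 0 0 0 0), (23, 27, m8 1 (-1) 1 0 0 1 0 0)]),
  (181, [(0, 32, m8 2 0 0 0 0 0 0 0), (20, 27, m8 0 (-1) 1 (-1) 1 0 0 0)]),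
  (182, [(0, 31, m8 2 0 0 0 0 0 0 0), (21, 27, m8 0 (-1) 1 0 0 0 1 (-1))]),
  (183, [(0, 30, m8 2 0 0 0 0 0 0 0), (24, 27, m8 1 (-1) 0 0 1 0 0 1)]),
  (184, [(0, 29, m8 2 0 0 0 0 0 0 0), (25, 27, m8 1 (-1) 0 1 0 0 1 0)]),
  (185, [(0, 28, m8 2 0 0 0 0 0 0 0), (22, 27, m8 0 (-1) 0 0 1 (-1) 1 0)]),
  (186, [(0, 27, m8 2 0 0 0 0 0 0 0)]),
  (187, [(0, 4, m8 0 (-1) 0 0 (-1) 1 1 0)]),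
  (188, [(0, 9, m8 0 (-1) 0 0 (-1) 1 1 0)]),
  (189, [(0, 6, m8 0 0 0 0 (-2) 0 0 0)]),
  (190, [(0, 7, m8 0 0 0 0 (-2) 0 0 0)]),
  (191, [(0, 5, m8 0 (-1) (-1) 1 1 0 0 0)]),
  (192, [(0, 8, m8 0 (-1) (-1) 1 1 0 0 0)]),
  (193, [(0, 3, m8 0 0 (-1) 1 0 (-1) (-1) 0)]),
  (194, [(0, 10, m8 0 0 (-1) 1 0 (-1) (-1) 0)]),
  (195, [(0, 3, m8 0 0 (-1) 0 (-1) 1 0 (-1))]),
  (196, [(0, 10, m8 0 0 (-1) 0 (-1) 1 0 (-1))]),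
  (197, [(0, 4, m8 0 0 (-2) 0 0 0 0 0)]),
  (198, [(0, 9, m8 0 0 (-2) 0 0 0 0 0)]),
  (199, [(0, 6, m8 0 (-1) 1 0 0 0 (-1) 1)]),
  (200, [(0, 7, m8 0 (-1) 1 0 0 0 (-1) 1)]),
  (201, [(0, 5, m8 1 (-1) 1 0 0 (-1) 0 0)]),
  (202, [(0, 8, m8 1 (-1) 1 0 0 (-1) 0 0)]),
  (203, [(0, 5, m8 0 0 0 0 0 0 (-2) 0)]),
  (204, [(0, 8, m8 0 0 0 0 0 0 (-2) 0)]),
  (205, [(0, 3, m8 0 0 0 (-1) (-1) 0 (-1) 1)]),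
  (206, [(0, 10, m8 0 0 0 (-1) (-1) 0 (-1) 1)]),
  (207, [(0, 4, m8 1 (-1) 0 0 1 0 0 (-1))]),
  (208, [(0, 9, m8 1 (-1) 0 0 1 0 0 (-1))]),
  (209, [(0, 6, m8 1 (-1) 0 (-1) 0 0 1 0)]),
  (210, [(0, 7, m8 1 (-1) 0 (-1) 0 0 1 0)]),
  (211, [(0, 298, m8 (-1) 0 (-1) 0 (-1) 0 (-1) 0)]),
  (212, [(0, 299, m8 1 0 1 0 1 0 1 0)]),
  (213, [(0, 304, m8 1 0 (-1) 0 1 0 (-1) 0)]),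
  (214, [(0, 293, m8 (-1) 0 1 0 (-1) 0 1 0)]),
  (215, [(0, 306, m8 1 0 (-1) 0 (-1) 0 1 0)]),
  (216, [(0, 291, m8 (-1) 0 1 0 1 0 (-1) 0)]),
  (217, [(0, 302, m8 1 0 1 0 (-1) 0 (-1) 0)]),
  (218, [(0, 295, m8 (-1) 0 (-1) 0 1 0 1 0)]),
  (219, [(0, 5, m8 1 0 0 1 (-1) 1 0 0)]),
  (220, [(0, 8, m8 1 0 0 1 (-1) 1 0 0)]),
  (221, [(0, 6, m8 1 0 (-1) 1 0 0 0 1)]),
  (222, [(0, 7, m8 1 0 (-1) 1 0 0 0 1)]),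
  (223, [(0, 4, m8 1 0 0 0 0 1 (-1) 1)]),
  (224, [(0, 9, m8 1 0 0 0 0 1 (-1) 1)]),
  (225, [(0, 3, m8 2 0 0 0 0 0 0 0)]),
  (226, [(0, 10, m8 2 0 0 0 0 0 0 0)]),
  (227, [(0, 310, m8 1 0 1 0 (-1) 0 1 0)]),
  (228, [(0, 287, m8 (-1) 0 (-1) 0 1 0 (-1) 0)]),
  (229, [(0, 312, m8 1 0 (-1) 0 1 0 1 0)]),
  (230, [(0, 285, m8 (-1) 0 1 0 (-1) 0 (-1) 0)]),
  (231, [(0, 308, m8 1 0 1 0 1 0 (-1) 0)]),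
  (232, [(0, 289, m8 (-1) 0 (-1) 0 (-1) 0 1 0)]),
  (233, [(0, 284, m8 (-1) 0 1 0 1 0 1 0)]),
  (234, [(0, 313, m8 1 0 (-1) 0 (-1) 0 (-1) 0)]),
  (235, [(0, 314, m8 1 0 (-1) 0 (-1) 0 (-1) 0)]),
  (236, [(0, 283, m8 (-1) 0 1 0 1 0 1 0)]),
  (237, [(0, 290, m8 (-1) 0 (-1) 0 (-1) 0 1 0)]),
  (238, [(0, 307, m8 1 0 1 0 1 0 (-1) 0)]),
  (239, [(0, 286, m8 (-1) 0 1 0 (-1) 0 (-1) 0)]),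
  (240, [(0, 311, m8 1 0 (-1) 0 1 0 1 0)]),
  (241, [(0, 288, m8 (-1) 0 (-1) 0 1 0 (-1) 0)]),
  (242, [(0, 309, m8 1 0 1 0 (-1) 0 1 0)]),
  (243, [(0, 3, m8 (-2) 0 0 0 0 0 0 0)]),
  (244, [(0, 10, m8 (-2) 0 0 0 0 0 0 0)]),
  (245, [(0, 4, m8 (-1) 0 0 0 0 (-1) 1 (-1))]),
  (246, [(0, 9, m8 (-1) 0 0 0 0 (-1) 1 (-1))]),
  (247, [(0, 6, m8 (-1) 0 1 (-1) 0 0 0 (-1))]),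
  (248, [(0, 7, m8 (-1) 0 1 (-1) 0 0 0 (-1))]),
  (249, [(0, 5, m8 (-1) 0 0 (-1) 1 (-1) 0 0)]),
  (250, [(0, 8, m8 (-1) 0 0 (-1) 1 (-1) 0 0)]),
  (251, [(0, 296, m8 (-1) 0 (-1) 0 1 0 1 0)]),
  (252, [(0, 301, m8 1 0 1 0 (-1) 0 (-1) 0)]),
  (253, [(0, 292, m8 (-1) 0 1 0 1 0 (-1) 0)]),
  (254, [(0, 305, m8 1 0 (-1) 0 (-1) 0 1 0)]),
  (255, [(0, 294, m8 (-1) 0 1 0 (-1) 0 1 0)]),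
  (256, [(0, 303, m8 1 0 (-1) 0 1 0 (-1) 0)]),
  (257, [(0, 300, m8 1 0 1 0 1 0 1 0)]),
  (258, [(0, 297, m8 (-1) 0 (-1) 0 (-1) 0 (-1) 0)]),
  (259, [(0, 6, m8 (-1) 1 0 1 0 0 (-1) 0)]),
  (260, [(0, 7, m8 (-1) 1 0 1 0 0 (-1) 0)]),
  (261, [(0, 4, m8 (-1) 1 0 0 (-1) 0 0 1)]),
  (262, [(0, 9, m8 (-1) 1 0 0 (-1) 0 0 1)]),
  (263, [(0, 3, m8 0 0 0 1 1 0 1 (-1))]),
  (264, [(0, 10, m8 0 0 0 1 1 0 1 (-1))]),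
  (265, [(0, 5, m8 0 0 0 0 0 0 2 0)]),
  (266, [(0, 8, m8 0 0 0 0 0 0 2 0)]),
  (267, [(0, 5, m8 (-1) 1 (-1) 0 0 1 0 0)]),
  (268, [(0, 8, m8 (-1) 1 (-1) 0 0 1 0 0)]),
  (269, [(0, 6, m8 0 1 (-1) 0 0 0 1 (-1))]),
  (270, [(0, 7, m8 0 1 (-1) 0 0 0 1 (-1))]),
  (271, [(0, 4, m8 0 0 2 0 0 0 0 0)]),
  (272, [(0, 9, m8 0 0 2 0 0 0 0 0)]),
  (273, [(0, 3, m8 0 0 1 0 1 (-1) 0 1)]),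
  (274, [(0, 10, m8 0 0 1 0 1 (-1) 0 1)]),
  (275, [(0, 3, m8 0 0 1 (-1) 0 1 1 0)]),
  (276, [(0, 10, m8 0 0 1 (-1) 0 1 1 0)]),
  (277, [(0, 5, m8 0 1 1 (-1) (-1) 0 0 0)]),
  (278, [(0, 8, m8 0 1 1 (-1) (-1) 0 0 0)]),
  (279, [(0, 6, m8 0 0 0 0 2 0 0 0)]),
  (280, [(0, 7, m8 0 0 0 0 2 0 0 0)]),
  (281, [(0, 4, m8 0 1 0 0 1 (-1) (-1) 0)]),
  (282, [(0, 9, m8 0 1 0 0 1 (-1) (-1) 0)]),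
  (283, [(0, 234, m8 (-1) 0 (-1) 0 (-1) 0 (-1) 0)]),
  (284, [(0, 235, m8 1 0 1 0 1 0 1 0)]),
  (285, [(0, 240, m8 1 0 (-1) 0 1 0 (-1) 0)]),
  (286, [(0, 229, m8 (-1) 0 1 0 (-1) 0 1 0)]),
  (287, [(0, 242, m8 1 0 (-1) 0 (-1) 0 1 0)]),
  (288, [(0, 227, m8 (-1) 0 1 0 1 0 (-1) 0)]),
  (289, [(0, 238, m8 1 0 1 0 (-1) 0 (-1) 0)]),
  (290, [(0, 231, m8 (-1) 0 (-1) 0 1 0 1 0)]),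
  (291, [(0, 254, m8 1 0 1 0 (-1) 0 1 0)]),
  (292, [(0, 215, m8 (-1) 0 (-1) 0 1 0 (-1) 0)]),
  (293, [(0, 256, m8 1 0 (-1) 0 1 0 1 0)]),
  (294, [(0, 213, m8 (-1) 0 1 0 (-1) 0 (-1) 0)]),
  (295, [(0, 252, m8 1 0 1 0 1 0 (-1) 0)]),
  (296, [(0, 217, m8 (-1) 0 (-1) 0 (-1) 0 1 0)]),
  (297, [(0, 212, m8 (-1) 0 1 0 1 0 1 0)]),
  (298, [(0, 257, m8 1 0 (-1) 0 (-1) 0 (-1) 0)]),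
  (299, [(0, 258, m8 1 0 (-1) 0 (-1) 0 (-1) 0)]),
  (300, [(0, 211, m8 (-1) 0 1 0 1 0 1 0)]),
  (301, [(0, 218, m8 (-1) 0 (-1) 0 (-1) 0 1 0)]),
  (302, [(0, 251, m8 1 0 1 0 1 0 (-1) 0)]),
  (303, [(0, 214, m8 (-1) 0 1 0 (-1) 0 (-1) 0)]),
  (304, [(0, 255, m8 1 0 (-1) 0 1 0 1 0)]),
  (305, [(0, 216, m8 (-1) 0 (-1) 0 1 0 (-1) 0)]),
  (306, [(0, 253, m8 1 0 1 0 (-1) 0 1 0)]),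
  (307, [(0, 232, m8 (-1) 0 (-1) 0 1 0 1 0)]),
  (308, [(0, 237, m8 1 0 1 0 (-1) 0 (-1) 0)]),
  (309, [(0, 228, m8 (-1) 0 1 0 1 0 (-1) 0)]),
  (310, [(0, 241, m8 1 0 (-1) 0 (-1) 0 1 0)]),
  (311, [(0, 230, m8 (-1) 0 1 0 (-1) 0 1 0)]),
  (312, [(0, 239, m8 1 0 (-1) 0 1 0 (-1) 0)]),
  (313, [(0, 236, m8 1 0 1 0 1 0 1 0)]),
  (314, [(0, 233, m8 (-1) 0 (-1) 0 (-1) 0 (-1) 0)])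
]

set_option maxHeartbeats 4000000 in
theorem rows7_ok : rows7.all rowOK = true := by decide +kernel

end Cfsg.Agent.Lib.Helper7_J2Out
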