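import Mathlib

set_option autoImplicit false

/-!
Package G2 of helper7's S2066 (Out(J2) = 2) project: a permutation of a faithful `G`-set that
intertwines the action of each generator `s` with the action of `f s` induces an automorphism of `G`
mapping `s` to `f s`.
-/

namespace Cfsg.Agent.Lib.Helper87_J2OutG2

theorem exists_aut_of_perm {G X : Type*} [Group G] [Finite G] [MulAction G X] [FaithfulSMul G X]
    (P : Equiv.Perm X) (S : Set G) (hS : Subgroup.closure S = ⊤) (f : G → G)
    (hf : ∀ s ∈ S, ∀ x : X, P (s • x) = f s • P x) :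
    ∃ α : MulAut G, ∀ s ∈ S, α s = f s := by
  classical
  let ρ : G →* Equiv.Perm X := MulAction.toPermHom G X
  have hρinj : Function.Injective ρ := MulAction.toPerm_injective
  let ψ : G →* Equiv.Perm X := (MulAut.conj P).toMonoidHom.comp ρ
  have hψ : ∀ g, ψ g = P * ρ g * P⁻¹ := fun g => rfl
  -- on generators, `ψ s = ρ (f s)`
  have hgen : ∀ s ∈ S, ψ s = ρ (f s) := by
    intro s hs
    rw [hψ]
    ext x
    simp only [Equiv.Perm.coe_mul, Function.comp_apply]
    have h1 := hf s hs (P⁻¹ x)
    have h2 : P (P⁻¹ x) = x := by simp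
    rw [h2] at h1
    exact h1
  -- the range of `ψ` lies in the range of `ρ`
  have hrange : ∀ g, ψ g ∈ ρ.range := by
    intro g
    have hK : Subgroup.closure S ≤ (ρ.range).comap ψ := by
      rw [Subgroup.closure_le]
      intro s hs
      simp only [Subgroup.coe_comap, Set.mem_preimage, SetLike.mem_coe]
      rw [hgen s hs]
      exact ⟨f s, rfl⟩
    have : g ∈ (ρ.range).comap ψ := hK (by rw [hS]; trivial)
    exact this
  let e : G ≃* ρ.range := MonoidHom.ofInjective hρinj
  let φ : G →* G := e.symm.toMonoidHom.comp (ψ.codRestrict ρ.range hrange)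
  have hφ : ∀ g, ρ (φ g) = ψ g := by
    intro g
    have h1 : (e (φ g) : Equiv.Perm X) = ρ (φ g) := MonoidHom.ofInjective_apply hρinj
    have h2 : e (φ g) = ψ.codRestrict ρ.range hrange g := by
      simp [φ]
    rw [← h1, h2]
    rfl
  have hφinj : Function.Injective φ := by
    intro a b hab
    apply hρinj
    have h1 : ψ a = ψ b := by rw [← hφ a, ← hφ b, hab]
    rw [hψ, hψ] at h1
    have h2 : P * ρ a = P * ρ b := mul_right_cancel h1
    exact mul_left_cancel h2
  have hφbij : Function.Bijective φ := ⟨hφinj, Finite.injective_iff_surjective.mp hφinj⟩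
  refine ⟨MulEquiv.ofBijective φ hφbij, ?_⟩
  intro s hs
  apply hρinj
  change ρ (φ s) = ρ (f s)
  rw [hφ, hgen s hs]

/-- Indexed form: generators `s i`, targets `t i`. -/
theorem exists_aut_of_perm' {G X ι : Type*} [Group G] [Finite G] [MulAction G X] [FaithfulSMul G X]
    (P : Equiv.Perm X) (s t : ι → G) (hS : Subgroup.closure (Set.range s) = ⊤)
    (hf : ∀ i, ∀ x : X, P (s i • x) = t i • P x) :
    ∃ α : MulAut G, ∀ i, α (s i) = t i := by
  classical
  -- `t i` is determined by `s i`
  have hwd : ∀ i j, s i = s j → t i = t j := by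
    intro i j hij
    apply FaithfulSMul.eq_of_smul_eq_smul (α := X)
    intro x
    have h1 := hf i (P⁻¹ x)
    have h2 := hf j (P⁻¹ x)
    have h3 : P (P⁻¹ x) = x := by simp
    rw [h3] at h1 h2
    rw [← h1, ← h2, hij]
  let f : G → G := fun g => if h : ∃ i, s i = g then t h.choose else 1
  have hfs : ∀ i, f (s i) = t i := by
    intro i
    have h : ∃ j, s j = s i := ⟨i, rfl⟩
    simp only [f, dif_pos h]
    exact hwd _ _ h.choose_spec
  obtain ⟨α, hα⟩ := exists_aut_of_perm P (Set.range s) hS f (by
    rintro _ ⟨i, rfl⟩ x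
    rw [hfs i]
    exact hf i x)
  exact ⟨α, fun i => by rw [hα (s i) ⟨i, rfl⟩, hfs i]⟩

end Cfsg.Agent.Lib.Helper87_J2OutG2
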