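import Cfsg.Agent.Lib.Helper26_IcoData

/-!
# Certificates for the order of `2·J₂` (helper8)
Generated by /tmp/j2/emit.py.
* `multCert`: for each unit icosian `u`, a word in the line reflections mapping `2e₀` to `u·2e₀`.
* `stabCert`: sixteen words fixing `2e₀`, with the images of `2e₁` and `2e₂`.
-/

set_option autoImplicit false

namespace Cfsg.Agent.Lib.Helper8_J2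

open Cfsg.Agent.Lib.Helper26_Ico

def multCert : List (List ℤ × List ℕ) := [
  (m8 (-2) 0 0 0 0 0 0 0, [1, 0]),
  (m8 (-1) 0 (-1) 0 (-1) 0 (-1) 0, [221, 189, 207, 187]),
  (m8 (-1) 0 (-1) 0 (-1) 0 1 0, [259, 189, 197, 187]),
  (m8 (-1) 0 (-1) 0 1 0 (-1) 0, [273, 193, 223, 187]),
  (m8 (-1) 0 (-1) 0 1 0 1 0, [263, 193, 199, 189]),
  (m8 (-1) 0 (-1) 1 0 0 0 (-1), [249, 191, 14, 11]),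
  (m8 (-1) 0 (-1) 1 0 0 0 1, [221, 189, 14, 11]),
  (m8 (-1) 0 0 (-1) (-1) 1 0 0, [245, 187, 13, 11]),
  (m8 (-1) 0 0 (-1) 1 (-1) 0 0, [225, 193, 13, 11]),
  (m8 (-1) 0 0 0 0 (-1) (-1) 1, [259, 189, 12, 11]),
  (m8 (-1) 0 0 0 0 (-1) 1 (-1), [263, 193, 12, 11]),
  (m8 (-1) 0 0 0 0 1 (-1) 1, [261, 187, 12, 11]),
  (m8 (-1) 0 0 0 0 1 1 (-1), [265, 191, 12, 11]),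
  (m8 (-1) 0 0 1 (-1) 1 0 0, [267, 191, 13, 11]),
  (m8 (-1) 0 0 1 1 (-1) 0 0, [199, 189, 13, 11]),
  (m8 (-1) 0 1 (-1) 0 0 0 (-1), [195, 193, 14, 11]),
  (m8 (-1) 0 1 (-1) 0 0 0 1, [271, 187, 14, 11]),
  (m8 (-1) 0 1 0 (-1) 0 (-1) 0, [219, 191, 199, 189]),
  (m8 (-1) 0 1 0 (-1) 0 1 0, [265, 191, 223, 187]),
  (m8 (-1) 0 1 0 1 0 (-1) 0, [243, 193, 197, 187]),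
  (m8 (-1) 0 1 0 1 0 1 0, [267, 191, 207, 187]),
  (m8 (-1) 1 (-1) 0 0 (-1) 0 0, [271, 187, 13, 11]),
  (m8 (-1) 1 (-1) 0 0 1 0 0, [195, 193, 13, 11]),
  (m8 (-1) 1 0 (-1) 0 0 (-1) 0, [265, 191, 14, 11]),
  (m8 (-1) 1 0 (-1) 0 0 1 0, [209, 189, 14, 11]),
  (m8 (-1) 1 0 0 (-1) 0 0 (-1), [199, 189, 12, 11]),
  (m8 (-1) 1 0 0 (-1) 0 0 1, [225, 193, 12, 11]),
  (m8 (-1) 1 0 0 1 0 0 (-1), [223, 187, 12, 11]),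
  (m8 (-1) 1 0 0 1 0 0 1, [201, 191, 12, 11]),
  (m8 (-1) 1 0 1 0 0 (-1) 0, [263, 193, 14, 11]),
  (m8 (-1) 1 0 1 0 0 1 0, [207, 187, 14, 11]),
  (m8 (-1) 1 1 0 0 (-1) 0 0, [219, 191, 13, 11]),
  (m8 (-1) 1 1 0 0 1 0 0, [247, 189, 13, 11]),
  (m8 0 (-1) (-1) 0 0 0 (-1) 1, [201, 191, 14, 11]),
  (m8 0 (-1) (-1) 0 0 0 1 (-1), [269, 189, 14, 11]),
  (m8 0 (-1) (-1) 1 (-1) 0 0 0, [207, 187, 13, 11]),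
  (m8 0 (-1) (-1) 1 1 0 0 0, [263, 193, 13, 11]),
  (m8 0 (-1) 0 0 (-1) 1 (-1) 0, [247, 189, 12, 11]),
  (m8 0 (-1) 0 0 (-1) 1 1 0, [195, 193, 12, 11]),
  (m8 0 (-1) 0 0 1 (-1) (-1) 0, [197, 187, 12, 11]),
  (m8 0 (-1) 0 0 1 (-1) 1 0, [249, 191, 12, 11]),
  (m8 0 (-1) 1 (-1) (-1) 0 0 0, [203, 191, 13, 11]),
  (m8 0 (-1) 1 (-1) 1 0 0 0, [259, 189, 13, 11]),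
  (m8 0 (-1) 1 0 0 0 (-1) 1, [225, 193, 14, 11]),
  (m8 0 (-1) 1 0 0 0 1 (-1), [245, 187, 14, 11]),
  (m8 0 0 (-2) 0 0 0 0 0, [12, 11]),
  (m8 0 0 (-1) 0 (-1) 1 0 (-1), [263, 193]),
  (m8 0 0 (-1) 0 (-1) 1 0 1, [265, 191]),
  (m8 0 0 (-1) 0 1 (-1) 0 (-1), [259, 189]),
  (m8 0 0 (-1) 0 1 (-1) 0 1, [261, 187]),
  (m8 0 0 (-1) 1 0 (-1) (-1) 0, [225, 193]),
  (m8 0 0 (-1) 1 0 (-1) 1 0, [201, 191]),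
  (m8 0 0 (-1) 1 0 1 (-1) 0, [199, 189]),
  (m8 0 0 (-1) 1 0 1 1 0, [223, 187]),
  (m8 0 0 0 (-1) (-1) 0 (-1) 1, [195, 193]),
  (m8 0 0 0 (-1) (-1) 0 1 (-1), [249, 191]),
  (m8 0 0 0 (-1) 1 0 (-1) 1, [247, 189]),
  (m8 0 0 0 (-1) 1 0 1 (-1), [197, 187]),
  (m8 0 0 0 0 (-2) 0 0 0, [14, 11]),
  (m8 0 0 0 0 0 0 (-2) 0, [13, 11]),
  (m8 0 0 0 0 0 0 2 0, [16, 11]),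
  (m8 0 0 0 0 2 0 0 0, [15, 11]),
  (m8 0 0 0 1 (-1) 0 (-1) 1, [271, 187]),
  (m8 0 0 0 1 (-1) 0 1 (-1), [221, 189]),
  (m8 0 0 0 1 1 0 (-1) 1, [219, 191]),
  (m8 0 0 0 1 1 0 1 (-1), [273, 193]),
  (m8 0 0 1 (-1) 0 (-1) (-1) 0, [245, 187]),
  (m8 0 0 1 (-1) 0 (-1) 1 0, [269, 189]),
  (m8 0 0 1 (-1) 0 1 (-1) 0, [267, 191]),
  (m8 0 0 1 (-1) 0 1 1 0, [243, 193]),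
  (m8 0 0 1 0 (-1) 1 0 (-1), [207, 187]),
  (m8 0 0 1 0 (-1) 1 0 1, [209, 189]),
  (m8 0 0 1 0 1 (-1) 0 (-1), [203, 191]),
  (m8 0 0 1 0 1 (-1) 0 1, [205, 193]),
  (m8 0 0 2 0 0 0 0 0, [17, 11]),
  (m8 0 1 (-1) 0 0 0 (-1) 1, [223, 187, 14, 11]),
  (m8 0 1 (-1) 0 0 0 1 (-1), [243, 193, 14, 11]),
  (m8 0 1 (-1) 1 (-1) 0 0 0, [209, 189, 13, 11]),
  (m8 0 1 (-1) 1 1 0 0 0, [265, 191, 13, 11]),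
  (m8 0 1 0 0 (-1) 1 (-1) 0, [219, 191, 12, 11]),
  (m8 0 1 0 0 (-1) 1 1 0, [271, 187, 12, 11]),
  (m8 0 1 0 0 1 (-1) (-1) 0, [273, 193, 12, 11]),
  (m8 0 1 0 0 1 (-1) 1 0, [221, 189, 12, 11]),
  (m8 0 1 1 (-1) (-1) 0 0 0, [205, 193, 13, 11]),
  (m8 0 1 1 (-1) 1 0 0 0, [261, 187, 13, 11]),
  (m8 0 1 1 0 0 0 (-1) 1, [199, 189, 14, 11]),
  (m8 0 1 1 0 0 0 1 (-1), [267, 191, 14, 11]),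
  (m8 1 (-1) (-1) 0 0 (-1) 0 0, [221, 189, 13, 11]),
  (m8 1 (-1) (-1) 0 0 1 0 0, [249, 191, 13, 11]),
  (m8 1 (-1) 0 (-1) 0 0 (-1) 0, [261, 187, 14, 11]),
  (m8 1 (-1) 0 (-1) 0 0 1 0, [205, 193, 14, 11]),
  (m8 1 (-1) 0 0 (-1) 0 0 (-1), [267, 191, 12, 11]),
  (m8 1 (-1) 0 0 (-1) 0 0 1, [245, 187, 12, 11]),
  (m8 1 (-1) 0 0 1 0 0 (-1), [243, 193, 12, 11]),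
  (m8 1 (-1) 0 0 1 0 0 1, [269, 189, 12, 11]),
  (m8 1 (-1) 0 1 0 0 (-1) 0, [259, 189, 14, 11]),
  (m8 1 (-1) 0 1 0 0 1 0, [203, 191, 14, 11]),
  (m8 1 (-1) 1 0 0 (-1) 0 0, [273, 193, 13, 11]),
  (m8 1 (-1) 1 0 0 1 0 0, [197, 187, 13, 11]),
  (m8 1 0 (-1) 0 (-1) 0 (-1) 0, [201, 191, 207, 187]),
  (m8 1 0 (-1) 0 (-1) 0 1 0, [225, 193, 197, 187]),
  (m8 1 0 (-1) 0 1 0 (-1) 0, [203, 191, 223, 187]),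
  (m8 1 0 (-1) 0 1 0 1 0, [249, 191, 199, 189]),
  (m8 1 0 (-1) 1 0 0 0 (-1), [197, 187, 14, 11]),
  (m8 1 0 (-1) 1 0 0 0 1, [273, 193, 14, 11]),
  (m8 1 0 0 (-1) (-1) 1 0 0, [269, 189, 13, 11]),
  (m8 1 0 0 (-1) 1 (-1) 0 0, [201, 191, 13, 11]),
  (m8 1 0 0 0 0 (-1) (-1) 1, [203, 191, 12, 11]),
  (m8 1 0 0 0 0 (-1) 1 (-1), [207, 187, 12, 11]),
  (m8 1 0 0 0 0 1 (-1) 1, [205, 193, 12, 11]),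
  (m8 1 0 0 0 0 1 1 (-1), [209, 189, 12, 11]),
  (m8 1 0 0 1 (-1) 1 0 0, [243, 193, 13, 11]),
  (m8 1 0 0 1 1 (-1) 0 0, [223, 187, 13, 11]),
  (m8 1 0 1 (-1) 0 0 0 (-1), [247, 189, 14, 11]),
  (m8 1 0 1 (-1) 0 0 0 1, [219, 191, 14, 11]),
  (m8 1 0 1 0 (-1) 0 (-1) 0, [205, 193, 199, 189]),
  (m8 1 0 1 0 (-1) 0 1 0, [195, 193, 223, 187]),
  (m8 1 0 1 0 1 0 (-1) 0, [209, 189, 197, 187]),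
  (m8 1 0 1 0 1 0 1 0, [247, 189, 207, 187]),
  (m8 2 0 0 0 0 0 0 0, [])]

def stabCert : List (List ℕ × List ℤ × List ℤ) := [
  ([], m8 0 0 0 0 0 0 0 0 ++ m8 4 0 0 0 0 0 0 0 ++ m8 0 0 0 0 0 0 0 0, m8 0 0 0 0 0 0 0 0 ++ m8 0 0 0 0 0 0 0 0 ++ m8 4 0 0 0 0 0 0 0),
  ([1], m8 0 0 0 0 0 0 0 0 ++ m8 (-4) 0 0 0 0 0 0 0 ++ m8 0 0 0 0 0 0 0 0, m8 0 0 0 0 0 0 0 0 ++ m8 0 0 0 0 0 0 0 0 ++ m8 4 0 0 0 0 0 0 0),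
  ([3], m8 0 0 0 0 0 0 0 0 ++ m8 0 0 0 0 0 0 0 0 ++ m8 4 0 0 0 0 0 0 0, m8 0 0 0 0 0 0 0 0 ++ m8 4 0 0 0 0 0 0 0 ++ m8 0 0 0 0 0 0 0 0),
  ([4], m8 0 0 0 0 0 0 0 0 ++ m8 0 0 0 0 0 0 0 0 ++ m8 0 0 4 0 0 0 0 0, m8 0 0 0 0 0 0 0 0 ++ m8 0 0 (-4) 0 0 0 0 0 ++ m8 0 0 0 0 0 0 0 0),
  ([5], m8 0 0 0 0 0 0 0 0 ++ m8 0 0 0 0 0 0 0 0 ++ m8 0 0 0 0 0 0 4 0, m8 0 0 0 0 0 0 0 0 ++ m8 0 0 0 0 0 0 (-4) 0 ++ m8 0 0 0 0 0 0 0 0),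
  ([6], m8 0 0 0 0 0 0 0 0 ++ m8 0 0 0 0 0 0 0 0 ++ m8 0 0 0 0 4 0 0 0, m8 0 0 0 0 0 0 0 0 ++ m8 0 0 0 0 (-4) 0 0 0 ++ m8 0 0 0 0 0 0 0 0),
  ([7], m8 0 0 0 0 0 0 0 0 ++ m8 0 0 0 0 0 0 0 0 ++ m8 0 0 0 0 (-4) 0 0 0, m8 0 0 0 0 0 0 0 0 ++ m8 0 0 0 0 4 0 0 0 ++ m8 0 0 0 0 0 0 0 0),
  ([8], m8 0 0 0 0 0 0 0 0 ++ m8 0 0 0 0 0 0 0 0 ++ m8 0 0 0 0 0 0 (-4) 0, m8 0 0 0 0 0 0 0 0 ++ m8 0 0 0 0 0 0 4 0 ++ m8 0 0 0 0 0 0 0 0),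
  ([9], m8 0 0 0 0 0 0 0 0 ++ m8 0 0 0 0 0 0 0 0 ++ m8 0 0 (-4) 0 0 0 0 0, m8 0 0 0 0 0 0 0 0 ++ m8 0 0 4 0 0 0 0 0 ++ m8 0 0 0 0 0 0 0 0),
  ([10], m8 0 0 0 0 0 0 0 0 ++ m8 0 0 0 0 0 0 0 0 ++ m8 (-4) 0 0 0 0 0 0 0, m8 0 0 0 0 0 0 0 0 ++ m8 (-4) 0 0 0 0 0 0 0 ++ m8 0 0 0 0 0 0 0 0),
  ([4, 3], m8 0 0 0 0 0 0 0 0 ++ m8 0 0 (-4) 0 0 0 0 0 ++ m8 0 0 0 0 0 0 0 0, m8 0 0 0 0 0 0 0 0 ++ m8 0 0 0 0 0 0 0 0 ++ m8 0 0 4 0 0 0 0 0),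
  ([5, 3], m8 0 0 0 0 0 0 0 0 ++ m8 0 0 0 0 0 0 (-4) 0 ++ m8 0 0 0 0 0 0 0 0, m8 0 0 0 0 0 0 0 0 ++ m8 0 0 0 0 0 0 0 0 ++ m8 0 0 0 0 0 0 4 0),
  ([6, 3], m8 0 0 0 0 0 0 0 0 ++ m8 0 0 0 0 (-4) 0 0 0 ++ m8 0 0 0 0 0 0 0 0, m8 0 0 0 0 0 0 0 0 ++ m8 0 0 0 0 0 0 0 0 ++ m8 0 0 0 0 4 0 0 0),
  ([7, 3], m8 0 0 0 0 0 0 0 0 ++ m8 0 0 0 0 4 0 0 0 ++ m8 0 0 0 0 0 0 0 0, m8 0 0 0 0 0 0 0 0 ++ m8 0 0 0 0 0 0 0 0 ++ m8 0 0 0 0 (-4) 0 0 0),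
  ([8, 3], m8 0 0 0 0 0 0 0 0 ++ m8 0 0 0 0 0 0 4 0 ++ m8 0 0 0 0 0 0 0 0, m8 0 0 0 0 0 0 0 0 ++ m8 0 0 0 0 0 0 0 0 ++ m8 0 0 0 0 0 0 (-4) 0),
  ([9, 3], m8 0 0 0 0 0 0 0 0 ++ m8 0 0 4 0 0 0 0 0 ++ m8 0 0 0 0 0 0 0 0, m8 0 0 0 0 0 0 0 0 ++ m8 0 0 0 0 0 0 0 0 ++ m8 0 0 (-4) 0 0 0 0 0)]

end Cfsg.Agent.Lib.Helper8_J2
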