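import Cfsg.Agent.Lib.Helper8_J2B
import Cfsg.Agent.Lib.Helper8_J2Data

/-!
# `2·J₂` is transitive on the 37800 minimal vectors (helper8)
-/

set_option autoImplicit false
set_option linter.constructorNameAsVariable false

namespace Cfsg.Agent.Lib.Helper8_J2

open Quaternion Cfsg.Spor Cfsg.Agent.Lib.Helper26_Ico

/-! ### Units in coordinates -/

theorem unit_coords {u : ℍ[ℝ]} (hu : u ∈ icosians) (hn : Quaternion.normSq u = 1) :
    ∃ υ : Fin 8 → ℤ, inIZ υ ∧ toL υ ∈ UZl ∧ u = toH υ := by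
  obtain ⟨υ, iυ, rfl⟩ := icosians_le _ hu
  obtain ⟨p1, p2⟩ := (normSq_eq_one_iff _).1 hn
  exact ⟨υ, iυ, UZl_complete iυ p1 p2, rfl⟩

theorem unit_ne_zero {u : ℍ[ℝ]} (hn : Quaternion.normSq u = 1) : u ≠ 0 := by
  intro h
  rw [h, map_zero] at hn
  exact zero_ne_one hn

/-! ### Reflections in unit multiples -/

theorem reflPerm_lsmul {u : ℍ[ℝ]} (hn : Quaternion.normSq u = 1) {r : Fin 3 → ℍ[ℝ]}
    (hr : r ∈ icoLeech) (h4 : qip r r = 4) (hr' : lsmul u r ∈ icoLeech)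
    (h4' : qip (lsmul u r) (lsmul u r) = 4) :
    reflPerm (lsmul u r) hr' h4' = reflPerm r hr h4 :=
  reflPerm_congr _ _ _ _ (fun x => qrefl_lsmul (unit_of_normSq_one hn).1 r x)

/-- If `g` conjugates the reflection in line `j` to the reflection in line `j'`, then `g` maps the
vector of line `j` to a unit multiple of the vector of line `j'`. -/
theorem image_on_line {g : Equiv.Perm icoLeech} (hg : g ∈ twoJ2) {j j' : ℕ} (hj : j < 315)
    (hj' : j' < 315) (h : g * lineRefl (lineAt j) * g⁻¹ = lineRefl (lineAt j')) :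
    ∃ υ : Fin 8 → ℤ, inIZ υ ∧ toL υ ∈ UZl ∧
      ((g (lineVec j hj) : icoLeech) : Fin 3 → ℍ[ℝ]) = lsmul (toH υ) (toH3 (ofL3 (lineAt j'))) := by
  obtain ⟨F, hF⟩ := exists_ext hg
  have mj := lineAt_mem hj
  have mj' := lineAt_mem hj'
  obtain ⟨hℓ, hℓ4⟩ := line_mem mj
  have hr0 : F (toH3 (ofL3 (lineAt j))) ∈ icoLeech := hF.mem hℓ
  have hr04 : qip (F (toH3 (ofL3 (lineAt j)))) (F (toH3 (ofL3 (lineAt j)))) = 4 := by
    rw [hF.isom, hℓ4]
  obtain ⟨u, hu, nu, w, hw, e⟩ := classify hr0 hr04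
  obtain ⟨υ, iυ, mυ, rfl⟩ := unit_coords hu nu
  have hc := conj_reflPerm hF _ hℓ hℓ4
  rw [← lineRefl_eq mj, h] at hc
  -- the reflection in `F ℓ` is the reflection of line `toL3 w`
  have hw' : lineRefl (toL3 w) = lineRefl (lineAt j') := by
    rw [hc, lineRefl_eq hw]
    obtain ⟨hm, hm4⟩ := line_mem hw
    have e' : F (toH3 (ofL3 (lineAt j))) = lsmul (toH υ) (toH3 (ofL3 (toL3 w))) := by
      rw [ofL3_toL3]; exact e
    have hm' : lsmul (toH υ) (toH3 (ofL3 (toL3 w))) ∈ icoLeech := e' ▸ hr0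
    have hm4' : qip (lsmul (toH υ) (toH3 (ofL3 (toL3 w)))) (lsmul (toH υ) (toH3 (ofL3 (toL3 w)))) = 4 :=
      e' ▸ hr04
    rw [← reflPerm_lsmul nu hm hm4 hm' hm4']
    exact reflPerm_congr _ _ _ _ (fun x => by rw [e'])
  have hinj := lineRefl_injOn (by simpa using hw) (by simpa using mj') hw'
  refine ⟨υ, iυ, mυ, ?_⟩
  rw [← hinj, ofL3_toL3, ← e]
  exact hF.agree _

/-! ### Unit multipliers on the first line -/

theorem multCert_ok : ∀ e ∈ multCert,
    (e.2.all fun k => decide (k < 315)) = true ∧ wordL e.2 (lineAt 0) = lsmull e.1 (lineAt 0) := by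
  decide +kernel

theorem multCert_fst : multCert.map Prod.fst = UZl := by decide +kernel

theorem lsmull_lineAt {l : List ℤ} (hl : l ∈ UZl) {j : ℕ} (hj : j < 315) :
    toH3 (ofL3 (lsmull l (lineAt j))) = lsmul (toH (ofL l)) (toH3 (ofL3 (lineAt j))) := by
  obtain ⟨hu, -, hue⟩ := unit_mem hl
  have mj := lineAt_mem hj
  conv_lhs => rw [← hue, ← toL3_ofL3 mj, lsmull_toL3, ofL3_toL3]
  exact toH3_lsmulZ ((toH_mem_iff _).1 hu) (inLam_inIZ (line_inLam mj))

/-- Every unit multiple of `2e₀` is an image of `2e₀` under `2·J₂`. -/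
theorem exists_mult {l : List ℤ} (hl : l ∈ UZl) :
    ∃ k ∈ twoJ2, ((k (β 0) : icoLeech) : Fin 3 → ℍ[ℝ]) = lsmul (toH (ofL l)) (bv 0) := by
  have : l ∈ multCert.map Prod.fst := by rw [multCert_fst]; exact hl
  obtain ⟨⟨l', wd⟩, he, rfl⟩ := List.mem_map.1 this
  obtain ⟨h1, h2⟩ := multCert_ok _ he
  have hwd : ∀ k ∈ wd, k < 315 := by
    intro k hk
    have := List.all_eq_true.1 h1 k hk
    simpa using this
  refine ⟨wordPerm wd, wordPerm_mem wd, ?_⟩
  have := word_eval wd hwd 0 (by norm_num) _ h2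
  rw [β0_eq, bv0_eq, this]
  exact lsmull_lineAt hl (by norm_num)

/-! ### Transitivity -/

/-- `2·J₂` is transitive on the minimal vectors. -/
theorem exists_map_β0 {r : Fin 3 → ℍ[ℝ]} (hr : r ∈ icoLeech) (h4 : qip r r = 4) :
    ∃ g ∈ twoJ2, ((g (β 0) : icoLeech) : Fin 3 → ℍ[ℝ]) = r := by
  obtain ⟨u, hu, nu, w, hw, e⟩ := classify hr h4
  obtain ⟨j, hj, hje⟩ := exists_lineAt hw
  obtain ⟨g, hg, hgc⟩ := conjTo_all hw
  rw [← hje] at hgc
  obtain ⟨υ', iυ', mυ', e'⟩ := image_on_line hg (by norm_num) hj hgc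
  -- the unit `u * star (toH υ')`
  have nυ' : Quaternion.normSq (toH υ') = 1 := by
    have := (unit_mem mυ').2.1
    rwa [ofL_toL] at this
  have hv : u * star (toH υ') ∈ icosians :=
    mul_mem hu (star_mem_icosians (toH_mem_icosians iυ'))
  have nv : Quaternion.normSq (u * star (toH υ')) = 1 := by
    rw [map_mul, Quaternion.normSq_star, nu, nυ', mul_one]
  obtain ⟨ν, iν, mν, eν⟩ := unit_coords hv nv
  obtain ⟨k, hk, ek⟩ := exists_mult mν
  rw [ofL_toL, ← eν] at ek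
  obtain ⟨F, hF⟩ := exists_ext hg
  refine ⟨g * k, mul_mem hg hk, ?_⟩
  rw [Equiv.Perm.mul_apply, hF.agree, ek, hF.smul]
  have : F (bv 0) = ((g (lineVec 0 (by norm_num)) : icoLeech) : Fin 3 → ℍ[ℝ]) := by
    rw [hF.agree]; congr 1
    exact bv0_eq
  rw [this, e', lsmul_lsmul, mul_assoc, (unit_of_normSq_one nυ').1, mul_one, e, hje, ofL3_toL3]

end Cfsg.Agent.Lib.Helper8_J2
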