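import Mathlib
import Cfsg.Agent.Lib.Helper8_J2C

/-!
# The norm of the quaternionic inner product of two lines is a `2·J₂`-invariant (helper8)

Package N1 of helper7's S2066 (`Out(J₂) = 2`).
-/

set_option autoImplicit false

namespace Cfsg.Agent.Lib.Helper8_J2OutN1

open Quaternion Cfsg.Agent.Lib.Helper26_Ico Cfsg.Agent.Lib.Helper8_J2 Cfsg.Spor

theorem normSq_unit {υ : Fin 8 → ℤ} (h : toL υ ∈ UZl) : Quaternion.normSq (toH υ) = 1 := by
  obtain ⟨-, -, hp, hq⟩ := UZl_sound _ h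
  rw [PZl_toL] at hp
  rw [QZl_toL] at hq
  rw [normSq_toH, hp, hq]
  norm_num

theorem normSq_qip_toH3 (w μ : Fin 3 → Fin 8 → ℤ) :
    Quaternion.normSq (qip (toH3 w) (toH3 μ)) =
      ((PZ (qipZ w μ) : ℝ) + QZ (qipZ w μ) * tau) / 16 := by
  rw [qip_toH3, Quaternion.normSq_smul, normSq_toH]
  ring

/-- N1: the norm of the quaternionic inner product of two lines is invariant under `2·J₂`. -/
theorem nu_invariant {g : Equiv.Perm icoLeech} (hg : g ∈ twoJ2) {i j i' j' : ℕ}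
    (hi : i < 315) (hj : j < 315) (hi' : i' < 315) (hj' : j' < 315)
    (h1 : g * lineRefl (lineAt i) * g⁻¹ = lineRefl (lineAt i'))
    (h2 : g * lineRefl (lineAt j) * g⁻¹ = lineRefl (lineAt j')) :
    PZl (qipl (lineAt i) (lineAt j)) = PZl (qipl (lineAt i') (lineAt j')) ∧
    QZl (qipl (lineAt i) (lineAt j)) = QZl (qipl (lineAt i') (lineAt j')) := by
  obtain ⟨F, hF⟩ := exists_ext hg
  obtain ⟨υ, -, mυ, e1⟩ := image_on_line hg hi hi' h1
  obtain ⟨υ', -, mυ', e2⟩ := image_on_line hg hj hj' h2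
  have n1 := normSq_unit mυ
  have n2 := normSq_unit mυ'
  rw [hF.agree] at e1 e2
  have k1 : ((lineVec i hi : icoLeech) : Fin 3 → ℍ[ℝ]) = toH3 (ofL3 (lineAt i)) := rfl
  have k2 : ((lineVec j hj : icoLeech) : Fin 3 → ℍ[ℝ]) = toH3 (ofL3 (lineAt j)) := rfl
  rw [k1] at e1
  rw [k2] at e2
  have hq : qip (toH3 (ofL3 (lineAt i))) (toH3 (ofL3 (lineAt j))) =
      toH υ * qip (toH3 (ofL3 (lineAt i'))) (toH3 (ofL3 (lineAt j'))) * star (toH υ') := by
    rw [← hF.isom, e1, e2, qip_lsmul_left, qip_lsmul_right, mul_assoc]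
  have hn := congrArg Quaternion.normSq hq
  rw [map_mul, map_mul, Quaternion.normSq_star, n1, n2, one_mul, mul_one, normSq_qip_toH3,
    normSq_qip_toH3] at hn
  have hn' : ((PZ (qipZ (ofL3 (lineAt i)) (ofL3 (lineAt j))) : ℤ) : ℝ) +
      ((QZ (qipZ (ofL3 (lineAt i)) (ofL3 (lineAt j))) : ℤ) : ℝ) * tau =
      ((PZ (qipZ (ofL3 (lineAt i')) (ofL3 (lineAt j'))) : ℤ) : ℝ) +
      ((QZ (qipZ (ofL3 (lineAt i')) (ofL3 (lineAt j'))) : ℤ) : ℝ) * tau := by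
    linarith
  obtain ⟨hP, hQ⟩ := zt_inj hn'
  have t : ∀ a b : ℕ, a < 315 → b < 315 → qipl (lineAt a) (lineAt b) =
      toL (qipZ (ofL3 (lineAt a)) (ofL3 (lineAt b))) := by
    intro a b ha hb
    rw [← qipl_toL3, toL3_ofL3 (lineAt_mem ha), toL3_ofL3 (lineAt_mem hb)]
  rw [t i j hi hj, t i' j' hi' hj', PZl_toL, PZl_toL, QZl_toL, QZl_toL]
  exact ⟨hP, hQ⟩

end Cfsg.Agent.Lib.Helper8_J2OutN1
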