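import Cfsg.Agent.Lib.Helper7_J2OutCount
import Cfsg.Agent.Lib.Helper87_J2OutG2
import Cfsg.Agent.Lib.Helper8_J2OutN1
import Cfsg.Prelude.Def_KGroupFacts

/-!
# An outer automorphism of `J₂` (helper7)

The involutive permutation `piL` of the 315 lines normalises the action of the four generating
reflections, hence induces an automorphism of `J₂` (helper87's `exists_aut_of_perm'`).  It fixes the
lines 0, 27 and maps line 5 to line 8; it is not inner because the pairs of lines `(27, 5)` and
`(27, 8)` have different norms of inner products (helper8's `nu_invariant`).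
-/

set_option autoImplicit false

namespace Cfsg.Agent.Lib.Helper7_J2Out

open Cfsg.Agent.Lib.Helper26_Ico Cfsg.Spor MulAction

/-- The outer permutation of the lines. -/
def piN (j : ℕ) : ℕ := piL.getD j 315

set_option maxHeartbeats 4000000 in
theorem piN_invol : ∀ j ∈ List.range 315, piN j < 315 ∧ piN (piN j) = j := by decide +kernel

set_option maxHeartbeats 4000000 in
theorem piN_norm : ∀ j ∈ List.range 315, ∀ g ∈ gensL,
    tabJ g j < 315 ∧ tabJ (piN g) (piN j) < 315 ∧ piN (tabJ g j) = tabJ (piN g) (piN j) := by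
  decide +kernel

theorem piN_gens : piN 0 = 0 ∧ piN 27 = 27 ∧ piN 5 = 8 ∧ piN 42 = 42 := by decide +kernel

theorem piN_lt {j : ℕ} (h : j < 315) : piN j < 315 := (piN_invol j (List.mem_range.2 h)).1

theorem piN_piN {j : ℕ} (h : j < 315) : piN (piN j) = j := (piN_invol j (List.mem_range.2 h)).2

/-- The outer permutation of the reflections. -/
noncomputable def piP : Equiv.Perm Refl where
  toFun x := Rn (piN (idx x))
  invFun x := Rn (piN (idx x))
  left_inv x := by
    show Rn (piN (idx (Rn (piN (idx x))))) = x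
    rw [idx_Rn (piN_lt (idx_lt x)), piN_piN (idx_lt x), Rn_idx]
  right_inv x := by
    show Rn (piN (idx (Rn (piN (idx x))))) = x
    rw [idx_Rn (piN_lt (idx_lt x)), piN_piN (idx_lt x), Rn_idx]

theorem piP_Rn {j : ℕ} (h : j < 315) : piP (Rn j) = Rn (piN j) := by
  show Rn (piN (idx (Rn j))) = Rn (piN j)
  rw [idx_Rn h]

theorem gv_mem (i : Fin 4) : gv i ∈ gensL := by
  fin_cases i <;> simp [gv, gensL]

/-- The images of the generators. -/
noncomputable def tJ (i : Fin 4) : J2 := (Rn (piN (gv i))).toJ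

theorem piP_norm (i : Fin 4) (x : Refl) : piP (gJ i • x) = tJ i • piP x := by
  obtain ⟨j, hj, rfl⟩ := Rn_surj x
  obtain ⟨h1, h2, h3⟩ := piN_norm j (List.mem_range.2 hj) (gv i) (gv_mem i)
  show piP ((Rn (gv i)).toJ • Rn j) = (Rn (piN (gv i))).toJ • piP (Rn j)
  rw [(tabJ_sound h1).1, piP_Rn h1, piP_Rn hj, (tabJ_sound h2).1, h3]

theorem exists_sigma : ∃ σ : MulAut J2, ∀ i, σ (gJ i) = tJ i :=
  have := faithful_J2
  Cfsg.Agent.Lib.Helper87_J2OutG2.exists_aut_of_perm' piP gJ tJ gen_top piP_norm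

set_option maxHeartbeats 1000000 in
theorem nu_ne : PZl (qipl (lineAt 27) (lineAt 5)) ≠ PZl (qipl (lineAt 27) (lineAt 8)) := by
  decide +kernel

/-- No inner automorphism fixes `r₂₇` and maps `r₅` to `r₈`. -/
theorem not_inner (h : J2) (h27 : h * (Rn 27).toJ * h⁻¹ = (Rn 27).toJ)
    (h5 : h * (Rn 5).toJ * h⁻¹ = (Rn 8).toJ) : False := by
  obtain ⟨g, rfl⟩ := QuotientGroup.mk_surjective h
  have e27 : g • Rn 27 = Rn 27 := by
    rw [← mk_smul]
    apply toJ_inj
    rw [toJ_smulJ]
    exact h27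
  have e5 : g • Rn 5 = Rn 8 := by
    rw [← mk_smul]
    apply toJ_inj
    rw [toJ_smulJ]
    exact h5
  have c27 := congrArg Subtype.val e27
  have c5 := congrArg Subtype.val e5
  rw [smul_val, Rn_val (by norm_num)] at c27 c5
  rw [Rn_val (by norm_num)] at c5
  have := Cfsg.Agent.Lib.Helper8_J2OutN1.nu_invariant g.2 (i := 27) (j := 5) (i' := 27) (j' := 8)
    (by norm_num) (by norm_num) (by norm_num) (by norm_num) c27 c5
  exact nu_ne this.1

/-- `J₂` has an automorphism that is not inner. -/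
theorem exists_outer : ∃ σ : MulAut J2, σ ∉ Cfsg.Inn J2 := by
  obtain ⟨σ, hσ⟩ := exists_sigma
  refine ⟨σ, ?_⟩
  rintro ⟨h, rfl⟩
  have e1 := hσ 1
  have e2 := hσ 2
  simp only [gJ, tJ, gv, Matrix.cons_val_one, Matrix.cons_val_zero, Matrix.cons_val_two,
    Matrix.tail_cons, Matrix.head_cons, piN_gens.2.1, piN_gens.2.2.1] at e1 e2
  exact not_inner h e1 e2

end Cfsg.Agent.Lib.Helper7_J2Out
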