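import Cfsg.Agent.Lib.Helper7_J2OutData1
import Cfsg.Agent.Lib.Helper7_J2OutData2
import Cfsg.Agent.Lib.Helper7_J2OutData3
import Cfsg.Agent.Lib.Helper7_J2OutData4
import Cfsg.Agent.Lib.Helper7_J2OutData5
import Cfsg.Agent.Lib.Helper7_J2OutData6
import Cfsg.Agent.Lib.Helper7_J2OutData7

/-!
# The certified partial table of the reflection action of `J₂` on the 315 lines (helper7)

`tabJ k j` is the index of the image of line `j` under the reflection in line `k` when the pair is in
the certified table, and `315` otherwise.  `Kn t v` ("`t` knows `v`") says that a computed value `t`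
is either invalid (`≥ 315`) or equal to the true value `v`; the conservative tests `eqU`, `neU` hold
whenever the true values are equal, resp. different.
-/

set_option autoImplicit false

namespace Cfsg.Agent.Lib.Helper7_J2Out

open Cfsg.Agent.Lib.Helper26_Ico Cfsg.Spor MulAction

/-- All certified rows. -/
def rowsD : List (ℕ × List (ℕ × ℕ × List ℤ)) :=
  rows1 ++ rows2 ++ rows3 ++ rows4 ++ rows5 ++ rows6 ++ rows7

theorem rowsD_ok : rowsD.all rowOK = true := by
  simp only [rowsD, List.all_append, rows1_ok, rows2_ok, rows3_ok, rows4_ok, rows5_ok, rows6_ok,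
    rows7_ok, Bool.and_self]

/-- The partial table (315 = absent). -/
def tabJ (k j : ℕ) : ℕ :=
  match rowsD.find? (fun r => r.1 == k) with
  | none => 315
  | some r =>
    match r.2.find? (fun e => e.1 == j) with
    | none => 315
    | some e => e.2.1

theorem tabJ_sound {k j : ℕ} (h : tabJ k j < 315) :
    (Rn k).toJ • Rn j = Rn (tabJ k j) ∧ k < 315 ∧ j < 315 := by
  unfold tabJ at h ⊢
  cases hr : rowsD.find? (fun r => r.1 == k) with
  | none => simp only [hr] at h; exact absurd h (lt_irrefl _)
  | some r =>
    simp only [hr] at h ⊢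
    cases he : r.2.find? (fun e => e.1 == j) with
    | none => simp only [he] at h; exact absurd h (lt_irrefl _)
    | some e =>
      simp only [he] at h ⊢
      have hp1 := List.find?_some hr
      have hm1 := List.mem_of_find?_eq_some hr
      have hp2 := List.find?_some he
      have hm2 := List.mem_of_find?_eq_some he
      simp only [beq_iff_eq] at hp1 hp2
      have hrow : rowOK r = true := (List.all_eq_true.1 rowsD_ok) r hm1
      have hedge : edgeOK (e.1, r.1, e.2.1, e.2.2) = true := (List.all_eq_true.1 hrow) e hm2
      have h1 := edge1_sound hedge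
      have h2 := edge_lt hedge
      simp only at h1 h2
      rw [hp1, hp2] at h1 h2
      exact ⟨h1, h2.2.1, h2.1⟩

theorem actN_tab {k j : ℕ} (h : tabJ k j < 315) : actN (Rn k).toJ j = tabJ k j :=
  actN_eq_of_smul h (tabJ_sound h).1

/-- The true table. -/
noncomputable def LL (k j : ℕ) : ℕ := actN (Rn k).toJ j

theorem LL_lt (k j : ℕ) : LL k j < 315 := actN_lt _ _

theorem LL_tab {k j : ℕ} (h : tabJ k j < 315) : LL k j = tabJ k j := actN_tab h

/-- `t` is invalid or equal to `v`. -/
def Kn (t v : ℕ) : Prop := t < 315 → t = v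

theorem Kn_const (n : ℕ) : Kn n n := fun _ => rfl

theorem Kn_tab {tk tj k j : ℕ} (hk : Kn tk k) (hj : Kn tj j) : Kn (tabJ tk tj) (LL k j) := by
  intro h
  obtain ⟨-, h1, h2⟩ := tabJ_sound h
  have e1 := hk h1
  have e2 := hj h2
  subst e1 e2
  exact (LL_tab h).symm

/-- Possibly equal. -/
def eqU (a b : ℕ) : Bool := !(decide (a < 315) && decide (b < 315)) || a == b

/-- Possibly different. -/
def neU (a b : ℕ) : Bool := !(decide (a < 315) && decide (b < 315)) || a != b

theorem eqU_of {a b v w : ℕ} (ha : Kn a v) (hb : Kn b w) (h : v = w) : eqU a b = true := by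
  unfold eqU
  by_cases h1 : a < 315
  · by_cases h2 : b < 315
    · have := ha h1
      have := hb h2
      simp [h1, h2]
      omega
    · simp [h2]
  · simp [h1]

theorem neU_of {a b v w : ℕ} (ha : Kn a v) (hb : Kn b w) (h : v ≠ w) : neU a b = true := by
  unfold neU
  by_cases h1 : a < 315
  · by_cases h2 : b < 315
    · have := ha h1
      have := hb h2
      simp [h1, h2]
      omega
    · simp [h2]
  · simp [h1]

end Cfsg.Agent.Lib.Helper7_J2Out
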