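import Mathlib
import Cfsg.Agent.Lib.Helper95_OPDefs
import Cfsg.Agent.Lib.Helper95_OPBasic
import Cfsg.Agent.Lib.Helper48_OODefs
import Cfsg.Agent.Lib.Helper87_OO2Defs
import Cfsg.Agent.Lib.Helper85_OO2_RankOne
import Cfsg.Agent.Lib.Helper85_OO2_LemK
import Cfsg.Agent.Lib.Helper85_OO2_LemK2

set_option autoImplicit false
set_option linter.unusedVariables false

/-!
S2344, package OO2-STEPCORE (helper85): the abstract core of the inductive step (section 4 of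
`pending/helper87/S2344_proof.md`; derivation `pending/helper87/S2344_stepcore.md`).
-/

namespace Cfsg.Agent.Lib.Helper85_OO2_STEPCORE

open Module Cfsg.Agent.Lib.Helper94_OrthSmall Cfsg.Agent.Lib.Helper44_QuadClass
  Cfsg.Agent.Lib.Helper14_OmegaSimple Cfsg.Agent.Lib.Helper38_MIODefs
  Cfsg.Agent.Lib.Helper95_OPDefs Cfsg.Agent.Lib.Helper95_OPBasic Cfsg.Agent.Lib.Helper48_OODefs
  Cfsg.Agent.Lib.Helper87_OO2Defs

section theta

variable {F : Type*} [Field F]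

theorem thetaC_sq (a : F) : thetaC a * thetaC a = 1 := by
  unfold thetaC
  split_ifs <;> simp

theorem thetaC_inv (a : F) : thetaC a⁻¹ = thetaC a := by
  have h : IsSquare a⁻¹ ↔ IsSquare a := isSquare_inv
  unfold thetaC
  by_cases h1 : IsSquare a
  · rw [if_pos h1, if_pos (h.2 h1)]
  · rw [if_neg h1, if_neg (fun h2 => h1 (h.1 h2))]

end theta

section aux

variable {X : Type*} [AddCommGroup X] [Module ℂ X]

theorem eq_zero_of_add_neg_smul {b g : X} (h : b + (-1 : ℂ) • g = b + g) : g = 0 := by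
  have h1 : (2 : ℂ) • g = 0 := by
    have h2 : (-1 : ℂ) • g = g := add_left_cancel h
    rw [two_smul]
    nth_rewrite 1 [← h2]
    rw [neg_smul, one_smul, neg_add_cancel]
  exact (smul_eq_zero.1 h1).resolve_left two_ne_zero

theorem eq_zero_of_neg_smul_eq {g : X} (h : (-1 : ℂ) • g = g) : g = 0 := by
  apply eq_zero_of_add_neg_smul (b := 0)
  rw [h]

end aux

section partF

open Cfsg.Agent.Lib.Helper85_OO2_RankOne

variable {F : Type*} [Field F] [Fintype F] {X : Type*} [AddCommGroup X] [Module ℂ X]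
  [FiniteDimensional ℂ X]

/-! ## OO2-STEPCORE (L) -/
theorem step_core (ψ : AddChar F ℂ) (hψ : ψ.IsPrimitive) (a0 : F) (ha0 : a0 ≠ 0)
    (hθ0 : thetaC a0 = -1)
    (x1 x2 : F → Module.End ℂ X) (n1 n2 : Module.End ℂ X) (h12 h13 h23 : F → Module.End ℂ X)
    (Y Y' Y2 F2 Psi M0 : Submodule ℂ X)
    (R1 : SL2Rel x1 n1 h12) (R2 : SL2Rel x2 n2 h23)
    (T1 : ∀ a : F, a ≠ 0 → h13 a = h12 a * h23 a)
    (T2 : ∀ a b : F, a ≠ 0 → b ≠ 0 → h12 a * h23 b = h23 b * h12 a)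
    (T3a : ∀ a : F, a ≠ 0 → h13 a * n1 = n1 * h23 a)
    (T3b : ∀ a : F, a ≠ 0 → h23 a * n1 = n1 * h13 a)
    (T3c : ∀ a : F, a ≠ 0 → h13 a * n2 = n2 * h12 a)
    (T3d : ∀ a : F, a ≠ 0 → h12 a * n2 = n2 * h13 a)
    (T4a : ∀ a s : F, a ≠ 0 → h13 a * x1 s = x1 (a * s) * h13 a)
    (T4b : ∀ a s : F, a ≠ 0 → h23 a * x1 s = x1 (a⁻¹ * s) * h23 a)
    (T4c : ∀ a s : F, a ≠ 0 → h12 a * x2 s = x2 (a⁻¹ * s) * h12 a)
    (T4d : ∀ a s : F, a ≠ 0 → h13 a * x2 s = x2 (a * s) * h13 a)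
    (S1a : Y ≤ Y2) (S1b : Y' ≤ Y2) (S1c : Y ⊓ Y' = ⊥) (S1d : Y2 ≤ Y ⊔ Y')
    (S1e : Y2 ≤ F2) (S1f : Psi ≤ F2) (S1g : Y2 ⊓ Psi = ⊥) (S1h : F2 ≤ Y2 ⊔ Psi)
    (S2a : F2 ≤ fixX x1) (S2b : F2 ≤ fixX x2) (S2c : Y2 ≤ M0)
    (S2d : ∀ m ∈ M0, m ∈ fixX x1 → m ∈ Y2)
    (S3a : ∀ a : F, a ≠ 0 → ∀ y ∈ Y, h12 a y ∈ Y)
    (S3b : ∀ a : F, a ≠ 0 → ∀ y ∈ Y', h12 a y ∈ Y')
    (S3c : ∀ a : F, a ≠ 0 → ∀ y ∈ Y', h23 a y ∈ Y')
    (S3d : ∀ a : F, a ≠ 0 → ∀ y ∈ Psi, h12 a y ∈ Psi)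
    (S3e : ∀ a : F, a ≠ 0 → ∀ y ∈ Psi, h23 a y ∈ Psi)
    (S3f : ∀ a : F, a ≠ 0 → ∀ y ∈ M0, h12 a y ∈ M0)
    (S3g : ∀ a : F, a ≠ 0 → ∀ y ∈ M0, h23 a y ∈ M0)
    (S3h : ∀ y ∈ M0, n1 y ∈ M0) (S3i : ∀ s : F, ∀ y ∈ M0, x1 s y ∈ M0)
    (S5 : ∀ y ∈ Y2, Jop x2 n2 y ∈ F2)
    (S6a : ∀ a : F, a ≠ 0 → ∀ y ∈ Y, h23 a y = y)
    (S6b : ∀ a : F, a ≠ 0 → ∀ y ∈ Psi, h12 a y = y)
    (S7a : finrank ℂ ↥Y' = 1)
    (S7b : ∀ a : F, a ≠ 0 → ∀ y ∈ Y', h23 a y = thetaC a • y)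
    (S8 : ∀ y ∈ Y, n1 y = y → y = 0)
    (S9 : ∀ c : F, c ≠ 0 → ∀ m ∈ M0, ∀ m' ∈ M0, (∀ s : F, x1 s m = ψ (c * s) • m) →
      (∀ s : F, x1 s m' = ψ (c * s) • m') → m' ≠ 0 → ∃ a : ℂ, m = a • m') :
    finrank ℂ ↥Y = 1 ∧ ∀ a : F, a ≠ 0 → ∀ y ∈ Y, h12 a y = thetaC a • y := by
  classical
  have hq : (Fintype.card F : ℂ) ≠ 0 := by
    exact_mod_cast Fintype.card_ne_zero
  -- inclusions
  have hYx1 : Y ≤ fixX x1 := S1a.trans (S1e.trans S2a)
  have hY'x1 : Y' ≤ fixX x1 := S1b.trans (S1e.trans S2a)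
  have hY'x2 : Y' ≤ fixX x2 := S1b.trans (S1e.trans S2b)
  have hYM0 : Y ≤ M0 := S1a.trans S2c
  -- invertibility of the torus operators
  have h12inv : ∀ a : F, a ≠ 0 → h12 a⁻¹ * h12 a = 1 := by
    intro a ha
    rw [← R1.h_mul _ _ (inv_ne_zero ha) ha, inv_mul_cancel₀ ha, R1.h_one]
  have h23inv : ∀ a : F, a ≠ 0 → h23 a⁻¹ * h23 a = 1 := by
    intro a ha
    rw [← R2.h_mul _ _ (inv_ne_zero ha) ha, inv_mul_cancel₀ ha, R2.h_one]
  have h12inj : ∀ a : F, a ≠ 0 → ∀ z, h12 a z = 0 → z = 0 := by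
    intro a ha z hz
    have := congrArg (fun f => f z) (h12inv a ha)
    simp only [Module.End.mul_apply, Module.End.one_apply] at this
    rw [hz, map_zero] at this
    exact this.symm
  have h23inj : ∀ a : F, a ≠ 0 → ∀ z, h23 a z = 0 → z = 0 := by
    intro a ha z hz
    have := congrArg (fun f => f z) (h23inv a ha)
    simp only [Module.End.mul_apply, Module.End.one_apply] at this
    rw [hz, map_zero] at this
    exact this.symm
  have h13_apply : ∀ a : F, a ≠ 0 → ∀ y, h13 a y = h12 a (h23 a y) := by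
    intro a ha y
    rw [T1 a ha]
    rfl
  have h13inj : ∀ a : F, a ≠ 0 → ∀ z, h13 a z = 0 → z = 0 := by
    intro a ha z hz
    rw [h13_apply a ha] at hz
    exact h23inj a ha z (h12inj a ha _ hz)
  -- intertwining relations for `J1`, `J2`
  have J1_h12 : ∀ a : F, a ≠ 0 → ∀ y, h12 a (Jop x1 n1 y) = Jop x1 n1 (h12 a⁻¹ y) := by
    intro a ha y
    have := congrArg (fun f => f y) (J_h R1 (inv_ne_zero ha))
    simpa only [inv_inv, Module.End.mul_apply] using this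
  have J2_h23 : ∀ a : F, a ≠ 0 → ∀ y, h23 a (Jop x2 n2 y) = Jop x2 n2 (h23 a⁻¹ y) := by
    intro a ha y
    have := congrArg (fun f => f y) (J_h R2 (inv_ne_zero ha))
    simpa only [inv_inv, Module.End.mul_apply] using this
  have J1_h23 : ∀ a : F, a ≠ 0 → ∀ y, h23 a (Jop x1 n1 y) = Jop x1 n1 (h13 a y) := by
    intro a ha y
    have := congrArg (fun f => f y) (tau_J (x := x1) (n := n1) (τ := h23 a) (τ' := h13 a)
      (c := a⁻¹) (inv_ne_zero ha) (fun s => T4b a s ha) (T3b a ha))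
    simpa only [Module.End.mul_apply] using this
  have J2_h12 : ∀ a : F, a ≠ 0 → ∀ y, h12 a (Jop x2 n2 y) = Jop x2 n2 (h13 a y) := by
    intro a ha y
    have := congrArg (fun f => f y) (tau_J (x := x2) (n := n2) (τ := h12 a) (τ' := h13 a)
      (c := a⁻¹) (inv_ne_zero ha) (fun s => T4c a s ha) (T3d a ha))
    simpa only [Module.End.mul_apply] using this
  -- `J1` maps `Y2` into `Y2`
  have J1_Y2 : ∀ y ∈ Y2, Jop x1 n1 y ∈ Y2 := by
    intro y hy
    apply S2d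
    · rw [Helper85_OO2_RankOne.Jop_apply]
      exact M0.sum_mem fun s _ => S3i s _ (S3h _ (S2c hy))
    · exact Jop_mem_fixX R1.x_add n1 y
  -- independence of `Y2` and `Psi`
  have indep2 : ∀ u ∈ Y2, ∀ p ∈ Psi, u + p = 0 → u = 0 := by
    intro u hu p hp h
    have hmem : u ∈ Y2 ⊓ Psi := by
      refine ⟨hu, ?_⟩
      have : u = -p := eq_neg_of_add_eq_zero_left h
      rw [this]
      exact Psi.neg_mem hp
    rw [S1g] at hmem
    exact (Submodule.mem_bot ℂ).1 hmem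
  -- Step 0: a generator of `Y'`
  obtain ⟨⟨y', hy'mem⟩, hy'ne, hy'span⟩ := finrank_eq_one_iff'.1 S7a
  have hy'0 : y' ≠ 0 := by
    intro h
    apply hy'ne
    exact Subtype.ext h
  have hY'gen : ∀ w ∈ Y', ∃ c : ℂ, w = c • y' := by
    intro w hw
    obtain ⟨c, hc⟩ := hy'span ⟨w, hw⟩
    exact ⟨c, (congrArg Subtype.val hc).symm⟩
  have hlam : ∀ a : F, a ≠ 0 → ∃ l : ℂ, h12 a y' = l • y' := fun a ha =>
    hY'gen _ (S3b a ha y' hy'mem)
  -- Step 1: `z = J2 y'`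
  have hz0 : Jop x2 n2 y' ≠ 0 := fun h => hy'0 (J_inj R2 hq (hY'x2 hy'mem) h)
  have hzF2 : Jop x2 n2 y' ∈ F2 := S5 y' (S1b hy'mem)
  have hzPsi : Jop x2 n2 y' ∈ Psi := by
    obtain ⟨u2, hu2, p, hp, hzdec⟩ := Submodule.mem_sup.1 (S1h hzF2)
    obtain ⟨u, hu, u', hu', hu2dec⟩ := Submodule.mem_sup.1 (S1d hu2)
    have hz23 : h23 a0 (Jop x2 n2 y') = (-1 : ℂ) • Jop x2 n2 y' := by
      rw [J2_h23 a0 ha0, S7b a0⁻¹ (inv_ne_zero ha0) y' hy'mem, thetaC_inv, hθ0, map_smul]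
    have hu0 : u = 0 := by
      have e1 : h23 a0 (Jop x2 n2 y') = u + (-1 : ℂ) • u' + h23 a0 p := by
        rw [← hzdec, ← hu2dec, map_add, map_add, S6a a0 ha0 u hu, S7b a0 ha0 u' hu', hθ0]
      have e2 : (2 : ℂ) • u + (h23 a0 p + p) = 0 := by
        have e3 : u + (-1 : ℂ) • u' + h23 a0 p = (-1 : ℂ) • (u + u' + p) := by
          rw [← e1, hz23, ← hzdec, ← hu2dec]
        have e4 : (2 : ℂ) • u + (h23 a0 p + p) =
            (u + (-1 : ℂ) • u' + h23 a0 p) + (u + u' + p) := by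
          rw [two_smul, neg_smul, one_smul]
          abel
        rw [e4, e3, neg_smul, one_smul, neg_add_cancel]
      have := indep2 _ (Y2.smul_mem 2 (S1a hu)) _ (Psi.add_mem (S3e a0 ha0 p hp) hp) e2
      exact (smul_eq_zero.1 this).resolve_left two_ne_zero
    obtain ⟨l0, hl0⟩ := hlam a0 ha0
    have hl0ne : l0 ≠ 0 := by
      intro h
      rw [h, zero_smul] at hl0
      exact hy'0 (h12inj a0 ha0 y' hl0)
    have hz12 : h12 a0 (Jop x2 n2 y') = (-l0) • Jop x2 n2 y' := by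
      rw [J2_h12 a0 ha0, h13_apply a0 ha0, S7b a0 ha0 y' hy'mem, hθ0, map_smul, hl0, smul_smul,
        map_smul]
      congr 1
      ring
    have hu'0 : u' = 0 := by
      obtain ⟨c, hc⟩ := hY'gen u' hu'
      have e0 : h12 a0 u' = l0 • u' := by
        rw [hc, map_smul, hl0, smul_comm]
      have e1 : h12 a0 (Jop x2 n2 y') = l0 • u' + h12 a0 p := by
        rw [← hzdec, ← hu2dec, hu0, zero_add, map_add, e0]
      have e2 : (2 * l0) • u' + (h12 a0 p + l0 • p) = 0 := by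
        have e3 : l0 • u' + h12 a0 p = (-l0) • (u' + p) := by
          rw [← e1, hz12, ← hzdec, ← hu2dec, hu0, zero_add]
        have e4 : (2 * l0) • u' + (h12 a0 p + l0 • p) =
            (l0 • u' + h12 a0 p) + l0 • (u' + p) := by
          rw [mul_smul, two_smul, smul_add]
          abel
        rw [e4, e3, neg_smul, neg_add_cancel]
      have := indep2 _ (Y2.smul_mem _ (S1b hu')) _
        (Psi.add_mem (S3d a0 ha0 p hp) (Psi.smul_mem _ hp)) e2
      exact (smul_eq_zero.1 this).resolve_left (mul_ne_zero two_ne_zero hl0ne)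
    rw [← hzdec, ← hu2dec, hu0, hu'0, zero_add, zero_add]
    exact hp
  have hlam_eq : ∀ a : F, a ≠ 0 → h12 a y' = thetaC a • y' := by
    intro a ha
    obtain ⟨l, hl⟩ := hlam a ha
    have e1 : h12 a (Jop x2 n2 y') = (thetaC a * l) • Jop x2 n2 y' := by
      rw [J2_h12 a ha, h13_apply a ha, S7b a ha y' hy'mem, map_smul, hl, smul_smul, map_smul]
    have e2 : h12 a (Jop x2 n2 y') = Jop x2 n2 y' := S6b a ha _ hzPsi
    have e3 : thetaC a * l = 1 := by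
      have : (thetaC a * l - 1) • Jop x2 n2 y' = 0 := by
        rw [sub_smul, one_smul, ← e1, e2, sub_self]
      rcases smul_eq_zero.1 this with h | h
      · exact sub_eq_zero.1 h
      · exact absurd h hz0
    have : l = thetaC a := by
      calc l = (thetaC a * thetaC a) * l := by rw [thetaC_sq, one_mul]
        _ = thetaC a * (thetaC a * l) := by ring
        _ = thetaC a := by rw [e3, mul_one]
    rw [hl, this]
  have h13y' : ∀ a : F, a ≠ 0 → h13 a y' = y' := by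
    intro a ha
    rw [h13_apply a ha, S7b a ha y' hy'mem, map_smul, hlam_eq a ha, smul_smul, thetaC_sq,
      one_smul]
  -- Step 2: `yth = J1 y'`
  obtain ⟨yth, hyth⟩ : ∃ yth, yth = Jop x1 n1 y' := ⟨_, rfl⟩
  have hyth0 : yth ≠ 0 := by
    intro h
    rw [hyth] at h
    exact hy'0 (J_inj R1 hq (hY'x1 hy'mem) h)
  have hythY2 : yth ∈ Y2 := by
    rw [hyth]
    exact J1_Y2 y' (S1b hy'mem)
  have hyth12 : ∀ a : F, a ≠ 0 → h12 a yth = thetaC a • yth := by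
    intro a ha
    rw [hyth, J1_h12 a ha, hlam_eq a⁻¹ (inv_ne_zero ha), thetaC_inv, map_smul]
  have hyth23 : ∀ a : F, a ≠ 0 → h23 a yth = yth := by
    intro a ha
    rw [hyth, J1_h23 a ha, h13y' a ha]
  have hythY : yth ∈ Y := by
    obtain ⟨u, hu, u', hu', hdec⟩ := Submodule.mem_sup.1 (S1d hythY2)
    have e1 : h23 a0 yth = u + (-1 : ℂ) • u' := by
      rw [← hdec, map_add, S6a a0 ha0 u hu, S7b a0 ha0 u' hu', hθ0]
    have e2 : u + (-1 : ℂ) • u' = u + u' := by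
      rw [← e1, hyth23 a0 ha0, hdec]
    have : u' = 0 := eq_zero_of_add_neg_smul e2
    rw [← hdec, this, add_zero]
    exact hu
  -- Step 3
  have hA : ∀ y ∈ Y, Jop x1 n1 y ∈ Y → ∀ a : F, a ≠ 0 → h12 a y = y := by
    intro y hy hJ a ha
    have e1 : Jop x1 n1 (h12 a y - y) = 0 := by
      have := S6a a ha _ hJ
      rw [J1_h23 a ha, h13_apply a ha, S6a a ha y hy] at this
      rw [map_sub, this, sub_self]
    have e2 : h12 a y - y ∈ fixX x1 := (fixX x1).sub_mem (hYx1 (S3a a ha y hy)) (hYx1 hy)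
    exact sub_eq_zero.1 (J_inj R1 hq e2 e1)
  have hB : ∀ y ∈ Y, (∀ a : F, a ≠ 0 → h12 a y = y) → Jop x1 n1 y ∈ Y := by
    intro y hy hfix
    obtain ⟨b, hb, g, hg, hdec⟩ := Submodule.mem_sup.1 (S1d (J1_Y2 y (S1a hy)))
    have e0 : h23 a0 (Jop x1 n1 y) = Jop x1 n1 y := by
      rw [J1_h23 a0 ha0, h13_apply a0 ha0, S6a a0 ha0 y hy, hfix a0 ha0]
    have e1 : h23 a0 (Jop x1 n1 y) = b + (-1 : ℂ) • g := by
      rw [← hdec, map_add, S6a a0 ha0 b hb, S7b a0 ha0 g hg, hθ0]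
    have e2 : b + (-1 : ℂ) • g = b + g := by
      rw [← e1, e0, hdec]
    have : g = 0 := eq_zero_of_add_neg_smul e2
    rw [← hdec, this, add_zero]
    exact hb
  have hC : ∀ y ∈ Y, (∀ a : F, a ≠ 0 → h12 a y = y) →
      ∀ a : F, a ≠ 0 → h12 a (Jop x1 n1 y) = Jop x1 n1 y := by
    intro y _ hfix a ha
    rw [J1_h12 a ha, hfix a⁻¹ (inv_ne_zero ha)]
  -- Step 4: `Y0 = 0`
  have hY0 : ∀ y0 ∈ Y, (∀ a : F, a ≠ 0 → h12 a y0 = y0) → y0 = 0 := by
    intro y0 hy0 hfix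
    by_contra hne
    have hm1 : (-1 : F) ≠ 0 := by simp
    have hn1 : n1 y0 ∉ fixX x1 := by
      intro hmem
      apply hne
      apply S8 y0 hy0
      have rel := congrArg (fun f => f y0) (R1.rel 1 one_ne_zero)
      simp only [Module.End.mul_apply, inv_one] at rel
      rw [hmem 1, hYx1 hy0 (-1), hfix (-1) hm1, hmem (-1)] at rel
      have nn := congrArg (fun f => f y0) R1.nn
      simp only [Module.End.mul_apply] at nn
      rw [nn, hfix (-1) hm1] at rel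
      exact rel.symm
    obtain ⟨c0, hc0, hec0⟩ := exists_eop_ne_zero hψ R1.x_zero R1.x_add hq hn1
    have hne_all : ∀ c : F, c ≠ 0 → eop ψ x1 c (n1 y0) ≠ 0 := by
      intro c hc
      have hd : c0 / c ≠ 0 := div_ne_zero hc0 hc
      have := eop_n_ne_zero_of_tau ψ (x := x1) (n := n1) (τ := h13 (c0 / c))
        (τ' := h23 (c0 / c)) hd (fun s => T4a _ s hd) (T3a _ hd) (h13inj _ hd) (y₀ := y0)
        (a := 1) (by rw [S6a _ hd y0 hy0, one_smul]) hec0
      have e : c0 / (c0 / c) = c := by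
        field_simp
      rwa [e] at this
    have D : KData ψ x1 n1 h12 M0 y0 :=
      { R := R1
        hψ := hψ
        hq := hq
        Nx := S3i
        Nn := S3h
        Nh := S3f (-1) hm1
        y₀N := hYM0 hy0
        y₀fix := hYx1 hy0
        y₀h := fun t ht => ⟨1, by rw [hfix t ht, one_smul]⟩
        line := by
          intro c hc y hy
          have hM : ∀ w ∈ M0, eop ψ x1 c w ∈ M0 := by
            intro w hw
            rw [eop_apply]
            exact M0.smul_mem _ (M0.sum_mem fun s _ => M0.smul_mem _ (S3i s w hw))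
          exact S9 c hc _ (hM y hy) _ (hM _ (S3h _ (hYM0 hy0)))
            (fun s => x_eop_apply ψ R1.x_add c s y) (fun s => x_eop_apply ψ R1.x_add c s _)
            (hne_all c hc) }
    have hk := D.h_mem_Triv ha0
    have hd1 := D.d1 hk (y := yth) (hYM0 hythY) (hYx1 hythY) (by
      rw [hyth12 a0 ha0]
      exact (fixX x1).smul_mem _ (hYx1 hythY))
    obtain ⟨c1, c2, hc12⟩ := Submodule.mem_span_pair.1 hd1
    -- the right hand side is `h12 a0`-fixed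
    have e1 : h12 a0 (h12 a0 yth - yth) = h12 a0 yth - yth := by
      rw [← hc12, map_add, map_smul, map_smul, hfix a0 ha0, hC y0 hy0 hfix a0 ha0]
    rw [hyth12 a0 ha0, hθ0, map_sub, map_smul, hyth12 a0 ha0, hθ0] at e1
    -- e1 : (-1) • (-1) • yth - (-1) • yth = (-1) • yth - yth
    have e2 : (4 : ℂ) • yth = 0 := by
      have e3 : (4 : ℂ) • yth =
          ((-1 : ℂ) • (-1 : ℂ) • yth - (-1 : ℂ) • yth) - ((-1 : ℂ) • yth - yth) := by
        rw [smul_smul]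
        match_scalars
        ring
      rw [e3, e1, sub_self]
    exact hyth0 ((smul_eq_zero.1 e2).resolve_left (by norm_num))
  -- Step 5
  have hgen : ∀ y ∈ Y, ∃ c : ℂ, y = c • yth := by
    intro y hy
    obtain ⟨b, hb, g, hg, hdec⟩ := Submodule.mem_sup.1 (S1d (J1_Y2 y (S1a hy)))
    obtain ⟨bt, hbt, gt, hgt, hdect⟩ := Submodule.mem_sup.1 (S1d (J1_Y2 yth (S1a hythY)))
    obtain ⟨c', hc'⟩ := hY'gen g hg
    obtain ⟨ct, hct⟩ := hY'gen gt hgt
    have hct0 : ct ≠ 0 := by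
      intro h0
      have hJ : Jop x1 n1 yth ∈ Y := by
        rw [← hdect, hct, h0, zero_smul, add_zero]
        exact hbt
      have h1 := hA yth hythY hJ a0 ha0
      rw [hyth12 a0 ha0, hθ0] at h1
      exact hyth0 (eq_zero_of_neg_smul_eq h1)
    refine ⟨c' / ct, ?_⟩
    have hmem : y - (c' / ct) • yth ∈ Y := Y.sub_mem hy (Y.smul_mem _ hythY)
    have hJ : Jop x1 n1 (y - (c' / ct) • yth) ∈ Y := by
      rw [map_sub, map_smul, ← hdec, ← hdect, hc', hct]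
      have : b + c' • y' - (c' / ct) • (bt + ct • y') = b - (c' / ct) • bt := by
        rw [smul_add, smul_smul, div_mul_cancel₀ _ hct0]
        abel
      rw [this]
      exact Y.sub_mem hb (Y.smul_mem _ hbt)
    exact sub_eq_zero.1 (hY0 _ hmem (hA _ hmem hJ))
  refine ⟨?_, ?_⟩
  · rw [finrank_eq_one_iff']
    refine ⟨⟨yth, hythY⟩, ?_, ?_⟩
    · intro h
      exact hyth0 (congrArg Subtype.val h)
    · rintro ⟨w, hw⟩
      obtain ⟨c, hc⟩ := hgen w hw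
      exact ⟨c, Subtype.ext hc.symm⟩
  · intro a ha y hy
    obtain ⟨c, hc⟩ := hgen y hy
    rw [hc, map_smul, hyth12 a ha, smul_comm]

end partF

end Cfsg.Agent.Lib.Helper85_OO2_STEPCORE
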