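import Mathlib
import Cfsg.Agent.Lib.Helper87_OO2Defs
import Cfsg.Agent.Lib.Helper85_OO2_RankOne
import Cfsg.Agent.Lib.Helper85_OO2_LemK
import Cfsg.Agent.Lib.Helper85_OO2_LemK2
import Cfsg.Agent.Lib.Helper85_OO2_INVOL
import Cfsg.Agent.Lib.Helper85_OO2_STEPCORE

/-!
# OO2-B3CORE (S2344, helper87's market, wave 3): the abstract core (B3) of the base `n = 3`

If the torus acts non-trivially on `F₂` then `finrank F₂ = 3`, `Y` is a line and `h12` acts on it by the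
quadratic character.  Derivation: `pending/helper87/S2344_basecore.md`.
-/

set_option autoImplicit false

namespace Cfsg.Agent.Lib.Helper7_OO2_B3CORE

open Module Cfsg.Agent.Lib.Helper85_OO2_RankOne
  Cfsg.Agent.Lib.Helper85_OO2_INVOL Cfsg.Agent.Lib.Helper85_OO2_STEPCORE

open Cfsg.Agent.Lib.Helper87_OO2Defs (thetaC)

section aux

variable {F : Type*} [Field F] [Fintype F] {X : Type*} [AddCommGroup X] [Module ℂ X]

/-- The (c)-argument: a subspace of `fixX x` stable under `n` is fixed pointwise by `n`. -/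
theorem n_fix_of_stable {x : F → Module.End ℂ X} {n : Module.End ℂ X} {h : F → Module.End ℂ X}
    (R : SL2Rel x n h) (E : Submodule ℂ X) (hE : E ≤ fixX x) (hn : ∀ y ∈ E, n y ∈ E)
    {y : X} (hy : y ∈ E) : n y = y := by
  have rel := congrArg (fun f => f y) (R.rel 1 one_ne_zero)
  simp only [Module.End.mul_apply, inv_one] at rel
  have nn : ∀ z, n (n z) = h (-1) z := fun z => by
    have := congrArg (fun f => f z) R.nn
    simpa using this
  have h1 : n y ∈ E := hn y hy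
  have h2 : n (n y) ∈ E := hn _ h1
  have h3 : n (n (n y)) ∈ E := hn _ h2
  rw [hE h1 1, hE hy (-1), ← nn y, hE h3 (-1)] at rel
  -- rel : n (n y) = n (n (n y))
  have n4 : ∀ z, n (n (n (n z))) = z := fun z => by
    have := congrArg (fun f => f z) R.n_pow_four
    simpa [Module.End.mul_apply] using this
  have e1 : n (n (n (n y))) = n (n (n (n (n y)))) := congrArg (fun z => n (n z)) rel
  rw [n4 y] at e1
  exact e1.symm

theorem two_smul_eq_zero {g : X} (h : (2 : ℂ) • g = 0) : g = 0 :=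
  (smul_eq_zero.1 h).resolve_left two_ne_zero

end aux

section kdata

variable {F : Type*} [Field F] [Fintype F] {X : Type*} [AddCommGroup X] [Module ℂ X]

/-- Construction of the Lemma-K data for a vector `y₀` that is an eigenvector of the tori and whose image under
`n` is not `X`-fixed; `τ` is a torus scaling `x` by its parameter, with `τ n = n τ'`. -/
theorem mkKData (ψ : AddChar F ℂ) (hψ : ψ.IsPrimitive) {x : F → Module.End ℂ X}
    {n : Module.End ℂ X} {h τ τ' : F → Module.End ℂ X} (N : Submodule ℂ X) (R : SL2Rel x n h)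
    (hq : (Fintype.card F : ℂ) ≠ 0)
    (hτx : ∀ a s : F, a ≠ 0 → τ a * x s = x (a * s) * τ a)
    (hτn : ∀ a : F, a ≠ 0 → τ a * n = n * τ' a)
    (hτinj : ∀ a : F, a ≠ 0 → ∀ z, τ a z = 0 → z = 0)
    (Nx : ∀ s : F, ∀ m ∈ N, x s m ∈ N) (Nn : ∀ m ∈ N, n m ∈ N)
    (Nh : ∀ m ∈ N, h (-1) m ∈ N)
    (A4 : ∀ c : F, c ≠ 0 → ∀ m ∈ N, ∀ m' ∈ N, (∀ s : F, x s m = ψ (c * s) • m) →
      (∀ s : F, x s m' = ψ (c * s) • m') → m' ≠ 0 → ∃ a : ℂ, m = a • m')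
    {y0 : X} (hy0N : y0 ∈ N) (hy0f : y0 ∈ fixX x)
    (hy0h : ∀ t : F, t ≠ 0 → ∃ a : ℂ, h t y0 = a • y0)
    (hy0τ : ∀ t : F, t ≠ 0 → ∃ a : ℂ, τ' t y0 = a • y0)
    (hn : n y0 ∉ fixX x) : KData ψ x n h N y0 := by
  obtain ⟨c0, hc0, hec0⟩ := exists_eop_ne_zero hψ R.x_zero R.x_add hq hn
  have hne_all : ∀ c : F, c ≠ 0 → eop ψ x c (n y0) ≠ 0 := by
    intro c hc
    have hd : c0 / c ≠ 0 := div_ne_zero hc0 hc
    obtain ⟨a, ha⟩ := hy0τ (c0 / c) hd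
    have := eop_n_ne_zero_of_tau ψ (x := x) (n := n) (τ := τ (c0 / c))
      (τ' := τ' (c0 / c)) hd (fun s => hτx _ s hd) (hτn _ hd) (hτinj _ hd) (y₀ := y0)
      (a := a) ha hec0
    have e : c0 / (c0 / c) = c := by
      field_simp
    rwa [e] at this
  exact
    { R := R
      hψ := hψ
      hq := hq
      Nx := Nx
      Nn := Nn
      Nh := Nh
      y₀N := hy0N
      y₀fix := hy0f
      y₀h := hy0h
      line := by
        intro c hc y hy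
        have hM : ∀ w ∈ N, eop ψ x c w ∈ N := by
          intro w hw
          rw [eop_apply]
          exact N.smul_mem _ (N.sum_mem fun s _ => N.smul_mem _ (Nx s w hw))
        exact A4 c hc _ (hM y hy) _ (hM _ (Nn _ hy0N))
          (fun s => x_eop_apply ψ R.x_add c s y) (fun s => x_eop_apply ψ R.x_add c s _)
          (hne_all c hc) }

/-- Consequence (d1) of Lemma K for the torus element `h t`. -/
theorem kdata_torus {ψ : AddChar F ℂ} {x : F → Module.End ℂ X} {n : Module.End ℂ X}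
    {h : F → Module.End ℂ X} {N : Submodule ℂ X} {y0 : X} (D : KData ψ x n h N y0) {t : F}
    (ht : t ≠ 0) {y : X} (hy : y ∈ N) (hyf : y ∈ fixX x) (hkf : h t y ∈ fixX x) :
    ∃ c1 c2 : ℂ, c1 • y0 + c2 • Jop x n y0 = h t y - y :=
  Submodule.mem_span_pair.1 (D.d1 (D.h_mem_Triv ht) hy hyf hkf)

end kdata

/-- The joint eigenspace of `σ`, `τ` inside `F2`. -/
def EE {X : Type*} [AddCommGroup X] [Module ℂ X] (F2 : Submodule ℂ X) (σ τ : Module.End ℂ X)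
    (e e' : ℂ) : Submodule ℂ X := F2 ⊓ eig σ τ e e'

theorem mem_EE {X : Type*} [AddCommGroup X] [Module ℂ X] {F2 : Submodule ℂ X}
    {σ τ : Module.End ℂ X} {e e' : ℂ} {y : X} :
    y ∈ EE F2 σ τ e e' ↔ y ∈ F2 ∧ σ y = e • y ∧ τ y = e' • y := Iff.rfl

section core

variable {F : Type*} [Field F] [Fintype F] {X : Type*} [AddCommGroup X] [Module ℂ X]
  [FiniteDimensional ℂ X]

/-! ## OO2-B3CORE (XL) -/
theorem b3_core (ψ : AddChar F ℂ) (hψ : ψ.IsPrimitive) (a0 : F) (ha0 : a0 ≠ 0)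
    (hθ0 : thetaC a0 = -1)
    (hsq : ∀ a : F, a ≠ 0 → (∃ t : F, t ≠ 0 ∧ a = t ^ 2 ∧ thetaC a = 1) ∨
      (∃ t : F, t ≠ 0 ∧ a = a0 * t ^ 2 ∧ thetaC a = -1))
    (x1 x2 : F → Module.End ℂ X) (n1 n2 : Module.End ℂ X) (h12 h13 h23 : F → Module.End ℂ X)
    (Y F2 M0 M2 : Submodule ℂ X)
    (R1 : SL2Rel x1 n1 h12) (R2 : SL2Rel x2 n2 h23)
    (T1 : ∀ a : F, a ≠ 0 → h13 a = h12 a * h23 a)
    (T2 : ∀ a b : F, a ≠ 0 → b ≠ 0 → h12 a * h23 b = h23 b * h12 a)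
    (T3a : ∀ a : F, a ≠ 0 → h13 a * n1 = n1 * h23 a)
    (T3b : ∀ a : F, a ≠ 0 → h23 a * n1 = n1 * h13 a)
    (T3c : ∀ a : F, a ≠ 0 → h13 a * n2 = n2 * h12 a)
    (T3d : ∀ a : F, a ≠ 0 → h12 a * n2 = n2 * h13 a)
    (T4a : ∀ a s : F, a ≠ 0 → h13 a * x1 s = x1 (a * s) * h13 a)
    (T4b : ∀ a s : F, a ≠ 0 → h23 a * x1 s = x1 (a⁻¹ * s) * h23 a)
    (T4c : ∀ a s : F, a ≠ 0 → h12 a * x2 s = x2 (a⁻¹ * s) * h12 a)
    (T4d : ∀ a s : F, a ≠ 0 → h13 a * x2 s = x2 (a * s) * h13 a)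
    (A1a : F2 ≤ fixX x1) (A1b : F2 ≤ fixX x2) (A1c : F2 ≤ M0) (A1d : F2 ≤ M2)
    (A2a : ∀ m ∈ M0, m ∈ fixX x1 → m ∈ F2) (A2b : ∀ m ∈ M2, m ∈ fixX x2 → m ∈ F2)
    (A3a : ∀ s : F, ∀ m ∈ M0, x1 s m ∈ M0) (A3b : ∀ m ∈ M0, n1 m ∈ M0)
    (A3c : ∀ a : F, a ≠ 0 → ∀ m ∈ M0, h12 a m ∈ M0)
    (_A3d : ∀ a : F, a ≠ 0 → ∀ m ∈ M0, h23 a m ∈ M0)
    (A3e : ∀ s : F, ∀ m ∈ M2, x2 s m ∈ M2) (A3f : ∀ m ∈ M2, n2 m ∈ M2)
    (_A3g : ∀ a : F, a ≠ 0 → ∀ m ∈ M2, h12 a m ∈ M2)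
    (A3h : ∀ a : F, a ≠ 0 → ∀ m ∈ M2, h23 a m ∈ M2)
    (A4a : ∀ c : F, c ≠ 0 → ∀ m ∈ M0, ∀ m' ∈ M0, (∀ s : F, x1 s m = ψ (c * s) • m) →
      (∀ s : F, x1 s m' = ψ (c * s) • m') → m' ≠ 0 → ∃ a : ℂ, m = a • m')
    (A4b : ∀ c : F, c ≠ 0 → ∀ m ∈ M2, ∀ m' ∈ M2, (∀ s : F, x2 s m = ψ (c * s) • m) →
      (∀ s : F, x2 s m' = ψ (c * s) • m') → m' ≠ 0 → ∃ a : ℂ, m = a • m')
    (A5a : ∀ a : F, a ≠ 0 → ∀ y ∈ F2, h12 a y ∈ F2)
    (A5b : ∀ a : F, a ≠ 0 → ∀ y ∈ F2, h23 a y ∈ F2)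
    (A6 : ∀ t : F, t ≠ 0 → ∀ y ∈ F2, h12 (t ^ 2) y = y ∧ h23 (t ^ 2) y = y)
    (A7a : Y ≤ F2) (A7b : ∀ a : F, a ≠ 0 → ∀ y ∈ Y, h12 a y ∈ Y)
    (A7c : ∀ a : F, a ≠ 0 → ∀ y ∈ Y, h23 a y = y)
    (A8 : ∀ y ∈ F2, n2 y = y → (∀ a : F, a ≠ 0 → ∃ c : ℂ, h12 a y = c • y) → y ∈ Y)
    (A9 : ∀ y ∈ Y, n1 y = y → y = 0)
    (nontriv : ∃ a : F, a ≠ 0 ∧ ∃ y ∈ F2, h12 a y ≠ y ∨ h23 a y ≠ y) :
    finrank ℂ ↥F2 = 3 ∧ finrank ℂ ↥Y = 1 ∧
      ∀ a : F, a ≠ 0 → ∀ y ∈ Y, h12 a y = thetaC a • y := by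
  classical
  have hq : (Fintype.card F : ℂ) ≠ 0 := by
    exact_mod_cast Fintype.card_ne_zero
  have hm1 : (-1 : F) ≠ 0 := by simp
  -- invertibility of the torus operators
  have h12inv : ∀ a : F, a ≠ 0 → h12 a⁻¹ * h12 a = 1 := by
    intro a ha
    rw [← R1.h_mul _ _ (inv_ne_zero ha) ha, inv_mul_cancel₀ ha, R1.h_one]
  have h23inv : ∀ a : F, a ≠ 0 → h23 a⁻¹ * h23 a = 1 := by
    intro a ha
    rw [← R2.h_mul _ _ (inv_ne_zero ha) ha, inv_mul_cancel₀ ha, R2.h_one]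
  have h12inj : ∀ a : F, a ≠ 0 → ∀ z, h12 a z = 0 → z = 0 := by
    intro a ha z hz
    have := congrArg (fun f => f z) (h12inv a ha)
    simp only [Module.End.mul_apply, Module.End.one_apply] at this
    rw [hz, map_zero] at this
    exact this.symm
  have h23inj : ∀ a : F, a ≠ 0 → ∀ z, h23 a z = 0 → z = 0 := by
    intro a ha z hz
    have := congrArg (fun f => f z) (h23inv a ha)
    simp only [Module.End.mul_apply, Module.End.one_apply] at this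
    rw [hz, map_zero] at this
    exact this.symm
  have h13_apply : ∀ a : F, a ≠ 0 → ∀ y, h13 a y = h12 a (h23 a y) := by
    intro a ha y
    rw [T1 a ha]
    rfl
  have h13inj : ∀ a : F, a ≠ 0 → ∀ z, h13 a z = 0 → z = 0 := by
    intro a ha z hz
    rw [h13_apply a ha] at hz
    exact h23inj a ha z (h12inj a ha _ hz)
  -- intertwining relations for `J1`, `J2`
  have J1_h12 : ∀ a : F, a ≠ 0 → ∀ y, h12 a (Jop x1 n1 y) = Jop x1 n1 (h12 a⁻¹ y) := by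
    intro a ha y
    have := congrArg (fun f => f y) (J_h R1 (inv_ne_zero ha))
    simpa only [inv_inv, Module.End.mul_apply] using this
  have J2_h23 : ∀ a : F, a ≠ 0 → ∀ y, h23 a (Jop x2 n2 y) = Jop x2 n2 (h23 a⁻¹ y) := by
    intro a ha y
    have := congrArg (fun f => f y) (J_h R2 (inv_ne_zero ha))
    simpa only [inv_inv, Module.End.mul_apply] using this
  have J1_h23 : ∀ a : F, a ≠ 0 → ∀ y, h23 a (Jop x1 n1 y) = Jop x1 n1 (h13 a y) := by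
    intro a ha y
    have := congrArg (fun f => f y) (tau_J (x := x1) (n := n1) (τ := h23 a) (τ' := h13 a)
      (c := a⁻¹) (inv_ne_zero ha) (fun s => T4b a s ha) (T3b a ha))
    simpa only [Module.End.mul_apply] using this
  have J2_h12 : ∀ a : F, a ≠ 0 → ∀ y, h12 a (Jop x2 n2 y) = Jop x2 n2 (h13 a y) := by
    intro a ha y
    have := congrArg (fun f => f y) (tau_J (x := x2) (n := n2) (τ := h12 a) (τ' := h13 a)
      (c := a⁻¹) (inv_ne_zero ha) (fun s => T4c a s ha) (T3d a ha))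
    simpa only [Module.End.mul_apply] using this
  -- the torus on `F2`
  have hθinv : thetaC a0⁻¹ = -1 := by rw [thetaC_inv, hθ0]
  have tor : ∀ a : F, a ≠ 0 → ∀ y ∈ F2,
      (thetaC a = 1 ∧ h12 a y = y ∧ h23 a y = y) ∨
      (thetaC a = -1 ∧ h12 a y = h12 a0 y ∧ h23 a y = h23 a0 y) := by
    intro a ha y hy
    rcases hsq a ha with ⟨t, ht, hat, hth⟩ | ⟨t, ht, hat, hth⟩
    · refine Or.inl ⟨hth, ?_, ?_⟩
      · rw [hat]; exact (A6 t ht y hy).1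
      · rw [hat]; exact (A6 t ht y hy).2
    · refine Or.inr ⟨hth, ?_, ?_⟩
      · rw [hat, R1.h_mul a0 (t ^ 2) ha0 (pow_ne_zero 2 ht), Module.End.mul_apply,
          (A6 t ht y hy).1]
      · rw [hat, R2.h_mul a0 (t ^ 2) ha0 (pow_ne_zero 2 ht), Module.End.mul_apply,
          (A6 t ht y hy).2]
  have s12sq : ∀ y ∈ F2, h12 a0 (h12 a0 y) = y := by
    intro y hy
    have := (A6 a0 ha0 y hy).1
    rw [pow_two, R1.h_mul a0 a0 ha0 ha0] at this
    exact this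
  have s23sq : ∀ y ∈ F2, h23 a0 (h23 a0 y) = y := by
    intro y hy
    have := (A6 a0 ha0 y hy).2
    rw [pow_two, R2.h_mul a0 a0 ha0 ha0] at this
    exact this
  have scomm : ∀ y, h12 a0 (h23 a0 y) = h23 a0 (h12 a0 y) := fun y =>
    congrArg (fun f => f y) (T2 a0 a0 ha0 ha0)
  have one_ne_neg : (1 : ℂ) ≠ -1 := by norm_num
  have inv12 : ∀ y ∈ F2, h12 a0⁻¹ y = h12 a0 y := by
    intro y hy
    rcases tor a0⁻¹ (inv_ne_zero ha0) y hy with ⟨h1, _, _⟩ | ⟨_, h2, _⟩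
    · rw [hθinv] at h1
      exact absurd h1.symm one_ne_neg
    · exact h2
  have inv23 : ∀ y ∈ F2, h23 a0⁻¹ y = h23 a0 y := by
    intro y hy
    rcases tor a0⁻¹ (inv_ne_zero ha0) y hy with ⟨h1, _, _⟩ | ⟨_, _, h2⟩
    · rw [hθinv] at h1
      exact absurd h1.symm one_ne_neg
    · exact h2
  -- `J1`, `J2` preserve `F2`
  have J1F2 : ∀ y ∈ F2, Jop x1 n1 y ∈ F2 := by
    intro y hy
    apply A2a
    · rw [Jop_apply]
      exact M0.sum_mem fun s _ => A3a s _ (A3b _ (A1c hy))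
    · exact Jop_mem_fixX R1.x_add n1 y
  have J2F2 : ∀ y ∈ F2, Jop x2 n2 y ∈ F2 := by
    intro y hy
    apply A2b
    · rw [Jop_apply]
      exact M2.sum_mem fun s _ => A3e s _ (A3f _ (A1d hy))
    · exact Jop_mem_fixX R2.x_add n2 y
  have J1inj : ∀ y ∈ F2, Jop x1 n1 y = 0 → y = 0 := fun y hy h => J_inj R1 hq (A1a hy) h
  have J2inj : ∀ y ∈ F2, Jop x2 n2 y = 0 → y = 0 := fun y hy h => J_inj R2 hq (A1b hy) h
  -- joint eigenspaces
  have J1EE : ∀ e e' : ℂ, ∀ y ∈ EE F2 (h12 a0) (h23 a0) e e',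
      Jop x1 n1 y ∈ EE F2 (h12 a0) (h23 a0) e (e * e') := by
    rintro e e' y ⟨hy, h1, h2⟩
    refine ⟨J1F2 y hy, ?_, ?_⟩
    · rw [J1_h12 a0 ha0, inv12 y hy, h1, map_smul]
    · rw [J1_h23 a0 ha0, h13_apply a0 ha0, h2, map_smul, h1, smul_smul, map_smul, mul_comm]
  have J2EE : ∀ e e' : ℂ, ∀ y ∈ EE F2 (h12 a0) (h23 a0) e e',
      Jop x2 n2 y ∈ EE F2 (h12 a0) (h23 a0) (e * e') e' := by
    rintro e e' y ⟨hy, h1, h2⟩
    refine ⟨J2F2 y hy, ?_, ?_⟩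
    · rw [J2_h12 a0 ha0, h13_apply a0 ha0, h2, map_smul, h1, smul_smul, map_smul, mul_comm]
    · rw [J2_h23 a0 ha0, inv23 y hy, h2, map_smul]
  -- eigenvector properties
  have eig12 : ∀ e e' : ℂ, ∀ y ∈ EE F2 (h12 a0) (h23 a0) e e', ∀ a : F, a ≠ 0 →
      ∃ c : ℂ, h12 a y = c • y := by
    rintro e e' y ⟨hy, h1, _⟩ a ha
    rcases tor a ha y hy with ⟨_, h, _⟩ | ⟨_, h, _⟩
    · exact ⟨1, by rw [h, one_smul]⟩
    · exact ⟨e, by rw [h, h1]⟩
  have eig23 : ∀ e e' : ℂ, ∀ y ∈ EE F2 (h12 a0) (h23 a0) e e', ∀ a : F, a ≠ 0 →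
      ∃ c : ℂ, h23 a y = c • y := by
    rintro e e' y ⟨hy, _, h2⟩ a ha
    rcases tor a ha y hy with ⟨_, _, h⟩ | ⟨_, _, h⟩
    · exact ⟨1, by rw [h, one_smul]⟩
    · exact ⟨e', by rw [h, h2]⟩
  -- restricted operators on `↥F2`
  let σ₁ : Module.End ℂ ↥F2 := (h12 a0).restrict (A5a a0 ha0)
  let σ₂ : Module.End ℂ ↥F2 := (h23 a0).restrict (A5b a0 ha0)
  let K₁ : Module.End ℂ ↥F2 := (Jop x1 n1).restrict J1F2
  let K₂ : Module.End ℂ ↥F2 := (Jop x2 n2).restrict J2F2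
  have hσ₁ : ∀ y : ↥F2, ((σ₁ y : ↥F2) : X) = h12 a0 (y : X) := fun y => rfl
  have hσ₂ : ∀ y : ↥F2, ((σ₂ y : ↥F2) : X) = h23 a0 (y : X) := fun y => rfl
  have hK₁ : ∀ y : ↥F2, ((K₁ y : ↥F2) : X) = Jop x1 n1 (y : X) := fun y => rfl
  have hK₂ : ∀ y : ↥F2, ((K₂ y : ↥F2) : X) = Jop x2 n2 (y : X) := fun y => rfl
  have D : InvData σ₁ σ₂ K₁ K₂ :=
    { s11 := by
        refine LinearMap.ext fun y => Subtype.ext ?_
        rw [Module.End.mul_apply, hσ₁, hσ₁, Module.End.one_apply]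
        exact s12sq _ y.2
      s22 := by
        refine LinearMap.ext fun y => Subtype.ext ?_
        rw [Module.End.mul_apply, hσ₂, hσ₂, Module.End.one_apply]
        exact s23sq _ y.2
      comm := by
        refine LinearMap.ext fun y => Subtype.ext ?_
        rw [Module.End.mul_apply, Module.End.mul_apply, hσ₁, hσ₂, hσ₂, hσ₁]
        exact scomm _
      inj1 := by
        intro y hy
        exact Subtype.ext (J1inj _ y.2 (by rw [← hK₁, hy]; rfl))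
      inj2 := by
        intro y hy
        exact Subtype.ext (J2inj _ y.2 (by rw [← hK₂, hy]; rfl))
      a1 := by
        refine LinearMap.ext fun y => Subtype.ext ?_
        rw [Module.End.mul_apply, Module.End.mul_apply, hσ₁, hK₁, hK₁, hσ₁, J1_h12 a0 ha0,
          inv12 _ y.2]
      a2 := by
        refine LinearMap.ext fun y => Subtype.ext ?_
        rw [Module.End.mul_apply, Module.End.mul_apply, Module.End.mul_apply, hσ₂, hK₁, hK₁, hσ₁,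
          hσ₂, J1_h23 a0 ha0, h13_apply a0 ha0]
      b1 := by
        refine LinearMap.ext fun y => Subtype.ext ?_
        rw [Module.End.mul_apply, Module.End.mul_apply, hσ₂, hK₂, hK₂, hσ₂, J2_h23 a0 ha0,
          inv23 _ y.2]
      b2 := by
        refine LinearMap.ext fun y => Subtype.ext ?_
        rw [Module.End.mul_apply, Module.End.mul_apply, Module.End.mul_apply, hσ₁, hK₂, hK₂, hσ₁,
          hσ₂, J2_h12 a0 ha0, h13_apply a0 ha0] }
  have hadd := D.finrank_eq_add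
  -- translation between the eigenspaces in `↥F2` and in `X`
  have eig_iff : ∀ (e e' : ℂ) (y : ↥F2), y ∈ eig σ₁ σ₂ e e' ↔
      (y : X) ∈ EE F2 (h12 a0) (h23 a0) e e' := by
    intro e e' y
    rw [mem_eig, mem_EE]
    constructor
    · rintro ⟨h1, h2⟩
      refine ⟨y.2, ?_, ?_⟩
      · rw [← hσ₁, h1]; rfl
      · rw [← hσ₂, h2]; rfl
    · rintro ⟨_, h1, h2⟩
      exact ⟨Subtype.ext (by rw [hσ₁, h1]; rfl), Subtype.ext (by rw [hσ₂, h2]; rfl)⟩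
  -- `b ≥ 1`: a non-zero vector `y1` of `E(-,+)`
  have hb : eig σ₁ σ₂ (-1) 1 ≠ ⊥ := by
    intro hbot
    have h0 : finrank ℂ ↥(eig σ₁ σ₂ (-1) 1) = 0 := by rw [hbot, finrank_bot]
    have h1 : finrank ℂ ↥(eig σ₁ σ₂ 1 1) = finrank ℂ ↥F2 := by omega
    have htop : eig σ₁ σ₂ 1 1 = ⊤ := Submodule.eq_top_of_finrank_eq h1
    obtain ⟨a, ha, y, hy, hne⟩ := nontriv
    have hmem : (⟨y, hy⟩ : ↥F2) ∈ eig σ₁ σ₂ 1 1 := by rw [htop]; exact Submodule.mem_top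
    obtain ⟨_, h1', h2'⟩ := (eig_iff 1 1 ⟨y, hy⟩).1 hmem
    rw [one_smul] at h1' h2'
    rcases tor a ha y hy with ⟨_, e1, e2⟩ | ⟨_, e1, e2⟩
    · rcases hne with h | h
      · exact h e1
      · exact h e2
    · rcases hne with h | h
      · exact h (e1.trans h1')
      · exact h (e2.trans h2')
  obtain ⟨y1s, hy1s, hy1ne⟩ := Submodule.exists_mem_ne_zero_of_ne_bot hb
  obtain ⟨y1, hy1def⟩ : ∃ y1 : X, y1 = (y1s : X) := ⟨_, rfl⟩
  have hy1 : y1 ∈ EE F2 (h12 a0) (h23 a0) (-1) 1 := by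
    rw [hy1def]; exact (eig_iff (-1) 1 y1s).1 hy1s
  have hy10 : y1 ≠ 0 := by
    rw [hy1def]
    intro h
    exact hy1ne (Subtype.ext h)
  have hy2 : Jop x1 n1 y1 ∈ EE F2 (h12 a0) (h23 a0) (-1) (-1) := by
    have := J1EE (-1) 1 y1 hy1
    rwa [mul_one] at this
  have hy20 : Jop x1 n1 y1 ≠ 0 := fun h => hy10 (J1inj y1 hy1.1 h)
  -- a vector with eigenvalues `-1` and `1` for the same operator vanishes
  have key4 : ∀ (g : Module.End ℂ X) (z : X), g z = (-1 : ℂ) • z →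
      g (g z - z) = (1 : ℂ) • (g z - z) → z = 0 := by
    intro g z h1 h2
    rw [h1, map_sub, map_smul, h1] at h2
    have e3 : (4 : ℂ) • z =
        ((-1 : ℂ) • (-1 : ℂ) • z - (-1 : ℂ) • z) - (1 : ℂ) • ((-1 : ℂ) • z - z) := by
      module
    rw [h2, sub_self] at e3
    exact (smul_eq_zero.1 e3).resolve_left (by norm_num)
  -- Step 3: `E(+,e')` is fixed pointwise by `n1`
  have n1fix : ∀ e' : ℂ, ∀ y ∈ EE F2 (h12 a0) (h23 a0) 1 e', n1 y = y := by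
    intro e'
    have hJ : ∀ y ∈ EE F2 (h12 a0) (h23 a0) 1 e',
        Jop x1 n1 y ∈ EE F2 (h12 a0) (h23 a0) 1 e' := by
      intro y hy
      have := J1EE 1 e' y hy
      rwa [one_mul] at this
    have hfix : ∀ y0 ∈ EE F2 (h12 a0) (h23 a0) 1 e', n1 y0 ∈ fixX x1 := by
      intro y0 hy0
      by_contra hn
      have D0 : KData ψ x1 n1 h12 M0 y0 :=
        mkKData ψ hψ M0 R1 hq (τ := h13) (τ' := h23) T4a T3a h13inj A3a A3b (A3c (-1) hm1) A4a
          (A1c hy0.1) (A1a hy0.1) (eig12 1 e' y0 hy0) (eig23 1 e' y0 hy0) hn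
      obtain ⟨c1, c2, hc⟩ := kdata_torus D0 ha0 (A1c hy1.1) (A1a hy1.1)
        (A1a (A5a a0 ha0 y1 hy1.1))
      have hE : h12 a0 y1 - y1 ∈ EE F2 (h12 a0) (h23 a0) 1 e' := by
        rw [← hc]
        exact Submodule.add_mem _ (Submodule.smul_mem _ _ hy0)
          (Submodule.smul_mem _ _ (hJ y0 hy0))
      exact hy10 (key4 (h12 a0) y1 hy1.2.1 hE.2.1)
    intro y hy
    refine n_fix_of_stable R1 (EE F2 (h12 a0) (h23 a0) 1 e') (fun z hz => A1a hz.1) ?_ hy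
    intro z hz
    have : n1 z = (Fintype.card F : ℂ)⁻¹ • Jop x1 n1 z := by
      rw [Jop, Module.End.mul_apply, Pop_of_mem_fixX (hfix z hz), smul_smul,
        inv_mul_cancel₀ hq, one_smul]
    rw [this]
    exact Submodule.smul_mem _ _ (hJ z hz)
  -- Step 4: `E(e,+)` is fixed pointwise by `n2`
  have n2fix : ∀ e : ℂ, ∀ y ∈ EE F2 (h12 a0) (h23 a0) e 1, n2 y = y := by
    intro e
    have hJ : ∀ y ∈ EE F2 (h12 a0) (h23 a0) e 1,
        Jop x2 n2 y ∈ EE F2 (h12 a0) (h23 a0) e 1 := by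
      intro y hy
      have := J2EE e 1 y hy
      rwa [mul_one] at this
    have hfix : ∀ y0 ∈ EE F2 (h12 a0) (h23 a0) e 1, n2 y0 ∈ fixX x2 := by
      intro y0 hy0
      by_contra hn
      have D0 : KData ψ x2 n2 h23 M2 y0 :=
        mkKData ψ hψ M2 R2 hq (τ := h13) (τ' := h12) T4d T3c h13inj A3e A3f (A3h (-1) hm1) A4b
          (A1d hy0.1) (A1b hy0.1) (eig23 e 1 y0 hy0) (eig12 e 1 y0 hy0) hn
      obtain ⟨c1, c2, hc⟩ := kdata_torus D0 ha0 (A1d hy2.1) (A1b hy2.1)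
        (A1b (A5b a0 ha0 _ hy2.1))
      have hE : h23 a0 (Jop x1 n1 y1) - Jop x1 n1 y1 ∈ EE F2 (h12 a0) (h23 a0) e 1 := by
        rw [← hc]
        exact Submodule.add_mem _ (Submodule.smul_mem _ _ hy0)
          (Submodule.smul_mem _ _ (hJ y0 hy0))
      exact hy20 (key4 (h23 a0) _ hy2.2.2 hE.2.2)
    intro y hy
    refine n_fix_of_stable R2 (EE F2 (h12 a0) (h23 a0) e 1) (fun z hz => A1b hz.1) ?_ hy
    intro z hz
    have : n2 z = (Fintype.card F : ℂ)⁻¹ • Jop x2 n2 z := by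
      rw [Jop, Module.End.mul_apply, Pop_of_mem_fixX (hfix z hz), smul_smul,
        inv_mul_cancel₀ hq, one_smul]
    rw [this]
    exact Submodule.smul_mem _ _ (hJ z hz)
  -- `E(e,+) ≤ Y`
  have EE_le_Y : ∀ e : ℂ, ∀ y ∈ EE F2 (h12 a0) (h23 a0) e 1, y ∈ Y := fun e y hy =>
    A8 y hy.1 (n2fix e y hy) (eig12 e 1 y hy)
  -- Step 5: `E(+,+) = 0`
  have EE11 : ∀ y ∈ EE F2 (h12 a0) (h23 a0) 1 1, y = 0 := fun y hy =>
    A9 y (EE_le_Y 1 y hy) (n1fix 1 y hy)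
  -- Step 6: `Y ≤ E(-,+)`
  have Y_le : ∀ y ∈ Y, y ∈ EE F2 (h12 a0) (h23 a0) (-1) 1 := by
    intro y hy
    have hw : y + h12 a0 y ∈ EE F2 (h12 a0) (h23 a0) 1 1 := by
      have hwY : y + h12 a0 y ∈ Y := Y.add_mem hy (A7b a0 ha0 y hy)
      refine ⟨A7a hwY, ?_, ?_⟩
      · rw [map_add, s12sq y (A7a hy), one_smul, add_comm]
      · rw [A7c a0 ha0 _ hwY, one_smul]
    have h0 := EE11 _ hw
    refine ⟨A7a hy, ?_, ?_⟩
    · rw [neg_smul, one_smul]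
      exact (eq_neg_of_add_eq_zero_right h0)
    · rw [A7c a0 ha0 y hy, one_smul]
  -- Step 7: `E(-,+) = ℂ y1`
  have hn1y1 : n1 y1 ∉ fixX x1 := by
    intro hmem
    obtain ⟨c, hc⟩ := eig12 (-1) 1 y1 hy1 (-1) hm1
    have hnn : n1 (n1 y1) = c • y1 := by
      have := congrArg (fun f => f y1) R1.nn
      simp only [Module.End.mul_apply] at this
      rw [this, hc]
    have hfixy1 : n1 y1 = y1 := by
      refine n_fix_of_stable R1 (Submodule.span ℂ {y1, n1 y1}) ?_ ?_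
        (Submodule.subset_span (by simp))
      · rw [Submodule.span_le]
        intro z hz
        rcases hz with rfl | hz
        · exact A1a hy1.1
        · rw [Set.mem_singleton_iff] at hz
          rw [hz]; exact hmem
      · intro z hz
        obtain ⟨α, β, rfl⟩ := Submodule.mem_span_pair.1 hz
        rw [map_add, map_smul, map_smul, hnn]
        exact Submodule.add_mem _
          (Submodule.smul_mem _ _ (Submodule.subset_span (by simp)))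
          (Submodule.smul_mem _ _ (Submodule.smul_mem _ _ (Submodule.subset_span (by simp))))
    -- the relation at `s = -a0`
    have hs : -a0 ≠ 0 := neg_ne_zero.mpr ha0
    have rel := congrArg (fun f => f y1) (R1.rel (-a0) hs)
    simp only [Module.End.mul_apply, neg_neg] at rel
    rw [hfixy1, A1a hy1.1 _, hfixy1, A1a hy1.1 _, hy1.2.1, map_smul, hfixy1, map_smul,
      A1a hy1.1 _] at rel
    -- rel : y1 = (-1) • y1
    exact hy10 (eq_zero_of_neg_smul_eq rel.symm)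
  have D1 : KData ψ x1 n1 h12 M0 y1 :=
    mkKData ψ hψ M0 R1 hq (τ := h13) (τ' := h23) T4a T3a h13inj A3a A3b (A3c (-1) hm1) A4a
      (A1c hy1.1) (A1a hy1.1) (eig12 (-1) 1 y1 hy1) (eig23 (-1) 1 y1 hy1) hn1y1
  have hline : ∀ y ∈ EE F2 (h12 a0) (h23 a0) (-1) 1, ∃ c : ℂ, y = c • y1 := by
    intro y hy
    obtain ⟨c1, c2, hc⟩ := kdata_torus D1 ha0 (A1c hy.1) (A1a hy.1) (A1a (A5a a0 ha0 y hy.1))
    rw [hy.2.1] at hc
    -- apply `h23 a0`
    have h1 := congrArg (fun z => h23 a0 z) hc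
    simp only [map_add, map_smul, map_sub] at h1
    rw [hy1.2.2, hy2.2.2, hy.2.2] at h1
    have h2 : c2 • Jop x1 n1 y1 = 0 := by
      have e1 : (2 : ℂ) • (c2 • Jop x1 n1 y1) =
          (c1 • y1 + c2 • Jop x1 n1 y1) - (c1 • (1 : ℂ) • y1 + c2 • (-1 : ℂ) • Jop x1 n1 y1) := by
        module
      rw [h1, hc] at e1
      have e2 : (-1 : ℂ) • y - y - ((-1 : ℂ) • (1 : ℂ) • y - (1 : ℂ) • y) = 0 := by module
      rw [e2] at e1
      exact two_smul_eq_zero e1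
    rw [h2, add_zero] at hc
    refine ⟨-c1 / 2, ?_⟩
    have e3 : y = (-(1 : ℂ) / 2) • ((-1 : ℂ) • y - y) := by module
    rw [e3, ← hc, smul_smul]
    congr 1
    ring
  -- conclusion
  have ha_zero : finrank ℂ ↥(eig σ₁ σ₂ 1 1) = 0 := by
    have : eig σ₁ σ₂ 1 1 = ⊥ := by
      rw [eq_bot_iff]
      intro y hy
      have := EE11 _ ((eig_iff 1 1 y).1 hy)
      exact (Submodule.mem_bot ℂ).2 (Subtype.ext this)
    rw [this, finrank_bot]
  have hb_one : finrank ℂ ↥(eig σ₁ σ₂ (-1) 1) = 1 := by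
    rw [finrank_eq_one_iff']
    refine ⟨⟨y1s, hy1s⟩, ?_, ?_⟩
    · intro h
      exact hy1ne (congrArg Subtype.val h)
    · rintro ⟨w, hw⟩
      obtain ⟨c, hc⟩ := hline _ ((eig_iff (-1) 1 w).1 hw)
      refine ⟨c, Subtype.ext (Subtype.ext ?_)⟩
      show c • (y1s : X) = (w : X)
      rw [hc, hy1def]
  refine ⟨by omega, ?_, ?_⟩
  · rw [finrank_eq_one_iff']
    refine ⟨⟨y1, EE_le_Y (-1) y1 hy1⟩, ?_, ?_⟩
    · intro h
      exact hy10 (congrArg Subtype.val h)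
    · rintro ⟨w, hw⟩
      obtain ⟨c, hc⟩ := hline w (Y_le w hw)
      exact ⟨c, Subtype.ext hc.symm⟩
  · intro a ha y hy
    have hyE := Y_le y hy
    rcases tor a ha y hyE.1 with ⟨hth, h, _⟩ | ⟨hth, h, _⟩
    · rw [hth, one_smul, h]
    · rw [hth, h, hyE.2.1]

end core

end Cfsg.Agent.Lib.Helper7_OO2_B3CORE
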