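/-
PL9a (helper7, helper85's S5871 market): odd characteristic: an irreducible group of isometries
normalising an adjoint-closed tensor algebra `M_d ⊗ 1` preserves the tensor decomposition, and the
polar form is the tensor product of two alternating forms (then `Q` vanishes on the pure tensors)
or of two symmetric forms.  Same skeleton as helper82's EV17.
-/
import Mathlib
import Cfsg.Agent.Lib.Helper98_AschDefs
import Cfsg.Agent.Lib.Helper23_FormDefs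
import Cfsg.Agent.Lib.Helper29_OrthOddDefs
import Cfsg.Agent.Lib.Helper52_Form_F4
import Cfsg.Agent.Lib.Helper34_OrthOdd_OP4b
import Cfsg.Agent.Lib.Helper7_AschSp_SP4c
import Cfsg.Agent.Lib.Helper82_AschSp_SP4a
import Cfsg.Agent.Lib.Helper82_OrthEven_EV17
import Cfsg.Agent.Lib.Helper94_TensorVec
import Cfsg.Agent.Lib.Helper73_OrthEven_EV8bCore

set_option autoImplicit false

open Cfsg Cfsg.Geo Matrix Cfsg.Agent.Lib.Helper98_AschDefs Cfsg.Agent.Lib.Helper23_FormDefs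
  Cfsg.Agent.Lib.Helper34_OrthOdd_OP4b Cfsg.Agent.Lib.Helper82_AschSp_SP4a
open scoped Kronecker MatrixGroups

namespace Cfsg.Agent.Lib.Helper7_OrthEven_PL9a

open Cfsg.Agent.Lib.Helper94_TensorVec Cfsg.Agent.Lib.Helper73_OrthEven_EV8bCore
  Cfsg.Agent.Lib.Helper82_OrthEven_EV17

variable {ι : Type} [Fintype ι] [DecidableEq ι] {F : Type*} [Field F]

omit [Fintype ι] [DecidableEq ι] in
/-- `polar Q v v = 2 Q v` -/
theorem polar_self_eq (Q : (ι → F) → F) (hQ : IsNondegenerateQuadraticForm Q) (v : ι → F) :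
    QuadraticMap.polar Q v v = 2 * Q v := by
  unfold QuadraticMap.polar
  have h1 : v + v = (2 : F) • v := (two_smul F v).symm
  rw [h1, hQ.smul]
  ring

/-- PL9a -/
theorem PL9a [Fintype F] (Q : (ι → F) → F) (hQ : IsNondegenerateQuadraticForm Q) (h2 : (2 : F) ≠ 0)
    (H : Subgroup (GL ι F))
    (hHI : H ≤ isometryGroup F Q) (hirr : ActsIrreducibly (matrixSet H))
    (A : Subalgebra F (Matrix ι ι F)) (hA : NormalizesAlg H A)
    (hAadj : IsAdjointClosedFor (QuadraticMap.polar Q) A)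
    (d s : ℕ) (e : ι ≃ Fin d × Fin s) (P : GL ι F) (hT : IsTensorAlg A d s e P)
    (hd : Even d) (hs : Even s) (hd0 : 0 < d) (hs0 : 0 < s) :
    ∃ (f₁ : (Fin d → F) → (Fin d → F) → F) (f₂ : (Fin s → F) → (Fin s → F) → F),
      IsTensorFormStructure id (QuadraticMap.polar Q) f₁ f₂ e P ∧ H ≤ tensorProductSubgroup d s e P ∧
      ((IsSymplecticForm f₁ ∧ IsSymplecticForm f₂ ∧
          ∀ (x₁ : Fin d → F) (x₂ : Fin s → F),
            Q ((P : Matrix ι ι F) *ᵥ ((fun a : Fin d × Fin s => x₁ a.1 * x₂ a.2) ∘ e)) = 0) ∨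
       (IsSymmetricForm f₁ ∧ IsSymmetricForm f₂)) := by
  classical
  have hbil : IsBilinearForm (QuadraticMap.polar Q) := hQ.polar_bilinear
  have hnd : IsNondegenerateForm (QuadraticMap.polar Q) := hQ.nondegenerate
  have hsymm : ∀ u v, QuadraticMap.polar Q u v = QuadraticMap.polar Q v u :=
    fun u v => QuadraticMap.polar_comm Q u v
  obtain ⟨G₁, G₂, h₁, h₂, hform⟩ := Cfsg.Agent.Lib.Helper52_Form_F4.F4 (RingEquiv.refl F)
    (QuadraticMap.polar Q) (isSesq_of_bilinear hbil) hnd A hAadj d s e P hT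
  have hform' : ∀ x y : Fin d × Fin s → F,
      QuadraticMap.polar Q ((P : Matrix _ _ F) *ᵥ (x ∘ e)) ((P : Matrix _ _ F) *ᵥ (y ∘ e)) =
        x ⬝ᵥ (G₁ ⊗ₖ G₂) *ᵥ y := by
    intro x y
    rw [hform]
    have : (⇑(RingEquiv.refl F) : F → F) = id := rfl
    rw [this, formOfGram_id]
  have hD : TData H (QuadraticMap.polar Q) d s e P G₁ G₂ :=
    ⟨hform', fun h hh => exists_kron' H A hA d s e P hT hd0 hs0 h hh⟩
  have hG₁0 : G₁ ≠ 0 := ne_zero_of_isUnit_det hd0 h₁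
  have hG₂0 : G₂ ≠ 0 := ne_zero_of_isUnit_det hs0 h₂
  have hTsymm : (G₁ ⊗ₖ G₂)ᵀ = G₁ ⊗ₖ G₂ := Cfsg.Agent.Lib.Helper7_AschSp_SP4c.T_symm hD hsymm
  refine ⟨gramForm G₁, gramForm G₂, ?_, ?_, ?_⟩
  · refine ⟨1, one_ne_zero, fun x y => ?_⟩
    rw [one_mul, gramMatrix_gramForm, gramMatrix_gramForm, formOfGram_id]
    exact hD.form x y
  · intro h hh
    obtain ⟨α, γ, hαγ⟩ := hD.grp h hh
    exact mem_conj_reindex' (kroneckerSubgroup d s F) e P h (kronGL α γ) (kronGL_mem α γ) hαγ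
  · rcases kron_symm_cases hG₁0 hG₂0 hTsymm with ⟨hs₁, hs₂⟩ | ⟨hk₁, hk₂⟩
    · right
      exact ⟨isSymmetricForm_gramForm G₁ hs₁ h₁, isSymmetricForm_gramForm G₂ hs₂ h₂⟩
    · left
      have hS₁ := isSymplecticForm_gramForm h2 G₁ hk₁ h₁
      have hS₂ := isSymplecticForm_gramForm h2 G₂ hk₂ h₂
      refine ⟨hS₁, hS₂, fun x₁ x₂ => ?_⟩
      have h3 := polar_self_eq Q hQ ((P : Matrix ι ι F) *ᵥ ((ten x₁ x₂) ∘ e))
      rw [hform'] at h3
      have h4 : ten x₁ x₂ ⬝ᵥ (G₁ ⊗ₖ G₂) *ᵥ ten x₁ x₂ = bil G₁ x₁ x₁ * bil G₂ x₂ x₂ :=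
        bil_kron_ten G₁ G₂ x₁ x₁ x₂ x₂
      have h5 : bil G₁ x₁ x₁ = 0 := hS₁.alternating x₁
      rw [h4, h5, zero_mul] at h3
      exact (mul_eq_zero.1 h3.symm).resolve_left h2

end Cfsg.Agent.Lib.Helper7_OrthEven_PL9a
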