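/-
PL9b (helper7, helper85's S5871 market): characteristic 2: an irreducible group of isometries
normalising an adjoint-closed tensor algebra `M_d ⊗ 1` with `d`, `s` even preserves the tensor
decomposition, the polar form is the tensor product of two alternating forms and `Q` vanishes on
the pure tensors.  Repackaging of helper73's `EV8bCore` (Setup, qf₁_zero, qf₂_zero, eq_Q₀, Q₀_ten).
-/
import Mathlib
import Cfsg.Agent.Lib.Helper98_AschDefs
import Cfsg.Agent.Lib.Helper23_FormDefs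
import Cfsg.Agent.Lib.Helper29_OrthOddDefs
import Cfsg.Agent.Lib.Helper52_Form_F4
import Cfsg.Agent.Lib.Helper34_OrthOdd_OP4b
import Cfsg.Agent.Lib.Helper94_TensorVec
import Cfsg.Agent.Lib.Helper73_OrthEven_EV8bCore
import Cfsg.Agent.Lib.Helper73_OrthEven_EV8b
import Cfsg.Agent.Lib.Helper82_AschSp_SP4a

set_option autoImplicit false

open Cfsg Cfsg.Geo Matrix Cfsg.Agent.Lib.Helper98_AschDefs Cfsg.Agent.Lib.Helper23_FormDefs
open scoped Kronecker MatrixGroups

namespace Cfsg.Agent.Lib.Helper7_OrthEven_PL9b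

open Cfsg.Agent.Lib.Helper94_TensorVec Cfsg.Agent.Lib.Helper73_OrthEven_EV8bCore
  Cfsg.Agent.Lib.Helper34_OrthOdd_OP4b Cfsg.Agent.Lib.Helper73_OrthEven_EV8b
  Cfsg.Agent.Lib.Helper82_AschSp_SP4a

variable {ι : Type} [Fintype ι] [DecidableEq ι] {F : Type*} [Field F]

/-- characteristic 2: a symmetric nonsingular matrix all of whose values `xᵀ G x` vanish gives a
symplectic form -/
theorem isSymplecticForm_gramForm_two {κ : Type} [Fintype κ] [DecidableEq κ] (h2 : (2 : F) = 0)
    (G : Matrix κ κ F) (hG : Gᵀ = G) (hq : ∀ x, qf G x = 0) (hdet : IsUnit G.det) :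
    IsSymplecticForm (gramForm G) := by
  refine ⟨gramForm_bilinear G, ?_, fun v => hq v, gramForm_nondeg hdet⟩
  intro v w
  rw [gramForm_swap, hG]
  have : gramForm G w v + gramForm G w v = 0 := by
    rw [← two_mul, h2, zero_mul]
  linear_combination this

/-- PL9b -/
theorem PL9b [Fintype F] (Q : (ι → F) → F) (hQ : IsNondegenerateQuadraticForm Q) (h2 : (2 : F) = 0)
    (H : Subgroup (GL ι F))
    (hHI : H ≤ isometryGroup F Q) (hirr : ActsIrreducibly (matrixSet H))
    (A : Subalgebra F (Matrix ι ι F)) (hA : NormalizesAlg H A)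
    (hAadj : IsAdjointClosedFor (QuadraticMap.polar Q) A)
    (d s : ℕ) (e : ι ≃ Fin d × Fin s) (P : GL ι F) (hT : IsTensorAlg A d s e P)
    (hd : Even d) (hs : Even s) (hd0 : 0 < d) (hs0 : 0 < s) :
    ∃ (f₁ : (Fin d → F) → (Fin d → F) → F) (f₂ : (Fin s → F) → (Fin s → F) → F),
      IsTensorFormStructure id (QuadraticMap.polar Q) f₁ f₂ e P ∧ H ≤ tensorProductSubgroup d s e P ∧
      IsSymplecticForm f₁ ∧ IsSymplecticForm f₂ ∧
      ∀ (x₁ : Fin d → F) (x₂ : Fin s → F),
        Q ((P : Matrix ι ι F) *ᵥ ((fun a : Fin d × Fin s => x₁ a.1 * x₂ a.2) ∘ e)) = 0 := by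
  classical
  obtain ⟨d', hd'⟩ := hd
  obtain ⟨s', hs'⟩ := hs
  have hd2 : 2 ≤ d := by omega
  have hs2 : 2 ≤ s := by omega
  have hf : IsSesq (RingEquiv.refl F) (QuadraticMap.polar Q) :=
    { add_left := hQ.polar_bilinear.add_left
      smul_left := hQ.polar_bilinear.smul_left
      add_right := hQ.polar_bilinear.add_right
      smul_right := fun c v x => by
        rw [hQ.polar_bilinear.smul_right]; rfl }
  obtain ⟨G₁, G₂, hG₁, hG₂, hG⟩ := Cfsg.Agent.Lib.Helper52_Form_F4.F4 (RingEquiv.refl F)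
    (QuadraticMap.polar Q) hf hQ.nondegenerate A hAadj d s e P hT
  -- the coordinate isomorphism
  set L : (Fin d × Fin s → F) ≃ₗ[F] (ι → F) := phi e P with hL
  have hLa : ∀ x, L x = (P : Matrix ι ι F) *ᵥ (x ∘ e) := fun x => phi_apply e P x
  -- the set of pairs of factors
  set S : Set (Matrix (Fin d) (Fin d) F × Matrix (Fin s) (Fin s) F) :=
    {p | ∃ (α : GL (Fin d) F) (γ : GL (Fin s) F),
      P * Cfsg.Geo.glReindex e.symm (kronGL α γ) * P⁻¹ ∈ H ∧
        p = ((α : Matrix (Fin d) (Fin d) F), (γ : Matrix (Fin s) (Fin s) F))} with hS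
  have hact : ∀ p ∈ S, ∃ h ∈ H, ∀ u, (h : Matrix ι ι F) *ᵥ L u = L ((p.1 ⊗ₖ p.2) *ᵥ u) := by
    rintro p ⟨α, γ, hh, rfl⟩
    refine ⟨_, hh, fun u => ?_⟩
    rw [hLa, hLa]
    exact conj_mulVec e P α γ u
  have hsetup : Setup (fun x => Q (L x)) G₁ G₂ S :=
    { h2 := h2
      smul := fun c u => by
        show Q (L (c • u)) = c ^ 2 * Q (L u)
        rw [map_smul, hQ.smul]
      pol := fun u v => by
        have : QuadraticMap.polar (fun x => Q (L x)) u v = QuadraticMap.polar Q (L u) (L v) := by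
          unfold QuadraticMap.polar
          show Q (L (u + v)) - Q (L u) - Q (L v) = _
          rw [map_add]
        rw [this, hLa, hLa, hG, formOfGram_refl]
      ne₁ := exists_entry_ne_zero hd0 G₁ hG₁
      det₁ := hG₁.ne_zero
      ne₂ := exists_entry_ne_zero hs0 G₂ hG₂
      inv := fun p hp u => by
        obtain ⟨h, hh, hu⟩ := hact p hp
        show Q (L ((p.1 ⊗ₖ p.2) *ᵥ u)) = Q (L u)
        rw [← hu]
        exact (Cfsg.Agent.Lib.Helper29_OrthOddDefs.mem_isometryGroup_iff Q h).1 (hHI hh) _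
      unit := by
        rintro p ⟨α, γ, -, rfl⟩
        exact ⟨Matrix.isUnits_det_units α, Matrix.isUnits_det_units γ⟩
      irr := fun K hK => by
        have hK' : ∀ m ∈ matrixSet H, (K.map (L : (Fin d × Fin s → F) →ₗ[F] (ι → F))).map
            (Matrix.toLin' m) ≤ K.map (L : (Fin d × Fin s → F) →ₗ[F] (ι → F)) := by
          rintro _ ⟨h, hh, rfl⟩ _ ⟨_, ⟨u, hu, rfl⟩, rfl⟩
          obtain ⟨α, γ, hαγ⟩ := exists_kron' H A hA d s e P hT hd0 hs0 h hh
          have hp : ((α : Matrix (Fin d) (Fin d) F), (γ : Matrix (Fin s) (Fin s) F)) ∈ S :=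
            ⟨α, γ, hαγ ▸ hh, rfl⟩
          refine ⟨((α : Matrix (Fin d) (Fin d) F) ⊗ₖ (γ : Matrix (Fin s) (Fin s) F)) *ᵥ u,
            hK _ hp u hu, ?_⟩
          show L _ = Matrix.toLin' (h : Matrix ι ι F) (L u)
          rw [Matrix.toLin'_apply, hLa, hLa]
          conv_rhs => rw [hαγ]
          exact (conj_mulVec e P α γ u).symm
        rcases hirr _ hK' with h0 | h0
        · left
          rw [Submodule.eq_bot_iff]
          intro u hu
          have : L u ∈ K.map (L : (Fin d × Fin s → F) →ₗ[F] (ι → F)) :=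
            Submodule.mem_map_of_mem hu
          rw [h0, Submodule.mem_bot] at this
          exact L.map_eq_zero_iff.1 this
        · right
          rw [Submodule.eq_top_iff']
          intro u
          have : L u ∈ K.map (L : (Fin d × Fin s → F) →ₗ[F] (ι → F)) := by
            rw [h0]; exact Submodule.mem_top
          obtain ⟨u', hu', hu'u⟩ := this
          have : u' = u := L.injective hu'u
          rwa [← this] }
  refine ⟨gramForm G₁, gramForm G₂, ?_, ?_,
    isSymplecticForm_gramForm_two h2 G₁ hsetup.symm₁ (hsetup.qf₁_zero hd2 hs0) hG₁,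
    isSymplecticForm_gramForm_two h2 G₂ hsetup.symm₂ (hsetup.qf₂_zero hd0 hs2) hG₂, ?_⟩
  · refine ⟨1, one_ne_zero, fun x y => ?_⟩
    rw [one_mul, gramMatrix_gramForm, gramMatrix_gramForm, formOfGram_id, hG, formOfGram_refl]
    rfl
  · intro h hh
    obtain ⟨α, γ, hαγ⟩ := exists_kron' H A hA d s e P hT hd0 hs0 h hh
    exact mem_conj_reindex' (kroneckerSubgroup d s F) e P h (kronGL α γ) (kronGL_mem α γ) hαγ
  · intro x₁ x₂
    have h1 := hsetup.eq_Q₀ hd2 hs2 (ten x₁ x₂)
    rw [hsetup.Q₀_ten hd0 hs2] at h1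
    have h3 : Q (L (ten x₁ x₂)) = 0 := h1
    rw [hLa] at h3
    exact h3

end Cfsg.Agent.Lib.Helper7_OrthEven_PL9b
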