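/-
helper7: a faithful transitive group of degree 100 with point stabiliser of order 443520, with
suborbits 1, 22, 77, whose point stabiliser has no subgroup of index 56, has outer automorphism
group of order 2: every automorphism is induced by an automorphism of the orbital graph.
-/
import Mathlib
import Cfsg.Prelude.Def_KGroupFacts
import Cfsg.Agent.Lib.Helper7_HSunique

set_option autoImplicit false
set_option linter.unusedSectionVars false
set_option linter.unusedVariables false

namespace Cfsg.Agent.Lib.Helper7_OutHS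

open MulAction Cfsg Cfsg.Agent.Lib.Helper7_Rank3Simple Cfsg.Agent.Lib.Helper7_OrbitalGraph
  Cfsg.Agent.Lib.Helper7_HSunique

/-! ### Generalities -/

/-- the order of the outer automorphism group is invariant under isomorphism -/
theorem card_out_congr {G G' : Type*} [Group G] [Group G'] (e : G ≃* G') :
    Nat.card (Out G) = Nat.card (Out G') := by
  show (Inn G).index = (Inn G').index
  rw [← Subgroup.index_map_equiv (Inn G) (MulAut.congr e)]
  congr 1
  ext β
  constructor
  · rintro ⟨_, ⟨g, rfl⟩, rfl⟩
    refine ⟨e g, ?_⟩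
    ext y
    simp [MulAut.congr]
  · rintro ⟨g', rfl⟩
    refine ⟨MulAut.conj (e.symm g'), ⟨_, rfl⟩, ?_⟩
    ext y
    simp [MulAut.congr]

/-- fixed points of a `p`-subgroup on an invariant set -/
theorem ncard_modEq_fixed {G X : Type*} [Group G] [MulAction G X] (p : ℕ) [Fact p.Prime]
    (P : Subgroup G) (hP : IsPGroup p P) (O : Set X) (hfin : O.Finite)
    (hO : ∀ g ∈ P, ∀ y ∈ O, g • y ∈ O) :
    O.ncard ≡ {y | y ∈ O ∧ ∀ g ∈ P, g • y = y}.ncard [MOD p] := by
  let S : SubMulAction ↥P X :=
    { carrier := O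
      smul_mem' := fun g y hy => hO g.1 g.2 y hy }
  have : Finite ↥S := hfin.to_subtype
  have h := hP.card_modEq_card_fixedPoints ↥S
  have h1 : Nat.card ↥S = O.ncard := Nat.card_coe_set_eq O
  have h2 : Nat.card (fixedPoints ↥P ↥S) = {y | y ∈ O ∧ ∀ g ∈ P, g • y = y}.ncard := by
    rw [← Nat.card_coe_set_eq]
    apply Nat.card_congr
    exact
      { toFun := fun y => ⟨y.1.1, y.1.2, fun g hg => congrArg Subtype.val (y.2 ⟨g, hg⟩)⟩
        invFun := fun y => ⟨⟨y.1, y.2.1⟩, fun g => Subtype.ext (y.2.2 g.1 g.2)⟩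
        left_inv := fun y => rfl
        right_inv := fun y => rfl }
  rw [h1, h2] at h
  exact h

open scoped Classical in
/-- the order of the automorphism group of a graph with these parameters -/
theorem card_aut_srg {W : Type*} [Fintype W] {Γ : SimpleGraph W}
    (hΓ : Γ.IsSRGWith 100 22 0 6) : Nat.card (Γ ≃g Γ) = 88704000 := by
  have hg := Cfsg.Agent.Lib.Helper41_HSloc.isHS_of_srg Γ hΓ
  obtain ⟨v⟩ : Nonempty W := by
    rw [← Fintype.card_pos_iff, hΓ.card]; norm_num
  have hα := Cfsg.Agent.Lib.Helper41_HSloc2.card_lpts hg v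
  have hB := Cfsg.Agent.Lib.Helper41_HSloc2.localSys_steiner hg v
  rw [Nat.card_congr (conjIso (Cfsg.Agent.Lib.Helper41_HSloc2.locIso hg v)).toEquiv]
  exact Cfsg.Agent.S1586.result hα hB

/-! ### The setting -/

section main

variable {H V : Type*} [Group H] [MulAction H V] [Finite H] [Fintype V] [DecidableEq V]
  [IsPretransitive H V] (x a b : V)
  (hV : Nat.card V = 100)
  (ha : (orbit (stabilizer H x) a).ncard = 22)
  (hb : (orbit (stabilizer H x) b).ncard = 77)
  (hs : Nat.card (stabilizer H x) = 443520)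

include hV ha hb hs

/-- an element of the base stabiliser fixing a second point -/
theorem pow_eq_one_base (s : H) (hsx : s • x = x) (z : V) (hz : s • z = z) (hzx : z ≠ x) :
    ((graph x a b hV ha hb).Adj x z → s ^ 20160 = 1) ∧
      (¬ (graph x a b hV ha hb).Adj x z → s ^ 5760 = 1) := by
  have key : ∀ n : ℕ, (orbit (stabilizer H x) z).ncard * n = 443520 → s ^ n = 1 := by
    intro n hn
    have h1 := MulAction.index_stabilizer (stabilizer H x) z
    have h2 := (stabilizer (stabilizer H x) z).card_mul_index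
    rw [h1, hs] at h2
    have h3 : Nat.card (stabilizer (stabilizer H x) z) = n := by
      have hpos : 0 < (orbit (stabilizer H x) z).ncard := by
        rcases Nat.eq_zero_or_pos (orbit (stabilizer H x) z).ncard with h0 | h0
        · rw [h0] at hn; omega
        · exact h0
      exact Nat.eq_of_mul_eq_mul_right hpos (by rw [h2, mul_comm, hn])
    have hmem : (⟨s, hsx⟩ : stabilizer H x) ∈ stabilizer (stabilizer H x) z := by
      rw [mem_stabilizer_iff]
      exact hz
    have h4 := pow_card_eq_one' (G := stabilizer (stabilizer H x) z) (x := ⟨⟨s, hsx⟩, hmem⟩)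
    rw [h3] at h4
    have h5 := congrArg (fun t : stabilizer (stabilizer H x) z => ((t : stabilizer H x) : H)) h4
    simpa using h5
  have hadj : (graph x a b hV ha hb).Adj x z ↔ z ∈ orbit (stabilizer H x) a := by
    rw [graph_adj, orb_base_iff]
  constructor
  · intro h
    rw [hadj] at h
    apply key
    rw [orbit_eq_iff.mpr h, ha]
  · intro h
    rw [hadj] at h
    rcases cover x a b hV ha hb z with h0 | h0 | h0
    · exact absurd h0 hzx
    · exact absurd h0 h
    · apply key
      rw [orbit_eq_iff.mpr h0, hb]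

/-- an element fixing two points -/
theorem pow_eq_one_of_fix (g : H) (y z : V) (hy : g • y = y) (hz : g • z = z) (hyz : y ≠ z) :
    ((graph x a b hV ha hb).Adj y z → g ^ 20160 = 1) ∧
      (¬ (graph x a b hV ha hb).Adj y z → g ^ 5760 = 1) := by
  obtain ⟨k, rfl⟩ := exists_smul_eq H x y
  have h1 : (k⁻¹ * g * k) • x = x := by
    rw [mul_smul, mul_smul, hy, inv_smul_smul]
  have h2 : (k⁻¹ * g * k) • (k⁻¹ • z) = k⁻¹ • z := by
    rw [mul_smul, mul_smul, smul_inv_smul, hz]
  have h3 : k⁻¹ • z ≠ x := by
    intro h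
    apply hyz
    rw [← h, smul_inv_smul]
  have hadj : (graph x a b hV ha hb).Adj (k • x) z ↔ (graph x a b hV ha hb).Adj x (k⁻¹ • z) := by
    rw [graph_adj, graph_adj]
    have := orb_smul_iff (H := H) (x := x) (a := a) (y := x) (z := k⁻¹ • z) k
    rw [smul_inv_smul] at this
    exact this
  have hpow : ∀ n : ℕ, (k⁻¹ * g * k) ^ n = 1 → g ^ n = 1 := by
    intro n hn
    have : (k⁻¹ * g * k) ^ n = k⁻¹ * g ^ n * k := by
      have := conj_pow (a := k⁻¹) (b := g) (i := n)
      rw [inv_inv] at this
      exact this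
    rw [this] at hn
    have h4 : g ^ n = k * (k⁻¹ * g ^ n * k) * k⁻¹ := by group
    rw [h4, hn]
    group
  obtain ⟨e1, e2⟩ := pow_eq_one_base x a b hV ha hb hs _ h1 _ h2 h3
  rw [hadj]
  exact ⟨fun h => hpow _ (e1 h), fun h => hpow _ (e2 h)⟩

/-- an element of order eleven fixes exactly one point -/
theorem fix_eleven (g : H) (hg : orderOf g = 11) :
    ∃ w : V, g • w = w ∧ ∀ w' : V, g • w' = w' → w' = w := by
  have : Fact (Nat.Prime 11) := ⟨by norm_num⟩
  have hP : IsPGroup 11 (Subgroup.zpowers g) :=
    IsPGroup.of_card (n := 1) (by rw [Nat.card_zpowers, hg, pow_one])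
  have h := ncard_modEq_fixed 11 (Subgroup.zpowers g) hP (Set.univ : Set V) Set.finite_univ
    (fun _ _ _ _ => Set.mem_univ _)
  rw [Set.ncard_univ, hV] at h
  have hne : {y : V | y ∈ (Set.univ : Set V) ∧ ∀ k ∈ Subgroup.zpowers g, k • y = y}.Nonempty := by
    apply Set.nonempty_of_ncard_ne_zero
    intro h0
    rw [h0] at h
    exact absurd h (by decide)
  obtain ⟨w, -, hw⟩ := hne
  have hgw : g • w = w := hw g (Subgroup.mem_zpowers g)
  refine ⟨w, hgw, ?_⟩
  intro w' hw'
  by_contra hne'
  obtain ⟨e1, e2⟩ := pow_eq_one_of_fix x a b hV ha hb hs g w' w hw' hgw hne'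
  by_cases hadj : (graph x a b hV ha hb).Adj w' w
  · have := orderOf_dvd_of_pow_eq_one (e1 hadj)
    rw [hg] at this
    omega
  · have := orderOf_dvd_of_pow_eq_one (e2 hadj)
    rw [hg] at this
    omega

open scoped Classical in
/-- an element of order seven fixes at most two points -/
theorem fix_seven (g : H) (hg : orderOf g = 7) : {y : V | g • y = y}.ncard ≤ 2 := by
  by_contra hlt
  rw [not_le] at hlt
  obtain ⟨y1, y2, y3, h1, h2, h3, h12, h13, h23⟩ := (Set.two_lt_ncard_iff).mp hlt
  have hadj : ∀ y z : V, g • y = y → g • z = z → y ≠ z → (graph x a b hV ha hb).Adj y z := by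
    intro y z hy hz hyz
    by_contra hn
    have := orderOf_dvd_of_pow_eq_one ((pow_eq_one_of_fix x a b hV ha hb hs g y z hy hz hyz).2 hn)
    rw [hg] at this
    omega
  have hsrg := isSRG x a b hV ha hb
  have h0 := hsrg.of_adj y1 y2 (hadj y1 y2 h1 h2 h12)
  have hmem : y3 ∈ (graph x a b hV ha hb).commonNeighbors y1 y2 := by
    rw [SimpleGraph.mem_commonNeighbors]
    exact ⟨hadj y1 y3 h1 h3 h13, hadj y2 y3 h2 h3 h23⟩
  rw [Fintype.card_eq_zero_iff] at h0
  exact h0.elim ⟨y3, hmem⟩

omit hs in
theorem card_stab (w : V) : Nat.card (stabilizer H w) * 100 = Nat.card H := by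
  have h1 := MulAction.index_stabilizer_of_transitive H w
  have h2 := (stabilizer H w).card_mul_index
  rw [h1, hV] at h2
  exact h2

theorem card_stab' (w : V) : Nat.card (stabilizer H w) = 443520 := by
  have h1 := card_stab x a b hV ha hb w
  have h2 := card_eq x a b hV ha hb (H := H)
  rw [hs] at h2
  omega

/-- a subgroup of the order of a point stabiliser, without subgroups of index 56, is a point
stabiliser -/
theorem eq_stabilizer_of_card (K : Subgroup H) (hK : Nat.card K = 443520)
    (h56 : ∀ L : Subgroup K, L.index ≠ 56) : ∃ w : V, K = stabilizer H w := by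
  have hp11 : Fact (Nat.Prime 11) := ⟨by norm_num⟩
  have hp7 : Fact (Nat.Prime 7) := ⟨by norm_num⟩
  obtain ⟨c, hc⟩ := exists_prime_orderOf_dvd_card' (G := K) 11 (by rw [hK]; norm_num)
  obtain ⟨d, hd⟩ := exists_prime_orderOf_dvd_card' (G := K) 7 (by rw [hK]; norm_num)
  have hc' : orderOf (c : H) = 11 := by rw [Subgroup.orderOf_coe, hc]
  have hd' : orderOf (d : H) = 7 := by rw [Subgroup.orderOf_coe, hd]
  obtain ⟨w, hw, hwu⟩ := fix_eleven x a b hV ha hb hs (c : H) hc'
  -- the orbit of `w`
  have hfin : (orbit K w).Finite := Set.toFinite _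
  have hdvd : (orbit K w).ncard ∣ 443520 := by
    rw [← MulAction.index_stabilizer, ← hK]
    exact Subgroup.index_dvd_card _
  have hle : (orbit K w).ncard ≤ 100 := by
    rw [← hV]
    exact Set.ncard_le_card _
  have hinv : ∀ g ∈ K, ∀ y ∈ orbit K w, g • y ∈ orbit K w := by
    intro g hg y hy
    exact mem_orbit_of_mem_orbit (⟨g, hg⟩ : K) hy
  have hzp : ∀ k : K, Subgroup.zpowers (k : H) ≤ K := by
    intro k
    rw [Subgroup.zpowers_le]
    exact k.2
  -- modulo 11
  have h11 : (orbit K w).ncard % 11 = 1 := by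
    have hP : IsPGroup 11 (Subgroup.zpowers (c : H)) :=
      IsPGroup.of_card (n := 1) (by rw [Nat.card_zpowers, hc', pow_one])
    have h := ncard_modEq_fixed 11 (Subgroup.zpowers (c : H)) hP (orbit K w) hfin
      (fun g hg y hy => hinv g (hzp c hg) y hy)
    have hfix : {y | y ∈ orbit K w ∧ ∀ g ∈ Subgroup.zpowers (c : H), g • y = y} = {w} := by
      ext y
      constructor
      · rintro ⟨-, hy⟩
        exact hwu y (hy _ (Subgroup.mem_zpowers _))
      · rintro rfl
        refine ⟨mem_orbit_self _, ?_⟩
        intro g hg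
        obtain ⟨n, rfl⟩ := Subgroup.mem_zpowers_iff.mp hg
        have : (c : H) ∈ stabilizer H y := hw
        exact (stabilizer H y).zpow_mem this n
    rw [hfix, Set.ncard_singleton] at h
    exact h
  -- modulo 7
  have h7 : (orbit K w).ncard % 7 ≤ 2 := by
    have hP : IsPGroup 7 (Subgroup.zpowers (d : H)) :=
      IsPGroup.of_card (n := 1) (by rw [Nat.card_zpowers, hd', pow_one])
    have h := ncard_modEq_fixed 7 (Subgroup.zpowers (d : H)) hP (orbit K w) hfin
      (fun g hg y hy => hinv g (hzp d hg) y hy)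
    have hsub : {y | y ∈ orbit K w ∧ ∀ g ∈ Subgroup.zpowers (d : H), g • y = y} ⊆
        {y : V | (d : H) • y = y} := by
      rintro y ⟨-, hy⟩
      exact hy _ (Subgroup.mem_zpowers _)
    have hle2 := (Set.ncard_le_ncard hsub (Set.toFinite _)).trans
      (fix_seven x a b hV ha hb hs (d : H) hd')
    have h' : (orbit K w).ncard % 7 =
        {y | y ∈ orbit K w ∧ ∀ g ∈ Subgroup.zpowers (d : H), g • y = y}.ncard % 7 := h
    rw [h', Nat.mod_eq_of_lt (by omega)]
    exact hle2
  -- the arithmetic
  have hcases : (orbit K w).ncard = 1 ∨ (orbit K w).ncard = 56 := by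
    generalize (orbit K w).ncard = n at hdvd hle h11 h7
    have : n = 1 ∨ n = 12 ∨ n = 23 ∨ n = 34 ∨ n = 45 ∨ n = 56 ∨ n = 67 ∨ n = 78 ∨ n = 89 ∨
        n = 100 := by omega
    rcases this with rfl | rfl | rfl | rfl | rfl | rfl | rfl | rfl | rfl | rfl
    · exact Or.inl rfl
    · omega
    · omega
    · omega
    · omega
    · exact Or.inr rfl
    · omega
    · omega
    · omega
    · omega
  rcases hcases with h1 | h1
  · obtain ⟨u, hu⟩ := Set.ncard_eq_one.mp h1
    have hwu' : w = u := by
      have : w ∈ orbit K w := mem_orbit_self _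
      rw [hu] at this
      exact this
    have hKle : K ≤ stabilizer H w := by
      intro k hk
      rw [mem_stabilizer_iff]
      have : k • w ∈ orbit K w := ⟨⟨k, hk⟩, rfl⟩
      rw [hu, ← hwu'] at this
      exact this
    refine ⟨w, Subgroup.eq_of_le_of_card_ge hKle ?_⟩
    rw [hK, card_stab' x a b hV ha hb hs w]
  · exfalso
    apply h56 (stabilizer K w)
    rw [MulAction.index_stabilizer, h1]

omit hs in
/-- adjacency in terms of suborbit sizes -/
theorem adj_iff_ncard (u z : V) :
    (graph x a b hV ha hb).Adj u z ↔ (orbit (stabilizer H u) z).ncard = 22 := by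
  obtain ⟨k, rfl⟩ := exists_smul_eq H x u
  have himg : orbit (stabilizer H (k • x)) z =
      (fun v => k • v) '' orbit (stabilizer H x) (k⁻¹ • z) := by
    ext v
    constructor
    · rintro ⟨t, rfl⟩
      have ht : k⁻¹ * t.1 * k ∈ stabilizer H x := by
        rw [mem_stabilizer_iff, mul_smul, mul_smul, mem_stabilizer_iff.mp t.2, inv_smul_smul]
      refine ⟨(k⁻¹ * t.1 * k) • (k⁻¹ • z), ⟨⟨k⁻¹ * t.1 * k, ht⟩, rfl⟩, ?_⟩
      show k • (k⁻¹ * t.1 * k) • k⁻¹ • z = t.1 • z
      rw [mul_smul, mul_smul, smul_inv_smul, smul_inv_smul]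
    · rintro ⟨_, ⟨s, rfl⟩, rfl⟩
      have ht : k * s.1 * k⁻¹ ∈ stabilizer H (k • x) := by
        rw [mem_stabilizer_iff, mul_smul, mul_smul, inv_smul_smul, mem_stabilizer_iff.mp s.2]
      refine ⟨⟨k * s.1 * k⁻¹, ht⟩, ?_⟩
      show (k * s.1 * k⁻¹) • z = k • (s.1 • (k⁻¹ • z))
      rw [mul_smul, mul_smul]
  rw [himg, Set.ncard_image_of_injective _ (MulAction.injective k)]
  have hadj : (graph x a b hV ha hb).Adj (k • x) z ↔ k⁻¹ • z ∈ orbit (stabilizer H x) a := by
    rw [graph_adj, ← orb_base_iff]
    have := orb_smul_iff (H := H) (x := x) (a := a) (y := x) (z := k⁻¹ • z) k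
    rw [smul_inv_smul] at this
    exact this
  rw [hadj]
  rcases cover x a b hV ha hb (k⁻¹ • z) with h0 | h0 | h0
  · rw [h0]
    constructor
    · intro h
      exact absurd h (x_notMem_orbit_a x a b hV ha hb)
    · intro h
      exfalso
      have h2 : orbit (stabilizer H x) x = {x} := by
        ext y
        constructor
        · rintro ⟨s, rfl⟩
          exact s.2
        · rintro rfl
          exact mem_orbit_self _
      rw [h2, Set.ncard_singleton] at h
      omega
  · rw [orbit_eq_iff.mpr h0, ha]
    exact ⟨fun _ => rfl, fun _ => h0⟩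
  · rw [orbit_eq_iff.mpr h0, hb]
    constructor
    · intro h
      exact absurd h0 (Set.disjoint_left.mp (disjoint_orbits x a b hV ha hb) h)
    · intro h
      omega

omit hs in
/-- an equivariant injection along an automorphism preserves the graph -/
theorem adj_iff_of_equivariant (α : H ≃* H) (π : V → V) (hπ : Function.Injective π)
    (heq : ∀ (g : H) (y : V), π (g • y) = α g • π y) (y z : V) :
    (graph x a b hV ha hb).Adj (π y) (π z) ↔ (graph x a b hV ha hb).Adj y z := by
  rw [adj_iff_ncard x a b hV ha hb, adj_iff_ncard x a b hV ha hb]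
  have himg : orbit (stabilizer H (π y)) (π z) = π '' orbit (stabilizer H y) z := by
    ext v
    constructor
    · rintro ⟨t, rfl⟩
      have hs' : α.symm t.1 ∈ stabilizer H y := by
        rw [mem_stabilizer_iff]
        apply hπ
        rw [heq, MulEquiv.apply_symm_apply]
        exact t.2
      refine ⟨(α.symm t.1) • z, ⟨⟨_, hs'⟩, rfl⟩, ?_⟩
      rw [heq, MulEquiv.apply_symm_apply]
      rfl
    · rintro ⟨_, ⟨s, rfl⟩, rfl⟩
      have ht : α s.1 ∈ stabilizer H (π y) := by
        rw [mem_stabilizer_iff, ← heq, mem_stabilizer_iff.mp s.2]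
      refine ⟨⟨_, ht⟩, ?_⟩
      show α s.1 • π z = π (s.1 • z)
      rw [heq]
  rw [himg, Set.ncard_image_of_injective _ hπ]

/-- every automorphism of the group is induced by a permutation of the points -/
theorem exists_equivariant (α : H ≃* H)
    (h56 : ∀ L : Subgroup (stabilizer H x), L.index ≠ 56) :
    ∃ π : V ≃ V, ∀ (g : H) (y : V), π (g • y) = α g • π y := by
  have hK : Nat.card ((stabilizer H x).map α.toMonoidHom) = 443520 := by
    rw [Subgroup.card_map_of_injective α.injective, hs]
  have hK56 : ∀ L : Subgroup ((stabilizer H x).map α.toMonoidHom), L.index ≠ 56 := by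
    intro L hL
    let e : ↥(stabilizer H x) ≃* ↥((stabilizer H x).map α.toMonoidHom) :=
      (stabilizer H x).equivMapOfInjective α.toMonoidHom α.injective
    apply h56 (L.comap e.toMonoidHom)
    rw [Subgroup.index_comap_of_surjective L e.surjective]
    exact hL
  obtain ⟨w, hw⟩ := eq_stabilizer_of_card x a b hV ha hb hs _ hK hK56
  have hmem : ∀ h : H, h ∈ stabilizer H x ↔ α h ∈ stabilizer H w := by
    intro h
    rw [← hw, Subgroup.mem_map]
    constructor
    · intro hh
      exact ⟨h, hh, rfl⟩
    · rintro ⟨s, hs', he⟩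
      have : s = h := α.injective he
      rwa [← this]
  let f : V → V := fun y => α (Classical.choose (exists_smul_eq H x y)) • w
  have hf : ∀ h : H, f (h • x) = α h • w := by
    intro h
    have hsp := Classical.choose_spec (exists_smul_eq H x (h • x))
    show α (Classical.choose (exists_smul_eq H x (h • x))) • w = α h • w
    generalize Classical.choose (exists_smul_eq H x (h • x)) = h0 at hsp
    have h1 : h⁻¹ * h0 ∈ stabilizer H x := by
      rw [mem_stabilizer_iff, mul_smul, hsp, inv_smul_smul]
    have h2 := (hmem _).mp h1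
    rw [mem_stabilizer_iff, map_mul, map_inv, mul_smul, inv_smul_eq_iff] at h2
    exact h2
  have heq : ∀ (g : H) (y : V), f (g • y) = α g • f y := by
    intro g y
    obtain ⟨h, rfl⟩ := exists_smul_eq H x y
    rw [← mul_smul, hf, hf, map_mul, mul_smul]
  have hinj : Function.Injective f := by
    intro y y' hyy
    obtain ⟨h, rfl⟩ := exists_smul_eq H x y
    obtain ⟨h', rfl⟩ := exists_smul_eq H x y'
    rw [hf, hf] at hyy
    have h1 : α (h⁻¹ * h') ∈ stabilizer H w := by
      rw [mem_stabilizer_iff, map_mul, map_inv, mul_smul, ← hyy, inv_smul_smul]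
    have h2 := (hmem _).mpr h1
    rw [mem_stabilizer_iff, mul_smul, inv_smul_eq_iff] at h2
    exact h2.symm
  exact ⟨Equiv.ofBijective f (Finite.injective_iff_bijective.mp hinj), heq⟩

/-- every automorphism of the group is induced by an automorphism of the graph -/
theorem exists_aut (α : H ≃* H) (h56 : ∀ L : Subgroup (stabilizer H x), L.index ≠ 56) :
    ∃ s : graph x a b hV ha hb ≃g graph x a b hV ha hb,
      ∀ (g : H) (y : V), s (g • y) = α g • s y := by
  obtain ⟨π, hπ⟩ := exists_equivariant x a b hV ha hb hs α h56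
  exact ⟨⟨π, fun {y z} => adj_iff_of_equivariant x a b hV ha hb α π π.injective hπ y z⟩, hπ⟩

omit hs in
/-- a graph automorphism commuting with the group is trivial -/
theorem eq_one_of_commute (t : graph x a b hV ha hb ≃g graph x a b hV ha hb)
    (ht : ∀ (g : H) (y : V), t (g • y) = g • t y) : t = 1 := by
  have hx : t x = x := by
    have hfix : ∀ s ∈ stabilizer H x, s • t x = t x := by
      intro s hs'
      rw [← ht, mem_stabilizer_iff.mp hs']
    have horb : orbit (stabilizer H x) (t x) = {t x} := by
      ext y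
      constructor
      · rintro ⟨s, rfl⟩
        exact hfix s.1 s.2
      · rintro rfl
        exact mem_orbit_self _
    have hn := congrArg Set.ncard horb
    rw [Set.ncard_singleton] at hn
    rcases cover x a b hV ha hb (t x) with h0 | h0 | h0
    · exact h0
    · exfalso
      rw [orbit_eq_iff.mpr h0, ha] at hn
      omega
    · exfalso
      rw [orbit_eq_iff.mpr h0, hb] at hn
      omega
  ext y
  obtain ⟨h, rfl⟩ := exists_smul_eq H x y
  show t (h • x) = h • x
  rw [ht, hx]

/-- the outer automorphism group has order two -/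
theorem card_out [FaithfulSMul H V] (h56 : ∀ L : Subgroup (stabilizer H x), L.index ≠ 56) :
    Nat.card (Out H) = 2 := by
  classical
  have hinj : Function.Injective (toAut x a b hV ha hb) := toAut_injective x a b hV ha hb
  have hA : Nat.card (graph x a b hV ha hb ≃g graph x a b hV ha hb) = 88704000 :=
    card_aut_srg (isSRG x a b hV ha hb)
  have hfinA : Finite (graph x a b hV ha hb ≃g graph x a b hV ha hb) :=
    Nat.finite_of_card_ne_zero (by rw [hA]; norm_num)
  have hcH : Nat.card H = 44352000 := by rw [card_eq x a b hV ha hb, hs]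
  have hN : Nat.card (toAut x a b hV ha hb).range = 44352000 := by
    rw [← hcH]
    exact (Nat.card_congr (MonoidHom.ofInjective hinj).toEquiv).symm
  have hidx : (toAut x a b hV ha hb).range.index = 2 := by
    have := (toAut x a b hV ha hb).range.card_mul_index
    rw [hN, hA] at this
    omega
  have hnorm : (toAut x a b hV ha hb).range.Normal := Subgroup.normal_of_index_eq_two hidx
  let e : H ≃* (toAut x a b hV ha hb).range := MonoidHom.ofInjective hinj
  let Φ : (graph x a b hV ha hb ≃g graph x a b hV ha hb) →* MulAut H :=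
    (MulAut.congr e.symm).toMonoidHom.comp MulAut.conjNormal
  have hΦ : ∀ (t : graph x a b hV ha hb ≃g graph x a b hV ha hb) (h : H),
      toAut x a b hV ha hb (Φ t h) = t * toAut x a b hV ha hb h * t⁻¹ := by
    intro t h
    have h1 : Φ t h = e.symm (MulAut.conjNormal t (e h)) := rfl
    have h2 : ∀ z : (toAut x a b hV ha hb).range, toAut x a b hV ha hb (e.symm z) = z.1 := by
      intro z
      have := congrArg Subtype.val (e.apply_symm_apply z)
      exact this
    rw [h1, h2, MulAut.conjNormal_apply]
    rfl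
  have hcomm : ∀ t : graph x a b hV ha hb ≃g graph x a b hV ha hb,
      (∀ h, t * toAut x a b hV ha hb h = toAut x a b hV ha hb h * t) → t = 1 := by
    intro t ht
    apply eq_one_of_commute x a b hV ha hb t
    intro g y
    have := DFunLike.congr_fun (ht g) y
    exact this
  have hΦinj : Function.Injective Φ := by
    rw [injective_iff_map_eq_one]
    intro t ht
    apply hcomm
    intro h
    have h1 : toAut x a b hV ha hb h = t * toAut x a b hV ha hb h * t⁻¹ := by
      rw [← hΦ, ht]
      rfl
    rw [eq_mul_inv_iff_mul_eq] at h1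
    exact h1.symm
  have hΦsurj : Function.Surjective Φ := by
    intro α
    obtain ⟨s, hs'⟩ := exists_aut x a b hV ha hb hs α h56
    refine ⟨s, ?_⟩
    ext h
    apply hinj
    rw [hΦ]
    ext y
    show s (h • s.symm y) = α h • y
    rw [hs', s.apply_symm_apply]
  have hΦρ : ∀ h : H, Φ (toAut x a b hV ha hb h) = MulAut.conj h := by
    intro h
    ext h'
    apply hinj
    rw [hΦ, MulAut.conj_apply, map_mul, map_mul, map_inv]
  have hcomap : (Inn H).comap Φ = (toAut x a b hV ha hb).range := by
    ext t
    rw [Subgroup.mem_comap]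
    constructor
    · rintro ⟨h, hh⟩
      rw [← hΦρ] at hh
      exact ⟨h, hΦinj hh⟩
    · rintro ⟨h, rfl⟩
      exact ⟨h, (hΦρ h).symm⟩
  show (Inn H).index = 2
  rw [← Subgroup.index_comap_of_surjective (Inn H) hΦsurj, hcomap, hidx]

end main

end Cfsg.Agent.Lib.Helper7_OutHS
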