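import Mathlib
import Cfsg.Agent.Lib.Helper34_PG_Defs
import Cfsg.Agent.Lib.Helper61_SL2

/-!
# PG-SUBGRP / PG-BIG, hypothesis form (helper7, for helper34's S3663 market)

The statements of PG-SUBGRP and PG-BIG with the closure properties of `Vset` (package PG-VSUB) as
explicit hypotheses.
-/

set_option autoImplicit false

namespace Cfsg.Agent.Lib.Helper7_PG_SUBGRPaux

open Matrix Cfsg.Agent.Lib.Helper34_PG_F16 Cfsg.Agent.Lib.Helper34_PG_Defs
open Cfsg.Agent.Lib.Helper61_SL2 (SamePrimeGraph)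

theorem one_mem_Sset_aux (hz : (0 : M2) ∈ Vset) (k : ℕ) : (1 : Hbig k) ∈ Sset k := by
  intro i
  show Multiplicative.toAdd (1 : Hbig k).left i ∈ Vset
  rw [SemidirectProduct.one_left]
  exact hz

theorem mul_mem_Sset_aux (hadd : ∀ {F F' : M2}, F ∈ Vset → F' ∈ Vset → F + F' ∈ Vset)
    (hsmul : ∀ (g : G16) {F : M2}, F ∈ Vset → g • F ∈ Vset)
    (k : ℕ) {a b : Hbig k} (ha : a ∈ Sset k) (hb : b ∈ Sset k) :
    a * b ∈ Sset k := by
  intro i
  show Multiplicative.toAdd (a * b).left i ∈ Vset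
  rw [SemidirectProduct.mul_left]
  have h1 : act (Fin k → M2) a.right b.left =
      Multiplicative.ofAdd (a.right • Multiplicative.toAdd b.left) := rfl
  rw [h1]
  show Multiplicative.toAdd a.left i + a.right • (Multiplicative.toAdd b.left i) ∈ Vset
  exact hadd (ha i) (hsmul _ (hb i))

theorem inv_mem_Sset_aux (hneg : ∀ {F : M2}, F ∈ Vset → -F ∈ Vset)
    (hsmul : ∀ (g : G16) {F : M2}, F ∈ Vset → g • F ∈ Vset)
    (k : ℕ) {a : Hbig k} (ha : a ∈ Sset k) : a⁻¹ ∈ Sset k := by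
  intro i
  show Multiplicative.toAdd (a⁻¹).left i ∈ Vset
  rw [SemidirectProduct.inv_left]
  have h1 : act (Fin k → M2) a.right⁻¹ a.left⁻¹ =
      Multiplicative.ofAdd (a.right⁻¹ • (-Multiplicative.toAdd a.left)) := rfl
  rw [h1]
  show a.right⁻¹ • (-(Multiplicative.toAdd a.left i)) ∈ Vset
  exact hsmul _ (hneg (ha i))

theorem inr_mem_Sset_aux (hz : (0 : M2) ∈ Vset) (k : ℕ) (g : G16) :
    (SemidirectProduct.inr g : Hbig k) ∈ Sset k := by
  intro i
  show Multiplicative.toAdd (SemidirectProduct.inr g : Hbig k).left i ∈ Vset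
  rw [SemidirectProduct.left_inr]
  exact hz

theorem nsmul_mem_Vset_aux (hz : (0 : M2) ∈ Vset)
    (hadd : ∀ {F F' : M2}, F ∈ Vset → F' ∈ Vset → F + F' ∈ Vset)
    (n : ℕ) {F : M2} (hF : F ∈ Vset) : n • F ∈ Vset := by
  induction n with
  | zero => rw [zero_nsmul]; exact hz
  | succ n ih => rw [succ_nsmul]; exact hadd ih hF

/-- the embedding of `(ZMod 5)^k` -/
def emb (k : ℕ) (F0 : M2) (c : Fin k → ZMod 5) : Hbig k :=
  ⟨Multiplicative.ofAdd (fun i => (c i).val • F0), 1⟩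

theorem emb_injective (k : ℕ) (F0 : M2) (hF0 : F0 ≠ 0) : Function.Injective (emb k F0) := by
  have : Fact (Nat.Prime 5) := ⟨by norm_num⟩
  obtain ⟨x, y, hxy⟩ : ∃ x y, F0 x y ≠ 0 := by
    by_contra hcon
    apply hF0
    ext x y
    by_contra h
    exact hcon ⟨x, y, h⟩
  intro c c' h
  have h1 : (fun i => (c i).val • F0) = fun i => (c' i).val • F0 := by
    have := congrArg SemidirectProduct.left h
    exact this
  funext i
  have h2 := congrFun h1 i
  have h3 : ((c i).val • F0) x y = ((c' i).val • F0) x y := by rw [h2]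
  rw [M2.nsmul_apply, M2.nsmul_apply, nsmul_eq_mul, nsmul_eq_mul, ZMod.natCast_zmod_val,
    ZMod.natCast_zmod_val] at h3
  exact mul_right_cancel₀ hxy h3

theorem five_pow_le_ncard_aux (hz : (0 : M2) ∈ Vset)
    (hadd : ∀ {F F' : M2}, F ∈ Vset → F' ∈ Vset → F + F' ∈ Vset)
    (k : ℕ) (hne : ∃ F ∈ Vset, F ≠ 0) : 5 ^ k ≤ Set.ncard (Sset k) := by
  obtain ⟨F0, hF0V, hF0⟩ := hne
  have hsub : Set.range (emb k F0) ⊆ Sset k := by
    rintro _ ⟨c, rfl⟩ i
    show (c i).val • F0 ∈ Vset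
    exact nsmul_mem_Vset_aux hz hadd _ hF0V
  have h1 : (Set.range (emb k F0)).ncard = 5 ^ k := by
    rw [← Set.image_univ, Set.ncard_image_of_injective _ (emb_injective k F0 hF0), Set.ncard_univ,
      Nat.card_eq_fintype_card, Fintype.card_fun, ZMod.card, Fintype.card_fin]
  rw [← h1]
  exact Set.ncard_le_ncard hsub (Set.toFinite _)

end Cfsg.Agent.Lib.Helper7_PG_SUBGRPaux
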