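import Mathlib
import Cfsg.Agent.Lib.Helper34_PG_Defs
import Cfsg.Agent.Lib.Helper61_SL2
import Cfsg.Agent.Lib.Helper95_PG_VSUB
import Cfsg.Agent.Lib.Helper7_PG_SUBGRPaux

/-!
# PG-BIG (helper7, for helper34's S3663 market)

A nonzero element of `Vset` gives `5 ^ k` distinct elements of `Sset k`.
-/

set_option autoImplicit false

namespace Cfsg.Agent.Lib.Helper7_PG_BIG

open Matrix Cfsg.Agent.Lib.Helper34_PG_F16 Cfsg.Agent.Lib.Helper34_PG_Defs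
open Cfsg.Agent.Lib.Helper61_SL2 (SamePrimeGraph)
open Cfsg.Agent.Lib.Helper95_PG_VSUB Cfsg.Agent.Lib.Helper7_PG_SUBGRPaux

/-- PKG PG-BIG. -/
theorem five_pow_le_ncard (k : ℕ) (hne : ∃ F ∈ Vset, F ≠ 0) : 5 ^ k ≤ Set.ncard (Sset k) :=
  five_pow_le_ncard_aux zero_mem_Vset (fun h h' => add_mem_Vset h h') k hne

end Cfsg.Agent.Lib.Helper7_PG_BIG
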