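import Mathlib
import Cfsg.Agent.Lib.Helper34_PG_Defs
import Cfsg.Agent.Lib.Helper61_SL2

/-!
# PG-KER (helper7, for helper34's S3663 market)

Elements of `Hbig k` with trivial `G16`-component have fifth power `1`.
-/

set_option autoImplicit false

namespace Cfsg.Agent.Lib.Helper7_PG_KER

open Matrix Cfsg.Agent.Lib.Helper34_PG_F16 Cfsg.Agent.Lib.Helper34_PG_Defs
open Cfsg.Agent.Lib.Helper61_SL2 (SamePrimeGraph)

theorem five_nsmul_M2 (F : M2) : 5 • F = 0 := by
  ext x y
  rw [M2.nsmul_apply, M2.zero_apply]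
  have : ∀ z : ZMod 5, 5 • z = 0 := by decide
  exact this _

theorem pow_five_left (k : ℕ) (a : Multiplicative (Fin k → M2)) : a ^ 5 = 1 := by
  have h : (5 : ℕ) • Multiplicative.toAdd a = 0 := by
    funext i
    rw [Pi.smul_apply, Pi.zero_apply]
    exact five_nsmul_M2 _
  have h2 : a ^ 5 = Multiplicative.ofAdd ((5 : ℕ) • Multiplicative.toAdd a) := rfl
  rw [h2, h]
  rfl

/-- PKG PG-KER. -/
theorem pow_five_of_right_eq_one (k : ℕ) (h : Hbig k) (h1 : h.right = 1) : h ^ 5 = 1 := by
  have hh : h = SemidirectProduct.inl h.left := by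
    apply SemidirectProduct.ext
    · simp
    · simp [h1]
  rw [hh, ← map_pow, pow_five_left, map_one]

end Cfsg.Agent.Lib.Helper7_PG_KER
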