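import Mathlib
import Cfsg.Agent.Lib.Helper34_PG_Defs
import Cfsg.Agent.Lib.Helper61_SL2
import Cfsg.Agent.Lib.Helper95_PG_VSUB
import Cfsg.Agent.Lib.Helper7_PG_SUBGRPaux

/-!
# PG-SUBGRP (helper7, for helper34's S3663 market)

`Sset k` is closed under `1`, `*`, `⁻¹` and contains the complement `inr G16`.
-/

set_option autoImplicit false

namespace Cfsg.Agent.Lib.Helper7_PG_SUBGRP

open Matrix Cfsg.Agent.Lib.Helper34_PG_F16 Cfsg.Agent.Lib.Helper34_PG_Defs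
open Cfsg.Agent.Lib.Helper61_SL2 (SamePrimeGraph)
open Cfsg.Agent.Lib.Helper95_PG_VSUB Cfsg.Agent.Lib.Helper7_PG_SUBGRPaux

theorem one_mem_Sset (k : ℕ) : (1 : Hbig k) ∈ Sset k :=
  one_mem_Sset_aux zero_mem_Vset k

theorem mul_mem_Sset (k : ℕ) {a b : Hbig k} (ha : a ∈ Sset k) (hb : b ∈ Sset k) :
    a * b ∈ Sset k :=
  mul_mem_Sset_aux (fun h h' => add_mem_Vset h h') (fun g _ h => smul_mem_Vset g h) k ha hb

theorem inv_mem_Sset (k : ℕ) {a : Hbig k} (ha : a ∈ Sset k) : a⁻¹ ∈ Sset k :=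
  inv_mem_Sset_aux (fun h => neg_mem_Vset h) (fun g _ h => smul_mem_Vset g h) k ha

theorem inr_mem_Sset (k : ℕ) (g : G16) : (SemidirectProduct.inr g : Hbig k) ∈ Sset k :=
  inr_mem_Sset_aux zero_mem_Vset k g

end Cfsg.Agent.Lib.Helper7_PG_SUBGRP
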