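import Mathlib
import Cfsg.Agent.Lib.Helper56_RuDefs
import Cfsg.Agent.Lib.Helper56_RuBasic

/-!
# ru_packages (S3174/S3175, architect helper56), package BIGE: the core, with the statements of the
packages F2, ADJ, QUAD, GENEL, COUNT, STEPCORE, EXP, NHAT (`Nc_sq`) as hypotheses.
Paper proof: `pending/helper56/S3174_proof.md`, paragraph BIGE.
-/

set_option autoImplicit false

open scoped commutatorElement
open Cfsg.Agent.Lib.Helper56_RuDefs Cfsg.Agent.Lib.Helper56_RuBasic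

namespace Cfsg.Agent.Lib.Helper7_RU_BIGEaux

variable {T : Type*} [Group T]

theorem comm_mem_W {w k : T} (hw : w ∈ Wc T) : ⁅w, k⁆ ∈ Wc T := by
  have hN : (Wc T).Normal := inferInstance
  rw [commutatorElement_def]
  have h1 : k * w⁻¹ * k⁻¹ ∈ Wc T := hN.conj_mem _ ((Wc T).inv_mem hw) k
  have e : w * k * w⁻¹ * k⁻¹ = w * (k * w⁻¹ * k⁻¹) := by group
  rw [e]
  exact (Wc T).mul_mem hw h1

theorem comm_eq_one_of_commute {a b : T} (h : a * b = b * a) : ⁅a, b⁆ = 1 := by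
  rw [commutatorElement_def, h]
  group

/-- two_mul_card_le_of_lt: a proper subgroup has at most half the order. -/
theorem two_mul_card_le_of_lt [Finite T] {H K : Subgroup T} (h : H < K) :
    2 * Nat.card H ≤ Nat.card K := by
  have hle := h.le
  obtain ⟨k, hk⟩ : Nat.card H ∣ Nat.card K := Subgroup.card_dvd_of_le hle
  have hKpos : 0 < Nat.card K := Nat.card_pos
  have hne : Nat.card H ≠ Nat.card K := by
    intro he
    exact h.ne (Subgroup.eq_of_le_of_card_ge hle (by rw [he]))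
  have hk0 : k ≠ 0 := by
    rintro rfl
    rw [mul_zero] at hk
    omega
  have hk1 : k ≠ 1 := by
    rintro rfl
    rw [mul_one] at hk
    exact hne hk.symm
  have hk2 : 2 ≤ k := by omega
  calc 2 * Nat.card H = Nat.card H * 2 := by ring
    _ ≤ Nat.card H * k := Nat.mul_le_mul_left _ hk2
    _ = Nat.card K := hk.symm

/-- BIGE, with the packages it depends on as hypotheses. -/
theorem big_E_of (h : Str T) (n' n : T) (hn' : n' ∈ Nc T) (hn : n ∈ Nc T) (x v z : T)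
    (hx3 : x ∉ Subgroup.upperCentralSeries T 3) (hxc : ∀ w ∈ Wc T, x * w = w * x)
    (hv : v ∈ Wc T) (hz : z ∈ Subgroup.upperCentralSeries T 3) (hvx : ⁅⁅v, n'⁆, n⁆ = x * z)
    (hF2 : ∀ w ∈ Wc T, ∀ k ∈ Nc T, ⁅w, k⁆ ^ 2 ∈ Subgroup.upperCentralSeries T 2)
    (hadj : ∀ a ∈ Wc T, ∀ b ∈ Wc T, ∀ k : T,
      ∃ c ∈ Subgroup.upperCentralSeries T 2, ⁅⁅a, k⁆, b⁆ = ⁅a, ⁅b, k⁻¹⁆⁆ * c)
    (hquad : ∀ w ∈ Wc T, ∀ k ∈ Nc T,
      ⁅⁅w, k⁆, k⁆ ∈ Subgroup.upperCentralSeries T 3 ∧ ⁅⁅w, k⁆, k⁻¹⁆ ∈ Subgroup.upperCentralSeries T 3)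
    (hgen : ∀ G : Set T, G ⊆ Wc T → (∀ g ∈ G, g ^ 2 ∈ Subgroup.upperCentralSeries T 2) →
      (∀ g ∈ G, ∀ g' ∈ G, ⁅g, g'⁆ ∈ Subgroup.upperCentralSeries T 2) →
      (∀ a ∈ Subgroup.closure G, a ^ 2 ∈ Subgroup.upperCentralSeries T 2) ∧
        ∀ a ∈ Subgroup.closure G, ∀ b ∈ Subgroup.closure G, ⁅a, b⁆ ∈ Subgroup.upperCentralSeries T 2)
    (hcount : (Subgroup.upperCentralSeries T 3).relIndex
        (fixSub (Subgroup.upperCentralSeries T 3) (Wc T) (Wc T ⊔ Subgroup.zpowers n)) ≤ 16)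
    (hstep : (Subgroup.upperCentralSeries T 3).relIndex
          (fixSub (Subgroup.upperCentralSeries T 3) (Wc T) (Wc T)) =
        (Subgroup.upperCentralSeries T 3).relIndex
          (fixSub (Subgroup.upperCentralSeries T 3) (Wc T) (Wc T ⊔ Subgroup.zpowers n)) *
        (Subgroup.upperCentralSeries T 3).relIndex
          (imSub (Subgroup.upperCentralSeries T 3) (Wc T) (Wc T) n) ∧
      imSub (Subgroup.upperCentralSeries T 3) (Wc T) (Wc T) n ≤
        fixSub (Subgroup.upperCentralSeries T 3) (Wc T) (Wc T ⊔ Subgroup.zpowers n))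
    (hexp : ∀ z ∈ Subgroup.upperCentralSeries T 3, z ^ 2 = 1) :
    ∃ E : Subgroup T, Subgroup.upperCentralSeries T 3 ≤ E ∧ E ≤ Wc T ∧ 2 ^ 8 ≤ Nat.card ↥E ∧
      (∀ a ∈ E, a ^ 2 ∈ Subgroup.upperCentralSeries T 2) ∧
      ∀ a ∈ E, ∀ b ∈ E, ⁅a, b⁆ ∈ Subgroup.upperCentralSeries T 2 := by
  have hfin := h.fin
  have hZW := Z3_le_W h
  have hWn : (Wc T).Normal := inferInstance
  set e : T := ⁅v, n'⁆ with he
  have heW : e ∈ Wc T := comm_mem_W hv
  -- the generating set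
  set Gen : Set T := {g | (∃ w ∈ Wc T, g = ⁅w, n⁆) ∨ g = e ∨ g ∈ Subgroup.upperCentralSeries T 3}
    with hGen
  have hGenW : Gen ⊆ Wc T := by
    rintro g (⟨w, hw, rfl⟩ | rfl | hg)
    · exact comm_mem_W hw
    · exact heW
    · exact hZW hg
  have hone : (1 : T) ∈ Subgroup.upperCentralSeries T 2 := Subgroup.one_mem _
  -- `⁅e, n⁻¹⁆` is central in `W`
  have hen : ∀ w ∈ Wc T, w * ⁅e, n⁻¹⁆ = ⁅e, n⁻¹⁆ * w := by
    intro w hw
    have e1 : ⁅e, n⁻¹⁆ = n⁻¹ * (x * z)⁻¹ * n := by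
      rw [← hvx]
      simp only [commutatorElement_def]
      group
    have hw' : n * w * n⁻¹ ∈ Wc T := hWn.conj_mem w hw n
    have c1 : x * (n * w * n⁻¹) = (n * w * n⁻¹) * x := hxc _ hw'
    have c2 : (n * w * n⁻¹) * z = z * (n * w * n⁻¹) := commute_Z3 _ hw' z hz
    have c3 : (x * z) * (n * w * n⁻¹) = (n * w * n⁻¹) * (x * z) := by
      rw [mul_assoc, ← c2, ← mul_assoc, c1, mul_assoc]
    have c4 : (x * z)⁻¹ * (n * w * n⁻¹) = (n * w * n⁻¹) * (x * z)⁻¹ :=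
      (Commute.inv_left (show Commute (x * z) (n * w * n⁻¹) from c3)).eq
    rw [e1]
    have : w * (n⁻¹ * (x * z)⁻¹ * n) = n⁻¹ * ((n * w * n⁻¹) * (x * z)⁻¹) * n := by group
    rw [this, ← c4]
    group
  -- commutators of the generators
  have hcomm1 : ∀ w ∈ Wc T, ∀ b ∈ Wc T, (∀ u ∈ Wc T, u * ⁅b, n⁻¹⁆ = ⁅b, n⁻¹⁆ * u) →
      ⁅⁅w, n⁆, b⁆ ∈ Subgroup.upperCentralSeries T 2 := by
    intro w hw b hb hcen
    obtain ⟨c, hc, hcb⟩ := hadj w hw b hb n
    rw [hcb, comm_eq_one_of_commute (hcen w hw), one_mul]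
    exact hc
  have hinvmem : ∀ a b : T, ⁅a, b⁆ ∈ Subgroup.upperCentralSeries T 2 →
      ⁅b, a⁆ ∈ Subgroup.upperCentralSeries T 2 := by
    intro a b hab
    have : ⁅b, a⁆ = ⁅a, b⁆⁻¹ := by simp only [commutatorElement_def]; group
    rw [this]
    exact Subgroup.inv_mem _ hab
  have hZ3c : ∀ g ∈ Wc T, ∀ z' ∈ Subgroup.upperCentralSeries T 3,
      ⁅g, z'⁆ ∈ Subgroup.upperCentralSeries T 2 := by
    intro g hg z' hz'
    rw [comm_eq_one_of_commute (commute_Z3 g hg z' hz')]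
    exact hone
  have hwn_e : ∀ w ∈ Wc T, ⁅⁅w, n⁆, e⁆ ∈ Subgroup.upperCentralSeries T 2 :=
    fun w hw => hcomm1 w hw e heW hen
  have hwn_wn : ∀ w ∈ Wc T, ∀ w' ∈ Wc T, ⁅⁅w, n⁆, ⁅w', n⁆⁆ ∈ Subgroup.upperCentralSeries T 2 := by
    intro w hw w' hw'
    refine hcomm1 w hw _ (comm_mem_W hw') ?_
    intro u hu
    exact commute_Z3 u hu _ (hquad w' hw' n hn).2
  have hsqG : ∀ g ∈ Gen, g ^ 2 ∈ Subgroup.upperCentralSeries T 2 := by
    rintro g (⟨w, hw, rfl⟩ | rfl | hg)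
    · exact hF2 w hw n hn
    · exact hF2 v hv n' hn'
    · rw [hexp g hg]; exact hone
  have hcommG : ∀ g ∈ Gen, ∀ g' ∈ Gen, ⁅g, g'⁆ ∈ Subgroup.upperCentralSeries T 2 := by
    rintro g (⟨w, hw, rfl⟩ | rfl | hg) g' (⟨w', hw', rfl⟩ | rfl | hg')
    · exact hwn_wn w hw w' hw'
    · exact hwn_e w hw
    · exact hZ3c _ (comm_mem_W hw) g' hg'
    · exact hinvmem _ _ (hwn_e w' hw')
    · rw [comm_eq_one_of_commute rfl]; exact hone
    · exact hZ3c _ heW g' hg'
    · exact hinvmem _ _ (hZ3c _ (comm_mem_W hw') g hg)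
    · exact hinvmem _ _ (hZ3c _ heW g hg)
    · exact hZ3c _ (hZW hg) g' hg'
  obtain ⟨hsqE, hcommE⟩ := hgen Gen hGenW hsqG hcommG
  refine ⟨Subgroup.closure Gen, ?_, ?_, ?_, hsqE, hcommE⟩
  · intro g hg
    exact Subgroup.subset_closure (Or.inr (Or.inr hg))
  · exact (Subgroup.closure_le _).2 hGenW
  · -- the size
    set U0 : Subgroup T := imSub (Subgroup.upperCentralSeries T 3) (Wc T) (Wc T) n with hU0
    have hU0E : U0 ≤ Subgroup.closure Gen := by
      rw [hU0]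
      unfold imSub
      refine sup_le ?_ ((Subgroup.closure_le _).2 ?_)
      · intro g hg
        exact Subgroup.subset_closure (Or.inr (Or.inr hg))
      · rintro g ⟨w, hw, rfl⟩
        exact Subgroup.subset_closure (Or.inl ⟨w, fixSub_le hw, rfl⟩)
    have hZU0 : Subgroup.upperCentralSeries T 3 ≤ U0 := by
      rw [hU0]
      unfold imSub
      exact le_sup_left
    -- `fixSub Z_3 W W = W`
    have hfixW : fixSub (Subgroup.upperCentralSeries T 3) (Wc T) (Wc T) = Wc T := by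
      refine le_antisymm fixSub_le ?_
      intro w hw
      rw [mem_fixSub]
      exact ⟨hw, fun s hs => comm_mem h w hw s hs⟩
    have h256 : (Subgroup.upperCentralSeries T 3).relIndex
        (fixSub (Subgroup.upperCentralSeries T 3) (Wc T) (Wc T)) = 2 ^ 8 := by
      rw [hfixW]; exact relIndex_Z3_W h
    obtain ⟨hs1, hs2⟩ := hstep
    rw [h256] at hs1
    have hr16 : 16 ≤ (Subgroup.upperCentralSeries T 3).relIndex U0 := by
      by_contra hlt
      push Not at hlt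
      have : (Subgroup.upperCentralSeries T 3).relIndex
          (fixSub (Subgroup.upperCentralSeries T 3) (Wc T) (Wc T ⊔ Subgroup.zpowers n)) *
          (Subgroup.upperCentralSeries T 3).relIndex U0 ≤ 16 * 15 :=
        Nat.mul_le_mul hcount (by omega)
      omega
    have hcardU0 : 2 ^ 7 ≤ Nat.card U0 := by
      have h1 := card_mul_relIndex hZU0
      rw [h.cardZ 3 (by norm_num)] at h1
      calc 2 ^ 7 = 2 ^ 3 * 16 := by norm_num
        _ ≤ 2 ^ 3 * (Subgroup.upperCentralSeries T 3).relIndex U0 := Nat.mul_le_mul_left _ hr16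
        _ = Nat.card U0 := h1
    -- `e ∉ U0`
    have heU0 : e ∉ U0 := by
      intro hmem
      have h1 := hs2 hmem
      rw [mem_fixSub] at h1
      have h2 : ⁅e, n⁆ ∈ Subgroup.upperCentralSeries T 3 :=
        h1.2 n (Subgroup.mem_sup_right (Subgroup.mem_zpowers n))
      rw [hvx] at h2
      apply hx3
      have := Subgroup.mul_mem _ h2 (Subgroup.inv_mem _ hz)
      rwa [mul_inv_cancel_right] at this
    have hlt : U0 < Subgroup.closure Gen := by
      refine lt_of_le_of_ne hU0E ?_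
      intro heq
      apply heU0
      rw [heq]
      exact Subgroup.subset_closure (Or.inr (Or.inl rfl))
    have := two_mul_card_le_of_lt hlt
    omega

end Cfsg.Agent.Lib.Helper7_RU_BIGEaux
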