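import Mathlib
import Cfsg.Prelude.Def_OddOrderLocal

/-!
# S4118, part A (helper7): a TI subgroup `H`, Hall in its normalizer, in a `π(H)`-separable group.
`G = O_{π'}(G) N_G(H)` and `O_{π'}(G) H` is normal (Sylow + Frattini + TI).
-/

set_option autoImplicit false

namespace Cfsg.Agent.Lib.Helper7_S4118_A

open Subgroup

variable {G : Type*} [Group G]

theorem card_mul_relIndex' {K L : Subgroup G} (h : K ≤ L) :
    Nat.card K * K.relIndex L = Nat.card L := by
  have := relIndex_mul_relIndex (⊥ : Subgroup G) K L bot_le h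
  rwa [relIndex_bot_left, relIndex_bot_left] at this

/-- order of a join with a normal subgroup divides the product of the orders -/
theorem card_sup_dvd_mul (A K : Subgroup G) [K.Normal] :
    Nat.card (A ⊔ K : Subgroup G) ∣ Nat.card A * Nat.card K := by
  have h1 : Nat.card K * K.relIndex (A ⊔ K) = Nat.card (A ⊔ K : Subgroup G) :=
    card_mul_relIndex' le_sup_right
  rw [relIndex_sup_right] at h1
  rw [← h1, mul_comm]
  exact Nat.mul_dvd_mul_right (relIndex_dvd_card K A) _

/-- for `K` normal, `|K : K ∩ A|` divides `|G : A|` -/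
theorem relIndex_dvd_index_of_normal_right [Finite G] (A K : Subgroup G) [K.Normal] :
    A.relIndex K ∣ A.index := by
  have h1 : Nat.card K * K.relIndex (A ⊔ K) = Nat.card (A ⊔ K : Subgroup G) :=
    card_mul_relIndex' le_sup_right
  rw [relIndex_sup_right] at h1
  have h2 : Nat.card A * A.relIndex (A ⊔ K) = Nat.card (A ⊔ K : Subgroup G) :=
    card_mul_relIndex' le_sup_left
  have h3 : Nat.card (A ⊓ K : Subgroup G) * (A ⊓ K).relIndex K = Nat.card K :=
    card_mul_relIndex' inf_le_right
  rw [inf_relIndex_right] at h3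
  have h4 : Nat.card (A ⊓ K : Subgroup G) * (A ⊓ K).relIndex A = Nat.card A :=
    card_mul_relIndex' inf_le_left
  rw [inf_relIndex_left] at h4
  have h5 : A.relIndex (A ⊔ K) = A.relIndex K := by
    have hpos : 0 < Nat.card (A ⊓ K : Subgroup G) := Nat.card_pos
    have hpos2 : 0 < K.relIndex A := Nat.pos_of_dvd_of_pos (relIndex_dvd_card K A) Nat.card_pos
    have : Nat.card (A ⊓ K : Subgroup G) * K.relIndex A * A.relIndex (A ⊔ K) =
        Nat.card (A ⊓ K : Subgroup G) * K.relIndex A * A.relIndex K := by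
      calc Nat.card (A ⊓ K : Subgroup G) * K.relIndex A * A.relIndex (A ⊔ K)
          = Nat.card (A ⊔ K : Subgroup G) := by rw [h4, h2]
        _ = (Nat.card (A ⊓ K : Subgroup G) * A.relIndex K) * K.relIndex A := by rw [h3, h1]
        _ = _ := by ring
    exact Nat.eq_of_mul_eq_mul_left (Nat.mul_pos hpos hpos2) this
  rw [← h5]
  exact relIndex_dvd_index_of_le le_sup_left

theorem map_conj_eq_of_mem_normalizer {K : Subgroup G} {g : G}
    (hg : g ∈ Subgroup.normalizer (K : Set G)) : K.map (MulAut.conj g).toMonoidHom = K := by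
  ext x
  constructor
  · rintro ⟨y, hy, rfl⟩
    exact (Subgroup.mem_normalizer_iff.mp hg y).mp hy
  · intro hx
    refine ⟨g⁻¹ * x * g, ?_, by simp [mul_assoc]⟩
    apply (Subgroup.mem_normalizer_iff.mp hg (g⁻¹ * x * g)).mpr
    simpa [mul_assoc] using hx

theorem mem_normalizer_of_map_conj_eq {K : Subgroup G} {g : G}
    (hg : K.map (MulAut.conj g).toMonoidHom = K) : g ∈ Subgroup.normalizer (K : Set G) := by
  rw [Subgroup.mem_normalizer_iff]
  intro x
  constructor
  · intro hx
    rw [← hg]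
    exact ⟨x, hx, rfl⟩
  · intro hx
    rw [← hg] at hx
    obtain ⟨y, hy, hyx⟩ := hx
    have : y = x := (MulAut.conj g).injective hyx
    rwa [← this]

/-- the join of all normal subgroups of order prime to `m` is such a subgroup -/
theorem sSup_coprime_normal [Finite G] (m : ℕ) (O : Subgroup G)
    (hO : O = sSup {K : Subgroup G | K.Normal ∧ (Nat.card K).Coprime m}) :
    O.Normal ∧ (Nat.card O).Coprime m ∧
      ∀ K : Subgroup G, K.Normal → (Nat.card K).Coprime m → K ≤ O := by
  set 𝒮 : Set (Subgroup G) := {K : Subgroup G | K.Normal ∧ (Nat.card K).Coprime m} with h𝒮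
  have hne : 𝒮.Nonempty := ⟨⊥, inferInstance, by rw [Subgroup.card_bot]; exact Nat.coprime_one_left m⟩
  obtain ⟨K₀, hK₀⟩ := (Set.toFinite 𝒮).exists_maximal hne
  have hle : ∀ K ∈ 𝒮, K ≤ K₀ := by
    intro K hK
    have hn : K₀.Normal := hK₀.prop.1
    have hKn : K.Normal := hK.1
    have hmem : K ⊔ K₀ ∈ 𝒮 := by
      refine ⟨inferInstance, ?_⟩
      exact Nat.Coprime.coprime_dvd_left (card_sup_dvd_mul K K₀)
        (Nat.Coprime.mul_left hK.2 hK₀.prop.2)
    have := hK₀.le_of_ge hmem le_sup_right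
    exact le_trans le_sup_left this
  have hOK : O = K₀ := by
    rw [hO]
    exact le_antisymm (sSup_le hle) (le_sSup hK₀.prop)
  rw [hOK]
  exact ⟨hK₀.prop.1, hK₀.prop.2, fun K hKn hKc => hle K ⟨hKn, hKc⟩⟩

/-- the standing hypotheses: `H` is a non-normal TI subgroup, Hall in its normalizer, and `O` is
the largest normal subgroup of order prime to `|H|` -/
structure Ctx (H O : Subgroup G) : Prop where
  hTI : Cfsg.IsTISubset (H : Set G)
  hnn : ¬ H.Normal
  hHall : (Nat.card H).Coprime (H.subgroupOf (Subgroup.normalizer (H : Set G))).index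
  hOn : O.Normal
  hOc : (Nat.card O).Coprime (Nat.card H)
  hOmax : ∀ K : Subgroup G, K.Normal → (Nat.card K).Coprime (Nat.card H) → K ≤ O

namespace Ctx

variable {H O : Subgroup G}

theorem ne_bot (h : Ctx H O) : H ≠ ⊥ := by
  intro hb
  apply h.hnn
  rw [hb]
  infer_instance

theorem inf_eq_bot (h : Ctx H O) : H ⊓ O = ⊥ :=
  disjoint_iff.mp (Subgroup.disjoint_of_coprime_natCard h.hOc.symm)

/-- an element commuting with a nonidentity element of `H` normalizes `H` -/
theorem mem_normalizer_of_conj_mem (h : Ctx H O) {g x : G} (hx : x ∈ H) (hx1 : x ≠ 1)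
    (hgx : g * x * g⁻¹ ∈ H) : g ∈ Subgroup.normalizer (H : Set G) := by
  by_contra hg
  exact hx1 (h.hTI g hg x hx hgx)

theorem normalizer_le (h : Ctx H O) {Q : Subgroup G} (hQH : Q ≤ H) (hQ : Q ≠ ⊥) :
    Subgroup.normalizer (Q : Set G) ≤ Subgroup.normalizer (H : Set G) := by
  intro g hg
  obtain ⟨⟨x, hxQ⟩, hx1⟩ := (Subgroup.ne_bot_iff_exists_ne_one).mp hQ
  have hx1' : x ≠ 1 := fun hh => hx1 (Subtype.ext hh)
  have h2 : g * x * g⁻¹ ∈ Q := (Subgroup.mem_normalizer_iff.mp hg x).mp hxQ
  exact h.mem_normalizer_of_conj_mem (hQH hxQ) hx1' (hQH h2)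

/-- Sylow subgroups of `H` (for primes dividing `|H|`) are Sylow subgroups of `G` -/
theorem sylow_not_dvd_index [Finite G] (h : Ctx H O) {p : ℕ} [Fact p.Prime] (P : Sylow p H)
    (hp : p ∣ Nat.card H) : ¬ p ∣ ((P : Subgroup H).map H.subtype).index := by
  set P' : Subgroup G := (P : Subgroup H).map H.subtype with hP'
  set N : Subgroup G := Subgroup.normalizer (H : Set G) with hN
  have hP'H : P' ≤ H := Subgroup.map_subtype_le _
  have hHN : H ≤ N := Subgroup.le_normalizer
  have hcardP : Nat.card P' = Nat.card P :=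
    Nat.card_congr ((P : Subgroup H).equivMapOfInjective H.subtype H.subtype_injective).symm.toEquiv
  have hp' := (Fact.out : p.Prime)
  have hPne : P' ≠ ⊥ := by
    intro hb
    apply P.ne_bot_of_dvd_card hp
    have h1 : Nat.card (P : Subgroup H) = 1 := by rw [← hcardP, hb, Subgroup.card_bot]
    exact Subgroup.card_eq_one.mp h1
  have hPp : IsPGroup p P' := P.isPGroup'.map H.subtype
  obtain ⟨n, hn⟩ := IsPGroup.iff_card.mp hPp
  have hmod := Sylow.card_quotient_normalizer_modEq_card_quotient hn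
  have hNP : Subgroup.normalizer (P' : Set G) ≤ N := h.normalizer_le hP'H hPne
  have h1 : P'.relIndex (Subgroup.normalizer (P' : Set G)) ∣ P'.relIndex N :=
    Dvd.intro _ (relIndex_mul_relIndex P' _ N Subgroup.le_normalizer hNP)
  have h2 : P'.relIndex H * H.relIndex N = P'.relIndex N :=
    relIndex_mul_relIndex P' H N hP'H hHN
  have h3 : P'.relIndex H = (P : Subgroup H).index := by
    rw [Subgroup.relIndex, hP']
    congr 1
    exact Subgroup.comap_map_eq_self_of_injective H.subtype_injective _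
  have h4 : ¬ p ∣ (P : Subgroup H).index := P.not_dvd_index
  have h5 : ¬ p ∣ H.relIndex N := by
    intro hd
    have := Nat.dvd_gcd hp hd
    rw [show Nat.gcd (Nat.card H) (H.relIndex N) = 1 from h.hHall] at this
    exact hp'.one_lt.ne' (Nat.dvd_one.mp this)
  have h6 : ¬ p ∣ P'.relIndex N := by
    rw [← h2, h3]
    exact hp'.not_dvd_mul h4 h5
  have h7 : ¬ p ∣ P'.relIndex (Subgroup.normalizer (P' : Set G)) := fun hd => h6 (hd.trans h1)
  intro hd
  apply h7
  have h8 : P'.index = Nat.card (G ⧸ P') := rfl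
  rw [h8] at hd
  exact (hmod.dvd_iff (dvd_refl p)).mpr hd

/-- a Sylow `p`-subgroup of a normal subgroup `M` lying inside `H` (for `p ∣ |H|`) -/
theorem exists_sylow_in [Finite G] (h : Ctx H O) (M : Subgroup G) [M.Normal] {p : ℕ}
    [Fact p.Prime] (hp : p ∣ Nat.card H) :
    ∃ Q : Subgroup G, Q ≤ M ⊓ H ∧ IsPGroup p Q ∧ ¬ p ∣ Q.relIndex M := by
  obtain ⟨P⟩ : Nonempty (Sylow p H) := inferInstance
  have h1 := h.sylow_not_dvd_index P hp
  set P' : Subgroup G := (P : Subgroup H).map H.subtype with hP'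
  have hP'H : P' ≤ H := Subgroup.map_subtype_le _
  have hPp : IsPGroup p P' := P.isPGroup'.map H.subtype
  refine ⟨P' ⊓ M, le_inf inf_le_right (inf_le_left.trans hP'H), hPp.to_le inf_le_left, ?_⟩
  rw [inf_relIndex_right]
  exact fun hd => h1 (hd.trans (relIndex_dvd_index_of_normal_right P' M))

/-- Frattini argument with a Sylow subgroup of `M` inside `H` -/
theorem frattini [Finite G] (h : Ctx H O) (M : Subgroup G) [M.Normal] {p : ℕ} [Fact p.Prime]
    (Q : Subgroup G) (hQ : Q ≤ M ⊓ H) (hQp : IsPGroup p Q) (hQi : ¬ p ∣ Q.relIndex M)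
    (hQne : Q ≠ ⊥) : M ⊔ Subgroup.normalizer (H : Set G) = ⊤ := by
  have hQM : Q ≤ M := hQ.trans inf_le_left
  have hQH : Q ≤ H := hQ.trans inf_le_right
  have hp1 : IsPGroup p (Q.subgroupOf M) :=
    hQp.comap_of_injective M.subtype M.subtype_injective
  have hQi' : ¬ p ∣ (Q.subgroupOf M).index := hQi
  have hP : ((hp1.toSylow hQi' : Sylow p M) : Subgroup M).map M.subtype = Q := by
    rw [IsPGroup.toSylow_coe]
    exact Subgroup.map_subgroupOf_eq_of_le hQM
  have h1 := Sylow.normalizer_sup_eq_top (hp1.toSylow hQi' : Sylow p M)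
  rw [hP] at h1
  rw [eq_top_iff, ← h1, sup_comm]
  exact sup_le_sup_left (h.normalizer_le hQH hQne) M

/-- the key step: a normal subgroup `M ≰ O` which is a `π`-group modulo a subgroup of `O` -/
theorem step [Finite G] (h : Ctx H O) (M M' : Subgroup G) [M.Normal] (hM'M : M' ≤ M)
    (hM'O : M' ≤ O) (hMO : ¬ M ≤ O)
    (hπ : ∀ q : ℕ, q.Prime → q ∣ M'.relIndex M → q ∣ Nat.card H) :
    O ⊔ Subgroup.normalizer (H : Set G) = ⊤ := by
  set N : Subgroup G := Subgroup.normalizer (H : Set G) with hN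
  have hHN : H ≤ N := Subgroup.le_normalizer
  set W : Subgroup G := M ⊓ O with hW
  set T : Subgroup G := W ⊔ (M ⊓ H) with hT
  have hM'W : M' ≤ W := le_inf hM'M hM'O
  have hM'T : M' ≤ T := hM'W.trans le_sup_left
  have hT1 : T.relIndex M = 1 := by
    by_contra hne
    obtain ⟨q, hq, hqd⟩ := Nat.exists_prime_and_dvd hne
    have : Fact q.Prime := ⟨hq⟩
    have hqH : q ∣ Nat.card H := hπ q hq (hqd.trans (relIndex_dvd_of_le_left M hM'T))
    obtain ⟨Q, hQ, hQp, hQi⟩ := h.exists_sylow_in M hqH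
    exact hQi (hqd.trans (relIndex_dvd_of_le_left M (hQ.trans le_sup_right)))
  have hMT : M ≤ T := relIndex_eq_one.mp hT1
  have hW1 : W.relIndex M ≠ 1 := by
    intro h1
    exact hMO ((relIndex_eq_one.mp h1).trans inf_le_right)
  obtain ⟨q, hq, hqd⟩ := Nat.exists_prime_and_dvd hW1
  have : Fact q.Prime := ⟨hq⟩
  have hqH : q ∣ Nat.card H := hπ q hq (hqd.trans (relIndex_dvd_of_le_left M hM'W))
  obtain ⟨Q, hQ, hQp, hQi⟩ := h.exists_sylow_in M hqH
  have hQne : Q ≠ ⊥ := by
    intro hb
    apply hQi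
    rw [hb, relIndex_bot_left]
    exact hqd.trans (relIndex_dvd_card W M)
  have hfr := h.frattini M Q hQ hQp hQi hQne
  rw [eq_top_iff, ← hfr]
  refine sup_le (hMT.trans (sup_le (inf_le_right.trans le_sup_left) ?_)) le_sup_right
  exact inf_le_right.trans (hHN.trans le_sup_right)

/-- `G = O N_G(H)` for a `π(H)`-separable group -/
theorem sup_normalizer_eq_top [Finite G] (h : Ctx H O)
    (hsep : ∃ (n : ℕ) (M : Fin (n + 1) → Subgroup G), M 0 = ⊥ ∧ M (Fin.last n) = ⊤ ∧ Monotone M ∧
      (∀ i, (M i).Normal) ∧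
      ∀ i : Fin n, (∀ q : ℕ, q.Prime → q ∣ (M i.castSucc).relIndex (M i.succ) → q ∣ Nat.card H) ∨
        ((M i.castSucc).relIndex (M i.succ)).Coprime (Nat.card H)) :
    O ⊔ Subgroup.normalizer (H : Set G) = ⊤ := by
  obtain ⟨n, M, hM0, hMn, hmono, hnorm, hfac⟩ := hsep
  have key : ∀ i : Fin (n + 1), M i ≤ O ∨ O ⊔ Subgroup.normalizer (H : Set G) = ⊤ := by
    intro i
    induction i using Fin.induction with
    | zero => left; rw [hM0]; exact bot_le
    | succ i ih =>
      rcases ih with ih | ih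
      · have hle : M i.castSucc ≤ M i.succ := hmono (Fin.castSucc_lt_succ).le
        have hn : (M i.succ).Normal := hnorm _
        rcases hfac i with hf | hf
        · by_cases hMO : M i.succ ≤ O
          · exact Or.inl hMO
          · exact Or.inr (h.step (M i.succ) (M i.castSucc) hle ih hMO hf)
        · left
          apply h.hOmax _ hn
          rw [← card_mul_relIndex' hle]
          exact Nat.Coprime.mul_left
            (Nat.Coprime.coprime_dvd_left (Subgroup.card_dvd_of_le ih) h.hOc) hf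
      · exact Or.inr ih
  rcases key (Fin.last n) with h1 | h1
  · rw [hMn] at h1
    rw [eq_top_iff]
    exact h1.trans le_sup_left
  · exact h1

/-- `O H` is normal -/
theorem sup_normal (h : Ctx H O) (htop : O ⊔ Subgroup.normalizer (H : Set G) = ⊤) :
    (O ⊔ H).Normal := by
  have hOn := h.hOn
  rw [← Subgroup.normalizer_eq_top_iff, eq_top_iff, ← htop]
  refine sup_le ((le_sup_left : O ≤ O ⊔ H).trans Subgroup.le_normalizer) ?_
  intro g hg
  apply mem_normalizer_of_map_conj_eq
  rw [Subgroup.map_sup, map_conj_eq_of_mem_normalizer hg]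
  congr 1
  apply map_conj_eq_of_mem_normalizer
  rw [Subgroup.normalizer_eq_top]
  trivial

end Ctx

end Cfsg.Agent.Lib.Helper7_S4118_A
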