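import Mathlib
import Cfsg.Agent.Lib.Helper7_S4118_A
import Cfsg.Agent.Lib.Helper12_FpfNonsolv
import Cfsg.Agent.S0690

/-!
# S4118, part B (helper7): the action of `H` on `O = O_{π'}(G)`.
All nonidentity elements of `H` have the same centralizer `C = N_O(H)` in `O`, and `C < O`.
If `O` is solvable there is a normal subgroup `X ≤ O` of `G` with `X ≰ C`, `[X, X] ≤ C`.
-/

set_option autoImplicit false

namespace Cfsg.Agent.Lib.Helper7_S4118_B

open Subgroup Cfsg.Agent.Lib.Helper7_S4118_A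
open scoped commutatorElement

universe u

variable {G : Type u} [Group G]

theorem le_normalizer_of_conj_mem (S Y : Subgroup G)
    (hS : ∀ g ∈ S, ∀ y ∈ Y, g * y * g⁻¹ ∈ Y) : S ≤ Subgroup.normalizer (Y : Set G) := by
  intro g hg
  rw [Subgroup.mem_normalizer_iff]
  intro y
  constructor
  · exact hS g hg y
  · intro hy
    have := hS g⁻¹ (S.inv_mem hg) _ hy
    simpa [mul_assoc] using this

/-- `C = N_O(H)` -/
def Cc (H O : Subgroup G) : Subgroup G := Subgroup.normalizer (H : Set G) ⊓ O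

variable {H O : Subgroup G}

theorem commute_of_mem_Cc (h : Ctx H O) {x c : G} (hx : x ∈ H) (hc : c ∈ Cc H O) :
    x * c = c * x := by
  have hOn := h.hOn
  have h1 : c * x * c⁻¹ ∈ H := (Subgroup.mem_normalizer_iff.mp hc.1 x).mp hx
  have h2 : c * x * c⁻¹ * x⁻¹ ∈ H := H.mul_mem h1 (H.inv_mem hx)
  have h3 : c * x * c⁻¹ * x⁻¹ ∈ O := by
    have : x * c⁻¹ * x⁻¹ ∈ O := hOn.conj_mem _ (O.inv_mem hc.2) x
    have := O.mul_mem hc.2 this
    simpa [mul_assoc] using this
  have h4 : c * x * c⁻¹ * x⁻¹ ∈ H ⊓ O := ⟨h2, h3⟩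
  rw [h.inf_eq_bot, Subgroup.mem_bot] at h4
  have h5 : c * x = x * c := by
    have := congrArg (fun z => z * x * c) h4
    simpa [mul_assoc] using this
  exact h5.symm

theorem mem_Cc_of_commute (h : Ctx H O) {x y : G} (hx : x ∈ H) (hx1 : x ≠ 1) (hy : y ∈ O)
    (hxy : x * y = y * x) : y ∈ Cc H O := by
  refine ⟨h.mem_normalizer_of_conj_mem hx hx1 ?_, hy⟩
  rw [← hxy, mul_inv_cancel_right]
  exact hx

theorem not_le_Cc (h : Ctx H O) (htop : O ⊔ Subgroup.normalizer (H : Set G) = ⊤) :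
    ¬ O ≤ Cc H O := by
  intro hle
  apply h.hnn
  rw [← Subgroup.normalizer_eq_top_iff, eq_top_iff, ← htop]
  exact sup_le (hle.trans inf_le_left) le_rfl

/-- the derived series of a subgroup, inside the ambient group -/
def dser (O : Subgroup G) : ℕ → Subgroup G
  | 0 => O
  | n + 1 => ⁅dser O n, dser O n⁆

theorem dser_normal (O : Subgroup G) [O.Normal] : ∀ n, (dser O n).Normal
  | 0 => by rw [dser]; infer_instance
  | n + 1 => by
    have := dser_normal O n
    rw [dser]
    infer_instance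

theorem dser_succ_le (O : Subgroup G) (n : ℕ) : dser O (n + 1) ≤ dser O n := by
  rw [dser, Subgroup.commutator_le]
  intro g₁ h₁ g₂ h₂
  rw [commutatorElement_def]
  exact (dser O n).mul_mem ((dser O n).mul_mem ((dser O n).mul_mem h₁ h₂) ((dser O n).inv_mem h₁))
    ((dser O n).inv_mem h₂)

theorem dser_le (O : Subgroup G) : ∀ n, dser O n ≤ O
  | 0 => le_rfl
  | n + 1 => (dser_succ_le O n).trans (dser_le O n)

theorem map_derivedSeries (O : Subgroup G) :
    ∀ n, (derivedSeries O n).map O.subtype = dser O n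
  | 0 => by rw [derivedSeries_zero, ← MonoidHom.range_eq_map, Subgroup.range_subtype, dser]
  | n + 1 => by
    rw [derivedSeries_succ, Subgroup.map_commutator, map_derivedSeries O n, dser]

theorem exists_dser_eq_bot (O : Subgroup G) (hs : Group.IsSolvable O) : ∃ n, dser O n = ⊥ := by
  obtain ⟨n, hn⟩ := (Group.isSolvable_def O).mp hs
  refine ⟨n, ?_⟩
  rw [← map_derivedSeries, hn, Subgroup.map_bot]

/-- a normal subgroup `X ≤ O` with `X ≰ C` and `[X, X] ≤ C` -/
theorem exists_X (h : Ctx H O) (htop : O ⊔ Subgroup.normalizer (H : Set G) = ⊤)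
    (hs : Group.IsSolvable O) :
    ∃ X : Subgroup G, X.Normal ∧ X ≤ O ∧ ¬ X ≤ Cc H O ∧ ⁅X, X⁆ ≤ Cc H O := by
  classical
  have hOn := h.hOn
  have hex : ∃ n, dser O n ≤ Cc H O := by
    obtain ⟨n, hn⟩ := exists_dser_eq_bot O hs
    exact ⟨n, hn ▸ bot_le⟩
  have h0 : Nat.find hex ≠ 0 := by
    intro h0
    have := Nat.find_spec hex
    rw [h0] at this
    exact not_le_Cc h htop this
  obtain ⟨k, hk⟩ := Nat.exists_eq_succ_of_ne_zero h0
  refine ⟨dser O k, dser_normal O k, dser_le O k, ?_, ?_⟩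
  · exact Nat.find_min hex (by omega)
  · have := Nat.find_spec hex
    rw [hk] at this
    exact this

section fpf

/-- `Y = C ∩ X` -/
def Yy (H O X : Subgroup G) : Subgroup G := Cc H O ⊓ X

theorem X_le_normalizer_Yy (X : Subgroup G) (hXX : ⁅X, X⁆ ≤ Cc H O) :
    X ≤ Subgroup.normalizer (Yy H O X : Set G) := by
  apply le_normalizer_of_conj_mem
  intro g hg y hy
  have h1 : ⁅g, y⁆ ∈ Cc H O := hXX (Subgroup.commutator_mem_commutator hg hy.2)
  rw [commutatorElement_def] at h1
  refine ⟨?_, X.mul_mem (X.mul_mem hg hy.2) (X.inv_mem hg)⟩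
  have := (Cc H O).mul_mem h1 hy.1
  simpa [mul_assoc] using this

theorem H_le_normalizer_Yy (h : Ctx H O) (X : Subgroup G) :
    H ≤ Subgroup.normalizer (Yy H O X : Set G) := by
  apply le_normalizer_of_conj_mem
  intro g hg y hy
  have h1 := commute_of_mem_Cc h hg hy.1
  rw [h1, mul_inv_cancel_right]
  exact hy

theorem conj_pow_of_commute {x l y : G} (h1 : x * l * x⁻¹ = l * y) (h2 : x * y = y * x) (n : ℕ) :
    x ^ n * l * (x ^ n)⁻¹ = l * y ^ n := by
  induction n with
  | zero => simp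
  | succ n ih =>
    have h3 : x * y ^ n * x⁻¹ = y ^ n := by
      have : Commute x (y ^ n) := (show Commute x y from h2).pow_right n
      rw [this.eq, mul_inv_cancel_right]
    calc x ^ (n + 1) * l * (x ^ (n + 1))⁻¹
        = x * (x ^ n * l * (x ^ n)⁻¹) * x⁻¹ := by
          rw [pow_succ', mul_inv_rev]
          simp only [mul_assoc]
      _ = (x * l * x⁻¹) * (x * y ^ n * x⁻¹) := by
          rw [ih]
          simp only [mul_assoc, inv_mul_cancel_left]
      _ = l * y ^ (n + 1) := by rw [h1, h3, pow_succ', mul_assoc]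

/-- a nonidentity element of `H` fixing a coset of `Y` in `X` forces the coset to be trivial -/
theorem mem_Yy_of_fixed [Finite G] (h : Ctx H O) (X : Subgroup G) (hXO : X ≤ O) {x l : G}
    (hx : x ∈ H) (hx1 : x ≠ 1) (hl : l ∈ X) (hfix : l⁻¹ * (x * l * x⁻¹) ∈ Yy H O X) :
    l ∈ Yy H O X := by
  set y := l⁻¹ * (x * l * x⁻¹) with hy
  have h1 : x * l * x⁻¹ = l * y := by rw [hy, mul_inv_cancel_left]
  have h2 : x * y = y * x := commute_of_mem_Cc h hx hfix.1
  have h3 := conj_pow_of_commute h1 h2 (orderOf x)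
  rw [pow_orderOf_eq_one, inv_one, mul_one, one_mul] at h3
  have h4 : y ^ orderOf x = 1 := by
    have := congrArg (fun z => l⁻¹ * z) h3
    simpa using this.symm
  have hyO : y ∈ O := hfix.1.2
  have h5 : y ^ Nat.card O = 1 := by
    have h5' : (⟨y, hyO⟩ : O) ^ Nat.card O = 1 := pow_card_eq_one'
    have h5'' := congrArg Subtype.val h5'
    rwa [Subgroup.coe_pow, Subgroup.coe_one] at h5''
  have h6 : orderOf y ∣ Nat.gcd (Nat.card O) (Nat.card H) :=
    Nat.dvd_gcd (orderOf_dvd_of_pow_eq_one h5)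
      ((orderOf_dvd_of_pow_eq_one h4).trans (Subgroup.orderOf_dvd_natCard H hx))
  rw [show Nat.gcd (Nat.card O) (Nat.card H) = 1 from h.hOc, Nat.dvd_one, orderOf_eq_one_iff] at h6
  rw [h6, mul_one] at h1
  have h7 : x * l = l * x := by
    have := congrArg (fun z => z * x) h1
    simpa [mul_assoc] using this
  exact ⟨mem_Cc_of_commute h hx hx1 (hXO hl) h7, hl⟩

/-- `H` acts faithfully and fixed-point-freely on a nontrivial finite group -/
theorem exists_fpf_action [Finite G] (h : Ctx H O) (X : Subgroup G) [hXn : X.Normal]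
    (hXO : X ≤ O) (hXC : ¬ X ≤ Cc H O) (hXX : ⁅X, X⁆ ≤ Cc H O) :
    ∃ (K : Type u) (_ : Group K) (_ : Finite K) (Ψ : H →* MulAut K), Nontrivial K ∧
      ∀ x : H, x ≠ 1 → ∀ k : K, Ψ x k = k → k = 1 := by
  set Y : Subgroup G := Yy H O X with hY
  set L : Subgroup G := Subgroup.normalizer (Y : Set G) with hL
  have hXL : X ≤ L := X_le_normalizer_Yy X hXX
  have hHL : H ≤ L := H_le_normalizer_Yy h X
  let π : L →* L ⧸ Y.subgroupOf L := QuotientGroup.mk' (Y.subgroupOf L)
  have hπs : Function.Surjective π := QuotientGroup.mk'_surjective _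
  have hXLn : (X.subgroupOf L).Normal := inferInstance
  have hKn : ((X.subgroupOf L).map π).Normal := hXLn.map π hπs
  let Ψ : H →* MulAut ((X.subgroupOf L).map π) :=
    (MulAut.conjNormal (H := (X.subgroupOf L).map π)).comp (π.comp (Subgroup.inclusion hHL))
  refine ⟨((X.subgroupOf L).map π : Subgroup (L ⧸ Y.subgroupOf L)), inferInstance, inferInstance,
    Ψ, ?_, ?_⟩
  · obtain ⟨x₀, hx₀X, hx₀C⟩ := Set.not_subset.mp hXC
    refine ⟨⟨⟨π ⟨x₀, hXL hx₀X⟩, Subgroup.mem_map_of_mem π (by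
      rw [Subgroup.mem_subgroupOf]; exact hx₀X)⟩, 1, ?_⟩⟩
    intro heq
    have h1 : π ⟨x₀, hXL hx₀X⟩ = 1 := by
      have := congrArg Subtype.val heq
      exact this
    rw [QuotientGroup.mk'_apply, QuotientGroup.eq_one_iff, Subgroup.mem_subgroupOf] at h1
    exact hx₀C h1.1
  · intro x hx1 k hk
    obtain ⟨l, hlX, hlk⟩ := (Subgroup.mem_map).mp k.2
    rw [Subgroup.mem_subgroupOf] at hlX
    have h1 : ((Ψ x k : (X.subgroupOf L).map π) : L ⧸ Y.subgroupOf L) =
        π (Subgroup.inclusion hHL x) * (k : L ⧸ Y.subgroupOf L) *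
          (π (Subgroup.inclusion hHL x))⁻¹ := rfl
    rw [hk, ← hlk, ← map_inv, ← map_mul, ← map_mul] at h1
    have h2 := (QuotientGroup.eq (s := Y.subgroupOf L)).mp h1
    rw [Subgroup.mem_subgroupOf] at h2
    have h3 : (l : G)⁻¹ * ((x : G) * l * (x : G)⁻¹) ∈ Y := by
      simpa using h2
    have hx1' : (x : G) ≠ 1 := fun hh => hx1 (Subtype.ext hh)
    have h4 : (l : G) ∈ Y := mem_Yy_of_fixed h X hXO x.2 hx1' hlX h3
    apply Subtype.ext
    rw [← hlk]
    show π l = 1
    rw [QuotientGroup.mk'_apply, QuotientGroup.eq_one_iff, Subgroup.mem_subgroupOf]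
    exact h4

end fpf

/-- if `O` is solvable and `H` contains no copy of `SL(2,5)` then `H` is solvable (Zassenhaus) -/
theorem H_solvable [Finite G] (h : Ctx H O) (htop : O ⊔ Subgroup.normalizer (H : Set G) = ⊤)
    (hsO : Group.IsSolvable O)
    (hK : ∀ K : Subgroup G, K ≤ H →
      ¬ Nonempty (K ≃* Matrix.SpecialLinearGroup (Fin 2) (ZMod 5))) :
    Group.IsSolvable H := by
  by_contra hns
  obtain ⟨S, hSn, hSne, hSS⟩ := Cfsg.Agent.Lib.Helper12_FpfNonsolv.exists_perfect_core hns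
  obtain ⟨X, hXn, hXO, hXC, hXX⟩ := exists_X h htop hsO
  obtain ⟨K, _, _, Ψ, hKnt, hfpf⟩ := exists_fpf_action h X hXO hXC hXX
  have hinj : Function.Injective Ψ := by
    rw [injective_iff_map_eq_one]
    intro x hx
    by_contra hx1
    obtain ⟨k, hk1⟩ := exists_ne (1 : K)
    exact hk1 (hfpf x hx1 k (by rw [hx]; rfl))
  let e : S ≃* S.map Ψ := S.equivMapOfInjective Ψ hinj
  have hperfS : commutator S = ⊤ :=
    Cfsg.Agent.Lib.Helper12_FpfNonsolv.commutator_eq_top_of_self S hSS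
  have hperf : commutator (S.map Ψ) = ⊤ := by
    have h1 : (commutator S).map e.toMonoidHom = commutator (S.map Ψ) := by
      rw [commutator_def, commutator_def, Subgroup.map_commutator,
        Subgroup.map_top_of_surjective _ e.surjective]
    rw [← h1, hperfS, Subgroup.map_top_of_surjective _ e.surjective]
  have hne : S.map Ψ ≠ ⊥ := by
    intro hb
    exact hSne ((Subgroup.map_eq_bot_iff_of_injective S hinj).mp hb)
  have hfpf' : ∀ φ ∈ S.map Ψ, φ ≠ 1 → ∀ k : K, φ k = k → k = 1 := by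
    rintro φ ⟨s, hs, rfl⟩ hφ k hk
    refine hfpf s ?_ k hk
    intro hs1
    exact hφ (by rw [hs1, map_one])
  obtain ⟨e'⟩ := Cfsg.Agent.S0690.result (S.map Ψ) hfpf' hperf hne
  refine hK (S.map H.subtype) (Subgroup.map_subtype_le S) ⟨?_⟩
  exact ((S.equivMapOfInjective H.subtype H.subtype_injective).symm.trans e).trans e'

end Cfsg.Agent.Lib.Helper7_S4118_B
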