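import Mathlib
import Cfsg.Agent.Lib.Helper7_S4118_B
import Cfsg.Agent.Lib.Helper48_Generation
import Cfsg.Agent.S0016

/-!
# S4118, part C (helper7): Sylow subgroups of `H` are cyclic or generalized quaternion.
-/

set_option autoImplicit false

namespace Cfsg.Agent.Lib.Helper7_S4118_C

open Subgroup Cfsg.Agent.Lib.Helper7_S4118_A Cfsg.Agent.Lib.Helper7_S4118_B

universe u

variable {G : Type u} [Group G]

/-- (after `Helper1_FPF.unique_subgroup_card_prime`) if all nonidentity elements of `H` have their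
centralizers in `K` inside `T`, and `K ≰ T`, a `p`-subgroup of `H` has at most one subgroup of
order `p` -/
theorem unique_subgroup_card_prime' [Finite G] (K H T : Subgroup G)
    (hHK : H ≤ normalizer (K : Set G)) (hK : ¬ K ≤ T)
    (hfpf : ∀ h ∈ H, h ≠ 1 → K ⊓ centralizer {h} ≤ T)
    (hcopr : (Nat.card K).Coprime (Nat.card H)) {p : ℕ} [Fact p.Prime]
    (P : Subgroup G) (hPH : P ≤ H) (hP : IsPGroup p P)
    (B1 B2 : Subgroup G) (hB1 : B1 ≤ P) (hB2 : B2 ≤ P)
    (h1 : Nat.card B1 = p) (h2 : Nat.card B2 = p) : B1 = B2 := by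
  have hp := (Fact.out : p.Prime)
  have hB1ne : B1 ≠ ⊥ := B1.one_lt_card_iff_ne_bot.mp (by rw [h1]; exact hp.one_lt)
  obtain ⟨⟨b1, hb1⟩, hb1ne⟩ := (Subgroup.ne_bot_iff_exists_ne_one).mp hB1ne
  have hb1ne' : b1 ≠ 1 := fun h => hb1ne (Subtype.ext h)
  have hnt : Nontrivial P :=
    nontrivial_of_ne (⟨b1, hB1 hb1⟩ : P) 1 (fun h => hb1ne' (congrArg Subtype.val h))
  have hcnt : Nontrivial (Subgroup.center P) := hP.center_nontrivial
  have hpc : p ∣ Nat.card (Subgroup.center P) := by
    rcases (hP.to_subgroup (Subgroup.center P)).card_eq_or_dvd with h | h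
    · exact absurd h (Finite.one_lt_card (α := Subgroup.center P)).ne'
    · exact h
  obtain ⟨z, hz⟩ := exists_prime_orderOf_dvd_card' p hpc
  have hzord : orderOf (z : P) = p := by rw [Subgroup.orderOf_coe]; exact hz
  have hzordG : orderOf ((z : P) : G) = p := by rw [Subgroup.orderOf_coe]; exact hzord
  have hpH : p ∣ Nat.card H := by
    have h3 : p ∣ Nat.card P := by
      have h4 := orderOf_dvd_natCard (z : P)
      rwa [hzord] at h4
    exact h3.trans (Subgroup.card_dvd_of_le hPH)
  have hcop : ¬ p ∣ Nat.card K := by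
    intro hd
    have := Nat.dvd_gcd hd hpH
    rw [show Nat.gcd (Nat.card K) (Nat.card H) = 1 from hcopr] at this
    exact hp.one_lt.ne' (Nat.dvd_one.mp this)
  have claim : ∀ B : Subgroup G, B ≤ P → Nat.card B = p → ((z : P) : G) ∈ B := by
    intro B hBP hB
    by_contra hzB
    have hBne : B ≠ ⊥ := B.one_lt_card_iff_ne_bot.mp (by rw [hB]; exact hp.one_lt)
    obtain ⟨⟨b, hb⟩, hbne⟩ := (Subgroup.ne_bot_iff_exists_ne_one).mp hBne
    have hbne' : b ≠ 1 := fun h => hbne (Subtype.ext h)
    have hzp : ((z : P) : G) ^ p = 1 := by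
      have h4 := pow_orderOf_eq_one ((z : P) : G)
      rwa [hzordG] at h4
    have hbp : b ^ p = 1 := by
      have h3 : (⟨b, hb⟩ : B) ^ Nat.card B = 1 := pow_card_eq_one'
      rw [hB] at h3
      have h3' := congrArg Subtype.val h3
      rwa [Subgroup.coe_pow, Subgroup.coe_one] at h3'
    have hcomm : ((z : P) : G) * b = b * ((z : P) : G) := by
      have h3 := (Subgroup.mem_center_iff.mp z.2 ⟨b, hBP hb⟩).symm
      exact congrArg Subtype.val h3
    have hzH : ((z : P) : G) ∈ H := hPH (z : P).2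
    have hbH : b ∈ H := hPH (hBP hb)
    have hle := Cfsg.Agent.Lib.Helper48_Generation.le_of_centralizers_le (p := p) K hcop
      ((z : P) : G) b (hHK hzH) (hHK hbH) hzp hbp hcomm T (hfpf b hbH hbne')
      (fun i => by
        refine hfpf _ (H.mul_mem hzH (H.pow_mem hbH i)) ?_
        intro h
        apply hzB
        rw [eq_inv_of_mul_eq_one_left h]
        exact B.inv_mem (B.pow_mem hb i))
    exact hK hle
  have heq : ∀ B : Subgroup G, B ≤ P → Nat.card B = p → Subgroup.zpowers ((z : P) : G) = B := by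
    intro B hBP hB
    apply Subgroup.eq_of_le_of_card_ge (Subgroup.zpowers_le.mpr (claim B hBP hB))
    rw [hB, Nat.card_zpowers, hzordG]
  rw [← heq B1 hB1 h1, ← heq B2 hB2 h2]

variable {H O : Subgroup G}

/-- Sylow subgroups of `H` are cyclic or generalized quaternion -/
theorem sylow_cyclic_or_quaternion [Finite G] (h : Ctx H O)
    (htop : O ⊔ Subgroup.normalizer (H : Set G) = ⊤) (p : ℕ) [Fact p.Prime] (P : Sylow p H) :
    IsCyclic P ∨ (p = 2 ∧ ∃ n : ℕ, Nonempty (P ≃* QuaternionGroup (2 ^ n))) := by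
  have hOn := h.hOn
  apply Cfsg.Agent.S0016.result p P.isPGroup'
  intro B1 B2 h1 h2
  set ι : P →* G := H.subtype.comp (P : Subgroup H).subtype with hι
  have hιinj : Function.Injective ι :=
    (Subgroup.subtype_injective H).comp (Subgroup.subtype_injective _)
  have hle : ∀ B : Subgroup P, B.map ι ≤ (P : Subgroup H).map H.subtype := by
    rintro B _ ⟨b, _, rfl⟩
    exact ⟨(b : H), b.2, rfl⟩
  have hcard : ∀ B : Subgroup P, Nat.card (B.map ι) = Nat.card B := fun B =>
    Nat.card_congr (B.equivMapOfInjective ι hιinj).symm.toEquiv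
  have key := unique_subgroup_card_prime' O H (Cc H O)
    (by rw [Subgroup.normalizer_eq_top]; exact le_top) (not_le_Cc h htop)
    (fun x hx hx1 y hy => mem_Cc_of_commute h hx hx1 hy.1
      ((Subgroup.mem_centralizer_singleton_iff (g := x) (k := y)).mp hy.2).symm)
    h.hOc (p := p) ((P : Subgroup H).map H.subtype) (Subgroup.map_subtype_le _)
    (P.isPGroup'.map H.subtype) (B1.map ι) (B2.map ι) (hle B1) (hle B2)
    (by rw [hcard, h1]) (by rw [hcard, h2])
  exact Subgroup.map_injective hιinj key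

end Cfsg.Agent.Lib.Helper7_S4118_C
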