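import Mathlib
import Cfsg.Agent.Lib.Helper48_Generation
import Cfsg.Agent.Lib.Helper12_FpfNonsolv
import Cfsg.Agent.S0023

/-!
# S4118, part D (helper7): a group `A` acting coprimely on a solvable group `H` whose Sylow
subgroups have solvable automorphism groups is solvable as soon as `C_A(H)` is.
-/

set_option autoImplicit false

namespace Cfsg.Agent.Lib.Helper7_S4118_D

open Subgroup

universe u

/-- a homomorphism from a perfect group to a solvable group is trivial -/
theorem map_eq_one_of_perfect_of_solvable {S T : Type*} [Group S] [Group T]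
    (hperf : commutator S = ⊤) (hT : Group.IsSolvable T) (f : S →* T) (s : S) : f s = 1 := by
  have hD : ∀ n, derivedSeries S n = ⊤ := by
    intro n
    induction n with
    | zero => rfl
    | succ n ih => rw [derivedSeries_succ, ih, ← commutator_def, hperf]
  obtain ⟨n, hn⟩ := (Group.isSolvable_def T).mp hT
  have h1 := map_derivedSeries_le_derivedSeries f n
  rw [hD n, hn] at h1
  exact (Subgroup.mem_bot).mp (h1 (Subgroup.mem_map_of_mem f (Subgroup.mem_top s)))

variable {G : Type u} [Group G]

theorem solvable_of_coprime_action [Finite G] (H A : Subgroup G)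
    (hAH : A ≤ Subgroup.normalizer (H : Set G)) (hcop : (Nat.card A).Coprime (Nat.card H))
    (hHsol : Group.IsSolvable H)
    (hsyl : ∀ (p : ℕ) [Fact p.Prime] (P : Sylow p H), Group.IsSolvable (MulAut P))
    (hcent : Group.IsSolvable ↥(A ⊓ Subgroup.centralizer (H : Set G))) : Group.IsSolvable A := by
  by_contra hns
  obtain ⟨S, hSn, hSne, hSS⟩ := Cfsg.Agent.Lib.Helper12_FpfNonsolv.exists_perfect_core hns
  have hperf : commutator S = ⊤ :=
    Cfsg.Agent.Lib.Helper12_FpfNonsolv.commutator_eq_top_of_self S hSS
  -- every element of `S` centralizes an `A`-invariant Sylow subgroup, for every prime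
  have hcentP : ∀ (p : ℕ) [Fact p.Prime], ∃ P : Sylow p H,
      ∀ s : S, ∀ x ∈ (P : Subgroup H).map H.subtype, ((s : A) : G) * x = x * ((s : A) : G) := by
    intro p _
    obtain ⟨P, hP⟩ := Cfsg.Agent.S0023.result A H hAH hcop (Or.inr hHsol) p
    refine ⟨P, ?_⟩
    set P' : Subgroup G := (P : Subgroup H).map H.subtype with hP'
    have hsolP : Group.IsSolvable (MulAut P') := by
      have := hsyl p P
      let e : (P : Subgroup H) ≃* P' :=
        (P : Subgroup H).equivMapOfInjective H.subtype H.subtype_injective
      exact Group.isSolvable_of_isSolvable_injective (f := (MulAut.congr e.symm).toMonoidHom)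
        (MulAut.congr e.symm).injective
    let f : S →* MulAut P' :=
      ((Cfsg.Agent.Lib.Helper48_Generation.normAut P').comp (Subgroup.inclusion hP)).comp S.subtype
    intro s x hx
    have h1 := map_eq_one_of_perfect_of_solvable hperf hsolP f s
    have h2 : ((f s ⟨x, hx⟩ : P') : G) = ((s : A) : G) * x * ((s : A) : G)⁻¹ := rfl
    rw [h1] at h2
    have h3 : x = ((s : A) : G) * x * ((s : A) : G)⁻¹ := h2
    have := congrArg (fun z => z * ((s : A) : G)) h3
    simpa [mul_assoc] using this.symm
  -- hence `S` centralizes `H`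
  set Z : Subgroup G := H ⊓ Subgroup.centralizer ((S.map A.subtype : Subgroup G) : Set G) with hZ
  have hZ1 : Z.relIndex H = 1 := by
    by_contra hne
    obtain ⟨q, hq, hqd⟩ := Nat.exists_prime_and_dvd hne
    have : Fact q.Prime := ⟨hq⟩
    obtain ⟨P, hPc⟩ := hcentP q
    have hPZ : (P : Subgroup H).map H.subtype ≤ Z := by
      intro x hx
      refine ⟨Subgroup.map_subtype_le _ hx, Subgroup.mem_centralizer_iff.mpr ?_⟩
      rintro _ ⟨s, hs, rfl⟩
      exact hPc ⟨s, hs⟩ x hx
    have h1 : ((P : Subgroup H).map H.subtype).relIndex H = (P : Subgroup H).index := by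
      rw [Subgroup.relIndex]
      congr 1
      exact Subgroup.comap_map_eq_self_of_injective H.subtype_injective _
    have h2 : ¬ q ∣ (P : Subgroup H).index := P.not_dvd_index
    exact h2 (h1 ▸ hqd.trans (relIndex_dvd_of_le_left H hPZ))
  have hHZ : H ≤ Z := relIndex_eq_one.mp hZ1
  -- so `S` embeds in the solvable group `C_A(H)`
  have hST : S.map A.subtype ≤ A ⊓ Subgroup.centralizer (H : Set G) := by
    rintro _ ⟨s, hs, rfl⟩
    refine ⟨s.2, Subgroup.mem_centralizer_iff.mpr ?_⟩
    intro x hx
    have := Subgroup.mem_centralizer_iff.mp (hHZ hx).2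
    exact (this _ ⟨s, hs, rfl⟩).symm
  let g : S →* ↥(A ⊓ Subgroup.centralizer (H : Set G)) :=
    (Subgroup.inclusion hST).comp (S.equivMapOfInjective A.subtype A.subtype_injective).toMonoidHom
  have hg : Function.Injective g :=
    (Subgroup.inclusion_injective hST).comp
      (S.equivMapOfInjective A.subtype A.subtype_injective).injective
  have hSsol : Group.IsSolvable S := Group.isSolvable_of_isSolvable_injective hg
  apply hSne
  rw [eq_bot_iff]
  intro s hs
  have := map_eq_one_of_perfect_of_solvable hperf hSsol (MonoidHom.id S) ⟨s, hs⟩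
  rw [Subgroup.mem_bot]
  exact congrArg Subtype.val this

end Cfsg.Agent.Lib.Helper7_S4118_D
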