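import Mathlib
import Cfsg.Agent.S3742
import Cfsg.Agent.S4337

/-!
# S4118, part E (helper7): the automorphism group of a cyclic or generalized quaternion group is
solvable.
-/

set_option autoImplicit false

namespace Cfsg.Agent.Lib.Helper7_S4118_E

open QuaternionGroup

theorem solvable_mulAut_of_isCyclic {P : Type*} [Group P] [hc : IsCyclic P] :
    Group.IsSolvable (MulAut P) :=
  Group.isSolvable_of_isSolvable_injective (f := (IsCyclic.mulAutMulEquiv P).toMonoidHom)
    (IsCyclic.mulAutMulEquiv P).injective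

section quat

variable {m : ℕ}

theorem a_pow (j : ZMod (2 * m)) (k : ℕ) :
    (a j : QuaternionGroup m) ^ k = a ((k : ZMod (2 * m)) * j) := by
  induction k with
  | zero => rw [pow_zero, Nat.cast_zero, zero_mul, a_zero]
  | succ k ih => rw [pow_succ, ih, a_mul_a]; congr 1; push_cast; ring

theorem a_eq_pow (k : ZMod (2 * m)) [NeZero m] : (a k : QuaternionGroup m) = a 1 ^ k.val := by
  rw [a_one_pow, ZMod.natCast_zmod_val]

variable [NeZero m]

/-- an automorphism maps `a 1` into the cyclic subgroup `⟨a⟩` when `3 ≤ m` -/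
theorem exists_apply_a_one (hm : 3 ≤ m) (β : MulAut (QuaternionGroup m)) :
    ∃ j : ZMod (2 * m), β (a 1) = a j := by
  rcases hβ : β (a 1) with j | j
  · exact ⟨j, rfl⟩
  · exfalso
    have h1 : orderOf (β (a 1)) = orderOf (a 1 : QuaternionGroup m) :=
      MulEquiv.orderOf_eq β (a 1)
    rw [hβ, orderOf_xa, orderOf_a_one] at h1
    omega

theorem apply_a (β : MulAut (QuaternionGroup m)) {j : ZMod (2 * m)} (hj : β (a 1) = a j)
    (k : ZMod (2 * m)) : β (a k) = a (j * k) := by
  rw [a_eq_pow k, map_pow, hj, a_pow, ZMod.natCast_zmod_val, mul_comm]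

/-- any two automorphisms commute on `a 1` -/
theorem comm_on_a_one (hm : 3 ≤ m) (β γ : MulAut (QuaternionGroup m)) :
    β (γ (a 1)) = γ (β (a 1)) := by
  obtain ⟨j, hj⟩ := exists_apply_a_one hm β
  obtain ⟨j', hj'⟩ := exists_apply_a_one hm γ
  rw [hj', hj, apply_a β hj, apply_a γ hj', mul_comm]

theorem exists_apply_xa_zero (hm : 3 ≤ m) (β : MulAut (QuaternionGroup m)) :
    ∃ i : ZMod (2 * m), β (xa 0) = xa i := by
  rcases hβ : β (xa 0) with i | i
  · exfalso
    obtain ⟨j, hj⟩ := exists_apply_a_one hm β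
    have h1 : β (xa 0 * a 1) = β (a 1 * xa 0) := by
      rw [map_mul, map_mul, hβ, hj, a_mul_a, a_mul_a, add_comm]
    have h2 := β.injective h1
    rw [xa_mul_a, a_mul_xa] at h2
    have h3 : (0 : ZMod (2 * m)) + 1 = 0 - 1 := by
      injection h2
    have h4 : ((2 : ℕ) : ZMod (2 * m)) = 0 := by
      have : (2 : ZMod (2 * m)) = 0 := by linear_combination h3
      exact_mod_cast this
    rw [ZMod.natCast_eq_zero_iff] at h4
    have := Nat.le_of_dvd (by norm_num) h4
    omega
  · exact ⟨i, rfl⟩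

theorem ext_of_eq (β γ : MulAut (QuaternionGroup m)) (h1 : β (a 1) = γ (a 1))
    (h2 : β (xa 0) = γ (xa 0)) : β = γ := by
  have ha : ∀ k : ZMod (2 * m), β (a k) = γ (a k) := by
    intro k
    rw [a_eq_pow k, map_pow, map_pow, h1]
  apply MulEquiv.ext
  intro x
  rcases x with k | k
  · exact ha k
  · have : (xa k : QuaternionGroup m) = xa 0 * a k := by rw [xa_mul_a, zero_add]
    rw [this, map_mul, map_mul, h2, ha]

/-- the automorphism group of a generalized quaternion group of order at least 12 is metabelian -/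
theorem solvable_mulAut_quaternion (hm : 3 ≤ m) :
    Group.IsSolvable (MulAut (QuaternionGroup m)) := by
  set A := MulAut (QuaternionGroup m)
  let F : Subgroup A :=
    { carrier := {β | β (a 1) = a 1}
      one_mem' := rfl
      mul_mem' := by
        intro β γ hβ hγ
        show β (γ (a 1)) = a 1
        rw [hγ, hβ]
      inv_mem' := by
        intro β hβ
        show β⁻¹ (a 1) = a 1
        have : β⁻¹ (β (a 1)) = a 1 := β.symm_apply_apply (a 1)
        rwa [hβ] at this }
  have hF : ∀ β γ : A, β ∈ F → γ ∈ F → β * γ = γ * β := by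
    intro β γ hβ hγ
    have hβ' : β (a 1) = a 1 := hβ
    have hγ' : γ (a 1) = a 1 := hγ
    obtain ⟨i, hi⟩ := exists_apply_xa_zero hm β
    obtain ⟨i', hi'⟩ := exists_apply_xa_zero hm γ
    have hβa : ∀ k, β (a k) = a k := fun k => by rw [apply_a β hβ', one_mul]
    have hγa : ∀ k, γ (a k) = a k := fun k => by rw [apply_a γ hγ', one_mul]
    have hx : ∀ k : ZMod (2 * m), (xa k : QuaternionGroup m) = xa 0 * a k := fun k => by
      rw [xa_mul_a, zero_add]
    apply ext_of_eq
    · show β (γ (a 1)) = γ (β (a 1))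
      rw [hγ', hβ', hγ']
    · show β (γ (xa 0)) = γ (β (xa 0))
      rw [hi', hi, hx i', hx i, map_mul, map_mul, hi, hi', hβa, hγa, xa_mul_a, xa_mul_a, add_comm]
  have hD1 : derivedSeries A 1 ≤ F := by
    rw [derivedSeries_one, commutator_def, Subgroup.commutator_le]
    intro β _ γ _
    show (β * γ * β⁻¹ * γ⁻¹) (a 1) = a 1
    have h1 : β⁻¹ (γ⁻¹ (a 1)) = γ⁻¹ (β⁻¹ (a 1)) := comm_on_a_one hm β⁻¹ γ⁻¹
    show β (γ (β⁻¹ (γ⁻¹ (a 1)))) = a 1
    rw [h1]
    have h2 : γ (γ⁻¹ (β⁻¹ (a 1))) = β⁻¹ (a 1) := γ.apply_symm_apply _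
    rw [h2]
    exact β.apply_symm_apply _
  rw [Group.isSolvable_def]
  refine ⟨2, ?_⟩
  rw [derivedSeries_succ, eq_bot_iff, Subgroup.commutator_le]
  intro β hβ γ hγ
  rw [Subgroup.mem_bot, commutatorElement_def, hF β γ (hD1 hβ) (hD1 hγ)]
  group

end quat

theorem solvable_mulAut_quaternion' (m : ℕ) (hm : m = 1 ∨ m = 2 ∨ 3 ≤ m) :
    Group.IsSolvable (MulAut (QuaternionGroup m)) := by
  rcases hm with rfl | rfl | hm
  · have := quaternionGroup_one_isCyclic
    exact solvable_mulAut_of_isCyclic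
  · obtain ⟨e⟩ := Cfsg.Agent.S3742.result
    have := Cfsg.Agent.S4337.solvable_S4
    exact Group.isSolvable_of_isSolvable_injective (f := e.toMonoidHom) e.injective
  · have : NeZero m := ⟨by omega⟩
    exact solvable_mulAut_quaternion hm

/-- the automorphism group of a cyclic or generalized quaternion group is solvable -/
theorem solvable_mulAut {P : Type*} [Group P]
    (hP : IsCyclic P ∨ ∃ n : ℕ, Nonempty (P ≃* QuaternionGroup (2 ^ n))) :
    Group.IsSolvable (MulAut P) := by
  rcases hP with hc | ⟨n, ⟨e⟩⟩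
  · exact solvable_mulAut_of_isCyclic
  · have h1 : 2 ^ n = 1 ∨ 2 ^ n = 2 ∨ 3 ≤ 2 ^ n := by
      rcases n with _ | _ | n
      · left; rfl
      · right; left; rfl
      · right; right
        have : 2 ^ 2 ≤ 2 ^ (n + 1 + 1) := Nat.pow_le_pow_right (by norm_num) (by omega)
        omega
    have := solvable_mulAut_quaternion' (2 ^ n) h1
    exact Group.isSolvable_of_isSolvable_injective (f := (MulAut.congr e).toMonoidHom)
      (MulAut.congr e).injective

end Cfsg.Agent.Lib.Helper7_S4118_E
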