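import Mathlib

/-!
# Quotients of solvable Frobenius complements embed in `Sym(4)` (helper95)

Bridge from the six-way alternative of S4291 to "kernel of a homomorphism to `Sym(4)`", for
solvable `G`.
-/

set_option autoImplicit false

namespace Cfsg.Agent.Lib.Helper95_FCQuot

/-- `A₅` is not solvable -/
theorem not_solvable_alternatingGroup_five :
    ¬ Group.IsSolvable (alternatingGroup (Fin 5)) := by
  intro h
  apply Equiv.Perm.not_isSolvable (Fin 5) (by simp)
  haveI := h
  apply Group.isSolvable_of_ker_le_range (alternatingGroup (Fin 5)).subtype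
    (Equiv.Perm.sign : Equiv.Perm (Fin 5) →* ℤˣ)
  intro g hg
  rw [Subgroup.range_subtype]
  exact hg

/-- an injective homomorphism from the four-group to `Sym(4)` -/
theorem exists_injective_dihedral_two :
    ∃ j : DihedralGroup 2 →* Equiv.Perm (Fin 4), Function.Injective j := by
  have hc : Fintype.card (DihedralGroup 2) = 4 := by rw [DihedralGroup.card]
  let e : DihedralGroup 2 ≃ Fin 4 := Fintype.equivFinOfCardEq hc
  refine ⟨(e.permCongrHom.toMonoidHom).comp
    (MulAction.toPermHom (DihedralGroup 2) (DihedralGroup 2)), ?_⟩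
  intro a b hab
  have h1 : MulAction.toPermHom (DihedralGroup 2) (DihedralGroup 2) a =
      MulAction.toPermHom (DihedralGroup 2) (DihedralGroup 2) b :=
    e.permCongrHom.injective hab
  have h2 := congrArg (fun σ : Equiv.Perm (DihedralGroup 2) => σ 1) h1
  simpa using h2

/-- the bridge: from the alternative of S4291 to a homomorphism to `Sym(4)` with kernel `N` -/
theorem exists_hom_perm_four {G : Type*} [Group G] [hsol : Group.IsSolvable G] (N : Subgroup G)
    (h : N = ⊤ ∨
        (∃ f : G →* DihedralGroup 2, Function.Surjective f ∧ f.ker = N) ∨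
        (∃ f : G →* alternatingGroup (Fin 4), Function.Surjective f ∧ f.ker = N) ∨
        (∃ f : G →* Equiv.Perm (Fin 4), Function.Surjective f ∧ f.ker = N) ∨
        (∃ f : G →* alternatingGroup (Fin 5), Function.Surjective f ∧ f.ker = N) ∨
        (∃ f : G →* Equiv.Perm (Fin 5), Function.Surjective f ∧ f.ker = N)) :
    ∃ f : G →* Equiv.Perm (Fin 4), f.ker = N := by
  rcases h with h | ⟨f, hf, hk⟩ | ⟨f, hf, hk⟩ | ⟨f, hf, hk⟩ | ⟨f, hf, hk⟩ | ⟨f, hf, hk⟩
  · refine ⟨1, ?_⟩
    rw [h, MonoidHom.ker_one]
  · obtain ⟨j, hj⟩ := exists_injective_dihedral_two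
    refine ⟨j.comp f, ?_⟩
    rw [← hk]
    ext g
    simp only [MonoidHom.mem_ker, MonoidHom.comp_apply]
    rw [← map_one j]
    exact hj.eq_iff
  · refine ⟨(alternatingGroup (Fin 4)).subtype.comp f, ?_⟩
    rw [← hk]
    ext g
    simp only [MonoidHom.mem_ker, MonoidHom.comp_apply]
    rw [← map_one (alternatingGroup (Fin 4)).subtype]
    exact (Subgroup.subtype_injective _).eq_iff
  · exact ⟨f, hk⟩
  · exact absurd (Group.isSolvable_of_surjective hf) not_solvable_alternatingGroup_five
  · exact absurd (Group.isSolvable_of_surjective hf)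
      (Equiv.Perm.not_isSolvable (Fin 5) (by simp))

end Cfsg.Agent.Lib.Helper95_FCQuot
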