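import Mathlib
import Cfsg.Agent.Lib.Helper7_S4118_C
import Cfsg.Agent.Lib.Helper7_S4118_D
import Cfsg.Agent.Lib.Helper7_S4118_E
import Cfsg.Agent.Lib.Helper71_FCNonsolv
import Cfsg.Agent.Lib.Helper95_FCQuot

/-!
# S4118 (helper7): assembly.
-/

set_option autoImplicit false

namespace Cfsg.Agent.Lib.Helper7_S4118_Main

open Subgroup Cfsg.Agent.Lib.Helper7_S4118_A Cfsg.Agent.Lib.Helper7_S4118_B
  Cfsg.Agent.Lib.Helper7_S4118_C Cfsg.Agent.Lib.Helper7_S4118_D Cfsg.Agent.Lib.Helper7_S4118_E

universe u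

variable {G : Type u} [Group G]

/-- `K B` is solvable when `K`, `B` are and `B` normalizes `K` -/
theorem solvable_sup (K B : Subgroup G) (hB : B ≤ Subgroup.normalizer (K : Set G))
    (hKs : Group.IsSolvable K) (hBs : Group.IsSolvable B) : Group.IsSolvable ↥(K ⊔ B) := by
  set M : Subgroup G := K ⊔ B with hM
  have hKM : K ≤ M := le_sup_left
  have hBM : B ≤ M := le_sup_right
  have hMN : M ≤ Subgroup.normalizer (K : Set G) := sup_le Subgroup.le_normalizer hB
  have hKn : (K.subgroupOf M).Normal := (Subgroup.normal_subgroupOf_iff_le_normalizer hKM).mpr hMN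
  have h1 : Group.IsSolvable (K.subgroupOf M) :=
    Group.isSolvable_of_isSolvable_injective (f := (Subgroup.subgroupOfEquivOfLe hKM).toMonoidHom)
      (Subgroup.subgroupOfEquivOfLe hKM).injective
  have h2 : Group.IsSolvable (B.subgroupOf M) :=
    Group.isSolvable_of_isSolvable_injective (f := (Subgroup.subgroupOfEquivOfLe hBM).toMonoidHom)
      (Subgroup.subgroupOfEquivOfLe hBM).injective
  have h3 : K.subgroupOf M ⊔ B.subgroupOf M = ⊤ := by
    rw [← Subgroup.subgroupOf_sup hKM hBM, Subgroup.subgroupOf_self]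
  have h4 : Group.IsSolvable (M ⧸ K.subgroupOf M) := by
    let φ : B.subgroupOf M →* M ⧸ K.subgroupOf M :=
      (QuotientGroup.mk' (K.subgroupOf M)).comp (B.subgroupOf M).subtype
    have hφ : Function.Surjective φ := by
      rw [← MonoidHom.range_eq_top, eq_top_iff]
      have h5 : (K.subgroupOf M ⊔ B.subgroupOf M).map (QuotientGroup.mk' (K.subgroupOf M)) = ⊤ := by
        rw [h3, ← MonoidHom.range_eq_map, MonoidHom.range_eq_top]
        exact QuotientGroup.mk'_surjective _
      rw [← h5, Subgroup.map_sup]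
      refine sup_le ?_ ?_
      · rw [(QuotientGroup.map_mk'_self (K.subgroupOf M))]
        exact bot_le
      · rintro _ ⟨b, hb, rfl⟩
        exact ⟨⟨b, hb⟩, rfl⟩
    exact Group.isSolvable_of_surjective hφ
  exact (Group.isSolvable_iff_subgroup_quotient (K.subgroupOf M)).mpr ⟨h1, h4⟩

variable {H O : Subgroup G}

/-- the centralizer of `H` in a `π'`-subgroup `A` of `N_G(H)` lies in `O` -/
theorem centralizer_le_O [Finite G] (h : Ctx H O)
    (htop : O ⊔ Subgroup.normalizer (H : Set G) = ⊤) (A : Subgroup G)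
    (hAN : A ≤ Subgroup.normalizer (H : Set G)) (hAc : (Nat.card A).Coprime (Nat.card H))
    (hHA : H ⊔ A = Subgroup.normalizer (H : Set G)) :
    A ⊓ Subgroup.centralizer (H : Set G) ≤ O := by
  have hOn := h.hOn
  set T : Subgroup G := A ⊓ Subgroup.centralizer (H : Set G) with hT
  have hOT : O ≤ Subgroup.normalizer ((O ⊔ T : Subgroup G) : Set G) :=
    (le_sup_left : O ≤ O ⊔ T).trans Subgroup.le_normalizer
  have hOnorm : ∀ g : G, g ∈ Subgroup.normalizer (O : Set G) := by
    intro g
    rw [Subgroup.normalizer_eq_top]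
    trivial
  have hHT : H ≤ Subgroup.normalizer ((O ⊔ T : Subgroup G) : Set G) := by
    intro g hg
    apply mem_normalizer_of_map_conj_eq
    rw [Subgroup.map_sup, map_conj_eq_of_mem_normalizer (hOnorm g)]
    congr 1
    apply map_conj_eq_of_mem_normalizer
    apply Subgroup.centralizer_le_normalizer
    rw [Subgroup.mem_centralizer_iff]
    intro t ht
    exact ((Subgroup.mem_centralizer_iff.mp ht.2) g hg).symm
  have hAT : A ≤ Subgroup.normalizer ((O ⊔ T : Subgroup G) : Set G) := by
    intro g hg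
    apply mem_normalizer_of_map_conj_eq
    rw [Subgroup.map_sup, map_conj_eq_of_mem_normalizer (hOnorm g)]
    congr 1
    apply map_conj_eq_of_mem_normalizer
    revert g
    apply le_normalizer_of_conj_mem
    intro g hg t ht
    refine ⟨A.mul_mem (A.mul_mem hg ht.1) (A.inv_mem hg), Subgroup.mem_centralizer_iff.mpr ?_⟩
    intro x hx
    have hx' : g⁻¹ * x * g ∈ H := by
      have := (Subgroup.mem_normalizer_iff.mp (Subgroup.inv_mem _ (hAN hg)) x).mp hx
      simpa using this
    have h1 := (Subgroup.mem_centralizer_iff.mp ht.2) _ hx'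
    calc x * (g * t * g⁻¹) = g * ((g⁻¹ * x * g) * t) * g⁻¹ := by group
      _ = g * (t * (g⁻¹ * x * g)) * g⁻¹ := by rw [h1]
      _ = g * t * g⁻¹ * x := by group
  have hnorm : (O ⊔ T).Normal := by
    rw [← Subgroup.normalizer_eq_top_iff, eq_top_iff, ← htop, ← hHA]
    exact sup_le hOT (sup_le hHT hAT)
  have hcop : (Nat.card (O ⊔ T : Subgroup G)).Coprime (Nat.card H) := by
    rw [sup_comm]
    refine Nat.Coprime.coprime_dvd_left (card_sup_dvd_mul T O) (Nat.Coprime.mul_left ?_ h.hOc)
    exact Nat.Coprime.coprime_dvd_left (Subgroup.card_dvd_of_le inf_le_left) hAc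
  exact le_sup_right.trans (h.hOmax _ hnorm hcop)

/-- the main theorem -/
theorem main [Finite G] (H : Subgroup G)
    (hTI : Cfsg.IsTISubset (H : Set G)) (hnn : ¬ H.Normal)
    (hHall : (Nat.card H).Coprime (H.subgroupOf (Subgroup.normalizer (H : Set G))).index)
    (hsep : ∃ (n : ℕ) (M : Fin (n + 1) → Subgroup G), M 0 = ⊥ ∧ M (Fin.last n) = ⊤ ∧ Monotone M ∧
      (∀ i, (M i).Normal) ∧
      ∀ i : Fin n, (∀ q : ℕ, q.Prime → q ∣ (M i.castSucc).relIndex (M i.succ) → q ∣ Nat.card H) ∨
        ((M i.castSucc).relIndex (M i.succ)).Coprime (Nat.card H))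
    (O : Subgroup G)
    (hO : O = sSup {K : Subgroup G | K.Normal ∧ (Nat.card K).Coprime (Nat.card H)}) :
    O ⊔ Subgroup.normalizer (H : Set G) = ⊤ ∧ (O ⊔ H).Normal ∧
    (Group.IsSolvable G ↔ Group.IsSolvable O ∧
      ∀ K : Subgroup G, K ≤ H →
        ¬ Nonempty (K ≃* Matrix.SpecialLinearGroup (Fin 2) (ZMod 5))) := by
  obtain ⟨hOn, hOc, hOmax⟩ := sSup_coprime_normal (Nat.card H) O hO
  have h : Ctx H O := ⟨hTI, hnn, hHall, hOn, hOc, hOmax⟩
  have htop := h.sup_normalizer_eq_top hsep
  have hOHn := h.sup_normal htop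
  refine ⟨htop, hOHn, ?_, ?_⟩
  · intro hG
    refine ⟨inferInstance, ?_⟩
    rintro K hKH ⟨e⟩
    obtain ⟨σ, hσ, -, -⟩ := Cfsg.Agent.Lib.Helper71_FCNonsolv.exists_hom_A5 e
    have hKs : Group.IsSolvable K := inferInstance
    exact Cfsg.Agent.Lib.Helper95_FCQuot.not_solvable_alternatingGroup_five
      (Group.isSolvable_of_surjective hσ)
  · rintro ⟨hsO, hK⟩
    have hHsol : Group.IsSolvable H := H_solvable h htop hsO hK
    set N : Subgroup G := Subgroup.normalizer (H : Set G) with hN
    have hHN : H ≤ N := Subgroup.le_normalizer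
    -- a complement of `H` in its normalizer
    have hcard : Nat.card (H.subgroupOf N) = Nat.card H :=
      Nat.card_congr (Subgroup.subgroupOfEquivOfLe hHN).toEquiv
    obtain ⟨A₀, hA₀⟩ := Subgroup.exists_right_complement'_of_coprime (N := H.subgroupOf N)
      (by rw [hcard]; exact hHall)
    set A : Subgroup G := A₀.map N.subtype with hA
    have hAN : A ≤ N := Subgroup.map_subtype_le _
    have hAcard : Nat.card A = (H.subgroupOf N).index := by
      rw [hA₀.symm.index_eq_card]
      exact Nat.card_congr (A₀.equivMapOfInjective N.subtype N.subtype_injective).symm.toEquiv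
    have hAc : (Nat.card A).Coprime (Nat.card H) := by
      rw [hAcard]
      exact hHall.symm
    have hHA : H ⊔ A = N := by
      have h1 := congrArg (Subgroup.map N.subtype) hA₀.sup_eq_top
      rw [Subgroup.map_sup, Subgroup.map_subgroupOf_eq_of_le hHN, ← MonoidHom.range_eq_map,
        Subgroup.range_subtype] at h1
      exact h1
    have hTO := centralizer_le_O h htop A hAN hAc hHA
    have hTs : Group.IsSolvable ↥(A ⊓ Subgroup.centralizer (H : Set G)) :=
      Group.isSolvable_of_isSolvable_injective (Subgroup.inclusion_injective hTO)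
    have hsyl : ∀ (p : ℕ) [Fact p.Prime] (P : Sylow p H), Group.IsSolvable (MulAut P) := by
      intro p _ P
      apply solvable_mulAut
      rcases sylow_cyclic_or_quaternion h htop p P with hc | ⟨-, hq⟩
      · exact Or.inl hc
      · exact Or.inr hq
    have hAs : Group.IsSolvable A := solvable_of_coprime_action H A hAN hAc hHsol hsyl hTs
    have h1 : Group.IsSolvable ↥(O ⊔ H) :=
      solvable_sup O H (by rw [Subgroup.normalizer_eq_top]; exact le_top) hsO hHsol
    have h2 : Group.IsSolvable ↥((O ⊔ H) ⊔ A) :=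
      solvable_sup (O ⊔ H) A (by rw [Subgroup.normalizer_eq_top]; exact le_top) h1 hAs
    have h3 : (O ⊔ H) ⊔ A = ⊤ := by rw [sup_assoc, hHA, htop]
    rw [h3] at h2
    exact Group.isSolvable_of_isSolvable_injective (f := (Subgroup.topEquiv (G := G)).symm.toMonoidHom)
      (Subgroup.topEquiv (G := G)).symm.injective

end Cfsg.Agent.Lib.Helper7_S4118_Main
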