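import Mathlib
import Cfsg.Agent.Lib.Helper7_S4118_C
import Cfsg.Agent.Lib.Helper1_Coprime
import Cfsg.Agent.Lib.Helper1_FPF
import Cfsg.Agent.S4117

/-!
# S4151 (helper7): sibling of S4118.  `H` TI, Hall in `N_G(H) = H Q`, `G` `π(H)`-separable, Sylow
2-subgroups of `H` abelian.  Then all Sylow subgroups of `H` are cyclic, `D = C_H(Q)` is a Hall
subgroup of `G` and `O [H,Q] Q` is a normal complement of `D`.
-/

set_option autoImplicit false

namespace Cfsg.Agent.Lib.Helper7_S4151

open Subgroup Cfsg.Agent.Lib.Helper7_S4118_A Cfsg.Agent.Lib.Helper7_S4118_B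
  Cfsg.Agent.Lib.Helper7_S4118_C QuaternionGroup

universe u

/-- a commutative generalized quaternion group has `m = 1` -/
theorem eq_one_of_comm {m : ℕ} [NeZero m]
    (hc : ∀ x y : QuaternionGroup m, x * y = y * x) : m = 1 := by
  have h1 := hc (xa 0) (a 1)
  rw [xa_mul_a, a_mul_xa] at h1
  have h3 : (0 : ZMod (2 * m)) + 1 = 0 - 1 := by injection h1
  have h4 : ((2 : ℕ) : ZMod (2 * m)) = 0 := by
    have : (2 : ZMod (2 * m)) = 0 := by linear_combination h3
    exact_mod_cast this
  rw [ZMod.natCast_eq_zero_iff] at h4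
  have := Nat.le_of_dvd (by norm_num) h4
  have := NeZero.ne m
  omega

theorem isCyclic_of_comm {P : Type*} [Group P] (hc : ∀ x y : P, x * y = y * x)
    (hP : IsCyclic P ∨ ∃ n : ℕ, Nonempty (P ≃* QuaternionGroup (2 ^ n))) : IsCyclic P := by
  rcases hP with h | ⟨n, ⟨e⟩⟩
  · exact h
  · have : NeZero (2 ^ n) := ⟨by positivity⟩
    have h1 : 2 ^ n = 1 := by
      apply eq_one_of_comm
      intro x y
      have := hc (e.symm x) (e.symm y)
      rw [← map_mul, ← map_mul] at this
      exact e.symm.injective this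
    have hcyc : IsCyclic (QuaternionGroup (2 ^ n)) := by
      rw [h1]
      exact quaternionGroup_one_isCyclic
    exact isCyclic_of_surjective e.symm.toMonoidHom e.symm.surjective

variable {G : Type u} [Group G]

theorem coprime_index_of_ctx [Finite G] {H O : Subgroup G} (h : Ctx H O) :
    (Nat.card H).Coprime H.index := by
  apply Nat.coprime_of_dvd
  intro p hp hpH hpi
  have : Fact p.Prime := ⟨hp⟩
  obtain ⟨P⟩ : Nonempty (Sylow p H) := inferInstance
  exact h.sylow_not_dvd_index P hpH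
    (hpi.trans (Subgroup.index_dvd_of_le (Subgroup.map_subtype_le _)))

open Cfsg.Agent.Lib.Helper1_Coprime in
/-- the main theorem -/
theorem main [Finite G] (H : Subgroup G)
    (hTI : Cfsg.IsTISubset (H : Set G)) (hnn : ¬ H.Normal)
    (hHall : (Nat.card H).Coprime (H.subgroupOf (Subgroup.normalizer (H : Set G))).index)
    (hsep : ∃ (n : ℕ) (M : Fin (n + 1) → Subgroup G), M 0 = ⊥ ∧ M (Fin.last n) = ⊤ ∧ Monotone M ∧
      (∀ i, (M i).Normal) ∧
      ∀ i : Fin n, (∀ q : ℕ, q.Prime → q ∣ (M i.castSucc).relIndex (M i.succ) → q ∣ Nat.card H) ∨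
        ((M i.castSucc).relIndex (M i.succ)).Coprime (Nat.card H))
    (h2 : ∀ P : Sylow 2 H, IsMulCommutative (P : Subgroup H))
    (Q : Subgroup G) (hQ : Q ≤ Subgroup.normalizer (H : Set G)) (hQH : Q ⊓ H = ⊥)
    (hQH' : Q ⊔ H = Subgroup.normalizer (H : Set G)) :
    (Nat.card ↥(H ⊓ Subgroup.centralizer (Q : Set G))).Coprime
        (H ⊓ Subgroup.centralizer (Q : Set G)).index ∧
    ∃ N : Subgroup G, N.Normal ∧ N.IsComplement' (H ⊓ Subgroup.centralizer (Q : Set G)) := by
  obtain ⟨hOn, hOc, hOmax⟩ := sSup_coprime_normal (Nat.card H)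
    (sSup {K : Subgroup G | K.Normal ∧ (Nat.card K).Coprime (Nat.card H)}) rfl
  set O : Subgroup G := sSup {K : Subgroup G | K.Normal ∧ (Nat.card K).Coprime (Nat.card H)}
    with hOdef
  have h : Ctx H O := ⟨hTI, hnn, hHall, hOn, hOc, hOmax⟩
  have htop := h.sup_normalizer_eq_top hsep
  set N : Subgroup G := Subgroup.normalizer (H : Set G) with hN
  set D : Subgroup G := H ⊓ Subgroup.centralizer (Q : Set G) with hD
  have hDH : D ≤ H := inf_le_left
  -- all Sylow subgroups of `H` are cyclic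
  have hcyc : ∀ (p : ℕ) [Fact p.Prime] (P : Sylow p H), IsCyclic (P : Subgroup H) := by
    intro p _ P
    rcases sylow_cyclic_or_quaternion h htop p P with hc | ⟨hp2, hq⟩
    · exact hc
    · subst hp2
      have hcomm := h2 P
      exact isCyclic_of_comm (fun x y => hcomm.is_comm.comm x y) (Or.inr hq)
  -- orders
  have hQcard : Nat.card Q * Nat.card H = Nat.card N := by
    rw [← hQH', Cfsg.Agent.Lib.Helper1_FPF.card_sup_of_le_normalizer Q H hQ hQH]
  have hrel : H.relIndex N = Nat.card Q := by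
    have h1 := card_mul_relIndex' (Subgroup.le_normalizer : H ≤ N)
    rw [← hQcard, mul_comm] at h1
    exact Nat.eq_of_mul_eq_mul_right Nat.card_pos h1
  have hQc : (Nat.card Q).Coprime (Nat.card H) := by
    rw [← hrel]
    exact hHall.symm
  -- the landed theorem on coprime action on a group with cyclic Sylow subgroups
  let _ := conjAction Q H hQ
  obtain ⟨hS1, -, hS3, hS4, hS5⟩ := Cfsg.Agent.S4117.result (G := H) (A := Q) hQc hcyc
  have hsmul : ∀ (q : Q) (x : H), ((q • x : H) : G) = q * x * (q : G)⁻¹ := fun q x => rfl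
  set R' : Subgroup H := Subgroup.closure {y : H | ∃ (a : Q) (g : H), y = g⁻¹ * a • g} with hR'
  set D' : Subgroup H := D.subgroupOf H with hD'
  have hfix : (MulAction.fixedPoints Q H : Set H) = (D' : Set H) := by
    ext x
    rw [MulAction.mem_fixedPoints, SetLike.mem_coe, hD', Subgroup.mem_subgroupOf, hD]
    constructor
    · intro hx
      refine ⟨x.2, Subgroup.mem_centralizer_iff.mpr ?_⟩
      intro q hq
      have h1 := congrArg Subtype.val (hx ⟨q, hq⟩)
      rw [hsmul] at h1
      have h3 := congrArg (fun z => z * q) h1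
      simpa [mul_assoc] using h3
    · intro hx q
      apply Subtype.ext
      rw [hsmul]
      have h1 := (Subgroup.mem_centralizer_iff.mp hx.2) q q.2
      rw [h1, mul_inv_cancel_right]
  have hcardD' : Nat.card D' = Nat.card D :=
    Nat.card_congr (Subgroup.subgroupOfEquivOfLe hDH).toEquiv
  have hcardfix : Nat.card (MulAction.fixedPoints Q H : Set H) = Nat.card D := by
    rw [hfix]
    exact hcardD'
  have hsup' : R' ⊔ D' = ⊤ := by
    rw [hfix, Subgroup.closure_eq] at hS5
    exact hS5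
  have hinf' : D' ⊓ R' = ⊥ := by
    rw [eq_bot_iff]
    intro x hx
    have : x ∈ (R' : Set H) ∩ MulAction.fixedPoints Q H := by
      rw [hfix]
      exact ⟨hx.2, hx.1⟩
    rw [hS4] at this
    exact this
  have hcardH : Nat.card D' * Nat.card R' = Nat.card H := by
    rw [← Cfsg.Agent.Lib.Helper1_FPF.card_sup_of_le_normalizer D' R'
      (by rw [Subgroup.normalizer_eq_top]; exact le_top) hinf', sup_comm, hsup', Subgroup.card_top]
  set R₀ : Subgroup G := R'.map H.subtype with hR₀
  have hR₀H : R₀ ≤ H := Subgroup.map_subtype_le _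
  have hcardR₀ : Nat.card R₀ = Nat.card R' :=
    Nat.card_congr (R'.equivMapOfInjective H.subtype H.subtype_injective).symm.toEquiv
  have hdiv : Nat.card H / Nat.card D = Nat.card R₀ := by
    rw [hcardR₀, ← hcardH, hcardD']
    exact Nat.mul_div_cancel_left _ Nat.card_pos
  have hDR : (Nat.card D).Coprime (Nat.card R₀) := by
    rw [← hdiv, ← hcardfix]
    rw [hcardfix] at hS1 ⊢
    exact hS1
  have hDHc : Nat.card D ∣ Nat.card H := Subgroup.card_dvd_of_le hDH
  have hDO : (Nat.card D).Coprime (Nat.card O) :=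
    Nat.Coprime.coprime_dvd_left hDHc hOc.symm
  have hDQ : (Nat.card D).Coprime (Nat.card Q) :=
    Nat.Coprime.coprime_dvd_left hDHc hQc.symm
  refine ⟨?_, ?_⟩
  · -- `D` is a Hall subgroup of `G`
    rw [← relIndex_mul_index hDH]
    refine Nat.Coprime.mul_right ?_
      (Nat.Coprime.coprime_dvd_left hDHc (coprime_index_of_ctx h))
    have h1 := card_mul_relIndex' hDH
    have h3 : D.relIndex H = Nat.card R₀ := by
      rw [hcardR₀]
      rw [← hcardH, hcardD'] at h1
      exact Nat.eq_of_mul_eq_mul_left Nat.card_pos h1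
    rw [h3]
    exact hDR
  · -- the normal complement `O [H,Q] Q`
    have hgen : ∀ (a : Q) (g : H), g⁻¹ * a • g ∈ R' := fun a g =>
      Subgroup.subset_closure ⟨a, g, rfl⟩
    have hQR' : ∀ (q : Q) (r : H), r ∈ R' → q • r ∈ R' := by
      intro q r hr
      induction hr using Subgroup.closure_induction with
      | mem x hx =>
        obtain ⟨a, g, rfl⟩ := hx
        have h1 : q • (g⁻¹ * a • g) = (q • g)⁻¹ * (q * a * q⁻¹) • (q • g) := by
          rw [smul_mul', smul_inv', ← mul_smul, ← mul_smul, inv_mul_cancel_right]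
        rw [h1]
        exact hgen _ _
      | one => rw [smul_one]; exact R'.one_mem
      | mul x y _ _ hx hy => rw [smul_mul']; exact R'.mul_mem hx hy
      | inv x _ hx => rw [smul_inv']; exact R'.inv_mem hx
    have hQR₀ : Q ≤ Subgroup.normalizer (R₀ : Set G) := by
      apply le_normalizer_of_conj_mem
      rintro q hq _ ⟨r, hr, rfl⟩
      exact ⟨(⟨q, hq⟩ : Q) • r, hQR' ⟨q, hq⟩ r hr, rfl⟩
    have hHR₀ : H ≤ Subgroup.normalizer (R₀ : Set G) := by
      apply le_normalizer_of_conj_mem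
      rintro g hg _ ⟨r, hr, rfl⟩
      exact ⟨(⟨g, hg⟩ : H) * r * (⟨g, hg⟩ : H)⁻¹, hS3.conj_mem r hr ⟨g, hg⟩, rfl⟩
    have hHRQ : H ≤ Subgroup.normalizer ((R₀ ⊔ Q : Subgroup G) : Set G) := by
      apply le_normalizer_of_conj_mem
      intro g hg y hy
      have hle : R₀ ⊔ Q ≤ (R₀ ⊔ Q).comap (MulAut.conj g).toMonoidHom := by
        refine sup_le ?_ ?_
        · intro r hr
          rw [Subgroup.mem_comap]
          exact (le_sup_left : R₀ ≤ R₀ ⊔ Q)
            ((Subgroup.mem_normalizer_iff.mp (hHR₀ hg) r).mp hr)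
        · intro q hq
          rw [Subgroup.mem_comap]
          have h1 : g * q * g⁻¹ * q⁻¹ ∈ R₀ := by
            refine ⟨(⟨g, hg⟩ : H)⁻¹⁻¹ * (⟨q, hq⟩ : Q) • (⟨g, hg⟩ : H)⁻¹, hgen _ _, ?_⟩
            simp only [Subgroup.subtype_apply, Subgroup.coe_mul, hsmul, Subgroup.coe_inv, inv_inv,
              mul_assoc]
          have h3 : g * q * g⁻¹ = (g * q * g⁻¹ * q⁻¹) * q := by group
          show g * q * g⁻¹ ∈ R₀ ⊔ Q
          rw [h3]
          exact (R₀ ⊔ Q).mul_mem ((le_sup_left : R₀ ≤ R₀ ⊔ Q) h1)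
            ((le_sup_right : Q ≤ R₀ ⊔ Q) hq)
      exact hle hy
    have hQRQ : Q ≤ Subgroup.normalizer ((R₀ ⊔ Q : Subgroup G) : Set G) := by
      intro g hg
      apply mem_normalizer_of_map_conj_eq
      rw [Subgroup.map_sup, map_conj_eq_of_mem_normalizer (hQR₀ hg),
        map_conj_eq_of_mem_normalizer (Subgroup.le_normalizer hg)]
    have hOnorm : ∀ g : G, g ∈ Subgroup.normalizer (O : Set G) := by
      intro g
      rw [Subgroup.normalizer_eq_top]
      trivial
    set N₀ : Subgroup G := O ⊔ (R₀ ⊔ Q) with hN₀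
    have hN₀n : N₀.Normal := by
      rw [← Subgroup.normalizer_eq_top_iff, eq_top_iff, ← htop, ← hQH']
      refine sup_le ((le_sup_left : O ≤ N₀).trans Subgroup.le_normalizer) (sup_le ?_ ?_)
      · intro g hg
        apply mem_normalizer_of_map_conj_eq
        rw [hN₀, Subgroup.map_sup, map_conj_eq_of_mem_normalizer (hOnorm g),
          map_conj_eq_of_mem_normalizer (hQRQ hg)]
      · intro g hg
        apply mem_normalizer_of_map_conj_eq
        rw [hN₀, Subgroup.map_sup, map_conj_eq_of_mem_normalizer (hOnorm g),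
          map_conj_eq_of_mem_normalizer (hHRQ hg)]
    have hRD : R₀ ⊔ D = H := by
      have h1 := congrArg (Subgroup.map H.subtype) hsup'
      rw [Subgroup.map_sup, hD', Subgroup.map_subgroupOf_eq_of_le hDH, ← MonoidHom.range_eq_map,
        Subgroup.range_subtype] at h1
      exact h1
    have hsupD : N₀ ⊔ D = ⊤ := by
      rw [eq_top_iff, ← htop, ← hQH', ← hRD]
      refine sup_le ((le_sup_left : O ≤ N₀).trans le_sup_left) (sup_le ?_ (sup_le ?_ le_sup_right))
      · exact (le_sup_right : Q ≤ R₀ ⊔ Q).trans ((le_sup_right : R₀ ⊔ Q ≤ N₀).trans le_sup_left)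
      · exact (le_sup_left : R₀ ≤ R₀ ⊔ Q).trans ((le_sup_right : R₀ ⊔ Q ≤ N₀).trans le_sup_left)
    have hcop : (Nat.card N₀).Coprime (Nat.card D) := by
      have h1 : Nat.card N₀ ∣ Nat.card (R₀ ⊔ Q : Subgroup G) * Nat.card O := by
        rw [hN₀, sup_comm]
        exact card_sup_dvd_mul (R₀ ⊔ Q) O
      have h3 : Nat.card (Q ⊔ R₀ : Subgroup G) = Nat.card Q * Nat.card R₀ := by
        apply Cfsg.Agent.Lib.Helper1_FPF.card_sup_of_le_normalizer Q R₀ hQR₀
        rw [eq_bot_iff, ← hQH]
        exact inf_le_inf_left Q hR₀H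
      rw [sup_comm, h3] at h1
      exact (Nat.Coprime.coprime_dvd_left h1
        (Nat.Coprime.mul_left (Nat.Coprime.mul_left hDQ.symm hDR.symm) hDO.symm))
    refine ⟨N₀, hN₀n, ?_⟩
    apply Subgroup.isComplement'_of_disjoint_and_mul_eq_univ
      (Subgroup.disjoint_of_coprime_natCard hcop)
    rw [← Subgroup.normal_mul, hsupD, Subgroup.coe_top]

end Cfsg.Agent.Lib.Helper7_S4151
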