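import Mathlib
import Cfsg.Agent.Lib.Helper74_S94Defs2
import Cfsg.Agent.Lib.Helper66_S96Asm
import Cfsg.Agent.Lib.Helper66_S96Rank
import Cfsg.Agent.Lib.Helper5_SLPresA
import Cfsg.Agent.Lib.Helper39_S94_NORM
import Cfsg.Agent.Lib.Helper74_S94_STEP
import Cfsg.Agent.Lib.Helper74_S94_RANKS
import Cfsg.Agent.Lib.Helper55_S94_EVALB
import Cfsg.Agent.Lib.Helper9_S94_T1S
import Cfsg.Agent.Lib.Helper96_S94_TLaux
import Cfsg.Agent.Lib.Helper88_S94_EVALA
import Cfsg.Agent.Lib.Helper88_S94_KERaux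

set_option autoImplicit false
set_option linter.unusedVariables false
set_option linter.unusedSectionVars false

/-!
Package B_KER of helper74's `s94_packages` market (S2094 / S2099): the kernel of the action lies in the Levi
factor `LsB X XS o` (verbatim statement; the proof is `h88_ker_le_LsB_aux` of `Helper88_S94_KERaux`, fed with the landed
`stabB` (B_STEP), `GsB_eq` (B_NORM), `h9_wCalcS` (B_T1S file) and `torus_fixB_aux` (B_TL aux) with `t1S`, `HS_mem_LsB`,
`act_GsB`, `act_HDB`).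
-/

namespace Cfsg.Agent.Lib.Helper74_S94

open Cfsg.Agent.Lib.Helper5_SteinbergA Cfsg.Agent.Lib.Helper5_SLPresA Cfsg.Agent.Lib.Helper66_StCalc
  Cfsg.Agent.Lib.Helper66_S92 Cfsg.Agent.Lib.Helper66_S96

section field

variable {ι : Type*} [DecidableEq ι] {K : Type*} [Field K] {L : Type*} [Field L] [Algebra K L]
  {G : Type*} [Group G] {Q0 : QuadraticForm K L} {σ : L → L}
  {X : ι ⊕ ι → ι ⊕ ι → K → G} {XS : ι ⊕ ι → L → G}

theorem ker_le_LsB [Fintype ι] [Finite K] [Finite L] (h : BSt Q0 σ X XS) (hN : IsNrm Q0 σ)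
    (ρ : G →* Module.End K ((ι ⊕ ι → K) × L)) (hρ : IsActB Q0 X XS ρ)
    (hgen : Subgroup.closure ({g | ∃ a c t, g = X a c t} ∪ {g | ∃ a v, g = XS a v}) = ⊤)
    (h2 : 2 ≤ Fintype.card ι) (o : ι ⊕ ι) (g : G) (hg : ρ g = 1) : g ∈ LsB X XS o := by
  have hD : DSt X := { toDStAB := h.long, rank1 := h.rank1 }
  have C : WCalcD X := wCalcD_of_dSt hD
  have CS : WCalcS X XS := h9_wCalcS h.toBStAB hD
  exact h88_ker_le_LsB_aux h.toBStAB C CS ρ hρ o
    (fun g s hs hgs => stabB h.toBStAB hD C CS hN.aniso ρ hρ h2 hgen o g s hs hgs)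
    (fun ht hfix => torus_fixB_aux h ρ
      (fun o j h1 h2' s hs => t1S h hN o j h1 h2' s hs)
      (fun o a w ha ha' => HS_mem_LsB o a w ha ha')
      (fun o _ hgG => act_GsB ρ hρ o hgG)
      (fun a c h1 h2' s hs d => act_HDB ρ hρ a c h1 h2' s hs d) h2 o ht hfix)
    (fun hgG => GsB_eq h.toBStAB o hgG) g hg

end field

end Cfsg.Agent.Lib.Helper74_S94
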