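import Mathlib
import Cfsg.Agent.Lib.Helper7_S94_MAINaux
import Cfsg.Agent.Lib.Helper20_S94_BASE1
import Cfsg.Agent.Lib.Helper88_S94_KER

/-!
# s94 market (helper74), package B_MAIN (helper7): the presentation theorem `ker_cases_of_bSt`,
verbatim; assembly of `h7_ker_cases_aux` with B_BASE1 (`ker_cases_one`) and B_KER (`ker_le_LsB`).
-/

set_option autoImplicit false
set_option linter.unusedVariables false
set_option linter.unusedSectionVars false

namespace Cfsg.Agent.Lib.Helper74_S94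

open Cfsg.Agent.Lib.Helper5_SteinbergA Cfsg.Agent.Lib.Helper5_SLPresA Cfsg.Agent.Lib.Helper66_StCalc
  Cfsg.Agent.Lib.Helper66_S92 Cfsg.Agent.Lib.Helper66_S96

theorem ker_cases_of_bSt {K : Type*} [Field K] [Finite K] {L : Type*} [Field L] [Finite L]
    [Algebra K L] {ι : Type*} [Fintype ι] [DecidableEq ι] (h1 : 1 ≤ Fintype.card ι)
    {G : Type*} [Group G] {Q0 : QuadraticForm K L} {σ : L → L} (hN : IsNrm Q0 σ)
    {X : ι ⊕ ι → ι ⊕ ι → K → G} {XS : ι ⊕ ι → L → G} (h : BSt Q0 σ X XS)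
    (hgen : Subgroup.closure ({g | ∃ a c t, g = X a c t} ∪ {g | ∃ a v, g = XS a v}) = ⊤)
    (ρ : G →* Module.End K ((ι ⊕ ι → K) × L)) (hρ : IsActB Q0 X XS ρ) (g : G) (hg : ρ g = 1) :
    g = 1 ∨ ∃ a, g = zS σ XS a :=
  h7_ker_cases_aux K L Q0 σ hN
    (fun ι _ _ G _ X XS h hgen ρ hρ h1 g hg => ker_cases_one h hN hgen ρ hρ h1 g hg)
    (fun ι _ _ G _ X XS h ρ hρ hgen h2 o g hg => ker_le_LsB h hN ρ hρ hgen h2 o g hg)
    (Fintype.card ι) ι rfl h1 G X XS h hgen ρ hρ g hg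

end Cfsg.Agent.Lib.Helper74_S94
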