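import Mathlib
import Cfsg.Agent.Lib.Helper41_SLRDefs
import Cfsg.Agent.Lib.Helper43_PSLFBAL_SLGEN

/-!
# SLR market (sub-market of S4613 package PSL; sub-architect helper41): package GEN, core (helper7)

`sup_eq_top_of`: `Bsl ⊔ Nsl = ⊤` for `n ≥ 2`, with the statement of package OPP (`opp'`) as a
hypothesis.  `SL_n` is generated by the transvections `1 + c E_{ij}`
(`Helper43_PSLFBAL_SLGEN.sl_closure_transvections`); the upper ones (`i < j`) lie in `Bsl`; the
lower ones are treated by induction on `i - j`: for `i = j + 1` it is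
`ys j' c = ss j' * xs j' (-c) * (ss j')⁻¹`, and for `i > j + 1`, `k = j + 1`,
`1 + c E_{ij} = [1 + c E_{ik}, 1 + E_{kj}]`.
-/

set_option autoImplicit false
set_option linter.unusedSectionVars false
set_option linter.unusedVariables false

namespace Cfsg.Agent.Lib.Helper7_SLR_GENaux

open Matrix Cfsg.Agent.Lib.Helper68_MatGrp Cfsg.Agent.Lib.Helper41_SLRDefs

variable {n : ℕ} {F : Type*} [Field F]

/-- `(1 + c E_{ik}) (1 + E_{kj}) = (1 + c E_{ij}) (1 + E_{kj}) (1 + c E_{ik})` -/
theorem transvection_comm_identity {i k j : Fin n} (hik : i ≠ k) (hkj : k ≠ j) (hij : i ≠ j)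
    (c : F) :
    Matrix.SpecialLinearGroup.transvection hik c * Matrix.SpecialLinearGroup.transvection hkj 1 =
      Matrix.SpecialLinearGroup.transvection hij c * Matrix.SpecialLinearGroup.transvection hkj 1 *
        Matrix.SpecialLinearGroup.transvection hik c := by
  apply Subtype.ext
  simp only [Matrix.SpecialLinearGroup.coe_mul, Matrix.SpecialLinearGroup.transvection_coe,
    mul_add, add_mul, mul_one, one_mul, single_mul_single_same,
    single_mul_single_of_ne _ _ _ _ hkj.symm, single_mul_single_of_ne _ _ _ _ hij.symm, add_zero]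
  abel

/-- upper transvections are in `Bsl` -/
theorem transvection_mem_Bsl {i j : Fin n} (hij : i ≠ j) (h : i.val < j.val) (c : F) :
    Matrix.SpecialLinearGroup.transvection hij c ∈ Bsl n F := by
  rw [mem_Bsl]
  intro a b hab
  rw [Matrix.SpecialLinearGroup.transvection_coe, Matrix.add_apply, Matrix.one_apply_ne (by
    intro e; rw [e] at hab; exact lt_irrefl _ hab), zero_add, Matrix.single_apply, if_neg]
  rintro ⟨rfl, rfl⟩
  omega

theorem ss_mem_Nsl (j : Fin (n - 1)) :
    (ss j : Matrix.SpecialLinearGroup (Fin n) F) ∈ Nsl n F := by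
  unfold Nsl
  exact Subgroup.mem_sup_left (Subgroup.subset_closure ⟨j, rfl⟩)

/-- GEN with the statement of OPP (`opp'`) as a hypothesis -/
theorem sup_eq_top_of
    (hopp : ∀ (j : Fin (n - 1)) (t : F),
      (ss j : Matrix.SpecialLinearGroup (Fin n) F) * xs j t * (ss j)⁻¹ = ys j (-t))
    (hn : 2 ≤ n) : Bsl n F ⊔ Nsl n F = ⊤ := by
  -- distance one
  have h0 : ∀ (i j : Fin n) (hij : i ≠ j) (c : F), i.val = j.val + 1 →
      Matrix.SpecialLinearGroup.transvection hij c ∈ Bsl n F ⊔ Nsl n F := by
    intro i j hij c hd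
    have hjn : j.val < n - 1 := by have := i.2; omega
    have e : Matrix.SpecialLinearGroup.transvection hij c = ys (⟨j.val, hjn⟩ : Fin (n - 1)) c := by
      apply Subtype.ext
      rw [ys_val, Matrix.SpecialLinearGroup.transvection_coe]
      rw [show lo (⟨j.val, hjn⟩ : Fin (n - 1)) = j from Fin.ext rfl,
        show hi (⟨j.val, hjn⟩ : Fin (n - 1)) = i from Fin.ext (by rw [hd]; rfl)]
    rw [e, ← neg_neg c, ← hopp]
    refine Subgroup.mul_mem _ (Subgroup.mul_mem _ (Subgroup.mem_sup_right (ss_mem_Nsl _)) ?_)
      (Subgroup.inv_mem _ (Subgroup.mem_sup_right (ss_mem_Nsl _)))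
    apply Subgroup.mem_sup_left
    exact transvection_mem_Bsl _ (by simp) _
  -- larger distance
  have hd : ∀ (d : ℕ) (i j : Fin n) (hij : i ≠ j) (c : F), i.val = j.val + d + 1 →
      Matrix.SpecialLinearGroup.transvection hij c ∈ Bsl n F ⊔ Nsl n F := by
    intro d
    induction d with
    | zero =>
      intro i j hij c h
      exact h0 i j hij c h
    | succ d ih =>
      intro i j hij c h
      have hkn : j.val + 1 < n := by have := i.2; omega
      have hik : i ≠ (⟨j.val + 1, hkn⟩ : Fin n) := by
        intro e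
        have := congrArg Fin.val e
        simp at this
        omega
      have hkj : (⟨j.val + 1, hkn⟩ : Fin n) ≠ j := by
        intro e
        have := congrArg Fin.val e
        simp at this
      have key := transvection_comm_identity hik hkj hij c
      have e : Matrix.SpecialLinearGroup.transvection hij c =
          Matrix.SpecialLinearGroup.transvection hik c * Matrix.SpecialLinearGroup.transvection hkj 1 *
            (Matrix.SpecialLinearGroup.transvection hik c)⁻¹ *
            (Matrix.SpecialLinearGroup.transvection hkj 1)⁻¹ := by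
        rw [key]
        group
      rw [e]
      have m1 := ih i ⟨j.val + 1, hkn⟩ hik c (by simp; omega)
      have m2 := h0 ⟨j.val + 1, hkn⟩ j hkj 1 rfl
      exact Subgroup.mul_mem _ (Subgroup.mul_mem _ (Subgroup.mul_mem _ m1 m2)
        (Subgroup.inv_mem _ m1)) (Subgroup.inv_mem _ m2)
  rw [eq_top_iff, ← Cfsg.Agent.Lib.Helper43_PSLFBAL_SLGEN.sl_closure_transvections hn,
    Subgroup.closure_le]
  rintro A ⟨i, j, hij, c, rfl⟩
  rcases lt_trichotomy i.val j.val with h | h | h
  · exact Subgroup.mem_sup_left (transvection_mem_Bsl hij h c)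
  · exact absurd (Fin.ext h) hij
  · exact hd (i.val - j.val - 1) i j hij c (by omega)

end Cfsg.Agent.Lib.Helper7_SLR_GENaux
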