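import Mathlib
import Cfsg.Agent.Lib.Helper41_SLRDefs
import Cfsg.Agent.Lib.Helper26_SLR_OPP
import Cfsg.Agent.Lib.Helper7_SLR_GENaux

/-!
# SLR market (sub-market of S4613 package PSL; sub-architect helper41): package GEN (helper7)

`sup_eq_top`: `Bsl ⊔ Nsl = ⊤` for `n ≥ 2`: `Helper7_SLR_GENaux.sup_eq_top_of` applied to the landed
package OPP (`Helper26_SLR_OPP.opp'`).
-/

set_option autoImplicit false
set_option linter.unusedSectionVars false
set_option linter.unusedVariables false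

namespace Cfsg.Agent.Lib.Helper7_SLR_GEN

open Matrix Cfsg.Agent.Lib.Helper68_MatGrp Cfsg.Agent.Lib.Helper41_SLRDefs

variable {n : ℕ} {F : Type*} [Field F]

/-- **SLR-GEN** [M/L] `SL_n` is generated by the upper triangular group and `N`. -/
theorem sup_eq_top (hn : 2 ≤ n) : Bsl n F ⊔ Nsl n F = ⊤ :=
  Cfsg.Agent.Lib.Helper7_SLR_GENaux.sup_eq_top_of
    (fun j t => Cfsg.Agent.Lib.Helper26_SLR_OPP.opp' j t) hn

end Cfsg.Agent.Lib.Helper7_SLR_GEN
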