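/-
helper7: strongly regular graphs with parameters (77, 16, 0, 4), part a:
the positive semidefinite Gram form `22 I - 11 A + 2 J` (88 times the projection onto the
eigenspace of the eigenvalue `-6`) and its evaluation on indicator vectors of finite sets.
-/
import Mathlib

set_option autoImplicit false
set_option linter.unusedSectionVars false
set_option linter.unusedVariables false

namespace Cfsg.Agent.Lib.Helper7_SRG77a

open Finset Matrix

variable {V : Type*} [Fintype V] [DecidableEq V] (Γ : SimpleGraph V) [DecidableRel Γ.Adj]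

/-- the Gram function: `24` on the diagonal, `-9` on edges, `2` on non-edges -/
def gr (x y : V) : ℤ := if x = y then 24 else if Γ.Adj x y then -9 else 2

/-- the Gram matrix -/
def gm : Matrix V V ℤ := Matrix.of (gr Γ)

/-- the all-ones matrix -/
def allOne : Matrix V V ℤ := Matrix.of (fun _ _ => (1 : ℤ))

theorem gm_eq : gm Γ = (22 : ℤ) • (1 : Matrix V V ℤ) - (11 : ℤ) • Γ.adjMatrix ℤ
    + (2 : ℤ) • allOne := by
  ext x y
  simp only [gm, gr, allOne, Matrix.of_apply, Matrix.add_apply, Matrix.sub_apply,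
    Matrix.smul_apply, Matrix.one_apply, SimpleGraph.adjMatrix_apply, smul_eq_mul]
  by_cases hxy : x = y
  · subst hxy
    simp
  · by_cases ha : Γ.Adj x y
    · simp [hxy, ha]
    · simp [hxy, ha]

theorem gr_symm (x y : V) : gr Γ x y = gr Γ y x := by
  unfold gr
  by_cases hxy : x = y
  · subst hxy; rfl
  · rw [if_neg hxy, if_neg (Ne.symm hxy)]
    by_cases ha : Γ.Adj x y
    · rw [if_pos ha, if_pos ha.symm]
    · rw [if_neg ha, if_neg (fun h => ha h.symm)]

theorem gm_transpose : (gm Γ)ᵀ = gm Γ := by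
  ext x y
  simp only [gm, Matrix.transpose_apply, Matrix.of_apply]
  exact gr_symm Γ y x

variable {Γ}

theorem adj_sq (h : Γ.IsSRGWith 77 16 0 4) :
    Γ.adjMatrix ℤ * Γ.adjMatrix ℤ = (12 : ℤ) • (1 : Matrix V V ℤ) - (4 : ℤ) • Γ.adjMatrix ℤ
      + (4 : ℤ) • allOne := by
  have h1 := h.matrix_eq (α := ℤ)
  have h2 := SimpleGraph.one_add_adjMatrix_add_compl_adjMatrix_eq_of_one (G := Γ) (α := ℤ)
  rw [SimpleGraph.compl_adjMatrix_eq_adjMatrix_compl] at h2
  have h3 : Γᶜ.adjMatrix ℤ = allOne - 1 - Γ.adjMatrix ℤ := by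
    rw [allOne, show (Matrix.of (fun _ _ => (1 : ℤ)) : Matrix V V ℤ) = Matrix.of 1 from rfl, ← h2]
    abel
  rw [pow_two, h3] at h1
  rw [h1]
  ext x y
  simp only [Matrix.add_apply, Matrix.sub_apply, Matrix.smul_apply]
  simp only [smul_eq_mul, nsmul_eq_mul]
  push_cast
  ring

theorem adj_allOne (h : Γ.IsSRGWith 77 16 0 4) :
    Γ.adjMatrix ℤ * allOne = (16 : ℤ) • allOne := by
  ext x y
  rw [SimpleGraph.adjMatrix_mul_apply]
  simp only [allOne, Matrix.of_apply, Matrix.smul_apply, smul_eq_mul, mul_one, sum_const,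
    nsmul_eq_mul]
  rw [SimpleGraph.card_neighborFinset_eq_degree, h.regular x]
  norm_num

theorem allOne_adj (h : Γ.IsSRGWith 77 16 0 4) :
    allOne * Γ.adjMatrix ℤ = (16 : ℤ) • allOne := by
  ext x y
  rw [SimpleGraph.mul_adjMatrix_apply]
  simp only [allOne, Matrix.of_apply, Matrix.smul_apply, smul_eq_mul, mul_one, sum_const,
    nsmul_eq_mul]
  rw [SimpleGraph.card_neighborFinset_eq_degree, h.regular y]
  norm_num

theorem allOne_sq (h : Γ.IsSRGWith 77 16 0 4) :
    (allOne : Matrix V V ℤ) * allOne = (77 : ℤ) • allOne := by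
  ext x y
  rw [Matrix.mul_apply]
  simp only [allOne, Matrix.of_apply, Matrix.smul_apply, smul_eq_mul, mul_one, sum_const,
    nsmul_eq_mul, card_univ, h.card]
  norm_num

theorem gm_sq (h : Γ.IsSRGWith 77 16 0 4) : gm Γ * gm Γ = (88 : ℤ) • gm Γ := by
  rw [gm_eq]
  simp only [add_mul, mul_add, sub_mul, mul_sub, smul_mul_assoc, mul_smul_comm, one_mul, mul_one,
    adj_sq h, adj_allOne h, allOne_adj h, allOne_sq h, smul_add, smul_sub, smul_smul]
  ext x y
  simp only [Matrix.add_apply, Matrix.sub_apply, Matrix.smul_apply, smul_eq_mul]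
  ring

/-- the quadratic form -/
def qf (Γ : SimpleGraph V) [DecidableRel Γ.Adj] (f : V → ℤ) : ℤ :=
  ∑ x, ∑ y, f x * f y * gr Γ x y

theorem qf_eq (f : V → ℤ) : qf Γ f = f ⬝ᵥ (gm Γ *ᵥ f) := by
  unfold qf dotProduct mulVec dotProduct
  apply sum_congr rfl
  intro x _
  rw [mul_sum]
  apply sum_congr rfl
  intro y _
  simp only [gm, Matrix.of_apply]
  ring

theorem sq_eq (h : Γ.IsSRGWith 77 16 0 4) (f : V → ℤ) :
    (gm Γ *ᵥ f) ⬝ᵥ (gm Γ *ᵥ f) = 88 * qf Γ f := by
  rw [qf_eq, Matrix.dotProduct_mulVec, ← Matrix.mulVec_transpose, gm_transpose,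
    Matrix.mulVec_mulVec, gm_sq h, Matrix.smul_mulVec, smul_dotProduct, smul_eq_mul,
    dotProduct_comm]

theorem qf_nonneg (h : Γ.IsSRGWith 77 16 0 4) (f : V → ℤ) : 0 ≤ qf Γ f := by
  have h1 := sq_eq h f
  have h2 : 0 ≤ (gm Γ *ᵥ f) ⬝ᵥ (gm Γ *ᵥ f) := by
    unfold dotProduct
    exact sum_nonneg (fun i _ => mul_self_nonneg _)
  omega

theorem qf_null (h : Γ.IsSRGWith 77 16 0 4) (f : V → ℤ) (h0 : qf Γ f = 0) (y : V) :
    ∑ x, gr Γ y x * f x = 0 := by
  have h1 := sq_eq h f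
  rw [h0, mul_zero] at h1
  unfold dotProduct at h1
  have h2 := (sum_eq_zero_iff_of_nonneg (fun i _ => mul_self_nonneg _)).mp h1 y (mem_univ y)
  have h3 : (gm Γ *ᵥ f) y = 0 := mul_self_eq_zero.mp h2
  rw [← h3]
  unfold mulVec dotProduct
  apply sum_congr rfl
  intro x _
  simp only [gm, Matrix.of_apply]

/-- the Gram form on a vertex and a set -/
def gv (Γ : SimpleGraph V) [DecidableRel Γ.Adj] (y : V) (T : Finset V) : ℤ := ∑ t ∈ T, gr Γ y t

/-- the Gram form on two sets -/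
def gs (Γ : SimpleGraph V) [DecidableRel Γ.Adj] (S T : Finset V) : ℤ := ∑ x ∈ S, gv Γ x T

theorem gr_eq (x y : V) : gr Γ x y =
    22 * (if x = y then 1 else 0) - 11 * (if Γ.Adj x y then 1 else 0) + 2 := by
  unfold gr
  by_cases hxy : x = y
  · subst hxy
    simp
  · by_cases ha : Γ.Adj x y
    · simp [hxy, ha]
    · simp [hxy, ha]

theorem gv_eval (y : V) (T : Finset V) : gv Γ y T =
    22 * (if y ∈ T then 1 else 0) - 11 * ((T.filter (Γ.Adj y)).card : ℤ) + 2 * (T.card : ℤ) := by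
  unfold gv
  simp only [gr_eq, sum_add_distrib, sum_sub_distrib, ← mul_sum, sum_const, nsmul_eq_mul]
  rw [sum_ite_eq, sum_boole]
  ring

theorem gs_eval (S T : Finset V) : gs Γ S T = 22 * ((S ∩ T).card : ℤ)
    - 11 * ∑ x ∈ S, ((T.filter (Γ.Adj x)).card : ℤ) + 2 * (S.card : ℤ) * (T.card : ℤ) := by
  unfold gs
  simp only [gv_eval, sum_add_distrib, sum_sub_distrib, ← mul_sum, sum_const, nsmul_eq_mul]
  rw [sum_boole, filter_mem_eq_inter]
  ring

theorem gs_symm (S T : Finset V) : gs Γ S T = gs Γ T S := by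
  unfold gs gv
  rw [sum_comm]
  apply sum_congr rfl
  intro x _
  apply sum_congr rfl
  intro y _
  exact gr_symm Γ y x

/-- the weighted indicator vector of a family of sets -/
def ind {ι : Type*} [Fintype ι] (S : ι → Finset V) (w : ι → ℤ) (x : V) : ℤ :=
  ∑ i, if x ∈ S i then w i else 0

theorem qf_ind {ι : Type*} [Fintype ι] (S : ι → Finset V) (w : ι → ℤ) :
    qf Γ (ind S w) = ∑ i, ∑ j, w i * w j * gs Γ (S i) (S j) := by
  unfold qf ind
  have h1 : ∀ x y : V, (∑ i, if x ∈ S i then w i else 0) * (∑ j, if y ∈ S j then w j else 0)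
      * gr Γ x y = ∑ i, ∑ j, (if x ∈ S i then w i else 0) * (if y ∈ S j then w j else 0)
        * gr Γ x y := by
    intro x y
    rw [sum_mul_sum, sum_mul]
    apply sum_congr rfl
    intro i _
    rw [sum_mul]
  simp only [h1]
  rw [sum_congr rfl (fun x _ => sum_comm)]
  rw [sum_comm]
  apply sum_congr rfl
  intro i _
  rw [sum_congr rfl (fun x _ => sum_comm)]
  rw [sum_comm]
  apply sum_congr rfl
  intro j _
  unfold gs gv
  rw [mul_sum]
  have h2 : ∀ x : V, ∑ y, (if x ∈ S i then w i else 0) * (if y ∈ S j then w j else 0) * gr Γ x y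
      = if x ∈ S i then w i * w j * ∑ y ∈ S j, gr Γ x y else 0 := by
    intro x
    by_cases hx : x ∈ S i
    · rw [if_pos hx, if_pos hx, mul_sum]
      have h3 : ∀ y : V, w i * (if y ∈ S j then w j else 0) * gr Γ x y =
          if y ∈ S j then w i * w j * gr Γ x y else 0 := by
        intro y
        by_cases hy : y ∈ S j
        · rw [if_pos hy, if_pos hy]
        · rw [if_neg hy, if_neg hy]; ring
      simp only [h3]
      rw [sum_ite_mem, univ_inter]
    · rw [if_neg hx, if_neg hx]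
      simp
  simp only [h2]
  rw [sum_ite_mem, univ_inter]

theorem null_ind {ι : Type*} [Fintype ι] (S : ι → Finset V) (w : ι → ℤ) (y : V) :
    ∑ x, gr Γ y x * ind S w x = ∑ i, w i * gv Γ y (S i) := by
  unfold ind gv
  simp only [mul_sum]
  rw [sum_comm]
  apply sum_congr rfl
  intro i _
  have h3 : ∀ x : V, gr Γ y x * (if x ∈ S i then w i else 0) =
      if x ∈ S i then w i * gr Γ y x else 0 := by
    intro x
    by_cases hx : x ∈ S i
    · rw [if_pos hx, if_pos hx]; ring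
    · rw [if_neg hx, if_neg hx]; ring
  simp only [h3]
  rw [sum_ite_mem, univ_inter]

/-- positivity for weighted families of sets -/
theorem fam_nonneg (h : Γ.IsSRGWith 77 16 0 4) {ι : Type*} [Fintype ι] (S : ι → Finset V)
    (w : ι → ℤ) : 0 ≤ ∑ i, ∑ j, w i * w j * gs Γ (S i) (S j) := by
  rw [← qf_ind]
  exact qf_nonneg h _

/-- null families: if the form vanishes then the family is orthogonal to every vertex -/
theorem fam_null (h : Γ.IsSRGWith 77 16 0 4) {ι : Type*} [Fintype ι] (S : ι → Finset V)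
    (w : ι → ℤ) (h0 : ∑ i, ∑ j, w i * w j * gs Γ (S i) (S j) = 0) (y : V) :
    ∑ i, w i * gv Γ y (S i) = 0 := by
  rw [← null_ind]
  apply qf_null h
  rw [qf_ind]
  exact h0

/-- positivity for four weighted sets -/
theorem four_nonneg (h : Γ.IsSRGWith 77 16 0 4) (S0 S1 S2 S3 : Finset V) (w0 w1 w2 w3 : ℤ) :
    0 ≤ w0 * w0 * gs Γ S0 S0 + w1 * w1 * gs Γ S1 S1 + w2 * w2 * gs Γ S2 S2
      + w3 * w3 * gs Γ S3 S3 + 2 * (w0 * w1 * gs Γ S0 S1 + w0 * w2 * gs Γ S0 S2
      + w0 * w3 * gs Γ S0 S3 + w1 * w2 * gs Γ S1 S2 + w1 * w3 * gs Γ S1 S3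
      + w2 * w3 * gs Γ S2 S3) := by
  have h1 := fam_nonneg h ![S0, S1, S2, S3] ![w0, w1, w2, w3]
  simp only [Fin.sum_univ_four, Matrix.cons_val_zero, Matrix.cons_val_one, Matrix.cons_val_two,
    Matrix.cons_val_three, Matrix.head_cons, Matrix.tail_cons] at h1
  rw [gs_symm S1 S0, gs_symm S2 S0, gs_symm S3 S0, gs_symm S2 S1, gs_symm S3 S1,
    gs_symm S3 S2] at h1
  linarith

/-- null vectors for four weighted sets -/
theorem four_null (h : Γ.IsSRGWith 77 16 0 4) (S0 S1 S2 S3 : Finset V) (w0 w1 w2 w3 : ℤ)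
    (h0 : w0 * w0 * gs Γ S0 S0 + w1 * w1 * gs Γ S1 S1 + w2 * w2 * gs Γ S2 S2
      + w3 * w3 * gs Γ S3 S3 + 2 * (w0 * w1 * gs Γ S0 S1 + w0 * w2 * gs Γ S0 S2
      + w0 * w3 * gs Γ S0 S3 + w1 * w2 * gs Γ S1 S2 + w1 * w3 * gs Γ S1 S3
      + w2 * w3 * gs Γ S2 S3) = 0) (y : V) :
    w0 * gv Γ y S0 + w1 * gv Γ y S1 + w2 * gv Γ y S2 + w3 * gv Γ y S3 = 0 := by
  have h1 := fam_null h ![S0, S1, S2, S3] ![w0, w1, w2, w3] ?_ y
  · simp only [Fin.sum_univ_four, Matrix.cons_val_zero, Matrix.cons_val_one, Matrix.cons_val_two,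
      Matrix.cons_val_three, Matrix.head_cons, Matrix.tail_cons] at h1
    linarith
  · simp only [Fin.sum_univ_four, Matrix.cons_val_zero, Matrix.cons_val_one, Matrix.cons_val_two,
      Matrix.cons_val_three, Matrix.head_cons, Matrix.tail_cons]
    rw [gs_symm S1 S0, gs_symm S2 S0, gs_symm S3 S0, gs_symm S2 S1, gs_symm S3 S1,
      gs_symm S3 S2]
    linarith

end Cfsg.Agent.Lib.Helper7_SRG77a
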