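/-
helper7: strongly regular graphs with parameters (77, 16, 0, 4), part b:
three pairwise non-adjacent vertices have at most two common neighbours, and the counts of the
vertices `z` far from a non-adjacent pair `x, y` by the number of common neighbours of `x, y, z`.
-/
import Mathlib
import Cfsg.Agent.Lib.Helper7_SRG77a

set_option autoImplicit false
set_option linter.unusedSectionVars false
set_option linter.unusedVariables false

namespace Cfsg.Agent.Lib.Helper7_SRG77b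

open Finset Cfsg.Agent.Lib.Helper7_SRG77a

variable {V : Type*} [Fintype V] [DecidableEq V] (Γ : SimpleGraph V) [DecidableRel Γ.Adj]

/-- the parameters (77, 16, 0, 4), in a form convenient for counting -/
structure Is77 : Prop where
  srg : Γ.IsSRGWith 77 16 0 4
  card : Fintype.card V = 77
  deg : ∀ x, (Γ.neighborFinset x).card = 16
  tri : ∀ x y z, Γ.Adj x y → Γ.Adj x z → ¬ Γ.Adj y z
  mu : ∀ x y, x ≠ y → ¬ Γ.Adj x y → (Γ.neighborFinset x ∩ Γ.neighborFinset y).card = 4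

theorem is77_of_srg (h : Γ.IsSRGWith 77 16 0 4) : Is77 Γ := by
  have hcn : ∀ x y, Fintype.card ↑(Γ.commonNeighbors x y) =
      (Γ.neighborFinset x ∩ Γ.neighborFinset y).card := by
    intro x y
    apply Fintype.card_of_subtype
    intro z
    rw [Finset.mem_inter, SimpleGraph.mem_neighborFinset, SimpleGraph.mem_neighborFinset]
    exact (SimpleGraph.mem_commonNeighbors Γ).symm
  refine ⟨h, h.card, ?_, ?_, ?_⟩
  · intro x
    rw [SimpleGraph.card_neighborFinset_eq_degree]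
    exact h.regular x
  · intro x y z hxy hxz hyz
    have h0 := h.of_adj y z hyz
    rw [hcn, Finset.card_eq_zero] at h0
    have : x ∈ Γ.neighborFinset y ∩ Γ.neighborFinset z := by
      rw [Finset.mem_inter, SimpleGraph.mem_neighborFinset, SimpleGraph.mem_neighborFinset]
      exact ⟨hxy.symm, hxz.symm⟩
    rw [h0] at this
    exact Finset.notMem_empty _ this
  · intro x y hxy hadj
    rw [← hcn]
    exact h.of_not_adj hxy hadj

/-- neighbourhood -/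
abbrev nb (x : V) : Finset V := Γ.neighborFinset x

variable {Γ}

theorem mem_nb {x y : V} : y ∈ nb Γ x ↔ Γ.Adj x y := SimpleGraph.mem_neighborFinset Γ x y

theorem filter_adj (T : Finset V) (u : V) : T.filter (Γ.Adj u) = T ∩ nb Γ u := by
  ext w
  rw [mem_filter, mem_inter, mem_nb]

theorem gv_of_notMem {u : V} {T : Finset V} (hu : u ∉ T) :
    gv Γ u T = 2 * (T.card : ℤ) - 11 * ((T ∩ nb Γ u).card : ℤ) := by
  rw [gv_eval, if_neg hu, filter_adj]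
  ring

theorem gs_of_noedge {S T : Finset V} (hST : ∀ x ∈ S, ∀ y ∈ T, ¬ Γ.Adj x y) :
    gs Γ S T = 22 * ((S ∩ T).card : ℤ) + 2 * (S.card : ℤ) * (T.card : ℤ) := by
  rw [gs_eval]
  have : ∑ x ∈ S, ((T.filter (Γ.Adj x)).card : ℤ) = 0 := by
    apply sum_eq_zero
    intro x hx
    rw [Nat.cast_eq_zero, card_eq_zero, filter_eq_empty_iff]
    intro y hy
    exact hST x hx y hy
  rw [this]
  ring

theorem gs_singleton (a : V) (T : Finset V) : gs Γ {a} T = gv Γ a T := by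
  unfold gs
  rw [sum_singleton]

theorem gv_singleton (a b : V) : gv Γ a {b} = gr Γ a b := by
  unfold gv
  rw [sum_singleton]

theorem self_notMem_nb (x : V) : x ∉ nb Γ x := by
  rw [mem_nb]
  exact Γ.loopless.irrefl x

theorem gs_sub_nb (h : Is77 Γ) {S T : Finset V} {u : V} (hS : S ⊆ nb Γ u) (hT : T ⊆ nb Γ u) :
    gs Γ S T = 22 * ((S ∩ T).card : ℤ) + 2 * (S.card : ℤ) * (T.card : ℤ) := by
  apply gs_of_noedge
  intro a ha b hb
  exact h.tri u a b (mem_nb.mp (hS ha)) (mem_nb.mp (hT hb))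

theorem gv_cn (h : Is77 Γ) {a b u : V} (hab : a ≠ b) (nab : ¬ Γ.Adj a b)
    (hu : u ∉ nb Γ a ∩ nb Γ b) :
    gv Γ u (nb Γ a ∩ nb Γ b) = 8 - 11 * ((nb Γ a ∩ nb Γ b ∩ nb Γ u).card : ℤ) := by
  rw [gv_of_notMem hu, h.mu a b hab nab]
  norm_num

theorem gv_cn_left (h : Is77 Γ) {a b : V} (hab : a ≠ b) (nab : ¬ Γ.Adj a b) :
    gv Γ a (nb Γ a ∩ nb Γ b) = -36 := by
  rw [gv_cn h hab nab (fun hh => self_notMem_nb a (mem_inter.mp hh).1),
    inter_eq_left.mpr inter_subset_left, h.mu a b hab nab]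
  norm_num

theorem gv_cn_right (h : Is77 Γ) {a b : V} (hab : a ≠ b) (nab : ¬ Γ.Adj a b) :
    gv Γ b (nb Γ a ∩ nb Γ b) = -36 := by
  rw [gv_cn h hab nab (fun hh => self_notMem_nb b (mem_inter.mp hh).2),
    inter_eq_left.mpr inter_subset_right, h.mu a b hab nab]
  norm_num

/-- three pairwise non-adjacent vertices have at most two common neighbours -/
theorem j3_le_two (h : Is77 Γ) {x y z : V} (hxy : x ≠ y) (hxz : x ≠ z) (hyz : y ≠ z)
    (nxy : ¬ Γ.Adj x y) (nxz : ¬ Γ.Adj x z) (nyz : ¬ Γ.Adj y z) :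
    (nb Γ x ∩ nb Γ y ∩ nb Γ z).card ≤ 2 := by
  have nyx : ¬ Γ.Adj y x := fun hh => nxy hh.symm
  have nzx : ¬ Γ.Adj z x := fun hh => nxz hh.symm
  have nzy : ¬ Γ.Adj z y := fun hh => nyz hh.symm
  have c1 : (nb Γ y ∩ nb Γ z).card = 4 := h.mu y z hyz nyz
  have c2 : (nb Γ x ∩ nb Γ z).card = 4 := h.mu x z hxz nxz
  have c3 : (nb Γ x ∩ nb Γ y).card = 4 := h.mu x y hxy nxy
  have e1 : nb Γ y ∩ nb Γ z ∩ nb Γ x = nb Γ x ∩ nb Γ y ∩ nb Γ z := by
    ext w; simp only [mem_inter]; tauto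
  have e2 : nb Γ x ∩ nb Γ z ∩ nb Γ y = nb Γ x ∩ nb Γ y ∩ nb Γ z := by
    ext w; simp only [mem_inter]; tauto
  have cX : ({x, y, z} : Finset V).card = 3 := by
    rw [card_insert_of_notMem, card_insert_of_notMem, card_singleton]
    · simpa using hyz
    · simp [hxy, hxz]
  have gXX : gs Γ ({x, y, z} : Finset V) {x, y, z} = 84 := by
    rw [gs_of_noedge, inter_self, cX]
    · norm_num
    · intro a ha b hb
      simp only [mem_insert, mem_singleton] at ha hb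
      rcases ha with rfl | rfl | rfl <;> rcases hb with rfl | rfl | rfl <;>
        first | exact Γ.loopless.irrefl _ | assumption
  have hsum : ∀ T : Finset V, gs Γ ({x, y, z} : Finset V) T = gv Γ x T + gv Γ y T + gv Γ z T := by
    intro T
    unfold gs
    rw [sum_insert, sum_insert, sum_singleton]
    · ring
    · simpa using hyz
    · simp [hxy, hxz]
  have gX1 : gs Γ ({x, y, z} : Finset V) (nb Γ y ∩ nb Γ z) =
      -64 - 11 * ((nb Γ x ∩ nb Γ y ∩ nb Γ z).card : ℤ) := by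
    rw [hsum, gv_cn_left h hyz nyz, gv_cn_right h hyz nyz, gv_cn h hyz nyz, e1]
    · ring
    · intro hh
      exact nyx (mem_nb.mp (mem_inter.mp hh).1)
  have gX2 : gs Γ ({x, y, z} : Finset V) (nb Γ x ∩ nb Γ z) =
      -64 - 11 * ((nb Γ x ∩ nb Γ y ∩ nb Γ z).card : ℤ) := by
    rw [hsum, gv_cn_left h hxz nxz, gv_cn_right h hxz nxz, gv_cn h hxz nxz, e2]
    · ring
    · intro hh
      exact nxy (mem_nb.mp (mem_inter.mp hh).1)
  have gX3 : gs Γ ({x, y, z} : Finset V) (nb Γ x ∩ nb Γ y) =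
      -64 - 11 * ((nb Γ x ∩ nb Γ y ∩ nb Γ z).card : ℤ) := by
    rw [hsum, gv_cn_left h hxy nxy, gv_cn_right h hxy nxy, gv_cn h hxy nxy]
    · ring
    · intro hh
      exact nxz (mem_nb.mp (mem_inter.mp hh).1)
  have g11 : gs Γ (nb Γ y ∩ nb Γ z) (nb Γ y ∩ nb Γ z) = 120 := by
    rw [gs_sub_nb h (u := y) inter_subset_left inter_subset_left, inter_self, c1]
    norm_num
  have g22 : gs Γ (nb Γ x ∩ nb Γ z) (nb Γ x ∩ nb Γ z) = 120 := by
    rw [gs_sub_nb h (u := x) inter_subset_left inter_subset_left, inter_self, c2]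
    norm_num
  have g33 : gs Γ (nb Γ x ∩ nb Γ y) (nb Γ x ∩ nb Γ y) = 120 := by
    rw [gs_sub_nb h (u := x) inter_subset_left inter_subset_left, inter_self, c3]
    norm_num
  have g12 : gs Γ (nb Γ y ∩ nb Γ z) (nb Γ x ∩ nb Γ z) =
      32 + 22 * ((nb Γ x ∩ nb Γ y ∩ nb Γ z).card : ℤ) := by
    rw [gs_sub_nb h (u := z) inter_subset_right inter_subset_right, c1, c2]
    have : nb Γ y ∩ nb Γ z ∩ (nb Γ x ∩ nb Γ z) = nb Γ x ∩ nb Γ y ∩ nb Γ z := by
      ext w; simp only [mem_inter]; tauto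
    rw [this]
    ring
  have g13 : gs Γ (nb Γ y ∩ nb Γ z) (nb Γ x ∩ nb Γ y) =
      32 + 22 * ((nb Γ x ∩ nb Γ y ∩ nb Γ z).card : ℤ) := by
    rw [gs_sub_nb h (u := y) inter_subset_left inter_subset_right, c1, c3]
    have : nb Γ y ∩ nb Γ z ∩ (nb Γ x ∩ nb Γ y) = nb Γ x ∩ nb Γ y ∩ nb Γ z := by
      ext w; simp only [mem_inter]; tauto
    rw [this]
    ring
  have g23 : gs Γ (nb Γ x ∩ nb Γ z) (nb Γ x ∩ nb Γ y) =
      32 + 22 * ((nb Γ x ∩ nb Γ y ∩ nb Γ z).card : ℤ) := by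
    rw [gs_sub_nb h (u := x) inter_subset_left inter_subset_left, c2, c3]
    have : nb Γ x ∩ nb Γ z ∩ (nb Γ x ∩ nb Γ y) = nb Γ x ∩ nb Γ y ∩ nb Γ z := by
      ext w; simp only [mem_inter]; tauto
    rw [this]
    ring
  have key := four_nonneg h.srg ({x, y, z} : Finset V) (nb Γ y ∩ nb Γ z) (nb Γ x ∩ nb Γ z)
    (nb Γ x ∩ nb Γ y) 3 1 1 1
  rw [gXX, gX1, gX2, gX3, g11, g22, g33, g12, g13, g23] at key
  omega

/-- the vertices other than `x`, `y` and adjacent to neither -/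
def far2 (Γ : SimpleGraph V) [DecidableRel Γ.Adj] (x y : V) : Finset V :=
  univ.filter (fun z => z ≠ x ∧ z ≠ y ∧ ¬ Γ.Adj x z ∧ ¬ Γ.Adj y z)

theorem mem_far2 {x y z : V} :
    z ∈ far2 Γ x y ↔ z ≠ x ∧ z ≠ y ∧ ¬ Γ.Adj x z ∧ ¬ Γ.Adj y z := by
  rw [far2, mem_filter]
  simp

theorem card_far2 (h : Is77 Γ) {x y : V} (hxy : x ≠ y) (nxy : ¬ Γ.Adj x y) :
    (far2 Γ x y).card = 47 := by
  have h1 : far2 Γ x y = (insert x (insert y (nb Γ x ∪ nb Γ y)))ᶜ := by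
    ext z
    rw [mem_far2, mem_compl, mem_insert, mem_insert, mem_union, mem_nb, mem_nb]
    tauto
  have h2 : (nb Γ x ∪ nb Γ y).card = 28 := by
    have := card_union_add_card_inter (nb Γ x) (nb Γ y)
    rw [h.deg, h.deg, h.mu x y hxy nxy] at this
    omega
  have h3 : (insert y (nb Γ x ∪ nb Γ y)).card = 29 := by
    rw [card_insert_of_notMem, h2]
    rw [mem_union, mem_nb, mem_nb]
    rintro (hh | hh)
    · exact nxy hh
    · exact Γ.loopless.irrefl y hh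
  have h4 : (insert x (insert y (nb Γ x ∪ nb Γ y))).card = 30 := by
    rw [card_insert_of_notMem, h3]
    rw [mem_insert, mem_union, mem_nb, mem_nb]
    rintro (hh | hh | hh)
    · exact hxy hh
    · exact Γ.loopless.irrefl x hh
    · exact nxy hh.symm
  rw [h1, card_compl, h.card, h4]

theorem card_above_one (h : Is77 Γ) {x y c : V} (hxy : x ≠ y) (nxy : ¬ Γ.Adj x y)
    (hc : c ∈ nb Γ x ∩ nb Γ y) : ((far2 Γ x y).filter (fun z => c ∈ nb Γ z)).card = 14 := by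
  rw [mem_inter, mem_nb, mem_nb] at hc
  have h1 : (far2 Γ x y).filter (fun z => c ∈ nb Γ z) = ((nb Γ c).erase x).erase y := by
    ext z
    rw [mem_filter, mem_far2, mem_erase, mem_erase, mem_nb, mem_nb]
    constructor
    · rintro ⟨⟨h1, h2, h3, h4⟩, h5⟩
      exact ⟨h2, h1, h5.symm⟩
    · rintro ⟨h1, h2, h3⟩
      refine ⟨⟨h2, h1, ?_, ?_⟩, h3.symm⟩
      · exact fun hh => h.tri x c z hc.1 hh h3
      · exact fun hh => h.tri y c z hc.2 hh h3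
  rw [h1, card_erase_of_mem, card_erase_of_mem, h.deg]
  · rw [mem_nb]
    exact hc.1.symm
  · rw [mem_erase, mem_nb]
    exact ⟨hxy.symm, hc.2.symm⟩

theorem card_above_two (h : Is77 Γ) {x y c c' : V} (hxy : x ≠ y) (nxy : ¬ Γ.Adj x y)
    (hc : c ∈ nb Γ x ∩ nb Γ y) (hc' : c' ∈ nb Γ x ∩ nb Γ y) (hne : c ≠ c') :
    ((far2 Γ x y).filter (fun z => c ∈ nb Γ z ∧ c' ∈ nb Γ z)).card = 2 := by
  rw [mem_inter, mem_nb, mem_nb] at hc hc'
  have hnadj : ¬ Γ.Adj c c' := h.tri x c c' hc.1 hc'.1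
  have h1 : (far2 Γ x y).filter (fun z => c ∈ nb Γ z ∧ c' ∈ nb Γ z) =
      ((nb Γ c ∩ nb Γ c').erase x).erase y := by
    ext z
    rw [mem_filter, mem_far2, mem_erase, mem_erase, mem_inter, mem_nb, mem_nb, mem_nb, mem_nb]
    constructor
    · rintro ⟨⟨h1, h2, h3, h4⟩, h5, h6⟩
      exact ⟨h2, h1, h5.symm, h6.symm⟩
    · rintro ⟨h1, h2, h3, h4⟩
      refine ⟨⟨h2, h1, ?_, ?_⟩, h3.symm, h4.symm⟩
      · exact fun hh => h.tri x c z hc.1 hh h3
      · exact fun hh => h.tri y c z hc.2 hh h3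
  rw [h1, card_erase_of_mem, card_erase_of_mem, h.mu c c' hne hnadj]
  · rw [mem_inter, mem_nb, mem_nb]
    exact ⟨hc.1.symm, hc'.1.symm⟩
  · rw [mem_erase, mem_inter, mem_nb, mem_nb]
    exact ⟨hxy.symm, hc.2.symm, hc'.2.symm⟩

theorem sum_inter (h : Is77 Γ) {x y : V} (hxy : x ≠ y) (nxy : ¬ Γ.Adj x y) :
    ∑ z ∈ far2 Γ x y, (nb Γ x ∩ nb Γ y ∩ nb Γ z).card = 56 := by
  have h1 := sum_card_bipartiteAbove_eq_sum_card_bipartiteBelow
    (fun (z : V) (c : V) => c ∈ nb Γ z) (s := far2 Γ x y) (t := nb Γ x ∩ nb Γ y)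
  have h2 : ∀ z ∈ far2 Γ x y,
      (bipartiteAbove (fun (z : V) (c : V) => c ∈ nb Γ z) (nb Γ x ∩ nb Γ y) z).card =
        (nb Γ x ∩ nb Γ y ∩ nb Γ z).card := by
    intro z _
    rw [bipartiteAbove, filter_mem_eq_inter]
  have h3 : ∀ c ∈ nb Γ x ∩ nb Γ y,
      (bipartiteBelow (fun (z : V) (c : V) => c ∈ nb Γ z) (far2 Γ x y) c).card = 14 := by
    intro c hc
    rw [← card_above_one h hxy nxy hc]
    rfl
  rw [sum_congr rfl h2, sum_congr rfl h3, sum_const, h.mu x y hxy nxy] at h1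
  exact h1

theorem sum_offDiag (h : Is77 Γ) {x y : V} (hxy : x ≠ y) (nxy : ¬ Γ.Adj x y) :
    ∑ z ∈ far2 Γ x y, (nb Γ x ∩ nb Γ y ∩ nb Γ z).offDiag.card = 24 := by
  have h1 := sum_card_bipartiteAbove_eq_sum_card_bipartiteBelow
    (fun (z : V) (cc : V × V) => cc.1 ∈ nb Γ z ∧ cc.2 ∈ nb Γ z)
    (s := far2 Γ x y) (t := (nb Γ x ∩ nb Γ y).offDiag)
  have h2 : ∀ z ∈ far2 Γ x y,
      (bipartiteAbove (fun (z : V) (cc : V × V) => cc.1 ∈ nb Γ z ∧ cc.2 ∈ nb Γ z)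
        (nb Γ x ∩ nb Γ y).offDiag z).card = (nb Γ x ∩ nb Γ y ∩ nb Γ z).offDiag.card := by
    intro z _
    congr 1
    ext cc
    simp only [mem_bipartiteAbove, mem_offDiag, mem_inter]
    tauto
  have h3 : ∀ cc ∈ (nb Γ x ∩ nb Γ y).offDiag,
      (bipartiteBelow (fun (z : V) (cc : V × V) => cc.1 ∈ nb Γ z ∧ cc.2 ∈ nb Γ z)
        (far2 Γ x y) cc).card = 2 := by
    intro cc hcc
    rw [mem_offDiag] at hcc
    rw [← card_above_two h hxy nxy hcc.1 hcc.2.1 hcc.2.2]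
    rfl
  rw [sum_congr rfl h2, sum_congr rfl h3, sum_const, offDiag_card, h.mu x y hxy nxy] at h1
  exact h1

theorem j3_le_two' (h : Is77 Γ) {x y z : V} (hxy : x ≠ y) (nxy : ¬ Γ.Adj x y)
    (hz : z ∈ far2 Γ x y) : (nb Γ x ∩ nb Γ y ∩ nb Γ z).card ≤ 2 := by
  rw [mem_far2] at hz
  exact j3_le_two h hxy (Ne.symm hz.1) (Ne.symm hz.2.1) nxy hz.2.2.1 hz.2.2.2

/-- exactly three far vertices have no common neighbour with `x` and `y` -/
theorem card_j3_zero (h : Is77 Γ) {x y : V} (hxy : x ≠ y) (nxy : ¬ Γ.Adj x y) :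
    ((far2 Γ x y).filter (fun z => (nb Γ x ∩ nb Γ y ∩ nb Γ z).card = 0)).card = 3 := by
  have e1 := sum_inter h hxy nxy
  have e2 := sum_offDiag h hxy nxy
  have e3 := card_far2 h hxy nxy
  have c1 : ∑ z ∈ far2 Γ x y, ((nb Γ x ∩ nb Γ y ∩ nb Γ z).card : ℤ) = 56 := by
    exact_mod_cast e1
  have c2 : ∑ z ∈ far2 Γ x y, (((nb Γ x ∩ nb Γ y ∩ nb Γ z).card : ℤ) *
      ((nb Γ x ∩ nb Γ y ∩ nb Γ z).card : ℤ) - ((nb Γ x ∩ nb Γ y ∩ nb Γ z).card : ℤ)) = 24 := by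
    have : ∀ z ∈ far2 Γ x y, (((nb Γ x ∩ nb Γ y ∩ nb Γ z).card : ℤ) *
        ((nb Γ x ∩ nb Γ y ∩ nb Γ z).card : ℤ) - ((nb Γ x ∩ nb Γ y ∩ nb Γ z).card : ℤ)) =
        (((nb Γ x ∩ nb Γ y ∩ nb Γ z).offDiag.card : ℕ) : ℤ) := by
      intro z _
      rw [offDiag_card, Nat.cast_sub (Nat.le_mul_self _), Nat.cast_mul]
    rw [sum_congr rfl this]
    exact_mod_cast e2
  have c3 : ∀ z ∈ far2 Γ x y,
      (if (nb Γ x ∩ nb Γ y ∩ nb Γ z).card = 0 then (2 : ℤ) else 0) =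
        (((nb Γ x ∩ nb Γ y ∩ nb Γ z).card : ℤ) * ((nb Γ x ∩ nb Γ y ∩ nb Γ z).card : ℤ) -
          ((nb Γ x ∩ nb Γ y ∩ nb Γ z).card : ℤ)) - 2 * ((nb Γ x ∩ nb Γ y ∩ nb Γ z).card : ℤ)
          + 2 := by
    intro z hz
    have := j3_le_two' h hxy nxy hz
    generalize (nb Γ x ∩ nb Γ y ∩ nb Γ z).card = j at this ⊢
    interval_cases j <;> simp
  have c4 : ∑ z ∈ far2 Γ x y,
      (if (nb Γ x ∩ nb Γ y ∩ nb Γ z).card = 0 then (2 : ℤ) else 0) = 6 := by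
    rw [sum_congr rfl c3, sum_add_distrib, sum_sub_distrib, ← mul_sum, c1, c2, sum_const, e3]
    norm_num
  rw [← sum_filter, sum_const, nsmul_eq_mul] at c4
  have : (((far2 Γ x y).filter (fun z => (nb Γ x ∩ nb Γ y ∩ nb Γ z).card = 0)).card : ℤ) = 3 := by
    linarith
  exact_mod_cast this

/-- exactly 32 far vertices have one common neighbour with `x` and `y` -/
theorem card_j3_one (h : Is77 Γ) {x y : V} (hxy : x ≠ y) (nxy : ¬ Γ.Adj x y) :
    ((far2 Γ x y).filter (fun z => (nb Γ x ∩ nb Γ y ∩ nb Γ z).card = 1)).card = 32 := by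
  have e1 := sum_inter h hxy nxy
  have e2 := sum_offDiag h hxy nxy
  have e3 := card_far2 h hxy nxy
  have c1 : ∑ z ∈ far2 Γ x y, ((nb Γ x ∩ nb Γ y ∩ nb Γ z).card : ℤ) = 56 := by
    exact_mod_cast e1
  have c2 : ∑ z ∈ far2 Γ x y, (((nb Γ x ∩ nb Γ y ∩ nb Γ z).card : ℤ) *
      ((nb Γ x ∩ nb Γ y ∩ nb Γ z).card : ℤ) - ((nb Γ x ∩ nb Γ y ∩ nb Γ z).card : ℤ)) = 24 := by
    have : ∀ z ∈ far2 Γ x y, (((nb Γ x ∩ nb Γ y ∩ nb Γ z).card : ℤ) *
        ((nb Γ x ∩ nb Γ y ∩ nb Γ z).card : ℤ) - ((nb Γ x ∩ nb Γ y ∩ nb Γ z).card : ℤ)) =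
        (((nb Γ x ∩ nb Γ y ∩ nb Γ z).offDiag.card : ℕ) : ℤ) := by
      intro z _
      rw [offDiag_card, Nat.cast_sub (Nat.le_mul_self _), Nat.cast_mul]
    rw [sum_congr rfl this]
    exact_mod_cast e2
  have c3 : ∀ z ∈ far2 Γ x y,
      (if (nb Γ x ∩ nb Γ y ∩ nb Γ z).card = 1 then (1 : ℤ) else 0) =
        ((nb Γ x ∩ nb Γ y ∩ nb Γ z).card : ℤ) -
        (((nb Γ x ∩ nb Γ y ∩ nb Γ z).card : ℤ) * ((nb Γ x ∩ nb Γ y ∩ nb Γ z).card : ℤ) -
          ((nb Γ x ∩ nb Γ y ∩ nb Γ z).card : ℤ)) := by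
    intro z hz
    have := j3_le_two' h hxy nxy hz
    generalize (nb Γ x ∩ nb Γ y ∩ nb Γ z).card = j at this ⊢
    interval_cases j <;> simp
  have c4 : ∑ z ∈ far2 Γ x y,
      (if (nb Γ x ∩ nb Γ y ∩ nb Γ z).card = 1 then (1 : ℤ) else 0) = 32 := by
    rw [sum_congr rfl c3, sum_sub_distrib, c1, c2]
    norm_num
  rw [← sum_filter, sum_const, nsmul_eq_mul, mul_one] at c4
  exact_mod_cast c4

end Cfsg.Agent.Lib.Helper7_SRG77b
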