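/-
helper7: strongly regular graphs with parameters (77, 16, 0, 4), part c:
collinear triples (three pairwise non-adjacent vertices without a common neighbour), the null
vector attached to a collinear triple, and its consequences.
-/
import Mathlib
import Cfsg.Agent.Lib.Helper7_SRG77a
import Cfsg.Agent.Lib.Helper7_SRG77b

set_option autoImplicit false
set_option linter.unusedSectionVars false
set_option linter.unusedVariables false

namespace Cfsg.Agent.Lib.Helper7_SRG77c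

open Finset Cfsg.Agent.Lib.Helper7_SRG77a Cfsg.Agent.Lib.Helper7_SRG77b

variable {V : Type*} [Fintype V] [DecidableEq V] (Γ : SimpleGraph V) [DecidableRel Γ.Adj]

/-- distinct and non-adjacent -/
def NA (x y : V) : Prop := x ≠ y ∧ ¬ Γ.Adj x y

/-- the number of common neighbours of three vertices -/
def j3 (x y z : V) : ℕ := (nb Γ x ∩ nb Γ y ∩ nb Γ z).card

/-- pairwise distinct and non-adjacent, with exactly `k` common neighbours -/
def Trip (k : ℕ) (x y z : V) : Prop := NA Γ x y ∧ NA Γ x z ∧ NA Γ y z ∧ j3 Γ x y z = k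

instance (x y : V) : Decidable (NA Γ x y) := by unfold NA; infer_instance

instance (k : ℕ) (x y z : V) : Decidable (Trip Γ k x y z) := by unfold Trip; infer_instance

variable {Γ}

theorem NA.symm {x y : V} (h : NA Γ x y) : NA Γ y x := ⟨h.1.symm, fun hh => h.2 hh.symm⟩

theorem j3_swap (x y z : V) : j3 Γ x y z = j3 Γ x z y := by
  unfold j3
  congr 1
  ext w; simp only [mem_inter]; tauto

theorem j3_rot (x y z : V) : j3 Γ x y z = j3 Γ y z x := by
  unfold j3
  congr 1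
  ext w; simp only [mem_inter]; tauto

theorem Trip.swap {k : ℕ} {x y z : V} (h : Trip Γ k x y z) : Trip Γ k x z y :=
  ⟨h.2.1, h.1, h.2.2.1.symm, by rw [← j3_swap]; exact h.2.2.2⟩

theorem Trip.rot {k : ℕ} {x y z : V} (h : Trip Γ k x y z) : Trip Γ k y z x :=
  ⟨h.2.2.1, h.1.symm, h.2.1.symm, by rw [← j3_rot]; exact h.2.2.2⟩

theorem Trip.rot' {k : ℕ} {x y z : V} (h : Trip Γ k x y z) : Trip Γ k z x y := h.rot.rot

theorem Trip.swap12 {k : ℕ} {x y z : V} (h : Trip Γ k x y z) : Trip Γ k y x z := h.rot.swap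

theorem Trip.swap13 {k : ℕ} {x y z : V} (h : Trip Γ k x y z) : Trip Γ k z y x := h.swap.rot

theorem gr_self (x : V) : gr Γ x x = 24 := by
  unfold gr
  rw [if_pos rfl]

theorem gr_of_na {x y : V} (h : NA Γ x y) : gr Γ x y = 2 := by
  unfold gr
  rw [if_neg h.1, if_neg h.2]

theorem gr_of_adj {x y : V} (h : Γ.Adj x y) : gr Γ x y = -9 := by
  unfold gr
  rw [if_neg h.ne, if_pos h]

/-- the raw null vector relation of a collinear triple -/
theorem col_null (h : Is77 Γ) {v m m' : V} (hc : Trip Γ 0 v m m') (y : V) :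
    2 * gv Γ y {m} - 2 * gv Γ y {m'} + gv Γ y (nb Γ v ∩ nb Γ m) - gv Γ y (nb Γ v ∩ nb Γ m') = 0 := by
  obtain ⟨⟨hvm, nvm⟩, ⟨hvm', nvm'⟩, ⟨hmm', nmm'⟩, hj⟩ := hc
  unfold j3 at hj
  have cB : (nb Γ v ∩ nb Γ m).card = 4 := h.mu v m hvm nvm
  have cB' : (nb Γ v ∩ nb Γ m').card = 4 := h.mu v m' hvm' nvm'
  have g00 : gs Γ {m} {m} = 24 := by
    rw [gs_singleton (Γ := Γ), gv_singleton (Γ := Γ), gr_self]
  have g11 : gs Γ {m'} {m'} = 24 := by
    rw [gs_singleton (Γ := Γ), gv_singleton (Γ := Γ), gr_self]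
  have g01 : gs Γ {m} {m'} = 2 := by
    rw [gs_singleton (Γ := Γ), gv_singleton (Γ := Γ), gr_of_na ⟨hmm', nmm'⟩]
  have g22 : gs Γ (nb Γ v ∩ nb Γ m) (nb Γ v ∩ nb Γ m) = 120 := by
    rw [gs_sub_nb h (u := v) inter_subset_left inter_subset_left, inter_self, cB]
    norm_num
  have g33 : gs Γ (nb Γ v ∩ nb Γ m') (nb Γ v ∩ nb Γ m') = 120 := by
    rw [gs_sub_nb h (u := v) inter_subset_left inter_subset_left, inter_self, cB']
    norm_num
  have g02 : gs Γ {m} (nb Γ v ∩ nb Γ m) = -36 := by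
    rw [gs_singleton (Γ := Γ), gv_cn_right h hvm nvm]
  have g13 : gs Γ {m'} (nb Γ v ∩ nb Γ m') = -36 := by
    rw [gs_singleton (Γ := Γ), gv_cn_right h hvm' nvm']
  have g03 : gs Γ {m} (nb Γ v ∩ nb Γ m') = 8 := by
    rw [gs_singleton (Γ := Γ), gv_cn h hvm' nvm']
    · have : nb Γ v ∩ nb Γ m' ∩ nb Γ m = nb Γ v ∩ nb Γ m ∩ nb Γ m' := by
        ext w; simp only [mem_inter]; tauto
      rw [this, hj]
      norm_num
    · intro hh
      have := (mem_inter.mp hh).2
      rw [mem_nb] at this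
      exact nmm' this.symm
  have g12 : gs Γ {m'} (nb Γ v ∩ nb Γ m) = 8 := by
    rw [gs_singleton (Γ := Γ), gv_cn h hvm nvm]
    · rw [hj]
      norm_num
    · intro hh
      have := (mem_inter.mp hh).2
      rw [mem_nb] at this
      exact nmm' this
  have g23 : gs Γ (nb Γ v ∩ nb Γ m) (nb Γ v ∩ nb Γ m') = 32 := by
    rw [gs_sub_nb h (u := v) inter_subset_left inter_subset_left, cB, cB']
    have : nb Γ v ∩ nb Γ m ∩ (nb Γ v ∩ nb Γ m') = nb Γ v ∩ nb Γ m ∩ nb Γ m' := by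
      ext w; simp only [mem_inter]; tauto
    rw [this, hj]
    norm_num
  have key := four_null h.srg {m} {m'} (nb Γ v ∩ nb Γ m) (nb Γ v ∩ nb Γ m') 2 (-2) 1 (-1)
    (by rw [g00, g11, g22, g33, g01, g02, g03, g12, g13, g23]; norm_num) y
  linarith

/-- the null vector relation at a vertex far from `v` -/
theorem null_far (h : Is77 Γ) {v m m' : V} (hc : Trip Γ 0 v m m') {y : V} (hvy : NA Γ v y)
    (hym : y ≠ m) (hym' : y ≠ m') :
    (if Γ.Adj y m then 2 else 0) + j3 Γ v m y = (if Γ.Adj y m' then 2 else 0) + j3 Γ v m' y := by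
  have key := col_null h hc y
  have hyB : y ∉ nb Γ v ∩ nb Γ m := fun hh => hvy.2 (mem_nb.mp (mem_inter.mp hh).1)
  have hyB' : y ∉ nb Γ v ∩ nb Γ m' := fun hh => hvy.2 (mem_nb.mp (mem_inter.mp hh).1)
  rw [gv_cn h hc.1.1 hc.1.2 hyB, gv_cn h hc.2.1.1 hc.2.1.2 hyB', gv_singleton, gv_singleton] at key
  unfold j3
  by_cases h1 : Γ.Adj y m
  · rw [gr_of_adj h1] at key
    by_cases h2 : Γ.Adj y m'
    · rw [gr_of_adj h2] at key
      rw [if_pos h1, if_pos h2]
      omega
    · rw [gr_of_na ⟨hym', h2⟩] at key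
      rw [if_pos h1, if_neg h2]
      omega
  · rw [gr_of_na ⟨hym, h1⟩] at key
    by_cases h2 : Γ.Adj y m'
    · rw [gr_of_adj h2] at key
      rw [if_neg h1, if_pos h2]
      omega
    · rw [gr_of_na ⟨hym', h2⟩] at key
      rw [if_neg h1, if_neg h2]
      omega

/-- collinearity is transitive -/
theorem col_trans (h : Is77 Γ) {v m m' m'' : V} (h1 : Trip Γ 0 v m m') (h2 : Trip Γ 0 v m m'')
    (hne : m' ≠ m'') : Trip Γ 0 v m' m'' := by
  have key := null_far h h1 h2.2.1 h2.2.2.1.1.symm hne.symm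
  rw [if_neg (fun hh => h2.2.2.1.2 hh.symm), h2.2.2.2] at key
  have h3 : ¬ Γ.Adj m'' m' := by
    intro hh
    rw [if_pos hh] at key
    omega
  rw [if_neg h3] at key
  exact ⟨h1.2.1, h2.2.1, ⟨hne, fun hh => h3 hh.symm⟩, by omega⟩

/-- perpendicularity is constant along lines -/
theorem perp_trans (h : Is77 Γ) {v m m' y : V} (h1 : Trip Γ 0 v m m') (h2 : Trip Γ 1 v m y) :
    Trip Γ 1 v m' y := by
  have hym' : y ≠ m' := by
    rintro rfl
    have := h1.2.2.2
    rw [h2.2.2.2] at this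
    omega
  have key := null_far h h1 h2.2.1 h2.2.2.1.1.symm hym'
  rw [if_neg (fun hh => h2.2.2.1.2 hh.symm), h2.2.2.2] at key
  have h3 : ¬ Γ.Adj y m' := by
    intro hh
    rw [if_pos hh] at key
    omega
  rw [if_neg h3] at key
  exact ⟨h1.2.1, h2.2.1, ⟨hym'.symm, fun hh => h3 hh.symm⟩, by omega⟩

theorem filter_trip (k : ℕ) {x y : V} (hxy : NA Γ x y) : univ.filter (Trip Γ k x y) =
    (far2 Γ x y).filter (fun z => (nb Γ x ∩ nb Γ y ∩ nb Γ z).card = k) := by
  ext z
  rw [mem_filter, mem_filter, mem_far2]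
  unfold Trip NA j3
  constructor
  · rintro ⟨-, h1, h2, h3, h4⟩
    exact ⟨⟨h2.1.symm, h3.1.symm, h2.2, h3.2⟩, h4⟩
  · rintro ⟨⟨h1, h2, h3, h4⟩, h5⟩
    exact ⟨mem_univ _, hxy, ⟨h1.symm, h3⟩, ⟨h2.symm, h4⟩, h5⟩

theorem card_col (h : Is77 Γ) {x y : V} (hxy : NA Γ x y) :
    (univ.filter (Trip Γ 0 x y)).card = 3 := by
  rw [filter_trip 0 hxy, card_j3_zero h hxy.1 hxy.2]

theorem card_perp (h : Is77 Γ) {x y : V} (hxy : NA Γ x y) :
    (univ.filter (Trip Γ 1 x y)).card = 32 := by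
  rw [filter_trip 1 hxy, card_j3_one h hxy.1 hxy.2]

/-- the class of `a` at the base `y` -/
def cls (Γ : SimpleGraph V) [DecidableRel Γ.Adj] (y a : V) : Finset V :=
  insert a (univ.filter (Trip Γ 0 y a))

theorem mem_cls {y a u : V} : u ∈ cls Γ y a ↔ u = a ∨ Trip Γ 0 y a u := by
  rw [cls, mem_insert, mem_filter]
  simp

theorem self_mem_cls (y a : V) : a ∈ cls Γ y a := mem_cls.mpr (Or.inl rfl)

theorem card_cls (h : Is77 Γ) {y a : V} (hya : NA Γ y a) : (cls Γ y a).card = 4 := by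
  rw [cls, card_insert_of_notMem, card_col h hya]
  rw [mem_filter]
  rintro ⟨-, hh⟩
  exact hh.2.2.1.1 rfl

theorem cls_na {y a u : V} (hya : NA Γ y a) (hu : u ∈ cls Γ y a) : NA Γ y u := by
  rcases mem_cls.mp hu with rfl | hh
  · exact hya
  · exact hh.2.1

theorem cls_pair (h : Is77 Γ) {y a u w : V} (hu : u ∈ cls Γ y a) (hw : w ∈ cls Γ y a)
    (huw : u ≠ w) : Trip Γ 0 y u w := by
  rcases mem_cls.mp hu with rfl | hu'
  · rcases mem_cls.mp hw with rfl | hw'
    · exact absurd rfl huw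
    · exact hw'
  · rcases mem_cls.mp hw with rfl | hw'
    · exact hu'.swap
    · exact col_trans h hu' hw' huw

/-- the line through `x` and `y` -/
def line (Γ : SimpleGraph V) [DecidableRel Γ.Adj] (x y : V) : Finset V := insert x (cls Γ x y)

theorem mem_line {x y u : V} : u ∈ line Γ x y ↔ u = x ∨ u ∈ cls Γ x y := by
  rw [line, mem_insert]

theorem card_line (h : Is77 Γ) {x y : V} (hxy : NA Γ x y) : (line Γ x y).card = 5 := by
  rw [line, card_insert_of_notMem, card_cls h hxy]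
  intro hh
  exact (cls_na hxy hh).1 rfl

theorem line_col (h : Is77 Γ) {x y a b c : V} (hxy : NA Γ x y) (ha : a ∈ line Γ x y)
    (hb : b ∈ line Γ x y) (hc : c ∈ line Γ x y) (hab : a ≠ b) (hac : a ≠ c) (hbc : b ≠ c) :
    Trip Γ 0 a b c := by
  rcases mem_line.mp ha with rfl | ha'
  · rcases mem_line.mp hb with rfl | hb'
    · exact absurd rfl hab
    · rcases mem_line.mp hc with rfl | hc'
      · exact absurd rfl hac
      · exact cls_pair h hb' hc' hbc
  · rcases mem_line.mp hb with rfl | hb'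
    · rcases mem_line.mp hc with rfl | hc'
      · exact absurd rfl hbc
      · exact (cls_pair h ha' hc' hac).swap12
    · rcases mem_line.mp hc with rfl | hc'
      · exact (cls_pair h ha' hb' hab).rot
      · exact col_trans h (cls_pair h ha' hb' hab).swap12 (cls_pair h ha' hc' hac).swap12 hbc

/-- if one pair of a line is perpendicular at `y` then all pairs are -/
theorem perp_line (h : Is77 Γ) (L : Finset V)
    (hL : ∀ a ∈ L, ∀ b ∈ L, ∀ c ∈ L, a ≠ b → a ≠ c → b ≠ c → Trip Γ 0 a b c) {y p q : V}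
    (hp : p ∈ L) (hq : q ∈ L) (hpq : Trip Γ 1 y p q) :
    ∀ a ∈ L, ∀ b ∈ L, a ≠ b → Trip Γ 1 y a b := by
  have step1 : ∀ c ∈ L, c ≠ p → Trip Γ 1 y p c := by
    intro c hc hcp
    by_cases hcq : c = q
    · rw [hcq]; exact hpq
    · have h0 := hL p hp q hq c hc hpq.2.2.1.1 (Ne.symm hcp) (Ne.symm hcq)
      exact (perp_trans h h0 hpq.rot).rot'
  intro a ha b hb hab
  by_cases hap : a = p
  · rw [hap]
    exact step1 b hb (fun hh => hab (hap.trans hh.symm))
  · by_cases hbp : b = p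
    · rw [hbp]
      exact (step1 a ha hap).swap
    · have h1 := step1 a ha hap
      have h0 := hL a ha p hp b hb hap hab (Ne.symm hbp)
      exact (perp_trans h h0 h1.rot.swap12).rot'

end Cfsg.Agent.Lib.Helper7_SRG77c
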