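/-
helper7: strongly regular graphs with parameters (77, 16, 0, 4), part d:
cocliques of size 21 (Hoffman cocliques): every outside vertex has exactly six neighbours inside,
they are closed under collinearity, and every perpendicular triple lies in exactly one of them.
-/
import Mathlib
import Cfsg.Agent.Lib.Helper7_SRG77a
import Cfsg.Agent.Lib.Helper7_SRG77b
import Cfsg.Agent.Lib.Helper7_SRG77c

set_option autoImplicit false
set_option linter.unusedSectionVars false
set_option linter.unusedVariables false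

namespace Cfsg.Agent.Lib.Helper7_SRG77d

open Finset Cfsg.Agent.Lib.Helper7_SRG77a Cfsg.Agent.Lib.Helper7_SRG77b
  Cfsg.Agent.Lib.Helper7_SRG77c

variable {V : Type*} [Fintype V] [DecidableEq V] (Γ : SimpleGraph V) [DecidableRel Γ.Adj]

/-- cocliques of size 21 -/
def IsCq (C : Finset V) : Prop := C.card = 21 ∧ ∀ x ∈ C, ∀ y ∈ C, ¬ Γ.Adj x y

instance (C : Finset V) : Decidable (IsCq Γ C) := by unfold IsCq; infer_instance

variable {Γ}

theorem cq_sum_deg (h : Is77 Γ) {C : Finset V} (hC : IsCq Γ C) :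
    ∑ u ∈ Cᶜ, (C ∩ nb Γ u).card = 336 := by
  have h1 := sum_card_bipartiteAbove_eq_sum_card_bipartiteBelow
    (fun (u : V) (c : V) => Γ.Adj u c) (s := Cᶜ) (t := C)
  have h2 : ∀ u ∈ Cᶜ, (bipartiteAbove (fun (u : V) (c : V) => Γ.Adj u c) C u).card =
      (C ∩ nb Γ u).card := by
    intro u _
    rw [bipartiteAbove, filter_adj]
  have h3 : ∀ c ∈ C, (bipartiteBelow (fun (u : V) (c : V) => Γ.Adj u c) Cᶜ c).card = 16 := by
    intro c hc
    rw [← h.deg c]
    congr 1
    ext u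
    rw [mem_bipartiteBelow, mem_compl, mem_nb]
    constructor
    · rintro ⟨-, h4⟩
      exact h4.symm
    · intro h4
      exact ⟨fun hu => hC.2 c hc u hu h4, h4.symm⟩
  rw [sum_congr rfl h2, sum_congr rfl h3, sum_const, hC.1] at h1
  exact h1

theorem cq_sum_offDiag (h : Is77 Γ) {C : Finset V} (hC : IsCq Γ C) :
    ∑ u ∈ Cᶜ, (C ∩ nb Γ u).offDiag.card = 1680 := by
  have h1 := sum_card_bipartiteAbove_eq_sum_card_bipartiteBelow
    (fun (u : V) (cc : V × V) => Γ.Adj u cc.1 ∧ Γ.Adj u cc.2) (s := Cᶜ) (t := C.offDiag)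
  have h2 : ∀ u ∈ Cᶜ,
      (bipartiteAbove (fun (u : V) (cc : V × V) => Γ.Adj u cc.1 ∧ Γ.Adj u cc.2) C.offDiag u).card =
      (C ∩ nb Γ u).offDiag.card := by
    intro u _
    congr 1
    ext cc
    simp only [mem_bipartiteAbove, mem_offDiag, mem_inter, mem_nb]
    tauto
  have h3 : ∀ cc ∈ C.offDiag,
      (bipartiteBelow (fun (u : V) (cc : V × V) => Γ.Adj u cc.1 ∧ Γ.Adj u cc.2) Cᶜ cc).card
        = 4 := by
    intro cc hcc
    rw [mem_offDiag] at hcc
    rw [← h.mu cc.1 cc.2 hcc.2.2 (hC.2 cc.1 hcc.1 cc.2 hcc.2.1)]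
    congr 1
    ext u
    rw [mem_bipartiteBelow, mem_compl, mem_inter, mem_nb, mem_nb]
    constructor
    · rintro ⟨-, h4, h5⟩
      exact ⟨h4.symm, h5.symm⟩
    · rintro ⟨h4, h5⟩
      exact ⟨fun hu => hC.2 cc.1 hcc.1 u hu h4, h4.symm, h5.symm⟩
  rw [sum_congr rfl h2, sum_congr rfl h3, sum_const, offDiag_card, hC.1] at h1
  exact h1

/-- Hoffman: every vertex outside a 21-coclique has exactly six neighbours in it -/
theorem cq_deg (h : Is77 Γ) {C : Finset V} (hC : IsCq Γ C) {u : V} (hu : u ∉ C) :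
    (C ∩ nb Γ u).card = 6 := by
  have e1 := cq_sum_deg h hC
  have e2 := cq_sum_offDiag h hC
  have e3 : (Cᶜ).card = 56 := by
    rw [card_compl, h.card, hC.1]
  have hz : ∑ x ∈ Cᶜ, (((C ∩ nb Γ x).card : ℤ) - 6) ^ 2 = 0 := by
    have c1 : ∑ x ∈ Cᶜ, ((C ∩ nb Γ x).card : ℤ) = 336 := by
      exact_mod_cast e1
    have c2 : ∑ x ∈ Cᶜ, (((C ∩ nb Γ x).card : ℤ) * ((C ∩ nb Γ x).card : ℤ) -
        ((C ∩ nb Γ x).card : ℤ)) = 1680 := by
      have : ∀ x ∈ Cᶜ, (((C ∩ nb Γ x).card : ℤ) * ((C ∩ nb Γ x).card : ℤ) -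
          ((C ∩ nb Γ x).card : ℤ)) = (((C ∩ nb Γ x).offDiag.card : ℕ) : ℤ) := by
        intro x _
        rw [offDiag_card, Nat.cast_sub (Nat.le_mul_self _), Nat.cast_mul]
      rw [sum_congr rfl this]
      exact_mod_cast e2
    have c3 : ∀ x ∈ Cᶜ, (((C ∩ nb Γ x).card : ℤ) - 6) ^ 2 =
        (((C ∩ nb Γ x).card : ℤ) * ((C ∩ nb Γ x).card : ℤ) - ((C ∩ nb Γ x).card : ℤ))
          - 11 * ((C ∩ nb Γ x).card : ℤ) + 36 := by
      intro x _
      ring
    rw [sum_congr rfl c3, sum_add_distrib, sum_sub_distrib, ← mul_sum, c1, c2, sum_const, e3]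
    norm_num
  have hz' := (sum_eq_zero_iff_of_nonneg (fun x _ => sq_nonneg _)).mp hz u (mem_compl.mpr hu)
  have : ((C ∩ nb Γ u).card : ℤ) - 6 = 0 := pow_eq_zero_iff (two_ne_zero) |>.mp hz'
  omega

/-- the Gram form of a 21-coclique with any set -/
theorem gs_cq (h : Is77 Γ) {C : Finset V} (hC : IsCq Γ C) (S : Finset V) :
    gs Γ C S = 88 * ((C ∩ S).card : ℤ) - 24 * (S.card : ℤ) := by
  rw [gs_symm, gs_eval, hC.1]
  have h1 : ∑ x ∈ S, ((C.filter (Γ.Adj x)).card : ℤ) =
      6 * ((S.card : ℤ) - ((C ∩ S).card : ℤ)) := by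
    have h2 : ∀ x ∈ S, ((C.filter (Γ.Adj x)).card : ℤ) = if x ∈ C then 0 else 6 := by
      intro x _
      by_cases hx : x ∈ C
      · rw [if_pos hx, Nat.cast_eq_zero, card_eq_zero, filter_eq_empty_iff]
        intro y hy
        exact hC.2 x hx y hy
      · rw [if_neg hx, filter_adj, cq_deg h hC hx]
        norm_num
    rw [sum_congr rfl h2, sum_ite, sum_const_zero, sum_const, zero_add, nsmul_eq_mul]
    have h3 : (S.filter (fun x => x ∉ C)).card = S.card - (C ∩ S).card := by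
      have := card_filter_add_card_filter_not (s := S) (fun x => x ∈ C)
      rw [filter_mem_eq_inter, inter_comm] at this
      omega
    have h4 : (C ∩ S).card ≤ S.card := card_le_card inter_subset_right
    rw [h3, Nat.cast_sub h4]
    ring
  rw [h1, inter_comm]
  ring

/-- 21-cocliques are closed under collinearity -/
theorem cq_col (h : Is77 Γ) {C : Finset V} (hC : IsCq Γ C) {a b c : V} (ha : a ∈ C) (hb : b ∈ C)
    (hcol : Trip Γ 0 a b c) : c ∈ C := by
  have h1 : ∑ y ∈ C, (2 * gv Γ y {b} - 2 * gv Γ y {c} + gv Γ y (nb Γ a ∩ nb Γ b)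
      - gv Γ y (nb Γ a ∩ nb Γ c)) = 0 :=
    sum_eq_zero (fun y _ => col_null h hcol y)
  rw [sum_sub_distrib, sum_add_distrib, sum_sub_distrib, ← mul_sum, ← mul_sum] at h1
  change 2 * gs Γ C {b} - 2 * gs Γ C {c} + gs Γ C (nb Γ a ∩ nb Γ b)
    - gs Γ C (nb Γ a ∩ nb Γ c) = 0 at h1
  rw [gs_cq h hC, gs_cq h hC, gs_cq h hC, gs_cq h hC, h.mu a b hcol.1.1 hcol.1.2,
    h.mu a c hcol.2.1.1 hcol.2.1.2] at h1
  have e1 : C ∩ (nb Γ a ∩ nb Γ b) = ∅ := by
    rw [eq_empty_iff_forall_notMem]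
    intro w hw
    rw [mem_inter, mem_inter, mem_nb] at hw
    exact hC.2 a ha w hw.1 hw.2.1
  have e2 : C ∩ (nb Γ a ∩ nb Γ c) = ∅ := by
    rw [eq_empty_iff_forall_notMem]
    intro w hw
    rw [mem_inter, mem_inter, mem_nb] at hw
    exact hC.2 a ha w hw.1 hw.2.1
  have e3 : C ∩ {b} = {b} := by
    rw [inter_eq_right, singleton_subset_iff]
    exact hb
  rw [e1, e2, e3] at h1
  by_contra hc
  have e4 : C ∩ {c} = ∅ := by
    rw [eq_empty_iff_forall_notMem]
    intro w hw
    rw [mem_inter, mem_singleton] at hw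
    exact hc (hw.2 ▸ hw.1)
  rw [e4] at h1
  simp at h1

/-- the 21-coclique through a perpendicular triple `v, y, y'` -/
def cq3 (Γ : SimpleGraph V) [DecidableRel Γ.Adj] (v y y' : V) : Finset V :=
  insert y ((line Γ v y').biUnion (fun a => cls Γ y a))

section cq3

variable (h : Is77 Γ) {v y y' : V} (hp : Trip Γ 1 v y y')
include h hp

theorem cq3_perp {a b : V} (ha : a ∈ line Γ v y') (hb : b ∈ line Γ v y') (hab : a ≠ b) :
    Trip Γ 1 y a b := by
  have hvy' : NA Γ v y' := hp.2.1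
  refine perp_line h (line Γ v y') ?_ (p := v) (q := y') ?_ ?_ hp.swap12 a ha b hb hab
  · intro a ha b hb c hc hab hac hbc
    exact line_col h hvy' ha hb hc hab hac hbc
  · exact mem_line.mpr (Or.inl rfl)
  · exact mem_line.mpr (Or.inr (self_mem_cls v y'))

theorem cq3_na {a : V} (ha : a ∈ line Γ v y') : NA Γ y a := by
  have hv : v ∈ line Γ v y' := mem_line.mpr (Or.inl rfl)
  have hy' : y' ∈ line Γ v y' := mem_line.mpr (Or.inr (self_mem_cls v y'))
  by_cases hav : a = v
  · rw [hav]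
    exact hp.1.symm
  · exact (cq3_perp h hp ha hv hav).1

theorem cq3_cross {a b u w : V} (ha : a ∈ line Γ v y') (hb : b ∈ line Γ v y') (hab : a ≠ b)
    (hu : u ∈ cls Γ y a) (hw : w ∈ cls Γ y b) : Trip Γ 1 y u w := by
  have h0 := cq3_perp h hp ha hb hab
  have h1 : Trip Γ 1 y u b := by
    rcases mem_cls.mp hu with rfl | hu'
    · exact h0
    · exact perp_trans h hu' h0
  have h2 : Trip Γ 1 y w u := by
    rcases mem_cls.mp hw with rfl | hw'
    · exact h1.swap
    · exact perp_trans h hw' h1.swap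
  exact h2.swap

theorem cq3_isCq : IsCq Γ (cq3 Γ v y y') := by
  constructor
  · rw [cq3, card_insert_of_notMem, card_biUnion, sum_congr rfl
      (fun a ha => card_cls h (cq3_na h hp ha)), sum_const, card_line h hp.2.1]
    · rfl
    · intro a ha b hb hab
      rw [Function.onFun, disjoint_left]
      intro u hu hu'
      exact (cq3_cross h hp ha hb hab hu hu').2.2.1.1 rfl
    · rw [mem_biUnion]
      rintro ⟨a, ha, hya⟩
      exact (cls_na (cq3_na h hp ha) hya).1 rfl
  · have hD : ∀ q ∈ (line Γ v y').biUnion (fun a => cls Γ y a), NA Γ y q := by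
      intro q hq
      rw [mem_biUnion] at hq
      obtain ⟨a, ha, hqa⟩ := hq
      exact cls_na (cq3_na h hp ha) hqa
    intro p hp' q hq
    rw [cq3, mem_insert] at hp' hq
    rcases hp' with rfl | hp'
    · rcases hq with rfl | hq
      · exact Γ.loopless.irrefl _
      · exact (hD q hq).2
    · rcases hq with rfl | hq
      · exact (hD p hp').symm.2
      · rw [mem_biUnion] at hp' hq
        obtain ⟨a, ha, hpa⟩ := hp'
        obtain ⟨b, hb, hqb⟩ := hq
        by_cases hab : a = b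
        · subst hab
          by_cases hpq : p = q
          · rw [hpq]
            exact Γ.loopless.irrefl _
          · exact (cls_pair h hpa hqb hpq).2.2.1.2
        · exact (cq3_cross h hp ha hb hab hpa hqb).2.2.1.2

theorem mem_cq3_left : v ∈ cq3 Γ v y y' := by
  rw [cq3, mem_insert, mem_biUnion]
  exact Or.inr ⟨v, mem_line.mpr (Or.inl rfl), self_mem_cls y v⟩

theorem mem_cq3_mid : y ∈ cq3 Γ v y y' := by
  rw [cq3, mem_insert]
  exact Or.inl rfl

theorem mem_cq3_right : y' ∈ cq3 Γ v y y' := by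
  rw [cq3, mem_insert, mem_biUnion]
  exact Or.inr ⟨y', mem_line.mpr (Or.inr (self_mem_cls v y')), self_mem_cls y y'⟩

theorem cq3_unique {C : Finset V} (hC : IsCq Γ C) (hv : v ∈ C) (hy : y ∈ C) (hy' : y' ∈ C) :
    C = cq3 Γ v y y' := by
  symm
  apply eq_of_subset_of_card_le
  · intro u hu
    rw [cq3, mem_insert, mem_biUnion] at hu
    rcases hu with rfl | ⟨a, ha, hua⟩
    · exact hy
    · have haC : a ∈ C := by
        rcases mem_line.mp ha with rfl | ha'
        · exact hv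
        · rcases mem_cls.mp ha' with rfl | ha''
          · exact hy'
          · exact cq_col h hC hv hy' ha''
      rcases mem_cls.mp hua with rfl | hua'
      · exact haC
      · exact cq_col h hC hy haC hua'
  · rw [hC.1, (cq3_isCq h hp).1]

end cq3

end Cfsg.Agent.Lib.Helper7_SRG77d
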