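/-
helper7: strongly regular graphs with parameters (77, 16, 0, 4), part e:
counting the 21-cocliques: two through every non-adjacent pair, six through every vertex,
22 in all.
-/
import Mathlib
import Cfsg.Agent.Lib.Helper7_SRG77a
import Cfsg.Agent.Lib.Helper7_SRG77b
import Cfsg.Agent.Lib.Helper7_SRG77c
import Cfsg.Agent.Lib.Helper7_SRG77d

set_option autoImplicit false
set_option linter.unusedSectionVars false
set_option linter.unusedVariables false

namespace Cfsg.Agent.Lib.Helper7_SRG77e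

open Finset Cfsg.Agent.Lib.Helper7_SRG77a Cfsg.Agent.Lib.Helper7_SRG77b
  Cfsg.Agent.Lib.Helper7_SRG77c Cfsg.Agent.Lib.Helper7_SRG77d

variable {V : Type*} [Fintype V] [DecidableEq V] {Γ : SimpleGraph V} [DecidableRel Γ.Adj]

theorem cq_sum_j3 (h : Is77 Γ) {C : Finset V} (hC : IsCq Γ C) {x y : V} (hx : x ∈ C)
    (hy : y ∈ C) (hxy : x ≠ y) : ∑ y' ∈ C, (j3 Γ x y y' : ℤ) = 24 := by
  have nxy : ¬ Γ.Adj x y := hC.2 x hx y hy
  have e1 : C ∩ (nb Γ x ∩ nb Γ y) = ∅ := by
    rw [eq_empty_iff_forall_notMem]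
    intro w hw
    rw [mem_inter, mem_inter, mem_nb] at hw
    exact hC.2 x hx w hw.1 hw.2.1
  have h1 := gs_cq h hC (nb Γ x ∩ nb Γ y)
  rw [e1, h.mu x y hxy nxy, card_empty] at h1
  have h2 : gs Γ C (nb Γ x ∩ nb Γ y) = ∑ y' ∈ C, (8 - 11 * (j3 Γ x y y' : ℤ)) := by
    unfold gs
    apply sum_congr rfl
    intro y' hy'
    rw [gv_cn h hxy nxy]
    · rfl
    · intro hh
      rw [mem_inter, mem_nb] at hh
      exact hC.2 x hx y' hy' hh.1
  rw [h2, sum_sub_distrib, ← mul_sum, sum_const, hC.1] at h1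
  norm_num at h1
  linarith

theorem sum_line_j3 (h : Is77 Γ) {x y : V} (hxy : NA Γ x y) :
    ∑ y' ∈ line Γ x y, (j3 Γ x y y' : ℤ) = 8 := by
  have hy : y ∉ univ.filter (Trip Γ 0 x y) := by
    rw [mem_filter]
    rintro ⟨-, hh⟩
    exact hh.2.2.1.1 rfl
  have hx : x ∉ insert y (univ.filter (Trip Γ 0 x y)) := by
    rw [mem_insert, mem_filter]
    rintro (hh | ⟨-, hh⟩)
    · exact hxy.1 hh
    · exact hh.2.1.1 rfl
  rw [line, cls, sum_insert hx, sum_insert hy]
  have h0 : ∑ y' ∈ univ.filter (Trip Γ 0 x y), (j3 Γ x y y' : ℤ) = 0 := by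
    apply sum_eq_zero
    intro y' hy'
    rw [mem_filter] at hy'
    rw [hy'.2.2.2.2]
    rfl
  have h1 : j3 Γ x y x = 4 := by
    unfold j3
    rw [← h.mu x y hxy.1 hxy.2]
    congr 1
    ext w; simp only [mem_inter]; tauto
  have h2 : j3 Γ x y y = 4 := by
    unfold j3
    rw [← h.mu x y hxy.1 hxy.2]
    congr 1
    ext w; simp only [mem_inter]; tauto
  rw [h0, h1, h2]
  norm_num

theorem line_subset_cq (h : Is77 Γ) {C : Finset V} (hC : IsCq Γ C) {x y : V} (hx : x ∈ C)
    (hy : y ∈ C) : line Γ x y ⊆ C := by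
  intro u hu
  rcases mem_line.mp hu with rfl | hu'
  · exact hx
  · rcases mem_cls.mp hu' with rfl | hu''
    · exact hy
    · exact cq_col h hC hx hy hu''

/-- in a 21-coclique through `x, y`, the vertices off the line `x y` are perpendicular -/
theorem cq_perp (h : Is77 Γ) {C : Finset V} (hC : IsCq Γ C) {x y y' : V} (hx : x ∈ C)
    (hy : y ∈ C) (hxy : x ≠ y) (hy' : y' ∈ C) (hn : y' ∉ line Γ x y) : Trip Γ 1 x y y' := by
  have hna : NA Γ x y := ⟨hxy, hC.2 x hx y hy⟩
  have hsub := line_subset_cq h hC hx hy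
  have s1 := cq_sum_j3 h hC hx hy hxy
  have s2 := sum_line_j3 h hna
  have s3 := sum_sdiff (f := fun y' => (j3 Γ x y y' : ℤ)) hsub
  have c1 : (C \ line Γ x y).card = 16 := by
    rw [card_sdiff_of_subset hsub, hC.1, card_line h hna]
  have tri : ∀ z ∈ C \ line Γ x y, NA Γ x z ∧ NA Γ y z := by
    intro z hz
    rw [mem_sdiff] at hz
    have hzx : z ≠ x := fun hh => hz.2 (by rw [hh]; exact mem_line.mpr (Or.inl rfl))
    have hzy : z ≠ y := fun hh => hz.2 (by
      rw [hh]; exact mem_line.mpr (Or.inr (self_mem_cls x y)))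
    exact ⟨⟨hzx.symm, hC.2 x hx z hz.1⟩, ⟨hzy.symm, hC.2 y hy z hz.1⟩⟩
  have pos : ∀ z ∈ C \ line Γ x y, 0 ≤ (j3 Γ x y z : ℤ) - 1 := by
    intro z hz
    have hz' := mem_sdiff.mp hz
    have : j3 Γ x y z ≠ 0 := by
      intro h0
      apply hz'.2
      exact mem_line.mpr (Or.inr (mem_cls.mpr (Or.inr ⟨hna, (tri z hz).1, (tri z hz).2, h0⟩)))
    have : 1 ≤ j3 Γ x y z := Nat.one_le_iff_ne_zero.mpr this
    have : (1 : ℤ) ≤ (j3 Γ x y z : ℤ) := by exact_mod_cast this
    linarith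
  have s4 : ∑ z ∈ C \ line Γ x y, ((j3 Γ x y z : ℤ) - 1) = 0 := by
    rw [sum_sub_distrib, sum_const, c1]
    simp only [nsmul_eq_mul, mul_one]
    push_cast
    linarith
  have hmem : y' ∈ C \ line Γ x y := mem_sdiff.mpr ⟨hy', hn⟩
  have := (sum_eq_zero_iff_of_nonneg pos).mp s4 y' hmem
  exact ⟨hna, (tri y' hmem).1, (tri y' hmem).2, by omega⟩

/-- the set of all 21-cocliques -/
def cqs (Γ : SimpleGraph V) [DecidableRel Γ.Adj] : Finset (Finset V) := univ.filter (IsCq Γ)

theorem mem_cqs {C : Finset V} : C ∈ cqs Γ ↔ IsCq Γ C := by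
  rw [cqs, mem_filter]
  simp

/-- exactly two 21-cocliques pass through two non-adjacent vertices -/
theorem card_cqs_pair (h : Is77 Γ) {x y : V} (hxy : NA Γ x y) :
    ((cqs Γ).filter (fun C => x ∈ C ∧ y ∈ C)).card = 2 := by
  have h1 := sum_card_bipartiteAbove_eq_sum_card_bipartiteBelow
    (fun (C : Finset V) (y' : V) => y' ∈ C) (s := (cqs Γ).filter (fun C => x ∈ C ∧ y ∈ C))
    (t := univ.filter (Trip Γ 1 x y))
  have h2 : ∀ C ∈ (cqs Γ).filter (fun C => x ∈ C ∧ y ∈ C),
      (bipartiteAbove (fun (C : Finset V) (y' : V) => y' ∈ C) (univ.filter (Trip Γ 1 x y)) C).card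
        = 16 := by
    intro C hC
    rw [mem_filter, mem_cqs] at hC
    obtain ⟨hC, hx, hy⟩ := hC
    have e : bipartiteAbove (fun (C : Finset V) (y' : V) => y' ∈ C) (univ.filter (Trip Γ 1 x y)) C
        = C \ line Γ x y := by
      ext z
      rw [mem_bipartiteAbove, mem_filter, mem_sdiff]
      constructor
      · rintro ⟨⟨-, ht⟩, hz⟩
        refine ⟨hz, ?_⟩
        intro hl
        rcases mem_line.mp hl with hzx | hl'
        · exact ht.2.1.1 hzx.symm
        · rcases mem_cls.mp hl' with hzy | hl''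
          · exact ht.2.2.1.1 hzy.symm
          · have := hl''.2.2.2
            rw [ht.2.2.2] at this
            omega
      · rintro ⟨hz, hl⟩
        exact ⟨⟨mem_univ _, cq_perp h hC hx hy hxy.1 hz hl⟩, hz⟩
    rw [e, card_sdiff_of_subset (line_subset_cq h hC hx hy), hC.1, card_line h hxy]
  have h3 : ∀ y' ∈ univ.filter (Trip Γ 1 x y),
      (bipartiteBelow (fun (C : Finset V) (y' : V) => y' ∈ C)
        ((cqs Γ).filter (fun C => x ∈ C ∧ y ∈ C)) y').card = 1 := by
    intro y' hy'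
    rw [mem_filter] at hy'
    have hp := hy'.2
    rw [card_eq_one]
    refine ⟨cq3 Γ x y y', ?_⟩
    ext C
    rw [mem_bipartiteBelow, mem_filter, mem_cqs, mem_singleton]
    constructor
    · rintro ⟨⟨hC, hx, hy⟩, hz⟩
      exact cq3_unique h hp hC hx hy hz
    · rintro rfl
      exact ⟨⟨cq3_isCq h hp, mem_cq3_left h hp, mem_cq3_mid h hp⟩, mem_cq3_right h hp⟩
  rw [sum_congr rfl h2, sum_congr rfl h3, sum_const, sum_const, card_perp h hxy] at h1
  simp only [smul_eq_mul] at h1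
  omega

theorem card_na (h : Is77 Γ) (x : V) : (univ.filter (NA Γ x)).card = 60 := by
  have h1 : univ.filter (NA Γ x) = (insert x (nb Γ x))ᶜ := by
    ext z
    rw [mem_filter, mem_compl, mem_insert, mem_nb]
    unfold NA
    constructor
    · rintro ⟨-, h1, h2⟩
      rintro (h3 | h3)
      · exact h1 h3.symm
      · exact h2 h3
    · intro h3
      exact ⟨mem_univ _, fun h4 => h3 (Or.inl h4.symm), fun h4 => h3 (Or.inr h4)⟩
  rw [h1, card_compl, h.card, card_insert_of_notMem (self_notMem_nb x), h.deg]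

/-- exactly six 21-cocliques pass through every vertex -/
theorem card_cqs_vertex (h : Is77 Γ) (x : V) : ((cqs Γ).filter (fun C => x ∈ C)).card = 6 := by
  have h1 := sum_card_bipartiteAbove_eq_sum_card_bipartiteBelow
    (fun (C : Finset V) (y : V) => y ∈ C) (s := (cqs Γ).filter (fun C => x ∈ C))
    (t := univ.filter (NA Γ x))
  have h2 : ∀ C ∈ (cqs Γ).filter (fun C => x ∈ C),
      (bipartiteAbove (fun (C : Finset V) (y : V) => y ∈ C) (univ.filter (NA Γ x)) C).card
        = 20 := by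
    intro C hC
    rw [mem_filter, mem_cqs] at hC
    obtain ⟨hC, hx⟩ := hC
    have e : bipartiteAbove (fun (C : Finset V) (y : V) => y ∈ C) (univ.filter (NA Γ x)) C
        = C.erase x := by
      ext z
      rw [mem_bipartiteAbove, mem_filter, mem_erase]
      constructor
      · rintro ⟨⟨-, ht⟩, hz⟩
        exact ⟨ht.1.symm, hz⟩
      · rintro ⟨hzx, hz⟩
        exact ⟨⟨mem_univ _, hzx.symm, hC.2 x hx z hz⟩, hz⟩
    rw [e, card_erase_of_mem hx, hC.1]
  have h3 : ∀ y ∈ univ.filter (NA Γ x),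
      (bipartiteBelow (fun (C : Finset V) (y : V) => y ∈ C)
        ((cqs Γ).filter (fun C => x ∈ C)) y).card = 2 := by
    intro y hy
    rw [mem_filter] at hy
    rw [← card_cqs_pair h hy.2]
    congr 1
    ext C
    rw [mem_bipartiteBelow, mem_filter, mem_filter]
    tauto
  rw [sum_congr rfl h2, sum_congr rfl h3, sum_const, sum_const, card_na h x] at h1
  simp only [smul_eq_mul] at h1
  omega

/-- there are exactly 22 cocliques of size 21 -/
theorem card_cqs (h : Is77 Γ) : (cqs Γ).card = 22 := by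
  have h1 := sum_card_bipartiteAbove_eq_sum_card_bipartiteBelow
    (fun (C : Finset V) (y : V) => y ∈ C) (s := cqs Γ) (t := (univ : Finset V))
  have h2 : ∀ C ∈ cqs Γ,
      (bipartiteAbove (fun (C : Finset V) (y : V) => y ∈ C) (univ : Finset V) C).card = 21 := by
    intro C hC
    rw [mem_cqs] at hC
    rw [← hC.1]
    congr 1
    ext z
    rw [mem_bipartiteAbove]
    simp
  have h3 : ∀ y ∈ (univ : Finset V),
      (bipartiteBelow (fun (C : Finset V) (y : V) => y ∈ C) (cqs Γ) y).card = 6 := by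
    intro y _
    rw [← card_cqs_vertex h y]
    rfl
  rw [sum_congr rfl h2, sum_congr rfl h3, sum_const, sum_const, card_univ, h.card] at h1
  simp only [smul_eq_mul] at h1
  omega

theorem cqs_adj {x y : V} (hadj : Γ.Adj x y) :
    ((cqs Γ).filter (fun C => x ∈ C ∧ y ∈ C)) = ∅ := by
  rw [eq_empty_iff_forall_notMem]
  intro C hC
  rw [mem_filter, mem_cqs] at hC
  exact hC.1.2 x hC.2.1 y hC.2.2 hadj

end Cfsg.Agent.Lib.Helper7_SRG77e
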