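/-
helper7: strongly regular graphs with parameters (77, 16, 0, 4), part f:
the 22 cocliques of size 21 carry a Steiner system S(3, 6, 22) whose blocks are the vertices,
adjacent iff disjoint; with the uniqueness of S(3, 6, 22) (helper41) the graph is unique.
-/
import Mathlib
import Cfsg.Prelude.Def_Sporadic_a
import Cfsg.Agent.Lib.Helper41_S22b
import Cfsg.Agent.Lib.Helper7_SRG77b
import Cfsg.Agent.Lib.Helper7_SRG77c
import Cfsg.Agent.Lib.Helper7_SRG77d
import Cfsg.Agent.Lib.Helper7_SRG77e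

set_option autoImplicit false
set_option linter.unusedSectionVars false
set_option linter.unusedVariables false

namespace Cfsg.Agent.Lib.Helper7_SRG77f

open Finset Cfsg Cfsg.Agent.Lib.Helper7_SRG77b Cfsg.Agent.Lib.Helper7_SRG77c
  Cfsg.Agent.Lib.Helper7_SRG77d Cfsg.Agent.Lib.Helper7_SRG77e

theorem card_sub {α : Type*} [DecidableEq α] (s : Finset α) (p : α → Prop) [DecidablePred p] :
    (univ.filter (fun C : ↥s => p C.1)).card = (s.filter p).card := by
  rw [← card_image_of_injective _ Subtype.val_injective]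
  congr 1
  ext a
  simp only [mem_image, mem_filter, mem_univ, true_and, Subtype.exists, exists_and_right,
    exists_eq_right]
  constructor
  · rintro ⟨ha, hp⟩; exact ⟨ha, hp⟩
  · rintro ⟨ha, hp⟩; exact ⟨ha, hp⟩

variable {V : Type*} [Fintype V] [DecidableEq V] (Γ : SimpleGraph V) [DecidableRel Γ.Adj]

/-- the points: the 21-cocliques -/
abbrev Pt : Type _ := ↥(cqs Γ)

/-- the block of a vertex: the 21-cocliques through it -/
def blk (x : V) : Finset (Pt Γ) := univ.filter (fun C : Pt Γ => x ∈ C.1)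

/-- the system of blocks -/
def sys : Set (Finset (Pt Γ)) := Set.range (blk Γ)

variable {Γ}

theorem mem_blk {x : V} {C : Pt Γ} : C ∈ blk Γ x ↔ x ∈ C.1 := by
  rw [blk, mem_filter]
  simp

theorem card_pt (h : Is77 Γ) : Fintype.card (Pt Γ) = 22 := by
  rw [Fintype.card_coe, card_cqs h]

theorem card_blk (h : Is77 Γ) (x : V) : (blk Γ x).card = 6 := by
  rw [blk, card_sub (cqs Γ) (fun C => x ∈ C), card_cqs_vertex h x]

theorem blk_inter (x y : V) : blk Γ x ∩ blk Γ y = univ.filter (fun C : Pt Γ => x ∈ C.1 ∧ y ∈ C.1) := by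
  ext C
  rw [mem_inter, mem_blk, mem_blk, mem_filter]
  simp

theorem card_blk_inter_adj {x y : V} (hadj : Γ.Adj x y) : (blk Γ x ∩ blk Γ y).card = 0 := by
  rw [blk_inter, card_sub (cqs Γ) (fun C => x ∈ C ∧ y ∈ C), cqs_adj hadj, card_empty]

theorem card_blk_inter_na (h : Is77 Γ) {x y : V} (hna : NA Γ x y) :
    (blk Γ x ∩ blk Γ y).card = 2 := by
  rw [blk_inter, card_sub (cqs Γ) (fun C => x ∈ C ∧ y ∈ C), card_cqs_pair h hna]

theorem card_blk_inter_le (h : Is77 Γ) {x y : V} (hne : x ≠ y) :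
    (blk Γ x ∩ blk Γ y).card ≤ 2 := by
  by_cases hadj : Γ.Adj x y
  · rw [card_blk_inter_adj hadj]
    norm_num
  · rw [card_blk_inter_na h ⟨hne, hadj⟩]

theorem blk_injective (h : Is77 Γ) : Function.Injective (blk Γ) := by
  intro x y hxy
  by_contra hne
  have h1 := card_blk_inter_le h hne
  rw [hxy, inter_self, card_blk h] at h1
  omega

/-- adjacency is disjointness of blocks -/
theorem adj_iff (h : Is77 Γ) (x y : V) :
    Γ.Adj x y ↔ x ≠ y ∧ Disjoint (blk Γ x) (blk Γ y) := by
  constructor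
  · intro hadj
    refine ⟨hadj.ne, ?_⟩
    rw [disjoint_iff_inter_eq_empty, ← card_eq_zero]
    exact card_blk_inter_adj hadj
  · rintro ⟨hne, hd⟩
    by_contra hadj
    have h1 := card_blk_inter_na h ⟨hne, hadj⟩
    rw [disjoint_iff_inter_eq_empty] at hd
    rw [hd, card_empty] at h1
    omega

theorem exists_blk_of_triple (h : Is77 Γ) (T : Finset (Pt Γ)) (hT : T.card = 3) :
    ∃ x : V, T ⊆ blk Γ x := by
  have hPS : (powersetCard 3 (univ : Finset (Pt Γ))).card = 1540 := by
    rw [card_powersetCard, card_univ, card_pt h]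
    decide
  have hdc := sum_card_bipartiteAbove_eq_sum_card_bipartiteBelow
    (fun (T : Finset (Pt Γ)) (x : V) => T ⊆ blk Γ x)
    (s := powersetCard 3 (univ : Finset (Pt Γ))) (t := (univ : Finset V))
  have hR : ∀ x ∈ (univ : Finset V),
      (bipartiteBelow (fun (T : Finset (Pt Γ)) (x : V) => T ⊆ blk Γ x)
        (powersetCard 3 (univ : Finset (Pt Γ))) x).card = 20 := by
    intro x _
    have : bipartiteBelow (fun (T : Finset (Pt Γ)) (x : V) => T ⊆ blk Γ x)
        (powersetCard 3 (univ : Finset (Pt Γ))) x = powersetCard 3 (blk Γ x) := by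
      ext T
      rw [mem_bipartiteBelow, mem_powersetCard, mem_powersetCard]
      constructor
      · rintro ⟨⟨-, h3⟩, hsub⟩
        exact ⟨hsub, h3⟩
      · rintro ⟨hsub, h3⟩
        exact ⟨⟨subset_univ _, h3⟩, hsub⟩
    rw [this, card_powersetCard, card_blk h x]
    rfl
  have hL : ∀ T ∈ powersetCard 3 (univ : Finset (Pt Γ)),
      (bipartiteAbove (fun (T : Finset (Pt Γ)) (x : V) => T ⊆ blk Γ x)
        (univ : Finset V) T).card ≤ 1 := by
    intro T hT'
    rw [card_le_one]
    intro a ha b hb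
    rw [mem_bipartiteAbove] at ha hb
    by_contra hne
    have h2 := card_blk_inter_le h hne
    have h3 : 3 ≤ (blk Γ a ∩ blk Γ b).card := by
      rw [← (mem_powersetCard.mp hT').2]
      exact card_le_card (subset_inter ha.2 hb.2)
    omega
  rw [sum_congr rfl hR, sum_const, card_univ, h.card] at hdc
  by_contra hcon
  push Not at hcon
  have hT0 : (bipartiteAbove (fun (T : Finset (Pt Γ)) (x : V) => T ⊆ blk Γ x)
      (univ : Finset V) T).card = 0 := by
    rw [card_eq_zero, eq_empty_iff_forall_notMem]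
    intro u hu
    rw [mem_bipartiteAbove] at hu
    exact hcon u hu.2
  have hTmem : T ∈ powersetCard 3 (univ : Finset (Pt Γ)) :=
    mem_powersetCard.mpr ⟨subset_univ _, hT⟩
  have hsplit := add_sum_erase (powersetCard 3 (univ : Finset (Pt Γ)))
    (fun T => (bipartiteAbove (fun (T : Finset (Pt Γ)) (x : V) => T ⊆ blk Γ x)
      (univ : Finset V) T).card) hTmem
  have hle := sum_le_card_nsmul
    ((powersetCard 3 (univ : Finset (Pt Γ))).erase T)
    (fun T => (bipartiteAbove (fun (T : Finset (Pt Γ)) (x : V) => T ⊆ blk Γ x)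
      (univ : Finset V) T).card) 1 (fun x hx => hL x (mem_of_mem_erase hx))
  rw [card_erase_of_mem hTmem, hPS] at hle
  simp only [smul_eq_mul] at hle hdc
  rw [hdc] at hsplit
  rw [hT0] at hsplit
  omega

/-- the blocks form a Steiner system `S(3, 6, 22)` -/
theorem sys_steiner (h : Is77 Γ) : IsSteinerSystem 3 6 (sys Γ) := by
  constructor
  · rintro l ⟨x, rfl⟩
    exact card_blk h x
  · intro s hs
    obtain ⟨x, hsx⟩ := exists_blk_of_triple h s hs
    refine ⟨blk Γ x, ⟨⟨x, rfl⟩, hsx⟩, ?_⟩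
    rintro l ⟨⟨x', rfl⟩, hsl⟩
    by_contra hne
    have hne' : x' ≠ x := fun hh => hne (by rw [hh])
    have h2 := card_blk_inter_le h hne'
    have h3 : 3 ≤ (blk Γ x' ∩ blk Γ x).card := by
      rw [← hs]
      exact card_le_card (subset_inter hsl hsx)
    omega

section iso

variable {W : Type*} [Fintype W] [DecidableEq W] {Δ : SimpleGraph W} [DecidableRel Δ.Adj]

/-- two strongly regular graphs with parameters (77, 16, 0, 4) are isomorphic -/
theorem iso77 (hΓ : Is77 Γ) (hΔ : Is77 Δ) : Nonempty (Γ ≃g Δ) := by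
  obtain ⟨e, he⟩ := Cfsg.Agent.Lib.Helper41_S22b.steiner22_unique (card_pt hΓ) (card_pt hΔ)
    (sys_steiner hΓ) (sys_steiner hΔ)
  have hex : ∀ x : V, ∃ x' : W, blk Δ x' = (blk Γ x).image e := by
    intro x
    have : (blk Γ x).image e ∈ sys Δ := by
      rw [← he]
      exact ⟨blk Γ x, ⟨x, rfl⟩, rfl⟩
    obtain ⟨x', hx'⟩ := this
    exact ⟨x', hx'⟩
  choose φ hφ using hex
  have hinj : Function.Injective φ := by
    intro x y hxy
    have h1 : (blk Γ x).image e = (blk Γ y).image e := by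
      rw [← hφ x, ← hφ y, hxy]
    exact blk_injective hΓ (image_injective e.injective h1)
  have hbij : Function.Bijective φ := by
    rw [Fintype.bijective_iff_injective_and_card]
    exact ⟨hinj, by rw [hΓ.card, hΔ.card]⟩
  refine ⟨⟨Equiv.ofBijective φ hbij, ?_⟩⟩
  intro x y
  show Δ.Adj (φ x) (φ y) ↔ Γ.Adj x y
  rw [adj_iff hΔ, adj_iff hΓ, hφ x, hφ y, disjoint_image e.injective, hinj.ne_iff]

end iso

end Cfsg.Agent.Lib.Helper7_SRG77f
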