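import Mathlib
import Cfsg.Agent.Lib.Helper61_F4

/-!
helper7: explicit data in `SU_5(2)` over the computable field `F4` (for the row S5796):
an element `Z` of order 11, an element `Y` of order 5 with `Y Z Y⁻¹ = Z ^ 5`, an involution `W`
with `⟨Z, Y, W⟩ ≅ L_2(11)`, and an orbit `O` of 55 points (165 vectors) of `⟨Z, Y, W⟩`.
All facts are checked by `decide`.
-/

set_option autoImplicit false

namespace Cfsg.Agent.Lib.Helper7_SU5_Data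

open Matrix Cfsg.Agent.Lib.Helper61_F4

/-- `ω` -/
def w : F4 := F4.mk 0 1
/-- `ω² = ω + 1` -/
def w2 : F4 := F4.mk 1 1

def Z : Matrix (Fin 5) (Fin 5) F4 :=
  !![0, w2, w, w2, 0; 1, 0, 0, 0, 0; 0, 0, w2, 1, w; 0, w, 0, w, w2; 0, 1, w2, 0, w]

def Y : Matrix (Fin 5) (Fin 5) F4 :=
  !![0, 1, 0, w, w; 1, 0, 0, w2, w2; 1, w, 0, w2, 0; w, w2, 0, 0, 1; 0, 0, w, 0, 0]

def W : Matrix (Fin 5) (Fin 5) F4 :=
  !![0, 1, 0, 0, 0; 1, 0, 0, 0, 0; 0, 0, 0, 0, w2; 0, 0, 0, 1, 0; 0, 0, w, 0, 0]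

/-- the transposition matrix of the coordinates `0` and `2` -/
def G0 : Matrix (Fin 5) (Fin 5) F4 :=
  !![0, 0, 1, 0, 0; 0, 1, 0, 0, 0; 1, 0, 0, 0, 0; 0, 0, 0, 1, 0; 0, 0, 0, 0, 1]

def v1 : Fin 5 → F4 := ![0, 0, 1, w, w]

/-- the powers of `Z` -/
def Zp : ℕ → Matrix (Fin 5) (Fin 5) F4
  | 0 => 1
  | 1 => Z
  | 2 => !![w2, 1, 1, w2, 1; 0, w2, w, w2, 0; 0, 0, w2, 1, 1; w, 0, w, w2, 0; 1, w, w2, w2, w]
  | 3 => !![1, w, 1, w, w; w2, 1, 1, w2, 1; 0, w2, 1, 1, 0; 0, 0, w, w, 1; w, 0, 1, 1, 0]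
  | 4 => !![w, w, 0, 1, 0; 1, w, 1, w, w; w2, w, w2, w2, 1; 0, w, w, 1, 0; 0, w2, 0, w, 1]
  | 5 => !![w, w2, w2, w2, w2; w, w, 0, 1, 0; w, w, 0, 0, 1; w, w, 1, 0, 0; w2, w, w2, w2, w2]
  | 6 => !![w2, w2, w2, w2, w; w, w2, w2, w2, w2; w, 0, 0, 1, w; w, 1, 0, 0, w; w, 0, 1, 0, w]
  | 7 => !![w2, 1, w, 0, 0; w2, w2, w2, w2, w; 0, 1, w, w2, 0; 1, w2, w, 1, w2; 0, w2, 1, 0, 1]
  | 8 => !![1, w, 0, 0, w2; w2, 1, w, 0, 0; 1, 1, 1, w2, 1; w2, w, 1, w2, 1; w2, 1, 0, 1, 0]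
  | 9 => !![w, 0, 0, w2, 1; 1, w, 0, 0, w2; 1, w2, w, w2, w; w, w, 1, w, w; 1, 0, 1, 0, w2]
  | 10 => !![0, 1, 0, 0, 0; w, 0, 0, w2, 1; w2, 0, w, 0, w; w, 0, 1, w2, 0; 0, 0, w2, w, w2]
  | _ => 1

/-- the matrix with columns `Z ^ k v1`, `k < 5`, and its inverse -/
def B : Matrix (Fin 5) (Fin 5) F4 :=
  !![0, w2, w, 1, w; 0, 0, w2, w, 1; 1, w, w2, w2, 0; w, w, w2, w2, 0; w, 0, 1, w2, 1]

def Bi : Matrix (Fin 5) (Fin 5) F4 :=
  !![0, 0, w, w, 0; w, 0, w, w, w2; w, w, 1, w, 1; w2, w, 1, 0, w2; 0, w2, 1, 1, w]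

/-- code of a vector: base-4 digits -/
def code (v : Fin 5 → F4) : ℕ :=
  F4.idx (v 0) + 4 * F4.idx (v 1) + 16 * F4.idx (v 2) + 64 * F4.idx (v 3) + 256 * F4.idx (v 4)

def Ocodes : List ℕ :=
  [1, 2, 3, 4, 8, 12, 22, 23, 27, 31, 37, 41, 43, 45, 54, 58, 61, 62, 64, 79, 84, 97, 98, 99, 100, 104, 114, 124, 128, 133, 147, 148, 168, 177, 178, 179, 184, 188, 192, 202, 209, 210, 211, 212, 220, 225, 232, 252, 263, 265, 266, 267, 273, 300, 323, 328, 342, 351, 357, 358, 359, 363, 374, 377, 378, 379, 382, 386, 387, 388, 392, 396, 406, 407, 410, 414, 423, 429, 437, 442, 451, 470, 473, 487, 490, 496, 511, 521, 525, 526, 527, 546, 564, 577, 592, 597, 619, 622, 633, 639, 641, 652, 663, 667, 669, 670, 671, 677, 683, 697, 698, 699, 701, 705, 707, 708, 712, 716, 730, 735, 743, 745, 747, 751, 758, 761, 773, 774, 775, 782, 792, 819, 833, 834, 836, 840, 844, 859, 862, 869, 879, 885,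 889, 893, 894, 898, 917, 926, 928, 938, 951, 957, 962, 964, 982, 989, 990, 991, 997, 998, 999, 1001, 1005, 1018, 1021]

/-- membership in the orbit `O` -/
def inO (v : Fin 5 → F4) : Prop := code v ∈ Ocodes

instance (v : Fin 5 → F4) : Decidable (inO v) := by unfold inO; infer_instance

/-- the hermitian form -/
def herm (u v : Fin 5 → F4) : F4 :=
  u 0 * v 0 ^ 2 + u 1 * v 1 ^ 2 + u 2 * v 2 ^ 2 + u 3 * v 3 ^ 2 + u 4 * v 4 ^ 2

set_option maxRecDepth 100000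

theorem Z_unitary : Zᵀ * Z.map (fun x => x ^ 2) = 1 := by decide
theorem Y_unitary : Yᵀ * Y.map (fun x => x ^ 2) = 1 := by decide
theorem W_unitary : Wᵀ * W.map (fun x => x ^ 2) = 1 := by decide
theorem G0_unitary : G0ᵀ * G0.map (fun x => x ^ 2) = 1 := by decide


/-! ### powers -/

theorem Zp_succ : ∀ k : Fin 10, Zp (k.val + 1) = Zp k.val * Z := by decide
theorem Zp_eleven : Zp 10 * Z = 1 := by decide
theorem Z_ne_one : Z ≠ 1 := by decide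
theorem Y_pow_five : Y * Y * Y * Y * Y = 1 := by decide
theorem W_mul_self : W * W = 1 := by decide
theorem G0_mul_self : G0 * G0 = 1 := by decide

/-! ### `Y` normalizes `⟨Z⟩` and fixes `v1` -/

theorem Y1_Z : Y * Z = Zp 5 * Y := by decide
theorem Y2_Z : (Y * Y) * Z = Zp 3 * (Y * Y) := by decide
theorem Y3_Z : (Y * Y * Y) * Z = Zp 4 * (Y * Y * Y) := by decide
theorem Y4_Z : (Y * Y * Y * Y) * Z = Zp 9 * (Y * Y * Y * Y) := by decide
theorem Y_v1 : Y *ᵥ v1 = v1 := by decide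

/-! ### traces -/

/-- the traces of the powers of `Z` -/
def tr : ℕ → F4
  | 0 => 1
  | 1 => w2
  | 2 => w
  | 3 => w2
  | 4 => w2
  | 5 => w2
  | 6 => w
  | 7 => w
  | 8 => w
  | 9 => w2
  | 10 => w
  | _ => 1

theorem trace_Zp : ∀ k : Fin 11, (Zp k.val).trace = tr k.val := by decide

theorem herm_v1 : ∀ k : Fin 11, herm (Zp k.val *ᵥ v1) v1 = tr k.val := by decide

/-! ### the basis `Z ^ k v1` -/

theorem B_mul_Bi : B * Bi = 1 := by decide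
theorem B_col : ∀ k : Fin 5, (fun i => B i k) = Zp k.val *ᵥ v1 := by decide

/-! ### the vectors with the inner products of `v1` -/

theorem exhaustive : ∀ a b c d e : F4,
    herm ![a, b, c, d, e] ![a, b, c, d, e] = 1 →
    herm (Z *ᵥ ![a, b, c, d, e]) ![a, b, c, d, e] = w2 →
    herm (Zp 2 *ᵥ ![a, b, c, d, e]) ![a, b, c, d, e] = w →
    ∃ s ∈ [1, w, w2], ∃ i ∈ List.range 11, ![a, b, c, d, e] = s • (Zp i *ᵥ v1) := by decide +kernel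

/-! ### the orbit `O` -/

theorem Z_O : ∀ a b c d e : F4, inO ![a, b, c, d, e] → inO (Z *ᵥ ![a, b, c, d, e]) := by decide +kernel
theorem Y_O : ∀ a b c d e : F4, inO ![a, b, c, d, e] → inO (Y *ᵥ ![a, b, c, d, e]) := by decide +kernel
theorem W_O : ∀ a b c d e : F4, inO ![a, b, c, d, e] → inO (W *ᵥ ![a, b, c, d, e]) := by decide +kernel
theorem e0_O : inO ![1, 0, 0, 0, 0] := by decide
theorem G0_e0_O : ¬ inO (G0 *ᵥ ![1, 0, 0, 0, 0]) := by decide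

/-! ### `W` does not normalize `⟨Z⟩` -/

theorem W_Z : ∀ j : Fin 11, W * Z ≠ Zp j.val * W := by decide

end Cfsg.Agent.Lib.Helper7_SU5_Data
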