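import Mathlib
import Cfsg.Prelude.Def_GeometricClasses
import Cfsg.Prelude.Def_LieClassical
import Cfsg.Agent.Lib.Helper61_F4
import Cfsg.Agent.Lib.Helper7_SU5_Data
import Cfsg.Agent.Lib.Helper13_Herm
import Cfsg.Agent.Lib.Helper13_GU

/-!
helper7: the explicit subgroup `M1 ≅ L_2(11)` of `SU_5(2)` over an arbitrary field `F` with four elements
(transfer of the data of `Helper7_SU5_Data` along the ring isomorphism `F ≃ F4`), with the three facts:
* `M1 ≠ SU_5(2)`;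
* every element of `SU_5(2)` normalizing `⟨z1⟩` (`z1` the explicit element of order 11) lies in `M1`;
* `M1` has an element `w1` not normalizing `⟨z1⟩`.
-/

set_option autoImplicit false
set_option linter.unusedSectionVars false

namespace Cfsg.Agent.Lib.Helper7_SU5_Model

open Matrix Cfsg.Geo Cfsg.Agent.Lib.Helper61_F4 Cfsg.Agent.Lib.Helper7_SU5_Data
open Cfsg.Agent.Lib.Helper13_Herm

section generic

variable {F : Type*} [Field F] [Fintype F] {n q : ℕ}

/-- a matrix with `Aᵀ A^σ = 1` preserves the hermitian form -/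
theorem herm_of_gram (hF : Fintype.card F = q ^ 2) (A : Matrix (Fin n) (Fin n) F)
    (hA : Aᵀ * A.map (fun x => x ^ q) = 1) (u v : Fin n → F) :
    Cfsg.hermForm n F q (A *ᵥ u) (A *ᵥ v) = Cfsg.hermForm n F q u v := by
  have h1 : ∀ x y : Fin n → F, Cfsg.hermForm n F q x y = x ⬝ᵥ (fun i => y i ^ q) := fun x y => rfl
  have h2 : (fun i => (A *ᵥ v) i ^ q) = A.map (fun x => x ^ q) *ᵥ (fun i => v i ^ q) := by
    funext i
    simp only [Matrix.mulVec, dotProduct, Matrix.map_apply]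
    rw [sum_pow_q hF]
    apply Finset.sum_congr rfl
    intro j _
    rw [mul_pow]
  rw [h1, h1, h2, Matrix.dotProduct_mulVec, ← Matrix.vecMul_transpose, Matrix.vecMul_vecMul, hA,
    Matrix.vecMul_one]

end generic

/-! ### transfer along `e : F ≃+* F4` -/

section transfer

variable {F : Type*} [Field F] (e : F ≃+* F4)

/-- transfer of a matrix -/
def mF (A : Matrix (Fin 5) (Fin 5) F4) : Matrix (Fin 5) (Fin 5) F := A.map e.symm

/-- transfer of a vector -/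
def vF (u : Fin 5 → F4) : Fin 5 → F := fun i => e.symm (u i)

/-- coordinates of a vector in `F4` -/
def vC (v : Fin 5 → F) : Fin 5 → F4 := fun i => e (v i)

lemma mF_mul (A B : Matrix (Fin 5) (Fin 5) F4) : mF e (A * B) = mF e A * mF e B := by
  unfold mF
  exact Matrix.map_mul

lemma mF_one : mF e 1 = 1 := by
  unfold mF
  exact Matrix.map_one _ (map_zero _) (map_one _)

lemma mF_injective : Function.Injective (mF e) := by
  intro A B h
  ext i j
  have := congrFun (congrFun h i) j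
  simpa [mF] using this

lemma vF_vC (v : Fin 5 → F) : vF e (vC e v) = v := by
  funext i
  simp [vF, vC]

lemma vC_vF (u : Fin 5 → F4) : vC e (vF e u) = u := by
  funext i
  simp [vF, vC]

lemma vF_injective : Function.Injective (vF e) := by
  intro u v h
  rw [← vC_vF e u, ← vC_vF e v, h]

lemma mF_mulVec (A : Matrix (Fin 5) (Fin 5) F4) (u : Fin 5 → F4) :
    mF e A *ᵥ vF e u = vF e (A *ᵥ u) := by
  funext i
  exact (RingHom.map_mulVec (e.symm : F4 →+* F) A u i).symm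

lemma vC_mulVec (A : Matrix (Fin 5) (Fin 5) F4) (v : Fin 5 → F) :
    vC e (mF e A *ᵥ v) = A *ᵥ vC e v := by
  conv_lhs => rw [← vF_vC e v]
  rw [mF_mulVec, vC_vF]

lemma vF_smul (s : F4) (u : Fin 5 → F4) : vF e (s • u) = e.symm s • vF e u := by
  funext i
  simp [vF]

lemma mF_gram (A : Matrix (Fin 5) (Fin 5) F4) (hA : Aᵀ * A.map (fun x => x ^ 2) = 1) :
    (mF e A)ᵀ * (mF e A).map (fun x => x ^ 2) = 1 := by
  have h1 : (mF e A)ᵀ = mF e Aᵀ := by
    ext i j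
    simp [mF]
  have h2 : (mF e A).map (fun x => x ^ 2) = mF e (A.map (fun x => x ^ 2)) := by
    ext i j
    simp [mF]
  rw [h1, h2, ← mF_mul, hA, mF_one]

lemma trace_mF (A : Matrix (Fin 5) (Fin 5) F4) : (mF e A).trace = e.symm A.trace := by
  simp [mF, Matrix.trace, Fin.sum_univ_five]

lemma herm_vF (u v : Fin 5 → F4) :
    Cfsg.hermForm 5 F 2 (vF e u) (vF e v) = e.symm (herm u v) := by
  simp [Cfsg.hermForm, herm, vF, Fin.sum_univ_five]

lemma vec_eta (u : Fin 5 → F4) : u = ![u 0, u 1, u 2, u 3, u 4] := by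
  funext i
  fin_cases i <;> rfl

end transfer

/-! ### the model -/

section model

variable {F : Type*} [Field F] [Fintype F]

/-- a `GL` element from a matrix and a right inverse -/
def mkGL (A A' : Matrix (Fin 5) (Fin 5) F) (h : A * A' = 1) : GL (Fin 5) F :=
  ⟨A, A', h, mul_eq_one_comm.mp h⟩

@[simp] lemma mkGL_val (A A' : Matrix (Fin 5) (Fin 5) F) (h : A * A' = 1) :
    ((mkGL A A' h : GL (Fin 5) F) : Matrix (Fin 5) (Fin 5) F) = A := rfl

variable (e : F ≃+* F4)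

/-- the element of order 11 -/
def z1 : GL (Fin 5) F :=
  mkGL (mF e Z) (mF e (Zp 10)) (by
    rw [← mF_mul, mul_eq_one_comm.mp Zp_eleven, mF_one])

/-- the element of order 5 normalizing `⟨z1⟩` -/
def y1 : GL (Fin 5) F :=
  mkGL (mF e Y) (mF e (Y * Y * Y * Y)) (by
    rw [← mF_mul]
    have : Y * (Y * Y * Y * Y) = 1 := by
      rw [← Y_pow_five]
      simp only [mul_assoc]
    rw [this, mF_one])

/-- the extra involution -/
def w1 : GL (Fin 5) F :=
  mkGL (mF e W) (mF e W) (by rw [← mF_mul, W_mul_self, mF_one])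

/-- a transposition matrix -/
def g0 : GL (Fin 5) F :=
  mkGL (mF e G0) (mF e G0) (by rw [← mF_mul, G0_mul_self, mF_one])

lemma mem_GU_of_gram (hF : Fintype.card F = 2 ^ 2) (g : GL (Fin 5) F)
    (hg : (g.1)ᵀ * (g.1).map (fun x => x ^ 2) = 1) : g ∈ Cfsg.GU 5 F 2 := by
  rw [Cfsg.Agent.Lib.Helper13_GU.mem_GU_iff]
  intro u v
  exact herm_of_gram hF g.1 hg u v

lemma z1_mem_GU (hF : Fintype.card F = 2 ^ 2) : z1 e ∈ Cfsg.GU 5 F 2 :=
  mem_GU_of_gram hF _ (mF_gram e Z Z_unitary)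

lemma y1_mem_GU (hF : Fintype.card F = 2 ^ 2) : y1 e ∈ Cfsg.GU 5 F 2 :=
  mem_GU_of_gram hF _ (mF_gram e Y Y_unitary)

lemma w1_mem_GU (hF : Fintype.card F = 2 ^ 2) : w1 e ∈ Cfsg.GU 5 F 2 :=
  mem_GU_of_gram hF _ (mF_gram e W W_unitary)

lemma g0_mem_GU (hF : Fintype.card F = 2 ^ 2) : g0 e ∈ Cfsg.GU 5 F 2 :=
  mem_GU_of_gram hF _ (mF_gram e G0 G0_unitary)

/-- an element of order prime to 3 has determinant one -/
lemma mem_SL_of_pow (hF : Fintype.card F = 2 ^ 2) (g : GL (Fin 5) F) (k : ℕ) (hk : Nat.Coprime k 3)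
    (hg : g ^ k = 1) : g ∈ specialLinear (Fin 5) F := by
  classical
  show Matrix.GeneralLinearGroup.det g = 1
  set d := Matrix.GeneralLinearGroup.det g with hd
  have h1 : d ^ k = 1 := by rw [hd, ← map_pow, hg, map_one]
  have h2 : d ^ 3 = 1 := by
    have hc : Fintype.card Fˣ = 3 := by rw [Fintype.card_units, hF]; norm_num
    rw [← hc]
    exact pow_card_eq_one
  have h3 : orderOf d ∣ Nat.gcd k 3 := Nat.dvd_gcd (orderOf_dvd_of_pow_eq_one h1) (orderOf_dvd_of_pow_eq_one h2)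
  rw [hk, Nat.dvd_one] at h3
  exact orderOf_eq_one_iff.mp h3

lemma z1_pow_val : ∀ k, k ≤ 10 → ((z1 e ^ k : GL (Fin 5) F) : Matrix (Fin 5) (Fin 5) F) = mF e (Zp k) := by
  intro k
  induction k with
  | zero => intro _; simp [Zp, mF_one]
  | succ k ih =>
    intro hk
    rw [pow_succ, Units.val_mul, ih (by omega)]
    have := Zp_succ ⟨k, by omega⟩
    simp only at this
    rw [this, mF_mul]
    rfl

lemma z1_pow_eleven : z1 e ^ 11 = 1 := by
  apply Units.ext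
  rw [pow_succ, Units.val_mul, z1_pow_val e 10 le_rfl]
  show mF e (Zp 10) * mF e Z = 1
  rw [← mF_mul, Zp_eleven, mF_one]

lemma z1_ne_one : z1 e ≠ 1 := by
  intro h
  have h1 : mF e Z = mF e 1 := by
    rw [mF_one]
    exact congrArg Units.val h
  exact Z_ne_one (mF_injective e h1)

lemma orderOf_z1 : orderOf (z1 e) = 11 := by
  have : Fact (Nat.Prime 11) := ⟨by norm_num⟩
  exact orderOf_eq_prime (z1_pow_eleven e) (z1_ne_one e)

lemma mem_zpowers_z1 {x : GL (Fin 5) F} (hx : x ∈ Subgroup.zpowers (z1 e)) :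
    ∃ j, j ≤ 10 ∧ x = z1 e ^ j := by
  obtain ⟨k, rfl⟩ := Subgroup.mem_zpowers_iff.mp hx
  have h1 : z1 e ^ (k % ((orderOf (z1 e) : ℕ) : ℤ)) = z1 e ^ k := zpow_mod_orderOf _ _
  rw [orderOf_z1] at h1
  have h2 : 0 ≤ k % ((11 : ℕ) : ℤ) := Int.emod_nonneg _ (by norm_num)
  have h3 : k % ((11 : ℕ) : ℤ) < 11 := Int.emod_lt_of_pos _ (by norm_num)
  refine ⟨(k % ((11 : ℕ) : ℤ)).toNat, by omega, ?_⟩
  rw [← h1, ← zpow_natCast, Int.toNat_of_nonneg h2]

lemma z1_mem_SL (hF : Fintype.card F = 2 ^ 2) : z1 e ∈ specialLinear (Fin 5) F :=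
  mem_SL_of_pow hF _ 11 (by norm_num) (z1_pow_eleven e)

lemma y1_pow_five : y1 e ^ 5 = 1 := by
  apply Units.ext
  show (mF e Y) ^ 5 = 1
  have : (mF e Y) ^ 5 = mF e (Y * Y * Y * Y * Y) := by
    simp only [mF_mul]
    simp only [pow_succ, pow_zero, one_mul]
  rw [this, Y_pow_five, mF_one]

lemma w1_pow_two : w1 e ^ 2 = 1 := by
  apply Units.ext
  show (mF e W) ^ 2 = 1
  rw [pow_two, ← mF_mul, W_mul_self, mF_one]

lemma g0_pow_two : g0 e ^ 2 = 1 := by
  apply Units.ext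
  show (mF e G0) ^ 2 = 1
  rw [pow_two, ← mF_mul, G0_mul_self, mF_one]

/-- the orbit `O` over `F` -/
def OF : Set (Fin 5 → F) := {v | inO (vC e v)}

/-- `M1`: the stabilizer of `O` in `SU_5(2)` -/
def M1 : Subgroup (GL (Fin 5) F) where
  carrier := {g | g ∈ Cfsg.GU 5 F 2 ∧ g ∈ specialLinear (Fin 5) F ∧
    ∀ v, (g.1 *ᵥ v) ∈ OF e ↔ v ∈ OF e}
  mul_mem' := by
    rintro a b ⟨ha1, ha2, ha3⟩ ⟨hb1, hb2, hb3⟩
    refine ⟨mul_mem ha1 hb1, mul_mem ha2 hb2, fun v => ?_⟩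
    rw [Units.val_mul, ← Matrix.mulVec_mulVec, ha3, hb3]
  one_mem' := ⟨one_mem _, one_mem _, fun v => by simp⟩
  inv_mem' := by
    rintro a ⟨ha1, ha2, ha3⟩
    refine ⟨inv_mem ha1, inv_mem ha2, fun v => ?_⟩
    rw [← ha3 ((a⁻¹ : GL (Fin 5) F).1 *ᵥ v), Matrix.mulVec_mulVec, ← Units.val_mul, mul_inv_cancel,
      Units.val_one, Matrix.one_mulVec]

lemma M1_le : M1 e ≤ Cfsg.GU 5 F 2 ⊓ specialLinear (Fin 5) F := fun _ hg => ⟨hg.1, hg.2.1⟩

lemma stab_of_forward (g : GL (Fin 5) F) (k : ℕ) (hk : g ^ (k + 1) = 1)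
    (hf : ∀ v ∈ OF e, g.1 *ᵥ v ∈ OF e) : ∀ v, g.1 *ᵥ v ∈ OF e ↔ v ∈ OF e := by
  have hpow : ∀ j : ℕ, ∀ v ∈ OF e, (g ^ j : GL (Fin 5) F).1 *ᵥ v ∈ OF e := by
    intro j
    induction j with
    | zero => intro v hv; simpa using hv
    | succ j ih =>
      intro v hv
      rw [pow_succ, Units.val_mul, ← Matrix.mulVec_mulVec]
      exact ih _ (hf v hv)
  intro v
  refine ⟨fun h => ?_, hf v⟩
  have := hpow k _ h
  rwa [Matrix.mulVec_mulVec, ← Units.val_mul, ← pow_succ, hk, Units.val_one, Matrix.one_mulVec] at this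

lemma forward_of_data (A : Matrix (Fin 5) (Fin 5) F4)
    (hA : ∀ a b c d e' : F4, inO ![a, b, c, d, e'] → inO (A *ᵥ ![a, b, c, d, e'])) :
    ∀ v ∈ OF e, mF e A *ᵥ v ∈ OF e := by
  intro v hv
  show inO (vC e (mF e A *ᵥ v))
  rw [vC_mulVec]
  have hv' : inO (vC e v) := hv
  rw [vec_eta (vC e v)] at hv' ⊢
  exact hA _ _ _ _ _ hv'

lemma z1_mem_M1 (hF : Fintype.card F = 2 ^ 2) : z1 e ∈ M1 e :=
  ⟨z1_mem_GU e hF, z1_mem_SL e hF, stab_of_forward e _ 10 (z1_pow_eleven e) (forward_of_data e Z Z_O)⟩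

lemma y1_mem_M1 (hF : Fintype.card F = 2 ^ 2) : y1 e ∈ M1 e :=
  ⟨y1_mem_GU e hF, mem_SL_of_pow hF _ 5 (by norm_num) (y1_pow_five e),
    stab_of_forward e _ 4 (y1_pow_five e) (forward_of_data e Y Y_O)⟩

lemma w1_mem_M1 (hF : Fintype.card F = 2 ^ 2) : w1 e ∈ M1 e :=
  ⟨w1_mem_GU e hF, mem_SL_of_pow hF _ 2 (by norm_num) (w1_pow_two e),
    stab_of_forward e _ 1 (w1_pow_two e) (forward_of_data e W W_O)⟩

/-- `M1` is not all of `SU_5(2)` -/
theorem M1_ne (hF : Fintype.card F = 2 ^ 2) : M1 e ≠ Cfsg.GU 5 F 2 ⊓ specialLinear (Fin 5) F := by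
  intro h
  have hg : g0 e ∈ M1 e := by
    rw [h]
    exact ⟨g0_mem_GU e hF, mem_SL_of_pow hF _ 2 (by norm_num) (g0_pow_two e)⟩
  have h1 : vF e ![1, 0, 0, 0, 0] ∈ OF e := by
    show inO (vC e (vF e _))
    rw [vC_vF]
    exact e0_O
  have h2 := (hg.2.2 _).mpr h1
  have h3 : (g0 e).1 *ᵥ vF e ![1, 0, 0, 0, 0] = vF e (G0 *ᵥ ![1, 0, 0, 0, 0]) := mF_mulVec e G0 _
  rw [h3] at h2
  have h4 : inO (vC e (vF e (G0 *ᵥ ![1, 0, 0, 0, 0]))) := h2
  rw [vC_vF] at h4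
  exact G0_e0_O h4

/-- `w1` does not normalize `⟨z1⟩` -/
theorem w1_not_normalizes : ¬ (w1 e * z1 e * (w1 e)⁻¹ ∈ Subgroup.zpowers (z1 e)) := by
  intro h
  obtain ⟨j, hj, hx⟩ := mem_zpowers_z1 e h
  have h1 : w1 e * z1 e = z1 e ^ j * w1 e := by
    rw [← hx]
    group
  have h2 := congrArg Units.val h1
  rw [Units.val_mul, Units.val_mul, z1_pow_val e j hj] at h2
  have h3 : mF e (W * Z) = mF e (Zp j * W) := by
    rw [mF_mul, mF_mul]
    exact h2
  exact W_Z ⟨j, by omega⟩ (mF_injective e h3)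

/-! ### the normalizer of `⟨z1⟩` -/

lemma commute_pow {g : GL (Fin 5) F} (hc : g * z1 e = z1 e * g) (k : ℕ) :
    g * z1 e ^ k = z1 e ^ k * g := by
  have : Commute g (z1 e) := hc
  exact (this.pow_right k).eq

lemma herm_z1_pow (k : ℕ) (hk : k ≤ 10) (u v : Fin 5 → F4) :
    Cfsg.hermForm 5 F 2 ((z1 e ^ k : GL (Fin 5) F).1 *ᵥ vF e u) (vF e v) =
      e.symm (herm (Zp k *ᵥ u) v) := by
  rw [z1_pow_val e k hk, mF_mulVec, herm_vF]

/-- an element of `SU_5(2)` commuting with `z1` is a power of `z1` -/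
theorem eq_pow_of_commute (hF : Fintype.card F = 2 ^ 2) (g : GL (Fin 5) F)
    (hgU : g ∈ Cfsg.GU 5 F 2) (hgS : g ∈ specialLinear (Fin 5) F) (hc : g * z1 e = z1 e * g) :
    ∃ i, i ≤ 10 ∧ g = z1 e ^ i := by
  set u₀ : Fin 5 → F4 := vC e (g.1 *ᵥ vF e v1) with hu₀
  have hu : g.1 *ᵥ vF e v1 = vF e u₀ := (vF_vC e _).symm
  -- the inner products of `u₀`
  have hcond : ∀ k, k ≤ 10 → herm (Zp k *ᵥ u₀) u₀ = tr k := by
    intro k hk
    apply e.symm.injective
    rw [← herm_z1_pow e k hk, ← hu, Matrix.mulVec_mulVec, ← Units.val_mul, ← commute_pow e hc k,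
      Units.val_mul, ← Matrix.mulVec_mulVec, (Cfsg.Agent.Lib.Helper13_GU.mem_GU_iff g).mp hgU,
      herm_z1_pow e k hk]
    congr 1
    exact herm_v1 ⟨k, by omega⟩
  have h0 : herm u₀ u₀ = 1 := by
    have := hcond 0 (by norm_num)
    simpa [Zp, tr] using this
  have h1 : herm (Z *ᵥ u₀) u₀ = w2 := hcond 1 (by norm_num)
  have h2 : herm (Zp 2 *ᵥ u₀) u₀ = w := hcond 2 (by norm_num)
  rw [vec_eta u₀] at h0 h1 h2
  obtain ⟨s, hs, i, hi, hsi⟩ := exhaustive _ _ _ _ _ h0 h1 h2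
  rw [← vec_eta u₀] at hsi
  have hi' : i ≤ 10 := by
    have := List.mem_range.mp hi
    omega
  have hs3 : s ^ 3 = 1 := by
    have : ∀ s ∈ [1, w, w2], s ^ 3 = 1 := by decide
    exact this s hs
  set c : F := e.symm s with hc'
  have hc3 : c ^ 3 = 1 := by rw [hc', ← map_pow, hs3, map_one]
  -- `g v1 = c z1^i v1`
  have hgv : g.1 *ᵥ vF e v1 = c • ((z1 e ^ i : GL (Fin 5) F).1 *ᵥ vF e v1) := by
    rw [hu, hsi, vF_smul, z1_pow_val e i hi', mF_mulVec]
  -- equality on the basis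
  have hB : ∀ k : Fin 5, (fun a => mF e B a k) = (z1 e ^ k.val : GL (Fin 5) F).1 *ᵥ vF e v1 := by
    intro k
    rw [z1_pow_val e k.val (by omega), mF_mulVec, ← B_col k]
    rfl
  have hmat : g.1 * mF e B = (c • (z1 e ^ i : GL (Fin 5) F).1) * mF e B := by
    ext a k
    have e1 : (g.1 * mF e B) a k = (g.1 *ᵥ (fun a => mF e B a k)) a := rfl
    have e2 : ((c • (z1 e ^ i : GL (Fin 5) F).1) * mF e B) a k =
        ((c • (z1 e ^ i : GL (Fin 5) F).1) *ᵥ (fun a => mF e B a k)) a := rfl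
    rw [e1, e2, hB k, Matrix.mulVec_mulVec, ← Units.val_mul, commute_pow e hc k.val, Units.val_mul,
      ← Matrix.mulVec_mulVec, hgv, Matrix.mulVec_smul, Matrix.smul_mulVec, Matrix.mulVec_mulVec,
      Matrix.mulVec_mulVec, ← Units.val_mul, ← Units.val_mul, ← pow_add, ← pow_add, add_comm]
  have hBinv : mF e B * mF e Bi = 1 := by rw [← mF_mul, B_mul_Bi, mF_one]
  have hg : g.1 = c • (z1 e ^ i : GL (Fin 5) F).1 := by
    have := congrArg (· * mF e Bi) hmat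
    simpa [mul_assoc, hBinv] using this
  -- determinants
  have hdet : g.1.det = 1 := by
    have : Matrix.GeneralLinearGroup.det g = 1 := hgS
    have := congrArg Units.val this
    simpa using this
  have hdz : (z1 e ^ i : GL (Fin 5) F).1.det = 1 := by
    have h : z1 e ^ i ∈ specialLinear (Fin 5) F := pow_mem (z1_mem_SL e hF) i
    have : Matrix.GeneralLinearGroup.det (z1 e ^ i) = 1 := h
    have := congrArg Units.val this
    simpa using this
  rw [hg, Matrix.det_smul, hdz, mul_one, Fintype.card_fin] at hdet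
  have hc1 : c = 1 := by
    have : c ^ 6 = 1 := by rw [show 6 = 3 * 2 by norm_num, pow_mul, hc3, one_pow]
    rw [pow_succ, hdet, one_mul] at this
    exact this
  refine ⟨i, hi', Units.ext ?_⟩
  rw [hg, hc1, one_smul]

/-- an element of `SU_5(2)` conjugating `z1` to `z1 ^ j`, `j` realized by `y ∈ M1`, lies in `M1` -/
lemma mem_M1_of_conj (hF : Fintype.card F = 2 ^ 2) {y : GL (Fin 5) F} (hy : y ∈ M1 e) {j : ℕ}
    (hyz : y * z1 e = z1 e ^ j * y) {g : GL (Fin 5) F} (hgU : g ∈ Cfsg.GU 5 F 2)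
    (hgS : g ∈ specialLinear (Fin 5) F) (hj : g * z1 e * g⁻¹ = z1 e ^ j) : g ∈ M1 e := by
  have hc : (y⁻¹ * g) * z1 e = z1 e * (y⁻¹ * g) := by
    have h1 : g * z1 e = z1 e ^ j * g := by rw [← hj]; group
    have h2 : y⁻¹ * z1 e ^ j = z1 e * y⁻¹ := by
      rw [inv_mul_eq_iff_eq_mul, ← mul_assoc, hyz, mul_assoc, mul_inv_cancel, mul_one]
    rw [mul_assoc, h1, ← mul_assoc, h2, mul_assoc]
  obtain ⟨i, -, hi⟩ := eq_pow_of_commute e hF (y⁻¹ * g) (mul_mem (inv_mem hy.1) hgU)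
    (mul_mem (inv_mem hy.2.1) hgS) hc
  have : g = y * z1 e ^ i := by rw [← hi]; group
  rw [this]
  exact mul_mem hy (pow_mem (z1_mem_M1 e hF) i)

lemma y1_pow_val_two : ((y1 e ^ 2 : GL (Fin 5) F) : Matrix (Fin 5) (Fin 5) F) = mF e (Y * Y) := by
  rw [pow_two, Units.val_mul, mF_mul]; rfl

lemma y1_pow_val_three : ((y1 e ^ 3 : GL (Fin 5) F) : Matrix (Fin 5) (Fin 5) F) = mF e (Y * Y * Y) := by
  rw [pow_succ, Units.val_mul, y1_pow_val_two, mF_mul e (Y * Y)]; rfl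

lemma y1_pow_val_four :
    ((y1 e ^ 4 : GL (Fin 5) F) : Matrix (Fin 5) (Fin 5) F) = mF e (Y * Y * Y * Y) := by
  rw [pow_succ, Units.val_mul, y1_pow_val_three, mF_mul e (Y * Y * Y)]; rfl

/-- every element of `SU_5(2)` normalizing `⟨z1⟩` lies in `M1` -/
theorem normalizer_le (hF : Fintype.card F = 2 ^ 2) (g : GL (Fin 5) F) (hgU : g ∈ Cfsg.GU 5 F 2)
    (hgS : g ∈ specialLinear (Fin 5) F) (hn : g * z1 e * g⁻¹ ∈ Subgroup.zpowers (z1 e)) :
    g ∈ M1 e := by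
  obtain ⟨j, hj10, hj⟩ := mem_zpowers_z1 e hn
  -- the trace
  have htr : tr j = tr 1 := by
    apply e.symm.injective
    have h1 : (g * z1 e * g⁻¹ : GL (Fin 5) F).1.trace = (z1 e).1.trace := by
      rw [Units.val_mul, Units.val_mul, Matrix.trace_mul_comm, ← mul_assoc, ← Units.val_mul,
        inv_mul_cancel, Units.val_one, one_mul]
    rw [hj, z1_pow_val e j hj10, trace_mF] at h1
    have h2 : (z1 e).1.trace = e.symm (Z.trace) := trace_mF e Z
    rw [h2] at h1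
    have h3 := trace_Zp ⟨j, by omega⟩
    have h4 := trace_Zp ⟨1, by norm_num⟩
    simp only at h3 h4
    rw [h3] at h1
    rw [h1]
    congr 1
  have key : ∀ j : Fin 11, tr j.val = tr 1 → j.val = 1 ∨ j.val = 3 ∨ j.val = 4 ∨ j.val = 5 ∨ j.val = 9 := by
    decide
  rcases key ⟨j, by omega⟩ htr with h | h | h | h | h <;> simp only at h <;> subst h
  · exact mem_M1_of_conj e hF (one_mem _) (by simp) hgU hgS hj
  · refine mem_M1_of_conj e hF (pow_mem (y1_mem_M1 e hF) 2) ?_ hgU hgS hj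
    apply Units.ext
    rw [Units.val_mul, Units.val_mul, y1_pow_val_two, z1_pow_val e 3 (by norm_num)]
    show mF e (Y * Y) * mF e Z = _
    rw [← mF_mul, ← mF_mul, Y2_Z]
  · refine mem_M1_of_conj e hF (pow_mem (y1_mem_M1 e hF) 3) ?_ hgU hgS hj
    apply Units.ext
    rw [Units.val_mul, Units.val_mul, y1_pow_val_three, z1_pow_val e 4 (by norm_num)]
    show mF e (Y * Y * Y) * mF e Z = _
    rw [← mF_mul, ← mF_mul, Y3_Z]
  · refine mem_M1_of_conj e hF (y1_mem_M1 e hF) ?_ hgU hgS hj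
    apply Units.ext
    rw [Units.val_mul, Units.val_mul, z1_pow_val e 5 (by norm_num)]
    show mF e Y * mF e Z = mF e (Zp 5) * mF e Y
    rw [← mF_mul, ← mF_mul, Y1_Z]
  · refine mem_M1_of_conj e hF (pow_mem (y1_mem_M1 e hF) 4) ?_ hgU hgS hj
    apply Units.ext
    rw [Units.val_mul, Units.val_mul, y1_pow_val_four, z1_pow_val e 9 (by norm_num)]
    show mF e (Y * Y * Y * Y) * mF e Z = _
    rw [← mF_mul, ← mF_mul, Y4_Z]

end model

end Cfsg.Agent.Lib.Helper7_SU5_Model
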