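import Mathlib
import Cfsg.Prelude.Def_GeometricClasses
import Cfsg.Prelude.Def_LieClassical
import Cfsg.Agent.Lib.Helper61_F4
import Cfsg.Agent.Lib.Helper7_SU5_Data
import Cfsg.Agent.Lib.Helper7_SU5_Model
import Cfsg.Agent.Lib.Helper13_Herm
import Cfsg.Agent.Lib.Helper13_GU
import Cfsg.Agent.Lib.Helper5_GUOrder

/-!
helper7: the exclusion needed for the row S5796 (maximal subgroups of `SU_5(q)`): for `q = 2` the
normalizer of an adjoint-closed extension field of degree 5, intersected with `SU_5(2)`, is NOT a maximal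
subgroup of `SU_5(2)` (it is `11 : 5 < L_2(11)`).
-/

set_option autoImplicit false
set_option linter.unusedSectionVars false

namespace Cfsg.Agent.Lib.Helper7_SU5_Excl

open Matrix Cfsg.Geo Cfsg.Agent.Lib.Helper61_F4 Cfsg.Agent.Lib.Helper7_SU5_Data
open Cfsg.Agent.Lib.Helper7_SU5_Model Cfsg.Agent.Lib.Helper13_Herm

/-! ### Sylow conjugacy for elements of prime order -/

theorem sylow_conj {G : Type*} [Group G] [Finite G] (p : ℕ) [Fact p.Prime]
    (hcard : ¬ p ^ 2 ∣ Nat.card G) (a b : G) (ha : orderOf a = p) (hb : orderOf b = p) :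
    ∃ g : G, g * b * g⁻¹ ∈ Subgroup.zpowers a := by
  have hp : p.Prime := Fact.out
  have key : ∀ x : G, orderOf x = p → ∃ S : Sylow p G, (S : Subgroup G) = Subgroup.zpowers x := by
    intro x hx
    have hcx : Nat.card (Subgroup.zpowers x) = p := by rw [Nat.card_zpowers, hx]
    have hpg : IsPGroup p (Subgroup.zpowers x) := IsPGroup.of_card (n := 1) (by rw [hcx, pow_one])
    obtain ⟨S, hS⟩ := hpg.exists_le_sylow
    obtain ⟨k, hk⟩ := IsPGroup.iff_card.mp S.isPGroup'
    have hdvd : p ^ k ∣ Nat.card G := hk ▸ Subgroup.card_subgroup_dvd_card (S : Subgroup G)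
    have hk2 : k < 2 := by
      by_contra hge
      exact hcard ((pow_dvd_pow p (by omega : 2 ≤ k)).trans hdvd)
    have hle : Nat.card (Subgroup.zpowers x) ≤ Nat.card (S : Subgroup G) :=
      Nat.le_of_dvd Nat.card_pos (Subgroup.card_dvd_of_le hS)
    have hk1 : k = 1 := by
      interval_cases k
      · rw [hk, hcx, pow_zero] at hle
        have := hp.two_le
        omega
      · rfl
    refine ⟨S, (Subgroup.eq_of_le_of_card_ge hS ?_).symm⟩
    rw [hk, hk1, pow_one, hcx]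
  obtain ⟨Sa, hSa⟩ := key a ha
  obtain ⟨Sb, hSb⟩ := key b hb
  obtain ⟨g, hg⟩ := MulAction.exists_smul_eq G Sb Sa
  refine ⟨g, ?_⟩
  rw [← hSa, ← hg, Sylow.coe_subgroup_smul]
  have hbmem : b ∈ (Sb : Subgroup G) := by rw [hSb]; exact Subgroup.mem_zpowers b
  have := Subgroup.smul_mem_pointwise_smul b (MulAut.conj g) (Sb : Subgroup G) hbmem
  simpa [MulAut.smul_def] using this

/-! ### adjoints for the hermitian form -/

section adjoint

variable {F : Type*} [Field F] [Fintype F] {n q : ℕ}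

/-- `b` is an adjoint of `a` -/
def IsAdjM (n : ℕ) (q : ℕ) (a b : Matrix (Fin n) (Fin n) F) : Prop :=
  ∀ u v : Fin n → F, Cfsg.hermForm n F q (a *ᵥ u) v = Cfsg.hermForm n F q u (b *ᵥ v)

lemma isAdjM_one : IsAdjM n q (1 : Matrix (Fin n) (Fin n) F) 1 := fun u v => by simp

lemma IsAdjM.mul {a a' b b' : Matrix (Fin n) (Fin n) F} (ha : IsAdjM n q a a') (hb : IsAdjM n q b b') :
    IsAdjM n q (a * b) (b' * a') := by
  intro u v
  rw [← Matrix.mulVec_mulVec, ha, hb, Matrix.mulVec_mulVec]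

lemma IsAdjM.pow {a a' : Matrix (Fin n) (Fin n) F} (ha : IsAdjM n q a a') (k : ℕ) :
    IsAdjM n q (a ^ k) (a' ^ k) := by
  induction k with
  | zero => simpa using isAdjM_one
  | succ k ih =>
    rw [pow_succ, pow_succ']
    exact ih.mul ha

lemma IsAdjM.add (hF : Fintype.card F = q ^ 2) {a a' b b' : Matrix (Fin n) (Fin n) F}
    (ha : IsAdjM n q a a') (hb : IsAdjM n q b b') : IsAdjM n q (a + b) (a' + b') := by
  intro u v
  rw [Matrix.add_mulVec, Matrix.add_mulVec, hermForm_add_left, hermForm_add_right n hF, ha, hb]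

lemma IsAdjM.symm (hF : Fintype.card F = q ^ 2) {a b : Matrix (Fin n) (Fin n) F}
    (h : IsAdjM n q a b) : IsAdjM n q b a := by
  intro u v
  rw [← hermForm_pow_q n hF v (b *ᵥ u), ← h v u, hermForm_pow_q n hF]

/-- uniqueness of adjoints -/
lemma adj_unique (hF : Fintype.card F = q ^ 2) {a b : Matrix (Fin n) (Fin n) F}
    (h : ∀ u v : Fin n → F, Cfsg.hermForm n F q u (a *ᵥ v) = Cfsg.hermForm n F q u (b *ᵥ v)) :
    a = b := by
  ext i j
  have h1 := h (Pi.single i 1) (Pi.single j 1)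
  rw [hermForm_single_left, hermForm_single_left, Matrix.mulVec_single_one, Matrix.mulVec_single_one] at h1
  have h2 := congrArg (· ^ q) h1
  simp only [pow_q_pow_q hF] at h2
  exact h2

end adjoint

/-! ### the extension field -/

section field

variable {F : Type*} [Field F] [Fintype F]

lemma two_eq_zero (hF : Fintype.card F = 2 ^ 2) : (2 : F) = 0 := by
  have h := Nat.cast_card_eq_zero F
  rw [hF] at h
  have h2 : (2 : F) ^ 2 = 0 := by exact_mod_cast h
  exact (pow_eq_zero_iff (by norm_num)).mp h2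

lemma exists_omega (hF : Fintype.card F = 2 ^ 2) : ∃ c : F, c ^ 2 + c + 1 = 0 := by
  have e : F ≃+* F4 := ringEquivF4 (by rw [hF]; norm_num)
  refine ⟨e.symm w, ?_⟩
  have h : w ^ 2 + w + 1 = 0 := by decide
  rw [← map_pow, ← map_add, ← map_one e.symm, ← map_add, h, map_zero]

lemma hermForm_single_zero :
    Cfsg.hermForm 5 F 2 (Pi.single 0 1) (Pi.single 0 1) = 1 := by
  rw [hermForm_single_left]
  simp

/-- an element of order 11 of the field `K` is not self-adjoint -/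
theorem not_selfAdjoint (hF : Fintype.card F = 2 ^ 2) (K : Subalgebra F (Matrix (Fin 5) (Fin 5) F))
    (hK : IsFieldSubalgebra 5 K) (x : Matrix (Fin 5) (Fin 5) F) (hx : x ∈ K) (h11 : x ^ 11 = 1)
    (hne : x ≠ 1) (hsa : IsAdjM 5 2 x x) : False := by
  classical
  have hntK : Nontrivial K := by
    apply Module.nontrivial_of_finrank_pos (R := F)
    rw [hK.finrank_eq]
    norm_num
  have hfield : IsField K :=
    { exists_pair_ne := ⟨0, 1, zero_ne_one⟩
      mul_comm := fun x y => Subtype.ext (hK.comm x x.2 y y.2)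
      mul_inv_cancel := fun {a} ha => by
        obtain ⟨y, hy, hxy⟩ := hK.inv a a.2 (fun h => ha (Subtype.ext h))
        exact ⟨⟨y, hy⟩, Subtype.ext hxy⟩ }
  let _ : Field K := hfield.toField
  set X : K := ⟨x, hx⟩ with hX
  have hX11 : X ^ 11 = 1 := Subtype.ext (by simpa [hX] using h11)
  have hXne : X ≠ 1 := fun h => hne (congrArg Subtype.val h)
  have h2F := two_eq_zero hF
  have h2K : (2 : K) = 0 := by
    have : (2 : K) = algebraMap F K 2 := (map_ofNat (algebraMap F K) 2).symm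
    rw [this, h2F, map_zero]
  have hsum : ∑ i ∈ Finset.range 11, X ^ i = 0 := by
    have h := geom_sum_mul X 11
    rw [hX11, sub_self] at h
    rcases mul_eq_zero.mp h with h | h
    · exact h
    · exact absurd (sub_eq_zero.mp h) hXne
  have hs : 1 + X + X ^ 2 + X ^ 3 + X ^ 4 + X ^ 5 + X ^ 6 + X ^ 7 + X ^ 8 + X ^ 9 + X ^ 10 = 0 := by
    simpa [Finset.sum_range_succ] using hsum
  set η : K := X + X ^ 3 + X ^ 4 + X ^ 5 + X ^ 9 with hη
  have hη2 : η ^ 2 + η + 1 = 0 := by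
    rw [hη]
    linear_combination hs + X ^ 7 * hX11 +
      (X ^ 4 + X ^ 5 + X ^ 6 + X ^ 10 + X ^ 7 + X ^ 8 + X ^ 12 + X ^ 9 + X ^ 13 + X ^ 14) * h2K
  obtain ⟨c, hc⟩ := exists_omega hF
  set C : K := algebraMap F K c with hC
  have hC2 : C ^ 2 + C + 1 = 0 := by
    rw [hC, ← map_pow, ← map_add, ← map_one (algebraMap F K), ← map_add, hc, map_zero]
  have hfac : (η - C) * (η - (C + 1)) = 0 := by
    linear_combination hη2 + hC2 + (-η - C * η - 1) * h2K
  have hd : ∃ d : F, d ^ 2 + d + 1 = 0 ∧ η = algebraMap F K d := by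
    rcases mul_eq_zero.mp hfac with h | h
    · exact ⟨c, hc, sub_eq_zero.mp h⟩
    · refine ⟨c + 1, ?_, ?_⟩
      · linear_combination hc + (c + 1) * h2F
      · rw [map_add, map_one]
        exact sub_eq_zero.mp h
  obtain ⟨d, hd2, hηd⟩ := hd
  have hηmat : ((η : K) : Matrix (Fin 5) (Fin 5) F) = x + x ^ 3 + x ^ 4 + x ^ 5 + x ^ 9 := by
    simp [hη, hX]
  have hηsa : IsAdjM 5 2 ((η : K) : Matrix (Fin 5) (Fin 5) F) ((η : K) : Matrix (Fin 5) (Fin 5) F) := by
    rw [hηmat]
    exact ((((hsa.add hF (hsa.pow 3)).add hF (hsa.pow 4)).add hF (hsa.pow 5)).add hF (hsa.pow 9))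
  have hηd' : ((η : K) : Matrix (Fin 5) (Fin 5) F) = d • (1 : Matrix (Fin 5) (Fin 5) F) := by
    rw [hηd, Subalgebra.coe_algebraMap, Algebra.algebraMap_eq_smul_one]
  rw [hηd'] at hηsa
  have h1 := hηsa (Pi.single 0 1) (Pi.single 0 1)
  rw [Matrix.smul_mulVec, Matrix.one_mulVec, hermForm_smul_left, hermForm_smul_right,
    hermForm_single_zero, mul_one, mul_one] at h1
  have h3 : (1 : F) = 0 := by linear_combination hd2 + h1 - d * h2F
  exact one_ne_zero h3

/-- the field `K` contains a unitary element `z` of order 11, and the 11-th roots of unity of `K` are the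
powers of `z` -/
theorem field_part (hF : Fintype.card F = 2 ^ 2) (K : Subalgebra F (Matrix (Fin 5) (Fin 5) F))
    (hK : IsFieldSubalgebra 5 K) (hadj : IsAdjointClosedFor (Cfsg.hermForm 5 F 2) K) :
    ∃ z : GL (Fin 5) F, z.1 ∈ K ∧ z ^ 11 = 1 ∧ z ≠ 1 ∧ z ∈ Cfsg.GU 5 F 2 ∧
      ∀ t : GL (Fin 5) F, t.1 ∈ K → t ^ 11 = 1 → t ∈ Subgroup.zpowers z := by
  classical
  have hntK : Nontrivial K := by
    apply Module.nontrivial_of_finrank_pos (R := F)
    rw [hK.finrank_eq]
    norm_num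
  have hfield : IsField K :=
    { exists_pair_ne := ⟨0, 1, zero_ne_one⟩
      mul_comm := fun x y => Subtype.ext (hK.comm x x.2 y y.2)
      mul_inv_cancel := fun {a} ha => by
        obtain ⟨y, hy, hxy⟩ := hK.inv a a.2 (fun h => ha (Subtype.ext h))
        exact ⟨⟨y, hy⟩, Subtype.ext hxy⟩ }
  let _ : Field K := hfield.toField
  have hcardK : Nat.card K = 1024 := by
    rw [Module.natCard_eq_pow_finrank (K := F) (V := K), hK.finrank_eq, Nat.card_eq_fintype_card, hF]
    norm_num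
  have hcardU : Nat.card Kˣ = 1023 := by rw [Nat.card_units, hcardK]
  have : Fact (Nat.Prime 11) := ⟨by norm_num⟩
  obtain ⟨X, hXord⟩ := exists_prime_orderOf_dvd_card' (G := Kˣ) 11 (by rw [hcardU]; norm_num)
  set x : Matrix (Fin 5) (Fin 5) F := ((X : K) : Matrix (Fin 5) (Fin 5) F) with hx
  have hxK : x ∈ K := (X : K).2
  have hX11 : (X : K) ^ 11 = 1 := by
    rw [← Units.val_pow_eq_pow_val, ← hXord, pow_orderOf_eq_one, Units.val_one]
  have hXne : (X : K) ≠ 1 := by
    intro h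
    have : X = 1 := Units.ext h
    rw [this, orderOf_one] at hXord
    norm_num at hXord
  have hx11 : x ^ 11 = 1 := by
    have := congrArg (Subtype.val) hX11
    simpa [hx] using this
  have hxne : x ≠ 1 := fun h => hXne (Subtype.ext (by simpa [hx] using h))
  -- the adjoint
  obtain ⟨a, haK, ha⟩ := hadj x hxK
  have ha' : IsAdjM 5 2 x a := ha
  have hcomm : x * a = a * x := hK.comm x hxK a haK
  have ha11 : a ^ 11 = 1 := by
    apply adj_unique hF
    intro u v
    have h1 := ha'.pow 11 u v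
    rw [hx11, Matrix.one_mulVec] at h1
    rw [← h1, Matrix.one_mulVec]
  have hn : x * a = 1 := by
    by_contra hne
    refine not_selfAdjoint hF K hK (x * a) (K.mul_mem hxK haK) ?_ hne (ha'.mul (ha'.symm hF))
    have hc : Commute x a := hcomm
    rw [hc.mul_pow, hx11, ha11, one_mul]
  have hn' : a * x = 1 := by rw [← hcomm, hn]
  set z : GL (Fin 5) F := ⟨x, a, hn, hn'⟩ with hz
  have hz11 : z ^ 11 = 1 := Units.ext (by rw [Units.val_pow_eq_pow_val]; exact hx11)
  have hzne : z ≠ 1 := fun h => hxne (congrArg Units.val h)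
  refine ⟨z, hxK, hz11, hzne, ?_, ?_⟩
  · rw [Cfsg.Agent.Lib.Helper13_GU.mem_GU_iff]
    intro u v
    show Cfsg.hermForm 5 F 2 (x *ᵥ u) (x *ᵥ v) = _
    rw [ha' u (x *ᵥ v), Matrix.mulVec_mulVec, hn', Matrix.one_mulVec]
  · intro t htK ht11
    have hprim : IsPrimitiveRoot (X : K) 11 := by
      have h := IsPrimitiveRoot.orderOf (X : K)
      rwa [orderOf_units, hXord] at h
    set T : K := ⟨t.1, htK⟩ with hT
    have hT11 : T ^ 11 = 1 := by
      apply Subtype.ext
      have := congrArg Units.val ht11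
      simpa [hT] using this
    obtain ⟨i, -, hi⟩ := hprim.eq_pow_of_pow_eq_one hT11
    rw [Subgroup.mem_zpowers_iff]
    refine ⟨(i : ℤ), ?_⟩
    rw [zpow_natCast]
    apply Units.ext
    rw [Units.val_pow_eq_pow_val]
    have := congrArg Subtype.val hi
    simpa [hT, hx] using this

end field

/-! ### the exclusion -/

section main

variable {F : Type*} [Field F] [Fintype F]

/-- `|GU_5(2)|` is not divisible by `11 ^ 2` -/
lemma card_GU_five (hF : Fintype.card F = 2 ^ 2) : ¬ 11 ^ 2 ∣ Nat.card (Cfsg.GU 5 F 2) := by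
  rw [Cfsg.Agent.Lib.Helper5_GUOrder.card_GU hF 5]
  simp only [Finset.prod_range_succ, Finset.prod_range_zero]
  norm_num

/-- **E5**: for `q = 2` the normalizer of an adjoint-closed extension field of degree 5 is not maximal in
`SU_5(2)`. -/
theorem E5 (hF : Fintype.card F = 2 ^ 2) (K : Subalgebra F (Matrix (Fin 5) (Fin 5) F))
    (hK : IsFieldSubalgebra 5 K) (hadj : IsAdjointClosedFor (Cfsg.hermForm 5 F 2) K) :
    ¬ IsMaximalIn (Cfsg.GU 5 F 2 ⊓ specialLinear (Fin 5) F)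
      (subalgebraNormalizer K ⊓ (Cfsg.GU 5 F 2 ⊓ specialLinear (Fin 5) F)) := by
  intro hmax
  have e : F ≃+* F4 := ringEquivF4 (by rw [hF]; norm_num)
  have : Fact (Nat.Prime 11) := ⟨by norm_num⟩
  obtain ⟨z, hzK, hz11, hzne, hzU, hroots⟩ := field_part hF K hK hadj
  have hzord : orderOf z = 11 := orderOf_eq_prime hz11 hzne
  -- Sylow conjugacy in `GU_5(2)`
  obtain ⟨P, hP⟩ := sylow_conj (G := Cfsg.GU 5 F 2) 11 (card_GU_five hF) ⟨z, hzU⟩ ⟨z1 e, z1_mem_GU e hF⟩
    (by rw [← hzord]; exact Subgroup.orderOf_mk z hzU)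
    (by rw [← orderOf_z1 e]; exact Subgroup.orderOf_mk (z1 e) (z1_mem_GU e hF))
  set p : GL (Fin 5) F := (P : GL (Fin 5) F) with hp
  have hpU : p ∈ Cfsg.GU 5 F 2 := P.2
  set z' : GL (Fin 5) F := p * z1 e * p⁻¹ with hz'
  have hz'mem : z' ∈ Subgroup.zpowers z := by
    obtain ⟨k, hk⟩ := Subgroup.mem_zpowers_iff.mp hP
    rw [Subgroup.mem_zpowers_iff]
    refine ⟨k, ?_⟩
    have := congrArg Subtype.val hk
    simpa using this
  have hz'11 : z' ^ 11 = 1 := by rw [hz', conj_pow, z1_pow_eleven, mul_one, mul_inv_cancel]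
  have hz'ne : z' ≠ 1 := by
    intro h
    apply z1_ne_one e
    have : z1 e = p⁻¹ * z' * p := by rw [hz']; group
    rw [this, h]; group
  have hz'ord : orderOf z' = 11 := orderOf_eq_prime hz'11 hz'ne
  have hzz' : Subgroup.zpowers z' = Subgroup.zpowers z := by
    apply Subgroup.eq_of_le_of_card_ge
    · rw [Subgroup.zpowers_le]; exact hz'mem
    · rw [Nat.card_zpowers, Nat.card_zpowers, hz'ord, hzord]
  have hz'K : z'.1 ∈ K := by
    obtain ⟨j, hj⟩ := (mem_powers_iff_mem_zpowers).mpr hz'mem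
    rw [← hj, Units.val_pow_eq_pow_val]
    exact K.pow_mem hzK j
  have hSLn : (specialLinear (Fin 5) F).Normal := by
    unfold specialLinear
    infer_instance
  -- Claim A: the elements of `H` normalize `⟨z'⟩`
  have claimA : ∀ g ∈ subalgebraNormalizer K ⊓ (Cfsg.GU 5 F 2 ⊓ specialLinear (Fin 5) F),
      g * z' * g⁻¹ ∈ Subgroup.zpowers z' := by
    intro g hg
    rw [hzz']
    apply hroots
    · have h1 : ∀ k : Matrix (Fin 5) (Fin 5) F, k ∈ K ↔ g.1 * k * (g⁻¹ : GL (Fin 5) F).1 ∈ K := hg.1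
      rw [Units.val_mul, Units.val_mul]
      exact (h1 _).mp hz'K
    · rw [conj_pow, hz'11, mul_one, mul_inv_cancel]
  -- Claim B: conjugating back, they lie in `M1`
  have claimB : ∀ g ∈ subalgebraNormalizer K ⊓ (Cfsg.GU 5 F 2 ⊓ specialLinear (Fin 5) F),
      p⁻¹ * g * p ∈ M1 e := by
    intro g hg
    apply normalizer_le e hF
    · exact mul_mem (mul_mem (inv_mem hpU) hg.2.1) hpU
    · have := hSLn.conj_mem g hg.2.2 p⁻¹
      rwa [inv_inv] at this
    · obtain ⟨k, hk⟩ := Subgroup.mem_zpowers_iff.mp (claimA g hg)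
      rw [Subgroup.mem_zpowers_iff]
      refine ⟨k, ?_⟩
      have h1 : p⁻¹ * g * p * z1 e * (p⁻¹ * g * p)⁻¹ = p⁻¹ * (g * z' * g⁻¹) * p := by
        rw [hz']; group
      rw [h1, ← hk, hz', conj_zpow]
      group
  set M : Subgroup (GL (Fin 5) F) := (M1 e).map (MulAut.conj p).toMonoidHom with hM
  have hmemM : ∀ x : GL (Fin 5) F, x ∈ M ↔ p⁻¹ * x * p ∈ M1 e := by
    intro x
    rw [hM, Subgroup.mem_map]
    constructor
    · rintro ⟨m, hm, rfl⟩
      have : p⁻¹ * (MulAut.conj p).toMonoidHom m * p = m := by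
        show p⁻¹ * (p * m * p⁻¹) * p = m
        group
      rwa [this]
    · intro h
      refine ⟨_, h, ?_⟩
      simp [MulAut.conj_apply, mul_assoc]
  have hHM : subalgebraNormalizer K ⊓ (Cfsg.GU 5 F 2 ⊓ specialLinear (Fin 5) F) ≤ M :=
    fun g hg => (hmemM g).mpr (claimB g hg)
  have hconjSU : ∀ x : GL (Fin 5) F, x ∈ Cfsg.GU 5 F 2 ⊓ specialLinear (Fin 5) F →
      ∀ r ∈ Cfsg.GU 5 F 2, r * x * r⁻¹ ∈ Cfsg.GU 5 F 2 ⊓ specialLinear (Fin 5) F := by
    intro x hx r hr
    have hx' := Subgroup.mem_inf.mp hx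
    exact Subgroup.mem_inf.mpr ⟨mul_mem (mul_mem hr hx'.1) (inv_mem hr), hSLn.conj_mem x hx'.2 r⟩
  have hMle : M ≤ Cfsg.GU 5 F 2 ⊓ specialLinear (Fin 5) F := by
    intro x hx
    have h1 := M1_le e ((hmemM x).mp hx)
    have h2 := hconjSU _ h1 p hpU
    have : p * (p⁻¹ * x * p) * p⁻¹ = x := by group
    rwa [this] at h2
  have hMne : M ≠ Cfsg.GU 5 F 2 ⊓ specialLinear (Fin 5) F := by
    intro h
    apply M1_ne e hF
    apply le_antisymm (M1_le e)
    intro y hy
    have h1 : p * y * p⁻¹ ∈ M := by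
      rw [h]
      exact hconjSU y hy p hpU
    have h2 := (hmemM _).mp h1
    have : p⁻¹ * (p * y * p⁻¹) * p = y := by group
    rwa [this] at h2
  rcases hmax.2 M hHM hMle with h | h
  · -- `M = H`
    have hw : p * w1 e * p⁻¹ ∈ M := by
      rw [hmemM]
      have : p⁻¹ * (p * w1 e * p⁻¹) * p = w1 e := by group
      rw [this]
      exact w1_mem_M1 e hF
    rw [h] at hw
    obtain ⟨k, hk⟩ := Subgroup.mem_zpowers_iff.mp (claimA _ hw)
    apply w1_not_normalizes e
    rw [Subgroup.mem_zpowers_iff]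
    refine ⟨k, ?_⟩
    have h1 : p * w1 e * p⁻¹ * z' * (p * w1 e * p⁻¹)⁻¹ = p * (w1 e * z1 e * (w1 e)⁻¹) * p⁻¹ := by
      rw [hz']; group
    rw [h1, hz', conj_zpow] at hk
    have h2 : p⁻¹ * (p * z1 e ^ k * p⁻¹) * p = p⁻¹ * (p * (w1 e * z1 e * (w1 e)⁻¹) * p⁻¹) * p := by
      rw [hk]
    have h3 : p⁻¹ * (p * z1 e ^ k * p⁻¹) * p = z1 e ^ k := by group
    have h4 : p⁻¹ * (p * (w1 e * z1 e * (w1 e)⁻¹) * p⁻¹) * p = w1 e * z1 e * (w1 e)⁻¹ := by group
    rw [h3, h4] at h2
    exact h2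
  · exact hMne h

end main

end Cfsg.Agent.Lib.Helper7_SU5_Excl
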