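import Mathlib
import Cfsg.Prelude.Def_GeometricClasses
import Cfsg.Prelude.Def_LieClassical
import Cfsg.Agent.Lib.Helper39_SURows
import Cfsg.Agent.Lib.Helper39_SURowPrime
import Cfsg.Agent.Lib.Helper7_SU5_Excl

/-!
helper7: the row "maximal subgroups of `SU_5(q)`" (S5796) from the exclusion facts `Excl`, the frozen statement
S5663 taken as a hypothesis, and the exclusion `E5` (`q = 2`: the normalizer of an extension field of degree 5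
is not maximal in `SU_5(2)`).
-/

set_option autoImplicit false

namespace Cfsg.Agent.Lib.Helper7_SU5_Row

open Matrix Cfsg.Geo Cfsg.Agent.Lib.Helper39_SUAschMax Cfsg.Agent.Lib.Helper39_SURows
open Cfsg.Agent.Lib.Helper39_SURowPrime

variable {F : Type*} [Field F] [Fintype F] {q : ℕ}

theorem su5_cases (hF : Fintype.card F = q ^ 2) (hE : Excl 5 F q) (hA : SUAschHyp 5 F q)
    (H : Subgroup (GL (Fin 5) F)) (hH : IsMaximalIn (Cfsg.GU 5 F q ⊓ specialLinear (Fin 5) F) H) :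
    (∃ W : Submodule F (Fin 5 → F), W ≠ ⊥ ∧ Cfsg.Geo.IsTotallySingularFor (Cfsg.hermForm 5 F q) W ∧ H = Cfsg.Geo.subspaceStabilizer W ⊓ (Cfsg.GU 5 F q ⊓ Cfsg.Geo.specialLinear (Fin 5) F)) ∨
    (∃ W : Submodule F (Fin 5 → F), W ≠ ⊥ ∧ Cfsg.Geo.IsNondegenerateOn (Cfsg.hermForm 5 F q) W ∧ 2 * Module.finrank F W < 5 ∧ H = Cfsg.Geo.subspaceStabilizer W ⊓ (Cfsg.GU 5 F q ⊓ Cfsg.Geo.specialLinear (Fin 5) F)) ∨
    (∃ D : Fin 5 → Submodule F (Fin 5 → F), Cfsg.Geo.IsNondegenerateMDecomposition (Cfsg.hermForm 5 F q) 1 D ∧ H = Cfsg.Geo.decompositionStabilizer D ⊓ (Cfsg.GU 5 F q ⊓ Cfsg.Geo.specialLinear (Fin 5) F)) ∨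
    (3 ≤ q ∧ ∃ K : Subalgebra F (Matrix (Fin 5) (Fin 5) F), Cfsg.Geo.IsFieldSubalgebra 5 K ∧ Cfsg.Geo.IsAdjointClosedFor (Cfsg.hermForm 5 F q) K ∧ H = Cfsg.Geo.subalgebraNormalizer K ⊓ (Cfsg.GU 5 F q ⊓ Cfsg.Geo.specialLinear (Fin 5) F)) ∨
    (∃ (F₀ : Subfield F) (r : ℕ) (P : Matrix.GeneralLinearGroup (Fin 5) F), r.Prime ∧ Odd r ∧ Fintype.card F = Nat.card F₀ ^ r ∧ Cfsg.Geo.IsFormRationalStructure (Cfsg.hermForm 5 F q) F₀ 1 P ∧ H = Cfsg.Geo.subfieldSubgroup F₀ P ⊓ (Cfsg.GU 5 F q ⊓ Cfsg.Geo.specialLinear (Fin 5) F)) ∨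
    (Odd q ∧ ∃ (F₀ : Subfield F) (P : Matrix.GeneralLinearGroup (Fin 5) F), Fintype.card F = Nat.card F₀ ^ 2 ∧ Cfsg.Geo.IsFormRationalStructure (Cfsg.hermForm 5 F q) F₀ 1 P ∧ H = Cfsg.Geo.subfieldSubgroup F₀ P ⊓ (Cfsg.GU 5 F q ⊓ Cfsg.Geo.specialLinear (Fin 5) F)) ∨
    (∃ (p : ℕ) (R : Subgroup (Matrix.GeneralLinearGroup (Fin 5) F)), p.Prime ∧ CharP F p ∧ ((q = p ∧ p % 5 = 4) ∨ (q = p ^ 2 ∧ (p % 5 = 2 ∨ p % 5 = 3))) ∧ Cfsg.Geo.IsSymplecticTypeGroup 5 R ∧ Cfsg.Geo.ActsAbsolutelyIrreducibly (Cfsg.Geo.matrixSet R) ∧ R ≤ Cfsg.Geo.similarityGroup (Cfsg.hermForm 5 F q) ∧ Nat.card R = 125 ∧ Nat.card (Subgroup.center R) = 5 ∧ H = Cfsg.Geo.subgroupNormalizer R ⊓ (Cfsg.GU 5 F q ⊓ Cfsg.Geo.specialLinear (Fin 5) F)) ∨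
    Cfsg.Geo.InUnitaryResidualClass H := by
  rcases prime_cases (by norm_num) (by norm_num) hF hE hA H hH with
    h | h | h | ⟨K, hK, hadj, hHK⟩ | h | h |
      ⟨p, k, R, hp, hchar, hk0, hqk, hdvd, hone, hmin, hR, hirr, hsim, hRc, hZ, hHR⟩ | h
  · exact Or.inl h
  · exact Or.inr (Or.inl h)
  · exact Or.inr (Or.inr (Or.inl h))
  · -- extension field: `q = 2` is excluded by `E5`
    refine Or.inr (Or.inr (Or.inr (Or.inl ⟨?_, K, hK, hadj, hHK⟩)))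
    have h2 := Cfsg.Agent.Lib.Helper13_Herm.two_le_q hF
    by_contra hlt
    have hq2 : q = 2 := by omega
    subst hq2
    rw [hHK] at hH
    exact Cfsg.Agent.Lib.Helper7_SU5_Excl.E5 hF K hK hadj hH
  · exact Or.inr (Or.inr (Or.inr (Or.inr (Or.inl h))))
  · exact Or.inr (Or.inr (Or.inr (Or.inr (Or.inr (Or.inl h)))))
  · refine Or.inr (Or.inr (Or.inr (Or.inr (Or.inr (Or.inr (Or.inl
      ⟨p, R, hp, hchar, ?_, hR, hirr, hsim, by rw [hRc]; norm_num, hZ, hHR⟩))))))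
    have hle : 2 * k ≤ 4 := Nat.le_of_dvd (by norm_num) hdvd
    have hle' : k ≤ 2 := by omega
    have hk : k = 1 ∨ k = 2 := by
      interval_cases k
      · exact Or.inl rfl
      · exact Or.inr rfl
    rcases hk with rfl | rfl
    · left
      rw [pow_one] at hqk
      refine ⟨hqk, ?_⟩
      have hne : (p : ZMod 5) ^ 1 ≠ 1 := hmin 1 (by norm_num) (by norm_num)
      have key : ∀ x : ZMod 5, x ^ (2 * 1) = 1 → x ^ 1 ≠ 1 → x = ((4 : ℕ) : ZMod 5) := by decide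
      exact natCast_zmod_eq (by norm_num) (key _ hone hne)
    · right
      refine ⟨hqk, ?_⟩
      have hne1 : (p : ZMod 5) ^ 1 ≠ 1 := hmin 1 (by norm_num) (by norm_num)
      have hne2 : (p : ZMod 5) ^ 2 ≠ 1 := hmin 2 (by norm_num) (by norm_num)
      have key : ∀ x : ZMod 5, x ^ (2 * 2) = 1 → x ^ 1 ≠ 1 → x ^ 2 ≠ 1 →
          x = ((2 : ℕ) : ZMod 5) ∨ x = ((3 : ℕ) : ZMod 5) := by decide
      rcases key _ hone hne1 hne2 with h | h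
      · exact Or.inl (natCast_zmod_eq (by norm_num) h)
      · exact Or.inr (natCast_zmod_eq (by norm_num) h)
  · exact Or.inr (Or.inr (Or.inr (Or.inr (Or.inr (Or.inr (Or.inr h))))))

end Cfsg.Agent.Lib.Helper7_SU5_Row
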