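import Cfsg.Agent.S0364
import Cfsg.Agent.S0366
import Cfsg.Agent.S0381
import Cfsg.Agent.Lib.Helper26_M24Act
import Cfsg.Agent.Lib.Helper26_GolaySets
import Cfsg.Agent.Lib.Helper7_Sets
import Cfsg.Agent.Lib.Helper7_Base
import Cfsg.Agent.Lib.Helper7_Bits

/-!
# Ordered 6-tuples of points under `M24`

`M24` has exactly two orbits on ordered 6-tuples of distinct points: the *special* ones (contained
in an octad) and the *umbral* ones.  The pointwise stabiliser of a special 6-tuple has order 16,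
that of an umbral one has order 3.
-/

set_option autoImplicit false
open scoped Pointwise
open Cfsg

namespace Cfsg.Agent.Lib.Helper7_Six

open Cfsg.Agent.Lib.Helper7_M24 Cfsg.Agent.Lib.Helper7_Bits Cfsg.Agent.Lib.Helper7_Perm
  Cfsg.Agent.Lib.Helper7_Code Cfsg.Agent.Lib.Helper7_Base Cfsg.Agent.Lib.Helper7_Sets
  Cfsg.Agent.S0364

/-- The standard special 6-tuple `(∞, 0, 1, 2, 3, 5)`. -/
def stdS : Fin 6 → GolayPt := fun i => dec ([23, 0, 1, 2, 3, 5].getD i.val 0)

/-- The standard umbral 6-tuple `(∞, 0, 1, 2, 3, 4)`. -/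
def stdU : Fin 6 → GolayPt := fun i => dec ([23, 0, 1, 2, 3, 4].getD i.val 0)

/-- A tuple of points is special when it is contained in an octad. -/
def Special {n : ℕ} (x : Fin n → GolayPt) : Prop := ∃ o ∈ octads, ∀ i, x i ∈ o

theorem baseEmb_eq (i : Fin 5) : Cfsg.Agent.S0366.baseEmb i = stdS (Fin.castSucc i) := by
  revert i; decide

theorem baseEmb_eq' (i : Fin 5) : Cfsg.Agent.S0366.baseEmb i = stdU (Fin.castSucc i) := by
  revert i; decide

theorem stdS_last : stdS (Fin.last 5) = dec 5 := rfl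

theorem stdU_last : stdU (Fin.last 5) = dec 4 := rfl

theorem baseEmb_mem_baseSet (i : Fin 5) : Cfsg.Agent.S0366.baseEmb i ∈ baseSet := by
  rw [mem_baseSet_iff]
  revert i; decide

theorem mem_baseSet_imp (p : GolayPt) (hp : p ∈ baseSet) :
    ∃ i : Fin 5, p = Cfsg.Agent.S0366.baseEmb i := by
  rw [mem_baseSet_iff] at hp
  revert p; decide

theorem baseEmb_mem_stdOct (i : Fin 5) :
    Cfsg.Agent.S0366.baseEmb i ∈ Cfsg.Agent.S0381.stdOct := by
  unfold Cfsg.Agent.S0381.stdOct
  rw [mem_maskSet]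
  revert i; decide

theorem five_mem_stdOct : dec 5 ∈ Cfsg.Agent.S0381.stdOct := by
  unfold Cfsg.Agent.S0381.stdOct
  rw [mem_maskSet]
  decide

theorem four_not_mem_stdOct : dec 4 ∉ Cfsg.Agent.S0381.stdOct := by
  unfold Cfsg.Agent.S0381.stdOct
  rw [mem_maskSet]
  decide

/-- An octad containing the five base points is the standard octad. -/
theorem eq_stdOct (o : Finset GolayPt) (ho : o ∈ octads)
    (h : ∀ i : Fin 5, Cfsg.Agent.S0366.baseEmb i ∈ o) : o = Cfsg.Agent.S0381.stdOct := by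
  apply Cfsg.Agent.Lib.Helper26_Golay.octad_eq_of_five_le ho Cfsg.Agent.S0381.stdOct_mem
  have hsub : Finset.univ.map Cfsg.Agent.S0366.baseEmb ⊆ o ∩ Cfsg.Agent.S0381.stdOct := by
    intro p hp
    rw [Finset.mem_map] at hp
    obtain ⟨i, _, rfl⟩ := hp
    exact Finset.mem_inter.mpr ⟨h i, baseEmb_mem_stdOct i⟩
  have := Finset.card_le_card hsub
  rwa [Finset.card_map, Finset.card_univ, Fintype.card_fin] at this

/-- Moving the first five points to the base points: the position of the sixth decides whether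
the tuple is special. -/
theorem special_iff (x : Fin 6 → GolayPt) (u : Equiv.Perm GolayPt) (hu : u ∈ M24)
    (h5 : ∀ i : Fin 5, u (x (Fin.castSucc i)) = Cfsg.Agent.S0366.baseEmb i) :
    Special x ↔ u (x (Fin.last 5)) ∈ Cfsg.Agent.S0381.stdOct := by
  constructor
  · rintro ⟨o, ho, hxo⟩
    have ho' : u • o ∈ octads := Cfsg.Agent.Lib.Helper26_Golay.smul_mem_octads hu ho
    have hmem : ∀ i, u (x i) ∈ u • o := fun i => Finset.smul_mem_smul_finset (hxo i)
    have : u • o = Cfsg.Agent.S0381.stdOct := by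
      apply eq_stdOct _ ho'
      intro i
      rw [← h5 i]
      exact hmem _
    rw [← this]
    exact hmem _
  · intro h
    refine ⟨u⁻¹ • Cfsg.Agent.S0381.stdOct,
      Cfsg.Agent.Lib.Helper26_Golay.smul_mem_octads (M24.inv_mem hu) Cfsg.Agent.S0381.stdOct_mem,
      fun i => ?_⟩
    rw [Finset.mem_inv_smul_finset_iff]
    refine Fin.lastCases ?_ (fun j => ?_) i
    · exact h
    · show u (x (Fin.castSucc j)) ∈ _
      rw [h5 j]
      exact baseEmb_mem_stdOct j

/-- The normal form of an ordered 6-tuple of distinct points under `M24`. -/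
theorem normal_form (x : Fin 6 ↪ GolayPt) :
    ∃ u ∈ M24, (Special x ∧ ∀ i, u (x i) = stdS i) ∨ (¬ Special x ∧ ∀ i, u (x i) = stdU i) := by
  -- first move the first five points
  let x5 : Fin 5 ↪ GolayPt := (Fin.castSuccEmb).trans x
  have h5t : MulAction.IsPretransitive M24 (Fin 5 ↪ GolayPt) := Cfsg.Agent.S0366.result
  obtain ⟨g0, hg0⟩ := h5t.exists_smul_eq x5 Cfsg.Agent.S0366.baseEmb
  have hg0i : ∀ i : Fin 5, (g0 : Equiv.Perm GolayPt) (x (Fin.castSucc i)) =
      Cfsg.Agent.S0366.baseEmb i := by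
    intro i
    have := congrArg (fun z : Fin 5 ↪ GolayPt => z i) hg0
    exact this
  set y : GolayPt := (g0 : Equiv.Perm GolayPt) (x (Fin.last 5)) with hy
  have hyB : baseMask5.testBit (enc y) = false := by
    by_contra hcon
    rw [Bool.not_eq_false] at hcon
    obtain ⟨i, hi⟩ := mem_baseSet_imp y ((mem_baseSet_iff y).mpr hcon)
    rw [← hg0i i, hy] at hi
    have := x.injective ((g0 : Equiv.Perm GolayPt).injective hi)
    exact absurd this (Fin.castSucc_lt_last i).ne'
  have hinvfix : ∀ h : Equiv.Perm GolayPt, (∀ p ∈ baseSet, h p = p) → ∀ i : Fin 5,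
      h⁻¹ (Cfsg.Agent.S0366.baseEmb i) = Cfsg.Agent.S0366.baseEmb i := by
    intro h hfix i
    rw [Equiv.Perm.inv_eq_iff_eq, hfix _ (baseEmb_mem_baseSet i)]
  by_cases hO : octMask.testBit (enc y) = true
  · -- special
    have hb : enc y ∈ [5, 14, 17] := by
      rcases oct_cases y hO hyB with h | h | h <;> simp [h]
    obtain ⟨h, hh, hfix, h5, -⟩ := exists_elt (enc y) 4 hb (by simp)
    rw [dec_enc] at h5
    refine ⟨h⁻¹ * g0, M24.mul_mem (M24.inv_mem hh) g0.2, Or.inl ⟨?_, ?_⟩⟩
    · rw [special_iff x g0 g0.2 hg0i]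
      unfold Cfsg.Agent.S0381.stdOct
      rw [mem_maskSet]
      exact hO
    · intro i
      refine Fin.lastCases ?_ (fun j => ?_) i
      · show h⁻¹ ((g0 : Equiv.Perm GolayPt) (x (Fin.last 5))) = stdS (Fin.last 5)
        rw [stdS_last, Equiv.Perm.inv_eq_iff_eq, h5]
      · show h⁻¹ ((g0 : Equiv.Perm GolayPt) (x (Fin.castSucc j))) = stdS (Fin.castSucc j)
        rw [hg0i j, hinvfix h hfix j, baseEmb_eq]
  · -- umbral
    rw [Bool.not_eq_true] at hO
    have hc := coOct_cases y hO
    obtain ⟨h, hh, hfix, -, h4⟩ := exists_elt 5 (enc y) (by simp) hc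
    rw [dec_enc] at h4
    refine ⟨h⁻¹ * g0, M24.mul_mem (M24.inv_mem hh) g0.2, Or.inr ⟨?_, ?_⟩⟩
    · rw [special_iff x g0 g0.2 hg0i]
      unfold Cfsg.Agent.S0381.stdOct
      rw [mem_maskSet, hO]
      simp
    · intro i
      refine Fin.lastCases ?_ (fun j => ?_) i
      · show h⁻¹ ((g0 : Equiv.Perm GolayPt) (x (Fin.last 5))) = stdU (Fin.last 5)
        rw [stdU_last, Equiv.Perm.inv_eq_iff_eq, h4]
      · show h⁻¹ ((g0 : Equiv.Perm GolayPt) (x (Fin.castSucc j))) = stdU (Fin.castSucc j)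
        rw [hg0i j, hinvfix h hfix j, baseEmb_eq']

/-- `M24` is transitive on special and on umbral ordered 6-tuples of distinct points. -/
theorem six_transitive (x y : Fin 6 ↪ GolayPt) (hxy : Special x ↔ Special y) :
    ∃ g ∈ M24, ∀ i, g (x i) = y i := by
  obtain ⟨u, hu, hux⟩ := normal_form x
  obtain ⟨v, hv, hvy⟩ := normal_form y
  refine ⟨v⁻¹ * u, M24.mul_mem (M24.inv_mem hv) hu, fun i => ?_⟩
  show v⁻¹ (u (x i)) = y i
  rw [Equiv.Perm.inv_eq_iff_eq]
  rcases hux with ⟨hs, hux⟩ | ⟨hs, hux⟩ <;> rcases hvy with ⟨hs', hvy⟩ | ⟨hs', hvy⟩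
  · rw [hux, hvy]
  · exact absurd (hxy.mp hs) hs'
  · exact absurd (hxy.mpr hs') hs
  · rw [hux, hvy]

/-- The set of elements of `M24` fixing each entry of a tuple. -/
abbrev Fix {n : ℕ} (x : Fin n → GolayPt) : Type :=
  {g : Equiv.Perm GolayPt // g ∈ M24 ∧ ∀ i, g (x i) = x i}

/-- Conjugation transports pointwise stabilisers of tuples. -/
def conjEquiv {n : ℕ} (u : Equiv.Perm GolayPt) (hu : u ∈ M24) (x : Fin n → GolayPt) :
    Fix x ≃ Fix (fun i => u (x i)) where
  toFun g := ⟨u * g.1 * u⁻¹, M24.mul_mem (M24.mul_mem hu g.2.1) (M24.inv_mem hu), fun i => by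
    show u (g.1 (u⁻¹ (u (x i)))) = u (x i)
    have h1 : u⁻¹ (u (x i)) = x i := by simp
    rw [h1, g.2.2 i]⟩
  invFun g := ⟨u⁻¹ * g.1 * u, M24.mul_mem (M24.mul_mem (M24.inv_mem hu) g.2.1) hu, fun i => by
    show u⁻¹ (g.1 (u (x i))) = x i
    rw [g.2.2 i]
    simp⟩
  left_inv g := Subtype.ext (by simp [mul_assoc])
  right_inv g := Subtype.ext (by simp [mul_assoc])

theorem stdS_cases : ∀ p : GolayPt, p ∈ baseSet → ∃ i : Fin 6, p = stdS i := by
  intro p hp
  obtain ⟨i, hi⟩ := mem_baseSet_imp p hp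
  exact ⟨Fin.castSucc i, by rw [hi, baseEmb_eq]⟩

theorem stdU_cases : ∀ p : GolayPt, p ∈ baseSet → ∃ i : Fin 6, p = stdU i := by
  intro p hp
  obtain ⟨i, hi⟩ := mem_baseSet_imp p hp
  exact ⟨Fin.castSucc i, by rw [hi, baseEmb_eq']⟩

/-- The sixteen points outside the standard octad. -/
def coTargets : Finset GolayPt :=
  ([4, 6, 7, 8, 9, 10, 11, 12, 13, 15, 16, 18, 19, 20, 21, 22].map dec).toFinset

/-- The three further points of the standard octad. -/
def octTargets : Finset GolayPt := ([5, 14, 17].map dec).toFinset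

theorem coTargets_card : coTargets.card = 16 := by decide

theorem octTargets_card : octTargets.card = 3 := by decide

/-- Lift an element fixing the base points to `F5`. -/
def toF5 (g : Equiv.Perm GolayPt) (hg : g ∈ M24) (hfix : ∀ p ∈ baseSet, g p = p) : F5 :=
  ⟨⟨g, hg⟩, (mem_F5_iff _).mpr hfix⟩

theorem card_Fix_stdS : Nat.card (Fix stdS) = 16 := by
  have hfixB : ∀ g : Fix stdS, ∀ p ∈ baseSet, g.1 p = p := by
    intro g p hp
    obtain ⟨i, rfl⟩ := stdS_cases p hp
    exact g.2.2 i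
  let ψ : Fix stdS → GolayPt := fun g => g.1 (dec 4)
  have hphi : ∀ g : Fix stdS, phi (toF5 g.1 g.2.1 (hfixB g)) = (dec 5, g.1 (dec 4)) := by
    intro g
    show (g.1 (dec 5), g.1 (dec 4)) = (dec 5, g.1 (dec 4))
    have := g.2.2 (Fin.last 5)
    rw [stdS_last] at this
    rw [this]
  have hinj : Function.Injective ψ := by
    intro g g' hgg'
    have h1 : phi (toF5 g.1 g.2.1 (hfixB g)) = phi (toF5 g'.1 g'.2.1 (hfixB g')) := by
      rw [hphi, hphi]
      show (dec 5, ψ g) = (dec 5, ψ g')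
      rw [hgg']
    have h2 := phi_injective h1
    apply Subtype.ext
    exact congrArg (fun z : F5 => ((z : M24) : Equiv.Perm GolayPt)) h2
  have hrange : Set.range ψ = (coTargets : Set GolayPt) := by
    ext c
    constructor
    · rintro ⟨g, rfl⟩
      have hmem : phi (toF5 g.1 g.2.1 (hfixB g)) ∈ Set.range phi := ⟨_, rfl⟩
      rw [range_phi, hphi, Finset.mem_coe, targets, Finset.mem_product] at hmem
      exact hmem.2
    · intro hc
      rw [Finset.mem_coe, coTargets, List.mem_toFinset, List.mem_map] at hc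
      obtain ⟨c', hc', rfl⟩ := hc
      obtain ⟨g, hg, hfix, h5, h4⟩ := exists_elt 5 c' (by simp) hc'
      refine ⟨⟨g, hg, fun i => ?_⟩, h4⟩
      refine Fin.lastCases ?_ (fun j => ?_) i
      · rw [stdS_last]; exact h5
      · rw [← baseEmb_eq]
        exact hfix _ (baseEmb_mem_baseSet j)
  rw [← Nat.card_range_of_injective hinj, hrange, Nat.card_coe_set_eq, Set.ncard_coe_finset]
  exact coTargets_card

theorem card_Fix_stdU : Nat.card (Fix stdU) = 3 := by
  have hfixB : ∀ g : Fix stdU, ∀ p ∈ baseSet, g.1 p = p := by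
    intro g p hp
    obtain ⟨i, rfl⟩ := stdU_cases p hp
    exact g.2.2 i
  let ψ : Fix stdU → GolayPt := fun g => g.1 (dec 5)
  have hphi : ∀ g : Fix stdU, phi (toF5 g.1 g.2.1 (hfixB g)) = (g.1 (dec 5), dec 4) := by
    intro g
    show (g.1 (dec 5), g.1 (dec 4)) = (g.1 (dec 5), dec 4)
    have := g.2.2 (Fin.last 5)
    rw [stdU_last] at this
    rw [this]
  have hinj : Function.Injective ψ := by
    intro g g' hgg'
    have h1 : phi (toF5 g.1 g.2.1 (hfixB g)) = phi (toF5 g'.1 g'.2.1 (hfixB g')) := by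
      rw [hphi, hphi]
      show (ψ g, dec 4) = (ψ g', dec 4)
      rw [hgg']
    have h2 := phi_injective h1
    apply Subtype.ext
    exact congrArg (fun z : F5 => ((z : M24) : Equiv.Perm GolayPt)) h2
  have hrange : Set.range ψ = (octTargets : Set GolayPt) := by
    ext c
    constructor
    · rintro ⟨g, rfl⟩
      have hmem : phi (toF5 g.1 g.2.1 (hfixB g)) ∈ Set.range phi := ⟨_, rfl⟩
      rw [range_phi, hphi, Finset.mem_coe, targets, Finset.mem_product] at hmem
      exact hmem.1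
    · intro hc
      rw [Finset.mem_coe, octTargets, List.mem_toFinset, List.mem_map] at hc
      obtain ⟨c', hc', rfl⟩ := hc
      obtain ⟨g, hg, hfix, h5, h4⟩ := exists_elt c' 4 hc' (by simp)
      refine ⟨⟨g, hg, fun i => ?_⟩, h5⟩
      refine Fin.lastCases ?_ (fun j => ?_) i
      · rw [stdU_last]; exact h4
      · rw [← baseEmb_eq']
        exact hfix _ (baseEmb_mem_baseSet j)
  rw [← Nat.card_range_of_injective hinj, hrange, Nat.card_coe_set_eq, Set.ncard_coe_finset]
  exact octTargets_card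

/-- The pointwise stabiliser of a special ordered 6-tuple of distinct points has order 16. -/
theorem card_Fix_special (x : Fin 6 ↪ GolayPt) (hx : Special x) : Nat.card (Fix x) = 16 := by
  obtain ⟨u, hu, hux⟩ := normal_form x
  rcases hux with ⟨-, hux⟩ | ⟨hs, -⟩
  · have e := conjEquiv u hu x
    have : (fun i => u (x i)) = stdS := funext hux
    rw [this] at e
    rw [Nat.card_congr e, card_Fix_stdS]
  · exact absurd hx hs

/-- The pointwise stabiliser of an umbral ordered 6-tuple of distinct points has order 3. -/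
theorem card_Fix_umbral (x : Fin 6 ↪ GolayPt) (hx : ¬ Special x) : Nat.card (Fix x) = 3 := by
  obtain ⟨u, hu, hux⟩ := normal_form x
  rcases hux with ⟨hs, -⟩ | ⟨-, hux⟩
  · exact absurd hs hx
  · have e := conjEquiv u hu x
    have : (fun i => u (x i)) = stdU := funext hux
    rw [this] at e
    rw [Nat.card_congr e, card_Fix_stdU]

end Cfsg.Agent.Lib.Helper7_Six
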