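/-
helper7: uniqueness and rigidity of the Steiner system `S(4, 5, 11)`, by a kernel-checked
search-tree certificate (see `Helper7_SteinerTree`).
-/
import Mathlib
import Cfsg.Prelude.Def_Sporadic_a
import Cfsg.Agent.Lib.Helper7_SteinerTree

set_option autoImplicit false
set_option linter.unusedSectionVars false
set_option linter.unusedVariables false

namespace Cfsg.Agent.Lib.Helper7_Steiner11

open Cfsg Cfsg.Agent.Lib.Helper7_SteinerTree

/-- the target system -/
def S0 : List ℕ := [31, 103, 121, 171, 182, 213, 218, 236, 301, 314, 334, 339, 372, 391, 412, 433, 457, 482, 558, 565, 587, 604, 626, 653, 659, 696, 710, 737, 790, 793, 803, 837, 872, 906, 932, 976, 1075, 1084, 1101, 1110, 1130, 1166, 1177, 1189, 1219, 1264, 1291, 1301, 1318, 1368, 1377, 1426, 1448, 1476, 1543, 1562, 1577, 1617, 1636, 1684, 1698, 1736, 1804, 1840, 1858, 1921]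

/-- the search-tree certificate -/
def cert : List Item := [
  .query 15, .label, .query 39, .query 43, .query 135, .query 75, .query 51, .query 83, .query 45, .query 46, .query 519, .query 523,
  .query 519, .query 523, .query 519, .query 523, .query 519, .query 523, .query 519, .query 267, .query 1059, .query 291, .query 275, .query 147,
  .query 195, .query 45, .query 525, .query 77, .query 549, .query 85, .query 277, .query 165, .query 325, .query 57, .query 553, .query 537,
  .query 153, .query 201, .query 177, .query 593, .query 225, .query 353, .query 897, .query 46, .query 270, .query 142, .query 150, .query 278,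
  .query 86, .query 294, .query 198, .query 58, .query 90, .query 538, .query 106, .query 394, .query 114, .query 402, .query 226, .query 674,
  .query 834, .query 60, .query 92, .query 156, .query 108, .query 780, .query 116, .query 660, .query 612, .query 420, .query 452, .query 184,
  .query 344, .query 360, .query 424, .query 712, .query 240, .query 816, .query 464, .leaf [0, 1, 2, 3, 4, 5, 6, 7, 8, 9, 10], .query 142, .query 270, .query 278, .query 150,
  .query 86, .query 166, .query 326, .query 58, .query 90, .query 154, .query 106, .query 650, .query 114, .query 786, .query 610, .query 418,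
  .query 450, .query 60, .query 92, .query 540, .query 108, .query 396, .query 116, .query 404, .query 228, .query 804, .query 708, .query 312,
  .query 216, .query 232, .query 424, .query 840, .query 368, .query 688, .query 464, .leaf [0, 1, 2, 3, 4, 6, 5, 9, 10, 7, 8], .query 269, .query 141, .query 165, .query 293,
  .query 277, .query 85, .query 197, .query 537, .query 297, .query 89, .query 105, .query 393, .query 113, .query 401, .query 225, .query 673,
  .query 833, .query 46, .query 526, .query 78, .query 54, .query 86, .query 278, .query 166, .query 326, .query 58, .query 538, .query 154,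
  .query 554, .query 202, .query 178, .query 594, .query 226, .query 354, .query 898, .query 60, .query 92, .query 156, .query 108, .query 780,
  .query 116, .query 660, .query 612, .query 420, .query 452, .query 184, .query 344, .query 360, .query 424, .query 712, .query 240, .query 816,
  .query 464, .leaf [0, 1, 2, 3, 4, 10, 9, 8, 7, 6, 5], .query 78, .query 270, .query 86, .query 54, .query 150, .query 166, .query 326, .query 154, .query 538, .query 90,
  .query 106, .query 650, .query 114, .query 786, .query 610, .query 418, .query 450, .query 60, .query 156, .query 284, .query 172, .query 588,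
  .query 564, .query 212, .query 228, .query 356, .query 900, .query 184, .query 344, .query 232, .query 808, .query 456, .query 368, .query 432,
  .query 720, .leaf [0, 1, 2, 3, 4, 9, 10, 6, 5, 8, 7], .query 293, .query 533, .query 149, .query 165, .query 141, .query 269, .query 325, .query 153, .query 297, .query 57,
  .query 89, .query 649, .query 113, .query 785, .query 609, .query 417, .query 449, .query 46, .query 78, .query 142, .query 86, .query 54,
  .query 278, .query 166, .query 326, .query 58, .query 154, .query 282, .query 554, .query 202, .query 178, .query 594, .query 226, .query 354,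
  .query 898, .query 60, .query 92, .query 540, .query 108, .query 396, .query 116, .query 404, .query 228, .query 804, .query 708, .query 312,
  .query 216, .query 232, .query 424, .query 840, .query 368, .query 688, .query 464, .leaf [0, 1, 2, 3, 4, 8, 7, 10, 9, 5, 6], .query 142, .query 78, .query 54, .query 86,
  .query 278, .query 294, .query 198, .query 154, .query 58, .query 538, .query 106, .query 394, .query 114, .query 402, .query 226, .query 674,
  .query 834, .query 60, .query 156, .query 284, .query 172, .query 588, .query 564, .query 212, .query 228, .query 356, .query 900, .query 184,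
  .query 344, .query 232, .query 808, .query 456, .query 368, .query 432, .query 720, .leaf [0, 1, 2, 3, 4, 7, 8, 5, 6, 10, 9]
]

theorem check_ok : (check 11 4 S0 120 4 [] cert).isSome = true := by decide +kernel

theorem covers_ok : covers 32 4 S0 = true := by decide +kernel

theorem rigid_ok : rigid 11 S0 7 [0, 1, 2, 3] = true := by decide +kernel

theorem S0_lt : ∀ m ∈ S0, m < 2 ^ 11 := by decide +kernel

variable {α : Type*} [Fintype α] [DecidableEq α]

/-- every `S(4, 5, 11)` is the image of the target system under a bijection taking the first four
points to four prescribed points -/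
theorem exists_equiv11 (hα : Fintype.card α = 11) {B : Set (Finset α)}
    (hB : IsSteinerSystem 4 5 B) (x : Fin 4 ↪ α) :
    ∃ e : Fin 11 ≃ α, (∀ i : Fin 4, e (Fin.castLE (by norm_num) i) = x i) ∧
      tr e (sys 11 S0) = B := by
  obtain ⟨rest, hrest⟩ := Option.isSome_iff_exists.mp check_ok
  exact exists_equiv popc_eq11 (by norm_num) hrest (A := 32) (by norm_num) covers_ok hα hB x

/-- a permutation of `Fin 11` preserving the target system and fixing `0, …, 3` is trivial -/
theorem rigid11 (h : Equiv.Perm (Fin 11)) (haut : tr h (sys 11 S0) = sys 11 S0)
    (hfix : ∀ i : Fin 11, i.val < 4 → h i = i) : h = 1 := by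
  apply rigid_sound S0_lt 7 [0, 1, 2, 3] rigid_ok rfl h
  · intro m hm
    have : (toSet 11 m).image h ∈ sys 11 S0 := by
      rw [← haut]; exact image_mem_tr ⟨m, hm, rfl⟩
    obtain ⟨m', hm', h'⟩ := this
    exact ⟨m', hm', h'⟩
  · intro i hi
    simp only [List.length_cons, List.length_nil] at hi
    rw [hfix i (by omega)]
    have : i.val = 0 ∨ i.val = 1 ∨ i.val = 2 ∨ i.val = 3 := by omega
    rcases this with h0 | h0 | h0 | h0 <;> rw [h0] <;> rfl

end Cfsg.Agent.Lib.Helper7_Steiner11
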