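/-
helper7: uniqueness and rigidity of the Steiner system `S(5, 6, 12)`, by a kernel-checked
search-tree certificate (see `Helper7_SteinerTree`).
-/
import Mathlib
import Cfsg.Prelude.Def_Sporadic_a
import Cfsg.Agent.Lib.Helper7_SteinerTree

set_option autoImplicit false
set_option linter.unusedSectionVars false
set_option linter.unusedVariables false

namespace Cfsg.Agent.Lib.Helper7_Steiner12

open Cfsg Cfsg.Agent.Lib.Helper7_SteinerTree

/-- the target system -/
def S0 : List ℕ := [63, 207, 243, 252, 343, 365, 378, 414, 427, 437, 473, 486, 603, 622, 629, 669, 679, 698, 726, 745, 783, 822, 825, 860, 867, 915, 940, 965, 970, 1008, 1117, 1131, 1142, 1175, 1198, 1209, 1242, 1253, 1307, 1319, 1340, 1358, 1393, 1421, 1458, 1475, 1492, 1512, 1566, 1581, 1587, 1607, 1656, 1675, 1716, 1740, 1745, 1762, 1813, 1834, 1865, 1874, 1892, 1926, 1944, 1953, 2142, 2151, 2169, 2203, 2221, 2230, 2261, 2282, 2333, 2350, 2355, 2379, 2420, 2439, 2488, 2508, 2514, 2529, 2583, 2603, 2620, 2637, 2674, 2702, 2737, 2755, 2776, 2788, 2842, 2853, 2886, 2897, 2920, 2953, 2964, 2978, 3087, 3125, 3130, 3155, 3180, 3228, 3235, 3270, 3273, 3312, 3350, 3369, 3397, 3416, 3426, 3466, 3473, 3492, 3609, 3622, 3658, 3668, 3681, 3717, 3730, 3752, 3843, 3852,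 3888, 4032]

/-- the search-tree certificate -/
def cert : List Item := [
  .query 31, .label, .query 79, .query 87, .query 271, .query 151, .query 103, .query 167, .query 91, .query 93, .query 1039, .query 1047,
  .query 1039, .query 1047, .query 1039, .query 1047, .query 1039, .query 1047, .query 1039, .query 535, .query 2119, .query 583, .query 551, .query 295,
  .query 391, .query 91, .query 1051, .query 155, .query 1099, .query 171, .query 555, .query 331, .query 651, .query 115, .query 1107, .query 1075,
  .query 307, .query 403, .query 355, .query 1187, .query 451, .query 707, .query 1795, .query 93, .query 541, .query 285, .query 301, .query 557,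
  .query 173, .query 589, .query 397, .query 117, .query 181, .query 1077, .query 213, .query 789, .query 229, .query 805, .query 453, .query 1349,
  .query 1669, .query 121, .query 185, .query 313, .query 217, .query 1561, .query 233, .query 1321, .query 1225, .query 841, .query 905, .query 369,
  .query 689, .query 721, .query 849, .query 1425, .query 481, .query 1633, .query 929, .query 94, .query 158, .query 542, .query 110, .query 174,
  .query 302, .query 334, .query 654, .query 118, .query 182, .query 310, .query 214, .query 1302, .query 230, .query 1574, .query 1222, .query 838,
  .query 902, .query 122, .query 186, .query 1082, .query 218, .query 794, .query 234, .query 810, .query 458, .query 1610, .query 1418, .query 626,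
  .query 434, .query 466, .query 850, .query 1682, .query 738, .query 1378, .query 930, .query 124, .query 316, .query 572, .query 348, .query 1180,
  .query 1132, .query 428, .query 460, .query 716, .query 1804, .query 372, .query 692, .query 468, .query 1620, .query 916, .query 740, .query 868,
  .query 1444, .query 632, .query 440, .query 728, .query 1368, .query 920, .query 488, .query 872, .query 1704, .query 496, .query 1264, .query 1840,
  .query 1984, .leaf [0, 1, 2, 3, 4, 5, 6, 7, 8, 9, 10, 11], .query 285, .query 541, .query 557, .query 301, .query 173, .query 333, .query 653, .query 117, .query 181, .query 309,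
  .query 213, .query 1301, .query 229, .query 1573, .query 1221, .query 837, .query 901, .query 121, .query 185, .query 1081, .query 217, .query 793,
  .query 233, .query 809, .query 457, .query 1609, .query 1417, .query 625, .query 433, .query 465, .query 849, .query 1681, .query 737, .query 1377,
  .query 929, .query 94, .query 158, .query 286, .query 110, .query 174, .query 558, .query 590, .query 398, .query 118, .query 182, .query 1078,
  .query 214, .query 790, .query 230, .query 806, .query 454, .query 1350, .query 1670, .query 122, .query 186, .query 314, .query 218, .query 1562,
  .query 234, .query 1322, .query 1226, .query 842, .query 906, .query 370, .query 690, .query 722, .query 850, .query 1426, .query 482, .query 1634,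
  .query 930, .query 124, .query 316, .query 572, .query 348, .query 1180, .query 1132, .query 428, .query 460, .query 716, .query 1804, .query 372,
  .query 692, .query 468, .query 1620, .query 916, .query 740, .query 868, .query 1444, .query 632, .query 440, .query 728, .query 1368, .query 920,
  .query 488, .query 872, .query 1704, .query 496, .query 1264, .query 1840, .query 1984, .leaf [0, 1, 2, 3, 4, 5, 7, 6, 10, 11, 8, 9], .query 539, .query 283, .query 331, .query 587,
  .query 555, .query 171, .query 395, .query 1075, .query 595, .query 179, .query 211, .query 787, .query 227, .query 803, .query 451, .query 1347,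
  .query 1667, .query 93, .query 1053, .query 157, .query 109, .query 173, .query 557, .query 333, .query 653, .query 117, .query 1077, .query 309,
  .query 1109, .query 405, .query 357, .query 1189, .query 453, .query 709, .query 1797, .query 121, .query 185, .query 313, .query 217, .query 1561,
  .query 233, .query 1321, .query 1225, .query 841, .query 905, .query 369, .query 689, .query 721, .query 849, .query 1425, .query 481, .query 1633,
  .query 929, .query 94, .query 158, .query 542, .query 110, .query 174, .query 302, .query 334, .query 654, .query 118, .query 182, .query 310,
  .query 214, .query 1302, .query 230, .query 1574, .query 1222, .query 838, .query 902, .query 122, .query 314, .query 570, .query 346, .query 1178,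
  .query 1130, .query 426, .query 458, .query 714, .query 1802, .query 370, .query 690, .query 466, .query 1618, .query 914, .query 738, .query 866,
  .query 1442, .query 124, .query 188, .query 1084, .query 220, .query 796, .query 236, .query 812, .query 460, .query 1612, .query 1420, .query 628,
  .query 436, .query 468, .query 852, .query 1684, .query 740, .query 1380, .query 932, .query 632, .query 440, .query 728, .query 1368, .query 920,
  .query 488, .query 872, .query 1704, .query 496, .query 1264, .query 1840, .query 1984, .leaf [0, 1, 2, 3, 4, 5, 11, 10, 9, 8, 7, 6], .query 157, .query 541, .query 173, .query 109,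
  .query 301, .query 333, .query 653, .query 309, .query 1077, .query 181, .query 213, .query 1301, .query 229, .query 1573, .query 1221, .query 837,
  .query 901, .query 121, .query 313, .query 569, .query 345, .query 1177, .query 1129, .query 425, .query 457, .query 713, .query 1801, .query 369,
  .query 689, .query 465, .query 1617, .query 913, .query 737, .query 865, .query 1441, .query 94, .query 158, .query 286, .query 110, .query 174,
  .query 558, .query 334, .query 654, .query 118, .query 310, .query 566, .query 1110, .query 406, .query 358, .query 1190, .query 454, .query 710,
  .query 1798, .query 122, .query 186, .query 314, .query 218, .query 1562, .query 234, .query 1322, .query 1226, .query 842, .query 906, .query 370,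
  .query 690, .query 722, .query 850, .query 1426, .query 482, .query 1634, .query 930, .query 124, .query 188, .query 1084, .query 220, .query 796,
  .query 236, .query 812, .query 460, .query 1612, .query 1420, .query 628, .query 436, .query 468, .query 852, .query 1684, .query 740, .query 1380,
  .query 932, .query 632, .query 440, .query 728, .query 1368, .query 920, .query 488, .query 872, .query 1704, .query 496, .query 1264, .query 1840,
  .query 1984, .leaf [0, 1, 2, 3, 4, 5, 10, 11, 7, 6, 9, 8], .query 587, .query 1067, .query 299, .query 331, .query 283, .query 539, .query 651, .query 307, .query 595, .query 115,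
  .query 179, .query 1299, .query 227, .query 1571, .query 1219, .query 835, .query 899, .query 93, .query 157, .query 285, .query 173, .query 109,
  .query 557, .query 333, .query 653, .query 117, .query 309, .query 565, .query 1109, .query 405, .query 357, .query 1189, .query 453, .query 709,
  .query 1797, .query 121, .query 185, .query 1081, .query 217, .query 793, .query 233, .query 809, .query 457, .query 1609, .query 1417, .query 625,
  .query 433, .query 465, .query 849, .query 1681, .query 737, .query 1377, .query 929, .query 94, .query 158, .query 286, .query 110, .query 174,
  .query 558, .query 590, .query 398, .query 118, .query 182, .query 1078, .query 214, .query 790, .query 230, .query 806, .query 454, .query 1350,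
  .query 1670, .query 122, .query 314, .query 570, .query 346, .query 1178, .query 1130, .query 426, .query 458, .query 714, .query 1802, .query 370,
  .query 690, .query 466, .query 1618, .query 914, .query 738, .query 866, .query 1442, .query 124, .query 188, .query 316, .query 220, .query 1564,
  .query 236, .query 1324, .query 1228, .query 844, .query 908, .query 372, .query 692, .query 724, .query 852, .query 1428, .query 484, .query 1636,
  .query 932, .query 632, .query 440, .query 728, .query 1368, .query 920, .query 488, .query 872, .query 1704, .query 496, .query 1264, .query 1840,
  .query 1984, .leaf [0, 1, 2, 3, 4, 5, 9, 8, 11, 10, 6, 7], .query 285, .query 157, .query 109, .query 173, .query 557, .query 589, .query 397, .query 309, .query 117, .query 1077,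
  .query 213, .query 789, .query 229, .query 805, .query 453, .query 1349, .query 1669, .query 121, .query 313, .query 569, .query 345, .query 1177,
  .query 1129, .query 425, .query 457, .query 713, .query 1801, .query 369, .query 689, .query 465, .query 1617, .query 913, .query 737, .query 865,
  .query 1441, .query 94, .query 158, .query 286, .query 110, .query 174, .query 558, .query 334, .query 654, .query 118, .query 310, .query 566,
  .query 1110, .query 406, .query 358, .query 1190, .query 454, .query 710, .query 1798, .query 122, .query 186, .query 1082, .query 218, .query 794,
  .query 234, .query 810, .query 458, .query 1610, .query 1418, .query 626, .query 434, .query 466, .query 850, .query 1682, .query 738, .query 1378,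
  .query 930, .query 124, .query 188, .query 316, .query 220, .query 1564, .query 236, .query 1324, .query 1228, .query 844, .query 908, .query 372,
  .query 692, .query 724, .query 852, .query 1428, .query 484, .query 1636, .query 932, .query 632, .query 440, .query 728, .query 1368, .query 920,
  .query 488, .query 872, .query 1704, .query 496, .query 1264, .query 1840, .query 1984, .leaf [0, 1, 2, 3, 4, 5, 8, 9, 6, 7, 11, 10]
]

theorem check_ok : (check 12 5 S0 200 5 [] cert).isSome = true := by decide +kernel

theorem covers_ok : covers 64 5 S0 = true := by decide +kernel

theorem rigid_ok : rigid 12 S0 7 [0, 1, 2, 3, 4] = true := by decide +kernel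

theorem S0_lt : ∀ m ∈ S0, m < 2 ^ 12 := by decide +kernel

variable {α : Type*} [Fintype α] [DecidableEq α]

/-- every `S(5, 6, 12)` is the image of the target system under a bijection taking the first five
points to five prescribed points -/
theorem exists_equiv12 (hα : Fintype.card α = 12) {B : Set (Finset α)}
    (hB : IsSteinerSystem 5 6 B) (x : Fin 5 ↪ α) :
    ∃ e : Fin 12 ≃ α, (∀ i : Fin 5, e (Fin.castLE (by norm_num) i) = x i) ∧
      tr e (sys 12 S0) = B := by
  obtain ⟨rest, hrest⟩ := Option.isSome_iff_exists.mp check_ok
  exact exists_equiv popc_eq12 (by norm_num) hrest (A := 64) (by norm_num) covers_ok hα hB x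

/-- a permutation of `Fin 12` preserving the target system and fixing `0, …, 4` is trivial -/
theorem rigid12 (h : Equiv.Perm (Fin 12)) (haut : tr h (sys 12 S0) = sys 12 S0)
    (hfix : ∀ i : Fin 12, i.val < 5 → h i = i) : h = 1 := by
  apply rigid_sound S0_lt 7 [0, 1, 2, 3, 4] rigid_ok rfl h
  · intro m hm
    have : (toSet 12 m).image h ∈ sys 12 S0 := by
      rw [← haut]; exact image_mem_tr ⟨m, hm, rfl⟩
    obtain ⟨m', hm', h'⟩ := this
    exact ⟨m', hm', h'⟩
  · intro i hi
    simp only [List.length_cons, List.length_nil] at hi
    rw [hfix i (by omega)]
    have : i.val = 0 ∨ i.val = 1 ∨ i.val = 2 ∨ i.val = 3 ∨ i.val = 4 := by omega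
    rcases this with h0 | h0 | h0 | h0 | h0 <;> rw [h0] <;> rfl

end Cfsg.Agent.Lib.Helper7_Steiner12
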