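import Mathlib
import Cfsg.Agent.Lib.Helper95_Burnside
import Cfsg.Agent.Lib.Helper81_OrbitCount

/-!
# Orbit counting for multiply transitive actions (helper80)

Generic tools: the number of orbits is the number of values of a complete invariant; the sum of
products of fixed point numbers is the number of orbits on the product; fixed points on
arrangements; transitivity on small tuples.
-/

set_option autoImplicit false

namespace Cfsg.Agent.Lib.Helper80_AltCharA

open MulAction

/-- The number of orbits is the number of values of a complete invariant. -/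
theorem natCard_orbits_eq {G Z K : Type*} [Group G] [MulAction G Z] (ι : Z → K)
    (hinv : ∀ (g : G) (z : Z), ι (g • z) = ι z)
    (htr : ∀ z z' : Z, ι z = ι z' → ∃ g : G, g • z = z') :
    Nat.card (Quotient (orbitRel G Z)) = Nat.card (Set.range ι) := by
  apply Nat.card_congr
  refine Equiv.ofBijective
    (Quotient.lift (fun z => (⟨ι z, z, rfl⟩ : Set.range ι)) ?_) ⟨?_, ?_⟩
  · intro a b hab
    obtain ⟨g, rfl⟩ := hab
    exact Subtype.ext (hinv g b)
  · intro q q'
    induction q using Quotient.inductionOn with
    | h z =>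
      induction q' using Quotient.inductionOn with
      | h z' =>
        intro h
        have h' : ι z = ι z' := congrArg Subtype.val h
        obtain ⟨g, hg⟩ := htr z z' h'
        apply Quotient.sound
        exact ⟨g⁻¹, by subst hg; exact inv_smul_smul g z⟩
  · rintro ⟨k, z, rfl⟩
    exact ⟨Quotient.mk _ z, rfl⟩

/-- Burnside on a product: the products of the fixed point numbers sum to
`(number of orbits on the product) * |G|`. -/
theorem sum_fixedBy_mul {G X Y : Type*} [Group G] [Fintype G] [MulAction G X] [MulAction G Y]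
    [Finite X] [Finite Y] :
    ∑ g : G, Nat.card (fixedBy X g) * Nat.card (fixedBy Y g) =
      Nat.card (Quotient (orbitRel G (X × Y))) * Nat.card G := by
  rw [← Cfsg.Agent.Lib.Helper95_Burnside.sum_natCard_fixedBy]
  refine Finset.sum_congr rfl fun g _ => ?_
  rw [Cfsg.Agent.Lib.Helper81_OrbitCount.card_fixedBy_prod]

/-- Burnside on a product with a complete invariant. -/
theorem sum_fixedBy_mul_of_invariant {G X Y K : Type*} [Group G] [Fintype G] [MulAction G X]
    [MulAction G Y] [Finite X] [Finite Y] (ι : X × Y → K) (m : ℕ)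
    (hinv : ∀ (g : G) (z : X × Y), ι (g • z) = ι z)
    (htr : ∀ z z' : X × Y, ι z = ι z' → ∃ g : G, g • z = z')
    (hm : Nat.card (Set.range ι) = m) :
    ∑ g : G, Nat.card (fixedBy X g) * Nat.card (fixedBy Y g) = m * Nat.card G := by
  rw [sum_fixedBy_mul, natCard_orbits_eq ι hinv htr, hm]

section emb

variable {G Ω : Type*} [Group G] [MulAction G Ω]

/-- The arrangements fixed by `g` are the arrangements of fixed points. -/
theorem natCard_fixedBy_emb [Finite Ω] (j : ℕ) (g : G) :
    Nat.card (fixedBy (Fin j ↪ Ω) g) = (Nat.card (fixedBy Ω g)).descFactorial j := by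
  classical
  have : Fintype Ω := Fintype.ofFinite Ω
  have e : fixedBy (Fin j ↪ Ω) g ≃ (Fin j ↪ fixedBy Ω g) :=
    { toFun := fun e => ⟨fun i => ⟨e.1 i, by
          have h := e.2
          rw [mem_fixedBy] at h ⊢
          have := DFunLike.congr_fun h i
          simpa using this⟩, fun i i' h => e.1.injective (congrArg Subtype.val h)⟩
      invFun := fun e => ⟨e.trans (Function.Embedding.subtype _), by
          rw [mem_fixedBy]
          ext i
          have := (e i).2
          rw [mem_fixedBy] at this
          simpa using this⟩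
      left_inv := fun e => by
        ext i
        rfl
      right_inv := fun e => by
        ext i
        rfl }
  rw [Nat.card_congr e, Nat.card_eq_fintype_card, Fintype.card_embedding_eq, Fintype.card_fin,
    Nat.card_eq_fintype_card]

/-- The descending factorials of the fixed point numbers sum to `|G|`. -/
theorem sum_descFactorial [Fintype G] [Finite Ω] (j : ℕ) [IsMultiplyPretransitive G Ω j]
    (hj : j ≤ Nat.card Ω) :
    ∑ g : G, (Nat.card (fixedBy Ω g)).descFactorial j = Nat.card G := by
  classical
  have : Fintype Ω := Fintype.ofFinite Ω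
  have hne : Nonempty (Fin j ↪ Ω) := by
    rw [Function.Embedding.nonempty_iff_card_le, Fintype.card_fin, ← Nat.card_eq_fintype_card]
    exact hj
  rw [← Cfsg.Agent.Lib.Helper95_Burnside.sum_natCard_fixedBy_of_transitive (G := G)
    (X := Fin j ↪ Ω)]
  exact Finset.sum_congr rfl fun g _ => (natCard_fixedBy_emb j g).symm

/-- transitivity on tuples given as functions -/
theorem exists_smul_fin {k : ℕ} [IsMultiplyPretransitive G Ω k] (x y : Fin k → Ω)
    (hx : Function.Injective x) (hy : Function.Injective y) : ∃ g : G, ∀ i, g • x i = y i := by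
  obtain ⟨g, hg⟩ := exists_smul_eq G (⟨x, hx⟩ : Fin k ↪ Ω) ⟨y, hy⟩
  refine ⟨g, fun i => ?_⟩
  have := DFunLike.congr_fun hg i
  simpa using this

theorem exists_smul_two [IsMultiplyPretransitive G Ω 2] {a b a' b' : Ω} (hab : a ≠ b)
    (hab' : a' ≠ b') : ∃ g : G, g • a = a' ∧ g • b = b' := by
  obtain ⟨g, hg⟩ := exists_smul_fin (G := G) ![a, b] ![a', b']
    (by intro i j h; fin_cases i <;> fin_cases j <;> simp_all)
    (by intro i j h; fin_cases i <;> fin_cases j <;> simp_all)
  exact ⟨g, hg 0, hg 1⟩

theorem exists_smul_three [IsMultiplyPretransitive G Ω 3] {a b c a' b' c' : Ω} (hab : a ≠ b)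
    (hac : a ≠ c) (hbc : b ≠ c) (hab' : a' ≠ b') (hac' : a' ≠ c') (hbc' : b' ≠ c') :
    ∃ g : G, g • a = a' ∧ g • b = b' ∧ g • c = c' := by
  obtain ⟨g, hg⟩ := exists_smul_fin (G := G) ![a, b, c] ![a', b', c']
    (by intro i j h; fin_cases i <;> fin_cases j <;> simp_all)
    (by intro i j h; fin_cases i <;> fin_cases j <;> simp_all)
  exact ⟨g, hg 0, hg 1, hg 2⟩

theorem exists_smul_four [IsMultiplyPretransitive G Ω 4] {a b c d a' b' c' d' : Ω} (hab : a ≠ b)
    (hac : a ≠ c) (had : a ≠ d) (hbc : b ≠ c) (hbd : b ≠ d) (hcd : c ≠ d) (hab' : a' ≠ b')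
    (hac' : a' ≠ c') (had' : a' ≠ d') (hbc' : b' ≠ c') (hbd' : b' ≠ d') (hcd' : c' ≠ d') :
    ∃ g : G, g • a = a' ∧ g • b = b' ∧ g • c = c' ∧ g • d = d' := by
  obtain ⟨g, hg⟩ := exists_smul_fin (G := G) ![a, b, c, d] ![a', b', c', d']
    (by intro i j h; fin_cases i <;> fin_cases j <;> simp_all)
    (by intro i j h; fin_cases i <;> fin_cases j <;> simp_all)
  exact ⟨g, hg 0, hg 1, hg 2, hg 3⟩

end emb

end Cfsg.Agent.Lib.Helper80_AltCharA
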