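import Mathlib
import Cfsg.Agent.Lib.Helper80_AltCharA

/-!
# Orbits of a 4-transitive group on pairs of 2-subsets, points and arrangements (helper80)
-/

set_option autoImplicit false

namespace Cfsg.Agent.Lib.Helper80_AltCharB

open MulAction Cfsg.Agent.Lib.Helper80_AltCharA
open scoped Pointwise

theorem natCard_range_of_surjective {Z K : Type*} (ι : Z → K) (h : Function.Surjective ι) :
    Nat.card (Set.range ι) = Nat.card K := by
  rw [Set.range_eq_univ.mpr h]
  exact Nat.card_congr (Equiv.Set.univ K)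

variable {G Ω : Type*} [Group G] [MulAction G Ω] [DecidableEq Ω]

theorem smul_val (g : G) (s : Set.powersetCard Ω 2) : (g • s).1 = g • s.1 :=
  Set.powersetCard.coe_smul

theorem exists_pair (s : Set.powersetCard Ω 2) : ∃ a b, a ≠ b ∧ s.1 = {a, b} :=
  Finset.card_eq_two.mp s.2

theorem exists_pair_of_mem (s : Set.powersetCard Ω 2) (a : Ω) (ha : a ∈ s.1) :
    ∃ b, a ≠ b ∧ s.1 = {a, b} := by
  obtain ⟨x, y, hxy, hs⟩ := exists_pair s
  rw [hs, Finset.mem_insert, Finset.mem_singleton] at ha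
  rcases ha with rfl | rfl
  · exact ⟨y, hxy, hs⟩
  · exact ⟨x, hxy.symm, by rw [hs, Finset.pair_comm]⟩

theorem smul_eq_of_pair (g : G) (s t : Set.powersetCard Ω 2) {a b : Ω} (hs : s.1 = {a, b})
    (ht : t.1 = {g • a, g • b}) : g • s = t := by
  apply Subtype.ext
  rw [smul_val, hs, ht, Finset.smul_finset_insert, Finset.smul_finset_singleton]

theorem smul_mem_iff (g : G) (s : Set.powersetCard Ω 2) (a : Ω) :
    g • a ∈ (g • s).1 ↔ a ∈ s.1 := by
  rw [smul_val, Finset.smul_mem_smul_finset_iff]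

/-- the invariant of a (2-subset, point) pair -/
def inv1 (z : Set.powersetCard Ω 2 × Ω) : Bool := decide (z.2 ∈ z.1.1)

theorem inv1_smul (g : G) (z : Set.powersetCard Ω 2 × Ω) : inv1 (g • z) = inv1 z := by
  unfold inv1
  rw [decide_eq_decide]
  exact smul_mem_iff g z.1 z.2

theorem inv1_trans [IsMultiplyPretransitive G Ω 2] [IsMultiplyPretransitive G Ω 3]
    (z z' : Set.powersetCard Ω 2 × Ω) (h : inv1 z = inv1 z') : ∃ g : G, g • z = z' := by
  obtain ⟨s, a⟩ := z
  obtain ⟨s', a'⟩ := z'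
  unfold inv1 at h
  rw [decide_eq_decide] at h
  by_cases ha : a ∈ s.1
  · have ha' := h.mp ha
    obtain ⟨b, hab, hs⟩ := exists_pair_of_mem s a ha
    obtain ⟨b', hab', hs'⟩ := exists_pair_of_mem s' a' ha'
    obtain ⟨g, h1, h2⟩ := exists_smul_two (G := G) hab hab'
    refine ⟨g, Prod.ext ?_ h1⟩
    exact smul_eq_of_pair g s s' hs (by rw [h1, h2]; exact hs')
  · have ha' : a' ∉ s'.1 := fun h' => ha (h.mpr h')
    obtain ⟨b, c, hbc, hs⟩ := exists_pair s
    obtain ⟨b', c', hbc', hs'⟩ := exists_pair s'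
    have hab : a ≠ b := by
      rintro rfl; exact ha (by rw [hs]; simp)
    have hac : a ≠ c := by
      rintro rfl; exact ha (by rw [hs]; simp)
    have hab' : a' ≠ b' := by
      rintro rfl; exact ha' (by rw [hs']; simp)
    have hac' : a' ≠ c' := by
      rintro rfl; exact ha' (by rw [hs']; simp)
    obtain ⟨g, h1, h2, h3⟩ := exists_smul_three (G := G) hab hac hbc hab' hac' hbc'
    refine ⟨g, Prod.ext ?_ h1⟩
    exact smul_eq_of_pair g s s' hs (by rw [h2, h3]; exact hs')

/-- 2-subset from two different points -/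
def mk2 (a b : Ω) (h : a ≠ b) : Set.powersetCard Ω 2 := ⟨{a, b}, Finset.card_pair h⟩

theorem mk2_val (a b : Ω) (h : a ≠ b) : (mk2 a b h).1 = {a, b} := rfl

theorem inv1_surj (e : Fin 3 ↪ Ω) :
    Function.Surjective (inv1 : Set.powersetCard Ω 2 × Ω → Bool) := by
  have h01 : e 0 ≠ e 1 := e.injective.ne (by decide)
  have h02 : e 0 ≠ e 2 := e.injective.ne (by decide)
  have h12 : e 1 ≠ e 2 := e.injective.ne (by decide)
  intro b
  cases b
  · refine ⟨(mk2 (e 1) (e 2) h12, e 0), ?_⟩
    unfold inv1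
    rw [decide_eq_false_iff_not]
    simp [mk2_val, h01, h02]
  · refine ⟨(mk2 (e 0) (e 1) h01, e 0), ?_⟩
    unfold inv1
    rw [decide_eq_true_iff]
    simp [mk2_val]

/-- the invariant of a pair of 2-subsets -/
def inv2 (z : Set.powersetCard Ω 2 × Set.powersetCard Ω 2) : Fin 3 :=
  if z.1 = z.2 then 2 else if Disjoint z.1.1 z.2.1 then 0 else 1

theorem inv2_smul (g : G) (z : Set.powersetCard Ω 2 × Set.powersetCard Ω 2) :
    inv2 (g • z) = inv2 z := by
  unfold inv2
  have h1 : (g • z).1 = (g • z).2 ↔ z.1 = z.2 := by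
    change g • z.1 = g • z.2 ↔ _
    exact smul_left_cancel_iff g
  have h2 : Disjoint (g • z).1.1 (g • z).2.1 ↔ Disjoint z.1.1 z.2.1 := by
    change Disjoint (g • z.1).1 (g • z.2).1 ↔ _
    rw [smul_val, smul_val, Finset.disjoint_iff_inter_eq_empty, ← Finset.smul_finset_inter,
      Finset.smul_finset_eq_empty, ← Finset.disjoint_iff_inter_eq_empty]
  simp only [h1, h2]

theorem inv2_trans [IsMultiplyPretransitive G Ω 2] [IsMultiplyPretransitive G Ω 3]
    [IsMultiplyPretransitive G Ω 4]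
    (z z' : Set.powersetCard Ω 2 × Set.powersetCard Ω 2) (h : inv2 z = inv2 z') :
    ∃ g : G, g • z = z' := by
  obtain ⟨s, t⟩ := z
  obtain ⟨s', t'⟩ := z'
  unfold inv2 at h
  simp only at h
  by_cases hst : s = t
  · have hst' : s' = t' := by
      by_contra hne
      rw [if_pos hst, if_neg hne] at h
      split_ifs at h <;> exact absurd h (by decide)
    subst hst hst'
    obtain ⟨a, b, hab, hs⟩ := exists_pair s
    obtain ⟨a', b', hab', hs'⟩ := exists_pair s'
    obtain ⟨g, h1, h2⟩ := exists_smul_two (G := G) hab hab'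
    have := smul_eq_of_pair g s s' hs (by rw [h1, h2]; exact hs')
    exact ⟨g, Prod.ext this this⟩
  · have hst' : s' ≠ t' := by
      intro he
      rw [if_neg hst, if_pos he] at h
      split_ifs at h <;> exact absurd h (by decide)
    rw [if_neg hst, if_neg hst'] at h
    by_cases hd : Disjoint s.1 t.1
    · have hd' : Disjoint s'.1 t'.1 := by
        by_contra hne
        rw [if_pos hd, if_neg hne] at h
        exact absurd h (by decide)
      obtain ⟨a, b, hab, hs⟩ := exists_pair s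
      obtain ⟨c, d, hcd, ht⟩ := exists_pair t
      obtain ⟨a', b', hab', hs'⟩ := exists_pair s'
      obtain ⟨c', d', hcd', ht'⟩ := exists_pair t'
      rw [hs, ht] at hd
      rw [hs', ht'] at hd'
      simp only [Finset.disjoint_insert_left, Finset.disjoint_singleton_left, Finset.mem_insert,
        Finset.mem_singleton, not_or] at hd hd'
      obtain ⟨⟨hac, had⟩, hbc, hbd⟩ := hd
      obtain ⟨⟨hac', had'⟩, hbc', hbd'⟩ := hd'
      obtain ⟨g, h1, h2, h3, h4⟩ := exists_smul_four (G := G) hab hac had hbc hbd hcd hab' hac'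
        had' hbc' hbd' hcd'
      refine ⟨g, Prod.ext ?_ ?_⟩
      · exact smul_eq_of_pair g s s' hs (by rw [h1, h2]; exact hs')
      · exact smul_eq_of_pair g t t' ht (by rw [h3, h4]; exact ht')
    · have hd' : ¬ Disjoint s'.1 t'.1 := by
        intro hne
        rw [if_neg hd, if_pos hne] at h
        exact absurd h (by decide)
      rw [Finset.not_disjoint_iff] at hd hd'
      obtain ⟨a, has, hat⟩ := hd
      obtain ⟨a', has', hat'⟩ := hd'
      obtain ⟨b, hab, hs⟩ := exists_pair_of_mem s a has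
      obtain ⟨c, hac, ht⟩ := exists_pair_of_mem t a hat
      obtain ⟨b', hab', hs'⟩ := exists_pair_of_mem s' a' has'
      obtain ⟨c', hac', ht'⟩ := exists_pair_of_mem t' a' hat'
      have hbc : b ≠ c := by
        rintro rfl
        exact hst (Subtype.ext (hs.trans ht.symm))
      have hbc' : b' ≠ c' := by
        rintro rfl
        exact hst' (Subtype.ext (hs'.trans ht'.symm))
      obtain ⟨g, h1, h2, h3⟩ := exists_smul_three (G := G) hab hac hbc hab' hac' hbc'
      refine ⟨g, Prod.ext ?_ ?_⟩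
      · exact smul_eq_of_pair g s s' hs (by rw [h1, h2]; exact hs')
      · exact smul_eq_of_pair g t t' ht (by rw [h1, h3]; exact ht')

theorem inv2_surj (e : Fin 4 ↪ Ω) :
    Function.Surjective (inv2 : Set.powersetCard Ω 2 × Set.powersetCard Ω 2 → Fin 3) := by
  have h01 : e 0 ≠ e 1 := e.injective.ne (by decide)
  have h02 : e 0 ≠ e 2 := e.injective.ne (by decide)
  have h03 : e 0 ≠ e 3 := e.injective.ne (by decide)
  have h12 : e 1 ≠ e 2 := e.injective.ne (by decide)
  have h13 : e 1 ≠ e 3 := e.injective.ne (by decide)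
  have h23 : e 2 ≠ e 3 := e.injective.ne (by decide)
  intro k
  fin_cases k
  · refine ⟨(mk2 (e 0) (e 1) h01, mk2 (e 2) (e 3) h23), ?_⟩
    unfold inv2
    have hne : mk2 (e 0) (e 1) h01 ≠ mk2 (e 2) (e 3) h23 := by
      intro he
      have := congrArg Subtype.val he
      rw [mk2_val, mk2_val] at this
      have h0 : e 0 ∈ ({e 2, e 3} : Finset Ω) := by rw [← this]; simp
      simp [h02, h03] at h0
    have hd : Disjoint (mk2 (e 0) (e 1) h01).1 (mk2 (e 2) (e 3) h23).1 := by
      rw [mk2_val, mk2_val]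
      simp [h02, h03, h12, h13]
    simp only [if_neg hne, if_pos hd]
    rfl
  · refine ⟨(mk2 (e 0) (e 1) h01, mk2 (e 0) (e 2) h02), ?_⟩
    unfold inv2
    have hne : mk2 (e 0) (e 1) h01 ≠ mk2 (e 0) (e 2) h02 := by
      intro he
      have := congrArg Subtype.val he
      rw [mk2_val, mk2_val] at this
      have h0 : e 1 ∈ ({e 0, e 2} : Finset Ω) := by rw [← this]; simp
      simp [h01.symm, h12] at h0
    have hd : ¬ Disjoint (mk2 (e 0) (e 1) h01).1 (mk2 (e 0) (e 2) h02).1 := by
      rw [mk2_val, mk2_val, Finset.not_disjoint_iff]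
      exact ⟨e 0, by simp, by simp⟩
    simp only [if_neg hne, if_neg hd]
    rfl
  · refine ⟨(mk2 (e 0) (e 1) h01, mk2 (e 0) (e 1) h01), ?_⟩
    unfold inv2
    simp only [if_true]
    rfl

/-- the invariant of a (2-subset, arrangement of two points) pair -/
def inv3 (z : Set.powersetCard Ω 2 × (Fin 2 ↪ Ω)) : Bool × Bool :=
  (decide (z.2 0 ∈ z.1.1), decide (z.2 1 ∈ z.1.1))

theorem inv3_smul (g : G) (z : Set.powersetCard Ω 2 × (Fin 2 ↪ Ω)) : inv3 (g • z) = inv3 z := by
  unfold inv3
  refine Prod.ext ?_ ?_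
  · simp only
    rw [decide_eq_decide]
    exact smul_mem_iff g z.1 (z.2 0)
  · simp only
    rw [decide_eq_decide]
    exact smul_mem_iff g z.1 (z.2 1)

theorem emb_smul_eq (g : G) (e e' : Fin 2 ↪ Ω) (h0 : g • e 0 = e' 0) (h1 : g • e 1 = e' 1) :
    g • e = e' := by
  ext i
  rw [Function.Embedding.smul_apply]
  fin_cases i
  · exact h0
  · exact h1

theorem inv3_trans [IsMultiplyPretransitive G Ω 2] [IsMultiplyPretransitive G Ω 3]
    [IsMultiplyPretransitive G Ω 4]
    (z z' : Set.powersetCard Ω 2 × (Fin 2 ↪ Ω)) (h : inv3 z = inv3 z') :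
    ∃ g : G, g • z = z' := by
  obtain ⟨s, e⟩ := z
  obtain ⟨s', e'⟩ := z'
  unfold inv3 at h
  simp only [Prod.mk.injEq, decide_eq_decide] at h
  obtain ⟨hi0, hi1⟩ := h
  have he : e 0 ≠ e 1 := e.injective.ne (by decide)
  have he' : e' 0 ≠ e' 1 := e'.injective.ne (by decide)
  by_cases h0 : e 0 ∈ s.1
  · have h0' := hi0.mp h0
    obtain ⟨b, hab, hs⟩ := exists_pair_of_mem s _ h0
    obtain ⟨b', hab', hs'⟩ := exists_pair_of_mem s' _ h0'
    by_cases h1 : e 1 ∈ s.1
    · have h1' := hi1.mp h1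
      have hb : b = e 1 := by
        rw [hs, Finset.mem_insert, Finset.mem_singleton] at h1
        rcases h1 with h1 | h1
        · exact absurd h1.symm he
        · exact h1.symm
      have hb' : b' = e' 1 := by
        rw [hs', Finset.mem_insert, Finset.mem_singleton] at h1'
        rcases h1' with h1' | h1'
        · exact absurd h1'.symm he'
        · exact h1'.symm
      subst hb hb'
      obtain ⟨g, g0, g1⟩ := exists_smul_two (G := G) he he'
      refine ⟨g, Prod.ext ?_ (emb_smul_eq g e e' g0 g1)⟩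
      exact smul_eq_of_pair g s s' hs (by rw [g0, g1]; exact hs')
    · have h1' : e' 1 ∉ s'.1 := fun hh => h1 (hi1.mpr hh)
      have hb : e 1 ≠ b := by
        intro hh; exact h1 (by rw [hs, hh]; simp)
      have hb' : e' 1 ≠ b' := by
        intro hh; exact h1' (by rw [hs', hh]; simp)
      obtain ⟨g, g0, g1, g2⟩ := exists_smul_three (G := G) he hab hb he' hab' hb'
      refine ⟨g, Prod.ext ?_ (emb_smul_eq g e e' g0 g1)⟩
      exact smul_eq_of_pair g s s' hs (by rw [g0, g2]; exact hs')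
  · have h0' : e' 0 ∉ s'.1 := fun hh => h0 (hi0.mpr hh)
    by_cases h1 : e 1 ∈ s.1
    · have h1' := hi1.mp h1
      obtain ⟨b, hab, hs⟩ := exists_pair_of_mem s _ h1
      obtain ⟨b', hab', hs'⟩ := exists_pair_of_mem s' _ h1'
      have hb : e 0 ≠ b := by
        intro hh; exact h0 (by rw [hs, hh]; simp)
      have hb' : e' 0 ≠ b' := by
        intro hh; exact h0' (by rw [hs', hh]; simp)
      obtain ⟨g, g0, g1, g2⟩ := exists_smul_three (G := G) he hb hab he' hb' hab'
      refine ⟨g, Prod.ext ?_ (emb_smul_eq g e e' g0 g1)⟩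
      exact smul_eq_of_pair g s s' hs (by rw [g1, g2]; exact hs')
    · have h1' : e' 1 ∉ s'.1 := fun hh => h1 (hi1.mpr hh)
      obtain ⟨c, d, hcd, hs⟩ := exists_pair s
      obtain ⟨c', d', hcd', hs'⟩ := exists_pair s'
      have k0c : e 0 ≠ c := by
        intro hh; exact h0 (by rw [hs, hh]; simp)
      have k0d : e 0 ≠ d := by
        intro hh; exact h0 (by rw [hs, hh]; simp)
      have k1c : e 1 ≠ c := by
        intro hh; exact h1 (by rw [hs, hh]; simp)
      have k1d : e 1 ≠ d := by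
        intro hh; exact h1 (by rw [hs, hh]; simp)
      have k0c' : e' 0 ≠ c' := by
        intro hh; exact h0' (by rw [hs', hh]; simp)
      have k0d' : e' 0 ≠ d' := by
        intro hh; exact h0' (by rw [hs', hh]; simp)
      have k1c' : e' 1 ≠ c' := by
        intro hh; exact h1' (by rw [hs', hh]; simp)
      have k1d' : e' 1 ≠ d' := by
        intro hh; exact h1' (by rw [hs', hh]; simp)
      obtain ⟨g, g0, g1, g2, g3⟩ := exists_smul_four (G := G) he k0c k0d k1c k1d hcd he' k0c'
        k0d' k1c' k1d' hcd'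
      refine ⟨g, Prod.ext ?_ (emb_smul_eq g e e' g0 g1)⟩
      exact smul_eq_of_pair g s s' hs (by rw [g2, g3]; exact hs')

/-- arrangement of two different points -/
def emb2 (a b : Ω) (h : a ≠ b) : Fin 2 ↪ Ω :=
  ⟨![a, b], by
    intro i j hij
    fin_cases i <;> fin_cases j <;> simp_all⟩

theorem emb2_zero (a b : Ω) (h : a ≠ b) : emb2 a b h 0 = a := rfl

theorem emb2_one (a b : Ω) (h : a ≠ b) : emb2 a b h 1 = b := rfl

theorem inv3_surj (e : Fin 4 ↪ Ω) :
    Function.Surjective (inv3 : Set.powersetCard Ω 2 × (Fin 2 ↪ Ω) → Bool × Bool) := by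
  have h01 : e 0 ≠ e 1 := e.injective.ne (by decide)
  have h02 : e 0 ≠ e 2 := e.injective.ne (by decide)
  have h03 : e 0 ≠ e 3 := e.injective.ne (by decide)
  have h12 : e 1 ≠ e 2 := e.injective.ne (by decide)
  have h13 : e 1 ≠ e 3 := e.injective.ne (by decide)
  have h23 : e 2 ≠ e 3 := e.injective.ne (by decide)
  rintro ⟨b0, b1⟩
  cases b0 <;> cases b1
  · refine ⟨(mk2 (e 2) (e 3) h23, emb2 (e 0) (e 1) h01), ?_⟩
    unfold inv3
    simp [mk2_val, emb2_zero, emb2_one, h02, h03, h12, h13]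
  · refine ⟨(mk2 (e 1) (e 2) h12, emb2 (e 0) (e 1) h01), ?_⟩
    unfold inv3
    simp [mk2_val, emb2_zero, emb2_one, h01, h02]
  · refine ⟨(mk2 (e 0) (e 2) h02, emb2 (e 0) (e 1) h01), ?_⟩
    unfold inv3
    simp [mk2_val, emb2_zero, emb2_one, h01.symm, h12]
  · refine ⟨(mk2 (e 0) (e 1) h01, emb2 (e 0) (e 1) h01), ?_⟩
    unfold inv3
    simp [mk2_val, emb2_zero, emb2_one]

end Cfsg.Agent.Lib.Helper80_AltCharB
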