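import Mathlib
import Cfsg.Prelude.Def_Characters
import Cfsg.Agent.Lib.Helper80_AltCharB
import Cfsg.Agent.Lib.Helper81_Rank
import Cfsg.Agent.Lib.Helper39_Virtual

/-!
# Three irreducible characters of a 4-transitive permutation group (helper80)

For a finite group `G` acting 4-transitively on a finite set `Ω` with at least four points, with
`f(g)` the number of fixed points and `p(g)` the number of invariant 2-subsets, the functions
`f - 1`, `p - f` and `f (f - 1) - p - f + 1` are irreducible characters.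
-/

set_option autoImplicit false

namespace Cfsg.Agent.Lib.Helper80_AltCharC

open MulAction Cfsg.Agent.Lib.Helper80_AltCharA Cfsg.Agent.Lib.Helper80_AltCharB
open scoped ComplexConjugate

theorem nat_id1 (n : ℕ) : n * n = n.descFactorial 2 + n := by
  rcases n with _ | n
  · simp
  · simp [Nat.descFactorial_succ]
    ring

theorem nat_id2 (n : ℕ) : n.descFactorial 2 * n = n.descFactorial 3 + 2 * n.descFactorial 2 := by
  rcases n with _ | _ | n
  · simp
  · simp [Nat.descFactorial_succ]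
  · simp [Nat.descFactorial_succ]
    ring

theorem nat_id3 (n : ℕ) : n.descFactorial 2 * n.descFactorial 2 =
    n.descFactorial 4 + 4 * n.descFactorial 3 + 2 * n.descFactorial 2 := by
  rcases n with _ | _ | _ | n
  · simp
  · simp [Nat.descFactorial_succ]
  · simp [Nat.descFactorial_succ]
  · simp [Nat.descFactorial_succ]
    ring

section

variable (G : Type*) [Group G] (Ω : Type*) [MulAction G Ω] [DecidableEq Ω]

/-- number of fixed points -/
noncomputable def fpt (g : G) : ℕ := Nat.card (fixedBy Ω g)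

/-- number of invariant 2-subsets -/
noncomputable def fp2 (g : G) : ℕ := Nat.card (fixedBy (Set.powersetCard Ω 2) g)

/-- the character `f - 1` -/
noncomputable def chi1 (g : G) : ℂ := (fpt G Ω g : ℂ) - 1

/-- the character `p - f` -/
noncomputable def chi2 (g : G) : ℂ := (fp2 G Ω g : ℂ) - fpt G Ω g

/-- the character `f (f - 1) - p - f + 1` -/
noncomputable def chi3 (g : G) : ℂ :=
  (fpt G Ω g : ℂ) * ((fpt G Ω g : ℂ) - 1) - fp2 G Ω g - fpt G Ω g + 1

end

section main

variable {G : Type*} [Group G] [Fintype G] {Ω : Type*} [MulAction G Ω] [DecidableEq Ω]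
  [Fintype Ω] [IsMultiplyPretransitive G Ω 4]

theorem inst3 (h4 : 4 ≤ Nat.card Ω) : IsMultiplyPretransitive G Ω 3 :=
  isMultiplyPretransitive_of_le (n := 4) (by norm_num) h4

theorem inst2 (h4 : 4 ≤ Nat.card Ω) : IsMultiplyPretransitive G Ω 2 :=
  isMultiplyPretransitive_of_le (n := 4) (by norm_num) h4

theorem inst1 (h4 : 4 ≤ Nat.card Ω) : IsMultiplyPretransitive G Ω 1 :=
  isMultiplyPretransitive_of_le (n := 4) (by norm_num) h4

theorem inst0 (h4 : 4 ≤ Nat.card Ω) : IsPretransitive G Ω := by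
  have := inst1 (G := G) h4
  exact is_one_pretransitive_iff.mp this

theorem instP (h4 : 4 ≤ Nat.card Ω) : IsPretransitive G (Set.powersetCard Ω 2) := by
  have := inst2 (G := G) h4
  exact Set.powersetCard.isPretransitive_of_isMultiplyPretransitive G this

theorem exists_emb (h4 : 4 ≤ Nat.card Ω) : Nonempty (Fin 4 ↪ Ω) := by
  rw [Function.Embedding.nonempty_iff_card_le, Fintype.card_fin, ← Nat.card_eq_fintype_card]
  exact h4

theorem neP (h4 : 4 ≤ Nat.card Ω) : Nonempty (Set.powersetCard Ω 2) := by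
  obtain ⟨e⟩ := exists_emb h4
  exact ⟨mk2 (e 0) (e 1) (e.injective.ne (by decide))⟩

theorem neΩ (h4 : 4 ≤ Nat.card Ω) : Nonempty Ω := by
  obtain ⟨e⟩ := exists_emb h4
  exact ⟨e 0⟩

theorem sum_f (h4 : 4 ≤ Nat.card Ω) : ∑ g : G, fpt G Ω g = Nat.card G := by
  have := inst0 (G := G) h4
  have := neΩ h4
  exact Cfsg.Agent.Lib.Helper95_Burnside.sum_natCard_fixedBy_of_transitive

theorem sum_d2 (h4 : 4 ≤ Nat.card Ω) :
    ∑ g : G, (fpt G Ω g).descFactorial 2 = Nat.card G := by
  have := inst2 (G := G) h4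
  exact sum_descFactorial 2 (by omega)

theorem sum_d3 (h4 : 4 ≤ Nat.card Ω) :
    ∑ g : G, (fpt G Ω g).descFactorial 3 = Nat.card G := by
  have := inst3 (G := G) h4
  exact sum_descFactorial 3 (by omega)

theorem sum_d4 (h4 : 4 ≤ Nat.card Ω) :
    ∑ g : G, (fpt G Ω g).descFactorial 4 = Nat.card G :=
  sum_descFactorial 4 h4

theorem sum_ff (h4 : 4 ≤ Nat.card Ω) :
    ∑ g : G, fpt G Ω g * fpt G Ω g = 2 * Nat.card G := by
  simp_rw [nat_id1, Finset.sum_add_distrib]
  rw [sum_d2 h4, sum_f h4]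
  ring

theorem sum_rf (h4 : 4 ≤ Nat.card Ω) :
    ∑ g : G, (fpt G Ω g).descFactorial 2 * fpt G Ω g = 3 * Nat.card G := by
  simp_rw [nat_id2, Finset.sum_add_distrib, ← Finset.mul_sum]
  rw [sum_d2 h4, sum_d3 h4]
  ring

theorem sum_rr (h4 : 4 ≤ Nat.card Ω) :
    ∑ g : G, (fpt G Ω g).descFactorial 2 * (fpt G Ω g).descFactorial 2 = 7 * Nat.card G := by
  simp_rw [nat_id3, Finset.sum_add_distrib, ← Finset.mul_sum]
  rw [sum_d2 h4, sum_d3 h4, sum_d4 h4]
  ring

theorem sum_p (h4 : 4 ≤ Nat.card Ω) : ∑ g : G, fp2 G Ω g = Nat.card G := by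
  have := instP (G := G) h4
  have := neP h4
  exact Cfsg.Agent.Lib.Helper95_Burnside.sum_natCard_fixedBy_of_transitive

theorem sum_pf (h4 : 4 ≤ Nat.card Ω) :
    ∑ g : G, fp2 G Ω g * fpt G Ω g = 2 * Nat.card G := by
  have := inst2 (G := G) h4
  have := inst3 (G := G) h4
  obtain ⟨e⟩ := exists_emb h4
  have e3 : Fin 3 ↪ Ω := (Fin.castLEEmb (by norm_num : 3 ≤ 4)).trans e
  refine sum_fixedBy_mul_of_invariant (G := G) inv1 2 inv1_smul inv1_trans ?_
  rw [natCard_range_of_surjective _ (inv1_surj e3)]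
  simp

theorem sum_pp (h4 : 4 ≤ Nat.card Ω) :
    ∑ g : G, fp2 G Ω g * fp2 G Ω g = 3 * Nat.card G := by
  have := inst2 (G := G) h4
  have := inst3 (G := G) h4
  obtain ⟨e⟩ := exists_emb h4
  refine sum_fixedBy_mul_of_invariant (G := G) inv2 3 inv2_smul inv2_trans ?_
  rw [natCard_range_of_surjective _ (inv2_surj e)]
  simp

theorem sum_pr (h4 : 4 ≤ Nat.card Ω) :
    ∑ g : G, fp2 G Ω g * (fpt G Ω g).descFactorial 2 = 4 * Nat.card G := by
  have := inst2 (G := G) h4
  have := inst3 (G := G) h4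
  obtain ⟨e⟩ := exists_emb h4
  have h := sum_fixedBy_mul_of_invariant (G := G) (X := Set.powersetCard Ω 2) (Y := Fin 2 ↪ Ω)
    inv3 4 inv3_smul inv3_trans (by
      rw [natCard_range_of_surjective _ (inv3_surj e)]
      simp)
  simp_rw [natCard_fixedBy_emb] at h
  exact h

end main

end Cfsg.Agent.Lib.Helper80_AltCharC
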