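import Mathlib
import Cfsg.Prelude.Def_Characters
import Cfsg.Agent.Lib.Helper80_AltCharC

/-!
# Irreducibility of the three characters (helper80)
-/

set_option autoImplicit false

namespace Cfsg.Agent.Lib.Helper80_AltCharD

open MulAction Cfsg.Agent.Lib.Helper80_AltCharA Cfsg.Agent.Lib.Helper80_AltCharB
  Cfsg.Agent.Lib.Helper80_AltCharC
open scoped ComplexConjugate

section defs

variable (G : Type*) [Group G] (Ω : Type*) [MulAction G Ω] [DecidableEq Ω]

/-- fixed point numbers as complex numbers -/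
noncomputable def cF : G → ℂ := fun g => (fpt G Ω g : ℂ)

/-- numbers of invariant 2-subsets as complex numbers -/
noncomputable def cP : G → ℂ := fun g => (fp2 G Ω g : ℂ)

/-- numbers of fixed arrangements of two points as complex numbers -/
noncomputable def cR : G → ℂ := fun g => ((fpt G Ω g).descFactorial 2 : ℂ)

/-- the constant function one -/
noncomputable def cOne : G → ℂ := fun _ => 1

end defs

variable {G : Type*} [Group G] [Fintype G] {Ω : Type*} [MulAction G Ω] [DecidableEq Ω]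
  [Fintype Ω] [IsMultiplyPretransitive G Ω 4]

theorem card_ne : (Nat.card G : ℂ) ≠ 0 := by
  rw [Nat.cast_ne_zero]
  exact Nat.card_pos.ne'

theorem isCharacter_f (h4 : 4 ≤ Nat.card Ω) : Cfsg.IsCharacter G (cF G Ω) := by
  have := inst0 (G := G) h4
  have := neΩ h4
  exact Cfsg.Agent.Lib.Helper81_Rank.isCharacter_perm

theorem isCharacter_p (h4 : 4 ≤ Nat.card Ω) : Cfsg.IsCharacter G (cP G Ω) := by
  have := instP (G := G) h4
  have := neP h4
  exact Cfsg.Agent.Lib.Helper81_Rank.isCharacter_perm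

theorem isCharacter_r (h4 : 4 ≤ Nat.card Ω) : Cfsg.IsCharacter G (cR G Ω) := by
  have := inst2 (G := G) h4
  have hne : Nonempty (Fin 2 ↪ Ω) := by
    rw [Function.Embedding.nonempty_iff_card_le, Fintype.card_fin, ← Nat.card_eq_fintype_card]
    omega
  have h := Cfsg.Agent.Lib.Helper81_Rank.isCharacter_perm (G := G) (Ω := Fin 2 ↪ Ω)
  simp_rw [natCard_fixedBy_emb] at h
  exact h

theorem isCharacter_one' : Cfsg.IsCharacter G (cOne G) :=
  Cfsg.Agent.Lib.Helper3_CharBridge.isCharacter_of_isIrrCharacter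
    (Cfsg.Agent.Lib.Helper80_CharBasic.isIrrCharacter_one G)

omit [Fintype G] [Fintype Ω] [IsMultiplyPretransitive G Ω 4] in
theorem fpt_one : fpt G Ω 1 = Nat.card Ω := by
  unfold fpt
  have : fixedBy Ω (1 : G) = Set.univ := by
    ext x; simp
  rw [this]
  exact Nat.card_congr (Equiv.Set.univ Ω)

omit [Fintype G] [Fintype Ω] [IsMultiplyPretransitive G Ω 4] in
theorem fp2_one : fp2 G Ω 1 = (Nat.card Ω).choose 2 := by
  unfold fp2
  have : fixedBy (Set.powersetCard Ω 2) (1 : G) = Set.univ := by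
    ext x; simp
  rw [this, ← Set.powersetCard.card]
  exact Nat.card_congr (Equiv.Set.univ _)

theorem cs_one : ∑ _g : G, (1 : ℂ) = (Nat.card G : ℂ) := by
  rw [Finset.sum_const, Finset.card_univ, ← Nat.card_eq_fintype_card, nsmul_eq_mul, mul_one]

theorem cs_f (h4 : 4 ≤ Nat.card Ω) : ∑ g : G, cF G Ω g = (Nat.card G : ℂ) := by
  unfold cF
  exact_mod_cast congrArg (Nat.cast (R := ℂ)) (sum_f (G := G) h4)

theorem cs_p (h4 : 4 ≤ Nat.card Ω) : ∑ g : G, cP G Ω g = (Nat.card G : ℂ) := by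
  unfold cP
  exact_mod_cast congrArg (Nat.cast (R := ℂ)) (sum_p (G := G) h4)

theorem cs_r (h4 : 4 ≤ Nat.card Ω) : ∑ g : G, cR G Ω g = (Nat.card G : ℂ) := by
  unfold cR
  exact_mod_cast congrArg (Nat.cast (R := ℂ)) (sum_d2 (G := G) h4)

theorem cs_ff (h4 : 4 ≤ Nat.card Ω) :
    ∑ g : G, cF G Ω g * cF G Ω g = 2 * (Nat.card G : ℂ) := by
  unfold cF
  exact_mod_cast congrArg (Nat.cast (R := ℂ)) (sum_ff (G := G) h4)

theorem cs_rf (h4 : 4 ≤ Nat.card Ω) :
    ∑ g : G, cR G Ω g * cF G Ω g = 3 * (Nat.card G : ℂ) := by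
  unfold cF cR
  exact_mod_cast congrArg (Nat.cast (R := ℂ)) (sum_rf (G := G) h4)

theorem cs_rr (h4 : 4 ≤ Nat.card Ω) :
    ∑ g : G, cR G Ω g * cR G Ω g = 7 * (Nat.card G : ℂ) := by
  unfold cR
  exact_mod_cast congrArg (Nat.cast (R := ℂ)) (sum_rr (G := G) h4)

theorem cs_pf (h4 : 4 ≤ Nat.card Ω) :
    ∑ g : G, cP G Ω g * cF G Ω g = 2 * (Nat.card G : ℂ) := by
  unfold cF cP
  exact_mod_cast congrArg (Nat.cast (R := ℂ)) (sum_pf (G := G) h4)

theorem cs_pp (h4 : 4 ≤ Nat.card Ω) :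
    ∑ g : G, cP G Ω g * cP G Ω g = 3 * (Nat.card G : ℂ) := by
  unfold cP
  exact_mod_cast congrArg (Nat.cast (R := ℂ)) (sum_pp (G := G) h4)

theorem cs_pr (h4 : 4 ≤ Nat.card Ω) :
    ∑ g : G, cP G Ω g * cR G Ω g = 4 * (Nat.card G : ℂ) := by
  unfold cP cR
  exact_mod_cast congrArg (Nat.cast (R := ℂ)) (sum_pr (G := G) h4)

omit [Fintype G] [Fintype Ω] [IsMultiplyPretransitive G Ω 4] in
theorem conj_cF (g : G) : conj (cF G Ω g) = cF G Ω g := by
  unfold cF; simp

omit [Fintype G] [Fintype Ω] [IsMultiplyPretransitive G Ω 4] in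
theorem conj_cP (g : G) : conj (cP G Ω g) = cP G Ω g := by
  unfold cP; simp

omit [Fintype G] [Fintype Ω] [IsMultiplyPretransitive G Ω 4] in
theorem conj_cR (g : G) : conj (cR G Ω g) = cR G Ω g := by
  unfold cR; simp

omit [Fintype G] [Fintype Ω] [IsMultiplyPretransitive G Ω 4] in
theorem chi1_eq : chi1 G Ω = cF G Ω - cOne G := by
  funext g
  simp [chi1, cF, cOne]

omit [Fintype G] [Fintype Ω] [IsMultiplyPretransitive G Ω 4] in
theorem chi2_eq : chi2 G Ω = cP G Ω - cF G Ω := by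
  funext g
  simp [chi2, cF, cP]

omit [Fintype G] [Fintype Ω] [IsMultiplyPretransitive G Ω 4] in
theorem chi3_eq : chi3 G Ω = (cR G Ω + cOne G) - (cP G Ω + cF G Ω) := by
  funext g
  simp only [chi3, cF, cP, cR, cOne, Pi.sub_apply, Pi.add_apply, Nat.cast_descFactorial_two]
  ring

theorem chi1_irr (h4 : 4 ≤ Nat.card Ω) : Cfsg.IsIrrCharacter G (chi1 G Ω) := by
  rw [chi1_eq]
  refine Cfsg.Agent.Lib.Helper39_Virtual.isIrrCharacter_of_norm_one (isCharacter_f h4)
    isCharacter_one' ?_ ?_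
  · unfold Cfsg.classInner
    have hconj : ∀ g : G, ((cF G Ω - cOne G) g) * conj ((cF G Ω - cOne G) g) =
        cF G Ω g * cF G Ω g - 2 * cF G Ω g + 1 := by
      intro g
      simp only [Pi.sub_apply, map_sub, conj_cF, cOne, map_one]
      ring
    simp_rw [hconj, Finset.sum_add_distrib, Finset.sum_sub_distrib, ← Finset.mul_sum]
    rw [cs_ff h4, cs_f h4, cs_one]
    have := card_ne (G := G)
    field_simp
    ring
  · simp only [Pi.sub_apply, cF, cOne]
    rw [fpt_one]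
    have : ((Nat.card Ω : ℂ) - 1).re = (Nat.card Ω : ℝ) - 1 := by simp
    rw [this]
    have : (4 : ℝ) ≤ Nat.card Ω := by exact_mod_cast h4
    linarith

theorem chi2_irr (h4 : 4 ≤ Nat.card Ω) : Cfsg.IsIrrCharacter G (chi2 G Ω) := by
  rw [chi2_eq]
  refine Cfsg.Agent.Lib.Helper39_Virtual.isIrrCharacter_of_norm_one (isCharacter_p h4)
    (isCharacter_f h4) ?_ ?_
  · unfold Cfsg.classInner
    have hconj : ∀ g : G, ((cP G Ω - cF G Ω) g) * conj ((cP G Ω - cF G Ω) g) =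
        cP G Ω g * cP G Ω g - 2 * (cP G Ω g * cF G Ω g) + cF G Ω g * cF G Ω g := by
      intro g
      simp only [Pi.sub_apply, map_sub, conj_cF, conj_cP]
      ring
    simp_rw [hconj, Finset.sum_add_distrib, Finset.sum_sub_distrib, ← Finset.mul_sum]
    rw [cs_ff h4, cs_pf h4, cs_pp h4]
    have := card_ne (G := G)
    field_simp
    ring
  · simp only [Pi.sub_apply, cF, cP]
    rw [fpt_one, fp2_one, Nat.cast_choose_two]
    have : ((Nat.card Ω : ℂ) * ((Nat.card Ω : ℂ) - 1) / 2 - (Nat.card Ω : ℂ)).re =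
        (Nat.card Ω : ℝ) * ((Nat.card Ω : ℝ) - 1) / 2 - (Nat.card Ω : ℝ) := by
      have : (Nat.card Ω : ℂ) * ((Nat.card Ω : ℂ) - 1) / 2 - (Nat.card Ω : ℂ) =
          (((Nat.card Ω : ℝ) * ((Nat.card Ω : ℝ) - 1) / 2 - (Nat.card Ω : ℝ) : ℝ) : ℂ) := by
        push_cast
        ring
      rw [this, Complex.ofReal_re]
    rw [this]
    have : (4 : ℝ) ≤ Nat.card Ω := by exact_mod_cast h4
    nlinarith

theorem chi3_irr (h4 : 4 ≤ Nat.card Ω) : Cfsg.IsIrrCharacter G (chi3 G Ω) := by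
  rw [chi3_eq]
  refine Cfsg.Agent.Lib.Helper39_Virtual.isIrrCharacter_of_norm_one
    (Cfsg.Agent.Lib.Helper75_CharArith.isCharacter_add (isCharacter_r h4) isCharacter_one')
    (Cfsg.Agent.Lib.Helper75_CharArith.isCharacter_add (isCharacter_p h4) (isCharacter_f h4))
    ?_ ?_
  · unfold Cfsg.classInner
    have hconj : ∀ g : G, (((cR G Ω + cOne G) - (cP G Ω + cF G Ω)) g) *
        conj (((cR G Ω + cOne G) - (cP G Ω + cF G Ω)) g) =
        cR G Ω g * cR G Ω g + cP G Ω g * cP G Ω g + cF G Ω g * cF G Ω g + 1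
          - 2 * (cP G Ω g * cR G Ω g) - 2 * (cR G Ω g * cF G Ω g) + 2 * cR G Ω g
          + 2 * (cP G Ω g * cF G Ω g) - 2 * cP G Ω g - 2 * cF G Ω g := by
      intro g
      simp only [Pi.sub_apply, Pi.add_apply, map_sub, map_add, conj_cF, conj_cP, conj_cR, cOne,
        map_one]
      ring
    simp only [hconj, Finset.sum_add_distrib, Finset.sum_sub_distrib, ← Finset.mul_sum]
    rw [cs_ff h4, cs_f h4, cs_one, cs_pf h4, cs_pp h4, cs_pr h4, cs_rr h4, cs_rf h4, cs_r h4,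
      cs_p h4]
    have := card_ne (G := G)
    field_simp
    ring
  · simp only [Pi.sub_apply, Pi.add_apply, cF, cP, cR, cOne, Nat.cast_descFactorial_two]
    rw [fpt_one, fp2_one, Nat.cast_choose_two]
    have : ((Nat.card Ω : ℂ) * ((Nat.card Ω : ℂ) - 1) + 1 -
        ((Nat.card Ω : ℂ) * ((Nat.card Ω : ℂ) - 1) / 2 + (Nat.card Ω : ℂ))).re =
        (Nat.card Ω : ℝ) * ((Nat.card Ω : ℝ) - 1) + 1 -
          ((Nat.card Ω : ℝ) * ((Nat.card Ω : ℝ) - 1) / 2 + (Nat.card Ω : ℝ)) := by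
      have : (Nat.card Ω : ℂ) * ((Nat.card Ω : ℂ) - 1) + 1 -
          ((Nat.card Ω : ℂ) * ((Nat.card Ω : ℂ) - 1) / 2 + (Nat.card Ω : ℂ)) =
          (((Nat.card Ω : ℝ) * ((Nat.card Ω : ℝ) - 1) + 1 -
          ((Nat.card Ω : ℝ) * ((Nat.card Ω : ℝ) - 1) / 2 + (Nat.card Ω : ℝ)) : ℝ) : ℂ) := by
        push_cast
        ring
      rw [this, Complex.ofReal_re]
    rw [this]
    have : (4 : ℝ) ≤ Nat.card Ω := by exact_mod_cast h4
    nlinarith

end Cfsg.Agent.Lib.Helper80_AltCharD
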