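import Mathlib
import Cfsg.Prelude.Def_Characters
import Cfsg.Agent.Lib.Helper80_AltCharD

/-!
# Vanishing criteria and restriction to subgroups for the three characters (helper80)
-/

set_option autoImplicit false

namespace Cfsg.Agent.Lib.Helper80_AltCharE

open MulAction Cfsg.Agent.Lib.Helper80_AltCharA Cfsg.Agent.Lib.Helper80_AltCharB
  Cfsg.Agent.Lib.Helper80_AltCharC

variable {G : Type*} [Group G] {Ω : Type*} [MulAction G Ω] [DecidableEq Ω]

theorem fpt_subgroup (H : Subgroup G) (h : H) : fpt H Ω h = fpt G Ω (h : G) := rfl

theorem fp2_subgroup (H : Subgroup G) (h : H) : fp2 H Ω h = fp2 G Ω (h : G) := by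
  unfold fp2
  refine congrArg (fun S : Set (Set.powersetCard Ω 2) => Nat.card S) ?_
  ext s
  rw [mem_fixedBy, mem_fixedBy, Subtype.ext_iff, Subtype.ext_iff, smul_val, smul_val]
  rfl

theorem chi1_subgroup (H : Subgroup G) (h : H) : chi1 H Ω h = chi1 G Ω (h : G) := by
  unfold chi1
  rw [fpt_subgroup]

theorem chi2_subgroup (H : Subgroup G) (h : H) : chi2 H Ω h = chi2 G Ω (h : G) := by
  unfold chi2
  rw [fpt_subgroup, fp2_subgroup]

theorem chi3_subgroup (H : Subgroup G) (h : H) : chi3 H Ω h = chi3 G Ω (h : G) := by
  unfold chi3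
  rw [fpt_subgroup, fp2_subgroup]

/-- exactly one fixed point: the first character vanishes -/
theorem chi1_zero (x : G) (h : ∃ p : Ω, x • p = p ∧ ∀ a, x • a = a → a = p) :
    chi1 G Ω x = 0 := by
  obtain ⟨p, hp, hall⟩ := h
  have h1 : fixedBy Ω x = {p} := by
    ext a
    rw [mem_fixedBy, Set.mem_singleton_iff]
    constructor
    · exact hall a
    · rintro rfl; exact hp
  unfold chi1 fpt
  rw [h1, Nat.card_coe_set_eq, Set.ncard_singleton]
  simp

theorem mem_of_smul_eq (x : G) (s : Set.powersetCard Ω 2) (hx : x • s = s) (a : Ω)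
    (ha : a ∈ s.1) : x • a ∈ s.1 := by
  have := (smul_mem_iff x s a).mpr ha
  rwa [hx] at this

/-- the square has no fixed point: the second character vanishes -/
theorem chi2_zero (x : G) (h : ∀ a : Ω, x • x • a ≠ a) : chi2 G Ω x = 0 := by
  have h1 : fixedBy Ω x = ∅ := by
    ext a
    rw [mem_fixedBy]
    simp only [Set.mem_empty_iff_false, iff_false]
    intro ha
    exact h a (by rw [ha, ha])
  have h2 : fixedBy (Set.powersetCard Ω 2) x = ∅ := by
    ext s
    rw [mem_fixedBy]
    simp only [Set.mem_empty_iff_false, iff_false]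
    intro hs
    obtain ⟨a, b, hab, hab'⟩ := exists_pair s
    have ha := mem_of_smul_eq x s hs a (by rw [hab']; simp)
    have hb := mem_of_smul_eq x s hs b (by rw [hab']; simp)
    rw [hab', Finset.mem_insert, Finset.mem_singleton] at ha hb
    rcases ha with ha | ha
    · exact h a (by rw [ha, ha])
    · rcases hb with hb | hb
      · exact h a (by rw [ha, hb])
      · exact h b (by rw [hb, hb])
  unfold chi2 fp2 fpt
  rw [h1, h2, Nat.card_coe_set_eq, Nat.card_coe_set_eq, Set.ncard_empty, Set.ncard_empty]
  simp

/-- exactly two fixed points, also for the square: the third character vanishes -/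
theorem chi3_zero (x : G)
    (h : ∃ p q : Ω, p ≠ q ∧ x • p = p ∧ x • q = q ∧ ∀ a, x • x • a = a → a = p ∨ a = q) :
    chi3 G Ω x = 0 := by
  obtain ⟨p, q, hpq, hp, hq, hall⟩ := h
  have h1 : fixedBy Ω x = {p, q} := by
    ext a
    rw [mem_fixedBy, Set.mem_insert_iff, Set.mem_singleton_iff]
    constructor
    · intro ha
      exact hall a (by rw [ha, ha])
    · rintro (rfl | rfl)
      · exact hp
      · exact hq
  have h2 : fixedBy (Set.powersetCard Ω 2) x = {mk2 p q hpq} := by
    ext s
    rw [mem_fixedBy, Set.mem_singleton_iff]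
    constructor
    · intro hs
      obtain ⟨a, b, hab, hab'⟩ := exists_pair s
      have ha := mem_of_smul_eq x s hs a (by rw [hab']; simp)
      have hb := mem_of_smul_eq x s hs b (by rw [hab']; simp)
      rw [hab', Finset.mem_insert, Finset.mem_singleton] at ha hb
      have hne : x • a ≠ x • b := fun he => hab (smul_left_cancel x he)
      rcases ha with ha | ha
      · have hb' : x • b = b := by
          rcases hb with hb | hb
          · exact absurd (ha.trans hb.symm) hne
          · exact hb
        have ka := hall a (by rw [ha, ha])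
        have kb := hall b (by rw [hb', hb'])
        apply Subtype.ext
        rw [hab', mk2_val]
        rcases ka with rfl | rfl <;> rcases kb with rfl | rfl
        · exact absurd rfl hab
        · rfl
        · exact Finset.pair_comm _ _
        · exact absurd rfl hab
      · have hb' : x • b = a := by
          rcases hb with hb | hb
          · exact hb
          · exact absurd (ha.trans hb.symm) hne
        have ka := hall a (by rw [ha, hb'])
        have : x • a = a := by
          rcases ka with rfl | rfl
          · exact hp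
          · exact hq
        exact absurd (this.symm.trans ha) hab
    · rintro rfl
      exact smul_eq_of_pair x _ _ (mk2_val p q hpq) (by rw [hp, hq]; rfl)
  unfold chi3 fp2 fpt
  rw [h1, h2, Nat.card_coe_set_eq, Nat.card_coe_set_eq, Set.ncard_singleton, Set.ncard_pair hpq]
  norm_num

end Cfsg.Agent.Lib.Helper80_AltCharE
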