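import Mathlib

/-!
# Even permutations of 2-power order and of order 3 with few fixed points (helper80)

For `n ≥ 7` there is an even permutation `x` of `Fin n` with `x ^ 8 = 1` and a permutation `y` of
order 3, each of which either has exactly one fixed point, or a square without fixed points, or
exactly two fixed points which are also the only fixed points of the square.
-/

set_option autoImplicit false

namespace Cfsg.Agent.Lib.Helper80_AltCharF

open Equiv.Perm

section preds

variable {T T' : Type*}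

/-- the square has no fixed point -/
def PA (σ : Equiv.Perm T) : Prop := ∀ a, σ (σ a) ≠ a

/-- no fixed point -/
def PN (σ : Equiv.Perm T) : Prop := ∀ a, σ a ≠ a

/-- exactly two fixed points, also for the square -/
def PB (σ : Equiv.Perm T) : Prop :=
  ∃ p q, p ≠ q ∧ σ p = p ∧ σ q = q ∧ ∀ a, σ (σ a) = a → a = p ∨ a = q

/-- exactly one fixed point -/
def PC (σ : Equiv.Perm T) : Prop := ∃ p, σ p = p ∧ ∀ a, σ a = a → a = p

theorem PA_sum {s : Equiv.Perm T} {t : Equiv.Perm T'} (hs : PA s) (ht : PA t) : PA (sumCongr s t) := by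
  rintro (a | a)
  · simpa using hs a
  · simpa using ht a

theorem PN_sum {s : Equiv.Perm T} {t : Equiv.Perm T'} (hs : PN s) (ht : PN t) : PN (sumCongr s t) := by
  rintro (a | a)
  · simpa using hs a
  · simpa using ht a

theorem PB_sum {s : Equiv.Perm T} {t : Equiv.Perm T'} (hs : PB s) (ht : PA t) : PB (sumCongr s t) := by
  obtain ⟨p, q, hpq, hp, hq, hall⟩ := hs
  refine ⟨Sum.inl p, Sum.inl q, by simpa using hpq, by simp [hp], by simp [hq], ?_⟩
  rintro (a | a) h
  · have h' : s (s a) = a := by simpa using h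
    rcases hall a h' with rfl | rfl
    · left; rfl
    · right; rfl
  · have h' : t (t a) = a := by simpa using h
    exact absurd h' (ht a)

theorem PC_sum {s : Equiv.Perm T} {t : Equiv.Perm T'} (hs : PC s) (ht : PN t) : PC (sumCongr s t) := by
  obtain ⟨p, hp, hall⟩ := hs
  refine ⟨Sum.inl p, by simp [hp], ?_⟩
  rintro (a | a) h
  · have h' : s a = a := by simpa using h
    rw [hall a h']
  · have h' : t a = a := by simpa using h
    exact absurd h' (ht a)

/-- the same permutation on `m` copies -/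
def bulk (m : ℕ) (b : Equiv.Perm T) : Equiv.Perm (Fin m × T) := Equiv.prodCongrRight (fun _ => b)

theorem bulk_apply (m : ℕ) (b : Equiv.Perm T) (i : Fin m) (a : T) : bulk m b (i, a) = (i, b a) := rfl

theorem PA_bulk (m : ℕ) {b : Equiv.Perm T} (hb : PA b) : PA (bulk m b) := by
  rintro ⟨i, a⟩ h
  rw [bulk_apply, bulk_apply] at h
  exact hb a (congrArg Prod.snd h)

theorem PN_bulk (m : ℕ) {b : Equiv.Perm T} (hb : PN b) : PN (bulk m b) := by
  rintro ⟨i, a⟩ h
  rw [bulk_apply] at h
  exact hb a (congrArg Prod.snd h)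

theorem bulk_mul (m : ℕ) (b c : Equiv.Perm T) : bulk m b * bulk m c = bulk m (b * c) := by
  ext ⟨i, a⟩ <;> rfl

theorem bulk_one (m : ℕ) : bulk m (1 : Equiv.Perm T) = 1 := by
  ext ⟨i, a⟩ <;> rfl

theorem bulk_pow (m : ℕ) (b : Equiv.Perm T) (k : ℕ) : bulk m b ^ k = bulk m (b ^ k) := by
  induction k with
  | zero => rw [pow_zero, pow_zero, bulk_one]
  | succ k ih => rw [pow_succ, pow_succ, ih, bulk_mul]

theorem sumCongr_pow (s : Equiv.Perm T) (t : Equiv.Perm T') (k : ℕ) :
    sumCongr s t ^ k = sumCongr (s ^ k) (t ^ k) := by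
  induction k with
  | zero => rw [pow_zero, pow_zero, pow_zero, sumCongr_one]
  | succ k ih => rw [pow_succ, pow_succ, pow_succ, ih, sumCongr_mul]

theorem PA_congr (e : T ≃ T') {σ : Equiv.Perm T} (h : PA σ) : PA (e.permCongr σ) := by
  intro a ha
  apply h (e.symm a)
  have := congrArg e.symm ha
  simpa using this

theorem PB_congr (e : T ≃ T') {σ : Equiv.Perm T} (h : PB σ) : PB (e.permCongr σ) := by
  obtain ⟨p, q, hpq, hp, hq, hall⟩ := h
  refine ⟨e p, e q, fun he => hpq (e.injective he), by simp [hp], by simp [hq], ?_⟩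
  intro a ha
  have h1 : σ (σ (e.symm a)) = e.symm a := by
    have := congrArg e.symm ha
    simpa using this
  rcases hall _ h1 with h2 | h2
  · left; rw [← h2]; simp
  · right; rw [← h2]; simp

theorem PC_congr (e : T ≃ T') {σ : Equiv.Perm T} (h : PC σ) : PC (e.permCongr σ) := by
  obtain ⟨p, hp, hall⟩ := h
  refine ⟨e p, by simp [hp], ?_⟩
  intro a ha
  have h1 : σ (e.symm a) = e.symm a := by
    have := congrArg e.symm ha
    simpa using this
  rw [← hall _ h1]; simp

theorem permCongr_pow (e : T ≃ T') (σ : Equiv.Perm T) (k : ℕ) :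
    e.permCongr σ ^ k = e.permCongr (σ ^ k) :=
  (map_pow e.permCongrHom σ k).symm

end preds

section build

variable {S B : Type*} [Fintype S] [DecidableEq S] [Fintype B] [DecidableEq B]

theorem sign_bulk (m : ℕ) (b : Equiv.Perm B) : sign (bulk m b) = sign b ^ m := by
  unfold bulk
  rw [sign_prodCongrRight, Finset.prod_const, Finset.card_univ, Fintype.card_fin]

/-- the main construction -/
theorem exists_elt (s : Equiv.Perm S) (b : Equiv.Perm B) (m n k : ℕ)
    (hn : Fintype.card S + m * Fintype.card B = n) (hs : s ^ k = 1) (hb : b ^ k = 1)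
    (hsign : sign s * sign b ^ m = 1) :
    ∃ x : Equiv.Perm (Fin n), sign x = 1 ∧ x ^ k = 1 ∧ (PA s → PA b → PA x) ∧
      (PB s → PA b → PB x) ∧ (PC s → PN b → PC x) ∧ (0 < m → b ≠ 1 → x ≠ 1) := by
  have hcard : Fintype.card (S ⊕ (Fin m × B)) = n := by
    rw [Fintype.card_sum, Fintype.card_prod, Fintype.card_fin, hn]
  set e := Fintype.equivFinOfCardEq hcard with he
  refine ⟨e.permCongr (sumCongr s (bulk m b)), ?_, ?_, ?_, ?_, ?_, ?_⟩
  · rw [sign_permCongr, sign_sumCongr, sign_bulk, hsign]
  · rw [permCongr_pow, sumCongr_pow, bulk_pow, hs, hb, bulk_one, sumCongr_one]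
    ext a
    simp
  · exact fun h1 h2 => PA_congr e (PA_sum h1 (PA_bulk m h2))
  · exact fun h1 h2 => PB_congr e (PB_sum h1 (PA_bulk m h2))
  · exact fun h1 h2 => PC_congr e (PC_sum h1 (PN_bulk m h2))
  · intro hm hb1 hx
    apply hb1
    ext a
    have h1 := Equiv.congr_fun hx (e (Sum.inr (⟨0, hm⟩, a)))
    rw [Equiv.permCongr_apply, Equiv.symm_apply_apply, sumCongr_apply, Sum.map_inr,
      bulk_apply] at h1
    have h2 := e.injective h1
    have h3 := Sum.inr_injective h2
    exact congrArg Prod.snd h3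

end build

section leaves

theorem PA_empty : PA (1 : Equiv.Perm (Fin 0)) := fun a => Fin.elim0 a

theorem PC_one : PC (1 : Equiv.Perm (Fin 1)) := ⟨0, rfl, fun a _ => Subsingleton.elim _ _⟩

theorem PB_two : PB (1 : Equiv.Perm (Fin 2)) := by
  refine ⟨0, 1, by decide, rfl, rfl, fun a _ => ?_⟩
  fin_cases a
  · left; rfl
  · right; rfl

theorem PA_rot3 : PA (finRotate 3) := by unfold PA; decide

theorem PA_rot4 : PA (finRotate 4) := by unfold PA; decide

theorem PA_rot8 : PA (finRotate 8) := by unfold PA; decide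

theorem PN_rot2 : PN (finRotate 2) := by unfold PN; decide

theorem PN_rot4 : PN (finRotate 4) := by unfold PN; decide

theorem PN_rot4sq : PN (finRotate 4 ^ 2) := by unfold PN; decide

theorem PA_rot8sq : PA (finRotate 8 ^ 2) := by unfold PA; decide

theorem rot3_pow : finRotate 3 ^ 3 = 1 := by decide

theorem rot3_ne : finRotate 3 ≠ 1 := by decide

theorem rot2_pow : finRotate 2 ^ 8 = 1 := by decide

theorem rot4_pow : finRotate 4 ^ 8 = 1 := by decide

theorem rot8_pow : finRotate 8 ^ 8 = 1 := by decide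

theorem rot4sq_pow : (finRotate 4 ^ 2) ^ 8 = 1 := by
  rw [← pow_mul, show 2 * 8 = 8 * 2 from rfl, pow_mul, rot4_pow, one_pow]

theorem rot8sq_pow : (finRotate 8 ^ 2) ^ 8 = 1 := by
  rw [← pow_mul, show 2 * 8 = 8 * 2 from rfl, pow_mul, rot8_pow, one_pow]

theorem sign_sq {T : Type*} [Fintype T] [DecidableEq T] (σ : Equiv.Perm T) : sign (σ ^ 2) = 1 := by
  rw [map_pow]
  exact Int.units_sq _

end leaves

end Cfsg.Agent.Lib.Helper80_AltCharF
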