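import Mathlib
import Cfsg.Agent.Lib.Helper80_AltCharF

/-!
# The elements needed for the alternating groups of degree at least 7 (helper80)
-/

set_option autoImplicit false

namespace Cfsg.Agent.Lib.Helper80_AltCharG

open Equiv.Perm Cfsg.Agent.Lib.Helper80_AltCharF

theorem PN_of_PA {T : Type*} {σ : Equiv.Perm T} (h : PA σ) : PN σ :=
  fun a ha => h a (by rw [ha, ha])

theorem sign_rot3 : sign (finRotate 3) = 1 := by
  rw [sign_finRotate]; decide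

theorem exists_three (n : ℕ) (hn : 7 ≤ n) :
    ∃ y : Equiv.Perm (Fin n), y ^ 3 = 1 ∧ y ≠ 1 ∧ (PA y ∨ PB y ∨ PC y) := by
  obtain ⟨m, r, hr, rfl⟩ : ∃ m r, r < 3 ∧ n = r + m * 3 :=
    ⟨n / 3, n % 3, Nat.mod_lt _ (by norm_num), by omega⟩
  have hm : 0 < m := by omega
  obtain ⟨y, -, hy3, hA, hB, hC, hne⟩ := exists_elt (1 : Equiv.Perm (Fin r)) (finRotate 3) m
    (r + m * 3) 3 (by simp) (one_pow 3) rot3_pow (by rw [sign_rot3, one_pow, Equiv.Perm.sign_one, one_mul])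
  refine ⟨y, hy3, hne hm rot3_ne, ?_⟩
  interval_cases r
  · exact Or.inl (hA PA_empty PA_rot3)
  · exact Or.inr (Or.inr (hC PC_one (PN_of_PA PA_rot3)))
  · exact Or.inr (Or.inl (hB PB_two PA_rot3))

theorem famA (m n : ℕ) (h : 1 + m * 4 = n) :
    ∃ x : Equiv.Perm (Fin n), sign x = 1 ∧ x ^ 8 = 1 ∧ (PA x ∨ PB x ∨ PC x) := by
  obtain ⟨x, h1, h2, -, -, hC, -⟩ := exists_elt (1 : Equiv.Perm (Fin 1)) (finRotate 4 ^ 2) m n 8
    (by simpa using h) (one_pow 8) rot4sq_pow (by rw [sign_sq, one_pow, Equiv.Perm.sign_one, one_mul])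
  exact ⟨x, h1, h2, Or.inr (Or.inr (hC PC_one PN_rot4sq))⟩

theorem famB (m n : ℕ) (h : 7 + m * 4 = n) :
    ∃ x : Equiv.Perm (Fin n), sign x = 1 ∧ x ^ 8 = 1 ∧ (PA x ∨ PB x ∨ PC x) := by
  obtain ⟨x, h1, h2, -, -, hC, -⟩ := exists_elt
    (sumCongr (1 : Equiv.Perm (Fin 1)) (sumCongr (finRotate 4) (finRotate 2)))
    (finRotate 4 ^ 2) m n 8
    (by simpa using h)
    (by rw [sumCongr_pow, sumCongr_pow, one_pow, rot4_pow, rot2_pow, sumCongr_one, sumCongr_one])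
    rot4sq_pow
    (by
      rw [sign_sq, one_pow, sign_sumCongr, sign_sumCongr, sign_finRotate, sign_finRotate, Equiv.Perm.sign_one]
      decide)
  exact ⟨x, h1, h2, Or.inr (Or.inr (hC (PC_sum PC_one (PN_sum PN_rot4 PN_rot2)) PN_rot4sq))⟩

theorem famC (m n : ℕ) (h : 0 + m * 8 = n) :
    ∃ x : Equiv.Perm (Fin n), sign x = 1 ∧ x ^ 8 = 1 ∧ (PA x ∨ PB x ∨ PC x) := by
  obtain ⟨x, h1, h2, hA, -, -, -⟩ := exists_elt (1 : Equiv.Perm (Fin 0)) (finRotate 8 ^ 2) m n 8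
    (by simpa using h) (one_pow 8) rot8sq_pow (by rw [sign_sq, one_pow, Equiv.Perm.sign_one, one_mul])
  exact ⟨x, h1, h2, Or.inl (hA PA_empty PA_rot8sq)⟩

theorem famD (m n : ℕ) (h : 12 + m * 8 = n) :
    ∃ x : Equiv.Perm (Fin n), sign x = 1 ∧ x ^ 8 = 1 ∧ (PA x ∨ PB x ∨ PC x) := by
  obtain ⟨x, h1, h2, hA, -, -, -⟩ := exists_elt
    (sumCongr (finRotate 4) (finRotate 8))
    (finRotate 8 ^ 2) m n 8
    (by simpa using h)
    (by rw [sumCongr_pow, rot4_pow, rot8_pow, sumCongr_one])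
    rot8sq_pow
    (by
      rw [sign_sq, one_pow, sign_sumCongr, sign_finRotate, sign_finRotate]
      decide)
  exact ⟨x, h1, h2, Or.inl (hA (PA_sum PA_rot4 PA_rot8) PA_rot8sq)⟩

theorem famE (m n : ℕ) (h : 2 + m * 8 = n) :
    ∃ x : Equiv.Perm (Fin n), sign x = 1 ∧ x ^ 8 = 1 ∧ (PA x ∨ PB x ∨ PC x) := by
  obtain ⟨x, h1, h2, -, hB, -, -⟩ := exists_elt (1 : Equiv.Perm (Fin 2)) (finRotate 8 ^ 2) m n 8
    (by simpa using h) (one_pow 8) rot8sq_pow (by rw [sign_sq, one_pow, Equiv.Perm.sign_one, one_mul])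
  exact ⟨x, h1, h2, Or.inr (Or.inl (hB PB_two PA_rot8sq))⟩

theorem famF (m n : ℕ) (h : 14 + m * 8 = n) :
    ∃ x : Equiv.Perm (Fin n), sign x = 1 ∧ x ^ 8 = 1 ∧ (PA x ∨ PB x ∨ PC x) := by
  obtain ⟨x, h1, h2, -, hB, -, -⟩ := exists_elt
    (sumCongr (1 : Equiv.Perm (Fin 2)) (sumCongr (finRotate 4) (finRotate 8)))
    (finRotate 8 ^ 2) m n 8
    (by simpa using h)
    (by rw [sumCongr_pow, sumCongr_pow, one_pow, rot4_pow, rot8_pow, sumCongr_one, sumCongr_one])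
    rot8sq_pow
    (by
      rw [sign_sq, one_pow, sign_sumCongr, sign_sumCongr, sign_finRotate, sign_finRotate, Equiv.Perm.sign_one]
      decide)
  exact ⟨x, h1, h2, Or.inr (Or.inl (hB (PB_sum PB_two (PA_sum PA_rot4 PA_rot8)) PA_rot8sq))⟩

theorem exists_two (n : ℕ) (hn : 7 ≤ n) :
    ∃ x : Equiv.Perm (Fin n), sign x = 1 ∧ x ^ 8 = 1 ∧ (PA x ∨ PB x ∨ PC x) := by
  obtain ⟨q, r, hr, rfl⟩ : ∃ q r, r < 8 ∧ n = r + q * 8 :=
    ⟨n / 8, n % 8, Nat.mod_lt _ (by norm_num), by omega⟩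
  interval_cases r
  · exact famC q _ (by omega)
  · exact famA (2 * q) _ (by omega)
  · exact famE q _ (by omega)
  · exact famB (2 * q - 1) _ (by omega)
  · exact famD (q - 1) _ (by omega)
  · exact famA (2 * q + 1) _ (by omega)
  · exact famF (q - 1) _ (by omega)
  · exact famB (2 * q) _ (by omega)

end Cfsg.Agent.Lib.Helper80_AltCharG
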