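import Mathlib
import Cfsg.Prelude.Def_Characters
import Cfsg.Agent.Lib.Helper3_CharBridge
import Cfsg.Agent.Lib.Helper3_CharOrtho
import Cfsg.Agent.Lib.Helper3_CharEigen
import Cfsg.Agent.Lib.Helper75_CharArith
import Cfsg.Agent.Lib.Helper75_Induced
import Cfsg.Agent.Lib.Helper75_IndChar
import Cfsg.Agent.Lib.Helper15_Linear
import Cfsg.Agent.Lib.Helper76_GalConj
import Cfsg.Agent.Lib.Helper80_CharBasic
import Cfsg.Agent.Lib.Helper80_CharInd

/-!
# Faithful irreducible characters of degree two: structure of centralizers (helper80)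
-/

set_option autoImplicit false
set_option linter.unusedSectionVars false

namespace Cfsg.Agent.Lib.Helper80_Deg2A

open scoped ComplexConjugate
open Cfsg.Agent.Lib.Helper3_CharBridge Cfsg.Agent.Lib.Helper3_CharOrtho
  Cfsg.Agent.Lib.Helper75_CharArith Cfsg.Agent.Lib.Helper80_CharBasic

variable {G : Type*} [Group G]

/-- A character of degree two which is not irreducible is the sum of an irreducible character of
degree one and a character of degree one. -/
theorem split_of_not_irr [Fintype G] {ψ : G → ℂ} (hψ : Cfsg.IsCharacter G ψ) (h2 : ψ 1 = 2)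
    (hirr : ¬ Cfsg.IsIrrCharacter G ψ) :
    ∃ α β : G → ℂ, Cfsg.IsIrrCharacter G α ∧ α 1 = 1 ∧ Cfsg.IsCharacter G β ∧ β 1 = 1 ∧
      ψ = α + β := by
  classical
  have := Fintype.ofFinite (Cfsg.IrrCharacter G)
  obtain ⟨b, hb, hexp⟩ := Cfsg.Agent.Lib.Helper80_CharInd.char_decomp ψ hψ
  -- some constituent
  have hex : ∃ φ : Cfsg.IrrCharacter G, b φ ≠ 0 := by
    by_contra hcon
    push Not at hcon
    have h0 : ψ = 0 := by
      rw [hexp]
      apply Finset.sum_eq_zero
      intro φ _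
      rw [hcon φ, Nat.cast_zero, zero_smul]
    rw [h0] at h2
    simp at h2
  obtain ⟨φ₁, hφ₁⟩ := hex
  obtain ⟨d, hdpos, hd⟩ := irr_apply_one φ₁
  have hne : Cfsg.classInner ψ (φ₁ : G → ℂ) ≠ 0 := by
    rw [hb φ₁]
    exact_mod_cast hφ₁
  -- the degree of `φ₁` is one
  have hd1 : d = 1 := by
    by_contra hd1
    have hd2 : 2 ≤ d := by omega
    apply hirr
    have := Cfsg.Agent.Lib.Helper80_CharInd.eq_of_constituent_of_degree_le ψ hψ φ₁ hne 2 d
      (by rw [h2]; norm_num) hd hd2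
    rw [this]
    exact φ₁.2
  subst hd1
  have hcl : Cfsg.IsClassFunction G ψ := isClassFunction_of_isCharacter hψ
  have hcl₁ : Cfsg.IsClassFunction G (φ₁ : G → ℂ) := isClassFunction_of_isIrrCharacter φ₁.2
  refine ⟨φ₁, ψ - φ₁, φ₁.2, by rw [hd]; norm_num, ?_, ?_, ?_⟩
  · apply isCharacter_of_classInner_nat
    · intro g h
      rw [Pi.sub_apply, Pi.sub_apply, hcl g h, hcl₁ g h]
    · intro φ
      rw [classInner_sub_left, hb φ]
      by_cases hφ : φ = φ₁
      · subst hφ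
        rw [classInner_self_of_isIrrCharacter φ.2]
        refine ⟨b φ - 1, ?_⟩
        rw [Nat.cast_sub (Nat.one_le_iff_ne_zero.mpr hφ₁), Nat.cast_one]
      · refine ⟨b φ, ?_⟩
        rw [classInner_of_isIrrCharacter_of_ne φ₁.2 φ.2
          (fun h => hφ (Subtype.ext h.symm)), sub_zero]
  · rw [Pi.sub_apply, h2, hd]
    norm_num
  · funext g
    simp

section faithful

variable [Fintype G] (χ : Cfsg.IrrCharacter G)
  (hfaith : ∀ g : G, (χ : G → ℂ) g = (χ : G → ℂ) 1 → g = 1)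
  (h2 : (χ : G → ℂ) 1 = 2)

/-- The data of a splitting of `χ` on a subgroup into two multiplicative functions. -/
structure Split (H : Subgroup G) (α β : H → ℂ) : Prop where
  mulα : ∀ a b : H, α (a * b) = α a * α b
  mulβ : ∀ a b : H, β (a * b) = β a * β b
  oneα : α 1 = 1
  oneβ : β 1 = 1
  sum : ∀ h : H, (χ : G → ℂ) h = α h + β h
  irrα : Cfsg.IsIrrCharacter H α
  charβ : Cfsg.IsCharacter H β

include h2 in
theorem exists_split (H : Subgroup G)
    (hH : ¬ Cfsg.IsIrrCharacter H (fun h : H => (χ : G → ℂ) h)) :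
    ∃ α β : H → ℂ, Split χ H α β := by
  have := Fintype.ofFinite H
  have hψ : Cfsg.IsCharacter H (fun h : H => (χ : G → ℂ) h) :=
    isCharacter_restrict H (isCharacter_of_isIrrCharacter χ.2)
  obtain ⟨α, β, hα, hα1, hβ, hβ1, hsum⟩ := split_of_not_irr hψ h2 hH
  refine ⟨α, β, ?_, ?_, hα1, hβ1, fun h => congrFun hsum h, hα, hβ⟩
  · exact Cfsg.Agent.Lib.Helper15_Linear.linear_mul α (isCharacter_of_isIrrCharacter hα) hα1
  · exact Cfsg.Agent.Lib.Helper15_Linear.linear_mul β hβ hβ1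

include hfaith h2 in
theorem Split.inj {H : Subgroup G} {α β : H → ℂ} (hs : Split χ H α β) {a b : H}
    (hα : α a = α b) (hβ : β a = β b) : a = b := by
  have h1 : α (a * b⁻¹) = 1 := by
    rw [hs.mulα, hα, ← hs.mulα, mul_inv_cancel, hs.oneα]
  have h3 : β (a * b⁻¹) = 1 := by
    rw [hs.mulβ, hβ, ← hs.mulβ, mul_inv_cancel, hs.oneβ]
  have h4 : (χ : G → ℂ) ((a * b⁻¹ : H) : G) = (χ : G → ℂ) 1 := by
    rw [hs.sum, h1, h3, h2]
    norm_num
  have h5 := hfaith _ h4
  have h6 : a * b⁻¹ = 1 := Subtype.ext h5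
  exact mul_inv_eq_one.mp h6

include hfaith h2 in
theorem Split.comm {H : Subgroup G} {α β : H → ℂ} (hs : Split χ H α β) (a b : H) :
    a * b = b * a := by
  apply hs.inj χ hfaith h2
  · rw [hs.mulα, hs.mulα, mul_comm]
  · rw [hs.mulβ, hs.mulβ, mul_comm]

include hfaith h2 in
/-- If `χ` restricts irreducibly to `H`, central elements of `H` are central in `G`. -/
theorem mem_center_of_irr (H : Subgroup G)
    (hH : Cfsg.IsIrrCharacter H (fun h : H => (χ : G → ℂ) h)) (z : H)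
    (hz : ∀ h : H, z * h = h * z) : (z : G) ∈ Subgroup.center G := by
  have hzc : z ∈ Subgroup.center H := by
    rw [Subgroup.mem_center_iff]
    intro h
    exact (hz h).symm
  have hn := Cfsg.Agent.Lib.Helper76_GalConj.irr_center_normSq
    (⟨fun h : H => (χ : G → ℂ) h, hH⟩ : Cfsg.IrrCharacter H) hzc
  have hn' : (χ : G → ℂ) z * conj ((χ : G → ℂ) z) = 4 := by
    have : (χ : G → ℂ) ((1 : H) : G) = 2 := h2
    simp only at hn
    rw [this] at hn
    rw [hn]
    norm_num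
  obtain ⟨n, ρ, hρ, hχ⟩ := χ.2
  have hnorm : ‖(χ : G → ℂ) z‖ = 2 := by
    have h3 : ‖(χ : G → ℂ) z‖ ^ 2 = 4 := by
      have h4 := congrArg Complex.re hn'
      rw [Complex.mul_conj] at h4
      rw [← Complex.normSq_eq_norm_sq]
      exact_mod_cast h4
    have h5 : 0 ≤ ‖(χ : G → ℂ) z‖ := norm_nonneg _
    nlinarith
  have hfin : (Module.finrank ℂ (Fin n → ℂ) : ℂ) = 2 := by
    rw [← Representation.char_one ρ, hχ, h2]
  have hfinR : (Module.finrank ℂ (Fin n → ℂ) : ℝ) = 2 := by exact_mod_cast hfin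
  obtain ⟨ω, hω⟩ := Cfsg.Agent.Lib.Helper3_CharEigen.rho_eq_smul_id_of_norm_char_eq ρ (z : G)
    (by rw [hχ, hnorm, hfinR])
  rw [Subgroup.mem_center_iff]
  intro g
  have h6 : ρ (g * z * (z * g)⁻¹) = 1 := by
    have h7 : ρ (g * z) = ρ (z * g) := by
      rw [map_mul, map_mul, hω]
      ext v
      simp
    rw [map_mul, h7, ← map_mul, mul_inv_cancel, map_one]
  have h8 : (χ : G → ℂ) (g * z * (z * g)⁻¹) = (χ : G → ℂ) 1 := by
    rw [← hχ]
    show LinearMap.trace ℂ _ (ρ (g * z * (z * g)⁻¹)) = LinearMap.trace ℂ _ (ρ 1)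
    rw [h6, map_one ρ]
  have h9 := hfaith _ h8
  exact mul_inv_eq_one.mp h9

end faithful

end Cfsg.Agent.Lib.Helper80_Deg2A
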