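import Mathlib
import Cfsg.Prelude.Def_Characters
import Cfsg.Agent.Lib.Helper80_Deg2A
import Cfsg.Agent.S4567

/-!
# Faithful irreducible characters of degree two: centralizers of non-central elements (helper80)
-/

set_option autoImplicit false
set_option linter.unusedSectionVars false

namespace Cfsg.Agent.Lib.Helper80_Deg2B

open scoped ComplexConjugate
open Cfsg.Agent.Lib.Helper80_Deg2A Cfsg.Agent.Lib.Helper80_CharBasic

variable {G : Type*} [Group G]

/-- The centralizer of an element. -/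
def Cg (g : G) : Subgroup G := Subgroup.centralizer ({g} : Set G)

theorem mem_Cg {g x : G} : x ∈ Cg g ↔ g * x = x * g := by
  unfold Cg
  rw [Subgroup.mem_centralizer_iff]
  simp

theorem self_mem_Cg (g : G) : g ∈ Cg g := mem_Cg.mpr rfl

variable [Fintype G] (χ : Cfsg.IrrCharacter G)
  (hfaith : ∀ g : G, (χ : G → ℂ) g = (χ : G → ℂ) 1 → g = 1)
  (h2 : (χ : G → ℂ) 1 = 2)

include hfaith h2 in
theorem exists_split_Cg {g : G} (hg : g ∉ Subgroup.center G) :
    ∃ α β : Cg g → ℂ, Split χ (Cg g) α β := by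
  apply exists_split χ h2
  intro hirr
  apply hg
  exact mem_center_of_irr χ hfaith h2 (Cg g) hirr ⟨g, self_mem_Cg g⟩ (by
    intro h
    apply Subtype.ext
    exact mem_Cg.mp h.2)

include hfaith h2 in
theorem Cg_comm {g : G} (hg : g ∉ Subgroup.center G) {x y : G} (hx : x ∈ Cg g)
    (hy : y ∈ Cg g) : x * y = y * x := by
  obtain ⟨α, β, hs⟩ := exists_split_Cg χ hfaith h2 hg
  have := hs.comm χ hfaith h2 ⟨x, hx⟩ ⟨y, hy⟩
  exact congrArg Subtype.val this

include hfaith h2 in
theorem Cg_eq {g h : G} (hg : g ∉ Subgroup.center G) (hh : h ∈ Cg g)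
    (hhZ : h ∉ Subgroup.center G) : Cg h = Cg g := by
  apply le_antisymm
  · intro x hx
    rw [mem_Cg]
    have hgh : g ∈ Cg h := mem_Cg.mpr (mem_Cg.mp hh).symm
    exact Cg_comm χ hfaith h2 hhZ hgh hx
  · intro x hx
    rw [mem_Cg]
    exact Cg_comm χ hfaith h2 hg hh hx

include hfaith h2 in
/-- The centralizer of a non-central element has index at most two in its normalizer. -/
theorem card_normalizer_Cg {g : G} (hg : g ∉ Subgroup.center G) :
    Nat.card (Subgroup.normalizer (Cg g : Set G)) = Nat.card (Cg g) ∨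
      Nat.card (Subgroup.normalizer (Cg g : Set G)) = 2 * Nat.card (Cg g) := by
  obtain ⟨α, β, hs⟩ := exists_split_Cg χ hfaith h2 hg
  have hle : (Cg g) ≤ (Subgroup.normalizer (Cg g : Set G)) := Subgroup.le_normalizer
  have hcardsub : Nat.card ((Cg g).subgroupOf (Subgroup.normalizer (Cg g : Set G))) = Nat.card (Cg g) :=
    Nat.card_congr (Subgroup.subgroupOfEquivOfLe hle).toEquiv
  have hconj : ∀ x ∈ (Subgroup.normalizer (Cg g : Set G)), x * g * x⁻¹ ∈ (Cg g) := by
    intro x hx
    exact (Subgroup.mem_normalizer_iff.mp hx g).mp (self_mem_Cg g)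
  let g₀ : Cg g := ⟨g, self_mem_Cg g⟩
  -- the dichotomy
  have hdich : ∀ (x : G) (hx : x ∈ (Subgroup.normalizer (Cg g : Set G))),
      (α ⟨x * g * x⁻¹, hconj x hx⟩ = α g₀ ∧ β ⟨x * g * x⁻¹, hconj x hx⟩ = β g₀) ∨
      (α ⟨x * g * x⁻¹, hconj x hx⟩ = β g₀ ∧ β ⟨x * g * x⁻¹, hconj x hx⟩ = α g₀) := by
    intro x hx
    let g' : Cg g := ⟨x * g * x⁻¹, hconj x hx⟩
    have e1 : α g' + β g' = α g₀ + β g₀ := by
      rw [← hs.sum, ← hs.sum]
      exact irr_conj χ g x
    have e2 : α g' ^ 2 + β g' ^ 2 = α g₀ ^ 2 + β g₀ ^ 2 := by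
      have h3 : (χ : G → ℂ) ((g' * g' : Cg g) : G) = (χ : G → ℂ) ((g₀ * g₀ : Cg g) : G) := by
        have : ((g' * g' : Cg g) : G) = x * (g * g) * x⁻¹ := by
          show x * g * x⁻¹ * (x * g * x⁻¹) = x * (g * g) * x⁻¹
          group
        rw [this]
        exact irr_conj χ (g * g) x
      rw [hs.sum, hs.sum, hs.mulα, hs.mulβ, hs.mulα, hs.mulβ] at h3
      rw [pow_two, pow_two, pow_two, pow_two]
      exact h3
    have e3 : (α g' - α g₀) * (α g' - β g₀) = 0 := by
      have : β g' = α g₀ + β g₀ - α g' := by rw [← e1]; ring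
      rw [this] at e2
      linear_combination (1 / 2 : ℂ) * e2
    rcases mul_eq_zero.mp e3 with h | h
    · left
      have h3 : α g' = α g₀ := sub_eq_zero.mp h
      refine ⟨h3, ?_⟩
      rw [h3] at e1
      exact add_left_cancel e1
    · right
      have h3 : α g' = β g₀ := sub_eq_zero.mp h
      refine ⟨h3, ?_⟩
      rw [h3, add_comm] at e1
      exact add_right_cancel e1
  have hfix : ∀ (x : G) (hx : x ∈ (Subgroup.normalizer (Cg g : Set G))),
      (α ⟨x * g * x⁻¹, hconj x hx⟩ = α g₀ ∧ β ⟨x * g * x⁻¹, hconj x hx⟩ = β g₀) → x ∈ (Cg g) := by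
    intro x hx h
    have h3 := hs.inj χ hfaith h2 h.1 h.2
    have h4 : x * g * x⁻¹ = g := congrArg Subtype.val h3
    rw [mem_Cg]
    have h5 : x * g = g * x := by
      have := congrArg (· * x) h4
      simpa using this
    exact h5.symm
  have hswap : ∀ (x y : G) (hx : x ∈ (Subgroup.normalizer (Cg g : Set G))) (hy : y ∈ (Subgroup.normalizer (Cg g : Set G))), x ∉ (Cg g) → y ∉ (Cg g) → x⁻¹ * y ∈ (Cg g) := by
    intro x y hx hy hxA hyA
    have h3 := (hdich x hx).resolve_left (fun h => hxA (hfix x hx h))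
    have h4 := (hdich y hy).resolve_left (fun h => hyA (hfix y hy h))
    have h5 := hs.inj χ hfaith h2 (h3.1.trans h4.1.symm) (h3.2.trans h4.2.symm)
    have h6 : x * g * x⁻¹ = y * g * y⁻¹ := congrArg Subtype.val h5
    rw [mem_Cg]
    have h7 : g * (x⁻¹ * y) = x⁻¹ * (x * g * x⁻¹) * y := by group
    rw [h7, h6]
    group
  by_cases hall : ∀ x ∈ (Subgroup.normalizer (Cg g : Set G)), x ∈ (Cg g)
  · left
    have : (Subgroup.normalizer (Cg g : Set G)) = (Cg g) := le_antisymm hall hle
    rw [this]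
  · right
    push Not at hall
    obtain ⟨x₀, hx₀, hx₀A⟩ := hall
    have hidx : ((Cg g).subgroupOf (Subgroup.normalizer (Cg g : Set G))).index = 2 := by
      rw [Subgroup.index_eq_two_iff']
      refine ⟨⟨x₀, hx₀⟩⁻¹, ?_⟩
      intro b
      by_cases hb : (b : G) ∈ (Cg g)
      · right
        refine ⟨Subgroup.mem_subgroupOf.mpr hb, ?_⟩
        intro hcon
        rw [Subgroup.mem_subgroupOf] at hcon
        apply hx₀A
        have h3 : x₀⁻¹ * (b : G) ∈ (Cg g) := hcon
        have h4 : x₀⁻¹ ∈ (Cg g) := by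
          have := (Cg g).mul_mem h3 ((Cg g).inv_mem hb)
          simpa using this
        simpa using (Cg g).inv_mem h4
      · left
        refine ⟨?_, fun hcon => hb (Subgroup.mem_subgroupOf.mp hcon)⟩
        rw [Subgroup.mem_subgroupOf]
        exact hswap x₀ b hx₀ b.2 hx₀A hb
    have h3 := ((Cg g).subgroupOf (Subgroup.normalizer (Cg g : Set G))).card_mul_index
    rw [hidx, hcardsub] at h3
    rw [← h3, mul_comm]

include hfaith h2 in
/-- A primitive faithful character of degree two: no abelian subgroup has index at most two. -/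
theorem not_card_le_two_mul
    (hprim : ∀ H : Subgroup G, H ≠ ⊤ → ∀ θ : H → ℂ, Cfsg.IsCharacter H θ →
      (χ : G → ℂ) ≠ Cfsg.indFun H θ)
    (A : Subgroup G) (hA : ∀ x ∈ A, ∀ y ∈ A, x * y = y * x) :
    ¬ (Nat.card G ≤ 2 * Nat.card A) := by
  intro hcard
  have := Fintype.ofFinite A
  have hnirr : ¬ Cfsg.IsIrrCharacter A (fun h : A => (χ : G → ℂ) h) := by
    intro hirr
    have h1 := Cfsg.Agent.S4567.irr_one_eq_one_of_comm (G := A)
      (fun a b => Subtype.ext (hA a a.2 b b.2)) hirr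
    have h3 : (χ : G → ℂ) ((1 : A) : G) = 1 := h1
    rw [OneMemClass.coe_one, h2] at h3
    norm_num at h3
  obtain ⟨α, β, hs⟩ := exists_split χ h2 A hnirr
  by_cases htop : A = ⊤
  · have hcomm : ∀ a b : G, a * b = b * a := by
      intro a b
      exact hA a (by rw [htop]; trivial) b (by rw [htop]; trivial)
    have h1 := Cfsg.Agent.S4567.irr_one_eq_one_of_comm hcomm χ.2
    rw [h2] at h1
    norm_num at h1
  · have hidx : A.index = 2 := by
      have h1 := A.index_mul_card
      have h3 : A.index ≠ 1 := fun h => htop (Subgroup.index_eq_one.mp h)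
      have h4 : A.index ≠ 0 := Subgroup.index_ne_zero_of_finite
      have h5 : 0 < Nat.card A := Nat.card_pos
      have h6 : A.index ≤ 2 := by
        by_contra hcon
        push Not at hcon
        have : 3 * Nat.card A ≤ A.index * Nat.card A := Nat.mul_le_mul_right _ hcon
        omega
      omega
    have hαc : Cfsg.IsCharacter A α :=
      Cfsg.Agent.Lib.Helper3_CharBridge.isCharacter_of_isIrrCharacter hs.irrα
    have hind : Cfsg.IsCharacter G (Cfsg.indFun A α) :=
      Cfsg.Agent.Lib.Helper75_IndChar.isCharacter_indFun A hαc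
    have hfr := Cfsg.Agent.Lib.Helper75_Induced.frobenius_reciprocity A α (χ : G → ℂ)
      (Cfsg.Agent.Lib.Helper3_CharBridge.isClassFunction_of_isIrrCharacter χ.2)
    have hres : (fun h : A => (χ : G → ℂ) h) = α + β := by
      funext h
      exact hs.sum h
    obtain ⟨m, hm⟩ := Cfsg.Agent.Lib.Helper75_CharArith.classInner_isCharacter_nat hαc hs.charβ
    have hne : Cfsg.classInner (Cfsg.indFun A α) (χ : G → ℂ) ≠ 0 := by
      rw [hfr, hres, Cfsg.Agent.Lib.Helper3_CharOrtho.classInner_add_right,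
        Cfsg.Agent.Lib.Helper3_CharOrtho.classInner_self_of_isIrrCharacter hs.irrα, hm]
      have : (1 : ℂ) + (m : ℂ) = ((1 + m : ℕ) : ℂ) := by push_cast; ring
      rw [this]
      exact_mod_cast (Nat.succ_ne_zero m ∘ (by omega))
    have hdeg : Cfsg.indFun A α 1 = ((2 : ℕ) : ℂ) := by
      rw [Cfsg.Agent.Lib.Helper80_CharInd.indFun_one, hidx, hs.oneα]
      norm_num
    have heq := Cfsg.Agent.Lib.Helper80_CharInd.eq_of_constituent_of_degree_le
      (Cfsg.indFun A α) hind χ hne 2 2 hdeg (by rw [h2]; norm_num) le_rfl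
    exact hprim A htop α hαc heq.symm

end Cfsg.Agent.Lib.Helper80_Deg2B
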