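import Mathlib
import Cfsg.Prelude.Def_Characters
import Cfsg.Agent.Lib.Helper80_Deg2B

/-!
# Faithful irreducible characters of degree two: counting non-central elements (helper80)
-/

set_option autoImplicit false
set_option linter.unusedSectionVars false

namespace Cfsg.Agent.Lib.Helper80_Deg2C

open scoped ComplexConjugate
open Cfsg.Agent.Lib.Helper80_Deg2A Cfsg.Agent.Lib.Helper80_Deg2B

variable {G : Type*} [Group G]

theorem conj_mem_Cg {u x y : G} : x ∈ Cg (y⁻¹ * u * y) ↔ y * x * y⁻¹ ∈ Cg u := by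
  rw [mem_Cg, mem_Cg]
  constructor
  · intro h
    have h1 : u * (y * x * y⁻¹) = y * (y⁻¹ * u * y * x) * y⁻¹ := by group
    rw [h1, h]
    group
  · intro h
    have h1 : y⁻¹ * u * y * x = y⁻¹ * (u * (y * x * y⁻¹)) * y := by group
    rw [h1, h]
    group

theorem conj_not_mem_center {u y : G} (hu : u ∉ Subgroup.center G) :
    y⁻¹ * u * y ∉ Subgroup.center G := by
  intro h
  apply hu
  have h1 := (Subgroup.center G).normal_of_characteristic.conj_mem _ h y
  have h2 : y * (y⁻¹ * u * y) * y⁻¹ = u := by group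
  rwa [h2] at h1

variable [Fintype G]

open Classical in
/-- The non-central elements whose centralizer is conjugate to that of `g`. -/
noncomputable def U (g : G) : Finset G :=
  Finset.univ.filter (fun u => u ∉ Subgroup.center G ∧ ∃ y : G, y⁻¹ * u * y ∈ Cg g)

theorem mem_U {g u : G} : u ∈ U g ↔ u ∉ Subgroup.center G ∧ ∃ y : G, y⁻¹ * u * y ∈ Cg g := by
  classical
  unfold U
  rw [Finset.mem_filter]
  simp

theorem self_mem_U {g : G} (hg : g ∉ Subgroup.center G) : g ∈ U g := by
  rw [mem_U]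
  refine ⟨hg, 1, ?_⟩
  simp only [inv_one, one_mul, mul_one]
  exact self_mem_Cg g

variable (χ : Cfsg.IrrCharacter G)
  (hfaith : ∀ g : G, (χ : G → ℂ) g = (χ : G → ℂ) 1 → g = 1)
  (h2 : (χ : G → ℂ) 1 = 2)

include hfaith h2 in
/-- For `u ∈ U g` witnessed by `y`, the centralizer of `u` is the `y`-conjugate of `Cg g`. -/
theorem mem_Cg_of_mem_U {g u y : G} (hg : g ∉ Subgroup.center G) (hu : u ∉ Subgroup.center G)
    (hy : y⁻¹ * u * y ∈ Cg g) (x : G) : x ∈ Cg u ↔ y⁻¹ * x * y ∈ Cg g := by
  have h1 : Cg (y⁻¹ * u * y) = Cg g := Cg_eq χ hfaith h2 hg hy (conj_not_mem_center hu)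
  rw [← h1, conj_mem_Cg]
  have : y * (y⁻¹ * x * y) * y⁻¹ = x := by group
  rw [this]

include hfaith h2 in
theorem disjoint_U {g₁ g₂ : G} (hg₁ : g₁ ∉ Subgroup.center G) (hg₂ : g₂ ∉ Subgroup.center G)
    (hne : g₂ ∉ U g₁) : Disjoint (U g₁) (U g₂) := by
  rw [Finset.disjoint_left]
  intro u hu₁ hu₂
  apply hne
  rw [mem_U] at hu₁ hu₂ ⊢
  obtain ⟨huZ, y₁, hy₁⟩ := hu₁
  obtain ⟨-, y₂, hy₂⟩ := hu₂
  refine ⟨hg₂, y₂⁻¹ * y₁, ?_⟩
  -- `y₂ g₂ y₂⁻¹ ∈ Cg u`
  have h1 : y₂ * g₂ * y₂⁻¹ ∈ Cg u := by
    rw [mem_Cg_of_mem_U χ hfaith h2 hg₂ huZ hy₂]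
    have : y₂⁻¹ * (y₂ * g₂ * y₂⁻¹) * y₂ = g₂ := by group
    rw [this]
    exact self_mem_Cg g₂
  rw [mem_Cg_of_mem_U χ hfaith h2 hg₁ huZ hy₁] at h1
  have : (y₂⁻¹ * y₁)⁻¹ * g₂ * (y₂⁻¹ * y₁) = y₁⁻¹ * (y₂ * g₂ * y₂⁻¹) * y₁ := by group
  rw [this]
  exact h1

theorem center_le_Cg (g : G) : Subgroup.center G ≤ Cg g := by
  intro x hx
  rw [mem_Cg]
  exact (Subgroup.mem_center_iff.mp hx g)

include hfaith h2 in
/-- Counting `U g` by double counting. -/
theorem card_U_mul {g : G} (hg : g ∉ Subgroup.center G) :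
    (U g).card * Nat.card (Subgroup.normalizer (Cg g : Set G)) =
      Nat.card G * (Nat.card (Cg g) - Nat.card (Subgroup.center G)) := by
  classical
  set r : G → G → Prop := fun u y => u ∉ Subgroup.center G ∧ y⁻¹ * u * y ∈ Cg g with hr
  have hdc := Finset.sum_card_bipartiteAbove_eq_sum_card_bipartiteBelow (s := (Finset.univ : Finset G))
    (t := (Finset.univ : Finset G)) r
  -- the left side
  have hL : ∀ u : G, (Finset.bipartiteAbove r Finset.univ u).card =
      if u ∈ U g then Nat.card (Subgroup.normalizer (Cg g : Set G)) else 0 := by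
    intro u
    by_cases hu : u ∈ U g
    · rw [if_pos hu]
      obtain ⟨huZ, y₀, hy₀⟩ := mem_U.mp hu
      have hset : Finset.bipartiteAbove r Finset.univ u =
          (Finset.univ.filter (fun n => n ∈ Subgroup.normalizer (Cg g : Set G))).image
            (fun n => y₀ * n) := by
        ext y
        simp only [Finset.bipartiteAbove, Finset.mem_filter, Finset.mem_univ, true_and,
          Finset.mem_image, hr]
        constructor
        · rintro ⟨-, hy⟩
          refine ⟨y₀⁻¹ * y, ?_, by group⟩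
          rw [Subgroup.mem_normalizer_iff]
          intro h
          -- `Cg (y⁻¹ u y) = Cg g` and `Cg (y₀⁻¹ u y₀) = Cg g`
          have e1 := mem_Cg_of_mem_U χ hfaith h2 hg huZ hy₀
          have e2 := mem_Cg_of_mem_U χ hfaith h2 hg huZ hy
          -- `h ∈ Cg g ↔ y h y⁻¹ ∈ Cg u ↔ y₀⁻¹ y h y⁻¹ y₀ ∈ Cg g`
          have e3 : h ∈ Cg g ↔ y * h * y⁻¹ ∈ Cg u := by
            rw [e2]
            have : y⁻¹ * (y * h * y⁻¹) * y = h := by group
            rw [this]
          rw [e3, e1]
          have : y₀⁻¹ * (y * h * y⁻¹) * y₀ = y₀⁻¹ * y * h * (y₀⁻¹ * y)⁻¹ := by group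
          rw [this]
        · rintro ⟨n, hn, rfl⟩
          refine ⟨huZ, ?_⟩
          have hn' := (Subgroup.mem_normalizer_iff.mp (Subgroup.inv_mem _ hn) _).mp hy₀
          have : (y₀ * n)⁻¹ * u * (y₀ * n) = n⁻¹ * (y₀⁻¹ * u * y₀) * n⁻¹⁻¹ := by group
          rw [this]
          exact hn'
      rw [hset, Finset.card_image_of_injective _ (mul_right_injective y₀),
        Nat.card_eq_fintype_card, Fintype.card_subtype]
    · rw [if_neg hu]
      rw [Finset.card_eq_zero, Finset.eq_empty_iff_forall_notMem]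
      intro y hy
      simp only [Finset.bipartiteAbove, Finset.mem_filter, Finset.mem_univ, true_and, hr] at hy
      exact hu (mem_U.mpr ⟨hy.1, y, hy.2⟩)
  -- the right side
  have hR : ∀ y : G, (Finset.bipartiteBelow r Finset.univ y).card =
      Nat.card (Cg g) - Nat.card (Subgroup.center G) := by
    intro y
    have hset : Finset.bipartiteBelow r Finset.univ y =
        ((Finset.univ.filter (fun a => a ∈ Cg g)) \
          (Finset.univ.filter (fun a => a ∈ Subgroup.center G))).image
            (fun a => y * a * y⁻¹) := by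
      ext u
      simp only [Finset.bipartiteBelow, Finset.mem_filter, Finset.mem_univ, true_and,
        Finset.mem_image, Finset.mem_sdiff, hr]
      constructor
      · rintro ⟨huZ, hu⟩
        exact ⟨y⁻¹ * u * y, ⟨hu, conj_not_mem_center huZ⟩, by group⟩
      · rintro ⟨a, ⟨ha, haZ⟩, rfl⟩
        constructor
        · have := conj_not_mem_center (y := y⁻¹) haZ
          simpa using this
        · have : y⁻¹ * (y * a * y⁻¹) * y = a := by group
          rw [this]
          exact ha
    have hinj : Function.Injective (fun a : G => y * a * y⁻¹) := by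
      intro a b hab
      have := congrArg (fun t => y⁻¹ * t * y) hab
      simpa [mul_assoc] using this
    rw [hset, Finset.card_image_of_injective _ hinj, Finset.card_sdiff_of_subset,
      Nat.card_eq_fintype_card, Nat.card_eq_fintype_card, Fintype.card_subtype,
      Fintype.card_subtype]
    intro a ha
    rw [Finset.mem_filter] at ha ⊢
    exact ⟨ha.1, center_le_Cg g ha.2⟩
  rw [Finset.sum_congr rfl (fun u _ => hL u), Finset.sum_congr rfl (fun y _ => hR y),
    Finset.sum_ite_mem, Finset.univ_inter, Finset.sum_const, Finset.sum_const, Finset.card_univ,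
    smul_eq_mul, smul_eq_mul, ← Nat.card_eq_fintype_card] at hdc
  exact hdc

end Cfsg.Agent.Lib.Helper80_Deg2C
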