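import Mathlib

/-!
# Arithmetic of the class equation for finite subgroups of `PGL₂(ℂ)` (helper80)

Each "orbit" contributes `m * (α - 1)` where `N = m * ε * α`, `ε ∈ {1, 2}`, `α ≥ 2`, `m ≥ 2`.
-/

set_option autoImplicit false

namespace Cfsg.Agent.Lib.Helper80_Deg2D

/-- Basic facts on one orbit, with `P = m * α`. -/
theorem orbit_facts {m α : ℕ} (hα : 2 ≤ α) :
    m * (α - 1) = m * α - m ∧ 2 * m ≤ m * α := by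
  constructor
  · rw [Nat.mul_sub_one]
  · rw [mul_comm 2 m]
    exact Nat.mul_le_mul_left m hα

theorem arith1 {N m ε α : ℕ} (hm : 2 ≤ m) (hε : ε = 1 ∨ ε = 2) (hα : 2 ≤ α)
    (hN : N = m * ε * α) (hsum : N - 1 = m * (α - 1)) : False := by
  obtain ⟨h1, h2⟩ := orbit_facts (m := m) hα
  rw [h1] at hsum
  have hN' : N = ε * (m * α) := by rw [hN]; ring
  generalize m * α = P at *
  rcases hε with rfl | rfl <;> omega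

theorem arith4 {N m₁ ε₁ α₁ m₂ ε₂ α₂ m₃ ε₃ α₃ m₄ ε₄ α₄ : ℕ}
    (hm₁ : 1 ≤ m₁) (hε₁ : ε₁ = 1 ∨ ε₁ = 2) (hα₁ : 2 ≤ α₁) (hN₁ : N = m₁ * ε₁ * α₁)
    (hm₂ : 1 ≤ m₂) (hε₂ : ε₂ = 1 ∨ ε₂ = 2) (hα₂ : 2 ≤ α₂) (hN₂ : N = m₂ * ε₂ * α₂)
    (hm₃ : 1 ≤ m₃) (hε₃ : ε₃ = 1 ∨ ε₃ = 2) (hα₃ : 2 ≤ α₃) (hN₃ : N = m₃ * ε₃ * α₃)
    (hm₄ : 1 ≤ m₄) (hε₄ : ε₄ = 1 ∨ ε₄ = 2) (hα₄ : 2 ≤ α₄) (hN₄ : N = m₄ * ε₄ * α₄)
    (hsum : m₁ * (α₁ - 1) + m₂ * (α₂ - 1) + m₃ * (α₃ - 1) + m₄ * (α₄ - 1) ≤ N - 1) : False := by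
  obtain ⟨a1, a2⟩ := orbit_facts (m := m₁) hα₁
  obtain ⟨b1, b2⟩ := orbit_facts (m := m₂) hα₂
  obtain ⟨c1, c2⟩ := orbit_facts (m := m₃) hα₃
  obtain ⟨d1, d2⟩ := orbit_facts (m := m₄) hα₄
  rw [a1, b1, c1, d1] at hsum
  have e1 : N = ε₁ * (m₁ * α₁) := by rw [hN₁]; ring
  have e2 : N = ε₂ * (m₂ * α₂) := by rw [hN₂]; ring
  have e3 : N = ε₃ * (m₃ * α₃) := by rw [hN₃]; ring
  have e4 : N = ε₄ * (m₄ * α₄) := by rw [hN₄]; ring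
  generalize m₁ * α₁ = P₁ at *
  generalize m₂ * α₂ = P₂ at *
  generalize m₃ * α₃ = P₃ at *
  generalize m₄ * α₄ = P₄ at *
  rcases hε₁ with rfl | rfl <;> rcases hε₂ with rfl | rfl <;> rcases hε₃ with rfl | rfl <;>
    rcases hε₄ with rfl | rfl <;> omega

/-- Two orbits of types `ε = 1` and `ε = 2`. -/
theorem arith2_mixed {N m₁ α₁ m₂ α₂ : ℕ}
    (hm₁ : 2 ≤ m₁) (hα₁ : 2 ≤ α₁) (hN₁ : N = m₁ * α₁)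
    (hm₂ : 2 ≤ m₂) (hα₂ : 2 ≤ α₂) (hN₂ : N = 2 * (m₂ * α₂))
    (hsum : N - 1 = m₁ * (α₁ - 1) + m₂ * (α₂ - 1)) : N = 12 := by
  obtain ⟨a1, a2⟩ := orbit_facts (m := m₁) hα₁
  obtain ⟨b1, b2⟩ := orbit_facts (m := m₂) hα₂
  rw [a1, b1] at hsum
  by_cases h1 : α₁ = 2
  · subst h1
    omega
  by_cases h2 : α₂ = 2
  · subst h2
    by_cases h3 : α₁ = 3
    · subst h3
      omega
    · have h4 : 4 ≤ α₁ := by omega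
      have h5 : 4 * m₁ ≤ m₁ * α₁ := by
        rw [mul_comm 4 m₁]
        exact Nat.mul_le_mul_left m₁ h4
      omega
  · have h3 : 3 ≤ α₁ := by omega
    have h4 : 3 ≤ α₂ := by omega
    have h5 : 3 * m₁ ≤ m₁ * α₁ := by
      rw [mul_comm 3 m₁]
      exact Nat.mul_le_mul_left m₁ h3
    have h6 : 3 * m₂ ≤ m₂ * α₂ := by
      rw [mul_comm 3 m₂]
      exact Nat.mul_le_mul_left m₂ h4
    omega

theorem arith2 {N m₁ ε₁ α₁ m₂ ε₂ α₂ : ℕ}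
    (hm₁ : 2 ≤ m₁) (hε₁ : ε₁ = 1 ∨ ε₁ = 2) (hα₁ : 2 ≤ α₁) (hN₁ : N = m₁ * ε₁ * α₁)
    (hm₂ : 2 ≤ m₂) (hε₂ : ε₂ = 1 ∨ ε₂ = 2) (hα₂ : 2 ≤ α₂) (hN₂ : N = m₂ * ε₂ * α₂)
    (hsum : N - 1 = m₁ * (α₁ - 1) + m₂ * (α₂ - 1)) : N = 12 := by
  rcases hε₁ with rfl | rfl <;> rcases hε₂ with rfl | rfl
  · obtain ⟨a1, a2⟩ := orbit_facts (m := m₁) hα₁
    obtain ⟨b1, b2⟩ := orbit_facts (m := m₂) hα₂
    rw [a1, b1] at hsum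
    have e1 : N = m₁ * α₁ := by rw [hN₁]; ring
    have e2 : N = m₂ * α₂ := by rw [hN₂]; ring
    omega
  · exact arith2_mixed hm₁ hα₁ (by rw [hN₁]; ring) hm₂ hα₂ (by rw [hN₂]; ring) hsum
  · exact arith2_mixed hm₂ hα₂ (by rw [hN₂]; ring) hm₁ hα₁ (by rw [hN₁]; ring)
      (by rw [hsum]; ring)
  · obtain ⟨a1, a2⟩ := orbit_facts (m := m₁) hα₁
    obtain ⟨b1, b2⟩ := orbit_facts (m := m₂) hα₂
    rw [a1, b1] at hsum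
    have e1 : N = 2 * (m₁ * α₁) := by rw [hN₁]; ring
    have e2 : N = 2 * (m₂ * α₂) := by rw [hN₂]; ring
    omega

/-- Ordered core of the three-orbit case. -/
theorem core3 {n m₁ m₂ m₃ α₂ α₃ : ℕ} (hm₁ : 2 ≤ m₁) (hm₂ : 2 ≤ m₂) (hm₃ : 2 ≤ m₃)
    (hα₂ : 2 ≤ α₂) (hα₂' : α₂ ≤ 3) (hα₃ : 2 ≤ α₃)
    (h₁ : m₁ * 2 = n) (h₂ : m₂ * α₂ = n) (h₃ : m₃ * α₃ = n)
    (hsum : m₁ + m₂ + m₃ = n + 1) : n = 6 ∨ n = 12 ∨ n = 30 := by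
  have hα₂c : α₂ = 2 ∨ α₂ = 3 := by omega
  rcases hα₂c with rfl | rfl
  · omega
  · by_cases h6 : 6 ≤ α₃
    · have : 6 * m₃ ≤ m₃ * α₃ := by
        rw [mul_comm 6 m₃]
        exact Nat.mul_le_mul_left m₃ h6
      omega
    · have h7 : α₃ ≤ 5 := by omega
      interval_cases α₃ <;> omega

theorem arith3_all_two {n m₁ m₂ m₃ α₁ α₂ α₃ : ℕ} (hm₁ : 2 ≤ m₁) (hm₂ : 2 ≤ m₂) (hm₃ : 2 ≤ m₃)
    (hα₁ : 2 ≤ α₁) (hα₂ : 2 ≤ α₂) (hα₃ : 2 ≤ α₃)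
    (h₁ : m₁ * α₁ = n) (h₂ : m₂ * α₂ = n) (h₃ : m₃ * α₃ = n)
    (hsum : m₁ + m₂ + m₃ = n + 1) : n = 6 ∨ n = 12 ∨ n = 30 := by
  -- some `α` equals two
  have key : ∀ {a b c x y z : ℕ}, 2 ≤ a → 2 ≤ b → 2 ≤ c → 2 ≤ y → 2 ≤ z →
      a * 2 = n → b * y = n → c * z = n → a + b + c = n + 1 → n = 6 ∨ n = 12 ∨ n = 30 := by
    intro a b c x y z ha hb hc hy hz e1 e2 e3 es
    by_cases hy3 : y ≤ 3
    · exact core3 ha hb hc hy hy3 hz e1 e2 e3 es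
    by_cases hz3 : z ≤ 3
    · exact core3 ha hc hb hz hz3 hy e1 e3 e2 (by omega)
    · have h4y : 4 * b ≤ b * y := by
        rw [mul_comm 4 b]
        exact Nat.mul_le_mul_left b (by omega)
      have h4z : 4 * c ≤ c * z := by
        rw [mul_comm 4 c]
        exact Nat.mul_le_mul_left c (by omega)
      omega
  by_cases c1 : α₁ = 2
  · subst c1
    exact key (x := 0) hm₁ hm₂ hm₃ hα₂ hα₃ h₁ h₂ h₃ hsum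
  by_cases c2 : α₂ = 2
  · subst c2
    exact key (x := 0) hm₂ hm₁ hm₃ hα₁ hα₃ h₂ h₁ h₃ (by omega)
  by_cases c3 : α₃ = 2
  · subst c3
    exact key (x := 0) hm₃ hm₁ hm₂ hα₁ hα₂ h₃ h₁ h₂ (by omega)
  · have g1 : 3 * m₁ ≤ m₁ * α₁ := by
      rw [mul_comm 3 m₁]
      exact Nat.mul_le_mul_left m₁ (by omega)
    have g2 : 3 * m₂ ≤ m₂ * α₂ := by
      rw [mul_comm 3 m₂]
      exact Nat.mul_le_mul_left m₂ (by omega)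
    have g3 : 3 * m₃ ≤ m₃ * α₃ := by
      rw [mul_comm 3 m₃]
      exact Nat.mul_le_mul_left m₃ (by omega)
    omega

theorem arith3 {N m₁ ε₁ α₁ m₂ ε₂ α₂ m₃ ε₃ α₃ : ℕ}
    (hm₁ : 2 ≤ m₁) (hε₁ : ε₁ = 1 ∨ ε₁ = 2) (hα₁ : 2 ≤ α₁) (hN₁ : N = m₁ * ε₁ * α₁)
    (hm₂ : 2 ≤ m₂) (hε₂ : ε₂ = 1 ∨ ε₂ = 2) (hα₂ : 2 ≤ α₂) (hN₂ : N = m₂ * ε₂ * α₂)
    (hm₃ : 2 ≤ m₃) (hε₃ : ε₃ = 1 ∨ ε₃ = 2) (hα₃ : 2 ≤ α₃) (hN₃ : N = m₃ * ε₃ * α₃)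
    (hsum : N - 1 = m₁ * (α₁ - 1) + m₂ * (α₂ - 1) + m₃ * (α₃ - 1)) :
    N = 12 ∨ N = 24 ∨ N = 60 := by
  obtain ⟨a1, a2⟩ := orbit_facts (m := m₁) hα₁
  obtain ⟨b1, b2⟩ := orbit_facts (m := m₂) hα₂
  obtain ⟨c1, c2⟩ := orbit_facts (m := m₃) hα₃
  rw [a1, b1, c1] at hsum
  have e1 : N = ε₁ * (m₁ * α₁) := by rw [hN₁]; ring
  have e2 : N = ε₂ * (m₂ * α₂) := by rw [hN₂]; ring
  have e3 : N = ε₃ * (m₃ * α₃) := by rw [hN₃]; ring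
  by_cases hall : ε₁ = 2 ∧ ε₂ = 2 ∧ ε₃ = 2
  · obtain ⟨rfl, rfl, rfl⟩ := hall
    have hn := arith3_all_two (n := m₁ * α₁) hm₁ hm₂ hm₃ hα₁ hα₂ hα₃ rfl (by omega) (by omega)
      (by omega)
    omega
  · exfalso
    generalize m₁ * α₁ = P₁ at *
    generalize m₂ * α₂ = P₂ at *
    generalize m₃ * α₃ = P₃ at *
    rcases hε₁ with rfl | rfl <;> rcases hε₂ with rfl | rfl <;> rcases hε₃ with rfl | rfl <;>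
      first | omega | exact hall ⟨rfl, rfl, rfl⟩

end Cfsg.Agent.Lib.Helper80_Deg2D
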