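import Mathlib
import Cfsg.Prelude.Def_Characters
import Cfsg.Agent.Lib.Helper80_Deg2C
import Cfsg.Agent.Lib.Helper80_Deg2D

/-!
# Faithful primitive characters of degree two: the index of the centre (helper80)
-/

set_option autoImplicit false
set_option linter.unusedSectionVars false

namespace Cfsg.Agent.Lib.Helper80_Deg2E

open Cfsg.Agent.Lib.Helper80_Deg2A Cfsg.Agent.Lib.Helper80_Deg2B
  Cfsg.Agent.Lib.Helper80_Deg2C Cfsg.Agent.Lib.Helper80_Deg2D

variable {G : Type*} [Group G] [Fintype G] (χ : Cfsg.IrrCharacter G)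
  (hfaith : ∀ g : G, (χ : G → ℂ) g = (χ : G → ℂ) 1 → g = 1)
  (h2 : (χ : G → ℂ) 1 = 2)
  (hprim : ∀ H : Subgroup G, H ≠ ⊤ → ∀ θ : H → ℂ, Cfsg.IsCharacter H θ →
      (χ : G → ℂ) ≠ Cfsg.indFun H θ)

include hfaith h2 hprim in
theorem orbit_data {g : G} (hg : g ∉ Subgroup.center G) :
    ∃ m ε α : ℕ, 2 ≤ m ∧ (ε = 1 ∨ ε = 2) ∧ 2 ≤ α ∧
      (Subgroup.center G).index = m * ε * α ∧
      (U g).card = Nat.card (Subgroup.center G) * (m * (α - 1)) := by
  have hzpos : 0 < Nat.card (Subgroup.center G) := Nat.card_pos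
  have hNz : (Subgroup.center G).index * Nat.card (Subgroup.center G) = Nat.card G :=
    (Subgroup.center G).index_mul_card
  obtain ⟨α, hα⟩ := Subgroup.card_dvd_of_le (center_le_Cg g)
  have hα2 : 2 ≤ α := by
    by_contra hcon
    have hle : Nat.card (Cg g) ≤ Nat.card (Subgroup.center G) := by
      rw [hα]
      have h1 : α ≤ 1 := by omega
      calc Nat.card (Subgroup.center G) * α ≤ Nat.card (Subgroup.center G) * 1 :=
            Nat.mul_le_mul_left _ h1
        _ = Nat.card (Subgroup.center G) := mul_one _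
    have heq : Subgroup.center G = Cg g := Subgroup.eq_of_le_of_card_ge (center_le_Cg g) hle
    apply hg
    rw [heq]
    exact self_mem_Cg g
  obtain ⟨m, hm⟩ := Subgroup.card_subgroup_dvd_card (Subgroup.normalizer (Cg g : Set G))
  have hε : ∃ ε : ℕ, (ε = 1 ∨ ε = 2) ∧
      Nat.card (Subgroup.normalizer (Cg g : Set G)) = ε * Nat.card (Cg g) := by
    rcases card_normalizer_Cg χ hfaith h2 hg with h | h
    · exact ⟨1, Or.inl rfl, by rw [h, one_mul]⟩
    · exact ⟨2, Or.inr rfl, h⟩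
  obtain ⟨ε, hε12, hεN⟩ := hε
  have hUm := card_U_mul χ hfaith h2 hg
  generalize Nat.card (Subgroup.center G) = z at *
  generalize (Subgroup.center G).index = N at *
  have hGpos : 0 < Nat.card G := Nat.card_pos
  have hm2 : 2 ≤ m := by
    by_contra hcon
    have hm01 : m = 0 ∨ m = 1 := by omega
    rcases hm01 with rfl | rfl
    · rw [mul_zero] at hm
      omega
    · rw [mul_one, hεN] at hm
      apply not_card_le_two_mul χ hfaith h2 hprim (Cg g)
        (fun x hx y hy => Cg_comm χ hfaith h2 hg hx hy)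
      rw [hm]
      apply Nat.mul_le_mul_right
      rcases hε12 with rfl | rfl <;> omega
  have hεpos : 0 < ε := by rcases hε12 with rfl | rfl <;> omega
  have hKpos : 0 < ε * (z * α) := by
    apply Nat.mul_pos hεpos
    apply Nat.mul_pos hzpos
    omega
  refine ⟨m, ε, α, hm2, hε12, hα2, ?_, ?_⟩
  · apply Nat.eq_of_mul_eq_mul_right hzpos
    rw [hNz, hm, hεN, hα]
    ring
  · apply Nat.eq_of_mul_eq_mul_right hKpos
    have h1 : z * α - z = z * (α - 1) := by rw [Nat.mul_sub_one]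
    rw [hεN, hα, hm, hεN, hα, h1] at hUm
    rw [hUm]
    ring

include hfaith h2 hprim in
theorem index_center :
    (Subgroup.center G).index = 12 ∨ (Subgroup.center G).index = 24 ∨
      (Subgroup.center G).index = 60 := by
  classical
  have hzpos : 0 < Nat.card (Subgroup.center G) := Nat.card_pos
  have hNz : (Subgroup.center G).index * Nat.card (Subgroup.center G) = Nat.card G :=
    (Subgroup.center G).index_mul_card
  have hNpos : 0 < (Subgroup.center G).index := by
    have := Subgroup.index_ne_zero_of_finite (H := Subgroup.center G)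
    omega
  set S : Finset G := Finset.univ.filter (fun u => u ∉ Subgroup.center G) with hS
  have hScard : S.card =
      Nat.card (Subgroup.center G) * ((Subgroup.center G).index - 1) := by
    have h1 : (Finset.univ.filter (fun u => u ∈ Subgroup.center G)).card + S.card =
        (Finset.univ : Finset G).card := by
      rw [hS]
      convert Finset.card_filter_add_card_filter_not (s := (Finset.univ : Finset G))
        (fun u => u ∈ Subgroup.center G)
    have h3 : (Finset.univ.filter (fun u => u ∈ Subgroup.center G)).card =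
        Nat.card (Subgroup.center G) := by
      rw [Nat.card_eq_fintype_card, Fintype.card_subtype]
    rw [h3, Finset.card_univ, ← Nat.card_eq_fintype_card, ← hNz] at h1
    have h4 : Nat.card (Subgroup.center G) * ((Subgroup.center G).index - 1) =
        (Subgroup.center G).index * Nat.card (Subgroup.center G) -
          Nat.card (Subgroup.center G) := by
      rw [Nat.mul_sub_one, mul_comm]
    rw [h4]
    omega
  have hUsub : ∀ g : G, U g ⊆ S := by
    intro g u hu
    rw [hS, Finset.mem_filter]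
    exact ⟨Finset.mem_univ _, (mem_U.mp hu).1⟩
  have hmemS : ∀ g : G, g ∈ S → g ∉ Subgroup.center G := by
    intro g hg
    exact (Finset.mem_filter.mp hg).2
  have hex : ∀ T : Finset G, T ⊆ S → T ≠ S → ∃ g ∈ S, g ∉ T := by
    intro T hT hne
    by_contra hcon
    push Not at hcon
    exact hne (Finset.Subset.antisymm hT hcon)
  -- a first non-central element
  have hne : S.Nonempty := by
    rw [Finset.nonempty_iff_ne_empty]
    intro hempty
    have hcomm : ∀ a b : G, a * b = b * a := by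
      intro a b
      have ha : a ∈ Subgroup.center G := by
        by_contra hcon
        have : a ∈ S := by
          rw [hS, Finset.mem_filter]
          exact ⟨Finset.mem_univ _, hcon⟩
        rw [hempty] at this
        exact Finset.notMem_empty _ this
      exact ((Subgroup.mem_center_iff.mp ha) b).symm
    have h1 := Cfsg.Agent.S4567.irr_one_eq_one_of_comm hcomm χ.2
    rw [h2] at h1
    norm_num at h1
  obtain ⟨g₁, hg₁S⟩ := hne
  have hg₁ := hmemS g₁ hg₁S
  obtain ⟨m₁, ε₁, α₁, hm₁, hε₁, hα₁, hN₁, hU₁⟩ := orbit_data χ hfaith h2 hprim hg₁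
  by_cases c1 : U g₁ = S
  · exfalso
    have h1 : Nat.card (Subgroup.center G) * ((Subgroup.center G).index - 1) =
        Nat.card (Subgroup.center G) * (m₁ * (α₁ - 1)) := by
      rw [← hScard, ← c1, hU₁]
    exact arith1 hm₁ hε₁ hα₁ hN₁ (Nat.eq_of_mul_eq_mul_left hzpos h1)
  obtain ⟨g₂, hg₂S, hg₂U⟩ := hex (U g₁) (hUsub g₁) c1
  have hg₂ := hmemS g₂ hg₂S
  obtain ⟨m₂, ε₂, α₂, hm₂, hε₂, hα₂, hN₂, hU₂⟩ := orbit_data χ hfaith h2 hprim hg₂
  have hd12 : Disjoint (U g₁) (U g₂) := disjoint_U χ hfaith h2 hg₁ hg₂ hg₂U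
  have hsub12 : U g₁ ∪ U g₂ ⊆ S := Finset.union_subset (hUsub g₁) (hUsub g₂)
  have hcard12 : (U g₁ ∪ U g₂).card =
      Nat.card (Subgroup.center G) * (m₁ * (α₁ - 1) + m₂ * (α₂ - 1)) := by
    rw [Finset.card_union_of_disjoint hd12, hU₁, hU₂, mul_add]
  by_cases c2 : U g₁ ∪ U g₂ = S
  · left
    have h1 : Nat.card (Subgroup.center G) * ((Subgroup.center G).index - 1) =
        Nat.card (Subgroup.center G) * (m₁ * (α₁ - 1) + m₂ * (α₂ - 1)) := by
      rw [← hScard, ← c2, hcard12]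
    exact arith2 hm₁ hε₁ hα₁ hN₁ hm₂ hε₂ hα₂ hN₂ (Nat.eq_of_mul_eq_mul_left hzpos h1)
  obtain ⟨g₃, hg₃S, hg₃U⟩ := hex _ hsub12 c2
  have hg₃ := hmemS g₃ hg₃S
  obtain ⟨m₃, ε₃, α₃, hm₃, hε₃, hα₃, hN₃, hU₃⟩ := orbit_data χ hfaith h2 hprim hg₃
  have hd13 : Disjoint (U g₁) (U g₃) := disjoint_U χ hfaith h2 hg₁ hg₃
    (fun h => hg₃U (Finset.mem_union_left _ h))
  have hd23 : Disjoint (U g₂) (U g₃) := disjoint_U χ hfaith h2 hg₂ hg₃
    (fun h => hg₃U (Finset.mem_union_right _ h))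
  have hd123 : Disjoint (U g₁ ∪ U g₂) (U g₃) := by
    rw [Finset.disjoint_union_left]
    exact ⟨hd13, hd23⟩
  have hsub123 : U g₁ ∪ U g₂ ∪ U g₃ ⊆ S := Finset.union_subset hsub12 (hUsub g₃)
  have hcard123 : (U g₁ ∪ U g₂ ∪ U g₃).card =
      Nat.card (Subgroup.center G) * (m₁ * (α₁ - 1) + m₂ * (α₂ - 1) + m₃ * (α₃ - 1)) := by
    rw [Finset.card_union_of_disjoint hd123, hcard12, hU₃, ← mul_add]
  by_cases c3 : U g₁ ∪ U g₂ ∪ U g₃ = S
  · have h1 : Nat.card (Subgroup.center G) * ((Subgroup.center G).index - 1) =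
        Nat.card (Subgroup.center G) *
          (m₁ * (α₁ - 1) + m₂ * (α₂ - 1) + m₃ * (α₃ - 1)) := by
      rw [← hScard, ← c3, hcard123]
    exact arith3 hm₁ hε₁ hα₁ hN₁ hm₂ hε₂ hα₂ hN₂ hm₃ hε₃ hα₃ hN₃
      (Nat.eq_of_mul_eq_mul_left hzpos h1)
  exfalso
  obtain ⟨g₄, hg₄S, hg₄U⟩ := hex _ hsub123 c3
  have hg₄ := hmemS g₄ hg₄S
  obtain ⟨m₄, ε₄, α₄, hm₄, hε₄, hα₄, hN₄, hU₄⟩ := orbit_data χ hfaith h2 hprim hg₄
  have hd14 : Disjoint (U g₁) (U g₄) := disjoint_U χ hfaith h2 hg₁ hg₄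
    (fun h => hg₄U (Finset.mem_union_left _ (Finset.mem_union_left _ h)))
  have hd24 : Disjoint (U g₂) (U g₄) := disjoint_U χ hfaith h2 hg₂ hg₄
    (fun h => hg₄U (Finset.mem_union_left _ (Finset.mem_union_right _ h)))
  have hd34 : Disjoint (U g₃) (U g₄) := disjoint_U χ hfaith h2 hg₃ hg₄
    (fun h => hg₄U (Finset.mem_union_right _ h))
  have hd1234 : Disjoint (U g₁ ∪ U g₂ ∪ U g₃) (U g₄) := by
    rw [Finset.disjoint_union_left, Finset.disjoint_union_left]
    exact ⟨⟨hd14, hd24⟩, hd34⟩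
  have hsub1234 : U g₁ ∪ U g₂ ∪ U g₃ ∪ U g₄ ⊆ S := Finset.union_subset hsub123 (hUsub g₄)
  have hcard1234 : (U g₁ ∪ U g₂ ∪ U g₃ ∪ U g₄).card =
      Nat.card (Subgroup.center G) *
        (m₁ * (α₁ - 1) + m₂ * (α₂ - 1) + m₃ * (α₃ - 1) + m₄ * (α₄ - 1)) := by
    rw [Finset.card_union_of_disjoint hd1234, hcard123, hU₄, ← mul_add]
  have hle := Finset.card_le_card hsub1234
  rw [hcard1234, hScard] at hle
  have hle' := Nat.le_of_mul_le_mul_left hle hzpos
  exact arith4 (by omega) hε₁ hα₁ hN₁ (by omega) hε₂ hα₂ hN₂ (by omega) hε₃ hα₃ hN₃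
    (by omega) hε₄ hα₄ hN₄ hle'

end Cfsg.Agent.Lib.Helper80_Deg2E
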