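import Mathlib
import Cfsg.Agent.Lib.Helper6_FT3Defs

/-!
# FT3A package UNION (helper80) for helper6's S3331 market

The union of all `X`-signalizers is covered by the identity and the nonidentity elements of the
maximal signalizers.
-/

set_option autoImplicit false

open Cfsg Cfsg.Agent.Lib.Helper6_FT3Defs
open scoped ComplexConjugate

universe u

variable {G : Type u} [Group G] [Finite G] {X : Subgroup G}

namespace Cfsg.Agent.Lib.Helper80_FT3_UNION

/-- every signalizer lies in a maximal one -/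
theorem exists_maxSig {A : Subgroup G} (hA : IsSig X A) : ∃ M : Subgroup G, A ≤ M ∧ IsMaxSig X M := by
  have hfin : {B : Subgroup G | IsSig X B}.Finite := Set.toFinite _
  obtain ⟨M, hAM, hM⟩ := hfin.exists_le_maximal (a := A) hA
  refine ⟨M, hAM, hM.prop, fun B hB hMB => ?_⟩
  exact le_antisymm (hM.le_of_ge hB hMB) hMB

/-- a sum bound for a finite union of sets -/
theorem ncard_biUnion_le {ι : Type*} (s : Finset ι) (f : ι → Set G) :
    (⋃ i ∈ s, f i).ncard ≤ ∑ i ∈ s, (f i).ncard := by
  classical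
  induction s using Finset.induction_on with
  | empty => simp
  | insert a s ha ih =>
    rw [Finset.sum_insert ha]
    have : (⋃ i ∈ insert a s, f i) = f a ∪ ⋃ i ∈ s, f i := by
      ext x
      simp
    rw [this]
    calc (f a ∪ ⋃ i ∈ s, f i).ncard ≤ (f a).ncard + (⋃ i ∈ s, f i).ncard := Set.ncard_union_le _ _
      _ ≤ (f a).ncard + ∑ i ∈ s, (f i).ncard := Nat.add_le_add_left ih _

theorem ncard_sdiff_one (A : Subgroup G) : ((A : Set G) \ {1}).ncard = Nat.card A - 1 := by
  have h1 : ({1} : Set G) ⊆ (A : Set G) := by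
    intro x hx
    rw [Set.mem_singleton_iff.mp hx]
    exact A.one_mem
  rw [Set.ncard_diff h1 (Set.toFinite _), Set.ncard_singleton]
  congr 1

/-- [M] Every signalizer lies in a maximal one (finiteness); the maximal ones are the even members, the odd members
and possibly ⊥. -/
theorem union_le : (sigUnion X).ncard ≤
    1 + ∑ᶠ A ∈ evenMembers X, (Nat.card A - 1) + ∑ᶠ A ∈ oddMembers X, (Nat.card A - 1) := by
  classical
  have hEf : (evenMembers X).Finite := Set.toFinite _
  have hOf : (oddMembers X).Finite := Set.toFinite _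
  rw [finsum_mem_eq_finite_toFinset_sum _ hEf, finsum_mem_eq_finite_toFinset_sum _ hOf]
  have hsub : sigUnion X ⊆ ({1} : Set G) ∪ (⋃ A ∈ hEf.toFinset, ((A : Set G) \ {1})) ∪
      (⋃ A ∈ hOf.toFinset, ((A : Set G) \ {1})) := by
    intro v hv
    obtain ⟨A, hA, hvA⟩ := hv
    by_cases hv1 : v = 1
    · left; left
      exact Set.mem_singleton_iff.mpr hv1
    obtain ⟨M, hAM, hM⟩ := exists_maxSig hA
    have hvM : v ∈ M := hAM hvA
    have hMne : M ≠ ⊥ := by
      intro h0
      rw [h0, Subgroup.mem_bot] at hvM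
      exact hv1 hvM
    by_cases h2 : 2 ∣ Nat.card M
    · left; right
      simp only [Set.mem_iUnion, Set.Finite.mem_toFinset]
      exact ⟨M, ⟨hM, h2⟩, hvM, hv1⟩
    · right
      simp only [Set.mem_iUnion, Set.Finite.mem_toFinset]
      exact ⟨M, ⟨hM, h2, hMne⟩, hvM, hv1⟩
  calc (sigUnion X).ncard
      ≤ (({1} : Set G) ∪ (⋃ A ∈ hEf.toFinset, ((A : Set G) \ {1})) ∪
          (⋃ A ∈ hOf.toFinset, ((A : Set G) \ {1}))).ncard :=
        Set.ncard_le_ncard hsub (Set.toFinite _)
    _ ≤ (({1} : Set G) ∪ (⋃ A ∈ hEf.toFinset, ((A : Set G) \ {1}))).ncard +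
          (⋃ A ∈ hOf.toFinset, ((A : Set G) \ {1})).ncard := Set.ncard_union_le _ _
    _ ≤ (({1} : Set G)).ncard + (⋃ A ∈ hEf.toFinset, ((A : Set G) \ {1})).ncard +
          (⋃ A ∈ hOf.toFinset, ((A : Set G) \ {1})).ncard :=
        Nat.add_le_add_right (Set.ncard_union_le _ _) _
    _ ≤ 1 + ∑ A ∈ hEf.toFinset, (Nat.card A - 1) + ∑ A ∈ hOf.toFinset, (Nat.card A - 1) := by
        rw [Set.ncard_singleton]
        have hE := ncard_biUnion_le hEf.toFinset (fun A : Subgroup G => ((A : Set G) \ {1}))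
        have hO := ncard_biUnion_le hOf.toFinset (fun A : Subgroup G => ((A : Set G) \ {1}))
        simp only [ncard_sdiff_one] at hE hO
        omega

end Cfsg.Agent.Lib.Helper80_FT3_UNION
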