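import Mathlib
import Cfsg.Prelude.Def_Characters
import Cfsg.Agent.Lib.Helper3_CharBridge
import Cfsg.Agent.Lib.Helper3_CharOrtho
import Cfsg.Agent.Lib.Helper75_CharArith
import Cfsg.Agent.Lib.Helper75_GalConj
import Cfsg.Agent.Lib.Helper39_CharTools
import Cfsg.Agent.Lib.Helper80_CharBasic
import Cfsg.Agent.S0859

/-!
# Products of Galois conjugate characters: the key inequality (helper80)

If `χ` is irreducible, `k` is prime to `|G|`, and `χ χ̄ = Φ + Ξ` with characters `Φ, Ξ` such that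
`Φ (g ^ k) = Φ g`, `Φ 1 ≠ 0, 1`, then `g ↦ χ g * χ (g ^ k)` has norm different from `1`.
-/

set_option autoImplicit false
set_option linter.unusedSectionVars false

namespace Cfsg.Agent.Lib.Helper80_GalProdA

open scoped ComplexConjugate
open Cfsg
open Cfsg.Agent.Lib.Helper3_CharBridge Cfsg.Agent.Lib.Helper3_CharOrtho
  Cfsg.Agent.Lib.Helper75_CharArith

universe u

variable {G : Type u} [Group G] [Fintype G]

/-- Composition of a character with a coprime power map is a character. -/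
theorem isCharacter_powMap {ψ : G → ℂ} (hψ : IsCharacter G ψ) {k : ℕ}
    (hk : k.Coprime (Nat.card G)) : IsCharacter G (fun g => ψ (g ^ k)) := by
  classical
  obtain ⟨m, -, hsum⟩ := exists_multiplicities hψ
  have h : (fun g => ψ (g ^ k)) =
      ∑ χ : IrrCharacter G, m χ • (fun g => (χ : G → ℂ) (g ^ k)) := by
    funext g
    rw [hsum]
    simp only [Finset.sum_apply, Pi.smul_apply, smul_eq_mul, nsmul_eq_mul, Pi.mul_apply,
      Pi.natCast_apply]
  rw [h]
  apply isCharacter_sum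
  intro χ _
  apply isCharacter_nsmul
  exact isCharacter_of_isIrrCharacter
    (Cfsg.Agent.Lib.Helper75_GalConj.isIrrCharacter_powMap χ.2 k hk)

/-- Summation over a coprime power map. -/
theorem sum_powMap (f : G → ℂ) {k : ℕ} (hk : k.Coprime (Nat.card G)) :
    ∑ g : G, f (g ^ k) = ∑ g : G, f g := by
  have hk' : (Nat.card G).Coprime k := hk.symm
  exact Fintype.sum_equiv (powCoprime hk') (fun g => f (g ^ k)) f (fun g => rfl)

theorem classInner_powMap_one (ψ : G → ℂ) {k : ℕ} (hk : k.Coprime (Nat.card G)) :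
    classInner (fun g => ψ (g ^ k)) (fun _ => (1 : ℂ)) = classInner ψ (fun _ => (1 : ℂ)) := by
  unfold classInner
  congr 1
  exact sum_powMap (fun g => ψ g * conj (1 : ℂ)) hk

theorem key_ineq {χ : G → ℂ} (hχ : IsIrrCharacter G χ) {k : ℕ} (hk : k.Coprime (Nat.card G))
    {Φ Ξ : G → ℂ} (hΦ : IsCharacter G Φ) (hΞ : IsCharacter G Ξ)
    (hsum : ∀ g, χ g * conj (χ g) = Φ g + Ξ g) (hrat : ∀ g, Φ (g ^ k) = Φ g)
    (h0 : Φ 1 ≠ 0) (h1 : Φ 1 ≠ 1) :
    classInner (fun g => χ g * χ (g ^ k)) (fun g => χ g * χ (g ^ k)) ≠ 1 := by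
  classical
  intro htot
  set Ξ' : G → ℂ := fun g => Ξ (g ^ k) with hΞ'def
  have hΞ' : IsCharacter G Ξ' := isCharacter_powMap hΞ hk
  -- rewrite the norm
  have hreal : ∀ g, conj (Φ g + Ξ g) = Φ g + Ξ g := by
    intro g
    rw [← hsum g, map_mul, Complex.conj_conj, mul_comm]
  have e1 : classInner (fun g => χ g * χ (g ^ k)) (fun g => χ g * χ (g ^ k)) =
      classInner (Φ + Ξ) (Φ + Ξ') := by
    unfold classInner
    congr 1
    apply Finset.sum_congr rfl
    intro g _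
    have h2 : (Φ + Ξ') g = Φ (g ^ k) + Ξ (g ^ k) := by
      rw [Pi.add_apply, hrat g]
    rw [h2, hreal (g ^ k), Pi.add_apply, ← hsum g, ← hsum (g ^ k), map_mul]
    ring
  rw [e1, classInner_add_left, classInner_add_right, classInner_add_right] at htot
  obtain ⟨n1, hn1pos, hn1⟩ := Cfsg.Agent.S0859.classInner_self_pos hΦ h0
  obtain ⟨n2, hn2⟩ := classInner_isCharacter_nat hΦ hΞ'
  obtain ⟨n3, hn3⟩ := classInner_isCharacter_nat hΞ hΦ
  obtain ⟨n4, hn4⟩ := classInner_isCharacter_nat hΞ hΞ'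
  rw [hn1, hn2, hn3, hn4] at htot
  have hnat : n1 + n2 + (n3 + n4) = 1 := by exact_mod_cast htot
  have hn1' : n1 = 1 := by omega
  have hn4' : n4 = 0 := by omega
  -- Φ irreducible
  have hΦirr : IsIrrCharacter G Φ := by
    apply isIrrCharacter_of_classInner_self hΦ
    rw [hn1, hn1']; simp
  have hone : IsIrrCharacter G (fun _ : G => (1 : ℂ)) :=
    Cfsg.Agent.Lib.Helper80_CharBasic.isIrrCharacter_one G
  have hΦne : Φ ≠ fun _ : G => (1 : ℂ) := by
    intro h
    apply h1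
    rw [h]
  have hΦ1 : classInner Φ (fun _ : G => (1 : ℂ)) = 0 :=
    classInner_of_isIrrCharacter_of_ne hΦirr hone hΦne
  -- ⟨Δ, 1⟩ = 1
  have hΔ1 : classInner (Φ + Ξ) (fun _ : G => (1 : ℂ)) = 1 := by
    have h2 := classInner_self_of_isIrrCharacter hχ
    refine Eq.trans ?_ h2
    unfold classInner
    congr 1
    apply Finset.sum_congr rfl
    intro g _
    rw [Pi.add_apply, ← hsum g]
    simp
  rw [classInner_add_left, hΦ1, zero_add] at hΔ1
  -- Ξ - 1 is a character
  have hΞ0 : IsCharacter G (Ξ - fun _ : G => (1 : ℂ)) := by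
    apply Cfsg.Agent.Lib.Helper39_CharTools.isCharacter_sub_irr hΞ hone
    rw [hΔ1]; exact one_ne_zero
  set Ξ₀ : G → ℂ := Ξ - fun _ : G => (1 : ℂ) with hΞ₀def
  have hΞ0' : IsCharacter G (fun g => Ξ₀ (g ^ k)) := isCharacter_powMap hΞ0 hk
  have hΞdec : Ξ = (fun _ : G => (1 : ℂ)) + Ξ₀ := by
    rw [hΞ₀def]; abel
  have hΞ'dec : Ξ' = (fun _ : G => (1 : ℂ)) + fun g => Ξ₀ (g ^ k) := by
    funext g
    simp only [hΞ'def, hΞ₀def, Pi.add_apply, Pi.sub_apply]
    ring
  have honeC : IsCharacter G (fun _ : G => (1 : ℂ)) := isCharacter_of_isIrrCharacter hone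
  obtain ⟨m2, hm2⟩ := classInner_isCharacter_nat honeC hΞ0'
  obtain ⟨m3, hm3⟩ := classInner_isCharacter_nat hΞ0 honeC
  obtain ⟨m4, hm4⟩ := classInner_isCharacter_nat hΞ0 hΞ0'
  have h5 : classInner Ξ Ξ' = 1 + m2 + (m3 + m4) := by
    conv_lhs => rw [hΞ'dec]
    conv_lhs => rw [hΞdec]
    rw [classInner_add_left, classInner_add_right, classInner_add_right,
      classInner_self_of_isIrrCharacter hone, hm2, hm3, hm4]
  rw [hn4, hn4'] at h5
  have h6 : (0 : ℕ) = 1 + m2 + (m3 + m4) := by exact_mod_cast h5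
  omega

end Cfsg.Agent.Lib.Helper80_GalProdA
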