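import Mathlib
import Cfsg.Prelude.Def_Characters
import Cfsg.Agent.Lib.Helper80_GalProdA
import Cfsg.Agent.Lib.Helper75_CharProd
import Cfsg.Agent.Lib.Helper75_IndChar
import Cfsg.Agent.Lib.Helper75_Induced
import Cfsg.Agent.Lib.Helper76_GalConj
import Cfsg.Agent.Lib.Helper80_CharInd

/-!
# Products of Galois conjugate characters: primitivity (helper80)

If `χ` and `g ↦ χ g * χ (g ^ k)` are irreducible (`k` prime to `|G|`), then `χ` is not induced
from a proper subgroup.
-/

set_option autoImplicit false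
set_option linter.unusedSectionVars false

namespace Cfsg.Agent.Lib.Helper80_GalProdB

open scoped ComplexConjugate
open Cfsg
open Cfsg.Agent.Lib.Helper3_CharBridge Cfsg.Agent.Lib.Helper3_CharOrtho
  Cfsg.Agent.Lib.Helper75_CharArith Cfsg.Agent.Lib.Helper75_Induced
  Cfsg.Agent.Lib.Helper80_GalProdA

universe u

variable {G : Type u} [Group G] [Fintype G]

/-- The permutation character `(1_T)^G` is invariant under coprime power maps. -/
theorem indFun_one_powMap (T : Subgroup G) {k : ℕ} (hk : k.Coprime (Nat.card G)) (g : G) :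
    indFun T (fun _ : T => (1 : ℂ)) (g ^ k) = indFun T (fun _ : T => (1 : ℂ)) g := by
  classical
  rw [indFun_apply, indFun_apply]
  congr 1
  apply Finset.sum_congr rfl
  intro x _
  have h1 : x⁻¹ * g ^ k * x = (x⁻¹ * g * x) ^ k := by
    have := conj_pow (a := x⁻¹) (b := g) (i := k)
    rw [inv_inv] at this
    exact this.symm
  rw [h1]
  by_cases hy : x⁻¹ * g * x ∈ T
  · rw [extendByZero_of_mem T _ hy, extendByZero_of_mem T _ (pow_mem hy k)]
  · have hy' : (x⁻¹ * g * x) ^ k ∉ T := fun h =>
      hy (Cfsg.Agent.Lib.Helper76_GalConj.mem_of_pow_mem_of_coprime T hk h)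
    rw [extendByZero_of_not_mem T _ hy, extendByZero_of_not_mem T _ hy']

theorem prim_of_irr_prod {χ : G → ℂ} (hχ : IsIrrCharacter G χ) {k : ℕ}
    (hk : k.Coprime (Nat.card G)) (hirr : IsIrrCharacter G (fun g => χ g * χ (g ^ k))) :
    Cfsg.Agent.S0859.Prim χ := by
  classical
  rintro ⟨T, ξ, hT, hξ, hind⟩
  have hχc : IsCharacter G χ := isCharacter_of_isIrrCharacter hχ
  have hconj : IsCharacter G (fun g => conj (χ g)) :=
    Cfsg.Agent.Lib.Helper75_CharProd.isCharacter_conj hχc
  have hconjcl : IsClassFunction G (fun g => conj (χ g)) := isClassFunction_of_isCharacter hconj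
  have honeT : IsIrrCharacter T (fun _ : T => (1 : ℂ)) :=
    Cfsg.Agent.Lib.Helper80_CharBasic.isIrrCharacter_one T
  set η : T → ℂ := ξ * Cfsg.Agent.Lib.Helper75_Clifford.res T (fun g => conj (χ g)) with hηdef
  have hη : IsCharacter T η :=
    Cfsg.Agent.Lib.Helper75_CharProd.isCharacter_mul (isCharacter_of_isIrrCharacter hξ)
      (isCharacter_restrict T hconj)
  have hΔ : (fun g => χ g * conj (χ g)) = indFun T η := by
    have := Cfsg.Agent.Lib.Helper75_CharProd.indFun_mul T ξ hconjcl
    rw [hind] at this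
    rw [← this]
    rfl
  -- ⟨η, 1⟩ = 1
  have hη1 : classInner η (fun _ : T => (1 : ℂ)) = 1 := by
    have h1 : classInner η (fun _ : T => (1 : ℂ)) = classInner ξ (fun t : T => χ t) := by
      unfold classInner
      congr 1
      apply Finset.sum_congr rfl
      intro t _
      simp [hηdef, Cfsg.Agent.Lib.Helper75_Clifford.res_apply]
    rw [h1, ← frobenius_reciprocity T ξ χ (isClassFunction_of_isCharacter hχc), hind]
    exact classInner_self_of_isIrrCharacter hχ
  have hη0 : IsCharacter T (η - fun _ : T => (1 : ℂ)) := by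
    apply Cfsg.Agent.Lib.Helper39_CharTools.isCharacter_sub_irr hη honeT
    rw [hη1]; exact one_ne_zero
  have hΦ : IsCharacter G (indFun T (fun _ : T => (1 : ℂ))) :=
    Cfsg.Agent.Lib.Helper75_IndChar.isCharacter_indFun T (isCharacter_of_isIrrCharacter honeT)
  have hΞ : IsCharacter G (indFun T (η - fun _ : T => (1 : ℂ))) :=
    Cfsg.Agent.Lib.Helper75_IndChar.isCharacter_indFun T hη0
  have hsum : ∀ g, χ g * conj (χ g) =
      indFun T (fun _ : T => (1 : ℂ)) g + indFun T (η - fun _ : T => (1 : ℂ)) g := by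
    intro g
    have h1 : η = (fun _ : T => (1 : ℂ)) + (η - fun _ : T => (1 : ℂ)) := by abel
    have h2 := congrFun hΔ g
    rw [h1, indFun_add] at h2
    exact h2
  have hΦ1 : indFun T (fun _ : T => (1 : ℂ)) 1 = (T.index : ℂ) := by
    rw [Cfsg.Agent.Lib.Helper80_CharInd.indFun_one, mul_one]
  have h0 : indFun T (fun _ : T => (1 : ℂ)) 1 ≠ 0 := by
    rw [hΦ1]
    exact_mod_cast (Subgroup.index_ne_zero_of_finite (H := T))
  have h1 : indFun T (fun _ : T => (1 : ℂ)) 1 ≠ 1 := by
    rw [hΦ1]
    intro h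
    have : T.index = 1 := by exact_mod_cast h
    exact hT (Subgroup.index_eq_one.mp this)
  exact key_ineq hχ hk hΦ hΞ hsum (indFun_one_powMap T hk) h0 h1
    (classInner_self_of_isIrrCharacter hirr)

end Cfsg.Agent.Lib.Helper80_GalProdB
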