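import Mathlib
import Cfsg.Prelude.Def_Characters
import Cfsg.Agent.Lib.Helper80_GalProdC

/-!
# The projection of `End V` onto the span of `ρ(A)` for a class-two normal subgroup (helper80)

`ρ` is a faithful irreducible representation on `V = Fin m → ℂ`, `A` a normal subgroup with
`[A, A] ≤ Z(G)` and `Z(A) ≤ Z(G)`.  Then `χ` vanishes on `A \ Z(G)` and
`Q T = ∑ a ∈ A, tr (T ρ(a)⁻¹) • ρ(a)` is, up to the scalar `|A ∩ Z(G)| * m`, an idempotent commuting
with the conjugation action of `G` on `End V`.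
-/

set_option autoImplicit false
set_option linter.unusedSectionVars false

namespace Cfsg.Agent.Lib.Helper80_GalProdD

open Cfsg
open Cfsg.Agent.Lib.Helper80_GalProdC

universe u

variable {G : Type u} [Group G] [Fintype G] {m : ℕ} (ρ : Representation ℂ G (Fin m → ℂ))
  (A : Subgroup G) [Fintype A]

/-- The functional `T ↦ tr (T * ρ a⁻¹)`. -/
noncomputable def phi (a : G) : Module.End ℂ (Fin m → ℂ) →ₗ[ℂ] ℂ :=
  (LinearMap.trace ℂ (Fin m → ℂ)) ∘ₗ (LinearMap.mulRight ℂ (ρ a⁻¹))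

theorem phi_apply (a : G) (T : Module.End ℂ (Fin m → ℂ)) :
    phi ρ a T = LinearMap.trace ℂ (Fin m → ℂ) (T * ρ a⁻¹) := rfl

/-- The unnormalised projection onto the span of `ρ(A)`. -/
noncomputable def Q : Module.End ℂ (Module.End ℂ (Fin m → ℂ)) :=
  ∑ a : A, (phi ρ (a : G)).smulRight (ρ (a : G))

theorem Q_apply (T : Module.End ℂ (Fin m → ℂ)) :
    Q ρ A T = ∑ a : A, LinearMap.trace ℂ (Fin m → ℂ) (T * ρ (a : G)⁻¹) • ρ (a : G) := by
  unfold Q
  rw [LinearMap.sum_apply]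
  rfl

/-- central elements multiply characters by their scalar -/
theorem char_scalar_mul {z : G} {c : ℂ}
    (hc : ρ z = c • (LinearMap.id : (Fin m → ℂ) →ₗ[ℂ] (Fin m → ℂ))) (y : G) :
    ρ.character (z * y) = c * ρ.character y := by
  unfold Representation.character
  rw [map_mul, hc]
  rw [show (LinearMap.id : (Fin m → ℂ) →ₗ[ℂ] (Fin m → ℂ)) = 1 from rfl, smul_mul_assoc, one_mul,
    map_smul, smul_eq_mul]

theorem central_term [hρ : ρ.IsIrreducible] {z : G} (hz : z ∈ Subgroup.center G) :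
    ρ.character z • ρ z⁻¹ = (m : ℂ) • (1 : Module.End ℂ (Fin m → ℂ)) := by
  obtain ⟨c, hc⟩ := Cfsg.Agent.Lib.Helper3_CharCenter.exists_scalar_of_mem_center ρ hz
  have h1 : ρ.character z = c * m := by
    have := char_scalar_mul ρ hc 1
    rw [mul_one, Representation.char_one, Module.finrank_fin_fun] at this
    exact this
  have h2 : c • ρ z⁻¹ = 1 := by
    have h3 : ρ z * ρ z⁻¹ = 1 := by rw [← map_mul, mul_inv_cancel, map_one]
    rw [hc, show (LinearMap.id : (Fin m → ℂ) →ₗ[ℂ] (Fin m → ℂ)) = 1 from rfl, smul_mul_assoc,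
      one_mul] at h3
    exact h3
  rw [h1, mul_comm, mul_smul, h2]

variable (hfaith : ∀ g : G, ρ.character g = ρ.character 1 → g = 1)
  (hcl2 : ∀ a ∈ A, ∀ b ∈ A, a * b * a⁻¹ * b⁻¹ ∈ Subgroup.center G)
  (hZ : ∀ a ∈ A, (∀ b ∈ A, a * b = b * a) → a ∈ Subgroup.center G)

include hfaith hcl2 hZ in
/-- `χ` vanishes on `A \ Z(G)`. -/
theorem vanish [hρ : ρ.IsIrreducible] {a : G} (ha : a ∈ A) (hac : a ∉ Subgroup.center G) :
    ρ.character a = 0 := by
  have h1 : ¬ ∀ b ∈ A, a * b = b * a := fun h => hac (hZ a ha h)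
  push Not at h1
  obtain ⟨b, hb, hab⟩ := h1
  apply char_eq_zero_of_comm_central ρ hfaith (x := a) (b := b) (hcl2 b hb a ha)
  intro h
  apply hab
  have h2 : b * a * b⁻¹ = a := by
    have := mul_inv_eq_one.mp h
    exact this
  calc a * b = b * a * b⁻¹ * b := by rw [h2]
    _ = b * a := by group

open scoped Classical in
/-- the number of central elements of `A` -/
noncomputable def n₀ : ℕ := (Finset.univ.filter (fun a : A => (a : G) ∈ Subgroup.center G)).card

include hfaith hcl2 hZ in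
open scoped Classical in
theorem E_eq [hρ : ρ.IsIrreducible] :
    ∑ a : A, ρ.character (a : G) • ρ (a : G)⁻¹ =
      ((n₀ A * m : ℕ) : ℂ) • (1 : Module.End ℂ (Fin m → ℂ)) := by
  have h1 : ∀ a : A, ρ.character (a : G) • ρ (a : G)⁻¹ =
      if (a : G) ∈ Subgroup.center G then (m : ℂ) • (1 : Module.End ℂ (Fin m → ℂ)) else 0 := by
    intro a
    split_ifs with h
    · exact central_term ρ h
    · rw [vanish ρ A hfaith hcl2 hZ a.2 h, zero_smul]
  rw [Finset.sum_congr rfl (fun a _ => h1 a), Finset.sum_ite, Finset.sum_const_zero, add_zero,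
    Finset.sum_const]
  unfold n₀
  rw [Nat.cast_mul, mul_smul]
  exact (Nat.cast_smul_eq_nsmul ℂ _ _).symm

include hfaith hcl2 hZ in
theorem Q_fix [hρ : ρ.IsIrreducible] {b : G} (hb : b ∈ A) :
    Q ρ A (ρ b) = ((n₀ A * m : ℕ) : ℂ) • ρ b := by
  rw [Q_apply]
  let e : A ≃ A := (Equiv.inv A).trans (Equiv.mulRight (⟨b, hb⟩ : A))
  have he : ∀ z : A, ((e z : A) : G) = (z : G)⁻¹ * b := fun z => rfl
  rw [← Fintype.sum_equiv e (fun z => LinearMap.trace ℂ (Fin m → ℂ) (ρ b * ρ ((e z : A) : G)⁻¹) •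
    ρ ((e z : A) : G)) _ (fun z => rfl)]
  have h1 : ∀ z : A, LinearMap.trace ℂ (Fin m → ℂ) (ρ b * ρ ((e z : A) : G)⁻¹) •
      ρ ((e z : A) : G) = (ρ.character (z : G) • ρ (z : G)⁻¹) * ρ b := by
    intro z
    rw [he z, ← map_mul, map_mul ρ (z : G)⁻¹ b, smul_mul_assoc]
    congr 1
    have : b * ((z : G)⁻¹ * b)⁻¹ = (z : G) := by group
    rw [this]
    rfl
  rw [Finset.sum_congr rfl (fun z _ => h1 z), ← Finset.sum_mul, E_eq ρ A hfaith hcl2 hZ,
    smul_mul_assoc, one_mul]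

include hfaith hcl2 hZ in
theorem Q_comp [hρ : ρ.IsIrreducible] :
    Q ρ A * Q ρ A = ((n₀ A * m : ℕ) : ℂ) • Q ρ A := by
  apply LinearMap.ext
  intro T
  rw [Module.End.mul_apply, LinearMap.smul_apply]
  conv_lhs => rw [Q_apply ρ A T]
  rw [map_sum]
  conv_rhs => rw [Q_apply ρ A T, Finset.smul_sum]
  apply Finset.sum_congr rfl
  intro a _
  rw [map_smul, Q_fix ρ A hfaith hcl2 hZ a.2, smul_comm]

theorem L_apply (g : G) (T : Module.End ℂ (Fin m → ℂ)) :
    (Representation.linHom ρ ρ) g T = ρ g * T * ρ g⁻¹ := rfl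

/-- `Q` commutes with the conjugation action. -/
theorem Q_comm [hA : A.Normal] (g : G) :
    (Representation.linHom ρ ρ) g ∘ₗ Q ρ A = Q ρ A ∘ₗ (Representation.linHom ρ ρ) g := by
  apply LinearMap.ext
  intro T
  rw [LinearMap.comp_apply, LinearMap.comp_apply, Q_apply, Q_apply, map_sum]
  let e : A ≃ A := (MulAut.conjNormal g : MulAut A).toEquiv
  have he : ∀ b : A, ((e b : A) : G) = g * b * g⁻¹ := fun b => MulAut.conjNormal_apply g b
  refine Eq.trans ?_ (Fintype.sum_equiv e (fun b => LinearMap.trace ℂ (Fin m → ℂ)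
    ((Representation.linHom ρ ρ) g T * ρ ((e b : A) : G)⁻¹) • ρ ((e b : A) : G))
    (fun a => LinearMap.trace ℂ (Fin m → ℂ)
    ((Representation.linHom ρ ρ) g T * ρ (a : G)⁻¹) • ρ (a : G)) (fun _ => rfl))
  apply Finset.sum_congr rfl
  intro b _
  rw [map_smul, he b]
  have h1 : (Representation.linHom ρ ρ) g (ρ b) = ρ (g * b * g⁻¹) := by
    rw [L_apply, map_mul, map_mul]
  have h2 : LinearMap.trace ℂ (Fin m → ℂ)
      ((Representation.linHom ρ ρ) g T * ρ (g * b * g⁻¹)⁻¹) =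
      LinearMap.trace ℂ (Fin m → ℂ) (T * ρ (b : G)⁻¹) := by
    have h3 : (Representation.linHom ρ ρ) g T * ρ (g * b * g⁻¹)⁻¹ =
        ρ g * ((T * ρ (b : G)⁻¹) * ρ g⁻¹) := by
      have h4 : (g * (b : G) * g⁻¹)⁻¹ = g * (b : G)⁻¹ * g⁻¹ := by group
      have h5 : ρ g⁻¹ * ρ g = 1 := by rw [← map_mul, inv_mul_cancel, map_one]
      rw [L_apply, h4, map_mul, map_mul]
      calc ρ g * T * ρ g⁻¹ * (ρ g * ρ (b : G)⁻¹ * ρ g⁻¹)
          = ρ g * T * (ρ g⁻¹ * ρ g) * ρ (b : G)⁻¹ * ρ g⁻¹ := by simp only [mul_assoc]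
        _ = ρ g * ((T * ρ (b : G)⁻¹) * ρ g⁻¹) := by rw [h5, mul_one]; simp only [mul_assoc]
    rw [h3, LinearMap.trace_mul_comm, mul_assoc, ← map_mul, inv_mul_cancel, map_one, mul_one]
  rw [h1, h2]

theorem trace_L_Q (g : G) :
    LinearMap.trace ℂ (Module.End ℂ (Fin m → ℂ)) ((Representation.linHom ρ ρ) g ∘ₗ Q ρ A) =
      ∑ a : A, ρ.character (g * a * g⁻¹ * (a : G)⁻¹) := by
  have h1 : (Representation.linHom ρ ρ) g ∘ₗ Q ρ A =
      ∑ a : A, (phi ρ (a : G)).smulRight ((Representation.linHom ρ ρ) g (ρ (a : G))) := by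
    apply LinearMap.ext
    intro T
    rw [LinearMap.comp_apply, Q_apply, map_sum, LinearMap.sum_apply]
    apply Finset.sum_congr rfl
    intro a _
    rw [map_smul]
    rfl
  rw [h1, map_sum]
  apply Finset.sum_congr rfl
  intro a _
  rw [LinearMap.trace_smulRight, phi_apply, L_apply]
  unfold Representation.character
  rw [map_mul ρ, map_mul ρ, map_mul ρ]

include hfaith hcl2 hZ in
open scoped Classical ComplexConjugate in
theorem exists_decomp [hρ : ρ.IsIrreducible] [hA : A.Normal] (hnc : ¬ A ≤ Subgroup.center G) :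
    ∃ Φ Ξ : G → ℂ, IsCharacter G Φ ∧ IsCharacter G Ξ ∧
      (∀ g, ρ.character g * conj (ρ.character g) = Φ g + Ξ g) ∧
      (∀ g, Φ g = ((n₀ A * m : ℕ) : ℂ)⁻¹ * ∑ a : A, ρ.character (g * a * g⁻¹ * (a : G)⁻¹)) ∧
      n₀ A ≠ 0 ∧ n₀ A ≠ Fintype.card A ∧ m ≠ 0 := by
  have hm : m ≠ 0 := (Cfsg.Agent.Lib.Helper80_CharBasic.irr_dim_pos ρ hρ).ne'
  have hn0 : n₀ A ≠ 0 := by
    unfold n₀
    rw [Finset.card_ne_zero]
    exact ⟨1, by simp [Subgroup.one_mem]⟩
  have hn1 : n₀ A ≠ Fintype.card A := by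
    intro h
    apply hnc
    intro a ha
    have h2 := Finset.filter_card_eq (s := (Finset.univ : Finset A))
      (p := fun a : A => (a : G) ∈ Subgroup.center G) (by rw [Finset.card_univ]; exact h)
      ⟨a, ha⟩ (Finset.mem_univ _)
    exact h2
  set c : ℂ := ((n₀ A * m : ℕ) : ℂ) with hcdef
  have hc : c ≠ 0 := by
    rw [hcdef]
    exact_mod_cast Nat.mul_ne_zero hn0 hm
  set L := Representation.linHom ρ ρ with hLdef
  set P : Module.End ℂ (Module.End ℂ (Fin m → ℂ)) := c⁻¹ • Q ρ A with hPdef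
  have hPP : P ∘ₗ P = P := by
    change P * P = P
    rw [hPdef, smul_mul_smul_comm, Q_comp ρ A hfaith hcl2 hZ, ← hcdef, smul_smul]
    congr 1
    field_simp
  have hPc : ∀ g, L g ∘ₗ P = P ∘ₗ L g := by
    intro g
    rw [hPdef, LinearMap.comp_smul, LinearMap.smul_comp, Q_comm ρ A g]
  have hPP' : ∀ T, P (P T) = P T := fun T => LinearMap.congr_fun hPP T
  have hPc'' : ∀ g T, L g (P T) = P (L g T) := fun g T => LinearMap.congr_fun (hPc g) T
  have hone : ∀ T, (1 - P) T = T - P T := fun T => rfl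
  have hP' : (1 - P) ∘ₗ (1 - P) = 1 - P := by
    apply LinearMap.ext
    intro T
    rw [LinearMap.comp_apply, hone, hone, map_sub, hPP', sub_self, sub_zero]
  have hPc' : ∀ g, L g ∘ₗ (1 - P) = (1 - P) ∘ₗ L g := by
    intro g
    apply LinearMap.ext
    intro T
    rw [LinearMap.comp_apply, LinearMap.comp_apply, hone, hone, map_sub, hPc'']
  refine ⟨fun g => LinearMap.trace ℂ _ (L g ∘ₗ P), fun g => LinearMap.trace ℂ _ (L g ∘ₗ (1 - P)),
    isCharacter_trace_proj L P hPP hPc, isCharacter_trace_proj L (1 - P) hP' hPc', ?_, ?_,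
    hn0, hn1, hm⟩
  · intro g
    change _ = LinearMap.trace ℂ _ (L g ∘ₗ P) + LinearMap.trace ℂ _ (L g ∘ₗ (1 - P))
    rw [← map_add]
    have h2 : L g ∘ₗ P + L g ∘ₗ (1 - P) = L g := by
      apply LinearMap.ext
      intro T
      rw [LinearMap.add_apply, LinearMap.comp_apply, LinearMap.comp_apply, hone, map_sub]
      abel
    rw [h2]
    have h3 := Representation.char_linHom ρ ρ g
    unfold Representation.character at h3
    rw [h3]
    have h4 := Cfsg.Agent.Lib.Helper3_CharEigen.char_inv ρ g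
    unfold Representation.character at h4
    unfold Representation.character
    rw [h4, mul_comm]
  · intro g
    change LinearMap.trace ℂ _ (L g ∘ₗ (c⁻¹ • Q ρ A)) = _
    rw [LinearMap.comp_smul, map_smul, smul_eq_mul, trace_L_Q]

end Cfsg.Agent.Lib.Helper80_GalProdD
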