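import Mathlib
import Cfsg.Prelude.Def_Characters
import Cfsg.Agent.Lib.Helper80_GalProdB
import Cfsg.Agent.Lib.Helper80_GalProdD

/-!
# Products of Galois conjugate characters: nilpotent normal subgroups are central (helper80)

If `ρ` is a faithful irreducible representation with character `χ`, `k` is prime to `|G|` and
`g ↦ χ g * χ (g ^ k)` is irreducible, then every nilpotent normal subgroup of `G` is central.
-/

set_option autoImplicit false
set_option linter.unusedSectionVars false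

namespace Cfsg.Agent.Lib.Helper80_GalProdE

open Cfsg
open Cfsg.Agent.Lib.Helper80_GalProdA Cfsg.Agent.Lib.Helper80_GalProdB
  Cfsg.Agent.Lib.Helper80_GalProdC Cfsg.Agent.Lib.Helper80_GalProdD
  Cfsg.Agent.Lib.Helper3_CharOrtho

universe u

variable {G : Type u} [Group G] [Fintype G]

/-- A predicate stable under a coprime power map is invariant under it. -/
theorem pred_pow_iff {P : G → Prop} {k : ℕ} (hk : k.Coprime (Nat.card G))
    (h : ∀ g, P g → P (g ^ k)) (g : G) : P (g ^ k) ↔ P g := by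
  classical
  refine ⟨fun hg => ?_, h g⟩
  let σ : Equiv.Perm G := powCoprime hk.symm
  have hσ : ∀ x, σ x = x ^ k := fun x => rfl
  have hiter : ∀ j : ℕ, ∀ x, P x → P ((σ ^ j) x) := by
    intro j
    induction j with
    | zero => intro x hx; simpa using hx
    | succ j ih =>
      intro x hx
      rw [pow_succ', Equiv.Perm.mul_apply, hσ]
      exact h _ (ih x hx)
  have hn : 0 < orderOf σ := orderOf_pos σ
  have h1 := hiter (orderOf σ - 1) (g ^ k) hg
  have h2 : (σ ^ (orderOf σ - 1)) (g ^ k) = g := by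
    rw [← hσ g, ← Equiv.Perm.mul_apply, ← pow_succ, Nat.sub_add_cancel hn, pow_orderOf_eq_one]
    rfl
  rwa [h2] at h1

variable {m : ℕ} (ρ : Representation ℂ G (Fin m → ℂ)) (A : Subgroup G) [Fintype A]

/-- `g` has a nontrivial central commutator with an element of `A`. -/
def Bad (g : G) : Prop :=
  ∃ b ∈ A, g * b * g⁻¹ * b⁻¹ ∈ Subgroup.center G ∧ g * b * g⁻¹ * b⁻¹ ≠ 1

theorem bad_pow {k : ℕ} (hk : k.Coprime (Nat.card G)) (g : G) (hg : Bad A g) : Bad A (g ^ k) := by
  obtain ⟨b, hb, hz, hne⟩ := hg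
  set z := g * b * g⁻¹ * b⁻¹ with hzdef
  have hgb : g * b * g⁻¹ = z * b := by rw [hzdef]; group
  have key : ∀ j : ℕ, g ^ j * b * (g ^ j)⁻¹ = z ^ j * b := by
    intro j
    induction j with
    | zero => simp
    | succ j ih =>
      have h1 : g ^ (j + 1) * b * (g ^ (j + 1))⁻¹ = g * (g ^ j * b * (g ^ j)⁻¹) * g⁻¹ := by
        rw [pow_succ']; group
      have h2 : g * z ^ j = z ^ j * g := Subgroup.mem_center_iff.mp (pow_mem hz j) g
      rw [h1, ih, ← mul_assoc, h2, mul_assoc (z ^ j), mul_assoc (z ^ j), hgb, ← mul_assoc,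
        ← pow_succ]
  have h3 : g ^ k * b * (g ^ k)⁻¹ * b⁻¹ = z ^ k := by
    rw [key k, mul_assoc, mul_inv_cancel, mul_one]
  refine ⟨b, hb, ?_, ?_⟩
  · rw [h3]; exact pow_mem hz k
  · rw [h3]
    intro h
    apply hne
    have h4 : (powCoprime hk.symm) z = (powCoprime hk.symm) 1 := by
      change z ^ k = 1 ^ k
      rw [h, one_pow]
    exact (powCoprime hk.symm).injective h4

variable (hfaith : ∀ g : G, ρ.character g = ρ.character 1 → g = 1)
  (hcl2 : ∀ a ∈ A, ∀ b ∈ A, a * b * a⁻¹ * b⁻¹ ∈ Subgroup.center G)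
  (hZ : ∀ a ∈ A, (∀ b ∈ A, a * b = b * a) → a ∈ Subgroup.center G)

include hfaith in
theorem S_bad [hρ : ρ.IsIrreducible] {g : G} (hbad : Bad A g) :
    ∑ a : A, ρ.character (g * a * g⁻¹ * (a : G)⁻¹) = 0 := by
  obtain ⟨b, hb, hz, hne⟩ := hbad
  obtain ⟨c, hc⟩ := Cfsg.Agent.Lib.Helper3_CharCenter.exists_scalar_of_mem_center ρ hz
  have hc1 : c ≠ 1 := by
    intro h
    apply hne
    apply hfaith
    apply char_eq_of_id
    rw [hc, h, one_smul]
  set S := ∑ a : A, ρ.character (g * a * g⁻¹ * (a : G)⁻¹) with hS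
  have h1 : S = c * S := by
    conv_lhs => rw [hS]
    rw [← Fintype.sum_equiv (Equiv.mulLeft (⟨b, hb⟩ : A))
      (fun a : A => ρ.character (g * ((⟨b, hb⟩ * a : A) : G) * g⁻¹ * ((⟨b, hb⟩ * a : A) : G)⁻¹))
      (fun a : A => ρ.character (g * a * g⁻¹ * (a : G)⁻¹)) (fun _ => rfl)]
    rw [hS, Finset.mul_sum]
    apply Finset.sum_congr rfl
    intro a _
    have h2 : g * ((⟨b, hb⟩ * a : A) : G) * g⁻¹ * ((⟨b, hb⟩ * a : A) : G)⁻¹ =
        (g * b * g⁻¹ * b⁻¹) * (b * (g * a * g⁻¹ * (a : G)⁻¹) * b⁻¹) := by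
      change g * (b * (a : G)) * g⁻¹ * (b * (a : G))⁻¹ = _
      group
    rw [h2, char_scalar_mul ρ hc, Representation.char_conj]
  have h4 : (c - 1) * S = 0 := by
    rw [sub_mul, ← h1, one_mul, sub_self]
  rcases mul_eq_zero.mp h4 with h | h
  · exact absurd (sub_eq_zero.mp h) hc1
  · exact h

include hfaith hcl2 hZ in
open scoped Classical in
theorem S_good [hρ : ρ.IsIrreducible] [hA : A.Normal] {g : G} (hgood : ¬ Bad A g) :
    ∑ a : A, ρ.character (g * a * g⁻¹ * (a : G)⁻¹) =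
      (m : ℂ) * ((Finset.univ.filter (fun a : A => g * (a : G) = (a : G) * g)).card : ℂ) := by
  have h1 : ∀ a : A, ρ.character (g * a * g⁻¹ * (a : G)⁻¹) =
      if g * (a : G) = (a : G) * g then (m : ℂ) else 0 := by
    intro a
    split_ifs with h
    · have h2 : g * a * g⁻¹ * (a : G)⁻¹ = 1 := by rw [h]; group
      rw [h2, Representation.char_one, Module.finrank_fin_fun]
    · have hX : g * a * g⁻¹ * (a : G)⁻¹ ∈ A :=
        A.mul_mem (hA.conj_mem a a.2 g) (A.inv_mem a.2)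
      apply vanish ρ A hfaith hcl2 hZ hX
      intro hc
      apply h
      have h3 : g * a * g⁻¹ * (a : G)⁻¹ = 1 := by
        by_contra hne
        exact hgood ⟨a, a.2, hc, hne⟩
      have h4 : g * a * g⁻¹ = a := by
        have := mul_inv_eq_one.mp h3
        exact this
      calc g * (a : G) = g * a * g⁻¹ * g := by group
        _ = a * g := by rw [h4]
  rw [Finset.sum_congr rfl (fun a _ => h1 a), Finset.sum_ite, Finset.sum_const_zero, add_zero,
    Finset.sum_const, nsmul_eq_mul, mul_comm]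

include hfaith hcl2 hZ in
theorem S_pow [hρ : ρ.IsIrreducible] [hA : A.Normal] {k : ℕ} (hk : k.Coprime (Nat.card G))
    (g : G) :
    ∑ a : A, ρ.character (g ^ k * a * (g ^ k)⁻¹ * (a : G)⁻¹) =
      ∑ a : A, ρ.character (g * a * g⁻¹ * (a : G)⁻¹) := by
  classical
  by_cases hb : Bad A g
  · rw [S_bad ρ A hfaith hb, S_bad ρ A hfaith (bad_pow A hk g hb)]
  · have hb' : ¬ Bad A (g ^ k) := fun h => hb ((pred_pow_iff hk (bad_pow A hk) g).mp h)
    rw [S_good ρ A hfaith hcl2 hZ hb, S_good ρ A hfaith hcl2 hZ hb']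
    congr 3
    apply Finset.filter_congr
    intro a _
    have h1 : ∀ x : G, x * (a : G) = (a : G) * x → x ^ k * (a : G) = (a : G) * x ^ k := by
      intro x hx
      exact (Commute.pow_left hx k)
    exact pred_pow_iff hk h1 g

include hfaith hcl2 hZ in
theorem class2_false [hρ : ρ.IsIrreducible] [hA : A.Normal] (hnc : ¬ A ≤ Subgroup.center G)
    {k : ℕ} (hk : k.Coprime (Nat.card G))
    (hirr : IsIrrCharacter G (fun g => ρ.character g * ρ.character (g ^ k))) : False := by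
  obtain ⟨Φ, Ξ, hΦ, hΞ, hsum, hform, hn0, hn1, hm⟩ := exists_decomp ρ A hfaith hcl2 hZ hnc
  have hχ : IsIrrCharacter G ρ.character := ⟨m, ρ, hρ, rfl⟩
  have hrat : ∀ g, Φ (g ^ k) = Φ g := by
    intro g
    rw [hform, hform, S_pow ρ A hfaith hcl2 hZ hk g]
  have hΦ1 : Φ 1 = (Fintype.card A : ℂ) / (n₀ A : ℂ) := by
    rw [hform]
    have h1 : ∀ a : A, ρ.character (1 * (a : G) * 1⁻¹ * (a : G)⁻¹) = (m : ℂ) := by
      intro a
      have : (1 : G) * (a : G) * 1⁻¹ * (a : G)⁻¹ = 1 := by group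
      rw [this, Representation.char_one, Module.finrank_fin_fun]
    rw [Finset.sum_congr rfl (fun a _ => h1 a), Finset.sum_const, Finset.card_univ, nsmul_eq_mul]
    have hm' : (m : ℂ) ≠ 0 := by exact_mod_cast hm
    have hn0' : (n₀ A : ℂ) ≠ 0 := by exact_mod_cast hn0
    push_cast
    field_simp
  have hn0' : (n₀ A : ℂ) ≠ 0 := by exact_mod_cast hn0
  have h0 : Φ 1 ≠ 0 := by
    rw [hΦ1]
    apply div_ne_zero _ hn0'
    exact_mod_cast Fintype.card_ne_zero
  have h1 : Φ 1 ≠ 1 := by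
    rw [hΦ1]
    intro h
    rw [div_eq_one_iff_eq hn0'] at h
    apply hn1
    exact_mod_cast h.symm
  exact key_ineq hχ hk hΦ hΞ hsum hrat h0 h1 (classInner_self_of_isIrrCharacter hirr)

end Cfsg.Agent.Lib.Helper80_GalProdE
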