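import Mathlib
import Cfsg.Agent.Lib.Helper32_OFDefs
import Cfsg.Agent.Lib.Helper32_OFRoot
import Cfsg.Agent.Lib.Helper31_OF_API
import Cfsg.Agent.Lib.Helper94_OrthVec
import Cfsg.Agent.Lib.Helper94_OrthNondeg
import Cfsg.Agent.Lib.Helper80_GrowDefs
import Cfsg.Agent.Lib.Helper99_GROW_SGN
import Cfsg.Agent.Lib.Helper65_GROW_C2
import Cfsg.Agent.Lib.Helper60_GROW_SPAN
import Cfsg.Agent.Lib.Helper24_GROW_SGV
import Cfsg.Agent.Lib.Helper47_GROW_ENDIN
import Cfsg.Agent.Lib.Helper37_GROW_END
import Cfsg.Agent.Lib.Helper86_GROW_LR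

set_option autoImplicit false
set_option linter.unusedSimpArgs false
set_option linter.unusedVariables false
set_option linter.unusedSectionVars false

/-!
GROW, assembly for fields of prime order `≠ 3` (rows S5679, S5696, case (A)).
-/

namespace Cfsg.Agent.Lib.Helper80_GrowA5

open Module Cfsg.Agent.Lib.Helper94_Symp Cfsg.Agent.Lib.Helper94_OrthSmall
  Cfsg.Agent.Lib.Helper94_OrthSiegel Cfsg.Agent.Lib.Helper94_OrthSiegel2
  Cfsg.Agent.Lib.Helper94_OrthNondeg Cfsg.Agent.Lib.Helper94_OrthVec
  Cfsg.Agent.Lib.Helper32_OFDefs Cfsg.Agent.Lib.Helper32_OFRoot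
  Cfsg.Agent.Lib.Helper80_GrowDefs
open Cfsg.Agent.Lib.Helper99_GROW_SGN (inZ_frame_of_mem)
open Cfsg.Agent.Lib.Helper65_GROW_C2 (c2)
open Cfsg.Agent.Lib.Helper60_GROW_SPAN (inZ_of_span)
open Cfsg.Agent.Lib.Helper24_GROW_SGV (sgOn_of_full)
open Cfsg.Agent.Lib.Helper47_GROW_ENDIN (endin)
open Cfsg.Agent.Lib.Helper37_GROW_END (grow_end)
open Cfsg.Agent.Lib.Helper86_GROW_LR (oc_of_long)

variable {F V : Type*} [Field F] [AddCommGroup V] [Module F V]
variable {Q : V → F} {B : LinearMap.BilinForm F V}
variable {ι : Type*} [Fintype ι] [DecidableEq ι] {c : F} {e : ι → V}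
variable {L : Subgroup (V ≃ₗ[F] V)}

/-- a nonzero vector has a nonzero coordinate -/
lemma exists_coord (hfr : OFr Q B c e) {u : V} (hu0 : u ≠ 0) : ∃ i, B u (e i) ≠ 0 := by
  by_contra hcon
  push Not at hcon
  apply hu0
  apply hfr.ext
  intro i
  rw [hcon i, map_zero, LinearMap.zero_apply]

lemma co_ne (hfr : OFr Q B c e) {u : V} {i : ι} (h : B u (e i) ≠ 0) : co B c e u i ≠ 0 := by
  unfold co
  exact mul_ne_zero (inv_ne_zero hfr.two_c) h

lemma co_eq_zero (hfr : OFr Q B c e) {u : V} {i : ι} (h : B u (e i) = 0) : co B c e u i = 0 := by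
  unfold co
  rw [h, mul_zero]

/-- in a field of prime order different from three, `3 ≠ 0` -/
lemma three_ne_zero_of_card [Finite F] (hp : (Nat.card F).Prime) (h3 : Nat.card F ≠ 3) :
    (3 : F) ≠ 0 := by
  classical
  haveI := Fintype.ofFinite F
  intro h
  obtain ⟨p, hchar⟩ := CharP.exists F
  haveI := hchar
  have h1 : ((3 : ℕ) : F) = 0 := by exact_mod_cast h
  have h2 : p ∣ 3 := (CharP.cast_eq_zero_iff F p 3).mp h1
  have hpp : p.Prime := by
    rcases CharP.char_is_prime_or_zero F p with h | h
    · exact h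
    · exfalso
      haveI : CharP F 0 := h ▸ hchar
      haveI := CharP.charP_to_charZero F
      exact not_finite F
  have h3' : p = 3 := (Nat.prime_dvd_prime_iff_eq hpp Nat.prime_three).mp h2
  have hcard : Nat.card F = Fintype.card F := Nat.card_eq_fintype_card
  obtain ⟨n, hn⟩ := FiniteField.card F p
  have h4 : Nat.card F = p ^ (n : ℕ) := by rw [hcard, hn.2]
  have h5 : p ∣ Nat.card F := by
    rw [h4]; exact dvd_pow_self p n.ne_zero
  have h6 : p = Nat.card F := (Nat.prime_dvd_prime_iff_eq hpp hp).mp h5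
  exact h3 (h6 ▸ h3')

/-- a good parameter `t` for GROW-C2 -/
lemma exists_t [Finite F] (hp : (Nat.card F).Prime) (h3 : Nat.card F ≠ 3) (h2 : (2 : F) ≠ 0)
    (a : F) : ∃ t : F, t ≠ 0 ∧ a * t ^ 2 ≠ 1 := by
  by_cases h : a * 1 ^ 2 = 1
  · refine ⟨2, h2, ?_⟩
    have ha : a = 1 := by simpa using h
    rw [ha]
    intro h4
    have : (3 : F) = 0 := by linear_combination h4
    exact three_ne_zero_of_card hp h3 this
  · exact ⟨1, one_ne_zero, h⟩

/-- the main step: from a Siegel element with anisotropic second parameter -/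
theorem grow5_short (hC : GCtx Q B c e L) (hn : 7 ≤ Fintype.card ι) (h5 : Nat.card F ≠ 3)
    {u z : V} (hu : Q u = 0) (hu0 : u ≠ 0) (hz : InZ Q B L u z) (hq : Q z ≠ 0) :
    ∀ u z, Q u = 0 → B u z = 0 → sieg Q B u z ∈ L := by
  classical
  have hfr := hC.fr
  have hQs := hfr.hQs
  have hQp := hfr.hQp
  haveI : Finite F := Nat.finite_of_card_ne_zero hC.hp.ne_zero
  have huz : B u z = 0 := hz.1
  have hsz : sieg Q B u z ∈ L := by
    have := hz.2 1
    rwa [one_smul] at this
  -- outside coordinates
  have hK : ∀ k, B u (e k) = 0 → B z (e k) ≠ 0 → InZ Q B L u (e k) := fun k h1 h2 =>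
    inZ_frame_of_mem hC hu huz hsz h1 h2
  -- the key lemma
  have hC2 : ∀ i j, i ≠ j → B u (e i) ≠ 0 → B u (e j) ≠ 0 →
      InZ Q B L u (co B c e u j • e i - co B c e u i • e j) := by
    intro i j hij hi hj
    obtain ⟨t, ht, hk⟩ := exists_t hC.hp h5 hfr.h2 (4 * c * Q z * (co B c e u i) ^ 2)
    exact c2 hC hu hz hq hij hi hj ht hk
  set S : Finset ι := Finset.univ.filter (fun i => B u (e i) ≠ 0 ∨ B z (e i) ≠ 0) with hS
  have hJS : ∀ i, B u (e i) ≠ 0 → i ∈ S := fun i hi => by
    rw [hS, Finset.mem_filter]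
    exact ⟨Finset.mem_univ i, Or.inl hi⟩
  have hspan := inZ_of_span hC hu S hJS hC2 (fun k hk hk0 => by
    rw [hS, Finset.mem_filter] at hk
    rcases hk.2 with h | h
    · exact absurd hk0 h
    · exact hK k hk0 h)
  have hsg : SgOn Q B L (VS B e S) := sgOn_of_full hC hu hu0 S hJS (fun y hy huy => by
    have := (hspan y hy huy).2 1
    rwa [one_smul] at this)
  -- the size of `S`
  have hcard : 3 ≤ S.card := by
    by_contra hlt
    push Not at hlt
    obtain ⟨i, hi⟩ := exists_coord hfr hu0
    -- a second coordinate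
    obtain ⟨j, hji, hj⟩ : ∃ j, j ≠ i ∧ B u (e j) ≠ 0 := by
      by_contra hcon
      push Not at hcon
      have h1 := hfr.Q_eq u
      rw [Finset.sum_eq_single i] at h1
      · rw [hu] at h1
        have h2 := co_ne hfr hi
        have : c * (co B c e u i * co B c e u i) ≠ 0 :=
          mul_ne_zero hfr.c0 (mul_ne_zero h2 h2)
        exact this h1.symm
      · intro l _ hli
        rw [co_eq_zero hfr (hcon l hli), mul_zero]
      · intro h
        exact absurd (Finset.mem_univ i) h
    -- no third index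
    have hSij : ∀ l, l ≠ i → l ≠ j → B u (e l) = 0 ∧ B z (e l) = 0 := by
      intro l hli hlj
      by_contra hcon
      have hl : l ∈ S := by
        rw [hS, Finset.mem_filter]
        refine ⟨Finset.mem_univ l, ?_⟩
        by_contra h
        push Not at h
        exact hcon h
      have hsub : ({i, j, l} : Finset ι) ⊆ S := by
        intro x hx
        simp only [Finset.mem_insert, Finset.mem_singleton] at hx
        rcases hx with rfl | rfl | rfl
        · exact hJS _ hi
        · exact hJS _ hj
        · exact hl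
      have h3 : ({i, j, l} : Finset ι).card = 3 := by
        rw [Finset.card_insert_of_notMem, Finset.card_insert_of_notMem,
          Finset.card_singleton]
        · simp only [Finset.mem_singleton]
          exact fun h => hlj h.symm
        · simp only [Finset.mem_insert, Finset.mem_singleton]
          rintro (h | h)
          · exact hji h.symm
          · exact hli h.symm
      have := Finset.card_le_card hsub
      omega
    -- coordinates
    have sum2 : ∀ f : ι → F, (∀ l, l ≠ i → l ≠ j → f l = 0) → ∑ l, f l = f i + f j := by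
      intro f hf
      exact Finset.sum_eq_add i j (Ne.symm hji) (fun l _ hl => hf l hl.1 hl.2)
        (fun h => absurd (Finset.mem_univ i) h) (fun h => absurd (Finset.mem_univ j) h)
    have hQu := hfr.Q_eq u
    rw [sum2 _ (fun l hli hlj => by rw [co_eq_zero hfr (hSij l hli hlj).1, mul_zero]), hu] at hQu
    have hQz := hfr.Q_eq z
    rw [sum2 _ (fun l hli hlj => by rw [co_eq_zero hfr (hSij l hli hlj).2, mul_zero])] at hQz
    have hBuz := hfr.B_eq u z
    rw [sum2 _ (fun l hli hlj => by rw [co_eq_zero hfr (hSij l hli hlj).1, zero_mul]), huz]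
      at hBuz
    set ui := co B c e u i
    set uj := co B c e u j
    set zi := co B c e z i
    set zj := co B c e z j
    have huj : uj ≠ 0 := co_ne hfr hj
    have e1 : ui * ui + uj * uj = 0 := by
      rcases mul_eq_zero.mp hQu.symm with h | h
      · exact absurd h hfr.c0
      · exact h
    have e2 : ui * zi + uj * zj = 0 := by
      rcases mul_eq_zero.mp hBuz.symm with h | h
      · exact absurd h hfr.two_c
      · exact h
    have e3 : uj * uj * (zi * zi + zj * zj) = 0 := by
      have h1 : ui * zi = -(uj * zj) := by linear_combination e2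
      have h2 : ui * ui = -(uj * uj) := by linear_combination e1
      have h3 : (ui * zi) * (ui * zi) = (uj * zj) * (uj * zj) := by rw [h1]; ring
      have h4 : (ui * ui) * (zi * zi) = (uj * uj) * (zj * zj) := by linear_combination h3
      rw [h2] at h4
      linear_combination -h4
    have e4 : zi * zi + zj * zj = 0 := by
      rcases mul_eq_zero.mp e3 with h | h
      · exact absurd h (mul_ne_zero huj huj)
      · exact h
    apply hq
    rw [hQz, e4, mul_zero]
  obtain ⟨w, k, k', k'', hw, hw0, hwk, hin, h1, h2, h3, h4, h5'⟩ :=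
    endin hC hn S hcard hsg (fun _ => h5)
  exact grow_end hC hw hw0 hwk hin h1 h2 h3 h4 h5'

theorem grow5 (hC : GCtx Q B c e L) (hn : 7 ≤ Fintype.card ι) (h5 : Nat.card F ≠ 3) {u z : V}
    (hu : Q u = 0) (huz : B u z = 0) (h : sieg Q B u z ∈ L) (hne : sieg Q B u z ≠ 1) :
    ∀ u z, Q u = 0 → B u z = 0 → sieg Q B u z ∈ L := by
  classical
  have hfr := hC.fr
  have hQs := hfr.hQs
  have hQp := hfr.hQp
  haveI : Finite F := Nat.finite_of_card_ne_zero hC.hp.ne_zero
  have hu0 : u ≠ 0 := by
    rintro rfl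
    exact hne (sieg_zero_left Q B hQs hQp z)
  by_cases hq : Q z = 0
  · -- a long root element
    obtain ⟨k, hk⟩ := exists_coord hfr hu0
    have hin := oc_of_long hC hu hq huz h k
    set w := B z (e k) • u - B u (e k) • z with hw
    have hw0 : w ≠ 0 := by
      intro h0
      apply hne
      have h1 : z = ((B u (e k))⁻¹ * B z (e k)) • u := by
        have h2 : B u (e k) • z = B z (e k) • u := by
          rw [hw] at h0
          exact (sub_eq_zero.mp h0).symm
        rw [mul_smul, ← h2, smul_smul, inv_mul_cancel₀ hk, one_smul]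
      have h3 := sieg_add_smul Q B hQs hQp hu (z := 0) (by simp) ((B u (e k))⁻¹ * B z (e k))
      rw [zero_add] at h3
      rw [h1, h3]
      exact sieg_zero_right Q B hQs hQp hu
    have hQw : Q w = 0 := by
      have h1 : w = B z (e k) • u + (-(B u (e k))) • z := by rw [hw]; module
      rw [h1, Q_add_smul Q B hQs hQp, hQs, hu, hq, map_smul, LinearMap.smul_apply, huz]
      simp
    have hQe : Q (e k) ≠ 0 := by rw [hfr.Qe]; exact hfr.c0
    exact grow5_short hC hn h5 hQw hw0 hin hQe
  · exact grow5_short hC hn h5 hu hu0 (inZ_of_mem hQs hQp hC.hp hu huz h) hq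

end Cfsg.Agent.Lib.Helper80_GrowA5
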