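import Mathlib
import Cfsg.Agent.Lib.Helper32_OFDefs
import Cfsg.Agent.Lib.Helper32_OFRoot
import Cfsg.Agent.Lib.Helper31_OF_API
import Cfsg.Agent.Lib.Helper94_OrthVec
import Cfsg.Agent.Lib.Helper94_OrthNondeg
import Cfsg.Agent.Lib.Helper80_GrowDefs
import Cfsg.Agent.Lib.Helper80_GrowA5
import Cfsg.Agent.Lib.Helper52_GROW_OC3
import Cfsg.Agent.Lib.Helper44_GROW_G2
import Cfsg.Agent.Lib.Helper60_GROW_MON3
import Cfsg.Agent.Lib.Helper80_GrowA5

set_option autoImplicit false
set_option linter.unusedSimpArgs false
set_option linter.unusedVariables false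
set_option linter.unusedSectionVars false

/-!
GROW, assembly for the field with three elements (rows S5679, S5696, case (A)), and the final
theorem.
-/

namespace Cfsg.Agent.Lib.Helper80_GrowA3

open Module Cfsg.Agent.Lib.Helper94_Symp Cfsg.Agent.Lib.Helper94_OrthSmall
  Cfsg.Agent.Lib.Helper94_OrthSiegel Cfsg.Agent.Lib.Helper94_OrthSiegel2
  Cfsg.Agent.Lib.Helper94_OrthNondeg Cfsg.Agent.Lib.Helper94_OrthVec
  Cfsg.Agent.Lib.Helper32_OFDefs Cfsg.Agent.Lib.Helper32_OFRoot
  Cfsg.Agent.Lib.Helper80_GrowDefs Cfsg.Agent.Lib.Helper80_GrowA5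
open Cfsg.Agent.Lib.Helper80_GrowA5 (grow5)
open Cfsg.Agent.Lib.Helper99_GROW_SGN (inZ_frame_of_mem)
open Cfsg.Agent.Lib.Helper86_GROW_LR (oc_of_long)
open Cfsg.Agent.Lib.Helper65_GROW_C2 (c2)
open Cfsg.Agent.Lib.Helper60_GROW_SPAN (inZ_of_span)
open Cfsg.Agent.Lib.Helper24_GROW_SGV (sgOn_of_full)
open Cfsg.Agent.Lib.Helper47_GROW_ENDIN (endin)
open Cfsg.Agent.Lib.Helper37_GROW_END (grow_end)
open Cfsg.Agent.Lib.Helper52_GROW_OC3 (oc3)
open Cfsg.Agent.Lib.Helper44_GROW_G2 (g2)
open Cfsg.Agent.Lib.Helper60_GROW_MON3 (mon3)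

variable {F V : Type*} [Field F] [AddCommGroup V] [Module F V]
variable {Q : V → F} {B : LinearMap.BilinForm F V}
variable {ι : Type*} [Fintype ι] [DecidableEq ι] {c : F} {e : ι → V}
variable {L : Subgroup (V ≃ₗ[F] V)}

/-- the elements of the field with three elements -/
lemma f3_cases [Finite F] (h3 : Nat.card F = 3) (h2 : (2 : F) ≠ 0) (x : F) :
    x = 0 ∨ x = 1 ∨ x = -1 := by
  classical
  haveI := Fintype.ofFinite F
  have hcard : Fintype.card F = 3 := by rw [← Nat.card_eq_fintype_card]; exact h3
  have h01 : (0 : F) ≠ 1 := zero_ne_one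
  have h0m : (0 : F) ≠ -1 := by
    intro h
    have : (1 : F) = 0 := by linear_combination h
    exact one_ne_zero this
  have h1m : (1 : F) ≠ -1 := by
    intro h
    have : (2 : F) = 0 := by linear_combination h
    exact h2 this
  have hc : ({0, 1, -1} : Finset F).card = 3 := by
    rw [Finset.card_insert_of_notMem, Finset.card_insert_of_notMem, Finset.card_singleton]
    · simpa using h1m
    · simp only [Finset.mem_insert, Finset.mem_singleton]
      rintro (h | h)
      · exact h01 h
      · exact h0m h
  have huniv : ({0, 1, -1} : Finset F) = Finset.univ := by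
    apply Finset.eq_univ_of_card
    rw [hc, hcard]
  have hx : x ∈ ({0, 1, -1} : Finset F) := by rw [huniv]; exact Finset.mem_univ x
  simpa using hx

lemma f3_sq [Finite F] (h3 : Nat.card F = 3) (h2 : (2 : F) ≠ 0) {x : F} (hx : x ≠ 0) :
    x * x = 1 := by
  rcases f3_cases h3 h2 x with h | h | h
  · exact absurd h hx
  · rw [h]; ring
  · rw [h]; ring

lemma f3_three [Finite F] (h3 : Nat.card F = 3) : (3 : F) = 0 := by
  classical
  haveI := Fintype.ofFinite F
  have hcard : Fintype.card F = 3 := by rw [← Nat.card_eq_fintype_card]; exact h3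
  have := Nat.cast_card_eq_zero F
  rw [hcard] at this
  exact_mod_cast this

/-- a space with a frame is finite-dimensional -/
lemma finDim (hfr : OFr Q B c e) : Module.Finite F V := by
  classical
  refine ⟨⟨Finset.univ.image e, ?_⟩⟩
  rw [eq_top_iff]
  intro v _
  rw [hfr.exp v]
  exact Submodule.sum_mem _ fun i _ =>
    Submodule.smul_mem _ _ (Submodule.subset_span (by simp))

/-- multiples of the centre lie in the root group trivially -/
lemma inZ_smul_self (hQs : ∀ (a : F) (v : V), Q (a • v) = a * a * Q v)
    (hQp : ∀ u v : V, Q (u + v) = Q u + Q v + B u v) {u : V} (hu : Q u = 0) (a : F) :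
    InZ Q B L u (a • u) := by
  have huu : B u u = 0 := by rw [B_self Q B hQs hQp, hu, mul_zero]
  refine ⟨by rw [map_smul, huu, smul_zero], fun t => ?_⟩
  have h3 := sieg_add_smul Q B hQs hQp hu (z := 0) (by simp) (t * a)
  rw [zero_add] at h3
  rw [smul_smul, h3, sieg_zero_right Q B hQs hQp hu]
  exact L.one_mem

theorem grow3' (hC : GCtx Q B c e L) (hn : 7 ≤ Fintype.card ι) (h3 : Nat.card F = 3) {u z : V}
    (hu : Q u = 0) (huz : B u z = 0) (h : sieg Q B u z ∈ L) (hne : ¬ IsMon e (sieg Q B u z)) :
    ∀ u z, Q u = 0 → B u z = 0 → sieg Q B u z ∈ L := by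
  classical
  have hfr := hC.fr
  have hQs := hfr.hQs
  have hQp := hfr.hQp
  have hsymm := hfr.symm
  haveI : Finite F := Nat.finite_of_card_ne_zero hC.hp.ne_zero
  haveI : Module.Finite F V := finDim hfr
  have h2 := hfr.h2
  have hne1 : sieg Q B u z ≠ 1 := by
    intro h1
    apply hne
    rw [h1]
    exact IsMon.one
  have hu0 : u ≠ 0 := by
    rintro rfl
    exact hne1 (sieg_zero_left Q B hQs hQp z)
  have h30 : (3 : F) = 0 := f3_three h3
  have hcc : c * c = 1 := f3_sq h3 h2 hfr.c0
  by_cases hq : Q z = 0
  · -- a long root element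
    obtain ⟨k, hk⟩ := exists_coord hfr hu0
    have hin := oc_of_long hC hu hq huz h k
    set w := B z (e k) • u - B u (e k) • z with hw
    have hw0 : w ≠ 0 := by
      intro h0
      apply hne1
      have h1 : z = ((B u (e k))⁻¹ * B z (e k)) • u := by
        have h2 : B u (e k) • z = B z (e k) • u := by
          rw [hw] at h0
          exact (sub_eq_zero.mp h0).symm
        rw [mul_smul, ← h2, smul_smul, inv_mul_cancel₀ hk, one_smul]
      have h3 := sieg_add_smul Q B hQs hQp hu (z := 0) (by simp) ((B u (e k))⁻¹ * B z (e k))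
      rw [zero_add] at h3
      rw [h1, h3]
      exact sieg_zero_right Q B hQs hQp hu
    have hQw : Q w = 0 := by
      have h1 : w = B z (e k) • u + (-(B u (e k))) • z := by rw [hw]; module
      rw [h1, Q_add_smul Q B hQs hQp, hQs, hu, hq, map_smul, LinearMap.smul_apply, huz]
      simp
    exact oc3 hC hn h3 hQw hw0 hin.1 hin
  have hz : InZ Q B L u z := inZ_of_mem hQs hQp hC.hp hu huz h
  by_cases hout : ∃ k, B u (e k) = 0 ∧ B z (e k) ≠ 0
  · obtain ⟨k, hk1, hk2⟩ := hout
    exact oc3 hC hn h3 hu hu0 hk1 (inZ_frame_of_mem hC hu huz h hk1 hk2)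
  push Not at hout
  -- no outside coordinate
  have hcq : c * Q z = 1 ∨ c * Q z = -1 := by
    rcases f3_cases h3 h2 (c * Q z) with h | h | h
    · exact absurd h (mul_ne_zero hfr.c0 hq)
    · exact Or.inl h
    · exact Or.inr h
  obtain ⟨i, hi⟩ := exists_coord hfr hu0
  rcases hcq with hcq | hcq
  · -- square class: a Siegel element with an outside coordinate
    obtain ⟨ui, hui⟩ : ∃ ui, ui = co B c e u i := ⟨_, rfl⟩
    have hui0 : ui ≠ 0 := by rw [hui]; exact co_ne hfr hi
    obtain ⟨zi, hzi⟩ : ∃ zi, zi = z - (co B c e z i / ui) • u := ⟨_, rfl⟩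
    have hzi_in : InZ Q B L u zi := by
      rw [hzi]; exact InZ_sub hQs hQp hu hz (inZ_smul_self hQs hQp hu _)
    have huu : B u u = 0 := by rw [B_self Q B hQs hQp, hu, mul_zero]
    have hBui : B u (e i) = 2 * c * ui := by
      rw [hui]; unfold co
      rw [← mul_assoc, mul_inv_cancel₀ hfr.two_c, one_mul]
    have hzii : B zi (e i) = 0 := by
      rw [hzi, map_sub, LinearMap.sub_apply, map_smul, LinearMap.smul_apply, smul_eq_mul, hBui]
      have : B z (e i) = 2 * c * co B c e z i := by
        unfold co
        rw [← mul_assoc, mul_inv_cancel₀ hfr.two_c, one_mul]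
      rw [this]
      field_simp
      ring
    have hQzi : Q zi = Q z := by
      have h1 : zi = z + (-(co B c e z i / ui)) • u := by rw [hzi]; module
      have h0 : B z u = 0 := by rw [hsymm]; exact huz
      rw [h1, Q_add_smul Q B hQs hQp, hu, h0]
      ring
    have hεL : zJ B c e {i} ∈ L := hC.hz i
    have hεO : zJ B c e {i} ∈ oG Q := hfr.zJ_mem_oG _
    obtain ⟨u1, hu1⟩ : ∃ u1, u1 = zJ B c e {i} u := ⟨_, rfl⟩
    have hu1eq : u1 = u - (c⁻¹ * B u (e i)) • e i := by
      rw [hu1, hfr.zJ_apply, Finset.sum_singleton]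
    have hzifix : zJ B c e {i} zi = zi := by
      rw [hfr.zJ_apply, Finset.sum_singleton, hzii, mul_zero, zero_smul, sub_zero]
    have hQu1 : Q u1 = 0 := by rw [hu1, hεO, hu]
    have hz1_in : InZ Q B L u1 zi := by
      have := InZ_map hQs hQp hεL hεO hu hzi_in
      rwa [hzifix, ← hu1] at this
    have hb : B u u1 = -(c⁻¹ * B u (e i)) * B u (e i) := by
      rw [hu1eq, map_sub, map_smul, huu, smul_eq_mul]
      ring
    have hb0 : B u u1 ≠ 0 := by
      rw [hb]
      exact mul_ne_zero (neg_ne_zero.mpr (mul_ne_zero (inv_ne_zero hfr.c0) hi)) hi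
    have hqi : Q zi ≠ 0 := by rw [hQzi]; exact hq
    have hsg := g2 hQs hQp hC.hLO hu hQu1 hb0 hqi hzi_in hz1_in
    set A := Submodule.span F ({u, u1, zi} : Set V) with hA
    have huA : u ∈ A := Submodule.subset_span (by simp)
    have hu1A : u1 ∈ A := Submodule.subset_span (by simp)
    have hziA : zi ∈ A := Submodule.subset_span (by simp)
    obtain ⟨w, hw⟩ : ∃ w, w = u + u1 - zi := ⟨_, rfl⟩
    have hwA : w ∈ A := by rw [hw]; exact A.sub_mem (A.add_mem huA hu1A) hziA
    have ha0 : c⁻¹ * B u (e i) ≠ 0 := mul_ne_zero (inv_ne_zero hfr.c0) hi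
    have heA : e i ∈ A := by
      have h1 : e i = (c⁻¹ * B u (e i))⁻¹ • (u - u1) := by
        rw [hu1eq, sub_sub_cancel, smul_smul, inv_mul_cancel₀ ha0, one_smul]
      rw [h1]
      exact A.smul_mem _ (A.sub_mem huA hu1A)
    have hu1e : B u1 (e i) = -B u (e i) := by
      rw [hu1eq, map_sub, LinearMap.sub_apply, map_smul, LinearMap.smul_apply, hfr.Bee,
        smul_eq_mul]
      have := hfr.c0
      field_simp
      ring
    have hwe : B w (e i) = 0 := by
      rw [hw, map_sub, map_add, LinearMap.sub_apply, LinearMap.add_apply, hu1e, hzii]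
      ring
    have huu1 : ui * ui = 1 := f3_sq h3 h2 hui0
    have hQz' : Q z = c := by
      have : c * (c * Q z) = c * 1 := by rw [hcq]
      rw [← mul_assoc, hcc, one_mul, mul_one] at this
      exact this
    have hQw : Q w = 0 := by
      have h1 : w = (u + u1) + (-1 : F) • zi := by rw [hw]; module
      have e0 : c⁻¹ * (2 * c * ui) = 2 * ui := by
        have hc0 := hfr.c0
        field_simp
      have e1 : B u u1 = -(4 * c) := by
        rw [hb, hBui, e0]
        linear_combination (-4 * c) * huu1
      rw [h1, Q_add_smul Q B hQs hQp, hQp, hu, hQu1, map_add, LinearMap.add_apply,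
        hzi_in.1, hz1_in.1, e1, hQzi, hQz']
      linear_combination (-c) * h30
    have hw0 : w ≠ 0 := by
      intro h0
      have h1 : B w zi = -(2 * Q zi) := by
        rw [hw, map_sub, map_add, LinearMap.sub_apply, LinearMap.add_apply, hzi_in.1, hz1_in.1,
          B_self Q B hQs hQp]
        ring
      rw [h0] at h1
      simp only [map_zero, LinearMap.zero_apply] at h1
      have : 2 * Q zi = 0 := by linear_combination h1
      rcases mul_eq_zero.mp this with h | h
      · exact h2 h
      · exact hqi h
    have hin : InZ Q B L w (e i) := by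
      refine ⟨hwe, fun t => ?_⟩
      exact hsg w hwA (t • e i) (A.smul_mem _ heA) hQw (by rw [map_smul, hwe, smul_zero])
    exact oc3 hC hn h3 hQw hw0 hwe hin
  · -- non-square class: the key lemma applies with `t = 1`
    have hC2 : ∀ i j, i ≠ j → B u (e i) ≠ 0 → B u (e j) ≠ 0 →
        InZ Q B L u (co B c e u j • e i - co B c e u i • e j) := by
      intro i j hij hi hj
      refine c2 hC hu hz hq hij hi hj (t := 1) one_ne_zero ?_
      have h1 : co B c e u i * co B c e u i = 1 := f3_sq h3 h2 (co_ne hfr hi)
      have h4 : (4 : F) = 1 := by linear_combination h30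
      intro hcon
      have h5 : 4 * c * Q z * co B c e u i ^ 2 * 1 ^ 2 = -1 := by
        have : 4 * c * Q z * co B c e u i ^ 2 * 1 ^ 2 =
            4 * (c * Q z) * (co B c e u i * co B c e u i) := by ring
        rw [this, h1, hcq, h4]; ring
      rw [h5] at hcon
      have : (2 : F) = 0 := by linear_combination -hcon
      exact h2 this
    set J : Finset ι := Finset.univ.filter (fun i => B u (e i) ≠ 0) with hJ
    have hJS : ∀ i, B u (e i) ≠ 0 → i ∈ J := fun i hi => by
      rw [hJ, Finset.mem_filter]
      exact ⟨Finset.mem_univ i, hi⟩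
    have hspan := inZ_of_span hC hu J hJS hC2 (fun k hk hk0 => by
      rw [hJ, Finset.mem_filter] at hk
      exact absurd hk0 hk.2)
    have hsg : SgOn Q B L (VS B e J) := sgOn_of_full hC hu hu0 J hJS (fun y hy huy => by
      have := (hspan y hy huy).2 1
      rwa [one_smul] at this)
    have huJ : u ∈ VS B e J := by
      intro l hl
      by_contra hcon
      exact hl (hJS l hcon)
    have hzJ : z ∈ VS B e J := by
      intro l hl
      have : B u (e l) = 0 := by
        by_contra hcon
        exact hl (hJS l hcon)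
      exact hout l this
    have heJ : ∀ l ∈ J, e l ∈ VS B e J := by
      intro l hl m hm
      have : l ≠ m := fun h => hm (h ▸ hl)
      exact hfr.orth l m this
    -- the size of `J`
    have hcard : 3 ≤ J.card := by
      by_contra hlt
      push Not at hlt
      obtain ⟨j, hji, hj⟩ : ∃ j, j ≠ i ∧ B u (e j) ≠ 0 := by
        by_contra hcon
        push Not at hcon
        have h1 := hfr.Q_eq u
        rw [Finset.sum_eq_single i] at h1
        · rw [hu] at h1
          have h2' := co_ne hfr hi
          have : c * (co B c e u i * co B c e u i) ≠ 0 :=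
            mul_ne_zero hfr.c0 (mul_ne_zero h2' h2')
          exact this h1.symm
        · intro l _ hli
          rw [co_eq_zero hfr (hcon l hli), mul_zero]
        · intro h
          exact absurd (Finset.mem_univ i) h
      have hSij : ∀ l, l ≠ i → l ≠ j → B u (e l) = 0 := by
        intro l hli hlj
        by_contra hcon
        have hsub : ({i, j, l} : Finset ι) ⊆ J := by
          intro x hx
          simp only [Finset.mem_insert, Finset.mem_singleton] at hx
          rcases hx with rfl | rfl | rfl
          · exact hJS _ hi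
          · exact hJS _ hj
          · exact hJS _ hcon
        have h3' : ({i, j, l} : Finset ι).card = 3 := by
          rw [Finset.card_insert_of_notMem, Finset.card_insert_of_notMem,
            Finset.card_singleton]
          · simp only [Finset.mem_singleton]
            exact fun h => hlj h.symm
          · simp only [Finset.mem_insert, Finset.mem_singleton]
            rintro (h | h)
            · exact hji h.symm
            · exact hli h.symm
        have := Finset.card_le_card hsub
        omega
      have hQu := hfr.Q_eq u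
      rw [Finset.sum_eq_add i j (Ne.symm hji)
        (fun l _ hl => by rw [co_eq_zero hfr (hSij l hl.1 hl.2), mul_zero])
        (fun h => absurd (Finset.mem_univ i) h) (fun h => absurd (Finset.mem_univ j) h), hu,
        f3_sq h3 h2 (co_ne hfr hi), f3_sq h3 h2 (co_ne hfr hj)] at hQu
      have : c * 2 = 0 := by rw [hQu]; ring
      rcases mul_eq_zero.mp this with h | h
      · exact hfr.c0 h
      · exact h2 h
    by_cases hc3 : J.card = 3
    · -- `σ` would be monomial
      exfalso
      apply hne
      apply mon3 hfr h3 (sieg_mem_oG Q B hQs hQp hu huz) J hc3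
      · intro l hl
        rw [sieg_apply Q B hQs hQp hu huz]
        exact (VS B e J).sub_mem ((VS B e J).sub_mem ((VS B e J).add_mem (heJ l hl)
          ((VS B e J).smul_mem _ hzJ)) ((VS B e J).smul_mem _ huJ)) ((VS B e J).smul_mem _ huJ)
      · intro l hl
        have h1 : B u (e l) = 0 := by
          by_contra hcon
          exact hl (hJS l hcon)
        have h2' : B z (e l) = 0 := hout l h1
        rw [sieg_apply Q B hQs hQp hu huz, hsymm (e l) u, hsymm (e l) z, h1, h2']
        simp
    · obtain ⟨w, k, k', k'', hw, hw0, hwk, hin, h1, h2', h3', h4, h5'⟩ :=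
        endin hC hn J hcard hsg (fun h => absurd h hc3)
      exact grow_end hC hw hw0 hwk hin h1 h2' h3' h4 h5'

/-- **GROW**: a group of isometries containing the single sign changes and the 3-cycles of an
orthogonal frame (at least seven vectors, field of odd prime order) and a non-monomial Siegel
element contains all Siegel elements. -/
theorem grow (hC : GCtx Q B c e L) (hn : 7 ≤ Fintype.card ι)
    (hσ : ∃ u z, Q u = 0 ∧ B u z = 0 ∧ sieg Q B u z ∈ L ∧ ¬ IsMon e (sieg Q B u z)) :
    ∀ u z, Q u = 0 → B u z = 0 → sieg Q B u z ∈ L := by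
  obtain ⟨u, z, hu, huz, h, hne⟩ := hσ
  by_cases h3 : Nat.card F = 3
  · exact Cfsg.Agent.Lib.Helper80_GrowA3.grow3' hC hn h3 hu huz h hne
  · refine Cfsg.Agent.Lib.Helper80_GrowA5.grow5 hC hn h3 hu huz h ?_
    intro h1
    apply hne
    rw [h1]
    exact IsMon.one

end Cfsg.Agent.Lib.Helper80_GrowA3
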