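import Mathlib
import Cfsg.Prelude.Def_Characters
import Cfsg.Agent.Lib.Helper3_CharBridge
import Cfsg.Agent.Lib.Helper3_CharOrtho
import Cfsg.Agent.Lib.Helper3_CharEigen
import Cfsg.Agent.Lib.Helper3_RepDecomp

/-!
# Representations over a subfield `K` of `ℂ` and their complex characters (helper80)

`cchar ρ` is the complex-valued character of a `K`-representation.  We show it is a character in
the sense of `Cfsg.IsCharacter`, afforded by matrices with entries in the image of `K`, and the
Hom-dimension formula.
-/

set_option autoImplicit false
set_option linter.unusedSectionVars false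

namespace Cfsg.Agent.Lib.Helper80_SplitA

open Representation
open scoped ComplexConjugate

variable {K : Type*} [Field K] [Algebra K ℂ] {G : Type*} [Group G]

/-- The complex-valued character of a representation over `K`. -/
noncomputable def cchar {V : Type*} [AddCommGroup V] [Module K V] (ρ : Representation K G V) :
    G → ℂ := fun g => algebraMap K ℂ (ρ.character g)

theorem cchar_apply {V : Type*} [AddCommGroup V] [Module K V] (ρ : Representation K G V) (g : G) :
    cchar ρ g = algebraMap K ℂ (ρ.character g) := rfl

/-- The complex matrix representation attached to a `K`-representation and a basis. -/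
noncomputable def matRep {V : Type*} [AddCommGroup V] [Module K V] {n : ℕ}
    (b : Module.Basis (Fin n) K V) (ρ : Representation K G V) :
    Representation ℂ G (Fin n → ℂ) where
  toFun g := Matrix.toLin' ((LinearMap.toMatrix b b (ρ g)).map (algebraMap K ℂ))
  map_one' := by
    rw [map_one, Module.End.one_eq_id, LinearMap.toMatrix_id, Matrix.map_one _ (map_zero _) (map_one _),
      Matrix.toLin'_one]
    rfl
  map_mul' g h := by
    rw [map_mul, Module.End.mul_eq_comp, LinearMap.toMatrix_comp b b b, Matrix.map_mul,
      Matrix.toLin'_mul]
    rfl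

theorem matRep_apply {V : Type*} [AddCommGroup V] [Module K V] {n : ℕ}
    (b : Module.Basis (Fin n) K V) (ρ : Representation K G V) (g : G) :
    matRep b ρ g = Matrix.toLin' ((LinearMap.toMatrix b b (ρ g)).map (algebraMap K ℂ)) := rfl

theorem matRep_entry {V : Type*} [AddCommGroup V] [Module K V] {n : ℕ}
    (b : Module.Basis (Fin n) K V) (ρ : Representation K G V) (g : G) (i j : Fin n) :
    LinearMap.toMatrix' (matRep b ρ g) i j = algebraMap K ℂ (LinearMap.toMatrix b b (ρ g) i j) := by
  rw [matRep_apply, LinearMap.toMatrix'_toLin']
  rfl

theorem matRep_character {V : Type*} [AddCommGroup V] [Module K V] {n : ℕ}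
    (b : Module.Basis (Fin n) K V) (ρ : Representation K G V) :
    (matRep b ρ).character = cchar ρ := by
  funext g
  rw [cchar_apply, Representation.character, Representation.character,
    LinearMap.trace_eq_matrix_trace K b, LinearMap.trace_eq_matrix_trace ℂ (Pi.basisFun ℂ (Fin n)),
    LinearMap.toMatrix_eq_toMatrix', Matrix.trace, Matrix.trace, map_sum]
  refine Finset.sum_congr rfl (fun i _ => ?_)
  rw [Matrix.diag_apply, Matrix.diag_apply, matRep_entry]

/-- The complex character of a finite-dimensional `K`-representation is afforded by complex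
matrices with entries in the image of `K`. -/
theorem exists_matRep {V : Type*} [AddCommGroup V] [Module K V] [FiniteDimensional K V]
    (ρ : Representation K G V) :
    ∃ (n : ℕ) (σ : Representation ℂ G (Fin n → ℂ)),
      (∀ g i j, LinearMap.toMatrix' (σ g) i j ∈ Set.range (algebraMap K ℂ)) ∧
        σ.character = cchar ρ :=
  ⟨Module.finrank K V, matRep (Module.finBasis K V) ρ,
    fun g i j => ⟨_, (matRep_entry (Module.finBasis K V) ρ g i j).symm⟩,
    matRep_character (Module.finBasis K V) ρ⟩

theorem isCharacter_cchar {V : Type*} [AddCommGroup V] [Module K V] [FiniteDimensional K V]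
    (ρ : Representation K G V) : Cfsg.IsCharacter G (cchar ρ) := by
  obtain ⟨n, σ, -, hσ⟩ := exists_matRep ρ
  exact ⟨n, σ, hσ⟩

theorem cchar_one {V : Type*} [AddCommGroup V] [Module K V] [FiniteDimensional K V]
    (ρ : Representation K G V) : cchar ρ 1 = (Module.finrank K V : ℂ) := by
  rw [cchar_apply, Representation.char_one, map_natCast]

theorem cchar_inv [Finite G] {V : Type*} [AddCommGroup V] [Module K V] [FiniteDimensional K V]
    (ρ : Representation K G V) (g : G) : cchar ρ g⁻¹ = conj (cchar ρ g) := by
  have := Fintype.ofFinite G
  obtain ⟨n, σ, -, hσ⟩ := exists_matRep ρ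
  rw [← hσ]
  exact Cfsg.Agent.Lib.Helper3_CharEigen.char_inv σ g

theorem card_ne_zero_K [Finite G] : (Nat.card G : K) ≠ 0 := by
  intro h
  have h1 : algebraMap K ℂ (Nat.card G : K) = 0 := by rw [h, map_zero]
  rw [map_natCast] at h1
  have h2 : (Nat.card G : ℂ) ≠ 0 := by exact_mod_cast (Nat.card_pos (α := G)).ne'
  exact h2 h1

/-- Hom-dimension formula for `K`-representations, via complex characters. -/
theorem classInner_cchar_eq_finrank [Fintype G] {V W : Type*} [AddCommGroup V] [Module K V]
    [FiniteDimensional K V] [AddCommGroup W] [Module K W] [FiniteDimensional K W]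
    (ρ : Representation K G V) (σ : Representation K G W) :
    Cfsg.classInner (cchar σ) (cchar ρ) = (Module.finrank K (IntertwiningMap ρ σ) : ℂ) := by
  have : Invertible (Nat.card G : K) := invertibleOfNonzero card_ne_zero_K
  have h := Representation.card_inv_mul_sum_char_mul_char_eq_finrank ρ σ
  have h2 := congrArg (algebraMap K ℂ) h
  rw [map_natCast, map_mul, map_inv₀, map_natCast, map_sum] at h2
  rw [Cfsg.classInner, ← h2]
  congr 1
  refine Finset.sum_congr rfl (fun g _ => ?_)
  rw [map_mul, ← cchar_inv ρ g]
  rfl

theorem cchar_iso {V W : Type*} [AddCommGroup V] [Module K V]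
    [AddCommGroup W] [Module K W] {ρ : Representation K G V} {σ : Representation K G W}
    (e : ρ.Equiv σ) : cchar ρ = cchar σ := by
  funext g
  rw [cchar_apply, cchar_apply, Representation.char_iso e]

end Cfsg.Agent.Lib.Helper80_SplitA
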