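import Mathlib
import Cfsg.Prelude.Def_Characters
import Cfsg.Agent.Lib.Helper80_SplitA
import Cfsg.Agent.Lib.Helper80_CharBasic
import Cfsg.Agent.Lib.Helper3_CharOrtho

/-!
# A relative orthogonality relation (helper80)

If `ψ ∈ Irr(I)` restricts irreducibly along `ι : N →* I`, then for `β ∈ Irr(N)`
`∑ m, β(m⁻¹) ψ(g ι(m))` is `|N| ψ(g) / ψ(1)` or `0` according to whether `β` is the
restriction of `ψ` or not.
-/

set_option autoImplicit false
set_option linter.unusedSectionVars false

namespace Cfsg.Agent.Lib.Helper80_IndFSA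

open scoped ComplexConjugate
open Cfsg.Agent.Lib.Helper80_CharBasic Cfsg.Agent.Lib.Helper80_SplitA

/-- A representation whose character is an irreducible character: class sums act as scalars. -/
theorem classSum_scalar {N : Type*} [Group N] [Fintype N] {k : ℕ}
    (σ : Representation ℂ N (Fin k → ℂ)) (hσ : Cfsg.IsIrrCharacter N σ.character)
    (f : N → ℂ) (hf : Cfsg.IsClassFunction N f) :
    ∃ c : ℂ, (∑ m : N, f m • σ m) = c • (LinearMap.id : Module.End ℂ (Fin k → ℂ)) ∧
      c * k = ∑ m : N, f m * σ.character m := by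
  classical
  have hfin : Module.finrank ℂ (Representation.IntertwiningMap σ σ) = 1 := by
    have h := classInner_cchar_eq_finrank (K := ℂ) σ σ
    have hc : cchar σ = σ.character := by
      funext m
      rw [cchar_apply]
      rfl
    rw [hc, Cfsg.Agent.Lib.Helper3_CharOrtho.classInner_self_of_isIrrCharacter hσ] at h
    exact_mod_cast h.symm
  set P : Module.End ℂ (Fin k → ℂ) := ∑ m : N, f m • σ m with hP
  have hcomm' : ∀ n : N, P * σ n = σ n * P := by
    intro n
    rw [hP, Finset.sum_mul, Finset.mul_sum]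
    have h1 : ∀ m : N, (f m • σ m) * σ n = f m • σ (m * n) := by
      intro m
      rw [smul_mul_assoc, map_mul]
    have h2 : ∀ m : N, σ n * (f m • σ m) = f m • σ (n * m) := by
      intro m
      rw [mul_smul_comm, map_mul]
    rw [Finset.sum_congr rfl (fun m _ => h1 m), Finset.sum_congr rfl (fun m _ => h2 m)]
    -- reindex `m ↦ n * m * n⁻¹`
    apply Fintype.sum_equiv (MulAut.conj n⁻¹).toEquiv
    intro m
    have e1 : (MulAut.conj n⁻¹).toEquiv m = n⁻¹ * m * n⁻¹⁻¹ := rfl
    rw [e1, hf m n⁻¹]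
    congr 2
    group
  have hcomm : ∀ n : N, P ∘ₗ σ n = σ n ∘ₗ P := hcomm'
  let Pi : Representation.IntertwiningMap σ σ := ⟨P, hcomm⟩
  let idI : Representation.IntertwiningMap σ σ := ⟨LinearMap.id, fun g => by
    rw [LinearMap.id_comp, LinearMap.comp_id]⟩
  by_cases hk : k = 0
  · subst hk
    refine ⟨0, ?_, ?_⟩
    · apply LinearMap.ext
      intro v
      apply Subsingleton.elim
    · have : ∀ m : N, σ.character m = 0 := by
        intro m
        have h0 : σ m = 0 := by
          apply LinearMap.ext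
          intro v
          apply Subsingleton.elim
        rw [Representation.character, h0, map_zero]
      simp [this]
  have hidne : idI ≠ 0 := by
    intro h
    have h1 := congrArg (fun F : Representation.IntertwiningMap σ σ => F.toLinearMap) h
    have h2 : (LinearMap.id : Module.End ℂ (Fin k → ℂ)) = 0 := h1
    have h3 := congrArg (fun T : Module.End ℂ (Fin k → ℂ) => LinearMap.trace ℂ _ T) h2
    simp only [map_zero] at h3
    have h4 : LinearMap.trace ℂ (Fin k → ℂ) LinearMap.id = (k : ℂ) := by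
      rw [LinearMap.trace_id]
      simp
    rw [h4] at h3
    exact hk (by exact_mod_cast h3)
  obtain ⟨c, hc⟩ := (finrank_eq_one_iff_of_nonzero' idI hidne).mp hfin Pi
  have hPc : P = c • LinearMap.id := by
    have h1 := congrArg (fun F : Representation.IntertwiningMap σ σ => F.toLinearMap) hc
    exact h1.symm
  refine ⟨c, hPc, ?_⟩
  have h3 := congrArg (fun T : Module.End ℂ (Fin k → ℂ) => LinearMap.trace ℂ _ T) hPc
  simp only [map_smul, smul_eq_mul] at h3
  have h4 : LinearMap.trace ℂ (Fin k → ℂ) LinearMap.id = (k : ℂ) := by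
    rw [LinearMap.trace_id]
    simp
  rw [h4, hP, map_sum] at h3
  rw [← h3]
  apply Finset.sum_congr rfl
  intro m _
  rw [map_smul, smul_eq_mul]
  rfl

/-- The relative orthogonality relation. -/
theorem star_sum {I N : Type*} [Group I] [Group N] [Fintype N] (ι : N →* I)
    (ψ : Cfsg.IrrCharacter I)
    (hφ : Cfsg.IsIrrCharacter N (fun m => (ψ : I → ℂ) (ι m))) (β : Cfsg.IrrCharacter N) (g : I) :
    (β = ⟨_, hφ⟩ → ∑ m : N, (β : N → ℂ) m⁻¹ * (ψ : I → ℂ) (g * ι m) =
        (Nat.card N : ℂ) * (ψ : I → ℂ) g / (ψ : I → ℂ) 1) ∧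
    (β ≠ ⟨_, hφ⟩ → ∑ m : N, (β : N → ℂ) m⁻¹ * (ψ : I → ℂ) (g * ι m) = 0) := by
  classical
  obtain ⟨k, ρ, hρ, hρψ⟩ := ψ.2
  set σ : Representation ℂ N (Fin k → ℂ) := MonoidHom.comp ρ ι with hσdef
  have hσchar : σ.character = fun m => (ψ : I → ℂ) (ι m) := by
    funext m
    rw [← hρψ]
    rfl
  have hσirr : Cfsg.IsIrrCharacter N σ.character := by
    rw [hσchar]
    exact hφ
  have hf : Cfsg.IsClassFunction N (fun z : N => (β : N → ℂ) z⁻¹) := by
    intro z h
    have : (h * z * h⁻¹)⁻¹ = h * z⁻¹ * h⁻¹ := by group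
    show (β : N → ℂ) (h * z * h⁻¹)⁻¹ = (β : N → ℂ) z⁻¹
    rw [this, irr_conj]
  obtain ⟨c, hc1, hc2⟩ := classSum_scalar σ hσirr _ hf
  have hk : 0 < k := irr_dim_pos ρ hρ
  have hkC : (k : ℂ) ≠ 0 := by exact_mod_cast hk.ne'
  have hψ1 : (ψ : I → ℂ) 1 = (k : ℂ) := by
    rw [← hρψ, Representation.char_one]
    simp
  have hleft : ∑ m : N, (β : N → ℂ) m⁻¹ * (ψ : I → ℂ) (g * ι m) = c * (ψ : I → ℂ) g := by
    have h1 := congrArg (fun T : Module.End ℂ (Fin k → ℂ) => LinearMap.trace ℂ _ (ρ g * T)) hc1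
    simp only [Finset.mul_sum, map_sum, mul_smul_comm, map_smul, smul_eq_mul] at h1
    have hid : ρ g * (LinearMap.id : Module.End ℂ (Fin k → ℂ)) = ρ g := mul_one _
    rw [hid] at h1
    rw [← hρψ]
    show ∑ m : N, (β : N → ℂ) m⁻¹ * LinearMap.trace ℂ _ (ρ (g * ι m)) =
      c * LinearMap.trace ℂ _ (ρ g)
    rw [← h1]
    apply Finset.sum_congr rfl
    intro m _
    rw [map_mul]
    rfl
  rw [hleft]
  rw [hσchar] at hc2
  constructor
  · intro hβ
    subst hβ
    have hsum : ∑ m : N, (fun m => (ψ : I → ℂ) (ι m)) m⁻¹ * (ψ : I → ℂ) (ι m) = (Nat.card N : ℂ) := by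
      have := irr_norm (⟨_, hφ⟩ : Cfsg.IrrCharacter N)
      rw [← this]
      exact Finset.sum_congr rfl fun z _ => mul_comm _ _
    have hc3 : c * k = (Nat.card N : ℂ) := by
      rw [hc2]
      exact hsum
    rw [hψ1, ← hc3]
    field_simp
  · intro hβ
    have hsum : ∑ m : N, (β : N → ℂ) m⁻¹ * (ψ : I → ℂ) (ι m) = 0 := by
      have := irr_orthogonal (⟨_, hφ⟩ : Cfsg.IrrCharacter N) β (fun e => hβ e.symm)
      rw [← this]
      exact Finset.sum_congr rfl fun z _ => mul_comm _ _
    rw [hsum] at hc2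
    have : c = 0 := by
      rcases mul_eq_zero.mp hc2 with h0 | h0
      · exact h0
      · exact absurd h0 hkC
    rw [this, zero_mul]

end Cfsg.Agent.Lib.Helper80_IndFSA
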