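import Mathlib
import Cfsg.Prelude.Def_Characters
import Cfsg.Agent.Lib.Helper80_IndFSA
import Cfsg.Agent.Lib.Helper75_Clifford
import Cfsg.Agent.Lib.Helper75_Induced

/-!
# The Frobenius–Schur sum of a character induced from an inertia group (helper80)

If `ψ ∈ Irr(I)` restricts to a real-valued irreducible character `φ` of `N ⊴ G`, `N ≤ I`, and
`I` contains the stabilizer of `φ`, then `∑ g, (Ind ψ)(g²) = |G|/|I| ∑ h, ψ(h²)`.
-/

set_option autoImplicit false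
set_option linter.unusedSectionVars false

namespace Cfsg.Agent.Lib.Helper80_IndFSB

open scoped ComplexConjugate
open Cfsg.Agent.Lib.Helper80_CharBasic Cfsg.Agent.Lib.Helper80_IndFSA
  Cfsg.Agent.Lib.Helper75_Induced

section abstract

variable {I N : Type*} [Group I] [Group N] [Fintype N] (ι : N →* I) (ψ : Cfsg.IrrCharacter I)

theorem twisted_sum_zero
    (hφ : Cfsg.IsIrrCharacter N (fun m => (ψ : I → ℂ) (ι m)))
    (hreal : ∀ m : N, conj ((ψ : I → ℂ) (ι m)) = (ψ : I → ℂ) (ι m))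
    (c : N ≃* N) (hc : (fun m => (ψ : I → ℂ) (ι (c m))) ≠ (fun m => (ψ : I → ℂ) (ι m))) (W : I) :
    ∑ n : N, (ψ : I → ℂ) (W * ι (c n) * ι n) = 0 := by
  classical
  set φ : Cfsg.IrrCharacter N := ⟨_, hφ⟩ with hφdef
  have hβirr : Cfsg.IsIrrCharacter N (fun m => (ψ : I → ℂ) (ι (c m))) :=
    Cfsg.Agent.Lib.Helper75_Clifford.isIrrCharacter_comp_equiv c hφ
  set β : Cfsg.IrrCharacter N := ⟨_, hβirr⟩ with hβdef
  have hβφ : β ≠ φ := by
    intro h
    apply hc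
    exact congrArg Subtype.val h
  have hcyc : ∀ a b : I, (ψ : I → ℂ) (a * b) = (ψ : I → ℂ) (b * a) := by
    intro a b
    have := irr_conj ψ (a * b) b
    rw [← this]
    congr 1
    group
  have hsame : ∀ g₁ g₂ : I, ∑ m : N, (φ : N → ℂ) m⁻¹ * (ψ : I → ℂ) (g₁ * ι m * g₂) =
      (Nat.card N : ℂ) * (ψ : I → ℂ) (g₁ * g₂) / (ψ : I → ℂ) 1 := by
    intro g₁ g₂
    have h := (star_sum ι ψ hφ φ (g₂ * g₁)).1 rfl
    rw [hcyc g₁ g₂, ← h]
    apply Finset.sum_congr rfl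
    intro m _
    rw [hcyc (g₁ * ι m) g₂, mul_assoc]
  have hdiff : ∀ g₁ g₂ : I, ∑ m : N, (β : N → ℂ) m⁻¹ * (ψ : I → ℂ) (g₁ * ι m * g₂) = 0 := by
    intro g₁ g₂
    have h := (star_sum ι ψ hφ β (g₂ * g₁)).2 hβφ
    rw [← h]
    apply Finset.sum_congr rfl
    intro m _
    rw [hcyc (g₁ * ι m) g₂, mul_assoc]
  have hK : (Nat.card N : ℂ) / (ψ : I → ℂ) 1 ≠ 0 := by
    apply div_ne_zero
    · exact_mod_cast Nat.card_pos.ne'
    · exact Cfsg.Agent.Lib.Helper75_Clifford.irr_one_ne_zero ψ.2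
  have hstep1 : (Nat.card N : ℂ) / (ψ : I → ℂ) 1 * ∑ n : N, (ψ : I → ℂ) (W * ι (c n) * ι n) =
      ∑ n : N, ∑ m : N, (φ : N → ℂ) m⁻¹ * (ψ : I → ℂ) (W * ι m * (ι (c n) * ι n)) := by
    rw [Finset.mul_sum]
    apply Finset.sum_congr rfl
    intro n _
    rw [hsame W (ι (c n) * ι n), mul_assoc W]
    ring
  have hstep2 : ∑ n : N, ∑ m : N, (φ : N → ℂ) m⁻¹ * (ψ : I → ℂ) (W * ι m * (ι (c n) * ι n)) =
      ∑ n : N, ∑ a : N, (β : N → ℂ) a⁻¹ * (ψ : I → ℂ) (W * ι (c n) * ι a * ι n) := by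
    rw [Finset.sum_comm]
    have h1 : ∀ m : N, ∑ n : N, (φ : N → ℂ) m⁻¹ * (ψ : I → ℂ) (W * ι m * (ι (c n) * ι n)) =
        ∑ n : N, (φ : N → ℂ) m⁻¹ * (ψ : I → ℂ) (W * ι (c n) * ι (c.symm m)⁻¹ * ι n) := by
      intro m
      symm
      apply Fintype.sum_equiv (Equiv.mulLeft (c.symm m)⁻¹)
      intro n
      have key : W * ι (c n) * ι (c.symm m)⁻¹ * ι n =
          W * ι m * (ι (c ((c.symm m)⁻¹ * n)) * ι ((c.symm m)⁻¹ * n)) := by
        simp only [map_mul, map_inv, MulEquiv.apply_symm_apply]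
        group
      rw [key]
      rfl
    rw [Finset.sum_congr rfl (fun m _ => h1 m), Finset.sum_comm]
    apply Finset.sum_congr rfl
    intro n _
    symm
    apply Fintype.sum_equiv ((Equiv.inv N).trans c.toEquiv)
    intro a
    have e1 : ((Equiv.inv N).trans c.toEquiv) a = c a⁻¹ := rfl
    rw [e1]
    have e2 : (c.symm (c a⁻¹))⁻¹ = a := by rw [MulEquiv.symm_apply_apply, inv_inv]
    rw [e2]
    congr 1
    show (ψ : I → ℂ) (ι (c a⁻¹)) = (ψ : I → ℂ) (ι (c a⁻¹)⁻¹)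
    have h3 := irr_inv φ (c a⁻¹)
    have h4 : (φ : N → ℂ) (c a⁻¹)⁻¹ = (ψ : I → ℂ) (ι (c a⁻¹)⁻¹) := rfl
    have h5 : (φ : N → ℂ) (c a⁻¹) = (ψ : I → ℂ) (ι (c a⁻¹)) := rfl
    rw [← h4, h3, h5, hreal]
  have hzero : ∑ n : N, ∑ a : N, (β : N → ℂ) a⁻¹ * (ψ : I → ℂ) (W * ι (c n) * ι a * ι n) = 0 :=
    Finset.sum_eq_zero (fun n _ => hdiff (W * ι (c n)) (ι n))
  have hfin : (Nat.card N : ℂ) / (ψ : I → ℂ) 1 * ∑ n : N, (ψ : I → ℂ) (W * ι (c n) * ι n) = 0 := by
    rw [hstep1, hstep2, hzero]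
  exact (mul_eq_zero.mp hfin).resolve_left hK

end abstract

section concrete

variable {G : Type*} [Group G] [Fintype G] (N I : Subgroup G) [hN : N.Normal] [Fintype N]
  [Fintype I] (hNI : N ≤ I) (ψ : Cfsg.IrrCharacter I)

theorem coset_sum_zero
    (hφ : Cfsg.IsIrrCharacter N (fun m : N => (ψ : I → ℂ) (Subgroup.inclusion hNI m)))
    (hreal : ∀ m : N, conj ((ψ : I → ℂ) (Subgroup.inclusion hNI m)) =
      (ψ : I → ℂ) (Subgroup.inclusion hNI m))
    (hstab : ∀ g : G, (∀ m : N, (ψ : I → ℂ) (Subgroup.inclusion hNI (MulAut.conjNormal g m)) =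
      (ψ : I → ℂ) (Subgroup.inclusion hNI m)) → g ∈ I)
    {x : G} (hx : x ∉ I) :
    ∑ n : N, Cfsg.extendByZero I (ψ : I → ℂ) (x * n * x * n) = 0 := by
  classical
  by_cases hxx : x * x ∈ I
  · set c : N ≃* N := MulAut.conjNormal x⁻¹ with hcdef
    have hc : (fun m => (ψ : I → ℂ) (Subgroup.inclusion hNI (c m))) ≠
        (fun m => (ψ : I → ℂ) (Subgroup.inclusion hNI m)) := by
      intro h
      apply hx
      have h1 : x⁻¹ ∈ I := hstab x⁻¹ (fun m => congrFun h m)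
      have h2 := I.inv_mem h1
      rwa [inv_inv] at h2
    have h0 := twisted_sum_zero (Subgroup.inclusion hNI) ψ hφ hreal c hc ⟨x * x, hxx⟩
    rw [← h0]
    apply Finset.sum_congr rfl
    intro n _
    have e : x * (n : G) * x * n = (x * x) * (x⁻¹ * n * x⁻¹⁻¹) * n := by group
    have hcn : ((c n : N) : G) = x⁻¹ * n * x⁻¹⁻¹ := MulAut.conjNormal_apply x⁻¹ n
    have hmem : x * (n : G) * x * n ∈ I := by
      rw [e, ← hcn]
      exact I.mul_mem (I.mul_mem hxx (hNI (c n).2)) (hNI n.2)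
    rw [extendByZero_of_mem I _ hmem]
    apply congrArg
    apply Subtype.ext
    simp only [Subgroup.coe_mul, Subgroup.coe_inclusion]
    rw [e, hcn]
  · apply Finset.sum_eq_zero
    intro n _
    apply extendByZero_of_not_mem
    intro hmem
    apply hxx
    have e : x * x = (x * n * x * n) * ((n : G)⁻¹ * (x⁻¹ * (n : G)⁻¹ * x⁻¹⁻¹)) := by group
    rw [e]
    apply I.mul_mem hmem
    apply hNI
    apply N.mul_mem (N.inv_mem n.2)
    exact hN.conj_mem _ (N.inv_mem n.2) x⁻¹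

theorem sum_indFun_sq
    (hφ : Cfsg.IsIrrCharacter N (fun m : N => (ψ : I → ℂ) (Subgroup.inclusion hNI m)))
    (hreal : ∀ m : N, conj ((ψ : I → ℂ) (Subgroup.inclusion hNI m)) =
      (ψ : I → ℂ) (Subgroup.inclusion hNI m))
    (hstab : ∀ g : G, (∀ m : N, (ψ : I → ℂ) (Subgroup.inclusion hNI (MulAut.conjNormal g m)) =
      (ψ : I → ℂ) (Subgroup.inclusion hNI m)) → g ∈ I) :
    ∑ g : G, Cfsg.indFun I (ψ : I → ℂ) (g * g) =
      (Nat.card I : ℂ)⁻¹ * ((Nat.card G : ℂ) * ∑ h : I, (ψ : I → ℂ) (h * h)) := by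
  classical
  have h1 : ∑ g : G, Cfsg.indFun I (ψ : I → ℂ) (g * g) =
      (Nat.card I : ℂ)⁻¹ * ∑ x : G, ∑ g : G,
        Cfsg.extendByZero I (ψ : I → ℂ) (x⁻¹ * (g * g) * x) := by
    simp only [indFun_apply]
    rw [← Finset.mul_sum, Finset.sum_comm]
  have h2 : ∀ x : G, ∑ g : G, Cfsg.extendByZero I (ψ : I → ℂ) (x⁻¹ * (g * g) * x) =
      ∑ g : G, Cfsg.extendByZero I (ψ : I → ℂ) (g * g) := by
    intro x
    apply Fintype.sum_equiv (MulAut.conj x⁻¹).toEquiv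
    intro g
    congr 1
    show x⁻¹ * (g * g) * x = (x⁻¹ * g * x⁻¹⁻¹) * (x⁻¹ * g * x⁻¹⁻¹)
    group
  set θ₂ : I → ℂ := fun h => (ψ : I → ℂ) (h * h) with hθ₂
  set R : G → ℂ := fun g => if g ∈ I then 0 else Cfsg.extendByZero I (ψ : I → ℂ) (g * g) with hR
  have hsplit : ∀ g : G, Cfsg.extendByZero I (ψ : I → ℂ) (g * g) =
      Cfsg.extendByZero I θ₂ g + R g := by
    intro g
    by_cases hg : g ∈ I
    · rw [hR]
      simp only [if_pos hg, add_zero]
      rw [extendByZero_of_mem I θ₂ hg, extendByZero_of_mem I _ (I.mul_mem hg hg)]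
      rfl
    · rw [hR]
      simp only [if_neg hg]
      rw [extendByZero_of_not_mem I θ₂ hg, zero_add]
  have hRn : ∀ n : N, ∑ g : G, R g = ∑ g : G,
      (if g ∈ I then 0 else Cfsg.extendByZero I (ψ : I → ℂ) (g * n * g * n)) := by
    intro n
    symm
    apply Fintype.sum_equiv (Equiv.mulRight (n : G))
    intro g
    have hiff : g * (n : G) ∈ I ↔ g ∈ I := by
      constructor
      · intro h
        have := I.mul_mem h (I.inv_mem (hNI n.2))
        simpa using this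
      · intro h
        exact I.mul_mem h (hNI n.2)
    show _ = R (g * n)
    rw [hR]
    by_cases hg : g ∈ I
    · simp only [if_pos hg, if_pos (hiff.mpr hg)]
    · simp only [if_neg hg, if_neg (fun h => hg (hiff.mp h))]
      congr 1
      group
  have hRzero : ∑ g : G, R g = 0 := by
    have hcardN : (Nat.card N : ℂ) ≠ 0 := by exact_mod_cast Nat.card_pos.ne'
    have h3 : (Nat.card N : ℂ) * ∑ g : G, R g = 0 := by
      have h4 : (Nat.card N : ℂ) * ∑ g : G, R g = ∑ n : N, ∑ g : G, R g := by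
        rw [Finset.sum_const, Finset.card_univ, Nat.card_eq_fintype_card, nsmul_eq_mul]
      rw [h4, Finset.sum_congr rfl (fun n _ => hRn n), Finset.sum_comm]
      apply Finset.sum_eq_zero
      intro g _
      by_cases hg : g ∈ I
      · simp only [if_pos hg, Finset.sum_const_zero]
      · simp only [if_neg hg]
        exact coset_sum_zero N I hNI ψ hφ hreal hstab hg
    exact (mul_eq_zero.mp h3).resolve_left hcardN
  have h3 : ∑ g : G, Cfsg.extendByZero I (ψ : I → ℂ) (g * g) = ∑ h : I, (ψ : I → ℂ) (h * h) := by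
    rw [Finset.sum_congr rfl (fun g _ => hsplit g), Finset.sum_add_distrib, hRzero, add_zero,
      sum_extendByZero]
  have hG : (Nat.card G : ℂ) = (Fintype.card G : ℂ) := by rw [Nat.card_eq_fintype_card]
  rw [h1, Finset.sum_congr rfl (fun x _ => h2 x), Finset.sum_const, Finset.card_univ, h3,
    nsmul_eq_mul, hG]

end concrete

end Cfsg.Agent.Lib.Helper80_IndFSB
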