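import Mathlib
import Cfsg.Prelude.Def_Characters
import Cfsg.Agent.Lib.Helper75_Clifford
import Cfsg.Agent.Lib.Helper75_Induced
import Cfsg.Agent.Lib.Helper75_IndChar
import Cfsg.Agent.Lib.Helper75_CharArith
import Cfsg.Agent.Lib.Helper75_CharProd
import Cfsg.Agent.Lib.Helper75_LinChar
import Cfsg.Agent.Lib.Helper76_ResidualExt
import Cfsg.Agent.Lib.Helper80_CharBasic
import Cfsg.Agent.Lib.Helper80_CharInd

/-!
# Clifford correspondence over an extendible character, and a counting lemma (helper80)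
-/

set_option autoImplicit false
set_option linter.unusedSectionVars false

namespace Cfsg.Agent.Lib.Helper80_IndFSC

open scoped ComplexConjugate
open Cfsg.Agent.Lib.Helper80_CharBasic Cfsg.Agent.Lib.Helper75_Induced
  Cfsg.Agent.Lib.Helper75_Clifford Cfsg.Agent.Lib.Helper75_CharArith
  Cfsg.Agent.Lib.Helper3_CharOrtho Cfsg.Agent.Lib.Helper3_CharBridge
  Cfsg.Agent.Lib.Helper75_LinChar

universe u

variable {G : Type u} [Group G] [Fintype G]

/-- A set of distinct irreducible constituents of a character has at most `Θ(1)` elements. -/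
theorem card_le_of_constituents {Θ : G → ℂ} (hΘ : Cfsg.IsCharacter G Θ) (k : ℕ)
    (hk : Θ 1 = (k : ℂ)) (S : Finset (Cfsg.IrrCharacter G))
    (hS : ∀ χ ∈ S, Cfsg.classInner Θ (χ : G → ℂ) ≠ 0) : S.card ≤ k := by
  classical
  obtain ⟨m, hm, hsum⟩ := exists_multiplicities hΘ
  have hdeg : ∀ χ : Cfsg.IrrCharacter G, ∃ n : ℕ, 0 < n ∧ (χ : G → ℂ) 1 = n := irr_apply_one
  choose d hdpos hd using hdeg
  have h1 : (k : ℂ) = ((∑ χ : Cfsg.IrrCharacter G, m χ * d χ : ℕ) : ℂ) := by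
    rw [← hk]
    conv_lhs => rw [hsum]
    rw [Finset.sum_apply]
    push_cast
    apply Finset.sum_congr rfl
    intro χ _
    rw [Pi.smul_apply, smul_eq_mul, hd χ]
  have h2 : k = ∑ χ : Cfsg.IrrCharacter G, m χ * d χ := by exact_mod_cast h1
  rw [h2]
  calc S.card = ∑ χ ∈ S, 1 := by simp
    _ ≤ ∑ χ ∈ S, m χ * d χ := by
        apply Finset.sum_le_sum
        intro χ hχ
        have hmχ : m χ ≠ 0 := by
          intro h0
          apply hS χ hχ
          rw [hm χ, h0, Nat.cast_zero]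
        have := hdpos χ
        exact Nat.one_le_iff_ne_zero.mpr (Nat.mul_ne_zero hmχ (by omega))
    _ ≤ ∑ χ : Cfsg.IrrCharacter G, m χ * d χ :=
        Finset.sum_le_sum_of_subset (Finset.subset_univ S)

variable (N I : Subgroup G) (hN : N.Normal) [Fintype N] [Fintype I] (hNI : N ≤ I)
  (φ : Cfsg.IrrCharacter N)
  (hT : ∀ g : G, g ∈ I ↔
    Cfsg.Agent.Lib.Helper75_Clifford.conjFun N hN (φ : N → ℂ) g = (φ : N → ℂ))

/-- An extension of `φ` to `I` is a constituent of the induced character. -/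
theorem constituent_of_ext (ψ : Cfsg.IrrCharacter I)
    (hψ : ∀ n : N, (ψ : I → ℂ) (Subgroup.inclusion hNI n) = (φ : N → ℂ) n) :
    Cfsg.classInner (Cfsg.indFun (N.subgroupOf I) (resSubgroupOf N I (φ : N → ℂ)))
      (ψ : I → ℂ) ≠ 0 := by
  have : Fintype (N.subgroupOf I) := Fintype.ofFinite _
  rw [frobenius_reciprocity (N.subgroupOf I) _ (ψ : I → ℂ) (isClassFunction_of_isIrrCharacter ψ.2),
    classInner_resSubgroupOf N I hNI]
  have h1 : (fun n : N => (ψ : I → ℂ) ⟨(n : G), hNI n.2⟩) = (φ : N → ℂ) := by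
    funext n
    exact hψ n
  rw [h1, classInner_self_of_isIrrCharacter φ.2]
  exact one_ne_zero

include hT in
/-- Clifford correspondence: the induced character of an extension is irreducible. -/
theorem indFun_irr_of_ext (ψ : Cfsg.IrrCharacter I)
    (hψ : ∀ n : N, (ψ : I → ℂ) (Subgroup.inclusion hNI n) = (φ : N → ℂ) n) :
    Cfsg.IsIrrCharacter G (Cfsg.indFun I (ψ : I → ℂ)) := by
  have h := (corr_core N I hN hNI φ.2 hT ψ (constituent_of_ext N I hNI φ ψ hψ)).1
  exact isIrrCharacter_of_classInner_self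
    (Cfsg.Agent.Lib.Helper75_IndChar.isCharacter_indFun I (isCharacter_of_isIrrCharacter ψ.2)) h

include hT in
/-- Clifford correspondence: injectivity on extensions. -/
theorem ext_eq_of_indFun_eq (ψ₁ ψ₂ : Cfsg.IrrCharacter I)
    (hψ₁ : ∀ n : N, (ψ₁ : I → ℂ) (Subgroup.inclusion hNI n) = (φ : N → ℂ) n)
    (hψ₂ : ∀ n : N, (ψ₂ : I → ℂ) (Subgroup.inclusion hNI n) = (φ : N → ℂ) n)
    (h : Cfsg.indFun I (ψ₁ : I → ℂ) = Cfsg.indFun I (ψ₂ : I → ℂ)) : ψ₁ = ψ₂ := by
  by_contra hne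
  have hcore := corr_core N I hN hNI φ.2 hT ψ₁ (constituent_of_ext N I hNI φ ψ₁ hψ₁)
  have h0 := hcore.2 ψ₂ (fun e => hne e.symm) (constituent_of_ext N I hNI φ ψ₂ hψ₂)
  rw [← h, hcore.1] at h0
  exact one_ne_zero h0

include hT in
/-- Two linear characters of `G`, trivial on `N`, with the same product with `Ind ψ` agree
on `I`. -/
theorem lin_res_eq (ψ : Cfsg.IrrCharacter I)
    (hψ : ∀ n : N, (ψ : I → ℂ) (Subgroup.inclusion hNI n) = (φ : N → ℂ) n)
    {lam mu : G → ℂ} (hlam : IsLin G lam) (hmu : IsLin G mu)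
    (hlamN : ∀ n : N, lam n = 1) (hmuN : ∀ n : N, mu n = 1)
    (h : lam * Cfsg.indFun I (ψ : I → ℂ) = mu * Cfsg.indFun I (ψ : I → ℂ)) :
    ∀ x : I, lam x = mu x := by
  have hNn : (N.subgroupOf I).Normal := by
    have := hN
    infer_instance
  have hlamI : IsLin I (fun x : I => lam x) := hlam.res I
  have hmuI : IsLin I (fun x : I => mu x) := hmu.res I
  have hirr₁ : Cfsg.IsIrrCharacter I ((fun x : I => lam x) * (ψ : I → ℂ)) := hlamI.mul_irr ψ.2
  have hirr₂ : Cfsg.IsIrrCharacter I ((fun x : I => mu x) * (ψ : I → ℂ)) := hmuI.mul_irr ψ.2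
  have hext₁ : ∀ n : N, ((fun x : I => lam x) * (ψ : I → ℂ)) (Subgroup.inclusion hNI n) =
      (φ : N → ℂ) n := by
    intro n
    rw [Pi.mul_apply, hψ n]
    have : lam ((Subgroup.inclusion hNI n : I) : G) = 1 := hlamN n
    rw [this, one_mul]
  have hext₂ : ∀ n : N, ((fun x : I => mu x) * (ψ : I → ℂ)) (Subgroup.inclusion hNI n) =
      (φ : N → ℂ) n := by
    intro n
    rw [Pi.mul_apply, hψ n]
    have : mu ((Subgroup.inclusion hNI n : I) : G) = 1 := hmuN n
    rw [this, one_mul]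
  have hind₁ : Cfsg.indFun I ((fun x : I => lam x) * (ψ : I → ℂ)) =
      lam * Cfsg.indFun I (ψ : I → ℂ) := by
    have := Cfsg.Agent.Lib.Helper75_CharProd.indFun_mul I (ψ : I → ℂ)
      (isClassFunction_of_isIrrCharacter hlam.irr)
    rw [mul_comm lam, this, mul_comm]
    rfl
  have hind₂ : Cfsg.indFun I ((fun x : I => mu x) * (ψ : I → ℂ)) =
      mu * Cfsg.indFun I (ψ : I → ℂ) := by
    have := Cfsg.Agent.Lib.Helper75_CharProd.indFun_mul I (ψ : I → ℂ)
      (isClassFunction_of_isIrrCharacter hmu.irr)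
    rw [mul_comm mu, this, mul_comm]
    rfl
  have heq := ext_eq_of_indFun_eq N I hN hNI φ hT ⟨_, hirr₁⟩ ⟨_, hirr₂⟩ hext₁ hext₂
    (by rw [hind₁, hind₂, h])
  have heq' : (fun x : I => lam x) * (ψ : I → ℂ) = (fun x : I => mu x) * (ψ : I → ℂ) :=
    congrArg Subtype.val heq
  have hcN : Cfsg.IsIrrCharacter (N.subgroupOf I) (fun n : N.subgroupOf I => (ψ : I → ℂ) n) := by
    have h1 := isIrrCharacter_resSubgroupOf N I hNI φ.2
    have h2 : resSubgroupOf N I (φ : N → ℂ) = fun n : N.subgroupOf I => (ψ : I → ℂ) n := by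
      funext x
      have := hψ ⟨(x : I), Subgroup.mem_subgroupOf.mp x.2⟩
      exact this.symm
    rw [← h2]
    exact h1
  have hres := Cfsg.Agent.Lib.Helper76_ResidualExt.lin_mul_cancel (N.subgroupOf I) hlamI hmuI
    (fun n => hlamN ⟨((n : I) : G), Subgroup.mem_subgroupOf.mp n.2⟩)
    (fun n => hmuN ⟨((n : I) : G), Subgroup.mem_subgroupOf.mp n.2⟩) ψ.2 hcN heq'
  intro x
  exact congrFun hres x

end Cfsg.Agent.Lib.Helper80_IndFSC
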