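import Mathlib
import Cfsg.Prelude.Def_Characters
import Cfsg.Agent.Lib.Helper80_CharComplete
import Cfsg.Agent.Lib.Helper3_CharGaloisAct

/-!
# A Knörr-type bound (helper80)

If an element `g` of a finite group is a zero of no irreducible character, then the number of
irreducible characters is at most `|C_G(g)|`, and in case of equality all `|χ(g)| = 1`.
Also: a character of degree prime to `p` does not vanish at elements of `p`-power order.
-/

set_option autoImplicit false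
set_option linter.unusedSectionVars false

namespace Cfsg.Agent.Lib.Helper80_Knorr

open scoped ComplexConjugate
open Polynomial
open Cfsg.Agent.Lib.Helper3_CharEigen Cfsg.Agent.Lib.Helper3_CharGaloisAct
open Cfsg.Agent.Lib.Helper80_CharBasic Cfsg.Agent.Lib.Helper80_CharComplete

/-! ### a real inequality -/

theorem card_le_sum_of_one_le_prod {ι : Type*} (s : Finset ι) (f : ι → ℝ) (hpos : ∀ i ∈ s, 0 < f i)
    (hprod : 1 ≤ ∏ i ∈ s, f i) :
    (s.card : ℝ) ≤ ∑ i ∈ s, f i ∧ (∑ i ∈ s, f i = s.card → ∀ i ∈ s, f i = 1) := by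
  have hlog : 0 ≤ ∑ i ∈ s, Real.log (f i) := by
    rw [← Real.log_prod (fun i hi => (hpos i hi).ne')]
    exact Real.log_nonneg hprod
  have hterm : ∀ i ∈ s, Real.log (f i) ≤ f i - 1 :=
    fun i hi => Real.log_le_sub_one_of_pos (hpos i hi)
  have hsum : ∑ i ∈ s, Real.log (f i) ≤ ∑ i ∈ s, (f i - 1) := Finset.sum_le_sum hterm
  have hsum2 : ∑ i ∈ s, (f i - 1) = ∑ i ∈ s, f i - s.card := by
    rw [Finset.sum_sub_distrib, Finset.sum_const, nsmul_eq_mul, mul_one]
  refine ⟨by linarith, ?_⟩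
  intro heq i hi
  by_contra hne
  have hlt : Real.log (f i) < f i - 1 := Real.log_lt_sub_one_of_pos (hpos i hi) hne
  have hsum3 : ∑ j ∈ s, Real.log (f j) < ∑ j ∈ s, (f j - 1) :=
    Finset.sum_lt_sum hterm ⟨i, hi, hlt⟩
  linarith

/-! ### non-vanishing at `p`-elements -/

section nonvanish

variable {G : Type*} [Group G] [Finite G] {V : Type*} [AddCommGroup V] [Module ℂ V]
  [FiniteDimensional ℂ V] (ρ : Representation ℂ G V)

theorem char_ne_zero_of_orderOf_prime_pow (p : ℕ) [hp : Fact p.Prime] (g : G) (j : ℕ)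
    (hg : orderOf g = p ^ j) (hdeg : ¬ p ∣ Module.finrank ℂ V) : ρ.character g ≠ 0 := by
  classical
  rcases j with _ | k
  · rw [pow_zero, orderOf_eq_one_iff] at hg
    subst hg
    rw [Representation.char_one]
    intro h
    have : Module.finrank ℂ V = 0 := by exact_mod_cast h
    exact hdeg (this ▸ dvd_zero p)
  · intro hzero
    have hn0 : p ^ (k + 1) ≠ 0 := pow_ne_zero _ hp.out.ne_zero
    set ζ : ℂ := Complex.exp (2 * Real.pi * Complex.I / ((p ^ (k + 1) : ℕ) : ℂ)) with hζdef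
    have hζ : IsPrimitiveRoot ζ (p ^ (k + 1)) := Complex.isPrimitiveRoot_exp _ hn0
    have hex : ∀ μ : {μ // μ ∈ eigSet (ρ g)}, ∃ i : ℕ, ζ ^ i = μ.1 := by
      intro μ
      have h1 : μ.1 ^ (p ^ (k + 1)) = 1 := by
        rw [← hg]; exact eig_pow_orderOf ρ μ.2
      obtain ⟨i, -, hi⟩ := hζ.eq_pow_of_pow_eq_one h1
      exact ⟨i, hi⟩
    choose idx hidx using hex
    set f : ℤ[X] := ∑ μ ∈ (eigSet (ρ g)).attach,
      C ((Module.finrank ℂ (Module.End.eigenspace (ρ g) μ.1) : ℕ) : ℤ) * X ^ (idx μ) with hf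
    have haeval : aeval ζ f = ρ.character g := by
      rw [hf, map_sum, char_eq_sum ρ g,
        ← Finset.sum_attach (eigSet (ρ g))
          (fun μ => (Module.finrank ℂ (Module.End.eigenspace (ρ g) μ) : ℂ) * μ)]
      refine Finset.sum_congr rfl (fun μ _ => ?_)
      rw [map_mul, aeval_C, map_pow, aeval_X, hidx μ]
      simp
    have heval : f.eval 1 = (Module.finrank ℂ V : ℤ) := by
      rw [hf, eval_finset_sum, finrank_eq_sum ρ g, Nat.cast_sum,
        ← Finset.sum_attach (eigSet (ρ g))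
          (fun μ => ((Module.finrank ℂ (Module.End.eigenspace (ρ g) μ) : ℕ) : ℤ))]
      refine Finset.sum_congr rfl (fun μ _ => ?_)
      rw [eval_mul, eval_C, eval_pow, eval_X, one_pow, mul_one]
    have hint : IsIntegral ℤ ζ := hζ.isIntegral (Nat.pos_of_ne_zero hn0)
    have hdvd : minpoly ℤ ζ ∣ f := minpoly.isIntegrallyClosed_dvd hint (by rw [haeval, hzero])
    rw [← cyclotomic_eq_minpoly hζ (Nat.pos_of_ne_zero hn0)] at hdvd
    obtain ⟨q, hq⟩ := hdvd
    have h2 := congrArg (eval 1) hq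
    rw [heval, eval_mul, eval_one_cyclotomic_prime_pow] at h2
    apply hdeg
    have h3 : (p : ℤ) ∣ (Module.finrank ℂ V : ℤ) := ⟨_, h2⟩
    exact_mod_cast h3

end nonvanish

/-! ### the norm of a character value -/

section norm

variable {G : Type*} [Group G] [Finite G] {V : Type*} [AddCommGroup V] [Module ℂ V]
  [FiniteDimensional ℂ V] (ρ : Representation ℂ G V)

theorem isIntegral_charK (g : G) : IsIntegral ℤ (charK ρ g) := by
  have h := isIntegral_char ρ g
  rw [← coe_charK ρ g] at h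
  exact (isIntegral_algebraMap_iff (algebraMap (cyc (Nat.card G)) ℂ).injective).mp h

theorem charK_ne_zero (g : G) (h0 : ρ.character g ≠ 0) : charK ρ g ≠ 0 := by
  intro h
  apply h0
  rw [← coe_charK ρ g, h]
  rfl

theorem prod_conj_charK (g : G) (h0 : ρ.character g ≠ 0) [NeZero (Nat.card G)] :
    ∃ n : ℤ, n ≠ 0 ∧
      ∏ σ : (cyc (Nat.card G) ≃ₐ[ℚ] cyc (Nat.card G)),
        ((σ (charK ρ g) : cyc (Nat.card G)) : ℂ) = (n : ℂ) := by
  have ha0 := charK_ne_zero ρ g h0
  have hint : IsIntegral ℤ (Algebra.norm ℚ (charK ρ g)) :=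
    Algebra.isIntegral_norm ℚ (isIntegral_charK ρ g)
  obtain ⟨n, hn⟩ := IsIntegrallyClosed.isIntegral_iff.mp hint
  have hn0 : n ≠ 0 := by
    rintro rfl
    rw [map_zero] at hn
    exact ha0 (Algebra.norm_eq_zero_iff.mp hn.symm)
  refine ⟨n, hn0, ?_⟩
  have h1 := Algebra.norm_eq_prod_automorphisms ℚ (charK ρ g)
  have h2 := congrArg (algebraMap (cyc (Nat.card G)) ℂ) h1
  rw [map_prod, ← hn] at h2
  have h3 : ∏ σ : (cyc (Nat.card G) ≃ₐ[ℚ] cyc (Nat.card G)),
      ((σ (charK ρ g) : cyc (Nat.card G)) : ℂ) =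
      algebraMap (cyc (Nat.card G)) ℂ (algebraMap ℚ (cyc (Nat.card G)) (algebraMap ℤ ℚ n)) :=
    h2.symm
  rw [h3]
  simp

theorem sum_normSq_conj_ge (g : G) (h0 : ρ.character g ≠ 0) [NeZero (Nat.card G)] :
    (Fintype.card (cyc (Nat.card G) ≃ₐ[ℚ] cyc (Nat.card G)) : ℝ) ≤
      ∑ σ : (cyc (Nat.card G) ≃ₐ[ℚ] cyc (Nat.card G)),
        Complex.normSq ((σ (charK ρ g) : cyc (Nat.card G)) : ℂ) ∧
    (∑ σ : (cyc (Nat.card G) ≃ₐ[ℚ] cyc (Nat.card G)),
        Complex.normSq ((σ (charK ρ g) : cyc (Nat.card G)) : ℂ) =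
      Fintype.card (cyc (Nat.card G) ≃ₐ[ℚ] cyc (Nat.card G)) →
      Complex.normSq (ρ.character g) = 1) := by
  obtain ⟨n, hn0, hprod⟩ := prod_conj_charK ρ g h0
  have ha0 := charK_ne_zero ρ g h0
  have hpos : ∀ σ ∈ (Finset.univ : Finset (cyc (Nat.card G) ≃ₐ[ℚ] cyc (Nat.card G))),
      0 < Complex.normSq ((σ (charK ρ g) : cyc (Nat.card G)) : ℂ) := by
    intro σ _
    apply Complex.normSq_pos.mpr
    intro h
    have h1 : σ (charK ρ g) = 0 := Subtype.ext h
    exact ha0 ((map_eq_zero_iff σ σ.injective).mp h1)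
  have hprod' : 1 ≤ ∏ σ : (cyc (Nat.card G) ≃ₐ[ℚ] cyc (Nat.card G)),
      Complex.normSq ((σ (charK ρ g) : cyc (Nat.card G)) : ℂ) := by
    rw [← map_prod Complex.normSq, hprod, Complex.normSq_intCast]
    have h1 : (1 : ℤ) ≤ n * n := by
      have := mul_self_pos.mpr hn0
      omega
    exact_mod_cast h1
  have h := card_le_sum_of_one_le_prod Finset.univ _ hpos hprod'
  rw [Finset.card_univ] at h
  refine ⟨h.1, fun heq => ?_⟩
  have h2 := h.2 heq (1 : cyc (Nat.card G) ≃ₐ[ℚ] cyc (Nat.card G)) (Finset.mem_univ _)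
  rw [AlgEquiv.one_apply, coe_charK] at h2
  exact h2

end norm

/-! ### the bound -/

theorem centralizer_pow_eq {G : Type*} [Group G] [Finite G] (g : G) (m : ℕ)
    (hm : m.Coprime (Nat.card G)) :
    Subgroup.centralizer ({g ^ m} : Set G) = Subgroup.centralizer ({g} : Set G) := by
  have hm' : m.Coprime (orderOf g) := Nat.Coprime.coprime_dvd_right (orderOf_dvd_natCard g) hm
  obtain ⟨m', hm'⟩ := exists_pow_eq_self_of_coprime hm'
  ext x
  simp only [Subgroup.mem_centralizer_iff, Set.mem_singleton_iff, forall_eq]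
  constructor
  · intro h
    have h1 : Commute (g ^ m) x := h
    have h2 := h1.pow_left m'
    rw [hm'] at h2
    exact h2
  · intro h
    have h1 : Commute g x := h
    exact h1.pow_left m

/-- If `g` is a zero of no irreducible character then `k(G) ≤ |C_G(g)|`, with all `|χ(g)| = 1` in
case of equality. -/
theorem card_irr_le_card_centralizer {G : Type*} [Group G] [Finite G] (g : G)
    (h0 : ∀ χ : Cfsg.IrrCharacter G, (χ : G → ℂ) g ≠ 0) :
    Nat.card (Cfsg.IrrCharacter G) ≤ Nat.card (Subgroup.centralizer ({g} : Set G)) ∧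
    (Nat.card (Cfsg.IrrCharacter G) = Nat.card (Subgroup.centralizer ({g} : Set G)) →
      ∀ χ : Cfsg.IrrCharacter G, Complex.normSq ((χ : G → ℂ) g) = 1) := by
  classical
  haveI : Fintype G := Fintype.ofFinite G
  haveI : Fintype (Cfsg.IrrCharacter G) := Fintype.ofFinite _
  haveI : NeZero (Nat.card G) := ⟨Nat.card_pos.ne'⟩
  have hrep : ∀ χ : Cfsg.IrrCharacter G, ∃ (n : ℕ) (ρ : Representation ℂ G (Fin n → ℂ)),
      ρ.IsIrreducible ∧ ρ.character = (χ : G → ℂ) := fun χ => χ.2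
  choose d ρ hirr hchar using hrep
  set F : Cfsg.IrrCharacter G → (cyc (Nat.card G) ≃ₐ[ℚ] cyc (Nat.card G)) → ℝ :=
    fun χ σ => Complex.normSq ((σ (charK (ρ χ) g) : cyc (Nat.card G)) : ℂ) with hF
  set c : ℕ := Nat.card (Subgroup.centralizer ({g} : Set G)) with hc
  set γ : ℕ := Fintype.card (cyc (Nat.card G) ≃ₐ[ℚ] cyc (Nat.card G)) with hγ
  have hγpos : (0 : ℝ) < γ := by
    have : 0 < γ := Fintype.card_pos
    exact_mod_cast this
  have hcol : ∀ σ : (cyc (Nat.card G) ≃ₐ[ℚ] cyc (Nat.card G)), ∑ χ, F χ σ = (c : ℝ) := by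
    intro σ
    obtain ⟨m, hm, hσ⟩ := aut_eq_pow (Nat.card G) σ
    have h1 : ∀ χ, F χ σ = Complex.normSq ((χ : G → ℂ) (g ^ m)) := by
      intro χ
      simp only [hF]
      rw [coe_aut_charK (ρ χ) g σ m hσ, hchar]
    rw [Finset.sum_congr rfl (fun χ _ => h1 χ)]
    have h2 := second_orthogonality_sum (g ^ m) (g ^ m)
    rw [if_pos (IsConj.refl _), centralizer_pow_eq g m hm] at h2
    have h3 : ((∑ χ : Cfsg.IrrCharacter G, Complex.normSq ((χ : G → ℂ) (g ^ m)) : ℝ) : ℂ) =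
        (c : ℂ) := by
      rw [← h2]
      push_cast
      refine Finset.sum_congr rfl (fun χ _ => ?_)
      rw [Complex.mul_conj]
    exact_mod_cast h3
  have hrow : ∀ χ : Cfsg.IrrCharacter G, (γ : ℝ) ≤ ∑ σ, F χ σ :=
    fun χ => (sum_normSq_conj_ge (ρ χ) g (by rw [hchar]; exact h0 χ)).1
  have htotal : ∑ χ, ∑ σ, F χ σ = (γ : ℝ) * c := by
    rw [Finset.sum_comm, Finset.sum_congr rfl (fun σ _ => hcol σ), Finset.sum_const,
      Finset.card_univ, nsmul_eq_mul]
  have hk : (Nat.card (Cfsg.IrrCharacter G) : ℝ) * γ ≤ (γ : ℝ) * c := by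
    rw [← htotal, Nat.card_eq_fintype_card, ← Finset.card_univ, ← nsmul_eq_mul,
      ← Finset.sum_const]
    exact Finset.sum_le_sum (fun χ _ => hrow χ)
  have hle : (Nat.card (Cfsg.IrrCharacter G) : ℝ) ≤ c := by
    rw [mul_comm] at hk
    exact le_of_mul_le_mul_left hk hγpos
  refine ⟨by exact_mod_cast hle, ?_⟩
  intro heq χ
  have hsum0 : ∑ χ : Cfsg.IrrCharacter G, ((∑ σ, F χ σ) - γ) = 0 := by
    rw [Finset.sum_sub_distrib, htotal, Finset.sum_const, Finset.card_univ, nsmul_eq_mul,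
      ← Nat.card_eq_fintype_card, heq]
    ring
  have hzero := (Finset.sum_eq_zero_iff_of_nonneg
    (fun χ _ => sub_nonneg.mpr (hrow χ))).mp hsum0 χ (Finset.mem_univ χ)
  have h4 := (sum_normSq_conj_ge (ρ χ) g (by rw [hchar]; exact h0 χ)).2
    (by linarith [hzero])
  rw [hchar] at h4
  exact h4

end Cfsg.Agent.Lib.Helper80_Knorr
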