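import Mathlib

/-!
# Group algebra generalities for the lifting theorem (helper80)
-/

set_option autoImplicit false

namespace Cfsg.Agent.Lib.Helper80_LiftA

open MonoidAlgebra

variable {R : Type*} [CommRing R] {G : Type*} [Group G]

/-- the coefficient at `1` is a trace function -/
theorem coeff_one_mul_comm (a b : MonoidAlgebra R G) : (a * b).coeff 1 = (b * a).coeff 1 := by
  rw [coeff_mul_apply_left, coeff_mul_apply_right]
  apply Finsupp.sum_congr
  intro h _
  simp [mul_comm]

/-- coefficient extraction via the trace function -/
theorem coeff_mul_of_inv (x : MonoidAlgebra R G) (g : G) :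
    (x * of R G g⁻¹).coeff 1 = x.coeff g := by
  rw [of_apply, coeff_mul_single_apply]
  simp

theorem coeff_of_mul_mul_of_inv (x : MonoidAlgebra R G) (h : G) :
    (of R G h * x * of R G h⁻¹).coeff 1 = x.coeff 1 := by
  rw [coeff_one_mul_comm, ← mul_assoc, ← map_mul]
  simp

/-- an element commuting with all group elements is central -/
theorem commute_of_forall_of (z : MonoidAlgebra R G)
    (h : ∀ g : G, of R G g * z = z * of R G g) (x : MonoidAlgebra R G) : x * z = z * x := by
  induction x using MonoidAlgebra.induction_on with
  | of g => exact h g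
  | add a b ha hb => rw [add_mul, mul_add, ha, hb]
  | smul r a ha => rw [smul_mul_assoc, mul_smul_comm, ha]

section avg

variable [Fintype G]

/-- the class average of an element -/
noncomputable def avg (y : MonoidAlgebra R G) : MonoidAlgebra R G :=
  ∑ h : G, of R G h * y * of R G h⁻¹

theorem of_mul_avg (g : G) (y : MonoidAlgebra R G) : of R G g * avg y = avg y * of R G g := by
  unfold avg
  rw [Finset.mul_sum, Finset.sum_mul]
  apply Fintype.sum_equiv (Equiv.mulLeft g)
  intro h
  simp only [Equiv.coe_mulLeft, mul_inv_rev, map_mul, mul_assoc]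
  rw [← map_mul (of R G) g⁻¹ g]
  simp

theorem avg_central (y x : MonoidAlgebra R G) : x * avg y = avg y * x :=
  commute_of_forall_of _ (fun g => of_mul_avg g y) x

theorem coeff_central_mul_avg (e : MonoidAlgebra R G) (he : ∀ x, e * x = x * e)
    (y : MonoidAlgebra R G) :
    (e * avg y).coeff 1 = (Fintype.card G : R) * (e * y).coeff 1 := by
  unfold avg
  rw [Finset.mul_sum, coeff_sum, Finsupp.coe_finsetSum, Finset.sum_apply]
  have : ∀ h : G, (e * (of R G h * y * of R G h⁻¹)).coeff 1 = (e * y).coeff 1 := by
    intro h
    rw [← mul_assoc, ← mul_assoc, he, mul_assoc (of R G h), coeff_of_mul_mul_of_inv]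
  rw [Finset.sum_congr rfl (fun h _ => this h)]
  simp

end avg

section trace

variable {K : Type*} [Field K] [Fintype G] [DecidableEq G]

/-- the trace of left multiplication on the group algebra -/
theorem trace_mulLeft (x : MonoidAlgebra K G) :
    LinearMap.trace K (MonoidAlgebra K G) (LinearMap.mulLeft K x) =
      (Fintype.card G : K) * x.coeff 1 := by
  rw [LinearMap.trace_eq_matrix_trace K (MonoidAlgebra.basis G K), Matrix.trace]
  have : ∀ g : G, (LinearMap.toMatrix (MonoidAlgebra.basis G K) (MonoidAlgebra.basis G K)
      (LinearMap.mulLeft K x)).diag g = x.coeff 1 := by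
    intro g
    rw [Matrix.diag_apply, LinearMap.toMatrix_apply, basis_apply, LinearMap.mulLeft_apply]
    show (x * single g 1).coeff g = _
    rw [coeff_mul_single_apply]
    simp
  rw [Finset.sum_congr rfl (fun g _ => this g)]
  simp

/-- `|G|` times the coefficient at `1` of an idempotent is a natural number -/
theorem exists_nat_of_idempotent (e : MonoidAlgebra K G) (he : e * e = e) :
    ∃ n : ℕ, (Fintype.card G : K) * e.coeff 1 = n := by
  rw [← trace_mulLeft]
  have hproj : LinearMap.IsProj (LinearMap.range (LinearMap.mulLeft K e)) (LinearMap.mulLeft K e) := by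
    refine ⟨fun x => LinearMap.mem_range_self _ x, ?_⟩
    rintro _ ⟨y, rfl⟩
    simp only [LinearMap.mulLeft_apply]
    rw [← mul_assoc, he]
  exact ⟨_, hproj.trace⟩

end trace

end Cfsg.Agent.Lib.Helper80_LiftA
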