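import Mathlib
import Cfsg.Agent.Lib.Helper80_LiftA

/-!
# Wedderburn blocks of a split semisimple group algebra (helper80)
-/

set_option autoImplicit false

namespace Cfsg.Agent.Lib.Helper80_LiftB

open MonoidAlgebra

variable {K : Type*} [Field K] {G : Type*} [Group G] {n : ℕ} {d : Fin n → ℕ}
  (φ : MonoidAlgebra K G ≃ₐ[K] Π i : Fin n, Matrix (Fin (d i)) (Fin (d i)) K)

/-- the projection onto the `i`-th Wedderburn block -/
noncomputable def blk (i : Fin n) : MonoidAlgebra K G →ₐ[K] Matrix (Fin (d i)) (Fin (d i)) K :=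
  (Pi.evalAlgHom K (fun i : Fin n => Matrix (Fin (d i)) (Fin (d i)) K) i).comp φ.toAlgHom

theorem blk_apply (i : Fin n) (x : MonoidAlgebra K G) : blk φ i x = φ x i := rfl

/-- the `i`-th central idempotent -/
noncomputable def idem (i : Fin n) : MonoidAlgebra K G := φ.symm (Pi.single i 1)

theorem phi_idem (i : Fin n) : φ (idem φ i) = Pi.single i 1 := by
  unfold idem
  simp

theorem blk_idem_self (i : Fin n) : blk φ i (idem φ i) = 1 := by
  rw [blk_apply, phi_idem]
  simp

theorem blk_idem_ne {i j : Fin n} (h : i ≠ j) : blk φ i (idem φ j) = 0 := by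
  rw [blk_apply, phi_idem]
  simp [Pi.single_apply, h]

theorem blk_surjective (i : Fin n) : Function.Surjective (blk φ i) := by
  intro M
  refine ⟨φ.symm (Pi.single i M), ?_⟩
  rw [blk_apply]
  simp

theorem idem_central (i : Fin n) (x : MonoidAlgebra K G) : idem φ i * x = x * idem φ i := by
  apply φ.injective
  rw [map_mul, map_mul, phi_idem]
  funext j
  by_cases h : j = i
  · subst h
    simp
  · simp [Pi.single_apply, h]

theorem idem_mul_self (i : Fin n) : idem φ i * idem φ i = idem φ i := by
  apply φ.injective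
  rw [map_mul, phi_idem]
  funext j
  by_cases h : j = i
  · subst h
    simp
  · simp [Pi.single_apply, h]

theorem sum_idem : ∑ i, idem φ i = 1 := by
  apply φ.injective
  rw [map_sum, map_one]
  simp only [phi_idem]
  exact Finset.univ_sum_single (1 : Π i : Fin n, Matrix (Fin (d i)) (Fin (d i)) K)

theorem idem_ne_zero [∀ i, NeZero (d i)] (i : Fin n) : idem φ i ≠ 0 := by
  intro h
  have h1 := blk_idem_self φ i
  rw [h, map_zero] at h1
  have : Nonempty (Fin (d i)) := ⟨⟨0, Nat.pos_of_ne_zero (NeZero.ne _)⟩⟩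
  exact zero_ne_one h1

/-- a central element acts on each block as a scalar -/
theorem exists_scalar (i : Fin n) (z : MonoidAlgebra K G) (hz : ∀ x, x * z = z * x) :
    ∃ ω : K, blk φ i z = algebraMap K _ ω := by
  have h1 : blk φ i z ∈ Set.range (Matrix.scalar (Fin (d i))) := by
    rw [Matrix.mem_range_scalar_iff_commute_single']
    intro a b
    obtain ⟨x, hx⟩ := blk_surjective φ i (Matrix.single a b 1)
    rw [← hx]
    show blk φ i x * blk φ i z = blk φ i z * blk φ i x
    rw [← map_mul, ← map_mul, hz]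
  obtain ⟨ω, hω⟩ := h1
  exact ⟨ω, hω.symm⟩

theorem mul_idem_of_scalar (i : Fin n) (z : MonoidAlgebra K G) (ω : K)
    (hω : blk φ i z = algebraMap K _ ω) : z * idem φ i = ω • idem φ i := by
  apply φ.injective
  rw [map_mul, map_smul, phi_idem]
  funext j
  by_cases h : j = i
  · subst h
    have : φ z j = algebraMap K _ ω := hω
    simp [this, Algebra.algebraMap_eq_smul_one]
  · simp [Pi.single_apply, h]

/-- the central character of an integral central element is an algebraic integer -/
theorem isIntegral_scalar [Finite G] [∀ i, NeZero (d i)] (i : Fin n) (z₀ : MonoidAlgebra ℤ G) (ω : K)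
    (hω : blk φ i (mapRingHom G (Int.castRingHom K) z₀) = algebraMap K _ ω) :
    IsIntegral ℤ ω := by
  have : Fintype G := Fintype.ofFinite G
  have : Module.Finite ℤ (MonoidAlgebra ℤ G) := Module.Finite.of_basis (MonoidAlgebra.basis G ℤ)
  have h1 : IsIntegral ℤ z₀ := IsIntegral.of_finite ℤ z₀
  have h2 : IsIntegral ℤ (((blk φ i).toRingHom.comp
      (mapRingHom G (Int.castRingHom K))).toIntAlgHom z₀) := h1.map _
  have h3 : ((blk φ i).toRingHom.comp (mapRingHom G (Int.castRingHom K))).toIntAlgHom z₀ =
      algebraMap K _ ω := hω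
  rw [h3] at h2
  have : Nonempty (Fin (d i)) := ⟨⟨0, Nat.pos_of_ne_zero (NeZero.ne _)⟩⟩
  exact (isIntegral_algebraMap_iff
    (algebraMap K (Matrix (Fin (d i)) (Fin (d i)) K)).injective).1 h2

end Cfsg.Agent.Lib.Helper80_LiftB
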