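import Mathlib

/-!
# A Nakayama-type vanishing lemma for scaled idempotents of a group ring (helper80)
-/

set_option autoImplicit false

namespace Cfsg.Agent.Lib.Helper80_LiftC

open MonoidAlgebra

variable {O : Type*} [CommRing O] [IsDomain O] {G : Type*} [Group G] [Finite G]

/-- a scaled idempotent with all coefficients in a proper ideal, the scale being invertible modulo
that ideal, vanishes -/
theorem eq_zero_of_mul_self (𝔪 : Ideal O) (h𝔪 : 𝔪 ≠ ⊤) (u v : O) (huv : u * v - 1 ∈ 𝔪)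
    (y : MonoidAlgebra O G) (hy : ∀ g, y.coeff g ∈ 𝔪) (hyy : y * y = u • y) : y = 0 := by
  set 𝔞 : Ideal O := Ideal.span (Set.range fun g => y.coeff g) with h𝔞
  have hmem : ∀ g, y.coeff g ∈ 𝔞 := fun g => Ideal.subset_span ⟨g, rfl⟩
  have hfg : (𝔞 : Submodule O O).FG := Submodule.fg_span (Set.finite_range _)
  have h𝔞𝔪 : 𝔞 ≤ 𝔪 := by
    rw [h𝔞, Ideal.span_le]
    rintro _ ⟨g, rfl⟩
    exact hy g
  set t : O := u * v - 1 with ht
  have h1 : ∀ g, u * y.coeff g ∈ 𝔞 * 𝔞 := by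
    intro g
    have h2 : (y * y).coeff g = u * y.coeff g := by rw [hyy]; rfl
    rw [← h2, coeff_mul_apply_left, Finsupp.sum]
    apply Ideal.sum_mem
    intro h _
    exact Ideal.mul_mem_mul (hmem h) (hmem _)
  set I : Ideal O := 𝔞 ⊔ Ideal.span {t} with hI
  have hle : (𝔞 : Submodule O O) ≤ I • (𝔞 : Submodule O O) := by
    rw [h𝔞, Ideal.span_le]
    rintro _ ⟨g, rfl⟩
    have h3 : y.coeff g = v * (u * y.coeff g) - t * y.coeff g := by rw [ht]; ring
    show y.coeff g ∈ I • 𝔞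
    rw [h3, smul_eq_mul]
    apply Ideal.sub_mem
    · apply Ideal.mul_mem_left
      exact Ideal.mul_mono_left le_sup_left (h1 g)
    · apply Ideal.mul_mem_mul _ (hmem g)
      exact Ideal.mem_sup_right (Ideal.subset_span rfl)
  obtain ⟨r, hr1, hr2⟩ :=
    Submodule.exists_sub_one_mem_and_smul_eq_zero_of_fg_of_le_smul I 𝔞 hfg hle
  have hI𝔪 : I ≤ 𝔪 := by
    rw [hI]
    apply sup_le h𝔞𝔪
    rw [Ideal.span_le]
    rintro _ rfl
    exact huv
  have hr0 : r ≠ 0 := by
    intro h0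
    apply h𝔪
    rw [Ideal.eq_top_iff_one]
    have h4 := hI𝔪 hr1
    rw [h0, zero_sub] at h4
    simpa using 𝔪.neg_mem h4
  ext g
  have h5 := hr2 (y.coeff g) (hmem g)
  rw [smul_eq_mul] at h5
  rcases mul_eq_zero.1 h5 with h6 | h6
  · exact absurd h6 hr0
  · simpa using h6

end Cfsg.Agent.Lib.Helper80_LiftC
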