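import Mathlib
import Cfsg.Agent.Lib.Helper80_LiftA

/-!
# Norm elements of cyclic subgroups in group rings (helper80)
-/

set_option autoImplicit false

namespace Cfsg.Agent.Lib.Helper80_LiftD

open MonoidAlgebra Cfsg.Agent.Lib.Helper80_LiftA

variable (R : Type*) [CommRing R] {G : Type*} [Group G]

/-- the norm element of the cyclic subgroup generated by `c` -/
noncomputable def nrm (c : G) : MonoidAlgebra R G :=
  ∑ j ∈ Finset.range (orderOf c), of R G (c ^ j)

theorem nrm_mul_of (c : G) : nrm R c * of R G c = nrm R c := by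
  unfold nrm
  rw [Finset.sum_mul]
  have h1 : ∀ j, of R G (c ^ j) * of R G c = of R G (c ^ (j + 1)) := by
    intro j
    rw [← map_mul, pow_succ]
  simp only [h1]
  have h2 := Finset.sum_range_succ' (fun j => of R G (c ^ j)) (orderOf c)
  have h3 := Finset.sum_range_succ (fun j => of R G (c ^ j)) (orderOf c)
  rw [h2] at h3
  simp only [pow_orderOf_eq_one, pow_zero] at h3
  exact add_right_cancel h3

theorem nrm_mul_of_pow (c : G) (l : ℕ) : nrm R c * of R G (c ^ l) = nrm R c := by
  induction l with
  | zero => rw [pow_zero, map_one, mul_one]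
  | succ l ih => rw [pow_succ, map_mul, ← mul_assoc, ih, nrm_mul_of]

theorem nrm_mul_self (c : G) : nrm R c * nrm R c = (orderOf c : R) • nrm R c := by
  have h0 : nrm R c * nrm R c =
      nrm R c * ∑ j ∈ Finset.range (orderOf c), of R G (c ^ j) := rfl
  rw [h0, Finset.mul_sum]
  rw [Finset.sum_congr rfl (fun j _ => nrm_mul_of_pow R c j)]
  rw [Finset.sum_const, Finset.card_range, ← Nat.cast_smul_eq_nsmul R]

variable {R}

theorem map_nrm {S : Type*} [CommRing S] (f : R →+* S) (c : G) :
    mapRingHom G f (nrm R c) = nrm S c := by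
  unfold nrm
  rw [map_sum]
  simp [of_apply]

theorem map_of {S : Type*} [CommRing S] (f : R →+* S) (g : G) :
    mapRingHom G f (of R G g) = of S G g := by
  simp [of_apply]

theorem map_avg [Fintype G] {S : Type*} [CommRing S] (f : R →+* S) (y : MonoidAlgebra R G) :
    mapRingHom G f (avg y) = avg (mapRingHom G f y) := by
  unfold avg
  rw [map_sum]
  simp only [map_mul, map_of]

theorem map_injective {S : Type*} [CommRing S] (f : R →+* S) (hf : Function.Injective f) :
    Function.Injective (mapRingHom G f) := by
  intro x y h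
  ext g
  apply hf
  rw [← coeff_mapRingHom, ← coeff_mapRingHom, h]

end Cfsg.Agent.Lib.Helper80_LiftD
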