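import Mathlib
import Cfsg.Agent.Lib.Helper80_LiftA
import Cfsg.Agent.Lib.Helper80_LiftB
import Cfsg.Agent.Lib.Helper80_LiftC
import Cfsg.Agent.Lib.Helper80_LiftD

/-!
# Integrality of the central idempotents (helper80)
-/

set_option autoImplicit false
set_option linter.unusedSectionVars false

namespace Cfsg.Agent.Lib.Helper80_LiftE

open MonoidAlgebra Cfsg.Agent.Lib.Helper80_LiftA Cfsg.Agent.Lib.Helper80_LiftB
  Cfsg.Agent.Lib.Helper80_LiftC Cfsg.Agent.Lib.Helper80_LiftD

variable {K : Type*} [Field K] [CharZero K] {G : Type*} [Group G] [Fintype G] [DecidableEq G]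
  {n : ℕ} {d : Fin n → ℕ} [∀ i, NeZero (d i)]
  (φ : MonoidAlgebra K G ≃ₐ[K] Π i : Fin n, Matrix (Fin (d i)) (Fin (d i)) K)

/-- the central character evaluated on a class average -/
theorem exists_omega (i : Fin n) (y₀ : MonoidAlgebra ℤ G) :
    ∃ ω : K, IsIntegral ℤ ω ∧
      avg (mapRingHom G (Int.castRingHom K) y₀) * idem φ i = ω • idem φ i ∧
      (Fintype.card G : K) * (idem φ i * mapRingHom G (Int.castRingHom K) y₀).coeff 1 =
        ω * (idem φ i).coeff 1 := by
  obtain ⟨ω, hω⟩ := exists_scalar φ i (avg (mapRingHom G (Int.castRingHom K) y₀))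
    (fun x => avg_central _ x)
  have hint : IsIntegral ℤ ω := by
    apply isIntegral_scalar φ i (avg y₀) ω
    rw [map_avg]
    exact hω
  have h1 := mul_idem_of_scalar φ i _ ω hω
  refine ⟨ω, hint, h1, ?_⟩
  rw [← coeff_central_mul_avg _ (idem_central φ i), idem_central, h1]
  rfl

theorem isIntegral_coeff (i : Fin n) (g : G) :
    IsIntegral ℤ ((Fintype.card G : K) ^ 2 * (idem φ i).coeff g) := by
  obtain ⟨ω, hint, -, h2⟩ := exists_omega φ i (of ℤ G g⁻¹)
  obtain ⟨m, hm⟩ := exists_nat_of_idempotent (idem φ i) (idem_mul_self φ i)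
  rw [map_of, coeff_mul_of_inv] at h2
  have h3 : (Fintype.card G : K) ^ 2 * (idem φ i).coeff g = ω * (m : K) := by
    rw [← hm, pow_two, mul_assoc, h2]
    ring
  rw [h3]
  have h4 : IsIntegral ℤ (m : K) := by
    have := isIntegral_algebraMap (R := ℤ) (A := K) (x := (m : ℤ))
    simpa using this
  exact hint.mul h4

/-- the scaled central idempotent, over the ring of algebraic integers -/
noncomputable def idemO (i : Fin n) : MonoidAlgebra (integralClosure ℤ K) G :=
  ofCoeff (Finsupp.equivFunOnFinite.symm fun g =>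
    (⟨(Fintype.card G : K) ^ 2 * (idem φ i).coeff g, isIntegral_coeff φ i g⟩ :
      integralClosure ℤ K))

theorem map_idemO (i : Fin n) :
    mapRingHom G (algebraMap (integralClosure ℤ K) K) (idemO φ i) =
      ((Fintype.card G : K) ^ 2) • idem φ i := by
  ext g
  rw [coeff_mapRingHom]
  simp [idemO]

theorem algebraMap_injective' :
    Function.Injective (algebraMap (integralClosure ℤ K) K) := Subtype.val_injective

theorem sum_idemO :
    ∑ i, idemO φ i = single 1 (((Fintype.card G : ℕ) : integralClosure ℤ K) ^ 2) := by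
  apply Helper80_LiftD.map_injective _ (algebraMap_injective' (K := K))
  rw [map_sum, mapRingHom_single]
  simp only [map_idemO]
  rw [← Finset.smul_sum, sum_idem]
  rw [one_def, smul_single]
  simp

end Cfsg.Agent.Lib.Helper80_LiftE
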