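import Mathlib
import Cfsg.Agent.Lib.Helper80_LiftE

/-!
# The lifting theorem: a good Wedderburn block (helper80)
-/

set_option autoImplicit false
set_option linter.unusedSectionVars false

namespace Cfsg.Agent.Lib.Helper80_LiftF

open MonoidAlgebra Cfsg.Agent.Lib.Helper80_LiftA Cfsg.Agent.Lib.Helper80_LiftB
  Cfsg.Agent.Lib.Helper80_LiftC Cfsg.Agent.Lib.Helper80_LiftD Cfsg.Agent.Lib.Helper80_LiftE

theorem single_one_mul_eq_smul {R : Type*} [CommRing R] {G : Type*} [Group G] (a : R)
    (x : MonoidAlgebra R G) : single 1 a * x = a • x := by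
  ext g
  rw [coeff_single_one_mul, coeff_smul_apply, smul_eq_mul]

theorem map_smul' {R S : Type*} [CommRing R] [CommRing S] {G : Type*} [Group G] (f : R →+* S)
    (a : R) (x : MonoidAlgebra R G) :
    mapRingHom G f (a • x) = f a • mapRingHom G f x := by
  ext g
  rw [coeff_mapRingHom, coeff_smul_apply, coeff_smul_apply, coeff_mapRingHom, smul_eq_mul,
    smul_eq_mul, map_mul]

variable {K : Type*} [Field K] [CharZero K] {G : Type*} [Group G] [Fintype G] [DecidableEq G]
  {n : ℕ} {d : Fin n → ℕ} [∀ i, NeZero (d i)]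
  (φ : MonoidAlgebra K G ≃ₐ[K] Π i : Fin n, Matrix (Fin (d i)) (Fin (d i)) K)

section main

variable (𝔪 : Ideal (integralClosure ℤ K)) [h𝔪 : 𝔪.IsMaximal]
  (hcard : ((Fintype.card G : ℕ) : integralClosure ℤ K) ∉ 𝔪)
  {E : Type*} [Ring E] (Θ : MonoidAlgebra (integralClosure ℤ K) G →+* E)
  (hΘ𝔪 : ∀ a ∈ 𝔪, Θ (single 1 a) = 0)

include hΘ𝔪 in
theorem theta_unit (a : integralClosure ℤ K) (ha : a ∉ 𝔪)
    (x : MonoidAlgebra (integralClosure ℤ K) G) (hx : Θ (single 1 a * x) = 0) : Θ x = 0 := by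
  obtain ⟨ν, t, ht, h1⟩ := h𝔪.exists_inv ha
  have h2 : x = single 1 ν * (single 1 a * x) + single 1 t * x := by
    rw [← mul_assoc, ← add_mul, single_mul_single, one_mul, ← single_add, h1, ← one_def, one_mul]
  rw [h2, map_add, map_mul, hx, mul_zero, map_mul, hΘ𝔪 t ht, zero_mul, add_zero]

include hcard in
theorem natCast_not_mem (a : ℕ) (ha : a ∣ Fintype.card G ^ 3) :
    ((a : ℕ) : integralClosure ℤ K) ∉ 𝔪 := by
  intro h
  obtain ⟨b, hb⟩ := ha
  apply hcard
  apply h𝔪.isPrime.mem_of_pow_mem 3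
  have : ((Fintype.card G : ℕ) : integralClosure ℤ K) ^ 3 =
      ((a : ℕ) : integralClosure ℤ K) * ((b : ℕ) : integralClosure ℤ K) := by
    rw [← Nat.cast_pow, hb, Nat.cast_mul]
  rw [this]
  exact 𝔪.mul_mem_right _ h

include hcard hΘ𝔪 in
/-- a block on which some norm element acts nontrivially is killed by `Θ` -/
theorem theta_idemO_eq_zero (i : Fin n) (c : G)
    (hΘN : Θ (nrm (integralClosure ℤ K) c) = 0) (hne : blk φ i (nrm K c) ≠ 0) :
    Θ (idemO φ i) = 0 := by
  set mK : K := (Fintype.card G : K) with hmK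
  have hmK0 : mK ≠ 0 := by
    rw [hmK]
    exact Nat.cast_ne_zero.2 Fintype.card_ne_zero
  set e := idem φ i with he
  set N := nrm K c with hN
  set ιG := mapRingHom G (algebraMap (integralClosure ℤ K) K) with hιG
  have hinj : Function.Injective ιG :=
    Helper80_LiftD.map_injective _ (algebraMap_injective' (K := K))
  set xO := idemO φ i * nrm (integralClosure ℤ K) c with hxO
  have hx : ιG xO = (mK ^ 2) • (e * N) := by
    rw [hxO, map_mul, hιG, map_idemO, map_nrm, smul_mul_assoc]
  -- `xO ≠ 0`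
  have hxne : xO ≠ 0 := by
    intro h0
    apply hne
    have h1 : blk φ i (ιG xO) = 0 := by rw [h0, map_zero, map_zero]
    rw [hx, map_smul, map_mul, he, blk_idem_self, one_mul] at h1
    rcases smul_eq_zero.1 h1 with h2 | h2
    · exact absurd h2 (pow_ne_zero 2 hmK0)
    · exact h2
  -- the scaled idempotent relation
  have hr : orderOf c ∣ Fintype.card G := orderOf_dvd_card
  have hNe : N * e = e * N := (idem_central φ i N).symm
  have hxx : xO * xO = (((Fintype.card G ^ 2 * orderOf c : ℕ) : integralClosure ℤ K)) • xO := by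
    apply hinj
    rw [map_mul, map_smul', hx]
    have h1 : e * N * (e * N) = (orderOf c : K) • (e * N) := by
      calc e * N * (e * N) = e * (N * e) * N := by simp only [mul_assoc]
        _ = (e * e) * (N * N) := by rw [hNe]; simp only [mul_assoc]
        _ = (orderOf c : K) • (e * N) := by
          rw [he, idem_mul_self, hN, nrm_mul_self, mul_smul_comm]
    rw [smul_mul_smul_comm, h1, smul_smul, smul_smul]
    congr 1
    simp only [Nat.cast_mul, Nat.cast_pow, hmK, map_mul, map_pow, map_natCast]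
    ring
  -- some coefficient is a unit modulo `𝔪`
  have hu : (((Fintype.card G ^ 2 * orderOf c : ℕ) : integralClosure ℤ K)) ∉ 𝔪 := by
    apply natCast_not_mem 𝔪 hcard
    obtain ⟨s, hs⟩ := hr
    exact ⟨s, by rw [hs]; ring⟩
  obtain ⟨ν, t, ht, hνt⟩ := h𝔪.exists_inv hu
  have hex : ∃ g, xO.coeff g ∉ 𝔪 := by
    by_contra hcon
    push Not at hcon
    apply hxne
    apply eq_zero_of_mul_self 𝔪 h𝔪.ne_top _ ν _ xO hcon hxx
    have : ((Fintype.card G ^ 2 * orderOf c : ℕ) : integralClosure ℤ K) * ν - 1 = -t := by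
      rw [← hνt]; ring
    rw [this]
    exact 𝔪.neg_mem ht
  obtain ⟨g, hg⟩ := hex
  -- the central character
  obtain ⟨ω, hint, h1, h2⟩ := exists_omega φ i (nrm ℤ c * of ℤ G g⁻¹)
  obtain ⟨ni, hni⟩ := exists_nat_of_idempotent (idem φ i) (idem_mul_self φ i)
  rw [map_mul, map_nrm, map_of] at h1 h2
  rw [← mul_assoc, coeff_mul_of_inv] at h2
  set ωO : integralClosure ℤ K := ⟨ω, hint⟩ with hωO
  have hcoeff : xO.coeff g = ωO * ((ni : ℕ) : integralClosure ℤ K) := by
    apply algebraMap_injective' (K := K)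
    rw [← coeff_mapRingHom, ← hιG, hx, coeff_smul_apply, smul_eq_mul, map_mul, map_natCast]
    show mK ^ 2 * (e * N).coeff g = ω * (ni : K)
    rw [← hni, pow_two, mul_assoc, h2]
    ring
  have hωm : ωO ∉ 𝔪 := by
    intro h
    apply hg
    rw [hcoeff]
    exact 𝔪.mul_mem_right _ h
  -- the central element over the integers
  set zO := avg (nrm (integralClosure ℤ K) c * of (integralClosure ℤ K) G g⁻¹) with hzO
  have hz1 : zO * idemO φ i = ωO • idemO φ i := by
    apply hinj
    rw [map_mul, map_smul', hιG, map_idemO, hzO, map_avg, map_mul, map_nrm, map_of,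
      mul_smul_comm, h1, smul_comm]
    rfl
  have hz2 : Θ zO = 0 := by
    rw [hzO, avg, map_sum]
    apply Finset.sum_eq_zero
    intro h _
    rw [map_mul, map_mul, map_mul, hΘN, zero_mul, mul_zero, zero_mul]
  apply theta_unit 𝔪 Θ hΘ𝔪 ωO hωm
  rw [single_one_mul_eq_smul, ← hz1, map_mul, hz2, zero_mul]

include hcard hΘ𝔪 in
/-- **the lifting theorem**: if all norm elements of prime order cyclic subgroups act as zero in
some nonzero "module" in residue characteristic, the same holds in some Wedderburn block in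
characteristic zero -/
theorem exists_good_block [Nontrivial E]
    (hΘN : ∀ c : G, (orderOf c).Prime → Θ (nrm (integralClosure ℤ K) c) = 0) :
    ∃ i, ∀ c : G, (orderOf c).Prime → blk φ i (nrm K c) = 0 := by
  by_contra hcon
  push Not at hcon
  have h1 : ∀ i, Θ (idemO φ i) = 0 := by
    intro i
    obtain ⟨c, hc, hne⟩ := hcon i
    exact theta_idemO_eq_zero φ 𝔪 hcard Θ hΘ𝔪 i c (hΘN c hc) hne
  have h2 : Θ (single 1 (((Fintype.card G : ℕ) : integralClosure ℤ K) ^ 2)) = 0 := by
    rw [← sum_idemO φ, map_sum]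
    exact Finset.sum_eq_zero (fun i _ => h1 i)
  have h3 : (((Fintype.card G : ℕ) : integralClosure ℤ K) ^ 2) ∉ 𝔪 := by
    intro h
    exact hcard (h𝔪.isPrime.mem_of_pow_mem 2 h)
  have h4 : Θ 1 = 0 := by
    apply theta_unit 𝔪 Θ hΘ𝔪 _ h3
    rw [mul_one]
    exact h2
  rw [map_one] at h4
  exact one_ne_zero h4

end main

end Cfsg.Agent.Lib.Helper80_LiftF
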