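import Mathlib
import Cfsg.Agent.Lib.Helper12_FrobCompl

/-!
# Frobenius complements: fixed-point-free modules over every field of a suitable characteristic
(helper80, repackaging helper12's linearisation)
-/

set_option autoImplicit false

namespace Cfsg.Agent.Lib.Helper80_LiftG

open TensorProduct Cfsg.Agent.Lib.Helper12_FpfLin Cfsg.Agent.Lib.Helper12_FpfLinearize

theorem nontrivial_baseChange {V : Type*} [AddCommGroup V] [Finite V] [Nontrivial V]
    (p : ℕ) [Fact p.Prime] [Module (ZMod p) V] (F : Type*) [Field F] [Algebra (ZMod p) F] :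
    Nontrivial (F ⊗[ZMod p] V) := by
  have h1 : 0 < Module.finrank (ZMod p) V := Module.finrank_pos
  have h2 : Module.finrank F (F ⊗[ZMod p] V) = Module.finrank (ZMod p) V :=
    Module.finrank_baseChange
  have h3 : 0 < Module.finrank F (F ⊗[ZMod p] V) := by
    rw [h2]; exact h1
  exact Module.nontrivial_of_finrank_pos h3

/-- a group of fixed-point-free automorphisms has fixed-point-free modules over every field of a
certain characteristic prime to its order -/
theorem of_linear_field {K : Type} [Group K] [Finite K] (Γ : Subgroup (MulAut K))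
    (hfpf : ∀ φ ∈ Γ, φ ≠ 1 → ∀ k : K, φ k = k → k = 1) (hne : Γ ≠ ⊥) :
    ∃ (p : ℕ) (_ : Fact p.Prime), ¬ p ∣ Nat.card Γ ∧
      ∀ (F : Type) [Field F] [Algebra (ZMod p) F],
        ∃ (W : Type) (_ : AddCommGroup W) (_ : Module F W) (_ : Nontrivial W)
          (ρ : ↥Γ →* Module.End F W), IsFpf ρ := by
  obtain ⟨p, hp, hnt, hpV, hpG, hf⟩ := exists_additive_data Γ hfpf hne
  refine ⟨p, hp, hpG, ?_⟩
  intro F _ _
  let _inst : Module (ZMod p) (Additive ↥(omegaCenter K p)) := AddCommGroup.zmodModule hpV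
  have hfpf' := rep_isFpf p ((actK K p).comp Γ.subtype) F hf
  have : Nontrivial (F ⊗[ZMod p] (Additive ↥(omegaCenter K p))) :=
    nontrivial_baseChange p F
  exact ⟨_, _, _, this, _, hfpf'⟩

/-- a Frobenius complement has fixed-point-free modules over every field of a certain
characteristic prime to its order -/
theorem of_frobeniusComplement_field {G : Type*} [Group G] [Finite G]
    (hFC : ∃ (L : Type) (_ : Group L) (_ : Finite L) (H : Subgroup L),
      Cfsg.IsFrobeniusComplement H ∧ Nonempty (G ≃* H)) :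
    ∃ (p : ℕ) (_ : Fact p.Prime), ¬ p ∣ Nat.card G ∧
      ∀ (F : Type) [Field F] [Algebra (ZMod p) F],
        ∃ (W : Type) (_ : AddCommGroup W) (_ : Module F W) (_ : Nontrivial W)
          (ρ : G →* Module.End F W), IsFpf ρ := by
  obtain ⟨L, _, _, H, hH, ⟨e⟩⟩ := hFC
  obtain ⟨N, hN, hNn, hNc⟩ := Cfsg.Agent.S0035.result H hH
  have hN1 : N ≠ ⊥ := by
    intro h0
    apply hH.2.1
    have h1 := hNc.card_mul_card
    rw [h0, Subgroup.card_bot, one_mul] at h1
    exact Subgroup.eq_top_of_card_eq H h1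
  have hfix := (Cfsg.Agent.S0039.result N H hNc hN1 hH.1).1 hH
  have hconj : ∀ (h : ↥H) (n : ↥N),
      (((MulAut.conjNormal (H := N)).comp H.subtype h) n : L) = (h : L) * n * (h : L)⁻¹ := by
    intro h n
    rfl
  have hfixed : ∀ (h : ↥H), h ≠ 1 → ∀ n : ↥N,
      ((MulAut.conjNormal (H := N)).comp H.subtype h) n = n → n = 1 := by
    intro h hh n hn
    have h1 : (h : L) * n * (h : L)⁻¹ = n := by rw [← hconj, hn]
    have h2 : (n : L) ∈ N ⊓ Subgroup.centralizer {(h : L)} := by
      refine ⟨n.2, ?_⟩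
      show (n : L) ∈ Subgroup.centralizer {(h : L)}
      rw [Subgroup.mem_centralizer_singleton_iff]
      calc (n : L) * h = ((h : L) * n * (h : L)⁻¹) * h := by rw [h1]
        _ = h * n := by group
    rw [hfix h h.2 (fun h0 => hh (Subtype.ext h0)), Subgroup.mem_bot] at h2
    exact Subtype.ext h2
  have hinj : Function.Injective ((MulAut.conjNormal (H := N)).comp H.subtype) := by
    rw [injective_iff_map_eq_one]
    intro h hh
    by_contra hne
    obtain ⟨⟨n, hnN⟩, hn1⟩ := (Subgroup.ne_bot_iff_exists_ne_one).1 hN1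
    apply hn1
    apply hfixed h hne ⟨n, hnN⟩
    rw [hh]
    rfl
  have hfpfΓ : ∀ ψ ∈ ((MulAut.conjNormal (H := N)).comp H.subtype).range, ψ ≠ 1 →
      ∀ k : ↥N, ψ k = k → k = 1 := by
    rintro ψ ⟨h, rfl⟩ hψ k hk
    apply hfixed h _ k hk
    intro h1
    apply hψ
    rw [h1, map_one]
  have hΓne : ((MulAut.conjNormal (H := N)).comp H.subtype).range ≠ ⊥ := by
    intro h0
    obtain ⟨⟨h, hhH⟩, hh1⟩ := (Subgroup.ne_bot_iff_exists_ne_one).1 hH.1
    apply hh1
    apply hinj
    have h1 : (MulAut.conjNormal (H := N)).comp H.subtype ⟨h, hhH⟩ ∈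
        ((MulAut.conjNormal (H := N)).comp H.subtype).range := ⟨_, rfl⟩
    rw [h0, Subgroup.mem_bot] at h1
    rw [h1, map_one]
  have ε : G ≃* ↥((MulAut.conjNormal (H := N)).comp H.subtype).range :=
    e.trans (MonoidHom.ofInjective hinj)
  obtain ⟨p, hp, hpG, hF⟩ := of_linear_field _ hfpfΓ hΓne
  refine ⟨p, hp, ?_, ?_⟩
  · rw [Nat.card_congr ε.toEquiv]
    exact hpG
  · intro F _ _
    obtain ⟨W, i1, i2, i3, ρ, hρ⟩ := hF F
    refine ⟨W, i1, i2, i3, ρ.comp ε.toMonoidHom, ?_⟩
    intro g hg w hw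
    apply hρ (ε g) _ w hw
    intro h3
    apply hg
    apply ε.injective
    rw [h3, map_one]

end Cfsg.Agent.Lib.Helper80_LiftG
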