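import Mathlib

/-!
# A maximal ideal of the ring of algebraic integers over a prime (helper80)
-/

set_option autoImplicit false

namespace Cfsg.Agent.Lib.Helper80_LiftH

variable (K : Type*) [Field K] [CharZero K]

/-- a maximal ideal of the ring of all algebraic integers of `K` lying over `p` -/
theorem exists_maximal_over (p : ℕ) (hp : p.Prime) :
    ∃ 𝔪 : Ideal (integralClosure ℤ K), 𝔪.IsMaximal ∧
      ((p : ℕ) : integralClosure ℤ K) ∈ 𝔪 ∧
      ∀ m : ℕ, ¬ p ∣ m → ((m : ℕ) : integralClosure ℤ K) ∉ 𝔪 := by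
  have hirr : Irreducible (p : ℤ) := (Nat.prime_iff_prime_int.1 hp).irreducible
  have hmax : (Ideal.span {(p : ℤ)}).IsMaximal :=
    PrincipalIdealRing.isMaximal_of_irreducible hirr
  have hker : RingHom.ker (algebraMap ℤ (integralClosure ℤ K)) ≤ Ideal.span {(p : ℤ)} := by
    intro x hx
    rw [RingHom.mem_ker] at hx
    have h1 : (algebraMap (integralClosure ℤ K) K) (algebraMap ℤ (integralClosure ℤ K) x) = 0 := by
      rw [hx, map_zero]
    rw [← IsScalarTower.algebraMap_apply] at h1
    have h2 : x = 0 := by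
      have : ((x : ℤ) : K) = 0 := by simpa using h1
      exact_mod_cast this
    rw [h2]
    exact Ideal.zero_mem _
  obtain ⟨Q, hQmax, hQ⟩ :=
    Ideal.exists_ideal_over_maximal_of_isIntegral (S := integralClosure ℤ K)
      (Ideal.span {(p : ℤ)}) hker
  refine ⟨Q, hQmax, ?_, ?_⟩
  · have h1 : (p : ℤ) ∈ Q.comap (algebraMap ℤ (integralClosure ℤ K)) := by
      rw [hQ]
      exact Ideal.subset_span rfl
    rw [Ideal.mem_comap] at h1
    simpa using h1
  · intro m hm hmem
    have h1 : (m : ℤ) ∈ Q.comap (algebraMap ℤ (integralClosure ℤ K)) := by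
      rw [Ideal.mem_comap]
      simpa using hmem
    rw [hQ, Ideal.mem_span_singleton] at h1
    exact hm (Int.natCast_dvd_natCast.1 h1)

end Cfsg.Agent.Lib.Helper80_LiftH
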