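import Mathlib
import Cfsg.Agent.Lib.Helper80_LiftF
import Cfsg.Agent.Lib.Helper80_LiftG
import Cfsg.Agent.Lib.Helper80_LiftH

/-!
# Frobenius complements have fixed-point-free Wedderburn blocks in characteristic zero (helper80)
-/

set_option autoImplicit false
set_option linter.unusedSectionVars false

namespace Cfsg.Agent.Lib.Helper80_LiftI

open MonoidAlgebra Cfsg.Agent.Lib.Helper80_LiftA Cfsg.Agent.Lib.Helper80_LiftB
  Cfsg.Agent.Lib.Helper80_LiftD Cfsg.Agent.Lib.Helper80_LiftF
  Cfsg.Agent.Lib.Helper80_LiftG Cfsg.Agent.Lib.Helper80_LiftH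
  Cfsg.Agent.Lib.Helper12_FpfLin

theorem of_mul_nrm {R : Type*} [CommRing R] {G : Type*} [Group G] (c : G) :
    of R G c * nrm R c = nrm R c := by
  unfold nrm
  rw [Finset.mul_sum]
  have h1 : ∀ j, of R G c * of R G (c ^ j) = of R G (c ^ (j + 1)) := by
    intro j
    rw [← map_mul, pow_succ']
  simp only [h1]
  have h2 := Finset.sum_range_succ' (fun j => of R G (c ^ j)) (orderOf c)
  have h3 := Finset.sum_range_succ (fun j => of R G (c ^ j)) (orderOf c)
  rw [h2] at h3
  simp only [pow_orderOf_eq_one, pow_zero] at h3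
  exact add_right_cancel h3

/-- in a fixed-point-free representation the norm elements of nontrivial cyclic subgroups act as
zero -/
theorem lift_nrm_eq_zero {k : Type*} [Field k] {W : Type*} [AddCommGroup W] [Module k W]
    {G : Type*} [Group G] (ρ : G →* Module.End k W) (hρ : IsFpf ρ) (c : G) (hc : c ≠ 1) :
    MonoidAlgebra.lift k (Module.End k W) G ρ (nrm k c) = 0 := by
  apply LinearMap.ext
  intro w
  apply hρ c hc
  have h1 : ρ c = MonoidAlgebra.lift k (Module.End k W) G ρ (of k G c) := by rw [lift_of]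
  rw [h1, ← Module.End.mul_apply, ← map_mul, of_mul_nrm]

/-- every matrix of a Wedderburn block is a linear combination of images of group elements -/
theorem span_range_blk {K : Type*} [Field K] {G : Type*} [Group G] {n : ℕ} {d : Fin n → ℕ}
    (φ : MonoidAlgebra K G ≃ₐ[K] Π i : Fin n, Matrix (Fin (d i)) (Fin (d i)) K) (i : Fin n) :
    Submodule.span K (Set.range (((blk φ i : MonoidAlgebra K G →*
      Matrix (Fin (d i)) (Fin (d i)) K).comp (of K G)))) = ⊤ := by
  rw [eq_top_iff]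
  intro M _
  obtain ⟨x, rfl⟩ := blk_surjective φ i M
  induction x using MonoidAlgebra.induction_on with
  | of g => exact Submodule.subset_span ⟨g, rfl⟩
  | add a b ha hb =>
    rw [map_add]
    exact Submodule.add_mem _ (ha trivial) (hb trivial)
  | smul r a ha =>
    rw [map_smul]
    exact Submodule.smul_mem _ _ (ha trivial)

/-- **a Frobenius complement has a fixed-point-free Wedderburn block over any algebraically closed
field of characteristic zero** -/
theorem exists_fpf_block (K : Type) [Field K] [IsAlgClosed K] [CharZero K]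
    {G : Type*} [Group G] [Finite G]
    (hFC : ∃ (L : Type) (_ : Group L) (_ : Finite L) (H : Subgroup L),
      Cfsg.IsFrobeniusComplement H ∧ Nonempty (G ≃* H)) :
    ∃ (n : ℕ) (ρ₀ : G →* Matrix (Fin n) (Fin n) K), 0 < n ∧
      Submodule.span K (Set.range ρ₀) = ⊤ ∧
      ∀ c : G, (orderOf c).Prime → ∑ j ∈ Finset.range (orderOf c), ρ₀ (c ^ j) = 0 := by
  classical
  have : Fintype G := Fintype.ofFinite G
  obtain ⟨p, hp, hpG, hF⟩ := of_frobeniusComplement_field hFC
  have : NeZero ((Nat.card G : ℕ) : K) :=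
    ⟨Nat.cast_ne_zero.2 Nat.card_pos.ne'⟩
  have : Module.Finite K (MonoidAlgebra K G) :=
    Module.Finite.of_basis (MonoidAlgebra.basis G K)
  obtain ⟨n, d, hd, ⟨φ⟩⟩ := IsSemisimpleRing.exists_algEquiv_pi_matrix_of_isAlgClosed
    K (MonoidAlgebra K G)
  obtain ⟨𝔪, h𝔪, hp𝔪, hm𝔪⟩ := exists_maximal_over K p hp.out
  let _ : Field (integralClosure ℤ K ⧸ 𝔪) := Ideal.Quotient.field 𝔪
  have hchar : CharP (integralClosure ℤ K ⧸ 𝔪) p := by
    rw [CharP.charP_iff_prime_eq_zero hp.out]
    have h1 : Ideal.Quotient.mk 𝔪 ((p : ℕ) : integralClosure ℤ K) = 0 :=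
      Ideal.Quotient.eq_zero_iff_mem.2 hp𝔪
    rw [map_natCast] at h1
    exact h1
  let _ : Algebra (ZMod p) (integralClosure ℤ K ⧸ 𝔪) := ZMod.algebra _ p
  obtain ⟨W, i1, i2, i3, ρk, hρk⟩ := hF (integralClosure ℤ K ⧸ 𝔪)
  set Θ : MonoidAlgebra (integralClosure ℤ K) G →+* Module.End
      (integralClosure ℤ K ⧸ 𝔪) W :=
    (MonoidAlgebra.lift (integralClosure ℤ K ⧸ 𝔪) (Module.End
      (integralClosure ℤ K ⧸ 𝔪) W) G ρk).toRingHom.comp
      (mapRingHom G (Ideal.Quotient.mk 𝔪)) with hΘ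
  have hcard : ((Fintype.card G : ℕ) : integralClosure ℤ K) ∉ 𝔪 := by
    apply hm𝔪
    rwa [← Nat.card_eq_fintype_card]
  have hΘ𝔪 : ∀ a ∈ 𝔪, Θ (single 1 a) = 0 := by
    intro a ha
    rw [hΘ, RingHom.comp_apply, mapRingHom_single, Ideal.Quotient.eq_zero_iff_mem.2 ha,
      single_zero, map_zero]
  have hΘN : ∀ c : G, (orderOf c).Prime →
      Θ (nrm (integralClosure ℤ K) c) = 0 := by
    intro c hc
    rw [hΘ, RingHom.comp_apply, map_nrm]
    apply lift_nrm_eq_zero ρk hρk c
    rintro rfl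
    rw [orderOf_one] at hc
    exact Nat.not_prime_one hc
  obtain ⟨i, hi⟩ := exists_good_block φ 𝔪 hcard Θ hΘ𝔪 hΘN
  refine ⟨d i, (blk φ i : MonoidAlgebra K G →*
    Matrix (Fin (d i)) (Fin (d i)) K).comp
    (of K G), Nat.pos_of_ne_zero (NeZero.ne _), span_range_blk φ i, ?_⟩
  intro c hc
  have h1 := hi c hc
  rw [nrm, map_sum] at h1
  exact h1

end Cfsg.Agent.Lib.Helper80_LiftI
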