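import Mathlib

/-!
# From a fixed-point-free full matrix block to a fixed-point-free irreducible representation
(helper80)
-/

set_option autoImplicit false

namespace Cfsg.Agent.Lib.Helper80_LiftJ

open Matrix

variable {K : Type*} [Field K] {G : Type*} [Group G] {n : ℕ}
  (ρ₀ : G →* Matrix (Fin n) (Fin n) K)

theorem sum_mulVec' {ι : Type*} (s : Finset ι) (A : ι → Matrix (Fin n) (Fin n) K)
    (v : Fin n → K) : (∑ j ∈ s, A j).mulVec v = ∑ j ∈ s, (A j).mulVec v :=
  map_sum (mulVec.addMonoidHomLeft v) A s

theorem mulVec_pow_of_fixed {g : G} {v : Fin n → K} (h : (ρ₀ g).mulVec v = v) (k : ℕ) :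
    (ρ₀ (g ^ k)).mulVec v = v := by
  induction k with
  | zero => simp
  | succ k ih => rw [pow_succ, map_mul, ← mulVec_mulVec, h, ih]

/-- a subspace invariant under all matrices is trivial or everything -/
theorem eq_bot_or_eq_top_of_invariant (W : Submodule K (Fin n → K))
    (hW : ∀ M : Matrix (Fin n) (Fin n) K, ∀ w ∈ W, M.mulVec w ∈ W) : W = ⊥ ∨ W = ⊤ := by
  by_cases h : W = ⊥
  · exact Or.inl h
  · right
    obtain ⟨w, hwW, hw0⟩ := (Submodule.ne_bot_iff W).1 h
    have : ∃ j, w j ≠ 0 := by
      by_contra hcon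
      push Not at hcon
      exact hw0 (funext hcon)
    obtain ⟨j, hj⟩ := this
    rw [eq_top_iff]
    intro v _
    have h1 := hW (Matrix.of fun a b => if b = j then v a * (w j)⁻¹ else 0) w hwW
    have h2 : (Matrix.of fun a b => if b = j then v a * (w j)⁻¹ else 0).mulVec w = v := by
      funext a
      simp only [mulVec, dotProduct, of_apply]
      rw [Finset.sum_eq_single j]
      · simp only [if_true]
        field_simp
      · intro b _ hb
        simp [hb]
      · intro hj'
        exact absurd (Finset.mem_univ j) hj'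
    rw [h2] at h1
    exact h1

variable [CharZero K] [Finite G]

/-- the conclusion of the fixed-point-free representation theorem, from a full matrix block on
which the norm elements of prime order cyclic subgroups vanish -/
theorem conclusion_of_block (hn : 0 < n)
    (hspan : Submodule.span K (Set.range ρ₀) = ⊤)
    (hN : ∀ c : G, (orderOf c).Prime → ∑ j ∈ Finset.range (orderOf c), ρ₀ (c ^ j) = 0) :
    ∃ (ρ : G →* GL (Fin n) K), Function.Injective ρ ∧
      (∀ W : Submodule K (Fin n → K),
        (∀ g : G, ∀ w ∈ W, ((ρ g : GL (Fin n) K) : Matrix (Fin n) (Fin n) K).mulVec w ∈ W) →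
          W = ⊥ ∨ W = ⊤) ∧
      ∀ g : G, g ≠ 1 → ∀ v : Fin n → K,
        ((ρ g : GL (Fin n) K) : Matrix (Fin n) (Fin n) K).mulVec v = v → v = 0 := by
  have hcoe : ∀ g : G, ((ρ₀.toHomUnits g : GL (Fin n) K) : Matrix (Fin n) (Fin n) K) = ρ₀ g :=
    fun g => rfl
  have hfpf : ∀ g : G, g ≠ 1 → ∀ v : Fin n → K, (ρ₀ g).mulVec v = v → v = 0 := by
    intro g hg v hv
    have ho : orderOf g ≠ 0 := (orderOf_pos g).ne'
    have ho1 : orderOf g ≠ 1 := by
      rw [Ne, orderOf_eq_one_iff]
      exact hg
    set r := (orderOf g).minFac with hr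
    have hrp : r.Prime := Nat.minFac_prime ho1
    have hrd : r ∣ orderOf g := Nat.minFac_dvd _
    set c := g ^ (orderOf g / r) with hc
    have hoc : orderOf c = r := orderOf_pow_orderOf_div ho hrd
    have h1 := hN c (hoc ▸ hrp)
    have h2 : ∀ j, (ρ₀ (c ^ j)).mulVec v = v := by
      intro j
      rw [hc, ← pow_mul]
      exact mulVec_pow_of_fixed ρ₀ hv _
    have h3 : (∑ j ∈ Finset.range (orderOf c), ρ₀ (c ^ j)).mulVec v = (orderOf c : K) • v := by
      rw [sum_mulVec']
      rw [Finset.sum_congr rfl (fun j _ => h2 j)]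
      rw [Finset.sum_const, Finset.card_range, Nat.cast_smul_eq_nsmul]
    rw [h1, zero_mulVec] at h3
    have h4 : (orderOf c : K) ≠ 0 := by
      rw [hoc]
      exact Nat.cast_ne_zero.2 hrp.ne_zero
    rcases smul_eq_zero.1 h3.symm with h5 | h5
    · exact absurd h5 h4
    · exact h5
  refine ⟨ρ₀.toHomUnits, ?_, ?_, ?_⟩
  · rw [injective_iff_map_eq_one]
    intro g hg
    by_contra hne
    have h1 : ρ₀ g = 1 := by
      rw [← hcoe, hg]
      rfl
    have h2 := hfpf g hne (Pi.single ⟨0, hn⟩ 1) (by rw [h1, one_mulVec])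
    have h3 := congrFun h2 ⟨0, hn⟩
    simp at h3
  · intro W hW
    apply eq_bot_or_eq_top_of_invariant
    intro M
    have hM : M ∈ Submodule.span K (Set.range ρ₀) := by rw [hspan]; trivial
    induction hM using Submodule.span_induction with
    | mem x hx =>
      obtain ⟨g, rfl⟩ := hx
      intro w hw
      exact hW g w hw
    | zero =>
      intro w _
      rw [zero_mulVec]
      exact W.zero_mem
    | add x y _ _ hx hy =>
      intro w hw
      rw [add_mulVec]
      exact W.add_mem (hx w hw) (hy w hw)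
    | smul a x _ hx =>
      intro w hw
      rw [smul_mulVec]
      exact W.smul_mem a (hx w hw)
  · intro g hg v hv
    exact hfpf g hg v hv

end Cfsg.Agent.Lib.Helper80_LiftJ
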