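import Mathlib
import Cfsg.Agent.Lib.Helper80_LiftB
import Cfsg.Agent.Lib.Helper80_LiftD
import Cfsg.Agent.Lib.Helper80_LiftF

/-!
# A good Wedderburn block from any nonzero "module" killing the norm elements (helper80)
-/

set_option autoImplicit false

namespace Cfsg.Agent.Lib.Helper80_LiftK

open MonoidAlgebra Cfsg.Agent.Lib.Helper80_LiftB Cfsg.Agent.Lib.Helper80_LiftD

/-- a nonzero matrix generates the unit ideal, explicitly -/
theorem exists_sum_eq_one {K : Type*} [Field K] {d : ℕ} (M : Matrix (Fin d) (Fin d) K)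
    (hM : M ≠ 0) :
    ∃ (a b : Fin d), M a b ≠ 0 ∧
      (M a b)⁻¹ • ∑ j : Fin d, Matrix.single j a (1 : K) * M * Matrix.single b j (1 : K) = 1 := by
  have : ∃ a b, M a b ≠ 0 := by
    by_contra hcon
    push Not at hcon
    apply hM
    ext a b
    exact hcon a b
  obtain ⟨a, b, hab⟩ := this
  refine ⟨a, b, hab, ?_⟩
  have h1 : ∀ j : Fin d, Matrix.single j a (1 : K) * M * Matrix.single b j (1 : K) =
      Matrix.single j j (M a b) := by
    intro j
    rw [Matrix.single_mul_mul_single, one_mul, mul_one]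
  simp only [h1]
  rw [Matrix.sum_single_eq_diagonal]
  ext x y
  rw [Matrix.smul_apply, Matrix.diagonal_apply, Matrix.one_apply]
  by_cases hxy : x = y
  · simp [hxy, hab]
  · simp [hxy]

variable {K : Type*} [Field K] {G : Type*} [Group G] {n : ℕ} {d : Fin n → ℕ}
  (φ : MonoidAlgebra K G ≃ₐ[K] Π i : Fin n, Matrix (Fin (d i)) (Fin (d i)) K)

/-- a ring homomorphism from the group algebra to a nontrivial ring killing the norm elements
singles out a Wedderburn block killing them -/
theorem exists_good_block_of_hom {E : Type*} [Ring E] [Nontrivial E]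
    (Ψ : MonoidAlgebra K G →+* E)
    (hΨ : ∀ c : G, (orderOf c).Prime → Ψ (nrm K c) = 0) :
    ∃ i, ∀ c : G, (orderOf c).Prime → blk φ i (nrm K c) = 0 := by
  have h1 : ∃ i, Ψ (idem φ i) ≠ 0 := by
    by_contra hcon
    push Not at hcon
    have h2 : Ψ 1 = 0 := by
      rw [← sum_idem φ, map_sum]
      exact Finset.sum_eq_zero (fun i _ => hcon i)
    rw [map_one] at h2
    exact one_ne_zero h2
  obtain ⟨i, hi⟩ := h1
  refine ⟨i, ?_⟩
  intro c hc
  by_contra hne
  obtain ⟨a, b, hab, hsum⟩ := exists_sum_eq_one (blk φ i (nrm K c)) hne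
  choose x hx using fun j : Fin (d i) => blk_surjective φ i (Matrix.single j a (1 : K))
  choose y hy using fun j : Fin (d i) => blk_surjective φ i (Matrix.single b j (1 : K))
  set u : MonoidAlgebra K G :=
    ((blk φ i (nrm K c)) a b)⁻¹ • ∑ j : Fin (d i), x j * nrm K c * y j with hu
  have hu1 : blk φ i u = 1 := by
    rw [hu, map_smul, map_sum]
    simp only [map_mul, hx, hy]
    exact hsum
  have hu2 : u * idem φ i = idem φ i := by
    apply φ.injective
    rw [map_mul, phi_idem]
    funext j
    by_cases h : j = i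
    · subst h
      have : φ u j = 1 := hu1
      simp [this]
    · simp [Pi.single_apply, h]
  have hu3 : Ψ u = 0 := by
    rw [hu, ← Helper80_LiftF.single_one_mul_eq_smul, map_mul, map_sum]
    rw [Finset.sum_eq_zero, mul_zero]
    intro j _
    rw [map_mul, map_mul, hΨ c hc, mul_zero, zero_mul]
  apply hi
  rw [← hu2, map_mul, hu3, zero_mul]

end Cfsg.Agent.Lib.Helper80_LiftK
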