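import Mathlib
import Cfsg.Agent.Lib.Helper80_LiftF
import Cfsg.Agent.Lib.Helper80_LiftH
import Cfsg.Agent.Lib.Helper80_LiftK
import Cfsg.Agent.Lib.Helper71_Frobenius

/-!
# Reduction modulo a prime of a fixed-point-free Wedderburn block (helper80)
-/

set_option autoImplicit false
set_option linter.unusedSectionVars false

namespace Cfsg.Agent.Lib.Helper80_LiftL

open MonoidAlgebra Cfsg.Agent.Lib.Helper80_LiftA Cfsg.Agent.Lib.Helper80_LiftB
  Cfsg.Agent.Lib.Helper80_LiftC Cfsg.Agent.Lib.Helper80_LiftD Cfsg.Agent.Lib.Helper80_LiftE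
  Cfsg.Agent.Lib.Helper80_LiftF

variable {K : Type*} [Field K] [CharZero K] {G : Type*} [Group G] [Fintype G] [DecidableEq G]
  {n : ℕ} {d : Fin n → ℕ} [∀ i, NeZero (d i)]
  (φ : MonoidAlgebra K G ≃ₐ[K] Π i : Fin n, Matrix (Fin (d i)) (Fin (d i)) K)

theorem idemO_mul_self (i : Fin n) :
    idemO φ i * idemO φ i = (((Fintype.card G : ℕ) : integralClosure ℤ K) ^ 2) • idemO φ i := by
  apply Helper80_LiftD.map_injective _ (algebraMap_injective' (K := K))
  rw [map_mul, map_smul', map_idemO, smul_mul_smul_comm, idem_mul_self, smul_smul]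
  congr 1

theorem of_mul_idemO (i : Fin n) (g : G) :
    of (integralClosure ℤ K) G g * idemO φ i = idemO φ i * of (integralClosure ℤ K) G g := by
  apply Helper80_LiftD.map_injective _ (algebraMap_injective' (K := K))
  rw [map_mul, map_mul, map_idemO, map_of, mul_smul_comm, smul_mul_assoc, idem_central]

theorem nrm_mul_idemO (i : Fin n) (c : G) (hc : blk φ i (nrm K c) = 0) :
    nrm (integralClosure ℤ K) c * idemO φ i = 0 := by
  apply Helper80_LiftD.map_injective _ (algebraMap_injective' (K := K))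
  rw [map_mul, map_idemO, map_nrm, map_zero, mul_smul_comm]
  have h1 : nrm K c * idem φ i = 0 := by
    apply φ.injective
    rw [map_mul, phi_idem, map_zero]
    funext j
    by_cases h : j = i
    · subst h
      have : φ (nrm K c) j = 0 := hc
      simp [this]
    · simp [Pi.single_apply, h]
  rw [h1, smul_zero]

variable (𝔪 : Ideal (integralClosure ℤ K)) [h𝔪 : 𝔪.IsMaximal]
  (hcard : ((Fintype.card G : ℕ) : integralClosure ℤ K) ∉ 𝔪)

/-- the reduction of the scaled central idempotent -/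
noncomputable def idemBar (i : Fin n) : MonoidAlgebra (integralClosure ℤ K ⧸ 𝔪) G :=
  mapRingHom G (Ideal.Quotient.mk 𝔪) (idemO φ i)

include hcard in
theorem idemBar_ne_zero (i : Fin n) : idemBar φ 𝔪 i ≠ 0 := by
  intro h0
  have h1 : ∀ g, (idemO φ i).coeff g ∈ 𝔪 := by
    intro g
    rw [← Ideal.Quotient.eq_zero_iff_mem, ← coeff_mapRingHom]
    show (idemBar φ 𝔪 i).coeff g = 0
    rw [h0]
    rfl
  have h2 : (((Fintype.card G : ℕ) : integralClosure ℤ K) ^ 2) ∉ 𝔪 := by
    intro h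
    exact hcard (h𝔪.isPrime.mem_of_pow_mem 2 h)
  obtain ⟨ν, t, ht, hνt⟩ := h𝔪.exists_inv h2
  have h3 : idemO φ i = 0 := by
    apply eq_zero_of_mul_self 𝔪 h𝔪.ne_top _ ν _ _ h1 (idemO_mul_self φ i)
    have : ((Fintype.card G : ℕ) : integralClosure ℤ K) ^ 2 * ν - 1 = -t := by
      rw [← hνt]; ring
    rw [this]
    exact 𝔪.neg_mem ht
  have h4 := map_idemO φ i
  rw [h3, map_zero] at h4
  have hm : ((Fintype.card G : K) ^ 2) ≠ 0 :=
    pow_ne_zero 2 (Nat.cast_ne_zero.2 Fintype.card_ne_zero)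
  rcases smul_eq_zero.1 h4.symm with h5 | h5
  · exact hm h5
  · exact idem_ne_zero φ i h5

theorem of_mul_idemBar (i : Fin n) (g : G) :
    of (integralClosure ℤ K ⧸ 𝔪) G g * idemBar φ 𝔪 i =
      idemBar φ 𝔪 i * of (integralClosure ℤ K ⧸ 𝔪) G g := by
  unfold idemBar
  rw [← map_of (Ideal.Quotient.mk 𝔪) g, ← map_mul, ← map_mul, of_mul_idemO]

theorem nrm_mul_idemBar (i : Fin n) (c : G) (hc : blk φ i (nrm K c) = 0) :
    nrm (integralClosure ℤ K ⧸ 𝔪) c * idemBar φ 𝔪 i = 0 := by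
  unfold idemBar
  rw [← map_nrm (Ideal.Quotient.mk 𝔪) c, ← map_mul, nrm_mul_idemO φ i c hc, map_zero]

end Cfsg.Agent.Lib.Helper80_LiftL
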