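import Mathlib
import Cfsg.Agent.Lib.Helper80_LiftD
import Cfsg.Agent.Lib.Helper71_Frobenius

/-!
# A Frobenius group from a fixed-point-free central element of a modular group algebra (helper80)
-/

set_option autoImplicit false

namespace Cfsg.Agent.Lib.Helper80_LiftM

open MonoidAlgebra Cfsg.Agent.Lib.Helper80_LiftD

variable {k : Type*} [Field k] {G : Type*} [Group G]

/-- the additive group generated by the orbit of `ε` under left multiplication -/
noncomputable def orbitGroup (ε : MonoidAlgebra k G) : AddSubgroup (MonoidAlgebra k G) :=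
  AddSubgroup.closure (Set.range fun g : G => of k G g * ε)

theorem of_mul_mem (ε : MonoidAlgebra k G) (h : G) {v : MonoidAlgebra k G}
    (hv : v ∈ orbitGroup ε) : of k G h * v ∈ orbitGroup ε := by
  unfold orbitGroup at hv ⊢
  induction hv using AddSubgroup.closure_induction with
  | mem x hx =>
    obtain ⟨g, rfl⟩ := hx
    apply AddSubgroup.subset_closure
    refine ⟨h * g, ?_⟩
    simp only [map_mul, mul_assoc]
  | zero => rw [mul_zero]; exact AddSubgroup.zero_mem _
  | add x y _ _ hx hy => rw [mul_add]; exact AddSubgroup.add_mem _ hx hy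
  | neg x _ hx => rw [mul_neg]; exact AddSubgroup.neg_mem _ hx

theorem nrm_mul_eq_zero (ε : MonoidAlgebra k G) (hcomm : ∀ g, of k G g * ε = ε * of k G g)
    (c : G) (hc : nrm k c * ε = 0) {v : MonoidAlgebra k G}
    (hv : v ∈ orbitGroup ε) : nrm k c * v = 0 := by
  unfold orbitGroup at hv
  induction hv using AddSubgroup.closure_induction with
  | mem x hx =>
    obtain ⟨g, rfl⟩ := hx
    show nrm k c * (of k G g * ε) = 0
    rw [hcomm, ← mul_assoc, hc, zero_mul]
  | zero => rw [mul_zero]
  | add x y _ _ hx hy => rw [mul_add, hx, hy, add_zero]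
  | neg x _ hx => rw [mul_neg, hx, neg_zero]

/-- the action of `G` on the orbit group -/
noncomputable instance (ε : MonoidAlgebra k G) : DistribMulAction G (orbitGroup ε) where
  smul g v := ⟨of k G g * v.1, of_mul_mem ε g v.2⟩
  one_smul v := by
    apply Subtype.ext
    show of k G 1 * v.1 = v.1
    rw [map_one, one_mul]
  mul_smul g h v := by
    apply Subtype.ext
    show of k G (g * h) * v.1 = of k G g * (of k G h * v.1)
    rw [map_mul, mul_assoc]
  smul_zero g := by
    apply Subtype.ext
    show of k G g * 0 = 0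
    rw [mul_zero]
  smul_add g v w := by
    apply Subtype.ext
    show of k G g * (v.1 + w.1) = of k G g * v.1 + of k G g * w.1
    rw [mul_add]

theorem smul_coe (ε : MonoidAlgebra k G) (g : G) (v : orbitGroup ε) :
    ((g • v : orbitGroup ε) : MonoidAlgebra k G) = of k G g * v.1 := rfl

theorem of_pow_mul_of_fixed {g : G} {v : MonoidAlgebra k G} (h : of k G g * v = v) (j : ℕ) :
    of k G (g ^ j) * v = v := by
  induction j with
  | zero => rw [pow_zero, map_one, one_mul]
  | succ j ih => rw [pow_succ, map_mul, mul_assoc, h, ih]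

variable [Finite G]

/-- **the Frobenius group attached to a fixed-point-free central element** -/
theorem exists_frobenius_of_element [Nontrivial G] (ℓ : ℕ) (hℓ : ℓ ≠ 0) [CharP k ℓ]
    (hcard : ((Nat.card G : ℕ) : k) ≠ 0)
    (ε : MonoidAlgebra k G) (hε : ε ≠ 0) (hcomm : ∀ g, of k G g * ε = ε * of k G g)
    (hN : ∀ c : G, (orderOf c).Prime → nrm k c * ε = 0) :
    ∃ (L : Type) (_ : Group L) (_ : Finite L) (H : Subgroup L),
      Cfsg.IsFrobeniusComplement H ∧ Nonempty (G ≃* H) := by
  have hnt : Nontrivial (orbitGroup ε) := by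
    refine ⟨⟨⟨ε, ?_⟩, 0, ?_⟩⟩
    · apply AddSubgroup.subset_closure
      refine ⟨1, ?_⟩
      show of k G 1 * ε = ε
      rw [map_one, one_mul]
    · intro h
      exact hε (congrArg Subtype.val h)
  have hfg : AddGroup.FG (orbitGroup ε) := by
    rw [AddGroup.fg_iff_addSubgroup_fg]
    exact ⟨(Set.finite_range fun g : G => of k G g * ε).toFinset, by simp [orbitGroup]⟩
  have htors : IsAddTorsion (orbitGroup ε) := by
    intro v
    rw [isOfFinAddOrder_iff_nsmul_eq_zero]
    refine ⟨ℓ, Nat.pos_of_ne_zero hℓ, ?_⟩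
    apply Subtype.ext
    show ℓ • v.1 = 0
    rw [← Nat.cast_smul_eq_nsmul k, CharP.cast_eq_zero k ℓ, zero_smul]
  have hfin : Finite (orbitGroup ε) := AddCommGroup.finite_of_fg_isAddTorsion _ htors
  have hfpf : ∀ g : G, g ≠ 1 → ∀ v : orbitGroup ε, g • v = v → v = 0 := by
    intro g hg v hv
    have hv' : of k G g * v.1 = v.1 := by rw [← smul_coe, hv]
    have ho : orderOf g ≠ 0 := (orderOf_pos g).ne'
    have ho1 : orderOf g ≠ 1 := by
      rw [Ne, orderOf_eq_one_iff]
      exact hg
    set r := (orderOf g).minFac with hr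
    have hrp : r.Prime := Nat.minFac_prime ho1
    have hrd : r ∣ orderOf g := Nat.minFac_dvd _
    set c := g ^ (orderOf g / r) with hc
    have hoc : orderOf c = r := orderOf_pow_orderOf_div ho hrd
    have h1 := nrm_mul_eq_zero ε hcomm c (hN c (hoc ▸ hrp)) v.2
    have h2 : ∀ j, of k G (c ^ j) * v.1 = v.1 := by
      intro j
      rw [hc, ← pow_mul]
      exact of_pow_mul_of_fixed hv' _
    have h3 : nrm k c * v.1 = (orderOf c : k) • v.1 := by
      rw [nrm, Finset.sum_mul, Finset.sum_congr rfl (fun j _ => h2 j), Finset.sum_const,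
        Finset.card_range, Nat.cast_smul_eq_nsmul]
    rw [h1] at h3
    have h4 : (orderOf c : k) ≠ 0 := by
      intro h0
      apply hcard
      obtain ⟨s, hs⟩ := orderOf_dvd_natCard c
      rw [hs, Nat.cast_mul, h0, zero_mul]
    rcases smul_eq_zero.1 h3.symm with h5 | h5
    · exact absurd h5 h4
    · exact Subtype.ext h5
  obtain ⟨L, i1, i2, H, hH, hiso, -⟩ :=
    Cfsg.Agent.Lib.Helper71_Frobenius.exists_frobenius_of_fpf_distribMulAction
      (C := G) (V := orbitGroup ε) hfpf
  exact ⟨L, i1, i2, H, hH, hiso⟩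

end Cfsg.Agent.Lib.Helper80_LiftM
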