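import Mathlib
import Cfsg.Agent.Lib.Helper80_LiftL
import Cfsg.Agent.Lib.Helper80_LiftM

/-!
# A group with a fixed-point-free representation in characteristic zero is a Frobenius complement
(helper80)
-/

set_option autoImplicit false
set_option linter.unusedSectionVars false

namespace Cfsg.Agent.Lib.Helper80_LiftN

open MonoidAlgebra Cfsg.Agent.Lib.Helper80_LiftB Cfsg.Agent.Lib.Helper80_LiftD
  Cfsg.Agent.Lib.Helper80_LiftH Cfsg.Agent.Lib.Helper80_LiftK Cfsg.Agent.Lib.Helper80_LiftL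
  Cfsg.Agent.Lib.Helper80_LiftM

/-- **converse of the fixed-point-free representation theorem**: a nontrivial finite group with a
matrix representation over an algebraically closed field of characteristic zero in which the norm
elements of all cyclic subgroups of prime order vanish is a Frobenius complement -/
theorem isFrobeniusComplement_of_algebra (K : Type) [Field K] [IsAlgClosed K] [CharZero K]
    {G : Type*} [Group G] [Finite G] [Nontrivial G] {E : Type*} [Ring E] [Algebra K E]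
    [Nontrivial E] (ρ₀ : G →* E)
    (hN : ∀ c : G, (orderOf c).Prime → ∑ j ∈ Finset.range (orderOf c), ρ₀ (c ^ j) = 0) :
    ∃ (L : Type) (_ : Group L) (_ : Finite L) (H : Subgroup L),
      Cfsg.IsFrobeniusComplement H ∧ Nonempty (G ≃* H) := by
  classical
  have : Fintype G := Fintype.ofFinite G
  have : NeZero ((Nat.card G : ℕ) : K) :=
    ⟨Nat.cast_ne_zero.2 Nat.card_pos.ne'⟩
  have : Module.Finite K (MonoidAlgebra K G) :=
    Module.Finite.of_basis (MonoidAlgebra.basis G K)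
  obtain ⟨m, d, hd, ⟨φ⟩⟩ := IsSemisimpleRing.exists_algEquiv_pi_matrix_of_isAlgClosed
    K (MonoidAlgebra K G)
  set Ψ : MonoidAlgebra K G →+* E :=
    (MonoidAlgebra.lift K E G ρ₀).toRingHom with hΨ
  have hΨN : ∀ c : G, (orderOf c).Prime → Ψ (nrm K c) = 0 := by
    intro c hc
    rw [hΨ, nrm, map_sum]
    have : ∀ j, (MonoidAlgebra.lift K E G ρ₀).toRingHom
        (of K G (c ^ j)) = ρ₀ (c ^ j) := fun j => lift_of _ _
    simp only [this]
    exact hN c hc
  obtain ⟨i, hi⟩ := exists_good_block_of_hom φ Ψ hΨN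
  -- a prime not dividing the order
  obtain ⟨ℓ, hℓ1, hℓp⟩ := Nat.exists_infinite_primes (Nat.card G + 1)
  have hℓG : ¬ ℓ ∣ Nat.card G := by
    intro h
    have := Nat.le_of_dvd Nat.card_pos h
    omega
  obtain ⟨𝔪, h𝔪, hp𝔪, hm𝔪⟩ := exists_maximal_over K ℓ hℓp
  let _ : Field (integralClosure ℤ K ⧸ 𝔪) := Ideal.Quotient.field 𝔪
  have hchar : CharP (integralClosure ℤ K ⧸ 𝔪) ℓ := by
    rw [CharP.charP_iff_prime_eq_zero hℓp]
    have h1 : Ideal.Quotient.mk 𝔪 ((ℓ : ℕ) : integralClosure ℤ K) = 0 :=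
      Ideal.Quotient.eq_zero_iff_mem.2 hp𝔪
    rw [map_natCast] at h1
    exact h1
  have hcard : ((Fintype.card G : ℕ) : integralClosure ℤ K) ∉ 𝔪 := by
    apply hm𝔪
    rwa [← Nat.card_eq_fintype_card]
  have hcard' : ((Nat.card G : ℕ) : integralClosure ℤ K ⧸ 𝔪) ≠ 0 := by
    intro h0
    apply hcard
    rw [← Ideal.Quotient.eq_zero_iff_mem, map_natCast, ← Nat.card_eq_fintype_card]
    exact h0
  exact exists_frobenius_of_element ℓ hℓp.ne_zero hcard' (idemBar φ 𝔪 i)
    (idemBar_ne_zero φ 𝔪 hcard i) (fun g => of_mul_idemBar φ 𝔪 i g)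
    (fun c hc => nrm_mul_idemBar φ 𝔪 i c (hi c hc))

theorem isFrobeniusComplement_of_block (K : Type) [Field K] [IsAlgClosed K] [CharZero K]
    {G : Type*} [Group G] [Finite G] [Nontrivial G] {n : ℕ} (hn : 0 < n)
    (ρ₀ : G →* Matrix (Fin n) (Fin n) K)
    (hN : ∀ c : G, (orderOf c).Prime → ∑ j ∈ Finset.range (orderOf c), ρ₀ (c ^ j) = 0) :
    ∃ (L : Type) (_ : Group L) (_ : Finite L) (H : Subgroup L),
      Cfsg.IsFrobeniusComplement H ∧ Nonempty (G ≃* H) := by
  have : Nonempty (Fin n) := ⟨⟨0, hn⟩⟩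
  exact isFrobeniusComplement_of_algebra K ρ₀ hN

end Cfsg.Agent.Lib.Helper80_LiftN
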