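import Mathlib
import Cfsg.Agent.Lib.Helper80_LiftI
import Cfsg.Agent.Lib.Helper80_LiftN
import Cfsg.Agent.Lib.Helper37_ThreeOrbAlg

/-!
# Direct products and Frobenius complements (helper80)
-/

set_option autoImplicit false

namespace Cfsg.Agent.Lib.Helper80_LiftO

open Matrix Kronecker

variable {K : Type*} [Field K]

theorem sum_kronecker {ι : Type*} {m n : Type*} (s : Finset ι) (f : ι → Matrix m m K)
    (N : Matrix n n K) : (∑ j ∈ s, f j) ⊗ₖ N = ∑ j ∈ s, f j ⊗ₖ N := by
  classical
  induction s using Finset.induction_on with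
  | empty => simp [zero_kronecker]
  | insert a s ha ih => rw [Finset.sum_insert ha, Finset.sum_insert ha, add_kronecker, ih]

theorem kronecker_sum {ι : Type*} {m n : Type*} (s : Finset ι) (f : ι → Matrix n n K)
    (M : Matrix m m K) : M ⊗ₖ (∑ j ∈ s, f j) = ∑ j ∈ s, M ⊗ₖ f j := by
  classical
  induction s using Finset.induction_on with
  | empty => simp [kronecker_zero]
  | insert a s ha ih => rw [Finset.sum_insert ha, Finset.sum_insert ha, kronecker_add, ih]

/-- the Kronecker product of two matrix representations -/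
def kronHom {A B : Type*} [Group A] [Group B] {a b : ℕ}
    (ρA : A →* Matrix (Fin a) (Fin a) K) (ρB : B →* Matrix (Fin b) (Fin b) K) :
    A × B →* Matrix (Fin a × Fin b) (Fin a × Fin b) K where
  toFun x := ρA x.1 ⊗ₖ ρB x.2
  map_one' := by
    simp only [Prod.fst_one, Prod.snd_one, map_one]
    exact one_kronecker_one
  map_mul' x y := by
    simp only [Prod.fst_mul, Prod.snd_mul, map_mul]
    exact mul_kronecker_mul _ _ _ _

theorem kronHom_apply {A B : Type*} [Group A] [Group B] {a b : ℕ}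
    (ρA : A →* Matrix (Fin a) (Fin a) K) (ρB : B →* Matrix (Fin b) (Fin b) K) (x : A × B) :
    kronHom ρA ρB x = ρA x.1 ⊗ₖ ρB x.2 := rfl

/-- elements of prime order in a direct product of groups of coprime orders -/
theorem prime_order_prod {A B : Type*} [Group A] [Group B] [Finite A] [Finite B]
    (hcop : (Nat.card A).Coprime (Nat.card B)) (c : A × B) (hc : (orderOf c).Prime) :
    (c.2 = 1 ∧ orderOf c.1 = orderOf c) ∨ (c.1 = 1 ∧ orderOf c.2 = orderOf c) := by
  have h1 : orderOf c = (orderOf c.1).lcm (orderOf c.2) := Prod.orderOf c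
  have h2 : (orderOf c.1).Coprime (orderOf c.2) :=
    Nat.Coprime.coprime_dvd_left (orderOf_dvd_natCard _)
      (Nat.Coprime.coprime_dvd_right (orderOf_dvd_natCard _) hcop)
  rw [h2.lcm_eq_mul] at h1
  rw [h1] at hc
  rcases (Nat.prime_mul_iff.1 hc) with ⟨_, h3⟩ | ⟨_, h3⟩
  · left
    refine ⟨orderOf_eq_one_iff.1 h3, ?_⟩
    rw [h1, h3, mul_one]
  · right
    refine ⟨orderOf_eq_one_iff.1 h3, ?_⟩
    rw [h1, h3, one_mul]

section main

variable {A B : Type*} [Group A] [Finite A] [Nontrivial A] [Group B] [Finite B] [Nontrivial B]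

/-- the direct product of two Frobenius complements of coprime orders is a Frobenius complement -/
theorem prod_of_factors (F : Type) [Field F] [IsAlgClosed F] [CharZero F]
    (hA : ∃ (L : Type) (_ : Group L) (_ : Finite L) (H : Subgroup L),
      Cfsg.IsFrobeniusComplement H ∧ Nonempty (A ≃* H))
    (hB : ∃ (L : Type) (_ : Group L) (_ : Finite L) (H : Subgroup L),
      Cfsg.IsFrobeniusComplement H ∧ Nonempty (B ≃* H))
    (hcop : (Nat.card A).Coprime (Nat.card B)) :
    ∃ (L : Type) (_ : Group L) (_ : Finite L) (H : Subgroup L),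
      Cfsg.IsFrobeniusComplement H ∧ Nonempty ((A × B) ≃* H) := by
  obtain ⟨a, ρA, ha, -, hNA⟩ := Cfsg.Agent.Lib.Helper80_LiftI.exists_fpf_block F hA
  obtain ⟨b, ρB, hb, -, hNB⟩ := Cfsg.Agent.Lib.Helper80_LiftI.exists_fpf_block F hB
  have : Nonempty (Fin a × Fin b) := ⟨(⟨0, ha⟩, ⟨0, hb⟩)⟩
  apply Cfsg.Agent.Lib.Helper80_LiftN.isFrobeniusComplement_of_algebra F (kronHom ρA ρB)
  intro c hc
  rcases prime_order_prod hcop c hc with ⟨h1, h2⟩ | ⟨h1, h2⟩
  · have h3 : ∀ j, kronHom ρA ρB (c ^ j) = ρA (c.1 ^ j) ⊗ₖ (1 : Matrix (Fin b) (Fin b) F) := by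
      intro j
      rw [kronHom_apply, Prod.pow_fst, Prod.pow_snd, h1, one_pow, map_one]
    simp only [h3]
    rw [← sum_kronecker, ← h2, hNA c.1 (h2 ▸ hc), zero_kronecker]
  · have h3 : ∀ j, kronHom ρA ρB (c ^ j) = (1 : Matrix (Fin a) (Fin a) F) ⊗ₖ ρB (c.2 ^ j) := by
      intro j
      rw [kronHom_apply, Prod.pow_fst, Prod.pow_snd, h1, one_pow, map_one]
    simp only [h3]
    rw [← kronecker_sum, ← h2, hNB c.2 (h2 ▸ hc), kronecker_zero]

/-- the factors of a direct product which is a Frobenius complement -/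
theorem factors_of_prod (F : Type) [Field F] [IsAlgClosed F] [CharZero F]
    (h : ∃ (L : Type) (_ : Group L) (_ : Finite L) (H : Subgroup L),
      Cfsg.IsFrobeniusComplement H ∧ Nonempty ((A × B) ≃* H)) :
    (∃ (L : Type) (_ : Group L) (_ : Finite L) (H : Subgroup L),
      Cfsg.IsFrobeniusComplement H ∧ Nonempty (A ≃* H)) ∧
    (∃ (L : Type) (_ : Group L) (_ : Finite L) (H : Subgroup L),
      Cfsg.IsFrobeniusComplement H ∧ Nonempty (B ≃* H)) ∧
    (Nat.card A).Coprime (Nat.card B) := by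
  obtain ⟨n, ρ₀, hn, -, hN⟩ := Cfsg.Agent.Lib.Helper80_LiftI.exists_fpf_block F h
  refine ⟨?_, ?_, ?_⟩
  · apply Cfsg.Agent.Lib.Helper80_LiftN.isFrobeniusComplement_of_block F hn
      (ρ₀.comp (MonoidHom.inl A B))
    intro c hc
    have h1 : orderOf (MonoidHom.inl A B c) = orderOf c :=
      orderOf_injective (MonoidHom.inl A B) (fun a b hab => by simpa using hab) c
    have h2 := hN (MonoidHom.inl A B c) (h1 ▸ hc)
    rw [h1] at h2
    simpa only [MonoidHom.comp_apply, map_pow] using h2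
  · apply Cfsg.Agent.Lib.Helper80_LiftN.isFrobeniusComplement_of_block F hn
      (ρ₀.comp (MonoidHom.inr A B))
    intro c hc
    have h1 : orderOf (MonoidHom.inr A B c) = orderOf c :=
      orderOf_injective (MonoidHom.inr A B) (fun a b hab => by simpa using hab) c
    have h2 := hN (MonoidHom.inr A B c) (h1 ▸ hc)
    rw [h1] at h2
    simpa only [MonoidHom.comp_apply, map_pow] using h2
  · by_contra hcop
    obtain ⟨q, hq, hqA, hqB⟩ := Nat.Prime.not_coprime_iff_dvd.1 hcop
    have : Fact q.Prime := ⟨hq⟩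
    obtain ⟨x, hx⟩ := exists_prime_orderOf_dvd_card' q hqA
    obtain ⟨y, hy⟩ := exists_prime_orderOf_dvd_card' q hqB
    have hord : ∀ k : ℕ, orderOf ((x, y ^ k) : A × B) = q := by
      intro k
      rw [Prod.orderOf_mk, hx]
      apply Nat.lcm_eq_left
      rw [← hy]
      exact orderOf_pow_dvd k
    have h1 : (q : Matrix (Fin n) (Fin n) F) = 0 := by
      apply Cfsg.Agent.Lib.Helper37_ThreeOrbAlg.natCast_eq_zero_of_norms
        (ρ₀ ((x, 1) : A × B)) (ρ₀ ((1, y) : A × B))
      · rw [← map_mul, ← map_mul]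
        simp
      · rw [← map_pow, Prod.pow_mk, one_pow, ← hy, pow_orderOf_eq_one]
        exact map_one ρ₀
      · intro k
        have h2 := hN ((x, y ^ k) : A × B) (by rw [hord k]; exact hq)
        rw [hord k] at h2
        have h3 : ρ₀ ((x, 1) : A × B) * ρ₀ ((1, y) : A × B) ^ k = ρ₀ ((x, y ^ k) : A × B) := by
          rw [← map_pow, ← map_mul]
          simp
        rw [Finset.sum_congr rfl (fun l _ => by rw [h3, ← map_pow])]
        exact h2
      · have h0 : orderOf ((1, y) : A × B) = q := by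
          rw [Prod.orderOf_mk, orderOf_one, hy, Nat.lcm_one_left]
        have h2 := hN ((1, y) : A × B) (by rw [h0]; exact hq)
        rw [h0] at h2
        simp only [← map_pow]
        exact h2
    have h4 := congrFun (congrFun h1 ⟨0, hn⟩) ⟨0, hn⟩
    rw [Matrix.natCast_apply] at h4
    simp only [if_true, Matrix.zero_apply] at h4
    exact hq.ne_zero (Nat.cast_eq_zero.1 h4)

end main

end Cfsg.Agent.Lib.Helper80_LiftO
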