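import Mathlib
import Cfsg.Agent.Lib.Helper97_OX3Defs
import Cfsg.Agent.Lib.Helper94_OrthVec

set_option autoImplicit false
set_option linter.unusedSectionVars false
set_option linter.unusedVariables false

/-!
# OEXT3 package BAL (architect helper97; formalised by helper80)

The `K`-balanced relation modulo `M`: for a totally singular `K`-line `K x + K y`,
`(αx) ∧ (βy) ≡ (βx) ∧ (αy)` modulo `M`.
-/

namespace Cfsg.Agent.Lib.Helper80_OX3_BAL

open Module Cfsg.Agent.Lib.Helper94_OrthSmall Cfsg.Agent.Lib.Helper94_OrthSiegel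
  Cfsg.Agent.Lib.Helper98_ExtDefs Cfsg.Agent.Lib.Helper97_OX2Defs
  Cfsg.Agent.Lib.Helper97_OX3Defs
open scoped commutatorElement

/-! ## The abelian group `U_L` of a totally singular subspace `L` -/

section UL

variable {F V : Type*} [Field F] [AddCommGroup V] [Module F V]

/-- the maps `g` with `(g - 1) V ⊆ L` fixing `L` pointwise -/
def UL (L : Submodule F V) : Subgroup (V ≃ₗ[F] V) where
  carrier := {g | (∀ x, g x - x ∈ L) ∧ ∀ l ∈ L, g l = l}
  one_mem' := ⟨fun x => by simp, fun l _ => rfl⟩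
  mul_mem' := by
    rintro g h ⟨hg1, hg2⟩ ⟨hh1, hh2⟩
    refine ⟨fun x => ?_, fun l hl => ?_⟩
    · have e : (g * h) x - x = (g (h x) - h x) + (h x - x) := by
        rw [LinearEquiv.mul_apply]; abel
      rw [e]
      exact L.add_mem (hg1 _) (hh1 _)
    · rw [LinearEquiv.mul_apply, hh2 l hl, hg2 l hl]
  inv_mem' := by
    rintro g ⟨hg1, hg2⟩
    refine ⟨fun x => ?_, fun l hl => ?_⟩
    · have h1 := hg1 (g⁻¹ x)
      rw [Cfsg.Agent.Lib.Helper94_Symp.apply_inv_apply'] at h1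
      have e : g⁻¹ x - x = -(x - g⁻¹ x) := by abel
      rw [e]
      exact L.neg_mem h1
    · apply g.injective
      rw [Cfsg.Agent.Lib.Helper94_Symp.apply_inv_apply', hg2 l hl]

theorem mem_UL {L : Submodule F V} {g : V ≃ₗ[F] V} :
    g ∈ UL L ↔ (∀ x, g x - x ∈ L) ∧ ∀ l ∈ L, g l = l := Iff.rfl

/-- `g ↦ g - 1` is additive on `U_L` -/
theorem UL_mul_sub {L : Submodule F V} {g h : V ≃ₗ[F] V} (hg : g ∈ UL L) (hh : h ∈ UL L)
    (x : V) : (g * h) x - x = (g x - x) + (h x - x) := by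
  have h1 : g (h x - x) = h x - x := hg.2 _ (hh.1 x)
  have e : h x = x + (h x - x) := by abel
  rw [LinearEquiv.mul_apply]
  conv_lhs => rw [e, map_add, h1]
  abel

theorem UL_inv_sub {L : Submodule F V} {g : V ≃ₗ[F] V} (hg : g ∈ UL L) (x : V) :
    g⁻¹ x - x = -(g x - x) := by
  have h1 := UL_mul_sub hg ((UL L).inv_mem hg) x
  rw [mul_inv_cancel] at h1
  have h2 : (1 : V ≃ₗ[F] V) x - x = 0 := by simp
  rw [h2] at h1
  exact eq_neg_of_add_eq_zero_right h1.symm

/-- two maps with the same `g - 1` agree -/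
theorem eq_of_sub_eq {g h : V ≃ₗ[F] V} (e : ∀ x, g x - x = h x - x) : g = h := by
  ext x
  have := e x
  exact sub_left_injective this

end UL

/-! ## Siegel elements of a totally singular subspace -/

section SiegL

variable {F V : Type*} [Field F] [AddCommGroup V] [Module F V]
  (Q : V → F) (B : LinearMap.BilinForm F V)
  (hQs : ∀ (c : F) (v : V), Q (c • v) = c * c * Q v)
  (hQp : ∀ u v : V, Q (u + v) = Q u + Q v + B u v)
  (L : Submodule F V) (hLQ : ∀ u ∈ L, Q u = 0) (hLB : ∀ u ∈ L, ∀ z ∈ L, B u z = 0)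

include hQs hQp hLQ hLB

theorem sieg_sub_L {u z : V} (hu : u ∈ L) (hz : z ∈ L) (x : V) :
    sieg Q B u z x - x = B x u • z - B x z • u := by
  rw [sieg_apply Q B hQs hQp (hLQ u hu) (hLB u hu z hz), hLQ z hz, zero_mul, zero_smul]
  abel

theorem sieg_mem_UL {u z : V} (hu : u ∈ L) (hz : z ∈ L) : sieg Q B u z ∈ UL L := by
  refine ⟨fun x => ?_, fun l hl => ?_⟩
  · rw [sieg_sub_L Q B hQs hQp L hLQ hLB hu hz]
    exact L.sub_mem (L.smul_mem _ hz) (L.smul_mem _ hu)
  · have := sieg_sub_L Q B hQs hQp L hLQ hLB hu hz l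
    rw [hLB l hl u hu, hLB l hl z hz, zero_smul, zero_smul, sub_zero] at this
    exact sub_eq_zero.mp this

end SiegL

/-! ## The package -/

variable {F K V : Type*} [Field F] [Field K] [Algebra F K] [AddCommGroup V] [Module F V]
  [Module K V] [IsScalarTower F K V]
variable {τ : K →ₗ[F] F} {QK : V → K} {BK : LinearMap.BilinForm K V}
variable [Finite F] [Finite K] [Module.Finite F V] [Module.Finite K V]

/-- a totally singular `K`-line is totally singular for `trQ` -/
theorem kln_trQ (C : Ctx3 τ QK BK) {x y : V} (h : TSPair QK BK x y) :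
    ∀ u ∈ kln F (K := K) x y, trQ τ QK u = 0 := by
  intro u hu
  obtain ⟨a, b, rfl⟩ := mem_kln.mp hu
  obtain ⟨hx, hy, hxy, -⟩ := h
  rw [trQ_apply, C.hQp, C.hQs, C.hQs, hx, hy, map_smul, map_smul, LinearMap.smul_apply, hxy]
  simp

theorem kln_BK (C : Ctx3 τ QK BK) {x y : V} (h : TSPair QK BK x y) :
    ∀ u ∈ kln F (K := K) x y, ∀ z ∈ kln F (K := K) x y, BK u z = 0 := by
  intro u hu z hz
  obtain ⟨a, b, rfl⟩ := mem_kln.mp hu
  obtain ⟨c, d, rfl⟩ := mem_kln.mp hz
  obtain ⟨hx, hy, hxy, -⟩ := h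
  have hxx : BK x x = 0 := by rw [C.BK_self, hx, mul_zero]
  have hyy : BK y y = 0 := by rw [C.BK_self, hy, mul_zero]
  have hyx : BK y x = 0 := by rw [C.BK_symm, hxy]
  simp only [map_add, map_smul, LinearMap.add_apply, LinearMap.smul_apply, hxx, hyy, hxy, hyx,
    smul_zero, add_zero]

theorem kln_trB (C : Ctx3 τ QK BK) {x y : V} (h : TSPair QK BK x y) :
    ∀ u ∈ kln F (K := K) x y, ∀ z ∈ kln F (K := K) x y, trB τ BK u z = 0 := by
  intro u hu z hz
  rw [trB_apply, kln_BK C h u hu z hz, map_zero]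

theorem smul_left_mem_kln (x y : V) (a : K) : a • x ∈ kln F (K := K) x y :=
  mem_kln.mpr ⟨a, 0, by simp⟩

theorem smul_right_mem_kln (x y : V) (b : K) : b • y ∈ kln F (K := K) x y :=
  mem_kln.mpr ⟨0, b, by simp⟩

/-- BAL: the `K`-balanced relation modulo `M` -/
theorem balanced (C : Ctx3 τ QK BK) (M : Subgroup (V ≃ₗ[F] V)) (hM : HypO3 τ QK BK M)
    (hroot : ∀ v : V, QK v = 0 → Root τ QK BK M v) {x y : V} (h : TSPair QK BK x y) (α β : K) :
    sieg (trQ τ QK) (trB τ BK) (α • x) (β • y) *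
      (sieg (trQ τ QK) (trB τ BK) (β • x) (α • y))⁻¹ ∈ M := by
  set Q := trQ τ QK with hQ
  set B := trB τ BK with hB
  set L := kln F (K := K) x y with hL
  have hQs := C.trQ_smul (τ := τ) (QK := QK) (BK := BK)
  have hQp := C.trQ_add (τ := τ) (QK := QK) (BK := BK)
  have hLQ := kln_trQ C h
  have hLB := kln_trB C h
  have mx : ∀ a : K, a • x ∈ L := smul_left_mem_kln x y
  have my : ∀ b : K, b • y ∈ L := smul_right_mem_kln x y
  have mv : ∀ a : K, a • (x + y) ∈ L := fun a => by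
    rw [smul_add]; exact L.add_mem (mx a) (my a)
  have hv : QK (x + y) = 0 := by
    obtain ⟨hx, hy, hxy, -⟩ := h
    rw [C.hQp, hx, hy, hxy]; simp
  have hx0 : QK x = 0 := h.1
  have hy0 : QK y = 0 := h.2.1
  -- the three elements of `M`
  have m1 : sieg Q B (α • (x + y)) (β • (x + y)) ∈ M := hroot (x + y) hv α β
  have m2 : sieg Q B (α • x) (β • x) ∈ M := hroot x hx0 α β
  have m3 : sieg Q B (α • y) (β • y) ∈ M := hroot y hy0 α β
  have U := fun {u z : V} (hu : u ∈ L) (hz : z ∈ L) =>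
    sieg_mem_UL Q B hQs hQp L hLQ hLB hu hz
  have S := fun {u z : V} (hu : u ∈ L) (hz : z ∈ L) (t : V) =>
    sieg_sub_L Q B hQs hQp L hLQ hLB hu hz t
  have key : sieg Q B (α • x) (β • y) * (sieg Q B (β • x) (α • y))⁻¹ =
      sieg Q B (α • (x + y)) (β • (x + y)) * (sieg Q B (α • x) (β • x))⁻¹ *
        (sieg Q B (α • y) (β • y))⁻¹ := by
    apply eq_of_sub_eq
    intro t
    rw [UL_mul_sub (U (mx α) (my β)) ((UL L).inv_mem (U (mx β) (my α))),
      UL_inv_sub (U (mx β) (my α)),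
      UL_mul_sub ((UL L).mul_mem (U (mv α) (mv β)) ((UL L).inv_mem (U (mx α) (mx β))))
        ((UL L).inv_mem (U (my α) (my β))),
      UL_mul_sub (U (mv α) (mv β)) ((UL L).inv_mem (U (mx α) (mx β))),
      UL_inv_sub (U (mx α) (mx β)), UL_inv_sub (U (my α) (my β)),
      S (mx α) (my β), S (mx β) (my α), S (mv α) (mv β), S (mx α) (mx β), S (my α) (my β)]
    simp only [smul_add, map_add]
    module
  rw [key]
  exact M.mul_mem (M.mul_mem m1 (M.inv_mem m2)) (M.inv_mem m3)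

end Cfsg.Agent.Lib.Helper80_OX3_BAL
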