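import Mathlib
import Cfsg.Agent.Lib.Helper97_OX3Defs
import Cfsg.Agent.Lib.Helper94_OrthVec
import Cfsg.Agent.Lib.Helper3_OX3_DUALB
import Cfsg.Agent.Lib.Helper80_OX3_BAL

set_option autoImplicit false
set_option linter.unusedSectionVars false
set_option linter.unusedVariables false

/-!
# OEXT3 package CROSS (architect helper97; formalised by helper80)

For a totally singular `K`-line `K x + K y` the `F`-Siegel elements `(κ x) ∧ y` lie in `M`:
`ksieg (κ x) y = ∏ᵢ (b'ᵢ κ x) ∧ (bᵢ y) ≡ (∑ᵢ bᵢ b'ᵢ κ x) ∧ y = (κ x) ∧ y` modulo `M`, by the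
`K`-balanced relation (package BAL) and trace-dual bases (package DUALB).
-/

namespace Cfsg.Agent.Lib.Helper80_OX3_CROSS

open Module Cfsg.Agent.Lib.Helper94_OrthSmall Cfsg.Agent.Lib.Helper94_OrthSiegel
  Cfsg.Agent.Lib.Helper98_ExtDefs Cfsg.Agent.Lib.Helper97_OX2Defs
  Cfsg.Agent.Lib.Helper97_OX3Defs Cfsg.Agent.Lib.Helper80_OX3_BAL
open scoped commutatorElement

section DL

variable {F V : Type*} [Field F] [AddCommGroup V] [Module F V]

/-- `g - 1` as a function -/
def dl (g : V ≃ₗ[F] V) : V → V := fun t => g t - t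

theorem dl_mul {L : Submodule F V} {g h : V ≃ₗ[F] V} (hg : g ∈ UL L) (hh : h ∈ UL L) :
    dl (g * h) = dl g + dl h := funext (UL_mul_sub hg hh)

theorem dl_inv {L : Submodule F V} {g : V ≃ₗ[F] V} (hg : g ∈ UL L) : dl g⁻¹ = -dl g :=
  funext (UL_inv_sub hg)

theorem eq_of_dl {g h : V ≃ₗ[F] V} (e : dl g = dl h) : g = h :=
  eq_of_sub_eq (congrFun e)

end DL

variable {F K V : Type*} [Field F] [Field K] [Algebra F K] [AddCommGroup V] [Module F V]
  [Module K V] [IsScalarTower F K V]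
variable {τ : K →ₗ[F] F} {QK : V → K} {BK : LinearMap.BilinForm K V}
variable [Finite F] [Finite K] [Module.Finite F V] [Module.Finite K V]

/-- CROSS -/
theorem cross_mem (C : Ctx3 τ QK BK) (M : Subgroup (V ≃ₗ[F] V)) (hM : HypO3 τ QK BK M)
    (hroot : ∀ v : V, QK v = 0 → Root τ QK BK M v) {x y : V} (h : TSPair QK BK x y) (κ : K) :
    sieg (trQ τ QK) (trB τ BK) (κ • x) y ∈ M := by
  obtain ⟨b, b', h1, h2, h3, h4⟩ := Cfsg.Agent.Lib.Helper3_OX3_DUALB.exists_dual_bases C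
  set Q := trQ τ QK with hQ
  set B := trB τ BK with hB
  set L := kln F (K := K) x y with hL
  have hQs := C.trQ_smul (τ := τ) (QK := QK) (BK := BK)
  have hQp := C.trQ_add (τ := τ) (QK := QK) (BK := BK)
  have hLQ := kln_trQ C h
  have hLB := kln_trB C h
  have hLBK := kln_BK C h
  have mx : ∀ a : K, a • x ∈ L := smul_left_mem_kln x y
  have my : ∀ c : K, c • y ∈ L := smul_right_mem_kln x y
  have my1 : y ∈ L := by have := my 1; rwa [one_smul] at this
  have mx1 : x ∈ L := by have := mx 1; rwa [one_smul] at this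
  have hx0 : QK x = 0 := h.1
  have hy0 : QK y = 0 := h.2.1
  have hxy : BK x y = 0 := h.2.2.1
  have hind := h.2.2.2
  have U := fun {u z : V} (hu : u ∈ L) (hz : z ∈ L) =>
    sieg_mem_UL Q B hQs hQp L hLQ hLB hu hz
  have S := fun {u z : V} (hu : u ∈ L) (hz : z ∈ L) (t : V) =>
    sieg_sub_L Q B hQs hQp L hLQ hLB hu hz t
  -- the elements
  set γ : Fin 3 → K := fun i => b' i * κ * b i with hγ
  set A : Fin 3 → (V ≃ₗ[F] V) := fun i => sieg Q B ((b' i * κ) • x) (b i • y) with hA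
  set T : Fin 3 → (V ≃ₗ[F] V) := fun i => sieg Q B x (γ i • y) with hT
  set Cc : Fin 3 → (V ≃ₗ[F] V) := fun i => sieg Q B (γ i • x) y with hCc
  have hAU : ∀ i, A i ∈ UL L := fun i => U (mx _) (my _)
  have hCU : ∀ i, Cc i ∈ UL L := fun i => U (mx _) my1
  have hb0 : ∀ i, b i ≠ 0 := by
    intro i hbi
    have := h1 i i
    rw [hbi, zero_mul, map_zero, if_pos rfl] at this
    exact zero_ne_one this
  -- `A i ≡ C i` modulo `M`
  have hD : ∀ i, A i * (Cc i)⁻¹ ∈ M := by
    intro i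
    have hpair : TSPair QK BK x (b i • y) := by
      refine ⟨hx0, ?_, ?_, ?_⟩
      · rw [C.hQs, hy0, mul_zero]
      · rw [map_smul, hxy, smul_zero]
      · intro a c hac
        rw [smul_smul] at hac
        obtain ⟨ha, hc⟩ := hind a (c * b i) hac
        refine ⟨ha, ?_⟩
        rcases mul_eq_zero.mp hc with hc | hc
        · exact hc
        · exact absurd hc (hb0 i)
    have e1 := balanced C M hM hroot hpair (b' i * κ) 1
    have e2 := balanced C M hM hroot h 1 (γ i)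
    rw [one_smul, one_smul, smul_smul] at e1
    rw [one_smul, one_smul] at e2
    have e : A i * (Cc i)⁻¹ =
        (sieg Q B ((b' i * κ) • x) (b i • y) * (sieg Q B x ((b' i * κ * b i) • y))⁻¹) *
        (sieg Q B x (γ i • y) * (sieg Q B (γ i • x) y)⁻¹) := by
      simp only [hA, hCc, hγ]
      group
    rw [e]
    exact M.mul_mem e1 e2
  -- the `K`-Siegel element is the product of the `A i`
  have hks : ksieg F QK BK (κ • x) y ∈ M := by
    apply hM.sieg_mem
    · rw [C.hQs, hx0, mul_zero]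
    · rw [map_smul, LinearMap.smul_apply, hxy, smul_zero]
  have hprod : ksieg F QK BK (κ • x) y = A 0 * A 1 * A 2 := by
    apply eq_of_sub_eq
    intro t
    rw [UL_mul_sub ((UL L).mul_mem (hAU 0) (hAU 1)) (hAU 2), UL_mul_sub (hAU 0) (hAU 1)]
    have hu : QK (κ • x) = 0 := by rw [C.hQs, hx0, mul_zero]
    have huw : BK (κ • x) y = 0 := by
      rw [map_smul, LinearMap.smul_apply, hxy, smul_zero]
    rw [C.ksieg_apply hu huw, hy0, zero_mul, zero_smul]
    simp only [hA]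
    rw [S (mx _) (my _), S (mx _) (my _), S (mx _) (my _)]
    set k : K := BK t (κ • x) with hk
    set k' : K := BK t y with hk'
    have e1 : ∀ i, B t ((b' i * κ) • x) = τ (k * b' i) := by
      intro i
      rw [hB, trB_apply, hk]
      congr 1
      rw [map_smul, map_smul, smul_eq_mul, smul_eq_mul]
      ring
    have e2 : ∀ i, B t (b i • y) = τ (k' * b i) := by
      intro i
      rw [hB, trB_apply, hk']
      congr 1
      rw [map_smul, smul_eq_mul, mul_comm]
    have ek : k • y = (τ (k * b' 0) • b 0 + τ (k * b' 1) • b 1 + τ (k * b' 2) • b 2) • y := by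
      rw [← Fin.sum_univ_three (fun i => τ (k * b' i) • b i), ← h2 k]
    have ek' : k' • (κ • x) =
        (τ (k' * b 0) • b' 0 + τ (k' * b 1) • b' 1 + τ (k' * b 2) • b' 2) • (κ • x) := by
      rw [← Fin.sum_univ_three (fun i => τ (k' * b i) • b' i), ← h3 k']
    rw [e1, e1, e1, e2, e2, e2, ek, ek']
    simp only [add_smul, smul_assoc, mul_smul]
    abel
  -- the product of the `C i` is `(κ x) ∧ y`
  have hsum : γ 0 + γ 1 + γ 2 = κ := by
    have h4' : b 0 * b' 0 + b 1 * b' 1 + b 2 * b' 2 = 1 := by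
      rw [← Fin.sum_univ_three (fun i => b i * b' i)]
      exact h4
    simp only [hγ]
    linear_combination κ * h4'
  have hprodC : sieg Q B (κ • x) y = Cc 0 * Cc 1 * Cc 2 := by
    apply eq_of_sub_eq
    intro t
    rw [UL_mul_sub ((UL L).mul_mem (hCU 0) (hCU 1)) (hCU 2), UL_mul_sub (hCU 0) (hCU 1)]
    simp only [hCc]
    rw [S (mx _) my1, S (mx _) my1, S (mx _) my1, S (mx _) my1]
    have e : κ • x = γ 0 • x + γ 1 • x + γ 2 • x := by
      rw [← add_smul, ← add_smul, hsum]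
    rw [e]
    simp only [map_add]
    module
  -- conclusion, using the commutativity of `U_L`
  have hfin : Cc 0 * Cc 1 * Cc 2 =
      (A 0 * (Cc 0)⁻¹)⁻¹ * (A 1 * (Cc 1)⁻¹)⁻¹ * (A 2 * (Cc 2)⁻¹)⁻¹ * (A 0 * A 1 * A 2) := by
    have hDU : ∀ i, A i * (Cc i)⁻¹ ∈ UL L := fun i =>
      (UL L).mul_mem (hAU i) ((UL L).inv_mem (hCU i))
    have hDiU : ∀ i, (A i * (Cc i)⁻¹)⁻¹ ∈ UL L := fun i => (UL L).inv_mem (hDU i)
    apply eq_of_dl
    rw [dl_mul ((UL L).mul_mem (hCU 0) (hCU 1)) (hCU 2), dl_mul (hCU 0) (hCU 1),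
      dl_mul ((UL L).mul_mem ((UL L).mul_mem (hDiU 0) (hDiU 1)) (hDiU 2))
        ((UL L).mul_mem ((UL L).mul_mem (hAU 0) (hAU 1)) (hAU 2)),
      dl_mul ((UL L).mul_mem (hDiU 0) (hDiU 1)) (hDiU 2), dl_mul (hDiU 0) (hDiU 1),
      dl_mul ((UL L).mul_mem (hAU 0) (hAU 1)) (hAU 2), dl_mul (hAU 0) (hAU 1),
      dl_inv (hDU 0), dl_inv (hDU 1), dl_inv (hDU 2),
      dl_mul (hAU 0) ((UL L).inv_mem (hCU 0)), dl_mul (hAU 1) ((UL L).inv_mem (hCU 1)),
      dl_mul (hAU 2) ((UL L).inv_mem (hCU 2)), dl_inv (hCU 0), dl_inv (hCU 1), dl_inv (hCU 2)]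
    abel
  rw [hprodC, hfin, ← hprod]
  exact M.mul_mem (M.mul_mem (M.mul_mem (M.inv_mem (hD 0)) (M.inv_mem (hD 1)))
    (M.inv_mem (hD 2))) hks

end Cfsg.Agent.Lib.Helper80_OX3_CROSS
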