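import Mathlib
import Cfsg.Agent.Lib.Helper76_S2647Defs

/-!
# S2647-UNIQC (helper80, for helper76's S2647 market)

The hypotheses of the generic uniqueness lemma UNIQ, verified for `Ed ≤ Sy`.
-/

set_option autoImplicit false

open Matrix Cfsg.Agent.Lib.Helper76_S2647Defs

namespace Cfsg.Agent.Lib.Helper80_S2647_UNIQC

variable {F : Type*} [Field F]

theorem r4_mem_D8 : r4 ∈ D8 := Subgroup.subset_closure (by simp)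

theorem s2_mem_D8 : s2 ∈ D8 := Subgroup.subset_closure (by simp)

/-- commuting with a sign change, in terms of the sign vector -/
theorem comm_iff
    (heq : ∀ (ε ε' : Fin 7 → ℤˣ) (π π' : Equiv.Perm (Fin 7)),
      monO F ε π = monO F ε' π' ↔ ε = ε' ∧ π = π')
    (hcd : ∀ (ε δ : Fin 7 → ℤˣ) (π : Equiv.Perm (Fin 7)),
      monO F ε π * monO F δ 1 * (monO F ε π)⁻¹ = monO F (fun j => δ (π⁻¹ j)) 1)
    (ε δ : Fin 7 → ℤˣ) (π : Equiv.Perm (Fin 7)) :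
    monO F ε π * monO F δ 1 = monO F δ 1 * monO F ε π ↔ ∀ j, δ (π j) = δ j := by
  have h1 : monO F ε π * monO F δ 1 = monO F δ 1 * monO F ε π ↔
      monO F ε π * monO F δ 1 * (monO F ε π)⁻¹ = monO F δ 1 := by
    constructor
    · intro h
      rw [h, mul_inv_cancel_right]
    · intro h
      rw [← h, inv_mul_cancel_right, h]
  rw [h1, hcd, heq]
  constructor
  · rintro ⟨h, -⟩ j
    have := congrFun h (π j)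
    simpa using this.symm
  · intro h
    refine ⟨?_, rfl⟩
    funext j
    have := h (π⁻¹ j)
    simpa using this.symm

theorem uniqc
    (heq : ∀ (ε ε' : Fin 7 → ℤˣ) (π π' : Equiv.Perm (Fin 7)),
      monO F ε π = monO F ε' π' ↔ ε = ε' ∧ π = π')
    (hSy : ∀ (ε : Fin 7 → ℤˣ) (π : Equiv.Perm (Fin 7)), monO F ε π ∈ Sy F ↔ ∏ j, ε j = 1 ∧ π ∈ D8)
    (hEd : ∀ (ε : Fin 7 → ℤˣ) (π : Equiv.Perm (Fin 7)), monO F ε π ∈ Ed F ↔ ∏ j, ε j = 1 ∧ π = 1)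
    (hcd : ∀ (ε δ : Fin 7 → ℤˣ) (π : Equiv.Perm (Fin 7)),
      monO F ε π * monO F δ 1 * (monO F ε π)⁻¹ = monO F (fun j => δ (π⁻¹ j)) 1)
    (hf1 : ∀ π : Equiv.Perm (Fin 7), π ∈ D8 → π ≠ 1 →
      Nat.card {δ : Fin 7 → ℤˣ // ∏ j, δ j = 1 ∧ ∀ j, δ (π j) = δ j} ≤ 16)
    (hf2 : ∀ π π' : Equiv.Perm (Fin 7), π ∈ D8 → π' ∈ D8 → π ≠ 1 → π' ≠ 1 → π ≠ π' →
      Nat.card {δ : Fin 7 → ℤˣ // ∏ j, δ j = 1 ∧ (∀ j, δ (π j) = δ j) ∧ ∀ j, δ (π' j) = δ j} ≤ 8)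
    (hnab : r4 * s2 ≠ s2 * r4) :
    (∀ s ∈ Sy F, ∀ e ∈ Ed F, s * e * s⁻¹ ∈ Ed F) ∧
    (∃ x ∈ Sy F, ∃ y ∈ Sy F, x * y * x⁻¹ * y⁻¹ ∉ Ed F) ∧
    (∀ x ∈ Sy F, x ∉ Ed F → Nat.card {e : ↥(O7 F) // e ∈ Ed F ∧ x * e = e * x} ≤ 16) ∧
    (∀ x ∈ Sy F, ∀ y ∈ Sy F, x ∉ Ed F → y ∉ Ed F → x * y⁻¹ ∉ Ed F →
      Nat.card {e : ↥(O7 F) // e ∈ Ed F ∧ x * e = e * x ∧ y * e = e * y} ≤ 8) ∧
    (∀ a ∈ Ed F, ∀ b ∈ Ed F, a * b = b * a) := by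
  refine ⟨?_, ?_, ?_, ?_, ?_⟩
  · rintro _ ⟨ε, π, hε, hπ, rfl⟩ _ ⟨δ, hδ, rfl⟩
    rw [hcd, hEd]
    refine ⟨?_, rfl⟩
    rw [Equiv.prod_comp π⁻¹ δ, hδ]
  · refine ⟨monO F 1 r4, (hSy _ _).mpr ⟨by simp, r4_mem_D8⟩, monO F 1 s2,
      (hSy _ _).mpr ⟨by simp, s2_mem_D8⟩, ?_⟩
    rw [monO_inv, monO_inv, monO_mul, monO_mul, monO_mul, hEd]
    rintro ⟨-, h⟩
    apply hnab
    have h' : r4 * s2 * r4⁻¹ * s2⁻¹ * s2 * r4 = 1 * s2 * r4 := by rw [h]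
    simpa [mul_assoc] using h'
  · rintro _ ⟨ε, π, hε, hπ, rfl⟩ hx
    have hπ1 : π ≠ 1 := by
      intro h
      exact hx ((hEd _ _).mpr ⟨hε, h⟩)
    refine le_trans ?_ (hf1 π hπ hπ1)
    let f : {δ : Fin 7 → ℤˣ // ∏ j, δ j = 1 ∧ ∀ j, δ (π j) = δ j} →
        {e : ↥(O7 F) // e ∈ Ed F ∧ monO F ε π * e = e * monO F ε π} :=
      fun δ => ⟨monO F δ.1 1, (hEd _ _).mpr ⟨δ.2.1, rfl⟩, (comm_iff heq hcd ε δ.1 π).mpr δ.2.2⟩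
    apply Nat.card_le_card_of_surjective f
    rintro ⟨_, ⟨δ, hδ, rfl⟩, hc⟩
    exact ⟨⟨δ, hδ, (comm_iff heq hcd ε δ π).mp hc⟩, rfl⟩
  · rintro _ ⟨ε, π, hε, hπ, rfl⟩ _ ⟨ε', π', hε', hπ', rfl⟩ hx hy hxy
    have hπ1 : π ≠ 1 := by
      intro h
      exact hx ((hEd _ _).mpr ⟨hε, h⟩)
    have hπ1' : π' ≠ 1 := by
      intro h
      exact hy ((hEd _ _).mpr ⟨hε', h⟩)
    have hne : π ≠ π' := by
      intro h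
      apply hxy
      have hmem : monO F ε π * (monO F ε' π')⁻¹ ∈ Sy F :=
        (Sy F).mul_mem ((hSy _ _).mpr ⟨hε, hπ⟩) ((Sy F).inv_mem ((hSy _ _).mpr ⟨hε', hπ'⟩))
      rw [monO_inv, monO_mul] at hmem ⊢
      rw [hSy] at hmem
      rw [hEd]
      refine ⟨hmem.1, ?_⟩
      rw [h, mul_inv_cancel]
    refine le_trans ?_ (hf2 π π' hπ hπ' hπ1 hπ1' hne)
    let f : {δ : Fin 7 → ℤˣ // ∏ j, δ j = 1 ∧ (∀ j, δ (π j) = δ j) ∧ ∀ j, δ (π' j) = δ j} →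
        {e : ↥(O7 F) // e ∈ Ed F ∧ monO F ε π * e = e * monO F ε π ∧
          monO F ε' π' * e = e * monO F ε' π'} :=
      fun δ => ⟨monO F δ.1 1, (hEd _ _).mpr ⟨δ.2.1, rfl⟩,
        (comm_iff heq hcd ε δ.1 π).mpr δ.2.2.1, (comm_iff heq hcd ε' δ.1 π').mpr δ.2.2.2⟩
    apply Nat.card_le_card_of_surjective f
    rintro ⟨_, ⟨δ, hδ, rfl⟩, hc, hc'⟩
    exact ⟨⟨δ, hδ, (comm_iff heq hcd ε δ π).mp hc, (comm_iff heq hcd ε' δ π').mp hc'⟩, rfl⟩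
  · rintro _ ⟨ε, hε, rfl⟩ _ ⟨δ, hδ, rfl⟩
    rw [monO_mul, monO_mul]
    congr 1
    funext j
    simp [mul_comm]

end Cfsg.Agent.Lib.Helper80_S2647_UNIQC
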