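import Mathlib
import Cfsg.Agent.S0199
import Cfsg.Agent.Lib.Helper47_S4839_DIH
import Cfsg.Agent.Lib.Helper47_S4839_SQ

set_option autoImplicit false

namespace Cfsg.Agent.Lib.Helper80_S4839_TWO

open Cfsg.Agent.Lib.Helper47_S4839_DIH Cfsg.Agent.Lib.Helper47_S4839_SQ

/-- two subgroups of `N` with trivial intersection: the product of their orders is at most `|N|`. -/
theorem card_mul_card_le {G : Type*} [Group G] [Finite G] (N A B : Subgroup G) (hA : A ≤ N)
    (hB : B ≤ N) (hAB : A ⊓ B = ⊥) : Nat.card A * Nat.card B ≤ Nat.card N := by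
  classical
  rw [← Nat.card_prod]
  apply Nat.card_le_card_of_injective (fun ab : A × B => (⟨(ab.1 : G) * (ab.2 : G),
    N.mul_mem (hA ab.1.2) (hB ab.2.2)⟩ : N))
  rintro ⟨a, b⟩ ⟨a', b'⟩ h
  have h1 : (a : G) * (b : G) = (a' : G) * (b' : G) := congrArg Subtype.val h
  have h2 : (a' : G)⁻¹ * (a : G) = (b' : G) * (b : G)⁻¹ := by
    rw [inv_mul_eq_iff_eq_mul, ← mul_assoc, ← h1, mul_assoc, mul_inv_cancel, mul_one]
  have h3 : (a' : G)⁻¹ * (a : G) ∈ A ⊓ B :=
    ⟨A.mul_mem (A.inv_mem a'.2) a.2, by rw [h2]; exact B.mul_mem b'.2 (B.inv_mem b.2)⟩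
  rw [hAB, Subgroup.mem_bot] at h3
  have h4 : (a : G) = (a' : G) := by
    rw [inv_mul_eq_one] at h3
    exact h3.symm
  have h5 : (b : G) = (b' : G) := by
    rw [h4] at h1
    exact mul_left_cancel h1
  exact Prod.ext (Subtype.ext h4) (Subtype.ext h5)

theorem two_core {G : Type*} [Group G] [Finite G] (N : Subgroup G) [N.Normal]
    (hexp : ∀ x ∈ N, x * x = 1)
    (hCN : Subgroup.centralizer (N : Set G) ≤ N)
    (hB : ∀ x ∈ N, x ≠ 1 → ∀ y : G, y * x = x * y → ∃ j : ℕ, y ^ (2 ^ j) = 1)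
    (hCam : ∀ g : G, g ∉ N → ∀ n ∈ N, IsConj g (g * n))
    (t : G) (htN : t ∉ N) (ht2 : t * t ∈ N) :
    ∃ M : Subgroup G, M.Normal ∧ IsPGroup 2 M ∧ t ∈ M := by
  classical
  haveI : Fact (Nat.Prime 2) := ⟨Nat.prime_two⟩
  -- `N` is a 2-group
  have hN2 : IsPGroup 2 N := by
    intro x
    refine ⟨1, ?_⟩
    apply Subtype.ext
    rw [pow_one, pow_two]
    exact hexp x x.2
  set a : G ⧸ N := (t : G ⧸ N) with ha
  have haa : a * a = 1 := by
    rw [ha, ← QuotientGroup.mk_mul]
    exact (QuotientGroup.eq_one_iff _).mpr ht2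
  -- Baer-Suzuki in the quotient
  have hX : IsPGroup 2 (Subgroup.zpowers a) := by
    rintro ⟨x, hx⟩
    obtain ⟨i, rfl⟩ := Subgroup.mem_zpowers_iff.mp hx
    refine ⟨1, ?_⟩
    apply Subtype.ext
    show (a ^ i) ^ 2 ^ 1 = 1
    rw [pow_one, ← zpow_natCast, ← zpow_mul, mul_comm, zpow_mul, zpow_natCast, pow_two, haa,
      one_zpow]
  have key : ∀ q : G ⧸ N, IsPGroup 2
      ↥(Subgroup.zpowers a ⊔ (Subgroup.zpowers a).map (MulAut.conj q).toMonoidHom) := by
    intro q
    obtain ⟨x, rfl⟩ := QuotientGroup.mk_surjective q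
    set s : G := x * t * x⁻¹ with hs
    set b : G ⧸ N := (s : G ⧸ N) with hb
    have hmap : (Subgroup.zpowers a).map (MulAut.conj (x : G ⧸ N)).toMonoidHom =
        Subgroup.zpowers b := by
      rw [MonoidHom.map_zpowers]
      congr 1
    rw [hmap]
    have hbb : b * b = 1 := by
      rw [hb, hs]
      simp only [QuotientGroup.mk_mul, QuotientGroup.mk_inv]
      calc (x : G ⧸ N) * a * (x : G ⧸ N)⁻¹ * ((x : G ⧸ N) * a * (x : G ⧸ N)⁻¹)
          = (x : G ⧸ N) * (a * a) * (x : G ⧸ N)⁻¹ := by group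
        _ = 1 := by rw [haa]; group
    rcases dihedral a b haa hbb with ⟨_, h⟩ | ⟨b', hb'2, hb'1, hodd, hlt⟩
    · exact h
    · exfalso
      obtain ⟨s', rfl⟩ := QuotientGroup.mk_surjective b'
      have hs'N : s' ∉ N := fun h => hb'1 ((QuotientGroup.eq_one_iff s').mpr h)
      have hs'2 : s' * s' ∈ N := by
        rw [← QuotientGroup.eq_one_iff, QuotientGroup.mk_mul]
        exact hb'2
      set u : G := t * s' with hu
      -- `u` is not a 2-element
      have hu2 : ∀ j : ℕ, u ^ (2 ^ j) ≠ 1 := by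
        intro j hj
        have h1 : ((u : G) : G ⧸ N) ^ (2 ^ j) = 1 := by
          rw [← QuotientGroup.mk_pow, hj]
          rfl
        have h2 : orderOf (a * (s' : G ⧸ N)) ∣ 2 ^ j := by
          apply orderOf_dvd_of_pow_eq_one
          rw [ha, ← QuotientGroup.mk_mul]
          exact h1
        obtain ⟨i, _, hi⟩ := (Nat.dvd_prime_pow Nat.prime_two).mp h2
        rw [hi] at hodd hlt
        rcases Nat.eq_zero_or_pos i with rfl | hipos
        · simp at hlt
        · exact (Nat.not_even_iff_odd.mpr hodd) ((Nat.even_pow.mpr ⟨even_two, hipos.ne'⟩))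
      -- the two centralizers meet trivially
      set A := N ⊓ Subgroup.centralizer ({t} : Set G) with hA
      set B := N ⊓ Subgroup.centralizer ({s'} : Set G) with hB'
      have hAB : A ⊓ B = ⊥ := by
        rw [Subgroup.eq_bot_iff_forall]
        intro z hz
        have hzA : z ∈ A := hz.1
        have hzB : z ∈ B := hz.2
        have hzN : z ∈ N := hzA.1
        have hzt : z ∈ Subgroup.centralizer ({t} : Set G) := hzA.2
        have hzs : z ∈ Subgroup.centralizer ({s'} : Set G) := hzB.2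
        by_contra hz1
        rw [Subgroup.mem_centralizer_iff] at hzt hzs
        have h1 := hzt t (Set.mem_singleton t)
        have h2 := hzs s' (Set.mem_singleton s')
        have h3 : u * z = z * u := by
          rw [hu, mul_assoc, h2, ← mul_assoc, h1, mul_assoc]
        obtain ⟨j, hj⟩ := hB z hzN hz1 u h3
        exact hu2 j hj
      have h1 := card_mul_card_le N A B inf_le_left inf_le_left hAB
      have h2 := card_centralizer_sq N hexp hCN hCam t htN ht2
      have h3 := card_centralizer_sq N hexp hCN hCam s' hs'N hs'2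
      rw [← hA] at h2
      rw [← hB'] at h3
      have h4 : Nat.card N * Nat.card N < (Nat.card A * Nat.card B) ^ 2 := by
        rw [mul_pow]
        exact Nat.mul_lt_mul'' h2 h3
      have h5 : (Nat.card A * Nat.card B) ^ 2 ≤ Nat.card N * Nat.card N := by
        rw [pow_two]
        exact Nat.mul_le_mul h1 h1
      omega
  obtain ⟨M, hMn, hM2, hXM⟩ := Cfsg.Agent.S0199.result (Subgroup.zpowers a) hX key
  refine ⟨M.comap (QuotientGroup.mk' N), inferInstance, ?_, ?_⟩
  · apply IsPGroup.comap_of_ker_isPGroup hM2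
    rw [QuotientGroup.ker_mk']
    exact hN2
  · rw [Subgroup.mem_comap]
    exact hXM (Subgroup.mem_zpowers a)

end Cfsg.Agent.Lib.Helper80_S4839_TWO
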