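import Mathlib
import Cfsg.Agent.Lib.Helper80_S4840Defs

set_option autoImplicit false

namespace Cfsg.Agent.Lib.Helper80_S4840_CARD

open Cfsg.Agent.Lib.Helper80_S4840Defs

/-- CARD: orbit-stabilizer in the linear setting. -/
theorem card {p : ℕ} [Fact p.Prime] {V : Type*} [AddCommGroup V] [Module (ZMod p) V] [Finite V]
    [Nontrivial V] {Γ : Type*} [Group Γ] [Finite Γ] {ρ : Γ →* (V ≃ₗ[ZMod p] V)}
    (hS : GSetting p ρ) : ∃ k : ℕ, Nat.card Γ = (Nat.card V - 1) * p ^ k := by
  classical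
  haveI := Fintype.ofFinite Γ
  haveI := Fintype.ofFinite V
  obtain ⟨v₀, hv₀⟩ := exists_ne (0 : V)
  letI : MulAction Γ V := MulAction.compHom V ρ
  have hsmul : ∀ (g : Γ) (v : V), g • v = ρ g v := fun g v => rfl
  -- the orbit of `v₀` is the set of nonzero vectors
  have horb : MulAction.orbit Γ v₀ = {v : V | v ≠ 0} := by
    ext v
    constructor
    · rintro ⟨g, rfl⟩
      show g • v₀ ≠ 0
      rw [hsmul]
      intro h
      apply hv₀
      have := (ρ g).injective (h.trans (map_zero (ρ g)).symm)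
      exact this
    · intro hv
      obtain ⟨g, hg⟩ := hS.trans v₀ v hv₀ hv
      exact ⟨g, by show g • v₀ = v; rw [hsmul, hg]⟩
  -- the stabilizer is a `p`-group
  have hstab : IsPGroup p (MulAction.stabilizer Γ v₀) := by
    rw [IsPGroup.iff_orderOf]
    intro g
    have hg : (g : Γ) • v₀ = v₀ := g.2
    rw [hsmul] at hg
    obtain ⟨k, hk⟩ := hS.stab g v₀ hv₀ hg
    exact ⟨k, by rw [Subgroup.orderOf_coe] at hk; exact hk⟩
  obtain ⟨k, hk⟩ := IsPGroup.iff_card.mp hstab
  refine ⟨k, ?_⟩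
  have h1 := MulAction.card_orbit_mul_card_stabilizer_eq_card_group Γ v₀
  rw [← Nat.card_eq_fintype_card, ← Nat.card_eq_fintype_card, ← Nat.card_eq_fintype_card, hk] at h1
  rw [← h1]
  congr 1
  rw [horb]
  have h2 : Nat.card {v : V | v ≠ 0} = Nat.card V - 1 := by
    have : Nat.card {v : V | v ≠ 0} = Nat.card {v : V // v ≠ 0} := rfl
    rw [this, Nat.card_eq_fintype_card, Nat.card_eq_fintype_card, Fintype.card_subtype_compl,
      Fintype.card_subtype_eq]
  exact h2

end Cfsg.Agent.Lib.Helper80_S4840_CARD
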