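import Mathlib
import Cfsg.Agent.Lib.Helper80_S4840Defs
import Cfsg.Agent.Lib.Helper12_Hup5
import Cfsg.Agent.Lib.Helper1_Cores

set_option autoImplicit false

namespace Cfsg.Agent.Lib.Helper80_S4840_PREA

open Cfsg.Agent.Lib.Helper80_S4840Defs


/-- PREA: the `p`-core of a transitive linear group in characteristic `p` is trivial. -/
theorem preA {p : ℕ} [Fact p.Prime] {V : Type*} [AddCommGroup V] [Module (ZMod p) V] [Finite V]
    [Nontrivial V] {Γ : Type*} [Group Γ] [Finite Γ] {ρ : Γ →* (V ≃ₗ[ZMod p] V)}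
    (hS : GSetting p ρ) : Cfsg.pCore p Γ = ⊥ := by
  let θ : Γ ≃* ρ.range := MonoidHom.ofInjective hS.inj
  have hθ : ∀ (g : Γ) (v : V), ((θ g : ρ.range) : V ≃ₗ[ZMod p] V) v = ρ g v := fun g v => rfl
  have htr : Cfsg.Agent.Lib.Helper12_Hup1.Trans (ρ.range) := by
    intro v w hv hw
    obtain ⟨g, hg⟩ := hS.trans v w hv hw
    exact ⟨θ g, by rw [hθ, hg]⟩
  have h0 := Cfsg.Agent.Lib.Helper12_Hup5.pCore_char_eq_bot (ρ.range) htr
  have hn : ((Cfsg.pCore p Γ).map θ.toMonoidHom).Normal :=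
    (Cfsg.Agent.Lib.Helper1_Cores.pCore_normal p).map _ θ.surjective
  have hp : IsPGroup p ((Cfsg.pCore p Γ).map θ.toMonoidHom) :=
    (Cfsg.Agent.Lib.Helper1_Cores.pCore_isPGroup p).map _
  have hle := Cfsg.Agent.Lib.Helper1_Cores.le_pCore hn hp
  rw [h0, le_bot_iff] at hle
  exact (Subgroup.map_eq_bot_iff_of_injective _ θ.injective).mp hle

end Cfsg.Agent.Lib.Helper80_S4840_PREA
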