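import Mathlib
import Cfsg.Prelude.Def_Characters
import Cfsg.Agent.Lib.Helper80_SplitA
import Cfsg.Agent.Lib.Helper80_CharInd

/-!
# Irreducible `K`-representations containing a given complex irreducible character (helper80)
-/

set_option autoImplicit false
set_option linter.unusedSectionVars false

namespace Cfsg.Agent.Lib.Helper80_SplitB

open Representation
open scoped ComplexConjugate
open Cfsg.Agent.Lib.Helper80_SplitA Cfsg.Agent.Lib.Helper3_RepDecomp
  Cfsg.Agent.Lib.Helper3_CharOrtho

universe u v w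

variable {K : Type*} [Field K] [Algebra K ℂ] {G : Type u} [Group G]

/-- Two characters with a common irreducible constituent have non-zero inner product. -/
theorem classInner_ne_zero_of_common [Fintype G] {ψ₁ ψ₂ : G → ℂ} (h₁ : Cfsg.IsCharacter G ψ₁)
    (h₂ : Cfsg.IsCharacter G ψ₂) (χ : Cfsg.IrrCharacter G)
    (hc₁ : Cfsg.classInner ψ₁ (χ : G → ℂ) ≠ 0) (hc₂ : Cfsg.classInner ψ₂ (χ : G → ℂ) ≠ 0) :
    Cfsg.classInner ψ₂ ψ₁ ≠ 0 := by
  classical
  have := Fintype.ofFinite (Cfsg.IrrCharacter G)
  obtain ⟨b₁, hb₁, he₁⟩ := Cfsg.Agent.Lib.Helper80_CharInd.char_decomp ψ₁ h₁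
  obtain ⟨b₂, hb₂, -⟩ := Cfsg.Agent.Lib.Helper80_CharInd.char_decomp ψ₂ h₂
  have hsum : Cfsg.classInner ψ₂ ψ₁ = ((∑ φ : Cfsg.IrrCharacter G, b₁ φ * b₂ φ : ℕ) : ℂ) := by
    conv_lhs => rw [he₁]
    rw [classInner_sum_right, Nat.cast_sum]
    refine Finset.sum_congr rfl (fun φ _ => ?_)
    rw [classInner_smul_right, hb₂ φ, Complex.conj_natCast, Nat.cast_mul]
  rw [hsum]
  have h1 : b₁ χ ≠ 0 := by
    intro h0
    apply hc₁
    rw [hb₁ χ, h0, Nat.cast_zero]
  have h2 : b₂ χ ≠ 0 := by
    intro h0
    apply hc₂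
    rw [hb₂ χ, h0, Nat.cast_zero]
  have h3 : b₁ χ * b₂ χ ≤ ∑ φ : Cfsg.IrrCharacter G, b₁ φ * b₂ φ :=
    Finset.single_le_sum (f := fun φ => b₁ φ * b₂ φ) (fun _ _ => Nat.zero_le _)
      (Finset.mem_univ χ)
  have h4 : 0 < b₁ χ * b₂ χ := Nat.mul_pos (Nat.pos_of_ne_zero h1) (Nat.pos_of_ne_zero h2)
  exact_mod_cast (lt_of_lt_of_le h4 h3).ne'

/-- Irreducible `K`-representations sharing a complex irreducible constituent are equivalent. -/
theorem nonempty_equiv_of_common [Fintype G] {U₁ : Type v} [AddCommGroup U₁] [Module K U₁]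
    [FiniteDimensional K U₁] {U₂ : Type w} [AddCommGroup U₂] [Module K U₂]
    [FiniteDimensional K U₂] (τ₁ : Representation K G U₁) (τ₂ : Representation K G U₂)
    [τ₁.IsIrreducible] [τ₂.IsIrreducible] (χ : Cfsg.IrrCharacter G)
    (hc₁ : Cfsg.classInner (cchar τ₁) (χ : G → ℂ) ≠ 0)
    (hc₂ : Cfsg.classInner (cchar τ₂) (χ : G → ℂ) ≠ 0) : Nonempty (τ₁.Equiv τ₂) := by
  have h := classInner_ne_zero_of_common (isCharacter_cchar τ₁) (isCharacter_cchar τ₂) χ hc₁ hc₂
  rw [classInner_cchar_eq_finrank] at h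
  have h1 : 0 < Module.finrank K (IntertwiningMap τ₁ τ₂) := by
    apply Nat.pos_of_ne_zero
    intro h0
    apply h
    rw [h0, Nat.cast_zero]
  obtain ⟨f, hf⟩ := Module.finrank_pos_iff_exists_ne_zero.mp h1
  exact ⟨f.ofBijective ((IsIrreducible.bijective_or_eq_zero f).resolve_right hf)⟩

theorem cchar_eq_zero_of_subsingleton {V : Type*} [AddCommGroup V] [Module K V] [Subsingleton V]
    (ρ : Representation K G V) : cchar ρ = 0 := by
  funext g
  rw [cchar_apply, Representation.character, Subsingleton.elim (ρ g) 0, map_zero, map_zero]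
  rfl

theorem cchar_eq_add_of_isCompl {V : Type*} [AddCommGroup V] [Module K V] [FiniteDimensional K V]
    (ρ : Representation K G V) (P Q : Submodule K V) (hP : IsInv ρ P) (hQ : IsInv ρ Q)
    (h : IsCompl P Q) : cchar ρ = cchar (subRep ρ P hP) + cchar (subRep ρ Q hQ) := by
  funext g
  rw [cchar_apply, char_eq_add_of_isCompl ρ P Q hP hQ h, Pi.add_apply, map_add]
  rfl

/-- Induction principle: a property of class functions which holds for `0` and is preserved by
adding the complex character of an irreducible `K`-representation holds for the complex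
characters of all finite-dimensional `K`-representations. -/
theorem krep_induction [Finite G] (Q : (G → ℂ) → Prop) (h0 : Q 0)
    (hstep : ∀ (U : Type v) [AddCommGroup U] [Module K U] [FiniteDimensional K U]
      (τ : Representation K G U), τ.IsIrreducible → ∀ ψ, Q ψ → Q (cchar τ + ψ)) :
    ∀ (n : ℕ) (V : Type v) [AddCommGroup V] [Module K V] [FiniteDimensional K V]
      (ρ : Representation K G V), Module.finrank K V = n → Q (cchar ρ) := by
  intro n
  induction n using Nat.strong_induction_on with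
  | _ n ih =>
  intro V _ _ _ ρ hn
  have : NeZero (Nat.card G : K) := ⟨card_ne_zero_K⟩
  by_cases hV : Subsingleton V
  · rw [cchar_eq_zero_of_subsingleton ρ]
    exact h0
  have hVnt : Nontrivial V := not_subsingleton_iff_nontrivial.mp hV
  obtain ⟨S, hS, hSne, hSirr⟩ := exists_irreducible_sub ρ
  obtain ⟨P, hP, hSP⟩ := exists_isInv_isCompl ρ S hS
  rw [cchar_eq_add_of_isCompl ρ S P hS hP hSP]
  have hlt : Module.finrank K P < n := by
    have h4 := Submodule.finrank_add_eq_of_isCompl hSP
    have h5 : 0 < Module.finrank K S :=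
      Module.finrank_pos_iff.mpr (Submodule.nontrivial_iff_ne_bot.mpr hSne)
    omega
  exact hstep S (subRep ρ S hS) hSirr _ (ih _ hlt P (subRep ρ P hP) rfl)

/-- A `K`-representation whose complex character contains `χ` has an irreducible
`K`-representation (in the same universe) whose complex character contains `χ`. -/
theorem exists_irreducible_of_classInner_ne_zero [Fintype G] (χ : G → ℂ)
    {V : Type v} [AddCommGroup V] [Module K V] [FiniteDimensional K V]
    (ρ : Representation K G V) (h : Cfsg.classInner (cchar ρ) χ ≠ 0) :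
    ∃ (U : Type v) (_ : AddCommGroup U) (_ : Module K U) (_ : FiniteDimensional K U)
      (τ : Representation K G U), τ.IsIrreducible ∧ Cfsg.classInner (cchar τ) χ ≠ 0 := by
  refine krep_induction (K := K) (G := G)
    (fun ψ => Cfsg.classInner ψ χ ≠ 0 →
      ∃ (U : Type v) (_ : AddCommGroup U) (_ : Module K U) (_ : FiniteDimensional K U)
        (τ : Representation K G U), τ.IsIrreducible ∧ Cfsg.classInner (cchar τ) χ ≠ 0)
    ?_ ?_ _ V ρ rfl h
  · intro h0
    exact absurd (classInner_zero_left χ) h0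
  · intro U _ _ _ τ hτ ψ hψ hne
    by_cases h1 : Cfsg.classInner (cchar τ) χ = 0
    · apply hψ
      rwa [classInner_add_left, h1, zero_add] at hne
    · exact ⟨U, inferInstance, inferInstance, inferInstance, τ, hτ, h1⟩

/-- Divisibility: if the irreducible `K`-representation `τ₀` contains `χ` with multiplicity `m`,
then the multiplicity of `χ` in any `K`-representation is a multiple of `m`. -/
theorem classInner_multiple [Fintype G] (χ : Cfsg.IrrCharacter G)
    {U₀ : Type w} [AddCommGroup U₀] [Module K U₀] [FiniteDimensional K U₀]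
    (τ₀ : Representation K G U₀) [τ₀.IsIrreducible] (m : ℕ) (hm0 : m ≠ 0)
    (hm : Cfsg.classInner (cchar τ₀) (χ : G → ℂ) = m)
    {V : Type v} [AddCommGroup V] [Module K V] [FiniteDimensional K V]
    (ρ : Representation K G V) :
    ∃ k : ℕ, Cfsg.classInner (cchar ρ) (χ : G → ℂ) = (k : ℂ) * m := by
  refine krep_induction (K := K) (G := G)
    (fun ψ => ∃ k : ℕ, Cfsg.classInner ψ (χ : G → ℂ) = (k : ℂ) * m) ?_ ?_ _ V ρ rfl
  · exact ⟨0, by rw [classInner_zero_left, Nat.cast_zero, zero_mul]⟩
  · intro U _ _ _ τ hτ ψ hψ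
    obtain ⟨k, hk⟩ := hψ
    by_cases h1 : Cfsg.classInner (cchar τ) (χ : G → ℂ) = 0
    · exact ⟨k, by rw [classInner_add_left, h1, zero_add, hk]⟩
    · have hne0 : Cfsg.classInner (cchar τ₀) (χ : G → ℂ) ≠ 0 := by
        rw [hm]
        exact_mod_cast hm0
      obtain ⟨e⟩ := nonempty_equiv_of_common τ τ₀ χ h1 hne0
      refine ⟨k + 1, ?_⟩
      rw [classInner_add_left, cchar_iso e, hm, hk]
      push_cast
      ring

end Cfsg.Agent.Lib.Helper80_SplitB
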