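import Mathlib
import Cfsg.Prelude.Def_Characters
import Cfsg.Agent.Lib.Helper80_SplitA
import Cfsg.Agent.Lib.Helper75_Induced

/-!
# Induced characters of linear characters are afforded over `K` (helper80)

For a subgroup `E` and a multiplicative function `μ : E → K`, the range of the projection
`(P f) x = |E|⁻¹ ∑ h : E, μ h * f (x * h)` on the regular representation `G → K` affords the
function induced from `μ`.
-/

set_option autoImplicit false
set_option linter.unusedSectionVars false

namespace Cfsg.Agent.Lib.Helper80_SplitC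

open Representation
open scoped ComplexConjugate
open Cfsg.Agent.Lib.Helper80_SplitA Cfsg.Agent.Lib.Helper3_RepDecomp

universe u

variable {K : Type*} [Field K] {G : Type u} [Group G]

/-- The regular representation on functions `G → K`. -/
noncomputable def regRep : Representation K G (G → K) where
  toFun g :=
    { toFun := fun f x => f (g⁻¹ * x)
      map_add' := fun f₁ f₂ => rfl
      map_smul' := fun c f => rfl }
  map_one' := by
    apply LinearMap.ext
    intro f
    funext x
    simp
  map_mul' g h := by
    apply LinearMap.ext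
    intro f
    funext x
    simp [mul_assoc]

theorem regRep_apply (g : G) (f : G → K) (x : G) : regRep (K := K) g f x = f (g⁻¹ * x) := rfl

variable (E : Subgroup G) [Fintype E] (μ : E → K)

/-- The averaging operator attached to `μ`. -/
noncomputable def proj : (G → K) →ₗ[K] (G → K) where
  toFun f x := (Nat.card E : K)⁻¹ * ∑ h : E, μ h * f (x * h)
  map_add' f₁ f₂ := by
    funext x
    simp only [Pi.add_apply, mul_add, Finset.sum_add_distrib]
  map_smul' c f := by
    funext x
    simp only [Pi.smul_apply, smul_eq_mul, RingHom.id_apply, Finset.mul_sum]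
    refine Finset.sum_congr rfl (fun h _ => ?_)
    ring

theorem proj_apply (f : G → K) (x : G) :
    proj E μ f x = (Nat.card E : K)⁻¹ * ∑ h : E, μ h * f (x * h) := rfl

theorem regRep_proj (g : G) (f : G → K) :
    regRep g (proj E μ f) = proj E μ (regRep g f) := by
  funext x
  simp only [regRep_apply, proj_apply, mul_assoc]

theorem proj_proj (hE : (Nat.card E : K) ≠ 0) (hμ : ∀ a b : E, μ (a * b) = μ a * μ b)
    (f : G → K) : proj E μ (proj E μ f) = proj E μ f := by
  funext x
  rw [proj_apply]
  have h1 : ∀ h : E, μ h * proj E μ f (x * h) =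
      (Nat.card E : K)⁻¹ * ∑ k : E, μ k * f (x * k) := by
    intro h
    rw [proj_apply, mul_left_comm, Finset.mul_sum]
    congr 1
    rw [← Fintype.sum_equiv (Equiv.mulLeft h) (fun h' => μ h * (μ h' * f (x * h * h')))
      (fun k => μ k * f (x * k))]
    intro h'
    rw [Equiv.coe_mulLeft, hμ, Subgroup.coe_mul, mul_assoc, mul_assoc]
  rw [Finset.sum_congr rfl (fun h _ => h1 h), Finset.sum_const, Finset.card_univ,
    ← Nat.card_eq_fintype_card, nsmul_eq_mul, proj_apply, ← mul_assoc,
    inv_mul_cancel₀ hE, one_mul]

theorem isInv_range_proj : IsInv (regRep (K := K) (G := G)) (LinearMap.range (proj E μ)) := by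
  rintro g _ ⟨f, rfl⟩
  exact ⟨regRep g f, (regRep_proj E μ g f).symm⟩

/-- The `K`-representation induced from `μ`. -/
noncomputable def indRep : Representation K G (LinearMap.range (proj E μ)) :=
  subRep regRep (LinearMap.range (proj E μ)) (isInv_range_proj E μ)

theorem trace_fun [Fintype G] [DecidableEq G] (T : (G → K) →ₗ[K] (G → K)) :
    LinearMap.trace K (G → K) T = ∑ x : G, T (Pi.single x 1) x := by
  rw [LinearMap.trace_eq_matrix_trace K (Pi.basisFun K G), Matrix.trace]
  refine Finset.sum_congr rfl (fun x _ => ?_)
  rw [Matrix.diag_apply, LinearMap.toMatrix_apply, Pi.basisFun_repr, Pi.basisFun_apply]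

theorem indRep_character [Fintype G] [DecidableEq G] (hE : (Nat.card E : K) ≠ 0)
    (hμ : ∀ a b : E, μ (a * b) = μ a * μ b) (g : G) :
    (indRep E μ).character g =
      (Nat.card E : K)⁻¹ * ∑ x : G, ∑ h : E, μ h * (if g⁻¹ * x * h = x then 1 else 0) := by
  have hmem : ∀ f, ((regRep g).comp (proj E μ)) f ∈ LinearMap.range (proj E μ) := by
    intro f
    rw [LinearMap.comp_apply, regRep_proj]
    exact ⟨_, rfl⟩
  have h1 := LinearMap.trace_restrict_eq_of_forall_mem (LinearMap.range (proj E μ))
    ((regRep g).comp (proj E μ)) hmem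
  have h2 : ((regRep g).comp (proj E μ)).restrict (fun x _ => hmem x) = indRep E μ g := by
    apply LinearMap.ext
    rintro ⟨w, f, rfl⟩
    apply Subtype.ext
    show regRep g (proj E μ (proj E μ f)) = regRep g (proj E μ f)
    rw [proj_proj E μ hE hμ]
  rw [Representation.character, ← h2, h1, trace_fun, Finset.mul_sum]
  refine Finset.sum_congr rfl (fun x _ => ?_)
  rw [LinearMap.comp_apply, regRep_apply, proj_apply]
  congr 1
  refine Finset.sum_congr rfl (fun h _ => ?_)
  congr 1
  rw [Pi.single_apply]

/-- The complex character of `indRep E μ` is the function induced from `μ`. -/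
theorem cchar_indRep [Algebra K ℂ] [Fintype G] (hμ : ∀ a b : E, μ (a * b) = μ a * μ b) :
    cchar (indRep E μ) = Cfsg.indFun E (fun e => algebraMap K ℂ (μ e)) := by
  classical
  have hE : (Nat.card E : K) ≠ 0 := card_ne_zero_K
  funext g
  rw [cchar_apply, indRep_character E μ hE hμ, Cfsg.Agent.Lib.Helper75_Induced.indFun_apply,
    map_mul, map_inv₀, map_natCast, map_sum]
  congr 1
  refine Finset.sum_congr rfl (fun x _ => ?_)
  have key : ∀ h : E, g⁻¹ * x * (h : G) = x ↔ (h : G) = x⁻¹ * g * x := by
    intro h
    constructor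
    · intro h1
      have : (h : G) = (g⁻¹ * x)⁻¹ * x := eq_inv_mul_of_mul_eq h1
      rw [this]
      group
    · intro h1
      rw [h1]
      group
  by_cases hx : x⁻¹ * g * x ∈ E
  · rw [Cfsg.Agent.Lib.Helper75_Induced.extendByZero_of_mem E _ hx,
      Finset.sum_eq_single (⟨x⁻¹ * g * x, hx⟩ : E)]
    · rw [if_pos ((key _).mpr rfl), mul_one]
    · intro h _ hne
      rw [if_neg, mul_zero]
      intro h1
      exact hne (Subtype.ext ((key h).mp h1))
    · intro h
      exact absurd (Finset.mem_univ _) h
  · rw [Cfsg.Agent.Lib.Helper75_Induced.extendByZero_of_not_mem E _ hx]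
    rw [Finset.sum_eq_zero, map_zero]
    intro h _
    rw [if_neg, mul_zero]
    intro h1
    apply hx
    rw [← (key h).mp h1]
    exact h.2

end Cfsg.Agent.Lib.Helper80_SplitC
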