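import Mathlib
import Cfsg.Prelude.Def_Characters
import Cfsg.Agent.Lib.Helper80_SplitA
import Cfsg.Agent.Lib.Helper80_SplitB
import Cfsg.Agent.Lib.Helper80_CharBasic
import Cfsg.Agent.Lib.Helper80_CharInd
import Cfsg.Agent.S4814

/-!
# The central idempotent of a `K`-valued irreducible character acting on an irreducible
`K`-representation (helper80)
-/

set_option autoImplicit false
set_option linter.unusedSectionVars false

namespace Cfsg.Agent.Lib.Helper80_SplitD

open Representation
open scoped ComplexConjugate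
open Cfsg.Agent.Lib.Helper80_SplitA Cfsg.Agent.Lib.Helper80_CharBasic

universe u v

variable {K : Type*} [Field K] {G : Type u} [Group G] [Fintype G]
  {V : Type v} [AddCommGroup V] [Module K V]

/-- The operator `∑ g, c g • ρ g`. -/
noncomputable def avgOp (c : G → K) (ρ : Representation K G V) : Module.End K V :=
  ∑ g : G, c g • ρ g

theorem avgOp_comm (c : G → K) (ρ : Representation K G V)
    (hc : ∀ g h : G, c (h * g * h⁻¹) = c g) (h : G) :
    ρ h * avgOp c ρ = avgOp c ρ * ρ h := by
  rw [avgOp, Finset.mul_sum, Finset.sum_mul]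
  rw [← Fintype.sum_equiv (MulAut.conj h).toEquiv (fun g => ρ h * c g • ρ g)
    (fun k => c k • ρ k * ρ h)]
  intro g
  rw [MulEquiv.toEquiv_eq_coe, MulEquiv.coe_toEquiv, MulAut.conj_apply, hc, mul_smul_comm,
    smul_mul_assoc, ← map_mul, ← map_mul, inv_mul_cancel_right]

theorem avgOp_idem (c : G → K) (ρ : Representation K G V)
    (hcc : ∀ k : G, ∑ g : G, c g * c (g⁻¹ * k) = c k) :
    avgOp c ρ * avgOp c ρ = avgOp c ρ := by
  have h1 : avgOp c ρ = ∑ g : G, ∑ k : G, (c g * c (g⁻¹ * k)) • ρ k := by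
    rw [Finset.sum_comm, avgOp]
    refine Finset.sum_congr rfl (fun k _ => ?_)
    rw [← Finset.sum_smul, hcc]
  conv_rhs => rw [h1]
  rw [avgOp, Finset.sum_mul]
  refine Finset.sum_congr rfl (fun g _ => ?_)
  rw [Finset.mul_sum]
  rw [Fintype.sum_equiv (Equiv.mulLeft g) (fun h => c g • ρ g * c h • ρ h)
    (fun k => (c g * c (g⁻¹ * k)) • ρ k)]
  intro h
  rw [Equiv.coe_mulLeft, inv_mul_cancel_left, smul_mul_smul_comm, map_mul]

theorem trace_avgOp [FiniteDimensional K V] (c : G → K) (ρ : Representation K G V) :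
    LinearMap.trace K V (avgOp c ρ) = ∑ g : G, c g * ρ.character g := by
  rw [avgOp, map_sum]
  refine Finset.sum_congr rfl (fun g _ => ?_)
  rw [map_smul, smul_eq_mul]
  rfl

/-- If an irreducible `K`-representation contains the `K`-valued irreducible character `χ`
exactly once, then its complex character is `χ`. -/
theorem cchar_eq_of_classInner_eq_one [Algebra K ℂ] [FiniteDimensional K V]
    (χ : Cfsg.IrrCharacter G) (χK : G → K)
    (hχK : ∀ g, algebraMap K ℂ (χK g) = (χ : G → ℂ) g)
    (ρ : Representation K G V) [ρ.IsIrreducible]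
    (h1 : Cfsg.classInner (cchar ρ) (χ : G → ℂ) = 1) : cchar ρ = (χ : G → ℂ) := by
  classical
  have hinj : Function.Injective (algebraMap K ℂ) := (algebraMap K ℂ).injective
  obtain ⟨d, hdpos, hd⟩ := irr_apply_one χ
  have hGK : (Nat.card G : K) ≠ 0 := card_ne_zero_K
  have hGC : (Nat.card G : ℂ) ≠ 0 := by exact_mod_cast (Nat.card_pos (α := G)).ne'
  have hdC : (d : ℂ) ≠ 0 := by exact_mod_cast hdpos.ne'
  set c : G → K := fun g => (d : K) / (Nat.card G : K) * χK g⁻¹ with hc_def
  have hcC : ∀ g, algebraMap K ℂ (c g) = (d : ℂ) / (Nat.card G : ℂ) * (χ : G → ℂ) g⁻¹ := by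
    intro g
    rw [hc_def]
    simp only [map_mul, map_div₀, map_natCast, hχK]
  have hc : ∀ g h : G, c (h * g * h⁻¹) = c g := by
    intro g h
    apply hinj
    rw [hcC, hcC]
    have : (h * g * h⁻¹)⁻¹ = h * g⁻¹ * h⁻¹ := by group
    rw [this, irr_conj]
  have hcc : ∀ k : G, ∑ g : G, c g * c (g⁻¹ * k) = c k := by
    intro k
    apply hinj
    rw [map_sum, hcC]
    have hgo := Cfsg.Agent.S4814.gen_orthogonality χ χ k⁻¹
    rw [if_pos rfl, hd] at hgo
    have h2 : ∀ g : G, algebraMap K ℂ (c g * c (g⁻¹ * k)) =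
        ((d : ℂ) / (Nat.card G : ℂ)) ^ 2 * ((χ : G → ℂ) g⁻¹ * (χ : G → ℂ) (g * k⁻¹)) := by
      intro g
      rw [map_mul, hcC, hcC]
      have e1 : (g⁻¹ * k)⁻¹ = k⁻¹ * g := by group
      have e2 : (χ : G → ℂ) (k⁻¹ * g) = (χ : G → ℂ) (g * k⁻¹) := by
        have := irr_conj χ (k⁻¹ * g) g
        rw [← this]
        congr 1
        group
      rw [e1, e2]
      ring
    rw [Finset.sum_congr rfl (fun g _ => h2 g), ← Finset.mul_sum, hgo]
    field_simp
  -- the operator
  have hcomm := avgOp_comm c ρ hc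
  have hidem := avgOp_idem c ρ hcc
  let T : IntertwiningMap ρ ρ := ⟨avgOp c ρ, fun g => (hcomm g).symm⟩
  have htr : algebraMap K ℂ (LinearMap.trace K V (avgOp c ρ)) = (d : ℂ) := by
    rw [trace_avgOp, map_sum]
    have h3 : ∀ g : G, algebraMap K ℂ (c g * ρ.character g) =
        (d : ℂ) / (Nat.card G : ℂ) * (cchar ρ g * conj ((χ : G → ℂ) g)) := by
      intro g
      rw [map_mul, hcC, irr_inv, cchar_apply]
      ring
    rw [Finset.sum_congr rfl (fun g _ => h3 g), ← Finset.mul_sum]
    have h4 : ∑ g : G, cchar ρ g * conj ((χ : G → ℂ) g) = (Nat.card G : ℂ) := by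
      have := h1
      rw [Cfsg.classInner] at this
      field_simp at this
      exact this
    rw [h4]
    field_simp
  have hT0 : T ≠ 0 := by
    intro h0
    have h5 : avgOp c ρ = 0 := congrArg IntertwiningMap.toLinearMap h0
    rw [h5, map_zero, map_zero] at htr
    exact hdC htr.symm
  have hbij : Function.Bijective T := (IsIrreducible.bijective_or_eq_zero T).resolve_right hT0
  have hTid : avgOp c ρ = 1 := by
    apply LinearMap.ext
    intro v
    have h6 : avgOp c ρ (avgOp c ρ v) = avgOp c ρ v := by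
      conv_rhs => rw [← hidem]
      rfl
    exact hbij.1 h6
  rw [hTid, Module.End.one_eq_id, LinearMap.trace_id, map_natCast] at htr
  have hdeg : cchar ρ 1 = (Module.finrank K V : ℂ) := cchar_one ρ
  have hne : Cfsg.classInner (cchar ρ) (χ : G → ℂ) ≠ 0 := by
    rw [h1]
    exact one_ne_zero
  have hle : Module.finrank K V ≤ d := by
    have : (Module.finrank K V : ℂ) = (d : ℂ) := htr
    have h7 : Module.finrank K V = d := by exact_mod_cast this
    exact h7.le
  exact Cfsg.Agent.Lib.Helper80_CharInd.eq_of_constituent_of_degree_le (cchar ρ)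
    (isCharacter_cchar ρ) χ hne _ d hdeg hd hle

end Cfsg.Agent.Lib.Helper80_SplitD
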