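import Mathlib
import Cfsg.Prelude.Def_Characters
import Cfsg.Agent.Lib.Helper80_SplitA
import Cfsg.Agent.Lib.Helper80_SplitB
import Cfsg.Agent.Lib.Helper80_SplitC
import Cfsg.Agent.Lib.Helper80_SplitD
import Cfsg.Agent.S0163

/-!
# Brauer's splitting field theorem over a subfield containing the `exp(G)`-th roots of unity
(helper80)
-/

set_option autoImplicit false
set_option linter.unusedSectionVars false

namespace Cfsg.Agent.Lib.Helper80_SplitE

open Representation
open scoped ComplexConjugate
open Cfsg.Agent.Lib.Helper80_SplitA Cfsg.Agent.Lib.Helper80_SplitB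
  Cfsg.Agent.Lib.Helper80_SplitC Cfsg.Agent.Lib.Helper80_SplitD
  Cfsg.Agent.Lib.Helper3_CharOrtho Cfsg.Agent.Lib.Helper3_RepDecomp

universe u uK

variable {G : Type u} [Group G] [Fintype G]

/-- Consequence of Brauer's induction theorem: an additive subgroup of the functions on `G`
containing all functions induced from linear characters of subgroups contains all characters. -/
theorem brauer_mem (S : AddSubgroup (G → ℂ))
    (hS : ∀ (E : Subgroup G) (lam : E →* ℂˣ), Cfsg.indFun E (fun e => (lam e : ℂ)) ∈ S)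
    {χ : G → ℂ} (hχ : Cfsg.IsCharacter G χ) : χ ∈ S := by
  obtain ⟨l, -, rfl⟩ := Cfsg.Agent.S0163.result χ hχ
  apply AddSubgroup.list_sum_mem
  intro ψ hψ
  obtain ⟨t, -, rfl⟩ := List.mem_map.mp hψ
  rw [Int.cast_smul_eq_zsmul]
  exact S.zsmul_mem (hS _ _) _

variable (K : Type uK) [Field K] [Algebra K ℂ]

/-- A complex-valued function on `G` is realizable over `K` when it is the complex character of
a finite-dimensional `K`-representation (in the universe of `G`). -/
def Realizable (ψ : G → ℂ) : Prop :=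
  ∃ (V : Type (max u uK)) (_ : AddCommGroup V) (_ : Module K V) (_ : FiniteDimensional K V)
    (ρ : Representation K G V), cchar ρ = ψ

theorem realizable_zero : Realizable K (0 : G → ℂ) :=
  ⟨PUnit.{max u uK + 1}, inferInstance, inferInstance, inferInstance, 1,
    cchar_eq_zero_of_subsingleton _⟩

theorem realizable_add {ψ₁ ψ₂ : G → ℂ} (h₁ : Realizable K ψ₁) (h₂ : Realizable K ψ₂) :
    Realizable K (ψ₁ + ψ₂) := by
  obtain ⟨V₁, _, _, _, ρ₁, rfl⟩ := h₁
  obtain ⟨V₂, _, _, _, ρ₂, rfl⟩ := h₂
  refine ⟨V₁ × V₂, inferInstance, inferInstance, inferInstance, ρ₁.prod ρ₂, ?_⟩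
  funext g
  rw [cchar_apply, char_prod, Pi.add_apply, map_add]
  rfl

theorem realizable_nsmul {ψ : G → ℂ} (h : Realizable K ψ) (n : ℕ) : Realizable K (n • ψ) := by
  induction n with
  | zero => rw [zero_smul]; exact realizable_zero K
  | succ n ih => rw [succ_nsmul]; exact realizable_add K ih h

theorem realizable_sum {ι : Type*} (s : Finset ι) (ψ : ι → G → ℂ)
    (h : ∀ i ∈ s, Realizable K (ψ i)) : Realizable K (∑ i ∈ s, ψ i) := by
  classical
  induction s using Finset.induction_on with
  | empty => rw [Finset.sum_empty]; exact realizable_zero K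
  | insert a s ha ih =>
    rw [Finset.sum_insert ha]
    exact realizable_add K (h a (Finset.mem_insert_self a s))
      (ih (fun i hi => h i (Finset.mem_insert_of_mem hi)))

variable (hK : ∀ z : ℂ, z ^ Monoid.exponent G = 1 → z ∈ Set.range (algebraMap K ℂ))
include hK

/-- Functions induced from linear characters are realizable over `K`. -/
theorem realizable_indFun (E : Subgroup G) (lam : E →* ℂˣ) :
    Realizable K (Cfsg.indFun E (fun e => (lam e : ℂ))) := by
  classical
  have : Fintype E := Fintype.ofFinite E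
  have h1 : ∀ e : E, ∃ k : K, algebraMap K ℂ k = (lam e : ℂ) := by
    intro e
    apply hK
    rw [← Units.val_pow_eq_pow_val, ← map_pow]
    have : e ^ Monoid.exponent G = 1 := by
      apply Subtype.ext
      rw [Subgroup.coe_pow, Monoid.pow_exponent_eq_one]
      rfl
    rw [this, map_one]
    rfl
  choose μ hμ using h1
  have hmul : ∀ a b : E, μ (a * b) = μ a * μ b := by
    intro a b
    apply (algebraMap K ℂ).injective
    rw [map_mul, hμ, hμ, hμ, map_mul, Units.val_mul]
  refine ⟨_, inferInstance, inferInstance, inferInstance, indRep E μ, ?_⟩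
  rw [cchar_indRep E μ hmul]
  congr 1
  funext e
  exact hμ e

/-- Brauer: every irreducible character is realizable over `K`. -/
theorem realizable_irr (χ : Cfsg.IrrCharacter G) : Realizable K (χ : G → ℂ) := by
  classical
  have hχc : Cfsg.IsCharacter G (χ : G → ℂ) :=
    Cfsg.Agent.Lib.Helper3_CharBridge.isCharacter_of_isIrrCharacter χ.2
  -- values in `K`
  let S₁ : AddSubgroup (G → ℂ) :=
    { carrier := {ψ | ∀ g, ψ g ∈ (algebraMap K ℂ).range}
      add_mem' := fun ha hb g => add_mem (ha g) (hb g)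
      zero_mem' := fun g => zero_mem _
      neg_mem' := fun ha g => neg_mem (ha g) }
  have hS₁ : (χ : G → ℂ) ∈ S₁ := by
    apply brauer_mem S₁ _ hχc
    intro E lam g
    obtain ⟨V, _, _, _, ρ, hρ⟩ := realizable_indFun K hK E lam
    rw [← hρ]
    exact ⟨_, rfl⟩
  choose χK hχK using hS₁
  -- some induced function contains `χ`
  have hex : ∃ (E : Subgroup G) (lam : E →* ℂˣ),
      Cfsg.classInner (Cfsg.indFun E (fun e => (lam e : ℂ))) (χ : G → ℂ) ≠ 0 := by
    by_contra hcon
    push Not at hcon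
    let S₂ : AddSubgroup (G → ℂ) :=
      { carrier := {ψ | Cfsg.classInner ψ (χ : G → ℂ) = 0}
        add_mem' := fun {a b} ha hb => by
          show Cfsg.classInner (a + b) (χ : G → ℂ) = 0
          rw [classInner_add_left, ha, hb, add_zero]
        zero_mem' := classInner_zero_left _
        neg_mem' := fun {a} ha => by
          show Cfsg.classInner (-a) (χ : G → ℂ) = 0
          have : -a = (-1 : ℂ) • a := by rw [neg_smul, one_smul]
          rw [this, classInner_smul_left, ha, mul_zero] }
    have h2 : (χ : G → ℂ) ∈ S₂ := brauer_mem S₂ (fun E lam => hcon E lam) hχc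
    have h3 : Cfsg.classInner (χ : G → ℂ) (χ : G → ℂ) = 0 := h2
    rw [classInner_self_of_isIrrCharacter χ.2] at h3
    exact one_ne_zero h3
  obtain ⟨E₀, lam₀, hne₀⟩ := hex
  obtain ⟨V₀, _, _, _, ρ₀, hρ₀⟩ := realizable_indFun K hK E₀ lam₀
  rw [← hρ₀] at hne₀
  obtain ⟨U, _, _, _, τ, hτ, hτne⟩ := exists_irreducible_of_classInner_ne_zero (χ : G → ℂ) ρ₀ hne₀
  obtain ⟨m, hm⟩ := Cfsg.Agent.Lib.Helper75_CharArith.classInner_isCharacter_nat
    (isCharacter_cchar τ) hχc
  have hm0 : m ≠ 0 := by
    intro h0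
    apply hτne
    rw [hm, h0, Nat.cast_zero]
  -- divisibility
  let S₃ : AddSubgroup (G → ℂ) :=
    { carrier := {ψ | ∃ z : ℤ, Cfsg.classInner ψ (χ : G → ℂ) = (z : ℂ) * m}
      add_mem' := fun {a b} ha hb => by
        obtain ⟨z₁, h₁⟩ := ha
        obtain ⟨z₂, h₂⟩ := hb
        refine ⟨z₁ + z₂, ?_⟩
        rw [classInner_add_left, h₁, h₂]
        push_cast
        ring
      zero_mem' := ⟨0, by rw [classInner_zero_left, Int.cast_zero, zero_mul]⟩
      neg_mem' := fun {a} ha => by
        obtain ⟨z₁, h₁⟩ := ha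
        refine ⟨-z₁, ?_⟩
        have : -a = (-1 : ℂ) • a := by rw [neg_smul, one_smul]
        rw [this, classInner_smul_left, h₁]
        push_cast
        ring }
  have hS₃ : (χ : G → ℂ) ∈ S₃ := by
    apply brauer_mem S₃ _ hχc
    intro E lam
    obtain ⟨V, _, _, _, ρ, hρ⟩ := realizable_indFun K hK E lam
    obtain ⟨k, hk⟩ := classInner_multiple χ τ m hm0 hm ρ
    refine ⟨k, ?_⟩
    rw [← hρ, hk]
    push_cast
    rfl
  obtain ⟨z, hz⟩ := hS₃
  rw [classInner_self_of_isIrrCharacter χ.2] at hz
  have hz' : z * (m : ℤ) = 1 := by exact_mod_cast hz.symm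
  have hm1 : (m : ℤ) = 1 :=
    Int.eq_one_of_dvd_one (Int.natCast_nonneg m) (Dvd.intro_left z hz')
  have hm1' : m = 1 := by exact_mod_cast hm1
  rw [hm1', Nat.cast_one] at hm
  exact ⟨U, inferInstance, inferInstance, inferInstance, τ,
    cchar_eq_of_classInner_eq_one χ χK hχK τ hm⟩

/-- Every character is realizable over `K`. -/
theorem realizable_of_isCharacter {ψ : G → ℂ} (hψ : Cfsg.IsCharacter G ψ) : Realizable K ψ := by
  classical
  have := Fintype.ofFinite (Cfsg.IrrCharacter G)
  obtain ⟨b, -, he⟩ := Cfsg.Agent.Lib.Helper80_CharInd.char_decomp ψ hψ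
  rw [he]
  apply realizable_sum
  intro φ _
  rw [Nat.cast_smul_eq_nsmul]
  exact realizable_nsmul K (realizable_irr K hK φ) _

/-- Brauer's splitting field theorem, generic form. -/
theorem exists_equiv_matrices (n : ℕ) (ρ : Representation ℂ G (Fin n → ℂ)) :
    ∃ σ : Representation ℂ G (Fin n → ℂ), Nonempty (ρ.Equiv σ) ∧
      ∀ g : G, ∀ i j : Fin n, LinearMap.toMatrix' (σ g) i j ∈ Set.range (algebraMap K ℂ) := by
  obtain ⟨V, _, _, _, τ, hτ⟩ := realizable_of_isCharacter K hK (ψ := ρ.character) ⟨n, ρ, rfl⟩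
  obtain ⟨n', σ, hσ, hσc⟩ := exists_matRep τ
  have hn : n' = n := by
    have h1 := congrFun (hσc.trans hτ) 1
    rw [Representation.char_one, Representation.char_one, Module.finrank_fin_fun,
      Module.finrank_fin_fun] at h1
    exact_mod_cast h1
  subst hn
  exact ⟨σ, nonempty_equiv_of_char_eq ρ σ (hσc.trans hτ).symm, hσ⟩

end Cfsg.Agent.Lib.Helper80_SplitE
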