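import Mathlib
import Cfsg.Agent.Lib.Helper37_SzCharDefs
import Cfsg.Agent.Lib.Helper3_CharColumn
import Cfsg.Agent.Lib.Helper3_CharDegree
import Cfsg.Agent.Lib.Helper79_RealOdd
import Cfsg.Agent.Lib.Helper75_CharArith
import Cfsg.Agent.Lib.Helper80_CharBasic

/-!
# S4775 package PK-C (helper80): completion of the character table of a Suzuki-type group
by column orthogonality.
-/

set_option autoImplicit false

namespace Cfsg.Agent.Lib.Helper80_SzChar_PKC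

open scoped ComplexConjugate Classical
open Cfsg Cfsg.Agent.Helper37SzChar
open Cfsg.Agent.Lib.Helper3_CharColumn Cfsg.Agent.Lib.Helper3_CharComplete

/-- a vanishing sum of squared absolute values -/
theorem eq_zero_of_sum_mul_conj {ι : Type*} (s : Finset ι) (z : ι → ℂ)
    (h : ∑ i ∈ s, z i * conj (z i) = 0) : ∀ i ∈ s, z i = 0 := by
  have h1 : ∀ i, z i * conj (z i) = ((Complex.normSq (z i) : ℝ) : ℂ) :=
    fun i => Complex.mul_conj (z i)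
  simp_rw [h1] at h
  rw [← Complex.ofReal_sum] at h
  have h2 : ∑ i ∈ s, Complex.normSq (z i) = 0 := by exact_mod_cast h
  intro i hi
  have h3 := (Finset.sum_eq_zero_iff_of_nonneg
    (fun i _ => Complex.normSq_nonneg (z i))).mp h2 i hi
  exact Complex.normSq_eq_zero.mp h3

/-- **PK-C** -/
theorem completion {G : Type*} [Group G] [Fintype G] (m : ℕ) (hm : 1 ≤ m)
    (hG : Nat.card G = qq m ^ 2 * (qq m ^ 2 + 1) * (qq m - 1))
    (H A : Subgroup G) (cardH : Nat.card H = qq m - 1) (hA1 : ∃ a ∈ A, a ≠ 1)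
    (hcH : ∀ h ∈ H, h ≠ 1 → Nat.card (Subgroup.centralizer ({h} : Set G)) = qq m - 1)
    (hcA : ∀ a ∈ A, a ≠ 1 → Nat.card (Subgroup.centralizer ({a} : Set G)) = qq m + rr m + 1)
    (𝒦 : Finset (IrrCharacter G))
    (h1 : ∑ χ ∈ 𝒦, ((χ : G → ℂ) 1) ^ 2 =
      (Nat.card G : ℂ) - (qq m : ℂ) * ((qq m : ℂ) - 1) ^ 2)
    (h2 : ∀ h ∈ H, h ≠ 1 →
      ∑ χ ∈ 𝒦, (χ : G → ℂ) h * conj ((χ : G → ℂ) h) = (qq m : ℂ) - 1)
    (h3 : ∀ a ∈ A, a ≠ 1 →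
      ∑ χ ∈ 𝒦, (χ : G → ℂ) a * conj ((χ : G → ℂ) a) = (qq m : ℂ) + rr m - 1)
    (h4 : ∀ a ∈ A, a ≠ 1 →
      ∑ χ ∈ 𝒦, (χ : G → ℂ) 1 * conj ((χ : G → ℂ) a) = -(((qq m : ℂ) - 1) * rr m)) :
    (∃ χ : IrrCharacter G, χ ∉ 𝒦) ∧
      ∀ χ : IrrCharacter G, χ ∉ 𝒦 → charDegree (χ : G → ℂ) = 2 ^ m * (qq m - 1) := by
  have hq2 : 2 ≤ qq m := two_le_qq m
  have hcast : ((qq m - 1 : ℕ) : ℂ) = (qq m : ℂ) - 1 := by
    rw [Nat.cast_sub (by omega), Nat.cast_one]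
  have hqC : (qq m : ℂ) - 1 ≠ 0 := by
    rw [← hcast]
    exact_mod_cast (by omega : qq m - 1 ≠ 0)
  choose n hnpos hn using fun χ : IrrCharacter G =>
    Cfsg.Agent.Lib.Helper80_CharBasic.irr_apply_one χ
  have hsplit : ∀ F : IrrCharacter G → ℂ, ∑ χ ∈ 𝒦ᶜ, F χ = ∑ χ, F χ - ∑ χ ∈ 𝒦, F χ := by
    intro F
    rw [← Finset.sum_compl_add_sum 𝒦 F]
    ring
  -- (A)
  have hA : ∑ χ ∈ 𝒦ᶜ, ((χ : G → ℂ) 1) ^ 2 = (qq m : ℂ) * ((qq m : ℂ) - 1) ^ 2 := by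
    rw [hsplit, sum_sq_irr_one, h1]
    ring
  -- (B)
  have hB : ∀ χ ∈ 𝒦ᶜ, ∀ h ∈ H, h ≠ 1 → (χ : G → ℂ) h = 0 := by
    intro χ hχ h hh hh1
    have h5 : ∑ χ ∈ 𝒦ᶜ, (χ : G → ℂ) h * conj ((χ : G → ℂ) h) = 0 := by
      rw [hsplit, column_orthogonality_self, h2 h hh hh1, hcH h hh hh1, hcast]
      ring
    exact eq_zero_of_sum_mul_conj _ _ h5 χ hχ
  -- (C)
  have hC : ∀ χ ∈ 𝒦ᶜ, (qq m - 1) ∣ n χ := by
    intro χ hχ
    have : Fintype H := Fintype.ofFinite H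
    have hch : IsCharacter H (fun x : H => (χ : G → ℂ) x) :=
      Cfsg.Agent.Lib.Helper75_CharArith.isCharacter_restrict H
        (Cfsg.Agent.Lib.Helper3_CharBridge.isCharacter_of_isIrrCharacter χ.2)
    have hone : IsCharacter H (fun _ : H => (1 : ℂ)) :=
      Cfsg.Agent.Lib.Helper3_CharBridge.isCharacter_of_isIrrCharacter
        (Cfsg.Agent.Lib.Helper80_CharBasic.isIrrCharacter_one H)
    obtain ⟨k, hk⟩ := Cfsg.Agent.Lib.Helper75_CharArith.classInner_isCharacter_nat hch hone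
    unfold classInner at hk
    have hsum : ∑ x : H, (χ : G → ℂ) x * conj (1 : ℂ) = n χ := by
      rw [Finset.sum_eq_single (1 : H)]
      · rw [OneMemClass.coe_one, hn, map_one, mul_one]
      · intro x _ hx
        rw [hB χ hχ x x.2 (fun h => hx (Subtype.ext h)), zero_mul]
      · intro h
        exact absurd (Finset.mem_univ _) h
    rw [hsum, cardH] at hk
    have h6 : ((qq m - 1 : ℕ) : ℂ) ≠ 0 := by rw [hcast]; exact hqC
    have h7 : (n χ : ℂ) = ((qq m - 1 : ℕ) : ℂ) * k := by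
      rw [← hk, ← mul_assoc, mul_inv_cancel₀ h6, one_mul]
    have h8 : n χ = (qq m - 1) * k := by exact_mod_cast h7
    exact ⟨k, h8⟩
  -- (D), (E)
  set d : IrrCharacter G → ℕ := fun χ => n χ / (qq m - 1) with hd_def
  have hD : ∀ χ ∈ 𝒦ᶜ, n χ = (qq m - 1) * d χ :=
    fun χ hχ => (Nat.mul_div_cancel' (hC χ hχ)).symm
  have hD' : ∀ χ ∈ 𝒦ᶜ, (χ : G → ℂ) 1 = ((qq m : ℂ) - 1) * d χ := by
    intro χ hχ
    rw [hn, hD χ hχ, Nat.cast_mul, hcast]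
  have hE : ∑ χ ∈ 𝒦ᶜ, ((d χ : ℂ)) ^ 2 = qq m := by
    have h5 : ∑ χ ∈ 𝒦ᶜ, ((χ : G → ℂ) 1) ^ 2 =
        ((qq m : ℂ) - 1) ^ 2 * ∑ χ ∈ 𝒦ᶜ, ((d χ : ℂ)) ^ 2 := by
      rw [Finset.mul_sum]
      apply Finset.sum_congr rfl
      intro χ hχ
      rw [hD' χ hχ]
      ring
    rw [hA] at h5
    have h6 : ((qq m : ℂ) - 1) ^ 2 ≠ 0 := pow_ne_zero 2 hqC
    apply mul_left_cancel₀ h6
    rw [← h5]
    ring
  -- (F)
  obtain ⟨a, haA, ha1⟩ := hA1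
  have hT2 : ∑ χ ∈ 𝒦ᶜ, (χ : G → ℂ) a * conj ((χ : G → ℂ) a) = 2 := by
    rw [hsplit, column_orthogonality_self, h3 a haA ha1, hcA a haA ha1]
    push_cast
    ring
  have hT1 : ∑ χ ∈ 𝒦ᶜ, (χ : G → ℂ) 1 * conj ((χ : G → ℂ) a) = ((qq m : ℂ) - 1) * rr m := by
    rw [hsplit, column_orthogonality 1 a, if_neg (by rw [isConj_one_right]; exact ha1),
      h4 a haA ha1]
    ring
  have hT1' : ∑ χ ∈ 𝒦ᶜ, (d χ : ℂ) * conj ((χ : G → ℂ) a) = rr m := by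
    have h5 : ∑ χ ∈ 𝒦ᶜ, (χ : G → ℂ) 1 * conj ((χ : G → ℂ) a) =
        ((qq m : ℂ) - 1) * ∑ χ ∈ 𝒦ᶜ, (d χ : ℂ) * conj ((χ : G → ℂ) a) := by
      rw [Finset.mul_sum]
      apply Finset.sum_congr rfl
      intro χ hχ
      rw [hD' χ hχ]
      ring
    rw [hT1] at h5
    exact (mul_left_cancel₀ hqC h5).symm
  have hT1'' : ∑ χ ∈ 𝒦ᶜ, (d χ : ℂ) * (χ : G → ℂ) a = rr m := by
    have h5 := congrArg conj hT1'
    rw [map_sum, Complex.conj_natCast] at h5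
    rw [← h5]
    apply Finset.sum_congr rfl
    intro χ _
    rw [map_mul, Complex.conj_conj, Complex.conj_natCast]
  -- (G)
  have hr : (rr m : ℂ) ^ 2 = 2 * qq m := by exact_mod_cast rr_sq m
  have hG' : ∀ χ ∈ 𝒦ᶜ, (qq m : ℂ) * (χ : G → ℂ) a = rr m * d χ := by
    have hz : ∑ χ ∈ 𝒦ᶜ, ((qq m : ℂ) * (χ : G → ℂ) a - rr m * d χ) *
        conj ((qq m : ℂ) * (χ : G → ℂ) a - rr m * d χ) = 0 := by
      have hexp : ∀ χ : IrrCharacter G, ((qq m : ℂ) * (χ : G → ℂ) a - rr m * d χ) *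
          conj ((qq m : ℂ) * (χ : G → ℂ) a - rr m * d χ) =
          (qq m : ℂ) ^ 2 * ((χ : G → ℂ) a * conj ((χ : G → ℂ) a)) -
            (qq m : ℂ) * rr m * ((d χ : ℂ) * conj ((χ : G → ℂ) a)) -
            (qq m : ℂ) * rr m * ((d χ : ℂ) * (χ : G → ℂ) a) + (rr m : ℂ) ^ 2 * (d χ : ℂ) ^ 2 := by
        intro χ
        rw [map_sub, map_mul, map_mul, Complex.conj_natCast, Complex.conj_natCast,
          Complex.conj_natCast]
        ring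
      simp_rw [hexp]
      rw [Finset.sum_add_distrib, Finset.sum_sub_distrib, Finset.sum_sub_distrib,
        ← Finset.mul_sum, ← Finset.mul_sum, ← Finset.mul_sum, ← Finset.mul_sum, hT2, hT1', hT1'',
        hE]
      linear_combination (-(qq m : ℂ)) * hr
    intro χ hχ
    have h5 := eq_zero_of_sum_mul_conj _ _ hz χ hχ
    exact sub_eq_zero.mp h5
  -- (H)
  have hqr : qq m = 2 ^ m * rr m := by
    unfold qq rr
    rw [← pow_add]
    congr 1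
    omega
  have h2m : ((2 ^ m : ℕ) : ℂ) ≠ 0 := by
    exact_mod_cast (by positivity : 2 ^ m ≠ 0)
  have hH : ∀ χ ∈ 𝒦ᶜ, (χ : G → ℂ) a = (d χ : ℂ) / ((2 ^ m : ℕ) : ℂ) := by
    intro χ hχ
    have h5 := hG' χ hχ
    rw [hqr, Nat.cast_mul] at h5
    have hr0 : (rr m : ℂ) ≠ 0 := by
      exact_mod_cast (by unfold rr; positivity : rr m ≠ 0)
    rw [eq_div_iff h2m]
    apply mul_left_cancel₀ hr0
    rw [← h5]
    ring
  have hdvd2 : ∀ χ ∈ 𝒦ᶜ, 2 ^ m ∣ d χ := by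
    intro χ hχ
    apply Cfsg.Agent.Lib.Helper3_CharDegree.dvd_of_isIntegral_div (by positivity)
    rw [← hH χ hχ]
    exact Cfsg.Agent.Lib.Helper79_RealOdd.irr_isIntegral χ a
  -- (I)
  set t : IrrCharacter G → ℕ := fun χ => d χ / 2 ^ m with ht_def
  have ht : ∀ χ ∈ 𝒦ᶜ, d χ = 2 ^ m * t χ :=
    fun χ hχ => (Nat.mul_div_cancel' (hdvd2 χ hχ)).symm
  have hEn : ∑ χ ∈ 𝒦ᶜ, (d χ) ^ 2 = qq m := by exact_mod_cast hE
  have hI : ∑ χ ∈ 𝒦ᶜ, (t χ) ^ 2 = 2 := by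
    have h5 : ∑ χ ∈ 𝒦ᶜ, (d χ) ^ 2 = (2 ^ m) ^ 2 * ∑ χ ∈ 𝒦ᶜ, (t χ) ^ 2 := by
      rw [Finset.mul_sum]
      apply Finset.sum_congr rfl
      intro χ hχ
      rw [ht χ hχ]
      ring
    rw [hEn] at h5
    have hq' : qq m = (2 ^ m) ^ 2 * 2 := by
      unfold qq
      rw [← pow_mul, pow_succ, mul_comm m 2]
    rw [hq'] at h5
    exact (Nat.eq_of_mul_eq_mul_left (by positivity) h5).symm
  -- (J)
  have hJ : ∀ χ ∈ 𝒦ᶜ, t χ = 1 := by
    intro χ hχ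
    have hle : (t χ) ^ 2 ≤ 2 := by
      have h5 := Finset.single_le_sum (f := fun χ => (t χ) ^ 2) (fun _ _ => Nat.zero_le _) hχ
      rw [hI] at h5
      exact h5
    have hpos : 0 < t χ := by
      by_contra h0
      have h00 : t χ = 0 := by omega
      have h5 := ht χ hχ
      rw [h00, mul_zero] at h5
      have h6 := hD χ hχ
      rw [h5, mul_zero] at h6
      have := hnpos χ
      omega
    by_contra hne
    have h2le : 2 ≤ t χ := by omega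
    nlinarith
  refine ⟨?_, ?_⟩
  · by_contra hcon
    push Not at hcon
    have h5 : 𝒦ᶜ = ∅ := by
      ext χ
      simp [hcon χ]
    rw [h5, Finset.sum_empty] at hI
    omega
  · intro χ hχ
    have hχ' : χ ∈ 𝒦ᶜ := Finset.mem_compl.mpr hχ
    have h5 : n χ = 2 ^ m * (qq m - 1) := by
      rw [hD χ hχ', ht χ hχ', hJ χ hχ']
      ring
    unfold charDegree
    rw [hn χ]
    simp only [Complex.natCast_re, Nat.floor_natCast]
    exact h5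

end Cfsg.Agent.Lib.Helper80_SzChar_PKC
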