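import Mathlib
import Cfsg.Agent.Lib.Helper37_SzCharDefs
import Cfsg.Agent.Lib.Helper57_HeightZero
import Cfsg.Agent.Lib.Helper74_DegPChar
import Cfsg.Agent.Lib.Helper74_TwoDegS
import Cfsg.Agent.Lib.Helper80_CharBasic

/-!
# S4775 package PK-Q1 (helper80): `τ` is a generalized character of a Suzuki 2-group
-/

set_option autoImplicit false

namespace Cfsg.Agent.Lib.Helper80_SzChar_PKQ1

open scoped ComplexConjugate Classical
open Cfsg Cfsg.Agent.Helper37SzChar

variable {P : Type*} [Group P] [Fintype P]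

/-- the central character of `ξ` on a central subgroup, as a homomorphism to `ℂ` -/
noncomputable def cHom (ξ : IrrCharacter P) (Z : Subgroup P) (hZ : Z ≤ Subgroup.center P) :
    Z →* ℂ where
  toFun z := (ξ : P → ℂ) z / (ξ : P → ℂ) 1
  map_one' := by
    show (ξ : P → ℂ) ((1 : Z) : P) / (ξ : P → ℂ) 1 = 1
    rw [OneMemClass.coe_one]
    exact div_self (Cfsg.Agent.Lib.Helper75_Clifford.irr_one_ne_zero ξ.2)
  map_mul' z w := by
    have h := Cfsg.Agent.Lib.Helper74_DegPChar.central_mul ξ (hZ z.2) (w : P)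
    have h0 := Cfsg.Agent.Lib.Helper75_Clifford.irr_one_ne_zero ξ.2
    show (ξ : P → ℂ) ((z * w : Z) : P) / (ξ : P → ℂ) 1 =
      (ξ : P → ℂ) z / (ξ : P → ℂ) 1 * ((ξ : P → ℂ) w / (ξ : P → ℂ) 1)
    rw [Subgroup.coe_mul, div_mul_div_comm, div_eq_div_iff h0 (mul_ne_zero h0 h0), ← mul_assoc, h]

theorem cHom_apply (ξ : IrrCharacter P) (Z : Subgroup P) (hZ : Z ≤ Subgroup.center P) (z : Z) :
    cHom ξ Z hZ z = (ξ : P → ℂ) z / (ξ : P → ℂ) 1 := rfl

theorem cHom_mul (ξ : IrrCharacter P) (Z : Subgroup P) (hZ : Z ≤ Subgroup.center P) (z : Z)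
    (g : P) : (ξ : P → ℂ) ((z : P) * g) = cHom ξ Z hZ z * (ξ : P → ℂ) g := by
  have h := Cfsg.Agent.Lib.Helper74_DegPChar.central_mul ξ (hZ z.2) g
  have h0 := Cfsg.Agent.Lib.Helper75_Clifford.irr_one_ne_zero ξ.2
  rw [cHom_apply, div_mul_eq_mul_div, eq_div_iff h0]
  exact h

/-- `ξ` vanishes at `x` as soon as the central character is nontrivial on some `[x, y]` -/
theorem vanish (ξ : IrrCharacter P) (Z : Subgroup P) (hZ : Z ≤ Subgroup.center P) (x y : P)
    (hc : x * y * x⁻¹ * y⁻¹ ∈ Z) (hne : cHom ξ Z hZ ⟨x * y * x⁻¹ * y⁻¹, hc⟩ ≠ 1) :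
    (ξ : P → ℂ) x = 0 := by
  set z0 : Z := ⟨x * y * x⁻¹ * y⁻¹, hc⟩ with hz0
  have h1 : ((z0⁻¹ : Z) : P) * x = y * x * y⁻¹ := by
    rw [Subgroup.coe_inv]
    show (x * y * x⁻¹ * y⁻¹)⁻¹ * x = y * x * y⁻¹
    group
  have h2 := cHom_mul ξ Z hZ z0⁻¹ x
  rw [h1, Cfsg.Agent.Lib.Helper80_CharBasic.irr_conj] at h2
  have h3 : cHom ξ Z hZ z0 * cHom ξ Z hZ z0⁻¹ = 1 := by
    rw [← map_mul, mul_inv_cancel, map_one]
  have h4 : cHom ξ Z hZ z0 * (ξ : P → ℂ) x = (ξ : P → ℂ) x := by
    conv_lhs => rw [h2, ← mul_assoc, h3, one_mul]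
  have h5 : (cHom ξ Z hZ z0 - 1) * (ξ : P → ℂ) x = 0 := by
    rw [sub_mul, h4, one_mul, sub_self]
  rcases mul_eq_zero.mp h5 with h6 | h6
  · exact absurd (sub_eq_zero.mp h6) hne
  · exact h6

theorem irr_norm_le (ξ : IrrCharacter P) (d : ℕ) (hd : (ξ : P → ℂ) 1 = d) (x : P) :
    ‖(ξ : P → ℂ) x‖ ≤ d := by
  obtain ⟨n, ρ, hirr, hρ⟩ := ξ.2
  have h1 := Cfsg.Agent.Lib.Helper3_CharEigen.norm_char_le ρ x
  have h2 : Module.finrank ℂ (Fin n → ℂ) = n := by simp
  have h3 : (ξ : P → ℂ) 1 = n := by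
    rw [← hρ, Representation.char_one]
    simp
  have h4 : d = n := by
    rw [h3] at hd
    exact_mod_cast hd.symm
  rw [← hρ, h4]
  rw [h2] at h1
  exact h1

/-- **PK-Q1** -/
theorem tau_isGeneralizedCharacter {P : Type*} [Group P] [Fintype P] (m : ℕ) (Z : Subgroup P)
    (hcardP : Nat.card P = qq m ^ 2) (hcardZ : Nat.card Z = qq m)
    (hZc : ∀ z ∈ Z, ∀ x : P, z * x = x * z)
    (hcomm : ∀ x y : P, x * y * x⁻¹ * y⁻¹ ∈ Z)
    (hkey : ∀ ζ : Z →* ℂˣ, ζ ≠ 1 →
      Nat.card {x : P // ∀ y : P, ζ ⟨x * y * x⁻¹ * y⁻¹, hcomm x y⟩ = 1} ≤ 2 * qq m) :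
    IsGeneralizedCharacter P (fun x : P => if x = 1 then ((rr m * (qq m - 1) : ℕ) : ℂ)
      else if x ∈ Z then -(rr m : ℂ) else 0) := by
  have hZcen : Z ≤ Subgroup.center P := by
    intro z hz
    rw [Subgroup.mem_center_iff]
    intro g
    exact (hZc z hz g).symm
  have hqr : qq m = 2 ^ m * rr m := by
    unfold qq rr
    rw [← pow_add]
    congr 1
    omega
  have hq0 : 0 < qq m := qq_pos m
  have hr0 : (rr m : ℂ) ≠ 0 := by
    exact_mod_cast (by unfold rr; positivity : rr m ≠ 0)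
  have hqC : (qq m : ℂ) ≠ 0 := by exact_mod_cast hq0.ne'
  apply Cfsg.Agent.Lib.Helper57_HeightZero.isGeneralizedCharacter_of_int
  · -- class function
    intro g h
    have h1 : h * g * h⁻¹ = 1 ↔ g = 1 := by
      constructor
      · intro h2
        have h3 : g = h⁻¹ * (h * g * h⁻¹) * h := by group
        rw [h3, h2]
        group
      · rintro rfl
        group
    have h2 : h * g * h⁻¹ ∈ Z ↔ g ∈ Z := by
      constructor
      · intro h3
        have h4 := hZc _ h3 h
        have h5 : h * g = h * (h * g * h⁻¹) := by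
          rw [← h4]
          group
        have h6 : h * g * h⁻¹ = g := (mul_left_cancel h5).symm
        rwa [h6] at h3
      · intro h3
        have h4 : h * g * h⁻¹ = g := by
          rw [← hZc g h3 h]
          group
        rwa [h4]
    simp only [h1, h2]
  · intro ξ
    obtain ⟨d, hdpos, hd⟩ := Cfsg.Agent.Lib.Helper80_CharBasic.irr_apply_one ξ
    have hdC : (d : ℂ) ≠ 0 := by exact_mod_cast hdpos.ne'
    set f0 := cHom ξ Z hZcen with hf0
    have hsumZ : ∑ x : P, (if x ∈ Z then conj ((ξ : P → ℂ) x) else 0) =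
        (d : ℂ) * conj (∑ z : Z, f0 z) := by
      rw [← Finset.sum_filter, map_sum, Finset.mul_sum]
      rw [Finset.sum_subtype (Finset.univ.filter (fun x : P => x ∈ Z)) (p := fun x : P => x ∈ Z)
        (by simp)]
      apply Finset.sum_congr rfl
      intro z _
      show conj ((ξ : P → ℂ) z) = (d : ℂ) * conj ((ξ : P → ℂ) z / (ξ : P → ℂ) 1)
      rw [hd, map_div₀, Complex.conj_natCast]
      field_simp
    have hinner : classInner (fun x : P => if x = 1 then ((rr m * (qq m - 1) : ℕ) : ℂ)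
        else if x ∈ Z then -(rr m : ℂ) else 0) (ξ : P → ℂ) =
        (Nat.card P : ℂ)⁻¹ * (-(rr m : ℂ) * ((d : ℂ) * conj (∑ z : Z, f0 z)) +
          (rr m : ℂ) * qq m * d) := by
      unfold classInner
      congr 1
      have hterm : ∀ x : P, (if x = 1 then ((rr m * (qq m - 1) : ℕ) : ℂ)
          else if x ∈ Z then -(rr m : ℂ) else 0) * conj ((ξ : P → ℂ) x) =
          -(rr m : ℂ) * (if x ∈ Z then conj ((ξ : P → ℂ) x) else 0) +
            (if x = 1 then (rr m : ℂ) * qq m * d else 0) := by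
        intro x
        by_cases hx1 : x = 1
        · subst hx1
          rw [if_pos rfl, if_pos Z.one_mem, if_pos rfl, hd, Complex.conj_natCast, Nat.cast_mul,
            Nat.cast_sub (by omega), Nat.cast_one]
          ring
        · by_cases hxZ : x ∈ Z
          · rw [if_neg hx1, if_pos hxZ, if_pos hxZ, if_neg hx1, add_zero]
          · rw [if_neg hx1, if_neg hxZ, if_neg hxZ, if_neg hx1]
            ring
      simp_rw [hterm]
      rw [Finset.sum_add_distrib, ← Finset.mul_sum, hsumZ, Finset.sum_ite_eq' Finset.univ (1 : P),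
        if_pos (Finset.mem_univ _)]
    have hcardPC : (Nat.card P : ℂ) = (qq m : ℂ) ^ 2 := by
      rw [hcardP]
      push_cast
      ring
    by_cases hne : f0 = 1
    · -- trivial central character
      refine ⟨0, ?_⟩
      rw [hinner, hne]
      have h5 : ∑ z : Z, (1 : Z →* ℂ) z = (qq m : ℂ) := by
        simp only [MonoidHom.one_apply, Finset.sum_const, Finset.card_univ, nsmul_eq_mul, mul_one]
        rw [← Nat.card_eq_fintype_card, hcardZ]
      rw [h5, Complex.conj_natCast]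
      push_cast
      ring
    · -- nontrivial central character
      have h5 : ∑ z : Z, f0 z = 0 := sum_hom_units_eq_zero f0 hne
      have hdvd : 2 ^ m ∣ d := by
        set ζ : Z →* ℂˣ := f0.toHomUnits with hζdef
        have hζ : ζ ≠ 1 := by
          intro h
          apply hne
          ext z
          have h6 := congrArg (fun u : Z →* ℂˣ => ((u z : ℂˣ) : ℂ)) h
          simpa [hζdef, MonoidHom.coe_toHomUnits] using h6
        have hR := hkey ζ hζ
        have hvan : ∀ x : P, ¬ (∀ y : P, ζ ⟨x * y * x⁻¹ * y⁻¹, hcomm x y⟩ = 1) →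
            (ξ : P → ℂ) x = 0 := by
          intro x hx
          push Not at hx
          obtain ⟨y, hy⟩ := hx
          apply vanish ξ Z hZcen x y (hcomm x y)
          intro h
          apply hy
          apply Units.ext
          rw [hζdef, MonoidHom.coe_toHomUnits]
          exact h
        have h6 := Cfsg.Agent.Lib.Helper74_DegPChar.sum_norm_sq ξ
        have h7 : ∑ g ∈ Finset.univ.filter
            (fun x : P => ∀ y : P, ζ ⟨x * y * x⁻¹ * y⁻¹, hcomm x y⟩ = 1),
            ‖(ξ : P → ℂ) g‖ ^ 2 = ∑ g : P, ‖(ξ : P → ℂ) g‖ ^ 2 := by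
          apply Finset.sum_subset (Finset.filter_subset _ _)
          intro g _ hg
          have hg' : ¬ (∀ y : P, ζ ⟨g * y * g⁻¹ * y⁻¹, hcomm g y⟩ = 1) :=
            fun h => hg (Finset.mem_filter.mpr ⟨Finset.mem_univ g, h⟩)
          rw [hvan g hg']
          simp
        have h8 : ∑ g ∈ Finset.univ.filter
            (fun x : P => ∀ y : P, ζ ⟨x * y * x⁻¹ * y⁻¹, hcomm x y⟩ = 1),
            ‖(ξ : P → ℂ) g‖ ^ 2 ≤ ((Finset.univ.filter
            (fun x : P => ∀ y : P, ζ ⟨x * y * x⁻¹ * y⁻¹, hcomm x y⟩ = 1)).card : ℝ) *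
              (d : ℝ) ^ 2 := by
          rw [← nsmul_eq_mul]
          apply Finset.sum_le_card_nsmul
          intro g _
          have h9 := irr_norm_le ξ d hd g
          have h10 := norm_nonneg ((ξ : P → ℂ) g)
          nlinarith
        have h9 : (Finset.univ.filter
            (fun x : P => ∀ y : P, ζ ⟨x * y * x⁻¹ * y⁻¹, hcomm x y⟩ = 1)).card =
            Nat.card {x : P // ∀ y : P, ζ ⟨x * y * x⁻¹ * y⁻¹, hcomm x y⟩ = 1} := by
          rw [Nat.card_eq_fintype_card, Fintype.card_subtype]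
        rw [h7, h6, h9, hcardP] at h8
        have h10 : qq m ^ 2 ≤ 2 * qq m * d ^ 2 := by
          have h11 : ((qq m ^ 2 : ℕ) : ℝ) ≤ ((2 * qq m * d ^ 2 : ℕ) : ℝ) := by
            refine h8.trans ?_
            have h12 : (Nat.card {x : P // ∀ y : P, ζ ⟨x * y * x⁻¹ * y⁻¹, hcomm x y⟩ = 1} : ℝ) ≤
                ((2 * qq m : ℕ) : ℝ) := by exact_mod_cast hR
            push_cast at h12 ⊢
            have h13 : (0 : ℝ) ≤ (d : ℝ) ^ 2 := by positivity
            nlinarith
          exact_mod_cast h11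
        have h11 : qq m ≤ 2 * d ^ 2 := by
          have h12 : qq m * qq m ≤ qq m * (2 * d ^ 2) := by
            calc qq m * qq m = qq m ^ 2 := by ring
              _ ≤ 2 * qq m * d ^ 2 := h10
              _ = qq m * (2 * d ^ 2) := by ring
          exact Nat.le_of_mul_le_mul_left h12 hq0
        have hdvdP := Cfsg.Agent.Lib.Helper74_TwoDegS.degree_dvd_card ξ d hd
        rw [hcardP] at hdvdP
        have h12 : qq m ^ 2 = 2 ^ (2 * (2 * m + 1)) := by
          unfold qq
          rw [← pow_mul]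
          congr 1
          ring
        rw [h12] at hdvdP
        obtain ⟨j, _, hj⟩ := (Nat.dvd_prime_pow Nat.prime_two).mp hdvdP
        have h13 : 2 ^ (2 * m + 1) ≤ 2 ^ (2 * j + 1) := by
          have h14 : 2 * d ^ 2 = 2 ^ (2 * j + 1) := by
            rw [hj, ← pow_mul, pow_succ]
            ring
          rw [← h14]
          exact h11
        have h14 : 2 * m + 1 ≤ 2 * j + 1 := (Nat.pow_le_pow_iff_right (by norm_num)).mp h13
        rw [hj]
        exact pow_dvd_pow 2 (by omega)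
      obtain ⟨k, hk⟩ := hdvd
      refine ⟨(k : ℤ), ?_⟩
      rw [hinner, h5, map_zero, hcardPC, hk, hqr]
      have h2m : ((2 : ℂ) ^ m) ≠ 0 := pow_ne_zero m two_ne_zero
      push_cast
      field_simp
      ring

end Cfsg.Agent.Lib.Helper80_SzChar_PKQ1
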