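import Mathlib
import Cfsg.Agent.Lib.Helper12_W2pDefs
import Cfsg.Agent.Lib.Helper79_W2p_C1
import Cfsg.Agent.Lib.Helper58_W2p_P3
import Cfsg.Agent.Lib.Helper65_W2p_B1

/-!
# S0720 (Wielandt, degree `2p`), package C3 (helper80)

If `U1` contains all the eigenspaces `W_k`, `k ≠ 0`, then `U1` contains all differences of two
basis vectors; every invariant matrix acts on `U1` as a scalar, so the orbital matrices have all
their off-diagonal entries equal: `G` is `2`-transitive.
-/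

set_option autoImplicit false

namespace Cfsg.Agent.Lib.Helper80_W2p_C3

open Equiv MulAction Cfsg.Agent.Lib.Helper12_W2pDefs
open Cfsg.Agent.Lib.Helper79_W2p_C1

variable {α : Type*} [Fintype α] [DecidableEq α]
variable {p : ℕ} [Fact p.Prime]

/-- orthogonality of the characters of `ZMod p` -/
theorem sum_zeta (m : ZMod p) :
    ∑ k : ZMod p, zeta p ^ (m * k).val = if m = 0 then (p : ℂ) else 0 := by
  split_ifs with hm
  · subst hm
    simp [ZMod.card]
  · have h1 : ∑ k : ZMod p, zeta p ^ (m * k).val = ∑ k : ZMod p, zeta p ^ k.val :=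
      Equiv.sum_comp (Equiv.mulLeft₀ m hm) (fun k => zeta p ^ k.val)
    rw [h1, Cfsg.Agent.Lib.Helper58_W2p_P3.sum_zmod_eq_sum_range (fun n => zeta p ^ n)]
    exact Cfsg.Agent.Lib.Helper58_W2p_P3.zeta_prim.geom_sum_eq_zero (Fact.out : p.Prime).one_lt

variable {G : Subgroup (Perm α)}

/-- Fourier expansion of a basis vector -/
theorem delta_expand (F : Frame G p) (j : ZMod p) (a : Fin 2) :
    (p : ℂ) • (Pi.single (F.φ (j, a)) (1 : ℂ) : α → ℂ) =
      ∑ k : ZMod p, zeta p ^ ((-j) * k).val • evec F k a := by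
  funext ω
  obtain ⟨⟨i, a'⟩, rfl⟩ := F.φ.surjective ω
  simp only [Pi.smul_apply, Finset.sum_apply, smul_eq_mul, evec, Equiv.symm_apply_apply]
  by_cases ha : a' = a
  · subst ha
    simp only [if_true]
    have h1 : ∀ k : ZMod p, zeta p ^ ((-j) * k).val * zeta p ^ (i * k).val =
        zeta p ^ ((i - j) * k).val := by
      intro k
      rw [← pow_add]
      apply zeta_pow_congr
      push_cast
      simp only [ZMod.natCast_zmod_val]
      ring
    simp_rw [h1]
    rw [sum_zeta]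
    by_cases hij : i = j
    · subst hij
      simp
    · have h2 : i - j ≠ 0 := sub_ne_zero.mpr hij
      rw [if_neg h2, Pi.single_eq_of_ne, mul_zero]
      intro h3
      apply hij
      have := F.φ.injective h3
      exact (Prod.mk.inj this).1
  · simp only [if_neg ha, mul_zero, Finset.sum_const_zero]
    rw [Pi.single_eq_of_ne, mul_zero]
    intro h3
    apply ha
    have := F.φ.injective h3
    exact (Prod.mk.inj this).2

theorem wvec_mem_U1 (F : Frame G p) : wvec F ∈ U1 G F := by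
  apply Submodule.subset_span
  refine ⟨1, G.one_mem, ?_⟩
  funext ω
  simp [act]

theorem evec_mem_U1 (F : Frame G p) (k : ZMod p) (hk : Contains G F k) (a : Fin 2) :
    evec F k a ∈ U1 G F := by
  have h1 := hk (fun b => if b = a then 1 else 0)
  fin_cases a
  · simpa using h1
  · simpa using h1

theorem evec_zero_sub (F : Frame G p) (a a' : Fin 2) :
    evec F 0 a - evec F 0 a' ∈ U1 G F := by
  have hw := wvec_mem_U1 F
  have h01 : evec F 0 0 - evec F 0 1 = wvec F := by
    funext ω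
    simp only [Pi.sub_apply, evec, wvec, mul_zero, ZMod.val_zero, pow_zero]
    by_cases h : (F.φ.symm ω).2 = 0
    · rw [if_pos h, if_pos h, if_neg (by rw [h]; decide)]
      ring
    · have h1 : (F.φ.symm ω).2 = 1 := by
        have hdec : ∀ c : Fin 2, c ≠ 0 → c = 1 := by decide
        exact hdec _ h
      rw [if_neg h, if_neg h, if_pos h1]
      ring
  fin_cases a <;> fin_cases a'
  · simp
  · simpa [h01] using hw
  · have h10 : evec F 0 1 - evec F 0 0 = -wvec F := by rw [← h01]; ring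
    simpa [h10] using Submodule.neg_mem _ hw
  · simp

/-- differences of two basis vectors lie in `U1` -/
theorem single_sub_mem_U1 (F : Frame G p) (h : ∀ k : ZMod p, k ≠ 0 → Contains G F k)
    (ω ω' : α) :
    (Pi.single ω (1 : ℂ) - Pi.single ω' (1 : ℂ) : α → ℂ) ∈ U1 G F := by
  obtain ⟨⟨j, a⟩, rfl⟩ := F.φ.surjective ω
  obtain ⟨⟨j', a'⟩, rfl⟩ := F.φ.surjective ω'
  have hp0 : (p : ℂ) ≠ 0 := by
    exact_mod_cast (Fact.out : p.Prime).ne_zero
  -- `p • δ - e_{0,a} ∈ U1`
  have hpart : ∀ (j : ZMod p) (a : Fin 2),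
      (p : ℂ) • (Pi.single (F.φ (j, a)) (1 : ℂ) : α → ℂ) - evec F 0 a ∈ U1 G F := by
    intro j a
    rw [delta_expand, ← Finset.add_sum_erase _ _ (Finset.mem_univ (0 : ZMod p))]
    simp only [mul_zero, ZMod.val_zero, pow_zero, one_smul, add_sub_cancel_left]
    apply Submodule.sum_mem
    intro k hk
    have hk0 : k ≠ 0 := (Finset.mem_erase.mp hk).1
    exact Submodule.smul_mem _ _ (evec_mem_U1 F k (h k hk0) a)
  have h1 : (p : ℂ) • ((Pi.single (F.φ (j, a)) (1 : ℂ) : α → ℂ) -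
      Pi.single (F.φ (j', a')) (1 : ℂ)) ∈ U1 G F := by
    have h2 : (p : ℂ) • ((Pi.single (F.φ (j, a)) (1 : ℂ) : α → ℂ) -
        Pi.single (F.φ (j', a')) (1 : ℂ)) =
        ((p : ℂ) • (Pi.single (F.φ (j, a)) (1 : ℂ) : α → ℂ) - evec F 0 a) -
          ((p : ℂ) • (Pi.single (F.φ (j', a')) (1 : ℂ) : α → ℂ) - evec F 0 a') +
          (evec F 0 a - evec F 0 a') := by
      rw [smul_sub]
      abel
    rw [h2]
    exact Submodule.add_mem _ (Submodule.sub_mem _ (hpart j a) (hpart j' a'))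
      (evec_zero_sub F a a')
  have h3 := Submodule.smul_mem (U1 G F) (p : ℂ)⁻¹ h1
  rwa [smul_smul, inv_mul_cancel₀ hp0, one_smul] at h3

/-- orbital matrices are invariant -/
theorem orbMat_inv (G : Subgroup (Perm α)) (a₀ b : α) (g : Perm α) (hg : g ∈ G) (i j : α) :
    orbMat G a₀ b (g i) (g j) = orbMat G a₀ b i j := by
  unfold orbMat
  congr 1
  apply propext
  constructor
  · rintro ⟨k, hk, h1, h2⟩
    refine ⟨g⁻¹ * k, G.mul_mem (G.inv_mem hg) hk, ?_, ?_⟩
    · rw [Perm.mul_apply, h1]; simp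
    · rw [Perm.mul_apply, h2]; simp
  · rintro ⟨k, hk, h1, h2⟩
    refine ⟨g * k, G.mul_mem hg hk, ?_, ?_⟩
    · rw [Perm.mul_apply, h1]
    · rw [Perm.mul_apply, h2]

/-- the core of C3 : given the scalar action of the orbital matrix on `U1` -/
theorem C3_core (G : Subgroup (Perm α)) [IsPretransitive G α] (F : Frame G p)
    (h : ∀ k : ZMod p, k ≠ 0 → Contains G F k) (t : ℂ)
    (hB1 : ∀ u ∈ U1 G F, ((orbMat G (F.φ (0, 0)) (F.φ (0, 1))).map (Int.cast : ℤ → ℂ)).mulVec u =
      t • u) : IsMultiplyPretransitive G α 2 := by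
  set a₀ := F.φ (0, 0) with ha₀
  set b := F.φ (0, 1) with hb
  have hab : a₀ ≠ b := by
    intro h1
    have := F.φ.injective h1
    exact absurd (Prod.mk.inj this).2 (by decide)
  set A := orbMat G a₀ b with hA
  -- entries in a row
  have hrow : ∀ ω ω' ω'' : α, ω'' ≠ ω → ω'' ≠ ω' → A ω'' ω = A ω'' ω' := by
    intro ω ω' ω'' h1 h2
    have h3 := hB1 _ (single_sub_mem_U1 F h ω ω')
    have h4 := congrFun h3 ω''
    rw [Matrix.mulVec_sub, Pi.sub_apply, Matrix.mulVec_single_one, Matrix.mulVec_single_one] at h4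
    simp only [Matrix.col_apply, Matrix.map_apply, Pi.smul_apply, Pi.sub_apply,
      Pi.single_eq_of_ne h1, Pi.single_eq_of_ne h2, sub_zero, smul_zero] at h4
    have h5 : ((A ω'' ω : ℤ) : ℂ) = ((A ω'' ω' : ℤ) : ℂ) := sub_eq_zero.mp h4
    exact_mod_cast h5
  have hone : A a₀ b = 1 := by
    rw [hA]
    unfold orbMat
    rw [if_pos ⟨1, G.one_mem, rfl, rfl⟩]
  have hrow0 : ∀ ω : α, ω ≠ a₀ → A a₀ ω = 1 := by
    intro ω hω
    rw [← hone]
    exact hrow ω b a₀ hω.symm hab
  have hall : ∀ ω ω' : α, ω ≠ ω' → A ω ω' = 1 := by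
    intro ω ω' hne
    obtain ⟨g, hg⟩ := exists_smul_eq G a₀ ω
    have h1 : ω = (g : Perm α) a₀ := hg.symm
    have h2 : ω' = (g : Perm α) ((g : Perm α)⁻¹ ω') := by simp
    rw [h1, h2, hA, orbMat_inv G a₀ b g g.2, ← hA]
    apply hrow0
    intro h3
    apply hne
    rw [h1, ← h3]
    simp
  -- two-transitivity
  rw [MulAction.is_two_pretransitive_iff]
  intro x y x' y' hxy hxy'
  have h1 := hall x y hxy
  have h2 := hall x' y' hxy'
  rw [hA] at h1 h2
  unfold orbMat at h1 h2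
  have h3 : ∃ g ∈ G, g a₀ = x ∧ g b = y := by
    by_contra hcon
    rw [if_neg hcon] at h1
    exact absurd h1 (by norm_num)
  have h4 : ∃ g ∈ G, g a₀ = x' ∧ g b = y' := by
    by_contra hcon
    rw [if_neg hcon] at h2
    exact absurd h2 (by norm_num)
  obtain ⟨g1, hg1, h5, h6⟩ := h3
  obtain ⟨g2, hg2, h7, h8⟩ := h4
  refine ⟨⟨g2 * g1⁻¹, G.mul_mem hg2 (G.inv_mem hg1)⟩, ?_, ?_⟩
  · show (g2 * g1⁻¹) x = x'
    rw [Perm.mul_apply, ← h5]
    simp [h7]
  · show (g2 * g1⁻¹) y = y'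
    rw [Perm.mul_apply, ← h6]
    simp [h8]

/-- **C3** : `U1 = 1^⊥` forces 2-transitivity -/
theorem C3 {p : ℕ} [Fact p.Prime] (G : Subgroup (Perm α)) [IsPretransitive G α] (F : Frame G p)
    (h : ∀ k : ZMod p, k ≠ 0 → Contains G F k) : IsMultiplyPretransitive G α 2 := by
  have hinv : Inv G (orbMat G (F.φ (0, 0)) (F.φ (0, 1))) :=
    fun g hg i j => orbMat_inv G _ _ g hg i j
  exact C3_core G F h _ (Cfsg.Agent.Lib.Helper65_W2p_B1.B1 G F _ hinv).2.2.1

end Cfsg.Agent.Lib.Helper80_W2p_C3
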