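import Mathlib

/-!
# p-elements and normal Sylow subgroups (helper80, for S4467)

`IsPElt p x`: `x` has `p`-power order.  `PClosed p G`: the `p`-elements of `G` are closed
under multiplication (equivalently, for finite `G`, a Sylow `p`-subgroup is normal).
-/

set_option autoImplicit false

namespace Cfsg.Agent.Lib.Helper80_WinterA

universe u

section basic

variable {G : Type*} [Group G]

/-- `x` has `p`-power order. -/
def IsPElt (p : ℕ) (x : G) : Prop := ∃ k : ℕ, x ^ p ^ k = 1

/-- the `p`-elements are closed under multiplication -/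
def PClosed (p : ℕ) (G : Type*) [Group G] : Prop :=
  ∀ x y : G, IsPElt p x → IsPElt p y → IsPElt p (x * y)

theorem isPElt_one (p : ℕ) : IsPElt p (1 : G) := ⟨0, by simp⟩

theorem IsPElt.inv {p : ℕ} {x : G} (h : IsPElt p x) : IsPElt p x⁻¹ := by
  obtain ⟨k, hk⟩ := h
  exact ⟨k, by rw [inv_pow, hk, inv_one]⟩

theorem IsPElt.conj {p : ℕ} {x : G} (h : IsPElt p x) (g : G) : IsPElt p (g * x * g⁻¹) := by
  obtain ⟨k, hk⟩ := h
  exact ⟨k, by rw [conj_pow, hk, mul_one, mul_inv_cancel]⟩

theorem IsPElt.pow {p : ℕ} {x : G} (h : IsPElt p x) (n : ℕ) : IsPElt p (x ^ n) := by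
  obtain ⟨k, hk⟩ := h
  exact ⟨k, by rw [← pow_mul, mul_comm, pow_mul, hk, one_pow]⟩

theorem IsPElt.map {p : ℕ} {x : G} (h : IsPElt p x) {H : Type*} [Group H] (f : G →* H) :
    IsPElt p (f x) := by
  obtain ⟨k, hk⟩ := h
  exact ⟨k, by rw [← map_pow, hk, map_one]⟩

theorem IsPElt.of_map_injective {p : ℕ} {x : G} {H : Type*} [Group H] (f : G →* H)
    (hf : Function.Injective f) (h : IsPElt p (f x)) : IsPElt p x := by
  obtain ⟨k, hk⟩ := h
  refine ⟨k, hf ?_⟩
  rw [map_pow, hk, map_one]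

theorem isPElt_coe_iff {p : ℕ} (H : Subgroup G) (x : H) : IsPElt p (x : G) ↔ IsPElt p x := by
  constructor
  · intro h
    exact IsPElt.of_map_injective H.subtype (Subgroup.subtype_injective H) h
  · intro h
    exact h.map H.subtype

theorem IsPElt.zpowers {p : ℕ} {x : G} (h : IsPElt p x) : IsPGroup p (Subgroup.zpowers x) := by
  obtain ⟨k, hk⟩ := h
  rintro ⟨y, hy⟩
  obtain ⟨n, rfl⟩ := Subgroup.mem_zpowers_iff.1 hy
  refine ⟨k, Subtype.ext ?_⟩
  show (x ^ n) ^ p ^ k = 1
  rw [← zpow_natCast, ← zpow_mul, mul_comm, zpow_mul, zpow_natCast, hk, one_zpow]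

theorem isPElt_of_mem {p : ℕ} {H : Subgroup G} (hH : IsPGroup p H) {x : G} (hx : x ∈ H) :
    IsPElt p x := by
  obtain ⟨k, hk⟩ := hH ⟨x, hx⟩
  exact ⟨k, congrArg Subtype.val hk⟩

/-- a `p`-element whose order is also prime to `p` is trivial -/
theorem IsPElt.eq_one_of_pow_eq_one {p : ℕ} {x : G} (h : IsPElt p x) {n : ℕ}
    (hn : x ^ n = 1) (hcop : Nat.Coprime p n) : x = 1 := by
  obtain ⟨k, hk⟩ := h
  have h1 : orderOf x ∣ p ^ k := orderOf_dvd_of_pow_eq_one hk
  have h2 : orderOf x ∣ n := orderOf_dvd_of_pow_eq_one hn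
  have h3 : Nat.Coprime (p ^ k) n := Nat.Coprime.pow_left k hcop
  have h4 : orderOf x = 1 := Nat.eq_one_of_dvd_coprimes h3 h1 h2
  exact orderOf_eq_one_iff.1 h4

end basic

section sylow

variable {G : Type*} [Group G] [Finite G] {p : ℕ} [hp : Fact p.Prime]

/-- If a Sylow `p`-subgroup is normal then it contains all `p`-elements. -/
theorem mem_of_normal_sylow (P : Sylow p G) (h : (P : Subgroup G).Normal) {x : G}
    (hx : IsPElt p x) : x ∈ (P : Subgroup G) := by
  obtain ⟨Q, hQ⟩ := hx.zpowers.exists_le_sylow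
  have := Sylow.unique_of_normal P h
  have hQP : Q = P := Subsingleton.elim _ _
  rw [hQP] at hQ
  exact hQ (Subgroup.mem_zpowers x)

theorem pclosed_of_normal_sylow (P : Sylow p G) (h : (P : Subgroup G).Normal) : PClosed p G := by
  intro x y hx hy
  exact isPElt_of_mem P.isPGroup'
    ((P : Subgroup G).mul_mem (mem_of_normal_sylow P h hx) (mem_of_normal_sylow P h hy))

/-- the subgroup of `p`-elements of a `p`-closed group -/
def pSub (p : ℕ) (h : PClosed p G) : Subgroup G where
  carrier := {x | IsPElt p x}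
  one_mem' := isPElt_one p
  mul_mem' := fun {a b} ha hb => h a b ha hb
  inv_mem' := fun {a} ha => IsPElt.inv ha

theorem normal_sylow_of_pclosed (h : PClosed p G) (P : Sylow p G) : (P : Subgroup G).Normal := by
  have hH : IsPGroup p (pSub p h) := by
    rintro ⟨x, k, hk⟩
    exact ⟨k, Subtype.ext hk⟩
  have hle : (P : Subgroup G) ≤ pSub p h := fun x hx => isPElt_of_mem P.isPGroup' hx
  have heq : pSub p h = (P : Subgroup G) := P.is_maximal' hH hle
  rw [← heq]
  constructor
  intro x hx g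
  exact IsPElt.conj hx g

/-- a normal subgroup containing a Sylow `p`-subgroup contains all `p`-elements -/
theorem mem_of_sylow_le (P : Sylow p G) (N : Subgroup G) [hN : N.Normal]
    (hPN : (P : Subgroup G) ≤ N) {x : G} (hx : IsPElt p x) : x ∈ N := by
  obtain ⟨Q, hQ⟩ := hx.zpowers.exists_le_sylow
  obtain ⟨g, hg⟩ := MulAction.exists_smul_eq G P Q
  have hxQ : x ∈ (Q : Subgroup G) := hQ (Subgroup.mem_zpowers x)
  rw [← hg, Sylow.coe_subgroup_smul, Subgroup.mem_smul_pointwise_iff_exists] at hxQ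
  obtain ⟨s, hs, rfl⟩ := hxQ
  rw [MulAut.smul_def, MulAut.conj_apply]
  exact hN.conj_mem s (hPN hs) g

/-- if a subgroup containing all `p`-elements is `p`-closed then so is the group -/
theorem pclosed_of_sub (N : Subgroup G) (hall : ∀ x : G, IsPElt p x → x ∈ N)
    (hN : PClosed p N) : PClosed p G := by
  intro x y hx hy
  have h1 := hN ⟨x, hall x hx⟩ ⟨y, hall y hy⟩ ((isPElt_coe_iff N _).1 hx)
    ((isPElt_coe_iff N _).1 hy)
  exact (isPElt_coe_iff N _).2 h1

/-- uniform exponent for `p`-elements of a finite group -/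
theorem IsPElt.pow_card {x : G} (hx : IsPElt p x) {M : ℕ} (hM : Nat.card G ≤ M) :
    x ^ p ^ M = 1 := by
  obtain ⟨k, hk⟩ := hx
  have h1 : orderOf x ∣ p ^ k := orderOf_dvd_of_pow_eq_one hk
  obtain ⟨j, -, hj⟩ := (Nat.dvd_prime_pow hp.out).1 h1
  have h2 : orderOf x ≤ Nat.card G := orderOf_le_card
  have h3 : j < p ^ j := Nat.lt_pow_self hp.out.one_lt
  have h4 : j ≤ M := by omega
  have h5 : orderOf x ∣ p ^ M := by
    rw [hj]
    exact pow_dvd_pow p h4
  exact orderOf_dvd_iff_pow_eq_one.1 h5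

/-- if the quotients by a separating family of normal subgroups are `p`-closed, so is the
group -/
theorem pclosed_of_quotients {ι : Type*} (K : ι → Subgroup G) [hK : ∀ i, (K i).Normal]
    (hsep : ∀ g : G, (∀ i, g ∈ K i) → g = 1) (h : ∀ i, PClosed p (G ⧸ K i)) : PClosed p G := by
  intro x y hx hy
  refine ⟨Nat.card G, hsep _ ?_⟩
  intro i
  have h1 : IsPElt p (QuotientGroup.mk' (K i) (x * y)) := by
    rw [map_mul]
    exact h i _ _ (hx.map _) (hy.map _)
  have h2 : Nat.card (G ⧸ K i) ≤ Nat.card G :=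
    Nat.le_of_dvd Nat.card_pos (Subgroup.card_quotient_dvd_card (K i))
  have h3 := h1.pow_card h2
  rw [← map_pow, ← MonoidHom.mem_ker, QuotientGroup.ker_mk'] at h3
  exact h3

/-- a normal subgroup of index prime to `p` contains all `p`-elements -/
theorem mem_of_coprime_index (N : Subgroup G) [hN : N.Normal] (hcop : Nat.Coprime p N.index)
    {x : G} (hx : IsPElt p x) : x ∈ N := by
  have h1 : IsPElt p (QuotientGroup.mk' N x) := hx.map _
  have h2 : (QuotientGroup.mk' N x) ^ N.index = 1 := by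
    rw [Subgroup.index_eq_card]
    exact pow_card_eq_one'
  have h3 := h1.eq_one_of_pow_eq_one h2 hcop
  rw [← MonoidHom.mem_ker, QuotientGroup.ker_mk'] at h3
  exact h3

end sylow

end Cfsg.Agent.Lib.Helper80_WinterA
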