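import Mathlib
import Cfsg.Agent.Lib.Helper80_WinterA

/-!
# Counting fixed points of a p-element on an r-section (helper80, for S4467)
-/

set_option autoImplicit false

namespace Cfsg.Agent.Lib.Helper80_WinterB

open Cfsg.Agent.Lib.Helper80_WinterA

section abstract

variable {Q : Type*} [Group Q] [Finite Q] {p : ℕ} [hp : Fact p.Prime]

theorem card_modEq_centralizer (W : Subgroup Q) [hW : W.Normal] (y : Q) (hy : IsPElt p y) :
    Nat.card W ≡
      Nat.card ((Subgroup.centralizer (Subgroup.zpowers y : Set Q)).subgroupOf W) [MOD p] := by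
  set H := Subgroup.zpowers y with hH
  let act : MulAction H W :=
    MulAction.compHom W ((MulAut.conjNormal (H := W)).comp H.subtype)
  have hsmul : ∀ (h : H) (w : W), ((h • w : W) : Q) = (h : Q) * w * (h : Q)⁻¹ := fun h w => rfl
  have h1 := hy.zpowers.card_modEq_card_fixedPoints W
  have h2 : Nat.card (MulAction.fixedPoints H W) =
      Nat.card ((Subgroup.centralizer (H : Set Q)).subgroupOf W) := by
    apply Nat.card_congr
    apply Equiv.setCongr
    ext w
    rw [MulAction.mem_fixedPoints, SetLike.mem_coe, Subgroup.mem_subgroupOf,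
      Subgroup.mem_centralizer_iff]
    constructor
    · intro h g hg
      have h3 := congrArg Subtype.val (h ⟨g, hg⟩)
      rw [hsmul] at h3
      have h4 : g * (w : Q) * g⁻¹ = w := h3
      calc g * (w : Q) = g * w * g⁻¹ * g := by group
        _ = w * g := by rw [h4]
    · intro h g
      apply Subtype.ext
      rw [hsmul]
      have h4 := h g g.2
      rw [h4]
      group
  rw [h2] at h1
  exact h1

theorem exists_pow_modEq_one (W : Subgroup Q) [hW : W.Normal] (y : Q) (hy : IsPElt p y)
    (r k : ℕ) (hr : r.Prime) (hrp : r ≠ p) (hcard : Nat.card W = r ^ k) :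
    ∃ t ≤ k, (Subgroup.centralizer (Subgroup.zpowers y : Set Q)).relIndex W = r ^ t ∧
      r ^ t ≡ 1 [MOD p] := by
  set C' := (Subgroup.centralizer (Subgroup.zpowers y : Set Q)).subgroupOf W with hC'
  have h1 : Nat.card C' * C'.index = Nat.card W := Subgroup.card_mul_index C'
  have h2 := card_modEq_centralizer (p := p) W y hy
  rw [← hC'] at h2
  have h3 : C'.index ∣ r ^ k := by
    rw [← hcard, ← h1]
    exact Dvd.intro_left _ rfl
  have h4 : Nat.card C' ∣ r ^ k := by
    rw [← hcard, ← h1]
    exact Dvd.intro _ rfl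
  obtain ⟨t, ht, hidx⟩ := (Nat.dvd_prime_pow hr).1 h3
  obtain ⟨j, -, hj⟩ := (Nat.dvd_prime_pow hr).1 h4
  refine ⟨t, ht, hidx, ?_⟩
  have hcop : Nat.Coprime p (r ^ j) := by
    apply Nat.Coprime.pow_right
    rw [Nat.coprime_primes hp.out hr]
    exact fun h => hrp h.symm
  have h5 : r ^ j * r ^ t ≡ r ^ j * 1 [MOD p] := by
    rw [mul_one, ← hj, ← hidx, h1]
    exact h2
  exact Nat.ModEq.cancel_left_of_coprime hcop h5

end abstract

section glevel

variable {G : Type*} [Group G]

/-- the elements of `G` commuting with `x` modulo `K` -/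
def centMod (K : Subgroup G) [K.Normal] (x : G) : Subgroup G :=
  (Subgroup.centralizer
    (Subgroup.zpowers (QuotientGroup.mk' K x) : Set (G ⧸ K))).comap (QuotientGroup.mk' K)

theorem mem_centMod (K : Subgroup G) [hK : K.Normal] (x g : G) :
    g ∈ centMod K x ↔ x * g * x⁻¹ * g⁻¹ ∈ K := by
  unfold centMod
  rw [Subgroup.mem_comap, Subgroup.mem_centralizer_iff]
  have key : (QuotientGroup.mk' K x * QuotientGroup.mk' K g =
      QuotientGroup.mk' K g * QuotientGroup.mk' K x) ↔ x * g * x⁻¹ * g⁻¹ ∈ K := by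
    have hmem : x * g * x⁻¹ * g⁻¹ ∈ K ↔ QuotientGroup.mk' K (x * g * x⁻¹ * g⁻¹) = 1 := by
      rw [← MonoidHom.mem_ker, QuotientGroup.ker_mk']
    rw [hmem, map_mul, map_mul, map_mul, map_inv, map_inv]
    constructor
    · intro h
      rw [h]
      group
    · intro h
      have h2 : QuotientGroup.mk' K x * QuotientGroup.mk' K g =
          (QuotientGroup.mk' K x * QuotientGroup.mk' K g * (QuotientGroup.mk' K x)⁻¹ *
            (QuotientGroup.mk' K g)⁻¹) * (QuotientGroup.mk' K g * QuotientGroup.mk' K x) := by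
        group
      rw [h2, h, one_mul]
  rw [← key]
  constructor
  · intro h
    exact h _ (Subgroup.mem_zpowers _)
  · intro h z hz
    obtain ⟨n, rfl⟩ := Subgroup.mem_zpowers_iff.1 hz
    have hc : Commute (QuotientGroup.mk' K x) (QuotientGroup.mk' K g) := h
    exact (hc.zpow_left n)

theorem centMod_relIndex [Finite G] {p : ℕ} [hp : Fact p.Prime] (K V : Subgroup G)
    [hK : K.Normal] [hV : V.Normal] (x : G) (hx : IsPElt p x) (r k : ℕ) (hr : r.Prime)
    (hrp : r ≠ p) (hrel : K.relIndex V = r ^ k) :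
    ∃ t ≤ k, (centMod K x).relIndex V = r ^ t ∧ r ^ t ≡ 1 [MOD p] := by
  set π := QuotientGroup.mk' K with hπ
  have hπs : Function.Surjective π := QuotientGroup.mk'_surjective K
  have hker : π.ker = K := QuotientGroup.ker_mk' K
  have hVb : (V.map π).Normal := hV.map π hπs
  have hcard : Nat.card (V.map π) = r ^ k := by
    have hc : Subgroup.comap π ⊥ = K := hker
    rw [← hrel, ← Subgroup.relIndex_bot_left, ← Subgroup.relIndex_comap, hc]
  obtain ⟨t, ht, h1, h2⟩ := exists_pow_modEq_one (p := p) (V.map π) (π x) (hx.map π) r k hr hrp hcard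
  refine ⟨t, ht, ?_, h2⟩
  rw [← h1]
  unfold centMod
  rw [Subgroup.relIndex_comap]

end glevel

end Cfsg.Agent.Lib.Helper80_WinterB
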