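import Mathlib
import Cfsg.Agent.S0890
import Cfsg.Agent.Lib.Helper80_WinterA
import Cfsg.Agent.Lib.Helper80_WinterB

/-!
# Maximal subgroups of solvable groups and p-elements (helper80, for S4467)
-/

set_option autoImplicit false

namespace Cfsg.Agent.Lib.Helper80_WinterC

open Cfsg.Agent.Lib.Helper80_WinterA Cfsg.Agent.Lib.Helper80_WinterB

variable {G : Type*} [Group G] [Finite G]

theorem maximal_index [hsolv : Group.IsSolvable G] {p : ℕ} [hp : Fact p.Prime]
    (M : Subgroup G) (hmax : IsCoatom M) :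
    ∃ r k : ℕ, r.Prime ∧ 1 ≤ k ∧ M.index = r ^ k ∧
      (r = p ∨ (∃ N : Subgroup G, N.Normal ∧ N ≠ ⊤ ∧ ∀ x : G, IsPElt p x → x ∈ N) ∨
        ∃ t, 1 ≤ t ∧ t ≤ k ∧ r ^ t ≡ 1 [MOD p]) := by
  set K := M.normalCore with hKdef
  have hKn : K.Normal := Subgroup.normalCore_normal M
  have hKM : K ≤ M := Subgroup.normalCore_le M
  have hKtop : K ≠ ⊤ := by
    intro h
    apply hmax.1
    rw [eq_top_iff, ← h]
    exact hKM
  have hsolvQ : Group.IsSolvable (G ⧸ K) := inferInstance
  obtain ⟨V, hVn, hKV, -, hcomm, r, hr, hexp⟩ := Cfsg.Agent.S0890.exists_chief K hsolvQ hKtop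
  have hcore : ∀ C : Subgroup G, C.Normal → C ≤ M → C ≤ K := by
    intro C hC h
    haveI := hC
    exact Subgroup.normal_le_normalCore.2 h
  obtain ⟨hsup, hinf⟩ := Cfsg.Agent.S0890.chief_props K M V hVn hKM hmax hcore hKV hcomm
  have hidx : M.index = K.relIndex V :=
    Cfsg.Agent.S0890.index_eq_relIndex K M V hVn hKV.le hKM hsup hinf
  haveI : Fact r.Prime := ⟨hr⟩
  obtain ⟨k, hk⟩ := Cfsg.Agent.S0890.relIndex_pow K V r hexp
  have hk1 : 1 ≤ k := by
    rcases Nat.eq_zero_or_pos k with h0 | h0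
    · exfalso
      rw [h0, pow_zero, Subgroup.relIndex_eq_one] at hk
      exact not_le_of_gt hKV hk
    · exact h0
  refine ⟨r, k, hr, hk1, hidx.trans hk, ?_⟩
  by_cases hrp : r = p
  · exact Or.inl hrp
  right
  haveI := hVn
  by_cases hall : ∀ x : G, IsPElt p x → V ≤ centMod K x
  · left
    set π := QuotientGroup.mk' K with hπ
    have hπs : Function.Surjective π := QuotientGroup.mk'_surjective K
    haveI hVb : (V.map π).Normal := hVn.map π hπs
    set C : Subgroup G := (Subgroup.centralizer ((V.map π : Subgroup (G ⧸ K)) : Set (G ⧸ K))).comap π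
      with hC
    have hCn : C.Normal := Subgroup.Normal.comap inferInstance π
    have hmemC : ∀ g : G, g ∈ C ↔ ∀ v ∈ V, g * v * g⁻¹ * v⁻¹ ∈ K := by
      intro g
      rw [hC, Subgroup.mem_comap, Subgroup.mem_centralizer_iff]
      constructor
      · intro h v hv
        have h1 := h (π v) (Subgroup.mem_map_of_mem π hv)
        rw [← QuotientGroup.ker_mk' K, MonoidHom.mem_ker, map_mul, map_mul, map_mul, map_inv,
          map_inv, ← hπ, ← h1]
        group
      · rintro h w ⟨v, hv, rfl⟩
        have h1 := h v hv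
        rw [← QuotientGroup.ker_mk' K, MonoidHom.mem_ker, map_mul, map_mul, map_mul, map_inv,
          map_inv, ← hπ] at h1
        have h2 : π g * π v = (π g * π v * (π g)⁻¹ * (π v)⁻¹) * (π v * π g) := by group
        rw [h2, h1, one_mul]
    have hpC : ∀ x : G, IsPElt p x → x ∈ C := by
      intro x hx
      rw [hmemC]
      intro v hv
      exact (mem_centMod K x v).1 (hall x hx hv)
    by_cases hCtop : C = ⊤
    · -- then `M` is normal
      have hMn : M.Normal := by
        constructor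
        intro m hm g
        obtain ⟨v, hv, h, hh, rfl⟩ := Cfsg.Agent.S0890.exists_mul_of_sup_eq_top V M hVn hsup g
        have hm' : h * m * h⁻¹ ∈ M := M.mul_mem (M.mul_mem hh hm) (M.inv_mem hh)
        have h1 : (h * m * h⁻¹) * v * (h * m * h⁻¹)⁻¹ * v⁻¹ ∈ K := by
          have : (h * m * h⁻¹) ∈ C := by rw [hCtop]; trivial
          exact (hmemC _).1 this v hv
        have h2 : v * h * m * (v * h)⁻¹ =
            ((h * m * h⁻¹) * v * (h * m * h⁻¹)⁻¹ * v⁻¹)⁻¹ * (h * m * h⁻¹) := by group
        rw [h2]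
        exact M.mul_mem (M.inv_mem (hKM h1)) hm'
      refine ⟨M, hMn, hmax.1, ?_⟩
      intro x hx
      haveI := hMn
      apply mem_of_coprime_index M _ hx
      rw [hidx.trans hk]
      apply Nat.Coprime.pow_right
      rw [Nat.coprime_primes hp.out hr]
      exact fun h => hrp h.symm
    · exact ⟨C, hCn, hCtop, hpC⟩
  · right
    push Not at hall
    obtain ⟨x, hx, hnot⟩ := hall
    obtain ⟨t, ht, h1, h2⟩ := centMod_relIndex (p := p) K V x hx r k hr hrp hk
    refine ⟨t, ?_, ht, h2⟩
    rcases Nat.eq_zero_or_pos t with h0 | h0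
    · exfalso
      rw [h0, pow_zero, Subgroup.relIndex_eq_one] at h1
      exact hnot h1
    · exact h0

end Cfsg.Agent.Lib.Helper80_WinterC
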