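import Mathlib
import Cfsg.Agent.S0890
import Cfsg.Agent.Lib.Helper80_WinterA
import Cfsg.Agent.Lib.Helper80_WinterB

/-!
# A p-element acting on a class-two normal subgroup with central r-quotient
(helper80, for S4467)
-/

set_option autoImplicit false

namespace Cfsg.Agent.Lib.Helper80_WinterD

open Cfsg.Agent.Lib.Helper80_WinterA Cfsg.Agent.Lib.Helper80_WinterB

variable {G : Type*} [Group G]

/-- the partial "norm" `∏_{i<j} xⁱ e x⁻ⁱ` -/
def nrm (x e : G) : ℕ → G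
  | 0 => 1
  | (j + 1) => nrm x e j * (x ^ j * e * (x ^ j)⁻¹)

theorem nrm_zero (x e : G) : nrm x e 0 = 1 := rfl

theorem nrm_succ (x e : G) (j : ℕ) : nrm x e (j + 1) = nrm x e j * (x ^ j * e * (x ^ j)⁻¹) := rfl

theorem nrm_mem (E : Subgroup G) [hE : E.Normal] (x : G) {e : G} (he : e ∈ E) (j : ℕ) :
    nrm x e j ∈ E := by
  induction j with
  | zero => exact E.one_mem
  | succ j ih =>
    rw [nrm_succ]
    exact E.mul_mem ih (hE.conj_mem e he _)

theorem conj_nrm (x e : G) (j : ℕ) : x * nrm x e j * x⁻¹ = e⁻¹ * nrm x e (j + 1) := by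
  induction j with
  | zero =>
    rw [nrm_succ, nrm_zero]
    simp
  | succ j ih =>
    rw [nrm_succ x e (j + 1)]
    have h1 : x * nrm x e (j + 1) * x⁻¹ =
        (x * nrm x e j * x⁻¹) * (x ^ (j + 1) * e * (x ^ (j + 1))⁻¹) := by
      rw [nrm_succ, pow_succ']
      group
    rw [h1, ih, mul_assoc]

section main

variable (E : Subgroup G) [hE : E.Normal]
  (hcl2 : ∀ a ∈ E, ∀ b ∈ E, a * b * a⁻¹ * b⁻¹ ∈ Subgroup.center G)

include hcl2 in
theorem lam_mul {c g h : G} (hc : c ∈ E) (hh : h ∈ E) :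
    c * (g * h) * c⁻¹ * (g * h)⁻¹ = (c * g * c⁻¹ * g⁻¹) * (c * h * c⁻¹ * h⁻¹) := by
  have hz := Subgroup.mem_center_iff.1 (hcl2 c hc h hh)
  have h1 : c * (g * h) * c⁻¹ * (g * h)⁻¹ = c * g * c⁻¹ * ((c * h * c⁻¹ * h⁻¹) * g⁻¹) := by
    group
  rw [h1, ← hz g⁻¹]
  group

theorem lam_conj {c x g : G} (hcx : x * c = c * x) :
    c * (x * g * x⁻¹) * c⁻¹ * (x * g * x⁻¹)⁻¹ = x * (c * g * c⁻¹ * g⁻¹) * x⁻¹ := by
  have h2 : x⁻¹ * c⁻¹ = c⁻¹ * x⁻¹ := by
    rw [← mul_inv_rev, ← mul_inv_rev, hcx]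
  have h3 : c * (x * g * x⁻¹) * c⁻¹ * (x * g * x⁻¹)⁻¹ =
      (c * x) * g * (x⁻¹ * c⁻¹) * x * g⁻¹ * x⁻¹ := by group
  rw [h3, ← hcx, h2]
  group

include hcl2 in
theorem lam_conj_central {c x g : G} (hc : c ∈ E) (hg : g ∈ E) (hcx : x * c = c * x) :
    c * (x * g * x⁻¹) * c⁻¹ * (x * g * x⁻¹)⁻¹ = c * g * c⁻¹ * g⁻¹ := by
  rw [lam_conj hcx]
  have hz := Subgroup.mem_center_iff.1 (hcl2 c hc g hg)
  rw [hz x]
  group

include hcl2 in
theorem lam_conj_pow {c x g : G} (hc : c ∈ E) (hg : g ∈ E) (hcx : x * c = c * x) (j : ℕ) :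
    c * (x ^ j * g * (x ^ j)⁻¹) * c⁻¹ * (x ^ j * g * (x ^ j)⁻¹)⁻¹ = c * g * c⁻¹ * g⁻¹ := by
  induction j with
  | zero => simp
  | succ j ih =>
    have h1 : x ^ (j + 1) * g * (x ^ (j + 1))⁻¹ = x * (x ^ j * g * (x ^ j)⁻¹) * x⁻¹ := by
      rw [pow_succ']
      group
    rw [h1, lam_conj_central E hcl2 hc (hE.conj_mem g hg _) hcx, ih]

include hcl2 in
theorem lam_nrm {c x e : G} (hc : c ∈ E) (he : e ∈ E) (hcx : x * c = c * x) (j : ℕ) :
    c * nrm x e j * c⁻¹ * (nrm x e j)⁻¹ = (c * e * c⁻¹ * e⁻¹) ^ j := by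
  induction j with
  | zero => simp [nrm_zero]
  | succ j ih =>
    rw [nrm_succ, lam_mul E hcl2 hc (hE.conj_mem e he _), ih, lam_conj_pow E hcl2 hc he hcx,
      pow_succ]

include hcl2 in
theorem lam_pow {c e : G} (hc : c ∈ E) (he : e ∈ E) (j : ℕ) :
    c * e ^ j * c⁻¹ * (e ^ j)⁻¹ = (c * e * c⁻¹ * e⁻¹) ^ j := by
  induction j with
  | zero => simp
  | succ j ih =>
    rw [pow_succ, lam_mul E hcl2 hc he, ih, pow_succ]

variable {p r : ℕ} (hp : p.Prime) (hr : r.Prime) (hrp : r ≠ p)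
  (hexp : ∀ e ∈ E, e ^ r ∈ Subgroup.center G)

include hp hr hrp hexp in
/-- commutators `[x, e]` that are central are trivial -/
theorem comm_eq_one {x : G} (hx : IsPElt p x) {e : G} (he : e ∈ E)
    (hz : x * e * x⁻¹ * e⁻¹ ∈ Subgroup.center G) : x * e * x⁻¹ * e⁻¹ = 1 := by
  set z := x * e * x⁻¹ * e⁻¹ with hzdef
  have hzc := Subgroup.mem_center_iff.1 hz
  have hxe : x * e * x⁻¹ = z * e := by rw [hzdef]; group
  have hA : ∀ j : ℕ, x ^ j * e * (x ^ j)⁻¹ = z ^ j * e := by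
    intro j
    induction j with
    | zero => simp
    | succ j ih =>
      have h1 : x ^ (j + 1) * e * (x ^ (j + 1))⁻¹ = x * (x ^ j * e * (x ^ j)⁻¹) * x⁻¹ := by
        rw [pow_succ']
        group
      rw [h1, ih]
      have h2 : x * (z ^ j * e) * x⁻¹ = (x * z ^ j) * (e * x⁻¹) := by group
      have h3 : x * z ^ j = z ^ j * x := by
        have : Commute x z := hzc x
        exact (this.pow_right j)
      rw [h2, h3]
      have h4 : z ^ j * x * (e * x⁻¹) = z ^ j * (x * e * x⁻¹) := by group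
      rw [h4, hxe, pow_succ]
      group
  obtain ⟨k, hk⟩ := hx
  have hzp : IsPElt p z := by
    refine ⟨k, ?_⟩
    have h1 := hA (p ^ k)
    rw [hk] at h1
    simp only [one_mul, inv_one, mul_one] at h1
    have h2 : z ^ p ^ k * e = 1 * e := by rw [← h1, one_mul]
    exact mul_right_cancel h2
  have hzr : z ^ r = 1 := by
    have h1 : x * e ^ r * x⁻¹ = (z * e) ^ r := by rw [← hxe, conj_pow]
    have h2 : (z * e) ^ r = z ^ r * e ^ r := by
      have : Commute z e := (hzc e).symm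
      exact this.mul_pow r
    have h3 : x * e ^ r * x⁻¹ = e ^ r := by
      have := Subgroup.mem_center_iff.1 (hexp e he) x
      rw [this]
      group
    rw [h3, h2] at h1
    have h4 : z ^ r * e ^ r = 1 * e ^ r := by rw [← h1, one_mul]
    exact mul_right_cancel h4
  have hcop : Nat.Coprime p r := by
    rw [Nat.coprime_primes hp hr]
    exact fun h => hrp h.symm
  exact hzp.eq_one_of_pow_eq_one hzr hcop

include hp hr hrp hexp hcl2 in
/-- the centre of `C_E(x)` is central in `E` -/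
theorem center_centralizer {x : G} (hx : IsPElt p x) {c : G} (hc : c ∈ E) (hcx : x * c = c * x)
    (hcD : ∀ d ∈ E, x * d = d * x → c * d = d * c) : ∀ e ∈ E, c * e = e * c := by
  intro e he
  obtain ⟨k, hk⟩ := hx
  -- the norm of `e`
  set N := nrm x e (p ^ k) with hN
  have hNE : N ∈ E := nrm_mem E x he _
  have h1 : x * N * x⁻¹ = e⁻¹ * N * e := by
    rw [hN, conj_nrm, nrm_succ, hk]
    group
  have h2 : x * N * x⁻¹ * N⁻¹ ∈ Subgroup.center G := by
    rw [h1]
    have := hcl2 e⁻¹ (E.inv_mem he) N hNE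
    rwa [inv_inv] at this
  have h3 := comm_eq_one E hp hr hrp hexp ⟨k, hk⟩ hNE h2
  have h4 : x * N = N * x := by
    have : x * N * x⁻¹ = N := by
      have := mul_inv_eq_one.1 h3
      exact this
    calc x * N = x * N * x⁻¹ * x := by group
      _ = N * x := by rw [this]
  have h5 : c * N = N * c := hcD N hNE h4
  have h6 : (c * e * c⁻¹ * e⁻¹) ^ p ^ k = 1 := by
    rw [← lam_nrm E hcl2 hc he hcx, ← hN, h5]
    group
  have h7 : (c * e * c⁻¹ * e⁻¹) ^ r = 1 := by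
    rw [← lam_pow E hcl2 hc he]
    have := Subgroup.mem_center_iff.1 (hexp e he) c
    rw [this]
    group
  have hcop : Nat.Coprime p r := by
    rw [Nat.coprime_primes hp hr]
    exact fun h => hrp h.symm
  have h8 : c * e * c⁻¹ * e⁻¹ = 1 := IsPElt.eq_one_of_pow_eq_one ⟨k, h6⟩ h7 hcop
  have h9 : c * e * c⁻¹ = e := by
    have := mul_inv_eq_one.1 h8
    exact this
  calc c * e = c * e * c⁻¹ * c := by group
    _ = e * c := by rw [h9]

include hp hr hrp hexp in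
theorem centMod_inf {x : G} (hx : IsPElt p x) :
    centMod (E ⊓ Subgroup.center G) x ⊓ E = Subgroup.centralizer {x} ⊓ E := by
  ext g
  rw [Subgroup.mem_inf, Subgroup.mem_inf, mem_centMod, Subgroup.mem_centralizer_iff]
  constructor
  · rintro ⟨h1, h2⟩
    refine ⟨?_, h2⟩
    intro y hy
    rw [Set.mem_singleton_iff] at hy
    subst hy
    have h3 := comm_eq_one E hp hr hrp hexp hx h2 h1.2
    have h4 : y * g * y⁻¹ = g := by
      have := mul_inv_eq_one.1 h3
      exact this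
    calc y * g = y * g * y⁻¹ * y := by group
      _ = g * y := by rw [h4]
  · rintro ⟨h1, h2⟩
    refine ⟨?_, h2⟩
    have h3 := h1 x (Set.mem_singleton x)
    rw [h3]
    have : g * x * x⁻¹ * g⁻¹ = 1 := by group
    rw [this]
    exact Subgroup.one_mem _

include hp hr hrp hexp in
theorem relIndex_centralizer [Finite G] {x : G} (hx : IsPElt p x) (k : ℕ)
    (hrel : (E ⊓ Subgroup.center G).relIndex E = r ^ k) :
    ∃ t ≤ k, (Subgroup.centralizer {x}).relIndex E = r ^ t ∧ r ^ t ≡ 1 [MOD p] := by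
  haveI : Fact p.Prime := ⟨hp⟩
  obtain ⟨t, ht, h1, h2⟩ :=
    centMod_relIndex (p := p) (E ⊓ Subgroup.center G) E x hx r k hr hrp hrel
  refine ⟨t, ht, ?_, h2⟩
  rw [← h1, ← Subgroup.inf_relIndex_right, ← centMod_inf E hp hr hrp hexp hx,
    Subgroup.inf_relIndex_right]

end main

end Cfsg.Agent.Lib.Helper80_WinterD
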