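import Mathlib
import Cfsg.Agent.S0857
import Cfsg.Agent.Lib.Helper75_Clifford
import Cfsg.Agent.Lib.Helper76_GalConj
import Cfsg.Agent.Lib.Helper80_GalProdC
import Cfsg.Agent.Lib.Helper80_GalProdD

/-!
# Class-two subgroups of a faithful irreducible linear group: index of the centre is a square
(helper80, for S4467)
-/

set_option autoImplicit false

namespace Cfsg.Agent.Lib.Helper80_WinterE

open Cfsg
open scoped ComplexConjugate
open Cfsg.Agent.Lib.Helper75_Clifford Cfsg.Agent.Lib.Helper76_GalConj

universe u

variable {G : Type u} [Group G] [Fintype G] {m : ℕ} (ρ : Representation ℂ G (Fin m → ℂ))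

/-- `A` is a subgroup all of whose commutators are central in `G` and whose centre lies in
the centre of `G`; then some irreducible constituent `η` of `χ|_A` has
`η(1)² = |A : A ∩ Z(G)|`. -/
theorem exists_constituent_sq [hρ : ρ.IsIrreducible]
    (hfaith : ∀ g : G, ρ.character g = ρ.character 1 → g = 1) (A : Subgroup G) [Fintype A]
    (hcl2 : ∀ a ∈ A, ∀ b ∈ A, a * b * a⁻¹ * b⁻¹ ∈ Subgroup.center G)
    (hZ : ∀ a ∈ A, (∀ b ∈ A, a * b = b * a) → a ∈ Subgroup.center G) :
    ∃ (η : A → ℂ) (d : ℕ), IsIrrCharacter A η ∧ classInner (res A ρ.character) η ≠ 0 ∧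
      η 1 = d ∧ d ^ 2 = (Subgroup.center G).relIndex A := by
  have hres : IsCharacter A (res A ρ.character) := isCharacter_res A ⟨m, ρ, rfl⟩
  have hm : 0 < m := Cfsg.Agent.Lib.Helper80_CharBasic.irr_dim_pos ρ hρ
  have h1 : res A ρ.character 1 ≠ 0 := by
    rw [res_apply]
    have : ((1 : A) : G) = 1 := rfl
    rw [this, Representation.char_one, Module.finrank_fin_fun]
    exact_mod_cast hm.ne'
  obtain ⟨η, hη, hne⟩ := Cfsg.Agent.S0857.exists_constituent hres h1
  set ηI : IrrCharacter A := ⟨η, hη⟩ with hηI
  -- commutators of `A` are central in `G`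
  have hcomm : ∀ c ∈ commutator A, (c : G) ∈ Subgroup.center G := by
    have hle : commutator A ≤ (Subgroup.center G).subgroupOf A := by
      rw [commutator_def, Subgroup.commutator_le]
      intro a _ b _
      rw [Subgroup.mem_subgroupOf, commutatorElement_def]
      exact hcl2 a a.2 b b.2
    intro c hc
    exact Subgroup.mem_subgroupOf.1 (hle hc)
  have hcl : commutator A ≤ Subgroup.center A := by
    intro c hc
    rw [Subgroup.mem_center_iff]
    intro a
    apply Subtype.ext
    exact Subgroup.mem_center_iff.1 (hcomm c hc) a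
  have hker : ∀ c ∈ commutator A, c ∈ kerC ηI → c = 1 := by
    intro c hc hck
    have hcz := hcomm c hc
    rw [mem_kerC] at hck
    have hck' : η c = η 1 := hck
    obtain ⟨lam, hlam⟩ := Cfsg.Agent.Lib.Helper3_CharCenter.exists_scalar_of_mem_center ρ hcz
    have hχ : ∀ a : A, ρ.character ((c * a : A) : G) = lam * ρ.character (a : G) := by
      intro a
      exact Cfsg.Agent.Lib.Helper80_GalProdD.char_scalar_mul ρ hlam (a : G)
    have hηc : ∀ a : A, η (c * a) = η a := by
      obtain ⟨k, σ, hσ, hση⟩ := hη
      intro a
      have e1 : σ.character c = (Module.finrank ℂ (Fin k → ℂ) : ℂ) := by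
        rw [← Representation.char_one σ, hση]
        exact hck'
      have e2 := (Cfsg.Agent.Lib.Helper3_CharEigen.char_eq_finrank_iff σ c).1 e1
      rw [← hση]
      unfold Representation.character
      rw [map_mul, e2]
      rfl
    have hS : ∑ a : A, ρ.character (a : G) * conj (η a) ≠ 0 := by
      intro h0
      apply hne
      unfold classInner
      simp only [res_apply]
      rw [h0, mul_zero]
    have hS2 : ∑ a : A, ρ.character (a : G) * conj (η a) =
        lam * ∑ a : A, ρ.character (a : G) * conj (η a) := by
      rw [Finset.mul_sum]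
      refine Eq.trans (Fintype.sum_equiv (Equiv.mulLeft c)
        (fun a : A => ρ.character ((c * a : A) : G) * conj (η (c * a)))
        (fun a : A => ρ.character (a : G) * conj (η a)) (fun _ => rfl)).symm ?_
      apply Finset.sum_congr rfl
      intro a _
      rw [hχ a, hηc a, mul_assoc]
    have hlam1 : lam = 1 := by
      have h2 : (lam - 1) * ∑ a : A, ρ.character (a : G) * conj (η a) = 0 := by
        rw [sub_mul, one_mul, ← hS2, sub_self]
      rcases mul_eq_zero.1 h2 with h | h
      · exact sub_eq_zero.1 h
      · exact absurd h hS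
    have h3 : ρ (c : G) = LinearMap.id := by rw [hlam, hlam1, one_smul]
    have h4 := hfaith _ (Cfsg.Agent.Lib.Helper80_GalProdC.char_eq_of_id ρ h3)
    exact Subtype.ext h4
  have hsq := deg_sq_eq_of_class_two ηI hcl hker
  have hcenter : Subgroup.center A = (Subgroup.center G).subgroupOf A := by
    ext a
    rw [Subgroup.mem_subgroupOf, Subgroup.mem_center_iff]
    constructor
    · intro h
      apply hZ a a.2
      intro b hb
      have := h ⟨b, hb⟩
      exact (congrArg Subtype.val this).symm
    · intro h b
      apply Subtype.ext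
      exact Subgroup.mem_center_iff.1 h b
  refine ⟨η, charDegree η, hη, hne, irr_one_eq_charDegree ηI, ?_⟩
  rw [hsq, hcenter]
  rfl

end Cfsg.Agent.Lib.Helper80_WinterE
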