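import Mathlib

/-!
# Arithmetic for S4467 (helper80)
-/

set_option autoImplicit false

namespace Cfsg.Agent.Lib.Helper80_WinterF

/-- `n` has a prime power divisor `q > 1` congruent to `-1`, `0` or `1` modulo `p` -/
def Good (p n : ℕ) : Prop :=
  ∃ q : ℕ, IsPrimePow q ∧ q ∣ n ∧
    ((q : ℤ) ≡ -1 [ZMOD p] ∨ (q : ℤ) ≡ 0 [ZMOD p] ∨ (q : ℤ) ≡ 1 [ZMOD p])

theorem Good.mono {p n n' : ℕ} (h : Good p n) (hd : n ∣ n') : Good p n' := by
  obtain ⟨q, h1, h2, h3⟩ := h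
  exact ⟨q, h1, h2.trans hd, h3⟩

theorem good_of_pow_self {p k n : ℕ} (hp : p.Prime) (hk : 1 ≤ k) (hd : p ^ k ∣ n) : Good p n := by
  refine ⟨p ^ k, ?_, hd, Or.inr (Or.inl ?_)⟩
  · exact (isPrimePow_nat_iff _).2 ⟨p, k, hp, hk, rfl⟩
  · rw [Int.modEq_zero_iff_dvd]
    push_cast
    exact dvd_pow_self _ (by omega)

theorem good_of_pow_one {p r t n : ℕ} (hr : r.Prime) (ht : 1 ≤ t) (h1 : r ^ t ≡ 1 [MOD p])
    (hd : r ^ t ∣ n) : Good p n := by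
  refine ⟨r ^ t, ?_, hd, Or.inr (Or.inr ?_)⟩
  · exact (isPrimePow_nat_iff _).2 ⟨r, t, hr, ht, rfl⟩
  · have := (Int.natCast_modEq_iff (a := r ^ t) (b := 1) (n := p)).2 h1
    exact_mod_cast this

theorem good_of_sq {p r t dE dD n : ℕ} (hp : p.Prime) (hr : r.Prime) (ht : 1 ≤ t)
    (h1 : r ^ t ≡ 1 [MOD p]) (hsq : dE ^ 2 = dD ^ 2 * r ^ t) (hD : dD ≠ 0) (hd : dE ∣ n) :
    Good p n := by
  have h2 : dD ^ 2 ∣ dE ^ 2 := by rw [hsq]; exact Dvd.intro _ rfl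
  have h3 : dD ∣ dE := (Nat.pow_dvd_pow_iff (by norm_num)).1 h2
  obtain ⟨q, hq⟩ := h3
  have h4 : q ^ 2 = r ^ t := by
    rw [hq, mul_pow] at hsq
    exact Nat.eq_of_mul_eq_mul_left (by positivity) hsq
  have h5 : q ∣ r ^ t := by rw [← h4]; exact Dvd.intro_left _ (by ring)
  obtain ⟨u, -, hu⟩ := (Nat.dvd_prime_pow hr).1 h5
  have hu1 : 1 ≤ u := by
    rcases Nat.eq_zero_or_pos u with h0 | h0
    · exfalso
      rw [h0, pow_zero] at hu
      rw [hu, one_pow] at h4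
      have : 1 < r ^ t := Nat.one_lt_pow (by omega) hr.one_lt
      omega
    · exact h0
  refine ⟨q, ?_, ?_, ?_⟩
  · exact (isPrimePow_nat_iff _).2 ⟨r, u, hr, hu1, hu.symm⟩
  · rw [hq] at hd
    exact (Dvd.intro_left _ rfl).trans hd
  · have h6 : ((q : ℤ)) ^ 2 ≡ 1 [ZMOD p] := by
      have := (Int.natCast_modEq_iff (a := r ^ t) (b := 1) (n := p)).2 h1
      rw [← h4] at this
      exact_mod_cast this
    have h7 : (p : ℤ) ∣ ((q : ℤ) - 1) * ((q : ℤ) + 1) := by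
      have := (Int.modEq_iff_dvd.1 h6.symm)
      have e : ((q : ℤ) - 1) * ((q : ℤ) + 1) = (q : ℤ) ^ 2 - 1 := by ring
      rw [e]
      exact this
    rcases (Nat.prime_iff_prime_int.1 hp).dvd_or_dvd h7 with h | h
    · right; right
      exact (Int.modEq_iff_dvd.2 h).symm
    · left
      apply (Int.modEq_iff_dvd.2 _).symm
      have e : (q : ℤ) - (-1) = (q : ℤ) + 1 := by ring
      rw [e]
      exact h

end Cfsg.Agent.Lib.Helper80_WinterF
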