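import Mathlib
import Cfsg.Agent.S0859
import Cfsg.Agent.Lib.Helper80_CharInd
import Cfsg.Agent.Lib.Helper80_WinterA
import Cfsg.Agent.Lib.Helper80_WinterC
import Cfsg.Agent.Lib.Helper80_WinterF

/-!
# S4467, the imprimitive case (helper80)
-/

set_option autoImplicit false

namespace Cfsg.Agent.Lib.Helper80_WinterG

open Cfsg
open Cfsg.Agent.Lib.Helper80_WinterA Cfsg.Agent.Lib.Helper80_WinterC
  Cfsg.Agent.Lib.Helper80_WinterF

universe u

variable {G : Type u} [Group G] [Fintype G]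

theorem step2 [hsolv : Group.IsSolvable G] {p : ℕ} [hp : Fact p.Prime] {m : ℕ}
    (ρ : Representation ℂ G (Fin m → ℂ))
    (hnprim : ¬ Cfsg.Agent.S0859.Prim ρ.character)
    (hN : ∀ N : Subgroup G, N.Normal → N ≠ ⊤ → PClosed p N) (hG : ¬ PClosed p G) :
    Good p m := by
  unfold Cfsg.Agent.S0859.Prim at hnprim
  rw [not_not] at hnprim
  obtain ⟨U, μ, hU, hμ, hind⟩ := hnprim
  obtain ⟨d, -, hd⟩ := Cfsg.Agent.Lib.Helper80_CharBasic.irr_apply_one ⟨μ, hμ⟩
  simp only at hd
  have h1 : (m : ℂ) = ((U.index * d : ℕ) : ℂ) := by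
    have h2 := Cfsg.Agent.Lib.Helper80_CharInd.indFun_one U μ
    rw [hind, Representation.char_one, Module.finrank_fin_fun, hd] at h2
    rw [h2]
    push_cast
    rfl
  have h2 : m = U.index * d := by exact_mod_cast h1
  have hUm : U.index ∣ m := by rw [h2]; exact Dvd.intro _ rfl
  obtain ⟨M, hM, hUM⟩ := (eq_top_or_exists_le_coatom U).resolve_left hU
  have hMm : M.index ∣ m := (Subgroup.index_dvd_of_le hUM).trans hUm
  obtain ⟨r, k, hr, hk1, hidx, hcases⟩ := maximal_index (p := p) M hM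
  rcases hcases with h | h | h
  · subst h
    apply good_of_pow_self hr hk1
    rw [← hidx]
    exact hMm
  · exfalso
    obtain ⟨N, hNn, hNtop, hall⟩ := h
    exact hG (pclosed_of_sub N hall (hN N hNn hNtop))
  · obtain ⟨t, ht1, htk, hmod⟩ := h
    apply good_of_pow_one hr ht1 hmod
    refine (pow_dvd_pow r htk).trans ?_
    rw [← hidx]
    exact hMm

end Cfsg.Agent.Lib.Helper80_WinterG
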