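import Mathlib
import Cfsg.Agent.S0859
import Cfsg.Agent.S0890
import Cfsg.Agent.Lib.Helper59_CliffordDeg
import Cfsg.Agent.Lib.Helper80_GalProdC
import Cfsg.Agent.Lib.Helper80_WinterA
import Cfsg.Agent.Lib.Helper80_WinterD
import Cfsg.Agent.Lib.Helper80_WinterE
import Cfsg.Agent.Lib.Helper80_WinterF

/-!
# S4467, the primitive case (helper80)
-/

set_option autoImplicit false

namespace Cfsg.Agent.Lib.Helper80_WinterH

open Cfsg
open Cfsg.Agent.Lib.Helper80_WinterA Cfsg.Agent.Lib.Helper80_WinterD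
  Cfsg.Agent.Lib.Helper80_WinterE Cfsg.Agent.Lib.Helper80_WinterF
  Cfsg.Agent.Lib.Helper75_Clifford

universe u

section grp

variable {G : Type*} [Group G]

theorem commutator_ne_self (N : Subgroup G) (hsolv : Group.IsSolvable N) (hN : N ≠ ⊥) :
    ⁅N, N⁆ ≠ N := by
  have hlt : ⁅(⊤ : Subgroup N), (⊤ : Subgroup N)⁆ < (⊤ : Subgroup N) := by
    have : Nontrivial N := (Subgroup.nontrivial_iff_ne_bot N).mpr hN
    exact Group.IsSolvable.commutator_lt_top_of_nontrivial N
  intro h
  have h1 : (⁅(⊤ : Subgroup N), (⊤ : Subgroup N)⁆ : Subgroup N).map N.subtype = ⁅N, N⁆ := by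
    rw [Subgroup.map_commutator, ← MonoidHom.range_eq_map, Subgroup.range_subtype]
  have h2 : (⁅(⊤ : Subgroup N), (⊤ : Subgroup N)⁆ : Subgroup N).map N.subtype =
      (⊤ : Subgroup N).map N.subtype := by
    rw [h1, h, ← MonoidHom.range_eq_map, Subgroup.range_subtype]
  have h3 := Subgroup.map_injective (Subgroup.subtype_injective N) h2
  exact hlt.ne h3

/-- a commutative group is `p`-closed -/
theorem pclosed_of_comm (p : ℕ) (h : ∀ a b : G, a * b = b * a) : PClosed p G := by
  rintro x y ⟨k, hk⟩ ⟨l, hl⟩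
  refine ⟨k + l, ?_⟩
  have hc : Commute x y := h x y
  rw [hc.mul_pow, pow_add, pow_mul, hk, one_pow, one_mul, mul_comm (p ^ k), pow_mul, hl, one_pow]

end grp

variable {G : Type u} [Group G] [Fintype G]

theorem step3 [hsolv : Group.IsSolvable G] {p : ℕ} [hp : Fact p.Prime] {m : ℕ}
    (ρ : Representation ℂ G (Fin m → ℂ)) [hρ : ρ.IsIrreducible]
    (hfaith : ∀ g : G, ρ.character g = ρ.character 1 → g = 1)
    (hprim : Cfsg.Agent.S0859.Prim ρ.character)
    (hN : ∀ N : Subgroup G, N.Normal → N ≠ ⊤ → PClosed p N) (hG : ¬ PClosed p G) :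
    Good p m := by
  classical
  set Z := Subgroup.center G with hZdef
  -- `G` is not abelian
  have hZtop : ¬ (⊤ : Subgroup G) ≤ Z := by
    intro h
    apply hG
    apply pclosed_of_comm
    intro a b
    exact (Subgroup.mem_center_iff.1 (h (Subgroup.mem_top b)) a)
  -- minimal noncentral normal subgroup
  obtain ⟨E, -, hEmin⟩ := Finite.exists_le_minimal
    (p := fun K : Subgroup G => K.Normal ∧ ¬ K ≤ Z) (a := ⊤) ⟨inferInstance, hZtop⟩
  obtain ⟨hEn, hEZ⟩ := hEmin.prop
  haveI := hEn
  have hmin : ∀ K : Subgroup G, K.Normal → K ≤ E → ¬ K ≤ Z → E ≤ K := by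
    intro K hK hKE hKZ
    exact hEmin.le_of_le ⟨hK, hKZ⟩ hKE
  have hEbot : E ≠ ⊥ := by
    intro h
    apply hEZ
    rw [h]
    exact bot_le
  have hEsolv : Group.IsSolvable E := inferInstance
  -- class two
  have hcommZ : ⁅E, E⁆ ≤ Z := by
    by_contra hnot
    have h1 : ⁅E, E⁆ ≤ E := Subgroup.commutator_le_left E E
    have h2 := hmin ⁅E, E⁆ inferInstance h1 hnot
    exact commutator_ne_self E hEsolv hEbot (le_antisymm h1 h2)
  have hcl2 : ∀ a ∈ E, ∀ b ∈ E, a * b * a⁻¹ * b⁻¹ ∈ Subgroup.center G := by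
    intro a ha b hb
    have := Subgroup.commutator_mem_commutator ha hb
    rw [commutatorElement_def] at this
    exact hcommZ this
  -- the centre of `E` is central
  have hZE : ∀ a ∈ E, (∀ b ∈ E, a * b = b * a) → a ∈ Subgroup.center G := by
    intro a ha hab
    set C := E ⊓ Subgroup.centralizer (E : Set G) with hC
    have hCn : C.Normal := inferInstance
    have hCcomm : ∀ a ∈ C, ∀ b ∈ C, a * b = b * a := by
      intro a ha b hb
      have := Subgroup.mem_centralizer_iff.1 ha.2 b hb.1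
      exact this.symm
    have hCZ := Cfsg.Agent.Lib.Helper80_GalProdC.abelian_normal_le_center ρ hfaith hprim C hCn hCcomm
    apply hCZ
    rw [hC, Subgroup.mem_inf]
    refine ⟨ha, ?_⟩
    rw [Subgroup.mem_centralizer_iff]
    intro b hb
    exact (hab b hb).symm
  -- exponent of `E` modulo the centre
  set F := E ⊓ Z with hF
  have hFn : F.Normal := inferInstance
  have hFE : F ≠ E := by
    intro h
    apply hEZ
    rw [← h]
    exact inf_le_right
  obtain ⟨L, hLn, hFL, hLE, hLF, r, hr, hLexp⟩ :=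
    Cfsg.Agent.S0859.exists_section F E inf_le_left hFE
  have hEL : E ≤ L := by
    apply hmin L hLn hLE
    intro hLZ
    exact hLF (le_antisymm (le_inf hLE hLZ) hFL)
  have hexp : ∀ e ∈ E, e ^ r ∈ Subgroup.center G := fun e he => (hLexp e (hEL he)).2
  have hexpF : ∀ e ∈ E, e ^ r ∈ F := fun e he => hLexp e (hEL he)
  haveI : Fact r.Prime := ⟨hr⟩
  obtain ⟨k, hk⟩ := Cfsg.Agent.S0890.relIndex_pow F E r hexpF
  have hk1 : 1 ≤ k := by
    rcases Nat.eq_zero_or_pos k with h0 | h0
    · exfalso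
      rw [h0, pow_zero, Subgroup.relIndex_eq_one] at hk
      exact hFE (le_antisymm inf_le_left hk)
    · exact h0
  have hFrel : Z.relIndex E = F.relIndex E := by
    rw [hF, inf_comm, Subgroup.inf_relIndex_right]
  -- the degree square for `E`
  haveI : Fintype E := Fintype.ofFinite E
  obtain ⟨ηE, dE, hηE, hneE, hηE1, hdE⟩ := exists_constituent_sq ρ hfaith E hcl2 hZE
  have hχ : IsIrrCharacter G ρ.character := ⟨m, ρ, hρ, rfl⟩
  have hχ1 : ρ.character 1 = (m : ℂ) := by
    rw [Representation.char_one, Module.finrank_fin_fun]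
  have hdEm : dE ∣ m :=
    Cfsg.Agent.Lib.Helper59_CliffordDeg.degree_dvd_of_clifford E hEn hχ hηE hneE m dE hχ1 hηE1
  rw [← hZdef, hFrel, hk] at hdE
  by_cases hrp : r = p
  · -- `p ∣ dE`
    subst hrp
    have h1 : r ∣ dE ^ 2 := by rw [hdE]; exact dvd_pow_self r (by omega)
    have h2 : r ∣ dE := hr.dvd_of_dvd_pow h1
    apply good_of_pow_self (k := 1) hr le_rfl
    rw [pow_one]
    exact h2.trans hdEm
  -- a `p`-element not centralizing `E`
  have hex : ∃ x : G, IsPElt p x ∧ x ∉ Subgroup.centralizer (E : Set G) := by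
    by_contra hcon
    push Not at hcon
    have hCn : (Subgroup.centralizer (E : Set G)).Normal := inferInstance
    by_cases htop : Subgroup.centralizer (E : Set G) = ⊤
    · apply hEZ
      intro e he
      rw [hZdef, Subgroup.mem_center_iff]
      intro g
      have hg : g ∈ Subgroup.centralizer (E : Set G) := by rw [htop]; trivial
      exact (Subgroup.mem_centralizer_iff.1 hg e he).symm
    · exact hG (pclosed_of_sub _ hcon (hN _ hCn htop))
  obtain ⟨x, hx, hxE⟩ := hex
  obtain ⟨t, htk, hrel, hmod⟩ := relIndex_centralizer E hp.out hr hrp hexp hx k hk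
  have ht1 : 1 ≤ t := by
    rcases Nat.eq_zero_or_pos t with h0 | h0
    · exfalso
      rw [h0, pow_zero, Subgroup.relIndex_eq_one] at hrel
      apply hxE
      rw [Subgroup.mem_centralizer_iff]
      intro e he
      have := Subgroup.mem_centralizer_iff.1 (hrel he) x (Set.mem_singleton x)
      exact this.symm
    · exact h0
  -- the centralizer `D = C_E(x)`
  set D := Subgroup.centralizer ({x} : Set G) ⊓ E with hD
  have hDE : D ≤ E := inf_le_right
  have hcl2D : ∀ a ∈ D, ∀ b ∈ D, a * b * a⁻¹ * b⁻¹ ∈ Subgroup.center G :=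
    fun a ha b hb => hcl2 a (hDE ha) b (hDE hb)
  have hmemD : ∀ d : G, d ∈ D ↔ x * d = d * x ∧ d ∈ E := by
    intro d
    rw [hD, Subgroup.mem_inf, Subgroup.mem_centralizer_iff]
    constructor
    · rintro ⟨h1, h2⟩
      exact ⟨h1 x (Set.mem_singleton x), h2⟩
    · rintro ⟨h1, h2⟩
      refine ⟨?_, h2⟩
      intro y hy
      rw [Set.mem_singleton_iff] at hy
      rw [hy]
      exact h1
  have hZD : ∀ a ∈ D, (∀ b ∈ D, a * b = b * a) → a ∈ Subgroup.center G := by
    intro a ha hab
    obtain ⟨hax, haE⟩ := (hmemD a).1 ha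
    apply hZE a haE
    apply center_centralizer E hcl2 hp.out hr hrp hexp hx haE hax
    intro d hd hxd
    exact hab d ((hmemD d).2 ⟨hxd, hd⟩)
  haveI : Fintype D := Fintype.ofFinite D
  obtain ⟨ηD, dD, hηD, -, hηD1, hdD⟩ := exists_constituent_sq ρ hfaith D hcl2D hZD
  have hdD0 : dD ≠ 0 := by
    obtain ⟨n, hn, hn1⟩ := Cfsg.Agent.Lib.Helper80_CharBasic.irr_apply_one ⟨ηD, hηD⟩
    simp only at hn1
    rw [hηD1] at hn1
    have : dD = n := by exact_mod_cast hn1
    omega
  -- index arithmetic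
  have hZD' : Z ⊓ D = F := by
    rw [hF, hD]
    apply le_antisymm
    · exact le_inf (inf_le_right.trans inf_le_right) inf_le_left
    · refine le_inf inf_le_right (le_inf ?_ inf_le_left)
      intro z hz
      rw [Subgroup.mem_centralizer_iff]
      intro y _
      exact (Subgroup.mem_center_iff.1 hz.2 y)
  have hFD : F ≤ D := by rw [← hZD']; exact inf_le_right
  have hrelD : Z.relIndex D = F.relIndex D := by
    rw [← hZD', Subgroup.inf_relIndex_right]
  have hmul : F.relIndex D * D.relIndex E = F.relIndex E :=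
    Subgroup.relIndex_mul_relIndex F D E hFD hDE
  have hDrel : D.relIndex E = r ^ t := by
    rw [hD, Subgroup.inf_relIndex_right, hrel]
  rw [← hZdef, hrelD] at hdD
  have hsq : dE ^ 2 = dD ^ 2 * r ^ t := by
    rw [hdE, hdD, ← hk, ← hDrel, hmul]
  exact (good_of_sq hp.out hr ht1 hmod hsq hdD0 dvd_rfl).mono hdEm

end Cfsg.Agent.Lib.Helper80_WinterH
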