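import Mathlib
import Cfsg.Agent.Lib.Helper3_CharComplete
import Cfsg.Agent.Lib.Helper59_CliffordDeg
import Cfsg.Agent.Lib.Helper76_GalConj
import Cfsg.Agent.Lib.Helper80_WinterA
import Cfsg.Agent.Lib.Helper80_WinterF
import Cfsg.Agent.Lib.Helper80_WinterG
import Cfsg.Agent.Lib.Helper80_WinterH

/-!
# S4467: reduction to normal subgroups and the induction (helper80)
-/

set_option autoImplicit false

namespace Cfsg.Agent.Lib.Helper80_WinterI

open Cfsg
open Cfsg.Agent.Lib.Helper80_WinterA Cfsg.Agent.Lib.Helper80_WinterF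
  Cfsg.Agent.Lib.Helper80_WinterG Cfsg.Agent.Lib.Helper80_WinterH
  Cfsg.Agent.Lib.Helper75_Clifford Cfsg.Agent.Lib.Helper76_GalConj
  Cfsg.Agent.Lib.Helper3_CharBridge Cfsg.Agent.Lib.Helper3_CharComplete

universe u

theorem step1 {G : Type u} [Group G] [Fintype G] [hsolv : Group.IsSolvable G] {p : ℕ}
    [hp : Fact p.Prime] {m : ℕ} (ρ : Representation ℂ G (Fin m → ℂ)) [hρ : ρ.IsIrreducible]
    (hfaith : ∀ g : G, ρ.character g = ρ.character 1 → g = 1)
    (IH : ∀ (H : Type u) [Group H] [Finite H], Nat.card H < Nat.card G → Group.IsSolvable H →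
      ¬ PClosed p H → ∀ (m' : ℕ) (σ : Representation ℂ H (Fin m' → ℂ)), σ.IsIrreducible →
      (∀ g : H, σ.character g = σ.character 1 → g = 1) → Good p m')
    (N : Subgroup G) (hNn : N.Normal) (hNtop : N ≠ ⊤) (hNP : ¬ PClosed p N) : Good p m := by
  classical
  haveI : Fintype N := Fintype.ofFinite N
  set f := res N ρ.character with hfdef
  have hf : IsCharacter N f := isCharacter_res N ⟨m, ρ, rfl⟩
  have hfc : IsClassFunction N f := isClassFunction_of_isCharacter hf
  have hχ : IsIrrCharacter G ρ.character := ⟨m, ρ, hρ, rfl⟩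
  have hχ1 : ρ.character 1 = (m : ℂ) := by
    rw [Representation.char_one, Module.finrank_fin_fun]
  -- the constituents separate the points of `N`
  have hsep : ∀ g : N, (∀ θ : {θ : IrrCharacter N // classInner f (θ : N → ℂ) ≠ 0},
      g ∈ kerC θ.1) → g = 1 := by
    intro g hg
    have h1 := classFunction_eq_sum f hfc
    have h2 : f g = f 1 := by
      calc f g = (∑ χ : IrrCharacter N, classInner f χ • (χ : N → ℂ)) g := congrFun h1 g
        _ = (∑ χ : IrrCharacter N, classInner f χ • (χ : N → ℂ)) 1 := by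
          rw [Finset.sum_apply, Finset.sum_apply]
          apply Finset.sum_congr rfl
          intro χ _
          rw [Pi.smul_apply, Pi.smul_apply]
          by_cases h0 : classInner f (χ : N → ℂ) = 0
          · rw [h0, zero_smul, zero_smul]
          · have := hg ⟨χ, h0⟩
            rw [mem_kerC] at this
            rw [this]
        _ = f 1 := (congrFun h1 1).symm
    have h3 : ρ.character (g : G) = ρ.character 1 := h2
    exact Subtype.ext (hfaith _ h3)
  have hex : ∃ θ : {θ : IrrCharacter N // classInner f (θ : N → ℂ) ≠ 0},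
      ¬ PClosed p (N ⧸ kerC θ.1) := by
    by_contra hcon
    push Not at hcon
    exact hNP (pclosed_of_quotients (fun θ : {θ : IrrCharacter N //
      classInner f (θ : N → ℂ) ≠ 0} => kerC θ.1) hsep hcon)
  obtain ⟨⟨θ, hθne⟩, hθP⟩ := hex
  simp only at hθP
  obtain ⟨χ', hχ'⟩ := exists_quot_char (kerC θ) θ le_rfl
  obtain ⟨m', σ, hσ, hσχ⟩ := χ'.2
  have hθval : ∀ g : N, (θ : N → ℂ) g = σ.character (QuotientGroup.mk g) := by
    intro g
    have h1 : (θ : N → ℂ) g = (infl (kerC θ) χ' : N → ℂ) g := by rw [hχ']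
    rw [h1, infl_apply, hσχ]
  have hσf : ∀ q : N ⧸ kerC θ, σ.character q = σ.character 1 → q = 1 := by
    intro q hq
    obtain ⟨g, rfl⟩ := QuotientGroup.mk_surjective q
    have h1 : (θ : N → ℂ) g = (θ : N → ℂ) 1 := by
      rw [hθval, hθval, QuotientGroup.mk_one]
      exact hq
    exact (QuotientGroup.eq_one_iff g).2 ((mem_kerC θ g).2 h1)
  have hdeg : (θ : N → ℂ) 1 = (m' : ℂ) := by
    rw [hθval, QuotientGroup.mk_one, Representation.char_one, Module.finrank_fin_fun]
  have hdvd : m' ∣ m :=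
    Cfsg.Agent.Lib.Helper59_CliffordDeg.degree_dvd_of_clifford N hNn hχ θ.2 hθne m m' hχ1 hdeg
  have hcard : Nat.card (N ⧸ kerC θ) < Nat.card G := by
    have h1 : Nat.card (N ⧸ kerC θ) ≤ Nat.card N :=
      Nat.le_of_dvd Nat.card_pos (Subgroup.card_quotient_dvd_card _)
    have h2 : Nat.card N * N.index = Nat.card G := Subgroup.card_mul_index N
    have h3 : N.index ≠ 1 := fun h => hNtop (Subgroup.index_eq_one.1 h)
    have h4 : N.index ≠ 0 := Subgroup.index_ne_zero_of_finite
    have h5 : 0 < Nat.card N := Nat.card_pos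
    have h6 : 2 ≤ N.index := by omega
    nlinarith
  exact (IH (N ⧸ kerC θ) hcard inferInstance hθP m' σ hσ hσf).mono hdvd

theorem key (p : ℕ) [hp : Fact p.Prime] : ∀ (c : ℕ) (G : Type u) [Group G] [Finite G],
    Nat.card G = c → Group.IsSolvable G → ¬ PClosed p G →
    ∀ (m : ℕ) (ρ : Representation ℂ G (Fin m → ℂ)), ρ.IsIrreducible →
    (∀ g : G, ρ.character g = ρ.character 1 → g = 1) → Good p m := by
  intro c
  induction c using Nat.strong_induction_on with
  | _ c IH =>
    intro G _ _ hc hsolv hG m ρ hρ hfaith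
    haveI : Fintype G := Fintype.ofFinite G
    haveI := hsolv
    haveI := hρ
    by_cases h1 : ∃ N : Subgroup G, N.Normal ∧ N ≠ ⊤ ∧ ¬ PClosed p N
    · obtain ⟨N, hNn, hNtop, hNP⟩ := h1
      apply step1 ρ hfaith _ N hNn hNtop hNP
      intro H _ _ hcard hHs hHP m' σ hσ hσf
      rw [hc] at hcard
      exact IH (Nat.card H) hcard H rfl hHs hHP m' σ hσ hσf
    · push Not at h1
      by_cases hprim : Cfsg.Agent.S0859.Prim ρ.character
      · exact step3 ρ hfaith hprim h1 hG
      · exact step2 ρ hprim h1 hG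

end Cfsg.Agent.Lib.Helper80_WinterI
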