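import Mathlib
import Cfsg.Prelude.Def_Characters
import Cfsg.Agent.Lib.Helper16_Quot
import Cfsg.Agent.Lib.Helper3_CharComplete

/-!
# Averaging class functions over the cosets of a normal subgroup (helper81)

For `N ⊴ G` and a class function `f`, the coset average `g ↦ |N|⁻¹ ∑_{n ∈ N} f (n g)` is the
projection of `f` onto the span of the irreducible characters with `N` in their kernel.
-/

set_option autoImplicit false

namespace Cfsg.Agent.Lib.Helper81_CosetAvg

open scoped ComplexConjugate
open Cfsg.Agent.Lib.Helper3_CharBridge Cfsg.Agent.Lib.Helper3_CharOrtho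
  Cfsg.Agent.Lib.Helper3_CharComplete Cfsg.Agent.Lib.Helper16_Quot

variable {G : Type*} [Group G]

/-- the coset average of a function -/
noncomputable def avg (N : Subgroup G) [Fintype N] (f : G → ℂ) : G → ℂ :=
  fun g => (Nat.card N : ℂ)⁻¹ * ∑ n : N, f ((n : G) * g)

/-- `N` acts trivially in (a representation affording) `β`. -/
def KerCond (N : Subgroup G) (β : G → ℂ) : Prop := ∀ (n : N) (g : G), β ((n : G) * g) = β g

/-- Dichotomy for an irreducible representation and a normal subgroup: either `N` acts trivially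
or all coset sums of the character vanish. -/
theorem rep_dichotomy [Finite G] {V : Type*} [AddCommGroup V] [Module ℂ V] [FiniteDimensional ℂ V]
    (ρ : Representation ℂ G V) [ρ.IsIrreducible] (N : Subgroup G) [N.Normal] [Fintype N] :
    KerCond N ρ.character ∨ ∀ g : G, ∑ n : N, ρ.character ((n : G) * g) = 0 := by
  rcases invSubrep_eq_bot_or_top ρ N with h | h
  · right
    intro g
    have hS : (∑ n : N, ρ (n : G)) = 0 := by
      apply LinearMap.ext
      intro v
      have hv : (∑ n : N, ρ (n : G)) v ∈ invSubrep ρ N := by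
        show (∑ n : N, ρ (n : G)) v ∈ Representation.invariants (ρ.comp N.subtype)
        rw [Representation.mem_invariants]
        intro m
        show ρ (m : G) ((∑ n : N, ρ (n : G)) v) = (∑ n : N, ρ (n : G)) v
        rw [LinearMap.sum_apply, map_sum]
        apply Fintype.sum_equiv (Equiv.mulLeft m)
        intro n
        simp only [Equiv.coe_mulLeft, Subgroup.coe_mul, map_mul]
        rfl
      rw [h] at hv
      have : (∑ n : N, ρ (n : G)) v = 0 := hv
      rw [this]
      rfl
    unfold Representation.character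
    rw [← map_sum]
    have : ∑ n : N, ρ ((n : G) * g) = (∑ n : N, ρ (n : G)) * ρ g := by
      rw [Finset.sum_mul]
      refine Finset.sum_congr rfl fun n _ => ?_
      rw [map_mul]
    rw [this, hS, zero_mul, map_zero]
  · left
    intro n g
    have ht := isTrivial_of_invSubrep_eq_top ρ N h
    have h1 : ρ (n : G) = LinearMap.id := ht.out n
    unfold Representation.character
    rw [map_mul, h1]
    rfl

theorem irr_dichotomy [Finite G] (N : Subgroup G) [N.Normal] [Fintype N] {β : G → ℂ}
    (hβ : Cfsg.IsIrrCharacter G β) :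
    KerCond N β ∨ ∀ g : G, ∑ n : N, β ((n : G) * g) = 0 := by
  obtain ⟨k, ρ, hρ, rfl⟩ := hβ
  haveI := hρ
  exact rep_dichotomy ρ N

theorem avg_of_kerCond (N : Subgroup G) [Fintype N] {β : G → ℂ} (h : KerCond N β) :
    avg N β = β := by
  funext g
  unfold avg
  have hN0 : (Nat.card N : ℂ) ≠ 0 := by
    rw [Nat.cast_ne_zero]; exact Nat.card_pos.ne'
  simp_rw [h _ g]
  rw [Finset.sum_const, Finset.card_univ, nsmul_eq_mul, ← Nat.card_eq_fintype_card]
  field_simp

theorem avg_of_sum_zero (N : Subgroup G) [Fintype N] {β : G → ℂ}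
    (h : ∀ g : G, ∑ n : N, β ((n : G) * g) = 0) : avg N β = 0 := by
  funext g
  unfold avg
  rw [h g, mul_zero]
  rfl

/-- The coset average of a class function is a class function. -/
theorem isClassFunction_avg (N : Subgroup G) [hN : N.Normal] [Fintype N] {f : G → ℂ}
    (hf : Cfsg.IsClassFunction G f) : Cfsg.IsClassFunction G (avg N f) := by
  intro g x
  unfold avg
  congr 1
  -- n ↦ x⁻¹ n x
  let e : N ≃ N :=
    { toFun := fun n => ⟨x⁻¹ * n * x, by
        have := hN.conj_mem n n.2 x⁻¹
        rwa [inv_inv] at this⟩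
      invFun := fun n => ⟨x * n * x⁻¹, hN.conj_mem n n.2 x⟩
      left_inv := fun n => by
        apply Subtype.ext
        simp [mul_assoc]
      right_inv := fun n => by
        apply Subtype.ext
        simp [mul_assoc] }
  apply Fintype.sum_equiv e
  intro n
  show f ((n : G) * (x * g * x⁻¹)) = f ((x⁻¹ * (n : G) * x) * g)
  have := hf ((x⁻¹ * (n : G) * x) * g) x
  rw [← this]
  congr 1
  group

/-- Adjointness of the coset average. -/
theorem classInner_avg [Fintype G] (N : Subgroup G) [Fintype N] (f β : G → ℂ) :
    Cfsg.classInner (avg N f) β = Cfsg.classInner f (avg N β) := by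
  unfold Cfsg.classInner avg
  congr 1
  have h1 : ∑ g : G, (Nat.card N : ℂ)⁻¹ * (∑ n : N, f ((n : G) * g)) * conj (β g) =
      (Nat.card N : ℂ)⁻¹ * ∑ n : N, ∑ g : G, f ((n : G) * g) * conj (β g) := by
    rw [Finset.sum_comm, Finset.mul_sum]
    refine Finset.sum_congr rfl fun g _ => ?_
    rw [mul_assoc, Finset.sum_mul]
  have h2 : ∑ g : G, f g * conj ((Nat.card N : ℂ)⁻¹ * ∑ n : N, β ((n : G) * g)) =
      (Nat.card N : ℂ)⁻¹ * ∑ n : N, ∑ g : G, f g * conj (β ((n : G) * g)) := by
    rw [Finset.sum_comm, Finset.mul_sum]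
    refine Finset.sum_congr rfl fun g _ => ?_
    rw [map_mul, map_inv₀, Complex.conj_natCast, map_sum, Finset.mul_sum, Finset.mul_sum,
      Finset.mul_sum]
    refine Finset.sum_congr rfl fun n _ => ?_
    ring
  rw [h1, h2]
  congr 1
  -- reindex n ↦ n⁻¹ and g ↦ n g
  apply Fintype.sum_equiv (Equiv.inv N)
  intro n
  apply Fintype.sum_equiv (Equiv.mulLeft (n : G))
  intro g
  simp only [Equiv.coe_mulLeft, Equiv.inv_apply, Subgroup.coe_inv]
  rw [inv_mul_cancel_left]

/-- The coset average of a class function is its projection onto the irreducible characters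
with `N` in the kernel. -/
theorem avg_eq_sum [Fintype G] (N : Subgroup G) [N.Normal] [Fintype N] [DecidablePred (KerCond N)]
    {f : G → ℂ} (hf : Cfsg.IsClassFunction G f) :
    avg N f = ∑ β : Cfsg.IrrCharacter G,
      (if KerCond N (β : G → ℂ) then Cfsg.classInner f (β : G → ℂ) else 0) • (β : G → ℂ) := by
  conv_lhs => rw [classFunction_eq_sum (avg N f) (isClassFunction_avg N hf)]
  refine Finset.sum_congr rfl fun β _ => ?_
  rw [classInner_avg]
  rcases irr_dichotomy N β.2 with h | h
  · rw [if_pos h, avg_of_kerCond N h]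
  · have hnot : ¬ KerCond N (β : G → ℂ) := by
      intro hk
      have h1 := h 1
      simp_rw [hk _ 1] at h1
      rw [Finset.sum_const, Finset.card_univ, nsmul_eq_mul] at h1
      rcases mul_eq_zero.mp h1 with h2 | h2
      · have : (Fintype.card N : ℂ) ≠ 0 := by
          rw [Nat.cast_ne_zero]; exact Fintype.card_ne_zero
        exact this h2
      · have := classInner_self_of_isIrrCharacter β.2
        have hne : Cfsg.classInner (β : G → ℂ) (β : G → ℂ) ≠ 0 := by rw [this]; exact one_ne_zero
        -- β 1 = 0 contradicts irreducibility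
        obtain ⟨k, ρ, hρ, hβ⟩ := β.2
        haveI := hρ
        have hfin := Cfsg.Agent.Lib.Helper16_Char.finrank_pos_of_irreducible ρ
        rw [← hβ, Representation.char_one] at h2
        have : (Module.finrank ℂ (Fin k → ℂ) : ℂ) ≠ 0 := by
          rw [Nat.cast_ne_zero]; omega
        exact this h2
    rw [if_neg hnot, avg_of_sum_zero N h, classInner_zero_right]

end Cfsg.Agent.Lib.Helper81_CosetAvg
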