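import Mathlib
import Cfsg.Prelude.Def_Characters
import Cfsg.Agent.Lib.Helper81_CosetAvg
import Cfsg.Agent.Lib.Helper75_CharArith
import Cfsg.Agent.Lib.Helper3_CharOrtho
import Cfsg.Agent.Lib.Helper3_CharComplete
import Cfsg.Agent.Lib.Helper3_CharBridge

/-!
# Splitting a character along a normal subgroup (helper81)

For `K ⊴ M` and a character `ψ` of `M`, `avg K ψ` is the part of `ψ` with `K` in the kernel and
`dev K ψ = ψ - avg K ψ` the rest.  Both are characters, they are orthogonal, and `dev K ψ`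
vanishes at every element of `M` that commutes with no non-identity element of `K`.
-/

set_option autoImplicit false

namespace Cfsg.Agent.Lib.Helper81_AvgSplit

open scoped ComplexConjugate
open Cfsg.Agent.Lib.Helper3_CharBridge Cfsg.Agent.Lib.Helper3_CharOrtho
  Cfsg.Agent.Lib.Helper3_CharComplete Cfsg.Agent.Lib.Helper75_CharArith
  Cfsg.Agent.Lib.Helper81_CosetAvg

variable {M : Type*} [Group M]

/-- the part of `ψ` not seen by the coset average -/
noncomputable def dev (K : Subgroup M) [Fintype K] (ψ : M → ℂ) : M → ℂ := ψ - avg K ψ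

theorem kerCond_avg (K : Subgroup M) [Fintype K] (f : M → ℂ) : KerCond K (avg K f) := by
  intro k g
  unfold avg
  congr 1
  apply Fintype.sum_equiv (Equiv.mulRight k)
  intro n
  simp only [Equiv.coe_mulRight, Subgroup.coe_mul, mul_assoc]

theorem avg_avg (K : Subgroup M) [Fintype K] (f : M → ℂ) : avg K (avg K f) = avg K f :=
  avg_of_kerCond K (kerCond_avg K f)

theorem classInner_avg_dev [Fintype M] (K : Subgroup M) [Fintype K] (f : M → ℂ) :
    Cfsg.classInner (avg K f) (dev K f) = 0 := by
  have h1 : Cfsg.classInner (avg K f) (avg K f) = Cfsg.classInner (avg K f) f := by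
    rw [classInner_avg K f (avg K f), avg_avg, ← classInner_avg K f f]
  have h2 : Cfsg.classInner (avg K f) (dev K f) =
      Cfsg.classInner (avg K f) f - Cfsg.classInner (avg K f) (avg K f) := by
    unfold dev Cfsg.classInner
    rw [← mul_sub, ← Finset.sum_sub_distrib]
    congr 1
    refine Finset.sum_congr rfl fun g _ => ?_
    simp only [Pi.sub_apply, map_sub]
    ring
  rw [h2, h1, sub_self]

theorem isCharacter_dev [Fintype M] (K : Subgroup M) [K.Normal] [Fintype K] {ψ : M → ℂ}
    (hψ : Cfsg.IsCharacter M ψ) : Cfsg.IsCharacter M (dev K ψ) := by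
  classical
  have hcf := isClassFunction_of_isCharacter hψ
  have h1 : dev K ψ = ∑ β : Cfsg.IrrCharacter M,
      (if KerCond K (β : M → ℂ) then 0 else Cfsg.classInner ψ (β : M → ℂ)) • (β : M → ℂ) := by
    have e1 := classFunction_eq_sum ψ hcf
    have e2 := avg_eq_sum K hcf
    have e3 : dev K ψ = (∑ β : Cfsg.IrrCharacter M, Cfsg.classInner ψ (β : M → ℂ) • (β : M → ℂ)) -
        ∑ β : Cfsg.IrrCharacter M,
          (if KerCond K (β : M → ℂ) then Cfsg.classInner ψ (β : M → ℂ) else 0) • (β : M → ℂ) := by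
      rw [← e1, ← e2]
      rfl
    rw [e3, ← Finset.sum_sub_distrib]
    refine Finset.sum_congr rfl fun β _ => ?_
    by_cases hk : KerCond K (β : M → ℂ)
    · rw [if_pos hk, if_pos hk, sub_self, zero_smul]
    · rw [if_neg hk, if_neg hk, zero_smul, sub_zero]
  rw [h1]
  apply isCharacter_sum
  intro β _
  obtain ⟨m, hm⟩ := classInner_isCharacter_nat hψ (isCharacter_of_isIrrCharacter β.2)
  by_cases hk : KerCond K (β : M → ℂ)
  · rw [if_pos hk, zero_smul]
    exact isCharacter_zero
  · rw [if_neg hk, hm]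
    have : ((m : ℂ) • (β : M → ℂ)) = m • (β : M → ℂ) := by
      funext g
      simp
    rw [this]
    exact isCharacter_nsmul m (isCharacter_of_isIrrCharacter β.2)

/-- `dev K f` vanishes at elements acting without fixed points on `K`. -/
theorem dev_eq_zero_of_free (K : Subgroup M) [hK : K.Normal] [Fintype K] {f : M → ℂ}
    (hf : Cfsg.IsClassFunction M f) (g : M)
    (hg : ∀ k ∈ K, k * g = g * k → k = 1) : dev K f g = 0 := by
  classical
  -- the map k ↦ k g k⁻¹ g⁻¹ is a bijection of K
  let φ : K → K := fun k => ⟨(k : M) * g * (k : M)⁻¹ * g⁻¹, by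
    have h1 : g * (k : M)⁻¹ * g⁻¹ ∈ K := hK.conj_mem _ (K.inv_mem k.2) g
    have h2 : (k : M) * (g * (k : M)⁻¹ * g⁻¹) ∈ K := K.mul_mem k.2 h1
    have : (k : M) * g * (k : M)⁻¹ * g⁻¹ = (k : M) * (g * (k : M)⁻¹ * g⁻¹) := by group
    rw [this]; exact h2⟩
  have hinj : Function.Injective φ := by
    intro a b hab
    have h1 : (a : M) * g * (a : M)⁻¹ * g⁻¹ = (b : M) * g * (b : M)⁻¹ * g⁻¹ :=
      congrArg Subtype.val hab
    have h2 : (a : M) * g * (a : M)⁻¹ = (b : M) * g * (b : M)⁻¹ := mul_right_cancel h1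
    have h3 : ((b : M)⁻¹ * (a : M)) * g = g * ((b : M)⁻¹ * (a : M)) := by
      have : g = (a : M)⁻¹ * ((b : M) * g * (b : M)⁻¹) * (a : M) := by
        rw [← h2]; group
      calc ((b : M)⁻¹ * (a : M)) * g
          = (b : M)⁻¹ * ((a : M) * g * (a : M)⁻¹) * (a : M) := by group
        _ = (b : M)⁻¹ * ((b : M) * g * (b : M)⁻¹) * (a : M) := by rw [h2]
        _ = g * ((b : M)⁻¹ * (a : M)) := by group
    have h4 := hg _ (K.mul_mem (K.inv_mem b.2) a.2) h3
    apply Subtype.ext
    have : (a : M) = (b : M) * ((b : M)⁻¹ * (a : M)) := by group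
    rw [this, h4, mul_one]
  have hbij : Function.Bijective φ := Finite.injective_iff_bijective.mp hinj
  have hval : ∀ k : K, f ((φ k : M) * g) = f g := by
    intro k
    have : ((φ k : K) : M) * g = (k : M) * g * (k : M)⁻¹ := by
      show (k : M) * g * (k : M)⁻¹ * g⁻¹ * g = (k : M) * g * (k : M)⁻¹
      group
    rw [this]
    exact hf g k
  unfold dev avg
  simp only [Pi.sub_apply]
  have hsum : ∑ n : K, f ((n : M) * g) = ∑ k : K, f ((φ k : M) * g) :=
    (Fintype.sum_equiv (Equiv.ofBijective φ hbij) _ _ (fun k => rfl)).symm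
  rw [hsum, Finset.sum_congr rfl (fun k _ => hval k), Finset.sum_const, Finset.card_univ,
    nsmul_eq_mul, ← Nat.card_eq_fintype_card]
  have hK0 : (Nat.card K : ℂ) ≠ 0 := by
    rw [Nat.cast_ne_zero]; exact Nat.card_pos.ne'
  field_simp
  ring

/-- A nonzero character has norm at least one. -/
theorem card_le_sum_normSq [Fintype M] {η : M → ℂ} (hη : Cfsg.IsCharacter M η) (h0 : η ≠ 0) :
    (Nat.card M : ℝ) ≤ ∑ g : M, Complex.normSq (η g) := by
  obtain ⟨m, hm⟩ := classInner_isCharacter_nat hη hη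
  have hM0 : (Nat.card M : ℂ) ≠ 0 := by
    rw [Nat.cast_ne_zero]; exact Nat.card_pos.ne'
  have h1 : (∑ g : M, η g * conj (η g)) = (Nat.card M : ℂ) * m := by
    unfold Cfsg.classInner at hm
    rw [← hm]
    field_simp
  have h2 : ((∑ g : M, Complex.normSq (η g) : ℝ) : ℂ) = (Nat.card M : ℂ) * m := by
    rw [← h1]
    push_cast
    refine Finset.sum_congr rfl fun g _ => ?_
    rw [Complex.mul_conj]
  have h3 : (∑ g : M, Complex.normSq (η g) : ℝ) = (Nat.card M : ℝ) * m := by
    exact_mod_cast h2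
  rw [h3]
  have hm1 : 1 ≤ m := by
    rcases Nat.eq_zero_or_pos m with h | h
    · exfalso
      apply h0
      rw [h, Nat.cast_zero, mul_zero] at h3
      funext g
      have hg := (Finset.sum_eq_zero_iff_of_nonneg
        (fun g _ => Complex.normSq_nonneg (η g))).mp h3 g (Finset.mem_univ g)
      exact Complex.normSq_eq_zero.mp hg
    · exact h
  have : (1 : ℝ) ≤ m := by exact_mod_cast hm1
  have hpos : (0 : ℝ) ≤ Nat.card M := Nat.cast_nonneg _
  nlinarith

/-- **Local bound.**  If `D` contains every element of `M` centralising a non-identity element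
of `K ⊴ M`, and the character `ψ` is not trivial on `K`, then
`∑_{D} |avg ψ|² + |M| ≤ ∑_{D} |ψ|²`. -/
theorem local_bound [Fintype M] (K : Subgroup M) [K.Normal] [Fintype K] {ψ : M → ℂ}
    (hψ : Cfsg.IsCharacter M ψ) (hne : dev K ψ ≠ 0) (D : M → Prop) [DecidablePred D]
    (hD : ∀ g, ¬ D g → ∀ k ∈ K, k * g = g * k → k = 1) :
    (∑ g : M, if D g then Complex.normSq (avg K ψ g) else 0) + (Nat.card M : ℝ) ≤
      ∑ g : M, if D g then Complex.normSq (ψ g) else 0 := by
  have hcf := isClassFunction_of_isCharacter hψ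
  have hvan : ∀ g, ¬ D g → dev K ψ g = 0 := fun g hg =>
    dev_eq_zero_of_free K hcf g (hD g hg)
  have hsplit : ∀ g, ψ g = avg K ψ g + dev K ψ g := by
    intro g
    unfold dev
    simp
  have hterm : ∀ g : M, (if D g then Complex.normSq (ψ g) else 0) =
      (if D g then Complex.normSq (avg K ψ g) else 0) + Complex.normSq (dev K ψ g) +
        2 * (avg K ψ g * conj (dev K ψ g)).re := by
    intro g
    by_cases hg : D g
    · rw [if_pos hg, if_pos hg, hsplit g, Complex.normSq_add]
    · rw [if_neg hg, if_neg hg, hvan g hg]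
      simp
  rw [Finset.sum_congr rfl (fun g _ => hterm g), Finset.sum_add_distrib, Finset.sum_add_distrib]
  have hcross : ∑ g : M, 2 * (avg K ψ g * conj (dev K ψ g)).re = 0 := by
    have h := classInner_avg_dev K ψ
    unfold Cfsg.classInner at h
    have hM0 : (Nat.card M : ℂ) ≠ 0 := by
      rw [Nat.cast_ne_zero]; exact Nat.card_pos.ne'
    have h' : ∑ g : M, avg K ψ g * conj (dev K ψ g) = 0 := by
      rcases mul_eq_zero.mp h with h1 | h1
      · exact absurd (inv_eq_zero.mp h1) hM0
      · exact h1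
    rw [← Finset.mul_sum, ← Complex.re_sum, h']
    simp
  rw [hcross, add_zero]
  have := card_le_sum_normSq (isCharacter_dev K hψ) hne
  linarith

end Cfsg.Agent.Lib.Helper81_AvgSplit
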