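import Cfsg.Prelude.Def_Characters
import Mathlib

/-!
# Basic bridge between Mathlib representations and `Cfsg.IsCharacter` / `Cfsg.IsIrrCharacter`
(helper81)
-/

set_option autoImplicit false

namespace Cfsg.Agent.Lib.Helper81_CharBasic

open Cfsg

universe u v

section Bridge

variable {G : Type u} [Group G]

/-- Transport a representation along a linear equivalence. -/
noncomputable def transportRep {V W : Type*} [AddCommGroup V] [Module ℂ V] [AddCommGroup W] [Module ℂ W]
    (ρ : Representation ℂ G V) (e : V ≃ₗ[ℂ] W) : Representation ℂ G W where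
  toFun g := e.conj (ρ g)
  map_one' := by
    ext w
    simp [LinearEquiv.conj_apply]
  map_mul' x y := by
    ext w
    simp [LinearEquiv.conj_apply]

theorem transportRep_apply {V W : Type*} [AddCommGroup V] [Module ℂ V] [AddCommGroup W] [Module ℂ W]
    (ρ : Representation ℂ G V) (e : V ≃ₗ[ℂ] W) (g : G) (w : W) :
    transportRep ρ e g w = e (ρ g (e.symm w)) := by
  simp [transportRep, LinearEquiv.conj_apply]

/-- The transported representation is equivalent to the original one. -/
noncomputable def transportEquiv {V W : Type*} [AddCommGroup V] [Module ℂ V] [AddCommGroup W] [Module ℂ W]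
    (ρ : Representation ℂ G V) (e : V ≃ₗ[ℂ] W) : ρ.Equiv (transportRep ρ e) :=
  Representation.Equiv.mk e (by
    intro g
    ext v
    simp [transportRep_apply])

/-- Equivalent representations have order-isomorphic lattices of subrepresentations. -/
noncomputable def subrepOrderIso {V W : Type*} [AddCommGroup V] [Module ℂ V] [AddCommGroup W] [Module ℂ W]
    {ρ : Representation ℂ G V} {σ : Representation ℂ G W} (φ : ρ.Equiv σ) :
    Subrepresentation ρ ≃o Subrepresentation σ where
  toFun S := ⟨S.toSubmodule.map φ.toLinearEquiv.toLinearMap, by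
    rintro g _ ⟨v, hv, rfl⟩
    refine ⟨ρ g v, S.apply_mem_toSubmodule g hv, ?_⟩
    exact Representation.IntertwiningMap.isIntertwining ρ σ φ.toIntertwiningMap g v⟩
  invFun T := ⟨T.toSubmodule.map φ.symm.toLinearEquiv.toLinearMap, by
    rintro g _ ⟨v, hv, rfl⟩
    refine ⟨σ g v, T.apply_mem_toSubmodule g hv, ?_⟩
    exact Representation.IntertwiningMap.isIntertwining σ ρ φ.symm.toIntertwiningMap g v⟩
  left_inv S := by
    apply Subrepresentation.toSubmodule_injective
    ext v
    constructor
    · rintro ⟨_, ⟨w, hw, rfl⟩, rfl⟩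
      have : φ.symm (φ w) = w := φ.symm_apply_apply w
      simpa [this] using hw
    · intro hv
      exact ⟨φ v, ⟨v, hv, rfl⟩, φ.symm_apply_apply v⟩
  right_inv T := by
    apply Subrepresentation.toSubmodule_injective
    ext v
    constructor
    · rintro ⟨_, ⟨w, hw, rfl⟩, rfl⟩
      have : φ (φ.symm w) = w := φ.apply_symm_apply w
      simpa [this] using hw
    · intro hv
      exact ⟨φ.symm v, ⟨v, hv, rfl⟩, φ.apply_symm_apply v⟩
  map_rel_iff' := by
    intro S T
    constructor
    · intro h v hv
      have h1 : φ v ∈ (T.toSubmodule.map φ.toLinearEquiv.toLinearMap) := h ⟨v, hv, rfl⟩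
      obtain ⟨w, hw, hwv⟩ := h1
      have : w = v := φ.toLinearEquiv.injective hwv
      exact this ▸ hw
    · rintro h _ ⟨v, hv, rfl⟩
      exact ⟨v, h hv, rfl⟩

theorem isIrreducible_of_equiv {V W : Type*} [AddCommGroup V] [Module ℂ V] [AddCommGroup W] [Module ℂ W]
    {ρ : Representation ℂ G V} {σ : Representation ℂ G W} (φ : ρ.Equiv σ) (h : ρ.IsIrreducible) :
    σ.IsIrreducible :=
  (OrderIso.isSimpleOrder_iff (subrepOrderIso φ)).mp h

/-- Every finite-dimensional complex representation affords a `Cfsg.IsCharacter`. -/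
theorem isCharacter_of_rep {V : Type v} [AddCommGroup V] [Module ℂ V] [FiniteDimensional ℂ V]
    (ρ : Representation ℂ G V) : IsCharacter G ρ.character := by
  let b := Module.finBasis ℂ V
  let e : V ≃ₗ[ℂ] (Fin (Module.finrank ℂ V) → ℂ) := b.equivFun
  exact ⟨Module.finrank ℂ V, transportRep ρ e, (Representation.char_iso (transportEquiv ρ e)).symm⟩

/-- Every finite-dimensional irreducible complex representation affords a `Cfsg.IsIrrCharacter`. -/
theorem isIrrCharacter_of_rep {V : Type v} [AddCommGroup V] [Module ℂ V] [FiniteDimensional ℂ V]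
    (ρ : Representation ℂ G V) (h : ρ.IsIrreducible) : IsIrrCharacter G ρ.character := by
  let b := Module.finBasis ℂ V
  let e : V ≃ₗ[ℂ] (Fin (Module.finrank ℂ V) → ℂ) := b.equivFun
  exact ⟨Module.finrank ℂ V, transportRep ρ e, isIrreducible_of_equiv (transportEquiv ρ e) h,
    (Representation.char_iso (transportEquiv ρ e)).symm⟩

theorem IsIrrCharacter.isCharacter {χ : G → ℂ} (h : IsIrrCharacter G χ) : IsCharacter G χ := by
  obtain ⟨n, ρ, _, hρ⟩ := h
  exact ⟨n, ρ, hρ⟩

theorem IsCharacter.isClassFunction {χ : G → ℂ} (h : IsCharacter G χ) : IsClassFunction G χ := by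
  obtain ⟨n, ρ, rfl⟩ := h
  intro g k
  exact Representation.char_conj ρ g k

theorem IsCharacter.map_one {χ : G → ℂ} (h : IsCharacter G χ) : ∃ n : ℕ, χ 1 = n := by
  obtain ⟨n, ρ, rfl⟩ := h
  exact ⟨n, by simp⟩

end Bridge

end Cfsg.Agent.Lib.Helper81_CharBasic
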