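/-
Chevalley groups (helper81): tools for the centralizer of a root element `x_{s0}(1)` whose root subgroup is not
normalized by `B` (e.g. the highest short root of G₂ in characteristic 2): if `g = b n u` (canonical form)
centralizes `x_{s0}(1)` then the Weyl group element of `n` does not lower `s0`.
-/
import Mathlib
import Cfsg.Agent.Lib.Helper18_ChevCent
import Cfsg.Agent.Lib.Helper81_ChevParCent

set_option autoImplicit false
set_option linter.unusedSectionVars false
set_option linter.unusedVariables false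

namespace Cfsg.Agent.Lib.Helper81_ChevCentShort

open Cfsg Cfsg.Lie Cfsg.Agent.Lib.Helper18_ChevFast Cfsg.Agent.Lib.Helper18_ChevEngine
  Cfsg.Agent.Lib.Helper18_ChevR1 Cfsg.Agent.Lib.Helper18_ChevN Cfsg.Agent.Lib.Helper18_ChevR4
  Cfsg.Agent.Lib.Helper18_ChevSimple Cfsg.Agent.Lib.Helper18_ChevSimple2 Cfsg.Agent.Lib.Helper18_ChevFacts
  Cfsg.Agent.Lib.Helper18_ChevWeyl Cfsg.Agent.Lib.Helper18_ChevDiag Cfsg.Agent.Lib.Helper18_ChevCar
  Cfsg.Agent.Lib.Helper18_ChevTorus Cfsg.Agent.Lib.Helper18_ChevGL Cfsg.Agent.Lib.Helper18_ChevComm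
  Cfsg.Agent.Lib.Helper18_ChevComm2 Cfsg.Agent.Lib.Helper18_MatTri Cfsg.Agent.Lib.Helper18_ChevTri
  Cfsg.Agent.Lib.Helper18_ChevBorel Cfsg.Agent.Lib.Helper18_ChevAdd Cfsg.Agent.Lib.Helper18_ChevUni
  Cfsg.Agent.Lib.Helper18_ChevBN Cfsg.Agent.Lib.Helper18_ChevMono Cfsg.Agent.Lib.Helper18_ChevBNPair
  Cfsg.Agent.Lib.Helper18_ChevSimp Cfsg.Agent.Lib.Helper18_ChevJCerts Cfsg.Agent.Lib.Helper18_ChevLevi
  Cfsg.Agent.Lib.Helper18_ChevBruhat Cfsg.Agent.Lib.Helper18_ChevPar Cfsg.Agent.Lib.Helper18_ChevRootHom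
  Cfsg.Agent.Lib.Helper18_ChevCent Cfsg.Agent.Lib.Helper81_ChevParCent

variable {D : ChevalleyDatum} {Ns : List NData} {F : Type*} [Field F]
variable {wl : List ℤ} {ws : List (List ℤ)} {sc : ℤ} {w : List ℤ} {d : ℕ}

/-! ### Commuting root elements -/

/-- Root elements of two roots with no commutator terms commute. -/
theorem commute_of_commTerms_nil (c : DCert D Ns) (hR2 : R2All D F) (r s : ℕ) (hr : r < D.nroots)
    (hs : s < D.nroots) (hne : s ≠ r) (hneg : s ≠ D.neg r) (hnil : D.commTerms r s = []) (t u : F) :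
    xGL c r t * xGL c s u = xGL c s u * xGL c r t := by
  have h := conj_of_R2 c (hR2 r s hr hs hne hneg) t u
  have hw : D.commWord F r s t u = [] := by
    unfold ChevalleyDatum.commWord
    rw [hnil]
    rfl
  rw [hw, wordGL_nil, mul_one] at h
  have : xGL c r t * ((xGL c r t)⁻¹ * xGL c s u * xGL c r t) = xGL c s u * xGL c r t := by group
  rw [← this, h]

/-! ### The grading by the index-increasing function -/

/-- The grading of the coordinates by the increasing function `gl`. -/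
def gradL (D : ChevalleyDatum) (wl : List ℤ) : D.Idx → ℤ := grIdx D (grRoot D wl)

theorem posUnipotent_le_triL (c : DCert D Ns) (tc : TCert D) (ac : ACert D wl ws sc) :
    D.posUnipotent F ≤ triSubgroup (R := F) (gradL D wl) 1 (by omega) := by
  unfold ChevalleyDatum.posUnipotent
  rw [Subgroup.closure_le]
  rintro g ⟨r, t, hr, hg⟩
  show Raises _ _ _
  rw [hg]
  have h1 : (1 : ℤ) ≤ grRoot D wl r := ac.gl_pos r hr
  exact x_sub_one_raises (isGrading_w c tc wl) r hr.1 1 (le_refl _) h1 t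

theorem borel_le_triL (c : DCert D Ns) (tc : TCert D) (ac : ACert D wl ws sc) :
    D.borelSubgroup F ≤ triSubgroup (R := F) (gradL D wl) 0 (le_refl 0) := by
  unfold ChevalleyDatum.borelSubgroup
  apply sup_le
  · exact le_trans (posUnipotent_le_triL c tc ac) (triSubgroup_mono _ _ (by omega))
  · intro g hg
    obtain ⟨t, _, hgt⟩ := exists_torus_of_mem c tc g hg
    show Raises _ _ _
    intro i j hij
    have hne : i ≠ j := by
      rintro rfl
      omega
    rw [Matrix.sub_apply, Matrix.one_apply_ne hne, sub_zero, hgt]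
    unfold torusMat diagMat
    exact Matrix.diagonal_apply_ne _ hne

/-- A `B`-conjugate of `x_r(t)`, `r` positive, raises the grading `gl` by at least `gl r`. -/
theorem borel_conj_raises (c : DCert D Ns) (tc : TCert D) (ac : ACert D wl ws sc) (b₀ : GL D.Idx F)
    (hb₀ : b₀ ∈ D.borelSubgroup F) (r : ℕ) (hr : D.IsPosRoot r) (t : F) :
    Raises (gradL D wl) (grRoot D wl r)
      (((b₀ * xGL c r t * b₀⁻¹ : GL D.Idx F) : Matrix D.Idx D.Idx F) - 1) := by
  have h1 : (1 : ℤ) ≤ grRoot D wl r := ac.gl_pos r hr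
  have hX : Raises (gradL D wl) (grRoot D wl r) (D.x F r t - 1) :=
    x_sub_one_raises (isGrading_w c tc wl) r hr.1 _ h1 (le_refl _) t
  have hB := raises_zero_of_mem (borel_le_triL c tc ac hb₀)
  have hB' := raises_zero_of_mem (borel_le_triL c tc ac (Subgroup.inv_mem _ hb₀))
  have e : ((b₀ * xGL c r t * b₀⁻¹ : GL D.Idx F) : Matrix D.Idx D.Idx F) - 1 =
      (b₀ : Matrix D.Idx D.Idx F) * (D.x F r t - 1) * ((b₀⁻¹ : GL D.Idx F) : Matrix D.Idx D.Idx F) := by
    rw [Units.val_mul, Units.val_mul, xGL_coe, mul_sub, sub_mul, mul_one, ← Units.val_mul, mul_inv_cancel,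
      Units.val_one]
  rw [e]
  have := (hB.mul hX).mul hB'
  simpa using this

/-! ### The monomial action of `N` on the root vectors -/

/-- An element `n` of `N` acting on the roots by `π` maps `e_r` to a multiple of `e_{π r}`, when some Cartan integer
`A_{p_i, r}` is invertible in the field. -/
theorem mono_col (c : DCert D Ns) (tc : TCert D) (n : GL D.Idx F) (hn : n ∈ D.monomialSubgroup F) {π : ℕ → ℕ}
    (hact : ActsAs c n π) (r : ℕ) (hr : r < D.nroots) (hπr : π r < D.nroots) (i0 : Fin D.rank)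
    (hunit : ((D.cartan i0 r : ℤ) : F) ≠ 0) (row : D.Idx) (hrow : row ≠ Sum.inr ⟨π r, hπr⟩) :
    (n : Matrix D.Idx D.Idx F) row (Sum.inr ⟨r, hr⟩) = 0 := by
  obtain ⟨-, a, ha, ea⟩ := hact r hr
  have hmono := (monomial_le_monoGL c tc hn).1
  have e1 : n * xGL c r 1 = xGL c (π r) (a * 1) * n := by
    rw [← ea 1]
    group
  have e2 : (n : Matrix D.Idx D.Idx F) * D.xMat F ⟨r, hr⟩ 1 =
      D.xMat F ⟨π r, hπr⟩ (a * 1) * (n : Matrix D.Idx D.Idx F) := by
    have := congrArg (fun g : GL D.Idx F => (g : Matrix D.Idx D.Idx F)) e1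
    simp only [Units.val_mul, xGL_coe] at this
    unfold ChevalleyDatum.x at this
    rwa [dif_pos hr, dif_pos hπr] at this
  have e3 := congrFun (congrFun e2 row) (Sum.inl i0)
  rw [Matrix.mul_apply, Matrix.mul_apply, Fintype.sum_sum_type, Fintype.sum_sum_type] at e3
  -- left-hand side
  have hL1 : ∑ i : Fin D.rank, (n : Matrix D.Idx D.Idx F) row (Sum.inl i) *
      D.xMat F ⟨r, hr⟩ 1 (Sum.inl i) (Sum.inl i0) = (n : Matrix D.Idx D.Idx F) row (Sum.inl i0) := by
    rw [Finset.sum_eq_single i0]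
    · rw [xMat_inl_inl, if_pos rfl, mul_one]
    · intro i _ hi
      rw [xMat_inl_inl, if_neg (fun h => hi (Fin.ext h)), mul_zero]
    · intro h
      exact absurd (Finset.mem_univ _) h
  have hL2 : ∑ u : Fin D.nroots, (n : Matrix D.Idx D.Idx F) row (Sum.inr u) *
      D.xMat F ⟨r, hr⟩ 1 (Sum.inr u) (Sum.inl i0) =
      (n : Matrix D.Idx D.Idx F) row (Sum.inr ⟨r, hr⟩) * (-((D.cartan i0 r : ℤ) : F) * 1) := by
    rw [Finset.sum_eq_single ⟨r, hr⟩]
    · rw [xMat_inr_inl, if_pos rfl]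
      rfl
    · intro u _ hu
      rw [xMat_inr_inl, if_neg (fun h => hu (Fin.ext h)), mul_zero]
    · intro h
      exact absurd (Finset.mem_univ _) h
  -- right-hand side
  have hR2 : ∑ u : Fin D.nroots, D.xMat F ⟨π r, hπr⟩ (a * 1) row (Sum.inr u) *
      (n : Matrix D.Idx D.Idx F) (Sum.inr u) (Sum.inl i0) = 0 := by
    apply Finset.sum_eq_zero
    intro u _
    rw [hmono.1 u i0, mul_zero]
  rw [hL1, hL2, hR2, add_zero] at e3
  rcases row with j | u
  · -- a row of the Cartan part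
    have hR1 : ∑ i : Fin D.rank, D.xMat F ⟨π r, hπr⟩ (a * 1) (Sum.inl j) (Sum.inl i) *
        (n : Matrix D.Idx D.Idx F) (Sum.inl i) (Sum.inl i0) = (n : Matrix D.Idx D.Idx F) (Sum.inl j) (Sum.inl i0) := by
      rw [Finset.sum_eq_single j]
      · rw [xMat_inl_inl, if_pos rfl, one_mul]
      · intro i _ hi
        rw [xMat_inl_inl, if_neg (fun h => hi (Fin.ext h).symm), zero_mul]
      · intro h
        exact absurd (Finset.mem_univ _) h
    rw [hR1] at e3
    have h0 : (n : Matrix D.Idx D.Idx F) (Sum.inl j) (Sum.inr ⟨r, hr⟩) * (-((D.cartan i0 r : ℤ) : F) * 1) = 0 := by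
      linear_combination e3
    rcases mul_eq_zero.mp h0 with h | h
    · exact h
    · exfalso
      apply hunit
      rw [mul_one, neg_eq_zero] at h
      exact h
  · -- a row of a root vector other than `π r`
    have hu : u.val ≠ π r := by
      intro h
      apply hrow
      congr 1
      exact Fin.ext h
    have hR1 : ∑ i : Fin D.rank, D.xMat F ⟨π r, hπr⟩ (a * 1) (Sum.inr u) (Sum.inl i) *
        (n : Matrix D.Idx D.Idx F) (Sum.inl i) (Sum.inl i0) = 0 := by
      apply Finset.sum_eq_zero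
      intro i _
      rw [xMat_inr_inl, if_neg hu, zero_mul]
    rw [hR1, hmono.1 u i0, zero_add] at e3
    rcases mul_eq_zero.mp e3 with h | h
    · exact h
    · exfalso
      apply hunit
      rw [mul_one, neg_eq_zero] at h
      exact h

/-! ### The key inequality -/

/-- If `n (u x_{s0}(1) u⁻¹) n⁻¹` is a `B`-conjugate of `x_{s0}(1)` (`u ∈ U`, `n ∈ N` acting on the roots by `π`), then
`π` does not lower `s0`. -/
theorem gl_le_of_conj (c : DCert D Ns) (tc : TCert D) (ac : ACert D wl ws sc) (gc : GCert D w d) (s0 : ℕ)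
    (hs0 : D.IsPosRoot s0) (i0 : Fin D.rank) (hcar : D.cartan i0 s0 = 1) (n : GL D.Idx F)
    (hn : n ∈ D.monomialSubgroup F) {π : ℕ → ℕ} (hact : ActsAs c n π) (hlin : LinMap D π) (u : GL D.Idx F)
    (hu : u ∈ D.posUnipotent F) (b₀ : GL D.Idx F) (hb₀ : b₀ ∈ D.borelSubgroup F)
    (e : n * (u * xGL c s0 1 * u⁻¹) * n⁻¹ = b₀ * xGL c s0 1 * b₀⁻¹) : gl D wl s0 ≤ gl D wl (π s0) := by
  by_contra hlt
  rw [not_le] at hlt
  have hr : D.neg s0 < D.nroots := DCert.neg_lt c s0 hs0.1
  have hπs : π s0 < D.nroots := (hact s0 hs0.1).1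
  have hπr : π (D.neg s0) < D.nroots := (hact _ hr).1
  have hπr_eq : π (D.neg s0) = D.neg (π s0) := hlin.2.1 s0 hs0.1
  have hunit : ((D.cartan i0 (D.neg s0) : ℤ) : F) ≠ 0 := by
    rw [(tc.carCompat c).neg s0 hs0.1 i0 i0.2, hcar]
    simp
  have hmono := (monomial_le_monoGL c tc hn).1
  have e1 : n * (u * xGL c s0 1 * u⁻¹) = (b₀ * xGL c s0 1 * b₀⁻¹) * n := by
    rw [← e]
    group
  have e2 := congrArg (fun g : GL D.Idx F => (g : Matrix D.Idx D.Idx F)) e1
  simp only [Units.val_mul] at e2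
  -- the entries in the column of `e_{-s0}` and the rows of the `h_j`
  have key : ∀ j : Fin D.rank, ∑ i : Fin D.rank, (n : Matrix D.Idx D.Idx F) (Sum.inl j) (Sum.inl i) *
      ((cor D s0 i : ℤ) : F) = 0 := by
    intro j
    have e3 := congrFun (congrFun e2 (Sum.inl j)) (Sum.inr ⟨D.neg s0, hr⟩)
    rw [Matrix.mul_apply, Matrix.mul_apply, Fintype.sum_sum_type, Fintype.sum_sum_type] at e3
    have hL2 : ∑ x : Fin D.nroots, (n : Matrix D.Idx D.Idx F) (Sum.inl j) (Sum.inr x) *
        ((u : Matrix D.Idx D.Idx F) * (xGL c s0 (1 : F) : Matrix D.Idx D.Idx F) *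
          ((u⁻¹ : GL D.Idx F) : Matrix D.Idx D.Idx F)) (Sum.inr x) (Sum.inr ⟨D.neg s0, hr⟩) = 0 := by
      apply Finset.sum_eq_zero
      intro x _
      obtain ⟨s', hs'⟩ := hmono.2 x
      rw [hs' (Sum.inl j) Sum.inl_ne_inr, zero_mul]
    have hL1 : ∀ i : Fin D.rank, ((u : Matrix D.Idx D.Idx F) * (xGL c s0 (1 : F) : Matrix D.Idx D.Idx F) *
          ((u⁻¹ : GL D.Idx F) : Matrix D.Idx D.Idx F)) (Sum.inl i) (Sum.inr ⟨D.neg s0, hr⟩) =
        ((cor D s0 i : ℤ) : F) := by
      intro i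
      have := entry_conj_pos c tc ac gc u hu s0 hs0 hr i (1 : F)
      rw [Units.val_mul, Units.val_mul, mul_one] at this
      exact this
    have hR1 : ∑ x : Fin D.rank, ((b₀ : Matrix D.Idx D.Idx F) * (xGL c s0 (1 : F) : Matrix D.Idx D.Idx F) *
          ((b₀⁻¹ : GL D.Idx F) : Matrix D.Idx D.Idx F)) (Sum.inl j) (Sum.inl x) *
        (n : Matrix D.Idx D.Idx F) (Sum.inl x) (Sum.inr ⟨D.neg s0, hr⟩) = 0 := by
      apply Finset.sum_eq_zero
      intro x _
      rw [mono_col c tc n hn hact _ hr hπr i0 hunit (Sum.inl x) Sum.inl_ne_inr, mul_zero]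
    have hR2 : ∑ x : Fin D.nroots, ((b₀ : Matrix D.Idx D.Idx F) * (xGL c s0 (1 : F) : Matrix D.Idx D.Idx F) *
          ((b₀⁻¹ : GL D.Idx F) : Matrix D.Idx D.Idx F)) (Sum.inl j) (Sum.inr x) *
        (n : Matrix D.Idx D.Idx F) (Sum.inr x) (Sum.inr ⟨D.neg s0, hr⟩) = 0 := by
      apply Finset.sum_eq_zero
      intro x _
      by_cases hx : x = ⟨π (D.neg s0), hπr⟩
      · subst hx
        have hR := borel_conj_raises c tc ac b₀ hb₀ s0 hs0 (1 : F) (Sum.inl j)
          (Sum.inr ⟨π (D.neg s0), hπr⟩) (by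
            show (0 : ℤ) < grRoot D wl (π (D.neg s0)) + grRoot D wl s0
            rw [hπr_eq, grRoot_neg c tc wl _ hπs]
            unfold gl at hlt
            omega)
        rw [Matrix.sub_apply, Matrix.one_apply_ne Sum.inl_ne_inr, sub_zero, Units.val_mul, Units.val_mul] at hR
        rw [hR, zero_mul]
      · rw [mono_col c tc n hn hact _ hr hπr i0 hunit (Sum.inr x) (by
          intro h
          exact hx (Sum.inr_injective h)), mul_zero]
    rw [hL2, hR1, hR2, add_zero, add_zero] at e3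
    rw [← e3]
    apply Finset.sum_congr rfl
    intro i _
    rw [hL1 i]
  -- invert the Cartan block of `n`
  have hinv : ((n⁻¹ : GL D.Idx F) : Matrix D.Idx D.Idx F) * (n : Matrix D.Idx D.Idx F) = 1 := by
    rw [← Units.val_mul, inv_mul_cancel, Units.val_one]
  have hzero : ∀ i' : Fin D.rank, ((cor D s0 i' : ℤ) : F) = 0 := by
    intro i'
    have h1 : ∑ j : Fin D.rank, ((n⁻¹ : GL D.Idx F) : Matrix D.Idx D.Idx F) (Sum.inl i') (Sum.inl j) *
        ∑ i : Fin D.rank, (n : Matrix D.Idx D.Idx F) (Sum.inl j) (Sum.inl i) * ((cor D s0 i : ℤ) : F) = 0 := by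
      apply Finset.sum_eq_zero
      intro j _
      rw [key j, mul_zero]
    have h2 : ∀ i : Fin D.rank, ∑ j : Fin D.rank, ((n⁻¹ : GL D.Idx F) : Matrix D.Idx D.Idx F) (Sum.inl i') (Sum.inl j) *
        (n : Matrix D.Idx D.Idx F) (Sum.inl j) (Sum.inl i) = if i' = i then 1 else 0 := by
      intro i
      have h3 := congrFun (congrFun hinv (Sum.inl i')) (Sum.inl i)
      rw [Matrix.mul_apply, Fintype.sum_sum_type] at h3
      have h4 : ∑ x : Fin D.nroots, ((n⁻¹ : GL D.Idx F) : Matrix D.Idx D.Idx F) (Sum.inl i') (Sum.inr x) *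
          (n : Matrix D.Idx D.Idx F) (Sum.inr x) (Sum.inl i) = 0 := by
        apply Finset.sum_eq_zero
        intro x _
        rw [hmono.1 x i, mul_zero]
      rw [h4, add_zero] at h3
      rw [h3, Matrix.one_apply]
      simp only [Sum.inl.injEq]
    simp only [Finset.mul_sum] at h1
    rw [Finset.sum_comm] at h1
    have h5 : ∀ i : Fin D.rank, ∑ j : Fin D.rank, ((n⁻¹ : GL D.Idx F) : Matrix D.Idx D.Idx F) (Sum.inl i') (Sum.inl j) *
        ((n : Matrix D.Idx D.Idx F) (Sum.inl j) (Sum.inl i) * ((cor D s0 i : ℤ) : F)) =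
        (if i' = i then 1 else 0) * ((cor D s0 i : ℤ) : F) := by
      intro i
      rw [← h2 i, Finset.sum_mul]
      apply Finset.sum_congr rfl
      intro j _
      ring
    rw [Finset.sum_congr rfl (fun i _ => h5 i)] at h1
    simpa using h1
  have : (1 : F) = 0 := by
    apply eq_zero_of_cor_mul ac s0 hs0.1
    intro i hi
    rw [mul_one]
    exact hzero ⟨i, hi⟩
  exact one_ne_zero this

/-! ### The centralizer lies in the parabolic subgroup -/

variable {s0 i0 : ℕ} {m : ℤ} {negJ : List ℕ} {inv : List ℕ}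

/-- An element of the group that centralizes `x_{s0}(1)` lies in `Q H`, `Q` generated by `U` and the root subgroups of
`negJ` (no commutation hypothesis: the multiple `m` of the certificate plays no role). -/
theorem mem_q_sup_diagonal (c : DCert D Ns) (tc : TCert D) (ac : ACert D wl ws sc) (gc : GCert D w d)
    (hdesc : Descent D) (hR2 : R2All D F) (hc : CentCert D s0 i0 m negJ inv) (g : GL D.Idx F)
    (hgG : g ∈ D.group F) (hgt : xGL c s0 1 * g = g * xGL c s0 1) :
    g ∈ Subgroup.closure (qGens D F negJ) ⊔ D.diagonalSubgroup F := by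
  have hs0 := hc.1.1
  have hi0 := hc.1.2.1
  have hpos := hc.1.2.2.1
  have hcar := hc.1.2.2.2.1
  obtain ⟨b, hb, n, hn, u, hu, rfl⟩ := canonical_exists c tc ac gc hdesc hR2 g hgG
  have huU : u ∈ D.posUnipotent F := flipGens_le_pos n hu
  have huQ : u ∈ Subgroup.closure (qGens D F negJ) := by
    rw [closure_qGens_eq]
    exact Subgroup.mem_sup_left huU
  obtain ⟨π, hact, hlin⟩ := nAct_of_mem_monomial c tc n hn
  have hπs : π s0 < D.nroots := (hact s0 hs0).1
  have e : n * (u * xGL c s0 1 * u⁻¹) * n⁻¹ = b⁻¹ * xGL c s0 1 * b⁻¹⁻¹ := by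
    have h1 : n * (u * xGL c s0 1 * u⁻¹) * n⁻¹ = b⁻¹ * ((b * n * u) * xGL c s0 1) * u⁻¹ * n⁻¹ := by group
    rw [h1, ← hgt]
    group
  have hle := gl_le_of_conj c tc ac gc s0 hpos ⟨i0, hi0⟩ (by rw [hcar i0 hi0, if_pos rfl]) n hn hact hlin u huU
    b⁻¹ (Subgroup.inv_mem _ hb) e
  have hinv' : inv.getD (π s0) 0 = inv.getD s0 0 := inv_actsAs c tc ac hc n hn hact s0 hs0
  have hmax : π s0 ≤ s0 := hc.2.2.2.2 _ hπs hinv'
  have hfix : π s0 = s0 := by
    apply gl_inj ac _ _ hπs hs0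
    have := ac.gl_mono (π s0) s0 hmax hs0
    omega
  have hnQ := stab_mem c tc ac gc hdesc hR2 hc _ n hn π hact hlin hfix rfl
  have hbQ : b ∈ D.diagonalSubgroup F ⊔ Subgroup.closure (qGens D F negJ) := by
    have : D.borelSubgroup F ≤ D.diagonalSubgroup F ⊔ Subgroup.closure (qGens D F negJ) := by
      unfold ChevalleyDatum.borelSubgroup
      rw [sup_le_iff]
      refine ⟨?_, le_sup_left⟩
      rw [closure_qGens_eq]
      exact le_trans le_sup_left le_sup_right
    exact this hb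
  rw [sup_comm]
  exact Subgroup.mul_mem _ (Subgroup.mul_mem _ hbQ hnQ) (Subgroup.mem_sup_right huQ)

end Cfsg.Agent.Lib.Helper81_ChevCentShort
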