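/-
The Chevalley group of type G₂ in characteristic 2 (helper81): centralizers of the long root element `x_{3a+2b}(1)`
and of the short root element `x_{2a+b}(1)`.
Root numbering: 5 = -b, 6 = b, 7 = a, 8 = a+b, 9 = 2a+b, 10 = 3a+b, 11 = 3a+2b, 4 = -a.
-/
import Mathlib
import Cfsg.Agent.Lib.Helper81_ChevCentShort
import Cfsg.Agent.Lib.Helper18_ChevData5
import Cfsg.Prelude.Def_ChevG2

set_option autoImplicit false
set_option linter.unusedSectionVars false
set_option linter.unusedVariables false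

namespace Cfsg.Agent.Lib.Helper81_ChevCentG2

open Cfsg Cfsg.Lie Cfsg.Agent.Lib.Helper18_ChevFast Cfsg.Agent.Lib.Helper18_ChevEngine
  Cfsg.Agent.Lib.Helper18_ChevR1 Cfsg.Agent.Lib.Helper18_ChevN Cfsg.Agent.Lib.Helper18_ChevR4
  Cfsg.Agent.Lib.Helper18_ChevSimple Cfsg.Agent.Lib.Helper18_ChevSimple2 Cfsg.Agent.Lib.Helper18_ChevFacts
  Cfsg.Agent.Lib.Helper18_ChevWeyl Cfsg.Agent.Lib.Helper18_ChevDiag Cfsg.Agent.Lib.Helper18_ChevCar
  Cfsg.Agent.Lib.Helper18_ChevTorus Cfsg.Agent.Lib.Helper18_ChevGL Cfsg.Agent.Lib.Helper18_ChevComm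
  Cfsg.Agent.Lib.Helper18_ChevComm2 Cfsg.Agent.Lib.Helper18_MatTri Cfsg.Agent.Lib.Helper18_ChevTri
  Cfsg.Agent.Lib.Helper18_ChevBorel Cfsg.Agent.Lib.Helper18_ChevAdd Cfsg.Agent.Lib.Helper18_ChevUni
  Cfsg.Agent.Lib.Helper18_ChevBN Cfsg.Agent.Lib.Helper18_ChevMono Cfsg.Agent.Lib.Helper18_ChevBNPair
  Cfsg.Agent.Lib.Helper18_ChevSimp Cfsg.Agent.Lib.Helper18_ChevJCerts Cfsg.Agent.Lib.Helper18_ChevLevi
  Cfsg.Agent.Lib.Helper18_ChevBruhat Cfsg.Agent.Lib.Helper18_ChevPar Cfsg.Agent.Lib.Helper18_ChevRootHom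
  Cfsg.Agent.Lib.Helper18_ChevCent Cfsg.Agent.Lib.Helper81_ChevParCent Cfsg.Agent.Lib.Helper81_ChevCentShort

/-! ### Certificates -/

/-- The long roots of G₂. -/
def invG2 : List ℕ := [1, 1, 0, 0, 0, 1, 1, 0, 0, 0, 1, 1]

set_option maxHeartbeats 0 in
set_option maxRecDepth 100000 in
theorem centCertG2Long : CentCert chevG2 11 1 0 [4] [] := by
  decide +kernel

set_option maxHeartbeats 0 in
set_option maxRecDepth 100000 in
theorem centCertG2Short : CentCert chevG2 9 0 3 [5] invG2 := by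
  decide +kernel

/-- The roots of the unipotent radical of the parabolic subgroup of `b`. -/
def LJ : List ℕ := [7, 8, 9, 10, 11]

set_option maxHeartbeats 0 in
theorem closedList_LJ : ClosedList chevG2 LJ where
  sorted := by decide +kernel
  lt := by decide +kernel
  ne_neg := by decide +kernel
  closed := by decide +kernel

set_option maxHeartbeats 0 in
theorem comm_LJ : ∀ r ∈ [5, 6], r < chevG2.nroots ∧ ∀ s ∈ LJ, s < chevG2.nroots ∧ s ≠ r ∧ s ≠ chevG2.neg r ∧
    ∀ k ∈ chevG2.commTerms r s, k.1 ∈ LJ := by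
  decide +kernel

set_option maxHeartbeats 0 in
theorem comm_nine : ∀ r ∈ [5, 6, 10, 11], r < chevG2.nroots ∧ 9 ≠ r ∧ 9 ≠ chevG2.neg r ∧
    chevG2.commTerms r 9 = [] := by
  decide +kernel

set_option maxHeartbeats 0 in
theorem comm_seven_eleven : chevG2.commTerms 7 11 = [] ∧ chevG2.commTerms 7 9 = [(10, 3, 1, 1)] ∧
    chevG2.commTerms 8 9 = [(11, 3, 1, 1)] := by
  decide +kernel

set_option maxHeartbeats 0 in
theorem pos_iff_G2 : ∀ r, chevG2.IsPosRoot r → r = 6 ∨ r ∈ LJ := by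
  intro r hr
  have h1 : r < 12 := hr.1
  have : ∀ r < 12, chevG2.IsPosRoot r → r = 6 ∨ r ∈ LJ := by decide +kernel
  exact this r h1 hr

variable {Ns : List NData} {F : Type*} [Field F]
variable {wl : List ℤ} {ws : List (List ℤ)} {sc : ℤ} {w : List ℤ} {d : ℕ}

/-! ### The subgroups `U_J` and `K` -/

/-- The unipotent radical of the parabolic subgroup of `b`. -/
def UJ (F : Type*) [Field F] : Subgroup (GL chevG2.Idx F) := Subgroup.closure (listGens chevG2 F LJ)

/-- The subgroup generated by `X_b` and `X_{-b}`. -/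
def KJ (F : Type*) [Field F] : Subgroup (GL chevG2.Idx F) := chevG2.rootSubgroup F 6 ⊔ chevG2.rootSubgroup F 5

/-- `X_9 X_10 X_11`. -/
def R3 (F : Type*) [Field F] : Subgroup (GL chevG2.Idx F) :=
  chevG2.rootSubgroup F 9 ⊔ chevG2.rootSubgroup F 10 ⊔ chevG2.rootSubgroup F 11

theorem xGL_mem_normalizer_UJ (c : DCert chevG2 Ns) (hR2 : R2All chevG2 F) (r : ℕ) (hr : r ∈ [5, 6]) (t : F) :
    xGL c r t ∈ Subgroup.normalizer (UJ F : Set (GL chevG2.Idx F)) := by
  obtain ⟨hrlt, hall⟩ := comm_LJ r hr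
  have key : ∀ (t : F), ∀ y ∈ listGens chevG2 F LJ,
      (xGL c r t)⁻¹ * y * xGL c r t ∈ Subgroup.closure (listGens chevG2 F LJ) := by
    intro t y hy
    obtain ⟨s, hs, u, hy⟩ := hy
    rw [eq_xGL c hy]
    obtain ⟨hslt, hne, hneg, hcl⟩ := hall s hs
    apply conj_mem_of_R2 c (hR2 r s hrlt hslt hne hneg)
    · intro u'
      exact Subgroup.subset_closure ⟨s, hs, u', rfl⟩
    · intro k hk a
      exact Subgroup.subset_closure ⟨k.1, hcl k hk, a, rfl⟩
  unfold UJ
  apply mem_normalizer_closure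
  · intro y hy
    have := key (-t) y hy
    rwa [← xGL_inv, inv_inv] at this
  · intro y hy
    exact key t y hy

theorem KJ_le_normalizer (c : DCert chevG2 Ns) (hR2 : R2All chevG2 F) :
    KJ F ≤ Subgroup.normalizer (UJ F : Set (GL chevG2.Idx F)) := by
  unfold KJ
  apply sup_le
  · unfold ChevalleyDatum.rootSubgroup
    rw [Subgroup.closure_le]
    rintro g ⟨t, hg⟩
    rw [eq_xGL c hg]
    exact xGL_mem_normalizer_UJ c hR2 6 (by simp) t
  · unfold ChevalleyDatum.rootSubgroup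
    rw [Subgroup.closure_le]
    rintro g ⟨t, hg⟩
    rw [eq_xGL c hg]
    exact xGL_mem_normalizer_UJ c hR2 5 (by simp) t

theorem q_le : Subgroup.closure (qGens chevG2 F [5]) ≤ UJ F ⊔ KJ F := by
  rw [Subgroup.closure_le]
  rintro g ⟨r, a, hr, hg⟩
  rcases hr with hr | hr
  · rcases pos_iff_G2 r hr with rfl | hL
    · exact Subgroup.mem_sup_right (Subgroup.mem_sup_left (Subgroup.subset_closure ⟨a, hg⟩))
    · exact Subgroup.mem_sup_left (Subgroup.subset_closure ⟨r, hL, a, hg⟩)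
  · rw [List.mem_singleton] at hr
    subst hr
    exact Subgroup.mem_sup_right (Subgroup.mem_sup_right (Subgroup.subset_closure ⟨a, hg⟩))

theorem rootSubgroup_commute (c : DCert chevG2 Ns) (hR2 : R2All chevG2 F) (r : ℕ) (hr : r ∈ [5, 6, 10, 11])
    (χ : F) (k : GL chevG2.Idx F) (hk : k ∈ chevG2.rootSubgroup F r) : k * xGL c 9 χ = xGL c 9 χ * k := by
  obtain ⟨t, rfl⟩ := (mem_rootSubgroup_iff c r k).mp hk
  obtain ⟨hrlt, hne, hneg, hnil⟩ := comm_nine r hr
  exact commute_of_commTerms_nil c hR2 r 9 hrlt (by decide) hne hneg hnil t χ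

theorem KJ_commute (c : DCert chevG2 Ns) (hR2 : R2All chevG2 F) (χ : F) (k : GL chevG2.Idx F) (hk : k ∈ KJ F) :
    k * xGL c 9 χ = xGL c 9 χ * k := by
  have hle : KJ F ≤ Subgroup.centralizer {xGL c 9 χ} := by
    unfold KJ
    apply sup_le
    · intro k hk
      rw [Subgroup.mem_centralizer_iff]
      intro y hy
      rw [Set.mem_singleton_iff] at hy
      subst hy
      exact (rootSubgroup_commute c hR2 6 (by simp) χ k hk).symm
    · intro k hk
      rw [Subgroup.mem_centralizer_iff]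
      intro y hy
      rw [Set.mem_singleton_iff] at hy
      subst hy
      exact (rootSubgroup_commute c hR2 5 (by simp) χ k hk).symm
  exact ((Subgroup.mem_centralizer_iff.mp (hle hk)) _ rfl).symm

theorem three_eq_one [CharP F 2] : (((3 : ℤ) : ℤ) : F) = 1 := by
  have h2 : ((2 : ℕ) : F) = 0 := CharP.cast_eq_zero F 2
  have : ((3 : ℤ) : F) = ((2 : ℕ) : F) + 1 := by push_cast; norm_num
  rw [this, h2, zero_add]

/-- An element of `U_J` that conjugates `x_9(χ)` to `x_9(1)` lies in `X_9 X_10 X_11`, and `χ = 1`. -/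
theorem UJ_conj [CharP F 2] (c : DCert chevG2 Ns) (tc : TCert chevG2) (ac : ACert chevG2 wl ws sc)
    (hR2 : R2All chevG2 F) (v : GL chevG2.Idx F) (hv : v ∈ UJ F) (χ : F)
    (h : v * xGL c 9 χ * v⁻¹ = xGL c 9 1) : χ = 1 ∧ v ∈ R3 F := by
  obtain ⟨s, rfl⟩ := exists_word_of_closed c hR2 LJ closedList_LJ v hv
  simp only [LJ, List.map_cons, List.map_nil, wordGL_cons, wordGL_nil, mul_one] at h ⊢
  -- the commutation relations
  have h99 : xGL c 9 (s 9) * xGL c 9 χ = xGL c 9 χ * xGL c 9 (s 9) := by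
    rw [xGL_mul, xGL_mul, add_comm]
  have h109 : xGL c 10 (s 10) * xGL c 9 χ = xGL c 9 χ * xGL c 10 (s 10) :=
    rootSubgroup_commute c hR2 10 (by simp) χ _ ((mem_rootSubgroup_iff c 10 _).mpr ⟨_, rfl⟩)
  have h119 : xGL c 11 (s 11) * xGL c 9 χ = xGL c 9 χ * xGL c 11 (s 11) :=
    rootSubgroup_commute c hR2 11 (by simp) χ _ ((mem_rootSubgroup_iff c 11 _).mpr ⟨_, rfl⟩)
  have h89 : xGL c 8 (s 8) * xGL c 9 χ * (xGL c 8 (s 8))⁻¹ = xGL c 9 χ * xGL c 11 (s 8 * χ) := by
    have h1 := conj_of_R2 c (hR2 8 9 (by decide) (by decide) (by decide) (by decide)) (-(s 8)) χ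
    have hw : chevG2.commWord F 8 9 (-(s 8)) χ = [(11, s 8 * χ)] := by
      unfold ChevalleyDatum.commWord
      rw [comm_seven_eleven.2.2]
      simp only [List.map_cons, List.map_nil, neg_neg, pow_one]
      rw [three_eq_one, one_mul]
    rw [hw, wordGL_cons, wordGL_nil, mul_one, xGL_inv, neg_neg] at h1
    rw [xGL_inv]
    exact h1
  have h79 : xGL c 7 (s 7) * xGL c 9 χ * (xGL c 7 (s 7))⁻¹ = xGL c 9 χ * xGL c 10 (s 7 * χ) := by
    have h1 := conj_of_R2 c (hR2 7 9 (by decide) (by decide) (by decide) (by decide)) (-(s 7)) χ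
    have hw : chevG2.commWord F 7 9 (-(s 7)) χ = [(10, s 7 * χ)] := by
      unfold ChevalleyDatum.commWord
      rw [comm_seven_eleven.2.1]
      simp only [List.map_cons, List.map_nil, neg_neg, pow_one]
      rw [three_eq_one, one_mul]
    rw [hw, wordGL_cons, wordGL_nil, mul_one, xGL_inv, neg_neg] at h1
    rw [xGL_inv]
    exact h1
  have h711 : ∀ β : F, xGL c 7 (s 7) * xGL c 11 β = xGL c 11 β * xGL c 7 (s 7) := fun β =>
    commute_of_commTerms_nil c hR2 7 11 (by decide) (by decide) (by decide) (by decide) comm_seven_eleven.1 _ _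
  -- the conjugate
  have e : xGL c 7 (s 7) * (xGL c 8 (s 8) * (xGL c 9 (s 9) * (xGL c 10 (s 10) * xGL c 11 (s 11)))) * xGL c 9 χ *
      (xGL c 7 (s 7) * (xGL c 8 (s 8) * (xGL c 9 (s 9) * (xGL c 10 (s 10) * xGL c 11 (s 11)))))⁻¹ =
      xGL c 9 χ * xGL c 10 (s 7 * χ) * xGL c 11 (s 8 * χ) := by
    have e1 : xGL c 9 (s 9) * (xGL c 10 (s 10) * xGL c 11 (s 11)) * xGL c 9 χ =
        xGL c 9 χ * (xGL c 9 (s 9) * (xGL c 10 (s 10) * xGL c 11 (s 11))) := by
      calc xGL c 9 (s 9) * (xGL c 10 (s 10) * xGL c 11 (s 11)) * xGL c 9 χ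
          = xGL c 9 (s 9) * (xGL c 10 (s 10) * (xGL c 11 (s 11) * xGL c 9 χ)) := by group
        _ = xGL c 9 (s 9) * ((xGL c 10 (s 10) * xGL c 9 χ) * xGL c 11 (s 11)) := by rw [h119]; group
        _ = (xGL c 9 (s 9) * xGL c 9 χ) * (xGL c 10 (s 10) * xGL c 11 (s 11)) := by rw [h109]; group
        _ = xGL c 9 χ * (xGL c 9 (s 9) * (xGL c 10 (s 10) * xGL c 11 (s 11))) := by rw [h99]; group
    calc xGL c 7 (s 7) * (xGL c 8 (s 8) * (xGL c 9 (s 9) * (xGL c 10 (s 10) * xGL c 11 (s 11)))) * xGL c 9 χ *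
          (xGL c 7 (s 7) * (xGL c 8 (s 8) * (xGL c 9 (s 9) * (xGL c 10 (s 10) * xGL c 11 (s 11)))))⁻¹
        = xGL c 7 (s 7) * (xGL c 8 (s 8) * (xGL c 9 (s 9) * (xGL c 10 (s 10) * xGL c 11 (s 11)) * xGL c 9 χ) *
            (xGL c 9 (s 9) * (xGL c 10 (s 10) * xGL c 11 (s 11)))⁻¹ * (xGL c 8 (s 8))⁻¹) *
            (xGL c 7 (s 7))⁻¹ := by group
      _ = xGL c 7 (s 7) * (xGL c 8 (s 8) * xGL c 9 χ * (xGL c 8 (s 8))⁻¹) * (xGL c 7 (s 7))⁻¹ := by
          rw [e1]; group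
      _ = (xGL c 7 (s 7) * xGL c 9 χ * (xGL c 7 (s 7))⁻¹) *
            (xGL c 7 (s 7) * xGL c 11 (s 8 * χ)) * (xGL c 7 (s 7))⁻¹ := by rw [h89]; group
      _ = xGL c 9 χ * xGL c 10 (s 7 * χ) * xGL c 11 (s 8 * χ) := by rw [h79, h711]; group
  rw [e] at h
  -- uniqueness of the parameters
  have hu := unique_word c tc ac [9, 10, 11] (by decide) (by decide +kernel)
    (fun r => if r = 9 then χ else if r = 10 then s 7 * χ else s 8 * χ) (fun r => if r = 9 then 1 else 0) (by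
      rw [← wordGL_coe c, ← wordGL_coe c]
      refine congrArg (fun g : GL chevG2.Idx F => (g : Matrix chevG2.Idx chevG2.Idx F)) ?_
      simp only [List.map_cons, List.map_nil, wordGL_cons, wordGL_nil, mul_one]
      norm_num [xGL_zero]
      rw [← mul_assoc]
      exact h)
  have h9 := hu 9 (by simp)
  have h10 := hu 10 (by simp)
  have h11 := hu 11 (by simp)
  norm_num at h9 h10 h11
  subst h9
  have h10' : s 7 = 0 := h10.resolve_right one_ne_zero
  have h11' : s 8 = 0 := h11.resolve_right one_ne_zero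
  refine ⟨rfl, ?_⟩
  rw [h10', h11', xGL_zero, xGL_zero, one_mul, one_mul]
  unfold R3
  apply Subgroup.mul_mem
  · exact Subgroup.mem_sup_left (Subgroup.mem_sup_left ((mem_rootSubgroup_iff c 9 _).mpr ⟨_, rfl⟩))
  · apply Subgroup.mul_mem
    · exact Subgroup.mem_sup_left (Subgroup.mem_sup_right ((mem_rootSubgroup_iff c 10 _).mpr ⟨_, rfl⟩))
    · exact Subgroup.mem_sup_right ((mem_rootSubgroup_iff c 11 _).mpr ⟨_, rfl⟩)

theorem rootSubgroup_le_cent (c : DCert chevG2 Ns) (hR2 : R2All chevG2 F) (r : ℕ) (hr : r ∈ [5, 6, 10, 11]) :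
    chevG2.rootSubgroup F r ≤ chevG2.group F ⊓ Subgroup.centralizer {xGL c 9 (1 : F)} := by
  intro k hk
  rw [Subgroup.mem_inf]
  constructor
  · obtain ⟨t, rfl⟩ := (mem_rootSubgroup_iff c r k).mp hk
    exact xGL_mem_group c r t
  · rw [Subgroup.mem_centralizer_iff]
    intro y hy
    rw [Set.mem_singleton_iff] at hy
    subst hy
    exact (rootSubgroup_commute c hR2 r hr 1 k hk).symm

theorem rootSubgroup_nine_le_cent (c : DCert chevG2 Ns) :
    chevG2.rootSubgroup F 9 ≤ chevG2.group F ⊓ Subgroup.centralizer {xGL c 9 (1 : F)} := by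
  intro k hk
  rw [Subgroup.mem_inf]
  obtain ⟨t, rfl⟩ := (mem_rootSubgroup_iff c 9 k).mp hk
  constructor
  · exact xGL_mem_group c 9 t
  · rw [Subgroup.mem_centralizer_iff]
    intro y hy
    rw [Set.mem_singleton_iff] at hy
    subst hy
    rw [xGL_mul, xGL_mul, add_comm]

/-- The centralizer of the short root element `x_{2a+b}(1)` of `G₂(F)`, `F` of characteristic 2. -/
theorem centralizer_short [CharP F 2] (c : DCert chevG2 Ns) (tc : TCert chevG2) (ac : ACert chevG2 wl ws sc)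
    (gc : GCert chevG2 w d) (hdesc : Descent chevG2) (hR2 : R2All chevG2 F)
    (t : GL chevG2.Idx F) (ht : (t : Matrix chevG2.Idx chevG2.Idx F) = chevG2.x F 9 1) :
    chevG2.group F ⊓ Subgroup.centralizer {t} =
      chevG2.rootSubgroup F 9 ⊔ chevG2.rootSubgroup F 10 ⊔ chevG2.rootSubgroup F 11 ⊔
        chevG2.rootSubgroup F 6 ⊔ chevG2.rootSubgroup F 5 := by
  have htx := eq_xGL c ht
  subst htx
  apply le_antisymm
  · intro g hg
    rw [Subgroup.mem_inf] at hg
    obtain ⟨hgG, hgC⟩ := hg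
    rw [Subgroup.mem_centralizer_iff] at hgC
    have hgt : xGL c 9 1 * g = g * xGL c 9 1 := hgC _ rfl
    have h1 := mem_q_sup_diagonal c tc ac gc hdesc hR2 centCertG2Short g hgG hgt
    obtain ⟨q, hq, h, hh, rfl⟩ :=
      exists_mul_of_mem_sup _ _ (diagonal_le_normalizer_q c tc centCertG2Short) h1
    obtain ⟨v, hv, k, hk, rfl⟩ := exists_mul_of_mem_sup (UJ F) (KJ F) (KJ_le_normalizer c hR2) (q_le hq)
    obtain ⟨b, hb⟩ := diagonal_conj_xGL c tc h hh 9 (by decide) (1 : F)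
    have e1 : v * xGL c 9 b * v⁻¹ = xGL c 9 1 := by
      have hk9 := KJ_commute c hR2 b k hk
      calc v * xGL c 9 b * v⁻¹ = v * (k * xGL c 9 b) * k⁻¹ * v⁻¹ := by rw [hk9]; group
        _ = (v * k * h) * xGL c 9 1 * (v * k * h)⁻¹ := by rw [← hb]; group
        _ = xGL c 9 1 := by rw [← hgt]; group
    obtain ⟨hb1, -⟩ := UJ_conj c tc ac hR2 v hv b e1
    subst hb1
    have hcomm : h * xGL c 9 1 = xGL c 9 1 * h := mul_inv_eq_iff_eq_mul.mp hb
    have hhq := diagonal_mem_q c tc ac centCertG2Short h hh hcomm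
    have hgq : v * k * h ∈ Subgroup.closure (qGens chevG2 F [5]) := Subgroup.mul_mem _ hq hhq
    obtain ⟨v', hv', k', hk', e2⟩ :=
      exists_mul_of_mem_sup (UJ F) (KJ F) (KJ_le_normalizer c hR2) (q_le hgq)
    rw [e2] at hgt ⊢
    have e3 : v' * xGL c 9 1 * v'⁻¹ = xGL c 9 1 := by
      have hk9 := KJ_commute c hR2 1 k' hk'
      calc v' * xGL c 9 1 * v'⁻¹ = v' * (k' * xGL c 9 1) * k'⁻¹ * v'⁻¹ := by rw [hk9]; group
        _ = xGL c 9 1 := by rw [← mul_assoc, ← hgt]; group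
    obtain ⟨-, hvR⟩ := UJ_conj c tc ac hR2 v' hv' 1 e3
    have : v' * k' ∈ R3 F ⊔ KJ F :=
      Subgroup.mul_mem _ (Subgroup.mem_sup_left hvR) (Subgroup.mem_sup_right hk')
    unfold R3 KJ at this
    rwa [← sup_assoc] at this
  · apply sup_le
    · apply sup_le
      · apply sup_le
        · apply sup_le
          · exact rootSubgroup_nine_le_cent c
          · exact rootSubgroup_le_cent c hR2 10 (by simp)
        · exact rootSubgroup_le_cent c hR2 11 (by simp)
      · exact rootSubgroup_le_cent c hR2 6 (by simp)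
    · exact rootSubgroup_le_cent c hR2 5 (by simp)

/-- The centralizer of the long root element `x_{3a+2b}(1)` of `G₂(F)`, `F` of characteristic 2. -/
theorem centralizer_long (c : DCert chevG2 Ns) (tc : TCert chevG2) (ac : ACert chevG2 wl ws sc)
    (gc : GCert chevG2 w d) (hdesc : Descent chevG2) (hR2 : R2All chevG2 F)
    (z : GL chevG2.Idx F) (hz : (z : Matrix chevG2.Idx chevG2.Idx F) = chevG2.x F 11 1) :
    chevG2.group F ⊓ Subgroup.centralizer {z} = chevG2.posUnipotent F ⊔ chevG2.rootSubgroup F 4 := by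
  have h := centralizer_eq c tc ac gc hdesc hR2 centCertG2Long Int.cast_zero z hz
  rw [h, closure_qGens_eq]
  congr 1
  unfold ChevalleyDatum.rootSubgroup
  congr 1
  ext g
  simp only [List.mem_singleton, Set.mem_ofPred_eq, exists_eq_left]

end Cfsg.Agent.Lib.Helper81_ChevCentG2
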