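/-
Chevalley groups (helper81): tools for the centralizer of a product `x_α(1) x_β(1)` of two commuting root elements
(characteristic dividing the relevant structure constants), e.g. the mixed involutions of `F₄(2ⁿ)`.

* functions of pairs of roots invariant under the Weyl group (`PairInv`);
* the transport of the `h`-part of the column of `e_{-α}` under `N` (`transport_zero`);
* the entries of the products of root elements of a list of roots of high level (`ListLevel`);
* the certificate `PairCert` and the theorem `mem_q_sup_diagonal_pair`: the centralizer of `x_α(1) x_β(1)` lies in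
  `Q_J H`.
-/
import Mathlib
import Cfsg.Agent.Lib.Helper18_ChevCent
import Cfsg.Agent.Lib.Helper81_ChevCentShort

set_option autoImplicit false
set_option linter.unusedSectionVars false
set_option linter.unusedVariables false

namespace Cfsg.Agent.Lib.Helper81_ChevPair

open Cfsg Cfsg.Lie Cfsg.Agent.Lib.Helper18_ChevFast Cfsg.Agent.Lib.Helper18_ChevEngine
  Cfsg.Agent.Lib.Helper18_ChevR1 Cfsg.Agent.Lib.Helper18_ChevN Cfsg.Agent.Lib.Helper18_ChevR4
  Cfsg.Agent.Lib.Helper18_ChevSimple Cfsg.Agent.Lib.Helper18_ChevSimple2 Cfsg.Agent.Lib.Helper18_ChevFacts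
  Cfsg.Agent.Lib.Helper18_ChevWeyl Cfsg.Agent.Lib.Helper18_ChevDiag Cfsg.Agent.Lib.Helper18_ChevCar
  Cfsg.Agent.Lib.Helper18_ChevTorus Cfsg.Agent.Lib.Helper18_ChevGL Cfsg.Agent.Lib.Helper18_ChevComm
  Cfsg.Agent.Lib.Helper18_ChevComm2 Cfsg.Agent.Lib.Helper18_MatTri Cfsg.Agent.Lib.Helper18_ChevTri
  Cfsg.Agent.Lib.Helper18_ChevBorel Cfsg.Agent.Lib.Helper18_ChevAdd Cfsg.Agent.Lib.Helper18_ChevUni
  Cfsg.Agent.Lib.Helper18_ChevBN Cfsg.Agent.Lib.Helper18_ChevMono Cfsg.Agent.Lib.Helper18_ChevBNPair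
  Cfsg.Agent.Lib.Helper18_ChevSimp Cfsg.Agent.Lib.Helper18_ChevJCerts Cfsg.Agent.Lib.Helper18_ChevLevi
  Cfsg.Agent.Lib.Helper18_ChevBruhat Cfsg.Agent.Lib.Helper18_ChevPar Cfsg.Agent.Lib.Helper18_ChevRootHom
  Cfsg.Agent.Lib.Helper18_ChevCent Cfsg.Agent.Lib.Helper81_ChevParCent Cfsg.Agent.Lib.Helper81_ChevCentShort

variable {D : ChevalleyDatum} {Ns : List NData} {F : Type*} [Field F]
variable {wl : List ℤ} {ws : List (List ℤ)} {sc : ℤ} {w : List ℤ} {d : ℕ}

/-! ### Functions of pairs of roots invariant under the Weyl group -/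

/-- A function of the pairs of roots invariant under the simultaneous fundamental reflections. -/
def PairInv (D : ChevalleyDatum) (f : ℕ → ℕ → ℤ) : Prop :=
  ∀ i < D.rank, ∀ r < D.nroots, ∀ s < D.nroots, f (D.reflectRoot i r) (D.reflectRoot i s) = f r s

instance (D : ChevalleyDatum) (f : ℕ → ℕ → ℤ) : Decidable (PairInv D f) := by
  unfold PairInv
  infer_instance

theorem pairInv_weyl {f : ℕ → ℕ → ℤ} (hf : PairInv D f) (σ : Equiv.Perm (Fin D.nroots)) (hσ : σ ∈ weylPerm D) :
    ∀ r s : Fin D.nroots, f ((σ r : Fin D.nroots) : ℕ) ((σ s : Fin D.nroots) : ℕ) = f (r : ℕ) (s : ℕ) := by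
  unfold weylPerm at hσ
  induction hσ using Subgroup.closure_induction with
  | mem x hx =>
    intro r s
    obtain ⟨i, hi, hx⟩ := hx
    rw [hx r, hx s]
    exact hf i hi r r.2 s s.2
  | one => intro r s; rfl
  | mul x y _ _ ihx ihy =>
    intro r s
    show f ((x (y r) : Fin D.nroots) : ℕ) ((x (y s) : Fin D.nroots) : ℕ) = _
    rw [ihx, ihy]
  | inv x _ ih =>
    intro r s
    have := ih (x⁻¹ r) (x⁻¹ s)
    have e : x (x⁻¹ r) = r := Equiv.apply_symm_apply x r
    have e' : x (x⁻¹ s) = s := Equiv.apply_symm_apply x s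
    rw [e, e'] at this
    exact this.symm

theorem pairInv_actsAs (c : DCert D Ns) (tc : TCert D) (ac : ACert D wl ws sc) {f : ℕ → ℕ → ℤ} (hf : PairInv D f)
    (n : GL D.Idx F) (hn : n ∈ D.monomialSubgroup F) {π : ℕ → ℕ} (hact : ActsAs c n π) (r s : ℕ)
    (hr : r < D.nroots) (hs : s < D.nroots) : f (π r) (π s) = f r s := by
  have hσ : rootHom (F := F) c tc ac ⟨n, hn⟩ ∈ weylPerm D := by
    rw [← rootHom_range (F := F) c tc ac]
    exact ⟨_, rfl⟩
  have := pairInv_weyl hf _ hσ ⟨r, hr⟩ ⟨s, hs⟩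
  rw [rootHom_apply, rootHom_apply, piOf_eq c tc ac ⟨n, hn⟩ hact r hr, piOf_eq c tc ac ⟨n, hn⟩ hact s hs] at this
  exact this

/-! ### Transport of the `h`-part of a column under `N` -/

/-- If `n M₂ = M₁ n` (`n ∈ N` acting on the roots by `π`), the `h`-part of the column of `e_{-α}` of `M₂` is `a h_α` and
the `h`-part of the column of `e_{-πα}` of `M₁` vanishes, then `a = 0`. -/
theorem transport_zero (c : DCert D Ns) (tc : TCert D) (ac : ACert D wl ws sc) (n : GL D.Idx F)
    (hn : n ∈ D.monomialSubgroup F) {π : ℕ → ℕ} (hact : ActsAs c n π) (hlin : LinMap D π)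
    (α : ℕ) (hα : α < D.nroots) (i0 : Fin D.rank) (hunit0 : ((D.cartan i0 α : ℤ) : F) ≠ 0)
    (M₂ M₁ : Matrix D.Idx D.Idx F)
    (e2 : (n : Matrix D.Idx D.Idx F) * M₂ = M₁ * (n : Matrix D.Idx D.Idx F)) (a : F)
    (h₂ : ∀ (hh : D.neg α < D.nroots) (i : Fin D.rank),
      M₂ (Sum.inl i) (Sum.inr ⟨D.neg α, hh⟩) = ((cor D α i : ℤ) : F) * a)
    (h₁ : ∀ (hh : π (D.neg α) < D.nroots) (j : Fin D.rank), M₁ (Sum.inl j) (Sum.inr ⟨π (D.neg α), hh⟩) = 0) :
    a = 0 := by
  have hr : D.neg α < D.nroots := DCert.neg_lt c α hα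
  have hπr : π (D.neg α) < D.nroots := (hact _ hr).1
  have hunit : ((D.cartan i0 (D.neg α) : ℤ) : F) ≠ 0 := by
    rw [(tc.carCompat c).neg α hα i0 i0.2]
    simpa using hunit0
  have hmono := (monomial_le_monoGL c tc hn).1
  -- the entries in the column of `e_{-α}` and the rows of the `h_j`
  have key : ∀ j : Fin D.rank, ∑ i : Fin D.rank, (n : Matrix D.Idx D.Idx F) (Sum.inl j) (Sum.inl i) *
      (((cor D α i : ℤ) : F) * a) = 0 := by
    intro j
    have e3 := congrFun (congrFun e2 (Sum.inl j)) (Sum.inr ⟨D.neg α, hr⟩)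
    rw [Matrix.mul_apply, Matrix.mul_apply, Fintype.sum_sum_type, Fintype.sum_sum_type] at e3
    have hL2 : ∑ x : Fin D.nroots, (n : Matrix D.Idx D.Idx F) (Sum.inl j) (Sum.inr x) *
        M₂ (Sum.inr x) (Sum.inr ⟨D.neg α, hr⟩) = 0 := by
      apply Finset.sum_eq_zero
      intro x _
      obtain ⟨s', hs'⟩ := hmono.2 x
      rw [hs' (Sum.inl j) Sum.inl_ne_inr, zero_mul]
    have hR1 : ∑ x : Fin D.rank, M₁ (Sum.inl j) (Sum.inl x) *
        (n : Matrix D.Idx D.Idx F) (Sum.inl x) (Sum.inr ⟨D.neg α, hr⟩) = 0 := by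
      apply Finset.sum_eq_zero
      intro x _
      rw [mono_col c tc n hn hact _ hr hπr i0 hunit (Sum.inl x) Sum.inl_ne_inr, mul_zero]
    have hR2 : ∑ x : Fin D.nroots, M₁ (Sum.inl j) (Sum.inr x) *
        (n : Matrix D.Idx D.Idx F) (Sum.inr x) (Sum.inr ⟨D.neg α, hr⟩) = 0 := by
      apply Finset.sum_eq_zero
      intro x _
      by_cases hx : x = ⟨π (D.neg α), hπr⟩
      · subst hx
        rw [h₁ hπr j, zero_mul]
      · rw [mono_col c tc n hn hact _ hr hπr i0 hunit (Sum.inr x) (by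
          intro h
          exact hx (Sum.inr_injective h)), mul_zero]
    rw [hL2, hR1, hR2, add_zero, add_zero] at e3
    rw [← e3]
    apply Finset.sum_congr rfl
    intro i _
    rw [h₂ hr i]
  -- invert the Cartan block of `n`
  have hinv : ((n⁻¹ : GL D.Idx F) : Matrix D.Idx D.Idx F) * (n : Matrix D.Idx D.Idx F) = 1 := by
    rw [← Units.val_mul, inv_mul_cancel, Units.val_one]
  have hzero : ∀ i' : Fin D.rank, ((cor D α i' : ℤ) : F) * a = 0 := by
    intro i'
    have h1 : ∑ j : Fin D.rank, ((n⁻¹ : GL D.Idx F) : Matrix D.Idx D.Idx F) (Sum.inl i') (Sum.inl j) *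
        ∑ i : Fin D.rank, (n : Matrix D.Idx D.Idx F) (Sum.inl j) (Sum.inl i) * (((cor D α i : ℤ) : F) * a) = 0 := by
      apply Finset.sum_eq_zero
      intro j _
      rw [key j, mul_zero]
    have h2 : ∀ i : Fin D.rank, ∑ j : Fin D.rank, ((n⁻¹ : GL D.Idx F) : Matrix D.Idx D.Idx F) (Sum.inl i') (Sum.inl j) *
        (n : Matrix D.Idx D.Idx F) (Sum.inl j) (Sum.inl i) = if i' = i then 1 else 0 := by
      intro i
      have h3 := congrFun (congrFun hinv (Sum.inl i')) (Sum.inl i)
      rw [Matrix.mul_apply, Fintype.sum_sum_type] at h3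
      have h4 : ∑ x : Fin D.nroots, ((n⁻¹ : GL D.Idx F) : Matrix D.Idx D.Idx F) (Sum.inl i') (Sum.inr x) *
          (n : Matrix D.Idx D.Idx F) (Sum.inr x) (Sum.inl i) = 0 := by
        apply Finset.sum_eq_zero
        intro x _
        rw [hmono.1 x i, mul_zero]
      rw [h4, add_zero] at h3
      rw [h3, Matrix.one_apply]
      simp only [Sum.inl.injEq]
    simp only [Finset.mul_sum] at h1
    rw [Finset.sum_comm] at h1
    have h5 : ∀ i : Fin D.rank, ∑ j : Fin D.rank, ((n⁻¹ : GL D.Idx F) : Matrix D.Idx D.Idx F) (Sum.inl i') (Sum.inl j) *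
        ((n : Matrix D.Idx D.Idx F) (Sum.inl j) (Sum.inl i) * (((cor D α i : ℤ) : F) * a)) =
        (if i' = i then 1 else 0) * (((cor D α i : ℤ) : F) * a) := by
      intro i
      rw [← h2 i, Finset.sum_mul]
      apply Finset.sum_congr rfl
      intro j _
      ring
    rw [Finset.sum_congr rfl (fun i _ => h5 i)] at h1
    simpa using h1
  apply eq_zero_of_cor_mul ac α hα
  intro i hi
  exact hzero ⟨i, hi⟩

/-! ### Commutation of root elements when the structure constants vanish in the field -/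

/-- A word whose letters are trivial or lie in `K` lies in `K`. -/
theorem wordGL_mem_or_zero (c : DCert D Ns) (K : Subgroup (GL D.Idx F)) (l : List (ℕ × F))
    (h : ∀ p ∈ l, p.2 = 0 ∨ xGL c p.1 p.2 ∈ K) : wordGL c l ∈ K := by
  apply wordGL_mem
  intro p hp
  rcases h p hp with h0 | hK
  · rw [h0, xGL_zero]
    exact Subgroup.one_mem _
  · exact hK

/-- Root elements of two roots whose commutator terms have coefficients vanishing in `F` commute. -/
theorem commute_of_dvd (c : DCert D Ns) (hR2 : R2All D F) {m : ℤ} (hm : ((m : ℤ) : F) = 0) (r s : ℕ)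
    (hr : r < D.nroots) (hs : s < D.nroots) (hne : s ≠ r) (hneg : s ≠ D.neg r)
    (hdvd : ∀ term ∈ D.commTerms r s, m ∣ term.2.1) (t u : F) :
    xGL c r t * xGL c s u = xGL c s u * xGL c r t := by
  have h := conj_of_R2 c (hR2 r s hr hs hne hneg) t u
  have hw : wordGL c (D.commWord F r s t u) = 1 := by
    have : wordGL c (D.commWord F r s t u) ∈ (⊥ : Subgroup (GL D.Idx F)) := by
      apply wordGL_mem_or_zero
      intro p hp
      left
      rw [commWord_eq] at hp
      unfold termWord at hp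
      rw [List.mem_map] at hp
      obtain ⟨term, hterm, rfl⟩ := hp
      obtain ⟨k, hk⟩ := hdvd term hterm
      show ((term.2.1 : ℤ) : F) * (-t) ^ term.2.2.1 * u ^ term.2.2.2 = 0
      rw [hk, Int.cast_mul, hm, zero_mul, zero_mul, zero_mul]
    exact Subgroup.mem_bot.mp this
  rw [hw, mul_one] at h
  have : xGL c r t * ((xGL c r t)⁻¹ * xGL c s u * xGL c r t) = xGL c s u * xGL c r t := by group
  rw [← this, h]

/-! ### Levels -/

/-- The roots of the list `L` have level at least `m` for the additive function of weights `wv`, and all the roots have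
level more than `-2 m`. -/
def ListLevel (D : ChevalleyDatum) (wv : List ℤ) (m : ℤ) (L : List ℕ) : Prop :=
  1 ≤ m ∧ (∀ s ∈ L, s < D.nroots ∧ m ≤ grL D wv s) ∧ ∀ t < D.nroots, -(2 * m) < grL D wv t

instance (D : ChevalleyDatum) (wv : List ℤ) (m : ℤ) (L : List ℕ) : Decidable (ListLevel D wv m L) := by
  unfold ListLevel
  infer_instance

variable {wv : List ℤ} {m : ℤ} {L : List ℕ}

theorem ListLevel.sub {L' : List ℕ} (h : ListLevel D wv m L) (hsub : ∀ s ∈ L', s ∈ L) : ListLevel D wv m L' :=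
  ⟨h.1, fun s hs => h.2.1 s (hsub s hs), h.2.2⟩

theorem closure_le_tri (c : DCert D Ns) (tc : TCert D) (h : ListLevel D wv m L) :
    Subgroup.closure (listGens D F L) ≤ triSubgroup (R := F) (gradL D wv) m (by have := h.1; omega) := by
  rw [Subgroup.closure_le]
  rintro g ⟨s, hs, t, hg⟩
  show Raises _ _ _
  rw [hg]
  obtain ⟨hslt, hsm⟩ := h.2.1 s hs
  rw [grL_eq] at hsm
  exact x_sub_one_raises (isGrading_w c tc wv) s hslt m h.1 hsm t

/-- An entry in a row of the Cartan part of a matrix raising the level by `2 m` vanishes. -/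
theorem raises_two_entry (h : ListLevel D wv m L) (A : Matrix D.Idx D.Idx F) (hA : Raises (gradL D wv) (2 * m) A)
    (t : ℕ) (ht : t < D.nroots) (i : Fin D.rank) : A (Sum.inl i) (Sum.inr ⟨t, ht⟩) = 0 := by
  apply hA
  show (0 : ℤ) < grRoot D wv t + 2 * m
  have := h.2.2 t ht
  rw [grL_eq] at this
  omega

/-- The `h`-parts of the columns of `e_{-β'}`, `β'` outside the list, of a product of root elements of the list
vanish. -/
theorem entry_closure_zero (c : DCert D Ns) (tc : TCert D) (ac : ACert D wl ws sc) (h : ListLevel D wv m L)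
    (z : GL D.Idx F) (hz : z ∈ Subgroup.closure (listGens D F L)) (β' : ℕ) (hβ' : β' < D.nroots) (hnot : β' ∉ L)
    (hh : D.neg β' < D.nroots) (i : Fin D.rank) :
    (z : Matrix D.Idx D.Idx F) (Sum.inl i) (Sum.inr ⟨D.neg β', hh⟩) = 0 := by
  have hm0 : (0 : ℤ) ≤ m := by have := h.1; omega
  induction hz using Subgroup.closure_induction with
  | mem x hx =>
    obtain ⟨s, hs, t, hx⟩ := hx
    rw [hx, x_entry_inl_neg c tc ac β' s hβ' (h.2.1 s hs).1 hh i t, if_neg]
    rintro rfl
    exact hnot hs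
  | one => rw [Units.val_one, Matrix.one_apply_ne Sum.inl_ne_inr]
  | mul x y hx hy ihx ihy =>
    have hx' : Raises (gradL D wv) m ((x : Matrix D.Idx D.Idx F) - 1) := closure_le_tri c tc h hx
    have hy' : Raises (gradL D wv) m ((y : Matrix D.Idx D.Idx F) - 1) := closure_le_tri c tc h hy
    have e : ((x * y : GL D.Idx F) : Matrix D.Idx D.Idx F) =
        ((x : Matrix D.Idx D.Idx F) - 1) * ((y : Matrix D.Idx D.Idx F) - 1) + (x : Matrix D.Idx D.Idx F) +
          (y : Matrix D.Idx D.Idx F) - 1 := by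
      rw [Units.val_mul]; noncomm_ring
    have h2 : Raises (gradL D wv) (2 * m)
        (((x : Matrix D.Idx D.Idx F) - 1) * ((y : Matrix D.Idx D.Idx F) - 1)) := by
      have := hx'.mul hy'
      rwa [← two_mul] at this
    rw [e, Matrix.sub_apply, Matrix.add_apply, Matrix.add_apply, ihx, ihy,
      raises_two_entry h _ h2 _ hh i, Matrix.one_apply_ne Sum.inl_ne_inr]
    ring
  | inv x hx ihx =>
    have hx' : Raises (gradL D wv) m ((x : Matrix D.Idx D.Idx F) - 1) := closure_le_tri c tc h hx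
    have hxi' : Raises (gradL D wv) m (((x⁻¹ : GL D.Idx F) : Matrix D.Idx D.Idx F) - 1) :=
      closure_le_tri c tc h (Subgroup.inv_mem _ hx)
    have hinv : ((x⁻¹ : GL D.Idx F) : Matrix D.Idx D.Idx F) * (x : Matrix D.Idx D.Idx F) = 1 := by
      rw [← Units.val_mul, inv_mul_cancel, Units.val_one]
    have e : ((x⁻¹ : GL D.Idx F) : Matrix D.Idx D.Idx F) =
        1 - ((x : Matrix D.Idx D.Idx F) - 1) -
          (((x⁻¹ : GL D.Idx F) : Matrix D.Idx D.Idx F) - 1) * ((x : Matrix D.Idx D.Idx F) - 1) := by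
      have : (((x⁻¹ : GL D.Idx F) : Matrix D.Idx D.Idx F) - 1) * ((x : Matrix D.Idx D.Idx F) - 1) =
          ((x⁻¹ : GL D.Idx F) : Matrix D.Idx D.Idx F) * (x : Matrix D.Idx D.Idx F) -
            ((x⁻¹ : GL D.Idx F) : Matrix D.Idx D.Idx F) - (x : Matrix D.Idx D.Idx F) + 1 := by noncomm_ring
      rw [this, hinv]
      abel
    have h2 : Raises (gradL D wv) (2 * m)
        ((((x⁻¹ : GL D.Idx F) : Matrix D.Idx D.Idx F) - 1) * ((x : Matrix D.Idx D.Idx F) - 1)) := by
      have := hxi'.mul hx'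
      rwa [← two_mul] at this
    rw [e, Matrix.sub_apply, Matrix.sub_apply, Matrix.sub_apply, ihx, raises_two_entry h _ h2 _ hh i,
      Matrix.one_apply_ne Sum.inl_ne_inr]
    ring

/-- The `h`-part of the column of `e_{-s₀}` of `x_{s₀}(a) z`, `z` a product of root elements of a list of roots of high
level not containing `s₀`. -/
theorem entry_mul_closure (c : DCert D Ns) (tc : TCert D) (ac : ACert D wl ws sc) (h : ListLevel D wv m L)
    (s₀ : ℕ) (hs₀ : s₀ < D.nroots) (hs₀m : m ≤ grL D wv s₀) (hnot : s₀ ∉ L) (a : F)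
    (z : GL D.Idx F) (hz : z ∈ Subgroup.closure (listGens D F L)) (hh : D.neg s₀ < D.nroots) (i : Fin D.rank) :
    ((xGL c s₀ a * z : GL D.Idx F) : Matrix D.Idx D.Idx F) (Sum.inl i) (Sum.inr ⟨D.neg s₀, hh⟩) =
      ((cor D s₀ i : ℤ) : F) * a := by
  have hz' : Raises (gradL D wv) m ((z : Matrix D.Idx D.Idx F) - 1) := closure_le_tri c tc h hz
  have hx' : Raises (gradL D wv) m (D.x F s₀ a - 1) := by
    rw [grL_eq] at hs₀m
    exact x_sub_one_raises (isGrading_w c tc wv) s₀ hs₀ m h.1 hs₀m a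
  have e : ((xGL c s₀ a * z : GL D.Idx F) : Matrix D.Idx D.Idx F) =
      (D.x F s₀ a - 1) * ((z : Matrix D.Idx D.Idx F) - 1) + D.x F s₀ a + (z : Matrix D.Idx D.Idx F) - 1 := by
    rw [Units.val_mul, xGL_coe]; noncomm_ring
  have h2 : Raises (gradL D wv) (2 * m) ((D.x F s₀ a - 1) * ((z : Matrix D.Idx D.Idx F) - 1)) := by
    have := hx'.mul hz'
    rwa [← two_mul] at this
  rw [e, Matrix.sub_apply, Matrix.add_apply, Matrix.add_apply, raises_two_entry h _ h2 _ hh i,
    entry_closure_zero c tc ac h z hz s₀ hs₀ hnot hh i, x_entry_inl_neg c tc ac s₀ s₀ hs₀ hs₀ hh i a, if_pos rfl,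
    Matrix.one_apply_ne Sum.inl_ne_inr]
  ring

/-! ### The certificate -/

/-- The certificate for the pair `(α, β)`: `R'` lists the further roots of the (abelian) group containing the `B`-class
of `x_α(1) x_β(1)`; `J` the fundamental reflections fixing `α` and `β`, `negJ` a list containing the negatives of the
fundamental roots of `J`; `m` an integer vanishing in the field; `f` a Weyl-invariant function of the pairs of roots;
`wv`, `mlev` the weights of the level function and the minimal level; `iα`, `iβ` fundamental coroots pairing to `±1`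
with `α`, `β`. -/
structure PairCert (D : ChevalleyDatum) (m : ℤ) (α β : ℕ) (R' J negJ : List ℕ) (f : ℕ → ℕ → ℤ)
    (wv : List ℤ) (mlev : ℤ) (iα iβ : ℕ) : Prop where
  posα : D.IsPosRoot α
  posβ : D.IsPosRoot β
  ne : α ≠ β
  notα : α ∉ R'
  notβ : β ∉ R'
  posR : ∀ s ∈ R', D.IsPosRoot s
  hJ : ∀ j ∈ J, j < D.rank ∧ D.neg (D.simple j) ∈ negJ ∧ D.reflectRoot j α = α ∧ D.reflectRoot j β = β
  negJ_lt : ∀ r ∈ negJ, r < D.nroots
  conjU : ∀ r < D.nroots, D.IsPosRoot r → ∀ s ∈ α :: β :: R', r ≠ s →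
    ∀ term ∈ D.commTerms r s, m ∣ term.2.1 ∨ term.1 ∈ R'
  commα : ∀ s ∈ β :: R', ∀ term ∈ D.commTerms s α, m ∣ term.2.1
  commβ : ∀ s ∈ R', ∀ term ∈ D.commTerms s β, m ∣ term.2.1
  inv : PairInv D f
  sep : ∀ x ∈ α :: β :: R', ∀ y ∈ α :: β :: R', f x y = f α β → x = α ∧ y = β
  stab : ∀ j < D.rank, j ∉ J → ∀ r' < D.nroots, f r' α = f (D.simple j) α → f r' β = f (D.simple j) β →
    D.IsPosRoot r'
  lev : ListLevel D wv mlev (α :: β :: R')
  iα_lt : iα < D.rank
  iβ_lt : iβ < D.rank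
  unitα : D.cartan iα α = 1 ∨ D.cartan iα α = -1
  unitβ : D.cartan iβ β = 1 ∨ D.cartan iβ β = -1

variable {α β : ℕ} {R' J negJ : List ℕ} {f : ℕ → ℕ → ℤ} {mlev : ℤ} {iα iβ : ℕ}

/-- A positive root is not the negative of a positive root. -/
theorem ne_neg_of_pos (c : DCert D Ns) (tc : TCert D) (ac : ACert D wl ws sc) (r s : ℕ) (hr : D.IsPosRoot r)
    (hs : D.IsPosRoot s) : s ≠ D.neg r := by
  rintro rfl
  exact ac.not_pos_and_neg _ hs (neg_isNeg c tc ac r hr)

/-- The group `Z` generated by the root subgroups of `R'`. -/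
def zGroup (D : ChevalleyDatum) (F : Type*) [Field F] (R' : List ℕ) : Subgroup (GL D.Idx F) :=
  Subgroup.closure (listGens D F R')

theorem xGL_mem_zGroup (c : DCert D Ns) (s : ℕ) (hs : s ∈ R') (u : F) : xGL c s u ∈ zGroup D F R' :=
  Subgroup.subset_closure ⟨s, hs, u, rfl⟩

/-- `Z` commutes with `X_α`. -/
theorem z_commute_α (c : DCert D Ns) (tc : TCert D) (ac : ACert D wl ws sc) (hR2 : R2All D F)
    (pc : PairCert D m α β R' J negJ f wv mlev iα iβ) (hm : ((m : ℤ) : F) = 0) (a : F) (z : GL D.Idx F)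
    (hz : z ∈ zGroup D F R') : z * xGL c α a = xGL c α a * z := by
  unfold zGroup at hz
  induction hz using Subgroup.closure_induction with
  | mem x hx =>
    obtain ⟨s, hs, u, hx⟩ := hx
    rw [eq_xGL c hx]
    have hsp := pc.posR s hs
    exact commute_of_dvd c hR2 hm s α hsp.1 pc.posα.1 (by rintro rfl; exact pc.notα hs)
      (ne_neg_of_pos c tc ac s α hsp pc.posα) (pc.commα s (List.mem_cons_of_mem _ hs)) u a
  | one => rw [one_mul, mul_one]
  | mul x y _ _ ihx ihy => rw [mul_assoc, ihy, ← mul_assoc, ihx, mul_assoc]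
  | inv x _ ih =>
    have : x⁻¹ * xGL c α a = x⁻¹ * (xGL c α a * x) * x⁻¹ := by group
    rw [this, ← ih]
    group

/-- `Z` commutes with `X_β`. -/
theorem z_commute_β (c : DCert D Ns) (tc : TCert D) (ac : ACert D wl ws sc) (hR2 : R2All D F)
    (pc : PairCert D m α β R' J negJ f wv mlev iα iβ) (hm : ((m : ℤ) : F) = 0) (b : F) (z : GL D.Idx F)
    (hz : z ∈ zGroup D F R') : z * xGL c β b = xGL c β b * z := by
  unfold zGroup at hz
  induction hz using Subgroup.closure_induction with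
  | mem x hx =>
    obtain ⟨s, hs, u, hx⟩ := hx
    rw [eq_xGL c hx]
    have hsp := pc.posR s hs
    exact commute_of_dvd c hR2 hm s β hsp.1 pc.posβ.1 (by rintro rfl; exact pc.notβ hs)
      (ne_neg_of_pos c tc ac s β hsp pc.posβ) (pc.commβ s hs) u b
  | one => rw [one_mul, mul_one]
  | mul x y _ _ ihx ihy => rw [mul_assoc, ihy, ← mul_assoc, ihx, mul_assoc]
  | inv x _ ih =>
    have : x⁻¹ * xGL c β b = x⁻¹ * (xGL c β b * x) * x⁻¹ := by group
    rw [this, ← ih]
    group

/-- `X_β` commutes with `X_α`. -/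
theorem αβ_commute (c : DCert D Ns) (tc : TCert D) (ac : ACert D wl ws sc) (hR2 : R2All D F)
    (pc : PairCert D m α β R' J negJ f wv mlev iα iβ) (hm : ((m : ℤ) : F) = 0) (a b : F) :
    xGL c β b * xGL c α a = xGL c α a * xGL c β b :=
  commute_of_dvd c hR2 hm β α pc.posβ.1 pc.posα.1 pc.ne (ne_neg_of_pos c tc ac β α pc.posβ pc.posα)
    (pc.commα β (by simp)) b a

/-- Conjugation by a positive root element moves the root elements of `α`, `β`, `R'` by elements of `Z`. -/
theorem conjU_mem (c : DCert D Ns) (tc : TCert D) (ac : ACert D wl ws sc) (hR2 : R2All D F)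
    (pc : PairCert D m α β R' J negJ f wv mlev iα iβ) (hm : ((m : ℤ) : F) = 0) (r : ℕ) (hr : D.IsPosRoot r)
    (t : F) (s : ℕ) (hs : s ∈ α :: β :: R') (u : F) :
    ∃ z ∈ zGroup D F R', xGL c r t * xGL c s u * (xGL c r t)⁻¹ = xGL c s u * z := by
  by_cases hrs : r = s
  · subst hrs
    refine ⟨1, Subgroup.one_mem _, ?_⟩
    rw [xGL_inv, xGL_mul, xGL_mul, mul_one]
    congr 1
    ring
  · have hsp : D.IsPosRoot s := by
      rcases List.mem_cons.mp hs with rfl | hs
      · exact pc.posα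
      · rcases List.mem_cons.mp hs with rfl | hs
        · exact pc.posβ
        · exact pc.posR s hs
    have h := conj_of_R2 c (hR2 r s hr.1 hsp.1 (fun h => hrs h.symm) (ne_neg_of_pos c tc ac r s hr hsp)) (-t) u
    rw [← xGL_inv, inv_inv] at h
    refine ⟨_, ?_, h⟩
    apply wordGL_mem_or_zero
    intro p hp
    rw [commWord_eq] at hp
    unfold termWord at hp
    rw [List.mem_map] at hp
    obtain ⟨term, hterm, rfl⟩ := hp
    rcases pc.conjU r hr.1 hr s hs hrs term hterm with ⟨k, hk⟩ | hmem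
    · left
      show ((term.2.1 : ℤ) : F) * (-(-t)) ^ term.2.2.1 * u ^ term.2.2.2 = 0
      rw [hk, Int.cast_mul, hm, zero_mul, zero_mul, zero_mul]
    · right
      exact xGL_mem_zGroup c _ hmem _

/-- Positive root elements normalize `Z`. -/
theorem xGL_mem_normalizer_z (c : DCert D Ns) (tc : TCert D) (ac : ACert D wl ws sc) (hR2 : R2All D F)
    (pc : PairCert D m α β R' J negJ f wv mlev iα iβ) (hm : ((m : ℤ) : F) = 0) (r : ℕ) (hr : D.IsPosRoot r)
    (t : F) : xGL c r t ∈ Subgroup.normalizer (zGroup D F R' : Set (GL D.Idx F)) := by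
  have key : ∀ (t : F), ∀ y ∈ listGens D F R', xGL c r t * y * (xGL c r t)⁻¹ ∈ zGroup D F R' := by
    intro t y hy
    obtain ⟨s, hs, u, hy⟩ := hy
    rw [eq_xGL c hy]
    obtain ⟨z, hz, e⟩ := conjU_mem c tc ac hR2 pc hm r hr t s
      (List.mem_cons_of_mem _ (List.mem_cons_of_mem _ hs)) u
    rw [e]
    exact Subgroup.mul_mem _ (xGL_mem_zGroup c s hs u) hz
  unfold zGroup
  apply mem_normalizer_closure
  · intro y hy
    exact key t y hy
  · intro y hy
    have := key (-t) y hy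
    rwa [← xGL_inv, inv_inv] at this

/-- The diagonal subgroup normalizes `Z`. -/
theorem diagonal_le_normalizer_z (c : DCert D Ns) (tc : TCert D) (pc : PairCert D m α β R' J negJ f wv mlev iα iβ) :
    D.diagonalSubgroup F ≤ Subgroup.normalizer (zGroup D F R' : Set (GL D.Idx F)) := by
  intro h hh
  have hconj : ∀ k ∈ D.diagonalSubgroup F, ∀ s ∈ listGens D F R', k * s * k⁻¹ ∈ zGroup D F R' := by
    intro k hk y hy
    obtain ⟨s, hs, u, hy⟩ := hy
    rw [eq_xGL c hy]
    obtain ⟨b, hb⟩ := diagonal_conj_xGL c tc k hk s (pc.posR s hs).1 u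
    rw [hb]
    exact xGL_mem_zGroup c s hs b
  unfold zGroup
  apply mem_normalizer_closure
  · exact hconj h hh
  · intro s hs
    have := hconj h⁻¹ (Subgroup.inv_mem _ hh) s hs
    rwa [inv_inv] at this

/-! ### The `B`-class of `x_α(1) x_β(1)` -/

/-- The set containing the `B`-class of `x_α(1) x_β(1)`. -/
def classSet (c : DCert D Ns) (F : Type*) [Field F] (α β : ℕ) (R' : List ℕ) : Set (GL D.Idx F) :=
  {y | ∃ a b : F, a ≠ 0 ∧ b ≠ 0 ∧ ∃ z ∈ zGroup D F R', y = xGL c α a * xGL c β b * z}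

theorem classSet_conj_x (c : DCert D Ns) (tc : TCert D) (ac : ACert D wl ws sc) (hR2 : R2All D F)
    (pc : PairCert D m α β R' J negJ f wv mlev iα iβ) (hm : ((m : ℤ) : F) = 0) (r : ℕ) (hr : D.IsPosRoot r)
    (t : F) (y : GL D.Idx F) (hy : y ∈ classSet c F α β R') :
    xGL c r t * y * (xGL c r t)⁻¹ ∈ classSet c F α β R' := by
  obtain ⟨a, b, ha, hb, z, hz, rfl⟩ := hy
  obtain ⟨z₁, hz₁, e₁⟩ := conjU_mem c tc ac hR2 pc hm r hr t α (by simp) a
  obtain ⟨z₂, hz₂, e₂⟩ := conjU_mem c tc ac hR2 pc hm r hr t β (by simp) b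
  have hz' : xGL c r t * z * (xGL c r t)⁻¹ ∈ zGroup D F R' :=
    (Subgroup.mem_normalizer_iff.mp (xGL_mem_normalizer_z c tc ac hR2 pc hm r hr t) z).mp hz
  refine ⟨a, b, ha, hb, z₁ * z₂ * (xGL c r t * z * (xGL c r t)⁻¹),
    Subgroup.mul_mem _ (Subgroup.mul_mem _ hz₁ hz₂) hz', ?_⟩
  have hcomm := z_commute_β c tc ac hR2 pc hm b z₁ hz₁
  calc xGL c r t * (xGL c α a * xGL c β b * z) * (xGL c r t)⁻¹
      = (xGL c r t * xGL c α a * (xGL c r t)⁻¹) * (xGL c r t * xGL c β b * (xGL c r t)⁻¹) *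
          (xGL c r t * z * (xGL c r t)⁻¹) := by group
    _ = xGL c α a * (z₁ * xGL c β b) * z₂ * (xGL c r t * z * (xGL c r t)⁻¹) := by rw [e₁, e₂]; group
    _ = xGL c α a * xGL c β b * (z₁ * z₂ * (xGL c r t * z * (xGL c r t)⁻¹)) := by rw [hcomm]; group

theorem classSet_conj_pos (c : DCert D Ns) (tc : TCert D) (ac : ACert D wl ws sc) (hR2 : R2All D F)
    (pc : PairCert D m α β R' J negJ f wv mlev iα iβ) (hm : ((m : ℤ) : F) = 0) (u : GL D.Idx F)
    (hu : u ∈ D.posUnipotent F) :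
    ∀ y ∈ classSet c F α β R', u * y * u⁻¹ ∈ classSet c F α β R' ∧ u⁻¹ * y * u ∈ classSet c F α β R' := by
  unfold ChevalleyDatum.posUnipotent at hu
  induction hu using Subgroup.closure_induction with
  | mem x hx =>
    obtain ⟨r, t, hr, hx⟩ := hx
    rw [eq_xGL c hx]
    intro y hy
    refine ⟨classSet_conj_x c tc ac hR2 pc hm r hr t y hy, ?_⟩
    have := classSet_conj_x c tc ac hR2 pc hm r hr (-t) y hy
    rwa [← xGL_inv, inv_inv] at this
  | one =>
    intro y hy
    simpa using hy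
  | mul x₁ x₂ _ _ ih₁ ih₂ =>
    intro y hy
    constructor
    · have := (ih₁ _ (ih₂ y hy).1).1
      have e : x₁ * x₂ * y * (x₁ * x₂)⁻¹ = x₁ * (x₂ * y * x₂⁻¹) * x₁⁻¹ := by group
      rwa [e]
    · have := (ih₂ _ (ih₁ y hy).2).2
      have e : (x₁ * x₂)⁻¹ * y * (x₁ * x₂) = x₂⁻¹ * (x₁⁻¹ * y * x₁) * x₂ := by group
      rwa [e]
  | inv x _ ih =>
    intro y hy
    refine ⟨?_, ?_⟩
    · have := (ih y hy).2
      rwa [inv_inv]
    · have := (ih y hy).1
      rwa [inv_inv]

theorem classSet_conj_diagonal (c : DCert D Ns) (tc : TCert D)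
    (pc : PairCert D m α β R' J negJ f wv mlev iα iβ) (h : GL D.Idx F) (hh : h ∈ D.diagonalSubgroup F)
    (y : GL D.Idx F) (hy : y ∈ classSet c F α β R') : h * y * h⁻¹ ∈ classSet c F α β R' := by
  obtain ⟨a, b, ha, hb, z, hz, rfl⟩ := hy
  obtain ⟨-, χ₁, hχ₁, e₁⟩ := actsAs_diagonal c tc h hh α pc.posα.1
  obtain ⟨-, χ₂, hχ₂, e₂⟩ := actsAs_diagonal c tc h hh β pc.posβ.1
  have hz' : h * z * h⁻¹ ∈ zGroup D F R' :=
    (Subgroup.mem_normalizer_iff.mp (diagonal_le_normalizer_z c tc pc hh) z).mp hz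
  refine ⟨χ₁ * a, χ₂ * b, mul_ne_zero hχ₁ ha, mul_ne_zero hχ₂ hb, h * z * h⁻¹, hz', ?_⟩
  have e₁' := e₁ a
  have e₂' := e₂ b
  simp only [id] at e₁' e₂'
  rw [← e₁', ← e₂']
  group

theorem classSet_conj_borel (c : DCert D Ns) (tc : TCert D) (ac : ACert D wl ws sc) (hR2 : R2All D F)
    (pc : PairCert D m α β R' J negJ f wv mlev iα iβ) (hm : ((m : ℤ) : F) = 0) (b₀ : GL D.Idx F)
    (hb₀ : b₀ ∈ D.borelSubgroup F) (y : GL D.Idx F) (hy : y ∈ classSet c F α β R') :
    b₀ * y * b₀⁻¹ ∈ classSet c F α β R' := by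
  obtain ⟨u, hu, h, hh, rfl⟩ := exists_mul_of_mem_sup _ _ (diagonal_le_normalizer_pos c tc) hb₀
  have h1 := classSet_conj_diagonal c tc pc h hh y hy
  have h2 := (classSet_conj_pos c tc ac hR2 pc hm u hu _ h1).1
  have e : u * h * y * (u * h)⁻¹ = u * (h * y * h⁻¹) * u⁻¹ := by group
  rwa [e]

/-! ### The entries of the elements of the class -/

theorem listGens_mono {L L' : List ℕ} (h : ∀ s ∈ L, s ∈ L') : listGens D F L ⊆ listGens D F L' := by
  rintro g ⟨s, hs, t, hg⟩
  exact ⟨s, h s hs, t, hg⟩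

theorem class_entry_zero (c : DCert D Ns) (tc : TCert D) (ac : ACert D wl ws sc)
    (pc : PairCert D m α β R' J negJ f wv mlev iα iβ) (y : GL D.Idx F) (hy : y ∈ classSet c F α β R')
    (β' : ℕ) (hβ' : β' < D.nroots) (hnot : β' ∉ α :: β :: R') (t : ℕ) (ht : t < D.nroots) (htn : t = D.neg β')
    (i : Fin D.rank) : (y : Matrix D.Idx D.Idx F) (Sum.inl i) (Sum.inr ⟨t, ht⟩) = 0 := by
  subst htn
  obtain ⟨a, b, ha, hb, z, hz, rfl⟩ := hy
  apply entry_closure_zero c tc ac pc.lev _ _ β' hβ' hnot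
  apply Subgroup.mul_mem
  · apply Subgroup.mul_mem
    · exact Subgroup.subset_closure ⟨α, by simp, a, rfl⟩
    · exact Subgroup.subset_closure ⟨β, by simp, b, rfl⟩
  · exact Subgroup.closure_mono (listGens_mono (fun s hs => List.mem_cons_of_mem _ (List.mem_cons_of_mem _ hs))) hz

theorem class_entry_α (c : DCert D Ns) (tc : TCert D) (ac : ACert D wl ws sc)
    (pc : PairCert D m α β R' J negJ f wv mlev iα iβ) (a b : F) (z : GL D.Idx F) (hz : z ∈ zGroup D F R')
    (hh : D.neg α < D.nroots) (i : Fin D.rank) :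
    ((xGL c α a * xGL c β b * z : GL D.Idx F) : Matrix D.Idx D.Idx F) (Sum.inl i) (Sum.inr ⟨D.neg α, hh⟩) =
      ((cor D α i : ℤ) : F) * a := by
  have hlev : ListLevel D wv mlev (β :: R') := pc.lev.sub (fun s hs => List.mem_cons_of_mem _ hs)
  have hnot : α ∉ β :: R' := by
    intro h
    rcases List.mem_cons.mp h with h | h
    · exact pc.ne h
    · exact pc.notα h
  have hw : xGL c β b * z ∈ Subgroup.closure (listGens D F (β :: R')) := by
    apply Subgroup.mul_mem
    · exact Subgroup.subset_closure ⟨β, by simp, b, rfl⟩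
    · exact Subgroup.closure_mono (listGens_mono (fun s hs => List.mem_cons_of_mem _ hs)) hz
  rw [mul_assoc]
  exact entry_mul_closure c tc ac hlev α pc.posα.1 (pc.lev.2.1 α (by simp)).2 hnot a _ hw hh i

theorem class_entry_β (c : DCert D Ns) (tc : TCert D) (ac : ACert D wl ws sc) (hR2 : R2All D F)
    (pc : PairCert D m α β R' J negJ f wv mlev iα iβ) (hm : ((m : ℤ) : F) = 0) (a b : F) (z : GL D.Idx F)
    (hz : z ∈ zGroup D F R') (hh : D.neg β < D.nroots) (i : Fin D.rank) :
    ((xGL c α a * xGL c β b * z : GL D.Idx F) : Matrix D.Idx D.Idx F) (Sum.inl i) (Sum.inr ⟨D.neg β, hh⟩) =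
      ((cor D β i : ℤ) : F) * b := by
  have hlev : ListLevel D wv mlev (α :: R') := pc.lev.sub (fun s hs => by
    rcases List.mem_cons.mp hs with rfl | hs
    · simp
    · exact List.mem_cons_of_mem _ (List.mem_cons_of_mem _ hs))
  have hnot : β ∉ α :: R' := by
    intro h
    rcases List.mem_cons.mp h with h | h
    · exact pc.ne h.symm
    · exact pc.notβ h
  have hw : xGL c α a * z ∈ Subgroup.closure (listGens D F (α :: R')) := by
    apply Subgroup.mul_mem
    · exact Subgroup.subset_closure ⟨α, by simp, a, rfl⟩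
    · exact Subgroup.closure_mono (listGens_mono (fun s hs => List.mem_cons_of_mem _ hs)) hz
  have e : xGL c α a * xGL c β b * z = xGL c β b * (xGL c α a * z) := by
    rw [← αβ_commute c tc ac hR2 pc hm a b]
    group
  rw [e]
  exact entry_mul_closure c tc ac hlev β pc.posβ.1 (pc.lev.2.1 β (by simp)).2 hnot b _ hw hh i

/-! ### The stabilizer of the pair in `N` -/

theorem nWord_roots_pair (tc : TCert D) (pc : PairCert D m α β R' J negJ f wv mlev iα iβ) (j : ℕ) (hj : j ∈ J)
    (a : F) : ∀ p ∈ D.nWord (D.simple j) a, D.IsPosRoot p.1 ∨ p.1 ∈ negJ := by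
  intro p hp
  obtain ⟨hjr, hneg, -, -⟩ := pc.hJ j hj
  unfold ChevalleyDatum.nWord at hp
  simp only [List.mem_cons, List.not_mem_nil, or_false] at hp
  rcases hp with rfl | rfl | rfl
  · exact Or.inl (tc.simple_pos j hjr)
  · exact Or.inr hneg
  · exact Or.inl (tc.simple_pos j hjr)

theorem nGL_mem_q_pair (c : DCert D Ns) (tc : TCert D) (pc : PairCert D m α β R' J negJ f wv mlev iα iβ) (j : ℕ)
    (hj : j ∈ J) : (nGL c j : GL D.Idx F) ∈ Subgroup.closure (qGens D F negJ) :=
  wordGL_mem_q c _ (nWord_roots_pair tc pc j hj 1)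

theorem hGL_mem_q_pair (c : DCert D Ns) (tc : TCert D) (pc : PairCert D m α β R' J negJ f wv mlev iα iβ) (j : ℕ)
    (hj : j ∈ J) (a : F) : hGL c (D.simple j) a ∈ Subgroup.closure (qGens D F negJ) := by
  apply wordGL_mem_q c
  intro p hp
  unfold ChevalleyDatum.hWord at hp
  rw [List.mem_append] at hp
  rcases hp with hp | hp
  · exact nWord_roots_pair tc pc j hj a p hp
  · exact nWord_roots_pair tc pc j hj (-1) p hp

/-- The stabilizer of `α` and `β` in `N` lies in `H Q_J`. -/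
theorem stab_mem_pair (c : DCert D Ns) (tc : TCert D) (ac : ACert D wl ws sc) (gc : GCert D w d) (hdesc : Descent D)
    (hR2 : R2All D F) (pc : PairCert D m α β R' J negJ f wv mlev iα iβ) :
    ∀ (k : ℕ) (n : GL D.Idx F), n ∈ D.monomialSubgroup F → ∀ π : ℕ → ℕ, ActsAs c n π → LinMap D π →
      π α = α → π β = β → invCount D π = k →
      n ∈ D.diagonalSubgroup F ⊔ Subgroup.closure (qGens D F negJ) := by
  intro k
  induction k using Nat.strong_induction_on with
  | _ k ih =>
    intro n hn π hact hlin hfixα hfixβ hk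
    by_cases hex : ∃ j < D.rank, D.IsNegRoot (π (D.simple j))
    · obtain ⟨j, hj, hneg⟩ := hex
      have hsj := (tc.simple_pos j hj).1
      have hjJ : j ∈ J := by
        by_contra hjJ
        have h1 : f (π (D.simple j)) α = f (D.simple j) α := by
          have := pairInv_actsAs c tc ac pc.inv n hn hact (D.simple j) α hsj pc.posα.1
          rwa [hfixα] at this
        have h2 : f (π (D.simple j)) β = f (D.simple j) β := by
          have := pairInv_actsAs c tc ac pc.inv n hn hact (D.simple j) β hsj pc.posβ.1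
          rwa [hfixβ] at this
        exact ac.not_pos_and_neg _ (pc.stab j hj hjJ _ (hlin.1 _ hsj) h1 h2) hneg
      obtain ⟨-, -, hrα, hrβ⟩ := pc.hJ j hjJ
      have hlt := invCount_lt c tc ac hlin j hj hneg
      have hfixα' : (π ∘ D.reflectRoot j) α = α := by
        show π (D.reflectRoot j α) = α
        rw [hrα, hfixα]
      have hfixβ' : (π ∘ D.reflectRoot j) β = β := by
        show π (D.reflectRoot j β) = β
        rw [hrβ, hfixβ]
      have h1 := ih _ (hk ▸ hlt) (n * nGL c j) (Subgroup.mul_mem _ hn (nGL_mem_monomial c j hj))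
        (π ∘ D.reflectRoot j) (hact.mul c (actsAs_nGL c j hj)) (hlin.comp (linMap_reflect c j hj)) hfixα' hfixβ' rfl
      have h2 : (nGL c j : GL D.Idx F)⁻¹ ∈ D.diagonalSubgroup F ⊔ Subgroup.closure (qGens D F negJ) :=
        Subgroup.inv_mem _ (Subgroup.mem_sup_right (nGL_mem_q_pair c tc pc j hjJ))
      have h3 := Subgroup.mul_mem _ h1 h2
      rwa [mul_inv_cancel_right] at h3
    · have hsimple : ∀ i < D.rank, D.IsPosRoot (π (D.simple i)) := by
        intro i hi
        rcases ac.posOrNeg _ (hlin.1 _ (tc.simple_pos i hi).1) with h | h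
        · exact h
        · exact absurd ⟨i, hi, h⟩ hex
      have hpos := hlin.pos c tc ac hdesc hsimple
      exact Subgroup.mem_sup_left (mem_diagonal_of_actsAs_pos c tc ac gc hR2 n hn hact hpos)

/-! ### The centralizer lies in `Q_J H` -/

theorem cast_ne_zero_of_unit {x : ℤ} (h : x = 1 ∨ x = -1) : ((x : ℤ) : F) ≠ 0 := by
  rcases h with h | h
  · rw [h]; simp
  · rw [h]; simp

/-- An element of the group that centralizes `x_α(1) x_β(1)` lies in `Q_J H`. -/
theorem mem_q_sup_diagonal_pair (c : DCert D Ns) (tc : TCert D) (ac : ACert D wl ws sc) (gc : GCert D w d)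
    (hdesc : Descent D) (hR2 : R2All D F) (pc : PairCert D m α β R' J negJ f wv mlev iα iβ)
    (hm : ((m : ℤ) : F) = 0) (g : GL D.Idx F) (hgG : g ∈ D.group F)
    (hgt : (xGL c α 1 * xGL c β 1) * g = g * (xGL c α 1 * xGL c β 1)) :
    g ∈ Subgroup.closure (qGens D F negJ) ⊔ D.diagonalSubgroup F := by
  have hα := pc.posα.1
  have hβ := pc.posβ.1
  obtain ⟨b, hb, n, hn, u, hu, rfl⟩ := canonical_exists c tc ac gc hdesc hR2 g hgG
  have huU : u ∈ D.posUnipotent F := flipGens_le_pos n hu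
  have huQ : u ∈ Subgroup.closure (qGens D F negJ) := by
    rw [closure_qGens_eq]
    exact Subgroup.mem_sup_left huU
  obtain ⟨π, hact, hlin⟩ := nAct_of_mem_monomial c tc n hn
  have hy : xGL c α (1 : F) * xGL c β 1 ∈ classSet c F α β R' :=
    ⟨1, 1, one_ne_zero, one_ne_zero, 1, Subgroup.one_mem _, by rw [mul_one]⟩
  have hy₂ := (classSet_conj_pos c tc ac hR2 pc hm u huU _ hy).1
  have hy₁ := classSet_conj_borel c tc ac hR2 pc hm b⁻¹ (Subgroup.inv_mem _ hb) _ hy
  have e : n * (u * (xGL c α 1 * xGL c β 1) * u⁻¹) * n⁻¹ = b⁻¹ * (xGL c α 1 * xGL c β 1) * b⁻¹⁻¹ := by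
    have h1 : n * (u * (xGL c α 1 * xGL c β 1) * u⁻¹) * n⁻¹ =
        b⁻¹ * ((b * n * u) * (xGL c α 1 * xGL c β 1)) * u⁻¹ * n⁻¹ := by group
    rw [h1, ← hgt]
    group
  generalize u * (xGL c α 1 * xGL c β 1) * u⁻¹ = y₂ at hy₂ e
  generalize b⁻¹ * (xGL c α 1 * xGL c β 1) * b⁻¹⁻¹ = y₁ at hy₁ e
  have e2 : (n : Matrix D.Idx D.Idx F) * (y₂ : Matrix D.Idx D.Idx F) =
      (y₁ : Matrix D.Idx D.Idx F) * (n : Matrix D.Idx D.Idx F) := by
    rw [← Units.val_mul, ← Units.val_mul, ← e]
    congr 1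
    group
  obtain ⟨a₂, b₂, ha₂, hb₂, z₂, hz₂, rfl⟩ := hy₂
  -- `π α` and `π β` lie in the list
  have hπα : π α ∈ α :: β :: R' := by
    by_contra hnot
    apply ha₂
    apply transport_zero c tc ac n hn hact hlin α hα ⟨iα, pc.iα_lt⟩ (cast_ne_zero_of_unit pc.unitα) _ _ e2 a₂
    · intro hh i
      exact class_entry_α c tc ac pc a₂ b₂ z₂ hz₂ hh i
    · intro hh j
      exact class_entry_zero c tc ac pc y₁ hy₁ (π α) (hlin.1 α hα) hnot _ hh (hlin.2.1 α hα) j
  have hπβ : π β ∈ α :: β :: R' := by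
    by_contra hnot
    apply hb₂
    apply transport_zero c tc ac n hn hact hlin β hβ ⟨iβ, pc.iβ_lt⟩ (cast_ne_zero_of_unit pc.unitβ) _ _ e2 b₂
    · intro hh i
      exact class_entry_β c tc ac hR2 pc hm a₂ b₂ z₂ hz₂ hh i
    · intro hh j
      exact class_entry_zero c tc ac pc y₁ hy₁ (π β) (hlin.1 β hβ) hnot _ hh (hlin.2.1 β hβ) j
  have hf : f (π α) (π β) = f α β := pairInv_actsAs c tc ac pc.inv n hn hact α β hα hβ
  obtain ⟨hfixα, hfixβ⟩ := pc.sep _ hπα _ hπβ hf
  have hnQ := stab_mem_pair c tc ac gc hdesc hR2 pc _ n hn π hact hlin hfixα hfixβ rfl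
  have hbQ : b ∈ D.diagonalSubgroup F ⊔ Subgroup.closure (qGens D F negJ) := by
    have : D.borelSubgroup F ≤ D.diagonalSubgroup F ⊔ Subgroup.closure (qGens D F negJ) := by
      unfold ChevalleyDatum.borelSubgroup
      rw [sup_le_iff]
      refine ⟨?_, le_sup_left⟩
      rw [closure_qGens_eq]
      exact le_trans le_sup_left le_sup_right
    exact this hb
  rw [sup_comm]
  exact Subgroup.mul_mem _ (Subgroup.mul_mem _ hbQ hnQ) (Subgroup.mem_sup_right huQ)

/-! ### Further tools -/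

/-- `H` normalizes `Q_J`. -/
theorem diagonal_le_normalizer_q' (c : DCert D Ns) (tc : TCert D) (negJ : List ℕ) (hlt : ∀ r ∈ negJ, r < D.nroots) :
    D.diagonalSubgroup F ≤ Subgroup.normalizer (Subgroup.closure (qGens D F negJ) : Set (GL D.Idx F)) := by
  intro h hh
  have hconj : ∀ k ∈ D.diagonalSubgroup F, ∀ s ∈ qGens D F negJ,
      k * s * k⁻¹ ∈ Subgroup.closure (qGens D F negJ) := by
    intro k hk s hs
    obtain ⟨r, a, hr, hs⟩ := hs
    have hrlt : r < D.nroots := by
      rcases hr with h | h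
      · exact h.1
      · exact hlt r h
    rw [eq_xGL c hs]
    obtain ⟨b, hb⟩ := diagonal_conj_xGL c tc k hk r hrlt a
    rw [hb]
    exact xGL_mem_q c r hr b
  apply mem_normalizer_closure
  · exact hconj h hh
  · intro s hs
    have := hconj h⁻¹ (Subgroup.inv_mem _ hh) s hs
    rwa [inv_inv] at this

/-- A torus element whose parameters outside `J` are trivial lies in any subgroup containing the `h_{p_j}(a)`,
`j ∈ J`. -/
theorem diagonal_mem_of_torus (c : DCert D Ns) (tc : TCert D) (J : List ℕ) (K : Subgroup (GL D.Idx F))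
    (hK : ∀ j ∈ J, j < D.rank → ∀ a : F, hGL c (D.simple j) a ∈ K)
    (h : GL D.Idx F) (τ : ℕ → F) (hτ : ∀ i, τ i ≠ 0) (hk : (h : Matrix D.Idx D.Idx F) = torusMat D τ)
    (hτJ : ∀ k < D.rank, k ∉ J → τ k = 1) : h ∈ K := by
  have key : ∀ k ≤ D.rank, ∃ g ∈ K,
      (g : Matrix D.Idx D.Idx F) = diagMat D (fun s => ∏ i ∈ Finset.range k, τ i ^ D.cartan i s) := by
    intro k
    induction k with
    | zero =>
      intro _
      refine ⟨1, Subgroup.one_mem _, ?_⟩
      simp only [Finset.range_zero, Finset.prod_empty]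
      rw [diagMat_one]
      rfl
    | succ k ih =>
      intro hk1
      obtain ⟨g, hg, hgm⟩ := ih (by omega)
      have hkr : k < D.rank := by omega
      by_cases hkJ : k ∈ J
      · refine ⟨g * hGL c (D.simple k) (τ k), Subgroup.mul_mem _ hg (hK k hkJ hkr _), ?_⟩
        rw [Units.val_mul, hgm, hGL_coe, hMat_all c tc _ (tc.simple_pos k hkr).1 _ (hτ k), diagMat_mul]
        apply diagMat_congr
        intro s _
        rw [Finset.prod_range_succ, tc.cartanR_simple k hkr]
      · refine ⟨g, hg, ?_⟩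
        rw [hgm]
        apply diagMat_congr
        intro s _
        rw [Finset.prod_range_succ, hτJ k hkr hkJ, one_zpow, mul_one]
  obtain ⟨g, hg, hgm⟩ := key D.rank le_rfl
  have : h = g := by
    apply Units.ext
    rw [hk, hgm]
    rfl
  rw [this]
  exact hg

/-- The scalar by which a torus element acts on a root subgroup, from the commutation with a root element. -/
theorem torusChar_of_conj (c : DCert D Ns) (tc : TCert D) (ac : ACert D wl ws sc) (h : GL D.Idx F) (τ : ℕ → F)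
    (hτ : ∀ i, τ i ≠ 0) (hk : (h : Matrix D.Idx D.Idx F) = torusMat D τ) (r : ℕ) (hr : r < D.nroots) (a b : F)
    (e : h * xGL c r a * h⁻¹ = xGL c r b) : torusChar D τ r * a = b := by
  have e1 := torus_conj c tc τ hτ r hr a
  have e2 : (h : Matrix D.Idx D.Idx F) * D.x F r a = D.x F r b * (h : Matrix D.Idx D.Idx F) := by
    have : h * xGL c r a = xGL c r b * h := by rw [← e]; group
    have := congrArg (fun g : GL D.Idx F => (g : Matrix D.Idx D.Idx F)) this
    simpa using this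
  rw [hk, e1] at e2
  have hinv : torusMat D τ * ((h⁻¹ : GL D.Idx F) : Matrix D.Idx D.Idx F) = 1 := by
    rw [← hk, ← Units.val_mul, mul_inv_cancel]
    rfl
  have e3 : D.x F r (torusChar D τ r * a) = D.x F r b := by
    have := congrArg (fun M => M * ((h⁻¹ : GL D.Idx F) : Matrix D.Idx D.Idx F)) e2
    simp only [mul_assoc, hinv, mul_one] at this
    exact this
  exact xGL_param_inj c tc ac r hr _ _ e3

/-- Conjugation by `x_r(t)` fixes `x_s(u)` when the structure constants vanish in the field. -/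
theorem conj_fix (c : DCert D Ns) (hR2 : R2All D F) {m : ℤ} (hm : ((m : ℤ) : F) = 0) (r s : ℕ)
    (hr : r < D.nroots) (hs : s < D.nroots) (hne : s ≠ r) (hneg : s ≠ D.neg r)
    (hdvd : ∀ term ∈ D.commTerms r s, m ∣ term.2.1) (t u : F) :
    xGL c r t * xGL c s u * (xGL c r t)⁻¹ = xGL c s u := by
  rw [commute_of_dvd c hR2 hm r s hr hs hne hneg hdvd t u]
  group

/-- Conjugation by `x_r(t)` when the commutator formula has the single term `(k, N, 1, 1)`. -/
theorem conj_single (c : DCert D Ns) (hR2 : R2All D F) (r s k : ℕ) (N : ℤ) (hr : r < D.nroots) (hs : s < D.nroots)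
    (hne : s ≠ r) (hneg : s ≠ D.neg r) (hterms : D.commTerms r s = [(k, N, 1, 1)]) (t u : F) :
    xGL c r t * xGL c s u * (xGL c r t)⁻¹ = xGL c s u * xGL c k ((N : F) * t * u) := by
  have h := conj_of_R2 c (hR2 r s hr hs hne hneg) (-t) u
  rw [← xGL_inv, inv_inv] at h
  rw [h]
  congr 1
  rw [commWord_eq, hterms]
  unfold termWord
  rw [List.map_cons, List.map_nil, wordGL_cons, wordGL_nil, mul_one]
  congr 1
  show ((N : ℤ) : F) * (-(-t)) ^ 1 * u ^ 1 = (N : F) * t * u
  rw [neg_neg, pow_one, pow_one]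

/-- `x_r(t)` normalizes the group generated by the root subgroups of a list closed under the commutator formula with
`r`. -/
theorem xGL_mem_normalizer_list (c : DCert D Ns) (hR2 : R2All D F) (r : ℕ) (hr : r < D.nroots) (L' : List ℕ)
    (h : ∀ s ∈ L', s < D.nroots ∧ (s = r ∨ (s ≠ D.neg r ∧ ∀ k ∈ D.commTerms r s, k.1 ∈ L'))) (t : F) :
    xGL c r t ∈ Subgroup.normalizer (Subgroup.closure (listGens D F L') : Set (GL D.Idx F)) := by
  have key : ∀ (t : F), ∀ y ∈ listGens D F L',
      (xGL c r t)⁻¹ * y * xGL c r t ∈ Subgroup.closure (listGens D F L') := by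
    intro t y hy
    obtain ⟨s, hs, u, hy⟩ := hy
    rw [eq_xGL c hy]
    obtain ⟨hslt, hcase⟩ := h s hs
    rcases hcase with rfl | ⟨hneg, hcl⟩
    · have : (xGL c s t)⁻¹ * xGL c s u * xGL c s t = xGL c s u := by
        rw [xGL_inv, xGL_mul, xGL_mul]
        congr 1
        ring
      rw [this]
      exact Subgroup.subset_closure ⟨s, hs, u, rfl⟩
    · by_cases hsr : s = r
      · subst hsr
        have : (xGL c s t)⁻¹ * xGL c s u * xGL c s t = xGL c s u := by
          rw [xGL_inv, xGL_mul, xGL_mul]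
          congr 1
          ring
        rw [this]
        exact Subgroup.subset_closure ⟨s, hs, u, rfl⟩
      · apply conj_mem_of_R2 c (hR2 r s hr hslt hsr hneg)
        · intro u'
          exact Subgroup.subset_closure ⟨s, hs, u', rfl⟩
        · intro k hk a
          exact Subgroup.subset_closure ⟨k.1, hcl k hk, a, rfl⟩
  apply mem_normalizer_closure
  · intro y hy
    have := key (-t) y hy
    rwa [← xGL_inv, inv_inv] at this
  · intro y hy
    exact key t y hy

theorem rootSubgroup_le_normalizer_list (c : DCert D Ns) (hR2 : R2All D F) (r : ℕ) (hr : r < D.nroots) (L' : List ℕ)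
    (h : ∀ s ∈ L', s < D.nroots ∧ (s = r ∨ (s ≠ D.neg r ∧ ∀ k ∈ D.commTerms r s, k.1 ∈ L'))) :
    D.rootSubgroup F r ≤ Subgroup.normalizer (Subgroup.closure (listGens D F L') : Set (GL D.Idx F)) := by
  unfold ChevalleyDatum.rootSubgroup
  rw [Subgroup.closure_le]
  rintro g ⟨t, hg⟩
  rw [eq_xGL c hg]
  exact xGL_mem_normalizer_list c hR2 r hr L' h t

/-- The group generated by the root subgroups of `r :: L'`. -/
theorem closure_listGens_cons (r : ℕ) (L' : List ℕ) :
    Subgroup.closure (listGens D F (r :: L')) = Subgroup.closure (listGens D F L') ⊔ D.rootSubgroup F r := by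
  unfold ChevalleyDatum.rootSubgroup
  rw [← Subgroup.closure_union]
  congr 1
  ext g
  constructor
  · rintro ⟨s, hs, t, hg⟩
    rcases List.mem_cons.mp hs with rfl | hs
    · exact Or.inr ⟨t, hg⟩
    · exact Or.inl ⟨s, hs, t, hg⟩
  · rintro (⟨s, hs, t, hg⟩ | ⟨t, hg⟩)
    · exact ⟨s, List.mem_cons_of_mem _ hs, t, hg⟩
    · exact ⟨r, by simp, t, hg⟩

/-- An element of the group generated by the root subgroups of `r :: L'` is a product `y x_r(t)`, when `X_r` normalizes
the group of `L'`. -/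
theorem exists_mul_of_mem_cons (c : DCert D Ns) (hR2 : R2All D F) (r : ℕ) (hr : r < D.nroots) (L' : List ℕ)
    (h : ∀ s ∈ L', s < D.nroots ∧ (s = r ∨ (s ≠ D.neg r ∧ ∀ k ∈ D.commTerms r s, k.1 ∈ L')))
    (g : GL D.Idx F) (hg : g ∈ Subgroup.closure (listGens D F (r :: L'))) :
    ∃ y ∈ Subgroup.closure (listGens D F L'), ∃ t : F, g = y * xGL c r t := by
  rw [closure_listGens_cons] at hg
  obtain ⟨y, hy, a, ha, rfl⟩ := exists_mul_of_mem_sup _ _ (rootSubgroup_le_normalizer_list c hR2 r hr L' h) hg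
  obtain ⟨t, rfl⟩ := (mem_rootSubgroup_iff c r a).mp ha
  exact ⟨y, hy, t, rfl⟩

/-- Elements of a closure commute with `g` as soon as the generators do. -/
theorem closure_commute {G : Type*} [Group G] (S : Set G) (g : G) (h : ∀ s ∈ S, s * g = g * s) (x : G)
    (hx : x ∈ Subgroup.closure S) : x * g = g * x := by
  have hle : Subgroup.closure S ≤ Subgroup.centralizer {g} := by
    rw [Subgroup.closure_le]
    intro s hs
    rw [SetLike.mem_coe, Subgroup.mem_centralizer_iff]
    intro y hy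
    rw [Set.mem_singleton_iff] at hy
    subst hy
    exact (h s hs).symm
  exact ((Subgroup.mem_centralizer_iff.mp (hle hx)) _ rfl).symm

end Cfsg.Agent.Lib.Helper81_ChevPair
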