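/-
The Chevalley group of type F₄ in characteristic 2 (helper81): centralizers of the mixed involutions
`x_47(1) x_44(1)` and `x_39(1) x_45(1)`.
Root numbering: fundamental roots p₁ = 33, p₂ = 27 (short), p₃ = 25, p₄ = 24 (long); negatives 14, 20, 22, 23.
-/
import Mathlib
import Cfsg.Agent.Lib.Helper81_ChevPair
import Cfsg.Agent.Lib.Helper18_ChevData5
import Cfsg.Prelude.Def_ChevF4

set_option autoImplicit false
set_option linter.unusedSectionVars false
set_option linter.unusedVariables false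

namespace Cfsg.Agent.Lib.Helper81_ChevF4Pair

open Cfsg Cfsg.Lie Cfsg.Agent.Lib.Helper18_ChevFast Cfsg.Agent.Lib.Helper18_ChevEngine
  Cfsg.Agent.Lib.Helper18_ChevR1 Cfsg.Agent.Lib.Helper18_ChevN Cfsg.Agent.Lib.Helper18_ChevR4
  Cfsg.Agent.Lib.Helper18_ChevSimple Cfsg.Agent.Lib.Helper18_ChevSimple2 Cfsg.Agent.Lib.Helper18_ChevFacts
  Cfsg.Agent.Lib.Helper18_ChevWeyl Cfsg.Agent.Lib.Helper18_ChevDiag Cfsg.Agent.Lib.Helper18_ChevCar
  Cfsg.Agent.Lib.Helper18_ChevTorus Cfsg.Agent.Lib.Helper18_ChevGL Cfsg.Agent.Lib.Helper18_ChevComm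
  Cfsg.Agent.Lib.Helper18_ChevComm2 Cfsg.Agent.Lib.Helper18_MatTri Cfsg.Agent.Lib.Helper18_ChevTri
  Cfsg.Agent.Lib.Helper18_ChevBorel Cfsg.Agent.Lib.Helper18_ChevAdd Cfsg.Agent.Lib.Helper18_ChevUni
  Cfsg.Agent.Lib.Helper18_ChevBN Cfsg.Agent.Lib.Helper18_ChevMono Cfsg.Agent.Lib.Helper18_ChevBNPair
  Cfsg.Agent.Lib.Helper18_ChevSimp Cfsg.Agent.Lib.Helper18_ChevJCerts Cfsg.Agent.Lib.Helper18_ChevLevi
  Cfsg.Agent.Lib.Helper18_ChevBruhat Cfsg.Agent.Lib.Helper18_ChevPar Cfsg.Agent.Lib.Helper18_ChevRootHom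
  Cfsg.Agent.Lib.Helper18_ChevCent Cfsg.Agent.Lib.Helper81_ChevParCent Cfsg.Agent.Lib.Helper81_ChevCentShort
  Cfsg.Agent.Lib.Helper81_ChevPair

/-! ### Certificates -/

/-- The long roots of F₄. -/
def longF4 : List ℕ := [1, 1, 1, 0, 1, 1, 1, 0, 0, 0, 0, 0, 0, 0, 0, 1, 1, 1, 0, 0, 0, 1, 1, 1, 1, 1, 1, 0, 0, 0, 1, 1,
  1, 0, 0, 0, 0, 0, 0, 0, 0, 1, 1, 1, 0, 1, 1, 1]

/-- The Weyl-invariant function `⟨r, s^∨⟩ + 10 [r long] + 100 [s long]` of the pairs of roots. -/
def fF4 (r s : ℕ) : ℤ :=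
  ((List.range 4).map fun i => cor chevF4 s i * chevF4.cartan i r).sum + 10 * (longF4.getD r 0 : ℤ) +
    100 * (longF4.getD s 0 : ℤ)

/-- The weights of the height function. -/
def whtF4 : List ℤ := [8, 15, 21, 11]

/-- The weights of the level function: the sum of the coefficients of `p₂` and `p₃`. -/
def wlevF4 : List ℤ := [5, 10, 14, 7]

set_option maxHeartbeats 0 in
set_option maxRecDepth 100000 in
theorem pairInv_fF4 : PairInv chevF4 fF4 := by
  unfold PairInv
  decide +kernel

set_option maxHeartbeats 0 in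
set_option maxRecDepth 100000 in
theorem pairCertF4One : PairCert chevF4 2 47 44 [] [1, 2] [20, 22] fF4 whtF4 8 3 0 where
  posα := by decide +kernel
  posβ := by decide +kernel
  ne := by decide
  notα := by decide
  notβ := by decide
  posR := by decide +kernel
  hJ := by decide +kernel
  negJ_lt := by decide +kernel
  conjU := by decide +kernel
  commα := by decide +kernel
  commβ := by decide +kernel
  inv := pairInv_fF4
  sep := by decide +kernel
  stab := by decide +kernel
  lev := by unfold ListLevel; decide +kernel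
  iα_lt := by decide
  iβ_lt := by decide
  unitα := by decide +kernel
  unitβ := by decide +kernel

set_option maxHeartbeats 0 in
set_option maxRecDepth 100000 in
theorem pairCertF4Two : PairCert chevF4 2 39 45 [40, 44, 46, 47] [0, 3] [14, 23] fF4 wlevF4 4 1 2 where
  posα := by decide +kernel
  posβ := by decide +kernel
  ne := by decide
  notα := by decide
  notβ := by decide
  posR := by decide +kernel
  hJ := by decide +kernel
  negJ_lt := by decide +kernel
  conjU := by decide +kernel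
  commα := by decide +kernel
  commβ := by decide +kernel
  inv := pairInv_fF4
  sep := by decide +kernel
  stab := by decide +kernel
  lev := by unfold ListLevel; decide +kernel
  iα_lt := by decide
  iβ_lt := by decide
  unitα := by decide +kernel
  unitβ := by decide +kernel

variable {Ns : List NData} {F : Type*} [Field F]
variable {wl : List ℤ} {ws : List (List ℤ)} {sc : ℤ} {w : List ℤ} {d : ℕ}

/-! ### General facts -/

theorem torusChar_F4 (τ : ℕ → F) (s : ℕ) : torusChar chevF4 τ s =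
    τ 0 ^ chevF4.cartan 0 s * τ 1 ^ chevF4.cartan 1 s * τ 2 ^ chevF4.cartan 2 s * τ 3 ^ chevF4.cartan 3 s := by
  unfold torusChar
  show ∏ i ∈ Finset.range 4, _ = _
  simp [Finset.prod_range_succ]

theorem torus_conj_GL (c : DCert chevF4 Ns) (tc : TCert chevF4) (h : GL chevF4.Idx F) (τ : ℕ → F)
    (hτ : ∀ i, τ i ≠ 0) (hk : (h : Matrix chevF4.Idx chevF4.Idx F) = torusMat chevF4 τ) (r : ℕ)
    (hr : r < chevF4.nroots) (a : F) : h * xGL c r a * h⁻¹ = xGL c r (torusChar chevF4 τ r * a) := by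
  rw [mul_inv_eq_iff_eq_mul]
  apply Units.ext
  rw [Units.val_mul, Units.val_mul, xGL_coe, hk, xGL_coe]
  exact torus_conj c tc τ hτ r hr a

theorem two_eq_zero [CharP F 2] : (((2 : ℤ) : ℤ) : F) = 0 := by
  have := CharP.cast_eq_zero F 2
  exact_mod_cast this

theorem closure_two (D : ChevalleyDatum) (a b : ℕ) :
    D.posUnipotent F ⊔ Subgroup.closure {g : GL D.Idx F | ∃ s ∈ [a, b], ∃ x : F,
      (g : Matrix D.Idx D.Idx F) = D.x F s x} =
    D.posUnipotent F ⊔ D.rootSubgroup F a ⊔ D.rootSubgroup F b := by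
  rw [sup_assoc]
  congr 1
  unfold ChevalleyDatum.rootSubgroup
  rw [← Subgroup.closure_union]
  congr 1
  ext g
  simp only [List.mem_cons, List.not_mem_nil, or_false, Set.mem_ofPred_eq, Set.mem_union]
  constructor
  · rintro ⟨s, rfl | rfl, x, hx⟩
    · exact Or.inl ⟨x, hx⟩
    · exact Or.inr ⟨x, hx⟩
  · rintro (⟨x, hx⟩ | ⟨x, hx⟩)
    · exact ⟨a, Or.inl rfl, x, hx⟩
    · exact ⟨b, Or.inr rfl, x, hx⟩

/-! ### The centralizer of `x_47(1) x_44(1)` -/

set_option maxHeartbeats 0 in
set_option maxRecDepth 100000 in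
theorem commCertOne : ∀ s ∈ [47, 44], s < chevF4.nroots ∧ ∀ r < chevF4.nroots,
    (chevF4.IsPosRoot r ∨ r ∈ [20, 22]) → r ≠ s →
    chevF4.neg r ≠ s ∧ ∀ term ∈ chevF4.commTerms r s, (2 : ℤ) ∣ term.2.1 := by
  decide +kernel

theorem q_commute_one [CharP F 2] (c : DCert chevF4 Ns) (hR2 : R2All chevF4 F) (s : ℕ) (hs : s ∈ [47, 44]) (u : F)
    (g : GL chevF4.Idx F) (hg : g ∈ Subgroup.closure (qGens chevF4 F [20, 22])) :
    g * xGL c s u = xGL c s u * g := by
  apply closure_commute _ _ _ g hg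
  rintro x ⟨r, a, hr, hx⟩
  rw [eq_xGL c hx]
  obtain ⟨hslt, hall⟩ := commCertOne s hs
  have hrlt : r < chevF4.nroots := by
    rcases hr with h | h
    · exact h.1
    · have : ∀ r ∈ [20, 22], r < chevF4.nroots := by decide
      exact this r h
  by_cases hrs : r = s
  · rw [hrs, xGL_mul, xGL_mul, add_comm]
  · obtain ⟨hneg, hdvd⟩ := hall r hrlt hr hrs
    exact commute_of_dvd c hR2 two_eq_zero r s hrlt hslt (fun h => hrs h.symm) (fun h => hneg h.symm) hdvd a u

set_option maxHeartbeats 0 in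
theorem cartanOne : (∀ j < 4, chevF4.cartan j 47 = if j = 3 then 1 else 0) ∧
    (∀ j < 4, chevF4.cartan j 44 = if j = 0 then 1 else 0) := by
  decide +kernel

/-- The centralizer of `x_47(1) x_44(1)` in `F₄(F)`, `F` of characteristic 2. -/
theorem centralizer_one [CharP F 2] (c : DCert chevF4 Ns) (tc : TCert chevF4) (ac : ACert chevF4 wl ws sc)
    (gc : GCert chevF4 w d) (hdesc : Descent chevF4) (hR2 : R2All chevF4 F) (y : GL chevF4.Idx F)
    (hy : (y : Matrix chevF4.Idx chevF4.Idx F) = chevF4.x F 47 1 * chevF4.x F 44 1) :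
    chevF4.group F ⊓ Subgroup.centralizer {y} =
      chevF4.posUnipotent F ⊔ chevF4.rootSubgroup F 20 ⊔ chevF4.rootSubgroup F 22 := by
  have hyx : y = xGL c 47 1 * xGL c 44 1 := by
    apply Units.ext
    rw [hy, Units.val_mul, xGL_coe, xGL_coe]
  subst hyx
  rw [← closure_two, ← closure_qGens_eq]
  have hQy : ∀ q ∈ Subgroup.closure (qGens chevF4 F [20, 22]),
      q * (xGL c 47 1 * xGL c 44 1) = (xGL c 47 1 * xGL c 44 1) * q := by
    intro q hq
    rw [← mul_assoc, q_commute_one c hR2 47 (by simp) 1 q hq, mul_assoc, q_commute_one c hR2 44 (by simp) 1 q hq,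
      mul_assoc]
  apply le_antisymm
  · intro g hg
    rw [Subgroup.mem_inf] at hg
    obtain ⟨hgG, hgC⟩ := hg
    rw [Subgroup.mem_centralizer_iff] at hgC
    have hgt : (xGL c 47 1 * xGL c 44 1) * g = g * (xGL c 47 1 * xGL c 44 1) := hgC _ rfl
    have h1 := mem_q_sup_diagonal_pair c tc ac gc hdesc hR2 pairCertF4One two_eq_zero g hgG hgt
    obtain ⟨q, hq, h, hh, rfl⟩ :=
      exists_mul_of_mem_sup _ _ (diagonal_le_normalizer_q' c tc [20, 22] (by decide)) h1
    apply Subgroup.mul_mem _ hq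
    -- `h` centralizes `y`
    have hhy : h * (xGL c 47 1 * xGL c 44 1) * h⁻¹ = xGL c 47 1 * xGL c 44 1 := by
      have e1 : h = q⁻¹ * (q * h) := by group
      rw [e1]
      have e2 : q⁻¹ * (q * h) * (xGL c 47 1 * xGL c 44 1) * (q⁻¹ * (q * h))⁻¹ =
          q⁻¹ * ((q * h) * (xGL c 47 1 * xGL c 44 1)) * (q * h)⁻¹ * q := by group
      rw [e2, ← hgt]
      have e3 : q⁻¹ * ((xGL c 47 1 * xGL c 44 1) * (q * h)) * (q * h)⁻¹ * q =
          q⁻¹ * ((xGL c 47 1 * xGL c 44 1) * q) := by group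
      rw [e3, ← hQy q hq]
      group
    obtain ⟨τ, hτ, hk⟩ := exists_torus_of_mem c tc h hh
    have e47 := torus_conj_GL c tc h τ hτ hk 47 (by decide) 1
    have e44 := torus_conj_GL c tc h τ hτ hk 44 (by decide) 1
    have e : xGL c 47 (torusChar chevF4 τ 47 * 1) * xGL c 44 (torusChar chevF4 τ 44 * 1) =
        xGL c 47 1 * xGL c 44 1 := by
      rw [← e47, ← e44, ← hhy]
      group
    have hu := unique_word c tc ac [47, 44] (by decide) (by decide +kernel)
      (fun r => if r = 47 then torusChar chevF4 τ 47 * 1 else torusChar chevF4 τ 44 * 1) (fun _ => 1) (by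
        rw [← wordGL_coe c, ← wordGL_coe c]
        refine congrArg (fun g : GL chevF4.Idx F => (g : Matrix chevF4.Idx chevF4.Idx F)) ?_
        simp only [List.map_cons, List.map_nil, wordGL_cons, wordGL_nil, mul_one]
        norm_num
        simpa using e)
    have h47 := hu 47 (by simp)
    have h44 := hu 44 (by simp)
    norm_num at h47 h44
    rw [torusChar_F4] at h47 h44
    obtain ⟨c47, c44⟩ := cartanOne
    rw [c47 0 (by omega), c47 1 (by omega), c47 2 (by omega), c47 3 (by omega)] at h47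
    rw [c44 0 (by omega), c44 1 (by omega), c44 2 (by omega), c44 3 (by omega)] at h44
    norm_num at h47 h44
    apply diagonal_mem_of_torus c tc [1, 2] _ _ h τ hτ hk
    · intro k hk3 hkJ
      have : k = 0 ∨ k = 3 := by
        have : chevF4.rank = 4 := rfl
        simp only [List.mem_cons, List.not_mem_nil, or_false, not_or] at hkJ
        omega
      rcases this with rfl | rfl
      · exact h44
      · exact h47
    · intro j hj _ a
      exact hGL_mem_q_pair c tc pairCertF4One j hj a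
  · intro g hg
    rw [Subgroup.mem_inf]
    constructor
    · have hle : Subgroup.closure (qGens chevF4 F [20, 22]) ≤ chevF4.group F := by
        rw [Subgroup.closure_le]
        rintro x ⟨r, a, hr, hx⟩
        rw [SetLike.mem_coe, eq_xGL c hx]
        exact xGL_mem_group c r a
      exact hle hg
    · rw [Subgroup.mem_centralizer_iff]
      intro z hz
      rw [Set.mem_singleton_iff] at hz
      subst hz
      exact (hQy g hg).symm

end Cfsg.Agent.Lib.Helper81_ChevF4Pair
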