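/-
The Chevalley group of type F₄ in characteristic 2 (helper81): the centralizer of the mixed involution
`x_39(1) x_45(1)` (roots (1,2,2,1) and (2,4,2,1)).
-/
import Mathlib
import Cfsg.Agent.Lib.Helper81_ChevF4Pair

set_option autoImplicit false
set_option linter.unusedSectionVars false
set_option linter.unusedVariables false

namespace Cfsg.Agent.Lib.Helper81_ChevF4PairB

open Cfsg Cfsg.Lie Cfsg.Agent.Lib.Helper18_ChevFast Cfsg.Agent.Lib.Helper18_ChevEngine
  Cfsg.Agent.Lib.Helper18_ChevR1 Cfsg.Agent.Lib.Helper18_ChevN Cfsg.Agent.Lib.Helper18_ChevR4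
  Cfsg.Agent.Lib.Helper18_ChevSimple Cfsg.Agent.Lib.Helper18_ChevSimple2 Cfsg.Agent.Lib.Helper18_ChevFacts
  Cfsg.Agent.Lib.Helper18_ChevWeyl Cfsg.Agent.Lib.Helper18_ChevDiag Cfsg.Agent.Lib.Helper18_ChevCar
  Cfsg.Agent.Lib.Helper18_ChevTorus Cfsg.Agent.Lib.Helper18_ChevGL Cfsg.Agent.Lib.Helper18_ChevComm
  Cfsg.Agent.Lib.Helper18_ChevComm2 Cfsg.Agent.Lib.Helper18_MatTri Cfsg.Agent.Lib.Helper18_ChevTri
  Cfsg.Agent.Lib.Helper18_ChevBorel Cfsg.Agent.Lib.Helper18_ChevAdd Cfsg.Agent.Lib.Helper18_ChevUni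
  Cfsg.Agent.Lib.Helper18_ChevBN Cfsg.Agent.Lib.Helper18_ChevMono Cfsg.Agent.Lib.Helper18_ChevBNPair
  Cfsg.Agent.Lib.Helper18_ChevSimp Cfsg.Agent.Lib.Helper18_ChevJCerts Cfsg.Agent.Lib.Helper18_ChevLevi
  Cfsg.Agent.Lib.Helper18_ChevBruhat Cfsg.Agent.Lib.Helper18_ChevPar Cfsg.Agent.Lib.Helper18_ChevRootHom
  Cfsg.Agent.Lib.Helper18_ChevCent Cfsg.Agent.Lib.Helper81_ChevParCent Cfsg.Agent.Lib.Helper81_ChevCentShort
  Cfsg.Agent.Lib.Helper81_ChevPair Cfsg.Agent.Lib.Helper81_ChevF4Pair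

/-! ### Lists of roots and certificates -/

/-- The positive roots of level at least 2 (the level is the sum of the coefficients of `p₂` and `p₃`). -/
def L2 : List ℕ := [28, 29, 30, 31, 32, 35, 36, 37, 38, 39, 40, 41, 42, 43, 44, 45, 46, 47]

def L3 : List ℕ := 34 :: L2
def L4 : List ℕ := 27 :: L3
def L5 : List ℕ := 26 :: L4
/-- The roots of the unipotent radical of the parabolic subgroup of `{p₁, p₄}`. -/
def L6 : List ℕ := 25 :: L5

/-- The condition for `X_r` to normalize the group of the list `L'`. -/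
def NormCond (r : ℕ) (L' : List ℕ) : Prop :=
  ∀ s ∈ L', s < chevF4.nroots ∧ (s = r ∨ (s ≠ chevF4.neg r ∧ ∀ k ∈ chevF4.commTerms r s, k.1 ∈ L'))

instance (r : ℕ) (L' : List ℕ) : Decidable (NormCond r L') := by
  unfold NormCond
  infer_instance

set_option maxHeartbeats 0 in
set_option maxRecDepth 100000 in
theorem normChain : NormCond 34 L2 ∧ NormCond 27 L3 ∧ NormCond 26 L4 ∧ NormCond 25 L5 := by
  decide +kernel

set_option maxHeartbeats 0 in
set_option maxRecDepth 100000 in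
theorem normK : ∀ r ∈ [33, 14, 24, 23], r < chevF4.nroots ∧ NormCond r L6 := by
  decide +kernel

set_option maxHeartbeats 0 in
set_option maxRecDepth 100000 in
theorem commK : ∀ r ∈ [33, 14, 24, 23], ∀ s ∈ [39, 45], r < chevF4.nroots ∧ s < chevF4.nroots ∧ s ≠ r ∧
    s ≠ chevF4.neg r ∧ ∀ term ∈ chevF4.commTerms r s, (2 : ℤ) ∣ term.2.1 := by
  decide +kernel

set_option maxHeartbeats 0 in
set_option maxRecDepth 100000 in
theorem commL2 : ∀ r ∈ L2, ∀ s ∈ [39, 40, 44, 45, 46, 47], r < chevF4.nroots ∧ s < chevF4.nroots ∧ (r ≠ s →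
    s ≠ chevF4.neg r ∧ ∀ term ∈ chevF4.commTerms r s, (2 : ℤ) ∣ term.2.1) := by
  decide +kernel

set_option maxHeartbeats 0 in
set_option maxRecDepth 100000 in
theorem commFix : ∀ p ∈ [(25, 39), (25, 46), (26, 39), (26, 46), (27, 45), (27, 46), (27, 47), (34, 40), (34, 45),
    (34, 46), (34, 47)], p.1 < chevF4.nroots ∧ p.2 < chevF4.nroots ∧ p.2 ≠ p.1 ∧ p.2 ≠ chevF4.neg p.1 ∧
      ∀ term ∈ chevF4.commTerms p.1 p.2, (2 : ℤ) ∣ term.2.1 := by
  decide +kernel

set_option maxHeartbeats 0 in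
set_option maxRecDepth 100000 in
theorem commSingle : ∀ p ∈ [(25, 45, 46), (26, 45, 47), (27, 39, 40), (34, 39, 44)],
    p.1 < chevF4.nroots ∧ p.2.1 < chevF4.nroots ∧ p.2.1 ≠ p.1 ∧ p.2.1 ≠ chevF4.neg p.1 ∧
      chevF4.commTerms p.1 p.2.1 = [(p.2.2, 1, 1, 1)] := by
  decide +kernel

set_option maxHeartbeats 0 in
set_option maxRecDepth 100000 in
theorem commGens : ∀ s ∈ [39, 45], s < chevF4.nroots ∧ ∀ r < chevF4.nroots,
    ((chevF4.IsPosRoot r ∧ r ∉ [27, 25, 34, 26]) ∨ r ∈ [33, 14, 24, 23]) → r ≠ s →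
    chevF4.neg r ≠ s ∧ ∀ term ∈ chevF4.commTerms r s, (2 : ℤ) ∣ term.2.1 := by
  decide +kernel

set_option maxHeartbeats 0 in
theorem posCases : ∀ r, chevF4.IsPosRoot r → r ∈ L6 ∨ r = 33 ∨ r = 24 := by
  intro r hr
  have h1 : r < 48 := hr.1
  have : ∀ r < 48, chevF4.IsPosRoot r → r ∈ L6 ∨ r = 33 ∨ r = 24 := by decide +kernel
  exact this r h1 hr

set_option maxHeartbeats 0 in
theorem L2_pos : ∀ s ∈ L2, chevF4.IsPosRoot s ∧ s ∉ [27, 25, 34, 26] := by
  decide +kernel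

set_option maxHeartbeats 0 in
theorem cartanTwo : (∀ j < 4, chevF4.cartan j 39 = [0, -1, 1, 0].getD j 0) ∧
    (∀ j < 4, chevF4.cartan j 45 = [0, 2, -1, 0].getD j 0) := by
  decide +kernel

variable {Ns : List NData} {F : Type*} [Field F]
variable {wl : List ℤ} {ws : List (List ℤ)} {sc : ℤ} {w : List ℤ} {d : ℕ}

/-! ### The subgroups -/

/-- The unipotent radical of the parabolic subgroup of `{p₁, p₄}`. -/
def UJ (F : Type*) [Field F] : Subgroup (GL chevF4.Idx F) := Subgroup.closure (listGens chevF4 F L6)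

/-- The subgroup of `U_J` generated by the root subgroups of level at least 2. -/
def Q2 (F : Type*) [Field F] : Subgroup (GL chevF4.Idx F) := Subgroup.closure (listGens chevF4 F L2)

/-- The subgroup generated by `X_{±p₁}` and `X_{±p₄}`. -/
def KJ (F : Type*) [Field F] : Subgroup (GL chevF4.Idx F) :=
  chevF4.rootSubgroup F 33 ⊔ chevF4.rootSubgroup F 14 ⊔ chevF4.rootSubgroup F 24 ⊔ chevF4.rootSubgroup F 23

theorem xGL_mem_KJ (c : DCert chevF4 Ns) (r : ℕ) (hr : r ∈ [33, 14, 24, 23]) (a : F) : xGL c r a ∈ KJ F := by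
  have hm : xGL c r a ∈ chevF4.rootSubgroup F r := (mem_rootSubgroup_iff c r _).mpr ⟨a, rfl⟩
  simp only [List.mem_cons, List.not_mem_nil, or_false] at hr
  unfold KJ
  rcases hr with rfl | rfl | rfl | rfl
  · exact Subgroup.mem_sup_left (Subgroup.mem_sup_left (Subgroup.mem_sup_left hm))
  · exact Subgroup.mem_sup_left (Subgroup.mem_sup_left (Subgroup.mem_sup_right hm))
  · exact Subgroup.mem_sup_left (Subgroup.mem_sup_right hm)
  · exact Subgroup.mem_sup_right hm

theorem KJ_le (K : Subgroup (GL chevF4.Idx F)) (h : ∀ r ∈ [33, 14, 24, 23], chevF4.rootSubgroup F r ≤ K) :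
    KJ F ≤ K := by
  unfold KJ
  exact sup_le (sup_le (sup_le (h 33 (by simp)) (h 14 (by simp))) (h 24 (by simp))) (h 23 (by simp))

theorem KJ_le_normalizer (c : DCert chevF4 Ns) (hR2 : R2All chevF4 F) :
    KJ F ≤ Subgroup.normalizer (UJ F : Set (GL chevF4.Idx F)) := by
  apply KJ_le
  intro r hr
  obtain ⟨hrlt, hcond⟩ := normK r hr
  exact rootSubgroup_le_normalizer_list c hR2 r hrlt L6 hcond

theorem q_le : Subgroup.closure (qGens chevF4 F [14, 23]) ≤ UJ F ⊔ KJ F := by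
  rw [Subgroup.closure_le]
  rintro g ⟨r, a, hr, hg⟩
  rcases hr with hr | hr
  · rcases posCases r hr with hL | rfl | rfl
    · exact Subgroup.mem_sup_left (Subgroup.subset_closure ⟨r, hL, a, hg⟩)
    · apply Subgroup.mem_sup_right
      unfold KJ
      exact Subgroup.mem_sup_left (Subgroup.mem_sup_left (Subgroup.mem_sup_left (Subgroup.subset_closure ⟨a, hg⟩)))
    · apply Subgroup.mem_sup_right
      unfold KJ
      exact Subgroup.mem_sup_left (Subgroup.mem_sup_right (Subgroup.subset_closure ⟨a, hg⟩))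
  · simp only [List.mem_cons, List.not_mem_nil, or_false] at hr
    apply Subgroup.mem_sup_right
    unfold KJ
    rcases hr with rfl | rfl
    · exact Subgroup.mem_sup_left (Subgroup.mem_sup_left (Subgroup.mem_sup_right (Subgroup.subset_closure ⟨a, hg⟩)))
    · exact Subgroup.mem_sup_right (Subgroup.subset_closure ⟨a, hg⟩)

/-- `K` centralizes `X_39` and `X_45`. -/
theorem KJ_commute [CharP F 2] (c : DCert chevF4 Ns) (hR2 : R2All chevF4 F) (s : ℕ) (hs : s ∈ [39, 45]) (u : F)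
    (k : GL chevF4.Idx F) (hk : k ∈ KJ F) : k * xGL c s u = xGL c s u * k := by
  have hle : KJ F ≤ Subgroup.centralizer {xGL c s u} := by
    apply KJ_le
    intro r hr
    unfold ChevalleyDatum.rootSubgroup
    rw [Subgroup.closure_le]
    rintro g ⟨t, hg⟩
    rw [SetLike.mem_coe, eq_xGL c hg, Subgroup.mem_centralizer_iff]
    intro y hy
    rw [Set.mem_singleton_iff] at hy
    subst hy
    obtain ⟨hrlt, hslt, hne, hneg, hdvd⟩ := commK r hr s hs
    exact (commute_of_dvd c hR2 two_eq_zero r s hrlt hslt hne hneg hdvd t u).symm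
  exact ((Subgroup.mem_centralizer_iff.mp (hle hk)) _ rfl).symm

/-- `Q₂` centralizes the root subgroups of `39, 40, 44, 45, 46, 47`. -/
theorem Q2_commute [CharP F 2] (c : DCert chevF4 Ns) (hR2 : R2All chevF4 F) (s : ℕ)
    (hs : s ∈ [39, 40, 44, 45, 46, 47]) (u : F) (q : GL chevF4.Idx F) (hq : q ∈ Q2 F) :
    q * xGL c s u = xGL c s u * q := by
  apply closure_commute _ _ _ q hq
  rintro x ⟨r, hr, a, hx⟩
  rw [eq_xGL c hx]
  obtain ⟨hrlt, hslt, hcase⟩ := commL2 r hr s hs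
  by_cases hrs : r = s
  · rw [hrs, xGL_mul, xGL_mul, add_comm]
  · obtain ⟨hneg, hdvd⟩ := hcase hrs
    exact commute_of_dvd c hR2 two_eq_zero r s hrlt hslt (fun h => hrs h.symm) hneg hdvd a u

theorem Q2_conj [CharP F 2] (c : DCert chevF4 Ns) (hR2 : R2All chevF4 F) (s : ℕ)
    (hs : s ∈ [39, 40, 44, 45, 46, 47]) (u : F) (q : GL chevF4.Idx F) (hq : q ∈ Q2 F) :
    MulAut.conj q (xGL c s u) = xGL c s u := by
  rw [MulAut.conj_apply, Q2_commute c hR2 s hs u q hq]
  group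

theorem fix_conj [CharP F 2] (c : DCert chevF4 Ns) (hR2 : R2All chevF4 F) (r s : ℕ)
    (hp : (r, s) ∈ [(25, 39), (25, 46), (26, 39), (26, 46), (27, 45), (27, 46), (27, 47), (34, 40), (34, 45),
      (34, 46), (34, 47)]) (t u : F) : MulAut.conj (xGL c r t) (xGL c s u) = xGL c s u := by
  obtain ⟨hrlt, hslt, hne, hneg, hdvd⟩ := commFix (r, s) hp
  rw [MulAut.conj_apply]
  exact conj_fix c hR2 two_eq_zero r s hrlt hslt hne hneg hdvd t u

theorem single_conj (c : DCert chevF4 Ns) (hR2 : R2All chevF4 F) (r s k : ℕ)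
    (hp : (r, s, k) ∈ [(25, 45, 46), (26, 45, 47), (27, 39, 40), (34, 39, 44)]) (t u : F) :
    MulAut.conj (xGL c r t) (xGL c s u) = xGL c s u * xGL c k (t * u) := by
  obtain ⟨hrlt, hslt, hne, hneg, hterms⟩ := commSingle (r, s, k) hp
  rw [MulAut.conj_apply, conj_single c hR2 r s k 1 hrlt hslt hne hneg hterms t u, Int.cast_one, one_mul]

/-- An element of `U_J` that conjugates `x_39(χ₁) x_45(χ₂)` to `x_39(1) x_45(1)` lies in `Q₂`, and `χ₁ = χ₂ = 1`. -/
theorem UJ_conj_two [CharP F 2] (c : DCert chevF4 Ns) (tc : TCert chevF4) (ac : ACert chevF4 wl ws sc)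
    (hR2 : R2All chevF4 F) (v : GL chevF4.Idx F) (hv : v ∈ UJ F) (χ₁ χ₂ : F)
    (h : v * (xGL c 39 χ₁ * xGL c 45 χ₂) * v⁻¹ = xGL c 39 1 * xGL c 45 1) :
    χ₁ = 1 ∧ χ₂ = 1 ∧ v ∈ Q2 F := by
  obtain ⟨n34, n27, n26, n25⟩ := normChain
  obtain ⟨v₁, hv₁, a, rfl⟩ := exists_mul_of_mem_cons c hR2 25 (by decide) L5 n25 v hv
  obtain ⟨v₂, hv₂, b, rfl⟩ := exists_mul_of_mem_cons c hR2 26 (by decide) L4 n26 v₁ hv₁
  obtain ⟨v₃, hv₃, cc, rfl⟩ := exists_mul_of_mem_cons c hR2 27 (by decide) L3 n27 v₂ hv₂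
  obtain ⟨q, hq, dd, rfl⟩ := exists_mul_of_mem_cons c hR2 34 (by decide) L2 n34 v₃ hv₃
  have hq' : q ∈ Q2 F := hq
  -- the conjugate, step by step
  have s1 : MulAut.conj (xGL c 25 a) (xGL c 39 χ₁ * xGL c 45 χ₂) =
      xGL c 39 χ₁ * (xGL c 45 χ₂ * xGL c 46 (a * χ₂)) := by
    rw [map_mul, fix_conj c hR2 25 39 (by simp), single_conj c hR2 25 45 46 (by simp)]
  have s2 : MulAut.conj (xGL c 26 b) (xGL c 39 χ₁ * (xGL c 45 χ₂ * xGL c 46 (a * χ₂))) =
      xGL c 39 χ₁ * (xGL c 45 χ₂ * xGL c 47 (b * χ₂) * xGL c 46 (a * χ₂)) := by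
    rw [map_mul, map_mul, fix_conj c hR2 26 39 (by simp), single_conj c hR2 26 45 47 (by simp),
      fix_conj c hR2 26 46 (by simp)]
  have s3 : MulAut.conj (xGL c 27 cc) (xGL c 39 χ₁ * (xGL c 45 χ₂ * xGL c 47 (b * χ₂) * xGL c 46 (a * χ₂))) =
      xGL c 39 χ₁ * xGL c 40 (cc * χ₁) * (xGL c 45 χ₂ * xGL c 47 (b * χ₂) * xGL c 46 (a * χ₂)) := by
    rw [map_mul, map_mul, map_mul, single_conj c hR2 27 39 40 (by simp), fix_conj c hR2 27 45 (by simp),
      fix_conj c hR2 27 47 (by simp), fix_conj c hR2 27 46 (by simp)]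
  have s4 : MulAut.conj (xGL c 34 dd)
      (xGL c 39 χ₁ * xGL c 40 (cc * χ₁) * (xGL c 45 χ₂ * xGL c 47 (b * χ₂) * xGL c 46 (a * χ₂))) =
      xGL c 39 χ₁ * xGL c 44 (dd * χ₁) * xGL c 40 (cc * χ₁) *
        (xGL c 45 χ₂ * xGL c 47 (b * χ₂) * xGL c 46 (a * χ₂)) := by
    rw [map_mul, map_mul, map_mul, map_mul, single_conj c hR2 34 39 44 (by simp), fix_conj c hR2 34 40 (by simp),
      fix_conj c hR2 34 45 (by simp), fix_conj c hR2 34 47 (by simp), fix_conj c hR2 34 46 (by simp)]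
  have s5 : MulAut.conj q (xGL c 39 χ₁ * xGL c 44 (dd * χ₁) * xGL c 40 (cc * χ₁) *
        (xGL c 45 χ₂ * xGL c 47 (b * χ₂) * xGL c 46 (a * χ₂))) =
      xGL c 39 χ₁ * xGL c 44 (dd * χ₁) * xGL c 40 (cc * χ₁) *
        (xGL c 45 χ₂ * xGL c 47 (b * χ₂) * xGL c 46 (a * χ₂)) := by
    rw [map_mul, map_mul, map_mul, map_mul, map_mul, Q2_conj c hR2 39 (by simp) _ q hq',
      Q2_conj c hR2 44 (by simp) _ q hq', Q2_conj c hR2 40 (by simp) _ q hq', Q2_conj c hR2 45 (by simp) _ q hq',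
      Q2_conj c hR2 47 (by simp) _ q hq', Q2_conj c hR2 46 (by simp) _ q hq']
  have e : xGL c 39 χ₁ * xGL c 44 (dd * χ₁) * xGL c 40 (cc * χ₁) *
        (xGL c 45 χ₂ * xGL c 47 (b * χ₂) * xGL c 46 (a * χ₂)) = xGL c 39 1 * xGL c 45 1 := by
    rw [← h, ← s5, ← s4, ← s3, ← s2, ← s1]
    simp only [MulAut.conj_apply]
    group
  -- uniqueness of the parameters
  have hu := unique_word c tc ac [39, 44, 40, 45, 47, 46] (by decide) (by decide +kernel)
    (fun r => if r = 39 then χ₁ else if r = 44 then dd * χ₁ else if r = 40 then cc * χ₁ else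
      if r = 45 then χ₂ else if r = 47 then b * χ₂ else a * χ₂)
    (fun r => if r = 39 then 1 else if r = 45 then 1 else 0) (by
      rw [← wordGL_coe c, ← wordGL_coe c]
      refine congrArg (fun g : GL chevF4.Idx F => (g : Matrix chevF4.Idx chevF4.Idx F)) ?_
      simp only [List.map_cons, List.map_nil, wordGL_cons, wordGL_nil, mul_one]
      norm_num [xGL_zero]
      rw [← e]
      group)
  have h39 := hu 39 (by simp)
  have h44 := hu 44 (by simp)
  have h40 := hu 40 (by simp)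
  have h45 := hu 45 (by simp)
  have h47 := hu 47 (by simp)
  have h46 := hu 46 (by simp)
  norm_num at h39 h44 h40 h45 h47 h46
  subst h39
  subst h45
  have hd : dd = 0 := h44.resolve_right one_ne_zero
  have hc : cc = 0 := h40.resolve_right one_ne_zero
  have hb : b = 0 := h47.resolve_right one_ne_zero
  have ha : a = 0 := h46.resolve_right one_ne_zero
  refine ⟨rfl, rfl, ?_⟩
  rw [hd, hc, hb, ha, xGL_zero, xGL_zero, xGL_zero, xGL_zero, mul_one, mul_one, mul_one, mul_one]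
  exact hq'

/-! ### The centralizer -/

theorem hGL_mem_KJ (c : DCert chevF4 Ns) (j : ℕ) (hj : j ∈ [0, 3]) (a : F) :
    hGL c (chevF4.simple j) a ∈ KJ F := by
  have hroots : ∀ (b : F), ∀ p ∈ chevF4.nWord (chevF4.simple j) b, p.1 ∈ [33, 14, 24, 23] := by
    intro b p hp
    unfold ChevalleyDatum.nWord at hp
    simp only [List.mem_cons, List.not_mem_nil, or_false] at hp hj
    have h1 : chevF4.simple 0 = 33 ∧ chevF4.neg 33 = 14 ∧ chevF4.simple 3 = 24 ∧ chevF4.neg 24 = 23 := by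
      decide +kernel
    obtain ⟨e1, e2, e3, e4⟩ := h1
    rcases hj with rfl | rfl
    · rw [e1, e2] at hp
      rcases hp with rfl | rfl | rfl <;> simp
    · rw [e3, e4] at hp
      rcases hp with rfl | rfl | rfl <;> simp
  apply wordGL_mem
  intro p hp
  unfold ChevalleyDatum.hWord at hp
  rw [List.mem_append] at hp
  rcases hp with hp | hp
  · exact xGL_mem_KJ c p.1 (hroots a p hp) p.2
  · exact xGL_mem_KJ c p.1 (hroots (-1) p hp) p.2

/-- The generators of the centralizer commute with `x_39(1) x_45(1)`. -/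
theorem gens_commute [CharP F 2] (c : DCert chevF4 Ns) (hR2 : R2All chevF4 F) (r : ℕ)
    (hr : (chevF4.IsPosRoot r ∧ r ∉ [27, 25, 34, 26]) ∨ r ∈ [33, 14, 24, 23]) (a : F) :
    xGL c r a * (xGL c 39 1 * xGL c 45 1) = (xGL c 39 1 * xGL c 45 1) * xGL c r a := by
  have hrlt : r < chevF4.nroots := by
    rcases hr with h | h
    · exact h.1.1
    · have : ∀ r ∈ [33, 14, 24, 23], r < chevF4.nroots := by decide
      exact this r h
  have key : ∀ s ∈ [39, 45], ∀ u : F, xGL c r a * xGL c s u = xGL c s u * xGL c r a := by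
    intro s hs u
    obtain ⟨hslt, hall⟩ := commGens s hs
    by_cases hrs : r = s
    · rw [hrs, xGL_mul, xGL_mul, add_comm]
    · obtain ⟨hneg, hdvd⟩ := hall r hrlt hr hrs
      exact commute_of_dvd c hR2 two_eq_zero r s hrlt hslt (fun h => hrs h.symm) (fun h => hneg h.symm) hdvd a u
  rw [← mul_assoc, key 39 (by simp) 1, mul_assoc, key 45 (by simp) 1, mul_assoc]

/-- The centralizer of `x_39(1) x_45(1)` in `F₄(F)`, `F` of characteristic 2. -/
theorem centralizer_two [CharP F 2] (c : DCert chevF4 Ns) (tc : TCert chevF4) (ac : ACert chevF4 wl ws sc)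
    (gc : GCert chevF4 w d) (hdesc : Descent chevF4) (hR2 : R2All chevF4 F) (y : GL chevF4.Idx F)
    (hy : (y : Matrix chevF4.Idx chevF4.Idx F) = chevF4.x F 39 1 * chevF4.x F 45 1) :
    chevF4.group F ⊓ Subgroup.centralizer {y} =
      chevF4.rootSubgroup F 33 ⊔ chevF4.rootSubgroup F 14 ⊔ chevF4.rootSubgroup F 24 ⊔ chevF4.rootSubgroup F 23 ⊔
        Subgroup.closure {g : GL chevF4.Idx F | ∃ (r : ℕ) (c : F), chevF4.IsPosRoot r ∧ r ∉ [27, 25, 34, 26] ∧
          (g : Matrix chevF4.Idx chevF4.Idx F) = chevF4.x F r c} := by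
  have hyx : y = xGL c 39 1 * xGL c 45 1 := by
    apply Units.ext
    rw [hy, Units.val_mul, xGL_coe, xGL_coe]
  subst hyx
  show _ = KJ F ⊔ _
  apply le_antisymm
  · intro g hg
    rw [Subgroup.mem_inf] at hg
    obtain ⟨hgG, hgC⟩ := hg
    rw [Subgroup.mem_centralizer_iff] at hgC
    have hgt : (xGL c 39 1 * xGL c 45 1) * g = g * (xGL c 39 1 * xGL c 45 1) := hgC _ rfl
    have h1 := mem_q_sup_diagonal_pair c tc ac gc hdesc hR2 pairCertF4Two two_eq_zero g hgG hgt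
    obtain ⟨q, hq, h, hh, rfl⟩ :=
      exists_mul_of_mem_sup _ _ (diagonal_le_normalizer_q' c tc [14, 23] (by decide)) h1
    obtain ⟨v, hv, k, hk, rfl⟩ := exists_mul_of_mem_sup (UJ F) (KJ F) (KJ_le_normalizer c hR2) (q_le hq)
    obtain ⟨τ, hτ, hkτ⟩ := exists_torus_of_mem c tc h hh
    have e39 := torus_conj_GL c tc h τ hτ hkτ 39 (by decide) 1
    have e45 := torus_conj_GL c tc h τ hτ hkτ 45 (by decide) 1
    have hk39 := KJ_commute c hR2 39 (by simp) (torusChar chevF4 τ 39 * 1) k hk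
    have hk45 := KJ_commute c hR2 45 (by simp) (torusChar chevF4 τ 45 * 1) k hk
    have e : v * (xGL c 39 (torusChar chevF4 τ 39 * 1) * xGL c 45 (torusChar chevF4 τ 45 * 1)) * v⁻¹ =
        xGL c 39 1 * xGL c 45 1 := by
      have e1 : v * (xGL c 39 (torusChar chevF4 τ 39 * 1) * xGL c 45 (torusChar chevF4 τ 45 * 1)) * v⁻¹ =
          v * ((k * xGL c 39 (torusChar chevF4 τ 39 * 1)) * xGL c 45 (torusChar chevF4 τ 45 * 1)) * k⁻¹ * v⁻¹ := by
        rw [hk39, mul_assoc (xGL c 39 _) k, hk45]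
        group
      rw [e1, ← e39, ← e45]
      have e2 : v * (k * (h * xGL c 39 1 * h⁻¹) * (h * xGL c 45 1 * h⁻¹)) * k⁻¹ * v⁻¹ =
          (v * k * h) * (xGL c 39 1 * xGL c 45 1) * (v * k * h)⁻¹ := by group
      rw [e2, ← hgt]
      group
    obtain ⟨h39, h45, hvQ⟩ := UJ_conj_two c tc ac hR2 v hv _ _ e
    rw [mul_one, torusChar_F4] at h39 h45
    obtain ⟨c39, c45⟩ := cartanTwo
    rw [c39 0 (by omega), c39 1 (by omega), c39 2 (by omega), c39 3 (by omega)] at h39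
    rw [c45 0 (by omega), c45 1 (by omega), c45 2 (by omega), c45 3 (by omega)] at h45
    norm_num at h39 h45
    have ht1 := hτ 1
    have ht2 := hτ 2
    have h21 : τ 2 = τ 1 := by
      field_simp at h39
      exact h39
    have h11 : τ 1 = 1 := by
      rw [h21] at h45
      field_simp at h45
      exact h45
    have hhK : h ∈ KJ F := by
      apply diagonal_mem_of_torus c tc [0, 3] _ _ h τ hτ hkτ
      · intro k' hk3 hkJ
        have : k' = 1 ∨ k' = 2 := by
          have : chevF4.rank = 4 := rfl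
          simp only [List.mem_cons, List.not_mem_nil, or_false, not_or] at hkJ
          omega
        rcases this with rfl | rfl
        · exact h11
        · rw [h21, h11]
      · intro j hj _ a
        exact hGL_mem_KJ c j hj a
    have hvR : v ∈ Subgroup.closure {g : GL chevF4.Idx F | ∃ (r : ℕ) (c : F), chevF4.IsPosRoot r ∧
        r ∉ [27, 25, 34, 26] ∧ (g : Matrix chevF4.Idx chevF4.Idx F) = chevF4.x F r c} := by
      have hle : Q2 F ≤ Subgroup.closure {g : GL chevF4.Idx F | ∃ (r : ℕ) (c : F), chevF4.IsPosRoot r ∧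
          r ∉ [27, 25, 34, 26] ∧ (g : Matrix chevF4.Idx chevF4.Idx F) = chevF4.x F r c} := by
        apply Subgroup.closure_mono
        rintro g ⟨s, hs, t, hg⟩
        exact ⟨s, t, (L2_pos s hs).1, (L2_pos s hs).2, hg⟩
      exact hle hvQ
    exact Subgroup.mul_mem _ (Subgroup.mul_mem _ (Subgroup.mem_sup_right hvR) (Subgroup.mem_sup_left hk))
      (Subgroup.mem_sup_left hhK)
  · have hgen : ∀ r, ((chevF4.IsPosRoot r ∧ r ∉ [27, 25, 34, 26]) ∨ r ∈ [33, 14, 24, 23]) → ∀ a : F,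
        xGL c r a ∈ chevF4.group F ⊓ Subgroup.centralizer {xGL c 39 (1 : F) * xGL c 45 1} := by
      intro r hr a
      rw [Subgroup.mem_inf]
      refine ⟨xGL_mem_group c r a, ?_⟩
      rw [Subgroup.mem_centralizer_iff]
      intro z hz
      rw [Set.mem_singleton_iff] at hz
      subst hz
      exact (gens_commute c hR2 r hr a).symm
    apply sup_le
    · apply KJ_le
      intro r hr
      unfold ChevalleyDatum.rootSubgroup
      rw [Subgroup.closure_le]
      rintro g ⟨t, hg⟩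
      rw [SetLike.mem_coe, eq_xGL c hg]
      exact hgen r (Or.inr hr) t
    · rw [Subgroup.closure_le]
      rintro g ⟨r, a, hr, hnot, hg⟩
      rw [SetLike.mem_coe, eq_xGL c hg]
      exact hgen r (Or.inl ⟨hr, hnot⟩) a

end Cfsg.Agent.Lib.Helper81_ChevF4PairB
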