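import Mathlib
import Cfsg.Agent.Lib.Helper3_CharEigen
import Cfsg.Agent.Lib.Helper76_CycloAMGM

/-!
# Cyclotomic AM-GM, unsquared version (helper81; adapted from helper76's `Helper76_CycloAMGM`)

For a nonzero natural combination `∑ c μ • μ` of `N`-th roots of unity, the sum of the absolute
values of its Galois conjugates `∑ c μ • μ ^ k` (`k < N` prime to `N`) is at least `φ(N)`.
Consequence for a character that vanishes nowhere.
-/

set_option autoImplicit false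

namespace Cfsg.Agent.Lib.Helper81_CycloAMGM

open Polynomial
open Cfsg.Agent.Lib.Helper76_CycloAMGM Cfsg.Agent.Lib.Helper3_CharEigen

set_option backward.isDefEq.respectTransparency false in
/-- **Cyclotomic AM-GM**, unsquared. -/
theorem totient_le_sum_norm (N : ℕ) (hN : 0 < N) (S : Finset ℂ) (hS : ∀ μ ∈ S, μ ^ N = 1)
    (c : ℂ → ℕ) (h : ∑ μ ∈ S, (c μ : ℂ) * μ ≠ 0) :
    (Nat.totient N : ℝ) ≤
      ∑ k ∈ (Finset.range N).filter (Nat.Coprime N), ‖∑ μ ∈ S, (c μ : ℂ) * μ ^ k‖ := by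
  classical
  have : NeZero N := ⟨hN.ne'⟩
  obtain ⟨ζ, hζ⟩ : ∃ ζ : ℂ, IsPrimitiveRoot ζ N := ⟨_, Complex.isPrimitiveRoot_exp N hN.ne'⟩
  have hex : ∀ μ : ℂ, ∃ a : ℕ, μ ∈ S → ζ ^ a = μ := by
    intro μ
    by_cases hμ : μ ∈ S
    · obtain ⟨a, _, ha⟩ := hζ.eq_pow_of_pow_eq_one (hS μ hμ)
      exact ⟨a, fun _ => ha⟩
    · exact ⟨0, fun h => absurd h hμ⟩
  choose a ha using hex
  have hζK : IsPrimitiveRoot (IsCyclotomicExtension.zeta N ℚ (CyclotomicField N ℚ)) N :=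
    IsCyclotomicExtension.zeta_spec N ℚ (CyclotomicField N ℚ)
  generalize IsCyclotomicExtension.zeta N ℚ (CyclotomicField N ℚ) = ζK at hζK
  have hirr : Irreducible (cyclotomic N ℚ) := cyclotomic.irreducible_rat hN
  have : FiniteDimensional ℚ (CyclotomicField N ℚ) :=
    IsCyclotomicExtension.finiteDimensional {N} ℚ (CyclotomicField N ℚ)
  set x : CyclotomicField N ℚ := ∑ μ ∈ S, (c μ : CyclotomicField N ℚ) * ζK ^ a μ with hx
  have hσx : ∀ σ : CyclotomicField N ℚ →ₐ[ℚ] ℂ,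
      σ x = ∑ μ ∈ S, (c μ : ℂ) * ((hζK.embeddingsEquivPrimitiveRoots ℂ hirr σ : ℂ)) ^ a μ := by
    intro σ
    simp only [hx, map_sum, map_mul, map_natCast, map_pow]
    rfl
  have hxint : IsIntegral ℤ x := by
    refine IsIntegral.sum _ (fun μ _ => ?_)
    refine IsIntegral.mul ?_ ((hζK.isIntegral hN).pow _)
    exact isIntegral_algebraMap (R := ℤ) (x := ((c μ : ℕ) : ℤ)) |> (by simpa using ·)
  have hx0 : x ≠ 0 := by
    intro hx0
    set σ₁ := (hζK.embeddingsEquivPrimitiveRoots ℂ hirr).symm ⟨ζ, (mem_primitiveRoots hN).mpr hζ⟩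
      with hσ₁
    have h1 := hσx σ₁
    rw [hx0, map_zero, hσ₁, Equiv.apply_symm_apply] at h1
    apply h
    rw [h1]
    exact Finset.sum_congr rfl (fun μ hμ => by rw [ha μ hμ])
  have hNint : IsIntegral ℤ (Algebra.norm ℚ x) := Algebra.isIntegral_norm ℚ hxint
  obtain ⟨m, hm⟩ := IsIntegrallyClosed.isIntegral_iff.mp hNint
  have hm0 : m ≠ 0 := by
    rintro rfl
    rw [map_zero] at hm
    exact hx0 (Algebra.norm_eq_zero_iff.mp hm.symm)
  have hprod : (algebraMap ℚ ℂ) (Algebra.norm ℚ x) = ∏ σ : CyclotomicField N ℚ →ₐ[ℚ] ℂ, σ x :=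
    Algebra.norm_eq_prod_embeddings ℚ ℂ x
  have hnorm : (1 : ℝ) ≤ ∏ σ : CyclotomicField N ℚ →ₐ[ℚ] ℂ, ‖σ x‖ := by
    rw [← norm_prod, ← hprod, ← hm]
    have h1 : ((algebraMap ℚ ℂ) ((algebraMap ℤ ℚ) m)) = (m : ℂ) := by simp
    rw [h1, Complex.norm_intCast]
    have h2 : (1 : ℤ) ≤ |m| := Int.one_le_abs hm0
    exact_mod_cast h2
  have hre : ∏ σ : CyclotomicField N ℚ →ₐ[ℚ] ℂ, ‖σ x‖ =
      ∏ k ∈ (Finset.range N).filter (Nat.Coprime N), ‖∑ μ ∈ S, (c μ : ℂ) * μ ^ k‖ := by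
    rw [Fintype.prod_equiv (hζK.embeddingsEquivPrimitiveRoots ℂ hirr)
      (fun σ => ‖σ x‖) (fun η => ‖∑ μ ∈ S, (c μ : ℂ) * (η : ℂ) ^ a μ‖)
      (fun σ => by rw [hσx σ])]
    rw [Finset.prod_coe_sort (primitiveRoots N ℂ)
      (fun η => ‖∑ μ ∈ S, (c μ : ℂ) * η ^ a μ‖)]
    rw [prod_primitiveRoots_eq hN hζ]
    refine Finset.prod_congr rfl (fun k _ => ?_)
    congr 1
    refine Finset.sum_congr rfl (fun μ hμ => ?_)
    rw [← pow_mul, mul_comm k, pow_mul, ha μ hμ]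
  rw [hre] at hnorm
  have := card_le_sum_of_one_le_prod _ _ (fun k _ => norm_nonneg _) hnorm
  rwa [← Nat.totient_eq_card_coprime] at this

section char

variable {G : Type*} [Group G] [Fintype G] {V : Type*} [AddCommGroup V] [Module ℂ V]
  [FiniteDimensional ℂ V] (ρ : Representation ℂ G V)

/-- Galois-conjugate average bound at a non-vanishing element, unsquared. -/
theorem totient_le_sum_norm_char (g : G) (h : ρ.character g ≠ 0) :
    (Nat.totient (Fintype.card G) : ℝ) ≤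
      ∑ k ∈ (Finset.range (Fintype.card G)).filter (Nat.Coprime (Fintype.card G)),
        ‖ρ.character (g ^ k)‖ := by
  have hN : 0 < Fintype.card G := Fintype.card_pos
  have hS : ∀ μ ∈ eigSet (ρ g), μ ^ Fintype.card G = 1 := by
    intro μ hμ
    obtain ⟨t, ht⟩ := orderOf_dvd_card (x := g)
    rw [ht, pow_mul, eig_pow_orderOf ρ hμ, one_pow]
  have h1 : ∑ μ ∈ eigSet (ρ g),
      ((Module.finrank ℂ (Module.End.eigenspace (ρ g) μ) : ℕ) : ℂ) * μ ≠ 0 := by
    rw [← char_eq_sum]; exact h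
  have := totient_le_sum_norm (Fintype.card G) hN (eigSet (ρ g)) hS
    (fun μ => Module.finrank ℂ (Module.End.eigenspace (ρ g) μ)) h1
  refine this.trans (le_of_eq ?_)
  refine Finset.sum_congr rfl (fun k _ => ?_)
  rw [char_pow_eq_sum]

/-- A character that vanishes nowhere has `∑ ‖χ g‖ ≥ |G| - 1 + χ 1`. -/
theorem card_sub_one_add_le_sum_norm (h : ∀ g : G, ρ.character g ≠ 0) :
    (Fintype.card G : ℝ) - 1 + ‖ρ.character 1‖ ≤ ∑ g : G, ‖ρ.character g‖ := by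
  classical
  set n := Fintype.card G with hn
  set K := (Finset.range n).filter (Nat.Coprime n) with hK
  have hφ : (0 : ℝ) < (Nat.totient n : ℝ) := by
    exact_mod_cast Nat.totient_pos.mpr Fintype.card_pos
  have hKcard : (K.card : ℝ) = (Nat.totient n : ℝ) := by
    rw [hK, Nat.totient_eq_card_coprime]
  -- double sum
  have h1 : ∑ k ∈ K, ∑ g : G, ‖ρ.character (g ^ k)‖ = (Nat.totient n : ℝ) * ∑ g : G, ‖ρ.character g‖ := by
    have : ∀ k ∈ K, ∑ g : G, ‖ρ.character (g ^ k)‖ = ∑ g : G, ‖ρ.character g‖ := by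
      intro k hk
      have hk' : (Nat.card G).Coprime k := by
        rw [Nat.card_eq_fintype_card]
        exact (Finset.mem_filter.mp hk).2
      exact Equiv.sum_comp (powCoprime hk') (fun g => ‖ρ.character g‖)
    rw [Finset.sum_congr rfl this, Finset.sum_const, nsmul_eq_mul, hKcard]
  have h2 : ∑ k ∈ K, ∑ g : G, ‖ρ.character (g ^ k)‖ =
      ∑ g : G, ∑ k ∈ K, ‖ρ.character (g ^ k)‖ := Finset.sum_comm
  have h3 : ∑ g : G, ∑ k ∈ K, ‖ρ.character (g ^ k)‖ =
      (∑ g ∈ Finset.univ.erase (1 : G), ∑ k ∈ K, ‖ρ.character (g ^ k)‖) +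
        (Nat.totient n : ℝ) * ‖ρ.character 1‖ := by
    rw [← Finset.sum_erase_add _ _ (Finset.mem_univ (1 : G))]
    congr 1
    simp only [one_pow]
    rw [Finset.sum_const, nsmul_eq_mul, hKcard]
  have h4 : ((Fintype.card G : ℝ) - 1) * (Nat.totient n : ℝ) ≤
      ∑ g ∈ Finset.univ.erase (1 : G), ∑ k ∈ K, ‖ρ.character (g ^ k)‖ := by
    have : ∀ g ∈ Finset.univ.erase (1 : G), (Nat.totient n : ℝ) ≤
        ∑ k ∈ K, ‖ρ.character (g ^ k)‖ := fun g _ => totient_le_sum_norm_char ρ g (h g)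
    have h5 := Finset.sum_le_sum this
    rw [Finset.sum_const, nsmul_eq_mul, Finset.card_erase_of_mem (Finset.mem_univ _),
      Finset.card_univ] at h5
    have h6 : ((Fintype.card G - 1 : ℕ) : ℝ) = (Fintype.card G : ℝ) - 1 := by
      rw [Nat.cast_sub Fintype.card_pos]
      simp
    rw [h6] at h5
    exact h5
  have h7 : (Nat.totient n : ℝ) * ∑ g : G, ‖ρ.character g‖ ≥
      (Nat.totient n : ℝ) * ((Fintype.card G : ℝ) - 1 + ‖ρ.character 1‖) := by
    rw [← h1, h2, h3]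
    nlinarith
  exact le_of_mul_le_mul_left h7 hφ

end char

end Cfsg.Agent.Lib.Helper81_CycloAMGM
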