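/-
Block upper triangular subgroups of `SL_n(F)` and their unipotent radicals (helper81), for the split
(B, N)-pair data `DZData` of `SL_n(F)`.
-/
import Mathlib
import Cfsg.Agent.Lib.Helper44_PSLnUT

set_option autoImplicit false
set_option linter.unusedSectionVars false
set_option linter.unusedVariables false

namespace Cfsg.Agent.Lib.Helper81_DZSLnA

open Matrix Cfsg.Agent.Lib.Helper44_PSLnUT

variable {n : ℕ} {F : Type*} [Field F]

/-! ### Strictly block triangular matrices -/

/-- strictly block upper triangular matrices for the level function `b` -/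
def SBT (b : Fin n → ℕ) (M : Matrix (Fin n) (Fin n) F) : Prop := ∀ i j, b j ≤ b i → M i j = 0

theorem SBT.blockTriangular {b : Fin n → ℕ} {M : Matrix (Fin n) (Fin n) F} (h : SBT b M) :
    M.BlockTriangular b := fun i j hij => h i j hij.le

theorem SBT.add {b : Fin n → ℕ} {M N : Matrix (Fin n) (Fin n) F} (hM : SBT b M) (hN : SBT b N) :
    SBT b (M + N) := fun i j hij => by rw [Matrix.add_apply, hM i j hij, hN i j hij, add_zero]

theorem SBT.neg {b : Fin n → ℕ} {M : Matrix (Fin n) (Fin n) F} (hM : SBT b M) : SBT b (-M) :=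
  fun i j hij => by rw [Matrix.neg_apply, hM i j hij, neg_zero]

theorem sbt_zero (b : Fin n → ℕ) : SBT b (0 : Matrix (Fin n) (Fin n) F) := fun _ _ _ => rfl

theorem bt_mul_sbt {b : Fin n → ℕ} {M N : Matrix (Fin n) (Fin n) F} (hM : M.BlockTriangular b)
    (hN : SBT b N) : SBT b (M * N) := by
  intro i j hij
  rw [Matrix.mul_apply]
  apply Finset.sum_eq_zero
  intro k _
  by_cases hk : b k < b i
  · rw [hM hk, zero_mul]
  · rw [hN k j (le_trans hij (not_lt.mp hk)), mul_zero]

theorem sbt_mul_bt {b : Fin n → ℕ} {M N : Matrix (Fin n) (Fin n) F} (hM : SBT b M)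
    (hN : N.BlockTriangular b) : SBT b (M * N) := by
  intro i j hij
  rw [Matrix.mul_apply]
  apply Finset.sum_eq_zero
  intro k _
  by_cases hk : b k ≤ b i
  · rw [hM i k hk, zero_mul]
  · rw [hN (lt_of_le_of_lt hij (not_le.mp hk)), mul_zero]

/-- `1 + M` is block triangular when `M` is strictly block triangular -/
theorem bt_of_sbt_sub_one {b : Fin n → ℕ} {M : Matrix (Fin n) (Fin n) F} (h : SBT b (M - 1)) :
    M.BlockTriangular b := by
  have : M = (M - 1) + 1 := by abel
  rw [this]
  exact h.blockTriangular.add Matrix.blockTriangular_one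

/-! ### The subgroups -/

/-- the block upper triangular matrices of determinant one -/
def Pb (F : Type*) [Field F] (b : Fin n → ℕ) : Subgroup (SpecialLinearGroup (Fin n) F) where
  carrier := {g | (g : Matrix (Fin n) (Fin n) F).BlockTriangular b}
  mul_mem' := by
    intro x y hx hy
    show ((x : Matrix (Fin n) (Fin n) F) * (y : Matrix (Fin n) (Fin n) F)).BlockTriangular b
    exact hx.mul hy
  one_mem' := by
    show (1 : Matrix (Fin n) (Fin n) F).BlockTriangular b
    exact Matrix.blockTriangular_one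
  inv_mem' := by
    intro x hx
    show ((x⁻¹ : SpecialLinearGroup (Fin n) F) : Matrix (Fin n) (Fin n) F).BlockTriangular b
    rw [coe_inv_eq]
    have hdet : IsUnit (x : Matrix (Fin n) (Fin n) F).det := by rw [x.2]; exact isUnit_one
    have : Invertible (x : Matrix (Fin n) (Fin n) F) := Matrix.invertibleOfIsUnitDet _ hdet
    exact Matrix.blockTriangular_inv_of_blockTriangular hx

theorem mem_Pb {b : Fin n → ℕ} {g : SpecialLinearGroup (Fin n) F} :
    g ∈ Pb F b ↔ (g : Matrix (Fin n) (Fin n) F).BlockTriangular b := Iff.rfl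

/-- the unipotent radical of `Pb b` -/
def Rb (F : Type*) [Field F] (b : Fin n → ℕ) : Subgroup (SpecialLinearGroup (Fin n) F) where
  carrier := {g | SBT b ((g : Matrix (Fin n) (Fin n) F) - 1)}
  mul_mem' := by
    intro x y hx hy
    show SBT b ((x : Matrix (Fin n) (Fin n) F) * (y : Matrix (Fin n) (Fin n) F) - 1)
    have e : (x : Matrix (Fin n) (Fin n) F) * (y : Matrix (Fin n) (Fin n) F) - 1 =
        ((x : Matrix (Fin n) (Fin n) F) - 1) * (y : Matrix (Fin n) (Fin n) F) +
          ((y : Matrix (Fin n) (Fin n) F) - 1) := by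
      rw [Matrix.sub_mul, Matrix.one_mul]; abel
    rw [e]
    exact (sbt_mul_bt hx (bt_of_sbt_sub_one hy)).add hy
  one_mem' := by
    show SBT b ((1 : Matrix (Fin n) (Fin n) F) - 1)
    rw [sub_self]
    exact sbt_zero b
  inv_mem' := by
    intro x hx
    show SBT b (((x⁻¹ : SpecialLinearGroup (Fin n) F) : Matrix (Fin n) (Fin n) F) - 1)
    have hxP : x ∈ Pb F b := bt_of_sbt_sub_one hx
    have hinv : ((x⁻¹ : SpecialLinearGroup (Fin n) F) : Matrix (Fin n) (Fin n) F).BlockTriangular b :=
      (Pb F b).inv_mem hxP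
    have h1 : ((x⁻¹ : SpecialLinearGroup (Fin n) F) : Matrix (Fin n) (Fin n) F) *
        (x : Matrix (Fin n) (Fin n) F) = 1 := by
      rw [← Matrix.SpecialLinearGroup.coe_mul, inv_mul_cancel, Matrix.SpecialLinearGroup.coe_one]
    have e : ((x⁻¹ : SpecialLinearGroup (Fin n) F) : Matrix (Fin n) (Fin n) F) - 1 =
        -(((x⁻¹ : SpecialLinearGroup (Fin n) F) : Matrix (Fin n) (Fin n) F) *
          ((x : Matrix (Fin n) (Fin n) F) - 1)) := by
      rw [Matrix.mul_sub, h1, Matrix.mul_one]; abel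
    rw [e]
    exact (bt_mul_sbt hinv hx).neg

theorem mem_Rb {b : Fin n → ℕ} {g : SpecialLinearGroup (Fin n) F} :
    g ∈ Rb F b ↔ SBT b ((g : Matrix (Fin n) (Fin n) F) - 1) := Iff.rfl

theorem Rb_le_Pb (b : Fin n → ℕ) : Rb F b ≤ Pb F b := fun g hg => bt_of_sbt_sub_one hg

/-- `Pb b` normalizes `Rb b` -/
theorem conj_mem_Rb {b : Fin n → ℕ} {g u : SpecialLinearGroup (Fin n) F} (hg : g ∈ Pb F b)
    (hu : u ∈ Rb F b) : g * u * g⁻¹ ∈ Rb F b := by
  show SBT b (((g * u * g⁻¹ : SpecialLinearGroup (Fin n) F) : Matrix (Fin n) (Fin n) F) - 1)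
  have hinv : ((g⁻¹ : SpecialLinearGroup (Fin n) F) : Matrix (Fin n) (Fin n) F).BlockTriangular b :=
    (Pb F b).inv_mem hg
  have h1 : (g : Matrix (Fin n) (Fin n) F) *
      ((g⁻¹ : SpecialLinearGroup (Fin n) F) : Matrix (Fin n) (Fin n) F) = 1 := by
    rw [← Matrix.SpecialLinearGroup.coe_mul, mul_inv_cancel, Matrix.SpecialLinearGroup.coe_one]
  have e : ((g * u * g⁻¹ : SpecialLinearGroup (Fin n) F) : Matrix (Fin n) (Fin n) F) - 1 =
      (g : Matrix (Fin n) (Fin n) F) * ((u : Matrix (Fin n) (Fin n) F) - 1) *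
        ((g⁻¹ : SpecialLinearGroup (Fin n) F) : Matrix (Fin n) (Fin n) F) := by
    rw [Matrix.SpecialLinearGroup.coe_mul, Matrix.SpecialLinearGroup.coe_mul, Matrix.mul_sub, Matrix.sub_mul,
      Matrix.mul_one, h1]
  rw [e]
  exact sbt_mul_bt (bt_mul_sbt hg hu) hinv

/-- coarser level functions give larger block triangular groups -/
theorem Pb_mono {b b' : Fin n → ℕ} (h : ∀ i j, b' j < b' i → b j < b i) : Pb F b ≤ Pb F b' :=
  fun g hg i j hij => hg (h i j hij)

/-- coarser level functions give smaller radicals -/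
theorem Rb_anti {b b' : Fin n → ℕ} (h : ∀ i j, b j ≤ b i → b' j ≤ b' i) : Rb F b' ≤ Rb F b :=
  fun g hg i j hij => hg i j (h i j hij)

/-! ### The Borel subgroup and the unitriangular group -/

/-- the level function of the full flag -/
def lv0 (n : ℕ) : Fin n → ℕ := fun i => (i : ℕ)

theorem Rb_lv0_eq_UT : Rb F (lv0 n) = UT n F := by
  ext g
  rw [mem_Rb, mem_UT]
  constructor
  · intro h
    refine ⟨fun i j hij => ?_, fun i => ?_⟩
    · have := h i j (le_of_lt hij)
      rwa [Matrix.sub_apply, Matrix.one_apply_ne (ne_of_gt hij), sub_zero] at this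
    · have := h i i le_rfl
      rwa [Matrix.sub_apply, Matrix.one_apply_eq, sub_eq_zero] at this
  · intro h i j hij
    have hij' : j ≤ i := hij
    rw [Matrix.sub_apply]
    rcases eq_or_lt_of_le hij' with rfl | hlt
    · rw [h.2, Matrix.one_apply_eq, sub_self]
    · rw [h.1 i j hlt, Matrix.one_apply_ne (ne_of_gt hlt), sub_self]

theorem mem_Pb_lv0 {g : SpecialLinearGroup (Fin n) F} :
    g ∈ Pb F (lv0 n) ↔ ∀ i j : Fin n, j < i → (g : Matrix (Fin n) (Fin n) F) i j = 0 :=
  ⟨fun h i j hij => h hij, fun h i j hij => h i j hij⟩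

end Cfsg.Agent.Lib.Helper81_DZSLnA
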