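/-
The minimal parabolic subgroups of `SL_n(F)`, `n = m + 2`: the elements `x_a(t)`, `n_a`, the decomposition
`P_a = B ∪ X_a n_a B`, the order of `P_a`, and `U = X_a U_a` (helper81).
-/
import Mathlib
import Cfsg.Agent.Lib.Helper81_DZSLnA

set_option autoImplicit false
set_option linter.unusedSectionVars false
set_option linter.unusedVariables false

namespace Cfsg.Agent.Lib.Helper81_DZSLnB

open Matrix Cfsg.Agent.Lib.Helper44_PSLnUT Cfsg.Agent.Lib.Helper81_DZSLnA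

variable {m : ℕ} {F : Type*} [Field F]

/-! ### The level function of a minimal parabolic subgroup -/

/-- the level function merging the positions `a` and `a + 1` -/
def lev (a : Fin (m + 1)) : Fin (m + 2) → ℕ := fun k => if (k : ℕ) ≤ (a : ℕ) then (k : ℕ) else (k : ℕ) - 1

theorem lev_lt_iff (a : Fin (m + 1)) (i j : Fin (m + 2)) :
    lev a j < lev a i ↔ j < i ∧ ¬ (j = a.castSucc ∧ i = a.succ) := by
  unfold lev
  rw [Fin.lt_def, Fin.ext_iff, Fin.ext_iff, Fin.val_succ, Fin.val_castSucc]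
  split_ifs <;> omega

theorem lev_le_iff (a : Fin (m + 1)) (i j : Fin (m + 2)) :
    lev a j ≤ lev a i ↔ j ≤ i ∨ (j = a.succ ∧ i = a.castSucc) := by
  unfold lev
  rw [Fin.le_def, Fin.ext_iff, Fin.ext_iff, Fin.val_succ, Fin.val_castSucc]
  split_ifs <;> omega

theorem ca_ne_sa (a : Fin (m + 1)) : a.castSucc ≠ a.succ := (Fin.castSucc_lt_succ (i := a)).ne

theorem ca_lt_sa (a : Fin (m + 1)) : a.castSucc < a.succ := Fin.castSucc_lt_succ

/-- the Borel subgroup: upper triangular matrices -/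
abbrev Bsl (m : ℕ) (F : Type*) [Field F] : Subgroup (SpecialLinearGroup (Fin (m + 2)) F) :=
  Pb F (lv0 (m + 2))

/-- the upper unitriangular matrices -/
abbrev Usl (m : ℕ) (F : Type*) [Field F] : Subgroup (SpecialLinearGroup (Fin (m + 2)) F) :=
  Rb F (lv0 (m + 2))

/-- the minimal parabolic subgroups -/
abbrev Psl (F : Type*) [Field F] (a : Fin (m + 1)) : Subgroup (SpecialLinearGroup (Fin (m + 2)) F) :=
  Pb F (lev a)

/-- the unipotent radicals of the minimal parabolic subgroups -/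
abbrev Uasl (F : Type*) [Field F] (a : Fin (m + 1)) : Subgroup (SpecialLinearGroup (Fin (m + 2)) F) :=
  Rb F (lev a)

theorem Bsl_le_Psl (a : Fin (m + 1)) : Bsl m F ≤ Psl F a :=
  Pb_mono (fun i j h => ((lev_lt_iff a i j).1 h).1)

theorem Uasl_le_Usl (a : Fin (m + 1)) : Uasl F a ≤ Usl m F :=
  Rb_anti (fun i j h => (lev_le_iff a i j).2 (Or.inl h))

theorem Usl_le_Bsl : Usl m F ≤ Bsl m F := Rb_le_Pb _

theorem mem_Bsl {g : SpecialLinearGroup (Fin (m + 2)) F} :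
    g ∈ Bsl m F ↔ ∀ i j : Fin (m + 2), j < i → g.1 i j = 0 := mem_Pb_lv0

theorem mem_Psl {a : Fin (m + 1)} {g : SpecialLinearGroup (Fin (m + 2)) F} :
    g ∈ Psl F a ↔ ∀ i j : Fin (m + 2), j < i → ¬ (j = a.castSucc ∧ i = a.succ) → g.1 i j = 0 := by
  constructor
  · intro h i j hij hne
    exact h ((lev_lt_iff a i j).2 ⟨hij, hne⟩)
  · intro h i j hij
    obtain ⟨h1, h2⟩ := (lev_lt_iff a i j).1 hij
    exact h i j h1 h2

theorem mem_Usl {g : SpecialLinearGroup (Fin (m + 2)) F} :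
    g ∈ Usl m F ↔ IsUT g.1 := by
  show g ∈ Rb F (lv0 (m + 2)) ↔ _
  rw [Rb_lv0_eq_UT]
  exact mem_UT

theorem mem_Uasl {a : Fin (m + 1)} {g : SpecialLinearGroup (Fin (m + 2)) F} :
    g ∈ Uasl F a ↔ g ∈ Usl m F ∧ g.1 a.castSucc a.succ = 0 := by
  constructor
  · intro h
    refine ⟨Uasl_le_Usl a h, ?_⟩
    have := h a.castSucc a.succ ((lev_le_iff a _ _).2 (Or.inr ⟨rfl, rfl⟩))
    rwa [Matrix.sub_apply, Matrix.one_apply_ne (ca_ne_sa a), sub_zero] at this
  · rintro ⟨h1, h2⟩ i j hij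
    rcases (lev_le_iff a i j).1 hij with h | ⟨rfl, rfl⟩
    · exact h1 i j h
    · rw [Matrix.sub_apply, Matrix.one_apply_ne (ca_ne_sa a), sub_zero]
      exact h2

/-- an element of `P_a` with vanishing `(a+1, a)` entry is upper triangular -/
theorem mem_Bsl_of_mem_Psl {a : Fin (m + 1)} {g : SpecialLinearGroup (Fin (m + 2)) F}
    (hg : g ∈ Psl F a) (h0 : g.1 a.succ a.castSucc = 0) : g ∈ Bsl m F := by
  rw [mem_Bsl]
  intro i j hij
  by_cases h : j = a.castSucc ∧ i = a.succ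
  · rw [h.1, h.2]; exact h0
  · exact mem_Psl.1 hg i j hij h

/-- the diagonal entries of an upper triangular matrix of determinant one do not vanish -/
theorem diag_ne_zero {g : SpecialLinearGroup (Fin (m + 2)) F} (hg : g ∈ Bsl m F) (i : Fin (m + 2)) :
    g.1 i i ≠ 0 := by
  have hdet : g.1.det = ∏ k, g.1 k k := by
    apply Matrix.det_of_upperTriangular
    intro i j hij
    exact mem_Bsl.1 hg i j hij
  have h1 : ∏ k, g.1 k k ≠ 0 := by
    rw [← hdet, g.2]
    exact one_ne_zero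
  exact Finset.prod_ne_zero_iff.1 h1 i (Finset.mem_univ i)

/-! ### The root elements and the Weyl element -/

/-- the root element `x_a(t) = 1 + t E_{a, a+1}` -/
def xs (a : Fin (m + 1)) (t : F) : SpecialLinearGroup (Fin (m + 2)) F :=
  Matrix.SpecialLinearGroup.transvection (ca_ne_sa a) t

/-- the opposite root element `1 + t E_{a+1, a}` -/
def ys (a : Fin (m + 1)) (t : F) : SpecialLinearGroup (Fin (m + 2)) F :=
  Matrix.SpecialLinearGroup.transvection (ca_ne_sa a).symm t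

theorem xs_val (a : Fin (m + 1)) (t : F) : (xs a t).1 = Matrix.transvection a.castSucc a.succ t := rfl

theorem ys_val (a : Fin (m + 1)) (t : F) : (ys a t).1 = Matrix.transvection a.succ a.castSucc t := rfl

theorem xs_mul (a : Fin (m + 1)) (t u : F) : xs a t * xs a u = xs a (t + u) := by
  apply Subtype.ext
  show (xs a t).1 * (xs a u).1 = (xs a (t + u)).1
  rw [xs_val, xs_val, xs_val, Matrix.transvection_mul_transvection_same _ _ (ca_ne_sa a)]

theorem xs_zero (a : Fin (m + 1)) : xs a (0 : F) = 1 := by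
  apply Subtype.ext
  show (xs a (0 : F)).1 = 1
  rw [xs_val, Matrix.transvection_zero]

theorem xs_inv (a : Fin (m + 1)) (t : F) : (xs a t)⁻¹ = xs a (-t) := by
  rw [inv_eq_iff_mul_eq_one, xs_mul, add_neg_cancel, xs_zero]

theorem ys_mul (a : Fin (m + 1)) (t u : F) : ys a t * ys a u = ys a (t + u) := by
  apply Subtype.ext
  show (ys a t).1 * (ys a u).1 = (ys a (t + u)).1
  rw [ys_val, ys_val, ys_val, Matrix.transvection_mul_transvection_same _ _ (ca_ne_sa a).symm]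

theorem ys_zero (a : Fin (m + 1)) : ys a (0 : F) = 1 := by
  apply Subtype.ext
  show (ys a (0 : F)).1 = 1
  rw [ys_val, Matrix.transvection_zero]

theorem ys_inv (a : Fin (m + 1)) (t : F) : (ys a t)⁻¹ = ys a (-t) := by
  rw [inv_eq_iff_mul_eq_one, ys_mul, add_neg_cancel, ys_zero]

theorem xs_apply (a : Fin (m + 1)) (t : F) (i j : Fin (m + 2)) :
    (xs a t).1 i j = if i = a.castSucc ∧ j = a.succ then t else if i = j then 1 else 0 := by
  rw [xs_val, Matrix.transvection, Matrix.add_apply, Matrix.one_apply, Matrix.single_apply]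
  by_cases h : a.castSucc = i ∧ a.succ = j
  · obtain ⟨rfl, rfl⟩ := h
    simp [ca_ne_sa a]
  · have h' : ¬ (i = a.castSucc ∧ j = a.succ) := fun h2 => h ⟨h2.1.symm, h2.2.symm⟩
    rw [if_neg h, if_neg h', add_zero]

theorem xs_mem_Usl (a : Fin (m + 1)) (t : F) : xs a t ∈ Usl m F := by
  rw [mem_Usl]
  refine ⟨fun i j hij => ?_, fun i => ?_⟩
  · rw [xs_apply, if_neg, if_neg (ne_of_gt hij)]
    rintro ⟨rfl, rfl⟩
    exact absurd (ca_lt_sa a) (not_lt.mpr hij.le)
  · rw [xs_apply, if_neg, if_pos rfl]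
    rintro ⟨h1, h2⟩
    exact ca_ne_sa a (h1.symm.trans h2)

theorem ys_mem_Psl (a : Fin (m + 1)) (t : F) : ys a t ∈ Psl F a := by
  rw [mem_Psl]
  intro i j hij hne
  rw [ys_val, Matrix.transvection, Matrix.add_apply, Matrix.one_apply_ne (ne_of_gt hij), zero_add,
    Matrix.single_apply, if_neg]
  rintro ⟨rfl, rfl⟩
  exact hne ⟨rfl, rfl⟩

/-- the Weyl element `n_a = x_a(1) y_a(-1) x_a(1)` -/
def ns (a : Fin (m + 1)) : SpecialLinearGroup (Fin (m + 2)) F := xs a 1 * ys a (-1) * xs a 1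

theorem ns_mem_Psl (a : Fin (m + 1)) : (ns a : SpecialLinearGroup (Fin (m + 2)) F) ∈ Psl F a :=
  (Psl F a).mul_mem ((Psl F a).mul_mem (Bsl_le_Psl a (Usl_le_Bsl (xs_mem_Usl a 1))) (ys_mem_Psl a _))
    (Bsl_le_Psl a (Usl_le_Bsl (xs_mem_Usl a 1)))

theorem ns_inv (a : Fin (m + 1)) :
    (ns a : SpecialLinearGroup (Fin (m + 2)) F)⁻¹ = xs a (-1) * ys a 1 * xs a (-1) := by
  unfold ns
  rw [_root_.mul_inv_rev, _root_.mul_inv_rev, xs_inv, ys_inv, neg_neg, mul_assoc]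

/-! ### Row operations -/

theorem xs_mul_apply_c (a : Fin (m + 1)) (t : F) (M : Matrix (Fin (m + 2)) (Fin (m + 2)) F)
    (j : Fin (m + 2)) : ((xs a t).1 * M) a.castSucc j = M a.castSucc j + t * M a.succ j := by
  rw [xs_val, Matrix.transvection_mul_apply_same]

theorem xs_mul_apply_of_ne (a : Fin (m + 1)) (t : F) (M : Matrix (Fin (m + 2)) (Fin (m + 2)) F)
    (i j : Fin (m + 2)) (hi : i ≠ a.castSucc) : ((xs a t).1 * M) i j = M i j := by
  rw [xs_val, Matrix.transvection_mul_apply_of_ne _ _ _ _ hi]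

theorem ys_mul_apply_s (a : Fin (m + 1)) (t : F) (M : Matrix (Fin (m + 2)) (Fin (m + 2)) F)
    (j : Fin (m + 2)) : ((ys a t).1 * M) a.succ j = M a.succ j + t * M a.castSucc j := by
  rw [ys_val, Matrix.transvection_mul_apply_same]

theorem ys_mul_apply_of_ne (a : Fin (m + 1)) (t : F) (M : Matrix (Fin (m + 2)) (Fin (m + 2)) F)
    (i j : Fin (m + 2)) (hi : i ≠ a.succ) : ((ys a t).1 * M) i j = M i j := by
  rw [ys_val, Matrix.transvection_mul_apply_of_ne _ _ _ _ hi]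

theorem ns_val (a : Fin (m + 1)) :
    (ns a : SpecialLinearGroup (Fin (m + 2)) F).1 = (xs a 1).1 * ((ys a (-1)).1 * (xs a 1).1) := by
  unfold ns
  rw [Matrix.SpecialLinearGroup.coe_mul, Matrix.SpecialLinearGroup.coe_mul, Matrix.mul_assoc]

theorem ns_inv_val (a : Fin (m + 1)) :
    ((ns a : SpecialLinearGroup (Fin (m + 2)) F)⁻¹).1 =
      (xs a (-1)).1 * ((ys a 1).1 * (xs a (-1)).1) := by
  rw [ns_inv, Matrix.SpecialLinearGroup.coe_mul, Matrix.SpecialLinearGroup.coe_mul, Matrix.mul_assoc]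

/-- row `a` of `n_a M` is row `a + 1` of `M` -/
theorem ns_mul_apply_c (a : Fin (m + 1)) (M : Matrix (Fin (m + 2)) (Fin (m + 2)) F) (j : Fin (m + 2)) :
    ((ns a : SpecialLinearGroup (Fin (m + 2)) F).1 * M) a.castSucc j = M a.succ j := by
  rw [ns_val, Matrix.mul_assoc, Matrix.mul_assoc, xs_mul_apply_c, ys_mul_apply_of_ne _ _ _ _ _ (ca_ne_sa a),
    ys_mul_apply_s, xs_mul_apply_c, xs_mul_apply_of_ne _ _ _ _ _ (ca_ne_sa a).symm]
  ring

/-- row `a + 1` of `n_a M` is minus row `a` of `M` -/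
theorem ns_mul_apply_s (a : Fin (m + 1)) (M : Matrix (Fin (m + 2)) (Fin (m + 2)) F) (j : Fin (m + 2)) :
    ((ns a : SpecialLinearGroup (Fin (m + 2)) F).1 * M) a.succ j = - M a.castSucc j := by
  rw [ns_val, Matrix.mul_assoc, Matrix.mul_assoc, xs_mul_apply_of_ne _ _ _ _ _ (ca_ne_sa a).symm,
    ys_mul_apply_s, xs_mul_apply_c, xs_mul_apply_of_ne _ _ _ _ _ (ca_ne_sa a).symm]
  ring

theorem ns_mul_apply_of_ne (a : Fin (m + 1)) (M : Matrix (Fin (m + 2)) (Fin (m + 2)) F)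
    (i j : Fin (m + 2)) (h1 : i ≠ a.castSucc) (h2 : i ≠ a.succ) :
    ((ns a : SpecialLinearGroup (Fin (m + 2)) F).1 * M) i j = M i j := by
  rw [ns_val, Matrix.mul_assoc, Matrix.mul_assoc, xs_mul_apply_of_ne _ _ _ _ _ h1,
    ys_mul_apply_of_ne _ _ _ _ _ h2, xs_mul_apply_of_ne _ _ _ _ _ h1]

/-- row `a` of `n_a⁻¹ M` is minus row `a + 1` of `M` -/
theorem ns_inv_mul_apply_c (a : Fin (m + 1)) (M : Matrix (Fin (m + 2)) (Fin (m + 2)) F)
    (j : Fin (m + 2)) :
    (((ns a : SpecialLinearGroup (Fin (m + 2)) F)⁻¹).1 * M) a.castSucc j = - M a.succ j := by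
  rw [ns_inv_val, Matrix.mul_assoc, Matrix.mul_assoc, xs_mul_apply_c,
    ys_mul_apply_of_ne _ _ _ _ _ (ca_ne_sa a), ys_mul_apply_s, xs_mul_apply_c,
    xs_mul_apply_of_ne _ _ _ _ _ (ca_ne_sa a).symm]
  ring

/-- row `a + 1` of `n_a⁻¹ M` is row `a` of `M` -/
theorem ns_inv_mul_apply_s (a : Fin (m + 1)) (M : Matrix (Fin (m + 2)) (Fin (m + 2)) F)
    (j : Fin (m + 2)) :
    (((ns a : SpecialLinearGroup (Fin (m + 2)) F)⁻¹).1 * M) a.succ j = M a.castSucc j := by
  rw [ns_inv_val, Matrix.mul_assoc, Matrix.mul_assoc, xs_mul_apply_of_ne _ _ _ _ _ (ca_ne_sa a).symm,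
    ys_mul_apply_s, xs_mul_apply_c, xs_mul_apply_of_ne _ _ _ _ _ (ca_ne_sa a).symm]
  ring

theorem ns_inv_mul_apply_of_ne (a : Fin (m + 1)) (M : Matrix (Fin (m + 2)) (Fin (m + 2)) F)
    (i j : Fin (m + 2)) (h1 : i ≠ a.castSucc) (h2 : i ≠ a.succ) :
    (((ns a : SpecialLinearGroup (Fin (m + 2)) F)⁻¹).1 * M) i j = M i j := by
  rw [ns_inv_val, Matrix.mul_assoc, Matrix.mul_assoc, xs_mul_apply_of_ne _ _ _ _ _ h1,
    ys_mul_apply_of_ne _ _ _ _ _ h2, xs_mul_apply_of_ne _ _ _ _ _ h1]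

/-! ### `P_a = B ∪ X_a n_a B` -/

theorem lt_ca_of_lt_sa {a : Fin (m + 1)} {j : Fin (m + 2)} (h1 : j < a.succ) (h2 : j ≠ a.castSucc) :
    j < a.castSucc := by
  rw [Fin.lt_def, Fin.val_succ] at h1
  rw [Fin.lt_def, Fin.val_castSucc]
  rw [Ne, Fin.ext_iff, Fin.val_castSucc] at h2
  omega

theorem prod_val (x y z : SpecialLinearGroup (Fin (m + 2)) F) : (x * y * z).1 = x.1 * (y.1 * z.1) := by
  rw [Matrix.SpecialLinearGroup.coe_mul, Matrix.SpecialLinearGroup.coe_mul, Matrix.mul_assoc]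

/-- the factor `b` in `g = x_a(t) n_a b` -/
theorem cover_mem_Bsl {a : Fin (m + 1)} {g : SpecialLinearGroup (Fin (m + 2)) F} (hg : g ∈ Psl F a)
    (h0 : g.1 a.succ a.castSucc ≠ 0) :
    (ns a)⁻¹ * xs a (-(g.1 a.castSucc a.castSucc / g.1 a.succ a.castSucc)) * g ∈ Bsl m F := by
  rw [mem_Bsl]
  intro i j hij
  rw [prod_val]
  by_cases hic : i = a.castSucc
  · subst hic
    rw [ns_inv_mul_apply_c, xs_mul_apply_of_ne _ _ _ _ _ (ca_ne_sa a).symm, neg_eq_zero]
    apply mem_Psl.1 hg _ _ (lt_trans hij (ca_lt_sa a))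
    rintro ⟨h1, -⟩
    exact absurd hij (by rw [h1]; exact lt_irrefl _)
  · by_cases his : i = a.succ
    · subst his
      rw [ns_inv_mul_apply_s, xs_mul_apply_c]
      by_cases hjc : j = a.castSucc
      · subst hjc
        field_simp
        ring
      · have hj := lt_ca_of_lt_sa hij hjc
        rw [mem_Psl.1 hg _ _ hj (fun h => hjc h.1), mem_Psl.1 hg _ _ hij (fun h => hjc h.1), mul_zero,
          add_zero]
    · rw [ns_inv_mul_apply_of_ne _ _ _ _ hic his, xs_mul_apply_of_ne _ _ _ _ _ hic]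
      exact mem_Psl.1 hg _ _ hij (fun h => his h.2)

/-- `P_a = B ∪ X_a n_a B` -/
theorem mem_Psl_cover {a : Fin (m + 1)} {g : SpecialLinearGroup (Fin (m + 2)) F} (hg : g ∈ Psl F a)
    (h0 : g.1 a.succ a.castSucc ≠ 0) : ∃ t : F, ∃ b ∈ Bsl m F, g = xs a t * ns a * b := by
  refine ⟨g.1 a.castSucc a.castSucc / g.1 a.succ a.castSucc, _, cover_mem_Bsl hg h0, ?_⟩
  rw [← xs_inv]
  group

theorem cell_apply_sc (a : Fin (m + 1)) (t : F) (b : SpecialLinearGroup (Fin (m + 2)) F) :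
    (xs a t * ns a * b).1 a.succ a.castSucc = - b.1 a.castSucc a.castSucc := by
  rw [prod_val, xs_mul_apply_of_ne _ _ _ _ _ (ca_ne_sa a).symm, ns_mul_apply_s]

theorem cell_apply_cc (a : Fin (m + 1)) (t : F) {b : SpecialLinearGroup (Fin (m + 2)) F}
    (hb : b ∈ Bsl m F) :
    (xs a t * ns a * b).1 a.castSucc a.castSucc = - (t * b.1 a.castSucc a.castSucc) := by
  rw [prod_val, xs_mul_apply_c, ns_mul_apply_c, ns_mul_apply_s, mem_Bsl.1 hb _ _ (ca_lt_sa a)]
  ring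

theorem cell_mem_Psl (a : Fin (m + 1)) (t : F) {b : SpecialLinearGroup (Fin (m + 2)) F}
    (hb : b ∈ Bsl m F) : xs a t * ns a * b ∈ Psl F a :=
  (Psl F a).mul_mem ((Psl F a).mul_mem (Bsl_le_Psl a (Usl_le_Bsl (xs_mem_Usl a t))) (ns_mem_Psl a))
    (Bsl_le_Psl a hb)

theorem cell_not_mem_Bsl (a : Fin (m + 1)) (t : F) {b : SpecialLinearGroup (Fin (m + 2)) F}
    (hb : b ∈ Bsl m F) : xs a t * ns a * b ∉ Bsl m F := by
  intro h
  have h1 := mem_Bsl.1 h _ _ (ca_lt_sa a)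
  rw [cell_apply_sc, neg_eq_zero] at h1
  exact diag_ne_zero hb _ h1

/-- `|P_a| = (q + 1) |B|` -/
theorem card_Psl [Fintype F] (a : Fin (m + 1)) :
    Nat.card (Psl F a) = (Fintype.card F + 1) * Nat.card (Bsl m F) := by
  classical
  have hfin : Finite (SpecialLinearGroup (Fin (m + 2)) F) := Subtype.finite
  let Φ : F × Bsl m F → {g : SpecialLinearGroup (Fin (m + 2)) F // g ∈ Psl F a ∧ g ∉ Bsl m F} :=
    fun p => ⟨xs a p.1 * ns a * (p.2 : SpecialLinearGroup (Fin (m + 2)) F), cell_mem_Psl a p.1 p.2.2,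
      cell_not_mem_Bsl a p.1 p.2.2⟩
  have hΦ : Function.Bijective Φ := by
    constructor
    · rintro ⟨t, b⟩ ⟨t', b'⟩ h
      have e : xs a t * ns a * (b : SpecialLinearGroup (Fin (m + 2)) F) =
          xs a t' * ns a * (b' : SpecialLinearGroup (Fin (m + 2)) F) := congrArg Subtype.val h
      have hbc := diag_ne_zero b.2 a.castSucc
      have hbc' := diag_ne_zero b'.2 a.castSucc
      have e1 := cell_apply_sc a t (b : SpecialLinearGroup (Fin (m + 2)) F)
      have e2 := cell_apply_cc a t b.2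
      have e3 := cell_apply_sc a t' (b' : SpecialLinearGroup (Fin (m + 2)) F)
      have e4 := cell_apply_cc a t' b'.2
      rw [e] at e1 e2
      rw [e1] at e3
      rw [e2] at e4
      have e5 : (b : SpecialLinearGroup (Fin (m + 2)) F).1 a.castSucc a.castSucc =
          (b' : SpecialLinearGroup (Fin (m + 2)) F).1 a.castSucc a.castSucc := neg_injective e3
      rw [e5] at e4
      have ht : t = t' := mul_right_cancel₀ hbc' (neg_injective e4)
      subst ht
      have hb : (b : SpecialLinearGroup (Fin (m + 2)) F) = b' := mul_left_cancel e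
      exact Prod.ext rfl (Subtype.ext hb)
    · rintro ⟨g, hgP, hgB⟩
      have h0 : g.1 a.succ a.castSucc ≠ 0 := fun h => hgB (mem_Bsl_of_mem_Psl hgP h)
      obtain ⟨t, b, hb, rfl⟩ := mem_Psl_cover hgP h0
      exact ⟨(t, ⟨b, hb⟩), rfl⟩
  have hset : ((Psl F a : Subgroup (SpecialLinearGroup (Fin (m + 2)) F)) :
      Set (SpecialLinearGroup (Fin (m + 2)) F)) =
      (Bsl m F : Set (SpecialLinearGroup (Fin (m + 2)) F)) ∪
        {g | g ∈ Psl F a ∧ g ∉ Bsl m F} := by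
    ext g
    constructor
    · intro hg
      by_cases h : g ∈ Bsl m F
      · exact Or.inl h
      · exact Or.inr ⟨hg, h⟩
    · rintro (h | h)
      · exact Bsl_le_Psl a h
      · exact h.1
  have hdisj : Disjoint (Bsl m F : Set (SpecialLinearGroup (Fin (m + 2)) F))
      {g | g ∈ Psl F a ∧ g ∉ Bsl m F} := by
    rw [Set.disjoint_left]
    intro g hg h
    exact h.2 hg
  have h1 : Nat.card (Psl F a) = ((Psl F a : Subgroup (SpecialLinearGroup (Fin (m + 2)) F)) :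
      Set (SpecialLinearGroup (Fin (m + 2)) F)).ncard := rfl
  have h2 : (Bsl m F : Set (SpecialLinearGroup (Fin (m + 2)) F)).ncard = Nat.card (Bsl m F) := rfl
  have h3 : ({g | g ∈ Psl F a ∧ g ∉ Bsl m F} : Set (SpecialLinearGroup (Fin (m + 2)) F)).ncard =
      Nat.card (F × Bsl m F) := (Nat.card_congr (Equiv.ofBijective Φ hΦ)).symm
  rw [h1, hset, Set.ncard_union_eq hdisj (Set.toFinite _) (Set.toFinite _), h2, h3, Nat.card_prod,
    show Nat.card F = Fintype.card F from Nat.card_eq_fintype_card]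
  ring

/-! ### `U = X_a U_a` -/

/-- the root subgroup `X_a` -/
def Xsl (F : Type*) [Field F] (a : Fin (m + 1)) : Subgroup (SpecialLinearGroup (Fin (m + 2)) F) where
  carrier := {g | ∃ t : F, g = xs a t}
  mul_mem' := by
    rintro _ _ ⟨t, rfl⟩ ⟨u, rfl⟩
    exact ⟨t + u, xs_mul a t u⟩
  one_mem' := ⟨0, (xs_zero a).symm⟩
  inv_mem' := by
    rintro _ ⟨t, rfl⟩
    exact ⟨-t, xs_inv a t⟩

theorem mem_Xsl {a : Fin (m + 1)} {g : SpecialLinearGroup (Fin (m + 2)) F} :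
    g ∈ Xsl F a ↔ ∃ t : F, g = xs a t := Iff.rfl

theorem Xsl_le_Usl (a : Fin (m + 1)) : Xsl F a ≤ Usl m F := by
  rintro _ ⟨t, rfl⟩
  exact xs_mem_Usl a t

theorem xs_mul_apply_cs (a : Fin (m + 1)) (t : F) {v : SpecialLinearGroup (Fin (m + 2)) F}
    (hv : v ∈ Usl m F) : (xs a t * v).1 a.castSucc a.succ = v.1 a.castSucc a.succ + t := by
  rw [Matrix.SpecialLinearGroup.coe_mul, xs_mul_apply_c, (mem_Usl.1 hv).2, mul_one]

/-- `U = X_a U_a` -/
theorem Usl_prod (a : Fin (m + 1)) {u : SpecialLinearGroup (Fin (m + 2)) F} (hu : u ∈ Usl m F) :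
    ∃ t : F, ∃ v ∈ Uasl F a, u = xs a t * v := by
  refine ⟨u.1 a.castSucc a.succ, xs a (-(u.1 a.castSucc a.succ)) * u, ?_, ?_⟩
  · rw [mem_Uasl]
    refine ⟨(Usl m F).mul_mem (xs_mem_Usl a _) hu, ?_⟩
    rw [xs_mul_apply_cs a _ hu, add_neg_cancel]
  · rw [← mul_assoc, xs_mul, add_neg_cancel, xs_zero, one_mul]

/-- `|U| = q |U_a|` -/
theorem card_Usl_eq [Fintype F] (a : Fin (m + 1)) :
    Nat.card (Usl m F) = Fintype.card F * Nat.card (Uasl F a) := by
  let ψ : F × Uasl F a → Usl m F := fun p =>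
    ⟨xs a p.1 * (p.2 : SpecialLinearGroup (Fin (m + 2)) F),
      (Usl m F).mul_mem (xs_mem_Usl a p.1) (Uasl_le_Usl a p.2.2)⟩
  have hψ : Function.Bijective ψ := by
    constructor
    · rintro ⟨t, v⟩ ⟨t', v'⟩ h
      have e : xs a t * (v : SpecialLinearGroup (Fin (m + 2)) F) =
          xs a t' * (v' : SpecialLinearGroup (Fin (m + 2)) F) := congrArg Subtype.val h
      have e1 := xs_mul_apply_cs a t (Uasl_le_Usl a v.2)
      have e2 := xs_mul_apply_cs a t' (Uasl_le_Usl a v'.2)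
      rw [(mem_Uasl.1 v.2).2, zero_add] at e1
      rw [(mem_Uasl.1 v'.2).2, zero_add] at e2
      rw [e, e2] at e1
      subst e1
      exact Prod.ext rfl (Subtype.ext (mul_left_cancel e))
    · rintro ⟨u, hu⟩
      obtain ⟨t, v, hv, rfl⟩ := Usl_prod a hu
      exact ⟨(t, ⟨v, hv⟩), rfl⟩
  rw [← Nat.card_congr (Equiv.ofBijective ψ hψ), Nat.card_prod,
    show Nat.card F = Fintype.card F from Nat.card_eq_fintype_card]

/-! ### `B / U` is abelian -/

theorem diag_mul {x y : SpecialLinearGroup (Fin (m + 2)) F} (hx : x ∈ Bsl m F) (hy : y ∈ Bsl m F)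
    (i : Fin (m + 2)) : (x * y).1 i i = x.1 i i * y.1 i i := by
  rw [Matrix.SpecialLinearGroup.coe_mul]
  exact mul_apply_diag (mem_Bsl.1 hx) (mem_Bsl.1 hy) i

theorem diag_inv {x : SpecialLinearGroup (Fin (m + 2)) F} (hx : x ∈ Bsl m F) (i : Fin (m + 2)) :
    x.1 i i * (x⁻¹).1 i i = 1 := by
  rw [← diag_mul hx ((Bsl m F).inv_mem hx), mul_inv_cancel]
  exact Matrix.one_apply_eq i

/-- an upper triangular matrix with ones on the diagonal is unitriangular -/
theorem mem_Usl_of_diag {x : SpecialLinearGroup (Fin (m + 2)) F} (hx : x ∈ Bsl m F)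
    (h1 : ∀ i, x.1 i i = 1) : x ∈ Usl m F :=
  mem_Usl.2 ⟨mem_Bsl.1 hx, h1⟩

theorem comm_mem_Usl {x y : SpecialLinearGroup (Fin (m + 2)) F} (hx : x ∈ Bsl m F) (hy : y ∈ Bsl m F) :
    x * y * x⁻¹ * y⁻¹ ∈ Usl m F := by
  have hxi := (Bsl m F).inv_mem hx
  have hyi := (Bsl m F).inv_mem hy
  have h1 := (Bsl m F).mul_mem hx hy
  have h2 := (Bsl m F).mul_mem h1 hxi
  apply mem_Usl_of_diag ((Bsl m F).mul_mem h2 hyi)
  intro i
  rw [diag_mul h2 hyi, diag_mul h1 hxi, diag_mul hx hy]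
  have e1 := diag_inv hx i
  have e2 := diag_inv hy i
  calc x.1 i i * y.1 i i * (x⁻¹).1 i i * (y⁻¹).1 i i
      = (x.1 i i * (x⁻¹).1 i i) * (y.1 i i * (y⁻¹).1 i i) := by ring
    _ = 1 := by rw [e1, e2, one_mul]

end Cfsg.Agent.Lib.Helper81_DZSLnB
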