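/-
The diagonal elements `h_a(t)` of `SL_n(F)`, `n = m + 2`: they lie in the normal closure of `U` in `P_a`, and
together with `U` they generate `B` (helper81).
-/
import Mathlib
import Cfsg.Agent.Lib.Helper81_DZSLnB

set_option autoImplicit false
set_option linter.unusedSectionVars false
set_option linter.unusedVariables false
set_option linter.unusedSimpArgs false

namespace Cfsg.Agent.Lib.Helper81_DZSLnC

open Matrix Cfsg.Agent.Lib.Helper44_PSLnUT Cfsg.Agent.Lib.Helper81_DZSLnA Cfsg.Agent.Lib.Helper81_DZSLnB

variable {m : ℕ} {F : Type*} [Field F]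

/-! ### The entries of `n_a` and the conjugation of `x_a(t)` by `n_a` -/

theorem ns_apply_c (a : Fin (m + 1)) (j : Fin (m + 2)) :
    (ns a : SpecialLinearGroup (Fin (m + 2)) F).1 a.castSucc j = if j = a.succ then 1 else 0 := by
  have := ns_mul_apply_c (F := F) a 1 j
  rw [Matrix.mul_one] at this
  rw [this, Matrix.one_apply]
  by_cases h : j = a.succ
  · rw [if_pos h, if_pos h.symm]
  · rw [if_neg h, if_neg (fun h' => h h'.symm)]

theorem ns_apply_s (a : Fin (m + 1)) (j : Fin (m + 2)) :
    (ns a : SpecialLinearGroup (Fin (m + 2)) F).1 a.succ j = if j = a.castSucc then -1 else 0 := by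
  have := ns_mul_apply_s (F := F) a 1 j
  rw [Matrix.mul_one] at this
  rw [this, Matrix.one_apply]
  by_cases h : j = a.castSucc
  · rw [if_pos h, if_pos h.symm]
  · rw [if_neg h, if_neg (fun h' => h h'.symm), neg_zero]

theorem ns_apply_of_ne (a : Fin (m + 1)) (i j : Fin (m + 2)) (h1 : i ≠ a.castSucc) (h2 : i ≠ a.succ) :
    (ns a : SpecialLinearGroup (Fin (m + 2)) F).1 i j = if i = j then 1 else 0 := by
  have := ns_mul_apply_of_ne (F := F) a 1 i j h1 h2
  rw [Matrix.mul_one] at this
  rw [this, Matrix.one_apply]

/-- `n_a x_a(t) = y_a(-t) n_a` -/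
theorem ns_mul_xs (a : Fin (m + 1)) (t : F) : ns a * xs a t = ys a (-t) * ns a := by
  apply Subtype.ext
  rw [Matrix.SpecialLinearGroup.coe_mul, Matrix.SpecialLinearGroup.coe_mul]
  have hcs := ca_ne_sa a
  have hsc := (ca_ne_sa a).symm
  ext i j
  by_cases hic : i = a.castSucc
  · subst hic
    rw [ns_mul_apply_c, ys_mul_apply_of_ne _ _ _ _ _ hcs, ns_apply_c, xs_apply]
    by_cases h : j = a.succ
    · subst h
      simp only [hcs, hsc, and_self, if_true, if_false, and_true, true_and, and_false, false_and]
    · have h' : a.succ ≠ j := fun h2 => h h2.symm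
      simp only [h, h', hcs, hsc, and_self, if_true, if_false, and_true, true_and, and_false, false_and]
  · by_cases his : i = a.succ
    · subst his
      rw [ns_mul_apply_s, ys_mul_apply_s, ns_apply_s, ns_apply_c, xs_apply]
      by_cases h1 : j = a.succ
      · subst h1
        simp only [hcs, hsc, and_self, if_true, if_false, and_true, true_and, and_false, false_and]
        ring
      · by_cases h2 : j = a.castSucc
        · subst h2
          simp only [hcs, hsc, and_self, if_true, if_false, and_true, true_and, and_false, false_and]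
          ring
        · have h2' : a.castSucc ≠ j := fun h => h2 h.symm
          simp only [h1, h2, h2', hcs, hsc, and_self, if_true, if_false, and_true, true_and, and_false,
            false_and]
          ring
    · rw [ns_mul_apply_of_ne _ _ _ _ hic his, ys_mul_apply_of_ne _ _ _ _ _ his,
        ns_apply_of_ne _ _ _ hic his, xs_apply, if_neg (fun h => hic h.1)]

theorem ys_eq_conj (a : Fin (m + 1)) (t : F) : ys a t = ns a * xs a (-t) * (ns a)⁻¹ := by
  rw [ns_mul_xs, neg_neg, mul_inv_cancel_right]

/-! ### The diagonal elements -/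

/-- `h_a(t) = diag(1, …, t, t⁻¹, …, 1)` as a product of four root elements -/
def hs (a : Fin (m + 1)) (t : F) : SpecialLinearGroup (Fin (m + 2)) F :=
  ys a (-((t - 1) / t)) * xs a 1 * ys a (t - 1) * xs a (-(1 / t))

theorem hs_val (a : Fin (m + 1)) (t : F) :
    (hs a t).1 = (ys a (-((t - 1) / t))).1 * ((xs a 1).1 * ((ys a (t - 1)).1 * (xs a (-(1 / t))).1)) := by
  unfold hs
  rw [Matrix.SpecialLinearGroup.coe_mul, Matrix.SpecialLinearGroup.coe_mul,
    Matrix.SpecialLinearGroup.coe_mul, Matrix.mul_assoc, Matrix.mul_assoc]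

theorem hs_apply (a : Fin (m + 1)) (t : F) (ht : t ≠ 0) (i j : Fin (m + 2)) :
    (hs a t).1 i j = if i = j then (if i = a.castSucc then t else if i = a.succ then t⁻¹ else 1) else 0 := by
  rw [hs_val]
  have hcs := ca_ne_sa a
  have hsc := (ca_ne_sa a).symm
  by_cases hic : i = a.castSucc
  · subst hic
    rw [ys_mul_apply_of_ne _ _ _ _ _ hcs, xs_mul_apply_c, ys_mul_apply_of_ne _ _ _ _ _ hcs,
      ys_mul_apply_s]
    simp only [xs_apply]
    by_cases h1 : j = a.succ
    · subst h1
      simp only [hcs, hsc, and_self, if_true, if_false, and_true, true_and, and_false, false_and]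
      field_simp
      ring
    · by_cases h2 : j = a.castSucc
      · subst h2
        simp only [hcs, hsc, and_self, if_true, if_false, and_true, true_and, and_false, false_and]
        ring
      · have h1' : a.succ ≠ j := fun h => h1 h.symm
        have h2' : a.castSucc ≠ j := fun h => h2 h.symm
        simp only [h1, h2, h1', h2', hcs, hsc, and_self, if_true, if_false, and_true, true_and, and_false,
          false_and]
        ring
  · by_cases his : i = a.succ
    · subst his
      rw [ys_mul_apply_s, xs_mul_apply_of_ne _ _ _ _ _ hsc, xs_mul_apply_c,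
        ys_mul_apply_of_ne _ _ _ _ _ hcs, ys_mul_apply_s]
      simp only [xs_apply]
      by_cases h1 : j = a.succ
      · subst h1
        simp only [hcs, hsc, and_self, if_true, if_false, and_true, true_and, and_false, false_and]
        field_simp
        ring
      · by_cases h2 : j = a.castSucc
        · subst h2
          simp only [hcs, hsc, and_self, if_true, if_false, and_true, true_and, and_false, false_and]
          field_simp
          ring
        · have h1' : a.succ ≠ j := fun h => h1 h.symm
          have h2' : a.castSucc ≠ j := fun h => h2 h.symm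
          simp only [h1, h2, h1', h2', hcs, hsc, and_self, if_true, if_false, and_true, true_and,
            and_false, false_and]
          ring
    · rw [ys_mul_apply_of_ne _ _ _ _ _ his, xs_mul_apply_of_ne _ _ _ _ _ hic,
        ys_mul_apply_of_ne _ _ _ _ _ his, xs_apply, if_neg (fun h => hic h.1), if_neg hic, if_neg his]

theorem hs_mem_Bsl (a : Fin (m + 1)) (t : F) (ht : t ≠ 0) : hs a t ∈ Bsl m F := by
  rw [mem_Bsl]
  intro i j hij
  rw [hs_apply a t ht, if_neg (ne_of_gt hij)]

/-- the normal closure of `U` in `P_a` contains `h_a(t)` -/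
theorem hs_mem_closure (a : Fin (m + 1)) (t : F) :
    hs a t ∈ Subgroup.closure {z : SpecialLinearGroup (Fin (m + 2)) F |
      ∃ y ∈ Psl F a, ∃ u ∈ Usl m F, z = y * u * y⁻¹} := by
  have h1 : ∀ r : F, xs a r ∈ Subgroup.closure {z : SpecialLinearGroup (Fin (m + 2)) F |
      ∃ y ∈ Psl F a, ∃ u ∈ Usl m F, z = y * u * y⁻¹} := by
    intro r
    apply Subgroup.subset_closure
    exact ⟨1, Subgroup.one_mem _, xs a r, xs_mem_Usl a r, by group⟩
  have h2 : ∀ r : F, ys a r ∈ Subgroup.closure {z : SpecialLinearGroup (Fin (m + 2)) F |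
      ∃ y ∈ Psl F a, ∃ u ∈ Usl m F, z = y * u * y⁻¹} := by
    intro r
    apply Subgroup.subset_closure
    exact ⟨ns a, ns_mem_Psl a, xs a (-r), xs_mem_Usl a _, ys_eq_conj a r⟩
  unfold hs
  exact Subgroup.mul_mem _ (Subgroup.mul_mem _ (Subgroup.mul_mem _ (h2 _) (h1 _)) (h2 _)) (h1 _)

/-! ### `B` is generated by `U` and the `h_a(t)` -/

theorem Bsl_le_closure :
    Bsl m F ≤ Subgroup.closure ((Usl m F : Set (SpecialLinearGroup (Fin (m + 2)) F)) ∪
      ⋃ a : Fin (m + 1), {g | ∃ t : F, t ≠ 0 ∧ g = hs a t}) := by
  have key : ∀ k : ℕ, k ≤ m + 1 → ∀ g ∈ Bsl m F, (∀ i : Fin (m + 2), k < (i : ℕ) → g.1 i i = 1) →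
      g ∈ Subgroup.closure ((Usl m F : Set (SpecialLinearGroup (Fin (m + 2)) F)) ∪
        ⋃ a : Fin (m + 1), {g | ∃ t : F, t ≠ 0 ∧ g = hs a t}) := by
    intro k
    induction k with
    | zero =>
      intro _ g hg h1
      apply Subgroup.subset_closure
      left
      apply mem_Usl_of_diag hg
      intro i
      by_cases hi : 0 < (i : ℕ)
      · exact h1 i hi
      · have hi0 : i = 0 := by
          apply Fin.ext
          simp only [Fin.val_zero]
          omega
        have hdet : g.1.det = ∏ k, g.1 k k := by
          apply Matrix.det_of_upperTriangular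
          intro i j hij
          exact mem_Bsl.1 hg i j hij
        rw [g.2, Fintype.prod_eq_single (0 : Fin (m + 2))] at hdet
        · rw [hi0]
          exact hdet.symm
        · intro x hx
          apply h1
          have : (x : ℕ) ≠ 0 := fun h => hx (Fin.ext h)
          omega
    | succ k ih =>
      intro hk g hg h1
      let a : Fin (m + 1) := ⟨k, by omega⟩
      have hsa : ((a.succ : Fin (m + 2)) : ℕ) = k + 1 := by simp [a]
      have hca : ((a.castSucc : Fin (m + 2)) : ℕ) = k := by simp [a]
      set t := g.1 a.succ a.succ with ht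
      have ht0 : t ≠ 0 := diag_ne_zero hg _
      have hh := hs_mem_Bsl a t ht0
      have hmem : g * hs a t ∈ Subgroup.closure
          ((Usl m F : Set (SpecialLinearGroup (Fin (m + 2)) F)) ∪
            ⋃ a : Fin (m + 1), {g | ∃ t : F, t ≠ 0 ∧ g = hs a t}) := by
        apply ih (by omega) _ ((Bsl m F).mul_mem hg hh)
        intro i hi
        rw [diag_mul hg hh, hs_apply a t ht0, if_pos rfl]
        by_cases h2 : i = a.succ
        · subst h2
          rw [if_neg (ca_ne_sa a).symm, if_pos rfl, ← ht, mul_inv_cancel₀ ht0]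
        · have h3 : i ≠ a.castSucc := by
            intro h
            rw [h, hca] at hi
            omega
          rw [if_neg h3, if_neg h2, mul_one]
          apply h1
          have : (i : ℕ) ≠ k + 1 := fun h => h2 (Fin.ext (by rw [h, hsa]))
          omega
      have hT : hs a t ∈ Subgroup.closure
          ((Usl m F : Set (SpecialLinearGroup (Fin (m + 2)) F)) ∪
            ⋃ a : Fin (m + 1), {g | ∃ t : F, t ≠ 0 ∧ g = hs a t}) := by
        apply Subgroup.subset_closure
        right
        rw [Set.mem_iUnion]
        exact ⟨a, t, ht0, rfl⟩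
      have e : g = g * hs a t * (hs a t)⁻¹ := by group
      rw [e]
      exact Subgroup.mul_mem _ hmem (Subgroup.inv_mem _ hT)
  intro g hg
  apply key (m + 1) le_rfl g hg
  intro i hi
  have := i.2
  omega

end Cfsg.Agent.Lib.Helper81_DZSLnC
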