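/-
`SL_n(F)`, `n = m + 2`: for every `g` some `P_a`-conjugate of the root subgroup `X_a` is carried into `U` by `g`
(a consequence of the Bruhat decomposition of `GL_n(F)`) (helper81).
-/
import Mathlib
import Cfsg.Agent.Lib.Helper81_DZSLnC
import Cfsg.Agent.Lib.Helper81_Bruhat

set_option autoImplicit false
set_option linter.unusedSectionVars false
set_option linter.unusedVariables false
set_option linter.unusedSimpArgs false

namespace Cfsg.Agent.Lib.Helper81_DZSLnD

open Matrix Cfsg.Agent.Lib.Helper44_PSLnUT Cfsg.Agent.Lib.Helper81_DZSLnA Cfsg.Agent.Lib.Helper81_DZSLnB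
  Cfsg.Agent.Lib.Helper81_DZSLnC Cfsg.Agent.Lib.Helper81_Bruhat

open scoped MatrixGroups

variable {m : ℕ} {F : Type*} [Field F]

/-! ### Matrix lemmas -/

theorem mul_single_mul_apply {n : ℕ} (H H' : Matrix (Fin n) (Fin n) F) (c s : Fin n) (r : F)
    (i j : Fin n) : (H * Matrix.single c s r * H') i j = H i c * r * H' s j := by
  rw [Matrix.mul_apply, Finset.sum_eq_single s]
  · rw [Matrix.mul_single_apply_same]
  · intro k _ hk
    rw [Matrix.mul_single_apply_of_ne (hbj := hk), zero_mul]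
  · intro h
    exact absurd (Finset.mem_univ s) h

/-- conjugating a transvection by a matrix whose column `c` is supported on the rows `≤ k` and whose inverse
has row `s` supported on the columns `≥ l`, where `k < l` -/
theorem isUT_conj {n : ℕ} {H H' : Matrix (Fin n) (Fin n) F} (hHH' : H * H' = 1) (c s k l : Fin n)
    (hkl : k < l) (h1 : ∀ i, k < i → H i c = 0) (h2 : ∀ j, j < l → H' s j = 0) (r : F) :
    IsUT (H * Matrix.transvection c s r * H') := by
  have e : H * Matrix.transvection c s r * H' = 1 + H * Matrix.single c s r * H' := by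
    rw [Matrix.transvection, Matrix.mul_add, Matrix.add_mul, Matrix.mul_one, hHH']
  have key : ∀ i j : Fin n, j ≤ i → (H * Matrix.single c s r * H') i j = 0 := by
    intro i j hji
    rw [mul_single_mul_apply]
    by_cases hk : k < i
    · rw [h1 i hk, zero_mul, zero_mul]
    · rw [h2 j (lt_of_le_of_lt (le_trans hji (not_lt.mp hk)) hkl), mul_zero]
  rw [e]
  refine ⟨fun i j hij => ?_, fun i => ?_⟩
  · rw [Matrix.add_apply, key i j hij.le, Matrix.one_apply_ne (ne_of_gt hij), add_zero]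
  · rw [Matrix.add_apply, key i i le_rfl, Matrix.one_apply_eq, add_zero]

theorem mul_W_apply {n : ℕ} (M : Matrix (Fin n) (Fin n) F) (σ : Equiv.Perm (Fin n)) (i j : Fin n) :
    (M * (W σ : Matrix (Fin n) (Fin n) F)) i j = M i (σ j) := by
  rw [Matrix.mul_apply, Finset.sum_eq_single (σ j)]
  · rw [W_apply, if_pos rfl, mul_one]
  · intro k _ hk
    rw [W_apply, if_neg hk, mul_zero]
  · intro h
    exact absurd (Finset.mem_univ _) h

theorem W_mul_apply {n : ℕ} (M : Matrix (Fin n) (Fin n) F) (σ : Equiv.Perm (Fin n)) (i j : Fin n) :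
    ((W σ : Matrix (Fin n) (Fin n) F) * M) i j = M (σ⁻¹ i) j := by
  rw [Matrix.mul_apply, Finset.sum_eq_single (σ⁻¹ i)]
  · rw [W_apply, if_pos (by simp), one_mul]
  · intro k _ hk
    rw [W_apply, if_neg, zero_mul]
    intro h
    apply hk
    rw [h]
    simp
  · intro h
    exact absurd (Finset.mem_univ _) h

/-- column `a` of `M n_a` is minus column `a + 1` of `M` -/
theorem mul_ns_apply_c (a : Fin (m + 1)) (M : Matrix (Fin (m + 2)) (Fin (m + 2)) F) (i : Fin (m + 2)) :
    (M * (ns a : SpecialLinearGroup (Fin (m + 2)) F).1) i a.castSucc = - M i a.succ := by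
  rw [ns_val, ← Matrix.mul_assoc, ← Matrix.mul_assoc, xs_val, ys_val,
    Matrix.mul_transvection_apply_of_ne _ _ _ _ (ca_ne_sa a), Matrix.mul_transvection_apply_same,
    Matrix.mul_transvection_apply_of_ne _ _ _ _ (ca_ne_sa a), Matrix.mul_transvection_apply_same]
  ring

/-! ### The diagonal correction -/

/-- the vector `(δ, 1, …, 1)` -/
def dvec (δ : F) : Fin (m + 2) → F := Function.update (fun _ => 1) 0 δ

theorem dvec_mul (δ ε : F) (i : Fin (m + 2)) : dvec (m := m) δ i * dvec ε i = dvec (δ * ε) i := by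
  unfold dvec
  by_cases h : i = 0
  · subst h
    rw [Function.update_self, Function.update_self, Function.update_self]
  · rw [Function.update_of_ne h, Function.update_of_ne h, Function.update_of_ne h, mul_one]

theorem dvec_one : dvec (m := m) (1 : F) = fun _ => 1 := by
  unfold dvec
  funext i
  by_cases h : i = 0
  · subst h
    rw [Function.update_self]
  · rw [Function.update_of_ne h]

/-- the diagonal matrix `diag(δ, 1, …, 1)` in `GL_n(F)` -/
def dGL (δ : Fˣ) : GL (Fin (m + 2)) F where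
  val := Matrix.diagonal (dvec (δ : F))
  inv := Matrix.diagonal (dvec ((δ⁻¹ : Fˣ) : F))
  val_inv := by
    rw [Matrix.diagonal_mul_diagonal]
    simp only [dvec_mul, Units.mul_inv, dvec_one]
    exact Matrix.diagonal_one
  inv_val := by
    rw [Matrix.diagonal_mul_diagonal]
    simp only [dvec_mul, Units.inv_mul, dvec_one]
    exact Matrix.diagonal_one

theorem dGL_val (δ : Fˣ) : ((dGL (m := m) δ : GL (Fin (m + 2)) F) : Matrix (Fin (m + 2)) (Fin (m + 2)) F) =
    Matrix.diagonal (dvec (δ : F)) := rfl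

theorem dGL_inv_val (δ : Fˣ) :
    (((dGL (m := m) δ)⁻¹ : GL (Fin (m + 2)) F) : Matrix (Fin (m + 2)) (Fin (m + 2)) F) =
      Matrix.diagonal (dvec ((δ⁻¹ : Fˣ) : F)) := rfl

theorem det_dGL (δ : Fˣ) : Matrix.GeneralLinearGroup.det (dGL (m := m) δ) = δ := by
  apply Units.ext
  rw [Matrix.GeneralLinearGroup.val_det_apply, dGL_val, Matrix.det_diagonal]
  unfold dvec
  rw [Finset.prod_update_of_mem (Finset.mem_univ _)]
  simp

/-! ### The main statement -/

theorem bt_lev_of_bt_id {a : Fin (m + 1)} {M : Matrix (Fin (m + 2)) (Fin (m + 2)) F}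
    (h : M.BlockTriangular id) : M.BlockTriangular (lev a) := by
  intro i j hij
  exact h ((lev_lt_iff a i j).1 hij).1

theorem bruhat_aux (a : Fin (m + 1)) (g : SpecialLinearGroup (Fin (m + 2)) F)
    (b b' : GL (Fin (m + 2)) F) (hb' : b' ∈ Cfsg.upperTriangularGL (m + 2) F)
    (σ : Equiv.Perm (Fin (m + 2)))
    (e : Matrix.SpecialLinearGroup.toGL g = b * WGL σ * b')
    (z : SpecialLinearGroup (Fin (m + 2)) F) (hz : z ∈ Psl F a) (k l : Fin (m + 2)) (hkl : k < l)
    (h1 : ∀ i, k < i → ((b : Matrix (Fin (m + 2)) (Fin (m + 2)) F) *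
      (W σ : Matrix (Fin (m + 2)) (Fin (m + 2)) F) * z.1) i a.castSucc = 0)
    (h2 : ∀ j, j < l → ((z⁻¹).1 * ((W σ⁻¹ : Matrix (Fin (m + 2)) (Fin (m + 2)) F) *
      ((b⁻¹ : GL (Fin (m + 2)) F) : Matrix (Fin (m + 2)) (Fin (m + 2)) F))) a.succ j = 0) :
    ∃ y ∈ Psl F a, ∀ x ∈ Xsl F a, g * (y * x * y⁻¹) * g⁻¹ ∈ Usl m F := by
  set δ : Fˣ := Matrix.GeneralLinearGroup.det b' with hδ
  set yG : GL (Fin (m + 2)) F := b'⁻¹ * Matrix.SpecialLinearGroup.toGL z * dGL δ with hyG
  have hdetG : Matrix.GeneralLinearGroup.det yG = 1 := by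
    rw [hyG, map_mul, map_mul, map_inv, det_dGL, ← hδ, Matrix.SpecialLinearGroup.coeToGL_det]
    simp
  have hdet : (yG : Matrix (Fin (m + 2)) (Fin (m + 2)) F).det = 1 := by
    have := congrArg Units.val hdetG
    rwa [Matrix.GeneralLinearGroup.val_det_apply, Units.val_one] at this
  set y : SpecialLinearGroup (Fin (m + 2)) F := ⟨(yG : Matrix (Fin (m + 2)) (Fin (m + 2)) F), hdet⟩ with hy
  have hyGL : Matrix.SpecialLinearGroup.toGL y = yG := Units.ext rfl
  have hyval : y.1 = ((b'⁻¹ : GL (Fin (m + 2)) F) : Matrix (Fin (m + 2)) (Fin (m + 2)) F) * z.1 *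
      Matrix.diagonal (dvec (δ : F)) := by
    show (yG : Matrix (Fin (m + 2)) (Fin (m + 2)) F) = _
    rw [hyG, Units.val_mul, Units.val_mul, dGL_val, Matrix.SpecialLinearGroup.coe_GL_coe_matrix]
  have hyP : y ∈ Psl F a := by
    rw [mem_Pb, hyval]
    have hbi : ((b'⁻¹ : GL (Fin (m + 2)) F) : Matrix (Fin (m + 2)) (Fin (m + 2)) F).BlockTriangular id :=
      (Cfsg.upperTriangularGL (m + 2) F).inv_mem hb'
    exact ((bt_lev_of_bt_id hbi).mul hz).mul (Matrix.blockTriangular_diagonal _)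
  have hG : Matrix.SpecialLinearGroup.toGL (g * y) =
      b * WGL σ * Matrix.SpecialLinearGroup.toGL z * dGL δ := by
    rw [map_mul, e, hyGL, hyG]
    group
  have hGi : Matrix.SpecialLinearGroup.toGL (g * y)⁻¹ =
      (dGL δ)⁻¹ * Matrix.SpecialLinearGroup.toGL z⁻¹ * WGL σ⁻¹ * b⁻¹ := by
    rw [map_inv, hG, map_inv, map_inv]
    group
  have Hval : (g * y).1 = (b : Matrix (Fin (m + 2)) (Fin (m + 2)) F) * W σ * z.1 *
      Matrix.diagonal (dvec (δ : F)) := by
    have := congrArg (fun u : GL (Fin (m + 2)) F => (u : Matrix (Fin (m + 2)) (Fin (m + 2)) F)) hG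
    simp only [Units.val_mul, Matrix.SpecialLinearGroup.coe_GL_coe_matrix, WGL_coe, dGL_val] at this
    exact this
  have H'val : ((g * y)⁻¹).1 = Matrix.diagonal (dvec ((δ⁻¹ : Fˣ) : F)) * ((z⁻¹).1 *
      ((W σ⁻¹ : Matrix (Fin (m + 2)) (Fin (m + 2)) F) *
        ((b⁻¹ : GL (Fin (m + 2)) F) : Matrix (Fin (m + 2)) (Fin (m + 2)) F))) := by
    have := congrArg (fun u : GL (Fin (m + 2)) F => (u : Matrix (Fin (m + 2)) (Fin (m + 2)) F)) hGi
    simp only [Units.val_mul, Matrix.SpecialLinearGroup.coe_GL_coe_matrix, WGL_coe, dGL_inv_val] at this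
    rw [this, Matrix.mul_assoc, Matrix.mul_assoc]
  have hHH' : (g * y).1 * ((g * y)⁻¹).1 = 1 := by
    rw [← Matrix.SpecialLinearGroup.coe_mul, mul_inv_cancel, Matrix.SpecialLinearGroup.coe_one]
  refine ⟨y, hyP, ?_⟩
  rintro _ ⟨r, rfl⟩
  have e1 : g * (y * xs a r * y⁻¹) * g⁻¹ = (g * y) * xs a r * (g * y)⁻¹ := by group
  rw [e1, mem_Usl, Matrix.SpecialLinearGroup.coe_mul, Matrix.SpecialLinearGroup.coe_mul, xs_val]
  apply isUT_conj hHH' a.castSucc a.succ k l hkl
  · intro i hi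
    rw [Hval, Matrix.mul_diagonal, h1 i hi, zero_mul]
  · intro j hj
    rw [H'val, Matrix.diagonal_mul, h2 j hj, mul_zero]

/-- For every `g` some `P_a`-conjugate of `X_a` is carried into `U` by `g`. -/
theorem exists_conj_Xsl_mem_Usl (a : Fin (m + 1)) (g : SpecialLinearGroup (Fin (m + 2)) F) :
    ∃ y ∈ Psl F a, ∀ x ∈ Xsl F a, g * (y * x * y⁻¹) * g⁻¹ ∈ Usl m F := by
  obtain ⟨b, hb, σ, b', hb', e⟩ := bruhat (Matrix.SpecialLinearGroup.toGL g)
  have hbT : (b : Matrix (Fin (m + 2)) (Fin (m + 2)) F).BlockTriangular id := hb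
  have hbi : ((b⁻¹ : GL (Fin (m + 2)) F) : Matrix (Fin (m + 2)) (Fin (m + 2)) F).BlockTriangular id :=
    (Cfsg.upperTriangularGL (m + 2) F).inv_mem hb
  have hne : σ a.castSucc ≠ σ a.succ := fun h => ca_ne_sa a (σ.injective h)
  have h1v : (1 : SpecialLinearGroup (Fin (m + 2)) F).1 = 1 := rfl
  rcases lt_or_gt_of_ne hne with hlt | hlt
  · apply bruhat_aux a g b b' hb' σ e 1 (Subgroup.one_mem _) (σ a.castSucc) (σ a.succ) hlt
    · intro i hi
      rw [h1v, Matrix.mul_one, mul_W_apply]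
      exact hbT hi
    · intro j hj
      rw [inv_one, h1v, Matrix.one_mul, W_mul_apply, inv_inv]
      exact hbi hj
  · apply bruhat_aux a g b b' hb' σ e (ns a) (ns_mem_Psl a) (σ a.succ) (σ a.castSucc) hlt
    · intro i hi
      rw [mul_ns_apply_c, mul_W_apply, neg_eq_zero]
      exact hbT hi
    · intro j hj
      rw [ns_inv_mul_apply_s, W_mul_apply, inv_inv]
      exact hbi hj

end Cfsg.Agent.Lib.Helper81_DZSLnD
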