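/-
The split (B, N)-pair data `DZData` (of `Helper40_DefZeroDefs`) of `SL_n(F)`, `n = m + 2`, over a finite field of
characteristic `p` (helper81).
-/
import Mathlib
import Cfsg.Agent.Lib.Helper81_DZSLnD
import Cfsg.Agent.Lib.Helper40_DefZeroDefs

set_option autoImplicit false
set_option linter.unusedSectionVars false
set_option linter.unusedVariables false

namespace Cfsg.Agent.Lib.Helper81_DZSLnE

open Matrix Cfsg.Agent.Lib.Helper44_PSLnUT Cfsg.Agent.Lib.Helper81_DZSLnA Cfsg.Agent.Lib.Helper81_DZSLnB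
  Cfsg.Agent.Lib.Helper81_DZSLnC Cfsg.Agent.Lib.Helper81_DZSLnD Cfsg.Agent.Lib.Helper40_DefZeroDefs

open scoped MatrixGroups

variable {m : ℕ} {F : Type*} [Field F]

/-- `U` is a Sylow `p`-subgroup of `SL_n(F)` -/
theorem card_Usl [Fintype F] (p : ℕ) [hp : Fact p.Prime] [CharP F p] :
    Nat.card (Usl m F) = p ^ (Nat.card (SpecialLinearGroup (Fin (m + 2)) F)).factorization p := by
  classical
  have hfin : Finite (SpecialLinearGroup (Fin (m + 2)) F) := Subtype.finite
  obtain ⟨f, -, hF⟩ := FiniteField.card F p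
  have hcard : Nat.card (Usl m F) = p ^ ((f : ℕ) * ∑ i : Fin (m + 2), (i : ℕ)) := by
    show Nat.card (Rb F (lv0 (m + 2))) = _
    rw [Rb_lv0_eq_UT, card_UT, hF, card_Pos, pow_mul]
  have hdvd : Nat.card (SpecialLinearGroup (Fin (m + 2)) F) ∣ Nat.card (GL (Fin (m + 2)) F) :=
    Subgroup.card_dvd_of_injective (Matrix.SpecialLinearGroup.toGL)
      Matrix.SpecialLinearGroup.toGL_injective
  have hk : (Nat.card (SpecialLinearGroup (Fin (m + 2)) F)).factorization p =
      (f : ℕ) * ∑ i : Fin (m + 2), (i : ℕ) := by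
    apply le_antisymm
    · rw [← factorization_card_GL hF]
      exact (Nat.factorization_le_iff_dvd Nat.card_pos.ne' Nat.card_pos.ne').mpr hdvd p
    · have h3 : p ^ ((f : ℕ) * ∑ i : Fin (m + 2), (i : ℕ)) ∣
          Nat.card (SpecialLinearGroup (Fin (m + 2)) F) := by
        rw [← hcard]
        exact Subgroup.card_subgroup_dvd_card _
      exact (hp.out.pow_dvd_iff_le_factorization Nat.card_pos.ne').mp h3
  rw [hcard, hk]

/-- The split (B, N)-pair data of `SL_n(F)`, `n = m + 2`, over a finite field of characteristic `p`: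
`U` upper unitriangular, `B` upper triangular, `P a` block upper triangular with one `2 × 2` block at the
positions `a, a + 1`, `X a = {1 + t E_{a,a+1}}`, `Ua a = {u ∈ U | u_{a,a+1} = 0}`,
`T a = {diag(1, …, t, t⁻¹, …, 1)}`, `n a` the monomial matrix `x_a(1) x_{-a}(-1) x_a(1)`. -/
noncomputable def dzDataSL [Fintype F] (p : ℕ) [Fact p.Prime] [CharP F p] (m : ℕ) :
    DZData (SpecialLinearGroup (Fin (m + 2)) F) p (Fintype.card F) (Fin (m + 1)) where
  U := Usl m F
  B := Bsl m F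
  P := fun a => Psl F a
  X := fun a => Xsl F a
  Ua := fun a => Uasl F a
  T := fun a => {g | ∃ t : F, t ≠ 0 ∧ g = hs a t}
  n := fun a => ns a
  hq := Fintype.one_lt_card
  U_le_B := Usl_le_Bsl
  card_U := card_Usl p
  U_normal := fun b hb u hu => conj_mem_Rb hb hu
  comm_mem := fun a ha b hb => comm_mem_Usl ha hb
  B_le_P := Bsl_le_Psl
  n_mem := ns_mem_Psl
  P_cover := by
    intro a g hg
    by_cases h0 : g.1 a.succ a.castSucc = 0
    · exact Or.inl (mem_Bsl_of_mem_Psl hg h0)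
    · obtain ⟨t, b, hb, e⟩ := mem_Psl_cover hg h0
      exact Or.inr ⟨xs a t, xs_mem_Usl a t, b, hb, e⟩
  card_P := card_Psl
  X_le_U := Xsl_le_Usl
  Ua_le_U := Uasl_le_Usl
  Ua_normal := fun a g hg u hu => conj_mem_Rb hg hu
  U_prod := by
    intro a u hu
    obtain ⟨t, v, hv, e⟩ := Usl_prod a hu
    exact ⟨xs a t, ⟨t, rfl⟩, v, hv, e⟩
  card_Ua := card_Usl_eq
  bruhat := exists_conj_Xsl_mem_Usl
  T_mem := by
    rintro a _ ⟨t, ht, rfl⟩
    exact ⟨hs_mem_Bsl a t ht, hs_mem_closure a t⟩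
  B_gen := Bsl_le_closure

theorem dzDataSL_B [Fintype F] (p : ℕ) [Fact p.Prime] [CharP F p] (m : ℕ) :
    (dzDataSL (F := F) p m).B = Bsl m F := rfl

theorem dzDataSL_P [Fintype F] (p : ℕ) [Fact p.Prime] [CharP F p] (m : ℕ) (a : Fin (m + 1)) :
    (dzDataSL (F := F) p m).P a = Psl F a := rfl

end Cfsg.Agent.Lib.Helper81_DZSLnE
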