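import Mathlib
import Cfsg.Agent.Lib.Helper81_HermWeights

set_option autoImplicit false

/-!
# Weights of a non-abelian unipotent radical with hermitian centre (helper81)

`SiegelDataOdd G σ m ε`: as `SiegelData` (with Levi elements for all invertible `A`), together
with elements `us W` (`W` a column vector) centralising the `xs H` and with
`us W · us W' = xs κ · (us W' · us W)`, `ε κ = W' W^* - W W'^*`.  Then every non-trivial weight
of the `xs H` has multiplicity at least `q` (`core_herm_odd`).
-/

namespace Cfsg.Agent.Lib.Helper81_HermWeightsOdd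

open Matrix Module
open Cfsg.Agent.Lib.Helper81_JointEigen Cfsg.Agent.Lib.Helper81_HermOrbit
  Cfsg.Agent.Lib.Helper81_HermWeights

section Orbit

variable {F : Type*} [Field F] [Fintype F] [DecidableEq F] {n : ℕ}

/-- the orbit bound for sets stable under all invertible matrices, any `n ≥ 1` -/
theorem orbit_bound_gl (σ : F →+* F) (q : ℕ) (hq : 2 ≤ q) (hσ : ∀ x, σ x = x ^ q)
    (hb : ∃ b : F, b + σ b ≠ 0) (hn : 1 ≤ n) (O : Finset (Matrix (Fin n) (Fin n) F))
    (hsym : ∀ T ∈ O, ct σ T = T) (hne : ∀ T ∈ O, T ≠ 0)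
    (hstab : ∀ T ∈ O, ∀ A B : Matrix (Fin n) (Fin n) F, A * B = 1 → ct σ A * T * A ∈ O)
    (hO : O.Nonempty) :
    Fintype.card F ^ n ≤ (q + 1) * O.card + 1 := by
  classical
  rcases Nat.lt_or_ge n 2 with h1 | h2
  · have hn1 : n = 1 := by omega
    subst hn1
    obtain ⟨T₁, hT₁⟩ := hO
    have ht1 : T₁ 0 0 ≠ 0 := by
      intro h0
      apply hne T₁ hT₁
      ext i j
      have hi : i = 0 := Subsingleton.elim _ _
      have hj : j = 0 := Subsingleton.elim _ _
      rw [hi, hj, h0]
      rfl
    set NZ := Finset.univ.filter fun a : F => a ≠ 0 with hNZ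
    set f : F → Matrix (Fin 1) (Fin 1) F := fun a =>
      ct σ (a • (1 : Matrix (Fin 1) (Fin 1) F)) * T₁ * (a • (1 : Matrix (Fin 1) (Fin 1) F)) with hf
    have hfa : ∀ a, f a 0 0 = σ a * T₁ 0 0 * a := by
      intro a
      rw [hf]
      simp only [ct_smul, ct_one, Matrix.smul_mul, Matrix.mul_smul, Matrix.one_mul, Matrix.mul_one,
        Matrix.smul_apply, smul_eq_mul]
      ring
    have h3 : NZ.card ≤ (q + 1) * (NZ.image f).card := by
      apply Finset.card_le_mul_card_image
      intro T _
      refine le_trans ?_ (card_roots_le q (T₁ 0 0) 0 0 (-(T 0 0)) ht1 hq)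
      apply Finset.card_le_card
      intro a ha
      rw [Finset.mem_filter] at ha
      rw [Finset.mem_filter]
      refine ⟨Finset.mem_univ _, ?_⟩
      have := congrFun (congrFun ha.2 0) 0
      rw [hfa, hσ] at this
      rw [pow_succ]
      linear_combination this
    have h4 : (NZ.image f).card ≤ O.card := by
      apply Finset.card_le_card
      intro T hT
      obtain ⟨a, ha, rfl⟩ := Finset.mem_image.mp hT
      rw [hNZ, Finset.mem_filter] at ha
      refine hstab T₁ hT₁ _ (a⁻¹ • (1 : Matrix (Fin 1) (Fin 1) F)) ?_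
      rw [Matrix.smul_mul, Matrix.mul_smul, Matrix.one_mul, smul_smul, mul_inv_cancel₀ ha.2,
        one_smul]
    have h5 : NZ.card + 1 = Fintype.card F := by
      rw [hNZ, Finset.filter_ne' Finset.univ (0 : F), Finset.card_erase_of_mem (Finset.mem_univ _),
        Finset.card_univ]
      have : 0 < Fintype.card F := Fintype.card_pos
      omega
    rw [pow_one]
    have := Nat.mul_le_mul_left (q + 1) h4
    omega
  · exact orbit_bound σ q hq hσ hb h2 O hsym hne (fun T hT A B hAB _ => hstab T hT A B hAB) hO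

/-- the fixed points of `σ` -/
def fixAdd (σ : F →+* F) : AddSubgroup F where
  carrier := {x | σ x = x}
  add_mem' := fun {a b} ha hb => by
    show σ (a + b) = a + b
    rw [map_add, ha, hb]
  zero_mem' := map_zero σ
  neg_mem' := fun {a} ha => by
    show σ (-a) = -a
    rw [map_neg, ha]

omit [Fintype F] [DecidableEq F] in
theorem mem_fixAdd {σ : F →+* F} {x : F} : x ∈ fixAdd σ ↔ σ x = x := Iff.rfl

noncomputable instance fixAddFintype (σ : F →+* F) : Fintype (fixAdd σ) := Fintype.ofFinite _

theorem card_trace_roots_le (q : ℕ) (c : F) (hq : 2 ≤ q) :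
    (Finset.univ.filter fun x : F => x + x ^ q = c).card ≤ q := by
  classical
  set p : Polynomial F := Polynomial.X ^ q + (Polynomial.X - Polynomial.C c) with hp
  have hdeg : p.natDegree = q := by
    rw [hp, Polynomial.natDegree_add_eq_left_of_natDegree_lt]
    · exact Polynomial.natDegree_X_pow q
    · rw [Polynomial.natDegree_X_pow, Polynomial.natDegree_X_sub_C]; omega
  have hp0 : p ≠ 0 := by
    intro h
    rw [h, Polynomial.natDegree_zero] at hdeg
    omega
  have hsub : (Finset.univ.filter fun x : F => x + x ^ q = c) ⊆ p.roots.toFinset := by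
    intro x hx
    rw [Finset.mem_filter] at hx
    rw [Multiset.mem_toFinset, Polynomial.mem_roots hp0, Polynomial.IsRoot.def, hp]
    simp only [Polynomial.eval_add, Polynomial.eval_sub, Polynomial.eval_C, Polynomial.eval_pow,
      Polynomial.eval_X]
    linear_combination hx.2
  calc _ ≤ p.roots.toFinset.card := Finset.card_le_card hsub
    _ ≤ p.roots.card := Multiset.toFinset_card_le _
    _ ≤ p.natDegree := Polynomial.card_roots' p
    _ = q := hdeg

theorem card_fixAdd_ge (σ : F →+* F) (q : ℕ) (hq : 2 ≤ q) (hσq : ∀ x, σ x = x ^ q)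
    (hσ : ∀ x, σ (σ x) = x) (hF : Fintype.card F = q ^ 2) : q ≤ Fintype.card (fixAdd σ) := by
  classical
  set g : F → fixAdd σ := fun x => ⟨x + σ x, by
    show σ (x + σ x) = x + σ x
    rw [map_add, hσ, add_comm]⟩ with hg
  have h1 : (Finset.univ : Finset F).card ≤ q * ((Finset.univ : Finset F).image g).card := by
    apply Finset.card_le_mul_card_image
    intro c _
    refine le_trans ?_ (card_trace_roots_le q c.1 hq)
    apply Finset.card_le_card
    intro x hx
    rw [Finset.mem_filter] at hx
    rw [Finset.mem_filter]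
    refine ⟨Finset.mem_univ _, ?_⟩
    have := congrArg Subtype.val hx.2
    rw [← hσq]
    exact this
  have h2 : ((Finset.univ : Finset F).image g).card ≤ Fintype.card (fixAdd σ) :=
    Finset.card_le_univ _
  rw [Finset.card_univ, hF] at h1
  have h3 : q * q ≤ q * Fintype.card (fixAdd σ) := by
    calc q * q = q ^ 2 := by ring
      _ ≤ q * ((Finset.univ : Finset F).image g).card := h1
      _ ≤ q * Fintype.card (fixAdd σ) := Nat.mul_le_mul_left q h2
  have hq0 : 0 < q := by omega
  exact Nat.le_of_mul_le_mul_left h3 hq0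

end Orbit

section Shift

variable {K V : Type*} [Field K] [IsAlgClosed K] [AddCommGroup V] [Module K V]
  [FiniteDimensional K V]

/-- a commuting family of semisimple operators whose weights are shifted by a finite set of
functions has dimension at least the size of that set -/
theorem card_le_finrank_of_shift [Nontrivial V] {ι : Type*} {N : ℕ} (hN : (N : K) ≠ 0)
    (Y : ι → Module.End K V) (hY : ∀ i, Y i ^ N = 1) (hcomm : ∀ i j, Commute (Y i) (Y j))
    {Λ : Type*} [Fintype Λ] (lam : Λ → ι → K) (hlam : Function.Injective lam)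
    (x : Λ → Module.End K V) (hx : ∀ l, Function.Injective (x l))
    (hrel : ∀ l i, Y i * x l = lam l i • (x l * Y i)) :
    Fintype.card Λ ≤ finrank K V := by
  classical
  have hN0 : N ≠ 0 := by
    rintro rfl
    simp at hN
  obtain ⟨μ, hμ⟩ : ∃ μ : ι → K, jointEigenspace Y μ ≠ ⊥ := by
    by_contra hcon
    push Not at hcon
    have htop := iSup_jointEigenspace hN Y hY hcomm
    have : (⨆ χ : ι → K, jointEigenspace Y χ) = ⊥ := by
      rw [iSup_eq_bot]
      exact hcon
    rw [this] at htop
    exact bot_ne_top htop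
  obtain ⟨v, hvmem, hvne⟩ := Submodule.exists_mem_ne_zero_of_ne_bot hμ
  have hv : ∀ i, Y i v = μ i • v := (mem_jointEigenspace Y μ v).mp hvmem
  have hμ0 : ∀ i, μ i ≠ 0 := by
    intro i h0
    have h1 : (Y i ^ N) v = v := by rw [hY i]; rfl
    have h2 : ∀ k : ℕ, (Y i ^ k) v = μ i ^ k • v := by
      intro k
      induction k with
      | zero => simp
      | succ k ih =>
        rw [pow_succ, Module.End.mul_apply, hv i, map_smul, ih, smul_smul, pow_succ, mul_comm]
    rw [h2 N, h0, zero_pow hN0, zero_smul] at h1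
    exact hvne h1.symm
  refine card_le_finrank hN Y hY hcomm (Y := Λ) (fun l i => lam l i * μ i) ?_ ?_
  · intro l l' hll
    apply hlam
    funext i
    have := congrFun hll i
    exact mul_right_cancel₀ (hμ0 i) this
  · intro l hbot
    have hmem : x l v ∈ jointEigenspace Y (fun i => lam l i * μ i) := by
      rw [mem_jointEigenspace]
      intro i
      have := LinearMap.congr_fun (hrel l i) v
      rw [Module.End.mul_apply, LinearMap.smul_apply, Module.End.mul_apply, hv i, map_smul,
        smul_smul] at this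
      exact this
    rw [hbot, Submodule.mem_bot] at hmem
    apply hvne
    apply hx l
    rw [hmem, map_zero]

omit [IsAlgClosed K] in
/-- the sum of the dimensions of distinct joint eigenspaces is at most the dimension -/
theorem sum_finrank_le {ι : Type*} {p : ℕ} (hp : (p : K) ≠ 0) (A : ι → Module.End K V)
    (hA : ∀ i, A i ^ p = 1) (hcomm : ∀ i j, Commute (A i) (A j))
    {Y : Type*} [Fintype Y] (w : Y → ι → K) (hw : Function.Injective w) :
    ∑ y : Y, finrank K (jointEigenspace A (w y)) ≤ finrank K V := by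
  classical
  have hind := iSupIndep_jointEigenspace hp A hA hcomm
  have hind' : iSupIndep fun y : Y => jointEigenspace A (w y) := hind.comp hw
  exact Cfsg.Agent.Lib.Helper37_RepBound.sum_finrank_le_of_iSupIndep hind' Finset.univ

end Shift

section Data

variable {F : Type*} [Field F] {m : ℕ}

/-- abstract data: a Siegel-type parabolic with non-abelian radical -/
structure SiegelDataOdd (G : Type*) [Group G] (σ : F →+* F) (m : ℕ) (ε : F) where
  /-- the centre of the unipotent radical -/
  xs : hermAdd σ m → G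
  xs_add : ∀ H H', xs (H + H') = xs H * xs H'
  /-- the Levi elements -/
  ls : ∀ A B : Matrix (Fin m) (Fin m) F, A * B = 1 → G
  ls_mul_xs : ∀ (A B : Matrix (Fin m) (Fin m) F) (h : A * B = 1)
    (H H' : hermAdd σ m), H'.1 = A * H.1 * ct σ A → ls A B h * xs H = xs H' * ls A B h
  /-- the rest of the radical -/
  us : Matrix (Fin m) (Fin 1) F → G
  us_mul_xs : ∀ W H, us W * xs H = xs H * us W
  us_mul_us : ∀ (W W' : Matrix (Fin m) (Fin 1) F) (κ : hermAdd σ m),
    ε • κ.1 = W' * ct σ W - W * ct σ W' → us W * us W' = xs κ * (us W' * us W)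

namespace SiegelDataOdd

variable {G : Type*} [Group G] {σ : F →+* F} {ε : F} (D : SiegelDataOdd G σ m ε)

theorem xs_zero : D.xs 0 = 1 := by
  have := D.xs_add 0 0
  rw [add_zero] at this
  exact (mul_eq_left.mp this.symm)

theorem xs_pow (H : hermAdd σ m) (k : ℕ) : D.xs H ^ k = D.xs (k • H) := by
  induction k with
  | zero => rw [pow_zero, zero_smul, D.xs_zero]
  | succ k ih => rw [pow_succ, ih, succ_nsmul, D.xs_add]

theorem xs_comm (H H' : hermAdd σ m) : Commute (D.xs H) (D.xs H') := by
  show D.xs H * D.xs H' = D.xs H' * D.xs H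
  rw [← D.xs_add, ← D.xs_add, add_comm]

end SiegelDataOdd

/-- `W W^*` is hermitian -/
theorem rank_one_mem {σ : F →+* F} (hσ : ∀ x, σ (σ x) = x) (c : F) (hc : σ c = c)
    (W : Matrix (Fin m) (Fin 1) F) : c • (W * ct σ W) ∈ hermAdd σ m := by
  show ct σ (c • (W * ct σ W)) = _
  rw [ct_smul, ct_mul, ct_ct σ hσ, hc]

theorem trace_rank_one {σ : F →+* F} (W : Matrix (Fin m) (Fin 1) F) (v : Fin m → F)
    (hW : W = Matrix.replicateCol (Fin 1) v) (T : Matrix (Fin m) (Fin m) F) :
    Matrix.trace (W * ct σ W * T) = hf σ T v := by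
  rw [Matrix.mul_assoc, Matrix.trace_mul_comm, hW]
  unfold hf
  simp only [Matrix.trace, Matrix.diag_apply, Matrix.mul_apply, ct_apply, Matrix.replicateCol_apply,
    dotProduct, Matrix.mulVec, Finset.sum_mul, Finset.mul_sum, Finset.univ_unique,
    Finset.sum_singleton]
  rw [Finset.sum_comm]
  refine Finset.sum_congr rfl fun i _ => Finset.sum_congr rfl fun j _ => ?_
  ring

end Data

section Main

variable {F : Type*} [Field F] [Fintype F] [DecidableEq F] {m : ℕ}
variable {K : Type*} [Field K] [IsAlgClosed K] [CharZero K] {M : Type*} [AddCommGroup M]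
  [Module K M] [FiniteDimensional K M]
variable {G : Type*} [Group G] [Finite G]

set_option maxHeartbeats 3200000 in
/-- the Landazuri–Seitz bound from a parabolic whose radical has hermitian centre and a
Heisenberg-type quotient -/
theorem core_herm_odd (σ : F →+* F) (q : ℕ) (hq : 2 ≤ q) (hσq : ∀ x, σ x = x ^ q)
    (hσ : ∀ x, σ (σ x) = x) (hF : Fintype.card F = q ^ 2) (hb : ∃ b : F, b + σ b ≠ 0)
    (hm : 1 ≤ m) (p : ℕ) [CharP F p] (ε : F) (hε : σ ε = -ε)
    (D : SiegelDataOdd G σ m ε) (R : G →* Module.End K M)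
    (hnt : ∃ H : hermAdd σ m, R (D.xs H) ≠ 1) :
    q * Fintype.card F ^ m ≤ (q + 1) * finrank K M + q := by
  classical
  have hprime : p.Prime := CharP.char_is_prime F p
  have hp : (p : K) ≠ 0 := by exact_mod_cast hprime.ne_zero
  obtain ⟨θ, hθ⟩ : ∃ θ : F, θ + σ θ = 1 := by
    obtain ⟨b, hb⟩ := hb
    refine ⟨b / (b + σ b), ?_⟩
    rw [map_div₀, map_add, hσ, add_comm (σ b) b, ← add_div, div_self hb]
  set A : hermAdd σ m → Module.End K M := fun S => R (D.xs S) with hAdef
  have hA : ∀ S, A S ^ p = 1 := by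
    intro S
    show R (D.xs S) ^ p = 1
    rw [← map_pow, D.xs_pow]
    have : p • S = 0 := by
      apply Subtype.ext
      show p • S.1 = 0
      ext i j
      rw [Matrix.smul_apply, nsmul_eq_mul, CharP.cast_eq_zero, zero_mul, Matrix.zero_apply]
    rw [this, D.xs_zero, map_one]
  have hcomm : ∀ S S', Commute (A S) (A S') := fun S S' => (D.xs_comm S S').map R
  have hAadd : ∀ S S', A (S + S') = A S * A S' := fun S S' => by
    show R (D.xs (S + S')) = R (D.xs S) * R (D.xs S')
    rw [D.xs_add, map_mul]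
  have hA0 : A 0 = 1 := by
    show R (D.xs 0) = 1
    rw [D.xs_zero, map_one]
  -- weights are additive characters
  have hwt : ∀ χ : hermAdd σ m → K, jointEigenspace A χ ≠ ⊥ →
      χ 0 = 1 ∧ ∀ S S', χ (S + S') = χ S * χ S' := by
    intro χ hχ
    obtain ⟨x, hxmem, hxne⟩ := Submodule.exists_mem_ne_zero_of_ne_bot hχ
    have hx : ∀ S, A S x = χ S • x := (mem_jointEigenspace A χ x).mp hxmem
    constructor
    · have h1 : χ 0 • x = (1 : K) • x := by
        rw [← hx 0, hA0, one_smul]; rfl
      exact smul_left_injective K hxne h1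
    · intro S S'
      have h1 : χ (S + S') • x = (χ S * χ S') • x := by
        rw [← hx (S + S'), hAadd, Module.End.mul_apply, hx S', map_smul, hx S, smul_smul,
          mul_comm]
      exact smul_left_injective K hxne h1
  -- a non-trivial weight
  obtain ⟨χ₀, hχ₀, S₁, hS₁⟩ : ∃ χ₀ : hermAdd σ m → K, jointEigenspace A χ₀ ≠ ⊥ ∧
      ∃ S, χ₀ S ≠ 1 := by
    by_contra hcon
    push Not at hcon
    obtain ⟨S, hS⟩ := hnt
    apply hS
    have htop := iSup_jointEigenspace hp A hA hcomm
    have hle : (⊤ : Submodule K M) ≤ LinearMap.ker (A S - 1) := by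
      rw [← htop]
      refine iSup_le fun χ => ?_
      by_cases h : jointEigenspace A χ = ⊥
      · rw [h]; exact bot_le
      · intro x hx
        rw [LinearMap.mem_ker, LinearMap.sub_apply,
          (mem_jointEigenspace A χ x).mp hx S, hcon χ h S, one_smul]
        exact sub_self _
    refine LinearMap.ext fun x => ?_
    have := hle (Submodule.mem_top : x ∈ ⊤)
    rw [LinearMap.mem_ker, LinearMap.sub_apply, sub_eq_zero] at this
    exact this
  obtain ⟨hχ0, hχadd⟩ := hwt χ₀ hχ₀
  -- the bicharacter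
  set β : hermAdd σ m → hermAdd σ m → K := fun H T => χ₀ (trS H T S₁) with hβ
  have hβ0 : ∀ y, β 0 y = 1 := fun y => by
    show χ₀ (trS 0 y S₁) = 1
    rw [trS_zero_left, hχ0]
  have hβ0' : ∀ f, β f 0 = 1 := fun f => by
    show χ₀ (trS f 0 S₁) = 1
    rw [trS_zero_right, hχ0]
  have hβadd : ∀ f f' y, β (f + f') y = β f y * β f' y := fun f f' y => by
    show χ₀ (trS (f + f') y S₁) = χ₀ (trS f y S₁) * χ₀ (trS f' y S₁)
    rw [trS_add_left, hχadd]
  have hβadd' : ∀ f y y', β f (y + y') = β f y * β f y' := fun f y y' => by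
    show χ₀ (trS f (y + y') S₁) = χ₀ (trS f y S₁) * χ₀ (trS f y' S₁)
    rw [trS_add_right, hχadd]
  have hβne : ∀ f y, β f y ≠ 0 := by
    intro f y h0
    have h1 : β f y * β (-f) y = 1 := by rw [← hβadd, add_neg_cancel, hβ0]
    rw [h0, zero_mul] at h1
    exact zero_ne_one h1
  have hβone : ∀ f y : hermAdd σ m, Matrix.trace (f.1 * y.1) = 1 → β f y = χ₀ S₁ := by
    intro f y h1
    show χ₀ (trS f y S₁) = χ₀ S₁
    congr 1
    apply Subtype.ext
    show Matrix.trace (f.1 * y.1) • S₁.1 = S₁.1
    rw [h1, one_smul]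
  have hβnd : ∀ y, y ≠ 0 → ∃ f, β f y ≠ 1 := by
    intro y hy
    obtain ⟨H, hH⟩ := exists_trace_eq_one hσ ⟨θ, hθ⟩ y hy
    refine ⟨H, ?_⟩
    rw [hβone H y hH]
    exact hS₁
  -- every weight comes from the pairing
  have hex : ∀ χ : hermAdd σ m → K, jointEigenspace A χ ≠ ⊥ →
      ∃ T : hermAdd σ m, ∀ S, χ S = β S T := fun χ hχ =>
    exists_eq_bichar β hβ0 hβ0' hβadd hβadd' hβnd le_rfl χ (hwt χ hχ).1 (hwt χ hχ).2
  set wt : hermAdd σ m → hermAdd σ m → K := fun T S => β S T with hwtdef
  have hwtinj : Function.Injective wt := bichar_injective β hβ0' hβadd' hβnd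
  have hRne : ∀ (h : G) (x : M), x ≠ 0 → R h x ≠ 0 := by
    intro h x hx h0
    apply hx
    have h1 : R h⁻¹ (R h x) = x := by
      rw [← Module.End.mul_apply, ← map_mul, inv_mul_cancel, map_one]; rfl
    rw [← h1, h0, map_zero]
  -- the set of non-zero weights
  set O : Finset (hermAdd σ m) :=
    Finset.univ.filter fun T => T ≠ 0 ∧ jointEigenspace A (wt T) ≠ ⊥ with hO
  have hsum := sum_finrank_le hp A hA hcomm (Y := ↥O) (fun T => wt T.1)
    (hwtinj.comp Subtype.val_injective)
  have hb' := orbit_bound_gl σ q hq hσq hb hm (O.image Subtype.val)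
    (by
      intro T hT
      obtain ⟨T', _, rfl⟩ := Finset.mem_image.mp hT
      exact mem_hermAdd.mp T'.2)
    (by
      intro T hT
      obtain ⟨T', hT', rfl⟩ := Finset.mem_image.mp hT
      intro h0
      exact (Finset.mem_filter.mp hT').2.1 (Subtype.ext h0))
    (by
      intro T hT B C hBC
      obtain ⟨T', hT', rfl⟩ := Finset.mem_image.mp hT
      obtain ⟨-, hT'0, hT'e⟩ := Finset.mem_filter.mp hT'
      have hCB : C * B = 1 := mul_eq_one_comm.mp hBC
      have hctCB : ct σ B * ct σ C = 1 := by rw [← ct_mul, hCB, ct_one]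
      have hctBC : ct σ C * ct σ B = 1 := by rw [← ct_mul, hBC, ct_one]
      -- the new weight
      have hmem : ct σ B * T'.1 * B ∈ hermAdd σ m := by
        show ct σ (ct σ B * T'.1 * B) = _
        rw [ct_mul, ct_mul, ct_ct σ hσ, mem_hermAdd.mp T'.2, Matrix.mul_assoc]
      rw [Finset.mem_image]
      refine ⟨⟨ct σ B * T'.1 * B, hmem⟩, ?_, rfl⟩
      rw [Finset.mem_filter]
      refine ⟨Finset.mem_univ _, ?_, ?_⟩
      · intro h0
        apply hT'0
        have h1 : ct σ B * T'.1 * B = 0 := congrArg Subtype.val h0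
        apply Subtype.ext
        show T'.1 = 0
        calc T'.1 = (ct σ C * ct σ B) * T'.1 * (B * C) := by
              rw [hctBC, hBC, Matrix.one_mul, Matrix.mul_one]
          _ = ct σ C * (ct σ B * T'.1 * B) * C := by simp only [Matrix.mul_assoc]
          _ = 0 := by rw [h1, Matrix.mul_zero, Matrix.zero_mul]
      · obtain ⟨x, hxmem, hxne⟩ := Submodule.exists_mem_ne_zero_of_ne_bot hT'e
        have hx : ∀ S, A S x = wt T' S • x := (mem_jointEigenspace A (wt T') x).mp hxmem
        intro hbot
        have hy : R (D.ls C B hCB) x ∈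
            jointEigenspace A (wt ⟨ct σ B * T'.1 * B, hmem⟩) := by
          rw [mem_jointEigenspace]
          intro S
          have hS'mem : B * S.1 * ct σ B ∈ hermAdd σ m := by
            show ct σ (B * S.1 * ct σ B) = _
            rw [ct_mul, ct_mul, ct_ct σ hσ, mem_hermAdd.mp S.2, Matrix.mul_assoc]
          set S' : hermAdd σ m := ⟨B * S.1 * ct σ B, hS'mem⟩ with hS'
          have e1 : D.xs S * D.ls C B hCB = D.ls C B hCB * D.xs S' := by
            refine (D.ls_mul_xs C B hCB S' S ?_).symm
            show S.1 = C * (B * S.1 * ct σ B) * ct σ C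
            calc S.1 = (C * B) * S.1 * (ct σ B * ct σ C) := by
                  rw [hCB, hctCB, Matrix.one_mul, Matrix.mul_one]
              _ = C * (B * S.1 * ct σ B) * ct σ C := by simp only [Matrix.mul_assoc]
          show R (D.xs S) (R (D.ls C B hCB) x) = _
          rw [← Module.End.mul_apply, ← map_mul, e1, map_mul, Module.End.mul_apply]
          have := hx S'
          show R (D.ls C B hCB) (A S' x) = _
          rw [this, map_smul]
          congr 1
          show χ₀ (trS S' T' S₁) = χ₀ (trS S ⟨ct σ B * T'.1 * B, hmem⟩ S₁)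
          congr 1
          apply Subtype.ext
          show Matrix.trace (B * S.1 * ct σ B * T'.1) • S₁.1 =
            Matrix.trace (S.1 * (ct σ B * T'.1 * B)) • S₁.1
          congr 1
          have e2 : B * S.1 * ct σ B * T'.1 = B * (S.1 * ct σ B * T'.1) := by
            simp only [Matrix.mul_assoc]
          rw [e2, Matrix.trace_mul_comm]
          congr 1
          simp only [Matrix.mul_assoc]
        rw [hbot] at hy
        exact hRne _ _ hxne ((Submodule.mem_bot K).mp hy))
    (by
      obtain ⟨T₀, hT₀⟩ := hex χ₀ hχ₀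
      refine ⟨T₀.1, Finset.mem_image.mpr ⟨T₀, ?_, rfl⟩⟩
      rw [Finset.mem_filter]
      refine ⟨Finset.mem_univ _, ?_, ?_⟩
      · rintro rfl
        apply hS₁
        rw [hT₀ S₁]
        exact hβ0' S₁
      · have : wt T₀ = χ₀ := funext fun S => (hT₀ S).symm
        rw [this]; exact hχ₀)
  rw [Finset.card_image_of_injective _ Subtype.val_injective] at hb'
  -- multiplicities
  have hmult : ∀ T ∈ O, q ≤ finrank K (jointEigenspace A (wt T)) := by
    intro T hT
    obtain ⟨-, hT0, hTe⟩ := Finset.mem_filter.mp hT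
    obtain ⟨v₁, hv₁⟩ := exists_hf_ne_zero σ hb T.1 (mem_hermAdd.mp T.2)
      (fun h0 => hT0 (Subtype.ext h0))
    set a := hf σ T.1 v₁ with ha
    set W₁ : Matrix (Fin m) (Fin 1) F := Matrix.replicateCol (Fin 1) v₁ with hW₁
    have hatr : Matrix.trace (W₁ * ct σ W₁ * T.1) = a := trace_rank_one W₁ v₁ hW₁ T.1
    have hafix : σ a = a := by
      have h1 := trace_fixed (⟨(1 : F) • (W₁ * ct σ W₁),
        rank_one_mem hσ 1 (map_one σ) W₁⟩ : hermAdd σ m) T
      simp only [one_smul] at h1
      rw [hatr] at h1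
      exact h1
    -- the centraliser of the centre of the radical
    set Cg : Subgroup G := Subgroup.centralizer (Set.range D.xs) with hCg
    have hus : ∀ W, D.us W ∈ Cg := fun W => by
      rw [hCg, Subgroup.mem_centralizer_iff]
      rintro _ ⟨H, rfl⟩
      exact (D.us_mul_xs W H).symm
    have hinv : ∀ g ∈ Cg, ∀ x ∈ jointEigenspace A (wt T), R g x ∈ jointEigenspace A (wt T) := by
      intro g hg x hx
      rw [mem_jointEigenspace] at hx ⊢
      intro S
      have h1 : D.xs S * g = g * D.xs S := by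
        rw [hCg, Subgroup.mem_centralizer_iff] at hg
        exact hg (D.xs S) ⟨S, rfl⟩
      show R (D.xs S) (R g x) = _
      rw [← Module.End.mul_apply, ← map_mul, h1, map_mul, Module.End.mul_apply]
      show R g (A S x) = _
      rw [hx S, map_smul]
    let Rres : ↥Cg →* Module.End K ↥(jointEigenspace A (wt T)) :=
      { toFun := fun g => (R g.1).restrict (hinv g.1 g.2)
        map_one' := by
          apply LinearMap.ext
          intro x
          apply Subtype.ext
          show R (1 : G) x.1 = x.1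
          rw [map_one]; rfl
        map_mul' := fun g h => by
          apply LinearMap.ext
          intro x
          apply Subtype.ext
          show R (g.1 * h.1) x.1 = R g.1 (R h.1 x.1)
          rw [map_mul]; rfl }
    have hRres : ∀ (g : ↥Cg) (x : ↥(jointEigenspace A (wt T))), (Rres g x).1 = R g.1 x.1 :=
      fun g x => rfl
    have : Nontrivial ↥(jointEigenspace A (wt T)) := Submodule.nontrivial_iff_ne_bot.mpr hTe
    set N := Nat.card G with hNdef
    have hN : (N : K) ≠ 0 := Nat.cast_ne_zero.mpr Nat.card_pos.ne'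
    set Y : fixAdd σ → Module.End K ↥(jointEigenspace A (wt T)) :=
      fun s => Rres ⟨D.us (s.1 • W₁), hus _⟩ with hY
    set X : fixAdd σ → Module.End K ↥(jointEigenspace A (wt T)) :=
      fun r => Rres ⟨D.us ((r.1 * (ε * θ)) • W₁), hus _⟩ with hX
    let κ : fixAdd σ → fixAdd σ → hermAdd σ m := fun s r =>
      ⟨(s.1 * r.1) • (W₁ * ct σ W₁), rank_one_mem hσ _ (by
        rw [map_mul, mem_fixAdd.mp s.2, mem_fixAdd.mp r.2]) W₁⟩
    set lam : fixAdd σ → fixAdd σ → K := fun r s => wt T (κ s r) with hlam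
    have hYN : ∀ s, Y s ^ N = 1 := fun s => by
      show Rres _ ^ N = 1
      rw [← map_pow]
      have : (⟨D.us (s.1 • W₁), hus _⟩ : ↥Cg) ^ N = 1 := by
        apply Subtype.ext
        rw [Subgroup.coe_pow]
        exact pow_card_eq_one'
      rw [this, map_one]
    have hYcomm : ∀ s s', Commute (Y s) (Y s') := fun s s' => by
      show Rres _ * Rres _ = Rres _ * Rres _
      rw [← map_mul, ← map_mul]
      congr 1
      apply Subtype.ext
      show D.us (s.1 • W₁) * D.us (s'.1 • W₁) = D.us (s'.1 • W₁) * D.us (s.1 • W₁)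
      have := D.us_mul_us (s.1 • W₁) (s'.1 • W₁) 0 (by
        show ε • (0 : Matrix (Fin m) (Fin m) F) = _
        rw [ct_smul, ct_smul, mem_fixAdd.mp s.2, mem_fixAdd.mp s'.2, Matrix.smul_mul,
          Matrix.mul_smul, Matrix.smul_mul, Matrix.mul_smul, smul_smul, smul_smul, mul_comm,
          sub_self, smul_zero])
      rw [this, D.xs_zero, one_mul]
    have hXinj : ∀ r, Function.Injective (X r) := by
      intro r
      apply Function.LeftInverse.injective
        (g := Rres (⟨D.us ((r.1 * (ε * θ)) • W₁), hus _⟩ : ↥Cg)⁻¹)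
      intro x
      show Rres _ (Rres _ x) = x
      rw [← Module.End.mul_apply, ← map_mul, inv_mul_cancel, map_one]
      rfl
    have hrel : ∀ r s, Y s * X r = lam r s • (X r * Y s) := by
      intro r s
      have hκ : D.us (s.1 • W₁) * D.us ((r.1 * (ε * θ)) • W₁) =
          D.xs (κ s r) * (D.us ((r.1 * (ε * θ)) • W₁) * D.us (s.1 • W₁)) := by
        apply D.us_mul_us
        show ε • ((s.1 * r.1) • (W₁ * ct σ W₁)) = _
        rw [ct_smul, ct_smul, map_mul, map_mul, mem_fixAdd.mp s.2, mem_fixAdd.mp r.2, hε,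
          Matrix.smul_mul, Matrix.mul_smul, Matrix.smul_mul, Matrix.mul_smul, smul_smul, smul_smul,
          smul_smul, ← sub_smul]
        congr 1
        linear_combination (-(ε * s.1 * r.1)) * hθ
      apply LinearMap.ext
      intro x
      apply Subtype.ext
      rw [Module.End.mul_apply, LinearMap.smul_apply, Module.End.mul_apply, Submodule.coe_smul,
        hRres, hRres, hRres, hRres]
      show R (D.us (s.1 • W₁)) (R (D.us ((r.1 * (ε * θ)) • W₁)) x.1) =
        lam r s • R (D.us ((r.1 * (ε * θ)) • W₁)) (R (D.us (s.1 • W₁)) x.1)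
      rw [← Module.End.mul_apply, ← map_mul, hκ, map_mul, Module.End.mul_apply, map_mul,
        Module.End.mul_apply]
      have hy : R (D.us ((r.1 * (ε * θ)) • W₁)) (R (D.us (s.1 • W₁)) x.1) ∈
          jointEigenspace A (wt T) :=
        hinv _ (hus _) _ (hinv _ (hus _) _ x.2)
      exact (mem_jointEigenspace A (wt T) _).mp hy (κ s r)
    have hlaminj : Function.Injective lam := by
      intro r r' hrr
      by_contra hne
      have hd : r.1 - r'.1 ≠ 0 := sub_ne_zero.mpr (fun h => hne (Subtype.ext h))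
      have hda : (r.1 - r'.1) * a ≠ 0 := mul_ne_zero hd hv₁
      set d : fixAdd σ := r - r' with hddef
      have hd1 : d.1 = r.1 - r'.1 := rfl
      set s₀ : fixAdd σ := ⟨((r.1 - r'.1) * a)⁻¹, by
        show σ (((r.1 - r'.1) * a)⁻¹) = _
        rw [map_inv₀, map_mul, map_sub, mem_fixAdd.mp r.2, mem_fixAdd.mp r'.2, hafix]⟩ with hs₀
      have h1 := congrFun hrr s₀
      have h2 : κ s₀ r = κ s₀ r' + κ s₀ d := by
        apply Subtype.ext
        show (s₀.1 * r.1) • (W₁ * ct σ W₁) =
          (s₀.1 * r'.1) • (W₁ * ct σ W₁) + (s₀.1 * d.1) • (W₁ * ct σ W₁)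
        rw [← add_smul, hd1]
        congr 1
        ring
      have h3 : wt T (κ s₀ d) = χ₀ S₁ := by
        apply hβone
        show Matrix.trace ((s₀.1 * d.1) • (W₁ * ct σ W₁) * T.1) = 1
        rw [Matrix.smul_mul, Matrix.trace_smul, hatr, hd1, smul_eq_mul]
        show ((r.1 - r'.1) * a)⁻¹ * (r.1 - r'.1) * a = 1
        rw [mul_assoc, inv_mul_cancel₀ hda]
      have h4 : wt T (κ s₀ r) = wt T (κ s₀ r') * wt T (κ s₀ d) := by
        rw [h2]
        exact hβadd _ _ _
      have h5 : wt T (κ s₀ r) = wt T (κ s₀ r') := h1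
      rw [h5, h3] at h4
      have h6 : wt T (κ s₀ r') * 1 = wt T (κ s₀ r') * χ₀ S₁ := by rw [mul_one]; exact h4
      exact hS₁ (mul_left_cancel₀ (hβne _ _) h6).symm
    have h1 := card_le_finrank_of_shift hN Y hYN hYcomm lam hlaminj X hXinj hrel
    exact le_trans (card_fixAdd_ge σ q hq hσq hσ hF) h1
  -- the count
  have h1 : q * O.card ≤ finrank K M := by
    refine le_trans ?_ hsum
    calc q * O.card = ∑ _T : ↥O, q := by
          rw [Finset.sum_const, Finset.card_univ, Fintype.card_coe, smul_eq_mul, mul_comm]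
      _ ≤ ∑ T : ↥O, finrank K (jointEigenspace A (wt T.1)) :=
          Finset.sum_le_sum fun T _ => hmult T.1 T.2
  calc q * Fintype.card F ^ m ≤ q * ((q + 1) * O.card + 1) := Nat.mul_le_mul_left q hb'
    _ = (q + 1) * (q * O.card) + q := by ring
    _ ≤ (q + 1) * finrank K M + q := by
      have := Nat.mul_le_mul_left (q + 1) h1
      omega

end Main

end Cfsg.Agent.Lib.Helper81_HermWeightsOdd
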