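import Mathlib
import Cfsg.Agent.Lib.Helper75_Induced

set_option autoImplicit false

/-!
# Induced matrix representations (helper81)

For a subgroup `H` of a finite group `G` and a matrix representation `Y : H →* Matrix κ κ R`,
the induced matrix representation `indMat Y : G → Matrix ((G ⧸ H) × κ) ((G ⧸ H) × κ) R`
(block monomial matrices with respect to the transversal `Quotient.out`), its multiplicativity,
and the trace formula `trace (indMat Y g) = indFun H (trace ∘ Y) g`.
-/

namespace Cfsg.Agent.Lib.Helper81_IndMat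

open Cfsg.Agent.Lib.Helper75_Induced

variable {G : Type*} [Group G] (H : Subgroup G)

/-- the chosen transversal -/
noncomputable def tr (q : G ⧸ H) : G := Quotient.out q

theorem mk_tr (q : G ⧸ H) : (QuotientGroup.mk (tr H q) : G ⧸ H) = q :=
  QuotientGroup.out_eq' q

theorem coc_mem (g : G) (q : G ⧸ H) : (tr H (g • q))⁻¹ * g * tr H q ∈ H := by
  rw [mul_assoc, ← QuotientGroup.eq, mk_tr]
  conv_lhs => rw [← mk_tr H q]
  rfl

/-- the cocycle `c(g,q) = t(gq)⁻¹ g t(q) ∈ H` -/
noncomputable def coc (g : G) (q : G ⧸ H) : H := ⟨(tr H (g • q))⁻¹ * g * tr H q, coc_mem H g q⟩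

theorem coc_mul (g g' : G) (q : G ⧸ H) : coc H (g * g') q = coc H g (g' • q) * coc H g' q := by
  apply Subtype.ext
  simp only [coc, Subgroup.coe_mul, mul_smul]
  group

theorem coc_one (q : G ⧸ H) : coc H 1 q = 1 := by
  apply Subtype.ext
  simp [coc]

theorem smul_eq_iff (g : G) (q : G ⧸ H) : g • q = q ↔ (tr H q)⁻¹ * g * tr H q ∈ H := by
  rw [mul_assoc, ← QuotientGroup.eq, mk_tr]
  constructor
  · intro h
    conv_lhs => rw [← h, ← mk_tr H q]
    rfl
  · intro h
    conv_rhs => rw [h]
    conv_lhs => rw [← mk_tr H q]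
    rfl

theorem coc_of_fixed (g : G) (q : G ⧸ H) (h : g • q = q) :
    (coc H g q : G) = (tr H q)⁻¹ * g * tr H q := by
  simp only [coc, h]

/-- explicit bijection `G ≃ (G ⧸ H) × H` along the transversal -/
noncomputable def splitEquiv : G ≃ (G ⧸ H) × H where
  toFun x := (QuotientGroup.mk x, ⟨(tr H (QuotientGroup.mk x))⁻¹ * x, by
    rw [← QuotientGroup.eq, mk_tr]⟩)
  invFun p := tr H p.1 * p.2
  left_inv x := by simp
  right_inv p := by
    have h1 : (QuotientGroup.mk (tr H p.1 * (p.2 : G)) : G ⧸ H) = p.1 := by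
      rw [QuotientGroup.mk_mul_of_mem _ p.2.2, mk_tr]
    apply Prod.ext
    · exact h1
    · apply Subtype.ext
      simp only [h1]
      group

theorem splitEquiv_symm_apply (p : (G ⧸ H) × H) :
    (splitEquiv H).symm p = tr H p.1 * (p.2 : G) := rfl

variable {R : Type*} [CommRing R] {κ : Type*} [Fintype κ] [DecidableEq κ]

/-- the induced matrix representation -/
noncomputable def indMat [DecidableEq (G ⧸ H)] (Y : H →* Matrix κ κ R) (g : G) :
    Matrix ((G ⧸ H) × κ) ((G ⧸ H) × κ) R :=
  fun a b => if a.1 = g • b.1 then Y (coc H g b.1) a.2 b.2 else 0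

theorem indMat_mul [Fintype (G ⧸ H)] [DecidableEq (G ⧸ H)] (Y : H →* Matrix κ κ R) (g g' : G) :
    indMat H Y (g * g') = indMat H Y g * indMat H Y g' := by
  ext ⟨a, i⟩ ⟨b, j⟩
  rw [Matrix.mul_apply, Fintype.sum_prod_type]
  simp only [indMat]
  rw [Finset.sum_eq_single (g' • b)]
  · simp only [if_true]
    by_cases h : a = (g * g') • b
    · rw [if_pos h, coc_mul, map_mul, Matrix.mul_apply]
      apply Finset.sum_congr rfl
      intro k _
      rw [if_pos (by rw [h, mul_smul])]
    · rw [if_neg h]
      symm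
      apply Finset.sum_eq_zero
      intro k _
      rw [if_neg (by rw [← mul_smul]; exact h), zero_mul]
  · intro c _ hc
    apply Finset.sum_eq_zero
    intro k _
    rw [if_neg hc, mul_zero]
  · intro h
    exact absurd (Finset.mem_univ _) h

theorem indMat_one [DecidableEq (G ⧸ H)] (Y : H →* Matrix κ κ R) :
    indMat H Y 1 = 1 := by
  ext ⟨a, i⟩ ⟨b, j⟩
  simp only [indMat, one_smul, coc_one, map_one, Matrix.one_apply, Prod.mk.injEq]
  by_cases h : a = b
  · simp [h]
  · simp [h]

theorem trace_indMat [Fintype (G ⧸ H)] [DecidableEq (G ⧸ H)] (Y : H →* Matrix κ κ R) (g : G) :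
    (indMat H Y g).trace = ∑ q : G ⧸ H, if g • q = q then (Y (coc H g q)).trace else 0 := by
  rw [Matrix.trace, Fintype.sum_prod_type]
  apply Finset.sum_congr rfl
  intro q _
  simp only [Matrix.diag_apply, indMat]
  by_cases h : g • q = q
  · rw [if_pos h]
    simp only [if_pos h.symm]
    rfl
  · rw [if_neg h]
    apply Finset.sum_eq_zero
    intro k _
    rw [if_neg (fun h' => h h'.symm)]

/-- The trace formula: the character of the induced matrix representation is the induced
class function. -/
theorem trace_indMat_eq_indFun [Fintype G] [Fintype (G ⧸ H)] [DecidableEq (G ⧸ H)]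
    (Y : H →* Matrix κ κ R) (ι : R →+* ℂ) (g : G) :
    ι (indMat H Y g).trace = Cfsg.indFun H (fun h => ι (Y h).trace) g := by
  classical
  haveI : Fintype H := Fintype.ofFinite H
  set θ : H → ℂ := fun h => ι (Y h).trace with hθ
  have hθc : ∀ h k : H, θ (k⁻¹ * h * k) = θ h := by
    intro h k
    simp only [hθ, map_mul, map_inv]
    rw [Matrix.trace_mul_comm, ← mul_assoc, ← map_mul, mul_inv_cancel, map_one, one_mul]
  rw [indFun_apply, trace_indMat, map_sum]
  rw [← (splitEquiv H).symm.sum_comp, Fintype.sum_prod_type, Finset.mul_sum]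
  apply Finset.sum_congr rfl
  intro q _
  by_cases hq : g • q = q
  · rw [if_pos hq]
    have hmem := (smul_eq_iff H g q).mp hq
    have : ∀ h : H, Cfsg.extendByZero H θ (((splitEquiv H).symm (q, h))⁻¹ * g *
        (splitEquiv H).symm (q, h)) = θ (coc H g q) := by
      intro h
      rw [splitEquiv_symm_apply]
      have e : (tr H q * (h : G))⁻¹ * g * (tr H q * (h : G)) =
          ((h⁻¹ * coc H g q * h : H) : G) := by
        simp only [Subgroup.coe_mul, Subgroup.coe_inv, coc_of_fixed H g q hq]
        group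
      rw [e, extendByZero_coe, hθc]
    rw [Finset.sum_congr rfl (fun h _ => this h), Finset.sum_const, Finset.card_univ,
      nsmul_eq_mul, Nat.card_eq_fintype_card, ← mul_assoc, inv_mul_cancel₀, one_mul]
    exact_mod_cast Fintype.card_ne_zero
  · rw [if_neg hq, map_zero]
    have hmem : (tr H q)⁻¹ * g * tr H q ∉ H := fun h => hq ((smul_eq_iff H g q).mpr h)
    rw [Finset.sum_eq_zero, mul_zero]
    intro h _
    rw [splitEquiv_symm_apply]
    apply extendByZero_of_not_mem
    intro hm
    apply hmem
    have e : (tr H q)⁻¹ * g * tr H q =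
        (h : G) * ((tr H q * (h : G))⁻¹ * g * (tr H q * (h : G))) * (h : G)⁻¹ := by group
    rw [e]
    exact H.mul_mem (H.mul_mem h.2 hm) (H.inv_mem h.2)

end Cfsg.Agent.Lib.Helper81_IndMat
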