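import Mathlib
import Cfsg.Agent.Lib.Helper81_IndMat
import Cfsg.Agent.Lib.Helper74_FS4

set_option autoImplicit false

/-!
# Frobenius–Schur indicator of an irreducible induced character (helper81)

If `ψ` is an irreducible character of `H ≤ G` with Frobenius–Schur indicator `1` and `Ind ψ` is
irreducible, then `Ind ψ` has Frobenius–Schur indicator `1` (the induced representation of a real
representation is real).
-/

namespace Cfsg.Agent.Lib.Helper81_IndFS

open Cfsg.Agent.Lib.Helper81_IndMat Cfsg.Agent.Lib.Helper74_FS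

variable {G : Type*} [Group G] [Fintype G]

/-- An irreducible character that is the trace of real matrices forming a homomorphism has
indicator one (matrix version of `fsInd_eq_one_of_real_rep`, arbitrary index type). -/
theorem fsInd_eq_one_of_real_matrices {χ : G → ℂ} (hχ : Cfsg.IsIrrCharacter G χ)
    {ι : Type*} [Fintype ι] [DecidableEq ι] (Y : G → Matrix ι ι ℝ)
    (hmul : ∀ g h, Y (g * h) = Y g * Y h) (hone : Y 1 = 1)
    (htr : ∀ g : G, (((Y g).trace : ℝ) : ℂ) = χ g) : fsInd χ = 1 := by
  classical
  let e : ι ≃ Fin (Fintype.card ι) := Fintype.equivFin ι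
  let σ : Representation ℝ G (Fin (Fintype.card ι) → ℝ) :=
    { toFun := fun g => Matrix.toLin' (Matrix.reindex e e (Y g))
      map_one' := by
        rw [hone]
        simp
        rfl
      map_mul' := fun g h => by
        rw [hmul]
        simp only [Matrix.reindex_apply]
        rw [Module.End.mul_eq_comp, ← Matrix.toLin'_mul, Matrix.submatrix_mul_equiv] }
  apply fsInd_eq_one_of_real_rep hχ σ
  intro g
  rw [← htr g]
  congr 1
  show LinearMap.trace ℝ _ (Matrix.toLin' (Matrix.reindex e e (Y g))) = _
  rw [Matrix.trace_toLin'_eq]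
  simp only [Matrix.reindex_apply, Matrix.trace, Matrix.diag_apply, Matrix.submatrix_apply]
  exact e.symm.sum_comp (fun i => Y g i i)

/-- **Indicator of an irreducible induced character.** -/
theorem fsInd_indFun_eq_one (H : Subgroup G) [Fintype H] {ψ : H → ℂ}
    (hψ : Cfsg.IsIrrCharacter H ψ) (hν : fsInd ψ = 1)
    (hirr : Cfsg.IsIrrCharacter G (Cfsg.indFun H ψ)) : fsInd (Cfsg.indFun H ψ) = 1 := by
  classical
  obtain ⟨n, σ, hσ⟩ := exists_real_rep_of_fsInd_eq_one hψ hν
  let Y : H →* Matrix (Fin n) (Fin n) ℝ :=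
    { toFun := fun h => LinearMap.toMatrix' (σ h)
      map_one' := by simp
      map_mul' := fun g h => by simp [LinearMap.toMatrix'_mul] }
  have hYtr : ∀ h : H, (((Y h).trace : ℝ) : ℂ) = ψ h := by
    intro h
    rw [← hσ h]
    congr 1
    show (LinearMap.toMatrix' (σ h)).trace = _
    rw [LinearMap.trace_eq_matrix_trace ℝ (Pi.basisFun ℝ (Fin n)), LinearMap.toMatrix_eq_toMatrix']
  haveI : Fintype (G ⧸ H) := Fintype.ofFinite _
  apply fsInd_eq_one_of_real_matrices hirr (indMat H Y) (indMat_mul H Y) (indMat_one H Y)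
  intro g
  have := trace_indMat_eq_indFun H Y Complex.ofRealHom g
  simp only [Complex.ofRealHom_eq_coe] at this
  rw [this]
  congr 1
  funext h
  exact hYtr h

end Cfsg.Agent.Lib.Helper81_IndFS
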