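import Mathlib
import Cfsg.Agent.Lib.Helper74_FS4
import Cfsg.Agent.Lib.Helper75_Induced
import Cfsg.Agent.Lib.Helper75_CharArith

set_option autoImplicit false

/-!
# A multiplicity-freeness criterion via Frobenius–Schur indicators (helper81)

* `fsInd_indFun`: `ν(Ind_H^G θ) = |H|⁻¹ ∑_g θ°(g²)`.
* `multFree_of_fsInd_eq_norm`: if a character `Θ` satisfies `ν(Θ) = [Θ, Θ]` then every irreducible
  constituent of `Θ` has multiplicity one and Frobenius–Schur indicator `+1`.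
-/

namespace Cfsg.Agent.Lib.Helper81_MultFree

open scoped ComplexConjugate
open Cfsg.Agent.Lib.Helper74_FS Cfsg.Agent.Lib.Helper75_Induced Cfsg.Agent.Lib.Helper75_CharArith
  Cfsg.Agent.Lib.Helper3_CharOrtho Cfsg.Agent.Lib.Helper3_CharComplete
  Cfsg.Agent.Lib.Helper3_CharBridge

variable {G : Type*} [Group G] [Fintype G]

theorem fsInd_indFun (H : Subgroup G) (θ : H → ℂ) :
    fsInd (Cfsg.indFun H θ) =
      (Nat.card H : ℂ)⁻¹ * ∑ g : G, Cfsg.extendByZero H θ (g * g) := by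
  have hG : (Nat.card G : ℂ) ≠ 0 := by
    rw [Nat.cast_ne_zero]; exact Nat.card_pos.ne'
  unfold fsInd
  simp only [indFun_apply]
  rw [← Finset.mul_sum, Finset.sum_comm]
  have key : ∀ x : G, ∑ s : G, Cfsg.extendByZero H θ (x⁻¹ * (s * s) * x) =
      ∑ s : G, Cfsg.extendByZero H θ (s * s) := by
    intro x
    refine Fintype.sum_bijective (fun s => x⁻¹ * s * x) ?_ _ _ ?_
    · exact ⟨fun a b hab => by simpa using hab, fun b => ⟨x * b * x⁻¹, by group⟩⟩
    · intro s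
      congr 1
      group
  rw [Finset.sum_congr rfl (fun x _ => key x), Finset.sum_const, Finset.card_univ, nsmul_eq_mul,
    Nat.card_eq_fintype_card (α := G)]
  have hG' : (Fintype.card G : ℂ) ≠ 0 := by
    rw [← Nat.card_eq_fintype_card]; exact hG
  field_simp

theorem fsInd_sum_smul {ι : Type*} (s : Finset ι) (c : ι → ℂ) (f : ι → G → ℂ) :
    fsInd (∑ i ∈ s, c i • f i) = ∑ i ∈ s, c i * fsInd (f i) := by
  unfold fsInd
  simp only [Finset.sum_apply, Pi.smul_apply, smul_eq_mul]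
  rw [Finset.sum_comm, Finset.mul_sum]
  apply Finset.sum_congr rfl
  intro i _
  rw [← Finset.mul_sum]
  ring

/-- **Multiplicity-freeness criterion.** -/
theorem multFree_of_fsInd_eq_norm {Θ : G → ℂ} (hΘ : Cfsg.IsCharacter G Θ)
    (h : fsInd Θ = Cfsg.classInner Θ Θ) (χ : Cfsg.IrrCharacter G)
    (hχ : Cfsg.classInner Θ (χ : G → ℂ) ≠ 0) :
    Cfsg.classInner Θ (χ : G → ℂ) = 1 ∧ fsInd (χ : G → ℂ) = 1 := by
  classical
  obtain ⟨m, hm, hsum⟩ := exists_multiplicities hΘ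
  have hcf : Cfsg.IsClassFunction G Θ := isClassFunction_of_isCharacter hΘ
  -- real indicators
  have hr : ∀ ψ : Cfsg.IrrCharacter G, ∃ r : ℝ, fsInd (ψ : G → ℂ) = (r : ℂ) ∧ r ≤ 1 := by
    intro ψ
    rcases fsInd_irr ψ.2 with h0 | ⟨-, h1 | h1⟩
    · exact ⟨0, by simpa using h0, by norm_num⟩
    · exact ⟨1, by simpa using h1, le_refl _⟩
    · exact ⟨-1, by simpa using h1, by norm_num⟩
  choose r hr1 hr2 using hr
  have e1 : fsInd Θ = ((∑ ψ : Cfsg.IrrCharacter G, (m ψ : ℝ) * r ψ : ℝ) : ℂ) := by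
    conv_lhs => rw [hsum]
    rw [fsInd_sum_smul, Complex.ofReal_sum]
    apply Finset.sum_congr rfl
    intro ψ _
    rw [hr1 ψ]
    push_cast
    rfl
  have e2 : Cfsg.classInner Θ Θ =
      ((∑ ψ : Cfsg.IrrCharacter G, (m ψ : ℝ) * (m ψ : ℝ) : ℝ) : ℂ) := by
    rw [classInner_self_eq_sum hcf, Complex.ofReal_sum]
    apply Finset.sum_congr rfl
    intro ψ _
    rw [hm ψ]
    simp
  rw [e1, e2] at h
  have h' := Complex.ofReal_injective h
  have hnn : ∀ ψ : Cfsg.IrrCharacter G, 0 ≤ (m ψ : ℝ) * ((m ψ : ℝ) - r ψ) := by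
    intro ψ
    rcases Nat.eq_zero_or_pos (m ψ) with h0 | hpos
    · rw [h0]; simp
    · have : (1 : ℝ) ≤ (m ψ : ℝ) := by exact_mod_cast hpos
      apply mul_nonneg (by positivity)
      linarith [hr2 ψ]
  have hzero : ∑ ψ : Cfsg.IrrCharacter G, (m ψ : ℝ) * ((m ψ : ℝ) - r ψ) = 0 := by
    simp only [mul_sub, Finset.sum_sub_distrib]
    linarith
  have hχ0 := (Finset.sum_eq_zero_iff_of_nonneg (fun ψ _ => hnn ψ)).mp hzero χ (Finset.mem_univ _)
  have hmχ : m χ ≠ 0 := by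
    intro h0
    apply hχ
    rw [hm χ, h0]
    simp
  have hmpos : (1 : ℝ) ≤ (m χ : ℝ) := by exact_mod_cast Nat.pos_of_ne_zero hmχ
  have hne : (m χ : ℝ) ≠ 0 := by positivity
  have heq : (m χ : ℝ) = r χ := by
    rcases mul_eq_zero.mp hχ0 with h0 | h0
    · exact absurd h0 hne
    · linarith
  have hr1' : r χ = 1 := by linarith [hr2 χ]
  have hm1 : m χ = 1 := by
    have : (m χ : ℝ) = 1 := by rw [heq, hr1']
    exact_mod_cast this
  refine ⟨by rw [hm χ, hm1]; simp, by rw [hr1 χ, hr1']; simp⟩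

end Cfsg.Agent.Lib.Helper81_MultFree
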