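import Mathlib
import Cfsg.Agent.Lib.Helper95_OPDefs
import Cfsg.Agent.Lib.Helper95_OPBasic
import Cfsg.Agent.Lib.Helper48_OODefs
import Cfsg.Agent.Lib.Helper87_OO2Defs
import Cfsg.Agent.Lib.Helper42_OO2_FRAME
import Cfsg.Agent.Lib.Helper42_OO2_EXT4

/-!
# S2344 package OO2-TORG (helper81, for cutter helper87 / assembler helper48)

Torus relations for three mutually orthogonal hyperbolic pairs `(a,a')`, `(b,b')`, `(c,c')`.
-/

set_option autoImplicit false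
set_option linter.unusedSimpArgs false
set_option linter.unusedVariables false

namespace Cfsg.Agent.Lib.Helper81_OO2_TORG

open Module Cfsg.Agent.Lib.Helper94_OrthSmall Cfsg.Agent.Lib.Helper44_QuadClass
  Cfsg.Agent.Lib.Helper14_OmegaSimple Cfsg.Agent.Lib.Helper38_MIODefs
  Cfsg.Agent.Lib.Helper95_OPDefs Cfsg.Agent.Lib.Helper95_OPBasic Cfsg.Agent.Lib.Helper48_OODefs
  Cfsg.Agent.Lib.Helper87_OO2Defs Cfsg.Agent.Lib.Helper42_OO2_FRAME Cfsg.Agent.Lib.Helper42_OO2_EXT4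

variable {F V : Type*} [Field F] [AddCommGroup V] [Module F V] {Q : QuadraticForm F V}

theorem h13_eq {a a' b b' c c' : V} (hab : HQuad Q a a' b b') (hac : HQuad Q a a' c c')
    (hbc : HQuad Q b b' c c') (t : F) (ht : t ≠ 0) :
    hh Q a a' c c' t = hh Q a a' b b' t * hh Q b b' c c' t := by
  have p_a_b : QuadraticMap.polar (⇑Q) a b = 0 := hab.ab
  have p_a_bp : QuadraticMap.polar (⇑Q) a b' = 0 := hab.ab'
  have p_a_c : QuadraticMap.polar (⇑Q) a c = 0 := hac.ab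
  have p_a_cp : QuadraticMap.polar (⇑Q) a c' = 0 := hac.ab'
  have p_ap_b : QuadraticMap.polar (⇑Q) a' b = 0 := hab.a'b
  have p_ap_bp : QuadraticMap.polar (⇑Q) a' b' = 0 := hab.a'b'
  have p_ap_c : QuadraticMap.polar (⇑Q) a' c = 0 := hac.a'b
  have p_ap_cp : QuadraticMap.polar (⇑Q) a' c' = 0 := hac.a'b'
  have p_b_a : QuadraticMap.polar (⇑Q) b a = 0 := by rw [QuadraticMap.polar_comm]; exact hab.ab
  have p_b_ap : QuadraticMap.polar (⇑Q) b a' = 0 := by rw [QuadraticMap.polar_comm]; exact hab.a'b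
  have p_b_c : QuadraticMap.polar (⇑Q) b c = 0 := hbc.ab
  have p_b_cp : QuadraticMap.polar (⇑Q) b c' = 0 := hbc.ab'
  have p_bp_a : QuadraticMap.polar (⇑Q) b' a = 0 := by rw [QuadraticMap.polar_comm]; exact hab.ab'
  have p_bp_ap : QuadraticMap.polar (⇑Q) b' a' = 0 := by rw [QuadraticMap.polar_comm]; exact hab.a'b'
  have p_bp_c : QuadraticMap.polar (⇑Q) b' c = 0 := hbc.a'b
  have p_bp_cp : QuadraticMap.polar (⇑Q) b' c' = 0 := hbc.a'b'
  have p_c_a : QuadraticMap.polar (⇑Q) c a = 0 := by rw [QuadraticMap.polar_comm]; exact hac.ab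
  have p_c_ap : QuadraticMap.polar (⇑Q) c a' = 0 := by rw [QuadraticMap.polar_comm]; exact hac.a'b
  have p_c_b : QuadraticMap.polar (⇑Q) c b = 0 := by rw [QuadraticMap.polar_comm]; exact hbc.ab
  have p_c_bp : QuadraticMap.polar (⇑Q) c b' = 0 := by rw [QuadraticMap.polar_comm]; exact hbc.a'b
  have p_cp_a : QuadraticMap.polar (⇑Q) c' a = 0 := by rw [QuadraticMap.polar_comm]; exact hac.ab'
  have p_cp_ap : QuadraticMap.polar (⇑Q) c' a' = 0 := by rw [QuadraticMap.polar_comm]; exact hac.a'b'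
  have p_cp_b : QuadraticMap.polar (⇑Q) c' b = 0 := by rw [QuadraticMap.polar_comm]; exact hbc.ab'
  have p_cp_bp : QuadraticMap.polar (⇑Q) c' b' = 0 := by rw [QuadraticMap.polar_comm]; exact hbc.a'b'
  have hhac_a : hh Q a a' c c' t a = t • a := hh_a hac t ht
  have hhac_c : hh Q a a' c c' t c = t⁻¹ • c := hh_b hac t ht
  have hhac_ap : hh Q a a' c c' t a' = t⁻¹ • a' := hh_a' hac t ht
  have hhac_cp : hh Q a a' c c' t c' = t • c' := hh_b' hac t ht
  have hhac_b : hh Q a a' c c' t b = b := hh_perp hac t b p_b_a p_b_ap p_b_c p_b_cp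
  have hhac_bp : hh Q a a' c c' t b' = b' := hh_perp hac t b' p_bp_a p_bp_ap p_bp_c p_bp_cp
  have hhab_a : hh Q a a' b b' t a = t • a := hh_a hab t ht
  have hhab_b : hh Q a a' b b' t b = t⁻¹ • b := hh_b hab t ht
  have hhab_ap : hh Q a a' b b' t a' = t⁻¹ • a' := hh_a' hab t ht
  have hhab_bp : hh Q a a' b b' t b' = t • b' := hh_b' hab t ht
  have hhab_c : hh Q a a' b b' t c = c := hh_perp hab t c p_c_a p_c_ap p_c_b p_c_bp
  have hhab_cp : hh Q a a' b b' t c' = c' := hh_perp hab t c' p_cp_a p_cp_ap p_cp_b p_cp_bp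
  have hhbc_b : hh Q b b' c c' t b = t • b := hh_a hbc t ht
  have hhbc_c : hh Q b b' c c' t c = t⁻¹ • c := hh_b hbc t ht
  have hhbc_bp : hh Q b b' c c' t b' = t⁻¹ • b' := hh_a' hbc t ht
  have hhbc_cp : hh Q b b' c c' t c' = t • c' := hh_b' hbc t ht
  have hhbc_a : hh Q b b' c c' t a = a := hh_perp hbc t a p_a_b p_a_bp p_a_c p_a_cp
  have hhbc_ap : hh Q b b' c c' t a' = a' := hh_perp hbc t a' p_ap_b p_ap_bp p_ap_c p_ap_cp
  apply ext6 hab hac hbc
  · simp only [LinearEquiv.mul_apply, hhac_a, hhac_c, hhac_ap, hhac_cp, hhac_b, hhac_bp, hhab_a, hhab_b, hhab_ap, hhab_bp, hhab_c, hhab_cp, hhbc_b, hhbc_c, hhbc_bp, hhbc_cp, hhbc_a, hhbc_ap, map_smul, map_neg, map_sub, map_add, inv_one, one_smul]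
    try (match_scalars <;> field_simp)
  · simp only [LinearEquiv.mul_apply, hhac_a, hhac_c, hhac_ap, hhac_cp, hhac_b, hhac_bp, hhab_a, hhab_b, hhab_ap, hhab_bp, hhab_c, hhab_cp, hhbc_b, hhbc_c, hhbc_bp, hhbc_cp, hhbc_a, hhbc_ap, map_smul, map_neg, map_sub, map_add, inv_one, one_smul]
    try (match_scalars <;> field_simp)
  · simp only [LinearEquiv.mul_apply, hhac_a, hhac_c, hhac_ap, hhac_cp, hhac_b, hhac_bp, hhab_a, hhab_b, hhab_ap, hhab_bp, hhab_c, hhab_cp, hhbc_b, hhbc_c, hhbc_bp, hhbc_cp, hhbc_a, hhbc_ap, map_smul, map_neg, map_sub, map_add, inv_one, one_smul]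
    try (match_scalars <;> field_simp)
  · simp only [LinearEquiv.mul_apply, hhac_a, hhac_c, hhac_ap, hhac_cp, hhac_b, hhac_bp, hhab_a, hhab_b, hhab_ap, hhab_bp, hhab_c, hhab_cp, hhbc_b, hhbc_c, hhbc_bp, hhbc_cp, hhbc_a, hhbc_ap, map_smul, map_neg, map_sub, map_add, inv_one, one_smul]
    try (match_scalars <;> field_simp)
  · simp only [LinearEquiv.mul_apply, hhac_a, hhac_c, hhac_ap, hhac_cp, hhac_b, hhac_bp, hhab_a, hhab_b, hhab_ap, hhab_bp, hhab_c, hhab_cp, hhbc_b, hhbc_c, hhbc_bp, hhbc_cp, hhbc_a, hhbc_ap, map_smul, map_neg, map_sub, map_add, inv_one, one_smul]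
    try (match_scalars <;> field_simp)
  · simp only [LinearEquiv.mul_apply, hhac_a, hhac_c, hhac_ap, hhac_cp, hhac_b, hhac_bp, hhab_a, hhab_b, hhab_ap, hhab_bp, hhab_c, hhab_cp, hhbc_b, hhbc_c, hhbc_bp, hhbc_cp, hhbc_a, hhbc_ap, map_smul, map_neg, map_sub, map_add, inv_one, one_smul]
    try (match_scalars <;> field_simp)
  · intro w hwa hwap hwb hwbp hwc hwcp
    have hhac_w : hh Q a a' c c' t w = w := hh_perp hac t w hwa hwap hwc hwcp
    have hhab_w : hh Q a a' b b' t w = w := hh_perp hab t w hwa hwap hwb hwbp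
    have hhbc_w : hh Q b b' c c' t w = w := hh_perp hbc t w hwb hwbp hwc hwcp
    simp only [LinearEquiv.mul_apply, hhac_w, hhab_w, hhbc_w]

theorem h12_h23_comm {a a' b b' c c' : V} (hab : HQuad Q a a' b b') (hac : HQuad Q a a' c c')
    (hbc : HQuad Q b b' c c') (s t : F) (hs : s ≠ 0) (ht : t ≠ 0) :
    hh Q a a' b b' s * hh Q b b' c c' t = hh Q b b' c c' t * hh Q a a' b b' s := by
  have p_a_b : QuadraticMap.polar (⇑Q) a b = 0 := hab.ab
  have p_a_bp : QuadraticMap.polar (⇑Q) a b' = 0 := hab.ab'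
  have p_a_c : QuadraticMap.polar (⇑Q) a c = 0 := hac.ab
  have p_a_cp : QuadraticMap.polar (⇑Q) a c' = 0 := hac.ab'
  have p_ap_b : QuadraticMap.polar (⇑Q) a' b = 0 := hab.a'b
  have p_ap_bp : QuadraticMap.polar (⇑Q) a' b' = 0 := hab.a'b'
  have p_ap_c : QuadraticMap.polar (⇑Q) a' c = 0 := hac.a'b
  have p_ap_cp : QuadraticMap.polar (⇑Q) a' c' = 0 := hac.a'b'
  have p_b_a : QuadraticMap.polar (⇑Q) b a = 0 := by rw [QuadraticMap.polar_comm]; exact hab.ab
  have p_b_ap : QuadraticMap.polar (⇑Q) b a' = 0 := by rw [QuadraticMap.polar_comm]; exact hab.a'b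
  have p_b_c : QuadraticMap.polar (⇑Q) b c = 0 := hbc.ab
  have p_b_cp : QuadraticMap.polar (⇑Q) b c' = 0 := hbc.ab'
  have p_bp_a : QuadraticMap.polar (⇑Q) b' a = 0 := by rw [QuadraticMap.polar_comm]; exact hab.ab'
  have p_bp_ap : QuadraticMap.polar (⇑Q) b' a' = 0 := by rw [QuadraticMap.polar_comm]; exact hab.a'b'
  have p_bp_c : QuadraticMap.polar (⇑Q) b' c = 0 := hbc.a'b
  have p_bp_cp : QuadraticMap.polar (⇑Q) b' c' = 0 := hbc.a'b'
  have p_c_a : QuadraticMap.polar (⇑Q) c a = 0 := by rw [QuadraticMap.polar_comm]; exact hac.ab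
  have p_c_ap : QuadraticMap.polar (⇑Q) c a' = 0 := by rw [QuadraticMap.polar_comm]; exact hac.a'b
  have p_c_b : QuadraticMap.polar (⇑Q) c b = 0 := by rw [QuadraticMap.polar_comm]; exact hbc.ab
  have p_c_bp : QuadraticMap.polar (⇑Q) c b' = 0 := by rw [QuadraticMap.polar_comm]; exact hbc.a'b
  have p_cp_a : QuadraticMap.polar (⇑Q) c' a = 0 := by rw [QuadraticMap.polar_comm]; exact hac.ab'
  have p_cp_ap : QuadraticMap.polar (⇑Q) c' a' = 0 := by rw [QuadraticMap.polar_comm]; exact hac.a'b'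
  have p_cp_b : QuadraticMap.polar (⇑Q) c' b = 0 := by rw [QuadraticMap.polar_comm]; exact hbc.ab'
  have p_cp_bp : QuadraticMap.polar (⇑Q) c' b' = 0 := by rw [QuadraticMap.polar_comm]; exact hbc.a'b'
  have hhab_a : hh Q a a' b b' s a = s • a := hh_a hab s hs
  have hhab_b : hh Q a a' b b' s b = s⁻¹ • b := hh_b hab s hs
  have hhab_ap : hh Q a a' b b' s a' = s⁻¹ • a' := hh_a' hab s hs
  have hhab_bp : hh Q a a' b b' s b' = s • b' := hh_b' hab s hs
  have hhab_c : hh Q a a' b b' s c = c := hh_perp hab s c p_c_a p_c_ap p_c_b p_c_bp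
  have hhab_cp : hh Q a a' b b' s c' = c' := hh_perp hab s c' p_cp_a p_cp_ap p_cp_b p_cp_bp
  have hhbc_b : hh Q b b' c c' t b = t • b := hh_a hbc t ht
  have hhbc_c : hh Q b b' c c' t c = t⁻¹ • c := hh_b hbc t ht
  have hhbc_bp : hh Q b b' c c' t b' = t⁻¹ • b' := hh_a' hbc t ht
  have hhbc_cp : hh Q b b' c c' t c' = t • c' := hh_b' hbc t ht
  have hhbc_a : hh Q b b' c c' t a = a := hh_perp hbc t a p_a_b p_a_bp p_a_c p_a_cp
  have hhbc_ap : hh Q b b' c c' t a' = a' := hh_perp hbc t a' p_ap_b p_ap_bp p_ap_c p_ap_cp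
  apply ext6 hab hac hbc
  · simp only [LinearEquiv.mul_apply, hhab_a, hhab_b, hhab_ap, hhab_bp, hhab_c, hhab_cp, hhbc_b, hhbc_c, hhbc_bp, hhbc_cp, hhbc_a, hhbc_ap, map_smul, map_neg, map_sub, map_add, inv_one, one_smul]
    try (match_scalars <;> field_simp)
  · simp only [LinearEquiv.mul_apply, hhab_a, hhab_b, hhab_ap, hhab_bp, hhab_c, hhab_cp, hhbc_b, hhbc_c, hhbc_bp, hhbc_cp, hhbc_a, hhbc_ap, map_smul, map_neg, map_sub, map_add, inv_one, one_smul]
    try (match_scalars <;> field_simp)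
  · simp only [LinearEquiv.mul_apply, hhab_a, hhab_b, hhab_ap, hhab_bp, hhab_c, hhab_cp, hhbc_b, hhbc_c, hhbc_bp, hhbc_cp, hhbc_a, hhbc_ap, map_smul, map_neg, map_sub, map_add, inv_one, one_smul]
    try (match_scalars <;> field_simp)
  · simp only [LinearEquiv.mul_apply, hhab_a, hhab_b, hhab_ap, hhab_bp, hhab_c, hhab_cp, hhbc_b, hhbc_c, hhbc_bp, hhbc_cp, hhbc_a, hhbc_ap, map_smul, map_neg, map_sub, map_add, inv_one, one_smul]
    try (match_scalars <;> field_simp)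
  · simp only [LinearEquiv.mul_apply, hhab_a, hhab_b, hhab_ap, hhab_bp, hhab_c, hhab_cp, hhbc_b, hhbc_c, hhbc_bp, hhbc_cp, hhbc_a, hhbc_ap, map_smul, map_neg, map_sub, map_add, inv_one, one_smul]
    try (match_scalars <;> field_simp)
  · simp only [LinearEquiv.mul_apply, hhab_a, hhab_b, hhab_ap, hhab_bp, hhab_c, hhab_cp, hhbc_b, hhbc_c, hhbc_bp, hhbc_cp, hhbc_a, hhbc_ap, map_smul, map_neg, map_sub, map_add, inv_one, one_smul]
    try (match_scalars <;> field_simp)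
  · intro w hwa hwap hwb hwbp hwc hwcp
    have hhab_w : hh Q a a' b b' s w = w := hh_perp hab s w hwa hwap hwb hwbp
    have hhbc_w : hh Q b b' c c' t w = w := hh_perp hbc t w hwb hwbp hwc hwcp
    simp only [LinearEquiv.mul_apply, hhab_w, hhbc_w]

theorem h13_n1 {a a' b b' c c' : V} (hab : HQuad Q a a' b b') (hac : HQuad Q a a' c c')
    (hbc : HQuad Q b b' c c') (t : F) (ht : t ≠ 0) :
    hh Q a a' c c' t * nw Q a a' b b' 1 = nw Q a a' b b' 1 * hh Q b b' c c' t := by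
  have p_a_b : QuadraticMap.polar (⇑Q) a b = 0 := hab.ab
  have p_a_bp : QuadraticMap.polar (⇑Q) a b' = 0 := hab.ab'
  have p_a_c : QuadraticMap.polar (⇑Q) a c = 0 := hac.ab
  have p_a_cp : QuadraticMap.polar (⇑Q) a c' = 0 := hac.ab'
  have p_ap_b : QuadraticMap.polar (⇑Q) a' b = 0 := hab.a'b
  have p_ap_bp : QuadraticMap.polar (⇑Q) a' b' = 0 := hab.a'b'
  have p_ap_c : QuadraticMap.polar (⇑Q) a' c = 0 := hac.a'b
  have p_ap_cp : QuadraticMap.polar (⇑Q) a' c' = 0 := hac.a'b'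
  have p_b_a : QuadraticMap.polar (⇑Q) b a = 0 := by rw [QuadraticMap.polar_comm]; exact hab.ab
  have p_b_ap : QuadraticMap.polar (⇑Q) b a' = 0 := by rw [QuadraticMap.polar_comm]; exact hab.a'b
  have p_b_c : QuadraticMap.polar (⇑Q) b c = 0 := hbc.ab
  have p_b_cp : QuadraticMap.polar (⇑Q) b c' = 0 := hbc.ab'
  have p_bp_a : QuadraticMap.polar (⇑Q) b' a = 0 := by rw [QuadraticMap.polar_comm]; exact hab.ab'
  have p_bp_ap : QuadraticMap.polar (⇑Q) b' a' = 0 := by rw [QuadraticMap.polar_comm]; exact hab.a'b'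
  have p_bp_c : QuadraticMap.polar (⇑Q) b' c = 0 := hbc.a'b
  have p_bp_cp : QuadraticMap.polar (⇑Q) b' c' = 0 := hbc.a'b'
  have p_c_a : QuadraticMap.polar (⇑Q) c a = 0 := by rw [QuadraticMap.polar_comm]; exact hac.ab
  have p_c_ap : QuadraticMap.polar (⇑Q) c a' = 0 := by rw [QuadraticMap.polar_comm]; exact hac.a'b
  have p_c_b : QuadraticMap.polar (⇑Q) c b = 0 := by rw [QuadraticMap.polar_comm]; exact hbc.ab
  have p_c_bp : QuadraticMap.polar (⇑Q) c b' = 0 := by rw [QuadraticMap.polar_comm]; exact hbc.a'b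
  have p_cp_a : QuadraticMap.polar (⇑Q) c' a = 0 := by rw [QuadraticMap.polar_comm]; exact hac.ab'
  have p_cp_ap : QuadraticMap.polar (⇑Q) c' a' = 0 := by rw [QuadraticMap.polar_comm]; exact hac.a'b'
  have p_cp_b : QuadraticMap.polar (⇑Q) c' b = 0 := by rw [QuadraticMap.polar_comm]; exact hbc.ab'
  have p_cp_bp : QuadraticMap.polar (⇑Q) c' b' = 0 := by rw [QuadraticMap.polar_comm]; exact hbc.a'b'
  have hhac_a : hh Q a a' c c' t a = t • a := hh_a hac t ht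
  have hhac_c : hh Q a a' c c' t c = t⁻¹ • c := hh_b hac t ht
  have hhac_ap : hh Q a a' c c' t a' = t⁻¹ • a' := hh_a' hac t ht
  have hhac_cp : hh Q a a' c c' t c' = t • c' := hh_b' hac t ht
  have hhac_b : hh Q a a' c c' t b = b := hh_perp hac t b p_b_a p_b_ap p_b_c p_b_cp
  have hhac_bp : hh Q a a' c c' t b' = b' := hh_perp hac t b' p_bp_a p_bp_ap p_bp_c p_bp_cp
  have nwab_a : nw Q a a' b b' 1 a = (1:F)⁻¹ • b := nw_a hab 1 one_ne_zero
  have nwab_b : nw Q a a' b b' 1 b = -((1:F) • a) := nw_b hab 1 one_ne_zero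
  have nwab_ap : nw Q a a' b b' 1 a' = (1:F) • b' := nw_a' hab 1 one_ne_zero
  have nwab_bp : nw Q a a' b b' 1 b' = -((1:F)⁻¹ • a') := nw_b' hab 1 one_ne_zero
  have nwab_c : nw Q a a' b b' 1 c = c := nw_perp hab 1 c p_c_a p_c_ap p_c_b p_c_bp
  have nwab_cp : nw Q a a' b b' 1 c' = c' := nw_perp hab 1 c' p_cp_a p_cp_ap p_cp_b p_cp_bp
  have hhbc_b : hh Q b b' c c' t b = t • b := hh_a hbc t ht
  have hhbc_c : hh Q b b' c c' t c = t⁻¹ • c := hh_b hbc t ht
  have hhbc_bp : hh Q b b' c c' t b' = t⁻¹ • b' := hh_a' hbc t ht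
  have hhbc_cp : hh Q b b' c c' t c' = t • c' := hh_b' hbc t ht
  have hhbc_a : hh Q b b' c c' t a = a := hh_perp hbc t a p_a_b p_a_bp p_a_c p_a_cp
  have hhbc_ap : hh Q b b' c c' t a' = a' := hh_perp hbc t a' p_ap_b p_ap_bp p_ap_c p_ap_cp
  apply ext6 hab hac hbc
  · simp only [LinearEquiv.mul_apply, hhac_a, hhac_c, hhac_ap, hhac_cp, hhac_b, hhac_bp, nwab_a, nwab_b, nwab_ap, nwab_bp, nwab_c, nwab_cp, hhbc_b, hhbc_c, hhbc_bp, hhbc_cp, hhbc_a, hhbc_ap, map_smul, map_neg, map_sub, map_add, inv_one, one_smul]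
    try (match_scalars <;> field_simp)
  · simp only [LinearEquiv.mul_apply, hhac_a, hhac_c, hhac_ap, hhac_cp, hhac_b, hhac_bp, nwab_a, nwab_b, nwab_ap, nwab_bp, nwab_c, nwab_cp, hhbc_b, hhbc_c, hhbc_bp, hhbc_cp, hhbc_a, hhbc_ap, map_smul, map_neg, map_sub, map_add, inv_one, one_smul]
    try (match_scalars <;> field_simp)
  · simp only [LinearEquiv.mul_apply, hhac_a, hhac_c, hhac_ap, hhac_cp, hhac_b, hhac_bp, nwab_a, nwab_b, nwab_ap, nwab_bp, nwab_c, nwab_cp, hhbc_b, hhbc_c, hhbc_bp, hhbc_cp, hhbc_a, hhbc_ap, map_smul, map_neg, map_sub, map_add, inv_one, one_smul]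
    try (match_scalars <;> field_simp)
  · simp only [LinearEquiv.mul_apply, hhac_a, hhac_c, hhac_ap, hhac_cp, hhac_b, hhac_bp, nwab_a, nwab_b, nwab_ap, nwab_bp, nwab_c, nwab_cp, hhbc_b, hhbc_c, hhbc_bp, hhbc_cp, hhbc_a, hhbc_ap, map_smul, map_neg, map_sub, map_add, inv_one, one_smul]
    try (match_scalars <;> field_simp)
  · simp only [LinearEquiv.mul_apply, hhac_a, hhac_c, hhac_ap, hhac_cp, hhac_b, hhac_bp, nwab_a, nwab_b, nwab_ap, nwab_bp, nwab_c, nwab_cp, hhbc_b, hhbc_c, hhbc_bp, hhbc_cp, hhbc_a, hhbc_ap, map_smul, map_neg, map_sub, map_add, inv_one, one_smul]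
    try (match_scalars <;> field_simp)
  · simp only [LinearEquiv.mul_apply, hhac_a, hhac_c, hhac_ap, hhac_cp, hhac_b, hhac_bp, nwab_a, nwab_b, nwab_ap, nwab_bp, nwab_c, nwab_cp, hhbc_b, hhbc_c, hhbc_bp, hhbc_cp, hhbc_a, hhbc_ap, map_smul, map_neg, map_sub, map_add, inv_one, one_smul]
    try (match_scalars <;> field_simp)
  · intro w hwa hwap hwb hwbp hwc hwcp
    have hhac_w : hh Q a a' c c' t w = w := hh_perp hac t w hwa hwap hwc hwcp
    have nwab_w : nw Q a a' b b' 1 w = w := nw_perp hab 1 w hwa hwap hwb hwbp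
    have hhbc_w : hh Q b b' c c' t w = w := hh_perp hbc t w hwb hwbp hwc hwcp
    simp only [LinearEquiv.mul_apply, hhac_w, nwab_w, hhbc_w]

theorem h23_n1 {a a' b b' c c' : V} (hab : HQuad Q a a' b b') (hac : HQuad Q a a' c c')
    (hbc : HQuad Q b b' c c') (t : F) (ht : t ≠ 0) :
    hh Q b b' c c' t * nw Q a a' b b' 1 = nw Q a a' b b' 1 * hh Q a a' c c' t := by
  have p_a_b : QuadraticMap.polar (⇑Q) a b = 0 := hab.ab
  have p_a_bp : QuadraticMap.polar (⇑Q) a b' = 0 := hab.ab'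
  have p_a_c : QuadraticMap.polar (⇑Q) a c = 0 := hac.ab
  have p_a_cp : QuadraticMap.polar (⇑Q) a c' = 0 := hac.ab'
  have p_ap_b : QuadraticMap.polar (⇑Q) a' b = 0 := hab.a'b
  have p_ap_bp : QuadraticMap.polar (⇑Q) a' b' = 0 := hab.a'b'
  have p_ap_c : QuadraticMap.polar (⇑Q) a' c = 0 := hac.a'b
  have p_ap_cp : QuadraticMap.polar (⇑Q) a' c' = 0 := hac.a'b'
  have p_b_a : QuadraticMap.polar (⇑Q) b a = 0 := by rw [QuadraticMap.polar_comm]; exact hab.ab
  have p_b_ap : QuadraticMap.polar (⇑Q) b a' = 0 := by rw [QuadraticMap.polar_comm]; exact hab.a'b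
  have p_b_c : QuadraticMap.polar (⇑Q) b c = 0 := hbc.ab
  have p_b_cp : QuadraticMap.polar (⇑Q) b c' = 0 := hbc.ab'
  have p_bp_a : QuadraticMap.polar (⇑Q) b' a = 0 := by rw [QuadraticMap.polar_comm]; exact hab.ab'
  have p_bp_ap : QuadraticMap.polar (⇑Q) b' a' = 0 := by rw [QuadraticMap.polar_comm]; exact hab.a'b'
  have p_bp_c : QuadraticMap.polar (⇑Q) b' c = 0 := hbc.a'b
  have p_bp_cp : QuadraticMap.polar (⇑Q) b' c' = 0 := hbc.a'b'
  have p_c_a : QuadraticMap.polar (⇑Q) c a = 0 := by rw [QuadraticMap.polar_comm]; exact hac.ab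
  have p_c_ap : QuadraticMap.polar (⇑Q) c a' = 0 := by rw [QuadraticMap.polar_comm]; exact hac.a'b
  have p_c_b : QuadraticMap.polar (⇑Q) c b = 0 := by rw [QuadraticMap.polar_comm]; exact hbc.ab
  have p_c_bp : QuadraticMap.polar (⇑Q) c b' = 0 := by rw [QuadraticMap.polar_comm]; exact hbc.a'b
  have p_cp_a : QuadraticMap.polar (⇑Q) c' a = 0 := by rw [QuadraticMap.polar_comm]; exact hac.ab'
  have p_cp_ap : QuadraticMap.polar (⇑Q) c' a' = 0 := by rw [QuadraticMap.polar_comm]; exact hac.a'b'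
  have p_cp_b : QuadraticMap.polar (⇑Q) c' b = 0 := by rw [QuadraticMap.polar_comm]; exact hbc.ab'
  have p_cp_bp : QuadraticMap.polar (⇑Q) c' b' = 0 := by rw [QuadraticMap.polar_comm]; exact hbc.a'b'
  have hhbc_b : hh Q b b' c c' t b = t • b := hh_a hbc t ht
  have hhbc_c : hh Q b b' c c' t c = t⁻¹ • c := hh_b hbc t ht
  have hhbc_bp : hh Q b b' c c' t b' = t⁻¹ • b' := hh_a' hbc t ht
  have hhbc_cp : hh Q b b' c c' t c' = t • c' := hh_b' hbc t ht
  have hhbc_a : hh Q b b' c c' t a = a := hh_perp hbc t a p_a_b p_a_bp p_a_c p_a_cp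
  have hhbc_ap : hh Q b b' c c' t a' = a' := hh_perp hbc t a' p_ap_b p_ap_bp p_ap_c p_ap_cp
  have nwab_a : nw Q a a' b b' 1 a = (1:F)⁻¹ • b := nw_a hab 1 one_ne_zero
  have nwab_b : nw Q a a' b b' 1 b = -((1:F) • a) := nw_b hab 1 one_ne_zero
  have nwab_ap : nw Q a a' b b' 1 a' = (1:F) • b' := nw_a' hab 1 one_ne_zero
  have nwab_bp : nw Q a a' b b' 1 b' = -((1:F)⁻¹ • a') := nw_b' hab 1 one_ne_zero
  have nwab_c : nw Q a a' b b' 1 c = c := nw_perp hab 1 c p_c_a p_c_ap p_c_b p_c_bp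
  have nwab_cp : nw Q a a' b b' 1 c' = c' := nw_perp hab 1 c' p_cp_a p_cp_ap p_cp_b p_cp_bp
  have hhac_a : hh Q a a' c c' t a = t • a := hh_a hac t ht
  have hhac_c : hh Q a a' c c' t c = t⁻¹ • c := hh_b hac t ht
  have hhac_ap : hh Q a a' c c' t a' = t⁻¹ • a' := hh_a' hac t ht
  have hhac_cp : hh Q a a' c c' t c' = t • c' := hh_b' hac t ht
  have hhac_b : hh Q a a' c c' t b = b := hh_perp hac t b p_b_a p_b_ap p_b_c p_b_cp
  have hhac_bp : hh Q a a' c c' t b' = b' := hh_perp hac t b' p_bp_a p_bp_ap p_bp_c p_bp_cp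
  apply ext6 hab hac hbc
  · simp only [LinearEquiv.mul_apply, hhbc_b, hhbc_c, hhbc_bp, hhbc_cp, hhbc_a, hhbc_ap, nwab_a, nwab_b, nwab_ap, nwab_bp, nwab_c, nwab_cp, hhac_a, hhac_c, hhac_ap, hhac_cp, hhac_b, hhac_bp, map_smul, map_neg, map_sub, map_add, inv_one, one_smul]
    try (match_scalars <;> field_simp)
  · simp only [LinearEquiv.mul_apply, hhbc_b, hhbc_c, hhbc_bp, hhbc_cp, hhbc_a, hhbc_ap, nwab_a, nwab_b, nwab_ap, nwab_bp, nwab_c, nwab_cp, hhac_a, hhac_c, hhac_ap, hhac_cp, hhac_b, hhac_bp, map_smul, map_neg, map_sub, map_add, inv_one, one_smul]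
    try (match_scalars <;> field_simp)
  · simp only [LinearEquiv.mul_apply, hhbc_b, hhbc_c, hhbc_bp, hhbc_cp, hhbc_a, hhbc_ap, nwab_a, nwab_b, nwab_ap, nwab_bp, nwab_c, nwab_cp, hhac_a, hhac_c, hhac_ap, hhac_cp, hhac_b, hhac_bp, map_smul, map_neg, map_sub, map_add, inv_one, one_smul]
    try (match_scalars <;> field_simp)
  · simp only [LinearEquiv.mul_apply, hhbc_b, hhbc_c, hhbc_bp, hhbc_cp, hhbc_a, hhbc_ap, nwab_a, nwab_b, nwab_ap, nwab_bp, nwab_c, nwab_cp, hhac_a, hhac_c, hhac_ap, hhac_cp, hhac_b, hhac_bp, map_smul, map_neg, map_sub, map_add, inv_one, one_smul]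
    try (match_scalars <;> field_simp)
  · simp only [LinearEquiv.mul_apply, hhbc_b, hhbc_c, hhbc_bp, hhbc_cp, hhbc_a, hhbc_ap, nwab_a, nwab_b, nwab_ap, nwab_bp, nwab_c, nwab_cp, hhac_a, hhac_c, hhac_ap, hhac_cp, hhac_b, hhac_bp, map_smul, map_neg, map_sub, map_add, inv_one, one_smul]
    try (match_scalars <;> field_simp)
  · simp only [LinearEquiv.mul_apply, hhbc_b, hhbc_c, hhbc_bp, hhbc_cp, hhbc_a, hhbc_ap, nwab_a, nwab_b, nwab_ap, nwab_bp, nwab_c, nwab_cp, hhac_a, hhac_c, hhac_ap, hhac_cp, hhac_b, hhac_bp, map_smul, map_neg, map_sub, map_add, inv_one, one_smul]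
    try (match_scalars <;> field_simp)
  · intro w hwa hwap hwb hwbp hwc hwcp
    have hhbc_w : hh Q b b' c c' t w = w := hh_perp hbc t w hwb hwbp hwc hwcp
    have nwab_w : nw Q a a' b b' 1 w = w := nw_perp hab 1 w hwa hwap hwb hwbp
    have hhac_w : hh Q a a' c c' t w = w := hh_perp hac t w hwa hwap hwc hwcp
    simp only [LinearEquiv.mul_apply, hhbc_w, nwab_w, hhac_w]

theorem h13_n2 {a a' b b' c c' : V} (hab : HQuad Q a a' b b') (hac : HQuad Q a a' c c')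
    (hbc : HQuad Q b b' c c') (t : F) (ht : t ≠ 0) :
    hh Q a a' c c' t * nw Q b b' c c' 1 = nw Q b b' c c' 1 * hh Q a a' b b' t := by
  have p_a_b : QuadraticMap.polar (⇑Q) a b = 0 := hab.ab
  have p_a_bp : QuadraticMap.polar (⇑Q) a b' = 0 := hab.ab'
  have p_a_c : QuadraticMap.polar (⇑Q) a c = 0 := hac.ab
  have p_a_cp : QuadraticMap.polar (⇑Q) a c' = 0 := hac.ab'
  have p_ap_b : QuadraticMap.polar (⇑Q) a' b = 0 := hab.a'b
  have p_ap_bp : QuadraticMap.polar (⇑Q) a' b' = 0 := hab.a'b'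
  have p_ap_c : QuadraticMap.polar (⇑Q) a' c = 0 := hac.a'b
  have p_ap_cp : QuadraticMap.polar (⇑Q) a' c' = 0 := hac.a'b'
  have p_b_a : QuadraticMap.polar (⇑Q) b a = 0 := by rw [QuadraticMap.polar_comm]; exact hab.ab
  have p_b_ap : QuadraticMap.polar (⇑Q) b a' = 0 := by rw [QuadraticMap.polar_comm]; exact hab.a'b
  have p_b_c : QuadraticMap.polar (⇑Q) b c = 0 := hbc.ab
  have p_b_cp : QuadraticMap.polar (⇑Q) b c' = 0 := hbc.ab'
  have p_bp_a : QuadraticMap.polar (⇑Q) b' a = 0 := by rw [QuadraticMap.polar_comm]; exact hab.ab'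
  have p_bp_ap : QuadraticMap.polar (⇑Q) b' a' = 0 := by rw [QuadraticMap.polar_comm]; exact hab.a'b'
  have p_bp_c : QuadraticMap.polar (⇑Q) b' c = 0 := hbc.a'b
  have p_bp_cp : QuadraticMap.polar (⇑Q) b' c' = 0 := hbc.a'b'
  have p_c_a : QuadraticMap.polar (⇑Q) c a = 0 := by rw [QuadraticMap.polar_comm]; exact hac.ab
  have p_c_ap : QuadraticMap.polar (⇑Q) c a' = 0 := by rw [QuadraticMap.polar_comm]; exact hac.a'b
  have p_c_b : QuadraticMap.polar (⇑Q) c b = 0 := by rw [QuadraticMap.polar_comm]; exact hbc.ab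
  have p_c_bp : QuadraticMap.polar (⇑Q) c b' = 0 := by rw [QuadraticMap.polar_comm]; exact hbc.a'b
  have p_cp_a : QuadraticMap.polar (⇑Q) c' a = 0 := by rw [QuadraticMap.polar_comm]; exact hac.ab'
  have p_cp_ap : QuadraticMap.polar (⇑Q) c' a' = 0 := by rw [QuadraticMap.polar_comm]; exact hac.a'b'
  have p_cp_b : QuadraticMap.polar (⇑Q) c' b = 0 := by rw [QuadraticMap.polar_comm]; exact hbc.ab'
  have p_cp_bp : QuadraticMap.polar (⇑Q) c' b' = 0 := by rw [QuadraticMap.polar_comm]; exact hbc.a'b'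
  have hhac_a : hh Q a a' c c' t a = t • a := hh_a hac t ht
  have hhac_c : hh Q a a' c c' t c = t⁻¹ • c := hh_b hac t ht
  have hhac_ap : hh Q a a' c c' t a' = t⁻¹ • a' := hh_a' hac t ht
  have hhac_cp : hh Q a a' c c' t c' = t • c' := hh_b' hac t ht
  have hhac_b : hh Q a a' c c' t b = b := hh_perp hac t b p_b_a p_b_ap p_b_c p_b_cp
  have hhac_bp : hh Q a a' c c' t b' = b' := hh_perp hac t b' p_bp_a p_bp_ap p_bp_c p_bp_cp
  have nwbc_b : nw Q b b' c c' 1 b = (1:F)⁻¹ • c := nw_a hbc 1 one_ne_zero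
  have nwbc_c : nw Q b b' c c' 1 c = -((1:F) • b) := nw_b hbc 1 one_ne_zero
  have nwbc_bp : nw Q b b' c c' 1 b' = (1:F) • c' := nw_a' hbc 1 one_ne_zero
  have nwbc_cp : nw Q b b' c c' 1 c' = -((1:F)⁻¹ • b') := nw_b' hbc 1 one_ne_zero
  have nwbc_a : nw Q b b' c c' 1 a = a := nw_perp hbc 1 a p_a_b p_a_bp p_a_c p_a_cp
  have nwbc_ap : nw Q b b' c c' 1 a' = a' := nw_perp hbc 1 a' p_ap_b p_ap_bp p_ap_c p_ap_cp
  have hhab_a : hh Q a a' b b' t a = t • a := hh_a hab t ht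
  have hhab_b : hh Q a a' b b' t b = t⁻¹ • b := hh_b hab t ht
  have hhab_ap : hh Q a a' b b' t a' = t⁻¹ • a' := hh_a' hab t ht
  have hhab_bp : hh Q a a' b b' t b' = t • b' := hh_b' hab t ht
  have hhab_c : hh Q a a' b b' t c = c := hh_perp hab t c p_c_a p_c_ap p_c_b p_c_bp
  have hhab_cp : hh Q a a' b b' t c' = c' := hh_perp hab t c' p_cp_a p_cp_ap p_cp_b p_cp_bp
  apply ext6 hab hac hbc
  · simp only [LinearEquiv.mul_apply, hhac_a, hhac_c, hhac_ap, hhac_cp, hhac_b, hhac_bp, nwbc_b, nwbc_c, nwbc_bp, nwbc_cp, nwbc_a, nwbc_ap, hhab_a, hhab_b, hhab_ap, hhab_bp, hhab_c, hhab_cp, map_smul, map_neg, map_sub, map_add, inv_one, one_smul]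
    try (match_scalars <;> field_simp)
  · simp only [LinearEquiv.mul_apply, hhac_a, hhac_c, hhac_ap, hhac_cp, hhac_b, hhac_bp, nwbc_b, nwbc_c, nwbc_bp, nwbc_cp, nwbc_a, nwbc_ap, hhab_a, hhab_b, hhab_ap, hhab_bp, hhab_c, hhab_cp, map_smul, map_neg, map_sub, map_add, inv_one, one_smul]
    try (match_scalars <;> field_simp)
  · simp only [LinearEquiv.mul_apply, hhac_a, hhac_c, hhac_ap, hhac_cp, hhac_b, hhac_bp, nwbc_b, nwbc_c, nwbc_bp, nwbc_cp, nwbc_a, nwbc_ap, hhab_a, hhab_b, hhab_ap, hhab_bp, hhab_c, hhab_cp, map_smul, map_neg, map_sub, map_add, inv_one, one_smul]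
    try (match_scalars <;> field_simp)
  · simp only [LinearEquiv.mul_apply, hhac_a, hhac_c, hhac_ap, hhac_cp, hhac_b, hhac_bp, nwbc_b, nwbc_c, nwbc_bp, nwbc_cp, nwbc_a, nwbc_ap, hhab_a, hhab_b, hhab_ap, hhab_bp, hhab_c, hhab_cp, map_smul, map_neg, map_sub, map_add, inv_one, one_smul]
    try (match_scalars <;> field_simp)
  · simp only [LinearEquiv.mul_apply, hhac_a, hhac_c, hhac_ap, hhac_cp, hhac_b, hhac_bp, nwbc_b, nwbc_c, nwbc_bp, nwbc_cp, nwbc_a, nwbc_ap, hhab_a, hhab_b, hhab_ap, hhab_bp, hhab_c, hhab_cp, map_smul, map_neg, map_sub, map_add, inv_one, one_smul]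
    try (match_scalars <;> field_simp)
  · simp only [LinearEquiv.mul_apply, hhac_a, hhac_c, hhac_ap, hhac_cp, hhac_b, hhac_bp, nwbc_b, nwbc_c, nwbc_bp, nwbc_cp, nwbc_a, nwbc_ap, hhab_a, hhab_b, hhab_ap, hhab_bp, hhab_c, hhab_cp, map_smul, map_neg, map_sub, map_add, inv_one, one_smul]
    try (match_scalars <;> field_simp)
  · intro w hwa hwap hwb hwbp hwc hwcp
    have hhac_w : hh Q a a' c c' t w = w := hh_perp hac t w hwa hwap hwc hwcp
    have nwbc_w : nw Q b b' c c' 1 w = w := nw_perp hbc 1 w hwb hwbp hwc hwcp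
    have hhab_w : hh Q a a' b b' t w = w := hh_perp hab t w hwa hwap hwb hwbp
    simp only [LinearEquiv.mul_apply, hhac_w, nwbc_w, hhab_w]

theorem h12_n2 {a a' b b' c c' : V} (hab : HQuad Q a a' b b') (hac : HQuad Q a a' c c')
    (hbc : HQuad Q b b' c c') (t : F) (ht : t ≠ 0) :
    hh Q a a' b b' t * nw Q b b' c c' 1 = nw Q b b' c c' 1 * hh Q a a' c c' t := by
  have p_a_b : QuadraticMap.polar (⇑Q) a b = 0 := hab.ab
  have p_a_bp : QuadraticMap.polar (⇑Q) a b' = 0 := hab.ab'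
  have p_a_c : QuadraticMap.polar (⇑Q) a c = 0 := hac.ab
  have p_a_cp : QuadraticMap.polar (⇑Q) a c' = 0 := hac.ab'
  have p_ap_b : QuadraticMap.polar (⇑Q) a' b = 0 := hab.a'b
  have p_ap_bp : QuadraticMap.polar (⇑Q) a' b' = 0 := hab.a'b'
  have p_ap_c : QuadraticMap.polar (⇑Q) a' c = 0 := hac.a'b
  have p_ap_cp : QuadraticMap.polar (⇑Q) a' c' = 0 := hac.a'b'
  have p_b_a : QuadraticMap.polar (⇑Q) b a = 0 := by rw [QuadraticMap.polar_comm]; exact hab.ab
  have p_b_ap : QuadraticMap.polar (⇑Q) b a' = 0 := by rw [QuadraticMap.polar_comm]; exact hab.a'b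
  have p_b_c : QuadraticMap.polar (⇑Q) b c = 0 := hbc.ab
  have p_b_cp : QuadraticMap.polar (⇑Q) b c' = 0 := hbc.ab'
  have p_bp_a : QuadraticMap.polar (⇑Q) b' a = 0 := by rw [QuadraticMap.polar_comm]; exact hab.ab'
  have p_bp_ap : QuadraticMap.polar (⇑Q) b' a' = 0 := by rw [QuadraticMap.polar_comm]; exact hab.a'b'
  have p_bp_c : QuadraticMap.polar (⇑Q) b' c = 0 := hbc.a'b
  have p_bp_cp : QuadraticMap.polar (⇑Q) b' c' = 0 := hbc.a'b'
  have p_c_a : QuadraticMap.polar (⇑Q) c a = 0 := by rw [QuadraticMap.polar_comm]; exact hac.ab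
  have p_c_ap : QuadraticMap.polar (⇑Q) c a' = 0 := by rw [QuadraticMap.polar_comm]; exact hac.a'b
  have p_c_b : QuadraticMap.polar (⇑Q) c b = 0 := by rw [QuadraticMap.polar_comm]; exact hbc.ab
  have p_c_bp : QuadraticMap.polar (⇑Q) c b' = 0 := by rw [QuadraticMap.polar_comm]; exact hbc.a'b
  have p_cp_a : QuadraticMap.polar (⇑Q) c' a = 0 := by rw [QuadraticMap.polar_comm]; exact hac.ab'
  have p_cp_ap : QuadraticMap.polar (⇑Q) c' a' = 0 := by rw [QuadraticMap.polar_comm]; exact hac.a'b'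
  have p_cp_b : QuadraticMap.polar (⇑Q) c' b = 0 := by rw [QuadraticMap.polar_comm]; exact hbc.ab'
  have p_cp_bp : QuadraticMap.polar (⇑Q) c' b' = 0 := by rw [QuadraticMap.polar_comm]; exact hbc.a'b'
  have hhab_a : hh Q a a' b b' t a = t • a := hh_a hab t ht
  have hhab_b : hh Q a a' b b' t b = t⁻¹ • b := hh_b hab t ht
  have hhab_ap : hh Q a a' b b' t a' = t⁻¹ • a' := hh_a' hab t ht
  have hhab_bp : hh Q a a' b b' t b' = t • b' := hh_b' hab t ht
  have hhab_c : hh Q a a' b b' t c = c := hh_perp hab t c p_c_a p_c_ap p_c_b p_c_bp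
  have hhab_cp : hh Q a a' b b' t c' = c' := hh_perp hab t c' p_cp_a p_cp_ap p_cp_b p_cp_bp
  have nwbc_b : nw Q b b' c c' 1 b = (1:F)⁻¹ • c := nw_a hbc 1 one_ne_zero
  have nwbc_c : nw Q b b' c c' 1 c = -((1:F) • b) := nw_b hbc 1 one_ne_zero
  have nwbc_bp : nw Q b b' c c' 1 b' = (1:F) • c' := nw_a' hbc 1 one_ne_zero
  have nwbc_cp : nw Q b b' c c' 1 c' = -((1:F)⁻¹ • b') := nw_b' hbc 1 one_ne_zero
  have nwbc_a : nw Q b b' c c' 1 a = a := nw_perp hbc 1 a p_a_b p_a_bp p_a_c p_a_cp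
  have nwbc_ap : nw Q b b' c c' 1 a' = a' := nw_perp hbc 1 a' p_ap_b p_ap_bp p_ap_c p_ap_cp
  have hhac_a : hh Q a a' c c' t a = t • a := hh_a hac t ht
  have hhac_c : hh Q a a' c c' t c = t⁻¹ • c := hh_b hac t ht
  have hhac_ap : hh Q a a' c c' t a' = t⁻¹ • a' := hh_a' hac t ht
  have hhac_cp : hh Q a a' c c' t c' = t • c' := hh_b' hac t ht
  have hhac_b : hh Q a a' c c' t b = b := hh_perp hac t b p_b_a p_b_ap p_b_c p_b_cp
  have hhac_bp : hh Q a a' c c' t b' = b' := hh_perp hac t b' p_bp_a p_bp_ap p_bp_c p_bp_cp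
  apply ext6 hab hac hbc
  · simp only [LinearEquiv.mul_apply, hhab_a, hhab_b, hhab_ap, hhab_bp, hhab_c, hhab_cp, nwbc_b, nwbc_c, nwbc_bp, nwbc_cp, nwbc_a, nwbc_ap, hhac_a, hhac_c, hhac_ap, hhac_cp, hhac_b, hhac_bp, map_smul, map_neg, map_sub, map_add, inv_one, one_smul]
    try (match_scalars <;> field_simp)
  · simp only [LinearEquiv.mul_apply, hhab_a, hhab_b, hhab_ap, hhab_bp, hhab_c, hhab_cp, nwbc_b, nwbc_c, nwbc_bp, nwbc_cp, nwbc_a, nwbc_ap, hhac_a, hhac_c, hhac_ap, hhac_cp, hhac_b, hhac_bp, map_smul, map_neg, map_sub, map_add, inv_one, one_smul]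
    try (match_scalars <;> field_simp)
  · simp only [LinearEquiv.mul_apply, hhab_a, hhab_b, hhab_ap, hhab_bp, hhab_c, hhab_cp, nwbc_b, nwbc_c, nwbc_bp, nwbc_cp, nwbc_a, nwbc_ap, hhac_a, hhac_c, hhac_ap, hhac_cp, hhac_b, hhac_bp, map_smul, map_neg, map_sub, map_add, inv_one, one_smul]
    try (match_scalars <;> field_simp)
  · simp only [LinearEquiv.mul_apply, hhab_a, hhab_b, hhab_ap, hhab_bp, hhab_c, hhab_cp, nwbc_b, nwbc_c, nwbc_bp, nwbc_cp, nwbc_a, nwbc_ap, hhac_a, hhac_c, hhac_ap, hhac_cp, hhac_b, hhac_bp, map_smul, map_neg, map_sub, map_add, inv_one, one_smul]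
    try (match_scalars <;> field_simp)
  · simp only [LinearEquiv.mul_apply, hhab_a, hhab_b, hhab_ap, hhab_bp, hhab_c, hhab_cp, nwbc_b, nwbc_c, nwbc_bp, nwbc_cp, nwbc_a, nwbc_ap, hhac_a, hhac_c, hhac_ap, hhac_cp, hhac_b, hhac_bp, map_smul, map_neg, map_sub, map_add, inv_one, one_smul]
    try (match_scalars <;> field_simp)
  · simp only [LinearEquiv.mul_apply, hhab_a, hhab_b, hhab_ap, hhab_bp, hhab_c, hhab_cp, nwbc_b, nwbc_c, nwbc_bp, nwbc_cp, nwbc_a, nwbc_ap, hhac_a, hhac_c, hhac_ap, hhac_cp, hhac_b, hhac_bp, map_smul, map_neg, map_sub, map_add, inv_one, one_smul]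
    try (match_scalars <;> field_simp)
  · intro w hwa hwap hwb hwbp hwc hwcp
    have hhab_w : hh Q a a' b b' t w = w := hh_perp hab t w hwa hwap hwb hwbp
    have nwbc_w : nw Q b b' c c' 1 w = w := nw_perp hbc 1 w hwb hwbp hwc hwcp
    have hhac_w : hh Q a a' c c' t w = w := hh_perp hac t w hwa hwap hwc hwcp
    simp only [LinearEquiv.mul_apply, hhab_w, nwbc_w, hhac_w]

theorem h13_x1 {a a' b b' c c' : V} (hab : HQuad Q a a' b b') (hac : HQuad Q a a' c c')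
    (hbc : HQuad Q b b' c c') (t s : F) (ht : t ≠ 0) :
    hh Q a a' c c' t * xr Q a b' s = xr Q a b' (t * s) * hh Q a a' c c' t := by
  have p_a_b : QuadraticMap.polar (⇑Q) a b = 0 := hab.ab
  have p_a_bp : QuadraticMap.polar (⇑Q) a b' = 0 := hab.ab'
  have p_a_c : QuadraticMap.polar (⇑Q) a c = 0 := hac.ab
  have p_a_cp : QuadraticMap.polar (⇑Q) a c' = 0 := hac.ab'
  have p_ap_b : QuadraticMap.polar (⇑Q) a' b = 0 := hab.a'b
  have p_ap_bp : QuadraticMap.polar (⇑Q) a' b' = 0 := hab.a'b'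
  have p_ap_c : QuadraticMap.polar (⇑Q) a' c = 0 := hac.a'b
  have p_ap_cp : QuadraticMap.polar (⇑Q) a' c' = 0 := hac.a'b'
  have p_b_a : QuadraticMap.polar (⇑Q) b a = 0 := by rw [QuadraticMap.polar_comm]; exact hab.ab
  have p_b_ap : QuadraticMap.polar (⇑Q) b a' = 0 := by rw [QuadraticMap.polar_comm]; exact hab.a'b
  have p_b_c : QuadraticMap.polar (⇑Q) b c = 0 := hbc.ab
  have p_b_cp : QuadraticMap.polar (⇑Q) b c' = 0 := hbc.ab'
  have p_bp_a : QuadraticMap.polar (⇑Q) b' a = 0 := by rw [QuadraticMap.polar_comm]; exact hab.ab'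
  have p_bp_ap : QuadraticMap.polar (⇑Q) b' a' = 0 := by rw [QuadraticMap.polar_comm]; exact hab.a'b'
  have p_bp_c : QuadraticMap.polar (⇑Q) b' c = 0 := hbc.a'b
  have p_bp_cp : QuadraticMap.polar (⇑Q) b' c' = 0 := hbc.a'b'
  have p_c_a : QuadraticMap.polar (⇑Q) c a = 0 := by rw [QuadraticMap.polar_comm]; exact hac.ab
  have p_c_ap : QuadraticMap.polar (⇑Q) c a' = 0 := by rw [QuadraticMap.polar_comm]; exact hac.a'b
  have p_c_b : QuadraticMap.polar (⇑Q) c b = 0 := by rw [QuadraticMap.polar_comm]; exact hbc.ab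
  have p_c_bp : QuadraticMap.polar (⇑Q) c b' = 0 := by rw [QuadraticMap.polar_comm]; exact hbc.a'b
  have p_cp_a : QuadraticMap.polar (⇑Q) c' a = 0 := by rw [QuadraticMap.polar_comm]; exact hac.ab'
  have p_cp_ap : QuadraticMap.polar (⇑Q) c' a' = 0 := by rw [QuadraticMap.polar_comm]; exact hac.a'b'
  have p_cp_b : QuadraticMap.polar (⇑Q) c' b = 0 := by rw [QuadraticMap.polar_comm]; exact hbc.ab'
  have p_cp_bp : QuadraticMap.polar (⇑Q) c' b' = 0 := by rw [QuadraticMap.polar_comm]; exact hbc.a'b'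
  have hhac_a : hh Q a a' c c' t a = t • a := hh_a hac t ht
  have hhac_c : hh Q a a' c c' t c = t⁻¹ • c := hh_b hac t ht
  have hhac_ap : hh Q a a' c c' t a' = t⁻¹ • a' := hh_a' hac t ht
  have hhac_cp : hh Q a a' c c' t c' = t • c' := hh_b' hac t ht
  have hhac_b : hh Q a a' c c' t b = b := hh_perp hac t b p_b_a p_b_ap p_b_c p_b_cp
  have hhac_bp : hh Q a a' c c' t b' = b' := hh_perp hac t b' p_bp_a p_bp_ap p_bp_c p_bp_cp
  have xrab_a : ∀ s : F, xr Q a b' s a = a := fun s => xr_a hab s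
  have xrab_b : ∀ s : F, xr Q a b' s b = b - s • a := fun s => xr_b hab s
  have xrab_ap : ∀ s : F, xr Q a b' s a' = a' + s • b' := fun s => xr_a' hab s
  have xrab_bp : ∀ s : F, xr Q a b' s b' = b' := fun s => xr_b' hab s
  have xrab_c : ∀ s : F, xr Q a b' s c = c := fun s => xr_perp hab.pa.qa hab.pb.qa' hab.ab' s c p_c_a p_c_bp
  have xrab_cp : ∀ s : F, xr Q a b' s c' = c' := fun s => xr_perp hab.pa.qa hab.pb.qa' hab.ab' s c' p_cp_a p_cp_bp
  apply ext6 hab hac hbc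
  · simp only [LinearEquiv.mul_apply, hhac_a, hhac_c, hhac_ap, hhac_cp, hhac_b, hhac_bp, xrab_a, xrab_b, xrab_ap, xrab_bp, xrab_c, xrab_cp, map_smul, map_neg, map_sub, map_add, inv_one, one_smul]
    try (match_scalars <;> field_simp)
  · simp only [LinearEquiv.mul_apply, hhac_a, hhac_c, hhac_ap, hhac_cp, hhac_b, hhac_bp, xrab_a, xrab_b, xrab_ap, xrab_bp, xrab_c, xrab_cp, map_smul, map_neg, map_sub, map_add, inv_one, one_smul]
    try (match_scalars <;> field_simp)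
  · simp only [LinearEquiv.mul_apply, hhac_a, hhac_c, hhac_ap, hhac_cp, hhac_b, hhac_bp, xrab_a, xrab_b, xrab_ap, xrab_bp, xrab_c, xrab_cp, map_smul, map_neg, map_sub, map_add, inv_one, one_smul]
    try (match_scalars <;> field_simp)
  · simp only [LinearEquiv.mul_apply, hhac_a, hhac_c, hhac_ap, hhac_cp, hhac_b, hhac_bp, xrab_a, xrab_b, xrab_ap, xrab_bp, xrab_c, xrab_cp, map_smul, map_neg, map_sub, map_add, inv_one, one_smul]
    try (match_scalars <;> field_simp)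
  · simp only [LinearEquiv.mul_apply, hhac_a, hhac_c, hhac_ap, hhac_cp, hhac_b, hhac_bp, xrab_a, xrab_b, xrab_ap, xrab_bp, xrab_c, xrab_cp, map_smul, map_neg, map_sub, map_add, inv_one, one_smul]
    try (match_scalars <;> field_simp)
  · simp only [LinearEquiv.mul_apply, hhac_a, hhac_c, hhac_ap, hhac_cp, hhac_b, hhac_bp, xrab_a, xrab_b, xrab_ap, xrab_bp, xrab_c, xrab_cp, map_smul, map_neg, map_sub, map_add, inv_one, one_smul]
    try (match_scalars <;> field_simp)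
  · intro w hwa hwap hwb hwbp hwc hwcp
    have hhac_w : hh Q a a' c c' t w = w := hh_perp hac t w hwa hwap hwc hwcp
    have xrab_w : ∀ s : F, xr Q a b' s w = w := fun s => xr_perp hab.pa.qa hab.pb.qa' hab.ab' s w hwa hwbp
    simp only [LinearEquiv.mul_apply, hhac_w, xrab_w]

theorem h23_x1 {a a' b b' c c' : V} (hab : HQuad Q a a' b b') (hac : HQuad Q a a' c c')
    (hbc : HQuad Q b b' c c') (t s : F) (ht : t ≠ 0) :
    hh Q b b' c c' t * xr Q a b' s = xr Q a b' (t⁻¹ * s) * hh Q b b' c c' t := by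
  have p_a_b : QuadraticMap.polar (⇑Q) a b = 0 := hab.ab
  have p_a_bp : QuadraticMap.polar (⇑Q) a b' = 0 := hab.ab'
  have p_a_c : QuadraticMap.polar (⇑Q) a c = 0 := hac.ab
  have p_a_cp : QuadraticMap.polar (⇑Q) a c' = 0 := hac.ab'
  have p_ap_b : QuadraticMap.polar (⇑Q) a' b = 0 := hab.a'b
  have p_ap_bp : QuadraticMap.polar (⇑Q) a' b' = 0 := hab.a'b'
  have p_ap_c : QuadraticMap.polar (⇑Q) a' c = 0 := hac.a'b
  have p_ap_cp : QuadraticMap.polar (⇑Q) a' c' = 0 := hac.a'b'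
  have p_b_a : QuadraticMap.polar (⇑Q) b a = 0 := by rw [QuadraticMap.polar_comm]; exact hab.ab
  have p_b_ap : QuadraticMap.polar (⇑Q) b a' = 0 := by rw [QuadraticMap.polar_comm]; exact hab.a'b
  have p_b_c : QuadraticMap.polar (⇑Q) b c = 0 := hbc.ab
  have p_b_cp : QuadraticMap.polar (⇑Q) b c' = 0 := hbc.ab'
  have p_bp_a : QuadraticMap.polar (⇑Q) b' a = 0 := by rw [QuadraticMap.polar_comm]; exact hab.ab'
  have p_bp_ap : QuadraticMap.polar (⇑Q) b' a' = 0 := by rw [QuadraticMap.polar_comm]; exact hab.a'b'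
  have p_bp_c : QuadraticMap.polar (⇑Q) b' c = 0 := hbc.a'b
  have p_bp_cp : QuadraticMap.polar (⇑Q) b' c' = 0 := hbc.a'b'
  have p_c_a : QuadraticMap.polar (⇑Q) c a = 0 := by rw [QuadraticMap.polar_comm]; exact hac.ab
  have p_c_ap : QuadraticMap.polar (⇑Q) c a' = 0 := by rw [QuadraticMap.polar_comm]; exact hac.a'b
  have p_c_b : QuadraticMap.polar (⇑Q) c b = 0 := by rw [QuadraticMap.polar_comm]; exact hbc.ab
  have p_c_bp : QuadraticMap.polar (⇑Q) c b' = 0 := by rw [QuadraticMap.polar_comm]; exact hbc.a'b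
  have p_cp_a : QuadraticMap.polar (⇑Q) c' a = 0 := by rw [QuadraticMap.polar_comm]; exact hac.ab'
  have p_cp_ap : QuadraticMap.polar (⇑Q) c' a' = 0 := by rw [QuadraticMap.polar_comm]; exact hac.a'b'
  have p_cp_b : QuadraticMap.polar (⇑Q) c' b = 0 := by rw [QuadraticMap.polar_comm]; exact hbc.ab'
  have p_cp_bp : QuadraticMap.polar (⇑Q) c' b' = 0 := by rw [QuadraticMap.polar_comm]; exact hbc.a'b'
  have hhbc_b : hh Q b b' c c' t b = t • b := hh_a hbc t ht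
  have hhbc_c : hh Q b b' c c' t c = t⁻¹ • c := hh_b hbc t ht
  have hhbc_bp : hh Q b b' c c' t b' = t⁻¹ • b' := hh_a' hbc t ht
  have hhbc_cp : hh Q b b' c c' t c' = t • c' := hh_b' hbc t ht
  have hhbc_a : hh Q b b' c c' t a = a := hh_perp hbc t a p_a_b p_a_bp p_a_c p_a_cp
  have hhbc_ap : hh Q b b' c c' t a' = a' := hh_perp hbc t a' p_ap_b p_ap_bp p_ap_c p_ap_cp
  have xrab_a : ∀ s : F, xr Q a b' s a = a := fun s => xr_a hab s
  have xrab_b : ∀ s : F, xr Q a b' s b = b - s • a := fun s => xr_b hab s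
  have xrab_ap : ∀ s : F, xr Q a b' s a' = a' + s • b' := fun s => xr_a' hab s
  have xrab_bp : ∀ s : F, xr Q a b' s b' = b' := fun s => xr_b' hab s
  have xrab_c : ∀ s : F, xr Q a b' s c = c := fun s => xr_perp hab.pa.qa hab.pb.qa' hab.ab' s c p_c_a p_c_bp
  have xrab_cp : ∀ s : F, xr Q a b' s c' = c' := fun s => xr_perp hab.pa.qa hab.pb.qa' hab.ab' s c' p_cp_a p_cp_bp
  apply ext6 hab hac hbc
  · simp only [LinearEquiv.mul_apply, hhbc_b, hhbc_c, hhbc_bp, hhbc_cp, hhbc_a, hhbc_ap, xrab_a, xrab_b, xrab_ap, xrab_bp, xrab_c, xrab_cp, map_smul, map_neg, map_sub, map_add, inv_one, one_smul]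
    try (match_scalars <;> field_simp)
  · simp only [LinearEquiv.mul_apply, hhbc_b, hhbc_c, hhbc_bp, hhbc_cp, hhbc_a, hhbc_ap, xrab_a, xrab_b, xrab_ap, xrab_bp, xrab_c, xrab_cp, map_smul, map_neg, map_sub, map_add, inv_one, one_smul]
    try (match_scalars <;> field_simp)
  · simp only [LinearEquiv.mul_apply, hhbc_b, hhbc_c, hhbc_bp, hhbc_cp, hhbc_a, hhbc_ap, xrab_a, xrab_b, xrab_ap, xrab_bp, xrab_c, xrab_cp, map_smul, map_neg, map_sub, map_add, inv_one, one_smul]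
    try (match_scalars <;> field_simp)
  · simp only [LinearEquiv.mul_apply, hhbc_b, hhbc_c, hhbc_bp, hhbc_cp, hhbc_a, hhbc_ap, xrab_a, xrab_b, xrab_ap, xrab_bp, xrab_c, xrab_cp, map_smul, map_neg, map_sub, map_add, inv_one, one_smul]
    try (match_scalars <;> field_simp)
  · simp only [LinearEquiv.mul_apply, hhbc_b, hhbc_c, hhbc_bp, hhbc_cp, hhbc_a, hhbc_ap, xrab_a, xrab_b, xrab_ap, xrab_bp, xrab_c, xrab_cp, map_smul, map_neg, map_sub, map_add, inv_one, one_smul]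
    try (match_scalars <;> field_simp)
  · simp only [LinearEquiv.mul_apply, hhbc_b, hhbc_c, hhbc_bp, hhbc_cp, hhbc_a, hhbc_ap, xrab_a, xrab_b, xrab_ap, xrab_bp, xrab_c, xrab_cp, map_smul, map_neg, map_sub, map_add, inv_one, one_smul]
    try (match_scalars <;> field_simp)
  · intro w hwa hwap hwb hwbp hwc hwcp
    have hhbc_w : hh Q b b' c c' t w = w := hh_perp hbc t w hwb hwbp hwc hwcp
    have xrab_w : ∀ s : F, xr Q a b' s w = w := fun s => xr_perp hab.pa.qa hab.pb.qa' hab.ab' s w hwa hwbp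
    simp only [LinearEquiv.mul_apply, hhbc_w, xrab_w]

theorem h12_x2 {a a' b b' c c' : V} (hab : HQuad Q a a' b b') (hac : HQuad Q a a' c c')
    (hbc : HQuad Q b b' c c') (t s : F) (ht : t ≠ 0) :
    hh Q a a' b b' t * xr Q b c' s = xr Q b c' (t⁻¹ * s) * hh Q a a' b b' t := by
  have p_a_b : QuadraticMap.polar (⇑Q) a b = 0 := hab.ab
  have p_a_bp : QuadraticMap.polar (⇑Q) a b' = 0 := hab.ab'
  have p_a_c : QuadraticMap.polar (⇑Q) a c = 0 := hac.ab
  have p_a_cp : QuadraticMap.polar (⇑Q) a c' = 0 := hac.ab'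
  have p_ap_b : QuadraticMap.polar (⇑Q) a' b = 0 := hab.a'b
  have p_ap_bp : QuadraticMap.polar (⇑Q) a' b' = 0 := hab.a'b'
  have p_ap_c : QuadraticMap.polar (⇑Q) a' c = 0 := hac.a'b
  have p_ap_cp : QuadraticMap.polar (⇑Q) a' c' = 0 := hac.a'b'
  have p_b_a : QuadraticMap.polar (⇑Q) b a = 0 := by rw [QuadraticMap.polar_comm]; exact hab.ab
  have p_b_ap : QuadraticMap.polar (⇑Q) b a' = 0 := by rw [QuadraticMap.polar_comm]; exact hab.a'b
  have p_b_c : QuadraticMap.polar (⇑Q) b c = 0 := hbc.ab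
  have p_b_cp : QuadraticMap.polar (⇑Q) b c' = 0 := hbc.ab'
  have p_bp_a : QuadraticMap.polar (⇑Q) b' a = 0 := by rw [QuadraticMap.polar_comm]; exact hab.ab'
  have p_bp_ap : QuadraticMap.polar (⇑Q) b' a' = 0 := by rw [QuadraticMap.polar_comm]; exact hab.a'b'
  have p_bp_c : QuadraticMap.polar (⇑Q) b' c = 0 := hbc.a'b
  have p_bp_cp : QuadraticMap.polar (⇑Q) b' c' = 0 := hbc.a'b'
  have p_c_a : QuadraticMap.polar (⇑Q) c a = 0 := by rw [QuadraticMap.polar_comm]; exact hac.ab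
  have p_c_ap : QuadraticMap.polar (⇑Q) c a' = 0 := by rw [QuadraticMap.polar_comm]; exact hac.a'b
  have p_c_b : QuadraticMap.polar (⇑Q) c b = 0 := by rw [QuadraticMap.polar_comm]; exact hbc.ab
  have p_c_bp : QuadraticMap.polar (⇑Q) c b' = 0 := by rw [QuadraticMap.polar_comm]; exact hbc.a'b
  have p_cp_a : QuadraticMap.polar (⇑Q) c' a = 0 := by rw [QuadraticMap.polar_comm]; exact hac.ab'
  have p_cp_ap : QuadraticMap.polar (⇑Q) c' a' = 0 := by rw [QuadraticMap.polar_comm]; exact hac.a'b'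
  have p_cp_b : QuadraticMap.polar (⇑Q) c' b = 0 := by rw [QuadraticMap.polar_comm]; exact hbc.ab'
  have p_cp_bp : QuadraticMap.polar (⇑Q) c' b' = 0 := by rw [QuadraticMap.polar_comm]; exact hbc.a'b'
  have hhab_a : hh Q a a' b b' t a = t • a := hh_a hab t ht
  have hhab_b : hh Q a a' b b' t b = t⁻¹ • b := hh_b hab t ht
  have hhab_ap : hh Q a a' b b' t a' = t⁻¹ • a' := hh_a' hab t ht
  have hhab_bp : hh Q a a' b b' t b' = t • b' := hh_b' hab t ht
  have hhab_c : hh Q a a' b b' t c = c := hh_perp hab t c p_c_a p_c_ap p_c_b p_c_bp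
  have hhab_cp : hh Q a a' b b' t c' = c' := hh_perp hab t c' p_cp_a p_cp_ap p_cp_b p_cp_bp
  have xrbc_b : ∀ s : F, xr Q b c' s b = b := fun s => xr_a hbc s
  have xrbc_c : ∀ s : F, xr Q b c' s c = c - s • b := fun s => xr_b hbc s
  have xrbc_bp : ∀ s : F, xr Q b c' s b' = b' + s • c' := fun s => xr_a' hbc s
  have xrbc_cp : ∀ s : F, xr Q b c' s c' = c' := fun s => xr_b' hbc s
  have xrbc_a : ∀ s : F, xr Q b c' s a = a := fun s => xr_perp hbc.pa.qa hbc.pb.qa' hbc.ab' s a p_a_b p_a_cp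
  have xrbc_ap : ∀ s : F, xr Q b c' s a' = a' := fun s => xr_perp hbc.pa.qa hbc.pb.qa' hbc.ab' s a' p_ap_b p_ap_cp
  apply ext6 hab hac hbc
  · simp only [LinearEquiv.mul_apply, hhab_a, hhab_b, hhab_ap, hhab_bp, hhab_c, hhab_cp, xrbc_b, xrbc_c, xrbc_bp, xrbc_cp, xrbc_a, xrbc_ap, map_smul, map_neg, map_sub, map_add, inv_one, one_smul]
    try (match_scalars <;> field_simp)
  · simp only [LinearEquiv.mul_apply, hhab_a, hhab_b, hhab_ap, hhab_bp, hhab_c, hhab_cp, xrbc_b, xrbc_c, xrbc_bp, xrbc_cp, xrbc_a, xrbc_ap, map_smul, map_neg, map_sub, map_add, inv_one, one_smul]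
    try (match_scalars <;> field_simp)
  · simp only [LinearEquiv.mul_apply, hhab_a, hhab_b, hhab_ap, hhab_bp, hhab_c, hhab_cp, xrbc_b, xrbc_c, xrbc_bp, xrbc_cp, xrbc_a, xrbc_ap, map_smul, map_neg, map_sub, map_add, inv_one, one_smul]
    try (match_scalars <;> field_simp)
  · simp only [LinearEquiv.mul_apply, hhab_a, hhab_b, hhab_ap, hhab_bp, hhab_c, hhab_cp, xrbc_b, xrbc_c, xrbc_bp, xrbc_cp, xrbc_a, xrbc_ap, map_smul, map_neg, map_sub, map_add, inv_one, one_smul]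
    try (match_scalars <;> field_simp)
  · simp only [LinearEquiv.mul_apply, hhab_a, hhab_b, hhab_ap, hhab_bp, hhab_c, hhab_cp, xrbc_b, xrbc_c, xrbc_bp, xrbc_cp, xrbc_a, xrbc_ap, map_smul, map_neg, map_sub, map_add, inv_one, one_smul]
    try (match_scalars <;> field_simp)
  · simp only [LinearEquiv.mul_apply, hhab_a, hhab_b, hhab_ap, hhab_bp, hhab_c, hhab_cp, xrbc_b, xrbc_c, xrbc_bp, xrbc_cp, xrbc_a, xrbc_ap, map_smul, map_neg, map_sub, map_add, inv_one, one_smul]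
    try (match_scalars <;> field_simp)
  · intro w hwa hwap hwb hwbp hwc hwcp
    have hhab_w : hh Q a a' b b' t w = w := hh_perp hab t w hwa hwap hwb hwbp
    have xrbc_w : ∀ s : F, xr Q b c' s w = w := fun s => xr_perp hbc.pa.qa hbc.pb.qa' hbc.ab' s w hwb hwcp
    simp only [LinearEquiv.mul_apply, hhab_w, xrbc_w]

theorem h13_x2 {a a' b b' c c' : V} (hab : HQuad Q a a' b b') (hac : HQuad Q a a' c c')
    (hbc : HQuad Q b b' c c') (t s : F) (ht : t ≠ 0) :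
    hh Q a a' c c' t * xr Q b c' s = xr Q b c' (t * s) * hh Q a a' c c' t := by
  have p_a_b : QuadraticMap.polar (⇑Q) a b = 0 := hab.ab
  have p_a_bp : QuadraticMap.polar (⇑Q) a b' = 0 := hab.ab'
  have p_a_c : QuadraticMap.polar (⇑Q) a c = 0 := hac.ab
  have p_a_cp : QuadraticMap.polar (⇑Q) a c' = 0 := hac.ab'
  have p_ap_b : QuadraticMap.polar (⇑Q) a' b = 0 := hab.a'b
  have p_ap_bp : QuadraticMap.polar (⇑Q) a' b' = 0 := hab.a'b'
  have p_ap_c : QuadraticMap.polar (⇑Q) a' c = 0 := hac.a'b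
  have p_ap_cp : QuadraticMap.polar (⇑Q) a' c' = 0 := hac.a'b'
  have p_b_a : QuadraticMap.polar (⇑Q) b a = 0 := by rw [QuadraticMap.polar_comm]; exact hab.ab
  have p_b_ap : QuadraticMap.polar (⇑Q) b a' = 0 := by rw [QuadraticMap.polar_comm]; exact hab.a'b
  have p_b_c : QuadraticMap.polar (⇑Q) b c = 0 := hbc.ab
  have p_b_cp : QuadraticMap.polar (⇑Q) b c' = 0 := hbc.ab'
  have p_bp_a : QuadraticMap.polar (⇑Q) b' a = 0 := by rw [QuadraticMap.polar_comm]; exact hab.ab'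
  have p_bp_ap : QuadraticMap.polar (⇑Q) b' a' = 0 := by rw [QuadraticMap.polar_comm]; exact hab.a'b'
  have p_bp_c : QuadraticMap.polar (⇑Q) b' c = 0 := hbc.a'b
  have p_bp_cp : QuadraticMap.polar (⇑Q) b' c' = 0 := hbc.a'b'
  have p_c_a : QuadraticMap.polar (⇑Q) c a = 0 := by rw [QuadraticMap.polar_comm]; exact hac.ab
  have p_c_ap : QuadraticMap.polar (⇑Q) c a' = 0 := by rw [QuadraticMap.polar_comm]; exact hac.a'b
  have p_c_b : QuadraticMap.polar (⇑Q) c b = 0 := by rw [QuadraticMap.polar_comm]; exact hbc.ab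
  have p_c_bp : QuadraticMap.polar (⇑Q) c b' = 0 := by rw [QuadraticMap.polar_comm]; exact hbc.a'b
  have p_cp_a : QuadraticMap.polar (⇑Q) c' a = 0 := by rw [QuadraticMap.polar_comm]; exact hac.ab'
  have p_cp_ap : QuadraticMap.polar (⇑Q) c' a' = 0 := by rw [QuadraticMap.polar_comm]; exact hac.a'b'
  have p_cp_b : QuadraticMap.polar (⇑Q) c' b = 0 := by rw [QuadraticMap.polar_comm]; exact hbc.ab'
  have p_cp_bp : QuadraticMap.polar (⇑Q) c' b' = 0 := by rw [QuadraticMap.polar_comm]; exact hbc.a'b'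
  have hhac_a : hh Q a a' c c' t a = t • a := hh_a hac t ht
  have hhac_c : hh Q a a' c c' t c = t⁻¹ • c := hh_b hac t ht
  have hhac_ap : hh Q a a' c c' t a' = t⁻¹ • a' := hh_a' hac t ht
  have hhac_cp : hh Q a a' c c' t c' = t • c' := hh_b' hac t ht
  have hhac_b : hh Q a a' c c' t b = b := hh_perp hac t b p_b_a p_b_ap p_b_c p_b_cp
  have hhac_bp : hh Q a a' c c' t b' = b' := hh_perp hac t b' p_bp_a p_bp_ap p_bp_c p_bp_cp
  have xrbc_b : ∀ s : F, xr Q b c' s b = b := fun s => xr_a hbc s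
  have xrbc_c : ∀ s : F, xr Q b c' s c = c - s • b := fun s => xr_b hbc s
  have xrbc_bp : ∀ s : F, xr Q b c' s b' = b' + s • c' := fun s => xr_a' hbc s
  have xrbc_cp : ∀ s : F, xr Q b c' s c' = c' := fun s => xr_b' hbc s
  have xrbc_a : ∀ s : F, xr Q b c' s a = a := fun s => xr_perp hbc.pa.qa hbc.pb.qa' hbc.ab' s a p_a_b p_a_cp
  have xrbc_ap : ∀ s : F, xr Q b c' s a' = a' := fun s => xr_perp hbc.pa.qa hbc.pb.qa' hbc.ab' s a' p_ap_b p_ap_cp
  apply ext6 hab hac hbc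
  · simp only [LinearEquiv.mul_apply, hhac_a, hhac_c, hhac_ap, hhac_cp, hhac_b, hhac_bp, xrbc_b, xrbc_c, xrbc_bp, xrbc_cp, xrbc_a, xrbc_ap, map_smul, map_neg, map_sub, map_add, inv_one, one_smul]
    try (match_scalars <;> field_simp)
  · simp only [LinearEquiv.mul_apply, hhac_a, hhac_c, hhac_ap, hhac_cp, hhac_b, hhac_bp, xrbc_b, xrbc_c, xrbc_bp, xrbc_cp, xrbc_a, xrbc_ap, map_smul, map_neg, map_sub, map_add, inv_one, one_smul]
    try (match_scalars <;> field_simp)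
  · simp only [LinearEquiv.mul_apply, hhac_a, hhac_c, hhac_ap, hhac_cp, hhac_b, hhac_bp, xrbc_b, xrbc_c, xrbc_bp, xrbc_cp, xrbc_a, xrbc_ap, map_smul, map_neg, map_sub, map_add, inv_one, one_smul]
    try (match_scalars <;> field_simp)
  · simp only [LinearEquiv.mul_apply, hhac_a, hhac_c, hhac_ap, hhac_cp, hhac_b, hhac_bp, xrbc_b, xrbc_c, xrbc_bp, xrbc_cp, xrbc_a, xrbc_ap, map_smul, map_neg, map_sub, map_add, inv_one, one_smul]
    try (match_scalars <;> field_simp)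
  · simp only [LinearEquiv.mul_apply, hhac_a, hhac_c, hhac_ap, hhac_cp, hhac_b, hhac_bp, xrbc_b, xrbc_c, xrbc_bp, xrbc_cp, xrbc_a, xrbc_ap, map_smul, map_neg, map_sub, map_add, inv_one, one_smul]
    try (match_scalars <;> field_simp)
  · simp only [LinearEquiv.mul_apply, hhac_a, hhac_c, hhac_ap, hhac_cp, hhac_b, hhac_bp, xrbc_b, xrbc_c, xrbc_bp, xrbc_cp, xrbc_a, xrbc_ap, map_smul, map_neg, map_sub, map_add, inv_one, one_smul]
    try (match_scalars <;> field_simp)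
  · intro w hwa hwap hwb hwbp hwc hwcp
    have hhac_w : hh Q a a' c c' t w = w := hh_perp hac t w hwa hwap hwc hwcp
    have xrbc_w : ∀ s : F, xr Q b c' s w = w := fun s => xr_perp hbc.pa.qa hbc.pb.qa' hbc.ab' s w hwb hwcp
    simp only [LinearEquiv.mul_apply, hhac_w, xrbc_w]

end Cfsg.Agent.Lib.Helper81_OO2_TORG
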