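/-
The number of `p`-elements of a finite group with a split (B, N)-pair of characteristic `p` is `|U| · St(1)`
(Steinberg), by Möbius inversion over the standard parabolic subgroups.
-/
import Mathlib
import Cfsg.Prelude.Def_ParabolicCharacters
import Cfsg.Agent.Lib.Helper81_BNSub
import Cfsg.Agent.Lib.Helper81_BNBorel
import Cfsg.Agent.Lib.Helper79_PC_MOEB
import Cfsg.Agent.Lib.Helper30_PC_DC
import Cfsg.Agent.Lib.Helper57_PC_STSUM

set_option autoImplicit false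
set_option linter.unusedSectionVars false
set_option linter.unusedVariables false

namespace Cfsg.Agent.Lib.Helper81_PCountMain

open Cfsg DoubleCoset Cfsg.Agent.Lib.Helper6_Word Cfsg.Agent.Lib.Helper6_BNPair
  Cfsg.Agent.Lib.Helper81_CoxComb Cfsg.Agent.Lib.Helper81_CoxPoincare
  Cfsg.Agent.Lib.Helper81_BNSteinberg Cfsg.Agent.Lib.Helper81_BNIndex
  Cfsg.Agent.Lib.Helper81_BNBorel Cfsg.Agent.Lib.Helper81_BNSub Cfsg.Agent.Lib.Helper81_PCount

variable {G : Type*} [Group G]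

theorem parabolic_S_eq_top (P : BNPair G) : P.parabolic P.S = ⊤ := by
  rw [eq_top_iff, ← P.sup_eq_top]
  apply sup_le (B_le_parabolic P P.S)
  rw [← P.closure_sup]
  exact sup_le (closure_le_parabolic P P.S) (inf_le_left.trans (B_le_parabolic P P.S))

theorem orderOf_conj' {L : Type*} [Group L] (x g : L) : orderOf (x * g * x⁻¹) = orderOf g :=
  (SemiconjBy.orderOf_eq x (show SemiconjBy x g (x * g * x⁻¹) by unfold SemiconjBy; group)).symm

/-- the `p`-elements of a subgroup `H ≤ L`, counted in `L` or in `G` -/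
theorem card_pElements_subgroupOf (p : ℕ) (H L : Subgroup G) (hHL : H ≤ L) :
    Nat.card {g : L // g ∈ H.subgroupOf L ∧ ∃ k : ℕ, orderOf g = p ^ k} =
      Nat.card {g : G // g ∈ H ∧ ∃ k : ℕ, orderOf g = p ^ k} := by
  apply Nat.card_congr
  exact
    { toFun := fun g => ⟨(g.1 : G), Subgroup.mem_subgroupOf.1 g.2.1, by
        obtain ⟨k, hk⟩ := g.2.2
        exact ⟨k, by rw [Subgroup.orderOf_coe]; exact hk⟩⟩
      invFun := fun g => ⟨⟨g.1, hHL g.2.1⟩, Subgroup.mem_subgroupOf.2 g.2.1, by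
        obtain ⟨k, hk⟩ := g.2.2
        refine ⟨k, ?_⟩
        rw [← Subgroup.orderOf_coe]
        exact hk⟩
      left_inv := fun g => rfl
      right_inv := fun g => rfl }

theorem index_subgroupOf_mul_card [Finite G] (H L : Subgroup G) (hHL : H ≤ L) :
    ((H.subgroupOf L).index : ℂ) * (Nat.card H : ℂ) = (Nat.card L : ℂ) := by
  have h1 := (H.subgroupOf L).card_mul_index
  rw [Nat.card_congr (Subgroup.subgroupOfEquivOfLe hHL).toEquiv] at h1
  rw [mul_comm]
  exact_mod_cast h1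

section main

variable [Fintype G] (P : BNPair G) (p : ℕ) [Fact p.Prime]
  {ι : Type*} [DecidableEq ι] (s : ι → G)

/-- the identity `|U| = Σ_{K ⊆ J} (-1)^|K| [P_J : P_K] a_K` -/
theorem key_identity (I : Finset ι) (hs : s '' (I : Set ι) = P.S)
    (U : Sylow p G) (hUB : (U : Subgroup G) ≤ P.B)
    (hBU : ∀ b ∈ P.B, ∃ u ∈ (U : Subgroup G), ∃ t ∈ P.B ⊓ P.N, b = u * t)
    (K : Finset ι → Subgroup G) (hKU : ∀ J ⊆ I, K J ≤ U)
    (hKn : ∀ J ⊆ I, ∀ g ∈ P.parabolic (s '' (J : Set ι)), ∀ k ∈ K J, g * k * g⁻¹ ∈ K J)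
    (hK : ∀ J ⊆ I, ∀ n : P.N, (n : G) ∈ P.parabolic (s '' (J : Set ι)) →
        (∀ σ : P.N, (σ : G) ∈ s '' (J : Set ι) → ℓ P (σ * n) < ℓ P n) →
        ∀ u ∈ (U : Subgroup G), (u ∈ K J ↔ (n : G)⁻¹ * u * n ∈ P.B))
    (J : Finset ι) (hJ : J ⊆ I) :
    (Nat.card (U : Subgroup G) : ℂ) / (Nat.card (P.parabolic (s '' (J : Set ι))) : ℂ) =
      ∑ K' ∈ J.powerset, (-1 : ℂ) ^ K'.card *
        ((Nat.card {g : G // g ∈ P.parabolic (s '' (K' : Set ι)) ∧ ∃ k : ℕ, orderOf g = p ^ k} : ℂ) /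
          (Nat.card (P.parabolic (s '' (K' : Set ι))) : ℂ)) := by
  classical
  have hsub : s '' (J : Set ι) ⊆ P.S := image_subset_S P I s hs hJ
  have : Fintype ↥(P.parabolic (s '' (J : Set ι))) := Fintype.ofFinite _
  have h1 := sum_St_subPair P p s J hsub U hUB hBU (K J) (hKU J hJ) (hKn J hJ) (hK J hJ)
  unfold St at h1
  rw [Finset.sum_comm] at h1
  have hcJ : (Nat.card (P.parabolic (s '' (J : Set ι))) : ℂ) ≠ 0 := by
    exact_mod_cast (Nat.card_pos (α := ↥(P.parabolic (s '' (J : Set ι))))).ne'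
  rw [← h1, Finset.sum_div]
  apply Finset.sum_congr rfl
  intro K' hK'
  rw [Finset.mem_powerset] at hK'
  have hmono : P.parabolic (s '' (K' : Set ι)) ≤ P.parabolic (s '' (J : Set ι)) :=
    parabolic_mono P (Set.image_mono (by exact_mod_cast hK'))
  have hpar : (subPair P (s '' (J : Set ι)) hsub).parabolic (sSub P s J '' (K' : Set ι)) =
      (P.parabolic (s '' (K' : Set ι))).subgroupOf (P.parabolic (s '' (J : Set ι))) := by
    rw [sSub_image_sub P s J hK']
    exact subPair_parabolic P hsub (Set.image_mono (by exact_mod_cast hK'))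
  rw [← Finset.mul_sum, hpar]
  have h2 := sum_fpc ((P.parabolic (s '' (K' : Set ι))).subgroupOf (P.parabolic (s '' (J : Set ι))))
    (fun g : ↥(P.parabolic (s '' (J : Set ι))) => ∃ k : ℕ, orderOf g = p ^ k) (by
      rintro g ⟨k, hk⟩ x
      exact ⟨k, by rw [← hk]; exact orderOf_conj' x g⟩)
  rw [h2, card_pElements_subgroupOf p _ _ hmono]
  have hcK : (Nat.card (P.parabolic (s '' (K' : Set ι))) : ℂ) ≠ 0 := by
    exact_mod_cast (Nat.card_pos (α := ↥(P.parabolic (s '' (K' : Set ι))))).ne'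
  have h3 := index_subgroupOf_mul_card _ _ hmono
  rw [← eq_div_iff hcK] at h3
  rw [h3]
  field_simp

end main

end Cfsg.Agent.Lib.Helper81_PCountMain

namespace Cfsg.Agent.Lib.Helper81_PCount

open Cfsg DoubleCoset Cfsg.Agent.Lib.Helper6_Word Cfsg.Agent.Lib.Helper6_BNPair
  Cfsg.Agent.Lib.Helper81_CoxComb Cfsg.Agent.Lib.Helper81_CoxPoincare
  Cfsg.Agent.Lib.Helper81_BNSteinberg Cfsg.Agent.Lib.Helper81_BNIndex
  Cfsg.Agent.Lib.Helper81_BNBorel Cfsg.Agent.Lib.Helper81_BNSub Cfsg.Agent.Lib.Helper81_PCountMain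

variable {G : Type*} [Group G] [Fintype G] (P : BNPair G) (p : ℕ) [Fact p.Prime]
  {ι : Type*} [DecidableEq ι] (s : ι → G)

/-- the number of `p`-elements of a finite group with a split (B, N)-pair of characteristic `p` -/
theorem card_pElements (I : Finset ι) (hs : s '' (I : Set ι) = P.S)
    (U : Sylow p G) (hUB : (U : Subgroup G) ≤ P.B)
    (hBU : ∀ b ∈ P.B, ∃ u ∈ (U : Subgroup G), ∃ t ∈ P.B ⊓ P.N, b = u * t)
    (K : Finset ι → Subgroup G) (hKU : ∀ J ⊆ I, K J ≤ U)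
    (hKn : ∀ J ⊆ I, ∀ g ∈ P.parabolic (s '' (J : Set ι)), ∀ k ∈ K J, g * k * g⁻¹ ∈ K J)
    (hK : ∀ J ⊆ I, ∀ n : P.N, (n : G) ∈ P.parabolic (s '' (J : Set ι)) →
        (∀ σ : P.N, (σ : G) ∈ s '' (J : Set ι) → ℓ P (σ * n) < ℓ P n) →
        ∀ u ∈ (U : Subgroup G), (u ∈ K J ↔ (n : G)⁻¹ * u * n ∈ P.B)) :
    (Nat.card {g : G // ∃ k : ℕ, orderOf g = p ^ k} : ℂ) =
      (Nat.card (U : Subgroup G) : ℂ) * St P I s 1 := by
  classical
  have hm := moebius_signed I
    (fun J => (Nat.card {g : G // g ∈ P.parabolic (s '' (J : Set ι)) ∧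
      ∃ k : ℕ, orderOf g = p ^ k} : ℂ) / (Nat.card (P.parabolic (s '' (J : Set ι))) : ℂ))
    (fun J => (Nat.card (U : Subgroup G) : ℂ) / (Nat.card (P.parabolic (s '' (J : Set ι))) : ℂ))
    (fun J hJ => key_identity P p s I hs U hUB hBU K hKU hKn hK J hJ) I (Finset.Subset.refl I)
  beta_reduce at hm
  have htop : P.parabolic (s '' (I : Set ι)) = ⊤ := by rw [hs]; exact parabolic_S_eq_top P
  have hcG : (Nat.card G : ℂ) ≠ 0 := by exact_mod_cast (Nat.card_pos (α := G)).ne'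
  have hcI : (Nat.card (P.parabolic (s '' (I : Set ι))) : ℂ) = (Nat.card G : ℂ) := by
    rw [htop, Nat.card_congr (Subgroup.topEquiv (G := G)).toEquiv]
  have haI : Nat.card {g : G // g ∈ P.parabolic (s '' (I : Set ι)) ∧ ∃ k : ℕ, orderOf g = p ^ k} =
      Nat.card {g : G // ∃ k : ℕ, orderOf g = p ^ k} := by
    apply Nat.card_congr
    apply Equiv.subtypeEquivRight
    intro g
    rw [htop]
    exact ⟨fun h => h.2, fun h => ⟨Subgroup.mem_top g, h⟩⟩
  rw [haI, hcI, div_eq_iff hcG] at hm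
  rw [hm]
  unfold St
  rw [Finset.sum_mul, Finset.mul_sum]
  apply Finset.sum_congr rfl
  intro K' hK'
  rw [fpc_one]
  have h1 := (P.parabolic (s '' (K' : Set ι))).card_mul_index
  have hcK : (Nat.card (P.parabolic (s '' (K' : Set ι))) : ℂ) ≠ 0 := by
    exact_mod_cast (Nat.card_pos (α := ↥(P.parabolic (s '' (K' : Set ι))))).ne'
  have h2 : (Nat.card G : ℂ) = (Nat.card (P.parabolic (s '' (K' : Set ι))) : ℂ) *
      ((P.parabolic (s '' (K' : Set ι))).index : ℂ) := by exact_mod_cast h1.symm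
  rw [h2]
  field_simp

end Cfsg.Agent.Lib.Helper81_PCount
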