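import Mathlib
import Cfsg.Prelude.Def_Characters
import Cfsg.Agent.Lib.Helper74_FS4

/-!
# Real constituents of multiplicity one (helper81)

If an irreducible representation `ρ` with real-valued character has a one-dimensional space of
fixed vectors for some subgroup `H`, then its Frobenius–Schur indicator is `1`
(an invariant alternating form cannot exist).
-/

set_option autoImplicit false

namespace Cfsg.Agent.Lib.Helper81_RealConstituent

open scoped ComplexConjugate Matrix
open Cfsg.Agent.Lib.Helper74_FS

variable {G : Type*} [Group G] [Fintype G]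

theorem fsInd_eq_one_of_invariant_line {n : ℕ} (ρ : Representation ℂ G (Fin n → ℂ))
    [ρ.IsIrreducible] (hreal : ∀ g : G, (ρ.character g).im = 0) (H : Subgroup G)
    (hH : Module.finrank ℂ (Representation.invariants (ρ.comp H.subtype)) = 1) :
    fsInd ρ.character = 1 := by
  classical
  obtain ⟨M, hM0, hM⟩ := exists_invariant_form_ne_zero ρ hreal
  rcases fsInd_trichotomy ρ with ⟨-, hbot⟩ | ⟨-, h1 | hm1⟩
  · exfalso
    rw [hbot, Submodule.mem_bot] at hM
    exact hM0 hM
  · exact h1
  exfalso
  have hMt : Mᵀ = -M := by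
    rw [transpose_eq_fsInd_smul ρ hreal M hM, hm1, neg_one_smul]
  have hu := isUnit_of_invariant ρ M hM hM0
  have hMinv := (mem_invariants_formRep ρ M).mp hM
  obtain ⟨⟨u, hu_inv⟩, hu_ne, hspan⟩ := finrank_eq_one_iff'.mp hH
  have hu_ne' : u ≠ 0 := fun h => hu_ne (Subtype.ext h)
  have hu_fix : ∀ h : H, ρ (h : G) u = u := fun h => hu_inv h
  -- the bilinear form
  set B : (Fin n → ℂ) → (Fin n → ℂ) → ℂ := fun x y => x ⬝ᵥ (M *ᵥ y) with hB
  have hBinv : ∀ (g : G) (x y : Fin n → ℂ), B (ρ g x) (ρ g y) = B x y := by
    intro g x y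
    have e : ∀ v, ρ g v = mat ρ g *ᵥ v := by
      intro v
      rw [rho_eq_toLin' ρ g, Matrix.toLin'_apply]
    simp only [hB, e]
    rw [Matrix.mulVec_mulVec, ← Matrix.vecMul_transpose, ← Matrix.dotProduct_mulVec,
      Matrix.mulVec_mulVec, ← Matrix.mul_assoc, hMinv g]
  have hBuu : B u u = 0 := by
    have h1 : B u u = -B u u := by
      simp only [hB]
      conv_lhs => rw [Matrix.dotProduct_mulVec, ← Matrix.mulVec_transpose, hMt, Matrix.neg_mulVec,
        neg_dotProduct, dotProduct_comm]
    have h2 : (2 : ℂ) * B u u = 0 := by linear_combination h1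
    rcases mul_eq_zero.mp h2 with h | h
    · norm_num at h
    · exact h
  have hBadd : ∀ x y z, B x (y + z) = B x y + B x z := by
    intro x y z
    simp only [hB, Matrix.mulVec_add, dotProduct_add]
  have hBsmul : ∀ (c : ℂ) x y, B x (c • y) = c * B x y := by
    intro c x y
    simp only [hB, Matrix.mulVec_smul, dotProduct_smul, smul_eq_mul]
  have hBsum : ∀ (s : Finset H) (f : H → (Fin n → ℂ)) x, B x (∑ h ∈ s, f h) = ∑ h ∈ s, B x (f h) := by
    intro s f x
    induction s using Finset.induction_on with
    | empty => simp [hB]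
    | insert a s ha ih => rw [Finset.sum_insert ha, Finset.sum_insert ha, hBadd, ih]
  have hBu : ∀ w, B u w = 0 := by
    intro w
    have : Invertible (Fintype.card H : ℂ) :=
      invertibleOfNonzero (Nat.cast_ne_zero.mpr Fintype.card_ne_zero)
    have hcard : (Fintype.card H : ℂ) ≠ 0 := Nat.cast_ne_zero.mpr Fintype.card_ne_zero
    set σ : Representation ℂ H (Fin n → ℂ) := ρ.comp H.subtype with hσ
    have hQ : σ.averageMap = (Fintype.card H : ℂ)⁻¹ • ∑ h : H, σ h := by
      simp [Representation.averageMap, GroupAlgebra.average, map_sum]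
    have hmem := σ.averageMap_invariant w
    obtain ⟨c, hc⟩ := hspan ⟨σ.averageMap w, hmem⟩
    have hc' : σ.averageMap w = c • u := by
      have := congrArg Subtype.val hc
      simpa using this.symm
    have h1 : B u (σ.averageMap w) = 0 := by
      rw [hc', hBsmul, hBuu, mul_zero]
    have h2 : B u (σ.averageMap w) = B u w := by
      rw [hQ, LinearMap.smul_apply, LinearMap.sum_apply, hBsmul, hBsum]
      have h3 : ∀ h : H, B u (σ h w) = B u w := by
        intro h
        have h4 := hBinv (h : G) u w
        rw [hu_fix h] at h4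
        exact h4
      simp only [h3, Finset.sum_const, Finset.card_univ, nsmul_eq_mul]
      rw [← mul_assoc, inv_mul_cancel₀ hcard, one_mul]
    rw [← h2, h1]
  -- nondegeneracy
  have h5 : Mᵀ *ᵥ u = 0 := by
    funext i
    have := hBu (Pi.single i 1)
    simp only [hB] at this
    rw [Matrix.dotProduct_mulVec, dotProduct_single, mul_one] at this
    rw [Matrix.mulVec_transpose]
    exact this
  have hut : IsUnit Mᵀ := by
    rw [Matrix.isUnit_iff_isUnit_det, Matrix.det_transpose, ← Matrix.isUnit_iff_isUnit_det]
    exact hu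
  have h6 := (Matrix.mulVec_injective_iff_isUnit.mpr hut) (h5.trans (Matrix.mulVec_zero _).symm)
  exact hu_ne' h6

end Cfsg.Agent.Lib.Helper81_RealConstituent
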