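/-
Universal central extension (helper81), small fields, part 2: type F4 over a field with an element `v ≠ 0`, `v² ≠ 1`
(at least four elements): all pairs of roots `s ≠ ±r` are separated by a toral element of a root orthogonal to `s`, and
every root element is a commutator of root elements commuting with it; hence every central extension of the group
presented by (R1), (R2) of type F4 splits.
-/
import Mathlib
import Cfsg.Agent.Lib.Helper81_S2400_F4

set_option autoImplicit false
set_option linter.unusedSectionVars false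
set_option linter.unusedVariables false
set_option maxRecDepth 1000000

namespace Cfsg.Agent.Lib.Helper81_S2103_F4

open Cfsg Cfsg.Lie Cfsg.Agent.Lib.Helper18_ChevN Cfsg.Agent.Lib.Helper18_ChevGL
  Cfsg.Agent.Lib.Helper81_StAbs Cfsg.Agent.Lib.Helper81_StL37 Cfsg.Agent.Lib.Helper81_StMain
  Cfsg.Agent.Lib.Helper81_UceA Cfsg.Agent.Lib.Helper81_UceC Cfsg.Agent.Lib.Helper81_UceE
  Cfsg.Agent.Lib.Helper81_UceF Cfsg.Agent.Lib.Helper81_UceG Cfsg.Agent.Lib.Helper81_UceMain
  Cfsg.Agent.Lib.Helper81_S2400_F4

variable {Ns : List NData} {F : Type*} [Field F] {Γ : Type*} [Group Γ]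
variable {wl : List ℤ} {ws : List (List ℤ)} {sc : ℤ} {bs : List BData}
variable {E : Type*} [Group E] {ψ : E →* Γ}

theorem sepCert_F4 : sepCertOK chevF4 = true := by decide +kernel

theorem selfC_F4 : (List.range chevF4.nroots).all (selfCOK chevF4) = true := by decide +kernel

theorem hself_F4 {X : ℕ → F → Γ} {π : Γ →* GL chevF4.Idx F} (C : Ctx chevF4 Ns wl ws sc bs X π) (hψ : CExt ψ)
    {v : F} (hv0 : v ≠ 0) (hv2 : v ^ 2 ≠ 1) :
    ∀ r < chevF4.nroots, ∀ t : F, LiftComm ψ X (X r t) r := by
  intro r hr t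
  have h := selfC_F4
  rw [List.all_eq_true] at h
  exact liftComm_self_C C hψ (sep_all_of_cert C hv0 hv2 sepCert_F4) hr
    (selfC_of_ok (h r (List.mem_range.mpr hr))) t

/-- Type F4, at least four elements. -/
theorem exists_section_F4 {v : F} (hv0 : v ≠ 0) (hv2 : v ^ 2 ≠ 1) {E : Type*} [Group E]
    (ψ : E →* chevF4.SteinbergCover F) (hψ : CExt ψ) :
    ∃ s : chevF4.SteinbergCover F →* E, ψ.comp s = MonoidHom.id _ :=
  exists_section_of chevF4 (by simp) sepCert_F4 hv0 hv2 ψ hψ (fun C => hself_F4 C hψ hv0 hv2)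

end Cfsg.Agent.Lib.Helper81_S2103_F4
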