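/-
Steinberg's presentation (helper81): the centre of the group presented by (R1), (R2), (R3) is the group of the torus
elements `∏ h̄_{p_i}(t_i)` whose character is trivial; with a model separating the torus parameters it is isomorphic
to the kernel of the Cartan matrix on `(Fˣ)^rank`.
-/
import Mathlib
import Cfsg.Agent.Lib.Helper81_StSub
import Cfsg.Agent.Lib.Helper81_StUniB
import Cfsg.Agent.Lib.Helper18_ChevAutH
import Cfsg.Agent.Lib.Helper18_TorusKer

set_option autoImplicit false
set_option linter.unusedSectionVars false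
set_option linter.unusedVariables false

namespace Cfsg.Agent.Lib.Helper81_StCenter

open Cfsg Cfsg.Lie Cfsg.Agent.Lib.Helper18_ChevFast Cfsg.Agent.Lib.Helper18_ChevEngine
  Cfsg.Agent.Lib.Helper18_ChevR1 Cfsg.Agent.Lib.Helper18_ChevN Cfsg.Agent.Lib.Helper18_ChevR4
  Cfsg.Agent.Lib.Helper18_ChevSimple Cfsg.Agent.Lib.Helper18_ChevSimple2 Cfsg.Agent.Lib.Helper18_ChevFacts
  Cfsg.Agent.Lib.Helper18_ChevWeyl Cfsg.Agent.Lib.Helper18_ChevDiag Cfsg.Agent.Lib.Helper18_ChevCar
  Cfsg.Agent.Lib.Helper18_ChevTorus Cfsg.Agent.Lib.Helper18_ChevGL Cfsg.Agent.Lib.Helper18_ChevComm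
  Cfsg.Agent.Lib.Helper18_ChevComm2 Cfsg.Agent.Lib.Helper18_MatTri Cfsg.Agent.Lib.Helper18_ChevTri
  Cfsg.Agent.Lib.Helper18_ChevBorel Cfsg.Agent.Lib.Helper18_ChevAdd Cfsg.Agent.Lib.Helper18_ChevUni
  Cfsg.Agent.Lib.Helper18_ChevBN Cfsg.Agent.Lib.Helper18_ChevMono Cfsg.Agent.Lib.Helper18_ChevBNPair
  Cfsg.Agent.Lib.Helper18_ChevLevi
  Cfsg.Agent.Lib.Helper81_StUniq Cfsg.Agent.Lib.Helper81_StAbs Cfsg.Agent.Lib.Helper81_StL37
  Cfsg.Agent.Lib.Helper81_StBruhat Cfsg.Agent.Lib.Helper81_StMain Cfsg.Agent.Lib.Helper81_StTorus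
  Cfsg.Agent.Lib.Helper81_StMainB Cfsg.Agent.Lib.Helper81_StUni Cfsg.Agent.Lib.Helper81_StUniB
  Cfsg.Agent.Lib.Helper81_StSub
  Cfsg.Agent.Lib.Helper18_ChevAutG Cfsg.Agent.Lib.Helper18_ChevAutH Cfsg.Agent.Lib.Helper18_TorusKer

variable {D : ChevalleyDatum} {Ns : List NData} {F : Type*} [Field F]

/-- A torus character that is trivial on the fundamental roots is trivial. -/
theorem torusChar_eq_one_of_simple (c : DCert D Ns) (t : ℕ → F) (ht : ∀ i, t i ≠ 0)
    (h : ∀ i < D.rank, torusChar D t (D.simple i) = 1) : ∀ s < D.nroots, torusChar D t s = 1 := by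
  apply c.root_induction
  · exact h
  · intro i hi s hs hone
    have fr := facts c.rows (c.ncert i hi) s hs
    have e : torusChar D t s = torusChar D t (D.reflectRoot i s) *
        (torusChar D t (D.simple i)) ^ (-(D.cartan i (D.reflectRoot i s))) := by
      unfold torusChar
      rw [← Finset.prod_zpow, ← Finset.prod_mul_distrib]
      apply Finset.prod_congr rfl
      intro j hj
      rw [fr.car j (Finset.mem_range.mp hj), sub_eq_add_neg, zpow_add₀ (ht j), ← zpow_mul, mul_neg]
    rw [h i hi, one_zpow, mul_one] at e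
    rw [← e]
    exact hone

theorem torusMat_eq_one_of_char (t : ℕ → F) (h : ∀ s < D.nroots, torusChar D t s = 1) : torusMat D t = 1 := by
  unfold torusMat
  rw [← diagMat_one (D := D) (F := F)]
  apply diagMat_congr
  intro s hs
  exact h s hs

theorem tor_congr {Γ : Type*} [Group Γ] (X : ℕ → F → Γ) (t t' : ℕ → F) (h : ∀ i < D.rank, t i = t' i) :
    tor D X t = tor D X t' := by
  unfold tor torL
  congr 1
  apply List.map_congr_left
  intro i hi
  rw [h i (List.mem_range.mp hi)]

/-- The centre of the group presented by (R1), (R2), (R3) has the order of the kernel of the Cartan matrix on the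
torus of characters, if a model separates the torus parameters. -/
theorem card_center_eq (D : ChevalleyDatum) (hD : D ∈ [chevG2, chevB2, chevD4, chevF4, chevE6, chevE7, chevE8])
    {D₂ : ChevalleyDatum} {Ns₂ : List NData} {ι : ℕ → ℕ} {M : List (List ℤ)} (c₂ : DCert D₂ Ns₂) (tc₂ : TCert D₂)
    (hR2₂ : R2All D₂ F) (sc : SubCert D D₂ ι) (hM : MCert D D₂ M) :
    Nat.card (Subgroup.center (D.SteinbergGroup F)) = Nat.card (cartanHom D F).ker := by
  obtain ⟨Ns, w, d, Ts, hT, K, base, stepT, wl, ws, sc', c, tc, gc, pc, ac⟩ :=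
    Cfsg.Agent.Lib.Helper18_ChevData5.exists_cert5 D hD
  obtain ⟨hA, bs, hB⟩ := Cfsg.Agent.Lib.Helper81_StCerts.exists_certAB D hD
  obtain ⟨θ, -, hker, hθ⟩ := exists_hom_ker_eq_center (F := F) D hD
  have hX := stGrp_pGen (D := D) (F := F) (rels := D.steinbergRels F) relsAB_subset
  set π : D.SteinbergGroup F →* GL D.Idx F := (D.group F).subtype.comp θ with hπdef
  have hπ : IsLift c (pGen D (D.steinbergRels F)) π := by
    intro r hr t
    apply Units.ext
    rw [xGL_coe]
    exact hθ r t hr
  have h3 := r3_pGen (F := F) D c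
  have hmemker : ∀ g : D.SteinbergGroup F, g ∈ θ.ker ↔ π g = 1 := by
    intro g
    rw [MonoidHom.mem_ker]
    constructor
    · intro h
      show ((θ g : ↥(D.group F)) : GL D.Idx F) = 1
      rw [h]
      rfl
    · intro h
      apply Subtype.ext
      exact h
  -- the torus elements with trivial character are in the centre
  have hmem : ∀ t : ℕ → F, (∀ i, t i ≠ 0) → (∀ i < D.rank, torusChar D t (D.simple i) = 1) →
      tor D (pGen D (D.steinbergRels F)) t ∈ Subgroup.center (D.SteinbergGroup F) := by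
    intro t ht hchar
    rw [← hker, hmemker]
    apply Units.ext
    rw [map_tor c tc hπ t ht, Units.val_one]
    exact torusMat_eq_one_of_char t (torusChar_eq_one_of_simple c t ht hchar)
  have hcharτ : ∀ τ : (cartanHom D F).ker, ∀ i < D.rank,
      torusChar D (extT D (τ : Fin D.rank → Fˣ)) (D.simple i) = 1 := by
    intro τ i hi
    have h1 := cartanHom_coe (D := D) (F := F) (τ : Fin D.rank → Fˣ) ⟨i, hi⟩
    have h2 : cartanHom D F (τ : Fin D.rank → Fˣ) = 1 := τ.2
    rw [h2] at h1
    rw [← h1]
    rfl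
  let f : (cartanHom D F).ker → Subgroup.center (D.SteinbergGroup F) := fun τ =>
    ⟨tor D (pGen D (D.steinbergRels F)) (extT D (τ : Fin D.rank → Fˣ)),
      hmem _ (extT_ne_zero _) (hcharτ τ)⟩
  have hf : Function.Bijective f := by
    constructor
    · intro τ τ' h
      have h1 : tor D (pGen D (D.steinbergRels F)) (extT D (τ : Fin D.rank → Fˣ)) =
          tor D (pGen D (D.steinbergRels F)) (extT D (τ' : Fin D.rank → Fˣ)) := congrArg Subtype.val h
      apply Subtype.ext
      funext i
      apply Units.ext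
      have := tor_injective c₂ tc₂ hR2₂ sc hM _ _ (extT_ne_zero _) (extT_ne_zero _) h1 i i.isLt
      rw [extT_lt _ i i.isLt, extT_lt _ i i.isLt] at this
      exact this
    · intro z
      have hz : (z : D.SteinbergGroup F) ∈ θ.ker := by rw [hker]; exact z.2
      have hz1 := (hmemker _).mp hz
      have hzH := ker_le_HB c tc ac gc hA hB hX hπ gen_pGen _ hz1
      obtain ⟨t, ht, hzt⟩ := exists_tor c tc ac hA hB hX hπ h3 _ hzH
      have h1 := map_tor c tc hπ t ht
      rw [← hzt, hz1, Units.val_one] at h1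
      have hchar : ∀ s < D.nroots, torusChar D t s = 1 := by
        intro s hs
        have := congrFun (congrFun h1 (Sum.inr ⟨s, hs⟩)) (Sum.inr ⟨s, hs⟩)
        unfold torusMat diagMat at this
        rw [Matrix.one_apply_eq, Matrix.diagonal_apply_eq] at this
        exact this.symm
      let τ : Fin D.rank → Fˣ := fun i => Units.mk0 (t i) (ht i)
      have hτt : ∀ i < D.rank, extT D τ i = t i := by
        intro i hi
        rw [extT_lt _ i hi]
        rfl
      have hτker : τ ∈ (cartanHom D F).ker := by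
        rw [MonoidHom.mem_ker]
        funext j
        apply Units.ext
        rw [cartanHom_coe]
        have e : torusChar D (extT D τ) (D.simple j) = torusChar D t (D.simple j) := by
          unfold torusChar
          apply Finset.prod_congr rfl
          intro i hi
          rw [hτt i (Finset.mem_range.mp hi)]
        rw [e, hchar _ (c.ncert j j.isLt).simple_lt]
        rfl
      refine ⟨⟨τ, hτker⟩, ?_⟩
      apply Subtype.ext
      show tor D (pGen D (D.steinbergRels F)) (extT D τ) = z
      rw [hzt]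
      exact tor_congr _ _ _ hτt
  exact (Nat.card_congr (Equiv.ofBijective f hf)).symm

end Cfsg.Agent.Lib.Helper81_StCenter
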