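/-
Steinberg's presentation (helper81): over a finite field the group presented by (R1), (R2), (R3) (types G2, B2, D4,
F4, E6, E7, E8) is finite: it maps onto the Chevalley group with kernel the centre, and the centre consists of torus
elements `∏ h̄_{p_i}(t_i)`.
-/
import Mathlib
import Cfsg.Agent.Lib.Helper81_StCenter

set_option autoImplicit false
set_option linter.unusedSectionVars false
set_option linter.unusedVariables false

namespace Cfsg.Agent.Lib.Helper81_StFinite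

open Cfsg Cfsg.Lie Cfsg.Agent.Lib.Helper18_ChevFast Cfsg.Agent.Lib.Helper18_ChevEngine
  Cfsg.Agent.Lib.Helper18_ChevR1 Cfsg.Agent.Lib.Helper18_ChevN Cfsg.Agent.Lib.Helper18_ChevR4
  Cfsg.Agent.Lib.Helper18_ChevSimple Cfsg.Agent.Lib.Helper18_ChevSimple2 Cfsg.Agent.Lib.Helper18_ChevFacts
  Cfsg.Agent.Lib.Helper18_ChevWeyl Cfsg.Agent.Lib.Helper18_ChevDiag Cfsg.Agent.Lib.Helper18_ChevCar
  Cfsg.Agent.Lib.Helper18_ChevTorus Cfsg.Agent.Lib.Helper18_ChevGL Cfsg.Agent.Lib.Helper18_ChevComm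
  Cfsg.Agent.Lib.Helper18_ChevComm2 Cfsg.Agent.Lib.Helper18_MatTri Cfsg.Agent.Lib.Helper18_ChevTri
  Cfsg.Agent.Lib.Helper18_ChevBorel Cfsg.Agent.Lib.Helper18_ChevAdd Cfsg.Agent.Lib.Helper18_ChevUni
  Cfsg.Agent.Lib.Helper18_ChevBN Cfsg.Agent.Lib.Helper18_ChevMono Cfsg.Agent.Lib.Helper18_ChevBNPair
  Cfsg.Agent.Lib.Helper18_ChevLevi
  Cfsg.Agent.Lib.Helper81_StUniq Cfsg.Agent.Lib.Helper81_StAbs Cfsg.Agent.Lib.Helper81_StL37
  Cfsg.Agent.Lib.Helper81_StBruhat Cfsg.Agent.Lib.Helper81_StMain Cfsg.Agent.Lib.Helper81_StTorus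
  Cfsg.Agent.Lib.Helper81_StMainB Cfsg.Agent.Lib.Helper81_StUni Cfsg.Agent.Lib.Helper81_StUniB
  Cfsg.Agent.Lib.Helper81_StSub Cfsg.Agent.Lib.Helper81_StCenter
  Cfsg.Agent.Lib.Helper18_ChevAutG Cfsg.Agent.Lib.Helper18_ChevAutH Cfsg.Agent.Lib.Helper18_TorusKer

variable {F : Type*} [Field F]

/-- The group presented by (R1), (R2), (R3) over a finite field is finite. -/
theorem finite_steinbergGroup [Finite F] (D : ChevalleyDatum)
    (hD : D ∈ [chevG2, chevB2, chevD4, chevF4, chevE6, chevE7, chevE8]) : Finite (D.SteinbergGroup F) := by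
  classical
  obtain ⟨Ns, w, d, Ts, hT, K, base, stepT, wl, ws, sc', c, tc, gc, pc, ac⟩ :=
    Cfsg.Agent.Lib.Helper18_ChevData5.exists_cert5 D hD
  obtain ⟨hA, bs, hB⟩ := Cfsg.Agent.Lib.Helper81_StCerts.exists_certAB D hD
  obtain ⟨θ, hsurj, hker, hθ⟩ := exists_hom_ker_eq_center (F := F) D hD
  have hX := stGrp_pGen (D := D) (F := F) (rels := D.steinbergRels F) relsAB_subset
  set π : D.SteinbergGroup F →* GL D.Idx F := (D.group F).subtype.comp θ with hπdef
  have hπ : IsLift c (pGen D (D.steinbergRels F)) π := by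
    intro r hr t
    apply Units.ext
    rw [xGL_coe]
    exact hθ r t hr
  have h3 := r3_pGen (F := F) D c
  have hsub : (θ.ker : Set (D.SteinbergGroup F)) ⊆
      Set.range fun τ : Fin D.rank → Fˣ => tor D (pGen D (D.steinbergRels F)) (extT D τ) := by
    intro z hz
    have hz1 : π z = 1 := by
      show ((θ z : ↥(D.group F)) : GL D.Idx F) = 1
      rw [SetLike.mem_coe, MonoidHom.mem_ker] at hz
      rw [hz]
      rfl
    have hzH := ker_le_HB c tc ac gc hA hB hX hπ gen_pGen _ hz1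
    obtain ⟨t, ht, hzt⟩ := exists_tor c tc ac hA hB hX hπ h3 _ hzH
    refine ⟨fun i => Units.mk0 (t i) (ht i), ?_⟩
    show tor D (pGen D (D.steinbergRels F)) (extT D fun i => Units.mk0 (t i) (ht i)) = z
    rw [hzt]
    apply tor_congr
    intro i hi
    rw [extT_lt _ i hi]
    rfl
  haveI : Finite (Fin D.rank → Fˣ) := inferInstance
  have hfin : (θ.ker : Set (D.SteinbergGroup F)).Finite := (Set.finite_range _).subset hsub
  haveI : Finite θ.ker := hfin.to_subtype
  haveI : Finite ↥(D.group F) := inferInstance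
  have e := QuotientGroup.quotientKerEquivOfSurjective θ hsurj
  haveI : Finite (D.SteinbergGroup F ⧸ θ.ker) := Finite.of_equiv _ e.symm.toEquiv
  have h := Subgroup.card_eq_card_quotient_mul_card_subgroup θ.ker
  apply Nat.finite_of_card_ne_zero
  rw [h]
  exact Nat.mul_ne_zero Nat.card_pos.ne' Nat.card_pos.ne'

end Cfsg.Agent.Lib.Helper81_StFinite
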