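/-
Steinberg's presentation (helper81): over a finite field the group presented by (R1), (R2) is canonically isomorphic
to the group presented by (R1), (R2), (R3).
-/
import Mathlib
import Cfsg.Agent.Lib.Helper81_StMainB
import Cfsg.Agent.Lib.Helper81_StR3

set_option autoImplicit false
set_option linter.unusedSectionVars false
set_option linter.unusedVariables false

namespace Cfsg.Agent.Lib.Helper81_StR3B

open Cfsg Cfsg.Lie Cfsg.Agent.Lib.Helper18_ChevFast Cfsg.Agent.Lib.Helper18_ChevEngine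
  Cfsg.Agent.Lib.Helper18_ChevR1 Cfsg.Agent.Lib.Helper18_ChevN Cfsg.Agent.Lib.Helper18_ChevR4
  Cfsg.Agent.Lib.Helper18_ChevSimple Cfsg.Agent.Lib.Helper18_ChevSimple2 Cfsg.Agent.Lib.Helper18_ChevFacts
  Cfsg.Agent.Lib.Helper18_ChevWeyl Cfsg.Agent.Lib.Helper18_ChevDiag Cfsg.Agent.Lib.Helper18_ChevCar
  Cfsg.Agent.Lib.Helper18_ChevTorus Cfsg.Agent.Lib.Helper18_ChevGL Cfsg.Agent.Lib.Helper18_ChevComm
  Cfsg.Agent.Lib.Helper18_ChevComm2 Cfsg.Agent.Lib.Helper18_MatTri Cfsg.Agent.Lib.Helper18_ChevTri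
  Cfsg.Agent.Lib.Helper18_ChevBorel Cfsg.Agent.Lib.Helper18_ChevAdd Cfsg.Agent.Lib.Helper18_ChevUni
  Cfsg.Agent.Lib.Helper18_ChevBN Cfsg.Agent.Lib.Helper18_ChevMono Cfsg.Agent.Lib.Helper18_ChevBNPair
  Cfsg.Agent.Lib.Helper18_ChevLevi
  Cfsg.Agent.Lib.Helper81_StUniq Cfsg.Agent.Lib.Helper81_StAbs Cfsg.Agent.Lib.Helper81_StL37
  Cfsg.Agent.Lib.Helper81_StBruhat Cfsg.Agent.Lib.Helper81_StMain Cfsg.Agent.Lib.Helper81_StTorus
  Cfsg.Agent.Lib.Helper81_StMainB Cfsg.Agent.Lib.Helper81_StEta Cfsg.Agent.Lib.Helper81_StR3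

variable {F : Type*} [Field F]

section

variable {α : Type*} {rels rels' : Set (FreeGroup α)}

theorem lift_of_eq_mk (x : FreeGroup α) :
    FreeGroup.lift (fun a : α => (PresentedGroup.of a : PresentedGroup rels)) x = PresentedGroup.mk rels x := by
  induction x using FreeGroup.induction_on with
  | C1 => rw [map_one, map_one]
  | of x => rw [FreeGroup.lift_apply_of]; rfl
  | inv_of x ih => rw [map_inv, map_inv, ih]
  | mul x y ihx ihy => rw [map_mul, map_mul, ihx, ihy]

/-- The canonical map between presented groups on the same generators. -/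
def pMap (h : ∀ g ∈ rels, PresentedGroup.mk rels' g = 1) : PresentedGroup rels →* PresentedGroup rels' :=
  PresentedGroup.toGroup (f := fun a : α => (PresentedGroup.of a : PresentedGroup rels'))
    (fun g hg => by rw [lift_of_eq_mk]; exact h g hg)

theorem pMap_of (h : ∀ g ∈ rels, PresentedGroup.mk rels' g = 1) (a : α) :
    pMap h (PresentedGroup.of a) = PresentedGroup.of a :=
  PresentedGroup.toGroup.of _

theorem pMap_mk (h : ∀ g ∈ rels, PresentedGroup.mk rels' g = 1) (x : FreeGroup α) :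
    pMap h (PresentedGroup.mk rels x) = PresentedGroup.mk rels' x := by
  induction x using FreeGroup.induction_on with
  | C1 => rw [map_one, map_one, map_one]
  | of x => exact pMap_of h x
  | inv_of x ih => rw [map_inv, map_inv, map_inv, ih]
  | mul x y ihx ihy => rw [map_mul, map_mul, map_mul, ihx, ihy]

theorem pMap_comp (h : ∀ g ∈ rels, PresentedGroup.mk rels' g = 1) (h' : ∀ g ∈ rels', PresentedGroup.mk rels g = 1)
    (x : PresentedGroup rels) : pMap h' (pMap h x) = x := by
  obtain ⟨w, rfl⟩ := PresentedGroup.mk_surjective rels x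
  rw [pMap_mk, pMap_mk]

end

/-- Over a finite field the relators (R3) hold in the group presented by (R1), (R2). -/
theorem mk_rels_eq_one [Finite F] (D : ChevalleyDatum)
    (hD : D ∈ [chevG2, chevB2, chevD4, chevF4, chevE6, chevE7, chevE8]) :
    ∀ g ∈ D.steinbergRels F, PresentedGroup.mk (D.steinbergRelsAB F) g = 1 := by
  obtain ⟨Ns, w, d, Ts, hT, K, base, stepT, wl, ws, sc, c, tc, gc, pc, ac, ec⟩ := exists_cert6 D hD
  obtain ⟨hA, bs, hB⟩ := Cfsg.Agent.Lib.Helper81_StCerts.exists_certAB D hD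
  have hR2 : R2All D F := r2_all c pc
  have hX := stGrp_pGen (D := D) (F := F) (rels := D.steinbergRelsAB F) (le_refl _)
  have hπ := isLift_toGL (rels := D.steinbergRelsAB F) c (lift_relsAB c hR2)
  have h3 := r3_all c tc ac hA hB hX hπ ec
  rintro g ((hg | hg) | ⟨r, t₁, t₂, hr, h₁, h₂, rfl⟩)
  · exact PresentedGroup.one_of_mem (Or.inl hg)
  · exact PresentedGroup.one_of_mem (Or.inr hg)
  · rw [map_mul, map_mul, map_inv, mul_inv_eq_one]
    unfold ChevalleyDatum.stH
    rw [mk_stWord, mk_stWord, mk_stWord]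
    exact h3 r hr t₁ t₂ h₁ h₂

/-- Over a finite field the group presented by (R1), (R2) is the group presented by (R1), (R2), (R3). -/
theorem exists_mulEquiv_cover [Finite F] (D : ChevalleyDatum)
    (hD : D ∈ [chevG2, chevB2, chevD4, chevF4, chevE6, chevE7, chevE8]) :
    ∃ e : D.SteinbergCover F ≃* D.SteinbergGroup F, ∀ (r : ℕ) (t : F), e (D.scGen F r t) = D.stGen F r t := by
  have h1 : ∀ g ∈ D.steinbergRelsAB F, PresentedGroup.mk (D.steinbergRels F) g = 1 :=
    fun g hg => PresentedGroup.one_of_mem (relsAB_subset hg)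
  have h2 := mk_rels_eq_one (F := F) D hD
  refine ⟨MonoidHom.toMulEquiv (pMap h1) (pMap h2) ?_ ?_, ?_⟩
  · ext x
    rw [MonoidHom.comp_apply, MonoidHom.id_apply]
    exact pMap_comp h1 h2 _
  · ext x
    rw [MonoidHom.comp_apply, MonoidHom.id_apply]
    exact pMap_comp h2 h1 _
  · intro r t
    exact pMap_mk h1 _

end Cfsg.Agent.Lib.Helper81_StR3B
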