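/-
Universal central extension (helper81): a finite group over which every central extension splits through a fixed
isomorphism has trivial Schur multiplier (in the sense of `Cfsg.HasCyclicSchurMultiplier`).
-/
import Mathlib
import Cfsg.Prelude.Def_KGroupFacts
import Cfsg.Agent.Lib.Helper81_UceA

set_option autoImplicit false

namespace Cfsg.Agent.Lib.Helper81_UceSchur

open Cfsg Cfsg.Agent.Lib.Helper81_UceA

universe u v

/-- If homomorphisms from `Δ ≃* G` lift along every central extension of `G`, every stem extension of `G` is an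
isomorphism. -/
theorem ker_eq_bot_of_lift {G : Type u} [Group G] {Δ : Type v} [Group Δ] (e : Δ ≃* G)
    {Γ : Type u} [Group Γ] (σ : Γ →* G) (hσ : Cfsg.IsStemExtension σ)
    (τ : Δ →* Γ) (hτ : σ.comp τ = e.toMonoidHom) : ∀ k ∈ σ.ker, k = 1 := by
  obtain ⟨hsurj, hcen, hcomm⟩ := hσ
  have hC : CExt σ := ⟨hsurj, hcen⟩
  have hστ : ∀ x, σ (τ x) = e x := fun x => DFunLike.congr_fun hτ x
  have hle : commutator Γ ≤ τ.range := by
    rw [commutator_def, Subgroup.commutator_le]
    intro a _ b _
    rw [commutatorElement_def]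
    have ha : σ a = σ (τ (e.symm (σ a))) := by rw [hστ, MulEquiv.apply_symm_apply]
    have hb : σ b = σ (τ (e.symm (σ b))) := by rw [hστ, MulEquiv.apply_symm_apply]
    rw [hC.commutator_eq ha hb]
    refine ⟨e.symm (σ a) * e.symm (σ b) * (e.symm (σ a))⁻¹ * (e.symm (σ b))⁻¹, ?_⟩
    rw [map_mul, map_mul, map_mul, map_inv, map_inv]
  intro k hk
  obtain ⟨x, rfl⟩ := hle (hcomm hk)
  rw [MonoidHom.mem_ker, hστ] at hk
  have : x = 1 := by
    have := congrArg e.symm hk
    rwa [MulEquiv.symm_apply_apply, map_one] at this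
  rw [this, map_one]

theorem hasCyclicSchurMultiplier_one {G : Type u} [Group G] [Finite G] {Δ : Type v} [Group Δ] (e : Δ ≃* G)
    (huce : ∀ {Γ : Type u} [Group Γ] (σ : Γ →* G), Function.Surjective σ → σ.ker ≤ Subgroup.center Γ →
      ∃ τ : Δ →* Γ, σ.comp τ = e.toMonoidHom) : Cfsg.HasCyclicSchurMultiplier G 1 := by
  constructor
  · refine ⟨G, inferInstance, inferInstance, MonoidHom.id G, ⟨Function.surjective_id, ?_, ?_⟩, ⟨?_⟩⟩
    · intro x hx
      rw [MonoidHom.mem_ker, MonoidHom.id_apply] at hx
      rw [hx]
      exact Subgroup.one_mem _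
    · intro x hx
      rw [MonoidHom.mem_ker, MonoidHom.id_apply] at hx
      rw [hx]
      exact Subgroup.one_mem _
    · exact
        { toFun := fun _ => 1
          invFun := fun _ => 1
          left_inv := by
            rintro ⟨x, hx⟩
            apply Subtype.ext
            rw [MonoidHom.mem_ker, MonoidHom.id_apply] at hx
            exact hx.symm
          right_inv := by
            intro y
            have : Subsingleton (Multiplicative (ZMod 1)) := inferInstanceAs (Subsingleton (ZMod 1))
            exact Subsingleton.elim _ _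
          map_mul' := by
            intro a b
            rw [mul_one] }
  · intro Γ _ _ σ hσ
    obtain ⟨τ, hτ⟩ := huce σ hσ.1 hσ.2.1
    have hker := ker_eq_bot_of_lift e σ hσ τ hτ
    refine ⟨1, ?_⟩
    rintro ⟨k, hk⟩
    refine ⟨1, ?_⟩
    apply Subtype.ext
    rw [MonoidHom.one_apply]
    exact (hker k hk).symm

end Cfsg.Agent.Lib.Helper81_UceSchur
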