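/-
Universal central extension (helper81): from "every central extension of `Δ` splits" to "homomorphisms from `Δ` lift
along central extensions", and the Schur multiplier of the group presented by Steinberg's relators (R1), (R2), (R3)
over a finite field when every central extension of the group presented by (R1), (R2) splits.
-/
import Mathlib
import Cfsg.Agent.Lib.Helper81_UceMain
import Cfsg.Agent.Lib.Helper81_UceSchur
import Cfsg.Agent.Lib.Helper81_StR3B
import Cfsg.Agent.Lib.Helper81_StFinite

set_option autoImplicit false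
set_option linter.unusedSectionVars false
set_option linter.unusedVariables false

namespace Cfsg.Agent.Lib.Helper81_S2400_Glue

open Cfsg Cfsg.Lie Cfsg.Agent.Lib.Helper81_UceA Cfsg.Agent.Lib.Helper81_UceMain

/-- If the central extension `pullback π₁ σ → Δ` splits, `σ` lifts along `π₁`. -/
theorem exists_lift_of_section {Δ G₁ E : Type*} [Group Δ] [Group G₁] [Group E] (π₁ : E →* G₁)
    (hπ : Function.Surjective π₁) (hc : π₁.ker ≤ Subgroup.center E) (σ : Δ →* G₁)
    (hsec : ∀ ψ : ↥(pullback π₁ σ) →* Δ, CExt ψ → ∃ s : Δ →* ↥(pullback π₁ σ), ψ.comp s = MonoidHom.id Δ) :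
    ∃ τ : Δ →* E, π₁.comp τ = σ := by
  set P := pullback π₁ σ with hPdef
  set ψ : P →* Δ := (MonoidHom.snd E Δ).comp P.subtype with hψdef
  have hψ : CExt ψ := by
    constructor
    · intro x
      obtain ⟨e, he⟩ := hπ (σ x)
      exact ⟨⟨(e, x), he⟩, rfl⟩
    · rintro ⟨⟨e, x⟩, hp⟩ hker
      have hx : x = 1 := hker
      subst hx
      have he : e ∈ Subgroup.center E := by
        apply hc
        rw [MonoidHom.mem_ker]
        have : π₁ e = σ 1 := hp
        rw [this, map_one]
      rw [Subgroup.mem_center_iff] at he ⊢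
      rintro ⟨⟨e', x'⟩, hp'⟩
      apply Subtype.ext
      show (e' * e, x' * 1) = (e * e', 1 * x')
      rw [he e', mul_one, one_mul]
  obtain ⟨s, hs⟩ := hsec ψ hψ
  refine ⟨(MonoidHom.fst E Δ).comp (P.subtype.comp s), ?_⟩
  apply MonoidHom.ext
  intro x
  have h1 : π₁ (s x).1.1 = σ (s x).1.2 := (s x).2
  have h2 : (s x).1.2 = x := DFunLike.congr_fun hs x
  rw [h2] at h1
  exact h1

universe u

/-- Over a finite field: if homomorphisms from the group presented by (R1), (R2) lift along the central extensions of
the group presented by (R1), (R2), (R3), the latter has trivial Schur multiplier. -/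
theorem multiplier_trivial_of_lift {K : Type u} [Field K] [Finite K] (D : ChevalleyDatum)
    (hD : D ∈ [chevG2, chevB2, chevD4, chevF4, chevE6, chevE7, chevE8])
    (hlift : ∀ {Γ : Type u} [Group Γ] (σ : Γ →* D.SteinbergGroup K), Function.Surjective σ →
      σ.ker ≤ Subgroup.center Γ → ∀ σ' : D.SteinbergCover K →* D.SteinbergGroup K,
      ∃ τ : D.SteinbergCover K →* Γ, σ.comp τ = σ') :
    Cfsg.HasCyclicSchurMultiplier (D.SteinbergGroup K) 1 := by
  obtain ⟨e1, -⟩ := Cfsg.Agent.Lib.Helper81_StR3B.exists_mulEquiv_cover (F := K) D hD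
  haveI : Finite (D.SteinbergGroup K) := Cfsg.Agent.Lib.Helper81_StFinite.finite_steinbergGroup D hD
  apply Cfsg.Agent.Lib.Helper81_UceSchur.hasCyclicSchurMultiplier_one e1
  intro Γ _ σ hs hc
  exact hlift σ hs hc e1.toMonoidHom

/-- The same, from the splitting of the central extensions of the group presented by (R1), (R2). -/
theorem multiplier_trivial_of_section {K : Type u} [Field K] [Finite K] (D : ChevalleyDatum)
    (hD : D ∈ [chevG2, chevB2, chevD4, chevF4, chevE6, chevE7, chevE8])
    (hsec : ∀ {E : Type u} [Group E] (ψ : E →* D.SteinbergCover K), CExt ψ →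
      ∃ s : D.SteinbergCover K →* E, ψ.comp s = MonoidHom.id _) :
    Cfsg.HasCyclicSchurMultiplier (D.SteinbergGroup K) 1 := by
  apply multiplier_trivial_of_lift D hD
  intro Γ _ σ hs hc σ'
  exact exists_lift_of_section σ hs hc σ' (fun ψ hψ => hsec ψ hψ)

end Cfsg.Agent.Lib.Helper81_S2400_Glue
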