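import Mathlib

set_option autoImplicit false

/-!
# Internal semidirect products (helper81)

`IsSD N P`: `N` normal, `N ⊓ P = ⊥`, `N ⊔ P = ⊤`.  Decomposition `g = nP g * pP g`, the projection
`pHom : G →* P`, the conjugation action `cj : P → N → N`, and the bijection `N × P ≃ G`.
-/

namespace Cfsg.Agent.Lib.Helper81_SemiDirect

variable {G : Type*} [Group G] {N P : Subgroup G}

structure IsSD (N P : Subgroup G) : Prop where
  normal : N.Normal
  disj : N ⊓ P = ⊥
  prod : N ⊔ P = ⊤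

namespace IsSD

theorem exists_pP (h : IsSD N P) (g : G) : ∃ p : P, g * (p : G)⁻¹ ∈ N := by
  haveI := h.normal
  have hg : g ∈ N ⊔ P := by rw [h.prod]; exact Subgroup.mem_top g
  have : g ∈ ((N ⊔ P : Subgroup G) : Set G) := hg
  rw [Subgroup.normal_mul] at this
  obtain ⟨n, hn, p, hp, rfl⟩ := Set.mem_mul.mp this
  refine ⟨⟨p, hp⟩, ?_⟩
  simpa using hn

noncomputable def pP (h : IsSD N P) (g : G) : P := Classical.choose (h.exists_pP g)

theorem pP_spec (h : IsSD N P) (g : G) : g * (h.pP g : G)⁻¹ ∈ N :=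
  Classical.choose_spec (h.exists_pP g)

noncomputable def nP (h : IsSD N P) (g : G) : N := ⟨g * (h.pP g : G)⁻¹, h.pP_spec g⟩

theorem nP_mul_pP (h : IsSD N P) (g : G) : (h.nP g : G) * (h.pP g : G) = g := by
  simp [nP]

theorem eq_of_mul_eq (h : IsSD N P) {n n' : N} {p p' : P}
    (e : (n : G) * (p : G) = (n' : G) * (p' : G)) : n = n' ∧ p = p' := by
  have h1 : (n' : G)⁻¹ * (n : G) = (p' : G) * (p : G)⁻¹ := by
    have : (n : G) = (n' : G) * (p' : G) * (p : G)⁻¹ := by rw [← e]; group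
    rw [this]; group
  have hmem : (n' : G)⁻¹ * (n : G) ∈ N ⊓ P := by
    refine ⟨N.mul_mem (N.inv_mem n'.2) n.2, ?_⟩
    rw [h1]
    exact P.mul_mem p'.2 (P.inv_mem p.2)
  rw [h.disj, Subgroup.mem_bot] at hmem
  have hn : n = n' := by
    apply Subtype.ext
    have := congrArg (fun x => (n' : G) * x) hmem
    simpa using this
  refine ⟨hn, ?_⟩
  apply Subtype.ext
  rw [hmem] at h1
  have := congrArg (fun x => x * (p : G)) h1
  simpa using this

theorem pP_mul_mem (h : IsSD N P) (n : N) (p : P) : h.pP ((n : G) * (p : G)) = p :=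
  (h.eq_of_mul_eq (h.nP_mul_pP ((n : G) * (p : G)))).2

theorem nP_mul_mem (h : IsSD N P) (n : N) (p : P) : h.nP ((n : G) * (p : G)) = n :=
  (h.eq_of_mul_eq (h.nP_mul_pP ((n : G) * (p : G)))).1

/-- conjugation action of `P` on `N` -/
def cj (h : IsSD N P) (p : P) (n : N) : N := ⟨(p : G) * n * (p : G)⁻¹, h.normal.conj_mem n n.2 p⟩

@[simp] theorem cj_coe (h : IsSD N P) (p : P) (n : N) :
    (h.cj p n : G) = (p : G) * n * (p : G)⁻¹ := rfl

theorem cj_one (h : IsSD N P) (n : N) : h.cj 1 n = n := by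
  apply Subtype.ext; simp

theorem cj_mul (h : IsSD N P) (p p' : P) (n : N) : h.cj (p * p') n = h.cj p (h.cj p' n) := by
  apply Subtype.ext; simp only [cj_coe, Subgroup.coe_mul]; group

theorem cj_map_mul (h : IsSD N P) (p : P) (n n' : N) : h.cj p (n * n') = h.cj p n * h.cj p n' := by
  apply Subtype.ext; simp only [cj_coe, Subgroup.coe_mul]; group

theorem cj_map_one (h : IsSD N P) (p : P) : h.cj p 1 = 1 := by
  apply Subtype.ext; simp

theorem cj_map_inv (h : IsSD N P) (p : P) (n : N) : h.cj p n⁻¹ = (h.cj p n)⁻¹ := by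
  apply Subtype.ext; simp only [cj_coe, Subgroup.coe_inv]; group

theorem cj_inv_cj (h : IsSD N P) (p : P) (n : N) : h.cj p⁻¹ (h.cj p n) = n := by
  rw [← cj_mul, inv_mul_cancel, cj_one]

theorem cj_cj_inv (h : IsSD N P) (p : P) (n : N) : h.cj p (h.cj p⁻¹ n) = n := by
  rw [← cj_mul, mul_inv_cancel, cj_one]

theorem cj_bijective (h : IsSD N P) (p : P) : Function.Bijective (h.cj p) :=
  ⟨fun a b hab => by rw [← h.cj_inv_cj p a, hab, h.cj_inv_cj],
   fun b => ⟨h.cj p⁻¹ b, h.cj_cj_inv p b⟩⟩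

theorem mul_decomp (h : IsSD N P) (a b : G) :
    a * b = ((h.nP a * h.cj (h.pP a) (h.nP b) : N) : G) * ((h.pP a * h.pP b : P) : G) := by
  conv_lhs => rw [← h.nP_mul_pP a, ← h.nP_mul_pP b]
  simp only [Subgroup.coe_mul, cj_coe]
  group

theorem pP_mul (h : IsSD N P) (a b : G) : h.pP (a * b) = h.pP a * h.pP b := by
  rw [h.mul_decomp a b, h.pP_mul_mem]

theorem nP_mul (h : IsSD N P) (a b : G) :
    h.nP (a * b) = h.nP a * h.cj (h.pP a) (h.nP b) := by
  rw [h.mul_decomp a b, h.nP_mul_mem]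

theorem pP_one (h : IsSD N P) : h.pP 1 = 1 := by
  have := h.pP_mul_mem 1 1
  simpa using this

theorem nP_one (h : IsSD N P) : h.nP 1 = 1 := by
  have := h.nP_mul_mem 1 1
  simpa using this

theorem pP_of_mem_N (h : IsSD N P) (n : N) : h.pP (n : G) = 1 := by
  have := h.pP_mul_mem n 1
  simpa using this

theorem nP_of_mem_N (h : IsSD N P) (n : N) : h.nP (n : G) = n := by
  have := h.nP_mul_mem n 1
  simpa using this

theorem pP_of_mem_P (h : IsSD N P) (p : P) : h.pP (p : G) = p := by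
  have := h.pP_mul_mem 1 p
  simpa using this

theorem nP_of_mem_P (h : IsSD N P) (p : P) : h.nP (p : G) = 1 := by
  have := h.nP_mul_mem 1 p
  simpa using this

/-- the projection onto `P` -/
noncomputable def pHom (h : IsSD N P) : G →* P where
  toFun := h.pP
  map_one' := h.pP_one
  map_mul' := h.pP_mul

@[simp] theorem pHom_apply (h : IsSD N P) (g : G) : h.pHom g = h.pP g := rfl

theorem pP_inv (h : IsSD N P) (g : G) : h.pP g⁻¹ = (h.pP g)⁻¹ := map_inv h.pHom g

/-- the bijection `N × P ≃ G` -/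
noncomputable def equiv (h : IsSD N P) : N × P ≃ G where
  toFun x := (x.1 : G) * (x.2 : G)
  invFun g := (h.nP g, h.pP g)
  left_inv x := by
    apply Prod.ext
    · exact h.nP_mul_mem x.1 x.2
    · exact h.pP_mul_mem x.1 x.2
  right_inv g := h.nP_mul_pP g

@[simp] theorem equiv_apply (h : IsSD N P) (x : N × P) : h.equiv x = (x.1 : G) * (x.2 : G) := rfl

theorem card_eq (h : IsSD N P) : Nat.card G = Nat.card N * Nat.card P := by
  rw [← Nat.card_prod]
  exact (Nat.card_congr h.equiv).symm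

theorem index_eq (h : IsSD N P) [Finite G] : N.index = Nat.card P := by
  have h1 := N.card_mul_index
  rw [h.card_eq] at h1
  have hpos : 0 < Nat.card N := Nat.card_pos
  exact Nat.eq_of_mul_eq_mul_left hpos h1

/-- `nP` of a left translate by an element of `N`. -/
theorem nP_mul_left (h : IsSD N P) (n : N) (g : G) : h.nP ((n : G) * g) = n * h.nP g := by
  rw [h.nP_mul, h.nP_of_mem_N, h.pP_of_mem_N, h.cj_one]

theorem pP_mul_left (h : IsSD N P) (n : N) (g : G) : h.pP ((n : G) * g) = h.pP g := by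
  rw [h.pP_mul, h.pP_of_mem_N, one_mul]

end IsSD

end Cfsg.Agent.Lib.Helper81_SemiDirect
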