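import Mathlib
import Cfsg.Agent.Lib.Helper81_SemiDirect

set_option autoImplicit false

/-!
# The inverting central involution (helper81)

`G = N ⋊ P` with `N` abelian, the unique minimal normal subgroup, and `P` a nontrivial `2`-group:
`P` acts faithfully on `N`, and a central involution of `P` inverts `N`.
-/

namespace Cfsg.Agent.Lib.Helper81_SDInvert

open Cfsg.Agent.Lib.Helper81_SemiDirect

variable {G : Type*} [Group G] {N P : Subgroup G}

theorem conj_decomp (h : IsSD N P) (g x : G) :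
    g * x * g⁻¹ = (h.nP g : G) * ((h.pP g : G) * x * (h.pP g : G)⁻¹) * (h.nP g : G)⁻¹ := by
  conv_lhs => rw [← h.nP_mul_pP g]
  group

/-- `P` acts faithfully on `N`. -/
theorem faithful (h : IsSD N P)
    (hmin : N ≠ ⊥ ∧ ∀ M : Subgroup G, M.Normal → M ≠ ⊥ → N ≤ M)
    (u : P) (hu : ∀ n : N, h.cj u n = n) : u = 1 := by
  haveI := h.normal
  let M : Subgroup G := P ⊓ Subgroup.centralizer (N : Set G)
  have hMmem : ∀ m : G, m ∈ M ↔ m ∈ P ∧ ∀ n ∈ N, n * m = m * n := by
    intro m
    simp only [M, Subgroup.mem_inf, Subgroup.mem_centralizer_iff, SetLike.mem_coe]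
  have hMn : M.Normal := by
    constructor
    intro m hm g
    rw [hMmem] at hm ⊢
    obtain ⟨hmP, hmc⟩ := hm
    -- conjugate by the P-part
    set m' := (h.pP g : G) * m * (h.pP g : G)⁻¹ with hm'
    have hm'P : m' ∈ P := P.mul_mem (P.mul_mem (h.pP g).2 hmP) (P.inv_mem (h.pP g).2)
    have hm'c : ∀ n ∈ N, n * m' = m' * n := by
      intro n hn
      have hn' : (h.pP g : G)⁻¹ * n * (h.pP g : G) ∈ N := by
        have := h.normal.conj_mem n hn (h.pP g : G)⁻¹
        simpa using this
      have e := hmc _ hn'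
      have e1 : n * m' = (h.pP g : G) * (((h.pP g : G)⁻¹ * n * (h.pP g : G)) * m) *
          (h.pP g : G)⁻¹ := by rw [hm']; group
      have e2 : m' * n = (h.pP g : G) * (m * ((h.pP g : G)⁻¹ * n * (h.pP g : G))) *
          (h.pP g : G)⁻¹ := by rw [hm']; group
      rw [e1, e2, e]
    have e3 : g * m * g⁻¹ = m' := by
      rw [conj_decomp h g m, ← hm', hm'c _ (h.nP g).2]
      group
    rw [e3]
    exact ⟨hm'P, hm'c⟩
  have hMbot : M = ⊥ := by
    by_contra hne
    have hle := hmin.2 M hMn hne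
    apply hmin.1
    rw [eq_bot_iff, ← h.disj]
    exact le_inf le_rfl (hle.trans inf_le_left)
  have humem : (u : G) ∈ M := by
    rw [hMmem]
    refine ⟨u.2, ?_⟩
    intro n hn
    have := congrArg Subtype.val (hu ⟨n, hn⟩)
    simp only [IsSD.cj_coe] at this
    have e : (u : G) * n = n * (u : G) := by
      have := congrArg (fun x => x * (u : G)) this
      simpa using this
    exact e.symm
  rw [hMbot, Subgroup.mem_bot] at humem
  exact Subtype.ext humem

/-- A central involution of `P` inverts `N`. -/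
theorem exists_inverting [Finite G] (h : IsSD N P) (hcomm : ∀ a b : N, a * b = b * a)
    (hP2 : IsPGroup 2 P) (hP1 : P ≠ ⊥)
    (hmin : N ≠ ⊥ ∧ ∀ M : Subgroup G, M.Normal → M ≠ ⊥ → N ≤ M) :
    ∃ z : P, (∀ p : P, z * p = p * z) ∧ z * z = 1 ∧ z ≠ 1 ∧ ∀ n : N, h.cj z n = n⁻¹ := by
  classical
  haveI := h.normal
  -- a central involution
  haveI : Nontrivial P := by
    rw [← Subgroup.nontrivial_iff_ne_bot] at hP1
    exact hP1
  haveI : Fact (Nat.Prime 2) := ⟨Nat.prime_two⟩
  haveI : Nontrivial (Subgroup.center P) := hP2.center_nontrivial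
  obtain ⟨c, hc⟩ := exists_ne (1 : Subgroup.center P)
  have hc2 : IsPGroup 2 (Subgroup.center P) := hP2.to_subgroup _
  obtain ⟨k, hk⟩ := hc2 c
  -- take the minimal k
  have hex : ∃ k : ℕ, c ^ 2 ^ k = 1 := ⟨k, hk⟩
  let k₀ := Nat.find hex
  have hk₀ : c ^ 2 ^ k₀ = 1 := Nat.find_spec hex
  have hk₀pos : k₀ ≠ 0 := by
    intro h0
    rw [h0] at hk₀
    simp at hk₀
    exact hc hk₀
  obtain ⟨j, hj⟩ := Nat.exists_eq_succ_of_ne_zero hk₀pos
  have hjlt : ¬ c ^ 2 ^ j = 1 := by
    have : j < k₀ := by omega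
    exact Nat.find_min hex this
  set zc : Subgroup.center P := c ^ 2 ^ j with hzc
  have hzc2 : zc * zc = 1 := by
    rw [hzc, ← pow_add, ← two_mul, ← pow_succ', ← Nat.succ_eq_add_one, ← hj]
    exact hk₀
  let z : P := (zc : P)
  have hzcent : ∀ p : P, z * p = p * z := by
    intro p
    have := zc.2
    rw [Subgroup.mem_center_iff] at this
    exact (this p).symm
  have hzz : z * z = 1 := by
    have := congrArg Subtype.val hzc2
    simpa using this
  have hz1 : z ≠ 1 := by
    intro hz
    apply hjlt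
    apply Subtype.ext
    exact hz
  refine ⟨z, hzcent, hzz, hz1, ?_⟩
  -- fixed points of z on N
  let F : Subgroup G := N ⊓ Subgroup.centralizer {(z : G)}
  have hFmem : ∀ f : G, f ∈ F ↔ f ∈ N ∧ (z : G) * f = f * (z : G) := by
    intro f
    simp only [F, Subgroup.mem_inf, Subgroup.mem_centralizer_iff, Set.mem_singleton_iff,
      forall_eq]
  have hFn : F.Normal := by
    constructor
    intro f hf g
    rw [hFmem] at hf ⊢
    obtain ⟨hfN, hfz⟩ := hf
    set f' := (h.pP g : G) * f * (h.pP g : G)⁻¹ with hf'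
    have hf'N : f' ∈ N := h.normal.conj_mem f hfN _
    have e3 : g * f * g⁻¹ = f' := by
      rw [conj_decomp h g f, ← hf']
      have := congrArg Subtype.val (hcomm (h.nP g) ⟨f', hf'N⟩)
      simp only [Subgroup.coe_mul] at this
      rw [this]
      group
    rw [e3]
    refine ⟨hf'N, ?_⟩
    have hzp : (z : G) * (h.pP g : G) = (h.pP g : G) * (z : G) := by
      have := congrArg Subtype.val (hzcent (h.pP g))
      simpa using this
    have hzp' : (z : G) * (h.pP g : G)⁻¹ = (h.pP g : G)⁻¹ * (z : G) := by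
      have : (h.pP g : G)⁻¹ * ((z : G) * (h.pP g : G)) * (h.pP g : G)⁻¹ =
          (h.pP g : G)⁻¹ * ((h.pP g : G) * (z : G)) * (h.pP g : G)⁻¹ := by rw [hzp]
      simpa [mul_assoc] using this.symm
    calc (z : G) * f' = ((z : G) * (h.pP g : G)) * f * (h.pP g : G)⁻¹ := by rw [hf']; group
      _ = (h.pP g : G) * ((z : G) * f) * (h.pP g : G)⁻¹ := by rw [hzp]; group
      _ = (h.pP g : G) * (f * (z : G)) * (h.pP g : G)⁻¹ := by rw [hfz]
      _ = (h.pP g : G) * f * ((z : G) * (h.pP g : G)⁻¹) := by group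
      _ = (h.pP g : G) * f * ((h.pP g : G)⁻¹ * (z : G)) := by rw [hzp']
      _ = f' * (z : G) := by rw [hf']; group
  have hFbot : F = ⊥ := by
    by_contra hne
    have hle := hmin.2 F hFn hne
    apply hz1
    apply faithful h hmin z
    intro n
    have := (hFmem _).mp (hle n.2)
    apply Subtype.ext
    simp only [IsSD.cj_coe]
    rw [this.2]
    group
  intro n
  -- m = n * cj z n is fixed by z
  set m : N := n * h.cj z n with hm
  have hmfix : (m : G) ∈ F := by
    rw [hFmem]
    refine ⟨m.2, ?_⟩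
    have hcjm : h.cj z m = m := by
      rw [hm, h.cj_map_mul, ← h.cj_mul, hzz, h.cj_one]
      exact hcomm _ _
    have := congrArg Subtype.val hcjm
    simp only [IsSD.cj_coe] at this
    have := congrArg (fun x => x * (z : G)) this
    simpa using this
  rw [hFbot, Subgroup.mem_bot] at hmfix
  have hm1 : m = 1 := Subtype.ext hmfix
  rw [hm] at hm1
  exact (eq_inv_of_mul_eq_one_right hm1)

end Cfsg.Agent.Lib.Helper81_SDInvert
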