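import Mathlib
import Cfsg.Agent.Lib.Helper81_SUSiegel
import Cfsg.Agent.Lib.Helper81_HermWeightsOdd

set_option autoImplicit false
set_option linter.unusedSectionVars false
set_option linter.unusedSimpArgs false

/-!
# The maximal parabolic of `SU_n(q)`, `n ≥ 2m + 1`, with non-abelian radical (helper81)

In addition to the hyperbolic pairs `C, D` of `Helper81_SUSiegel`, a unit vector `E` orthogonal
to them gives the elements `1 + C W E^* - E W^* C^* - θ C W W^* C^*` (`θ + θ^q = 1`) of the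
unipotent radical, and Levi elements for all invertible `A`.  `siegelDataOdd` packages them as
`Helper81_HermWeightsOdd.SiegelDataOdd`.
-/

namespace Cfsg.Agent.Lib.Helper81_SUSiegelOdd

open Matrix
open Cfsg.Agent.Lib.Helper13_Herm Cfsg.Agent.Lib.Helper5_GUOrder Cfsg.Agent.Lib.Helper5_SUOrder
  Cfsg.Agent.Lib.Helper5_SUCenter Cfsg.Agent.Lib.Helper81_HermOrbit
  Cfsg.Agent.Lib.Helper81_HermWeights Cfsg.Agent.Lib.Helper81_SymOrbit
  Cfsg.Agent.Lib.Helper81_SUSiegel Cfsg.Agent.Lib.Helper81_HermWeightsOdd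

section Abstract

variable {F : Type*} [Field F] {n m : ℕ} (σ : F →+* F)

/-- hyperbolic pairs together with an orthogonal unit vector -/
structure HypOdd (C D : Matrix (Fin n) (Fin m) F) (E : Matrix (Fin n) (Fin 1) F) : Prop where
  hyp : Hyp σ C D
  ec : ct σ E * C = 0
  ce : ct σ C * E = 0
  ed : ct σ E * D = 0
  de : ct σ D * E = 0
  ee : ct σ E * E = 1

variable {σ} {C D : Matrix (Fin n) (Fin m) F} {E : Matrix (Fin n) (Fin 1) F}

section Rel

variable (h : HypOdd σ C D E) {k : Type*}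
include h

theorem HypOdd.cc' (X : Matrix (Fin m) k F) : ct σ C * (C * X) = 0 := by
  rw [← Matrix.mul_assoc, h.hyp.cc, Matrix.zero_mul]

theorem HypOdd.cd' (X : Matrix (Fin m) k F) : ct σ C * (D * X) = X := by
  rw [← Matrix.mul_assoc, h.hyp.cd, Matrix.one_mul]

theorem HypOdd.ce' (X : Matrix (Fin 1) k F) : ct σ C * (E * X) = 0 := by
  rw [← Matrix.mul_assoc, h.ce, Matrix.zero_mul]

theorem HypOdd.dc' (X : Matrix (Fin m) k F) : ct σ D * (C * X) = X := by
  rw [← Matrix.mul_assoc, h.hyp.dc, Matrix.one_mul]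

theorem HypOdd.dd' (X : Matrix (Fin m) k F) : ct σ D * (D * X) = 0 := by
  rw [← Matrix.mul_assoc, h.hyp.dd, Matrix.zero_mul]

theorem HypOdd.de' (X : Matrix (Fin 1) k F) : ct σ D * (E * X) = 0 := by
  rw [← Matrix.mul_assoc, h.de, Matrix.zero_mul]

theorem HypOdd.ec' (X : Matrix (Fin m) k F) : ct σ E * (C * X) = 0 := by
  rw [← Matrix.mul_assoc, h.ec, Matrix.zero_mul]

theorem HypOdd.ed' (X : Matrix (Fin m) k F) : ct σ E * (D * X) = 0 := by
  rw [← Matrix.mul_assoc, h.ed, Matrix.zero_mul]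

theorem HypOdd.ee' (X : Matrix (Fin 1) k F) : ct σ E * (E * X) = X := by
  rw [← Matrix.mul_assoc, h.ee, Matrix.one_mul]

end Rel

/-- radical elements outside the centre -/
def uM (σ : F →+* F) (C : Matrix (Fin n) (Fin m) F) (E : Matrix (Fin n) (Fin 1) F) (θ : F)
    (W : Matrix (Fin m) (Fin 1) F) : Matrix (Fin n) (Fin n) F :=
  1 + C * W * ct σ E - E * ct σ W * ct σ C - θ • (C * W * ct σ W * ct σ C)

theorem ct_uM (hσ : ∀ x, σ (σ x) = x) (θ : F) (W : Matrix (Fin m) (Fin 1) F) :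
    ct σ (uM σ C E θ W) =
      1 + E * ct σ W * ct σ C - C * W * ct σ E - σ θ • (C * W * ct σ W * ct σ C) := by
  unfold uM
  rw [ct_sub, ct_sub, ct_add, ct_one, ct_smul, ct_mul, ct_mul, ct_mul, ct_mul, ct_mul, ct_mul,
    ct_mul, ct_ct σ hσ, ct_ct σ hσ, ct_ct σ hσ]
  simp only [Matrix.mul_assoc]

theorem uM_unitary (h : HypOdd σ C D E) (hσ : ∀ x, σ (σ x) = x) (θ : F) (hθ : θ + σ θ = 1)
    (W : Matrix (Fin m) (Fin 1) F) : ct σ (uM σ C E θ W) * uM σ C E θ W = 1 := by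
  have hθ' : σ θ = 1 - θ := by linear_combination hθ
  rw [ct_uM hσ, hθ']
  unfold uM
  simp only [Matrix.mul_add, Matrix.add_mul, Matrix.mul_sub, Matrix.sub_mul, Matrix.mul_one,
    Matrix.one_mul, Matrix.mul_smul, Matrix.smul_mul, Matrix.mul_assoc, h.cc', h.cd', h.ce',
    h.dc', h.dd', h.de', h.ec', h.ed', h.ee', h.hyp.cc, h.ec, h.ce, h.ee, Matrix.mul_zero,
    Matrix.zero_mul, smul_zero, sub_zero, add_zero, zero_add, zero_sub, neg_zero]
  module

theorem uM_det (h : HypOdd σ C D E) (θ : F) (W : Matrix (Fin m) (Fin 1) F) :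
    (uM σ C E θ W).det = 1 := by
  have e1 : uM σ C E θ W = 1 + Matrix.fromCols (C * W) E *
      Matrix.fromRows (ct σ E - θ • (ct σ W * ct σ C)) (-(ct σ W * ct σ C)) := by
    unfold uM
    rw [Matrix.fromCols_mul_fromRows, Matrix.mul_sub, Matrix.mul_smul, Matrix.mul_neg]
    simp only [Matrix.mul_assoc]
    abel
  rw [e1, Matrix.det_one_add_mul_comm, Matrix.fromRows_mul_fromCols]
  have e2 : (ct σ E - θ • (ct σ W * ct σ C)) * (C * W) = 0 := by
    rw [Matrix.sub_mul, Matrix.smul_mul, Matrix.mul_assoc, h.ec', h.cc', Matrix.mul_zero,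
      smul_zero, sub_zero]
  have e3 : (ct σ E - θ • (ct σ W * ct σ C)) * E = 1 := by
    rw [Matrix.sub_mul, Matrix.smul_mul, Matrix.mul_assoc, h.ee, h.ce, Matrix.mul_zero,
      smul_zero, sub_zero]
  have e4 : -(ct σ W * ct σ C) * (C * W) = 0 := by
    rw [Matrix.neg_mul, Matrix.mul_assoc, h.cc', Matrix.mul_zero, neg_zero]
  have e5 : -(ct σ W * ct σ C) * E = 0 := by
    rw [Matrix.neg_mul, Matrix.mul_assoc, h.ce, Matrix.mul_zero, neg_zero]
  rw [e2, e3, e4, e5, ← Matrix.fromBlocks_one, Matrix.fromBlocks_add, add_zero, add_zero,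
    zero_add, Matrix.det_fromBlocks_zero₂₁, Matrix.det_one, one_mul]

theorem uM_mul_xM (h : HypOdd σ C D E) (θ ε : F) (W : Matrix (Fin m) (Fin 1) F)
    (H : Matrix (Fin m) (Fin m) F) :
    uM σ C E θ W * xM σ C ε H = xM σ C ε H * uM σ C E θ W := by
  unfold uM xM sw
  simp only [Matrix.mul_add, Matrix.add_mul, Matrix.mul_sub, Matrix.sub_mul, Matrix.mul_one,
    Matrix.one_mul, Matrix.mul_smul, Matrix.smul_mul, Matrix.mul_assoc, h.cc', h.cd', h.ce',
    h.dc', h.dd', h.de', h.ec', h.ed', h.ee', h.hyp.cc, h.ec, h.ce, h.ee, Matrix.mul_zero,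
    Matrix.zero_mul, smul_zero, sub_zero, add_zero, zero_add, zero_sub, neg_zero]
  abel

theorem uM_mul_uM (h : HypOdd σ C D E) (θ ε : F) (W W' : Matrix (Fin m) (Fin 1) F)
    (κ : Matrix (Fin m) (Fin m) F) (hκ : ε • κ = W' * ct σ W - W * ct σ W') :
    uM σ C E θ W * uM σ C E θ W' = xM σ C ε κ * (uM σ C E θ W' * uM σ C E θ W) := by
  have key : ε • (C * κ * ct σ C) = C * (W' * ct σ W - W * ct σ W') * ct σ C := by
    rw [← hκ, Matrix.mul_smul, Matrix.smul_mul]
  unfold xM sw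
  rw [key]
  unfold uM
  simp only [Matrix.mul_add, Matrix.add_mul, Matrix.mul_sub, Matrix.sub_mul, Matrix.mul_one,
    Matrix.one_mul, Matrix.mul_smul, Matrix.smul_mul, Matrix.mul_assoc, h.cc', h.cd', h.ce',
    h.dc', h.dd', h.de', h.ec', h.ed', h.ee', h.hyp.cc, h.ec, h.ce, h.ee, Matrix.mul_zero,
    Matrix.zero_mul, smul_zero, sub_zero, add_zero, zero_add, zero_sub, neg_zero]
  abel

/-- Levi elements for all invertible `A` -/
def lM' (σ : F →+* F) (C D : Matrix (Fin n) (Fin m) F) (E : Matrix (Fin n) (Fin 1) F)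
    (A B' : Matrix (Fin m) (Fin m) F) (b : F) : Matrix (Fin n) (Fin n) F :=
  lM σ C D A B' + (b - 1) • (E * ct σ E)

theorem lM_mul_E (h : HypOdd σ C D E) (A B' : Matrix (Fin m) (Fin m) F) :
    lM σ C D A B' * E = E := by
  unfold lM sw
  simp only [Matrix.add_mul, Matrix.one_mul, Matrix.mul_assoc, h.de, h.ce, Matrix.mul_zero,
    add_zero]

theorem ctE_mul_lM (h : HypOdd σ C D E) (A B' : Matrix (Fin m) (Fin m) F) :
    ct σ E * lM σ C D A B' = ct σ E := by
  unfold lM sw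
  simp only [Matrix.mul_add, Matrix.mul_one, h.ec', h.ed', add_zero, Matrix.mul_assoc]

theorem lM'_mul (h : HypOdd σ C D E) (A₁ B₁ A₂ B₂ : Matrix (Fin m) (Fin m) F) (b₁ b₂ : F) :
    lM' σ C D E A₁ B₁ b₁ * lM' σ C D E A₂ B₂ b₂ = lM' σ C D E (A₁ * A₂) (B₁ * B₂) (b₁ * b₂) := by
  unfold lM'
  rw [← lM_mul h.hyp]
  have e1 : lM σ C D A₁ B₁ * (E * ct σ E) = E * ct σ E := by
    rw [← Matrix.mul_assoc, lM_mul_E h]
  have e2 : E * ct σ E * lM σ C D A₂ B₂ = E * ct σ E := by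
    rw [Matrix.mul_assoc, ctE_mul_lM h]
  have e3 : E * ct σ E * (E * ct σ E) = E * ct σ E := by
    rw [Matrix.mul_assoc, h.ee']
  rw [Matrix.add_mul, Matrix.mul_add, Matrix.mul_add, Matrix.mul_smul, Matrix.smul_mul,
    Matrix.smul_mul, Matrix.mul_smul, e1, e2, e3]
  module

theorem lM'_one (σ : F →+* F) (C D : Matrix (Fin n) (Fin m) F) (E : Matrix (Fin n) (Fin 1) F) :
    lM' σ C D E 1 1 1 = 1 := by
  unfold lM'
  rw [lM_one, sub_self, zero_smul, add_zero]

theorem ct_lM' (hσ : ∀ x, σ (σ x) = x) (A B' : Matrix (Fin m) (Fin m) F) (b : F) :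
    ct σ (lM' σ C D E A B' b) = lM' σ C D E (ct σ B') (ct σ A) (σ b) := by
  unfold lM'
  rw [ct_add, ct_lM hσ, ct_smul, ct_mul, ct_ct σ hσ, map_sub, map_one]

theorem lM'_mul_C (h : HypOdd σ C D E) (A B' : Matrix (Fin m) (Fin m) F) (b : F) :
    lM' σ C D E A B' b * C = C * A := by
  unfold lM'
  rw [Matrix.add_mul, lM_mul_C h.hyp, Matrix.smul_mul, Matrix.mul_assoc, h.ec, Matrix.mul_zero,
    smul_zero, add_zero]

theorem ctC_mul_lM' (h : HypOdd σ C D E) (A B' : Matrix (Fin m) (Fin m) F) (b : F) :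
    ct σ C * lM' σ C D E A B' b = B' * ct σ C := by
  unfold lM'
  rw [Matrix.mul_add, ctC_mul_lM h.hyp, Matrix.mul_smul, ← Matrix.mul_assoc, h.ce,
    Matrix.zero_mul, smul_zero, add_zero]

theorem det_lM' (h : HypOdd σ C D E) (A B' : Matrix (Fin m) (Fin m) F) (b : F) :
    (lM' σ C D E A B' b).det = A.det * B'.det * b := by
  have e1 : lM' σ C D E A B' b = lM σ C D A B' * (1 + ((b - 1) • E) * ct σ E) := by
    unfold lM'
    rw [Matrix.mul_add, Matrix.mul_one, Matrix.smul_mul, Matrix.mul_smul, ← Matrix.mul_assoc,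
      lM_mul_E h]
  rw [e1, Matrix.det_mul, det_lM h.hyp, Matrix.det_one_add_mul_comm, Matrix.mul_smul, h.ee]
  congr 1
  have : (1 : Matrix (Fin 1) (Fin 1) F) + (b - 1) • (1 : Matrix (Fin 1) (Fin 1) F) =
      b • (1 : Matrix (Fin 1) (Fin 1) F) := by
    module
  rw [this, Matrix.det_smul, Matrix.det_one, mul_one, Fintype.card_fin, pow_one]

/-- the conjugation relation for any matrix acting on `C` like a Levi element -/
theorem L_mul_xM (ε : F) (A B : Matrix (Fin m) (Fin m) F) (hBA : B * A = 1)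
    (L : Matrix (Fin n) (Fin n) F) (hL1 : L * C = C * A) (hL2 : ct σ C * L = ct σ B * ct σ C)
    (H : Matrix (Fin m) (Fin m) F) :
    L * xM σ C ε H = xM σ C ε (A * H * ct σ A) * L := by
  unfold xM
  rw [mul_add, add_mul, mul_one, one_mul, Matrix.mul_smul, Matrix.smul_mul]
  congr 2
  unfold sw
  have e1 : L * (C * H * ct σ C) = (L * C) * H * ct σ C := by simp only [Matrix.mul_assoc]
  have e2 : C * (A * H * ct σ A) * ct σ C * L =
      C * (A * H * ct σ A) * (ct σ C * L) := by simp only [Matrix.mul_assoc]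
  rw [e1, e2, hL1, hL2]
  have e3 : ct σ A * ct σ B = 1 := by rw [← ct_mul, hBA, ct_one]
  calc C * A * H * ct σ C = C * (A * H * (ct σ A * ct σ B)) * ct σ C := by
        rw [e3, Matrix.mul_one]; simp only [Matrix.mul_assoc]
    _ = C * (A * H * ct σ A) * (ct σ B * ct σ C) := by simp only [Matrix.mul_assoc]

end Abstract

section Standard

variable {F : Type*} [Field F] [Fintype F] {q n m : ℕ}

theorem hyp_symm {σ : F →+* F} {C D : Matrix (Fin n) (Fin m) F} (h : Hyp σ C D) : Hyp σ D C :=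
  ⟨h.dd, h.cc, h.dc, h.cd⟩

theorem ct_inc_mul_inc' (σ : F →+* F) {k : ℕ} (e : Fin k → Fin n) (e' : Fin m → Fin n)
    (i : Fin k) (j : Fin m) :
    (ct σ (inc e : Matrix (Fin n) (Fin k) F) * (inc e' : Matrix (Fin n) (Fin m) F)) i j =
      if e i = e' j then (1 : F) else 0 := by
  rw [Matrix.mul_apply]
  simp only [ct_apply, inc]
  rw [Finset.sum_eq_single (e i)]
  · simp
  · intro k _ hk
    simp [hk]
  · intro h
    exact absurd (Finset.mem_univ _) h

theorem ct_inc_mul_inc_disj' (σ : F →+* F) {k : ℕ} (e : Fin k → Fin n) (e' : Fin m → Fin n)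
    (he : ∀ i j, e i ≠ e' j) :
    ct σ (inc e : Matrix (Fin n) (Fin k) F) * (inc e' : Matrix (Fin n) (Fin m) F) = 0 := by
  ext i j
  rw [ct_inc_mul_inc', if_neg (he i j), Matrix.zero_apply]

/-- the index of the extra unit vector -/
def emb3 (h : 2 * m + 1 ≤ n) : Fin 1 → Fin n := fun _ => ⟨2 * m, by omega⟩

theorem emb3_ne_emb1 (h : 2 * m + 1 ≤ n) (i : Fin 1) (j : Fin m) :
    emb3 h i ≠ emb1 (by omega : 2 * m ≤ n) j := by
  intro hij
  have := congrArg Fin.val hij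
  simp only [emb1, emb3] at this
  have := j.isLt
  omega

theorem emb3_ne_emb2 (h : 2 * m + 1 ≤ n) (i : Fin 1) (j : Fin m) :
    emb3 h i ≠ emb2 (by omega : 2 * m ≤ n) j := by
  intro hij
  have := congrArg Fin.val hij
  simp only [emb2, emb3] at this
  have := j.isLt
  omega

theorem ctE_mul_hmat (σ : F →+* F) (h : 2 * m + 1 ≤ n) (a b : F) :
    ct σ (inc (emb3 h) : Matrix (Fin n) (Fin 1) F) * hmat (by omega : 2 * m ≤ n) a b = 0 := by
  unfold hmat
  rw [Matrix.mul_smul, Matrix.mul_add, Matrix.mul_smul,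
    ct_inc_mul_inc_disj' σ _ _ (emb3_ne_emb1 h), ct_inc_mul_inc_disj' σ _ _ (emb3_ne_emb2 h),
    smul_zero, add_zero, smul_zero]

theorem ct_hmat_mul_E (σ : F →+* F) (h : 2 * m + 1 ≤ n) (a b : F) :
    ct σ (hmat (by omega : 2 * m ≤ n) a b) * (inc (emb3 h) : Matrix (Fin n) (Fin 1) F) = 0 := by
  unfold hmat
  rw [ct_smul, ct_add, ct_smul, Matrix.smul_mul, Matrix.add_mul, Matrix.smul_mul,
    ct_inc_mul_inc_disj' σ _ _ (fun i j => (emb3_ne_emb1 h j i).symm),
    ct_inc_mul_inc_disj' σ _ _ (fun i j => (emb3_ne_emb2 h j i).symm),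
    smul_zero, add_zero, smul_zero]

theorem ctE_mul_E (σ : F →+* F) (h : 2 * m + 1 ≤ n) :
    ct σ (inc (emb3 h) : Matrix (Fin n) (Fin 1) F) * (inc (emb3 h) : Matrix (Fin n) (Fin 1) F) =
      1 := by
  ext i j
  rw [ct_inc_mul_inc', Matrix.one_apply]
  have hi : i = j := Subsingleton.elim _ _
  subst hi
  simp

/-- explicit form of the hyperbolic pairs -/
theorem exists_hyp_explicit (hF : Fintype.card F = q ^ 2) (h : 2 * m ≤ n) :
    ∃ a b c d : F, Hyp (powQ hF) (hmat h a b : Matrix (Fin n) (Fin m) F) (hmat h c d) := by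
  obtain ⟨ζ, hζ⟩ := exists_norm_neg_one hF
  obtain ⟨l, hl, hl1⟩ := exists_norm_one_ne_one hF
  have hne : (1 : F) + ζ ^ q * (l * ζ) ≠ 0 := by
    have : (1 : F) + ζ ^ q * (l * ζ) = 1 - l := by linear_combination l * hζ
    rw [this]
    exact sub_ne_zero.mpr (Ne.symm hl1)
  set t : F := (1 + ζ ^ q * (l * ζ))⁻¹ with ht
  refine ⟨1, ζ, t, l * ζ, ?_, ?_, ?_, ?_⟩
  · rw [ct_hmat_mul_hmat, powQ_apply, powQ_apply]
    have : (1 : F) ^ q * 1 * (1 + ζ ^ q * ζ) = 0 := by
      rw [one_pow]; linear_combination hζ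
    rw [this, zero_smul]
  · rw [ct_hmat_mul_hmat, powQ_apply, powQ_apply]
    have : t ^ q * t * (1 + (l * ζ) ^ q * (l * ζ)) = 0 := by
      rw [mul_pow]
      linear_combination (t ^ q * t * (ζ ^ q * ζ)) * hl + (t ^ q * t) * hζ
    rw [this, zero_smul]
  · rw [ct_hmat_mul_hmat, powQ_apply, powQ_apply]
    have : (1 : F) ^ q * t * (1 + ζ ^ q * (l * ζ)) = 1 := by
      rw [one_pow, one_mul, ht, inv_mul_cancel₀ hne]
    rw [this, one_smul]
  · rw [ct_hmat_mul_hmat, powQ_apply, powQ_apply]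
    have h1 : t * (1 + ζ ^ q * (l * ζ)) = 1 := by rw [ht, inv_mul_cancel₀ hne]
    have h2 := congrArg (fun x => x ^ q) h1
    simp only [mul_pow, one_pow, add_pow_q hF, pow_q_pow_q hF] at h2
    have : t ^ q * 1 * (1 + (l * ζ) ^ q * ζ) = 1 := by
      rw [mul_pow]
      linear_combination h2
    rw [this, one_smul]

theorem exists_hypOdd (hF : Fintype.card F = q ^ 2) (h : 2 * m + 1 ≤ n) :
    ∃ (C D : Matrix (Fin n) (Fin m) F) (E : Matrix (Fin n) (Fin 1) F),
      HypOdd (powQ hF) C D E := by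
  obtain ⟨a, b, c, d, hyp⟩ := exists_hyp_explicit (n := n) (m := m) hF (by omega)
  exact ⟨_, _, inc (emb3 h), hyp, ctE_mul_hmat _ h a b, ct_hmat_mul_E _ h a b,
    ctE_mul_hmat _ h c d, ct_hmat_mul_E _ h c d, ctE_mul_E _ h⟩

/-- the data of `SU_n(q)` attached to hyperbolic pairs and an orthogonal unit vector -/
noncomputable def siegelDataOdd (hF : Fintype.card F = q ^ 2) {C D : Matrix (Fin n) (Fin m) F}
    {E : Matrix (Fin n) (Fin 1) F} (h : HypOdd (powQ hF) C D E) (ε θ : F)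
    (hε : ε + ε ^ q = 0) (hθ : θ + θ ^ q = 1) :
    SiegelDataOdd ↥(Cfsg.SU n F q) (powQ hF) m ε where
  xs := (siegelData hF h.hyp ε hε).xs
  xs_add := (siegelData hF h.hyp ε hε).xs_add
  ls A B hAB := mkSU (lM' (powQ hF) C D E A (ct (powQ hF) B) (powQ hF A.det * B.det))
    (isU_of_ct hF _ (by
      have hBA : B * A = 1 := mul_eq_one_comm.mp hAB
      have hdet : A.det * B.det = 1 := by rw [← Matrix.det_mul, hAB, Matrix.det_one]
      have hb : powQ hF (powQ hF A.det * B.det) * (powQ hF A.det * B.det) = 1 := by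
        rw [map_mul, powQ_powQ]
        have : A.det * powQ hF B.det * (powQ hF A.det * B.det) =
            (A.det * B.det) * powQ hF (A.det * B.det) := by
          rw [map_mul]; ring
        rw [this, hdet, map_one, one_mul]
      rw [ct_lM' (powQ_powQ hF), lM'_mul h, ct_ct _ (powQ_powQ hF), hBA, ← ct_mul, hBA, ct_one, hb,
        lM'_one])) (by
      have hdet : A.det * B.det = 1 := by rw [← Matrix.det_mul, hAB, Matrix.det_one]
      rw [det_lM' h, det_ct]
      have : A.det * powQ hF B.det * (powQ hF A.det * B.det) =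
          (A.det * B.det) * powQ hF (A.det * B.det) := by
        rw [map_mul]; ring
      rw [this, hdet, map_one, one_mul])
  ls_mul_xs A B hAB H H' hH' := Subtype.ext (Subtype.ext (by
    show lM' (powQ hF) C D E A (ct (powQ hF) B) (powQ hF A.det * B.det) * xM (powQ hF) C ε H.1 =
      xM (powQ hF) C ε H'.1 * lM' (powQ hF) C D E A (ct (powQ hF) B) (powQ hF A.det * B.det)
    rw [hH']
    exact L_mul_xM ε A B (mul_eq_one_comm.mp hAB) _ (lM'_mul_C h _ _ _) (ctC_mul_lM' h _ _ _) H.1))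
  us W := mkSU (uM (powQ hF) C E θ W)
    (isU_of_ct hF _ (uM_unitary h (powQ_powQ hF) θ hθ W)) (uM_det h θ W)
  us_mul_xs W H := Subtype.ext (Subtype.ext (by
    show uM (powQ hF) C E θ W * xM (powQ hF) C ε H.1 = xM (powQ hF) C ε H.1 * uM (powQ hF) C E θ W
    exact uM_mul_xM h θ ε W H.1))
  us_mul_us W W' κ hκ := Subtype.ext (Subtype.ext (by
    show uM (powQ hF) C E θ W * uM (powQ hF) C E θ W' =
      xM (powQ hF) C ε κ.1 * (uM (powQ hF) C E θ W' * uM (powQ hF) C E θ W)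
    exact uM_mul_uM h θ ε W W' κ.1 hκ))

/-- some central radical element is not central in `SU_n(q)` -/
theorem exists_not_commute_odd (hF : Fintype.card F = q ^ 2) {C D : Matrix (Fin n) (Fin m) F}
    {E : Matrix (Fin n) (Fin 1) F} (h : HypOdd (powQ hF) C D E) (ε θ : F)
    (hε : ε + ε ^ q = 0) (hθ : θ + θ ^ q = 1) (hε0 : ε ≠ 0) (hm : 1 ≤ m) :
    ∃ (H : hermAdd (powQ hF) m) (g : ↥(Cfsg.SU n F q)),
      g * (siegelDataOdd hF h ε θ hε hθ).xs H ≠ (siegelDataOdd hF h ε θ hε hθ).xs H * g := by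
  refine ⟨⟨1, ct_one (powQ hF)⟩, (siegelData hF (hyp_symm h.hyp) ε hε).xs ⟨1, ct_one (powQ hF)⟩, ?_⟩
  intro hcomm
  have h1 : xM (powQ hF) D ε (1 : Matrix (Fin m) (Fin m) F) * xM (powQ hF) C ε 1 =
      xM (powQ hF) C ε 1 * xM (powQ hF) D ε 1 := by
    have := congrArg (fun g : ↥(Cfsg.SU n F q) => (g.1 : Matrix (Fin n) (Fin n) F)) hcomm
    exact this
  have h2 : ct (powQ hF) C * (xM (powQ hF) D ε (1 : Matrix (Fin m) (Fin m) F) *
      xM (powQ hF) C ε 1) * D = ct (powQ hF) C * (xM (powQ hF) C ε 1 * xM (powQ hF) D ε 1) * D := by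
    rw [h1]
  unfold xM sw at h2
  simp only [Matrix.mul_add, Matrix.add_mul, Matrix.mul_one, Matrix.one_mul, Matrix.mul_smul,
    Matrix.smul_mul, Matrix.mul_assoc, h.cc', h.cd', h.dc', h.dd', h.hyp.cc, h.hyp.cd, h.hyp.dc,
    h.hyp.dd, Matrix.mul_zero, smul_zero, add_zero, zero_add] at h2
  have i0 : Fin m := ⟨0, by omega⟩
  have h3 := congrFun (congrFun h2 i0) i0
  simp only [Matrix.add_apply, Matrix.smul_apply, Matrix.one_apply_eq, smul_eq_mul] at h3
  have h4 : ε * ε = 0 := by linear_combination h3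
  exact hε0 (mul_self_eq_zero.mp h4)

end Standard

end Cfsg.Agent.Lib.Helper81_SUSiegelOdd
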