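import Mathlib
import Cfsg.Prelude.Def_ParabolicCharacters
import Cfsg.Prelude.Def_Characters
import Cfsg.Prelude.Def_Blocks
import Cfsg.Agent.Lib.Helper81_BNSub
import Cfsg.Agent.Lib.Helper81_BNBorel
import Cfsg.Agent.Lib.Helper81_PC_MAIN
import Cfsg.Agent.Lib.Helper2_SV_DC2

/-!
S2312 (architect helper81, market `sv_packages`), package SV-INNER (backup by the architect): the restriction of the
Steinberg function to a standard parabolic subgroup contains the relative Steinberg function exactly once.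
-/

set_option autoImplicit false
set_option linter.unusedSectionVars false
set_option linter.unusedVariables false

namespace Cfsg.Agent.Lib.Helper81_StValInner

open Cfsg DoubleCoset Cfsg.Agent.Lib.Helper6_Word Cfsg.Agent.Lib.Helper6_BNPair
  Cfsg.Agent.Lib.Helper81_CoxComb Cfsg.Agent.Lib.Helper81_CoxPoincare
  Cfsg.Agent.Lib.Helper81_BNSteinberg Cfsg.Agent.Lib.Helper81_BNIndex
  Cfsg.Agent.Lib.Helper81_BNBorel Cfsg.Agent.Lib.Helper81_BNSub Cfsg.Agent.Lib.Helper81_StVal
  Cfsg.Agent.Lib.Helper81_PCountMain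

open scoped ComplexConjugate

variable {G : Type*} [Group G] [Fintype G]

/-- transitivity of Frobenius reciprocity for permutation characters of nested subgroups -/
theorem inner_res_fpc (H L : Subgroup G) (hLH : L ≤ H) [Fintype ↥H] (ψ : G → ℂ)
    (hψ : Cfsg.IsClassFunction G ψ) :
    (Nat.card ↥H : ℂ)⁻¹ * ∑ h : ↥H, ψ (h : G) * Cfsg.fixedPointCharacter (L.subgroupOf H) h =
      (Nat.card G : ℂ)⁻¹ * ∑ g : G, ψ g * Cfsg.fixedPointCharacter L g := by
  classical
  have hψH : Cfsg.IsClassFunction ↥H (fun h : ↥H => ψ (h : G)) := by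
    intro g h
    have := hψ (g : G) (h : G)
    simpa using this
  rw [sum_mul_fpc (L.subgroupOf H) (fun h : ↥H => ψ (h : G)) hψH, sum_mul_fpc L ψ hψ]
  have e : ∑ᶠ x : ↥(L.subgroupOf H), ψ ((x : ↥H) : G) = ∑ᶠ x : ↥L, ψ (x : G) := by
    refine finsum_eq_of_bijective (fun x : ↥(L.subgroupOf H) => (⟨((x : ↥H) : G), x.2⟩ : ↥L)) ?_ ?_
    · constructor
      · intro x y hxy
        apply Subtype.ext
        apply Subtype.ext
        exact congrArg (fun z : ↥L => (z : G)) hxy
      · intro y
        exact ⟨⟨⟨(y : G), hLH y.2⟩, y.2⟩, rfl⟩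
    · intro x
      rfl
  rw [e]
  have hHpos : (Nat.card ↥H : ℂ) ≠ 0 := by
    have : 0 < Nat.card ↥H := Nat.card_pos
    exact_mod_cast this.ne'
  have hGpos : (Nat.card G : ℂ) ≠ 0 := by
    have : 0 < Nat.card G := Nat.card_pos
    exact_mod_cast this.ne'
  have h1 : (Nat.card ↥H : ℂ) = ((L.subgroupOf H).index : ℂ) * (Nat.card ↥L : ℂ) := by
    have := (L.subgroupOf H).index_mul_card
    rw [Nat.card_congr (Subgroup.subgroupOfEquivOfLe hLH).toEquiv] at this
    exact_mod_cast this.symm
  have h2 : (Nat.card G : ℂ) = (L.index : ℂ) * (Nat.card ↥L : ℂ) := by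
    have := L.index_mul_card
    exact_mod_cast this.symm
  have hLpos : (Nat.card ↥L : ℂ) ≠ 0 := by
    have : 0 < Nat.card ↥L := Nat.card_pos
    exact_mod_cast this.ne'
  have hi1 : ((L.subgroupOf H).index : ℂ) ≠ 0 := by
    intro h0
    rw [h0, zero_mul] at h1
    exact hHpos h1
  have hi2 : (L.index : ℂ) ≠ 0 := by
    intro h0
    rw [h0, zero_mul] at h2
    exact hGpos h2
  rw [h1, h2]
  field_simp

section main

variable (P : BNPair G) {ι : Type*} [DecidableEq ι] (s : ι → G)

theorem St_classFunction (I : Finset ι) : Cfsg.IsClassFunction G (St P I s) := by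
  intro g h
  unfold St
  refine Finset.sum_congr rfl (fun J _ => ?_)
  rw [Cfsg.Agent.Lib.Helper81_PCount.fpc_conj]

theorem classInner_res_St_aux (I : Finset ι) (hs : s '' (I : Set ι) = P.S) (J : Finset ι) (hJI : J ⊆ I)
    (hJ : s '' (J : Set ι) ⊆ P.S) [Fintype ↥(P.parabolic (s '' (J : Set ι)))] :
    Cfsg.classInner (fun h : ↥(P.parabolic (s '' (J : Set ι))) => St P I s (h : G))
      (St (subPair P (s '' (J : Set ι)) hJ) J (sSub P s J)) = 1 := by
  classical
  unfold Cfsg.classInner
  simp_rw [conj_St]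
  have hpar : ∀ K ∈ J.powerset,
      (subPair P (s '' (J : Set ι)) hJ).parabolic (sSub P s J '' (K : Set ι)) =
        (P.parabolic (s '' (K : Set ι))).subgroupOf (P.parabolic (s '' (J : Set ι))) := by
    intro K hK
    rw [Finset.mem_powerset] at hK
    rw [sSub_image_sub P s J hK, subPair_parabolic]
    exact Set.image_mono (by exact_mod_cast hK)
  have hexp : ∀ h : ↥(P.parabolic (s '' (J : Set ι))),
      St P I s (h : G) * St (subPair P (s '' (J : Set ι)) hJ) J (sSub P s J) h =
        ∑ K ∈ J.powerset, (-1 : ℂ) ^ K.card * (St P I s (h : G) *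
          Cfsg.fixedPointCharacter ((P.parabolic (s '' (K : Set ι))).subgroupOf
            (P.parabolic (s '' (J : Set ι)))) h) := by
    intro h
    unfold St
    rw [Finset.mul_sum]
    refine Finset.sum_congr rfl (fun K hK => ?_)
    rw [hpar K hK]
    ring
  rw [Finset.sum_congr rfl (fun h _ => hexp h), Finset.sum_comm, Finset.mul_sum]
  have hterm : ∀ K ∈ J.powerset,
      (Nat.card ↥(P.parabolic (s '' (J : Set ι))) : ℂ)⁻¹ *
        ∑ h : ↥(P.parabolic (s '' (J : Set ι))), (-1 : ℂ) ^ K.card * (St P I s (h : G) *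
          Cfsg.fixedPointCharacter ((P.parabolic (s '' (K : Set ι))).subgroupOf
            (P.parabolic (s '' (J : Set ι)))) h) =
      (-1 : ℂ) ^ K.card * (if K = ∅ then 1 else 0) := by
    intro K hK
    rw [Finset.mem_powerset] at hK
    rw [← Finset.mul_sum, mul_left_comm]
    congr 1
    have hle : P.parabolic (s '' (K : Set ι)) ≤ P.parabolic (s '' (J : Set ι)) :=
      parabolic_mono P (Set.image_mono (by exact_mod_cast hK))
    rw [inner_res_fpc (P.parabolic (s '' (J : Set ι))) (P.parabolic (s '' (K : Set ι))) hle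
      (St P I s) (St_classFunction P s I)]
    exact inner_St_fpc P I s hs (hK.trans hJI)
  rw [Finset.sum_congr rfl hterm]
  rw [Finset.sum_eq_single (∅ : Finset ι)]
  · simp
  · intro K _ hK
    rw [if_neg hK, mul_zero]
  · intro h
    exact absurd (Finset.empty_mem_powerset J) h

end main

end Cfsg.Agent.Lib.Helper81_StValInner

namespace Cfsg.Agent.Lib.Helper81_StVal

open Cfsg DoubleCoset Cfsg.Agent.Lib.Helper6_Word Cfsg.Agent.Lib.Helper6_BNPair
  Cfsg.Agent.Lib.Helper81_CoxComb Cfsg.Agent.Lib.Helper81_CoxPoincare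
  Cfsg.Agent.Lib.Helper81_BNSteinberg Cfsg.Agent.Lib.Helper81_BNIndex
  Cfsg.Agent.Lib.Helper81_BNBorel Cfsg.Agent.Lib.Helper81_BNSub

section main

variable {G : Type*} [Group G] [Fintype G] (P : BNPair G) (p : ℕ) [Fact p.Prime]
  {ι : Type*} [DecidableEq ι] (s : ι → G)

/-! ## SV-INNER: `⟨Res St_G, St_J⟩ = 1` on `P_J` -/

theorem classInner_res_St (I : Finset ι) (hs : s '' (I : Set ι) = P.S) (J : Finset ι) (hJI : J ⊆ I)
    (hJ : s '' (J : Set ι) ⊆ P.S) [Fintype ↥(P.parabolic (s '' (J : Set ι)))] :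
    Cfsg.classInner (fun h : ↥(P.parabolic (s '' (J : Set ι))) => St P I s (h : G))
      (St (subPair P (s '' (J : Set ι)) hJ) J (sSub P s J)) = 1 :=
  Cfsg.Agent.Lib.Helper81_StValInner.classInner_res_St_aux P s I hs J hJI hJ

end main

end Cfsg.Agent.Lib.Helper81_StVal
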