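import Mathlib
import Cfsg.Prelude.Def_Characters
import Cfsg.Agent.Lib.Helper21_FeitAbC

/-!
# SV-HC (helper96, for helper81's S2312 market): the `N`-invariants of a character containing an
`N`-invariant irreducible character once with the right degree — version with the deflation
lemma `defl_irr` (SV-DEFL) as a hypothesis.
-/

set_option autoImplicit false
set_option linter.unusedSectionVars false
set_option linter.unusedVariables false

namespace Cfsg.Agent.Lib.Helper96_SV_HC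

open Cfsg Cfsg.Agent.Lib.Helper21_FeitAbC Cfsg.Agent.Lib.Helper3_CharComplete

theorem defl_eq_of_inner_eq_one_aux {H : Type*} [Group H] [Fintype H] (N : Subgroup H) [N.Normal]
    (hdefl : ∀ φ : H → ℂ, Cfsg.IsIrrCharacter H φ →
      ∃ c : ℂ, (c = 0 ∨ c = 1) ∧
        ∀ g : H, ∑ᶠ k : N, φ (g * (k : H)) = c * (Nat.card N : ℂ) * φ g)
    (ψ θ : H → ℂ) (hψ : Cfsg.IsCharacter H ψ) (hθ : Cfsg.IsIrrCharacter H θ)
    (hθN : ∀ g : H, ∀ k ∈ N, θ (g * k) = θ g)
    (hinner : Cfsg.classInner ψ θ = 1)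
    (hdeg : ∑ᶠ k : N, ψ (k : H) = (Nat.card N : ℂ) * θ 1) :
    ∀ g : H, ∑ᶠ k : N, ψ (g * (k : H)) = (Nat.card N : ℂ) * θ g := by
  classical
  have : Fintype N := Fintype.ofFinite N
  -- the 0/1-valued deflation constants
  choose c hc01 hc using fun χ : IrrCharacter H => hdefl (χ : H → ℂ) χ.2
  let e : IrrCharacter H → ℕ := fun χ => if c χ = 0 then 0 else 1
  have he : ∀ χ, (e χ : ℂ) = c χ := by
    intro χ
    rcases hc01 χ with h | h
    · simp [e, h]
    · simp [e, h]
  have hNpos : (Nat.card N : ℂ) ≠ 0 := by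
    have : 0 < Nat.card N := Nat.card_pos
    exact_mod_cast this.ne'
  set θ' : IrrCharacter H := ⟨θ, hθ⟩ with hθ'
  have hmθ : mult ψ θ' = 1 := by
    have h := mult_spec hψ θ'
    rw [show ((θ' : IrrCharacter H) : H → ℂ) = θ from rfl, hinner] at h
    exact_mod_cast h.symm
  have hdegθ : θ 1 = (deg θ' : ℂ) := deg_spec θ'
  have hdegθne : θ 1 ≠ 0 := by
    rw [hdegθ]
    have := deg_pos θ'
    exact_mod_cast this.ne'
  have hcθ : c θ' = 1 := by
    have h1 := hc θ' 1
    have h2 : ∑ᶠ k : N, (θ' : H → ℂ) (1 * (k : H)) = (Nat.card N : ℂ) * θ 1 := by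
      rw [finsum_eq_sum_of_fintype]
      have : ∀ k : N, (θ' : H → ℂ) (1 * (k : H)) = θ 1 := fun k => hθN 1 k k.2
      rw [Finset.sum_congr rfl (fun k _ => this k)]
      simp [Nat.card_eq_fintype_card]
    rw [h2] at h1
    have h1' : (Nat.card N : ℂ) * θ 1 = c θ' * (Nat.card N : ℂ) * θ 1 := h1
    have h3 : c θ' * ((Nat.card N : ℂ) * θ 1) = 1 * ((Nat.card N : ℂ) * θ 1) := by
      linear_combination -h1'
    exact mul_right_cancel₀ (mul_ne_zero hNpos hdegθne) h3
  -- the general formula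
  have hgen : ∀ g : H, ∑ᶠ k : N, ψ (g * (k : H)) =
      (Nat.card N : ℂ) * ∑ χ : IrrCharacter H, ((mult ψ χ * e χ : ℕ) : ℂ) * (χ : H → ℂ) g := by
    intro g
    rw [finsum_eq_sum_of_fintype]
    have hψg : ∀ x : H, ψ x = ∑ χ : IrrCharacter H, (mult ψ χ : ℂ) * (χ : H → ℂ) x := by
      intro x
      conv_lhs => rw [eq_sum_mult hψ]
      rw [Finset.sum_apply]
      rfl
    rw [Finset.sum_congr rfl (fun (k : N) _ => hψg (g * (k : H)))]
    rw [Finset.sum_comm, Finset.mul_sum]
    refine Finset.sum_congr rfl (fun χ _ => ?_)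
    rw [← Finset.mul_sum]
    have h1 := hc χ g
    rw [finsum_eq_sum_of_fintype] at h1
    rw [h1, ← he χ]
    push_cast
    ring
  -- the degree equation
  have hsum : ∑ χ : IrrCharacter H, mult ψ χ * e χ * deg χ = deg θ' := by
    have h1 := hgen 1
    simp only [one_mul] at h1
    rw [hdeg] at h1
    have h2 := mul_left_cancel₀ hNpos h1
    rw [hdegθ] at h2
    have h3 : ((deg θ' : ℕ) : ℂ) = ((∑ χ : IrrCharacter H, mult ψ χ * e χ * deg χ : ℕ) : ℂ) := by
      rw [h2]
      push_cast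
      refine Finset.sum_congr rfl (fun χ _ => ?_)
      rw [deg_spec]
    exact_mod_cast h3.symm
  have heθ : e θ' = 1 := by
    have := he θ'
    rw [hcθ] at this
    exact_mod_cast this
  have hzero : ∀ χ : IrrCharacter H, χ ≠ θ' → mult ψ χ * e χ = 0 := by
    intro χ hχ
    rw [← Finset.add_sum_erase _ _ (Finset.mem_univ θ'), hmθ, heθ] at hsum
    have h0 : ∑ χ ∈ Finset.univ.erase θ', mult ψ χ * e χ * deg χ = 0 := by omega
    have h1 := (Finset.sum_eq_zero_iff.mp h0) χ (Finset.mem_erase.mpr ⟨hχ, Finset.mem_univ χ⟩)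
    rcases Nat.mul_eq_zero.mp h1 with h | h
    · exact h
    · exact absurd h (deg_pos χ).ne'
  intro g
  rw [hgen g]
  congr 1
  rw [← Finset.add_sum_erase _ _ (Finset.mem_univ θ'), hmθ, heθ]
  rw [Finset.sum_eq_zero, add_zero]
  · simp [hθ']
  · intro χ hχ
    rw [hzero χ (Finset.mem_erase.mp hχ).1]
    simp

end Cfsg.Agent.Lib.Helper96_SV_HC
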