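import Mathlib
import Cfsg.Prelude.Def_Characters
import Cfsg.Agent.Lib.Helper2_SV_DEFL
import Cfsg.Agent.Lib.Helper96_SV_HCaux

/-!
# SV-HC (helper96, for helper81's S2312 market): the `N`-invariants of a character containing an
`N`-invariant irreducible character once, with the right degree (verbatim statement of the stub).
-/

set_option autoImplicit false
set_option linter.unusedSectionVars false
set_option linter.unusedVariables false

namespace Cfsg.Agent.Lib.Helper81_StVal

open Cfsg

/-! ## SV-HC: the `N`-invariants of a character containing an `N`-invariant irreducible character once,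
with the right degree -/

theorem defl_eq_of_inner_eq_one {H : Type*} [Group H] [Fintype H] (N : Subgroup H) [N.Normal]
    (ψ θ : H → ℂ) (hψ : Cfsg.IsCharacter H ψ) (hθ : Cfsg.IsIrrCharacter H θ)
    (hθN : ∀ g : H, ∀ k ∈ N, θ (g * k) = θ g)
    (hinner : Cfsg.classInner ψ θ = 1)
    (hdeg : ∑ᶠ k : N, ψ (k : H) = (Nat.card N : ℂ) * θ 1) :
    ∀ g : H, ∑ᶠ k : N, ψ (g * (k : H)) = (Nat.card N : ℂ) * θ g := by
  exact Cfsg.Agent.Lib.Helper96_SV_HC.defl_eq_of_inner_eq_one_aux N
    (fun φ hφ => defl_irr N φ hφ) ψ θ hψ hθ hθN hinner hdeg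

end Cfsg.Agent.Lib.Helper81_StVal
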