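import Mathlib
import Cfsg.Prelude.Def_ParabolicCharacters
import Cfsg.Prelude.Def_Characters
import Cfsg.Prelude.Def_Blocks
import Cfsg.Agent.Lib.Helper81_BNSub
import Cfsg.Agent.Lib.Helper81_BNBorel
import Cfsg.Agent.Lib.Helper81_PC_MAIN
import Cfsg.Agent.Lib.Helper81_CharBasic
import Cfsg.Agent.Lib.Helper75_CharArith
import Cfsg.Agent.Lib.Helper8_PC_STU
import Cfsg.Agent.Lib.Helper96_SV_HC
import Cfsg.Agent.Lib.Helper81_SV_INNER

/-!
S2312 (architect helper81, market `sv_packages`), package SV-HCBN (backup by the architect): Harish-Chandra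
restriction of the Steinberg function, `∑_{k ∈ K} St (g k) = |K| St_J g` for `g ∈ P_J`.
-/

set_option autoImplicit false
set_option linter.unusedSectionVars false
set_option linter.unusedVariables false

namespace Cfsg.Agent.Lib.Helper81_StValHcbn

open Cfsg DoubleCoset Cfsg.Agent.Lib.Helper6_Word Cfsg.Agent.Lib.Helper6_BNPair
  Cfsg.Agent.Lib.Helper81_CoxComb Cfsg.Agent.Lib.Helper81_CoxPoincare
  Cfsg.Agent.Lib.Helper81_BNSteinberg Cfsg.Agent.Lib.Helper81_BNIndex
  Cfsg.Agent.Lib.Helper81_BNBorel Cfsg.Agent.Lib.Helper81_BNSub Cfsg.Agent.Lib.Helper81_StVal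
  Cfsg.Agent.Lib.Helper81_PCountMain

/-- a normal subgroup contained in `R` acts trivially on the cosets of `R` -/
theorem fpc_mul_of_normal {H : Type*} [Group H] (R N : Subgroup H) [N.Normal] (hNR : N ≤ R)
    (g k : H) (hk : k ∈ N) :
    Cfsg.fixedPointCharacter R (g * k) = Cfsg.fixedPointCharacter R g := by
  unfold Cfsg.fixedPointCharacter
  congr 1
  have hk' : ∀ y : H ⧸ R, k • y = y := by
    intro y
    obtain ⟨x, rfl⟩ := QuotientGroup.mk_surjective y
    rw [Cfsg.Agent.Lib.Helper30_PC_DC.smul_mk_eq_iff]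
    apply hNR
    have := Subgroup.Normal.conj_mem (inferInstance : N.Normal) k hk x⁻¹
    simpa using this
  have : MulAction.fixedBy (H ⧸ R) (g * k) = MulAction.fixedBy (H ⧸ R) g := by
    ext y
    rw [MulAction.mem_fixedBy, MulAction.mem_fixedBy, mul_smul, hk' y]
  rw [this]

section main

variable {G : Type*} [Group G] [Fintype G] (P : BNPair G) (p : ℕ) [Fact p.Prime]
  {ι : Type*} [DecidableEq ι] (s : ι → G)

theorem sum_K_St_aux (I : Finset ι) (hs : s '' (I : Set ι) = P.S) (J : Finset ι) (hJI : J ⊆ I)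
    (hJ : s '' (J : Set ι) ⊆ P.S) [Fintype ↥(P.parabolic (s '' (J : Set ι)))]
    (U : Sylow p G) (hUB : (U : Subgroup G) ≤ P.B)
    (hBU : ∀ b ∈ P.B, ∃ u ∈ (U : Subgroup G), ∃ t ∈ P.B ⊓ P.N, b = u * t)
    (K : Subgroup G) (hKU : K ≤ U)
    (hKn : ∀ g ∈ P.parabolic (s '' (J : Set ι)), ∀ k ∈ K, g * k * g⁻¹ ∈ K)
    (hK : ∀ n : P.N, (n : G) ∈ P.parabolic (s '' (J : Set ι)) →
        (∀ σ : P.N, (σ : G) ∈ s '' (J : Set ι) → ℓ P (σ * n) < ℓ P n) →
        ∀ u ∈ (U : Subgroup G), (u ∈ K ↔ (n : G)⁻¹ * u * n ∈ P.B))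
    (hvan : ∀ g : G, p ∣ orderOf g → St P I s g = 0)
    (hdeg : St P I s 1 = (Nat.card (U : Subgroup G) : ℂ))
    (g : ↥(P.parabolic (s '' (J : Set ι)))) :
    ∑ᶠ k : K, St P I s ((g : G) * (k : G)) =
      (Nat.card K : ℂ) * St (subPair P (s '' (J : Set ι)) hJ) J (sSub P s J) g := by
  classical
  have hBH : P.B ≤ (P.parabolic (s '' (J : Set ι))) := B_le_parabolic P _
  have hKB : K ≤ P.B := fun k hk => hUB (hKU hk)
  have hKH : K ≤ (P.parabolic (s '' (J : Set ι))) := fun k hk => hBH (hKB hk)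
  have hNn : (K.subgroupOf (P.parabolic (s '' (J : Set ι)))).Normal := by
    constructor
    intro n hn y
    rw [Subgroup.mem_subgroupOf] at hn ⊢
    exact hKn (y : G) y.2 (n : G) hn
  have hψ : Cfsg.IsCharacter ↥(P.parabolic (s '' (J : Set ι))) (fun h : ↥(P.parabolic (s '' (J : Set ι))) => St P I s (h : G)) :=
    Cfsg.Agent.Lib.Helper75_CharArith.isCharacter_comp (P.parabolic (s '' (J : Set ι))).subtype
      (Cfsg.Agent.Lib.Helper3_CharBridge.isCharacter_of_isIrrCharacter (isIrrCharacter_St P I s hs))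
  have hθ : Cfsg.IsIrrCharacter ↥(P.parabolic (s '' (J : Set ι))) (St (subPair P (s '' (J : Set ι)) hJ) J (sSub P s J)) :=
    isIrrCharacter_St (subPair P (s '' (J : Set ι)) hJ) J (sSub P s J) (sSub_image P s J hJ)
  have hθN : ∀ x : ↥(P.parabolic (s '' (J : Set ι))), ∀ k ∈ K.subgroupOf (P.parabolic (s '' (J : Set ι))),
      St (subPair P (s '' (J : Set ι)) hJ) J (sSub P s J) (x * k) =
        St (subPair P (s '' (J : Set ι)) hJ) J (sSub P s J) x := by
    intro x k hk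
    unfold St
    refine Finset.sum_congr rfl (fun K' _ => ?_)
    congr 1
    refine fpc_mul_of_normal _ (K.subgroupOf (P.parabolic (s '' (J : Set ι)))) ?_ x k hk
    intro y hy
    apply B_le_parabolic (subPair P (s '' (J : Set ι)) hJ)
    rw [Subgroup.mem_subgroupOf] at hy
    rw [subPair_B, Subgroup.mem_subgroupOf]
    exact hKB hy
  have hinner := classInner_res_St P s I hs J hJI hJ
  have hcardN : Nat.card (K.subgroupOf (P.parabolic (s '' (J : Set ι)))) = Nat.card K :=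
    Nat.card_congr (Subgroup.subgroupOfEquivOfLe hKH).toEquiv
  have hKp : IsPGroup p K := U.isPGroup'.to_le hKU
  have hdeg' : ∑ᶠ k : K.subgroupOf (P.parabolic (s '' (J : Set ι))), (fun h : ↥(P.parabolic (s '' (J : Set ι))) => St P I s (h : G)) (k : ↥(P.parabolic (s '' (J : Set ι)))) =
      (Nat.card (K.subgroupOf (P.parabolic (s '' (J : Set ι)))) : ℂ) * St (subPair P (s '' (J : Set ι)) hJ) J (sSub P s J) 1 := by
    rw [hcardN]
    have h1 := Cfsg.Agent.Lib.Helper81_PCount.card_mul_St_subPair P p s J hJ U hUB hBU K hKU hKn hK (1 : ↥(P.parabolic (s '' (J : Set ι))))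
      (by simp)
    rw [if_pos (by simp)] at h1
    rw [h1, ← hdeg]
    rw [finsum_eq_single _ (1 : ↥(K.subgroupOf (P.parabolic (s '' (J : Set ι)))))]
    · simp
    · intro k hk
      apply hvan
      have hk2 : ((k : ↥(P.parabolic (s '' (J : Set ι)))) : G) ∈ K := by
        have := k.2
        rwa [Subgroup.mem_subgroupOf] at this
      obtain ⟨m, hm⟩ := (IsPGroup.iff_orderOf.1 hKp) ⟨((k : ↥(P.parabolic (s '' (J : Set ι)))) : G), hk2⟩
      have ho : orderOf ((k : ↥(P.parabolic (s '' (J : Set ι)))) : G) = p ^ m := by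
        rw [← hm]
        exact (Subgroup.orderOf_mk _ hk2).symm
      rw [ho]
      rcases Nat.eq_zero_or_pos m with h0 | hpos
      · exfalso
        rw [h0, pow_zero, orderOf_eq_one_iff] at ho
        apply hk
        apply Subtype.ext
        apply Subtype.ext
        simpa using ho
      · exact dvd_pow_self p hpos.ne'
  have key := defl_eq_of_inner_eq_one (K.subgroupOf (P.parabolic (s '' (J : Set ι)))) (fun h : ↥(P.parabolic (s '' (J : Set ι))) => St P I s (h : G))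
    (St (subPair P (s '' (J : Set ι)) hJ) J (sSub P s J)) hψ hθ hθN hinner hdeg' g
  have hsum : ∑ᶠ k : K.subgroupOf (P.parabolic (s '' (J : Set ι))), (fun h : ↥(P.parabolic (s '' (J : Set ι))) => St P I s (h : G)) (g * (k : ↥(P.parabolic (s '' (J : Set ι))))) =
      ∑ᶠ k : K, St P I s ((g : G) * (k : G)) := by
    apply finsum_eq_of_bijective (fun k : K.subgroupOf (P.parabolic (s '' (J : Set ι))) => (Subgroup.subgroupOfEquivOfLe hKH k : K))
      (Subgroup.subgroupOfEquivOfLe hKH).bijective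
    intro k
    rfl
  rw [hsum, hcardN] at key
  exact key

end main

end Cfsg.Agent.Lib.Helper81_StValHcbn

namespace Cfsg.Agent.Lib.Helper81_StVal

open Cfsg DoubleCoset Cfsg.Agent.Lib.Helper6_Word Cfsg.Agent.Lib.Helper6_BNPair
  Cfsg.Agent.Lib.Helper81_CoxComb Cfsg.Agent.Lib.Helper81_CoxPoincare
  Cfsg.Agent.Lib.Helper81_BNSteinberg Cfsg.Agent.Lib.Helper81_BNIndex
  Cfsg.Agent.Lib.Helper81_BNBorel Cfsg.Agent.Lib.Helper81_BNSub

section main

variable {G : Type*} [Group G] [Fintype G] (P : BNPair G) (p : ℕ) [Fact p.Prime]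
  {ι : Type*} [DecidableEq ι] (s : ι → G)

/-! ## SV-HCBN: Harish-Chandra restriction of the Steinberg character -/

theorem sum_K_St (I : Finset ι) (hs : s '' (I : Set ι) = P.S) (J : Finset ι) (hJI : J ⊆ I)
    (hJ : s '' (J : Set ι) ⊆ P.S) [Fintype ↥(P.parabolic (s '' (J : Set ι)))]
    (U : Sylow p G) (hUB : (U : Subgroup G) ≤ P.B)
    (hBU : ∀ b ∈ P.B, ∃ u ∈ (U : Subgroup G), ∃ t ∈ P.B ⊓ P.N, b = u * t)
    (K : Subgroup G) (hKU : K ≤ U)
    (hKn : ∀ g ∈ P.parabolic (s '' (J : Set ι)), ∀ k ∈ K, g * k * g⁻¹ ∈ K)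
    (hK : ∀ n : P.N, (n : G) ∈ P.parabolic (s '' (J : Set ι)) →
        (∀ σ : P.N, (σ : G) ∈ s '' (J : Set ι) → ℓ P (σ * n) < ℓ P n) →
        ∀ u ∈ (U : Subgroup G), (u ∈ K ↔ (n : G)⁻¹ * u * n ∈ P.B))
    (hvan : ∀ g : G, p ∣ orderOf g → St P I s g = 0)
    (hdeg : St P I s 1 = (Nat.card (U : Subgroup G) : ℂ))
    (g : ↥(P.parabolic (s '' (J : Set ι)))) :
    ∑ᶠ k : K, St P I s ((g : G) * (k : G)) =
      (Nat.card K : ℂ) * St (subPair P (s '' (J : Set ι)) hJ) J (sSub P s J) g :=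
  Cfsg.Agent.Lib.Helper81_StValHcbn.sum_K_St_aux P p s I hs J hJI hJ U hUB hBU K hKU hKn hK hvan hdeg g

end main

end Cfsg.Agent.Lib.Helper81_StVal
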