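import Mathlib
import Cfsg.Prelude.Def_ParabolicCharacters
import Cfsg.Prelude.Def_Characters
import Cfsg.Prelude.Def_Blocks
import Cfsg.Agent.Lib.Helper81_BNSub
import Cfsg.Agent.Lib.Helper81_BNBorel
import Cfsg.Agent.Lib.Helper8_PC_STU

/-!
# SV-ELL (helper87, market `sv_packages`, architect helper81, S2312)

The relative Steinberg function of `P_J` at an element of `P_J` with no `P_J`-conjugate in a proper
standard parabolic subgroup `P_{J'}`, `J' ⊊ J`, equals `(-1)^|J|`.
-/

set_option autoImplicit false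
set_option linter.unusedSectionVars false
set_option linter.unusedVariables false

namespace Cfsg.Agent.Lib.Helper87_SV_ELL

open Cfsg

/-- the permutation character on the cosets of `H` vanishes at `g` if no conjugate of `g` lies in `H` -/
theorem fpc_eq_zero_of_forall_not_mem {G : Type*} [Group G] (H : Subgroup G) (g : G)
    (h : ∀ y : G, y⁻¹ * g * y ∉ H) : Cfsg.fixedPointCharacter H g = 0 := by
  unfold Cfsg.fixedPointCharacter
  have hempty : IsEmpty (MulAction.fixedBy (G ⧸ H) g) := by
    refine ⟨fun x => ?_⟩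
    obtain ⟨x, hx⟩ := x
    induction x using Quotient.inductionOn' with
    | h y =>
      rw [MulAction.mem_fixedBy] at hx
      have h1 : (g • (QuotientGroup.mk y : G ⧸ H)) = QuotientGroup.mk (g * y) := rfl
      have h2 : (QuotientGroup.mk (g * y) : G ⧸ H) = QuotientGroup.mk y := by
        rw [← h1]; exact hx
      rw [QuotientGroup.eq] at h2
      apply h y
      have h3 : y⁻¹ * g * y = ((g * y)⁻¹ * y)⁻¹ := by group
      rw [h3]
      exact H.inv_mem h2
  rw [Nat.card_of_isEmpty]
  simp

/-- the permutation character on the cosets of the whole group is `1` -/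
theorem fpc_top {G : Type*} [Group G] (g : G) :
    Cfsg.fixedPointCharacter (⊤ : Subgroup G) g = 1 := by
  unfold Cfsg.fixedPointCharacter
  have hsub : Subsingleton (G ⧸ (⊤ : Subgroup G)) := QuotientGroup.subsingleton_quotient_top
  have hu : Nat.card (MulAction.fixedBy (G ⧸ (⊤ : Subgroup G)) g) = 1 := by
    rw [Nat.card_eq_one_iff_unique]
    refine ⟨⟨fun a b => Subtype.ext (Subsingleton.elim _ _)⟩, ⟨⟨QuotientGroup.mk 1, ?_⟩⟩⟩
    rw [MulAction.mem_fixedBy]
    exact Subsingleton.elim _ _
  rw [hu]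
  simp

end Cfsg.Agent.Lib.Helper87_SV_ELL

namespace Cfsg.Agent.Lib.Helper81_StVal

open Cfsg DoubleCoset Cfsg.Agent.Lib.Helper6_Word Cfsg.Agent.Lib.Helper6_BNPair
  Cfsg.Agent.Lib.Helper81_CoxComb Cfsg.Agent.Lib.Helper81_CoxPoincare
  Cfsg.Agent.Lib.Helper81_BNSteinberg Cfsg.Agent.Lib.Helper81_BNIndex
  Cfsg.Agent.Lib.Helper81_BNBorel Cfsg.Agent.Lib.Helper81_BNSub

section main

variable {G : Type*} [Group G] [Fintype G] (P : BNPair G) (p : ℕ) [Fact p.Prime]
  {ι : Type*} [DecidableEq ι] (s : ι → G)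

/-! ## SV-ELL: the relative Steinberg function at an element of `P_J` lying in no proper parabolic
subgroup of `P_J` -/

theorem St_subPair_of_elliptic (J : Finset ι) (hJ : s '' (J : Set ι) ⊆ P.S)
    [Fintype ↥(P.parabolic (s '' (J : Set ι)))]
    (g : ↥(P.parabolic (s '' (J : Set ι))))
    (hell : ∀ J' : Finset ι, J' ⊆ J → J' ≠ J → ∀ y ∈ P.parabolic (s '' (J : Set ι)),
      y⁻¹ * (g : G) * y ∉ P.parabolic (s '' (J' : Set ι))) :
    St (subPair P (s '' (J : Set ι)) hJ) J (sSub P s J) g = (-1 : ℂ) ^ J.card := by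
  classical
  unfold St
  have hpar : ∀ J' : Finset ι, J' ⊆ J →
      (subPair P (s '' (J : Set ι)) hJ).parabolic (sSub P s J '' (J' : Set ι)) =
        (P.parabolic (s '' (J' : Set ι))).subgroupOf (P.parabolic (s '' (J : Set ι))) := by
    intro J' hJ'
    rw [sSub_image_sub P s J hJ']
    exact subPair_parabolic P hJ (Set.image_mono (by exact_mod_cast hJ'))
  rw [Finset.sum_eq_single J]
  · rw [hpar J (Finset.Subset.refl J)]
    have htop : (P.parabolic (s '' (J : Set ι))).subgroupOf (P.parabolic (s '' (J : Set ι))) = ⊤ :=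
      Subgroup.subgroupOf_self _
    rw [htop, Cfsg.Agent.Lib.Helper87_SV_ELL.fpc_top, mul_one]
  · intro J' hJ' hne
    have hsub : J' ⊆ J := Finset.mem_powerset.mp hJ'
    rw [hpar J' hsub]
    rw [Cfsg.Agent.Lib.Helper87_SV_ELL.fpc_eq_zero_of_forall_not_mem, mul_zero]
    intro y hy
    rw [Subgroup.mem_subgroupOf] at hy
    exact hell J' hsub hne (y : G) y.2 (by simpa using hy)
  · intro h
    exact absurd (Finset.mem_powerset.mpr (Finset.Subset.refl J)) h

end main

end Cfsg.Agent.Lib.Helper81_StVal
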