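import Mathlib
import Cfsg.Prelude.Def_ParabolicCharacters
import Cfsg.Prelude.Def_Characters
import Cfsg.Prelude.Def_Blocks
import Cfsg.Agent.Lib.Helper81_BNSub
import Cfsg.Agent.Lib.Helper81_BNBorel
import Cfsg.Agent.Lib.Helper81_PC_MAIN
import Cfsg.Agent.Lib.Helper81_CharBasic
import Cfsg.Agent.Lib.Helper49_SV_DIV
import Cfsg.Agent.Lib.Helper70_SV_SZ
import Cfsg.Agent.Lib.Helper87_SV_ELL
import Cfsg.Agent.Lib.Helper81_SV_HCBN

set_option autoImplicit false
set_option linter.unusedSectionVars false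
set_option linter.unusedVariables false

namespace Cfsg.Agent.Lib.Helper81_StValMain

open Cfsg DoubleCoset Cfsg.Agent.Lib.Helper6_Word Cfsg.Agent.Lib.Helper6_BNPair
  Cfsg.Agent.Lib.Helper81_CoxComb Cfsg.Agent.Lib.Helper81_CoxPoincare
  Cfsg.Agent.Lib.Helper81_BNSteinberg Cfsg.Agent.Lib.Helper81_BNIndex
  Cfsg.Agent.Lib.Helper81_BNBorel Cfsg.Agent.Lib.Helper81_BNSub Cfsg.Agent.Lib.Helper81_StVal
  Cfsg.Agent.Lib.Helper81_PCountMain

variable {G : Type*} [Group G]

theorem card_centralizer_conj (x g : G) :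
    Nat.card (Subgroup.centralizer ({x * g * x⁻¹} : Set G)) =
      Nat.card (Subgroup.centralizer ({g} : Set G)) := by
  apply Nat.card_congr
  exact
    { toFun := fun c => ⟨x⁻¹ * (c : G) * x, by
        have hc := c.2
        rw [Subgroup.mem_centralizer_iff] at hc ⊢
        intro y hy
        rw [Set.mem_singleton_iff] at hy
        subst hy
        have h1 := hc (x * y * x⁻¹) rfl
        calc y * (x⁻¹ * (c : G) * x) = x⁻¹ * ((x * y * x⁻¹) * (c : G)) * x := by group
          _ = x⁻¹ * ((c : G) * (x * y * x⁻¹)) * x := by rw [h1]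
          _ = x⁻¹ * (c : G) * x * y := by group⟩
      invFun := fun c => ⟨x * (c : G) * x⁻¹, by
        have hc := c.2
        rw [Subgroup.mem_centralizer_iff] at hc ⊢
        intro y hy
        rw [Set.mem_singleton_iff] at hy
        subst hy
        have h1 := hc g rfl
        calc x * g * x⁻¹ * (x * (c : G) * x⁻¹) = x * (g * (c : G)) * x⁻¹ := by group
          _ = x * ((c : G) * g) * x⁻¹ := by rw [h1]
          _ = x * (c : G) * x⁻¹ * (x * g * x⁻¹) := by group⟩
      left_inv := fun c => by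
        apply Subtype.ext
        show x * (x⁻¹ * (c : G) * x) * x⁻¹ = c
        group
      right_inv := fun c => by
        apply Subtype.ext
        show x⁻¹ * (x * (c : G) * x⁻¹) * x = c
        group }

section main

variable [Fintype G] (P : BNPair G) (p : ℕ) [Fact p.Prime]
  {ι : Type*} [DecidableEq ι] (s : ι → G)

theorem St_conj (I : Finset ι) (x g : G) : St P I s (x * g * x⁻¹) = St P I s g := by
  unfold St
  apply Finset.sum_congr rfl
  intro J _
  congr 1
  unfold Cfsg.fixedPointCharacter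
  congr 1
  apply Nat.card_congr
  exact
    { toFun := fun y => ⟨x⁻¹ • (y : G ⧸ P.parabolic (s '' (J : Set ι))), by
        have hy := y.2
        rw [MulAction.mem_fixedBy] at hy ⊢
        calc g • x⁻¹ • (y : G ⧸ P.parabolic (s '' (J : Set ι)))
            = x⁻¹ • ((x * g * x⁻¹) • (y : G ⧸ P.parabolic (s '' (J : Set ι)))) := by
              simp only [smul_smul]; congr 1; group
          _ = x⁻¹ • (y : G ⧸ P.parabolic (s '' (J : Set ι))) := by rw [hy]⟩
      invFun := fun y => ⟨x • (y : G ⧸ P.parabolic (s '' (J : Set ι))), by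
        have hy := y.2
        rw [MulAction.mem_fixedBy] at hy ⊢
        calc (x * g * x⁻¹) • x • (y : G ⧸ P.parabolic (s '' (J : Set ι)))
            = x • (g • (y : G ⧸ P.parabolic (s '' (J : Set ι)))) := by
              simp only [smul_smul]; congr 1; group
          _ = x • (y : G ⧸ P.parabolic (s '' (J : Set ι))) := by rw [hy]⟩
      left_inv := fun y => by
        apply Subtype.ext
        show x • x⁻¹ • (y : G ⧸ P.parabolic (s '' (J : Set ι))) = y
        rw [smul_smul, mul_inv_cancel, one_smul]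
      right_inv := fun y => by
        apply Subtype.ext
        show x⁻¹ • x • (y : G ⧸ P.parabolic (s '' (J : Set ι))) = y
        rw [smul_smul, inv_mul_cancel, one_smul] }

/-- the value at an element `g' ∈ P_J` with no `P_J`-conjugate in a smaller standard parabolic subgroup -/
theorem St_of_elliptic (I : Finset ι) (hs : s '' (I : Set ι) = P.S)
    (U : Sylow p G) (hUB : (U : Subgroup G) ≤ P.B)
    (hBU : ∀ b ∈ P.B, ∃ u ∈ (U : Subgroup G), ∃ t ∈ P.B ⊓ P.N, b = u * t)
    (J : Finset ι) (hJI : J ⊆ I)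
    (K : Subgroup G) (hKU : K ≤ U)
    (hKn : ∀ g ∈ P.parabolic (s '' (J : Set ι)), ∀ k ∈ K, g * k * g⁻¹ ∈ K)
    (hK : ∀ n : P.N, (n : G) ∈ P.parabolic (s '' (J : Set ι)) →
        (∀ σ : P.N, (σ : G) ∈ s '' (J : Set ι) → ℓ P (σ * n) < ℓ P n) →
        ∀ u ∈ (U : Subgroup G), (u ∈ K ↔ (n : G)⁻¹ * u * n ∈ P.B))
    (hvan : ∀ g : G, p ∣ orderOf g → St P I s g = 0)
    (hdeg : St P I s 1 = (Nat.card (U : Subgroup G) : ℂ))
    (g : G) (hg : ¬ p ∣ orderOf g) (hgJ : g ∈ P.parabolic (s '' (J : Set ι)))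
    (hell : ∀ J' : Finset ι, J' ⊆ J → J' ≠ J → ∀ y ∈ P.parabolic (s '' (J : Set ι)),
      y⁻¹ * g * y ∉ P.parabolic (s '' (J' : Set ι))) :
    ∃ a : ℕ, St P I s g = (-1 : ℂ) ^ J.card * ((p ^ a : ℕ) : ℂ) ∧
      a ≤ (Nat.card (Subgroup.centralizer ({g} : Set G))).factorization p := by
  classical
  have hJ : s '' (J : Set ι) ⊆ P.S := image_subset_S P I s hs hJI
  have : Fintype ↥(P.parabolic (s '' (J : Set ι))) := Fintype.ofFinite _
  set H := P.parabolic (s '' (J : Set ι)) with hH
  have hKH : K ≤ H := hKU.trans (hUB.trans (B_le_parabolic P _))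
  -- the element of `P_J`
  set gJ : ↥H := ⟨g, hgJ⟩ with hgJdef
  have h4 := St_subPair_of_elliptic P s J hJ gJ hell
  have h5 := sum_K_St P p s I hs J hJI hJ U hUB hBU K hKU hKn hK hvan hdeg gJ
  -- Schur–Zassenhaus in `P_J`
  have hNn : (K.subgroupOf H).Normal := by
    constructor
    intro n hn y
    rw [Subgroup.mem_subgroupOf] at hn ⊢
    exact hKn (y : G) y.2 (n : G) hn
  have hNp : IsPGroup p (K.subgroupOf H) := by
    have h1 : IsPGroup p K := U.isPGroup'.to_le hKU
    exact h1.of_equiv (Subgroup.subgroupOfEquivOfLe hKH).symm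
  have hcl : Cfsg.IsClassFunction ↥H (fun h : ↥H => St P I s (h : G)) := by
    intro a b
    exact St_conj P s I (b : G) (a : G)
  have hvanH : ∀ h : ↥H, p ∣ orderOf h → (fun h : ↥H => St P I s (h : G)) h = 0 := by
    intro h hh
    apply hvan
    rwa [Subgroup.orderOf_coe]
  have hgJo : ¬ p ∣ orderOf gJ := by
    rw [← Subgroup.orderOf_coe]
    exact hg
  have h6 := sum_coset_of_vanish p (K.subgroupOf H) hNp (fun h : ↥H => St P I s (h : G)) hcl hvanH gJ hgJo
  -- convert the sum over `K.subgroupOf H` into a sum over `K`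
  have hsum : ∑ᶠ k : K.subgroupOf H, (fun h : ↥H => St P I s (h : G)) (gJ * (k : ↥H)) =
      ∑ᶠ k : K, St P I s (g * (k : G)) := by
    apply finsum_eq_of_bijective (fun k : K.subgroupOf H => (Subgroup.subgroupOfEquivOfLe hKH k : K))
      (Subgroup.subgroupOfEquivOfLe hKH).bijective
    intro k
    rfl
  have hcardN : Nat.card (K.subgroupOf H) = Nat.card K :=
    Nat.card_congr (Subgroup.subgroupOfEquivOfLe hKH).toEquiv
  rw [hsum, h5, h4, hcardN] at h6
  have hK0 : (Nat.card K : ℂ) ≠ 0 := by exact_mod_cast (Nat.card_pos (α := K)).ne'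
  -- the centralizer of `g` in `K`
  set C := (K.subgroupOf H ⊓ Subgroup.centralizer ({gJ} : Set ↥H) : Subgroup ↥H) with hC
  have hCp : IsPGroup p C := hNp.to_le inf_le_left
  obtain ⟨a, ha⟩ := hCp.exists_card_eq
  have hval : St P I s g = (-1 : ℂ) ^ J.card * ((p ^ a : ℕ) : ℂ) := by
    have h7 : (Nat.card K : ℂ) * ((Nat.card C : ℂ) * (-1 : ℂ) ^ J.card) =
        (Nat.card K : ℂ) * St P I s g := by
      rw [← h6]
      ring
    have h8 := mul_left_cancel₀ hK0 h7
    rw [← h8, ha]
    ring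
  refine ⟨a, hval, ?_⟩
  -- `C` embeds into the centralizer of `g`
  let f : C →* Subgroup.centralizer ({g} : Set G) :=
    { toFun := fun c => ⟨((c : ↥H) : G), by
        have hc := (Subgroup.mem_inf.1 c.2).2
        rw [Subgroup.mem_centralizer_iff] at hc ⊢
        intro y hy
        rw [Set.mem_singleton_iff] at hy
        subst hy
        have := hc gJ rfl
        exact congrArg Subtype.val this⟩
      map_one' := rfl
      map_mul' := fun _ _ => rfl }
  have hf : Function.Injective f := by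
    intro c c' hcc
    apply Subtype.ext
    apply Subtype.ext
    exact congrArg (fun z : ↥(Subgroup.centralizer ({g} : Set G)) => (z : G)) hcc
  have hdvd := Subgroup.card_dvd_of_injective f hf
  rw [ha] at hdvd
  have hp : p.Prime := Fact.out
  have hne : Nat.card (Subgroup.centralizer ({g} : Set G)) ≠ 0 := Nat.card_pos.ne'
  exact (hp.pow_dvd_iff_le_factorization hne).1 hdvd

end main

end Cfsg.Agent.Lib.Helper81_StValMain

namespace Cfsg.Agent.Lib.Helper81_StVal

open Cfsg DoubleCoset Cfsg.Agent.Lib.Helper6_Word Cfsg.Agent.Lib.Helper6_BNPair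
  Cfsg.Agent.Lib.Helper81_CoxComb Cfsg.Agent.Lib.Helper81_CoxPoincare
  Cfsg.Agent.Lib.Helper81_BNSteinberg Cfsg.Agent.Lib.Helper81_BNIndex
  Cfsg.Agent.Lib.Helper81_BNBorel Cfsg.Agent.Lib.Helper81_BNSub Cfsg.Agent.Lib.Helper81_StValMain
  Cfsg.Agent.Lib.Helper81_PCountMain

variable {G : Type*} [Group G] [Fintype G] (P : BNPair G) (p : ℕ) [Fact p.Prime]
  {ι : Type*} [DecidableEq ι] (s : ι → G)

/-- the values of the Steinberg character at the `p`-regular elements -/
theorem St_pRegular (I : Finset ι) (hs : s '' (I : Set ι) = P.S)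
    (U : Sylow p G) (hUB : (U : Subgroup G) ≤ P.B)
    (hBU : ∀ b ∈ P.B, ∃ u ∈ (U : Subgroup G), ∃ t ∈ P.B ⊓ P.N, b = u * t)
    (K : Finset ι → Subgroup G) (hKU : ∀ J ⊆ I, K J ≤ U)
    (hKn : ∀ J ⊆ I, ∀ g ∈ P.parabolic (s '' (J : Set ι)), ∀ k ∈ K J, g * k * g⁻¹ ∈ K J)
    (hK : ∀ J ⊆ I, ∀ n : P.N, (n : G) ∈ P.parabolic (s '' (J : Set ι)) →
        (∀ σ : P.N, (σ : G) ∈ s '' (J : Set ι) → ℓ P (σ * n) < ℓ P n) →
        ∀ u ∈ (U : Subgroup G), (u ∈ K J ↔ (n : G)⁻¹ * u * n ∈ P.B))
    (hvan : ∀ g : G, p ∣ orderOf g → St P I s g = 0)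
    (hdeg : St P I s 1 = (Nat.card (U : Subgroup G) : ℂ))
    (g : G) (hg : ¬ p ∣ orderOf g) :
    St P I s g = ((p ^ (Nat.card (Subgroup.centralizer ({g} : Set G))).factorization p : ℕ) : ℂ) ∨
      St P I s g =
        -((p ^ (Nat.card (Subgroup.centralizer ({g} : Set G))).factorization p : ℕ) : ℂ) := by
  classical
  -- a standard parabolic subgroup of minimal rank containing a conjugate of `g`
  let Q : Finset ι → Prop := fun J => ∃ x : G, x * g * x⁻¹ ∈ P.parabolic (s '' (J : Set ι))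
  have hne : (I.powerset.filter Q).Nonempty := by
    refine ⟨I, ?_⟩
    rw [Finset.mem_filter, Finset.mem_powerset]
    refine ⟨Finset.Subset.refl I, 1, ?_⟩
    rw [hs, parabolic_S_eq_top]
    exact Subgroup.mem_top _
  obtain ⟨J, hJmem, hJmin⟩ := Finset.exists_min_image (I.powerset.filter Q) Finset.card hne
  rw [Finset.mem_filter, Finset.mem_powerset] at hJmem
  obtain ⟨hJI, x, hx⟩ := hJmem
  set g' := x * g * x⁻¹ with hg'
  have hg'o : ¬ p ∣ orderOf g' := by
    rw [hg', orderOf_conj']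
    exact hg
  have hell : ∀ J' : Finset ι, J' ⊆ J → J' ≠ J → ∀ y ∈ P.parabolic (s '' (J : Set ι)),
      y⁻¹ * g' * y ∉ P.parabolic (s '' (J' : Set ι)) := by
    intro J' hJ'J hne' y hy hcon
    have hmem : J' ∈ I.powerset.filter Q := by
      rw [Finset.mem_filter, Finset.mem_powerset]
      refine ⟨hJ'J.trans hJI, y⁻¹ * x, ?_⟩
      have e : y⁻¹ * x * g * (y⁻¹ * x)⁻¹ = y⁻¹ * g' * y := by
        rw [hg']
        group
      rw [e]
      exact hcon
    have h1 := hJmin J' hmem
    have h2 := Finset.card_lt_card (Finset.ssubset_iff_subset_ne.2 ⟨hJ'J, hne'⟩)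
    omega
  obtain ⟨a, hval, hale⟩ := St_of_elliptic P p s I hs U hUB hBU J hJI (K J) (hKU J hJI) (hKn J hJI)
    (hK J hJI) hvan hdeg g' hg'o hx hell
  -- the other inequality, by integrality of the central character
  have hirr := isIrrCharacter_St P I s hs
  have h1 : St P I s 1 = ((p ^ (Nat.card G).factorization p : ℕ) : ℂ) := by
    rw [hdeg, Sylow.card_eq_multiplicity]
  have hval' : St P I s g' = ((p ^ a : ℕ) : ℂ) ∨ St P I s g' = -((p ^ a : ℕ) : ℂ) := by
    rw [hval]
    rcases neg_one_pow_eq_or ℂ J.card with h | h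
    · left; rw [h, one_mul]
    · right; rw [h]; ring
  have hge := factorization_centralizer_le p (St P I s) hirr _ h1 rfl g' a hval'
  have hae : a = (Nat.card (Subgroup.centralizer ({g'} : Set G))).factorization p := le_antisymm hale hge
  have hcc : Nat.card (Subgroup.centralizer ({g'} : Set G)) =
      Nat.card (Subgroup.centralizer ({g} : Set G)) := card_centralizer_conj x g
  have hSt : St P I s g' = St P I s g := St_conj P s I x g
  rw [hSt, hae, hcc] at hval'
  exact hval'

end Cfsg.Agent.Lib.Helper81_StVal
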