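import Mathlib

/-!
# Self-paired orbitals and the count `∑ π(g²)` (helper81)

For a finite group `G` acting on a finite set `Ω` with fixed-point counts `π`:
every pair of points can be interchanged by some element iff `∑ π(g²) = ∑ π(g)²`.
-/

set_option autoImplicit false

namespace Cfsg.Agent.Lib.Helper81_SelfPaired

open MulAction Finset

variable {G : Type*} [Group G] [Fintype G] {Ω : Type*} [Fintype Ω] [MulAction G Ω]

omit [Fintype G] in
theorem natCard_fixedBy_eq [DecidableEq Ω] (g : G) :
    Nat.card (fixedBy Ω g) = (univ.filter fun a : Ω => g • a = a).card := by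
  rw [← Nat.subtype_card (univ.filter fun a : Ω => g • a = a) (p := fun a => g • a = a)
    (by intro x; simp)]
  rfl

/-- elements interchanging `a` and `b` -/
noncomputable def swapSet [DecidableEq Ω] (p : Ω × Ω) : Finset G :=
  univ.filter fun g : G => g • p.1 = p.2 ∧ g • p.2 = p.1

/-- elements fixing `a` and `b` -/
noncomputable def fixSet [DecidableEq Ω] (p : Ω × Ω) : Finset G :=
  univ.filter fun g : G => g • p.1 = p.1 ∧ g • p.2 = p.2

theorem sum_fixed_sq_eq [DecidableEq Ω] :
    ∑ g : G, Nat.card (fixedBy Ω (g * g)) = ∑ p : Ω × Ω, (swapSet (G := G) p).card := by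
  have h1 := Finset.sum_card_bipartiteAbove_eq_sum_card_bipartiteBelow
    (s := (univ : Finset G)) (t := (univ : Finset (Ω × Ω)))
    (r := fun g p => g • p.1 = p.2 ∧ g • p.2 = p.1)
  have h2 : ∀ p : Ω × Ω, (univ : Finset G).bipartiteBelow
      (fun g p => g • p.1 = p.2 ∧ g • p.2 = p.1) p = swapSet p := fun p => rfl
  simp only [h2] at h1
  rw [← h1]
  refine Finset.sum_congr rfl fun g _ => ?_
  rw [natCard_fixedBy_eq]
  refine Finset.card_bij (fun a _ => (a, g • a)) ?_ ?_ ?_
  · intro a ha
    simp only [mem_filter, mem_univ, true_and] at ha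
    simp only [bipartiteAbove, mem_filter, mem_univ, true_and]
    rw [← mul_smul]; exact ha
  · intro a _ b _ h
    exact congrArg Prod.fst h
  · intro p hp
    simp only [bipartiteAbove, mem_filter, mem_univ, true_and] at hp
    refine ⟨p.1, ?_, ?_⟩
    · simp only [mem_filter, mem_univ, true_and]
      rw [mul_smul, hp.1, hp.2]
    · exact Prod.ext rfl hp.1

theorem sum_sq_fixed_eq [DecidableEq Ω] :
    ∑ g : G, Nat.card (fixedBy Ω g) ^ 2 = ∑ p : Ω × Ω, (fixSet (G := G) p).card := by
  have h1 := Finset.sum_card_bipartiteAbove_eq_sum_card_bipartiteBelow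
    (s := (univ : Finset G)) (t := (univ : Finset (Ω × Ω)))
    (r := fun g p => g • p.1 = p.1 ∧ g • p.2 = p.2)
  have h2 : ∀ p : Ω × Ω, (univ : Finset G).bipartiteBelow
      (fun g p => g • p.1 = p.1 ∧ g • p.2 = p.2) p = fixSet p := fun p => rfl
  simp only [h2] at h1
  rw [← h1]
  refine Finset.sum_congr rfl fun g _ => ?_
  rw [natCard_fixedBy_eq, sq, ← Finset.card_product]
  congr 1
  ext p
  simp [bipartiteAbove]

omit [Fintype Ω] in
theorem card_swapSet [DecidableEq Ω] (p : Ω × Ω) :
    (swapSet (G := G) p).card = if ∃ g : G, g • p.1 = p.2 ∧ g • p.2 = p.1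
      then (fixSet (G := G) p).card else 0 := by
  split_ifs with h
  · obtain ⟨g0, h1, h2⟩ := h
    symm
    refine Finset.card_bij' (fun g _ => g0 * g) (fun g _ => g0⁻¹ * g) ?_ ?_ ?_ ?_
    · intro g hg
      simp only [fixSet, mem_filter, mem_univ, true_and] at hg
      simp only [swapSet, mem_filter, mem_univ, true_and]
      rw [mul_smul, mul_smul, hg.1, hg.2]
      exact ⟨h1, h2⟩
    · intro g hg
      simp only [swapSet, mem_filter, mem_univ, true_and] at hg
      simp only [fixSet, mem_filter, mem_univ, true_and]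
      rw [mul_smul, mul_smul, hg.1, hg.2, ← h2, inv_smul_smul, h2, ← h1, inv_smul_smul]
      exact ⟨rfl, rfl⟩
    · intro g _; simp
    · intro g _; simp
  · rw [Finset.card_eq_zero, swapSet, Finset.filter_eq_empty_iff]
    intro g _ hg
    exact h ⟨g, hg⟩

omit [Fintype Ω] in
theorem fixSet_card_pos [DecidableEq Ω] (p : Ω × Ω) : 0 < (fixSet (G := G) p).card := by
  apply Finset.card_pos.mpr
  exact ⟨1, by simp [fixSet]⟩

/-- every pair can be interchanged iff `∑ π(g²) = ∑ π(g)²` -/
theorem all_swap_iff :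
    (∀ a b : Ω, ∃ g : G, g • a = b ∧ g • b = a) ↔
      ∑ g : G, Nat.card (fixedBy Ω (g * g)) = ∑ g : G, Nat.card (fixedBy Ω g) ^ 2 := by
  classical
  rw [sum_fixed_sq_eq, sum_sq_fixed_eq]
  constructor
  · intro h
    refine Finset.sum_congr rfl fun p _ => ?_
    rw [card_swapSet, if_pos (h p.1 p.2)]
  · intro h a b
    have hle : ∀ p ∈ (univ : Finset (Ω × Ω)),
        (swapSet (G := G) p).card ≤ (fixSet (G := G) p).card := by
      intro p _
      rw [card_swapSet]
      split_ifs
      · exact le_refl _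
      · exact Nat.zero_le _
    have h1 := (Finset.sum_eq_sum_iff_of_le hle).mp h (a, b) (mem_univ _)
    by_contra hcon
    rw [card_swapSet, if_neg hcon] at h1
    have := fixSet_card_pos (G := G) (a, b)
    omega

end Cfsg.Agent.Lib.Helper81_SelfPaired
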