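/-
Steinberg's presentation (helper81): the embedding of the roots of type E6 into the roots of type E7.
-/
import Cfsg.Agent.Lib.Helper81_StSubDef
import Cfsg.Prelude.Def_ChevE6
import Cfsg.Prelude.Def_ChevE7

set_option autoImplicit false

namespace Cfsg.Agent.Lib.Helper81_StSubE6Base

open Cfsg Cfsg.Lie Cfsg.Agent.Lib.Helper81_StSubDef

/-- The indices in the datum of type E7 of the roots of the datum of type E6. -/
def iotaL : List ℕ := [6, 10, 13, 15, 16, 19, 21, 22, 24, 25, 26, 28, 29, 30, 31, 32, 35, 37, 38, 40, 41, 42, 44, 45, 46, 47, 49, 50, 51, 52, 54, 55, 56, 58, 59, 61, 64, 66, 67, 69, 70, 71, 73, 74, 75, 76, 78, 79, 80, 81, 83, 84, 85, 87, 88, 90, 93, 94, 95, 96, 97, 99, 100, 101, 103, 104, 106, 109, 110, 112, 115, 119]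

/-- The embedding of the roots (out of range for an index that is out of range). -/
def iota (r : ℕ) : ℕ := iotaL.getD r chevE7.nroots

end Cfsg.Agent.Lib.Helper81_StSubE6Base
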