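/-
Steinberg's presentation (helper81): the datum of type E6 is the restriction of the datum of type E7 to the roots
without the last fundamental root (certificates checked by the kernel).
-/
import Mathlib
import Cfsg.Agent.Lib.Helper81_StSub
import Cfsg.Agent.Lib.Helper81_StSubE6Base
import Cfsg.Agent.Lib.Helper81_StSubE6C0
import Cfsg.Agent.Lib.Helper81_StSubE6C1

set_option autoImplicit false

namespace Cfsg.Agent.Lib.Helper81_StSubE6

open Cfsg Cfsg.Lie Cfsg.Agent.Lib.Helper81_StSub Cfsg.Agent.Lib.Helper81_StSubDef
  Cfsg.Agent.Lib.Helper81_StSubE6Base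

theorem iota_ge : ∀ r, ¬ r < chevE6.nroots → ¬ iota r < chevE7.nroots := by
  intro r hr
  have hlen : iotaL.length = chevE6.nroots := by decide +kernel
  unfold iota
  rw [List.getD_eq_default _ _ (by rw [hlen]; exact Nat.le_of_not_lt hr)]
  exact lt_irrefl _

set_option maxRecDepth 100000 in
theorem iota_lt : ∀ r < chevE6.nroots, iota r < chevE7.nroots := by decide +kernel

set_option maxRecDepth 100000 in
theorem iota_inj : ∀ r < chevE6.nroots, ∀ s < chevE6.nroots, iota r = iota s → r = s := by decide +kernel

set_option maxRecDepth 100000 in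
theorem iota_neg : ∀ r < chevE6.nroots, iota (chevE6.neg r) = chevE7.neg (iota r) := by decide +kernel

set_option maxRecDepth 100000 in
theorem neg_lt : ∀ r < chevE6.nroots, chevE6.neg r < chevE6.nroots := by decide +kernel

set_option maxRecDepth 100000 in
theorem iota_simple : ∀ i < chevE6.rank, iota (chevE6.simple i) = chevE7.simple i ∧
    chevE6.simple i < chevE6.nroots := by decide +kernel

theorem iota_comm : ∀ r < chevE6.nroots, commOK chevE6 chevE7 iota r = true := by
  intro r hr
  have hn : chevE6.nroots = 72 := rfl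
  rw [hn] at hr
  by_cases h0 : r < 36
  · exact commBlock_spec Cfsg.Agent.Lib.Helper81_StSubE6C0.block r (by omega) (by omega)
  exact commBlock_spec Cfsg.Agent.Lib.Helper81_StSubE6C1.block r (by omega) (by omega)

theorem subCert : SubCert chevE6 chevE7 iota where
  lt := iota_lt
  ge := iota_ge
  inj := iota_inj
  neg := iota_neg
  neg_lt := neg_lt
  comm := iota_comm
  simple := iota_simple
  rank_le := by decide

theorem mCert : MCert chevE6 chevE7 [[0, -1, -1, -2, -2, -2, -2], [1, 2, 2, 3, 2, 1, 0], [1, 1, 2, 2, 1, 0, -1], [0, 0, 0, 0, -1, -2, -3], [0, 0, 0, 0, 0, -1, -2], [0, 0, 0, 0, 0, 0, -1]] := by decide +kernel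

end Cfsg.Agent.Lib.Helper81_StSubE6
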