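/-
Steinberg's presentation (helper81): the embedding of the roots of type E7 into the roots of type E8.
-/
import Cfsg.Agent.Lib.Helper81_StSubDef
import Cfsg.Prelude.Def_ChevE7
import Cfsg.Prelude.Def_ChevE8

set_option autoImplicit false

namespace Cfsg.Agent.Lib.Helper81_StSubE7Base

open Cfsg Cfsg.Lie Cfsg.Agent.Lib.Helper81_StSubDef

/-- The indices in the datum of type E8 of the roots of the datum of type E7. -/
def iotaL : List ℕ := [13, 20, 25, 29, 32, 34, 35, 39, 42, 44, 45, 48, 50, 51, 53, 54, 55, 58, 60, 61, 63, 64, 65, 67, 68, 69, 70, 72, 73, 74, 75, 76, 77, 80, 82, 83, 85, 86, 87, 89, 90, 91, 92, 94, 95, 96, 97, 98, 100, 101, 102, 103, 104, 106, 107, 108, 109, 111, 112, 113, 115, 116, 118, 121, 123, 124, 126, 127, 128, 130, 131, 132, 133, 135, 136, 137, 138, 139, 141, 142, 143, 144, 145, 147, 148, 149, 150, 152, 153, 154, 156, 157, 159, 162, 163, 164, 165, 166, 167, 169, 170, 171, 172, 174, 175, 176, 178, 179, 181, 184, 185, 186, 188, 189, 191, 194, 195, 197, 200, 204, 205, 207, 210, 214, 219, 226]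

/-- The embedding of the roots (out of range for an index that is out of range). -/
def iota (r : ℕ) : ℕ := iotaL.getD r chevE8.nroots

end Cfsg.Agent.Lib.Helper81_StSubE7Base
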