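/-
Steinberg's presentation (helper81): the datum of type E7 is the restriction of the datum of type E8 to the roots
without the last fundamental root (certificates checked by the kernel).
-/
import Mathlib
import Cfsg.Agent.Lib.Helper81_StSub
import Cfsg.Agent.Lib.Helper81_StSubE7Base
import Cfsg.Agent.Lib.Helper81_StSubE7C0
import Cfsg.Agent.Lib.Helper81_StSubE7C1
import Cfsg.Agent.Lib.Helper81_StSubE7C2
import Cfsg.Agent.Lib.Helper81_StSubE7C3
import Cfsg.Agent.Lib.Helper81_StSubE7C4
import Cfsg.Agent.Lib.Helper81_StSubE7C5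
import Cfsg.Agent.Lib.Helper81_StSubE7C6
import Cfsg.Agent.Lib.Helper81_StSubE7C7
import Cfsg.Agent.Lib.Helper81_StSubE7C8
import Cfsg.Agent.Lib.Helper81_StSubE7C9
import Cfsg.Agent.Lib.Helper81_StSubE7C10
import Cfsg.Agent.Lib.Helper81_StSubE7C11
import Cfsg.Agent.Lib.Helper81_StSubE7C12
import Cfsg.Agent.Lib.Helper81_StSubE7C13
import Cfsg.Agent.Lib.Helper81_StSubE7C14
import Cfsg.Agent.Lib.Helper81_StSubE7C15
import Cfsg.Agent.Lib.Helper81_StSubE7C16
import Cfsg.Agent.Lib.Helper81_StSubE7C17

set_option autoImplicit false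

namespace Cfsg.Agent.Lib.Helper81_StSubE7

open Cfsg Cfsg.Lie Cfsg.Agent.Lib.Helper81_StSub Cfsg.Agent.Lib.Helper81_StSubDef
  Cfsg.Agent.Lib.Helper81_StSubE7Base

theorem iota_ge : ∀ r, ¬ r < chevE7.nroots → ¬ iota r < chevE8.nroots := by
  intro r hr
  have hlen : iotaL.length = chevE7.nroots := by decide +kernel
  unfold iota
  rw [List.getD_eq_default _ _ (by rw [hlen]; exact Nat.le_of_not_lt hr)]
  exact lt_irrefl _

set_option maxRecDepth 100000 in
theorem iota_lt : ∀ r < chevE7.nroots, iota r < chevE8.nroots := by decide +kernel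

set_option maxRecDepth 100000 in
theorem iota_inj : ∀ r < chevE7.nroots, ∀ s < chevE7.nroots, iota r = iota s → r = s := by decide +kernel

set_option maxRecDepth 100000 in
theorem iota_neg : ∀ r < chevE7.nroots, iota (chevE7.neg r) = chevE8.neg (iota r) := by decide +kernel

set_option maxRecDepth 100000 in
theorem neg_lt : ∀ r < chevE7.nroots, chevE7.neg r < chevE7.nroots := by decide +kernel

set_option maxRecDepth 100000 in
theorem iota_simple : ∀ i < chevE7.rank, iota (chevE7.simple i) = chevE8.simple i ∧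
    chevE7.simple i < chevE7.nroots := by decide +kernel

theorem iota_comm : ∀ r < chevE7.nroots, commOK chevE7 chevE8 iota r = true := by
  intro r hr
  have hn : chevE7.nroots = 126 := rfl
  rw [hn] at hr
  by_cases h0 : r < 7
  · exact commBlock_spec Cfsg.Agent.Lib.Helper81_StSubE7C0.block r (by omega) (by omega)
  by_cases h1 : r < 14
  · exact commBlock_spec Cfsg.Agent.Lib.Helper81_StSubE7C1.block r (by omega) (by omega)
  by_cases h2 : r < 21
  · exact commBlock_spec Cfsg.Agent.Lib.Helper81_StSubE7C2.block r (by omega) (by omega)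
  by_cases h3 : r < 28
  · exact commBlock_spec Cfsg.Agent.Lib.Helper81_StSubE7C3.block r (by omega) (by omega)
  by_cases h4 : r < 35
  · exact commBlock_spec Cfsg.Agent.Lib.Helper81_StSubE7C4.block r (by omega) (by omega)
  by_cases h5 : r < 42
  · exact commBlock_spec Cfsg.Agent.Lib.Helper81_StSubE7C5.block r (by omega) (by omega)
  by_cases h6 : r < 49
  · exact commBlock_spec Cfsg.Agent.Lib.Helper81_StSubE7C6.block r (by omega) (by omega)
  by_cases h7 : r < 56
  · exact commBlock_spec Cfsg.Agent.Lib.Helper81_StSubE7C7.block r (by omega) (by omega)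
  by_cases h8 : r < 63
  · exact commBlock_spec Cfsg.Agent.Lib.Helper81_StSubE7C8.block r (by omega) (by omega)
  by_cases h9 : r < 70
  · exact commBlock_spec Cfsg.Agent.Lib.Helper81_StSubE7C9.block r (by omega) (by omega)
  by_cases h10 : r < 77
  · exact commBlock_spec Cfsg.Agent.Lib.Helper81_StSubE7C10.block r (by omega) (by omega)
  by_cases h11 : r < 84
  · exact commBlock_spec Cfsg.Agent.Lib.Helper81_StSubE7C11.block r (by omega) (by omega)
  by_cases h12 : r < 91
  · exact commBlock_spec Cfsg.Agent.Lib.Helper81_StSubE7C12.block r (by omega) (by omega)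
  by_cases h13 : r < 98
  · exact commBlock_spec Cfsg.Agent.Lib.Helper81_StSubE7C13.block r (by omega) (by omega)
  by_cases h14 : r < 105
  · exact commBlock_spec Cfsg.Agent.Lib.Helper81_StSubE7C14.block r (by omega) (by omega)
  by_cases h15 : r < 112
  · exact commBlock_spec Cfsg.Agent.Lib.Helper81_StSubE7C15.block r (by omega) (by omega)
  by_cases h16 : r < 119
  · exact commBlock_spec Cfsg.Agent.Lib.Helper81_StSubE7C16.block r (by omega) (by omega)
  exact commBlock_spec Cfsg.Agent.Lib.Helper81_StSubE7C17.block r (by omega) (by omega)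

theorem subCert : SubCert chevE7 chevE8 iota where
  lt := iota_lt
  ge := iota_ge
  inj := iota_inj
  neg := iota_neg
  neg_lt := neg_lt
  comm := iota_comm
  simple := iota_simple
  rank_le := by decide

theorem mCert : MCert chevE7 chevE8 [[0, -1, -1, -2, -2, -2, -2, -2], [1, 2, 2, 3, 2, 1, 0, -1], [1, 1, 2, 2, 1, 0, -1, -2], [0, 0, 0, 0, -1, -2, -3, -4], [0, 0, 0, 0, 0, -1, -2, -3], [0, 0, 0, 0, 0, 0, -1, -2], [0, 0, 0, 0, 0, 0, 0, -1]] := by decide +kernel

end Cfsg.Agent.Lib.Helper81_StSubE7
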