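/-
Steinberg's presentation (helper81): the order of the centre of the group presented by (R1), (R2), (R3) for the types
`E₆` and `E₇` over a finite field.
-/
import Mathlib
import Cfsg.Agent.Lib.Helper81_StCenter
import Cfsg.Agent.Lib.Helper81_StSubE6
import Cfsg.Agent.Lib.Helper81_StSubE7
import Cfsg.Agent.Lib.Helper18_ChevAutCertsE6
import Cfsg.Agent.Lib.Helper18_ChevAutCertsE7

set_option autoImplicit false

namespace Cfsg.Agent.Lib.Helper81_StCenterB

open Cfsg Cfsg.Lie Cfsg.Agent.Lib.Helper18_ChevWeyl Cfsg.Agent.Lib.Helper18_ChevUni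
  Cfsg.Agent.Lib.Helper18_ChevComm2 Cfsg.Agent.Lib.Helper18_ChevAutH Cfsg.Agent.Lib.Helper18_TorusKer
  Cfsg.Agent.Lib.Helper81_StSub Cfsg.Agent.Lib.Helper81_StCenter

variable {K : Type*} [Field K] [Fintype K]

theorem card_units_eq : Nat.card Kˣ = Fintype.card K - 1 := by
  classical
  rw [Nat.card_eq_fintype_card, Fintype.card_units]

theorem card_center_E6 :
    Nat.card (Subgroup.center (chevE6.SteinbergGroup K)) = Nat.gcd 3 (Fintype.card K - 1) := by
  obtain ⟨Ns, w, d, Ts, hT, K', base, stepT, wl, ws, sc, c, tc, gc, pc, ac⟩ :=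
    Cfsg.Agent.Lib.Helper18_ChevData5.exists_cert5 chevE7 (by simp)
  rw [card_center_eq (F := K) chevE6 (by simp) c tc (r2_all c pc) Cfsg.Agent.Lib.Helper81_StSubE6.subCert
    Cfsg.Agent.Lib.Helper81_StSubE6.mCert]
  unfold cartanHom
  rw [card_ker Cfsg.Agent.Lib.Helper18_ChevAutCertsE6.kerCertE6, card_units_eq, Nat.gcd_comm]

theorem card_center_E7 :
    Nat.card (Subgroup.center (chevE7.SteinbergGroup K)) = Nat.gcd 2 (Fintype.card K - 1) := by
  obtain ⟨Ns, w, d, Ts, hT, K', base, stepT, wl, ws, sc, c, tc, gc, pc, ac⟩ :=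
    Cfsg.Agent.Lib.Helper18_ChevData5.exists_cert5 chevE8 (by simp)
  rw [card_center_eq (F := K) chevE7 (by simp) c tc (r2_all c pc) Cfsg.Agent.Lib.Helper81_StSubE7.subCert
    Cfsg.Agent.Lib.Helper81_StSubE7.mCert]
  unfold cartanHom
  rw [card_ker Cfsg.Agent.Lib.Helper18_ChevAutCertsE7.kerCertE7, card_units_eq, Nat.gcd_comm]

end Cfsg.Agent.Lib.Helper81_StCenterB
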