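/-
Steinberg's presentation (helper81): the commutator tables of type E7 inside type E8, block 5.
-/
import Cfsg.Agent.Lib.Helper81_StSubE7Base

set_option autoImplicit false

namespace Cfsg.Agent.Lib.Helper81_StSubE7C5

open Cfsg Cfsg.Lie Cfsg.Agent.Lib.Helper81_StSubDef Cfsg.Agent.Lib.Helper81_StSubE7Base

set_option maxRecDepth 100000 in
theorem block : commBlock chevE7 chevE8 iota 35 7 = true := by decide +kernel

end Cfsg.Agent.Lib.Helper81_StSubE7C5
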