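import Mathlib
import Cfsg.Agent.Lib.Helper81_SemiDirect
import Cfsg.Agent.Lib.Helper81_MultFree
import Cfsg.Agent.Lib.Helper75_LinChar
import Cfsg.Agent.Lib.Helper75_IndChar

set_option autoImplicit false

/-!
# A multiplicity-free strongly real induced character of `N ⋊ P` (helper81)

`G = N ⋊ P`, `N` abelian, `lam` a linear character of `N` with stabilizer `T = stab` in `P`,
`sq = ⟨t² : t ∈ T⟩`, `K = N·sq`, `kap` the canonical extension of `lam` to `K`.
If some central involution `z` of `P` inverts `N`, then `Θ = Ind_K^G kap` satisfies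
`ν(Θ) = [Θ, Θ]`.
-/

namespace Cfsg.Agent.Lib.Helper81_StrongReal

open scoped ComplexConjugate
open Cfsg.Agent.Lib.Helper81_SemiDirect Cfsg.Agent.Lib.Helper75_LinChar
  Cfsg.Agent.Lib.Helper75_Induced Cfsg.Agent.Lib.Helper74_FS Cfsg.Agent.Lib.Helper81_MultFree

variable {G : Type*} [Group G] {N P : Subgroup G} (h : IsSD N P) (lam : N → ℂ)

/-- stabilizer of `lam` in `P` -/
def stab : Subgroup P where
  carrier := {u | ∀ n : N, lam (h.cj u n) = lam n}
  one_mem' := by intro n; rw [h.cj_one]
  mul_mem' := by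
    intro a b ha hb n
    rw [h.cj_mul, ha, hb]
  inv_mem' := by
    intro a ha n
    have := ha (h.cj a⁻¹ n)
    rw [h.cj_cj_inv] at this
    exact this.symm

theorem mem_stab (u : P) : u ∈ stab h lam ↔ ∀ n : N, lam (h.cj u n) = lam n := Iff.rfl

/-- the subgroup generated by the squares of the stabilizer -/
def sq : Subgroup P := Subgroup.closure {s | ∃ t ∈ stab h lam, s = t * t}

theorem sq_le : sq h lam ≤ stab h lam := by
  unfold sq
  rw [Subgroup.closure_le]
  rintro s ⟨t, ht, rfl⟩
  exact (stab h lam).mul_mem ht ht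

theorem sq_mem_sq {t : P} (ht : t ∈ stab h lam) : t * t ∈ sq h lam :=
  Subgroup.subset_closure ⟨t, ht, rfl⟩

theorem sq_conj {t : P} (ht : t ∈ stab h lam) {s : P} (hs : s ∈ sq h lam) :
    t * s * t⁻¹ ∈ sq h lam := by
  unfold sq at hs ⊢
  induction hs using Subgroup.closure_induction with
  | mem x hx =>
    obtain ⟨t', ht', rfl⟩ := hx
    apply Subgroup.subset_closure
    refine ⟨t * t' * t⁻¹, (stab h lam).mul_mem ((stab h lam).mul_mem ht ht')
      ((stab h lam).inv_mem ht), ?_⟩
    group
  | one => simp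
  | mul x y _ _ hx hy =>
    have : t * (x * y) * t⁻¹ = (t * x * t⁻¹) * (t * y * t⁻¹) := by group
    rw [this]
    exact Subgroup.mul_mem _ hx hy
  | inv x _ hx =>
    have : t * x⁻¹ * t⁻¹ = (t * x * t⁻¹)⁻¹ := by group
    rw [this]
    exact Subgroup.inv_mem _ hx

theorem sq_conj_iff {t : P} (ht : t ∈ stab h lam) (s : P) :
    t⁻¹ * s * t ∈ sq h lam ↔ s ∈ sq h lam := by
  constructor
  · intro hs
    have := sq_conj h lam ht hs
    have e : t * (t⁻¹ * s * t) * t⁻¹ = s := by group
    rwa [e] at this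
  · intro hs
    have := sq_conj h lam ((stab h lam).inv_mem ht) hs
    simpa using this

/-- the subgroup `K = N · sq` -/
noncomputable def KK : Subgroup G := (sq h lam).comap h.pHom

theorem mem_KK (g : G) : g ∈ KK h lam ↔ h.pP g ∈ sq h lam := Iff.rfl

/-- `Λ g = lam (nP g)` -/
noncomputable def Lam (g : G) : ℂ := lam (h.nP g)

variable {lam}

theorem Lam_mul (hlam : IsLin N lam) {a : G} (ha : h.pP a ∈ stab h lam) (b : G) :
    Lam h lam (a * b) = Lam h lam a * Lam h lam b := by
  unfold Lam
  rw [h.nP_mul, hlam.map_mul, ha]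

theorem Lam_one (hlam : IsLin N lam) : Lam h lam 1 = 1 := by
  unfold Lam
  rw [h.nP_one]
  exact hlam.2

theorem Lam_mul_left (hlam : IsLin N lam) (n : N) (x : G) :
    Lam h lam ((n : G) * x) = lam n * Lam h lam x := by
  unfold Lam
  rw [h.nP_mul_left, hlam.map_mul]

variable (lam)

/-- the canonical extension of `lam` to `K` -/
noncomputable def kap : KK h lam → ℂ := fun k => Lam h lam (k : G)

/-- `kap` extended by zero -/
noncomputable def kz (x : G) : ℂ :=
  haveI := Classical.dec (h.pP x ∈ sq h lam)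
  if h.pP x ∈ sq h lam then Lam h lam x else 0

theorem extendByZero_kap : Cfsg.extendByZero (KK h lam) (kap h lam) = kz h lam := by
  classical
  funext x
  unfold kz
  by_cases hx : h.pP x ∈ sq h lam
  · rw [if_pos hx, extendByZero_of_mem _ _ ((mem_KK h lam x).mpr hx)]
    rfl
  · rw [if_neg hx, extendByZero_of_not_mem _ _ (fun hk => hx ((mem_KK h lam x).mp hk))]

variable {lam}

theorem isLin_kap (hlam : IsLin N lam) : IsLin (KK h lam) (kap h lam) := by
  let f : KK h lam →* ℂ :=
    { toFun := kap h lam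
      map_one' := by
        show Lam h lam ((1 : KK h lam) : G) = 1
        rw [Subgroup.coe_one, Lam_one h hlam]
      map_mul' := fun a b => by
        show Lam h lam ((a * b : KK h lam) : G) = Lam h lam a * Lam h lam b
        rw [Subgroup.coe_mul]
        exact Lam_mul h hlam (sq_le h lam ((mem_KK h lam a).mp a.2)) b }
  exact isLin_of_hom f

theorem kz_mul_left (hlam : IsLin N lam) (n : N) (x : G) :
    kz h lam ((n : G) * x) = lam n * kz h lam x := by
  classical
  unfold kz
  rw [h.pP_mul_left]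
  by_cases hx : h.pP x ∈ sq h lam
  · rw [if_pos hx, if_pos hx, Lam_mul_left h hlam]
  · rw [if_neg hx, if_neg hx, mul_zero]

theorem kz_conj_of_mem (hlam : IsLin N lam) {y : G} (hy : h.pP y ∈ stab h lam) (x : G) :
    kz h lam (y⁻¹ * x * y) = kz h lam x := by
  classical
  unfold kz
  have hp : h.pP (y⁻¹ * x * y) = (h.pP y)⁻¹ * h.pP x * h.pP y := by
    rw [h.pP_mul, h.pP_mul, h.pP_inv]
  rw [hp]
  by_cases hx : h.pP x ∈ sq h lam
  · rw [if_pos hx, if_pos ((sq_conj_iff h lam hy _).mpr hx)]
    have hy' : h.pP y⁻¹ ∈ stab h lam := by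
      rw [h.pP_inv]; exact (stab h lam).inv_mem hy
    rw [mul_assoc, Lam_mul h hlam hy', Lam_mul h hlam (sq_le h lam hx)]
    have e : Lam h lam y⁻¹ * Lam h lam y = 1 := by
      rw [← Lam_mul h hlam hy', inv_mul_cancel, Lam_one h hlam]
    calc Lam h lam y⁻¹ * (Lam h lam x * Lam h lam y)
        = (Lam h lam y⁻¹ * Lam h lam y) * Lam h lam x := by ring
      _ = Lam h lam x := by rw [e, one_mul]
  · rw [if_neg hx, if_neg (fun hk => hx ((sq_conj_iff h lam hy _).mp hk))]

section sums

variable [Fintype G]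

theorem sum_ite_mem {A : Type*} [Group A] [Fintype A] (S : Subgroup A) (c : ℂ) :
    (∑ u : A, (haveI := Classical.dec (u ∈ S); if u ∈ S then c else 0)) = (Nat.card S : ℂ) * c := by
  classical
  have : ∀ u : A, (haveI := Classical.dec (u ∈ S); if u ∈ S then c else 0) =
      if u ∈ S then c else 0 := by
    intro u
    congr
  simp only [this]
  rw [← Finset.sum_filter, Finset.sum_const, nsmul_eq_mul, Nat.card_eq_fintype_card,
    Fintype.card_subtype]

theorem norm_lam (hlam : IsLin N lam) (n : N) : lam n * conj (lam n) = 1 := by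
  haveI : Finite N := Finite.of_injective (fun n : N => (n : G)) Subtype.val_injective
  exact hlam.mul_conj n

theorem sum_kz_conj_of_mem (hlam : IsLin N lam) {y : G} (hy : h.pP y ∈ stab h lam) :
    ∑ x : G, kz h lam x * conj (kz h lam (y⁻¹ * x * y)) = (Nat.card (KK h lam) : ℂ) := by
  classical
  haveI : Fintype (KK h lam) := Fintype.ofFinite _
  simp only [kz_conj_of_mem h hlam hy]
  rw [← extendByZero_kap, sum_extendByZero_mul]
  have : ∀ k : KK h lam, kap h lam k * conj (Cfsg.extendByZero (KK h lam) (kap h lam) k) = 1 := by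
    intro k
    rw [extendByZero_coe]
    haveI : Finite (KK h lam) := inferInstance
    exact (isLin_kap h hlam).mul_conj k
  rw [Finset.sum_congr rfl (fun k _ => this k), Finset.sum_const, Finset.card_univ, nsmul_eq_mul,
    mul_one, Nat.card_eq_fintype_card]

theorem conj_eq_cj (hcomm : ∀ a b : N, a * b = b * a) (y : G) (n : N) :
    y⁻¹ * (n : G) * y = (h.cj (h.pP y)⁻¹ n : G) := by
  conv_lhs => rw [← h.nP_mul_pP y]
  simp only [IsSD.cj_coe, Subgroup.coe_inv]
  have := congrArg Subtype.val (hcomm (h.nP y)⁻¹ (n * h.nP y))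
  simp only [Subgroup.coe_mul, Subgroup.coe_inv] at this
  calc ((h.nP y : G) * (h.pP y : G))⁻¹ * (n : G) * ((h.nP y : G) * (h.pP y : G))
      = (h.pP y : G)⁻¹ * ((h.nP y : G)⁻¹ * ((n : G) * (h.nP y : G))) * (h.pP y : G) := by group
    _ = (h.pP y : G)⁻¹ * (((n : G) * (h.nP y : G)) * (h.nP y : G)⁻¹) * (h.pP y : G) := by rw [this]
    _ = (h.pP y : G)⁻¹ * (n : G) * ((h.pP y : G)⁻¹)⁻¹ := by group

theorem sum_kz_conj_of_not_mem (hlam : IsLin N lam) (hcomm : ∀ a b : N, a * b = b * a) {y : G}
    (hy : h.pP y ∉ stab h lam) :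
    ∑ x : G, kz h lam x * conj (kz h lam (y⁻¹ * x * y)) = 0 := by
  classical
  have hy' : (h.pP y)⁻¹ ∉ stab h lam := fun hh => hy (by simpa using (stab h lam).inv_mem hh)
  rw [mem_stab] at hy'
  push Not at hy'
  obtain ⟨n₁, hn₁⟩ := hy'
  set m := h.cj (h.pP y)⁻¹ n₁ with hm
  have e : ∑ x : G, kz h lam x * conj (kz h lam (y⁻¹ * x * y)) =
      lam n₁ * conj (lam m) * ∑ x : G, kz h lam x * conj (kz h lam (y⁻¹ * x * y)) := by
    conv_lhs => rw [← Equiv.sum_comp (Equiv.mulLeft (n₁ : G))]
    rw [Finset.mul_sum]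
    apply Finset.sum_congr rfl
    intro x _
    simp only [Equiv.coe_mulLeft]
    have e1 : y⁻¹ * ((n₁ : G) * x) * y = (m : G) * (y⁻¹ * x * y) := by
      rw [hm, ← conj_eq_cj h hcomm y n₁]
      group
    rw [e1, kz_mul_left h hlam, kz_mul_left h hlam, map_mul]
    ring
  have hc : lam n₁ * conj (lam m) ≠ 1 := by
    intro hc
    apply hn₁
    have := congrArg (fun t => t * lam m) hc
    simp only [one_mul] at this
    rw [mul_assoc, mul_comm (conj (lam m)), norm_lam hlam, mul_one] at this
    exact this.symm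
  have : (1 - lam n₁ * conj (lam m)) *
      ∑ x : G, kz h lam x * conj (kz h lam (y⁻¹ * x * y)) = 0 := by
    rw [sub_mul, one_mul, ← e, sub_self]
  rcases mul_eq_zero.mp this with h0 | h0
  · exact absurd (sub_eq_zero.mp h0).symm hc
  · exact h0

theorem sum_sum_kz (hlam : IsLin N lam) (hcomm : ∀ a b : N, a * b = b * a) :
    ∑ y : G, ∑ x : G, kz h lam x * conj (kz h lam (y⁻¹ * x * y)) =
      (Nat.card N : ℂ) * ((Nat.card (stab h lam) : ℂ) * (Nat.card (KK h lam) : ℂ)) := by
  classical
  haveI : Fintype N := Fintype.ofFinite _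
  haveI : Fintype P := Fintype.ofFinite _
  have : ∀ y : G, ∑ x : G, kz h lam x * conj (kz h lam (y⁻¹ * x * y)) =
      (haveI := Classical.dec (h.pP y ∈ stab h lam);
        if h.pP y ∈ stab h lam then (Nat.card (KK h lam) : ℂ) else 0) := by
    intro y
    by_cases hy : h.pP y ∈ stab h lam
    · rw [sum_kz_conj_of_mem h hlam hy]
      simp [hy]
    · rw [sum_kz_conj_of_not_mem h hlam hcomm hy]
      simp [hy]
  rw [Finset.sum_congr rfl (fun y _ => this y), ← h.equiv.sum_comp, Fintype.sum_prod_type]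
  simp only [IsSD.equiv_apply, h.pP_mul_mem]
  rw [Finset.sum_const, Finset.card_univ, nsmul_eq_mul, sum_ite_mem]
  simp [Nat.card_eq_fintype_card]

theorem kz_sq_apply (hlam : IsLin N lam) (n : N) (u : P) :
    kz h lam (((n : G) * (u : G)) * ((n : G) * (u : G))) =
      (haveI := Classical.dec (u * u ∈ sq h lam);
        if u * u ∈ sq h lam then lam n * lam (h.cj u n) else 0) := by
  classical
  unfold kz Lam
  rw [h.pP_mul, h.nP_mul, h.pP_mul_mem, h.nP_mul_mem, hlam.map_mul]

theorem sum_kz_sq (hlam : IsLin N lam) (z : P) (hzc : ∀ p : P, z * p = p * z) (hzz : z * z = 1)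
    (hzinv : ∀ n : N, h.cj z n = n⁻¹) :
    ∑ g : G, kz h lam (g * g) = (Nat.card N : ℂ) * (Nat.card (stab h lam) : ℂ) := by
  classical
  haveI : Fintype N := Fintype.ofFinite _
  haveI : Fintype P := Fintype.ofFinite _
  have hzinv' : z⁻¹ = z := inv_eq_of_mul_eq_one_right hzz
  rw [← h.equiv.sum_comp, Fintype.sum_prod_type, Finset.sum_comm]
  simp only [IsSD.equiv_apply]
  have key : ∀ u : P, ∑ n : N, kz h lam (((n : G) * (u : G)) * ((n : G) * (u : G))) =
      (haveI := Classical.dec (z⁻¹ * u ∈ stab h lam);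
        if z⁻¹ * u ∈ stab h lam then (Nat.card N : ℂ) else 0) := by
    intro u
    simp only [kz_sq_apply h hlam]
    by_cases ht : z⁻¹ * u ∈ stab h lam
    · rw [if_pos ht]
      have huu : u * u ∈ sq h lam := by
        have e : u * u = (z⁻¹ * u) * (z⁻¹ * u) := by
          rw [hzinv']
          calc u * u = (z * z) * (u * u) := by rw [hzz, one_mul]
            _ = z * (z * u) * u := by group
            _ = z * (u * z) * u := by rw [hzc u]
            _ = (z * u) * (z * u) := by group
        rw [e]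
        exact sq_mem_sq h lam ht
      have hinv : ∀ n : N, lam (h.cj u n) = (lam n)⁻¹ := by
        intro n
        have h1 := (mem_stab h lam _).mp ht n
        rw [h.cj_mul, hzinv', hzinv, hlam.map_inv] at h1
        rw [← h1, inv_inv]
      have : ∀ n : N, (if u * u ∈ sq h lam then lam n * lam (h.cj u n) else 0) = 1 := by
        intro n
        rw [if_pos huu, hinv n, mul_inv_cancel₀ (hlam.ne_zero n)]
      rw [Finset.sum_congr rfl (fun n _ => this n), Finset.sum_const, Finset.card_univ,
        nsmul_eq_mul, mul_one, Nat.card_eq_fintype_card]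
    · rw [if_neg ht]
      by_cases huu : u * u ∈ sq h lam
      · simp only [if_pos huu]
        rw [mem_stab] at ht
        push Not at ht
        obtain ⟨n₁, hn₁⟩ := ht
        rw [h.cj_mul, hzinv', hzinv, hlam.map_inv] at hn₁
        have hφ : lam n₁ * lam (h.cj u n₁) ≠ 1 := by
          intro hc
          apply hn₁
          exact (eq_inv_of_mul_eq_one_left hc).symm
        have e : ∑ n : N, lam n * lam (h.cj u n) =
            (lam n₁ * lam (h.cj u n₁)) * ∑ n : N, lam n * lam (h.cj u n) := by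
          conv_lhs => rw [← Equiv.sum_comp (Equiv.mulLeft n₁)]
          rw [Finset.mul_sum]
          apply Finset.sum_congr rfl
          intro n _
          simp only [Equiv.coe_mulLeft]
          rw [h.cj_map_mul, hlam.map_mul, hlam.map_mul]
          ring
        have : (1 - lam n₁ * lam (h.cj u n₁)) * ∑ n : N, lam n * lam (h.cj u n) = 0 := by
          rw [sub_mul, one_mul, ← e, sub_self]
        rcases mul_eq_zero.mp this with h0 | h0
        · exact absurd (sub_eq_zero.mp h0).symm hφ
        · exact h0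
      · simp only [if_neg huu]
        simp
  rw [Finset.sum_congr rfl (fun u _ => key u)]
  rw [← Equiv.sum_comp (Equiv.mulLeft z)]
  simp only [Equiv.coe_mulLeft, inv_mul_cancel_left]
  rw [sum_ite_mem]
  ring

/-- **Key identity**: `ν(Θ) = [Θ, Θ]` for `Θ = Ind_K^G kap`. -/
theorem fsInd_eq_norm (hlam : IsLin N lam) (hcomm : ∀ a b : N, a * b = b * a)
    (z : P) (hzc : ∀ p : P, z * p = p * z) (hzz : z * z = 1)
    (hzinv : ∀ n : N, h.cj z n = n⁻¹) :
    fsInd (Cfsg.indFun (KK h lam) (kap h lam)) =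
      Cfsg.classInner (Cfsg.indFun (KK h lam) (kap h lam))
        (Cfsg.indFun (KK h lam) (kap h lam)) := by
  classical
  haveI : Fintype (KK h lam) := Fintype.ofFinite _
  have hK : (Nat.card (KK h lam) : ℂ) ≠ 0 := by
    rw [Nat.cast_ne_zero]; exact Nat.card_pos.ne'
  rw [fsInd_indFun, extendByZero_kap, sum_kz_sq h hlam z hzc hzz hzinv]
  rw [frobenius_reciprocity _ _ _ (isClassFunction_indFun _ _)]
  unfold Cfsg.classInner
  rw [← sum_extendByZero_mul (KK h lam) (kap h lam)
    (fun x => conj (Cfsg.indFun (KK h lam) (kap h lam) x)), extendByZero_kap]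
  simp only [indFun_apply, extendByZero_kap, map_mul, map_inv₀, Complex.conj_natCast, map_sum]
  have : ∑ x : G, kz h lam x * ((Nat.card (KK h lam) : ℂ)⁻¹ *
      ∑ y : G, conj (kz h lam (y⁻¹ * x * y))) =
      (Nat.card (KK h lam) : ℂ)⁻¹ *
        ∑ y : G, ∑ x : G, kz h lam x * conj (kz h lam (y⁻¹ * x * y)) := by
    rw [Finset.sum_comm, Finset.mul_sum]
    apply Finset.sum_congr rfl
    intro x _
    rw [Finset.mul_sum, Finset.mul_sum, Finset.mul_sum]
    apply Finset.sum_congr rfl
    intro y _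
    ring
  rw [this, sum_sum_kz h hlam hcomm]
  field_simp

theorem sum_kap_eq_zero (hlam : IsLin N lam) (hne : ∃ n : N, lam n ≠ 1)
    [Fintype (KK h lam)] : ∑ k : KK h lam, kap h lam k = 0 := by
  classical
  obtain ⟨n₁, hn₁⟩ := hne
  have e0 : ∑ k : KK h lam, kap h lam k = ∑ x : G, kz h lam x := by
    have := sum_extendByZero_mul (KK h lam) (kap h lam) (fun _ => (1 : ℂ))
    simp only [mul_one] at this
    rw [← this, extendByZero_kap]
  rw [e0]
  have e : ∑ x : G, kz h lam x = lam n₁ * ∑ x : G, kz h lam x := by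
    conv_lhs => rw [← Equiv.sum_comp (Equiv.mulLeft (n₁ : G))]
    rw [Finset.mul_sum]
    apply Finset.sum_congr rfl
    intro x _
    simp only [Equiv.coe_mulLeft]
    rw [kz_mul_left h hlam]
  have : (1 - lam n₁) * ∑ x : G, kz h lam x = 0 := by
    rw [sub_mul, one_mul, ← e, sub_self]
  rcases mul_eq_zero.mp this with h0 | h0
  · exact absurd (sub_eq_zero.mp h0).symm hn₁
  · exact h0

omit h in
/-- inner product of an induced function with a class function that is `1` on the subgroup -/
theorem classInner_indFun_of_one_on (K : Subgroup G) [Fintype K] (θ : K → ℂ) (β : G → ℂ)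
    (hβcf : Cfsg.IsClassFunction G β) (hβ : ∀ k : K, β k = 1) :
    Cfsg.classInner (Cfsg.indFun K θ) β = (Nat.card K : ℂ)⁻¹ * ∑ k : K, θ k := by
  rw [frobenius_reciprocity _ _ _ hβcf]
  unfold Cfsg.classInner
  congr 1
  apply Finset.sum_congr rfl
  intro k _
  show θ k * conj (β k) = θ k
  rw [hβ k, map_one, mul_one]

omit h in
theorem indFun_one_eq (K : Subgroup G) (θ : K → ℂ) :
    Cfsg.indFun K θ 1 = (Nat.card K : ℂ)⁻¹ * ((Nat.card G : ℂ) * θ 1) := by
  rw [indFun_apply]
  congr 1
  have : ∀ x : G, Cfsg.extendByZero K θ (x⁻¹ * 1 * x) = θ 1 := by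
    intro x
    have e : x⁻¹ * 1 * x = ((1 : K) : G) := by simp
    rw [e, extendByZero_coe]
  rw [Finset.sum_congr rfl (fun x _ => this x), Finset.sum_const, Finset.card_univ, nsmul_eq_mul,
    Nat.card_eq_fintype_card]

end sums

end Cfsg.Agent.Lib.Helper81_StrongReal
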