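/-
Universal central extension (helper81), characteristic 3, part A: canonical lifts of the root elements relative to
a root `g` with `⟨r, g^∨⟩` odd: the commutator of lifts of `h_g(-1)` and `X r t` (it lifts `X r (-2t) = X r t`).
They are equivariant for the toral elements and additive (if the lifts of the `X r t` commute).  Separation of two
roots by a toral element `h_g(-1)`.  All statements are for a single root, so that they can be combined with other
lifts (the long roots of B2 have no such `g`).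
-/
import Mathlib
import Cfsg.Agent.Lib.Helper81_UceG

set_option autoImplicit false
set_option linter.unusedSectionVars false
set_option linter.unusedVariables false

namespace Cfsg.Agent.Lib.Helper81_Uce3A

open Cfsg Cfsg.Lie Cfsg.Agent.Lib.Helper18_ChevFast Cfsg.Agent.Lib.Helper18_ChevEngine
  Cfsg.Agent.Lib.Helper18_ChevR1 Cfsg.Agent.Lib.Helper18_ChevN Cfsg.Agent.Lib.Helper18_ChevR4
  Cfsg.Agent.Lib.Helper18_ChevSimple Cfsg.Agent.Lib.Helper18_ChevSimple2 Cfsg.Agent.Lib.Helper18_ChevFacts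
  Cfsg.Agent.Lib.Helper18_ChevWeyl Cfsg.Agent.Lib.Helper18_ChevDiag Cfsg.Agent.Lib.Helper18_ChevCar
  Cfsg.Agent.Lib.Helper18_ChevTorus Cfsg.Agent.Lib.Helper18_ChevGL Cfsg.Agent.Lib.Helper18_ChevComm
  Cfsg.Agent.Lib.Helper18_ChevComm2 Cfsg.Agent.Lib.Helper18_MatTri Cfsg.Agent.Lib.Helper18_ChevTri
  Cfsg.Agent.Lib.Helper18_ChevBorel Cfsg.Agent.Lib.Helper18_ChevAdd Cfsg.Agent.Lib.Helper18_ChevUni
  Cfsg.Agent.Lib.Helper81_StUniq Cfsg.Agent.Lib.Helper81_StAbs Cfsg.Agent.Lib.Helper81_StL37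
  Cfsg.Agent.Lib.Helper81_StBruhat Cfsg.Agent.Lib.Helper81_StTorus Cfsg.Agent.Lib.Helper81_StEta
  Cfsg.Agent.Lib.Helper81_StR3 Cfsg.Agent.Lib.Helper81_UceA Cfsg.Agent.Lib.Helper81_UceB
  Cfsg.Agent.Lib.Helper81_UceC Cfsg.Agent.Lib.Helper81_UceD Cfsg.Agent.Lib.Helper81_UceE
  Cfsg.Agent.Lib.Helper81_UceF Cfsg.Agent.Lib.Helper81_UceG

variable {D : ChevalleyDatum} {Ns : List NData} {F : Type*} [Field F] {Γ : Type*} [Group Γ]
variable {wl : List ℤ} {ws : List (List ℤ)} {sc : ℤ} {bs : List BData} {X : ℕ → F → Γ} {π : Γ →* GL D.Idx F}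
variable {E : Type*} [Group E] {ψ : E →* Γ}

theorem two_ne_zero_of_three (h3 : (3 : F) = 0) : (2 : F) ≠ 0 := by
  intro h2
  have : (1 : F) = 0 := by
    have : (1 : F) = 3 - 2 := by norm_num
    rw [this, h3, h2, sub_zero]
  exact one_ne_zero this

theorem neg_one_ne_one_of_three (h3 : (3 : F) = 0) : (-1 : F) ≠ 1 := by
  intro h
  apply two_ne_zero_of_three h3
  have : (2 : F) = 1 - (-1) := by norm_num
  rw [this, h, sub_self]

theorem neg_two_mul_of_three (h3 : (3 : F) = 0) (t : F) : -t + -t = t := by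
  have : -t + -t = t - 3 * t := by ring
  rw [this, h3, zero_mul, sub_zero]

/-- The toral element `h_g(-1)` inverts `X r` if `⟨r, g^∨⟩` is odd. -/
theorem hR_neg_one_conj_odd (C : Ctx D Ns wl ws sc bs X π) {g r : ℕ} (hg : g < D.nroots) (hr : r < D.nroots)
    (hodd : Odd (cartanR D g r)) (t : F) :
    hR D X g (-1) * X r t * (hR D X g (-1))⁻¹ = X r (-t) := by
  have := ((C.torAct_hR g hg (-1) (neg_ne_zero.mpr one_ne_zero)) r hr).2 t
  beta_reduce at this
  rw [this, hodd.neg_one_zpow, neg_one_mul]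

/-- The toral element `h_g(-1)` centralizes `X r` if `⟨r, g^∨⟩` is even. -/
theorem hR_neg_one_conj_even (C : Ctx D Ns wl ws sc bs X π) {g r : ℕ} (hg : g < D.nroots) (hr : r < D.nroots)
    (heven : Even (cartanR D g r)) (t : F) :
    hR D X g (-1) * X r t * (hR D X g (-1))⁻¹ = X r t := by
  have := ((C.torAct_hR g hg (-1) (neg_ne_zero.mpr one_ne_zero)) r hr).2 t
  beta_reduce at this
  rw [this, heven.neg_one_zpow, one_mul]

/-! ### Separation by `h_g(-1)` -/

/-- Some root `g` has odd pairing with one of `r`, `s` and even pairing with the other. -/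
def sep3OK (D : ChevalleyDatum) (r s : ℕ) : Bool :=
  (List.range D.nroots).any fun g =>
    (decide (cartanL D g r % 2 = 1) && decide (cartanL D g s % 2 = 0)) ||
      (decide (cartanL D g r % 2 = 0) && decide (cartanL D g s % 2 = 1))

theorem sep_of_sep3OK (C : Ctx D Ns wl ws sc bs X π) (h3 : (3 : F) = 0) {r s : ℕ} (hr : r < D.nroots)
    (hs : s < D.nroots) (h : sep3OK D r s = true) : Sep D X r s := by
  unfold sep3OK at h
  rw [List.any_eq_true] at h
  obtain ⟨g, hg, h1⟩ := h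
  have hg' : g < D.nroots := List.mem_range.mp hg
  simp only [Bool.or_eq_true, Bool.and_eq_true, decide_eq_true_eq, cartanL_eq] at h1
  have hT := C.torAct_hR g hg' (-1 : F) (neg_ne_zero.mpr one_ne_zero)
  refine ⟨hR D X g (-1), _, hT, ?_⟩
  rcases h1 with ⟨h1, h2⟩ | ⟨h1, h2⟩
  · left
    constructor
    · show (-1 : F) ^ cartanR D g r ≠ 1
      rw [(Int.odd_iff.mpr h1).neg_one_zpow]
      exact neg_one_ne_one_of_three h3
    · show (-1 : F) ^ cartanR D g s = 1
      rw [(Int.even_iff.mpr h2).neg_one_zpow]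
  · right
    constructor
    · show (-1 : F) ^ cartanR D g r = 1
      rw [(Int.even_iff.mpr h1).neg_one_zpow]
    · show (-1 : F) ^ cartanR D g s ≠ 1
      rw [(Int.odd_iff.mpr h2).neg_one_zpow]
      exact neg_one_ne_one_of_three h3

/-! ### The canonical lifts -/

/-- The canonical lift of `X r t` relative to the root `gsel r`: the commutator of lifts of `h_{gsel r}(-1)` and
`X r t`. -/
noncomputable def Y3 (D : ChevalleyDatum) (X : ℕ → F → Γ) (hs : Function.Surjective ψ) (gsel : ℕ → ℕ) (r : ℕ)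
    (t : F) : E :=
  Function.surjInv hs (hR D X (gsel r) (-1)) * Function.surjInv hs (X r t) *
    (Function.surjInv hs (hR D X (gsel r) (-1)))⁻¹ * (Function.surjInv hs (X r t))⁻¹

theorem Y3_eq (hψ : CExt ψ) (gsel : ℕ → ℕ) (r : ℕ) (t : F) {a x : E} (ha : ψ a = hR D X (gsel r) (-1))
    (hx : ψ x = X r t) : Y3 D X hψ.surj gsel r t = a * x * a⁻¹ * x⁻¹ :=
  hψ.commutator_eq ((Function.surjInv_eq hψ.surj _).trans ha.symm) ((Function.surjInv_eq hψ.surj _).trans hx.symm)

theorem map_Y3 (C : Ctx D Ns wl ws sc bs X π) (hψ : CExt ψ) (h3 : (3 : F) = 0) (gsel : ℕ → ℕ) {r : ℕ}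
    (hr : r < D.nroots) (hg : gsel r < D.nroots) (hodd : Odd (cartanR D (gsel r) r)) (t : F) :
    ψ (Y3 D X hψ.surj gsel r t) = X r t := by
  unfold Y3
  simp only [map_mul, map_inv, Function.surjInv_eq]
  rw [hR_neg_one_conj_odd C hg hr hodd, C.hX.inv r hr, C.hX.add r hr, neg_two_mul_of_three h3]

/-- The lifts of a central element commute with the lifts of the root elements of `r`, if some `h_g(-1)` inverts
`X r`. -/
theorem liftComm_center3 (C : Ctx D Ns wl ws sc bs X π) (hψ : CExt ψ) (h3 : (3 : F) = 0) {g r : ℕ}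
    (hg : g < D.nroots) (hr : r < D.nroots) (hodd : Odd (cartanR D g r)) {z : Γ}
    (hz : z ∈ Subgroup.center Γ) : LiftComm ψ X z r := by
  rw [Subgroup.mem_center_iff] at hz
  apply liftComm_of_tor hψ C.hX hr (fun s => (hz _).symm)
    (C.torAct_hR g hg (-1 : F) (neg_ne_zero.mpr one_ne_zero))
  · show (-1 : F) ^ cartanR D g r ≠ 1
    rw [hodd.neg_one_zpow]
    exact neg_one_ne_one_of_three h3
  · rw [hz, mul_inv_cancel_right]

/-- The canonical lifts are equivariant for the toral elements. -/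
theorem Y3_conj (C : Ctx D Ns wl ws sc bs X π) (hψ : CExt ψ) (h3 : (3 : F) = 0) (gsel : ℕ → ℕ) {r : ℕ}
    (hr : r < D.nroots) (hg : gsel r < D.nroots) (hodd : Odd (cartanR D (gsel r) r))
    {k : Γ} {χ : ℕ → F} (hk : TorAct D X k χ) {kh : E} (hkh : ψ kh = k) (t : F) :
    kh * Y3 D X hψ.surj gsel r t * kh⁻¹ = Y3 D X hψ.surj gsel r (χ r * t) := by
  set a := Function.surjInv hψ.surj (hR D X (gsel r) (-1)) with hadef
  set x := Function.surjInv hψ.surj (X r t) with hxdef
  have ha : ψ a = hR D X (gsel r) (-1) := Function.surjInv_eq hψ.surj _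
  have hx : ψ x = X r t := Function.surjInv_eq hψ.surj _
  have hY : Y3 D X hψ.surj gsel r t = a * x * a⁻¹ * x⁻¹ := rfl
  set x' := kh * x * kh⁻¹ with hx'def
  set zh := a⁻¹ * (kh * a * kh⁻¹) with hzhdef
  have hx' : ψ x' = X r (χ r * t) := by
    rw [hx'def, map_mul, map_mul, map_inv, hkh, hx, (hk r hr).2]
  -- the image of `zh` is central
  have hT := C.torAct_hR (gsel r) hg (-1 : F) (neg_ne_zero.mpr one_ne_zero)
  have hzT : TorAct D X (ψ zh)
      (fun s => ((-1 : F) ^ cartanR D (gsel r) s)⁻¹ * (χ s * (-1 : F) ^ cartanR D (gsel r) s * (χ s)⁻¹)) := by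
    have : ψ zh = (hR D X (gsel r) (-1))⁻¹ * (k * hR D X (gsel r) (-1) * k⁻¹) := by
      rw [hzhdef, map_mul, map_inv, map_mul, map_mul, map_inv, ha, hkh]
    rw [this]
    exact hT.inv.mul ((hk.mul hT).mul hk.inv)
  have hzc : ψ zh ∈ Subgroup.center Γ := by
    apply C.mem_center
    intro s hs u
    have h1 := (hzT s hs).2 u
    beta_reduce at h1
    have h2 : ((-1 : F) ^ cartanR D (gsel r) s)⁻¹ * (χ s * (-1 : F) ^ cartanR D (gsel r) s * (χ s)⁻¹) = 1 := by
      have h3 := (hT s hs).1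
      have h4 := (hk s hs).1
      field_simp
    rw [h2, one_mul] at h1
    calc ψ zh * X s u = (ψ zh * X s u * (ψ zh)⁻¹) * ψ zh := by group
      _ = X s u * ψ zh := by rw [h1]
  have hcomm := liftComm_center3 C hψ h3 hg hr hodd hzc zh x' _ rfl hx'
  have e1 : kh * (a * x * a⁻¹ * x⁻¹) * kh⁻¹ = a * (zh * x') * zh⁻¹ * a⁻¹ * x'⁻¹ := by
    simp only [hx'def, hzhdef]
    group
  rw [hY, e1, hcomm, Y3_eq hψ gsel r (χ r * t) ha hx']
  group

/-- The canonical lifts are additive, if the lifts of the `X r t` commute. -/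
theorem Y3_add (C : Ctx D Ns wl ws sc bs X π) (hψ : CExt ψ) (h3 : (3 : F) = 0) (gsel : ℕ → ℕ) {r : ℕ}
    (hr : r < D.nroots) (hg : gsel r < D.nroots) (hodd : Odd (cartanR D (gsel r) r))
    (hself : ∀ t : F, LiftComm ψ X (X r t) r) (t u : F) :
    Y3 D X hψ.surj gsel r t * Y3 D X hψ.surj gsel r u = Y3 D X hψ.surj gsel r (t + u) := by
  set a := Function.surjInv hψ.surj (hR D X (gsel r) (-1)) with hadef
  set x := Function.surjInv hψ.surj (X r t) with hxdef
  set y := Function.surjInv hψ.surj (X r u) with hydef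
  have ha : ψ a = hR D X (gsel r) (-1) := Function.surjInv_eq hψ.surj _
  have hx : ψ x = X r t := Function.surjInv_eq hψ.surj _
  have hy : ψ y = X r u := Function.surjInv_eq hψ.surj _
  have hYt : Y3 D X hψ.surj gsel r t = a * x * a⁻¹ * x⁻¹ := rfl
  have hYu : Y3 D X hψ.surj gsel r u = a * y * a⁻¹ * y⁻¹ := rfl
  have hxy : ψ (x * y) = X r (t + u) := by
    rw [map_mul, hx, hy, C.hX.add r hr]
  have hcomm := hself _ x (Y3 D X hψ.surj gsel r u) u hx (map_Y3 C hψ h3 gsel hr hg hodd u)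
  rw [Y3_eq hψ gsel r (t + u) ha hxy]
  have e1 : a * (x * y) * a⁻¹ * (x * y)⁻¹ = (a * x * a⁻¹ * x⁻¹) * (x * (a * y * a⁻¹ * y⁻¹)) * x⁻¹ := by group
  rw [e1, ← hYt, ← hYu, hcomm]
  group

/-- The system of canonical lifts, when every root has a selector. -/
theorem liftSys_Y3 (C : Ctx D Ns wl ws sc bs X π) (hψ : CExt ψ) (h3 : (3 : F) = 0) (gsel : ℕ → ℕ)
    (hg : ∀ r < D.nroots, gsel r < D.nroots ∧ Odd (cartanR D (gsel r) r))
    (hself : ∀ r < D.nroots, ∀ t : F, LiftComm ψ X (X r t) r) :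
    LiftSys D X ψ (Y3 D X hψ.surj gsel) :=
  { ext := hψ
    map := fun r hr t => map_Y3 C hψ h3 gsel hr (hg r hr).1 (hg r hr).2 t
    add := fun r hr t u => Y3_add C hψ h3 gsel hr (hg r hr).1 (hg r hr).2 (hself r hr) t u
    conj := fun k χ hk kh hkh r hr t => Y3_conj C hψ h3 gsel hr (hg r hr).1 (hg r hr).2 hk hkh t }

/-- List version of the selector: the first root with odd pairing. -/
def gsel3 (D : ChevalleyDatum) (r : ℕ) : ℕ :=
  ((List.range D.nroots).find? fun g => decide (cartanL D g r % 2 = 1)).getD 0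

theorem gsel3_spec {r : ℕ} (h : ((List.range D.nroots).any fun g => decide (cartanL D g r % 2 = 1)) = true) :
    gsel3 D r < D.nroots ∧ Odd (cartanR D (gsel3 D r) r) := by
  unfold gsel3
  rw [List.any_eq_true] at h
  obtain ⟨g, hg, h1⟩ := h
  cases hf : (List.range D.nroots).find? fun g => decide (cartanL D g r % 2 = 1) with
  | none =>
    rw [List.find?_eq_none] at hf
    exact absurd h1 (hf g hg)
  | some g' =>
    have h2 := List.find?_some hf
    have h3 := List.mem_of_find?_eq_some hf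
    rw [decide_eq_true_eq, cartanL_eq] at h2
    exact ⟨List.mem_range.mp h3, Int.odd_iff.mpr h2⟩

end Cfsg.Agent.Lib.Helper81_Uce3A
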