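/-
Universal central extension (helper81), the field with three elements, part B: for a datum all of whose roots have a
root with odd pairing, and whose pairs of roots `s ≠ ±r` are either separated by some `h_g(-1)` or commute and sit in
an `A3` configuration (Milnor's trick with two decompositions, package TWODEC of helper72's market, proved by
helper26), every central extension of the group presented by (R1), (R2) over the field with three elements splits.
Instances: types D4 and F4.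
-/
import Mathlib
import Cfsg.Agent.Lib.Helper81_Uce3A
import Cfsg.Agent.Lib.Helper81_UceMain
import Cfsg.Agent.Lib.Helper26_S2400_TWODEC
import Cfsg.Agent.Lib.Helper78_S2400_ZPOW

set_option autoImplicit false
set_option linter.unusedSectionVars false
set_option linter.unusedVariables false
set_option maxRecDepth 1000000

namespace Cfsg.Agent.Lib.Helper81_Uce3B

open Cfsg Cfsg.Lie Cfsg.Agent.Lib.Helper18_ChevFast Cfsg.Agent.Lib.Helper18_ChevEngine
  Cfsg.Agent.Lib.Helper18_ChevR1 Cfsg.Agent.Lib.Helper18_ChevN Cfsg.Agent.Lib.Helper18_ChevR4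
  Cfsg.Agent.Lib.Helper18_ChevSimple Cfsg.Agent.Lib.Helper18_ChevSimple2 Cfsg.Agent.Lib.Helper18_ChevFacts
  Cfsg.Agent.Lib.Helper18_ChevWeyl Cfsg.Agent.Lib.Helper18_ChevDiag Cfsg.Agent.Lib.Helper18_ChevCar
  Cfsg.Agent.Lib.Helper18_ChevTorus Cfsg.Agent.Lib.Helper18_ChevGL Cfsg.Agent.Lib.Helper18_ChevComm
  Cfsg.Agent.Lib.Helper18_ChevComm2 Cfsg.Agent.Lib.Helper18_MatTri Cfsg.Agent.Lib.Helper18_ChevTri
  Cfsg.Agent.Lib.Helper18_ChevBorel Cfsg.Agent.Lib.Helper18_ChevAdd Cfsg.Agent.Lib.Helper18_ChevUni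
  Cfsg.Agent.Lib.Helper81_StUniq Cfsg.Agent.Lib.Helper81_StAbs Cfsg.Agent.Lib.Helper81_StL37
  Cfsg.Agent.Lib.Helper81_StBruhat Cfsg.Agent.Lib.Helper81_StTorus
  Cfsg.Agent.Lib.Helper81_StR3 Cfsg.Agent.Lib.Helper81_StMain Cfsg.Agent.Lib.Helper81_UceA
  Cfsg.Agent.Lib.Helper81_UceB Cfsg.Agent.Lib.Helper81_UceC Cfsg.Agent.Lib.Helper81_UceD
  Cfsg.Agent.Lib.Helper81_UceE Cfsg.Agent.Lib.Helper81_UceF Cfsg.Agent.Lib.Helper81_UceG
  Cfsg.Agent.Lib.Helper81_UceMain Cfsg.Agent.Lib.Helper81_Uce3A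

variable {D : ChevalleyDatum} {Ns : List NData} {F : Type*} [Field F] {Γ : Type*} [Group Γ]
variable {wl : List ℤ} {ws : List (List ℤ)} {sc : ℤ} {bs : List BData} {X : ℕ → F → Γ} {π : Γ →* GL D.Idx F}
variable {E : Type*} [Group E] {ψ : E →* Γ}

/-! ### The lifts of a root subgroup over the prime field commute -/

theorem liftComm_self_prime3 (hψ : CExt ψ) (hX : StGrp D X) (hF3 : ∀ t : F, t = 0 ∨ t = 1 ∨ t = -1) {r : ℕ}
    (hr : r < D.nroots) (t : F) : LiftComm ψ X (X r t) r := by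
  have hpow : ∀ t : F, ∃ m : ℤ, X r t = X r 1 ^ m := by
    intro t
    rcases hF3 t with rfl | rfl | rfl
    · exact ⟨0, by rw [hX.zero r hr, zpow_zero]⟩
    · exact ⟨1, by rw [zpow_one]⟩
    · exact ⟨-1, by rw [zpow_neg, zpow_one, hX.inv r hr]⟩
  intro a x u ha hx
  obtain ⟨m, hm⟩ := hpow t
  obtain ⟨n, hn⟩ := hpow u
  exact Cfsg.Agent.Lib.Helper78_S2400_ZPOW.ZPOW hψ (ha.trans hm) (hx.trans hn)

/-! ### Commuting pairs with a separating toral element -/

/-- `x ≠ ±r`, the root elements of `r` and `x` commute, and `r`, `x` are separated by some `h_g(-1)`. -/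
def commSepOK (D : ChevalleyDatum) (r x : ℕ) : Bool :=
  decide (x ≠ r) && decide (x ≠ D.neg r) && decide (D.commTerms r x = []) && sep3OK D r x

theorem liftComm_of_commSepOK (C : Ctx D Ns wl ws sc bs X π) (hψ : CExt ψ) (h3 : (3 : F) = 0) {r x : ℕ}
    (hr : r < D.nroots) (hx : x < D.nroots) (h : commSepOK D r x = true) (u : F) : LiftComm ψ X (X x u) r := by
  unfold commSepOK at h
  simp only [Bool.and_eq_true, decide_eq_true_eq] at h
  obtain ⟨⟨⟨h1, h2⟩, h4⟩, h5⟩ := h
  exact liftComm_of_sep C hψ hr hx h1 h2 h4 (sep_of_sep3OK C h3 hr hx h5) u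

/-! ### Milnor's trick with two decompositions -/

/-- The `A3` configuration `p — x — q'` with highest root `r = p + x + q'`, `y = p + x`, `q = q' + x`. -/
def twoDecAt (D : ChevalleyDatum) (r x p q' : ℕ) : Bool :=
  match D.commTerms p x, D.commTerms q' x with
  | [(y, c2, 1, 1)], [(q, c4, 1, 1)] =>
    match D.commTerms p q, D.commTerms y q' with
    | [(r1, c1, 1, 1)], [(r2, c3, 1, 1)] =>
      decide (r1 = r ∧ r2 = r ∧ y < D.nroots ∧ q < D.nroots ∧ q ≠ p ∧ q ≠ D.neg p ∧ x ≠ p ∧ x ≠ D.neg p ∧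
        q' ≠ y ∧ q' ≠ D.neg y ∧ x ≠ q' ∧ x ≠ D.neg q' ∧ (c1 = 1 ∨ c1 = -1) ∧ (c2 = 1 ∨ c2 = -1) ∧
        (c3 = 1 ∨ c3 = -1) ∧ (c4 = 1 ∨ c4 = -1) ∧ c1 * c2 + c3 * c4 = 0 ∧ q ≠ y ∧ q ≠ D.neg y ∧
        D.commTerms y q = []) &&
        commSepOK D q x && commSepOK D r y && commSepOK D y x && commSepOK D r q
    | _, _ => false
  | _, _ => false

/-- Some `A3` configuration through the commuting roots `r`, `x`. -/
def twoDecOK (D : ChevalleyDatum) (r x : ℕ) : Bool :=
  (List.range D.nroots).any fun p => (List.range D.nroots).any fun q' => twoDecAt D r x p q'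

theorem liftComm_of_twoDecAt (C : Ctx D Ns wl ws sc bs X π) (hψ : CExt ψ) (h3 : (3 : F) = 0) {r x p q' : ℕ}
    (hr : r < D.nroots) (hx : x < D.nroots) (hp : p < D.nroots) (hq' : q' < D.nroots)
    (h : twoDecAt D r x p q' = true) (t : F) : LiftComm ψ X (X x t) r := by
  unfold twoDecAt at h
  split at h
  · rename_i y c2 q c4 heq2 heq4
    split at h
    · rename_i r1 c1 r2 c3 heq1 heq3
      simp only [Bool.and_eq_true, decide_eq_true_eq] at h
      obtain ⟨⟨⟨⟨⟨hr1, hr2, hy, hq, n1, n2, n3, n4, n5, n6, n7, n8, hc1, hc2, hc3, hc4, hsign, n9, n10, hyq⟩, L1⟩, L2⟩,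
        L3⟩, L4⟩ := h
      rw [hr1] at heq1
      rw [hr2] at heq3
      have hcast : ∀ c : ℤ, (c = 1 ∨ c = -1) → ((c : F) = 1 ∨ (c : F) = -1) := by
        rintro c (rfl | rfl)
        · left; simp
        · right; simp
      have T : ∀ a b k : ℕ, ∀ c : ℤ, a < D.nroots → b < D.nroots → b ≠ a → b ≠ D.neg a →
          D.commTerms a b = [(k, c, 1, 1)] →
          ∀ t u : F, (X b u)⁻¹ * (X a t)⁻¹ * X b u * X a t = X k ((c : F) * (-t) * u) := by
        intro a b k c ha hb h1 h2 hterms t u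
        have := C.hX.comm a b ha hb h1 h2 t u
        unfold ChevalleyDatum.commWord at this
        rw [hterms] at this
        simpa only [List.map_cons, List.map_nil, wordP_cons, wordP_nil, mul_one, pow_one] using this
      have hyqc : ∀ t u : F, X y t * X q u = X q u * X y t := by
        intro t u
        have := C.hX.comm y q hy hq n9 n10 t u
        unfold ChevalleyDatum.commWord at this
        rw [hyq, List.map_nil, wordP_nil] at this
        calc X y t * X q u = X q u * X y t * ((X q u)⁻¹ * (X y t)⁻¹ * X q u * X y t)⁻¹ := by group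
          _ = X q u * X y t := by rw [this, inv_one, mul_one]
      have key := Cfsg.Agent.Lib.Helper26_S2400_TWODEC.TWODEC h3 hψ (X r) (X x) (X p) (X q) (X y) (X q')
        (fun t u => (C.hX.add y hy t u).symm) (fun t u => (C.hX.add q hq t u).symm)
        (c1 : F) (c2 : F) (c3 : F) (c4 : F) (hcast c1 hc1) (hcast c2 hc2) (hcast c3 hc3) (hcast c4 hc4)
        (by exact_mod_cast congrArg (Int.cast : ℤ → F) hsign)
        (T p q r c1 hp hq n1 n2 heq1) (T p x y c2 hp hx n3 n4 heq2) (T y q' r c3 hy hq' n5 n6 heq3)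
        (T q' x q c4 hq' hx n7 n8 heq4) hyqc
        (fun a b t u ha hb => liftComm_of_commSepOK C hψ h3 hq hx L1 t a b u ha hb)
        (fun a b t u ha hb => liftComm_of_commSepOK C hψ h3 hr hy L2 t a b u ha hb)
        (fun a b t u ha hb => liftComm_of_commSepOK C hψ h3 hy hx L3 t a b u ha hb)
        (fun a b t u ha hb => liftComm_of_commSepOK C hψ h3 hr hq L4 t a b u ha hb)
      intro a b u ha hb
      exact key a b t u ha hb
    · exact absurd h (by simp)
  · exact absurd h (by simp)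

theorem liftComm_of_twoDecOK (C : Ctx D Ns wl ws sc bs X π) (hψ : CExt ψ) (h3 : (3 : F) = 0) {r x : ℕ}
    (hr : r < D.nroots) (hx : x < D.nroots) (h : twoDecOK D r x = true) (t : F) : LiftComm ψ X (X x t) r := by
  unfold twoDecOK at h
  rw [List.any_eq_true] at h
  obtain ⟨p, hp, h1⟩ := h
  rw [List.any_eq_true] at h1
  obtain ⟨q', hq', h2⟩ := h1
  exact liftComm_of_twoDecAt C hψ h3 hr hx (List.mem_range.mp hp) (List.mem_range.mp hq') h2 t

/-! ### The certificate and the splitting -/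

/-- Every root has a root with odd pairing, and every pair `s ≠ ±r` is separated by some `h_g(-1)` or commutes and
sits in an `A3` configuration. -/
def cert3OK (D : ChevalleyDatum) : Bool :=
  ((List.range D.nroots).all fun r => (List.range D.nroots).any fun g => decide (cartanL D g r % 2 = 1)) &&
    (List.range D.nroots).all fun r => (List.range D.nroots).all fun s =>
      decide (s = r) || decide (s = D.neg r) || sep3OK D r s ||
        (decide (D.commTerms r s = []) && (twoDecOK D r s || twoDecOK D s r))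

theorem stGrp_Y3_of_cert (C : Ctx D Ns wl ws sc bs X π) (hψ : CExt ψ) (hP : PCert D) (h3 : (3 : F) = 0)
    (hF3 : ∀ t : F, t = 0 ∨ t = 1 ∨ t = -1) (hcert : cert3OK D = true) :
    (∀ r < D.nroots, ∀ t : F, ψ (Y3 D X hψ.surj (gsel3 D) r t) = X r t) ∧
      StGrp D (Y3 D X hψ.surj (gsel3 D)) := by
  unfold cert3OK at hcert
  rw [Bool.and_eq_true, List.all_eq_true, List.all_eq_true] at hcert
  obtain ⟨hc1, hc2⟩ := hcert
  have hg : ∀ r < D.nroots, gsel3 D r < D.nroots ∧ Odd (cartanR D (gsel3 D r) r) :=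
    fun r hr => gsel3_spec (hc1 r (List.mem_range.mpr hr))
  have hself : ∀ r < D.nroots, ∀ t : F, LiftComm ψ X (X r t) r :=
    fun r hr t => liftComm_self_prime3 hψ C.hX hF3 hr t
  have hmap : ∀ r < D.nroots, ∀ t : F, ψ (Y3 D X hψ.surj (gsel3 D) r t) = X r t :=
    fun r hr t => map_Y3 C hψ h3 (gsel3 D) hr (hg r hr).1 (hg r hr).2 t
  refine ⟨hmap, ?_⟩
  apply stGrp_of_liftSys' C (liftSys_Y3 C hψ h3 (gsel3 D) hg hself) _
    (fun r hr s hs h1 h2 => exists_grading hP C.c C.tc C.ac r s hr hs h1 h2)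
  intro r hr s hs h1 h2
  have h4 := hc2 r (List.mem_range.mpr hr)
  rw [List.all_eq_true] at h4
  have h5 := h4 s (List.mem_range.mpr hs)
  simp only [Bool.or_eq_true, Bool.and_eq_true, decide_eq_true_eq] at h5
  rcases h5 with ((h5 | h5) | h5) | ⟨h5, h6⟩
  · exact absurd h5 h1
  · exact absurd h5 h2
  · exact Or.inl (sep_of_sep3OK C h3 hr hs h5)
  · right
    intro t u
    unfold ChevalleyDatum.commWord
    rw [h5, List.map_nil, wordP_nil]
    have hcomm : Y3 D X hψ.surj (gsel3 D) s u * Y3 D X hψ.surj (gsel3 D) r t =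
        Y3 D X hψ.surj (gsel3 D) r t * Y3 D X hψ.surj (gsel3 D) s u := by
      rcases h6 with h6 | h6
      · exact liftComm_of_twoDecOK C hψ h3 hr hs h6 u _ _ t (hmap s hs u) (hmap r hr t)
      · exact (liftComm_of_twoDecOK C hψ h3 hs hr h6 t _ _ u (hmap r hr t) (hmap s hs u)).symm
    calc (Y3 D X hψ.surj (gsel3 D) s u)⁻¹ * (Y3 D X hψ.surj (gsel3 D) r t)⁻¹ * Y3 D X hψ.surj (gsel3 D) s u *
          Y3 D X hψ.surj (gsel3 D) r t
        = (Y3 D X hψ.surj (gsel3 D) s u)⁻¹ * (Y3 D X hψ.surj (gsel3 D) r t)⁻¹ *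
          (Y3 D X hψ.surj (gsel3 D) s u * Y3 D X hψ.surj (gsel3 D) r t) := by group
      _ = 1 := by rw [hcomm]; group

/-- Over the field with three elements: every central extension of the presented group splits, for a datum with the
certificate. -/
theorem exists_section_three_of (D : ChevalleyDatum)
    (hD : D ∈ [chevG2, chevB2, chevD4, chevF4, chevE6, chevE7, chevE8]) (hcert : cert3OK D = true)
    (h3 : (3 : F) = 0) (hF3 : ∀ t : F, t = 0 ∨ t = 1 ∨ t = -1) {E : Type*} [Group E]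
    (ψ : E →* D.SteinbergCover F) (hψ : CExt ψ) :
    ∃ s : D.SteinbergCover F →* E, ψ.comp s = MonoidHom.id _ := by
  obtain ⟨Ns, wl, ws, sc, bs, π, C⟩ := exists_ctx (F := F) D hD
  obtain ⟨hP, -⟩ := pCert_of_mem D hD
  obtain ⟨hmap, hY⟩ := stGrp_Y3_of_cert C hψ hP h3 hF3 hcert
  obtain ⟨s, hs⟩ := exists_hom_of_stGrp C.c C.tc C.ac hY
  refine ⟨s, ?_⟩
  apply PresentedGroup.ext
  intro x
  rw [MonoidHom.comp_apply, of_eq_pGen, hs x.1 x.1.2 x.2, hmap x.1 x.1.2 x.2]
  rfl

/-- A field with three elements. -/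
theorem three_facts [Fintype F] (hF : Fintype.card F = 3) : (3 : F) = 0 ∧ ∀ t : F, t = 0 ∨ t = 1 ∨ t = -1 := by
  classical
  have h3 : (3 : F) = 0 := by
    have := Nat.cast_card_eq_zero F
    rw [hF] at this
    exact_mod_cast this
  refine ⟨h3, ?_⟩
  have hne : (1 : F) ≠ -1 := fun h => neg_one_ne_one_of_three h3 h.symm
  have hcard : ({0, 1, -1} : Finset F).card = 3 := by
    rw [Finset.card_insert_of_notMem, Finset.card_insert_of_notMem, Finset.card_singleton]
    · simpa using hne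
    · simp
  have huniv : ({0, 1, -1} : Finset F) = Finset.univ := by
    apply Finset.eq_univ_of_card
    rw [hcard, hF]
  intro t
  have := Finset.mem_univ t
  rw [← huniv] at this
  simpa using this

end Cfsg.Agent.Lib.Helper81_Uce3B
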