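/-
Universal central extension (helper81), the field with three elements, part C: the certificates for the types D4 and
F4; every central extension of the group presented by (R1), (R2) of type D4 or F4 over the field with three elements
splits.
-/
import Mathlib
import Cfsg.Agent.Lib.Helper81_Uce3B

set_option autoImplicit false
set_option maxRecDepth 1000000

namespace Cfsg.Agent.Lib.Helper81_Uce3C

open Cfsg Cfsg.Lie Cfsg.Agent.Lib.Helper81_UceA Cfsg.Agent.Lib.Helper81_Uce3B

theorem cert3_D4 : cert3OK chevD4 = true := by decide +kernel

theorem cert3_F4 : cert3OK chevF4 = true := by decide +kernel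

variable {F : Type*} [Field F]

theorem exists_section_D4_three [Fintype F] (hF : Fintype.card F = 3) {E : Type*} [Group E]
    (ψ : E →* chevD4.SteinbergCover F) (hψ : CExt ψ) :
    ∃ s : chevD4.SteinbergCover F →* E, ψ.comp s = MonoidHom.id _ :=
  exists_section_three_of chevD4 (by simp) cert3_D4 (three_facts hF).1 (three_facts hF).2 ψ hψ

theorem exists_section_F4_three [Fintype F] (hF : Fintype.card F = 3) {E : Type*} [Group E]
    (ψ : E →* chevF4.SteinbergCover F) (hψ : CExt ψ) :
    ∃ s : chevF4.SteinbergCover F →* E, ψ.comp s = MonoidHom.id _ :=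
  exists_section_three_of chevF4 (by simp) cert3_F4 (three_facts hF).1 (three_facts hF).2 ψ hψ

end Cfsg.Agent.Lib.Helper81_Uce3C
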