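/-
Universal central extension (helper81), the field with three elements, part D: two orthogonal long roots `l`, `l'` of a
doubly laced datum, `l' = s1 + s2 = l + 2 s1`, `s2 = l + s1` with `s1`, `s2` short: the lifts of `X l` and `X l'`
commute (the step (1c) of helper72's proof for the type B2).
-/
import Mathlib
import Cfsg.Agent.Lib.Helper81_Uce3B

set_option autoImplicit false
set_option linter.unusedSectionVars false
set_option linter.unusedVariables false

namespace Cfsg.Agent.Lib.Helper81_Uce3D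

open Cfsg Cfsg.Lie Cfsg.Agent.Lib.Helper18_ChevFast Cfsg.Agent.Lib.Helper18_ChevEngine
  Cfsg.Agent.Lib.Helper18_ChevR1 Cfsg.Agent.Lib.Helper18_ChevN Cfsg.Agent.Lib.Helper18_ChevR4
  Cfsg.Agent.Lib.Helper18_ChevSimple Cfsg.Agent.Lib.Helper18_ChevSimple2 Cfsg.Agent.Lib.Helper18_ChevFacts
  Cfsg.Agent.Lib.Helper18_ChevWeyl Cfsg.Agent.Lib.Helper18_ChevDiag Cfsg.Agent.Lib.Helper18_ChevCar
  Cfsg.Agent.Lib.Helper18_ChevTorus Cfsg.Agent.Lib.Helper18_ChevGL Cfsg.Agent.Lib.Helper18_ChevComm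
  Cfsg.Agent.Lib.Helper18_ChevComm2 Cfsg.Agent.Lib.Helper18_MatTri Cfsg.Agent.Lib.Helper18_ChevTri
  Cfsg.Agent.Lib.Helper18_ChevBorel Cfsg.Agent.Lib.Helper18_ChevAdd Cfsg.Agent.Lib.Helper18_ChevUni
  Cfsg.Agent.Lib.Helper81_StUniq Cfsg.Agent.Lib.Helper81_StAbs Cfsg.Agent.Lib.Helper81_StL37
  Cfsg.Agent.Lib.Helper81_StBruhat Cfsg.Agent.Lib.Helper81_StTorus
  Cfsg.Agent.Lib.Helper81_StR3 Cfsg.Agent.Lib.Helper81_StMain Cfsg.Agent.Lib.Helper81_UceA
  Cfsg.Agent.Lib.Helper81_UceB Cfsg.Agent.Lib.Helper81_UceC Cfsg.Agent.Lib.Helper81_UceD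
  Cfsg.Agent.Lib.Helper81_UceE Cfsg.Agent.Lib.Helper81_UceF Cfsg.Agent.Lib.Helper81_UceG
  Cfsg.Agent.Lib.Helper81_UceMain Cfsg.Agent.Lib.Helper81_Uce3A Cfsg.Agent.Lib.Helper81_Uce3B

variable {D : ChevalleyDatum} {Ns : List NData} {F : Type*} [Field F] {Γ : Type*} [Group Γ]
variable {wl : List ℤ} {ws : List (List ℤ)} {sc : ℤ} {bs : List BData} {X : ℕ → F → Γ} {π : Γ →* GL D.Idx F}
variable {E : Type*} [Group E] {ψ : E →* Γ}

/-- The configuration: `commTerms l s1 = [(s2, c1, 1, 1), (l', c2, 1, 2)]`, `commTerms s1 s2 = [(l', ±2, 1, 1)]`,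
and `s2` commutes with `l`, `l'` and is separated from them. -/
def longPairAt (D : ChevalleyDatum) (l l' s1 : ℕ) : Bool :=
  match D.commTerms l s1 with
  | [(s2, _, 1, 1), (l1, _, 1, 2)] =>
    match D.commTerms s1 s2 with
    | [(l2, c, 1, 1)] =>
      decide (l1 = l' ∧ l2 = l' ∧ s2 < D.nroots ∧ s1 ≠ l ∧ s1 ≠ D.neg l ∧ s2 ≠ s1 ∧ s2 ≠ D.neg s1 ∧
        (c = 2 ∨ c = -2)) && commSepOK D s2 l && commSepOK D s2 l' && commSepOK D l' s2
    | _ => false
  | _ => false

def longPairOK (D : ChevalleyDatum) (l l' : ℕ) : Bool :=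
  (List.range D.nroots).any fun s1 => longPairAt D l l' s1

theorem liftComm_of_longPairAt (C : Ctx D Ns wl ws sc bs X π) (hψ : CExt ψ) (h3 : (3 : F) = 0)
    (hF3 : ∀ t : F, t = 0 ∨ t = 1 ∨ t = -1) {l l' s1 : ℕ} (hl : l < D.nroots) (hl' : l' < D.nroots)
    (hs1 : s1 < D.nroots) (h : longPairAt D l l' s1 = true) (v : F) : LiftComm ψ X (X l v) l' := by
  unfold longPairAt at h
  split at h
  · rename_i s2 c1 l1 c2 heq1
    split at h
    · rename_i l2 c heq2
      simp only [Bool.and_eq_true, decide_eq_true_eq] at h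
      obtain ⟨⟨⟨⟨hl1, hl2, hs2, n1, n2, n3, n4, hc⟩, L1⟩, L3⟩, L3'⟩ := h
      rw [hl1] at heq1
      rw [hl2] at heq2
      have hcF : (c : F) ≠ 0 := by
        have h2 := two_ne_zero_of_three h3
        rcases hc with rfl | rfl
        · push_cast
          exact h2
        · push_cast
          exact neg_ne_zero.mpr h2
      intro a x t ha hx
      -- the lifts `A`, `B` and the commutator `w`, a lift of `X l' t`
      set t0 : F := -((c : F)⁻¹ * t) with ht0
      obtain ⟨A, hA⟩ := hψ.surj (X s1 t0)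
      obtain ⟨B, hB⟩ := hψ.surj (X s2 1)
      have hw : ψ (B⁻¹ * A⁻¹ * B * A) = X l' t := by
        have := C.hX.comm s1 s2 hs1 hs2 n3 n4 t0 1
        unfold ChevalleyDatum.commWord at this
        rw [heq2] at this
        simp only [List.map_cons, List.map_nil, wordP_cons, wordP_nil, mul_one, pow_one] at this
        rw [map_mul, map_mul, map_mul, map_inv, map_inv, hA, hB, this]
        congr 1
        rw [ht0, neg_neg, ← mul_assoc, mul_inv_cancel₀ hcF, one_mul]
      -- `x` differs from `w` by a central element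
      obtain ⟨ζ, hζ, rfl⟩ := hψ.exists_mul_of_eq (hw.trans hx.symm)
      have hζc := hψ.comm_of_ker hζ
      -- `z`, a lift of an element of `X s2 · X l'`
      set z := A⁻¹ * a⁻¹ * A * a with hzdef
      have hz : ψ z = X s2 ((c1 : F) * (-v) * t0) * X l' ((c2 : F) * (-v) * t0 ^ 2) := by
        have := C.hX.comm l s1 hl hs1 n1 n2 v t0
        unfold ChevalleyDatum.commWord at this
        rw [heq1] at this
        simp only [List.map_cons, List.map_nil, wordP_cons, wordP_nil, mul_one, pow_one] at this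
        rw [hzdef, map_mul, map_mul, map_mul, map_inv, map_inv, hA, ha, this]
      -- the lifts of `ψ z` commute with the lifts of `X s2` and of `X l'`
      have hz2 : ψ z ∈ liftCommSub hψ X s2 := by
        rw [hz]
        exact Subgroup.mul_mem _ (liftComm_self_prime3 hψ C.hX hF3 hs2 _)
          (liftComm_of_commSepOK C hψ h3 hs2 hl' L3 _)
      have hzl : ψ z ∈ liftCommSub hψ X l' := by
        rw [hz]
        exact Subgroup.mul_mem _ (liftComm_of_commSepOK C hψ h3 hl' hs2 L3' _)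
          (liftComm_self_prime3 hψ C.hX hF3 hl' _)
      have hzB : z * B = B * z := hz2 z B 1 rfl hB
      have hzw : z * (B⁻¹ * A⁻¹ * B * A) = (B⁻¹ * A⁻¹ * B * A) * z := hzl z _ t rfl hw
      have haB : a * B = B * a := liftComm_of_commSepOK C hψ h3 hs2 hl L1 v a B 1 ha hB
      -- conjugate `w` by `a`
      have e1 : a⁻¹ * A * a = A * z := by
        rw [hzdef]
        group
      have e2 : a⁻¹ * B * a = B := by
        calc a⁻¹ * B * a = a⁻¹ * (B * a) := by group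
          _ = a⁻¹ * (a * B) := by rw [haB]
          _ = B := by group
      have e3 : a⁻¹ * (B⁻¹ * A⁻¹ * B * A) * a = B⁻¹ * A⁻¹ * B * A := by
        calc a⁻¹ * (B⁻¹ * A⁻¹ * B * A) * a
            = (a⁻¹ * B * a)⁻¹ * (a⁻¹ * A * a)⁻¹ * (a⁻¹ * B * a) * (a⁻¹ * A * a) := by group
          _ = B⁻¹ * (A * z)⁻¹ * B * (A * z) := by rw [e1, e2]
          _ = z⁻¹ * (z * B⁻¹) * z⁻¹ * A⁻¹ * B * A * z := by group
          _ = z⁻¹ * (B⁻¹ * z) * z⁻¹ * A⁻¹ * B * A * z := by
            have : z * B⁻¹ = B⁻¹ * z := by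
              calc z * B⁻¹ = B⁻¹ * (B * z) * B⁻¹ := by group
                _ = B⁻¹ * (z * B) * B⁻¹ := by rw [hzB]
                _ = B⁻¹ * z := by group
            rw [this]
          _ = z⁻¹ * ((B⁻¹ * A⁻¹ * B * A) * z) := by group
          _ = z⁻¹ * (z * (B⁻¹ * A⁻¹ * B * A)) := by rw [hzw]
          _ = B⁻¹ * A⁻¹ * B * A := by group
      have e4 : a * (B⁻¹ * A⁻¹ * B * A) = (B⁻¹ * A⁻¹ * B * A) * a := by
        calc a * (B⁻¹ * A⁻¹ * B * A) = a * (a⁻¹ * (B⁻¹ * A⁻¹ * B * A) * a) := by rw [e3]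
          _ = (B⁻¹ * A⁻¹ * B * A) * a := by group
      calc a * (B⁻¹ * A⁻¹ * B * A * ζ) = (a * (B⁻¹ * A⁻¹ * B * A)) * ζ := by group
        _ = (B⁻¹ * A⁻¹ * B * A) * a * ζ := by rw [e4]
        _ = (B⁻¹ * A⁻¹ * B * A) * (a * ζ) := by group
        _ = (B⁻¹ * A⁻¹ * B * A) * (ζ * a) := by rw [hζc a]
        _ = B⁻¹ * A⁻¹ * B * A * ζ * a := by group
    · exact absurd h (by simp)
  · exact absurd h (by simp)

theorem liftComm_of_longPairOK (C : Ctx D Ns wl ws sc bs X π) (hψ : CExt ψ) (h3 : (3 : F) = 0)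
    (hF3 : ∀ t : F, t = 0 ∨ t = 1 ∨ t = -1) {l l' : ℕ} (hl : l < D.nroots) (hl' : l' < D.nroots)
    (h : longPairOK D l l' = true) (v : F) : LiftComm ψ X (X l v) l' := by
  unfold longPairOK at h
  rw [List.any_eq_true] at h
  obtain ⟨s1, hs1, h1⟩ := h
  exact liftComm_of_longPairAt C hψ h3 hF3 hl hl' (List.mem_range.mp hs1) h1 v

end Cfsg.Agent.Lib.Helper81_Uce3D
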