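/-
Universal central extension (helper81), the field with three elements, part E: the lift of a long root `l = s1 + s2`
(`s1`, `s2` short and orthogonal, `[X s2, X s1] = X l (±2 ·)`) without a root of odd pairing: the commutator
`W t u = (B u)⁻¹ (A t)⁻¹ B u A t` of the lifts `A`, `B` of `X s1`, `X s2`; `Zl t = W (-c⁻¹ t) 1`.  It is a lift of
`X l t`, additive (package WBIADD of helper72's market, proved by helper26) and equivariant for the toral elements.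
-/
import Mathlib
import Cfsg.Agent.Lib.Helper81_Uce3D
import Cfsg.Agent.Lib.Helper26_S2400_WBIADD
import Cfsg.Agent.Lib.Helper18_ChevCent

set_option autoImplicit false
set_option linter.unusedSectionVars false
set_option linter.unusedVariables false

namespace Cfsg.Agent.Lib.Helper81_Uce3E

open Cfsg Cfsg.Lie Cfsg.Agent.Lib.Helper18_ChevFast Cfsg.Agent.Lib.Helper18_ChevEngine
  Cfsg.Agent.Lib.Helper18_ChevR1 Cfsg.Agent.Lib.Helper18_ChevN Cfsg.Agent.Lib.Helper18_ChevR4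
  Cfsg.Agent.Lib.Helper18_ChevSimple Cfsg.Agent.Lib.Helper18_ChevSimple2 Cfsg.Agent.Lib.Helper18_ChevFacts
  Cfsg.Agent.Lib.Helper18_ChevWeyl Cfsg.Agent.Lib.Helper18_ChevDiag Cfsg.Agent.Lib.Helper18_ChevCar
  Cfsg.Agent.Lib.Helper18_ChevTorus Cfsg.Agent.Lib.Helper18_ChevGL Cfsg.Agent.Lib.Helper18_ChevComm
  Cfsg.Agent.Lib.Helper18_ChevComm2 Cfsg.Agent.Lib.Helper18_MatTri Cfsg.Agent.Lib.Helper18_ChevTri
  Cfsg.Agent.Lib.Helper18_ChevBorel Cfsg.Agent.Lib.Helper18_ChevAdd Cfsg.Agent.Lib.Helper18_ChevUni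
  Cfsg.Agent.Lib.Helper18_ChevCent
  Cfsg.Agent.Lib.Helper81_StUniq Cfsg.Agent.Lib.Helper81_StAbs Cfsg.Agent.Lib.Helper81_StL37
  Cfsg.Agent.Lib.Helper81_StBruhat Cfsg.Agent.Lib.Helper81_StTorus
  Cfsg.Agent.Lib.Helper81_StR3 Cfsg.Agent.Lib.Helper81_StMain Cfsg.Agent.Lib.Helper81_UceA
  Cfsg.Agent.Lib.Helper81_UceB Cfsg.Agent.Lib.Helper81_UceC Cfsg.Agent.Lib.Helper81_UceD
  Cfsg.Agent.Lib.Helper81_UceE Cfsg.Agent.Lib.Helper81_UceF Cfsg.Agent.Lib.Helper81_UceG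
  Cfsg.Agent.Lib.Helper81_UceMain Cfsg.Agent.Lib.Helper81_Uce3A Cfsg.Agent.Lib.Helper81_Uce3B
  Cfsg.Agent.Lib.Helper81_Uce3D

variable {D : ChevalleyDatum} {Ns : List NData} {F : Type*} [Field F] {Γ : Type*} [Group Γ]
variable {wl : List ℤ} {ws : List (List ℤ)} {sc : ℤ} {bs : List BData} {X : ℕ → F → Γ} {π : Γ →* GL D.Idx F}
variable {E : Type*} [Group E] {ψ : E →* Γ}

/-- The root elements `X r t` determine `t`. -/
theorem X_param_inj (C : Ctx D Ns wl ws sc bs X π) {r : ℕ} (hr : r < D.nroots) {a b : F} (h : X r a = X r b) :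
    a = b := by
  have h1 := congrArg π h
  rw [C.hπ r hr, C.hπ r hr] at h1
  have h2 := congrArg (fun g : GL D.Idx F => (g : Matrix D.Idx D.Idx F)) h1
  simp only [xGL_coe] at h2
  exact xGL_param_inj C.c C.tc C.ac r hr a b h2

/-- The character of a toral element is multiplicative on `l = s1 + s2`. -/
theorem char_mul (C : Ctx D Ns wl ws sc bs X π) {k : Γ} {χ : ℕ → F} (hk : TorAct D X k χ) {l s1 s2 : ℕ} {c : ℤ}
    (hl : l < D.nroots) (hs1 : s1 < D.nroots) (hs2 : s2 < D.nroots) (n3 : s2 ≠ s1) (n4 : s2 ≠ D.neg s1)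
    (hterms : D.commTerms s1 s2 = [(l, c, 1, 1)]) (hcF : (c : F) ≠ 0) : χ l = χ s1 * χ s2 := by
  have hrel : ∀ t u : F, (X s2 u)⁻¹ * (X s1 t)⁻¹ * X s2 u * X s1 t = X l ((c : F) * (-t) * u) := by
    intro t u
    have := C.hX.comm s1 s2 hs1 hs2 n3 n4 t u
    unfold ChevalleyDatum.commWord at this
    rw [hterms] at this
    simpa only [List.map_cons, List.map_nil, wordP_cons, wordP_nil, mul_one, pow_one] using this
  have h1 := hrel 1 1
  have h2 : k * ((X s2 1)⁻¹ * (X s1 1)⁻¹ * X s2 1 * X s1 1) * k⁻¹ =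
      (k * X s2 1 * k⁻¹)⁻¹ * (k * X s1 1 * k⁻¹)⁻¹ * (k * X s2 1 * k⁻¹) * (k * X s1 1 * k⁻¹) := by group
  rw [h1, (hk l hl).2, (hk s1 hs1).2, (hk s2 hs2).2, hrel] at h2
  have h3 := X_param_inj C hl h2
  have h4 : (c : F) * (χ l - χ s1 * χ s2) = 0 := by linear_combination -h3
  rcases mul_eq_zero.mp h4 with h5 | h5
  · exact absurd h5 hcF
  · exact sub_eq_zero.mp h5

/-! ### The commutator of two additive families of lifts -/

/-- `W t u = (B u)⁻¹ (A t)⁻¹ B u A t`. -/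
def Wc (A B : F → E) (t u : F) : E := (B u)⁻¹ * (A t)⁻¹ * B u * A t

/-- The lift of `X l t`. -/
def Zl (A B : F → E) (c : F) (t : F) : E := Wc A B (-(c⁻¹ * t)) 1

/-- The hypotheses on a long root `l = s1 + s2` and lifts `A`, `B` of `X s1`, `X s2`. -/
structure LongHyp (D : ChevalleyDatum) (X : ℕ → F → Γ) (ψ : E →* Γ) (A B : F → E) (l s1 s2 : ℕ) (c : ℤ) :
    Prop where
  hl : l < D.nroots
  hs1 : s1 < D.nroots
  hs2 : s2 < D.nroots
  n3 : s2 ≠ s1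
  n4 : s2 ≠ D.neg s1
  terms : D.commTerms s1 s2 = [(l, c, 1, 1)]
  hc : c = 2 ∨ c = -2
  mapA : ∀ t : F, ψ (A t) = X s1 t
  mapB : ∀ t : F, ψ (B t) = X s2 t
  addA : ∀ t u : F, A t * A u = A (t + u)
  addB : ∀ t u : F, B t * B u = B (t + u)
  L1 : ∀ v : F, LiftComm ψ X (X l v) s1
  L2 : ∀ v : F, LiftComm ψ X (X l v) s2

namespace LongHyp

variable {A B : F → E} {l s1 s2 : ℕ} {c : ℤ}

theorem cF_ne (H : LongHyp D X ψ A B l s1 s2 c) (h3 : (3 : F) = 0) : (c : F) ≠ 0 := by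
  have h2 := two_ne_zero_of_three h3
  rcases H.hc with rfl | rfl
  · push_cast
    exact h2
  · push_cast
    exact neg_ne_zero.mpr h2

theorem map_Wc (C : Ctx D Ns wl ws sc bs X π) (H : LongHyp D X ψ A B l s1 s2 c) (t u : F) :
    ψ (Wc A B t u) = X l ((c : F) * (-t) * u) := by
  have := C.hX.comm s1 s2 H.hs1 H.hs2 H.n3 H.n4 t u
  unfold ChevalleyDatum.commWord at this
  rw [H.terms] at this
  simp only [List.map_cons, List.map_nil, wordP_cons, wordP_nil, mul_one, pow_one] at this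
  unfold Wc
  rw [map_mul, map_mul, map_mul, map_inv, map_inv, H.mapA, H.mapB, this]

theorem biadd (C : Ctx D Ns wl ws sc bs X π) (H : LongHyp D X ψ A B l s1 s2 c)
    (hF3 : ∀ t : F, t = 0 ∨ t = 1 ∨ t = -1) :
    (∀ t t' u : F, Wc A B (t + t') u = Wc A B t u * Wc A B t' u) ∧
      (∀ t u : F, Wc A B t u = Wc A B (t * u) 1) := by
  have hWA : ∀ t u t' : F, ((B u)⁻¹ * (A t)⁻¹ * B u * A t) * A t' = A t' * ((B u)⁻¹ * (A t)⁻¹ * B u * A t) := by
    intro t u t'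
    exact H.L1 _ (Wc A B t u) (A t') t' (H.map_Wc C t u) (H.mapA t')
  have hWB : ∀ t u u' : F, ((B u)⁻¹ * (A t)⁻¹ * B u * A t) * B u' = B u' * ((B u)⁻¹ * (A t)⁻¹ * B u * A t) := by
    intro t u u'
    exact H.L2 _ (Wc A B t u) (B u') u' (H.map_Wc C t u) (H.mapB u')
  obtain ⟨h1, -, h3⟩ := Cfsg.Agent.Lib.Helper26_S2400_WBIADD.WBIADD A B (fun t u => (H.addA t u).symm)
    (fun t u => (H.addB t u).symm) hWA hWB
  exact ⟨fun t t' u => h1 t t' u, fun t u => h3 hF3 t u⟩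

theorem map_Zl (C : Ctx D Ns wl ws sc bs X π) (H : LongHyp D X ψ A B l s1 s2 c) (h3 : (3 : F) = 0) (t : F) :
    ψ (Zl A B (c : F) t) = X l t := by
  unfold Zl
  rw [H.map_Wc C]
  congr 1
  rw [neg_neg, mul_one, ← mul_assoc, mul_inv_cancel₀ (H.cF_ne h3), one_mul]

theorem Zl_add (C : Ctx D Ns wl ws sc bs X π) (H : LongHyp D X ψ A B l s1 s2 c)
    (hF3 : ∀ t : F, t = 0 ∨ t = 1 ∨ t = -1) (t u : F) :
    Zl A B (c : F) t * Zl A B (c : F) u = Zl A B (c : F) (t + u) := by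
  unfold Zl
  rw [← (H.biadd C hF3).1]
  congr 1
  ring

theorem Wc_eq_Zl (C : Ctx D Ns wl ws sc bs X π) (H : LongHyp D X ψ A B l s1 s2 c) (h3 : (3 : F) = 0)
    (hF3 : ∀ t : F, t = 0 ∨ t = 1 ∨ t = -1) (t u : F) :
    Wc A B t u = Zl A B (c : F) ((c : F) * (-t) * u) := by
  unfold Zl
  rw [(H.biadd C hF3).2 t u]
  congr 1
  have hc := H.cF_ne h3
  field_simp

theorem Zl_conj (C : Ctx D Ns wl ws sc bs X π) (H : LongHyp D X ψ A B l s1 s2 c) (h3 : (3 : F) = 0)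
    (hF3 : ∀ t : F, t = 0 ∨ t = 1 ∨ t = -1) {k : Γ} {χ : ℕ → F} (hk : TorAct D X k χ) {kh : E}
    (hA : ∀ t : F, kh * A t * kh⁻¹ = A (χ s1 * t)) (hB : ∀ t : F, kh * B t * kh⁻¹ = B (χ s2 * t)) (t : F) :
    kh * Zl A B (c : F) t * kh⁻¹ = Zl A B (c : F) (χ l * t) := by
  have hχ := char_mul C hk H.hl H.hs1 H.hs2 H.n3 H.n4 H.terms (H.cF_ne h3)
  have e1 : ∀ t u : F, kh * Wc A B t u * kh⁻¹ = Wc A B (χ s1 * t) (χ s2 * u) := by
    intro t u
    unfold Wc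
    rw [← hA, ← hB]
    group
  unfold Zl
  rw [e1, (H.biadd C hF3).2]
  congr 1
  rw [hχ]
  ring

end LongHyp

end Cfsg.Agent.Lib.Helper81_Uce3E
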