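/-
Universal central extension (helper81), the field with three elements, part F: the mixed system of lifts (canonical
lifts `Y3` for the roots with a root of odd pairing, commutators of these for the other roots, which are sums of two
orthogonal short roots) and the splitting of the central extensions of the group presented by (R1), (R2) for a datum
with the corresponding certificate.  Instance: type B2.
-/
import Mathlib
import Cfsg.Agent.Lib.Helper81_Uce3E

set_option autoImplicit false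
set_option linter.unusedSectionVars false
set_option linter.unusedVariables false
set_option maxRecDepth 1000000

namespace Cfsg.Agent.Lib.Helper81_Uce3F

open Cfsg Cfsg.Lie Cfsg.Agent.Lib.Helper18_ChevFast Cfsg.Agent.Lib.Helper18_ChevEngine
  Cfsg.Agent.Lib.Helper18_ChevR1 Cfsg.Agent.Lib.Helper18_ChevN Cfsg.Agent.Lib.Helper18_ChevR4
  Cfsg.Agent.Lib.Helper18_ChevSimple Cfsg.Agent.Lib.Helper18_ChevSimple2 Cfsg.Agent.Lib.Helper18_ChevFacts
  Cfsg.Agent.Lib.Helper18_ChevWeyl Cfsg.Agent.Lib.Helper18_ChevDiag Cfsg.Agent.Lib.Helper18_ChevCar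
  Cfsg.Agent.Lib.Helper18_ChevTorus Cfsg.Agent.Lib.Helper18_ChevGL Cfsg.Agent.Lib.Helper18_ChevComm
  Cfsg.Agent.Lib.Helper18_ChevComm2 Cfsg.Agent.Lib.Helper18_MatTri Cfsg.Agent.Lib.Helper18_ChevTri
  Cfsg.Agent.Lib.Helper18_ChevBorel Cfsg.Agent.Lib.Helper18_ChevAdd Cfsg.Agent.Lib.Helper18_ChevUni
  Cfsg.Agent.Lib.Helper81_StUniq Cfsg.Agent.Lib.Helper81_StAbs Cfsg.Agent.Lib.Helper81_StL37
  Cfsg.Agent.Lib.Helper81_StBruhat Cfsg.Agent.Lib.Helper81_StTorus
  Cfsg.Agent.Lib.Helper81_StR3 Cfsg.Agent.Lib.Helper81_StMain Cfsg.Agent.Lib.Helper81_UceA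
  Cfsg.Agent.Lib.Helper81_UceB Cfsg.Agent.Lib.Helper81_UceC Cfsg.Agent.Lib.Helper81_UceD
  Cfsg.Agent.Lib.Helper81_UceE Cfsg.Agent.Lib.Helper81_UceF Cfsg.Agent.Lib.Helper81_UceG
  Cfsg.Agent.Lib.Helper81_UceMain Cfsg.Agent.Lib.Helper81_Uce3A Cfsg.Agent.Lib.Helper81_Uce3B
  Cfsg.Agent.Lib.Helper81_Uce3D Cfsg.Agent.Lib.Helper81_Uce3E

variable {D : ChevalleyDatum} {Ns : List NData} {F : Type*} [Field F] {Γ : Type*} [Group Γ]
variable {wl : List ℤ} {ws : List (List ℤ)} {sc : ℤ} {bs : List BData} {X : ℕ → F → Γ} {π : Γ →* GL D.Idx F}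
variable {E : Type*} [Group E] {ψ : E →* Γ}

/-! ### The selectors -/

/-- The root `r` has a root of odd pairing. -/
def hasOdd (D : ChevalleyDatum) (r : ℕ) : Bool :=
  (List.range D.nroots).any fun g => decide (cartanL D g r % 2 = 1)

theorem hasOdd_spec {r : ℕ} (h : hasOdd D r = true) : gsel3 D r < D.nroots ∧ Odd (cartanR D (gsel3 D r) r) :=
  gsel3_spec h

/-- The coefficient of the single term of `commTerms s1 s2`. -/
def cOf (D : ChevalleyDatum) (s1 s2 : ℕ) : ℤ :=
  match D.commTerms s1 s2 with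
  | [(_, c, 1, 1)] => c
  | _ => 0

/-- `l = s1 + s2` with `s1`, `s2` having roots of odd pairing, coefficient `±2`, and `l` commuting with and separated
from `s1`, `s2`. -/
def lselAt (D : ChevalleyDatum) (l s1 s2 : ℕ) : Bool :=
  hasOdd D s1 && hasOdd D s2 && decide (s2 ≠ s1 ∧ s2 ≠ D.neg s1) &&
    decide (D.commTerms s1 s2 = [(l, cOf D s1 s2, 1, 1)] ∧ (cOf D s1 s2 = 2 ∨ cOf D s1 s2 = -2)) &&
    commSepOK D s1 l && commSepOK D s2 l

def pairsL (D : ChevalleyDatum) : List (ℕ × ℕ) :=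
  (List.range D.nroots).flatMap fun a => (List.range D.nroots).map fun b => (a, b)

theorem mem_pairsL {p : ℕ × ℕ} (h : p ∈ pairsL D) : p.1 < D.nroots ∧ p.2 < D.nroots := by
  unfold pairsL at h
  rw [List.mem_flatMap] at h
  obtain ⟨a, ha, h1⟩ := h
  rw [List.mem_map] at h1
  obtain ⟨b, hb, rfl⟩ := h1
  exact ⟨List.mem_range.mp ha, List.mem_range.mp hb⟩

/-- The chosen decomposition of a root without a root of odd pairing. -/
def lsel (D : ChevalleyDatum) (l : ℕ) : Option (ℕ × ℕ) := (pairsL D).find? fun p => lselAt D l p.1 p.2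

theorem lsel_spec {l : ℕ} {p : ℕ × ℕ} (h : lsel D l = some p) :
    p.1 < D.nroots ∧ p.2 < D.nroots ∧ lselAt D l p.1 p.2 = true := by
  unfold lsel at h
  have h1 := List.find?_some h
  have h2 := mem_pairsL (List.mem_of_find?_eq_some h)
  exact ⟨h2.1, h2.2, h1⟩

/-- The mixed system of lifts. -/
noncomputable def Zm (D : ChevalleyDatum) (X : ℕ → F → Γ) (hs : Function.Surjective ψ) (r : ℕ) (t : F) : E :=
  if hasOdd D r = true then Y3 D X hs (gsel3 D) r t
  else
    match lsel D r with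
    | some p => Zl (Y3 D X hs (gsel3 D) p.1) (Y3 D X hs (gsel3 D) p.2) ((cOf D p.1 p.2 : ℤ) : F) t
    | none => 1

theorem Zm_odd (hs : Function.Surjective ψ) {r : ℕ} (h : hasOdd D r = true) (t : F) :
    Zm D X hs r t = Y3 D X hs (gsel3 D) r t := by
  unfold Zm
  rw [if_pos h]

theorem Zm_long (hs : Function.Surjective ψ) {r : ℕ} (h : hasOdd D r = false) {p : ℕ × ℕ} (hp : lsel D r = some p)
    (t : F) :
    Zm D X hs r t = Zl (Y3 D X hs (gsel3 D) p.1) (Y3 D X hs (gsel3 D) p.2) ((cOf D p.1 p.2 : ℤ) : F) t := by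
  unfold Zm
  rw [if_neg (by rw [h]; exact Bool.false_ne_true), hp]

/-- The hypotheses of part E hold for a chosen decomposition. -/
theorem longHyp_of_lsel (C : Ctx D Ns wl ws sc bs X π) (hψ : CExt ψ) (h3 : (3 : F) = 0)
    (hF3 : ∀ t : F, t = 0 ∨ t = 1 ∨ t = -1) {l : ℕ} (hl : l < D.nroots) {p : ℕ × ℕ} (hp : lsel D l = some p) :
    LongHyp D X ψ (Y3 D X hψ.surj (gsel3 D) p.1) (Y3 D X hψ.surj (gsel3 D) p.2) l p.1 p.2 (cOf D p.1 p.2) := by
  obtain ⟨hp1, hp2, h⟩ := lsel_spec hp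
  unfold lselAt at h
  simp only [Bool.and_eq_true, decide_eq_true_eq] at h
  obtain ⟨⟨⟨⟨⟨ho1, ho2⟩, n3, n4⟩, hterms, hc⟩, S1⟩, S2⟩ := h
  have g1 := hasOdd_spec ho1
  have g2 := hasOdd_spec ho2
  exact
    { hl := hl
      hs1 := hp1
      hs2 := hp2
      n3 := n3
      n4 := n4
      terms := hterms
      hc := hc
      mapA := fun t => map_Y3 C hψ h3 (gsel3 D) hp1 g1.1 g1.2 t
      mapB := fun t => map_Y3 C hψ h3 (gsel3 D) hp2 g2.1 g2.2 t
      addA := fun t u => Y3_add C hψ h3 (gsel3 D) hp1 g1.1 g1.2 (liftComm_self_prime3 hψ C.hX hF3 hp1) t u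
      addB := fun t u => Y3_add C hψ h3 (gsel3 D) hp2 g2.1 g2.2 (liftComm_self_prime3 hψ C.hX hF3 hp2) t u
      L1 := fun v => liftComm_of_commSepOK C hψ h3 hp1 hl S1 v
      L2 := fun v => liftComm_of_commSepOK C hψ h3 hp2 hl S2 v }

/-- Every root has a root of odd pairing or a chosen decomposition. -/
def mixOK (D : ChevalleyDatum) : Bool :=
  (List.range D.nroots).all fun r => hasOdd D r || (lsel D r).isSome

theorem mix_cases (h : mixOK D = true) {r : ℕ} (hr : r < D.nroots) :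
    hasOdd D r = true ∨ (hasOdd D r = false ∧ ∃ p, lsel D r = some p) := by
  unfold mixOK at h
  rw [List.all_eq_true] at h
  have h1 := h r (List.mem_range.mpr hr)
  rw [Bool.or_eq_true] at h1
  cases ho : hasOdd D r with
  | true => exact Or.inl rfl
  | false =>
    right
    refine ⟨rfl, ?_⟩
    rcases h1 with h1 | h1
    · rw [ho] at h1
      exact absurd h1 Bool.false_ne_true
    · exact Option.isSome_iff_exists.mp h1

/-- The mixed system is a system of additive, equivariant lifts. -/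
theorem liftSys_Zm (C : Ctx D Ns wl ws sc bs X π) (hψ : CExt ψ) (h3 : (3 : F) = 0)
    (hF3 : ∀ t : F, t = 0 ∨ t = 1 ∨ t = -1) (hmix : mixOK D = true) : LiftSys D X ψ (Zm D X hψ.surj) where
  ext := hψ
  map := by
    intro r hr t
    rcases mix_cases hmix hr with ho | ⟨ho, p, hp⟩
    · rw [Zm_odd hψ.surj ho]
      exact map_Y3 C hψ h3 (gsel3 D) hr (hasOdd_spec ho).1 (hasOdd_spec ho).2 t
    · rw [Zm_long hψ.surj ho hp]
      exact (longHyp_of_lsel C hψ h3 hF3 hr hp).map_Zl C h3 t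
  add := by
    intro r hr t u
    rcases mix_cases hmix hr with ho | ⟨ho, p, hp⟩
    · rw [Zm_odd hψ.surj ho, Zm_odd hψ.surj ho, Zm_odd hψ.surj ho]
      exact Y3_add C hψ h3 (gsel3 D) hr (hasOdd_spec ho).1 (hasOdd_spec ho).2
        (liftComm_self_prime3 hψ C.hX hF3 hr) t u
    · rw [Zm_long hψ.surj ho hp, Zm_long hψ.surj ho hp, Zm_long hψ.surj ho hp]
      exact (longHyp_of_lsel C hψ h3 hF3 hr hp).Zl_add C hF3 t u
  conj := by
    intro k χ hk kh hkh r hr t
    rcases mix_cases hmix hr with ho | ⟨ho, p, hp⟩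
    · rw [Zm_odd hψ.surj ho, Zm_odd hψ.surj ho]
      exact Y3_conj C hψ h3 (gsel3 D) hr (hasOdd_spec ho).1 (hasOdd_spec ho).2 hk hkh t
    · rw [Zm_long hψ.surj ho hp, Zm_long hψ.surj ho hp]
      have H := longHyp_of_lsel C hψ h3 hF3 hr hp
      obtain ⟨hp1, hp2, h⟩ := lsel_spec hp
      unfold lselAt at h
      simp only [Bool.and_eq_true, decide_eq_true_eq] at h
      obtain ⟨⟨⟨⟨⟨ho1, ho2⟩, -⟩, -⟩, -⟩, -⟩ := h
      exact H.Zl_conj C h3 hF3 hk
        (fun t => Y3_conj C hψ h3 (gsel3 D) hp1 (hasOdd_spec ho1).1 (hasOdd_spec ho1).2 hk hkh t)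
        (fun t => Y3_conj C hψ h3 (gsel3 D) hp2 (hasOdd_spec ho2).1 (hasOdd_spec ho2).2 hk hkh t) t

/-! ### The pairs of roots -/

/-- `(r, s)` is the chosen decomposition of the root `r + s`. -/
def defPair (D : ChevalleyDatum) (r s : ℕ) : Bool :=
  match D.commTerms r s with
  | [(l, _, 1, 1)] => decide (l < D.nroots) && !hasOdd D l && decide (lsel D l = some (r, s))
  | _ => false

/-- `(s, r)` is the chosen decomposition of the root `r + s`, and the coefficients are opposite. -/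
def defPairRev (D : ChevalleyDatum) (r s : ℕ) : Bool :=
  match D.commTerms r s with
  | [(l, c', 1, 1)] =>
    decide (l < D.nroots) && !hasOdd D l && decide (lsel D l = some (s, r)) && decide (c' = -cOf D s r)
  | _ => false

theorem relB_of_defPair (C : Ctx D Ns wl ws sc bs X π) (hψ : CExt ψ) (h3 : (3 : F) = 0)
    (hF3 : ∀ t : F, t = 0 ∨ t = 1 ∨ t = -1) {r s : ℕ} (h : defPair D r s = true) :
    RelB D (Zm D X hψ.surj) r s := by
  unfold defPair at h
  split at h
  · rename_i l c heq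
    simp only [Bool.and_eq_true, decide_eq_true_eq, Bool.not_eq_true'] at h
    obtain ⟨⟨hl, hol⟩, hp⟩ := h
    have H := longHyp_of_lsel C hψ h3 hF3 hl hp
    obtain ⟨hp1, hp2, hh⟩ := lsel_spec hp
    unfold lselAt at hh
    simp only [Bool.and_eq_true, decide_eq_true_eq] at hh
    obtain ⟨⟨⟨⟨⟨ho1, ho2⟩, -⟩, hterms, -⟩, -⟩, -⟩ := hh
    have hc : c = cOf D r s := by
      have := heq.symm.trans hterms
      simp only [List.cons.injEq, Prod.mk.injEq, and_true, true_and] at this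
      exact this
    intro t u
    unfold ChevalleyDatum.commWord
    rw [heq]
    simp only [List.map_cons, List.map_nil, wordP_cons, wordP_nil, mul_one, pow_one]
    rw [Zm_odd hψ.surj ho1, Zm_odd hψ.surj ho2, Zm_long hψ.surj hol hp, hc]
    exact H.Wc_eq_Zl C h3 hF3 t u
  · exact absurd h (by simp)

theorem Zl_neg {A B : F → E} {l s1 s2 : ℕ} {c : ℤ} (C : Ctx D Ns wl ws sc bs X π)
    (H : LongHyp D X ψ A B l s1 s2 c) (hF3 : ∀ t : F, t = 0 ∨ t = 1 ∨ t = -1) (t : F) :
    Zl A B (c : F) (-t) = (Zl A B (c : F) t)⁻¹ := by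
  have h0 : Zl A B (c : F) 0 = 1 := by
    have := H.Zl_add C hF3 0 0
    rw [add_zero] at this
    exact mul_eq_left.mp this
  rw [eq_inv_iff_mul_eq_one, H.Zl_add C hF3, neg_add_cancel, h0]

theorem relB_of_defPairRev (C : Ctx D Ns wl ws sc bs X π) (hψ : CExt ψ) (h3 : (3 : F) = 0)
    (hF3 : ∀ t : F, t = 0 ∨ t = 1 ∨ t = -1) {r s : ℕ} (h : defPairRev D r s = true) :
    RelB D (Zm D X hψ.surj) r s := by
  unfold defPairRev at h
  split at h
  · rename_i l c' heq
    simp only [Bool.and_eq_true, decide_eq_true_eq, Bool.not_eq_true'] at h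
    obtain ⟨⟨⟨hl, hol⟩, hp⟩, hcc⟩ := h
    have H := longHyp_of_lsel C hψ h3 hF3 hl hp
    obtain ⟨hp1, hp2, hh⟩ := lsel_spec hp
    unfold lselAt at hh
    simp only [Bool.and_eq_true, decide_eq_true_eq] at hh
    obtain ⟨⟨⟨⟨⟨ho1, ho2⟩, -⟩, -⟩, -⟩, -⟩ := hh
    intro t u
    unfold ChevalleyDatum.commWord
    rw [heq]
    simp only [List.map_cons, List.map_nil, wordP_cons, wordP_nil, mul_one, pow_one]
    rw [Zm_odd hψ.surj ho1, Zm_odd hψ.surj ho2, Zm_long hψ.surj hol hp]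
    have e1 : (Y3 D X hψ.surj (gsel3 D) s u)⁻¹ * (Y3 D X hψ.surj (gsel3 D) r t)⁻¹ * Y3 D X hψ.surj (gsel3 D) s u *
        Y3 D X hψ.surj (gsel3 D) r t =
        (Wc (Y3 D X hψ.surj (gsel3 D) s) (Y3 D X hψ.surj (gsel3 D) r) u t)⁻¹ := by
      unfold Wc
      group
    rw [e1, H.Wc_eq_Zl C h3 hF3 u t, ← Zl_neg C H hF3, hcc]
    congr 1
    push_cast
    ring
  · exact absurd h (by simp)

/-- The certificate on the pairs of roots. -/
def pairOK (D : ChevalleyDatum) (r s : ℕ) : Bool :=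
  decide (s = r) || decide (s = D.neg r) || sep3OK D r s ||
    (decide (D.commTerms r s = []) &&
      (twoDecOK D r s || twoDecOK D s r || longPairOK D r s || longPairOK D s r)) ||
    defPair D r s || defPairRev D r s

def cert3mOK (D : ChevalleyDatum) : Bool :=
  mixOK D && (List.range D.nroots).all fun r => (List.range D.nroots).all fun s => pairOK D r s

theorem stGrp_Zm_of_cert (C : Ctx D Ns wl ws sc bs X π) (hψ : CExt ψ) (hP : PCert D) (h3 : (3 : F) = 0)
    (hF3 : ∀ t : F, t = 0 ∨ t = 1 ∨ t = -1) (hcert : cert3mOK D = true) :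
    (∀ r < D.nroots, ∀ t : F, ψ (Zm D X hψ.surj r t) = X r t) ∧ StGrp D (Zm D X hψ.surj) := by
  unfold cert3mOK at hcert
  rw [Bool.and_eq_true, List.all_eq_true] at hcert
  obtain ⟨hmix, hc2⟩ := hcert
  have S := liftSys_Zm C hψ h3 hF3 hmix
  refine ⟨S.map, ?_⟩
  apply stGrp_of_liftSys' C S _
    (fun r hr s hs h1 h2 => exists_grading hP C.c C.tc C.ac r s hr hs h1 h2)
  intro r hr s hs h1 h2
  have h4 := hc2 r (List.mem_range.mpr hr)
  rw [List.all_eq_true] at h4
  have h5 := h4 s (List.mem_range.mpr hs)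
  unfold pairOK at h5
  simp only [Bool.or_eq_true, Bool.and_eq_true, decide_eq_true_eq] at h5
  rcases h5 with ((((h5 | h5) | h5) | ⟨h5, h6⟩) | h5) | h5
  · exact absurd h5 h1
  · exact absurd h5 h2
  · exact Or.inl (sep_of_sep3OK C h3 hr hs h5)
  · right
    intro t u
    unfold ChevalleyDatum.commWord
    rw [h5, List.map_nil, wordP_nil]
    have hcomm : Zm D X hψ.surj s u * Zm D X hψ.surj r t = Zm D X hψ.surj r t * Zm D X hψ.surj s u := by
      rcases h6 with ((h6 | h6) | h6) | h6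
      · exact liftComm_of_twoDecOK C hψ h3 hr hs h6 u _ _ t (S.map s hs u) (S.map r hr t)
      · exact (liftComm_of_twoDecOK C hψ h3 hs hr h6 t _ _ u (S.map r hr t) (S.map s hs u)).symm
      · exact (liftComm_of_longPairOK C hψ h3 hF3 hr hs h6 t _ _ u (S.map r hr t) (S.map s hs u)).symm
      · exact liftComm_of_longPairOK C hψ h3 hF3 hs hr h6 u _ _ t (S.map s hs u) (S.map r hr t)
    calc (Zm D X hψ.surj s u)⁻¹ * (Zm D X hψ.surj r t)⁻¹ * Zm D X hψ.surj s u * Zm D X hψ.surj r t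
        = (Zm D X hψ.surj s u)⁻¹ * (Zm D X hψ.surj r t)⁻¹ * (Zm D X hψ.surj s u * Zm D X hψ.surj r t) := by group
      _ = 1 := by rw [hcomm]; group
  · exact Or.inr (relB_of_defPair C hψ h3 hF3 h5)
  · exact Or.inr (relB_of_defPairRev C hψ h3 hF3 h5)

/-- Over the field with three elements: every central extension of the presented group splits, for a datum with the
mixed certificate. -/
theorem exists_section_three_mixed (D : ChevalleyDatum)
    (hD : D ∈ [chevG2, chevB2, chevD4, chevF4, chevE6, chevE7, chevE8]) (hcert : cert3mOK D = true)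
    (h3 : (3 : F) = 0) (hF3 : ∀ t : F, t = 0 ∨ t = 1 ∨ t = -1) {E : Type*} [Group E]
    (ψ : E →* D.SteinbergCover F) (hψ : CExt ψ) :
    ∃ s : D.SteinbergCover F →* E, ψ.comp s = MonoidHom.id _ := by
  obtain ⟨Ns, wl, ws, sc, bs, π, C⟩ := exists_ctx (F := F) D hD
  obtain ⟨hP, -⟩ := pCert_of_mem D hD
  obtain ⟨hmap, hY⟩ := stGrp_Zm_of_cert C hψ hP h3 hF3 hcert
  obtain ⟨s, hs⟩ := exists_hom_of_stGrp C.c C.tc C.ac hY
  refine ⟨s, ?_⟩
  apply PresentedGroup.ext
  intro x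
  rw [MonoidHom.comp_apply, of_eq_pGen, hs x.1 x.1.2 x.2, hmap x.1 x.1.2 x.2]
  rfl

theorem cert3m_B2 : cert3mOK chevB2 = true := by decide +kernel

theorem exists_section_B2_three [Fintype F] (hF : Fintype.card F = 3) {E : Type*} [Group E]
    (ψ : E →* chevB2.SteinbergCover F) (hψ : CExt ψ) :
    ∃ s : chevB2.SteinbergCover F →* E, ψ.comp s = MonoidHom.id _ :=
  exists_section_three_mixed chevB2 (by simp) cert3m_B2 (three_facts hF).1 (three_facts hF).2 ψ hψ

end Cfsg.Agent.Lib.Helper81_Uce3F
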