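import Cfsg.Agent.Lib.Helper13_AmAPI
import Cfsg.Agent.Lib.Helper12_Sims_BEQUIV
import Cfsg.Agent.Lib.Helper33_Sims_E53

/-!
# S2858 market (architect helper13), package E-53 (parallel seat), aux form:
`|C_x| ≠ 4`, with the conclusions of E-51 (`split_K`) and E-52 (`Cst_inf`) as hypotheses.
Adaptation of `Helper33_Sims_E53.card_Cst_ne_four`.
-/

set_option autoImplicit false
set_option linter.unusedVariables false

namespace Cfsg.Agent.Lib.Helper82_Am_E53aux

open MulAction Cfsg.Agent.Lib.Helper13_SimsDefs Cfsg.Agent.Lib.Helper13_AmDefs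
open Cfsg.Agent.Lib.Helper12_Sims_BEQUIV Cfsg.Agent.Lib.Helper33_Sims_E53

section pure
variable {G : Type*} [Group G]

/-- a subgroup of order four whose `Ω₁Z` has order at most two contains an element of order four
(no finiteness of `G`) -/
theorem h82_exists_sq_ne_one (C : Subgroup G) (hC : Nat.card C = 4)
    (hZ : Nat.card (Om1Z C) ≤ 2) : ∃ x ∈ C, x ^ 2 ≠ 1 := by
  by_contra hcon
  push Not at hcon
  have hcomm := comm_of_card_four C hC
  have hle : C ≤ Om1Z C := fun g hg => ⟨hg, fun h hh => hcomm h hh g hg, hcon g hg⟩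
  have hle' : Om1Z C ≤ C := fun g hg => hg.1
  have heq : Om1Z C = C := le_antisymm hle' hle
  rw [heq, hC] at hZ
  omega

end pure

section PartE
variable {G Ω : Type*} [Group G] [MulAction G Ω] {a b : Ω}

/-- E-53 with the conclusions of E-51 and E-52 as hypotheses -/
theorem card_Cst_ne_four_of (S : S3Am G a b) (L : LocAPI G a b) (F : FF G a b)
    (hsplit : ∀ x : Ω, Nst G a b x ⊔ Cst G a b x = Kst G a b x ∧ Nst G a b x ⊓ Cst G a b x = ⊥ ∧
      Om1Z (Cst G a b x) = Zpr G a b x ∧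
      (∀ y, Adj G a b x y → ∀ Y : Subgroup G, Y ≤ Cst G a b x → (∀ g ∈ Tst G x y, Nrm g Y) →
        ∀ g ∈ stabilizer G x, Nrm g Y))
    (hCinf : ∀ {x y : Ω}, Adj G a b x y →
      Cst G a b x ⊓ Cst G a b y = ⊥ ∧ (∀ u ∈ Cst G a b x, ∀ v ∈ Cst G a b y, u * v = v * u) ∧
      Nat.card (Cst G a b x) ≤ 8 ∧ Nat.card (Tst G x y) = 8 * Nat.card (Cst G a b x))
    (x : Ω) : Nat.card (Cst G a b x) ≠ 4 := by
  intro h4
  obtain ⟨y, hadj⟩ := S.nbr x
  have hadj' : Adj G a b y x := Or.symm hadj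
  have hTsymm : Tst G y x = Tst G x y := inf_comm _ _
  obtain ⟨hinf, hcomm, -, hT⟩ := hCinf hadj
  obtain ⟨-, -, -, hT'⟩ := hCinf hadj'
  rw [h4] at hT
  have h4y : Nat.card (Cst G a b y) = 4 := by
    rw [hTsymm, hT] at hT'
    omega
  obtain ⟨hsupx, -, hOmx, -⟩ := hsplit x
  obtain ⟨hsupy, -, hOmy, -⟩ := hsplit y
  have hfinT : Finite ↥(Tst G x y) := Nat.finite_of_card_ne_zero (by rw [hT]; norm_num)
  -- elements of order four
  obtain ⟨u, huC, hu2⟩ := h82_exists_sq_ne_one (Cst G a b x) h4 (by rw [hOmx]; exact F.cardZ x)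
  obtain ⟨v, hvC, hv2⟩ := h82_exists_sq_ne_one (Cst G a b y) h4y (by rw [hOmy]; exact F.cardZ y)
  obtain ⟨habx, hsqx⟩ := sq_mem_Cst x hsupx (comm_of_card_four _ h4)
  obtain ⟨haby, hsqy⟩ := sq_mem_Cst y hsupy (comm_of_card_four _ h4y)
  have hCKx : Cst G a b x ≤ Kst G a b x := hsupx ▸ le_sup_right
  have hCKy : Cst G a b y ≤ Kst G a b y := hsupy ▸ le_sup_right
  have hKxT : Kst G a b x ≤ Tst G x y := Kst_le_Tst hadj
  have hKyT : Kst G a b y ≤ Tst G x y := hTsymm ▸ Kst_le_Tst hadj'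
  -- `v ∉ K_x`
  have hvKx : v ∉ Kst G a b x := by
    intro h
    have h1 : v ^ 2 ∈ Cst G a b x ⊓ Cst G a b y :=
      ⟨hsqx v h, Subgroup.pow_mem _ hvC 2⟩
    rw [hinf, Subgroup.mem_bot] at h1
    exact hv2 h1
  have hvT : v ∈ Tst G x y := hKyT (hCKy hvC)
  have hvGx : v ∈ stabilizer G x := hvT.1
  -- `v` is not central in `T`
  obtain ⟨z, hz, hzv⟩ : ∃ z ∈ Vst G a b x, v * z ≠ z * v := by
    by_contra hcon
    push Not at hcon
    exact hvKx (F.cent x v hvGx hcon)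
  have hzT : z ∈ Tst G x y := hKxT (Vst_le_Kst x hz)
  -- the centraliser of `v` in `T`
  let CT : Subgroup G := Tst G x y ⊓ Subgroup.centralizer {v}
  have hCT : ∀ k, k ∈ CT ↔ k ∈ Tst G x y ∧ v * k = k * v := by
    intro k
    rw [Subgroup.mem_inf, Subgroup.mem_centralizer_iff]
    simp
  have hCTle : CT ≤ Tst G x y := inf_le_left
  have hfinCT : Finite ↥CT :=
    Finite.of_injective (Subgroup.inclusion hCTle) (Subgroup.inclusion_injective _)
  have hCTne : Nat.card CT ≠ 32 := by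
    intro h
    have : CT = Tst G x y := Subgroup.eq_of_le_of_card_ge hCTle (by rw [h, hT])
    have h1 : z ∈ CT := this ▸ hzT
    exact hzv ((hCT z).1 h1).2
  have hCTdvd : Nat.card CT ∣ 32 := by
    have := Subgroup.card_dvd_of_le hCTle
    rwa [hT] at this
  have hCT16 : Nat.card CT ≤ 16 := by
    have hle : Nat.card CT ≤ 32 := Nat.le_of_dvd (by norm_num) hCTdvd
    have key : ∀ n : Fin 33, n.val ∣ 32 → n.val ≠ 32 → n.val ≤ 16 := by decide
    exact key ⟨Nat.card CT, by omega⟩ hCTdvd hCTne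
  have hKy16 : Nat.card (Kst G a b y) = 16 := by
    have := F.idx2 y x hadj'
    rw [hTsymm, hT] at this
    omega
  have hKyCT : Kst G a b y ≤ CT := fun k hk =>
    (hCT k).2 ⟨hKyT hk, haby v (hCKy hvC) k hk⟩
  have hKyeq : Kst G a b y = CT :=
    Subgroup.eq_of_le_of_card_ge hKyCT (by rw [hKy16]; exact hCT16)
  -- `u ∈ K_y`
  have huKy : u ∈ Kst G a b y := by
    rw [hKyeq]
    exact (hCT u).2 ⟨hKxT (hCKx huC), (hcomm u huC v hvC).symm⟩
  have h1 : u ^ 2 ∈ Cst G a b x ⊓ Cst G a b y :=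
    ⟨Subgroup.pow_mem _ huC 2, hsqy u huKy⟩
  rw [hinf, Subgroup.mem_bot] at h1
  exact hu2 h1

end PartE

end Cfsg.Agent.Lib.Helper82_Am_E53aux
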