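import Mathlib
import Cfsg.Prelude.Def_Blocks
import Cfsg.Prelude.Def_BlockRank
import Cfsg.Agent.Lib.Helper78_LocalRing
import Cfsg.Agent.Lib.Helper78_CharFacts
import Cfsg.Agent.Lib.Helper77_RegProj
import Cfsg.Agent.Lib.Helper79_ClassCount
import Cfsg.Agent.Lib.Helper82_Sections
import Cfsg.Agent.Lib.Helper82_SubsecRank
import Cfsg.Agent.Lib.Helper82_Subsections
import Cfsg.Agent.Lib.Helper82_SubsecClaim

/-!
# Brauer's count by subsections, summed over all `p`-elements (helper82)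

For a union `S = ⋃₀ 𝔅` of `p`-blocks of the finite group `G`:
`|G| · (k(S) − l(S)) = ∑_{y ≠ 1 a p-element} |C_G(y)| · l(⋃ blocks of C_G(y) inducing a member of 𝔅)`
(`card_mul_card_sub_blockRank`).
-/

set_option autoImplicit false
set_option linter.unusedSectionVars false

namespace Cfsg.Agent.Lib.Helper82_BrauerCountElems

open Cfsg Cfsg.Agent.Lib.Helper78_LocalRing Cfsg.Agent.Lib.Helper78_CharFacts
  Cfsg.Agent.Lib.Helper82_Sections
  Cfsg.Agent.Lib.Helper82_SubsecRank Cfsg.Agent.Lib.Helper77_RegProj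
  Cfsg.Agent.Lib.Helper82_Subsections Cfsg.Agent.Lib.Helper82_SubsecClaim

universe u

variable {G : Type u} [Group G]

theorem charSpan_mono {S T : Set (IrrCharacter G)} (h : S ⊆ T) : charSpan S ≤ charSpan T :=
  Submodule.span_mono (Set.image_mono h)

/-- **Section decomposition** for a set of characters whose span is stable under the section
projections. -/
theorem card_eq_sum_finrank_of_stable [Finite G] {p : ℕ} (hp : p.Prime)
    (S : Set (IrrCharacter G))
    (hS : ∀ x : G, ∀ w ∈ charSpan S, tmap p x w ∈ charSpan S) (X : Finset G)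
    (hX : ∀ x ∈ X, ∃ k : ℕ, orderOf x = p ^ k)
    (hXrep : ∀ g : G, (∃ k : ℕ, orderOf g = p ^ k) → ∃! x, x ∈ X ∧ IsConj g x) :
    Nat.card S = ∑ x ∈ X, Module.finrank ℂ ((charSpan S).map (dmap p x)) := by
  classical
  have hrep : ∀ g : G, (∃ k : ℕ, orderOf g = p ^ k) → ∃ x, x ∈ X ∧ IsConj g x := fun g hg =>
    (hXrep g hg).exists
  have hconj : ∀ x ∈ X, ∀ x' ∈ X, IsConj x x' → x = x' := by
    intro x hx x' hx' hc
    obtain ⟨x₀, -, huniq⟩ := hXrep x (hX x hx)
    rw [huniq x ⟨hx, IsConj.refl x⟩, huniq x' ⟨hx', hc⟩]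
  set W := charSpan S with hW
  have hinj : Function.Injective (Dmap p X W) := by
    rw [← LinearMap.ker_eq_bot, LinearMap.ker_eq_bot']
    intro w hw
    apply Subtype.ext
    apply eq_zero_of_dmap_eq_zero hp X hrep (isClassFunction_of_mem_charSpan w.2)
    intro x hx
    have := congrArg (fun f => ((f ⟨x, hx⟩ : ↥(W.map (dmap p x))) :
      ↥(Subgroup.centralizer ({x} : Set G)) → ℂ)) hw
    exact this
  have hsurj : Function.Surjective (Dmap p X W) := by
    intro y
    have hex : ∀ x : ↥X, ∃ w : G → ℂ, w ∈ W ∧ dmap p (x : G) w = (y x : _) := fun x =>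
      Submodule.mem_map.mp (y x).2
    choose w hwW hwy using hex
    have hmem : ∑ x : ↥X, tmap p (x : G) (w x) ∈ W :=
      Submodule.sum_mem _ fun x _ => hS (x : G) _ (hwW x)
    refine ⟨⟨_, hmem⟩, ?_⟩
    funext x'
    apply Subtype.ext
    rw [Dmap_apply]
    show dmap p (x' : G) (∑ x : ↥X, tmap p (x : G) (w x)) = _
    rw [map_sum]
    have h1 : ∀ x : ↥X, dmap p (x' : G) (tmap p (x : G) (w x)) =
        if x = x' then dmap p (x' : G) (w x) else 0 := by
      intro x
      rw [dmap_tmap hp (hX x' x'.2) (hconj x x.2 x' x'.2)]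
      by_cases hxx : x = x'
      · rw [if_pos hxx, if_pos (congrArg Subtype.val hxx)]
      · rw [if_neg hxx, if_neg (fun h => hxx (Subtype.ext h))]
    simp_rw [h1]
    rw [Finset.sum_ite_eq' Finset.univ x' (fun x => dmap p (x' : G) (w x)),
      if_pos (Finset.mem_univ _), hwy]
  have e := LinearEquiv.ofBijective (Dmap p X W) ⟨hinj, hsurj⟩
  rw [← finrank_charSpan S, ← hW, e.finrank_eq, Module.finrank_pi_fintype ℂ,
    ← Finset.sum_coe_sort X (fun x => Module.finrank ℂ ((charSpan S).map (dmap p x)))]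

/-- The span of a union of blocks is stable under the section projections. -/
theorem tmap_mem_charSpan_sUnion [Finite G] {p : ℕ} {M : Ideal AlgInt} (hM : IsPModular p M)
    (𝔅 : Set (Set (IrrCharacter G))) (h𝔅 : ∀ b ∈ 𝔅, IsPBlock M b) (x : G) (w : G → ℂ)
    (hw : w ∈ charSpan (⋃₀ 𝔅)) : tmap p x w ∈ charSpan (⋃₀ 𝔅) := by
  have hle : (charSpan (⋃₀ 𝔅)).map (tmap p x) ≤ charSpan (⋃₀ 𝔅) := by
    rw [charSpan, Submodule.map_span_le]
    rintro _ ⟨χ, ⟨b, hb, hχ⟩, rfl⟩
    exact charSpan_mono (Set.subset_sUnion_of_mem hb)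
      (tmap_mem_charSpan hM (h𝔅 b hb) x (mem_charSpan_of_mem hχ))
  exact hle (Submodule.mem_map_of_mem hw)

/-- The union of the blocks of `C_G(x)` inducing a member of `𝔅`. -/
def indU (M : Ideal AlgInt) (x : G) (𝔅 : Set (Set (IrrCharacter G))) :
    Set (IrrCharacter ↥(Subgroup.centralizer ({x} : Set G))) :=
  ⋃₀ {β' | ∃ β ∈ 𝔅, IsInducedBlock M (Subgroup.centralizer ({x} : Set G)) β' β}

theorem map_dmap_charSpan_sUnion [Finite G] {p : ℕ} {M : Ideal AlgInt} (hM : IsPModular p M)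
    {x : G} (hx : ∃ k : ℕ, orderOf x = p ^ k) (𝔅 : Set (Set (IrrCharacter G)))
    (h𝔅 : ∀ b ∈ 𝔅, IsPBlock M b) :
    (charSpan (⋃₀ 𝔅)).map (dmap p x) = regSpan p (indU M x 𝔅) := by
  apply le_antisymm
  · rw [charSpan, Submodule.map_span_le]
    rintro _ ⟨χ, ⟨b, hb, hχ⟩, rfl⟩
    have h1 : dmap p x (χ : G → ℂ) ∈ (charSpan b).map (dmap p x) :=
      Submodule.mem_map_of_mem (mem_charSpan_of_mem hχ)
    rw [map_dmap_charSpan hM hx (h𝔅 b hb)] at h1
    refine regSpan_mono p ?_ h1
    rintro ξ ⟨β', hβ', hξ⟩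
    exact ⟨β', ⟨b, hb, hβ'⟩, hξ⟩
  · rw [regSpan, Submodule.span_le]
    rintro _ ⟨ξ, ⟨β', ⟨b, hb, hβ'⟩, hξ⟩, rfl⟩
    have h1 : pRegularPart p (ξ : ↥(Subgroup.centralizer ({x} : Set G)) → ℂ) ∈
        regSpan p (indSet M x b) := Submodule.subset_span ⟨ξ, ⟨β', hβ', hξ⟩, rfl⟩
    rw [← map_dmap_charSpan hM hx (h𝔅 b hb)] at h1
    exact Submodule.map_mono (charSpan_mono (Set.subset_sUnion_of_mem hb)) h1

/-- At `x = 1` the generalized decomposition map is restriction to the `p`-regular elements. -/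
theorem finrank_map_dmap_one (p : ℕ) (S : Set (IrrCharacter G)) :
    Module.finrank ℂ ((charSpan S).map (dmap p (1 : G))) = blockRank p S := by
  have hbij : Function.Bijective
      (fun c : ↥(Subgroup.centralizer ({(1 : G)} : Set G)) => (c : G)) := by
    refine ⟨Subtype.val_injective, fun g => ⟨⟨g, ?_⟩, rfl⟩⟩
    rw [Subgroup.mem_centralizer_iff]
    intro k hk
    rw [Set.mem_singleton_iff] at hk
    rw [hk, one_mul, mul_one]
  let ι : ↥(Subgroup.centralizer ({(1 : G)} : Set G)) ≃ G := Equiv.ofBijective _ hbij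
  let e : (G → ℂ) ≃ₗ[ℂ] (↥(Subgroup.centralizer ({(1 : G)} : Set G)) → ℂ) :=
    LinearEquiv.funCongrLeft ℂ ℂ ι
  have he : ∀ (f : G → ℂ) (c : ↥(Subgroup.centralizer ({(1 : G)} : Set G))), e f c = f (c : G) :=
    fun f c => rfl
  have hkey : (charSpan S).map (dmap p (1 : G)) = (regSpan p S).map (e : (G → ℂ) →ₗ[ℂ] _) := by
    rw [charSpan, regSpan, Submodule.map_span, Submodule.map_span, Set.image_image, Set.image_image]
    congr 1
    apply Set.image_congr
    intro χ _
    funext c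
    show dmap p (1 : G) (χ : G → ℂ) c = e (pRegularPart p (χ : G → ℂ)) c
    rw [he]
    by_cases hc : p ∣ orderOf c
    · rw [dmap_apply_sing _ _ hc, pRegularPart_of_sing]
      rwa [Subgroup.orderOf_coe]
    · rw [dmap_apply_reg _ _ hc, pRegularPart_of_reg, one_mul]
      rwa [Subgroup.orderOf_coe]
  rw [hkey, blockRank_eq_finrank]
  exact LinearEquiv.finrank_map_eq e (regSpan p S)

/-- Conjugation between centralizers. -/
def centConj (x t : G) : ↥(Subgroup.centralizer ({x} : Set G)) ≃*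
    ↥(Subgroup.centralizer ({t * x * t⁻¹} : Set G)) where
  toFun c := ⟨t * (c : G) * t⁻¹, by
    rw [Subgroup.mem_centralizer_iff]
    intro k hk
    rw [Set.mem_singleton_iff] at hk
    have hc := commute_of_mem_centralizer c
    rw [hk]
    calc t * x * t⁻¹ * (t * (c : G) * t⁻¹) = t * (x * (c : G)) * t⁻¹ := by group
      _ = t * ((c : G) * x) * t⁻¹ := by rw [hc.eq]
      _ = t * (c : G) * t⁻¹ * (t * x * t⁻¹) := by group⟩
  invFun d := ⟨t⁻¹ * (d : G) * t, by
    rw [Subgroup.mem_centralizer_iff]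
    intro k hk
    rw [Set.mem_singleton_iff] at hk
    have hd := commute_of_mem_centralizer d
    rw [hk]
    have h1 : x = t⁻¹ * (t * x * t⁻¹) * t := by group
    calc x * (t⁻¹ * (d : G) * t) = t⁻¹ * ((t * x * t⁻¹) * (d : G)) * t := by group
      _ = t⁻¹ * ((d : G) * (t * x * t⁻¹)) * t := by rw [hd.eq]
      _ = t⁻¹ * (d : G) * t * x := by group⟩
  left_inv c := by
    apply Subtype.ext
    show t⁻¹ * (t * (c : G) * t⁻¹) * t = c
    group
  right_inv d := by
    apply Subtype.ext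
    show t * (t⁻¹ * (d : G) * t) * t⁻¹ = d
    group
  map_mul' c d := by
    apply Subtype.ext
    show t * ((c : G) * (d : G)) * t⁻¹ = t * (c : G) * t⁻¹ * (t * (d : G) * t⁻¹)
    group

theorem centConj_coe (x t : G) (c : ↥(Subgroup.centralizer ({x} : Set G))) :
    ((centConj x t c : ↥(Subgroup.centralizer ({t * x * t⁻¹} : Set G))) : G) =
      t * (c : G) * t⁻¹ := rfl

/-- The ranks of the images of the generalized decomposition maps are invariant under
conjugation. -/
theorem finrank_map_dmap_conj (p : ℕ) (S : Set (IrrCharacter G)) (x t : G) :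
    Module.finrank ℂ ((charSpan S).map (dmap p (t * x * t⁻¹))) =
      Module.finrank ℂ ((charSpan S).map (dmap p x)) := by
  let e : (↥(Subgroup.centralizer ({t * x * t⁻¹} : Set G)) → ℂ) ≃ₗ[ℂ]
      (↥(Subgroup.centralizer ({x} : Set G)) → ℂ) :=
    LinearEquiv.funCongrLeft ℂ ℂ (centConj x t).toEquiv
  have he : ∀ (f : ↥(Subgroup.centralizer ({t * x * t⁻¹} : Set G)) → ℂ)
      (c : ↥(Subgroup.centralizer ({x} : Set G))), e f c = f (centConj x t c) := fun f c => rfl
  have hkey : ∀ w ∈ charSpan S, e (dmap p (t * x * t⁻¹) w) = dmap p x w := by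
    intro w hw
    have hcf := isClassFunction_of_mem_charSpan hw
    funext c
    rw [he]
    have hord : orderOf (centConj x t c) = orderOf c := (centConj x t).orderOf_eq c
    by_cases hc : p ∣ orderOf c
    · rw [dmap_apply_sing _ _ hc, dmap_apply_sing _ _ (by rwa [hord])]
    · rw [dmap_apply_reg _ _ hc, dmap_apply_reg _ _ (by rwa [hord]), centConj_coe]
      have h1 : t * x * t⁻¹ * (t * (c : G) * t⁻¹) = t * (x * (c : G)) * t⁻¹ := by group
      rw [h1]
      exact hcf _ _
  have hmap : ((charSpan S).map (dmap p (t * x * t⁻¹))).map (e : _ →ₗ[ℂ] _) =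
      (charSpan S).map (dmap p x) := by
    ext f
    constructor
    · rintro ⟨_, ⟨w, hw, rfl⟩, rfl⟩
      exact ⟨w, hw, (hkey w hw).symm⟩
    · rintro ⟨w, hw, rfl⟩
      exact ⟨_, ⟨w, hw, rfl⟩, hkey w hw⟩
  rw [← hmap]
  exact (LinearEquiv.finrank_map_eq e _).symm

/-! ### Class representatives and class counting -/

theorem card_centralizer_conj (x t : G) :
    Nat.card ↥(Subgroup.centralizer ({t * x * t⁻¹} : Set G)) =
      Nat.card ↥(Subgroup.centralizer ({x} : Set G)) :=
  (Nat.card_congr (centConj x t).toEquiv).symm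

theorem card_centralizer_one [Finite G] :
    Nat.card ↥(Subgroup.centralizer ({(1 : G)} : Set G)) = Nat.card G := by
  have h : Subgroup.centralizer ({(1 : G)} : Set G) = ⊤ := by
    ext g
    simp only [Subgroup.mem_top, iff_true]
    rw [Subgroup.mem_centralizer_iff]
    intro k hk
    rw [Set.mem_singleton_iff] at hk
    rw [hk, one_mul, mul_one]
  rw [h, Subgroup.card_top]

/-- Representatives of the classes of `p`-elements exist. -/
theorem exists_reps [Finite G] (p : ℕ) :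
    ∃ X : Finset G, (∀ x ∈ X, ∃ k : ℕ, orderOf x = p ^ k) ∧
      (∀ g : G, (∃ k : ℕ, orderOf g = p ^ k) → ∃! x, x ∈ X ∧ IsConj g x) := by
  classical
  have := Fintype.ofFinite G
  let rep : G → G := fun g => Quotient.out (ConjClasses.mk g)
  have hrep : ∀ g : G, IsConj g (rep g) := by
    intro g
    have h1 : ConjClasses.mk (rep g) = ConjClasses.mk g := Quotient.out_eq (ConjClasses.mk g)
    exact (ConjClasses.mk_eq_mk_iff_isConj.mp h1).symm
  have hrep' : ∀ g g' : G, IsConj g g' → rep g = rep g' := by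
    intro g g' h
    show Quotient.out (ConjClasses.mk g) = Quotient.out (ConjClasses.mk g')
    rw [ConjClasses.mk_eq_mk_iff_isConj.mpr h]
  have hord : ∀ g g' : G, IsConj g g' → orderOf g' = orderOf g := by
    intro g g' h
    obtain ⟨t, ht⟩ := isConj_iff.mp h
    rw [← ht]
    exact (MulAut.conj t).orderOf_eq g
  refine ⟨(Finset.univ.filter (fun g : G => ∃ k : ℕ, orderOf g = p ^ k)).image rep, ?_, ?_⟩
  · intro x hx
    obtain ⟨g, hg, rfl⟩ := Finset.mem_image.mp hx
    obtain ⟨k, hk⟩ := (Finset.mem_filter.mp hg).2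
    exact ⟨k, by rw [hord g (rep g) (hrep g), hk]⟩
  · intro g hg
    refine ⟨rep g, ⟨Finset.mem_image.mpr ⟨g, Finset.mem_filter.mpr ⟨Finset.mem_univ _, hg⟩, rfl⟩,
      hrep g⟩, ?_⟩
    rintro x ⟨hx, hgx⟩
    obtain ⟨g', -, rfl⟩ := Finset.mem_image.mp hx
    exact (hrep' g g' (hgx.trans (hrep g').symm)).symm

open Classical in
/-- **Class counting** with a conjugation-invariant weight. -/
theorem sum_reps [Fintype G] {p : ℕ} (X : Finset G)
    (hX : ∀ x ∈ X, ∃ k : ℕ, orderOf x = p ^ k)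
    (hXrep : ∀ g : G, (∃ k : ℕ, orderOf g = p ^ k) → ∃! x, x ∈ X ∧ IsConj g x)
    (F : G → ℤ) (hF : ∀ x t : G, F (t * x * t⁻¹) = F x) :
    ∑ g : G, (if (∃ k : ℕ, orderOf g = p ^ k) then
      (Nat.card ↥(Subgroup.centralizer ({g} : Set G)) : ℤ) * F g else 0) =
      (Nat.card G : ℤ) * ∑ x ∈ X, F x := by
  have hord : ∀ g g' : G, IsConj g g' → orderOf g' = orderOf g := by
    intro g g' h
    obtain ⟨t, ht⟩ := isConj_iff.mp h
    rw [← ht]
    exact (MulAut.conj t).orderOf_eq g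
  have h1 : ∀ g : G, (if (∃ k : ℕ, orderOf g = p ^ k) then
      (Nat.card ↥(Subgroup.centralizer ({g} : Set G)) : ℤ) * F g else 0) =
      ∑ x ∈ X, (if IsConj x g then
        (Nat.card ↥(Subgroup.centralizer ({x} : Set G)) : ℤ) * F x else 0) := by
    intro g
    by_cases hg : ∃ k : ℕ, orderOf g = p ^ k
    · rw [if_pos hg]
      obtain ⟨x₀, ⟨hx₀, hc₀⟩, huniq⟩ := hXrep g hg
      rw [Finset.sum_eq_single_of_mem x₀ hx₀
        (fun x hx hne => if_neg (fun hc => hne (huniq x ⟨hx, hc.symm⟩))), if_pos hc₀.symm]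
      obtain ⟨t, ht⟩ := isConj_iff.mp hc₀.symm
      rw [← ht, hF, card_centralizer_conj]
    · rw [if_neg hg]
      symm
      apply Finset.sum_eq_zero
      intro x hx
      rw [if_neg]
      intro hc
      apply hg
      obtain ⟨k, hk⟩ := hX x hx
      exact ⟨k, by rw [hord x g hc, hk]⟩
  rw [Finset.sum_congr rfl (fun g _ => h1 g), Finset.sum_comm, Finset.mul_sum]
  refine Finset.sum_congr rfl fun x _ => ?_
  rw [← Finset.sum_filter, Finset.sum_const, nsmul_eq_mul]
  have h2 : (Finset.univ.filter (fun g : G => IsConj x g)).card =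
      Nat.card (ConjClasses.mk x).carrier := by
    rw [Nat.card_eq_fintype_card, ← Fintype.card_subtype]
    apply Fintype.card_congr
    refine Equiv.subtypeEquivRight ?_
    intro g
    rw [ConjClasses.mem_carrier_iff_mk_eq, ConjClasses.mk_eq_mk_iff_isConj]
    exact ⟨fun h => h.symm, fun h => h.symm⟩
  rw [h2, ← Cfsg.Agent.Lib.Helper79_ClassCount.card_centralizer_mul_card_carrier x]
  push_cast
  ring

/-! ### The count -/

open Classical in
/-- **Brauer's count by subsections, summed over the nontrivial `p`-elements.** -/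
theorem card_mul_card_sub_blockRank [Fintype G] {p : ℕ} {M : Ideal AlgInt} (hM : IsPModular p M)
    (𝔅 : Set (Set (IrrCharacter G))) (h𝔅 : ∀ b ∈ 𝔅, IsPBlock M b) :
    (Nat.card G : ℤ) * ((Nat.card ↥(⋃₀ 𝔅) : ℤ) - (blockRank p (⋃₀ 𝔅) : ℤ)) =
      ∑ y : G, (if (y ≠ 1 ∧ ∃ k : ℕ, orderOf y = p ^ k) then
        (Nat.card ↥(Subgroup.centralizer ({y} : Set G)) : ℤ) * (blockRank p (indU M y 𝔅) : ℤ)
        else 0) := by
  have hp : p.Prime := hM.1
  obtain ⟨X, hX, hXrep⟩ := exists_reps (G := G) p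
  set S := ⋃₀ 𝔅 with hS
  let F : G → ℤ := fun y => (Module.finrank ℂ ((charSpan S).map (dmap p y)) : ℤ)
  have hF : ∀ x t : G, F (t * x * t⁻¹) = F x := by
    intro x t
    show ((Module.finrank ℂ ((charSpan S).map (dmap p (t * x * t⁻¹))) : ℕ) : ℤ) = _
    rw [finrank_map_dmap_conj]
  have hcard : (Nat.card ↥S : ℤ) = ∑ x ∈ X, F x := by
    rw [card_eq_sum_finrank_of_stable hp S (tmap_mem_charSpan_sUnion hM 𝔅 h𝔅) X hX hXrep]
    push_cast
    rfl
  have hsum := sum_reps X hX hXrep F hF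
  rw [← hcard] at hsum
  have hFp : ∀ y : G, (∃ k : ℕ, orderOf y = p ^ k) → F y = (blockRank p (indU M y 𝔅) : ℤ) := by
    intro y hy
    show ((Module.finrank ℂ ((charSpan S).map (dmap p y)) : ℕ) : ℤ) = _
    rw [hS, map_dmap_charSpan_sUnion hM hy 𝔅 h𝔅, blockRank_eq_finrank]
  have hF1 : F 1 = (blockRank p S : ℤ) := by
    show ((Module.finrank ℂ ((charSpan S).map (dmap p (1 : G))) : ℕ) : ℤ) = _
    rw [finrank_map_dmap_one]
  have hone : ∃ k : ℕ, orderOf (1 : G) = p ^ k := ⟨0, by simp⟩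
  have hsplit : ∀ g : G, (if (∃ k : ℕ, orderOf g = p ^ k) then
      (Nat.card ↥(Subgroup.centralizer ({g} : Set G)) : ℤ) * F g else 0) =
      (if g = 1 then (Nat.card G : ℤ) * (blockRank p S : ℤ) else 0) +
      (if (g ≠ 1 ∧ ∃ k : ℕ, orderOf g = p ^ k) then
        (Nat.card ↥(Subgroup.centralizer ({g} : Set G)) : ℤ) * (blockRank p (indU M g 𝔅) : ℤ)
        else 0) := by
    intro g
    by_cases hg1 : g = 1
    · subst hg1
      rw [if_pos hone, if_pos rfl, if_neg (fun h => h.1 rfl), add_zero, hF1, card_centralizer_one]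
    · rw [if_neg hg1, zero_add]
      by_cases hg : ∃ k : ℕ, orderOf g = p ^ k
      · rw [if_pos hg, if_pos ⟨hg1, hg⟩, hFp g hg]
      · rw [if_neg hg, if_neg (fun h => hg h.2)]
  rw [Finset.sum_congr rfl (fun g _ => hsplit g), Finset.sum_add_distrib,
    Finset.sum_ite_eq' Finset.univ (1 : G), if_pos (Finset.mem_univ _)] at hsum
  linarith

end Cfsg.Agent.Lib.Helper82_BrauerCountElems
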