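import Mathlib

/-!
# Automorphisms of cyclic `p`-groups induced from a normalizer (helper97)
-/

set_option autoImplicit false
set_option linter.style.haveILetI false

namespace Cfsg.Agent.Lib.Helper97_CyclicAut

/-- A `p'`-group of automorphisms of a cyclic `p`-group, induced from a subgroup `T` of the
normalizer: it is cyclic of order dividing `p - 1` and acts freely. -/
theorem cyclic_aut_core {G : Type*} [Group G] [Finite G] (p : ℕ) [Fact p.Prime] (P : Subgroup G)
    (hPp : IsPGroup p P) (hP1 : P ≠ ⊥) (hcyc : IsCyclic P) (T : Subgroup G)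
    (hTN : T ≤ Subgroup.normalizer (P : Set G))
    [hn : ((Subgroup.centralizer (P : Set G)).subgroupOf T).Normal]
    (hnd : ¬ p ∣ (Subgroup.centralizer (P : Set G)).relIndex T) :
    IsCyclic (T ⧸ (Subgroup.centralizer (P : Set G)).subgroupOf T) ∧
    (Subgroup.centralizer (P : Set G)).relIndex T ∣ p - 1 ∧
    ∀ g ∈ T, ∀ x ∈ P, x ≠ 1 → g * x * g⁻¹ = x → g ∈ Subgroup.centralizer (P : Set G) := by
  classical
  have hp : p.Prime := Fact.out
  obtain ⟨C, hC⟩ : ∃ C : Subgroup G, C = Subgroup.centralizer (P : Set G) := ⟨_, rfl⟩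
  -- the hom
  obtain ⟨φ, hφ_apply⟩ : ∃ φ : T →* MulAut P,
      ∀ (t : T) (y : P), ((φ t y : P) : G) = (t : G) * y * (t : G)⁻¹ :=
    ⟨(Subgroup.normalizerMonoidHom P).comp (Subgroup.inclusion hTN), fun t y => rfl⟩
  have hker : (Subgroup.centralizer (P : Set G)).subgroupOf T = φ.ker := by
    ext t
    rw [MonoidHom.mem_ker, Subgroup.mem_subgroupOf, Subgroup.mem_centralizer_iff]
    constructor
    · intro h
      ext y
      rw [hφ_apply, MulAut.one_apply]
      have := h (y : G) y.2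
      rw [← this, mul_inv_cancel_right]
    · intro h y hy
      have h1 := congrArg (fun σ : MulAut P => ((σ ⟨y, hy⟩ : P) : G)) h
      simp only [hφ_apply, MulAut.one_apply] at h1
      calc y * (t : G) = ((t : G) * y * (t : G)⁻¹) * (t : G) := by rw [h1]
        _ = (t : G) * y := by group
  -- order of P
  obtain ⟨n, hn'⟩ := IsPGroup.iff_card.mp hPp
  have hn1 : n ≠ 0 := by
    intro h0
    apply hP1
    rw [h0, pow_zero] at hn'
    exact (Subgroup.card_eq_one).mp hn'
  -- the quotient embeds in `MulAut P`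
  obtain ⟨e⟩ : Nonempty (T ⧸ (Subgroup.centralizer (P : Set G)).subgroupOf T ≃* φ.range) := by
    haveI : (φ.ker).Normal := inferInstance
    exact ⟨(QuotientGroup.quotientMulEquivOfEq hker).trans (QuotientGroup.quotientKerEquivRange φ)⟩
  have hcardQ : Nat.card (T ⧸ (Subgroup.centralizer (P : Set G)).subgroupOf T) =
      (Subgroup.centralizer (P : Set G)).relIndex T := rfl
  have hcardA : Nat.card (MulAut P) = p ^ (n - 1) * (p - 1) := by
    rw [IsCyclic.card_mulAut, hn', Nat.totient_prime_pow hp (Nat.pos_of_ne_zero hn1)]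
  have hcop : Nat.Coprime ((Subgroup.centralizer (P : Set G)).relIndex T) (p ^ (n - 1)) :=
    Nat.Coprime.pow_right _ ((Nat.Prime.coprime_iff_not_dvd hp).mpr hnd).symm
  have hdvd : (Subgroup.centralizer (P : Set G)).relIndex T ∣ p - 1 := by
    have h1 : (Subgroup.centralizer (P : Set G)).relIndex T ∣ p ^ (n - 1) * (p - 1) := by
      rw [← hcardA, ← hcardQ, Nat.card_congr e.toEquiv]
      exact Subgroup.card_subgroup_dvd_card _
    exact hcop.dvd_of_dvd_mul_left h1
  -- cyclic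
  have hcycQ : IsCyclic (T ⧸ (Subgroup.centralizer (P : Set G)).subgroupOf T) := by
    by_cases hp2 : p = 2
    · have h1 : (Subgroup.centralizer (P : Set G)).relIndex T = 1 := by
        rw [hp2] at hdvd
        exact Nat.dvd_one.mp hdvd
      rw [← hcardQ] at h1
      haveI : Subsingleton (T ⧸ (Subgroup.centralizer (P : Set G)).subgroupOf T) :=
        (Nat.card_eq_one_iff_unique.mp h1).1
      exact isCyclic_of_subsingleton
    · haveI h2 : IsCyclic (ZMod (Nat.card P))ˣ := by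
        rw [hn']
        exact ZMod.isCyclic_units_of_prime_pow p hp hp2 n
      haveI : IsCyclic (MulAut P) :=
        isCyclic_of_injective (IsCyclic.mulAutMulEquiv P).toMonoidHom
          (IsCyclic.mulAutMulEquiv P).injective
      haveI : IsCyclic φ.range := inferInstance
      exact isCyclic_of_injective e.toMonoidHom e.injective
  refine ⟨hcycQ, hdvd, ?_⟩
  intro g hg x hx hx1 hgx
  obtain ⟨σ, hσ⟩ : ∃ σ : MulAut P, σ = φ ⟨g, hg⟩ := ⟨_, rfl⟩
  -- `σ ^ m = 1`
  have hσm : σ ^ ((Subgroup.centralizer (P : Set G)).relIndex T) = 1 := by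
    have h1 : ((⟨g, hg⟩ : T) ^ ((Subgroup.centralizer (P : Set G)).relIndex T)) ∈
        (Subgroup.centralizer (P : Set G)).subgroupOf T := by
      rw [← QuotientGroup.eq_one_iff, QuotientGroup.mk_pow, ← hcardQ]
      exact pow_card_eq_one'
    rw [hker, MonoidHom.mem_ker, map_pow] at h1
    rw [hσ]; exact h1
  -- generator
  obtain ⟨x₀, hx₀⟩ := hcyc.exists_generator
  obtain ⟨k, hk⟩ : ∃ k : ℕ, σ x₀ = x₀ ^ k := by
    have h1 := hx₀ (σ x₀)
    rw [← mem_powers_iff_mem_zpowers, Submonoid.mem_powers_iff] at h1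
    obtain ⟨k, hk⟩ := h1
    exact ⟨k, hk.symm⟩
  have hσy : ∀ y : P, σ y = y ^ k := by
    intro y
    obtain ⟨j, rfl⟩ := Subgroup.mem_zpowers_iff.mp (hx₀ y)
    rw [map_zpow, hk, ← zpow_natCast, ← zpow_natCast, ← zpow_mul, ← zpow_mul, mul_comm]
  have hσi : ∀ (i : ℕ) (y : P), (σ ^ i) y = y ^ (k ^ i) := by
    intro i
    induction i with
    | zero => intro y; simp
    | succ i ih =>
      intro y
      rw [pow_succ, MulAut.mul_apply, hσy, ih, ← pow_mul, pow_succ, mul_comm]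
  -- `x` is fixed
  have hxfix : σ ⟨x, hx⟩ = ⟨x, hx⟩ := by
    apply Subtype.ext
    rw [hσ, hφ_apply]
    exact hgx
  have hxk : (⟨x, hx⟩ : P) ^ k = ⟨x, hx⟩ := by rw [← hσy]; exact hxfix
  have hpk : (p : ℤ) ∣ (k : ℤ) - 1 := by
    have h1 : (⟨x, hx⟩ : P) ^ ((k : ℤ) - 1) = 1 := by
      rw [zpow_sub, zpow_natCast, hxk, zpow_one, mul_inv_cancel]
    have h2 : ((orderOf (⟨x, hx⟩ : P) : ℕ) : ℤ) ∣ (k : ℤ) - 1 :=
      orderOf_dvd_iff_zpow_eq_one.mpr h1
    have h3 : p ∣ orderOf (⟨x, hx⟩ : P) := by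
      obtain ⟨j, hj⟩ := (IsPGroup.iff_orderOf.mp hPp) ⟨x, hx⟩
      rw [hj]
      apply dvd_pow_self
      intro hj0
      rw [hj0, pow_zero, orderOf_eq_one_iff] at hj
      exact hx1 (congrArg Subtype.val hj)
    exact (Int.natCast_dvd_natCast.mpr h3).trans h2
  have hpn : (p : ℤ) ^ n ∣ (k : ℤ) ^ (p ^ (n - 1)) - 1 := by
    have h1 := dvd_sub_pow_of_dvd_sub hpk (n - 1)
    rwa [Nat.sub_add_cancel (Nat.one_le_iff_ne_zero.mpr hn1), one_pow] at h1
  have hσp : σ ^ (p ^ (n - 1)) = 1 := by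
    ext y
    rw [hσi, MulAut.one_apply]
    have h1 : y ^ ((k : ℤ) ^ (p ^ (n - 1)) - 1) = 1 := by
      obtain ⟨c, hc⟩ := hpn
      rw [hc, zpow_mul, ← Nat.cast_pow, zpow_natCast, ← hn', pow_card_eq_one', one_zpow]
    have h2 : y ^ ((k : ℤ) ^ (p ^ (n - 1))) = y := by
      have : ((k : ℤ) ^ (p ^ (n - 1))) = ((k : ℤ) ^ (p ^ (n - 1)) - 1) + 1 := by ring
      rw [this, zpow_add, h1, zpow_one, one_mul]
    have h3 : y ^ (k ^ (p ^ (n - 1))) = y := by
      rw [← zpow_natCast]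
      push_cast
      exact h2
    rw [h3]
  have hσ1 : σ = 1 := by
    have h1 := orderOf_dvd_of_pow_eq_one hσm
    have h2 := orderOf_dvd_of_pow_eq_one hσp
    have h3 : orderOf σ ∣ 1 := by
      have := Nat.dvd_gcd h1 h2
      rwa [Nat.Coprime.gcd_eq_one hcop] at this
    exact orderOf_eq_one_iff.mp (Nat.dvd_one.mp h3)
  rw [Subgroup.mem_centralizer_iff]
  intro y hy
  have h1 := congrArg (fun τ : MulAut P => ((τ ⟨y, hy⟩ : P) : G)) hσ1
  simp only [hσ, hφ_apply, MulAut.one_apply] at h1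
  calc y * g = (g * y * g⁻¹) * g := by rw [h1]
    _ = g * y := by group


/-- Conjugation by an element normalizing a finite cyclic subgroup is a power map on it. -/
theorem exists_conj_eq_pow {G : Type*} [Group G] [Finite G] (P : Subgroup G)
    (hcyc : IsCyclic P) {g : G} (hg : g ∈ Subgroup.normalizer (P : Set G)) :
    ∃ k : ℕ, ∀ y ∈ P, g * y * g⁻¹ = y ^ k := by
  obtain ⟨x₀, hx₀⟩ := hcyc.exists_generator
  have hgx : g * (x₀ : G) * g⁻¹ ∈ P := (Subgroup.mem_set_normalizer_iff.mp hg (x₀ : G)).mp x₀.2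
  obtain ⟨k, hk⟩ : ∃ k : ℕ, (⟨g * (x₀ : G) * g⁻¹, hgx⟩ : P) = x₀ ^ k := by
    have h1 := hx₀ ⟨g * (x₀ : G) * g⁻¹, hgx⟩
    rw [← mem_powers_iff_mem_zpowers, Submonoid.mem_powers_iff] at h1
    obtain ⟨k, hk⟩ := h1
    exact ⟨k, hk.symm⟩
  have hk' : g * (x₀ : G) * g⁻¹ = (x₀ : G) ^ k := by
    have := congrArg Subtype.val hk
    simpa using this
  refine ⟨k, fun y hy => ?_⟩
  obtain ⟨j, hj⟩ := Subgroup.mem_zpowers_iff.mp (hx₀ ⟨y, hy⟩)
  have hy' : y = (x₀ : G) ^ j := by
    have := congrArg Subtype.val hj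
    simpa using this.symm
  rw [hy']
  have h1 : g * (x₀ : G) ^ j * g⁻¹ = (g * (x₀ : G) * g⁻¹) ^ j := by
    rw [conj_zpow]
  rw [h1, hk', ← zpow_natCast, ← zpow_mul, ← zpow_natCast, ← zpow_mul, mul_comm]

/-- In a finite group, a subgroup of a cyclic subgroup `P` is normalized by `N_G(P)`. -/
theorem normalizer_le_of_cyclic {G : Type*} [Group G] [Finite G] (P : Subgroup G)
    (hcyc : IsCyclic P) {Q : Subgroup G} (hQP : Q ≤ P) :
    Subgroup.normalizer (P : Set G) ≤ Subgroup.normalizer (Q : Set G) := by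
  have key : ∀ g ∈ Subgroup.normalizer (P : Set G), ∀ n ∈ Q, g * n * g⁻¹ ∈ Q := by
    intro g hg n hn
    obtain ⟨k, hk⟩ := exists_conj_eq_pow P hcyc hg
    rw [hk n (hQP hn)]
    exact Q.pow_mem hn k
  intro g hg
  rw [Subgroup.mem_set_normalizer_iff]
  intro n
  constructor
  · intro hn
    exact key g hg n hn
  · intro hn
    have := key g⁻¹ (Subgroup.inv_mem _ hg) _ hn
    rw [inv_inv] at this
    have h2 : g⁻¹ * (g * n * g⁻¹) * g = n := by group
    rwa [h2] at this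

end Cfsg.Agent.Lib.Helper97_CyclicAut
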