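import Mathlib
import Cfsg.Prelude.Def_Blocks
import Cfsg.Prelude.Def_BlockLocal
import Cfsg.Prelude.Def_BrauerPairs
import Cfsg.Agent.Lib.Helper97_InducedPair2
import Cfsg.Agent.Lib.Helper97_CyclicAut
import Cfsg.Agent.Lib.Helper77_InertialCyclic

set_option autoImplicit false

namespace Cfsg.Agent.Lib.Helper97_InducedPair3

open Cfsg Cfsg.Agent.Lib.Helper78_LocalRing Cfsg.Agent.Lib.Helper78_CentralChar
  Cfsg.Agent.Lib.Helper78_Osima Cfsg.Agent.Lib.Helper78_CharFacts
  Cfsg.Agent.Lib.Helper78_ExtConv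
  Cfsg.Agent.Lib.Helper78_BrauerPairs Cfsg.Agent.Lib.Helper78_Transport
  Cfsg.Agent.Lib.Helper78_TransportBlocks
  Cfsg.Agent.Lib.Helper78_InducedTrans
  Cfsg.Agent.Lib.Helper78_SubpairUnique
  Cfsg.Agent.Lib.Helper78_FirstMainGT
  Cfsg.Agent.Lib.Helper78_MaxPair
  Cfsg.Agent.Lib.Helper78_PairConj
  Cfsg.Agent.Lib.Helper78_PairCent
  Cfsg.Agent.Lib.Helper78_PairStab
  Cfsg.Agent.Lib.Helper78_Saturated
  Cfsg.Agent.Lib.Helper78_AbelianDefect
  Cfsg.Agent.Lib.Helper97_InducedPair
  Cfsg.Agent.Lib.Helper97_InducedPair2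

universe u

variable {G : Type u} [Group G] {M : Ideal AlgInt} {p : ℕ}

/-- The two Brauer maps agree along `centSubIso`. -/
theorem brauerOmega_centSubIso {P H : Subgroup G} (hPH : P ≤ H)
    (hKH : Subgroup.centralizer (P : Set G) ≤ H) (f : Set (IrrCharacter H))
    (ζ : Subgroup.centralizer (P : Set G) → ℂ) :
    brauerOmega (P.subgroupOf H) (blockCoeff f) (ζ ∘ centSubIso hPH hKH) =
      brauerOmega P (subgroupBlockCoeff H f) ζ := by
  classical
  unfold brauerOmega
  rw [← finsum_comp_equiv (centSubIso hPH hKH).toEquiv]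
  refine finsum_congr fun h => ?_
  simp only [Function.comp_apply, MulEquiv.toEquiv_eq_coe, MulEquiv.coe_toEquiv, map_one]
  congr 2
  unfold subgroupBlockCoeff
  rw [centSubIso_coe, dif_pos (h : H).2]

section Main

variable [Fintype G] [Fact p.Prime]

/-- For `Q ≤ P` with `P` abelian, the block `f = c^{C_G(Q)}` gives a normal subpair
`(Q, f) ⊴ (P, c)`. -/
theorem isNormalSubpair_of_isInducedBlockIn (hM : IsPModular p M) {P Q : Subgroup G}
    (hP : IsPGroup p P) (hab : ∀ x ∈ P, ∀ y ∈ P, x * y = y * x) (hQP : Q ≤ P)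
    {c : Set (IrrCharacter (Subgroup.centralizer (P : Set G)))}
    {f : Set (IrrCharacter (Subgroup.centralizer (Q : Set G)))}
    (hf : IsInducedBlockIn M (Subgroup.centralizer (Q : Set G))
      (Subgroup.centralizer (P : Set G)) c f) :
    IsNormalSubpair p M Q f P c := by
  classical
  have hMp := isPrime_of_isPModular hM
  have hPH : P ≤ Subgroup.centralizer (Q : Set G) := le_centralizer_of_abelian hab hQP
  have hKH : Subgroup.centralizer (P : Set G) ≤ Subgroup.centralizer (Q : Set G) :=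
    Subgroup.centralizer_le hQP
  have : Fintype (Subgroup.centralizer (Q : Set G)) := Fintype.ofFinite _
  have hind' := (isInducedBlockIn_iff hPH hKH c f).mp hf
  have hpair := isBrauerPairOf_of_isInducedBlock hM (P := P.subgroupOf
    (Subgroup.centralizer (Q : Set G))) hP.comap_subtype hind'
  refine ⟨⟨hP.to_le hQP, hf.2.1⟩, ⟨hP, hf.1⟩, hQP, le_normalizer_of_abelian hab hQP, ?_, ?_⟩
  · intro x hx
    have hx' : x ∈ stabPair Q f :=
      centralizer_le_stab (mem_stabPair_iff hMp hf.2.1) (hPH hx)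
    exact ((mem_stabPair_iff hMp hf.2.1 x).mp hx').2
  · intro ξ hξ
    rw [← brauerOmega_centSubIso hPH hKH]
    exact hpair.2.2 _ (irrComp_mem_mapBlock (centSubIso hPH hKH) hξ)

theorem subpairLE_of_isInducedBlockIn (hM : IsPModular p M) {P Q : Subgroup G}
    (hP : IsPGroup p P) (hab : ∀ x ∈ P, ∀ y ∈ P, x * y = y * x) (hQP : Q ≤ P)
    {c : Set (IrrCharacter (Subgroup.centralizer (P : Set G)))}
    {f : Set (IrrCharacter (Subgroup.centralizer (Q : Set G)))}
    (hf : IsInducedBlockIn M (Subgroup.centralizer (Q : Set G))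
      (Subgroup.centralizer (P : Set G)) c f) :
    SubpairLE p M Q f P c :=
  Relation.ReflTransGen.single (isNormalSubpair_of_isInducedBlockIn hM hP hab hQP hf)


/-- **S4645 without the rank**: for a cyclic defect group `P`, `1 ≠ Q ≤ P` and `f = c^{C_G(Q)}`:
`N_G(Q, f) = N_G(P, c) C_G(Q)`, the inertial indices agree, `C_T(Q) = C_G(P)` and `f` is nilpotent. -/
theorem cyclic_local (hM : IsPModular p M) {B : Set (IrrCharacter G)} {P Q : Subgroup G}
    (hPD : IsDefectGroup p M B P) (hP1 : P ≠ ⊥) (hcyc : IsCyclic P) (hQP : Q ≤ P) (hQ1 : Q ≠ ⊥)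
    {c : Set (IrrCharacter (Subgroup.centralizer (P : Set G)))}
    (hc : IsInducedBlock M (Subgroup.centralizer (P : Set G)) c B) {T : Subgroup G}
    (hT : ∀ g : G, g ∈ T ↔ (g ∈ Subgroup.normalizer (P : Set G) ∧
      StabilizesBlock (Subgroup.centralizer (P : Set G)) c g))
    {f : Set (IrrCharacter (Subgroup.centralizer (Q : Set G)))}
    (hf : IsInducedBlockIn M (Subgroup.centralizer (Q : Set G))
      (Subgroup.centralizer (P : Set G)) c f) {T' : Subgroup G}
    (hT' : ∀ g : G, g ∈ T' ↔ (g ∈ Subgroup.normalizer (Q : Set G) ∧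
      StabilizesBlock (Subgroup.centralizer (Q : Set G)) f g)) :
    T' = T ⊔ Subgroup.centralizer (Q : Set G) ∧
    (Subgroup.centralizer (Q : Set G)).relIndex T' =
      (Subgroup.centralizer (P : Set G)).relIndex T ∧
    (∀ g ∈ T, g ∈ Subgroup.centralizer (Q : Set G) → g ∈ Subgroup.centralizer (P : Set G)) ∧
    IsNilpotentBlock p M f := by
  classical
  have hMp := isPrime_of_isPModular hM
  have hab : ∀ x ∈ P, ∀ y ∈ P, x * y = y * x := by
    intro x hx y hy
    have h1 : (⟨x, hx⟩ : P) * ⟨y, hy⟩ = ⟨y, hy⟩ * ⟨x, hx⟩ := mul_comm' _ _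
    exact congrArg Subtype.val h1
  have hPp : IsPGroup p P := isDefectGroup_isPGroup hPD
  have hmax := isMaximalBrauerPair_of_isInducedBlock hM hPD hc
  have hle := subpairLE_of_isInducedBlockIn hM hPp hab hQP hf
  have hTN : T ≤ Subgroup.normalizer (P : Set G) := fun g hg => ((hT g).mp hg).1
  have hCT : Subgroup.centralizer (P : Set G) ≤ T := centralizer_le_stab hT
  have hnorm : ((Subgroup.centralizer (P : Set G)).subgroupOf T).Normal := by
    rw [Subgroup.normal_subgroupOf_iff_le_normalizer hCT]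
    exact hTN.trans (normalizer_le P)
  have hnd := Cfsg.Agent.Lib.Helper77_InertialCyclic.not_dvd_relIndex_of_abelian hM hPD hab c hc T hT
  obtain ⟨-, -, hfree⟩ := Cfsg.Agent.Lib.Helper97_CyclicAut.cyclic_aut_core p P hPp hP1 hcyc T hTN hnd
  -- a nontrivial element of `Q`
  obtain ⟨q, hq1⟩ := (Subgroup.ne_bot_iff_exists_ne_one).mp hQ1
  have hq1' : (q : G) ≠ 1 := fun h1 => hq1 (Subtype.ext h1)
  have hCTQ : ∀ g ∈ T, g ∈ Subgroup.centralizer (Q : Set G) →
      g ∈ Subgroup.centralizer (P : Set G) := by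
    intro g hgT hgQ
    refine hfree g hgT (q : G) (hQP q.2) hq1' ?_
    have h2 := Subgroup.mem_centralizer_iff.mp hgQ (q : G) q.2
    rw [← h2]
    group
  have hnil : IsNilpotentBlock p M f := by
    rw [nilpotent_local_iff hM hPD hab hQP hc hf]
    intro g hgQ hgN hgst
    exact hCTQ g ((hT g).mpr ⟨hgN, hgst⟩) hgQ
  have hTNQ : T ≤ Subgroup.normalizer (Q : Set G) :=
    hTN.trans (Cfsg.Agent.Lib.Helper97_CyclicAut.normalizer_le_of_cyclic P hcyc hQP)
  have hTT' : T ≤ T' := by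
    intro y hy
    obtain ⟨hyP, hyst⟩ := (hT y).mp hy
    exact (hT' y).mpr ⟨hTNQ hy, stab_of_stab_max hM hmax.1.1 hle hyP hyst (hTNQ hy)⟩
  have hCT' : Subgroup.centralizer (Q : Set G) ≤ T' := centralizer_le_stab hT'
  obtain ⟨hfac, hidx⟩ := stabilizer_factorization hM hmax hab hQP hf.2.1 hle T' hT' T hT
  refine ⟨?_, ?_, hCTQ, hnil⟩
  · apply le_antisymm
    · intro x hx
      obtain ⟨y, hy, c₀, hc₀, rfl⟩ := hfac x hx
      exact Subgroup.mul_mem_sup hy hc₀
    · exact sup_le hTT' hCT'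
  · have h1 : T ⊓ Subgroup.normalizer (Q : Set G) = T := inf_eq_left.mpr hTNQ
    have h2 : T ⊓ Subgroup.centralizer (Q : Set G) = Subgroup.centralizer (P : Set G) := by
      apply le_antisymm
      · rintro g ⟨hgT, hgQ⟩
        exact hCTQ g hgT hgQ
      · exact le_inf hCT (Subgroup.centralizer_le hQP)
    rw [h1, h2] at hidx
    exact hidx

end Main

end Cfsg.Agent.Lib.Helper97_InducedPair3
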