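import Mathlib
import Cfsg.Prelude.Def_Blocks
import Cfsg.Prelude.Def_BlockRank
import Cfsg.Prelude.Def_BlockLocal
import Cfsg.Prelude.Def_BrauerPairs
import Cfsg.Agent.Lib.Helper97_InducedPair3
import Cfsg.Agent.S4511
import Cfsg.Agent.S4669

set_option autoImplicit false
set_option linter.unusedSectionVars false

namespace Cfsg.Agent.Lib.Helper97_NilRank

open Cfsg Cfsg.Agent.Lib.Helper78_LocalRing Cfsg.Agent.Lib.Helper78_CentralChar
  Cfsg.Agent.Lib.Helper78_Osima Cfsg.Agent.Lib.Helper78_CharFacts
  Cfsg.Agent.Lib.Helper78_ExtConv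
  Cfsg.Agent.Lib.Helper78_BrauerPairs Cfsg.Agent.Lib.Helper78_Transport
  Cfsg.Agent.Lib.Helper78_TransportBlocks Cfsg.Agent.Lib.Helper78_NilpotentPrincipal
  Cfsg.Agent.Lib.Helper78_PrincipalFusion
  Cfsg.Agent.Lib.Helper78_BrauerCorr
  Cfsg.Agent.Lib.Helper78_InducedTrans
  Cfsg.Agent.Lib.Helper78_SubpairBasic Cfsg.Agent.Lib.Helper78_SubpairNormal
  Cfsg.Agent.Lib.Helper78_SubpairTrans Cfsg.Agent.Lib.Helper78_SubpairUnique
  Cfsg.Agent.Lib.Helper78_FirstMainGT
  Cfsg.Agent.Lib.Helper78_FirstMain Cfsg.Agent.Lib.Helper78_MaxPair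
  Cfsg.Agent.Lib.Helper78_PairConj Cfsg.Agent.Lib.Helper78_PairCent
  Cfsg.Agent.Lib.Helper78_PairStab
  Cfsg.Agent.Lib.Helper78_BlockFusion Cfsg.Agent.Lib.Helper78_BlockFusion2
  Cfsg.Agent.Lib.Helper78_BlockFusionSys
  Cfsg.Agent.Lib.Helper78_Automized Cfsg.Agent.Lib.Helper78_Receptive
  Cfsg.Agent.Lib.Helper78_Saturated Cfsg.Agent.Lib.Helper78_FongKnorrSub
  Cfsg.Agent.Lib.Helper78_AbelianDefect
  Cfsg.Agent.Lib.Helper97_InducedPair
  Cfsg.Agent.Lib.Helper97_InducedPair2
  Cfsg.Agent.Lib.Helper97_InducedPair3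

universe u

variable {G : Type u} [Group G] {M : Ideal AlgInt} {p : ℕ}

/-! ### Casting sets of characters along an equality of subgroups -/

/-- Transport of a set of irreducible characters along an equality of subgroups. -/
def castIrr {K K' : Subgroup G} (h : K = K') (b : Set (IrrCharacter K)) :
    Set (IrrCharacter K') := h ▸ b

theorem castIrr_injective {K K' : Subgroup G} (h : K = K') :
    Function.Injective (castIrr h) := by
  subst h
  intro a b hab
  exact hab

theorem isInducedBlock_castIrr {K K' : Subgroup G} (h : K = K') (b : Set (IrrCharacter K))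
    (B : Set (IrrCharacter G)) :
    IsInducedBlock M K' (castIrr h b) B ↔ IsInducedBlock M K b B := by
  subst h
  exact Iff.rfl

theorem isPBlock_castIrr {K K' : Subgroup G} (h : K = K') (b : Set (IrrCharacter K)) :
    IsPBlock M (castIrr h b) ↔ IsPBlock M b := by
  subst h
  exact Iff.rfl

theorem blockRank_castIrr {K K' : Subgroup G} (h : K = K') (b : Set (IrrCharacter K)) :
    blockRank p (castIrr h b) = blockRank p b := by
  subst h
  rfl

theorem isDefectGroup_castIrr {K K' : Subgroup G} (h : K = K') (b : Set (IrrCharacter K))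
    (D : Subgroup G) :
    IsDefectGroup p M (castIrr h b) (D.subgroupOf K') ↔ IsDefectGroup p M b (D.subgroupOf K) := by
  subst h
  exact Iff.rfl

theorem pair_eq_of_castIrr {Q Q' K : Subgroup G}
    (h : Subgroup.centralizer (Q : Set G) = K) (h' : Subgroup.centralizer (Q' : Set G) = K)
    (hQ : Q = Q') {f : Set (IrrCharacter (Subgroup.centralizer (Q : Set G)))}
    {f' : Set (IrrCharacter (Subgroup.centralizer (Q' : Set G)))}
    (hc : castIrr h f = castIrr h' f') : (⟨Q, f⟩ : BrauerPairIdx G) = ⟨Q', f'⟩ := by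
  subst hQ
  have := castIrr_injective h hc
  rw [this]

/-- `C_G({x}) = C_G(⟨x⟩)`. -/
theorem centralizer_zpowers_eq (x : G) :
    Subgroup.centralizer ((Subgroup.zpowers x : Subgroup G) : Set G) =
      Subgroup.centralizer ({x} : Set G) := by
  ext g
  rw [Subgroup.mem_centralizer_iff, Subgroup.mem_centralizer_iff]
  constructor
  · intro h y hy
    rw [Set.mem_singleton_iff] at hy
    subst hy
    exact h y (Subgroup.mem_zpowers y)
  · intro h y hy
    obtain ⟨n, rfl⟩ := Subgroup.mem_zpowers_iff.mp hy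
    have h1 : Commute x g := h x rfl
    exact (h1.zpow_left n).eq

/-! ### The `p`-regular rank -/

theorem pRegularPart_comp {H : Type*} [Group H] (φ : H ≃* G) (χ : G → ℂ) :
    pRegularPart p (χ ∘ φ) = pRegularPart p χ ∘ φ := by
  funext h
  have hiff : IsPRegular p (φ h) ↔ IsPRegular p h := by
    unfold IsPRegular
    rw [MulEquiv.orderOf_eq]
  unfold pRegularPart
  simp only [Function.comp_apply]
  by_cases hh : IsPRegular p h
  · rw [if_pos hh, if_pos (hiff.mpr hh)]
  · rw [if_neg hh, if_neg (fun h' => hh (hiff.mp h'))]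

theorem blockRank_mapBlock {H : Type u} [Group H] (φ : H ≃* G) (B : Set (IrrCharacter G)) :
    blockRank p (mapBlock φ B) = blockRank p B := by
  unfold blockRank
  set L : (G → ℂ) ≃ₗ[ℂ] (H → ℂ) := LinearEquiv.funCongrLeft ℂ ℂ φ.toEquiv with hL
  have himg : ((fun χ : IrrCharacter H => pRegularPart p (χ : H → ℂ)) '' mapBlock φ B) =
      L '' ((fun χ : IrrCharacter G => pRegularPart p (χ : G → ℂ)) '' B) := by
    ext v
    constructor
    · rintro ⟨_, ⟨χ, hχ, rfl⟩, rfl⟩
      refine ⟨_, ⟨χ, hχ, rfl⟩, ?_⟩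
      show pRegularPart p (χ : G → ℂ) ∘ φ = pRegularPart p ((χ : G → ℂ) ∘ φ)
      rw [pRegularPart_comp]
    · rintro ⟨_, ⟨χ, hχ, rfl⟩, rfl⟩
      refine ⟨irrComp φ χ, irrComp_mem_mapBlock φ hχ, ?_⟩
      show pRegularPart p ((χ : G → ℂ) ∘ φ) = pRegularPart p (χ : G → ℂ) ∘ φ
      rw [pRegularPart_comp]
  rw [himg]
  have h2 : Submodule.span ℂ (L '' ((fun χ : IrrCharacter G => pRegularPart p (χ : G → ℂ)) '' B)) =
      (Submodule.span ℂ ((fun χ : IrrCharacter G => pRegularPart p (χ : G → ℂ)) '' B)).map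
        (L : (G → ℂ) →ₗ[ℂ] (H → ℂ)) := by
    rw [Submodule.map_span]
    rfl
  rw [h2]
  exact LinearEquiv.finrank_map_eq L _

theorem one_le_blockRank [Finite G] [hp : Fact p.Prime] {B : Set (IrrCharacter G)}
    (hB : B.Nonempty) : 1 ≤ blockRank p B := by
  obtain ⟨χ, hχ⟩ := hB
  unfold blockRank
  rw [Nat.succ_le_iff, Module.finrank_pos_iff_exists_ne_zero]
  have hmem : pRegularPart p (χ : G → ℂ) ∈ Submodule.span ℂ
      ((fun χ : IrrCharacter G => pRegularPart p (χ : G → ℂ)) '' B) :=
    Submodule.subset_span ⟨χ, hχ, rfl⟩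
  refine ⟨⟨_, hmem⟩, ?_⟩
  intro h0
  have h1 : pRegularPart p (χ : G → ℂ) = 0 := congrArg Subtype.val h0
  have h2 := congrFun h1 1
  have hreg : IsPRegular p (1 : G) := by
    unfold IsPRegular
    rw [orderOf_one]
    exact hp.1.not_dvd_one
  unfold pRegularPart at h2
  rw [if_pos hreg] at h2
  exact isIrrCharacter_one_ne_zero χ.2 h2


/-- A set of representatives of the conjugacy classes of `p`-elements. -/
theorem exists_reps (p : ℕ) [Finite G] : ∃ X : Finset G,
    (∀ x ∈ X, ∃ k : ℕ, orderOf x = p ^ k) ∧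
    ∀ g : G, (∃ k : ℕ, orderOf g = p ^ k) → ∃! x, x ∈ X ∧ IsConj g x := by
  classical
  set rep : G → G := fun g => (ConjClasses.mk g).out with hrep
  have hmk : ∀ g, ConjClasses.mk (rep g) = ConjClasses.mk g := fun g => Quotient.out_eq _
  have hconj : ∀ g, IsConj g (rep g) := fun g =>
    ConjClasses.mk_eq_mk_iff_isConj.mp (hmk g).symm
  have hfin : {x : G | (∃ k : ℕ, orderOf x = p ^ k) ∧ rep x = x}.Finite := Set.toFinite _
  refine ⟨hfin.toFinset, ?_, ?_⟩
  · intro x hx
    exact ((Set.Finite.mem_toFinset hfin).mp hx).1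
  · intro g hg
    refine ⟨rep g, ⟨?_, hconj g⟩, ?_⟩
    · rw [Set.Finite.mem_toFinset]
      refine ⟨?_, ?_⟩
      · obtain ⟨k, hk⟩ := hg
        refine ⟨k, ?_⟩
        rw [← hk]
        obtain ⟨c, hc⟩ := hconj g
        exact (SemiconjBy.orderOf_eq (c : G) hc).symm
      · show (ConjClasses.mk (rep g)).out = rep g
        rw [hmk g]
    · rintro y ⟨hy, hgy⟩
      have hy' := ((Set.Finite.mem_toFinset hfin).mp hy).2
      have h1 : ConjClasses.mk g = ConjClasses.mk y := ConjClasses.mk_eq_mk_iff_isConj.mpr hgy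
      rw [← hy']
      show (ConjClasses.mk y).out = (ConjClasses.mk g).out
      rw [h1]


section Main

variable [Fintype G] [Fact p.Prime]

/-- Fusion of subpairs of a maximal pair `(P, e)` with `P` abelian is controlled by the
stabilizer of `(P, e)`: if `x` carries `(Q, f) ≤ (P, e)` to `(Q', f') ≤ (P, e)` then
`c x ∈ N_G(P, e)` for some `c ∈ C_G(Q')`. -/
theorem conj_factor (hM : IsPModular p M) {B : Set (IrrCharacter G)}
    {P : Subgroup G} {e : Set (IrrCharacter (Subgroup.centralizer (P : Set G)))}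
    (hmax : IsMaximalBrauerPair p M B P e) (hab : ∀ x ∈ P, ∀ y ∈ P, x * y = y * x)
    {Q Q' : Subgroup G} {f : Set (IrrCharacter (Subgroup.centralizer (Q : Set G)))}
    {f' : Set (IrrCharacter (Subgroup.centralizer (Q' : Set G)))}
    (hQP : Q ≤ P) (hQ'P : Q' ≤ P) (hf' : IsPBlock M f')
    (hle : SubpairLE p M Q f P e) (hle' : SubpairLE p M Q' f' P e) {x : G}
    (hx : conjPair x (⟨Q, f⟩ : BrauerPairIdx G) = ⟨Q', f'⟩) :
    ∃ c ∈ Subgroup.centralizer (Q' : Set G), c * x ∈ Subgroup.normalizer (P : Set G) ∧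
      StabilizesBlock (Subgroup.centralizer (P : Set G)) e (c * x) := by
  have hMp := isPrime_of_isPModular hM
  have hPe := hmax.1.1
  have hQQ' : Q.map (MulAut.conj x).toMonoidHom = Q' := congrArg Sigma.fst hx
  obtain ⟨F', hF', hF'c, hD⟩ := exists_block_defect_of_abelian hM hmax hab hQ'P hf' hle'
    (stabPair Q' f') (mem_stabPair_iff hMp hf')
  have hA : Relation.ReflTransGen (NormalSubpairRel p M) (⟨Q', f'⟩ : BrauerPairIdx G)
      (conjPair x ⟨P, e⟩) := by
    have h1 := chain_conj x hle
    rw [hx] at h1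
    exact h1
  have hAX : (conjPair x (⟨P, e⟩ : BrauerPairIdx G)).1 ≤
      (P ⊓ Subgroup.normalizer (Q' : Set G)) ⊔ Subgroup.centralizer (Q' : Set G) := by
    refine le_trans ?_ le_sup_right
    rintro _ ⟨a, ha, rfl⟩
    simp only [MulEquiv.coe_toMonoidHom, MulAut.conj_apply]
    rw [Subgroup.mem_centralizer_iff]
    intro q hq
    rw [← hQQ'] at hq
    obtain ⟨q₀, hq₀, rfl⟩ := hq
    simp only [MulEquiv.coe_toMonoidHom, MulAut.conj_apply]
    have h1 := hab q₀ (hQP hq₀) a ha
    calc x * q₀ * x⁻¹ * (x * a * x⁻¹) = x * (q₀ * a) * x⁻¹ := by group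
      _ = x * (a * q₀) * x⁻¹ := by rw [h1]
      _ = x * a * x⁻¹ * (x * q₀ * x⁻¹) := by group
  obtain ⟨c, hc, hchain⟩ := exists_centralizer_conj hM hPe hQ'P hf' hle' (stabPair Q' f')
    (mem_stabPair_iff hMp hf') hF' hF'c hD (isBrauerPair_conj x hPe) hA hAX
  have hchain' : Relation.ReflTransGen (NormalSubpairRel p M)
      (conjPair c (conjPair x (⟨P, e⟩ : BrauerPairIdx G))) ⟨P, e⟩ := hchain
  rw [← conjPair_mul] at hchain'
  have hle2 : (conjPair (c * x) (⟨P, e⟩ : BrauerPairIdx G)).1 ≤ P := le_of_chain hchain'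
  have heq1 : (conjPair (c * x) (⟨P, e⟩ : BrauerPairIdx G)).1 = P :=
    Subgroup.eq_of_le_of_card_ge hle2 (by
      show Nat.card P ≤ Nat.card (P.map (MulAut.conj (c * x)).toMonoidHom)
      rw [card_map_conj])
  have heq : conjPair (c * x) (⟨P, e⟩ : BrauerPairIdx G) = ⟨P, e⟩ :=
    eq_of_chain_same hMp hchain' heq1
  have hyN : c * x ∈ Subgroup.normalizer (P : Set G) := mem_normalizer_of_map_conj_eq heq1
  exact ⟨c, hc, hyN, stab_of_conjPair_eq hyN heq⟩

end Main


/-! ### Subsections attached to the elements of an abelian defect group -/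

/-- `C_G(g⟨u⟩g⁻¹) = C_G({x})` when `x = g u g⁻¹`. -/
theorem cent_conj_eq (g u x : G) (hx : g * u * g⁻¹ = x) :
    Subgroup.centralizer ((((Subgroup.zpowers u).map (MulAut.conj g).toMonoidHom :
      Subgroup G)) : Set G) = Subgroup.centralizer ({x} : Set G) := by
  rw [MonoidHom.map_zpowers]
  have h1 : (MulAut.conj g).toMonoidHom u = x := by
    simpa [MulAut.conj_apply] using hx
  rw [h1, centralizer_zpowers_eq]

/-- The block of `C_G({x})` obtained by conjugating a block of `C_G(⟨u⟩)` by `g`, `x = g u g⁻¹`. -/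
def subBlock (g u x : G) (hx : g * u * g⁻¹ = x)
    (f : Set (IrrCharacter (Subgroup.centralizer ((Subgroup.zpowers u : Subgroup G) : Set G)))) :
    Set (IrrCharacter (Subgroup.centralizer ({x} : Set G))) :=
  castIrr (cent_conj_eq g u x hx) (conjBlock (Subgroup.zpowers u) g f)

section Main2

variable [Fintype G] [Fact p.Prime]

theorem isInducedBlock_subBlock (hM : IsPModular p M) {B : Set (IrrCharacter G)}
    (g u x : G) (hx : g * u * g⁻¹ = x)
    {f : Set (IrrCharacter (Subgroup.centralizer ((Subgroup.zpowers u : Subgroup G) : Set G)))}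
    (hf : IsBrauerPairOf p M B (Subgroup.zpowers u) f) :
    IsInducedBlock M (Subgroup.centralizer ({x} : Set G)) (subBlock g u x hx f) B := by
  unfold subBlock
  rw [isInducedBlock_castIrr]
  exact isInducedBlock_of_isBrauerPairOf hM (isBrauerPairOf_conj g hf)

/-- Non-fusion of the subsections of a block with abelian defect group and trivial inertial
quotient. -/
theorem subBlock_inj (hM : IsPModular p M) {B : Set (IrrCharacter G)}
    {P : Subgroup G} {c : Set (IrrCharacter (Subgroup.centralizer (P : Set G)))}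
    (hmax : IsMaximalBrauerPair p M B P c) (hab : ∀ x ∈ P, ∀ y ∈ P, x * y = y * x)
    (hstab : ∀ g ∈ Subgroup.normalizer (P : Set G),
      StabilizesBlock (Subgroup.centralizer (P : Set G)) c g →
        g ∈ Subgroup.centralizer (P : Set G))
    {u v : G} (hu : u ∈ P) (hv : v ∈ P)
    {fu : Set (IrrCharacter (Subgroup.centralizer ((Subgroup.zpowers u : Subgroup G) : Set G)))}
    {fv : Set (IrrCharacter (Subgroup.centralizer ((Subgroup.zpowers v : Subgroup G) : Set G)))}
    (hfu : SubpairLE p M (Subgroup.zpowers u) fu P c)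
    (hfv : SubpairLE p M (Subgroup.zpowers v) fv P c) (hfvb : IsPBlock M fv)
    {g g' x : G} (hx : g * u * g⁻¹ = x) (hx' : g' * v * g'⁻¹ = x)
    (heq : subBlock g u x hx fu = subBlock g' v x hx' fv) : u = v := by
  have hQQ : (Subgroup.zpowers u).map (MulAut.conj g).toMonoidHom =
      (Subgroup.zpowers v).map (MulAut.conj g').toMonoidHom := by
    rw [MonoidHom.map_zpowers, MonoidHom.map_zpowers]
    congr 1
    simp only [MulEquiv.coe_toMonoidHom, MulAut.conj_apply]
    rw [hx, hx']
  have hpair : conjPair g (⟨Subgroup.zpowers u, fu⟩ : BrauerPairIdx G) =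
      conjPair g' ⟨Subgroup.zpowers v, fv⟩ :=
    pair_eq_of_castIrr (cent_conj_eq g u x hx) (cent_conj_eq g' v x hx') hQQ heq
  have h2 : conjPair (g'⁻¹ * g) (⟨Subgroup.zpowers u, fu⟩ : BrauerPairIdx G) =
      ⟨Subgroup.zpowers v, fv⟩ := by
    rw [conjPair_mul, hpair, conjPair_inv_conjPair]
  obtain ⟨c₀, hc₀, hN, hst⟩ := conj_factor hM hmax hab
    (Subgroup.zpowers_le.mpr hu) (Subgroup.zpowers_le.mpr hv) hfvb hfu hfv h2
  have hC := hstab _ hN hst
  have h3 : u * (c₀ * (g'⁻¹ * g)) = c₀ * (g'⁻¹ * g) * u :=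
    Subgroup.mem_centralizer_iff.mp hC u hu
  have h4 : v * c₀ = c₀ * v :=
    Subgroup.mem_centralizer_iff.mp hc₀ v (Subgroup.mem_zpowers v)
  have hv' : v = g'⁻¹ * x * g' := by rw [← hx']; group
  have hhu : (g'⁻¹ * g) * u = v * (g'⁻¹ * g) := by rw [hv', ← hx]; group
  have h5 : u * (c₀ * (g'⁻¹ * g)) = v * (c₀ * (g'⁻¹ * g)) := by
    calc u * (c₀ * (g'⁻¹ * g)) = c₀ * ((g'⁻¹ * g) * u) := by rw [h3]; group
      _ = c₀ * (v * (g'⁻¹ * g)) := by rw [hhu]
      _ = (c₀ * v) * (g'⁻¹ * g) := by group
      _ = (v * c₀) * (g'⁻¹ * g) := by rw [h4]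
      _ = v * (c₀ * (g'⁻¹ * g)) := by group
  exact mul_right_cancel h5

/-- The trivial subsection: `B` itself, as a block of `C_G({1})`. -/
theorem exists_trivial_subsection (hM : IsPModular p M) {B : Set (IrrCharacter G)}
    (hB : IsPBlock M B) :
    ∃ b : Set (IrrCharacter (Subgroup.centralizer ({(1 : G)} : Set G))),
      IsInducedBlock M (Subgroup.centralizer ({(1 : G)} : Set G)) b B ∧
        blockRank p b = blockRank p B := by
  have h0 : Subgroup.centralizer (((⊥ : Subgroup G) : Subgroup G) : Set G) =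
      Subgroup.centralizer ({(1 : G)} : Set G) := by
    rw [← centralizer_zpowers_eq, Subgroup.zpowers_one_eq_bot]
  refine ⟨castIrr h0 (mapBlock (centBotIso G) B), ?_, ?_⟩
  · rw [isInducedBlock_castIrr]
    exact isInducedBlock_of_isBrauerPairOf hM (isBrauerPairOf_bot hM hB)
  · rw [blockRank_castIrr, blockRank_mapBlock]

/-- **Lower bound** `l(B) + |P| - 1 ≤ k(B)` for a block with abelian defect group `P` and trivial
inertial quotient, from Brauer's formula `k(B) = ∑ l(b_u)` and the non-fusion of subsections. -/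
theorem rank_add_card_le (hM : IsPModular p M) {B : Set (IrrCharacter G)}
    {P : Subgroup G} {c : Set (IrrCharacter (Subgroup.centralizer (P : Set G)))}
    (hPD : IsDefectGroup p M B P) (hab : ∀ x ∈ P, ∀ y ∈ P, x * y = y * x)
    (hc : IsInducedBlock M (Subgroup.centralizer (P : Set G)) c B)
    (hstab : ∀ g ∈ Subgroup.normalizer (P : Set G),
      StabilizesBlock (Subgroup.centralizer (P : Set G)) c g →
        g ∈ Subgroup.centralizer (P : Set G)) :
    blockRank p B + Nat.card P ≤ Nat.card B + 1 := by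
  classical
  have hMp := isPrime_of_isPModular hM
  have hB := hc.2.1
  have hPp : IsPGroup p P := isDefectGroup_isPGroup hPD
  have hmax := isMaximalBrauerPair_of_isInducedBlock hM hPD hc
  obtain ⟨X, hX, hXrep⟩ := exists_reps (G := G) p
  have hcount := Cfsg.Agent.S4511.result p M hM B hB X hX hXrep
  -- the data attached to the elements of `P`
  have hzP : ∀ u : P, Subgroup.zpowers (u : G) ≤ P := fun u => Subgroup.zpowers_le.mpr u.2
  have hfu : ∀ u : P, ∃ f : Set (IrrCharacter (Subgroup.centralizer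
      ((Subgroup.zpowers (u : G) : Subgroup G) : Set G))),
      IsInducedBlockIn M (Subgroup.centralizer ((Subgroup.zpowers (u : G) : Subgroup G) : Set G))
        (Subgroup.centralizer (P : Set G)) c f :=
    fun u => exists_isInducedBlockIn hM hPp hab (hzP u) hc.1
  choose f hf using hfu
  have hle : ∀ u : P, SubpairLE p M (Subgroup.zpowers (u : G)) (f u) P c :=
    fun u => subpairLE_of_isInducedBlockIn hM hPp hab (hzP u) (hf u)
  have hpairOf : ∀ u : P, IsBrauerPairOf p M B (Subgroup.zpowers (u : G)) (f u) := fun u =>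
    isBrauerPairOf_of_isInducedBlock hM (hPp.to_le (hzP u))
      (isDefectGroup_of_isInducedBlockIn hM hPD hab (hzP u) hc (hf u)).2
  have hpel : ∀ u : P, ∃ k : ℕ, orderOf (u : G) = p ^ k := by
    intro u
    obtain ⟨k, hk⟩ := (IsPGroup.iff_orderOf.mp hPp) u
    exact ⟨k, by rw [Subgroup.orderOf_coe, hk]⟩
  have hρ : ∀ u : P, ∃ x, x ∈ X ∧ IsConj (u : G) x := fun u => (hXrep (u : G) (hpel u)).exists
  choose ρ hρX hρc using hρ
  have hρuniq : ∀ (u : P) (x : G), x ∈ X → IsConj (u : G) x → ρ u = x := by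
    intro u x hx hux
    exact (hXrep (u : G) (hpel u)).unique ⟨hρX u, hρc u⟩ ⟨hx, hux⟩
  -- the blocks attached to `u` over a given representative
  set β : (x : G) → P → Set (IrrCharacter (Subgroup.centralizer ({x} : Set G))) := fun x u =>
    if h : ∃ g : G, g * (u : G) * g⁻¹ = x then
      subBlock (Classical.choose h) (u : G) x (Classical.choose_spec h) (f u) else ∅ with hβ
  have hβmem : ∀ (x : G) (u : P), ρ u = x →
      IsInducedBlock M (Subgroup.centralizer ({x} : Set G)) (β x u) B := by
    intro x u hux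
    have h : ∃ g : G, g * (u : G) * g⁻¹ = x := by
      rw [← hux]
      exact isConj_iff.mp (hρc u)
    rw [hβ]
    simp only [dif_pos h]
    exact isInducedBlock_subBlock hM _ _ _ _ (hpairOf u)
  have hβinj : ∀ (x : G) (u v : P), ρ u = x → ρ v = x → β x u = β x v → u = v := by
    intro x u v hux hvx huv
    have h : ∃ g : G, g * (u : G) * g⁻¹ = x := by
      rw [← hux]
      exact isConj_iff.mp (hρc u)
    have h' : ∃ g : G, g * (v : G) * g⁻¹ = x := by
      rw [← hvx]
      exact isConj_iff.mp (hρc v)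
    rw [hβ] at huv
    simp only [dif_pos h, dif_pos h'] at huv
    exact Subtype.ext (subBlock_inj hM hmax hab hstab u.2 v.2 (hle u) (hle v) (hf v).2.1
      (Classical.choose_spec h) (Classical.choose_spec h') huv)
  -- finiteness of the index sets
  have hfin : ∀ x : G, {b : Set (IrrCharacter (Subgroup.centralizer ({x} : Set G))) |
      IsInducedBlock M (Subgroup.centralizer ({x} : Set G)) b B}.Finite := by
    intro x
    have : Fintype (Subgroup.centralizer ({x} : Set G)) := Fintype.ofFinite _
    have : Finite (IrrCharacter (Subgroup.centralizer ({x} : Set G))) := charFacts.finite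
    exact Set.toFinite _
  set F : G → ℕ := fun x => ∑ᶠ b ∈ {b : Set (IrrCharacter (Subgroup.centralizer
    ({x} : Set G))) | IsInducedBlock M (Subgroup.centralizer ({x} : Set G)) b B},
      blockRank p b with hF
  have hFsum : ∀ x : G, F x = ∑ b ∈ (hfin x).toFinset, blockRank p b := fun x =>
    finsum_mem_eq_finite_toFinset_sum _ (hfin x)
  have hrank1 : ∀ (x : G) (b : Set (IrrCharacter (Subgroup.centralizer ({x} : Set G)))),
      IsInducedBlock M (Subgroup.centralizer ({x} : Set G)) b B → 1 ≤ blockRank p b := by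
    intro x b hb
    obtain ⟨χ, rfl⟩ := hb.1
    exact one_le_blockRank ⟨χ, mem_blockOf_self hMp χ⟩
  -- fibrewise bound
  have hfib : ∀ x : G, (Finset.univ.filter (fun u : P => ρ u = x)).card ≤ F x := by
    intro x
    rw [hFsum]
    have himg : (Finset.univ.filter (fun u : P => ρ u = x)).image (β x) ⊆ (hfin x).toFinset := by
      intro b hb
      obtain ⟨u, hu, rfl⟩ := Finset.mem_image.mp hb
      rw [Set.Finite.mem_toFinset]
      exact hβmem x u (Finset.mem_filter.mp hu).2
    calc (Finset.univ.filter (fun u : P => ρ u = x)).card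
        = ((Finset.univ.filter (fun u : P => ρ u = x)).image (β x)).card := by
          rw [Finset.card_image_of_injOn]
          intro u hu v hv huv
          exact hβinj x u v (Finset.mem_filter.mp (Finset.mem_coe.mp hu)).2
            (Finset.mem_filter.mp (Finset.mem_coe.mp hv)).2 huv
      _ = ∑ b ∈ (Finset.univ.filter (fun u : P => ρ u = x)).image (β x), 1 := by
          rw [Finset.sum_const, smul_eq_mul, mul_one]
      _ ≤ ∑ b ∈ (Finset.univ.filter (fun u : P => ρ u = x)).image (β x), blockRank p b := by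
          refine Finset.sum_le_sum fun b hb => ?_
          have := himg hb
          rw [Set.Finite.mem_toFinset] at this
          exact hrank1 x b this
      _ ≤ ∑ b ∈ (hfin x).toFinset, blockRank p b :=
          Finset.sum_le_sum_of_subset himg
  -- the trivial subsection
  have h1X : (1 : G) ∈ X := by
    obtain ⟨x, ⟨hx, hx1⟩, -⟩ := hXrep 1 ⟨0, by simp⟩
    have : x = 1 := isConj_one_right.mp hx1
    rwa [this] at hx
  have hF1 : blockRank p B ≤ F 1 := by
    obtain ⟨b, hb, hbr⟩ := exists_trivial_subsection hM hB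
    rw [hFsum, ← hbr]
    exact Finset.single_le_sum (f := fun b => blockRank p b) (fun _ _ => Nat.zero_le _)
      ((Set.Finite.mem_toFinset _).mpr hb)
  -- summing up
  have hsum : Nat.card B = F 1 + ∑ x ∈ X.erase 1, F x := by
    rw [hcount, Finset.add_sum_erase X F h1X]
  set S' : Finset P := Finset.univ.filter (fun u : P => ρ u ∈ X.erase 1) with hS'
  have hS'card : S'.card = ∑ x ∈ X.erase 1, (S'.filter (fun u => ρ u = x)).card :=
    Finset.card_eq_sum_card_fiberwise (fun u hu => (Finset.mem_filter.mp hu).2)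
  have hS'le : ∑ x ∈ X.erase 1, (S'.filter (fun u => ρ u = x)).card ≤ ∑ x ∈ X.erase 1, F x := by
    refine Finset.sum_le_sum fun x _ => ?_
    refine le_trans (Finset.card_le_card ?_) (hfib x)
    intro u hu
    exact Finset.mem_filter.mpr ⟨Finset.mem_univ _, (Finset.mem_filter.mp hu).2⟩
  have hS'ge : Nat.card P ≤ S'.card + 1 := by
    have hsub : (Finset.univ : Finset P).erase 1 ⊆ S' := by
      intro u hu
      have hu1 : u ≠ 1 := (Finset.mem_erase.mp hu).1
      refine Finset.mem_filter.mpr ⟨Finset.mem_univ _, Finset.mem_erase.mpr ⟨?_, hρX u⟩⟩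
      intro h1
      have := hρc u
      rw [h1, isConj_one_left] at this
      exact hu1 (Subtype.ext this)
    have h2 := Finset.card_le_card hsub
    rw [Finset.card_erase_of_mem (Finset.mem_univ _), Finset.card_univ,
      ← Nat.card_eq_fintype_card] at h2
    omega
  omega

end Main2

/-! ### Nilpotent blocks with abelian defect groups have a unique Brauer character -/

/-- The statement of S4539 (Brauer's bound `k(B) ≤ p^d` from a major subsection of rank at most
two), in a fixed universe; used as a hypothesis below. -/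
def MajorBound : Prop :=
  ∀ {G : Type u} [Group G] [Finite G] (p : ℕ) [Fact p.Prime] (M : Ideal AlgInt)
    (_ : IsPModular p M) (B : Set (IrrCharacter G)) (_ : IsPBlock M B) (D : Subgroup G)
    (_ : IsDefectGroup p M B D) (z : G) (_ : z ∈ D) (_ : ∀ d ∈ D, d * z = z * d)
    (b : Set (IrrCharacter ↥(Subgroup.centralizer ({z} : Set G))))
    (_ : IsInducedBlock M (Subgroup.centralizer ({z} : Set G)) b B)
    (_ : IsDefectGroup p M b (D.subgroupOf (Subgroup.centralizer ({z} : Set G))))
    (_ : blockRank p b ≤ 2), Nat.card B ≤ p ^ blockDefect p B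

theorem blockRank_eq_one_aux (h4539 : MajorBound.{u}) [Fact p.Prime] (hM : IsPModular p M) :
    ∀ n : ℕ, ∀ (G : Type u) [Group G] [Finite G], Nat.card G = n →
      ∀ (B : Set (IrrCharacter G)) (P : Subgroup G)
        (c : Set (IrrCharacter (Subgroup.centralizer (P : Set G)))),
        IsDefectGroup p M B P → (∀ x ∈ P, ∀ y ∈ P, x * y = y * x) →
        IsInducedBlock M (Subgroup.centralizer (P : Set G)) c B →
        (∀ g ∈ Subgroup.normalizer (P : Set G),
          StabilizesBlock (Subgroup.centralizer (P : Set G)) c g →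
            g ∈ Subgroup.centralizer (P : Set G)) →
        blockRank p B = 1 := by
  intro n
  induction n using Nat.strong_induction_on with
  | _ n ih =>
    intro G _ _ hn B P c hPD hab hc hstab
    classical
    have := Fintype.ofFinite G
    have hMp := isPrime_of_isPModular hM
    have hB := hc.2.1
    have hPp : IsPGroup p P := isDefectGroup_isPGroup hPD
    have hge : 1 ≤ blockRank p B := by
      obtain ⟨χ, rfl⟩ := hB
      exact one_le_blockRank ⟨χ, mem_blockOf_self hMp χ⟩
    by_cases hPZ : P ≤ Subgroup.center G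
    · exact Cfsg.Agent.S4669.result p M hM B hB P hPD hPZ
    · obtain ⟨z, hzP, hzZ⟩ := SetLike.not_le_iff_exists.mp hPZ
      have hQP : Subgroup.zpowers z ≤ P := Subgroup.zpowers_le.mpr hzP
      obtain ⟨f, hf⟩ := exists_isInducedBlockIn hM hPp hab hQP hc.1
      obtain ⟨hfD, hfB⟩ := isDefectGroup_of_isInducedBlockIn hM hPD hab hQP hc hf
      have hPH : P ≤ Subgroup.centralizer ((Subgroup.zpowers z : Subgroup G) : Set G) :=
        le_centralizer_of_abelian hab hQP
      have hKH : Subgroup.centralizer (P : Set G) ≤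
          Subgroup.centralizer ((Subgroup.zpowers z : Subgroup G) : Set G) :=
        Subgroup.centralizer_le hQP
      have hind' := (isInducedBlockIn_iff hPH hKH c f).mp hf
      have hKlt : Nat.card (Subgroup.centralizer ((Subgroup.zpowers z : Subgroup G) : Set G)) < n := by
        rw [← hn]
        have hne : Subgroup.centralizer ((Subgroup.zpowers z : Subgroup G) : Set G) ≠ ⊤ := by
          intro htop
          apply hzZ
          rw [Subgroup.mem_center_iff]
          intro g
          have hg : g ∈ Subgroup.centralizer ((Subgroup.zpowers z : Subgroup G) : Set G) := by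
            rw [htop]
            exact Subgroup.mem_top g
          exact (Subgroup.mem_centralizer_iff.mp hg z (Subgroup.mem_zpowers z)).symm
        exact lt_of_le_of_ne (Subgroup.card_le_card_group _)
          (fun h => hne (Subgroup.eq_top_of_card_eq _ h))
      have hab' : ∀ x ∈ P.subgroupOf (Subgroup.centralizer
          ((Subgroup.zpowers z : Subgroup G) : Set G)),
          ∀ y ∈ P.subgroupOf (Subgroup.centralizer ((Subgroup.zpowers z : Subgroup G) : Set G)),
            x * y = y * x := by
        intro x hx y hy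
        apply Subtype.ext
        exact hab _ (Subgroup.mem_subgroupOf.mp hx) _ (Subgroup.mem_subgroupOf.mp hy)
      have hfr : blockRank p f = 1 :=
        ih _ hKlt (Subgroup.centralizer ((Subgroup.zpowers z : Subgroup G) : Set G)) rfl f
          (P.subgroupOf _) (mapBlock (centSubIso hPH hKH) c) hfD hab' hind' (by
            intro x hxN hxst
            have hxN' := (mem_normalizer_subgroupOf_iff hPH x).mp hxN
            exact (mem_centralizer_subgroupOf_iff hPH x).mpr
              (hstab x hxN' ((stabilizesBlock_centSubIso hPH hKH x hxN' c).mp hxst)))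
      have hcz := centralizer_zpowers_eq z
      have hbound := h4539 p M hM B hB P hPD z hzP (fun d hd => hab d hd z hzP)
        (castIrr hcz f) ((isInducedBlock_castIrr hcz f B).mpr hfB)
        ((isDefectGroup_castIrr hcz f P).mpr hfD) (by rw [blockRank_castIrr, hfr]; norm_num)
      rw [← Cfsg.Agent.Lib.Helper78_Deficiency.card_isDefectGroup hM hB hPD] at hbound
      have hlow := rank_add_card_le hM hPD hab hc hstab
      omega

/-- **Nilpotent blocks with abelian defect groups have `l(B) = 1`** (modulo S4539): a block `B`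
with abelian defect group `P` and root `c` such that `N_G(P, c) = C_G(P)`. -/
theorem blockRank_eq_one_of_abelian (h4539 : MajorBound.{u}) [Finite G] [Fact p.Prime]
    (hM : IsPModular p M) {B : Set (IrrCharacter G)} {P : Subgroup G}
    {c : Set (IrrCharacter (Subgroup.centralizer (P : Set G)))}
    (hPD : IsDefectGroup p M B P) (hab : ∀ x ∈ P, ∀ y ∈ P, x * y = y * x)
    (hc : IsInducedBlock M (Subgroup.centralizer (P : Set G)) c B)
    (hstab : ∀ g ∈ Subgroup.normalizer (P : Set G),
      StabilizesBlock (Subgroup.centralizer (P : Set G)) c g →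
        g ∈ Subgroup.centralizer (P : Set G)) :
    blockRank p B = 1 :=
  blockRank_eq_one_aux h4539 hM _ G rfl B P c hPD hab hc hstab

/-- The local version: for `Q ≤ P` abelian and `f = c^{C_G(Q)}` with `C_T(Q) ≤ C_G(P)`,
`l(f) = 1`. -/
theorem blockRank_local_eq_one (h4539 : MajorBound.{u}) [Fintype G] [Fact p.Prime]
    (hM : IsPModular p M) {B : Set (IrrCharacter G)} {P Q : Subgroup G}
    (hPD : IsDefectGroup p M B P) (hab : ∀ x ∈ P, ∀ y ∈ P, x * y = y * x) (hQP : Q ≤ P)
    {c : Set (IrrCharacter (Subgroup.centralizer (P : Set G)))}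
    (hc : IsInducedBlock M (Subgroup.centralizer (P : Set G)) c B)
    {f : Set (IrrCharacter (Subgroup.centralizer (Q : Set G)))}
    (hf : IsInducedBlockIn M (Subgroup.centralizer (Q : Set G))
      (Subgroup.centralizer (P : Set G)) c f)
    (hloc : ∀ g : G, g ∈ Subgroup.centralizer (Q : Set G) →
      g ∈ Subgroup.normalizer (P : Set G) →
      StabilizesBlock (Subgroup.centralizer (P : Set G)) c g →
        g ∈ Subgroup.centralizer (P : Set G)) :
    blockRank p f = 1 := by
  classical
  have hPH : P ≤ Subgroup.centralizer (Q : Set G) := le_centralizer_of_abelian hab hQP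
  have hKH : Subgroup.centralizer (P : Set G) ≤ Subgroup.centralizer (Q : Set G) :=
    Subgroup.centralizer_le hQP
  obtain ⟨hfD, -⟩ := isDefectGroup_of_isInducedBlockIn hM hPD hab hQP hc hf
  have hind' := (isInducedBlockIn_iff hPH hKH c f).mp hf
  have hab' : ∀ x ∈ P.subgroupOf (Subgroup.centralizer (Q : Set G)),
      ∀ y ∈ P.subgroupOf (Subgroup.centralizer (Q : Set G)), x * y = y * x := by
    intro x hx y hy
    apply Subtype.ext
    exact hab _ (Subgroup.mem_subgroupOf.mp hx) _ (Subgroup.mem_subgroupOf.mp hy)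
  refine blockRank_eq_one_of_abelian h4539 hM hfD hab' hind' ?_
  intro x hxN hxst
  have hxN' := (mem_normalizer_subgroupOf_iff hPH x).mp hxN
  exact (mem_centralizer_subgroupOf_iff hPH x).mpr
    (hloc x x.2 hxN' ((stabilizesBlock_centSubIso hPH hKH x hxN' c).mp hxst))

end Cfsg.Agent.Lib.Helper97_NilRank
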