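import Mathlib
import Cfsg.Prelude.Def_Blocks
import Cfsg.Prelude.Def_BlockLocal
import Cfsg.Prelude.Def_BrauerPairs
import Cfsg.Agent.Lib.Helper78_AbelianDefect
import Cfsg.Agent.Lib.Helper97_NilRank

/-!
# Fusion of central subpairs of a maximal Brauer pair (helper82)

For a maximal Brauer pair `(P, e)` of a block `B` and subgroups `Q` centralized by `P`
(`Q ≤ Z(P)`):
* `isDefectGroup_of_central`: the block `f` of `C_G(Q)` with `(Q, f) ≤ (P, e)` has defect group `P`;
* `conj_factor_central`: fusion of such subpairs is controlled by the stabilizer of `(P, e)`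
  (generalising `Helper97_NilRank.conj_factor` from abelian `P` to central subgroups);
* `exists_stab_conj_of_subBlock_eq`: the version for the subsections attached to elements.
-/

set_option autoImplicit false
set_option linter.unusedSectionVars false

namespace Cfsg.Agent.Lib.Helper82_CentralFusion

open Cfsg Cfsg.Agent.Lib.Helper78_LocalRing Cfsg.Agent.Lib.Helper78_CentralChar
  Cfsg.Agent.Lib.Helper78_Osima Cfsg.Agent.Lib.Helper78_CharFacts
  Cfsg.Agent.Lib.Helper78_ExtConv
  Cfsg.Agent.Lib.Helper78_BrauerPairs Cfsg.Agent.Lib.Helper78_Transport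
  Cfsg.Agent.Lib.Helper78_TransportBlocks Cfsg.Agent.Lib.Helper78_NilpotentPrincipal
  Cfsg.Agent.Lib.Helper78_PrincipalFusion
  Cfsg.Agent.Lib.Helper78_BrauerCorr
  Cfsg.Agent.Lib.Helper78_InducedTrans
  Cfsg.Agent.Lib.Helper78_SubpairBasic Cfsg.Agent.Lib.Helper78_SubpairNormal
  Cfsg.Agent.Lib.Helper78_SubpairTrans Cfsg.Agent.Lib.Helper78_SubpairUnique
  Cfsg.Agent.Lib.Helper78_FirstMainGT
  Cfsg.Agent.Lib.Helper78_FirstMain Cfsg.Agent.Lib.Helper78_MaxPair
  Cfsg.Agent.Lib.Helper78_PairConj Cfsg.Agent.Lib.Helper78_PairCent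
  Cfsg.Agent.Lib.Helper78_PairStab
  Cfsg.Agent.Lib.Helper78_BlockFusion Cfsg.Agent.Lib.Helper78_BlockFusion2
  Cfsg.Agent.Lib.Helper78_BlockFusionSys
  Cfsg.Agent.Lib.Helper78_Automized Cfsg.Agent.Lib.Helper78_Receptive
  Cfsg.Agent.Lib.Helper78_Saturated Cfsg.Agent.Lib.Helper78_FongKnorrSub
  Cfsg.Agent.Lib.Helper78_AbelianDefect
  Cfsg.Agent.Lib.Helper97_InducedPair
  Cfsg.Agent.Lib.Helper97_InducedPair2
  Cfsg.Agent.Lib.Helper97_InducedPair3
  Cfsg.Agent.Lib.Helper97_NilRank

universe u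

variable {G : Type u} [Group G] {M : Ideal AlgInt} {p : ℕ}

section Main

variable [Fintype G] [Fact p.Prime]

/-- A subpair on a subgroup centralized by `P` is fully centralized: `P` is a defect group of its
block. -/
theorem isDefectGroup_of_central (hM : IsPModular p M) {B : Set (IrrCharacter G)}
    {P : Subgroup G} {e : Set (IrrCharacter (Subgroup.centralizer (P : Set G)))}
    (hmax : IsMaximalBrauerPair p M B P e)
    {Q : Subgroup G} {f : Set (IrrCharacter (Subgroup.centralizer (Q : Set G)))} (hQP : Q ≤ P)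
    (hcen : P ≤ Subgroup.centralizer (Q : Set G))
    (hf : IsPBlock M f) (hle : SubpairLE p M Q f P e) :
    IsDefectGroup p M f (P.subgroupOf (Subgroup.centralizer (Q : Set G))) := by
  have hF := isBlockFusionSystemOn_blockFusionSystem hM hmax
  have h1 := (isFullyCentralized_iff hM hmax hF hQP hf hle).mp ⟨hQP, fun Q' _ => by
    unfold FusionSystem.centralizerIn
    apply Subgroup.card_le_of_le
    exact le_inf inf_le_left (inf_le_left.trans hcen)⟩
  have h2 : P ⊓ Subgroup.centralizer (Q : Set G) = P := inf_eq_left.mpr hcen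
  rwa [h2] at h1

/-- A subpair on a subgroup centralized by `P` is fully normalized. -/
theorem exists_block_defect_of_central (hM : IsPModular p M) {B : Set (IrrCharacter G)}
    {P : Subgroup G} {e : Set (IrrCharacter (Subgroup.centralizer (P : Set G)))}
    (hmax : IsMaximalBrauerPair p M B P e)
    {Q : Subgroup G} {f : Set (IrrCharacter (Subgroup.centralizer (Q : Set G)))} (hQP : Q ≤ P)
    (hcen : P ≤ Subgroup.centralizer (Q : Set G))
    (hf : IsPBlock M f) (hle : SubpairLE p M Q f P e) (T : Subgroup G)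
    (hT : ∀ y : G, y ∈ T ↔ y ∈ Subgroup.normalizer (Q : Set G) ∧
      StabilizesBlock (Subgroup.centralizer (Q : Set G)) f y) :
    ∃ F' : Set (IrrCharacter T), IsPBlock M F' ∧
      (∀ t : T, blockCoeff F' t =
        subgroupBlockCoeff (Subgroup.centralizer (Q : Set G)) f (t : G)) ∧
      IsDefectGroup p M F' ((P ⊓ Subgroup.normalizer (Q : Set G)).subgroupOf T) := by
  have hF := isBlockFusionSystemOn_blockFusionSystem hM hmax
  refine (isFullyNormalized_iff hM hmax hF hQP hf hle T hT).mp ⟨hQP, fun Q' _ => ?_⟩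
  unfold FusionSystem.normalizerIn
  apply Subgroup.card_le_of_le
  exact le_inf inf_le_left (inf_le_left.trans (hcen.trans (centralizer_le_normalizer Q)))

/-- Fusion of subpairs of a maximal pair `(P, e)` on subgroups centralized by `P` is controlled by
the stabilizer of `(P, e)`. -/
theorem conj_factor_central (hM : IsPModular p M) {B : Set (IrrCharacter G)}
    {P : Subgroup G} {e : Set (IrrCharacter (Subgroup.centralizer (P : Set G)))}
    (hmax : IsMaximalBrauerPair p M B P e)
    {Q Q' : Subgroup G} {f : Set (IrrCharacter (Subgroup.centralizer (Q : Set G)))}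
    {f' : Set (IrrCharacter (Subgroup.centralizer (Q' : Set G)))}
    (_hQP : Q ≤ P) (hQ'P : Q' ≤ P) (hcen : P ≤ Subgroup.centralizer (Q : Set G))
    (hcen' : P ≤ Subgroup.centralizer (Q' : Set G)) (hf' : IsPBlock M f')
    (hle : SubpairLE p M Q f P e) (hle' : SubpairLE p M Q' f' P e) {x : G}
    (hx : conjPair x (⟨Q, f⟩ : BrauerPairIdx G) = ⟨Q', f'⟩) :
    ∃ c ∈ Subgroup.centralizer (Q' : Set G), c * x ∈ Subgroup.normalizer (P : Set G) ∧
      StabilizesBlock (Subgroup.centralizer (P : Set G)) e (c * x) := by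
  have hMp := isPrime_of_isPModular hM
  have hPe := hmax.1.1
  have hQQ' : Q.map (MulAut.conj x).toMonoidHom = Q' := congrArg Sigma.fst hx
  obtain ⟨F', hF', hF'c, hD⟩ := exists_block_defect_of_central hM hmax hQ'P hcen' hf' hle'
    (stabPair Q' f') (mem_stabPair_iff hMp hf')
  have hA : Relation.ReflTransGen (NormalSubpairRel p M) (⟨Q', f'⟩ : BrauerPairIdx G)
      (conjPair x ⟨P, e⟩) := by
    have h1 := chain_conj x hle
    rw [hx] at h1
    exact h1
  have hAX : (conjPair x (⟨P, e⟩ : BrauerPairIdx G)).1 ≤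
      (P ⊓ Subgroup.normalizer (Q' : Set G)) ⊔ Subgroup.centralizer (Q' : Set G) := by
    refine le_trans ?_ le_sup_right
    rintro _ ⟨a, ha, rfl⟩
    simp only [MulEquiv.coe_toMonoidHom, MulAut.conj_apply]
    rw [Subgroup.mem_centralizer_iff]
    intro q hq
    rw [← hQQ'] at hq
    obtain ⟨q₀, hq₀, rfl⟩ := hq
    simp only [MulEquiv.coe_toMonoidHom, MulAut.conj_apply]
    have h1 : q₀ * a = a * q₀ := Subgroup.mem_centralizer_iff.mp (hcen ha) q₀ hq₀
    calc x * q₀ * x⁻¹ * (x * a * x⁻¹) = x * (q₀ * a) * x⁻¹ := by group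
      _ = x * (a * q₀) * x⁻¹ := by rw [h1]
      _ = x * a * x⁻¹ * (x * q₀ * x⁻¹) := by group
  obtain ⟨c, hc, hchain⟩ := exists_centralizer_conj hM hPe hQ'P hf' hle' (stabPair Q' f')
    (mem_stabPair_iff hMp hf') hF' hF'c hD (isBrauerPair_conj x hPe) hA hAX
  have hchain' : Relation.ReflTransGen (NormalSubpairRel p M)
      (conjPair c (conjPair x (⟨P, e⟩ : BrauerPairIdx G))) ⟨P, e⟩ := hchain
  rw [← conjPair_mul] at hchain'
  have hle2 : (conjPair (c * x) (⟨P, e⟩ : BrauerPairIdx G)).1 ≤ P := le_of_chain hchain'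
  have heq1 : (conjPair (c * x) (⟨P, e⟩ : BrauerPairIdx G)).1 = P :=
    Subgroup.eq_of_le_of_card_ge hle2 (by
      show Nat.card P ≤ Nat.card (P.map (MulAut.conj (c * x)).toMonoidHom)
      rw [card_map_conj])
  have heq : conjPair (c * x) (⟨P, e⟩ : BrauerPairIdx G) = ⟨P, e⟩ :=
    eq_of_chain_same hMp hchain' heq1
  have hyN : c * x ∈ Subgroup.normalizer (P : Set G) := mem_normalizer_of_map_conj_eq heq1
  exact ⟨c, hc, hyN, stab_of_conjPair_eq hyN heq⟩

/-- `P` centralizes `⟨u⟩` when `u` is central in `P`. -/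
theorem le_centralizer_zpowers {P : Subgroup G} {u : G} (hu : ∀ d ∈ P, d * u = u * d) :
    P ≤ Subgroup.centralizer ((Subgroup.zpowers u : Subgroup G) : Set G) := by
  intro d hd
  rw [centralizer_zpowers_eq, Subgroup.mem_centralizer_iff]
  intro y hy
  rw [Set.mem_singleton_iff] at hy
  subst hy
  exact (hu d hd).symm

/-- **Fusion of the subsections attached to central elements**: if `g` carries the subsection of
`u ∈ Z(P)` to the subsection of `v ∈ Z(P)`, then `v = t u t⁻¹` for some `t` in the stabilizer of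
`(P, e)`. -/
theorem exists_stab_conj_of_subBlock_eq (hM : IsPModular p M) {B : Set (IrrCharacter G)}
    {P : Subgroup G} {e : Set (IrrCharacter (Subgroup.centralizer (P : Set G)))}
    (hmax : IsMaximalBrauerPair p M B P e)
    {u v : G} (hu : u ∈ P) (hv : v ∈ P) (hucen : ∀ d ∈ P, d * u = u * d)
    (hvcen : ∀ d ∈ P, d * v = v * d)
    {fu : Set (IrrCharacter (Subgroup.centralizer ((Subgroup.zpowers u : Subgroup G) : Set G)))}
    {fv : Set (IrrCharacter (Subgroup.centralizer ((Subgroup.zpowers v : Subgroup G) : Set G)))}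
    (hfu : SubpairLE p M (Subgroup.zpowers u) fu P e)
    (hfv : SubpairLE p M (Subgroup.zpowers v) fv P e) (hfvb : IsPBlock M fv)
    {g : G} (hx : g * u * g⁻¹ = v)
    (heq : subBlock g u v hx fu = castIrr (centralizer_zpowers_eq v) fv) :
    ∃ t : G, t ∈ Subgroup.normalizer (P : Set G) ∧
      StabilizesBlock (Subgroup.centralizer (P : Set G)) e t ∧ t * u * t⁻¹ = v := by
  have hQQ : (Subgroup.zpowers u).map (MulAut.conj g).toMonoidHom = Subgroup.zpowers v := by
    rw [MonoidHom.map_zpowers]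
    have h1 : (MulAut.conj g).toMonoidHom u = v := by
      simpa [MulAut.conj_apply] using hx
    rw [h1]
  have hpair : conjPair g (⟨Subgroup.zpowers u, fu⟩ : BrauerPairIdx G) =
      ⟨Subgroup.zpowers v, fv⟩ :=
    pair_eq_of_castIrr (cent_conj_eq g u v hx) (centralizer_zpowers_eq v) hQQ heq
  obtain ⟨c₀, hc₀, hN, hst⟩ := conj_factor_central hM hmax
    (Subgroup.zpowers_le.mpr hu) (Subgroup.zpowers_le.mpr hv) (le_centralizer_zpowers hucen)
    (le_centralizer_zpowers hvcen) hfvb hfu hfv hpair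
  refine ⟨c₀ * g, hN, hst, ?_⟩
  have h4 : v * c₀ = c₀ * v :=
    Subgroup.mem_centralizer_iff.mp hc₀ v (Subgroup.mem_zpowers v)
  calc c₀ * g * u * (c₀ * g)⁻¹ = c₀ * (g * u * g⁻¹) * c₀⁻¹ := by group
    _ = c₀ * v * c₀⁻¹ := by rw [hx]
    _ = v * c₀ * c₀⁻¹ := by rw [h4]
    _ = v := by group

end Main

end Cfsg.Agent.Lib.Helper82_CentralFusion
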