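import Mathlib
import Cfsg.Agent.Lib.Helper82_SubsecClaim
import Cfsg.Agent.Lib.Helper82_BrauerCountElems
import Cfsg.Agent.Lib.Helper57_PRegInt

/-!
# Inner products of class functions lifted from centralizers of `p`-elements (helper82)

`liftC x η` (from `Helper82_SubsecClaim`) is the class function of `G` induced from the function
`x c ↦ η c` on `x C_G(x)`.

* `classInner_liftC`: Frobenius reciprocity `[φ, liftC x η] = [c ↦ φ (x c), η]`;
* `classInner_liftC_liftC`: for `η₁, η₂` supported on `p`-regular elements,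
  `[liftC x η₁, liftC x η₂] = [η₁, η₂]`;
* `classInner_liftC_liftC_of_not_isConj`: lifts from non-conjugate `p`-elements are orthogonal;
* `liftC_conj`: `liftC (t x t⁻¹) η = liftC x (η ∘ centConj x t)`.
-/

set_option autoImplicit false
set_option linter.unusedSectionVars false

namespace Cfsg.Agent.Lib.Helper82_LiftInner

open Cfsg Cfsg.Agent.Lib.Helper82_Sections Cfsg.Agent.Lib.Helper82_Subsections
  Cfsg.Agent.Lib.Helper82_SubsecClaim Cfsg.Agent.Lib.Helper82_BrauerCountElems
  Cfsg.Agent.Lib.Helper57_PRegInt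

open scoped ComplexConjugate

variable {G : Type*} [Group G] [Fintype G]

theorem sum_dite_mem (C : Subgroup G) [Fintype C] (f : C → ℂ) :
    ∑ g : G, (by classical exact if hg : g ∈ C then f ⟨g, hg⟩ else 0) = ∑ c : C, f c := by
  classical
  rw [← Finset.sum_subset (Finset.subset_univ (Finset.univ.filter (fun g : G => g ∈ C)))]
  · rw [Finset.sum_subtype (Finset.univ.filter (fun g : G => g ∈ C)) (p := fun g => g ∈ C)
      (fun g => by simp)]
    refine Finset.sum_congr rfl fun c _ => ?_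
    rw [dif_pos c.2]
  · intro g _ hg
    rw [Finset.mem_filter] at hg
    push Not at hg
    rw [dif_neg (hg (Finset.mem_univ g))]

theorem sum_mul_conj_liftF (x : G) [Fintype ↥(Subgroup.centralizer ({x} : Set G))] (φ : G → ℂ)
    (η : ↥(Subgroup.centralizer ({x} : Set G)) → ℂ) :
    ∑ g : G, φ g * conj (liftF x η g) =
      ∑ c : ↥(Subgroup.centralizer ({x} : Set G)), φ (x * (c : G)) * conj (η c) := by
  classical
  rw [← Equiv.sum_comp (Equiv.mulLeft x)]
  rw [← sum_dite_mem (Subgroup.centralizer ({x} : Set G))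
    (fun c => φ (x * (c : G)) * conj (η c))]
  refine Finset.sum_congr rfl fun g _ => ?_
  simp only [Equiv.coe_mulLeft]
  unfold liftF
  by_cases hg : g ∈ Subgroup.centralizer ({x} : Set G)
  · have hg' : x⁻¹ * (x * g) ∈ Subgroup.centralizer ({x} : Set G) := by
      rwa [inv_mul_cancel_left]
    rw [dif_pos hg, dif_pos hg']
    have : (⟨x⁻¹ * (x * g), hg'⟩ : ↥(Subgroup.centralizer ({x} : Set G))) = ⟨g, hg⟩ := by
      apply Subtype.ext
      exact inv_mul_cancel_left x g
    rw [this]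
  · have hg' : ¬ x⁻¹ * (x * g) ∈ Subgroup.centralizer ({x} : Set G) := by
      rwa [inv_mul_cancel_left]
    rw [dif_neg hg, dif_neg hg', map_zero, mul_zero]

/-- **Frobenius reciprocity** for `liftC`. -/
theorem classInner_liftC (x : G) [Fintype ↥(Subgroup.centralizer ({x} : Set G))] {φ : G → ℂ}
    (hφ : IsClassFunction G φ) (η : ↥(Subgroup.centralizer ({x} : Set G)) → ℂ) :
    classInner φ (liftC x η) =
      classInner (fun c : ↥(Subgroup.centralizer ({x} : Set G)) => φ (x * (c : G))) η := by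
  classical
  unfold classInner liftC
  have hG : (Nat.card G : ℂ) ≠ 0 := by exact_mod_cast (Nat.card_pos (α := G)).ne'
  have h1 : ∑ g : G, φ g * conj ((Nat.card ↥(Subgroup.centralizer ({x} : Set G)) : ℂ)⁻¹ *
      ∑ t : G, liftF x η (t⁻¹ * g * t)) =
      (Nat.card ↥(Subgroup.centralizer ({x} : Set G)) : ℂ)⁻¹ *
        ∑ t : G, ∑ g : G, φ g * conj (liftF x η (t⁻¹ * g * t)) := by
    rw [Finset.sum_comm, Finset.mul_sum]
    refine Finset.sum_congr rfl fun g _ => ?_
    rw [map_mul, map_inv₀, Complex.conj_natCast, map_sum, Finset.mul_sum, Finset.mul_sum,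
      Finset.mul_sum]
    refine Finset.sum_congr rfl fun t _ => ?_
    ring
  have h2 : ∀ t : G, ∑ g : G, φ g * conj (liftF x η (t⁻¹ * g * t)) =
      ∑ g : G, φ g * conj (liftF x η g) := by
    intro t
    rw [← Equiv.sum_comp (MulAut.conj t).toEquiv]
    refine Finset.sum_congr rfl fun g _ => ?_
    simp only [MulEquiv.toEquiv_eq_coe, EquivLike.coe_coe, MulAut.conj_apply]
    rw [hφ]
    congr 3
    group
  rw [h1]
  simp_rw [h2]
  rw [Finset.sum_const, Finset.card_univ, nsmul_eq_mul, sum_mul_conj_liftF,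
    ← Nat.card_eq_fintype_card]
  field_simp

/-- The lifts from one `p`-element are isometric on functions supported on the `p`-regular
elements. -/
theorem classInner_liftC_liftC {p : ℕ} (hp : p.Prime) {x : G}
    [Fintype ↥(Subgroup.centralizer ({x} : Set G))] (hx : ∃ k : ℕ, orderOf x = p ^ k)
    {η₁ η₂ : ↥(Subgroup.centralizer ({x} : Set G)) → ℂ}
    (hη₁ : IsClassFunction ↥(Subgroup.centralizer ({x} : Set G)) η₁)
    (hsupp₁ : ∀ c, p ∣ orderOf c → η₁ c = 0) (hsupp₂ : ∀ c, p ∣ orderOf c → η₂ c = 0) :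
    classInner (liftC x η₁) (liftC x η₂) = classInner η₁ η₂ := by
  rw [classInner_liftC x (isClassFunction_liftC x η₁)]
  unfold classInner
  congr 1
  refine Finset.sum_congr rfl fun c _ => ?_
  by_cases hc : p ∣ orderOf c
  · rw [hsupp₂ c hc, map_zero, mul_zero, mul_zero]
  · show liftC x η₁ (x * (c : G)) * conj (η₂ c) = η₁ c * conj (η₂ c)
    rw [liftC_apply hp hx hη₁ hsupp₁ c hc]

/-- A lift supported on the `p`-regular elements vanishes off the `p`-section. -/
theorem liftC_eq_zero_of_not_isConj {p : ℕ} (hp : p.Prime) {x x' : G}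
    (hx : ∃ k : ℕ, orderOf x = p ^ k) (hx' : ∃ k : ℕ, orderOf x' = p ^ k)
    (hxx' : ¬ IsConj x x')
    {η : ↥(Subgroup.centralizer ({x} : Set G)) → ℂ} (hsupp : ∀ c, p ∣ orderOf c → η c = 0)
    (c' : ↥(Subgroup.centralizer ({x'} : Set G))) (hc' : ¬ p ∣ orderOf c') :
    liftC x η (x' * (c' : G)) = 0 := by
  classical
  unfold liftC
  rw [Finset.sum_eq_zero, mul_zero]
  intro t _
  unfold liftF
  by_cases h : x⁻¹ * (t⁻¹ * (x' * (c' : G)) * t) ∈ Subgroup.centralizer ({x} : Set G)
  · rw [dif_pos h]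
    by_cases hc : p ∣ orderOf (⟨x⁻¹ * (t⁻¹ * (x' * (c' : G)) * t), h⟩ :
        ↥(Subgroup.centralizer ({x} : Set G)))
    · exact hsupp _ hc
    · exfalso
      apply hxx'
      have hcG : ¬ p ∣ orderOf (x⁻¹ * (t⁻¹ * (x' * (c' : G)) * t)) := by
        rw [← Subgroup.orderOf_coe] at hc
        exact hc
      have hcomm : Commute x (x⁻¹ * (t⁻¹ * (x' * (c' : G)) * t)) :=
        Subgroup.mem_centralizer_iff.mp h x (Set.mem_singleton x)
      have P1 : IsPPart p (x * (x⁻¹ * (t⁻¹ * (x' * (c' : G)) * t))) x :=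
        isPPart_mul hx hcomm hcG
      rw [mul_inv_cancel_left] at P1
      have hc'G : ¬ p ∣ orderOf (c' : G) := by rwa [Subgroup.orderOf_coe]
      have P2 := Cfsg.Agent.Lib.Helper16_InducedFusion.isPPart_conj
        (isPPart_mul hx' (commute_of_mem_centralizer c') hc'G) t⁻¹
      rw [inv_inv] at P2
      have hxx : x = t⁻¹ * x' * t :=
        Cfsg.Agent.Lib.Helper78_SecondMainChar.isPPart_unique hp P1 P2
      rw [isConj_comm, isConj_iff]
      exact ⟨t⁻¹, by rw [inv_inv]; exact hxx.symm⟩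
  · rw [dif_neg h]

/-- Lifts from non-conjugate `p`-elements are orthogonal. -/
theorem classInner_liftC_liftC_of_not_isConj {p : ℕ} (hp : p.Prime) {x x' : G}
    [Fintype ↥(Subgroup.centralizer ({x} : Set G))]
    [Fintype ↥(Subgroup.centralizer ({x'} : Set G))]
    (hx : ∃ k : ℕ, orderOf x = p ^ k) (hx' : ∃ k : ℕ, orderOf x' = p ^ k)
    (hxx' : ¬ IsConj x x')
    {η : ↥(Subgroup.centralizer ({x} : Set G)) → ℂ}
    {η' : ↥(Subgroup.centralizer ({x'} : Set G)) → ℂ}
    (hsupp : ∀ c, p ∣ orderOf c → η c = 0) (hsupp' : ∀ c, p ∣ orderOf c → η' c = 0) :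
    classInner (liftC x η) (liftC x' η') = 0 := by
  rw [classInner_liftC x' (isClassFunction_liftC x η)]
  unfold classInner
  rw [Finset.sum_eq_zero, mul_zero]
  intro c' _
  by_cases hc' : p ∣ orderOf c'
  · rw [hsupp' c' hc', map_zero, mul_zero]
  · show liftC x η (x' * (c' : G)) * conj (η' c') = 0
    rw [liftC_eq_zero_of_not_isConj hp hx hx' hxx' hsupp c' hc', zero_mul]

theorem liftF_conj_eq (x t : G) (η' : ↥(Subgroup.centralizer ({t * x * t⁻¹} : Set G)) → ℂ)
    (z : G) : liftF (t * x * t⁻¹) η' z = liftF x (η' ∘ centConj x t) (t⁻¹ * z * t) := by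
  classical
  unfold liftF
  have hiff : x⁻¹ * (t⁻¹ * z * t) ∈ Subgroup.centralizer ({x} : Set G) ↔
      (t * x * t⁻¹)⁻¹ * z ∈ Subgroup.centralizer ({t * x * t⁻¹} : Set G) := by
    constructor
    · intro h
      have := (centConj x t ⟨_, h⟩).2
      rw [centConj_coe] at this
      have h2 : t * (x⁻¹ * (t⁻¹ * z * t)) * t⁻¹ = (t * x * t⁻¹)⁻¹ * z := by group
      rwa [h2] at this
    · intro h
      have := ((centConj x t).symm ⟨_, h⟩).2
      have h3 : (((centConj x t).symm ⟨(t * x * t⁻¹)⁻¹ * z, h⟩ :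
          ↥(Subgroup.centralizer ({x} : Set G))) : G) = t⁻¹ * ((t * x * t⁻¹)⁻¹ * z) * t := rfl
      rw [h3] at this
      have h2 : t⁻¹ * ((t * x * t⁻¹)⁻¹ * z) * t = x⁻¹ * (t⁻¹ * z * t) := by group
      rwa [h2] at this
  by_cases h : (t * x * t⁻¹)⁻¹ * z ∈ Subgroup.centralizer ({t * x * t⁻¹} : Set G)
  · rw [dif_pos h, dif_pos (hiff.mpr h)]
    simp only [Function.comp_apply]
    congr 1
    apply Subtype.ext
    rw [centConj_coe]
    show (t * x * t⁻¹)⁻¹ * z = t * (x⁻¹ * (t⁻¹ * z * t)) * t⁻¹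
    group
  · rw [dif_neg h, dif_neg (fun h' => h (hiff.mp h'))]

/-- **Transport of lifts** along conjugation. -/
theorem liftC_conj (x t : G) (η' : ↥(Subgroup.centralizer ({t * x * t⁻¹} : Set G)) → ℂ) :
    liftC (t * x * t⁻¹) η' = liftC x (η' ∘ centConj x t) := by
  funext y
  unfold liftC
  rw [card_centralizer_conj]
  congr 1
  rw [← Equiv.sum_comp (Equiv.mulRight t⁻¹)]
  refine Finset.sum_congr rfl fun s _ => ?_
  simp only [Equiv.coe_mulRight]
  rw [liftF_conj_eq]
  congr 1
  group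

end Cfsg.Agent.Lib.Helper82_LiftInner
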