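import Mathlib
import Cfsg.Agent.Lib.Helper82_LiftInner
import Cfsg.Agent.Lib.Helper82_SubsecClaim
import Cfsg.Agent.Lib.Helper82_BrauerCountElems
import Cfsg.Agent.Lib.Helper57_PRegInt
import Cfsg.Agent.Lib.Helper57_BrauerFeit
import Cfsg.Agent.Lib.Helper57_Contribution
import Cfsg.Agent.Lib.Helper57_Subsection
import Cfsg.Agent.Lib.Helper57_ContribMatrix
import Cfsg.Agent.Lib.Helper57_IndBlock
import Cfsg.Agent.Lib.Helper3_CharOrtho
import Cfsg.Agent.Lib.Helper3_CharBridge
import Cfsg.Agent.Lib.Helper75_Clifford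
import Cfsg.Agent.Lib.Helper78_LocalRing
import Cfsg.Agent.Lib.Helper78_Transport
import Cfsg.Agent.Lib.Helper78_TransportBlocks

/-!
# The class functions attached to subsections (helper82)

For a `p`-element `x`, a block `β` of `C_G(x)` and `χ ∈ Irr(G)` put
`thetaB p x β χ = (β-part of (c ↦ χ (x c)))°` and `vfun p x β χ = liftC x (thetaB p x β χ)`.

* `classInner_vfun_left`: `[χ, vfun] = ∑_{η ∈ β} |a(χ, η)|²`;
* `classInner_vfun_self`: `[vfun, vfun] = ∑_{η ∈ β} |a(χ, η)|²`;
* `classInner_vfun_of_disjoint`: the functions of two different blocks of `C_G(x)` are orthogonal;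
* `classInner_vfun_of_not_isConj`: the functions of non-conjugate `p`-elements are orthogonal;
* `vfun_conj`: `vfun (g x g⁻¹) β' χ = vfun x (mapBlock (centConj x g) β') χ`.
-/

set_option autoImplicit false
set_option linter.unusedSectionVars false

namespace Cfsg.Agent.Lib.Helper82_CentralSubsec

open Cfsg
open scoped ComplexConjugate
open Cfsg.Agent.Lib.Helper3_CharBridge Cfsg.Agent.Lib.Helper3_CharOrtho Cfsg.Agent.Lib.Helper57_PRegInt
  Cfsg.Agent.Lib.Helper57_BrauerFeit Cfsg.Agent.Lib.Helper57_Contribution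
  Cfsg.Agent.Lib.Helper57_Subsection Cfsg.Agent.Lib.Helper57_ContribMatrix
  Cfsg.Agent.Lib.Helper57_IndBlock
  Cfsg.Agent.Lib.Helper78_LocalRing Cfsg.Agent.Lib.Helper78_Transport
  Cfsg.Agent.Lib.Helper78_TransportBlocks
  Cfsg.Agent.Lib.Helper82_SubsecClaim Cfsg.Agent.Lib.Helper82_BrauerCountElems
  Cfsg.Agent.Lib.Helper82_LiftInner

universe u

section General

variable {K : Type*} [Group K] [Fintype K]

theorem blockPart_eq_sum_smul (e : Set (IrrCharacter K)) (α : K → ℂ) :
    blockPart e α = ∑ ψ ∈ bset e, classInner α (ψ : K → ℂ) • (ψ : K → ℂ) := by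
  funext s
  rw [blockPart_apply, Finset.sum_apply]
  rfl

theorem classInner_blockPart_of_not_mem {e : Set (IrrCharacter K)} (α : K → ℂ)
    {η : IrrCharacter K} (hη : η ∉ e) : classInner (blockPart e α) (η : K → ℂ) = 0 := by
  classical
  rw [blockPart_eq_sum_smul, classInner_sum_left]
  refine Finset.sum_eq_zero fun ψ hψ => ?_
  rw [classInner_smul_left, classInner_irr ψ.2 η.2, if_neg, mul_zero]
  intro h
  have : ψ = η := Subtype.ext h
  rw [this] at hψ
  exact hη (mem_bset.mp hψ)

theorem classInner_blockPart_blockPart (e₁ e₂ : Set (IrrCharacter K)) (α α' : K → ℂ) :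
    classInner (blockPart e₁ α) (blockPart e₂ α') =
      ∑ ψ ∈ bset e₂, (by classical exact if ψ ∈ e₁ then classInner α (ψ : K → ℂ) else 0) *
        conj (classInner α' (ψ : K → ℂ)) := by
  classical
  rw [blockPart_eq_sum_smul e₂ α', classInner_sum_right]
  refine Finset.sum_congr rfl fun ψ _ => ?_
  rw [classInner_smul_right]
  by_cases h : ψ ∈ e₁
  · rw [if_pos h, classInner_blockPart α h, mul_comm]
  · rw [if_neg h, classInner_blockPart_of_not_mem α h, mul_zero, zero_mul]

theorem blockPart_isClassFunction (e : Set (IrrCharacter K)) (α : K → ℂ) :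
    IsClassFunction K (blockPart e α) := by
  intro g h
  rw [blockPart_apply, blockPart_apply]
  refine Finset.sum_congr rfl fun ψ _ => ?_
  rw [isClassFunction_of_isIrrCharacter ψ.2 g h]

theorem regPart_comp_equiv {L : Type*} [Group L] (p : ℕ) (φ : K ≃* L) (α : L → ℂ) :
    regPart p α ∘ φ = regPart p (α ∘ φ) := by
  funext k
  have ho : orderOf (φ k) = orderOf k := MulEquiv.orderOf_eq φ k
  unfold regPart
  simp only [Function.comp_apply, ho]

theorem bset_mapBlock {L : Type*} [Group L] [Fintype L] (φ : K ≃* L)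
    (e : Set (IrrCharacter L)) [DecidableEq (IrrCharacter K)] :
    bset (mapBlock φ e) = (bset e).image (irrComp φ) := by
  ext ξ
  rw [mem_bset, Finset.mem_image]
  constructor
  · rintro ⟨χ, hχ, rfl⟩
    exact ⟨χ, mem_bset.mpr hχ, rfl⟩
  · rintro ⟨χ, hχ, rfl⟩
    exact ⟨χ, mem_bset.mp hχ, rfl⟩

theorem blockPart_comp_equiv {L : Type*} [Group L] [Fintype L] (φ : K ≃* L)
    (e : Set (IrrCharacter L)) (α : L → ℂ) :
    blockPart e α ∘ φ = blockPart (mapBlock φ e) (α ∘ φ) := by
  classical
  funext k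
  rw [Function.comp_apply, blockPart_apply, blockPart_apply, bset_mapBlock,
    Finset.sum_image (fun a _ b _ hab => irrComp_injective φ hab)]
  refine Finset.sum_congr rfl fun ψ _ => ?_
  rw [irrComp_apply]
  congr 1
  exact (Cfsg.Agent.Lib.Helper75_Clifford.classInner_comp_equiv φ α (ψ : L → ℂ)).symm

end General

section Main

variable {G : Type u} [Group G] [Fintype G]

/-- The `β`-part of the `p`-regular truncation of `c ↦ χ (x c)`. -/
noncomputable def thetaB (p : ℕ) (x : G) [Fintype ↥(Subgroup.centralizer ({x} : Set G))]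
    (β : Set (IrrCharacter ↥(Subgroup.centralizer ({x} : Set G)))) (χ : IrrCharacter G) :
    ↥(Subgroup.centralizer ({x} : Set G)) → ℂ :=
  blockPart β (regPart p (theta (Subgroup.centralizer ({x} : Set G)) x χ))

/-- The class function of `G` attached to the subsection `(x, β)` and `χ`. -/
noncomputable def vfun (p : ℕ) (x : G) [Fintype ↥(Subgroup.centralizer ({x} : Set G))]
    (β : Set (IrrCharacter ↥(Subgroup.centralizer ({x} : Set G)))) (χ : IrrCharacter G) :
    G → ℂ :=
  liftC x (thetaB p x β χ)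

/-- The diagonal contribution of the subsection `(x, β)` at `χ`. -/
noncomputable def mmS (p : ℕ) (x : G) [Fintype ↥(Subgroup.centralizer ({x} : Set G))]
    (β : Set (IrrCharacter ↥(Subgroup.centralizer ({x} : Set G)))) (χ : IrrCharacter G) : ℝ :=
  ∑ η ∈ bset β, Complex.normSq (acoef p (Subgroup.centralizer ({x} : Set G)) x χ η)

variable {p : ℕ} [Fact p.Prime] {M : Ideal AlgInt}

theorem mmS_nonneg (x : G) [Fintype ↥(Subgroup.centralizer ({x} : Set G))]
    (β : Set (IrrCharacter ↥(Subgroup.centralizer ({x} : Set G)))) (χ : IrrCharacter G) :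
    0 ≤ mmS p x β χ :=
  Finset.sum_nonneg fun _ _ => Complex.normSq_nonneg _

theorem thetaB_isClassFunction (x : G) [Fintype ↥(Subgroup.centralizer ({x} : Set G))]
    (β : Set (IrrCharacter ↥(Subgroup.centralizer ({x} : Set G)))) (χ : IrrCharacter G) :
    IsClassFunction ↥(Subgroup.centralizer ({x} : Set G)) (thetaB p x β χ) :=
  blockPart_isClassFunction _ _

theorem thetaB_supp (hM : IsPModular p M) (x : G)
    [Fintype ↥(Subgroup.centralizer ({x} : Set G))]
    {β : Set (IrrCharacter ↥(Subgroup.centralizer ({x} : Set G)))} (hβ : IsPBlock M β)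
    (χ : IrrCharacter G) (c : ↥(Subgroup.centralizer ({x} : Set G))) (hc : p ∣ orderOf c) :
    thetaB p x β χ c = 0 := by
  unfold thetaB
  rw [blockPart_regPart hM hβ, regPart_of_dvd _ hc]

theorem classInner_thetaB_thetaB (x : G) [Fintype ↥(Subgroup.centralizer ({x} : Set G))]
    (β₁ β₂ : Set (IrrCharacter ↥(Subgroup.centralizer ({x} : Set G)))) (χ : IrrCharacter G) :
    classInner (thetaB p x β₁ χ) (thetaB p x β₂ χ) =
      ∑ η ∈ bset β₂, (by classical exact
        if η ∈ β₁ then (Complex.normSq (acoef p (Subgroup.centralizer ({x} : Set G)) x χ η) : ℂ)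
        else 0) := by
  classical
  unfold thetaB
  rw [classInner_blockPart_blockPart]
  refine Finset.sum_congr rfl fun η _ => ?_
  by_cases h : η ∈ β₁
  · rw [if_pos h, if_pos h, Complex.mul_conj]
    rfl
  · rw [if_neg h, if_neg h, zero_mul]

theorem classInner_thetaB_self (x : G) [Fintype ↥(Subgroup.centralizer ({x} : Set G))]
    (β : Set (IrrCharacter ↥(Subgroup.centralizer ({x} : Set G)))) (χ : IrrCharacter G) :
    classInner (thetaB p x β χ) (thetaB p x β χ) = (mmS p x β χ : ℂ) := by
  classical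
  rw [classInner_thetaB_thetaB]
  unfold mmS
  push_cast
  refine Finset.sum_congr rfl fun η hη => ?_
  rw [if_pos (mem_bset.mp hη)]

theorem classInner_thetaB_of_disjoint (x : G) [Fintype ↥(Subgroup.centralizer ({x} : Set G))]
    (β₁ β₂ : Set (IrrCharacter ↥(Subgroup.centralizer ({x} : Set G))))
    (hdisj : ∀ η, η ∈ β₁ → η ∈ β₂ → False) (χ : IrrCharacter G) :
    classInner (thetaB p x β₁ χ) (thetaB p x β₂ χ) = 0 := by
  classical
  rw [classInner_thetaB_thetaB]
  refine Finset.sum_eq_zero fun η hη => ?_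
  rw [if_neg]
  intro h
  exact hdisj η h (mem_bset.mp hη)

/-- `[vfun, vfun] = ∑_{η ∈ β} |a(χ, η)|²`. -/
theorem classInner_vfun_self (hM : IsPModular p M) {x : G}
    [Fintype ↥(Subgroup.centralizer ({x} : Set G))] (hx : ∃ k : ℕ, orderOf x = p ^ k)
    {β : Set (IrrCharacter ↥(Subgroup.centralizer ({x} : Set G)))} (hβ : IsPBlock M β)
    (χ : IrrCharacter G) :
    classInner (vfun p x β χ) (vfun p x β χ) = (mmS p x β χ : ℂ) := by
  unfold vfun
  rw [classInner_liftC_liftC (Fact.out : p.Prime) hx (thetaB_isClassFunction x β χ)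
    (thetaB_supp hM x hβ χ) (thetaB_supp hM x hβ χ), classInner_thetaB_self]

/-- Different blocks of `C_G(x)` give orthogonal class functions. -/
theorem classInner_vfun_of_disjoint (hM : IsPModular p M) {x : G}
    [Fintype ↥(Subgroup.centralizer ({x} : Set G))] (hx : ∃ k : ℕ, orderOf x = p ^ k)
    {β₁ β₂ : Set (IrrCharacter ↥(Subgroup.centralizer ({x} : Set G)))} (hβ₁ : IsPBlock M β₁)
    (hβ₂ : IsPBlock M β₂) (hne : β₁ ≠ β₂) (χ : IrrCharacter G) :
    classInner (vfun p x β₁ χ) (vfun p x β₂ χ) = 0 := by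
  unfold vfun
  rw [classInner_liftC_liftC (Fact.out : p.Prime) hx (thetaB_isClassFunction x β₁ χ)
    (thetaB_supp hM x hβ₁ χ) (thetaB_supp hM x hβ₂ χ)]
  refine classInner_thetaB_of_disjoint x β₁ β₂ (fun η h1 h2 => hne ?_) χ
  exact isPBlock_eq_of_mem_of_mem (isPrime_of_isPModular hM) hβ₁ hβ₂ h1 h2

/-- Non-conjugate `p`-elements give orthogonal class functions. -/
theorem classInner_vfun_of_not_isConj (hM : IsPModular p M) {x x' : G}
    [Fintype ↥(Subgroup.centralizer ({x} : Set G))]
    [Fintype ↥(Subgroup.centralizer ({x'} : Set G))]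
    (hx : ∃ k : ℕ, orderOf x = p ^ k) (hx' : ∃ k : ℕ, orderOf x' = p ^ k)
    (hxx' : ¬ IsConj x x')
    {β : Set (IrrCharacter ↥(Subgroup.centralizer ({x} : Set G)))} (hβ : IsPBlock M β)
    {β' : Set (IrrCharacter ↥(Subgroup.centralizer ({x'} : Set G)))} (hβ' : IsPBlock M β')
    (χ : IrrCharacter G) :
    classInner (vfun p x β χ) (vfun p x' β' χ) = 0 := by
  unfold vfun
  exact classInner_liftC_liftC_of_not_isConj (Fact.out : p.Prime) hx hx' hxx'
    (thetaB_supp hM x hβ χ) (thetaB_supp hM x' hβ' χ)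

/-- `[χ, vfun] = ∑_{η ∈ β} |a(χ, η)|²`. -/
theorem classInner_vfun_left (hM : IsPModular p M) {x : G}
    [Fintype ↥(Subgroup.centralizer ({x} : Set G))]
    {β : Set (IrrCharacter ↥(Subgroup.centralizer ({x} : Set G)))} (hβ : IsPBlock M β)
    (χ : IrrCharacter G) :
    classInner (χ : G → ℂ) (vfun p x β χ) = (mmS p x β χ : ℂ) := by
  classical
  unfold vfun
  rw [classInner_liftC x (isClassFunction_of_isIrrCharacter χ.2)]
  have h1 : (fun c : ↥(Subgroup.centralizer ({x} : Set G)) => (χ : G → ℂ) (x * (c : G))) =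
      theta (Subgroup.centralizer ({x} : Set G)) x χ := rfl
  rw [h1]
  -- replace `theta` by its regular part
  have h2 : classInner (theta (Subgroup.centralizer ({x} : Set G)) x χ) (thetaB p x β χ) =
      classInner (regPart p (theta (Subgroup.centralizer ({x} : Set G)) x χ))
        (thetaB p x β χ) := by
    unfold classInner
    congr 1
    refine Finset.sum_congr rfl fun c _ => ?_
    by_cases hc : p ∣ orderOf c
    · rw [thetaB_supp hM x hβ χ c hc, map_zero, mul_zero, mul_zero]
    · rw [regPart_of_not_dvd _ hc]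
  rw [h2]
  unfold thetaB
  rw [blockPart_eq_sum_smul, classInner_sum_right]
  unfold mmS
  push_cast
  refine Finset.sum_congr rfl fun η _ => ?_
  rw [classInner_smul_right, mul_comm, Complex.mul_conj]
  rfl

/-- Conjugating the subsection. -/
theorem vfun_conj (x g : G) [Fintype ↥(Subgroup.centralizer ({x} : Set G))]
    [Fintype ↥(Subgroup.centralizer ({g * x * g⁻¹} : Set G))]
    (β' : Set (IrrCharacter ↥(Subgroup.centralizer ({g * x * g⁻¹} : Set G))))
    (χ : IrrCharacter G) :
    vfun p (g * x * g⁻¹) β' χ = vfun p x (mapBlock (centConj x g) β') χ := by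
  unfold vfun
  rw [liftC_conj]
  congr 1
  unfold thetaB
  rw [blockPart_comp_equiv, regPart_comp_equiv]
  congr 2
  funext c
  show (χ : G → ℂ) (g * x * g⁻¹ * ((centConj x g c : _) : G)) = (χ : G → ℂ) (x * (c : G))
  rw [centConj_coe]
  have : g * x * g⁻¹ * (g * (c : G) * g⁻¹) = g * (x * (c : G)) * g⁻¹ := by group
  rw [this, isClassFunction_of_isIrrCharacter χ.2]

end Main

end Cfsg.Agent.Lib.Helper82_CentralSubsec
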