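import Mathlib

/-!
# A sign-reversing involution on normal chains of `p`-subgroups stabilized by a `p`-element (helper82)

Let `x ≠ 1` be a `p`-element of the finite group `G`.  On the set of (possibly empty) chains
`σ = (Q₀ < ⋯ < Q_m)` of nontrivial `p`-subgroups, all normal in the largest one and all normalized
by `x`, we build an involution `σ ↦ σ △ {R σ}` changing the length by one and preserving
`C_G(x) ∩ N_G(σ)`.  Consequently every function of `C_G(x) ∩ N_G(σ)` has vanishing alternating sum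
over these chains (`sum_chains_eq_zero`).
-/

set_option autoImplicit false
set_option linter.unusedSectionVars false

namespace Cfsg.Agent.Lib.Helper82_ChainInvolution

variable {G : Type*} [Group G]

/-! ### Normalizers -/

theorem mem_normalizer_sup {H K : Subgroup G} {g : G}
    (hH : g ∈ Subgroup.normalizer (H : Set G)) (hK : g ∈ Subgroup.normalizer (K : Set G)) :
    g ∈ Subgroup.normalizer ((H ⊔ K : Subgroup G) : Set G) := by
  rw [Subgroup.mem_normalizer_iff_map_conj_eq] at hH hK ⊢
  rw [Subgroup.map_sup, hH, hK]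

theorem le_normalizer_sup {T H K : Subgroup G}
    (hH : T ≤ Subgroup.normalizer (H : Set G)) (hK : T ≤ Subgroup.normalizer (K : Set G)) :
    T ≤ Subgroup.normalizer ((H ⊔ K : Subgroup G) : Set G) :=
  fun _ ht => mem_normalizer_sup (hH ht) (hK ht)

theorem mem_normalizer_bot (g : G) : g ∈ Subgroup.normalizer ((⊥ : Subgroup G) : Set G) := by
  rw [Subgroup.mem_normalizer_iff_map_conj_eq, Subgroup.map_bot]

/-- The set of conjugates of `x` by the elements of `T`. -/
def conjSet (T : Subgroup G) (x : G) : Set G := {y | ∃ t ∈ T, y = t * x * t⁻¹}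

theorem self_mem_conjSet (T : Subgroup G) (x : G) : x ∈ conjSet T x :=
  ⟨1, T.one_mem, by simp⟩

theorem conjSet_mono {T T' : Subgroup G} (h : T ≤ T') (x : G) : conjSet T x ⊆ conjSet T' x := by
  rintro y ⟨t, ht, rfl⟩
  exact ⟨t, h ht, rfl⟩

/-- The subgroup generated by the `T`-conjugates of `x`. -/
def ncl (T : Subgroup G) (x : G) : Subgroup G := Subgroup.closure (conjSet T x)

theorem self_mem_ncl (T : Subgroup G) (x : G) : x ∈ ncl T x :=
  Subgroup.subset_closure (self_mem_conjSet T x)

theorem ncl_mono {T T' : Subgroup G} (h : T ≤ T') (x : G) : ncl T x ≤ ncl T' x :=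
  Subgroup.closure_mono (conjSet_mono h x)

theorem ncl_le {T K : Subgroup G} {x : G} (hx : x ∈ K)
    (hTK : T ≤ Subgroup.normalizer (K : Set G)) : ncl T x ≤ K := by
  unfold ncl
  rw [Subgroup.closure_le]
  rintro y ⟨t, ht, rfl⟩
  exact ((Subgroup.mem_normalizer_iff.mp (hTK ht)) x).mp hx

theorem zpowers_le_ncl (T : Subgroup G) (x : G) : Subgroup.zpowers x ≤ ncl T x := by
  rw [Subgroup.zpowers_le]
  exact self_mem_ncl T x

theorem le_normalizer_ncl (T : Subgroup G) (x : G) :
    T ≤ Subgroup.normalizer ((ncl T x : Subgroup G) : Set G) := by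
  unfold ncl
  rw [Subgroup.le_normalizer_closure_iff]
  rintro h hh _ ⟨t, ht, rfl⟩
  apply Subgroup.subset_closure
  exact ⟨h * t, T.mul_mem hh ht, by group⟩

theorem mem_normalizer_ncl {T : Subgroup G} {x g : G}
    (hg : g ∈ Subgroup.normalizer (T : Set G)) (hgx : g * x = x * g) :
    g ∈ Subgroup.normalizer ((ncl T x : Subgroup G) : Set G) := by
  have h1 : Subgroup.zpowers g ≤ Subgroup.normalizer ((ncl T x : Subgroup G) : Set G) := by
    unfold ncl
    rw [Subgroup.le_normalizer_closure_iff]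
    intro h hh
    have hhT : h ∈ Subgroup.normalizer (T : Set G) :=
      (Subgroup.zpowers_le.mpr hg) hh
    have hhx : h * x = x * h := by
      obtain ⟨n, rfl⟩ := Subgroup.mem_zpowers_iff.mp hh
      have : Commute g x := hgx
      exact (this.zpow_left n).eq
    rintro _ ⟨t, ht, rfl⟩
    apply Subgroup.subset_closure
    refine ⟨h * t * h⁻¹, ((Subgroup.mem_normalizer_iff.mp hhT) t).mp ht, ?_⟩
    have hx' : h * x * h⁻¹ = x := by rw [hhx]; group
    calc h * (t * x * t⁻¹) * h⁻¹ = (h * t * h⁻¹) * (h * x * h⁻¹) * (h * t * h⁻¹)⁻¹ := by group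
      _ = h * t * h⁻¹ * x * (h * t * h⁻¹)⁻¹ := by rw [hx']
  exact h1 (Subgroup.mem_zpowers g)

theorem mem_normalizer_zpowers {x g : G} (hgx : g * x = x * g) :
    g ∈ Subgroup.normalizer ((Subgroup.zpowers x : Subgroup G) : Set G) := by
  rw [Subgroup.mem_normalizer_iff]
  intro h
  constructor
  · intro hh
    obtain ⟨n, rfl⟩ := Subgroup.mem_zpowers_iff.mp hh
    have : Commute g (x ^ n) := (show Commute g x from hgx).zpow_right n
    have h2 : g * x ^ n * g⁻¹ = x ^ n := by rw [this.eq]; group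
    rw [h2]
    exact Subgroup.zpow_mem_zpowers x n
  · intro hh
    obtain ⟨n, hn⟩ := Subgroup.mem_zpowers_iff.mp hh
    have hc : Commute g (x ^ n) := (show Commute g x from hgx).zpow_right n
    have h2 : h = x ^ n := by
      have h4 : h = g⁻¹ * (g * h * g⁻¹) * g := by group
      rw [h4, ← hn]
      have h5 := hc.eq
      calc g⁻¹ * x ^ n * g = g⁻¹ * (x ^ n * g) := by group
        _ = g⁻¹ * (g * x ^ n) := by rw [h5]
        _ = x ^ n := by group
    rw [h2]
    exact Subgroup.zpow_mem_zpowers x n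

/-! ### Finite `p`-groups -/

theorem card_lt_of_lt [Finite G] {B T : Subgroup G} (h : B < T) : Nat.card B < Nat.card T := by
  refine lt_of_le_of_ne (Subgroup.card_le_of_le h.le) ?_
  intro he
  exact absurd (Subgroup.eq_of_le_of_card_ge h.le he.ge) h.ne

/-- In a finite `p`-group, a proper subgroup has a strictly larger normalizer. -/
theorem exists_mem_normalizer_not_mem [Finite G] {p : ℕ} [Fact p.Prime] {T B : Subgroup G}
    (hT : IsPGroup p T) (hBT : B < T) :
    ∃ g ∈ T, g ∈ Subgroup.normalizer (B : Set G) ∧ g ∉ B := by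
  have hnil : Group.IsNilpotent T := hT.isNilpotent
  have hlt : B.subgroupOf T < ⊤ := by
    rw [lt_top_iff_ne_top, Ne, Subgroup.subgroupOf_eq_top]
    exact not_le_of_gt hBT
  have h1 := Group.normalizerCondition_of_isNilpotent (G := T) (B.subgroupOf T) hlt
  rw [← Subgroup.subgroupOf_normalizer_eq hBT.le] at h1
  obtain ⟨t, ht, htB⟩ := SetLike.exists_of_lt h1
  exact ⟨t, t.2, Subgroup.mem_subgroupOf.mp ht, fun h => htB (Subgroup.mem_subgroupOf.mpr h)⟩

/-- In a finite `p`-group `T`, every proper subgroup lies in a proper subgroup normalized by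
`T`. -/
theorem exists_normal_proper [Finite G] {p : ℕ} [Fact p.Prime] {T : Subgroup G}
    (hT : IsPGroup p T) : ∀ (n : ℕ) (B : Subgroup G), B < T → Nat.card T - Nat.card B ≤ n →
    ∃ K : Subgroup G, B ≤ K ∧ K < T ∧ T ≤ Subgroup.normalizer (K : Set G) := by
  intro n
  induction n with
  | zero =>
    intro B hBT hn
    exfalso
    have := card_lt_of_lt hBT
    omega
  | succ n ih =>
    intro B hBT hn
    obtain ⟨g, hgT, hgN, hgB⟩ := exists_mem_normalizer_not_mem hT hBT
    set B₁ : Subgroup G := T ⊓ Subgroup.normalizer (B : Set G) with hB₁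
    have hBB₁ : B < B₁ := by
      refine lt_of_le_of_ne (le_inf hBT.le Subgroup.le_normalizer) ?_
      intro h
      apply hgB
      rw [h]
      exact ⟨hgT, hgN⟩
    by_cases hB₁T : B₁ = T
    · refine ⟨B, le_rfl, hBT, ?_⟩
      rw [← hB₁T]
      exact inf_le_right
    · have hlt : B₁ < T := lt_of_le_of_ne inf_le_left hB₁T
      have hc := card_lt_of_lt hBB₁
      obtain ⟨K, hK1, hK2, hK3⟩ := ih B₁ hlt (by omega)
      exact ⟨K, hBB₁.le.trans hK1, hK2, hK3⟩

/-- **Frattini-type lemma.** If the finite `p`-group `T` is generated by a subgroup `A` normalized by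
`T` together with the `T`-conjugates of `x ∈ T`, then `T = A⟨x⟩`. -/
theorem eq_sup_zpowers_of_eq_sup_ncl [Finite G] {p : ℕ} [Fact p.Prime] {T A : Subgroup G}
    (hT : IsPGroup p T) {x : G} (hxT : x ∈ T) (hAT : A ≤ T) (h : T = A ⊔ ncl T x) :
    T = A ⊔ Subgroup.zpowers x := by
  by_contra hne
  have hle : A ⊔ Subgroup.zpowers x ≤ T := sup_le hAT (Subgroup.zpowers_le.mpr hxT)
  have hlt : A ⊔ Subgroup.zpowers x < T := lt_of_le_of_ne hle (fun h' => hne h'.symm)
  obtain ⟨K, hK1, hK2, hK3⟩ := exists_normal_proper hT _ _ hlt le_rfl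
  have hxK : x ∈ K := hK1 (le_sup_right (a := A) (Subgroup.mem_zpowers x))
  have h2 : T ≤ K := by
    rw [h]
    exact sup_le (le_sup_left.trans hK1) (ncl_le hxK hK3)
  exact absurd hK2 (not_lt_of_ge h2)

/-! ### Chains -/

/-- A finset of subgroups totally ordered by inclusion. -/
def IsCh (s : Finset (Subgroup G)) : Prop := ∀ Q ∈ s, ∀ R ∈ s, Q ≤ R ∨ R ≤ Q

theorem IsCh.mono {s t : Finset (Subgroup G)} (h : IsCh s) (hts : t ⊆ s) : IsCh t :=
  fun Q hQ R hR => h Q (hts hQ) R (hts hR)

/-- The largest member of a nonempty chain is its supremum. -/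
theorem sup_mem_of_isCh [DecidableEq (Subgroup G)] :
    ∀ (s : Finset (Subgroup G)), IsCh s → s.Nonempty → s.sup id ∈ s := by
  intro s
  induction s using Finset.induction_on with
  | empty => intro _ h; exact absurd h Finset.not_nonempty_empty
  | insert a t hat ih =>
    intro hch _
    rw [Finset.sup_insert, id]
    by_cases ht : t.Nonempty
    · have hmem := ih (hch.mono (Finset.subset_insert a t)) ht
      rcases hch a (Finset.mem_insert_self a t) _ (Finset.mem_insert_of_mem hmem) with h | h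
      · rw [sup_eq_right.mpr h]
        exact Finset.mem_insert_of_mem hmem
      · rw [sup_eq_left.mpr h]
        exact Finset.mem_insert_self a t
    · rw [Finset.not_nonempty_iff_eq_empty] at ht
      subst ht
      simp

/-- The stabilizer of a chain: the intersection of the normalizers of its members. -/
def stab (s : Finset (Subgroup G)) : Subgroup G :=
  ⨅ Q ∈ s, Subgroup.normalizer ((Q : Subgroup G) : Set G)

theorem mem_stab {s : Finset (Subgroup G)} {g : G} :
    g ∈ stab s ↔ ∀ Q ∈ s, g ∈ Subgroup.normalizer ((Q : Subgroup G) : Set G) := by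
  unfold stab
  simp only [Subgroup.mem_iInf]

theorem stab_empty : stab (∅ : Finset (Subgroup G)) = ⊤ := by
  ext g
  rw [mem_stab]
  simp

/-- The largest member of a chain (`⊥` for the empty chain). -/
def top (s : Finset (Subgroup G)) : Subgroup G := s.sup id

theorem le_top_of_mem {s : Finset (Subgroup G)} {Q : Subgroup G} (hQ : Q ∈ s) : Q ≤ top s :=
  Finset.le_sup (f := id) hQ

theorem top_mem {s : Finset (Subgroup G)} (hs : IsCh s) (hne : s.Nonempty) : top s ∈ s := by
  classical
  exact sup_mem_of_isCh s hs hne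

theorem top_eq_bot_or_mem {s : Finset (Subgroup G)} (hs : IsCh s) : top s = ⊥ ∨ top s ∈ s := by
  rcases s.eq_empty_or_nonempty with h | h
  · left
    rw [h]
    rfl
  · exact Or.inr (top_mem hs h)

/-- The members of the chain not containing `x`. -/
def lowS (x : G) (s : Finset (Subgroup G)) : Set (Subgroup G) := {Q | Q ∈ s ∧ x ∉ Q}

/-- The largest member of the chain not containing `x` (`⊥` if there is none). -/
def QA (x : G) (s : Finset (Subgroup G)) : Subgroup G := sSup (lowS x s)

theorem le_QA {x : G} {s : Finset (Subgroup G)} {Q : Subgroup G} (hQ : Q ∈ s) (hx : x ∉ Q) :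
    Q ≤ QA x s := le_sSup ⟨hQ, hx⟩

theorem QA_eq_bot_or_mem {x : G} {s : Finset (Subgroup G)} (hs : IsCh s) :
    QA x s = ⊥ ∨ (QA x s ∈ s ∧ x ∉ QA x s) := by
  classical
  have h1 : lowS x s = ↑(s.filter (fun Q => x ∉ Q)) := by
    ext Q
    simp [lowS]
  have h2 : QA x s = (s.filter (fun Q => x ∉ Q)).sup id := by
    unfold QA
    rw [h1, Finset.sup_id_eq_sSup]
  rcases (s.filter (fun Q => x ∉ Q)).eq_empty_or_nonempty with h | h
  · left
    rw [h2, h]
    rfl
  · right
    have hch : IsCh (s.filter (fun Q => x ∉ Q)) := hs.mono (Finset.filter_subset _ _)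
    have := sup_mem_of_isCh _ hch h
    rw [← h2, Finset.mem_filter] at this
    exact this

theorem QA_le_of_mem {x : G} {s : Finset (Subgroup G)} (hs : IsCh s) {Q : Subgroup G}
    (hQ : Q ∈ s) (hx : x ∈ Q) : QA x s ≤ Q := by
  apply sSup_le
  rintro Q' ⟨hQ', hx'⟩
  rcases hs Q' hQ' Q hQ with h | h
  · exact h
  · exact absurd (h hx) hx'

theorem QA_le_top (x : G) (s : Finset (Subgroup G)) : QA x s ≤ top s := by
  apply sSup_le
  rintro Q ⟨hQ, -⟩
  exact le_top_of_mem hQ

/-- The subgroup inserted into or deleted from the chain. -/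
def RR (x : G) (s : Finset (Subgroup G)) : Subgroup G := QA x s ⊔ ncl (top s) x

theorem mem_RR (x : G) (s : Finset (Subgroup G)) : x ∈ RR x s :=
  (le_sup_right : ncl (top s) x ≤ RR x s) (self_mem_ncl _ x)

/-- The chains under consideration: totally ordered finsets of nontrivial `p`-subgroups, all
normalized by the largest member and by `x`. -/
def Dom (p : ℕ) (x : G) (s : Finset (Subgroup G)) : Prop :=
  IsCh s ∧ (∀ Q ∈ s, Q ≠ ⊥ ∧ IsPGroup p Q) ∧
    (∀ Q ∈ s, top s ≤ Subgroup.normalizer ((Q : Subgroup G) : Set G)) ∧ x ∈ stab s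

open Classical in
/-- The involution. -/
noncomputable def psi (x : G) (s : Finset (Subgroup G)) : Finset (Subgroup G) :=
  if RR x s ∈ s then s.erase (RR x s) else insert (RR x s) s

section main

variable [Finite G] {p : ℕ} [Fact p.Prime] {x : G} {s : Finset (Subgroup G)}

theorem isPGroup_top (hD : Dom p x s) : IsPGroup p (top s) := by
  rcases top_eq_bot_or_mem hD.1 with h | h
  · rw [h]; exact IsPGroup.of_bot
  · exact (hD.2.1 _ h).2

theorem x_mem_normalizer_top (hD : Dom p x s) :
    x ∈ Subgroup.normalizer ((top s : Subgroup G) : Set G) := by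
  rcases top_eq_bot_or_mem hD.1 with h | h
  · rw [h]; exact mem_normalizer_bot x
  · exact mem_stab.mp hD.2.2.2 _ h

theorem x_not_mem_QA (hx1 : x ≠ 1) (hD : Dom p x s) : x ∉ QA x s := by
  rcases QA_eq_bot_or_mem (x := x) hD.1 with h | h
  · rw [h, Subgroup.mem_bot]; exact hx1
  · exact h.2

theorem top_le_normalizer_QA (hD : Dom p x s) :
    top s ≤ Subgroup.normalizer ((QA x s : Subgroup G) : Set G) := by
  rcases QA_eq_bot_or_mem (x := x) hD.1 with h | h
  · rw [h]; exact fun g _ => mem_normalizer_bot g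
  · exact hD.2.2.1 _ h.1

theorem isPGroup_QA (hD : Dom p x s) : IsPGroup p (QA x s) :=
  (isPGroup_top hD).to_le (QA_le_top x s)

theorem isPGroup_Tp (hx : IsPGroup p (Subgroup.zpowers x)) (hD : Dom p x s) :
    IsPGroup p ((top s ⊔ Subgroup.zpowers x : Subgroup G)) :=
  IsPGroup.to_sup_of_normal_left' (isPGroup_top hD) hx
    (Subgroup.zpowers_le.mpr (x_mem_normalizer_top hD))

theorem RR_le_Tp (x : G) (s : Finset (Subgroup G)) : RR x s ≤ top s ⊔ Subgroup.zpowers x := by
  refine sup_le ((QA_le_top x s).trans le_sup_left) ?_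
  refine ncl_le ((le_sup_right : Subgroup.zpowers x ≤ _) (Subgroup.mem_zpowers x)) ?_
  exact le_sup_left.trans Subgroup.le_normalizer

theorem isPGroup_RR (hx : IsPGroup p (Subgroup.zpowers x)) (hD : Dom p x s) :
    IsPGroup p (RR x s) := (isPGroup_Tp hx hD).to_le (RR_le_Tp x s)

theorem RR_ne_bot (hx1 : x ≠ 1) (s : Finset (Subgroup G)) : RR x s ≠ ⊥ := by
  intro h
  have := mem_RR x s
  rw [h, Subgroup.mem_bot] at this
  exact hx1 this

theorem Tp_le_normalizer_RR (hD : Dom p x s) :
    top s ⊔ Subgroup.zpowers x ≤ Subgroup.normalizer ((RR x s : Subgroup G) : Set G) := by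
  refine sup_le (le_normalizer_sup (top_le_normalizer_QA hD) (le_normalizer_ncl _ x)) ?_
  exact (Subgroup.zpowers_le.mpr (mem_RR x s)).trans Subgroup.le_normalizer

theorem Tp_le_normalizer_of_mem (hD : Dom p x s) {Q : Subgroup G} (hQ : Q ∈ s) :
    top s ⊔ Subgroup.zpowers x ≤ Subgroup.normalizer ((Q : Subgroup G) : Set G) :=
  sup_le (hD.2.2.1 Q hQ) (Subgroup.zpowers_le.mpr (mem_stab.mp hD.2.2.2 Q hQ))

theorem le_RR_of_not_mem {Q : Subgroup G} (hQ : Q ∈ s) (hxQ : x ∉ Q) : Q ≤ RR x s :=
  (le_QA hQ hxQ).trans le_sup_left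

theorem RR_le_of_mem (hD : Dom p x s) {Q : Subgroup G} (hQ : Q ∈ s) (hxQ : x ∈ Q) :
    RR x s ≤ Q :=
  sup_le (QA_le_of_mem hD.1 hQ hxQ) (ncl_le hxQ (hD.2.2.1 Q hQ))

theorem RR_le_top_of_mem (hxT : x ∈ top s) : RR x s ≤ top s :=
  sup_le (QA_le_top x s) (ncl_le hxT Subgroup.le_normalizer)

theorem QA_eq_top_of_not_mem (hxT : x ∉ top s) : QA x s = top s := by
  apply le_antisymm (QA_le_top x s)
  unfold top
  apply Finset.sup_le
  intro Q hQ
  exact le_QA hQ (fun h => hxT (le_top_of_mem hQ h))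

theorem RR_eq_Tp_of_not_mem (hxT : x ∉ top s) : RR x s = top s ⊔ Subgroup.zpowers x := by
  apply le_antisymm (RR_le_Tp x s)
  refine sup_le ?_ ((zpowers_le_ncl _ _).trans le_sup_right)
  rw [← QA_eq_top_of_not_mem hxT]
  exact le_sup_left

theorem RR_not_mem_of_not_mem (hxT : x ∉ top s) : RR x s ∉ s := by
  intro h
  exact hxT (le_top_of_mem h (mem_RR x s))

theorem x_mem_top_of_RR_mem (h : RR x s ∈ s) : x ∈ top s := by
  by_contra hxT
  exact RR_not_mem_of_not_mem hxT h

variable [DecidableEq (Subgroup G)]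

theorem top_insert (R : Subgroup G) (s : Finset (Subgroup G)) : top (insert R s) = R ⊔ top s := by
  unfold top
  rw [Finset.sup_insert]
  rfl

theorem top_erase_le (R : Subgroup G) (s : Finset (Subgroup G)) : top (s.erase R) ≤ top s :=
  Finset.sup_mono (Finset.erase_subset R s)

theorem lowS_insert {R : Subgroup G} (hxR : x ∈ R) (s : Finset (Subgroup G)) :
    lowS x (insert R s) = lowS x s := by
  ext Q
  simp only [lowS, Set.mem_ofPred_eq, Finset.mem_insert]
  constructor
  · rintro ⟨h | h, hx⟩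
    · subst h; exact absurd hxR hx
    · exact ⟨h, hx⟩
  · rintro ⟨h, hx⟩
    exact ⟨Or.inr h, hx⟩

theorem lowS_erase {R : Subgroup G} (hxR : x ∈ R) (s : Finset (Subgroup G)) :
    lowS x (s.erase R) = lowS x s := by
  ext Q
  simp only [lowS, Set.mem_ofPred_eq, Finset.mem_erase]
  constructor
  · rintro ⟨⟨-, h⟩, hx⟩
    exact ⟨h, hx⟩
  · rintro ⟨h, hx⟩
    refine ⟨⟨?_, h⟩, hx⟩
    rintro rfl
    exact hx hxR

theorem dom_erase (hD : Dom p x s) (R : Subgroup G) : Dom p x (s.erase R) := by
  have hsub : s.erase R ⊆ s := Finset.erase_subset R s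
  refine ⟨hD.1.mono hsub, fun Q hQ => hD.2.1 Q (hsub hQ), fun Q hQ => ?_, ?_⟩
  · exact (top_erase_le R s).trans (hD.2.2.1 Q (hsub hQ))
  · rw [mem_stab]
    intro Q hQ
    exact mem_stab.mp hD.2.2.2 Q (hsub hQ)

theorem dom_insert (hx : IsPGroup p (Subgroup.zpowers x)) (hx1 : x ≠ 1) (hD : Dom p x s) :
    Dom p x (insert (RR x s) s) := by
  refine ⟨?_, ?_, ?_, ?_⟩
  · -- chain
    have hcmp : ∀ Q ∈ s, Q ≤ RR x s ∨ RR x s ≤ Q := by
      intro Q hQ
      by_cases hxQ : x ∈ Q
      · exact Or.inr (RR_le_of_mem hD hQ hxQ)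
      · exact Or.inl (le_RR_of_not_mem hQ hxQ)
    intro Q hQ Q' hQ'
    rw [Finset.mem_insert] at hQ hQ'
    rcases hQ with rfl | hQ <;> rcases hQ' with rfl | hQ'
    · exact Or.inl le_rfl
    · exact (hcmp Q' hQ').symm
    · exact hcmp Q hQ
    · exact hD.1 Q hQ Q' hQ'
  · intro Q hQ
    rw [Finset.mem_insert] at hQ
    rcases hQ with rfl | hQ
    · exact ⟨RR_ne_bot hx1 s, isPGroup_RR hx hD⟩
    · exact hD.2.1 Q hQ
  · intro Q hQ
    have h1 : top (insert (RR x s) s) ≤ top s ⊔ Subgroup.zpowers x := by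
      rw [top_insert]
      exact sup_le (RR_le_Tp x s) le_sup_left
    rw [Finset.mem_insert] at hQ
    rcases hQ with rfl | hQ
    · exact h1.trans (Tp_le_normalizer_RR hD)
    · exact h1.trans (Tp_le_normalizer_of_mem hD hQ)
  · rw [mem_stab]
    intro Q hQ
    rw [Finset.mem_insert] at hQ
    rcases hQ with rfl | hQ
    · exact Subgroup.le_normalizer (mem_RR x s)
    · exact mem_stab.mp hD.2.2.2 Q hQ

theorem QA_insert {R : Subgroup G} (hxR : x ∈ R) (s : Finset (Subgroup G)) :
    QA x (insert R s) = QA x s := by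
  unfold QA
  rw [lowS_insert hxR]

theorem QA_erase {R : Subgroup G} (hxR : x ∈ R) (s : Finset (Subgroup G)) :
    QA x (s.erase R) = QA x s := by
  unfold QA
  rw [lowS_erase hxR]

theorem RR_insert (x : G) (s : Finset (Subgroup G)) : RR x (insert (RR x s) s) = RR x s := by
  by_cases hxT : x ∈ top s
  · have h1 : top (insert (RR x s) s) = top s := by
      rw [top_insert]
      exact sup_eq_right.mpr (RR_le_top_of_mem hxT)
    show QA x (insert (RR x s) s) ⊔ ncl (top (insert (RR x s) s)) x = RR x s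
    rw [QA_insert (mem_RR x s), h1]
    rfl
  · have hR := RR_eq_Tp_of_not_mem hxT
    have h1 : top (insert (RR x s) s) = top s ⊔ Subgroup.zpowers x := by
      rw [top_insert, hR]
      exact sup_eq_left.mpr le_sup_left
    show QA x (insert (RR x s) s) ⊔ ncl (top (insert (RR x s) s)) x = RR x s
    rw [QA_insert (mem_RR x s), h1, QA_eq_top_of_not_mem hxT, hR]
    apply le_antisymm
    · refine sup_le le_sup_left ?_
      exact ncl_le ((le_sup_right : Subgroup.zpowers x ≤ _) (Subgroup.mem_zpowers x))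
        Subgroup.le_normalizer
    · exact sup_le le_sup_left ((zpowers_le_ncl _ _).trans le_sup_right)

theorem top_erase_of_ne (hD : Dom p x s) {R : Subgroup G} (hR : R ∈ s) (hne : R ≠ top s) :
    top (s.erase R) = top s := by
  apply le_antisymm (top_erase_le R s)
  apply le_top_of_mem
  rw [Finset.mem_erase]
  exact ⟨fun h => hne h.symm, top_mem hD.1 ⟨R, hR⟩⟩

theorem top_erase_of_eq (hD : Dom p x s)
    (heq : RR x s = top s) : top (s.erase (RR x s)) = QA x s := by
  apply le_antisymm
  · unfold top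
    apply Finset.sup_le
    intro Q hQ
    rw [Finset.mem_erase] at hQ
    apply le_QA hQ.2
    intro hxQ
    apply hQ.1
    apply le_antisymm
    · rw [heq]; exact le_top_of_mem hQ.2
    · exact RR_le_of_mem hD hQ.2 hxQ
  · rcases QA_eq_bot_or_mem (x := x) hD.1 with h | h
    · rw [h]; exact bot_le
    · apply le_top_of_mem
      rw [Finset.mem_erase]
      refine ⟨?_, h.1⟩
      intro h2
      apply h.2
      rw [h2]
      exact mem_RR x s

theorem RR_eq_sup_zpowers (hD : Dom p x s) (hR : RR x s ∈ s) (heq : RR x s = top s) :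
    RR x s = QA x s ⊔ Subgroup.zpowers x := by
  have hxT := x_mem_top_of_RR_mem hR
  have h1 : top s = QA x s ⊔ ncl (top s) x := heq.symm
  rw [heq]
  exact eq_sup_zpowers_of_eq_sup_ncl (isPGroup_top hD) hxT (QA_le_top x s) h1

theorem RR_erase (hD : Dom p x s) (hR : RR x s ∈ s) :
    RR x (s.erase (RR x s)) = RR x s := by
  by_cases heq : RR x s = top s
  · have h1 := top_erase_of_eq hD heq
    show QA x (s.erase (RR x s)) ⊔ ncl (top (s.erase (RR x s))) x = RR x s
    rw [QA_erase (mem_RR x s), h1]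
    apply le_antisymm
    · exact sup_le le_sup_left ((ncl_mono (QA_le_top x s) x).trans le_sup_right)
    · rw [RR_eq_sup_zpowers hD hR heq]
      exact sup_le le_sup_left ((zpowers_le_ncl _ _).trans le_sup_right)
  · have h1 := top_erase_of_ne hD hR heq
    show QA x (s.erase (RR x s)) ⊔ ncl (top (s.erase (RR x s))) x = RR x s
    rw [QA_erase (mem_RR x s), h1]
    rfl

theorem mem_normalizer_of_mem_stab_or_bot {t : Finset (Subgroup G)} {g : G} (hg : g ∈ stab t)
    {Q : Subgroup G} (hQ : Q = ⊥ ∨ Q ∈ t) :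
    g ∈ Subgroup.normalizer ((Q : Subgroup G) : Set G) := by
  rcases hQ with rfl | hQ
  · exact mem_normalizer_bot g
  · exact mem_stab.mp hg Q hQ

/-- **The stabilizer in `C_G(x)` does not change.** -/
theorem mem_normalizer_RR_of_insert (hD : Dom p x s) {g : G} (hgx : g * x = x * g)
    (hg : g ∈ stab s) : g ∈ Subgroup.normalizer ((RR x s : Subgroup G) : Set G) := by
  have hgQA : g ∈ Subgroup.normalizer ((QA x s : Subgroup G) : Set G) :=
    mem_normalizer_of_mem_stab_or_bot hg
      ((QA_eq_bot_or_mem (x := x) hD.1).imp id (fun h => h.1))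
  have hgT : g ∈ Subgroup.normalizer ((top s : Subgroup G) : Set G) :=
    mem_normalizer_of_mem_stab_or_bot hg (top_eq_bot_or_mem hD.1)
  exact mem_normalizer_sup hgQA (mem_normalizer_ncl hgT hgx)

theorem mem_normalizer_RR_of_erase (hD : Dom p x s) (hR : RR x s ∈ s) {g : G}
    (hgx : g * x = x * g) (hg : g ∈ stab (s.erase (RR x s))) :
    g ∈ Subgroup.normalizer ((RR x s : Subgroup G) : Set G) := by
  have hgQA : g ∈ Subgroup.normalizer ((QA x s : Subgroup G) : Set G) := by
    apply mem_normalizer_of_mem_stab_or_bot hg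
    rcases QA_eq_bot_or_mem (x := x) hD.1 with h | h
    · exact Or.inl h
    · right
      rw [Finset.mem_erase]
      refine ⟨?_, h.1⟩
      intro h2
      apply h.2
      rw [h2]
      exact mem_RR x s
  by_cases heq : RR x s = top s
  · rw [RR_eq_sup_zpowers hD hR heq]
    exact mem_normalizer_sup hgQA (mem_normalizer_zpowers hgx)
  · have hgT : g ∈ Subgroup.normalizer ((top s : Subgroup G) : Set G) := by
      apply mem_stab.mp hg
      rw [Finset.mem_erase]
      exact ⟨fun h => heq h.symm, top_mem hD.1 ⟨_, hR⟩⟩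
    exact mem_normalizer_sup hgQA (mem_normalizer_ncl hgT hgx)


end main

/-! ### The involution -/

section involution

open Classical

variable [Finite G] {p : ℕ} [Fact p.Prime] {x : G} {s : Finset (Subgroup G)}

theorem psi_of_mem (h : RR x s ∈ s) : psi x s = s.erase (RR x s) := by
  unfold psi
  rw [if_pos h]

theorem psi_of_not_mem (h : RR x s ∉ s) : psi x s = insert (RR x s) s := by
  unfold psi
  rw [if_neg h]

theorem psi_dom (hx : IsPGroup p (Subgroup.zpowers x)) (hx1 : x ≠ 1) (hD : Dom p x s) :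
    Dom p x (psi x s) := by
  by_cases h : RR x s ∈ s
  · rw [psi_of_mem h]
    exact dom_erase hD _
  · rw [psi_of_not_mem h]
    exact dom_insert hx hx1 hD

theorem RR_psi (hD : Dom p x s) : RR x (psi x s) = RR x s := by
  by_cases h : RR x s ∈ s
  · rw [psi_of_mem h]
    exact RR_erase hD h
  · rw [psi_of_not_mem h]
    exact RR_insert x s

theorem psi_psi (hD : Dom p x s) : psi x (psi x s) = s := by
  by_cases h : RR x s ∈ s
  · have h2 : RR x (psi x s) ∉ psi x s := by
      rw [RR_psi hD, psi_of_mem h]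
      exact Finset.notMem_erase _ _
    rw [psi_of_not_mem h2, RR_psi hD, psi_of_mem h, Finset.insert_erase h]
  · have h2 : RR x (psi x s) ∈ psi x s := by
      rw [RR_psi hD, psi_of_not_mem h]
      exact Finset.mem_insert_self _ _
    rw [psi_of_mem h2, RR_psi hD, psi_of_not_mem h, Finset.erase_insert h]

theorem neg_one_pow_card_psi (x : G) (s : Finset (Subgroup G)) :
    (-1 : ℤ) ^ (psi x s).card = - (-1 : ℤ) ^ s.card := by
  by_cases h : RR x s ∈ s
  · rw [psi_of_mem h]
    have h1 : s.card = (s.erase (RR x s)).card + 1 := (Finset.card_erase_add_one h).symm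
    rw [h1, pow_succ]
    ring
  · rw [psi_of_not_mem h, Finset.card_insert_of_notMem h, pow_succ]
    ring

theorem psi_ne (x : G) (s : Finset (Subgroup G)) : psi x s ≠ s := by
  intro h
  have h1 := neg_one_pow_card_psi x s
  rw [h] at h1
  have h2 : (-1 : ℤ) ^ s.card ≠ 0 := pow_ne_zero _ (by norm_num)
  omega

theorem mul_comm_of_mem_centralizer {g : G} (hg : g ∈ Subgroup.centralizer ({x} : Set G)) :
    g * x = x * g :=
  (Subgroup.mem_centralizer_iff.mp hg x (Set.mem_singleton x)).symm

theorem stab_psi (hD : Dom p x s) :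
    Subgroup.centralizer ({x} : Set G) ⊓ stab (psi x s) =
      Subgroup.centralizer ({x} : Set G) ⊓ stab s := by
  ext g
  rw [Subgroup.mem_inf, Subgroup.mem_inf]
  refine and_congr_right fun hgC => ?_
  have hgx := mul_comm_of_mem_centralizer hgC
  by_cases h : RR x s ∈ s
  · rw [psi_of_mem h]
    constructor
    · intro hg
      rw [mem_stab]
      intro Q hQ
      by_cases hQR : Q = RR x s
      · rw [hQR]
        exact mem_normalizer_RR_of_erase hD h hgx hg
      · exact mem_stab.mp hg Q (Finset.mem_erase.mpr ⟨hQR, hQ⟩)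
    · intro hg
      rw [mem_stab]
      intro Q hQ
      exact mem_stab.mp hg Q (Finset.mem_of_mem_erase hQ)
  · rw [psi_of_not_mem h]
    constructor
    · intro hg
      rw [mem_stab]
      intro Q hQ
      exact mem_stab.mp hg Q (Finset.mem_insert_of_mem hQ)
    · intro hg
      rw [mem_stab]
      intro Q hQ
      rw [Finset.mem_insert] at hQ
      rcases hQ with rfl | hQ
      · exact mem_normalizer_RR_of_insert hD hgx hg
      · exact mem_stab.mp hg Q hQ

/-- **The alternating sum over all chains (the empty one included) vanishes.** -/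
theorem sum_dom_eq_zero [Fintype (Finset (Subgroup G))] (hx : IsPGroup p (Subgroup.zpowers x))
    (hx1 : x ≠ 1) (f : Subgroup G → ℤ) :
    ∑ s ∈ Finset.univ.filter (Dom p x),
      (-1 : ℤ) ^ s.card * f (Subgroup.centralizer ({x} : Set G) ⊓ stab s) = 0 := by
  refine Finset.sum_involution (fun s _ => psi x s) ?_ ?_ ?_ ?_
  · intro s hs
    have hD : Dom p x s := (Finset.mem_filter.mp hs).2
    rw [neg_one_pow_card_psi, stab_psi hD]
    ring
  · intro s _ _
    exact psi_ne x s
  · intro s hs
    have hD : Dom p x s := (Finset.mem_filter.mp hs).2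
    exact Finset.mem_filter.mpr ⟨Finset.mem_univ _, psi_dom hx hx1 hD⟩
  · intro s hs
    have hD : Dom p x s := (Finset.mem_filter.mp hs).2
    exact psi_psi hD

end involution

/-! ### The final form -/

/-- The nonempty chains of nontrivial `p`-subgroups, all normal in the largest member. -/
def chainSet (G : Type*) [Group G] (p : ℕ) : Set (Finset (Subgroup G)) :=
  {s : Finset (Subgroup G) | s.Nonempty ∧ (∀ Q ∈ s, ∀ R ∈ s, Q ≤ R ∨ R ≤ Q) ∧
    (∀ Q ∈ s, Q ≠ ⊥ ∧ IsPGroup p Q) ∧
    ∃ T ∈ s, ∀ Q ∈ s, Q ≤ T ∧ T ≤ Subgroup.normalizer ((Q : Subgroup G) : Set G)}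

theorem mem_chainSet_and_iff {p : ℕ} {x : G} {s : Finset (Subgroup G)} :
    (s ∈ chainSet G p ∧ x ∈ stab s) ↔ (s.Nonempty ∧ Dom p x s) := by
  constructor
  · rintro ⟨⟨hne, hch, hP, T, hT, hTs⟩, hx⟩
    refine ⟨hne, hch, hP, ?_, hx⟩
    have hTtop : top s = T := by
      apply le_antisymm
      · exact Finset.sup_le fun Q hQ => (hTs Q hQ).1
      · exact le_top_of_mem hT
    intro Q hQ
    rw [hTtop]
    exact (hTs Q hQ).2
  · rintro ⟨hne, hch, hP, hN, hx⟩
    refine ⟨⟨hne, hch, hP, top s, top_mem hch hne, fun Q hQ => ⟨le_top_of_mem hQ, hN Q hQ⟩⟩, hx⟩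

theorem dom_empty (p : ℕ) (x : G) : Dom p x (∅ : Finset (Subgroup G)) := by
  refine ⟨?_, ?_, ?_, ?_⟩
  · intro Q hQ
    exact absurd hQ (Finset.notMem_empty Q)
  · intro Q hQ
    exact absurd hQ (Finset.notMem_empty Q)
  · intro Q hQ
    exact absurd hQ (Finset.notMem_empty Q)
  · rw [stab_empty]
    exact Subgroup.mem_top x

open Classical in
/-- **Alternating sum over the chains stabilized by a `p`-element.**  For a `p`-element `x ≠ 1` and
every function `f` of subgroups, the alternating sum of `f (C_G(x) ∩ N_G(σ))` over the nonempty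
chains `σ` stabilized by `x` is `f (C_G(x))`. -/
theorem finsum_chainSet [Finite G] {p : ℕ} [Fact p.Prime] {x : G}
    (hx : IsPGroup p (Subgroup.zpowers x)) (hx1 : x ≠ 1) (f : Subgroup G → ℤ) :
    ∑ᶠ s ∈ chainSet G p, (-1 : ℤ) ^ (s.card - 1) *
      (if x ∈ (⨅ Q ∈ s, Subgroup.normalizer ((Q : Subgroup G) : Set G) : Subgroup G) then
        f (Subgroup.centralizer ({x} : Set G) ⊓
          (⨅ Q ∈ s, Subgroup.normalizer ((Q : Subgroup G) : Set G) : Subgroup G)) else 0) =
      f (Subgroup.centralizer ({x} : Set G)) := by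
  classical
  have : Fintype (Finset (Subgroup G)) := Fintype.ofFinite _
  have h0 := sum_dom_eq_zero hx hx1 f
  have hempty : (∅ : Finset (Subgroup G)) ∈ Finset.univ.filter (Dom p x) :=
    Finset.mem_filter.mpr ⟨Finset.mem_univ _, dom_empty p x⟩
  rw [← Finset.add_sum_erase _ _ hempty, Finset.card_empty, pow_zero, one_mul, stab_empty,
    inf_top_eq] at h0
  rw [finsum_mem_eq_finite_toFinset_sum _ (Set.toFinite _)]
  have h1 : ∑ s ∈ (Set.toFinite (chainSet G p)).toFinset, (-1 : ℤ) ^ (s.card - 1) *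
      (if x ∈ (⨅ Q ∈ s, Subgroup.normalizer ((Q : Subgroup G) : Set G) : Subgroup G) then
        f (Subgroup.centralizer ({x} : Set G) ⊓
          (⨅ Q ∈ s, Subgroup.normalizer ((Q : Subgroup G) : Set G) : Subgroup G)) else 0) =
      ∑ s ∈ (Finset.univ.filter (Dom p x)).erase ∅,
        - ((-1 : ℤ) ^ s.card * f (Subgroup.centralizer ({x} : Set G) ⊓ stab s)) := by
    have hsub : (Finset.univ.filter (Dom p x)).erase ∅ ⊆ (Set.toFinite (chainSet G p)).toFinset := by
      intro s hs
      rw [Finset.mem_erase, Finset.mem_filter] at hs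
      rw [Set.Finite.mem_toFinset]
      exact (mem_chainSet_and_iff.mpr ⟨Finset.nonempty_iff_ne_empty.mpr hs.1, hs.2.2⟩).1
    rw [← Finset.sum_subset hsub]
    · refine Finset.sum_congr rfl fun s hs => ?_
      rw [Finset.mem_erase, Finset.mem_filter] at hs
      have hne : s.Nonempty := Finset.nonempty_iff_ne_empty.mpr hs.1
      have hxs : x ∈ (⨅ Q ∈ s, Subgroup.normalizer ((Q : Subgroup G) : Set G) : Subgroup G) :=
        hs.2.2.2.2.2
      have hc : s.card = (s.card - 1) + 1 := by
        have := Finset.card_pos.mpr hne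
        omega
      rw [if_pos hxs]
      conv_rhs => rw [hc, pow_succ]
      show _ = -((-1 : ℤ) ^ (s.card - 1) * -1 * f (Subgroup.centralizer ({x} : Set G) ⊓ stab s))
      unfold stab
      ring
    · intro s hs hns
      rw [Set.Finite.mem_toFinset] at hs
      have hxs : x ∉ (⨅ Q ∈ s, Subgroup.normalizer ((Q : Subgroup G) : Set G) : Subgroup G) := by
        intro hxs
        apply hns
        have := mem_chainSet_and_iff.mp ⟨hs, hxs⟩
        rw [Finset.mem_erase, Finset.mem_filter]
        exact ⟨Finset.nonempty_iff_ne_empty.mp this.1, Finset.mem_univ _, this.2⟩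
      rw [if_neg hxs, mul_zero]
  rw [h1, Finset.sum_neg_distrib]
  linarith

end Cfsg.Agent.Lib.Helper82_ChainInvolution
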