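import Mathlib
import Cfsg.Agent.Lib.Helper78_LocalRing

/-!
# A norm bound for totally positive cyclotomic integers divisible by a power of `p` (helper82)

* `prod_aeval_pow_eq_int`: for a primitive `N`-th root of unity `ε` and `R ∈ ℤ[X]`, the product of
  the `R (ε ^ j)`, `j` prime to `N`, is a rational integer (a resultant).
* `dvd_of_memLocalRing_div`: a rational integer `r` with `r / p ^ k` in the local ring is divisible
  by `p ^ k`.
* `sum_ge_of_pos_of_prod_ge`: positive reals whose product is at least `Q ^ m` have sum at least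
  `m * Q`.
* `card_mul_pow_le_sum`: if all the `R (ε ^ j)` are positive reals, divisible by `p ^ h` in the local
  ring, then their sum is at least `φ(N) p ^ h`.
-/

set_option autoImplicit false

namespace Cfsg.Agent.Lib.Helper82_NormBound

open Cfsg Polynomial Cfsg.Agent.Lib.Helper78_LocalRing

/-- The exponents prime to `N`. -/
def JJ (N : ℕ) : Finset ℕ := (Finset.range N).filter (fun j => N.Coprime j)

theorem prod_aeval_pow_eq_int {N : ℕ} (hN : 0 < N) {ε : ℂ} (hε : IsPrimitiveRoot ε N) (R : ℤ[X]) :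
    ∃ r : ℤ, ∏ j ∈ JJ N, aeval (ε ^ j) R = (r : ℂ) := by
  have : NeZero N := ⟨hN.ne'⟩
  have : NeZero ((N : ℕ) : ℂ) := ⟨by exact_mod_cast hN.ne'⟩
  refine ⟨resultant (cyclotomic N ℤ) R (cyclotomic N ℤ).natDegree R.natDegree, ?_⟩
  have h1 := resultant_map_map (f := cyclotomic N ℤ) (g := R) (m := (cyclotomic N ℤ).natDegree)
    (n := R.natDegree) (Int.castRingHom ℂ)
  have hdeg : (cyclotomic N ℂ).natDegree = (cyclotomic N ℤ).natDegree := by
    rw [natDegree_cyclotomic, natDegree_cyclotomic]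
  have h2 : resultant (cyclotomic N ℂ) (R.map (Int.castRingHom ℂ)) (cyclotomic N ℤ).natDegree
      R.natDegree = ∏ μ ∈ primitiveRoots N ℂ, eval μ (R.map (Int.castRingHom ℂ)) := by
    rw [← hdeg, resultant_eq_prod_eval (cyclotomic N ℂ) (R.map (Int.castRingHom ℂ)) R.natDegree
      natDegree_map_le (IsAlgClosed.splits _), (cyclotomic.monic N ℂ).leadingCoeff, one_pow,
      one_mul, cyclotomic.roots_eq_primitiveRoots_val]
    rfl
  rw [map_cyclotomic, h2] at h1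
  have h4 : (Int.castRingHom ℂ) (resultant (cyclotomic N ℤ) R (cyclotomic N ℤ).natDegree R.natDegree) =
      ((resultant (cyclotomic N ℤ) R (cyclotomic N ℤ).natDegree R.natDegree : ℤ) : ℂ) := rfl
  rw [← h4, ← h1]
  unfold JJ
  refine Finset.prod_bij (fun i _ => ε ^ i) ?_ ?_ ?_ ?_
  · intro i hi
    rw [Finset.mem_filter, Finset.mem_range] at hi
    rw [mem_primitiveRoots hN]
    exact hε.pow_of_coprime i hi.2.symm
  · intro i hi j hj H
    rw [Finset.mem_filter, Finset.mem_range] at hi hj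
    exact hε.pow_inj hi.1 hj.1 H
  · intro ξ hξ
    rw [mem_primitiveRoots hN, hε.isPrimitiveRoot_iff] at hξ
    obtain ⟨i, hin, hi, H⟩ := hξ
    exact ⟨i, Finset.mem_filter.mpr ⟨Finset.mem_range.mpr hin, hi.symm⟩, H⟩
  · intro i _
    rw [aeval_def, eval₂_eq_eval_map]
    rfl

theorem dvd_of_memLocalRing_div {p : ℕ} {M : Ideal AlgInt} (hM : IsPModular p M) :
    ∀ (k : ℕ) (r : ℤ), MemLocalRing M ((r : ℂ) / (p : ℂ) ^ k) → (p : ℤ) ^ k ∣ r := by
  have hMp := isPrime_of_isPModular hM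
  have hp0 : (p : ℂ) ≠ 0 := by exact_mod_cast hM.1.ne_zero
  intro k
  induction k with
  | zero => intro r _; simp
  | succ k ih =>
    intro r hr
    have h1 : MemLocalIdeal M ((r : ℤ) : ℂ) := by
      have h2 : ((r : ℤ) : ℂ) = ((r : ℂ) / (p : ℂ) ^ (k + 1)) * (p : ℂ) ^ k * ((p : ℕ) : ℂ) := by
        field_simp
        ring
      rw [h2]
      refine memLocalIdeal_mul_left hMp (memLocalRing_mul hMp hr
        (memLocalRing_pow hMp (memLocalRing_natCast hMp p) k)) ?_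
      rw [memLocalIdeal_natCast_iff hM]
    rw [memLocalIdeal_intCast_iff hM] at h1
    obtain ⟨r', rfl⟩ := h1
    have h3 : MemLocalRing M ((r' : ℂ) / (p : ℂ) ^ k) := by
      have h4 : ((r' : ℤ) : ℂ) / (p : ℂ) ^ k = (((p : ℤ) * r' : ℤ) : ℂ) / (p : ℂ) ^ (k + 1) := by
        push_cast
        field_simp
        ring
      rw [h4]
      exact hr
    obtain ⟨s, rfl⟩ := ih r' h3
    exact ⟨s, by ring⟩

theorem sum_ge_of_pos_of_prod_ge {ι : Type*} (s : Finset ι) (x : ι → ℝ) (Q : ℝ) (hQ : 0 < Q)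
    (hpos : ∀ i ∈ s, 0 < x i) (hprod : Q ^ s.card ≤ ∏ i ∈ s, x i) :
    (s.card : ℝ) * Q ≤ ∑ i ∈ s, x i := by
  have h1 : ∀ i ∈ s, Real.log (x i / Q) ≤ x i / Q - 1 := fun i hi =>
    Real.log_le_sub_one_of_pos (div_pos (hpos i hi) hQ)
  have h2 : ∑ i ∈ s, Real.log (x i / Q) ≤ ∑ i ∈ s, (x i / Q - 1) := Finset.sum_le_sum h1
  have h3 : ∑ i ∈ s, Real.log (x i / Q) = Real.log (∏ i ∈ s, (x i / Q)) := by
    rw [Real.log_prod]
    intro i hi
    exact (div_pos (hpos i hi) hQ).ne'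
  have h4 : 1 ≤ ∏ i ∈ s, (x i / Q) := by
    rw [Finset.prod_div_distrib, Finset.prod_const, le_div_iff₀ (pow_pos hQ _), one_mul]
    exact hprod
  have h5 : 0 ≤ Real.log (∏ i ∈ s, (x i / Q)) := Real.log_nonneg h4
  have h6 : ∑ i ∈ s, (x i / Q - 1) = (∑ i ∈ s, x i) / Q - s.card := by
    rw [Finset.sum_sub_distrib, Finset.sum_div, Finset.sum_const, nsmul_eq_mul, mul_one]
  rw [h3] at h2
  rw [h6] at h2
  have h7 : (s.card : ℝ) ≤ (∑ i ∈ s, x i) / Q := by linarith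
  rwa [le_div_iff₀ hQ] at h7

/-- **The norm bound.** -/
theorem card_mul_pow_le_sum {p : ℕ} {M : Ideal AlgInt} (hM : IsPModular p M) {N : ℕ} (hN : 0 < N)
    {ε : ℂ} (hε : IsPrimitiveRoot ε N) (R : ℤ[X]) (h : ℕ) (x : ℕ → ℝ)
    (hx : ∀ j ∈ JJ N, aeval (ε ^ j) R = (x j : ℂ)) (hpos : ∀ j ∈ JJ N, 0 < x j)
    (hloc : ∀ j ∈ JJ N, MemLocalRing M ((x j : ℂ) / (p : ℂ) ^ h)) :
    ((JJ N).card : ℝ) * (p : ℝ) ^ h ≤ ∑ j ∈ JJ N, x j := by
  have hMp := isPrime_of_isPModular hM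
  have hp0 : (p : ℂ) ≠ 0 := by exact_mod_cast hM.1.ne_zero
  obtain ⟨r, hr⟩ := prod_aeval_pow_eq_int hN hε R
  rw [Finset.prod_congr rfl hx] at hr
  have hrR : ((r : ℤ) : ℝ) = ∏ j ∈ JJ N, x j := by
    have : ((∏ j ∈ JJ N, x j : ℝ) : ℂ) = ((r : ℝ) : ℂ) := by
      push_cast
      exact hr
    exact (Complex.ofReal_injective this).symm
  have hPpos : 0 < ∏ j ∈ JJ N, x j := Finset.prod_pos hpos
  have hrpos : 0 < r := by
    have : (0 : ℝ) < (r : ℝ) := by rw [hrR]; exact hPpos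
    exact_mod_cast this
  have hdvd : (p : ℤ) ^ (h * (JJ N).card) ∣ r := by
    apply dvd_of_memLocalRing_div hM
    have h1 : (r : ℂ) / (p : ℂ) ^ (h * (JJ N).card) = ∏ j ∈ JJ N, ((x j : ℂ) / (p : ℂ) ^ h) := by
      rw [Finset.prod_div_distrib, Finset.prod_const, ← pow_mul, hr]
    rw [h1]
    exact memLocalRing_prod hMp _ _ hloc
  have hle : (p : ℤ) ^ (h * (JJ N).card) ≤ r := Int.le_of_dvd hrpos hdvd
  apply sum_ge_of_pos_of_prod_ge (JJ N) x ((p : ℝ) ^ h)
    (pow_pos (by exact_mod_cast hM.1.pos) _) hpos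
  rw [← hrR, ← pow_mul]
  exact_mod_cast hle

end Cfsg.Agent.Lib.Helper82_NormBound
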