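import Mathlib
import Cfsg.Agent.Lib.Helper57_MajorNV
import Cfsg.Agent.Lib.Helper57_MajorGram
import Cfsg.Agent.Lib.Helper57_Weights
import Cfsg.Agent.Lib.Helper57_WForm
import Cfsg.Agent.Lib.Helper57_ContribRow
import Cfsg.Agent.Lib.Helper77_CentralDefect
import Cfsg.Agent.Lib.Helper82_NormBound
import Cfsg.Agent.S0874

/-!
# A lower bound for the diagonal contributions of a major subsection (helper82)

For a major subsection `(z, b)` of the block `B` (`b` a block of `C_G(z)` inducing `B` with the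
defect of `B`), `χ ∈ B` of height `h` and `N = p ^ K` with `z ^ N = 1`, the diagonal contributions
`m_j = ∑_{η ∈ b} |a_j(χ, η)|²` of the subsections `(z ^ j, b)`, `j` prime to `p`, satisfy
`φ(N) p ^ h ≤ p ^ d ∑_j m_j` (`sum_contrib_ge`): the numbers `p ^ d m_j` are the conjugates of a
totally positive cyclotomic integer divisible by `p ^ h`.
-/

set_option autoImplicit false
set_option maxHeartbeats 1000000

namespace Cfsg.Agent.Lib.Helper82_ContribLower

open Cfsg Polynomial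
open scoped ComplexConjugate
open Cfsg.Agent.Lib.Helper3_CharBridge Cfsg.Agent.Lib.Helper3_CharOrtho
  Cfsg.Agent.Lib.Helper75_CharArith Cfsg.Agent.Lib.Helper57_PRegInt
  Cfsg.Agent.Lib.Helper57_HeightZero Cfsg.Agent.Lib.Helper57_BrauerFeit
  Cfsg.Agent.Lib.Helper57_Contribution Cfsg.Agent.Lib.Helper57_Subsection
  Cfsg.Agent.Lib.Helper57_ContribMatrix Cfsg.Agent.Lib.Helper57_ContribRow
  Cfsg.Agent.Lib.Helper57_BrouePuig
  Cfsg.Agent.Lib.Helper57_MajorNonvanish Cfsg.Agent.Lib.Helper57_MajorNV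
  Cfsg.Agent.Lib.Helper57_MajorGram
  Cfsg.Agent.Lib.Helper57_Weights Cfsg.Agent.Lib.Helper57_WForm
  Cfsg.Agent.Lib.Helper78_LocalRing Cfsg.Agent.Lib.Helper78_CharFacts
  Cfsg.Agent.Lib.Helper77_BlockBasics Cfsg.Agent.Lib.Helper82_NormBound

universe u

theorem coprime_pow_iff {p K j : ℕ} (hp : p.Prime) (hK : 0 < K) :
    (p ^ K).Coprime j ↔ ¬ p ∣ j := by
  rw [Nat.coprime_pow_left_iff hK, Nat.Prime.coprime_iff_not_dvd hp]

/-- A generator of `⟨z⟩` has the centralizer of `z`. -/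
theorem centralizer_pow_le {G : Type*} [Group G] {z : G} {j : ℕ}
    (hj : (orderOf z).Coprime j) :
    Subgroup.centralizer ({z ^ j} : Set G) ≤ Subgroup.centralizer ({z} : Set G) := by
  intro g hg
  rw [Subgroup.mem_centralizer_iff] at hg ⊢
  intro y hy
  rw [Set.mem_singleton_iff] at hy
  subst hy
  have h1 : Commute (y ^ j) g := hg (y ^ j) rfl
  obtain ⟨m, h2⟩ := exists_pow_eq_self_of_coprime hj.symm
  have h3 : Commute ((y ^ j) ^ m) g := h1.pow_left m
  rw [h2] at h3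
  exact h3.eq

theorem sum_contrib_ge {G : Type u} [Group G] [Fintype G] (p : ℕ) [Fact p.Prime]
    (M : Ideal AlgInt) (hM : IsPModular p M) (B : Set (IrrCharacter G)) (hB : IsPBlock M B)
    (z : G) (K : ℕ) (hK : 0 < K) (hzK : z ^ (p ^ K) = 1)
    [Fintype ↥(Subgroup.centralizer ({z} : Set G))]
    (b : Set (IrrCharacter ↥(Subgroup.centralizer ({z} : Set G))))
    (hb : IsInducedBlock M (Subgroup.centralizer ({z} : Set G)) b B)
    (hdd : blockDefect p b = blockDefect p B)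
    (χ : IrrCharacter G) (hχ : χ ∈ B) :
    ((JJ (p ^ K)).card : ℝ) * (p : ℝ) ^ blockHeight p B (χ : G → ℂ) ≤
      (p : ℝ) ^ blockDefect p B * ∑ j ∈ JJ (p ^ K), ∑ η ∈ bset b,
        Complex.normSq (acoef p (Subgroup.centralizer ({z} : Set G)) (z ^ j) χ η) := by
  classical
  have hp : p.Prime := Fact.out
  have hM' := isPrime_of_isPModular hM
  have hpi : Prime (p : ℤ) := Nat.prime_iff_prime_int.mp hp
  have hpC : (p : ℂ) ≠ 0 := Nat.cast_ne_zero.mpr hp.ne_zero
  set N := p ^ K with hN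
  have hNpos : 0 < N := pow_pos hp.pos K
  obtain ⟨n, hn⟩ : ∃ n : ℕ, orderOf z = p ^ n := by
    obtain ⟨m, -, hm⟩ := (Nat.dvd_prime_pow hp).mp (orderOf_dvd_of_pow_eq_one hzK)
    exact ⟨m, hm⟩
  have hIG : RegInt G p :=
    regInt_of_brauerLocal hp (fun q hq _ => Cfsg.Agent.S0874.result q hq)
  have hIC : RegInt (Subgroup.centralizer ({z} : Set G)) p :=
    regInt_of_brauerLocal hp (fun q hq _ => Cfsg.Agent.S0874.result q hq)
  have hyC : z ∈ Subgroup.centralizer ({z} : Set G) := by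
    rw [Subgroup.mem_centralizer_iff]
    intro h hh
    rw [Set.mem_singleton_iff.mp hh]
  have hcomm : ∀ c : Subgroup.centralizer ({z} : Set G), z * (c : G) = (c : G) * z :=
    fun c => Subgroup.mem_centralizer_iff.mp c.2 z (Set.mem_singleton z)
  have hzcen : (⟨z, hyC⟩ : Subgroup.centralizer ({z} : Set G)) ∈
      Submonoid.center (Subgroup.centralizer ({z} : Set G)) := by
    rw [Submonoid.mem_center_iff]
    intro g
    apply Subtype.ext
    push_cast
    exact (hcomm g).symm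
  have hzord : orderOf (⟨z, hyC⟩ : Subgroup.centralizer ({z} : Set G)) = p ^ n := by
    rw [← hn]
    exact Subgroup.orderOf_mk z hyC
  -- the scalars
  have hccex : ∀ ζ : IrrCharacter (Subgroup.centralizer ({z} : Set G)), ∃ c : ℂ,
      ∀ a : Subgroup.centralizer ({z} : Set G),
        (ζ : Subgroup.centralizer ({z} : Set G) → ℂ) (⟨z, hyC⟩ * a) =
          c * (ζ : Subgroup.centralizer ({z} : Set G) → ℂ) a := by
    intro ζ
    obtain ⟨c, _, hc⟩ := exists_scalar_of_central_pElement hM ζ ⟨z, hyC⟩ hzcen n hzord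
    exact ⟨c, hc⟩
  choose cc hcc using hccex
  have hcc1 : ∀ ζ : IrrCharacter (Subgroup.centralizer ({z} : Set G)), cc ζ ^ N = 1 := by
    intro ζ
    have h1 := irr_pow_mul (Subgroup.centralizer ({z} : Set G)) z hyC cc hcc ζ N 1
    have hz1 : (⟨z, hyC⟩ : Subgroup.centralizer ({z} : Set G)) ^ N = 1 := by
      apply Subtype.ext
      push_cast
      exact hzK
    rw [hz1, one_mul] at h1
    have hne : (ζ : Subgroup.centralizer ({z} : Set G) → ℂ) 1 ≠ 0 :=
      Cfsg.Agent.Lib.Helper78_CentralChar.isIrrCharacter_one_ne_zero ζ.2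
    have h2 : (cc ζ ^ N - 1) * (ζ : Subgroup.centralizer ({z} : Set G) → ℂ) 1 = 0 := by
      rw [sub_mul, one_mul, ← h1, sub_self]
    rcases mul_eq_zero.mp h2 with h | h
    · exact sub_eq_zero.mp h
    · exact absurd h hne
  -- the multiplicities
  have hnnex : ∀ χ : IrrCharacter G, ∃ m : IrrCharacter (Subgroup.centralizer ({z} : Set G)) → ℕ,
      (∀ ζ : IrrCharacter (Subgroup.centralizer ({z} : Set G)),
        classInner (fun c : Subgroup.centralizer ({z} : Set G) => (χ : G → ℂ) (c : G))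
          (ζ : Subgroup.centralizer ({z} : Set G) → ℂ) = m ζ) ∧
      (fun c : Subgroup.centralizer ({z} : Set G) => (χ : G → ℂ) (c : G)) =
        ∑ ζ : IrrCharacter (Subgroup.centralizer ({z} : Set G)),
          (m ζ : ℂ) • (ζ : Subgroup.centralizer ({z} : Set G) → ℂ) := fun χ =>
    exists_multiplicities (isCharacter_restrict (Subgroup.centralizer ({z} : Set G))
      (isCharacter_of_isIrrCharacter χ.2))
  choose nn hnn1 hnn using hnnex
  -- the weights
  obtain ⟨w0, δ, R, hsym, hw0, hrank, hDu, hRu⟩ :=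
    exists_weights_full (Subgroup.centralizer ({z} : Set G)) nn hnn1 hp hM hIG hIC hb
  have hrank' : ∀ ζ ∈ bset b, ∀ ζ' ∈ bset b, (p : ℤ) ∣
      (mPrime (Subgroup.centralizer ({z} : Set G)) p : ℤ) * w0 ζ ζ' - δ ζ * R ζ' :=
    fun ζ hζ ζ' hζ' => hrank ζ (mem_bset.mp hζ) ζ' (mem_bset.mp hζ')
  obtain ⟨χ', hχ', h0χ'⟩ := exists_height_zero_mem (p := p) (isPBlock_nonempty hM' hB)
  -- a member of `b` with `p ∤ R`
  obtain ⟨ζ₀, hζ₀, hRζ₀⟩ : ∃ ζ₀ ∈ bset b, ¬ (p : ℤ) ∣ R ζ₀ := by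
    by_contra hcon
    push Not at hcon
    apply hRu χ' hχ' h0χ'
    exact Finset.dvd_sum fun ζ hζ => Dvd.dvd.mul_left (hcon ζ hζ) _
  set x₁ : IrrCharacter (Subgroup.centralizer ({z} : Set G)) → ℤ := Pi.single ζ₀ 1 with hx₁
  have hRx : ¬ (p : ℤ) ∣ ∑ ζ ∈ bset b, x₁ ζ * R ζ := by
    have : ∑ ζ ∈ bset b, x₁ ζ * R ζ = R ζ₀ := by
      rw [Finset.sum_eq_single_of_mem ζ₀ hζ₀]
      · rw [hx₁, Pi.single_eq_same, one_mul]
      · intro ζ _ hne
        rw [hx₁, Pi.single_eq_of_ne hne, zero_mul]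
    rw [this]
    exact hRζ₀
  have hxB : ¬ (p : ℤ) ∣ ∑ ζ ∈ bset b, ∑ η ∈ bset b,
      ((nn χ' ζ : ℕ) : ℤ) * x₁ η * w0 ζ η := by
    have := not_dvd_wform (bset b) w0 hpi _ δ R hrank' (fun ζ => ((nn χ' ζ : ℕ) : ℤ)) x₁
      (hDu χ' hχ' h0χ') hRx
    rwa [wform_apply] at this
  -- the data attached to the exponents
  have hJ : ∀ j ∈ JJ N, ¬ p ∣ j := by
    intro j hj
    unfold JJ at hj
    rw [Finset.mem_filter] at hj
    exact (coprime_pow_iff hp hK).mp hj.2
  have hjcop : ∀ j ∈ JJ N, (orderOf z).Coprime j := by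
    intro j hj
    rw [hn]
    exact Nat.Coprime.pow_left n ((Nat.Prime.coprime_iff_not_dvd hp).mpr (hJ j hj))
  have hord : ∀ j ∈ JJ N, orderOf (z ^ j) = p ^ n := by
    intro j hj
    rw [(hjcop j hj).orderOf_pow, hn]
  have hCu : ∀ (j : ℕ) (c : Subgroup.centralizer ({z} : Set G)),
      z ^ j * (c : G) = (c : G) * z ^ j := by
    intro j c
    have : Commute z (c : G) := hcomm c
    exact (this.pow_left j).eq
  have hcent : ∀ j ∈ JJ N, Subgroup.centralizer ({z ^ j} : Set G) ≤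
      Subgroup.centralizer ({z} : Set G) := fun j hj => centralizer_pow_le (hjcop j hj)
  -- the primitive root and the exponents of the scalars
  set ε : ℂ := Complex.exp (2 * Real.pi * Complex.I / N) with hε
  have hεp : IsPrimitiveRoot ε N := Complex.isPrimitiveRoot_exp N hNpos.ne'
  have htex : ∀ ζ : IrrCharacter (Subgroup.centralizer ({z} : Set G)), ∃ t : ℕ, t < N ∧
      ε ^ t = cc ζ := fun ζ => hεp.eq_pow_of_pow_eq_one (hcc1 ζ)
  choose tt htt1 htt using htex
  have hccconj : ∀ ζ : IrrCharacter (Subgroup.centralizer ({z} : Set G)),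
      conj (cc ζ) * cc ζ = 1 := by
    intro ζ
    have h1 : ‖cc ζ‖ = 1 := Complex.norm_eq_one_of_pow_eq_one (hcc1 ζ) hNpos.ne'
    rw [mul_comm, Complex.mul_conj, Complex.normSq_eq_norm_sq, h1]
    norm_num
  have hpowpos : ∀ (j : ℕ) (ζ : IrrCharacter (Subgroup.centralizer ({z} : Set G))),
      (ε ^ j) ^ tt ζ = cc ζ ^ j := by
    intro j ζ
    rw [← htt ζ, ← pow_mul, ← pow_mul, mul_comm]
  have hpowneg : ∀ (j : ℕ) (ζ : IrrCharacter (Subgroup.centralizer ({z} : Set G))),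
      (ε ^ j) ^ (N - tt ζ) = conj (cc ζ) ^ j := by
    intro j ζ
    have h1 : (ε ^ j) ^ (N - tt ζ) * (ε ^ j) ^ tt ζ = 1 := by
      rw [← pow_add, Nat.sub_add_cancel (htt1 ζ).le, ← pow_mul, mul_comm, pow_mul,
        hεp.pow_eq_one, one_pow]
    have h2 : conj (cc ζ) ^ j * cc ζ ^ j = 1 := by
      rw [← mul_pow, hccconj, one_pow]
    rw [hpowpos] at h1
    have hne : cc ζ ^ j ≠ 0 := by
      intro h0
      rw [h0, mul_zero] at h2
      exact zero_ne_one h2
    exact mul_right_cancel₀ hne (h1.trans h2.symm)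
  -- the polynomial
  set Rp : ℤ[X] := ∑ ζ ∈ bset b, ∑ η ∈ bset b,
    C (((nn χ ζ : ℕ) : ℤ) * ((nn χ η : ℕ) : ℤ) * w0 ζ η) * X ^ (tt ζ + (N - tt η)) with hRp
  set xx : ℕ → ℝ := fun j => (p : ℝ) ^ blockDefect p B * ∑ η ∈ bset b,
    Complex.normSq (acoef p (Subgroup.centralizer ({z} : Set G)) (z ^ j) χ η) with hxx
  have hgm : ∀ j : ℕ, ((xx j : ℝ) : ℂ) = (p : ℂ) ^ blockDefect p b *
      gmat p (Subgroup.centralizer ({z} : Set G)) (z ^ j) b χ χ := by
    intro j
    rw [gmat_self, hxx, hdd]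
    push_cast
    rfl
  have hxval : ∀ j : ℕ, ((xx j : ℝ) : ℂ) = ∑ η ∈ bset b, ((nn χ η : ℂ) * conj (cc η) ^ j) *
      ∑ ζ ∈ bset b, (nn χ ζ : ℂ) * cc ζ ^ j * (w0 ζ η : ℂ) := by
    intro j
    rw [hgm, gmat_alt (Subgroup.centralizer ({z} : Set G)) z hyC cc hcc nn hnn hM hb.1 χ χ j,
      Finset.mul_sum]
    refine Finset.sum_congr rfl fun η hη => ?_
    rw [← pow_mul_acoef_eq (Subgroup.centralizer ({z} : Set G)) z hyC cc hcc nn hnn hM hb.1 w0 hw0
      χ j (mem_bset.mp hη)]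
    ring
  have hx : ∀ j ∈ JJ N, aeval (ε ^ j) Rp = ((xx j : ℝ) : ℂ) := by
    intro j _
    rw [hxval, hRp, map_sum]
    simp_rw [map_sum]
    rw [Finset.sum_comm]
    refine Finset.sum_congr rfl fun η _ => ?_
    rw [Finset.mul_sum]
    refine Finset.sum_congr rfl fun ζ _ => ?_
    rw [map_mul, aeval_C, map_pow, aeval_X, pow_add, hpowpos, hpowneg]
    simp only [eq_intCast]
    push_cast
    ring
  have hpos : ∀ j ∈ JJ N, 0 < xx j := by
    intro j hj
    have hne := sum_acoef_ne_zero (Subgroup.centralizer ({z} : Set G)) z hyC cc hcc nn hnn hM hb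
      hdd w0 hw0 K hcc1 j n (hord j hj) (hCu j) (hcent j hj) x₁ hχ' h0χ' hxB hχ
    obtain ⟨η, hη, hη0⟩ := Finset.exists_ne_zero_of_sum_ne_zero hne
    have hac : acoef p (Subgroup.centralizer ({z} : Set G)) (z ^ j) χ η ≠ 0 :=
      right_ne_zero_of_mul hη0
    rw [hxx]
    apply mul_pos (pow_pos (by exact_mod_cast hp.pos) _)
    apply lt_of_lt_of_le (Complex.normSq_pos.mpr hac)
    exact Finset.single_le_sum (f := fun η => Complex.normSq
      (acoef p (Subgroup.centralizer ({z} : Set G)) (z ^ j) χ η))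
      (fun i _ => Complex.normSq_nonneg _) hη
  have hloc : ∀ j ∈ JJ N, MemLocalRing M (((xx j : ℝ) : ℂ) /
      (p : ℂ) ^ blockHeight p B (χ : G → ℂ)) := by
    intro j hj
    rw [hgm, gmat_alt (Subgroup.centralizer ({z} : Set G)) z hyC cc hcc nn hnn hM hb.1 χ χ j,
      Finset.mul_sum, Finset.sum_div]
    refine memLocalRing_sum hM' _ _ fun η hη => ?_
    have h1 := memLocalRing_pow_acoef_div (Subgroup.centralizer ({z} : Set G)) z hyC cc hcc nn hnn
      hM hb hdd w0 hw0 K hcc1 j n (hord j hj) (hCu j) (hcent j hj) hχ' h0χ' hχ (mem_bset.mp hη)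
    have h2 : (p : ℂ) ^ blockDefect p b * ((nn χ η : ℂ) * conj (cc η) ^ j *
        acoef p (Subgroup.centralizer ({z} : Set G)) (z ^ j) χ η) /
        (p : ℂ) ^ blockHeight p B (χ : G → ℂ) =
        ((nn χ η : ℂ) * conj (cc η) ^ j) * ((p : ℂ) ^ blockDefect p b *
          acoef p (Subgroup.centralizer ({z} : Set G)) (z ^ j) χ η /
            (p : ℂ) ^ blockHeight p B (χ : G → ℂ)) := by
      ring
    rw [h2]
    refine memLocalRing_mul hM' (memLocalRing_mul hM' (memLocalRing_natCast hM' _) ?_) h1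
    have h3 : MemLocalIdeal M (conj (cc η) ^ j - 1) := by
      apply Cfsg.Agent.Lib.Helper77_PRoots.memLocalIdeal_sub_one_of_pow_eq_one hM
        (conj (cc η) ^ j) K
      rw [← pow_mul, mul_comm, pow_mul, ← map_pow, hcc1, map_one, one_pow]
    have h4 := memLocalRing_add hM' (memLocalRing_of_memLocalIdeal h3) (memLocalRing_one hM')
    rwa [sub_add_cancel] at h4
  have hmain := card_mul_pow_le_sum hM hNpos hεp Rp (blockHeight p B (χ : G → ℂ)) xx hx hpos hloc
  rw [Finset.mul_sum]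
  exact hmain

end Cfsg.Agent.Lib.Helper82_ContribLower
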