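import Mathlib
import Cfsg.Prelude.Def_Characters
import Cfsg.Agent.Lib.Helper79_Linear
import Cfsg.Agent.Lib.Helper81_Twist

/-!
# Linear characters of an abelian quotient (helper82)

Let `π : G → A` be a surjective homomorphism onto a finite abelian group with kernel `N`.

* `sum_dual_apply`: `∑_φ φ a = |A|` if `a = 1` and `0` otherwise (`φ` over the dual group of `A`);
* `lam π φ`: the linear character `φ ∘ π` of `G`;
* `sum_classInner_lam_mul`: `∑_φ [(φ ∘ π) f, h]_G = [f|_N, h|_N]_N`;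
* `classInner_res_self_eq_one`: if no nontrivial `φ ∘ π` fixes the irreducible character `χ`, then
  `χ|_N` has norm one.
-/

set_option autoImplicit false

namespace Cfsg.Agent.Lib.Helper82_DualQuot

open Cfsg
open scoped ComplexConjugate

section Dual

variable {A : Type*} [CommGroup A] [Finite A]

theorem neZero_exponent : NeZero ((Monoid.exponent A : ℕ) : ℂ) := by
  have h : Monoid.exponent A ≠ 0 := Monoid.exponent_ne_zero_of_finite
  exact ⟨by exact_mod_cast h⟩

theorem card_dual : Nat.card (A →* ℂˣ) = Nat.card A := by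
  have := neZero_exponent (A := A)
  exact CommGroup.card_monoidHom_of_hasEnoughRootsOfUnity A ℂ

theorem exists_dual_ne_one {a : A} (ha : a ≠ 1) : ∃ φ : A →* ℂˣ, φ a ≠ 1 := by
  have := neZero_exponent (A := A)
  exact CommGroup.exists_apply_ne_one_of_hasEnoughRootsOfUnity A ℂ ha

/-- Orthogonality for the dual group. -/
theorem sum_dual_apply [Fintype (A →* ℂˣ)] [DecidableEq A] (a : A) :
    ∑ φ : A →* ℂˣ, ((φ a : ℂˣ) : ℂ) = if a = 1 then (Nat.card A : ℂ) else 0 := by
  split_ifs with ha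
  · subst ha
    simp only [map_one, Units.val_one, Finset.sum_const, Finset.card_univ, nsmul_eq_mul, mul_one]
    rw [← card_dual (A := A), Nat.card_eq_fintype_card]
  · obtain ⟨ψ, hψ⟩ := exists_dual_ne_one ha
    have h1 : ∑ φ : A →* ℂˣ, ((φ a : ℂˣ) : ℂ) =
        ((ψ a : ℂˣ) : ℂ) * ∑ φ : A →* ℂˣ, ((φ a : ℂˣ) : ℂ) := by
      rw [Finset.mul_sum]
      refine (Fintype.sum_equiv (Equiv.mulLeft ψ) _ _ fun φ => ?_).symm
      simp [MonoidHom.mul_apply]
    have h2 : (((ψ a : ℂˣ) : ℂ) - 1) * ∑ φ : A →* ℂˣ, ((φ a : ℂˣ) : ℂ) = 0 := by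
      rw [sub_mul, one_mul, ← h1, sub_self]
    rcases mul_eq_zero.mp h2 with h | h
    · exfalso
      apply hψ
      apply Units.ext
      rw [Units.val_one]
      exact sub_eq_zero.mp h
    · exact h

end Dual

section Quot

variable {G : Type*} [Group G] {A : Type*} [CommGroup A] (π : G →* A)

/-- The linear character `φ ∘ π`. -/
noncomputable def lam (φ : A →* ℂˣ) : G → ℂ := fun g => ((φ (π g) : ℂˣ) : ℂ)

theorem lam_apply (φ : A →* ℂˣ) (g : G) : lam π φ g = ((φ (π g) : ℂˣ) : ℂ) := rfl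

theorem lam_isIrrCharacter (φ : A →* ℂˣ) : IsIrrCharacter G (lam π φ) :=
  Cfsg.Agent.Lib.Helper79_Linear.isIrrCharacter_of_hom (φ.comp π)

theorem lam_one (φ : A →* ℂˣ) : lam π φ 1 = 1 := by
  simp [lam_apply]

theorem lam_of_ker (φ : A →* ℂˣ) {g : G} (hg : π g = 1) : lam π φ g = 1 := by
  simp [lam_apply, hg]

theorem lam_mul (φ : A →* ℂˣ) (g h : G) : lam π φ (g * h) = lam π φ g * lam π φ h := by
  simp [lam_apply]

theorem lam_one_hom : lam π (1 : A →* ℂˣ) = fun _ => 1 := by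
  funext g
  simp [lam_apply]

theorem lam_mul_hom (φ ψ : A →* ℂˣ) : lam π (φ * ψ) = lam π φ * lam π ψ := by
  funext g
  simp [lam_apply, MonoidHom.mul_apply]

theorem lam_inv_mul (φ : A →* ℂˣ) : lam π φ⁻¹ * lam π φ = fun _ => 1 := by
  have h : φ⁻¹ * φ = 1 := inv_mul_cancel φ
  rw [← lam_mul_hom, h, lam_one_hom]

theorem lam_mul_isIrrCharacter [Finite G] (φ : A →* ℂˣ) {χ : G → ℂ} (hχ : IsIrrCharacter G χ) :
    IsIrrCharacter G (lam π φ * χ) :=
  Cfsg.Agent.Lib.Helper81_Twist.isIrrCharacter_linear_mul (lam_isIrrCharacter π φ) (lam_one π φ) hχ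

variable [Fintype G] [Finite A] (N : Subgroup G) [Fintype N]

/-- `∑_φ [(φ ∘ π) f, h]_G = [f|_N, h|_N]_N`. -/
theorem sum_classInner_lam_mul [Fintype (A →* ℂˣ)] (hker : ∀ g : G, π g = 1 ↔ g ∈ N)
    (hcard : Nat.card A = N.index) (f h : G → ℂ) :
    ∑ φ : A →* ℂˣ, classInner (lam π φ * f) h =
      classInner (fun n : N => f n) (fun n : N => h n) := by
  classical
  unfold classInner
  rw [← Finset.mul_sum, Finset.sum_comm]
  have h1 : ∀ g : G, ∑ φ : A →* ℂˣ, (lam π φ * f) g * conj (h g) =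
      (if g ∈ N then (Nat.card A : ℂ) else 0) * (f g * conj (h g)) := by
    intro g
    simp only [Pi.mul_apply, lam_apply]
    have h2 : ∀ φ : A →* ℂˣ, ((φ (π g) : ℂˣ) : ℂ) * f g * conj (h g) =
        ((φ (π g) : ℂˣ) : ℂ) * (f g * conj (h g)) := fun φ => by ring
    rw [Finset.sum_congr rfl fun φ _ => h2 φ, ← Finset.sum_mul, sum_dual_apply]
    congr 1
    by_cases hg : g ∈ N
    · rw [if_pos ((hker g).mpr hg), if_pos hg]
    · rw [if_neg (fun hh => hg ((hker g).mp hh)), if_neg hg]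
  rw [Finset.sum_congr rfl fun g _ => h1 g]
  simp only [ite_mul, zero_mul]
  rw [← Finset.sum_filter, ← Finset.mul_sum]
  have h3 : ∑ g ∈ Finset.univ.filter (fun g : G => g ∈ N), f g * conj (h g) =
      ∑ n : N, f n * conj (h n) := by
    rw [← Finset.sum_subtype (Finset.univ.filter (fun g : G => g ∈ N)) (fun g => by simp)
      (fun g => f g * conj (h g))]
  rw [h3, ← mul_assoc]
  congr 1
  have hG : (Nat.card G : ℂ) = (Nat.card N : ℂ) * (Nat.card A : ℂ) := by
    rw [hcard]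
    exact_mod_cast (Subgroup.card_mul_index N).symm
  have hN0 : (Nat.card N : ℂ) ≠ 0 := by exact_mod_cast (Nat.card_pos (α := N)).ne'
  have hA0 : (Nat.card A : ℂ) ≠ 0 := by exact_mod_cast (Nat.card_pos (α := A)).ne'
  rw [hG]
  field_simp

/-- If no nontrivial `φ ∘ π` fixes the irreducible character `χ`, then `χ|_N` has norm one. -/
theorem classInner_res_self_eq_one (hker : ∀ g : G, π g = 1 ↔ g ∈ N)
    (hcard : Nat.card A = N.index) {χ : G → ℂ} (hχ : IsIrrCharacter G χ)
    (hfix : ∀ φ : A →* ℂˣ, lam π φ * χ = χ → φ = 1) :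
    classInner (fun n : N => χ n) (fun n : N => χ n) = 1 := by
  classical
  have := Fintype.ofFinite (A →* ℂˣ)
  rw [← sum_classInner_lam_mul π N hker hcard χ χ]
  rw [Finset.sum_eq_single (1 : A →* ℂˣ)]
  · rw [lam_one_hom]
    have : (fun _ : G => (1 : ℂ)) * χ = χ := by
      funext g
      simp
    rw [this]
    exact Cfsg.Agent.Lib.Helper3_CharOrtho.classInner_self_of_isIrrCharacter hχ
  · intro φ _ hφ
    rw [Cfsg.Agent.Lib.Helper3_CharOrtho.classInner_irr (lam_mul_isIrrCharacter π φ hχ) hχ,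
      if_neg (fun h => hφ (hfix φ h))]
  · intro h
    exact absurd (Finset.mem_univ _) h

end Quot

end Cfsg.Agent.Lib.Helper82_DualQuot
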