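import Mathlib
import Cfsg.Agent.Lib.Helper68_EA2OpDefs

set_option autoImplicit false
set_option linter.unusedSectionVars false
set_option linter.unusedVariables false

/-!
# S4625 market `ea2_packages` (architect helper68), package OP-END
-/

namespace Cfsg.Agent.Lib.Helper82_EA2_OP_END

open Matrix Cfsg.Agent.Lib.Helper68_MatGrp Cfsg.Agent.Lib.Helper68_StOpDefs
  Cfsg.Agent.Lib.Helper27_StOp_Asm Cfsg.Agent.Lib.Helper68_EA2 Cfsg.Agent.Lib.Helper68_EA2Peel
  Cfsg.Agent.Lib.Helper68_EA2OpDefs

variable {m : ℕ} {F : Type*} [Field F] [Fintype F]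

/-- **OP-END** (size S).  All columns are identity columns, so `φ m F x = 1 = φ m F 1`; `φ_injective`. -/
theorem op_end (x : GO m F) (hxk : x ∈ CkOp (m := m) (F := F) m) : x = 1 := by
  apply φ_injective
  rw [map_one]
  ext b c
  rcases c with i | i
  · exact (hxk i i.2 b).1
  · exact (hxk i i.2 b).2

end Cfsg.Agent.Lib.Helper82_EA2_OP_END
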