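import Mathlib
import Cfsg.Agent.Lib.Helper68_EA2OpDefs

set_option autoImplicit false
set_option linter.unusedSectionVars false
set_option linter.unusedVariables false

/-!
# S4625 market `ea2_packages` (architect helper68), package OP-SUB
-/

namespace Cfsg.Agent.Lib.Helper82_EA2_OP_SUB

open Matrix Cfsg.Agent.Lib.Helper68_MatGrp Cfsg.Agent.Lib.Helper68_StOpDefs
  Cfsg.Agent.Lib.Helper27_StOp_Asm Cfsg.Agent.Lib.Helper68_EA2 Cfsg.Agent.Lib.Helper68_EA2Peel
  Cfsg.Agent.Lib.Helper68_EA2OpDefs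

variable {m : ℕ} {F : Type*} [Field F] [Fintype F]

/-- **OP-SUB** (size S).  `lx a c t` (`LxOK a c`, `ht a < ht c`) lies in the unitriangular group. -/
theorem op_sub (hm : 3 ≤ m) : posSetOp m F ⊆ (UUop m F : Set (GO m F)) := by
  rintro g ⟨a, c, t, h, hlt, rfl⟩
  show lx a c t ∈ UUop m F
  rw [mem_UU]
  refine ⟨Cfsg.Agent.Lib.Helper31_StOp_XB.lx_mem_Boo hm h hlt t, fun x => ?_⟩
  rw [lx_val hm h]
  unfold lxM
  have hac : a ≠ c := fun e => h.1 e.symm
  have hoc : op c ≠ op a := fun e => h.1 (by rw [← op_op c, e, op_op])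
  rw [Matrix.sub_apply, Matrix.add_apply, Matrix.one_apply_eq, Matrix.single_apply,
    Matrix.single_apply, if_neg, if_neg]
  · simp
  · rintro ⟨h1, h2⟩
    exact hoc (h1.trans h2.symm)
  · rintro ⟨h1, h2⟩
    exact hac (h1.trans h2.symm)

end Cfsg.Agent.Lib.Helper82_EA2_OP_SUB
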