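import Mathlib
import Cfsg.Agent.Lib.Helper94_FrmDefs2
import Cfsg.Agent.Lib.Helper9_S2151_CNT
import Cfsg.Agent.Lib.Helper14_PSULocal1
import Cfsg.Agent.Lib.Helper91_UQ_FROB

/-!
# S5655 (frames), FR market (architect helper94), package FR-Q2A:
`|F| = 4`: nonzero scalars have norm one, the skew scalars are `0, 1`, and the transvections of
the isotropic vectors of support two are monomial.
-/

set_option autoImplicit false
set_option linter.unusedSectionVars false
set_option linter.unusedVariables false

namespace Cfsg.Agent.Lib.Helper82_FR_Q2A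

open Module Cfsg.Agent.Lib.Helper94_Symp Cfsg.Agent.Lib.Helper94_Herm
  Cfsg.Agent.Lib.Helper13_PSUSimple Cfsg.Agent.Lib.Helper27_UQDefs
  Cfsg.Agent.Lib.Helper94_FrmDefs Cfsg.Agent.Lib.Helper94_UDDefs
  Cfsg.Agent.Lib.Helper94_FrmDefs2 Cfsg.Agent.Lib.Helper27_UQ_KISO
  Cfsg.Agent.Lib.Helper94_HermTrans

section field

variable {F : Type*} [Field F] [Finite F] {σ : F →+* F}

/-- a field with four elements has characteristic two -/
theorem two_eq_zero_of_card_four (hF4 : Nat.card F = 4) : (2 : F) = 0 := by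
  classical
  have : Fintype F := Fintype.ofFinite F
  have h4 : ((Fintype.card F : ℕ) : F) = 0 := Nat.cast_card_eq_zero F
  rw [← Nat.card_eq_fintype_card, hF4] at h4
  have h22 : (2 : F) * 2 = 0 := by
    have : ((4 : ℕ) : F) = 2 * 2 := by norm_num
    rw [← this]
    exact h4
  rcases mul_self_eq_zero.mp h22 with h
  exact h

theorem cube_eq_one_of_card_four (hF4 : Nat.card F = 4) {a : F} (ha : a ≠ 0) : a ^ 3 = 1 := by
  classical
  have : Fintype F := Fintype.ofFinite F
  have h := FiniteField.pow_card_sub_one_eq_one a ha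
  rw [← Nat.card_eq_fintype_card, hF4] at h
  exact h

theorem sigma_eq_sq (hσ : Invol σ) (hF4 : Nat.card F = 4) (x : F) : σ x = x ^ 2 :=
  Cfsg.Agent.Lib.Helper91_UQ_FROB.FROB hσ (q := 2) (by rw [hF4]; norm_num) x

theorem norm_one_of_card_four (hσ : Invol σ) (hF4 : Nat.card F = 4) {a : F} (ha : a ≠ 0) :
    a * σ a = 1 := by
  rw [sigma_eq_sq hσ hF4, ← pow_succ', cube_eq_one_of_card_four hF4 ha]

theorem skew_of_card_four (hσ : Invol σ) (hF4 : Nat.card F = 4) {c : F} (hc : σ c = -c) :
    c = 0 ∨ c = 1 := by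
  have h2 := two_eq_zero_of_card_four hF4
  have hneg : -c = c := by linear_combination (-c) * h2
  rw [sigma_eq_sq hσ hF4, hneg] at hc
  have : c * (c - 1) = 0 := by linear_combination hc
  rcases mul_eq_zero.mp this with h | h
  · left
    exact h
  · right
    exact sub_eq_zero.mp h

end field

variable {F W : Type*} [Field F] [AddCommGroup W] [Module F W] [Finite F] [FiniteDimensional F W]
variable {σ : F →+* F} {B : W →ₗ[F] W →ₛₗ[σ] F}
variable {ι : Type*} [Fintype ι] [DecidableEq ι] {e : ι → W} {L : Subgroup (W ≃ₗ[F] W)}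

/-- the pairing of a frame vector with a vector of support two -/
theorem B_frame_pair (he : OFrame B e) (i j : ι) (hij : i ≠ j) (a b : F) (k : ι) :
    B (e k) (a • e i + b • e j) = (if k = i then σ a else 0) + (if k = j then σ b else 0) := by
  simp only [map_add, map_smulₛₗ, smul_eq_mul]
  by_cases hki : k = i
  · subst hki
    rw [he.unit, he.orth k j hij, if_pos rfl, if_neg hij]
    ring
  · by_cases hkj : k = j
    · subst hkj
      rw [he.unit, he.orth k i hki, if_neg hki, if_pos rfl]
      ring
    · rw [he.orth k i hki, he.orth k j hkj, if_neg hki, if_neg hkj]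
      ring

/-- FR-Q2A (M). -/
theorem Q2A (hC : FCtx B e L) (hF4 : Nat.card F = 4) :
    (∀ a : F, a ≠ 0 → a * σ a = 1) ∧ (∀ c : F, σ c = -c → c = 0 ∨ c = 1) ∧
    (∀ i j : ι, i ≠ j → ∀ a b : F, a ≠ 0 → b ≠ 0 → a • e i + b • e j ∈ UU B L) := by
  have hσ := hC.hσ
  have hB := hC.hB
  have he := hC.he
  have h2 := two_eq_zero_of_card_four hF4
  have hn : ∀ a : F, a ≠ 0 → a * σ a = 1 := fun a ha => norm_one_of_card_four hσ hF4 ha
  have hs : ∀ c : F, σ c = -c → c = 0 ∨ c = 1 := fun c hc => skew_of_card_four hσ hF4 hc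
  refine ⟨hn, hs, ?_⟩
  intro i j hij a b ha hb
  have hp := B_frame_pair he i j hij a b
  have huu : B (a • e i + b • e j) (a • e i + b • e j) = 0 := by
    rw [self_add hB, self_smul, self_smul, he.unit, he.unit, hn a ha, hn b hb]
    have h0 : B (a • e i) (b • e j) = 0 := by
      simp only [map_smul, map_smulₛₗ, LinearMap.smul_apply, smul_eq_mul, he.orth i j hij,
        mul_zero]
    rw [h0, map_zero]
    linear_combination h2
  refine ⟨huu, ?_⟩
  intro c hc
  rcases hs c hc with rfl | rfl
  · have h1 : utv B (a • e i + b • e j) 0 = 1 := by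
      ext x
      rw [utv_apply B huu]
      simp
    rw [h1]
    exact L.one_mem
  · apply hC.hML
    rw [mem_Mono]
    refine ⟨utv_mem_uG hB _ hc, Equiv.swap i j, ?_⟩
    have hσa : σ a ≠ 0 := (map_ne_zero σ).2 ha
    have hσb : σ b ≠ 0 := (map_ne_zero σ).2 hb
    intro k
    by_cases hki : k = i
    · subst hki
      refine ⟨σ a * b, mul_ne_zero hσa hb, ?_⟩
      rw [Equiv.swap_apply_left, utv_apply B huu, one_mul, hp k, if_pos rfl, if_neg hij, add_zero,
        smul_add, smul_smul, smul_smul, ← add_assoc]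
      have h3 : σ a * a = 1 := by rw [mul_comm]; exact hn a ha
      rw [h3]
      have h4 : e k + (1 : F) • e k = 0 := by
        rw [one_smul, ← two_smul F (e k), h2, zero_smul]
      rw [h4, zero_add]
    · by_cases hkj : k = j
      · subst hkj
        refine ⟨σ b * a, mul_ne_zero hσb ha, ?_⟩
        rw [Equiv.swap_apply_right, utv_apply B huu, one_mul, hp k, if_neg hki, if_pos rfl,
          zero_add, smul_add, smul_smul, smul_smul]
        have h3 : σ b * b = 1 := by rw [mul_comm]; exact hn b hb
        rw [h3]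
        have h4 : e k + (1 : F) • e k = 0 := by
          rw [one_smul, ← two_smul F (e k), h2, zero_smul]
        rw [add_comm ((σ b * a) • e i), ← add_assoc, h4, zero_add]
      · refine ⟨1, one_ne_zero, ?_⟩
        rw [Equiv.swap_apply_of_ne_of_ne hki hkj, utv_apply B huu, hp k, if_neg hki, if_neg hkj,
          add_zero, mul_zero, zero_smul, add_zero, one_smul]

end Cfsg.Agent.Lib.Helper82_FR_Q2A
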