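import Mathlib
import Cfsg.Agent.Lib.Helper94_FrmDefs2
import Cfsg.Agent.Lib.Helper9_S2151_CNT
import Cfsg.Agent.Lib.Helper14_PSULocal1
import Cfsg.Agent.Lib.Helper82_FR_Q2A

/-!
# S5655 (frames), FR market (architect helper94), package FR-Q2C:
`|F| = 4`: from a root vector of support at least four (six in the statement) to one of support four.
-/

set_option autoImplicit false
set_option linter.unusedSectionVars false
set_option linter.unusedVariables false

namespace Cfsg.Agent.Lib.Helper82_FR_Q2C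

open Module Cfsg.Agent.Lib.Helper94_Symp Cfsg.Agent.Lib.Helper94_Herm
  Cfsg.Agent.Lib.Helper13_PSUSimple Cfsg.Agent.Lib.Helper27_UQDefs
  Cfsg.Agent.Lib.Helper94_FrmDefs Cfsg.Agent.Lib.Helper94_UDDefs
  Cfsg.Agent.Lib.Helper94_FrmDefs2 Cfsg.Agent.Lib.Helper27_UQ_KISO
  Cfsg.Agent.Lib.Helper94_HermTrans Cfsg.Agent.Lib.Helper82_FR_Q2A

variable {F W : Type*} [Field F] [AddCommGroup W] [Module F W] [Finite F] [FiniteDimensional F W]
variable {σ : F →+* F} {B : W →ₗ[F] W →ₛₗ[σ] F}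
variable {ι : Type*} [Fintype ι] [DecidableEq ι] {e : ι → W} {L : Subgroup (W ≃ₗ[F] W)}

/-- a quasi-reflection at a frame vector -/
theorem qr_frame_apply (he : OFrame B e) (k : ι) {ζ : F} (hζ : ζ ≠ 0) (w : W) :
    qr B (e k) ζ w = w + ((ζ - 1) * B w (e k)) • e k := by
  rw [qr_apply B (e k) hζ, he.unit, inv_one, mul_one]

/-- the coordinates of `w + c • e k` -/
theorem coord_add_smul (he : OFrame B e) (w : W) (c : F) (k i : ι) :
    B (w + c • e k) (e i) = B w (e i) + (if k = i then c else 0) := by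
  rw [map_add, LinearMap.add_apply, map_smul, LinearMap.smul_apply, smul_eq_mul]
  by_cases hki : k = i
  · subst hki
    rw [he.unit, if_pos rfl, mul_one]
  · rw [he.orth k i hki, if_neg hki, mul_zero]

/-- quasi-reflections at frame vectors with norm-one multiplier are monomial -/
theorem qr_frame_mem_Mono (hB : IsHerm B) (he : OFrame B e) (k : ι) {ζ : F} (hζ : ζ * σ ζ = 1) :
    qr B (e k) ζ ∈ Mono B e := by
  have hζ0 : ζ ≠ 0 := by
    rintro rfl
    rw [zero_mul] at hζ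
    exact zero_ne_one hζ
  rw [mem_Mono]
  refine ⟨qr_mem_uG hB (e k) hζ, 1, fun i => ?_⟩
  by_cases hik : i = k
  · subst hik
    refine ⟨ζ, hζ0, ?_⟩
    rw [Equiv.Perm.one_apply]
    exact qr_self B (by rw [he.unit]; exact one_ne_zero) hζ0
  · refine ⟨1, one_ne_zero, ?_⟩
    rw [Equiv.Perm.one_apply, one_smul]
    exact qr_fix B (e k) ζ (he.orth i k hik)

/-- four distinct elements of a finset with at least four elements -/
theorem exists_four {α : Type*} [DecidableEq α] (s : Finset α) (h : 4 ≤ s.card) :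
    ∃ a b c d : α, a ∈ s ∧ b ∈ s ∧ c ∈ s ∧ d ∈ s ∧ a ≠ b ∧ a ≠ c ∧ a ≠ d ∧ b ≠ c ∧ b ≠ d ∧
      c ≠ d := by
  obtain ⟨t, hts, ht⟩ := Finset.exists_subset_card_eq h
  obtain ⟨a, b, c, d, hab, hac, had, hbc, hbd, hcd, rfl⟩ := Finset.card_eq_four.mp ht
  refine ⟨a, b, c, d, hts (by simp), hts (by simp), hts (by simp), hts (by simp), hab, hac, had,
    hbc, hbd, hcd⟩

/-- FR-Q2C (M). -/
theorem Q2C (hC : FCtx B e L) (hF4 : Nat.card F = 4) {u : W} (hu : u ∈ UU B L)
    (h6 : 6 ≤ (supp B e u).card) : ∃ u' ∈ UU B L, (supp B e u').card = 4 := by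
  classical
  have hσ := hC.hσ
  have hB := hC.hB
  have he := hC.he
  have h2 := two_eq_zero_of_card_four hF4
  have hn : ∀ a : F, a ≠ 0 → a * σ a = 1 := fun a ha => norm_one_of_card_four hσ hF4 ha
  -- a primitive cube root of unity
  obtain ⟨ω, hω⟩ := hσ.ne_id
  have hω0 : ω ≠ 0 := by
    rintro rfl
    exact hω (map_zero σ)
  have hω1 : ω ≠ 1 := by
    rintro rfl
    exact hω (map_one σ)
  have hω3 : ω ^ 3 = 1 := cube_eq_one_of_card_four hF4 hω0
  have hωq : ω ^ 2 + ω + 1 = 0 := by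
    have h : (ω - 1) * (ω ^ 2 + ω + 1) = 0 := by linear_combination hω3
    rcases mul_eq_zero.mp h with h | h
    · exact absurd (sub_eq_zero.mp h) hω1
    · exact h
  have hω2 : ω ^ 2 ≠ 0 := pow_ne_zero 2 hω0
  have hω21 : ω ^ 2 ≠ 1 := by
    intro h
    apply hω1
    calc ω = ω * 1 := (mul_one ω).symm
      _ = ω * ω ^ 2 := by rw [h]
      _ = ω ^ 3 := by ring
      _ = 1 := hω3
  -- four indices of the support
  obtain ⟨k1, k2, k3, k4, m1, m2, m3, m4, h12, h13, h14, h23, h24, h34⟩ :=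
    exists_four (supp B e u) (by omega)
  rw [mem_supp] at m1 m2 m3 m4
  -- the four quasi-reflections
  have hL : ∀ (k : ι) (ζ : F), ζ ≠ 0 → qr B (e k) ζ ∈ L := fun k ζ hζ =>
    hC.hML (qr_frame_mem_Mono hB he k (hn ζ hζ))
  have hu4 := UU_map hC.hLU (hL k4 (ω ^ 2) hω2) hu
  have hu3 := UU_map hC.hLU (hL k3 (ω ^ 2) hω2) hu4
  have hu2 := UU_map hC.hLU (hL k2 (ω ^ 2) hω2) hu3
  have hu1 := UU_map hC.hLU (hL k1 ω hω0) hu2
  -- the image
  obtain ⟨c1, hc1⟩ : ∃ c1, c1 = (ω - 1) * B u (e k1) := ⟨_, rfl⟩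
  obtain ⟨c2, hc2⟩ : ∃ c2, c2 = (ω ^ 2 - 1) * B u (e k2) := ⟨_, rfl⟩
  obtain ⟨c3, hc3⟩ : ∃ c3, c3 = (ω ^ 2 - 1) * B u (e k3) := ⟨_, rfl⟩
  obtain ⟨c4, hc4⟩ : ∃ c4, c4 = (ω ^ 2 - 1) * B u (e k4) := ⟨_, rfl⟩
  have e4 : qr B (e k4) (ω ^ 2) u = u + c4 • e k4 := by
    rw [qr_frame_apply he k4 hω2, hc4]
  have e3 : qr B (e k3) (ω ^ 2) (qr B (e k4) (ω ^ 2) u) = u + c4 • e k4 + c3 • e k3 := by
    rw [qr_frame_apply he k3 hω2, e4, coord_add_smul he, if_neg h34.symm, add_zero, hc3]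
  have e2 : qr B (e k2) (ω ^ 2) (qr B (e k3) (ω ^ 2) (qr B (e k4) (ω ^ 2) u)) =
      u + c4 • e k4 + c3 • e k3 + c2 • e k2 := by
    rw [qr_frame_apply he k2 hω2, e3, coord_add_smul he, coord_add_smul he, if_neg h24.symm,
      if_neg h23.symm, add_zero, add_zero, hc2]
  have e1 : qr B (e k1) ω (qr B (e k2) (ω ^ 2) (qr B (e k3) (ω ^ 2) (qr B (e k4) (ω ^ 2) u))) =
      u + c4 • e k4 + c3 • e k3 + c2 • e k2 + c1 • e k1 := by
    rw [qr_frame_apply he k1 hω0, e2, coord_add_smul he, coord_add_smul he, coord_add_smul he,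
      if_neg h14.symm, if_neg h13.symm, if_neg h12.symm, add_zero, add_zero, add_zero, hc1]
  rw [e1] at hu1
  obtain ⟨u', hu'⟩ : ∃ u', u' = u + c4 • e k4 + c3 • e k3 + c2 • e k2 + c1 • e k1 := ⟨_, rfl⟩
  rw [← hu'] at hu1
  -- the coefficients are nonzero
  have hω1' : ω - 1 ≠ 0 := sub_ne_zero.mpr hω1
  have hω21' : ω ^ 2 - 1 ≠ 0 := sub_ne_zero.mpr hω21
  have hc1n : c1 ≠ 0 := by rw [hc1]; exact mul_ne_zero hω1' m1
  have hc2n : c2 ≠ 0 := by rw [hc2]; exact mul_ne_zero hω21' m2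
  have hc3n : c3 ≠ 0 := by rw [hc3]; exact mul_ne_zero hω21' m3
  have hc4n : c4 ≠ 0 := by rw [hc4]; exact mul_ne_zero hω21' m4
  -- the pairing of `u` and `u'`
  have hpair : B u u' = 1 := by
    rw [hu']
    simp only [map_add, map_smulₛₗ, smul_eq_mul]
    rw [hu.1, hc1, hc2, hc3, hc4]
    simp only [map_mul, map_sub, map_one, map_pow]
    have n1 := hn _ m1
    have n2 := hn _ m2
    have n3 := hn _ m3
    have n4 := hn _ m4
    have hσω : σ ω ^ 2 + σ ω + 1 = 0 := by
      have := congrArg σ hωq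
      simpa only [map_add, map_pow, map_one, map_zero] using this
    linear_combination (σ ω ^ 2 - 1) * n4 + (σ ω ^ 2 - 1) * n3 + (σ ω ^ 2 - 1) * n2 +
      (σ ω - 1) * n1 + hσω + (σ ω ^ 2 - 3) * h2
  have hne : B u u' ≠ 0 := by
    rw [hpair]
    exact one_ne_zero
  have hiso : B (u + u') (u + u') = 0 := by
    rw [self_add hB, hu.1, hu1.1, hpair, map_one]
    linear_combination h2
  have hsum := UU_add hσ hB hC.hLU hu hu1 hne hiso
  -- the sum
  have huu : u + u = 0 := by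
    rw [← two_smul F u, h2, zero_smul]
  have hz : u + u' = c4 • e k4 + c3 • e k3 + c2 • e k2 + c1 • e k1 := by
    rw [hu']
    have : u + (u + c4 • e k4 + c3 • e k3 + c2 • e k2 + c1 • e k1) =
        (u + u) + (c4 • e k4 + c3 • e k3 + c2 • e k2 + c1 • e k1) := by abel
    rw [this, huu, zero_add]
  refine ⟨u + u', hsum, ?_⟩
  have hco : ∀ i, B (u + u') (e i) = (if k4 = i then c4 else 0) + (if k3 = i then c3 else 0) +
      (if k2 = i then c2 else 0) + (if k1 = i then c1 else 0) := by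
    intro i
    rw [hz, coord_add_smul he, coord_add_smul he, coord_add_smul he]
    congr 3
    rw [map_smul, LinearMap.smul_apply, smul_eq_mul]
    by_cases hki : k4 = i
    · subst hki
      rw [he.unit, if_pos rfl, mul_one]
    · rw [he.orth k4 i hki, if_neg hki, mul_zero]
  have hsupp : supp B e (u + u') = {k1, k2, k3, k4} := by
    ext i
    rw [mem_supp, hco i]
    simp only [Finset.mem_insert, Finset.mem_singleton]
    constructor
    · intro h
      by_contra hcon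
      push Not at hcon
      apply h
      rw [if_neg (Ne.symm hcon.2.2.2), if_neg (Ne.symm hcon.2.2.1), if_neg (Ne.symm hcon.2.1),
        if_neg (Ne.symm hcon.1)]
      simp
    · rintro (rfl | rfl | rfl | rfl)
      · rw [if_neg h14.symm, if_neg h13.symm, if_neg h12.symm, if_pos rfl]
        simpa using hc1n
      · rw [if_neg h24.symm, if_neg h23.symm, if_pos rfl, if_neg h12]
        simpa using hc2n
      · rw [if_neg h34.symm, if_pos rfl, if_neg h23, if_neg h13]
        simpa using hc3n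
      · rw [if_pos rfl, if_neg h34, if_neg h24, if_neg h14]
        simpa using hc4n
  rw [hsupp]
  rw [Finset.card_insert_of_notMem, Finset.card_insert_of_notMem, Finset.card_insert_of_notMem,
    Finset.card_singleton]
  · simp [h34]
  · simp [h23, h24]
  · simp [h12, h13, h14]

end Cfsg.Agent.Lib.Helper82_FR_Q2C
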