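import Mathlib
import Cfsg.Prelude.Def_Local
import Cfsg.Agent.Lib.Helper52_PLength
import Cfsg.Agent.Lib.Helper76_PSolvable

/-!
# Hall–Higman along the upper `p`-series (helper82)

For a finite `p`-solvable group `G` and even `m`, a `p`-subgroup `P` of `U_{m+2} = O_{p',p,…,p}(G)`
of Sylow order in `U_{m+2}` has `C_G(P) ≤ U_{m+2}`.
-/

set_option autoImplicit false

namespace Cfsg.Agent.Lib.Helper82_UpperHH

open Cfsg Cfsg.Agent.Lib.Helper52_PLength Cfsg.Agent.Lib.Helper76_PSolvable

variable {G : Type*} [Group G] [Finite G] (p : ℕ) [Fact p.Prime]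

/-- `O_{p'}(G / A) = 1` when `A` is the preimage of `O_{p'}(G / A₀)`. -/
theorem pPrimeCore_quotient_comap (A₀ : Subgroup G) [A₀.Normal] (A : Subgroup G) [A.Normal]
    (hA : A = (pPrimeCore p (G ⧸ A₀)).comap (QuotientGroup.mk' A₀)) :
    pPrimeCore p (G ⧸ A) = ⊥ := by
  set C : Subgroup G := (pPrimeCore p (G ⧸ A)).comap (QuotientGroup.mk' A) with hC
  have hA₀A : A₀ ≤ A := by
    rw [hA]
    intro x hx
    rw [Subgroup.mem_comap, QuotientGroup.mk'_apply, (QuotientGroup.eq_one_iff x).mpr hx]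
    exact Subgroup.one_mem _
  have hAC : A ≤ C := by
    intro x hx
    rw [hC, Subgroup.mem_comap, QuotientGroup.mk'_apply, (QuotientGroup.eq_one_iff x).mpr hx]
    exact Subgroup.one_mem _
  have hCn : C.Normal := by rw [hC]; infer_instance
  have hn : (C.map (QuotientGroup.mk' A₀)).Normal :=
    Subgroup.Normal.map hCn _ (QuotientGroup.mk'_surjective A₀)
  have hcard : (Nat.card (C.map (QuotientGroup.mk' A₀))).Coprime p := by
    have h1 := Subgroup.relIndex_ker (K := C) (QuotientGroup.mk' A₀)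
    rw [QuotientGroup.ker_mk'] at h1
    rw [← h1, ← Subgroup.relIndex_mul_relIndex A₀ A C hA₀A hAC]
    apply Nat.Coprime.mul_left
    · rw [hA, relIndex_comap_mk]
      exact pPrimeCore_card_coprime p
    · rw [hC, relIndex_comap_mk]
      exact pPrimeCore_card_coprime p
  have hle := le_pPrimeCore p (C.map (QuotientGroup.mk' A₀)) hcard
  have hCA : C ≤ A := by
    rw [hA]
    intro x hx
    rw [Subgroup.mem_comap]
    exact hle (Subgroup.mem_map_of_mem _ hx)
  rw [eq_bot_iff]
  intro y hy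
  obtain ⟨x, rfl⟩ := QuotientGroup.mk'_surjective A y
  have hx : x ∈ C := by rw [hC, Subgroup.mem_comap]; exact hy
  rw [Subgroup.mem_bot, QuotientGroup.mk'_apply, QuotientGroup.eq_one_iff]
  exact hCA hx

/-- Hall–Higman 1.2.3 pulled back: if `O_{p'}(G / A) = 1`, `B` is the preimage of `O_p(G / A)` and
`P ≤ B` has Sylow order in `B`, then `C_G(P) ≤ B`. -/
theorem centralizer_le_of_sylow (hsol : IsPSolvable p G) (A : Subgroup G) [A.Normal]
    (hcore : pPrimeCore p (G ⧸ A) = ⊥) (B : Subgroup G)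
    (hB : B = (pCore p (G ⧸ A)).comap (QuotientGroup.mk' A)) (P : Subgroup G) (hPB : P ≤ B)
    (hPcard : Nat.card P = p ^ (Nat.card B).factorization p) :
    Subgroup.centralizer (P : Set G) ≤ B := by
  have hp : p.Prime := Fact.out
  have hAB : A ≤ B := by
    rw [hB]
    intro x hx
    rw [Subgroup.mem_comap, QuotientGroup.mk'_apply, (QuotientGroup.eq_one_iff x).mpr hx]
    exact Subgroup.one_mem _
  -- `A ⊔ P = B`
  have hsup : A ⊔ P = B := by
    apply le_antisymm (sup_le hAB hPB)
    rw [← Subgroup.relIndex_eq_one]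
    have h1 : (A ⊔ P).relIndex B ∣ A.relIndex B := Subgroup.relIndex_dvd_of_le_left B le_sup_left
    have h2 : (A ⊔ P).relIndex B ∣ P.relIndex B := Subgroup.relIndex_dvd_of_le_left B le_sup_right
    have h3 : ∃ a : ℕ, A.relIndex B = p ^ a := by
      rw [hB, relIndex_comap_mk]
      exact IsPGroup.iff_card.mp (pCore_isPGroup p)
    have h4 : (P.relIndex B).Coprime p := by
      have h5 : Nat.card P * P.relIndex B = Nat.card B := by
        rw [← Subgroup.relIndex_bot_left, Subgroup.relIndex_mul_relIndex ⊥ P B bot_le hPB,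
          Subgroup.relIndex_bot_left]
      have hBpos : Nat.card B ≠ 0 := (Nat.card_pos (α := B)).ne'
      have h6 : P.relIndex B = Nat.card B / p ^ (Nat.card B).factorization p := by
        rw [← hPcard, ← h5, Nat.mul_div_cancel_left _ (Nat.card_pos (α := P))]
      rw [h6]
      exact (Nat.coprime_ordCompl hp hBpos).symm
    obtain ⟨a, ha⟩ := h3
    rw [ha] at h1
    exact Nat.eq_one_of_dvd_coprimes (Nat.Coprime.pow_right a h4) h2 h1
  have hHH := centralizer_pCore_le p (isPSolvable_quotient p A hsol) hcore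
  intro c hc
  rw [hB, Subgroup.mem_comap]
  apply hHH
  rw [Subgroup.mem_centralizer_iff]
  intro y hy
  obtain ⟨x, rfl⟩ := QuotientGroup.mk'_surjective A y
  have hxB : x ∈ A ⊔ P := by
    rw [hsup, hB, Subgroup.mem_comap]
    exact hy
  rw [sup_comm, Subgroup.mem_sup_of_normal_right] at hxB
  obtain ⟨u, hu, a, ha, rfl⟩ := hxB
  have hcu : u * c = c * u := (Subgroup.mem_centralizer_iff.mp hc) u hu
  have ha1 : (QuotientGroup.mk' A) a = 1 := by
    rw [QuotientGroup.mk'_apply, QuotientGroup.eq_one_iff]; exact ha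
  rw [map_mul, ha1, mul_one, ← map_mul, ← map_mul, hcu]

/-- `O_{p'}(G / U_{m+1}) = 1` for even `m`. -/
theorem pPrimeCore_quotient_U (m : ℕ) (hm : Even m) : pPrimeCore p (G ⧸ U p G (m + 1)) = ⊥ :=
  pPrimeCore_quotient_comap p (U p G m) (U p G (m + 1)) (U_succ_even p m hm)

/-- Along the upper `p`-series of a `p`-solvable group: a subgroup of `U_{m+2}` (`m` even) of
Sylow `p`-order in `U_{m+2}` has its centralizer inside `U_{m+2}`. -/
theorem centralizer_le_U (hsol : IsPSolvable p G) (m : ℕ) (hm : Even m) (P : Subgroup G)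
    (hPB : P ≤ U p G (m + 2))
    (hPcard : Nat.card P = p ^ (Nat.card (U p G (m + 2))).factorization p) :
    Subgroup.centralizer (P : Set G) ≤ U p G (m + 2) := by
  have hodd : ¬ Even (m + 1) := by
    rw [Nat.even_add_one]; exact not_not.mpr hm
  exact centralizer_le_of_sylow p hsol (U p G (m + 1)) (pPrimeCore_quotient_U p m hm)
    (U p G (m + 2)) (U_succ_odd p (m + 1) hodd) P hPB hPcard

end Cfsg.Agent.Lib.Helper82_UpperHH
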