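import Mathlib
import Cfsg.Prelude.Def_Blocks
import Cfsg.Prelude.Def_Local
import Cfsg.Agent.S0635
import Cfsg.Agent.Lib.Helper52_PLength
import Cfsg.Agent.Lib.Helper82_CoverStep
import Cfsg.Agent.Lib.Helper82_OverSet
import Cfsg.Agent.Lib.Helper82_UpperHH

/-!
# Fong's theorem for `p`-solvable groups (helper82)

`G` finite `p`-solvable, `N = O_{p'}(G)`, `θ ∈ Irr(N)` invariant in `G`.  Climbing the upper
`p`-series `N = U_1 ≤ U_2 ≤ ⋯ ≤ U_{2k+1} = G`, the irreducible characters of each `U_i` over `θ`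
form a block of full defect (`tower`, `claim_U`), hence so do those of `G` (`fong_block`).
-/

set_option autoImplicit false
set_option linter.unusedSectionVars false

namespace Cfsg.Agent.Lib.Helper82_FongChain

open Cfsg Cfsg.Agent.Lib.Helper78_LocalRing Cfsg.Agent.Lib.Helper77_BlockBasics
  Cfsg.Agent.Lib.Helper82_CoverStep Cfsg.Agent.Lib.Helper82_OverSet
  Cfsg.Agent.Lib.Helper78_TransportBlocks Cfsg.Agent.Lib.Helper52_PLength

universe u

variable {G : Type u} [Group G] [Finite G] {p : ℕ} [Fact p.Prime] {M : Ideal AlgInt}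

/-- The conjugation bijection of a normal subgroup together with the invariance of `θ`. -/
theorem exists_sigma (N : Subgroup G) [hN : N.Normal] (θ : N → ℂ)
    (hinv : ∀ (g : G) (n : N), θ ⟨g * n * g⁻¹, hN.conj_mem n n.2 g⟩ = θ n) (g : G) :
    ∃ σ : N ≃ N, (∀ k : N, ((σ k : N) : G) = g * (k : G) * g⁻¹) ∧ ∀ k, θ (σ k) = θ k := by
  refine ⟨(MulAut.conjNormal g : N ≃* N).toEquiv, fun k => ?_, fun k => ?_⟩
  · exact MulAut.conjNormal_apply g k
  · have h1 : ((MulAut.conjNormal g : N ≃* N).toEquiv k) =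
        ⟨g * (k : G) * g⁻¹, hN.conj_mem k k.2 g⟩ := Subtype.ext (MulAut.conjNormal_apply g k)
    rw [h1]
    exact hinv g k

/-- **One step of the tower.** -/
theorem tower (hM : IsPModular p M) (N : Subgroup G) [hN : N.Normal] [Fintype N]
    (θ : IrrCharacter N)
    (hinv : ∀ (g : G) (n : N), (θ : N → ℂ) ⟨g * n * g⁻¹, hN.conj_mem n n.2 g⟩ = (θ : N → ℂ) n)
    (A B : Subgroup G) [hAn : A.Normal] (hNA : N ≤ A) (hAB : A ≤ B) [Fintype A] [Fintype B]
    (hA : IsPBlock M (overSet (Subgroup.inclusion hNA) (θ : N → ℂ)) ∧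
      ∃ ψ ∈ overSet (Subgroup.inclusion hNA) (θ : N → ℂ), ¬ p ∣ charDegree (ψ : A → ℂ))
    (hidx : (∃ a : ℕ, A.relIndex B = p ^ a) ∨ (¬ p ∣ A.relIndex B ∧
      ∀ P : Subgroup G, P ≤ A → Nat.card P = p ^ (Nat.card A).factorization p →
        ∀ c ∈ B, c ∈ Subgroup.centralizer (P : Set G) → c ∈ A)) :
    IsPBlock M (overSet (Subgroup.inclusion (hNA.trans hAB)) (θ : N → ℂ)) ∧
      ∃ ψ ∈ overSet (Subgroup.inclusion (hNA.trans hAB)) (θ : N → ℂ),
        ¬ p ∣ charDegree (ψ : B → ℂ) := by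
  classical
  set Nn : Subgroup B := A.subgroupOf B with hNn
  have hNnn : Nn.Normal := by rw [hNn]; infer_instance
  have hFN : Fintype Nn := Fintype.ofFinite Nn
  let φ : Nn ≃* A := Subgroup.subgroupOfEquivOfLe hAB
  set ι' : N →* Nn := (φ.symm : A →* Nn).comp (Subgroup.inclusion hNA) with hι'
  have hb_eq : mapBlock φ (overSet (Subgroup.inclusion hNA) (θ : N → ℂ)) =
      overSet ι' (θ : N → ℂ) := mapBlock_overSet φ _ _
  have hb : IsPBlock M (overSet ι' (θ : N → ℂ)) := by
    rw [← hb_eq]; exact isPBlock_mapBlock φ hA.1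
  have hfull : ∃ ψ₀ ∈ overSet ι' (θ : N → ℂ), ¬ p ∣ charDegree (ψ₀ : Nn → ℂ) := by
    rw [← hb_eq]; exact full_mapBlock φ hA.2
  have hcoe : ∀ k : N, (((ι' k : Nn) : B) : G) = (k : G) := fun k => rfl
  have hinvb : InvBlock Nn (overSet ι' (θ : N → ℂ)) := by
    apply invBlock_overSet Nn ι' (θ : N → ℂ)
    intro g
    obtain ⟨σ, hσ1, hσ2⟩ := exists_sigma N (θ : N → ℂ) hinv (g : G)
    refine ⟨σ, fun k => ?_, hσ2⟩
    apply Subtype.ext
    rw [hcoe, hσ1 k]
    rfl
  have hcomp : Nn.subtype.comp ι' = Subgroup.inclusion (hNA.trans hAB) := by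
    ext k
    rfl
  have key : IsPBlock M (overB Nn (overSet ι' (θ : N → ℂ))) ∧
      ∃ χ₀ ∈ overB Nn (overSet ι' (θ : N → ℂ)), ¬ p ∣ charDegree (χ₀ : B → ℂ) := by
    rcases hidx with ⟨a, ha⟩ | ⟨hcop, hcent⟩
    · exact step_pow Nn hM ⟨a, ha⟩ hb hinvb hfull
    · refine step_coprime Nn hM hcop ?_ hb hinvb hfull
      intro P hPN hPcard c hc
      rw [hNn, Subgroup.mem_subgroupOf]
      refine hcent (P.map B.subtype) ?_ ?_ c c.2 ?_
      · rintro _ ⟨x, hx, rfl⟩
        exact Subgroup.mem_subgroupOf.mp (hPN hx)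
      · rw [Subgroup.card_map_of_injective B.subtype_injective, hPcard,
          Nat.card_congr φ.toEquiv]
      · rw [Subgroup.mem_centralizer_iff]
        rintro _ ⟨x, hx, rfl⟩
        have h1 := (Subgroup.mem_centralizer_iff.mp hc) x hx
        exact congrArg Subtype.val h1
  rw [← overSet_comp_subtype Nn ι' θ, hcomp] at key
  exact key

/-- `O_{p'}(G)` lies in every later term of the upper `p`-series. -/
theorem le_U_succ (N : Subgroup G) (hNdef : N = pPrimeCore p G) (n : ℕ) : N ≤ U p G (n + 1) := by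
  have h1 : U p G 1 = pPrimeCore p G := Cfsg.Agent.S0635.upperPSeries_one p
  rw [hNdef, ← h1]
  exact U_mono p (by omega)

/-- **The characters of `U_{n+1}` over `θ` form a block of full defect.** -/
theorem claim_U (hM : IsPModular p M) (hsol : IsPSolvable p G) (N : Subgroup G) [hN : N.Normal]
    [Fintype N] (hNdef : N = pPrimeCore p G) (θ : IrrCharacter N)
    (hinv : ∀ (g : G) (n : N), (θ : N → ℂ) ⟨g * n * g⁻¹, hN.conj_mem n n.2 g⟩ = (θ : N → ℂ) n)
    (n : ℕ) : ∀ [Fintype (U p G (n + 1))],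
    IsPBlock M (overSet (Subgroup.inclusion (le_U_succ N hNdef n)) (θ : N → ℂ)) ∧
      ∃ ψ ∈ overSet (Subgroup.inclusion (le_U_succ N hNdef n)) (θ : N → ℂ),
        ¬ p ∣ charDegree (ψ : U p G (n + 1) → ℂ) := by
  have hp : p.Prime := Fact.out
  induction n with
  | zero =>
    intro _
    have hcop : (Nat.card N).Coprime p := by
      rw [hNdef]; exact Cfsg.Agent.Lib.Helper76_PSolvable.pPrimeCore_card_coprime p
    have hbase := base hM hcop θ
    have hA : IsPBlock M (overSet (Subgroup.inclusion (le_refl N)) (θ : N → ℂ)) ∧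
        ∃ ψ ∈ overSet (Subgroup.inclusion (le_refl N)) (θ : N → ℂ),
          ¬ p ∣ charDegree (ψ : N → ℂ) := hbase
    have hU1 : U p G 1 ≤ N := by
      have h1 : U p G 1 = pPrimeCore p G := Cfsg.Agent.S0635.upperPSeries_one p
      rw [hNdef, h1]
    exact tower hM N θ hinv N (U p G (0 + 1)) (le_refl N) (le_U_succ N hNdef 0) hA
      (Or.inl ⟨0, by rw [pow_zero]; exact Subgroup.relIndex_eq_one.mpr hU1⟩)
  | succ n ih =>
    intro _
    have hF : Fintype (U p G (n + 1)) := Fintype.ofFinite _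
    have hA := ih
    have hstep := stepNum_U (G := G) p (n + 1)
    have hidx : (∃ a : ℕ, (U p G (n + 1)).relIndex (U p G (n + 1 + 1)) = p ^ a) ∨
        (¬ p ∣ (U p G (n + 1)).relIndex (U p G (n + 1 + 1)) ∧
        ∀ P : Subgroup G, P ≤ U p G (n + 1) →
          Nat.card P = p ^ (Nat.card (U p G (n + 1))).factorization p →
          ∀ c ∈ U p G (n + 1 + 1), c ∈ Subgroup.centralizer (P : Set G) → c ∈ U p G (n + 1)) := by
      by_cases hev : Even (n + 1)
      · right
        rw [stepNum_even hev] at hstep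
        refine ⟨(Nat.Prime.coprime_iff_not_dvd hp).mp hstep.symm, ?_⟩
        intro P hPA hPcard c _ hc
        obtain ⟨m, rfl⟩ : ∃ m, n = m + 1 := by
          rcases n with _ | m
          · exact absurd hev (by decide)
          · exact ⟨m, rfl⟩
        have hm : Even m := by
          have h2 : Even (m + 2) := hev
          rcases h2 with ⟨r, hr⟩
          exact ⟨r - 1, by omega⟩
        exact Cfsg.Agent.Lib.Helper82_UpperHH.centralizer_le_U p hsol m hm P hPA hPcard hc
      · left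
        rw [stepNum_odd hev] at hstep
        exact hstep
    exact tower hM N θ hinv (U p G (n + 1)) (U p G (n + 1 + 1)) (le_U_succ N hNdef n)
      (U_le_succ p (n + 1)) hA hidx

/-- **Fong**: for `G` finite `p`-solvable and `θ` an invariant irreducible character of
`N = O_{p'}(G)`, the irreducible characters of `G` over `θ` form a block containing a character of
degree prime to `p`. -/
theorem fong_block [Fintype G] (hM : IsPModular p M) (hsol : IsPSolvable p G) (N : Subgroup G)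
    [hN : N.Normal] [Fintype N] (hNdef : N = pPrimeCore p G) (θ : IrrCharacter N)
    (hinv : ∀ (g : G) (n : N), (θ : N → ℂ) ⟨g * n * g⁻¹, hN.conj_mem n n.2 g⟩ = (θ : N → ℂ) n) :
    IsPBlock M (overSet N.subtype (θ : N → ℂ)) ∧
      ∃ χ ∈ overSet N.subtype (θ : N → ℂ), ¬ p ∣ charDegree (χ : G → ℂ) := by
  classical
  obtain ⟨S⟩ : Nonempty (Sylow p G) := inferInstance
  have hpl := Cfsg.Agent.S0635.result hsol S
  rw [plengthLE_iff] at hpl
  set k := Group.nilpotencyClass ↥(S : Subgroup G) with hk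
  have hF : Fintype (U p G (2 * k + 1)) := Fintype.ofFinite _
  have hA := claim_U hM hsol N hNdef θ hinv (2 * k)
  set Nn : Subgroup G := U p G (2 * k + 1) with hNn
  have hNnn : Nn.Normal := by rw [hNn]; infer_instance
  set ι' : N →* Nn := Subgroup.inclusion (le_U_succ N hNdef (2 * k)) with hι'
  have hinvb : InvBlock Nn (overSet ι' (θ : N → ℂ)) := by
    apply invBlock_overSet Nn ι' (θ : N → ℂ)
    intro g
    obtain ⟨σ, hσ1, hσ2⟩ := exists_sigma N (θ : N → ℂ) hinv g
    exact ⟨σ, fun k => hσ1 k, hσ2⟩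
  have hidx : ∃ a : ℕ, Nn.index = p ^ a := ⟨0, by rw [hpl, Subgroup.index_top, pow_zero]⟩
  have key := step_pow Nn hM hidx hA.1 hinvb hA.2
  rw [← overSet_comp_subtype Nn ι' θ] at key
  have hcomp : Nn.subtype.comp ι' = N.subtype := by
    ext k
    rfl
  rw [hcomp] at key
  exact key

end Cfsg.Agent.Lib.Helper82_FongChain
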