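import Mathlib
import Cfsg.Prelude.Def_Blocks
import Cfsg.Agent.Lib.Helper78_LocalRing
import Cfsg.Agent.Lib.Helper78_CharFacts
import Cfsg.Agent.Lib.Helper57_FrobNorm
import Cfsg.Agent.Lib.Helper77_QuotBlocks

/-!
# Blocks of `G ⧸ N` for a normal `p'`-subgroup `N` (helper82)

For a normal subgroup `N` of order prime to `p`, the inflation of a block of `G ⧸ N` is a block
of `G`:

* `infl N χ`: inflation of an irreducible character of `G ⧸ N`;
* `blockCoeff_image_infl`: the idempotent coefficients of an inflated set;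
* `exists_deflation_of_coprime`: if `ψ ∈ Irr G` lies in the block of `infl N χ`, then
  `ψ = infl N ψ'` with `ψ'` in the block of `χ`;
* `sameBlock_infl_iff`: `SameBlock M (infl N χ) (infl N ψ) ↔ SameBlock M χ ψ`.
-/

set_option autoImplicit false

namespace Cfsg.Agent.Lib.Helper82_PPrimeQuot

open Cfsg Cfsg.Agent.Lib.Helper78_LocalRing

open scoped ComplexConjugate

variable {G : Type*} [Group G]

/-- Inflation of an irreducible character of the quotient. -/
noncomputable def infl (N : Subgroup G) [N.Normal] (χ : IrrCharacter (G ⧸ N)) : IrrCharacter G :=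
  ⟨fun g => (χ : G ⧸ N → ℂ) (QuotientGroup.mk' N g),
    Cfsg.Agent.Lib.Helper57_FrobNorm.isIrrCharacter_comp_surjective (QuotientGroup.mk' N)
      (QuotientGroup.mk'_surjective N) χ.2⟩

@[simp] theorem infl_apply (N : Subgroup G) [N.Normal] (χ : IrrCharacter (G ⧸ N)) (g : G) :
    (infl N χ : G → ℂ) g = (χ : G ⧸ N → ℂ) (QuotientGroup.mk g) := rfl

theorem coe_infl (N : Subgroup G) [N.Normal] (χ : IrrCharacter (G ⧸ N)) :
    (infl N χ : G → ℂ) = (χ : G ⧸ N → ℂ) ∘ (QuotientGroup.mk : G → G ⧸ N) := rfl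

theorem infl_injective (N : Subgroup G) [N.Normal] : Function.Injective (infl N) := by
  intro χ ψ h
  apply Subtype.ext
  funext q
  obtain ⟨g, rfl⟩ := QuotientGroup.mk_surjective q
  exact congrFun (congrArg Subtype.val h) g

theorem blockCoeff_image_infl [Finite G] (N : Subgroup G) [N.Normal]
    (S : Set (IrrCharacter (G ⧸ N))) (g : G) :
    blockCoeff (infl N '' S) g =
      (Nat.card N : ℂ)⁻¹ * blockCoeff S (QuotientGroup.mk g : G ⧸ N) := by
  unfold blockCoeff
  rw [finsum_mem_image (fun a _ b _ hab => infl_injective N hab)]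
  have hcard : (Nat.card G : ℂ) = (Nat.card N : ℂ) * (Nat.card (G ⧸ N) : ℂ) := by
    rw [← Nat.cast_mul, mul_comm, ← Subgroup.card_eq_card_quotient_mul_card_subgroup]
  have hN : (Nat.card N : ℂ) ≠ 0 := by
    rw [Nat.cast_ne_zero]; exact Nat.card_pos.ne'
  have hQ : (Nat.card (G ⧸ N) : ℂ) ≠ 0 := by
    rw [Nat.cast_ne_zero]; exact Nat.card_pos.ne'
  rw [hcard, ← mul_assoc]
  congr 1
  field_simp

/-- For a normal `p'`-subgroup `N`: a character in the block of an inflated character is inflated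
from the corresponding block of `G ⧸ N`. -/
theorem exists_deflation_of_coprime [Finite G] {p : ℕ} {M : Ideal AlgInt} (hM : IsPModular p M)
    (N : Subgroup G) [N.Normal] (hN : (Nat.card N).Coprime p) (χ : IrrCharacter (G ⧸ N))
    (ψ : IrrCharacter G) (h : SameBlock M (infl N χ : G → ℂ) (ψ : G → ℂ)) :
    ∃ ψ' : IrrCharacter (G ⧸ N), ψ = infl N ψ' ∧
      SameBlock M (χ : G ⧸ N → ℂ) (ψ' : G ⧸ N → ℂ) := by
  have hMp : M.IsPrime := isPrime_of_isPModular hM
  have hp : p.Prime := hM.1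
  set S : Set (IrrCharacter (G ⧸ N)) := blockOf M (χ : G ⧸ N → ℂ) with hS
  have hSB : IsPBlock M S := ⟨χ, rfl⟩
  have hloc : ∀ g : G, MemLocalRing M (blockCoeff (infl N '' S) g) := by
    intro g
    rw [blockCoeff_image_infl]
    apply memLocalRing_mul hMp
    · apply memLocalRing_inv_natCast hM
      intro hdvd
      have h1 : p ∣ Nat.gcd (Nat.card N) p := Nat.dvd_gcd hdvd dvd_rfl
      rw [hN] at h1
      exact hp.one_lt.ne' (Nat.dvd_one.mp h1)
    · exact Cfsg.Agent.Lib.Helper78_CharFacts.osima_block' hMp hSB _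
  have hχ : infl N χ ∈ infl N '' S := ⟨χ, sameBlock_refl hMp _, rfl⟩
  obtain ⟨ψ', hψ', hψ⟩ :=
    Cfsg.Agent.Lib.Helper78_CharFacts.mem_of_sameBlock_of_memLocalRing_blockCoeff' hMp _ hloc hχ h
  exact ⟨ψ', hψ.symm, hψ'⟩

theorem sameBlock_infl_iff [Finite G] {p : ℕ} {M : Ideal AlgInt} (hM : IsPModular p M)
    (N : Subgroup G) [N.Normal] (hN : (Nat.card N).Coprime p) (χ ψ : IrrCharacter (G ⧸ N)) :
    SameBlock M (infl N χ : G → ℂ) (infl N ψ : G → ℂ) ↔
      SameBlock M (χ : G ⧸ N → ℂ) (ψ : G ⧸ N → ℂ) := by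
  have hMp : M.IsPrime := isPrime_of_isPModular hM
  constructor
  · intro h
    obtain ⟨ψ', hψ', hsb⟩ := exists_deflation_of_coprime hM N hN χ (infl N ψ) h
    rw [infl_injective N hψ']
    exact hsb
  · intro h
    exact Cfsg.Agent.Lib.Helper77_QuotBlocks.sameBlock_comp_mk hMp N h

end Cfsg.Agent.Lib.Helper82_PPrimeQuot
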