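import Mathlib
import Cfsg.Prelude.Def_Blocks
import Cfsg.Prelude.Def_Solvable
import Cfsg.Agent.Lib.Helper78_LocalRing
import Cfsg.Agent.Lib.Helper76_PSolvable
import Cfsg.Agent.Lib.Helper1_Cores
import Cfsg.Agent.Lib.Helper55_Fitting
import Cfsg.Agent.Lib.Helper77_QuotBlocks
import Cfsg.Agent.Lib.Helper80_CharBasic
import Cfsg.Agent.Lib.Helper82_PPrimeQuot
import Cfsg.Agent.S4487

/-!
# The principal block of a solvable group (helper82)

For a finite solvable group `G`:

* `sameBlock_of_solvable_of_core`: if `O_{p'}(G) = 1` then `G` has a single `p`-block;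
* `mem_principalBlock_iff_of_solvable`: an irreducible character lies in the principal `p`-block
  iff `O_{p'}(G)` is contained in its kernel (Fong).
-/

set_option autoImplicit false

namespace Cfsg.Agent.Lib.Helper82_FongSolvable

open Cfsg Cfsg.Agent.Lib.Helper78_LocalRing Cfsg.Agent.Lib.Helper82_PPrimeQuot

/-- In a finite solvable group with `O_{p'}(G) = 1`, `C_G(O_p(G)) ≤ O_p(G)`. -/
theorem centralizer_pCore_le_of_solvable {G : Type*} [Group G] [Finite G] [Group.IsSolvable G]
    (p : ℕ) [Fact p.Prime] (hcore : pPrimeCore p G = ⊥) :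
    Subgroup.centralizer ((pCore p G) : Set G) ≤ pCore p G := by
  have hp : p.Prime := Fact.out
  have hF : fittingSubgroup G = pCore p G := by
    rw [Cfsg.Agent.Lib.Helper1_Cores.fittingSubgroup_eq_iSup_pCore]
    apply le_antisymm
    · refine iSup_le fun q => ?_
      by_cases hq : (q : ℕ) = p
      · rw [hq]
      · have hqp : (q : ℕ).Prime := q.2
        have : Fact (q : ℕ).Prime := ⟨hqp⟩
        have hn : (pCore (q : ℕ) G).Normal := Cfsg.Agent.Lib.Helper76_PSolvable.pCore_normal _
        have hq' : IsPGroup (q : ℕ) (pCore (q : ℕ) G) :=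
          Cfsg.Agent.Lib.Helper76_PSolvable.pCore_isPGroup _
        obtain ⟨k, hk⟩ := IsPGroup.iff_card.mp hq'
        have hcop : (Nat.card (pCore (q : ℕ) G)).Coprime p := by
          rw [hk]
          exact Nat.Coprime.pow_left k ((Nat.coprime_primes hqp hp).mpr hq)
        have := Cfsg.Agent.Lib.Helper76_PSolvable.le_pPrimeCore p (pCore (q : ℕ) G) hcop
        rw [hcore] at this
        exact this.trans bot_le
    · exact le_iSup (fun q : Nat.Primes => pCore (q : ℕ) G) ⟨p, hp⟩
  have h := Cfsg.Agent.Lib.Helper55_Fitting.centralizer_fittingSubgroup_le (G := G)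
  rw [hF] at h
  exact h

/-- A finite solvable group with `O_{p'}(G) = 1` has a single `p`-block. -/
theorem sameBlock_of_solvable_of_core {G : Type*} [Group G] [Finite G] [Group.IsSolvable G]
    (p : ℕ) [Fact p.Prime] (M : Ideal AlgInt) (hM : IsPModular p M)
    (hcore : pPrimeCore p G = ⊥) (χ ψ : IrrCharacter G) :
    SameBlock M (χ : G → ℂ) (ψ : G → ℂ) :=
  Cfsg.Agent.S4487.result p M hM hcore (centralizer_pCore_le_of_solvable p hcore) χ ψ

/-- **Fong** (solvable case): the principal `p`-block of a finite solvable group consists of the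
irreducible characters with `O_{p'}(G)` in their kernel. -/
theorem mem_principalBlock_iff_of_solvable {G : Type*} [Group G] [Finite G] [Group.IsSolvable G]
    (p : ℕ) [Fact p.Prime] (M : Ideal AlgInt) (hM : IsPModular p M) (χ : IrrCharacter G) :
    χ ∈ principalBlock M G ↔ ∀ u ∈ pPrimeCore p G, (χ : G → ℂ) u = (χ : G → ℂ) 1 := by
  have hMp : M.IsPrime := isPrime_of_isPModular hM
  have hNn : (pPrimeCore p G).Normal := Cfsg.Agent.Lib.Helper76_PSolvable.pPrimeCore_normal p
  have hNp : (Nat.card (pPrimeCore p G)).Coprime p :=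
    Cfsg.Agent.Lib.Helper76_PSolvable.pPrimeCore_card_coprime p
  constructor
  · intro hχ u hu
    have h : SameBlock M
        (infl (pPrimeCore p G) (Cfsg.Agent.Lib.Helper80_CharBasic.oneIrr (G ⧸ pPrimeCore p G)) :
          G → ℂ) (χ : G → ℂ) := hχ
    obtain ⟨ψ, h1, -⟩ := exists_deflation_of_coprime hM (pPrimeCore p G) hNp _ χ h
    rw [h1, infl_apply, infl_apply]
    have hu1 : (QuotientGroup.mk u : G ⧸ pPrimeCore p G) = QuotientGroup.mk (1 : G) := by
      rw [QuotientGroup.mk_one]
      exact (QuotientGroup.eq_one_iff u).mpr hu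
    rw [hu1]
  · intro hker
    obtain ⟨ψ, hψ⟩ := Cfsg.Agent.Lib.Helper77_QuotBlocks.exists_quot_char (pPrimeCore p G) χ hker
    have hcoreq : pPrimeCore p (G ⧸ pPrimeCore p G) = ⊥ :=
      Cfsg.Agent.Lib.Helper76_PSolvable.pPrimeCore_quotient_pPrimeCore p
    have hsb := sameBlock_of_solvable_of_core p M hM hcoreq
      (Cfsg.Agent.Lib.Helper80_CharBasic.oneIrr (G ⧸ pPrimeCore p G)) ψ
    have hsb' := Cfsg.Agent.Lib.Helper77_QuotBlocks.sameBlock_comp_mk hMp (pPrimeCore p G) hsb
    show SameBlock M (fun _ : G => (1 : ℂ)) (χ : G → ℂ)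
    rw [hψ]
    exact hsb'

end Cfsg.Agent.Lib.Helper82_FongSolvable
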