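import Mathlib
import Cfsg.Prelude.Def_Characters
import Cfsg.Agent.Lib.Helper3_CharOrtho
import Cfsg.Agent.Lib.Helper17_CohSys

/-!
# A Bessel-type inequality for families of class functions with bounded fusion (helper82)

`sum_le_of_fused`: if `[χ, χ] = 1`, `[χ, v u] = m u ≥ 0`, and `[v u, v u']` is either `0` or
(`m u` and `u' ` is related to `u`), where every `u` is related to at most `E` elements, then
`∑ m u ≤ E`.
-/

set_option autoImplicit false

namespace Cfsg.Agent.Lib.Helper82_FusedBound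

open Cfsg Cfsg.Agent.Lib.Helper3_CharOrtho
open scoped ComplexConjugate

theorem sum_le_of_fused {G : Type*} [Group G] [Fintype G] {ι : Type*} (χ : G → ℂ)
    (hχ : classInner χ χ = 1)
    (Zs : Finset ι) (v : ι → G → ℂ) (mm : ι → ℝ) (hmm : ∀ u ∈ Zs, 0 ≤ mm u)
    (h1 : ∀ u ∈ Zs, classInner χ (v u) = (mm u : ℂ)) (R : ι → ι → Prop)
    (h2 : ∀ u ∈ Zs, ∀ u' ∈ Zs, classInner (v u) (v u') = 0 ∨
      (classInner (v u) (v u') = (mm u : ℂ) ∧ R u u'))
    (E : ℕ) (hE : 0 < E)
    (hcount : ∀ u ∈ Zs, (by classical exact (Zs.filter (R u)).card) ≤ E) :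
    ∑ u ∈ Zs, mm u ≤ E := by
  classical
  set W : ℝ := ∑ u ∈ Zs, mm u with hW
  set V : G → ℂ := ∑ u ∈ Zs, v u with hV
  have hχV : classInner χ V = (W : ℂ) := by
    rw [hV, classInner_sum_right, hW]
    push_cast
    exact Finset.sum_congr rfl h1
  have hVχ : classInner V χ = (W : ℂ) := by
    rw [← classInner_conj_symm, hχV, Complex.conj_ofReal]
  have hVV : (classInner V V).re ≤ E * W := by
    rw [hV, classInner_sum_left]
    simp_rw [classInner_sum_right]
    rw [Complex.re_sum]
    simp_rw [Complex.re_sum]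
    have hb : ∀ u ∈ Zs, ∑ u' ∈ Zs, (classInner (v u) (v u')).re ≤ (E : ℝ) * mm u := by
      intro u hu
      have hb1 : ∀ u' ∈ Zs, (classInner (v u) (v u')).re ≤ if R u u' then mm u else 0 := by
        intro u' hu'
        rcases h2 u hu u' hu' with h | ⟨h, hR⟩
        · rw [h, Complex.zero_re]
          split_ifs
          · exact hmm u hu
          · exact le_refl _
        · rw [h, Complex.ofReal_re, if_pos hR]
      refine (Finset.sum_le_sum hb1).trans ?_
      rw [← Finset.sum_filter, Finset.sum_const, nsmul_eq_mul]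
      refine mul_le_mul_of_nonneg_right ?_ (hmm u hu)
      exact_mod_cast hcount u hu
    refine (Finset.sum_le_sum hb).trans ?_
    rw [← Finset.mul_sum]
  have hpos := Cfsg.Agent.Lib.Helper17_CohSys.classInner_self_re_nonneg ((E : ℂ) • χ - V)
  have hexp : classInner ((E : ℂ) • χ - V) ((E : ℂ) • χ - V) =
      (E : ℂ) * (E : ℂ) - (E : ℂ) * (W : ℂ) - ((E : ℂ) * (W : ℂ) - classInner V V) := by
    rw [classInner_sub_left, Cfsg.Agent.Lib.Helper17_CohSys.classInner_sub_right,
      Cfsg.Agent.Lib.Helper17_CohSys.classInner_sub_right, classInner_smul_left,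
      classInner_smul_left, classInner_smul_right, classInner_smul_right, hχ, hχV, hVχ,
      Complex.conj_natCast]
    ring
  rw [hexp] at hpos
  have hre : ((E : ℂ) * (E : ℂ) - (E : ℂ) * (W : ℂ) - ((E : ℂ) * (W : ℂ) - classInner V V)).re =
      (E : ℝ) * E - E * W - (E * W - (classInner V V).re) := by
    simp [Complex.sub_re, Complex.mul_re]
  rw [hre] at hpos
  have hE' : (0 : ℝ) < E := by exact_mod_cast hE
  have : (E : ℝ) * W ≤ E * E := by linarith
  exact le_of_mul_le_mul_left this hE'

end Cfsg.Agent.Lib.Helper82_FusedBound
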