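import Mathlib
import Cfsg.Agent.Lib.Helper84_TutteDefs
import Cfsg.Agent.Lib.Helper84_TutteAPI
import Cfsg.Agent.Lib.Helper84_GlDefs
import Cfsg.Agent.Lib.Helper84_GlAPI

/-!
# Helper82_Gl_GA: package G-A of the S4359 market (architect helper84), paper (A)
-/

set_option autoImplicit false

open scoped commutatorElement
open Cfsg.Agent.Lib.Helper84_TutteDefs Cfsg.Agent.Lib.Helper84_GlDefs

namespace Cfsg.Agent.Lib.Helper82_Gl_GA

variable {G : Type*} [Group G] {P : Subgroup G} {g x0 : G} {p t lam : ℕ}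

/-- G-A (M), paper (A): otherwise `z = x_j`, `j = max 0 (t - lam)`, contradicts `hZ` (`hl.commute`, `h.xs_ne_one`). -/
theorem lam_A (h : PSys P g x0 p t) (hl : IsLam g x0 lam) (n : ℕ)
    (hZ : ∀ z ∈ P, (∀ i : ℤ, -(n : ℤ) ≤ i → i ≤ (t : ℤ) - 1 → z * xs g x0 i = xs g x0 i * z) → z = 1) :
    ¬ (n + 1 ≤ lam ∧ t + n + 1 ≤ 2 * lam) := by
  rintro ⟨h1, h2⟩
  have ht := h.one_le
  have hpos := hl.pos
  have hzP : xs g x0 (((t - lam : ℕ) : ℤ)) ∈ P := by
    rw [← h.top]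
    exact xs_mem_XX (by omega) (by omega)
  have hz1 := hZ _ hzP (fun i hi1 hi2 => by
    apply hl.commute
    rw [abs_lt]
    constructor <;> omega)
  exact h.xs_ne_one _ hz1

end Cfsg.Agent.Lib.Helper82_Gl_GA
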