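import Mathlib
import Cfsg.Agent.Lib.Helper9_GrossDefs
import Cfsg.Agent.Lib.Helper64_ShultA

/-!
# GROSS-GA2, part (a) (helper82, for helper9's S3795 market)

`le_fit2` and Gross' Theorem A2 (`[G, σ^(2^N)] ≤ F₂(G)`) *relative to* the statement of
GROSS-GIRR (`IrrHyp`).  The file `Helper82_Gross_GA2` plugs in the landed `gross_irreducible`.
-/

set_option autoImplicit false
set_option linter.unusedSectionVars false
set_option maxHeartbeats 1000000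

namespace Cfsg.Agent.Lib.Helper82_Gross_GA2a

open Cfsg.Agent.Lib.Helper9_GrossDefs Cfsg.Agent.Lib.Helper64_ShultGrp
  Cfsg.Agent.Lib.Helper64_ShultAut Cfsg.Agent.Lib.Helper1_Cores

universe u

theorem le_fit2 {G : Type*} [Group G] [Finite G] (M D : Subgroup G) (hM : M.Normal)
    (hD : D.Normal) (hDnil : Group.IsNilpotent D) {P : Type*} [Group P]
    (hP : Group.IsNilpotent P) (f : M →* P) (hker : ∀ x : M, f x = 1 → (x : G) ∈ D) :
    M ≤ fit2 G := by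
  have hDF : D ≤ Cfsg.fittingSubgroup G := le_fittingSubgroup hD hDnil
  obtain ⟨π, hπ⟩ : ∃ π : G →* G ⧸ Cfsg.fittingSubgroup G,
      π = QuotientGroup.mk' (Cfsg.fittingSubgroup G) := ⟨_, rfl⟩
  have hπs : Function.Surjective π := by
    rw [hπ]
    exact QuotientGroup.mk'_surjective _
  have hM'n : (M.map π).Normal := hM.map π hπs
  have hM'nil : Group.IsNilpotent (M.map π) := by
    let φ : M →* M.map π := π.subgroupMap M
    have hφs : Function.Surjective φ := π.subgroupMap_surjective M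
    have hkerle : f.ker ≤ φ.ker := by
      intro x hx
      rw [MonoidHom.mem_ker] at hx ⊢
      apply Subtype.ext
      show π (x : G) = 1
      rw [hπ, QuotientGroup.mk'_apply, QuotientGroup.eq_one_iff]
      exact hDF (hker x hx)
    let ψ : M ⧸ f.ker →* M.map π := QuotientGroup.lift f.ker φ hkerle
    have hψs : Function.Surjective ψ := by
      intro y
      obtain ⟨x, rfl⟩ := hφs y
      exact ⟨(x : M ⧸ f.ker), rfl⟩
    have h1 : Group.IsNilpotent f.range := inferInstance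
    have h2 : Group.IsNilpotent (M ⧸ f.ker) :=
      Group.nilpotent_of_mulEquiv (QuotientGroup.quotientKerEquivRange f).symm
    exact Group.nilpotent_of_surjective ψ hψs
  intro x hx
  unfold fit2
  rw [Subgroup.mem_comap, ← hπ]
  exact le_fittingSubgroup hM'n hM'nil (Subgroup.mem_map_of_mem π hx)

/-- the statement of GROSS-GIRR (`gross_irreducible`), as a hypothesis -/
def IrrHyp (N : ℕ) : Prop :=
  ∀ (r : ℕ) [Fact r.Prime] (V : Type u) [CommGroup V] [Finite V]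
    (_ : ∀ v : V, v ^ r = 1) (τ : MulAut V) (_ : τ ^ 2 ^ (N + 1) = 1)
    (_ : ∀ v, τ v = v → v = 1) (H : Subgroup (MulAut V)) (_ : Group.IsSolvable H)
    (_ : ∀ h ∈ H, τ * h * τ⁻¹ ∈ H) (_ : ∀ h ∈ H, τ * h * τ⁻¹ = h → h = 1)
    (_ : ∀ V₀ : Subgroup V, (∀ h ∈ H, ∀ v ∈ V₀, h v ∈ V₀) → (∀ v ∈ V₀, τ v ∈ V₀) →
      V₀ = ⊥ ∨ V₀ = ⊤),
    ∃ Fit : Subgroup (MulAut V), Fit ≤ H ∧ (∀ h ∈ H, ∀ f ∈ Fit, h * f * h⁻¹ ∈ Fit) ∧
      Group.IsNilpotent Fit ∧
      ∀ h ∈ H, τ ^ 2 ^ N * h * (τ ^ 2 ^ N)⁻¹ * h⁻¹ ∈ Fit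

open scoped IsMulCommutative in
/-- the local step: for a minimal invariant normal subgroup `N₀` there is a normal subgroup `K`
containing all `g⁻¹ σ^(2^N)(g)`, whose image in `Aut N₀` is nilpotent -/
theorem exists_K_of_minimal (N : ℕ) (hI : IrrHyp.{u} N)
    {G : Type u} [Group G] [Finite G] [hsol : Group.IsSolvable G] (σ : MulAut G)
    (hσ : σ ^ 2 ^ (N + 1) = 1) (hfix : ∀ g, σ g = g → g = 1)
    (N₀ : Subgroup G) (hNn : N₀.Normal) (hNσ : ∀ g ∈ N₀, σ g ∈ N₀)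
    (hNmin : ∀ M : Subgroup G, M ≤ N₀ → M ≠ ⊥ → M.Normal → (∀ g ∈ M, σ g ∈ M) → M = N₀)
    (hNab : ∀ a ∈ N₀, ∀ b ∈ N₀, a * b = b * a) (r : ℕ) [Fact r.Prime]
    (hNr : ∀ a ∈ N₀, a ^ r = 1) :
    ∃ (K : Subgroup G) (Q : Type u) (_ : Group Q) (_ : Group.IsNilpotent Q) (ψ : K →* Q),
      K.Normal ∧ (∀ g, g⁻¹ * (σ ^ 2 ^ N) g ∈ K) ∧
      ∀ x : K, ψ x = 1 → (x : G) ∈ Subgroup.centralizer (N₀ : Set G) := by
  classical
  have : IsMulCommutative N₀ := ⟨⟨fun a b => Subtype.ext (hNab a a.2 b b.2)⟩⟩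
  obtain ⟨ψ₀, hψ₀⟩ : ∃ ψ₀ : G →* MulAut N₀, ψ₀ = MulAut.conjNormal := ⟨_, rfl⟩
  have hψ₀a : ∀ (g : G) (v : N₀), ((ψ₀ g v : N₀) : G) = g * v * g⁻¹ := by
    intro g v
    rw [hψ₀]
    rfl
  obtain ⟨τ, hτdef⟩ : ∃ τ : MulAut N₀, τ = restrictAut N₀ σ hNσ := ⟨_, rfl⟩
  have hτa : ∀ v : N₀, ((τ v : N₀) : G) = σ v := by
    intro v
    rw [hτdef]
    rfl
  have hτpow : ∀ (j : ℕ) (v : N₀), (((τ ^ j) v : N₀) : G) = (σ ^ j) v := by
    intro j v
    rw [hτdef]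
    exact restrictAut_pow_apply N₀ σ hNσ j v
  have hV : ∀ v : N₀, v ^ r = 1 := by
    intro v
    apply Subtype.ext
    rw [Subgroup.coe_pow]
    exact hNr v v.2
  have hτp : τ ^ 2 ^ (N + 1) = 1 := by
    ext v
    rw [hτpow, hσ]
    rfl
  have hfixV : ∀ v, τ v = v → v = 1 := by
    intro v hv
    apply Subtype.ext
    apply hfix
    rw [← hτa, hv]
  have hconj' : ∀ g, τ * ψ₀ g = ψ₀ (σ g) * τ := by
    intro g
    ext v
    rw [MulAut.mul_apply, MulAut.mul_apply, hτa, hψ₀a, hψ₀a, hτa, map_mul, map_mul, map_inv]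
  have hconj : ∀ g, τ * ψ₀ g * τ⁻¹ = ψ₀ (σ g) := by
    intro g
    rw [hconj', mul_inv_cancel_right]
  have hconjpow : ∀ (j : ℕ) (g : G), τ ^ j * ψ₀ g * (τ ^ j)⁻¹ = ψ₀ ((σ ^ j) g) := by
    intro j
    induction j with
    | zero => intro g; simp
    | succ j ih =>
      intro g
      have e : τ ^ (j + 1) * ψ₀ g * (τ ^ (j + 1))⁻¹ = τ * (τ ^ j * ψ₀ g * (τ ^ j)⁻¹) * τ⁻¹ := by
        rw [pow_succ']
        group
      rw [e, ih, hconj, pow_succ' σ, MulAut.mul_apply]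
  have hkerσ : ∀ c ∈ ψ₀.ker, σ c ∈ ψ₀.ker := by
    intro c hc
    rw [MonoidHom.mem_ker] at hc ⊢
    rw [← hconj, hc]
    group
  have hpG : ¬ 2 ∣ Nat.card G := not_dvd_card_of_fpf 2 σ (N + 1) hσ hfix
  have hpker : ¬ 2 ∣ Nat.card ψ₀.ker := fun h =>
    hpG (h.trans (Subgroup.card_subgroup_dvd_card _))
  obtain ⟨H, hH⟩ : ∃ H : Subgroup (MulAut N₀), H = ψ₀.range := ⟨_, rfl⟩
  have hHsol : Group.IsSolvable H := by
    rw [hH]
    exact Group.isSolvable_of_surjective (f := ψ₀.rangeRestrict) ψ₀.rangeRestrict_surjective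
  have hτH : ∀ h ∈ H, τ * h * τ⁻¹ ∈ H := by
    intro h hh
    rw [hH] at hh ⊢
    obtain ⟨g, rfl⟩ := hh
    exact ⟨σ g, (hconj g).symm⟩
  have hfixH : ∀ h ∈ H, τ * h * τ⁻¹ = h → h = 1 := by
    intro h hh hfx
    rw [hH] at hh
    obtain ⟨g, rfl⟩ := hh
    rw [hconj] at hfx
    have h1 : g⁻¹ * σ g ∈ ψ₀.ker := by
      rw [MonoidHom.mem_ker, map_mul, map_inv, hfx, inv_mul_cancel]
    obtain ⟨c, hc, hgc⟩ := exists_fixed_mul 2 σ (N + 1) hσ ψ₀.ker hpker hkerσ g h1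
    have h2 := hfix _ hgc
    have h3 : g = c⁻¹ := eq_inv_of_mul_eq_one_left h2
    rw [h3, map_inv, MonoidHom.mem_ker.1 hc, inv_one]
  have hirr : ∀ V₀ : Subgroup N₀, (∀ h ∈ H, ∀ v ∈ V₀, h v ∈ V₀) → (∀ v ∈ V₀, τ v ∈ V₀) →
      V₀ = ⊥ ∨ V₀ = ⊤ := by
    intro V₀ hV₀H hV₀τ
    by_cases h0 : V₀ = ⊥
    · left; exact h0
    · right
      have h1 : V₀.map N₀.subtype ≤ N₀ := Subgroup.map_subtype_le V₀
      have h2 : V₀.map N₀.subtype ≠ ⊥ := by
        intro h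
        apply h0
        rw [eq_bot_iff]
        intro v hv
        have : (v : G) ∈ V₀.map N₀.subtype := ⟨v, hv, rfl⟩
        rw [h, Subgroup.mem_bot] at this
        rw [Subgroup.mem_bot]
        exact Subtype.ext this
      have h3 : (V₀.map N₀.subtype).Normal := by
        constructor
        rintro _ ⟨v, hv, rfl⟩ g
        refine ⟨ψ₀ g v, hV₀H _ (by rw [hH]; exact ⟨g, rfl⟩) v hv, ?_⟩
        exact hψ₀a g v
      have h4 : ∀ g ∈ V₀.map N₀.subtype, σ g ∈ V₀.map N₀.subtype := by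
        rintro _ ⟨v, hv, rfl⟩
        exact ⟨τ v, hV₀τ v hv, hτa v⟩
      have h5 := hNmin _ h1 h2 h3 h4
      rw [eq_top_iff]
      intro v _
      have : (v : G) ∈ V₀.map N₀.subtype := by rw [h5]; exact v.2
      obtain ⟨v', hv', hvv'⟩ := this
      have : v' = v := Subtype.ext hvv'
      rw [← this]
      exact hv'
  obtain ⟨Fit, hFitH, hFitn, hFitnil, hkey⟩ :=
    hI r N₀ hV τ hτp hfixV H hHsol hτH hfixH hirr
  have hKn : (Fit.comap ψ₀).Normal := by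
    constructor
    intro x hx g
    rw [Subgroup.mem_comap] at hx ⊢
    rw [map_mul, map_mul, map_inv]
    exact hFitn (ψ₀ g) (by rw [hH]; exact ⟨g, rfl⟩) _ hx
  have hKmem : ∀ g, g⁻¹ * (σ ^ 2 ^ N) g ∈ Fit.comap ψ₀ := by
    intro g
    have h1 := hkey (ψ₀ g) (by rw [hH]; exact ⟨g, rfl⟩)
    rw [hconjpow, ← map_inv, ← map_mul] at h1
    have h2 : (σ ^ 2 ^ N) g * g⁻¹ ∈ Fit.comap ψ₀ := h1
    have h3 := hKn.conj_mem _ h2 g⁻¹
    have e : g⁻¹ * ((σ ^ 2 ^ N) g * g⁻¹) * g⁻¹⁻¹ = g⁻¹ * (σ ^ 2 ^ N) g := by group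
    rw [e] at h3
    exact h3
  let ψ : (Fit.comap ψ₀ : Subgroup G) →* Fit :=
    (ψ₀.comp (Fit.comap ψ₀).subtype).codRestrict Fit (fun x => x.2)
  refine ⟨Fit.comap ψ₀, Fit, inferInstance, hFitnil, ψ, hKn, hKmem, fun x hx => ?_⟩
  have h2 : ψ₀ (x : G) = 1 := congrArg Subtype.val hx
  rw [Subgroup.mem_centralizer_iff]
  intro y hy
  have h3 := congrArg (fun f : MulAut N₀ => ((f ⟨y, hy⟩ : N₀) : G)) h2
  simp only [hψ₀a, MulAut.one_apply] at h3
  calc y * (x : G) = ((x : G) * y * (x : G)⁻¹) * (x : G) := by rw [h3]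
    _ = (x : G) * y := by group

theorem gross_theoremA2_of (N : ℕ) (hI : IrrHyp.{u} N) :
    ∀ (m : ℕ) (G : Type u) [Group G] [Finite G] [Group.IsSolvable G] (σ : MulAut G),
      Nat.card G = m → σ ^ 2 ^ (N + 1) = 1 → (∀ g, σ g = g → g = 1) →
      ∀ g, g⁻¹ * (σ ^ 2 ^ N) g ∈ fit2 G := by
  intro m
  induction m using Nat.strong_induction_on with
  | _ m ih =>
  intro G _ _ _ σ hm hσ hfix
  classical
  by_cases hGs : Subsingleton G
  · intro g
    have : g⁻¹ * (σ ^ 2 ^ N) g = 1 := Subsingleton.elim _ _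
    rw [this]
    exact Subgroup.one_mem _
  rw [not_subsingleton_iff_nontrivial] at hGs
  obtain ⟨N₀, hN0, hNn, hNσ, hNmin⟩ := exists_minimal_invariant_normal σ
  obtain ⟨hNab, r, hr, hNr⟩ := minimal_invariant_normal_props σ N₀ hN0 hNn hNσ hNmin
  have : Fact r.Prime := ⟨hr⟩
  have hNmap := map_eq_of_forall_mem N₀ σ hNσ
  have hcardlt : Nat.card (G ⧸ N₀) < m := by
    rw [← hm, Subgroup.card_eq_card_quotient_mul_card_subgroup N₀]
    have h1 : 1 < Nat.card N₀ := by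
      have hNnt : Nontrivial N₀ := (Subgroup.nontrivial_iff_ne_bot N₀).2 hN0
      exact Finite.one_lt_card
    have h2 : 0 < Nat.card (G ⧸ N₀) := Nat.card_pos
    nlinarith
  have hIH := ih _ hcardlt (G ⧸ N₀) (quotAut N₀ σ hNmap) rfl
    (quotAut_pow_eq_one N₀ σ hNmap _ hσ) (quotAut_fpf N₀ σ hNmap 2 (N + 1) hσ hfix)
  -- the two preimages
  obtain ⟨L₁, hL₁def⟩ : ∃ L₁ : Subgroup G,
      L₁ = (Cfsg.fittingSubgroup (G ⧸ N₀)).comap (QuotientGroup.mk' N₀) := ⟨_, rfl⟩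
  obtain ⟨L₂, hL₂def⟩ : ∃ L₂ : Subgroup G,
      L₂ = (fit2 (G ⧸ N₀)).comap (QuotientGroup.mk' N₀) := ⟨_, rfl⟩
  have hL₂ : ∀ g, g⁻¹ * (σ ^ 2 ^ N) g ∈ L₂ := by
    intro g
    rw [hL₂def, Subgroup.mem_comap]
    have := hIH (g : G ⧸ N₀)
    rw [quotAut_pow_mk] at this
    exact this
  have hfit2n : (fit2 (G ⧸ N₀)).Normal := by
    unfold fit2
    exact (fittingSubgroup_normal).comap _
  have hL₂n : L₂.Normal := by
    rw [hL₂def]
    exact hfit2n.comap _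
  have hL₁n : L₁.Normal := by
    rw [hL₁def]
    exact (fittingSubgroup_normal).comap _
  obtain ⟨K, Q, _, hQnil, ψ, hKn, hKmem, hψker⟩ :=
    exists_K_of_minimal N hI σ hσ hfix N₀ hNn hNσ hNmin hNab r hNr
  have hCn : (Subgroup.centralizer (N₀ : Set G)).Normal := Subgroup.normal_centralizer
  obtain ⟨D, hDdef⟩ : ∃ D : Subgroup G, D = L₁ ⊓ Subgroup.centralizer (N₀ : Set G) := ⟨_, rfl⟩
  have hDn : D.Normal := by
    rw [hDdef]
    infer_instance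
  have hDL : ∀ x : D, ((x : G) : G ⧸ N₀) ∈ Cfsg.fittingSubgroup (G ⧸ N₀) := by
    intro x
    have h0 : (x : G) ∈ L₁ ⊓ Subgroup.centralizer (N₀ : Set G) := hDdef.le x.2
    have h1 := h0.1
    rw [hL₁def] at h1
    exact h1
  have hDnil : Group.IsNilpotent D := by
    let f : D →* Cfsg.fittingSubgroup (G ⧸ N₀) :=
      ((QuotientGroup.mk' N₀).comp D.subtype).codRestrict _ hDL
    have hnilF : Group.IsNilpotent (Cfsg.fittingSubgroup (G ⧸ N₀)) := fittingSubgroup_isNilpotent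
    apply Subgroup.isNilpotent_of_ker_le_center f
    intro x hx
    rw [MonoidHom.mem_ker] at hx
    have h1 : ((x : G) : G ⧸ N₀) = 1 := by
      have := congrArg Subtype.val hx
      exact this
    have h2 : (x : G) ∈ N₀ := (QuotientGroup.eq_one_iff _).1 h1
    rw [Subgroup.mem_center_iff]
    intro y
    have hy : (y : G) ∈ L₁ ⊓ Subgroup.centralizer (N₀ : Set G) := hDdef.le y.2
    have h3 := (Subgroup.mem_centralizer_iff.1 hy.2) (x : G) h2
    apply Subtype.ext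
    rw [Subgroup.coe_mul, Subgroup.coe_mul]
    exact h3.symm
  obtain ⟨M, hMdef⟩ : ∃ M : Subgroup G, M = L₂ ⊓ K := ⟨_, rfl⟩
  have hMn : M.Normal := by
    rw [hMdef]
    infer_instance
  -- the homomorphism into the nilpotent product
  obtain ⟨Gq, hGq⟩ : ∃ Gq : Subgroup ((G ⧸ N₀) ⧸ Cfsg.fittingSubgroup (G ⧸ N₀)),
      Gq = Cfsg.fittingSubgroup ((G ⧸ N₀) ⧸ Cfsg.fittingSubgroup (G ⧸ N₀)) := ⟨_, rfl⟩
  have hGqnil : Group.IsNilpotent Gq := by
    rw [hGq]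
    exact fittingSubgroup_isNilpotent
  have hM1 : ∀ x : M, QuotientGroup.mk' (Cfsg.fittingSubgroup (G ⧸ N₀))
      (QuotientGroup.mk' N₀ (x : G)) ∈ Gq := by
    intro x
    have h0 : (x : G) ∈ L₂ ⊓ K := hMdef.le x.2
    have h1 : (x : G) ∈ L₂ := h0.1
    rw [hL₂def, Subgroup.mem_comap] at h1
    unfold fit2 at h1
    rw [Subgroup.mem_comap] at h1
    rw [hGq]
    exact h1
  have hM2 : ∀ x : M, (x : G) ∈ K := by
    intro x
    have h0 : (x : G) ∈ L₂ ⊓ K := hMdef.le x.2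
    exact h0.2
  let f₁ : M →* Gq :=
    (((QuotientGroup.mk' (Cfsg.fittingSubgroup (G ⧸ N₀))).comp (QuotientGroup.mk' N₀)).comp
      M.subtype).codRestrict Gq hM1
  let f₂ : M →* Q := ψ.comp (Subgroup.inclusion (show M ≤ K from fun x hx => hM2 ⟨x, hx⟩))
  have hPnil : Group.IsNilpotent (Gq × Q) := inferInstance
  have hker : ∀ x : M, (f₁.prod f₂) x = 1 → (x : G) ∈ D := by
    intro x hx
    rw [MonoidHom.prod_apply, Prod.mk_eq_one] at hx
    obtain ⟨hx1, hx2⟩ := hx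
    rw [hDdef]
    refine Subgroup.mem_inf.2 ⟨?_, ?_⟩
    · rw [hL₁def, Subgroup.mem_comap]
      have h1 : QuotientGroup.mk' (Cfsg.fittingSubgroup (G ⧸ N₀))
          (QuotientGroup.mk' N₀ (x : G)) = 1 := congrArg Subtype.val hx1
      rw [QuotientGroup.mk'_apply, QuotientGroup.eq_one_iff] at h1
      exact h1
    · exact hψker _ hx2
  have hMle := le_fit2 M D hMn hDn hDnil hPnil (f₁.prod f₂) hker
  intro g
  apply hMle
  rw [hMdef]
  exact ⟨hL₂ g, hKmem g⟩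

end Cfsg.Agent.Lib.Helper82_Gross_GA2a
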