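import Mathlib
import Cfsg.Prelude.Def_Solvable
import Cfsg.Agent.Lib.Helper1_Cores
import Cfsg.Agent.Lib.Helper1_FPFAut
import Cfsg.Agent.S0552
import Cfsg.Agent.Lib.Helper71_HHBGroup
import Cfsg.Agent.Lib.Helper64_ShultGrp
import Cfsg.Agent.Lib.Helper64_ShultAut

/-!
# GROSS-GIRR, part (a) (helper82, for helper9's S3795 market)

Gross' theorem for a solvable group acting irreducibly, *relative to* the statement of GLIN
(`gross_lin`, hypothesis `LinHyp`): `V` elementary abelian `r`-group, `τ` fixed-point-free with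
`τ ^ 2 ^ (N+1) = 1`, `H ≤ Aut V` solvable, `τ`-normalised, `τ` fixed-point-free on `H`, `V`
irreducible under `⟨H, τ⟩`.  Then `[H, τ ^ 2 ^ N] ≤ F(H)`.
-/

set_option autoImplicit false
set_option linter.unusedSectionVars false
set_option maxHeartbeats 1000000

namespace Cfsg.Agent.Lib.Helper82_Gross_GIRRa

open Cfsg.Agent.Lib.Helper71_HHBGroup Cfsg.Agent.Lib.Helper64_ShultGrp
  Cfsg.Agent.Lib.Helper64_ShultAut Cfsg.Agent.Lib.Helper1_Cores

universe u

/-- the statement of GLIN (`gross_lin`), as a hypothesis -/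
def LinHyp (N : ℕ) : Prop :=
  ∀ (r r₁ q : ℕ) [Fact r.Prime] [Fact r₁.Prime] [Fact q.Prime] (_ : q ≠ 2)
    (_ : r₁ ≠ 2) (_ : q ≠ r₁) (_ : r₁ ≠ r)
    (V : Type u) [CommGroup V] [Finite V] (_ : ∀ v : V, v ^ r = 1)
    (τ : MulAut V) (_ : τ ^ 2 ^ (N + 1) = 1) (_ : ∀ v, τ v = v → v = 1)
    (Q R : Subgroup (MulAut V)) (_ : IsPGroup q Q) (_ : IsPGroup r₁ R)
    (_ : ∀ g ∈ Q, τ * g * τ⁻¹ ∈ Q) (_ : ∀ a ∈ R, τ * a * τ⁻¹ ∈ R)
    (_ : ∀ g ∈ Q, ∀ a ∈ R, g * a * g⁻¹ ∈ R)
    (_ : ∀ a ∈ R, τ * a * τ⁻¹ = a → a = 1),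
    ∀ g ∈ Q, ∀ a ∈ R, Commute (τ ^ 2 ^ N * g * (τ ^ 2 ^ N)⁻¹ * g⁻¹) a

theorem iterate_eq_pow_apply {G : Type*} [Group G] (α : MulAut G) (k : ℕ) (g : G) :
    (α^[k]) g = (α ^ k) g := by
  induction k with
  | zero => rfl
  | succ k ih => rw [Function.iterate_succ_apply', ih, pow_succ', MulAut.mul_apply]

/-- a normal subgroup `C ≤ P_q` (the preimage of `O_q(H / F(H))`) centralising all `O_p(H)`,
`p ≠ q`, lies in the Fitting subgroup -/
theorem le_fitting_of_centralizes {H : Type*} [Group H] [Finite H] (q : ℕ) [Fact q.Prime]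
    (C : Subgroup H) (hCn : C.Normal)
    (hCP : ∀ x ∈ C, (x : H ⧸ Cfsg.fittingSubgroup H) ∈ Cfsg.pCore q (H ⧸ Cfsg.fittingSubgroup H))
    (hCc : ∀ p : Nat.Primes, (p : ℕ) ≠ q → ∀ x ∈ C, ∀ a ∈ Cfsg.pCore (p : ℕ) H, a * x = x * a) :
    C ≤ Cfsg.fittingSubgroup H := by
  classical
  obtain ⟨D, hD⟩ : ∃ D : Subgroup H,
      D = ⨆ p : {p : Nat.Primes // (p : ℕ) ≠ q}, Cfsg.pCore ((p : Nat.Primes) : ℕ) H := ⟨_, rfl⟩
  have hDn : D.Normal := by
    rw [hD]
    infer_instance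
  have hFle : Cfsg.fittingSubgroup H ≤ Cfsg.pCore q H ⊔ D := by
    rw [fittingSubgroup_eq_iSup_pCore]
    refine iSup_le (fun p => ?_)
    by_cases hpq : (p : ℕ) = q
    · rw [hpq]
      exact le_sup_left
    · refine le_sup_of_le_right ?_
      rw [hD]
      exact le_iSup (fun p : {p : Nat.Primes // (p : ℕ) ≠ q} =>
        Cfsg.pCore ((p : Nat.Primes) : ℕ) H) ⟨p, hpq⟩
  have hCD : ∀ x ∈ C, ∀ d ∈ D, d * x = x * d := by
    intro x hx d hd
    have h1 : D ≤ Subgroup.centralizer ({x} : Set H) := by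
      rw [hD]
      refine iSup_le (fun p => ?_)
      intro a ha
      rw [Subgroup.mem_centralizer_iff]
      intro y hy
      rw [Set.mem_singleton_iff] at hy
      rw [hy]
      exact (hCc p.1 p.2 x hx a ha).symm
    have h2 := Subgroup.mem_centralizer_iff.1 (h1 hd) x (Set.mem_singleton x)
    exact h2.symm
  obtain ⟨πD, hπD⟩ : ∃ πD : H →* H ⧸ D, πD = QuotientGroup.mk' D := ⟨_, rfl⟩
  obtain ⟨T, hT⟩ : ∃ T : Subgroup (H ⧸ D), T = C.map πD := ⟨_, rfl⟩
  have hTp : IsPGroup q T := by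
    rintro ⟨z, hz⟩
    rw [hT] at hz
    obtain ⟨y, hy, rfl⟩ := hz
    obtain ⟨k, hk⟩ := (pCore_isPGroup (G := H ⧸ Cfsg.fittingSubgroup H) q) ⟨_, hCP y hy⟩
    have hk' : ((y : H ⧸ Cfsg.fittingSubgroup H)) ^ q ^ k = 1 := by
      have := congrArg Subtype.val hk
      simpa using this
    have h1 : y ^ q ^ k ∈ Cfsg.fittingSubgroup H := by
      rw [← QuotientGroup.eq_one_iff, QuotientGroup.mk_pow]
      exact hk'
    have h2 : πD (y ^ q ^ k) ∈ (Cfsg.pCore q H).map πD := by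
      have h3 : πD (y ^ q ^ k) ∈ (Cfsg.pCore q H ⊔ D).map πD :=
        Subgroup.mem_map_of_mem πD (hFle h1)
      rw [Subgroup.map_sup] at h3
      have h4 : D.map πD = ⊥ := by
        rw [hπD]
        exact QuotientGroup.map_mk'_self D
      rw [h4, sup_bot_eq] at h3
      exact h3
    obtain ⟨j, hj⟩ := ((pCore_isPGroup (G := H) q).map πD) ⟨_, h2⟩
    have hj' : (πD (y ^ q ^ k)) ^ q ^ j = 1 := by
      have := congrArg Subtype.val hj
      simpa using this
    refine ⟨k + j, Subtype.ext ?_⟩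
    show (πD y) ^ q ^ (k + j) = 1
    rw [pow_add, pow_mul, ← map_pow]
    exact hj'
  have hfinT : Finite T := inferInstance
  have hTnil : Group.IsNilpotent T := hTp.isNilpotent
  have hCnil : Group.IsNilpotent C := by
    let f : C →* T := (πD.comp C.subtype).codRestrict T (fun x => by
      rw [hT]
      exact ⟨x, x.2, rfl⟩)
    apply Subgroup.isNilpotent_of_ker_le_center f
    intro x hx
    rw [MonoidHom.mem_ker] at hx
    have h1 : πD (x : H) = 1 := congrArg Subtype.val hx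
    have h2 : (x : H) ∈ D := by
      rw [hπD, QuotientGroup.mk'_apply, QuotientGroup.eq_one_iff] at h1
      exact h1
    rw [Subgroup.mem_center_iff]
    intro y
    apply Subtype.ext
    rw [Subgroup.coe_mul, Subgroup.coe_mul]
    exact (hCD (y : H) y.2 (x : H) h2).symm
  exact le_fittingSubgroup hCn hCnil

theorem gross_irreducible_of (N : ℕ) (hL : LinHyp.{u} N) {r : ℕ} [Fact r.Prime] {V : Type u}
    [CommGroup V] [Finite V]
    (hV : ∀ v : V, v ^ r = 1) (τ : MulAut V) (hτ : τ ^ 2 ^ (N + 1) = 1)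
    (hfixV : ∀ v, τ v = v → v = 1) (H : Subgroup (MulAut V)) (hsol : Group.IsSolvable H)
    (hτH : ∀ h ∈ H, τ * h * τ⁻¹ ∈ H) (hfixH : ∀ h ∈ H, τ * h * τ⁻¹ = h → h = 1)
    (hirr : ∀ V₀ : Subgroup V, (∀ h ∈ H, ∀ v ∈ V₀, h v ∈ V₀) → (∀ v ∈ V₀, τ v ∈ V₀) →
      V₀ = ⊥ ∨ V₀ = ⊤) :
    ∃ Fit : Subgroup (MulAut V), Fit ≤ H ∧ (∀ h ∈ H, ∀ f ∈ Fit, h * f * h⁻¹ ∈ Fit) ∧
      Group.IsNilpotent Fit ∧
      ∀ h ∈ H, τ ^ 2 ^ N * h * (τ ^ 2 ^ N)⁻¹ * h⁻¹ ∈ Fit := by
  classical
  have hr : r.Prime := Fact.out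
  have hfinA : Finite (MulAut V) := Finite.of_injective (fun f : MulAut V => (f : V → V))
    (fun f g h => MulEquiv.ext (fun v => congrFun h v))
  have hfinH : Finite H := inferInstance
  by_cases hVs : Subsingleton V
  · refine ⟨⊥, bot_le, ?_, inferInstance, ?_⟩
    · intro h _ f hf
      rw [Subgroup.mem_bot] at hf ⊢
      rw [hf]
      group
    · intro h _
      rw [Subgroup.mem_bot]
      ext v
      exact Subsingleton.elim _ _
  rw [not_subsingleton_iff_nontrivial] at hVs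
  have hrV : r ∣ Nat.card V := by
    obtain ⟨v, hv⟩ := exists_ne (1 : V)
    have h1 : orderOf v ∣ r := orderOf_dvd_of_pow_eq_one (hV v)
    rcases (Nat.dvd_prime hr).1 h1 with h2 | h2
    · exact absurd (orderOf_eq_one_iff.1 h2) hv
    · rw [← h2]
      exact orderOf_dvd_natCard v
  -- the automorphism `α` of `H`
  have hτH' := inv_conj_mem_of_finite H τ hτH
  obtain ⟨α, hα⟩ : ∃ α : MulAut H, α = conjAut H τ hτH hτH' := ⟨_, rfl⟩
  have hαa : ∀ h : H, ((α h : H) : MulAut V) = τ * h * τ⁻¹ := by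
    intro h
    rw [hα]
    rfl
  have hαpow : ∀ (j : ℕ) (h : H), (((α ^ j) h : H) : MulAut V) = τ ^ j * h * (τ ^ j)⁻¹ := by
    intro j h
    rw [hα]
    exact conjAut_pow_apply H τ hτH hτH' j h
  have hαp : α ^ 2 ^ (N + 1) = 1 := by
    ext h
    rw [hαpow, hτ]
    simp
  have hαfix : ∀ h, α h = h → h = 1 := by
    intro h hh
    apply Subtype.ext
    apply hfixH h h.2
    rw [← hαa, hh]
  have h2H : ¬ 2 ∣ Nat.card H := not_dvd_card_of_fpf 2 α (N + 1) hαp hαfix
  -- `O_r(H) = 1`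
  have hR : Cfsg.pCore r H = ⊥ := by
    obtain ⟨R, hRdef⟩ : ∃ R : Subgroup H, R = Cfsg.pCore r H := ⟨_, rfl⟩
    rw [← hRdef]
    have hRn : R.Normal := by rw [hRdef]; exact pCore_normal (G := H) r
    have hRp : IsPGroup r R := by rw [hRdef]; exact pCore_isPGroup r
    have hRα : ∀ h ∈ R, α⁻¹ h ∈ R := by
      intro h hh
      rw [hRdef] at hh ⊢
      exact pCore_map_le r (α⁻¹ : MulAut H) ⟨h, hh, rfl⟩
    let V₀ : Subgroup V :=
      { carrier := {v | ∀ h ∈ R, ((h : H) : MulAut V) v = v}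
        one_mem' := fun h _ => map_one _
        mul_mem' := by
          intro a b ha hb h hh
          rw [map_mul, ha h hh, hb h hh]
        inv_mem' := by
          intro a ha h hh
          rw [map_inv, ha h hh] }
    have hV₀H : ∀ g ∈ H, ∀ v ∈ V₀, g v ∈ V₀ := by
      intro g hg v hv h hh
      have h1 : (⟨g, hg⟩ : H)⁻¹ * h * (⟨g, hg⟩ : H) ∈ R := by
        have := hRn.conj_mem h hh (⟨g, hg⟩ : H)⁻¹
        simpa using this
      have h2 := hv _ h1
      have h3 : ((h : H) : MulAut V) (g v) = g ((g⁻¹ * (h : MulAut V) * g) v) := by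
        simp [MulAut.mul_apply]
      rw [h3]
      have h4 : ((((⟨g, hg⟩ : H)⁻¹ * h * (⟨g, hg⟩ : H) : H)) : MulAut V) =
          g⁻¹ * (h : MulAut V) * g := rfl
      rw [← h4, h2]
    have hV₀τ : ∀ v ∈ V₀, τ v ∈ V₀ := by
      intro v hv h hh
      have h1 := hv _ (hRα h hh)
      have h2 : ((h : H) : MulAut V) = τ * ((α⁻¹ h : H) : MulAut V) * τ⁻¹ := by
        rw [← hαa]
        congr 1
        show h = α (α⁻¹ h)
        rw [← MulAut.mul_apply, mul_inv_cancel]
        rfl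
      rw [h2]
      simp only [MulAut.mul_apply]
      have h3 : τ⁻¹ (τ v) = v := by
        rw [← MulAut.mul_apply, inv_mul_cancel]
        rfl
      rw [h3, h1]
    have hV₀ne : V₀ ≠ ⊥ := by
      let _ : MulAction R V := MulAction.compHom V (H.subtype.comp R.subtype)
      have h1 := hRp.card_modEq_card_fixedPoints V
      have h2 : Nat.card (MulAction.fixedPoints R V) ≡ 0 [MOD r] :=
        h1.symm.trans ((Nat.modEq_zero_iff_dvd).2 hrV)
      have h3 : r ∣ Nat.card (MulAction.fixedPoints R V) := (Nat.modEq_zero_iff_dvd).1 h2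
      have h4 : Nat.card (MulAction.fixedPoints R V) ≠ 1 := by
        intro h
        rw [h] at h3
        exact hr.one_lt.ne' (Nat.dvd_one.1 h3)
      have h5 : Nat.card (MulAction.fixedPoints R V) ≠ 0 := by
        have : Nonempty (MulAction.fixedPoints R V) :=
          ⟨⟨1, fun h => map_one ((h : H) : MulAut V)⟩⟩
        exact Nat.card_pos.ne'
      have h6 : 1 < Nat.card (MulAction.fixedPoints R V) := by omega
      rw [Finite.one_lt_card_iff_nontrivial] at h6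
      obtain ⟨⟨a, ha⟩, ⟨b, hb⟩, hab⟩ := h6
      have hmem : ∀ c ∈ MulAction.fixedPoints R V, c ∈ V₀ := by
        intro c hc h hh
        exact hc ⟨h, hh⟩
      intro h0
      apply hab
      have ha' := hmem a ha
      have hb' := hmem b hb
      rw [h0, Subgroup.mem_bot] at ha' hb'
      apply Subtype.ext
      show a = b
      rw [ha', hb']
    rcases hirr V₀ hV₀H hV₀τ with h | h
    · exact absurd h hV₀ne
    · rw [eq_bot_iff]
      intro x hx
      rw [Subgroup.mem_bot]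
      apply Subtype.ext
      ext v
      have : v ∈ V₀ := by rw [h]; trivial
      exact this x hx
  -- the Fitting subgroup
  obtain ⟨Fit₀, hFit₀⟩ : ∃ Fit₀ : Subgroup H, Fit₀ = Cfsg.fittingSubgroup H := ⟨_, rfl⟩
  have hFit₀n : Fit₀.Normal := by rw [hFit₀]; exact fittingSubgroup_normal
  have hFit₀nil : Group.IsNilpotent Fit₀ := by rw [hFit₀]; exact fittingSubgroup_isNilpotent
  have hFit₀α : ∀ g ∈ Fit₀, α g ∈ Fit₀ := by
    intro g hg
    have h1 : (Fit₀.map (α : H ≃* H).toMonoidHom).Normal :=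
      hFit₀n.map _ (α : H ≃* H).surjective
    have h2 : Group.IsNilpotent (Fit₀.map (α : H ≃* H).toMonoidHom) :=
      Group.nilpotent_of_mulEquiv (Fit₀.equivMapOfInjective _ (α : H ≃* H).injective)
    have h3 := le_fittingSubgroup h1 h2
    rw [hFit₀]
    exact h3 ⟨g, hg, rfl⟩
  have hFmap := map_eq_of_forall_mem Fit₀ α hFit₀α
  obtain ⟨β', hβ'⟩ : ∃ β' : MulAut (H ⧸ Fit₀), β' = (quotAut Fit₀ α hFmap) ^ 2 ^ N := ⟨_, rfl⟩
  have hβ'mk : ∀ h : H, β' (h : H ⧸ Fit₀) = (((α ^ 2 ^ N) h : H) : H ⧸ Fit₀) := by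
    intro h
    rw [hβ', quotAut_pow_mk]
  -- main claim
  have hmain : β' = 1 → ∀ h : H, (α ^ 2 ^ N) h * h⁻¹ ∈ Fit₀ := by
    intro hβ1 h
    have h1 : β' (h : H ⧸ Fit₀) = (h : H ⧸ Fit₀) := by rw [hβ1]; rfl
    rw [hβ'mk] at h1
    have h2 : h⁻¹ * (α ^ 2 ^ N) h ∈ Fit₀ := QuotientGroup.eq.1 h1.symm
    have h3 := hFit₀n.conj_mem _ h2 h
    have e : h * (h⁻¹ * (α ^ 2 ^ N) h) * h⁻¹ = (α ^ 2 ^ N) h * h⁻¹ := by group
    rwa [e] at h3
  have hβ1 : β' = 1 := by
    by_contra hne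
    have hβ2 : β' ^ 2 = 1 := by
      rw [hβ', ← pow_mul, ← pow_succ]
      exact quotAut_pow_eq_one Fit₀ α hFmap _ hαp
    have hcardq : Nat.card (H ⧸ Fit₀) ∣ Nat.card H := Subgroup.card_quotient_dvd_card Fit₀
    have h2Q : ¬ 2 ∣ Nat.card (H ⧸ Fit₀) := fun h => h2H (h.trans hcardq)
    have hcop : (orderOf β').Coprime (Nat.card (H ⧸ Fit₀)) := by
      have h1 : orderOf β' ∣ 2 := orderOf_dvd_of_pow_eq_one hβ2
      exact Nat.Coprime.coprime_dvd_left h1
        ((Nat.Prime.coprime_iff_not_dvd Nat.prime_two).2 h2Q)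
    refine Cfsg.Agent.S0552.result β' ?_ hne hcop
    -- `β'` is trivial on the Fitting subgroup of the quotient
    let Fix : Subgroup (H ⧸ Fit₀) :=
      { carrier := {y | β' y = y}
        one_mem' := map_one β'
        mul_mem' := by
          intro a b ha hb
          show β' (a * b) = a * b
          rw [map_mul, ha, hb]
        inv_mem' := by
          intro a ha
          show β' a⁻¹ = a⁻¹
          rw [map_inv, ha] }
    intro x' hx'
    rw [fittingSubgroup_eq_iSup_pCore] at hx'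
    suffices hle : (⨆ p : Nat.Primes, Cfsg.pCore (p : ℕ) (H ⧸ Fit₀)) ≤ Fix from hle hx'
    refine iSup_le (fun qq => ?_)
    obtain ⟨q, hq⟩ := qq
    have : Fact q.Prime := ⟨hq⟩
    intro y hy
    show β' y = y
    -- the case `q = 2`
    by_cases hq2 : q = 2
    · obtain ⟨k, hk⟩ := (pCore_isPGroup (G := H ⧸ Fit₀) q) ⟨y, hy⟩
      have hk' : y ^ q ^ k = 1 := by
        have := congrArg Subtype.val hk
        simpa using this
      have h1 : orderOf y ∣ 2 ^ k := by
        rw [← hq2]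
        exact orderOf_dvd_of_pow_eq_one hk'
      have h2 : orderOf y ∣ Nat.card (H ⧸ Fit₀) := orderOf_dvd_natCard y
      have hc : Nat.Coprime (2 ^ k) (Nat.card (H ⧸ Fit₀)) :=
        Nat.Coprime.pow_left k ((Nat.Prime.coprime_iff_not_dvd Nat.prime_two).2 h2Q)
      have h3 : orderOf y = 1 := Nat.eq_one_of_dvd_coprimes hc h1 h2
      rw [orderOf_eq_one_iff.1 h3, map_one]
    -- an `α`-invariant Sylow `q`-subgroup
    have hFPF : Cfsg.Agent.Lib.Helper1_FPFAut.FPF (2 ^ (N + 1)) α :=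
      ⟨hαfix, fun g => by rw [iterate_eq_pow_apply, hαp]; rfl⟩
    obtain ⟨S, hS⟩ := hFPF.exists_invariant_sylow q
    have hSα : ∀ s ∈ (S : Subgroup H), α s ∈ (S : Subgroup H) := by
      intro s hs
      rw [← hS]
      exact ⟨s, hs, rfl⟩
    have hSαpow := pow_apply_mem α (S : Subgroup H) hSα
    have hsurj : Function.Surjective (QuotientGroup.mk' Fit₀) := QuotientGroup.mk'_surjective _
    have hyS : y ∈ (S : Subgroup H).map (QuotientGroup.mk' Fit₀) :=
      pCore_le_sylow q (S.mapSurjective hsurj) hy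
    obtain ⟨s, hs, rfl⟩ := hyS
    obtain ⟨c, hc⟩ : ∃ c : H, c = (α ^ 2 ^ N) s * s⁻¹ := ⟨_, rfl⟩
    have hcS : c ∈ (S : Subgroup H) := by
      rw [hc]
      exact (S : Subgroup H).mul_mem (hSαpow _ s hs) ((S : Subgroup H).inv_mem hs)
    have hcmk : (c : H ⧸ Fit₀) = β' (s : H ⧸ Fit₀) * (s : H ⧸ Fit₀)⁻¹ := by
      rw [hc, hβ'mk]
      rfl
    -- the normal subgroup `C`
    obtain ⟨C, hC⟩ : ∃ C : Subgroup H, C = (Cfsg.pCore q (H ⧸ Fit₀)).comap (QuotientGroup.mk' Fit₀) ⊓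
        ⨅ p : {p : Nat.Primes // (p : ℕ) ≠ q},
          Subgroup.centralizer ((Cfsg.pCore ((p : Nat.Primes) : ℕ) H : Subgroup H) : Set H) :=
      ⟨_, rfl⟩
    have hCn : C.Normal := by
      rw [hC]
      have h1 : ((Cfsg.pCore q (H ⧸ Fit₀)).comap (QuotientGroup.mk' Fit₀)).Normal :=
        (pCore_normal (G := H ⧸ Fit₀) q).comap _
      have h2 : ∀ p : {p : Nat.Primes // (p : ℕ) ≠ q}, (Subgroup.centralizer
          ((Cfsg.pCore ((p : Nat.Primes) : ℕ) H : Subgroup H) : Set H)).Normal :=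
        fun p => Subgroup.normal_centralizer
      have h3 : (⨅ p : {p : Nat.Primes // (p : ℕ) ≠ q}, Subgroup.centralizer
          ((Cfsg.pCore ((p : Nat.Primes) : ℕ) H : Subgroup H) : Set H)).Normal :=
        Subgroup.normal_iInf_normal h2
      infer_instance
    have hcC : c ∈ C := by
      rw [hC]
      refine Subgroup.mem_inf.2 ⟨?_, ?_⟩
      · rw [Subgroup.mem_comap]
        show (c : H ⧸ Fit₀) ∈ _
        rw [hcmk]
        refine Subgroup.mul_mem _ ?_ (Subgroup.inv_mem _ hy)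
        exact pCore_map_le q β' ⟨_, hy, rfl⟩
      · rw [Subgroup.mem_iInf]
        rintro ⟨⟨r₁, hr₁⟩, hr₁q⟩
        have : Fact r₁.Prime := ⟨hr₁⟩
        rw [Subgroup.mem_centralizer_iff]
        intro a ha
        have ha' : a ∈ Cfsg.pCore r₁ H := ha
        -- trivial cases
        by_cases hr₁r : r₁ = r
        · rw [hr₁r, hR, Subgroup.mem_bot] at ha'
          rw [ha']
          group
        by_cases hr₁2 : r₁ = 2
        · obtain ⟨k, hk⟩ := (pCore_isPGroup (G := H) r₁) ⟨a, ha'⟩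
          have hk' : a ^ r₁ ^ k = 1 := by
            have := congrArg Subtype.val hk
            simpa using this
          have h1 : orderOf a ∣ 2 ^ k := by
            rw [← hr₁2]
            exact orderOf_dvd_of_pow_eq_one hk'
          have h2 : orderOf a ∣ Nat.card H := orderOf_dvd_natCard a
          have hcc : Nat.Coprime (2 ^ k) (Nat.card H) :=
            Nat.Coprime.pow_left k ((Nat.Prime.coprime_iff_not_dvd Nat.prime_two).2 h2H)
          have h3 : orderOf a = 1 := Nat.eq_one_of_dvd_coprimes hcc h1 h2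
          rw [orderOf_eq_one_iff.1 h3]
          group
        -- the linear theorem
        have hqr₁ : q ≠ r₁ := fun h => hr₁q h.symm
        have key := hL r r₁ q hq2 hr₁2 hqr₁ hr₁r V hV τ hτ hfixV
          ((S : Subgroup H).map H.subtype) ((Cfsg.pCore r₁ H).map H.subtype)
          (S.isPGroup'.map H.subtype) ((pCore_isPGroup r₁).map H.subtype)
          (by
            rintro _ ⟨x, hx, rfl⟩
            exact ⟨α x, hSα x hx, hαa x⟩)
          (by
            rintro _ ⟨x, hx, rfl⟩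
            exact ⟨α x, pCore_map_le r₁ α ⟨x, hx, rfl⟩, hαa x⟩)
          (by
            rintro _ ⟨x, _, rfl⟩ _ ⟨b, hb, rfl⟩
            exact ⟨x * b * x⁻¹, (pCore_normal (G := H) r₁).conj_mem b hb x, rfl⟩)
          (by
            rintro _ ⟨b, _, rfl⟩ h
            exact hfixH _ b.2 h)
          (s : MulAut V) ⟨s, hs, rfl⟩ (a : MulAut V) ⟨a, ha', rfl⟩
        have hcval : (c : MulAut V) = τ ^ 2 ^ N * s * (τ ^ 2 ^ N)⁻¹ * (s : MulAut V)⁻¹ := by
          rw [hc, Subgroup.coe_mul, hαpow]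
          rfl
        apply Subtype.ext
        rw [Subgroup.coe_mul, Subgroup.coe_mul, hcval]
        exact key.eq.symm
    -- `C ≤ F(H)`
    have hCle : C ≤ Cfsg.fittingSubgroup H := by
      apply le_fitting_of_centralizes q C hCn
      · intro x hx
        rw [hC] at hx
        have h1 := (Subgroup.mem_inf.1 hx).1
        rw [Subgroup.mem_comap] at h1
        subst hFit₀
        exact h1
      · intro p hpq x hx a ha
        rw [hC] at hx
        have h1 := (Subgroup.mem_inf.1 hx).2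
        rw [Subgroup.mem_iInf] at h1
        exact (Subgroup.mem_centralizer_iff.1 (h1 ⟨p, hpq⟩)) a ha
    have hcF : c ∈ Fit₀ := by
      rw [hFit₀]
      exact hCle hcC
    have h1 : (c : H ⧸ Fit₀) = 1 := (QuotientGroup.eq_one_iff c).2 hcF
    rw [hcmk] at h1
    exact mul_inv_eq_one.1 h1
  have hmain' := hmain hβ1
  refine ⟨Fit₀.map H.subtype, Subgroup.map_subtype_le _, ?_, ?_, ?_⟩
  · rintro h hh _ ⟨f, hf, rfl⟩
    exact ⟨⟨h, hh⟩ * f * ⟨h, hh⟩⁻¹, hFit₀n.conj_mem f hf ⟨h, hh⟩, rfl⟩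
  · exact Group.nilpotent_of_mulEquiv (Fit₀.equivMapOfInjective H.subtype H.subtype_injective)
  · intro h hh
    refine ⟨(α ^ 2 ^ N) ⟨h, hh⟩ * (⟨h, hh⟩ : H)⁻¹, hmain' ⟨h, hh⟩, ?_⟩
    show (((α ^ 2 ^ N) ⟨h, hh⟩ * (⟨h, hh⟩ : H)⁻¹ : H) : MulAut V) = _
    rw [Subgroup.coe_mul, hαpow]
    rfl

end Cfsg.Agent.Lib.Helper82_Gross_GIRRa
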