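import Mathlib
import Cfsg.Prelude.Def_Characters
import Cfsg.Agent.Lib.Helper80_CharBasic
import Cfsg.Agent.Lib.Helper17_H27Defs
import Cfsg.Agent.Lib.Helper53_H27_BASIC27

/-!
# S3701 package TI27 (architect helper17): `T` is a TI subgroup, so `729 ≤ |G|` unless `T ⊴ G`.
-/

set_option autoImplicit false
set_option linter.unusedSectionVars false
open scoped ComplexConjugate

namespace Cfsg.Agent.Lib.Helper82_H27_TI27

open Cfsg Cfsg.Agent.Lib.Helper80_CharBasic Cfsg.Agent.Lib.Helper17_H27Defs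

section grp
variable {G : Type*} [Group G] [Finite G]

/-- generic form: a subgroup `T` whose non-trivial elements control their fusion into `T`, and which
is not normal, has `|T|^2 ≤ |G|` -/
theorem card_sq_le_of_fusion (T : Subgroup G)
    (hfus : ∀ t g : G, t ∈ T → t ≠ 1 → g * t * g⁻¹ ∈ T → g ∈ Subgroup.normalizer (T : Set G))
    (hne : Subgroup.normalizer (T : Set G) ≠ ⊤) : Nat.card T * Nat.card T ≤ Nat.card G := by
  obtain ⟨x, hx⟩ : ∃ x : G, x ∉ Subgroup.normalizer (T : Set G) := by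
    by_contra hcon
    push Not at hcon
    exact hne (eq_top_iff.mpr (fun g _ => hcon g))
  let f : ↥T × ↥T → G := fun p => (p.1 : G) * x * (p.2 : G) * x⁻¹
  have hf : Function.Injective f := by
    rintro ⟨s, t⟩ ⟨s', t'⟩ hst
    have hst' : (s : G) * x * (t : G) * x⁻¹ = (s' : G) * x * (t' : G) * x⁻¹ := hst
    have hr : x * ((t' : G) * (t : G)⁻¹) * x⁻¹ = (s' : G)⁻¹ * (s : G) := by
      have e1 : (s' : G)⁻¹ * (s : G) = (s' : G)⁻¹ * ((s : G) * x * (t : G) * x⁻¹) * (x * (t : G)⁻¹ * x⁻¹) := by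
        group
      rw [e1, hst']
      group
    have hrT : (t' : G) * (t : G)⁻¹ ∈ T := T.mul_mem t'.2 (T.inv_mem t.2)
    have hsT : (s' : G)⁻¹ * (s : G) ∈ T := T.mul_mem (T.inv_mem s'.2) s.2
    have hr1 : (t' : G) * (t : G)⁻¹ = 1 := by
      by_contra hne1
      apply hx
      apply hfus _ x hrT hne1
      rw [hr]
      exact hsT
    have ht : (t' : G) = (t : G) := by
      rw [mul_inv_eq_one] at hr1
      exact hr1
    have hs : (s : G) = (s' : G) := by
      rw [hr1] at hr
      have : (s' : G)⁻¹ * (s : G) = 1 := by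
        rw [← hr]
        group
      rw [inv_mul_eq_one] at this
      exact this.symm
    exact Prod.ext (Subtype.ext hs) (Subtype.ext ht.symm)
  have h1 := Nat.card_le_card_of_injective f hf
  rwa [Nat.card_prod] at h1

variable {T : Subgroup G} {a b c u v : G}

/-- `_aux` form: the fusion statement of BASIC27 as an explicit hypothesis -/
theorem card_ge_aux (h : Hyp G T a b c u v)
    (hfus : ∀ t g : G, t ∈ T → t ≠ 1 → g * t * g⁻¹ ∈ T → g ∈ Subgroup.normalizer (T : Set G))
    (hne : Subgroup.normalizer (T : Set G) ≠ ⊤) : 729 ≤ Nat.card G := by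
  have h1 := card_sq_le_of_fusion T hfus hne
  rw [h.card] at h1
  exact h1

/-! ### TI27 -/
theorem card_ge (h : Hyp G T a b c u v) (hne : Subgroup.normalizer (T : Set G) ≠ ⊤) :
    729 ≤ Nat.card G :=
  card_ge_aux h (fun _ _ ht ht1 hg => Cfsg.Agent.Lib.Helper53_H27_BASIC27.fusion h ht ht1 hg) hne

end grp

end Cfsg.Agent.Lib.Helper82_H27_TI27
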