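import Mathlib
import Cfsg.Agent.Lib.Helper18_HkOrbDefs

set_option autoImplicit false
set_option linter.unusedSectionVars false

/-!
# S2319 market (architect helper18), package ORB1:
the complex orbital matrices `TP P w` of a (B, N)-pair lie in the commutant `hkA P.B` of the
permutation matrices, and form a Hecke datum with parameter `q`.
-/

namespace Cfsg.Agent.Lib.Helper82_HK_ORB1

open Cfsg Cfsg.Agent.Lib.Helper6_Word Cfsg.Agent.Lib.Helper6_BNPair Cfsg.Agent.Lib.Helper6_Hecke
  Cfsg.Agent.Lib.Helper18_HkDefs Cfsg.Agent.Lib.Helper18_HkOrbDefs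

attribute [local instance] Classical.propDecidable
attribute [local instance] fintypeX fintypeW

section general

variable {G : Type*} [Group G] [Finite G] (H : Subgroup G)

attribute [local instance] fintypeQ

theorem permMat_mul_apply (g : G) (M : Matrix (G ⧸ H) (G ⧸ H) ℂ) (x y : G ⧸ H) :
    (permMat H g * M) x y = M (g⁻¹ • x) y := by
  rw [Matrix.mul_apply, Finset.sum_eq_single (g⁻¹ • x)]
  · unfold permMat
    rw [if_pos (by simp), one_mul]
  · intro z _ hz
    unfold permMat
    rw [if_neg, zero_mul]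
    intro h
    apply hz
    rw [← h]
    simp
  · intro h
    exact absurd (Finset.mem_univ _) h

theorem mul_permMat_apply (g : G) (M : Matrix (G ⧸ H) (G ⧸ H) ℂ) (x y : G ⧸ H) :
    (M * permMat H g) x y = M x (g • y) := by
  rw [Matrix.mul_apply, Finset.sum_eq_single (g • y)]
  · unfold permMat
    rw [if_pos rfl, mul_one]
  · intro z _ hz
    unfold permMat
    rw [if_neg, mul_zero]
    intro h
    exact hz h.symm
  · intro h
    exact absurd (Finset.mem_univ _) h

/-- the commutant of the permutation matrices: the `G`-invariant matrices -/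
theorem mem_hkA_iff (M : Matrix (G ⧸ H) (G ⧸ H) ℂ) :
    M ∈ hkA H ↔ ∀ (g : G) (x y : G ⧸ H), M (g • x) (g • y) = M x y := by
  unfold hkA
  rw [Subalgebra.mem_centralizer_iff]
  constructor
  · intro h g x y
    have h1 := h (permMat H g) ⟨g, rfl⟩
    have h2 := congrFun (congrFun h1 (g • x)) y
    rw [permMat_mul_apply, mul_permMat_apply, inv_smul_smul] at h2
    exact h2.symm
  · rintro h _ ⟨g, rfl⟩
    ext x y
    rw [permMat_mul_apply, mul_permMat_apply]
    have h1 := h g (g⁻¹ • x) y
    rw [smul_inv_smul] at h1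
    exact h1.symm

end general

variable {G : Type*} [Group G] [Finite G] (P : BNPair G)

theorem TP_apply (n : P.N) (x y : G ⧸ P.B) :
    TP P (π P n) x y = if Rel P (n : G) x y then 1 else 0 := by
  unfold TP
  rw [Matrix.map_apply, AW_π, A_apply]
  split_ifs <;> simp

theorem TP_mem (w : W P) : TP P w ∈ hkA P.B := by
  obtain ⟨n, rfl⟩ := π_surjective P w
  rw [mem_hkA_iff]
  intro g x y
  rw [TP_apply, TP_apply]
  simp only [rel_smul]

theorem TP_one : TP P 1 = 1 := by
  unfold TP
  rw [AW_one]
  exact Matrix.map_one _ (map_zero _) (map_one _)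

theorem TP_mul (w w' : W P) :
    TP P w * TP P w' = (AW P w * AW P w').map (algebraMap ℚ ℂ) := by
  unfold TP
  rw [Matrix.map_mul]

/-- the entry of `TP w` at `(1B, nB)` -/
theorem TP_apply_base (w : W P) (n : P.N) :
    TP P w ((1 : G) : G ⧸ P.B) ((n : G) : G ⧸ P.B) = if w = π P n then 1 else 0 := by
  obtain ⟨n', rfl⟩ := π_surjective P w
  rw [TP_apply]
  have hn : Rel P (n : G) ((1 : G) : G ⧸ P.B) ((n : G) : G ⧸ P.B) := by
    rw [rel_mk]
    simpa using mem_C_self P (n : G)
  by_cases h : π P n' = π P n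
  · rw [if_pos h, if_pos]
    exact (rel_congr P (C_congr P h) _ _).mpr hn
  · rw [if_neg h, if_neg]
    intro h'
    exact h (rel_unique P h' hn)

/-- multiplication with a simple reflection, length going up -/
theorem TP_mul_up (s : W P) (hs : s ∈ SW P) (w : W P) (hlen : len (SW P) w < len (SW P) (s * w)) :
    TP P s * TP P w = TP P (s * w) := by
  obtain ⟨σ, hσ, rfl⟩ := hs
  obtain ⟨n, rfl⟩ := π_surjective P w
  have hle : ℓ P n ≤ ℓ P (σ * n) := by
    unfold ℓ
    rw [map_mul]
    exact hlen.le
  rw [TP_mul, AW_π, AW_π, A_simple_mul P (isSimple_of_mem P hσ) hle, ← map_mul, TP, AW_π]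
  rfl

/-- the quadratic relation -/
theorem TP_sq (q : ℕ) (hq : ∀ s ∈ P.S, Cfsg.Agent.Lib.Helper6_Hecke.q P s = q) (s : W P)
    (hs : s ∈ SW P) :
    TP P s * TP P s = (q : ℂ) • (1 : Matrix (G ⧸ P.B) (G ⧸ P.B) ℂ) + ((q : ℂ) - 1) • TP P s := by
  obtain ⟨σ, hσ, rfl⟩ := hs
  have hσ' : (σ : G) ∈ P.S := hσ
  rw [TP_mul, AW_π, A_sq P hσ', hq _ hσ']
  ext x y
  rw [Matrix.map_apply, Matrix.add_apply, Matrix.add_apply, Matrix.smul_apply, Matrix.smul_apply,
    Matrix.smul_apply, Matrix.smul_apply, Matrix.one_apply, Matrix.one_apply, TP_apply, A_apply]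
  by_cases hxy : x = y
  · subst hxy
    by_cases hr : Rel P (σ : G) x x <;> simp [hr]
  · by_cases hr : Rel P (σ : G) x y <;> simp [hxy, hr]

theorem isHecke_orb (q : ℕ) (hq : ∀ s ∈ P.S, Cfsg.Agent.Lib.Helper6_Hecke.q P s = q)
    (hmem : ∀ w : W P, TP P w ∈ hkA P.B) :
    IsHecke (SW P) (q : ℂ) (fun w : W P => (⟨TP P w, hmem w⟩ : hkA P.B)) := by
  have hup : ∀ s ∈ SW P, ∀ w : W P, len (SW P) w < len (SW P) (s * w) →
      (⟨TP P s, hmem s⟩ : hkA P.B) * ⟨TP P w, hmem w⟩ = ⟨TP P (s * w), hmem (s * w)⟩ := by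
    intro s hs w hlen
    apply Subtype.ext
    exact TP_mul_up P s hs w hlen
  refine ⟨?_, hup, ?_, ?_, ?_⟩
  · apply Subtype.ext
    exact TP_one P
  · intro s hs w hlen
    have hss : s * s = 1 := (invGen P).sq s hs
    have hw : w = s * (s * w) := by rw [← mul_assoc, hss, one_mul]
    have hlen' : len (SW P) (s * w) < len (SW P) (s * (s * w)) := by rw [← hw]; exact hlen
    have h1 := TP_mul_up P s hs (s * w) hlen'
    rw [← hw] at h1
    apply Subtype.ext
    show TP P s * TP P w = (q : ℂ) • TP P (s * w) + ((q : ℂ) - 1) • TP P w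
    rw [← h1, ← mul_assoc, TP_sq P q hq s hs, add_mul, smul_mul_assoc, smul_mul_assoc, one_mul]
  · rw [Fintype.linearIndependent_iff]
    intro g hg w
    obtain ⟨n, rfl⟩ := π_surjective P w
    have h1 := congrArg (hkA P.B).val hg
    rw [map_sum, map_zero] at h1
    have h2 := congrFun (congrFun h1 ((1 : G) : G ⧸ P.B)) ((n : G) : G ⧸ P.B)
    rw [Matrix.sum_apply, Matrix.zero_apply] at h2
    rw [Finset.sum_eq_single (π P n)] at h2
    · rw [map_smul, Matrix.smul_apply] at h2
      have h3 : ((hkA P.B).val ⟨TP P (π P n), hmem (π P n)⟩ : Matrix (G ⧸ P.B) (G ⧸ P.B) ℂ) =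
          TP P (π P n) := rfl
      rw [h3, TP_apply_base, if_pos rfl, smul_eq_mul, mul_one] at h2
      exact h2
    · intro w' _ hw'
      rw [map_smul, Matrix.smul_apply]
      have h3 : ((hkA P.B).val ⟨TP P w', hmem w'⟩ : Matrix (G ⧸ P.B) (G ⧸ P.B) ℂ) = TP P w' := rfl
      rw [h3, TP_apply_base, if_neg hw', smul_zero]
    · intro h
      exact absurd (Finset.mem_univ _) h
  · rw [eq_top_iff]
    rintro ⟨M, hM⟩ _
    have hinv := (mem_hkA_iff P.B M).mp hM
    -- the coefficient function
    let c : W P → ℂ := fun w => M ((1 : G) : G ⧸ P.B)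
      (((Classical.choose (π_surjective P w) : P.N) : G) : G ⧸ P.B)
    have hsum : (⟨M, hM⟩ : hkA P.B) = ∑ w : W P, c w • (⟨TP P w, hmem w⟩ : hkA P.B) := by
      apply Subtype.ext
      have h1 : (hkA P.B).val (∑ w : W P, c w • (⟨TP P w, hmem w⟩ : hkA P.B)) =
          ∑ w : W P, c w • TP P w := by
        rw [map_sum]
        refine Finset.sum_congr rfl (fun w _ => ?_)
        rw [map_smul]
        rfl
      show M = (hkA P.B).val (∑ w : W P, c w • (⟨TP P w, hmem w⟩ : hkA P.B))
      rw [h1]
      ext x y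
      induction x using QuotientGroup.induction_on with | _ a => ?_
      induction y using QuotientGroup.induction_on with | _ b => ?_
      obtain ⟨n, hn⟩ := exists_rel P ((a : G) : G ⧸ P.B) ((b : G) : G ⧸ P.B)
      rw [Matrix.sum_apply, Finset.sum_eq_single (π P n)]
      · rw [Matrix.smul_apply, TP_apply, if_pos hn, smul_eq_mul, mul_one]
        -- the chosen representative
        have hspec := Classical.choose_spec (π_surjective P (π P n))
        have hn' : Rel P ((Classical.choose (π_surjective P (π P n)) : P.N) : G)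
            ((a : G) : G ⧸ P.B) ((b : G) : G ⧸ P.B) :=
          (rel_congr P (C_congr P hspec) _ _).mpr hn
        rw [rel_mk] at hn'
        obtain ⟨b₁, hb₁, b₂, hb₂, e⟩ := (mem_C P).1 hn'
        have hx : (a * b₁) • (((1 : G) : G ⧸ P.B)) = ((a : G) : G ⧸ P.B) := by
          rw [MulAction.Quotient.smul_mk, QuotientGroup.eq]
          simp only [smul_eq_mul, mul_one]
          have : (a * b₁)⁻¹ * a = b₁⁻¹ := by group
          rw [this]
          exact P.B.inv_mem hb₁
        have hy : (a * b₁) • ((((Classical.choose (π_surjective P (π P n)) : P.N) : G)) : G ⧸ P.B) =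
            ((b : G) : G ⧸ P.B) := by
          rw [MulAction.Quotient.smul_mk, QuotientGroup.eq]
          simp only [smul_eq_mul]
          have : (a * b₁ * ((Classical.choose (π_surjective P (π P n)) : P.N) : G))⁻¹ * b = b₂ := by
            have hb : b = a * (a⁻¹ * b) := by group
            rw [hb, e]
            group
          rw [this]
          exact hb₂
        have hc : c (π P n) = M ((1 : G) : G ⧸ P.B)
            (((Classical.choose (π_surjective P (π P n)) : P.N) : G) : G ⧸ P.B) := rfl
        rw [hc]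
        have h5 := hinv (a * b₁) ((1 : G) : G ⧸ P.B)
          (((Classical.choose (π_surjective P (π P n)) : P.N) : G) : G ⧸ P.B)
        rw [hx, hy] at h5
        exact h5
      · intro w' _ hw'
        obtain ⟨n', rfl⟩ := π_surjective P w'
        rw [Matrix.smul_apply, TP_apply, if_neg, smul_zero]
        intro h'
        exact hw' (rel_unique P h' hn)
      · intro h
        exact absurd (Finset.mem_univ _) h
    rw [hsum]
    exact Submodule.sum_mem _ (fun w _ => Submodule.smul_mem _ _ (Submodule.subset_span ⟨w, rfl⟩))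

end Cfsg.Agent.Lib.Helper82_HK_ORB1
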