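import Mathlib
import Cfsg.Agent.Lib.Helper4_HTDefs

/-!
# S3371-DL2 (architect helper4): counting fixed vectors of involutions
-/

set_option autoImplicit false

namespace Cfsg.Agent.Lib.Helper82_HT_DL2

open Cfsg.Agent.Lib.Helper4_HTDefs

variable {q : ℕ} [Fact q.Prime] {V : Type*} [AddCommGroup V] [Module (ZMod q) V] [Finite V]
  {G : Type*} [Group G] [Finite G]

omit [Finite V] [Finite G] in
theorem two_ne_zero' (hq2 : q ≠ 2) : (2 : ZMod q) ≠ 0 := by
  intro h
  have h' : ((2 : ℕ) : ZMod q) = 0 := by exact_mod_cast h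
  rw [ZMod.natCast_eq_zero_iff] at h'
  have hq : q.Prime := Fact.out
  rcases (Nat.dvd_prime Nat.prime_two).mp h' with h1 | h1
  · exact hq.one_lt.ne' h1
  · exact hq2 h1

omit [Finite V] [Finite G] in
theorem neg_ne_self (hq2 : q ≠ 2) (v : V) (hv : v ≠ 0) : -v ≠ v := by
  intro h
  have h2 : (2 : ZMod q) • v = 0 := by
    rw [two_smul]
    nth_rewrite 1 [← h]
    exact neg_add_cancel v
  exact hv ((smul_eq_zero.mp h2).resolve_left (two_ne_zero' hq2))

omit [Finite V] [Finite G] in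
theorem rho_mul (ρ : G →* (V ≃ₗ[ZMod q] V)) (a b : G) (v : V) : ρ (a * b) v = ρ a (ρ b v) := by
  rw [map_mul, LinearEquiv.mul_apply]

omit [Finite V] [Finite G] in
theorem rho_one (ρ : G →* (V ≃ₗ[ZMod q] V)) (v : V) : ρ 1 v = v := by
  rw [map_one]; rfl

omit [Finite V] [Finite G] in
theorem rho_sq (ρ : G →* (V ≃ₗ[ZMod q] V)) {t : G} (ht : t ^ 2 = 1) (v : V) :
    ρ t (ρ t v) = v := by
  rw [← rho_mul, ← sq, ht, rho_one]

omit [Finite V] [Finite G] in
/-- `|V| = |V⁺(t)| * |V⁻(t)|` for an involution `t`, `q` odd. -/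
theorem card_eq_mul (hq2 : q ≠ 2) (ρ : G →* (V ≃ₗ[ZMod q] V)) {t : G} (ht : t ^ 2 = 1) :
    Nat.card V = Nat.card {v : V // ρ t v = v} * Nat.card {v : V // ρ t v = -v} := by
  have h2 := two_ne_zero' (q := q) hq2
  have hc : (2 : ZMod q)⁻¹ * 2 = 1 := inv_mul_cancel₀ h2
  rw [← Nat.card_prod]
  apply Nat.card_congr
  refine
    { toFun := fun v => (⟨(2 : ZMod q)⁻¹ • (v + ρ t v), ?_⟩, ⟨(2 : ZMod q)⁻¹ • (v - ρ t v), ?_⟩)
      invFun := fun ab => (ab.1 : V) + (ab.2 : V)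
      left_inv := ?_
      right_inv := ?_ }
  · rw [map_smul, map_add, rho_sq ρ ht, add_comm]
  · rw [map_smul, map_sub, rho_sq ρ ht, ← smul_neg, neg_sub]
  · intro v
    show (2 : ZMod q)⁻¹ • (v + ρ t v) + (2 : ZMod q)⁻¹ • (v - ρ t v) = v
    rw [← smul_add]
    have : v + ρ t v + (v - ρ t v) = (2 : ZMod q) • v := by rw [two_smul]; abel
    rw [this, smul_smul, hc, one_smul]
  · rintro ⟨⟨a, ha⟩, ⟨b, hb⟩⟩
    apply Prod.ext
    · apply Subtype.ext
      show (2 : ZMod q)⁻¹ • (a + b + ρ t (a + b)) = a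
      rw [map_add, ha, hb]
      have : a + b + (a + -b) = (2 : ZMod q) • a := by rw [two_smul]; abel
      rw [this, smul_smul, hc, one_smul]
    · apply Subtype.ext
      show (2 : ZMod q)⁻¹ • (a + b - ρ t (a + b)) = b
      rw [map_add, ha, hb]
      have : a + b - (a + -b) = (2 : ZMod q) • b := by rw [two_smul]; abel
      rw [this, smul_smul, hc, one_smul]

omit [Finite V] [Finite G] in
/-- a conjugating element swaps `V⁺(t)` and `V⁻(t)` -/
theorem card_minus_eq (ρ : G →* (V ≃ₗ[ZMod q] V)) (z : G) (hz : ∀ v : V, ρ z v = -v) {t g : G}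
    (hg : g * t * g⁻¹ = t * z) :
    Nat.card {v : V // ρ t v = -v} = Nat.card {v : V // ρ t v = v} := by
  have hgt : g * t = t * z * g := by rw [← hg]; group
  have key : ∀ v : V, ρ t (ρ g v) = -ρ g (ρ t v) := by
    intro v
    have h1 : ρ (g * t) v = ρ (t * z * g) v := by rw [hgt]
    rw [rho_mul, rho_mul, rho_mul, hz, map_neg] at h1
    rw [h1, neg_neg]
  symm
  apply Nat.card_congr
  refine Equiv.subtypeEquiv (ρ g).toEquiv ?_
  intro v
  show ρ t v = v ↔ ρ t (ρ g v) = -ρ g v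
  rw [key, neg_inj]
  constructor
  · intro h; rw [h]
  · intro h; exact (ρ g).injective h

theorem dl2 [Nontrivial V] (hq2 : q ≠ 2) (ρ : G →* (V ≃ₗ[ZMod q] V)) (hs : HalfT ρ 2) (z : G)
    (hz : ∀ v : V, ρ z v = -v)
    (hconj : ∀ t : G, t ^ 2 = 1 → t ≠ 1 → t ≠ z → ∃ g : G, g * t * g⁻¹ = t * z) :
    ∃ Q : ℕ, Nat.card V = Q ^ 2 ∧ Nat.card {t : G // t ^ 2 = 1 ∧ t ≠ 1 ∧ t ≠ z} = Q + 1 := by
  classical
  have := Fintype.ofFinite G
  have := Fintype.ofFinite V
  -- (A) unique involution fixing a nonzero vector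
  have hA : ∀ v : V, v ≠ 0 → ∃ t : G, (t ^ 2 = 1 ∧ t ≠ 1 ∧ t ≠ z) ∧ ρ t v = v ∧
      ∀ t' : G, t' ≠ 1 → ρ t' v = v → t' = t := by
    intro v hv
    obtain ⟨y, hy1, hyu⟩ := (Nat.card_eq_two_iff' (1 : stab ρ v)).mp (hs v hv)
    have hyv : ρ (y : G) v = v := y.2
    have hy1' : (y : G) ≠ 1 := fun h => hy1 (Subtype.ext h)
    refine ⟨y, ⟨?_, hy1', ?_⟩, hyv, ?_⟩
    · by_contra hsq
      have hne : y * y ≠ 1 := by
        intro h
        apply hsq
        rw [sq]
        exact congrArg Subtype.val h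
      have := hyu (y * y) hne
      exact hy1 (mul_left_cancel (a := y) (by rw [this, mul_one]))
    · intro h
      rw [h, hz] at hyv
      exact neg_ne_self hq2 v hv hyv
    · intro t' ht'1 ht'v
      have := hyu ⟨t', ht'v⟩ (fun h => ht'1 (congrArg Subtype.val h))
      exact congrArg Subtype.val this
  -- (B) `|V| = |V⁺(t)|²`
  have hB : ∀ t : G, t ^ 2 = 1 → t ≠ 1 → t ≠ z →
      Nat.card V = Nat.card {v : V // ρ t v = v} ^ 2 := by
    intro t ht ht1 htz
    obtain ⟨g, hg⟩ := hconj t ht ht1 htz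
    rw [card_eq_mul hq2 ρ ht, card_minus_eq ρ z hz hg, sq]
  -- an involution exists
  obtain ⟨v0, hv0⟩ := exists_ne (0 : V)
  obtain ⟨t0, ⟨ht0sq, ht01, ht0z⟩, ht0v, -⟩ := hA v0 hv0
  obtain ⟨Q, hQ⟩ : ∃ Q, Q = Nat.card {v : V // ρ t0 v = v} := ⟨_, rfl⟩
  have hVQ : Nat.card V = Q ^ 2 := by rw [hQ]; exact hB t0 ht0sq ht01 ht0z
  have hQall : ∀ t : G, t ^ 2 = 1 → t ≠ 1 → t ≠ z → Nat.card {v : V // ρ t v = v} = Q := by
    intro t ht ht1 htz
    have := hB t ht ht1 htz
    rw [hVQ] at this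
    exact (Nat.pow_left_injective (n := 2) (by norm_num) this).symm
  have hQ2 : 2 ≤ Q := by
    have hV2 : 1 < Nat.card V := Finite.one_lt_card
    by_contra hlt
    push Not at hlt
    have : Q ^ 2 ≤ 1 := by
      have : Q ≤ 1 := by omega
      calc Q ^ 2 ≤ 1 ^ 2 := Nat.pow_le_pow_left this 2
        _ = 1 := one_pow 2
    omega
  refine ⟨Q, hVQ, ?_⟩
  -- (C) the double count
  let I : Finset G := Finset.univ.filter (fun t => t ^ 2 = 1 ∧ t ≠ 1 ∧ t ≠ z)
  let s : Finset V := Finset.univ.filter (fun v => v ≠ 0)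
  let r : V → G → Prop := fun v t => ρ t v = v
  have hdc := Finset.sum_card_bipartiteAbove_eq_sum_card_bipartiteBelow (s := s) (t := I) r
  have hL : ∀ v ∈ s, (I.bipartiteAbove r v).card = 1 := by
    intro v hv
    have hv0 : v ≠ 0 := (Finset.mem_filter.mp hv).2
    obtain ⟨t, htI, htv, htu⟩ := hA v hv0
    rw [Finset.card_eq_one]
    refine ⟨t, ?_⟩
    ext t'
    rw [Finset.mem_bipartiteAbove, Finset.mem_singleton]
    constructor
    · rintro ⟨ht'I, ht'v⟩
      exact htu t' (Finset.mem_filter.mp ht'I).2.2.1 ht'v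
    · rintro rfl
      exact ⟨Finset.mem_filter.mpr ⟨Finset.mem_univ _, htI⟩, htv⟩
  have hR : ∀ t ∈ I, (s.bipartiteBelow r t).card = Q - 1 := by
    intro t ht
    obtain ⟨ht2, ht1, htz⟩ := (Finset.mem_filter.mp ht).2
    have hcard : (Finset.univ.filter (fun v : V => ρ t v = v)).card = Q := by
      rw [← hQall t ht2 ht1 htz, Nat.card_eq_fintype_card, Fintype.card_subtype]
    have : s.bipartiteBelow r t = (Finset.univ.filter (fun v : V => ρ t v = v)).erase 0 := by
      ext v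
      rw [Finset.mem_bipartiteBelow, Finset.mem_erase, Finset.mem_filter, Finset.mem_filter]
      simp only [Finset.mem_univ, true_and]
      rfl
    rw [this, Finset.card_erase_of_mem, hcard]
    rw [Finset.mem_filter]
    exact ⟨Finset.mem_univ _, map_zero _⟩
  rw [Finset.sum_congr rfl hL, Finset.sum_congr rfl hR, Finset.sum_const, Finset.sum_const,
    smul_eq_mul, smul_eq_mul, mul_one] at hdc
  have hscard : s.card + 1 = Q ^ 2 := by
    rw [← hVQ, Nat.card_eq_fintype_card]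
    have : s = (Finset.univ : Finset V).erase 0 := by
      ext v
      simp [s]
    rw [this, Finset.card_erase_of_mem (Finset.mem_univ _), Finset.card_univ]
    have : 0 < Fintype.card V := Fintype.card_pos
    omega
  have hN : I.card = Q + 1 := by
    obtain ⟨m, rfl⟩ : ∃ m, Q = m + 2 := ⟨Q - 2, by omega⟩
    have h1 : s.card = (m + 1) * (m + 3) := by
      have : (m + 2) ^ 2 = (m + 1) * (m + 3) + 1 := by ring
      omega
    rw [h1] at hdc
    have h2 : m + 2 - 1 = m + 1 := by omega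
    rw [h2] at hdc
    have h3 : (m + 1) * (m + 3) = (m + 1) * I.card := by rw [hdc]; ring
    have := Nat.eq_of_mul_eq_mul_left (Nat.succ_pos m) h3
    omega
  rw [Nat.card_eq_fintype_card, Fintype.card_subtype]
  exact hN

end Cfsg.Agent.Lib.Helper82_HT_DL2
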