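import Mathlib
import Cfsg.Agent.Lib.Helper4_HTDefs

/-!
# S3371-TWOS (architect helper4): the imprimitive case for `p = 2` gives `s = 2`
-/

set_option autoImplicit false

namespace Cfsg.Agent.Lib.Helper82_HT_TWOS

open Cfsg.Agent.Lib.Helper4_HTDefs

section GroupLemmas

variable {G : Type*} [Group G]

theorem card_eq_card_mul_relIndex {T S : Subgroup G} (h : T ≤ S) :
    Nat.card S = Nat.card T * T.relIndex S := by
  rw [Subgroup.relIndex, ← (T.subgroupOf S).card_mul_index,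
    Nat.card_congr (Subgroup.subgroupOfEquivOfLe h).toEquiv]

theorem inv_mul_mem_of_relIndex_le_two [Finite G] {T S : Subgroup G}
    (h : T.relIndex S ≤ 2) {a b : G} (ha : a ∈ S) (hb : b ∈ S) (ha' : a ∉ T) (hb' : b ∉ T) :
    a⁻¹ * b ∈ T := by
  have h0 : T.relIndex S ≠ 0 := by
    unfold Subgroup.relIndex
    exact Subgroup.index_ne_zero_of_finite
  have h1 : T.relIndex S ≠ 1 := by
    intro h1
    exact ha' (Subgroup.relIndex_eq_one.mp h1 ha)
  have h2 : (T.subgroupOf S).index = 2 := by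
    unfold Subgroup.relIndex at h h0 h1
    omega
  have := Subgroup.mul_mem_iff_of_index_two h2 (a := (⟨a⁻¹, S.inv_mem ha⟩ : ↥S)) (b := ⟨b, hb⟩)
  rw [Subgroup.mem_subgroupOf, Subgroup.mem_subgroupOf, Subgroup.mem_subgroupOf] at this
  apply this.mpr
  constructor
  · intro h; exact absurd (by simpa using T.inv_mem h) ha'
  · intro h; exact absurd h hb'

theorem perm_fin_two (σ : Equiv.Perm (Fin 2)) (h : orderOf σ = 2) : σ 0 = 1 ∧ σ 1 = 0 := by
  have hne : σ ≠ 1 := by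
    intro h1
    rw [h1, orderOf_one] at h
    omega
  have key : ∀ τ : Equiv.Perm (Fin 2), τ ≠ 1 → τ 0 = 1 ∧ τ 1 = 0 := by decide
  exact key σ hne

end GroupLemmas

variable {q : ℕ} [Fact q.Prime] {V : Type*} [AddCommGroup V] [Module (ZMod q) V]
  {G : Type*} [Group G]

theorem rho_mul (ρ : G →* (V ≃ₗ[ZMod q] V)) (a b : G) (v : V) : ρ (a * b) v = ρ a (ρ b v) := by
  rw [map_mul, LinearEquiv.mul_apply]

theorem rho_one (ρ : G →* (V ≃ₗ[ZMod q] V)) (v : V) : ρ 1 v = v := by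
  rw [map_one]; rfl

theorem rho_inv_apply (ρ : G →* (V ≃ₗ[ZMod q] V)) (a : G) (v : V) : ρ a⁻¹ (ρ a v) = v := by
  rw [← rho_mul, inv_mul_cancel, rho_one]

/-- the pointwise stabilizer of a submodule -/
def Kfix (ρ : G →* (V ≃ₗ[ZMod q] V)) (W : Submodule (ZMod q) V) : Subgroup G where
  carrier := {g | ∀ w ∈ W, ρ g w = w}
  mul_mem' {a b} ha hb := by
    intro w hw
    rw [rho_mul, hb w hw, ha w hw]
  one_mem' := fun w _ => rho_one ρ w
  inv_mem' {a} ha := by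
    intro w hw
    have := rho_inv_apply ρ a w
    rwa [ha w hw] at this

theorem mem_Kfix (ρ : G →* (V ≃ₗ[ZMod q] V)) (W : Submodule (ZMod q) V) (g : G) :
    g ∈ Kfix ρ W ↔ ∀ w ∈ W, ρ g w = w := Iff.rfl

/-- The standing hypotheses on a pair of blocks. -/
structure Pair (ρ : G →* (V ≃ₗ[ZMod q] V)) (H : Subgroup G) (Wa Wb : Submodule (ZMod q) V) :
    Prop where
  disj : ∀ v : V, v ∈ Wa → v ∈ Wb → v = 0
  invA : ∀ h ∈ H, ∀ w ∈ Wa, ρ h w ∈ Wa
  invB : ∀ h ∈ H, ∀ w ∈ Wb, ρ h w ∈ Wb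
  swapA : ∀ g : G, g ∉ H → ∀ w ∈ Wa, ρ g w ∈ Wb
  idx : H.index = 2

variable {ρ : G →* (V ≃ₗ[ZMod q] V)} {H : Subgroup G} {Wa Wb : Submodule (ZMod q) V}

theorem Pair.stab_le (P : Pair ρ H Wa Wb) {w : V} (hw : w ∈ Wa) (hw0 : w ≠ 0) : stab ρ w ≤ H := by
  intro g hg
  by_contra hgH
  have h1 : ρ g w ∈ Wb := P.swapA g hgH w hw
  rw [(mem_stab ρ w g).mp hg] at h1
  exact hw0 (P.disj w hw h1)

theorem Pair.fix_add_iff (P : Pair ρ H Wa Wb) {w u : V} (hw : w ∈ Wa) (hu : u ∈ Wb) {h : G}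
    (hh : h ∈ H) : ρ h (w + u) = w + u ↔ ρ h w = w ∧ ρ h u = u := by
  constructor
  · intro he
    rw [map_add] at he
    have h1 : ρ h w - w = u - ρ h u := by
      rw [sub_eq_sub_iff_add_eq_add, he, add_comm]
    have h2 : ρ h w - w ∈ Wa := Wa.sub_mem (P.invA h hh w hw) hw
    have h3 : ρ h w - w ∈ Wb := by
      rw [h1]; exact Wb.sub_mem hu (P.invB h hh u hu)
    have h4 := P.disj _ h2 h3
    have h5 : ρ h w = w := sub_eq_zero.mp h4
    refine ⟨h5, ?_⟩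
    rw [h4] at h1
    exact (sub_eq_zero.mp h1.symm).symm
  · rintro ⟨h1, h2⟩
    rw [map_add, h1, h2]

theorem Pair.add_ne_zero (P : Pair ρ H Wa Wb) {w u : V} (hw : w ∈ Wa) (hu : u ∈ Wb)
    (hw0 : w ≠ 0) : w + u ≠ 0 := by
  intro h
  have : w = -u := eq_neg_of_add_eq_zero_left h
  exact hw0 (P.disj w hw (by rw [this]; exact Wb.neg_mem hu))

/-- `stab (w + u) ⊓ H = stab w ⊓ stab u`. -/
theorem Pair.stab_add_inf (P : Pair ρ H Wa Wb) {w u : V} (hw : w ∈ Wa) (hu : u ∈ Wb)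
    (hw0 : w ≠ 0) : stab ρ (w + u) ⊓ H = stab ρ w ⊓ stab ρ u := by
  ext g
  rw [Subgroup.mem_inf, Subgroup.mem_inf, mem_stab, mem_stab, mem_stab]
  constructor
  · rintro ⟨h1, h2⟩
    exact (P.fix_add_iff hw hu h2).mp h1
  · rintro ⟨h1, h2⟩
    have hgH : g ∈ H := P.stab_le hw hw0 ((mem_stab ρ w g).mpr h1)
    exact ⟨(P.fix_add_iff hw hu hgH).mpr ⟨h1, h2⟩, hgH⟩

/-- `stab w ⊓ stab u` has index at most `2` in `stab w`. -/
theorem Pair.relIndex_le_two [Finite G] (P : Pair ρ H Wa Wb) {s : ℕ} (hs : HalfT ρ s) {w u : V}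
    (hw : w ∈ Wa) (hu : u ∈ Wb) (hw0 : w ≠ 0) :
    (stab ρ w ⊓ stab ρ u).relIndex (stab ρ w) ≤ 2 := by
  have hHn : H.Normal := Subgroup.normal_of_index_eq_two P.idx
  have h1 : H.relIndex (stab ρ (w + u)) ≤ 2 := by
    have := Subgroup.relIndex_dvd_index_of_normal H (stab ρ (w + u))
    rw [P.idx] at this
    exact Nat.le_of_dvd (by norm_num) this
  have h2 : Nat.card (stab ρ (w + u)) =
      Nat.card ↥(stab ρ (w + u) ⊓ H) * (stab ρ (w + u) ⊓ H).relIndex (stab ρ (w + u)) :=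
    card_eq_card_mul_relIndex inf_le_left
  rw [Subgroup.inf_relIndex_left, P.stab_add_inf hw hu hw0, hs _ (P.add_ne_zero hw hu hw0)] at h2
  have h3 : Nat.card (stab ρ w) =
      Nat.card ↥(stab ρ w ⊓ stab ρ u) * (stab ρ w ⊓ stab ρ u).relIndex (stab ρ w) :=
    card_eq_card_mul_relIndex inf_le_left
  rw [hs w hw0] at h3
  have hpos : 0 < Nat.card ↥(stab ρ w ⊓ stab ρ u) := Nat.card_pos
  -- s = c * r = c * r' with r ≤ 2
  have h4 : Nat.card ↥(stab ρ w ⊓ stab ρ u) * (stab ρ w ⊓ stab ρ u).relIndex (stab ρ w)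
      = Nat.card ↥(stab ρ w ⊓ stab ρ u) * H.relIndex (stab ρ (w + u)) := by
    rw [← h3, ← h2]
  have h5 := Nat.eq_of_mul_eq_mul_left hpos h4
  rw [h5]; exact h1

/-- the orbit condition for subgroups of `stab w` acting on `Wb` -/
theorem Pair.orbit_cond [Finite G] (P : Pair ρ H Wa Wb) {s : ℕ} (hs : HalfT ρ s) {w : V}
    (hw : w ∈ Wa) (hw0 : w ≠ 0) {u : V} (hu : u ∈ Wb) {a b : G} (ha : a ∈ stab ρ w)
    (hb : b ∈ stab ρ w) : ρ a u = u ∨ ρ b u = u ∨ ρ a u = ρ b u := by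
  by_cases hau : ρ a u = u
  · exact Or.inl hau
  by_cases hbu : ρ b u = u
  · exact Or.inr (Or.inl hbu)
  refine Or.inr (Or.inr ?_)
  have ha' : a ∉ stab ρ w ⊓ stab ρ u := fun h => hau ((mem_stab ρ u a).mp (Subgroup.mem_inf.mp h).2)
  have hb' : b ∉ stab ρ w ⊓ stab ρ u := fun h => hbu ((mem_stab ρ u b).mp (Subgroup.mem_inf.mp h).2)
  have := inv_mul_mem_of_relIndex_le_two (P.relIndex_le_two hs hw hu hw0) ha hb ha' hb'
  have h1 : ρ (a⁻¹ * b) u = u := (mem_stab ρ u _).mp (Subgroup.mem_inf.mp this).2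
  rw [rho_mul] at h1
  have h2 : ρ a (ρ a⁻¹ (ρ b u)) = ρ a u := by rw [h1]
  rw [← rho_mul, mul_inv_cancel, rho_one] at h2
  exact h2.symm

theorem odd_card_submodule [Finite V] (hq2 : q ≠ 2) (W : Submodule (ZMod q) V) :
    Odd (Nat.card W) := by
  have hq : q.Prime := Fact.out
  have := Fintype.ofFinite W
  rw [Nat.card_eq_fintype_card, Module.card_eq_pow_finrank (K := ZMod q), ZMod.card]
  exact (hq.odd_of_ne_two hq2).pow

/-- the action of a subgroup of `H` on an invariant submodule -/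
def actHom (ρ : G →* (V ≃ₗ[ZMod q] V)) (S : Subgroup G) (W : Submodule (ZMod q) V)
    (hinv : ∀ a ∈ S, ∀ m ∈ W, ρ a m ∈ W) : ↥S →* AddMonoid.End ↥W where
  toFun a :=
    { toFun := fun m => ⟨ρ a m, hinv a a.2 m m.2⟩
      map_zero' := by
        apply Subtype.ext
        show ρ (a : G) ((0 : ↥W) : V) = ((0 : ↥W) : V)
        rw [Submodule.coe_zero, map_zero]
      map_add' := by
        intro m m'
        apply Subtype.ext
        show ρ (a : G) ((m + m' : ↥W) : V) = ρ (a : G) m + ρ (a : G) m'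
        rw [Submodule.coe_add, map_add] }
  map_one' := by
    apply AddMonoidHom.ext
    intro m
    apply Subtype.ext
    show ρ ((1 : ↥S) : G) (m : V) = (m : V)
    rw [Subgroup.coe_one, rho_one]
  map_mul' := by
    intro a b
    apply AddMonoidHom.ext
    intro m
    apply Subtype.ext
    show ρ ((a * b : ↥S) : G) (m : V) = ρ (a : G) (ρ (b : G) (m : V))
    rw [Subgroup.coe_mul, rho_mul]

theorem actHom_apply (ρ : G →* (V ≃ₗ[ZMod q] V)) (S : Subgroup G) (W : Submodule (ZMod q) V)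
    (hinv : ∀ a ∈ S, ∀ m ∈ W, ρ a m ∈ W) (a : ↥S) (m : ↥W) :
    ((actHom ρ S W hinv a m : ↥W) : V) = ρ (a : G) (m : V) := rfl

/-- `(M)`: a subgroup of `stab w` has a subgroup of index at most `2` fixing `Wb` pointwise. -/
theorem Pair.card_le.{u, v} {q : ℕ} [Fact q.Prime] {V : Type v} [AddCommGroup V]
    [Module (ZMod q) V] [Finite V] {G : Type u} [Group G] [Finite G]
    {ρ : G →* (V ≃ₗ[ZMod q] V)} {H : Subgroup G} {Wa Wb : Submodule (ZMod q) V}
    (hq2 : q ≠ 2) (P : Pair ρ H Wa Wb) {s : ℕ} (hs : HalfT ρ s) {w : V} (hw : w ∈ Wa)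
    (hw0 : w ≠ 0) (S : Subgroup G) (hS : S ≤ stab ρ w)
    (horb2 : ∀ {A : Type u} [Group A] [Finite A] {M : Type v} [AddCommGroup M] [Finite M],
      Odd (Nat.card M) → ∀ φ : A →* AddMonoid.End M,
      (∀ m : M, ∀ a b : A, φ a m = m ∨ φ b m = m ∨ φ a m = φ b m) → φ.ker.index ≤ 2) :
    Nat.card S ≤ 2 * Nat.card ↥(S ⊓ Kfix ρ Wb) := by
  have hSH : S ≤ H := hS.trans (P.stab_le hw hw0)
  have hinv : ∀ a ∈ S, ∀ m ∈ Wb, ρ a m ∈ Wb := fun a ha m hm => P.invB a (hSH ha) m hm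
  set φ := actHom ρ S Wb hinv with hφ
  have hidx : φ.ker.index ≤ 2 := by
    apply horb2 (odd_card_submodule hq2 Wb) φ
    intro m a b
    rcases P.orbit_cond hs hw hw0 m.2 (hS a.2) (hS b.2) with h | h | h
    · left; exact Subtype.ext h
    · right; left; exact Subtype.ext h
    · right; right; exact Subtype.ext h
  have hcard : Nat.card φ.ker * φ.ker.index = Nat.card ↥S := φ.ker.card_mul_index
  have hker : Nat.card φ.ker ≤ Nat.card ↥(S ⊓ Kfix ρ Wb) := by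
    have hmem : ∀ a : φ.ker, ((a : ↥S) : G) ∈ S ⊓ Kfix ρ Wb := by
      intro a
      refine Subgroup.mem_inf.mpr ⟨(a : ↥S).2, ?_⟩
      intro m hm
      have h1 : φ (a : ↥S) = 1 := MonoidHom.mem_ker.mp a.2
      have h2 : φ (a : ↥S) ⟨m, hm⟩ = ⟨m, hm⟩ := by rw [h1]; rfl
      exact congrArg Subtype.val h2
    apply Nat.card_le_card_of_injective (fun a : φ.ker => (⟨((a : ↥S) : G), hmem a⟩ : ↥(S ⊓ Kfix ρ Wb)))
    intro a b hab
    apply Subtype.ext
    apply Subtype.ext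
    have := congrArg Subtype.val hab
    exact this
  calc Nat.card ↥S = Nat.card φ.ker * φ.ker.index := hcard.symm
    _ ≤ Nat.card φ.ker * 2 := Nat.mul_le_mul_left _ hidx
    _ = 2 * Nat.card φ.ker := mul_comm _ _
    _ ≤ 2 * Nat.card ↥(S ⊓ Kfix ρ Wb) := Nat.mul_le_mul_left _ hker

theorem twos.{u, v} {q : ℕ} [Fact q.Prime] {V : Type v} [AddCommGroup V] [Module (ZMod q) V] [Finite V]
    {G : Type u} [Group G] [Finite G] [Nontrivial V] (hq2 : q ≠ 2) (hG : IsPGroup 2 G)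
    (ρ : G →* (V ≃ₗ[ZMod q] V))
    (hρ : Function.Injective ρ) (s : ℕ) (hs : HalfT ρ s) (hs1 : s ≠ 1)
    (H : Subgroup G) (W : Fin 2 → Submodule (ZMod q) V) (himp : Imprim 2 ρ H W)
    (horb2 : ∀ {A : Type u} [Group A] [Finite A] {M : Type v} [AddCommGroup M] [Finite M],
      Odd (Nat.card M) → ∀ φ : A →* AddMonoid.End M,
      (∀ m : M, ∀ a b : A, φ a m = m ∨ φ b m = m ∨ φ a m = φ b m) → φ.ker.index ≤ 2) :
    s = 2 := by
  obtain ⟨hidx, hsup, hind, hHinv, hfix, hswap⟩ := himp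
  -- an element outside `H`
  have hHne : H ≠ ⊤ := by
    intro h
    rw [h, Subgroup.index_top] at hidx
    omega
  obtain ⟨g0, hg0⟩ : ∃ g0, g0 ∉ H := by
    by_contra hcon
    push Not at hcon
    exact hHne (eq_top_iff.mpr fun g _ => hcon g)
  -- elements outside `H` swap the blocks
  have hsw : ∀ g, g ∉ H → (∀ w ∈ W 0, ρ g w ∈ W 1) ∧ (∀ w ∈ W 1, ρ g w ∈ W 0) := by
    intro g hg
    obtain ⟨σ, hσ, hmap⟩ := hswap g hg
    obtain ⟨h0, h1⟩ := perm_fin_two σ hσ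
    constructor
    · intro w hw
      have := hmap 0
      rw [h0] at this
      rw [← this]
      exact Submodule.mem_map_of_mem hw
    · intro w hw
      have := hmap 1
      rw [h1] at this
      rw [← this]
      exact Submodule.mem_map_of_mem hw
  have hdisj : ∀ v, v ∈ W 0 → v ∈ W 1 → v = 0 := by
    have := hind.pairwiseDisjoint (show (0 : Fin 2) ≠ 1 by decide)
    intro v h0 h1
    exact (Submodule.disjoint_def.mp this) v h0 h1
  have P01 : Pair ρ H (W 0) (W 1) :=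
    ⟨hdisj, fun h hh w hw => hHinv h hh 0 w hw, fun h hh w hw => hHinv h hh 1 w hw,
      fun g hg => (hsw g hg).1, hidx⟩
  have P10 : Pair ρ H (W 1) (W 0) :=
    ⟨fun v h1 h0 => hdisj v h0 h1, fun h hh w hw => hHinv h hh 1 w hw,
      fun h hh w hw => hHinv h hh 0 w hw, fun g hg => (hsw g hg).2, hidx⟩
  -- decomposition of vectors
  have hdec : ∀ v : V, ∃ w0 ∈ W 0, ∃ w1 ∈ W 1, v = w0 + w1 := by
    intro v
    have hv : v ∈ iSup W := by rw [hsup]; trivial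
    have h2 : iSup W = W 0 ⊔ W 1 := by
      apply le_antisymm
      · apply iSup_le
        intro i
        fin_cases i
        · exact le_sup_left
        · exact le_sup_right
      · exact sup_le (le_iSup W 0) (le_iSup W 1)
    rw [h2, Submodule.mem_sup] at hv
    obtain ⟨w0, h0, w1, h1, rfl⟩ := hv
    exact ⟨w0, h0, w1, h1, rfl⟩
  have hK01 : Kfix ρ (W 0) ⊓ Kfix ρ (W 1) = ⊥ := by
    rw [Subgroup.eq_bot_iff_forall]
    intro g hg
    obtain ⟨hg0', hg1'⟩ := Subgroup.mem_inf.mp hg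
    apply hρ
    rw [map_one]
    apply LinearEquiv.ext
    intro v
    obtain ⟨w0, h0, w1, h1, rfl⟩ := hdec v
    rw [map_add, hg0' w0 h0, hg1' w1 h1]
    rfl
  have hK1 : Kfix ρ (W 1) ≠ ⊥ := by
    obtain ⟨h, hh, h1, hf⟩ := hfix 1
    intro hbot
    have : h ∈ Kfix ρ (W 1) := hf
    rw [hbot, Subgroup.mem_bot] at this
    exact h1 this
  -- nonzero vectors in both blocks
  obtain ⟨w0, hw0, hw00⟩ : ∃ w ∈ W 0, w ≠ 0 := by
    obtain ⟨v, hv⟩ := exists_ne (0 : V)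
    obtain ⟨a, ha, b, hb, rfl⟩ := hdec v
    by_cases ha0 : a = 0
    · have hb0 : b ≠ 0 := by
        rintro rfl
        apply hv
        rw [ha0, add_zero]
      refine ⟨ρ g0 b, (hsw g0 hg0).2 b hb, ?_⟩
      intro h
      apply hb0
      exact (ρ g0).injective (by rw [h, map_zero])
    · exact ⟨a, ha, ha0⟩
  obtain ⟨u0, hu0, hu00⟩ : ∃ u ∈ W 1, u ≠ 0 :=
    ⟨ρ g0 w0, (hsw g0 hg0).1 w0 hw0, fun h => hw00 ((ρ g0).injective (by rw [h, map_zero]))⟩
  have hK0le : ∀ w ∈ W 0, Kfix ρ (W 0) ≤ stab ρ w := fun w hw g hg => hg w hw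
  have hK1le : ∀ u ∈ W 1, Kfix ρ (W 1) ≤ stab ρ u := fun u hu g hg => hg u hu
  have hcK1 : Nat.card (Kfix ρ (W 1)) ≤ 2 := by
    have := P10.card_le hq2 hs hu0 hu00 (Kfix ρ (W 1)) (hK1le u0 hu0) horb2
    rw [inf_comm, hK01, Subgroup.card_bot] at this
    omega
  have hsle : ∀ w ∈ W 0, w ≠ 0 → s ≤ 2 * Nat.card ↥(stab ρ w ⊓ Kfix ρ (W 1)) := by
    intro w hw hw0'
    have := P01.card_le hq2 hs hw hw0' (stab ρ w) le_rfl horb2
    rwa [hs w hw0'] at this
  -- `s` is a power of two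
  obtain ⟨j, hj⟩ : ∃ j, s = 2 ^ j := by
    have h1 : Nat.card (stab ρ w0) ∣ Nat.card G := Subgroup.card_subgroup_dvd_card _
    obtain ⟨n, hn⟩ := IsPGroup.iff_card.mp hG
    rw [hs w0 hw00, hn] at h1
    obtain ⟨j, -, hj⟩ := (Nat.dvd_prime_pow Nat.prime_two).mp h1
    exact ⟨j, hj⟩
  have hs4 : s ≤ 4 := by
    have h1 := hsle w0 hw0 hw00
    have h2 : Nat.card ↥(stab ρ w0 ⊓ Kfix ρ (W 1)) ≤ Nat.card (Kfix ρ (W 1)) :=
      Subgroup.card_le_of_le inf_le_right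
    omega
  have hs4' : s ≠ 4 := by
    intro h4
    apply hK1
    have hle : Kfix ρ (W 1) ≤ Kfix ρ (W 0) := by
      intro g hg w hw
      by_cases hw0' : w = 0
      · rw [hw0', map_zero]
      have h1 := hsle w hw hw0'
      have h2 : Nat.card ↥(stab ρ w ⊓ Kfix ρ (W 1)) ≤ Nat.card (Kfix ρ (W 1)) :=
        Subgroup.card_le_of_le inf_le_right
      have h3 : Nat.card ↥(stab ρ w ⊓ Kfix ρ (W 1)) = Nat.card (Kfix ρ (W 1)) := by omega
      have h5 : stab ρ w ⊓ Kfix ρ (W 1) = Kfix ρ (W 1) :=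
        Subgroup.eq_of_le_of_card_ge inf_le_right (le_of_eq h3.symm)
      have h6 : g ∈ stab ρ w ⊓ Kfix ρ (W 1) := by rw [h5]; exact hg
      exact (mem_stab ρ w g).mp (Subgroup.mem_inf.mp h6).1
    have : Kfix ρ (W 1) ≤ Kfix ρ (W 0) ⊓ Kfix ρ (W 1) := le_inf hle le_rfl
    rw [hK01] at this
    exact le_bot_iff.mp this
  -- conclude
  rcases j with _ | _ | _ | j
  · exact absurd hj hs1
  · rw [hj]; rfl
  · exact absurd hj hs4'
  · exfalso
    have : 8 ≤ 2 ^ (j + 1 + 1 + 1) := by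
      calc 8 = 2 ^ 3 := by norm_num
        _ ≤ 2 ^ (j + 1 + 1 + 1) := Nat.pow_le_pow_right (by norm_num) (by omega)
    omega

end Cfsg.Agent.Lib.Helper82_HT_TWOS
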