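import Mathlib
import Cfsg.Prelude.Def_Blocks
import Cfsg.Prelude.Def_BlockLocal
import Cfsg.Prelude.Def_BrauerPairs
import Cfsg.Agent.Lib.Helper82_CentralFusion
import Cfsg.Agent.Lib.Helper82_CentralSubsec
import Cfsg.Agent.Lib.Helper82_ContribLower
import Cfsg.Agent.Lib.Helper82_FusedBound
import Cfsg.Agent.Lib.Helper82_NormBound
import Cfsg.Agent.Lib.Helper82_BrauerCountElems
import Cfsg.Agent.Lib.Helper77_CentralDefect
import Cfsg.Agent.Lib.Helper78_LocalRing
import Cfsg.Agent.Lib.Helper78_TransportBlocks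
import Cfsg.Agent.Lib.Helper78_PrincipalFusion
import Cfsg.Agent.Lib.Helper78_PairConj
import Cfsg.Agent.Lib.Helper78_SubpairTrans
import Cfsg.Agent.Lib.Helper78_SubpairUnique
import Cfsg.Agent.Lib.Helper97_InducedPair2
import Cfsg.Agent.Lib.Helper97_NilRank
import Cfsg.Agent.Lib.Helper57_BrauerFeit
import Cfsg.Agent.Lib.Helper57_ContribMatrix
import Cfsg.Agent.Lib.Helper3_CharOrtho

/-!
# Heights and the fusion of central elements of a defect group (helper82)

`card_center_mul_pow_height_le`: let `(D, e)` be a maximal Brauer pair of the block `B` and suppose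
every `u ∈ Z(D)` has at most `E` conjugates in `Z(D)` under the stabilizer of `(D, e)`.  Then
`|Z(D)| p ^ height χ ≤ E |D|` for every `χ ∈ B`.
-/

set_option autoImplicit false
set_option linter.unusedSectionVars false
set_option maxHeartbeats 1000000

namespace Cfsg.Agent.Lib.Helper82_HeightBound

open Cfsg
open scoped ComplexConjugate
open Cfsg.Agent.Lib.Helper3_CharOrtho
  Cfsg.Agent.Lib.Helper57_BrauerFeit Cfsg.Agent.Lib.Helper57_ContribMatrix
  Cfsg.Agent.Lib.Helper78_LocalRing Cfsg.Agent.Lib.Helper78_TransportBlocks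
  Cfsg.Agent.Lib.Helper78_PrincipalFusion Cfsg.Agent.Lib.Helper78_PairConj
  Cfsg.Agent.Lib.Helper78_SubpairTrans Cfsg.Agent.Lib.Helper78_SubpairUnique
  Cfsg.Agent.Lib.Helper97_InducedPair2 Cfsg.Agent.Lib.Helper97_NilRank
  Cfsg.Agent.Lib.Helper82_BrauerCountElems Cfsg.Agent.Lib.Helper82_CentralFusion
  Cfsg.Agent.Lib.Helper82_CentralSubsec Cfsg.Agent.Lib.Helper82_ContribLower
  Cfsg.Agent.Lib.Helper82_FusedBound Cfsg.Agent.Lib.Helper82_NormBound

universe u

variable {G : Type u} [Group G]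

/-! ### Transport lemmas -/

theorem castIrr_mapBlock_aux {K₁ K₁' K₂ K₂' : Subgroup G} (h₁ : K₁ = K₁') (h₂ : K₂ = K₂')
    (φ : K₂ ≃* K₁) (φ' : K₁' ≃* K₂') (g : G)
    (hφ : ∀ c : K₂, ((φ c : K₁) : G) = g⁻¹ * (c : G) * g)
    (hφ' : ∀ c : K₁', ((φ' c : K₂') : G) = g * (c : G) * g⁻¹)
    (f : Set (IrrCharacter K₁)) :
    castIrr h₂ (mapBlock φ f) = mapBlock φ'.symm (castIrr h₁ f) := by
  subst h₁
  subst h₂
  have : φ = φ'.symm := by
    ext c
    have h3 : φ' (φ c) = c := by
      apply Subtype.ext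
      rw [hφ', hφ]
      group
    rw [← h3, MulEquiv.symm_apply_apply, h3]
  rw [this]
  rfl

theorem subBlock_eq_of_mapBlock (g u : G)
    (f : Set (IrrCharacter (Subgroup.centralizer ((Subgroup.zpowers u : Subgroup G) : Set G))))
    (β' : Set (IrrCharacter ↥(Subgroup.centralizer ({g * u * g⁻¹} : Set G))))
    (h : mapBlock (centConj u g) β' = castIrr (centralizer_zpowers_eq u) f) :
    subBlock g u (g * u * g⁻¹) rfl f = β' := by
  unfold subBlock
  rw [conjBlock_eq_mapBlock,
    castIrr_mapBlock_aux (centralizer_zpowers_eq u) (cent_conj_eq g u (g * u * g⁻¹) rfl)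
      (centConjEquiv (Subgroup.zpowers u) g) (centConj u g) g
      (fun c => centConjEquiv_apply _ _ c) (fun c => centConj_coe u g c) f,
    ← h, mapBlock_symm_mapBlock]

theorem castIrr_family_eq (F : ∀ Q : Subgroup G, Set (IrrCharacter (Subgroup.centralizer (Q : Set G))))
    {Q Q' : Subgroup G} (hQ : Q = Q') {K K' : Subgroup G}
    (h1 : Subgroup.centralizer (Q : Set G) = K) (h1' : Subgroup.centralizer (Q' : Set G) = K')
    (hK : K' = K) : castIrr hK (castIrr h1' (F Q')) = castIrr h1 (F Q) := by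
  subst hQ
  subst h1
  subst hK
  rfl

theorem sum_normSq_castIrr [Fintype G] (p : ℕ) {K K' : Subgroup G} (hK : K' = K) [Fintype K]
    [Fintype K'] (y : G) (χ : IrrCharacter G) (b' : Set (IrrCharacter K')) :
    ∑ η ∈ bset (castIrr hK b'), Complex.normSq (acoef p K y χ η) =
      ∑ η ∈ bset b', Complex.normSq (acoef p K' y χ η) := by
  subst hK
  have : (‹Fintype K'› : Fintype K') = ‹Fintype K'› := rfl
  congr!

/-! ### Powers in the centre of a `p`-group -/

theorem pow_mul_eq_self {x : G} {N j m : ℕ} (hx : x ^ N = 1) (hjm : j * m % N = 1) :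
    (x ^ j) ^ m = x := by
  rw [← pow_mul, ← Nat.div_add_mod (j * m) N, hjm, pow_add, pow_mul, hx, one_pow, one_mul, pow_one]

theorem zpowers_pow_eq {x : G} {N j m : ℕ} (hx : x ^ N = 1) (hjm : j * m % N = 1) :
    Subgroup.zpowers x = Subgroup.zpowers (x ^ j) := by
  apply le_antisymm
  · rw [Subgroup.zpowers_le]
    have h : (x ^ j) ^ m = x := pow_mul_eq_self hx hjm
    have h2 : (x ^ j) ^ m ∈ Subgroup.zpowers (x ^ j) :=
      Subgroup.pow_mem _ (Subgroup.mem_zpowers (x ^ j)) m
    rwa [h] at h2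
  · rw [Subgroup.zpowers_le]
    exact Subgroup.pow_mem _ (Subgroup.mem_zpowers _) _

section Main

variable [Fintype G] {p : ℕ} [Fact p.Prime] {M : Ideal AlgInt}

open Classical in
/-- **Heights and central fusion.** -/
theorem card_center_mul_pow_height_le (hM : IsPModular p M) {B : Set (IrrCharacter G)}
    (hB : IsPBlock M B) {D : Subgroup G}
    {e : Set (IrrCharacter (Subgroup.centralizer (D : Set G)))}
    (hmax : IsMaximalBrauerPair p M B D e) (hBD : IsDefectGroup p M B D)
    (Zs : Finset G) (hZs : ∀ u, u ∈ Zs ↔ u ∈ D ∧ ∀ x ∈ D, x * u = u * x)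
    (E : ℕ)
    (hE : ∀ u ∈ Zs, (Zs.filter (fun u' => ∃ t ∈ Subgroup.normalizer (D : Set G),
        StabilizesBlock (Subgroup.centralizer (D : Set G)) e t ∧ t * u * t⁻¹ = u')).card ≤ E)
    (χ : IrrCharacter G) (hχ : χ ∈ B) :
    Zs.card * p ^ blockHeight p B (χ : G → ℂ) ≤ E * p ^ blockDefect p B := by
  have hp : p.Prime := Fact.out
  have hMp := isPrime_of_isPModular hM
  have inst : ∀ u : G, Fintype ↥(Subgroup.centralizer ({u} : Set G)) :=
    fun u => Fintype.ofFinite _
  obtain ⟨hDp, hDcard⟩ := Cfsg.Agent.Lib.Helper77_CentralDefect.card_of_isDefectGroup hM hB hBD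
  -- the blocks below `(D, e)`
  have key : ∀ Q : Subgroup G, ∃ f : Set (IrrCharacter (Subgroup.centralizer (Q : Set G))),
      Q ≤ D → IsPBlock M f ∧ SubpairLE p M Q f D e := by
    intro Q
    by_cases h : Q ≤ D
    · obtain ⟨f, hf1, hf2⟩ := exists_subpairLE hM hmax.1.1 Q h
      exact ⟨f, fun _ => ⟨hf1, hf2⟩⟩
    · exact ⟨∅, fun h' => absurd h' h⟩
  choose F hF using key
  set βb : ∀ u : G, Set (IrrCharacter ↥(Subgroup.centralizer ({u} : Set G))) :=
    fun u => castIrr (centralizer_zpowers_eq u) (F (Subgroup.zpowers u)) with hβb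
  have hzle : ∀ u ∈ Zs, Subgroup.zpowers u ≤ D := fun u hu =>
    (Subgroup.zpowers_le).mpr ((hZs u).mp hu).1
  have hβblock : ∀ u ∈ Zs, IsPBlock M (βb u) := fun u hu =>
    (isPBlock_castIrr _ _).mpr (hF _ (hzle u hu)).1
  have hβind : ∀ u ∈ Zs, IsInducedBlock M (Subgroup.centralizer ({u} : Set G)) (βb u) B := by
    intro u hu
    have hle := (hF _ (hzle u hu)).2
    have hpair := (isBrauerPairOf_iff_of_subpairLE hM hle hB).mp hmax.1
    exact (isInducedBlock_castIrr _ _ _).mpr (isInducedBlock_of_isBrauerPairOf hM hpair)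
  have hβdef : ∀ u ∈ Zs, blockDefect p (βb u) = blockDefect p B := by
    intro u hu
    have hucen := ((hZs u).mp hu).2
    have hDf := isDefectGroup_of_central hM hmax (hzle u hu) (le_centralizer_zpowers hucen)
      (hF _ (hzle u hu)).1 (hF _ (hzle u hu)).2
    have hDf' : IsDefectGroup p M (βb u) (D.subgroupOf (Subgroup.centralizer ({u} : Set G))) :=
      (isDefectGroup_castIrr _ _ _).mpr hDf
    obtain ⟨-, hcard⟩ := Cfsg.Agent.Lib.Helper77_CentralDefect.card_of_isDefectGroup hM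
      (hβblock u hu) hDf'
    have hDle : D ≤ Subgroup.centralizer ({u} : Set G) := by
      intro x hx
      rw [Subgroup.mem_centralizer_iff]
      intro y hy
      rw [Set.mem_singleton_iff.mp hy]
      exact (hucen x hx).symm
    have hcardeq : Nat.card (D.subgroupOf (Subgroup.centralizer ({u} : Set G))) = Nat.card D :=
      Nat.card_congr (Subgroup.subgroupOfEquivOfLe hDle).toEquiv
    apply Nat.pow_right_injective hp.two_le
    show p ^ blockDefect p (βb u) = p ^ blockDefect p B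
    rw [← hcard, ← hDcard, hcardeq]
  -- orders
  have hpowD : ∀ u ∈ Zs, u ^ (p ^ blockDefect p B) = 1 := by
    intro u hu
    have h1 : (⟨u, ((hZs u).mp hu).1⟩ : D) ^ Nat.card D = 1 := pow_card_eq_one'
    rw [hDcard] at h1
    have := congrArg Subtype.val h1
    simpa using this
  have hord : ∀ u ∈ Zs, ∃ k : ℕ, orderOf u = p ^ k := by
    intro u hu
    obtain ⟨m, -, hm⟩ := (Nat.dvd_prime_pow hp).mp (orderOf_dvd_of_pow_eq_one (hpowD u hu))
    exact ⟨m, hm⟩
  set d := blockDefect p B with hd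
  set N := p ^ (d + 1) with hN
  have hN1 : 1 < N := Nat.one_lt_pow (Nat.succ_ne_zero d) hp.one_lt
  have hpowN : ∀ u ∈ Zs, u ^ N = 1 := by
    intro u hu
    rw [hN, pow_succ, pow_mul, hpowD u hu, one_pow]
  -- closure of `Zs` under powers
  have hZpow : ∀ u ∈ Zs, ∀ j : ℕ, u ^ j ∈ Zs := by
    intro u hu j
    rw [hZs] at hu ⊢
    refine ⟨D.pow_mem hu.1 j, fun x hx => ?_⟩
    have hc : Commute x u := hu.2 x hx
    exact (hc.pow_right j).eq
  set v : G → G → ℂ := fun u => vfun p u (βb u) χ with hv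
  set mm : G → ℝ := fun u => mmS p u (βb u) χ with hmm
  set W : ℝ := ∑ u ∈ Zs, mm u with hW
  -- (B) the lower bound
  have hlow : ∀ u ∈ Zs, ((JJ N).card : ℝ) * (p : ℝ) ^ blockHeight p B (χ : G → ℂ) ≤
      (p : ℝ) ^ d * ∑ j ∈ JJ N, mm (u ^ j) := by
    intro u hu
    have h1 := sum_contrib_ge p M hM B hB u (d + 1) (Nat.succ_pos d) (hpowN u hu) (βb u)
      (hβind u hu) (hβdef u hu) χ hχ
    refine h1.trans (le_of_eq ?_)
    congr 1
    refine Finset.sum_congr rfl fun j hj => ?_
    have hjc : N.Coprime j := (Finset.mem_filter.mp hj).2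
    obtain ⟨m, -, hm⟩ := Nat.exists_mul_mod_eq_one_of_coprime hjc.symm hN1
    have hzp : Subgroup.zpowers u = Subgroup.zpowers (u ^ j) := zpowers_pow_eq (hpowN u hu) hm
    have hK : Subgroup.centralizer ({u ^ j} : Set G) = Subgroup.centralizer ({u} : Set G) := by
      rw [← centralizer_zpowers_eq, ← centralizer_zpowers_eq, hzp]
    have h2 : castIrr hK (βb (u ^ j)) = βb u :=
      castIrr_family_eq F hzp (centralizer_zpowers_eq u) (centralizer_zpowers_eq (u ^ j)) hK
    rw [← h2]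
    exact sum_normSq_castIrr p hK (u ^ j) χ (βb (u ^ j))
  have hJpos : 0 < (JJ N).card := by
    apply Finset.card_pos.mpr
    refine ⟨1, Finset.mem_filter.mpr ⟨Finset.mem_range.mpr hN1, Nat.coprime_one_right N⟩⟩
  have hsumpow : ∀ j ∈ JJ N, ∑ u ∈ Zs, mm (u ^ j) = W := by
    intro j hj
    have hjc : N.Coprime j := (Finset.mem_filter.mp hj).2
    obtain ⟨m, -, hm⟩ := Nat.exists_mul_mod_eq_one_of_coprime hjc.symm hN1
    have hm' : m * j % N = 1 := by rw [mul_comm]; exact hm
    refine Finset.sum_nbij' (fun u => u ^ j) (fun w => w ^ m) (fun u hu => hZpow u hu j)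
      (fun w hw => hZpow w hw m) (fun u hu => pow_mul_eq_self (hpowN u hu) hm)
      (fun w hw => pow_mul_eq_self (hpowN w hw) hm') (fun u _ => rfl)
  have hB2 : (Zs.card : ℝ) * ((JJ N).card : ℝ) * (p : ℝ) ^ blockHeight p B (χ : G → ℂ) ≤
      (p : ℝ) ^ d * (((JJ N).card : ℝ) * W) := by
    have h1 : ∑ u ∈ Zs, ((JJ N).card : ℝ) * (p : ℝ) ^ blockHeight p B (χ : G → ℂ) ≤
        ∑ u ∈ Zs, (p : ℝ) ^ d * ∑ j ∈ JJ N, mm (u ^ j) := Finset.sum_le_sum hlow
    rw [Finset.sum_const, nsmul_eq_mul, ← Finset.mul_sum, Finset.sum_comm,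
      Finset.sum_congr rfl hsumpow, Finset.sum_const, nsmul_eq_mul] at h1
    rw [mul_assoc]
    exact h1
  -- (C) the upper bound
  have hone : (1 : G) ∈ Zs := by
    rw [hZs]
    exact ⟨D.one_mem, fun x _ => by rw [mul_one, one_mul]⟩
  have hEpos : 0 < E := by
    refine lt_of_lt_of_le ?_ (hE 1 hone)
    apply Finset.card_pos.mpr
    refine ⟨1, Finset.mem_filter.mpr ⟨hone, 1, Subgroup.one_mem _, ?_, by group⟩⟩
    refine ⟨Subgroup.one_mem _, fun ξ hξ => ⟨ξ, hξ, ?_⟩⟩
    intro k k' hk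
    have : k' = k := by
      apply Subtype.ext
      rw [hk]
      group
    rw [this]
  have hup : W ≤ E := by
    refine sum_le_of_fused (χ : G → ℂ) ?_ Zs v mm (fun u _ => mmS_nonneg u (βb u) χ)
      (fun u hu => classInner_vfun_left hM (hβblock u hu) χ)
      (fun u u' => ∃ t ∈ Subgroup.normalizer (D : Set G),
        StabilizesBlock (Subgroup.centralizer (D : Set G)) e t ∧ t * u * t⁻¹ = u') ?_ E hEpos ?_
    · rw [classInner_irr χ.2 χ.2, if_pos rfl]
    · intro u hu u' hu'
      by_cases hconj : IsConj u u'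
      · obtain ⟨g, rfl⟩ := isConj_iff.mp hconj
        have hv' : v (g * u * g⁻¹) =
            vfun p u (mapBlock (centConj u g) (βb (g * u * g⁻¹))) χ := vfun_conj u g _ χ
        by_cases hβeq : mapBlock (centConj u g) (βb (g * u * g⁻¹)) = βb u
        · right
          constructor
          · rw [hv', hβeq]
            exact classInner_vfun_self hM (hord u hu) (hβblock u hu) χ
          · have hsub := subBlock_eq_of_mapBlock g u (F (Subgroup.zpowers u))
              (βb (g * u * g⁻¹)) hβeq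
            have hu1 := (hZs u).mp hu
            have hu2 := (hZs _).mp hu'
            exact exists_stab_conj_of_subBlock_eq hM hmax hu1.1 hu2.1 hu1.2 hu2.2
              (hF _ (hzle u hu)).2 (hF _ (hzle _ hu')).2 (hF _ (hzle _ hu')).1 rfl hsub
        · left
          rw [hv']
          exact classInner_vfun_of_disjoint hM (hord u hu) (hβblock u hu)
            (isPBlock_mapBlock _ (hβblock _ hu')) (Ne.symm hβeq) χ
      · left
        exact classInner_vfun_of_not_isConj hM (hord u hu) (hord u' hu') hconj (hβblock u hu)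
          (hβblock u' hu') χ
    · intro u hu
      convert hE u hu
  -- combine
  have hJ' : (0 : ℝ) < (JJ N).card := by exact_mod_cast hJpos
  have hfinal : (Zs.card : ℝ) * (p : ℝ) ^ blockHeight p B (χ : G → ℂ) ≤ (E : ℝ) * (p : ℝ) ^ d := by
    have h1 : ((JJ N).card : ℝ) * ((Zs.card : ℝ) * (p : ℝ) ^ blockHeight p B (χ : G → ℂ)) ≤
        ((JJ N).card : ℝ) * ((E : ℝ) * (p : ℝ) ^ d) := by
      have h2 : (p : ℝ) ^ d * (((JJ N).card : ℝ) * W) ≤ (p : ℝ) ^ d * (((JJ N).card : ℝ) * E) := by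
        have : (0 : ℝ) ≤ (p : ℝ) ^ d := by positivity
        exact mul_le_mul_of_nonneg_left (mul_le_mul_of_nonneg_left hup hJ'.le) this
      nlinarith [hB2, h2]
    exact le_of_mul_le_mul_left h1 hJ'
  exact_mod_cast hfinal

end Main

end Cfsg.Agent.Lib.Helper82_HeightBound
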