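import Cfsg.Agent.Lib.Helper49_KnDefs
import Cfsg.Agent.Lib.Helper65_S3693

/-!
# S3687 market (architect helper49), package ALTCONJ: conjugation invariance of `relCore`, `AS`, `altPart`
-/

set_option linter.unusedSectionVars false

namespace Cfsg.Agent.Lib.Helper82_Kn_ALTCONJ

open Cfsg Cfsg.Agent.Lib.Helper47_TW Cfsg.Agent.Lib.Helper49_KnDefs

universe u v

section Abstract

variable {G : Type u} [Group G] [Finite G]

omit [Finite G] in
theorem mem_cj {g x : G} {H : Subgroup G} : x ∈ cj g H ↔ g⁻¹ * x * g ∈ H := by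
  constructor
  · rintro ⟨y, hy, rfl⟩
    have e : g⁻¹ * (MulAut.conj g).toMonoidHom y * g = y := by
      show g⁻¹ * (g * y * g⁻¹) * g = y
      group
    rw [e]
    exact hy
  · intro h
    refine ⟨g⁻¹ * x * g, h, ?_⟩
    show g * (g⁻¹ * x * g) * g⁻¹ = x
    group

omit [Finite G] in
theorem card_cj (g : G) (H : Subgroup G) : Nat.card (cj g H) = Nat.card H :=
  Nat.card_congr (H.equivMapOfInjective _ (MulAut.conj g).injective).symm.toEquiv

theorem relCore_cj (g : G) (M H : Subgroup G) :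
    relCore (cj g M) (cj g H) = cj g (relCore M H) := by
  ext x
  rw [mem_cj, mem_relCore, mem_relCore, mem_cj]
  constructor
  · rintro ⟨hx, h⟩
    refine ⟨hx, fun m hm => ?_⟩
    have h1 : g * m * g⁻¹ ∈ cj g M := by
      rw [mem_cj]
      have e : g⁻¹ * (g * m * g⁻¹) * g = m := by group
      rw [e]
      exact hm
    have h2 := h _ h1
    rw [mem_cj] at h2
    have e : g⁻¹ * (g * m * g⁻¹ * x * (g * m * g⁻¹)⁻¹) * g = m * (g⁻¹ * x * g) * m⁻¹ := by group
    rw [e] at h2
    exact h2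
  · rintro ⟨hx, h⟩
    refine ⟨hx, fun m hm => ?_⟩
    rw [mem_cj] at hm ⊢
    have h2 := h _ hm
    have e : g⁻¹ * (m * x * m⁻¹) * g = g⁻¹ * m * g * (g⁻¹ * x * g) * (g⁻¹ * m * g)⁻¹ := by group
    rw [e]
    exact h2

theorem as_cj {d : ℕ} {M T : Subgroup G} (g : G) (h : AS d M T) : AS d (cj g M) (cj g T) := by
  obtain ⟨h1, h2, h3⟩ := h
  refine ⟨Subgroup.map_mono h1, ?_, ?_⟩
  · rw [card_cj, card_cj]
    exact h2
  · rw [relCore_cj, card_cj, card_cj]
    exact h3

theorem altPart_cj (g : G) (M T : Subgroup G) :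
    altPart (cj g M) (cj g T) = cj g (altPart M T) := by
  unfold altPart
  rw [relCore_cj]
  show ⁅cj g M, cj g M⁆ ⊔ cj g (relCore M T) = (⁅M, M⁆ ⊔ relCore M T).map (MulAut.conj g).toMonoidHom
  rw [Subgroup.map_sup, Subgroup.map_commutator]

end Abstract

end Cfsg.Agent.Lib.Helper82_Kn_ALTCONJ
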