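import Mathlib
import Cfsg.Prelude.Def_Blocks
import Cfsg.Prelude.Def_BlockRank
import Cfsg.Agent.Lib.Helper78_LocalRing
import Cfsg.Agent.Lib.Helper78_Transport
import Cfsg.Agent.Lib.Helper78_TransportBlocks
import Cfsg.Agent.Lib.Helper78_InducedTrans
import Cfsg.Agent.Lib.Helper78_SecondMainChar
import Cfsg.Agent.Lib.Helper77_RegProj
import Cfsg.Agent.Lib.Helper82_SubsecRank
import Cfsg.Agent.Lib.Helper82_Subsections
import Cfsg.Agent.Lib.Helper82_BrauerCountElems
import Cfsg.Agent.Lib.Helper82_ChainInvolution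

/-!
# The Knörr–Robinson alternating sum for `k(B) − l(B)` (helper82)

`|G| (k(b) − l(b)) = ∑_σ (−1)^{|σ|−1} |N_G(σ)| (k(b_σ) − l(b_σ))`, the sum over the nonempty chains
of nontrivial `p`-subgroups normal in their largest member (`alternating_sum`).  Both sides are
expanded by Brauer's count by subsections into sums over the nontrivial `p`-elements `x`; the
contributions of a fixed `x` cancel through the involution of `Helper82_ChainInvolution`.
-/

set_option autoImplicit false
set_option linter.unusedSectionVars false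

namespace Cfsg.Agent.Lib.Helper82_KnorrRobinson

open Cfsg Cfsg.Agent.Lib.Helper78_LocalRing Cfsg.Agent.Lib.Helper78_Transport
  Cfsg.Agent.Lib.Helper78_TransportBlocks Cfsg.Agent.Lib.Helper78_InducedTrans
  Cfsg.Agent.Lib.Helper78_SecondMainChar Cfsg.Agent.Lib.Helper77_RegProj
  Cfsg.Agent.Lib.Helper82_SubsecRank Cfsg.Agent.Lib.Helper82_Subsections
  Cfsg.Agent.Lib.Helper82_BrauerCountElems Cfsg.Agent.Lib.Helper82_ChainInvolution

universe u v

section transport

variable {G : Type u} [Group G] {H : Type v} [Group H]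

theorem regSpan_mapBlock (p : ℕ) (φ : H ≃* G) (S : Set (IrrCharacter G)) :
    regSpan p (mapBlock φ S) =
      (regSpan p S).map
        ((LinearEquiv.funCongrLeft ℂ ℂ φ.toEquiv : (G → ℂ) ≃ₗ[ℂ] (H → ℂ)) :
          (G → ℂ) →ₗ[ℂ] (H → ℂ)) := by
  rw [regSpan, regSpan, Submodule.map_span, mapBlock, Set.image_image, Set.image_image]
  congr 1
  apply Set.image_congr
  intro χ _
  funext h
  show pRegularPart p (irrComp φ χ : H → ℂ) h = pRegularPart p (χ : G → ℂ) (φ h)
  have hord : orderOf (φ h) = orderOf h := φ.orderOf_eq h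
  by_cases hh : p ∣ orderOf h
  · rw [pRegularPart_of_sing _ hh, pRegularPart_of_sing _ (by rwa [hord])]
  · rw [pRegularPart_of_reg _ hh, pRegularPart_of_reg _ (by rwa [hord]), irrComp_apply]

/-- The `p`-regular rank is invariant under transport along an isomorphism. -/
theorem blockRank_mapBlock (p : ℕ) (φ : H ≃* G) (S : Set (IrrCharacter G)) :
    blockRank p (mapBlock φ S) = blockRank p S := by
  rw [blockRank_eq_finrank, blockRank_eq_finrank, regSpan_mapBlock]
  exact LinearEquiv.finrank_map_eq _ (regSpan p S)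

end transport

variable {G : Type u} [Group G]

/-- The characters of `K` lying in blocks that induce `b`. -/
def indChars (M : Ideal AlgInt) (b : Set (IrrCharacter G)) (K : Subgroup G) :
    Set (IrrCharacter ↥K) :=
  {ψ | ∃ β : Set (IrrCharacter ↥K), ψ ∈ β ∧ IsInducedBlock M K β b}

/-- The weight `|K| · l(b_K)`. -/
noncomputable def wt (p : ℕ) (M : Ideal AlgInt) (b : Set (IrrCharacter G)) (K : Subgroup G) : ℤ :=
  (Nat.card ↥K : ℤ) * (blockRank p (indChars M b K) : ℤ)

theorem indChars_eq_sUnion (M : Ideal AlgInt) (b : Set (IrrCharacter G)) (K : Subgroup G) :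
    indChars M b K = ⋃₀ {β : Set (IrrCharacter ↥K) | IsInducedBlock M K β b} := by
  ext ψ
  constructor
  · rintro ⟨β, hψ, hβ⟩
    exact ⟨β, hβ, hψ⟩
  · rintro ⟨β, hβ, hψ⟩
    exact ⟨β, hψ, hβ⟩

theorem indU_singleton (M : Ideal AlgInt) (b : Set (IrrCharacter G)) (y : G) :
    indU M y {b} = indChars M b (Subgroup.centralizer ({y} : Set G)) := by
  ext ψ
  constructor
  · rintro ⟨β', ⟨β, hβ, hβ'⟩, hψ⟩
    rw [Set.mem_singleton_iff] at hβ
    subst hβ
    exact ⟨β', hψ, hβ'⟩
  · rintro ⟨β', hψ, hβ'⟩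
    exact ⟨β', ⟨b, rfl, hβ'⟩, hψ⟩

/-- The centralizer of `y` in `H` as a subgroup of `G`. -/
def centIso (H : Subgroup G) (y : ↥H) : ↥(Subgroup.centralizer ({y} : Set ↥H)) ≃*
    ↥(Subgroup.centralizer ({(y : G)} : Set G) ⊓ H : Subgroup G) where
  toFun c := ⟨((c : ↥H) : G), by
    rw [Subgroup.mem_inf]
    refine ⟨?_, (c : ↥H).2⟩
    rw [Subgroup.mem_centralizer_iff]
    intro k hk
    rw [Set.mem_singleton_iff] at hk
    rw [hk]
    have h1 : y * (c : ↥H) = (c : ↥H) * y := (commute_of_mem_centralizer c).eq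
    exact congrArg Subtype.val h1⟩
  invFun k := ⟨⟨(k : G), k.2.2⟩, by
    rw [Subgroup.mem_centralizer_iff]
    intro h hh
    rw [Set.mem_singleton_iff] at hh
    rw [hh]
    apply Subtype.ext
    show (y : G) * (k : G) = (k : G) * (y : G)
    exact Subgroup.mem_centralizer_iff.mp k.2.1 (y : G) (Set.mem_singleton _)⟩
  left_inv c := rfl
  right_inv k := rfl
  map_mul' c d := rfl

theorem centIso_coe (H : Subgroup G) (y : ↥H) (c : ↥(Subgroup.centralizer ({y} : Set ↥H))) :
    ((centIso H y c : ↥(Subgroup.centralizer ({(y : G)} : Set G) ⊓ H : Subgroup G)) : G) =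
      ((c : ↥H) : G) := rfl

/-- **Transitivity of induction through the centralizer of a `p`-element of `H`.** -/
theorem indU_eq_mapBlock [Finite G] {p : ℕ} {M : Ideal AlgInt} (hM : IsPModular p M)
    {b : Set (IrrCharacter G)} (hb : IsPBlock M b) (H : Subgroup G) (y : ↥H)
    (hy : ∃ k : ℕ, orderOf y = p ^ k) :
    indU M y {β : Set (IrrCharacter ↥H) | IsInducedBlock M H β b} =
      mapBlock (centIso H y)
        (indChars M b (Subgroup.centralizer ({(y : G)} : Set G) ⊓ H : Subgroup G)) := by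
  classical
  have := Fintype.ofFinite G
  have := Fintype.ofFinite ↥H
  have := Fintype.ofFinite ↥(Subgroup.centralizer ({y} : Set ↥H))
  have := Fintype.ofFinite ↥(Subgroup.centralizer ({(y : G)} : Set G) ⊓ H : Subgroup G)
  have hMp : M.IsPrime := isPrime_of_isPModular hM
  ext ξ
  constructor
  · rintro ⟨β', ⟨β, hβ, hβ'⟩, hξ⟩
    have hβ0 : IsInducedBlock M H β b := hβ
    have e : mapBlock (centIso H y) (mapBlock (centIso H y).symm β') = β' :=
      mapBlock_mapBlock_symm (centIso H y) β'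
    have h1 : IsInducedBlock M (Subgroup.centralizer ({y} : Set ↥H))
        (mapBlock (centIso H y) (mapBlock (centIso H y).symm β')) β := by
      rw [e]
      exact hβ'
    have h2 := (isInducedBlock_trans hMp (centIso H y) (centIso_coe H y) hb h1).mp hβ0
    rw [mem_mapBlock_iff]
    show ∃ β'' : Set (IrrCharacter
        ↥(Subgroup.centralizer ({(y : G)} : Set G) ⊓ H : Subgroup G)),
      irrComp (centIso H y).symm ξ ∈ β'' ∧ IsInducedBlock M _ β'' b
    exact ⟨mapBlock (centIso H y).symm β', ⟨ξ, hξ, rfl⟩, h2⟩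
  · rintro ⟨ψ, ⟨β'', hψ, hβ''⟩, rfl⟩
    have hblk : IsPBlock M (mapBlock (centIso H y) β'') := isPBlock_mapBlock (centIso H y) hβ''.1
    obtain ⟨β, hβ⟩ := inducedBlockDefined_centralizer hM hy hblk
    have h2 := (isInducedBlock_trans hMp (centIso H y) (centIso_coe H y) hb hβ).mpr hβ''
    exact ⟨_, ⟨β, h2, hβ⟩, irrComp_mem_mapBlock (centIso H y) hψ⟩

theorem orderOf_coe_subgroup (H : Subgroup G) (y : ↥H) : orderOf (y : G) = orderOf y :=
  Subgroup.orderOf_coe y

open Classical in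
/-- **Brauer's count in a subgroup `H`**, with the centralizers taken inside `G`. -/
theorem count_subgroup [Fintype G] {p : ℕ} {M : Ideal AlgInt} (hM : IsPModular p M)
    {b : Set (IrrCharacter G)} (hb : IsPBlock M b) (H : Subgroup G) :
    (Nat.card ↥H : ℤ) * ((Nat.card ↥(indChars M b H) : ℤ) -
        (blockRank p (indChars M b H) : ℤ)) =
      ∑ x : G, (if (x ∈ H ∧ x ≠ 1 ∧ ∃ k : ℕ, orderOf x = p ^ k) then
        wt p M b (Subgroup.centralizer ({x} : Set G) ⊓ H : Subgroup G) else 0) := by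
  have := Fintype.ofFinite ↥H
  let F : G → ℤ := fun x => if (x ≠ 1 ∧ ∃ k : ℕ, orderOf x = p ^ k) then
    wt p M b (Subgroup.centralizer ({x} : Set G) ⊓ H : Subgroup G) else 0
  have h1 := card_mul_card_sub_blockRank (G := ↥H) hM
    {β : Set (IrrCharacter ↥H) | IsInducedBlock M H β b} (fun β hβ => hβ.1)
  rw [← indChars_eq_sUnion] at h1
  rw [h1]
  have h2 : ∀ y : ↥H, (if (y ≠ 1 ∧ ∃ k : ℕ, orderOf y = p ^ k) then
      (Nat.card ↥(Subgroup.centralizer ({y} : Set ↥H)) : ℤ) *
        (blockRank p (indU M y {β : Set (IrrCharacter ↥H) | IsInducedBlock M H β b}) : ℤ)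
      else 0) = F (y : G) := by
    intro y
    have hy1 : y ≠ 1 ↔ (y : G) ≠ 1 := by
      rw [Ne, Ne, OneMemClass.coe_eq_one]
    have hyo : (∃ k : ℕ, orderOf y = p ^ k) ↔ ∃ k : ℕ, orderOf (y : G) = p ^ k := by
      rw [orderOf_coe_subgroup]
    by_cases hy : y ≠ 1 ∧ ∃ k : ℕ, orderOf y = p ^ k
    · have hy' : (y : G) ≠ 1 ∧ ∃ k : ℕ, orderOf (y : G) = p ^ k := ⟨hy1.mp hy.1, hyo.mp hy.2⟩
      show _ = if _ then _ else _
      rw [if_pos hy, if_pos hy', indU_eq_mapBlock hM hb H y hy.2, blockRank_mapBlock,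
        Nat.card_congr (centIso H y).toEquiv]
      rfl
    · have hy' : ¬ ((y : G) ≠ 1 ∧ ∃ k : ℕ, orderOf (y : G) = p ^ k) :=
        fun h => hy ⟨hy1.mpr h.1, hyo.mpr h.2⟩
      show _ = if _ then _ else _
      rw [if_neg hy, if_neg hy']
  have h3 : ∑ y : ↥H, F (y : G) = ∑ x ∈ Finset.univ.filter (fun x : G => x ∈ H), F x :=
    (Finset.sum_subtype (Finset.univ.filter (fun x : G => x ∈ H))
      (fun x => by rw [Finset.mem_filter]; exact ⟨fun h => h.2, fun h => ⟨Finset.mem_univ _, h⟩⟩)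
      F).symm
  refine ((Finset.sum_congr rfl (fun y _ => ?_)).trans h3).trans ?_
  · convert h2 y using 2
  rw [Finset.sum_filter]
  refine Finset.sum_congr rfl fun x _ => ?_
  by_cases hxH : x ∈ H
  · rw [if_pos hxH]
    by_cases hx : x ≠ 1 ∧ ∃ k : ℕ, orderOf x = p ^ k
    · show (if _ then _ else _) = _
      rw [if_pos hx, if_pos ⟨hxH, hx⟩]
    · show (if _ then _ else _) = _
      rw [if_neg hx, if_neg (fun h => hx h.2)]
  · rw [if_neg hxH, if_neg (fun h => hxH h.1)]

/-- **The Knörr–Robinson alternating sum for `k(b) − l(b)`.** -/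
theorem alternating_sum [Finite G] (p : ℕ) [Fact p.Prime] (M : Ideal AlgInt)
    (hM : IsPModular p M) (b : Set (IrrCharacter G)) (hb : IsPBlock M b) :
    (Nat.card G : ℤ) * ((Nat.card b : ℤ) - (blockRank p b : ℤ)) =
      ∑ᶠ s ∈ chainSet G p, (-1 : ℤ) ^ (s.card - 1) *
        (Nat.card ↥(⨅ Q ∈ s, Subgroup.normalizer ((Q : Subgroup G) : Set G) : Subgroup G) : ℤ) *
        ((Nat.card ↥(indChars M b
            (⨅ Q ∈ s, Subgroup.normalizer ((Q : Subgroup G) : Set G) : Subgroup G)) : ℤ) -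
          (blockRank p (indChars M b
            (⨅ Q ∈ s, Subgroup.normalizer ((Q : Subgroup G) : Set G) : Subgroup G)) : ℤ)) := by
  classical
  have := Fintype.ofFinite G
  have hL : (Nat.card G : ℤ) * ((Nat.card b : ℤ) - (blockRank p b : ℤ)) =
      ∑ x : G, (if (x ≠ 1 ∧ ∃ k : ℕ, orderOf x = p ^ k) then
        wt p M b (Subgroup.centralizer ({x} : Set G)) else 0) := by
    have h := card_mul_card_sub_blockRank hM ({b} : Set (Set (IrrCharacter G)))
      (fun β hβ => by rw [Set.mem_singleton_iff] at hβ; rw [hβ]; exact hb)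
    rw [Set.sUnion_singleton] at h
    rw [h]
    refine Finset.sum_congr rfl fun x _ => ?_
    rw [indU_singleton]
    by_cases hx : x ≠ 1 ∧ ∃ k : ℕ, orderOf x = p ^ k
    · rw [if_pos hx, if_pos hx]
      rfl
    · rw [if_neg hx, if_neg hx]
  rw [finsum_mem_eq_finite_toFinset_sum _ (Set.toFinite _)]
  have hR : ∀ s : Finset (Subgroup G), (-1 : ℤ) ^ (s.card - 1) *
      (Nat.card ↥(⨅ Q ∈ s, Subgroup.normalizer ((Q : Subgroup G) : Set G) : Subgroup G) : ℤ) *
      ((Nat.card ↥(indChars M b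
          (⨅ Q ∈ s, Subgroup.normalizer ((Q : Subgroup G) : Set G) : Subgroup G)) : ℤ) -
        (blockRank p (indChars M b
          (⨅ Q ∈ s, Subgroup.normalizer ((Q : Subgroup G) : Set G) : Subgroup G)) : ℤ)) =
      ∑ x : G, (-1 : ℤ) ^ (s.card - 1) *
        (if (x ∈ (⨅ Q ∈ s, Subgroup.normalizer ((Q : Subgroup G) : Set G) : Subgroup G) ∧
            x ≠ 1 ∧ ∃ k : ℕ, orderOf x = p ^ k) then
          wt p M b (Subgroup.centralizer ({x} : Set G) ⊓
            (⨅ Q ∈ s, Subgroup.normalizer ((Q : Subgroup G) : Set G) : Subgroup G) : Subgroup G)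
          else 0) := by
    intro s
    rw [mul_assoc, count_subgroup hM hb, Finset.mul_sum]
  rw [Finset.sum_congr rfl (fun s _ => hR s), Finset.sum_comm, hL]
  refine Finset.sum_congr rfl fun x _ => ?_
  by_cases hx : x ≠ 1 ∧ ∃ k : ℕ, orderOf x = p ^ k
  · rw [if_pos hx]
    have hxp : IsPGroup p (Subgroup.zpowers x) := by
      obtain ⟨k, hk⟩ := hx.2
      exact IsPGroup.of_card_dvd_pow (n := k) (by rw [Nat.card_zpowers, hk])
    have h1 := finsum_chainSet hxp hx.1 (wt p M b)
    rw [finsum_mem_eq_finite_toFinset_sum _ (Set.toFinite _)] at h1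
    rw [← h1]
    refine Finset.sum_congr rfl fun s _ => ?_
    congr 1
    by_cases hxs : x ∈ (⨅ Q ∈ s, Subgroup.normalizer ((Q : Subgroup G) : Set G) : Subgroup G)
    · rw [if_pos hxs, if_pos ⟨hxs, hx⟩]
    · rw [if_neg hxs, if_neg (fun h => hxs h.1)]
  · rw [if_neg hx]
    symm
    apply Finset.sum_eq_zero
    intro s _
    rw [if_neg (fun h => hx h.2), mul_zero]

end Cfsg.Agent.Lib.Helper82_KnorrRobinson
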