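import Mathlib

/-!
# Landau's theorem (helper82)

A finite group with at most `k` conjugacy classes has order bounded by a function of `k`.
The proof is the classical one: the class equation `1 = ∑ 1 / |C_G(x_i)|` and the finiteness of
the solutions of `1 = ∑_{i < k} 1 / n_i` in positive integers.
-/

set_option autoImplicit false

namespace Cfsg.Agent.Lib.Helper82_Landau

/-- A positive rational is at least the inverse of its denominator. -/
theorem inv_den_le {q : ℚ} (hq : 0 < q) : ((q.den : ℚ))⁻¹ ≤ q := by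
  have hnum : (1 : ℤ) ≤ q.num := Rat.num_pos.mpr hq
  have hden : (0 : ℚ) < q.den := by exact_mod_cast q.den_pos
  rw [inv_le_iff_one_le_mul₀ hden, Rat.mul_den_eq_num]
  exact_mod_cast hnum

/-- Unit fractions: if `∑_{n ∈ s} 1 / n` (with `|s| = k`) has denominator at most `B`, then every
member of `s` is bounded in terms of `k` and `B`. -/
theorem unit_fraction_bound (k : ℕ) : ∀ B : ℕ, ∃ F : ℕ, ∀ s : Multiset ℕ, Multiset.card s = k →
    (∀ n ∈ s, 0 < n) → ((s.map fun n : ℕ => ((n : ℚ))⁻¹).sum).den ≤ B → ∀ n ∈ s, n ≤ F := by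
  induction k with
  | zero =>
    intro B
    refine ⟨0, fun s hs _ _ n hn => ?_⟩
    rw [Multiset.card_eq_zero] at hs
    rw [hs] at hn
    exact absurd hn (Multiset.notMem_zero n)
  | succ k ih =>
    intro B
    obtain ⟨F', hF'⟩ := ih (B * ((k + 1) * B))
    refine ⟨max ((k + 1) * B) F', ?_⟩
    intro s hs hpos hden n hn
    have hne : s ≠ 0 := by
      intro h0
      rw [h0] at hs
      simp at hs
    obtain ⟨m, hm, hmin⟩ := Multiset.exists_min_image (fun n : ℕ => n) hne
    have hmpos : 0 < m := hpos m hm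
    have hmq : (0 : ℚ) < m := by exact_mod_cast hmpos
    set q : ℚ := (s.map fun n : ℕ => ((n : ℚ))⁻¹).sum with hq
    -- split off `m`
    obtain ⟨t, rfl⟩ := Multiset.exists_cons_of_mem hm
    have hcard : Multiset.card t = k := by
      rw [Multiset.card_cons] at hs
      omega
    have hsplit : q = (m : ℚ)⁻¹ + (t.map fun n : ℕ => ((n : ℚ))⁻¹).sum := by
      rw [hq, Multiset.map_cons, Multiset.sum_cons]
    have htnonneg : 0 ≤ (t.map fun n : ℕ => ((n : ℚ))⁻¹).sum := by
      apply Multiset.sum_nonneg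
      intro x hx
      obtain ⟨n, _, rfl⟩ := Multiset.mem_map.mp hx
      positivity
    have hqpos : 0 < q := by
      rw [hsplit]
      have : (0 : ℚ) < (m : ℚ)⁻¹ := inv_pos.mpr hmq
      linarith
    -- `q ≤ (k+1)/m`
    have hle : q ≤ ((k + 1 : ℕ) : ℚ) * (m : ℚ)⁻¹ := by
      have h1 : ((m ::ₘ t).map fun n : ℕ => ((n : ℚ))⁻¹).sum ≤
          Multiset.card ((m ::ₘ t).map fun n : ℕ => ((n : ℚ))⁻¹) • (m : ℚ)⁻¹ := by
        apply Multiset.sum_le_card_nsmul
        intro x hx
        obtain ⟨n, hn', rfl⟩ := Multiset.mem_map.mp hx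
        have hnpos : (0 : ℚ) < n := by exact_mod_cast hpos n hn'
        have hmn : (m : ℚ) ≤ n := by exact_mod_cast hmin n hn'
        exact inv_anti₀ hmq hmn
      rw [Multiset.card_map, hs, nsmul_eq_mul] at h1
      exact h1
    have hm_le : m ≤ (k + 1) * B := by
      have h2 : ((q.den : ℚ))⁻¹ ≤ ((k + 1 : ℕ) : ℚ) * (m : ℚ)⁻¹ := (inv_den_le hqpos).trans hle
      have hdq : (0 : ℚ) < q.den := by exact_mod_cast q.den_pos
      have h3 : (m : ℚ) ≤ ((k + 1 : ℕ) : ℚ) * q.den := by
        rw [inv_le_iff_one_le_mul₀ hdq] at h2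
        have h4 : 1 * (m : ℚ) ≤ ((k + 1 : ℕ) : ℚ) * (m : ℚ)⁻¹ * q.den * m :=
          mul_le_mul_of_nonneg_right h2 hmq.le
        rw [one_mul] at h4
        calc (m : ℚ) ≤ ((k + 1 : ℕ) : ℚ) * (m : ℚ)⁻¹ * q.den * m := h4
          _ = ((k + 1 : ℕ) : ℚ) * q.den := by field_simp
      have h5 : m ≤ (k + 1) * q.den := by exact_mod_cast h3
      exact h5.trans (Nat.mul_le_mul_left _ hden)
    rcases Multiset.mem_cons.mp hn with rfl | hnt
    · exact le_max_of_le_left hm_le
    · refine le_max_of_le_right (hF' t hcard (fun x hx => hpos x (Multiset.mem_cons_of_mem hx)) ?_ n hnt)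
      have h6 : (t.map fun n : ℕ => ((n : ℚ))⁻¹).sum = q - (m : ℚ)⁻¹ := by
        rw [hsplit]; ring
      rw [h6]
      have h7 : (q - (m : ℚ)⁻¹).den ∣ q.den * ((m : ℚ)⁻¹).den := Rat.sub_den_dvd _ _
      rw [Rat.inv_natCast_den_of_pos hmpos] at h7
      have h8 : 0 < q.den * m := Nat.mul_pos q.den_pos hmpos
      exact (Nat.le_of_dvd h8 h7).trans (Nat.mul_le_mul hden hm_le)

universe u

/-- The size of a conjugacy class divides the group order. -/
theorem ncard_carrier_dvd {G : Type*} [Group G] [Finite G] (C : ConjClasses G) :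
    C.carrier.ncard ∣ Nat.card G := by
  obtain ⟨g, rfl⟩ := ConjClasses.mk_surjective C
  rw [← ConjAct.orbit_eq_carrier_conjClasses, ← MulAction.index_stabilizer]
  exact Subgroup.index_dvd_card (MulAction.stabilizer (ConjAct G) g)

/-- **Landau's theorem**: the order of a finite group is bounded in terms of its number of
conjugacy classes. -/
theorem card_le_of_card_conjClasses_le (k : ℕ) : ∃ N : ℕ, ∀ (G : Type u) [Group G] [Finite G],
    Nat.card (ConjClasses G) ≤ k → Nat.card G ≤ N := by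
  classical
  choose F hF using fun j : ℕ => unit_fraction_bound j 1
  refine ⟨∑ j ∈ Finset.range (k + 1), F j, ?_⟩
  intro G _ _ hk
  have : Fintype G := Fintype.ofFinite G
  have hGpos : 0 < Nat.card G := Nat.card_pos
  have hGq : (Nat.card G : ℚ) ≠ 0 := by exact_mod_cast hGpos.ne'
  let f : ConjClasses G → ℕ := fun C => Nat.card G / C.carrier.ncard
  let s : Multiset ℕ := (Finset.univ : Finset (ConjClasses G)).val.map f
  have hcard : Multiset.card s = Nat.card (ConjClasses G) := by
    rw [Multiset.card_map, Nat.card_eq_fintype_card]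
    rfl
  have hCpos : ∀ C : ConjClasses G, 0 < C.carrier.ncard := by
    intro C
    obtain ⟨g, rfl⟩ := ConjClasses.mk_surjective C
    rw [Set.ncard_pos (Set.toFinite _)]
    exact ⟨g, ConjClasses.mem_carrier_mk⟩
  have hfpos : ∀ C : ConjClasses G, 0 < f C := fun C =>
    Nat.div_pos (Nat.le_of_dvd hGpos (ncard_carrier_dvd C)) (hCpos C)
  have hpos : ∀ n ∈ s, 0 < n := by
    intro n hn
    obtain ⟨C, _, rfl⟩ := Multiset.mem_map.mp hn
    exact hfpos C
  have hsum : (s.map fun n : ℕ => ((n : ℚ))⁻¹).sum = 1 := by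
    have h1 : (s.map fun n : ℕ => ((n : ℚ))⁻¹).sum =
        ∑ C : ConjClasses G, (((f C : ℕ) : ℚ))⁻¹ := by
      rw [Multiset.map_map]
      rfl
    rw [h1]
    have h2 : ∀ C : ConjClasses G, (((f C : ℕ) : ℚ))⁻¹ = (C.carrier.ncard : ℚ) / Nat.card G := by
      intro C
      have hc : ((C.carrier.ncard : ℕ) : ℚ) ≠ 0 := by exact_mod_cast (hCpos C).ne'
      show (((Nat.card G / C.carrier.ncard : ℕ) : ℚ))⁻¹ = _
      rw [Nat.cast_div (ncard_carrier_dvd C) hc, inv_div]
    simp_rw [h2]
    rw [← Finset.sum_div, ← Nat.cast_sum, ← finsum_eq_sum_of_fintype,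
      Group.sum_card_conj_classes_eq_card, div_self hGq]
  have hmem : Nat.card G ∈ s := by
    refine Multiset.mem_map.mpr ⟨ConjClasses.mk (1 : G), Finset.mem_univ _, ?_⟩
    show Nat.card G / (ConjClasses.mk (1 : G)).carrier.ncard = Nat.card G
    have h1 : (ConjClasses.mk (1 : G)).carrier = {1} := by
      ext x
      rw [ConjClasses.mem_carrier_iff_mk_eq, ConjClasses.mk_eq_mk_iff_isConj, Set.mem_singleton_iff,
        isConj_one_left]
    rw [h1, Set.ncard_singleton, Nat.div_one]
  have h3 := hF _ s hcard hpos (by rw [hsum]; simp) _ hmem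
  exact h3.trans (Finset.single_le_sum (f := F) (fun _ _ => Nat.zero_le _)
    (Finset.mem_range.mpr (by omega)))

end Cfsg.Agent.Lib.Helper82_Landau
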