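import Mathlib
import Cfsg.Agent.Lib.Helper75_MI3MDefs
import Cfsg.Agent.Lib.Helper47_MI3_REGA

set_option autoImplicit false
set_option linter.unusedVariables false

/-!
# MI3M-REGA (architect helper75, `q = 3` slice of S2147): the fixed-point trick, any dimension `≥ 5`

Adaptation of `Helper47_MI3_REGA.all_reg_of_fixOrReg3` (which only used `5 ≤ finrank`), conclusion in `FreeAt` form.
-/

namespace Cfsg.Agent.Lib.Helper82_MI3M_REGA

open Module Cfsg.Agent.Lib.Helper14_OmegaSimple Cfsg.Agent.Lib.Helper22_MI2Defs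
  Cfsg.Agent.Lib.Helper44_MI3Defs Cfsg.Agent.Lib.Helper75_MI3MDefs Cfsg.Agent.Lib.Helper47_MI3_REGA

variable {F V : Type*} [Field F] [AddCommGroup V] [Module F V]

section action

variable {X : Type*} [MulAction (V ≃ₗ[F] V) X]

theorem all_free_of_fixOrReg3 [Finite F] [FiniteDimensional F V] (Q : QuadraticForm F V)
    (hQ : (QuadraticMap.polarBilin Q).Nondegenerate) (hdim : 5 ≤ finrank F V)
    (Ω : Set X) (hΩ : IsOrbit Q Ω) (hB : FixOrReg3 Q Ω) :
    ∀ v : V, v ≠ 0 → Q v = 0 → ∀ ω ∈ Ω, FreeAt Q v ω := by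
  intro v hv0 hv ω hω w hvw hfix
  by_contra hcon
  have hvfull : ∀ z : V, QuadraticMap.polar (⇑Q) v z = 0 → E Q v z • ω = ω := by
    rcases hB v hv0 hv ω hω with h | h
    · exact h
    · exact absurd (h w hvw hfix) hcon
  -- scalar multiples of a full vector are full
  have claim0 : ∀ (a : V) (c : F), Q a = 0 →
      (∀ z : V, QuadraticMap.polar (⇑Q) a z = 0 → E Q a z • ω = ω) → c ≠ 0 →
      (∀ z : V, QuadraticMap.polar (⇑Q) (c • a) z = 0 → E Q (c • a) z • ω = ω) := by
    intro a c ha hafull hc z hz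
    have haz : QuadraticMap.polar (⇑Q) a z = 0 := by
      rw [QuadraticMap.polar_smul_left, smul_eq_mul] at hz
      exact (mul_eq_zero.1 hz).resolve_left hc
    rw [E_smul_left Q ha haz c]
    apply hafull
    rw [QuadraticMap.polar_smul_right, haz, smul_zero]
  -- the fixed point trick
  have claim1 : ∀ a b : V, a ≠ 0 → Q a = 0 →
      (∀ z : V, QuadraticMap.polar (⇑Q) a z = 0 → E Q a z • ω = ω) → b ≠ 0 → Q b = 0 →
      QuadraticMap.polar (⇑Q) a b = 0 → b ∉ Submodule.span F {a} →
      (∀ z : V, QuadraticMap.polar (⇑Q) b z = 0 → E Q b z • ω = ω) := by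
    intro a b ha0 ha hafull hb0 hb hab hba
    rcases hB b hb0 hb ω hω with h | h
    · exact h
    · exfalso
      have h1 : E Q b (-a) • ω = ω := by
        rw [E_swap_neg Q ha hb hab]; exact hafull b hab
      have h2 : QuadraticMap.polar (⇑Q) b (-a) = 0 := by
        rw [QuadraticMap.polar_neg_right, QuadraticMap.polar_comm, hab, neg_zero]
      have h3 := h (-a) h2 h1
      rw [Submodule.mem_span_singleton] at h3
      obtain ⟨c, hc⟩ := h3
      have hc0 : c ≠ 0 := by
        intro h0
        rw [h0, zero_smul] at hc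
        exact ha0 (neg_eq_zero.1 hc.symm)
      apply hba
      rw [Submodule.mem_span_singleton]
      refine ⟨-c⁻¹, ?_⟩
      have : a = -(c • b) := by rw [hc, neg_neg]
      rw [this, smul_neg, neg_smul, neg_neg, smul_smul, inv_mul_cancel₀ hc0, one_smul]
  have allfull : ∀ u : V, u ≠ 0 → Q u = 0 →
      ∀ z : V, QuadraticMap.polar (⇑Q) u z = 0 → E Q u z • ω = ω := by
    intro u hu0 hu
    by_cases husp : u ∈ Submodule.span F {v}
    · rw [Submodule.mem_span_singleton] at husp
      obtain ⟨c, rfl⟩ := husp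
      have hc0 : c ≠ 0 := by
        intro h0
        rw [h0, zero_smul] at hu0
        exact hu0 rfl
      exact claim0 v c hv hvfull hc0
    by_cases huv : QuadraticMap.polar (⇑Q) v u = 0
    · exact claim1 v u hv0 hv hvfull hu0 hu huv husp
    · set c := QuadraticMap.polar (⇑Q) v u with hc
      have hu' : Q (c⁻¹ • u) = 0 := by rw [QuadraticMap.map_smul, hu, smul_zero]
      have hvu' : QuadraticMap.polar (⇑Q) v (c⁻¹ • u) = 1 := by
        rw [QuadraticMap.polar_smul_right, ← hc, smul_eq_mul, inv_mul_cancel₀ huv]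
      have hfr := Cfsg.Agent.Lib.Helper44_QuadClass.finrank_perp hv hu' hvu'
      have h3 : 3 ≤ finrank F (Cfsg.Agent.Lib.Helper44_QuadClass.perp Q v (c⁻¹ • u)) := by
        omega
      obtain ⟨t, ht0, htQ⟩ := Cfsg.Agent.Lib.Helper44_QuadClass.exists_singular
        (Q.comp (Cfsg.Agent.Lib.Helper44_QuadClass.perp Q v (c⁻¹ • u)).subtype) h3
      have htm := (Cfsg.Agent.Lib.Helper44_QuadClass.mem_perp Q v (c⁻¹ • u)).1 t.2
      have ht0' : (t : V) ≠ 0 := fun h => ht0 (Subtype.ext h)
      have htQ' : Q (t : V) = 0 := htQ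
      have hut : QuadraticMap.polar (⇑Q) u (t : V) = 0 := by
        have h5 := htm.2
        rw [QuadraticMap.polar_smul_left, smul_eq_mul] at h5
        exact (mul_eq_zero.1 h5).resolve_left (inv_ne_zero huv)
      have htv : (t : V) ∉ Submodule.span F {v} := by
        intro h
        rw [Submodule.mem_span_singleton] at h
        obtain ⟨d, hd⟩ := h
        have h5 := hut
        rw [← hd, QuadraticMap.polar_smul_right, QuadraticMap.polar_comm, ← hc, smul_eq_mul] at h5
        have hd0 : d = 0 := (mul_eq_zero.1 h5).resolve_right huv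
        rw [hd0, zero_smul] at hd
        exact ht0' hd.symm
      have htfull := claim1 v t hv0 hv hvfull ht0' htQ' htm.1 htv
      have hut' : u ∉ Submodule.span F {(t : V)} := by
        intro h
        rw [Submodule.mem_span_singleton] at h
        obtain ⟨d, hd⟩ := h
        apply huv
        rw [hc, ← hd, QuadraticMap.polar_smul_right, htm.1, smul_zero]
      exact claim1 t u ht0' htQ' htfull hu0 hu
        (by rw [QuadraticMap.polar_comm]; exact hut) hut'
  have hT : T Q ≤ MulAction.stabilizer (V ≃ₗ[F] V) ω := by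
    rw [T, Subgroup.closure_le]
    rintro g ⟨u, s, hu, hs, hus, rfl⟩
    rw [SetLike.mem_coe, MulAction.mem_stabilizer_iff]
    by_cases hu0 : u = 0
    · rw [hu0, E_zero_left, one_smul]
    · exact allfull u hu0 hu s hus
  obtain ⟨ω₀, hω₀, g, hg, hgω⟩ := hΩ.nontriv
  obtain ⟨h, hh, hhω⟩ := hΩ.trans ω hω ω₀ hω₀
  apply hgω
  have h1 : h • ω = ω := hT hh
  have h3 : ω₀ = ω := by rw [← hhω, h1]
  rw [h3]
  exact hT hg

end action

end Cfsg.Agent.Lib.Helper82_MI3M_REGA
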