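import Mathlib
import Cfsg.Agent.Lib.Helper57_MajorNV
import Cfsg.Agent.Lib.Helper57_Weights
import Cfsg.Agent.Lib.Helper57_WForm
import Cfsg.Agent.Lib.Helper77_CentralDefect
import Cfsg.Agent.Lib.Helper97_NilRank
import Cfsg.Agent.Lib.Helper97_InducedPair
import Cfsg.Agent.Lib.Helper97_InducedPair2
import Cfsg.Agent.Lib.Helper78_FirstMainGT
import Cfsg.Agent.S0874

/-!
# Nonvanishing of the characters of a block on the sections of major subsections (helper82)

* `exists_regular_of_major`: if `(z, b)` is a major subsection of the block `B` (the block `b` of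
  `C_G(z)` induces `B` and has the defect group `D` of `B`, `z ∈ Z(D)`), then for every `χ ∈ B`
  there is a `p`-regular `c ∈ C_G(z)` with `χ (z c) ≠ 0`;
* `exists_major_of_abelian`: if `B` has an abelian defect group `P`, every `z ∈ P` belongs to a
  major subsection;
* `exists_regular_of_abelian`: the combination.
-/

set_option autoImplicit false

namespace Cfsg.Agent.Lib.Helper82_MajorNonvanish

open Cfsg
open scoped ComplexConjugate
open Cfsg.Agent.Lib.Helper3_CharBridge Cfsg.Agent.Lib.Helper3_CharOrtho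
  Cfsg.Agent.Lib.Helper75_CharArith Cfsg.Agent.Lib.Helper57_PRegInt
  Cfsg.Agent.Lib.Helper57_HeightZero Cfsg.Agent.Lib.Helper57_BrauerFeit
  Cfsg.Agent.Lib.Helper57_Contribution Cfsg.Agent.Lib.Helper57_Subsection
  Cfsg.Agent.Lib.Helper57_ContribMatrix Cfsg.Agent.Lib.Helper57_BrouePuig
  Cfsg.Agent.Lib.Helper57_MajorNonvanish Cfsg.Agent.Lib.Helper57_MajorNV
  Cfsg.Agent.Lib.Helper57_Weights Cfsg.Agent.Lib.Helper57_WForm
  Cfsg.Agent.Lib.Helper78_LocalRing Cfsg.Agent.Lib.Helper78_CharFacts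
  Cfsg.Agent.Lib.Helper77_BlockBasics

universe u

/-- **Nonvanishing on a major subsection.** -/
theorem exists_regular_of_major {G : Type u} [Group G] [Finite G] (p : ℕ) [Fact p.Prime]
    (M : Ideal AlgInt) (hM : IsPModular p M) (B : Set (IrrCharacter G)) (hB : IsPBlock M B)
    (D : Subgroup G) (hD : IsDefectGroup p M B D) (z : G) (hzD : z ∈ D)
    (hzc : ∀ d ∈ D, d * z = z * d)
    (b : Set (IrrCharacter ↥(Subgroup.centralizer ({z} : Set G))))
    (hb : IsInducedBlock M (Subgroup.centralizer ({z} : Set G)) b B)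
    (hbD : IsDefectGroup p M b (D.subgroupOf (Subgroup.centralizer ({z} : Set G))))
    (χ : IrrCharacter G) (hχ : χ ∈ B) :
    ∃ c : G, c ∈ Subgroup.centralizer ({z} : Set G) ∧ ¬ p ∣ orderOf c ∧
      (χ : G → ℂ) (z * c) ≠ 0 := by
  classical
  have := Fintype.ofFinite G
  have := Fintype.ofFinite (Subgroup.centralizer ({z} : Set G))
  have hp : p.Prime := Fact.out
  have hM' := isPrime_of_isPModular hM
  have hpi : Prime (p : ℤ) := Nat.prime_iff_prime_int.mp hp
  -- defect bookkeeping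
  obtain ⟨hDp, hDcard⟩ := Cfsg.Agent.Lib.Helper77_CentralDefect.card_of_isDefectGroup hM hB hD
  obtain ⟨-, hbcard⟩ := Cfsg.Agent.Lib.Helper77_CentralDefect.card_of_isDefectGroup hM hb.1 hbD
  have hDle : D ≤ Subgroup.centralizer ({z} : Set G) := by
    intro d hd
    rw [Subgroup.mem_centralizer_iff]
    intro h hh
    rw [Set.mem_singleton_iff.mp hh]
    exact (hzc d hd).symm
  have hcardeq : Nat.card (D.subgroupOf (Subgroup.centralizer ({z} : Set G))) = Nat.card D :=
    Nat.card_congr (Subgroup.subgroupOfEquivOfLe hDle).toEquiv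
  have hdd : blockDefect p b = blockDefect p B := by
    apply Nat.pow_right_injective hp.two_le
    show p ^ blockDefect p b = p ^ blockDefect p B
    rw [← hbcard, ← hDcard, hcardeq]
  obtain ⟨n, hn⟩ : ∃ n : ℕ, orderOf z = p ^ n := by
    obtain ⟨k, hk⟩ := hDp ⟨z, hzD⟩
    have h1 : z ^ (p ^ k) = 1 := by
      have := congrArg Subtype.val hk
      simpa using this
    obtain ⟨m, -, hm⟩ := (Nat.dvd_prime_pow hp).mp (orderOf_dvd_of_pow_eq_one h1)
    exact ⟨m, hm⟩
  have hIG : RegInt G p :=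
    regInt_of_brauerLocal hp (fun q hq _ => Cfsg.Agent.S0874.result q hq)
  have hIC : RegInt (Subgroup.centralizer ({z} : Set G)) p :=
    regInt_of_brauerLocal hp (fun q hq _ => Cfsg.Agent.S0874.result q hq)
  have hyC : z ∈ Subgroup.centralizer ({z} : Set G) := by
    rw [Subgroup.mem_centralizer_iff]
    intro h hh
    rw [Set.mem_singleton_iff.mp hh]
  have hcomm : ∀ c : Subgroup.centralizer ({z} : Set G), z * (c : G) = (c : G) * z :=
    fun c => Subgroup.mem_centralizer_iff.mp c.2 z (Set.mem_singleton z)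
  have hzcen : (⟨z, hyC⟩ : Subgroup.centralizer ({z} : Set G)) ∈
      Submonoid.center (Subgroup.centralizer ({z} : Set G)) := by
    rw [Submonoid.mem_center_iff]
    intro g
    apply Subtype.ext
    push_cast
    exact (hcomm g).symm
  have hzord : orderOf (⟨z, hyC⟩ : Subgroup.centralizer ({z} : Set G)) = p ^ n := by
    rw [← hn]
    exact Subgroup.orderOf_mk z hyC
  -- the scalars
  have hccex : ∀ ζ : IrrCharacter (Subgroup.centralizer ({z} : Set G)), ∃ c : ℂ,
      ∀ a : Subgroup.centralizer ({z} : Set G),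
        (ζ : Subgroup.centralizer ({z} : Set G) → ℂ) (⟨z, hyC⟩ * a) =
          c * (ζ : Subgroup.centralizer ({z} : Set G) → ℂ) a := by
    intro ζ
    obtain ⟨c, _, hc⟩ := exists_scalar_of_central_pElement hM ζ ⟨z, hyC⟩ hzcen n hzord
    exact ⟨c, hc⟩
  choose cc hcc using hccex
  have hcc1 : ∀ ζ : IrrCharacter (Subgroup.centralizer ({z} : Set G)), cc ζ ^ (p ^ n) = 1 := by
    intro ζ
    have h1 := irr_pow_mul (Subgroup.centralizer ({z} : Set G)) z hyC cc hcc ζ (p ^ n) 1
    rw [← hzord, pow_orderOf_eq_one, one_mul, hzord] at h1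
    have hne : (ζ : Subgroup.centralizer ({z} : Set G) → ℂ) 1 ≠ 0 :=
      Cfsg.Agent.Lib.Helper78_CentralChar.isIrrCharacter_one_ne_zero ζ.2
    have h2 : (cc ζ ^ (p ^ n) - 1) * (ζ : Subgroup.centralizer ({z} : Set G) → ℂ) 1 = 0 := by
      rw [sub_mul, one_mul, ← h1, sub_self]
    rcases mul_eq_zero.mp h2 with h | h
    · exact sub_eq_zero.mp h
    · exact absurd h hne
  -- the multiplicities
  have hnnex : ∀ χ : IrrCharacter G, ∃ m : IrrCharacter (Subgroup.centralizer ({z} : Set G)) → ℕ,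
      (∀ ζ : IrrCharacter (Subgroup.centralizer ({z} : Set G)),
        classInner (fun c : Subgroup.centralizer ({z} : Set G) => (χ : G → ℂ) (c : G))
          (ζ : Subgroup.centralizer ({z} : Set G) → ℂ) = m ζ) ∧
      (fun c : Subgroup.centralizer ({z} : Set G) => (χ : G → ℂ) (c : G)) =
        ∑ ζ : IrrCharacter (Subgroup.centralizer ({z} : Set G)),
          (m ζ : ℂ) • (ζ : Subgroup.centralizer ({z} : Set G) → ℂ) := fun χ =>
    exists_multiplicities (isCharacter_restrict (Subgroup.centralizer ({z} : Set G))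
      (isCharacter_of_isIrrCharacter χ.2))
  choose nn hnn1 hnn using hnnex
  -- the weights
  obtain ⟨w0, δ, R, hsym, hw0, hrank, hDu, hRu⟩ :=
    exists_weights_full (Subgroup.centralizer ({z} : Set G)) nn hnn1 hp hM hIG hIC hb
  have hrank' : ∀ ζ ∈ bset b, ∀ ζ' ∈ bset b, (p : ℤ) ∣
      (mPrime (Subgroup.centralizer ({z} : Set G)) p : ℤ) * w0 ζ ζ' - δ ζ * R ζ' :=
    fun ζ hζ ζ' hζ' => hrank ζ (mem_bset.mp hζ) ζ' (mem_bset.mp hζ')
  obtain ⟨χ', hχ', h0χ'⟩ := exists_height_zero_mem (p := p) (isPBlock_nonempty hM' hB)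
  -- a member of `b` with `p ∤ R`
  obtain ⟨ζ₀, hζ₀, hRζ₀⟩ : ∃ ζ₀ ∈ bset b, ¬ (p : ℤ) ∣ R ζ₀ := by
    by_contra hcon
    push Not at hcon
    apply hRu χ' hχ' h0χ'
    exact Finset.dvd_sum fun ζ hζ => Dvd.dvd.mul_left (hcon ζ hζ) _
  set x₁ : IrrCharacter (Subgroup.centralizer ({z} : Set G)) → ℤ := Pi.single ζ₀ 1 with hx₁
  have hRx : ¬ (p : ℤ) ∣ ∑ ζ ∈ bset b, x₁ ζ * R ζ := by
    have : ∑ ζ ∈ bset b, x₁ ζ * R ζ = R ζ₀ := by
      rw [Finset.sum_eq_single_of_mem ζ₀ hζ₀]
      · rw [hx₁, Pi.single_eq_same, one_mul]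
      · intro ζ _ hne
        rw [hx₁, Pi.single_eq_of_ne hne, zero_mul]
    rw [this]
    exact hRζ₀
  have hxB : ¬ (p : ℤ) ∣ ∑ ζ ∈ bset b, ∑ η ∈ bset b,
      ((nn χ' ζ : ℕ) : ℤ) * x₁ η * w0 ζ η := by
    have := not_dvd_wform (bset b) w0 hpi _ δ R hrank' (fun ζ => ((nn χ' ζ : ℕ) : ℤ)) x₁
      (hDu χ' hχ' h0χ') hRx
    rwa [wform_apply] at this
  have hord : orderOf (z ^ 1) = p ^ n := by rw [pow_one, hn]
  have hCu : ∀ c : Subgroup.centralizer ({z} : Set G), z ^ 1 * (c : G) = (c : G) * z ^ 1 := by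
    intro c
    rw [pow_one]
    exact hcomm c
  have hcent : Subgroup.centralizer ({z ^ 1} : Set G) ≤ Subgroup.centralizer ({z} : Set G) := by
    rw [pow_one]
  have hne := sum_acoef_ne_zero (Subgroup.centralizer ({z} : Set G)) z hyC cc hcc nn hnn hM hb hdd
    w0 hw0 n hcc1 1 n hord hCu hcent x₁ hχ' h0χ' hxB hχ
  obtain ⟨η, -, hη⟩ := Finset.exists_ne_zero_of_sum_ne_zero hne
  have hac : acoef p (Subgroup.centralizer ({z} : Set G)) (z ^ 1) χ η ≠ 0 := right_ne_zero_of_mul hη
  have hreg : regPart p (theta (Subgroup.centralizer ({z} : Set G)) (z ^ 1) χ) ≠ 0 := by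
    intro h0
    apply hac
    unfold acoef
    rw [h0]
    unfold classInner
    simp
  obtain ⟨c, hc⟩ := Function.ne_iff.mp hreg
  have hcreg : ¬ p ∣ orderOf c := by
    intro hdvd
    exact hc (regPart_of_dvd _ hdvd)
  rw [regPart_of_not_dvd _ hcreg] at hc
  refine ⟨(c : G), c.2, ?_, ?_⟩
  · rwa [Subgroup.orderOf_coe]
  · have : theta (Subgroup.centralizer ({z} : Set G)) (z ^ 1) χ c = (χ : G → ℂ) (z * (c : G)) := by
      unfold theta
      rw [pow_one]
    rw [← this]
    exact hc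

section Abelian

variable {G : Type u} [Group G] [Fintype G] {p : ℕ} [Fact p.Prime] {M : Ideal AlgInt}

open Cfsg.Agent.Lib.Helper97_NilRank Cfsg.Agent.Lib.Helper97_InducedPair
  Cfsg.Agent.Lib.Helper97_InducedPair2

/-- Every element of an abelian defect group belongs to a major subsection. -/
theorem exists_major_of_abelian (hM : IsPModular p M) {B : Set (IrrCharacter G)}
    (hB : IsPBlock M B) {P : Subgroup G} (hPD : IsDefectGroup p M B P)
    (hab : ∀ x ∈ P, ∀ y ∈ P, x * y = y * x) {z : G} (hzP : z ∈ P) :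
    ∃ b : Set (IrrCharacter ↥(Subgroup.centralizer ({z} : Set G))),
      IsInducedBlock M (Subgroup.centralizer ({z} : Set G)) b B ∧
      IsDefectGroup p M b (P.subgroupOf (Subgroup.centralizer ({z} : Set G))) := by
  classical
  have hPp : IsPGroup p P := Cfsg.Agent.Lib.Helper78_FirstMainGT.isDefectGroup_isPGroup hPD
  obtain ⟨c, hcmax⟩ := exists_isMaximalBrauerPair hM hB hPD
  have hc : IsInducedBlock M (Subgroup.centralizer (P : Set G)) c B :=
    isInducedBlock_of_isBrauerPairOf hM hcmax.1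
  have hQP : Subgroup.zpowers z ≤ P := Subgroup.zpowers_le.mpr hzP
  obtain ⟨f, hf⟩ := exists_isInducedBlockIn hM hPp hab hQP hc.1
  obtain ⟨hfD, hfB⟩ := isDefectGroup_of_isInducedBlockIn hM hPD hab hQP hc hf
  have hcz := centralizer_zpowers_eq z
  exact ⟨castIrr hcz f, (isInducedBlock_castIrr hcz f B).mpr hfB,
    (isDefectGroup_castIrr hcz f P).mpr hfD⟩

/-- **Nonvanishing for abelian defect groups**: if `B` has an abelian defect group `P`, then for
every `χ ∈ B` and `u ∈ P` there is a `p`-regular `c ∈ C_G(u)` with `χ (u c) ≠ 0`. -/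
theorem exists_regular_of_abelian (hM : IsPModular p M) {B : Set (IrrCharacter G)}
    (hB : IsPBlock M B) {P : Subgroup G} (hPD : IsDefectGroup p M B P)
    (hab : ∀ x ∈ P, ∀ y ∈ P, x * y = y * x) {u : G} (hu : u ∈ P)
    {χ : IrrCharacter G} (hχ : χ ∈ B) :
    ∃ c : G, c ∈ Subgroup.centralizer ({u} : Set G) ∧ ¬ p ∣ orderOf c ∧
      (χ : G → ℂ) (u * c) ≠ 0 := by
  obtain ⟨b, hb, hbD⟩ := exists_major_of_abelian hM hB hPD hab hu
  exact exists_regular_of_major p M hM B hB P hPD u hu (fun d hd => hab d hd u hu) b hb hbD χ hχ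

end Abelian

end Cfsg.Agent.Lib.Helper82_MajorNonvanish
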