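import Mathlib
import Cfsg.Agent.Lib.Helper95_OPDefs
import Cfsg.Agent.Lib.Helper95_OPBasic
import Cfsg.Agent.Lib.Helper40_QuadIso
import Cfsg.Agent.Lib.Helper44_StdForms
import Cfsg.Agent.Lib.Helper43_OrthTS_OQ2
import Cfsg.Agent.Lib.Helper60_OrthTS_OCOUNT

set_option autoImplicit false
set_option linter.unusedSectionVars false

/-!
# S2345 market (architect helper95), package OP-BASEISO:
a quadratic space recognised as of plus type by its number of singular vectors is isometric to the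
standard plus form.
-/

namespace Cfsg.Agent.Lib.Helper82_OP_BASEISO

open Module Cfsg.Agent.Lib.Helper94_OrthSmall Cfsg.Agent.Lib.Helper44_QuadClass
  Cfsg.Agent.Lib.Helper14_OmegaSimple Cfsg.Agent.Lib.Helper38_MIODefs
  Cfsg.Agent.Lib.Helper95_OPDefs Cfsg.Agent.Lib.Helper95_OPBasic

/-- the two counts of singular vectors (minus type / plus type) differ -/
theorem counts_ne (q m : ℕ) (hq : 2 ≤ q) (hm : 1 ≤ m) :
    (q ^ m + 1) * (q ^ (m - 1) - 1) + 1 ≠ q ^ (2 * m - 1) + q ^ m - q ^ (m - 1) := by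
  obtain ⟨k, rfl⟩ : ∃ k, m = k + 1 := ⟨m - 1, by omega⟩
  have e1 : k + 1 - 1 = k := by omega
  have e2 : 2 * (k + 1) - 1 = k + (k + 1) := by omega
  have hm1 : q ^ (k + 1) = q ^ k * q := pow_succ _ _
  have h2m : q ^ (2 * (k + 1) - 1) = q ^ k * (q ^ k * q) := by rw [e2, pow_add, pow_succ]
  rw [h2m, e1, hm1]
  have hA : 1 ≤ q ^ k := Nat.one_le_pow _ _ (by omega)
  obtain ⟨B, hB⟩ : ∃ B, q ^ k = B + 1 := ⟨q ^ k - 1, by omega⟩
  rw [hB]
  have e3 : B + 1 - 1 = B := by omega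
  rw [e3]
  intro h
  have hY : B + 1 ≤ (B + 1) * ((B + 1) * q) + (B + 1) * q := by nlinarith
  have h2 : ((B + 1) * q + 1) * B + 1 + (B + 1) = (B + 1) * ((B + 1) * q) + (B + 1) * q := by
    omega
  nlinarith

section partE

universe u

variable {F : Type u} [Field F] [Fintype F]

open Cfsg.Agent.Lib.Helper40_QuadIso Cfsg.Agent.Lib.Helper44_StdForms

/-! ## OP-BASEISO (M) -/
theorem iso_qfPlus_of_isPlus {V : Type u} [AddCommGroup V] [Module F V] [FiniteDimensional F V]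
    (Q : QuadraticForm F V) (m : ℕ) (hm : 1 ≤ m) (hP : IsPlus Q m) : Iso Q (qfPlus m F) := by
  by_cases hh : IsHyp Q
  · exact Cfsg.Agent.Lib.Helper43_OrthTS_OQ2.iso_plus_of_isHyp m hm hP.dim Q hP.nondeg hh
  · exfalso
    have h1 := Cfsg.Agent.Lib.Helper60_OrthTS_OCOUNT.card_zeros_of_type m hm hP.dim Q hP.nondeg false
      (by simp [hh])
    rw [Cfsg.Agent.Lib.Helper99_OrthTSDefs.osing_false, hP.zeros] at h1
    exact counts_ne (Fintype.card F) m Fintype.one_lt_card hm h1.symm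

end partE

end Cfsg.Agent.Lib.Helper82_OP_BASEISO
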