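import Mathlib
import Cfsg.Agent.Lib.Helper95_OPDefs
import Cfsg.Agent.Lib.Helper95_OPBasic
import Cfsg.Agent.Lib.Helper40_QuadIso
import Cfsg.Agent.Lib.Helper44_StdForms

set_option autoImplicit false
set_option linter.unusedSectionVars false

/-!
# S2345 market (architect helper95), package OP-BASETR:
an isometry of quadratic spaces induces an isomorphism of the groups `T Q ≃* T Q'` generated by the
long root elements (Siegel transformations).
-/

namespace Cfsg.Agent.Lib.Helper82_OP_BASETR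

open Module Cfsg.Agent.Lib.Helper94_OrthSmall Cfsg.Agent.Lib.Helper44_QuadClass
  Cfsg.Agent.Lib.Helper14_OmegaSimple Cfsg.Agent.Lib.Helper38_MIODefs
  Cfsg.Agent.Lib.Helper95_OPDefs Cfsg.Agent.Lib.Helper95_OPBasic

section aux

universe u

variable {F : Type u} [Field F]

open Cfsg.Agent.Lib.Helper40_QuadIso Cfsg.Agent.Lib.Helper44_StdForms

/-- conjugation with a linear equivalence, as an isomorphism of the automorphism groups -/
def conjEquiv {V V' : Type*} [AddCommGroup V] [Module F V] [AddCommGroup V'] [Module F V']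
    (φ : V ≃ₗ[F] V') : (V ≃ₗ[F] V) ≃* (V' ≃ₗ[F] V') where
  toFun g := φ.symm.trans (g.trans φ)
  invFun g := φ.trans (g.trans φ.symm)
  left_inv g := by
    ext x
    simp
  right_inv g := by
    ext x
    simp
  map_mul' g h := by
    ext x
    simp [LinearEquiv.mul_apply]

theorem conjEquiv_apply {V V' : Type*} [AddCommGroup V] [Module F V] [AddCommGroup V'] [Module F V']
    (φ : V ≃ₗ[F] V') (g : V ≃ₗ[F] V) (x : V') : conjEquiv φ g x = φ (g (φ.symm x)) := rfl

theorem conjEquiv_symm_apply {V V' : Type*} [AddCommGroup V] [Module F V] [AddCommGroup V']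
    [Module F V'] (φ : V ≃ₗ[F] V') (g : V' ≃ₗ[F] V') (x : V) :
    (conjEquiv φ).symm g x = φ.symm (g (φ x)) := rfl

theorem polar_of_isometry {V V' : Type*} [AddCommGroup V] [Module F V] [AddCommGroup V'] [Module F V']
    (Q : QuadraticForm F V) (Q' : QuadraticForm F V') (φ : V ≃ₗ[F] V') (hφ : ∀ v, Q' (φ v) = Q v)
    (x y : V) : QuadraticMap.polar (⇑Q') (φ x) (φ y) = QuadraticMap.polar (⇑Q) x y := by
  unfold QuadraticMap.polar
  rw [← map_add, hφ, hφ, hφ]

/-- conjugation with an isometry maps Siegel transformations to Siegel transformations -/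
theorem conjEquiv_E {V V' : Type*} [AddCommGroup V] [Module F V] [AddCommGroup V'] [Module F V']
    (Q : QuadraticForm F V) (Q' : QuadraticForm F V') (φ : V ≃ₗ[F] V') (hφ : ∀ v, Q' (φ v) = Q v)
    {u s : V} (hu : Q u = 0) (hus : QuadraticMap.polar (⇑Q) u s = 0) :
    conjEquiv φ (E Q u s) = E Q' (φ u) (φ s) := by
  have hu' : Q' (φ u) = 0 := by rw [hφ, hu]
  have hus' : QuadraticMap.polar (⇑Q') (φ u) (φ s) = 0 := by
    rw [polar_of_isometry Q Q' φ hφ, hus]
  ext x
  obtain ⟨y, rfl⟩ := φ.surjective x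
  rw [conjEquiv_apply, φ.symm_apply_apply, E_apply Q hu hus, E_apply Q' hu' hus',
    polar_of_isometry Q Q' φ hφ, polar_of_isometry Q Q' φ hφ, hφ]
  simp only [map_sub, map_add, map_smul]

/-- conjugation with an isometry maps `T Q` into `T Q'` -/
theorem map_T_le {V V' : Type*} [AddCommGroup V] [Module F V] [AddCommGroup V'] [Module F V']
    (Q : QuadraticForm F V) (Q' : QuadraticForm F V') (φ : V ≃ₗ[F] V') (hφ : ∀ v, Q' (φ v) = Q v)
    (g : V ≃ₗ[F] V) (hg : g ∈ T Q) : conjEquiv φ g ∈ T Q' := by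
  have hle : T Q ≤ (T Q').comap (conjEquiv φ).toMonoidHom := by
    unfold T
    rw [Subgroup.closure_le]
    rintro g ⟨u, s, hu, hs, hus, rfl⟩
    show conjEquiv φ (E Q u s) ∈ Subgroup.closure (rootSet Q')
    rw [conjEquiv_E Q Q' φ hφ hu hus]
    apply Subgroup.subset_closure
    refine ⟨φ u, φ s, ?_, ?_, ?_, rfl⟩
    · rw [hφ, hu]
    · rw [hφ, hs]
    · rw [polar_of_isometry Q Q' φ hφ, hus]
  exact hle hg

theorem conjEquiv_symm_eq {V V' : Type*} [AddCommGroup V] [Module F V] [AddCommGroup V'] [Module F V']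
    (φ : V ≃ₗ[F] V') (g : V' ≃ₗ[F] V') : (conjEquiv φ).symm g = conjEquiv φ.symm g := by
  ext x
  rfl

end aux

section partE

universe u

variable {F : Type u} [Field F] [Fintype F]

open Cfsg.Agent.Lib.Helper40_QuadIso Cfsg.Agent.Lib.Helper44_StdForms

/-! ## OP-BASETR (M) -/
theorem T_equiv_of_iso {V V' : Type*} [AddCommGroup V] [Module F V] [AddCommGroup V'] [Module F V']
    (Q : QuadraticForm F V) (Q' : QuadraticForm F V') (h : Iso Q Q') :
    Nonempty (↥(T Q) ≃* ↥(T Q')) := by
  obtain ⟨φ, hφ⟩ := h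
  have hφ' : ∀ v, Q (φ.symm v) = Q' v := by
    intro v
    rw [← hφ, φ.apply_symm_apply]
  refine ⟨{ toFun := fun g => ⟨conjEquiv φ g.1, map_T_le Q Q' φ hφ g.1 g.2⟩
            invFun := fun g => ⟨(conjEquiv φ).symm g.1, ?_⟩
            left_inv := ?_
            right_inv := ?_
            map_mul' := ?_ }⟩
  · rw [conjEquiv_symm_eq]
    exact map_T_le Q' Q φ.symm hφ' g.1 g.2
  · intro g
    apply Subtype.ext
    exact (conjEquiv φ).symm_apply_apply g.1
  · intro g
    apply Subtype.ext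
    exact (conjEquiv φ).apply_symm_apply g.1
  · intro g g'
    apply Subtype.ext
    exact map_mul (conjEquiv φ) g.1 g'.1

end partE

end Cfsg.Agent.Lib.Helper82_OP_BASETR
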