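import Mathlib
import Cfsg.Agent.Lib.Helper84_OTSDefs
import Cfsg.Agent.Lib.Helper40_OConj
import Cfsg.Agent.Lib.Helper40_SpBasic
import Cfsg.Agent.Lib.Helper40_Semisimple

set_option autoImplicit false

/-!
Package OT of S5972 (architect helper84): transfer of an isometry `a` of odd order of a quadratic
space to the commutator space `[V, a]` with the twisted alternating form `tw`.
-/

open Polynomial Module
open Cfsg.Agent.Lib.Helper40_SpBasic Cfsg.Agent.Lib.Helper40_OConj Cfsg.Agent.Lib.Helper40_OConj.OData
  Cfsg.Agent.Lib.Helper84_OTSDefs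

namespace Cfsg.Agent.Lib.Helper82_OTS_OT

universe v

/-- the fixed space is invariant -/
theorem inv_ker {F : Type v} [Field F] {V : Type v} [AddCommGroup V] [Module F V]
    (a : Module.End F V) : Inv a (LinearMap.ker (a - 1)) := by
  intro x hx
  rw [LinearMap.mem_ker, LinearMap.sub_apply, Module.End.one_apply] at hx ⊢
  have h1 : a x = x := sub_eq_zero.1 hx
  rw [h1, h1, sub_self]

/-- `[V, a]` and the fixed space are complementary -/
theorem isCompl_comm_ker {F : Type v} [Field F] {V : Type v} [AddCommGroup V] [Module F V]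
    [FiniteDimensional F V] {Q : QuadraticForm F V} {a : Module.End F V} {N : ℕ}
    (h : OData Q a N) : IsCompl (comm a) (LinearMap.ker (a - 1)) := by
  have hdisj : Disjoint (comm a) (LinearMap.ker (a - 1)) := by
    rw [Submodule.disjoint_def]
    intro x hx hxk
    rw [LinearMap.mem_ker, LinearMap.sub_apply, Module.End.one_apply] at hxk
    exact h.eq_zero_of_fixed x hx (sub_eq_zero.1 hxk)
  refine ⟨hdisj, ?_⟩
  rw [codisjoint_iff]
  apply Submodule.eq_top_of_disjoint
  · rw [LinearMap.finrank_range_add_finrank_ker]
  · exact hdisj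

/-- the restriction of `a` to its fixed space has characteristic polynomial `(X - 1) ^ dim` -/
theorem charpoly_restrict_ker {F : Type v} [Field F] {V : Type v} [AddCommGroup V] [Module F V]
    [FiniteDimensional F V] (a : Module.End F V) :
    (a.restrict (inv_ker a)).charpoly = (X - 1) ^ finrank F (LinearMap.ker (a - 1)) := by
  have h1 : a.restrict (inv_ker a) = 1 := by
    apply LinearMap.ext
    intro z
    apply Subtype.ext
    rw [LinearMap.coe_restrict_apply, Module.End.one_apply]
    have hz := z.2
    rw [LinearMap.mem_ker, LinearMap.sub_apply, Module.End.one_apply] at hz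
    exact sub_eq_zero.1 hz
  rw [h1, LinearMap.charpoly_one]

/-- OT -/
theorem OT {F : Type v} [Field F] {V : Type v} [AddCommGroup V] [Module F V]
    [FiniteDimensional F V] (h2 : (2 : F) ≠ 0) {Q : QuadraticForm F V} {a : Module.End F V} {N : ℕ}
    (h : OData Q a N) (hQ : (pol Q).Nondegenerate) :
    ∃ (B' : LinearMap.BilinForm F (comm a)) (T' : Module.End F (comm a)),
      IsoData B' T' N ∧ B'.Nondegenerate ∧
      (∀ w : comm a, ((T' w : comm a) : V) = a (w : V)) ∧
      (∀ w : comm a, T' w = w → w = 0) ∧
      (∀ W' : Submodule F (comm a), Inv T' W' →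
        (IsoOn B' W' ↔ TSOn Q (W'.map (comm a).subtype))) ∧
      finrank F (comm a) + finrank F (LinearMap.ker (a - 1)) = finrank F V ∧
      T'.charpoly * (X - 1) ^ finrank F (LinearMap.ker (a - 1)) = a.charpoly := by
  classical
  refine ⟨(tw Q a N).restrict (comm a), a.restrict (inv_comm a),
    h.isoData.restrict (inv_comm a), nondegenerate_restrict h.isoData (h.ndOn_tw hQ),
    fun w => rfl, ?_, ?_, ?_, ?_⟩
  · intro w hw
    apply Subtype.ext
    have h1 : a (w : V) = w := congrArg Subtype.val hw
    exact h.eq_zero_of_fixed w w.2 h1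
  · intro W' hW'
    -- invariance of the image of `W'` under `a` and its powers
    have hinvV : Inv a (W'.map (comm a).subtype) := by
      rintro _ ⟨w, hw, rfl⟩
      exact ⟨(a.restrict (inv_comm a)) w, hW' w hw, rfl⟩
    have hdelmem : ∀ x ∈ W'.map (comm a).subtype, del a N x ∈ W'.map (comm a).subtype := by
      intro x hx
      show (a - a ^ (N - 1)) x ∈ _
      rw [LinearMap.sub_apply]
      exact Submodule.sub_mem _ (hinvV x hx) (hinvV.pow_mem (N - 1) hx)
    have hle : W'.map (comm a).subtype ≤ comm a := by
      rintro _ ⟨w, _, rfl⟩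
      exact w.2
    constructor
    · intro hiso
      -- `del` is surjective on the image of `W'`
      let U : Submodule F V := W'.map (comm a).subtype
      let dU : U →ₗ[F] U := (del a N).restrict hdelmem
      have hinj : Function.Injective dU := by
        rw [← LinearMap.ker_eq_bot, LinearMap.ker_eq_bot']
        intro x hx
        apply Subtype.ext
        exact h.del_injOn x (hle x.2) (congrArg Subtype.val hx)
      have hsurj : Function.Surjective dU := LinearMap.surjective_of_injective hinj
      apply tsOn_of_isoOn h2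
      intro x hx y hy
      obtain ⟨x', hx'⟩ := hsurj ⟨x, hx⟩
      have hx'' : del a N (x' : V) = x := congrArg Subtype.val hx'
      obtain ⟨x0, hx0, hx0'⟩ := x'.2
      obtain ⟨y0, hy0, rfl⟩ := hy
      have := hiso x0 hx0 y0 hy0
      rw [← hx'', ← hx0']
      exact this
    · intro hts x hx y hy
      have hiso := hts.isoOn
      exact hiso _ (hdelmem _ ⟨x, hx, rfl⟩) _ ⟨y, hy, rfl⟩
  · exact LinearMap.finrank_range_add_finrank_ker (a - 1)
  · rw [Cfsg.Agent.Lib.Helper40_Semisimple.charpoly_eq_mul_of_isCompl a (comm a) (LinearMap.ker (a - 1)) (inv_comm a) (inv_ker a)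
      (isCompl_comm_ker h), charpoly_restrict_ker]

end Cfsg.Agent.Lib.Helper82_OTS_OT
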