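import Mathlib
import Cfsg.Agent.Lib.Helper38_OTDefs
import Cfsg.Agent.Lib.Helper63_UT_E1

set_option autoImplicit false
set_option linter.unusedSectionVars false
set_option linter.unusedVariables false

/-!
# OTENS4 package OT-E1 (architect helper38, formaliser helper82): `e1_odd_orderO`, verbatim

Orthogonal twin of `Helper63_UT_E1.e1_odd_order` (same proof, `GamO` in place of `Gam σ`).
Characteristic 2: `a = 1 + s₁ N₁`, `b = 1 + s₂ N₂` are involutions.  If the order of `a b` were even,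
`= 2 m'`, then `z = (a b)^m' ≠ 1` commutes with `a` and `b`, lies in `GamO N₁ N₂`, commutes with `N₁`
and `N₂`, hence stabilises `ℓ₁` and `ℓ₂`; by `hK₁`, `hK₂`: `z = 1 + s N₁ = 1 + s' N₂`, so `ℓ₁ = ℓ₂`.
-/

namespace Cfsg.Agent.Lib.Helper82_OT_E1

open Module
open Cfsg.Agent.Lib.Helper94_Herm
open Cfsg.Agent.Lib.Helper37_UTPairDefs Cfsg.Agent.Lib.Helper38_OTDefs

variable {F : Type*} [Field F] {V : Type*} [AddCommGroup V] [Module F V]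
variable {f : LinearMap.BilinForm F V} {ℓ ℓ' : Submodule F V} {N N' : V →ₗ[F] V}

/-! ## E1 (M): products of root involutions of distinct lines have odd order
(twin of UT-E1) -/

theorem e1_odd_orderO [Finite F] [FiniteDimensional F V] (h2 : (2 : F) = 0)
    {N₁ N₂ : V →ₗ[F] V} {ℓ₁ ℓ₂ : Submodule F V} (hr₁ : LinearMap.range N₁ = ℓ₁)
    (hr₂ : LinearMap.range N₂ = ℓ₂) (hne : ℓ₁ ≠ ℓ₂)
    (hsq₁ : ∀ v, N₁ (N₁ v) = 0) (hsq₂ : ∀ v, N₂ (N₂ v) = 0)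
    (hK₁ : ∀ γ ∈ GamO N₁ N₂, (∀ v ∈ ℓ₁, γ v ∈ ℓ₁) → ∃ s : F, ∀ v, γ v = v + s • N₁ v)
    (hK₂ : ∀ γ ∈ GamO N₁ N₂, (∀ v ∈ ℓ₂, γ v ∈ ℓ₂) → ∃ s : F, ∀ v, γ v = v + s • N₂ v)
    {a b : V ≃ₗ[F] V} {s₁ s₂ : F} (h0₁ : s₁ ≠ 0) (h0₂ : s₂ ≠ 0)
    (ha : ∀ v, a v = v + s₁ • N₁ v) (hb : ∀ v, b v = v + s₂ • N₂ v) :
    Odd (orderOf (a * b)) := by
  have hVfin : Finite V := Module.finite_of_finite F
  have hGfin : Finite (V ≃ₗ[F] V) :=
    Finite.of_injective (fun g : V ≃ₗ[F] V => (g : V → V)) DFunLike.coe_injective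
  have haa : a * a = 1 := Cfsg.Agent.Lib.Helper63_UT_E1.sq_eq_one_of_root h2 hsq₁ ha
  have hbb : b * b = 1 := Cfsg.Agent.Lib.Helper63_UT_E1.sq_eq_one_of_root h2 hsq₂ hb
  have hainv : a⁻¹ = a := inv_eq_of_mul_eq_one_right haa
  have hbinv : b⁻¹ = b := inv_eq_of_mul_eq_one_right hbb
  rw [← Nat.not_even_iff_odd]
  rintro ⟨m', hm'⟩
  have hpos : 0 < orderOf (a * b) := orderOf_pos (a * b)
  have hm'pos : 0 < m' := by omega
  have hm'lt : m' < orderOf (a * b) := by omega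
  set z : V ≃ₗ[F] V := (a * b) ^ m' with hz
  have hz1 : z ≠ 1 := pow_ne_one_of_lt_orderOf hm'pos.ne' hm'lt
  have hzz : z * z = 1 := by
    rw [hz, ← pow_add, ← hm', pow_orderOf_eq_one]
  have hzinv : z⁻¹ = z := inv_eq_of_mul_eq_one_right hzz
  have hca : a * (a * b) * a⁻¹ = (a * b)⁻¹ := by
    rw [mul_inv_rev, hainv, hbinv, ← mul_assoc, haa, one_mul]
  have hcb : b * (a * b) * b⁻¹ = (a * b)⁻¹ := by
    rw [mul_inv_rev, hainv, hbinv, mul_assoc, mul_assoc, hbb, mul_one]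
  have hza : z * a = a * z := by
    have h1 : a * z * a⁻¹ = z := by
      rw [hz, ← conj_pow, hca, inv_pow, ← hz, hzinv]
    exact (mul_inv_eq_iff_eq_mul.mp h1).symm
  have hzb : z * b = b * z := by
    have h1 : b * z * b⁻¹ = z := by
      rw [hz, ← conj_pow, hcb, inv_pow, ← hz, hzinv]
    exact (mul_inv_eq_iff_eq_mul.mp h1).symm
  have haG : a ∈ GamO N₁ N₂ := Subgroup.subset_closure ⟨s₁, Or.inl ha⟩
  have hbG : b ∈ GamO N₁ N₂ := Subgroup.subset_closure ⟨s₂, Or.inr hb⟩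
  have hzG : z ∈ GamO N₁ N₂ := Subgroup.pow_mem _ (Subgroup.mul_mem _ haG hbG) m'
  have hst₁ : ∀ v ∈ ℓ₁, z v ∈ ℓ₁ := by
    intro v hv
    rw [← hr₁] at hv ⊢
    obtain ⟨w, rfl⟩ := hv
    exact ⟨z w, (Cfsg.Agent.Lib.Helper63_UT_E1.comm_root h0₁ ha hza w).symm⟩
  have hst₂ : ∀ v ∈ ℓ₂, z v ∈ ℓ₂ := by
    intro v hv
    rw [← hr₂] at hv ⊢
    obtain ⟨w, rfl⟩ := hv
    exact ⟨z w, (Cfsg.Agent.Lib.Helper63_UT_E1.comm_root h0₂ hb hzb w).symm⟩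
  obtain ⟨s, h1⟩ := hK₁ z hzG hst₁
  obtain ⟨s', h2'⟩ := hK₂ z hzG hst₂
  apply hne
  rw [← hr₁, ← hr₂]
  exact Cfsg.Agent.Lib.Helper63_UT_E1.range_eq_of_root hz1 h1 h2'

end Cfsg.Agent.Lib.Helper82_OT_E1
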