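import Mathlib
import Cfsg.Agent.Lib.Helper97_OX3Defs
import Cfsg.Agent.Lib.Helper94_OrthVec
import Cfsg.Agent.Lib.Helper82_OX2_G_HYP

set_option autoImplicit false
set_option linter.unusedSectionVars false
set_option linter.unusedVariables false

/-!
# OEXT3 market (architect helper97), package IRR1: from a non-`K`-linear element of `U_L`
to a frame `(p, p', a, b)` with `L = K p + K a` and a nonzero value `c(k b, k' b)`
-/

namespace Cfsg.Agent.Lib.Helper82_OX3_IRR1

open Module Cfsg.Agent.Lib.Helper94_OrthSmall Cfsg.Agent.Lib.Helper94_OrthSiegel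
  Cfsg.Agent.Lib.Helper98_ExtDefs Cfsg.Agent.Lib.Helper97_OX2Defs
  Cfsg.Agent.Lib.Helper97_OX3Defs
open scoped commutatorElement

variable {F K V : Type*} [Field F] [Field K] [Algebra F K] [AddCommGroup V] [Module F V]
  [Module K V] [IsScalarTower F K V]
variable {τ : K →ₗ[F] F} {QK : V → K} {BK : LinearMap.BilinForm K V}
variable [Finite F] [Finite K] [Module.Finite F V] [Module.Finite K V]

/-- `QK` vanishes on the `K`-line of a totally singular pair -/
theorem h82_QK_kln (C : Ctx3 τ QK BK) {u w : V} (h : TSPair QK BK u w) {x : V}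
    (hx : x ∈ kln F (K := K) u w) : QK x = 0 := by
  obtain ⟨a, b, rfl⟩ := mem_kln.mp hx
  obtain ⟨hu, hw, huw, -⟩ := h
  rw [C.hQp, C.hQs, C.hQs, hu, hw]
  simp only [map_smul, LinearMap.smul_apply, huw]
  simp

/-- `BK` vanishes on the `K`-line of a totally singular pair -/
theorem h82_BK_kln (C : Ctx3 τ QK BK) {u w : V} (h : TSPair QK BK u w) {x x' : V}
    (hx : x ∈ kln F (K := K) u w) (hx' : x' ∈ kln F (K := K) u w) : BK x x' = 0 := by
  obtain ⟨a, b, rfl⟩ := mem_kln.mp hx
  obtain ⟨a', b', rfl⟩ := mem_kln.mp hx'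
  obtain ⟨hu, hw, huw, -⟩ := h
  have huu : BK u u = 0 := by rw [C.BK_self, hu, mul_zero]
  have hww : BK w w = 0 := by rw [C.BK_self, hw, mul_zero]
  have hwu : BK w u = 0 := by rw [C.BK_symm, huw]
  simp only [map_add, map_smul, LinearMap.add_apply, LinearMap.smul_apply, huu, hww, huw, hwu]
  simp

/-- IRR1 -/
theorem frame_of_nonlin (C : Ctx3 τ QK BK) {u w : V} (h : TSPair QK BK u w) {y : V ≃ₗ[F] V}
    (hU : InU (trQ τ QK) (kln F (K := K) u w) y) (hK : ¬ Klin K y) :
    ∃ p p' a b : V, Frame QK BK p p' a b ∧ p ≠ 0 ∧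
      kln F (K := K) p a = kln F (K := K) u w ∧
      ∃ k k' : K, trB τ BK (y (k • b) - k • b) (k' • b) ≠ 0 := by
  obtain ⟨hiso, hin, hfix⟩ := hU
  have hQL := fun {x : V} (hx : x ∈ kln F (K := K) u w) => h82_QK_kln C h hx
  have hBL := fun {x x' : V} (hx : x ∈ kln F (K := K) u w) (hx' : x' ∈ kln F (K := K) u w) =>
    h82_BK_kln C h hx hx'
  have hLK : ∀ (k : K) {x : V}, x ∈ kln F (K := K) u w → k • x ∈ kln F (K := K) u w :=
    fun k x hx => Ctx3.isKinv_kln u w k x hx
  -- the alternating form `c x x' = trB (y x - x) x'`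
  have hc0 : ∀ x : V, trB τ BK (y x - x) x = 0 := by
    intro x
    have h1 : trQ τ QK (y x) = trQ τ QK x := hiso x
    have h2 : y x = x + (y x - x) := by abel
    rw [h2, C.trQ_add] at h1
    have h3 : trQ τ QK (y x - x) = 0 := by rw [trQ_apply, hQL (hin x), map_zero]
    rw [h3, add_zero] at h1
    rw [C.trB_symm]
    exact add_left_cancel (a := trQ τ QK x) (by rw [h1, add_zero])
  have hcL : ∀ (x : V) {l : V}, l ∈ kln F (K := K) u w → trB τ BK (y x - x) l = 0 := by
    intro x l hl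
    rw [trB_apply, hBL (hin x) hl, map_zero]
  have hNL : ∀ {l : V}, l ∈ kln F (K := K) u w → y l - l = 0 := by
    intro l hl
    rw [hfix l hl, sub_self]
  have hskew : ∀ x x' : V, trB τ BK (y x - x) x' = - trB τ BK (y x' - x') x := by
    intro x x'
    have h1 := hc0 (x + x')
    have h2 : y (x + x') - (x + x') = (y x - x) + (y x' - x') := by rw [map_add]; abel
    rw [h2] at h1
    simp only [map_add, LinearMap.add_apply, hc0 x, hc0 x'] at h1
    rw [zero_add, add_zero] at h1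
    linear_combination h1
  -- existence of `z, k, k'` with `c (k z) (k' z) ≠ 0`
  obtain ⟨z, k, k', hzkk⟩ : ∃ (z : V) (k k' : K),
      trB τ BK (y (k • z) - k • z) (k' • z) ≠ 0 := by
    by_contra hcon
    push Not at hcon
    apply hK
    intro k x
    -- `c (k x) z' = c x (k z')`
    have hsw : ∀ z' : V, trB τ BK (y (k • x) - k • x) z' = trB τ BK (y x - x) (k • z') := by
      intro z'
      have h1 := hcon (x + z') k 1
      have h2 : y (k • (x + z')) - k • (x + z') = (y (k • x) - k • x) + (y (k • z') - k • z') := by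
        rw [smul_add, map_add]; abel
      have h3 := hcon x k 1
      have h4 := hcon z' k 1
      rw [one_smul] at h3 h4
      rw [h2, one_smul] at h1
      simp only [map_add, LinearMap.add_apply, h3, h4] at h1
      rw [zero_add, add_zero] at h1
      have h1' : trB τ BK (y (k • x) - k • x) z' = - trB τ BK (y (k • z') - k • z') x := by
        linear_combination h1
      rw [h1', hskew (k • z') x, neg_neg]
    have h5 : ∀ z' : V, trB τ BK ((y (k • x) - k • x) - k • (y x - x)) z' = 0 := by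
      intro z'
      have hBk : BK (y x - x) (k • z') = BK (k • (y x - x)) z' := by
        simp only [map_smul, LinearMap.smul_apply]
      rw [map_sub, LinearMap.sub_apply, hsw z', trB_apply, trB_apply, hBk, sub_self]
    have h6 := C.trB_nondeg.1 _ h5
    have h7 : y (k • x) = k • x + k • (y x - x) := by
      rw [← sub_eq_zero, ← h6]; abel
    rw [h7, smul_sub]; abel
  -- the coordinates `s = BK z u`, `t = BK z w`
  have hst : ¬ (BK z u = 0 ∧ BK z w = 0) := by
    rintro ⟨hs, ht⟩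
    apply hzkk
    have hzL : ∀ {l : V}, l ∈ kln F (K := K) u w → BK l z = 0 := by
      intro l hl
      obtain ⟨a, b, rfl⟩ := mem_kln.mp hl
      rw [C.BK_symm, map_add, map_smul, map_smul, hs, ht]; simp
    rw [trB_apply, map_smul, hzL (hin (k • z)), smul_zero, map_zero]
  obtain ⟨α, β, hαβ⟩ : ∃ α β : K, α * BK z u + β * BK z w = 1 := by
    by_cases hs : BK z u = 0
    · have ht : BK z w ≠ 0 := fun ht => hst ⟨hs, ht⟩
      exact ⟨0, (BK z w)⁻¹, by rw [zero_mul, zero_add, inv_mul_cancel₀ ht]⟩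
    · exact ⟨(BK z u)⁻¹, 0, by rw [zero_mul, add_zero, inv_mul_cancel₀ hs]⟩
  obtain ⟨s, hs⟩ : ∃ s : K, s = BK z u := ⟨_, rfl⟩
  obtain ⟨t, ht⟩ : ∃ t : K, t = BK z w := ⟨_, rfl⟩
  rw [← hs, ← ht] at hαβ hst
  obtain ⟨a, ha⟩ : ∃ a : V, a = α • u + β • w := ⟨_, rfl⟩
  obtain ⟨p, hp⟩ : ∃ p : V, p = t • u + (-s) • w := ⟨_, rfl⟩
  have haL : a ∈ kln F (K := K) u w := mem_kln.mpr ⟨α, β, ha⟩
  have hpL : p ∈ kln F (K := K) u w := mem_kln.mpr ⟨t, -s, hp⟩
  have hp0 : p ≠ 0 := by
    intro hp0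
    rw [hp] at hp0
    obtain ⟨h1, h2⟩ := h.2.2.2 t (-s) hp0
    exact hst ⟨neg_eq_zero.mp h2, h1⟩
  have hza : BK z a = 1 := by
    rw [ha, map_add, map_smul, map_smul, ← hs, ← ht, smul_eq_mul, smul_eq_mul, hαβ]
  have hzp : BK z p = 0 := by
    rw [hp, map_add, map_smul, map_smul, ← hs, ← ht, smul_eq_mul, smul_eq_mul]; ring
  have hQa : QK a = 0 := hQL haL
  have hQp : QK p = 0 := hQL hpL
  have hpa : BK p a = 0 := hBL hpL haL
  have haa : BK a a = 0 := hBL haL haL
  have hpp : BK p p = 0 := hBL hpL hpL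
  obtain ⟨q, hq⟩ : ∃ q : K, q = QK z := ⟨_, rfl⟩
  obtain ⟨b, hb⟩ : ∃ b : V, b = z + (-q) • a := ⟨_, rfl⟩
  have hQb : QK b = 0 := by
    rw [hb, C.hQp, C.hQs, hQa, map_smul, hza, ← hq, smul_eq_mul]; ring
  have hab : BK a b = 1 := by
    rw [hb, map_add, map_smul, haa, C.BK_symm a z, hza]; simp
  have hpb : BK p b = 0 := by
    rw [hb, map_add, map_smul, hpa, C.BK_symm p z, hzp]; simp
  -- the partner `p'`
  obtain ⟨p'', hQp'', hpp''⟩ := Cfsg.Agent.Lib.Helper82_OX2_G_HYP.exists_hyp QK BK C.hQs C.hQp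
    C.hN hp0 hQp
  obtain ⟨x, hx⟩ : ∃ x : V, x = p'' + (-(BK p'' b)) • a + (-(BK p'' a)) • b := ⟨_, rfl⟩
  have hba : BK b a = 1 := by rw [C.BK_symm, hab]
  have hbb : BK b b = 0 := by rw [C.BK_self, hQb, mul_zero]
  have hxa : BK x a = 0 := by
    rw [hx]
    simp only [map_add, map_smul, LinearMap.add_apply, LinearMap.smul_apply, haa, hba, smul_eq_mul]
    ring
  have hxb : BK x b = 0 := by
    rw [hx]
    simp only [map_add, map_smul, LinearMap.add_apply, LinearMap.smul_apply, hab, hbb, smul_eq_mul]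
    ring
  have hpx : BK p x = 1 := by
    rw [hx]
    simp only [map_add, map_smul, hpa, hpb, hpp'', smul_eq_mul]
    ring
  obtain ⟨p', hp'⟩ : ∃ p' : V, p' = x + (-(QK x)) • p := ⟨_, rfl⟩
  have hxp : BK x p = 1 := by rw [C.BK_symm, hpx]
  have hQp' : QK p' = 0 := by
    rw [hp', C.hQp, C.hQs, hQp, map_smul, hxp, smul_eq_mul]; ring
  have hpp' : BK p p' = 1 := by
    rw [hp', map_add, map_smul, hpx, hpp]; simp
  have hp'a : BK p' a = 0 := by
    rw [hp', map_add, map_smul, LinearMap.add_apply, LinearMap.smul_apply, hxa, hpa]; simp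
  have hp'b : BK p' b = 0 := by
    rw [hp', map_add, map_smul, LinearMap.add_apply, LinearMap.smul_apply, hxb, hpb]; simp
  refine ⟨p, p', a, b, ⟨hQp, hQp', hQa, hQb, hpp', hab, hpa, hpb, hp'a, hp'b⟩, hp0, ?_, k, k', ?_⟩
  · -- `K p + K a = K u + K w`
    have hu' : u = β • p + s • a := by
      rw [hp, ha]
      have : β • (t • u + (-s) • w) + s • (α • u + β • w) = (α * s + β * t) • u := by module
      rw [this, hαβ, one_smul]
    have hw' : w = (-α) • p + t • a := by
      rw [hp, ha]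
      have : (-α) • (t • u + (-s) • w) + t • (α • u + β • w) = (α * s + β * t) • w := by module
      rw [this, hαβ, one_smul]
    apply le_antisymm
    · intro v hv
      obtain ⟨c, d, rfl⟩ := mem_kln.mp hv
      exact Submodule.add_mem _ (hLK c hpL) (hLK d haL)
    · intro v hv
      obtain ⟨c, d, rfl⟩ := mem_kln.mp hv
      have hpp1 : p ∈ kln F (K := K) p a := mem_kln.mpr ⟨1, 0, by simp⟩
      have hpa1 : a ∈ kln F (K := K) p a := mem_kln.mpr ⟨0, 1, by simp⟩
      have huM : u ∈ kln F (K := K) p a := mem_kln.mpr ⟨β, s, hu'⟩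
      have hwM : w ∈ kln F (K := K) p a := mem_kln.mpr ⟨-α, t, hw'⟩
      exact Submodule.add_mem _ (Ctx3.isKinv_kln p a c u huM) (Ctx3.isKinv_kln p a d w hwM)
  · -- `c (k b) (k' b) = c (k z) (k' z)`
    have h1 : y (k • b) - k • b = y (k • z) - k • z := by
      have h2 : k • b = k • z + (k * (-q)) • a := by rw [hb, smul_add, smul_smul]
      rw [h2, map_add, hfix _ (hLK _ haL)]; abel
    have h3 : k' • b = k' • z + (k' * (-q)) • a := by rw [hb, smul_add, smul_smul]
    rw [h1, h3, map_add, hcL _ (hLK _ haL), add_zero]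
    exact hzkk
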