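import Mathlib
import Cfsg.Agent.Lib.Helper97_OX3Defs
import Cfsg.Agent.Lib.Helper94_OrthVec

set_option autoImplicit false
set_option linter.unusedSectionVars false
set_option linter.unusedVariables false

/-!
# OEXT3 market (architect helper97), package IRR3: if every alternating form on `K` is realised
by an element of `M ∩ U_{Kp}`, then `M` contains the full root group at `p`
-/

namespace Cfsg.Agent.Lib.Helper82_OX3_IRR3

open Module Cfsg.Agent.Lib.Helper94_OrthSmall Cfsg.Agent.Lib.Helper94_OrthSiegel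
  Cfsg.Agent.Lib.Helper98_ExtDefs Cfsg.Agent.Lib.Helper97_OX2Defs
  Cfsg.Agent.Lib.Helper97_OX3Defs
open scoped commutatorElement

variable {F K V : Type*} [Field F] [Field K] [Algebra F K] [AddCommGroup V] [Module F V]
  [Module K V] [IsScalarTower F K V]
variable {τ : K →ₗ[F] F} {QK : V → K} {BK : LinearMap.BilinForm K V}
variable [Finite F] [Finite K] [Module.Finite F V] [Module.Finite K V]

/-- an element of `U_{Kp}` fixes `p^{⊥_K}` pointwise -/
theorem h82_fix_perp (C : Ctx3 τ QK BK) {p : V} {y : V ≃ₗ[F] V}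
    (hU : InU (trQ τ QK) (kpt F (K := K) p) y) {x : V} (hx : BK x p = 0) : y x = x := by
  obtain ⟨hiso, hin, hfix⟩ := hU
  have key : ∀ z' : V, trB τ BK (y x - x) z' = 0 := by
    intro z'
    obtain ⟨z, rfl⟩ : ∃ z, y z = z' := ⟨y.symm z', y.apply_symm_apply z'⟩
    have h1 : trB τ BK (y x) (y z) = trB τ BK x z :=
      oG_B (trQ τ QK) (trB τ BK) C.trQ_add hiso x z
    obtain ⟨d, hd⟩ := mem_kpt.mp (hin z)
    have h2 : trB τ BK x (y z - z) = 0 := by
      rw [hd, trB_apply, map_smul, hx, smul_zero, map_zero]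
    rw [map_sub, LinearMap.sub_apply, h1]
    rw [map_sub] at h2
    linear_combination -h2
  have := C.trB_nondeg.1 _ key
  exact sub_eq_zero.mp this

/-- an element of `U_{Kp}` is determined by the form `(k, k') ↦ B (N (k p')) (k' p')` -/
theorem h82_U_ext (C : Ctx3 τ QK BK) {p p' : V} (hpp' : BK p p' = 1) {y₁ y₂ : V ≃ₗ[F] V}
    (h₁ : InU (trQ τ QK) (kpt F (K := K) p) y₁) (h₂ : InU (trQ τ QK) (kpt F (K := K) p) y₂)
    (hform : ∀ k k' : K, trB τ BK (y₁ (k • p') - k • p') (k' • p') =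
      trB τ BK (y₂ (k • p') - k • p') (k' • p')) : y₁ = y₂ := by
  apply LinearEquiv.ext
  intro x
  obtain ⟨c, hc⟩ : ∃ c : K, c = BK x p := ⟨_, rfl⟩
  have hp'p : BK p' p = 1 := by rw [C.BK_symm, hpp']
  have hx0 : BK (x - c • p') p = 0 := by
    rw [map_sub, map_smul, LinearMap.sub_apply, LinearMap.smul_apply, hp'p, ← hc]; simp
  have hx : x = (x - c • p') + c • p' := by abel
  have e1 := h82_fix_perp C h₁ hx0
  have e2 := h82_fix_perp C h₂ hx0
  rw [hx, map_add, map_add, e1, e2]
  congr 1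
  obtain ⟨d₁, hd₁⟩ := mem_kpt.mp (h₁.2.1 (c • p'))
  obtain ⟨d₂, hd₂⟩ := mem_kpt.mp (h₂.2.1 (c • p'))
  have hd : d₁ - d₂ = 0 := by
    apply C.eq_zero_of_tau_mul
    intro k'
    have := hform c k'
    rw [hd₁, hd₂, trB_apply, trB_apply] at this
    simp only [map_smul, LinearMap.smul_apply, hpp', smul_eq_mul, mul_one] at this
    rw [mul_sub, map_sub, mul_comm k' d₁, mul_comm k' d₂, sub_eq_zero]
    convert this using 2 <;> ring
  have hd' : d₁ = d₂ := sub_eq_zero.mp hd
  have : y₁ (c • p') - c • p' = y₂ (c • p') - c • p' := by rw [hd₁, hd₂, hd']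
  exact sub_left_injective this

/-- IRR3 -/
theorem root_of_forms (C : Ctx3 τ QK BK) (M : Subgroup (V ≃ₗ[F] V)) (hM : HypO3 τ QK BK M)
    {p p' : V} (hp : QK p = 0) (hp' : QK p' = 0) (hpp' : BK p p' = 1)
    (hall : ∀ γ' : K →ₗ[F] K →ₗ[F] F, (∀ k, γ' k k = 0) →
      ∃ y₂ ∈ M, InU (trQ τ QK) (kpt F (K := K) p) y₂ ∧
        ∀ k k' : K, trB τ BK (y₂ (k • p') - k • p') (k' • p') = γ' k k') :
    Root τ QK BK M p := by
  intro κ l
  have hpp : BK p p = 0 := by rw [C.BK_self, hp, mul_zero]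
  have hu : trQ τ QK (κ • p) = 0 := by rw [trQ_apply, C.hQs, hp, mul_zero, map_zero]
  have hw : trQ τ QK (l • p) = 0 := by rw [trQ_apply, C.hQs, hp, mul_zero, map_zero]
  have huw : trB τ BK (κ • p) (l • p) = 0 := by
    rw [trB_apply]
    simp only [map_smul, LinearMap.smul_apply, hpp, smul_zero, map_zero]
  have hT : ∀ x : V, sieg (trQ τ QK) (trB τ BK) (κ • p) (l • p) x =
      x + trB τ BK x (κ • p) • (l • p) - trB τ BK x (l • p) • (κ • p) := by
    intro x
    rw [sieg_apply (trQ τ QK) (trB τ BK) C.trQ_smul C.trQ_add hu huw, hw, zero_mul, zero_smul,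
      sub_zero]
  -- the form of the Siegel element
  let γ' : K →ₗ[F] K →ₗ[F] F :=
    LinearMap.mk₂ F (fun k k' => τ (k * κ) * τ (l * k') - τ (k * l) * τ (κ * k'))
      (by intro a b c; simp only [add_mul, map_add]; ring)
      (by intro c a b; simp only [smul_mul_assoc, map_smul, smul_eq_mul]; ring)
      (by intro a b c; simp only [mul_add, map_add]; ring)
      (by intro c a b; simp only [mul_smul_comm, map_smul, smul_eq_mul]; ring)
  have hγ' : ∀ k k' : K, γ' k k' = τ (k * κ) * τ (l * k') - τ (k * l) * τ (κ * k') :=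
    fun k k' => rfl
  have halt : ∀ k, γ' k k = 0 := by
    intro k
    rw [hγ', mul_comm l k, mul_comm κ k]; ring
  obtain ⟨y₂, hy₂M, hy₂U, hy₂f⟩ := hall γ' halt
  have hTU : InU (trQ τ QK) (kpt F (K := K) p) (sieg (trQ τ QK) (trB τ BK) (κ • p) (l • p)) := by
    refine ⟨sieg_mem_oG (trQ τ QK) (trB τ BK) C.trQ_smul C.trQ_add hu huw, ?_, ?_⟩
    · intro x
      rw [hT]
      apply mem_kpt.mpr
      refine ⟨algebraMap F K (trB τ BK x (κ • p)) * l - algebraMap F K (trB τ BK x (l • p)) * κ, ?_⟩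
      rw [sub_smul, mul_smul, mul_smul, algebraMap_smul, algebraMap_smul]
      abel
    · intro x hx
      obtain ⟨d, rfl⟩ := mem_kpt.mp hx
      rw [hT]
      have h1 : trB τ BK (d • p) (κ • p) = 0 := by
        rw [trB_apply]
        simp only [map_smul, LinearMap.smul_apply, hpp, smul_zero, map_zero]
      have h2 : trB τ BK (d • p) (l • p) = 0 := by
        rw [trB_apply]
        simp only [map_smul, LinearMap.smul_apply, hpp, smul_zero, map_zero]
      rw [h1, h2, zero_smul, zero_smul, add_zero, sub_zero]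
  have heq : y₂ = sieg (trQ τ QK) (trB τ BK) (κ • p) (l • p) := by
    apply h82_U_ext C hpp' hy₂U hTU
    intro k k'
    rw [hy₂f, hγ', hT]
    have hp'p : BK p' p = 1 := by rw [C.BK_symm, hpp']
    have e : k • p' + trB τ BK (k • p') (κ • p) • (l • p) - trB τ BK (k • p') (l • p) • (κ • p)
        - k • p' = trB τ BK (k • p') (κ • p) • (l • p) - trB τ BK (k • p') (l • p) • (κ • p) := by
      abel
    have hA : ∀ a b : K, trB τ BK (a • p') (b • p) = τ (a * b) := by
      intro a b
      rw [trB_apply]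
      simp only [map_smul, LinearMap.smul_apply, hp'p, smul_eq_mul, mul_one]
      rw [mul_comm]
    have hB : ∀ a b : K, trB τ BK (a • p) (b • p') = τ (a * b) := by
      intro a b
      rw [trB_apply]
      simp only [map_smul, LinearMap.smul_apply, hpp', smul_eq_mul, mul_one]
      rw [mul_comm]
    have hlin : ∀ (f₁ f₂ : F) (X Y Z : V), trB τ BK (f₁ • X - f₂ • Y) Z =
        f₁ * trB τ BK X Z - f₂ * trB τ BK Y Z := by
      intro f₁ f₂ X Y Z
      rw [map_sub, LinearMap.sub_apply, LinearMap.map_smul, LinearMap.map_smul,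
        LinearMap.smul_apply, LinearMap.smul_apply, smul_eq_mul, smul_eq_mul]
    rw [e, hlin, hA, hA, hB, hB]
  rw [← heq]
  exact hy₂M
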