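import Mathlib
import Cfsg.Prelude.Def_GeometricClasses
import Cfsg.Agent.Lib.Helper13_OrthC8Defs
import Cfsg.Agent.Lib.Helper14_WittType
import Cfsg.Agent.Lib.Helper40_QuadIso
import Cfsg.Agent.Lib.Helper61_IsometryTransfer
import Cfsg.Agent.Lib.Helper82_OrthExt_C3b

set_option autoImplicit false

/-!
Package IDX of S5981 (helper13), by helper82: a prime `r ≠ p` dividing the index of
`Sim(Q) ∩ SL_n(q)` in `SL_n(q)` (`q` odd, `Q` a nondegenerate quadratic form) divides `q^k - 1` for an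
odd `3 ≤ k ≤ n`, or `q^m + 1` (plus type, `n = 2m`), or `q^m - 1` (minus type, `n = 2m`).
-/

namespace Cfsg.Agent.Lib.Helper82_OrthC8_IDX

open Matrix Module Cfsg.Agent.Lib.Helper13_OrthC8Defs Cfsg.Agent.Lib.Helper40_QuadIso

/-! ### arithmetic -/

/-- the exponent `0 + 1 + ⋯ + (n-1)` -/
def tri (n : ℕ) : ℕ := ∑ i ∈ Finset.range n, i

theorem tri_odd (m : ℕ) : tri (2 * m + 1) = m ^ 2 + m * (m + 1) := by
  have h := Finset.sum_range_id_mul_two (2 * m + 1)
  unfold tri
  have h1 : 2 * m + 1 - 1 = 2 * m := by omega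
  rw [h1] at h
  nlinarith

theorem tri_even (m : ℕ) (hm : 1 ≤ m) : tri (2 * m) = m * (m - 1) + m ^ 2 := by
  obtain ⟨k, rfl⟩ : ∃ k, m = k + 1 := ⟨m - 1, by omega⟩
  have h := Finset.sum_range_id_mul_two (2 * (k + 1))
  unfold tri
  have h1 : 2 * (k + 1) - 1 = 2 * k + 1 := by omega
  have h2 : k + 1 - 1 = k := by omega
  rw [h1] at h
  rw [h2]
  nlinarith

/-- `∏_{i<n} (q^n - q^i) = q^(0+1+⋯+(n-1)) ∏_{i<n} (q^(i+1) - 1)`. -/
theorem prod_gl' (q n : ℕ) :
    ∏ i ∈ Finset.range n, (q ^ n - q ^ i) =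
      q ^ tri n * ∏ i ∈ Finset.range n, (q ^ (i + 1) - 1) := by
  have h1 : ∀ i ∈ Finset.range n, q ^ n - q ^ i = q ^ i * (q ^ (n - 1 - i + 1) - 1) := by
    intro i hi
    rw [Finset.mem_range] at hi
    rw [Nat.mul_sub, mul_one, ← pow_add]
    congr 2
    omega
  rw [Finset.prod_congr rfl h1, Finset.prod_mul_distrib, Finset.prod_pow_eq_pow_sum,
    Finset.prod_range_reflect (fun j => q ^ (j + 1) - 1) n]
  rfl

theorem prod_split_odd (q m : ℕ) :
    ∏ j ∈ Finset.range (2 * m + 1), (q ^ (j + 1) - 1) =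
      (q - 1) * ((∏ i ∈ Finset.range m, (q ^ (2 * (i + 1)) - 1)) *
        ∏ i ∈ Finset.range m, (q ^ (2 * i + 3) - 1)) := by
  induction m with
  | zero => simp
  | succ m ih =>
    have h1 : 2 * (m + 1) + 1 = (2 * m + 1) + 1 + 1 := by ring
    rw [h1, Finset.prod_range_succ, Finset.prod_range_succ, ih, Finset.prod_range_succ,
      Finset.prod_range_succ]
    have h2 : 2 * m + 1 + 1 = 2 * (m + 1) := by ring
    have h3 : 2 * m + 1 + 1 + 1 = 2 * m + 3 := by ring
    rw [h2, h3]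
    ring_nf

theorem prod_split_even (q m : ℕ) (hm : 1 ≤ m) :
    ∏ j ∈ Finset.range (2 * m), (q ^ (j + 1) - 1) =
      (q - 1) * (q ^ (2 * m) - 1) * ((∏ i ∈ Finset.range (m - 1), (q ^ (2 * (i + 1)) - 1)) *
        ∏ i ∈ Finset.range (m - 1), (q ^ (2 * i + 3) - 1)) := by
  obtain ⟨k, rfl⟩ : ∃ k, m = k + 1 := ⟨m - 1, by omega⟩
  have h1 : 2 * (k + 1) = (2 * k + 1) + 1 := by ring
  have h2 : k + 1 - 1 = k := by omega
  rw [h2]
  conv_lhs => rw [h1]
  rw [Finset.prod_range_succ, prod_split_odd, ← h1]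
  ring

theorem pow_two_mul_sub_one (q m : ℕ) (hq : 1 ≤ q) :
    q ^ (2 * m) - 1 = (q ^ m - 1) * (q ^ m + 1) := by
  have h1 : 1 ≤ q ^ m := Nat.one_le_pow _ _ hq
  have h2 : 1 ≤ q ^ (2 * m) := Nat.one_le_pow _ _ hq
  zify [h1, h2]
  ring

theorem prod_pos_aux (q : ℕ) (hq : 2 ≤ q) (m : ℕ) (f : ℕ → ℕ) (hf : ∀ i, 1 ≤ f i) :
    0 < ∏ i ∈ Finset.range m, (q ^ f i - 1) := by
  apply Finset.prod_pos
  intro i _
  have : 2 ^ f i ≤ q ^ f i := Nat.pow_le_pow_left hq _
  have h2 : 2 ≤ 2 ^ f i := by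
    calc 2 = 2 ^ 1 := by norm_num
      _ ≤ 2 ^ f i := Nat.pow_le_pow_right (by norm_num) (hf i)
  omega

/-- odd dimension -/
theorem arith_odd (q m S O idx : ℕ) (hq : 2 ≤ q)
    (hS : ∏ i ∈ Finset.range (2 * m + 1), (q ^ (2 * m + 1) - q ^ i) = S * (q - 1))
    (hO : O = 2 * q ^ (m ^ 2) * ∏ i ∈ Finset.range m, (q ^ (2 * (i + 1)) - 1))
    (hdiv : idx * O ∣ 2 * S) :
    idx ∣ q ^ (m * (m + 1)) * ∏ i ∈ Finset.range m, (q ^ (2 * i + 3) - 1) := by
  have hpos : 0 < O * (q - 1) := by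
    rw [hO]
    have := prod_pos_aux q hq m (fun i => 2 * (i + 1)) (fun i => by omega)
    have h3 : 0 < q ^ (m ^ 2) := pow_pos (by omega) _
    have h4 : 0 < q - 1 := by omega
    positivity
  have h1 : idx * O * (q - 1) ∣ 2 * S * (q - 1) := Nat.mul_dvd_mul_right hdiv _
  have h2 : 2 * S * (q - 1) = O * (q - 1) *
      (q ^ (m * (m + 1)) * ∏ i ∈ Finset.range m, (q ^ (2 * i + 3) - 1)) := by
    rw [mul_assoc 2 S, ← hS, prod_gl', tri_odd, prod_split_odd, hO, pow_add]
    ring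
  rw [h2] at h1
  apply Nat.dvd_of_mul_dvd_mul_left hpos
  have h3 : O * (q - 1) * idx = idx * O * (q - 1) := by ring
  rw [h3]
  exact h1

/-- even dimension, plus type -/
theorem arith_plus (q m S O idx : ℕ) (hq : 2 ≤ q) (hm : 1 ≤ m)
    (hS : ∏ i ∈ Finset.range (2 * m), (q ^ (2 * m) - q ^ i) = S * (q - 1))
    (hO : O = 2 * q ^ (m * (m - 1)) * (q ^ m - 1) *
      ∏ i ∈ Finset.range (m - 1), (q ^ (2 * (i + 1)) - 1))
    (hdiv : idx * O ∣ 2 * S) :
    idx ∣ q ^ (m ^ 2) * (q ^ m + 1) * ∏ i ∈ Finset.range (m - 1), (q ^ (2 * i + 3) - 1) := by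
  have hpos : 0 < O * (q - 1) := by
    rw [hO]
    have := prod_pos_aux q hq (m - 1) (fun i => 2 * (i + 1)) (fun i => by omega)
    have h3 : 0 < q ^ (m * (m - 1)) := pow_pos (by omega) _
    have h4 : 0 < q - 1 := by omega
    have h5 : 0 < q ^ m - 1 := by
      have : 2 ^ m ≤ q ^ m := Nat.pow_le_pow_left hq _
      have h2 : 2 ≤ 2 ^ m := by
        calc 2 = 2 ^ 1 := by norm_num
          _ ≤ 2 ^ m := Nat.pow_le_pow_right (by norm_num) hm
      omega
    positivity
  have h1 : idx * O * (q - 1) ∣ 2 * S * (q - 1) := Nat.mul_dvd_mul_right hdiv _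
  have h2 : 2 * S * (q - 1) = O * (q - 1) *
      (q ^ (m ^ 2) * (q ^ m + 1) * ∏ i ∈ Finset.range (m - 1), (q ^ (2 * i + 3) - 1)) := by
    rw [mul_assoc 2 S, ← hS, prod_gl', tri_even m hm, prod_split_even q m hm, hO, pow_add,
      pow_two_mul_sub_one q m (by omega)]
    ring
  rw [h2] at h1
  apply Nat.dvd_of_mul_dvd_mul_left hpos
  have h3 : O * (q - 1) * idx = idx * O * (q - 1) := by ring
  rw [h3]
  exact h1

/-- even dimension, minus type -/
theorem arith_minus (q m S O idx : ℕ) (hq : 2 ≤ q) (hm : 1 ≤ m)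
    (hS : ∏ i ∈ Finset.range (2 * m), (q ^ (2 * m) - q ^ i) = S * (q - 1))
    (hO : O = 2 * q ^ (m * (m - 1)) * (q ^ m + 1) *
      ∏ i ∈ Finset.range (m - 1), (q ^ (2 * (i + 1)) - 1))
    (hdiv : idx * O ∣ 2 * S) :
    idx ∣ q ^ (m ^ 2) * (q ^ m - 1) * ∏ i ∈ Finset.range (m - 1), (q ^ (2 * i + 3) - 1) := by
  have hpos : 0 < O * (q - 1) := by
    rw [hO]
    have := prod_pos_aux q hq (m - 1) (fun i => 2 * (i + 1)) (fun i => by omega)
    have h3 : 0 < q ^ (m * (m - 1)) := pow_pos (by omega) _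
    have h4 : 0 < q - 1 := by omega
    positivity
  have h1 : idx * O * (q - 1) ∣ 2 * S * (q - 1) := Nat.mul_dvd_mul_right hdiv _
  have h2 : 2 * S * (q - 1) = O * (q - 1) *
      (q ^ (m ^ 2) * (q ^ m - 1) * ∏ i ∈ Finset.range (m - 1), (q ^ (2 * i + 3) - 1)) := by
    rw [mul_assoc 2 S, ← hS, prod_gl', tri_even m hm, prod_split_even q m hm, hO, pow_add,
      pow_two_mul_sub_one q m (by omega)]
    ring
  rw [h2] at h1
  apply Nat.dvd_of_mul_dvd_mul_left hpos
  have h3 : O * (q - 1) * idx = idx * O * (q - 1) := by ring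
  rw [h3]
  exact h1

/-! ### the order of `SL_n(q)` -/

theorem card_sl' {F : Type*} [Field F] [Fintype F] (n : ℕ) (hn : 1 ≤ n) :
    ∏ i ∈ Finset.range n, (Fintype.card F ^ n - Fintype.card F ^ i) =
      Nat.card (Cfsg.Geo.specialLinear (Fin n) F) * (Fintype.card F - 1) := by
  classical
  have : NeZero n := ⟨by omega⟩
  let d : GL (Fin n) F →* Fˣ := Matrix.GeneralLinearGroup.det
  have hsurj : Function.Surjective d := by
    intro u
    refine ⟨Matrix.GeneralLinearGroup.mkOfDetNeZero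
      (Matrix.diagonal (fun i : Fin n => if i = 0 then (u : F) else 1)) ?_, ?_⟩
    · rw [Matrix.det_diagonal]
      simp [Finset.prod_ite_eq']
    · ext
      simp [d, Matrix.GeneralLinearGroup.mkOfDetNeZero, Matrix.det_diagonal, Finset.prod_ite_eq']
  have h1 := Subgroup.card_mul_index d.ker
  rw [Subgroup.index_ker, MonoidHom.range_eq_top.mpr hsurj, Subgroup.card_top, Nat.card_units,
    Nat.card_eq_fintype_card (α := F), Matrix.card_GL_field] at h1
  rw [← Fin.prod_univ_eq_prod_range (fun i => Fintype.card F ^ n - Fintype.card F ^ i) n]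
  exact h1.symm

/-- a subspace of prescribed smaller dimension -/
theorem exists_le_finrank_eq {K V : Type*} [Field K] [AddCommGroup V] [Module K V]
    [FiniteDimensional K V] (U : Submodule K V) (n : ℕ) (hn : n ≤ finrank K U) :
    ∃ X : Submodule K V, X ≤ U ∧ finrank K X = n := by
  obtain ⟨f, hf⟩ := exists_linearIndependent_of_le_finrank hn
  have hf' : LinearIndependent K (fun i => (f i : V)) :=
    hf.map' U.subtype (Submodule.ker_subtype U)
  refine ⟨Submodule.span K (Set.range fun i => (f i : V)), ?_, ?_⟩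
  · rw [Submodule.span_le]
    rintro _ ⟨i, rfl⟩
    exact (f i).2
  · rw [finrank_span_eq_card hf', Fintype.card_fin]

/-! ### the bundled form -/

section bundled

variable {F : Type*} [Field F] {n : ℕ} (Q : (Fin n → F) → F)
  (hQ : Cfsg.Geo.IsNondegenerateQuadraticForm Q)

/-- the prelude quadratic form as a bundled quadratic form -/
def qb (hQ : Cfsg.Geo.IsNondegenerateQuadraticForm Q) : QuadraticForm F (Fin n → F) :=
  QuadraticMap.ofPolar Q (fun a x => by rw [hQ.smul, sq, smul_eq_mul])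
    hQ.polar_bilinear.add_left
    (fun a x y => by rw [hQ.polar_bilinear.smul_left, smul_eq_mul])

theorem coe_qb : ⇑(qb Q hQ) = Q := rfl

theorem qb_nondeg : (QuadraticMap.polarBilin (qb Q hQ)).Nondegenerate := by
  constructor
  · intro x hx
    by_contra hx0
    obtain ⟨y, hy⟩ := (hQ.nondegenerate x hx0).2
    apply hy
    have := hx y
    rwa [QuadraticMap.polarBilin_apply_apply] at this
  · intro y hy
    by_contra hy0
    obtain ⟨x, hx⟩ := (hQ.nondegenerate y hy0).1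
    apply hx
    have := hy x
    rwa [QuadraticMap.polarBilin_apply_apply] at this

theorem toMatrix_polarBilin :
    LinearMap.BilinForm.toMatrix (Pi.basisFun F (Fin n)) (QuadraticMap.polarBilin (qb Q hQ)) =
      gram Q := by
  ext i j
  rw [LinearMap.BilinForm.toMatrix_apply, Pi.basisFun_apply, Pi.basisFun_apply,
    QuadraticMap.polarBilin_apply_apply]
  rfl

/-- the type of an even-dimensional form read off the discriminant -/
theorem isHyp_iff [Finite F] (h2 : (2 : F) ≠ 0) (m : ℕ) (hm : 1 ≤ m) (hn : n = 2 * m) :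
    IsHyp (qb Q hQ) ↔ IsSquare ((-1 : F) ^ m * (gram Q).det) := by
  have hV : finrank F (Fin n → F) = 2 * m := by
    rw [Module.finrank_fintype_fun_eq_card, Fintype.card_fin, hn]
  have hS : LinearMap.BilinForm.IsSymm (QuadraticMap.polarBilin (qb Q hQ)) := by
    rw [LinearMap.BilinForm.isSymm_def]
    intro x y
    rw [QuadraticMap.polarBilin_apply_apply, QuadraticMap.polarBilin_apply_apply]
    exact QuadraticMap.polar_comm _ _ _
  constructor
  · rintro ⟨U, hU, hdim⟩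
    rw [hV] at hdim
    obtain ⟨X, hXU, hX⟩ := exists_le_finrank_eq U m (by omega)
    have h := Cfsg.Agent.Lib.Helper14_WittType.isSquare_of_isotropic
      (QuadraticMap.polarBilin (qb Q hQ)) hS hV X hX (fun x hx y hy => by
        rw [QuadraticMap.polarBilin_apply_apply, QuadraticMap.polar, hU _ (hXU hx),
          hU _ (hXU hy), hU _ (hXU (X.add_mem hx hy))]
        simp) (Pi.basisFun F (Fin n))
    rwa [toMatrix_polarBilin Q hQ] at h
  · intro hsq
    rw [← toMatrix_polarBilin Q hQ] at hsq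
    obtain ⟨X, hX, hiso⟩ := Cfsg.Agent.Lib.Helper14_WittType.exists_isotropic_of_isSquare h2
      (QuadraticMap.polarBilin (qb Q hQ)) hS (qb_nondeg Q hQ) hm hV (Pi.basisFun F (Fin n)) hsq
    refine ⟨X, ?_, ?_⟩
    · intro u hu
      have h3 := hiso u hu u hu
      rw [QuadraticMap.polarBilin_apply_apply, QuadraticMap.polar_self, nsmul_eq_mul] at h3
      rcases mul_eq_zero.1 h3 with h | h
      · exact absurd (by exact_mod_cast h) h2
      · exact h
    · rw [hV, hX]

end bundled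

/-! ### the group theory -/

section main

variable {F : Type*} [Field F] {n : ℕ}

theorem isom_le_sim (Q : (Fin n → F) → F) :
    Cfsg.isometryGroup F Q ≤ Cfsg.Geo.quadSimilarityGroup Q := by
  intro g hg
  refine ⟨1, fun v => ?_⟩
  rw [Units.val_one, one_mul]
  exact (Cfsg.Agent.Lib.Helper61_IsometryTransfer.mem_isometryGroup_iff Q g).1 hg v

theorem det_mul_det_of_mem (Q : (Fin n → F) → F) (hQ : Cfsg.Geo.IsNondegenerateQuadraticForm Q)
    (g : GL (Fin n) F) (hg : g ∈ Cfsg.isometryGroup F Q) :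
    (g : Matrix (Fin n) (Fin n) F).det * (g : Matrix (Fin n) (Fin n) F).det = 1 := by
  have hg' := (Cfsg.Agent.Lib.Helper61_IsometryTransfer.mem_isometryGroup_iff Q g).1 hg
  have h1 : ∀ u v, QuadraticMap.polar Q ((g : Matrix (Fin n) (Fin n) F) *ᵥ u)
      ((g : Matrix (Fin n) (Fin n) F) *ᵥ v) = QuadraticMap.polar Q u v := by
    intro u v
    unfold QuadraticMap.polar
    rw [← Matrix.mulVec_add, hg', hg', hg']
  have h2 : (g : Matrix (Fin n) (Fin n) F)ᵀ * gram Q * (g : Matrix (Fin n) (Fin n) F) = gram Q := by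
    apply eq_of_dot
    intro u v
    have h := h1 u v
    rw [polar_eq_dot Q hQ, polar_eq_dot Q hQ, dot_conj] at h
    exact h
  have h3 := congrArg Matrix.det h2
  rw [Matrix.det_mul, Matrix.det_mul, Matrix.det_transpose] at h3
  have hd := gram_det_ne_zero Q hQ
  have h4 : ((g : Matrix (Fin n) (Fin n) F).det * (g : Matrix (Fin n) (Fin n) F).det - 1) *
      (gram Q).det = 0 := by linear_combination h3
  rcases mul_eq_zero.1 h4 with h | h
  · exact sub_eq_zero.1 h
  · exact absurd h hd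

theorem relIndex_dvd_two (Q : (Fin n → F) → F) (hQ : Cfsg.Geo.IsNondegenerateQuadraticForm Q) :
    (Cfsg.Geo.specialLinear (Fin n) F).relIndex (Cfsg.isometryGroup F Q) ∣ 2 := by
  let φ : ↥(Cfsg.isometryGroup F Q) →* Fˣ :=
    (Matrix.GeneralLinearGroup.det : GL (Fin n) F →* Fˣ).comp (Cfsg.isometryGroup F Q).subtype
  have hφ : ∀ x : ↥(Cfsg.isometryGroup F Q),
      ((φ x : Fˣ) : F) = ((x : GL (Fin n) F) : Matrix (Fin n) (Fin n) F).det := fun x => rfl
  have hker : (Cfsg.Geo.specialLinear (Fin n) F).subgroupOf (Cfsg.isometryGroup F Q) = φ.ker := by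
    ext x
    rw [Subgroup.mem_subgroupOf, MonoidHom.mem_ker]
    show (x : GL (Fin n) F) ∈ (Matrix.GeneralLinearGroup.det : GL (Fin n) F →* Fˣ).ker ↔ _
    rw [MonoidHom.mem_ker]
    rfl
  rw [Subgroup.relIndex, hker, Subgroup.index_ker]
  have hle : φ.range ≤ Subgroup.zpowers (-1 : Fˣ) := by
    rintro _ ⟨x, rfl⟩
    have h := det_mul_det_of_mem Q hQ x x.2
    rw [← hφ] at h
    rcases mul_self_eq_one_iff.1 h with h' | h'
    · have : φ x = 1 := Units.ext h'
      rw [this]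
      exact one_mem _
    · have : φ x = -1 := Units.ext (by rw [h']; simp)
      rw [this]
      exact Subgroup.mem_zpowers _
  have h1 := Subgroup.card_dvd_of_le hle
  rw [Nat.card_zpowers] at h1
  exact h1.trans (orderOf_dvd_of_pow_eq_one (by simp))

theorem prime_dvd_prod_range {r : ℕ} (hr : r.Prime) (m : ℕ) (f : ℕ → ℕ)
    (h : r ∣ ∏ i ∈ Finset.range m, f i) : ∃ i, i < m ∧ r ∣ f i := by
  obtain ⟨i, hi, hd⟩ := (Prime.dvd_finsetProd_iff hr.prime _).1 h
  exact ⟨i, Finset.mem_range.1 hi, hd⟩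

end main

/-- IDX -/
theorem IDX {F : Type*} [Field F] [Fintype F] (p : ℕ) [Fact p.Prime] [CharP F p] (h2 : (2 : F) ≠ 0)
    {n : ℕ} (hn : 3 ≤ n) (Q : (Fin n → F) → F) (hQ : Cfsg.Geo.IsNondegenerateQuadraticForm Q)
    {r : ℕ} (hr : r.Prime) (hrp : r ≠ p)
    (hΩ : r ∣ (Cfsg.Geo.quadSimilarityGroup Q).relIndex (Cfsg.Geo.specialLinear (Fin n) F)) :
    (∃ k : ℕ, Odd k ∧ 3 ≤ k ∧ k ≤ n ∧ r ∣ Fintype.card F ^ k - 1) ∨
    (∃ m : ℕ, n = 2 * m ∧ IsSquare ((-1 : F) ^ m * (gram Q).det) ∧ r ∣ Fintype.card F ^ m + 1) ∨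
    (∃ m : ℕ, n = 2 * m ∧ ¬ IsSquare ((-1 : F) ^ m * (gram Q).det) ∧ r ∣ Fintype.card F ^ m - 1) := by
  have hq2 : 2 ≤ Fintype.card F := Fintype.one_lt_card
  have hrq : ¬ r ∣ Fintype.card F := by
    obtain ⟨a, hp, ha⟩ := FiniteField.card F p
    intro hdvd
    rw [ha] at hdvd
    have := hr.dvd_of_dvd_pow hdvd
    exact hrp ((Nat.prime_dvd_prime_iff_eq hr hp).1 this)
  have hrqpow : ∀ e : ℕ, ¬ r ∣ Fintype.card F ^ e := fun e h => hrq (hr.dvd_of_dvd_pow h)
  have h1 : r ∣ (Cfsg.isometryGroup F Q).relIndex (Cfsg.Geo.specialLinear (Fin n) F) :=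
    hΩ.trans (Subgroup.relIndex_dvd_of_le_left _ (isom_le_sim Q))
  have h3 : Nat.card ↥(Cfsg.isometryGroup F Q ⊓ Cfsg.Geo.specialLinear (Fin n) F) *
      (Cfsg.isometryGroup F Q).relIndex (Cfsg.Geo.specialLinear (Fin n) F) =
      Nat.card ↥(Cfsg.Geo.specialLinear (Fin n) F) := by
    have := Subgroup.relIndex_mul_relIndex ⊥
      (Cfsg.isometryGroup F Q ⊓ Cfsg.Geo.specialLinear (Fin n) F)
      (Cfsg.Geo.specialLinear (Fin n) F) bot_le inf_le_right
    rwa [Subgroup.relIndex_bot_left, Subgroup.relIndex_bot_left, Subgroup.inf_relIndex_right]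
      at this
  have h4 : Nat.card ↥(Cfsg.isometryGroup F Q ⊓ Cfsg.Geo.specialLinear (Fin n) F) *
      (Cfsg.Geo.specialLinear (Fin n) F).relIndex (Cfsg.isometryGroup F Q) =
      Nat.card ↥(Cfsg.isometryGroup F Q) := by
    have := Subgroup.relIndex_mul_relIndex ⊥
      (Cfsg.isometryGroup F Q ⊓ Cfsg.Geo.specialLinear (Fin n) F)
      (Cfsg.isometryGroup F Q) bot_le inf_le_left
    rwa [Subgroup.relIndex_bot_left, Subgroup.relIndex_bot_left, Subgroup.inf_relIndex_left]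
      at this
  have h5 : (Cfsg.isometryGroup F Q).relIndex (Cfsg.Geo.specialLinear (Fin n) F) *
      Nat.card ↥(Cfsg.isometryGroup F Q) ∣ 2 * Nat.card ↥(Cfsg.Geo.specialLinear (Fin n) F) := by
    rw [← h4, ← h3]
    have hj := relIndex_dvd_two Q hQ
    have h6 := mul_dvd_mul_left
      (Nat.card ↥(Cfsg.isometryGroup F Q ⊓ Cfsg.Geo.specialLinear (Fin n) F) *
        (Cfsg.isometryGroup F Q).relIndex (Cfsg.Geo.specialLinear (Fin n) F)) hj
    have e1 : ∀ a b c : ℕ, b * (a * c) = a * b * c := fun a b c => by ring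
    have e2 : ∀ a b : ℕ, 2 * (a * b) = a * b * 2 := fun a b => by ring
    rw [e1, e2]
    exact h6
  have hcardS := card_sl' (F := F) n (by omega)
  have hκ : Fintype.card (Fin n) = n := Fintype.card_fin n
  rcases Nat.even_or_odd' n with ⟨m, hm | hm⟩
  · -- even dimension
    have hm1 : 1 ≤ m := by omega
    replace hcardS : ∏ i ∈ Finset.range (2 * m), (Fintype.card F ^ (2 * m) - Fintype.card F ^ i) =
        Nat.card ↥(Cfsg.Geo.specialLinear (Fin n) F) * (Fintype.card F - 1) := by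
      rw [← hm]
      exact hcardS
    by_cases hh : IsHyp (qb Q hQ)
    · have hcardO := (Cfsg.Agent.Lib.Helper82_OrthExt_C3b.C3b_even h2 rfl m hm1 (hκ.trans hm)
        (qb Q hQ) (qb_nondeg Q hQ)).1 hh
      rw [coe_qb] at hcardO
      have h7 := arith_plus _ m _ _ _ hq2 hm1 hcardS hcardO h5
      have h8 := h1.trans h7
      rcases (Nat.Prime.dvd_mul hr).1 h8 with h9 | h9
      · rcases (Nat.Prime.dvd_mul hr).1 h9 with h10 | h10
        · exact absurd h10 (hrqpow _)
        · right; left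
          exact ⟨m, hm, (isHyp_iff Q hQ h2 m hm1 hm).1 hh, h10⟩
      · obtain ⟨i, hi, hd⟩ := prime_dvd_prod_range hr _ _ h9
        left
        exact ⟨2 * i + 3, ⟨i + 1, by ring⟩, by omega, by omega, hd⟩
    · have hcardO := (Cfsg.Agent.Lib.Helper82_OrthExt_C3b.C3b_even h2 rfl m hm1 (hκ.trans hm)
        (qb Q hQ) (qb_nondeg Q hQ)).2 hh
      rw [coe_qb] at hcardO
      have h7 := arith_minus _ m _ _ _ hq2 hm1 hcardS hcardO h5
      have h8 := h1.trans h7
      rcases (Nat.Prime.dvd_mul hr).1 h8 with h9 | h9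
      · rcases (Nat.Prime.dvd_mul hr).1 h9 with h10 | h10
        · exact absurd h10 (hrqpow _)
        · right; right
          exact ⟨m, hm, fun hsq => hh ((isHyp_iff Q hQ h2 m hm1 hm).2 hsq), h10⟩
      · obtain ⟨i, hi, hd⟩ := prime_dvd_prod_range hr _ _ h9
        left
        exact ⟨2 * i + 3, ⟨i + 1, by ring⟩, by omega, by omega, hd⟩
  · -- odd dimension
    replace hcardS : ∏ i ∈ Finset.range (2 * m + 1),
        (Fintype.card F ^ (2 * m + 1) - Fintype.card F ^ i) =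
        Nat.card ↥(Cfsg.Geo.specialLinear (Fin n) F) * (Fintype.card F - 1) := by
      rw [← hm]
      exact hcardS
    have hcardO := Cfsg.Agent.Lib.Helper82_OrthExt_C3b.C3b_odd h2 rfl m (hκ.trans hm)
      (qb Q hQ) (qb_nondeg Q hQ)
    rw [coe_qb] at hcardO
    have h7 := arith_odd _ m _ _ _ hq2 hcardS hcardO h5
    have h8 := h1.trans h7
    rcases (Nat.Prime.dvd_mul hr).1 h8 with h9 | h9
    · exact absurd h9 (hrqpow _)
    · obtain ⟨i, hi, hd⟩ := prime_dvd_prod_range hr _ _ h9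
      left
      exact ⟨2 * i + 3, ⟨i + 1, by ring⟩, by omega, by omega, hd⟩

end Cfsg.Agent.Lib.Helper82_OrthC8_IDX
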