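import Cfsg.Agent.Lib.Helper50_PUDefs
import Cfsg.Agent.S0075
import Cfsg.Agent.S0260
import Cfsg.Agent.Lib.Helper47_YL
import Cfsg.Agent.Lib.Helper1_LocalZJ

set_option autoImplicit false
set_option linter.unusedSectionVars false
set_option linter.unusedVariables false

/-!
# pu market (architect helper50, S2768/S2769/S2770), package CARDS
-/

namespace Cfsg.Agent.Lib.Helper82_PU_CARDS

open scoped commutatorElement
open Cfsg.Agent.Lib.Helper50_PUDefs Cfsg.Agent.Lib.Helper51_Offender Cfsg.Agent.Lib.Helper72_AbelianJ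

/-- the arithmetic core -/
theorem cards_arith {q v s v0 c : ℕ} (hq : 0 < q) (hs : 0 < s) (hc : 0 < c)
    (h1 : q * v ≤ s * v0) (h2 : v0 * v0 ≤ v * c) (h3 : s * c ≤ q * v0) :
    q * v = s * v0 ∧ c * v = v0 * v0 := by
  constructor
  · apply le_antisymm h1
    apply Nat.le_of_mul_le_mul_right _ (Nat.mul_pos hs hc)
    calc s * v0 * (s * c) ≤ s * v0 * (q * v0) := Nat.mul_le_mul_left _ h3
      _ = s * q * (v0 * v0) := by ring
      _ ≤ s * q * (v * c) := Nat.mul_le_mul_left _ h2
      _ = q * v * (s * c) := by ring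
  · apply le_antisymm _ (by rw [mul_comm c v]; exact h2)
    apply Nat.le_of_mul_le_mul_right _ (Nat.mul_pos hq hs)
    calc c * v * (q * s) = q * v * (s * c) := by ring
      _ ≤ s * v0 * (q * v0) := Nat.mul_le_mul h1 h3
      _ = v0 * v0 * (q * s) := by ring

section Main

variable {G : Type*} [Group G] [Finite G] {p : ℕ} [Fact p.Prime] {S : Sylow p G}

local notation "Q" => Cfsg.pCore p G
local notation "V" => VS (S : Subgroup G)
local notation "Z" => ZS (S : Subgroup G)
local notation "J" => JS (S : Subgroup G)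
local notation "Y" => YS (S : Subgroup G)
local notation "B" => BS (S : Subgroup G)
local notation "ZD" => YS (Cfsg.pCore p G)
local notation "LJ" => Subgroup.normalClosure ((JS (S : Subgroup G) : Subgroup G) : Set G)
local notation "Q₀" => Cfsg.pCore p G ⊓ Subgroup.centralizer ((YS (S : Subgroup G) : Subgroup G) : Set G)

-- PKG CARDS
theorem cards (h : MainCase p S) (hvb : VBasic p S) (hb : Best V (S : Subgroup G))
    (hlow : Nat.card (S : Subgroup G) * Nat.card ↥(V ⊓ Subgroup.center G) ≤
      Nat.card Q * Nat.card (CV V (S : Subgroup G)))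
    (T : Sylow p G) (htr : Transp p S T) (hvx : VXFacts p S T) :
    Nat.card Q * Nat.card V = Nat.card (S : Subgroup G) * Nat.card (CV V (S : Subgroup G)) ∧
      Nat.card ↥(V ⊓ Subgroup.center G) * Nat.card V =
        Nat.card (CV V (S : Subgroup G)) * Nat.card (CV V (S : Subgroup G)) := by
  -- (B)
  have hCVQ : CV V Q = V := by
    apply le_antisymm (CV_le _ _)
    intro x hx
    exact ⟨hx, Subgroup.le_centralizer_iff.mp hvb.cent hx⟩
  have h1 : Nat.card Q * Nat.card V ≤
      Nat.card (S : Subgroup G) * Nat.card (CV V (S : Subgroup G)) := by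
    have := hb Q hvb.core_le
    unfold m at this
    rw [hCVQ] at this
    exact this
  -- (P)
  have h2 : Nat.card (CV V (S : Subgroup G)) * Nat.card (CV V (S : Subgroup G)) ≤
      Nat.card V * Nat.card ↥(V ⊓ Subgroup.center G) := by
    have hP := card_mul_card_le (CV V (S : Subgroup G)) (CV V (T : Subgroup G))
    rw [htr.cardCV, hvx.inf] at hP
    refine hP.trans (Nat.mul_le_mul_right _ ?_)
    exact Subgroup.card_le_of_le (sup_le (CV_le _ _) (CV_le _ _))
  exact cards_arith Nat.card_pos Nat.card_pos Nat.card_pos h1 h2 hlow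

end Main

end Cfsg.Agent.Lib.Helper82_PU_CARDS
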