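import Cfsg.Agent.Lib.Helper37_ReeCentDefs

set_option autoImplicit false

/-!
# REE-CENT market (architect helper37, S1152), package AM0:
the involution `aa = hfix (-1)` of `H¹` is not `1`, it is the only involution of `H¹`, and it commutes with `H¹` and
with the monomial element `m0`.
-/

namespace Cfsg.Agent.Lib.Helper82_ReeCent_AM0

open Cfsg Cfsg.Lie Cfsg.Agent.Lib.Helper36_ReeFix Cfsg.Agent.Lib.Helper36_ReeBruhat
  Cfsg.Agent.Lib.Helper36_ReeH Cfsg.Agent.Lib.Helper36_ReePerf Cfsg.Agent.Lib.Helper36_ReeOrder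
  Cfsg.Agent.Lib.Helper36_ReeBN Cfsg.Agent.Lib.Helper36_ChevBorel Cfsg.Agent.Lib.Helper36_ChevTables
  Cfsg.Agent.Lib.Helper36_ReeTw Cfsg.Agent.Lib.Helper36_ReeSylow Cfsg.Agent.Lib.Helper36_ReeOdd
  Cfsg.Agent.Lib.Helper36_ChevCore Cfsg.Agent.Lib.Helper36_ChevTorus Cfsg.Agent.Lib.Helper36_ReeAlg
  Cfsg.Agent.Lib.Helper36_ReeStab Cfsg.Agent.Lib.Helper36_ReeSetup
  Cfsg.Agent.Lib.Helper37_SL2Bruhat Cfsg.Agent.Lib.Helper37_ReeCentDefs

section

variable {K : Type*} [Field K] [Fintype K] [CharP K 3] {m : ℕ} (hK : Fintype.card K = 3 ^ (2 * m + 1))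

omit [Fintype K] in
/-- `-1 ≠ 1` among the units of a field of characteristic 3 -/
theorem neg_one_ne_one_units : (-1 : Kˣ) ≠ 1 := by
  intro h
  have h2 : (-1 : K) = 1 := by
    have := congrArg Units.val h
    simpa using this
  exact Ring.neg_one_ne_one_of_char_ne_two (by rw [ringChar.eq K 3]; decide) h2

omit [Fintype K] [CharP K 3] in
/-- the square roots of `1` among the units of a field -/
theorem units_mul_self_eq_one (μ : Kˣ) (h : μ * μ = 1) : μ = 1 ∨ μ = -1 := by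
  have h2 : (μ : K) * μ = 1 := by
    have := congrArg Units.val h
    simpa using this
  rcases mul_self_eq_one_iff.mp h2 with h3 | h3
  · left
    ext
    simpa using h3
  · right
    ext
    simpa using h3

omit [Fintype K] in
theorem aa_ne_one : aa K m ≠ 1 := by
  intro h
  unfold aa at h
  rw [← map_one (hfix K m)] at h
  exact neg_one_ne_one_units (hfix_injective h)

include hK in
theorem eq_aa (g : GL chevG2.Idx K) (hg : g ∈ chevG2.diagonalSubgroup K ⊓ twistedG2 K (3 ^ m)) (h1 : g ≠ 1)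
    (h2 : g * g = 1) : g = aa K m := by
  rw [diag_inf_eq hK] at hg
  obtain ⟨μ, rfl⟩ := hg
  rw [← map_mul, ← map_one (hfix K m)] at h2
  have h3 : μ * μ = 1 := hfix_injective h2
  rcases units_mul_self_eq_one μ h3 with h4 | h4
  · exact absurd (by rw [h4, map_one]) h1
  · rw [h4]
    rfl

include hK in
theorem aa_comm_H (h : GL chevG2.Idx K) (hh : h ∈ chevG2.diagonalSubgroup K ⊓ twistedG2 K (3 ^ m)) :
    aa K m * h * (aa K m)⁻¹ = h := by
  rw [diag_inf_eq hK] at hh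
  obtain ⟨μ, rfl⟩ := hh
  unfold aa
  rw [← map_mul, ← map_inv, ← map_mul, mul_comm (-1 : Kˣ) μ, mul_inv_cancel_right]

theorem aa_comm_m0 : aa K m * m0 hK * (aa K m)⁻¹ = m0 hK := by
  have hg : (m0 hK)⁻¹ * aa K m * m0 hK ∈ chevG2.diagonalSubgroup K ⊓ twistedG2 K (3 ^ m) :=
    ⟨m0_inv_conj_H hK _ aa_mem_diag,
      Subgroup.mul_mem _ (Subgroup.mul_mem _ (Subgroup.inv_mem _ (m0_mem hK)) (aa_mem hK)) (m0_mem hK)⟩
  have h1 : (m0 hK)⁻¹ * aa K m * m0 hK ≠ 1 := by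
    intro h
    apply aa_ne_one (K := K) (m := m)
    have e : aa K m = m0 hK * ((m0 hK)⁻¹ * aa K m * m0 hK) * (m0 hK)⁻¹ := by group
    rw [e, h]
    group
  have h2 : (m0 hK)⁻¹ * aa K m * m0 hK * ((m0 hK)⁻¹ * aa K m * m0 hK) = 1 := by
    have e : (m0 hK)⁻¹ * aa K m * m0 hK * ((m0 hK)⁻¹ * aa K m * m0 hK) =
        (m0 hK)⁻¹ * (aa K m * aa K m) * m0 hK := by group
    rw [e, aa_sq]
    group
  have h3 := eq_aa hK _ hg h1 h2
  calc aa K m * m0 hK * (aa K m)⁻¹
      = m0 hK * ((m0 hK)⁻¹ * aa K m * m0 hK) * (aa K m)⁻¹ := by group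
    _ = m0 hK := by
        rw [h3]
        group

end

end Cfsg.Agent.Lib.Helper82_ReeCent_AM0
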