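import Cfsg.Agent.Lib.Helper37_ReeCentDefs

set_option autoImplicit false

/-!
# REE-CENT market (architect helper37, S1152), package CHI:
the values of the character of the involution `aa = hfix (-1)` of `H¹` on the roots `6..11, 3, 1` of `chevG2`.
-/

namespace Cfsg.Agent.Lib.Helper82_ReeCent_CHI

open Cfsg Cfsg.Lie Cfsg.Agent.Lib.Helper36_ReeFix Cfsg.Agent.Lib.Helper36_ReeBruhat
  Cfsg.Agent.Lib.Helper36_ReeH Cfsg.Agent.Lib.Helper36_ReePerf Cfsg.Agent.Lib.Helper36_ReeOrder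
  Cfsg.Agent.Lib.Helper36_ReeBN Cfsg.Agent.Lib.Helper36_ChevBorel Cfsg.Agent.Lib.Helper36_ChevTables
  Cfsg.Agent.Lib.Helper36_ReeTw Cfsg.Agent.Lib.Helper36_ReeSylow Cfsg.Agent.Lib.Helper36_ReeOdd
  Cfsg.Agent.Lib.Helper36_ChevCore Cfsg.Agent.Lib.Helper36_ChevTorus Cfsg.Agent.Lib.Helper36_ReeAlg
  Cfsg.Agent.Lib.Helper36_ReeStab Cfsg.Agent.Lib.Helper36_ReeSetup
  Cfsg.Agent.Lib.Helper37_SL2Bruhat Cfsg.Agent.Lib.Helper37_ReeCentDefs

/-- the Cartan integers of the eight roots, at both simple coroots -/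
theorem cartan_vals :
    chevG2.cartan 0 6 = -3 ∧ chevG2.cartan 1 6 = 2 ∧ chevG2.cartan 0 7 = 2 ∧ chevG2.cartan 1 7 = -1 ∧
    chevG2.cartan 0 8 = -1 ∧ chevG2.cartan 1 8 = 1 ∧ chevG2.cartan 0 9 = 1 ∧ chevG2.cartan 1 9 = 0 ∧
    chevG2.cartan 0 10 = 3 ∧ chevG2.cartan 1 10 = -1 ∧ chevG2.cartan 0 11 = 0 ∧ chevG2.cartan 1 11 = 1 ∧
    chevG2.cartan 0 3 = 1 ∧ chevG2.cartan 1 3 = -1 ∧ chevG2.cartan 0 1 = -3 ∧ chevG2.cartan 1 1 = 1 := by
  decide +kernel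

section

variable {K : Type*} [Field K] [Fintype K] [CharP K 3] {m : ℕ} (hK : Fintype.card K = 3 ^ (2 * m + 1))

omit [Fintype K] in
theorem uu_neg_one_zero : uu K m (-1) 0 = -1 := by
  unfold uu
  rw [if_pos rfl]
  ext
  simp

omit [Fintype K] in
theorem uu_neg_one_one : uu K m (-1) 1 = -1 := by
  unfold uu
  rw [if_neg (by decide)]

omit [Fintype K] in
/-- the character value is a power of `-1` -/
theorem chi_neg_one_eq (s : ℕ) :
    chi chevG2 K (uu K m (-1)) s = (-1 : Kˣ) ^ (chevG2.cartan 0 s + chevG2.cartan 1 s) := by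
  rw [chi_two, uu_neg_one_zero, uu_neg_one_one, zpow_add]

omit [Fintype K] in
/-- PKG CHI.  The values of the character of the involution `aa = hfix (-1)` on the roots. -/
theorem chi_neg_one :
    chi chevG2 K (uu K m (-1)) 6 = -1 ∧ chi chevG2 K (uu K m (-1)) 7 = -1 ∧ chi chevG2 K (uu K m (-1)) 8 = 1 ∧
    chi chevG2 K (uu K m (-1)) 9 = -1 ∧ chi chevG2 K (uu K m (-1)) 10 = 1 ∧ chi chevG2 K (uu K m (-1)) 11 = -1 ∧
    chi chevG2 K (uu K m (-1)) 3 = 1 ∧ chi chevG2 K (uu K m (-1)) 1 = 1 := by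
  obtain ⟨a6, b6, a7, b7, a8, b8, a9, b9, a10, b10, a11, b11, a3, b3, a1, b1⟩ := cartan_vals
  refine ⟨?_, ?_, ?_, ?_, ?_, ?_, ?_, ?_⟩
  · rw [chi_neg_one_eq, a6, b6]
    exact Odd.neg_one_zpow (by decide)
  · rw [chi_neg_one_eq, a7, b7]
    exact Odd.neg_one_zpow (by decide)
  · rw [chi_neg_one_eq, a8, b8]
    exact Even.neg_one_zpow (by decide)
  · rw [chi_neg_one_eq, a9, b9]
    exact Odd.neg_one_zpow (by decide)
  · rw [chi_neg_one_eq, a10, b10]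
    exact Even.neg_one_zpow (by decide)
  · rw [chi_neg_one_eq, a11, b11]
    exact Odd.neg_one_zpow (by decide)
  · rw [chi_neg_one_eq, a3, b3]
    exact Even.neg_one_zpow (by decide)
  · rw [chi_neg_one_eq, a1, b1]
    exact Even.neg_one_zpow (by decide)

end

end Cfsg.Agent.Lib.Helper82_ReeCent_CHI
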