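import Mathlib
import Cfsg.Prelude.Def_Blocks
import Cfsg.Prelude.Def_BlockLocal
import Cfsg.Prelude.Def_BrauerPairs
import Cfsg.Agent.Lib.Helper78_LocalRing
import Cfsg.Agent.Lib.Helper78_Transport
import Cfsg.Agent.Lib.Helper78_TransportBlocks
import Cfsg.Agent.Lib.Helper78_InducedTrans
import Cfsg.Agent.Lib.Helper78_BrauerCorr
import Cfsg.Agent.Lib.Helper78_FirstMain
import Cfsg.Agent.Lib.Helper78_MaxPair
import Cfsg.Agent.Lib.Helper97_InducedPair
import Cfsg.Agent.Lib.Helper97_InducedPair2

/-!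
# Root of a block of `D C_G(D)` and its stabilizer (helper82)

* `inducedCentralCharIn_conj`: conjugation invariance of the central character induced inside `H`.
* `mem_of_stabilizesBlock`: if `e` (block of `K`) induces `b` (block of `H`) inside `H`, then every
  element normalizing `H` and stabilizing `e` maps `b` to itself.
* `exists_root_pair`: for `H = D C_G(D)`, `b` a block of `H` inducing `B` with defect group `D`,
  there is a maximal `B`-Brauer pair `(D, e)` with `e` inducing `b` inside `H`.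
-/

set_option autoImplicit false

namespace Cfsg.Agent.Lib.Helper82_RootStab

open Cfsg Cfsg.Agent.Lib.Helper78_LocalRing Cfsg.Agent.Lib.Helper78_Transport
  Cfsg.Agent.Lib.Helper78_TransportBlocks Cfsg.Agent.Lib.Helper78_InducedTrans
  Cfsg.Agent.Lib.Helper97_InducedPair Cfsg.Agent.Lib.Helper97_InducedPair2

universe u

variable {G : Type u} [Group G] {M : Ideal AlgInt} {p : ℕ}

theorem inducedCentralCharIn_conj (H K : Subgroup G) (t : G)
    (htH : t ∈ Subgroup.normalizer (H : Set G)) (htK : t ∈ Subgroup.normalizer (K : Set G))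
    (ξ ξ' : K → ℂ) (hc : IsConjCharOf K t ξ ξ') (h : G) :
    inducedCentralCharIn H K ξ' (t * h * t⁻¹) = inducedCentralCharIn H K ξ h := by
  unfold inducedCentralCharIn
  symm
  refine finsum_mem_eq_of_bijOn (conjEquiv K t htK).symm ⟨?_, ?_, ?_⟩ ?_
  · rintro k ⟨x, hx⟩
    refine ⟨(conjEquiv H t htH).symm x, ?_⟩
    show (t * (x : G) * t⁻¹) * (t * (k : G) * t⁻¹) * (t * (x : G) * t⁻¹)⁻¹ = t * h * t⁻¹
    rw [← hx]
    group
  · intro a _ b _ hab
    exact (conjEquiv K t htK).symm.injective hab
  · rintro k ⟨x, hx⟩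
    refine ⟨conjEquiv K t htK k, ?_, (conjEquiv K t htK).symm_apply_apply k⟩
    refine ⟨conjEquiv H t htH x, ?_⟩
    show (t⁻¹ * (x : G) * t) * (t⁻¹ * (k : G) * t) * (t⁻¹ * (x : G) * t)⁻¹ = h
    have : h = t⁻¹ * (t * h * t⁻¹) * t := by group
    rw [this, ← hx]
    group
  · intro k _
    have h1 : ξ' ((conjEquiv K t htK).symm k) = ξ k := hc k _ rfl
    have h2 : ξ' 1 = ξ 1 := hc 1 1 (by simp)
    rw [h1, h2]

theorem centralChar_conj (H : Subgroup G) (t : G)
    (htH : t ∈ Subgroup.normalizer (H : Set G)) (θ θ' : H → ℂ)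
    (hc : ∀ h h' : H, (h' : G) = t * h * t⁻¹ → θ' h' = θ h) (h : H) :
    centralChar θ' ((conjEquiv H t htH).symm h) = centralChar θ h := by
  have h1 : θ = θ' ∘ (conjEquiv H t htH).symm := by
    funext k
    exact (hc k _ rfl).symm
  rw [h1, centralChar_comp_mulEquiv]

theorem mem_of_stabilizesBlock (hM : M.IsPrime) {H K : Subgroup G}
    {e : Set (IrrCharacter K)} {b : Set (IrrCharacter H)}
    (hind : IsInducedBlockIn M H K e b) (t : G)
    (htH : t ∈ Subgroup.normalizer (H : Set G)) (hst : StabilizesBlock K e t)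
    {θ : IrrCharacter H} (hθ : θ ∈ b) (θ' : IrrCharacter H)
    (hc : ∀ h h' : H, (h' : G) = t * h * t⁻¹ → (θ' : H → ℂ) h' = (θ : H → ℂ) h) :
    θ' ∈ b := by
  obtain ⟨he, hb, hcong⟩ := hind
  obtain ⟨ξ, hξ⟩ := isPBlock_nonempty hM he
  obtain ⟨ξ', hξ', hconj⟩ := hst.2 ξ hξ
  refine isPBlock_mem_of_sameBlock hM hb hθ ?_
  intro h'
  -- h' = φ.symm h
  obtain ⟨h, rfl⟩ : ∃ h : H, (conjEquiv H t htH).symm h = h' :=
    ⟨conjEquiv H t htH h', (conjEquiv H t htH).symm_apply_apply h'⟩
  rw [centralChar_conj H t htH (θ : H → ℂ) (θ' : H → ℂ) hc h]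
  have h1 := hcong ξ' hξ' θ hθ ((conjEquiv H t htH).symm h)
  have h2 := hcong ξ hξ θ hθ h
  have h3 : inducedCentralCharIn H K (ξ' : K → ℂ) (((conjEquiv H t htH).symm h : H) : G) =
      inducedCentralCharIn H K (ξ : K → ℂ) (h : G) :=
    inducedCentralCharIn_conj H K t htH hst.1 _ _ hconj (h : G)
  rw [h3] at h1
  have h4 := memLocalIdeal_sub hM h2 h1
  have h5 : inducedCentralCharIn H K (ξ : K → ℂ) (h : G) - centralChar (θ : H → ℂ) h -
      (inducedCentralCharIn H K (ξ : K → ℂ) (h : G) -
        centralChar (θ : H → ℂ) ((conjEquiv H t htH).symm h)) =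
      centralChar (θ : H → ℂ) ((conjEquiv H t htH).symm h) - centralChar (θ : H → ℂ) h := by
    ring
  rw [h5] at h4
  exact h4

theorem normalizer_le_normalizer_sup_centralizer (D : Subgroup G) :
    Subgroup.normalizer (D : Set G) ≤
      Subgroup.normalizer ((D ⊔ Subgroup.centralizer (D : Set G) : Subgroup G) : Set G) := by
  intro t ht
  have h1 : t ∈ Subgroup.normalizer ((Subgroup.centralizer (D : Set G) : Subgroup G) : Set G) :=
    Cfsg.Agent.Lib.Helper78_MaxPair.normalizer_le D ht
  have hmap : ∀ K : Subgroup G, t ∈ Subgroup.normalizer (K : Set G) →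
      K.map (MulAut.conj t).toMonoidHom = K := by
    intro K hK
    ext x
    constructor
    · rintro ⟨y, hy, rfl⟩
      exact (Subgroup.mem_set_normalizer_iff.mp hK y).mp hy
    · intro hx
      refine ⟨t⁻¹ * x * t, ?_, ?_⟩
      · have := (Subgroup.mem_set_normalizer_iff.mp (inv_mem hK) x).mp hx
        simpa using this
      · simp only [MulEquiv.coe_toMonoidHom, MulAut.conj_apply]
        group
  have h2 : (D ⊔ Subgroup.centralizer (D : Set G)).map (MulAut.conj t).toMonoidHom =
      D ⊔ Subgroup.centralizer (D : Set G) := by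
    rw [Subgroup.map_sup, hmap D ht, hmap _ h1]
  rw [Subgroup.mem_set_normalizer_iff]
  intro x
  constructor
  · intro hx
    rw [← h2]
    exact ⟨x, hx, rfl⟩
  · intro hx
    rw [← h2] at hx
    obtain ⟨y, hy, hyx⟩ := hx
    simp only [MulEquiv.coe_toMonoidHom, MulAut.conj_apply] at hyx
    have : x = y := by
      have h3 : t⁻¹ * (t * y * t⁻¹) * t = t⁻¹ * (t * x * t⁻¹) * t := by rw [hyx]
      have h4 : t⁻¹ * (t * y * t⁻¹) * t = y := by group
      have h5 : t⁻¹ * (t * x * t⁻¹) * t = x := by group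
      rw [h4, h5] at h3
      exact h3.symm
    rw [this]
    exact hy

section Main

variable [Fintype G] [Fact p.Prime]

/-- For `H = D C_G(D)` and a block `b` of `H` inducing `B` with defect group `D`: a maximal
`B`-Brauer pair `(D, e)` with `e` inducing `b` inside `H`. -/
theorem exists_root_pair (hM : IsPModular p M) {B : Set (IrrCharacter G)}
    {D : Subgroup G} (hBD : IsDefectGroup p M B D)
    {b : Set (IrrCharacter (D ⊔ Subgroup.centralizer (D : Set G) : Subgroup G))}
    (hind : IsInducedBlock M (D ⊔ Subgroup.centralizer (D : Set G)) b B) :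
    ∃ e : Set (IrrCharacter (Subgroup.centralizer (D : Set G))),
      IsMaximalBrauerPair p M B D e ∧
      IsInducedBlockIn M (D ⊔ Subgroup.centralizer (D : Set G)) (Subgroup.centralizer (D : Set G))
        e b := by
  classical
  have hMp := isPrime_of_isPModular hM
  have hPH : D ≤ D ⊔ Subgroup.centralizer (D : Set G) := le_sup_left
  have hC : Subgroup.centralizer (D : Set G) ≤ D ⊔ Subgroup.centralizer (D : Set G) := le_sup_right
  have hLN : D ⊔ Subgroup.centralizer (D : Set G) ≤ Subgroup.normalizer (D : Set G) :=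
    sup_le Subgroup.le_normalizer (Cfsg.Agent.Lib.Helper78_FirstMain.centralizer_le_normalizer D)
  have hb := hind.1
  have hB := hind.2.1
  have hD₀ := Cfsg.Agent.Lib.Helper78_BrauerCorr.isDefectGroup_subgroupOf_of_induced hM hPH hLN
    hBD hind
  have : Fintype (D ⊔ Subgroup.centralizer (D : Set G) : Subgroup G) := Fintype.ofFinite _
  have : Fintype (Subgroup.centralizer (D : Set G)) := Fintype.ofFinite _
  have : Fintype (Subgroup.centralizer ((D.subgroupOf (D ⊔ Subgroup.centralizer (D : Set G)) :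
      Subgroup (D ⊔ Subgroup.centralizer (D : Set G) : Subgroup G)) :
      Set (D ⊔ Subgroup.centralizer (D : Set G) : Subgroup G))) := Fintype.ofFinite _
  obtain ⟨β, hmaxβ⟩ := exists_isMaximalBrauerPair hM hb hD₀
  have hβb := isInducedBlock_of_isBrauerPairOf hM hmaxβ.1
  have hβ : IsPBlock M β := hmaxβ.1.1.2
  have hIn : IsInducedBlockIn M (D ⊔ Subgroup.centralizer (D : Set G))
      (Subgroup.centralizer (D : Set G)) (mapBlock (centSubIso hPH hC).symm β) b := by
    rw [isInducedBlockIn_iff hPH hC, mapBlock_mapBlock_symm]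
    exact hβb
  have hβB : IsInducedBlock M (Subgroup.centralizer (D : Set G))
      (mapBlock (centSubIso hPH hC).symm β) B := by
    refine (isInducedBlock_trans hMp (centSubIso hPH hC) (centSubIso_coe hPH hC) hB ?_).mp hind
    rw [mapBlock_mapBlock_symm]
    exact hβb
  exact ⟨mapBlock (centSubIso hPH hC).symm β,
    isMaximalBrauerPair_of_isInducedBlock hM hBD hβB, hIn⟩

end Main

end Cfsg.Agent.Lib.Helper82_RootStab
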