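import Mathlib

/-!
# S1906-L2a (architect helper76): 2×2 matrices — commutant of a non-scalar matrix, commuting involutions
-/

set_option autoImplicit false

namespace Cfsg.Agent.Lib.Helper82_S1906_L2a

theorem eq_of_entries {F : Type*} [Field F] (A M : Matrix (Fin 2) (Fin 2) F) (a b : F)
    (h00 : M 0 0 = a + b * A 0 0) (h01 : M 0 1 = b * A 0 1) (h10 : M 1 0 = b * A 1 0)
    (h11 : M 1 1 = a + b * A 1 1) : M = a • (1 : Matrix (Fin 2) (Fin 2) F) + b • A := by
  ext i j
  fin_cases i <;> fin_cases j <;> simp [h00, h01, h10, h11]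

theorem commutant {F : Type*} [Field F] (A M : Matrix (Fin 2) (Fin 2) F)
    (hA : ∀ a : F, A ≠ a • (1 : Matrix (Fin 2) (Fin 2) F)) (hM : M * A = A * M) :
    ∃ a b : F, M = a • (1 : Matrix (Fin 2) (Fin 2) F) + b • A := by
  have e00 := congrFun (congrFun hM 0) 0
  have e01 := congrFun (congrFun hM 0) 1
  have e10 := congrFun (congrFun hM 1) 0
  have e11 := congrFun (congrFun hM 1) 1
  simp only [Matrix.mul_apply, Fin.sum_univ_two] at e00 e01 e10 e11
  by_cases hq : A 0 1 = 0
  · by_cases hr : A 1 0 = 0
    · by_cases hps : A 0 0 = A 1 1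
      · exfalso
        apply hA (A 0 0)
        ext i j
        fin_cases i <;> fin_cases j <;> simp [hq, hr, ← hps]
      · have hps' : A 0 0 - A 1 1 ≠ 0 := sub_ne_zero.mpr hps
        have hx : M 0 1 = 0 := by
          have : M 0 1 * (A 0 0 - A 1 1) = 0 := by
            rw [hq] at e01; linear_combination -e01
          rcases mul_eq_zero.mp this with h | h
          · exact h
          · exact absurd h hps'
        have hy : M 1 0 = 0 := by
          have : M 1 0 * (A 0 0 - A 1 1) = 0 := by
            rw [hr] at e10; linear_combination e10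
          rcases mul_eq_zero.mp this with h | h
          · exact h
          · exact absurd h hps'
        refine ⟨M 0 0 - (M 0 0 - M 1 1) / (A 0 0 - A 1 1) * A 0 0,
          (M 0 0 - M 1 1) / (A 0 0 - A 1 1), eq_of_entries A M _ _ ?_ ?_ ?_ ?_⟩
        · ring
        · rw [hx, hq]; ring
        · rw [hy, hr]; ring
        · field_simp
          ring
    · refine ⟨M 0 0 - M 1 0 / A 1 0 * A 0 0, M 1 0 / A 1 0, eq_of_entries A M _ _ ?_ ?_ ?_ ?_⟩
      · ring
      · field_simp
        linear_combination -e11
      · field_simp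
      · field_simp
        linear_combination e10
  · refine ⟨M 0 0 - M 0 1 / A 0 1 * A 0 0, M 0 1 / A 0 1, eq_of_entries A M _ _ ?_ ?_ ?_ ?_⟩
    · ring
    · field_simp
    · field_simp
      linear_combination -e00
    · field_simp
      linear_combination -e01

theorem invol_comm {F : Type*} [Field F] (h2 : (2 : F) ≠ 0) (A B : Matrix (Fin 2) (Fin 2) F)
    (hA2 : A * A = 1) (hB2 : B * B = 1) (hA : A ≠ 1 ∧ A ≠ -1) (hB : B ≠ 1 ∧ B ≠ -1)
    (hAB : A * B = B * A) : B = A ∨ B = -A := by
  -- A is not scalar
  have hAns : ∀ a : F, A ≠ a • (1 : Matrix (Fin 2) (Fin 2) F) := by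
    intro a ha
    have h0 : A * A = (a * a) • (1 : Matrix (Fin 2) (Fin 2) F) := by
      rw [ha]; simp [smul_smul]
    have h1 : (a * a) • (1 : Matrix (Fin 2) (Fin 2) F) = 1 := h0.symm.trans hA2
    have h2' : a * a = 1 := by
      have := congrFun (congrFun h1 0) 0
      simpa using this
    rcases mul_self_eq_one_iff.mp h2' with h | h
    · apply hA.1; rw [ha, h, one_smul]
    · apply hA.2; rw [ha, h]; simp
  obtain ⟨a, b, hab⟩ := commutant A B hAns hAB.symm
  -- B² = (a² + b²) + 2ab A
  have hsq0 : B * B = (a * a + b * b) • (1 : Matrix (Fin 2) (Fin 2) F) + (2 * a * b) • A := by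
    rw [hab]
    simp only [add_mul, mul_add, Matrix.smul_mul, Matrix.mul_smul, Matrix.one_mul, Matrix.mul_one,
      hA2, smul_smul]
    module
  have hsq : (a * a + b * b) • (1 : Matrix (Fin 2) (Fin 2) F) + (2 * a * b) • A = 1 :=
    hsq0.symm.trans hB2
  have h2ab : 2 * a * b = 0 := by
    by_contra hne
    apply hAns ((1 - (a * a + b * b)) / (2 * a * b))
    have : (2 * a * b) • A = (1 - (a * a + b * b)) • (1 : Matrix (Fin 2) (Fin 2) F) := by
      rw [sub_smul, one_smul]
      exact eq_sub_of_add_eq' hsq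
    calc A = (2 * a * b)⁻¹ • ((2 * a * b) • A) := by rw [smul_smul, inv_mul_cancel₀ hne, one_smul]
      _ = _ := by rw [this, smul_smul]; congr 1; field_simp
  have hab0 : a * b = 0 := by
    have : 2 * (a * b) = 0 := by rw [← mul_assoc]; exact h2ab
    rcases mul_eq_zero.mp this with h | h
    · exact absurd h h2
    · exact h
  have hsum : a * a + b * b = 1 := by
    rw [h2ab, zero_smul, add_zero] at hsq
    have := congrFun (congrFun hsq 0) 0
    simpa using this
  rcases mul_eq_zero.mp hab0 with ha0 | hb0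
  · -- a = 0, b² = 1
    rw [ha0] at hsum hab
    have hb1 : b * b = 1 := by simpa using hsum
    rcases mul_self_eq_one_iff.mp hb1 with h | h
    · left; rw [hab, h]; simp
    · right; rw [hab, h]; simp
  · exfalso
    rw [hb0] at hsum hab
    have ha1 : a * a = 1 := by simpa using hsum
    rcases mul_self_eq_one_iff.mp ha1 with h | h
    · apply hB.1; rw [hab, h]; simp
    · apply hB.2; rw [hab, h]; simp

end Cfsg.Agent.Lib.Helper82_S1906_L2a
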