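import Mathlib
import Cfsg.Agent.Lib.Helper82_S3466_T1LCore

set_option autoImplicit false

/-!
Package S3466-T1Lb (for helper40): a transvection on one hyperbolic plane and a torus element of
order `q ∓ 1` of `SL₂(F)` on the other give projective orders `p (q ∓ 1)` in `Sp₄(F)`.
-/

namespace Cfsg.Agent.Lib.Helper82_S3466_T1Lb

open Cfsg.Agent.Lib.Helper40_ProjOrd Cfsg.Agent.Lib.Helper40_SpProj
  Cfsg.Agent.Lib.Helper40_SpProj4 Cfsg.Agent.Lib.Helper82_S3466_T1LCore

universe u

variable {F : Type u} [Field F] [Fintype F] (p : ℕ) [Fact p.Prime] [CharP F p]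

theorem t1l_mixed :
    InSpecSp (Fin 2) F (p * (Fintype.card F - 1)) ∧ InSpecSp (Fin 2) F (p * (Fintype.card F + 1)) := by
  have hp : p.Prime := Fact.out
  have hq2 : 2 ≤ Fintype.card F := Fintype.one_lt_card
  obtain ⟨n, -, hn⟩ := FiniteField.card F p
  have hpq : p ∣ Fintype.card F := by
    rw [hn]
    exact dvd_pow_self p n.pos.ne'
  have hU : HasSpOrd F 1 (p ^ 1) := by
    rw [pow_one]
    exact hasSpOrd_unip_one p
  have hcop1 : Nat.Coprime (p ^ 1) (Fintype.card F - 1) := by
    rw [pow_one, hp.coprime_iff_not_dvd]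
    intro h
    have h1 : p ∣ Fintype.card F - (Fintype.card F - 1) := Nat.dvd_sub hpq h
    have h3 : Fintype.card F - (Fintype.card F - 1) = 1 := by omega
    rw [h3] at h1
    exact hp.one_lt.ne' (Nat.dvd_one.1 h1)
  have hcop2 : Nat.Coprime (p ^ 1) (Fintype.card F + 1) := by
    rw [pow_one, hp.coprime_iff_not_dvd]
    intro h
    have h1 : p ∣ Fintype.card F + 1 - Fintype.card F := Nat.dvd_sub h hpq
    have h3 : Fintype.card F + 1 - Fintype.card F = 1 := by omega
    rw [h3] at h1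
    exact hp.one_lt.ne' (Nat.dvd_one.1 h1)
  constructor
  · have h1 := HasSpOrd.prod_unip p hU
      (hasSpOrd_torus_sub' p 1 le_rfl (Fintype.card F - 1) (by rw [pow_one])) le_rfl (by omega)
    rw [hcop1.lcm_eq_mul, pow_one] at h1
    exact HasSpPOrd.inSpecSp h1
  · have h1 := HasSpOrd.prod_unip p hU
      (hasSpOrd_torus_add' p 1 le_rfl (Fintype.card F + 1) (by rw [pow_one])) le_rfl (by omega)
    rw [hcop2.lcm_eq_mul, pow_one] at h1
    exact HasSpPOrd.inSpecSp h1

end Cfsg.Agent.Lib.Helper82_S3466_T1Lb
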