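import Mathlib
import Cfsg.Agent.Lib.Helper80_S4756Defs
import Cfsg.Agent.S0041

/-!
# S4756-STRUCTF (architect helper80): the Frobenius-like structure `StructAt p P H`
from the pieces S2A/S2C.
-/

set_option autoImplicit false

namespace Cfsg.Agent.Lib.Helper82_S4756_STRUCTF

open Cfsg.Agent.Lib.Helper80_S4756Defs

/-- a nonidentity element of a finite group has a power of prime order -/
theorem exists_prime_order_pow {G : Type*} [Group G] [Finite G] (a : G) (ha : a ≠ 1) :
    ∃ (k q : ℕ), q.Prime ∧ orderOf (a ^ k) = q := by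
  have ho : orderOf a ≠ 1 := fun h => ha (orderOf_eq_one_iff.mp h)
  have ho0 : orderOf a ≠ 0 := (orderOf_pos a).ne'
  exact ⟨orderOf a / (orderOf a).minFac, (orderOf a).minFac, Nat.minFac_prime ho,
    orderOf_pow_orderOf_div ho0 (Nat.minFac_dvd _)⟩

theorem structF {G : Type*} [Group G] [Finite G] (p : ℕ) [Fact p.Prime]
    (hD1 : commutator G ≠ ⊥) (P : Sylow p G) (H : Subgroup G) (hPn : (P : Subgroup G).Normal)
    (hDP : commutator G ≤ (P : Subgroup G))
    (hPH : Subgroup.IsComplement' (P : Subgroup G) H) (hHab : ∀ a ∈ H, ∀ b ∈ H, a * b = b * a)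
    (hHcop : (Nat.card H).Coprime p) (hH1 : H ≠ ⊥)
    (h2a : ∀ x ∈ H, ∀ q : ℕ, q.Prime → orderOf x = q →
      ((P : Subgroup G) ⊓ Subgroup.centralizer ({x} : Set G)) ⊔ commutator G = (P : Subgroup G) ∧
      ((P : Subgroup G) ⊓ Subgroup.centralizer ({x} : Set G)) ⊓ commutator G = ⊥ ∧
      ⁅(P : Subgroup G), Subgroup.zpowers x⁆ = commutator G)
    (h2c : ∀ x ∈ H, ∀ q : ℕ, q.Prime → orderOf x = q →
      (P : Subgroup G) ⊓ Subgroup.centralizer ({x} : Set G) =
        (P : Subgroup G) ⊓ Subgroup.centralizer (H : Set G)) :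
    StructAt p P H := by
  classical
  -- fixed-point-freeness on `D = commutator G`
  have hfpf : ∀ a ∈ H, a ≠ 1 → ∀ d ∈ commutator G, a * d = d * a → d = 1 := by
    intro a haH ha1 d hdD hcomm
    obtain ⟨k, q, hq, hxo⟩ := exists_prime_order_pow a ha1
    have hxH : a ^ k ∈ H := H.pow_mem haH k
    have hbot := (h2a (a ^ k) hxH q hq hxo).2.1
    have hcomm' : a ^ k * d = d * a ^ k := by
      have : Commute a d := hcomm
      exact (this.pow_left k)
    have hd : d ∈ ((P : Subgroup G) ⊓ Subgroup.centralizer ({a ^ k} : Set G)) ⊓ commutator G := by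
      refine Subgroup.mem_inf.mpr ⟨Subgroup.mem_inf.mpr ⟨hDP hdD, ?_⟩, hdD⟩
      rw [Subgroup.mem_centralizer_iff]
      intro h hh
      rw [Set.mem_singleton_iff] at hh
      rw [hh]; exact hcomm'
    rw [hbot] at hd
    exact Subgroup.mem_bot.mp hd
  -- an element of prime order in `H`
  obtain ⟨a0, ha0H, ha01⟩ : ∃ a ∈ H, a ≠ 1 := by
    by_contra hcon
    push Not at hcon
    exact hH1 ((Subgroup.eq_bot_iff_forall H).mpr hcon)
  obtain ⟨k0, q0, hq0, hx0o⟩ := exists_prime_order_pow a0 ha01
  have hx0H : a0 ^ k0 ∈ H := H.pow_mem ha0H k0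
  obtain ⟨hsup0, hinf0, hcomm0⟩ := h2a (a0 ^ k0) hx0H q0 hq0 hx0o
  have hC0 := h2c (a0 ^ k0) hx0H q0 hq0 hx0o
  rw [hC0] at hsup0 hinf0
  -- `⁅H, P⁆ = commutator G`
  have hHP : ⁅H, (P : Subgroup G)⁆ = commutator G := by
    apply le_antisymm
    · rw [commutator_def]
      exact Subgroup.commutator_mono le_top le_top
    · rw [← hcomm0, Subgroup.commutator_comm]
      apply Subgroup.commutator_mono _ le_rfl
      rw [Subgroup.zpowers_le]
      exact hx0H
  have hDn : (commutator G).Normal := by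
    rw [commutator_def]; infer_instance
  refine ⟨hPn, ?_, hH1, hHcop, ?_, ?_, ?_, ?_, ?_, ?_⟩
  · -- `H` is cyclic, by S0041 on `V = D ⊓ C(D)`
    let V : Subgroup G := commutator G ⊓ Subgroup.centralizer (commutator G : Set G)
    have hVcomm : IsMulCommutative V := by
      refine ⟨⟨fun a b => ?_⟩⟩
      apply Subtype.ext
      have ha := a.2
      have hb := b.2
      simp only [V, Subgroup.mem_inf] at ha hb
      have := (Subgroup.mem_centralizer_iff.mp hb.2) a.1 ha.1
      simpa using this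
    have hVn : V.Normal := by
      have : (Subgroup.centralizer (commutator G : Set G)).Normal := Subgroup.normal_centralizer
      exact Subgroup.normal_inf_normal _ _
    have hV1 : V ≠ ⊥ := by
      have hDp : IsPGroup p ↥(commutator G) := P.isPGroup'.to_le hDP
      have hnt : Nontrivial ↥(commutator G) := (Subgroup.nontrivial_iff_ne_bot _).mpr hD1
      have := hDp.center_nontrivial
      obtain ⟨z, hz⟩ := exists_ne (1 : ↥(Subgroup.center ↥(commutator G)))
      intro hVbot
      apply hz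
      have hzV : ((z : ↥(commutator G)) : G) ∈ V := by
        refine Subgroup.mem_inf.mpr ⟨(z : ↥(commutator G)).2, ?_⟩
        rw [Subgroup.mem_centralizer_iff]
        intro d hd
        have := (Subgroup.mem_center_iff.mp z.2) ⟨d, hd⟩
        exact congrArg Subtype.val this
      rw [hVbot, Subgroup.mem_bot] at hzV
      apply Subtype.ext
      apply Subtype.ext
      simpa using hzV
    have hHV : H ≤ Subgroup.normalizer (V : Set G) := by
      intro h _
      rw [Subgroup.mem_normalizer_iff]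
      intro g
      constructor
      · intro hg; exact hVn.conj_mem g hg h
      · intro hg
        have := hVn.conj_mem _ hg h⁻¹
        simpa [mul_assoc] using this
    have hfp : ∀ a ∈ H, a ≠ 1 → V ⊓ Subgroup.centralizer {a} = ⊥ := by
      intro a haH ha1
      rw [Subgroup.eq_bot_iff_forall]
      intro d hd
      have hdV := (Subgroup.mem_inf.mp hd).1
      have hdc := (Subgroup.mem_inf.mp hd).2
      rw [Subgroup.mem_centralizer_iff] at hdc
      exact hfpf a haH ha1 d (Subgroup.mem_inf.mp hdV).1 (hdc a rfl)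
    have hHc : IsMulCommutative H := by
      refine ⟨⟨fun a b => ?_⟩⟩
      apply Subtype.ext
      exact hHab a.1 a.2 b.1 b.2
    have := hVcomm
    exact Cfsg.Agent.S0041.result H V hV1 hHV hfp (Or.inl hHc)
  · rw [sup_comm]; exact hPH.sup_eq_top
  · -- `C` is abelian
    refine ⟨⟨fun c₁ c₂ => ?_⟩⟩
    apply Subtype.ext
    have hmem : (c₁ : G) * c₂ * (c₁ : G)⁻¹ * (c₂ : G)⁻¹ ∈
        ((P : Subgroup G) ⊓ Subgroup.centralizer (H : Set G)) ⊓ commutator G := by
      refine Subgroup.mem_inf.mpr ⟨?_, ?_⟩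
      · exact Subgroup.mul_mem _ (Subgroup.mul_mem _ (Subgroup.mul_mem _ c₁.2 c₂.2)
          (Subgroup.inv_mem _ c₁.2)) (Subgroup.inv_mem _ c₂.2)
      · rw [commutator_def]
        have := Subgroup.commutator_mem_commutator (Subgroup.mem_top (c₁ : G))
          (Subgroup.mem_top (c₂ : G))
        simpa [commutatorElement_def] using this
    rw [hinf0, Subgroup.mem_bot] at hmem
    have : (c₁ : G) * c₂ = c₂ * c₁ := by
      have h1 := hmem
      calc (c₁ : G) * c₂ = ((c₁ : G) * c₂ * (c₁ : G)⁻¹ * (c₂ : G)⁻¹) * (c₂ * c₁) := by group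
        _ = c₂ * c₁ := by rw [h1, one_mul]
    simpa using this
  · rw [hHP]; exact hDn
  · rw [hHP]; exact hsup0
  · rw [hHP]; exact hinf0
  · rw [hHP]; exact hfpf

end Cfsg.Agent.Lib.Helper82_S4756_STRUCTF
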