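import Mathlib
import Cfsg.Prelude.Def_Blocks
import Cfsg.Prelude.Def_Local
import Cfsg.Agent.Lib.Helper48_TwoGen
import Cfsg.Agent.Lib.Helper1_Frattini
import Cfsg.Agent.Lib.Helper80_BrolineGarrison
import Cfsg.Agent.Lib.Helper80_Codegree
import Cfsg.Agent.Lib.Helper75_Induced
import Cfsg.Agent.Lib.Helper75_IndChar
import Cfsg.Agent.Lib.Helper75_CharArith
import Cfsg.Agent.Lib.Helper79_Linear
import Cfsg.Agent.Lib.Helper82_DualQuot
import Cfsg.Agent.Lib.Helper3_CharOrtho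
import Cfsg.Agent.Lib.Helper3_CharBridge
import Cfsg.Agent.Lib.Helper76_PSolvable
import Cfsg.Agent.Lib.Helper32_PSolvable
import Cfsg.Agent.Lib.Helper77_QuotBlocks
import Cfsg.Agent.Lib.Helper57_FrobNorm
import Cfsg.Agent.Lib.Helper80_CharBasic
import Cfsg.Agent.S0915
import Cfsg.Agent.S4736

/-!
# Kernels of `p'`-degree characters (helper82)

Let `X` be a finite group with `O_{p'}(X) = 1` and `M ⊴ X` a normal subgroup lying in the kernel
of every irreducible character of `X` of degree prime to `p`.  Then `M ∩ P ≤ P' ≤ Φ(P)` for a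
Sylow `p`-subgroup `P` (induce the linear characters of `P`), hence `M` is a `p`-group by Tate's
theorem, and `O_{p'}(X / M) = 1` (`core_X`).
-/

set_option autoImplicit false

namespace Cfsg.Agent.Lib.Helper82_TwoPrimes

open Cfsg
open scoped ComplexConjugate Pointwise

/-- if `x` has `p`-power order, `n` is prime to `p` and `x ^ n ∈ M` then `x ∈ M` -/
theorem mem_of_pow_mem_of_coprime {X : Type*} [Group X] (M : Subgroup X) {p n k : ℕ}
    (hn : n.Coprime p) {x : X} (hx : x ^ (p ^ k) = 1) (hxn : x ^ n ∈ M) : x ∈ M := by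
  have hc : n.Coprime (p ^ k) := Nat.Coprime.pow_right k hn
  have h1 := Int.gcd_eq_gcd_ab (n : ℤ) ((p ^ k : ℕ) : ℤ)
  have h2 : Int.gcd (n : ℤ) ((p ^ k : ℕ) : ℤ) = 1 := by
    rw [Int.gcd_natCast_natCast]
    exact hc
  rw [h2] at h1
  have h3 : x = (x ^ n) ^ (Int.gcdA (n : ℤ) ((p ^ k : ℕ) : ℤ)) *
      (x ^ (p ^ k)) ^ (Int.gcdB (n : ℤ) ((p ^ k : ℕ) : ℤ)) := by
    rw [← zpow_natCast x n, ← zpow_natCast x (p ^ k), ← zpow_mul, ← zpow_mul, ← zpow_add]
    have h4 : (n : ℤ) * Int.gcdA (n : ℤ) ((p ^ k : ℕ) : ℤ) +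
        ((p ^ k : ℕ) : ℤ) * Int.gcdB (n : ℤ) ((p ^ k : ℕ) : ℤ) = 1 := by
      rw [← h1]; rfl
    rw [h4, zpow_one]
  rw [h3, hx, one_zpow, mul_one]
  exact Subgroup.zpow_mem M hxn _

/-- a character of degree prime to `p` has an irreducible constituent of degree prime to `p` -/
theorem exists_constituent_not_dvd {X : Type*} [Group X] [Fintype X] (p : ℕ) (φ : X → ℂ)
    (hφ : IsCharacter X φ) (d : ℕ) (hd : φ 1 = d) (hpd : ¬ p ∣ d) :
    ∃ χ : IrrCharacter X, classInner φ (χ : X → ℂ) ≠ 0 ∧ ¬ p ∣ charDegree (χ : X → ℂ) := by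
  classical
  obtain ⟨m, hm, hsum⟩ := Cfsg.Agent.Lib.Helper75_CharArith.exists_multiplicities hφ
  by_contra hcon
  push Not at hcon
  apply hpd
  have h1 : (d : ℂ) = ((∑ χ : IrrCharacter X, m χ * charDegree (χ : X → ℂ) : ℕ) : ℂ) := by
    rw [← hd]
    conv_lhs => rw [hsum]
    rw [Finset.sum_apply]
    push_cast
    apply Finset.sum_congr rfl
    intro χ _
    rw [Pi.smul_apply, smul_eq_mul, Cfsg.Agent.Lib.Helper80_Codegree.apply_one_eq_charDegree]
  have h2 : d = ∑ χ : IrrCharacter X, m χ * charDegree (χ : X → ℂ) := by exact_mod_cast h1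
  rw [h2]
  apply Finset.dvd_sum
  intro χ _
  by_cases h0 : m χ = 0
  · rw [h0, zero_mul]; exact dvd_zero _
  · apply Dvd.dvd.mul_left
    apply hcon χ
    rw [hm χ]
    exact_mod_cast h0

/-- the linear characters of a Sylow `p`-subgroup are trivial on `M ∩ P` -/
theorem linear_ker {X : Type*} [Group X] [Finite X] (p : ℕ) [Fact p.Prime] (P : Sylow p X)
    (M : Subgroup X)
    (hM : ∀ ψ : IrrCharacter X, ¬ p ∣ charDegree (ψ : X → ℂ) →
      ∀ m ∈ M, (ψ : X → ℂ) m = (ψ : X → ℂ) 1)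
    (f : ↥(P : Subgroup X) →* ℂˣ) (x : ↥(P : Subgroup X)) (hx : (x : X) ∈ M) : f x = 1 := by
  classical
  have := Fintype.ofFinite X
  have := Fintype.ofFinite (P : Subgroup X)
  set θ : ↥(P : Subgroup X) → ℂ := fun y => ((f y : ℂˣ) : ℂ) with hθdef
  have hθ : IsIrrCharacter (P : Subgroup X) θ := Cfsg.Agent.Lib.Helper79_Linear.isIrrCharacter_of_hom f
  have hθc : IsCharacter (P : Subgroup X) θ :=
    Cfsg.Agent.Lib.Helper3_CharBridge.isCharacter_of_isIrrCharacter hθ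
  have hind : IsCharacter X (indFun (P : Subgroup X) θ) :=
    Cfsg.Agent.Lib.Helper75_IndChar.isCharacter_indFun (P : Subgroup X) hθc
  have hcard : (Nat.card (P : Subgroup X) : ℂ) ≠ 0 := by
    rw [Nat.cast_ne_zero]; exact Nat.card_pos.ne'
  have hdeg : indFun (P : Subgroup X) θ 1 = ((P : Subgroup X).index : ℕ) := by
    rw [Cfsg.Agent.Lib.Helper75_Induced.indFun_one]
    have h1 : θ 1 = 1 := by simp [hθdef]
    rw [h1, mul_one, ← (P : Subgroup X).card_mul_index]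
    push_cast
    field_simp
  obtain ⟨χ, hne, hpχ⟩ := exists_constituent_not_dvd p _ hind _ hdeg P.not_dvd_index
  rw [Cfsg.Agent.Lib.Helper75_Induced.frobenius_reciprocity (P : Subgroup X) θ (χ : X → ℂ)
    (Cfsg.Agent.Lib.Helper3_CharBridge.isClassFunction_of_isIrrCharacter χ.2)] at hne
  have hne' : classInner (fun h : (P : Subgroup X) => (χ : X → ℂ) h) θ ≠ 0 := by
    rw [← Cfsg.Agent.Lib.Helper3_CharOrtho.classInner_conj_symm]
    intro h0
    apply hne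
    have := congrArg conj h0
    simpa using this
  have hres : IsCharacter (P : Subgroup X) (fun h : (P : Subgroup X) => (χ : X → ℂ) h) :=
    Cfsg.Agent.Lib.Helper75_CharArith.isCharacter_restrict (P : Subgroup X)
      (Cfsg.Agent.Lib.Helper3_CharBridge.isCharacter_of_isIrrCharacter χ.2)
  have h2 := Cfsg.Agent.Lib.Helper80_BrolineGarrison.ker_constituent _ hres ⟨θ, hθ⟩ hne' x
    (hM χ hpχ _ hx)
  have h3 : ((f x : ℂˣ) : ℂ) = ((f 1 : ℂˣ) : ℂ) := h2
  rw [map_one] at h3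
  exact Units.ext h3

/-- `M ∩ P ≤ Φ(P)` -/
theorem inf_sylow_le_frattini {X : Type*} [Group X] [Finite X] (p : ℕ) [Fact p.Prime]
    (P : Sylow p X) (M : Subgroup X)
    (hM : ∀ ψ : IrrCharacter X, ¬ p ∣ charDegree (ψ : X → ℂ) →
      ∀ m ∈ M, (ψ : X → ℂ) m = (ψ : X → ℂ) 1) :
    M ⊓ (P : Subgroup X) ≤ (frattini ↥(P : Subgroup X)).map (P : Subgroup X).subtype := by
  intro x hx
  have hcomm : (⟨x, hx.2⟩ : (P : Subgroup X)) ∈ commutator (P : Subgroup X) := by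
    by_contra hcon
    have hne : (Abelianization.of (⟨x, hx.2⟩ : (P : Subgroup X))) ≠ 1 := by
      intro h1
      apply hcon
      have : (⟨x, hx.2⟩ : (P : Subgroup X)) ∈ (Abelianization.of (G := (P : Subgroup X))).ker :=
        MonoidHom.mem_ker.2 h1
      rwa [Abelianization.ker_of] at this
    obtain ⟨φ, hφ⟩ := Cfsg.Agent.Lib.Helper82_DualQuot.exists_dual_ne_one hne
    apply hφ
    exact linear_ker p P M hM (φ.comp Abelianization.of) ⟨x, hx.2⟩ hx.1
  have hfr := Cfsg.Agent.Lib.Helper1_Frattini.commutator_le_frattini_of_isPGroup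
    (G := (P : Subgroup X)) P.isPGroup' hcomm
  exact ⟨⟨x, hx.2⟩, hfr, rfl⟩

/-- **Core lemma.** `O_{p'}(X) = 1`, `M ⊴ X` in the kernel of all irreducible characters of
degree prime to `p`: then every normal `W ≥ M` with `W/M` a `p'`-group equals `M`, and
`M = X` only if `p ∤ |X|`. -/
theorem core_X {X : Type*} [Group X] [Finite X] (p : ℕ) [Fact p.Prime]
    (hcore : Cfsg.pPrimeCore p X = ⊥) (M : Subgroup X) [M.Normal]
    (hM : ∀ ψ : IrrCharacter X, ¬ p ∣ charDegree (ψ : X → ℂ) →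
      ∀ m ∈ M, (ψ : X → ℂ) m = (ψ : X → ℂ) 1) :
    (∀ W : Subgroup X, W.Normal → M ≤ W →
      (∀ w ∈ W, ∃ n : ℕ, n.Coprime p ∧ w ^ n ∈ M) → W ≤ M) ∧
    (M = ⊤ → ¬ p ∣ Nat.card X) := by
  obtain ⟨P⟩ := (inferInstance : Nonempty (Sylow p X))
  have hfr := inf_sylow_le_frattini p P M hM
  constructor
  · intro W hWn hMW hexp
    have hWP : W ⊓ (P : Subgroup X) ≤
        (frattini ↥(P : Subgroup X)).map (P : Subgroup X).subtype := by
      intro x hx
      apply hfr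
      refine ⟨?_, hx.2⟩
      obtain ⟨n, hn, hxn⟩ := hexp x hx.1
      obtain ⟨k, hk⟩ := P.isPGroup' ⟨x, hx.2⟩
      have hk' : x ^ (p ^ k) = 1 := by
        have := congrArg Subtype.val hk
        simpa using this
      exact mem_of_pow_mem_of_coprime M hn hk' hxn
    have hWp : IsPGroup p W :=
      Cfsg.Agent.Lib.Helper48_TwoGen.isPGroup_of_inf_le_frattini P hcore W hWP
    intro w hw
    obtain ⟨n, hn, hwn⟩ := hexp w hw
    obtain ⟨k, hk⟩ := hWp ⟨w, hw⟩
    have hk' : w ^ (p ^ k) = 1 := by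
      have := congrArg Subtype.val hk
      simpa using this
    exact mem_of_pow_mem_of_coprime M hn hk' hwn
  · intro hMtop hdvd
    rw [hMtop, top_inf_eq] at hfr
    have h1 : frattini ↥(P : Subgroup X) = ⊤ := by
      rw [eq_top_iff]
      intro y _
      obtain ⟨z, hz, hzy⟩ := hfr y.2
      have : z = y := Subtype.ext hzy
      rwa [this] at hz
    have h2 : (⊥ : Subgroup ↥(P : Subgroup X)) = ⊤ := by
      apply frattini_nongenerating
      rw [h1, bot_sup_eq]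
    have h3 : (P : Subgroup X) = ⊥ := by
      rw [eq_bot_iff]
      intro y hy
      have : (⟨y, hy⟩ : (P : Subgroup X)) ∈ (⊥ : Subgroup ↥(P : Subgroup X)) := by
        rw [h2]; exact Subgroup.mem_top _
      rw [Subgroup.mem_bot] at this ⊢
      exact congrArg Subtype.val this
    exact P.ne_bot_of_dvd_card hdvd h3

/-- **Core lemma in `G`.** `N = O_{p'}(G) ≤ K ⊴ G`, and every irreducible character of `G` of
degree prime to `p` with `N` in its kernel has `K` in its kernel: then `O_{p'}(G/K) = 1` (in the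
form: every normal `W ≥ K` with `W/K` of exponent prime to `p` equals `K`) and `K = G` only if
`p ∤ |G|`. -/
theorem core_G {G : Type*} [Group G] [Finite G] (p : ℕ) [Fact p.Prime] (K : Subgroup G)
    [K.Normal] (hNK : Cfsg.pPrimeCore p G ≤ K)
    (hK : ∀ χ : IrrCharacter G,
      (∀ u ∈ Cfsg.pPrimeCore p G, (χ : G → ℂ) u = (χ : G → ℂ) 1) →
      ¬ p ∣ charDegree (χ : G → ℂ) → ∀ k ∈ K, (χ : G → ℂ) k = (χ : G → ℂ) 1) :
    (∀ W : Subgroup G, W.Normal → K ≤ W →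
      (∀ w ∈ W, ∃ n : ℕ, n.Coprime p ∧ w ^ n ∈ K) → W ≤ K) ∧
    (K = ⊤ → ¬ p ∣ Nat.card G) := by
  set N := Cfsg.pPrimeCore p G with hNdef
  have hNn : N.Normal := Cfsg.Agent.Lib.Helper76_PSolvable.pPrimeCore_normal p
  have hNp : (Nat.card N).Coprime p := Cfsg.Agent.Lib.Helper76_PSolvable.pPrimeCore_card_coprime p
  have hcoreq : Cfsg.pPrimeCore p (G ⧸ N) = ⊥ :=
    Cfsg.Agent.Lib.Helper76_PSolvable.pPrimeCore_quotient_pPrimeCore p
  set M : Subgroup (G ⧸ N) := K.map (QuotientGroup.mk' N) with hMdef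
  have hMn : M.Normal :=
    Subgroup.Normal.map inferInstance _ (QuotientGroup.mk'_surjective N)
  have hM : ∀ ψ : IrrCharacter (G ⧸ N), ¬ p ∣ charDegree (ψ : G ⧸ N → ℂ) →
      ∀ m ∈ M, (ψ : G ⧸ N → ℂ) m = (ψ : G ⧸ N → ℂ) 1 := by
    intro ψ hψ m hm
    obtain ⟨k, hk, rfl⟩ := hm
    have hirr : IsIrrCharacter G ((ψ : G ⧸ N → ℂ) ∘ (QuotientGroup.mk : G → G ⧸ N)) :=
      Cfsg.Agent.Lib.Helper57_FrobNorm.isIrrCharacter_comp_surjective (QuotientGroup.mk' N)
        (QuotientGroup.mk'_surjective N) ψ.2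
    have h1 := hK ⟨_, hirr⟩ (fun u hu => by
      show (ψ : G ⧸ N → ℂ) ((u : G) : G ⧸ N) = (ψ : G ⧸ N → ℂ) ((1 : G) : G ⧸ N)
      rw [(QuotientGroup.eq_one_iff u).2 hu, QuotientGroup.mk_one])
      (by
        show ¬ p ∣ charDegree ((ψ : G ⧸ N → ℂ) ∘ (QuotientGroup.mk : G → G ⧸ N))
        rwa [Cfsg.Agent.S4736.charDegree_comp_mk]) k hk
    exact h1
  obtain ⟨h1, h2⟩ := core_X p hcoreq M hM
  constructor
  · intro W hWn hKW hexp
    have h3 := h1 (W.map (QuotientGroup.mk' N))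
      (Subgroup.Normal.map hWn _ (QuotientGroup.mk'_surjective N)) (Subgroup.map_mono hKW) (by
        rintro _ ⟨w, hw, rfl⟩
        obtain ⟨n, hn, hwn⟩ := hexp w hw
        exact ⟨n, hn, ⟨w ^ n, hwn, map_pow _ _ _⟩⟩)
    intro w hw
    obtain ⟨k, hk, hkw⟩ := h3 ⟨w, hw, rfl⟩
    have h4 : k⁻¹ * w ∈ N := QuotientGroup.eq.1 hkw
    have h5 : w = k * (k⁻¹ * w) := by group
    rw [h5]
    exact mul_mem hk (hNK h4)
  · intro hKtop hdvd
    have hMtop : M = ⊤ := by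
      rw [hMdef, hKtop, ← MonoidHom.range_eq_map, MonoidHom.range_eq_top]
      exact QuotientGroup.mk'_surjective N
    apply h2 hMtop
    have h6 : Nat.card G = Nat.card (G ⧸ N) * Nat.card N :=
      Subgroup.card_eq_card_quotient_mul_card_subgroup N
    rw [h6] at hdvd
    exact (Nat.Coprime.dvd_of_dvd_mul_right hNp.symm hdvd)

/-- for `p`-solvable `G`, the characters with `O_{p'}(G)` in their kernel lie in the principal
`p`-block -/
theorem principal_of_ker {G : Type*} [Group G] [Finite G] (p : ℕ) [Fact p.Prime]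
    (M : Ideal Cfsg.AlgInt) (hM : Cfsg.IsPModular p M) (hsolv : Cfsg.IsPSolvable p G)
    (χ : Cfsg.IrrCharacter G)
    (hker : ∀ u ∈ Cfsg.pPrimeCore p G, (χ : G → ℂ) u = (χ : G → ℂ) 1) :
    χ ∈ Cfsg.principalBlock M G := by
  have hMp : M.IsPrime := Cfsg.Agent.Lib.Helper78_LocalRing.isPrime_of_isPModular hM
  set N := Cfsg.pPrimeCore p G with hNdef
  have hNn : N.Normal := Cfsg.Agent.Lib.Helper76_PSolvable.pPrimeCore_normal p
  have hsolq : Cfsg.IsPSolvable p (G ⧸ N) :=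
    Cfsg.Agent.Lib.Helper32_PSolvable.isPSolvable_quotient N hsolv
  have hcoreq : Cfsg.pPrimeCore p (G ⧸ N) = ⊥ :=
    Cfsg.Agent.Lib.Helper76_PSolvable.pPrimeCore_quotient_pPrimeCore p
  obtain ⟨χb, hχb⟩ := Cfsg.Agent.Lib.Helper77_QuotBlocks.exists_quot_char N χ hker
  have hsb := Cfsg.Agent.S0915.result p M hM hsolq hcoreq
    (Cfsg.Agent.Lib.Helper80_CharBasic.oneIrr (G ⧸ N)) χb
  have hsb' := Cfsg.Agent.Lib.Helper77_QuotBlocks.sameBlock_comp_mk hMp N hsb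
  have hirr : Cfsg.IsIrrCharacter G ((χb : G ⧸ N → ℂ) ∘ (QuotientGroup.mk : G → G ⧸ N)) := by
    rw [← hχb]; exact χ.2
  have hmem : (⟨_, hirr⟩ : Cfsg.IrrCharacter G) ∈ Cfsg.principalBlock M G := hsb'
  have hχ : χ = ⟨_, hirr⟩ := Subtype.ext hχb
  rw [hχ]
  exact hmem

/-- the kernel condition transported by the hypothesis of S4885 -/
theorem key {G : Type*} [Group G] [Finite G] (p q : ℕ) [Fact p.Prime] [Fact q.Prime]
    (hps : Cfsg.IsPSolvable p G) (Mp Mq : Ideal Cfsg.AlgInt) (hMp : Cfsg.IsPModular p Mp)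
    (hMq : Cfsg.IsPModular q Mq)
    (h : ∀ χ : Cfsg.IrrCharacter G, (χ ∈ Cfsg.principalBlock Mp G ∧
      ¬ p ∣ Cfsg.charDegree (χ : G → ℂ)) → χ ∈ Cfsg.principalBlock Mq G)
    (χ : Cfsg.IrrCharacter G)
    (hker : ∀ u ∈ Cfsg.pPrimeCore p G, (χ : G → ℂ) u = (χ : G → ℂ) 1)
    (hdeg : ¬ p ∣ Cfsg.charDegree (χ : G → ℂ)) :
    ∀ k ∈ Cfsg.pPrimeCore p G ⊔ Cfsg.pPrimeCore q G, (χ : G → ℂ) k = (χ : G → ℂ) 1 := by
  intro k hk
  have h1 := principal_of_ker p Mp hMp hps χ hker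
  have h2 := h χ ⟨h1, hdeg⟩
  have hNqn : (Cfsg.pPrimeCore q G).Normal := Cfsg.Agent.Lib.Helper76_PSolvable.pPrimeCore_normal q
  have hNpn : (Cfsg.pPrimeCore p G).Normal := Cfsg.Agent.Lib.Helper76_PSolvable.pPrimeCore_normal p
  have h3 := Cfsg.Agent.S4736.ker_of_principal q Mq hMq (Cfsg.pPrimeCore q G)
    (Cfsg.Agent.Lib.Helper76_PSolvable.pPrimeCore_card_coprime q) χ h2
  have hk' : k ∈ ((Cfsg.pPrimeCore p G : Subgroup G) : Set G) * (Cfsg.pPrimeCore q G : Set G) := by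
    rw [← Subgroup.mul_normal]; exact hk
  obtain ⟨a, ha, b, hb, rfl⟩ := Set.mem_mul.1 hk'
  obtain ⟨χb, hχb⟩ := Cfsg.Agent.Lib.Helper77_QuotBlocks.exists_quot_char (Cfsg.pPrimeCore p G) χ
    hker
  have e1 : (χ : G → ℂ) (a * b) = (χ : G → ℂ) b := by
    rw [hχb]
    show (χb : G ⧸ Cfsg.pPrimeCore p G → ℂ) ((a * b : G) : G ⧸ Cfsg.pPrimeCore p G) =
      (χb : G ⧸ Cfsg.pPrimeCore p G → ℂ) ((b : G) : G ⧸ Cfsg.pPrimeCore p G)
    rw [QuotientGroup.mk_mul, (QuotientGroup.eq_one_iff a).2 ha, one_mul]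
  rw [e1]
  exact h3 b hb

/-- a normal subgroup `C` of `G/K` of order prime to `r` is trivial, given the conclusion of
`core_G` for `r` -/
theorem quot_normal_eq_bot {G : Type*} [Group G] [Finite G] (r : ℕ) (K : Subgroup G) [K.Normal]
    (C : Subgroup (G ⧸ K)) (hCn : C.Normal) (hC : (Nat.card C).Coprime r)
    (Cr : ∀ W : Subgroup G, W.Normal → K ≤ W →
      (∀ w ∈ W, ∃ n : ℕ, n.Coprime r ∧ w ^ n ∈ K) → W ≤ K) : C = ⊥ := by
  have h1 := Cr (C.comap (QuotientGroup.mk' K)) (hCn.comap _)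
    (by
      intro k hk
      rw [Subgroup.mem_comap]
      have : QuotientGroup.mk' K k = 1 := (QuotientGroup.eq_one_iff k).2 hk
      rw [this]; exact one_mem _)
    (by
      intro w hw
      rw [Subgroup.mem_comap] at hw
      refine ⟨Nat.card C, hC, ?_⟩
      have h2 : (⟨QuotientGroup.mk' K w, hw⟩ : C) ^ Nat.card C = 1 := pow_card_eq_one'
      have h3 := congrArg Subtype.val h2
      simp only [Subgroup.coe_pow, Subgroup.coe_one] at h3
      rw [← map_pow] at h3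
      exact (QuotientGroup.eq_one_iff _).1 h3)
  rw [eq_bot_iff]
  intro c hc
  obtain ⟨w, rfl⟩ := QuotientGroup.mk'_surjective K c
  have h2 : w ∈ K := h1 (Subgroup.mem_comap.2 hc)
  rw [Subgroup.mem_bot]
  exact (QuotientGroup.eq_one_iff w).2 h2

/-- the final contradiction -/
theorem final {G : Type*} [Group G] [Finite G] (p q : ℕ) [Fact p.Prime] [Fact q.Prime]
    (hne : p ≠ q) (hp : p ∣ Nat.card G) (hps : Cfsg.IsPSolvable p G) (K : Subgroup G) [K.Normal]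
    (Cp : (∀ W : Subgroup G, W.Normal → K ≤ W →
      (∀ w ∈ W, ∃ n : ℕ, n.Coprime p ∧ w ^ n ∈ K) → W ≤ K) ∧ (K = ⊤ → ¬ p ∣ Nat.card G))
    (Cq : ∀ W : Subgroup G, W.Normal → K ≤ W →
      (∀ w ∈ W, ∃ n : ℕ, n.Coprime q ∧ w ^ n ∈ K) → W ≤ K) : False := by
  have hpP : p.Prime := Fact.out
  have hqP : q.Prime := Fact.out
  have hKtop : K ≠ ⊤ := fun h => Cp.2 h hp
  have hnt : Nontrivial (G ⧸ K) := QuotientGroup.nontrivial_iff.mpr hKtop
  have hsolq : Cfsg.IsPSolvable p (G ⧸ K) :=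
    Cfsg.Agent.Lib.Helper32_PSolvable.isPSolvable_quotient K hps
  rcases Cfsg.Agent.Lib.Helper32_PSolvable.exists_core_ne_bot hsolq with h | h
  · exact h (quot_normal_eq_bot p K _ (Cfsg.Agent.Lib.Helper76_PSolvable.pPrimeCore_normal p)
      (Cfsg.Agent.Lib.Helper76_PSolvable.pPrimeCore_card_coprime p) Cp.1)
  · apply h
    apply quot_normal_eq_bot q K _ (Cfsg.Agent.Lib.Helper76_PSolvable.pCore_normal p) _ Cq
    obtain ⟨m, hm⟩ := IsPGroup.iff_card.1
      (Cfsg.Agent.Lib.Helper76_PSolvable.pCore_isPGroup (G := G ⧸ K) p)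
    rw [hm]
    exact Nat.Coprime.pow_left m ((Nat.coprime_primes hpP hqP).2 hne)

end Cfsg.Agent.Lib.Helper82_TwoPrimes
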