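import Mathlib
import Cfsg.Agent.S1248
import Cfsg.Agent.Lib.Helper56_U320Defs
import Cfsg.Agent.Lib.Helper56_U320Model

set_option autoImplicit false
set_option linter.unusedSectionVars false

/-!
# S1903 market (architect helper56), package ACT: the torus element `hSU ζ` and its action on the Sylow 2-subgroup
-/

namespace Cfsg.Agent.Lib.Helper82_U320_ACT

open Matrix Cfsg.Agent.S1248 Cfsg.Agent.Lib.Helper56_U320Defs Cfsg.Agent.Lib.Helper56_U320Model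

section
variable {F : Type*} [Field F] [CharP F 2] [h16 : Fact (∀ x : F, x ^ 16 = x)]

omit h16 in
theorem hmat_mul (ζ ξ : F) : hmat ζ * hmat ξ = hmat (ζ * ξ) := by
  have h2 : (2 : F) = 0 := CharP.cast_eq_zero F 2
  ext i j
  fin_cases i <;> fin_cases j <;>
    simp [hmat, Matrix.mul_apply, Fin.sum_univ_three] <;> grind

omit h16 in
theorem hmat_one : hmat (1 : F) = 1 := by
  have h2 : (2 : F) = 0 := CharP.cast_eq_zero F 2
  have h11 : (1 : F) + 1 = 0 := by rw [one_add_one_eq_two, h2]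
  ext i j
  fin_cases i <;> fin_cases j <;> simp [hmat, h11]

omit h16 in
theorem hmat_pow (ζ : F) (k : ℕ) : hmat ζ ^ k = hmat (ζ ^ k) := by
  induction k with
  | zero => rw [pow_zero, pow_zero, hmat_one]
  | succ k ih => rw [pow_succ, pow_succ, ih, hmat_mul]

omit h16 in
theorem hmat_conj (ζ : F) (hζ : ζ ^ 5 = 1) (b c : F) :
    hmat ζ * Mmat b c = Mmat (ζ ^ 2 * b) c * hmat ζ := by
  have h2 : (2 : F) = 0 := CharP.cast_eq_zero F 2
  have h8 : ζ ^ 8 = ζ ^ 3 := by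
    have : ζ ^ 8 = ζ ^ 5 * ζ ^ 3 := by ring
    rw [this, hζ, one_mul]
  have hb : (ζ ^ 2 * b) ^ 4 = ζ ^ 3 * b ^ 4 := by
    rw [mul_pow, ← pow_mul, show 2 * 4 = 8 by norm_num, h8]
  ext i j
  fin_cases i <;> fin_cases j <;>
    simp [hmat, Mmat, Matrix.mul_apply, Fin.sum_univ_three, hb] <;> grind

variable [Fintype F]

theorem hSU_conj (hF : Fintype.card F = 16) (ζ : F) (hζ : ζ ^ 5 = 1) (p : PF F) :
    hSU hF ζ hζ * mSU hF p = mSU hF (actP ζ hζ p) * hSU hF ζ hζ := by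
  apply Subtype.ext
  apply Subtype.ext
  exact hmat_conj ζ hζ p.b p.c

omit h16 in
theorem hSU_pow_val (hF : Fintype.card F = 16) (ζ : F) (hζ : ζ ^ 5 = 1) (j : ℕ) :
    (((hSU hF ζ hζ ^ j : Cfsg.SU 3 F 4).1 : Matrix.SpecialLinearGroup (Fin 3) F) :
      Matrix (Fin 3) (Fin 3) F) = hmat (ζ ^ j) := by
  rw [SubgroupClass.coe_pow, Matrix.SpecialLinearGroup.coe_pow, hSU_val, hmat_pow]

theorem hSU_pow_five (hF : Fintype.card F = 16) (ζ : F) (hζ : ζ ^ 5 = 1) :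
    hSU hF ζ hζ ^ 5 = 1 := by
  apply Subtype.ext
  apply Subtype.ext
  rw [hSU_pow_val, hζ, hmat_one]
  rfl

theorem hSU_pow_mem_iff (hF : Fintype.card F = 16) (ζ : F) (hζ : ζ ^ 5 = 1) (hζ1 : ζ ≠ 1) (j : ℕ) :
    (∃ p : PF F, hSU hF ζ hζ ^ j = mSU hF p) ↔ 5 ∣ j := by
  constructor
  · rintro ⟨p, hp⟩
    have hm : hmat (ζ ^ j) = Mmat p.b p.c := by
      rw [← hSU_pow_val hF ζ hζ j, hp, mSU_val]
    have h22 : (ζ ^ j) ^ 3 = 1 := by
      have := congrFun (congrFun hm 2) 2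
      simpa [hmat, Mmat] using this
    have h5 : (ζ ^ j) ^ 5 = 1 := by rw [← pow_mul, mul_comm, pow_mul, hζ, one_pow]
    have h1 : ζ ^ j = 1 := by
      have e : (ζ ^ j) ^ 6 = ζ ^ j := by
        have : (ζ ^ j) ^ 6 = (ζ ^ j) ^ 5 * ζ ^ j := by ring
        rw [this, h5, one_mul]
      have e' : (ζ ^ j) ^ 6 = 1 := by
        have : (ζ ^ j) ^ 6 = ((ζ ^ j) ^ 3) ^ 2 := by ring
        rw [this, h22, one_pow]
      rw [← e, e']
    have : Fact (Nat.Prime 5) := ⟨by norm_num⟩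
    have ho : orderOf ζ = 5 := orderOf_eq_prime hζ hζ1
    rw [← ho]
    exact orderOf_dvd_of_pow_eq_one h1
  · rintro ⟨k, rfl⟩
    refine ⟨1, ?_⟩
    rw [pow_mul, hSU_pow_five, one_pow]
    exact ((mHom hF).map_one).symm

end

end Cfsg.Agent.Lib.Helper82_U320_ACT
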