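import Mathlib
import Cfsg.Agent.Lib.Helper56_U320Defs
import Cfsg.Agent.Lib.Helper78_U320_TX

set_option autoImplicit false

/-!
# S1903 market (architect helper56), package BIJ: the normal form is a bijection `Idx → G`

`nf_bijective_aux` takes the conclusions of package TX (`nf_Ts`, `nf_Tx`) as hypotheses; `nf_bijective` uses helper78's TX.
-/

namespace Cfsg.Agent.Lib.Helper82_U320_BIJ

open Cfsg.Agent.Lib.Helper56_U320Defs
open scoped Pointwise

section
variable {G : Type*} [Group G]

theorem nf_zero (D : Data G) : nf D (0, (false, false, false, false), (false, false)) = 1 := by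
  simp [nf, xpw, cpw]

theorem card_Idx : Nat.card Idx = 320 := by
  rw [Nat.card_eq_fintype_card]
  simp only [Fintype.card_prod, Fintype.card_fin, Fintype.card_bool]

/-- a left translation mapping a finite set into itself stabilises it -/
theorem smul_set_eq_of_subset [Finite G] (g : G) (S : Set G) (h : g • S ⊆ S) : g • S = S := by
  apply Set.eq_of_subset_of_ncard_le h _ (Set.toFinite S)
  rw [Set.ncard_smul_set]

theorem nf_surjective_aux (D : Data G) (hTs : ∀ t : Idx, D.s * nf D t = nf D (Ts t))
    (hTx : ∀ t : Idx, D.x * nf D t = nf D (Tx t)) : Function.Surjective (nf D) := by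
  have hfin : Finite G := Nat.finite_of_card_ne_zero (by rw [D.card]; norm_num)
  have hs : D.s ∈ MulAction.stabilizer G (Set.range (nf D)) := by
    rw [MulAction.mem_stabilizer_iff]
    apply smul_set_eq_of_subset
    rintro _ ⟨_, ⟨t, rfl⟩, rfl⟩
    exact ⟨Ts t, (hTs t).symm⟩
  have hx : D.x ∈ MulAction.stabilizer G (Set.range (nf D)) := by
    rw [MulAction.mem_stabilizer_iff]
    apply smul_set_eq_of_subset
    rintro _ ⟨_, ⟨t, rfl⟩, rfl⟩
    exact ⟨Tx t, (hTx t).symm⟩
  have hle : Subgroup.closure ({D.s, D.x} : Set G) ≤ MulAction.stabilizer G (Set.range (nf D)) := by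
    rw [Subgroup.closure_le]
    intro g hg
    rcases hg with rfl | rfl
    · exact hs
    · exact hx
  rw [D.gen] at hle
  intro g
  have hg : g ∈ MulAction.stabilizer G (Set.range (nf D)) := hle (Subgroup.mem_top g)
  rw [MulAction.mem_stabilizer_iff] at hg
  have h1 : g • (1 : G) ∈ g • Set.range (nf D) := Set.smul_mem_smul_set ⟨_, nf_zero D⟩
  rw [hg, smul_eq_mul, mul_one] at h1
  exact h1

theorem nf_bijective_aux (D : Data G) (hTs : ∀ t : Idx, D.s * nf D t = nf D (Ts t))
    (hTx : ∀ t : Idx, D.x * nf D t = nf D (Tx t)) : Function.Bijective (nf D) := by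
  apply (nf_surjective_aux D hTs hTx).bijective_of_nat_card_le
  rw [card_Idx, D.card]

theorem nf_bijective (D : Data G) : Function.Bijective (nf D) :=
  nf_bijective_aux D (Cfsg.Agent.Lib.Helper78_U320_TX.nf_Ts D) (Cfsg.Agent.Lib.Helper78_U320_TX.nf_Tx D)

end

end Cfsg.Agent.Lib.Helper82_U320_BIJ
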