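import Mathlib
import Cfsg.Agent.Lib.Helper83_U3PJ

/-!
# U3C-SL2 (S2148 concrete half, architect helper83): the group `SLJ = SU(⟨e₀,e₂⟩)`

`conj_ZJ_mem_SLJ`, `SLJ_trans`, `SLJ_inf_BJ`, `SLJ_inf_center`; self-contained (the trace-zero element is
constructed here, the centre is handled by commuting with `wJ` and one element of the unipotent radical).
-/

set_option autoImplicit false
set_option linter.unusedSectionVars false
set_option linter.unusedVariables false
set_option linter.unusedSimpArgs false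
set_option linter.unusedTactic false
set_option linter.unreachableTactic false
set_option linter.unnecessarySeqFocus false

namespace Cfsg.Agent.Lib.Helper82_U3C_SL2

open Matrix Cfsg.Agent.Lib.Helper83_SU3J Cfsg.Agent.Lib.Helper83_U3Model
  Cfsg.Agent.Lib.Helper83_U3Bruhat Cfsg.Agent.Lib.Helper83_U3Group Cfsg.Agent.Lib.Helper83_U3PJ

variable {F : Type*} [Field F] [Fintype F] {σ : F →+* F} {q : ℕ}

/-- a nonzero element of trace zero -/
theorem exists_eps (hF : Fintype.card F = q ^ 2) (hσq : ∀ x, σ x = x ^ q)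
    (hσ : ∀ x, σ (σ x) = x) : ∃ e : F, e ≠ 0 ∧ e + σ e = 0 := by
  by_cases h2 : (2 : F) = 0
  · exact ⟨1, one_ne_zero, by rw [map_one]; linear_combination h2⟩
  · have hq1 : 1 < q := by
      by_contra h
      push Not at h
      have h1 : q ^ 2 ≤ 1 := by interval_cases q <;> simp
      have h3 := Fintype.one_lt_card (α := F)
      omega
    obtain ⟨d, hd⟩ : ∃ d : F, σ d ≠ d := by
      by_contra hall
      push Not at hall
      have hsub : (Finset.univ : Finset F).val ⊆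
          (Polynomial.X ^ q - Polynomial.X : Polynomial F).roots := by
        intro x _
        rw [Polynomial.mem_roots (FiniteField.X_pow_card_sub_X_ne_zero F hq1)]
        simp [← hσq, hall]
      have h4 := Polynomial.card_le_degree_of_subset_roots hsub
      rw [FiniteField.X_pow_card_sub_X_natDegree_eq F hq1, Finset.card_univ, hF] at h4
      nlinarith
    exact ⟨d - σ d, sub_ne_zero.mpr (Ne.symm hd), by rw [map_sub, hσ]; ring⟩

omit [Fintype F] in
theorem mat_xJ_zero (hσ : ∀ x, σ (σ x) = x) (b : F) (hb : Par σ 0 b) :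
    mat (xJ hσ 0 b hb) = !![1, 0, b; 0, 1, 0; 0, 0, 1] := by
  show (xS σ 0 b).1 = _
  rw [xS_val hσ, map_zero, neg_zero]

omit [Fintype F] in
/-- **SL2**. -/
theorem conj_ZJ_mem_SLJ (hσ : ∀ x, σ (σ x) = x) (g : ↥(SUJ σ)) (h10 : mat g 1 0 = 0) {z : ↥(SUJ σ)}
    (hz : z ∈ ZJ hσ) : g * z * g⁻¹ ∈ SLJ hσ := by
  obtain ⟨b, hb, rfl⟩ := hz
  have hzm := mat_xJ_zero hσ b hb
  have hgi := mat_mul_inv g
  have e21 : mat g⁻¹ 2 1 = 0 := by
    rw [mat_inv_apply hσ]; show σ (mat g 1 0) = 0; rw [h10, map_zero]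
  have key : ∀ i j, mat (g * xJ hσ 0 b hb * g⁻¹) i j =
      (1 : Matrix (Fin 3) (Fin 3) F) i j + b * mat g i 0 * mat g⁻¹ 2 j := by
    intro i j
    rw [← hgi, mat_mul, mat_mul, hzm]
    simp [Matrix.mul_apply, Fin.sum_univ_three]
    ring
  refine ⟨⟨?_, ?_, ?_, ?_⟩, ?_⟩
  · show mat (g * xJ hσ 0 b hb * g⁻¹) 1 0 = 0
    rw [key, h10]; simp
  · show mat (g * xJ hσ 0 b hb * g⁻¹) 1 2 = 0
    rw [key, h10]; simp
  · show mat (g * xJ hσ 0 b hb * g⁻¹) 0 1 = 0
    rw [key, e21]; simp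
  · show mat (g * xJ hσ 0 b hb * g⁻¹) 2 1 = 0
    rw [key, e21]; simp
  · show mat (g * xJ hσ 0 b hb * g⁻¹) 1 1 = 1
    rw [key, h10]; simp

/-- **SL2**. -/
theorem SLJ_trans (hF : Fintype.card F = q ^ 2) (hσq : ∀ x, σ x = x ^ q) (hσ : ∀ x, σ (σ x) = x)
    (g : ↥(SUJ σ)) (h10 : mat g 1 0 = 0) : ∃ s ∈ SLJ hσ, s⁻¹ * g ∈ BJ σ := by
  by_cases h20 : mat g 2 0 = 0
  · exact ⟨1, (SLJ hσ).one_mem, by rw [inv_one, one_mul]; exact (mem_BJ_iff hσ).2 h20⟩
  · obtain ⟨e, he0, he⟩ := exists_eps hF hσq hσ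
    have hse : σ e = -e := by linear_combination he
    have r00 := rel g.2 0 0
    have j00 : (J3 : Matrix (Fin 3) (Fin 3) F) 0 0 = 0 := by simp [J3]
    rw [j00] at r00
    have r00' : mat g 0 0 * σ (mat g 2 0) + mat g 2 0 * σ (mat g 0 0) = 0 := by
      have : mat g 1 0 * σ (mat g 1 0) = 0 := by rw [h10, zero_mul]
      have r : mat g 0 0 * σ (mat g 2 0) + mat g 1 0 * σ (mat g 1 0)
          + mat g 2 0 * σ (mat g 0 0) = 0 := r00
      linear_combination r - this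
    have hs20 : σ (mat g 2 0) ≠ 0 := sigma_ne_zero h20
    obtain ⟨c, hcdef⟩ : ∃ c, c = mat g 0 0 / mat g 2 0 := ⟨_, rfl⟩
    have hcg : c * mat g 2 0 = mat g 0 0 := by rw [hcdef]; field_simp
    have hc : Par σ 0 c := by
      unfold Par
      rw [hcdef, map_div₀]
      field_simp
      linear_combination r00'
    have hsc : σ c = -c := by
      unfold Par at hc
      linear_combination hc
    have hl0 : -e⁻¹ ≠ 0 := neg_ne_zero.mpr (inv_ne_zero he0)
    obtain ⟨l, hl⟩ : ∃ l : Fˣ, (l : F) = -e⁻¹ := ⟨Units.mk0 _ hl0, rfl⟩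
    have hsl : σ (l : F) = e⁻¹ := by rw [hl, map_neg, map_inv₀, hse]; field_simp
    obtain ⟨s, hsdef⟩ : ∃ s, s = xJ hσ 0 c hc * wJ * tJ hσ l := ⟨_, rfl⟩
    have hsm : mat s = !![1, 0, c; 0, 1, 0; 0, 0, 1] * !![0, 0, 1; 0, -1, 0; 1, 0, 0] *
        !![(l : F), 0, 0; 0, σ (l : F) * (l : F)⁻¹, 0; 0, 0, (σ (l : F))⁻¹] := by
      rw [hsdef, mat_mul, mat_mul, mat_xJ_zero hσ]
      rfl
    have hmid : σ (l : F) * (l : F)⁻¹ = -1 := by
      rw [hsl, hl]; field_simp
    refine ⟨s, ⟨⟨?_, ?_, ?_, ?_⟩, ?_⟩, ?_⟩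
    · show mat s 1 0 = 0
      rw [hsm]; simp [Matrix.mul_apply, Fin.sum_univ_three]
    · show mat s 1 2 = 0
      rw [hsm]; simp [Matrix.mul_apply, Fin.sum_univ_three]
    · show mat s 0 1 = 0
      rw [hsm]; simp [Matrix.mul_apply, Fin.sum_univ_three]
    · show mat s 2 1 = 0
      rw [hsm]; simp [Matrix.mul_apply, Fin.sum_univ_three]
    · show mat s 1 1 = 1
      rw [hsm]; simp [Matrix.mul_apply, Fin.sum_univ_three, hmid]
    · rw [mem_BJ_iff hσ, mat_mul, Matrix.mul_apply, Fin.sum_univ_three, mat_inv_apply hσ,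
        mat_inv_apply hσ, mat_inv_apply hσ, h10]
      have e0 : mat s ((0 : Fin 3).rev) ((2 : Fin 3).rev) = l := by
        show mat s 2 0 = l
        rw [hsm]; simp [Matrix.mul_apply, Fin.sum_univ_three]
      have e2 : mat s ((2 : Fin 3).rev) ((2 : Fin 3).rev) = c * l := by
        show mat s 0 0 = c * l
        rw [hsm]; simp [Matrix.mul_apply, Fin.sum_univ_three]
      rw [e0, e2, map_mul, hsc]
      linear_combination (-σ (l : F)) * hcg

omit [Fintype F] in
/-- **SL2**. -/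
theorem SLJ_inf_BJ (hσ : ∀ x, σ (σ x) = x) {s : ↥(SUJ σ)} (hs : s ∈ SLJ hσ) (hb : s ∈ BJ σ) :
    ∃ (b : F) (hb : Par σ 0 b) (l : Fˣ), σ (l : F) = l ∧ s = xJ hσ 0 b hb * tJ hσ l := by
  obtain ⟨⟨s10, s12, s01, s21⟩, s11⟩ := hs
  obtain ⟨a, b, l, hpar, hdec⟩ := borel_decomp hσ s.2 hb.2
  have hl0 : (l : F) ≠ 0 := l.ne_zero
  have hsl0 : σ (l : F) ≠ 0 := sigma_ne_zero hl0
  have hm : mat s = !![1, σ a, b; 0, 1, -a; 0, 0, 1] *
      !![(l : F), 0, 0; 0, σ (l : F) * (l : F)⁻¹, 0; 0, 0, (σ (l : F))⁻¹] := by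
    show s.1.1 = _
    rw [hdec, Matrix.SpecialLinearGroup.coe_mul, xS_val hσ, tS_val]
  have h11 : σ (l : F) * (l : F)⁻¹ = 1 := by
    rw [← s11, hm]; simp [Matrix.mul_apply, Fin.sum_univ_three]
  have h12 : a * (σ (l : F))⁻¹ = 0 := by
    have : mat s 1 2 = -(a * (σ (l : F))⁻¹) := by
      rw [hm]; simp [Matrix.mul_apply, Fin.sum_univ_three]
    rw [s12] at this
    linear_combination this
  have ha : a = 0 := by
    rcases mul_eq_zero.1 h12 with h | h
    · exact h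
    · exact absurd h (inv_ne_zero hsl0)
  subst ha
  refine ⟨b, hpar, l, ?_, ?_⟩
  · field_simp at h11
    exact h11
  · apply su_ext
    rw [hdec]
    rfl

/-- **SL2**. -/
theorem SLJ_inf_center (hF : Fintype.card F = q ^ 2) (hσq : ∀ x, σ x = x ^ q)
    (hσ : ∀ x, σ (σ x) = x) : SLJ hσ ⊓ Subgroup.center ↥(SUJ σ) = ⊥ := by
  rw [eq_bot_iff]
  intro g hg
  obtain ⟨⟨⟨g10, g12, g01, g21⟩, g11⟩, hc⟩ := Subgroup.mem_inf.1 hg
  rw [Subgroup.mem_center_iff] at hc
  rw [Subgroup.mem_bot]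
  have hwm := congrArg mat (hc wJ)
  rw [mat_mul, mat_mul] at hwm
  have hwv : mat (wJ : ↥(SUJ σ)) = !![0, 0, 1; 0, -1, 0; 1, 0, 0] := rfl
  rw [hwv] at hwm
  have w00 := congrFun (congrFun hwm 0) 0
  have w02 := congrFun (congrFun hwm 0) 2
  simp [Matrix.mul_apply, Fin.sum_univ_three] at w00 w02
  by_cases h2 : (2 : F) = 0
  · have hp : Par σ 0 1 := by
      unfold Par; rw [map_one]; linear_combination h2
    have hx := congrArg mat (hc (xJ hσ 0 1 hp))
    rw [mat_mul, mat_mul, mat_xJ_zero hσ] at hx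
    have x00 := congrFun (congrFun hx 0) 0
    simp [Matrix.mul_apply, Fin.sum_univ_three] at x00
    have hdet : (mat g).det = 1 := g.1.2
    rw [Matrix.det_fin_three, g10, g12, g01, g21, g11] at hdet
    have h02 : mat g 0 2 = 0 := by rw [← w00, x00]
    have hsq : (mat g 0 0 - 1) ^ 2 = 0 := by
      rw [w02, h02] at hdet
      linear_combination hdet + (1 - mat g 0 0) * h2
    have h00 : mat g 0 0 = 1 := by
      have := pow_eq_zero_iff (two_ne_zero) |>.1 hsq
      linear_combination this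
    have h22 : mat g 2 2 = 1 := by rw [w02, h00]
    apply mat_ext
    ext i j
    fin_cases i <;> fin_cases j <;> simp [mat_one, g10, g12, g01, g21, g11, x00, h02, h00, h22]
  · have h2' : σ (2 : F) = 2 := map_ofNat σ 2
    have hp : Par σ 1 (-(2 : F)⁻¹) := by
      unfold Par
      rw [map_neg, map_inv₀, h2', map_one]
      field_simp
      ring
    have hx := congrArg mat (hc (xJ hσ 1 _ hp))
    have hxv : mat (xJ hσ 1 _ hp) = !![1, 1, -(2 : F)⁻¹; 0, 1, -1; 0, 0, 1] := by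
      show (xS σ 1 _).1 = _
      rw [xS_val hσ, map_one]
    rw [mat_mul, mat_mul, hxv] at hx
    have x10 := congrFun (congrFun hx 1) 0
    have x01 := congrFun (congrFun hx 0) 1
    simp [Matrix.mul_apply, Fin.sum_univ_three, g10, g12, g01, g21, g11] at x10 x01
    have h02 : mat g 0 2 = 0 := by rw [← w00, x10]
    have h00 : mat g 0 0 = 1 := x01.symm
    have h22 : mat g 2 2 = 1 := by rw [w02, h00]
    apply mat_ext
    ext i j
    fin_cases i <;> fin_cases j <;> simp [mat_one, g10, g12, g01, g21, g11, x10, h02, h00, h22]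

end Cfsg.Agent.Lib.Helper82_U3C_SL2
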