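import Mathlib
import Cfsg.Agent.Lib.Helper54_UTDefs
import Cfsg.Agent.Lib.Helper37_UTDefs
import Cfsg.Agent.Lib.Helper54_UTModel
import Cfsg.Agent.Lib.Helper17_UT_BAS1
import Cfsg.Agent.Lib.Helper31_UT_BAS3
import Cfsg.Agent.Lib.Helper44_UT_BAS4

set_option autoImplicit false
set_option linter.unusedSectionVars false
set_option linter.unusedVariables false

/-!
# UTENS PART I (sub-architect helper54), package MOD1: the Matrix model of `Helper37_UTDefs` is a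
tensor context, and `M` contains the Kronecker elements.
-/

namespace Cfsg.Agent.Lib.Helper82_UT1_MOD1

open Module
open Cfsg.Agent.Lib.Helper94_Symp Cfsg.Agent.Lib.Helper94_Herm Cfsg.Agent.Lib.Helper13_PSUSimple
  Cfsg.Agent.Lib.Helper94_FrmDefs Cfsg.Agent.Lib.Helper94_UDDefs Cfsg.Agent.Lib.Helper67_UT2Defs
  Cfsg.Agent.Lib.Helper54_UTDefs

section MODEL

open Matrix Cfsg.Agent.Lib.Helper98_ExtDefs Cfsg.Agent.Lib.Helper97_TensDefs
  Cfsg.Agent.Lib.Helper37_UTDefs Cfsg.Agent.Lib.Helper54_UTModel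

variable {F : Type*} [Field F] {ι κ : Type*} [Fintype ι] [Fintype κ] [DecidableEq ι]
  [DecidableEq κ] {σ : F →+* F}
variable {α : (ι → F) →ₗ[F] (ι → F) →ₛₗ[σ] F} {β : (κ → F) →ₗ[F] (κ → F) →ₛₗ[σ] F}
variable {M : Subgroup (Matrix ι κ F ≃ₗ[F] Matrix ι κ F)}

/-- the pure tensors span the matrices -/
theorem h82_span_pure :
    Submodule.span F {v : Matrix ι κ F | ∃ (x : ι → F) (y : κ → F), v = vm F ι κ x y} = ⊤ := by
  rw [eq_top_iff]
  intro X _
  refine Cfsg.Agent.Lib.Helper44_UT_BAS4.h44_induction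
    (p := fun X => X ∈ Submodule.span F
      {v : Matrix ι κ F | ∃ (x : ι → F) (y : κ → F), v = vm F ι κ x y}) ?_ ?_ ?_ X
  · exact Submodule.zero_mem _
  · intro X Y hX hY
    exact Submodule.add_mem _ hX hY
  · intro x y
    exact Submodule.subset_span ⟨x, y, rfl⟩

/-- MOD1 (M): the Matrix model is a tensor context (BAS1 `tf_pure`, BAS3 `tf_isHerm`, `tf_nondeg`
of `pending/helper37/UTENS_packages1.lean.txt`, `Helper73_Tens_TP1.eq_sum_col`) and `M` contains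
the Kronecker elements `tmE P Q` (BAS4 `tmE_mem_uG`, `det_tmE`; `isKron_tmE`, `tmE_pure`) -/
theorem model_ctx (hC : Cfsg.Agent.Lib.Helper37_UTDefs.UTCtx α β M) :
    TnCtx α β (tf α β) (vm F ι κ) ∧ TnHyp α β (tf α β) (vm F ι κ) M := by
  refine ⟨⟨hC.hσ, hC.hα, hC.hβ,
    Cfsg.Agent.Lib.Helper31_UT_BAS3.tf_isHerm hC.hσ hC.hα hC.hβ, hC.hαN, hC.hβN,
    Cfsg.Agent.Lib.Helper31_UT_BAS3.tf_nondeg hC.hσ hC.hα hC.hβ hC.hαN hC.hβN, ?_,
    h82_span_pure⟩, ⟨hC.hM, ?_⟩⟩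
  · intro x y x' y'
    rw [vm_apply, vm_apply]
    exact Cfsg.Agent.Lib.Helper17_UT_BAS1.tf_pure x x' y y'
  · intro P Q hP hQ
    refine ⟨tmE P Q, Cfsg.Agent.Lib.Helper44_UT_BAS4.tmE_mem hC hP hQ, ?_⟩
    intro x y
    rw [vm_apply, vm_apply]
    exact tmE_pure P Q x y

end MODEL

end Cfsg.Agent.Lib.Helper82_UT1_MOD1
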