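import Mathlib

/-!
# Marks of coset spaces and sets with prescribed stable marks (helper83)

For a finite group `H`: the number of fixed points of a subgroup `L` on a coset space `H ⧸ K`, the `H`-set
`XSet c = Σ K, Fin (c K) × H ⧸ K` attached to a multiplicity function `c`, its fixed point counts, and the existence,
for every conjugation-closed family `𝒟` of subgroups, of multiplicities supported on `𝒟` such that any two members of `𝒟`
of the same order have the same number of fixed points on `XSet c`.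
-/

set_option autoImplicit false

namespace Cfsg.Agent.Lib.Helper83_Biset

open Classical

variable {H : Type*} [Group H]

/-- The conjugate `h L h⁻¹`. -/
def cj (h : H) (L : Subgroup H) : Subgroup H := L.map (MulAut.conj h).toMonoidHom

theorem mem_cj (h : H) (L : Subgroup H) (x : H) : x ∈ cj h L ↔ h⁻¹ * x * h ∈ L := by
  unfold cj
  rw [Subgroup.mem_map]
  constructor
  · rintro ⟨y, hy, rfl⟩
    simp only [MulEquiv.coe_toMonoidHom, MulAut.conj_apply]
    have : h⁻¹ * (h * y * h⁻¹) * h = y := by group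
    rwa [this]
  · intro hx
    refine ⟨h⁻¹ * x * h, hx, ?_⟩
    simp only [MulEquiv.coe_toMonoidHom, MulAut.conj_apply]
    group

theorem cj_one (L : Subgroup H) : cj 1 L = L := by
  ext x
  rw [mem_cj]
  simp

theorem cj_cj (g h : H) (L : Subgroup H) : cj g (cj h L) = cj (g * h) L := by
  ext x
  rw [mem_cj, mem_cj, mem_cj]
  have : h⁻¹ * (g⁻¹ * x * g) * h = (g * h)⁻¹ * x * (g * h) := by group
  rw [this]

theorem card_cj (h : H) (L : Subgroup H) : Nat.card (cj h L) = Nat.card L := by
  unfold cj
  exact (Nat.card_congr (L.equivMapOfInjective _ (MulAut.conj h).injective).toEquiv).symm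

/-- The number of fixed points of `L` on `H ⧸ K`. -/
noncomputable def mark (K L : Subgroup H) : ℕ := Nat.card (MulAction.fixedPoints L (H ⧸ K))

theorem mk_mem_fixedPoints_iff (K L : Subgroup H) (h : H) :
    ((h : H ⧸ K) ∈ MulAction.fixedPoints L (H ⧸ K)) ↔ ∀ l ∈ L, h⁻¹ * l * h ∈ K := by
  rw [MulAction.mem_fixedPoints]
  constructor
  · intro hf l hl
    have := hf ⟨l, hl⟩
    have h2 : ((⟨l, hl⟩ : L) • (h : H ⧸ K)) = ((l * h : H) : H ⧸ K) := rfl
    rw [h2, QuotientGroup.eq] at this
    have h3 : h⁻¹ * l * h = ((l * h)⁻¹ * h)⁻¹ := by group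
    rw [h3]
    exact K.inv_mem this
  · intro hf l
    have h2 : (l • (h : H ⧸ K)) = (((l : H) * h : H) : H ⧸ K) := rfl
    rw [h2, QuotientGroup.eq]
    have h3 : ((l : H) * h)⁻¹ * h = (h⁻¹ * (l : H) * h)⁻¹ := by group
    rw [h3]
    exact K.inv_mem (hf l l.2)

theorem card_mul_mark (K L : Subgroup H) :
    Nat.card K * mark K L = Nat.card {h : H // ∀ l ∈ L, h⁻¹ * l * h ∈ K} := by
  unfold mark
  have e := QuotientGroup.preimageMkEquivSubgroupProdSet K (MulAction.fixedPoints L (H ⧸ K))
  rw [← Nat.card_prod, ← Nat.card_congr e]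
  apply Nat.card_congr
  apply Equiv.subtypeEquivRight
  intro h
  rw [Set.mem_preimage]
  exact mk_mem_fixedPoints_iff K L h

theorem mark_ne_zero [Finite H] {K L : Subgroup H} (h : mark K L ≠ 0) : ∃ g : H, cj g⁻¹ L ≤ K := by
  have h1 : Nat.card {h : H // ∀ l ∈ L, h⁻¹ * l * h ∈ K} ≠ 0 := by
    rw [← card_mul_mark]
    exact Nat.mul_ne_zero Nat.card_pos.ne' h
  have h2 := (Nat.card_ne_zero.mp h1).1
  obtain ⟨g, hg⟩ := h2
  refine ⟨g, ?_⟩
  intro x hx
  rw [mem_cj] at hx
  have := hg _ hx
  simp only [inv_inv] at this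
  have e : g⁻¹ * (g * x * g⁻¹) * g = x := by group
  rwa [e] at this

theorem mark_eq_zero_of_card_lt [Finite H] {K L : Subgroup H} (h : Nat.card K < Nat.card L) : mark K L = 0 := by
  by_contra h0
  obtain ⟨g, hg⟩ := mark_ne_zero h0
  have h1 := Subgroup.card_le_of_le hg
  rw [card_cj] at h1
  omega

theorem mark_cj [Finite H] (K L : Subgroup H) (g : H) : mark K (cj g L) = mark K L := by
  have h1 := card_mul_mark K (cj g L)
  have h2 := card_mul_mark K L
  have h3 : Nat.card {h : H // ∀ l ∈ cj g L, h⁻¹ * l * h ∈ K} = Nat.card {h : H // ∀ l ∈ L, h⁻¹ * l * h ∈ K} := by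
    apply Nat.card_congr
    refine Equiv.subtypeEquiv (Equiv.mulLeft g⁻¹) ?_
    intro h
    simp only [Equiv.coe_mulLeft]
    constructor
    · intro hf l hl
      have hl' : g * l * g⁻¹ ∈ cj g L := by
        rw [mem_cj]
        have e : g⁻¹ * (g * l * g⁻¹) * g = l := by group
        rwa [e]
      have := hf _ hl'
      have e : (g⁻¹ * h)⁻¹ * l * (g⁻¹ * h) = h⁻¹ * (g * l * g⁻¹) * h := by group
      rwa [e]
    · intro hf l hl
      rw [mem_cj] at hl
      have := hf _ hl
      have e : (g⁻¹ * h)⁻¹ * (g⁻¹ * l * g) * (g⁻¹ * h) = h⁻¹ * l * h := by group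
      rwa [e] at this
  rw [h3, ← h2] at h1
  exact Nat.eq_of_mul_eq_mul_left Nat.card_pos h1

/-- For subgroups of the same order, `|K| * mark K L` counts the `h` with `h⁻¹ L h = K`. -/
theorem card_mul_mark_of_card_eq [Finite H] {K L : Subgroup H} (h : Nat.card L = Nat.card K) :
    Nat.card K * mark K L = Nat.card {g : H // cj g⁻¹ L = K} := by
  rw [card_mul_mark]
  apply Nat.card_congr
  apply Equiv.subtypeEquivRight
  intro g
  constructor
  · intro hf
    apply Subgroup.eq_of_le_of_card_ge
    · intro x hx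
      rw [mem_cj] at hx
      have := hf _ hx
      simp only [inv_inv] at this
      have e : g⁻¹ * (g * x * g⁻¹) * g = x := by group
      rwa [e] at this
    · rw [card_cj, h]
  · intro hf l hl
    rw [← hf, mem_cj]
    simp only [inv_inv]
    have e : g * (g⁻¹ * l * g) * g⁻¹ = l := by group
    rwa [e]

/-! ### The `H`-set attached to a multiplicity function -/

/-- `Σ K, Fin (c K) × H ⧸ K`, as a structure. -/
structure XSet (c : Subgroup H → ℕ) where
  K : Subgroup H
  i : Fin (c K)
  q : H ⧸ K

/-- The underlying sigma type. -/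
def XSet.equivSigma (c : Subgroup H → ℕ) : XSet c ≃ Σ K : Subgroup H, Fin (c K) × (H ⧸ K) where
  toFun x := ⟨x.K, x.i, x.q⟩
  invFun y := ⟨y.1, y.2.1, y.2.2⟩
  left_inv _ := rfl
  right_inv _ := rfl

instance instSMulXSet (c : Subgroup H → ℕ) : SMul H (XSet c) where
  smul h x := ⟨x.K, x.i, h • x.q⟩

theorem smul_mk (c : Subgroup H → ℕ) (h : H) (K : Subgroup H) (i : Fin (c K)) (q : H ⧸ K) :
    h • (⟨K, i, q⟩ : XSet c) = ⟨K, i, h • q⟩ := rfl

instance instMulActionXSet (c : Subgroup H → ℕ) : MulAction H (XSet c) where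
  one_smul := by
    rintro ⟨K, i, q⟩
    rw [smul_mk, one_smul]
  mul_smul := by
    rintro g h ⟨K, i, q⟩
    rw [smul_mk, smul_mk, smul_mk, mul_smul]

theorem smul_mk_eq_iff (c : Subgroup H → ℕ) (h : H) (K : Subgroup H) (i : Fin (c K)) (q : H ⧸ K) :
    h • (⟨K, i, q⟩ : XSet c) = ⟨K, i, q⟩ ↔ h • q = q := by
  rw [smul_mk]
  constructor
  · intro e
    rw [XSet.mk.injEq] at e
    exact eq_of_heq e.2.2
  · intro e
    rw [e]

instance (c : Subgroup H → ℕ) [Finite H] : Finite (XSet c) :=
  Finite.of_equiv _ (XSet.equivSigma c).symm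

theorem card_fixed [Finite H] (c : Subgroup H → ℕ) (L : Subgroup H) [Fintype (Subgroup H)] :
    Nat.card {x : XSet c // ∀ l ∈ L, l • x = x} = ∑ K : Subgroup H, c K * mark K L := by
  have e : {x : XSet c // ∀ l ∈ L, l • x = x} ≃ Σ K : Subgroup H, Fin (c K) × MulAction.fixedPoints L (H ⧸ K) :=
    { toFun := fun x => ⟨x.1.K, x.1.i, ⟨x.1.q, by
        obtain ⟨⟨K, i, q⟩, hx⟩ := x
        rw [MulAction.mem_fixedPoints]
        intro l
        exact (smul_mk_eq_iff c (l : H) K i q).mp (hx l l.2)⟩⟩
      invFun := fun y => ⟨⟨y.1, y.2.1, y.2.2.1⟩, by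
        obtain ⟨K, i, ⟨q, hq⟩⟩ := y
        intro l hl
        rw [MulAction.mem_fixedPoints] at hq
        exact (smul_mk_eq_iff c l K i q).mpr (hq ⟨l, hl⟩)⟩
      left_inv := by
        rintro ⟨⟨K, i, q⟩, hx⟩
        rfl
      right_inv := by
        rintro ⟨K, i, ⟨q, hq⟩⟩
        rfl }
  rw [Nat.card_congr e, Nat.card_sigma]
  apply Finset.sum_congr rfl
  intro K _
  rw [Nat.card_prod, Nat.card_eq_fintype_card, Fintype.card_fin]
  rfl

theorem stabilizer_mk (c : Subgroup H → ℕ) (K : Subgroup H) (i : Fin (c K)) (h : H) :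
    MulAction.stabilizer H (⟨K, i, (h : H ⧸ K)⟩ : XSet c) = cj h K := by
  ext l
  rw [MulAction.mem_stabilizer_iff, smul_mk_eq_iff, mem_cj]
  have h2 : (l • (h : H ⧸ K)) = ((l * h : H) : H ⧸ K) := rfl
  rw [h2, QuotientGroup.eq]
  have h3 : (l * h)⁻¹ * h = (h⁻¹ * l * h)⁻¹ := by group
  rw [h3, inv_mem_iff]

theorem exists_stabilizer_eq (c : Subgroup H → ℕ) (x : XSet c) :
    ∃ (K : Subgroup H) (h : H), c K ≠ 0 ∧ MulAction.stabilizer H x = cj h K := by
  obtain ⟨K, i, q⟩ := x
  obtain ⟨h, rfl⟩ := QuotientGroup.mk_surjective q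
  refine ⟨K, h, ?_, stabilizer_mk c K i h⟩
  intro h0
  rw [h0] at i
  exact i.elim0

/-! ### Multiplicities with stable marks -/

/-- The number of fixed points of `L` on `XSet c`, as a sum. -/
noncomputable def fmark [Fintype (Subgroup H)] (c : Subgroup H → ℕ) (L : Subgroup H) : ℕ :=
  ∑ K : Subgroup H, c K * mark K L

theorem fmark_cj [Finite H] [Fintype (Subgroup H)] (c : Subgroup H → ℕ) (L : Subgroup H) (g : H) :
    fmark c (cj g L) = fmark c L := by
  unfold fmark
  apply Finset.sum_congr rfl
  intro K _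
  rw [mark_cj]

theorem exists_stable_aux [Finite H] [Fintype (Subgroup H)] (𝒟 : Set (Subgroup H))
    (hconj : ∀ K ∈ 𝒟, ∀ h : H, cj h K ∈ 𝒟) (K₀ : Subgroup H) (hK₀ : K₀ ∈ 𝒟) (d : ℕ) :
    ∃ c : Subgroup H → ℕ, (∀ K, c K ≠ 0 → K ∈ 𝒟) ∧ c K₀ ≠ 0 ∧
      ∀ K ∈ 𝒟, ∀ K' ∈ 𝒟, Nat.card K = Nat.card K' → Nat.card H - d < Nat.card K → fmark c K = fmark c K' := by
  letI := Fintype.ofFinite H
  induction d with
  | zero =>
    refine ⟨fun K => if K = K₀ then 1 else 0, ?_, ?_, ?_⟩
    · intro K hK
      by_cases h : K = K₀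
      · rw [h]; exact hK₀
      · simp [h] at hK
    · simp
    · intro K _ K' _ _ hlt
      exfalso
      have := Subgroup.card_le_card_group K
      omega
  | succ d ih =>
    obtain ⟨c, hc1, hc2, hc3⟩ := ih
    -- the order being handled
    set N := Nat.card H - d with hN
    set m := ∑ K : Subgroup H, fmark c K with hm
    have hle : ∀ K : Subgroup H, fmark c K ≤ m := fun K =>
      Finset.single_le_sum (f := fun K => fmark c K) (fun _ _ => Nat.zero_le _) (Finset.mem_univ K)
    let e : Subgroup H → ℕ := fun K => if K ∈ 𝒟 ∧ Nat.card K = N then N * (m - fmark c K) else 0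
    let c' : Subgroup H → ℕ := fun K => Nat.card H * c K + e K
    have hf' : ∀ L : Subgroup H, fmark c' L = Nat.card H * fmark c L + ∑ K : Subgroup H, e K * mark K L := by
      intro L
      unfold fmark
      rw [Finset.mul_sum, ← Finset.sum_add_distrib]
      apply Finset.sum_congr rfl
      intro K _
      show (Nat.card H * c K + e K) * mark K L = _
      ring
    -- large subgroups: the new orbits contribute nothing
    have hbig : ∀ L : Subgroup H, N < Nat.card L → fmark c' L = Nat.card H * fmark c L := by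
      intro L hL
      rw [hf' L]
      have : ∑ K : Subgroup H, e K * mark K L = 0 := by
        apply Finset.sum_eq_zero
        intro K _
        show (if K ∈ 𝒟 ∧ Nat.card K = N then N * (m - fmark c K) else 0) * mark K L = 0
        by_cases hK : K ∈ 𝒟 ∧ Nat.card K = N
        · rw [mark_eq_zero_of_card_lt (by rw [hK.2]; exact hL), mul_zero]
        · rw [if_neg hK, zero_mul]
      rw [this, add_zero]
    -- subgroups of order exactly N
    have heq : ∀ L ∈ 𝒟, Nat.card L = N → fmark c' L = Nat.card H * m := by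
      intro L hL𝒟 hLN
      rw [hf' L]
      have h1 : ∑ K : Subgroup H, e K * mark K L = Nat.card H * (m - fmark c L) := by
        have h2 : ∀ K : Subgroup H, e K * mark K L
            = ∑ g : H, if cj g⁻¹ L = K then (m - fmark c (cj g⁻¹ L)) else 0 := by
          intro K
          show (if K ∈ 𝒟 ∧ Nat.card K = N then N * (m - fmark c K) else 0) * mark K L = _
          by_cases hK : K ∈ 𝒟 ∧ Nat.card K = N
          · rw [if_pos hK]
            have h3 := card_mul_mark_of_card_eq (K := K) (L := L) (by rw [hLN, hK.2])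
            rw [hK.2] at h3
            have h4 : Nat.card {g : H // cj g⁻¹ L = K} = ∑ g : H, if cj g⁻¹ L = K then 1 else 0 := by
              rw [Nat.card_eq_fintype_card, Fintype.card_subtype, Finset.card_filter]
            calc N * (m - fmark c K) * mark K L = (m - fmark c K) * (N * mark K L) := by ring
              _ = (m - fmark c K) * ∑ g : H, (if cj g⁻¹ L = K then 1 else 0) := by rw [h3, h4]
              _ = ∑ g : H, (m - fmark c K) * (if cj g⁻¹ L = K then 1 else 0) := Finset.mul_sum _ _ _
              _ = _ := by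
                apply Finset.sum_congr rfl
                intro g _
                by_cases hg : cj g⁻¹ L = K
                · rw [if_pos hg, if_pos hg, hg, mul_one]
                · rw [if_neg hg, if_neg hg, mul_zero]
          · rw [if_neg hK, zero_mul]
            symm
            apply Finset.sum_eq_zero
            intro g _
            by_cases hg : cj g⁻¹ L = K
            · exfalso
              apply hK
              rw [← hg]
              exact ⟨hconj L hL𝒟 _, by rw [card_cj, hLN]⟩
            · rw [if_neg hg]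
        calc ∑ K : Subgroup H, e K * mark K L
            = ∑ K : Subgroup H, ∑ g : H, if cj g⁻¹ L = K then (m - fmark c (cj g⁻¹ L)) else 0 :=
              Finset.sum_congr rfl (fun K _ => h2 K)
          _ = ∑ g : H, ∑ K : Subgroup H, if cj g⁻¹ L = K then (m - fmark c (cj g⁻¹ L)) else 0 := Finset.sum_comm
          _ = ∑ g : H, (m - fmark c (cj g⁻¹ L)) := by
              apply Finset.sum_congr rfl
              intro g _
              rw [Finset.sum_ite_eq]
              simp
          _ = ∑ _g : H, (m - fmark c L) := by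
              apply Finset.sum_congr rfl
              intro g _
              rw [fmark_cj]
          _ = Nat.card H * (m - fmark c L) := by
              rw [Finset.sum_const, Finset.card_univ, Nat.card_eq_fintype_card, smul_eq_mul]
      rw [h1, ← Nat.mul_add, Nat.add_sub_cancel' (hle L)]
    refine ⟨c', ?_, ?_, ?_⟩
    · intro K hK
      by_cases h0 : c K ≠ 0
      · exact hc1 K h0
      · rw [not_not] at h0
        have : e K ≠ 0 := by
          intro he
          apply hK
          show Nat.card H * c K + e K = 0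
          rw [h0, he, mul_zero]
        by_contra hK𝒟
        apply this
        show (if K ∈ 𝒟 ∧ Nat.card K = N then N * (m - fmark c K) else 0) = 0
        rw [if_neg (fun h => hK𝒟 h.1)]
    · show Nat.card H * c K₀ + e K₀ ≠ 0
      have : Nat.card H * c K₀ ≠ 0 := Nat.mul_ne_zero Nat.card_pos.ne' hc2
      omega
    · intro K hK K' hK' hcard hlt
      have hcase : N < Nat.card K ∨ Nat.card K = N := by omega
      rcases hcase with h | h
      · rw [hbig K h, hbig K' (by rw [← hcard]; exact h), hc3 K hK K' hK' hcard (by omega)]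
      · rw [heq K hK h, heq K' hK' (by rw [← hcard]; exact h)]

/-- For a conjugation-closed family `𝒟` containing `K₀` there are multiplicities supported on `𝒟`, positive at `K₀`,
for which any two members of `𝒟` of the same order have the same number of fixed points on `XSet c`. -/
theorem exists_stable [Finite H] (𝒟 : Set (Subgroup H))
    (hconj : ∀ K ∈ 𝒟, ∀ h : H, cj h K ∈ 𝒟) (K₀ : Subgroup H) (hK₀ : K₀ ∈ 𝒟) :
    ∃ c : Subgroup H → ℕ, (∀ K, c K ≠ 0 → K ∈ 𝒟) ∧ c K₀ ≠ 0 ∧
      ∀ K ∈ 𝒟, ∀ K' ∈ 𝒟, Nat.card K = Nat.card K' →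
        Nat.card {x : XSet c // ∀ l ∈ K, l • x = x} = Nat.card {x : XSet c // ∀ l ∈ K', l • x = x} := by
  letI := Fintype.ofFinite (Subgroup H)
  obtain ⟨c, h1, h2, h3⟩ := exists_stable_aux 𝒟 hconj K₀ hK₀ (Nat.card H)
  refine ⟨c, h1, h2, ?_⟩
  intro K hK K' hK' hcard
  rw [card_fixed, card_fixed]
  apply h3 K hK K' hK' hcard
  rw [Nat.sub_self]
  exact Nat.card_pos

end Cfsg.Agent.Lib.Helper83_Biset
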