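import Cfsg.Agent.Lib.Helper83_RankOne

/-!
Elementary lemmas on sets of abstract root subgroups (Timmesfeld, chapter II section 2), for the
definitions of `Def_RootSubgroups`.
-/

set_option autoImplicit false
open Cfsg
open scoped commutatorElement

namespace Cfsg.Agent.Lib.Helper83_RootSets

open Cfsg.Agent.Lib.Helper83_RankOne

variable {G : Type*} [Group G]

theorem comm_of_mem {F : Subgroup G} (hF : IsMulCommutative F) {x y : G} (hx : x ∈ F) (hy : y ∈ F) :
    x * y = y * x := by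
  have := (isMulCommutative_iff.mp hF) ⟨x, hx⟩ ⟨y, hy⟩
  exact congrArg Subtype.val this

theorem commutator_eq_bot_iff_commute {A B : Subgroup G} :
    ⁅A, B⁆ = ⊥ ↔ ∀ a ∈ A, ∀ b ∈ B, a * b = b * a := by
  rw [Subgroup.commutator_eq_bot_iff_le_centralizer]
  constructor
  · intro h a ha b hb
    exact (Subgroup.mem_centralizer_iff.mp (h ha) b hb).symm
  · intro h a ha
    rw [Subgroup.mem_centralizer_iff]
    intro b hb
    exact (h a ha b hb).symm

theorem mem_normalizer_of_commute {C : Subgroup G} {x : G} (h : ∀ c ∈ C, x * c = c * x) :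
    x ∈ Subgroup.normalizer (C : Set G) := by
  apply Subgroup.centralizer_le_normalizer
  rw [Subgroup.mem_centralizer_iff]
  intro c hc
  exact (h c hc).symm

theorem exists_partner {S : Set (Subgroup G)} {A : Subgroup G}
    (hA : ¬ Cfsg.IsIsolatedIn (Cfsg.FAdj S) S A) (hAS : A ∈ S) :
    ∃ C ∈ S, Cfsg.IsRankOnePair A C := by
  unfold Cfsg.IsIsolatedIn at hA
  push Not at hA
  obtain ⟨C, hC⟩ := hA hAS
  by_cases h1 : Cfsg.FAdj S A C
  · exact ⟨C, h1.2.1, h1.2.2⟩
  · have h2 := hC h1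
    exact ⟨C, h2.1, Cfsg.RankOnePair_symm h2.2.2⟩

theorem not_isolated_of_partner {S : Set (Subgroup G)} {A C : Subgroup G} (hAS : A ∈ S) (hC : C ∈ S)
    (h : Cfsg.IsRankOnePair A C) : ¬ Cfsg.IsIsolatedIn (Cfsg.FAdj S) S A := by
  intro hi
  exact (hi.2 C).1 ⟨hAS, hC, h⟩

/-- In the commutator case for `(E, F)`, a conjugate of `F` by an element of `E` commutes
elementwise with `F`. -/
theorem conj_commute_of_commutatorCase {S : Set (Subgroup G)} {E F : Subgroup G}
    (hF : IsMulCommutative F) (hc : Cfsg.RootCommutatorCase S E F) {e : G} (he : e ∈ E) :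
    ∀ f₁ ∈ Cfsg.conjBy F e, ∀ f₂ ∈ F, f₁ * f₂ = f₂ * f₁ := by
  intro f₁ hf₁ f₂ hf₂
  rw [mem_conjBy_iff] at hf₁
  set f := e⁻¹ * f₁ * e with hf
  have hcm : ⁅e, f⁆ ∈ ⁅E, F⁆ := Subgroup.commutator_mem_commutator he hf₁
  have hcen := hc.2.1 _ hcm f₂ (Subgroup.mem_sup_right hf₂)
  have e1 : f₁ = ⁅e, f⁆ * f := by
    rw [commutatorElement_def, hf]; group
  rw [e1, mul_assoc, comm_of_mem hF hf₁ hf₂, ← mul_assoc, hcen, mul_assoc]

/-- In the commutator case for `(E, F)`, a conjugate of `E` by an element of `F` commutes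
elementwise with `E`. -/
theorem conj_commute_of_commutatorCase' {S : Set (Subgroup G)} {E F : Subgroup G}
    (hE : IsMulCommutative E) (hc : Cfsg.RootCommutatorCase S E F) {f : G} (hf : f ∈ F) :
    ∀ e₁ ∈ Cfsg.conjBy E f, ∀ e₂ ∈ E, e₁ * e₂ = e₂ * e₁ := by
  intro e₁ he₁ e₂ he₂
  rw [mem_conjBy_iff] at he₁
  set e := f⁻¹ * e₁ * f with he
  have hcm : ⁅e, f⁆ ∈ ⁅E, F⁆ := Subgroup.commutator_mem_commutator he₁ hf
  have hcm' : ⁅e, f⁆⁻¹ ∈ ⁅E, F⁆ := inv_mem hcm
  have hcen := hc.2.1 _ hcm' e₂ (Subgroup.mem_sup_left he₂)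
  have e1 : e₁ = ⁅e, f⁆⁻¹ * e := by
    rw [commutatorElement_def, he]; group
  rw [e1, mul_assoc, comm_of_mem hE he₁ he₂, ← mul_assoc, hcen, mul_assoc]

/-- In a rank one pair `(C, A)` the conjugate of `C` by a non-identity element of `A` does not
commute elementwise with `C`. -/
theorem not_commute_conjBy {C A : Subgroup G} (h : Cfsg.IsRankOnePair C A) {x : G} (hx : x ∈ A)
    (hx1 : x ≠ 1) : ¬ ∀ c₁ ∈ Cfsg.conjBy C x, ∀ c₂ ∈ C, c₁ * c₂ = c₂ * c₁ := by
  have hmem : Cfsg.conjBy C x ∈ Cfsg.unipotentSubgroups C A :=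
    ⟨x, Subgroup.mem_sup_right hx, rfl⟩
  have hne : Cfsg.conjBy C x ≠ C := by
    intro h1
    exact hx1 (eq_one_of_mem_of_mem_normalizer (Cfsg.RankOnePair_symm h) hx
      (mem_normalizer_of_conjBy_eq h1))
  have hp := (isRankOnePair_of_mem h hmem (self_mem_unipotentSubgroups C A) hne).1
  exact not_commute hp

/-- A member of `S` having a rank one partner in `S` meets every other member trivially. -/
theorem inf_eq_bot_or_eq {S : Set (Subgroup G)} (hS : Cfsg.IsRootSubgroupSet S) {A C : Subgroup G}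
    (hC : C ∈ S) (hAC : Cfsg.IsRankOnePair A C) :
    ∀ B ∈ S, A ⊓ B = ⊥ ∨ A = B := by
  intro B hB
  by_cases hAB : A = B
  · right; exact hAB
  left
  rw [eq_bot_iff]
  intro x hx
  rw [Subgroup.mem_inf] at hx
  obtain ⟨hxA, hxB⟩ := hx
  rw [Subgroup.mem_bot]
  by_contra hx1
  rcases hS.pair B hB C hC with h1 | h1 | h1
  · -- B commutes with C
    rw [commutator_eq_bot_iff_commute] at h1
    apply hx1
    exact eq_one_of_mem_of_mem_normalizer hAC hxA (mem_normalizer_of_commute (h1 x hxB))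
  · -- (B, C) is a rank one pair
    obtain ⟨c, hc, _, hconj⟩ := h1.cond_left x hxB hx1
    obtain ⟨c', hc', _, hconj'⟩ := hAC.cond_left x hxA hx1
    have hBeq : B = Cfsg.conjBy A (c * c'⁻¹) := by
      rw [← conjBy_mul, hconj', ← hconj, conjBy_conjBy_inv]
    have hBmem : B ∈ Cfsg.unipotentSubgroups A C :=
      ⟨c * c'⁻¹, Subgroup.mem_sup_right (mul_mem hc (inv_mem hc')), hBeq⟩
    have hbot := inf_normalizer_eq_bot_of_mem hAC hBmem (Ne.symm hAB)
    have : x ∈ A ⊓ Subgroup.normalizer (B : Set G) :=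
      Subgroup.mem_inf.mpr ⟨hxA, Subgroup.le_normalizer hxB⟩
    rw [hbot, Subgroup.mem_bot] at this
    exact hx1 this
  · -- commutator case for (B, C)
    have h2 := conj_commute_of_commutatorCase (hS.commutative C hC) h1 hxB
    exact not_commute_conjBy (Cfsg.RankOnePair_symm hAC) hxA hx1 h2

end Cfsg.Agent.Lib.Helper83_RootSets
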