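import Cfsg.Agent.Lib.Helper83_CommCase
import Cfsg.Agent.S5025

/-!
The commutator case, continued: subgroups of `⁅A, B⁆` in `S`, and exclusion of the rank one case
when `⁅A, B⁆ ∈ S`.
-/

set_option autoImplicit false
open Cfsg
open scoped commutatorElement

namespace Cfsg.Agent.Lib.Helper83_CommCase2

open Cfsg.Agent.Lib.Helper83_RankOne Cfsg.Agent.Lib.Helper83_RootSets
  Cfsg.Agent.Lib.Helper83_CommCase

variable {G : Type*} [Group G]

theorem conjBy_commutator_le_left {A B : Subgroup G} {a : G} (ha : a ∈ A) :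
    Cfsg.conjBy ⁅A, B⁆ a ≤ ⁅A, B⁆ := by
  unfold Cfsg.conjBy
  rw [Subgroup.map_le_iff_le_comap, Subgroup.commutator_le]
  intro a' ha' b hb
  rw [Subgroup.mem_comap]
  have e : (MulAut.conj a).toMonoidHom ⁅a', b⁆ = ⁅a * a', b⁆ * ⁅a, b⁆⁻¹ := by
    simp only [MulEquiv.toMonoidHom_eq_coe, MonoidHom.coe_coe, MulAut.conj_apply,
      commutatorElement_def]
    group
  rw [e]
  exact mul_mem (Subgroup.commutator_mem_commutator (mul_mem ha ha') hb)
    (inv_mem (Subgroup.commutator_mem_commutator ha hb))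

theorem conjBy_commutator_eq_left {A B : Subgroup G} {a : G} (ha : a ∈ A) :
    Cfsg.conjBy ⁅A, B⁆ a = ⁅A, B⁆ := by
  apply le_antisymm (conjBy_commutator_le_left ha)
  have h := conjBy_commutator_le_left (B := B) (inv_mem ha)
  have h2 := conjBy_mono h a
  rwa [conjBy_conjBy_inv] at h2

section

variable {S : Set (Subgroup G)} {A B D : Subgroup G}

/-- No member of `S` inside `⁅A, B⁆` commutes with the partner `D` of `A`. -/
theorem not_commute_partner (hS : Cfsg.IsRootSubgroupSet S) (hA : A ∈ S) (hD : D ∈ S)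
    (hAD : Cfsg.IsRankOnePair A D) (h : Cfsg.RootCommutatorCase S A B) {E : Subgroup G}
    (hE : E ∈ S) (hle : E ≤ ⁅A, B⁆) : ¬ ∀ e ∈ E, ∀ d ∈ D, e * d = d * e := by
  intro hcomm
  obtain ⟨e, he, he1⟩ : ∃ e ∈ E, e ≠ 1 := by
    by_contra hcon
    push Not at hcon
    apply hS.ne_bot E hE
    rw [eq_bot_iff]
    intro x hx
    rw [Subgroup.mem_bot]; exact hcon x hx
  obtain ⟨a, ha, ha1⟩ := exists_ne_one_left hAD
  have hec : e ∈ ⁅A, B⁆ := hle he
  have hz : e ∈ Subgroup.centralizer ((A ⊔ D : Subgroup G) : Set G) := by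
    rw [Subgroup.mem_centralizer_iff]
    intro x hx
    have hx' : x ∈ A ⊔ D := hx
    induction hx' using sup_induction with
    | left a' ha' => exact (comm_left h hec ha').symm
    | right d hd => exact (hcomm e he d hd).symm
    | one => simp
    | mul y z hy hz ihy ihz =>
      rw [mul_assoc, ihz hz, ← mul_assoc, ihy hy, mul_assoc]
  have hnot := Cfsg.Agent.S5025.result hS hA ⟨hD, hAD⟩ hz he1 a ha ha1
  apply hnot
  obtain ⟨b, hb, hmem⟩ := exists_mem_conjBy h ha ha1 hec
  rw [← comm_left h hec ha] at hmem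
  refine ⟨?_, Cfsg.conjBy A b, hS.conj_mem A hA b, hmem⟩
  intro h1
  have h2 : a = e⁻¹ := by
    rw [eq_inv_iff_mul_eq_one, ← comm_left h hec ha]; exact h1
  have : a ∈ A ⊓ ⁅A, B⁆ := Subgroup.mem_inf.mpr ⟨ha, by rw [h2]; exact inv_mem hec⟩
  rw [inf_commutator_eq_bot hS hD hAD h, Subgroup.mem_bot] at this
  exact ha1 this

/-- The only member of `S` inside `⁅A, B⁆` is `⁅A, B⁆` itself. -/
theorem eq_of_le_commutator (hS : Cfsg.IsRootSubgroupSet S) (hA : A ∈ S) (hD : D ∈ S)
    (hAD : Cfsg.IsRankOnePair A D) (h : Cfsg.RootCommutatorCase S A B) {E : Subgroup G}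
    (hE : E ∈ S) (hle : E ≤ ⁅A, B⁆) : E = ⁅A, B⁆ := by
  have hC : ⁅A, B⁆ ∈ S := h.1
  rcases hS.pair _ hC D hD with h1 | h1 | h1
  · exfalso
    exact not_commute_partner hS hA hD hAD h hC le_rfl (commutator_eq_bot_iff_commute.mp h1)
  · rcases inf_eq_bot_or_eq hS hD h1 E hE with h2 | h2
    · rw [inf_eq_right.mpr hle] at h2
      exact absurd h2 (hS.ne_bot E hE)
    · exact h2.symm
  · rcases hS.pair E hE D hD with h2 | h2 | h2
    · exfalso
      exact not_commute_partner hS hA hD hAD h hE hle (commutator_eq_bot_iff_commute.mp h2)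
    · exfalso
      obtain ⟨e, he, he1⟩ := exists_ne_one_left h2
      obtain ⟨d, hd, _, hconj⟩ := h2.cond_left e he he1
      have hp := isRankOnePair_conj h2 d⁻¹
      rw [conjBy_self_mem (inv_mem hd), hconj] at hp
      exact not_commute hp
        (conj_commute_of_commutatorCase (hS.commutative D hD) h1 (inv_mem (hle he)))
    · -- both (⁅A,B⁆, D) and (E, D) are in the commutator case
      obtain ⟨e, he, he1⟩ : ∃ e ∈ E, e ≠ 1 := by
        by_contra hcon
        push Not at hcon
        apply hS.ne_bot E hE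
        rw [eq_bot_iff]
        intro x hx
        rw [Subgroup.mem_bot]; exact hcon x hx
      have hF : ⁅E, D⁆ = ⁅⁅A, B⁆, D⁆ := by
        rw [← h2.2.2.1 e he he1, ← h1.2.2.1 e (hle he) he1]
      have hDC := commutatorCase_symm h1
      have hDE := commutatorCase_symm h2
      have hDA := Cfsg.RankOnePair_symm hAD
      obtain ⟨d, hd, hd1⟩ := exists_ne_one_right hAD
      apply le_antisymm hle
      intro c hc
      have h3 : ⁅d, c⁆ ∈ ⁅D, E⁆ := by
        rw [Subgroup.commutator_comm D E, hF, Subgroup.commutator_comm _ D]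
        exact Subgroup.commutator_mem_commutator hd hc
      obtain ⟨e', he', hee⟩ := exists_commutator_eq hDE hd hd1 h3
      have hinj := commHom_injective hS hD hA hDA hDC hd hd1
      have h4 : commHom hDC hd ⟨e', hle he'⟩ = commHom hDC hd ⟨c, hc⟩ := by
        apply Subtype.ext
        simp only [commHom_apply]
        exact hee
      have h5 := hinj h4
      have h6 : e' = c := congrArg Subtype.val h5
      rw [← h6]; exact he'

/-- If `⁅A, B⁆ ∈ S` and `A` has a rank one partner then `(A, B)` is in the commutator case. -/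
theorem commutatorCase_of_mem (hS : Cfsg.IsRootSubgroupSet S) (hA : A ∈ S) (hB : B ∈ S)
    (hC : ⁅A, B⁆ ∈ S) : Cfsg.RootCommutatorCase S A B := by
  rcases hS.pair A hA B hB with h1 | hAB | h1
  · exact absurd h1 (hS.ne_bot _ hC)
  · exfalso
    -- B ≤ A ⊔ ⁅A, B⁆
    have hBle : B ≤ A ⊔ ⁅A, B⁆ := by
      obtain ⟨a, ha, ha1⟩ := exists_ne_one_left hAB
      obtain ⟨b, hb, _, hconj⟩ := hAB.cond_left a ha ha1
      intro b' hb'
      have h2 : a⁻¹ * b' * a ∈ Cfsg.conjBy B a⁻¹ := by
        have := conj_mem_conjBy hb' a⁻¹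
        rwa [inv_inv] at this
      rw [← hconj, mem_conjBy_iff, inv_inv] at h2
      set a' := b * (a⁻¹ * b' * a) * b⁻¹ with ha'
      have hcm : ⁅b⁻¹, a'⁆ ∈ ⁅A, B⁆ := by
        rw [Subgroup.commutator_comm A B]
        exact Subgroup.commutator_mem_commutator (inv_mem hb) h2
      have e : b' = a * ⁅b⁻¹, a'⁆ * a' * a⁻¹ := by
        rw [commutatorElement_def, ha']; group
      rw [e]
      exact mul_mem (mul_mem (mul_mem (Subgroup.mem_sup_left ha) (Subgroup.mem_sup_right hcm))
        (Subgroup.mem_sup_left h2)) (Subgroup.mem_sup_left (inv_mem ha))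
    rcases hS.pair A hA _ hC with h2 | h2 | h2
    · -- A commutes with ⁅A, B⁆, hence with B
      rw [commutator_eq_bot_iff_commute] at h2
      apply not_commute hAB
      intro a ha
      have key : ∀ y ∈ A ⊔ ⁅A, B⁆, a * y = y * a := by
        intro y hy
        induction hy using sup_induction with
        | left a' ha' => exact comm_of_mem (hS.commutative A hA) ha ha'
        | right c hc => exact h2 a ha c hc
        | one => simp
        | mul y z _ _ ihy ihz => rw [← mul_assoc, ihy, mul_assoc, ihz, mul_assoc]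
      intro b hb
      exact key b (hBle hb)
    · -- (A, ⁅A, B⁆) a rank one pair: impossible since A normalizes ⁅A, B⁆
      obtain ⟨a, ha, ha1⟩ := exists_ne_one_left h2
      obtain ⟨c, hc, _, hconj⟩ := h2.cond_left a ha ha1
      rw [conjBy_commutator_eq_left (inv_mem ha)] at hconj
      apply h2.ne
      have h3 : Cfsg.conjBy (Cfsg.conjBy A c⁻¹) c = Cfsg.conjBy ⁅A, B⁆ c := by rw [hconj]
      rw [conjBy_conjBy_inv, conjBy_self_mem hc] at h3
      exact h3
    · -- (A, ⁅A, B⁆) in the commutator case: then ⟨A, B⟩ has class two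
      have key : ∀ a ∈ A, ∀ y ∈ A ⊔ ⁅A, B⁆, ⁅a, y⁆ ∈ ⁅A, ⁅A, B⁆⁆ := by
        intro a ha y hy
        induction hy using sup_induction with
        | left a' ha' =>
          have : ⁅a, a'⁆ = 1 := by
            rw [commutatorElement_eq_one_iff_mul_comm]
            exact comm_of_mem (hS.commutative A hA) ha ha'
          rw [this]; exact one_mem _
        | right c hc => exact Subgroup.commutator_mem_commutator ha hc
        | one =>
          have : ⁅a, (1 : G)⁆ = 1 := by simp [commutatorElement_def]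
          rw [this]; exact one_mem _
        | mul y z hy hz ihy ihz =>
          have e : ⁅a, y * z⁆ = ⁅a, y⁆ * (y * ⁅a, z⁆ * y⁻¹) := by
            simp only [commutatorElement_def]; group
          have hcz := h2.2.1 _ ihz y hy
          rw [e, ← hcz, mul_assoc, mul_inv_cancel, mul_one]
          exact mul_mem ihy ihz
      obtain ⟨a, ha, ha1⟩ := exists_ne_one_left hAB
      apply not_commute_conjBy (Cfsg.RankOnePair_symm hAB) ha ha1
      intro f₁ hf₁ f₂ hf₂
      rw [mem_conjBy_iff] at hf₁
      set b := a⁻¹ * f₁ * a with hb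
      have hcm := key a ha b (hBle hf₁)
      have hcen := h2.2.1 _ hcm f₂ (hBle hf₂)
      have e1 : f₁ = ⁅a, b⁆ * b := by
        rw [commutatorElement_def, hb]; group
      rw [e1, mul_assoc, comm_of_mem (hS.commutative B hB) hf₁ hf₂, ← mul_assoc, hcen, mul_assoc]
  · exact h1

end

end Cfsg.Agent.Lib.Helper83_CommCase2
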