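import Mathlib

set_option autoImplicit false

/-!
A cycle argument for two involutions `a`, `x` with product of odd order acting on an elementary
abelian 2-group `R`: the endomorphism `φ t = t^x (t^x)^a` of `C_R(a)` has kernel `C_R(⟨a, x⟩)`, and
its image meets the kernel trivially, so that every `b ∈ C_R(a)` is, modulo `C_R(⟨a, x⟩)`, an
iterate `φ^m b` with `m ≥ 1`.
-/

namespace Cfsg.Agent.Lib.Helper83_Cycle

variable {G : Type*} [Group G]

structure Setup (R : Subgroup G) (a x : G) : Prop where
  comm : ∀ s ∈ R, ∀ t ∈ R, s * t = t * s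
  sq : ∀ t ∈ R, t * t = 1
  aa : a * a = 1
  xx : x * x = 1
  conj_a : ∀ t ∈ R, a * t * a ∈ R
  conj_x : ∀ t ∈ R, x * t * x ∈ R
  odd : Odd (orderOf (a * x))

/-- the map `φ` -/
def phi (a x t : G) : G := (x * t * x) * (a * (x * t * x) * a)

variable {R : Subgroup G} {a x : G}

theorem phi_mem (h : Setup R a x) {t : G} (ht : t ∈ R) : phi a x t ∈ R :=
  R.mul_mem (h.conj_x t ht) (h.conj_a _ (h.conj_x t ht))

theorem phi_comm_a (h : Setup R a x) {t : G} (ht : t ∈ R) : a * phi a x t = phi a x t * a := by
  have h1 := h.conj_x t ht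
  have h2 := h.conj_a _ h1
  have h3 := h.comm _ h1 _ h2
  unfold phi
  have haa := h.aa
  calc a * (x * t * x * (a * (x * t * x) * a))
      = a * (a * (x * t * x) * a * (x * t * x)) := by rw [h3]
    _ = (a * a) * (x * t * x) * a * (x * t * x) := by group
    _ = (x * t * x) * a * (x * t * x) * (a * a) := by rw [haa, one_mul, mul_one]
    _ = (x * t * x) * (a * (x * t * x) * a) * a := by group

theorem phi_mul (h : Setup R a x) {s t : G} (hs : s ∈ R) (ht : t ∈ R) :
    phi a x (s * t) = phi a x s * phi a x t := by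
  have hs1 := h.conj_x s hs
  have ht1 := h.conj_x t ht
  have hs2 := h.conj_a _ hs1
  have ht2 := h.conj_a _ ht1
  unfold phi
  have hxx := h.xx
  have haa := h.aa
  have e1 : x * (s * t) * x = (x * s * x) * (x * t * x) := by
    calc x * (s * t) * x = x * s * (x * x)⁻¹ * t * x := by rw [hxx]; group
      _ = x * s * (x * x) * t * x := by rw [hxx]; group
      _ = (x * s * x) * (x * t * x) := by group
  have e2 : a * ((x * s * x) * (x * t * x)) * a = (a * (x * s * x) * a) * (a * (x * t * x) * a) := by
    calc a * ((x * s * x) * (x * t * x)) * a = a * (x * s * x) * (a * a)⁻¹ * (x * t * x) * a := by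
          rw [haa]; group
      _ = a * (x * s * x) * (a * a) * (x * t * x) * a := by rw [haa]; group
      _ = (a * (x * s * x) * a) * (a * (x * t * x) * a) := by group
  rw [e1, e2]
  set p := x * s * x
  set q := x * t * x
  set p' := a * p * a
  set q' := a * q * a
  have c1 := h.comm q ht1 p' hs2
  calc p * q * (p' * q') = p * (q * p') * q' := by group
    _ = p * (p' * q) * q' := by rw [c1]
    _ = p * p' * (q * q') := by group

theorem phi_fix (h : Setup R a x) {t : G} (ht : t ∈ R) (hta : a * t = t * a) (htx : x * t = t * x) :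
    phi a x t = 1 := by
  unfold phi
  have e1 : x * t * x = t := by rw [htx, mul_assoc, h.xx, mul_one]
  rw [e1]
  have e2 : a * t * a = t := by rw [hta, mul_assoc, h.aa, mul_one]
  rw [e2]
  exact h.sq t ht

/-- an involution with trivial odd power is trivial -/
theorem eq_one_of_pow_odd' {z : G} (hz : z * z = 1) {n : ℕ} (hn : Odd n) (h : z ^ n = 1) : z = 1 := by
  obtain ⟨k, rfl⟩ := hn
  have h2 : (z ^ 2) ^ k = 1 := by rw [pow_two, hz, one_pow]
  rw [pow_succ, pow_mul, h2, one_mul] at h
  exact h

/-- The key step: if `φ t` is centralized by `x` then `φ t = 1` and `t` is centralized by `x`. -/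
theorem key (h : Setup R a x) {t : G} (ht : t ∈ R) (hta : a * t = t * a)
    (hgx : x * phi a x t = phi a x t * x) : phi a x t = 1 ∧ x * t = t * x := by
  have haa := h.aa
  have hxx := h.xx
  have htt := h.sq t ht
  set g := phi a x t with hg
  have hgR : g ∈ R := phi_mem h ht
  have hgg := h.sq g hgR
  have hga : a * g = g * a := phi_comm_a h ht
  set r := a * x with hr
  have hrinv : r⁻¹ = x * a := by
    rw [hr, mul_inv_rev, inv_eq_of_mul_eq_one_left hxx, inv_eq_of_mul_eq_one_left haa]
  have hgr : r * g = g * r := by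
    calc r * g = a * (x * g) := by rw [hr]; group
      _ = a * (g * x) := by rw [hgx]
      _ = (a * g) * x := by group
      _ = (g * a) * x := by rw [hga]
      _ = g * r := by rw [hr]; group
  -- g = (r⁻¹ t r) (r t r⁻¹)
  have hata : a * t * a = t := by rw [hta, mul_assoc, haa, mul_one]
  have e1 : x * t * x = r⁻¹ * t * r := by
    rw [hrinv, hr]
    calc x * t * x = x * (a * t * a) * x := by rw [hata]
      _ = x * a * t * (a * x) := by group
  have e2 : a * (x * t * x) * a = r * t * r⁻¹ := by
    rw [hrinv, hr]; group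
  have hgdef : g = (r⁻¹ * t * r) * (r * t * r⁻¹) := by
    rw [hg]; unfold phi; rw [e2, e1]
  -- conjugation by u = r²
  set u := r * r with hu
  have hinv2 : (r * t * r⁻¹) * (r * t * r⁻¹) = 1 := by
    calc (r * t * r⁻¹) * (r * t * r⁻¹) = r * (t * t) * r⁻¹ := by group
      _ = 1 := by rw [htt]; group
  have hstep : u⁻¹ * t * u = g * t := by
    have h1 : r⁻¹ * t * r = g * (r * t * r⁻¹) := by
      calc r⁻¹ * t * r = (r⁻¹ * t * r) * 1 := by rw [mul_one]
        _ = (r⁻¹ * t * r) * ((r * t * r⁻¹) * (r * t * r⁻¹)) := by rw [hinv2]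
        _ = ((r⁻¹ * t * r) * (r * t * r⁻¹)) * (r * t * r⁻¹) := by group
        _ = g * (r * t * r⁻¹) := by rw [← hgdef]
    have hgr' : r⁻¹ * g * r = g := by
      calc r⁻¹ * g * r = r⁻¹ * (g * r) := by group
        _ = r⁻¹ * (r * g) := by rw [hgr]
        _ = g := by group
    calc u⁻¹ * t * u = r⁻¹ * (r⁻¹ * t * r) * r := by rw [hu]; group
      _ = r⁻¹ * (g * (r * t * r⁻¹)) * r := by rw [h1]
      _ = (r⁻¹ * g * r) * t := by group
      _ = g * t := by rw [hgr']
  have hgu : u⁻¹ * g * u = g := by
    have : u * g = g * u := by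
      calc u * g = r * (r * g) := by rw [hu]; group
        _ = r * (g * r) := by rw [hgr]
        _ = (r * g) * r := by group
        _ = (g * r) * r := by rw [hgr]
        _ = g * u := by rw [hu]; group
    calc u⁻¹ * g * u = u⁻¹ * (g * u) := by group
      _ = u⁻¹ * (u * g) := by rw [this]
      _ = g := by group
  have hiter : ∀ k : ℕ, (u ^ k)⁻¹ * t * u ^ k = g ^ k * t := by
    intro k
    induction k with
    | zero => simp
    | succ k ih =>
      have hgk : u⁻¹ * g ^ k * u = g ^ k := by
        have : u⁻¹ * g ^ k * u = (u⁻¹ * g * u) ^ k := by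
          have := conj_pow (a := u⁻¹) (b := g) (i := k)
          rw [inv_inv] at this
          exact this.symm
        rw [this, hgu]
      calc (u ^ (k + 1))⁻¹ * t * u ^ (k + 1) = u⁻¹ * ((u ^ k)⁻¹ * t * u ^ k) * u := by
            rw [pow_succ]; group
        _ = u⁻¹ * (g ^ k * t) * u := by rw [ih]
        _ = (u⁻¹ * g ^ k * u) * (u⁻¹ * t * u) := by group
        _ = g ^ k * (g * t) := by rw [hgk, hstep]
        _ = g ^ (k + 1) * t := by rw [pow_succ]; group
  have hun : u ^ orderOf r = 1 := by
    rw [hu, ← pow_two, ← pow_mul, mul_comm, pow_mul, pow_orderOf_eq_one, one_pow]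
  have hgn : g ^ orderOf r = 1 := by
    have := hiter (orderOf r)
    rw [hun] at this
    simp only [inv_one, one_mul, mul_one] at this
    exact (mul_eq_right.mp this.symm)
  have hg1 : g = 1 := eq_one_of_pow_odd' hgg h.odd hgn
  refine ⟨hg1, ?_⟩
  -- t commutes with u, hence with r, hence with x
  have htu : u⁻¹ * t * u = t := by rw [hstep, hg1, one_mul]
  have htu' : t * u = u * t := by
    calc t * u = u * (u⁻¹ * t * u) := by group
      _ = u * t := by rw [htu]
  obtain ⟨k, hk⟩ := h.odd
  have hrk : r = u ^ (k + 1) := by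
    have : u ^ (k + 1) = r ^ (orderOf r) * r := by
      rw [hu, hk, ← pow_two, ← pow_mul, ← pow_succ]
      congr 1
    rw [this, pow_orderOf_eq_one, one_mul]
  have htr : t * r = r * t := by
    rw [hrk]
    exact ((Commute.pow_right (show Commute t u from htu') (k + 1))).eq
  calc x * t = a * (a * x * t) := by rw [← mul_assoc, ← mul_assoc, haa, one_mul]
    _ = a * (r * t) := by rw [hr]
    _ = a * (t * r) := by rw [htr]
    _ = (a * t) * r := by group
    _ = (t * a) * r := by rw [hta]
    _ = t * (a * (a * x)) := by rw [hr]; group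
    _ = t * x := by rw [← mul_assoc a, haa, one_mul]

theorem iter_mem (h : Setup R a x) {b : G} (hb : b ∈ R) (k : ℕ) : (phi a x)^[k] b ∈ R := by
  induction k with
  | zero => exact hb
  | succ k ih => rw [Function.iterate_succ_apply']; exact phi_mem h ih

theorem iter_comm_a (h : Setup R a x) {b : G} (hb : b ∈ R) (hba : a * b = b * a) (k : ℕ) :
    a * (phi a x)^[k] b = (phi a x)^[k] b * a := by
  cases k with
  | zero => exact hba
  | succ k => rw [Function.iterate_succ_apply']; exact phi_comm_a h (iter_mem h hb k)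

theorem descent (h : Setup R a x) {b : G} (hb : b ∈ R) (hba : a * b = b * a) :
    ∀ i m : ℕ, ∀ g ∈ R, a * g = g * a → x * g = g * x →
      (phi a x)^[i + m] b = (phi a x)^[i] b * g →
      ∃ g' ∈ R, a * g' = g' * a ∧ x * g' = g' * x ∧ (phi a x)^[m] b = b * g' := by
  intro i
  induction i with
  | zero =>
    intro m g hg hga hgx heq
    rw [Nat.zero_add] at heq
    exact ⟨g, hg, hga, hgx, heq⟩
  | succ i ih =>
    intro m g hg hga hgx heq
    have e1 : i + 1 + m = (i + m) + 1 := by omega
    rw [e1, Function.iterate_succ_apply', Function.iterate_succ_apply'] at heq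
    set P := (phi a x)^[i + m] b with hP
    set Q := (phi a x)^[i] b with hQ
    have hPR : P ∈ R := iter_mem h hb _
    have hQR : Q ∈ R := iter_mem h hb _
    have hPa : a * P = P * a := iter_comm_a h hb hba _
    have hQa : a * Q = Q * a := iter_comm_a h hb hba _
    have hsR : P * Q ∈ R := R.mul_mem hPR hQR
    have hsa : a * (P * Q) = (P * Q) * a := by
      calc a * (P * Q) = (a * P) * Q := by group
        _ = (P * a) * Q := by rw [hPa]
        _ = P * (a * Q) := by group
        _ = P * (Q * a) := by rw [hQa]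
        _ = (P * Q) * a := by group
    have hphiQ : phi a x Q ∈ R := phi_mem h hQR
    have hphis : phi a x (P * Q) = g := by
      rw [phi_mul h hPR hQR, heq]
      have c1 := h.comm g hg _ hphiQ
      calc phi a x Q * g * phi a x Q = phi a x Q * (g * phi a x Q) := by group
        _ = phi a x Q * (phi a x Q * g) := by rw [c1]
        _ = (phi a x Q * phi a x Q) * g := by group
        _ = g := by rw [h.sq _ hphiQ, one_mul]
    have hkey := key h hsR hsa (by rw [hphis]; exact hgx)
    have hPQ : P = Q * (P * Q) := by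
      have c1 := h.comm Q hQR P hPR
      calc P = P * (Q * Q) := by rw [h.sq Q hQR, mul_one]
        _ = (P * Q) * Q := by group
        _ = (Q * P) * Q := by rw [c1]
        _ = Q * (P * Q) := by group
    exact ih m (P * Q) hsR hsa hkey.2 hPQ

/-- Every `b ∈ C_R(a)` is, modulo `C_R(⟨a, x⟩)`, an iterate `φ^m b` with `m ≥ 1`. -/
theorem exists_iterate [Finite G] (h : Setup R a x) {b : G} (hb : b ∈ R) (hba : a * b = b * a) :
    ∃ m : ℕ, 1 ≤ m ∧ ∃ g ∈ R, a * g = g * a ∧ x * g = g * x ∧ (phi a x)^[m] b = b * g := by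
  obtain ⟨i, j, hij, heq⟩ := Finite.exists_ne_map_eq_of_infinite (fun k : ℕ => (phi a x)^[k] b)
  have main : ∀ i j : ℕ, i < j → (phi a x)^[i] b = (phi a x)^[j] b →
      ∃ m : ℕ, 1 ≤ m ∧ ∃ g ∈ R, a * g = g * a ∧ x * g = g * x ∧ (phi a x)^[m] b = b * g := by
    intro i j hlt heq
    refine ⟨j - i, by omega, ?_⟩
    apply descent h hb hba i (j - i) 1 R.one_mem (by simp) (by simp)
    have : i + (j - i) = j := by omega
    rw [this, mul_one]
    exact heq.symm
  rcases lt_or_gt_of_ne hij with hlt | hlt
  · exact main i j hlt heq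
  · exact main j i hlt heq.symm

end Cfsg.Agent.Lib.Helper83_Cycle
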