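import Cfsg.Agent.Lib.Helper83_CommCase

/-!
A subgroup `P` centralizing a rank one pair `(U, V)` of abstract root subgroups: no member `E ≠ V`
of `S` inside `P ⊔ V` contains an element `ν * c` with `1 ≠ ν ∈ V`, `c ∈ P`
(Timmesfeld: a member of `Σ` commuting with `C` is never opposite to a member collinear with `C`).
-/

set_option autoImplicit false
open Cfsg
open scoped commutatorElement

namespace Cfsg.Agent.Lib.Helper83_DLemma

open Cfsg.Agent.Lib.Helper83_RankOne Cfsg.Agent.Lib.Helper83_RootSets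
open Cfsg.Agent.Lib.Helper83_CommCase

variable {G : Type*} [Group G]

/-- In a rank one pair, non-identity elements of the two subgroups never commute. -/
theorem not_commute_elts {U V : Subgroup G} (h : Cfsg.IsRankOnePair U V) {a ν : G} (ha : a ∈ U)
    (ha1 : a ≠ 1) (hν : ν ∈ V) (hν1 : ν ≠ 1) : a * ν ≠ ν * a := by
  intro hc
  have hmem : Cfsg.conjBy V a ∈ Cfsg.unipotentSubgroups V U :=
    conjBy_mem_unipotentSubgroups (self_mem_unipotentSubgroups V U) (Subgroup.mem_sup_right ha)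
  have hne : Cfsg.conjBy V a ≠ V := by
    intro h1
    exact ha1 (eq_one_of_mem_of_mem_normalizer h ha (mem_normalizer_of_conjBy_eq h1))
  have hνN : ν ∈ Subgroup.normalizer ((Cfsg.conjBy V a : Subgroup G) : Set G) := by
    rw [mem_normalizer_conjBy_iff]
    have e : a⁻¹ * ν * a = ν := by
      calc a⁻¹ * ν * a = a⁻¹ * (ν * a) := by group
        _ = a⁻¹ * (a * ν) := by rw [hc]
        _ = ν := by group
    rw [e]
    exact Subgroup.le_normalizer hν
  have h2 := inf_normalizer_eq_bot_of_mem (Cfsg.RankOnePair_symm h) hmem hne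
  have h3 : ν ∈ V ⊓ Subgroup.normalizer ((Cfsg.conjBy V a : Subgroup G) : Set G) :=
    Subgroup.mem_inf.mpr ⟨hν, hνN⟩
  rw [h2, Subgroup.mem_bot] at h3
  exact hν1 h3

theorem conjBy_eq_of_commute {Q : Subgroup G} {x : G} (h : ∀ q ∈ Q, x * q = q * x) :
    Cfsg.conjBy Q x = Q := by
  ext y
  rw [mem_conjBy_iff]
  constructor
  · intro hy
    have h1 := h _ hy
    have e : y = x⁻¹ * y * x := by
      calc y = x * (x⁻¹ * y * x) * x⁻¹ := by group
        _ = (x⁻¹ * y * x) * x * x⁻¹ := by rw [h1]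
        _ = x⁻¹ * y * x := by group
    rw [e]; exact hy
  · intro hy
    have h1 := h _ hy
    have e : x⁻¹ * y * x = y := by
      calc x⁻¹ * y * x = x⁻¹ * (y * x) := by group
        _ = x⁻¹ * (x * y) := by rw [h1]
        _ = y := by group
    rw [e]; exact hy

/-- The main lemma. -/
theorem no_third_point {S : Set (Subgroup G)} (hS : Cfsg.IsRootSubgroupSet S) {U V E P : Subgroup G}
    (hU : U ∈ S) (hV : V ∈ S) (hE : E ∈ S) (hr : Cfsg.IsRankOnePair U V)
    (hPU : ∀ c ∈ P, ∀ a ∈ U, c * a = a * c) (hPV : ∀ c ∈ P, ∀ ν ∈ V, c * ν = ν * c)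
    (hEle : E ≤ P ⊔ V) (hEV : E ≠ V) {ν c : G} (hν : ν ∈ V) (hν1 : ν ≠ 1) (hc : c ∈ P)
    (he : ν * c ∈ E) : False := by
  obtain ⟨a₀, ha₀, ha₀1⟩ := exists_ne_one_left hr
  have hVcomm : IsMulCommutative V := hS.commutative V hV
  -- commutator of a ∈ U with e = ν c
  have hcomm_e : ∀ a ∈ U, a * (ν * c) * a⁻¹ * (ν * c)⁻¹ = a * ν * a⁻¹ * ν⁻¹ := by
    intro a ha
    have h1 : c * a⁻¹ = a⁻¹ * c := hPU c hc a⁻¹ (inv_mem ha)
    have h2 : c * ν⁻¹ = ν⁻¹ * c := hPV c hc ν⁻¹ (inv_mem hν)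
    calc a * (ν * c) * a⁻¹ * (ν * c)⁻¹ = a * ν * (c * a⁻¹) * c⁻¹ * ν⁻¹ := by group
      _ = a * ν * (a⁻¹ * c) * c⁻¹ * ν⁻¹ := by rw [h1]
      _ = a * ν * a⁻¹ * ν⁻¹ := by group
  have he1 : ν * c ≠ 1 := by
    intro h1
    have h2 : ν = c⁻¹ := mul_eq_one_iff_eq_inv.mp h1
    apply not_commute_elts hr ha₀ ha₀1 hν hν1
    rw [h2]
    exact (hPU c⁻¹ (inv_mem hc) a₀ ha₀).symm
  rcases hS.pair U hU E hE with h1 | hUE | hUE
  · -- U and E commute
    rw [commutator_eq_bot_iff_commute] at h1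
    have h2 := h1 a₀ ha₀ (ν * c) he
    apply not_commute_elts hr ha₀ ha₀1 hν hν1
    have h3 := hcomm_e a₀ ha₀
    have h4 : a₀ * (ν * c) * a₀⁻¹ * (ν * c)⁻¹ = 1 := by rw [h2]; group
    rw [h4] at h3
    calc a₀ * ν = (a₀ * ν * a₀⁻¹ * ν⁻¹) * (ν * a₀) := by group
      _ = ν * a₀ := by rw [← h3, one_mul]
  · -- rank one pair (U, E)
    obtain ⟨a', ha', ha'1, hconj'⟩ := hUE.cond_right (ν * c) he he1
    obtain ⟨a, ha, ha1, hconj⟩ := hr.cond_right ν hν hν1
    -- conjBy U (ν c)⁻¹ = conjBy V a⁻¹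
    have h1 : Cfsg.conjBy U (ν * c)⁻¹ = Cfsg.conjBy V a⁻¹ := by
      have e : (ν * c)⁻¹ = c⁻¹ * ν⁻¹ := by group
      rw [e, ← conjBy_mul, ← hconj, conjBy_mul]
      have e2 : c⁻¹ * a⁻¹ = a⁻¹ * c⁻¹ := hPU c⁻¹ (inv_mem hc) a⁻¹ (inv_mem ha)
      rw [e2, ← conjBy_mul,
        conjBy_eq_of_commute (fun v hv => hPV c⁻¹ (inv_mem hc) v hv)]
    rw [h1] at hconj'
    -- hconj' : conjBy E a'⁻¹ = conjBy V a⁻¹
    by_cases haa : a = a'
    · subst haa
      exact hEV (conjBy_injective hconj')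
    · -- conjBy V (a' * a⁻¹) ≤ P ⊔ V
      have h2 : Cfsg.conjBy V (a' * a⁻¹) ≤ P ⊔ V := by
        have h3 : Cfsg.conjBy V a⁻¹ ≤ Cfsg.conjBy (P ⊔ V) a'⁻¹ := by
          rw [← hconj']
          exact conjBy_mono hEle a'⁻¹
        have h4 := conjBy_mono h3 a'
        rw [conjBy_conjBy_inv, conjBy_mul] at h4
        exact h4
      have hg : a' * a⁻¹ ∈ U := mul_mem ha' (inv_mem ha)
      have hg1 : a' * a⁻¹ ≠ 1 := by
        intro h5
        apply haa
        have : a' = a := by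
          calc a' = (a' * a⁻¹) * a := by group
            _ = a := by rw [h5, one_mul]
        exact this.symm
      have hmem : Cfsg.conjBy V (a' * a⁻¹) ∈ Cfsg.unipotentSubgroups V U :=
        conjBy_mem_unipotentSubgroups (self_mem_unipotentSubgroups V U)
          (Subgroup.mem_sup_right hg)
      have hne : Cfsg.conjBy V (a' * a⁻¹) ≠ V := by
        intro h5
        exact hg1 (eq_one_of_mem_of_mem_normalizer hr hg (mem_normalizer_of_conjBy_eq h5))
      obtain ⟨hpair, -⟩ := isRankOnePair_of_mem (Cfsg.RankOnePair_symm hr) hmem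
        (self_mem_unipotentSubgroups V U) hne
      apply not_commute hpair
      intro x hx v hv
      have hx' := h2 hx
      clear hx
      induction hx' using sup_induction with
      | left p hp => exact hPV p hp v hv
      | right v' hv' => exact comm_of_mem hVcomm hv' hv
      | one => simp
      | mul y z _ _ ihy ihz => rw [mul_assoc, ihz, ← mul_assoc, ihy, mul_assoc]
  · -- commutator case (U, E)
    have h1 : ⁅a₀, ν * c⁆ ∈ ⁅U, E⁆ := Subgroup.commutator_mem_commutator ha₀ he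
    have h2 := comm_left hUE h1 ha₀
    rw [commutatorElement_def, hcomm_e a₀ ha₀] at h2
    -- (a₀ ν a₀⁻¹ ν⁻¹) commutes with a₀, so ν a₀⁻¹ ν⁻¹ commutes with a₀
    have h3 : (ν * a₀⁻¹ * ν⁻¹) * a₀ = a₀ * (ν * a₀⁻¹ * ν⁻¹) := by
      calc (ν * a₀⁻¹ * ν⁻¹) * a₀ = a₀⁻¹ * ((a₀ * ν * a₀⁻¹ * ν⁻¹) * a₀) := by group
        _ = a₀⁻¹ * (a₀ * (a₀ * ν * a₀⁻¹ * ν⁻¹)) := by rw [h2]
        _ = a₀ * (ν * a₀⁻¹ * ν⁻¹) := by group
    have hmem : Cfsg.conjBy U ν ∈ Cfsg.unipotentSubgroups U V :=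
      conjBy_mem_unipotentSubgroups (self_mem_unipotentSubgroups U V) (Subgroup.mem_sup_right hν)
    have hne : Cfsg.conjBy U ν ≠ U := by
      intro h5
      exact hν1 (eq_one_of_mem_of_mem_normalizer (Cfsg.RankOnePair_symm hr) hν
        (mem_normalizer_of_conjBy_eq h5))
    obtain ⟨hpair, -⟩ := isRankOnePair_of_mem hr hmem (self_mem_unipotentSubgroups U V) hne
    have hx : ν * a₀⁻¹ * ν⁻¹ ∈ Cfsg.conjBy U ν := conj_mem_conjBy (inv_mem ha₀) ν
    have hx1 : ν * a₀⁻¹ * ν⁻¹ ≠ 1 := by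
      intro h5
      apply ha₀1
      have : a₀⁻¹ = 1 := by
        calc a₀⁻¹ = ν⁻¹ * (ν * a₀⁻¹ * ν⁻¹) * ν := by group
          _ = 1 := by rw [h5]; group
      exact inv_eq_one.mp this
    exact not_commute_elts hpair hx hx1 ha₀ ha₀1 h3

end Cfsg.Agent.Lib.Helper83_DLemma
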