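import Mathlib
import Cfsg.Agent.Lib.Helper83_FrCDefs
import Cfsg.Agent.Lib.Helper8_FrC_PK13
import Cfsg.Agent.Lib.Helper2_FrC_PK11
import Cfsg.Agent.Lib.Helper2_FrC_PK14

set_option autoImplicit false
set_option linter.unusedVariables false
set_option linter.unusedSectionVars false
set_option linter.unusedSimpArgs false
set_option linter.style.haveILetI false
set_option linter.deprecated false

/-!
Unitary frames, case (C), dimension at least nine, `q` odd: the fusion argument without the rank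
lemma.  In the dihedral group generated by the two involutions the involution `u z` is conjugate
to one of them, which makes `g⁻¹ z g` diagonal.
-/

namespace Cfsg.Agent.Lib.Helper83_Fr9Odd

open Module Cfsg.Agent.Lib.Helper94_Herm Cfsg.Agent.Lib.Helper13_PSUSimple
  Cfsg.Agent.Lib.Helper94_FrmDefs Cfsg.Agent.Lib.Helper83_FrCDefs
  Cfsg.Agent.Lib.Helper8_FrC_PK13 Cfsg.Agent.Lib.Helper2_FrC_PK11
  Cfsg.Agent.Lib.Helper2_FrC_PK14

variable {F V ι : Type*} [Field F] [AddCommGroup V] [Module F V] [Fintype ι] [DecidableEq ι]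
variable {σ : F →+* F} {B : V →ₗ[F] V →ₛₗ[σ] F} {e : ι → V}

/-- the dihedral lemma with the conjugacy class of `b z`. -/
theorem dihedral_lemma2 {G : Type*} [Group G] (a b : G) (ha : a * a = 1) (hb : b * b = 1)
    (hfin : IsOfFinOrder (a * b)) :
    (∃ k : G, b = k * a * k⁻¹) ∨
      ∃ z : G, z ∈ Subgroup.closure {a, b} ∧ z ≠ 1 ∧ z * z = 1 ∧ z * a = a * z ∧ z * b = b * z ∧
        ∃ k ∈ Subgroup.closure {a, b}, b * z = k * a * k⁻¹ ∨ b * z = k * b * k⁻¹ := by
  have hai : a⁻¹ = a := inv_eq_of_mul_eq_one_left ha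
  have hbi : b⁻¹ = b := inv_eq_of_mul_eq_one_left hb
  obtain ⟨c, hc⟩ : ∃ c : G, c = a * b := ⟨_, rfl⟩
  rw [← hc] at hfin
  have hamem : a ∈ Subgroup.closure ({a, b} : Set G) := Subgroup.subset_closure (by simp)
  have hbmem : b ∈ Subgroup.closure ({a, b} : Set G) := Subgroup.subset_closure (by simp)
  have hcmem : c ∈ Subgroup.closure ({a, b} : Set G) := by
    rw [hc]
    exact Subgroup.mul_mem _ hamem hbmem
  have hci : c⁻¹ = b * a := by rw [hc, mul_inv_rev, hai, hbi]
  have hca : a * c * a⁻¹ = c⁻¹ := by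
    rw [hci, hai, hc, ← mul_assoc, ha, one_mul]
  have hcb : b * c * b⁻¹ = c⁻¹ := by
    rw [hci, hbi, hc, mul_assoc, mul_assoc, hb, mul_one]
  have hpa : ∀ m : ℕ, a * c ^ m * a⁻¹ = (c ^ m)⁻¹ := by
    intro m; rw [← conj_pow, hca, inv_pow]
  have hpb : ∀ m : ℕ, b * c ^ m * b⁻¹ = (c ^ m)⁻¹ := by
    intro m; rw [← conj_pow, hcb, inv_pow]
  have hbc : ∀ i : ℕ, b * c ^ i = (c ^ i)⁻¹ * b := by
    intro i
    have := hpb i
    rw [mul_inv_eq_iff_eq_mul] at this
    exact this
  have hn : 0 < orderOf c := hfin.orderOf_pos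
  rcases Nat.even_or_odd' (orderOf c) with ⟨m, hm | hm⟩
  · -- even order: a central involution
    right
    have hm0 : m ≠ 0 := by omega
    have hzz : c ^ m * c ^ m = 1 := by
      rw [← pow_add, ← two_mul, ← hm, pow_orderOf_eq_one]
    have hzi : (c ^ m)⁻¹ = c ^ m := inv_eq_of_mul_eq_one_left hzz
    refine ⟨c ^ m, Subgroup.pow_mem _ hcmem m, ?_, hzz, ?_, ?_, ?_⟩
    · exact pow_ne_one_of_lt_orderOf hm0 (by omega)
    · have := hpa m
      rw [hzi, mul_inv_eq_iff_eq_mul] at this
      exact this.symm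
    · have := hpb m
      rw [hzi, mul_inv_eq_iff_eq_mul] at this
      exact this.symm
    · rcases Nat.even_or_odd' m with ⟨i, hi | hi⟩
      · refine ⟨(c ^ i)⁻¹, Subgroup.inv_mem _ (Subgroup.pow_mem _ hcmem i), Or.inr ?_⟩
        calc b * c ^ m = b * c ^ i * c ^ i := by rw [hi, two_mul, pow_add, mul_assoc]
          _ = (c ^ i)⁻¹ * b * c ^ i := by rw [hbc i]
          _ = (c ^ i)⁻¹ * b * ((c ^ i)⁻¹)⁻¹ := by rw [inv_inv]
      · refine ⟨(c ^ i)⁻¹ * b, Subgroup.mul_mem _
          (Subgroup.inv_mem _ (Subgroup.pow_mem _ hcmem i)) hbmem, Or.inl ?_⟩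
        have h1 : c ^ m = c ^ i * (c * c ^ i) := by
          rw [hi, show 2 * i + 1 = i + (1 + i) by ring, pow_add, pow_add, pow_one]
        have hcc : c * c ^ i = a * (b * c ^ i) := by rw [hc, mul_assoc]
        calc b * c ^ m = b * (c ^ i * (c * c ^ i)) := by rw [h1]
          _ = (b * c ^ i) * (c * c ^ i) := by rw [mul_assoc]
          _ = ((c ^ i)⁻¹ * b) * (a * (b * c ^ i)) := by rw [hcc, hbc i]
          _ = (c ^ i)⁻¹ * b * a * ((c ^ i)⁻¹ * b)⁻¹ := by
            rw [mul_inv_rev, inv_inv, hbi]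
            simp only [mul_assoc]
  · -- odd order: conjugate
    left
    refine ⟨c ^ m, ?_⟩
    have h1 : a * (c ^ m)⁻¹ = c ^ m * a := by
      have h := hpa m
      have h' : (a * c ^ m * a⁻¹)⁻¹ = c ^ m := by rw [h, inv_inv]
      rw [mul_inv_rev, mul_inv_rev, inv_inv, ← mul_assoc, mul_inv_eq_iff_eq_mul] at h'
      exact h'
    have h2 : c ^ (2 * m) = c⁻¹ := by
      have : c ^ (2 * m) * c = 1 := by
        rw [← pow_succ, ← hm, pow_orderOf_eq_one]
      exact eq_inv_of_mul_eq_one_left this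
    calc b = (b * a) * a := by rw [mul_assoc, ha, mul_one]
      _ = c ^ (2 * m) * a := by rw [h2, hci]
      _ = c ^ m * (c ^ m * a) := by rw [two_mul, pow_add, mul_assoc]
      _ = c ^ m * (a * (c ^ m)⁻¹) := by rw [h1]
      _ = c ^ m * a * (c ^ m)⁻¹ := by rw [mul_assoc]

/-- a conjugate of a map which is diagonal on the frame by a monomial map is diagonal. -/
theorem diag_of_conj (hfr : OFrame B e) (K t : V ≃ₗ[F] V) (hK : K ∈ Mono B e)
    (ht : ∀ s, ∃ c : F, t (e s) = c • e s) (i : ι) :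
    ∃ c : F, (K * t * K⁻¹) (e i) = c • e i := by
  have hKi : K⁻¹ ∈ Mono B e := (Mono B e).inv_mem hK
  obtain ⟨-, π, hπ⟩ := hKi
  obtain ⟨d, hd0, hd⟩ := hπ i
  obtain ⟨c, hc⟩ := ht (π i)
  have h1 : K (e (π i)) = d⁻¹ • e i := by
    have h2 : K (K⁻¹ (e i)) = e i := by
      show (K * K⁻¹) (e i) = e i
      rw [mul_inv_cancel]; rfl
    rw [hd, map_smul] at h2
    rw [← h2, smul_smul, inv_mul_cancel₀ hd0, one_smul]
  refine ⟨c, ?_⟩
  rw [LinearEquiv.mul_apply, LinearEquiv.mul_apply, hd, map_smul, hc, map_smul, map_smul, h1,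
    smul_smul, smul_smul]
  congr 1
  field_simp

/-- paper (2.6) for at least nine frame vectors. -/
theorem caseC_odd9 [Finite F] (hσ : Invol σ) (hB : IsHerm B) (hfr : OFrame B e)
    (hmono : HasMono B e) (hdet : HasDet F e) (h2 : (2 : F) ≠ 0)
    (h9 : 9 ≤ Fintype.card ι) (M : Subgroup (V ≃ₗ[F] V)) (hHM : frH B e ≤ M)
    (hMS : M ≤ SUg B) (h22 : P22 B e M) (h23 : P23 B e M) (h25 : P25 B e M) :
    M ≤ Mono B e := by
  classical
  haveI : FiniteDimensional F V := fr_finiteDimensional hfr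
  haveI : Finite V := Module.finite_of_finite F
  haveI : Finite (V ≃ₗ[F] V) :=
    Finite.of_injective (fun g : V ≃ₗ[F] V => (g : V → V)) DFunLike.coe_injective
  have hMU : M ≤ uG B := fun g hg => (mem_SUg.1 (hMS hg)).1
  intro g hg
  by_contra hgn
  have hginv : ∀ y, (g⁻¹ : V ≃ₗ[F] V) (g y) = y := fun y => g.symm_apply_apply y
  have hgg : ∀ y, g ((g⁻¹ : V ≃ₗ[F] V) y) = y := fun y => g.apply_symm_apply y
  -- the two sign elements
  obtain ⟨S4, -, hS4⟩ := Finset.exists_subset_card_eq (s := (Finset.univ : Finset ι)) (n := 4)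
    (by rw [Finset.card_univ]; omega)
  obtain ⟨S2, hS24, hS2⟩ := Finset.exists_subset_card_eq (s := S4) (n := 2) (by omega)
  obtain ⟨t2, ht2H, ht2⟩ := exists_sign_diag hmono S2 (by rw [hS2]; decide)
  obtain ⟨t4, ht4H, ht4⟩ := exists_sign_diag hmono S4 (by rw [hS4]; decide)
  have ht2sq : t2 * t2 = 1 := sign_sq hfr ht2
  have ht4sq : t4 * t4 = 1 := sign_sq hfr ht4
  have hS2ne : S2.Nonempty := Finset.card_pos.mp (by omega)
  have hS4ne : S4.Nonempty := Finset.card_pos.mp (by omega)
  have ht2ne : t2 ≠ 1 := sign_ne_one hfr ht2 h2 hS2ne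
  have ht4ne : t4 ≠ 1 := sign_ne_one hfr ht4 h2 hS4ne
  set u : V ≃ₗ[F] V := g * t4 * g⁻¹ with hu
  have husq : u * u = 1 := by
    calc u * u = g * (t4 * t4) * g⁻¹ := by rw [hu]; group
      _ = 1 := by rw [ht4sq]; group
  have huM : u ∈ M := M.mul_mem (M.mul_mem hg (hHM ht4H)) (M.inv_mem hg)
  have ht2M : t2 ∈ M := hHM ht2H
  -- the ranges
  set U : Submodule F V := US F e S2 ⊔ (US F e S4).map (g : V →ₗ[F] V) with hU
  have hUdim : finrank F ↥U ≤ 6 := by
    have h1 := Submodule.finrank_add_le_finrank_add_finrank (US F e S2)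
      ((US F e S4).map (g : V →ₗ[F] V))
    have h3 : finrank F ↥((US F e S4).map (g : V →ₗ[F] V)) = finrank F ↥(US F e S4) :=
      LinearEquiv.finrank_map_eq g (US F e S4)
    have h4 := finrank_US_le (F := F) (e := e) S2
    have h5 := finrank_US_le (F := F) (e := e) S4
    rw [hU]
    omega
  have hat2 : ∀ x, t2 x - x ∈ U := fun x =>
    Submodule.mem_sup_left (sign_range hfr ht2 x)
  have hau : ∀ x, u x - x ∈ U := by
    intro x
    apply Submodule.mem_sup_right
    rw [Submodule.mem_map]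
    refine ⟨t4 ((g⁻¹ : V ≃ₗ[F] V) x) - (g⁻¹ : V ≃ₗ[F] V) x, sign_range hfr ht4 _, ?_⟩
    rw [LinearEquiv.coe_coe, map_sub, hgg]
    rfl
  -- `t2` and `u` are not conjugate
  have hnc : ¬ ∃ k : V ≃ₗ[F] V, u = k * t2 * k⁻¹ := by
    rintro ⟨k, hk⟩
    have h1 := finrank_range_conj t2 k
    rw [← hk] at h1
    have h3 := finrank_range_conj t4 g
    rw [← hu] at h3
    have h4 : 4 ≤ finrank F ↥(LinearMap.range ((t4 : V →ₗ[F] V) - LinearMap.id)) := by
      rw [← hS4]
      exact card_le_finrank hfr _ S4 (fun r hr => sign_mem_range hfr ht4 h2 r hr)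
    have h5 : finrank F ↥(LinearMap.range ((t2 : V →ₗ[F] V) - LinearMap.id)) ≤ 2 := by
      have hle : LinearMap.range ((t2 : V →ₗ[F] V) - LinearMap.id) ≤ US F e S2 := by
        rintro _ ⟨y, rfl⟩
        exact sign_range hfr ht2 y
      have := Submodule.finrank_mono hle
      have h6 := finrank_US_le (F := F) (e := e) S2
      omega
    omega
  -- the dihedral lemma
  rcases dihedral_lemma2 t2 u ht2sq husq (isOfFinOrder_of_finite _) with
    hconj | ⟨z, hzcl, hz1, hzsq, hza, hzb, k, hkcl, hk⟩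
  · exact hnc hconj
  have hzM : z ∈ M := by
    have hle : Subgroup.closure {t2, u} ≤ M := by
      rw [Subgroup.closure_le]
      rintro x (rfl | rfl)
      · exact ht2M
      · exact huM
    exact hle hzcl
  have hzU : ∀ x, z x - x ∈ U := closure_range t2 u U hat2 hau z hzcl
  -- `z` is monomial
  have hzMono : z ∈ Mono B e := by
    refine h22 t2 ht2H (sign_diag ht2) ht2ne S2 (by omega) (sign_fix ht2) z hzM ?_
    have : z⁻¹ * t2 * z = t2 := by
      calc z⁻¹ * t2 * z = z⁻¹ * (t2 * z) := by group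
        _ = z⁻¹ * (z * t2) := by rw [hza]
        _ = t2 := by group
    rw [this]
    exact frH_le_Mono ht2H
  -- `m = g⁻¹ z g` is monomial
  set m : V ≃ₗ[F] V := g⁻¹ * z * g with hm
  have hmM : m ∈ M := M.mul_mem (M.mul_mem (M.inv_mem hg) hzM) hg
  have hmt4 : m * t4 = t4 * m := by
    calc m * t4 = g⁻¹ * (z * (g * t4 * g⁻¹)) * g := by rw [hm]; group
      _ = g⁻¹ * ((g * t4 * g⁻¹) * z) * g := by rw [← hu, hzb]
      _ = t4 * m := by rw [hm]; group
  have hmMono : m ∈ Mono B e := by
    refine h22 t4 ht4H (sign_diag ht4) ht4ne S4 (by omega) (sign_fix ht4) m hmM ?_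
    have : m⁻¹ * t4 * m = t4 := by
      calc m⁻¹ * t4 * m = m⁻¹ * (t4 * m) := by group
        _ = m⁻¹ * (m * t4) := by rw [hmt4]
        _ = t4 := by group
    rw [this]
    exact frH_le_Mono ht4H
  have hmsq : m * m = 1 := by
    calc m * m = g⁻¹ * (z * z) * g := by rw [hm]; group
      _ = 1 := by rw [hzsq]; group
  -- `m` is diagonal on the frame
  have hclM : Subgroup.closure {t2, u} ≤ M := by
    rw [Subgroup.closure_le]
    rintro x (rfl | rfl)
    · exact ht2M
    · exact huM
  have hkM : k ∈ M := hclM hkcl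
  set v : V ≃ₗ[F] V := u * z with hv
  have hvM : v ∈ M := M.mul_mem huM hzM
  set m1 : V ≃ₗ[F] V := g⁻¹ * v * g with hm1
  have hm1M : m1 ∈ M := M.mul_mem (M.mul_mem (M.inv_mem hg) hvM) hg
  have hgug : g⁻¹ * u * g = t4 := by rw [hu]; group
  have hm1t4 : m1 * t4 = t4 * m1 := by
    calc m1 * t4 = g⁻¹ * (u * (z * u)) * g := by rw [hm1, hv, hu]; group
      _ = g⁻¹ * (u * (u * z)) * g := by rw [hzb]
      _ = t4 * m1 := by rw [hm1, hv, hu]; group
  have hm1Mono : m1 ∈ Mono B e := by
    refine h22 t4 ht4H (sign_diag ht4) ht4ne S4 (by omega) (sign_fix ht4) m1 hm1M ?_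
    have : m1⁻¹ * t4 * m1 = t4 := by
      calc m1⁻¹ * t4 * m1 = m1⁻¹ * (t4 * m1) := by group
        _ = m1⁻¹ * (m1 * t4) := by rw [hm1t4]
        _ = t4 := by group
    rw [this]
    exact frH_le_Mono ht4H
  have hm1diag : ∀ i, ∃ c : F, m1 (e i) = c • e i := by
    rcases hk with hk | hk
    · -- `u z` is conjugate to `t2`
      set K : V ≃ₗ[F] V := g⁻¹ * k with hK
      have hKM : K ∈ M := M.mul_mem (M.inv_mem hg) hkM
      have hm1K : m1 = K * t2 * K⁻¹ := by rw [hm1, hk, hK]; group
      have hKi : K⁻¹ ∈ Mono B e := by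
        refine h22 t2 ht2H (sign_diag ht2) ht2ne S2 (by omega) (sign_fix ht2) K⁻¹
          (M.inv_mem hKM) ?_
        rw [inv_inv, ← hm1K]
        exact hm1Mono
      have hKmono : K ∈ Mono B e := by
        have := (Mono B e).inv_mem hKi
        rwa [inv_inv] at this
      intro i
      rw [hm1K]
      exact diag_of_conj hfr K t2 hKmono (sign_diag ht2) i
    · -- `u z` is conjugate to `u`
      set K : V ≃ₗ[F] V := g⁻¹ * k * g with hK
      have hKM : K ∈ M := M.mul_mem (M.mul_mem (M.inv_mem hg) hkM) hg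
      have hm1K : m1 = K * t4 * K⁻¹ := by rw [hm1, hk, hK, hu]; group
      have hKi : K⁻¹ ∈ Mono B e := by
        refine h22 t4 ht4H (sign_diag ht4) ht4ne S4 (by omega) (sign_fix ht4) K⁻¹
          (M.inv_mem hKM) ?_
        rw [inv_inv, ← hm1K]
        exact hm1Mono
      have hKmono : K ∈ Mono B e := by
        have := (Mono B e).inv_mem hKi
        rwa [inv_inv] at this
      intro i
      rw [hm1K]
      exact diag_of_conj hfr K t4 hKmono (sign_diag ht4) i
  have hmm1 : m = t4 * m1 := by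
    calc m = g⁻¹ * ((u * u) * z) * g := by rw [husq, one_mul]
      _ = (g⁻¹ * u * g) * (g⁻¹ * (u * z) * g) := by group
      _ = t4 * m1 := by rw [hgug]
  obtain ⟨i⟩ : Nonempty ι := by
    rw [← Fintype.card_pos_iff]
    omega
  obtain ⟨c, hmi⟩ : ∃ c : F, m (e i) = c • e i := by
    obtain ⟨c1, hc1⟩ := hm1diag i
    obtain ⟨c2, hc2⟩ := sign_diag ht4 i
    refine ⟨c1 * c2, ?_⟩
    rw [hmm1, LinearEquiv.mul_apply, hc1, map_smul, hc2, smul_smul]
  have hcsq : c * c = 1 := by
    have h1 : m (m (e i)) = e i := by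
      have := congrArg (fun f : V ≃ₗ[F] V => f (e i)) hmsq
      exact this
    rw [hmi, map_smul, hmi, smul_smul] at h1
    have h3 : (c * c - 1) • e i = 0 := by rw [sub_smul, h1, one_smul, sub_self]
    rcases smul_eq_zero.mp h3 with h4 | h4
    · exact sub_eq_zero.mp h4
    · exact absurd h4 (fr_ne_zero hfr i)
  have hc1 : c = 1 ∨ c = -1 := by
    have : (c - 1) * (c + 1) = 0 := by linear_combination hcsq
    rcases mul_eq_zero.mp this with h | h
    · exact Or.inl (sub_eq_zero.mp h)
    · exact Or.inr (eq_neg_of_add_eq_zero_left h)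
  have hσc : σ c = c := by
    rcases hc1 with rfl | rfl
    · exact map_one σ
    · rw [map_neg, map_one]
  have hc0 : c ≠ 0 := by
    rintro rfl
    rw [mul_zero] at hcsq
    exact zero_ne_one hcsq
  -- `f = g e_i` is an eigenvector of `z`
  have hzf : z (g (e i)) = c • g (e i) := by
    have h1 : g (m (e i)) = z (g (e i)) := by
      show g ((g⁻¹ : V ≃ₗ[F] V) (z (g (e i)))) = z (g (e i))
      rw [hgg]
    rw [← h1, hmi, map_smul]
  have hfne : ∀ r, B (g (e i)) (e r) ≠ 0 := fun r => h23 g hg hgn i r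
  -- the permutation of `z`
  obtain ⟨hzuG, π, hπ⟩ := hzMono
  choose w hw0 hzw using hπ
  have hwN : ∀ r, w r * σ (w r) = 1 := by
    intro r
    have h1 := hzuG (e r) (e r)
    rw [hzw, self_smul, hfr.unit, hfr.unit, mul_one] at h1
    exact h1
  have hcoord : ∀ r, c * B (g (e i)) (e (π r)) = w r * B (g (e i)) (e r) := by
    intro r
    have h1 := coord_mono hfr z π w hzw (g (e i)) r
    rw [hzf, map_smul, LinearMap.smul_apply, smul_eq_mul] at h1
    exact h1
  have hcol : ∀ r, B (g (e i)) (e (π r)) * σ (B (g (e i)) (e (π r))) =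
      B (g (e i)) (e r) * σ (B (g (e i)) (e r)) := by
    intro r
    have h1 := hcoord r
    have h3 : B (g (e i)) (e (π r)) = c * (w r * B (g (e i)) (e r)) := by
      rw [← h1, ← mul_assoc, hcsq, one_mul]
    rw [h3, map_mul, map_mul, hσc]
    calc c * (w r * B (g (e i)) (e r)) * (c * (σ (w r) * σ (B (g (e i)) (e r))))
        = (c * c) * (w r * σ (w r)) * (B (g (e i)) (e r) * σ (B (g (e i)) (e r))) := by ring
      _ = B (g (e i)) (e r) * σ (B (g (e i)) (e r)) := by rw [hcsq, hwN, one_mul, one_mul]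
  have hππ : ∀ r, π (π r) = r := by
    intro r
    have h1 : z (z (e r)) = e r := by
      have := congrArg (fun f : V ≃ₗ[F] V => f (e r)) hzsq
      exact this
    rw [hzw, map_smul, hzw, smul_smul] at h1
    by_contra hne
    have h3 := congrArg (fun y => B y (e r)) h1
    simp only [map_smul, LinearMap.smul_apply, hfr.orth _ _ hne, hfr.unit, smul_zero] at h3
    exact zero_ne_one h3
  -- at most one 2-cycle
  have hone : ∀ r r', π r ≠ r → π r' ≠ r' → r' = r ∨ r' = π r := by
    intro r r' hr hr'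
    by_contra hcon
    push Not at hcon
    obtain ⟨h1, h3⟩ := hcon
    refine h25 g hg hgn i r (π r) r' (π r') (Ne.symm hr) (Ne.symm h1) ?_ (Ne.symm h3) ?_
      (Ne.symm hr') (hcol r).symm (hcol r').symm
    · intro h
      apply h3
      rw [h, hππ]
    · intro h
      exact h1 (π.injective h).symm
  -- the fixed labels have `w = c`
  have hwfix : ∀ r, π r = r → w r = c := by
    intro r hr
    have h1 := hcoord r
    rw [hr] at h1
    exact (mul_right_cancel₀ (hfne r) h1).symm
  have hfixU : c = -1 → ∀ r, π r = r → e r ∈ U := by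
    intro hc r hr
    have h1 := hzU (e r)
    rw [hzw, hr, hwfix r hr, hc] at h1
    have h3 : (-1 : F) • e r - e r = (-2 : F) • e r := by
      rw [neg_smul, neg_smul, one_smul, two_smul]; abel
    rw [h3] at h1
    have := U.smul_mem ((-2 : F)⁻¹) h1
    rwa [smul_smul, inv_mul_cancel₀ (neg_ne_zero.mpr h2), one_smul] at this
  by_cases hall : ∀ r, π r = r
  · -- `π = 1`: `z = c`
    have hzc : ∀ x, z x = c • x := by
      intro x
      apply fr_ext_coord hfr
      intro r
      have h1 := coord_mono hfr z π w hzw x r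
      rw [hall r, hwfix r (hall r)] at h1
      rw [h1, map_smul, LinearMap.smul_apply, smul_eq_mul]
    rcases hc1 with hc | hc
    · apply hz1
      ext x
      rw [hzc x, hc, one_smul]
      rfl
    · have h1 := card_le_finrank hfr U Finset.univ (fun r _ => hfixU hc r (hall r))
      rw [Finset.card_univ] at h1
      omega
  · -- one transposition `(a b)`
    push Not at hall
    obtain ⟨a, ha⟩ := hall
    set b := π a with hb
    have hab : a ≠ b := Ne.symm ha
    have hπb : π b = a := hππ a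
    have hother : ∀ r, r ≠ a → r ≠ b → π r = r := by
      intro r hra hrb
      by_contra hr
      rcases hone a r ha hr with h | h
      · exact hra h
      · exact hrb h
    have hc : c = 1 := by
      rcases hc1 with hc | hc
      · exact hc
      · exfalso
        have h1 := card_le_finrank hfr U ((Finset.univ.erase a).erase b) (fun r hr => by
          have hrb : r ≠ b := Finset.ne_of_mem_erase hr
          have hra : r ≠ a := Finset.ne_of_mem_erase (Finset.mem_of_mem_erase hr)
          exact hfixU hc r (hother r hra hrb))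
        rw [Finset.card_erase_of_mem (Finset.mem_erase.mpr ⟨Ne.symm hab, Finset.mem_univ _⟩),
          Finset.card_erase_of_mem (Finset.mem_univ _), Finset.card_univ] at h1
        omega
    have hwo : ∀ r, r ≠ a → r ≠ b → w r = 1 := by
      intro r hra hrb
      rw [hwfix r (hother r hra hrb), hc]
    have hwab : w a * w b = 1 := by
      have h1 : z (z (e a)) = e a := by
        have := congrArg (fun f : V ≃ₗ[F] V => f (e a)) hzsq
        exact this
      rw [hzw, map_smul, ← hb, hzw, hπb, smul_smul] at h1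
      have h3 : (w a * w b - 1) • e a = 0 := by rw [sub_smul, h1, one_smul, sub_self]
      rcases smul_eq_zero.mp h3 with h4 | h4
      · exact sub_eq_zero.mp h4
      · exact absurd h4 (fr_ne_zero hfr a)
    have hπswap : π = Equiv.swap a b := by
      ext r
      by_cases hra : r = a
      · rw [hra, Equiv.swap_apply_left]
      by_cases hrb : r = b
      · rw [hrb, Equiv.swap_apply_right, hπb]
      · rw [Equiv.swap_apply_of_ne_of_ne hra hrb, hother r hra hrb]
    have hprod : ∏ r, w r = 1 := by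
      rw [← Finset.mul_prod_erase Finset.univ w (Finset.mem_univ a),
        ← Finset.mul_prod_erase (Finset.univ.erase a) w
          (Finset.mem_erase.mpr ⟨Ne.symm hab, Finset.mem_univ b⟩),
        Finset.prod_eq_one, mul_one, hwab]
      intro r hr
      have hrb : r ≠ b := Finset.ne_of_mem_erase hr
      have hra : r ≠ a := Finset.ne_of_mem_erase (Finset.mem_of_mem_erase hr)
      exact hwo r hra hrb
    have hdz := hdet z π w hzw
    have hdet1 : LinearEquiv.det z = 1 := (mem_SUg.1 (hMS hzM)).2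
    rw [hdet1, hπswap, Equiv.Perm.sign_swap hab, hprod] at hdz
    have : (1 : F) = -1 := by
      simpa using hdz
    apply h2
    linear_combination this


end Cfsg.Agent.Lib.Helper83_Fr9Odd
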