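import Mathlib
import Cfsg.Agent.Lib.Helper83_FrCDefs

set_option autoImplicit false
set_option linter.unusedVariables false
set_option linter.unusedSectionVars false

/-!
Unitary frames, case (C), dimension at least nine: the sharp rank lemma (R') for monomial maps.
A monomial map `m` with `range (m - 1) ≤ U` moves at most `2 * dim U` frame points.
-/

namespace Cfsg.Agent.Lib.Helper83_Fr9Rank

open Module Cfsg.Agent.Lib.Helper94_Herm Cfsg.Agent.Lib.Helper13_PSUSimple
  Cfsg.Agent.Lib.Helper94_FrmDefs Cfsg.Agent.Lib.Helper83_FrCDefs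

variable {F V ι : Type*} [Field F] [AddCommGroup V] [Module F V] [Fintype ι] [DecidableEq ι]
variable {σ : F →+* F} {B : V →ₗ[F] V →ₛₗ[σ] F} {e : ι → V}

/-- the sharp rank lemma (R'): no involution hypothesis -/
def RankLemma2 (F : Type*) [Field F] {V ι : Type*} [AddCommGroup V] [Module F V]
    (e : ι → V) : Prop :=
  ∀ m : V ≃ₗ[F] V, IsMonoMap e m → ∀ U : Submodule F V,
    (∀ x, m x - x ∈ U) → ∀ r : ℕ, finrank F U ≤ r →
    Set.ncard {i | ∀ c : F, m (e i) ≠ c • e i} ≤ 2 * r

/-- vectors in `U` with triangular coordinates on `S` (with respect to a ranking) are independent,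
so `|S| ≤ dim U`. -/
lemma card_le_finrank_tri (hfr : OFrame B e) (S : Finset ι) (v : ι → V) (rk : ι → ℤ)
    (hrk : Function.Injective rk) (hdiag : ∀ j ∈ S, B (v j) (e j) ≠ 0)
    (hoff : ∀ i ∈ S, ∀ j ∈ S, rk j < rk i → B (v i) (e j) = 0)
    (U : Submodule F V) (hU : ∀ i ∈ S, v i ∈ U) : S.card ≤ finrank F U := by
  classical
  have hfd : FiniteDimensional F V := fr_finiteDimensional hfr
  have hli : LinearIndependent F (fun i : S => v i.1) := by
    rw [Fintype.linearIndependent_iff]
    intro a ha
    by_contra hne
    push Not at hne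
    obtain ⟨j1, hj1⟩ := hne
    have hTne : (Finset.univ.filter (fun j : S => a j ≠ 0)).Nonempty :=
      ⟨j1, by simp [hj1]⟩
    obtain ⟨j0, hj0T, hj0min⟩ :=
      Finset.exists_min_image (Finset.univ.filter (fun j : S => a j ≠ 0)) (fun j => rk j.1) hTne
    rw [Finset.mem_filter] at hj0T
    have h1 := congrArg (fun x => B x (e j0.1)) ha
    simp only [map_sum, map_smul, LinearMap.sum_apply, LinearMap.smul_apply, smul_eq_mul,
      map_zero, LinearMap.zero_apply] at h1
    rw [Finset.sum_eq_single j0] at h1
    · rcases mul_eq_zero.mp h1 with h | h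
      · exact hj0T.2 h
      · exact hdiag j0.1 j0.2 h
    · intro i _ hij
      by_cases hai : a i = 0
      · rw [hai, zero_mul]
      · have hle := hj0min i (by simp [hai])
        have hne' : rk j0.1 ≠ rk i.1 := fun h => hij (Subtype.ext (hrk h)).symm
        have hlt : rk j0.1 < rk i.1 := lt_of_le_of_ne hle hne'
        rw [hoff i.1 i.2 j0.1 j0.2 hlt, mul_zero]
    · intro h
      exact absurd (Finset.mem_univ j0) h
  have h2 : finrank F (Submodule.span F (Set.range (fun i : S => v i.1))) = Fintype.card S :=
    finrank_span_eq_card hli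
  have h3 : Submodule.span F (Set.range (fun i : S => v i.1)) ≤ U := by
    rw [Submodule.span_le]
    rintro _ ⟨i, rfl⟩
    exact hU i.1 i.2
  have h4 := Submodule.finrank_mono h3
  rw [h2, Fintype.card_coe] at h4
  exact h4

/-- the sharp rank lemma (R'). -/
theorem rankLemma2 (hfr : OFrame B e) : RankLemma2 F e := by
  classical
  intro m hm U hU r hr
  obtain ⟨π, hπ⟩ := hm
  choose c hc0 hc using hπ
  have hinj : ∀ i j (a b : F), a ≠ 0 → a • e i = b • e j → i = j := by
    intro i j a b ha h
    by_contra hij
    have h1 := congrArg (fun x => B x (e i)) h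
    simp only [map_smul, LinearMap.smul_apply, smul_eq_mul] at h1
    rw [fr_apply_eq hfr, fr_apply_eq hfr, if_pos rfl, if_neg (fun h' => hij h'.symm), mul_one,
      mul_zero] at h1
    exact ha h1
  set rk : ι → ℤ := fun i => ((Fintype.equivFin ι i : ℕ) : ℤ) with hrkdef
  have hrk : Function.Injective rk := by
    intro i j hij
    have h1 : ((Fintype.equivFin ι i : ℕ) : ℤ) = ((Fintype.equivFin ι j : ℕ) : ℤ) := hij
    have h2 : (Fintype.equivFin ι i : ℕ) = (Fintype.equivFin ι j : ℕ) := by exact_mod_cast h1
    exact (Fintype.equivFin ι).injective (Fin.ext h2)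
  have hrk' : Function.Injective (fun i => - rk i) := fun i j hij => hrk (neg_injective hij)
  set A : Finset ι := Finset.univ.filter (fun i => π i ≠ i) with hA
  have hset : {i | ∀ a : F, m (e i) ≠ a • e i} = (A : Set ι) := by
    ext i
    simp only [Set.mem_ofPred_eq, hA, Finset.coe_filter, Finset.mem_univ, true_and]
    constructor
    · intro h hπi
      apply h (c i)
      rw [hc i, hπi]
    · intro h a ha
      rw [hc i] at ha
      exact h (hinj _ _ _ _ (hc0 i) ha)
  rw [hset, Set.ncard_coe_finset]
  set S1 : Finset ι := A.filter (fun i => rk i < rk (π i)) with hS1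
  set S2 : Finset ι := A.filter (fun i => rk (π i) < rk i) with hS2
  have hAsub : A ⊆ S1 ∪ S2 := by
    intro i hi
    have hne : rk i ≠ rk (π i) := by
      intro h
      have := hrk h
      have hi' := hi
      rw [hA, Finset.mem_filter] at hi'
      exact hi'.2 this.symm
    rcases lt_or_gt_of_ne hne with h | h
    · exact Finset.mem_union.mpr (Or.inl (Finset.mem_filter.mpr ⟨hi, h⟩))
    · exact Finset.mem_union.mpr (Or.inr (Finset.mem_filter.mpr ⟨hi, h⟩))
  have hcoord : ∀ i j, B (m (e i) - e i) (e j) =
      c i * (if π i = j then 1 else 0) - (if i = j then 1 else 0) := by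
    intro i j
    rw [hc i, map_sub, LinearMap.sub_apply, map_smul, LinearMap.smul_apply, smul_eq_mul,
      fr_apply_eq hfr, fr_apply_eq hfr]
  have hle1 : S1.card ≤ finrank F U := by
    refine card_le_finrank_tri hfr S1 (fun i => m (e i) - e i) rk hrk ?_ ?_ U
      (fun i _ => hU (e i))
    · intro j hj
      rw [hS1, Finset.mem_filter, hA, Finset.mem_filter] at hj
      rw [hcoord, if_neg hj.1.2, if_pos rfl]
      simp
    · intro i hi j hj hlt
      rw [hS1, Finset.mem_filter] at hi
      rw [hcoord]
      have h1 : π i ≠ j := by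
        intro h
        rw [h] at hi
        exact absurd hlt (not_lt.mpr hi.2.le)
      have h2 : i ≠ j := fun h => by rw [h] at hlt; exact lt_irrefl _ hlt
      rw [if_neg h1, if_neg h2]
      ring
  have hle2 : S2.card ≤ finrank F U := by
    refine card_le_finrank_tri hfr S2 (fun i => m (e i) - e i) (fun i => - rk i) hrk' ?_ ?_ U
      (fun i _ => hU (e i))
    · intro j hj
      rw [hS2, Finset.mem_filter, hA, Finset.mem_filter] at hj
      rw [hcoord, if_neg hj.1.2, if_pos rfl]
      simp
    · intro i hi j hj hlt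
      rw [hS2, Finset.mem_filter] at hi
      have hlt' : rk i < rk j := by
        have : - rk j < - rk i := hlt
        omega
      rw [hcoord]
      have h1 : π i ≠ j := by
        intro h
        rw [h] at hi
        exact absurd hlt' (not_lt.mpr hi.2.le)
      have h2 : i ≠ j := fun h => by rw [h] at hlt'; exact lt_irrefl _ hlt'
      rw [if_neg h1, if_neg h2]
      ring
  have h3 : A.card ≤ S1.card + S2.card :=
    (Finset.card_le_card hAsub).trans (Finset.card_union_le S1 S2)
  omega

end Cfsg.Agent.Lib.Helper83_Fr9Rank
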