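import Mathlib
import Cfsg.Agent.Lib.Helper83_FrCDefs
import Cfsg.Agent.Lib.Helper73_FrC_Common
import Cfsg.Agent.Lib.Helper83_Fr9Rank

set_option autoImplicit false
set_option linter.unusedVariables false
set_option linter.unusedSectionVars false

/-!
Unitary frames, case (C), dimension at least nine: paper (2.2) from the sharp rank lemma (R').
-/

namespace Cfsg.Agent.Lib.Helper83_Fr9P22

open Module Cfsg.Agent.Lib.Helper94_Herm Cfsg.Agent.Lib.Helper13_PSUSimple
  Cfsg.Agent.Lib.Helper94_FrmDefs Cfsg.Agent.Lib.Helper83_FrCDefs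
  Cfsg.Agent.Lib.Helper83_Fr9Rank

open Cfsg.Agent.Lib.Helper73_FrC_Common

variable {F V ι : Type*} [Field F] [AddCommGroup V] [Module F V] [Fintype ι] [DecidableEq ι]
variable {σ : F →+* F} {B : V →ₗ[F] V →ₛₗ[σ] F} {e : ι → V}

/-- paper (2.2) for at least nine frame vectors. -/
theorem p22_nine (hσ : Invol σ) (hB : IsHerm B) (hfr : OFrame B e) (hdet : HasDet F e)
    (hrank : RankLemma2 F e) (h9 : 9 ≤ Fintype.card ι) (M : Subgroup (V ≃ₗ[F] V))
    (hMU : M ≤ uG B) (h21 : P21 B e M) : P22 B e M := by
  intro s hs hdiag hs1 S hS hSfix g hg hconj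
  by_contra hgM
  classical
  have := fr_finiteDimensional hfr
  choose c hc using hdiag
  -- the diagonal entries outside `S` are one
  have hcS : ∀ i, i ∉ S → c i = 1 := by
    intro i hi
    have h1 := hSfix i hi
    rw [hc i] at h1
    have h2 : (c i - 1) • e i = 0 := by rw [sub_smul, one_smul, h1, sub_self]
    rcases smul_eq_zero.mp h2 with h | h
    · exact sub_eq_zero.mp h
    · exact absurd h (fr_ne_zero hfr i)
  -- the determinant
  have hprod : ∏ i, c i = 1 := by
    have h1 := hdet s 1 c (fun i => by rw [hc i]; rfl)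
    have h2 : LinearEquiv.det s = 1 := (mem_SUg.mp (frH_le_SUg hs)).2
    rw [h2] at h1
    simpa using h1.symm
  -- two entries different from one
  obtain ⟨a, ha⟩ : ∃ a, c a ≠ 1 := by
    by_contra hall
    push Not at hall
    exact hs1 (eq_one_of_frame hfr s (fun i => by rw [hc i, hall i, one_smul]))
  obtain ⟨b, hba, hb⟩ : ∃ b, b ≠ a ∧ c b ≠ 1 := by
    by_contra hall
    push Not at hall
    have h1 : ∏ i, c i = c a :=
      Finset.prod_eq_single a (fun b _ hb => hall b hb) (fun h => absurd (Finset.mem_univ a) h)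
    exact ha (h1.symm.trans hprod)
  -- the range of `s - 1`
  set U0 : Submodule F V := Submodule.span F ((S.image e : Finset V) : Set V) with hU0def
  have hU0 : finrank F U0 ≤ 4 :=
    (finrank_span_finset_le_card _).trans (Finset.card_image_le.trans hS)
  have hsy : ∀ y, s y - y ∈ U0 := by
    intro y
    have h1 : s y - y = ∑ r, ((c r - 1) * B y (e r)) • e r := by
      apply fr_ext_coord hfr
      intro r
      rw [map_sub, LinearMap.sub_apply, diag_coord hfr s c hc, fr_coord_sum hfr]
      ring
    rw [h1]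
    apply Submodule.sum_mem
    intro r _
    by_cases hr : r ∈ S
    · apply Submodule.smul_mem
      apply Submodule.subset_span
      rw [Finset.mem_coe, Finset.mem_image]
      exact ⟨r, hr, rfl⟩
    · rw [hcS r hr, sub_self, zero_mul, zero_smul]
      exact Submodule.zero_mem _
  set U : Submodule F V := U0.map ((g⁻¹ : V ≃ₗ[F] V) : V →ₗ[F] V) with hUdef
  have hU : finrank F U ≤ 4 := (Submodule.finrank_map_le _ _).trans hU0
  have hmx : ∀ x, (g⁻¹ * s * g) x - x ∈ U := by
    intro x
    refine ⟨s (g x) - g x, hsy _, ?_⟩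
    rw [LinearEquiv.coe_coe, map_sub, LinearEquiv.mul_apply, LinearEquiv.mul_apply,
      Cfsg.Agent.Lib.Helper94_Symp.inv_apply_apply']
  have hcnt := hrank (g⁻¹ * s * g) ((mem_Mono_iff B e).mp hconj).2 U hmx 4 hU
  -- a frame point fixed by the conjugate
  obtain ⟨i, w, hi⟩ : ∃ i, ∃ w : F, (g⁻¹ * s * g) (e i) = w • e i := by
    by_contra hne
    push Not at hne
    have h1 : {i | ∀ w : F, (g⁻¹ * s * g) (e i) ≠ w • e i} = Set.univ :=
      Set.eq_univ_of_forall hne
    rw [h1, Set.ncard_univ, Nat.card_eq_fintype_card] at hcnt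
    omega
  have hfix : s (g (e i)) = w • g (e i) := by
    rw [LinearEquiv.mul_apply, LinearEquiv.mul_apply] at hi
    have h1 := congrArg g hi
    rwa [Cfsg.Agent.Lib.Helper94_Symp.apply_inv_apply', map_smul] at h1
  -- coordinates
  have hco : ∀ r, (c r - w) * B (g (e i)) (e r) = 0 := by
    intro r
    have h1 := diag_coord hfr s c hc (g (e i)) r
    rw [hfix, map_smul, LinearMap.smul_apply, smul_eq_mul] at h1
    linear_combination -h1
  -- the eigenvalue is one
  have hw : w = 1 := by
    have hcard : 1 < (Finset.univ \ S).card := by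
      have h1 := Finset.card_sdiff_add_card_inter (Finset.univ : Finset ι) S
      have h2 : (Finset.univ ∩ S).card ≤ 4 := (Finset.card_le_card Finset.inter_subset_right).trans hS
      rw [Finset.card_univ] at h1
      omega
    obtain ⟨r1, hr1, r2, hr2, hr12⟩ := Finset.one_lt_card.mp hcard
    have hr1S : r1 ∉ S := (Finset.mem_sdiff.mp hr1).2
    have hr2S : r2 ∉ S := (Finset.mem_sdiff.mp hr2).2
    by_cases h1 : B (g (e i)) (e r1) = 0
    · by_cases h2 : B (g (e i)) (e r2) = 0
      · exact absurd (h21 g hg hgM i r1 r2 hr12 h1 h2) id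
      · have h3 := hco r2
        rw [hcS r2 hr2S] at h3
        rcases mul_eq_zero.mp h3 with h | h
        · exact (sub_eq_zero.mp h).symm
        · exact absurd h h2
    · have h3 := hco r1
      rw [hcS r1 hr1S] at h3
      rcases mul_eq_zero.mp h3 with h | h
      · exact (sub_eq_zero.mp h).symm
      · exact absurd h h1
  -- the two zero coordinates
  have hzero : ∀ r, c r ≠ 1 → B (g (e i)) (e r) = 0 := by
    intro r hr
    have h1 := hco r
    rw [hw] at h1
    rcases mul_eq_zero.mp h1 with h | h
    · exact absurd (sub_eq_zero.mp h) hr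
    · exact h
  exact h21 g hg hgM i a b (Ne.symm hba) (hzero a ha) (hzero b hb)

end Cfsg.Agent.Lib.Helper83_Fr9P22
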