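import Cfsg.Agent.Lib.Helper83_Marks
import Cfsg.Agent.Lib.Helper83_Biset

/-!
# Realizing a family of graph subgroups inside a finite group (helper83)

`T` a finite group, `𝒟` a family of subgroups of `T × T` (to be thought of as the graphs `{(φ u, u)}` of the maps of a
fusion system on `T`), closed under conjugation and under passing to subgroups, containing the diagonal and meeting
`T × 1` trivially.  Then there is a finite group `G` with an injective `ι : T →* G` such that: every pair of maps
`j, φ : Q →* T` that become conjugate under some `g : G` has graph `{(φ u, j u)}` in `𝒟`, and conversely any pair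
`j, φ` such that `(j × id)(J) ∈ 𝒟 ↔ (φ × id)(J) ∈ 𝒟` for all subgroups `J` of `Q × T` becomes conjugate in `G`.

`G` is the group of permutations of a suitable `T × T`-set `X` commuting with the action of `1 × T`
(Park's construction).
-/

set_option autoImplicit false

namespace Cfsg.Agent.Lib.Helper83_Realize

open Classical
open Cfsg.Agent.Lib.Helper83_Marks Cfsg.Agent.Lib.Helper83_Biset

universe u

variable {T : Type u} [Group T]

/-- The diagonal subgroup of `T × T`. -/
def diag (T : Type u) [Group T] : Subgroup (T × T) := (MonoidHom.prod (MonoidHom.id T) (MonoidHom.id T)).range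

theorem mem_diag (x : T × T) : x ∈ diag T ↔ x.1 = x.2 := by
  unfold diag
  rw [MonoidHom.mem_range]
  constructor
  · rintro ⟨t, rfl⟩
    rfl
  · intro h
    refine ⟨x.1, ?_⟩
    ext
    · rfl
    · exact h

/-- The conditions on the family. -/
structure GraphFamily (𝒟 : Set (Subgroup (T × T))) : Prop where
  conj : ∀ K ∈ 𝒟, ∀ h : T × T, cj h K ∈ 𝒟
  down : ∀ K ∈ 𝒟, ∀ L : Subgroup (T × T), L ≤ K → L ∈ 𝒟
  diag_mem : diag T ∈ 𝒟
  left_free : ∀ K ∈ 𝒟, ∀ a : T, ((a, 1) : T × T) ∈ K → a = 1

theorem GraphFamily.card_eq_card_map_snd {𝒟 : Set (Subgroup (T × T))} (h𝒟 : GraphFamily 𝒟)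
    {K : Subgroup (T × T)} (hK : K ∈ 𝒟) : Nat.card K = Nat.card (K.map (MonoidHom.snd T T)) := by
  have hinj : Function.Injective ((MonoidHom.snd T T).comp K.subtype) := by
    rw [injective_iff_map_eq_one]
    intro x hx
    have h1 : (x : T × T).2 = 1 := hx
    have h2 : ((x : T × T).1, (1 : T)) ∈ K := by
      have : (x : T × T) = ((x : T × T).1, 1) := by
        ext
        · rfl
        · exact h1
      rw [← this]
      exact x.2
    have h3 := h𝒟.left_free K hK _ h2
    apply Subtype.ext
    ext
    · exact h3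
    · exact h1
  have e := MonoidHom.ofInjective hinj
  rw [Nat.card_congr e.toEquiv]
  have : ((MonoidHom.snd T T).comp K.subtype).range = K.map (MonoidHom.snd T T) := by
    rw [MonoidHom.range_comp, Subgroup.range_subtype]
  rw [this]

section construction

variable (c : Subgroup (T × T) → ℕ)

/-- Permutations of `XSet c` commuting with the action of `1 × T`. -/
def autGroup : Subgroup (Equiv.Perm (XSet c)) where
  carrier := {g | ∀ (b : T) (x : XSet c), g (((1 : T), b) • x) = ((1 : T), b) • g x}
  mul_mem' := by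
    intro g h hg hh b x
    rw [Equiv.Perm.mul_apply, hh, hg, Equiv.Perm.mul_apply]
  one_mem' := by
    intro b x
    rfl
  inv_mem' := by
    intro g hg b x
    apply g.injective
    have e1 : ∀ y : XSet c, g (g⁻¹ y) = y := fun y => (Equiv.eq_symm_apply g).mp rfl
    rw [hg, e1, e1]

theorem mem_autGroup (g : Equiv.Perm (XSet c)) :
    g ∈ autGroup c ↔ ∀ (b : T) (x : XSet c), g (((1 : T), b) • x) = ((1 : T), b) • g x := Iff.rfl

/-- The left action, as a map into `autGroup`. -/
def iota : T →* autGroup c :=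
  ((MulAction.toPermHom (T × T) (XSet c)).comp (MonoidHom.inl T T)).codRestrict (autGroup c) (by
    intro a b x
    show ((a, (1 : T)) : T × T) • (((1 : T), b) • x) = ((1 : T), b) • (((a, (1 : T)) : T × T) • x)
    rw [← mul_smul, ← mul_smul]
    congr 1
    ext <;> simp)

theorem iota_apply (a : T) (x : XSet c) : ((iota c a : autGroup c) : Equiv.Perm (XSet c)) x = ((a, (1 : T)) : T × T) • x := rfl

end construction

/-- **Park's construction**, abstractly. -/
theorem exists_realization [Finite T] (𝒟 : Set (Subgroup (T × T))) (h𝒟 : GraphFamily 𝒟) :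
    ∃ (G : Type u) (_ : Group G) (_ : Finite G) (ι : T →* G), Function.Injective ι ∧
      (∀ (Q : Type u) [Group Q] (j φ : Q →* T) (g : G), (∀ u : Q, ι (φ u) = g * ι (j u) * g⁻¹) →
        (φ.prod j).range ∈ 𝒟) ∧
      (∀ (Q : Type u) [Group Q] [Finite Q] (j φ : Q →* T),
        (∀ J : Subgroup (Q × T), J.map (j.prodMap (MonoidHom.id T)) ∈ 𝒟 ↔ J.map (φ.prodMap (MonoidHom.id T)) ∈ 𝒟) →
        ∃ g : G, ∀ u : Q, ι (φ u) = g * ι (j u) * g⁻¹) := by
  obtain ⟨c, hc1, hc2, hc3⟩ := exists_stable 𝒟 h𝒟.conj (diag T) h𝒟.diag_mem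
  -- stabilizers lie in 𝒟
  have hstab : ∀ x : XSet c, MulAction.stabilizer (T × T) x ∈ 𝒟 := by
    intro x
    obtain ⟨K, h, hK, hs⟩ := exists_stabilizer_eq c x
    rw [hs]
    exact h𝒟.conj K (hc1 K hK) h
  have hfixed𝒟 : ∀ (L : Subgroup (T × T)) (x : XSet c), (∀ l ∈ L, l • x = x) → L ∈ 𝒟 := by
    intro L x hx
    apply h𝒟.down _ (hstab x)
    intro l hl
    exact hx l hl
  -- base point
  let x₀ : XSet c := ⟨diag T, ⟨0, Nat.pos_of_ne_zero hc2⟩, ((1 : T × T) : (T × T) ⧸ diag T)⟩
  have hx₀ : ∀ t : T, ((t, t) : T × T) • x₀ = x₀ := by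
    intro t
    have h1 : ((t, t) : T × T) ∈ MulAction.stabilizer (T × T) x₀ := by
      rw [stabilizer_mk, cj_one, mem_diag]
    exact h1
  refine ⟨autGroup c, inferInstance, inferInstance, iota c, ?_, ?_, ?_⟩
  · -- injectivity
    rw [injective_iff_map_eq_one]
    intro a ha
    have h1 : ((a, (1 : T)) : T × T) • x₀ = x₀ := by
      rw [← iota_apply, ha]
      rfl
    have h2 : ((a, (1 : T)) : T × T) ∈ MulAction.stabilizer (T × T) x₀ := h1
    exact h𝒟.left_free _ (hstab x₀) a h2
  · -- conjugate maps have graph in 𝒟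
    intro Q _ j φ g hg
    apply hfixed𝒟 _ ((g : Equiv.Perm (XSet c)) x₀)
    intro l hl
    rw [MonoidHom.mem_range] at hl
    obtain ⟨u, rfl⟩ := hl
    have h1 : iota c (φ u) * g = g * iota c (j u) := by
      rw [hg u]
      group
    have h2 := congrArg (fun z : autGroup c => (z : Equiv.Perm (XSet c)) x₀) h1
    simp only [Subgroup.coe_mul, Equiv.Perm.mul_apply, iota_apply] at h2
    -- (j u, 1) • x₀ = (1, (j u)⁻¹) • x₀
    have h3 : ((j u, (1 : T)) : T × T) • x₀ = (((1 : T), (j u)⁻¹) : T × T) • x₀ := by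
      conv_rhs => rw [← hx₀ (j u), ← mul_smul]
      congr 1
      ext <;> simp
    rw [h3, (mem_autGroup c g).mp g.2] at h2
    show (φ.prod j) u • ((g : Equiv.Perm (XSet c)) x₀) = _
    have h4 : (φ.prod j) u = (((1 : T), j u) : T × T) * ((φ u, (1 : T)) : T × T) := by
      ext <;> simp
    rw [h4, mul_smul, h2, ← mul_smul]
    have h5 : (((1 : T), j u) : T × T) * (((1 : T), (j u)⁻¹) : T × T) = 1 := by
      ext <;> simp
    rw [h5, one_smul]
  · -- stable pairs are conjugate
    intro Q _ _ j φ hJ
    let a₁ : Act (Q × T) (XSet c) :=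
      { act := fun h x => ((j h.1, h.2) : T × T) • x
        one' := by
          intro x
          show ((j 1, (1 : T)) : T × T) • x = x
          rw [map_one]
          exact one_smul _ x
        mul' := by
          intro g h x
          show ((j (g.1 * h.1), g.2 * h.2) : T × T) • x = ((j g.1, g.2) : T × T) • ((j h.1, h.2) : T × T) • x
          rw [← mul_smul, map_mul]
          rfl }
    let a₂ : Act (Q × T) (XSet c) :=
      { act := fun h x => ((φ h.1, h.2) : T × T) • x
        one' := by
          intro x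
          show ((φ 1, (1 : T)) : T × T) • x = x
          rw [map_one]
          exact one_smul _ x
        mul' := by
          intro g h x
          show ((φ (g.1 * h.1), g.2 * h.2) : T × T) • x = ((φ g.1, g.2) : T × T) • ((φ h.1, h.2) : T × T) • x
          rw [← mul_smul, map_mul]
          rfl }
    have hfix₁ : ∀ (J : Subgroup (Q × T)) (x : XSet c),
        a₁.Fixed J x ↔ ∀ l ∈ J.map (j.prodMap (MonoidHom.id T)), l • x = x := by
      intro J x
      constructor
      · intro hf l hl
        rw [Subgroup.mem_map] at hl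
        obtain ⟨k, hk, rfl⟩ := hl
        exact hf k hk
      · intro hf k hk
        exact hf _ (Subgroup.mem_map_of_mem _ hk)
    have hfix₂ : ∀ (J : Subgroup (Q × T)) (x : XSet c),
        a₂.Fixed J x ↔ ∀ l ∈ J.map (φ.prodMap (MonoidHom.id T)), l • x = x := by
      intro J x
      constructor
      · intro hf l hl
        rw [Subgroup.mem_map] at hl
        obtain ⟨k, hk, rfl⟩ := hl
        exact hf k hk
      · intro hf k hk
        exact hf _ (Subgroup.mem_map_of_mem _ hk)
    have hmarks : ∀ J : Subgroup (Q × T),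
        Nat.card {x : XSet c // a₁.Fixed J x} = Nat.card {x : XSet c // a₂.Fixed J x} := by
      intro J
      rw [Nat.card_congr (Equiv.subtypeEquivRight (hfix₁ J)), Nat.card_congr (Equiv.subtypeEquivRight (hfix₂ J))]
      by_cases h1 : J.map (j.prodMap (MonoidHom.id T)) ∈ 𝒟
      · have h2 := (hJ J).mp h1
        apply hc3 _ h1 _ h2
        rw [h𝒟.card_eq_card_map_snd h1, h𝒟.card_eq_card_map_snd h2, Subgroup.map_map, Subgroup.map_map]
        rfl
      · have h2 : ¬ J.map (φ.prodMap (MonoidHom.id T)) ∈ 𝒟 := fun h => h1 ((hJ J).mpr h)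
        have e1 : IsEmpty {x : XSet c // ∀ l ∈ J.map (j.prodMap (MonoidHom.id T)), l • x = x} :=
          ⟨fun x => h1 (hfixed𝒟 _ x.1 x.2)⟩
        have e2 : IsEmpty {x : XSet c // ∀ l ∈ J.map (φ.prodMap (MonoidHom.id T)), l • x = x} :=
          ⟨fun x => h2 (hfixed𝒟 _ x.1 x.2)⟩
        rw [Nat.card_of_isEmpty, Nat.card_of_isEmpty]
    obtain ⟨e, he⟩ := Act.exists_equiv_of_marks a₁ a₂ hmarks
    have heG : e ∈ autGroup c := by
      intro b x
      have := he ((1 : Q), b) x
      have h1 : a₁.act ((1 : Q), b) x = (((1 : T), b) : T × T) • x := by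
        show ((j 1, b) : T × T) • x = _
        rw [map_one]
      have h2 : a₂.act ((1 : Q), b) (e x) = (((1 : T), b) : T × T) • e x := by
        show ((φ 1, b) : T × T) • e x = _
        rw [map_one]
      rw [h1, h2] at this
      exact this
    refine ⟨⟨e, heG⟩, ?_⟩
    intro u
    have h1 : iota c (φ u) * ⟨e, heG⟩ = ⟨e, heG⟩ * iota c (j u) := by
      apply Subtype.ext
      apply Equiv.ext
      intro x
      simp only [Subgroup.coe_mul, Equiv.Perm.mul_apply, iota_apply]
      exact (he (u, (1 : T)) x).symm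
    rw [← h1]
    group

end Cfsg.Agent.Lib.Helper83_Realize
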