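import Cfsg.Prelude.Def_FusionSystem
import Cfsg.Agent.Lib.Helper85_Fusion
import Cfsg.Agent.Lib.Helper83_Realize

/-!
# The graphs of the maps of a fusion system (helper83)

For a fusion system `F` over `S`, the family of subgroups `{(φ u, u) : u ∈ P}` of `S × S`, for `φ ∈ F.Hom P`, is a
`GraphFamily` in the sense of `Helper83_Realize`, and a map of the system transports members of the family to members
(in both directions).  Consequence (`realized`): every fusion system on a finite group `S` is realized by a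
finite group containing `S` (Park).
-/

set_option autoImplicit false

namespace Cfsg.Agent.Lib.Helper83_FusionGraph

open Cfsg Cfsg.FusionSystem
open Cfsg.Agent.Lib.Helper85_Fusion Cfsg.Agent.Lib.Helper83_Biset Cfsg.Agent.Lib.Helper83_Realize

universe u

variable {Ω : Type u} [Group Ω] {S : Subgroup Ω}

/-- `K` is the graph `{(φ u, u)}` of `φ`. -/
def IsGraphOf (K : Subgroup (S × S)) (P : Subgroup Ω) (φ : P →* Ω) : Prop :=
  ∀ x : S × S, x ∈ K ↔ ∃ u : P, ((x.1 : S) : Ω) = φ u ∧ ((x.2 : S) : Ω) = (u : Ω)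

/-- The family of graphs of the maps of `F`. -/
def fam (F : FusionSystem S) : Set (Subgroup (S × S)) :=
  {K | ∃ (P : Subgroup Ω) (φ : P →* Ω), φ ∈ F.Hom P ∧ IsGraphOf K P φ}

theorem fam_conj (F : FusionSystem S) : ∀ K ∈ fam F, ∀ h : S × S, cj h K ∈ fam F := by
  rintro K ⟨P, φ, hφ, hK⟩ ⟨a, b⟩
  have hP : P ≤ S := source_le F hφ
  let P' : Subgroup Ω := P.map (MulAut.conj (b : Ω)).toMonoidHom
  have hP' : P' ≤ S := by
    rintro _ ⟨u, hu, rfl⟩
    simp only [MulEquiv.coe_toMonoidHom, MulAut.conj_apply]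
    exact S.mul_mem (S.mul_mem b.2 (hP hu)) (S.inv_mem b.2)
  have hb' : ((b : Ω))⁻¹ ∈ S := S.inv_mem b.2
  have hc : conjHom P' ((b : Ω))⁻¹ ∈ F.Hom P' := F.conj_mem hP' hb'
  have hcP : ∀ v : P', conjHom P' ((b : Ω))⁻¹ v ∈ P := by
    rintro ⟨_, u, hu, rfl⟩
    rw [conjHom_apply]
    simp only [MulEquiv.coe_toMonoidHom, MulAut.conj_apply, inv_inv]
    have : (b : Ω)⁻¹ * ((b : Ω) * u * (b : Ω)⁻¹) * (b : Ω) = u := by group
    rw [this]
    exact hu
  obtain ⟨χ, hχ, hχe⟩ := comp_mem' F hc hφ hcP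
  obtain ⟨χ', hχ', hχ'e⟩ := conj_comp_mem F hχ a.2
  refine ⟨P', χ', hχ', ?_⟩
  intro x
  rw [mem_cj, hK]
  constructor
  · rintro ⟨u, hu1, hu2⟩
    have hx2 : ((x.2 : S) : Ω) = (b : Ω) * u * (b : Ω)⁻¹ := by
      have : (((a, b) : S × S)⁻¹ * x * (a, b)).2 = b⁻¹ * x.2 * b := rfl
      rw [this] at hu2
      have h2 : (b : Ω)⁻¹ * (x.2 : Ω) * (b : Ω) = u := hu2
      rw [← h2]
      group
    have hx1 : ((x.1 : S) : Ω) = (a : Ω) * φ u * (a : Ω)⁻¹ := by
      have : (((a, b) : S × S)⁻¹ * x * (a, b)).1 = a⁻¹ * x.1 * a := rfl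
      rw [this] at hu1
      have h2 : (a : Ω)⁻¹ * (x.1 : Ω) * (a : Ω) = φ u := hu1
      rw [← h2]
      group
    have hv : (b : Ω) * u * (b : Ω)⁻¹ ∈ P' := ⟨u, u.2, by simp⟩
    refine ⟨⟨_, hv⟩, ?_, hx2⟩
    rw [hx1, hχ'e, hχe]
    congr 2
    apply congrArg
    apply Subtype.ext
    show (u : Ω) = conjHom P' ((b : Ω))⁻¹ ⟨_, hv⟩
    rw [conjHom_apply]
    simp only [inv_inv]
    group
  · rintro ⟨v, hv1, hv2⟩
    refine ⟨⟨_, hcP v⟩, ?_, ?_⟩
    · have : (((a, b) : S × S)⁻¹ * x * (a, b)).1 = a⁻¹ * x.1 * a := rfl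
      rw [this]
      show (a : Ω)⁻¹ * (x.1 : Ω) * (a : Ω) = _
      rw [hv1, hχ'e, hχe]
      group
    · have : (((a, b) : S × S)⁻¹ * x * (a, b)).2 = b⁻¹ * x.2 * b := rfl
      rw [this]
      show (b : Ω)⁻¹ * (x.2 : Ω) * (b : Ω) = _
      rw [hv2]
      show _ = conjHom P' ((b : Ω))⁻¹ v
      rw [conjHom_apply]
      simp only [inv_inv]

theorem fam_down (F : FusionSystem S) : ∀ K ∈ fam F, ∀ L : Subgroup (S × S), L ≤ K → L ∈ fam F := by
  rintro K ⟨P, φ, hφ, hK⟩ L hLK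
  let R : Subgroup Ω := (L.map (MonoidHom.snd S S)).map S.subtype
  have hRmem : ∀ r : Ω, r ∈ R ↔ ∃ y ∈ L, ((y.2 : S) : Ω) = r := by
    intro r
    constructor
    · rintro ⟨s, ⟨y, hy, rfl⟩, rfl⟩
      exact ⟨y, hy, rfl⟩
    · rintro ⟨y, hy, rfl⟩
      exact ⟨y.2, ⟨y, hy, rfl⟩, rfl⟩
  have hRP : R ≤ P := by
    intro r hr
    obtain ⟨y, hy, rfl⟩ := (hRmem r).mp hr
    obtain ⟨u, _, hu2⟩ := (hK y).mp (hLK hy)
    rw [hu2]
    exact u.2
  refine ⟨R, φ.comp (Subgroup.inclusion hRP), restrict_mem F hRP hφ, ?_⟩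
  intro x
  constructor
  · intro hx
    obtain ⟨u, hu1, hu2⟩ := (hK x).mp (hLK hx)
    have hr : ((x.2 : S) : Ω) ∈ R := (hRmem _).mpr ⟨x, hx, rfl⟩
    refine ⟨⟨_, hr⟩, ?_, rfl⟩
    rw [hu1]
    show φ u = φ (Subgroup.inclusion hRP ⟨_, hr⟩)
    apply congrArg
    apply Subtype.ext
    exact hu2.symm
  · rintro ⟨r, hr1, hr2⟩
    obtain ⟨y, hy, hyr⟩ := (hRmem _).mp r.2
    obtain ⟨u, hu1, hu2⟩ := (hK y).mp (hLK hy)
    have hur : u = Subgroup.inclusion hRP r := by
      apply Subtype.ext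
      rw [← hu2, hyr]
      rfl
    have hxy : x = y := by
      ext
      · rw [hr1, hu1, hur]
        rfl
      · rw [hr2, hyr]
    rw [hxy]
    exact hy

theorem fam_diag (F : FusionSystem S) : diag S ∈ fam F := by
  refine ⟨S, S.subtype, subtype_mem F le_rfl, ?_⟩
  intro x
  rw [mem_diag]
  constructor
  · intro h
    exact ⟨x.1, rfl, by rw [h]⟩
  · rintro ⟨u, h1, h2⟩
    apply Subtype.ext
    rw [h1, h2]
    rfl

theorem fam_left_free (F : FusionSystem S) : ∀ K ∈ fam F, ∀ a : S, ((a, 1) : S × S) ∈ K → a = 1 := by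
  rintro K ⟨P, φ, hφ, hK⟩ a ha
  obtain ⟨u, hu1, hu2⟩ := (hK _).mp ha
  have hu : u = 1 := by
    apply Subtype.ext
    rw [← hu2]
    rfl
  apply Subtype.ext
  rw [hu1, hu, map_one]
  rfl

theorem graphFamily (F : FusionSystem S) : GraphFamily (fam F) :=
  ⟨fam_conj F, fam_down F, fam_diag F, fam_left_free F⟩

/-- A map of the system transports the family to itself, in both directions. -/
theorem fam_transport (F : FusionSystem S) {P : Subgroup Ω} {φ : P →* Ω} (hφ : φ ∈ F.Hom P)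
    (J : Subgroup (P × S)) :
    J.map ((Subgroup.inclusion (source_le F hφ)).prodMap (MonoidHom.id S)) ∈ fam F ↔
      J.map ((φ.codRestrict S (apply_mem F hφ)).prodMap (MonoidHom.id S)) ∈ fam F := by
  have hP : P ≤ S := source_le F hφ
  have hm1 : ∀ x : S × S, x ∈ J.map ((Subgroup.inclusion hP).prodMap (MonoidHom.id S)) ↔
      ∃ k ∈ J, ((x.1 : S) : Ω) = (k.1 : Ω) ∧ x.2 = k.2 := by
    intro x
    rw [Subgroup.mem_map]
    constructor
    · rintro ⟨k, hk, rfl⟩
      exact ⟨k, hk, rfl, rfl⟩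
    · rintro ⟨k, hk, h1, h2⟩
      refine ⟨k, hk, ?_⟩
      ext
      · exact h1.symm
      · rw [h2]
        rfl
  have hm2 : ∀ x : S × S, x ∈ J.map ((φ.codRestrict S (apply_mem F hφ)).prodMap (MonoidHom.id S)) ↔
      ∃ k ∈ J, ((x.1 : S) : Ω) = φ k.1 ∧ x.2 = k.2 := by
    intro x
    rw [Subgroup.mem_map]
    constructor
    · rintro ⟨k, hk, rfl⟩
      exact ⟨k, hk, rfl, rfl⟩
    · rintro ⟨k, hk, h1, h2⟩
      refine ⟨k, hk, ?_⟩
      ext
      · exact h1.symm
      · rw [h2]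
        rfl
  constructor
  · rintro ⟨V, σ, hσ, hV⟩
    have hVS : V ≤ S := source_le F hσ
    -- every point of the graph of σ comes from J
    have hlift : ∀ v : V, ∃ k ∈ J, σ v = (k.1 : Ω) ∧ ((k.2 : S) : Ω) = (v : Ω) := by
      intro v
      have h1 : ((⟨σ v, apply_mem F hσ v⟩, ⟨v, hVS v.2⟩) : S × S) ∈
          J.map ((Subgroup.inclusion hP).prodMap (MonoidHom.id S)) := (hV _).mpr ⟨v, rfl, rfl⟩
      obtain ⟨k, hk, h2, h3⟩ := (hm1 _).mp h1
      refine ⟨k, hk, h2, ?_⟩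
      rw [← h3]
    have hσP : ∀ v : V, σ v ∈ P := by
      intro v
      obtain ⟨k, _, h2, _⟩ := hlift v
      rw [h2]
      exact k.1.2
    obtain ⟨χ, hχ, hχe⟩ := comp_mem' F hσ hφ hσP
    refine ⟨V, χ, hχ, ?_⟩
    intro x
    rw [hm2]
    constructor
    · rintro ⟨k, hk, h1, h2⟩
      have h3 : (((Subgroup.inclusion hP).prodMap (MonoidHom.id S)) k) ∈
          J.map ((Subgroup.inclusion hP).prodMap (MonoidHom.id S)) := Subgroup.mem_map_of_mem _ hk
      obtain ⟨v, hv1, hv2⟩ := (hV _).mp h3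
      refine ⟨v, ?_, ?_⟩
      · rw [h1, hχe]
        apply congrArg
        apply Subtype.ext
        exact hv1
      · rw [h2]
        exact hv2
    · rintro ⟨v, hv1, hv2⟩
      obtain ⟨k, hk, h2, h3⟩ := hlift v
      refine ⟨k, hk, ?_, ?_⟩
      · rw [hv1, hχe]
        apply congrArg
        apply Subtype.ext
        exact h2
      · apply Subtype.ext
        rw [hv2, h3]
  · rintro ⟨V, τ, hτ, hV⟩
    have hVS : V ≤ S := source_le F hτ
    have hlift : ∀ v : V, ∃ k ∈ J, τ v = φ k.1 ∧ ((k.2 : S) : Ω) = (v : Ω) := by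
      intro v
      have h1 : ((⟨τ v, apply_mem F hτ v⟩, ⟨v, hVS v.2⟩) : S × S) ∈
          J.map ((φ.codRestrict S (apply_mem F hφ)).prodMap (MonoidHom.id S)) := (hV _).mpr ⟨v, rfl, rfl⟩
      obtain ⟨k, hk, h2, h3⟩ := (hm2 _).mp h1
      refine ⟨k, hk, h2, ?_⟩
      rw [← h3]
    have hτr : ∀ v : V, τ v ∈ φ.range := by
      intro v
      obtain ⟨k, _, h2, _⟩ := hlift v
      rw [h2]
      exact ⟨k.1, rfl⟩
    obtain ⟨ψ, hψ, hψe⟩ := F.inv_mem hφ
    obtain ⟨χ, hχ, hχe⟩ := comp_mem' F hτ hψ hτr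
    have hχφ : ∀ (v : V) (p : P), τ v = φ p → χ v = (p : Ω) := by
      intro v p h
      rw [hχe, ← hψe p]
      apply congrArg
      apply Subtype.ext
      exact h
    refine ⟨V, χ, hχ, ?_⟩
    intro x
    rw [hm1]
    constructor
    · rintro ⟨k, hk, h1, h2⟩
      have h3 : (((φ.codRestrict S (apply_mem F hφ)).prodMap (MonoidHom.id S)) k) ∈
          J.map ((φ.codRestrict S (apply_mem F hφ)).prodMap (MonoidHom.id S)) := Subgroup.mem_map_of_mem _ hk
      obtain ⟨v, hv1, hv2⟩ := (hV _).mp h3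
      refine ⟨v, ?_, ?_⟩
      · rw [h1]
        symm
        apply hχφ
        exact hv1.symm
      · rw [h2]
        exact hv2
    · rintro ⟨v, hv1, hv2⟩
      obtain ⟨k, hk, h2, h3⟩ := hlift v
      refine ⟨k, hk, ?_, ?_⟩
      · rw [hv1]
        exact hχφ v k.1 h2
      · apply Subtype.ext
        rw [hv2, h3]

/-- **Park's theorem**: every fusion system over a finite group `S` is realized inside a finite group. -/
theorem realized [Finite S] (F : FusionSystem S) :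
    ∃ (G : Type u) (_ : Group G) (_ : Finite G) (ι : ↥S →* G), F.IsRealizedBy ι := by
  obtain ⟨G, iG, fG, ι, hinj, h1, h2⟩ := exists_realization (fam F) (graphFamily F)
  refine ⟨G, iG, fG, ι, hinj, ?_⟩
  intro P hP φ hφS
  constructor
  · intro hφ
    haveI : Finite P := Finite.of_injective (Subgroup.inclusion hP) (Subgroup.inclusion_injective hP)
    obtain ⟨g, hg⟩ := h2 P (Subgroup.inclusion hP) (φ.codRestrict S hφS) (fun J => fam_transport F hφ J)
    exact ⟨g, fun x => hg x⟩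
  · rintro ⟨g, hg⟩
    obtain ⟨V, σ, hσ, hV⟩ := h1 P (Subgroup.inclusion hP) (φ.codRestrict S hφS) g (fun u => hg u)
    have hmem : ∀ u : P, ∃ v : V, φ u = σ v ∧ (u : Ω) = (v : Ω) := by
      intro u
      have : ((φ.codRestrict S hφS).prod (Subgroup.inclusion hP)) u ∈
          ((φ.codRestrict S hφS).prod (Subgroup.inclusion hP)).range := ⟨u, rfl⟩
      obtain ⟨v, hv1, hv2⟩ := (hV _).mp this
      exact ⟨v, hv1, hv2⟩
    have hPV : P = V := by
      ext x
      constructor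
      · intro hx
        obtain ⟨v, _, hv2⟩ := hmem ⟨x, hx⟩
        rw [show x = (v : Ω) from hv2]
        exact v.2
      · intro hx
        have hVS : V ≤ S := source_le F hσ
        have : ((⟨σ ⟨x, hx⟩, apply_mem F hσ _⟩, ⟨x, hVS hx⟩) : S × S) ∈
            ((φ.codRestrict S hφS).prod (Subgroup.inclusion hP)).range := (hV _).mpr ⟨⟨x, hx⟩, rfl, rfl⟩
        obtain ⟨u, hu⟩ := this
        have h3 := congrArg (fun z : S × S => ((z.2 : S) : Ω)) hu
        simp only at h3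
        rw [← h3]
        exact u.2
    subst hPV
    have : φ = σ := by
      ext u
      obtain ⟨v, hv1, hv2⟩ := hmem u
      have : u = v := Subtype.ext hv2
      rw [hv1, this]
    rw [this]
    exact hσ

end Cfsg.Agent.Lib.Helper83_FusionGraph
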