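import Mathlib
import Cfsg.Agent.Lib.Helper83_HP2Defs
import Cfsg.Agent.Lib.Helper20_HP2_T2B
import Cfsg.Agent.Lib.Helper3_HP2_T2A
import Cfsg.Agent.Lib.Helper3_HP2_T2N
import Cfsg.Agent.Lib.Helper53_HP2_T2M1
import Cfsg.Agent.Lib.Helper55_HP2_FS
import Cfsg.Agent.Lib.Helper89_HP2_T2C

set_option autoImplicit false
set_option linter.unusedSectionVars false
set_option linter.unusedVariables false

/-! HP2-T2 (helper83's HP2 market): case (T-2) is impossible for hyperbolic planes, assembly. -/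

namespace Cfsg.Agent.Lib.Helper83_HP2_T2

open Module Cfsg.Agent.Lib.Helper94_Symp Cfsg.Agent.Lib.Helper94_OrthSmall
  Cfsg.Agent.Lib.Helper94_OrthSiegel Cfsg.Agent.Lib.Helper94_OrthNondeg
  Cfsg.Agent.Lib.Helper29_ODDefs Cfsg.Agent.Lib.Helper94_Q2Defs Cfsg.Agent.Lib.Helper83_HP2Defs

open Cfsg.Agent.Lib.Helper20_HP2_T2B (T2B)
open Cfsg.Agent.Lib.Helper3_HP2_T2A (T2A)
open Cfsg.Agent.Lib.Helper3_HP2_T2N (T2N)
open Cfsg.Agent.Lib.Helper53_HP2_T2M1 (T2M1)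
open Cfsg.Agent.Lib.Helper55_HP2_FS (FS)
open Cfsg.Agent.Lib.Helper89_HP2_T2C (T2C)

variable {F : Type*} [Field F] [Finite F] {t : ℕ} {S M L : Subgroup (PV F t ≃ₗ[F] PV F t)}

/-- a nonzero `c` with `d * c` a non-square (odd characteristic) -/
lemma exists_nonsq (h2 : (2 : F) ≠ 0) {d : F} (hd : d ≠ 0) :
    ∃ c ∈ {c : F | ¬ IsSquare (d * c)}, c ≠ 0 := by
  have : Fintype F := Fintype.ofFinite F
  have hchar : ringChar F ≠ 2 := by
    intro h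
    apply h2
    have h0 : ((ringChar F : ℕ) : F) = 0 := ringChar.Nat.cast_ringChar
    rw [h] at h0
    exact_mod_cast h0
  obtain ⟨n, hn⟩ := FiniteField.exists_nonsquare hchar
  have hn0 : n ≠ 0 := by
    intro h
    apply hn
    rw [h]
    exact ⟨0, by ring⟩
  have hdn : d * (n / d) = n := by field_simp
  refine ⟨n / d, ?_, div_ne_zero hn0 hd⟩
  show ¬ IsSquare (d * (n / d))
  rw [hdn]
  exact hn

/-- **HP2-T2** -/
theorem T2 (hC : PCtx2 F t S M) (h2 : (2 : F) ≠ 0) {d : F} (hd : d ≠ 0)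
    (hN : ∀ x, IsPBl x → IsSquare (d * pQ F t x) → PNrm M x)
    (hCs : ∀ x, IsPBl x → ¬ IsSquare (d * pQ F t x) → PCStar S M x) : False := by
  obtain ⟨M₁, h1, h2', h3, h4⟩ := T2M1 hC h2 hd hN
  obtain ⟨v, hv, -, hcard⟩ := T2A hC h2 hd h1 h2' h3
  have hFS : ∀ g ∈ M, g ∉ S → ∀ x, IsPBl x → ¬ IsSquare (d * pQ F t x) → ∀ l, g x l ≠ 0 :=
    FS hC {c | ¬ IsSquare (d * c)} (exists_nonsq h2 hd) (fun x hx hxs => hCs x hx hxs)
  have hB := T2B hC h2 hd hFS h1 h2' h4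
  have hNn := T2N hC h2 hd hFS h1 h2' h4 hB
  exact T2C hC h2 h1 h2' hB hNn hv (hB v hv hcard)

end Cfsg.Agent.Lib.Helper83_HP2_T2
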