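import Mathlib
import Cfsg.Agent.S0199
import Cfsg.Agent.Lib.Helper71_Fitting
import Cfsg.Agent.Lib.Helper4_DihedralIso

set_option autoImplicit false

/-!
Normal sets of involutions all of whose pairwise products have order 1, 2 or 4 generate 2-groups
(via the Baer–Suzuki theorem), and a descent along the lower central series.
-/

namespace Cfsg.Agent.Lib.Helper83_InvolSets

variable {H : Type*} [Group H]

/-- A finite group generated by a normal set of involutions whose pairwise products have order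
1, 2 or 4 is a 2-group. -/
theorem isPGroup_two_of_involutions [Finite H] (N : Set H) (hgen : Subgroup.closure N = ⊤)
    (hinv : ∀ n ∈ N, n * n = 1) (h1 : ∀ n ∈ N, n ≠ 1) (hconj : ∀ g : H, ∀ n ∈ N, g * n * g⁻¹ ∈ N)
    (hord : ∀ n ∈ N, ∀ m ∈ N, orderOf (n * m) = 1 ∨ orderOf (n * m) = 2 ∨ orderOf (n * m) = 4) :
    IsPGroup 2 H := by
  have : Fact (Nat.Prime 2) := ⟨Nat.prime_two⟩
  have hcore : ∀ n ∈ N, n ∈ Cfsg.Agent.Lib.Helper71_Fitting.sylowCore 2 H := by
    intro w hw
    have hww := hinv w hw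
    have hX : IsPGroup 2 (Subgroup.zpowers w) := by
      apply IsPGroup.of_card (n := 1)
      rw [Nat.card_zpowers, pow_one]
      exact orderOf_eq_prime (by rw [pow_two]; exact hww) (h1 w hw)
    have h : ∀ g : H, IsPGroup 2 ↥(Subgroup.zpowers w ⊔ (Subgroup.zpowers w).map (MulAut.conj g).toMonoidHom) := by
      intro g
      have hw' : g * w * g⁻¹ ∈ N := hconj g w hw
      have heq : Subgroup.zpowers w ⊔ (Subgroup.zpowers w).map (MulAut.conj g).toMonoidHom
          = Subgroup.closure ({w, g * w * g⁻¹} : Set H) := by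
        rw [MonoidHom.map_zpowers, Subgroup.zpowers_eq_closure, Subgroup.zpowers_eq_closure,
          ← Subgroup.closure_union]
        rfl
      rw [heq]
      have hcard := Cfsg.Agent.Lib.Helper4_DihedralIso.card_closure hww (hinv _ hw')
        (h1 w hw) (h1 _ hw')
      rcases hord w hw _ hw' with h1 | h1 | h1
      · apply IsPGroup.of_card (n := 1); rw [hcard, h1]; norm_num
      · apply IsPGroup.of_card (n := 2); rw [hcard, h1]; norm_num
      · apply IsPGroup.of_card (n := 3); rw [hcard, h1]; norm_num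
    obtain ⟨M, hM, hMp, hXM⟩ := Cfsg.Agent.S0199.result (Subgroup.zpowers w) hX h
    have := hM
    exact Cfsg.Agent.Lib.Helper71_Fitting.le_sylowCore_of_normal hMp (hXM (Subgroup.mem_zpowers w))
  have hle : (⊤ : Subgroup H) ≤ Cfsg.Agent.Lib.Helper71_Fitting.sylowCore 2 H := by
    rw [← hgen]
    exact (Subgroup.closure_le _).mpr hcore
  have hP := Cfsg.Agent.Lib.Helper71_Fitting.sylowCore_isPGroup (G := H) 2
  intro g
  obtain ⟨k, hk⟩ := hP ⟨g, hle (Subgroup.mem_top g)⟩
  refine ⟨k, ?_⟩
  have := congrArg Subtype.val hk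
  simpa using this

/-- In a nilpotent group, a nonempty set `N` not containing `1`, in which the commutator of any two
non-commuting members is again a member, contains an element commuting with all of `N`. -/
theorem exists_commuting_of_nilpotent [hnil : Group.IsNilpotent H] (N : Set H) (hne : N.Nonempty)
    (h1 : (1 : H) ∉ N)
    (hcomm : ∀ n ∈ N, ∀ m ∈ N, n * m ≠ m * n → n * m * n⁻¹ * m⁻¹ ∈ N) :
    ∃ n ∈ N, ∀ m ∈ N, n * m = m * n := by
  by_contra hcon
  have hcon' : ∀ n ∈ N, ∃ m ∈ N, n * m ≠ m * n := by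
    intro n hn
    by_contra h
    apply hcon
    refine ⟨n, hn, fun m hm => ?_⟩
    by_contra h'
    exact h ⟨m, hm, h'⟩
  have key : ∀ k : ℕ, ∃ n ∈ N, n ∈ Subgroup.lowerCentralSeries (⊤ : Subgroup H) k := by
    intro k
    induction k with
    | zero =>
      obtain ⟨n, hn⟩ := hne
      exact ⟨n, hn, by simp⟩
    | succ k ih =>
      obtain ⟨n, hn, hnk⟩ := ih
      obtain ⟨m, hm, hnm⟩ := hcon' n hn
      refine ⟨n * m * n⁻¹ * m⁻¹, hcomm n hn m hm hnm, ?_⟩
      rw [Subgroup.mem_lowerCentralSeries_succ_iff]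
      apply Subgroup.subset_closure
      exact ⟨n, hnk, m, Subgroup.mem_top m, rfl⟩
  obtain ⟨c, hc⟩ := Subgroup.nilpotent_iff_lowerCentralSeries.mp hnil
  obtain ⟨n, hn, hnc⟩ := key c
  rw [hc, Subgroup.mem_bot] at hnc
  exact h1 (hnc ▸ hn)

end Cfsg.Agent.Lib.Helper83_InvolSets
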