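import Mathlib

/-!
# Commutators of generated subgroups and a nilpotency criterion through a series in the ambient group
-/

set_option autoImplicit false

namespace Cfsg.Agent.Lib.Helper83_Nilpotent

variable {G : Type*} [Group G]

/-- A set normalizes a subgroup in both directions. -/
def SetNormalizes (T : Set G) (Z : Subgroup G) : Prop :=
  ∀ t ∈ T, ∀ z ∈ Z, t * z * t⁻¹ ∈ Z ∧ t⁻¹ * z * t ∈ Z

theorem setNormalizes_of_subgroup {H Z : Subgroup G} (h : ∀ t ∈ H, ∀ z ∈ Z, t * z * t⁻¹ ∈ Z) :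
    SetNormalizes (H : Set G) Z := by
  intro t ht z hz
  refine ⟨h t ht z hz, ?_⟩
  have := h t⁻¹ (inv_mem ht) z hz
  simpa using this

theorem SetNormalizes.union {T T' : Set G} {Z : Subgroup G} (h : SetNormalizes T Z)
    (h' : SetNormalizes T' Z) : SetNormalizes (T ∪ T') Z := by
  rintro t (ht | ht) z hz
  · exact h t ht z hz
  · exact h' t ht z hz

theorem SetNormalizes.bot (T : Set G) : SetNormalizes T (⊥ : Subgroup G) := by
  intro t _ z hz
  rw [Subgroup.mem_bot] at hz
  subst hz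
  simp

theorem SetNormalizes.closure {T : Set G} {Z : Subgroup G} (h : SetNormalizes T Z) :
    ∀ x ∈ Subgroup.closure T, ∀ z ∈ Z, x * z * x⁻¹ ∈ Z := by
  have hle : Subgroup.closure T ≤ Subgroup.normalizer (Z : Set G) := by
    rw [Subgroup.closure_le]
    intro t ht
    rw [SetLike.mem_coe, Subgroup.mem_normalizer_iff]
    intro z
    constructor
    · intro hz; exact (h t ht z hz).1
    · intro hz
      have := (h t ht _ hz).2
      have e : t⁻¹ * (t * z * t⁻¹) * t = z := by group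
      rwa [e] at this
  intro x hx z hz
  exact (Subgroup.mem_normalizer_iff.mp (hle hx) z).mp hz

/-- Commutators of elements of two generated subgroups lie in `Z` as soon as this holds for the
generators and `Z` is normalized by the generators. -/
theorem comm_mem_of_closure {T T' : Set G} {Z : Subgroup G}
    (hT : SetNormalizes T Z) (hT' : SetNormalizes T' Z)
    (h : ∀ s ∈ T, ∀ t ∈ T', s * t * s⁻¹ * t⁻¹ ∈ Z) :
    ∀ x ∈ Subgroup.closure T, ∀ y ∈ Subgroup.closure T', x * y * x⁻¹ * y⁻¹ ∈ Z := by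
  have nT := hT.closure
  have nT' := hT'.closure
  have step1 : ∀ s ∈ T, ∀ y ∈ Subgroup.closure T', s * y * s⁻¹ * y⁻¹ ∈ Z := by
    intro s hs y hy
    induction hy using Subgroup.closure_induction with
    | mem t ht => exact h s hs t ht
    | one => simp
    | mul y₁ y₂ hy₁ hy₂ ih₁ ih₂ =>
      have e : s * (y₁ * y₂) * s⁻¹ * (y₁ * y₂)⁻¹ =
          (s * y₁ * s⁻¹ * y₁⁻¹) * (y₁ * (s * y₂ * s⁻¹ * y₂⁻¹) * y₁⁻¹) := by group
      rw [e]
      exact mul_mem ih₁ (nT' y₁ hy₁ _ ih₂)
    | inv y hy ih =>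
      have e : s * y⁻¹ * s⁻¹ * y⁻¹⁻¹ = y⁻¹ * (s * y * s⁻¹ * y⁻¹)⁻¹ * y⁻¹⁻¹ := by group
      rw [e]
      exact nT' y⁻¹ (inv_mem hy) _ (inv_mem ih)
  intro x hx y hy
  induction hx using Subgroup.closure_induction with
  | mem s hs => exact step1 s hs y hy
  | one => simp
  | mul x₁ x₂ hx₁ hx₂ ih₁ ih₂ =>
    have e : (x₁ * x₂) * y * (x₁ * x₂)⁻¹ * y⁻¹ =
        (x₁ * (x₂ * y * x₂⁻¹ * y⁻¹) * x₁⁻¹) * (x₁ * y * x₁⁻¹ * y⁻¹) := by group
    rw [e]
    exact mul_mem (nT x₁ hx₁ _ ih₂) ih₁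
  | inv x hx ih =>
    have e : x⁻¹ * y * x⁻¹⁻¹ * y⁻¹ = x⁻¹ * (x * y * x⁻¹ * y⁻¹)⁻¹ * x⁻¹⁻¹ := by group
    rw [e]
    exact nT x⁻¹ (inv_mem hx) _ (inv_mem ih)

/-- Elements of two generated subgroups commute as soon as the generators do. -/
theorem commute_of_closure {T T' : Set G} (h : ∀ s ∈ T, ∀ t ∈ T', s * t = t * s) :
    ∀ x ∈ Subgroup.closure T, ∀ y ∈ Subgroup.closure T', x * y = y * x := by
  intro x hx y hy
  have h1 := comm_mem_of_closure (SetNormalizes.bot T) (SetNormalizes.bot T')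
    (fun s hs t ht => by
      rw [Subgroup.mem_bot, h s hs t ht]; group) x hx y hy
  rw [Subgroup.mem_bot] at h1
  calc x * y = (x * y * x⁻¹ * y⁻¹) * (y * x) := by group
    _ = y * x := by rw [h1, one_mul]

theorem sup_eq_closure (H K : Subgroup G) : H ⊔ K = Subgroup.closure ((H : Set G) ∪ K) := by
  rw [Subgroup.closure_union, Subgroup.closure_eq, Subgroup.closure_eq]

theorem sup3_eq_closure (H K L : Subgroup G) :
    H ⊔ K ⊔ L = Subgroup.closure ((H : Set G) ∪ K ∪ L) := by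
  rw [Subgroup.closure_union, Subgroup.closure_union, Subgroup.closure_eq, Subgroup.closure_eq,
    Subgroup.closure_eq]

theorem sup4_eq_closure (H K L M : Subgroup G) :
    H ⊔ K ⊔ L ⊔ M = Subgroup.closure ((H : Set G) ∪ K ∪ L ∪ M) := by
  rw [Subgroup.closure_union, Subgroup.closure_union, Subgroup.closure_union, Subgroup.closure_eq,
    Subgroup.closure_eq, Subgroup.closure_eq, Subgroup.closure_eq]

/-- A subgroup `R` of `G` is nilpotent as soon as there is a finite series of subgroups of `G`,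
starting above `R` and ending at the trivial group, each term of which is sent into the next by
commutation with `R`. -/
theorem isNilpotent_of_series (R : Subgroup G) (n : ℕ) (H : ℕ → Subgroup G) (h0 : R ≤ H 0)
    (hn : H n = ⊥)
    (hstep : ∀ i, ∀ x ∈ H i, x ∈ R → ∀ g ∈ R, x * g * x⁻¹ * g⁻¹ ∈ H (i + 1)) :
    Group.IsNilpotent ↥R := by
  rw [Subgroup.nilpotent_iff_finite_descending_central_series]
  refine ⟨n, fun i => (H i).subgroupOf R, ⟨?_, ?_⟩, ?_⟩
  · exact Subgroup.subgroupOf_eq_top.mpr h0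
  · intro x i hx g
    rw [Subgroup.mem_subgroupOf] at hx ⊢
    exact hstep i x hx x.2 g g.2
  · show (H n).subgroupOf R = ⊥
    rw [hn]
    exact Subgroup.bot_subgroupOf R

end Cfsg.Agent.Lib.Helper83_Nilpotent
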