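import Cfsg.Agent.S5019

/-!
Rank one pairs are intrinsic to the subgroup they generate: transfer between a rank one pair
`(A, B)` in `G` and the rank one group `↥(A ⊔ B)`; and a version of S5019 for an abelian subgroup
normalized by `A ⊔ B` (acting by conjugation).
-/

set_option autoImplicit false
open Cfsg

namespace Cfsg.Agent.Lib.Helper83_Relative

open Cfsg.Agent.Lib.Helper83_RankOne

variable {G : Type*} [Group G]

theorem conjBy_subgroupOf (H K : Subgroup G) (h : H) :
    Cfsg.conjBy (K.subgroupOf H) h = (Cfsg.conjBy K (h : G)).subgroupOf H := by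
  ext x
  rw [mem_conjBy_iff, Subgroup.mem_subgroupOf, Subgroup.mem_subgroupOf, mem_conjBy_iff]
  simp

theorem rankOneCondition_subgroupOf {A B H : Subgroup G} (hB : B ≤ H)
    (hc : Cfsg.RankOneCondition A B) :
    Cfsg.RankOneCondition (A.subgroupOf H) (B.subgroupOf H) := by
  rintro ⟨a, haH⟩ ha ha1
  rw [Subgroup.mem_subgroupOf] at ha
  have ha1' : a ≠ 1 := fun h => ha1 (Subtype.ext h)
  obtain ⟨b, hb, hb1, hconj⟩ := hc a ha ha1'
  refine ⟨⟨b, hB hb⟩, hb, fun h => hb1 (congrArg Subtype.val h), ?_⟩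
  rw [conjBy_subgroupOf, conjBy_subgroupOf]
  simp only [Subgroup.coe_inv]
  rw [hconj]

theorem isRankOnePair_subgroupOf {A B H : Subgroup G} (hA : A ≤ H) (hB : B ≤ H)
    (h : Cfsg.IsRankOnePair A B) : Cfsg.IsRankOnePair (A.subgroupOf H) (B.subgroupOf H) where
  ne := by
    intro he
    rw [Subgroup.subgroupOf_inj, inf_eq_left.mpr hA, inf_eq_left.mpr hB] at he
    exact h.ne he
  nilpotent_left := by
    have := h.nilpotent_left
    exact Group.nilpotent_of_mulEquiv (Subgroup.subgroupOfEquivOfLe hA).symm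
  nilpotent_right := by
    have := h.nilpotent_right
    exact Group.nilpotent_of_mulEquiv (Subgroup.subgroupOfEquivOfLe hB).symm
  cond_left := rankOneCondition_subgroupOf hB h.cond_left
  cond_right := rankOneCondition_subgroupOf hA h.cond_right

theorem isRankOneGroup_subgroupOf {A B : Subgroup G} (h : Cfsg.IsRankOnePair A B) :
    Cfsg.IsRankOneGroup ↥(A ⊔ B) (A.subgroupOf (A ⊔ B)) (B.subgroupOf (A ⊔ B)) := by
  refine ⟨?_, isRankOnePair_subgroupOf le_sup_left le_sup_right h⟩
  rw [← Subgroup.subgroupOf_sup le_sup_left le_sup_right, Subgroup.subgroupOf_self]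

theorem isSpecial_of_subgroupOf {A B H : Subgroup G} (hA : A ≤ H) (hB : B ≤ H)
    (hr : Cfsg.IsRankOnePair A B)
    (hs : Cfsg.IsSpecialRankOnePair (A.subgroupOf H) (B.subgroupOf H)) :
    Cfsg.IsSpecialRankOnePair A B := by
  refine ⟨hr, ?_⟩
  intro a ha ha1 b hb hb1 hconj
  have h1 := hs.2 ⟨a, hA ha⟩ ha (fun h => ha1 (congrArg Subtype.val h)) ⟨b, hB hb⟩ hb
    (fun h => hb1 (congrArg Subtype.val h)) (by
      rw [conjBy_subgroupOf, conjBy_subgroupOf]
      simp only [Subgroup.coe_inv]
      rw [hconj])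
  exact congrArg Subtype.val h1

theorem isMulCommutative_subgroupOf {A H : Subgroup G} (hA : IsMulCommutative A) :
    IsMulCommutative (A.subgroupOf H) := by
  rw [isMulCommutative_iff]
  rintro ⟨x, hx⟩ ⟨y, hy⟩
  rw [Subgroup.mem_subgroupOf] at hx hy
  have h1 := (isMulCommutative_iff.mp hA) ⟨x, hx⟩ ⟨y, hy⟩
  have h2 : (x : G) * y = y * x := congrArg Subtype.val h1
  apply Subtype.ext
  apply Subtype.ext
  simpa using h2

/-- S5019 for an abelian subgroup `N` normalized by `A ⊔ B`, acted on by conjugation. -/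
theorem special_of_quadratic {A B N : Subgroup G} (hr : Cfsg.IsRankOnePair A B)
    (hab : Cfsg.HasAbelianUnipotents A B) (hNc : IsMulCommutative N)
    (hNn : ∀ x ∈ A ⊔ B, ∀ n ∈ N, x * n * x⁻¹ ∈ N)
    (hq : ∀ a ∈ A, ∀ a' ∈ A, ∀ n ∈ N, a' * (a * n * a⁻¹ * n⁻¹) * a'⁻¹ = a * n * a⁻¹ * n⁻¹)
    (hX : ∃ x ∈ A ⊔ B, ∃ y ∈ A ⊔ B, ∃ n ∈ N,
      y * (x * n * x⁻¹ * n⁻¹) * y⁻¹ ≠ x * n * x⁻¹ * n⁻¹) :
    Cfsg.IsSpecialRankOnePair A B := by
  let cg : CommGroup N :=
    { (inferInstance : Group N) with mul_comm := fun a b => (isMulCommutative_iff.mp hNc) a b }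
  let act : DistribMulAction ↥(A ⊔ B) (Additive N) :=
    { smul := fun h n => Additive.ofMul
        ⟨(h : G) * ((Additive.toMul n : N) : G) * (h : G)⁻¹, hNn h h.2 _ (Additive.toMul n).2⟩
      one_smul := by
        intro n
        apply Additive.toMul.injective
        apply Subtype.ext
        show ((1 : ↥(A ⊔ B)) : G) * ((Additive.toMul n : N) : G) * ((1 : ↥(A ⊔ B)) : G)⁻¹ = _
        simp
      mul_smul := by
        intro h h' n
        apply Additive.toMul.injective
        apply Subtype.ext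
        show ((h * h' : ↥(A ⊔ B)) : G) * ((Additive.toMul n : N) : G) * ((h * h' : ↥(A ⊔ B)) : G)⁻¹ =
          (h : G) * ((h' : G) * ((Additive.toMul n : N) : G) * (h' : G)⁻¹) * (h : G)⁻¹
        simp only [Subgroup.coe_mul]
        group
      smul_zero := by
        intro h
        apply Additive.toMul.injective
        apply Subtype.ext
        show (h : G) * ((1 : N) : G) * (h : G)⁻¹ = ((1 : N) : G)
        simp
      smul_add := by
        intro h n m
        apply Additive.toMul.injective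
        apply Subtype.ext
        show (h : G) * ((Additive.toMul n * Additive.toMul m : N) : G) * (h : G)⁻¹ =
          ((h : G) * ((Additive.toMul n : N) : G) * (h : G)⁻¹) *
            ((h : G) * ((Additive.toMul m : N) : G) * (h : G)⁻¹)
        simp only [Subgroup.coe_mul]
        group }
  have hsmul : ∀ (h : ↥(A ⊔ B)) (n : Additive N),
      ((Additive.toMul (h • n) : N) : G) = (h : G) * ((Additive.toMul n : N) : G) * (h : G)⁻¹ :=
    fun h n => rfl
  have hsub : ∀ (h : ↥(A ⊔ B)) (n : Additive N),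
      ((Additive.toMul (h • n - n) : N) : G) =
        (h : G) * ((Additive.toMul n : N) : G) * (h : G)⁻¹ * ((Additive.toMul n : N) : G)⁻¹ := by
    intro h n
    rw [sub_eq_add_neg]
    rfl
  apply isSpecial_of_subgroupOf le_sup_left le_sup_right hr
  apply Cfsg.Agent.S5019.result (isRankOneGroup_subgroupOf hr)
    ⟨isMulCommutative_subgroupOf hab.1, isMulCommutative_subgroupOf hab.2⟩ (N := Additive N)
  · rintro ⟨a, haH⟩ ha ⟨a', ha'H⟩ ha' n
    rw [Subgroup.mem_subgroupOf] at ha ha'
    apply Additive.toMul.injective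
    apply Subtype.ext
    rw [hsmul, hsub]
    exact hq a ha a' ha' _ (Additive.toMul n).2
  · obtain ⟨x, hx, y, hy, n, hn, hne⟩ := hX
    refine ⟨⟨x, hx⟩, ⟨y, hy⟩, Additive.ofMul ⟨n, hn⟩, ?_⟩
    intro he
    apply hne
    have h2 := congrArg (fun m : Additive N => ((Additive.toMul m : N) : G)) he
    simp only [hsmul, hsub] at h2
    exact h2

end Cfsg.Agent.Lib.Helper83_Relative
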