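import Cfsg.Agent.S5025
import Cfsg.Agent.S5029
import Cfsg.Agent.S5034
import Cfsg.Agent.S5036
import Cfsg.Agent.Lib.Helper83_RankOne
import Cfsg.Agent.Lib.Helper83_RootSets
import Cfsg.Agent.Lib.Helper83_CommCase
import Cfsg.Agent.Lib.Helper83_CommCase2
import Cfsg.Agent.Lib.Helper83_DLemma
import Cfsg.Agent.Lib.Helper83_Nilpotent

/-!
# Lines of a set of abstract root subgroups

A *line* through `A` is `A ⊔ T` for a line partner `T` of `A`.  The main result: when `A` has a rank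
one partner, every line through `A` is standard, that is of the form `A ⊔ ⁅A, K⁆` with `⁅A, K⁆ ∈ S`.
-/

set_option autoImplicit false
open Cfsg
open scoped commutatorElement

namespace Cfsg.Agent.Lib.Helper83_Lines

open Cfsg.Agent.Lib.Helper83_RankOne Cfsg.Agent.Lib.Helper83_RootSets
open Cfsg.Agent.Lib.Helper83_CommCase Cfsg.Agent.Lib.Helper83_CommCase2
open Cfsg.Agent.Lib.Helper83_DLemma (no_third_point conjBy_eq_of_commute)
open Cfsg.Agent.Lib.Helper83_Nilpotent (commute_of_closure sup_eq_closure)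
open Cfsg.Agent.S5036 (exists_ne_one_of_ne_bot eq_one_of_commute_all)
open Cfsg.Agent.S5034 (comm_conj commutator_conjBy commutator_le_sup_conjBy)

variable {G : Type*} [Group G] {S : Set (Subgroup G)}

theorem commute_sup' {H K : Subgroup G} {x : G} (hH : ∀ h ∈ H, x * h = h * x)
    (hK : ∀ k ∈ K, x * k = k * x) : ∀ y ∈ H ⊔ K, x * y = y * x := by
  intro y hy
  rw [sup_eq_closure] at hy
  have hx : x ∈ Subgroup.closure ({x} : Set G) := Subgroup.subset_closure rfl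
  refine commute_of_closure ?_ x hx y hy
  rintro s hs t (ht | ht)
  · rw [Set.mem_singleton_iff] at hs; subst hs; exact hH t ht
  · rw [Set.mem_singleton_iff] at hs; subst hs; exact hK t ht

/-- No point of an abelian partitioned subgroup `N`, other than `A`, commutes with a rank one
partner `D` of `A`. -/
theorem not_commute_point (hS : Cfsg.IsRootSubgroupSet S) {A D N P : Subgroup G} (hA : A ∈ S)
    (hD : D ∈ S) (hr : Cfsg.IsRankOnePair A D) (hNc : ∀ x ∈ N, ∀ y ∈ N, x * y = y * x)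
    (hpart : Cfsg.IsSubgroupPartition N (Cfsg.membersIn S N)) (hAN : A ≤ N)
    (hP : P ∈ Cfsg.membersIn S N) (hPA : P ≠ A) : ¬ ∀ p ∈ P, ∀ d ∈ D, p * d = d * p := by
  intro hcomm
  obtain ⟨a, ha, ha1⟩ := exists_ne_one_left hr
  obtain ⟨p, hp, hp1⟩ := exists_ne_one_of_ne_bot (hS.ne_bot P hP.1)
  have hAmem : A ∈ Cfsg.membersIn S N := ⟨hA, hAN⟩
  have hAP : A ⊓ P = ⊥ := hpart.2.2 A hAmem P hP (Ne.symm hPA)
  have hpa1 : p * a ≠ 1 := by
    intro h1
    have h2 : p ∈ A ⊓ P := by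
      refine Subgroup.mem_inf.mpr ⟨?_, hp⟩
      have : p = a⁻¹ := by
        calc p = (p * a) * a⁻¹ := by group
          _ = a⁻¹ := by rw [h1, one_mul]
      rw [this]; exact inv_mem ha
    rw [hAP, Subgroup.mem_bot] at h2
    exact hp1 h2
  have hz : p ∈ Subgroup.centralizer ((A ⊔ D : Subgroup G) : Set G) := by
    rw [Subgroup.mem_centralizer_iff]
    intro x hx
    exact (commute_sup' (fun a' ha' => hNc p (hP.2 hp) a' (hAN ha')) (fun d hd => hcomm p hp d hd)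
      x hx).symm
  have hnot := Cfsg.Agent.S5025.result hS hA ⟨hD, hr⟩ hz hp1 a ha ha1
  apply hnot
  obtain ⟨E₃, hE₃, hmem⟩ := hpart.2.1 (p * a) (mul_mem (hP.2 hp) (hAN ha)) hpa1
  exact ⟨hpa1, E₃, hE₃.1, hmem⟩

/-- Some point other than `A` is in the commutator case with a rank one partner `D` of `A`. -/
theorem exists_psi_point (hS : Cfsg.IsRootSubgroupSet S) {A D N P₀ : Subgroup G} (hA : A ∈ S)
    (hD : D ∈ S) (hr : Cfsg.IsRankOnePair A D) (hNc : ∀ x ∈ N, ∀ y ∈ N, x * y = y * x)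
    (hpart : Cfsg.IsSubgroupPartition N (Cfsg.membersIn S N)) (hAN : A ≤ N)
    (hP₀ : P₀ ∈ Cfsg.membersIn S N) (hP₀A : P₀ ≠ A) :
    ∃ P ∈ Cfsg.membersIn S N, P ≠ A ∧ ⁅D, P⁆ ∈ S := by
  by_contra hcon
  push Not at hcon
  have hr' := Cfsg.RankOnePair_symm hr
  have hAmem : A ∈ Cfsg.membersIn S N := ⟨hA, hAN⟩
  have hall : ∀ P ∈ Cfsg.membersIn S N, Cfsg.IsRankOnePair D P := by
    intro P hP
    by_cases hPA : P = A
    · rw [hPA]; exact hr'
    · rcases hS.pair D hD P hP.1 with h1 | h1 | h1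
      · exfalso
        apply not_commute_point hS hA hD hr hNc hpart hAN hP hPA
        rw [commutator_eq_bot_iff_commute] at h1
        exact fun p hp d hd => (h1 d hd p hp).symm
      · exact h1
      · exact absurd h1.1 (hcon P hP hPA)
  obtain ⟨a₁, ha₁, ha₁1⟩ := exists_ne_one_left hr
  obtain ⟨b, hb, hb1, hconj⟩ := hr.cond_left a₁ ha₁ ha₁1
  have hP₁ := hall _ hP₀
  obtain ⟨p₁, hp₁, hp₁1, hconj₁⟩ := hP₁.cond_left b hb hb1
  have hcomm1 : ∀ x ∈ Cfsg.conjBy D a₁⁻¹, ∀ y ∈ Cfsg.conjBy D p₁⁻¹, x * y = y * x := by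
    rw [← hconj, hconj₁]
    exact comm_conj (fun a ha c hc => hNc a (hAN ha) c (hP₀.2 hc)) b⁻¹
  have hcomm2 := comm_conj hcomm1 a₁
  rw [conjBy_conjBy_inv, conjBy_mul] at hcomm2
  have hn : a₁ * p₁⁻¹ ∈ N := mul_mem (hAN ha₁) (hP₀.2 (inv_mem hp₁))
  have hAP : A ⊓ P₀ = ⊥ := hpart.2.2 A hAmem P₀ hP₀ (Ne.symm hP₀A)
  have hn1 : a₁ * p₁⁻¹ ≠ 1 := by
    intro h1
    have h2 : a₁ = p₁ := by
      calc a₁ = (a₁ * p₁⁻¹) * p₁ := by group
        _ = p₁ := by rw [h1, one_mul]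
    have h3 : a₁ ∈ A ⊓ P₀ := Subgroup.mem_inf.mpr ⟨ha₁, by rw [h2]; exact hp₁⟩
    rw [hAP, Subgroup.mem_bot] at h3
    exact ha₁1 h3
  obtain ⟨P₂, hP₂, hnP₂⟩ := hpart.2.1 _ hn hn1
  have hP₂r := hall P₂ hP₂
  have hmem2 : Cfsg.conjBy D (a₁ * p₁⁻¹) ∈ Cfsg.unipotentSubgroups D P₂ :=
    conjBy_mem_unipotentSubgroups (self_mem_unipotentSubgroups D P₂)
      (Subgroup.mem_sup_right hnP₂)
  have hne2 : Cfsg.conjBy D (a₁ * p₁⁻¹) ≠ D := by
    intro h5
    exact hn1 (eq_one_of_mem_of_mem_normalizer (Cfsg.RankOnePair_symm hP₂r) hnP₂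
      (mem_normalizer_of_conjBy_eq h5))
  obtain ⟨hpair, -⟩ := isRankOnePair_of_mem hP₂r (self_mem_unipotentSubgroups D P₂) hmem2
    (Ne.symm hne2)
  exact not_commute hpair hcomm2

section point

variable {A B C : Subgroup G}

/-- If `(A, B)` is a rank one pair, `C` commutes with `A` and `⁅B, C⁆ ∈ S`, then `A` and `⁅B, C⁆`
are in the commutator case. -/
theorem commCase_of_point (hS' : Cfsg.IsRootSubgroupSet S) (hA : A ∈ S)
    (hBS : B ∈ S) (hr : Cfsg.IsRankOnePair A B) (hC : C ∈ S)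
    (hAC : ∀ a ∈ A, ∀ c ∈ C, a * c = c * a) (hBC : ⁅B, C⁆ ∈ S) :
    Cfsg.RootCommutatorCase S A ⁅B, C⁆ := by
  have hr' := Cfsg.RankOnePair_symm hr
  have cBC : Cfsg.RootCommutatorCase S B C := commutatorCase_of_mem hS' hBS hC hBC
  have hCBeq : ⁅C, B⁆ = ⁅B, C⁆ := Subgroup.commutator_comm C B
  have hFB : ∀ ν ∈ ⁅B, C⁆, ∀ b ∈ B, ν * b = b * ν := fun ν hν b hb => comm_left cBC hν hb
  have hFC : ∀ ν ∈ ⁅B, C⁆, ∀ c ∈ C, ν * c = c * ν := fun ν hν c hc => comm_right cBC hν hc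
  obtain ⟨c₀, hc₀, hc₀1⟩ := exists_ne_one_of_ne_bot (hS'.ne_bot C hC)
  have hinjBC : ∀ β ∈ B, β ≠ 1 → ∀ c ∈ C, β * c = c * β → c = 1 :=
    fun β hβ hβ1 c hc h => eq_one_of_commute hS' hBS hA hr' cBC hβ hβ1 hc h
  obtain ⟨β, hβ, hβ1⟩ := exists_ne_one_right hr
  rcases hS'.pair A hA _ hBC with h1 | h1 | h1
  · exfalso
    rw [commutator_eq_bot_iff_commute] at h1
    have hle : Cfsg.conjBy B c₀ ≤ ⁅B, C⁆ ⊔ B := by
      rw [sup_comm]
      exact conjBy_le_sup hc₀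
    have hne : Cfsg.conjBy B c₀ ≠ B := conjBy_ne_of_ne_one hS' hA hr' cBC hc₀ hc₀1
    have hcb : ⁅c₀, β⁆ ∈ ⁅B, C⁆ := by
      rw [← hCBeq]
      exact Subgroup.commutator_mem_commutator hc₀ hβ
    have he : β * ⁅c₀, β⁆ ∈ Cfsg.conjBy B c₀ := by
      have h2 : c₀ * β * c₀⁻¹ ∈ Cfsg.conjBy B c₀ := conj_mem_conjBy hβ c₀
      have e : c₀ * β * c₀⁻¹ = β * ⁅c₀, β⁆ := by
        rw [← hFB _ hcb β hβ, commutatorElement_def]; group
      rwa [e] at h2
    exact no_third_point hS' hA hBS (hS'.conj_mem B hBS c₀) hr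
      (fun x hx a' ha' => (h1 a' ha' x hx).symm) hFB hle hne hβ hβ1 hcb he
  · exfalso
    have hβc : ⁅β, c₀⁆ ≠ 1 := by
      intro h2
      apply hc₀1
      apply hinjBC β hβ hβ1 c₀ hc₀
      rw [commutatorElement_def] at h2
      calc β * c₀ = (β * c₀ * β⁻¹ * c₀⁻¹) * (c₀ * β) := by group
        _ = c₀ * β := by rw [h2, one_mul]
    have hle : Cfsg.conjBy C β ≤ C ⊔ ⁅B, C⁆ := by
      rw [← hCBeq]
      exact conjBy_le_sup hβ
    have hne : Cfsg.conjBy C β ≠ ⁅B, C⁆ := by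
      intro h2
      apply hc₀1
      apply hinjBC β hβ hβ1 c₀ hc₀
      have h3 : β * c₀ * β⁻¹ ∈ ⁅B, C⁆ := by
        rw [← h2]; exact conj_mem_conjBy hc₀ β
      have h4 := hFB _ h3 β hβ
      calc β * c₀ = β⁻¹ * (β * (β * c₀ * β⁻¹)) * β := by group
        _ = β⁻¹ * ((β * c₀ * β⁻¹) * β) * β := by rw [h4]
        _ = c₀ * β := by group
    have he : ⁅β, c₀⁆ * c₀ ∈ Cfsg.conjBy C β := by
      have h2 : β * c₀ * β⁻¹ ∈ Cfsg.conjBy C β := conj_mem_conjBy hc₀ β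
      have e : β * c₀ * β⁻¹ = ⁅β, c₀⁆ * c₀ := by rw [commutatorElement_def]; group
      rwa [e] at h2
    exact no_third_point hS' hA hBC (hS'.conj_mem C hC β) h1
      (fun c hc a' ha' => (hAC a' ha' c hc).symm) (fun c hc ν hν => (hFC ν hν c hc).symm)
      hle hne (Subgroup.commutator_mem_commutator hβ hc₀) hβc hc₀ he
  · exact h1

/-- The key formula for the action of `B` on `⁅A, ⁅B, C⁆⁆`. -/
theorem key_formula (hS' : Cfsg.IsRootSubgroupSet S) (hA : A ∈ S)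
    (hBS : B ∈ S) (hr : Cfsg.IsRankOnePair A B) (hC : C ∈ S)
    (hAC : ∀ a ∈ A, ∀ c ∈ C, a * c = c * a) (hBC : ⁅B, C⁆ ∈ S)
    {a b : G} (ha : a ∈ A) (hb : b ∈ B) (hconj : Cfsg.conjBy A b⁻¹ = Cfsg.conjBy B a⁻¹) :
    ∀ c ∈ C, ∀ b' ∈ B, b' * ⁅a, ⁅b⁻¹, c⁆⁆ * b'⁻¹ = ⁅a, ⁅b⁻¹, c⁆⁆ * ⁅c, b'⁆ := by
  have cBC : Cfsg.RootCommutatorCase S B C := commutatorCase_of_mem hS' hBS hC hBC
  have hAF := commCase_of_point hS' hA hBS hr hC hAC hBC
  have hFB : ∀ ν ∈ ⁅B, C⁆, ∀ b ∈ B, ν * b = b * ν := fun ν hν b hb => comm_left cBC hν hb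
  have hFC : ∀ ν ∈ ⁅B, C⁆, ∀ c ∈ C, ν * c = c * ν := fun ν hν c hc => comm_right cBC hν hc
  have hC₁F : ∀ κ ∈ ⁅A, ⁅B, C⁆⁆, ∀ ν ∈ ⁅B, C⁆, κ * ν = ν * κ :=
    fun κ hκ ν hν => comm_right hAF hκ hν
  have hb₀ : b⁻¹ ∈ B := inv_mem hb
  have hgB : Cfsg.conjBy A (a * b⁻¹) = B := by
    rw [← conjBy_mul, hconj, conjBy_conjBy_inv]
  intro c hc b' hb'
  have hν : ⁅b⁻¹, c⁆ ∈ ⁅B, C⁆ := Subgroup.commutator_mem_commutator hb₀ hc
  have hκ : ⁅a, ⁅b⁻¹, c⁆⁆ ∈ ⁅A, ⁅B, C⁆⁆ := Subgroup.commutator_mem_commutator ha hν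
  generalize hνdef : ⁅b⁻¹, c⁆ = ν at hν hκ
  generalize hκdef : ⁅a, ν⁆ = κ at hκ
  have hq : (a * b⁻¹) * c * (a * b⁻¹)⁻¹ = κ * ν * c := by
    have e1 : c * a⁻¹ = a⁻¹ * c := (hAC a⁻¹ (inv_mem ha) c hc).symm
    calc (a * b⁻¹) * c * (a * b⁻¹)⁻¹ = a * (b⁻¹ * c * b⁻¹⁻¹ * c⁻¹) * (c * a⁻¹) := by group
      _ = a * ν * (a⁻¹ * c) := by rw [← commutatorElement_def, hνdef, e1]
      _ = (a * ν * a⁻¹ * ν⁻¹) * ν * c := by group
      _ = κ * ν * c := by rw [← commutatorElement_def, hκdef]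
  have hqmem : (a * b⁻¹) * c * (a * b⁻¹)⁻¹ ∈ Cfsg.conjBy C (a * b⁻¹) := conj_mem_conjBy hc _
  have hb'mem : b' ∈ Cfsg.conjBy A (a * b⁻¹) := by rw [hgB]; exact hb'
  have hcomm := comm_conj (fun c' hc' a' ha' => (hAC a' ha' c' hc').symm) (a * b⁻¹) _ hqmem _ hb'mem
  rw [hq] at hcomm
  have e2 : ν * b' = b' * ν := hFB ν hν b' hb'
  have e3 : κ * ν = ν * κ := hC₁F κ hκ ν hν
  have h5 : κ * c * b' = b' * κ * c := by
    have l1 : κ * ν * c * b' = ν * (κ * c * b') := by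
      calc κ * ν * c * b' = (κ * ν) * c * b' := by group
        _ = (ν * κ) * c * b' := by rw [e3]
        _ = ν * (κ * c * b') := by group
    have l2 : b' * (κ * ν * c) = ν * (b' * κ * c) := by
      calc b' * (κ * ν * c) = b' * (κ * ν) * c := by group
        _ = b' * (ν * κ) * c := by rw [e3]
        _ = (b' * ν) * κ * c := by group
        _ = (ν * b') * κ * c := by rw [e2]
        _ = ν * (b' * κ * c) := by group
    rw [l1, l2] at hcomm
    exact mul_left_cancel hcomm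
  rw [commutatorElement_def]
  calc b' * κ * b'⁻¹ = (b' * κ * c) * c⁻¹ * b'⁻¹ := by group
    _ = (κ * c * b') * c⁻¹ * b'⁻¹ := by rw [h5]
    _ = κ * (c * b' * c⁻¹ * b'⁻¹) := by group

/-- If moreover the products `a c` (`1 ≠ a ∈ A`, `1 ≠ c ∈ C`) are root elements, then
`⁅A, ⁅B, C⁆⁆ = C`. -/
theorem commutator_commutator_eq (hS' : Cfsg.IsRootSubgroupSet S) (hA : A ∈ S)
    (hBS : B ∈ S) (hr : Cfsg.IsRankOnePair A B) (hC : C ∈ S)
    (hAC : ∀ a ∈ A, ∀ c ∈ C, a * c = c * a) (hBC : ⁅B, C⁆ ∈ S)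
    (hroot : ∀ a ∈ A, a ≠ 1 → ∀ c ∈ C, c ≠ 1 → a * c ∈ Cfsg.rootElements S) :
    ⁅A, ⁅B, C⁆⁆ = C := by
  have cBC : Cfsg.RootCommutatorCase S B C := commutatorCase_of_mem hS' hBS hC hBC
  have hAF := commCase_of_point hS' hA hBS hr hC hAC hBC
  obtain ⟨a, ha, ha1⟩ := exists_ne_one_left hr
  obtain ⟨b, hb, hb1, hconj⟩ := hr.cond_left a ha ha1
  have hkey := key_formula hS' hA hBS hr hC hAC hBC ha hb hconj
  have hle : C ≤ ⁅A, ⁅B, C⁆⁆ := by
    intro c hc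
    by_cases hc1 : c = 1
    · rw [hc1]; exact one_mem _
    have hν : ⁅b⁻¹, c⁆ ∈ ⁅B, C⁆ := Subgroup.commutator_mem_commutator (inv_mem hb) hc
    have hκ : ⁅a, ⁅b⁻¹, c⁆⁆ ∈ ⁅A, ⁅B, C⁆⁆ := Subgroup.commutator_mem_commutator ha hν
    have hk := hkey c hc
    generalize ⁅a, ⁅b⁻¹, c⁆⁆ = κ at hκ hk
    -- z = κ c centralizes A ⊔ B and ⁅B, C⁆
    have hκA : ∀ a' ∈ A, κ * a' = a' * κ := fun a' ha' => comm_left hAF hκ ha'
    have hκK : ∀ ν ∈ ⁅B, C⁆, κ * ν = ν * κ := fun ν hν => comm_right hAF hκ hν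
    have hcK : ∀ ν ∈ ⁅B, C⁆, c * ν = ν * c := fun ν hν => (comm_right cBC hν hc).symm
    have hzA : ∀ a' ∈ A, (κ * c) * a' = a' * (κ * c) := by
      intro a' ha'
      calc κ * c * a' = κ * (c * a') := by group
        _ = κ * (a' * c) := by rw [hAC a' ha' c hc]
        _ = (κ * a') * c := by group
        _ = (a' * κ) * c := by rw [hκA a' ha']
        _ = a' * (κ * c) := by group
    have hzB : ∀ b' ∈ B, (κ * c) * b' = b' * (κ * c) := by
      intro b' hb'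
      have h1 := hk b' hb'
      rw [commutatorElement_def] at h1
      calc κ * c * b' = (κ * (c * b' * c⁻¹ * b'⁻¹)) * b' * c := by group
        _ = (b' * κ * b'⁻¹) * b' * c := by rw [h1]
        _ = b' * (κ * c) := by group
    have hzK : ∀ ν ∈ ⁅B, C⁆, (κ * c) * ν = ν * (κ * c) := by
      intro ν hν
      calc κ * c * ν = κ * (c * ν) := by group
        _ = κ * (ν * c) := by rw [hcK ν hν]
        _ = (κ * ν) * c := by group
        _ = (ν * κ) * c := by rw [hκK ν hν]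
        _ = ν * (κ * c) := by group
    by_cases hz1 : κ * c = 1
    · have : c = κ⁻¹ := by
        calc c = κ⁻¹ * (κ * c) := by group
          _ = κ⁻¹ := by rw [hz1, mul_one]
      rw [this]; exact inv_mem hκ
    exfalso
    -- a κ⁻¹ lies in a conjugate of A by an element of ⁅B, C⁆
    obtain ⟨k, hk', hmem⟩ := exists_mem_conjBy hAF ha ha1 (inv_mem hκ)
    have hpair := isRankOnePair_conj hr k
    have hAk : Cfsg.conjBy A k ∈ S := hS'.conj_mem A hA k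
    have hBk : Cfsg.conjBy B k ∈ S := hS'.conj_mem B hBS k
    have hzk : (κ * c) * k = k * (κ * c) := hzK k hk'
    have hzkinv : (κ * c) * k⁻¹ = k⁻¹ * (κ * c) := hzK k⁻¹ (inv_mem hk')
    have hzconj : ∀ H : Subgroup G, (∀ h ∈ H, (κ * c) * h = h * (κ * c)) →
        ∀ x ∈ Cfsg.conjBy H k, (κ * c) * x = x * (κ * c) := by
      intro H hH x hx
      rw [mem_conjBy_iff] at hx
      have h1 := hH _ hx
      calc κ * c * x = k * (k⁻¹ * (κ * c)) * (x * k) * k⁻¹ := by group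
        _ = k * ((κ * c) * k⁻¹) * (x * k) * k⁻¹ := by rw [hzkinv]
        _ = k * ((κ * c) * (k⁻¹ * x * k)) * k⁻¹ := by group
        _ = k * ((k⁻¹ * x * k) * (κ * c)) * k⁻¹ := by rw [h1]
        _ = x * (k * (κ * c)) * k⁻¹ := by group
        _ = x * ((κ * c) * k) * k⁻¹ := by rw [hzk]
        _ = x * (κ * c) := by group
    have hz : κ * c ∈ Subgroup.centralizer
        ((Cfsg.conjBy A k ⊔ Cfsg.conjBy B k : Subgroup G) : Set G) := by
      rw [Subgroup.mem_centralizer_iff]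
      intro x hx
      exact (commute_sup' (hzconj A hzA) (hzconj B hzB) x hx).symm
    have hq1 : a * κ⁻¹ ≠ 1 := by
      intro h1
      have h2 : a = κ := by
        calc a = (a * κ⁻¹) * κ := by group
          _ = κ := by rw [h1, one_mul]
      have h3 : a ∈ A ⊓ ⁅A, ⁅B, C⁆⁆ := Subgroup.mem_inf.mpr ⟨ha, by rw [h2]; exact hκ⟩
      rw [inf_commutator_eq_bot hS' hBS hr hAF, Subgroup.mem_bot] at h3
      exact ha1 h3
    have hnot := Cfsg.Agent.S5025.result hS' hAk ⟨hBk, hpair⟩ hz hz1 _ hmem hq1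
    apply hnot
    have hκc : κ * c = c * κ := by
      -- c commutes with A and ⁅B, C⁆, hence with ⁅A, ⁅B, C⁆⁆
      have hcen : ⁅A, ⁅B, C⁆⁆ ≤ Subgroup.centralizer ({c} : Set G) := by
        rw [Subgroup.commutator_le]
        intro a' ha' μ hμ
        rw [Subgroup.mem_centralizer_iff]
        intro x hx
        rw [Set.mem_singleton_iff] at hx
        subst hx
        have e1 := hAC a' ha' x hc
        have e2 := hcK μ hμ
        have e1' : a'⁻¹ * x = x * a'⁻¹ := by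
          calc a'⁻¹ * x = a'⁻¹ * (x * a') * a'⁻¹ := by group
            _ = a'⁻¹ * (a' * x) * a'⁻¹ := by rw [e1]
            _ = x * a'⁻¹ := by group
        have e2' : μ⁻¹ * x = x * μ⁻¹ := by
          calc μ⁻¹ * x = μ⁻¹ * (x * μ) * μ⁻¹ := by group
            _ = μ⁻¹ * (μ * x) * μ⁻¹ := by rw [e2]
            _ = x * μ⁻¹ := by group
        rw [commutatorElement_def]
        calc x * (a' * μ * a'⁻¹ * μ⁻¹) = (x * a') * μ * a'⁻¹ * μ⁻¹ := by group
          _ = (a' * x) * μ * a'⁻¹ * μ⁻¹ := by rw [e1]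
          _ = a' * (x * μ) * a'⁻¹ * μ⁻¹ := by group
          _ = a' * (μ * x) * a'⁻¹ * μ⁻¹ := by rw [e2]
          _ = a' * μ * (x * a'⁻¹) * μ⁻¹ := by group
          _ = a' * μ * (a'⁻¹ * x) * μ⁻¹ := by rw [e1']
          _ = a' * μ * a'⁻¹ * (x * μ⁻¹) := by group
          _ = a' * μ * a'⁻¹ * (μ⁻¹ * x) := by rw [e2']
          _ = a' * μ * a'⁻¹ * μ⁻¹ * x := by group
      have h1 := Subgroup.mem_centralizer_iff.mp (hcen hκ) c rfl
      exact h1.symm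
    have e : κ * c * (a * κ⁻¹) = a * c := by
      calc κ * c * (a * κ⁻¹) = κ * (c * a) * κ⁻¹ := by group
        _ = κ * (a * c) * κ⁻¹ := by rw [hAC a ha c hc]
        _ = (κ * a) * c * κ⁻¹ := by group
        _ = (a * κ) * c * κ⁻¹ := by rw [hκA a ha]
        _ = a * (κ * c) * κ⁻¹ := by group
        _ = a * (c * κ) * κ⁻¹ := by rw [hκc]
        _ = a * c := by group
    rw [e]
    exact hroot a ha ha1 c hc hc1
  exact (eq_of_le_commutator hS' hA hBS hr hAF hC hle).symm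

end point

/-- Every line through `A` is standard when `A` has a rank one partner. -/
theorem standard_line (hS : Cfsg.IsRootSubgroupSet S) {A D T : Subgroup G} (hA : A ∈ S)
    (hD : D ∈ S) (hr : Cfsg.IsRankOnePair A D) (hT : T ∈ Cfsg.linePartners S A) :
    ∃ K ∈ S, ⁅A, K⁆ ∈ S ∧ A ⊔ T = A ⊔ ⁅A, K⁆ := by
  obtain ⟨⟨hTS, hTA, hAT0⟩, hpart⟩ := hT
  have hAT : ∀ a ∈ A, ∀ t ∈ T, a * t = t * a := commutator_eq_bot_iff_commute.mp hAT0
  have hAc := hS.commutative A hA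
  have hTc := hS.commutative T hTS
  have hNc : ∀ x ∈ A ⊔ T, ∀ y ∈ A ⊔ T, x * y = y * x := by
    intro x hx y hy
    rw [sup_eq_closure] at hx hy
    refine commute_of_closure ?_ x hx y hy
    rintro s (hs | hs) t (ht | ht)
    · exact comm_of_mem hAc hs ht
    · exact hAT s hs t ht
    · exact (hAT t ht s hs).symm
    · exact comm_of_mem hTc hs ht
  have hAN : A ≤ A ⊔ T := le_sup_left
  have hTmem : T ∈ Cfsg.membersIn S (A ⊔ T) := ⟨hTS, le_sup_right⟩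
  have hAmem : A ∈ Cfsg.membersIn S (A ⊔ T) := ⟨hA, hAN⟩
  have hATinf : A ⊓ T = ⊥ := hpart.2.2 A hAmem T hTmem (Ne.symm hTA)
  rcases hS.pair D hD T hTS with h1 | h1 | h1
  · exfalso
    apply not_commute_point hS hA hD hr hNc hpart hAN hTmem hTA
    rw [commutator_eq_bot_iff_commute] at h1
    exact fun p hp d hd => (h1 d hd p hp).symm
  · -- rank one: conjugate the line into a standard line through D
    obtain ⟨t, ht, ht1⟩ := exists_ne_one_right h1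
    obtain ⟨d, hd, hd1, hconjT⟩ := h1.cond_right t ht ht1
    -- hconjT : conjBy T d⁻¹ = conjBy D t⁻¹
    obtain ⟨a, ha, ha1, hconjA⟩ := hr.cond_right d hd hd1
    -- hconjA : conjBy D a⁻¹ = conjBy A d⁻¹
    have hz : a * t⁻¹ ∈ A ⊔ T := mul_mem (Subgroup.mem_sup_left ha) (Subgroup.mem_sup_right (inv_mem ht))
    have hz1 : a * t⁻¹ ≠ 1 := by
      intro h2
      have h3 : a = t := by
        calc a = (a * t⁻¹) * t := by group
          _ = t := by rw [h2, one_mul]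
      have h4 : a ∈ A ⊓ T := Subgroup.mem_inf.mpr ⟨ha, by rw [h3]; exact ht⟩
      rw [hATinf, Subgroup.mem_bot] at h4
      exact ha1 h4
    have hN' : Cfsg.conjBy (A ⊔ T) (a * d⁻¹) = D ⊔ Cfsg.conjBy D (a * t⁻¹) := by
      rw [← conjBy_mul, conjBy_sup, ← hconjA, hconjT, conjBy_sup, conjBy_conjBy_inv, conjBy_mul]
    have hcommD : ∀ x ∈ D, ∀ y ∈ Cfsg.conjBy D (a * t⁻¹), x * y = y * x := by
      intro x hx y hy
      have hx' : x ∈ Cfsg.conjBy (A ⊔ T) (a * d⁻¹) := by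
        rw [hN']; exact Subgroup.mem_sup_left hx
      have hy' : y ∈ Cfsg.conjBy (A ⊔ T) (a * d⁻¹) := by
        rw [hN']; exact Subgroup.mem_sup_right hy
      exact comm_conj hNc (a * d⁻¹) x hx' y hy'
    obtain ⟨R, hR, hzR⟩ := hpart.2.1 _ hz hz1
    have hRA : R ≠ A := by
      rintro rfl
      have h3 : t⁻¹ ∈ R := by
        have : t⁻¹ = a⁻¹ * (a * t⁻¹) := by group
        rw [this]; exact mul_mem (inv_mem ha) hzR
      have h4 : t ∈ R ⊓ T := Subgroup.mem_inf.mpr ⟨by simpa using inv_mem h3, ht⟩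
      rw [hATinf, Subgroup.mem_bot] at h4
      exact ht1 h4
    rcases hS.pair D hD R hR.1 with h2 | h2 | h2
    · exfalso
      apply not_commute_point hS hA hD hr hNc hpart hAN hR hRA
      rw [commutator_eq_bot_iff_commute] at h2
      exact fun p hp d hd => (h2 d hd p hp).symm
    · exfalso
      have hmem2 : Cfsg.conjBy D (a * t⁻¹) ∈ Cfsg.unipotentSubgroups D R :=
        conjBy_mem_unipotentSubgroups (self_mem_unipotentSubgroups D R)
          (Subgroup.mem_sup_right hzR)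
      have hne2 : Cfsg.conjBy D (a * t⁻¹) ≠ D := by
        intro h5
        exact hz1 (eq_one_of_mem_of_mem_normalizer (Cfsg.RankOnePair_symm h2) hzR
          (mem_normalizer_of_conjBy_eq h5))
      obtain ⟨hpair, -⟩ := isRankOnePair_of_mem h2 (self_mem_unipotentSubgroups D R) hmem2
        (Ne.symm hne2)
      exact not_commute hpair hcommD
    · -- the standard line D ⊔ ⁅D, R⁆
      have hle1 : Cfsg.conjBy D (a * t⁻¹) ≤ D ⊔ ⁅D, R⁆ := conjBy_le_sup hzR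
      have hle2 : ⁅D, R⁆ ≤ D ⊔ Cfsg.conjBy D (a * t⁻¹) := commutator_le_sup_conjBy h2 hzR hz1
      have hN'' : Cfsg.conjBy (A ⊔ T) (a * d⁻¹) = D ⊔ ⁅D, R⁆ := by
        rw [hN']
        exact le_antisymm (sup_le le_sup_left hle1) (sup_le le_sup_left hle2)
      have hAD : Cfsg.conjBy A (a * d⁻¹) = D := by
        rw [← conjBy_mul, ← hconjA, conjBy_conjBy_inv]
      refine ⟨Cfsg.conjBy R (a * d⁻¹)⁻¹, hS.conj_mem R hR.1 _, ?_, ?_⟩
      · have h3 : ⁅A, Cfsg.conjBy R (a * d⁻¹)⁻¹⁆ = Cfsg.conjBy ⁅D, R⁆ (a * d⁻¹)⁻¹ := by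
          rw [← commutator_conjBy, ← hAD, conjBy_inv_conjBy]
        rw [h3]
        exact hS.conj_mem _ h2.1 _
      · have h3 : ⁅A, Cfsg.conjBy R (a * d⁻¹)⁻¹⁆ = Cfsg.conjBy ⁅D, R⁆ (a * d⁻¹)⁻¹ := by
          rw [← commutator_conjBy, ← hAD, conjBy_inv_conjBy]
        rw [h3]
        have h4 : A ⊔ T = Cfsg.conjBy (D ⊔ ⁅D, R⁆) (a * d⁻¹)⁻¹ := by
          rw [← hN'', conjBy_inv_conjBy]
        rw [h4, conjBy_sup, ← hAD, conjBy_inv_conjBy]
  · -- commutator case: T = ⁅A, ⁅D, T⁆⁆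
    have hroot : ∀ a ∈ A, a ≠ 1 → ∀ c ∈ T, c ≠ 1 → a * c ∈ Cfsg.rootElements S := by
      intro a ha ha1 c hc hc1
      have hac1 : a * c ≠ 1 := by
        intro h2
        have h3 : a = c⁻¹ := by
          calc a = (a * c) * c⁻¹ := by group
            _ = c⁻¹ := by rw [h2, one_mul]
        have h4 : a ∈ A ⊓ T := Subgroup.mem_inf.mpr ⟨ha, by rw [h3]; exact inv_mem hc⟩
        rw [hATinf, Subgroup.mem_bot] at h4
        exact ha1 h4
      obtain ⟨E, hE, hmem⟩ := hpart.2.1 _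
        (mul_mem (Subgroup.mem_sup_left ha) (Subgroup.mem_sup_right hc)) hac1
      exact ⟨hac1, E, hE.1, hmem⟩
    have h3 := commutator_commutator_eq hS hA hD hr hTS hAT h1.1 hroot
    refine ⟨⁅D, T⁆, h1.1, ?_, ?_⟩
    · rw [h3]; exact hTS
    · rw [h3]

end Cfsg.Agent.Lib.Helper83_Lines
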