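import Cfsg.Agent.S5029
import Cfsg.Agent.S5034
import Cfsg.Agent.S5036
import Cfsg.Agent.S5038
import Cfsg.Agent.Lib.Helper83_RankOne
import Cfsg.Agent.Lib.Helper83_RootSets
import Cfsg.Agent.Lib.Helper83_CommCase
import Cfsg.Agent.Lib.Helper83_CommCase2
import Cfsg.Agent.Lib.Helper83_DLemma
import Cfsg.Agent.Lib.Helper83_Nilpotent
import Cfsg.Agent.Lib.Helper83_Lines

/-!
# More on lines: conjugation invariance, points are line partners, the opposite direction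
-/

set_option autoImplicit false
open Cfsg

namespace Cfsg.Agent.Lib.Helper83_Lines

open Cfsg.Agent.Lib.Helper83_RankOne Cfsg.Agent.Lib.Helper83_RootSets
open Cfsg.Agent.Lib.Helper83_CommCase Cfsg.Agent.Lib.Helper83_CommCase2
open Cfsg.Agent.Lib.Helper83_DLemma (conjBy_eq_of_commute)
open Cfsg.Agent.Lib.Helper83_Nilpotent (commute_of_closure sup_eq_closure)
open Cfsg.Agent.S5034 (comm_conj commutator_conjBy commutator_le_sup_conjBy)

variable {G : Type*} [Group G] {S : Set (Subgroup G)}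

/-- A line is abelian. -/
theorem line_comm (hS : Cfsg.IsRootSubgroupSet S) {A T : Subgroup G} (hA : A ∈ S)
    (hT : T ∈ Cfsg.linePartners S A) : ∀ x ∈ A ⊔ T, ∀ y ∈ A ⊔ T, x * y = y * x := by
  obtain ⟨⟨hTS, -, hAT0⟩, -⟩ := hT
  have hAT : ∀ a ∈ A, ∀ t ∈ T, a * t = t * a := commutator_eq_bot_iff_commute.mp hAT0
  have hAc := hS.commutative A hA
  have hTc := hS.commutative T hTS
  intro x hx y hy
  rw [sup_eq_closure] at hx hy
  refine commute_of_closure ?_ x hx y hy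
  rintro s (hs | hs) t (ht | ht)
  · exact comm_of_mem hAc hs ht
  · exact hAT s hs t ht
  · exact (hAT t ht s hs).symm
  · exact comm_of_mem hTc hs ht

/-- Conjugation invariance of the members inside a subgroup. -/
theorem membersIn_conjBy (hS : Cfsg.IsRootSubgroupSet S) (N : Subgroup G) (g : G) {E : Subgroup G} :
    E ∈ Cfsg.membersIn S (Cfsg.conjBy N g) ↔ Cfsg.conjBy E g⁻¹ ∈ Cfsg.membersIn S N := by
  constructor
  · rintro ⟨hE, hle⟩
    refine ⟨hS.conj_mem E hE g⁻¹, ?_⟩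
    have := conjBy_mono hle g⁻¹
    rwa [conjBy_inv_conjBy] at this
  · rintro ⟨hE, hle⟩
    have h1 := hS.conj_mem _ hE g
    rw [conjBy_conjBy_inv] at h1
    refine ⟨h1, ?_⟩
    have := conjBy_mono hle g
    rwa [conjBy_conjBy_inv] at this

/-- Conjugation invariance of partitions by members. -/
theorem isSubgroupPartition_conjBy (hS : Cfsg.IsRootSubgroupSet S) {N : Subgroup G}
    (h : Cfsg.IsSubgroupPartition N (Cfsg.membersIn S N)) (g : G) :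
    Cfsg.IsSubgroupPartition (Cfsg.conjBy N g) (Cfsg.membersIn S (Cfsg.conjBy N g)) := by
  refine ⟨fun E hE => hE.2, ?_, ?_⟩
  · intro x hx hx1
    rw [mem_conjBy_iff] at hx
    have hx1' : g⁻¹ * x * g ≠ 1 := by
      intro h1
      apply hx1
      calc x = g * (g⁻¹ * x * g) * g⁻¹ := by group
        _ = 1 := by rw [h1]; group
    obtain ⟨P, hP, hxP⟩ := h.2.1 _ hx hx1'
    refine ⟨Cfsg.conjBy P g, ?_, ?_⟩
    · rw [membersIn_conjBy hS, conjBy_inv_conjBy]; exact hP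
    · rw [mem_conjBy_iff]; exact hxP
  · intro E₁ hE₁ E₂ hE₂ hne
    rw [membersIn_conjBy hS] at hE₁ hE₂
    have hne' : Cfsg.conjBy E₁ g⁻¹ ≠ Cfsg.conjBy E₂ g⁻¹ := fun h1 => hne (conjBy_injective h1)
    have h1 := h.2.2 _ hE₁ _ hE₂ hne'
    rw [← conjBy_inf, conjBy_eq_bot_iff] at h1
    exact h1

/-- Conjugation invariance of line partners. -/
theorem linePartners_conjBy (hS : Cfsg.IsRootSubgroupSet S) {A T : Subgroup G}
    (hT : T ∈ Cfsg.linePartners S A) (g : G) :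
    Cfsg.conjBy T g ∈ Cfsg.linePartners S (Cfsg.conjBy A g) := by
  obtain ⟨⟨hTS, hTA, hAT0⟩, hpart⟩ := hT
  refine ⟨⟨hS.conj_mem T hTS g, fun h => hTA (conjBy_injective h), ?_⟩, ?_⟩
  · rw [commutator_conjBy, hAT0, conjBy_bot]
  · rw [← conjBy_sup]
    exact isSubgroupPartition_conjBy hS hpart g

/-- The points of a standard line `A ⊔ ⁅A, K⁆` other than `A` are line partners of `A`. -/
theorem point_mem_linePartners (hS : Cfsg.IsRootSubgroupSet S) {A K P : Subgroup G}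
    (hiso : ¬ Cfsg.IsIsolatedIn (Cfsg.FAdj S) S A) (hA : A ∈ S) (hK : K ∈ S) (hC : ⁅A, K⁆ ∈ S)
    (hP : P ∈ Cfsg.membersIn S (A ⊔ ⁅A, K⁆)) (hPA : P ≠ A) : P ∈ Cfsg.linePartners S A := by
  have cAK := commutatorCase_of_mem hS hA hK hC
  obtain ⟨hmem, hpart, -, -⟩ := Cfsg.Agent.S5029.result hS hiso hA hK hC
  have hAc := hS.commutative A hA
  have hcomm : ∀ a ∈ A, ∀ n ∈ A ⊔ ⁅A, K⁆, a * n = n * a := by
    intro a ha n hn
    exact commute_sup' (fun a' ha' => comm_of_mem hAc ha ha')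
      (fun c hc => (comm_left cAK hc ha).symm) n hn
  have hline : A ⊔ P = A ⊔ ⁅A, K⁆ := by
    apply le_antisymm (sup_le le_sup_left hP.2)
    refine sup_le le_sup_left ?_
    have hP' := hP
    rw [hmem] at hP'
    rcases hP' with ⟨k, hk, rfl⟩ | hP'
    · have hk1 : k ≠ 1 := by
        rintro rfl
        exact hPA (conjBy_one A)
      exact commutator_le_sup_conjBy cAK hk hk1
    · rw [Set.mem_singleton_iff] at hP'
      rw [hP']; exact le_sup_right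
  refine ⟨⟨hP.1, hPA, ?_⟩, ?_⟩
  · rw [commutator_eq_bot_iff_commute]
    exact fun a ha p hp => hcomm a ha p (hP.2 hp)
  · rw [hline]; exact hpart

/-- `A` lies in the subgroup generated by its line partners on a standard line. -/
theorem le_iSup_linePartners (hS : Cfsg.IsRootSubgroupSet S) {A K : Subgroup G}
    (hiso : ¬ Cfsg.IsIsolatedIn (Cfsg.FAdj S) S A) (hA : A ∈ S) (hK : K ∈ S) (hC : ⁅A, K⁆ ∈ S) :
    A ≤ ⨆ C ∈ Cfsg.linePartners S A, C := by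
  have cAK := commutatorCase_of_mem hS hA hK hC
  obtain ⟨D, hD, hAD⟩ := exists_partner hiso hA
  obtain ⟨k, hk, hk1⟩ := Cfsg.Agent.S5036.exists_ne_one_of_ne_bot (hS.ne_bot K hK)
  have h1 : ⁅A, K⁆ ∈ Cfsg.linePartners S A :=
    point_mem_linePartners hS hiso hA hK hC ⟨hC, le_sup_right⟩ (ne_commutator hS cAK).symm
  have h2 : Cfsg.conjBy A k ∈ Cfsg.linePartners S A :=
    point_mem_linePartners hS hiso hA hK hC ⟨hS.conj_mem A hA k, conjBy_le_sup hk⟩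
      (conjBy_ne_of_ne_one hS hD hAD cAK hk hk1)
  have h3 : Cfsg.conjBy (A ⊔ ⁅A, K⁆) k = A ⊔ ⁅A, K⁆ := Cfsg.Agent.S5038.conjBy_line_eq cAK hk
  rw [conjBy_sup, conjBy_eq_of_commute (fun q hq => (comm_right cAK hq hk).symm)] at h3
  calc A ≤ A ⊔ ⁅A, K⁆ := le_sup_left
    _ = Cfsg.conjBy A k ⊔ ⁅A, K⁆ := h3.symm
    _ ≤ ⨆ C ∈ Cfsg.linePartners S A, C :=
      sup_le (le_iSup₂_of_le _ h2 le_rfl) (le_iSup₂_of_le _ h1 le_rfl)

/-- The opposite direction on a standard line: some `K' ∈ S` has `⁅⁅A, K⁆, K'⁆ = A`. -/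
theorem exists_opposite (hS : Cfsg.IsRootSubgroupSet S)
    (hF : ∀ E ∈ S, ¬ Cfsg.IsIsolatedIn (Cfsg.FAdj S) S E) {A K : Subgroup G} (hA : A ∈ S)
    (hK : K ∈ S) (hC : ⁅A, K⁆ ∈ S) : ∃ K' ∈ S, ⁅⁅A, K⁆, K'⁆ = A := by
  have cAK := commutatorCase_of_mem hS hA hK hC
  obtain ⟨hmem, -, hlpC, -⟩ := Cfsg.Agent.S5029.result hS (hF A hA) hA hK hC
  obtain ⟨D', hD', hCD'⟩ := exists_partner (hF _ hC) hC
  obtain ⟨K'', hK'', hQ, hN'⟩ := standard_line hS hC hD' hCD' hlpC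
  have cCK'' := commutatorCase_of_mem hS hC hK'' hQ
  have hQmem : ⁅⁅A, K⁆, K''⁆ ∈ Cfsg.membersIn S (A ⊔ ⁅A, K⁆) := by
    refine ⟨hQ, ?_⟩
    rw [sup_comm, hN']
    exact le_sup_right
  have hQC : ⁅⁅A, K⁆, K''⁆ ≠ ⁅A, K⁆ := (ne_commutator hS cCK'').symm
  rw [hmem] at hQmem
  rcases hQmem with ⟨k₀, hk₀, hk₀Q⟩ | hQmem
  · refine ⟨Cfsg.conjBy K'' k₀⁻¹, hS.conj_mem K'' hK'' _, ?_⟩
    have h1 : Cfsg.conjBy ⁅A, K⁆ k₀⁻¹ = ⁅A, K⁆ :=
      conjBy_eq_of_commute (fun q hq => (comm_right cAK hq (inv_mem hk₀)).symm)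
    calc ⁅⁅A, K⁆, Cfsg.conjBy K'' k₀⁻¹⁆ = ⁅Cfsg.conjBy ⁅A, K⁆ k₀⁻¹, Cfsg.conjBy K'' k₀⁻¹⁆ := by
          rw [h1]
      _ = Cfsg.conjBy ⁅⁅A, K⁆, K''⁆ k₀⁻¹ := commutator_conjBy _ _ _
      _ = Cfsg.conjBy (Cfsg.conjBy A k₀) k₀⁻¹ := by rw [← hk₀Q]
      _ = A := conjBy_inv_conjBy A k₀
  · exact absurd (Set.mem_singleton_iff.mp hQmem) hQC

end Cfsg.Agent.Lib.Helper83_Lines
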