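import Mathlib

/-!
# Burnside's theorem on marks (helper83)

Two finite sets with an action of a finite group `H`, given as bare functions `H → X → X` satisfying the two laws
(so that two different actions on the same type can be compared without instance clashes), having the same number of
fixed points for every subgroup of `H`, are isomorphic: there is an equivariant bijection.
-/

set_option autoImplicit false

namespace Cfsg.Agent.Lib.Helper83_Marks

open Classical

/-- An explicit action of a group `H` on a type `X`. -/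
structure Act (H : Type*) [Group H] (X : Type*) where
  act : H → X → X
  one' : ∀ x, act 1 x = x
  mul' : ∀ g h x, act (g * h) x = act g (act h x)

namespace Act

variable {H X Y : Type*} [Group H]

/-- The stabilizer of a point. -/
def stab (a : Act H X) (x : X) : Subgroup H where
  carrier := {h | a.act h x = x}
  mul_mem' := by
    intro g h hg hh
    simp only [Set.mem_ofPred_eq] at *
    rw [a.mul', hh, hg]
  one_mem' := a.one' x
  inv_mem' := by
    intro g hg
    simp only [Set.mem_ofPred_eq] at *
    conv_lhs => rw [← hg]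
    rw [← a.mul', inv_mul_cancel, a.one']

theorem mem_stab (a : Act H X) (x : X) (h : H) : h ∈ a.stab x ↔ a.act h x = x := Iff.rfl

theorem inv_act (a : Act H X) (h : H) (x : X) : a.act h⁻¹ (a.act h x) = x := by
  rw [← a.mul', inv_mul_cancel, a.one']

theorem act_inv (a : Act H X) (h : H) (x : X) : a.act h (a.act h⁻¹ x) = x := by
  rw [← a.mul', mul_inv_cancel, a.one']

theorem act_injective (a : Act H X) (h : H) : Function.Injective (a.act h) := fun x y hxy => by
  have := congrArg (a.act h⁻¹) hxy
  rwa [inv_act, inv_act] at this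

/-- `x` is fixed by every element of `K`. -/
def Fixed (a : Act H X) (K : Subgroup H) (x : X) : Prop := ∀ k ∈ K, a.act k x = x

theorem fixed_stab (a : Act H X) (x : X) : a.Fixed (a.stab x) x := fun _ hk => hk

theorem le_stab_of_fixed (a : Act H X) {K : Subgroup H} {x : X} (h : a.Fixed K x) : K ≤ a.stab x :=
  fun k hk => h k hk

theorem act_eq_act_iff (a : Act H X) (x : X) (g h : H) :
    a.act g x = a.act h x ↔ h⁻¹ * g ∈ a.stab x := by
  rw [mem_stab, a.mul']
  constructor
  · intro e
    rw [e, inv_act]
  · intro e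
    have := congrArg (a.act h) e
    rwa [act_inv] at this

theorem fixed_act_iff (a : Act H X) (K : Subgroup H) (x : X) (h : H) :
    a.Fixed K (a.act h x) ↔ ∀ k ∈ K, h⁻¹ * k * h ∈ a.stab x := by
  constructor
  · intro hf k hk
    have := hf k hk
    rw [← a.mul', act_eq_act_iff] at this
    rwa [← mul_assoc] at this
  · intro hf k hk
    have := hf k hk
    rw [← a.mul', act_eq_act_iff, ← mul_assoc]
    exact this

theorem filter_fixed_bot (c : Act H X) (C : Finset X) : C.filter (c.Fixed ⊥) = C := by
  apply Finset.filter_true_of_mem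
  intro z _ k hk
  rw [Subgroup.mem_bot.mp hk, c.one']

theorem card_fixed_eq [Fintype X] (c : Act H X) (K : Subgroup H) :
    Nat.card {z : X // c.Fixed K z} = (Finset.univ.filter (c.Fixed K)).card := by
  rw [Nat.card_eq_fintype_card, Fintype.card_subtype]

/-- Induction engine: invariant finite subsets with equal marks are equivariantly in bijection. -/
theorem exists_bijOn [Finite H] [Nonempty Y] (a : Act H X) (b : Act H Y) :
    ∀ (n : ℕ) (A : Finset X) (B : Finset Y), A.card = n →
      (∀ h x, x ∈ A → a.act h x ∈ A) → (∀ h y, y ∈ B → b.act h y ∈ B) →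
      (∀ K : Subgroup H, (A.filter (a.Fixed K)).card = (B.filter (b.Fixed K)).card) →
      ∃ f : X → Y, Set.BijOn f A B ∧ ∀ h x, x ∈ A → f (a.act h x) = b.act h (f x) := by
  intro n
  induction n using Nat.strong_induction_on with
  | _ n ih =>
  intro A B hn hA hB hm
  by_cases hAe : A = ∅
  · subst hAe
    have hB0 : B = ∅ := by
      have h1 := hm ⊥
      rw [filter_fixed_bot, filter_fixed_bot] at h1
      rw [Finset.card_empty] at h1
      exact Finset.card_eq_zero.mp h1.symm
    subst hB0
    refine ⟨fun _ => Classical.arbitrary Y, ?_, ?_⟩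
    · simp [Set.BijOn, Set.MapsTo, Set.InjOn, Set.SurjOn]
    · intro h x hx
      simp at hx
  · obtain ⟨x₁, hx₁⟩ := Finset.nonempty_iff_ne_empty.mpr hAe
    let 𝒦 : Set (Subgroup H) := {K | (A.filter (a.Fixed K)).card ≠ 0}
    have h𝒦ne : 𝒦.Nonempty := by
      refine ⟨⊥, ?_⟩
      show (A.filter (a.Fixed ⊥)).card ≠ 0
      rw [filter_fixed_bot]
      exact Finset.card_ne_zero.mpr ⟨x₁, hx₁⟩
    obtain ⟨K, hK𝒦, hKmax⟩ := Set.exists_max_image 𝒦 (fun K => Nat.card K) (Set.toFinite 𝒦) h𝒦ne
    obtain ⟨x, hxA, hxK⟩ : ∃ x ∈ A, a.Fixed K x := by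
      have h1 : (A.filter (a.Fixed K)).Nonempty := Finset.card_pos.mp (Nat.pos_of_ne_zero hK𝒦)
      obtain ⟨x, hx⟩ := h1
      rw [Finset.mem_filter] at hx
      exact ⟨x, hx.1, hx.2⟩
    obtain ⟨y, hyB, hyK⟩ : ∃ y ∈ B, b.Fixed K y := by
      have h0 : (B.filter (b.Fixed K)).card ≠ 0 := by rw [← hm K]; exact hK𝒦
      have h1 : (B.filter (b.Fixed K)).Nonempty := Finset.card_pos.mp (Nat.pos_of_ne_zero h0)
      obtain ⟨y, hy⟩ := h1
      rw [Finset.mem_filter] at hy
      exact ⟨y, hy.1, hy.2⟩
    have hsx : a.stab x = K := by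
      symm
      apply Subgroup.eq_of_le_of_card_ge (a.le_stab_of_fixed hxK)
      apply hKmax
      show (A.filter (a.Fixed (a.stab x))).card ≠ 0
      exact Finset.card_ne_zero.mpr ⟨x, Finset.mem_filter.mpr ⟨hxA, a.fixed_stab x⟩⟩
    have hsy : b.stab y = K := by
      symm
      apply Subgroup.eq_of_le_of_card_ge (b.le_stab_of_fixed hyK)
      apply hKmax
      show (A.filter (a.Fixed (b.stab y))).card ≠ 0
      rw [hm]
      exact Finset.card_ne_zero.mpr ⟨y, Finset.mem_filter.mpr ⟨hyB, b.fixed_stab y⟩⟩
    have hss : a.stab x = b.stab y := hsx.trans hsy.symm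
    -- orbit predicates
    let inO : X → Prop := fun x' => ∃ h, a.act h x = x'
    let inO' : Y → Prop := fun y' => ∃ h, b.act h y = y'
    let f₀ : X → Y := fun x' => if hx : inO x' then b.act (Classical.choose hx) y else y
    have hf₀ : ∀ h, f₀ (a.act h x) = b.act h y := by
      intro h
      have hx : inO (a.act h x) := ⟨h, rfl⟩
      show (if hx : inO (a.act h x) then b.act (Classical.choose hx) y else y) = _
      rw [dif_pos hx]
      have h1 := Classical.choose_spec hx
      rw [act_eq_act_iff, hss] at h1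
      exact (b.act_eq_act_iff y _ _).mpr h1
    have hkey : ∀ g h, a.act g x = a.act h x ↔ b.act g y = b.act h y := by
      intro g h
      rw [act_eq_act_iff, act_eq_act_iff, hss]
    have hfix : ∀ (K' : Subgroup H) h, a.Fixed K' (a.act h x) ↔ b.Fixed K' (b.act h y) := by
      intro K' h
      rw [fixed_act_iff, fixed_act_iff, hss]
    -- complements
    have hA' : ∀ h x', x' ∈ A.filter (fun x' => ¬ inO x') → a.act h x' ∈ A.filter (fun x' => ¬ inO x') := by
      intro h x' hx'
      rw [Finset.mem_filter] at hx' ⊢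
      refine ⟨hA h x' hx'.1, ?_⟩
      rintro ⟨g, hg⟩
      apply hx'.2
      refine ⟨h⁻¹ * g, ?_⟩
      rw [a.mul', hg, inv_act]
    have hB' : ∀ h y', y' ∈ B.filter (fun y' => ¬ inO' y') → b.act h y' ∈ B.filter (fun y' => ¬ inO' y') := by
      intro h y' hy'
      rw [Finset.mem_filter] at hy' ⊢
      refine ⟨hB h y' hy'.1, ?_⟩
      rintro ⟨g, hg⟩
      apply hy'.2
      refine ⟨h⁻¹ * g, ?_⟩
      rw [b.mul', hg, inv_act]
    have hlt : (A.filter (fun x' => ¬ inO x')).card < n := by
      rw [← hn]
      apply Finset.card_lt_card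
      rw [Finset.ssubset_iff_of_subset (Finset.filter_subset _ _)]
      refine ⟨x, hxA, ?_⟩
      rw [Finset.mem_filter]
      rintro ⟨_, h2⟩
      exact h2 ⟨1, a.one' x⟩
    have hm' : ∀ K' : Subgroup H, ((A.filter (fun x' => ¬ inO x')).filter (a.Fixed K')).card
        = ((B.filter (fun y' => ¬ inO' y')).filter (b.Fixed K')).card := by
      intro K'
      have e1 := Finset.card_filter_add_card_filter_not (s := A.filter (a.Fixed K')) inO
      have e2 := Finset.card_filter_add_card_filter_not (s := B.filter (b.Fixed K')) inO'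
      have e3 : ((A.filter (a.Fixed K')).filter inO).card = ((B.filter (b.Fixed K')).filter inO').card := by
        apply Finset.card_bij (fun x' _ => f₀ x')
        · intro x' hx'
          simp only [Finset.mem_filter] at hx' ⊢
          obtain ⟨⟨hx'A, hx'F⟩, h, rfl⟩ := hx'
          rw [hf₀]
          exact ⟨⟨hB h y hyB, (hfix K' h).mp hx'F⟩, h, rfl⟩
        · intro x₁' hx₁' x₂' hx₂' he
          simp only [Finset.mem_filter] at hx₁' hx₂'
          obtain ⟨_, h₁, rfl⟩ := hx₁'
          obtain ⟨_, h₂, rfl⟩ := hx₂'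
          rw [hf₀, hf₀] at he
          exact (hkey h₁ h₂).mpr he
        · intro y' hy'
          simp only [Finset.mem_filter] at hy'
          obtain ⟨⟨hy'B, hy'F⟩, h, rfl⟩ := hy'
          refine ⟨a.act h x, ?_, hf₀ h⟩
          simp only [Finset.mem_filter]
          exact ⟨⟨hA h x hxA, (hfix K' h).mpr hy'F⟩, h, rfl⟩
      have e4 : (A.filter (fun x' => ¬ inO x')).filter (a.Fixed K')
          = (A.filter (a.Fixed K')).filter (fun x' => ¬ inO x') := by
        rw [Finset.filter_filter, Finset.filter_filter]
        apply Finset.filter_congr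
        intro _ _
        exact and_comm
      have e5 : (B.filter (fun y' => ¬ inO' y')).filter (b.Fixed K')
          = (B.filter (b.Fixed K')).filter (fun y' => ¬ inO' y') := by
        rw [Finset.filter_filter, Finset.filter_filter]
        apply Finset.filter_congr
        intro _ _
        exact and_comm
      rw [e4, e5]
      have := hm K'
      omega
    obtain ⟨f', hf'bij, hf'eq⟩ := ih _ hlt _ _ rfl hA' hB' hm'
    refine ⟨fun x' => if inO x' then f₀ x' else f' x', ?_, ?_⟩
    · refine ⟨?_, ?_, ?_⟩
      · intro x' hx'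
        have hx'A : x' ∈ A := hx'
        show (if inO x' then f₀ x' else f' x') ∈ (B : Set Y)
        by_cases hO : inO x'
        · rw [if_pos hO]
          obtain ⟨h, rfl⟩ := hO
          rw [hf₀]
          exact hB h y hyB
        · rw [if_neg hO]
          have : x' ∈ A.filter (fun x' => ¬ inO x') := Finset.mem_filter.mpr ⟨hx'A, hO⟩
          have h2 := hf'bij.1 this
          exact (Finset.mem_filter.mp h2).1
      · intro x₁' hx₁' x₂' hx₂' he
        have hx₁A : x₁' ∈ A := hx₁'
        have hx₂A : x₂' ∈ A := hx₂'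
        simp only at he
        by_cases hO₁ : inO x₁' <;> by_cases hO₂ : inO x₂'
        · rw [if_pos hO₁, if_pos hO₂] at he
          obtain ⟨h₁, rfl⟩ := hO₁
          obtain ⟨h₂, rfl⟩ := hO₂
          rw [hf₀, hf₀] at he
          exact (hkey h₁ h₂).mpr he
        · rw [if_pos hO₁, if_neg hO₂] at he
          exfalso
          have : x₂' ∈ A.filter (fun x' => ¬ inO x') := Finset.mem_filter.mpr ⟨hx₂A, hO₂⟩
          have h2 := hf'bij.1 this
          have h3 := (Finset.mem_filter.mp h2).2
          apply h3
          obtain ⟨h₁, rfl⟩ := hO₁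
          rw [hf₀] at he
          exact ⟨h₁, he⟩
        · rw [if_neg hO₁, if_pos hO₂] at he
          exfalso
          have : x₁' ∈ A.filter (fun x' => ¬ inO x') := Finset.mem_filter.mpr ⟨hx₁A, hO₁⟩
          have h2 := hf'bij.1 this
          have h3 := (Finset.mem_filter.mp h2).2
          apply h3
          obtain ⟨h₂, rfl⟩ := hO₂
          rw [hf₀] at he
          exact ⟨h₂, he.symm⟩
        · rw [if_neg hO₁, if_neg hO₂] at he
          have m1 : x₁' ∈ A.filter (fun x' => ¬ inO x') := Finset.mem_filter.mpr ⟨hx₁A, hO₁⟩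
          have m2 : x₂' ∈ A.filter (fun x' => ¬ inO x') := Finset.mem_filter.mpr ⟨hx₂A, hO₂⟩
          exact hf'bij.2.1 m1 m2 he
      · intro y' hy'
        have hy'B : y' ∈ B := hy'
        by_cases hO : inO' y'
        · obtain ⟨h, rfl⟩ := hO
          refine ⟨a.act h x, hA h x hxA, ?_⟩
          have : inO (a.act h x) := ⟨h, rfl⟩
          simp only [if_pos this]
          exact hf₀ h
        · have : y' ∈ B.filter (fun y' => ¬ inO' y') := Finset.mem_filter.mpr ⟨hy'B, hO⟩
          obtain ⟨x', hx', hx'e⟩ := hf'bij.2.2 this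
          have hx'2 := Finset.mem_filter.mp hx'
          refine ⟨x', hx'2.1, ?_⟩
          simp only [if_neg hx'2.2]
          exact hx'e
    · intro h x' hx'
      by_cases hO : inO x'
      · have hO2 : inO (a.act h x') := by
          obtain ⟨g, rfl⟩ := hO
          exact ⟨h * g, a.mul' h g x⟩
        simp only [if_pos hO, if_pos hO2]
        obtain ⟨g, rfl⟩ := hO
        rw [← a.mul', hf₀, hf₀, b.mul']
      · have m1 : x' ∈ A.filter (fun x' => ¬ inO x') := Finset.mem_filter.mpr ⟨hx', hO⟩
        have m2 := hA' h x' m1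
        have hO2 : ¬ inO (a.act h x') := (Finset.mem_filter.mp m2).2
        simp only [if_neg hO, if_neg hO2]
        exact hf'eq h x' m1

/-- **Burnside's theorem on marks.** -/
theorem exists_equiv_of_marks [Finite H] [Finite X] [Finite Y] (a : Act H X) (b : Act H Y)
    (hm : ∀ K : Subgroup H, Nat.card {x : X // a.Fixed K x} = Nat.card {y : Y // b.Fixed K y}) :
    ∃ e : X ≃ Y, ∀ h x, e (a.act h x) = b.act h (e x) := by
  letI := Fintype.ofFinite X
  letI := Fintype.ofFinite Y
  by_cases hY : Nonempty Y
  · obtain ⟨f, hf, hfe⟩ := exists_bijOn a b _ (Finset.univ : Finset X) (Finset.univ : Finset Y) rfl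
      (fun _ _ _ => Finset.mem_univ _) (fun _ _ _ => Finset.mem_univ _)
      (fun K => by rw [← card_fixed_eq a K, ← card_fixed_eq b K]; exact hm K)
    have hbij : Function.Bijective f := by
      constructor
      · intro x₁ x₂ h
        exact hf.2.1 (Finset.mem_coe.mpr (Finset.mem_univ _)) (Finset.mem_coe.mpr (Finset.mem_univ _)) h
      · intro y
        obtain ⟨x, _, hx⟩ := hf.2.2 (Finset.mem_coe.mpr (Finset.mem_univ y))
        exact ⟨x, hx⟩
    exact ⟨Equiv.ofBijective f hbij, fun h x => hfe h x (Finset.mem_univ _)⟩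
  · have hYe : IsEmpty Y := not_nonempty_iff.mp hY
    have hXe : IsEmpty X := by
      by_contra hX
      rw [not_isEmpty_iff] at hX
      obtain ⟨x⟩ := hX
      have h1 := hm ⊥
      have h2 : Nat.card {y : Y // b.Fixed ⊥ y} = 0 := by
        haveI : IsEmpty {y : Y // b.Fixed ⊥ y} := ⟨fun y => hYe.false y.1⟩
        exact Nat.card_of_isEmpty
      rw [h2] at h1
      have h3 : Nonempty {x : X // a.Fixed ⊥ x} :=
        ⟨⟨x, fun k hk => by rw [Subgroup.mem_bot.mp hk, a.one']⟩⟩
      have h4 : Nat.card {x : X // a.Fixed ⊥ x} ≠ 0 := Nat.card_ne_zero.mpr ⟨h3, inferInstance⟩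
      exact h4 h1
    exact ⟨Equiv.equivOfIsEmpty X Y, fun h x => hXe.elim x⟩

end Act

end Cfsg.Agent.Lib.Helper83_Marks
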