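import Mathlib
import Cfsg.Agent.Lib.Helper83_Nilpotent

/-!
# Nilpotency of a group generated by three abelian subgroups `A`, `B`, `C`
with `[A, C] = 1`, `[A, B] ≤ F₁`, `[B, C] ≤ F₂`, where `F₁`, `F₂` are centralized by `B`
and `N = ⟨A, C, F₁, F₂⟩` has class at most two.
-/

set_option autoImplicit false
open scoped commutatorElement

namespace Cfsg.Agent.Lib.Helper83_Nilpotent

variable {G : Type*} [Group G]

theorem conj_mem_closure {T : Set G} {K : Subgroup G} {g : G}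
    (h : ∀ t ∈ T, g * t * g⁻¹ ∈ K) : ∀ z ∈ Subgroup.closure T, g * z * g⁻¹ ∈ K := by
  intro z hz
  induction hz using Subgroup.closure_induction with
  | mem t ht => exact h t ht
  | one => simp
  | mul x y _ _ ihx ihy =>
    have e : g * (x * y) * g⁻¹ = (g * x * g⁻¹) * (g * y * g⁻¹) := by group
    rw [e]; exact mul_mem ihx ihy
  | inv x _ ih =>
    have e : g * x⁻¹ * g⁻¹ = (g * x * g⁻¹)⁻¹ := by group
    rw [e]; exact inv_mem ih

theorem commutator_eq_closure_set (H K : Subgroup G) :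
    ⁅H, K⁆ = Subgroup.closure {g | ∃ u ∈ H, ∃ f ∈ K, u * f * u⁻¹ * f⁻¹ = g} := by
  rw [Subgroup.commutator_def]
  rfl

theorem comm_inv_mem {Z : Subgroup G} {x y : G} (h : x * y * x⁻¹ * y⁻¹ ∈ Z) :
    y * x * y⁻¹ * x⁻¹ ∈ Z := by
  have e : y * x * y⁻¹ * x⁻¹ = (x * y * x⁻¹ * y⁻¹)⁻¹ := by group
  rw [e]; exact inv_mem h

theorem comm_eq_one_of_commute {x y : G} (h : x * y = y * x) : x * y * x⁻¹ * y⁻¹ = 1 := by
  rw [h]; group

theorem nilpotent_three {A B C F₁ F₂ : Subgroup G}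
    (AA : ∀ x ∈ A, ∀ y ∈ A, x * y = y * x) (BB : ∀ x ∈ B, ∀ y ∈ B, x * y = y * x)
    (CC : ∀ x ∈ C, ∀ y ∈ C, x * y = y * x) (AC : ∀ a ∈ A, ∀ c ∈ C, a * c = c * a)
    (F₁A : ∀ f ∈ F₁, ∀ a ∈ A, f * a = a * f) (F₁B : ∀ f ∈ F₁, ∀ b ∈ B, f * b = b * f)
    (F₂B : ∀ f ∈ F₂, ∀ b ∈ B, f * b = b * f) (F₂C : ∀ f ∈ F₂, ∀ c ∈ C, f * c = c * f)
    (abF : ∀ a ∈ A, ∀ b ∈ B, a * b * a⁻¹ * b⁻¹ ∈ F₁)
    (bcF : ∀ b ∈ B, ∀ c ∈ C, b * c * b⁻¹ * c⁻¹ ∈ F₂)
    (N2 : ∀ u ∈ A ⊔ C ⊔ F₁ ⊔ F₂, ∀ v ∈ A ⊔ C ⊔ F₁ ⊔ F₂, ∀ w ∈ A ⊔ C ⊔ F₁ ⊔ F₂,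
      (u * v * u⁻¹ * v⁻¹) * w = w * (u * v * u⁻¹ * v⁻¹)) :
    Group.IsNilpotent ↥(A ⊔ B ⊔ C) := by
  -- notation
  have hAN : ∀ a ∈ A, a ∈ A ⊔ C ⊔ F₁ ⊔ F₂ := fun a ha =>
    Subgroup.mem_sup_left (Subgroup.mem_sup_left (Subgroup.mem_sup_left ha))
  have hCN : ∀ c ∈ C, c ∈ A ⊔ C ⊔ F₁ ⊔ F₂ := fun c hc =>
    Subgroup.mem_sup_left (Subgroup.mem_sup_left (Subgroup.mem_sup_right hc))
  have hF₁N : ∀ f ∈ F₁, f ∈ A ⊔ C ⊔ F₁ ⊔ F₂ := fun f hf =>
    Subgroup.mem_sup_left (Subgroup.mem_sup_right hf)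
  have hF₂N : ∀ f ∈ F₂, f ∈ A ⊔ C ⊔ F₁ ⊔ F₂ := fun f hf => Subgroup.mem_sup_right hf
  have hF₁F : ∀ f ∈ F₁, f ∈ F₁ ⊔ F₂ := fun f hf => Subgroup.mem_sup_left hf
  have hF₂F : ∀ f ∈ F₂, f ∈ F₁ ⊔ F₂ := fun f hf => Subgroup.mem_sup_right hf
  have hFN : F₁ ⊔ F₂ ≤ A ⊔ C ⊔ F₁ ⊔ F₂ := sup_le (fun f hf => hF₁N f hf) (fun f hf => hF₂N f hf)
  have hNeq := sup4_eq_closure A C F₁ F₂
  have hReq := sup3_eq_closure A B C
  have hFeq := sup_eq_closure F₁ F₂
  -- B centralizes F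
  have FB : ∀ f ∈ F₁ ⊔ F₂, ∀ b ∈ B, f * b = b * f := by
    intro f hf b hb
    rw [hFeq] at hf
    have hb' : b ∈ Subgroup.closure (B : Set G) := Subgroup.subset_closure hb
    refine commute_of_closure ?_ f hf b hb'
    rintro s (hs | hs) t ht
    · exact F₁B s hs t ht
    · exact F₂B s hs t ht
  -- B normalizes N
  have BN : ∀ b ∈ B, ∀ z ∈ A ⊔ C ⊔ F₁ ⊔ F₂, b * z * b⁻¹ ∈ A ⊔ C ⊔ F₁ ⊔ F₂ := by
    intro b hb z hz
    rw [hNeq] at hz
    refine conj_mem_closure ?_ z hz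
    rintro t (((ht | ht) | ht) | ht)
    · have h1 := comm_inv_mem (abF t ht b hb)
      have e : b * t * b⁻¹ = (b * t * b⁻¹ * t⁻¹) * t := by group
      rw [e]; exact mul_mem (hF₁N _ h1) (hAN t ht)
    · have h1 := bcF b hb t ht
      have e : b * t * b⁻¹ = (b * t * b⁻¹ * t⁻¹) * t := by group
      rw [e]; exact mul_mem (hF₂N _ h1) (hCN t ht)
    · have e : b * t * b⁻¹ = t := by rw [← F₁B t ht b hb]; group
      rw [e]; exact hF₁N t ht
    · have e : b * t * b⁻¹ = t := by rw [← F₂B t ht b hb]; group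
      rw [e]; exact hF₂N t ht
  -- the subgroups of the series
  set N : Subgroup G := A ⊔ C ⊔ F₁ ⊔ F₂ with hNdef
  set F : Subgroup G := F₁ ⊔ F₂ with hFdef
  -- commutators in N are central in N
  have cNN : ∀ z ∈ ⁅N, N⁆, ∀ w ∈ N, z * w = w * z := by
    intro z hz w hw
    rw [commutator_eq_closure_set] at hz
    have hw' : w ∈ Subgroup.closure (N : Set G) := Subgroup.subset_closure hw
    refine commute_of_closure ?_ z hz w hw'
    rintro s ⟨u, hu, v, hv, rfl⟩ t ht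
    exact N2 u hu v hv t ht
  have hN₂le : ⁅N, F⁆ ≤ ⁅N, N⁆ := Subgroup.commutator_mono le_rfl hFN
  have hLle : ⁅F, F⁆ ≤ ⁅N, N⁆ := Subgroup.commutator_mono hFN hFN
  have cN₂ : ∀ z ∈ ⁅N, F⁆, ∀ w ∈ N, z * w = w * z := fun z hz => cNN z (hN₂le hz)
  have cL : ∀ z ∈ ⁅F, F⁆, ∀ w ∈ N, z * w = w * z := fun z hz => cNN z (hLle hz)
  have hN₂N : ⁅N, F⁆ ≤ N := by
    rw [Subgroup.commutator_le]
    intro u hu f hf
    rw [commutatorElement_def]
    exact mul_mem (mul_mem (mul_mem hu (hFN hf)) (inv_mem hu)) (inv_mem (hFN hf))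
  -- B normalizes N₂ and centralizes L
  have BN₂ : ∀ b ∈ B, ∀ z ∈ ⁅N, F⁆, b * z * b⁻¹ ∈ ⁅N, F⁆ := by
    intro b hb z hz
    rw [commutator_eq_closure_set] at hz
    refine conj_mem_closure ?_ z hz
    rintro t ⟨u, hu, f, hf, rfl⟩
    have e : b * (u * f * u⁻¹ * f⁻¹) * b⁻¹ =
        ⁅b * u * b⁻¹, b * f * b⁻¹⁆ := by
      rw [commutatorElement_def]; group
    rw [e]
    have e2 : b * f * b⁻¹ = f := by rw [← FB f hf b hb]; group
    rw [e2]
    exact Subgroup.commutator_mem_commutator (BN b hb u hu) hf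
  have BL : ∀ z ∈ ⁅F, F⁆, ∀ b ∈ B, z * b = b * z := by
    intro z hz b hb
    rw [commutator_eq_closure_set] at hz
    have hb' : b ∈ Subgroup.closure (B : Set G) := Subgroup.subset_closure hb
    refine commute_of_closure ?_ z hz b hb'
    rintro s ⟨u, hu, v, hv, rfl⟩ t ht
    have e1 := FB u hu t ht
    have e2 := FB v hv t ht
    have e3 : u⁻¹ * t = t * u⁻¹ := by
      calc u⁻¹ * t = u⁻¹ * (t * u) * u⁻¹ := by group
        _ = u⁻¹ * (u * t) * u⁻¹ := by rw [e1]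
        _ = t * u⁻¹ := by group
    have e4 : v⁻¹ * t = t * v⁻¹ := by
      calc v⁻¹ * t = v⁻¹ * (t * v) * v⁻¹ := by group
        _ = v⁻¹ * (v * t) * v⁻¹ := by rw [e2]
        _ = t * v⁻¹ := by group
    calc u * v * u⁻¹ * v⁻¹ * t = u * v * u⁻¹ * (v⁻¹ * t) := by group
      _ = u * v * u⁻¹ * (t * v⁻¹) := by rw [e4]
      _ = u * v * (u⁻¹ * t) * v⁻¹ := by group
      _ = u * v * (t * u⁻¹) * v⁻¹ := by rw [e3]
      _ = u * (v * t) * u⁻¹ * v⁻¹ := by group
      _ = u * (t * v) * u⁻¹ * v⁻¹ := by rw [e2]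
      _ = (u * t) * v * u⁻¹ * v⁻¹ := by group
      _ = (t * u) * v * u⁻¹ * v⁻¹ := by rw [e1]
      _ = t * (u * v * u⁻¹ * v⁻¹) := by group
  -- normalization facts for the generators of R
  have nRN : SetNormalizes ((A : Set G) ∪ B ∪ C) N := by
    refine (SetNormalizes.union (SetNormalizes.union ?_ ?_) ?_)
    · exact setNormalizes_of_subgroup (fun t ht z hz =>
        mul_mem (mul_mem (hAN t ht) hz) (inv_mem (hAN t ht)))
    · exact setNormalizes_of_subgroup (fun t ht z hz => BN t ht z hz)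
    · exact setNormalizes_of_subgroup (fun t ht z hz =>
        mul_mem (mul_mem (hCN t ht) hz) (inv_mem (hCN t ht)))
  have conj_of_comm : ∀ {z w : G}, z * w = w * z → w * z * w⁻¹ = z := by
    intro z w h; rw [← h]; group
  have nRN₂ : SetNormalizes ((A : Set G) ∪ B ∪ C) ⁅N, F⁆ := by
    refine (SetNormalizes.union (SetNormalizes.union ?_ ?_) ?_)
    · exact setNormalizes_of_subgroup (fun t ht z hz => by
        rw [conj_of_comm (cN₂ z hz t (hAN t ht))]; exact hz)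
    · exact setNormalizes_of_subgroup (fun t ht z hz => BN₂ t ht z hz)
    · exact setNormalizes_of_subgroup (fun t ht z hz => by
        rw [conj_of_comm (cN₂ z hz t (hCN t ht))]; exact hz)
  have nRL : SetNormalizes ((A : Set G) ∪ B ∪ C) ⁅F, F⁆ := by
    refine (SetNormalizes.union (SetNormalizes.union ?_ ?_) ?_)
    · exact setNormalizes_of_subgroup (fun t ht z hz => by
        rw [conj_of_comm (cL z hz t (hAN t ht))]; exact hz)
    · exact setNormalizes_of_subgroup (fun t ht z hz => by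
        rw [conj_of_comm (BL z hz t ht)]; exact hz)
    · exact setNormalizes_of_subgroup (fun t ht z hz => by
        rw [conj_of_comm (cL z hz t (hCN t ht))]; exact hz)
  -- D
  set D : Subgroup G := F₁ ⊔ F₂ ⊔ ⁅N, F⁆ with hDdef
  have hDeq := sup3_eq_closure F₁ F₂ ⁅N, F⁆
  have hF₁D : ∀ f ∈ F₁, f ∈ D := fun f hf => Subgroup.mem_sup_left (Subgroup.mem_sup_left hf)
  have hF₂D : ∀ f ∈ F₂, f ∈ D := fun f hf => Subgroup.mem_sup_left (Subgroup.mem_sup_right hf)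
  have hN₂D : ∀ z ∈ ⁅N, F⁆, z ∈ D := fun z hz => Subgroup.mem_sup_right hz
  have hDN : D ≤ N := sup_le hFN hN₂N
  -- N normalizes D
  have ND : ∀ u ∈ N, ∀ d ∈ D, u * d * u⁻¹ ∈ D := by
    intro u hu d hd
    rw [hDdef, hDeq] at hd
    refine conj_mem_closure ?_ d hd
    rintro t ((ht | ht) | ht)
    · have e : u * t * u⁻¹ = ⁅u, t⁆ * t := by rw [commutatorElement_def]; group
      rw [e]
      exact mul_mem (hN₂D _ (Subgroup.commutator_mem_commutator hu (hF₁F t ht))) (hF₁D t ht)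
    · have e : u * t * u⁻¹ = ⁅u, t⁆ * t := by rw [commutatorElement_def]; group
      rw [e]
      exact mul_mem (hN₂D _ (Subgroup.commutator_mem_commutator hu (hF₂F t ht))) (hF₂D t ht)
    · rw [conj_of_comm (cN₂ t ht u hu)]; exact hN₂D t ht
  have BD : ∀ b ∈ B, ∀ d ∈ D, b * d * b⁻¹ ∈ D := by
    intro b hb d hd
    rw [hDdef, hDeq] at hd
    refine conj_mem_closure ?_ d hd
    rintro t ((ht | ht) | ht)
    · rw [conj_of_comm (F₁B t ht b hb)]; exact hF₁D t ht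
    · rw [conj_of_comm (F₂B t ht b hb)]; exact hF₂D t ht
    · exact hN₂D _ (BN₂ b hb t ht)
  have nRD : SetNormalizes ((A : Set G) ∪ B ∪ C) D := by
    refine (SetNormalizes.union (SetNormalizes.union ?_ ?_) ?_)
    · exact setNormalizes_of_subgroup (fun t ht z hz => ND t (hAN t ht) z hz)
    · exact setNormalizes_of_subgroup (fun t ht z hz => BD t ht z hz)
    · exact setNormalizes_of_subgroup (fun t ht z hz => ND t (hCN t ht) z hz)
  have nND : SetNormalizes ((A : Set G) ∪ C ∪ F₁ ∪ F₂) D := by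
    refine (SetNormalizes.union (SetNormalizes.union (SetNormalizes.union ?_ ?_) ?_) ?_)
    · exact setNormalizes_of_subgroup (fun t ht z hz => ND t (hAN t ht) z hz)
    · exact setNormalizes_of_subgroup (fun t ht z hz => ND t (hCN t ht) z hz)
    · exact setNormalizes_of_subgroup (fun t ht z hz => ND t (hF₁N t ht) z hz)
    · exact setNormalizes_of_subgroup (fun t ht z hz => ND t (hF₂N t ht) z hz)
  -- useful commutators
  have cfN₂ : ∀ c ∈ C, ∀ f ∈ F₁, f * c * f⁻¹ * c⁻¹ ∈ ⁅N, F⁆ := by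
    intro c hc f hf
    apply comm_inv_mem
    rw [← commutatorElement_def]
    exact Subgroup.commutator_mem_commutator (hCN c hc) (hF₁F f hf)
  have afN₂ : ∀ a ∈ A, ∀ f ∈ F₂, f * a * f⁻¹ * a⁻¹ ∈ ⁅N, F⁆ := by
    intro a ha f hf
    apply comm_inv_mem
    rw [← commutatorElement_def]
    exact Subgroup.commutator_mem_commutator (hAN a ha) (hF₂F f hf)
  -- step 0
  have s0 : ∀ x ∈ A ⊔ B ⊔ C, ∀ g ∈ A ⊔ B ⊔ C, x * g * x⁻¹ * g⁻¹ ∈ N := by
    intro x hx g hg
    rw [hReq] at hx hg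
    refine comm_mem_of_closure nRN nRN ?_ x hx g hg
    rintro s ((hs | hs) | hs) t ((ht | ht) | ht)
    · rw [comm_eq_one_of_commute (AA s hs t ht)]; exact one_mem _
    · exact hF₁N _ (abF s hs t ht)
    · rw [comm_eq_one_of_commute (AC s hs t ht)]; exact one_mem _
    · exact hF₁N _ (comm_inv_mem (abF t ht s hs))
    · rw [comm_eq_one_of_commute (BB s hs t ht)]; exact one_mem _
    · exact hF₂N _ (bcF s hs t ht)
    · rw [comm_eq_one_of_commute (AC t ht s hs).symm]; exact one_mem _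
    · exact hF₂N _ (comm_inv_mem (bcF t ht s hs))
    · rw [comm_eq_one_of_commute (CC s hs t ht)]; exact one_mem _
  -- step 1
  have s1 : ∀ x ∈ N, ∀ g ∈ A ⊔ B ⊔ C, x * g * x⁻¹ * g⁻¹ ∈ D := by
    intro x hx g hg
    rw [hReq] at hg
    rw [hNeq] at hx
    refine comm_mem_of_closure nND nRD ?_ x hx g hg
    rintro s (((hs | hs) | hs) | hs) t ((ht | ht) | ht)
    · rw [comm_eq_one_of_commute (AA s hs t ht)]; exact one_mem _
    · exact hF₁D _ (abF s hs t ht)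
    · rw [comm_eq_one_of_commute (AC s hs t ht)]; exact one_mem _
    · rw [comm_eq_one_of_commute (AC t ht s hs).symm]; exact one_mem _
    · exact hF₂D _ (comm_inv_mem (bcF t ht s hs))
    · rw [comm_eq_one_of_commute (CC s hs t ht)]; exact one_mem _
    · rw [comm_eq_one_of_commute (F₁A s hs t ht)]; exact one_mem _
    · rw [comm_eq_one_of_commute (F₁B s hs t ht)]; exact one_mem _
    · exact hN₂D _ (cfN₂ t ht s hs)
    · exact hN₂D _ (afN₂ t ht s hs)
    · rw [comm_eq_one_of_commute (F₂B s hs t ht)]; exact one_mem _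
    · rw [comm_eq_one_of_commute (F₂C s hs t ht)]; exact one_mem _
  -- step 2
  have nDN₂ : SetNormalizes ((F₁ : Set G) ∪ F₂ ∪ ((⁅N, F⁆ : Subgroup G) : Set G)) ⁅N, F⁆ := by
    refine (SetNormalizes.union (SetNormalizes.union ?_ ?_) ?_)
    · exact setNormalizes_of_subgroup (fun t ht z hz => by
        rw [conj_of_comm (cN₂ z hz t (hF₁N t ht))]; exact hz)
    · exact setNormalizes_of_subgroup (fun t ht z hz => by
        rw [conj_of_comm (cN₂ z hz t (hF₂N t ht))]; exact hz)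
    · exact setNormalizes_of_subgroup (fun t ht z hz => by
        rw [conj_of_comm (cN₂ z hz t (hN₂N ht))]; exact hz)
  have s2 : ∀ x ∈ D, ∀ g ∈ A ⊔ B ⊔ C, x * g * x⁻¹ * g⁻¹ ∈ ⁅N, F⁆ := by
    intro x hx g hg
    rw [hReq] at hg
    rw [hDdef, hDeq] at hx
    refine comm_mem_of_closure nDN₂ nRN₂ ?_ x hx g hg
    rintro s ((hs | hs) | hs) t ((ht | ht) | ht)
    · rw [comm_eq_one_of_commute (F₁A s hs t ht)]; exact one_mem _
    · rw [comm_eq_one_of_commute (F₁B s hs t ht)]; exact one_mem _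
    · exact cfN₂ t ht s hs
    · exact afN₂ t ht s hs
    · rw [comm_eq_one_of_commute (F₂B s hs t ht)]; exact one_mem _
    · rw [comm_eq_one_of_commute (F₂C s hs t ht)]; exact one_mem _
    · rw [comm_eq_one_of_commute (cN₂ s hs t (hAN t ht))]; exact one_mem _
    · have h1 := BN₂ t ht s⁻¹ (inv_mem hs)
      have e : s * t * s⁻¹ * t⁻¹ = s * (t * s⁻¹ * t⁻¹) := by group
      rw [e]; exact mul_mem hs h1
    · rw [comm_eq_one_of_commute (cN₂ s hs t (hCN t ht))]; exact one_mem _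
  -- step 3a
  have s3a : ∀ d ∈ D, ∀ f ∈ F, d * f * d⁻¹ * f⁻¹ ∈ ⁅F, F⁆ := by
    intro d hd f hf
    rw [hDdef, hDeq] at hd
    rw [hFeq] at hf
    have n1 : SetNormalizes ((F₁ : Set G) ∪ F₂ ∪ ((⁅N, F⁆ : Subgroup G) : Set G)) ⁅F, F⁆ := by
      refine (SetNormalizes.union (SetNormalizes.union ?_ ?_) ?_)
      · exact setNormalizes_of_subgroup (fun t ht z hz => by
          rw [conj_of_comm (cL z hz t (hF₁N t ht))]; exact hz)
      · exact setNormalizes_of_subgroup (fun t ht z hz => by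
          rw [conj_of_comm (cL z hz t (hF₂N t ht))]; exact hz)
      · exact setNormalizes_of_subgroup (fun t ht z hz => by
          rw [conj_of_comm (cL z hz t (hN₂N ht))]; exact hz)
    have n2 : SetNormalizes ((F₁ : Set G) ∪ F₂) ⁅F, F⁆ := by
      refine (SetNormalizes.union ?_ ?_)
      · exact setNormalizes_of_subgroup (fun t ht z hz => by
          rw [conj_of_comm (cL z hz t (hF₁N t ht))]; exact hz)
      · exact setNormalizes_of_subgroup (fun t ht z hz => by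
          rw [conj_of_comm (cL z hz t (hF₂N t ht))]; exact hz)
    refine comm_mem_of_closure n1 n2 ?_ d hd f hf
    rintro s ((hs | hs) | hs) t (ht | ht)
    · rw [← commutatorElement_def]
      exact Subgroup.commutator_mem_commutator (hF₁F s hs) (hF₁F t ht)
    · rw [← commutatorElement_def]
      exact Subgroup.commutator_mem_commutator (hF₁F s hs) (hF₂F t ht)
    · rw [← commutatorElement_def]
      exact Subgroup.commutator_mem_commutator (hF₂F s hs) (hF₁F t ht)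
    · rw [← commutatorElement_def]
      exact Subgroup.commutator_mem_commutator (hF₂F s hs) (hF₂F t ht)
    · rw [comm_eq_one_of_commute (cN₂ s hs t (hF₁N t ht))]; exact one_mem _
    · rw [comm_eq_one_of_commute (cN₂ s hs t (hF₂N t ht))]; exact one_mem _
  -- step 3
  have s3 : ∀ x ∈ ⁅N, F⁆, ∀ g ∈ A ⊔ B ⊔ C, x * g * x⁻¹ * g⁻¹ ∈ ⁅F, F⁆ := by
    intro x hx g hg
    rw [hReq] at hg
    rw [commutator_eq_closure_set] at hx
    have n1 : SetNormalizes {g | ∃ u ∈ N, ∃ f ∈ F, u * f * u⁻¹ * f⁻¹ = g} ⁅F, F⁆ := by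
      rintro t ⟨u, hu, f, hf, rfl⟩ z hz
      have ht : u * f * u⁻¹ * f⁻¹ ∈ N :=
        mul_mem (mul_mem (mul_mem hu (hFN hf)) (inv_mem hu)) (inv_mem (hFN hf))
      have h1 := cL z hz _ ht
      have h2 := cL z hz _ (inv_mem ht)
      constructor
      · rw [conj_of_comm h1]; exact hz
      · have := conj_of_comm h2
        rw [inv_inv] at this
        rw [this]; exact hz
    refine comm_mem_of_closure n1 nRL ?_ x hx g hg
    rintro s ⟨u, hu, f, hf, rfl⟩ t ((ht | ht) | ht)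
    · have hs : u * f * u⁻¹ * f⁻¹ ∈ ⁅N, F⁆ := by
        rw [← commutatorElement_def]; exact Subgroup.commutator_mem_commutator hu hf
      rw [comm_eq_one_of_commute (cN₂ _ hs t (hAN t ht))]; exact one_mem _
    · -- the main computation
      have hs : u * f * u⁻¹ * f⁻¹ ∈ ⁅N, F⁆ := by
        rw [← commutatorElement_def]; exact Subgroup.commutator_mem_commutator hu hf
      -- d := t u t⁻¹ u⁻¹ ∈ D
      have hd : t * u * t⁻¹ * u⁻¹ ∈ D :=
        comm_inv_mem (s1 u hu t (Subgroup.mem_sup_left (Subgroup.mem_sup_right ht)))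
      have hdf := s3a _ hd f hf
      have hdN : t * u * t⁻¹ * u⁻¹ ∈ N := hDN hd
      have e2 : t * f * t⁻¹ = f := conj_of_comm (FB f hf t ht)
      -- t ν t⁻¹ = [d u, f] = ν [d, f]
      have hc := cN₂ _ hs _ hdN
      generalize hνdef : u * f * u⁻¹ * f⁻¹ = ν at hs hc
      generalize hddef : t * u * t⁻¹ * u⁻¹ = d at hd hdf hdN hc
      have e3 : t * ν * t⁻¹ = ν * (d * f * d⁻¹ * f⁻¹) := by
        have e4 : t * ν * t⁻¹ =
            (t * u * t⁻¹) * (t * f * t⁻¹) * (t * u * t⁻¹)⁻¹ * (t * f * t⁻¹)⁻¹ := by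
          rw [← hνdef]; group
        have e5 : t * u * t⁻¹ = d * u := by rw [← hddef]; group
        rw [e4, e2, e5]
        calc d * u * f * (d * u)⁻¹ * f⁻¹ = d * (u * f * u⁻¹ * f⁻¹) * (f * d⁻¹ * f⁻¹) := by group
          _ = d * ν * (f * d⁻¹ * f⁻¹) := by rw [hνdef]
          _ = (ν * d) * (f * d⁻¹ * f⁻¹) := by rw [hc]
          _ = ν * (d * f * d⁻¹ * f⁻¹) := by group
      have e6 : ν * t * ν⁻¹ * t⁻¹ = (ν * (d * f * d⁻¹ * f⁻¹) * ν⁻¹)⁻¹ := by
        have : ν * t * ν⁻¹ * t⁻¹ = ν * (t * ν * t⁻¹)⁻¹ := by group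
        rw [this, e3]; group
      rw [e6]
      apply inv_mem
      have h7 := cL _ hdf ν (hN₂N hs)
      rw [conj_of_comm h7]
      exact hdf
    · have hs : u * f * u⁻¹ * f⁻¹ ∈ ⁅N, F⁆ := by
        rw [← commutatorElement_def]; exact Subgroup.commutator_mem_commutator hu hf
      rw [comm_eq_one_of_commute (cN₂ _ hs t (hCN t ht))]; exact one_mem _
  -- step 4
  have s4 : ∀ x ∈ ⁅F, F⁆, ∀ g ∈ A ⊔ B ⊔ C, x * g * x⁻¹ * g⁻¹ = 1 := by
    intro x hx g hg
    rw [hReq] at hg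
    have hx' : x ∈ Subgroup.closure ((⁅F, F⁆ : Subgroup G) : Set G) := Subgroup.subset_closure hx
    apply comm_eq_one_of_commute
    refine commute_of_closure ?_ x hx' g hg
    rintro s hs t ((ht | ht) | ht)
    · exact cL s hs t (hAN t ht)
    · exact BL s hs t ht
    · exact cL s hs t (hCN t ht)
  -- assemble
  refine isNilpotent_of_series (A ⊔ B ⊔ C) 5
    (fun i => match i with
      | 0 => A ⊔ B ⊔ C
      | 1 => N
      | 2 => D
      | 3 => ⁅N, F⁆
      | 4 => ⁅F, F⁆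
      | _ => ⊥) le_rfl rfl ?_
  intro i x hx hxR g hg
  match i, hx with
  | 0, hx => exact s0 x hx g hg
  | 1, hx => exact s1 x hx g hg
  | 2, hx => exact s2 x hx g hg
  | 3, hx => exact s3 x hx g hg
  | 4, hx =>
    show x * g * x⁻¹ * g⁻¹ ∈ (⊥ : Subgroup G)
    rw [Subgroup.mem_bot]; exact s4 x hx g hg
  | (n + 5), hx =>
    have hx1 : x = 1 := by
      have : x ∈ (⊥ : Subgroup G) := hx
      rwa [Subgroup.mem_bot] at this
    show x * g * x⁻¹ * g⁻¹ ∈ (⊥ : Subgroup G)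
    rw [Subgroup.mem_bot, hx1]; group

end Cfsg.Agent.Lib.Helper83_Nilpotent
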