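import Mathlib
import Cfsg.Agent.Lib.Helper97_OX3Defs
import Cfsg.Agent.Lib.Helper94_OrthVec

set_option autoImplicit false
set_option linter.unusedSectionVars false
set_option linter.unusedVariables false

/-!
# OEXT3 market (architect helper97), package G4_TRIPLE: a singular `p ≠ 0` orthogonal to a
hyperbolic pair `a, b` completes to a frame
-/

namespace Cfsg.Agent.Lib.Helper83_OX3_G4_TRIPLE

open Module Cfsg.Agent.Lib.Helper94_OrthSmall Cfsg.Agent.Lib.Helper94_OrthSiegel
  Cfsg.Agent.Lib.Helper98_ExtDefs Cfsg.Agent.Lib.Helper97_OX2Defs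
  Cfsg.Agent.Lib.Helper97_OX3Defs
open scoped commutatorElement

section GEO

variable {K V : Type*} [Field K] [AddCommGroup V] [Module K V]
  (Q : V → K) (B : LinearMap.BilinForm K V)
  (hQs : ∀ (c : K) (v : V), Q (c • v) = c * c * Q v)
  (hQp : ∀ u v : V, Q (u + v) = Q u + Q v + B u v)

include hQs hQp

/-- G4_TRIPLE: a singular `p ≠ 0` orthogonal to a hyperbolic pair `a, b` completes to a frame -/
theorem frame_of_triple [FiniteDimensional K V] (hN : B.Nondegenerate) {p a b : V}
    (hp0 : p ≠ 0) (hp : Q p = 0) (ha : Q a = 0) (hb : Q b = 0) (hab : B a b = 1)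
    (hpa : B p a = 0) (hpb : B p b = 0) : ∃ p' : V, Frame Q B p p' a b := by
  have hsym := B_symm Q B hQp
  have hself := B_self Q B hQs hQp
  obtain ⟨y, hyp⟩ : ∃ y, B y p ≠ 0 := by
    by_contra hcon
    push Not at hcon
    exact hp0 (hN.2 p hcon)
  have hpp : B p p = 0 := by rw [hself, hp, mul_zero]
  have haa : B a a = 0 := by rw [hself, ha, mul_zero]
  have hbb : B b b = 0 := by rw [hself, hb, mul_zero]
  have hba : B b a = 1 := by rw [hsym, hab]
  have hap : B a p = 0 := by rw [hsym, hpa]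
  have hbp : B b p = 0 := by rw [hsym, hpb]
  -- normalise `y` so that `B p z = 1`
  obtain ⟨z, hz⟩ : ∃ z : V, z = (B y p)⁻¹ • y := ⟨_, rfl⟩
  have hpz : B p z = 1 := by
    rw [hz, map_smul, smul_eq_mul, hsym p y, inv_mul_cancel₀ hyp]
  have hzp : B z p = 1 := by rw [hsym, hpz]
  -- project `z` into `{a, b}^⊥`
  obtain ⟨x, hx⟩ : ∃ x : V, x = z - B z b • a - B z a • b := ⟨_, rfl⟩
  have hxa : B x a = 0 := by
    rw [hx]
    simp only [map_sub, map_smul, LinearMap.sub_apply, LinearMap.smul_apply, smul_eq_mul,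
      haa, hba, mul_zero, mul_one, sub_zero, sub_self]
  have hxb : B x b = 0 := by
    rw [hx]
    simp only [map_sub, map_smul, LinearMap.sub_apply, LinearMap.smul_apply, smul_eq_mul,
      hab, hbb, mul_zero, mul_one, sub_self]
  have hxp : B x p = 1 := by
    rw [hx]
    simp only [map_sub, map_smul, LinearMap.sub_apply, LinearMap.smul_apply, smul_eq_mul,
      hap, hbp, mul_zero, sub_zero, hzp]
  have hpx : B p x = 1 := by rw [hsym, hxp]
  -- make it singular
  refine ⟨x - Q x • p, ?_⟩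
  have hQneg : ∀ v : V, Q (-v) = Q v := by
    intro v
    have := hQs (-1) v
    rw [neg_one_smul] at this
    rw [this]; ring
  refine ⟨hp, ?_, ha, hb, ?_, hab, hpa, hpb, ?_, ?_⟩
  · have h1 : x - Q x • p = x + (-(Q x)) • p := by rw [neg_smul, sub_eq_add_neg]
    rw [h1, hQp, hQs, hp, map_smul, smul_eq_mul, hxp]
    ring
  · rw [map_sub, map_smul, smul_eq_mul, hpp, mul_zero, sub_zero, hpx]
  · rw [map_sub, map_smul, LinearMap.sub_apply, LinearMap.smul_apply, smul_eq_mul, hxa, hpa,
      mul_zero, sub_zero]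
  · rw [map_sub, map_smul, LinearMap.sub_apply, LinearMap.smul_apply, smul_eq_mul, hxb, hpb,
      mul_zero, sub_zero]

end GEO

end Cfsg.Agent.Lib.Helper83_OX3_G4_TRIPLE
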