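import Mathlib
import Cfsg.Prelude.Def_RootSubgroups

set_option autoImplicit false
open Cfsg

namespace Cfsg.Agent.Lib.Helper83_RootInv

variable {G : Type*} [Group G] {D : Set G}

theorem sq_one (hD : IsRootInvolutionSet D) {d : G} (hd : d ∈ D) : d * d = 1 := by
  have h := hD.orderOf_eq d hd
  have := pow_orderOf_eq_one d
  rw [h, pow_two] at this
  exact this

theorem inv_eq (hD : IsRootInvolutionSet D) {d : G} (hd : d ∈ D) : d⁻¹ = d :=
  inv_eq_of_mul_eq_one_left (sq_one hD hd)

theorem ne_one' (hD : IsRootInvolutionSet D) {d : G} (hd : d ∈ D) : d ≠ 1 := by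
  intro h
  have := hD.orderOf_eq d hd
  rw [h, orderOf_one] at this
  omega

theorem conj_mem' (hD : IsRootInvolutionSet D) {d g : G} (hd : d ∈ D) (hg : g ∈ D) : g * d * g ∈ D := by
  have := hD.conj_mem d hd g
  rwa [inv_eq hD hg] at this

theorem orderOf_mul_comm' (a b : G) : orderOf (a * b) = orderOf (b * a) := by
  have : b * a = (MulAut.conj b) (a * b) := by
    rw [MulAut.conj_apply]; group
  rw [this, MulEquiv.orderOf_eq]

theorem orderOf_conj' (g a : G) : orderOf (g * a * g⁻¹) = orderOf a := by
  have : g * a * g⁻¹ = (MulAut.conj g) a := by simp [MulAut.conj_apply]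
  rw [this, MulEquiv.orderOf_eq]

theorem oddAdj_symm {a b : G} (h : OddAdj D a b) : OddAdj D b a :=
  ⟨h.2.1, h.1, h.2.2.1.symm, by rw [orderOf_mul_comm']; exact h.2.2.2⟩

theorem reach_symm {a b : G} (h : Relation.ReflTransGen (OddAdj D) a b) :
    Relation.ReflTransGen (OddAdj D) b a := by
  induction h with
  | refl => exact Relation.ReflTransGen.refl
  | tail _ hbc ih => exact Relation.ReflTransGen.head (oddAdj_symm hbc) ih

/-- An element with `g * g = 1` whose order is odd is trivial. -/
theorem eq_one_of_sq_of_odd {g : G} (h2 : g * g = 1) (ho : Odd (orderOf g)) : g = 1 := by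
  have hd : orderOf g ∣ 2 := orderOf_dvd_of_pow_eq_one (by rw [pow_two]; exact h2)
  have h12 : orderOf g = 1 ∨ orderOf g = 2 := by
    have := Nat.le_of_dvd (by norm_num) hd
    have hpos : orderOf g ≠ 0 := fun h0 => by rw [h0] at ho; exact (by decide : ¬ Odd 0) ho
    rcases Nat.lt_or_ge (orderOf g) 2 with h | h
    · left; omega
    · right; omega
  rcases h12 with h | h
  · exact orderOf_eq_one_iff.mp h
  · rw [h] at ho; exact absurd ho (by decide)

/-- Two commuting involutions-or-trivial elements: the product of odd order forces equality. -/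
theorem eq_of_commute_of_odd (hD : IsRootInvolutionSet D) {a b : G} (ha : a ∈ D) (hb : b ∈ D)
    (hc : a * b = b * a) (ho : Odd (orderOf (a * b))) : a = b := by
  have h2 : (a * b) * (a * b) = 1 := by
    calc (a * b) * (a * b) = a * (b * a) * b := by group
      _ = a * (a * b) * b := by rw [hc]
      _ = (a * a) * (b * b) := by group
      _ = 1 := by rw [sq_one hD ha, sq_one hD hb, one_mul]
  have := eq_one_of_sq_of_odd h2 ho
  have h3 : a = b⁻¹ := eq_inv_of_mul_eq_one_left this
  rw [h3, inv_eq hD hb]

/-- Key lemma: if `p, q ∈ D` commute, `p ≠ q`, `p q ∈ D`, and `f ∈ D` commutes with `q`, then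
`p f` does not have odd order unless `p = f`. -/
theorem key_lemma (hD : IsRootInvolutionSet D) {p q f : G} (_hp : p ∈ D) (hq : q ∈ D) (hf : f ∈ D)
    (hpq : p * q = q * p) (hpqD : p * q ∈ D) (hfq : f * q = q * f)
    (ho : Odd (orderOf (p * f))) : p = f := by
  -- q commutes with p * f
  have hcomm : Commute q (p * f) := by
    show q * (p * f) = (p * f) * q
    calc q * (p * f) = (q * p) * f := by group
      _ = (p * q) * f := by rw [hpq]
      _ = p * (q * f) := by group
      _ = p * (f * q) := by rw [hfq]
      _ = (p * f) * q := by group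
  have hcop : Nat.Coprime (orderOf q) (orderOf (p * f)) := by
    rw [hD.orderOf_eq q hq]
    exact Nat.coprime_two_left.mpr ho
  have hord : orderOf (q * (p * f)) = 2 * orderOf (p * f) := by
    rw [hcomm.orderOf_mul_eq_mul_orderOf_of_coprime hcop, hD.orderOf_eq q hq]
  have heq : (p * q) * f = q * (p * f) := by rw [hpq]; group
  have hm : orderOf (p * f) = 1 := by
    rcases hD.pair (p * q) hpqD f hf with h | h | h
    · -- commute: then p q = f
      have h2 : ((p * q) * f) * ((p * q) * f) = 1 := by
        calc ((p * q) * f) * ((p * q) * f) = (p * q) * (f * (p * q)) * f := by group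
          _ = (p * q) * ((p * q) * f) * f := by rw [h]
          _ = ((p * q) * (p * q)) * (f * f) := by group
          _ = 1 := by rw [sq_one hD hpqD, sq_one hD hf, one_mul]
      have hd : orderOf ((p * q) * f) ∣ 2 := orderOf_dvd_of_pow_eq_one (by rw [pow_two]; exact h2)
      rw [heq, hord] at hd
      have : orderOf (p * f) ∣ 1 := by
        have := Nat.dvd_of_mul_dvd_mul_left (by norm_num : 0 < 2) (by simpa using hd : 2 * orderOf (p * f) ∣ 2 * 1)
        exact this
      exact Nat.dvd_one.mp this
    · rw [heq, hord] at h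
      exact absurd h (by simp)
    · rw [heq, hord] at h
      have : orderOf (p * f) = 2 := by omega
      rw [this] at ho
      exact absurd ho (by decide)
  have h1 : p * f = 1 := orderOf_eq_one_iff.mp hm
  have h3 : p = f⁻¹ := eq_inv_of_mul_eq_one_left h1
  rw [h3, inv_eq hD hf]

/-- If `x e` has order 4 (with `x, e` involutions), then `x e x` commutes with `e`. -/
theorem commute_conj_of_order_four (hD : IsRootInvolutionSet D) {x e : G} (hx : x ∈ D) (he : e ∈ D)
    (h4 : orderOf (x * e) = 4) : Commute (x * e * x) e := by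
  have h := pow_orderOf_eq_one (x * e)
  rw [h4] at h
  have hxx := sq_one hD hx
  have hee := sq_one hD he
  -- (x e)^4 = 1 gives x e x e = e x e x
  have h1 : (x * e * x * e) * (x * e * x * e) = 1 := by
    calc (x * e * x * e) * (x * e * x * e) = (x * e) ^ 4 := by
          simp only [pow_succ, pow_zero, one_mul, mul_assoc]
      _ = 1 := h
  show (x * e * x) * e = e * (x * e * x)
  have h2 : (x * e * x * e)⁻¹ = e * (x * e * x) := by
    have : (x * e * x * e) * (e * (x * e * x)) = 1 := by
      calc (x * e * x * e) * (e * (x * e * x)) = x * e * x * (e * e) * x * e * x := by group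
        _ = x * e * (x * x) * e * x := by rw [hee]; group
        _ = x * (e * e) * x := by rw [hxx]; group
        _ = 1 := by rw [hee, mul_one, hxx]
    exact inv_eq_of_mul_eq_one_right this
  rw [← h2]
  exact eq_inv_of_mul_eq_one_left h1

/-- In the situation of the key lemma, a product which is not of odd order has order 4. -/
theorem order_four_of (hD : IsRootInvolutionSet D) {p q f : G} (hp : p ∈ D) (hq : q ∈ D) (hf : f ∈ D)
    (hpq : p * q = q * p) (hpqD : p * q ∈ D) (ho : Odd (orderOf (p * f))) (hne : p ≠ f)
    (hn : ¬ Odd (orderOf (q * f))) : orderOf (q * f) = 4 := by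
  rcases hD.pair q hq f hf with h | h | h
  · exact absurd (key_lemma hD hp hq hf hpq hpqD h.symm ho) hne
  · exact absurd h hn
  · exact h.1

theorem oddAdj_conj (hD : IsRootInvolutionSet D) {a e : G} (h : OddAdj D a e) :
    OddAdj D a (a * e * a) := by
  obtain ⟨ha, he, hne, ho⟩ := h
  refine ⟨ha, conj_mem' hD he ha, ?_, ?_⟩
  · intro h
    apply hne
    have h1 : a * a = a * (a * e * a) := by rw [← h]
    rw [sq_one hD ha] at h1
    have h2 : a * (a * e * a) = e * a := by
      calc a * (a * e * a) = (a * a) * e * a := by group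
        _ = e * a := by rw [sq_one hD ha, one_mul]
    rw [h2] at h1
    have h3 : e = a⁻¹ := eq_inv_of_mul_eq_one_left h1.symm
    rw [h3, inv_eq hD ha]
  · have h2 : a * (a * e * a) = e * a := by
      calc a * (a * e * a) = (a * a) * e * a := by group
        _ = e * a := by rw [sq_one hD ha, one_mul]
    rw [h2, orderOf_mul_comm']
    exact ho

/-- The Klein four-group lemma: `a, x, a x ∈ D` commuting, `e` an odd neighbour of `a`, and none of
`x e`, `x e^a`, `(a x) e`, `(a x) e^a` of odd order: impossible. -/
theorem klein_lemma (hD : IsRootInvolutionSet D) {a x e : G} (ha : a ∈ D) (hx : x ∈ D)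
    (hax : a * x = x * a) (_hne : a ≠ x) (hc : a * x ∈ D) (hae : OddAdj D a e)
    (h1 : ¬ Odd (orderOf (x * e))) (h2 : ¬ Odd (orderOf (x * (a * e * a))))
    (h3 : ¬ Odd (orderOf ((a * x) * e))) (h4 : ¬ Odd (orderOf ((a * x) * (a * e * a)))) : False := by
  have hae' := oddAdj_conj hD hae
  obtain ⟨_, he, hane, hoe⟩ := hae
  obtain ⟨_, he', hane', hoe'⟩ := hae'
  have haa := sq_one hD ha
  have hxx := sq_one hD hx
  have hee := sq_one hD he
  set e' := a * e * a with he'def
  obtain ⟨c, hcdef⟩ : ∃ c, c = a * x := ⟨_, rfl⟩
  rw [← hcdef] at hc h3 h4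
  have hac : a * c = c * a := by
    rw [hcdef]
    calc a * (a * x) = a * (x * a) := by rw [hax]
      _ = (a * x) * a := by group
  have hacx : a * c = x := by
    rw [hcdef]
    calc a * (a * x) = (a * a) * x := by group
      _ = x := by rw [haa, one_mul]
  have hacD : a * c ∈ D := by rw [hacx]; exact hx
  have o1 := order_four_of hD ha hx he hax (hcdef ▸ hc) hoe hane h1
  have o2 := order_four_of hD ha hx he' hax (hcdef ▸ hc) hoe' hane' h2
  have o3 := order_four_of hD ha hc he hac hacD hoe hane h3
  have o4 := order_four_of hD ha hc he' hac hacD hoe' hane' h4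
  have c1 := commute_conj_of_order_four hD hx he o1
  have c2 := commute_conj_of_order_four hD hx he' o2
  have c3 := commute_conj_of_order_four hD hc he o3
  have c4 := commute_conj_of_order_four hD hc he' o4
  have r3 : c * e * c = x * e' * x := by
    rw [hcdef, he'def]
    calc a * x * e * (a * x) = (a * x) * e * a * x := by group
      _ = (x * a) * e * a * x := by rw [hax]
      _ = x * (a * e * a) * x := by group
  have r4 : c * e' * c = x * e * x := by
    rw [hcdef, he'def]
    calc a * x * (a * e * a) * (a * x) = (a * x) * a * e * (a * a) * x := by group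
      _ = (x * a) * a * e * x := by rw [haa, hax]; group
      _ = x * (a * a) * e * x := by group
      _ = x * e * x := by rw [haa, mul_one]
  rw [r3] at c3
  rw [r4] at c4
  -- write a as a word in e, e'
  obtain ⟨k, hk⟩ := hoe
  have hpow : (e * a) ^ (2 * k + 1) = 1 := by
    rw [← hk, orderOf_mul_comm' a e]
    exact pow_orderOf_eq_one _
  have hee' : e * e' = (e * a) ^ 2 := by
    rw [he'def, pow_two]; group
  have hword : a = e * (e * e') ^ (k + 1) := by
    rw [hee', ← pow_mul]
    have : 2 * (k + 1) = (2 * k + 1) + 1 := by ring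
    rw [this, pow_succ, hpow, one_mul]
    calc a = (e * e) * a := by rw [hee, one_mul]
      _ = e * (e * a) := by group
  -- conjugate by x
  have hxinv : x⁻¹ = x := inv_eq hD hx
  have hconj : ∀ g : G, (MulAut.conj x) g = x * g * x := by
    intro g; rw [MulAut.conj_apply, hxinv]
  have hxa : x * a * x = a := by
    calc x * a * x = (a * x) * x := by rw [hax]
      _ = a * (x * x) := by group
      _ = a := by rw [hxx, mul_one]
  have hword2 : a = (x * e * x) * ((x * e * x) * (x * e' * x)) ^ (k + 1) := by
    have := congrArg (MulAut.conj x) hword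
    rw [map_mul, map_pow, map_mul, hconj, hconj, hconj, hxa] at this
    exact this
  have hcomm : Commute a e := by
    rw [hword2]
    exact Commute.mul_left c1 (Commute.pow_left (Commute.mul_left c1 c3) _)
  have hk' : Odd (orderOf (a * e)) := ⟨k, hk⟩
  exact hane (eq_of_commute_of_odd hD ha he hcomm hk')

theorem reach_of_odd (_hD : IsRootInvolutionSet D) {a p f : G}
    (h : Relation.ReflTransGen (OddAdj D) a f) (hp : p ∈ D) (hf : f ∈ D)
    (ho : Odd (orderOf (p * f))) : Relation.ReflTransGen (OddAdj D) a p := by
  by_cases hpf : p = f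
  · rw [hpf]; exact h
  · exact Relation.ReflTransGen.tail h (oddAdj_symm ⟨hp, hf, hpf, ho⟩)

/-- No bad pairs: if `x` is a product partner of `a`, and both `a` and `x` have neighbours in the
odd-order-product graph, then `a` and `x` are in the same connectivity component. -/
theorem reach_of_productPartner (hD : IsRootInvolutionSet D) {a x e y : G}
    (hx : x ∈ productPartners D a) (he : OddAdj D a e) (hy : OddAdj D x y) :
    Relation.ReflTransGen (OddAdj D) a x := by
  obtain ⟨⟨hxD, hxa, hxne⟩, hxaD⟩ := hx
  have ha : a ∈ D := he.1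
  by_contra hnot
  have hax : a * x = x * a := hxa.symm
  have haxD : a * x ∈ D := by rw [hax]; exact hxaD
  have he' := oddAdj_conj hD he
  have hy' := oddAdj_conj hD hy
  have Rae : Relation.ReflTransGen (OddAdj D) a e := Relation.ReflTransGen.single he
  have Rae' : Relation.ReflTransGen (OddAdj D) a (a * e * a) := Relation.ReflTransGen.single he'
  have Rxy : Relation.ReflTransGen (OddAdj D) x y := Relation.ReflTransGen.single hy
  have Rxy' : Relation.ReflTransGen (OddAdj D) x (x * y * x) := Relation.ReflTransGen.single hy'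
  by_cases hc : Relation.ReflTransGen (OddAdj D) a (a * x)
  · -- use x's neighbour y
    refine klein_lemma hD hxD ha hxa hxne hxaD hy ?_ ?_ ?_ ?_
    · intro ho
      exact hnot (reach_symm (reach_of_odd hD Rxy ha hy.2.1 ho))
    · intro ho
      exact hnot (reach_symm (reach_of_odd hD Rxy' ha hy'.2.1 ho))
    · intro ho
      have := reach_of_odd hD Rxy hxaD hy.2.1 ho
      rw [hax] at hc
      exact hnot (hc.trans (reach_symm this))
    · intro ho
      have := reach_of_odd hD Rxy' hxaD hy'.2.1 ho
      rw [hax] at hc
      exact hnot (hc.trans (reach_symm this))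
  · refine klein_lemma hD ha hxD hax (Ne.symm hxne) haxD he ?_ ?_ ?_ ?_
    · intro ho
      exact hnot (reach_of_odd hD Rae hxD he.2.1 ho)
    · intro ho
      exact hnot (reach_of_odd hD Rae' hxD he'.2.1 ho)
    · intro ho
      exact hc (reach_of_odd hD Rae haxD he.2.1 ho)
    · intro ho
      exact hc (reach_of_odd hD Rae' haxD he'.2.1 ho)

end Cfsg.Agent.Lib.Helper83_RootInv
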