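import Mathlib
import Cfsg.Prelude.Def_RootSubgroups
import Cfsg.Agent.Lib.Helper83_RootInv

set_option autoImplicit false
open Cfsg

/-!
Further elementary lemmas on sets of root involutions: the trichotomy `C_D(d) ⊔ A_d ⊔ V_d`,
the structure of pairs with product of order four, and three-element lemmas.
-/

namespace Cfsg.Agent.Lib.Helper83_RootInv2

open Cfsg.Agent.Lib.Helper83_RootInv

variable {G : Type*} [Group G] {D : Set G}

/-- cancellation for an involution -/
theorem inv_cancel {a : G} (h : a * a = 1) (t : G) : a * (a * t) = t := by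
  rw [← mul_assoc, h, one_mul]

theorem sq_one_of_commute {a b : G} (ha : a * a = 1) (hb : b * b = 1) (h : a * b = b * a) :
    (a * b) * (a * b) = 1 := by
  calc (a * b) * (a * b) = a * (b * a) * b := by group
    _ = a * (a * b) * b := by rw [h]
    _ = (a * a) * (b * b) := by group
    _ = 1 := by rw [ha, hb, one_mul]

theorem commute_of_sq_one {a b : G} (ha : a * a = 1) (hb : b * b = 1) (h : (a * b) * (a * b) = 1) :
    a * b = b * a := by
  have h1 : a * b = (a * b)⁻¹ := eq_inv_of_mul_eq_one_left h
  have h2 : (a * b)⁻¹ = b * a := by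
    rw [mul_inv_rev, inv_eq_of_mul_eq_one_left ha, inv_eq_of_mul_eq_one_left hb]
  rw [h1, h2]

/-- If involutions commute, the order of the product divides 2. -/
theorem orderOf_dvd_two_of_commute {a b : G} (ha : a * a = 1) (hb : b * b = 1) (h : a * b = b * a) :
    orderOf (a * b) ∣ 2 :=
  orderOf_dvd_of_pow_eq_one (by rw [pow_two]; exact sq_one_of_commute ha hb h)

theorem not_four_of_commute {a b : G} (ha : a * a = 1) (hb : b * b = 1) (h : a * b = b * a) :
    orderOf (a * b) ≠ 4 := by
  intro h4
  have := orderOf_dvd_two_of_commute ha hb h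
  rw [h4] at this
  omega

theorem not_odd_four {n : ℕ} (h : n = 4) : ¬ Odd n := by
  rw [h]; decide

/-- Structure of a pair with product of order four. -/
theorem four_props (hD : IsRootInvolutionSet D) {a b : G} (ha : a ∈ D) (hb : b ∈ D)
    (h4 : orderOf (a * b) = 4) :
    (a * b) ^ 2 ∈ D ∧ (a * b) ^ 2 * a = a * (a * b) ^ 2 ∧ (a * b) ^ 2 * b = b * (a * b) ^ 2 ∧
      b * a * b = a * (a * b) ^ 2 ∧ a * b * a = b * (a * b) ^ 2 ∧ (a * b) ^ 2 ≠ 1 ∧
      (b * a) ^ 2 = (a * b) ^ 2 := by
  have haa := sq_one hD ha
  have hbb := sq_one hD hb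
  have hmem : (a * b) ^ 2 ∈ D := by
    rcases hD.pair a ha b hb with h | h | h
    · exact absurd h4 (not_four_of_commute haa hbb h)
    · exact absurd h (not_odd_four h4)
    · exact h.2
  have h := pow_orderOf_eq_one (a * b)
  rw [h4] at h
  have h' : a * (b * (a * (b * (a * (b * (a * b)))))) = 1 := by
    have : (a * b) ^ 4 = a * (b * (a * (b * (a * (b * (a * b)))))) := by
      simp only [pow_succ, pow_zero, one_mul, mul_assoc]
    rw [← this]; exact h
  -- b a b a = a b a b
  have hkey : b * (a * (b * a)) = a * (b * (a * b)) := by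
    have h1 : b * (a * (b * (a * (b * (a * b))))) = a := by
      have := congrArg (fun t => a * t) h'
      simp only [inv_cancel haa, mul_one] at this
      exact this
    have h2 : a * (b * (a * (b * (a * b)))) = b * a := by
      have := congrArg (fun t => b * t) h1
      simp only [inv_cancel hbb] at this
      exact this
    have h3 : b * (a * (b * (a * b))) = a * (b * a) := by
      have := congrArg (fun t => a * t) h2
      simp only [inv_cancel haa] at this
      exact this
    have h4' : a * (b * (a * b)) = b * (a * (b * a)) := by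
      have := congrArg (fun t => b * t) h3
      simp only [inv_cancel hbb] at this
      exact this
    exact h4'.symm
  refine ⟨hmem, ?_, ?_, ?_, ?_, ?_, ?_⟩
  · simp only [pow_two, mul_assoc]
    rw [hkey]
  · simp only [pow_two, mul_assoc, hbb, mul_one]
    rw [← hkey]
    simp only [inv_cancel hbb]
  · simp only [pow_two, mul_assoc, inv_cancel haa]
  · simp only [pow_two, mul_assoc]
    rw [← hkey, inv_cancel hbb]
  · intro h1
    have : orderOf (a * b) ∣ 2 := orderOf_dvd_of_pow_eq_one h1
    rw [h4] at this
    omega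
  · simp only [pow_two, mul_assoc]
    exact hkey

/-- Trichotomy for two members of `D`. -/
theorem trichotomy (hD : IsRootInvolutionSet D) {a b : G} (ha : a ∈ D) (hb : b ∈ D) :
    a * b = b * a ∨ (b ≠ a ∧ Odd (orderOf (a * b))) ∨ orderOf (a * b) = 4 := by
  rcases hD.pair a ha b hb with h | h | h
  · left; exact h
  · by_cases hba : b = a
    · left; rw [hba]
    · right; left; exact ⟨hba, h⟩
  · right; right; exact h.1

theorem not_odd_of_commute (hD : IsRootInvolutionSet D) {a b : G} (ha : a ∈ D) (hb : b ∈ D)
    (hne : b ≠ a) (h : a * b = b * a) : ¬ Odd (orderOf (a * b)) := by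
  intro ho
  exact hne (eq_of_commute_of_odd hD ha hb h ho).symm

theorem not_commute_of_odd (hD : IsRootInvolutionSet D) {a b : G} (ha : a ∈ D) (hb : b ∈ D)
    (hne : b ≠ a) (ho : Odd (orderOf (a * b))) : a * b ≠ b * a :=
  fun h => not_odd_of_commute hD ha hb hne h ho

theorem not_commute_of_four (hD : IsRootInvolutionSet D) {a b : G} (ha : a ∈ D) (hb : b ∈ D)
    (h4 : orderOf (a * b) = 4) : a * b ≠ b * a :=
  fun h => not_four_of_commute (sq_one hD ha) (sq_one hD hb) h h4

/-- An involution whose odd power is trivial is trivial. -/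
theorem eq_one_of_pow_odd {z : G} (hz : z * z = 1) {n : ℕ} (hn : Odd n) (h : z ^ n = 1) : z = 1 := by
  obtain ⟨k, rfl⟩ := hn
  have h2 : (z ^ 2) ^ k = 1 := by rw [pow_two, hz, one_pow]
  rw [pow_succ, pow_mul, h2, one_mul] at h
  exact h

/-- The basic trick: `d, e` commute, `d x` of odd order, `e x` of order four: then `(e x)²` does
not commute with `d`. -/
theorem trick (hD : IsRootInvolutionSet D) {d e x : G} (_hd : d ∈ D) (he : e ∈ D) (hx : x ∈ D)
    (hde : d * e = e * d) (ho : Odd (orderOf (d * x))) (h4 : orderOf (e * x) = 4)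
    (hz : (e * x) ^ 2 * d = d * (e * x) ^ 2) : False := by
  obtain ⟨hzD, hze, hzx, -, hexe, hz1, -⟩ := four_props hD he hx h4
  set z := (e * x) ^ 2 with hzdef
  have hee := sq_one hD he
  have hzz := sq_one hD hzD
  have h1 : e * (d * x) * e⁻¹ = (d * x) * z := by
    rw [inv_eq hD he]
    calc e * (d * x) * e = (e * d) * x * e := by group
      _ = (d * e) * x * e := by rw [hde]
      _ = d * (e * x * e) := by group
      _ = d * (x * z) := by rw [hexe]
      _ = (d * x) * z := by group
  have hcomm : Commute (d * x) z := by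
    show (d * x) * z = z * (d * x)
    calc (d * x) * z = d * (x * z) := by group
      _ = d * (z * x) := by rw [hzx]
      _ = (d * z) * x := by group
      _ = (z * d) * x := by rw [hz]
      _ = z * (d * x) := by group
  have h2 : (e * (d * x) * e⁻¹) ^ orderOf (d * x) = 1 := by
    rw [conj_pow, pow_orderOf_eq_one, mul_one, mul_inv_cancel]
  rw [h1, hcomm.mul_pow, pow_orderOf_eq_one, one_mul] at h2
  exact hz1 (eq_one_of_pow_odd hzz ho h2)

/-- Three points on a line: if `a, b, a b ∈ D` commute and `a x` has odd order, then `b x` and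
`(a b) x` cannot both have order four. -/
theorem line_lemma (hD : IsRootInvolutionSet D) {a b x : G} (ha : a ∈ D) (hb : b ∈ D) (hx : x ∈ D)
    (hab : a * b = b * a) (habD : a * b ∈ D) (ho : Odd (orderOf (a * x))) (hne : x ≠ a)
    (h4b : orderOf (b * x) = 4) (h4c : orderOf ((a * b) * x) = 4) : False := by
  obtain ⟨hzD, hzb, hzx, -, hbxb, hz1, -⟩ := four_props hD hb hx h4b
  obtain ⟨hz'D, -, -, -, hcxc, -, -⟩ := four_props hD habD hx h4c
  set z := (b * x) ^ 2 with hzdef
  have haa := sq_one hD ha
  have hbb := sq_one hD hb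
  have hxx := sq_one hD hx
  have hzz := sq_one hD hzD
  have hz'z' := sq_one hD hz'D
  set r := a * x with hr
  -- b r b = r z
  have h1 : b * r * b = r * z := by
    calc b * r * b = (b * a) * x * b := by rw [hr]; group
      _ = (a * b) * x * b := by rw [hab]
      _ = a * (b * x * b) := by group
      _ = a * (x * z) := by rw [hbxb]
      _ = r * z := by rw [hr]; group
  -- z' = r z r
  have h2 : ((a * b) * x) ^ 2 = r * z * r := by
    have : (a * b) * x = b * r := by rw [hr, hab]; group
    rw [this, pow_two]
    calc b * r * (b * r) = (b * r * b) * r := by group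
      _ = r * z * r := by rw [h1]
  rw [h2] at hz'z' hcxc
  -- z r² z = r⁻²
  have h3 : z * (r * r) * z = (r * r)⁻¹ := by
    have : (r * r) * (z * (r * r) * z) = 1 := by
      have h5 : r * (r * z * r * (r * z * r)) * r⁻¹ = 1 := by rw [hz'z']; group
      calc (r * r) * (z * (r * r) * z) = r * (r * z * r * (r * z * r)) * r⁻¹ := by group
        _ = 1 := h5
    exact eq_inv_of_mul_eq_one_right this
  -- z r z = r⁻¹
  have h4 : z * r * z = r⁻¹ := by
    obtain ⟨k, hk⟩ := ho
    have hrk : r = (r * r) ^ (k + 1) := by
      have : (r * r) ^ (k + 1) = r ^ (orderOf r) * r := by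
        rw [hk, ← pow_two, ← pow_mul, ← pow_succ]
        congr 1
      rw [this, pow_orderOf_eq_one, one_mul]
    have hconj : z * (r * r) ^ (k + 1) * z = (z * (r * r) * z) ^ (k + 1) := by
      have hzi : z⁻¹ = z := inv_eq_of_mul_eq_one_left hzz
      have := conj_pow (a := z) (b := r * r) (i := k + 1)
      rw [hzi] at this
      exact this.symm
    calc z * r * z = z * (r * r) ^ (k + 1) * z := by rw [← hrk]
      _ = (z * (r * r) * z) ^ (k + 1) := hconj
      _ = ((r * r)⁻¹) ^ (k + 1) := by rw [h3]
      _ = ((r * r) ^ (k + 1))⁻¹ := by rw [inv_pow]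
      _ = r⁻¹ := by rw [← hrk]
  have h5 : r * z * r = z := by
    calc r * z * r = r * (z * r * z) * z := by
          simp only [mul_assoc, hzz, mul_one]
      _ = z := by rw [h4]; group
  rw [h5] at hcxc
  -- (ab) x (ab) = b x b
  have h6 : a * b * x * (a * b) = b * x * b := by rw [hcxc, hbxb]
  have h7 : a * x * a = x := by
    have hbab : b * (a * b) = a := by
      rw [hab, ← mul_assoc, hbb, one_mul]
    have hbab' : (a * b) * b = a := by rw [mul_assoc, hbb, mul_one]
    calc a * x * a = (b * (a * b)) * x * ((a * b) * b) := by rw [hbab, hbab']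
      _ = b * (a * b * x * (a * b)) * b := by group
      _ = b * (b * x * b) * b := by rw [h6]
      _ = (b * b) * x * (b * b) := by group
      _ = x := by rw [hbb, one_mul, mul_one]
  have h8 : a * x = x * a := by
    calc a * x = a * x * (a * a) := by rw [haa, mul_one]
      _ = (a * x * a) * a := by group
      _ = x * a := by rw [h7]
  exact not_commute_of_odd hD ha hx hne ho h8

end Cfsg.Agent.Lib.Helper83_RootInv2
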