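import Mathlib
import Cfsg.Prelude.Def_RootSubgroups
import Cfsg.Agent.Lib.Helper83_RootInv
import Cfsg.Agent.Lib.Helper83_RootInv2
import Cfsg.Agent.Lib.Helper83_InvolSets

set_option autoImplicit false
open Cfsg

/-!
Root involutions: the blocks `{e ∈ D | A_e = A_d}` (same odd partners). With `𝓕(D)` connected these
blocks are commuting sets, closed under products lying in `D` and under commutators.
-/

namespace Cfsg.Agent.Lib.Helper83_RootBlocks

open Cfsg.Agent.Lib.Helper83_RootInv Cfsg.Agent.Lib.Helper83_RootInv2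

variable {G : Type*} [Group G] {D : Set G}

/-- Involutions with product of odd order are conjugate. -/
theorem conj_of_oddAdj (hD : IsRootInvolutionSet D) {a b : G} (h : OddAdj D a b) :
    ∃ g : G, b = g * a * g⁻¹ := by
  obtain ⟨ha, hb, _, k, hk⟩ := h
  have haa := sq_one hD ha
  have hbb := sq_one hD hb
  have hainv := inv_eq hD ha
  set r := a * b with hr
  have hr1 : r ^ (2 * k + 1) = 1 := by rw [← hk]; exact pow_orderOf_eq_one _
  have hconj : (MulAut.conj a) r = r⁻¹ := by
    rw [MulAut.conj_apply, hainv, hr]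
    have : (a * b)⁻¹ = b * a := by
      rw [mul_inv_rev, inv_eq hD hb, hainv]
    rw [this]
    calc a * (a * b) * a = (a * a) * b * a := by group
      _ = b * a := by rw [haa, one_mul]
  have hconjk : a * r ^ k * a = (r ^ k)⁻¹ := by
    have this : ((MulAut.conj a) r) ^ k = (r⁻¹) ^ k := by rw [hconj]
    rw [← map_pow, MulAut.conj_apply, hainv] at this
    rw [this, inv_pow]
  refine ⟨r ^ k, ?_⟩
  have h1 : a * (r ^ k)⁻¹ = r ^ k * a := by
    have : a * (r ^ k)⁻¹ = a * (a * r ^ k * a) := by rw [hconjk]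
    rw [this]
    calc a * (a * r ^ k * a) = (a * a) * r ^ k * a := by group
      _ = r ^ k * a := by rw [haa, one_mul]
  have h2 : r ^ k * a * (r ^ k)⁻¹ = r ^ (2 * k) * a := by
    calc r ^ k * a * (r ^ k)⁻¹ = r ^ k * (a * (r ^ k)⁻¹) := by group
      _ = r ^ k * (r ^ k * a) := by rw [h1]
      _ = r ^ (2 * k) * a := by rw [two_mul, pow_add]; group
  have h3 : r ^ (2 * k) = r⁻¹ := by
    have : r ^ (2 * k) * r = 1 := by rw [← pow_succ]; exact hr1
    exact eq_inv_of_mul_eq_one_left this
  rw [h2, h3, hr, mul_inv_rev, inv_eq hD hb, hainv]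
  calc b = b * (a * a) := by rw [haa, mul_one]
    _ = b * a * a := by group

theorem conj_of_reach (hD : IsRootInvolutionSet D) {a b : G}
    (h : Relation.ReflTransGen (OddAdj D) a b) : ∃ g : G, b = g * a * g⁻¹ := by
  induction h with
  | refl => exact ⟨1, by group⟩
  | tail _ hbc ih =>
    obtain ⟨g, hg⟩ := ih
    obtain ⟨g', hg'⟩ := conj_of_oddAdj hD hbc
    refine ⟨g' * g, ?_⟩
    rw [hg', hg]; group

theorem conj_mem_iff (hD : IsRootInvolutionSet D) (g x : G) : g * x * g⁻¹ ∈ D ↔ x ∈ D := by
  constructor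
  · intro h
    have := hD.conj_mem _ h g⁻¹
    simpa [mul_assoc] using this
  · exact fun h => hD.conj_mem x h g

theorem mem_oddPartners_conj (hD : IsRootInvolutionSet D) (g d x : G) :
    g * x * g⁻¹ ∈ oddPartners D (g * d * g⁻¹) ↔ x ∈ oddPartners D d := by
  unfold oddPartners
  simp only [Set.mem_ofPred_eq]
  rw [conj_mem_iff hD]
  have h1 : g * d * g⁻¹ * (g * x * g⁻¹) = g * (d * x) * g⁻¹ := by group
  rw [h1, orderOf_conj']
  constructor
  · rintro ⟨h1, h2, h3⟩
    exact ⟨h1, fun h => h2 (by rw [h]), h3⟩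
  · rintro ⟨h1, h2, h3⟩
    refine ⟨h1, fun h => h2 ?_, h3⟩
    simpa using h

theorem oddPartners_conj (hD : IsRootInvolutionSet D) (g d : G) :
    oddPartners D (g * d * g⁻¹) = (fun x => g * x * g⁻¹) '' oddPartners D d := by
  ext y
  constructor
  · intro hy
    refine ⟨g⁻¹ * y * g, ?_, by group⟩
    rw [← mem_oddPartners_conj hD g]
    have : g * (g⁻¹ * y * g) * g⁻¹ = y := by group
    rw [this]
    exact hy
  · rintro ⟨x, hx, rfl⟩
    exact (mem_oddPartners_conj hD g d x).mpr hx

theorem ncard_oddPartners_conj (hD : IsRootInvolutionSet D) (g d : G) :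
    (oddPartners D (g * d * g⁻¹)).ncard = (oddPartners D d).ncard := by
  rw [oddPartners_conj hD, Set.ncard_image_of_injective]
  intro x y h
  simpa using h

theorem ncard_oddPartners_eq (hD : IsRootInvolutionSet D) (hc : IsConnectedSet (OddAdj D) D)
    {a e : G} (ha : a ∈ D) (he : e ∈ D) :
    (oddPartners D a).ncard = (oddPartners D e).ncard := by
  obtain ⟨g, hg⟩ := conj_of_reach hD (hc a ha e he)
  rw [hg]
  exact (ncard_oddPartners_conj hD g a).symm

theorem oddPartners_eq_of_subset [Finite G] (hD : IsRootInvolutionSet D)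
    (hc : IsConnectedSet (OddAdj D) D) {a e : G} (ha : a ∈ D) (he : e ∈ D)
    (h : oddPartners D a ⊆ oddPartners D e) : oddPartners D a = oddPartners D e :=
  Set.eq_of_subset_of_ncard_le h (ncard_oddPartners_eq hD hc he ha).le (Set.toFinite _)

/-- If `A_a ≠ A_e` there is a member of `A_a` outside `A_e`. -/
theorem exists_mem_diff [Finite G] (hD : IsRootInvolutionSet D)
    (hc : IsConnectedSet (OddAdj D) D) {a e : G} (ha : a ∈ D) (he : e ∈ D)
    (h : oddPartners D a ≠ oddPartners D e) : ∃ x ∈ oddPartners D a, x ∉ oddPartners D e := by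
  by_contra hcon
  apply h
  apply oddPartners_eq_of_subset hD hc ha he
  intro x hx
  by_contra hx'
  exact hcon ⟨x, hx, hx'⟩

theorem mem_oddPartners {d x : G} : x ∈ oddPartners D d ↔ x ∈ D ∧ x ≠ d ∧ Odd (orderOf (d * x)) :=
  Iff.rfl

/-- The block of `n` is stable under conjugation by elements commuting with `n`. -/
theorem oddPartners_conj_eq_of_commute (hD : IsRootInvolutionSet D) {n g e : G}
    (hn : oddPartners D n = oddPartners D e) (hg : g * n = n * g) :
    oddPartners D (g * e * g⁻¹) = oddPartners D e := by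
  rw [oddPartners_conj hD, ← hn, ← oddPartners_conj hD]
  have : g * n * g⁻¹ = n := by rw [hg]; group
  rw [this]

/-- Closure of a block under products lying in `D`. -/
theorem oddPartners_mul_eq [Finite G] (hD : IsRootInvolutionSet D)
    (hc : IsConnectedSet (OddAdj D) D) {e e' : G} (he : e ∈ D) (he' : e' ∈ D)
    (hcomm : e * e' = e' * e) (hu : e * e' ∈ D)
    (hA : oddPartners D e = oddPartners D e') : oddPartners D (e * e') = oddPartners D e := by
  have hee := sq_one hD he
  have he'e' := sq_one hD he'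
  apply oddPartners_eq_of_subset hD hc hu he
  rintro x ⟨hx, hxu, hxo⟩
  -- (e e') e = e'
  have hue : e * e' * e = e' := by rw [hcomm, mul_assoc, hee, mul_one]
  have hue' : e * e' * e' = e := by rw [mul_assoc, he'e', mul_one]
  have hcu : (e * e') * e = e * (e * e') := by rw [hue, ← mul_assoc, hee, one_mul]
  have hcu' : (e * e') * e' = e' * (e * e') := by rw [hue', hcomm, ← mul_assoc, he'e', one_mul]
  rcases trichotomy hD he hx with h | h | h
  · -- x commutes with e
    exfalso
    apply hxu
    have := key_lemma hD hu he hx hcu (by rw [hue]; exact he') h.symm hxo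
    exact this.symm
  · exact ⟨hx, h.1, h.2⟩
  · rcases trichotomy hD he' hx with h' | h' | h'
    · exfalso
      apply hxu
      have := key_lemma hD hu he' hx hcu' (by rw [hue']; exact he) h'.symm hxo
      exact this.symm
    · have hmem : x ∈ oddPartners D e' := ⟨hx, h'.1, h'.2⟩
      rw [← hA] at hmem
      exact hmem
    · exfalso
      have h4c : orderOf ((e * e') * e * x) = 4 := by rw [hue]; exact h'
      exact line_lemma hD hu he hx hcu (by rw [hue]; exact he') hxo hxu h h4c

/-- Closure of a block under commutators. -/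
theorem oddPartners_sq_eq [Finite G] (hD : IsRootInvolutionSet D)
    (hc : IsConnectedSet (OddAdj D) D) {e e' : G} (he : e ∈ D) (he' : e' ∈ D)
    (hA : oddPartners D e = oddPartners D e') (h4 : orderOf (e * e') = 4) :
    oddPartners D ((e * e') ^ 2) = oddPartners D e := by
  obtain ⟨hzD, hze, -, hconj, -, hz1, -⟩ := four_props hD he he' h4
  set z := (e * e') ^ 2 with hz
  have hee := sq_one hD he
  -- e z ∈ D with the same odd partners
  have h1 : oddPartners D (e' * e * e'⁻¹) = oddPartners D e :=
    oddPartners_conj_eq_of_commute hD hA.symm rfl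
  rw [inv_eq hD he', hconj] at h1
  have hezD : e * z ∈ D := by rw [← hconj]; exact conj_mem' hD he he'
  have hcomm : e * (e * z) = (e * z) * e := by
    rw [← mul_assoc, hee, one_mul, mul_assoc, hze, ← mul_assoc, hee, one_mul]
  have h2 := oddPartners_mul_eq hD hc he hezD hcomm (by rw [← mul_assoc, hee, one_mul]; exact hzD)
    h1.symm
  rwa [← mul_assoc, hee, one_mul] at h2

/-- The order of a product of two members of a block is 1, 2 or 4. -/
theorem orderOf_block (hD : IsRootInvolutionSet D) {n m : G} (hn : n ∈ D) (hm : m ∈ D)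
    (hA : oddPartners D n = oddPartners D m) :
    orderOf (n * m) = 1 ∨ orderOf (n * m) = 2 ∨ orderOf (n * m) = 4 := by
  rcases trichotomy hD hn hm with h | h | h
  · have hd := orderOf_dvd_two_of_commute (sq_one hD hn) (sq_one hD hm) h
    rcases (Nat.dvd_prime Nat.prime_two).mp hd with h | h
    · left; exact h
    · right; left; exact h
  · exfalso
    have hmem : m ∈ oddPartners D n := ⟨hm, h.1, h.2⟩
    rw [hA] at hmem
    exact hmem.2.1 rfl
  · right; right; exact h

/-- Blocks are commuting sets. -/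
theorem commute_of_oddPartners_eq [Finite G] (hD : IsRootInvolutionSet D)
    (hc : IsConnectedSet (OddAdj D) D) {e e' : G} (he : e ∈ D) (he' : e' ∈ D)
    (hA : oddPartners D e' = oddPartners D e) : e * e' = e' * e := by
  have : Fact (Nat.Prime 2) := ⟨Nat.prime_two⟩
  set N : Set G := {n | n ∈ D ∧ oddPartners D n = oddPartners D e} with hN
  have heN : e ∈ N := ⟨he, rfl⟩
  -- conjugation by members of the closure preserves N
  have hconjL : ∀ g ∈ Subgroup.closure N, ∀ n ∈ N, g * n * g⁻¹ ∈ N ∧ g⁻¹ * n * g ∈ N := by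
    intro g hg
    induction hg using Subgroup.closure_induction with
    | mem m hm =>
      intro n hn
      have hmn : oddPartners D m = oddPartners D n := by rw [hm.2, hn.2]
      refine ⟨⟨hD.conj_mem n hn.1 m, ?_⟩, ⟨?_, ?_⟩⟩
      · rw [oddPartners_conj_eq_of_commute hD hmn rfl]; exact hn.2
      · have := hD.conj_mem n hn.1 m⁻¹
        rwa [inv_inv] at this
      · have h1 : oddPartners D (m⁻¹ * n * (m⁻¹)⁻¹) = oddPartners D n :=
          oddPartners_conj_eq_of_commute hD hmn (by group)
        rw [inv_inv] at h1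
        rw [h1]; exact hn.2
    | one =>
      intro n hn
      simpa using hn
    | mul x y _ _ hx hy =>
      intro n hn
      constructor
      · have h1 := (hy n hn).1
        have h2 := (hx _ h1).1
        have : x * y * n * (x * y)⁻¹ = x * (y * n * y⁻¹) * x⁻¹ := by group
        rw [this]; exact h2
      · have h1 := (hx n hn).2
        have h2 := (hy _ h1).2
        have : (x * y)⁻¹ * n * (x * y) = y⁻¹ * (x⁻¹ * n * x) * y := by group
        rw [this]; exact h2
    | inv x _ hx =>
      intro n hn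
      constructor
      · have := (hx n hn).2
        rwa [inv_inv]
      · have := (hx n hn).1
        rwa [inv_inv]
  -- the closure is a 2-group
  set Nh : Set ↥(Subgroup.closure N) := ((↑) : ↥(Subgroup.closure N) → G) ⁻¹' N with hNh
  have hgen : Subgroup.closure Nh = ⊤ := Subgroup.closure_closure_coe_preimage
  have hP : IsPGroup 2 ↥(Subgroup.closure N) := by
    apply Cfsg.Agent.Lib.Helper83_InvolSets.isPGroup_two_of_involutions Nh hgen
    · intro n hn
      exact Subtype.ext (sq_one hD hn.1)
    · intro n hn h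
      exact ne_one' hD hn.1 (by rw [h]; rfl)
    · intro g n hn
      exact (hconjL g.1 g.2 n.1 hn).1
    · intro n hn m hm
      have h1 : oddPartners D n.1 = oddPartners D m.1 := by rw [hn.2, hm.2]
      have h2 := orderOf_block hD hn.1 hm.1 h1
      have h3 : orderOf (n * m) = orderOf (n.1 * m.1) := by
        rw [← Subgroup.orderOf_coe]; rfl
      rw [h3]; exact h2
  have hnil : Group.IsNilpotent ↥(Subgroup.closure N) := hP.isNilpotent
  -- a member commuting with all of N
  obtain ⟨n₀, hn₀, hcomm⟩ := Cfsg.Agent.Lib.Helper83_InvolSets.exists_commuting_of_nilpotent Nh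
    ⟨⟨e, Subgroup.subset_closure heN⟩, heN⟩
    (fun h => ne_one' hD h.1 rfl)
    (by
      intro n hn m hm hnm
      have hnm' : n.1 * m.1 ≠ m.1 * n.1 := fun h => hnm (Subtype.ext h)
      have hA' : oddPartners D n.1 = oddPartners D m.1 := by rw [hn.2, hm.2]
      have h4 : orderOf (n.1 * m.1) = 4 := by
        rcases trichotomy hD hn.1 hm.1 with h | h | h
        · exact absurd h hnm'
        · exfalso
          have hmem : m.1 ∈ oddPartners D n.1 := ⟨hm.1, h.1, h.2⟩
          rw [hA'] at hmem
          exact hmem.2.1 rfl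
        · exact h
      have h5 := oddPartners_sq_eq hD hc hn.1 hm.1 hA' h4
      have h6 := (four_props hD hn.1 hm.1 h4).1
      show (n * m * n⁻¹ * m⁻¹ : ↥(Subgroup.closure N)).1 ∈ N
      have h7 : (n * m * n⁻¹ * m⁻¹ : ↥(Subgroup.closure N)).1 = (n.1 * m.1) ^ 2 := by
        show n.1 * m.1 * n.1⁻¹ * m.1⁻¹ = (n.1 * m.1) ^ 2
        rw [inv_eq hD hn.1, inv_eq hD hm.1, pow_two]; group
      rw [h7]
      exact ⟨h6, by rw [h5]; exact hn.2⟩)
  -- transitivity
  obtain ⟨g, hg⟩ := conj_of_reach hD (hc n₀.1 hn₀.1 e he)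
  have hback : g⁻¹ * e' * g ∈ N := by
    refine ⟨?_, ?_⟩
    · have := hD.conj_mem e' he' g⁻¹
      rwa [inv_inv] at this
    · have h1 : oddPartners D (g⁻¹ * e' * (g⁻¹)⁻¹) = oddPartners D (g⁻¹ * e * (g⁻¹)⁻¹) := by
        rw [oddPartners_conj hD, oddPartners_conj hD, hA]
      rw [inv_inv] at h1
      rw [h1]
      have h2 : g⁻¹ * e * g = n₀.1 := by rw [hg]; group
      rw [h2]; exact hn₀.2
  have h3 := hcomm ⟨g⁻¹ * e' * g, Subgroup.subset_closure hback⟩ hback
  have h4 : n₀.1 * (g⁻¹ * e' * g) = (g⁻¹ * e' * g) * n₀.1 := congrArg Subtype.val h3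
  rw [hg]
  calc g * n₀.1 * g⁻¹ * e' = g * (n₀.1 * (g⁻¹ * e' * g)) * g⁻¹ := by group
    _ = g * ((g⁻¹ * e' * g) * n₀.1) * g⁻¹ := by rw [h4]
    _ = e' * (g * n₀.1 * g⁻¹) := by group

end Cfsg.Agent.Lib.Helper83_RootBlocks
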