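import Mathlib
import Cfsg.Prelude.Def_RootSubgroups
import Cfsg.Agent.Lib.Helper83_RootInv
import Cfsg.Agent.Lib.Helper83_RootInv2
import Cfsg.Agent.Lib.Helper83_Nilpotent
import Cfsg.Agent.Lib.Helper83_Cycle

set_option autoImplicit false
open Cfsg

/-!
Root involutions: the exact commutator lemma. If `a ∈ D`, `b ∈ X_a` and `x ∈ A_a ∩ V_b`, then
`b = (a z)²` for some `z ∈ V_a`.
-/

namespace Cfsg.Agent.Lib.Helper83_RootCycle

open Cfsg.Agent.Lib.Helper83_RootInv Cfsg.Agent.Lib.Helper83_RootInv2
open Cfsg.Agent.Lib.Helper83_Cycle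

variable {G : Type*} [Group G] {D : Set G}

structure Cfg (D : Set G) (a x : G) : Prop where
  hD : IsRootInvolutionSet D
  ha : a ∈ D
  hx : x ∈ D
  hne : x ≠ a
  ho : Odd (orderOf (a * x))

theorem Cfg.symm {a x : G} (h : Cfg D a x) : Cfg D x a :=
  ⟨h.hD, h.hx, h.ha, h.hne.symm, by rw [orderOf_mul_comm']; exact h.ho⟩

/-- `t ∈ X_a ∩ V_x` -/
def IsT (D : Set G) (a x t : G) : Prop :=
  t ∈ D ∧ a * t = t * a ∧ t ≠ a ∧ a * t ∈ D ∧ orderOf (t * x) = 4

/-- The commutator map `X_a ∩ V_x → X_x ∩ V_a`. -/
theorem alpha {a x : G} (h : Cfg D a x) {t : G} (ht : IsT D a x t) : IsT D x a ((t * x) ^ 2) := by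
  obtain ⟨htD, hat, -, hatD, h4⟩ := ht
  have hD := h.hD
  obtain ⟨hzD, hzt, hzx, -, htxt, hz1, -⟩ := four_props hD htD h.hx h4
  set z := (t * x) ^ 2 with hz
  have hza : z ≠ a := by
    intro hza
    have h1 : a * x = x * a := by rw [← hza]; exact hzx
    exact not_commute_of_odd hD h.ha h.hx h.hne h.ho h1
  refine ⟨hzD, hzx.symm, ?_, ?_, ?_⟩
  · intro hzx'
    rw [hzx'] at hzt
    exact not_commute_of_four hD htD h.hx h4 hzt.symm
  · rw [← htxt]; exact conj_mem' hD h.hx htD
  · rcases trichotomy hD h.ha hzD with h1 | h1 | h1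
    · exact (trick hD h.ha htD h.hx hat h.ho h4 h1.symm).elim
    · exact absurd (key_lemma hD h.ha htD hzD hat hatD hzt h1.2).symm hza
    · rw [orderOf_mul_comm']; exact h1

/-- the alternating involutions -/
def sg (a x : G) (m : ℕ) : G := if m % 2 = 0 then a else x

theorem sg_add_two (a x : G) (m : ℕ) : sg a x (m + 2) = sg a x m := by
  unfold sg; simp

theorem sg_cases (a x : G) (m : ℕ) :
    (sg a x m = a ∧ sg a x (m + 1) = x) ∨ (sg a x m = x ∧ sg a x (m + 1) = a) := by
  unfold sg
  rcases Nat.mod_two_eq_zero_or_one m with h | h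
  · left
    have : (m + 1) % 2 = 1 := by omega
    simp [h, this]
  · right
    have : (m + 1) % 2 = 0 := by omega
    simp [h, this]

/-- the sequence `b, (b x)², ((b x)² a)², …` -/
def cseq (a x b : G) : ℕ → G
  | 0 => b
  | m + 1 => (cseq a x b m * sg a x (m + 1)) ^ 2

theorem cfg_sg {a x : G} (h : Cfg D a x) (m : ℕ) : Cfg D (sg a x m) (sg a x (m + 1)) := by
  rcases sg_cases a x m with ⟨h1, h2⟩ | ⟨h1, h2⟩
  · rw [h1, h2]; exact h
  · rw [h1, h2]; exact h.symm

theorem isT_cseq {a x b : G} (h : Cfg D a x) (hb : IsT D a x b) (m : ℕ) :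
    IsT D (sg a x m) (sg a x (m + 1)) (cseq a x b m) := by
  induction m with
  | zero =>
    have h0 : sg a x 0 = a := by simp [sg]
    have h1 : sg a x (0 + 1) = x := by simp [sg]
    rw [h0, h1]; exact hb
  | succ m ih =>
    have := alpha (cfg_sg h m) ih
    rw [show m + 1 + 1 = m + 2 from rfl, sg_add_two]
    exact this

/-- the basic identities along the sequence -/
theorem seq_props {a x b : G} (h : Cfg D a x) (hb : IsT D a x b) (m : ℕ) :
    cseq a x b m ∈ D ∧
    sg a x m * cseq a x b m = cseq a x b m * sg a x m ∧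
    cseq a x b (m + 1) * cseq a x b m = cseq a x b m * cseq a x b (m + 1) ∧
    cseq a x b (m + 1) * sg a x (m + 1) = sg a x (m + 1) * cseq a x b (m + 1) ∧
    sg a x (m + 1) * cseq a x b m * sg a x (m + 1) = cseq a x b m * cseq a x b (m + 1) := by
  obtain ⟨hcD, hcomm, -, -, h4⟩ := isT_cseq h hb m
  have hs := (cfg_sg h m).hx
  obtain ⟨-, h1, h2, h3, -, -, -⟩ := four_props h.hD hcD hs h4
  exact ⟨hcD, hcomm, h1, h2, h3⟩

theorem commute_conj {s p q : G} (hss : s * s = 1) (h : (s * p * s) * q = q * (s * p * s)) :
    p * (s * q * s) = (s * q * s) * p := by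
  calc p * (s * q * s) = (s * s) * p * (s * q * s) := by rw [hss, one_mul]
    _ = s * ((s * p * s) * q) * s := by group
    _ = s * (q * (s * p * s)) * s := by rw [h]
    _ = (s * q * s) * p * (s * s) := by group
    _ = (s * q * s) * p := by rw [hss, mul_one]

/-- all members of the sequence commute -/
theorem cseq_commute {a x b : G} (h : Cfg D a x) (hb : IsT D a x b) :
    ∀ m j : ℕ, j ≤ m → cseq a x b j * cseq a x b m = cseq a x b m * cseq a x b j := by
  intro m
  induction m with
  | zero =>
    intro j hj
    have : j = 0 := by omega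
    rw [this]
  | succ m ih =>
    intro j hj
    rcases Nat.lt_or_ge j (m + 1) with hlt | hge
    · rcases Nat.lt_or_ge j m with hlt' | hge'
      · -- j < m
        obtain ⟨-, -, -, -, -⟩ := seq_props h hb m
        have hs := (cfg_sg h m).hx
        have hss := sq_one h.hD hs
        set s := sg a x (m + 1) with hsdef
        have hcm : cseq a x b (m + 1) = cseq a x b m * (s * cseq a x b m * s) := by
          show (cseq a x b m * sg a x (m + 1)) ^ 2 = _
          rw [pow_two, ← hsdef]; group
        have h1 := ih j (by omega)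
        have h2 : cseq a x b j * (s * cseq a x b m * s) = (s * cseq a x b m * s) * cseq a x b j := by
          apply commute_conj hss
          -- s c_j s is c_j or c_j c_{j+1}
          obtain ⟨-, hjc, -, -, hjm⟩ := seq_props h hb j
          have hpar : s = sg a x j ∨ s = sg a x (j + 1) := by
            rw [hsdef]; unfold sg
            rcases Nat.mod_two_eq_zero_or_one j with hj2 | hj2 <;>
              rcases Nat.mod_two_eq_zero_or_one m with hm2 | hm2
            · right
              have e1 : (m + 1) % 2 = 1 := by omega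
              have e2 : (j + 1) % 2 = 1 := by omega
              simp [e1, e2]
            · left
              have e1 : (m + 1) % 2 = 0 := by omega
              simp [e1, hj2]
            · left
              have e1 : (m + 1) % 2 = 1 := by omega
              simp [e1, hj2]
            · right
              have e1 : (m + 1) % 2 = 0 := by omega
              have e2 : (j + 1) % 2 = 0 := by omega
              simp [e1, e2]
          rcases hpar with hp | hp
          · have : s * cseq a x b j * s = cseq a x b j := by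
              rw [hp, hjc, mul_assoc, ← hp, hss, mul_one]
            rw [this]; exact h1
          · have : s * cseq a x b j * s = cseq a x b j * cseq a x b (j + 1) := by
              rw [hp]; exact hjm
            rw [this]
            have h3 := ih (j + 1) (by omega)
            calc cseq a x b j * cseq a x b (j + 1) * cseq a x b m
                = cseq a x b j * (cseq a x b (j + 1) * cseq a x b m) := by group
              _ = cseq a x b j * (cseq a x b m * cseq a x b (j + 1)) := by rw [h3]
              _ = (cseq a x b j * cseq a x b m) * cseq a x b (j + 1) := by group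
              _ = (cseq a x b m * cseq a x b j) * cseq a x b (j + 1) := by rw [h1]
              _ = cseq a x b m * (cseq a x b j * cseq a x b (j + 1)) := by group
        rw [hcm]
        calc cseq a x b j * (cseq a x b m * (s * cseq a x b m * s))
            = (cseq a x b j * cseq a x b m) * (s * cseq a x b m * s) := by group
          _ = (cseq a x b m * cseq a x b j) * (s * cseq a x b m * s) := by rw [h1]
          _ = cseq a x b m * (cseq a x b j * (s * cseq a x b m * s)) := by group
          _ = cseq a x b m * ((s * cseq a x b m * s) * cseq a x b j) := by rw [h2]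
          _ = cseq a x b m * (s * cseq a x b m * s) * cseq a x b j := by group
      · -- j = m
        have : j = m := by omega
        rw [this]
        exact ((seq_props h hb m).2.2.1).symm
    · have : j = m + 1 := by omega
      rw [this]

theorem cseq_commute' {a x b : G} (h : Cfg D a x) (hb : IsT D a x b) (m j : ℕ) :
    cseq a x b j * cseq a x b m = cseq a x b m * cseq a x b j := by
  rcases Nat.le_total j m with hle | hle
  · exact cseq_commute h hb m j hle
  · exact (cseq_commute h hb j m hle).symm

/-- the elementary abelian group generated by the sequence -/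
def seqGroup (a x b : G) : Subgroup G := Subgroup.closure (Set.range (cseq a x b))

theorem cseq_mem (a x b : G) (m : ℕ) : cseq a x b m ∈ seqGroup a x b :=
  Subgroup.subset_closure ⟨m, rfl⟩

theorem seqGroup_comm {a x b : G} (h : Cfg D a x) (hb : IsT D a x b) :
    ∀ s ∈ seqGroup a x b, ∀ t ∈ seqGroup a x b, s * t = t * s := by
  apply Cfsg.Agent.Lib.Helper83_Nilpotent.commute_of_closure
  rintro s ⟨j, rfl⟩ t ⟨m, rfl⟩
  exact cseq_commute' h hb m j

theorem seqGroup_sq {a x b : G} (h : Cfg D a x) (hb : IsT D a x b) :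
    ∀ t ∈ seqGroup a x b, t * t = 1 := by
  intro t ht
  have hcomm := seqGroup_comm h hb
  induction ht using Subgroup.closure_induction with
  | mem t ht =>
    obtain ⟨m, rfl⟩ := ht
    exact sq_one h.hD (seq_props h hb m).1
  | one => simp
  | mul s t hs ht ihs iht =>
    have c := hcomm s hs t ht
    calc s * t * (s * t) = s * (t * s) * t := by group
      _ = s * (s * t) * t := by rw [c]
      _ = (s * s) * (t * t) := by group
      _ = 1 := by rw [ihs, iht, one_mul]
  | inv t _ iht =>
    calc t⁻¹ * t⁻¹ = (t * t)⁻¹ := by group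
      _ = 1 := by rw [iht, inv_one]

/-- conjugation by an involution `s` maps the sequence group into itself, provided it does so on
the generators -/
theorem conj_mem_seqGroup {a x b s : G} (hss : s * s = 1)
    (hgen : ∀ m, s * cseq a x b m * s ∈ seqGroup a x b) :
    ∀ t ∈ seqGroup a x b, s * t * s ∈ seqGroup a x b := by
  intro t ht
  induction ht using Subgroup.closure_induction with
  | mem t ht =>
    obtain ⟨m, rfl⟩ := ht
    exact hgen m
  | one => rw [mul_one, hss]; exact Subgroup.one_mem _
  | mul p q _ _ ihp ihq =>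
    have : s * (p * q) * s = (s * p * s) * (s * q * s) := by
      calc s * (p * q) * s = s * p * 1 * q * s := by group
        _ = s * p * (s * s) * q * s := by rw [hss]
        _ = (s * p * s) * (s * q * s) := by group
    rw [this]
    exact Subgroup.mul_mem _ ihp ihq
  | inv p _ ihp =>
    have hsinv : s⁻¹ = s := inv_eq_of_mul_eq_one_left hss
    have : s * p⁻¹ * s = (s * p * s)⁻¹ := by
      rw [mul_inv_rev, mul_inv_rev, hsinv]; group
    rw [this]
    exact Subgroup.inv_mem _ ihp

theorem conj_gen {a x b : G} (h : Cfg D a x) (hb : IsT D a x b) (s : G)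
    (hs : s = a ∨ s = x) (m : ℕ) : s * cseq a x b m * s ∈ seqGroup a x b := by
  obtain ⟨-, hc, -, -, hm⟩ := seq_props h hb m
  have hsm : s = sg a x m ∨ s = sg a x (m + 1) := by
    rcases sg_cases a x m with ⟨h1, h2⟩ | ⟨h1, h2⟩ <;> rcases hs with hs | hs
    · left; rw [hs, h1]
    · right; rw [hs, h2]
    · right; rw [hs, h2]
    · left; rw [hs, h1]
  rcases hsm with hp | hp
  · have hss : s * s = 1 := by
      rcases hs with hs | hs
      · rw [hs]; exact sq_one h.hD h.ha
      · rw [hs]; exact sq_one h.hD h.hx
    have : s * cseq a x b m * s = cseq a x b m := by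
      rw [hp, hc, mul_assoc, ← hp, hss, mul_one]
    rw [this]; exact cseq_mem a x b m
  · rw [hp, hm]
    exact Subgroup.mul_mem _ (cseq_mem a x b m) (cseq_mem a x b (m + 1))

theorem setup {a x b : G} (h : Cfg D a x) (hb : IsT D a x b) : Setup (seqGroup a x b) a x where
  comm := seqGroup_comm h hb
  sq := seqGroup_sq h hb
  aa := sq_one h.hD h.ha
  xx := sq_one h.hD h.hx
  conj_a := conj_mem_seqGroup (sq_one h.hD h.ha) (conj_gen h hb a (Or.inl rfl))
  conj_x := conj_mem_seqGroup (sq_one h.hD h.hx) (conj_gen h hb x (Or.inr rfl))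
  odd := h.ho

theorem sg_even (a x : G) (k : ℕ) : sg a x (2 * k) = a := by
  unfold sg; simp

theorem sg_odd (a x : G) (k : ℕ) : sg a x (2 * k + 1) = x := by
  unfold sg
  have : (2 * k + 1) % 2 = 1 := by omega
  simp [this]

/-- the iterates of `φ` are the even members of the sequence -/
theorem phi_cseq {a x b : G} (h : Cfg D a x) (hb : IsT D a x b) (k : ℕ) :
    phi a x (cseq a x b (2 * k)) = cseq a x b (2 * k + 2) := by
  have hS := setup h hb
  obtain ⟨-, h0c, -, -, h0m⟩ := seq_props h hb (2 * k)
  obtain ⟨-, -, -, -, h1m⟩ := seq_props h hb (2 * k + 1)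
  rw [sg_even] at h0c
  rw [sg_odd] at h0m
  rw [show 2 * k + 1 + 1 = 2 * (k + 1) from by ring, sg_even] at h1m
  rw [show 2 * (k + 1) = 2 * k + 2 from by ring] at h1m
  set t := cseq a x b (2 * k) with ht
  set c₁ := cseq a x b (2 * k + 1) with hc₁
  set c₂ := cseq a x b (2 * k + 2) with hc₂
  have htR : t ∈ seqGroup a x b := cseq_mem a x b _
  have hc₁R : c₁ ∈ seqGroup a x b := cseq_mem a x b _
  have hc₂R : c₂ ∈ seqGroup a x b := cseq_mem a x b _
  have haa := hS.aa
  have hata : a * t * a = t := by rw [h0c, mul_assoc, haa, mul_one]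
  unfold phi
  rw [h0m]
  have e1 : a * (t * c₁) * a = t * (c₁ * c₂) := by
    calc a * (t * c₁) * a = a * t * 1 * c₁ * a := by group
      _ = a * t * (a * a) * c₁ * a := by rw [haa]
      _ = (a * t * a) * (a * c₁ * a) := by group
      _ = t * (c₁ * c₂) := by rw [hata, h1m]
  rw [e1]
  have c1 := hS.comm c₁ hc₁R t htR
  calc t * c₁ * (t * (c₁ * c₂)) = t * (c₁ * t) * (c₁ * c₂) := by group
    _ = t * (t * c₁) * (c₁ * c₂) := by rw [c1]
    _ = (t * t) * (c₁ * c₁) * c₂ := by group
    _ = c₂ := by rw [hS.sq t htR, hS.sq c₁ hc₁R, one_mul, one_mul]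

theorem iterate_phi {a x b : G} (h : Cfg D a x) (hb : IsT D a x b) (k : ℕ) :
    (phi a x)^[k] b = cseq a x b (2 * k) := by
  induction k with
  | zero => rfl
  | succ k ih =>
    rw [Function.iterate_succ_apply', ih, phi_cseq h hb k]
    rfl

/-- A nontrivial involution centralizing `a` and `x` cannot twist `a` inside `D`. -/
theorem no_central_twist {a x g : G} (h : Cfg D a x) (hgg : g * g = 1) (hg1 : g ≠ 1)
    (hga : a * g = g * a) (hgx : x * g = g * x) (hagD : a * g ∈ D) : False := by
  have hD := h.hD
  set r := a * x with hr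
  have hcomm : Commute g r := by
    show g * r = r * g
    calc g * r = (g * a) * x := by rw [hr]; group
      _ = (a * g) * x := by rw [hga]
      _ = a * (g * x) := by group
      _ = a * (x * g) := by rw [hgx]
      _ = r * g := by rw [hr]; group
  have hog : orderOf g = 2 := orderOf_eq_prime (by rw [pow_two]; exact hgg) hg1
  have hcop : Nat.Coprime (orderOf g) (orderOf r) := by
    rw [hog]; exact Nat.coprime_two_left.mpr h.ho
  have hord : orderOf (g * r) = 2 * orderOf r := by
    rw [hcomm.orderOf_mul_eq_mul_orderOf_of_coprime hcop, hog]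
  have heq : (a * g) * x = g * r := by
    rw [hga, hr]; group
  have hr1 : orderOf r ≠ 1 := by
    intro h1
    have h2 : a * x = 1 := orderOf_eq_one_iff.mp h1
    have h3 : a = x⁻¹ := eq_inv_of_mul_eq_one_left h2
    rw [inv_eq hD h.hx] at h3
    exact h.hne h3.symm
  rcases hD.pair (a * g) hagD x h.hx with h1 | h1 | h1
  · have hd := orderOf_dvd_two_of_commute (sq_one hD hagD) (sq_one hD h.hx) h1
    rw [heq, hord] at hd
    have : orderOf r ∣ 1 := Nat.dvd_of_mul_dvd_mul_left (by norm_num : 0 < 2) (by simpa using hd)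
    exact hr1 (Nat.dvd_one.mp this)
  · rw [heq, hord] at h1
    exact absurd h1 (by simp)
  · rw [heq, hord] at h1
    have h2 : orderOf r = 2 := by omega
    have := h.ho
    rw [h2] at this
    exact absurd this (by decide)

/-- **Exact commutator lemma.** If `a ∈ D`, `b ∈ X_a`, `x ∈ A_a ∩ V_b`, then `b = (a z)²` for some
`z ∈ D` with `a z` of order four (and moreover `z` commutes with `x` and `b`). -/
theorem exists_commutator [Finite G] {a x b : G} (h : Cfg D a x) (hb : IsT D a x b) :
    ∃ z ∈ D, orderOf (a * z) = 4 ∧ (a * z) ^ 2 = b ∧ z * b = b * z := by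
  have hD := h.hD
  have hS := setup h hb
  have hbR : b ∈ seqGroup a x b := cseq_mem a x b 0
  obtain ⟨m, hm1, g, hgR, hga, hgx, hiter⟩ := exists_iterate hS hbR hb.2.1
  rw [iterate_phi h hb m] at hiter
  obtain ⟨k, rfl⟩ : ∃ k, m = k + 1 := ⟨m - 1, by omega⟩
  -- z' = c (2k+1)
  have hzT := isT_cseq h hb (2 * k + 1)
  rw [sg_odd, show 2 * k + 1 + 1 = 2 * (k + 1) from by ring, sg_even] at hzT
  set z := cseq a x b (2 * k + 1) with hz
  obtain ⟨hzD, -, -, -, hz4⟩ := hzT
  have hzR : z ∈ seqGroup a x b := cseq_mem a x b _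
  have hnext : cseq a x b (2 * (k + 1)) = (z * a) ^ 2 := by
    show cseq a x b (2 * k + 1 + 1) = _
    show (cseq a x b (2 * k + 1) * sg a x (2 * k + 1 + 1)) ^ 2 = _
    rw [show 2 * k + 1 + 1 = 2 * (k + 1) from by ring, sg_even]
  obtain ⟨-, -, -, -, hzaz, -, hswap⟩ := four_props hD hzD h.ha hz4
  have hzb : z * b = b * z := hS.comm z hzR b hbR
  by_cases hg1 : g = 1
  · refine ⟨z, hzD, by rw [orderOf_mul_comm']; exact hz4, ?_, hzb⟩
    rw [hswap, ← hnext, hiter, hg1, mul_one]
  · exfalso
    have hgg := hS.sq g hgR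
    apply no_central_twist h hgg hg1 hga hgx
    -- a g = z (a b) z
    have hzz := sq_one hD hzD
    have hbb := hS.sq b hbR
    have hbg := hS.comm b hbR g hgR
    have e1 : z * (a * b) * z = a * g := by
      calc z * (a * b) * z = z * a * 1 * b * z := by group
        _ = z * a * (z * z) * b * z := by rw [hzz]
        _ = (z * a * z) * (z * b) * z := by group
        _ = (z * a * z) * (b * z) * z := by rw [hzb]
        _ = (z * a * z) * b * (z * z) := by group
        _ = a * (z * a) ^ 2 * b := by rw [hzz, mul_one, hzaz]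
        _ = a * (b * g) * b := by rw [← hnext, hiter]
        _ = a * (g * b) * b := by rw [hbg]
        _ = a * g * (b * b) := by group
        _ = a * g := by rw [hbb, mul_one]
    rw [← e1]
    exact conj_mem' hD hb.2.2.2.1 hzD

end Cfsg.Agent.Lib.Helper83_RootCycle
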