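import Mathlib
import Cfsg.Prelude.Def_RootSubgroups
import Cfsg.Agent.Lib.Helper83_RootInv
import Cfsg.Agent.Lib.Helper83_RootInv2
import Cfsg.Agent.Lib.Helper83_RootBlocks
import Cfsg.Agent.Lib.Helper83_RootCycle

set_option autoImplicit false
open Cfsg

/-!
Root involutions with `𝓕(D)` connected: members with the same odd partners have the same commuting
members; the order-three partner lemma.
-/

namespace Cfsg.Agent.Lib.Helper83_RootE

open Cfsg.Agent.Lib.Helper83_RootInv Cfsg.Agent.Lib.Helper83_RootInv2
open Cfsg.Agent.Lib.Helper83_RootBlocks Cfsg.Agent.Lib.Helper83_RootCycle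

variable {G : Type*} [Group G] {D : Set G}

/-- `C_D(d) ∪ V_d` is the complement of `A_d` in `D`. -/
theorem mem_union_iff (hD : IsRootInvolutionSet D) {d y : G} (hd : d ∈ D) (hy : y ∈ D) :
    y ∈ commutingMembers D d ∪ fourPartners D d ↔ y ∉ oddPartners D d := by
  constructor
  · rintro (h | h)
    · rintro ⟨-, hne, ho⟩
      exact not_odd_of_commute hD hd hy hne h.2.symm ho
    · rintro ⟨-, -, ho⟩
      exact not_odd_four h.2 ho
  · intro h
    rcases trichotomy hD hd hy with h1 | h1 | h1
    · left; exact ⟨hy, h1.symm⟩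
    · exact absurd ⟨hy, h1.1, h1.2⟩ h
    · right; exact ⟨hy, h1⟩

theorem union_eq_iff (hD : IsRootInvolutionSet D) {d e : G} (hd : d ∈ D) (he : e ∈ D) :
    commutingMembers D d ∪ fourPartners D d = commutingMembers D e ∪ fourPartners D e ↔
      oddPartners D d = oddPartners D e := by
  constructor
  · intro h
    ext y
    constructor
    · intro hy
      have hyD := hy.1
      by_contra hcon
      have := (mem_union_iff hD he hyD).mpr hcon
      rw [← h] at this
      exact (mem_union_iff hD hd hyD).mp this hy
    · intro hy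
      have hyD := hy.1
      by_contra hcon
      have := (mem_union_iff hD hd hyD).mpr hcon
      rw [h] at this
      exact (mem_union_iff hD he hyD).mp this hy
  · intro h
    ext y
    constructor
    · intro hy
      have hyD : y ∈ D := by rcases hy with hy | hy <;> exact hy.1
      have := (mem_union_iff hD hd hyD).mp hy
      rw [h] at this
      exact (mem_union_iff hD he hyD).mpr this
    · intro hy
      have hyD : y ∈ D := by rcases hy with hy | hy <;> exact hy.1
      have := (mem_union_iff hD he hyD).mp hy
      rw [← h] at this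
      exact (mem_union_iff hD hd hyD).mpr this

/-- Same commuting members implies same odd partners (no connectivity needed). -/
theorem odd_subset_of_sameClass (hD : IsRootInvolutionSet D) {d e : G} (hd : d ∈ D) (he : e ∈ D)
    (h : commutingMembers D d = commutingMembers D e) : oddPartners D d ⊆ oddPartners D e := by
  rintro x ⟨hx, hxd, ho⟩
  have hde : d * e = e * d := by
    have : d ∈ commutingMembers D e := by rw [← h]; exact ⟨hd, rfl⟩
    exact this.2
  rcases trichotomy hD he hx with h1 | h1 | h1
  · exfalso
    have : x ∈ commutingMembers D d := by rw [h]; exact ⟨hx, h1.symm⟩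
    exact not_commute_of_odd hD hd hx hxd ho this.2.symm
  · exact ⟨hx, h1.1, h1.2⟩
  · exfalso
    obtain ⟨hzD, hze, -, -, -, -, -⟩ := four_props hD he hx h1
    have : (e * x) ^ 2 ∈ commutingMembers D d := by rw [h]; exact ⟨hzD, hze⟩
    exact trick hD hd he hx hde ho h1 this.2

/-- The `S₃` argument: `e` fixes `u` and maps `f ↦ f u`, `v` fixes `f` and maps `u ↦ u f`; then
`e v` has odd order. -/
theorem odd_of_s3 (hD : IsRootInvolutionSet D) {e v u f : G} (he : e ∈ D) (hv : v ∈ D)
    (huu : u * u = 1) (hff : f * f = 1) (huf : u * f = f * u) (hu1 : u ≠ 1) (hne : u ≠ f)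
    (heu : e * u = u * e) (hef : e * f * e = f * u) (hvf : v * f = f * v) (hvu : v * u * v = u * f) :
    v ≠ e ∧ Odd (orderOf (e * v)) ∧ (e * v) * u * (e * v)⁻¹ = f ∧ (e * v) * f * (e * v)⁻¹ = f * u := by
  have hee := sq_one hD he
  have hvv := sq_one hD hv
  have hinv : (e * v)⁻¹ = v * e := by rw [mul_inv_rev, inv_eq hD he, inv_eq hD hv]
  have heue : e * u * e = u := by rw [heu, mul_assoc, hee, mul_one]
  have hvfv : v * f * v = f := by rw [hvf, mul_assoc, hvv, mul_one]
  have k1 : (e * v) * u * (e * v)⁻¹ = f := by
    rw [hinv]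
    calc e * v * u * (v * e) = e * (v * u * v) * e := by group
      _ = e * (u * f) * e := by rw [hvu]
      _ = e * u * 1 * f * e := by group
      _ = e * u * (e * e) * f * e := by rw [hee]
      _ = (e * u * e) * (e * f * e) := by group
      _ = u * (f * u) := by rw [heue, hef]
      _ = u * (u * f) := by rw [huf]
      _ = (u * u) * f := by group
      _ = f := by rw [huu, one_mul]
  have k2 : (e * v) * f * (e * v)⁻¹ = f * u := by
    rw [hinv]
    calc e * v * f * (v * e) = e * (v * f * v) * e := by group
      _ = e * f * e := by rw [hvfv]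
      _ = f * u := hef
  have hve : v ≠ e := by
    intro h
    rw [h] at hvfv
    rw [hef] at hvfv
    have : u = 1 := by
      have := congrArg (fun t => f * t) hvfv
      simp only [← mul_assoc, hff, one_mul] at this
      exact this
    exact hu1 this
  refine ⟨hve, ?_, k1, k2⟩
  rcases hD.pair e he v hv with h | h | h
  · exfalso
    -- (v e) u (v e)⁻¹ = u f but also = f
    have h1 : (v * e) * u * (v * e)⁻¹ = u * f := by
      have hinv' : (v * e)⁻¹ = e * v := by rw [mul_inv_rev, inv_eq hD he, inv_eq hD hv]
      rw [hinv']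
      calc v * e * u * (e * v) = v * (e * u * e) * v := by group
        _ = v * u * v := by rw [heue]
        _ = u * f := hvu
    rw [← h, k1] at h1
    have : u = 1 := by
      have h2 := congrArg (fun t => t * f) h1
      simp only [hff, mul_assoc, mul_one] at h2
      exact h2.symm
    exact hu1 this
  · exact h
  · exfalso
    obtain ⟨h4, -⟩ := h
    set w := e * v with hw
    have hw4 : w ^ 4 = 1 := by rw [← h4]; exact pow_orderOf_eq_one w
    have k3 : w * (f * u) * w⁻¹ = u := by
      calc w * (f * u) * w⁻¹ = (w * f * w⁻¹) * (w * u * w⁻¹) := by group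
        _ = (f * u) * f := by rw [k1, k2]
        _ = f * (u * f) := by group
        _ = f * (f * u) := by rw [huf]
        _ = (f * f) * u := by group
        _ = u := by rw [hff, one_mul]
    have e4 : w * (w * (w * w)) = 1 := by
      have : w ^ 4 = w * (w * (w * w)) := by
        simp only [pow_succ, pow_zero, one_mul, mul_assoc]
      rw [← this]; exact hw4
    have e4' : w⁻¹ * (w⁻¹ * (w⁻¹ * w⁻¹)) = 1 := by
      have : w⁻¹ * (w⁻¹ * (w⁻¹ * w⁻¹)) = (w * (w * (w * w)))⁻¹ := by
        simp only [mul_inv_rev, mul_assoc]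
      rw [this, e4, inv_one]
    have h5 : w * (w * (w * (w * u * w⁻¹) * w⁻¹) * w⁻¹) * w⁻¹ = u := by
      calc w * (w * (w * (w * u * w⁻¹) * w⁻¹) * w⁻¹) * w⁻¹
          = (w * (w * (w * w))) * u * (w⁻¹ * (w⁻¹ * (w⁻¹ * w⁻¹))) := by
            simp only [mul_assoc]
        _ = u := by rw [e4, e4', one_mul, mul_one]
    rw [k1, k2, k3, k1] at h5
    exact hne h5.symm

/-- With `𝓕(D)` connected, members with the same odd partners have the same commuting members. -/
theorem comm_subset [Finite G] (hD : IsRootInvolutionSet D) (hc : IsConnectedSet (OddAdj D) D)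
    {d e : G} (hd : d ∈ D) (he : e ∈ D) (hA : oddPartners D d = oddPartners D e) :
    commutingMembers D d ⊆ commutingMembers D e := by
  rintro f ⟨hf, hfd⟩
  refine ⟨hf, ?_⟩
  by_contra hfe
  have hef : e * f ≠ f * e := fun h => hfe h.symm
  -- e f has order four
  have h4 : orderOf (e * f) = 4 := by
    rcases trichotomy hD he hf with h | h | h
    · exact absurd h hef
    · exfalso
      have hmem : f ∈ oddPartners D e := ⟨hf, h.1, h.2⟩
      rw [← hA] at hmem
      exact not_odd_of_commute hD hd hf hmem.2.1 hfd.symm hmem.2.2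
    · exact h
  obtain ⟨huD, hue, huf, hfef, hefe, hu1, -⟩ := four_props hD he hf h4
  set u := (e * f) ^ 2 with hu
  have hee := sq_one hD he
  have hff := sq_one hD hf
  have huu := sq_one hD huD
  -- e u has the same odd partners as e
  have h1 : oddPartners D (f * e * f⁻¹) = oddPartners D e :=
    oddPartners_conj_eq_of_commute hD hA hfd
  rw [inv_eq hD hf, hfef] at h1
  have heuD : e * u ∈ D := by rw [← hfef]; exact conj_mem' hD he hf
  have hcomm : e * (e * u) = (e * u) * e := by
    rw [← mul_assoc, hee, one_mul, mul_assoc, hue, ← mul_assoc, hee, one_mul]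
  have h2 := oddPartners_mul_eq hD hc he heuD hcomm (by rw [← mul_assoc, hee, one_mul]; exact huD)
    h1.symm
  rw [← mul_assoc, hee, one_mul] at h2
  -- h2 : A_u = A_e ; f is not in the block
  have h3 : oddPartners D u ≠ oddPartners D f := by
    intro h
    apply hef
    exact commute_of_oddPartners_eq hD hc he hf (by rw [← h, h2])
  obtain ⟨x, hxu, hxf⟩ := exists_mem_diff hD hc huD hf h3
  obtain ⟨hx, hxne, hxo⟩ := hxu
  have hufD : u * f ∈ D := by rw [huf, ← hefe]; exact conj_mem' hD hf he
  have hfx4 : orderOf (f * x) = 4 := by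
    rcases trichotomy hD hf hx with h | h | h
    · exact absurd (key_lemma hD huD hf hx huf hufD h.symm hxo).symm hxne
    · exact absurd ⟨hx, h.1, h.2⟩ hxf
    · exact h
  have hcfg : Cfg D u x := ⟨hD, huD, hx, hxne, hxo⟩
  have hfu : f ≠ u := by
    intro h
    apply hef
    rw [h]; exact hue.symm
  have hT : IsT D u x f := ⟨hf, huf, hfu, hufD, hfx4⟩
  obtain ⟨v, hvD, hv4, hvf, -⟩ := exists_commutator hcfg hT
  obtain ⟨-, -, hfv, hvuv, -, -, -⟩ := four_props hD huD hvD hv4
  rw [hvf] at hfv hvuv
  have hs3 := odd_of_s3 hD he hvD huu hff huf hu1 (Ne.symm hfu) hue.symm hefe hfv.symm hvuv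
  have hmem : v ∈ oddPartners D e := ⟨hvD, hs3.1, hs3.2.1⟩
  rw [← h2] at hmem
  exact not_odd_four hv4 hmem.2.2

/-- With `𝓕(D)` connected: same odd partners iff same commuting members. -/
theorem sameClass_iff [Finite G] (hD : IsRootInvolutionSet D) (hc : IsConnectedSet (OddAdj D) D)
    {d e : G} (hd : d ∈ D) (he : e ∈ D) :
    commutingMembers D d = commutingMembers D e ↔ oddPartners D d = oddPartners D e := by
  constructor
  · intro h
    exact Set.Subset.antisymm (odd_subset_of_sameClass hD hd he h)
      (odd_subset_of_sameClass hD he hd h.symm)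
  · intro h
    exact Set.Subset.antisymm (comm_subset hD hc hd he h) (comm_subset hD hc he hd h.symm)

end Cfsg.Agent.Lib.Helper83_RootE
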