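import Mathlib
import Cfsg.Prelude.Def_RootSubgroups
import Cfsg.Agent.Lib.Helper13_RootSL2
import Cfsg.Agent.Lib.Helper13_RootSub
import Cfsg.Agent.Lib.Helper83_RankOne
import Cfsg.Agent.Lib.Helper83_CommCase

set_option autoImplicit false

/-!
A criterion for a family of subgroups, viewed inside the subgroup it generates, to be a set of
abstract `k`-root subgroups, allowing the commutator case (helper83).
-/

namespace Cfsg.Agent.Lib.Helper83_RootTransfer

open Cfsg Cfsg.Agent.Lib.Helper13_RootSL2 Cfsg.Agent.Lib.Helper13_RootSub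
  Cfsg.Agent.Lib.Helper83_RankOne Cfsg.Agent.Lib.Helper83_CommCase
open scoped commutatorElement

variable {G : Type*} [Group G]

theorem commutator_le_of_le {A B K : Subgroup G} (hA : A ≤ K) (hB : B ≤ K) : ⁅A, B⁆ ≤ K := by
  rw [Subgroup.commutator_le]
  intro a ha b hb
  rw [commutatorElement_def]
  exact K.mul_mem (K.mul_mem (K.mul_mem (hA ha) (hB hb)) (K.inv_mem (hA ha))) (K.inv_mem (hB hb))

theorem commutator_subgroupOf {A B K : Subgroup G} (hA : A ≤ K) (hB : B ≤ K) :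
    ⁅A.subgroupOf K, B.subgroupOf K⁆ = (⁅A, B⁆).subgroupOf K := by
  apply Subgroup.map_injective (Subgroup.subtype_injective K)
  rw [Subgroup.map_commutator, Subgroup.map_subgroupOf_eq_of_le hA,
    Subgroup.map_subgroupOf_eq_of_le hB,
    Subgroup.map_subgroupOf_eq_of_le (commutator_le_of_le hA hB)]

theorem coe_mem_sup {A B K : Subgroup G} (hA : A ≤ K) (hB : B ≤ K) {x : K}
    (hx : x ∈ A.subgroupOf K ⊔ B.subgroupOf K) : (x : G) ∈ A ⊔ B := by
  have h1 : K.subtype x ∈ (A.subgroupOf K ⊔ B.subgroupOf K).map K.subtype :=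
    Subgroup.mem_map_of_mem _ hx
  rw [Subgroup.map_sup, Subgroup.map_subgroupOf_eq_of_le hA,
    Subgroup.map_subgroupOf_eq_of_le hB] at h1
  exact h1

/-- The commutator case passes to a subgroup containing both members. -/
theorem commutatorCase_subgroupOf {S : Set (Subgroup G)} {A B K : Subgroup G} (hA : A ≤ K)
    (hB : B ≤ K) (h : Cfsg.RootCommutatorCase S A B) :
    Cfsg.RootCommutatorCase ((fun A : Subgroup G => A.subgroupOf K) '' S) (A.subgroupOf K)
      (B.subgroupOf K) := by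
  obtain ⟨h1, h2, h3, h4⟩ := h
  have hC : ⁅A, B⁆ ≤ K := commutator_le_of_le hA hB
  refine ⟨?_, ?_, ?_, ?_⟩
  · rw [commutator_subgroupOf hA hB]
    exact ⟨_, h1, rfl⟩
  · intro c hc x hx
    rw [commutator_subgroupOf hA hB, Subgroup.mem_subgroupOf] at hc
    exact Subtype.ext (h2 c hc x (coe_mem_sup hA hB hx))
  · intro a ha ha1
    rw [Subgroup.mem_subgroupOf] at ha
    have ha1' : (a : G) ≠ 1 := fun hh => ha1 (Subtype.ext hh)
    apply Subgroup.map_injective (Subgroup.subtype_injective K)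
    rw [commutator_subgroupOf hA hB, Subgroup.map_subgroupOf_eq_of_le hC, MonoidHom.map_closure,
      ← h3 (a : G) ha ha1']
    congr 1
    ext y
    constructor
    · rintro ⟨_, ⟨b, hb, rfl⟩, rfl⟩
      exact ⟨(b : G), hb, by simp⟩
    · rintro ⟨b, hb, rfl⟩
      exact ⟨a * ⟨b, hB hb⟩ * a⁻¹ * (⟨b, hB hb⟩ : K)⁻¹, ⟨⟨b, hB hb⟩, hb, rfl⟩, by simp⟩
  · intro b hb hb1
    rw [Subgroup.mem_subgroupOf] at hb
    have hb1' : (b : G) ≠ 1 := fun hh => hb1 (Subtype.ext hh)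
    apply Subgroup.map_injective (Subgroup.subtype_injective K)
    rw [commutator_subgroupOf hA hB, Subgroup.map_subgroupOf_eq_of_le hC, MonoidHom.map_closure,
      ← h4 (b : G) hb hb1']
    congr 1
    ext y
    constructor
    · rintro ⟨_, ⟨a, ha, rfl⟩, rfl⟩
      exact ⟨(a : G), ha, by simp⟩
    · rintro ⟨a, ha, rfl⟩
      exact ⟨⟨a, hA ha⟩ * b * (⟨a, hA ha⟩ : K)⁻¹ * b⁻¹, ⟨⟨a, hA ha⟩, ha, rfl⟩, by simp⟩

/-- In the commutator case (with `A` abelian) the pair is not a rank one pair. -/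
theorem not_rankOne_of_commutatorCase {S : Set (Subgroup G)} {A B : Subgroup G}
    (hAc : ∀ a ∈ A, ∀ a' ∈ A, a * a' = a' * a) (h : Cfsg.RootCommutatorCase S A B) :
    ¬ Cfsg.IsRankOnePair A B := by
  intro hr
  obtain ⟨a, ha, ha1⟩ := exists_ne_one_left hr
  obtain ⟨b, hb, -, hab⟩ := hr.cond_left a ha ha1
  have h1 : Cfsg.conjBy B a⁻¹ ≤ A ⊔ ⁅A, B⁆ := by
    rw [← hab]
    exact conjBy_le_sup (inv_mem hb)
  have h2 : B ≤ A ⊔ ⁅A, B⁆ := by
    intro y hy
    have h3 : a⁻¹ * y * a ∈ Cfsg.conjBy B a⁻¹ := by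
      rw [mem_conjBy_iff]
      have e : a⁻¹⁻¹ * (a⁻¹ * y * a) * a⁻¹ = y := by group
      rw [e]; exact hy
    have h4 := h1 h3
    have ha' : a ∈ A ⊔ ⁅A, B⁆ := Subgroup.mem_sup_left ha
    have e : y = a * (a⁻¹ * y * a) * a⁻¹ := by group
    rw [e]
    exact mul_mem (mul_mem ha' h4) (inv_mem ha')
  apply not_commute hr
  intro a₁ ha₁ y hy
  obtain ⟨a', ha', c, hc, rfl⟩ := exists_mul_of_mem_sup h (h2 hy)
  have e1 : c * a₁ = a₁ * c := h.2.1 c hc a₁ (Subgroup.mem_sup_left ha₁)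
  rw [← mul_assoc, hAc a₁ ha₁ a' ha', mul_assoc, mul_assoc, e1]

/-- The criterion: a family closed under conjugation, of abelian non-trivial subgroups, any two of
whose members commute, form a `(P)SL₂(k)`-pair, or are in the commutator case, is a set of abstract
`k`-root subgroups of the subgroup it generates. -/
theorem kroot_set_sub (k : Type*) [Field k] {S : Set (Subgroup G)}
    (hcomm : ∀ A ∈ S, ∀ a ∈ A, ∀ b ∈ A, a * b = b * a)
    (hne : ∀ A ∈ S, A ≠ ⊥)
    (hconj : ∀ A ∈ S, ∀ g : G, Cfsg.conjBy A g ∈ S)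
    (hpair : ∀ A ∈ S, ∀ B ∈ S, (∀ a ∈ A, ∀ b ∈ B, a * b = b * a) ∨ Cfsg.IsPSL2PairOver k A B ∨
      Cfsg.RootCommutatorCase S A B) :
    Cfsg.IsKRootSubgroupSet k ((fun A : Subgroup G => A.subgroupOf (⨆ B ∈ S, B)) '' S) := by
  have hle : ∀ A ∈ S, A ≤ ⨆ B ∈ S, B := fun A hA => le_iSup₂ (f := fun B _ => B) A hA
  have hcomm' : ∀ A ∈ S, ∀ a ∈ A.subgroupOf (⨆ B ∈ S, B), ∀ b ∈ A.subgroupOf (⨆ B ∈ S, B),
      a * b = b * a := by
    intro A hA a ha b hb
    exact Subtype.ext (hcomm A hA a.1 ha b.1 hb)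
  have hpair' : ∀ A ∈ S, ∀ B ∈ S,
      ⁅A.subgroupOf (⨆ B ∈ S, B), B.subgroupOf (⨆ B ∈ S, B)⁆ = ⊥ ∨
      Cfsg.IsPSL2PairOver k (A.subgroupOf (⨆ B ∈ S, B)) (B.subgroupOf (⨆ B ∈ S, B)) ∨
      Cfsg.RootCommutatorCase ((fun A : Subgroup G => A.subgroupOf (⨆ B ∈ S, B)) '' S)
        (A.subgroupOf (⨆ B ∈ S, B)) (B.subgroupOf (⨆ B ∈ S, B)) := by
    intro A hA B hB
    rcases hpair A hA B hB with h | h | h
    · left
      rw [Subgroup.commutator_eq_bot_iff_le_centralizer]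
      intro a ha
      rw [Subgroup.mem_centralizer_iff]
      intro b hb
      exact Subtype.ext (h a.1 ha b.1 hb).symm
    · right; left
      exact psl2_subgroupOf (hle A hA) (hle B hB) h
    · right; right
      exact commutatorCase_subgroupOf (hle A hA) (hle B hB) h
  refine ⟨⟨?_, ?_, ?_, ?_, ?_⟩, ?_⟩
  · rintro _ ⟨A, hA, rfl⟩
    exact ⟨⟨fun a b => Subtype.ext (hcomm' A hA a.1 a.2 b.1 b.2)⟩⟩
  · rintro _ ⟨A, hA, rfl⟩ h
    rw [Subgroup.subgroupOf_eq_bot, disjoint_iff, inf_eq_left.mpr (hle A hA)] at h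
    exact hne A hA h
  · apply Subgroup.map_injective (Subgroup.subtype_injective (⨆ B ∈ S, B))
    rw [iSup_image, Subgroup.map_iSup]
    simp only [Subgroup.map_iSup]
    rw [← MonoidHom.range_eq_map, Subgroup.range_subtype]
    apply le_antisymm
    · apply iSup₂_le
      intro A hA
      rw [Subgroup.map_subgroupOf_eq_of_le (hle A hA)]
      exact hle A hA
    · apply iSup₂_le
      intro A hA
      have : A = Subgroup.map (⨆ B ∈ S, B).subtype (A.subgroupOf (⨆ B ∈ S, B)) :=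
        (Subgroup.map_subgroupOf_eq_of_le (hle A hA)).symm
      rw [this]
      exact le_iSup₂ (f := fun A _ => Subgroup.map (⨆ B ∈ S, B).subtype
        (A.subgroupOf (⨆ B ∈ S, B))) A hA
  · rintro _ ⟨A, hA, rfl⟩ g
    exact ⟨_, hconj A hA g, (Cfsg.Agent.Lib.Helper13_RootSub.conjBy_subgroupOf A _ g).symm⟩
  · rintro _ ⟨A, hA, rfl⟩ _ ⟨B, hB, rfl⟩
    rcases hpair' A hA B hB with h | h | h
    · exact Or.inl h
    · exact Or.inr (Or.inl (isRankOnePair_of_psl2 h))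
    · exact Or.inr (Or.inr h)
  · rintro _ ⟨A, hA, rfl⟩ _ ⟨B, hB, rfl⟩ hr
    rcases hpair' A hA B hB with h | h | h
    · exact absurd h (commutator_ne_bot hr)
    · exact h
    · exact absurd hr (not_rankOne_of_commutatorCase (hcomm' A hA) h)

end Cfsg.Agent.Lib.Helper83_RootTransfer
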