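import Mathlib
import Cfsg.Agent.Lib.Helper66_SL2Mult
import Cfsg.Agent.Lib.Helper66_SchurPullback

set_option autoImplicit false
open Cfsg

/-!
Perfect central extensions of a central quotient of `SL₂(F)` (`F` a finite field, `|F| ≠ 4, 9`)
are images of `SL₂(F)`: a lifting lemma deduced from the triviality of the Schur multiplier.
-/

namespace Cfsg.Agent.Lib.Helper83_SL2Lift

open scoped commutatorElement

section general

variable {G : Type*} [Group G]

/-- If the centre has finite index there are only finitely many commutators. -/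
theorem finite_commutatorSet_of_finiteIndex_center [(Subgroup.center G).FiniteIndex] :
    Finite (commutatorSet G) := by
  classical
  have hfin : Finite (G ⧸ Subgroup.center G) := Subgroup.finite_quotient_of_finiteIndex
  let f : (G ⧸ Subgroup.center G) × (G ⧸ Subgroup.center G) → G :=
    fun q => ⁅(Quotient.out q.1 : G), (Quotient.out q.2 : G)⁆
  have hsub : commutatorSet G ⊆ Set.range f := by
    rintro x ⟨g, h, rfl⟩
    refine ⟨((g : G ⧸ Subgroup.center G), (h : G ⧸ Subgroup.center G)), ?_⟩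
    show ⁅(Quotient.out (g : G ⧸ Subgroup.center G) : G),
      (Quotient.out (h : G ⧸ Subgroup.center G) : G)⁆ = ⁅g, h⁆
    have hg : (g⁻¹ * Quotient.out (g : G ⧸ Subgroup.center G)) ∈ Subgroup.center G := by
      rw [← QuotientGroup.eq]
      exact (QuotientGroup.out_eq' _).symm
    have hh : (h⁻¹ * Quotient.out (h : G ⧸ Subgroup.center G)) ∈ Subgroup.center G := by
      rw [← QuotientGroup.eq]
      exact (QuotientGroup.out_eq' _).symm
    obtain ⟨z, hz⟩ : ∃ z, z = g⁻¹ * Quotient.out (g : G ⧸ Subgroup.center G) := ⟨_, rfl⟩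
    obtain ⟨w, hw⟩ : ∃ w, w = h⁻¹ * Quotient.out (h : G ⧸ Subgroup.center G) := ⟨_, rfl⟩
    rw [← hz] at hg
    rw [← hw] at hh
    have e1 : (Quotient.out (g : G ⧸ Subgroup.center G) : G) = g * z := by rw [hz]; group
    have e2 : (Quotient.out (h : G ⧸ Subgroup.center G) : G) = h * w := by rw [hw]; group
    rw [e1, e2]
    rw [Subgroup.mem_center_iff] at hg hh
    rw [commutatorElement_def, commutatorElement_def]
    have c1 : ∀ x : G, z * x = x * z := fun x => (hg x).symm
    have c2 : ∀ x : G, w * x = x * w := fun x => (hh x).symm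
    calc g * z * (h * w) * (g * z)⁻¹ * (h * w)⁻¹
        = g * (z * h) * (w * z⁻¹) * g⁻¹ * w⁻¹ * h⁻¹ := by group
      _ = g * (h * z) * (z⁻¹ * w) * g⁻¹ * w⁻¹ * h⁻¹ := by rw [c1 h, c2 z⁻¹]
      _ = g * h * (w * g⁻¹) * w⁻¹ * h⁻¹ := by group
      _ = g * h * (g⁻¹ * w) * w⁻¹ * h⁻¹ := by rw [c2 g⁻¹]
      _ = g * h * g⁻¹ * h⁻¹ := by group
  exact Set.Finite.subset (Set.finite_range f) hsub

/-- A perfect group whose centre has finite index is finite. -/
theorem finite_of_perfect_of_finiteIndex_center (hperf : commutator G = ⊤)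
    [(Subgroup.center G).FiniteIndex] : Finite G := by
  have := finite_commutatorSet_of_finiteIndex_center (G := G)
  have h1 : Finite (commutator G) := inferInstance
  rw [hperf] at h1
  exact Finite.of_equiv _ Subgroup.topEquiv.toEquiv

/-- If `G = G' Z` with `Z` central then `G'` is perfect. -/
theorem commutator_commutator_eq (Z : Subgroup G) (hZ : Z ≤ Subgroup.center G)
    (h : commutator G ⊔ Z = ⊤) : ⁅commutator G, commutator G⁆ = commutator G := by
  apply le_antisymm
  · exact Subgroup.commutator_le_left _ _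
  · conv_lhs => rw [commutator_def]
    rw [Subgroup.commutator_le]
    intro x _ y _
    have hx : x ∈ ((commutator G ⊔ Z : Subgroup G) : Set G) := by rw [h]; exact Set.mem_univ x
    have hy : y ∈ ((commutator G ⊔ Z : Subgroup G) : Set G) := by rw [h]; exact Set.mem_univ y
    rw [Subgroup.normal_mul] at hx hy
    obtain ⟨c, hc, z, hz, rfl⟩ := hx
    obtain ⟨d, hd, w, hw, rfl⟩ := hy
    have hz' := Subgroup.mem_center_iff.mp (hZ hz)
    have hw' := Subgroup.mem_center_iff.mp (hZ hw)
    have c1 : ∀ x : G, z * x = x * z := fun x => (hz' x).symm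
    have c2 : ∀ x : G, w * x = x * w := fun x => (hw' x).symm
    have e : ⁅c * z, d * w⁆ = ⁅c, d⁆ := by
      rw [commutatorElement_def, commutatorElement_def]
      calc c * z * (d * w) * (c * z)⁻¹ * (d * w)⁻¹
          = c * (z * d) * (w * z⁻¹) * c⁻¹ * w⁻¹ * d⁻¹ := by group
        _ = c * (d * z) * (z⁻¹ * w) * c⁻¹ * w⁻¹ * d⁻¹ := by rw [c1 d, c2 z⁻¹]
        _ = c * d * (w * c⁻¹) * w⁻¹ * d⁻¹ := by group
        _ = c * d * (c⁻¹ * w) * w⁻¹ * d⁻¹ := by rw [c2 c⁻¹]
        _ = c * d * c⁻¹ * d⁻¹ := by group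
    rw [e]
    exact Subgroup.commutator_mem_commutator hc hd

end general

section lift

open Cfsg.Agent.Lib.Helper66_SchurPullback

variable {F : Type*} [Field F] [Fintype F] {Y Q : Type*} [Group Y] [Group Q]

/-- A perfect group `Y` that is a central extension of a quotient `Q` of `SL₂(F)` is an image of
`SL₂(F)`. -/
theorem exists_lift_SL2 (h4 : Fintype.card F ≠ 4) (h9 : Fintype.card F ≠ 9)
    (hSL : commutator (Matrix.SpecialLinearGroup (Fin 2) F) = ⊤) (hY : commutator Y = ⊤)
    (θ : Y →* Q) (τ : Matrix.SpecialLinearGroup (Fin 2) F →* Q)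
    (hθ : Function.Surjective θ) (hτ : Function.Surjective τ)
    (hθc : θ.ker ≤ Subgroup.center Y) :
    ∃ ψ : Matrix.SpecialLinearGroup (Fin 2) F →* Y, Function.Surjective ψ := by
  classical
  -- the pullback
  have hp₁ : Function.Surjective (p₁ τ θ) := p₁_surjective τ θ hθ
  have hp₂ : Function.Surjective (p₂ τ θ) := p₂_surjective τ θ hτ
  have hker : (p₁ τ θ).ker ≤ Subgroup.center (PB τ θ) := ker_p₁_le_center τ θ hθc
  have hm₁ := map_commutator_of_surjective (p₁ τ θ) hp₁
  have hm₂ := map_commutator_of_surjective (p₂ τ θ) hp₂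
  -- `PB = PB' * ker p₁`
  have hsup : commutator (PB τ θ) ⊔ (p₁ τ θ).ker = ⊤ := by
    rw [eq_top_iff]
    intro x _
    have h1 : p₁ τ θ x ∈ (commutator (PB τ θ)).map (p₁ τ θ) := by
      rw [hm₁, hSL]; exact Subgroup.mem_top _
    obtain ⟨c, hc, hcx⟩ := h1
    have h2 : c⁻¹ * x ∈ (p₁ τ θ).ker := by
      rw [MonoidHom.mem_ker, map_mul, map_inv, hcx, inv_mul_cancel]
    have : x = c * (c⁻¹ * x) := by group
    rw [this]
    exact mul_mem (Subgroup.mem_sup_left hc) (Subgroup.mem_sup_right h2)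
  have hperf' := commutator_commutator_eq (p₁ τ θ).ker hker hsup
  have hperf : Group.IsPerfect (commutator (PB τ θ)) := Subgroup.isPerfect_iff.mpr hperf'
  -- the stem extension
  let s : commutator (PB τ θ) →* Matrix.SpecialLinearGroup (Fin 2) F :=
    (p₁ τ θ).comp (commutator (PB τ θ)).subtype
  have hs_surj : Function.Surjective s := by
    intro g
    have h1 : g ∈ (commutator (PB τ θ)).map (p₁ τ θ) := by
      rw [hm₁, hSL]; exact Subgroup.mem_top _
    obtain ⟨c, hc, hcg⟩ := h1
    exact ⟨⟨c, hc⟩, hcg⟩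
  have hs_center : s.ker ≤ Subgroup.center (commutator (PB τ θ)) := by
    intro x hx
    have h1 : (x : PB τ θ) ∈ (p₁ τ θ).ker := hx
    have h2 := Subgroup.mem_center_iff.mp (hker h1)
    rw [Subgroup.mem_center_iff]
    intro y
    apply Subtype.ext
    exact h2 y
  have hs_comm : s.ker ≤ commutator (commutator (PB τ θ)) := by
    rw [hperf.commutator_eq_top]
    exact le_top
  have hstem : IsStemExtension s := ⟨hs_surj, hs_center, hs_comm⟩
  have hfi : s.ker.FiniteIndex := by
    refine ⟨?_⟩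
    rw [Subgroup.index_ker]
    exact Nat.card_pos.ne'
  have hfi' : (Subgroup.center (commutator (PB τ θ))).FiniteIndex :=
    Subgroup.finiteIndex_of_le hs_center
  have hfin : Finite (commutator (PB τ θ)) :=
    finite_of_perfect_of_finiteIndex_center hperf.commutator_eq_top
  have hbot := Cfsg.Agent.Lib.Helper66_SL2Mult.ker_eq_bot s hstem h4 h9
  have hs_inj : Function.Injective s := (MonoidHom.ker_eq_bot_iff s).mp hbot
  let e := MulEquiv.ofBijective s ⟨hs_inj, hs_surj⟩
  refine ⟨((p₂ τ θ).comp (commutator (PB τ θ)).subtype).comp e.symm.toMonoidHom, ?_⟩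
  intro y
  have h1 : y ∈ (commutator (PB τ θ)).map (p₂ τ θ) := by
    rw [hm₂, hY]; exact Subgroup.mem_top _
  obtain ⟨c, hc, hcy⟩ := h1
  refine ⟨e ⟨c, hc⟩, ?_⟩
  simp only [MonoidHom.comp_apply, MulEquiv.coe_toMonoidHom, MulEquiv.symm_apply_apply]
  exact hcy

end lift

end Cfsg.Agent.Lib.Helper83_SL2Lift
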