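import Cfsg.Agent.S5021

set_option autoImplicit false
open Cfsg

/-!
Special rank one groups with abelian unipotent subgroups and more than three elements in `A`
are perfect: `A ≤ ⁅A ⊔ B, A ⊔ B⁆`.
-/

namespace Cfsg.Agent.Lib.Helper83_Special

open Cfsg.Agent.Lib.Helper83_RankOne
open Cfsg.Agent.Lib.Helper83_RootSets (comm_of_mem)
open Cfsg.Agent.S5021 (rc rc_mul rc_one rc_of_mem rc_cancel rc_mul_of_mem Rel rc_inj exists_rel_right)

variable {G : Type*} [Group G] {A B : Subgroup G}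

open scoped commutatorElement

theorem mem_rc_iff (A : Subgroup G) (g x : G) : x ∈ rc A g ↔ g * x * g⁻¹ ∈ A := by
  unfold rc
  rw [mem_conjBy_iff, inv_inv]

/-- `n(a) = a b⁻¹ a` conjugates `a` to `b⁻¹`. -/
theorem conj_n (hs : IsSpecialRankOnePair A B) {a b : G} (h : Rel A B a b) :
    (a * b⁻¹ * a)⁻¹ * a * (a * b⁻¹ * a) = b⁻¹ := by
  have E2 := (Cfsg.Agent.S5021.Rel.inv hs h).special hs
  simp only [inv_inv] at E2
  -- E2 : b * a⁻¹ * b⁻¹ = a * b * a⁻¹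
  have E3 : b * a * b⁻¹ = a * b⁻¹ * a⁻¹ := by
    have := congrArg (fun x => x⁻¹) E2
    simp only [mul_inv_rev, inv_inv] at this
    calc b * a * b⁻¹ = b * (a * b⁻¹) := by group
      _ = a * (b⁻¹ * a⁻¹) := by rw [this]
      _ = a * b⁻¹ * a⁻¹ := by group
  calc (a * b⁻¹ * a)⁻¹ * a * (a * b⁻¹ * a) = a⁻¹ * (b * a * b⁻¹) * a := by group
    _ = a⁻¹ * (a * b⁻¹ * a⁻¹) * a := by rw [E3]
    _ = b⁻¹ := by group

theorem rc_n_right {a b : G} (h : Rel A B a b) : rc B (a * b⁻¹ * a) = A := by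
  calc rc B (a * b⁻¹ * a) = rc (rc B (a * b⁻¹)) a := (rc_mul _ _ _).symm
    _ = rc (rc (rc B a) b⁻¹) a := by rw [rc_mul B a b⁻¹]
    _ = rc (rc (rc A b) b⁻¹) a := by rw [h.2.2]
    _ = rc (rc A (b * b⁻¹)) a := by rw [rc_mul A b b⁻¹]
    _ = A := by rw [mul_inv_cancel, rc_one, rc_of_mem h.1]

theorem rc_n_left (hs : IsSpecialRankOnePair A B) {a b : G} (h : Rel A B a b) :
    rc A (a * b⁻¹ * a) = B := by
  have h' := Cfsg.Agent.S5021.Rel.inv hs h
  calc rc A (a * b⁻¹ * a) = rc (rc A (a * b⁻¹)) a := (rc_mul _ _ _).symm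
    _ = rc (rc (rc A a) b⁻¹) a := by rw [rc_mul A a b⁻¹]
    _ = rc (rc A b⁻¹) a := by rw [rc_of_mem h.1]
    _ = rc (rc B a⁻¹) a := by rw [h'.2.2]
    _ = B := by rw [rc_mul, inv_mul_cancel, rc_one]

theorem rc_n_inv_right (hs : IsSpecialRankOnePair A B) {a b : G} (h : Rel A B a b) :
    rc B (a * b⁻¹ * a)⁻¹ = A := by
  have := rc_n_left hs h
  rw [← this, rc_mul, mul_inv_cancel, rc_one]

theorem rc_n_inv_left {a b : G} (h : Rel A B a b) : rc A (a * b⁻¹ * a)⁻¹ = B := by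
  have := rc_n_right h
  rw [← this, rc_mul, mul_inv_cancel, rc_one]

/-- The special identity on points: `[a]^{n(a)} = [a⁻¹]`. -/
theorem special_point (hs : IsSpecialRankOnePair A B) {a b : G} (h : Rel A B a b) :
    rc B (a * (a * b⁻¹ * a)) = rc B a⁻¹ := by
  have h1 : a * (a * b⁻¹ * a) = (a * b⁻¹ * a) * b⁻¹ := by
    have := conj_n hs h
    calc a * (a * b⁻¹ * a) = (a * b⁻¹ * a) * ((a * b⁻¹ * a)⁻¹ * a * (a * b⁻¹ * a)) := by group
      _ = (a * b⁻¹ * a) * b⁻¹ := by rw [this]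
  rw [h1, ← rc_mul, rc_n_right h]
  exact (Cfsg.Agent.S5021.Rel.inv hs h).2.2

theorem n_mem {a b : G} (h : Rel A B a b) : a * b⁻¹ * a ∈ A ⊔ B :=
  mul_mem (mul_mem (Subgroup.mem_sup_left h.1) (inv_mem (Subgroup.mem_sup_right h.2.1)))
    (Subgroup.mem_sup_left h.1)

/-- The image of the point `[u]` under `n(c)` is `[u⁻¹ w]` with `w ∈ A ∩ X'`. -/
theorem point_n (hs : IsSpecialRankOnePair A B) {u bu c bc : G} (hu : Rel A B u bu)
    (hc : Rel A B c bc) :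
    ∃ w ∈ A ⊓ ⁅A ⊔ B, A ⊔ B⁆, rc B (u * (c * bc⁻¹ * c)) = rc B (u⁻¹ * w) := by
  set nu := u * bu⁻¹ * u with hnu
  set nc := c * bc⁻¹ * c with hnc
  set h' := nu⁻¹ * nc with hh'
  have hA : rc A h' = A := by
    rw [hh', ← rc_mul, rc_n_inv_left hu, rc_n_right hc]
  have hB : rc B h' = B := by
    rw [hh', ← rc_mul, rc_n_inv_right hs hu, rc_n_left hs hc]
  have hh'mem : h' ∈ A ⊔ B := mul_mem (inv_mem (n_mem hu)) (n_mem hc)
  have huA : u ∈ A := hu.1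
  -- the conjugate of u⁻¹ by h'
  have hconjA : h'⁻¹ * u⁻¹ * h' ∈ A := by
    have : h'⁻¹ * u⁻¹ * h' ∈ rc A h' := by
      rw [mem_rc_iff]
      have : h' * (h'⁻¹ * u⁻¹ * h') * h'⁻¹ = u⁻¹ := by group
      rw [this]; exact inv_mem huA
    rwa [hA] at this
  refine ⟨u * (h'⁻¹ * u⁻¹ * h'), ⟨mul_mem huA hconjA, ?_⟩, ?_⟩
  · have : u * (h'⁻¹ * u⁻¹ * h') = ⁅u, h'⁻¹⁆ := by
      rw [commutatorElement_def]; group
    rw [this]
    exact Subgroup.commutator_mem_commutator (Subgroup.mem_sup_left huA) (inv_mem hh'mem)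
  · have e1 : u * nc = (u * nu) * h' := by rw [hh']; group
    have e2 : u⁻¹ * (u * (h'⁻¹ * u⁻¹ * h')) = h'⁻¹ * u⁻¹ * h' := by group
    rw [e1, ← rc_mul, special_point hs hu, rc_mul, e2]
    have e3 : u⁻¹ * h' = h' * (h'⁻¹ * u⁻¹ * h') := by group
    rw [e3, ← rc_mul, hB]

/-- A non-identity `u ∈ A` does not fix the point `B`. -/
theorem rc_ne_of_ne_one (h : IsRankOnePair A B) {u : G} (hu : u ∈ A) (hu1 : u ≠ 1) : rc B u ≠ B := by
  intro he
  have h2 : u⁻¹ ∈ Subgroup.normalizer (B : Set G) := mem_normalizer_of_conjBy_eq he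
  have h3 := eq_one_of_mem_of_mem_normalizer h (inv_mem hu) h2
  exact hu1 (inv_eq_one.mp h3)

/-- Main identity: `u² c ∈ A ∩ X'`. -/
theorem sq_mul_mem (hs : IsSpecialRankOnePair A B) (hab : IsMulCommutative A) {u c : G}
    (hu : u ∈ A) (hc : c ∈ A) (hu1 : u ≠ 1) (hc1 : c ≠ 1) (huc : u * c ≠ 1) :
    u * u * c ∈ A ⊓ ⁅A ⊔ B, A ⊔ B⁆ := by
  have h := hs.1
  obtain ⟨bu, hRu⟩ := exists_rel_right h hu hu1
  obtain ⟨bc, hRc⟩ := exists_rel_right h hc hc1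
  have hvA : u * c ∈ A := mul_mem hu hc
  obtain ⟨bv, hRv⟩ := exists_rel_right h hvA huc
  have hRc' := Cfsg.Agent.S5021.Rel.inv hs hRc
  set n := c * bc⁻¹ * c with hn
  have hninv : c⁻¹ * (bc⁻¹)⁻¹ * c⁻¹ = n⁻¹ := by rw [hn]; group
  -- n = c n⁻¹ c n c
  have hid : n = c * n⁻¹ * c * n * c := by
    have h1 := conj_n hs hRc
    rw [← hn] at h1
    calc n = c * bc⁻¹ * c := hn
      _ = c * (n⁻¹ * c * n) * c := by rw [h1]
      _ = c * n⁻¹ * c * n * c := by group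
  obtain ⟨w1, hw1, e1⟩ := point_n hs hRu hRc
  obtain ⟨w2, hw2, e2⟩ := point_n hs hRv hRc'
  rw [hninv] at e2
  rw [← hn] at e1
  -- x = u⁻¹ w2
  have hw2A : w2 ∈ A := hw2.1
  have hw1A : w1 ∈ A := hw1.1
  have hxA : u⁻¹ * w2 ∈ A := mul_mem (inv_mem hu) hw2A
  have hx_eq : (u * c)⁻¹ * w2 * c = u⁻¹ * w2 := by
    have hcomm : w2 * c = c * w2 := comm_of_mem hab hw2A hc
    have hcu : c⁻¹ * u⁻¹ = u⁻¹ * c⁻¹ := comm_of_mem hab (inv_mem hc) (inv_mem hu)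
    calc (u * c)⁻¹ * w2 * c = c⁻¹ * u⁻¹ * (w2 * c) := by group
      _ = u⁻¹ * c⁻¹ * (c * w2) := by rw [hcomm, hcu]
      _ = u⁻¹ * w2 := by group
  -- rc B (u n) = rc B (x n c)
  have e3 : rc B (u * n) = rc B ((u⁻¹ * w2) * n * c) := by
    have : u * n = ((u * c) * n⁻¹) * (c * n * c) := by
      calc u * n = u * (c * n⁻¹ * c * n * c) := by rw [← hid]
        _ = ((u * c) * n⁻¹) * (c * n * c) := by group
    rw [this, ← rc_mul, e2, rc_mul]
    have : (u * c)⁻¹ * w2 * (c * n * c) = ((u * c)⁻¹ * w2 * c) * n * c := by group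
    rw [this, hx_eq]
  -- x ≠ 1
  have hx1 : u⁻¹ * w2 ≠ 1 := by
    intro hx
    have e3' : rc B (u * n) = A := by
      rw [e3, hx, one_mul, ← rc_mul, rc_n_right hRc, rc_of_mem hc]
    have : rc (rc B u) n = rc B n := by rw [rc_mul, e3', rc_n_right hRc]
    exact rc_ne_of_ne_one h hu hu1 (rc_cancel this)
  obtain ⟨bx, hRx⟩ := exists_rel_right h hxA hx1
  obtain ⟨w3, hw3, e4⟩ := point_n hs hRx hRc
  rw [← hn] at e4
  have hw3A : w3 ∈ A := hw3.1
  have e5 : rc B (u⁻¹ * w1) = rc B ((u⁻¹ * w2)⁻¹ * w3 * c) := by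
    rw [← e1, e3, ← rc_mul, e4, rc_mul]
  have hL : u⁻¹ * w1 ∈ A := mul_mem (inv_mem hu) hw1A
  have hR : (u⁻¹ * w2)⁻¹ * w3 * c ∈ A := mul_mem (mul_mem (inv_mem hxA) hw3A) hc
  have e6 := rc_inj (RankOnePair_symm h) hL hR e5
  -- u u c = w1 w2 w3⁻¹
  have hfinal : u * u * c = w1 * w2 * w3⁻¹ := by
    have c1 : w2⁻¹ * u = u * w2⁻¹ := comm_of_mem hab (inv_mem hw2A) hu
    have c2 : w3 * c = c * w3 := comm_of_mem hab hw3A hc
    have c3 : w2⁻¹ * c = c * w2⁻¹ := comm_of_mem hab (inv_mem hw2A) hc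
    have c4 : w1 * w2 = w2 * w1 := comm_of_mem hab hw1A hw2A
    have c5 : w3 * w1 = w1 * w3 := comm_of_mem hab hw3A hw1A
    have c6 : w3 * w2 = w2 * w3 := comm_of_mem hab hw3A hw2A
    have e7 : u⁻¹ * w1 = u * c * (w2⁻¹ * w3) := by
      calc u⁻¹ * w1 = (u⁻¹ * w2)⁻¹ * w3 * c := e6
        _ = w2⁻¹ * u * (w3 * c) := by group
        _ = u * w2⁻¹ * (c * w3) := by rw [c1, c2]
        _ = u * (w2⁻¹ * c) * w3 := by group
        _ = u * (c * w2⁻¹) * w3 := by rw [c3]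
        _ = u * c * (w2⁻¹ * w3) := by group
    have e8 : w1 = u * u * c * (w2⁻¹ * w3) := by
      calc w1 = u * (u⁻¹ * w1) := by group
        _ = u * (u * c * (w2⁻¹ * w3)) := by rw [e7]
        _ = u * u * c * (w2⁻¹ * w3) := by group
    calc u * u * c = (u * u * c * (w2⁻¹ * w3)) * (w2⁻¹ * w3)⁻¹ := by group
      _ = w1 * (w2⁻¹ * w3)⁻¹ := by rw [← e8]
      _ = w1 * (w3⁻¹ * w2) := by group
      _ = w1 * (w2 * w3⁻¹) := by
          have : w3⁻¹ * w2 = w2 * w3⁻¹ := comm_of_mem hab (inv_mem hw3A) hw2A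
          rw [this]
      _ = w1 * w2 * w3⁻¹ := by group
  rw [hfinal]
  exact mul_mem (mul_mem hw1 hw2) (inv_mem hw3)

theorem exists_notMem_finset {A : Subgroup G} {k : ℕ} (h : (k : ℕ∞) < ENat.card A) (F : Finset G)
    (hF : F.card ≤ k) : ∃ y ∈ A, y ∉ F := by
  by_contra hno
  push Not at hno
  have hsub : (A : Set G) ⊆ (F : Set G) := fun y hy => hno y hy
  have h1 : (A : Set G).encard ≤ (F : Set G).encard := Set.encard_le_encard hsub
  rw [Set.encard_coe_eq_coe_finsetCard] at h1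
  have h2 : ENat.card A = (A : Set G).encard := rfl
  rw [h2] at h
  have h3 : ((F.card : ℕ) : ℕ∞) ≤ (k : ℕ∞) := by exact_mod_cast hF
  exact absurd (lt_of_lt_of_le h (h1.trans h3)) (lt_irrefl _)

/-- Counting step: if `u² c ∈ U` for all admissible `u, c ∈ A` and `A` has more than three
elements, then `A ≤ U`. -/
theorem le_of_sq_mul_mem {U : Subgroup G} (_hab : IsMulCommutative A) (h3 : 3 < ENat.card A)
    (H : ∀ u ∈ A, ∀ c ∈ A, u ≠ 1 → c ≠ 1 → u * c ≠ 1 → u * u * c ∈ U) : A ≤ U := by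
  classical
  intro x hx
  by_cases hx1 : x = 1
  · rw [hx1]; exact one_mem _
  have h3' : ((3 : ℕ) : ℕ∞) < ENat.card A := by exact_mod_cast h3
  -- choose c' ∉ {1, x⁻¹}
  obtain ⟨c', hc'A, hc'⟩ := exists_notMem_finset h3' ({1, x⁻¹} : Finset G)
    ((Finset.card_insert_le _ _).trans (by simp))
  simp only [Finset.mem_insert, Finset.mem_singleton, not_or] at hc'
  obtain ⟨hc'1, hc'x⟩ := hc'
  have hcA : c' * x ∈ A := mul_mem hc'A hx
  have hc1 : c' * x ≠ 1 := by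
    intro h
    apply hc'x
    exact eq_inv_of_mul_eq_one_left h
  -- choose u ∉ {1, (c' x)⁻¹, c'⁻¹}
  obtain ⟨u, huA, hu⟩ := exists_notMem_finset h3' ({1, (c' * x)⁻¹, c'⁻¹} : Finset G)
    ((Finset.card_insert_le _ _).trans (by
      have := Finset.card_insert_le (c' * x)⁻¹ ({c'⁻¹} : Finset G)
      simp only [Finset.card_singleton] at this
      omega))
  simp only [Finset.mem_insert, Finset.mem_singleton, not_or] at hu
  obtain ⟨hu1, hu2, hu3⟩ := hu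
  have m1 := H u huA (c' * x) hcA hu1 hc1 (fun h => hu2 (eq_inv_of_mul_eq_one_left h))
  have m2 := H u huA c' hc'A hu1 hc'1 (fun h => hu3 (eq_inv_of_mul_eq_one_left h))
  have : x = (u * u * c')⁻¹ * (u * u * (c' * x)) := by group
  rw [this]
  exact mul_mem (inv_mem m2) m1

/-- A special rank one group with abelian `A` of more than three elements has `A ≤ X'`. -/
theorem le_commutator (hs : IsSpecialRankOnePair A B) (hab : IsMulCommutative A)
    (h3 : 3 < ENat.card A) : A ≤ ⁅A ⊔ B, A ⊔ B⁆ := by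
  have : A ≤ A ⊓ ⁅A ⊔ B, A ⊔ B⁆ :=
    le_of_sq_mul_mem hab h3 (fun u hu c hc hu1 hc1 huc => sq_mul_mem hs hab hu hc hu1 hc1 huc)
  exact this.trans inf_le_right

end Cfsg.Agent.Lib.Helper83_Special
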