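import Mathlib
import Cfsg.Agent.Lib.Helper83_Special
import Cfsg.Agent.S5016
import Cfsg.Agent.S5017
import Cfsg.Agent.S5020
import Cfsg.Agent.Lib.Helper56_Mobius
import Cfsg.Agent.Lib.Helper83_SL2Lift

set_option autoImplicit false
open Cfsg

/-!
Recognition of `SL₂(p)` and `PSL₂(p)`: a special rank one group whose unipotent subgroups have
prime order `p ≥ 5` is isomorphic to `SL₂(p)` or `PSL₂(p)`.
-/

namespace Cfsg.Agent.Lib.Helper83_SL2Recog

open Cfsg.Agent.Lib.Helper83_RankOne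
open Cfsg.Agent.Lib.Helper83_RootSets (comm_of_mem)
open Cfsg.Agent.Lib.Helper83_Special
open Cfsg.Agent.S5021 (rc rc_mul rc_one rc_of_mem rc_cancel rc_mul_of_mem Rel rc_inj exists_rel_right)

/-! ### Powers indexed by `ZMod p` -/

section pw

variable {G : Type*} [Group G] {p : ℕ} [Fact p.Prime]

/-- `c ^ t` for `t : ZMod p`. -/
def pw (c : G) (t : ZMod p) : G := c ^ t.val

theorem pw_zero (c : G) : pw c (0 : ZMod p) = 1 := by
  unfold pw
  rw [ZMod.val_zero, pow_zero]

theorem pw_one (c : G) : pw c (1 : ZMod p) = c := by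
  unfold pw
  rw [ZMod.val_one, pow_one]

theorem pw_add {c : G} (hc : c ^ p = 1) (s t : ZMod p) : pw c (s + t) = pw c s * pw c t := by
  unfold pw
  rw [ZMod.val_add, ← pow_add, ← pow_eq_pow_mod _ hc]

theorem pw_neg {c : G} (hc : c ^ p = 1) (t : ZMod p) : pw c (-t) = (pw c t)⁻¹ := by
  have h := pw_add hc (-t) t
  rw [neg_add_cancel, pw_zero] at h
  exact eq_inv_of_mul_eq_one_left h.symm

theorem pw_mul {c : G} (hc : c ^ p = 1) (s t : ZMod p) : pw c (s * t) = (pw c s) ^ t.val := by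
  unfold pw
  rw [ZMod.val_mul, ← pow_mul, ← pow_eq_pow_mod _ hc]

theorem pw_natCast {c : G} (hc : c ^ p = 1) (n : ℕ) : pw c (n : ZMod p) = c ^ n := by
  unfold pw
  rw [ZMod.val_natCast, ← pow_eq_pow_mod _ hc]

theorem pw_inv {c : G} (hc : c ^ p = 1) (t : ZMod p) : pw c⁻¹ t = pw c (-t) := by
  rw [pw_neg hc]
  unfold pw
  rw [inv_pow]

omit [Fact p.Prime] in
theorem pw_mem {H : Subgroup G} {c : G} (hc : c ∈ H) (t : ZMod p) : pw c t ∈ H :=
  pow_mem hc _

theorem pw_injective {c : G} (hc : c ^ p = 1) (hc1 : c ≠ 1) : Function.Injective (pw c (p := p)) := by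
  intro s t hst
  have ho : orderOf c = p := orderOf_eq_prime hc hc1
  unfold pw at hst
  have h1 := (pow_eq_pow_iff_modEq).mp hst
  rw [ho] at h1
  have h2 : ((s.val : ℕ) : ZMod p) = ((t.val : ℕ) : ZMod p) := (ZMod.natCast_eq_natCast_iff _ _ _).mpr h1
  rwa [ZMod.natCast_zmod_val, ZMod.natCast_zmod_val] at h2

omit [Fact p.Prime] in
theorem pw_conj {c : G} (g : G) (t : ZMod p) : pw (g⁻¹ * c * g) t = g⁻¹ * pw c t * g := by
  unfold pw
  have e : g⁻¹ * c * g = g⁻¹ * c * g⁻¹⁻¹ := by rw [inv_inv]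
  rw [e, conj_pow, inv_inv]

end pw

/-! ### Rank one groups with unipotent subgroups of prime order -/

section rankone

variable {Y : Type*} [Group Y] {A B : Subgroup Y} {p : ℕ} [Fact p.Prime]

open Cfsg.Agent.S5020 (pow_card_eq_one card_right le_of_prime_card)

theorem comm_of_card {H : Subgroup Y} (hc : Nat.card H = p) : IsMulCommutative H := by
  have : IsCyclic H := isCyclic_of_prime_card hc
  infer_instance

theorem good_of_card {H : Subgroup Y} (hc : Nat.card H = p) {m : ℕ} (hm : m ≤ p) :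
    Cfsg.Agent.S5021.Good m H := by
  intro x hx hx1 k hk hkm hxk
  have hxp : x ^ p = 1 := pow_card_eq_one hc hx
  have ho : orderOf x = p := orderOf_eq_prime hxp hx1
  have h1 : p ∣ k := by
    rw [← ho]
    exact orderOf_dvd_of_pow_eq_one hxk
  have := Nat.le_of_dvd hk h1
  omega

/-- The partner of `a ^ t` is `b ^ (1 / t)`. -/
theorem partner_pw (hs : IsSpecialRankOnePair A B) (hc : Nat.card A = p) {a b : Y}
    (hR : Rel A B a b) {t : ZMod p} (ht : t ≠ 0) : Rel A B (pw a t) (pw b t⁻¹) := by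
  have hr := hs.1
  have hcB : Nat.card B = p := (card_right hs).trans hc
  have ha := hR.1
  have hb := hR.2.1
  have ha1 := hR.left_ne_one hr
  have hap : a ^ p = 1 := pow_card_eq_one hc ha
  have hx1 : pw a t ≠ 1 := by
    intro h
    rw [← pw_zero (p := p) a] at h
    exact ht (pw_injective hap ha1 h)
  obtain ⟨y, hy⟩ := exists_rel_right hr (pw_mem ha t) hx1
  have hm : t.val ≤ p := (ZMod.val_lt t).le
  have hyb : y ^ t.val = b :=
    Cfsg.Agent.S5021.claim t.val A B hs (comm_of_card hc) (comm_of_card hcB)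
      (good_of_card hc hm) (good_of_card hcB hm) a b y hR hy
  have hyp : y ^ p = 1 := pow_card_eq_one hcB hy.2.1
  have e : y = pw b t⁻¹ := by
    have h1 : pw y (t * t⁻¹) = (pw y t) ^ (t⁻¹).val := pw_mul hyp t t⁻¹
    rw [mul_inv_cancel₀ ht, pw_one] at h1
    rw [h1]
    unfold pw
    rw [hyb]
  rw [← e]
  exact hy

/-- The braid relation. -/
theorem braid (hs : IsSpecialRankOnePair A B) {x y : Y} (hR : Rel A B x y) :
    x * y⁻¹ * x = y⁻¹ * x * y⁻¹ := by
  have E := hR.special hs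
  calc x * y⁻¹ * x = x * (y⁻¹ * x * y) * y⁻¹ := by group
    _ = x * (x⁻¹ * y⁻¹ * x) * y⁻¹ := by rw [E]
    _ = y⁻¹ * x * y⁻¹ := by group

/-- `n(x)` conjugates `y⁻¹` to `x`. -/
theorem conj_n' (hs : IsSpecialRankOnePair A B) {x y : Y} (hR : Rel A B x y) :
    (x * y⁻¹ * x)⁻¹ * y⁻¹ * (x * y⁻¹ * x) = x := by
  have hR' : Rel B A y⁻¹ x⁻¹ := (Cfsg.Agent.S5021.Rel.inv hs hR).symm
  have h1 := conj_n (Cfsg.Agent.S5021.special_symm hs) hR'
  rw [inv_inv] at h1
  rw [braid hs hR]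
  exact h1

/-- `n(x) x⁻¹ n(x)⁻¹ = y`. -/
theorem n_conj_inv (hs : IsSpecialRankOnePair A B) {x y : Y} (hR : Rel A B x y) :
    (x * y⁻¹ * x) * x⁻¹ * (x * y⁻¹ * x)⁻¹ = y := by
  have h1 := conj_n' hs hR
  obtain ⟨N, hN⟩ : ∃ N, N = x * y⁻¹ * x := ⟨_, rfl⟩
  rw [← hN] at h1 ⊢
  have h2 : x⁻¹ = N⁻¹ * y * N := by
    rw [← h1]; group
  rw [h2]; group

/-- The action of `n = n(a)` on the points `[a ^ t]`, `t ≠ 0`. -/
theorem rc_pw_n (hs : IsSpecialRankOnePair A B) (hc : Nat.card A = p) {a b : Y}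
    (hR : Rel A B a b) {t : ZMod p} (ht : t ≠ 0) :
    rc B (pw a t * (a * b⁻¹ * a)) = rc B (pw a (-t⁻¹)) := by
  have hr := hs.1
  have hcB : Nat.card B = p := (card_right hs).trans hc
  have ha := hR.1
  have hb := hR.2.1
  have hap : a ^ p = 1 := pow_card_eq_one hc ha
  have hbp : b ^ p = 1 := pow_card_eq_one hcB hb
  have hRx := partner_pw hs hc hR ht
  obtain ⟨x, hx⟩ : ∃ x, x = pw a t := ⟨_, rfl⟩
  obtain ⟨y, hy⟩ : ∃ y, y = pw b t⁻¹ := ⟨_, rfl⟩
  rw [← hx, ← hy] at hRx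
  rw [← hx]
  obtain ⟨N, hN⟩ : ∃ N, N = x * y⁻¹ * x := ⟨_, rfl⟩
  obtain ⟨n, hn⟩ : ∃ n, n = a * b⁻¹ * a := ⟨_, rfl⟩
  rw [← hn]
  obtain ⟨h, hh⟩ : ∃ h, h = N⁻¹ * n := ⟨_, rfl⟩
  have hA : rc A h = A := by
    rw [hh, ← rc_mul, hN, rc_n_inv_left hRx, hn, rc_n_right hR]
  have hB : rc B h = B := by
    rw [hh, ← rc_mul, hN, rc_n_inv_right hs hRx, hn, rc_n_left hs hR]
  have hsp : rc B (x * N) = rc B x⁻¹ := by
    rw [hN]; exact special_point hs hRx
  have e1 : x * n = (x * N) * h := by rw [hh]; group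
  have e2 : x⁻¹ * h = h * (h⁻¹ * x⁻¹ * h) := by group
  rw [e1, ← rc_mul, hsp, rc_mul, e2, ← rc_mul, hB]
  congr 1
  -- h⁻¹ x⁻¹ h = n⁻¹ y n
  have e3 : h⁻¹ * x⁻¹ * h = n⁻¹ * (N * x⁻¹ * N⁻¹) * n := by rw [hh]; group
  have e4 : N * x⁻¹ * N⁻¹ = y := by rw [hN]; exact n_conj_inv hs hRx
  rw [e3, e4, hy]
  -- n⁻¹ b n = a⁻¹
  have e5 : n⁻¹ * b * n = a⁻¹ := by
    have h1 := conj_n' hs hR
    rw [← hn] at h1
    calc n⁻¹ * b * n = (n⁻¹ * b⁻¹ * n)⁻¹ := by group
      _ = a⁻¹ := by rw [h1]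
  rw [← pw_conj, e5, pw_inv hap]

end rankone

/-! ### The action on the projective line -/

section action

variable {Y : Type*} [Group Y] {A B : Subgroup Y} {p : ℕ} [Fact p.Prime]

open Cfsg.Agent.S5020 (pow_card_eq_one card_right le_of_prime_card)
open Cfsg.Agent.Lib.Helper56_Mobius

/-- A family of subgroups permuted by conjugation gives a permutation representation. -/
theorem exists_perm_hom {Ω : Type*} (pt : Ω → Subgroup Y) (hinj : Function.Injective pt)
    (hcl : ∀ ω y, ∃ ω', pt ω' = Cfsg.conjBy (pt ω) y) :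
    ∃ ρ : Y →* Equiv.Perm Ω, ∀ y ω, pt (ρ y ω) = Cfsg.conjBy (pt ω) y := by
  choose f hf using hcl
  have h1 : ∀ ω, f ω 1 = ω := fun ω => hinj (by rw [hf, conjBy_one])
  have hmul : ∀ ω y z, f ω (y * z) = f (f ω z) y := fun ω y z =>
    hinj (by rw [hf, hf, hf, conjBy_mul])
  refine ⟨{ toFun := fun y => ⟨fun ω => f ω y, fun ω => f ω y⁻¹, ?_, ?_⟩
            map_one' := ?_
            map_mul' := ?_ }, ?_⟩
  · intro ω
    show f (f ω y) y⁻¹ = ω
    rw [← hmul, inv_mul_cancel, h1]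
  · intro ω
    show f (f ω y⁻¹) y = ω
    rw [← hmul, mul_inv_cancel, h1]
  · ext ω
    exact h1 ω
  · intro y z
    ext ω
    exact hmul ω y z
  · intro y ω
    exact hf ω y

/-- The point map: `∞ ↦ A`, `t ↦ B ^ (a ^ t)`. -/
def pt (A B : Subgroup Y) (a : Y) : OnePoint (ZMod p) → Subgroup Y
  | none => A
  | some t => Cfsg.conjBy B (pw a t)

omit [Fact p.Prime] in
theorem pt_infty (a : Y) : pt A B a (OnePoint.infty : OnePoint (ZMod p)) = A := rfl

omit [Fact p.Prime] in
theorem pt_coe (a : Y) (t : ZMod p) :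
    pt A B a ((t : ZMod p) : OnePoint (ZMod p)) = Cfsg.conjBy B (pw a t) := rfl

theorem exists_pw_eq (hc : Nat.card A = p) {a : Y} (ha : a ∈ A) (ha1 : a ≠ 1) {x : Y}
    (hx : x ∈ A) : ∃ t : ZMod p, pw a t = x := by
  have hap : a ^ p = 1 := pow_card_eq_one hc ha
  have h1 : (⟨a, ha⟩ : A) ≠ 1 := fun h => ha1 (congrArg Subtype.val h)
  have h2 : (⟨x, hx⟩ : A) ∈ Submonoid.powers (⟨a, ha⟩ : A) := mem_powers_of_prime_card hc h1
  obtain ⟨n, hn⟩ := h2
  have h3 : a ^ n = x := by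
    have := congrArg Subtype.val hn
    simpa using this
  exact ⟨(n : ZMod p), by rw [pw_natCast hap, h3]⟩

theorem pt_injective (h : IsRankOnePair A B) (hc : Nat.card A = p) {a : Y} (ha : a ∈ A)
    (ha1 : a ≠ 1) : Function.Injective (pt A B a (p := p)) := by
  have hap : a ^ p = 1 := pow_card_eq_one hc ha
  have key : ∀ t : ZMod p, Cfsg.conjBy B (pw a t) ≠ A := by
    intro t he
    have h1 : B = Cfsg.conjBy A (pw a t)⁻¹ := conjBy_eq_iff.mp he
    rw [conjBy_self_mem (inv_mem (pw_mem ha t))] at h1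
    exact h.ne h1.symm
  intro ω ω' he
  rcases ω with _ | s <;> rcases ω' with _ | t
  · rfl
  · exact absurd he.symm (key t)
  · exact absurd he (key s)
  · have he' : Cfsg.conjBy B (pw a s) = Cfsg.conjBy B (pw a t) := he
    have h1 : Cfsg.conjBy B ((pw a t)⁻¹ * pw a s) = B := by
      rw [← conjBy_mul, he', conjBy_mul, inv_mul_cancel, conjBy_one]
    have h2 : (pw a t)⁻¹ * pw a s ∈ Subgroup.normalizer (B : Set Y) :=
      mem_normalizer_of_conjBy_eq h1
    have h3 := eq_one_of_mem_of_mem_normalizer h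
      (mul_mem (inv_mem (pw_mem ha t)) (pw_mem ha s)) h2
    have h4 : pw a s = pw a t := by
      calc pw a s = pw a t * ((pw a t)⁻¹ * pw a s) := by group
        _ = pw a t := by rw [h3, mul_one]
    rw [pw_injective hap ha1 h4]

omit [Fact p.Prime] in
theorem pt_mem (h : IsRankOnePair A B) {a : Y} (ha : a ∈ A) (ω : OnePoint (ZMod p)) :
    pt A B a ω ∈ Cfsg.unipotentSubgroups A B := by
  rw [mem_unipotentSubgroups_iff h]
  rcases ω with _ | t
  · left; rfl
  · right; exact ⟨pw a t, pw_mem ha t, rfl⟩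

theorem pt_closed (h : IsRankOneGroup Y A B) (hc : Nat.card A = p) {a : Y} (ha : a ∈ A)
    (ha1 : a ≠ 1) (ω : OnePoint (ZMod p)) (y : Y) :
    ∃ ω' : OnePoint (ZMod p), pt A B a ω' = Cfsg.conjBy (pt A B a ω) y := by
  have hy : y ∈ A ⊔ B := by rw [h.1]; exact Subgroup.mem_top y
  have h1 := conjBy_mem_unipotentSubgroups (pt_mem h.2 ha ω) hy
  rcases (mem_unipotentSubgroups_iff h.2).mp h1 with h2 | ⟨a', ha', h2⟩
  · exact ⟨OnePoint.infty, h2.symm⟩
  · obtain ⟨t, rfl⟩ := exists_pw_eq hc ha ha1 ha'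
    exact ⟨((t : ZMod p) : OnePoint (ZMod p)), h2.symm⟩

/-- Translation by `a`. -/
theorem conjBy_pt_a (hc : Nat.card A = p) {a : Y} (ha : a ∈ A) (ω : OnePoint (ZMod p)) :
    Cfsg.conjBy (pt A B a ω) a = pt A B a (mob (matU : Matrix.SpecialLinearGroup (Fin 2) (ZMod p)) ω) := by
  have hap : a ^ p = 1 := pow_card_eq_one hc ha
  rcases ω with _ | t
  · show Cfsg.conjBy A a = pt A B a (mob matU OnePoint.infty)
    rw [mob_matU_infty, pt_infty, conjBy_self_mem ha]
  · show Cfsg.conjBy (Cfsg.conjBy B (pw a t)) a = pt A B a (mob matU ((t : ZMod p) : OnePoint (ZMod p)))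
    rw [mob_matU_coe, pt_coe, conjBy_mul, add_comm, pw_add hap, pw_one]

/-- The inversion induced by `n⁻¹`. -/
theorem conjBy_pt_n (hs : IsSpecialRankOnePair A B) (hc : Nat.card A = p) {a b : Y}
    (hR : Rel A B a b) (ω : OnePoint (ZMod p)) :
    Cfsg.conjBy (pt A B a ω) (a * b⁻¹ * a)⁻¹ =
      pt A B a (mob (matW : Matrix.SpecialLinearGroup (Fin 2) (ZMod p)) ω) := by
  have ha := hR.1
  have hap : a ^ p = 1 := pow_card_eq_one hc ha
  rcases ω with _ | t
  · show Cfsg.conjBy A (a * b⁻¹ * a)⁻¹ = pt A B a (mob matW OnePoint.infty)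
    rw [mob_matW_infty, pt_coe, pw_zero, conjBy_one]
    exact rc_n_left hs hR
  · by_cases ht : t = 0
    · subst ht
      show Cfsg.conjBy (Cfsg.conjBy B (pw a (0 : ZMod p))) (a * b⁻¹ * a)⁻¹ =
        pt A B a (mob matW (((0 : ZMod p) : ZMod p) : OnePoint (ZMod p)))
      rw [mob_matW_zero, pt_infty, pw_zero, conjBy_one]
      exact rc_n_right hR
    · show Cfsg.conjBy (Cfsg.conjBy B (pw a t)) (a * b⁻¹ * a)⁻¹ =
        pt A B a (mob matW ((t : ZMod p) : OnePoint (ZMod p)))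
      rw [mob_matW_coe t ht, pt_coe, conjBy_mul]
      have hnt : -t ≠ 0 := neg_ne_zero.mpr ht
      have h1 := rc_pw_n hs hc hR hnt
      -- h1 : rc B (pw a (-t) * n) = rc B (pw a (-(-t)⁻¹))
      have e1 : Cfsg.conjBy B ((a * b⁻¹ * a)⁻¹ * pw a t) = rc B (pw a (-t) * (a * b⁻¹ * a)) := by
        unfold rc
        congr 1
        rw [pw_neg hap]; group
      have e2 : Cfsg.conjBy B (pw a (-t⁻¹)) = rc B (pw a (-(-t)⁻¹)) := by
        unfold rc
        congr 1
        rw [inv_neg, neg_neg, pw_neg hap]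
      rw [e1, e2]
      exact h1

end action

/-! ### The recognition theorem -/

section main

variable {Y : Type*} [Group Y] {A B : Subgroup Y} {p : ℕ} [Fact p.Prime]

open Cfsg.Agent.S5020 (pow_card_eq_one card_right le_of_prime_card)
open Cfsg.Agent.Lib.Helper56_Mobius

/-- The permutation representation on the projective line, with the same image as `SL₂(p)`. -/
theorem exists_rep (h : IsRankOneGroup Y A B) (hs : IsSpecialRankOnePair A B)
    (hc : Nat.card A = p) :
    ∃ ρ : Y →* Equiv.Perm (OnePoint (ZMod p)),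
      ρ.range = (mob : Matrix.SpecialLinearGroup (Fin 2) (ZMod p) →* _).range ∧
      ρ.ker ≤ Subgroup.center Y := by
  obtain ⟨a, ha, ha1⟩ := exists_ne_one_left h.2
  obtain ⟨b, hR⟩ := exists_rel_right h.2 ha ha1
  have hinj := pt_injective (p := p) h.2 hc ha ha1
  obtain ⟨ρ, hρ⟩ := exists_perm_hom (pt A B a (p := p)) hinj (pt_closed h hc ha ha1)
  have hρa : ρ a = mob (matU : Matrix.SpecialLinearGroup (Fin 2) (ZMod p)) := by
    apply Equiv.ext
    intro ω
    apply hinj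
    rw [hρ, conjBy_pt_a hc ha]
  have hρn : ρ (a * b⁻¹ * a)⁻¹ = mob (matW : Matrix.SpecialLinearGroup (Fin 2) (ZMod p)) := by
    apply Equiv.ext
    intro ω
    apply hinj
    rw [hρ, conjBy_pt_n hs hc hR]
  have hgen : Subgroup.closure ({a, (a * b⁻¹ * a)⁻¹} : Set Y) = ⊤ := by
    have haU : a ∈ Subgroup.closure ({a, (a * b⁻¹ * a)⁻¹} : Set Y) :=
      Subgroup.subset_closure (by simp)
    have hnU : (a * b⁻¹ * a)⁻¹ ∈ Subgroup.closure ({a, (a * b⁻¹ * a)⁻¹} : Set Y) :=
      Subgroup.subset_closure (by simp)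
    have hbU : b ∈ Subgroup.closure ({a, (a * b⁻¹ * a)⁻¹} : Set Y) := by
      have e : a * (a * b⁻¹ * a)⁻¹ * a = b := by group
      have hmem := mul_mem (mul_mem haU hnU) haU
      rwa [e] at hmem
    exact Cfsg.Agent.S5020.closure_eq_top h hs hc hR haU hbU
  refine ⟨ρ, ?_, ?_⟩
  · rw [MonoidHom.range_eq_map, ← hgen, MonoidHom.map_closure, Set.image_pair, hρa, hρn,
      MonoidHom.range_eq_map, ← closure_zmod_eq_top p, MonoidHom.map_closure, Set.image_pair]
  · have hfix : ∀ k ∈ ρ.ker, ∀ ω : OnePoint (ZMod p), Cfsg.conjBy (pt A B a ω) k = pt A B a ω := by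
      intro k hk ω
      rw [← hρ, MonoidHom.mem_ker.mp hk]
      rfl
    rcases Cfsg.Agent.S5017.dichotomy h ρ.ker inferInstance with h1 | h1
    · exfalso
      have hn : (a * b⁻¹ * a)⁻¹ ∈ ((ρ.ker ⊔ A : Subgroup Y) : Set Y) := by
        rw [h1]; exact Set.mem_univ _
      rw [Subgroup.normal_mul] at hn
      obtain ⟨k, hk, a', ha', hka⟩ := hn
      have e1 : Cfsg.conjBy A (a * b⁻¹ * a)⁻¹ = B := rc_n_left hs hR
      rw [← hka, ← conjBy_mul, conjBy_self_mem ha'] at e1
      have e2 := hfix k hk OnePoint.infty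
      rw [pt_infty] at e2
      rw [e2] at e1
      exact h.2.ne e1
    · exact h1

/-- Perfectness of special rank one groups with `|A| > 3`. -/
theorem commutator_eq_top (h : IsRankOneGroup Y A B) (hs : IsSpecialRankOnePair A B)
    (hab : HasAbelianUnipotents A B) (h3 : 3 < ENat.card A) : commutator Y = ⊤ := by
  have htop := h.1
  have hA : A ≤ commutator Y := by
    have := le_commutator hs hab.1 h3
    rwa [htop, ← commutator_def] at this
  have hB : B ≤ commutator Y := by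
    obtain ⟨a, ha, ha1⟩ := exists_ne_one_left h.2
    obtain ⟨b, hR⟩ := exists_rel_right h.2 ha ha1
    have hB' := rc_n_left hs hR
    intro x hx
    rw [← hB', mem_rc_iff] at hx
    have h1 := hA hx
    have hn : (commutator Y).Normal := inferInstance
    have h2 := hn.conj_mem _ h1 (a * b⁻¹ * a)⁻¹
    have e : (a * b⁻¹ * a)⁻¹ * ((a * b⁻¹ * a) * x * (a * b⁻¹ * a)⁻¹) * (a * b⁻¹ * a)⁻¹⁻¹ = x := by
      group
    rwa [e] at h2
  rw [eq_top_iff, ← htop]
  exact sup_le hA hB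

omit [Fact p.Prime] in
/-- The lower unitriangular subgroup of `SL₂(k)` is in bijection with `k`. -/
theorem card_lower (k : Type*) [Field k] : Nat.card (Cfsg.lowerUnipotentSL2 k) = Nat.card k := by
  have hbij : Function.Bijective (fun t : k =>
      (⟨Cfsg.Agent.S5016.lowerElt t, Cfsg.Agent.S5016.lowerElt_mem t⟩ :
        Cfsg.lowerUnipotentSL2 k)) := by
    constructor
    · intro s t hst
      have h1 : Cfsg.Agent.S5016.lowerElt s = Cfsg.Agent.S5016.lowerElt t :=
        congrArg Subtype.val hst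
      have h2 := congrArg (fun g : Matrix.SpecialLinearGroup (Fin 2) k =>
        (g : Matrix (Fin 2) (Fin 2) k) 1 0) h1
      simpa [Cfsg.Agent.S5016.lowerElt_coe] using h2
    · rintro ⟨g, hg⟩
      obtain ⟨t, rfl⟩ := Cfsg.Agent.S5016.mem_lower_iff.mp hg
      exact ⟨t, rfl⟩
  exact (Nat.card_congr (Equiv.ofBijective _ hbij)).symm

omit [Fact p.Prime] in
theorem three_lt_encard {H : Subgroup Y} {q : ℕ} (hc : Nat.card H = q) (hq : 5 ≤ q) :
    3 < ENat.card H := by
  have hfin : Finite H := Nat.finite_of_card_ne_zero (by omega)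
  rw [ENat.card_eq_coe_natCard, hc]
  exact_mod_cast (by omega : 3 < q)

/-- Non-identity central elements of `SL₂(F)` coincide. -/
theorem center_SL2_unique {F : Type*} [Field F]
    {x y : Matrix.SpecialLinearGroup (Fin 2) F}
    (hx : x ∈ Subgroup.center (Matrix.SpecialLinearGroup (Fin 2) F)) (hx1 : x ≠ 1)
    (hy : y ∈ Subgroup.center (Matrix.SpecialLinearGroup (Fin 2) F)) (hy1 : y ≠ 1) : x = y := by
  rw [Matrix.SpecialLinearGroup.mem_center_iff] at hx hy
  obtain ⟨r, hr, hrx⟩ := hx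
  obtain ⟨s, hs, hsy⟩ := hy
  rw [Fintype.card_fin, pow_two] at hr hs
  have hr' : r = -1 := by
    rcases mul_self_eq_one_iff.mp hr with h | h
    · exfalso
      apply hx1
      apply Subtype.ext
      rw [← hrx, h]
      simp
    · exact h
  have hs' : s = -1 := by
    rcases mul_self_eq_one_iff.mp hs with h | h
    · exfalso
      apply hy1
      apply Subtype.ext
      rw [← hsy, h]
      simp
    · exact h
  apply Subtype.ext
  rw [← hrx, ← hsy, hr', hs']

/-- A rank one group that is an image of `SL₂(F)` is `SL₂(F)` or `PSL₂(F)`. -/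
theorem iso_of_surj_field {F : Type*} [Field F] (h : IsRankOneGroup Y A B)
    (φ : Matrix.SpecialLinearGroup (Fin 2) F →* Y) (hφ : Function.Surjective φ) :
    Nonempty (Y ≃* Matrix.SpecialLinearGroup (Fin 2) F) ∨
      Nonempty (Y ≃* Matrix.ProjectiveSpecialLinearGroup (Fin 2) F) := by
  have hS := Cfsg.Agent.S5016.result F
  have hK : φ.ker ≤ Subgroup.center (Matrix.SpecialLinearGroup (Fin 2) F) := by
    rcases Cfsg.Agent.S5017.dichotomy hS.1 φ.ker inferInstance with h1 | h1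
    · exfalso
      obtain ⟨x, -, y, -, hxy⟩ := exists_not_commute h.2
      apply hxy
      have key : ∀ z : Y, ∃ l ∈ Cfsg.lowerUnipotentSL2 F, φ l = z := by
        intro z
        obtain ⟨g, rfl⟩ := hφ z
        have hg : g ∈ ((φ.ker ⊔ Cfsg.lowerUnipotentSL2 F : Subgroup _) : Set _) := by
          rw [h1]; exact Set.mem_univ g
        rw [Subgroup.normal_mul] at hg
        obtain ⟨k, hk, l, hl, rfl⟩ := hg
        refine ⟨l, hl, ?_⟩
        rw [map_mul, MonoidHom.mem_ker.mp hk, one_mul]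
      obtain ⟨lx, hlx, rfl⟩ := key x
      obtain ⟨ly, hly, rfl⟩ := key y
      rw [← map_mul, ← map_mul, comm_of_mem hS.2.2.1 hlx hly]
    · exact h1
  by_cases hbot : φ.ker = ⊥
  · left
    have hinj : Function.Injective φ := (MonoidHom.ker_eq_bot_iff φ).mp hbot
    exact ⟨(MulEquiv.ofBijective φ ⟨hinj, hφ⟩).symm⟩
  · right
    have hKc : φ.ker = Subgroup.center (Matrix.SpecialLinearGroup (Fin 2) F) := by
      apply le_antisymm hK
      obtain ⟨x, hx, hx1⟩ : ∃ x ∈ φ.ker, x ≠ 1 := by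
        by_contra hno
        push Not at hno
        apply hbot
        rw [eq_bot_iff]
        intro x hx
        rw [Subgroup.mem_bot]
        exact hno x hx
      intro y hy
      by_cases hy1 : y = 1
      · rw [hy1]; exact one_mem _
      · rw [← center_SL2_unique (hK hx) hx1 hy hy1]
        exact hx
    exact ⟨(QuotientGroup.quotientKerEquivOfSurjective φ hφ).symm.trans
      (QuotientGroup.quotientMulEquivOfEq hKc)⟩

/-- Recognition: a special rank one group with `|A| = p ≥ 5` prime is `SL₂(p)` or `PSL₂(p)`. -/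
theorem main (h : IsRankOneGroup Y A B) (hs : IsSpecialRankOnePair A B) (hc : Nat.card A = p)
    (hp : 5 ≤ p) :
    Nonempty (Y ≃* Matrix.SpecialLinearGroup (Fin 2) (ZMod p)) ∨
      Nonempty (Y ≃* Matrix.ProjectiveSpecialLinearGroup (Fin 2) (ZMod p)) := by
  have hcB : Nat.card B = p := (card_right hs).trans hc
  have hab : HasAbelianUnipotents A B := ⟨comm_of_card hc, comm_of_card hcB⟩
  have hY : commutator Y = ⊤ := commutator_eq_top h hs hab (three_lt_encard hc hp)
  have hS := Cfsg.Agent.S5016.result (ZMod p)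
  have hcl : Nat.card (Cfsg.lowerUnipotentSL2 (ZMod p)) = p := by
    rw [card_lower, Nat.card_zmod]
  have hSL : commutator (Matrix.SpecialLinearGroup (Fin 2) (ZMod p)) = ⊤ :=
    commutator_eq_top hS.1 hS.2.1 hS.2.2 (three_lt_encard hcl hp)
  obtain ⟨ρ, hrange, hker⟩ := exists_rep h hs hc
  let τ : Matrix.SpecialLinearGroup (Fin 2) (ZMod p) →*
      (mob : Matrix.SpecialLinearGroup (Fin 2) (ZMod p) →* _).range := mob.rangeRestrict
  have hρmem : ∀ y, ρ y ∈ (mob : Matrix.SpecialLinearGroup (Fin 2) (ZMod p) →* _).range := by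
    intro y
    rw [← hrange]
    exact ⟨y, rfl⟩
  let θ : Y →* (mob : Matrix.SpecialLinearGroup (Fin 2) (ZMod p) →* _).range :=
    ρ.codRestrict _ hρmem
  have hτ : Function.Surjective τ := MonoidHom.rangeRestrict_surjective _
  have hθ : Function.Surjective θ := by
    rintro ⟨q, hq⟩
    rw [← hrange] at hq
    obtain ⟨y, rfl⟩ := hq
    exact ⟨y, rfl⟩
  have hθc : θ.ker ≤ Subgroup.center Y := by
    intro x hx
    apply hker
    rw [MonoidHom.mem_ker] at hx ⊢
    exact congrArg Subtype.val hx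
  have hprime : p.Prime := Fact.out
  have h4 : Fintype.card (ZMod p) ≠ 4 := by
    rw [ZMod.card]
    intro h4
    rw [h4] at hprime
    norm_num at hprime
  have h9 : Fintype.card (ZMod p) ≠ 9 := by
    rw [ZMod.card]
    intro h9
    rw [h9] at hprime
    norm_num at hprime
  obtain ⟨ψ, hψ⟩ := Cfsg.Agent.Lib.Helper83_SL2Lift.exists_lift_SL2 h4 h9 hSL hY θ τ hθ hτ hθc
  exact iso_of_surj_field h ψ hψ

end main

end Cfsg.Agent.Lib.Helper83_SL2Recog
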