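import Mathlib
import Cfsg.Agent.Lib.Helper83_SU3J

/-!
# Pairs of conjugate regular unipotent elements of `SU₃(5)` and `SU₃(8)` generating the group

For `q = 5` and `q = 8` the Weyl family of `Helper83_SU3Weyl` does not generate.  Here we give a
criterion (`cert_family`) in terms of one word in the two generators which is upper triangular
with a suitable diagonal, and explicit data over the fields with 25 and 64 elements.
-/

set_option autoImplicit false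
set_option linter.unusedSectionVars false
set_option linter.unusedVariables false
set_option linter.unusedSimpArgs false
set_option linter.unusedTactic false
set_option linter.unreachableTactic false
set_option linter.unnecessarySeqFocus false

namespace Cfsg.Agent.Lib.Helper83_SU3Cert

open Matrix Cfsg.Agent.Lib.Helper83_TvCalc Cfsg.Agent.Lib.Helper83_SL3Pair
  Cfsg.Agent.Lib.Helper83_SU3J

theorem m3ext {R : Type*} {a11 a12 a13 a21 a22 a23 a31 a32 a33 b11 b12 b13 b21 b22 b23 b31 b32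
    b33 : R} (h11 : a11 = b11) (h12 : a12 = b12) (h13 : a13 = b13) (h21 : a21 = b21)
    (h22 : a22 = b22) (h23 : a23 = b23) (h31 : a31 = b31) (h32 : a32 = b32) (h33 : a33 = b33) :
    (!![a11, a12, a13; a21, a22, a23; a31, a32, a33] : Matrix (Fin 3) (Fin 3) R) =
      !![b11, b12, b13; b21, b22, b23; b31, b32, b33] := by
  rw [h11, h12, h13, h21, h22, h23, h31, h32, h33]

variable {F : Type*} [Field F]

/-- conjugating `uS x y` by an upper triangular matrix -/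
theorem tri_conj_uS {σ : F →+* F} (B : SpecialLinearGroup (Fin 3) F) {t1 t2 t3 p r s κ : F}
    (hB : B.1 = !![t1, p, r; 0, t2, s; 0, 0, t3]) (ht3 : t3 ≠ 0) (hκ1 : t1 = κ * t2)
    (hκ2 : t2 = σ κ * t3) (x y : F) : ∃ y', B * uS σ x y = uS σ (κ * x) y' * B := by
  refine ⟨(t1 * y - p * σ x - κ * x * s) / t3, ?_⟩
  apply sl_ext
  rw [val_mul, val_mul, hB, uS_val, uS_val]
  ext i j
  fin_cases i <;> fin_cases j <;> simp [Matrix.mul_apply, Fin.sum_univ_three]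
  · rw [hκ1]; ring
  · field_simp; ring
  · rw [hκ2]; ring

section cert

variable [Fintype F] {σ : F →+* F}

/-- **Certificate criterion.** -/
theorem cert_family (hσ : ∀ x, σ (σ x) = x) {a b : F} (ha : a ≠ 0)
    (hab : b + σ b + a * σ a = 0) {g : SpecialLinearGroup (Fin 3) F} (hg : g ∈ SUJ σ) {c d : F}
    (hd : d ≠ 0) (hconj : g * uS σ a b * g⁻¹ = lS σ c d) {B : SpecialLinearGroup (Fin 3) F}
    (hBH : B ∈ Subgroup.closure {uS σ a b, lS σ c d}) {t1 t2 t3 p r s κ : F}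
    (hB : B.1 = !![t1, p, r; 0, t2, s; 0, 0, t3]) (hκ1 : t1 = κ * t2) (hκ2 : t2 = σ κ * t3)
    (hK : ∀ K : Subfield F, κ ∈ K → K = ⊤) {e : F} (he : e + σ e = -1) :
    ∃ u g : SpecialLinearGroup (Fin 3) F, u ∈ SUJ σ ∧ g ∈ SUJ σ ∧ (u.1 - 1) ^ 3 = 0 ∧
      (u.1 - 1) ^ 2 ≠ 0 ∧
      ∀ (x0 x1 x2 c : F), x0 * σ x2 + x1 * σ x1 + x2 * σ x0 = 0 →
        ∀ T : SpecialLinearGroup (Fin 3) F, T.1 = tvM σ x0 x1 x2 c → T ∈ SUJ σ →
          T ∈ Subgroup.closure {u, g * u * g⁻¹} := by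
  have hu_mem : uS σ a b ∈ SUJ σ := (uS_mem hσ a b).2 hab
  refine ⟨uS σ a b, g, hu_mem, hg, ?_, ?_, ?_⟩
  · rw [uS_val]
    ext i j
    fin_cases i <;> fin_cases j <;>
      simp [pow_succ, Matrix.mul_apply, Fin.sum_univ_three, Matrix.one_apply]
  · intro h
    have h1 := congrFun (congrFun h 0) 2
    rw [uS_val] at h1
    simp [pow_succ, Matrix.mul_apply, Fin.sum_univ_three, Matrix.one_apply] at h1
    exact ha h1
  intro x0 x1 x2 c' hx T hT hTU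
  rw [hconj]
  set H := Subgroup.closure {uS σ a b, lS σ c d} with hH
  have hu : uS σ a b ∈ H := Subgroup.subset_closure (by simp)
  have hv : lS σ c d ∈ H := Subgroup.subset_closure (by simp)
  have hv_mem : lS σ c d ∈ SUJ σ := by
    rw [← hconj]
    exact (SUJ σ).mul_mem ((SUJ σ).mul_mem hg hu_mem) ((SUJ σ).inv_mem hg)
  have hHU : H ≤ SUJ σ := by
    rw [hH, Subgroup.closure_le]
    intro y hy
    rcases hy with rfl | rfl
    · exact hu_mem
    · exact hv_mem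
  have ht3 : t3 ≠ 0 := by
    have h1 := B.2
    rw [hB, Matrix.det_fin_three] at h1
    simp at h1
    intro h0
    rw [h0, mul_zero] at h1
    exact zero_ne_one h1
  have hκ : ∀ x y, uS σ x y ∈ H → ∃ y', uS σ (κ * x) y' ∈ H := by
    intro x y hxy
    obtain ⟨y', hy'⟩ := tri_conj_uS (σ := σ) B hB ht3 hκ1 hκ2 x y
    refine ⟨y', ?_⟩
    have := H.mul_mem (H.mul_mem hBH hxy) (H.inv_mem hBH)
    rwa [hy', mul_inv_cancel_right] at this
  exact all_tv_mem hσ hHU ha hu hκ hK he hv (by rw [lS_val]; simpa using hd) x0 x1 x2 c' hx T hT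
    hTU

end cert

/-! ### data over the field with 25 elements (generated) -/

theorem q5_p1 {R : Type*} [CommRing R] (ε : R) (h5 : (5 : R) = 0) (hε : ε ^ 2 = 3) :
    (!![1, 0, 0; 4, 1, 0; 2 + ε, 1, 1] : Matrix (Fin 3) (Fin 3) R) *
      !![1, 0, 0; 4, 1, 0; 2 + ε, 1, 1] =
      !![1, 0, 0; 3, 1, 0; 3 + 2 * ε, 2, 1] := by
  rw [Matrix.mul_fin_three]
  apply m3ext
  · ring
  · ring
  · ring
  · linear_combination (1) * h5
  · ring
  · ring
  · linear_combination (1) * h5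
  · ring
  · ring

theorem q5_p2 {R : Type*} [CommRing R] (ε : R) (h5 : (5 : R) = 0) (hε : ε ^ 2 = 3) :
    (!![1, 0, 0; 3, 1, 0; 3 + 2 * ε, 2, 1] : Matrix (Fin 3) (Fin 3) R) *
      !![1, ε, 4 + 4 * ε; 0, 1, ε; 0, 0, 1] =
      !![1, ε, 4 + 4 * ε; 3, 1 + 3 * ε, 2 + 3 * ε; 3 + 2 * ε, 3 + 3 * ε, 2 + 2 * ε] := by
  rw [Matrix.mul_fin_three]
  apply m3ext
  · ring
  · ring
  · ring
  · ring
  · ring
  · linear_combination (2 + 2 * ε) * h5
  · ring
  · linear_combination (2) * hε + (1) * h5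
  · linear_combination (8) * hε + (7 + 4 * ε) * h5

theorem q5_p3 {R : Type*} [CommRing R] (ε : R) (h5 : (5 : R) = 0) (hε : ε ^ 2 = 3) :
    (!![1, ε, 4 + 4 * ε; 3, 1 + 3 * ε, 2 + 3 * ε; 3 + 2 * ε, 3 + 3 * ε, 2 + 2 * ε] : Matrix (Fin 3) (Fin 3) R) *
      !![1, 0, 0; 4, 1, 0; 2 + ε, 1, 1] =
      !![1 + ε, 4, 4 + 4 * ε; 0, 3 + ε, 2 + 3 * ε; 0, 0, 2 + 2 * ε] := by
  rw [Matrix.mul_fin_three]
  apply m3ext
  · linear_combination (4) * hε + (4 + 3 * ε) * h5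
  · linear_combination (ε) * h5
  · ring
  · linear_combination (3) * hε + (4 + 4 * ε) * h5
  · linear_combination (ε) * h5
  · ring
  · linear_combination (2) * hε + (5 + 4 * ε) * h5
  · linear_combination (1 + ε) * h5
  · ring

theorem q5_d0 {R : Type*} [CommRing R] (ε : R) (h5 : (5 : R) = 0) (hε : ε ^ 2 = 3) :
    (1 + 4 * ε) * (3 + 4 * ε) * (2 + 3 * ε) = 1 := by
  linear_combination (80 + 48 * ε) * hε + (49 + 37 * ε) * h5

theorem q5_d1 {R : Type*} [CommRing R] (ε : R) (h5 : (5 : R) = 0) (hε : ε ^ 2 = 3) :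
    (1 + 4 * ε) * (2 - 3 * ε) = 1 := by
  linear_combination ((-12)) * hε + ((-7) + ε) * h5

theorem q5_d2 {R : Type*} [CommRing R] (ε : R) (h5 : (5 : R) = 0) (hε : ε ^ 2 = 3) :
    (3 + 4 * ε) * (3 - 4 * ε) = 1 := by
  linear_combination ((-16)) * hε + ((-8)) * h5

theorem q5_d3 {R : Type*} [CommRing R] (ε : R) (h5 : (5 : R) = 0) (hε : ε ^ 2 = 3) :
    (2 + 3 * ε) * (1 - 4 * ε) = 1 := by
  linear_combination ((-12)) * hε + ((-7) + (-1) * ε) * h5

theorem q5_c1 {R : Type*} [CommRing R] (ε : R) (h5 : (5 : R) = 0) (hε : ε ^ 2 = 3) :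
    (1 + 4 * ε) * ε = (-1) * (3 + 4 * ε) := by
  linear_combination (4) * hε + (3 + ε) * h5

theorem q5_c2 {R : Type*} [CommRing R] (ε : R) (h5 : (5 : R) = 0) (hε : ε ^ 2 = 3) :
    (1 + 4 * ε) * (4 + 4 * ε) = (2 + 2 * ε) * (2 + 3 * ε) := by
  linear_combination (10) * hε + (6 + 2 * ε) * h5

theorem q5_c3 {R : Type*} [CommRing R] (ε : R) (h5 : (5 : R) = 0) (hε : ε ^ 2 = 3) :
    (3 + 4 * ε) * (-ε) = (-1) * (2 + 3 * ε) := by
  linear_combination ((-4)) * hε + ((-2)) * h5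

theorem q5_v1 {R : Type*} [CommRing R] (ε : R) (h5 : (5 : R) = 0) (hε : ε ^ 2 = 3) :
    (4 + 4 * ε) + (4 - 4 * ε) + ε * (-ε) = 0 := by
  linear_combination ((-1)) * hε + (1) * h5

theorem q5_v2 {R : Type*} [CommRing R] (ε : R) (h5 : (5 : R) = 0) (hε : ε ^ 2 = 3) :
    1 + 1 + (2 * ε) * (-(2 * ε)) = 0 := by
  linear_combination ((-4)) * hε + ((-2)) * h5

theorem q5_k1 {R : Type*} [CommRing R] (ε : R) (h5 : (5 : R) = 0) (hε : ε ^ 2 = 3) :
    1 + ε = (2 * ε) * (3 + ε) := by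
  linear_combination ((-2)) * hε + ((-1) + (-1) * ε) * h5

theorem q5_k2 {R : Type*} [CommRing R] (ε : R) (h5 : (5 : R) = 0) (hε : ε ^ 2 = 3) :
    3 + ε = (-(2 * ε)) * (2 + 2 * ε) := by
  linear_combination (4) * hε + (3 + ε) * h5

theorem q5_n1 {R : Type*} [CommRing R] (ε : R) (h5 : (5 : R) = 0) (hε : ε ^ 2 = 3) :
    (2 + ε) * (2 - ε) = 1 := by
  linear_combination ((-1)) * hε


section q5

variable [Fintype F] {σ : F →+* F}

theorem five_eq_zero (hF : Fintype.card F = 5 ^ 2) : (5 : F) = 0 := by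
  have h := FiniteField.cast_card_eq_zero F
  rw [hF] at h
  have h2 : (5 : F) ^ 2 = 0 := by exact_mod_cast h
  exact pow_eq_zero_iff (by norm_num) |>.1 h2

theorem exists_eps (hF : Fintype.card F = 5 ^ 2) : ∃ ε : F, ε ^ 2 = 3 := by
  have h5 := five_eq_zero hF
  have h3 : (3 : F) ≠ 0 := by
    intro h
    have : (1 : F) = 0 := by linear_combination 2 * h - h5
    exact one_ne_zero this
  have hchar : ringChar F ≠ 2 := by
    intro h
    have h2 : (2 : F) = 0 := by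
      have := ringChar.Nat.cast_ringChar (R := F)
      rw [h] at this
      exact_mod_cast this
    have : (1 : F) = 0 := by linear_combination h5 - 2 * h2
    exact one_ne_zero this
  have hsq : IsSquare (3 : F) := by
    rw [FiniteField.isSquare_iff hchar h3, hF]
    have e : (5 ^ 2 / 2 : ℕ) = 12 := by norm_num
    rw [e]
    have : (3 : F) ^ 12 = 1 + 5 * 106288 := by norm_num
    rw [this, h5]
    ring
  obtain ⟨ε, hε⟩ := hsq
  exact ⟨ε, by rw [sq]; exact hε.symm⟩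

/-- The field with 25 elements: a pair of conjugate regular unipotent elements whose group
contains all unitary transvections. -/
theorem cert5 (hF : Fintype.card F = 5 ^ 2) (hσq : ∀ x, σ x = x ^ 5) :
    ∃ u g : SpecialLinearGroup (Fin 3) F, u ∈ SUJ σ ∧ g ∈ SUJ σ ∧ (u.1 - 1) ^ 3 = 0 ∧
      (u.1 - 1) ^ 2 ≠ 0 ∧
      ∀ (x0 x1 x2 c : F), x0 * σ x2 + x1 * σ x1 + x2 * σ x0 = 0 →
        ∀ T : SpecialLinearGroup (Fin 3) F, T.1 = tvM σ x0 x1 x2 c → T ∈ SUJ σ →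
          T ∈ Subgroup.closure {u, g * u * g⁻¹} := by
  have h5 := five_eq_zero hF
  obtain ⟨ε, hε⟩ := exists_eps hF
  have hσ : ∀ x, σ (σ x) = x := by
    intro x
    rw [hσq, hσq, ← pow_mul, show 5 * 5 = 5 ^ 2 by norm_num, ← hF, FiniteField.pow_card]
  have hσε : σ ε = -ε := by
    rw [hσq]
    linear_combination (ε ^ 3 + 3 * ε) * hε + (2 * ε) * h5
  have hε0 : ε ≠ 0 := by
    rintro rfl
    have : (1 : F) = 0 := by linear_combination (-2) * hε - h5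
    exact one_ne_zero this
  -- the conjugating element
  have hd0 := q5_d0 ε h5 hε
  obtain ⟨g, hg⟩ : ∃ g : SpecialLinearGroup (Fin 3) F,
      g = wS * uS σ (2 * ε) 1 * dS (1 + 4 * ε) (3 + 4 * ε) (2 + 3 * ε) hd0 := ⟨_, rfl⟩
  have hx_mem : uS σ (2 * ε) 1 ∈ SUJ σ := by
    rw [uS_mem hσ, map_mul, map_ofNat, map_one, hσε]
    linear_combination q5_v2 ε h5 hε
  have hh_mem : dS (1 + 4 * ε) (3 + 4 * ε) (2 + 3 * ε) hd0 ∈ SUJ σ := by
    apply dS_mem
    · rw [map_add, map_mul, map_ofNat, map_ofNat, hσε]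
      linear_combination q5_d1 ε h5 hε
    · rw [map_add, map_mul, map_ofNat, map_ofNat, hσε]
      linear_combination q5_d2 ε h5 hε
    · rw [map_add, map_mul, map_one, map_ofNat, hσε]
      linear_combination q5_d3 ε h5 hε
  have hg_mem : g ∈ SUJ σ := by
    rw [hg]
    exact (SUJ σ).mul_mem ((SUJ σ).mul_mem wS_mem hx_mem) hh_mem
  have step1 : dS (1 + 4 * ε) (3 + 4 * ε) (2 + 3 * ε) hd0 * uS σ ε (4 + 4 * ε) =
      uS σ (-1) (2 + 2 * ε) * dS (1 + 4 * ε) (3 + 4 * ε) (2 + 3 * ε) hd0 := by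
    apply dS_conj_uS
    · exact q5_c1 ε h5 hε
    · exact q5_c2 ε h5 hε
    · rw [hσε, map_neg, map_one]
      exact q5_c3 ε h5 hε
  have step2 : uS σ (2 * ε) 1 * uS σ (-1) (2 + 2 * ε) = uS σ (-1) (2 + ε) * uS σ (2 * ε) 1 := by
    rw [uS_mul, uS_mul]
    congr 1
    · ring
    · rw [map_neg, map_one, map_mul, map_ofNat, hσε]
      linear_combination (ε) * h5
  have step3 : wS * uS σ (-1) (2 + ε) = lS σ 1 (2 + ε) * wS := by
    have := wS_conj_uS σ (-1) (2 + ε)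
    rw [neg_neg] at this
    rw [← this, inv_mul_cancel_right]
  have hconj : g * uS σ ε (4 + 4 * ε) * g⁻¹ = lS σ 1 (2 + ε) := by
    rw [mul_inv_eq_iff_eq_mul, hg]
    calc wS * uS σ (2 * ε) 1 * dS (1 + 4 * ε) (3 + 4 * ε) (2 + 3 * ε) hd0 * uS σ ε (4 + 4 * ε)
        = wS * uS σ (2 * ε) 1 *
            (dS (1 + 4 * ε) (3 + 4 * ε) (2 + 3 * ε) hd0 * uS σ ε (4 + 4 * ε)) := by
          simp only [mul_assoc]
      _ = wS * (uS σ (2 * ε) 1 * uS σ (-1) (2 + 2 * ε)) *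
            dS (1 + 4 * ε) (3 + 4 * ε) (2 + 3 * ε) hd0 := by
          rw [step1]; simp only [mul_assoc]
      _ = (wS * uS σ (-1) (2 + ε)) * uS σ (2 * ε) 1 *
            dS (1 + 4 * ε) (3 + 4 * ε) (2 + 3 * ε) hd0 := by
          rw [step2]; simp only [mul_assoc]
      _ = lS σ 1 (2 + ε) *
            (wS * uS σ (2 * ε) 1 * dS (1 + 4 * ε) (3 + 4 * ε) (2 + 3 * ε) hd0) := by
          rw [step3]; simp only [mul_assoc]
  -- the matrices
  have hU : (uS σ ε (4 + 4 * ε)).1 = !![1, ε, 4 + 4 * ε; 0, 1, ε; 0, 0, 1] := by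
    rw [uS_val, hσε, neg_neg]
  have hV : (lS σ 1 (2 + ε)).1 = !![1, 0, 0; 4, 1, 0; 2 + ε, 1, 1] := by
    rw [lS_val, map_one]
    apply m3ext <;> first | rfl | linear_combination (-1 : F) * h5
  -- the word
  obtain ⟨B, hBdef⟩ : ∃ B : SpecialLinearGroup (Fin 3) F,
      B = lS σ 1 (2 + ε) * lS σ 1 (2 + ε) * uS σ ε (4 + 4 * ε) * lS σ 1 (2 + ε) := ⟨_, rfl⟩
  have hB : B.1 = !![1 + ε, 4, 4 + 4 * ε; 0, 3 + ε, 2 + 3 * ε; 0, 0, 2 + 2 * ε] := by
    rw [hBdef, val_mul, val_mul, val_mul, hU, hV, q5_p1 ε h5 hε, q5_p2 ε h5 hε, q5_p3 ε h5 hε]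
  have hBH : B ∈ Subgroup.closure {uS σ ε (4 + 4 * ε), lS σ 1 (2 + ε)} := by
    have hu : uS σ ε (4 + 4 * ε) ∈ Subgroup.closure {uS σ ε (4 + 4 * ε), lS σ 1 (2 + ε)} :=
      Subgroup.subset_closure (by simp)
    have hv : lS σ 1 (2 + ε) ∈ Subgroup.closure {uS σ ε (4 + 4 * ε), lS σ 1 (2 + ε)} :=
      Subgroup.subset_closure (by simp)
    rw [hBdef]
    exact Subgroup.mul_mem _ (Subgroup.mul_mem _ (Subgroup.mul_mem _ hv hv) hu) hv
  have hab : (4 + 4 * ε) + σ (4 + 4 * ε) + ε * σ ε = 0 := by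
    rw [map_add, map_mul, map_ofNat, hσε]
    linear_combination q5_v1 ε h5 hε
  have hd : (2 + ε : F) ≠ 0 := by
    intro h
    have h1 := q5_n1 ε h5 hε
    rw [h, zero_mul] at h1
    exact zero_ne_one h1
  have hσκ : σ (2 * ε) = -(2 * ε) := by rw [map_mul, map_ofNat, hσε]; ring
  have hκ2 : (3 + ε : F) = σ (2 * ε) * (2 + 2 * ε) := by
    rw [hσκ]; exact q5_k2 ε h5 hε
  have he : (2 : F) + σ 2 = -1 := by
    rw [map_ofNat]; linear_combination h5
  refine cert_family hσ hε0 hab hg_mem hd hconj hBH hB (q5_k1 ε h5 hε) hκ2 ?_ he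
  -- the field generated by `2ε`
  intro K hK
  classical
  have hcard : Fintype.card F = Fintype.card K ^ Module.finrank K F := Module.card_eq_pow_finrank
  set r := Fintype.card K with hr
  set m := Module.finrank K F with hm
  have hr2 : 2 ≤ r := Fintype.one_lt_card
  have hmpos : 0 < m := Module.finrank_pos
  rw [hF] at hcard
  have hm6 : m ≤ 4 := by
    by_contra hcon
    push Not at hcon
    have : 2 ^ 5 ≤ r ^ m :=
      le_trans (Nat.pow_le_pow_right (by norm_num) hcon) (Nat.pow_le_pow_left hr2 m)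
    omega
  have hr25 : r ≤ 25 := by
    calc r = r ^ 1 := (pow_one r).symm
      _ ≤ r ^ m := Nat.pow_le_pow_right (by omega) hmpos
      _ = 25 := by rw [← hcard]; norm_num
  have hfix : ((2 * ε : F)) ^ r = 2 * ε := by
    have h1 := FiniteField.pow_card (⟨2 * ε, hK⟩ : K)
    have h2 := congrArg (fun x : K => (x : F)) h1
    simpa using h2
  have hne : ((2 * ε : F)) ^ 5 ≠ 2 * ε := by
    rw [← hσq, hσκ]
    intro h
    have h4 : (4 : F) * ε = 0 := by linear_combination -h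
    have : ε = 0 := by linear_combination 4 * h4 - (3 * ε) * h5
    exact hε0 this
  interval_cases m
  · -- m = 1
    rw [pow_one] at hcard
    rw [eq_top_iff]
    intro x _
    have hbij : Function.Bijective (Subtype.val : K → F) :=
      (Fintype.bijective_iff_injective_and_card _).2 ⟨Subtype.val_injective, by rw [hF, ← hr, hcard]⟩
    obtain ⟨k, hk⟩ := hbij.2 x
    rw [← hk]
    exact k.2
  · -- m = 2
    exfalso
    have : r = 5 := by
      interval_cases r <;> omega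
    rw [this] at hfix
    exact hne hfix
  · exfalso
    interval_cases r <;> omega
  · exfalso
    interval_cases r <;> omega

end q5

/-! ### data over the field with 64 elements (generated) -/

theorem q8_p1 {R : Type*} [CommRing R] (ω η : R) (h2 : (2 : R) = 0) (hω : ω ^ 2 + ω + 1 = 0)
    (hη : η ^ 3 + η + 1 = 0) :
    (!![1, 0, 0; η, 1, 0; 1 + ω * η ^ 2, η, 1] : Matrix (Fin 3) (Fin 3) R) *
      !![1, 1, 1 + η ^ 2 + ω; 0, 1, 1; 0, 0, 1] =
      !![1, 1, 1 + η ^ 2 + ω; η, 1 + η, ω * η; 1 + ω * η ^ 2, 1 + η + ω * η ^ 2, η + ω + ω * η + ω * η ^ 2] := by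
  rw [Matrix.mul_fin_three]
  apply m3ext
  · ring
  · ring
  · ring
  · ring
  · ring
  · linear_combination (1) * hη
  · ring
  · ring
  · linear_combination (η ^ 2) * hω + (ω * η) * hη + (1 + (-1) * ω * η + (-1) * ω * η ^ 2) * h2

theorem q8_p2 {R : Type*} [CommRing R] (ω η : R) (h2 : (2 : R) = 0) (hω : ω ^ 2 + ω + 1 = 0)
    (hη : η ^ 3 + η + 1 = 0) :
    (!![1, 1, 1 + η ^ 2 + ω; η, 1 + η, ω * η; 1 + ω * η ^ 2, 1 + η + ω * η ^ 2, η + ω + ω * η + ω * η ^ 2] : Matrix (Fin 3) (Fin 3) R) *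
      !![1, 0, 0; η, 1, 0; 1 + ω * η ^ 2, η, 1] =
      !![η + ω + ω * η + ω * η ^ 2, ω * η, 1 + η ^ 2 + ω; 1 + η + η ^ 2 + ω, 1 + η + ω * η ^ 2, ω * η; η ^ 2 + ω * η, 1 + η + η ^ 2 + ω, η + ω + ω * η + ω * η ^ 2] := by
  rw [Matrix.mul_fin_three]
  apply m3ext
  · linear_combination (η ^ 2) * hω + (ω * η) * hη + (1 + (-1) * ω * η + (-1) * ω * η ^ 2) * h2
  · linear_combination (1) * hη
  · ring
  · linear_combination (η ^ 3) * hω + ((-1) + (-1) * ω) * hη + (η + ω * η) * h2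
  · ring
  · ring
  · linear_combination (η ^ 2 + η ^ 3 + η ^ 4) * hω + ((-1) + (-1) * η + ω + (-1) * ω * η) * hη + (1 + 2 * η + ω * η ^ 2) * h2
  · linear_combination (ω) * hη + ((-1) * ω + ω * η ^ 2) * h2
  · ring

theorem q8_p3 {R : Type*} [CommRing R] (ω η : R) (h2 : (2 : R) = 0) (hω : ω ^ 2 + ω + 1 = 0)
    (hη : η ^ 3 + η + 1 = 0) :
    (!![η + ω + ω * η + ω * η ^ 2, ω * η, 1 + η ^ 2 + ω; 1 + η + η ^ 2 + ω, 1 + η + ω * η ^ 2, ω * η; η ^ 2 + ω * η, 1 + η + η ^ 2 + ω, η + ω + ω * η + ω * η ^ 2] : Matrix (Fin 3) (Fin 3) R) *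
      !![1 + η ^ 2 + ω * η ^ 2, ω + ω * η ^ 2, 1 + ω * η + ω * η ^ 2; 0, η ^ 2 + ω * η, η ^ 2 + ω + ω * η; 0, 0, 1 + η + ω + ω * η ^ 2] =
      !![ω * η ^ 2, η, 1; η, 1, 0; 1 + ω * η ^ 2, η, 1] := by
  rw [Matrix.mul_fin_three]
  apply m3ext
  · linear_combination (η ^ 2 + η ^ 3 + η ^ 4) * hω + ((-1) * η + ω) * hη + (η) * h2
  · linear_combination (1 + η + 3 * η ^ 2 + η ^ 3 + η ^ 4) * hω + ((-1) + (-1) * η + ω + (-1) * ω * η) * hη + ((-1) * η ^ 2 + (-1) * ω + (-1) * ω * η ^ 2) * h2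
  · linear_combination (1 + 2 * η + 4 * η ^ 2 + 2 * η ^ 3 + η ^ 4) * hω + ((-1) + (-1) * η) * hη + (η + (-1) * η ^ 2 + ω) * h2
  · linear_combination (η ^ 2) * hω + (1 + η + ω + ω * η) * hη + ((-1) * η + (-1) * ω * η) * h2
  · linear_combination (1 + η ^ 2 + η ^ 3) * hω + (2 * ω * η) * hη + ((-1)) * h2
  · linear_combination (2 * η + 2 * η ^ 2 + 2 * η ^ 3) * hω + ((-1) + 2 * ω * η) * hη + (1 + ω) * h2
  · linear_combination (η ^ 3) * hω + ((-1) + η + ω * η) * hη + ((-1) * ω * η ^ 2) * h2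
  · linear_combination (2 * η + η ^ 3) * hω + (η + ω * η) * hη + ((-2) * η + (-1) * ω * η + ω * η ^ 2) * h2
  · linear_combination (2 + 2 * η + 3 * η ^ 2 + 2 * η ^ 3 + η ^ 4) * hω + ((-1) + 2 * ω) * hη + ((-1) + (-1) * ω + ω * η + ω * η ^ 2) * h2

theorem q8_p4 {R : Type*} [CommRing R] (ω η : R) (h2 : (2 : R) = 0) (hω : ω ^ 2 + ω + 1 = 0)
    (hη : η ^ 3 + η + 1 = 0) :
    (!![1, 1, 1 + η ^ 2 + ω; 0, 1, 1; 0, 0, 1] : Matrix (Fin 3) (Fin 3) R) *
      !![1, 1, 1 + η ^ 2 + ω; 0, 1, 1; 0, 0, 1] =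
      !![1, 0, 1; 0, 1, 0; 0, 0, 1] := by
  rw [Matrix.mul_fin_three]
  apply m3ext
  · ring
  · linear_combination (1) * h2
  · linear_combination (1 + η ^ 2 + ω) * h2
  · ring
  · ring
  · linear_combination (1) * h2
  · ring
  · ring
  · ring

theorem q8_p5 {R : Type*} [CommRing R] (ω η : R) (h2 : (2 : R) = 0) (hω : ω ^ 2 + ω + 1 = 0)
    (hη : η ^ 3 + η + 1 = 0) :
    (!![1, 0, 1; 0, 1, 0; 0, 0, 1] : Matrix (Fin 3) (Fin 3) R) *
      !![1, 0, 0; η, 1, 0; 1 + ω * η ^ 2, η, 1] =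
      !![ω * η ^ 2, η, 1; η, 1, 0; 1 + ω * η ^ 2, η, 1] := by
  rw [Matrix.mul_fin_three]
  apply m3ext
  · linear_combination (1) * h2
  · ring
  · ring
  · ring
  · ring
  · ring
  · ring
  · ring
  · ring

theorem q8_k1 {R : Type*} [CommRing R] (ω η : R) (h2 : (2 : R) = 0) (hω : ω ^ 2 + ω + 1 = 0)
    (hη : η ^ 3 + η + 1 = 0) :
    (ω + ω * η + ω * η ^ 2) * (η ^ 2 + ω * η) = 1 + η ^ 2 + ω * η ^ 2 := by
  linear_combination (η + η ^ 2 + η ^ 3) * hω + ((-1) + ω * η) * hη + ((-1) * η ^ 2 + (-1) * ω * η + (-1) * ω * η ^ 2) * h2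

theorem q8_k2 {R : Type*} [CommRing R] (ω η : R) (h2 : (2 : R) = 0) (hω : ω ^ 2 + ω + 1 = 0)
    (hη : η ^ 3 + η + 1 = 0) :
    (1 + η + η ^ 2 + ω + ω * η + ω * η ^ 2) * (1 + η + ω + ω * η ^ 2) = η ^ 2 + ω * η := by
  linear_combination (1 + η + 2 * η ^ 2 + η ^ 3 + η ^ 4) * hω + ((-1) * η + ω) * hη + (η + ω * η ^ 2) * h2

theorem q8_k3 {R : Type*} [CommRing R] (ω η : R) (h2 : (2 : R) = 0) (hω : ω ^ 2 + ω + 1 = 0)
    (hη : η ^ 3 + η + 1 = 0) :
    (ω + ω * η + ω * η ^ 2) * (ω + ω * η + ω * η ^ 2) = 1 + η + ω + ω * η := by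
  linear_combination (1 + 2 * η + 3 * η ^ 2 + 2 * η ^ 3 + η ^ 4) * hω + ((-2) + (-1) * η + (-2) * ω + (-1) * ω * η) * hη + ((-1) * η ^ 2 + (-1) * ω * η ^ 2) * h2

theorem q8_k4 {R : Type*} [CommRing R] (ω η : R) (h2 : (2 : R) = 0) (hω : ω ^ 2 + ω + 1 = 0)
    (hη : η ^ 3 + η + 1 = 0) :
    (1 + η + ω + ω * η) * (1 + η + ω + ω * η) = ω + ω * η ^ 2 := by
  linear_combination (1 + 2 * η + η ^ 2) * hω + (ω * η) * h2

theorem q8_s1 {R : Type*} [CommRing R] (ω η : R) (h2 : (2 : R) = 0) (hω : ω ^ 2 + ω + 1 = 0)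
    (hη : η ^ 3 + η + 1 = 0) :
    η ^ 2 * (1 + η ^ 2 + ω + η) = 1 + ω * η ^ 2 := by
  linear_combination (1 + η) * hη + ((-1) + (-1) * η) * h2


theorem q8_w8 {R : Type*} [CommRing R] (ω η : R) (h2 : (2 : R) = 0) (hω : ω ^ 2 + ω + 1 = 0)
    (hη : η ^ 3 + η + 1 = 0) :
    ω ^ 8 = ω + 1 := by
  linear_combination (1 + (-1) * ω ^ 2 + ω ^ 3 + (-1) * ω ^ 5 + ω ^ 6) * hω + ((-1) + (-1) * ω) * h2

theorem q8_e8 {R : Type*} [CommRing R] (ω η : R) (h2 : (2 : R) = 0) (hω : ω ^ 2 + ω + 1 = 0)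
    (hη : η ^ 3 + η + 1 = 0) :
    η ^ 8 = η := by
  linear_combination (2 + η + (-1) * η ^ 2 + (-1) * η ^ 3 + η ^ 5) * hη + ((-1) + (-2) * η) * h2

theorem q8_v1 {R : Type*} [CommRing R] (ω η : R) (h2 : (2 : R) = 0) (hω : ω ^ 2 + ω + 1 = 0)
    (hη : η ^ 3 + η + 1 = 0) :
    (1 + η ^ 2 + ω) + (1 + η ^ 2 + (ω + 1)) + 1 * 1 = 0 := by
  linear_combination (2 + η ^ 2 + ω) * h2

theorem q8_v2 {R : Type*} [CommRing R] (ω η : R) (h2 : (2 : R) = 0) (hω : ω ^ 2 + ω + 1 = 0)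
    (hη : η ^ 3 + η + 1 = 0) :
    η ^ 2 * ω + η ^ 2 * (ω + 1) + (η * ω) * (η * (ω + 1)) = 0 := by
  linear_combination (η ^ 2) * hω + (ω * η ^ 2) * h2

theorem q8_i1 {R : Type*} [CommRing R] (ω η : R) (h2 : (2 : R) = 0) (hω : ω ^ 2 + ω + 1 = 0)
    (hη : η ^ 3 + η + 1 = 0) :
    η * (η ^ 2 + 1) = 1 := by
  linear_combination (1) * hη + ((-1)) * h2

theorem q8_c2 {R : Type*} [CommRing R] (ω η : R) (h2 : (2 : R) = 0) (hω : ω ^ 2 + ω + 1 = 0)
    (hη : η ^ 3 + η + 1 = 0) :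
    η * (1 + η ^ 2 + ω + η) = (1 + ω * η ^ 2) * (η ^ 2 + 1) := by
  linear_combination (1 + (-1) * ω * η) * hη + ((-1) + ω * η) * h2

theorem q8_n1 {R : Type*} [CommRing R] (ω η : R) (h2 : (2 : R) = 0) (hω : ω ^ 2 + ω + 1 = 0)
    (hη : η ^ 3 + η + 1 = 0) :
    (1 + ω * η ^ 2) * (1 + η + ω + ω * η ^ 2) = 1 := by
  linear_combination (η ^ 2 + η ^ 4) * hω + ((-1) * η + ω + (-1) * ω * η) * hη + (η + ω * η ^ 2) * h2


section q8

variable [Fintype F] {σ : F →+* F}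

theorem two_eq_zero (hF : Fintype.card F = 8 ^ 2) : (2 : F) = 0 := by
  have h := FiniteField.cast_card_eq_zero F
  rw [hF] at h
  have h2 : (2 : F) ^ 6 = 0 := by
    have : ((8 ^ 2 : ℕ) : F) = (2 : F) ^ 6 := by norm_num
    rw [← this]; exact h
  exact pow_eq_zero_iff (by norm_num) |>.1 h2

theorem exists_omega_eta (hF : Fintype.card F = 8 ^ 2) :
    ∃ ω η : F, ω ^ 2 + ω + 1 = 0 ∧ η ^ 3 + η + 1 = 0 := by
  classical
  have h2 := two_eq_zero hF
  obtain ⟨g, hg⟩ := IsCyclic.exists_generator (α := Fˣ)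
  have hord : orderOf g = 63 := by
    rw [orderOf_eq_card_of_forall_mem_zpowers hg, Nat.card_eq_fintype_card, Fintype.card_units, hF]
    norm_num
  have hg63 : (g : F) ^ 63 = 1 := by
    have h1 := pow_orderOf_eq_one g
    rw [hord] at h1
    have h3 := congrArg Units.val h1
    simpa using h3
  have hne : ∀ k : ℕ, 0 < k → k < 63 → (g : F) ^ k ≠ 1 := by
    intro k hk0 hk h
    have h1 : g ^ k = 1 := by
      apply Units.ext
      simpa using h
    have := orderOf_dvd_of_pow_eq_one h1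
    rw [hord] at this
    have := Nat.le_of_dvd hk0 this
    omega
  -- ω
  have hω : ((g : F) ^ 21) ^ 2 + (g : F) ^ 21 + 1 = 0 := by
    have h3 : ((g : F) ^ 21 - 1) * (((g : F) ^ 21) ^ 2 + (g : F) ^ 21 + 1) = 0 := by
      have : ((g : F) ^ 21 - 1) * (((g : F) ^ 21) ^ 2 + (g : F) ^ 21 + 1) = (g : F) ^ 63 - 1 := by
        ring
      rw [this, hg63, sub_self]
    rcases mul_eq_zero.1 h3 with h | h
    · exact absurd (sub_eq_zero.1 h) (hne 21 (by norm_num) (by norm_num))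
    · exact h
  refine ⟨(g : F) ^ 21, ?_⟩
  -- η
  set y : F := (g : F) ^ 9 with hy
  have hy7 : y ^ 7 = 1 := by rw [hy, ← pow_mul]; exact hg63
  have hy1 : y ≠ 1 := hne 9 (by norm_num) (by norm_num)
  have hy0 : y ≠ 0 := by
    intro h
    rw [h] at hy7
    norm_num at hy7
  have h3 : (y - 1) * ((y ^ 3 + y + 1) * (y ^ 3 + y ^ 2 + 1)) = 0 := by
    linear_combination hy7 + (y ^ 3 * (y - 1)) * h2
  rcases mul_eq_zero.1 h3 with h | h
  · exact absurd (sub_eq_zero.1 h) hy1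
  rcases mul_eq_zero.1 h with h | h
  · exact ⟨y, hω, h⟩
  · refine ⟨y⁻¹, hω, ?_⟩
    have : y⁻¹ ^ 3 + y⁻¹ + 1 = y⁻¹ ^ 3 * (y ^ 3 + y ^ 2 + 1) := by
      field_simp
      ring
    rw [this, h, mul_zero]

/-- The field with 64 elements: a pair of conjugate regular unipotent elements whose group
contains all unitary transvections. -/
theorem cert8 (hF : Fintype.card F = 8 ^ 2) (hσq : ∀ x, σ x = x ^ 8) :
    ∃ u g : SpecialLinearGroup (Fin 3) F, u ∈ SUJ σ ∧ g ∈ SUJ σ ∧ (u.1 - 1) ^ 3 = 0 ∧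
      (u.1 - 1) ^ 2 ≠ 0 ∧
      ∀ (x0 x1 x2 c : F), x0 * σ x2 + x1 * σ x1 + x2 * σ x0 = 0 →
        ∀ T : SpecialLinearGroup (Fin 3) F, T.1 = tvM σ x0 x1 x2 c → T ∈ SUJ σ →
          T ∈ Subgroup.closure {u, g * u * g⁻¹} := by
  have h2 := two_eq_zero hF
  obtain ⟨ω, η, hω, hη⟩ := exists_omega_eta hF
  have hσ : ∀ x, σ (σ x) = x := by
    intro x
    rw [hσq, hσq, ← pow_mul, show 8 * 8 = 8 ^ 2 by norm_num, ← hF, FiniteField.pow_card]
  have hσω : σ ω = ω + 1 := by rw [hσq]; exact q8_w8 ω η h2 hω hη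
  have hση : σ η = η := by rw [hσq]; exact q8_e8 ω η h2 hω hη
  have hη0 : η ≠ 0 := by
    rintro rfl
    have : (1 : F) = 0 := by linear_combination hη
    exact one_ne_zero this
  have hω0 : ω ≠ 0 := by
    rintro rfl
    have : (1 : F) = 0 := by linear_combination hω
    exact one_ne_zero this
  have hneg : ∀ x : F, -x = x := by
    intro x
    linear_combination (-x) * h2
  -- the conjugating element
  have hi1 : η * 1 * (η ^ 2 + 1) = 1 := by rw [mul_one]; exact q8_i1 ω η h2 hω hη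
  obtain ⟨g, hg⟩ : ∃ g : SpecialLinearGroup (Fin 3) F,
      g = wS * dS η 1 (η ^ 2 + 1) hi1 * uS σ (η * ω) (η ^ 2 * ω) := ⟨_, rfl⟩
  have hx_mem : uS σ (η * ω) (η ^ 2 * ω) ∈ SUJ σ := by
    rw [uS_mem hσ, map_mul, map_mul, map_pow, hσω, hση]
    exact q8_v2 ω η h2 hω hη
  have hh_mem : dS η 1 (η ^ 2 + 1) hi1 ∈ SUJ σ := by
    apply dS_mem
    · rw [map_add, map_pow, map_one, hση]; exact q8_i1 ω η h2 hω hη
    · rw [map_one, mul_one]
    · rw [hση, mul_comm]; exact q8_i1 ω η h2 hω hη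
  have hg_mem : g ∈ SUJ σ := by
    rw [hg]
    exact (SUJ σ).mul_mem ((SUJ σ).mul_mem wS_mem hh_mem) hx_mem
  have stepA : uS σ (η * ω) (η ^ 2 * ω) * uS σ 1 (1 + η ^ 2 + ω) =
      uS σ 1 (1 + η ^ 2 + ω + η) * uS σ (η * ω) (η ^ 2 * ω) := by
    rw [uS_mul, uS_mul]
    congr 1
    · ring
    · rw [map_one, map_mul, hσω, hση]
      ring
  have stepB : dS η 1 (η ^ 2 + 1) hi1 * uS σ 1 (1 + η ^ 2 + ω + η) =
      uS σ η (1 + ω * η ^ 2) * dS η 1 (η ^ 2 + 1) hi1 := by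
    apply dS_conj_uS
    · ring
    · exact q8_c2 ω η h2 hω hη
    · rw [map_one, hση, one_mul]; exact (q8_i1 ω η h2 hω hη).symm
  have stepC : wS * uS σ η (1 + ω * η ^ 2) = lS σ η (1 + ω * η ^ 2) * wS := by
    have := wS_conj_uS σ η (1 + ω * η ^ 2)
    rw [hneg] at this
    rw [← this, inv_mul_cancel_right]
  have hconj : g * uS σ 1 (1 + η ^ 2 + ω) * g⁻¹ = lS σ η (1 + ω * η ^ 2) := by
    rw [mul_inv_eq_iff_eq_mul, hg]
    calc wS * dS η 1 (η ^ 2 + 1) hi1 * uS σ (η * ω) (η ^ 2 * ω) * uS σ 1 (1 + η ^ 2 + ω)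
        = wS * dS η 1 (η ^ 2 + 1) hi1 *
            (uS σ (η * ω) (η ^ 2 * ω) * uS σ 1 (1 + η ^ 2 + ω)) := by
          simp only [mul_assoc]
      _ = wS * (dS η 1 (η ^ 2 + 1) hi1 * uS σ 1 (1 + η ^ 2 + ω + η)) *
            uS σ (η * ω) (η ^ 2 * ω) := by
          rw [stepA]; simp only [mul_assoc]
      _ = (wS * uS σ η (1 + ω * η ^ 2)) * dS η 1 (η ^ 2 + 1) hi1 *
            uS σ (η * ω) (η ^ 2 * ω) := by
          rw [stepB]; simp only [mul_assoc]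
      _ = lS σ η (1 + ω * η ^ 2) *
            (wS * dS η 1 (η ^ 2 + 1) hi1 * uS σ (η * ω) (η ^ 2 * ω)) := by
          rw [stepC]; simp only [mul_assoc]
  -- the matrices
  have hU : (uS σ 1 (1 + η ^ 2 + ω)).1 = !![1, 1, 1 + η ^ 2 + ω; 0, 1, 1; 0, 0, 1] := by
    rw [uS_val, map_one, hneg]
  have hV : (lS σ η (1 + ω * η ^ 2)).1 = !![1, 0, 0; η, 1, 0; 1 + ω * η ^ 2, η, 1] := by
    rw [lS_val, hση, hneg]
  -- the word
  obtain ⟨B, hBdef⟩ : ∃ B : SpecialLinearGroup (Fin 3) F,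
      B = (lS σ η (1 + ω * η ^ 2) * uS σ 1 (1 + η ^ 2 + ω) * lS σ η (1 + ω * η ^ 2))⁻¹ *
        (uS σ 1 (1 + η ^ 2 + ω) * uS σ 1 (1 + η ^ 2 + ω) * lS σ η (1 + ω * η ^ 2)) := ⟨_, rfl⟩
  have hB : B.1 = !![1 + η ^ 2 + ω * η ^ 2, ω + ω * η ^ 2, 1 + ω * η + ω * η ^ 2;
      0, η ^ 2 + ω * η, η ^ 2 + ω + ω * η; 0, 0, 1 + η + ω + ω * η ^ 2] := by
    have e1 : (lS σ η (1 + ω * η ^ 2) * uS σ 1 (1 + η ^ 2 + ω) * lS σ η (1 + ω * η ^ 2)).1 * B.1 =
        (uS σ 1 (1 + η ^ 2 + ω) * uS σ 1 (1 + η ^ 2 + ω) * lS σ η (1 + ω * η ^ 2)).1 := by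
      rw [← val_mul, hBdef, mul_inv_cancel_left]
    have e2 : (lS σ η (1 + ω * η ^ 2) * uS σ 1 (1 + η ^ 2 + ω) * lS σ η (1 + ω * η ^ 2)).1 *
        !![1 + η ^ 2 + ω * η ^ 2, ω + ω * η ^ 2, 1 + ω * η + ω * η ^ 2;
          0, η ^ 2 + ω * η, η ^ 2 + ω + ω * η; 0, 0, 1 + η + ω + ω * η ^ 2] =
        (uS σ 1 (1 + η ^ 2 + ω) * uS σ 1 (1 + η ^ 2 + ω) * lS σ η (1 + ω * η ^ 2)).1 := by
      rw [val_mul, val_mul, val_mul, val_mul, hU, hV, q8_p1 ω η h2 hω hη, q8_p2 ω η h2 hω hη,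
        q8_p3 ω η h2 hω hη, q8_p4 ω η h2 hω hη, q8_p5 ω η h2 hω hη]
    have e3 := congrArg (fun M => ((lS σ η (1 + ω * η ^ 2) * uS σ 1 (1 + η ^ 2 + ω) *
      lS σ η (1 + ω * η ^ 2))⁻¹).1 * M) (e1.trans e2.symm)
    simp only [← Matrix.mul_assoc, val_inv_mul, Matrix.one_mul] at e3
    exact e3
  have hBH : B ∈ Subgroup.closure {uS σ 1 (1 + η ^ 2 + ω), lS σ η (1 + ω * η ^ 2)} := by
    have hu : uS σ 1 (1 + η ^ 2 + ω) ∈
        Subgroup.closure {uS σ 1 (1 + η ^ 2 + ω), lS σ η (1 + ω * η ^ 2)} :=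
      Subgroup.subset_closure (by simp)
    have hv : lS σ η (1 + ω * η ^ 2) ∈
        Subgroup.closure {uS σ 1 (1 + η ^ 2 + ω), lS σ η (1 + ω * η ^ 2)} :=
      Subgroup.subset_closure (by simp)
    rw [hBdef]
    exact Subgroup.mul_mem _ (Subgroup.inv_mem _ (Subgroup.mul_mem _ (Subgroup.mul_mem _ hv hu) hv))
      (Subgroup.mul_mem _ (Subgroup.mul_mem _ hu hu) hv)
  have hab : (1 + η ^ 2 + ω) + σ (1 + η ^ 2 + ω) + 1 * σ 1 = 0 := by
    rw [map_add, map_add, map_pow, map_one, hσω, hση]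
    exact q8_v1 ω η h2 hω hη
  have hd : (1 + ω * η ^ 2 : F) ≠ 0 := by
    intro h
    have h1 := q8_n1 ω η h2 hω hη
    rw [h, zero_mul] at h1
    exact zero_ne_one h1
  have hσκ : σ (ω + ω * η + ω * η ^ 2) = 1 + η + η ^ 2 + ω + ω * η + ω * η ^ 2 := by
    rw [map_add, map_add, map_mul, map_mul, map_pow, hσω, hση]
    ring
  have hκ2 : (η ^ 2 + ω * η : F) = σ (ω + ω * η + ω * η ^ 2) * (1 + η + ω + ω * η ^ 2) := by
    rw [hσκ]; exact (q8_k2 ω η h2 hω hη).symm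
  have he : ω + σ ω = -1 := by
    rw [hσω]; linear_combination (ω + 1) * h2
  refine cert_family hσ one_ne_zero hab hg_mem hd hconj hBH hB (q8_k1 ω η h2 hω hη).symm hκ2 ?_ he
  -- the field generated by `κ`
  intro K hK
  classical
  have hcard : Fintype.card F = Fintype.card K ^ Module.finrank K F := Module.card_eq_pow_finrank
  set r := Fintype.card K with hr
  set m := Module.finrank K F with hm
  have hr2 : 2 ≤ r := Fintype.one_lt_card
  have hmpos : 0 < m := Module.finrank_pos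
  rw [hF] at hcard
  have hm6 : m ≤ 6 := by
    by_contra hcon
    push Not at hcon
    have : 2 ^ 7 ≤ r ^ m :=
      le_trans (Nat.pow_le_pow_right (by norm_num) hcon) (Nat.pow_le_pow_left hr2 m)
    omega
  have hr64 : r ≤ 64 := by
    calc r = r ^ 1 := (pow_one r).symm
      _ ≤ r ^ m := Nat.pow_le_pow_right (by omega) hmpos
      _ = 64 := by rw [← hcard]; norm_num
  have hfix : ((ω + ω * η + ω * η ^ 2 : F)) ^ r = ω + ω * η + ω * η ^ 2 := by
    have h1 := FiniteField.pow_card (⟨ω + ω * η + ω * η ^ 2, hK⟩ : K)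
    have h2 := congrArg (fun x : K => (x : F)) h1
    simpa using h2
  -- κ^8 ≠ κ
  have hne8 : ((ω + ω * η + ω * η ^ 2 : F)) ^ 8 ≠ ω + ω * η + ω * η ^ 2 := by
    rw [← hσq, hσκ]
    intro h
    have h3 : (η ^ 2 + η + 1 : F) = 0 := by linear_combination h
    have : (1 : F) = 0 := by
      linear_combination (η ^ 2 + 2 * η + 2) * h3 - (η + 1) * hη - (η ^ 3 + 2 * η ^ 2 + η) * h2
    exact one_ne_zero this
  -- κ^4 ≠ κ
  have hk4 : ((ω + ω * η + ω * η ^ 2 : F)) ^ 4 = ω + ω * η ^ 2 := by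
    have e1 := q8_k3 ω η h2 hω hη
    have e2 := q8_k4 ω η h2 hω hη
    calc ((ω + ω * η + ω * η ^ 2 : F)) ^ 4
        = ((ω + ω * η + ω * η ^ 2) * (ω + ω * η + ω * η ^ 2)) *
          ((ω + ω * η + ω * η ^ 2) * (ω + ω * η + ω * η ^ 2)) := by ring
      _ = ω + ω * η ^ 2 := by rw [e1, e2]
  have hne4 : ((ω + ω * η + ω * η ^ 2 : F)) ^ 4 ≠ ω + ω * η + ω * η ^ 2 := by
    rw [hk4]
    intro h
    have h3 : ω * η = 0 := by linear_combination -h
    rcases mul_eq_zero.1 h3 with h | h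
    · exact hω0 h
    · exact hη0 h
  have hne2 : ((ω + ω * η + ω * η ^ 2 : F)) ^ 2 ≠ ω + ω * η + ω * η ^ 2 := by
    intro h
    apply hne4
    calc ((ω + ω * η + ω * η ^ 2 : F)) ^ 4 = (((ω + ω * η + ω * η ^ 2 : F)) ^ 2) ^ 2 := by ring
      _ = ω + ω * η + ω * η ^ 2 := by rw [h, h]
  interval_cases m
  · -- m = 1
    rw [pow_one] at hcard
    rw [eq_top_iff]
    intro x _
    have hbij : Function.Bijective (Subtype.val : K → F) :=
      (Fintype.bijective_iff_injective_and_card _).2 ⟨Subtype.val_injective, by rw [hF, ← hr, hcard]⟩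
    obtain ⟨k, hk⟩ := hbij.2 x
    rw [← hk]
    exact k.2
  · exfalso
    have : r = 8 := by
      interval_cases r <;> omega
    rw [this] at hfix
    exact hne8 hfix
  · exfalso
    have : r = 4 := by
      interval_cases r <;> omega
    rw [this] at hfix
    exact hne4 hfix
  · exfalso
    interval_cases r <;> omega
  · exfalso
    interval_cases r <;> omega
  · exfalso
    have : r = 2 := by
      interval_cases r <;> omega
    rw [this] at hfix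
    exact hne2 hfix

end q8

end Cfsg.Agent.Lib.Helper83_SU3Cert
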