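import Mathlib
import Cfsg.Agent.Lib.Helper83_SU3J

/-!
# The Weyl family of pairs of conjugate regular unipotent elements of `SU₃`

For `d` with `d + σ d = -1` the regular unipotent element `û = uS a b`, `a = -1/(d σ d)`,
`b = (2d-1)/d²`, and the monomial element `n` (`e₁ ↦ d e₃`, `e₃ ↦ (σ d)⁻¹ e₁`) are such that `û n` is
conjugate to `û`.  The group generated by `û` and `û n` contains `n² = diag(ζ, ζ⁻², ζ)`,
`ζ = d / σ d`, hence contains all unitary transvections as soon as `ζ³` generates the field.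
-/

set_option autoImplicit false
set_option linter.unusedSectionVars false
set_option linter.unusedVariables false
set_option linter.unusedSimpArgs false
set_option linter.unusedTactic false
set_option linter.unreachableTactic false
set_option linter.unnecessarySeqFocus false

namespace Cfsg.Agent.Lib.Helper83_SU3Weyl

open Matrix Cfsg.Agent.Lib.Helper83_TvCalc Cfsg.Agent.Lib.Helper83_SL3Pair
  Cfsg.Agent.Lib.Helper83_SU3J

variable {F : Type*} [Field F]

/-- the monomial element `e₁ ↦ d e₃`, `e₂ ↦ -(D/d) e₂`, `e₃ ↦ D⁻¹ e₁` -/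
def nS (d D : F) (hd : d ≠ 0) (hD : D ≠ 0) : SpecialLinearGroup (Fin 3) F :=
  ⟨!![0, 0, D⁻¹; 0, -(D / d), 0; d, 0, 0], by
    simp [Matrix.det_fin_three]
    field_simp⟩

theorem nS_val (d D : F) (hd : d ≠ 0) (hD : D ≠ 0) :
    (nS d D hd hD).1 = !![0, 0, D⁻¹; 0, -(D / d), 0; d, 0, 0] := rfl

theorem nS_mem {σ : F →+* F} (hσ : ∀ x, σ (σ x) = x) (d : F) (hd : d ≠ 0) (hD : σ d ≠ 0) :
    nS d (σ d) hd hD ∈ SUJ σ := by
  rw [mem_SUJ, nS_val]
  ext i j
  fin_cases i <;> fin_cases j <;>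
    simp [Matrix.mul_apply, Fin.sum_univ_three, J3, hσ, map_inv₀, map_div₀]
  · field_simp
  · field_simp
  · field_simp

theorem nS_sq (d D : F) (hd : d ≠ 0) (hD : D ≠ 0) :
    nS d D hd hD * nS d D hd hD =
      dS (d / D) ((D / d) ^ 2) (d / D) (by field_simp) := by
  apply sl_ext
  rw [val_mul, nS_val, dS_val]
  ext i j
  fin_cases i <;> fin_cases j <;> simp [Matrix.mul_apply, Fin.sum_univ_three] <;> field_simp


theorem uS_sub_one_cube (σ : F →+* F) (a b : F) : ((uS σ a b).1 - 1) ^ 3 = 0 := by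
  rw [uS_val]
  ext i j
  fin_cases i <;> fin_cases j <;>
    simp [pow_succ, Matrix.mul_apply, Fin.sum_univ_three, Matrix.one_apply]

theorem uS_sub_one_sq (σ : F →+* F) {a : F} (ha : a ≠ 0) (b : F) : ((uS σ a b).1 - 1) ^ 2 ≠ 0 := by
  intro h
  have h1 := congrFun (congrFun h 0) 2
  rw [uS_val] at h1
  simp [pow_succ, Matrix.mul_apply, Fin.sum_univ_three, Matrix.one_apply] at h1
  exact ha h1

section family

variable [Fintype F] {σ : F →+* F}

/-- The Weyl family: if `d + σ d = -1` and the cube of `d / σ d` generates the field, there are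
conjugate regular unipotent elements `u`, `g u g⁻¹` of `SUJ σ` generating a group which contains
all unitary transvections. -/
theorem weyl_family (hσ : ∀ x, σ (σ x) = x) (d : F) (hd : d + σ d = -1) (hd0 : d ≠ 0)
    (hD0 : σ d ≠ 0) (hK : ∀ K : Subfield F, (d / σ d) ^ 3 ∈ K → K = ⊤) :
    ∃ u g : SpecialLinearGroup (Fin 3) F, u ∈ SUJ σ ∧ g ∈ SUJ σ ∧ (u.1 - 1) ^ 3 = 0 ∧
      (u.1 - 1) ^ 2 ≠ 0 ∧
      ∀ (x0 x1 x2 c : F), x0 * σ x2 + x1 * σ x1 + x2 * σ x0 = 0 →
        ∀ T : SpecialLinearGroup (Fin 3) F, T.1 = tvM σ x0 x1 x2 c → T ∈ SUJ σ →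
          T ∈ Subgroup.closure {u, g * u * g⁻¹} := by
  have hD : σ d = -1 - d := by linear_combination hd
  have h1d : -1 - d ≠ 0 := by rw [← hD]; exact hD0
  have hσD : σ (-1 - d) = d := by rw [← hD, hσ]
  obtain ⟨N, hN⟩ : ∃ N : F, N = d * (-1 - d) := ⟨_, rfl⟩
  have hN0 : N ≠ 0 := by rw [hN]; exact mul_ne_zero hd0 h1d
  have hσN : σ N = N := by rw [hN, map_mul, hσD, hD]; ring
  obtain ⟨a, ha⟩ : ∃ a : F, a = -N⁻¹ := ⟨_, rfl⟩
  have ha0 : a ≠ 0 := by rw [ha]; exact neg_ne_zero.2 (inv_ne_zero hN0)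
  have hσa : σ a = a := by rw [ha, map_neg, map_inv₀, hσN]
  obtain ⟨b, hb⟩ : ∃ b : F, b = (2 * d - 1) / d ^ 2 := ⟨_, rfl⟩
  have hσb : σ b = (2 * (-1 - d) - 1) / (-1 - d) ^ 2 := by
    rw [hb, map_div₀, map_pow, map_sub, map_mul, map_ofNat, map_one, hD]
  -- the elements
  have hu_mem : uS σ a b ∈ SUJ σ := by
    rw [uS_mem hσ, hσa, hσb, hb, ha, hN]
    field_simp
    ring
  have hx_mem : uS σ (1 / d) (1 / d) ∈ SUJ σ := by
    rw [uS_mem hσ, map_div₀, map_one, hD]
    field_simp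
    ring
  obtain ⟨xp, hxp⟩ : ∃ xp : F, xp = (N + 1) * d := ⟨_, rfl⟩
  obtain ⟨yp, hyp⟩ : ∃ yp : F, yp = (N + 1) ^ 2 * N * d := ⟨_, rfl⟩
  have hσxp : σ xp = (N + 1) * (-1 - d) := by
    rw [hxp, map_mul, map_add, map_one, hσN, hD]
  have hσyp : σ yp = (N + 1) ^ 2 * N * (-1 - d) := by
    rw [hyp, map_mul, map_mul, map_pow, map_add, map_one, hσN, hD]
  have hxp_mem : uS σ xp yp ∈ SUJ σ := by
    rw [uS_mem hσ, hσxp, hσyp, hxp, hyp, hN]
    ring
  have hh1 : N * 1 * N⁻¹ = 1 := by field_simp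
  have hh_mem : dS N 1 N⁻¹ hh1 ∈ SUJ σ := by
    apply dS_mem
    · rw [map_inv₀, hσN]; field_simp
    · rw [map_one, mul_one]
    · rw [hσN]; field_simp
  obtain ⟨g, hg⟩ : ∃ g : SpecialLinearGroup (Fin 3) F,
      g = uS σ (1 / d) (1 / d) * wS * uS σ xp yp * dS N 1 N⁻¹ hh1 := ⟨_, rfl⟩
  have hg_mem : g ∈ SUJ σ := by
    rw [hg]
    exact (SUJ σ).mul_mem ((SUJ σ).mul_mem ((SUJ σ).mul_mem hx_mem wS_mem) hxp_mem) hh_mem
  -- the conjugation
  have step1 : dS N 1 N⁻¹ hh1 * uS σ a b = uS σ (-1) (N ^ 2 * b) * dS N 1 N⁻¹ hh1 := by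
    apply dS_conj_uS
    · rw [ha]; field_simp
    · field_simp
    · rw [hσa, map_neg, map_one, ha]; ring
  have step2 : uS σ xp yp * uS σ (-1) (N ^ 2 * b) = uS σ (-1) d * uS σ xp yp := by
    rw [uS_mul, uS_mul]
    congr 1
    · ring
    · rw [map_neg, map_one, hσxp, hxp, hyp, hb, hN]
      field_simp
      ring
  have step3 : wS * uS σ (-1) d = lS σ 1 d * wS := by
    have := wS_conj_uS σ (-1) d
    rw [neg_neg] at this
    rw [← this, inv_mul_cancel_right]
  have step4 : uS σ (1 / d) (1 / d) * lS σ 1 d =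
      uS σ a b * nS d (-1 - d) hd0 h1d * uS σ (1 / d) (1 / d) := by
    apply sl_ext
    rw [val_mul, val_mul, val_mul, uS_val, uS_val, lS_val, nS_val, hσa, map_div₀, map_one, hD, ha,
      hb, hN]
    ext i j
    fin_cases i <;> fin_cases j <;> simp [Matrix.mul_apply, Fin.sum_univ_three] <;> field_simp <;>
      ring
  have hconj : g * uS σ a b * g⁻¹ = uS σ a b * nS d (-1 - d) hd0 h1d := by
    rw [mul_inv_eq_iff_eq_mul, hg]
    calc uS σ (1 / d) (1 / d) * wS * uS σ xp yp * dS N 1 N⁻¹ hh1 * uS σ a b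
        = uS σ (1 / d) (1 / d) * wS * uS σ xp yp * (dS N 1 N⁻¹ hh1 * uS σ a b) := by
          simp only [mul_assoc]
      _ = uS σ (1 / d) (1 / d) * wS * (uS σ xp yp * uS σ (-1) (N ^ 2 * b)) * dS N 1 N⁻¹ hh1 := by
          rw [step1]; simp only [mul_assoc]
      _ = uS σ (1 / d) (1 / d) * (wS * uS σ (-1) d) * uS σ xp yp * dS N 1 N⁻¹ hh1 := by
          rw [step2]; simp only [mul_assoc]
      _ = (uS σ (1 / d) (1 / d) * lS σ 1 d) * wS * uS σ xp yp * dS N 1 N⁻¹ hh1 := by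
          rw [step3]; simp only [mul_assoc]
      _ = uS σ a b * nS d (-1 - d) hd0 h1d *
            (uS σ (1 / d) (1 / d) * wS * uS σ xp yp * dS N 1 N⁻¹ hh1) := by
          rw [step4]; simp only [mul_assoc]
  refine ⟨uS σ a b, g, hu_mem, hg_mem, uS_sub_one_cube σ a b, uS_sub_one_sq σ ha0 b, ?_⟩
  intro x0 x1 x2 c hx T hT hTU
  rw [hconj]
  set H := Subgroup.closure {uS σ a b, uS σ a b * nS d (-1 - d) hd0 h1d} with hH
  have hu : uS σ a b ∈ H := Subgroup.subset_closure (by simp)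
  have hun : uS σ a b * nS d (-1 - d) hd0 h1d ∈ H := Subgroup.subset_closure (by simp)
  have hn : nS d (-1 - d) hd0 h1d ∈ H := by
    have := H.mul_mem (H.inv_mem hu) hun
    rwa [inv_mul_cancel_left] at this
  have hn_mem : nS d (-1 - d) hd0 h1d ∈ SUJ σ := by
    have := nS_mem hσ d hd0 hD0
    convert this using 2
    all_goals exact hD.symm
  have hHU : H ≤ SUJ σ := by
    rw [hH, Subgroup.closure_le]
    intro y hy
    rcases hy with rfl | rfl
    · exact hu_mem
    · exact (SUJ σ).mul_mem hu_mem hn_mem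
  have hn2 : dS (d / (-1 - d)) (((-1 - d) / d) ^ 2) (d / (-1 - d)) (by field_simp) ∈ H := by
    rw [← nS_sq d (-1 - d) hd0 h1d]
    exact H.mul_mem hn hn
  have hκ : ∀ x y, uS σ x y ∈ H → ∃ y', uS σ ((d / σ d) ^ 3 * x) y' ∈ H := by
    intro x y hxy
    refine ⟨y, ?_⟩
    have hc : dS (d / (-1 - d)) (((-1 - d) / d) ^ 2) (d / (-1 - d)) (by field_simp) * uS σ x y =
        uS σ ((d / σ d) ^ 3 * x) y *
          dS (d / (-1 - d)) (((-1 - d) / d) ^ 2) (d / (-1 - d)) (by field_simp) := by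
      apply dS_conj_uS
      · rw [hD]; field_simp
      · ring
      · rw [map_mul, map_pow, map_div₀, hσ, hD]; field_simp
    have := H.mul_mem (H.mul_mem hn2 hxy) (H.inv_mem hn2)
    rwa [hc, mul_inv_cancel_right] at this
  exact all_tv_mem hσ hHU ha0 hu hκ hK hd hn (by rw [nS_val]; simpa using hd0) x0 x1 x2 c hx T hT hTU

end family

section field

variable [Fintype F]

theorem exists_zeta {q : ℕ} (hF : Fintype.card F = q ^ 2) (hq : 2 ≤ q) :
    ∃ ζ : F, orderOf ζ = q + 1 := by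
  classical
  obtain ⟨g, hg⟩ := IsCyclic.exists_generator (α := Fˣ)
  have h1 : orderOf g = q ^ 2 - 1 := by
    rw [orderOf_eq_card_of_forall_mem_zpowers hg, Nat.card_eq_fintype_card, Fintype.card_units, hF]
  refine ⟨((g ^ (q - 1) : Fˣ) : F), ?_⟩
  rw [orderOf_units, orderOf_pow' _ (by omega), h1]
  have h2 : q ^ 2 - 1 = (q + 1) * (q - 1) := by
    obtain ⟨k, rfl⟩ : ∃ k, q = k + 1 := ⟨q - 1, by omega⟩
    have : (k + 1) ^ 2 = (k + 1 + 1) * k + 1 := by ring
    rw [this]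
    simp
  rw [h2, Nat.gcd_mul_left_left]
  exact Nat.mul_div_cancel _ (by omega)

theorem subfield_eq_top_of_zeta_cube {q : ℕ} (hF : Fintype.card F = q ^ 2) (hq3 : 3 ≤ q)
    (hq5 : q ≠ 5) (hq8 : q ≠ 8) (ζ : F) (hζ : orderOf ζ = q + 1) (K : Subfield F)
    (hK : ζ ^ 3 ∈ K) : K = ⊤ := by
  classical
  have hcard : Fintype.card F = Fintype.card K ^ Module.finrank K F := Module.card_eq_pow_finrank
  set r := Fintype.card K with hr
  set m := Module.finrank K F with hm
  have hr2 : 2 ≤ r := Fintype.one_lt_card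
  have hmpos : 0 < m := Module.finrank_pos
  have hζ0 : ζ ≠ 0 := by
    rintro rfl
    rw [orderOf_eq_zero_iff'.2] at hζ
    · omega
    · intro n hn
      rw [zero_pow (by omega)]
      exact zero_ne_one
  by_cases hm1 : m = 1
  · rw [hm1, pow_one] at hcard
    rw [eq_top_iff]
    intro x _
    have hbij : Function.Bijective (Subtype.val : K → F) :=
      (Fintype.bijective_iff_injective_and_card _).2 ⟨Subtype.val_injective, hcard.symm⟩
    obtain ⟨k, hk⟩ := hbij.2 x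
    rw [← hk]
    exact k.2
  · exfalso
    rcases Nat.even_or_odd m with ⟨i, hi⟩ | hodd
    · -- even degree: `K` lies in the fixed field of the `q`-th power map
      have hqi : r ^ i = q := by
        have : (r ^ i) ^ 2 = q ^ 2 := by rw [← hF, hcard, hi, ← pow_mul]; ring_nf
        exact Nat.pow_left_injective (by norm_num) this
      have hfix : ∀ x : K, (x : F) ^ q = x := by
        intro x
        have := FiniteField.pow_card_pow i x
        rw [← hr, hqi] at this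
        exact_mod_cast congrArg Subtype.val this
      have h1 := hfix ⟨ζ ^ 3, hK⟩
      simp only at h1
      have h2 : ζ ^ (3 * q - 3) = 1 := by
        have h3 : ζ ^ (3 * q - 3) * ζ ^ 3 = ζ ^ 3 := by
          rw [← pow_add, ← h1, ← pow_mul]
          congr 1
          omega
        have h4 : ζ ^ 3 ≠ 0 := pow_ne_zero _ hζ0
        exact mul_right_cancel₀ h4 (by rw [h3, one_mul])
      have h5 : q + 1 ∣ 3 * q - 3 := by
        rw [← hζ]; exact orderOf_dvd_of_pow_eq_one h2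
      have h6 : q + 1 ∣ 6 := by
        have h7 : q + 1 ∣ 3 * (q + 1) := Dvd.intro_left 3 rfl
        have h8 : 3 * (q + 1) - (3 * q - 3) = 6 := by omega
        rw [← h8]
        exact Nat.dvd_sub h7 h5
      have h9 : q + 1 ≤ 6 := Nat.le_of_dvd (by norm_num) h6
      have h10 : q ≤ 5 := by omega
      interval_cases q <;> omega
    · -- odd degree at least three
      have hm3 : 3 ≤ m := by
        rcases hodd with ⟨i, hi⟩
        omega
      have h1 : ((⟨ζ ^ 3, hK⟩ : K)) ^ (r - 1) = 1 := by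
        apply FiniteField.pow_card_sub_one_eq_one
        intro h
        have := congrArg Subtype.val h
        simp at this
        exact hζ0 this
      have h2 : ζ ^ (3 * (r - 1)) = 1 := by
        have := congrArg Subtype.val h1
        simpa [pow_mul] using this
      have h3 : q + 1 ∣ 3 * (r - 1) := by
        rw [← hζ]; exact orderOf_dvd_of_pow_eq_one h2
      have h4 : q + 1 ≤ 3 * (r - 1) := Nat.le_of_dvd (by omega) h3
      have h5 : r ^ 3 ≤ q ^ 2 := by
        rw [← hF, hcard]; exact Nat.pow_le_pow_right (by omega) hm3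
      have h6 : q + 4 ≤ 3 * r := by omega
      have h7 : (q + 4) ^ 3 ≤ 27 * q ^ 2 := by
        calc (q + 4) ^ 3 ≤ (3 * r) ^ 3 := Nat.pow_le_pow_left h6 3
          _ = 27 * r ^ 3 := by ring
          _ ≤ 27 * q ^ 2 := Nat.mul_le_mul_left 27 h5
      have h8 : ((q : ℤ) - 8) ^ 2 * ((q : ℤ) + 1) ≤ 0 := by
        have : ((q : ℤ) + 4) ^ 3 ≤ 27 * (q : ℤ) ^ 2 := by exact_mod_cast h7
        nlinarith
      have h9 : ((q : ℤ) - 8) ^ 2 ≤ 0 := by
        by_contra hcon
        push Not at hcon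
        have : (0 : ℤ) < (q : ℤ) + 1 := by positivity
        nlinarith
      have h10 : (q : ℤ) - 8 = 0 := by nlinarith [sq_nonneg ((q : ℤ) - 8)]
      omega


/-- the `q`-th power map is an involution of a field with `q²` elements -/
theorem frob_invol {q : ℕ} (hF : Fintype.card F = q ^ 2) {σ : F →+* F} (hσq : ∀ x, σ x = x ^ q)
    (x : F) : σ (σ x) = x := by
  rw [hσq, hσq, ← pow_mul, ← sq, ← hF, FiniteField.pow_card]

/-- The Weyl family exists over every field with `q²` elements, `q ≥ 3`, `q ≠ 5, 8`. -/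
theorem weyl_generic {q : ℕ} (hF : Fintype.card F = q ^ 2) (hq3 : 3 ≤ q) (hq5 : q ≠ 5)
    (hq8 : q ≠ 8) {σ : F →+* F} (hσq : ∀ x, σ x = x ^ q) :
    ∃ u g : SpecialLinearGroup (Fin 3) F, u ∈ SUJ σ ∧ g ∈ SUJ σ ∧ (u.1 - 1) ^ 3 = 0 ∧
      (u.1 - 1) ^ 2 ≠ 0 ∧
      ∀ (x0 x1 x2 c : F), x0 * σ x2 + x1 * σ x1 + x2 * σ x0 = 0 →
        ∀ T : SpecialLinearGroup (Fin 3) F, T.1 = tvM σ x0 x1 x2 c → T ∈ SUJ σ →
          T ∈ Subgroup.closure {u, g * u * g⁻¹} := by
  have hσ := frob_invol hF hσq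
  obtain ⟨ζ, hζ⟩ := exists_zeta hF (by omega)
  have hζ1 : ζ ^ (q + 1) = 1 := by rw [← hζ]; exact pow_orderOf_eq_one ζ
  have hζ0 : ζ ≠ 0 := by
    rintro rfl
    rw [zero_pow (by omega)] at hζ1
    exact zero_ne_one hζ1
  have hσζ : σ ζ = ζ⁻¹ := by
    rw [hσq]
    apply eq_inv_of_mul_eq_one_left
    rw [← pow_succ, hζ1]
  have h1ζ : 1 + ζ ≠ 0 := by
    intro h
    have h2 : ζ = -1 := by linear_combination h
    have h3 : ζ ^ 2 = 1 := by rw [h2]; ring
    have h4 : q + 1 ∣ 2 := by rw [← hζ]; exact orderOf_dvd_of_pow_eq_one h3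
    have := Nat.le_of_dvd (by norm_num) h4
    omega
  have hσd : σ (-ζ / (1 + ζ)) = -1 / (1 + ζ) := by
    rw [map_div₀, map_neg, map_add, map_one, hσζ]
    have h2 : ζ + 1 ≠ 0 := by rwa [add_comm]
    field_simp
    ring
  refine weyl_family hσ (-ζ / (1 + ζ)) ?_ ?_ ?_ ?_
  · rw [hσd]; field_simp; ring
  · exact div_ne_zero (neg_ne_zero.2 hζ0) h1ζ
  · rw [hσd]; exact div_ne_zero (by norm_num) h1ζ
  · intro K hK
    apply subfield_eq_top_of_zeta_cube hF hq3 hq5 hq8 ζ hζ K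
    have : -ζ / (1 + ζ) / σ (-ζ / (1 + ζ)) = ζ := by
      rw [hσd]; field_simp
    rwa [this] at hK

end field

end Cfsg.Agent.Lib.Helper83_SU3Weyl
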