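import Mathlib
import Cfsg.Agent.Lib.Helper83_SUChain
import Cfsg.Agent.Lib.Helper83_SUEich

/-!
# The parameter group of the long root subgroup and the filling lemmas (helper83)

General lemmas (no chain basis) used in the proof that three conjugate regular unipotent elements
generate `SU_{2m+1}(q)`:

* `utv_mul`, `utv_inv'`: the transvections with a fixed isotropic centre form a group;
* `A1`: the additive group of the skew parameters `s` with `utv B w s ∈ H`;
* `exists_beta`: a fixed element `β₀` whose powers exhaust the nonzero fixed elements;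
* `all_skew`: an additive group of skew parameters stable under `β₀` is everything;
* `of_conj_comm`: the commutator of an Eichler element with an element of `H` fixing `w`;
* `closure_odd`, `closure_even`: the two commutator relations;
* `tr_pair`: `B p (u p) + B (u p) p = -B (u p - p) (u p - p)`;
* `lambda_full`: the line of a point `p` fills up;
* `MM`: the subspace of the completely filled vectors, `MM_stable`, `MM_point`.
-/

set_option autoImplicit false
set_option linter.unusedSectionVars false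
set_option linter.unusedVariables false
set_option linter.unusedSimpArgs false

namespace Cfsg.Agent.Lib.Helper83_SUParam

open Module Cfsg.Agent.Lib.Helper94_Herm Cfsg.Agent.Lib.Helper94_HermEich
  Cfsg.Agent.Lib.Helper94_HermPara Cfsg.Agent.Lib.Helper13_SUGen
  Cfsg.Agent.Lib.Helper83_SUChain Cfsg.Agent.Lib.Helper83_SUEich

variable {F V : Type*} [Field F] [AddCommGroup V] [Module F V]
variable {σ : F →+* F} {B : V →ₗ[F] V →ₛₗ[σ] F}

/-! ### Transvections with a fixed centre -/

theorem utv_mul {w : V} (hw : B w w = 0) (s s' : F) :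
    utv B w s * utv B w s' = utv B w (s + s') := by
  ext x
  rw [LinearEquiv.mul_apply, utv_apply B hw, utv_apply B hw, utv_apply B hw]
  simp only [map_add, map_smul, LinearMap.add_apply, LinearMap.smul_apply, smul_eq_mul, hw,
    mul_zero, add_zero]
  module

theorem utv_zero' {w : V} (hw : B w w = 0) : utv B w 0 = 1 := by
  ext x
  rw [utv_apply B hw]
  simp

theorem utv_inv' {w : V} (hw : B w w = 0) (s : F) : (utv B w s)⁻¹ = utv B w (-s) := by
  symm
  apply eq_inv_of_mul_eq_one_left
  rw [utv_mul hw, neg_add_cancel, utv_zero' hw]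

/-- the additive group of the skew parameters of the transvections of `H` with centre `w` -/
def A1 (B : V →ₗ[F] V →ₛₗ[σ] F) (H : Subgroup (V ≃ₗ[F] V)) (w : V) (hw : B w w = 0) :
    AddSubgroup F where
  carrier := {s | σ s = -s ∧ utv B w s ∈ H}
  add_mem' := by
    rintro s s' ⟨h1, h2⟩ ⟨h1', h2'⟩
    refine ⟨by rw [map_add, h1, h1']; ring, ?_⟩
    rw [← utv_mul hw]
    exact H.mul_mem h2 h2'
  zero_mem' := by
    refine ⟨by simp, ?_⟩
    rw [utv_zero' hw]
    exact H.one_mem
  neg_mem' := by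
    rintro s ⟨h1, h2⟩
    refine ⟨by rw [map_neg, h1], ?_⟩
    rw [← utv_inv' hw]
    exact H.inv_mem h2

theorem mem_A1 {H : Subgroup (V ≃ₗ[F] V)} {w : V} {hw : B w w = 0} {s : F} :
    s ∈ A1 B H w hw ↔ σ s = -s ∧ utv B w s ∈ H := Iff.rfl

/-! ### Field lemmas -/

/-- a fixed element whose powers exhaust the nonzero fixed elements -/
theorem exists_beta [Finite F] (hσ : Invol σ) : ∃ β₀ : F, β₀ ≠ 0 ∧ σ β₀ = β₀ ∧
    ∀ A : AddSubgroup F, (∀ s ∈ A, β₀ * s ∈ A) → ∀ s₁ ∈ A, ∀ r, σ r = r → r * s₁ ∈ A := by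
  obtain ⟨ζ, hζ⟩ := IsCyclic.exists_monoid_generator (α := Fˣ)
  refine ⟨(ζ : F) * σ (ζ : F), ?_, ?_, ?_⟩
  · refine mul_ne_zero ζ.ne_zero ?_
    intro h
    have := congrArg σ h
    rw [hσ.invol, map_zero] at this
    exact ζ.ne_zero this
  · rw [map_mul, hσ.invol, mul_comm]
  · intro A hA s₁ hs₁ r hr
    by_cases hr0 : r = 0
    · rw [hr0, zero_mul]; exact A.zero_mem
    obtain ⟨l, hl⟩ := norm_surj hσ r hr
    have hl0 : l ≠ 0 := by
      rintro rfl
      rw [zero_mul] at hl
      exact hr0 hl.symm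
    obtain ⟨k, hk⟩ := (Submonoid.mem_powers_iff _ _).mp (hζ (Units.mk0 l hl0))
    have hlk : l = (ζ : F) ^ k := by
      have := congrArg (fun u : Fˣ => (u : F)) hk
      simp only [Units.val_pow_eq_pow_val, Units.val_mk0] at this
      exact this.symm
    have hrk : r = ((ζ : F) * σ (ζ : F)) ^ k := by
      rw [← hl, hlk, map_pow, mul_pow]
    rw [hrk]
    clear hrk hlk hk
    induction k with
    | zero => simpa using hs₁
    | succ k ih =>
      rw [pow_succ', mul_assoc]
      exact hA _ ih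

/-- an additive group of skew parameters which is stable under `β₀` and contains a nonzero
skew element contains all the skew elements -/
theorem all_skew {β₀ : F}
    (hβ : ∀ A : AddSubgroup F, (∀ s ∈ A, β₀ * s ∈ A) → ∀ s₁ ∈ A, ∀ r, σ r = r → r * s₁ ∈ A)
    (A : AddSubgroup F) (hA : ∀ s ∈ A, β₀ * s ∈ A) {s₁ : F} (h1 : s₁ ∈ A) (h10 : s₁ ≠ 0)
    (hs1 : σ s₁ = -s₁) : ∀ s, σ s = -s → s ∈ A := by
  intro s hs
  have hr : σ (s / s₁) = s / s₁ := by
    rw [map_div₀, hs, hs1, neg_div_neg_eq]
  have := hβ A hA s₁ h1 (s / s₁) hr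
  rwa [div_mul_cancel₀ _ h10] at this

/-! ### Commutator relations -/

/-- the commutator of an Eichler element `x` with an element `u` of `H` fixing `w`, when the
conjugate `x u x⁻¹` lies in `H` -/
theorem of_conj_comm (hB : IsHerm B) {H : Subgroup (V ≃ₗ[F] V)} {w y : V} {c : F}
    (hw : B w w = 0) (hyw : B y w = 0) (hc : c + σ c = -(B y y)) {u : V ≃ₗ[F] V} (huH : u ∈ H)
    (hu : u ∈ uG B) (huw : u w = w)
    (hconj : eich B w y c * u * (eich B w y c)⁻¹ ∈ H) : InQ B H w (y - u y) := by
  have hwy := herm_eq_zero hB hyw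
  have huyw : B (u y) w = 0 := by
    have := hu y w
    rw [huw] at this
    rw [this, hyw]
  have hwuy := herm_eq_zero hB huyw
  have hnuyw : B (-(u y)) w = 0 := by rw [map_neg, LinearMap.neg_apply, huyw, neg_zero]
  have hwnuy : B w (-(u y)) = 0 := by rw [map_neg, hwuy, neg_zero]
  have e1 : u * eich B w y c * u⁻¹ = eich B w (u y) c := by
    rw [conj_eich hu, huw]
  have e2 : eich B w y c * u * (eich B w y c)⁻¹ * u⁻¹ =
      eich B w y c * (eich B w (u y) c)⁻¹ := by
    rw [← e1]; group
  have hmem : eich B w y c * (eich B w (u y) c)⁻¹ ∈ H := by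
    rw [← e2]
    exact H.mul_mem hconj (H.inv_mem huH)
  rw [eich_inv hw huyw hwuy, eich_mul hw hyw hwy hnuyw hwnuy] at hmem
  refine ⟨by rw [map_sub, LinearMap.sub_apply, hyw, huyw, sub_zero],
    c + (-c - (B (u y)) (u y)) - (B (-u y)) y, ?_, ?_⟩
  swap
  · rw [sub_eq_add_neg]
    exact hmem
  · have e3 : B (u y) (u y) = B y y := hu y y
    have e4 : σ (B y y) = B y y := herm_self hB y
    have e5 : σ (B (u y) y) = B y (u y) := (hB (u y) y).symm
    simp only [map_add, map_sub, map_neg, LinearMap.neg_apply, LinearMap.sub_apply, e3, e4, e5,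
      LinearMap.add_apply]
    ring

/-- first commutator relation (useful in odd characteristic) -/
theorem closure_odd (hB : IsHerm B) {H : Subgroup (V ≃ₗ[F] V)} {w p y₁ : V} (hw : B w w = 0)
    (hp : B p p = 0) (hpw : B p w = 0) (hy : InQ B H w y₁) {s : F} (hs : σ s = -s)
    (hT : utv B p s ∈ H) :
    utv B w (-(2 * (B y₁ p * σ (B y₁ p)) * s)) ∈ H := by
  have h1 := InQ.tv hB hw hp hpw hs hT hy
  have h2 := InQ.comm hB hw hy h1
  have e : B y₁ ((s * B y₁ p) • p) - B ((s * B y₁ p) • p) y₁ =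
      -(2 * (B y₁ p * σ (B y₁ p)) * s) := by
    rw [map_smulₛₗ, map_smul, LinearMap.smul_apply, smul_eq_mul, smul_eq_mul, map_mul, hs,
      hB y₁ p]
    ring
  rwa [e] at h2

/-- second commutator relation (useful in characteristic two) -/
theorem closure_even (hB : IsHerm B) {H : Subgroup (V ≃ₗ[F] V)} {w p y₁ : V} (hw : B w w = 0)
    (hp : B p p = 0) (hpw : B p w = 0) {u : V ≃ₗ[F] V} (huH : u ∈ H) (hu : u ∈ uG B)
    (huw : u w = w) (hy : InQ B H w y₁) {s s' : F} (hs : σ s = -s) (hs' : σ s' = -s')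
    (hT : utv B p s ∈ H) (hT' : utv B p s' ∈ H) :
    utv B w (-(s * s' * (B y₁ p * σ (B y₁ p)) * (B p (u p) - B (u p) p))) ∈ H := by
  have h1 := InQ.tv hB hw hp hpw hs hT hy
  have h1' := InQ.conj huH hu huw (InQ.tv hB hw hp hpw hs' hT' hy)
  have h2 := InQ.comm hB hw h1 h1'
  have e : B ((s * B y₁ p) • p) (u ((s' * B y₁ p) • p)) -
      B (u ((s' * B y₁ p) • p)) ((s * B y₁ p) • p) =
      -(s * s' * (B y₁ p * σ (B y₁ p)) * (B p (u p) - B (u p) p)) := by
    rw [map_smul u]
    simp only [map_smulₛₗ, map_smul, LinearMap.smul_apply, smul_eq_mul, map_mul, hs, hs',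
      RingHom.id_apply]
    ring
  rwa [e] at h2

/-- the trace of `B p (u p)` for an isotropic `p` -/
theorem tr_pair {u : V ≃ₗ[F] V} (hu : u ∈ uG B) {p : V} (hp : B p p = 0) :
    B p (u p) + B (u p) p = -(B (u p - p) (u p - p)) := by
  have e : B (u p) (u p) = 0 := by rw [hu, hp]
  simp only [map_sub, LinearMap.sub_apply, e, hp]
  ring

/-! ### Filling a line -/

/-- the line of a point `p` orthogonal to `w` fills up -/
theorem lambda_full (hσ : Invol σ) (hB : IsHerm B) {H : Subgroup (V ≃ₗ[F] V)} {w p : V}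
    (hw : B w w = 0) (hp : B p p = 0) (hpw : B p w = 0) {u : V ≃ₗ[F] V} (huH : u ∈ H)
    (hu : u ∈ uG B) (huw : u w = w) (hTp : ∀ s, σ s = -s → utv B p s ∈ H)
    (htr : B p (u p) + B (u p) p ≠ 0) {l₀ : F} (hl0 : l₀ ≠ 0) (h0 : InQ B H w (l₀ • p)) :
    ∀ l : F, InQ B H w (l • p) := by
  obtain ⟨s₀, hs00, hs0⟩ := exists_skew hσ
  have hup : B (u p) (u p) = 0 := by rw [hu, hp]
  have hupw : B (u p) w = 0 := by
    have := hu p w
    rw [huw] at this
    rw [this, hpw]
  have hTup : ∀ s, σ s = -s → utv B (u p) s ∈ H := by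
    intro s hs
    rw [← conj_utv hu]
    exact H.mul_mem (H.mul_mem huH (hTp s hs)) (H.inv_mem huH)
  set bb := B p (u p) with hbb
  have hbb' : B (u p) p = σ bb := hB p (u p)
  have hb0 : bb ≠ 0 := by
    intro h0
    apply htr
    rw [hbb', h0, map_zero, add_zero]
  have hσb0 : σ bb ≠ 0 := by
    intro h
    have := congrArg σ h
    rw [hσ.invol, map_zero] at this
    exact hb0 this
  -- step via `u p` then `p`: multiplication by `s s' N(bb)`
  have step2 : ∀ l s s', σ s = -s → σ s' = -s' → InQ B H w (l • p) →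
      InQ B H w ((s' * s * l * (bb * σ bb)) • p) := by
    intro l s s' hs hs' h
    have h1 := InQ.tv hB hw hup hupw hs (hTup s hs) h
    have h2 := InQ.tv hB hw hp hpw hs' (hTp s' hs') h1
    have e : (s' * B ((s * B (l • p) (u p)) • u p) p) • p = (s' * s * l * (bb * σ bb)) • p := by
      congr 1
      simp only [map_smul, LinearMap.smul_apply, smul_eq_mul, hbb']
      ring
    rwa [e] at h2
  -- step via `u`-conjugation then `p`: multiplication by `s σ(bb)`
  have step1 : ∀ l s, σ s = -s → InQ B H w (l • p) → InQ B H w ((s * l * σ bb) • p) := by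
    intro l s hs h
    have h1 := InQ.conj huH hu huw h
    have h2 := InQ.tv hB hw hp hpw hs (hTp s hs) h1
    have e : (s * B (u (l • p)) p) • p = (s * l * σ bb) • p := by
      congr 1
      rw [map_smul u, map_smul, LinearMap.smul_apply, smul_eq_mul, hbb']
      ring
    rwa [e] at h2
  -- multiplication by fixed elements
  have hfix : ∀ l r, σ r = r → InQ B H w (l • p) → InQ B H w ((r * l) • p) := by
    intro l r hr h
    have hs' : σ (r / (s₀ * (bb * σ bb))) = -(r / (s₀ * (bb * σ bb))) := by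
      rw [map_div₀, map_mul, map_mul, hσ.invol, hr, hs0, mul_comm (σ bb) bb, neg_mul, div_neg]
    have := step2 l s₀ _ hs0 hs' h
    have e : r / (s₀ * (bb * σ bb)) * s₀ * l * (bb * σ bb) = r * l := by
      field_simp
    rwa [e] at this
  set ω := s₀ * σ bb with hω
  have hωne : σ ω ≠ ω := by
    rw [hω, map_mul, hσ.invol, hs0]
    intro h
    apply htr
    rw [hbb']
    have : s₀ * (bb + σ bb) = 0 := by linear_combination -h
    rcases mul_eq_zero.mp this with h' | h'
    · exact absurd h' hs00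
    · exact h'
  intro l
  obtain ⟨r, s, hr, hs, hx⟩ := decomp hσ hωne (l / l₀)
  have h1 := hfix l₀ r hr h0
  have h2 := hfix _ s hs (step1 l₀ s₀ hs0 h0)
  have h3 := InQ.add hB hw h1 h2
  have e : (r * l₀) • p + (s * (s₀ * l₀ * σ bb)) • p = l • p := by
    rw [← add_smul]
    congr 1
    have : l = (l / l₀) * l₀ := by field_simp
    rw [this, hx, hω]
    ring
  rwa [e] at h3

/-! ### The completely filled vectors -/

/-- the vectors all of whose multiples occur in `Q_w ∩ H` -/
def MM (B : V →ₗ[F] V →ₛₗ[σ] F) (H : Subgroup (V ≃ₗ[F] V)) (w : V) (hw : B w w = 0)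
    (hB : IsHerm B) : Submodule F V where
  carrier := {y | ∀ l : F, InQ B H w (l • y)}
  add_mem' := by
    intro y y' hy hy' l
    rw [smul_add]
    exact InQ.add hB hw (hy l) (hy' l)
  zero_mem' := by
    intro l
    rw [smul_zero]
    exact InQ.zero hw
  smul_mem' := by
    intro c y hy l
    rw [smul_smul]
    exact hy _

theorem mem_MM {H : Subgroup (V ≃ₗ[F] V)} {w : V} {hw : B w w = 0} {hB : IsHerm B} {y : V} :
    y ∈ MM B H w hw hB ↔ ∀ l : F, InQ B H w (l • y) := Iff.rfl

/-- `MM` is stable under `u - 1` for `u ∈ H` fixing `w` -/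
theorem MM_stable {H : Subgroup (V ≃ₗ[F] V)} {w : V} {hw : B w w = 0} {hB : IsHerm B}
    {u : V ≃ₗ[F] V} (huH : u ∈ H) (hu : u ∈ uG B) (huw : u w = w) {y : V}
    (hy : y ∈ MM B H w hw hB) : u y - y ∈ MM B H w hw hB := by
  intro l
  have h1 := InQ.conj huH hu huw (hy l)
  have h2 := InQ.sub hB hw h1 (hy l)
  rwa [map_smul u, ← smul_sub] at h2

/-- a point orthogonal to `w`, all of whose transvections lie in `H`, and which is not
orthogonal to some completely filled vector, is completely filled -/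
theorem MM_point (hσ : Invol σ) {H : Subgroup (V ≃ₗ[F] V)} {w : V} {hw : B w w = 0}
    {hB : IsHerm B} {r y : V} (hr : B r r = 0) (hrw : B r w = 0)
    (hT : ∀ s, σ s = -s → utv B r s ∈ H) (hy : y ∈ MM B H w hw hB) (hyr : B y r ≠ 0) :
    r ∈ MM B H w hw hB := by
  obtain ⟨s₀, hs00, hs0⟩ := exists_skew hσ
  intro l
  have h1 := InQ.tv hB hw hr hrw hs0 (hT s₀ hs0) (hy (l / (s₀ * B y r)))
  have e : (s₀ * B ((l / (s₀ * B y r)) • y) r) • r = l • r := by
    congr 1
    rw [map_smul, LinearMap.smul_apply, smul_eq_mul]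
    field_simp
  rwa [e] at h1

end Cfsg.Agent.Lib.Helper83_SUParam
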