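import Mathlib
import Cfsg.Agent.Lib.Helper83_SUEich

/-!
# A regular unipotent element attached to a chain basis (helper83)

`ru B b m c₀ = xmid * x_{m-2} * ⋯ * x_0`, where `x_j = eich (b j) (b (2m-1-j)) 0` and
`xmid = eich (b (m-1)) (b m) c₀` with `c₀ + σ c₀ = -1`.  Its action on the chain basis:
`b 0 ↦ b 0`, `b i ↦ b i - b (i-1)` for `1 ≤ i ≤ m`, and
`b i ↦ b m + ⋯ + b i + c₀ • b (m-1)` for `m < i ≤ 2m`.
-/

set_option autoImplicit false
set_option linter.unusedSectionVars false
set_option linter.unusedVariables false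
set_option linter.unusedSimpArgs false

namespace Cfsg.Agent.Lib.Helper83_SUReg

open Module Cfsg.Agent.Lib.Helper94_Herm Cfsg.Agent.Lib.Helper94_HermEich
  Cfsg.Agent.Lib.Helper94_HermPara Cfsg.Agent.Lib.Helper13_SUGen
  Cfsg.Agent.Lib.Helper83_SUChain Cfsg.Agent.Lib.Helper83_SUEich

variable {F V : Type*} [Field F] [AddCommGroup V] [Module F V]
variable {σ : F →+* F} (B : V →ₗ[F] V →ₛₗ[σ] F)

/-- the short root factor `x_j` -/
noncomputable def xs (b : ℕ → V) (m j : ℕ) : V ≃ₗ[F] V := eich B (b j) (b (2 * m - 1 - j)) 0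

/-- `Lk k = x_{k-1} * ⋯ * x_0` -/
noncomputable def Lk (b : ℕ → V) (m : ℕ) : ℕ → (V ≃ₗ[F] V)
  | 0 => 1
  | k + 1 => xs B b m k * Lk b m k

/-- the middle factor -/
noncomputable def xmid (b : ℕ → V) (m : ℕ) (c₀ : F) : V ≃ₗ[F] V := eich B (b (m - 1)) (b m) c₀

/-- the regular unipotent element -/
noncomputable def ru (b : ℕ → V) (m : ℕ) (c₀ : F) : V ≃ₗ[F] V := xmid B b m c₀ * Lk B b m (m - 1)

variable {B}
variable {m : ℕ} {b : ℕ → V} (hb : Chain B m b)

include hb

theorem xs_apply {j : ℕ} (hj : j + 2 ≤ m) (x : V) :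
    xs B b m j x = x + B x (b j) • b (2 * m - 1 - j) - B x (b (2 * m - 1 - j)) • b j := by
  unfold xs
  rw [eich_apply B (hb.iso (by omega) (by omega)) (hb.orth (by omega) (by omega) (by omega))
    (hb.orth (by omega) (by omega) (by omega))]
  simp

theorem xs_basis {j : ℕ} (hj : j + 2 ≤ m) {i : ℕ} (hi : i ≤ 2 * m) :
    xs B b m j (b i) = b i + (if i + j = 2 * m then b (2 * m - 1 - j) else 0)
      - (if i = j + 1 then b j else 0) := by
  rw [xs_apply hb hj, hb.gram i j hi (by omega), hb.gram i (2 * m - 1 - j) hi (by omega)]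
  have e : (i + (2 * m - 1 - j) = 2 * m) ↔ (i = j + 1) := by omega
  simp only [e]
  split_ifs <;> simp

theorem xs_mem (hB : IsHerm B) {j : ℕ} (hj : j + 2 ≤ m) : xs B b m j ∈ uG B := by
  unfold xs
  apply eich_mem_uG hB
  rw [hb.iso (by omega) (by omega)]
  simp

theorem xmid_apply (hm : 1 ≤ m) (c₀ : F) (x : V) :
    xmid B b m c₀ x = x + B x (b (m - 1)) • b m - B x (b m) • b (m - 1)
      + (c₀ * B x (b (m - 1))) • b (m - 1) := by
  unfold xmid
  rw [eich_apply B (hb.iso (by omega) (by omega)) (hb.orth (by omega) (by omega) (by omega))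
    (hb.orth (by omega) (by omega) (by omega))]

theorem xmid_basis (hm : 1 ≤ m) (c₀ : F) {i : ℕ} (hi : i ≤ 2 * m) :
    xmid B b m c₀ (b i) = b i + (if i = m + 1 then b m + c₀ • b (m - 1) else 0)
      - (if i = m then b (m - 1) else 0) := by
  rw [xmid_apply hb hm, hb.gram i (m - 1) hi (by omega), hb.gram i m hi (by omega)]
  have e1 : (i + (m - 1) = 2 * m) ↔ (i = m + 1) := by omega
  have e2 : (i + m = 2 * m) ↔ (i = m) := by omega
  simp only [e1, e2]
  split_ifs with h1 h2 h2
  · omega
  · simp; abel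
  · simp
  · simp

theorem xmid_mem (hB : IsHerm B) (hm : 1 ≤ m) {c₀ : F} (hc₀ : c₀ + σ c₀ = -1) :
    xmid B b m c₀ ∈ uG B := by
  unfold xmid
  apply eich_mem_uG hB
  rw [hb.mid]
  exact hc₀

theorem Lk_mem (hB : IsHerm B) : ∀ k, k + 1 ≤ m → Lk B b m k ∈ uG B := by
  intro k
  induction k with
  | zero => intro _; exact (uG B).one_mem
  | succ k ih =>
    intro hk
    exact (uG B).mul_mem (xs_mem hb hB (by omega)) (ih (by omega))

theorem ru_mem (hB : IsHerm B) (hm : 1 ≤ m) {c₀ : F} (hc₀ : c₀ + σ c₀ = -1) :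
    ru B b m c₀ ∈ uG B :=
  (uG B).mul_mem (xmid_mem hb hB hm hc₀) (Lk_mem hb hB (m - 1) (by omega))

omit hb in
theorem det_Lk : ∀ k, LinearEquiv.det (Lk B b m k) = 1 := by
  intro k
  induction k with
  | zero => exact map_one _
  | succ k ih =>
    show LinearEquiv.det (xs B b m k * Lk B b m k) = 1
    rw [map_mul, ih, mul_one]
    exact det_eich _ _ _

omit hb in
theorem det_ru (c₀ : F) : LinearEquiv.det (ru B b m c₀) = 1 := by
  unfold ru xmid
  rw [map_mul, det_Lk, mul_one]
  exact det_eich _ _ _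

/-- the action of `Lk k` on the chain basis -/
theorem Lk_basis : ∀ k, k + 1 ≤ m → ∀ i, i ≤ 2 * m →
    Lk B b m k (b i) =
      if i = 0 then b 0
      else if i ≤ k then b i - b (i - 1)
      else if i + k ≤ 2 * m then b i
      else ∑ l ∈ Finset.Icc (2 * m - k) i, b l := by
  intro k
  induction k with
  | zero =>
    intro _ i hi
    simp only [Lk, LinearEquiv.coe_one, id_eq]
    split_ifs with h1 h2 h3
    · rw [h1]
    · omega
    · rfl
    · omega
  | succ k ih =>
    intro hk i hi
    have hk2 : k + 2 ≤ m := by omega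
    show xs B b m k (Lk B b m k (b i)) = _
    rw [ih (by omega) i hi]
    by_cases h0 : i = 0
    · subst h0
      rw [if_pos rfl, if_pos rfl, xs_basis hb hk2 (by omega),
        if_neg (show ¬ (0 + k = 2 * m) by omega), if_neg (show ¬ (0 = k + 1) by omega)]
      simp
    · rw [if_neg h0, if_neg h0]
      by_cases h1 : i ≤ k
      · rw [if_pos h1, if_pos (show i ≤ k + 1 by omega), map_sub, xs_basis hb hk2 hi,
          xs_basis hb hk2 (by omega : i - 1 ≤ 2 * m),
          if_neg (show ¬ (i + k = 2 * m) by omega), if_neg (show ¬ (i = k + 1) by omega),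
          if_neg (show ¬ (i - 1 + k = 2 * m) by omega),
          if_neg (show ¬ (i - 1 = k + 1) by omega)]
        simp
      · rw [if_neg h1]
        by_cases h2 : i = k + 1
        · rw [if_pos (show i + k ≤ 2 * m by omega), if_pos (show i ≤ k + 1 by omega),
            xs_basis hb hk2 hi, if_neg (show ¬ (i + k = 2 * m) by omega), if_pos h2, h2]
          simp
        · rw [if_neg (show ¬ (i ≤ k + 1) by omega)]
          by_cases h3 : i + k ≤ 2 * m
          · rw [if_pos h3, xs_basis hb hk2 hi, if_neg h2]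
            by_cases h4 : i + k = 2 * m
            · rw [if_pos h4, if_neg (show ¬ (i + (k + 1) ≤ 2 * m) by omega)]
              have e1 : 2 * m - (k + 1) = 2 * m - 1 - k := by omega
              have e2 : i = 2 * m - 1 - k + 1 := by omega
              rw [e1, sub_zero]
              conv_rhs => rw [e2]
              rw [Finset.sum_Icc_succ_top (by omega), Finset.Icc_self, Finset.sum_singleton,
                ← e2, add_comm]
            · rw [if_neg h4, if_pos (show i + (k + 1) ≤ 2 * m by omega)]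
              simp
          · rw [if_neg h3, if_neg (show ¬ (i + (k + 1) ≤ 2 * m) by omega), map_sum]
            have hterm : ∀ l ∈ Finset.Icc (2 * m - k) i, xs B b m k (b l) =
                b l + (if l = 2 * m - k then b (2 * m - 1 - k) else 0) := by
              intro l hl
              rw [Finset.mem_Icc] at hl
              rw [xs_basis hb hk2 (by omega), if_neg (show ¬ (l = k + 1) by omega)]
              have e : (l + k = 2 * m) ↔ (l = 2 * m - k) := by omega
              simp only [e]
              simp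
            rw [Finset.sum_congr rfl hterm, Finset.sum_add_distrib, Finset.sum_ite_eq',
              if_pos (by rw [Finset.mem_Icc]; omega)]
            have e1 : 2 * m - (k + 1) = 2 * m - 1 - k := by omega
            have e2 : 2 * m - k = 2 * m - 1 - k + 1 := by omega
            rw [e1]
            conv_rhs => rw [← Finset.sum_Ioc_add_eq_sum_Icc (by omega : 2 * m - 1 - k ≤ i)]
            rw [e2, Finset.Icc_add_one_left_eq_Ioc]

/-- the action of `ru` on the chain basis -/
theorem ru_basis (hm : 1 ≤ m) (c₀ : F) {i : ℕ} (hi : i ≤ 2 * m) :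
    ru B b m c₀ (b i) =
      if i = 0 then b 0
      else if i ≤ m then b i - b (i - 1)
      else ∑ l ∈ Finset.Icc m i, b l + c₀ • b (m - 1) := by
  show xmid B b m c₀ (Lk B b m (m - 1) (b i)) = _
  rw [Lk_basis hb (m - 1) (by omega) i hi]
  by_cases h0 : i = 0
  · subst h0
    rw [if_pos rfl, if_pos rfl, xmid_basis hb hm c₀ (by omega),
      if_neg (show ¬ (0 = m + 1) by omega), if_neg (show ¬ (0 = m) by omega)]
    simp
  · rw [if_neg h0, if_neg h0]
    by_cases h1 : i ≤ m - 1
    · rw [if_pos h1, if_pos (show i ≤ m by omega), map_sub, xmid_basis hb hm c₀ hi,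
        xmid_basis hb hm c₀ (by omega : i - 1 ≤ 2 * m),
        if_neg (show ¬ (i = m + 1) by omega), if_neg (show ¬ (i = m) by omega),
        if_neg (show ¬ (i - 1 = m + 1) by omega), if_neg (show ¬ (i - 1 = m) by omega)]
      simp
    · rw [if_neg h1]
      by_cases h2 : i + (m - 1) ≤ 2 * m
      · rw [if_pos h2, xmid_basis hb hm c₀ hi]
        by_cases h3 : i = m
        · rw [if_neg (show ¬ (i = m + 1) by omega), if_pos h3, if_pos (show i ≤ m by omega), h3]
          simp
        · have h4 : i = m + 1 := by omega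
          rw [if_pos h4, if_neg h3, if_neg (show ¬ (i ≤ m) by omega), h4,
            Finset.sum_Icc_succ_top (by omega), Finset.Icc_self, Finset.sum_singleton]
          rw [sub_zero]
          abel
      · rw [if_neg h2, if_neg (show ¬ (i ≤ m) by omega), map_sum]
        have hterm : ∀ l ∈ Finset.Icc (2 * m - (m - 1)) i, xmid B b m c₀ (b l) =
            b l + (if l = m + 1 then b m + c₀ • b (m - 1) else 0) := by
          intro l hl
          rw [Finset.mem_Icc] at hl
          rw [xmid_basis hb hm c₀ (by omega), if_neg (show ¬ (l = m) by omega)]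
          simp
        rw [Finset.sum_congr rfl hterm, Finset.sum_add_distrib, Finset.sum_ite_eq',
          if_pos (by rw [Finset.mem_Icc]; omega)]
        have e2 : 2 * m - (m - 1) = m + 1 := by omega
        rw [e2]
        conv_rhs => rw [← Finset.sum_Ioc_add_eq_sum_Icc (by omega : m ≤ i)]
        rw [Finset.Icc_add_one_left_eq_Ioc]
        abel

theorem ru_b0 (hm : 1 ≤ m) (c₀ : F) : ru B b m c₀ (b 0) = b 0 := by
  rw [ru_basis hb hm c₀ (by omega), if_pos rfl]

theorem ru_low (hm : 1 ≤ m) (c₀ : F) {i : ℕ} (hi1 : 1 ≤ i) (hi : i ≤ m) :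
    ru B b m c₀ (b i) = b i - b (i - 1) := by
  rw [ru_basis hb hm c₀ (by omega), if_neg (by omega), if_pos hi]

theorem ru_high (hm : 1 ≤ m) (c₀ : F) {i : ℕ} (hi1 : m < i) (hi : i ≤ 2 * m) :
    ru B b m c₀ (b i) = ∑ l ∈ Finset.Icc m i, b l + c₀ • b (m - 1) := by
  rw [ru_basis hb hm c₀ hi, if_neg (by omega), if_neg (by omega)]

/-- the nilpotent part of `ru` -/
noncomputable def ruN (B : V →ₗ[F] V →ₛₗ[σ] F) (b : ℕ → V) (m : ℕ) (c₀ : F) : V →ₗ[F] V :=
  (ru B b m c₀ : V →ₗ[F] V) - 1

omit hb in
theorem ruN_apply (c₀ : F) (x : V) : ruN B b m c₀ x = ru B b m c₀ x - x := by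
  simp [ruN]

/-- the top-coefficient multipliers of `ruN` -/
def ruc (m : ℕ) (F : Type*) [Field F] (i : ℕ) : F := if i ≤ m then -1 else 1

omit hb in
theorem ruc_ne_zero (i : ℕ) : ruc m F i ≠ 0 := by
  unfold ruc
  split_ifs
  · exact neg_ne_zero.mpr one_ne_zero
  · exact one_ne_zero

theorem ru_lowers (hm : 1 ≤ m) (c₀ : F) : Lowers B b m (ruN B b m c₀) (ruc m F) where
  zero := by rw [ruN_apply, ru_b0 hb hm, sub_self]
  mem := by
    intro i hi1 hi
    rw [ruN_apply]
    by_cases him : i ≤ m
    · rw [ru_low hb hm c₀ hi1 him]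
      have : b i - b (i - 1) - b i = -b (i - 1) := by abel
      rw [this]
      exact Submodule.neg_mem _ (hb.mem_Fl_basis (by omega) (by omega))
    · rw [ru_high hb hm c₀ (by omega) hi]
      have e : i = (i - 1) + 1 := by omega
      have : ∑ l ∈ Finset.Icc m i, b l + c₀ • b (m - 1) - b i =
          ∑ l ∈ Finset.Icc m (i - 1), b l + c₀ • b (m - 1) := by
        conv_lhs => rw [e, Finset.sum_Icc_succ_top (by omega)]
        rw [← e]
        abel
      rw [this]
      refine Submodule.add_mem _ (Submodule.sum_mem _ ?_)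
        (Submodule.smul_mem _ _ (hb.mem_Fl_basis (by omega) (by omega)))
      intro l hl
      rw [Finset.mem_Icc] at hl
      exact hb.mem_Fl_basis (by omega) (by omega)
  top := by
    intro i hi1 hi
    rw [ruN_apply]
    by_cases him : i ≤ m
    · rw [ru_low hb hm c₀ hi1 him]
      have : b i - b (i - 1) - b i = -b (i - 1) := by abel
      rw [this, map_neg, LinearMap.neg_apply, hb.pair (by omega) (by omega)]
      simp [ruc, him]
    · rw [ru_high hb hm c₀ (by omega) hi]
      have e : i = (i - 1) + 1 := by omega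
      have : ∑ l ∈ Finset.Icc m i, b l + c₀ • b (m - 1) - b i =
          ∑ l ∈ Finset.Icc m (i - 1), b l + c₀ • b (m - 1) := by
        conv_lhs => rw [e, Finset.sum_Icc_succ_top (by omega)]
        rw [← e]
        abel
      rw [this, map_add, LinearMap.add_apply, map_smul, LinearMap.smul_apply, map_sum,
        LinearMap.sum_apply, hb.orth (by omega) (by omega) (by omega), smul_zero, add_zero]
      have hterm : ∀ l ∈ Finset.Icc m (i - 1), B (b l) (b (2 * m + 1 - i)) =
          if l = i - 1 then 1 else 0 := by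
        intro l hl
        rw [Finset.mem_Icc] at hl
        rw [hb.gram l _ (by omega) (by omega)]
        have : (l + (2 * m + 1 - i) = 2 * m) ↔ (l = i - 1) := by omega
        simp only [this]
      rw [Finset.sum_congr rfl hterm, Finset.sum_ite_eq', if_pos (by rw [Finset.mem_Icc]; omega)]
      simp [ruc, him]

/-- `ru` is a regular unipotent element -/
theorem ru_regular (hm : 1 ≤ m) (c₀ : F) :
    (ruN B b m c₀) ^ (2 * m + 1) = 0 ∧ (ruN B b m c₀) ^ (2 * m) ≠ 0 :=
  ⟨(ru_lowers hb hm c₀).pow_eq_zero hb,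
    (ru_lowers hb hm c₀).pow_ne_zero hb (fun i _ _ => ruc_ne_zero i)⟩

end Cfsg.Agent.Lib.Helper83_SUReg
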