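import Mathlib
import Cfsg.Agent.Lib.Helper83_SUReg

/-!
# The opposite regular unipotent element (helper83)

`gw` is a product of Weyl elements `wey i` (each a product of three unitary transvections), it
maps `b j ↦ -a⁻¹ • b (2m-j)` and `b (2m-j) ↦ a • b j` for `j < m`; `rv = gw * ru * gw⁻¹` is a
regular unipotent element stabilising the opposite flag.
-/

set_option autoImplicit false
set_option linter.unusedSectionVars false
set_option linter.unusedVariables false
set_option linter.unusedSimpArgs false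

namespace Cfsg.Agent.Lib.Helper83_SUWeyl

open Module Cfsg.Agent.Lib.Helper94_Herm Cfsg.Agent.Lib.Helper94_HermEich
  Cfsg.Agent.Lib.Helper94_HermPara Cfsg.Agent.Lib.Helper13_SUGen
  Cfsg.Agent.Lib.Helper83_SUChain Cfsg.Agent.Lib.Helper83_SUEich Cfsg.Agent.Lib.Helper83_SUReg

variable {F V : Type*} [Field F] [AddCommGroup V] [Module F V]
variable {σ : F →+* F} (B : V →ₗ[F] V →ₛₗ[σ] F)

/-- the Weyl element exchanging `b i` and `b (2m-i)` up to scalars -/
noncomputable def wey (b : ℕ → V) (m : ℕ) (a : F) (i : ℕ) : V ≃ₗ[F] V :=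
  utv B (b i) a * utv B (b (2 * m - i)) (-a⁻¹) * utv B (b i) a

/-- `Gk k = wey (k-1) * ⋯ * wey 0` -/
noncomputable def Gk (b : ℕ → V) (m : ℕ) (a : F) : ℕ → (V ≃ₗ[F] V)
  | 0 => 1
  | k + 1 => wey B b m a k * Gk b m a k

/-- the full Weyl element -/
noncomputable def gw (b : ℕ → V) (m : ℕ) (a : F) : V ≃ₗ[F] V := Gk B b m a m

/-- the opposite regular unipotent element -/
noncomputable def rv (b : ℕ → V) (m : ℕ) (c₀ a : F) : V ≃ₗ[F] V :=
  gw B b m a * ru B b m c₀ * (gw B b m a)⁻¹

variable {B}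
variable {m : ℕ} {b : ℕ → V} (hb : Chain B m b) {a : F} (ha0 : a ≠ 0) (ha : σ a = -a)

include hb ha0 ha

theorem wey_basis {i : ℕ} (hi : i < m) {j : ℕ} (hj : j ≤ 2 * m) :
    wey B b m a i (b j) =
      if j = i then (-a⁻¹) • b (2 * m - i)
      else if j = 2 * m - i then a • b i
      else b j := by
  have hi1 : B (b i) (b i) = 0 := hb.iso (by omega) (by omega)
  have hi2 : B (b (2 * m - i)) (b (2 * m - i)) = 0 := hb.iso (by omega) (by omega)
  have hp1 : B (b i) (b (2 * m - i)) = 1 := hb.pair (by omega) (by omega)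
  have hp2 : B (b (2 * m - i)) (b i) = 1 := hb.pair (by omega) (by omega)
  have haa : a * a⁻¹ = 1 := mul_inv_cancel₀ ha0
  unfold wey
  simp only [LinearEquiv.mul_apply]
  by_cases h1 : j = i
  · subst h1
    rw [if_pos rfl]
    simp only [utv_apply B hi1, utv_apply B hi2, map_add, map_smul, LinearMap.add_apply,
      LinearMap.smul_apply, smul_eq_mul, hi1, hi2, hp1, hp2, mul_zero, mul_one, zero_smul,
      add_zero, smul_add, smul_smul]
    match_scalars
    · linear_combination -haa
    · ring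
  · rw [if_neg h1]
    by_cases h2 : j = 2 * m - i
    · subst h2
      rw [if_pos rfl]
      simp only [utv_apply B hi1, utv_apply B hi2, map_add, map_smul, LinearMap.add_apply,
        LinearMap.smul_apply, smul_eq_mul, hi1, hi2, hp1, hp2, mul_zero, mul_one, zero_smul,
        add_zero, smul_add, smul_smul]
      match_scalars
      · linear_combination -haa
      · linear_combination (-a) * haa
    · rw [if_neg h2]
      have o1 : B (b j) (b i) = 0 := hb.orth hj (by omega) (by omega)
      have o2 : B (b j) (b (2 * m - i)) = 0 := hb.orth hj (by omega) (by omega)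
      rw [utv_fix B _ _ o1, utv_fix B _ _ o2, utv_fix B _ _ o1]

omit hb ha0 in
theorem wey_mem (hB : IsHerm B) (hσ : Invol σ) (i : ℕ) : wey B b m a i ∈ uG B := by
  have ha' : σ (-a⁻¹) = -(-a⁻¹) := by
    rw [map_neg, map_inv₀, ha, inv_neg]
  exact (uG B).mul_mem ((uG B).mul_mem (utv_mem_uG hB _ ha) (utv_mem_uG hB _ ha'))
    (utv_mem_uG hB _ ha)

omit hb ha0 ha in
theorem det_wey (i : ℕ) : LinearEquiv.det (wey B b m a i) = 1 := by
  unfold wey
  rw [map_mul, map_mul, det_utv, det_utv]
  simp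

omit hb ha0 in
theorem Gk_mem (hB : IsHerm B) (hσ : Invol σ) : ∀ k, Gk B b m a k ∈ uG B := by
  intro k
  induction k with
  | zero => exact (uG B).one_mem
  | succ k ih => exact (uG B).mul_mem (wey_mem ha hB hσ k) ih

omit hb ha0 ha in
theorem det_Gk : ∀ k, LinearEquiv.det (Gk B b m a k) = 1 := by
  intro k
  induction k with
  | zero => exact map_one _
  | succ k ih =>
    show LinearEquiv.det (wey B b m a k * Gk B b m a k) = 1
    rw [map_mul, ih, det_wey, mul_one]

theorem Gk_basis : ∀ k, k ≤ m → ∀ j, j ≤ 2 * m →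
    Gk B b m a k (b j) =
      if j < k then (-a⁻¹) • b (2 * m - j)
      else if 2 * m < j + k then a • b (2 * m - j)
      else b j := by
  intro k
  induction k with
  | zero =>
    intro _ j hj
    simp only [Gk, LinearEquiv.coe_one, id_eq]
    rw [if_neg (by omega), if_neg (by omega)]
  | succ k ih =>
    intro hk j hj
    show wey B b m a k (Gk B b m a k (b j)) = _
    rw [ih (by omega) j hj]
    by_cases h1 : j < k
    · rw [if_pos h1, if_pos (show j < k + 1 by omega), map_smul,
        wey_basis hb ha0 ha (by omega : k < m) (by omega : 2 * m - j ≤ 2 * m),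
        if_neg (show ¬ (2 * m - j = k) by omega), if_neg (show ¬ (2 * m - j = 2 * m - k) by omega)]
    · rw [if_neg h1]
      by_cases h2 : 2 * m < j + k
      · rw [if_pos h2, if_neg (show ¬ (j < k + 1) by omega),
          if_pos (show 2 * m < j + (k + 1) by omega), map_smul,
          wey_basis hb ha0 ha (by omega : k < m) (by omega : 2 * m - j ≤ 2 * m),
          if_neg (show ¬ (2 * m - j = k) by omega),
          if_neg (show ¬ (2 * m - j = 2 * m - k) by omega)]
      · rw [if_neg h2, wey_basis hb ha0 ha (by omega : k < m) hj]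
        by_cases h3 : j = k
        · rw [if_pos h3, if_pos (show j < k + 1 by omega), h3]
        · rw [if_neg h3, if_neg (show ¬ (j < k + 1) by omega)]
          by_cases h4 : j = 2 * m - k
          · rw [if_pos h4, if_pos (show 2 * m < j + (k + 1) by omega)]
            have : 2 * m - j = k := by omega
            rw [this]
          · rw [if_neg h4, if_neg (show ¬ (2 * m < j + (k + 1)) by omega)]

theorem gw_low {j : ℕ} (hj : j < m) : gw B b m a (b j) = (-a⁻¹) • b (2 * m - j) := by
  unfold gw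
  rw [Gk_basis hb ha0 ha m (le_refl m) j (by omega), if_pos hj]

theorem gw_mid : gw B b m a (b m) = b m := by
  unfold gw
  rw [Gk_basis hb ha0 ha m (le_refl m) m (by omega), if_neg (by omega), if_neg (by omega)]

theorem gw_high {j : ℕ} (hj1 : m < j) (hj : j ≤ 2 * m) :
    gw B b m a (b j) = a • b (2 * m - j) := by
  unfold gw
  rw [Gk_basis hb ha0 ha m (le_refl m) j hj, if_neg (by omega), if_pos (by omega)]

theorem gw_inv_low {j : ℕ} (hj : j < m) : (gw B b m a)⁻¹ (b j) = a⁻¹ • b (2 * m - j) := by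
  have h := gw_high hb ha0 ha (j := 2 * m - j) (by omega) (by omega)
  have e : 2 * m - (2 * m - j) = j := by omega
  rw [e] at h
  have : b j = a⁻¹ • gw B b m a (b (2 * m - j)) := by
    rw [h, smul_smul, inv_mul_cancel₀ ha0, one_smul]
  rw [this, ← map_smul]
  exact (LinearEquiv.symm_apply_apply (gw B b m a) _)

theorem gw_inv_mid : (gw B b m a)⁻¹ (b m) = b m := by
  have h := gw_mid hb ha0 ha
  conv_lhs => rw [← h]
  exact (LinearEquiv.symm_apply_apply (gw B b m a) _)

theorem gw_inv_high {j : ℕ} (hj1 : m < j) (hj : j ≤ 2 * m) :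
    (gw B b m a)⁻¹ (b j) = (-a) • b (2 * m - j) := by
  have h := gw_low hb ha0 ha (j := 2 * m - j) (by omega)
  have e : 2 * m - (2 * m - j) = j := by omega
  rw [e] at h
  have : b j = (-a) • gw B b m a (b (2 * m - j)) := by
    rw [h, smul_smul]
    have : -a * -a⁻¹ = 1 := by
      rw [neg_mul_neg]; exact mul_inv_cancel₀ ha0
    rw [this, one_smul]
  rw [this, ← map_smul]
  exact (LinearEquiv.symm_apply_apply (gw B b m a) _)

omit hb ha0 in
theorem gw_mem (hB : IsHerm B) (hσ : Invol σ) : gw B b m a ∈ uG B := Gk_mem ha hB hσ m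

omit hb ha0 ha in
theorem det_gw : LinearEquiv.det (gw B b m a) = 1 := det_Gk m

omit ha0 in
theorem rv_mem (hB : IsHerm B) (hσ : Invol σ) (hm : 1 ≤ m) {c₀ : F} (hc₀ : c₀ + σ c₀ = -1) :
    rv B b m c₀ a ∈ uG B :=
  (uG B).mul_mem ((uG B).mul_mem (gw_mem ha hB hσ) (ru_mem hb hB hm hc₀))
    ((uG B).inv_mem (gw_mem ha hB hσ))

omit ha0 ha in
/-- `ru⁻¹` on the upper part of the chain -/
theorem ru_inv_high (hm : 1 ≤ m) (c₀ : F) {i : ℕ} (hi1 : m + 2 ≤ i) (hi : i ≤ 2 * m) :
    (ru B b m c₀)⁻¹ (b i) = b i - b (i - 1) := by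
  have h1 := ru_high hb hm c₀ (by omega : m < i) hi
  have h2 := ru_high hb hm c₀ (by omega : m < i - 1) (by omega)
  have e : i = (i - 1) + 1 := by omega
  have h3 : ru B b m c₀ (b i - b (i - 1)) = b i := by
    rw [map_sub, h1, h2]
    conv_lhs => rw [e, Finset.sum_Icc_succ_top (by omega)]
    rw [← e]
    abel
  conv_lhs => rw [← h3]
  exact (LinearEquiv.symm_apply_apply (ru B b m c₀) _)

omit ha0 ha in
/-- pairings of the last column of `ru` -/
theorem ru_top_pair (hm : 1 ≤ m) (c₀ : F) {j : ℕ} (hj : j ≤ 2 * m) :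
    B (ru B b m c₀ (b (2 * m))) (b j) =
      (if j ≤ m then 1 else 0) + (if j = m + 1 then c₀ else 0) := by
  rw [ru_high hb hm c₀ (by omega) (le_refl _), map_add, LinearMap.add_apply, map_smul,
    LinearMap.smul_apply, map_sum, LinearMap.sum_apply, hb.gram (m - 1) j (by omega) hj]
  have hterm : ∀ l ∈ Finset.Icc m (2 * m), B (b l) (b j) = if l = 2 * m - j then 1 else 0 := by
    intro l hl
    rw [Finset.mem_Icc] at hl
    rw [hb.gram l j (by omega) hj]
    have : (l + j = 2 * m) ↔ (l = 2 * m - j) := by omega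
    simp only [this]
  rw [Finset.sum_congr rfl hterm, Finset.sum_ite_eq']
  have e1 : (2 * m - j ∈ Finset.Icc m (2 * m)) ↔ (j ≤ m) := by
    rw [Finset.mem_Icc]; omega
  have e2 : (m - 1 + j = 2 * m) ↔ (j = m + 1) := by omega
  simp only [e1, e2]
  split_ifs <;> simp

/-- `rv⁻¹` on the lower part of the chain -/
theorem rv_inv_low (hm : 1 ≤ m) (c₀ : F) {j : ℕ} (hj : j + 2 ≤ m) :
    (rv B b m c₀ a)⁻¹ (b j) = b j - b (j + 1) := by
  have e : (rv B b m c₀ a)⁻¹ = gw B b m a * (ru B b m c₀)⁻¹ * (gw B b m a)⁻¹ := by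
    unfold rv; group
  rw [e]
  simp only [LinearEquiv.mul_apply]
  rw [gw_inv_low hb ha0 ha (by omega), map_smul,
    ru_inv_high hb hm c₀ (by omega) (by omega), map_smul, map_sub,
    gw_high hb ha0 ha (by omega) (by omega), gw_high hb ha0 ha (by omega) (by omega)]
  have e1 : 2 * m - (2 * m - j) = j := by omega
  have e2 : 2 * m - (2 * m - j - 1) = j + 1 := by omega
  rw [e1, e2, ← smul_sub, smul_smul, inv_mul_cancel₀ ha0, one_smul]

/-- pairings of `p = rv (b 0)` with the lower half of the chain -/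
theorem rv_b0_pair (hB : IsHerm B) (hσ : Invol σ) (hm : 1 ≤ m) (c₀ : F) {j : ℕ} (hj : j ≤ m) :
    B (rv B b m c₀ a (b 0)) (b j) =
      if j = m then a⁻¹ else if j + 1 = m then -(c₀ * a⁻¹ * a⁻¹) else 0 := by
  have hg := gw_mem (b := b) (m := m) ha hB hσ
  have hσa : σ a⁻¹ = -a⁻¹ := by rw [map_inv₀, ha, inv_neg]
  have e1 : B (rv B b m c₀ a (b 0)) (b j) =
      B (ru B b m c₀ ((gw B b m a)⁻¹ (b 0))) ((gw B b m a)⁻¹ (b j)) := by
    unfold rv
    simp only [LinearEquiv.mul_apply]
    have h := uG_inv_apply B ((uG B).inv_mem hg) (ru B b m c₀ ((gw B b m a)⁻¹ (b 0))) (b j)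
    rw [inv_inv] at h
    exact h
  rw [e1, gw_inv_low hb ha0 ha (by omega : 0 < m), map_smul, map_smul, LinearMap.smul_apply,
    Nat.sub_zero]
  by_cases h1 : j = m
  · subst h1
    rw [if_pos rfl, gw_inv_mid hb ha0 ha, ru_top_pair hb hm c₀ (by omega), if_pos (le_refl _),
      if_neg (by omega)]
    simp
  · rw [if_neg h1, gw_inv_low hb ha0 ha (by omega), map_smulₛₗ, hσa,
      ru_top_pair hb hm c₀ (by omega), if_neg (show ¬ (2 * m - j ≤ m) by omega)]
    by_cases h2 : j + 1 = m
    · rw [if_pos h2, if_pos (show 2 * m - j = m + 1 by omega)]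
      simp only [smul_eq_mul]
      ring
    · rw [if_neg h2, if_neg (show ¬ (2 * m - j = m + 1) by omega)]
      simp

/-- the images `rv^k (b 0)` climb the flag -/
theorem rv_climb (hB : IsHerm B) (hσ : Invol σ) (hm : 1 ≤ m) {c₀ : F}
    (hc₀ : c₀ + σ c₀ = -1) : ∀ k, 1 ≤ k → k ≤ m →
      ((rv B b m c₀ a) ^ k) (b 0) ∈ Fl B b m (m + k + 1) ∧
        B (((rv B b m c₀ a) ^ k) (b 0)) (b (m - k)) ≠ 0 := by
  have hv := rv_mem hb ha hB hσ hm hc₀
  have hc0 : c₀ ≠ 0 := by
    rintro rfl
    rw [map_zero, add_zero] at hc₀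
    exact one_ne_zero (neg_eq_zero.mp hc₀.symm)
  intro k hk1
  induction k, hk1 using Nat.le_induction with
  | base =>
    intro _
    rw [pow_one]
    constructor
    · intro j hj
      rw [rv_b0_pair hb ha0 ha hB hσ hm c₀ (by omega), if_neg (by omega), if_neg (by omega)]
    · rw [rv_b0_pair hb ha0 ha hB hσ hm c₀ (by omega), if_neg (by omega), if_pos (by omega)]
      exact neg_ne_zero.mpr (mul_ne_zero (mul_ne_zero hc0 (inv_ne_zero ha0)) (inv_ne_zero ha0))
  | succ k hk1 ih =>
    intro hk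
    obtain ⟨h1, h2⟩ := ih (by omega)
    have hstep : ∀ j, j + 2 ≤ m → B (((rv B b m c₀ a) ^ (k + 1)) (b 0)) (b j) =
        B (((rv B b m c₀ a) ^ k) (b 0)) (b j) - B (((rv B b m c₀ a) ^ k) (b 0)) (b (j + 1)) := by
      intro j hj
      rw [pow_succ', LinearEquiv.mul_apply]
      have := uG_inv_apply B ((uG B).inv_mem hv) (((rv B b m c₀ a) ^ k) (b 0)) (b j)
      rw [inv_inv] at this
      rw [this, rv_inv_low hb ha0 ha hm c₀ hj, map_sub]
    constructor
    · intro j hj
      rw [hstep j (by omega), h1 j (by omega), h1 (j + 1) (by omega), sub_zero]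
    · rw [hstep (m - (k + 1)) (by omega), h1 (m - (k + 1)) (by omega), zero_sub]
      have e : m - (k + 1) + 1 = m - k := by omega
      rw [e]
      exact neg_ne_zero.mpr h2

end Cfsg.Agent.Lib.Helper83_SUWeyl
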