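import Mathlib
import Cfsg.Agent.Lib.Helper83_SUWeyl
import Cfsg.Agent.Lib.Helper83_SUParam

/-!
# Filling the unipotent radical of the point stabiliser (helper83)

With a chain basis `b 0, …, b (2m)` (`m ≥ 2`), the regular unipotent `u = ru`, its opposite
`v = rv`, and one Eichler element `eich (b 0) (θ • b m + ψ₀ • b (m-1)) c` in a subgroup `H`
(containing `u` and `v`), with a norm condition on the parameters, the whole unipotent radical
`{eich (b 0) y c}` lies in `H` (`core`).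
-/

set_option autoImplicit false
set_option linter.unusedSectionVars false
set_option linter.unusedVariables false
set_option linter.unusedSimpArgs false

namespace Cfsg.Agent.Lib.Helper83_SUMain

open Module Cfsg.Agent.Lib.Helper94_Herm Cfsg.Agent.Lib.Helper94_HermEich
  Cfsg.Agent.Lib.Helper94_HermPara Cfsg.Agent.Lib.Helper13_SUGen
  Cfsg.Agent.Lib.Helper83_SUChain Cfsg.Agent.Lib.Helper83_SUEich Cfsg.Agent.Lib.Helper83_SUReg
  Cfsg.Agent.Lib.Helper83_SUWeyl Cfsg.Agent.Lib.Helper83_SUParam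

variable {F V : Type*} [Field F] [AddCommGroup V] [Module F V]
variable {σ : F →+* F} {B : V →ₗ[F] V →ₛₗ[σ] F}
variable {m : ℕ} {b : ℕ → V} (hb : Chain B m b)

include hb

/-- the norm of a vector of `Fl (m+1)` is the norm of its top coefficient -/
theorem flag_norm (hB : IsHerm B) {x : V} (hx : x ∈ Fl B b m (m + 1)) :
    B x x = B x (b m) * σ (B x (b m)) := by
  have h : B x x = B (∑ i ∈ Finset.range (2 * m + 1), B x (b (2 * m - i)) • b i) x :=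
    congrArg (fun z => B z x) (hb.expand x)
  rw [h, map_sum, LinearMap.sum_apply]
  rw [Finset.sum_eq_single m]
  · rw [map_smul, LinearMap.smul_apply, smul_eq_mul, hB x (b m)]
    have e : 2 * m - m = m := by omega
    rw [e]
  · intro i hi him
    rw [Finset.mem_range] at hi
    rw [map_smul, LinearMap.smul_apply, smul_eq_mul]
    by_cases hlt : i < m
    · rw [hB x (b i), hx i (by omega), map_zero, mul_zero]
    · rw [hx (2 * m - i) (by omega), zero_mul]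
  · intro h0
    exfalso
    apply h0
    rw [Finset.mem_range]
    omega

/-- the `u`-chain below `θ • b m + ψ₀ • b (m-1)` -/
theorem u_chain (hB : IsHerm B) (hm : 1 ≤ m) {c₀ : F} (hc₀ : c₀ + σ c₀ = -1)
    {H : Subgroup (V ≃ₗ[F] V)} (huH : ru B b m c₀ ∈ H) {θ ψ₀ : F}
    (h0 : InQ B H (b 0) (θ • b m + ψ₀ • b (m - 1))) :
    ∀ k, k + 1 ≤ m → InQ B H (b 0) (θ • b (m - k) + ψ₀ • b (m - k - 1)) := by
  have hw : B (b 0) (b 0) = 0 := hb.iso (by omega) (by omega)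
  have hu := ru_mem hb hB hm hc₀
  have huw := ru_b0 hb hm c₀
  intro k
  induction k with
  | zero =>
    intro _
    simpa using h0
  | succ k ih =>
    intro hk
    have h1 := ih (by omega)
    have h2 := InQ.conj huH hu huw h1
    have h3 := InQ.sub hB hw h1 h2
    have e : θ • b (m - k) + ψ₀ • b (m - k - 1) -
        ru B b m c₀ (θ • b (m - k) + ψ₀ • b (m - k - 1)) =
        θ • b (m - (k + 1)) + ψ₀ • b (m - (k + 1) - 1) := by
      rw [map_add, map_smul, map_smul, ru_low hb hm c₀ (by omega : 1 ≤ m - k) (by omega),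
        ru_low hb hm c₀ (by omega : 1 ≤ m - k - 1) (by omega)]
      have e1 : m - k - 1 = m - (k + 1) := by omega
      have e2 : m - k - 1 - 1 = m - (k + 1) - 1 := by omega
      rw [e2, e1]
      module
    rwa [e] at h3

/-- the first transvection -/
theorem first_tv (hB : IsHerm B) (hσ : Invol σ) (hm : 1 ≤ m) {c₀ : F} (hc₀ : c₀ + σ c₀ = -1)
    {H : Subgroup (V ≃ₗ[F] V)} (huH : ru B b m c₀ ∈ H) {θ ψ₀ : F}
    (h0 : InQ B H (b 0) (θ • b m + ψ₀ • b (m - 1))) :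
    utv B (b 0) (σ θ - θ) ∈ H := by
  have hw : B (b 0) (b 0) = 0 := hb.iso (by omega) (by omega)
  have hu := ru_mem hb hB hm hc₀
  have huw := ru_b0 hb hm c₀
  have h1 := u_chain hb hB hm hc₀ huH h0 (m - 1) (by omega)
  have e1 : m - (m - 1) = 1 := by omega
  have e2 : m - (m - 1) - 1 = 0 := by omega
  rw [e2, e1] at h1
  have h2 := InQ.add_smul_self hB hw hσ h1 (-ψ₀)
  have e3 : θ • b 1 + ψ₀ • b 0 + -ψ₀ • b 0 = θ • b 1 := by module
  rw [e3] at h2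
  obtain ⟨hyw, c', hc', hmem⟩ := h2
  have hwy := herm_eq_zero hB hyw
  have hconj : ru B b m c₀ * eich B (b 0) (θ • b 1) c' * (ru B b m c₀)⁻¹ ∈ H :=
    H.mul_mem (H.mul_mem huH hmem) (H.inv_mem huH)
  rw [conj_eich hu, huw, map_smul, ru_low hb hm c₀ (le_refl 1) hm] at hconj
  have e4 : θ • (b 1 - b (1 - 1)) = θ • b 1 + (-θ) • b 0 := by
    simp only [Nat.sub_self]
    module
  rw [e4, eich_add_smul hw hyw hwy] at hconj
  have e5 : c' + -θ - σ (-θ) = c' + (σ θ - θ) := by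
    rw [map_neg]; ring
  rw [e5, ← eich_mul_utv hw hyw hwy] at hconj
  have : utv B (b 0) (σ θ - θ) =
      (eich B (b 0) (θ • b 1) c')⁻¹ * (eich B (b 0) (θ • b 1) c' * utv B (b 0) (σ θ - θ)) := by
    group
  rw [this]
  exact H.mul_mem (H.inv_mem hmem) hconj

section P

variable {a : F} (ha0 : a ≠ 0) (ha : σ a = -a) (hB : IsHerm B) (hσ : Invol σ) (hm : 2 ≤ m)
  {c₀ : F} (hc₀ : c₀ + σ c₀ = -1)

include ha0 ha hB hσ hm hc₀

theorem p_iso : B (rv B b m c₀ a (b 0)) (rv B b m c₀ a (b 0)) = 0 := by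
  rw [rv_mem hb ha hB hσ (by omega) hc₀]
  exact hb.iso (by omega) (by omega)

theorem p_mem_Fl : rv B b m c₀ a (b 0) ∈ Fl B b m (m + 2) := by
  intro j hj
  rw [rv_b0_pair hb ha0 ha hB hσ (by omega) c₀ (by omega), if_neg (by omega), if_neg (by omega)]

theorem p_orth : B (rv B b m c₀ a (b 0)) (b 0) = 0 :=
  p_mem_Fl hb ha0 ha hB hσ hm hc₀ 0 (by omega)

theorem p_mid : B (rv B b m c₀ a (b 0)) (b m) = a⁻¹ := by
  rw [rv_b0_pair hb ha0 ha hB hσ (by omega) c₀ (le_refl m), if_pos rfl]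

theorem p_top : B (rv B b m c₀ a (b 0)) (b (m - 1)) = -(c₀ * a⁻¹ * a⁻¹) := by
  rw [rv_b0_pair hb ha0 ha hB hσ (by omega) c₀ (by omega), if_neg (by omega), if_pos (by omega)]

theorem p_tr :
    B (rv B b m c₀ a (b 0)) (ru B b m c₀ (rv B b m c₀ a (b 0))) +
      B (ru B b m c₀ (rv B b m c₀ a (b 0))) (rv B b m c₀ a (b 0)) =
      -((-(c₀ * a⁻¹ * a⁻¹)) * σ (-(c₀ * a⁻¹ * a⁻¹))) := by
  have hu := ru_mem hb hB (by omega : 1 ≤ m) hc₀
  rw [tr_pair hu (p_iso hb ha0 ha hB hσ hm hc₀)]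
  have hL := ru_lowers hb (by omega : 1 ≤ m) c₀
  have hp := p_mem_Fl hb ha0 ha hB hσ hm hc₀
  have h1 := hL.map_mem' hb (k := m + 1) (by omega) hp
  have h2 := hL.map_top hb (k := m + 1) (by omega) (by omega) hp
  have e1 : 2 * m + 1 - (m + 1) = m := by omega
  have e2 : 2 * m - (m + 1) = m - 1 := by omega
  rw [e1, e2, p_top hb ha0 ha hB hσ hm hc₀] at h2
  have e3 : ruc m F (m + 1) = 1 := by
    unfold ruc
    rw [if_neg (by omega)]
  rw [e3, one_mul] at h2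
  rw [ruN_apply] at h1 h2
  rw [flag_norm hb hB h1, h2]

theorem p_psi (θ ψ₀ : F) :
    B (θ • b m + ψ₀ • b (m - 1)) (rv B b m c₀ a (b 0)) =
      θ * σ a⁻¹ + ψ₀ * σ (-(c₀ * a⁻¹ * a⁻¹)) := by
  rw [map_add, LinearMap.add_apply, map_smul, map_smul, LinearMap.smul_apply,
    LinearMap.smul_apply, smul_eq_mul, smul_eq_mul, hB _ (b m), hB _ (b (m - 1)),
    p_mid hb ha0 ha hB hσ hm hc₀, p_top hb ha0 ha hB hσ hm hc₀]

/-- all the transvections with centre `b 0` lie in `H` -/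
theorem all_tv [Finite F] {H : Subgroup (V ≃ₗ[F] V)} (huH : ru B b m c₀ ∈ H)
    (hvH : rv B b m c₀ a ∈ H) {θ ψ₀ β₀ : F} (hθ : σ θ ≠ θ) (hβfix : σ β₀ = β₀)
    (hβ : ∀ A : AddSubgroup F, (∀ s ∈ A, β₀ * s ∈ A) → ∀ s₁ ∈ A, ∀ r, σ r = r → r * s₁ ∈ A)
    (h0 : InQ B H (b 0) (θ • b m + ψ₀ • b (m - 1)))
    (hn1 : (2 : F) ≠ 0 → 2 * ((θ * σ a⁻¹ + ψ₀ * σ (-(c₀ * a⁻¹ * a⁻¹))) *
      σ (θ * σ a⁻¹ + ψ₀ * σ (-(c₀ * a⁻¹ * a⁻¹)))) = β₀)
    (hn2 : (2 : F) = 0 → (σ θ - θ) * ((θ * σ a⁻¹ + ψ₀ * σ (-(c₀ * a⁻¹ * a⁻¹))) *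
      σ (θ * σ a⁻¹ + ψ₀ * σ (-(c₀ * a⁻¹ * a⁻¹)))) *
      ((-(c₀ * a⁻¹ * a⁻¹)) * σ (-(c₀ * a⁻¹ * a⁻¹))) = β₀) :
    ∀ s, σ s = -s → utv B (b 0) s ∈ H := by
  have hm1 : 1 ≤ m := by omega
  have hw : B (b 0) (b 0) = 0 := hb.iso (by omega) (by omega)
  have hu := ru_mem hb hB hm1 hc₀
  have huw := ru_b0 hb hm1 c₀
  have hv := rv_mem hb ha hB hσ hm1 hc₀
  have hp := p_iso hb ha0 ha hB hσ hm hc₀
  have hpw := p_orth hb ha0 ha hB hσ hm hc₀
  have hψ := p_psi hb ha0 ha hB hσ hm hc₀ θ ψ₀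
  have htr := p_tr hb ha0 ha hB hσ hm hc₀
  have hs₁ := first_tv hb hB hσ hm1 hc₀ huH h0
  have hs₁skew : σ (σ θ - θ) = -(σ θ - θ) := by rw [map_sub, hσ.invol]; ring
  have hs₁0 : σ θ - θ ≠ 0 := sub_ne_zero.mpr hθ
  -- transvections with centre `p`
  have hTp : ∀ s, σ s = -s → utv B (b 0) s ∈ H → utv B (rv B b m c₀ a (b 0)) s ∈ H := by
    intro s hs hT
    rw [← conj_utv hv]
    exact H.mul_mem (H.mul_mem hvH hT) (H.inv_mem hvH)
  set ψ := θ * σ a⁻¹ + ψ₀ * σ (-(c₀ * a⁻¹ * a⁻¹)) with hψdef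
  have hNψ : σ (ψ * σ ψ) = ψ * σ ψ := by rw [map_mul, hσ.invol, mul_comm]
  have hA : ∀ s ∈ A1 B H (b 0) hw, β₀ * s ∈ A1 B H (b 0) hw := by
    rintro s ⟨hs, hT⟩
    by_cases h2 : (2 : F) = 0
    · have hneg : ∀ x : F, -x = x := by
        intro x
        have : x + x = 0 := by linear_combination x * h2
        linear_combination -this
      have hc := closure_even hB hw hp hpw huH hu huw h0 hs hs₁skew (hTp s hs hT)
        (hTp _ hs₁skew hs₁)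
      rw [hψ] at hc
      have hdiff : B (rv B b m c₀ a (b 0)) (ru B b m c₀ (rv B b m c₀ a (b 0))) -
            B (ru B b m c₀ (rv B b m c₀ a (b 0))) (rv B b m c₀ a (b 0)) =
            -((-(c₀ * a⁻¹ * a⁻¹)) * σ (-(c₀ * a⁻¹ * a⁻¹))) := by
        rw [← htr, sub_eq_add_neg,
          hneg (B (ru B b m c₀ (rv B b m c₀ a (b 0))) (rv B b m c₀ a (b 0)))]
      have e : -(s * (σ θ - θ) * (ψ * σ ψ) *
          (B (rv B b m c₀ a (b 0)) (ru B b m c₀ (rv B b m c₀ a (b 0))) -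
            B (ru B b m c₀ (rv B b m c₀ a (b 0))) (rv B b m c₀ a (b 0)))) = β₀ * s := by
        rw [hdiff, ← hn2 h2]
        ring
      rw [e] at hc
      refine ⟨?_, hc⟩
      rw [map_mul, hβfix, hs, mul_neg]
    · have hc := closure_odd hB hw hp hpw h0 hs (hTp s hs hT)
      rw [hψ] at hc
      have hc' : utv B (b 0) (-(2 * (ψ * σ ψ) * s)) ∈ H := hc
      have hmem : -(2 * (ψ * σ ψ) * s) ∈ A1 B H (b 0) hw := by
        refine ⟨?_, hc'⟩
        rw [hn1 h2, map_neg, map_mul, hβfix, hs, mul_neg]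
      have := (A1 B H (b 0) hw).neg_mem hmem
      rw [neg_neg, hn1 h2] at this
      exact this
  intro s hs
  exact (all_skew hβ (A1 B H (b 0) hw) hA ⟨hs₁skew, hs₁⟩ hs₁0 hs₁skew s hs).2

/-- the whole unipotent radical of the stabiliser of `b 0` lies in `H` -/
theorem core [Finite F] {H : Subgroup (V ≃ₗ[F] V)} (huH : ru B b m c₀ ∈ H)
    (hvH : rv B b m c₀ a ∈ H) {θ ψ₀ β₀ : F} (hθ : σ θ ≠ θ) (hβfix : σ β₀ = β₀) (hβ0 : β₀ ≠ 0)
    (hβ : ∀ A : AddSubgroup F, (∀ s ∈ A, β₀ * s ∈ A) → ∀ s₁ ∈ A, ∀ r, σ r = r → r * s₁ ∈ A)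
    (h0 : InQ B H (b 0) (θ • b m + ψ₀ • b (m - 1)))
    (hn1 : (2 : F) ≠ 0 → 2 * ((θ * σ a⁻¹ + ψ₀ * σ (-(c₀ * a⁻¹ * a⁻¹))) *
      σ (θ * σ a⁻¹ + ψ₀ * σ (-(c₀ * a⁻¹ * a⁻¹)))) = β₀)
    (hn2 : (2 : F) = 0 → (σ θ - θ) * ((θ * σ a⁻¹ + ψ₀ * σ (-(c₀ * a⁻¹ * a⁻¹))) *
      σ (θ * σ a⁻¹ + ψ₀ * σ (-(c₀ * a⁻¹ * a⁻¹)))) *
      ((-(c₀ * a⁻¹ * a⁻¹)) * σ (-(c₀ * a⁻¹ * a⁻¹))) = β₀) :
    ∀ y c, B y (b 0) = 0 → c + σ c = -(B y y) → eich B (b 0) y c ∈ H := by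
  have hall := all_tv hb ha0 ha hB hσ hm hc₀ huH hvH hθ hβfix hβ h0 hn1 hn2
  have hm1 : 1 ≤ m := by omega
  have hw : B (b 0) (b 0) = 0 := hb.iso (by omega) (by omega)
  have hu := ru_mem hb hB hm1 hc₀
  have huw := ru_b0 hb hm1 c₀
  have hv := rv_mem hb ha hB hσ hm1 hc₀
  have hp := p_iso hb ha0 ha hB hσ hm hc₀
  have hpw := p_orth hb ha0 ha hB hσ hm hc₀
  have hψ := p_psi hb ha0 ha hB hσ hm hc₀ θ ψ₀
  have htr := p_tr hb ha0 ha hB hσ hm hc₀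
  have hc0 : c₀ ≠ 0 := by
    rintro rfl
    rw [map_zero, add_zero] at hc₀
    exact one_ne_zero (neg_eq_zero.mp hc₀.symm)
  have hγ0 : -(c₀ * a⁻¹ * a⁻¹) ≠ 0 :=
    neg_ne_zero.mpr (mul_ne_zero (mul_ne_zero hc0 (inv_ne_zero ha0)) (inv_ne_zero ha0))
  have hσγ0 : σ (-(c₀ * a⁻¹ * a⁻¹)) ≠ 0 := by
    intro h
    have := congrArg σ h
    rw [hσ.invol, map_zero] at this
    exact hγ0 this
  have htr0 : B (rv B b m c₀ a (b 0)) (ru B b m c₀ (rv B b m c₀ a (b 0))) +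
      B (ru B b m c₀ (rv B b m c₀ a (b 0))) (rv B b m c₀ a (b 0)) ≠ 0 := by
    rw [htr]
    exact neg_ne_zero.mpr (mul_ne_zero hγ0 hσγ0)
  -- transvections centred at the points `v^k (b 0)`
  have hTk : ∀ k s, σ s = -s → utv B (((rv B b m c₀ a) ^ k) (b 0)) s ∈ H := by
    intro k s hs
    rw [← conj_utv ((uG B).pow_mem hv k)]
    exact H.mul_mem (H.mul_mem (H.pow_mem hvH k) (hall s hs)) (H.inv_mem (H.pow_mem hvH k))
  have hTp : ∀ s, σ s = -s → utv B (rv B b m c₀ a (b 0)) s ∈ H := by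
    intro s hs
    have := hTk 1 s hs
    rwa [pow_one] at this
  -- `ψ ≠ 0`
  have hψ0 : θ * σ a⁻¹ + ψ₀ * σ (-(c₀ * a⁻¹ * a⁻¹)) ≠ 0 := by
    intro h
    apply hβ0
    by_cases h2 : (2 : F) = 0
    · rw [← hn2 h2, h]; simp
    · rw [← hn1 h2, h]; simp
  obtain ⟨s₀, hs00, hs0⟩ := exists_skew hσ
  have hl0 := InQ.tv hB hw hp hpw hs0 (hTp s₀ hs0) h0
  rw [hψ] at hl0
  have hpM : rv B b m c₀ a (b 0) ∈ MM B H (b 0) hw hB :=
    lambda_full hσ hB hw hp hpw huH hu huw hTp htr0 (mul_ne_zero hs00 hψ0) hl0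
  have hstable : ∀ x ∈ MM B H (b 0) hw hB, ruN B b m c₀ x ∈ MM B H (b 0) hw hB := by
    intro x hx
    rw [ruN_apply]
    exact MM_stable huH hu huw hx
  have hL := ru_lowers hb hm1 c₀
  have hF1 : Fl B b m (m + 1 + 1) ≤ MM B H (b 0) hw hB := by
    refine hL.cyclic hb (fun i _ _ => ruc_ne_zero i) _ hstable (m + 1) (by omega) _ hpM
      (p_mem_Fl hb ha0 ha hB hσ hm hc₀) ?_
    have e : 2 * m - (m + 1) = m - 1 := by omega
    rw [e, p_top hb ha0 ha hB hσ hm hc₀]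
    exact hγ0
  -- the point `r = v^(m-1) (b 0)`
  obtain ⟨hr1, hr2⟩ := rv_climb hb ha0 ha hB hσ hm1 hc₀ (m - 1) (by omega) (by omega)
  have e1 : m + (m - 1) + 1 = 2 * m - 1 + 1 := by omega
  have e2 : m - (m - 1) = 1 := by omega
  rw [e1] at hr1
  rw [e2] at hr2
  have hr : B (((rv B b m c₀ a) ^ (m - 1)) (b 0)) (((rv B b m c₀ a) ^ (m - 1)) (b 0)) = 0 := by
    rw [(uG B).pow_mem hv (m - 1)]
    exact hw
  have hrw : B (((rv B b m c₀ a) ^ (m - 1)) (b 0)) (b 0) = 0 := hr1 0 (by omega)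
  have hb1 : b 1 ∈ MM B H (b 0) hw hB :=
    hF1 (hb.mem_Fl_basis (by omega) (by omega))
  have hrM : ((rv B b m c₀ a) ^ (m - 1)) (b 0) ∈ MM B H (b 0) hw hB :=
    MM_point hσ hr hrw (hTk (m - 1)) hb1 (herm_ne_zero hσ hB hr2)
  have hF2 : Fl B b m (2 * m - 1 + 1) ≤ MM B H (b 0) hw hB := by
    refine hL.cyclic hb (fun i _ _ => ruc_ne_zero i) _ hstable (2 * m - 1) (by omega) _ hrM
      hr1 ?_
    have e : 2 * m - (2 * m - 1) = 1 := by omega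
    rw [e]
    exact hr2
  intro y c hy hc
  have hyF : y ∈ Fl B b m (2 * m - 1 + 1) := by
    intro j hj
    have : j = 0 := by omega
    subst this
    exact hy
  have h1 := hF2 hyF 1
  rw [one_smul] at h1
  exact InQ.all hB hw hall h1 hc

end P

end Cfsg.Agent.Lib.Helper83_SUMain
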