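import Mathlib
import Cfsg.Agent.Lib.Helper83_SUMain
import Cfsg.Agent.Lib.Helper83_SUCrit

/-!
# Three conjugate regular unipotent elements generate `SU_{2m+1}` (abstract form, helper83)

`abstract_main`: in a nondegenerate hermitian space over a finite field with a chain basis
`b 0, …, b (2m)` (`m ≥ 2`), there are isometries `u, g, h` of determinant one, with `u` regular
unipotent, such that every isometry of determinant one lies in the group generated by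
`u`, `g u g⁻¹`, `h u h⁻¹`.
-/

set_option autoImplicit false
set_option linter.unusedSectionVars false
set_option linter.unusedVariables false
set_option linter.unusedSimpArgs false

namespace Cfsg.Agent.Lib.Helper83_SUAbs

open Module Cfsg.Agent.Lib.Helper94_Symp Cfsg.Agent.Lib.Helper94_Herm
  Cfsg.Agent.Lib.Helper94_HermEich
  Cfsg.Agent.Lib.Helper94_HermPara Cfsg.Agent.Lib.Helper13_SUGen
  Cfsg.Agent.Lib.Helper83_SUChain Cfsg.Agent.Lib.Helper83_SUEich Cfsg.Agent.Lib.Helper83_SUReg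
  Cfsg.Agent.Lib.Helper83_SUWeyl Cfsg.Agent.Lib.Helper83_SUParam Cfsg.Agent.Lib.Helper83_SUMain
  Cfsg.Agent.Lib.Helper83_SUCrit

variable {F V : Type*} [Field F] [AddCommGroup V] [Module F V]
variable {σ : F →+* F} {B : V →ₗ[F] V →ₛₗ[σ] F}

/-- the choice of the field parameters -/
theorem exists_params [Finite F] (hσ : Invol σ) :
    ∃ a c₀ θ β₀ ψ₀ : F, a ≠ 0 ∧ σ a = -a ∧ c₀ + σ c₀ = -1 ∧ σ θ ≠ θ ∧ σ β₀ = β₀ ∧ β₀ ≠ 0 ∧
      (∀ A : AddSubgroup F, (∀ s ∈ A, β₀ * s ∈ A) → ∀ s₁ ∈ A, ∀ r, σ r = r → r * s₁ ∈ A) ∧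
      ((2 : F) ≠ 0 → 2 * ((θ * σ a⁻¹ + ψ₀ * σ (-(c₀ * a⁻¹ * a⁻¹))) *
        σ (θ * σ a⁻¹ + ψ₀ * σ (-(c₀ * a⁻¹ * a⁻¹)))) = β₀) ∧
      ((2 : F) = 0 → (σ θ - θ) * ((θ * σ a⁻¹ + ψ₀ * σ (-(c₀ * a⁻¹ * a⁻¹))) *
        σ (θ * σ a⁻¹ + ψ₀ * σ (-(c₀ * a⁻¹ * a⁻¹)))) *
        ((-(c₀ * a⁻¹ * a⁻¹)) * σ (-(c₀ * a⁻¹ * a⁻¹))) = β₀) := by
  obtain ⟨a, ha0, ha⟩ := exists_skew hσ
  obtain ⟨c₀, hc₀⟩ := tr_surj hσ (-1) (by simp)
  obtain ⟨θ, hθ⟩ := hσ.ne_id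
  obtain ⟨β₀, hβ0, hβfix, hβ⟩ := exists_beta hσ
  have hc0 : c₀ ≠ 0 := by
    rintro rfl
    rw [map_zero, add_zero] at hc₀
    exact one_ne_zero (neg_eq_zero.mp hc₀.symm)
  obtain ⟨γ, hγ⟩ : ∃ γ, γ = -(c₀ * a⁻¹ * a⁻¹) := ⟨_, rfl⟩
  have hγ0 : γ ≠ 0 := by
    rw [hγ]
    exact neg_ne_zero.mpr (mul_ne_zero (mul_ne_zero hc0 (inv_ne_zero ha0)) (inv_ne_zero ha0))
  have hσγ0 : σ γ ≠ 0 := by
    intro h
    have := congrArg σ h
    rw [hσ.invol, map_zero] at this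
    exact hγ0 this
  have hs₁0 : σ θ - θ ≠ 0 := sub_ne_zero.mpr hθ
  -- the target norm
  obtain ⟨t₀, ht₀fix, ht1, ht2⟩ : ∃ t₀ : F, σ t₀ = t₀ ∧ ((2 : F) ≠ 0 → 2 * t₀ = β₀) ∧
      ((2 : F) = 0 → (σ θ - θ) * t₀ * (γ * σ γ) = β₀) := by
    by_cases h2 : (2 : F) = 0
    · have hneg : ∀ x : F, -x = x := by
        intro x
        have : x + x = 0 := by linear_combination x * h2
        linear_combination -this
      refine ⟨β₀ / ((σ θ - θ) * (γ * σ γ)), ?_, fun h => absurd h2 h, fun _ => ?_⟩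
      · have e : σ (σ θ - θ) = σ θ - θ := by
          rw [map_sub, hσ.invol, ← hneg (σ θ - θ)]; ring
        rw [map_div₀, map_mul, map_mul, hσ.invol, e, hβfix, mul_comm (σ γ) γ]
      · field_simp
    · refine ⟨β₀ / 2, ?_, fun _ => ?_, fun h => absurd h h2⟩
      · rw [map_div₀, hβfix, map_ofNat]
      · field_simp
  obtain ⟨ψ, hψ⟩ := norm_surj hσ t₀ ht₀fix
  refine ⟨a, c₀, θ, β₀, (ψ - θ * σ a⁻¹) / σ γ, ha0, ha, hc₀, hθ, hβfix, hβ0, hβ, ?_, ?_⟩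
  · intro h2
    rw [← hγ]
    have e : θ * σ a⁻¹ + (ψ - θ * σ a⁻¹) / σ γ * σ γ = ψ := by
      field_simp
      ring
    rw [e, hψ]
    exact ht1 h2
  · intro h2
    rw [← hγ]
    have e : θ * σ a⁻¹ + (ψ - θ * σ a⁻¹) / σ γ * σ γ = ψ := by
      field_simp
      ring
    rw [e, hψ]
    exact ht2 h2

theorem abstract_main [Finite F] [FiniteDimensional F V] (hσ : Invol σ) (hB : IsHerm B)
    (hN : NondegOn B ⊤) {m : ℕ} (hm : 2 ≤ m) {b : ℕ → V} (hb : Chain B m b)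
    (hfr : 4 ≤ finrank F V) :
    ∃ u g h : V ≃ₗ[F] V, (u ∈ uG B ∧ g ∈ uG B ∧ h ∈ uG B) ∧
      (LinearEquiv.det u = 1 ∧ LinearEquiv.det g = 1 ∧ LinearEquiv.det h = 1) ∧
      (((u : V →ₗ[F] V) - 1) ^ (2 * m + 1) = 0 ∧ ((u : V →ₗ[F] V) - 1) ^ (2 * m) ≠ 0) ∧
      ∀ t ∈ uG B, LinearEquiv.det t = 1 →
        t ∈ Subgroup.closure ({u, g * u * g⁻¹, h * u * h⁻¹} : Set (V ≃ₗ[F] V)) := by
  obtain ⟨a, c₀, θ, β₀, ψ₀, ha0, ha, hc₀, hθ, hβfix, hβ0, hβ, hn1, hn2⟩ :=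
    exists_params (σ := σ) hσ
  have hm1 : 1 ≤ m := by omega
  have hw : B (b 0) (b 0) = 0 := hb.iso (by omega) (by omega)
  have hu := ru_mem hb hB hm1 hc₀
  have huw := ru_b0 hb hm1 c₀
  have hg := gw_mem (b := b) (m := m) ha hB hσ
  have hv := rv_mem hb ha hB hσ hm1 hc₀
  -- the third conjugating element
  obtain ⟨yx, hyx⟩ : ∃ yx, yx = θ • b (m + 1) + (θ * c₀ - ψ₀) • b m := ⟨_, rfl⟩
  have hyxw : B yx (b 0) = 0 := by
    rw [hyx, map_add, LinearMap.add_apply, map_smul, map_smul, LinearMap.smul_apply,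
      LinearMap.smul_apply, hb.orth (by omega) (by omega) (by omega),
      hb.orth (by omega) (by omega) (by omega), smul_zero, smul_zero, add_zero]
  obtain ⟨cx, hcx⟩ := tr_surj hσ (-(B yx yx)) (by rw [map_neg, herm_self hB])
  have hx : eich B (b 0) yx cx ∈ uG B := eich_mem_uG hB hcx
  refine ⟨ru B b m c₀, gw B b m a, eich B (b 0) yx cx, ⟨hu, hg, hx⟩,
    ⟨det_ru c₀, det_gw, det_eich _ _ _⟩, ru_regular hb hm1 c₀, ?_⟩
  obtain ⟨H, hH⟩ : ∃ H, H = Subgroup.closure ({ru B b m c₀,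
      gw B b m a * ru B b m c₀ * (gw B b m a)⁻¹,
      eich B (b 0) yx cx * ru B b m c₀ * (eich B (b 0) yx cx)⁻¹} : Set (V ≃ₗ[F] V)) := ⟨_, rfl⟩
  rw [← hH]
  have huH : ru B b m c₀ ∈ H := by
    rw [hH]; exact Subgroup.subset_closure (by simp)
  have hvH : rv B b m c₀ a ∈ H := by
    rw [hH]; exact Subgroup.subset_closure (by simp [rv])
  have hxH : eich B (b 0) yx cx * ru B b m c₀ * (eich B (b 0) yx cx)⁻¹ ∈ H := by
    rw [hH]; exact Subgroup.subset_closure (by simp)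
  -- the first Eichler element
  have h0 : InQ B H (b 0) (θ • b m + ψ₀ • b (m - 1)) := by
    have h1 := InQ.neg hB hw (of_conj_comm hB hw hyxw hcx huH hu huw hxH)
    have e : -(yx - ru B b m c₀ yx) = θ • b m + ψ₀ • b (m - 1) := by
      rw [hyx, map_add, map_smul, map_smul, ru_high hb hm1 c₀ (by omega) (by omega),
        ru_low hb hm1 c₀ hm1 (le_refl m), ← Finset.sum_Ioc_add_eq_sum_Icc (by omega),
        ← Finset.Icc_add_one_left_eq_Ioc, Finset.Icc_self, Finset.sum_singleton]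
      module
    rwa [e] at h1
  have hQx := core hb ha0 ha hB hσ hm hc₀ huH hvH hθ hβfix hβ0 hβ h0 hn1 hn2
  -- the opposite point
  obtain ⟨-, hy2⟩ := rv_climb hb ha0 ha hB hσ hm1 hc₀ m hm1 (le_refl m)
  rw [Nat.sub_self] at hy2
  have hvm : (rv B b m c₀ a) ^ m ∈ uG B := (uG B).pow_mem hv m
  have hvmH : (rv B b m c₀ a) ^ m ∈ H := H.pow_mem hvH m
  have hy : B (((rv B b m c₀ a) ^ m) (b 0)) (((rv B b m c₀ a) ^ m) (b 0)) = 0 := by
    rw [hvm]; exact hw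
  have hQy : ∀ w c, B w (((rv B b m c₀ a) ^ m) (b 0)) = 0 → c + σ c = -(B w w) →
      eich B (((rv B b m c₀ a) ^ m) (b 0)) w c ∈ H := by
    intro w c hwy hc
    have h1 : B (((rv B b m c₀ a) ^ m)⁻¹ w) (b 0) = 0 := by
      rw [uG_inv_apply B hvm]; exact hwy
    have h2 : c + σ c = -(B (((rv B b m c₀ a) ^ m)⁻¹ w) (((rv B b m c₀ a) ^ m)⁻¹ w)) := by
      rw [(uG B).inv_mem hvm]; exact hc
    have h3 := hQx _ c h1 h2
    have h4 := conj_eich hvm (b 0) (((rv B b m c₀ a) ^ m)⁻¹ w) c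
    rw [apply_inv_apply'] at h4
    rw [← h4]
    exact H.mul_mem (H.mul_mem hvmH h3) (H.inv_mem hvmH)
  exact qcrit hσ hB hN hfr H hw hy (herm_ne_zero hσ hB hy2) hQx hQy

end Cfsg.Agent.Lib.Helper83_SUAbs
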