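import Mathlib
import Cfsg.Prelude.Def_Classical
import Cfsg.Prelude.Def_ClassicalGeometry
import Cfsg.Prelude.Def_RootSubgroups
import Cfsg.Agent.Lib.Helper44_Orth
import Cfsg.Agent.Lib.Helper44_Refl
import Cfsg.Agent.Lib.Helper14_Siegel
import Cfsg.Agent.Lib.Helper83_RankOne

set_option autoImplicit false

/-!
Siegel root groups `T(p, r)` of a singular line `⟨p, r⟩` of a quadratic form on `ι → F` with
non-degenerate polar form (helper83): the group of isometries fixing `⟨p, r⟩^⊥` vectorwise is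
`{siegelMatrix Q p r c}`; base change inside the line; conjugation.
-/

namespace Cfsg.Agent.Lib.Helper83_Siegel1

open Cfsg Matrix Cfsg.Agent.Lib.Helper44_Orth Cfsg.Agent.Lib.Helper44_Refl
  Cfsg.Agent.Lib.Helper14_Siegel

variable {ι : Type} [Fintype ι] [DecidableEq ι] {F : Type*} [Field F]

/-! ### Non-degeneracy -/

section Nondeg

variable (Q : QuadraticForm F (ι → F))

omit [Fintype ι] [DecidableEq ι] in
/-- A vector orthogonal to everything is zero. -/
theorem eq_zero_of_polar (hQ : (QuadraticMap.polarBilin Q).Nondegenerate) {x : ι → F}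
    (h : ∀ y, QuadraticMap.polar (⇑Q) x y = 0) : x = 0 := by
  apply hQ.1 x
  intro y
  rw [QuadraticMap.polarBilin_apply_apply]
  exact h y

omit [Fintype ι] [DecidableEq ι] in
/-- `L1`: a non-zero vector has a partner with product one. -/
theorem exists_polar_eq_one (hQ : (QuadraticMap.polarBilin Q).Nondegenerate) {q : ι → F}
    (hq : q ≠ 0) : ∃ w, QuadraticMap.polar (⇑Q) w q = 1 := by
  by_contra hcon
  push Not at hcon
  apply hq
  apply eq_zero_of_polar Q hQ
  intro y
  by_contra hy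
  apply hcon ((QuadraticMap.polar (⇑Q) q y)⁻¹ • y)
  rw [QuadraticMap.polar_smul_left, QuadraticMap.polar_comm (⇑Q) y q, smul_eq_mul,
    inv_mul_cancel₀ hy]

omit [Fintype ι] [DecidableEq ι] in
/-- `L2`: if `q` is not a multiple of `x`, some vector is orthogonal to `x` and has product one
with `q`. -/
theorem exists_polar_pair (hQ : (QuadraticMap.polarBilin Q).Nondegenerate) {x q : ι → F}
    (hq : ∀ a : F, q ≠ a • x) :
    ∃ w, QuadraticMap.polar (⇑Q) w x = 0 ∧ QuadraticMap.polar (⇑Q) w q = 1 := by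
  by_cases hx : x = 0
  · have hq0 : q ≠ 0 := by
      intro h
      exact hq 0 (by rw [h, zero_smul])
    obtain ⟨w, hw⟩ := exists_polar_eq_one Q hQ hq0
    exact ⟨w, by rw [hx]; simp, hw⟩
  · obtain ⟨u₀, hu₀⟩ := exists_polar_eq_one Q hQ hx
    have hq' : q - QuadraticMap.polar (⇑Q) u₀ q • x ≠ 0 := by
      intro h
      exact hq _ (sub_eq_zero.mp h)
    obtain ⟨w₀, hw₀⟩ := exists_polar_eq_one Q hQ hq'
    refine ⟨w₀ - QuadraticMap.polar (⇑Q) w₀ x • u₀, ?_, ?_⟩
    · rw [QuadraticMap.polar_sub_left, QuadraticMap.polar_smul_left, hu₀, smul_eq_mul, mul_one,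
        sub_self]
    · rw [QuadraticMap.polar_sub_right, QuadraticMap.polar_smul_right] at hw₀
      rw [QuadraticMap.polar_sub_left, QuadraticMap.polar_smul_left]
      rw [smul_eq_mul] at hw₀ ⊢
      linear_combination hw₀

omit [Fintype ι] [DecidableEq ι] in
theorem not_smul_of_indep {p r : ι → F} (h : LinearIndependent F ![p, r]) (a : F) : r ≠ a • p := by
  intro hr
  rw [LinearIndependent.pair_iff] at h
  have := h (-a) 1 (by rw [hr]; simp)
  exact one_ne_zero this.2

omit [Fintype ι] [DecidableEq ι] in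
theorem not_smul_of_indep' {p r : ι → F} (h : LinearIndependent F ![p, r]) (a : F) : p ≠ a • r := by
  intro hr
  rw [LinearIndependent.pair_iff] at h
  have := h 1 (-a) (by rw [hr]; simp)
  exact one_ne_zero this.1

omit [Fintype ι] [DecidableEq ι] in
/-- A dual pair for two independent vectors. -/
theorem exists_dual_pair (hQ : (QuadraticMap.polarBilin Q).Nondegenerate) {p r : ι → F}
    (h : LinearIndependent F ![p, r]) :
    ∃ u w, QuadraticMap.polar (⇑Q) u p = 1 ∧ QuadraticMap.polar (⇑Q) u r = 0 ∧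
      QuadraticMap.polar (⇑Q) w p = 0 ∧ QuadraticMap.polar (⇑Q) w r = 1 := by
  obtain ⟨w, hw1, hw2⟩ := exists_polar_pair Q hQ (not_smul_of_indep h)
  obtain ⟨u, hu1, hu2⟩ := exists_polar_pair Q hQ (not_smul_of_indep' h)
  exact ⟨u, w, hu2, hu1, hw1, hw2⟩

end Nondeg

/-! ### Root groups -/

section RootGroups

variable (Q : QuadraticForm F (ι → F))

/-- The set of Siegel transformations `siegelMatrix Q p r c`, `c ∈ F`, inside the isometry group. -/
def TSet (p r : ι → F) : Set ↥(Cfsg.isometryGroup F (⇑Q)) :=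
  {g | ∃ c : F, ((g : Matrix.GeneralLinearGroup ι F) : Matrix ι ι F) = Cfsg.siegelMatrix (⇑Q) p r c}

/-- The root group of the pair `(p, r)`. -/
def T (p r : ι → F) : Subgroup ↥(Cfsg.isometryGroup F (⇑Q)) := Subgroup.closure (TSet Q p r)

/-- `(p, r)` spans a singular line. -/
structure SPair (p r : ι → F) : Prop where
  indep : LinearIndependent F ![p, r]
  hp : Q p = 0
  hr : Q r = 0
  hpr : QuadraticMap.polar (⇑Q) p r = 0

variable {Q}

omit [Fintype ι] [DecidableEq ι] in
theorem SPair.hrp {p r : ι → F} (h : SPair Q p r) : QuadraticMap.polar (⇑Q) r p = 0 := by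
  rw [QuadraticMap.polar_comm]; exact h.hpr

omit [Fintype ι] [DecidableEq ι] in
theorem SPair.hpp {p r : ι → F} (h : SPair Q p r) : QuadraticMap.polar (⇑Q) p p = 0 :=
  polar_self_of_singular Q h.hp

omit [Fintype ι] [DecidableEq ι] in
theorem SPair.hrr {p r : ι → F} (h : SPair Q p r) : QuadraticMap.polar (⇑Q) r r = 0 :=
  polar_self_of_singular Q h.hr

omit [Fintype ι] [DecidableEq ι] in
theorem SPair.p_ne {p r : ι → F} (h : SPair Q p r) : p ≠ 0 := by
  intro hp
  have := not_smul_of_indep' h.indep 0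
  rw [zero_smul] at this
  exact this hp

omit [Fintype ι] [DecidableEq ι] in
theorem SPair.r_ne {p r : ι → F} (h : SPair Q p r) : r ≠ 0 := by
  intro hp
  have := not_smul_of_indep h.indep 0
  rw [zero_smul] at this
  exact this hp

omit [Fintype ι] [DecidableEq ι] in
theorem SPair.swap {p r : ι → F} (h : SPair Q p r) : SPair Q r p := by
  refine ⟨?_, h.hr, h.hp, h.hrp⟩
  have := h.indep
  rw [LinearIndependent.pair_iff] at this ⊢
  intro a b hab
  have := this b a (by rw [add_comm]; exact hab)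
  exact ⟨this.2, this.1⟩

/-- The element of the root group with parameter `c`. -/
noncomputable def elt {p r : ι → F} (h : SPair Q p r) (c : F) : ↥(Cfsg.isometryGroup F (⇑Q)) :=
  siegel Q p r c h.hp h.hr h.hpr

theorem elt_coe {p r : ι → F} (h : SPair Q p r) (c : F) :
    ((elt h c : Matrix.GeneralLinearGroup ι F) : Matrix ι ι F) = Cfsg.siegelMatrix (⇑Q) p r c := rfl

theorem elt_add {p r : ι → F} (h : SPair Q p r) (c d : F) : elt h (c + d) = elt h c * elt h d :=
  (siegel_mul Q p r c d h.hp h.hr h.hpr).symm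

theorem elt_zero {p r : ι → F} (h : SPair Q p r) : elt h 0 = 1 := by
  apply Subtype.ext
  apply Units.ext
  exact siegelMatrix_zero Q p r

theorem elt_neg {p r : ι → F} (h : SPair Q p r) (c : F) : elt h (-c) = (elt h c)⁻¹ := by
  apply eq_inv_of_mul_eq_one_left
  rw [← elt_add, neg_add_cancel, elt_zero]

theorem eq_elt_of_coe {p r : ι → F} (h : SPair Q p r) {g : ↥(Cfsg.isometryGroup F (⇑Q))} {c : F}
    (hg : ((g : Matrix.GeneralLinearGroup ι F) : Matrix ι ι F) = Cfsg.siegelMatrix (⇑Q) p r c) :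
    g = elt h c := by
  apply Subtype.ext
  apply Units.ext
  exact hg

/-- The root group as a subgroup with explicit carrier. -/
def Tsub {p r : ι → F} (h : SPair Q p r) : Subgroup ↥(Cfsg.isometryGroup F (⇑Q)) where
  carrier := TSet Q p r
  one_mem' := ⟨0, by rw [← elt_coe h, elt_zero]⟩
  mul_mem' := by
    rintro a b ⟨c, hc⟩ ⟨d, hd⟩
    refine ⟨c + d, ?_⟩
    rw [eq_elt_of_coe h hc, eq_elt_of_coe h hd, ← elt_add, elt_coe]
  inv_mem' := by
    rintro a ⟨c, hc⟩
    refine ⟨-c, ?_⟩
    rw [eq_elt_of_coe h hc, ← elt_neg, elt_coe]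

theorem T_eq_Tsub {p r : ι → F} (h : SPair Q p r) : T Q p r = Tsub h :=
  Subgroup.closure_eq (Tsub h)

theorem mem_T {p r : ι → F} (h : SPair Q p r) {g : ↥(Cfsg.isometryGroup F (⇑Q))} :
    g ∈ T Q p r ↔ ∃ c : F, g = elt h c := by
  rw [T_eq_Tsub h]
  constructor
  · rintro ⟨c, hc⟩
    exact ⟨c, eq_elt_of_coe h hc⟩
  · rintro ⟨c, rfl⟩
    exact ⟨c, elt_coe h c⟩

theorem elt_mem {p r : ι → F} (h : SPair Q p r) (c : F) : elt h c ∈ T Q p r :=
  (mem_T h).mpr ⟨c, rfl⟩

theorem coe_T {p r : ι → F} (h : SPair Q p r) :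
    ((T Q p r : Subgroup ↥(Cfsg.isometryGroup F (⇑Q))) : Set ↥(Cfsg.isometryGroup F (⇑Q))) =
      TSet Q p r := by
  rw [T_eq_Tsub h]; rfl

theorem T_comm {p r : ι → F} (h : SPair Q p r) {a b : ↥(Cfsg.isometryGroup F (⇑Q))}
    (ha : a ∈ T Q p r) (hb : b ∈ T Q p r) : a * b = b * a := by
  obtain ⟨c, rfl⟩ := (mem_T h).mp ha
  obtain ⟨d, rfl⟩ := (mem_T h).mp hb
  rw [← elt_add, ← elt_add, add_comm]

/-- Action of an element of the root group. -/
theorem elt_mulVec {p r : ι → F} (h : SPair Q p r) (c : F) (x : ι → F) :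
    ((elt h c : Matrix.GeneralLinearGroup ι F) : Matrix ι ι F) *ᵥ x =
      x + (c * QuadraticMap.polar (⇑Q) p x) • r - (c * QuadraticMap.polar (⇑Q) r x) • p := by
  rw [elt_coe, siegelMatrix_mulVec]

theorem elt_eq_one_iff (hQ : (QuadraticMap.polarBilin Q).Nondegenerate) {p r : ι → F}
    (h : SPair Q p r) (c : F) : elt h c = 1 ↔ c = 0 := by
  constructor
  · intro h1
    obtain ⟨u, w, hu1, hu2, hw1, hw2⟩ := exists_dual_pair Q hQ h.indep
    have h2 := elt_mulVec h c u
    rw [h1] at h2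
    simp only [OneMemClass.coe_one, Units.val_one, Matrix.one_mulVec] at h2
    rw [QuadraticMap.polar_comm (⇑Q) p u, QuadraticMap.polar_comm (⇑Q) r u, hu1, hu2, mul_one,
      mul_zero, zero_smul, sub_zero] at h2
    have h3 : c • r = 0 := by
      have := h2
      rw [left_eq_add] at this
      exact this
    rcases smul_eq_zero.mp h3 with h4 | h4
    · exact h4
    · exact absurd h4 h.r_ne
  · rintro rfl
    exact elt_zero h

theorem elt_injective (hQ : (QuadraticMap.polarBilin Q).Nondegenerate) {p r : ι → F}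
    (h : SPair Q p r) : Function.Injective (elt h) := by
  intro c d hcd
  have : elt h (c - d) = 1 := by
    rw [sub_eq_add_neg, elt_add, elt_neg, hcd, mul_inv_cancel]
  have := (elt_eq_one_iff hQ h _).mp this
  exact sub_eq_zero.mp this

theorem T_ne_bot (hQ : (QuadraticMap.polarBilin Q).Nondegenerate) {p r : ι → F}
    (h : SPair Q p r) : T Q p r ≠ ⊥ := by
  intro hbot
  have h1 : elt h 1 ∈ T Q p r := elt_mem h 1
  rw [hbot, Subgroup.mem_bot, elt_eq_one_iff hQ h] at h1
  exact one_ne_zero h1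

/-! ### Base change inside the line -/

theorem siegelMatrix_base (p r : ι → F) (a b a' b' c : F) :
    Cfsg.siegelMatrix (⇑Q) (a • p + b • r) (a' • p + b' • r) c =
      Cfsg.siegelMatrix (⇑Q) p r (c * (a * b' - b * a')) := by
  apply matrix_ext_mulVec
  intro x
  rw [siegelMatrix_mulVec, siegelMatrix_mulVec]
  simp only [QuadraticMap.polar_add_left, QuadraticMap.polar_smul_left, smul_eq_mul]
  funext i
  simp only [Pi.add_apply, Pi.sub_apply, Pi.smul_apply, smul_eq_mul]
  ring

omit [Fintype ι] [DecidableEq ι] in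
theorem SPair.base {p r : ι → F} (h : SPair Q p r) {a b a' b' : F} (hdet : a * b' - b * a' ≠ 0) :
    SPair Q (a • p + b • r) (a' • p + b' • r) := by
  refine ⟨?_, ?_, ?_, ?_⟩
  · have hi := h.indep
    rw [LinearIndependent.pair_iff] at hi ⊢
    intro x y hxy
    have h1 : (x * a + y * a') • p + (x * b + y * b') • r = 0 := by
      rw [← hxy]
      simp only [smul_add, add_smul, mul_smul]
      abel
    obtain ⟨e1, e2⟩ := hi _ _ h1
    constructor
    · have : x * (a * b' - b * a') = 0 := by linear_combination b' * e1 - a' * e2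
      rcases mul_eq_zero.mp this with h2 | h2
      · exact h2
      · exact absurd h2 hdet
    · have : y * (a * b' - b * a') = 0 := by linear_combination a * e2 - b * e1
      rcases mul_eq_zero.mp this with h2 | h2
      · exact h2
      · exact absurd h2 hdet
  · rw [QuadraticMap.map_add (⇑Q), QuadraticMap.map_smul, QuadraticMap.map_smul, h.hp, h.hr,
      QuadraticMap.polar_smul_left, QuadraticMap.polar_smul_right, h.hpr]
    simp
  · rw [QuadraticMap.map_add (⇑Q), QuadraticMap.map_smul, QuadraticMap.map_smul, h.hp, h.hr,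
      QuadraticMap.polar_smul_left, QuadraticMap.polar_smul_right, h.hpr]
    simp
  · simp only [QuadraticMap.polar_add_left, QuadraticMap.polar_add_right,
      QuadraticMap.polar_smul_left, QuadraticMap.polar_smul_right, h.hpr, h.hrp, h.hpp, h.hrr]
    simp

theorem T_base {p r : ι → F} {a b a' b' : F} (hdet : a * b' - b * a' ≠ 0) :
    T Q (a • p + b • r) (a' • p + b' • r) = T Q p r := by
  unfold T
  congr 1
  ext g
  constructor
  · rintro ⟨c, hc⟩
    exact ⟨c * (a * b' - b * a'), by rw [hc, siegelMatrix_base]⟩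
  · rintro ⟨c, hc⟩
    refine ⟨c / (a * b' - b * a'), ?_⟩
    rw [hc, siegelMatrix_base, div_mul_cancel₀ _ hdet]

theorem T_swap (p r : ι → F) : T Q r p = T Q p r := by
  have h := T_base (Q := Q) (p := p) (r := r) (a := 0) (b := 1) (a' := 1) (b' := 0) (by simp)
  simpa using h

/-! ### Conjugation -/

theorem SPair.conj {p r : ι → F} (h : SPair Q p r) (g : ↥(Cfsg.isometryGroup F (⇑Q))) :
    SPair Q ((g : Matrix.GeneralLinearGroup ι F).1 *ᵥ p)
      ((g : Matrix.GeneralLinearGroup ι F).1 *ᵥ r) := by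
  have hg := (mem_isometryGroup_iff (⇑Q) g.1).mp g.2
  refine ⟨?_, ?_, ?_, ?_⟩
  · have hi := h.indep
    rw [LinearIndependent.pair_iff] at hi ⊢
    intro x y hxy
    apply hi x y
    have h1 : (g : Matrix.GeneralLinearGroup ι F).1 *ᵥ (x • p + y • r) = 0 := by
      rw [Matrix.mulVec_add, Matrix.mulVec_smul, Matrix.mulVec_smul]
      exact hxy
    have h2 := congrArg (fun z => ((g⁻¹ : ↥(Cfsg.isometryGroup F (⇑Q))) :
      Matrix.GeneralLinearGroup ι F).1 *ᵥ z) h1
    simp only [Matrix.mulVec_mulVec, Matrix.mulVec_zero] at h2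
    have h3 : ((g⁻¹ : ↥(Cfsg.isometryGroup F (⇑Q))) : Matrix.GeneralLinearGroup ι F).1
        * (g : Matrix.GeneralLinearGroup ι F).1 = 1 := by
      have e1 : g⁻¹ * g = 1 := inv_mul_cancel g
      have e2 := congrArg (fun z : ↥(Cfsg.isometryGroup F (⇑Q)) =>
        ((z : Matrix.GeneralLinearGroup ι F) : Matrix ι ι F)) e1
      exact e2
    rw [h3, Matrix.one_mulVec] at h2
    exact h2
  · have := hg p
    rw [h.hp] at this
    exact this
  · have := hg r
    rw [h.hr] at this
    exact this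
  · rw [polar_isometry]; exact h.hpr

theorem conj_elt {p r : ι → F} (h : SPair Q p r) (g : ↥(Cfsg.isometryGroup F (⇑Q))) (c : F) :
    g * elt h c * g⁻¹ = elt (h.conj g) c := by
  apply Subtype.ext
  apply Units.ext
  exact conj_siegelMatrix Q g p r c

theorem conjBy_T {p r : ι → F} (h : SPair Q p r) (g : ↥(Cfsg.isometryGroup F (⇑Q))) :
    Cfsg.conjBy (T Q p r) g = T Q ((g : Matrix.GeneralLinearGroup ι F).1 *ᵥ p)
      ((g : Matrix.GeneralLinearGroup ι F).1 *ᵥ r) := by
  ext x
  rw [Cfsg.Agent.Lib.Helper83_RankOne.mem_conjBy_iff, mem_T h, mem_T (h.conj g)]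
  constructor
  · rintro ⟨c, hc⟩
    refine ⟨c, ?_⟩
    rw [← conj_elt h g c, ← hc]
    group
  · rintro ⟨c, hc⟩
    refine ⟨c, ?_⟩
    rw [hc, ← conj_elt h g c]
    group

/-! ### The fixer of the orthogonal complement of a singular line -/

/-- The isometries fixing every vector orthogonal to `p` and `r`. -/
def fixer (p r : ι → F) : Set ↥(Cfsg.isometryGroup F (⇑Q)) :=
  {σ | ∀ v : ι → F, QuadraticMap.polar (⇑Q) v p = 0 → QuadraticMap.polar (⇑Q) v r = 0 →
    ((σ : Matrix.GeneralLinearGroup ι F) : Matrix ι ι F) *ᵥ v = v}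

theorem TSet_subset_fixer {p r : ι → F} : TSet Q p r ⊆ fixer (Q := Q) p r := by
  rintro g ⟨c, hc⟩ v hvp hvr
  rw [hc, siegelMatrix_mulVec, QuadraticMap.polar_comm (⇑Q) p v, QuadraticMap.polar_comm (⇑Q) r v,
    hvp, hvr]
  simp

theorem fixer_subset_TSet (hQ : (QuadraticMap.polarBilin Q).Nondegenerate) {p r : ι → F}
    (h : SPair Q p r) : fixer (Q := Q) p r ⊆ TSet Q p r := by
  intro σ hσ
  obtain ⟨u, w, hu1, hu2, hw1, hw2⟩ := exists_dual_pair Q hQ h.indep
  obtain ⟨M, hM⟩ : ∃ M : Matrix ι ι F, M = ((σ : Matrix.GeneralLinearGroup ι F) : Matrix ι ι F) :=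
    ⟨_, rfl⟩
  have hiso : ∀ x y, QuadraticMap.polar (⇑Q) (M *ᵥ x) (M *ᵥ y) = QuadraticMap.polar (⇑Q) x y := by
    intro x y
    rw [hM]
    exact polar_isometry Q σ x y
  have hQM : ∀ x, Q (M *ᵥ x) = Q x := by
    intro x
    rw [hM]
    exact (mem_isometryGroup_iff (⇑Q) σ.1).mp σ.2 x
  have hfix : ∀ v : ι → F, QuadraticMap.polar (⇑Q) v p = 0 → QuadraticMap.polar (⇑Q) v r = 0 →
      M *ᵥ v = v := by
    intro v h1 h2
    rw [hM]
    exact hσ v h1 h2
  -- the projection to the orthogonal complement of the line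
  have hproj : ∀ y : ι → F,
      QuadraticMap.polar (⇑Q) (y - QuadraticMap.polar (⇑Q) y p • u
        - QuadraticMap.polar (⇑Q) y r • w) p = 0 ∧
      QuadraticMap.polar (⇑Q) (y - QuadraticMap.polar (⇑Q) y p • u
        - QuadraticMap.polar (⇑Q) y r • w) r = 0 := by
    intro y
    constructor
    · simp only [QuadraticMap.polar_sub_left, QuadraticMap.polar_smul_left, hu1, hw1, smul_eq_mul]
      ring
    · simp only [QuadraticMap.polar_sub_left, QuadraticMap.polar_smul_left, hu2, hw2, smul_eq_mul]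
      ring
  -- a vector of the form `M z - z` lies in the line
  have hline : ∀ z : ι → F, M *ᵥ z - z = QuadraticMap.polar (⇑Q) (M *ᵥ z - z) u • p
      + QuadraticMap.polar (⇑Q) (M *ᵥ z - z) w • r := by
    intro z
    rw [← sub_eq_zero]
    apply eq_zero_of_polar Q hQ
    intro y
    obtain ⟨e1, e2⟩ := hproj y
    have hy0 := hfix _ e1 e2
    have h3 : QuadraticMap.polar (⇑Q) (M *ᵥ z - z) (y - QuadraticMap.polar (⇑Q) y p • u
        - QuadraticMap.polar (⇑Q) y r • w) = 0 := by
      rw [QuadraticMap.polar_sub_left]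
      nth_rewrite 1 [← hy0]
      rw [hiso, sub_self]
    simp only [QuadraticMap.polar_sub_right, QuadraticMap.polar_smul_right, smul_eq_mul] at h3
    simp only [QuadraticMap.polar_sub_left, QuadraticMap.polar_add_left,
      QuadraticMap.polar_smul_left, smul_eq_mul]
    rw [QuadraticMap.polar_comm (⇑Q) p y, QuadraticMap.polar_comm (⇑Q) r y]
    simp only [QuadraticMap.polar_sub_left] at h3 ⊢
    linear_combination h3
  obtain ⟨a₁, ha₁⟩ : ∃ a₁, a₁ = QuadraticMap.polar (⇑Q) (M *ᵥ u - u) u := ⟨_, rfl⟩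
  obtain ⟨a₂, ha₂⟩ : ∃ a₂, a₂ = QuadraticMap.polar (⇑Q) (M *ᵥ u - u) w := ⟨_, rfl⟩
  obtain ⟨b₁, hb₁⟩ : ∃ b₁, b₁ = QuadraticMap.polar (⇑Q) (M *ᵥ w - w) u := ⟨_, rfl⟩
  obtain ⟨b₂, hb₂⟩ : ∃ b₂, b₂ = QuadraticMap.polar (⇑Q) (M *ᵥ w - w) w := ⟨_, rfl⟩
  have hMu : M *ᵥ u = u + (a₁ • p + a₂ • r) := by
    have := hline u
    rw [← ha₁, ← ha₂] at this
    rw [← this]; abel
  have hMw : M *ᵥ w = w + (b₁ • p + b₂ • r) := by
    have := hline w
    rw [← hb₁, ← hb₂] at this
    rw [← this]; abel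
  have hup : QuadraticMap.polar (⇑Q) p u = 1 := by rw [QuadraticMap.polar_comm]; exact hu1
  have hur : QuadraticMap.polar (⇑Q) r u = 0 := by rw [QuadraticMap.polar_comm]; exact hu2
  have hwp : QuadraticMap.polar (⇑Q) p w = 0 := by rw [QuadraticMap.polar_comm]; exact hw1
  have hwr : QuadraticMap.polar (⇑Q) r w = 1 := by rw [QuadraticMap.polar_comm]; exact hw2
  have hQline : ∀ s t : F, Q (s • p + t • r) = 0 := by
    intro s t
    rw [QuadraticMap.map_add (⇑Q), QuadraticMap.map_smul, QuadraticMap.map_smul, h.hp, h.hr,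
      QuadraticMap.polar_smul_left, QuadraticMap.polar_smul_right, h.hpr]
    simp
  have ea₁ : a₁ = 0 := by
    have h1 := hQM u
    rw [hMu, QuadraticMap.map_add (⇑Q), hQline] at h1
    simp only [QuadraticMap.polar_add_right, QuadraticMap.polar_smul_right, hu1, hu2,
      smul_eq_mul] at h1
    linear_combination h1
  have eb₂ : b₂ = 0 := by
    have h1 := hQM w
    rw [hMw, QuadraticMap.map_add (⇑Q), hQline] at h1
    simp only [QuadraticMap.polar_add_right, QuadraticMap.polar_smul_right, hw1, hw2,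
      smul_eq_mul] at h1
    linear_combination h1
  have eb₁ : b₁ = -a₂ := by
    have h1 := hiso u w
    rw [hMu, hMw] at h1
    simp only [QuadraticMap.polar_add_right, QuadraticMap.polar_add_left,
      QuadraticMap.polar_smul_right, QuadraticMap.polar_smul_left, hu1, hu2,
      hwp, hwr, h.hpr, h.hrp, h.hpp, h.hrr, smul_eq_mul] at h1
    linear_combination h1
  refine ⟨a₂, ?_⟩
  rw [← hM]
  apply matrix_ext_mulVec
  intro v
  rw [siegelMatrix_mulVec]
  obtain ⟨e1, e2⟩ := hproj v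
  have hv0 := hfix _ e1 e2
  rw [Matrix.mulVec_sub, Matrix.mulVec_sub, Matrix.mulVec_smul, Matrix.mulVec_smul, hMu, hMw, ea₁,
    eb₂, eb₁] at hv0
  rw [QuadraticMap.polar_comm (⇑Q) p v, QuadraticMap.polar_comm (⇑Q) r v]
  have hv1 : M *ᵥ v = v + QuadraticMap.polar (⇑Q) v p • (a₂ • r)
      - QuadraticMap.polar (⇑Q) v r • (a₂ • p) := by
    have : M *ᵥ v - QuadraticMap.polar (⇑Q) v p • (u + ((0 : F) • p + a₂ • r))
        - QuadraticMap.polar (⇑Q) v r • (w + (-a₂ • p + (0 : F) • r)) + (QuadraticMap.polar (⇑Q) v p • (u + ((0 : F) • p + a₂ • r))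
        + QuadraticMap.polar (⇑Q) v r • (w + (-a₂ • p + (0 : F) • r))) = v - QuadraticMap.polar (⇑Q) v p • u
        - QuadraticMap.polar (⇑Q) v r • w + (QuadraticMap.polar (⇑Q) v p • (u + ((0 : F) • p + a₂ • r))
        + QuadraticMap.polar (⇑Q) v r • (w + (-a₂ • p + (0 : F) • r))) := by rw [hv0]
    rw [sub_sub, sub_add_cancel] at this
    rw [this]
    simp only [zero_smul, zero_add, add_zero, smul_add, neg_smul, smul_neg]
    abel
  rw [hv1]
  simp only [smul_smul]
  rw [mul_comm a₂, mul_comm a₂]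

theorem fixer_eq (hQ : (QuadraticMap.polarBilin Q).Nondegenerate) {p r : ι → F}
    (h : SPair Q p r) : fixer (Q := Q) p r = TSet Q p r :=
  Set.Subset.antisymm (fixer_subset_TSet hQ h) TSet_subset_fixer

theorem closure_fixer (hQ : (QuadraticMap.polarBilin Q).Nondegenerate) {p r : ι → F}
    (h : SPair Q p r) : Subgroup.closure (fixer (Q := Q) p r) = T Q p r := by
  rw [fixer_eq hQ h]; rfl

end RootGroups

end Cfsg.Agent.Lib.Helper83_Siegel1
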