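import Mathlib
import Cfsg.Prelude.Def_Classical
import Cfsg.Prelude.Def_ClassicalGeometry
import Cfsg.Prelude.Def_RootSubgroups
import Cfsg.Agent.Lib.Helper44_Orth
import Cfsg.Agent.Lib.Helper44_Refl
import Cfsg.Agent.Lib.Helper14_Siegel
import Cfsg.Agent.Lib.Helper83_RankOne
import Cfsg.Agent.Lib.Helper83_Lines
import Cfsg.Agent.Lib.Helper83_Nilpotent2
import Cfsg.Agent.Lib.Helper83_Siegel1

set_option autoImplicit false
set_option linter.unusedSimpArgs false

/-!
Pairs of Siegel root groups (helper83): commuting pairs, the commutator case.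
-/

namespace Cfsg.Agent.Lib.Helper83_Siegel2

open Cfsg Matrix Cfsg.Agent.Lib.Helper44_Orth Cfsg.Agent.Lib.Helper44_Refl
  Cfsg.Agent.Lib.Helper14_Siegel Cfsg.Agent.Lib.Helper83_Siegel1

variable {ι : Type} [Fintype ι] [DecidableEq ι] {F : Type*} [Field F]
variable {Q : QuadraticForm F (ι → F)}

/-! ### Commuting pairs -/

/-- Siegel matrices of two mutually orthogonal pairs commute. -/
theorem siegelMatrix_comm {p r p' r' : ι → F}
    (h1 : QuadraticMap.polar (⇑Q) p p' = 0) (h2 : QuadraticMap.polar (⇑Q) p r' = 0)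
    (h3 : QuadraticMap.polar (⇑Q) r p' = 0) (h4 : QuadraticMap.polar (⇑Q) r r' = 0) (c d : F) :
    Cfsg.siegelMatrix (⇑Q) p r c * Cfsg.siegelMatrix (⇑Q) p' r' d =
      Cfsg.siegelMatrix (⇑Q) p' r' d * Cfsg.siegelMatrix (⇑Q) p r c := by
  have h1' : QuadraticMap.polar (⇑Q) p' p = 0 := by rw [QuadraticMap.polar_comm]; exact h1
  have h2' : QuadraticMap.polar (⇑Q) r' p = 0 := by rw [QuadraticMap.polar_comm]; exact h2
  have h3' : QuadraticMap.polar (⇑Q) p' r = 0 := by rw [QuadraticMap.polar_comm]; exact h3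
  have h4' : QuadraticMap.polar (⇑Q) r' r = 0 := by rw [QuadraticMap.polar_comm]; exact h4
  apply matrix_ext_mulVec
  intro x
  rw [← Matrix.mulVec_mulVec, ← Matrix.mulVec_mulVec]
  simp only [siegelMatrix_mulVec, QuadraticMap.polar_add_right, QuadraticMap.polar_sub_right,
    QuadraticMap.polar_smul_right, h1, h2, h3, h4, h1', h2', h3', h4', smul_eq_mul, mul_zero,
    add_zero, sub_zero]
  abel

theorem T_commute {p r p' r' : ι → F} (h : SPair Q p r) (h' : SPair Q p' r')
    (h1 : QuadraticMap.polar (⇑Q) p p' = 0) (h2 : QuadraticMap.polar (⇑Q) p r' = 0)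
    (h3 : QuadraticMap.polar (⇑Q) r p' = 0) (h4 : QuadraticMap.polar (⇑Q) r r' = 0) :
    ∀ a ∈ T Q p r, ∀ b ∈ T Q p' r', a * b = b * a := by
  intro a ha b hb
  obtain ⟨c, rfl⟩ := (mem_T h).mp ha
  obtain ⟨d, rfl⟩ := (mem_T h').mp hb
  apply Subtype.ext
  apply Units.ext
  exact siegelMatrix_comm h1 h2 h3 h4 c d

/-! ### The commutator formula -/

/-- In normalised position (`p ⟂ p', r'`, `r ⟂ p'`, `B(r, r') = β`) the Siegel matrices satisfy
`S_c S'_d = Z_{βcd} S'_d S_c`. -/
theorem siegelMatrix_comm_formula {p r p' r' : ι → F} (h : SPair Q p r) (h' : SPair Q p' r')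
    {β : F} (h1 : QuadraticMap.polar (⇑Q) p p' = 0) (h2 : QuadraticMap.polar (⇑Q) p r' = 0)
    (h3 : QuadraticMap.polar (⇑Q) r p' = 0) (h4 : QuadraticMap.polar (⇑Q) r r' = β) (c d : F) :
    Cfsg.siegelMatrix (⇑Q) p r c * Cfsg.siegelMatrix (⇑Q) p' r' d =
      Cfsg.siegelMatrix (⇑Q) p p' (β * c * d) *
        (Cfsg.siegelMatrix (⇑Q) p' r' d * Cfsg.siegelMatrix (⇑Q) p r c) := by
  have h1' : QuadraticMap.polar (⇑Q) p' p = 0 := by rw [QuadraticMap.polar_comm]; exact h1
  have h2' : QuadraticMap.polar (⇑Q) r' p = 0 := by rw [QuadraticMap.polar_comm]; exact h2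
  have h3' : QuadraticMap.polar (⇑Q) p' r = 0 := by rw [QuadraticMap.polar_comm]; exact h3
  have h4' : QuadraticMap.polar (⇑Q) r' r = β := by rw [QuadraticMap.polar_comm]; exact h4
  apply matrix_ext_mulVec
  intro x
  rw [← Matrix.mulVec_mulVec, ← Matrix.mulVec_mulVec, ← Matrix.mulVec_mulVec]
  simp only [siegelMatrix_mulVec, QuadraticMap.polar_add_right, QuadraticMap.polar_sub_right,
    QuadraticMap.polar_smul_right, h1, h2, h3, h4, h1', h2', h3', h4', h.hpr, h.hrp, h.hpp, h.hrr,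
    h'.hpr, h'.hrp, h'.hpp, h'.hrr, smul_eq_mul, mul_zero, add_zero, sub_zero]
  funext i
  simp only [Pi.add_apply, Pi.sub_apply, Pi.smul_apply, smul_eq_mul]
  ring

/-- The set of all Siegel root groups. -/
def Sset (Q : QuadraticForm F (ι → F)) : Set (Subgroup ↥(Cfsg.isometryGroup F (⇑Q))) :=
  {A | ∃ p r : ι → F, SPair Q p r ∧ A = T Q p r}

omit [Fintype ι] [DecidableEq ι] in
theorem exists_smul_of_not_indep {p p' : ι → F} (hp : p ≠ 0) (h : ¬ LinearIndependent F ![p, p']) :
    ∃ l : F, p' = l • p := by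
  rw [LinearIndependent.pair_iff] at h
  push Not at h
  obtain ⟨a, b, hab, hne⟩ := h
  by_cases hb : b = 0
  · exfalso
    rw [hb, zero_smul, add_zero] at hab
    rcases smul_eq_zero.mp hab with h1 | h1
    · exact hne h1 hb
    · exact hp h1
  · refine ⟨-a / b, ?_⟩
    have h1 : b • p' = -(a • p) := eq_neg_of_add_eq_zero_right hab
    have h2 : p' = b⁻¹ • (b • p') := by rw [smul_smul, inv_mul_cancel₀ hb, one_smul]
    rw [h2, h1, smul_neg, smul_smul, ← neg_smul]
    congr 1
    field_simp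

theorem siegelMatrix_smul_self (p : ι → F) (l e : F) :
    Cfsg.siegelMatrix (⇑Q) p (l • p) e = 1 := by
  apply matrix_ext_mulVec
  intro x
  rw [siegelMatrix_mulVec, Matrix.one_mulVec, QuadraticMap.polar_smul_left]
  funext i
  simp only [Pi.add_apply, Pi.sub_apply, Pi.smul_apply, smul_eq_mul]
  ring

/-- The commutator formula in the group. -/
theorem commutator_elt {p r p' r' : ι → F} (h : SPair Q p r) (h' : SPair Q p' r')
    (h'' : SPair Q p p') {β : F} (h1 : QuadraticMap.polar (⇑Q) p p' = 0)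
    (h2 : QuadraticMap.polar (⇑Q) p r' = 0) (h3 : QuadraticMap.polar (⇑Q) r p' = 0)
    (h4 : QuadraticMap.polar (⇑Q) r r' = β) (c d : F) :
    elt h c * elt h' d * (elt h c)⁻¹ * (elt h' d)⁻¹ = elt h'' (β * c * d) := by
  have e : elt h c * elt h' d = elt h'' (β * c * d) * (elt h' d * elt h c) := by
    apply Subtype.ext
    apply Units.ext
    exact siegelMatrix_comm_formula h h' h1 h2 h3 h4 c d
  rw [e]
  group

/-- In normalised position with `p, p'` independent we are in the commutator case. -/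
theorem commCase_norm {p r p' r' : ι → F} (h : SPair Q p r) (h' : SPair Q p' r')
    (h'' : SPair Q p p') {β : F} (hβ : β ≠ 0) (h1 : QuadraticMap.polar (⇑Q) p p' = 0)
    (h2 : QuadraticMap.polar (⇑Q) p r' = 0) (h3 : QuadraticMap.polar (⇑Q) r p' = 0)
    (h4 : QuadraticMap.polar (⇑Q) r r' = β) :
    Cfsg.RootCommutatorCase (Sset Q) (T Q p r) (T Q p' r') := by
  have hcomm : ⁅T Q p r, T Q p' r'⁆ = T Q p p' := by
    apply le_antisymm
    · rw [Subgroup.commutator_le]
      intro a ha b hb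
      obtain ⟨c, rfl⟩ := (mem_T h).mp ha
      obtain ⟨d, rfl⟩ := (mem_T h').mp hb
      rw [commutatorElement_def, commutator_elt h h' h'' h1 h2 h3 h4]
      exact elt_mem h'' _
    · intro x hx
      obtain ⟨e, rfl⟩ := (mem_T h'').mp hx
      have h5 := commutator_elt h h' h'' h1 h2 h3 h4 1 (e / β)
      have h6 : β * 1 * (e / β) = e := by field_simp
      rw [h6] at h5
      rw [← h5, ← commutatorElement_def]
      exact Subgroup.commutator_mem_commutator (elt_mem h 1) (elt_mem h' _)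
  refine ⟨?_, ?_, ?_, ?_⟩
  · rw [hcomm]
    exact ⟨p, p', h'', rfl⟩
  · rw [hcomm]
    intro c hc x hx
    refine Cfsg.Agent.Lib.Helper83_Lines.commute_sup' ?_ ?_ x hx
    · intro a ha
      exact T_commute h'' h h.hpp h.hpr (by rw [QuadraticMap.polar_comm]; exact h1)
        (by rw [QuadraticMap.polar_comm]; exact h3) c hc a ha
    · intro b hb
      exact T_commute h'' h' h1 h2 h'.hpp h'.hpr c hc b hb
  · intro a ha ha1
    obtain ⟨c, rfl⟩ := (mem_T h).mp ha
    have hc : c ≠ 0 := by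
      rintro rfl
      exact ha1 (elt_zero h)
    rw [hcomm]
    have hset : (fun b : ↥(Cfsg.isometryGroup F (⇑Q)) => elt h c * b * (elt h c)⁻¹ * b⁻¹) ''
        ((T Q p' r' : Subgroup ↥(Cfsg.isometryGroup F (⇑Q))) : Set ↥(Cfsg.isometryGroup F (⇑Q))) =
        ((T Q p p' : Subgroup ↥(Cfsg.isometryGroup F (⇑Q))) : Set ↥(Cfsg.isometryGroup F (⇑Q))) := by
      ext x
      constructor
      · rintro ⟨b, hb, rfl⟩
        obtain ⟨d, rfl⟩ := (mem_T h').mp hb
        simp only
        rw [commutator_elt h h' h'' h1 h2 h3 h4]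
        exact elt_mem h'' _
      · intro hx
        obtain ⟨e, rfl⟩ := (mem_T h'').mp hx
        refine ⟨elt h' (e / (β * c)), elt_mem h' _, ?_⟩
        simp only
        rw [commutator_elt h h' h'' h1 h2 h3 h4]
        congr 1
        field_simp
    rw [hset, Subgroup.closure_eq]
  · intro b hb hb1
    obtain ⟨d, rfl⟩ := (mem_T h').mp hb
    have hd : d ≠ 0 := by
      rintro rfl
      exact hb1 (elt_zero h')
    rw [hcomm]
    have hset : (fun a : ↥(Cfsg.isometryGroup F (⇑Q)) => a * elt h' d * a⁻¹ * (elt h' d)⁻¹) ''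
        ((T Q p r : Subgroup ↥(Cfsg.isometryGroup F (⇑Q))) : Set ↥(Cfsg.isometryGroup F (⇑Q))) =
        ((T Q p p' : Subgroup ↥(Cfsg.isometryGroup F (⇑Q))) : Set ↥(Cfsg.isometryGroup F (⇑Q))) := by
      ext x
      constructor
      · rintro ⟨a, ha, rfl⟩
        obtain ⟨c, rfl⟩ := (mem_T h).mp ha
        simp only
        rw [commutator_elt h h' h'' h1 h2 h3 h4]
        exact elt_mem h'' _
      · intro hx
        obtain ⟨e, rfl⟩ := (mem_T h'').mp hx
        refine ⟨elt h (e / (β * d)), elt_mem h _, ?_⟩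
        simp only
        rw [commutator_elt h h' h'' h1 h2 h3 h4]
        congr 1
        field_simp
    rw [hset, Subgroup.closure_eq]

/-- In normalised position: commute or commutator case. -/
theorem cases_norm {p r p' r' : ι → F} (h : SPair Q p r) (h' : SPair Q p' r')
    {β : F} (hβ : β ≠ 0) (h1 : QuadraticMap.polar (⇑Q) p p' = 0)
    (h2 : QuadraticMap.polar (⇑Q) p r' = 0) (h3 : QuadraticMap.polar (⇑Q) r p' = 0)
    (h4 : QuadraticMap.polar (⇑Q) r r' = β) :
    (∀ a ∈ T Q p r, ∀ b ∈ T Q p' r', a * b = b * a) ∨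
      Cfsg.RootCommutatorCase (Sset Q) (T Q p r) (T Q p' r') := by
  by_cases hind : LinearIndependent F ![p, p']
  · right
    exact commCase_norm h h' ⟨hind, h.hp, h'.hp, h1⟩ hβ h1 h2 h3 h4
  · left
    obtain ⟨l, hl⟩ := exists_smul_of_not_indep h.p_ne hind
    intro a ha b hb
    obtain ⟨c, rfl⟩ := (mem_T h).mp ha
    obtain ⟨d, rfl⟩ := (mem_T h').mp hb
    apply Subtype.ext
    apply Units.ext
    have := siegelMatrix_comm_formula h h' h1 h2 h3 h4 c d
    rw [hl, siegelMatrix_smul_self, ← hl, one_mul] at this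
    exact this

/-- The main case of a degenerate Gram matrix: `B(r, r') ≠ 0` and the determinant vanishes. -/
theorem cases_main {p r p' r' : ι → F} (h : SPair Q p r) (h' : SPair Q p' r')
    (hβ : QuadraticMap.polar (⇑Q) r r' ≠ 0)
    (hΔ : QuadraticMap.polar (⇑Q) p p' * QuadraticMap.polar (⇑Q) r r'
      - QuadraticMap.polar (⇑Q) p r' * QuadraticMap.polar (⇑Q) r p' = 0) :
    (∀ a ∈ T Q p r, ∀ b ∈ T Q p' r', a * b = b * a) ∨
      Cfsg.RootCommutatorCase (Sset Q) (T Q p r) (T Q p' r') := by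
  obtain ⟨β, hβ'⟩ : ∃ β, β = QuadraticMap.polar (⇑Q) r r' := ⟨_, rfl⟩
  obtain ⟨m12, hm12⟩ : ∃ m, m = QuadraticMap.polar (⇑Q) p r' := ⟨_, rfl⟩
  obtain ⟨m21, hm21⟩ : ∃ m, m = QuadraticMap.polar (⇑Q) r p' := ⟨_, rfl⟩
  obtain ⟨m11, hm11⟩ : ∃ m, m = QuadraticMap.polar (⇑Q) p p' := ⟨_, rfl⟩
  rw [← hβ'] at hβ
  rw [← hβ', ← hm12, ← hm21, ← hm11] at hΔ
  have hdet : β * 1 - (-m12) * 0 ≠ 0 := by simpa using hβ
  have hdet' : β * 1 - (-m21) * 0 ≠ 0 := by simpa using hβ
  have hT : T Q (β • p + (-m12) • r) ((0 : F) • p + (1 : F) • r) = T Q p r := T_base hdet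
  have hT' : T Q (β • p' + (-m21) • r') ((0 : F) • p' + (1 : F) • r') = T Q p' r' := T_base hdet'
  have hs : SPair Q (β • p + (-m12) • r) ((0 : F) • p + (1 : F) • r) := h.base hdet
  have hs' : SPair Q (β • p' + (-m21) • r') ((0 : F) • p' + (1 : F) • r') := h'.base hdet'
  rw [← hT, ← hT']
  have e0 : QuadraticMap.polar (⇑Q) r' r = β := by rw [QuadraticMap.polar_comm]; exact hβ'.symm
  refine cases_norm hs hs' hβ ?_ ?_ ?_ ?_
  · simp only [QuadraticMap.polar_add_left, QuadraticMap.polar_add_right,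
      QuadraticMap.polar_smul_left, QuadraticMap.polar_smul_right, ← hβ', ← hm12, ← hm21, ← hm11,
      smul_eq_mul]
    linear_combination β * hΔ
  · simp only [QuadraticMap.polar_add_left, QuadraticMap.polar_add_right,
      QuadraticMap.polar_smul_left, QuadraticMap.polar_smul_right, ← hβ', ← hm12, ← hm21, ← hm11,
      smul_eq_mul]
    ring
  · simp only [QuadraticMap.polar_add_left, QuadraticMap.polar_add_right,
      QuadraticMap.polar_smul_left, QuadraticMap.polar_smul_right, ← hβ', ← hm12, ← hm21, ← hm11,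
      smul_eq_mul]
    ring
  · simp only [QuadraticMap.polar_add_left, QuadraticMap.polar_add_right,
      QuadraticMap.polar_smul_left, QuadraticMap.polar_smul_right, ← hβ', ← hm12, ← hm21, ← hm11,
      smul_eq_mul]
    ring

/-- A degenerate Gram matrix: commute or commutator case. -/
theorem cases_degenerate {p r p' r' : ι → F} (h : SPair Q p r) (h' : SPair Q p' r')
    (hΔ : QuadraticMap.polar (⇑Q) p p' * QuadraticMap.polar (⇑Q) r r'
      - QuadraticMap.polar (⇑Q) p r' * QuadraticMap.polar (⇑Q) r p' = 0) :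
    (∀ a ∈ T Q p r, ∀ b ∈ T Q p' r', a * b = b * a) ∨
      Cfsg.RootCommutatorCase (Sset Q) (T Q p r) (T Q p' r') := by
  by_cases h22 : QuadraticMap.polar (⇑Q) r r' = 0
  · by_cases h21 : QuadraticMap.polar (⇑Q) r p' = 0
    · by_cases h12 : QuadraticMap.polar (⇑Q) p r' = 0
      · by_cases h11 : QuadraticMap.polar (⇑Q) p p' = 0
        · left
          exact T_commute h h' h11 h12 h21 h22
        · have := cases_main h.swap h'.swap h11 (by linear_combination hΔ)
          rwa [T_swap p r, T_swap p' r'] at this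
      · have := cases_main h.swap h' h12 (by linear_combination -hΔ)
        rwa [T_swap p r] at this
    · have := cases_main h h'.swap h21 (by linear_combination -hΔ)
      rwa [T_swap p' r'] at this
  · exact cases_main h h' h22 hΔ

end Cfsg.Agent.Lib.Helper83_Siegel2
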