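import Mathlib
import Cfsg.Prelude.Def_Classical
import Cfsg.Prelude.Def_ClassicalGeometry
import Cfsg.Prelude.Def_RootSubgroups
import Cfsg.Agent.Lib.Helper44_Orth
import Cfsg.Agent.Lib.Helper44_Refl
import Cfsg.Agent.Lib.Helper14_Siegel
import Cfsg.Agent.Lib.Helper13_RootSL2
import Cfsg.Agent.Lib.Helper83_Siegel1

set_option autoImplicit false
set_option linter.unusedSimpArgs false

/-!
Opposite singular lines: the two Siegel root groups generate an image of `SL₂(F)` (helper83).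
-/

namespace Cfsg.Agent.Lib.Helper83_Siegel3

open Cfsg Matrix Cfsg.Agent.Lib.Helper44_Orth Cfsg.Agent.Lib.Helper44_Refl
  Cfsg.Agent.Lib.Helper14_Siegel Cfsg.Agent.Lib.Helper83_Siegel1
  Cfsg.Agent.Lib.Helper13_RootSL2

variable {ι : Type} [Fintype ι] [DecidableEq ι] {F : Type*} [Field F]
variable {Q : QuadraticForm F (ι → F)}

/-- Two singular lines in normalised opposite position. -/
structure Opp (Q : QuadraticForm F (ι → F)) (p r p' r' : ι → F) : Prop where
  h : SPair Q p r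
  h' : SPair Q p' r'
  h11 : QuadraticMap.polar (⇑Q) p p' = 0
  h12 : QuadraticMap.polar (⇑Q) p r' = 1
  h21 : QuadraticMap.polar (⇑Q) r p' = -1
  h22 : QuadraticMap.polar (⇑Q) r r' = 0

/-- The matrix of the action of a `2 × 2` matrix on the two natural modules `⟨p, p'⟩`, `⟨r, r'⟩`. -/
def Phi (Q : QuadraticForm F (ι → F)) (p r p' r' : ι → F) (g : Matrix (Fin 2) (Fin 2) F) :
    Matrix ι ι F :=
  1 + Matrix.vecMulVec ((g 0 0 - 1) • p + g 1 0 • p') (Cfsg.polarVec (⇑Q) r')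
    - Matrix.vecMulVec (g 0 1 • p + (g 1 1 - 1) • p') (Cfsg.polarVec (⇑Q) r)
    - Matrix.vecMulVec ((g 0 0 - 1) • r + g 1 0 • r') (Cfsg.polarVec (⇑Q) p')
    + Matrix.vecMulVec (g 0 1 • r + (g 1 1 - 1) • r') (Cfsg.polarVec (⇑Q) p)

theorem Phi_mulVec (p r p' r' : ι → F) (g : Matrix (Fin 2) (Fin 2) F) (x : ι → F) :
    Phi Q p r p' r' g *ᵥ x = x
      + QuadraticMap.polar (⇑Q) r' x • ((g 0 0 - 1) • p + g 1 0 • p')
      - QuadraticMap.polar (⇑Q) r x • (g 0 1 • p + (g 1 1 - 1) • p')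
      - QuadraticMap.polar (⇑Q) p' x • ((g 0 0 - 1) • r + g 1 0 • r')
      + QuadraticMap.polar (⇑Q) p x • (g 0 1 • r + (g 1 1 - 1) • r') := by
  rw [Phi, Matrix.add_mulVec, Matrix.sub_mulVec, Matrix.sub_mulVec, Matrix.add_mulVec,
    Matrix.one_mulVec, Matrix.vecMulVec_mulVec, Matrix.vecMulVec_mulVec, Matrix.vecMulVec_mulVec,
    Matrix.vecMulVec_mulVec, polarVec_dotProduct, polarVec_dotProduct, polarVec_dotProduct,
    polarVec_dotProduct]
  funext i
  simp only [Pi.add_apply, Pi.sub_apply, Pi.smul_apply, smul_eq_mul, MulOpposite.smul_eq_mul_unop,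
    MulOpposite.unop_op]
  ring

theorem Phi_one (p r p' r' : ι → F) : Phi Q p r p' r' 1 = 1 := by
  apply matrix_ext_mulVec
  intro x
  rw [Phi_mulVec]
  simp

theorem Phi_mul {p r p' r' : ι → F} (o : Opp Q p r p' r') (g k : Matrix (Fin 2) (Fin 2) F) :
    Phi Q p r p' r' (g * k) = Phi Q p r p' r' g * Phi Q p r p' r' k := by
  have h11' : QuadraticMap.polar (⇑Q) p' p = 0 := by rw [QuadraticMap.polar_comm]; exact o.h11
  have h12' : QuadraticMap.polar (⇑Q) r' p = 1 := by rw [QuadraticMap.polar_comm]; exact o.h12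
  have h21' : QuadraticMap.polar (⇑Q) p' r = -1 := by rw [QuadraticMap.polar_comm]; exact o.h21
  have h22' : QuadraticMap.polar (⇑Q) r' r = 0 := by rw [QuadraticMap.polar_comm]; exact o.h22
  apply matrix_ext_mulVec
  intro x
  rw [← Matrix.mulVec_mulVec]
  simp only [Phi_mulVec, QuadraticMap.polar_add_right, QuadraticMap.polar_sub_right,
    QuadraticMap.polar_smul_right, o.h11, o.h12, o.h21, o.h22, h11', h12', h21', h22',
    o.h.hpr, o.h.hrp, o.h.hpp, o.h.hrr, o.h'.hpr, o.h'.hrp, o.h'.hpp, o.h'.hrr, smul_eq_mul,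
    Matrix.mul_apply, Fin.sum_univ_two]
  funext i
  simp only [Pi.add_apply, Pi.sub_apply, Pi.smul_apply, smul_eq_mul]
  ring

theorem Phi_up (p r p' r' : ι → F) (s : F) :
    Phi Q p r p' r' (up s : Matrix.SpecialLinearGroup (Fin 2) F) = Cfsg.siegelMatrix (⇑Q) p r s := by
  apply matrix_ext_mulVec
  intro x
  rw [Phi_mulVec, siegelMatrix_mulVec, up_coe]
  funext i
  simp only [Matrix.of_apply, Matrix.cons_val', Matrix.cons_val_zero, Matrix.cons_val_one,
    Matrix.cons_val_fin_one, Pi.add_apply, Pi.sub_apply, Pi.smul_apply, smul_eq_mul]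
  ring

theorem Phi_lo (p r p' r' : ι → F) (s : F) :
    Phi Q p r p' r' (lo s : Matrix.SpecialLinearGroup (Fin 2) F) =
      Cfsg.siegelMatrix (⇑Q) r' p' s := by
  apply matrix_ext_mulVec
  intro x
  rw [Phi_mulVec, siegelMatrix_mulVec, lo_coe]
  funext i
  simp only [Matrix.of_apply, Matrix.cons_val', Matrix.cons_val_zero, Matrix.cons_val_one,
    Matrix.cons_val_fin_one, Pi.add_apply, Pi.sub_apply, Pi.smul_apply, smul_eq_mul]
  ring

/-- `Phi` as a monoid homomorphism on `SL₂(F)` with values in matrices. -/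
def PhiSL {p r p' r' : ι → F} (o : Opp Q p r p' r') :
    Matrix.SpecialLinearGroup (Fin 2) F →* Matrix ι ι F where
  toFun g := Phi Q p r p' r' (g : Matrix (Fin 2) (Fin 2) F)
  map_one' := by rw [Matrix.SpecialLinearGroup.coe_one, Phi_one]
  map_mul' g k := by rw [Matrix.SpecialLinearGroup.coe_mul, Phi_mul o]

/-- `Phi` with values in the general linear group. -/
def PhiGL {p r p' r' : ι → F} (o : Opp Q p r p' r') :
    Matrix.SpecialLinearGroup (Fin 2) F →* Matrix.GeneralLinearGroup ι F :=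
  (PhiSL o).toHomUnits

theorem PhiGL_coe {p r p' r' : ι → F} (o : Opp Q p r p' r')
    (g : Matrix.SpecialLinearGroup (Fin 2) F) :
    ((PhiGL o g : Matrix.GeneralLinearGroup ι F) : Matrix ι ι F) =
      Phi Q p r p' r' (g : Matrix (Fin 2) (Fin 2) F) := rfl

theorem PhiGL_up {p r p' r' : ι → F} (o : Opp Q p r p' r') (s : F) :
    PhiGL o (up s) = ((elt o.h s : ↥(Cfsg.isometryGroup F (⇑Q))) :
      Matrix.GeneralLinearGroup ι F) := by
  apply Units.ext
  rw [PhiGL_coe, Phi_up, elt_coe]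

theorem PhiGL_lo {p r p' r' : ι → F} (o : Opp Q p r p' r') (s : F) :
    PhiGL o (lo s) = ((elt o.h'.swap s : ↥(Cfsg.isometryGroup F (⇑Q))) :
      Matrix.GeneralLinearGroup ι F) := by
  apply Units.ext
  rw [PhiGL_coe, Phi_lo, elt_coe]

theorem PhiGL_mem {p r p' r' : ι → F} (o : Opp Q p r p' r')
    (g : Matrix.SpecialLinearGroup (Fin 2) F) : PhiGL o g ∈ Cfsg.isometryGroup F (⇑Q) := by
  obtain ⟨x, y, z, w, rfl⟩ := exists_factor g
  rw [map_mul, map_mul, map_mul, PhiGL_up, PhiGL_up, PhiGL_lo, PhiGL_lo]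
  exact mul_mem (mul_mem (mul_mem (SetLike.coe_mem _) (SetLike.coe_mem _)) (SetLike.coe_mem _))
    (SetLike.coe_mem _)

/-- The homomorphism `SL₂(F) → O(Q)` attached to a normalised opposite pair of lines. -/
def phi {p r p' r' : ι → F} (o : Opp Q p r p' r') :
    Matrix.SpecialLinearGroup (Fin 2) F →* ↥(Cfsg.isometryGroup F (⇑Q)) :=
  (PhiGL o).codRestrict (Cfsg.isometryGroup F (⇑Q)) (PhiGL_mem o)

theorem phi_up {p r p' r' : ι → F} (o : Opp Q p r p' r') (s : F) : phi o (up s) = elt o.h s := by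
  apply Subtype.ext
  exact PhiGL_up o s

theorem phi_lo {p r p' r' : ι → F} (o : Opp Q p r p' r') (s : F) :
    phi o (lo s) = elt o.h'.swap s := by
  apply Subtype.ext
  exact PhiGL_lo o s

theorem phi_coe {p r p' r' : ι → F} (o : Opp Q p r p' r')
    (g : Matrix.SpecialLinearGroup (Fin 2) F) :
    ((phi o g : Matrix.GeneralLinearGroup ι F) : Matrix ι ι F) =
      Phi Q p r p' r' (g : Matrix (Fin 2) (Fin 2) F) := rfl

theorem phi_injective {p r p' r' : ι → F} (o : Opp Q p r p' r') : Function.Injective (phi o) := by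
  rw [injective_iff_map_eq_one]
  intro g hg
  have hM : Phi Q p r p' r' (g : Matrix (Fin 2) (Fin 2) F) = 1 := by
    rw [← phi_coe o, hg]; rfl
  have h12' : QuadraticMap.polar (⇑Q) r' p = 1 := by rw [QuadraticMap.polar_comm]; exact o.h12
  have h11' : QuadraticMap.polar (⇑Q) p' p = 0 := by rw [QuadraticMap.polar_comm]; exact o.h11
  have e1 := congrArg (fun M : Matrix ι ι F => M *ᵥ p) hM
  have e2 := congrArg (fun M : Matrix ι ι F => M *ᵥ p') hM
  simp only [Phi_mulVec, Matrix.one_mulVec, h12', h11', o.h.hrp, o.h.hpp, o.h'.hrp, o.h'.hpp,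
    o.h21, o.h11, one_smul, zero_smul, neg_smul, sub_zero, add_zero, sub_neg_eq_add] at e1 e2
  have f1 : (g : Matrix (Fin 2) (Fin 2) F) 0 0 - 1 = 0 ∧ (g : Matrix (Fin 2) (Fin 2) F) 1 0 = 0 := by
    have e3 : ((g : Matrix (Fin 2) (Fin 2) F) 0 0 - 1) • p
        + (g : Matrix (Fin 2) (Fin 2) F) 1 0 • p' = 0 := by
      have := e1
      rw [add_eq_left] at this
      exact this
    have e4 := congrArg (fun z => QuadraticMap.polar (⇑Q) r' z) e3
    have e5 := congrArg (fun z => QuadraticMap.polar (⇑Q) r z) e3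
    simp only [QuadraticMap.polar_add_right, QuadraticMap.polar_smul_right, h12', o.h'.hrp,
      o.h.hrp, o.h21, smul_eq_mul, mul_one, mul_zero, add_zero, zero_add, mul_neg,
      QuadraticMap.polar_zero_right, neg_eq_zero] at e4 e5
    exact ⟨e4, e5⟩
  have f2 : (g : Matrix (Fin 2) (Fin 2) F) 0 1 = 0 ∧ (g : Matrix (Fin 2) (Fin 2) F) 1 1 - 1 = 0 := by
    have e3 : (g : Matrix (Fin 2) (Fin 2) F) 0 1 • p
        + ((g : Matrix (Fin 2) (Fin 2) F) 1 1 - 1) • p' = 0 := by
      have := e2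
      rw [add_eq_left] at this
      exact this
    have e4 := congrArg (fun z => QuadraticMap.polar (⇑Q) r' z) e3
    have e5 := congrArg (fun z => QuadraticMap.polar (⇑Q) r z) e3
    simp only [QuadraticMap.polar_add_right, QuadraticMap.polar_smul_right, h12', o.h'.hrp,
      o.h.hrp, o.h21, smul_eq_mul, mul_one, mul_zero, add_zero, zero_add, mul_neg,
      QuadraticMap.polar_zero_right, neg_eq_zero] at e4 e5
    exact ⟨e4, e5⟩
  apply Subtype.ext
  rw [Matrix.SpecialLinearGroup.coe_one]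
  ext i j
  fin_cases i <;> fin_cases j
  · simpa [sub_eq_zero] using f1.1
  · simpa using f2.1
  · simpa using f1.2
  · simpa [sub_eq_zero] using f2.2

/-- Normalised opposite lines give a `(P)SL₂(F)`-pair. -/
theorem psl2_of_opp {p r p' r' : ι → F} (o : Opp Q p r p' r') :
    Cfsg.IsPSL2PairOver F (T Q p r) (T Q p' r') := by
  apply isPSL2PairOver_of_hom (phi o)
  · intro g hg
    rw [MonoidHom.mem_ker] at hg
    have : g = 1 := phi_injective o (by rw [hg, map_one])
    rw [this]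
    exact one_mem _
  · apply map_upper_eq
    · intro s
      rw [phi_up]
      exact elt_mem o.h s
    · intro a ha
      obtain ⟨c, rfl⟩ := (mem_T o.h).mp ha
      exact ⟨c, phi_up o c⟩
  · apply map_lower_eq
    · intro s
      rw [phi_lo, ← T_swap]
      exact elt_mem o.h'.swap s
    · intro b hb
      rw [← T_swap] at hb
      obtain ⟨c, rfl⟩ := (mem_T o.h'.swap).mp hb
      exact ⟨c, phi_lo o c⟩

/-- Opposite lines (non-degenerate Gram matrix) give a `(P)SL₂(F)`-pair. -/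
theorem psl2_of_det_ne_zero {p r p' r' : ι → F} (h : SPair Q p r) (h' : SPair Q p' r')
    (hΔ : QuadraticMap.polar (⇑Q) p p' * QuadraticMap.polar (⇑Q) r r'
      - QuadraticMap.polar (⇑Q) p r' * QuadraticMap.polar (⇑Q) r p' ≠ 0) :
    Cfsg.IsPSL2PairOver F (T Q p r) (T Q p' r') := by
  obtain ⟨m11, hm11⟩ : ∃ m, m = QuadraticMap.polar (⇑Q) p p' := ⟨_, rfl⟩
  obtain ⟨m12, hm12⟩ : ∃ m, m = QuadraticMap.polar (⇑Q) p r' := ⟨_, rfl⟩
  obtain ⟨m21, hm21⟩ : ∃ m, m = QuadraticMap.polar (⇑Q) r p' := ⟨_, rfl⟩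
  obtain ⟨m22, hm22⟩ : ∃ m, m = QuadraticMap.polar (⇑Q) r r' := ⟨_, rfl⟩
  rw [← hm11, ← hm12, ← hm21, ← hm22] at hΔ
  obtain ⟨Δ, hΔ'⟩ : ∃ Δ, Δ = m11 * m22 - m12 * m21 := ⟨_, rfl⟩
  rw [← hΔ'] at hΔ
  have hdet : (m12 / Δ) * (-m21 / Δ) - (-m11 / Δ) * (m22 / Δ) ≠ 0 := by
    have : (m12 / Δ) * (-m21 / Δ) - (-m11 / Δ) * (m22 / Δ) = 1 / Δ := by
      field_simp
      rw [hΔ']; ring
    rw [this]
    exact one_div_ne_zero hΔ
  have hT' : T Q ((m12 / Δ) • p' + (-m11 / Δ) • r') ((m22 / Δ) • p' + (-m21 / Δ) • r')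
      = T Q p' r' := T_base hdet
  have hs' : SPair Q ((m12 / Δ) • p' + (-m11 / Δ) • r') ((m22 / Δ) • p' + (-m21 / Δ) • r') :=
    h'.base hdet
  rw [← hT']
  apply psl2_of_opp
  refine ⟨h, hs', ?_, ?_, ?_, ?_⟩
  · simp only [QuadraticMap.polar_add_right, QuadraticMap.polar_smul_right, ← hm11, ← hm12,
      ← hm21, ← hm22, smul_eq_mul]
    field_simp
    ring
  · simp only [QuadraticMap.polar_add_right, QuadraticMap.polar_smul_right, ← hm11, ← hm12,
      ← hm21, ← hm22, smul_eq_mul]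
    field_simp
    rw [hΔ']; ring
  · simp only [QuadraticMap.polar_add_right, QuadraticMap.polar_smul_right, ← hm11, ← hm12,
      ← hm21, ← hm22, smul_eq_mul]
    field_simp
    rw [hΔ']; ring
  · simp only [QuadraticMap.polar_add_right, QuadraticMap.polar_smul_right, ← hm11, ← hm12,
      ← hm21, ← hm22, smul_eq_mul]
    field_simp
    ring

end Cfsg.Agent.Lib.Helper83_Siegel3
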