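import Mathlib
import Cfsg.Prelude.Def_Classical
import Cfsg.Prelude.Def_ClassicalGeometry
import Cfsg.Prelude.Def_RootSubgroups
import Cfsg.Agent.Lib.Helper44_Orth
import Cfsg.Agent.Lib.Helper44_Refl
import Cfsg.Agent.Lib.Helper14_Siegel
import Cfsg.Agent.Lib.Helper83_Siegel1

set_option autoImplicit false
set_option linter.unusedSimpArgs false

/-!
Any two singular lines of a quadratic space with non-degenerate polar form and dimension at least
five have a common opposite singular line (helper83).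
-/

namespace Cfsg.Agent.Lib.Helper83_Siegel4

open Cfsg Matrix Cfsg.Agent.Lib.Helper44_Orth Cfsg.Agent.Lib.Helper44_Refl
  Cfsg.Agent.Lib.Helper14_Siegel Cfsg.Agent.Lib.Helper83_Siegel1

variable {ι : Type} [Fintype ι] [DecidableEq ι] {F : Type*} [Field F]
variable {Q : QuadraticForm F (ι → F)}

omit [Fintype ι] [DecidableEq ι] in
/-- A vector orthogonal to `x` and to neither of `q`, `q'`. -/
theorem exists_two (hQ : (QuadraticMap.polarBilin Q).Nondegenerate) {x q q' : ι → F}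
    (hq : ∀ a : F, q ≠ a • x) (hq' : ∀ a : F, q' ≠ a • x) :
    ∃ v, QuadraticMap.polar (⇑Q) v x = 0 ∧ QuadraticMap.polar (⇑Q) v q ≠ 0 ∧
      QuadraticMap.polar (⇑Q) v q' ≠ 0 := by
  obtain ⟨v₁, h1, h2⟩ := exists_polar_pair Q hQ hq
  obtain ⟨v₂, h3, h4⟩ := exists_polar_pair Q hQ hq'
  by_cases h5 : QuadraticMap.polar (⇑Q) v₁ q' = 0
  · by_cases h6 : QuadraticMap.polar (⇑Q) v₂ q = 0
    · refine ⟨v₁ + v₂, ?_, ?_, ?_⟩
      · rw [QuadraticMap.polar_add_left, h1, h3, add_zero]
      · rw [QuadraticMap.polar_add_left, h2, h6, add_zero]; exact one_ne_zero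
      · rw [QuadraticMap.polar_add_left, h5, h4, zero_add]; exact one_ne_zero
    · exact ⟨v₂, h3, h6, by rw [h4]; exact one_ne_zero⟩
  · exact ⟨v₁, h1, by rw [h2]; exact one_ne_zero, h5⟩

omit [Fintype ι] [DecidableEq ι] in
/-- Case A: `q ⟂ q'`. -/
theorem exists_singular_A (hQ : (QuadraticMap.polarBilin Q).Nondegenerate) {x q q' : ι → F}
    (hq : ∀ a : F, q ≠ a • x) (hq' : ∀ a : F, q' ≠ a • x) (hQq : Q q = 0)
    (hqx : QuadraticMap.polar (⇑Q) q x = 0) (hqq' : QuadraticMap.polar (⇑Q) q q' = 0) :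
    ∃ y, Q y = 0 ∧ QuadraticMap.polar (⇑Q) y x = 0 ∧ QuadraticMap.polar (⇑Q) y q ≠ 0 ∧
      QuadraticMap.polar (⇑Q) y q' ≠ 0 := by
  obtain ⟨v, h1, h2, h3⟩ := exists_two hQ hq hq'
  have hqq : QuadraticMap.polar (⇑Q) q q = 0 := polar_self_of_singular Q hQq
  refine ⟨v - (Q v / QuadraticMap.polar (⇑Q) v q) • q, ?_, ?_, ?_, ?_⟩
  · rw [map_sub_smul, hQq, QuadraticMap.polar_comm (⇑Q) q v]
    field_simp
    ring
  · rw [QuadraticMap.polar_sub_left, QuadraticMap.polar_smul_left, hqx, h1]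
    simp
  · rw [QuadraticMap.polar_sub_left, QuadraticMap.polar_smul_left, hqq]
    simpa using h2
  · rw [QuadraticMap.polar_sub_left, QuadraticMap.polar_smul_left, hqq']
    simpa using h3

omit [DecidableEq ι] in
/-- Case B: `B(q, q') ≠ 0`; here the dimension is used. -/
theorem exists_singular_B (hQ : (QuadraticMap.polarBilin Q).Nondegenerate)
    (hcard : 5 ≤ Fintype.card ι) {x q q' : ι → F} (hx : x ≠ 0) (hQx : Q x = 0) (hQq : Q q = 0)
    (hQq' : Q q' = 0) (hqx : QuadraticMap.polar (⇑Q) q x = 0)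
    (hq'x : QuadraticMap.polar (⇑Q) q' x = 0) (hβ : QuadraticMap.polar (⇑Q) q q' ≠ 0) :
    ∃ y, Q y = 0 ∧ QuadraticMap.polar (⇑Q) y x = 0 ∧ QuadraticMap.polar (⇑Q) y q ≠ 0 ∧
      QuadraticMap.polar (⇑Q) y q' ≠ 0 := by
  obtain ⟨β, hβ'⟩ : ∃ β, β = QuadraticMap.polar (⇑Q) q q' := ⟨_, rfl⟩
  rw [← hβ'] at hβ
  have hqq' : QuadraticMap.polar (⇑Q) q q' = β := hβ'.symm
  have hq'q : QuadraticMap.polar (⇑Q) q' q = β := by rw [QuadraticMap.polar_comm]; exact hqq'
  have hxq : QuadraticMap.polar (⇑Q) x q = 0 := by rw [QuadraticMap.polar_comm]; exact hqx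
  have hxq' : QuadraticMap.polar (⇑Q) x q' = 0 := by rw [QuadraticMap.polar_comm]; exact hq'x
  have hqq : QuadraticMap.polar (⇑Q) q q = 0 := polar_self_of_singular Q hQq
  have hq'q' : QuadraticMap.polar (⇑Q) q' q' = 0 := polar_self_of_singular Q hQq'
  have hxx : QuadraticMap.polar (⇑Q) x x = 0 := polar_self_of_singular Q hQx
  -- a singular partner `w'` of `x` orthogonal to `q`, `q'`
  obtain ⟨w₀, hw₀⟩ := exists_polar_eq_one Q hQ hx
  obtain ⟨w₁, hw₁⟩ : ∃ w₁, w₁ = w₀ - (QuadraticMap.polar (⇑Q) w₀ q' / β) • q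
      - (QuadraticMap.polar (⇑Q) w₀ q / β) • q' := ⟨_, rfl⟩
  have hw₁x : QuadraticMap.polar (⇑Q) w₁ x = 1 := by
    rw [hw₁]
    simp only [QuadraticMap.polar_sub_left, QuadraticMap.polar_smul_left, hqx, hq'x, hw₀,
      smul_eq_mul, mul_zero, sub_zero]
  have hw₁q : QuadraticMap.polar (⇑Q) w₁ q = 0 := by
    rw [hw₁]
    simp only [QuadraticMap.polar_sub_left, QuadraticMap.polar_smul_left, hqq, hq'q,
      smul_eq_mul, mul_zero, sub_zero]
    field_simp
    ring
  have hw₁q' : QuadraticMap.polar (⇑Q) w₁ q' = 0 := by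
    rw [hw₁]
    simp only [QuadraticMap.polar_sub_left, QuadraticMap.polar_smul_left, hqq', hq'q',
      smul_eq_mul, mul_zero, sub_zero]
    field_simp
    ring
  obtain ⟨w', hw'⟩ : ∃ w', w' = w₁ - Q w₁ • x := ⟨_, rfl⟩
  have hw'x : QuadraticMap.polar (⇑Q) w' x = 1 := by
    rw [hw', QuadraticMap.polar_sub_left, QuadraticMap.polar_smul_left, hxx, hw₁x]
    simp
  have hw'q : QuadraticMap.polar (⇑Q) w' q = 0 := by
    rw [hw', QuadraticMap.polar_sub_left, QuadraticMap.polar_smul_left, hxq, hw₁q]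
    simp
  have hw'q' : QuadraticMap.polar (⇑Q) w' q' = 0 := by
    rw [hw', QuadraticMap.polar_sub_left, QuadraticMap.polar_smul_left, hxq', hw₁q']
    simp
  have hQw' : Q w' = 0 := by
    rw [hw', map_sub_smul, hQx, QuadraticMap.polar_comm (⇑Q) x w₁, hw₁x]
    ring
  have hw'w' : QuadraticMap.polar (⇑Q) w' w' = 0 := polar_self_of_singular Q hQw'
  have hxw' : QuadraticMap.polar (⇑Q) x w' = 1 := by rw [QuadraticMap.polar_comm]; exact hw'x
  have hqw' : QuadraticMap.polar (⇑Q) q w' = 0 := by rw [QuadraticMap.polar_comm]; exact hw'q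
  have hq'w' : QuadraticMap.polar (⇑Q) q' w' = 0 := by rw [QuadraticMap.polar_comm]; exact hw'q'
  -- the projection to the orthogonal complement of `⟨q, q', x, w'⟩`
  obtain ⟨prj, hprj⟩ : ∃ prj : (ι → F) → (ι → F), ∀ u, prj u = u
      - (QuadraticMap.polar (⇑Q) u q' / β) • q - (QuadraticMap.polar (⇑Q) u q / β) • q'
      - QuadraticMap.polar (⇑Q) u w' • x - QuadraticMap.polar (⇑Q) u x • w' := ⟨_, fun _ => rfl⟩
  have hprj_q : ∀ u, QuadraticMap.polar (⇑Q) (prj u) q = 0 := by
    intro u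
    rw [hprj]
    simp only [QuadraticMap.polar_sub_left, QuadraticMap.polar_smul_left, hqq, hq'q, hxq, hw'q,
      smul_eq_mul, mul_zero, sub_zero]
    field_simp
    ring
  have hprj_q' : ∀ u, QuadraticMap.polar (⇑Q) (prj u) q' = 0 := by
    intro u
    rw [hprj]
    simp only [QuadraticMap.polar_sub_left, QuadraticMap.polar_smul_left, hqq', hq'q', hxq', hw'q',
      smul_eq_mul, mul_zero, sub_zero]
    field_simp
    ring
  have hprj_x : ∀ u, QuadraticMap.polar (⇑Q) (prj u) x = 0 := by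
    intro u
    rw [hprj]
    simp only [QuadraticMap.polar_sub_left, QuadraticMap.polar_smul_left, hqx, hq'x, hxx, hw'x,
      smul_eq_mul, mul_zero, sub_zero, mul_one, sub_self]
  have hprj_w' : ∀ u, QuadraticMap.polar (⇑Q) (prj u) w' = 0 := by
    intro u
    rw [hprj]
    simp only [QuadraticMap.polar_sub_left, QuadraticMap.polar_smul_left, hqw', hq'w', hxw', hw'w',
      smul_eq_mul, mul_zero, sub_zero, mul_one, sub_self]
  have hprj_polar : ∀ z u, QuadraticMap.polar (⇑Q) z q = 0 → QuadraticMap.polar (⇑Q) z q' = 0 →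
      QuadraticMap.polar (⇑Q) z x = 0 → QuadraticMap.polar (⇑Q) z w' = 0 →
      QuadraticMap.polar (⇑Q) z (prj u) = QuadraticMap.polar (⇑Q) z u := by
    intro z u e1 e2 e3 e4
    rw [hprj]
    simp only [QuadraticMap.polar_sub_right, QuadraticMap.polar_smul_right, e1, e2, e3, e4,
      smul_eq_mul, mul_zero, sub_zero]
  -- a vector outside the span of `q, q', x, w'`
  obtain ⟨v, hv⟩ : ∃ v : ι → F, v ∉ Submodule.span F (Set.range ![q, q', x, w']) := by
    by_contra hcon
    push Not at hcon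
    have htop : Submodule.span F (Set.range ![q, q', x, w']) = ⊤ := by
      rw [eq_top_iff]
      intro v _
      exact hcon v
    have h1 : (Set.range ![q, q', x, w']).finrank F ≤ Fintype.card (Fin 4) :=
      finrank_range_le_card _
    rw [Set.finrank, htop, finrank_top, Module.finrank_fintype_fun_eq_card, Fintype.card_fin] at h1
    omega
  have hmem : ∀ i : Fin 4, ![q, q', x, w'] i ∈ Submodule.span F (Set.range ![q, q', x, w']) :=
    fun i => Submodule.subset_span ⟨i, rfl⟩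
  have hz₁ : prj v ≠ 0 := by
    intro h0
    apply hv
    have e : v = (QuadraticMap.polar (⇑Q) v q' / β) • q + (QuadraticMap.polar (⇑Q) v q / β) • q'
        + QuadraticMap.polar (⇑Q) v w' • x + QuadraticMap.polar (⇑Q) v x • w' := by
      have h := h0
      rw [hprj] at h
      rw [← sub_eq_zero, ← h]
      abel
    rw [e]
    exact Submodule.add_mem _ (Submodule.add_mem _ (Submodule.add_mem _
      (Submodule.smul_mem _ _ (hmem 0)) (Submodule.smul_mem _ _ (hmem 1)))
      (Submodule.smul_mem _ _ (hmem 2))) (Submodule.smul_mem _ _ (hmem 3))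
  obtain ⟨u, hu⟩ : ∃ u, QuadraticMap.polar (⇑Q) (prj v) u ≠ 0 := by
    by_contra hcon
    push Not at hcon
    exact hz₁ (eq_zero_of_polar Q hQ hcon)
  have hz₁₂ : QuadraticMap.polar (⇑Q) (prj v) (prj u) ≠ 0 := by
    rw [hprj_polar _ _ (hprj_q v) (hprj_q' v) (hprj_x v) (hprj_w' v)]
    exact hu
  -- a non-singular vector orthogonal to `q, q', x`
  obtain ⟨z, hzq, hzq', hzx, hQz⟩ : ∃ z, QuadraticMap.polar (⇑Q) z q = 0 ∧
      QuadraticMap.polar (⇑Q) z q' = 0 ∧ QuadraticMap.polar (⇑Q) z x = 0 ∧ Q z ≠ 0 := by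
    by_cases e1 : Q (prj v) = 0
    · by_cases e2 : Q (prj u) = 0
      · refine ⟨prj v + prj u, ?_, ?_, ?_, ?_⟩
        · rw [QuadraticMap.polar_add_left, hprj_q, hprj_q, add_zero]
        · rw [QuadraticMap.polar_add_left, hprj_q', hprj_q', add_zero]
        · rw [QuadraticMap.polar_add_left, hprj_x, hprj_x, add_zero]
        · rw [QuadraticMap.map_add (⇑Q), e1, e2, zero_add, zero_add]
          exact hz₁₂
      · exact ⟨prj u, hprj_q u, hprj_q' u, hprj_x u, e2⟩
    · exact ⟨prj v, hprj_q v, hprj_q' v, hprj_x v, e1⟩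
  have hqz : QuadraticMap.polar (⇑Q) q z = 0 := by rw [QuadraticMap.polar_comm]; exact hzq
  have hq'z : QuadraticMap.polar (⇑Q) q' z = 0 := by rw [QuadraticMap.polar_comm]; exact hzq'
  refine ⟨q + (-Q z / β) • q' + z, ?_, ?_, ?_, ?_⟩
  · rw [QuadraticMap.map_add (⇑Q), QuadraticMap.map_add (⇑Q), QuadraticMap.map_smul, hQq, hQq']
    simp only [QuadraticMap.polar_add_left, QuadraticMap.polar_smul_left,
      QuadraticMap.polar_smul_right, hqq', hqz, hq'z, smul_eq_mul, mul_zero, add_zero, zero_add]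
    field_simp
    ring
  · simp only [QuadraticMap.polar_add_left, QuadraticMap.polar_smul_left, hqx, hq'x, hzx,
      smul_eq_mul, mul_zero, add_zero]
  · simp only [QuadraticMap.polar_add_left, QuadraticMap.polar_smul_left, hqq, hq'q, hzq,
      smul_eq_mul, mul_zero, add_zero, zero_add]
    rw [div_mul_cancel₀ _ hβ]
    exact neg_ne_zero.mpr hQz
  · simp only [QuadraticMap.polar_add_left, QuadraticMap.polar_smul_left, hqq', hq'q', hzq',
      smul_eq_mul, mul_zero, add_zero]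
    exact hβ

omit [DecidableEq ι] in
/-- The combined statement. -/
theorem exists_singular (hQ : (QuadraticMap.polarBilin Q).Nondegenerate)
    (hcard : 5 ≤ Fintype.card ι) {x q q' : ι → F} (hx : x ≠ 0) (hQx : Q x = 0)
    (hq : ∀ a : F, q ≠ a • x) (hq' : ∀ a : F, q' ≠ a • x) (hQq : Q q = 0)
    (hQq' : Q q' = 0) (hqx : QuadraticMap.polar (⇑Q) q x = 0)
    (hq'x : QuadraticMap.polar (⇑Q) q' x = 0) :
    ∃ y, Q y = 0 ∧ QuadraticMap.polar (⇑Q) y x = 0 ∧ QuadraticMap.polar (⇑Q) y q ≠ 0 ∧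
      QuadraticMap.polar (⇑Q) y q' ≠ 0 := by
  by_cases hβ : QuadraticMap.polar (⇑Q) q q' = 0
  · exact exists_singular_A hQ hq hq' hQq hqx hβ
  · exact exists_singular_B hQ hcard hx hQx hQq hQq' hqx hq'x hβ

omit [DecidableEq ι] in
/-- Any two singular lines have a common opposite singular line. -/
theorem exists_common_opposite (hQ : (QuadraticMap.polarBilin Q).Nondegenerate)
    (hcard : 5 ≤ Fintype.card ι) {p r p' r' : ι → F} (h : SPair Q p r) (h' : SPair Q p' r') :
    ∃ x y, SPair Q x y ∧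
      QuadraticMap.polar (⇑Q) x p * QuadraticMap.polar (⇑Q) y r
        - QuadraticMap.polar (⇑Q) x r * QuadraticMap.polar (⇑Q) y p ≠ 0 ∧
      QuadraticMap.polar (⇑Q) x p' * QuadraticMap.polar (⇑Q) y r'
        - QuadraticMap.polar (⇑Q) x r' * QuadraticMap.polar (⇑Q) y p' ≠ 0 := by
  -- a non-zero vector `q'` of the second line orthogonal to `p`
  obtain ⟨a', b', hab, hq'p⟩ : ∃ a' b' : F, ¬ (a' = 0 ∧ b' = 0) ∧
      QuadraticMap.polar (⇑Q) p (a' • p' + b' • r') = 0 := by
    by_cases e : QuadraticMap.polar (⇑Q) p p' = 0 ∧ QuadraticMap.polar (⇑Q) p r' = 0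
    · refine ⟨1, 0, fun hh => one_ne_zero hh.1, ?_⟩
      rw [zero_smul, add_zero, one_smul]
      exact e.1
    · refine ⟨QuadraticMap.polar (⇑Q) p r', -QuadraticMap.polar (⇑Q) p p', ?_, ?_⟩
      · rintro ⟨e1, e2⟩
        exact e ⟨neg_eq_zero.mp e2, e1⟩
      · rw [QuadraticMap.polar_add_right, QuadraticMap.polar_smul_right,
          QuadraticMap.polar_smul_right, smul_eq_mul, smul_eq_mul]
        ring
  obtain ⟨q', hq'⟩ : ∃ q', q' = a' • p' + b' • r' := ⟨_, rfl⟩
  rw [← hq'] at hq'p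
  have hq'0 : q' ≠ 0 := by
    intro h0
    rw [hq'] at h0
    have := (LinearIndependent.pair_iff.mp h'.indep) a' b' h0
    exact hab this
  have hQq' : Q q' = 0 := by
    rw [hq', QuadraticMap.map_add (⇑Q), QuadraticMap.map_smul, QuadraticMap.map_smul, h'.hp, h'.hr,
      QuadraticMap.polar_smul_left, QuadraticMap.polar_smul_right, h'.hpr]
    simp
  -- step 1
  obtain ⟨x, hQx, -, hxp, hxq'⟩ := exists_singular_A (Q := Q) hQ (x := 0) (q := p) (q' := q')
    (fun a => by rw [smul_zero]; exact h.p_ne) (fun a => by rw [smul_zero]; exact hq'0) h.hp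
    (by simp) hq'p
  have hx0 : x ≠ 0 := by
    rintro rfl
    simp at hxp
  -- step 2
  obtain ⟨q₁, hq₁⟩ : ∃ q₁, q₁ = QuadraticMap.polar (⇑Q) x p • r - QuadraticMap.polar (⇑Q) x r • p :=
    ⟨_, rfl⟩
  obtain ⟨q₁', hq₁'⟩ : ∃ q₁', q₁' = QuadraticMap.polar (⇑Q) x p' • r'
      - QuadraticMap.polar (⇑Q) x r' • p' := ⟨_, rfl⟩
  have hQq₁ : Q q₁ = 0 := by
    rw [hq₁, sub_eq_add_neg, ← neg_smul, QuadraticMap.map_add (⇑Q), QuadraticMap.map_smul,
      QuadraticMap.map_smul, h.hp, h.hr, QuadraticMap.polar_smul_left,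
      QuadraticMap.polar_smul_right, h.hrp]
    simp
  have hQq₁' : Q q₁' = 0 := by
    rw [hq₁', sub_eq_add_neg, ← neg_smul, QuadraticMap.map_add (⇑Q), QuadraticMap.map_smul,
      QuadraticMap.map_smul, h'.hp, h'.hr, QuadraticMap.polar_smul_left,
      QuadraticMap.polar_smul_right, h'.hrp]
    simp
  have hq₁x : QuadraticMap.polar (⇑Q) q₁ x = 0 := by
    rw [hq₁, QuadraticMap.polar_sub_left, QuadraticMap.polar_smul_left,
      QuadraticMap.polar_smul_left, QuadraticMap.polar_comm (⇑Q) r x,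
      QuadraticMap.polar_comm (⇑Q) p x, smul_eq_mul, smul_eq_mul]
    ring
  have hq₁'x : QuadraticMap.polar (⇑Q) q₁' x = 0 := by
    rw [hq₁', QuadraticMap.polar_sub_left, QuadraticMap.polar_smul_left,
      QuadraticMap.polar_smul_left, QuadraticMap.polar_comm (⇑Q) r' x,
      QuadraticMap.polar_comm (⇑Q) p' x, smul_eq_mul, smul_eq_mul]
    ring
  have hq₁ne : ∀ a : F, q₁ ≠ a • x := by
    intro a ha
    have e1 : QuadraticMap.polar (⇑Q) q₁ p = 0 := by
      rw [hq₁, QuadraticMap.polar_sub_left, QuadraticMap.polar_smul_left,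
        QuadraticMap.polar_smul_left, h.hrp, h.hpp]
      simp
    rw [ha, QuadraticMap.polar_smul_left, smul_eq_mul] at e1
    have ha0 : a = 0 := by
      rcases mul_eq_zero.mp e1 with e2 | e2
      · exact e2
      · exact absurd e2 hxp
    rw [ha0, zero_smul, hq₁, sub_eq_add_neg, ← neg_smul, add_comm] at ha
    have := (LinearIndependent.pair_iff.mp h.indep) _ _ ha
    exact hxp this.2
  have hq₁'ne : ∀ a : F, q₁' ≠ a • x := by
    intro a ha
    have e1 : QuadraticMap.polar (⇑Q) q₁' q' = 0 := by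
      rw [hq₁', hq']
      simp only [QuadraticMap.polar_sub_left, QuadraticMap.polar_smul_left,
        QuadraticMap.polar_add_right, QuadraticMap.polar_smul_right, h'.hpr, h'.hrp, h'.hpp,
        h'.hrr, smul_eq_mul, mul_zero, add_zero, sub_zero]
    rw [ha, QuadraticMap.polar_smul_left, smul_eq_mul] at e1
    have ha0 : a = 0 := by
      rcases mul_eq_zero.mp e1 with e2 | e2
      · exact e2
      · exact absurd e2 hxq'
    rw [ha0, zero_smul, hq₁', sub_eq_add_neg, ← neg_smul, add_comm] at ha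
    have := (LinearIndependent.pair_iff.mp h'.indep) _ _ ha
    apply hxq'
    rw [hq', QuadraticMap.polar_add_right, QuadraticMap.polar_smul_right,
      QuadraticMap.polar_smul_right, this.2, neg_eq_zero.mp this.1]
    simp
  obtain ⟨y, hQy, hyx, hyq₁, hyq₁'⟩ := exists_singular hQ hcard hx0 hQx hq₁ne hq₁'ne hQq₁ hQq₁'
    hq₁x hq₁'x
  have hD : QuadraticMap.polar (⇑Q) x p * QuadraticMap.polar (⇑Q) y r
      - QuadraticMap.polar (⇑Q) x r * QuadraticMap.polar (⇑Q) y p ≠ 0 := by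
    intro h0
    apply hyq₁
    rw [hq₁, QuadraticMap.polar_sub_right, QuadraticMap.polar_smul_right,
      QuadraticMap.polar_smul_right, smul_eq_mul, smul_eq_mul]
    exact h0
  have hD' : QuadraticMap.polar (⇑Q) x p' * QuadraticMap.polar (⇑Q) y r'
      - QuadraticMap.polar (⇑Q) x r' * QuadraticMap.polar (⇑Q) y p' ≠ 0 := by
    intro h0
    apply hyq₁'
    rw [hq₁', QuadraticMap.polar_sub_right, QuadraticMap.polar_smul_right,
      QuadraticMap.polar_smul_right, smul_eq_mul, smul_eq_mul]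
    exact h0
  refine ⟨x, y, ⟨?_, hQx, hQy, by rw [QuadraticMap.polar_comm]; exact hyx⟩, hD, hD'⟩
  rw [LinearIndependent.pair_iff]
  intro a b hab'
  have e1 := congrArg (fun z => QuadraticMap.polar (⇑Q) z p) hab'
  have e2 := congrArg (fun z => QuadraticMap.polar (⇑Q) z r) hab'
  simp only [QuadraticMap.polar_add_left, QuadraticMap.polar_smul_left, smul_eq_mul,
    QuadraticMap.polar_zero_left] at e1 e2
  constructor
  · have : a * (QuadraticMap.polar (⇑Q) x p * QuadraticMap.polar (⇑Q) y r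
        - QuadraticMap.polar (⇑Q) x r * QuadraticMap.polar (⇑Q) y p) = 0 := by
      linear_combination QuadraticMap.polar (⇑Q) y r * e1 - QuadraticMap.polar (⇑Q) y p * e2
    rcases mul_eq_zero.mp this with e3 | e3
    · exact e3
    · exact absurd e3 hD
  · have : b * (QuadraticMap.polar (⇑Q) x p * QuadraticMap.polar (⇑Q) y r
        - QuadraticMap.polar (⇑Q) x r * QuadraticMap.polar (⇑Q) y p) = 0 := by
      linear_combination QuadraticMap.polar (⇑Q) x p * e2 - QuadraticMap.polar (⇑Q) x r * e1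
    rcases mul_eq_zero.mp this with e3 | e3
    · exact e3
    · exact absurd e3 hD

end Cfsg.Agent.Lib.Helper83_Siegel4
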