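import Mathlib
import Cfsg.Prelude.Def_Classical
import Cfsg.Prelude.Def_ClassicalGeometry
import Cfsg.Prelude.Def_RootSubgroups
import Cfsg.Agent.Lib.Helper44_StdForms
import Cfsg.Agent.Lib.Helper13_RootSL2
import Cfsg.Agent.Lib.Helper83_Siegel1
import Cfsg.Agent.Lib.Helper83_Siegel2
import Cfsg.Agent.Lib.Helper83_Siegel3
import Cfsg.Agent.Lib.Helper83_Siegel4
import Cfsg.Agent.Lib.Helper83_RootTransfer

set_option autoImplicit false

/-!
The Siegel root groups of the singular lines of a quadratic space (non-degenerate polar form,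
dimension at least five) form a set of abstract `F`-root subgroups of the group they generate, and
their graph of rank one pairs is connected (helper83).
-/

namespace Cfsg.Agent.Lib.Helper83_Siegel5

open Cfsg Matrix Cfsg.Agent.Lib.Helper83_Siegel1 Cfsg.Agent.Lib.Helper83_Siegel2
  Cfsg.Agent.Lib.Helper83_Siegel3 Cfsg.Agent.Lib.Helper83_Siegel4
  Cfsg.Agent.Lib.Helper83_RootTransfer Cfsg.Agent.Lib.Helper13_RootSL2

variable {ι : Type} [Fintype ι] [DecidableEq ι] {F : Type*} [Field F]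

/-- The family of the statement, for a form given as a function. -/
def SigmaFn (Qf : (ι → F) → F) : Set (Subgroup ↥(Cfsg.isometryGroup F Qf)) :=
  {A | ∃ p r : ι → F, LinearIndependent F ![p, r] ∧ Qf p = 0 ∧ Qf r = 0 ∧ Qf (p + r) = 0 ∧
    A = Subgroup.closure {σ : ↥(Cfsg.isometryGroup F Qf) | ∀ v : ι → F,
      Qf (v + p) - Qf v - Qf p = 0 → Qf (v + r) - Qf v - Qf r = 0 →
        ((σ : Matrix.GeneralLinearGroup ι F) : Matrix ι ι F) *ᵥ v = v}}

/-- The statement, for a form given as a function. -/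
def MainProp (Qf : (ι → F) → F) : Prop :=
  Cfsg.IsKRootSubgroupSet F ((fun A : Subgroup ↥(Cfsg.isometryGroup F Qf) =>
    A.subgroupOf (⨆ B ∈ SigmaFn Qf, B)) '' SigmaFn Qf) ∧
  Cfsg.IsConnectedFamily (Cfsg.FAdj (SigmaFn Qf)) (SigmaFn Qf)

variable (Q : QuadraticForm F (ι → F))

theorem sigmaFn_eq (hQ : (QuadraticMap.polarBilin Q).Nondegenerate) : SigmaFn (⇑Q) = Sset Q := by
  ext A
  constructor
  · rintro ⟨p, r, hi, hp, hr, hpr, rfl⟩
    have h : SPair Q p r := ⟨hi, hp, hr, by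
      unfold QuadraticMap.polar
      rw [hpr, hp, hr]; simp⟩
    exact ⟨p, r, h, closure_fixer hQ h⟩
  · rintro ⟨p, r, h, rfl⟩
    refine ⟨p, r, h.indep, h.hp, h.hr, ?_, (closure_fixer hQ h).symm⟩
    have := h.hpr
    unfold QuadraticMap.polar at this
    rw [h.hp, h.hr, sub_zero, sub_zero] at this
    exact this

theorem pair_cases {p r p' r' : ι → F} (h : SPair Q p r) (h' : SPair Q p' r') :
    (∀ a ∈ T Q p r, ∀ b ∈ T Q p' r', a * b = b * a) ∨
      Cfsg.IsPSL2PairOver F (T Q p r) (T Q p' r') ∨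
      Cfsg.RootCommutatorCase (Sset Q) (T Q p r) (T Q p' r') := by
  by_cases hΔ : QuadraticMap.polar (⇑Q) p p' * QuadraticMap.polar (⇑Q) r r'
      - QuadraticMap.polar (⇑Q) p r' * QuadraticMap.polar (⇑Q) r p' = 0
  · rcases cases_degenerate h h' hΔ with h1 | h1
    · exact Or.inl h1
    · exact Or.inr (Or.inr h1)
  · exact Or.inr (Or.inl (psl2_of_det_ne_zero h h' hΔ))

theorem main (hQ : (QuadraticMap.polarBilin Q).Nondegenerate) (hcard : 5 ≤ Fintype.card ι) :
    MainProp (⇑Q) := by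
  unfold MainProp
  rw [sigmaFn_eq Q hQ]
  constructor
  · apply kroot_set_sub F
    · rintro _ ⟨p, r, h, rfl⟩ a ha b hb
      exact T_comm h ha hb
    · rintro _ ⟨p, r, h, rfl⟩
      exact T_ne_bot hQ h
    · rintro _ ⟨p, r, h, rfl⟩ g
      exact ⟨_, _, h.conj g, conjBy_T h g⟩
    · rintro _ ⟨p, r, h, rfl⟩ _ ⟨p', r', h', rfl⟩
      exact pair_cases Q h h'
  · rintro _ ⟨p, r, h, rfl⟩ _ ⟨p', r', h', rfl⟩
    obtain ⟨x, y, hxy, hD, hD'⟩ := exists_common_opposite hQ hcard h h'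
    have e1 : Cfsg.FAdj (Sset Q) (T Q p r) (T Q x y) := by
      refine ⟨⟨p, r, h, rfl⟩, ⟨x, y, hxy, rfl⟩, ?_⟩
      apply isRankOnePair_of_psl2 (k := F)
      apply psl2_of_det_ne_zero h hxy
      rw [QuadraticMap.polar_comm (⇑Q) p x, QuadraticMap.polar_comm (⇑Q) r y,
        QuadraticMap.polar_comm (⇑Q) p y, QuadraticMap.polar_comm (⇑Q) r x]
      intro h0
      apply hD
      linear_combination h0
    have e2 : Cfsg.FAdj (Sset Q) (T Q x y) (T Q p' r') := by
      refine ⟨⟨x, y, hxy, rfl⟩, ⟨p', r', h', rfl⟩, ?_⟩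
      apply isRankOnePair_of_psl2 (k := F)
      exact psl2_of_det_ne_zero hxy h' hD'
    exact Relation.ReflTransGen.tail (Relation.ReflTransGen.single e1) e2

/-- Non-degeneracy of the polar form of the hyperbolic form (as in `Helper44_Levi`). -/
theorem nondegenerate_qfPlus (m : ℕ) (F : Type*) [Field F] :
    (QuadraticMap.polarBilin (Cfsg.Agent.Lib.Helper44_StdForms.qfPlus m F)).Nondegenerate := by
  refine (LinearMap.BilinForm.nondegenerate_iff_det_ne_zero (Pi.basisFun F (Fin m ⊕ Fin m))).mpr ?_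
  have : LinearMap.BilinForm.toMatrix (Pi.basisFun F (Fin m ⊕ Fin m))
      (QuadraticMap.polarBilin (Cfsg.Agent.Lib.Helper44_StdForms.qfPlus m F))
      = Matrix.of (fun i j : Fin m ⊕ Fin m =>
          QuadraticMap.polar (Cfsg.quadFormPlus m F) (Pi.single i 1) (Pi.single j 1)) := by
    ext i j
    simp [LinearMap.BilinForm.toMatrix_apply, Cfsg.Agent.Lib.Helper44_StdForms.coe_qfPlus]
  rw [this, Cfsg.Agent.Lib.Helper44_StdForms.det_gram_quadFormPlus]
  exact pow_ne_zero _ (neg_ne_zero.mpr one_ne_zero)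

theorem main_plus (F : Type*) [Field F] (m : ℕ) : MainProp (Cfsg.quadFormPlus (m + 3) F) := by
  have h := main (Cfsg.Agent.Lib.Helper44_StdForms.qfPlus (m + 3) F)
    (nondegenerate_qfPlus (m + 3) F) (by simp; omega)
  rw [Cfsg.Agent.Lib.Helper44_StdForms.coe_qfPlus] at h
  exact h

end Cfsg.Agent.Lib.Helper83_Siegel5
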