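import Cfsg.Agent.Lib.Helper83_RankOne
import Cfsg.Agent.Lib.Helper83_RootSets

/-!
# The triangle lemma

If `A`, `C` are commuting abelian subgroups meeting trivially and the abelian subgroup `B` forms a
rank one pair with both of them, then the rank one pair `(A, B)` is special.  No further hypothesis
(finiteness, order of `A`, ...) is needed.
-/

set_option autoImplicit false
open Cfsg

namespace Cfsg.Agent.Lib.Helper83_Triangle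

open Cfsg.Agent.Lib.Helper83_RankOne Cfsg.Agent.Lib.Helper83_RootSets

variable {G : Type*} [Group G]

/-- The purely formal part of the triangle lemma. -/
theorem formal_identity {a b d g : G} (E1 : b * d * b⁻¹ = d * g⁻¹) (hgb : g * b = b * g)
    (hda : a⁻¹ * d * a = d) (hd : d = a * g⁻¹ * a⁻¹ * g) :
    b⁻¹ * d * b * (a⁻¹ * (b * d * b⁻¹) * a) * d⁻¹ = 1 := by
  have h1 : b⁻¹ * g⁻¹ * b = g⁻¹ := by
    calc b⁻¹ * g⁻¹ * b = b⁻¹ * g⁻¹ * (b * g) * g⁻¹ := by group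
      _ = b⁻¹ * g⁻¹ * (g * b) * g⁻¹ := by rw [hgb]
      _ = g⁻¹ := by group
  have E2 : b⁻¹ * d * b = d * g := by
    have h2 : d = b⁻¹ * d * b * g⁻¹ := by
      calc d = b⁻¹ * (b * d * b⁻¹) * b := by group
        _ = b⁻¹ * (d * g⁻¹) * b := by rw [E1]
        _ = b⁻¹ * d * b * (b⁻¹ * g⁻¹ * b) := by group
        _ = b⁻¹ * d * b * g⁻¹ := by rw [h1]
    calc b⁻¹ * d * b = b⁻¹ * d * b * g⁻¹ * g := by group
      _ = d * g := by rw [← h2]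
  have E4 : a⁻¹ * g * a = g * d := by
    have h3 : a⁻¹ * d * a = g⁻¹ * (a⁻¹ * g * a) := by
      conv_lhs => rw [hd]
      group
    rw [hda] at h3
    calc a⁻¹ * g * a = g * (g⁻¹ * (a⁻¹ * g * a)) := by group
      _ = g * d := by rw [← h3]
  have E5 : a⁻¹ * g⁻¹ * a = (g * d)⁻¹ := by
    rw [← E4]; group
  calc b⁻¹ * d * b * (a⁻¹ * (b * d * b⁻¹) * a) * d⁻¹
      = d * g * (a⁻¹ * (d * g⁻¹) * a) * d⁻¹ := by rw [E2, E1]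
    _ = d * g * ((a⁻¹ * d * a) * (a⁻¹ * g⁻¹ * a)) * d⁻¹ := by group
    _ = d * g * (d * (g * d)⁻¹) * d⁻¹ := by rw [hda, E5]
    _ = 1 := by group

/-- **Triangle lemma.** -/
theorem special_of_triangle {A B C : Subgroup G} (hAB : Cfsg.IsRankOnePair A B)
    (hCB : Cfsg.IsRankOnePair C B) (hB : IsMulCommutative B)
    (hC : IsMulCommutative C) (hAC : ∀ a ∈ A, ∀ c ∈ C, a * c = c * a) (hinf : A ⊓ C = ⊥) :
    Cfsg.IsSpecialRankOnePair A B := by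
  refine ⟨hAB, ?_⟩
  intro a ha ha1 b hb hb1 h1
  obtain ⟨c, hc, hc1, h2⟩ := hCB.cond_right b hb hb1
  have hac : a * c = c * a := hAC a ha c hc
  have hcC : ∀ y ∈ C, c * y = y * c := fun y hy => comm_of_mem hC hc hy
  obtain ⟨d, hd⟩ : ∃ d : G, d = a * c⁻¹ := ⟨_, rfl⟩
  obtain ⟨g, hg⟩ : ∃ g : G, g = b * d⁻¹ * b⁻¹ * d := ⟨_, rfl⟩
  -- `F = conjBy A b⁻¹` and `F' = conjBy C b⁻¹` commute elementwise
  have hFF' : ∀ x ∈ Cfsg.conjBy A b⁻¹, ∀ y ∈ Cfsg.conjBy C b⁻¹, x * y = y * x := by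
    intro x hx y hy
    rw [mem_conjBy_iff] at hx hy
    have := hAC _ hx _ hy
    calc x * y = b⁻¹ * ((b⁻¹⁻¹ * x * b⁻¹) * (b⁻¹⁻¹ * y * b⁻¹)) * b := by group
      _ = b⁻¹ * ((b⁻¹⁻¹ * y * b⁻¹) * (b⁻¹⁻¹ * x * b⁻¹)) * b := by rw [this]
      _ = y * x := by group
  have hxF : ∀ x ∈ B, a⁻¹ * x * a ∈ Cfsg.conjBy A b⁻¹ := by
    intro x hx
    rw [h1, mem_conjBy_iff]
    have : a⁻¹⁻¹ * (a⁻¹ * x * a) * a⁻¹ = x := by group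
    rw [this]; exact hx
  have hyF' : ∀ y ∈ B, c⁻¹ * y * c ∈ Cfsg.conjBy C b⁻¹ := by
    intro y hy
    rw [← h2, mem_conjBy_iff]
    have : c⁻¹⁻¹ * (c⁻¹ * y * c) * c⁻¹ = y := by group
    rw [this]; exact hy
  -- `B` commutes with `d B d⁻¹` and with `d⁻¹ B d`
  have hBd1 : ∀ x ∈ B, ∀ y ∈ B, x * (d * y * d⁻¹) = (d * y * d⁻¹) * x := by
    intro x hx y hy
    have h3 := hFF' _ (hxF x hx) _ (hyF' y hy)
    have e1 : d * y * d⁻¹ = a * (c⁻¹ * y * c) * a⁻¹ := by rw [hd]; group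
    rw [e1]
    calc x * (a * (c⁻¹ * y * c) * a⁻¹) = a * ((a⁻¹ * x * a) * (c⁻¹ * y * c)) * a⁻¹ := by group
      _ = a * ((c⁻¹ * y * c) * (a⁻¹ * x * a)) * a⁻¹ := by rw [h3]
      _ = a * (c⁻¹ * y * c) * a⁻¹ * x := by group
  have hBd2 : ∀ x ∈ B, ∀ y ∈ B, x * (d⁻¹ * y * d) = (d⁻¹ * y * d) * x := by
    intro x hx y hy
    have h3 := hBd1 y hy x hx
    calc x * (d⁻¹ * y * d) = d⁻¹ * ((d * x * d⁻¹) * y) * d := by group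
      _ = d⁻¹ * (y * (d * x * d⁻¹)) * d := by rw [h3]
      _ = (d⁻¹ * y * d) * x := by group
  -- `g` centralizes `B`
  have hgB : ∀ x ∈ B, g * x = x * g := by
    intro x hx
    have h3 := hBd2 x hx b⁻¹ (inv_mem hb)
    have h4 : b * x = x * b := comm_of_mem hB hb hx
    rw [hg]
    calc b * d⁻¹ * b⁻¹ * d * x = b * ((d⁻¹ * b⁻¹ * d) * x) := by group
      _ = b * (x * (d⁻¹ * b⁻¹ * d)) := by rw [h3]
      _ = (b * x) * (d⁻¹ * b⁻¹ * d) := by group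
      _ = (x * b) * (d⁻¹ * b⁻¹ * d) := by rw [h4]
      _ = x * (b * d⁻¹ * b⁻¹ * d) := by group
  have hgb : g * b = b * g := hgB b hb
  have E1 : b * d * b⁻¹ = d * g⁻¹ := by rw [hg]; group
  have hda : a⁻¹ * d * a = d := by
    rw [hd]
    have h3 : c⁻¹ * a = a * c⁻¹ := by
      calc c⁻¹ * a = c⁻¹ * (a * c) * c⁻¹ := by group
        _ = c⁻¹ * (c * a) * c⁻¹ := by rw [hac]
        _ = a * c⁻¹ := by group
    calc a⁻¹ * (a * c⁻¹) * a = c⁻¹ * a := by group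
      _ = a * c⁻¹ := h3
  -- `d` centralizes `C`
  have hdC : ∀ y ∈ C, d * y = y * d := by
    intro y hy
    have h3 : a * y = y * a := hAC a ha y hy
    have h4 : c⁻¹ * y = y * c⁻¹ := comm_of_mem hC (inv_mem hc) hy
    rw [hd]
    calc a * c⁻¹ * y = a * (c⁻¹ * y) := by group
      _ = a * (y * c⁻¹) := by rw [h4]
      _ = (a * y) * c⁻¹ := by group
      _ = (y * a) * c⁻¹ := by rw [h3]
      _ = y * (a * c⁻¹) := by group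
  -- `conjBy A g⁻¹ = C`
  have hCd : Cfsg.conjBy C d⁻¹ = C :=
    conjBy_of_mem_normalizer (mem_normalizer_of_commute (fun y hy => by
      have := hdC y hy
      calc d⁻¹ * y = d⁻¹ * (y * d) * d⁻¹ := by group
        _ = d⁻¹ * (d * y) * d⁻¹ := by rw [this]
        _ = y * d⁻¹ := by group))
  have e2 : d * a⁻¹ = c⁻¹ := by
    have h3 : a * c⁻¹ = c⁻¹ * a := hAC a ha c⁻¹ (inv_mem hc)
    rw [hd, h3]; group
  have hAg : Cfsg.conjBy A g⁻¹ = C := by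
    have e1 : g⁻¹ = d⁻¹ * b * d * b⁻¹ := by rw [hg]; group
    calc Cfsg.conjBy A g⁻¹ = Cfsg.conjBy A (d⁻¹ * b * d * b⁻¹) := by rw [e1]
      _ = Cfsg.conjBy (Cfsg.conjBy (Cfsg.conjBy (Cfsg.conjBy A b⁻¹) d) b) d⁻¹ := by
        rw [conjBy_mul, conjBy_mul, conjBy_mul]
      _ = Cfsg.conjBy (Cfsg.conjBy (Cfsg.conjBy (Cfsg.conjBy B a⁻¹) d) b) d⁻¹ := by rw [h1]
      _ = Cfsg.conjBy (Cfsg.conjBy (Cfsg.conjBy B c⁻¹) b) d⁻¹ := by rw [conjBy_mul B d a⁻¹, e2]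
      _ = Cfsg.conjBy (Cfsg.conjBy (Cfsg.conjBy C b⁻¹) b) d⁻¹ := by rw [h2]
      _ = Cfsg.conjBy C d⁻¹ := by rw [conjBy_conjBy_inv]
      _ = C := hCd
  -- `g⁻¹ a g = c`
  have hBg : Cfsg.conjBy B g = B :=
    conjBy_of_mem_normalizer (mem_normalizer_of_commute hgB)
  have hcs : g⁻¹ * a * g ∈ C := by
    rw [← hAg, mem_conjBy_iff]
    have : g⁻¹⁻¹ * (g⁻¹ * a * g) * g⁻¹ = a := by group
    rw [this]; exact ha
  have hcs2 : Cfsg.conjBy B (g⁻¹ * a * g)⁻¹ = Cfsg.conjBy C b⁻¹ := by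
    have e3 : (g⁻¹ * a * g)⁻¹ = g⁻¹ * a⁻¹ * g := by group
    have e4 : g⁻¹ * b⁻¹ = b⁻¹ * g⁻¹ := by
      calc g⁻¹ * b⁻¹ = g⁻¹ * b⁻¹ * (g * b) * b⁻¹ * g⁻¹ := by group
        _ = g⁻¹ * b⁻¹ * (b * g) * b⁻¹ * g⁻¹ := by rw [hgb]
        _ = b⁻¹ * g⁻¹ := by group
    calc Cfsg.conjBy B (g⁻¹ * a * g)⁻¹ = Cfsg.conjBy B (g⁻¹ * a⁻¹ * g) := by rw [e3]
      _ = Cfsg.conjBy (Cfsg.conjBy (Cfsg.conjBy B g) a⁻¹) g⁻¹ := by rw [conjBy_mul, conjBy_mul]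
      _ = Cfsg.conjBy (Cfsg.conjBy A b⁻¹) g⁻¹ := by rw [hBg, h1]
      _ = Cfsg.conjBy A (b⁻¹ * g⁻¹) := by rw [conjBy_mul, e4]
      _ = Cfsg.conjBy (Cfsg.conjBy A g⁻¹) b⁻¹ := by rw [conjBy_mul]
      _ = Cfsg.conjBy C b⁻¹ := by rw [hAg]
  have hcseq : g⁻¹ * a * g = c := by
    -- `c * (g⁻¹ a g)⁻¹ ∈ C` normalizes `B`
    have h3 : Cfsg.conjBy B (c * (g⁻¹ * a * g)⁻¹) = B := by
      rw [← conjBy_mul, hcs2, ← h2, conjBy_conjBy_inv]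
    have h4 : c * (g⁻¹ * a * g)⁻¹ = 1 :=
      eq_one_of_mem_of_mem_normalizer hCB (mul_mem hc (inv_mem hcs))
        (mem_normalizer_of_conjBy_eq h3)
    calc g⁻¹ * a * g = (c * (g⁻¹ * a * g)⁻¹)⁻¹ * c := by group
      _ = c := by rw [h4]; group
  have hd' : d = a * g⁻¹ * a⁻¹ * g := by
    rw [hd, ← hcseq]; group
  have hz := formal_identity E1 hgb hda hd'
  -- the four elements
  have hp1 : b⁻¹ * a * b ∈ Cfsg.conjBy A b⁻¹ := by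
    rw [mem_conjBy_iff]
    have : b⁻¹⁻¹ * (b⁻¹ * a * b) * b⁻¹ = a := by group
    rw [this]; exact ha
  have hp2 : a⁻¹ * b * a ∈ Cfsg.conjBy A b⁻¹ := hxF b hb
  have hq1 : b⁻¹ * c * b ∈ Cfsg.conjBy C b⁻¹ := by
    rw [mem_conjBy_iff]
    have : b⁻¹⁻¹ * (b⁻¹ * c * b) * b⁻¹ = c := by group
    rw [this]; exact hc
  have hq2 : c⁻¹ * b * c ∈ Cfsg.conjBy C b⁻¹ := hyF' b hb
  have hcomm : (b⁻¹ * c * b)⁻¹ * (a⁻¹ * b * a) = (a⁻¹ * b * a) * (b⁻¹ * c * b)⁻¹ :=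
    (hFF' _ hp2 _ (inv_mem hq1)).symm
  have haca : a * c * a⁻¹ = c := by rw [hac]; group
  have hz' : (b⁻¹ * a * b) * (b⁻¹ * c * b)⁻¹ * ((a⁻¹ * b * a) * (c⁻¹ * b * c)⁻¹) = 1 := by
    have e5 : b⁻¹ * d * b = (b⁻¹ * a * b) * (b⁻¹ * c * b)⁻¹ := by rw [hd]; group
    have e6 : (a⁻¹ * (b * d * b⁻¹) * a) * d⁻¹ = (a⁻¹ * b * a) * (c⁻¹ * b * c)⁻¹ := by
      rw [hd]
      calc a⁻¹ * (b * (a * c⁻¹) * b⁻¹) * a * (a * c⁻¹)⁻¹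
          = a⁻¹ * b * a * c⁻¹ * b⁻¹ * (a * c * a⁻¹) := by group
        _ = a⁻¹ * b * a * c⁻¹ * b⁻¹ * c := by rw [haca]
        _ = (a⁻¹ * b * a) * (c⁻¹ * b * c)⁻¹ := by group
    rw [← e5, ← e6]
    calc b⁻¹ * d * b * (a⁻¹ * (b * d * b⁻¹) * a * d⁻¹)
        = b⁻¹ * d * b * (a⁻¹ * (b * d * b⁻¹) * a) * d⁻¹ := by group
      _ = 1 := hz
  have heq : (b⁻¹ * a * b) * (a⁻¹ * b * a) = (c⁻¹ * b * c) * (b⁻¹ * c * b) := by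
    have h5 : (b⁻¹ * a * b) * (a⁻¹ * b * a) * ((b⁻¹ * c * b)⁻¹ * (c⁻¹ * b * c)⁻¹) = 1 := by
      calc (b⁻¹ * a * b) * (a⁻¹ * b * a) * ((b⁻¹ * c * b)⁻¹ * (c⁻¹ * b * c)⁻¹)
          = (b⁻¹ * a * b) * ((a⁻¹ * b * a) * (b⁻¹ * c * b)⁻¹) * (c⁻¹ * b * c)⁻¹ := by group
        _ = (b⁻¹ * a * b) * ((b⁻¹ * c * b)⁻¹ * (a⁻¹ * b * a)) * (c⁻¹ * b * c)⁻¹ := by rw [hcomm]
        _ = (b⁻¹ * a * b) * (b⁻¹ * c * b)⁻¹ * ((a⁻¹ * b * a) * (c⁻¹ * b * c)⁻¹) := by group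
        _ = 1 := hz'
    calc (b⁻¹ * a * b) * (a⁻¹ * b * a)
        = (b⁻¹ * a * b) * (a⁻¹ * b * a) * ((b⁻¹ * c * b)⁻¹ * (c⁻¹ * b * c)⁻¹) *
            ((c⁻¹ * b * c) * (b⁻¹ * c * b)) := by group
      _ = (c⁻¹ * b * c) * (b⁻¹ * c * b) := by rw [h5, one_mul]
  have hmem : (b⁻¹ * a * b) * (a⁻¹ * b * a) ∈ Cfsg.conjBy A b⁻¹ ⊓ Cfsg.conjBy C b⁻¹ := by
    refine Subgroup.mem_inf.mpr ⟨mul_mem hp1 hp2, ?_⟩
    rw [heq]; exact mul_mem hq2 hq1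
  rw [← conjBy_inf, hinf, conjBy_bot, Subgroup.mem_bot] at hmem
  calc b⁻¹ * a * b = (b⁻¹ * a * b) * (a⁻¹ * b * a) * (a⁻¹ * b⁻¹ * a) := by group
    _ = a⁻¹ * b⁻¹ * a := by rw [hmem, one_mul]

end Cfsg.Agent.Lib.Helper83_Triangle
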