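import Mathlib
import Cfsg.Agent.Lib.Helper83_U3Inst
import Cfsg.Agent.Lib.Helper51_U3BridgeDefs

/-!
# The `SLBlock` instance for the model `SUJ σ` (S2148, concrete half)
-/

set_option autoImplicit false
set_option linter.unusedSectionVars false
set_option linter.unusedVariables false
set_option linter.unusedSimpArgs false

namespace Cfsg.Agent.Lib.Helper83_U3SLB

open Matrix Cfsg.Agent.Lib.Helper83_TvCalc Cfsg.Agent.Lib.Helper83_SL3Pair
  Cfsg.Agent.Lib.Helper83_SU3J Cfsg.Agent.Lib.Helper83_U3Model Cfsg.Agent.Lib.Helper83_U3Bruhat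
  Cfsg.Agent.Lib.Helper83_U3Group Cfsg.Agent.Lib.Helper83_U3PJ Cfsg.Agent.Lib.Helper83_U3Iso
  Cfsg.Agent.Lib.Helper65_U3Defs Cfsg.Agent.Lib.Helper65_U3Adapter
  Cfsg.Agent.Lib.Helper83_U3Inst Cfsg.Agent.Lib.Helper51_U3BridgeDefs

variable {F : Type*} [Field F] [Fintype F] {σ : F →+* F} {q : ℕ}

section

variable (hF : Fintype.card F = q ^ 2) (hσq : ∀ x, σ x = x ^ q) (hσ : ∀ x, σ (σ x) = x)
  (hq3 : 3 ≤ q) {p k : ℕ} (hp : p.Prime) (hk : 0 < k) (hqp : q = p ^ k) (hchar : CharP F p)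
  (hfacts : Facts hσ q)

/-- the block of the quotient data is the block `BlkJ σ` -/
theorem mem_Blk_iff (w : UJ σ) :
    w ∈ (@U3Data.Blk p q F (PJ σ) (UJ σ) _ _
      (quotAction (dataSU hF hσq hσ hq3 hp hk hqp hchar hfacts).hC)
      (dataSU hF hσq hσ hq3 hp hk hqp hchar hfacts).toU3Data) ↔ w ∈ BlkJ σ := by
  rw [← inBlk_iff hσq hσ hfacts]
  rfl

include hfacts in
theorem xJ_zero_mem_SLJ {b : F} (hb : Par σ 0 b) : xJ hσ 0 b hb ∈ SLJ hσ := by
  have h1 : mat (1 : ↥(SUJ σ)) 1 0 = 0 := by simp [mat]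
  have := hfacts.conj_ZJ_mem_SLJ 1 h1 (z := xJ hσ 0 b hb) ⟨b, hb, rfl⟩
  rwa [one_mul, inv_one, mul_one] at this

include hfacts in
theorem wJ_conj_mem_SLJ {b : F} (hb : Par σ 0 b) :
    (wJ : ↥(SUJ σ)) * xJ hσ 0 b hb * wJ⁻¹ ∈ SLJ hσ := by
  have h1 : mat (wJ : ↥(SUJ σ)) 1 0 = 0 := by
    show (wS : SpecialLinearGroup (Fin 3) F).1 1 0 = 0
    rw [wS_val]
    simp
  exact hfacts.conj_ZJ_mem_SLJ wJ h1 ⟨b, hb, rfl⟩

/-- **the `SLBlock` instance** -/
noncomputable def slBlockJ :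
    @SLBlock p q F (PJ σ) (UJ σ) _ _
      (quotAction (dataSU hF hσq hσ hq3 hp hk hqp hchar hfacts).hC)
      (dataSU hF hσq hσ hq3 hp hk hqp hchar hfacts).toU3Data ↥(SUJ σ) _ :=
  letI := quotAction (dataSU hF hσq hσ hq3 hp hk hqp hchar hfacts).hC
  { π := QuotientGroup.mk' (Subgroup.center ↥(SUJ σ))
    S1 := SLJ hσ
    φ := rhoS hσ
    φ_inj := rhoS_injective hσ
    π_inj := by
      intro s hs h1
      have hc : s ∈ Subgroup.center ↥(SUJ σ) := (QuotientGroup.eq_one_iff s).1 h1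
      have : s ∈ SLJ hσ ⊓ Subgroup.center ↥(SUJ σ) := ⟨hs, hc⟩
      rw [hfacts.SLJ_inf_center] at this
      exact this
    stab := by
      intro s hs w hw
      rw [mem_Blk_iff] at hw ⊢
      exact hfacts.NJ_smul_mem (SLJ_le_NJ hσ hs) hw
    Z_le := by
      intro g hg
      obtain ⟨b, hb, rfl⟩ := (U3Data.mem_Z _).1 hg
      have hp' : Par σ 0 b := by
        unfold Par
        rw [hσq b, zero_mul, add_zero]
        exact hb
      refine ⟨xJ hσ 0 b hp', xJ_zero_mem_SLJ hσ hfacts hp', ?_⟩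
      show (QuotientGroup.mk (xJ hσ 0 b hp') : PJ σ) = QuotientGroup.mk (xG hσ 0 b)
      rw [xG_of hσ hp']
    n := QuotientGroup.mk (wJ : ↥(SUJ σ))
    n_u := by
      show (wJ : ↥(SUJ σ)) • (uJ : UJ σ) = uJ'
      unfold uJ uJ'
      rw [smul_mk, mul_one]
    Zn_le := by
      intro z hz
      rw [U3Data.mem_Zat] at hz
      obtain ⟨b, hb, e⟩ := (U3Data.mem_Z _).1 hz
      have hp' : Par σ 0 b := by
        unfold Par
        rw [hσq b, zero_mul, add_zero]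
        exact hb
      refine ⟨(wJ : ↥(SUJ σ)) * xJ hσ 0 b hp' * wJ⁻¹, wJ_conj_mem_SLJ hσ hfacts hp', ?_⟩
      have e' : (QuotientGroup.mk (wJ : ↥(SUJ σ)) : PJ σ)⁻¹ * z * QuotientGroup.mk (wJ : ↥(SUJ σ)) =
          QuotientGroup.mk (xJ hσ 0 b hp') := by
        rw [e]
        show (QuotientGroup.mk (xG hσ 0 b) : PJ σ) = _
        rw [xG_of hσ hp']
      show (QuotientGroup.mk ((wJ : ↥(SUJ σ)) * xJ hσ 0 b hp' * wJ⁻¹) : PJ σ) = z
      rw [QuotientGroup.mk_mul, QuotientGroup.mk_mul, QuotientGroup.mk_inv, ← e']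
      group }

end

end Cfsg.Agent.Lib.Helper83_U3SLB
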