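import Mathlib
import Cfsg.Agent.Lib.Helper83_U3PJ
import Cfsg.Agent.Lib.Helper65_U3Defs
import Cfsg.Agent.Lib.Helper51_U3Dickson

/-!
# Helper91_U3C_BLK (package BLK of market U3C, S2148, architect helper83)

The block `BlkJ σ` of `UJ σ`: the points `↑g` with `g₁₀ = 0`; it consists of `↑1` and the points
`x(0,b) • ↑w`, and it is stabilised by `NJ`.
-/

set_option autoImplicit false
set_option linter.unusedSectionVars false
set_option linter.unusedVariables false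

open Matrix Cfsg.Agent.Lib.Helper83_SU3J Cfsg.Agent.Lib.Helper83_U3Model
  Cfsg.Agent.Lib.Helper83_U3Bruhat Cfsg.Agent.Lib.Helper83_U3Group Cfsg.Agent.Lib.Helper83_U3PJ
  Cfsg.Agent.Lib.Helper65_U3Defs

namespace Cfsg.Agent.Lib.Helper91_U3C_BLK

variable {F : Type*} [Field F] {σ : F →+* F} {q : ℕ}

theorem smul_mk (g h : ↥(SUJ σ)) :
    g • (QuotientGroup.mk h : UJ σ) = (QuotientGroup.mk (g * h) : UJ σ) := rfl

/-- **BLK**. -/
theorem mk_mem_BlkJ (hσ : ∀ x, σ (σ x) = x) (g : ↥(SUJ σ)) :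
    (QuotientGroup.mk g : UJ σ) ∈ BlkJ σ ↔ mat g 1 0 = 0 := by
  constructor
  · rintro ⟨g', hg', h10⟩
    have hc : g'⁻¹ * g ∈ BJ σ := QuotientGroup.eq.1 hg'
    obtain ⟨c1, c2⟩ := mem_BJ.1 hc
    have hg : g = g' * (g'⁻¹ * g) := by rw [mul_inv_cancel_left]
    rw [hg, mat_mul, Matrix.mul_apply, Fin.sum_univ_three, c1, c2, h10]
    ring
  · intro h
    exact ⟨g, rfl, h⟩

/-- the Bruhat decomposition inside the group -/
theorem bruhat_point (hσ : ∀ x, σ (σ x) = x) (g : ↥(SUJ σ)) (h20 : mat g 2 0 ≠ 0) :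
    ∃ (a b : F) (h : Par σ a b) (B : ↥(SUJ σ)), B ∈ BJ σ ∧ g = xJ hσ a b h * wJ * B := by
  obtain ⟨a, b, hab, B, hB, hB20, hgB⟩ := bruhat hσ g.2 h20
  exact ⟨a, b, hab, ⟨B, hB⟩, (mem_BJ_iff hσ).2 hB20, Subtype.ext hgB⟩

theorem mk_mul_of_mem (g B : ↥(SUJ σ)) (hB : B ∈ BJ σ) :
    (QuotientGroup.mk (g * B) : UJ σ) = (QuotientGroup.mk g : UJ σ) := by
  rw [eq_comm, QuotientGroup.eq, inv_mul_cancel_left]
  exact hB

/-- **BLK**. -/
theorem mem_BlkJ_iff (hσ : ∀ x, σ (σ x) = x) (v : UJ σ) :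
    v ∈ BlkJ σ ↔ v = (QuotientGroup.mk (1 : ↥(SUJ σ)) : UJ σ) ∨
      ∃ (b : F) (h : Par σ 0 b), v = xJ hσ 0 b h • (QuotientGroup.mk (wJ : ↥(SUJ σ)) : UJ σ) := by
  constructor
  · rintro ⟨g, rfl, h10⟩
    by_cases h20 : mat g 2 0 = 0
    · left
      have hg : g ∈ BJ σ := (mem_BJ_iff hσ).2 h20
      have := mk_mul_of_mem 1 g hg
      rwa [one_mul] at this
    · right
      obtain ⟨a, b, hab, B, hB, hg⟩ := bruhat_point hσ g h20
      obtain ⟨B10, B20⟩ := mem_BJ.1 hB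
      have hB00 : mat B 0 0 ≠ 0 := (upper hσ B.2 B20).2.2
      have hcol := (bruhat_col hσ a b (B := B.1) B10 B20).2.1
      have h10' : mat g 1 0 = -a * mat B 0 0 := by
        rw [hg]
        exact hcol
      rw [h10] at h10'
      have ha : a = 0 := by
        rcases mul_eq_zero.1 h10'.symm with h | h
        · exact neg_eq_zero.1 h
        · exact absurd h hB00
      subst ha
      refine ⟨b, hab, ?_⟩
      rw [hg, mk_mul_of_mem _ B hB, smul_mk]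
  · rintro (rfl | ⟨b, hb, rfl⟩)
    · rw [mk_mem_BlkJ hσ]
      simp [mat]
    · rw [smul_mk, mk_mem_BlkJ hσ, mat_mul]
      show ((xS σ 0 b).1 * (wS : SpecialLinearGroup (Fin 3) F).1) 1 0 = 0
      rw [xS_val hσ, wS_val]
      simp [Matrix.mul_apply, Fin.sum_univ_three]

/-- **BLK**. -/
theorem mem_NJ_of (hσ : ∀ x, σ (σ x) = x) (g : ↥(SUJ σ)) (h0 : mat g 1 0 = 0)
    (h2 : mat g 1 2 = 0) : g ∈ NJ hσ := by
  have r10 := rel g.2 1 0
  have r12 := rel g.2 1 2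
  have j10 : (J3 : Matrix (Fin 3) (Fin 3) F) 1 0 = 0 := by simp [J3]
  have j12 : (J3 : Matrix (Fin 3) (Fin 3) F) 1 2 = 0 := by simp [J3]
  have h0' : g.1.1 1 0 = 0 := h0
  have h2' : g.1.1 1 2 = 0 := h2
  rw [j10, h0', map_zero, mul_zero, add_zero] at r10
  rw [j12, h2', map_zero, mul_zero, add_zero] at r12
  have hdet : (g.1.1).det = 1 := g.1.2
  rw [Matrix.det_fin_three, h0', h2'] at hdet
  have hD : g.1.1 0 0 * g.1.1 2 2 - g.1.1 0 2 * g.1.1 2 0 ≠ 0 := by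
    intro h
    have : (1 : F) = 0 := by
      rw [← hdet]
      linear_combination (g.1.1 1 1) * h
    exact one_ne_zero this
  have hsD : σ (g.1.1 0 0) * σ (g.1.1 2 2) - σ (g.1.1 0 2) * σ (g.1.1 2 0) ≠ 0 := by
    rw [← map_mul, ← map_mul, ← map_sub]
    exact fun h => hD ((map_eq_zero σ).1 h)
  have e01 : g.1.1 0 1 * (σ (g.1.1 0 0) * σ (g.1.1 2 2) - σ (g.1.1 0 2) * σ (g.1.1 2 0)) = 0 := by
    linear_combination σ (g.1.1 0 0) * r12 - σ (g.1.1 0 2) * r10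
  have e21 : g.1.1 2 1 * (σ (g.1.1 0 0) * σ (g.1.1 2 2) - σ (g.1.1 0 2) * σ (g.1.1 2 0)) = 0 := by
    linear_combination σ (g.1.1 2 2) * r10 - σ (g.1.1 2 0) * r12
  refine (mem_NJ hσ).2 ⟨h0, h2, ?_, ?_⟩
  · rcases mul_eq_zero.1 e01 with h | h
    · exact h
    · exact absurd h hsD
  · rcases mul_eq_zero.1 e21 with h | h
    · exact h
    · exact absurd h hsD

/-- **BLK**. -/
theorem NJ_smul_mem (hσ : ∀ x, σ (σ x) = x) {g : ↥(SUJ σ)} (hg : g ∈ NJ hσ) {v : UJ σ}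
    (hv : v ∈ BlkJ σ) : g • v ∈ BlkJ σ := by
  obtain ⟨h, rfl, h10⟩ := hv
  obtain ⟨g1, g2, -, -⟩ := (mem_NJ hσ).1 hg
  rw [smul_mk, mk_mem_BlkJ hσ, mat_mul, Matrix.mul_apply, Fin.sum_univ_three, g1, g2, h10]
  ring

end Cfsg.Agent.Lib.Helper91_U3C_BLK
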