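import Mathlib
import Cfsg.Agent.Lib.Helper83_U3PJ
import Cfsg.Agent.Lib.Helper65_U3Defs
import Cfsg.Agent.Lib.Helper51_U3Dickson

/-!
# Helper91_U3C_TRANS (package TRANS of market U3C, S2148, architect helper83)

`SUJ σ` is 2-transitive on the points `UJ σ = G ⧸ BJ σ`, from the Bruhat decomposition.
-/

set_option autoImplicit false
set_option linter.unusedSectionVars false
set_option linter.unusedVariables false

open Matrix Cfsg.Agent.Lib.Helper83_SU3J Cfsg.Agent.Lib.Helper83_U3Model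
  Cfsg.Agent.Lib.Helper83_U3Bruhat Cfsg.Agent.Lib.Helper83_U3Group Cfsg.Agent.Lib.Helper83_U3PJ
  Cfsg.Agent.Lib.Helper65_U3Defs

namespace Cfsg.Agent.Lib.Helper91_U3C_TRANS

variable {F : Type*} [Field F] {σ : F →+* F} {q : ℕ}

theorem smul_mk (g h : ↥(SUJ σ)) :
    g • (QuotientGroup.mk h : UJ σ) = (QuotientGroup.mk (g * h) : UJ σ) := rfl

theorem xJ_mem_BJ (hσ : ∀ x, σ (σ x) = x) (a b : F) (h : Par σ a b) : xJ hσ a b h ∈ BJ σ := by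
  rw [mem_BJ]
  show (xS σ a b).1 1 0 = 0 ∧ (xS σ a b).1 2 0 = 0
  rw [xS_val hσ]
  simp

theorem mk_eq_one_iff (g : ↥(SUJ σ)) :
    (QuotientGroup.mk g : UJ σ) = (QuotientGroup.mk (1 : ↥(SUJ σ)) : UJ σ) ↔ g ∈ BJ σ := by
  rw [eq_comm, QuotientGroup.eq, inv_one, one_mul]

/-- every point other than the base point is `x(a,b) • ⟨e₂⟩` -/
theorem exists_of_ne (hσ : ∀ x, σ (σ x) = x) (v : UJ σ)
    (hv : v ≠ (QuotientGroup.mk (1 : ↥(SUJ σ)) : UJ σ)) :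
    ∃ (a b : F) (h : Par σ a b), v = xJ hσ a b h • (QuotientGroup.mk (wJ : ↥(SUJ σ)) : UJ σ) := by
  obtain ⟨g, rfl⟩ := QuotientGroup.mk_surjective v
  have hg : g ∉ BJ σ := fun h => hv ((mk_eq_one_iff g).2 h)
  have h20 : g.1.1 2 0 ≠ 0 := fun h => hg ((mem_BJ_iff hσ).2 h)
  obtain ⟨a, b, hab, B, hB, hB20, hgB⟩ := bruhat hσ g.2 h20
  refine ⟨a, b, hab, ?_⟩
  rw [smul_mk, QuotientGroup.eq]
  have hB' : (⟨B, hB⟩ : ↥(SUJ σ)) ∈ BJ σ := (mem_BJ_iff hσ).2 hB20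
  have hg' : g = xJ hσ a b hab * wJ * ⟨B, hB⟩ := Subtype.ext hgB
  rw [hg']
  have : (xJ hσ a b hab * wJ * (⟨B, hB⟩ : ↥(SUJ σ)))⁻¹ * (xJ hσ a b hab * wJ)
      = (⟨B, hB⟩ : ↥(SUJ σ))⁻¹ := by group
  rw [this]
  exact (BJ σ).inv_mem hB'

/-- **TRANS**. -/
theorem two_trans (hσ : ∀ x, σ (σ x) = x) :
    ∀ a b c d : UJ σ, a ≠ b → c ≠ d → ∃ g : ↥(SUJ σ), g • a = c ∧ g • b = d := by
  intro a b c d hab hcd
  obtain ⟨g1, rfl⟩ := QuotientGroup.mk_surjective a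
  obtain ⟨g2, rfl⟩ := QuotientGroup.mk_surjective c
  have hb : g1⁻¹ • b ≠ (QuotientGroup.mk (1 : ↥(SUJ σ)) : UJ σ) := by
    intro h
    apply hab
    have h2 := congrArg (fun v => g1 • v) h
    simp only [smul_inv_smul, smul_mk, mul_one] at h2
    exact h2.symm
  have hd : g2⁻¹ • d ≠ (QuotientGroup.mk (1 : ↥(SUJ σ)) : UJ σ) := by
    intro h
    apply hcd
    have h2 := congrArg (fun v => g2 • v) h
    simp only [smul_inv_smul, smul_mk, mul_one] at h2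
    exact h2.symm
  obtain ⟨a1, b1, h1, e1⟩ := exists_of_ne hσ _ hb
  obtain ⟨a2, b2, h2, e2⟩ := exists_of_ne hσ _ hd
  refine ⟨g2 * (xJ hσ a2 b2 h2 * (xJ hσ a1 b1 h1)⁻¹) * g1⁻¹, ?_, ?_⟩
  · rw [smul_mk, QuotientGroup.eq]
    have : (g2 * (xJ hσ a2 b2 h2 * (xJ hσ a1 b1 h1)⁻¹) * g1⁻¹ * g1)⁻¹ * g2
        = xJ hσ a1 b1 h1 * (xJ hσ a2 b2 h2)⁻¹ := by group
    rw [this]
    exact (BJ σ).mul_mem (xJ_mem_BJ hσ _ _ _) ((BJ σ).inv_mem (xJ_mem_BJ hσ _ _ _))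
  · rw [mul_smul, mul_smul, e1, mul_smul, inv_smul_smul, ← e2, smul_inv_smul]

end Cfsg.Agent.Lib.Helper91_U3C_TRANS
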