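import Mathlib
import Cfsg.Agent.Lib.Helper83_U3Model
import Cfsg.Agent.Lib.Helper58_U3A_FLDA

set_option autoImplicit false
set_option linter.unusedSectionVars false
set_option linter.unusedVariables false
set_option linter.unusedSimpArgs false

/-!
# S2148 (min index of PSU_3(q)), concrete half, package U3C-FLD (architect helper83)

Trace and norm of `F / F_q` for a finite field `F` with `q ^ 2` elements and `σ x = x ^ q`;
cardinality of the parameter set `{(a, b) | b + σ b + a σ a = 0}`.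
-/

namespace Cfsg.Agent.Lib.Helper96_U3C_FLD

open Polynomial Cfsg.Agent.Lib.Helper83_U3Model

variable {F : Type*} [Field F] [Fintype F] {σ : F →+* F} {q : ℕ}

theorem one_lt_q (hF : Fintype.card F = q ^ 2) : 1 < q := by
  have h1 : 1 < Fintype.card F := Fintype.one_lt_card
  rw [hF] at h1
  by_contra h
  have h2 : q ≤ 1 := by omega
  interval_cases q <;> simp at h1

theorem sigma_sigma (hF : Fintype.card F = q ^ 2) (hσq : ∀ x, σ x = x ^ q) (x : F) :
    σ (σ x) = x := by
  rw [hσq, hσq, ← pow_mul, ← sq, ← hF, FiniteField.pow_card]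

/-- the trace map `b ↦ b + σ b` -/
def tr (σ : F →+* F) : F →+ F := AddMonoidHom.id F + σ.toAddMonoidHom

theorem tr_apply (b : F) : tr σ b = b + σ b := rfl

/-- the kernel of the trace has `q` elements, and the trace is onto the fixed field -/
theorem fld_core (hF : Fintype.card F = q ^ 2) (hσq : ∀ x, σ x = x ^ q) :
    Nat.card {b : F // b + σ b = 0} = q ∧ ∀ c, σ c = c → ∃ b, b + σ b = c := by
  classical
  have hq1 : 1 < q := one_lt_q hF
  have hprod : Nat.card (tr σ).ker * Nat.card (tr σ).range = q ^ 2 := by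
    rw [← AddSubgroup.index_ker, AddSubgroup.card_mul_index, Nat.card_eq_fintype_card, hF]
  have hK : Nat.card (tr σ).ker = Nat.card {b : F // b + σ b = 0} :=
    Nat.card_congr (Equiv.subtypeEquivRight (fun b => by rw [AddMonoidHom.mem_ker, tr_apply]))
  have hdeg1 : (X ^ q + X : F[X]).natDegree = q := by
    rw [Polynomial.natDegree_add_eq_left_of_natDegree_lt] <;> simp [hq1]
  have hP1 : (X ^ q + X : F[X]) ≠ 0 := by
    intro h
    rw [h, Polynomial.natDegree_zero] at hdeg1
    omega
  have hK' : Nat.card {b : F // b + σ b = 0} ≤ q := by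
    have := Cfsg.Agent.Lib.Helper58_U3A_FLDA.card_zeros_le (X ^ q + X : F[X]) q hP1 hdeg1.le
    refine le_trans (le_of_eq ?_) this
    exact Nat.card_congr (Equiv.subtypeEquivRight (fun b => by
      simp only [eval_add, eval_pow, eval_X]
      rw [hσq, add_comm]))
  have hdeg2 : (X ^ q - X : F[X]).natDegree = q := by
    rw [Polynomial.natDegree_sub_eq_left_of_natDegree_lt] <;> simp [hq1]
  have hP2 : (X ^ q - X : F[X]) ≠ 0 := by
    intro h
    rw [h, Polynomial.natDegree_zero] at hdeg2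
    omega
  have hFx : Nat.card {c : F // σ c = c} ≤ q := by
    have := Cfsg.Agent.Lib.Helper58_U3A_FLDA.card_zeros_le (X ^ q - X : F[X]) q hP2 hdeg2.le
    refine le_trans (le_of_eq ?_) this
    exact Nat.card_congr (Equiv.subtypeEquivRight (fun b => by
      simp only [eval_sub, eval_pow, eval_X]
      rw [hσq, sub_eq_zero]))
  have hsub : ((tr σ).range : Set F) ⊆ {c : F | σ c = c} := by
    rintro c ⟨b, rfl⟩
    show σ (tr σ b) = tr σ b
    rw [tr_apply, map_add, sigma_sigma hF hσq, add_comm]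
  have hR : Nat.card (tr σ).range ≤ Nat.card {c : F // σ c = c} :=
    Nat.card_mono (Set.toFinite _) hsub
  rw [hK] at hprod
  have hKq : Nat.card {b : F // b + σ b = 0} = q := by
    by_contra hne
    have hlt : Nat.card {b : F // b + σ b = 0} < q := lt_of_le_of_ne hK' hne
    have : Nat.card {b : F // b + σ b = 0} * Nat.card (tr σ).range < q * q := by
      calc Nat.card {b : F // b + σ b = 0} * Nat.card (tr σ).range
          ≤ Nat.card {b : F // b + σ b = 0} * q := Nat.mul_le_mul_left _ (hR.trans hFx)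
        _ < q * q := Nat.mul_lt_mul_of_pos_right hlt (by omega)
    rw [hprod, sq] at this
    omega
  refine ⟨hKq, ?_⟩
  rw [hKq, sq] at hprod
  have hRq : Nat.card (tr σ).range = q := Nat.eq_of_mul_eq_mul_left (by omega : 0 < q) hprod
  have heq : ((tr σ).range : Set F) = {c : F | σ c = c} := by
    apply Set.eq_of_subset_of_ncard_le hsub _ (Set.toFinite _)
    rw [← _root_.Nat.card_coe_set_eq, ← _root_.Nat.card_coe_set_eq]
    show Nat.card {c : F // σ c = c} ≤ Nat.card (tr σ).range
    rw [hRq]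
    exact hFx
  intro c hc
  have hc' : c ∈ ((tr σ).range : Set F) := by
    rw [heq]
    exact hc
  obtain ⟨b, hb⟩ := hc'
  exact ⟨b, hb⟩

/-- **FLD**. -/
theorem exists_trace (hF : Fintype.card F = q ^ 2) (hσq : ∀ x, σ x = x ^ q) (c : F)
    (hc : σ c = c) : ∃ b : F, b + σ b = c := (fld_core hF hσq).2 c hc

/-- **FLD**. -/
theorem exists_norm (hF : Fintype.card F = q ^ 2) (hσq : ∀ x, σ x = x ^ q) (c : F) (hc : σ c = c)
    (hc0 : c ≠ 0) : ∃ l : Fˣ, (l : F) * σ (l : F) = c := by
  have hq1 : 1 < q := one_lt_q hF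
  obtain ⟨g, hg⟩ := IsCyclic.exists_monoid_generator (α := Fˣ)
  obtain ⟨k, hk⟩ := hg (Units.mk0 c hc0)
  have hk' : g ^ k = Units.mk0 c hc0 := hk
  have hcq : c ^ (q - 1) = 1 := by
    have h1 : c ^ (q - 1) * c = 1 * c := by
      rw [← pow_succ, one_mul, Nat.sub_add_cancel hq1.le, ← hσq, hc]
    exact mul_right_cancel₀ hc0 h1
  have hu : (Units.mk0 c hc0) ^ (q - 1) = 1 := by
    ext
    simp [hcq]
  have hord : orderOf g = (q + 1) * (q - 1) := by
    have h1 : orderOf g = Nat.card Fˣ := by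
      apply orderOf_eq_card_of_forall_mem_zpowers
      intro x
      obtain ⟨n, hn⟩ := hg x
      exact ⟨n, by simpa using hn⟩
    rw [h1, Nat.card_units, Nat.card_eq_fintype_card, hF]
    obtain ⟨r, rfl⟩ : ∃ r, q = r + 1 := ⟨q - 1, by omega⟩
    simp only [Nat.add_sub_cancel]
    have : (r + 1) ^ 2 = (r + 1 + 1) * r + 1 := by ring
    omega
  have hdvd : (q + 1) * (q - 1) ∣ k * (q - 1) := by
    rw [← hord]
    apply orderOf_dvd_of_pow_eq_one
    rw [pow_mul, hk', hu]
  obtain ⟨m, hm⟩ := Nat.dvd_of_mul_dvd_mul_right (by omega : 0 < q - 1) hdvd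
  refine ⟨g ^ m, ?_⟩
  have h2 : (g ^ m) ^ (q + 1) = Units.mk0 c hc0 := by
    rw [← pow_mul, mul_comm, ← hm, hk']
  have h3 := congrArg (fun u : Fˣ => (u : F)) h2
  simp only [Units.val_pow_eq_pow_val, Units.val_mk0] at h3
  rw [hσq, ← pow_succ']
  simpa using h3

/-- **FLD**. -/
theorem exists_trace_zero (hF : Fintype.card F = q ^ 2) (hσq : ∀ x, σ x = x ^ q) :
    ∃ e : F, e ≠ 0 ∧ e + σ e = 0 := by
  have hq1 : 1 < q := one_lt_q hF
  have h1 : 1 < Nat.card {b : F // b + σ b = 0} := by
    rw [(fld_core hF hσq).1]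
    exact hq1
  rw [Finite.one_lt_card_iff_nontrivial] at h1
  obtain ⟨⟨e, he⟩, hne⟩ := exists_ne (⟨0, by simp⟩ : {b : F // b + σ b = 0})
  refine ⟨e, ?_, he⟩
  intro h0
  apply hne
  exact Subtype.ext h0

/-- **FLD**. -/
theorem exists_par (hF : Fintype.card F = q ^ 2) (hσq : ∀ x, σ x = x ^ q) (a : F) :
    ∃ b : F, Par σ a b := by
  have hc : σ (-(a * σ a)) = -(a * σ a) := by
    rw [map_neg, map_mul, sigma_sigma hF hσq, mul_comm]
  obtain ⟨b, hb⟩ := exists_trace hF hσq _ hc
  refine ⟨b, ?_⟩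
  unfold Par
  rw [hb]
  ring

/-- **FLD**. -/
theorem card_par_zero (hF : Fintype.card F = q ^ 2) (hσq : ∀ x, σ x = x ^ q) :
    Nat.card {b : F // Par σ 0 b} = q := by
  rw [← (fld_core hF hσq).1]
  refine Nat.card_congr (Equiv.subtypeEquivRight (fun b => ?_))
  unfold Par
  simp

/-- **FLD**. -/
theorem card_par (hF : Fintype.card F = q ^ 2) (hσq : ∀ x, σ x = x ^ q) :
    Nat.card {ab : F × F // Par σ ab.1 ab.2} = q ^ 3 := by
  classical
  choose f hf using exists_par (σ := σ) hF hσq
  have e : {ab : F × F // Par σ ab.1 ab.2} ≃ F × {b : F // b + σ b = 0} :=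
    { toFun := fun ab => (ab.1.1, ⟨ab.1.2 - f ab.1.1, by
        have h1 := ab.2
        have h2 := hf ab.1.1
        unfold Par at h1 h2
        rw [map_sub]
        linear_combination h1 - h2⟩)
      invFun := fun ak => ⟨(ak.1, ak.2.1 + f ak.1), by
        have h1 := ak.2.2
        have h2 := hf ak.1
        unfold Par at h2 ⊢
        show ak.2.1 + f ak.1 + σ (ak.2.1 + f ak.1) + ak.1 * σ ak.1 = 0
        rw [map_add]
        linear_combination h1 + h2⟩
      left_inv := by
        rintro ⟨⟨a, b⟩, h⟩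
        simp
      right_inv := by
        rintro ⟨a, ⟨k, hk⟩⟩
        simp }
  rw [Nat.card_congr e, Nat.card_prod, (fld_core hF hσq).1, Nat.card_eq_fintype_card, hF]
  ring

end Cfsg.Agent.Lib.Helper96_U3C_FLD
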