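import Mathlib
import Cfsg.Agent.Lib.Helper83_U3Group
import Cfsg.Agent.Lib.Helper96_U3C_FLD

set_option autoImplicit false
set_option linter.unusedSectionVars false
set_option linter.unusedVariables false
set_option linter.unusedSimpArgs false

/-!
# S2148 (min index of PSU_3(q)), concrete half, package U3C-CARDU (architect helper83)

`|G / B| = q ^ 3 + 1` via the Bruhat bijection `Option {(a, b) | Par σ a b} ≃ UJ σ`.
-/

namespace Cfsg.Agent.Lib.Helper96_U3C_CARDU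

open Matrix Cfsg.Agent.Lib.Helper83_SU3J Cfsg.Agent.Lib.Helper83_U3Model
  Cfsg.Agent.Lib.Helper83_U3Bruhat Cfsg.Agent.Lib.Helper83_U3Group

variable {F : Type*} [Field F] {σ : F →+* F} {q : ℕ}

/-- the Bruhat parametrisation of the points -/
def pt (hσ : ∀ x, σ (σ x) = x) : Option {ab : F × F // Par σ ab.1 ab.2} → UJ σ
  | none => (QuotientGroup.mk (1 : ↥(SUJ σ)) : UJ σ)
  | some ab => (QuotientGroup.mk (xJ hσ ab.1.1 ab.1.2 ab.2 * wJ) : UJ σ)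

theorem xw_not_mem (hσ : ∀ x, σ (σ x) = x) (a b : F) (h : Par σ a b) :
    xJ hσ a b h * wJ ∉ BJ σ := by
  rw [mem_BJ_iff hσ]
  have h1 := bruhat_ne hσ a b (B := 1) (SUJ σ).one_mem (by simp)
  rw [mul_one] at h1
  exact h1

theorem pt_injective (hσ : ∀ x, σ (σ x) = x) : Function.Injective (pt (σ := σ) hσ) := by
  rintro (_ | ⟨⟨a, b⟩, hab⟩) (_ | ⟨⟨a', b'⟩, hab'⟩) h
  · rfl
  · exfalso
    have h' : (1 : ↥(SUJ σ))⁻¹ * (xJ hσ a' b' hab' * wJ) ∈ BJ σ := QuotientGroup.eq.1 h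
    rw [inv_one, one_mul] at h'
    exact xw_not_mem hσ a' b' hab' h'
  · exfalso
    have h' : (1 : ↥(SUJ σ))⁻¹ * (xJ hσ a b hab * wJ) ∈ BJ σ := QuotientGroup.eq.1 h.symm
    rw [inv_one, one_mul] at h'
    exact xw_not_mem hσ a b hab h'
  · have h' : (xJ hσ a b hab * wJ)⁻¹ * (xJ hσ a' b' hab' * wJ) ∈ BJ σ := QuotientGroup.eq.1 h
    obtain ⟨B, hB⟩ : ∃ B : ↥(SUJ σ), B = (xJ hσ a b hab * wJ)⁻¹ * (xJ hσ a' b' hab' * wJ) :=
      ⟨_, rfl⟩
    rw [← hB] at h'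
    have e : xJ hσ a b hab * wJ * B = xJ hσ a' b' hab' * wJ * 1 := by
      rw [hB, mul_inv_cancel_left, mul_one]
    have e' : xS σ a b * wS * B.1 = xS σ a' b' * wS * 1 := congrArg Subtype.val e
    obtain ⟨ha, hb⟩ := bruhat_unique hσ B.2 (SUJ σ).one_mem ((mem_BJ_iff hσ).1 h') (by simp) e'
    subst ha
    subst hb
    rfl

theorem pt_surjective (hσ : ∀ x, σ (σ x) = x) : Function.Surjective (pt (σ := σ) hσ) := by
  intro v
  obtain ⟨g, rfl⟩ := QuotientGroup.mk_surjective v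
  by_cases h20 : mat g 2 0 = 0
  · refine ⟨none, ?_⟩
    show (QuotientGroup.mk (1 : ↥(SUJ σ)) : UJ σ) = QuotientGroup.mk g
    rw [QuotientGroup.eq, inv_one, one_mul]
    exact (mem_BJ_iff hσ).2 h20
  · obtain ⟨a, b, hab, B, hB, hB20, hg⟩ := bruhat hσ g.2 h20
    refine ⟨some ⟨(a, b), hab⟩, ?_⟩
    show (QuotientGroup.mk (xJ hσ a b hab * wJ) : UJ σ) = QuotientGroup.mk g
    rw [QuotientGroup.eq]
    have e : g = xJ hσ a b hab * wJ * ⟨B, hB⟩ := Subtype.ext hg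
    rw [e, inv_mul_cancel_left]
    exact (mem_BJ_iff hσ).2 hB20

/-- **CARDU**. -/
theorem card_UJ [Fintype F] (hF : Fintype.card F = q ^ 2) (hσq : ∀ x, σ x = x ^ q)
    (hσ : ∀ x, σ (σ x) = x) : Nat.card (UJ σ) = q ^ 3 + 1 := by
  rw [← Nat.card_congr (Equiv.ofBijective (pt (σ := σ) hσ) ⟨pt_injective hσ, pt_surjective hσ⟩),
    Finite.card_option, Cfsg.Agent.Lib.Helper96_U3C_FLD.card_par hF hσq]

end Cfsg.Agent.Lib.Helper96_U3C_CARDU
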