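import Mathlib
import Cfsg.Agent.Lib.Helper83_U3SLB
import Cfsg.Agent.Lib.Helper65_U3Main
import Cfsg.Agent.Lib.Helper51_U3Facts
import Cfsg.Agent.Lib.Helper51_U3FactsSU
import Cfsg.Agent.Lib.Helper61_U3C_CENTER
import Cfsg.Agent.Lib.Helper91_U3C_BLK
import Cfsg.Agent.Lib.Helper91_U3C_TRANS
import Cfsg.Agent.Lib.Helper96_U3C_CARDU
import Cfsg.Agent.Lib.Helper96_U3C_FLD
import Cfsg.Agent.Lib.Helper65_U3C_INVFIX
import Cfsg.Agent.Lib.Helper82_U3C_SL2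
import Cfsg.Agent.Lib.Helper55_U3C_N
import Cfsg.Agent.Lib.Helper27_PSUIndex
import Cfsg.Agent.Lib.Helper94_HermBridge

set_option autoImplicit false
set_option linter.unusedSectionVars false
set_option linter.unusedVariables false
set_option linter.style.haveILetI false

namespace Cfsg.Agent.Lib.Helper83_U3Final

open Matrix Cfsg.Agent.Lib.Helper83_SU3J Cfsg.Agent.Lib.Helper83_U3Model
  Cfsg.Agent.Lib.Helper83_U3Bruhat Cfsg.Agent.Lib.Helper83_U3Group Cfsg.Agent.Lib.Helper83_U3PJ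
  Cfsg.Agent.Lib.Helper83_U3Iso Cfsg.Agent.Lib.Helper65_U3Defs Cfsg.Agent.Lib.Helper65_U3Adapter
  Cfsg.Agent.Lib.Helper83_U3Inst Cfsg.Agent.Lib.Helper83_U3SLB Cfsg.Agent.Lib.Helper51_U3BridgeDefs
  Cfsg.Agent.Lib.Helper51_U3BridgeSU

variable {F : Type*} [Field F] [Fintype F] {σ : F →+* F} {q : ℕ}

/-- all package facts -/
theorem facts_J (hF : Fintype.card F = q ^ 2) (hσq : ∀ x, σ x = x ^ q) (hσ : ∀ x, σ (σ x) = x) :
    Facts hσ q where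
  exists_trace_zero := Cfsg.Agent.Lib.Helper96_U3C_FLD.exists_trace_zero hF hσq
  center_iff := Cfsg.Agent.Lib.Helper61_U3C_CENTER.center_iff hF hσq hσ
  center_le_BJ := Cfsg.Agent.Lib.Helper61_U3C_CENTER.center_le_BJ hF hσq hσ
  two_trans := Cfsg.Agent.Lib.Helper91_U3C_TRANS.two_trans hσ
  card_UJ := Cfsg.Agent.Lib.Helper96_U3C_CARDU.card_UJ hF hσq hσ
  mk_mem_BlkJ := Cfsg.Agent.Lib.Helper91_U3C_BLK.mk_mem_BlkJ hσ
  mem_BlkJ_iff := Cfsg.Agent.Lib.Helper91_U3C_BLK.mem_BlkJ_iff hσ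
  mem_NJ_of := Cfsg.Agent.Lib.Helper91_U3C_BLK.mem_NJ_of hσ
  NJ_smul_mem := fun hg _ hv => Cfsg.Agent.Lib.Helper91_U3C_BLK.NJ_smul_mem hσ hg hv
  inv_fix := Cfsg.Agent.Lib.Helper65_U3C_INVFIX.inv_fix hF hσq hσ
  conj_ZJ_mem_SLJ := fun g h10 _ hz => Cfsg.Agent.Lib.Helper82_U3C_SL2.conj_ZJ_mem_SLJ hσ g h10 hz
  SLJ_inf_center := Cfsg.Agent.Lib.Helper82_U3C_SL2.SLJ_inf_center hF hσq hσ
  det_rho2_norm := fun hg => Cfsg.Agent.Lib.Helper55_U3C_N.det_rho2_norm hσ hg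
  rho2_scalar_iff := fun hg => Cfsg.Agent.Lib.Helper55_U3C_N.rho2_scalar_iff hσ hg

/-- the characteristic data of the field -/
theorem exists_pk (hF : Fintype.card F = q ^ 2) (hq3 : 3 ≤ q) :
    ∃ p k : ℕ, p.Prime ∧ 0 < k ∧ q = p ^ k ∧ CharP F p := by
  obtain ⟨p, hchar⟩ := CharP.exists F
  have := hchar
  obtain ⟨n, hp, hn⟩ := FiniteField.card F p
  rw [hF] at hn
  have hq : q ∣ p ^ (n : ℕ) := by rw [← hn]; exact dvd_pow_self q (by norm_num)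
  obtain ⟨k, -, hk⟩ := (Nat.dvd_prime_pow hp).1 hq
  refine ⟨p, k, hp, ?_, hk, hchar⟩
  rcases Nat.eq_zero_or_pos k with h0 | h0
  · rw [h0, pow_zero] at hk
    omega
  · exact h0

/-- **the lower bound** in the model, from a `BlockRepSU` instance (package BREP) -/
theorem lower_PJ (hF : Fintype.card F = q ^ 2) (hσq : ∀ x, σ x = x ^ q) (hq3 : 3 ≤ q)
    (hq5 : q ≠ 5)
    (hR : ∀ (hσ : ∀ x, σ (σ x) = x) {p k : ℕ} (hp : p.Prime) (hk : 0 < k) (hqp : q = p ^ k)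
      (hchar : CharP F p) (hfacts : Facts hσ q),
      Nonempty (BlockRepSU (dataSU hF hσq hσ hq3 hp hk hqp hchar hfacts))) :
    ∀ H : Subgroup (PJ σ), H ≠ ⊤ → q ^ 3 + 1 ≤ H.index := by
  have hσ : ∀ x, σ (σ x) = x := frob_invol' hF hσq
  obtain ⟨p, k, hp, hk, hqp, hchar⟩ := exists_pk hF hq3
  have hfacts := facts_J hF hσq hσ
  obtain ⟨R⟩ := hR hσ hp hk hqp hchar hfacts
  intro H hH
  letI := quotAction (dataSU hF hσq hσ hq3 hp hk hqp hchar hfacts).hC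
  have h1 := Cfsg.Agent.Lib.Helper51_U3Facts.dickson1
    (dataSU hF hσq hσ hq3 hp hk hqp hchar hfacts).toU3Data
    (slBlockJ hF hσq hσ hq3 hp hk hqp hchar hfacts)
  have h2 := Cfsg.Agent.Lib.Helper51_U3FactsSU.dickson2_SU
    (dataSU hF hσq hσ hq3 hp hk hqp hchar hfacts) R
  exact Cfsg.Agent.Lib.Helper65_U3Main.main
    (dataSU hF hσq hσ hq3 hp hk hqp hchar hfacts).toU3Data h1 h2 hq3 hq5 H hH

/-- **S2148**, from a `BlockRepSU` instance (package BREP) -/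
theorem s2148_of (q : ℕ) (hF : Fintype.card F = q ^ 2) (hq : 3 ≤ q) (h5 : q ≠ 5)
    (hR : ∀ (σ : F →+* F) (hσq : ∀ x, σ x = x ^ q) (hσ : ∀ x, σ (σ x) = x) {p k : ℕ}
      (hp : p.Prime) (hk : 0 < k) (hqp : q = p ^ k) (hchar : CharP F p) (hfacts : Facts hσ q),
      Nonempty (BlockRepSU (dataSU hF hσq hσ hq hp hk hqp hchar hfacts))) :
    (∀ H : Subgroup (Cfsg.PSU 3 F q), H ≠ ⊤ → q ^ 3 + 1 ≤ H.index) ∧
      (∃ H : Subgroup (Cfsg.PSU 3 F q), H.index = q ^ 3 + 1) := by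
  obtain ⟨σ, hσq, -⟩ := Cfsg.Agent.Lib.Helper94_HermBridge.exists_frob hF
  exact ⟨index_transport hF hσq (q ^ 3 + 1) (lower_PJ hF hσq hq h5 (hR σ hσq)),
    Cfsg.Agent.Lib.Helper27_PSUIndex.exists_index_three hF⟩

end Cfsg.Agent.Lib.Helper83_U3Final
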