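import Cfsg.Agent.Lib.Helper84_FocBasic
import Cfsg.Agent.Lib.Helper84_KLQuot
import Cfsg.Agent.Lib.Helper72_FusWC4
import Cfsg.Agent.Lib.Helper32_PGroup
import Cfsg.Agent.S5132
import Cfsg.Agent.S5133
import Cfsg.Agent.S5134

/-!
# Focal subgroups and subgroups on which the system acts through `S` (helper84)

* `focalSubgroup_le_iff`: the focal subgroup in function form;
* `SAct F U`: every map of `F` extends to the join of its source with `U`, acting on `U` as conjugation by an element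
  of `S`;
* `focal_inf_le_commutator`: if `U ⊴ S`, `F` is saturated and `SAct F U`, then `foc(F) ∩ U ≤ [S, S]` (given the
  corresponding statement for the centre of a saturated system, `H5329`).
-/

set_option autoImplicit false

namespace Cfsg.Agent.Lib.Helper84_FocCentral

open Cfsg Cfsg.FusionSystem Cfsg.Agent.Lib Cfsg.Agent.Lib.Helper87_Alperin Cfsg.Agent.Lib.Helper87_Alperin2
  Cfsg.Agent.Lib.Helper87_Factor Cfsg.Agent.Lib.Helper87_Factor2 Cfsg.Agent.Lib.Helper87_ModT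
  Cfsg.Agent.Lib.Helper84_KLBasic Cfsg.Agent.Lib.Helper84_KLQuot Cfsg.Agent.Lib.Helper84_FocBasic

universe u

open scoped commutatorElement

section basic

variable {Ω : Type*} [Group Ω] {S : Subgroup Ω}

theorem mem_focalSubgroup_of_isMapOn {F : FusionSystem S} {P : Subgroup Ω} {f : Ω → Ω} (hf : IsMapOn F P f)
    {x : Ω} (hx : x ∈ P) : x⁻¹ * f x ∈ F.focalSubgroup := by
  obtain ⟨φ, hφ, hφf⟩ := hf
  apply Subgroup.subset_closure
  exact ⟨P, φ, ⟨x, hx⟩, hφ, by rw [hφf]⟩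

theorem focalSubgroup_le_iff {F : FusionSystem S} {X : Subgroup Ω} : F.focalSubgroup ≤ X ↔ AllFoc F X := by
  constructor
  · intro h P f hf x hx
    exact h (mem_focalSubgroup_of_isMapOn hf hx)
  · intro h
    apply (Subgroup.closure_le _).2
    rintro _ ⟨P, φ, x, hφ, rfl⟩
    have := h P (extHom φ) (isMapOn_extHom F hφ) x x.2
    rwa [extHom_coe] at this

theorem allFoc_focalSubgroup (F : FusionSystem S) : AllFoc F F.focalSubgroup :=
  focalSubgroup_le_iff.1 le_rfl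

theorem focalSubgroup_le_S (F : FusionSystem S) : F.focalSubgroup ≤ S := by
  rw [focalSubgroup_le_iff]
  intro P f hf x hx
  exact S.mul_mem (S.inv_mem (hf.le hx)) (hf.mem hx)

theorem commutator_le_focalSubgroup (F : FusionSystem S) : ⁅S, S⁆ ≤ F.focalSubgroup := by
  rw [Subgroup.commutator_le]
  intro a ha b hb
  have h1 := mem_focalSubgroup_of_isMapOn (IsMapOn.conj F (le_refl S) hb) (S.inv_mem ha)
  have h2 : (a⁻¹)⁻¹ * (b * a⁻¹ * b⁻¹) = ⁅a, b⁆ := by
    rw [commutatorElement_def]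
    group
  rw [← h2]
  exact h1

/-- every map of the system extends to the join of its source with `U`, acting on `U` as an element of `S` -/
def SAct (F : FusionSystem S) (U : Subgroup Ω) : Prop :=
  ∀ (P : Subgroup Ω) (f : Ω → Ω), IsMapOn F P f →
    ∃ (g : Ω → Ω) (s : Ω), IsMapOn F (P ⊔ U) g ∧ (∀ x ∈ P, g x = f x) ∧ s ∈ S ∧ ∀ x ∈ U, g x = s * x * s⁻¹

/-- a subgroup of `U ∩ Z(S)` is central in the system -/
theorem isCentral_of_sAct {F : FusionSystem S} {U Z₁ : Subgroup Ω} (hU : SAct F U) (hZU : Z₁ ≤ U) (hZS : Z₁ ≤ S)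
    (hZc : ∀ z ∈ Z₁, ∀ s ∈ S, s * z * s⁻¹ = z) : F.IsCentral Z₁ := by
  refine Helper72_FusWC.isCentral_of_fun hZS fun P f hf => ?_
  obtain ⟨g, s, hg, hgf, hs, hgU⟩ := hU P f hf
  refine ⟨g, hg.mono (sup_le_sup_left hZU P), hgf, fun x hx => ?_⟩
  rw [hgU x (hZU hx)]
  exact hZc x hx s hs

theorem stronglyClosed_of_isCentral {F : FusionSystem S} {Z₁ : Subgroup Ω} (h : F.IsCentral Z₁) :
    F.StronglyClosed Z₁ := by
  refine ⟨h.1, fun R hR φ hφ x => ?_⟩
  obtain ⟨g, -, hgf, hgZ⟩ := Helper72_FusWC.IsCentral.exists_fun h (isMapOn_extHom F hφ)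
  have h1 := hgf x x.2
  rw [hgZ x (hR x.2), extHom_coe] at h1
  rw [← h1]
  exact hR x.2

end basic

/-- the statement of `S5329` (focal subgroup and centre of a saturated system) in the universe `u` -/
def H5329 (p : ℕ) : Prop :=
  ∀ (Ω : Type u) [Group Ω] (S : Subgroup Ω) [Finite S], IsPGroup p S → ∀ F : FusionSystem S, F.IsSaturated p →
    F.focalSubgroup ⊓ F.center ≤ ⁅S, S⁆


section main

variable {p : ℕ} [Fact p.Prime]

/-- the statement of the lemma for systems over groups of order `n` -/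
def StmtE (p : ℕ) (n : ℕ) : Prop :=
  ∀ (Ω : Type u) [Group Ω] (S : Subgroup Ω) [Finite S], Nat.card S = n → IsPGroup p S → ∀ F : FusionSystem S,
    F.IsSaturated p → ∀ U : Subgroup Ω, U ≤ S → S ≤ Subgroup.normalizer (U : Set Ω) → SAct F U →
    F.focalSubgroup ⊓ U ≤ ⁅S, S⁆

/-- a nontrivial subgroup normalized by the `p`-group `S` meets the centre of `S` -/
theorem exists_central_of_normal {Ω : Type*} [Group Ω] {S : Subgroup Ω} [Finite S] (hS : IsPGroup p S)
    {U : Subgroup Ω} (hUS : U ≤ S) (hSU : S ≤ Subgroup.normalizer (U : Set Ω)) (hU : U ≠ ⊥) :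
    ∃ z ∈ U, z ≠ 1 ∧ ∀ s ∈ S, s * z * s⁻¹ = z := by
  have hnorm : (U.subgroupOf S).Normal := (Subgroup.normal_subgroupOf_iff_le_normalizer hUS).2 hSU
  have hne : U.subgroupOf S ≠ ⊥ := by
    intro h
    apply hU
    rw [Subgroup.eq_bot_iff_forall]
    intro x hx
    have h1 : (⟨x, hUS hx⟩ : S) ∈ U.subgroupOf S := Subgroup.mem_subgroupOf.2 hx
    rw [h, Subgroup.mem_bot] at h1
    exact congrArg Subtype.val h1
  obtain ⟨z, hzU, hzc, hz1⟩ := Helper32_PGroup.exists_mem_center_of_normal hS (U.subgroupOf S) hne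
  refine ⟨(z : Ω), Subgroup.mem_subgroupOf.1 hzU, fun h => hz1 (Subtype.ext h), fun s hs => ?_⟩
  have h1 := Subgroup.mem_center_iff.1 hzc ⟨s, hs⟩
  have h2 : s * (z : Ω) = (z : Ω) * s := congrArg Subtype.val h1
  rw [h2, mul_inv_cancel_right]

theorem focal_inf_le_commutator (h : H5329.{u} p) : ∀ n, StmtE.{u} p n := by
  intro n
  induction n using Nat.strong_induction_on with
  | _ n IH =>
  intro Ω _ S _ hcard hS F hF U hUS hSU hact
  by_cases hU : U = ⊥
  · intro y hy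
    have h1 : y ∈ U := hy.2
    rw [hU, Subgroup.mem_bot] at h1
    rw [h1]
    exact Subgroup.one_mem _
  -- the central subgroup `Z₁`
  set Z₁ : Subgroup Ω := U ⊓ centralizerIn S S with hZ₁
  have hZU : Z₁ ≤ U := inf_le_left
  have hZS : Z₁ ≤ S := hZU.trans hUS
  have hZc : ∀ z ∈ Z₁, ∀ s ∈ S, s * z * s⁻¹ = z := by
    intro z hz s hs
    have h1 : z ∈ Subgroup.centralizer (S : Set Ω) := hz.2.2
    rw [Subgroup.mem_centralizer_iff] at h1
    rw [h1 s hs, mul_inv_cancel_right]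
  have hZne : Z₁ ≠ ⊥ := by
    obtain ⟨z, hzU, hz1, hzc⟩ := exists_central_of_normal hS hUS hSU hU
    intro hbot
    have h1 : z ∈ Z₁ := by
      refine ⟨hzU, hUS hzU, ?_⟩
      show z ∈ Subgroup.centralizer (S : Set Ω)
      rw [Subgroup.mem_centralizer_iff]
      intro s hs
      have := hzc s hs
      calc s * z = (s * z * s⁻¹) * s := by group
        _ = z * s := by rw [this]
    rw [hbot, Subgroup.mem_bot] at h1
    exact hz1 h1
  have hcen : F.IsCentral Z₁ := isCentral_of_sAct hact hZU hZS hZc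
  have hZcen : Z₁ ≤ F.center := le_sSup hcen
  have hsc : F.StronglyClosed Z₁ := stronglyClosed_of_isCentral hcen
  have hSZ : S ≤ Subgroup.normalizer (Z₁ : Set Ω) := Helper87_Normal.stronglyClosed_le_normalizer hsc
  have hZnormal : (Z₁.subgroupOf S).Normal := (Subgroup.normal_subgroupOf_iff_le_normalizer hZS).2 hSZ
  obtain ⟨E, hE⟩ := Cfsg.Agent.S5132.result p hS F Z₁ hsc
  set θ : S →* S ⧸ Z₁.subgroupOf S := QuotientGroup.mk' (Z₁.subgroupOf S) with hθ
  have hker : ∀ s : S, θ s = 1 ↔ (s : Ω) ∈ Z₁ := hE.2.1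
  have hrange : θ.range = ⊤ := hE.2.2.1
  have hEsat : E.IsSaturated p :=
    Cfsg.Agent.S5133.result p hS F hF E θ (Cfsg.Agent.S5134.result p hS F hF Z₁ hsc θ E hE)
  have hfinZ : Finite Z₁ := Helper84_FusionRS.finite_of_le_S hZS
  have hpquot : IsPGroup p (S ⧸ Z₁.subgroupOf S) := hS.to_quotient _
  have hpS' : IsPGroup p (⊤ : Subgroup (S ⧸ Z₁.subgroupOf S)) := hpquot.to_subgroup ⊤
  have hcardZ : 1 < Nat.card Z₁ := by
    rw [Finite.one_lt_card_iff_nontrivial]
    exact (Subgroup.nontrivial_iff_ne_bot Z₁).2 hZne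
  have hcardquot : Nat.card (S ⧸ Z₁.subgroupOf S) * Nat.card Z₁ = n := by
    have h1 := Subgroup.card_eq_card_quotient_mul_card_subgroup (Z₁.subgroupOf S)
    have h2 : Nat.card (Z₁.subgroupOf S) = Nat.card Z₁ :=
      Nat.card_congr (Subgroup.subgroupOfEquivOfLe hZS).toEquiv
    rw [← hcard, h1, h2]
  have hcardS' : Nat.card (⊤ : Subgroup (S ⧸ Z₁.subgroupOf S)) < n := by
    rw [Subgroup.card_top]
    have hpos : 0 < Nat.card (S ⧸ Z₁.subgroupOf S) := Nat.card_pos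
    nlinarith
  -- the image of `U`
  set U' : Subgroup (S ⧸ Z₁.subgroupOf S) := imageAlong θ U with hU'
  have hU'n : (⊤ : Subgroup (S ⧸ Z₁.subgroupOf S)) ≤ Subgroup.normalizer (U' : Set (S ⧸ Z₁.subgroupOf S)) := by
    apply Helper87_Normal.le_normalizer_of_conj_mem
    intro g _ u' hu'
    obtain ⟨s, rfl⟩ := QuotientGroup.mk'_surjective (Z₁.subgroupOf S) g
    obtain ⟨u, huS, huU, rfl⟩ := (mem_imageAlong θ U u').1 hu'
    have h1 : (s : Ω) * u * (s : Ω)⁻¹ ∈ U := (Subgroup.mem_normalizer_iff.1 (hSU s.2) u).1 huU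
    have h2 := extOn_mem_imageAlong θ hUS h1
    rw [extOn_mul θ (S.mul_mem s.2 huS) (S.inv_mem s.2), extOn_mul θ s.2 huS, extOn_inv θ s.2, extOn_coe] at h2
    exact h2
  have hact' : SAct E U' := by
    intro P' f' hf'
    have hP'S : P' ≤ θ.range := by rw [hrange]; exact hf'.le
    obtain ⟨f, hf, hff'⟩ := exists_lift_isMapOn hE hf'
    set P := preimageAlong θ P' with hP
    have hPS : P ≤ S := preimageAlong_le θ P'
    obtain ⟨g, s, hg, hgf, hs, hgU⟩ := hact P f hf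
    obtain ⟨g', hg', hg'g⟩ := exists_induced_isMapOn hS hF hsc hE hg
    have hle : P' ⊔ U' ≤ imageAlong θ (P ⊔ U) := by
      refine sup_le ?_ ?_
      · intro x' hx'
        rw [← imageAlong_preimageAlong_of_le θ hP'S, mem_imageAlong] at hx'
        obtain ⟨x, hxS, hxP, rfl⟩ := hx'
        exact extOn_mem_imageAlong θ (sup_le hPS hUS) ((le_sup_left : P ≤ P ⊔ U) hxP)
      · intro x' hx'
        obtain ⟨x, hxS, hxU, rfl⟩ := (mem_imageAlong θ U x').1 hx'
        exact extOn_mem_imageAlong θ (sup_le hPS hUS) ((le_sup_right : U ≤ P ⊔ U) hxU)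
    refine ⟨g', θ ⟨s, hs⟩, hg'.mono hle, fun x' hx' => ?_, Subgroup.mem_top _, fun x' hx' => ?_⟩
    · rw [← imageAlong_preimageAlong_of_le θ hP'S, mem_imageAlong] at hx'
      obtain ⟨x, hxS, hxP, rfl⟩ := hx'
      rw [hg'g x ((le_sup_left : P ≤ P ⊔ U) hxP), hgf x hxP, hff' x hxP]
    · obtain ⟨x, hxS, hxU, rfl⟩ := (mem_imageAlong θ U x').1 hx'
      rw [hg'g x ((le_sup_right : U ≤ P ⊔ U) hxU), hgU x hxU,
        extOn_mul θ (S.mul_mem hs hxS) (S.inv_mem hs), extOn_mul θ hs hxS, extOn_inv θ hs, extOn_apply θ hs]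
  have key := IH _ hcardS' (S ⧸ Z₁.subgroupOf S) ⊤ rfl hpS' E hEsat U' le_top hU'n hact'
  -- the image of the focal subgroup
  have hfoc : F.focalSubgroup ≤ preimageAlong θ E.focalSubgroup := by
    rw [focalSubgroup_le_iff]
    intro P f hf x hx
    have hPS : P ≤ S := hf.le
    rw [mem_preimageAlong]
    refine ⟨S.mul_mem (S.inv_mem (hPS hx)) (hf.mem hx), ?_⟩
    obtain ⟨f', hf', hf'f⟩ := exists_induced_isMapOn hS hF hsc hE hf
    have h1 := mem_focalSubgroup_of_isMapOn hf' (extOn_mem_imageAlong θ hPS hx)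
    rw [hf'f x hx] at h1
    rw [extOn_mul θ (S.inv_mem (hPS hx)) (hf.mem hx), extOn_inv θ (hPS hx)]
    exact h1
  intro y hy
  have hyS : y ∈ S := hUS hy.2
  have h1 : extOn θ y ∈ E.focalSubgroup := ((mem_preimageAlong θ _ y).1 (hfoc hy.1)).2
  have h2 : extOn θ y ∈ U' := extOn_mem_imageAlong θ hUS hy.2
  have h3 : extOn θ y ∈ ⁅(⊤ : Subgroup (S ⧸ Z₁.subgroupOf S)), ⊤⁆ := key ⟨h1, h2⟩
  -- lift to the commutator subgroup of `S`
  have h4 : ⁅(⊤ : Subgroup (S ⧸ Z₁.subgroupOf S)), ⊤⁆ =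
      Subgroup.map θ ⁅(⊤ : Subgroup ↥S), (⊤ : Subgroup ↥S)⁆ := by
    rw [Subgroup.map_commutator, ← MonoidHom.range_eq_map, hrange]
  rw [h4] at h3
  obtain ⟨c, hc, hcy⟩ := h3
  have hcS : (c : Ω) ∈ ⁅S, S⁆ := by
    have h5 : Subgroup.map S.subtype ⁅(⊤ : Subgroup ↥S), (⊤ : Subgroup ↥S)⁆ = ⁅S, S⁆ := by
      rw [Subgroup.map_commutator, ← MonoidHom.range_eq_map, Subgroup.range_subtype]
    rw [← h5]
    exact ⟨c, hc, rfl⟩
  have hw : (c : Ω)⁻¹ * y ∈ Z₁ := by
    apply (extOn_eq_iff hker c.2 hyS).1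
    rw [extOn_coe]
    exact hcy
  have hwfoc : (c : Ω)⁻¹ * y ∈ F.focalSubgroup :=
    Subgroup.mul_mem _ (Subgroup.inv_mem _ (commutator_le_focalSubgroup F hcS)) hy.1
  have hw2 : (c : Ω)⁻¹ * y ∈ ⁅S, S⁆ := h Ω S hS F hF ⟨hwfoc, hZcen hw⟩
  have h6 : y = (c : Ω) * ((c : Ω)⁻¹ * y) := by group
  rw [h6]
  exact Subgroup.mul_mem _ hcS hw2

end main

end Cfsg.Agent.Lib.Helper84_FocCentral
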