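import Cfsg.Agent.Lib.Helper84_BisetTransfer
import Cfsg.Agent.Lib.Helper84_FocCentral

/-!
# Focal subgroup and centre of a fusion system with a characteristic biset (helper84)

If a fusion system `F` over a finite `p`-group `S` has a characteristic biset (a finite `S`-`S`-biset, free on the right,
left `F`-stable, with point stabilizers twisted diagonals of maps of `F`, and with `|X|/|S|` prime to `p`), then
`foc(F) ∩ Z(F) ≤ [S, S]`.
-/

set_option autoImplicit false

namespace Cfsg.Agent.Lib.Helper84_BisetFocal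

open Cfsg Cfsg.FusionSystem Cfsg.Agent.Lib Cfsg.Agent.Lib.Helper87_Alperin Cfsg.Agent.Lib.Helper87_Alperin2
  Cfsg.Agent.Lib.Helper84_BisetTransfer Cfsg.Agent.Lib.Helper84_FocCentral

variable {Ω : Type*} [Group Ω] {S : Subgroup Ω}

/-- a characteristic biset of the fusion system `F` (the properties needed for the transfer) -/
structure IsCharBiset (F : FusionSystem S) (p : ℕ) {X : Type*} (l : S → X → X) (r : X → S → X) : Prop where
  biset : IsBiset l r
  finite : Finite X
  stable : ∀ (P : Subgroup Ω) (φ : P →* Ω) (hφ : φ ∈ F.Hom P), ∃ σ : Equiv.Perm X,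
    (∀ x s, σ (r x s) = r (σ x) s) ∧
      ∀ (u : P) (x : X), σ (l ⟨u, (F.le_of_mem hφ).1 u.2⟩ x) = l ⟨φ u, (F.le_of_mem hφ).2 u⟩ (σ x)
  diag : ∀ (a b : S) (x : X), l a x = r x b →
    ∃ (P : Subgroup Ω) (φ : P →* Ω), φ ∈ F.Hom P ∧ ∃ ha : (a : Ω) ∈ P, φ ⟨a, ha⟩ = b
  card : ∃ n : ℕ, Nat.card X = n * Nat.card S ∧ ¬ p ∣ n

/-- **The focal subgroup meets the centre in the derived subgroup**, given a characteristic biset. -/
theorem focal_inf_center_le [Finite S] {p : ℕ} [Fact p.Prime] (hS : IsPGroup p S) (F : FusionSystem S)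
    {X : Type*} {l : S → X → X} {r : X → S → X} (hX : IsCharBiset F p l r) :
    F.focalSubgroup ⊓ F.center ≤ ⁅S, S⁆ := by
  have hfin : Finite X := hX.finite
  obtain ⟨n, hn, hpn⟩ := hX.card
  have hSpos : 0 < Nat.card S := Nat.card_pos
  have hXpos : 0 < Nat.card X := by
    rw [hn]
    have : n ≠ 0 := fun h0 => hpn (h0 ▸ dvd_zero p)
    positivity
  have hne : Nonempty X := (Nat.card_pos_iff.1 hXpos).1
  obtain ⟨x₀⟩ := hne
  have hb := hX.biset
  have hidx : (orbStab hb x₀).index = n := by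
    have h1 := card_eq_index_mul hb x₀
    rw [hn] at h1
    exact (Nat.eq_of_mul_eq_mul_right hSpos h1).symm
  -- the focal subgroup lies in the kernel of the transfer
  have hker : F.focalSubgroup ≤ (V hb x₀).ker.map S.subtype := by
    apply (Subgroup.closure_le _).2
    rintro _ ⟨P, φ, x, hφ, rfl⟩
    obtain ⟨σ, hσ, hσl⟩ := hX.stable P φ hφ
    have h1 : V hb x₀ ⟨φ x, (F.le_of_mem hφ).2 x⟩ = V hb x₀ ⟨x, (F.le_of_mem hφ).1 x.2⟩ :=
      V_eq_of_conj hb x₀ σ hσ _ _ (fun y => hσl x y)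
    refine ⟨(⟨x, (F.le_of_mem hφ).1 x.2⟩ : S)⁻¹ * ⟨φ x, (F.le_of_mem hφ).2 x⟩, ?_, rfl⟩
    show _ ∈ (V hb x₀).ker
    rw [MonoidHom.mem_ker, map_mul, map_inv, h1, inv_mul_cancel]
  rintro y ⟨hyf, hyc⟩
  obtain ⟨z, hzker, rfl⟩ := hker hyf
  -- the transfer of a central element
  have hcen : F.IsCentral F.center := Helper85_Fusion.isCentral_center F
  have hz : ∀ (k : ℕ) (x : X) (b : S), l (z ^ k) x = r x b → b = z ^ k := by
    intro k x b hxb
    obtain ⟨P, φ, hφ, ha, hφa⟩ := hX.diag _ _ x hxb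
    obtain ⟨g, -, hgφ, hgZ⟩ := Helper72_FusWC.IsCentral.exists_fun hcen (isMapOn_extHom F hφ)
    have hzk : ((z ^ k : S) : Ω) ∈ F.center := by
      rw [Subgroup.coe_pow]
      exact Subgroup.pow_mem _ hyc k
    have h1 := hgφ _ ha
    rw [hgZ _ hzk, extHom_apply φ ha, hφa] at h1
    exact Subtype.ext h1.symm
  have h2 := V_eq_pow hb x₀ z hz
  have hzker : z ∈ (V hb x₀).ker := hzker
  rw [MonoidHom.mem_ker] at hzker
  rw [hzker, hidx] at h2
  -- the abelianization is a `p`-group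
  have hA : IsPGroup p (Abelianization S) := hS.to_quotient _
  have h3 : Abelianization.of z = 1 := by
    apply (hA.powEquiv' hpn).injective
    show Abelianization.of z ^ n = 1 ^ n
    rw [← h2, one_pow]
  have h4 : z ∈ commutator S := by
    rw [← Abelianization.ker_of, MonoidHom.mem_ker]
    exact h3
  rw [← Subgroup.map_subtype_commutator]
  exact ⟨z, h4, rfl⟩

end Cfsg.Agent.Lib.Helper84_BisetFocal
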