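import Mathlib

/-!
# The transfer of a right-free biset (helper84)

Let `T` be a finite group and `X` a finite `T`-`T`-biset (left action `l`, right action `r`, commuting) whose right action
is free.  The group `G` of right-equivariant permutations of `X` contains `T` through the left action, the stabilizer `H`
in `G` of a right orbit `x₀ T` maps to `T`, and the transfer of `G` into the abelianization of `T` along this map,
restricted to `T`, is the transfer `V` of the biset.  We show:

* `V` takes the same value on `u` and `φ u` whenever some right-equivariant permutation `σ` of `X` satisfies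
  `σ (u x) = (φ u) (σ x)` for all `x`;
* `V z = z ^ n` in the abelianization, where `|X| = n |T|`, for every `z` such that `z ^ k x = x b` implies `b = z ^ k`.
-/

set_option autoImplicit false

namespace Cfsg.Agent.Lib.Helper84_BisetTransfer

open MulAction Subgroup

variable {T : Type*} [Group T] {X : Type*}

/-- a `T`-`T`-biset with free right action, given by functions -/
structure IsBiset (l : T → X → X) (r : X → T → X) : Prop where
  l_one : ∀ x, l 1 x = x
  l_mul : ∀ a b x, l (a * b) x = l a (l b x)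
  r_one : ∀ x, r x 1 = x
  r_mul : ∀ x a b, r x (a * b) = r (r x a) b
  comm : ∀ a x b, r (l a x) b = l a (r x b)
  r_free : ∀ x a, r x a = x → a = 1

variable {l : T → X → X} {r : X → T → X}

theorem IsBiset.r_inj (h : IsBiset l r) {x : X} {a b : T} (hab : r x a = r x b) : a = b := by
  have h1 : r x (a * b⁻¹) = x := by
    rw [h.r_mul, hab, ← h.r_mul, mul_inv_cancel, h.r_one]
  exact mul_inv_eq_one.1 (h.r_free x _ h1)

theorem IsBiset.r_cancel (h : IsBiset l r) {x y : X} {a : T} (hxy : r x a = r y a) : x = y := by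
  have h1 : r (r x a) a⁻¹ = r (r y a) a⁻¹ := by rw [hxy]
  rwa [← h.r_mul, ← h.r_mul, mul_inv_cancel, h.r_one, h.r_one] at h1

/-- the group of right-equivariant permutations -/
def rAut (r : X → T → X) : Subgroup (Equiv.Perm X) where
  carrier := {σ | ∀ x s, σ (r x s) = r (σ x) s}
  one_mem' := fun _ _ => rfl
  mul_mem' := by
    intro σ τ hσ hτ x s
    show σ (τ (r x s)) = r (σ (τ x)) s
    rw [hτ, hσ]
  inv_mem' := by
    intro σ hσ x s
    apply σ.injective
    rw [hσ]
    simp

omit [Group T] in
theorem rAut_apply (σ : rAut r) (x : X) (s : T) : (σ : Equiv.Perm X) (r x s) = r ((σ : Equiv.Perm X) x) s :=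
  σ.2 x s

/-- the left action as a homomorphism into the right-equivariant permutations -/
def lam (h : IsBiset l r) : T →* rAut r where
  toFun a := ⟨⟨l a, l a⁻¹, fun x => by rw [← h.l_mul, inv_mul_cancel, h.l_one],
    fun x => by rw [← h.l_mul, mul_inv_cancel, h.l_one]⟩, fun x s => (h.comm a x s).symm⟩
  map_one' := by
    apply Subtype.ext
    ext x
    exact h.l_one x
  map_mul' := by
    intro a b
    apply Subtype.ext
    ext x
    exact h.l_mul a b x

@[simp] theorem lam_apply (h : IsBiset l r) (a : T) (x : X) : ((lam h a : rAut r) : Equiv.Perm X) x = l a x := rfl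

/-- the stabilizer of the right orbit of `x₀` -/
def orbStab (h : IsBiset l r) (x₀ : X) : Subgroup (rAut r) where
  carrier := {σ | ∃ s, (σ : Equiv.Perm X) x₀ = r x₀ s}
  one_mem' := ⟨1, by simp [h.r_one]⟩
  mul_mem' := by
    rintro σ τ ⟨s, hs⟩ ⟨t, ht⟩
    refine ⟨s * t, ?_⟩
    show (σ : Equiv.Perm X) ((τ : Equiv.Perm X) x₀) = _
    rw [ht, rAut_apply, hs, h.r_mul]
  inv_mem' := by
    rintro σ ⟨s, hs⟩
    refine ⟨s⁻¹, ?_⟩
    apply (σ : Equiv.Perm X).injective
    rw [rAut_apply, hs, ← h.r_mul, mul_inv_cancel, h.r_one]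
    simp

theorem mem_orbStab (h : IsBiset l r) (x₀ : X) (σ : rAut r) :
    σ ∈ orbStab h x₀ ↔ ∃ s, (σ : Equiv.Perm X) x₀ = r x₀ s := Iff.rfl

/-- the element of `T` by which an element of the stabilizer of the orbit moves `x₀` -/
noncomputable def phi (h : IsBiset l r) (x₀ : X) : orbStab h x₀ →* T where
  toFun σ := ((mem_orbStab h x₀ σ.1).1 σ.2).choose
  map_one' := by
    have h1 := ((mem_orbStab h x₀ (1 : orbStab h x₀).1).1 (1 : orbStab h x₀).2).choose_spec
    apply h.r_inj (x := x₀)
    rw [← h1, h.r_one]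
    rfl
  map_mul' := by
    intro σ τ
    have h1 := ((mem_orbStab h x₀ σ.1).1 σ.2).choose_spec
    have h2 := ((mem_orbStab h x₀ τ.1).1 τ.2).choose_spec
    have h3 := ((mem_orbStab h x₀ (σ * τ).1).1 (σ * τ).2).choose_spec
    apply h.r_inj (x := x₀)
    rw [← h3, h.r_mul, ← h1, ← rAut_apply (r := r) σ.1, ← h2]
    rfl

theorem phi_spec (h : IsBiset l r) (x₀ : X) (σ : orbStab h x₀) :
    ((σ : rAut r) : Equiv.Perm X) x₀ = r x₀ (phi h x₀ σ) :=
  ((mem_orbStab h x₀ σ.1).1 σ.2).choose_spec

theorem phi_eq_of (h : IsBiset l r) (x₀ : X) (σ : orbStab h x₀) {s : T}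
    (hs : ((σ : rAut r) : Equiv.Perm X) x₀ = r x₀ s) : phi h x₀ σ = s :=
  h.r_inj (x := x₀) (by rw [← phi_spec h x₀ σ, hs])

/-! ### Right orbits and coordinates -/

/-- the right orbit relation -/
def rSetoid (h : IsBiset l r) : Setoid X where
  r x y := ∃ s, y = r x s
  iseqv := ⟨fun x => ⟨1, (h.r_one x).symm⟩,
    fun {x y} ⟨s, hs⟩ => ⟨s⁻¹, by rw [hs, ← h.r_mul, mul_inv_cancel, h.r_one]⟩,
    fun {x y z} ⟨s, hs⟩ ⟨t, ht⟩ => ⟨s * t, by rw [ht, hs, h.r_mul]⟩⟩

/-- the set of right orbits -/
abbrev ROrb (h : IsBiset l r) : Type _ := Quotient (rSetoid h)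

/-- the chosen representative of the right orbit of `x` -/
noncomputable def rep (h : IsBiset l r) (i : ROrb h) : X := Quotient.out i

theorem mk_rep (h : IsBiset l r) (i : ROrb h) : (Quotient.mk (rSetoid h) (rep h i)) = i :=
  Quotient.out_eq i

theorem exists_coord (h : IsBiset l r) (x : X) : ∃ s, x = r (rep h (Quotient.mk (rSetoid h) x)) s :=
  Quotient.exact (s := rSetoid h) (mk_rep h (Quotient.mk (rSetoid h) x))

/-- the coordinate of `x` with respect to the chosen representative of its orbit -/
noncomputable def coord (h : IsBiset l r) (x : X) : T := (exists_coord h x).choose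

theorem coord_spec (h : IsBiset l r) (x : X) : x = r (rep h (Quotient.mk (rSetoid h) x)) (coord h x) :=
  (exists_coord h x).choose_spec

theorem mk_r (h : IsBiset l r) (x : X) (s : T) : Quotient.mk (rSetoid h) (r x s) = Quotient.mk (rSetoid h) x :=
  (Quotient.sound (s := rSetoid h) ⟨s, rfl⟩).symm

theorem coord_r (h : IsBiset l r) (x : X) (s : T) : coord h (r x s) = coord h x * s := by
  have h1 := coord_spec h (r x s)
  rw [mk_r] at h1
  have h2 := coord_spec h x
  have h3 : r x s = r (rep h (Quotient.mk (rSetoid h) x)) (coord h x * s) := by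
    rw [h.r_mul, ← h2]
  exact h.r_inj (h1.symm.trans h3)

/-- coordinates on a right-free biset -/
noncomputable def coordEquiv (h : IsBiset l r) : X ≃ ROrb h × T where
  toFun x := (Quotient.mk (rSetoid h) x, coord h x)
  invFun y := r (rep h y.1) y.2
  left_inv x := (coord_spec h x).symm
  right_inv y := by
    have h1 : Quotient.mk (rSetoid h) (r (rep h y.1) y.2) = y.1 := by rw [mk_r, mk_rep]
    refine Prod.ext h1 ?_
    show coord h (r (rep h y.1) y.2) = y.2
    have h2 := coord_spec h (r (rep h y.1) y.2)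
    rw [h1] at h2
    exact (h.r_inj h2).symm

theorem card_eq (h : IsBiset l r) : Nat.card X = Nat.card (ROrb h) * Nat.card T := by
  rw [Nat.card_congr (coordEquiv h), Nat.card_prod]

/-- a permutation of the right orbits induces a right-equivariant permutation -/
noncomputable def permOfOrb (h : IsBiset l r) (π : Equiv.Perm (ROrb h)) : rAut r :=
  ⟨(coordEquiv h).trans ((π.prodCongr (Equiv.refl T)).trans (coordEquiv h).symm), by
    intro x s
    show r (rep h (π (Quotient.mk (rSetoid h) (r x s)))) (coord h (r x s)) =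
      r (r (rep h (π (Quotient.mk (rSetoid h) x))) (coord h x)) s
    rw [mk_r, coord_r, h.r_mul]⟩

theorem mk_permOfOrb (h : IsBiset l r) (π : Equiv.Perm (ROrb h)) (x : X) :
    Quotient.mk (rSetoid h) (((permOfOrb h π : rAut r) : Equiv.Perm X) x) = π (Quotient.mk (rSetoid h) x) := by
  show Quotient.mk (rSetoid h) (r (rep h (π (Quotient.mk (rSetoid h) x))) (coord h x)) = _
  rw [mk_r, mk_rep]

/-! ### The index of the stabilizer of an orbit -/

theorem mk_eq_iff (h : IsBiset l r) (x y : X) :
    Quotient.mk (rSetoid h) x = Quotient.mk (rSetoid h) y ↔ ∃ s, y = r x s :=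
  ⟨fun hxy => Quotient.exact (s := rSetoid h) hxy, fun hxy => Quotient.sound (s := rSetoid h) hxy⟩

/-- the map from the cosets of the stabilizer of the orbit of `x₀` to the right orbits -/
noncomputable def cosetToOrb (h : IsBiset l r) (x₀ : X) : rAut r ⧸ orbStab h x₀ → ROrb h :=
  Quotient.lift (fun σ : rAut r => Quotient.mk (rSetoid h) ((σ : Equiv.Perm X) x₀)) (by
    intro σ τ hστ
    have h1 : σ⁻¹ * τ ∈ orbStab h x₀ := QuotientGroup.leftRel_apply.1 hστ
    obtain ⟨s, hs⟩ := h1
    rw [mk_eq_iff]
    refine ⟨s, ?_⟩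
    have h2 : (τ : Equiv.Perm X) x₀ = (σ : Equiv.Perm X) (((σ⁻¹ * τ : rAut r) : Equiv.Perm X) x₀) := by
      simp
    rw [h2, hs, rAut_apply])

theorem cosetToOrb_mk (h : IsBiset l r) (x₀ : X) (σ : rAut r) :
    cosetToOrb h x₀ (QuotientGroup.mk σ) = Quotient.mk (rSetoid h) ((σ : Equiv.Perm X) x₀) := rfl

theorem cosetToOrb_bijective (h : IsBiset l r) (x₀ : X) : Function.Bijective (cosetToOrb h x₀) := by
  classical
  constructor
  · intro a b
    induction a using QuotientGroup.induction_on with
    | H σ =>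
    induction b using QuotientGroup.induction_on with
    | H τ =>
    intro hab
    rw [cosetToOrb_mk, cosetToOrb_mk, mk_eq_iff] at hab
    obtain ⟨s, hs⟩ := hab
    rw [QuotientGroup.eq]
    refine ⟨s, ?_⟩
    show (σ⁻¹ : rAut r).1 ((τ : Equiv.Perm X) x₀) = r x₀ s
    rw [hs, rAut_apply]
    simp
  · intro i
    refine ⟨QuotientGroup.mk (permOfOrb h (Equiv.swap (Quotient.mk (rSetoid h) x₀) i)), ?_⟩
    rw [cosetToOrb_mk, mk_permOfOrb, Equiv.swap_apply_left]

theorem index_orbStab (h : IsBiset l r) (x₀ : X) : (orbStab h x₀).index = Nat.card (ROrb h) := by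
  rw [Subgroup.index_eq_card]
  exact Nat.card_congr (Equiv.ofBijective _ (cosetToOrb_bijective h x₀))

theorem card_eq_index_mul (h : IsBiset l r) (x₀ : X) : Nat.card X = (orbStab h x₀).index * Nat.card T := by
  rw [index_orbStab, card_eq h]

/-! ### The transfer -/

section transfer

variable [Finite X]

/-- the transfer of the biset into the abelianization of `T` -/
noncomputable def V (h : IsBiset l r) (x₀ : X) : T →* Abelianization T :=
  (MonoidHom.transfer ((Abelianization.of).comp (phi h x₀))).comp (lam h)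

theorem V_apply (h : IsBiset l r) (x₀ : X) (a : T) :
    V h x₀ a = MonoidHom.transfer ((Abelianization.of).comp (phi h x₀)) (lam h a) := rfl

/-- the transfer is stable under right-equivariant twists -/
theorem V_eq_of_conj (h : IsBiset l r) (x₀ : X) (σ : Equiv.Perm X) (hσ : ∀ x s, σ (r x s) = r (σ x) s)
    (u v : T) (huv : ∀ x, σ (l u x) = l v (σ x)) : V h x₀ v = V h x₀ u := by
  have h1 : lam h v = (⟨σ, hσ⟩ : rAut r) * lam h u * (⟨σ, hσ⟩ : rAut r)⁻¹ := by
    apply Subtype.ext
    ext x
    show l v x = σ (l u (σ⁻¹ x))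
    rw [huv]
    simp
  rw [V_apply, V_apply, h1, map_mul, map_mul, map_inv, mul_comm, inv_mul_cancel_left]

/-- the transfer of an element all of whose powers have only trivially twisted fixed points -/
theorem V_eq_pow (h : IsBiset l r) (x₀ : X) (z : T)
    (hz : ∀ (k : ℕ) (x : X) (b : T), l (z ^ k) x = r x b → b = z ^ k) :
    V h x₀ z = (Abelianization.of z) ^ (orbStab h x₀).index := by
  classical
  have : Fintype (Quotient (orbitRel (zpowers (lam h z)) (rAut r ⧸ orbStab h x₀))) := Fintype.ofFinite _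
  rw [V_apply, MonoidHom.transfer_eq_prod_quotient_orbitRel_zpowers_quot,
    Subgroup.index_eq_sum_minimalPeriod (orbStab h x₀) (lam h z), ← Finset.prod_pow_eq_pow_sum]
  refine Finset.prod_congr rfl fun q _ => ?_
  rw [MonoidHom.comp_apply, ← map_pow (Abelianization.of (G := T)) z]
  congr 1
  apply phi_eq_of
  obtain ⟨b, hb⟩ := QuotientGroup.out_conj_pow_minimalPeriod_mem (orbStab h x₀) (lam h z) q.out
  have hb' : l (z ^ Function.minimalPeriod (fun x => lam h z • x) q.out)
      ((q.out.out : Equiv.Perm X) x₀) = r ((q.out.out : Equiv.Perm X) x₀) b := by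
    rw [← rAut_apply (r := r) q.out.out, ← hb]
    simp [← map_pow]
  rw [hz _ _ _ hb'] at hb
  exact hb

end transfer

end Cfsg.Agent.Lib.Helper84_BisetTransfer
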