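import Cfsg.Agent.Lib.Helper84_TraceSplit
import Cfsg.Agent.Lib.Helper84_ModelBiset
import Cfsg.Agent.Lib.Helper84_KLBasic
import Cfsg.Agent.Lib.Helper72_FusWC5
import Cfsg.Agent.Lib.Helper84_FusionRS
import Cfsg.Agent.S5098

/-!
# The centre of a normalizer system as a direct factor of `Z(S)` (helper84)

Let `F` be saturated over `S` and `J ⊴ S` with `Z(S) ≤ J`. The subgroup of `Z(S)` fixed by `Aut_F(J)` is central in the
normalizer system of `J`, contains `Z(F)`, and is a direct factor of `Z(S)`.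
-/

set_option autoImplicit false

universe u

namespace Cfsg.Agent.Lib.Helper84_CenterFactor

open Cfsg Cfsg.FusionSystem Cfsg.Agent.Lib Cfsg.Agent.Lib.Helper87_Alperin Cfsg.Agent.Lib.Helper87_Alperin2
  Cfsg.Agent.Lib.Helper87_PInner Cfsg.Agent.Lib.Helper84_KLBasic Cfsg.Agent.Lib.Helper84_TraceSplit

variable {Ω : Type u} [Group Ω] {S : Subgroup Ω}

/-- the action of `Aut_F(J)` on `Z(J)` -/
def rho (F : FusionSystem S) (J : Subgroup Ω) : ↥(F.autGroup J) →* MulAut (Subgroup.center J) :=
  (Helper84_ModelBiset.Setup.centerAut J).comp (F.autGroup J).subtype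

/-- the inclusion of `Z(J)` -/
def iota (J : Subgroup Ω) : Subgroup.center J →* Ω := J.subtype.comp (Subgroup.center J).subtype

theorem iota_injective (J : Subgroup Ω) : Function.Injective (iota J) := fun _ _ h =>
  Subtype.ext (Subtype.ext h)

theorem rho_apply (F : FusionSystem S) (J : Subgroup Ω) (a : F.autGroup J) (v : Subgroup.center J) :
    iota J (rho F J a v) = extFun (a : MulAut J) (iota J v) := by
  have h1 : iota J v = ((v : J) : Ω) := rfl
  rw [h1, extFun_coe]
  rfl

/-- a subgroup of `S` normalized by `S` is fully normalized -/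
theorem isFullyNormalized_of_le_normalizer [Finite S] (F : FusionSystem S) {J : Subgroup Ω} (hJS : J ≤ S)
    (hJn : S ≤ Subgroup.normalizer (J : Set Ω)) : F.IsFullyNormalized J := by
  refine ⟨hJS, fun Q _ => ?_⟩
  have h1 : normalizerIn S J = S := le_antisymm inf_le_left (le_inf le_rfl hJn)
  rw [h1]
  have : Finite (normalizerIn S Q) := Helper84_FusionRS.finite_of_le_S inf_le_left
  exact Nat.card_le_card_of_injective (Subgroup.inclusion (inf_le_left : normalizerIn S Q ≤ S))
    (Subgroup.inclusion_injective _)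

open scoped IsMulCommutative in
/-- **Direct factor.** If `Z(N_F(J)) ≤ Z(F)` for some `J ⊴ S` containing `Z(S)`, then `Z(F)` is a direct factor
of `Z(S)`. -/
theorem exists_complement [Finite S] {p : ℕ} [Fact p.Prime] (hS : IsPGroup p S) (F : FusionSystem S)
    (hF : F.IsSaturated p) {J : Subgroup Ω} (hJS : J ≤ S) (hJn : S ≤ Subgroup.normalizer (J : Set Ω))
    (hZJ : S ⊓ Subgroup.centralizer (S : Set Ω) ≤ J)
    (N : FusionSystem (normalizerIn S J)) (hN : F.IsNormalizerSystem J N) (hcen : N.center ≤ F.center) :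
    ∃ K : Subgroup Ω, K ≤ S ⊓ Subgroup.centralizer (S : Set Ω) ∧ F.center ⊓ K = ⊥ ∧
      F.center ⊔ K = S ⊓ Subgroup.centralizer (S : Set Ω) := by
  classical
  have hJfin : Finite J := Helper84_FusionRS.finite_of_le_S hJS
  have hJfn : F.IsFullyNormalized J := isFullyNormalized_of_le_normalizer F hJS hJn
  obtain ⟨-, R, hR⟩ := Helper84_FusionRS.IsSaturated.isFullyAutomized hS hF hJfn
  set T : Subgroup ↥(F.autGroup J) := (autInducedBy S J).subgroupOf (F.autGroup J) with hT
  have hidx : ¬ p ∣ T.index := by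
    rw [← hR]
    exact R.not_dvd_index
  have hV : IsPGroup p (Subgroup.center J) := by
    have h1 : IsPGroup p J := hS.of_injective (Subgroup.inclusion hJS) (Subgroup.inclusion_injective hJS)
    exact h1.of_injective (Subgroup.center J).subtype (Subgroup.subtype_injective _)
  obtain ⟨K₀, hK₀T, hinf, hsup⟩ := Helper84_TraceSplit.exists_complement (rho F J) T p hidx hV
  have hNsat : N.IsSaturated p := Cfsg.Agent.S5098.result p hS F hF J hJfn N hN
  have hcS : F.center ≤ S ⊓ Subgroup.centralizer (S : Set Ω) :=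
    le_inf (Helper85_Fusion.isCentral_center F).1 (Cfsg.FusionSystem.center_le_centralizer F)
  -- the element of `Z(J)` given by an element of `Z(S)`
  have hmk : ∀ z ∈ S ⊓ Subgroup.centralizer (S : Set Ω), ∃ v : Subgroup.center J, iota J v = z := by
    intro z hz
    have hzJ : z ∈ J := hZJ hz
    refine ⟨⟨⟨z, hzJ⟩, ?_⟩, rfl⟩
    rw [Subgroup.mem_center_iff]
    intro g
    apply Subtype.ext
    exact (Subgroup.mem_centralizer_iff.1 hz.2) g (hJS g.2)
  -- fixed points of `Aut_S(J)`
  have hFixT : (fixedBy (rho F J) T).map (iota J) = S ⊓ Subgroup.centralizer (S : Set Ω) := by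
    ext z
    constructor
    · rintro ⟨v, hv, rfl⟩
      have hvJ : iota J v ∈ J := (v : J).2
      refine ⟨hJS hvJ, ?_⟩
      show iota J v ∈ Subgroup.centralizer (S : Set Ω)
      rw [Subgroup.mem_centralizer_iff]
      intro s hs
      have hself : ∀ x ∈ J, s * x * s⁻¹ ∈ J := fun x hx =>
        (Subgroup.mem_normalizer_iff.1 (hJn hs) x).1 hx
      obtain ⟨α, hα, hαf⟩ := exists_aut_of_isMapOn (IsMapOn.conj F hJS hs) hself
      have hαT : (⟨α, hα⟩ : F.autGroup J) ∈ T := by
        rw [hT, Subgroup.mem_subgroupOf]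
        refine (mem_autInducedBy_iff S J α).2 ⟨s, hs, fun x => ?_⟩
        rw [← extFun_coe α x]
        exact hαf x x.2
      have h1 := hv _ hαT
      have h2 := rho_apply F J ⟨α, hα⟩ v
      rw [h1] at h2
      have h3 : iota J v = s * iota J v * s⁻¹ := h2.trans (hαf _ hvJ)
      calc s * iota J v = (s * iota J v * s⁻¹) * s := by group
        _ = iota J v * s := by rw [← h3]
    · intro hz
      obtain ⟨v, rfl⟩ := hmk z hz
      refine ⟨v, fun t ht => ?_, rfl⟩
      apply iota_injective J
      rw [rho_apply]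
      rw [hT, Subgroup.mem_subgroupOf] at ht
      obtain ⟨g, hg, hgt⟩ := (mem_autInducedBy_iff S J _).1 ht
      have h1 : iota J v = ((v : J) : Ω) := rfl
      rw [h1, extFun_coe, hgt]
      have h2 := (Subgroup.mem_centralizer_iff.1 hz.2) g hg
      rw [h1] at h2
      rw [h2, mul_inv_cancel_right]
  -- fixed points of `Aut_F(J)`
  have hFixA : (fixedBy (rho F J) ⊤).map (iota J) = F.center := by
    apply le_antisymm
    · refine le_trans ?_ hcen
      have hZ'N : (fixedBy (rho F J) ⊤).map (iota J) ≤ normalizerIn S J := by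
        rintro _ ⟨v, -, rfl⟩
        have hvJ : iota J v ∈ J := (v : J).2
        exact ⟨hJS hvJ, Subgroup.le_normalizer hvJ⟩
      have hfinN : Finite (normalizerIn S J) := Helper84_FusionRS.finite_of_le_S inf_le_left
      refine le_sSup (Helper72_FusWC.isCentral_of_fixes N hNsat hZ'N ?_)
      rintro P f hf x hxP ⟨w, hw, rfl⟩
      obtain ⟨-, -, -, g, hg, hgP, hgJ⟩ := (Helper87_GTMain.isMapOn_normalizerSystem_iff hN P f).1 hf
      have hwJ : iota J w ∈ J := (w : J).2
      have hself : ∀ y ∈ J, g y ∈ J := fun y hy => (hgJ (g y)).2 ⟨y, hy, rfl⟩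
      obtain ⟨α, hα, hαf⟩ := exists_aut_of_isMapOn (hg.mono le_sup_right) hself
      have h1 := hw ⟨α, hα⟩ (Subgroup.mem_top _)
      have h2 := rho_apply F J ⟨α, hα⟩ w
      rw [h1] at h2
      rw [← hgP _ hxP, ← hαf _ hwJ]
      exact h2.symm
    · intro z hz
      obtain ⟨v, rfl⟩ := hmk z (hcS hz)
      refine ⟨v, fun a _ => ?_, rfl⟩
      apply iota_injective J
      rw [rho_apply]
      have hmap : IsMapOn F J (extFun (a : MulAut J)) := (mem_autGroup_iff F hJS a.1).1 a.2
      obtain ⟨g, -, hgJ, hgZ⟩ := Helper72_FusWC.IsCentral.exists_fun (Helper85_Fusion.isCentral_center F) hmap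
      have hvJ : iota J v ∈ J := (v : J).2
      rw [← hgJ _ hvJ]
      exact hgZ _ hz
  refine ⟨K₀.map (iota J), ?_, ?_, ?_⟩
  · rw [← hFixT]
    exact Subgroup.map_mono hK₀T
  · rw [← hFixA, ← Subgroup.map_inf _ _ (iota J) (iota_injective J), hinf, Subgroup.map_bot]
  · rw [← hFixA, ← Subgroup.map_sup, hsup, hFixT]

end Cfsg.Agent.Lib.Helper84_CenterFactor
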