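import Mathlib

/-!
# S3716 package LOCA (market `d72_packages`, architect helper62), by helper84.

A faithful dihedral group `⟨ρ, σ⟩` of order 8 of automorphisms of an elementary abelian group `A`
of order 9 is monomial: `ρ²` is the inversion and there is a basis `x, y` with `σ x = x`,
`σ y = y⁻¹`, `ρσ` swapping `x` and `y`.
-/

set_option autoImplicit false
set_option linter.unusedVariables false

namespace Cfsg.Agent.Lib.Helper84_D72_LOCA

/-- if `σ` inverts `x ≠ 1` and fixes `y ≠ 1` then `A = ⟨x⟩ × ⟨y⟩` -/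
theorem param {A : Type*} [CommGroup A] (hcard : Nat.card A = 9) (hexp : ∀ a : A, a ^ 3 = 1)
    (σ : MulAut A) (x y : A) (hx1 : x ≠ 1) (hy1 : y ≠ 1) (hσx : σ x = x⁻¹) (hσy : σ y = y) :
    ∀ t : A, ∃ i j : ℕ, i < 3 ∧ j < 3 ∧ t = x ^ i * y ^ j := by
  have : Finite A := Nat.finite_of_card_ne_zero (by rw [hcard]; norm_num)
  have hx3 : x ^ 3 = 1 := hexp x
  have hy3 : y ^ 3 = 1 := hexp y
  have hσpow : ∀ i j : ℕ, σ (x ^ i * y ^ j) = (x⁻¹) ^ i * y ^ j := by
    intro i j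
    rw [map_mul, map_pow, map_pow, hσx, hσy]
  obtain ⟨f, hf⟩ : ∃ f : Fin 3 × Fin 3 → A, f = fun p => x ^ p.1.val * y ^ p.2.val := ⟨_, rfl⟩
  have hinj : Function.Injective f := by
    rintro ⟨i, j⟩ ⟨i', j'⟩ h
    rw [hf] at h
    simp only at h
    have key : ∀ (i j i' j' : ℕ), i < 3 → j < 3 → i' < 3 → j' < 3 →
        x ^ i * y ^ j = x ^ i' * y ^ j' → i = i' ∧ j = j' := by
      intro i j i' j' hi hj hi' hj' h
      have h1 := congrArg σ h
      rw [hσpow, hσpow] at h1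
      have h2 : x ^ (2 * i) = x ^ (2 * i') := by
        have e1 : x ^ (2 * i) = (x ^ i * y ^ j) * ((x⁻¹) ^ i * y ^ j)⁻¹ := by
          rw [two_mul, pow_add, inv_pow]; group
        have e2 : x ^ (2 * i') = (x ^ i' * y ^ j') * ((x⁻¹) ^ i' * y ^ j')⁻¹ := by
          rw [two_mul, pow_add, inv_pow]; group
        rw [e1, e2, h, h1]
      have hxo : orderOf x = 3 := orderOf_eq_prime hx3 hx1
      have hyo : orderOf y = 3 := orderOf_eq_prime hy3 hy1
      have h3 := (pow_inj_mod).mp h2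
      rw [hxo] at h3
      have hii : i = i' := by omega
      subst hii
      have h4 : y ^ j = y ^ j' := mul_left_cancel h
      have h5 := (pow_inj_mod).mp h4
      rw [hyo] at h5
      exact ⟨rfl, by omega⟩
    obtain ⟨h1, h2⟩ := key i.val j.val i'.val j'.val i.2 j.2 i'.2 j'.2 h
    exact Prod.ext (Fin.ext h1) (Fin.ext h2)
  have hbij : Function.Bijective f :=
    hinj.bijective_of_nat_card_le (by rw [hcard]; simp)
  intro t
  obtain ⟨⟨i, j⟩, hij⟩ := hbij.2 t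
  refine ⟨i.val, j.val, i.2, j.2, ?_⟩
  rw [← hij, hf]

/-- an involutory automorphism without nontrivial fixed points is the inversion -/
theorem inv_of_no_fix {A : Type*} [CommGroup A] (τ : MulAut A) (hττ : ∀ a : A, τ (τ a) = a)
    (hfix : ∀ y : A, τ y = y → y = 1) : ∀ a : A, τ a = a⁻¹ := by
  intro a
  have h1 : τ (a * τ a) = a * τ a := by rw [map_mul, hττ, mul_comm]
  exact (eq_inv_of_mul_eq_one_right (hfix _ h1))

/-- in a group of exponent 3, `x = x⁻¹` forces `x = 1` -/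
theorem eq_one_of_eq_inv {A : Type*} [CommGroup A] (hexp : ∀ a : A, a ^ 3 = 1) {x : A}
    (h : x = x⁻¹) : x = 1 := by
  have h2 : x * x = 1 := by
    calc x * x = x * x⁻¹ := by rw [← h]
      _ = 1 := mul_inv_cancel x
  have h3 := hexp x
  rw [pow_succ, pow_two, h2, one_mul] at h3
  exact h3

/-- **LOCA**. -/
theorem diag8 {A : Type*} [CommGroup A] (hcard : Nat.card A = 9) (hexp : ∀ a : A, a ^ 3 = 1)
    (ρ σ : MulAut A) (hρ4 : ρ ^ 4 = 1) (hρ2 : ρ ^ 2 ≠ 1) (hσ2 : σ ^ 2 = 1) (hσ1 : σ ≠ 1)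
    (hrel : σ * ρ * σ⁻¹ = ρ⁻¹) :
    ∃ x y : A, x ≠ 1 ∧ y ≠ 1 ∧ y ≠ x ∧ y ≠ x⁻¹ ∧
      σ x = x ∧ σ y = y⁻¹ ∧ (ρ * σ) x = y ∧ (ρ * σ) y = x ∧ (∀ a : A, (ρ ^ 2) a = a⁻¹) ∧
      (∀ t : A, t = 1 ∨ t = x ∨ t = x⁻¹ ∨ t = y ∨ t = y⁻¹ ∨
        t = x * y ∨ t = x * y⁻¹ ∨ t = x⁻¹ * y ∨ t = x⁻¹ * y⁻¹) := by
  have hz : ∀ a : A, (ρ ^ 2) a = ρ (ρ a) := fun a => by
    rw [pow_two, MulAut.mul_apply]
  have hρρρρ : ∀ a : A, ρ (ρ (ρ (ρ a))) = a := fun a => by
    have := congrArg (fun f : MulAut A => f a) hρ4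
    simpa [pow_succ, MulAut.mul_apply] using this
  have hσσ : ∀ a : A, σ (σ a) = a := fun a => by
    have := congrArg (fun f : MulAut A => f a) hσ2
    simpa [pow_two, MulAut.mul_apply] using this
  have hσinv : ∀ a : A, σ⁻¹ a = σ a := fun a => by
    rw [MulAut.inv_apply, MulEquiv.symm_apply_eq, hσσ]
  have hrel' : ∀ a : A, σ (ρ (σ a)) = ρ⁻¹ a := fun a => by
    have := congrArg (fun f : MulAut A => f a) hrel
    simpa [MulAut.mul_apply, hσinv] using this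
  have hρinv : ∀ a : A, ρ⁻¹ a = ρ (ρ (ρ a)) := fun a => by
    rw [MulAut.inv_apply, MulEquiv.symm_apply_eq, hρρρρ]
  -- Step 1: `ρ²` is the inversion
  have hzinv : ∀ a : A, ρ (ρ a) = a⁻¹ := by
    by_contra hcon
    obtain ⟨y, hy, hy1⟩ : ∃ y : A, ρ (ρ y) = y ∧ y ≠ 1 := by
      by_contra hno
      push Not at hno
      apply hcon
      have := inv_of_no_fix (ρ ^ 2) (fun a => by rw [hz, hz, hρρρρ])
        (fun y hy => hno y (by rw [← hz]; exact hy))
      intro a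
      rw [← hz]; exact this a
    obtain ⟨a, ha⟩ : ∃ a : A, ρ (ρ a) ≠ a := by
      by_contra hno
      push Not at hno
      apply hρ2
      ext a
      rw [hz, hno]; rfl
    obtain ⟨x, hxdef⟩ : ∃ x : A, x = a * (ρ (ρ a))⁻¹ := ⟨_, rfl⟩
    have hx1 : x ≠ 1 := by
      rw [hxdef]
      intro h
      apply ha
      rw [mul_inv_eq_one] at h
      exact h.symm
    have hzx : ρ (ρ x) = x⁻¹ := by
      rw [hxdef, map_mul, map_mul, map_inv, map_inv, hρρρρ]
      simp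
    have hpar := param hcard hexp (ρ ^ 2) x y hx1 hy1 (by rw [hz]; exact hzx) (by rw [hz]; exact hy)
    obtain ⟨i, j, hi, hj, hij⟩ := hpar (ρ x)
    -- `ρ x` is inverted by `ρ²`
    have h1 : ρ (ρ (ρ x)) = (ρ x)⁻¹ := by rw [hzx, map_inv]
    have hy3 : y ^ 3 = 1 := hexp y
    have hx3 : x ^ 3 = 1 := hexp x
    have h2 : ρ (ρ (x ^ i * y ^ j)) = (x⁻¹) ^ i * y ^ j := by
      rw [map_mul, map_mul, map_pow, map_pow, map_pow, map_pow, hzx, hy]
    rw [hij, h2] at h1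
    have h3 : y ^ j * y ^ j = 1 := by
      have h4 : (x⁻¹) ^ i * y ^ j * (x ^ i * y ^ j) = 1 := by rw [h1]; simp
      rw [mul_mul_mul_comm, inv_pow, inv_mul_cancel, one_mul] at h4
      exact h4
    have hyj : y ^ j = 1 := by
      apply eq_one_of_eq_inv hexp
      exact eq_inv_of_mul_eq_one_left h3
    rw [hyj, mul_one] at hij
    -- so `ρ x = x ^ i`, and `ρ (ρ x) = x ^ (i * i) = x`
    have h5 : ρ (ρ x) = x ^ (i * i) := by
      rw [hij, map_pow, hij, ← pow_mul]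
    have h6 : x ^ (i * i) = x := by
      interval_cases i
      · exfalso
        rw [pow_zero] at hij
        apply hx1
        have : ρ x = ρ 1 := by rw [hij, map_one]
        exact ρ.injective this
      · simp
      · show x ^ 4 = x
        rw [pow_succ, hx3, one_mul]
    rw [h6] at h5
    rw [hzx] at h5
    exact hx1 (eq_one_of_eq_inv hexp h5.symm)
  -- Step 2: `σ` has a nontrivial fixed point
  obtain ⟨x, hσx, hx1⟩ : ∃ x : A, σ x = x ∧ x ≠ 1 := by
    by_contra hno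
    push Not at hno
    have hσi := inv_of_no_fix σ hσσ hno
    apply hρ2
    ext a
    rw [hz]
    -- `ρ a = ρ⁻¹ a`
    have h1 := hrel' a
    rw [hσi (ρ (σ a)), ← map_inv, hσi a, inv_inv, hρinv] at h1
    have h2 := congrArg ρ h1
    rw [hρρρρ] at h2
    rw [h2]; rfl
  have hρix : ρ⁻¹ x = (ρ x)⁻¹ := by
    rw [hρinv, hzinv]
  have hy1 : ρ x ≠ 1 := by
    intro h
    apply hx1
    have : ρ x = ρ 1 := by rw [h, map_one]
    exact ρ.injective this
  have hσy : σ (ρ x) = (ρ x)⁻¹ := by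
    have := hrel' x
    rw [hσx, hρix] at this
    exact this
  have hyx : ρ x ≠ x := by
    intro h
    rw [h, hσx] at hσy
    exact hx1 (eq_one_of_eq_inv hexp hσy)
  have hyx' : ρ x ≠ x⁻¹ := by
    intro h
    rw [h, map_inv, hσx, inv_inv] at hσy
    exact hx1 (eq_one_of_eq_inv hexp hσy.symm)
  refine ⟨x, ρ x, hx1, hy1, hyx, hyx', hσx, hσy, ?_, ?_, ?_, ?_⟩
  · rw [MulAut.mul_apply, hσx]
  · rw [MulAut.mul_apply, hσy, map_inv, hzinv, inv_inv]
  · intro a
    rw [hz, hzinv]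
  · intro t
    obtain ⟨i, j, hi, hj, rfl⟩ := param hcard hexp σ (ρ x) x hy1 hx1 hσy hσx t
    have hx3 : x ^ 3 = 1 := hexp x
    have hy3 : (ρ x) ^ 3 = 1 := hexp (ρ x)
    have hxinv : x⁻¹ = x ^ 2 := by
      rw [inv_eq_iff_mul_eq_one, ← pow_succ']; exact hx3
    have hyinv : (ρ x)⁻¹ = (ρ x) ^ 2 := by
      rw [inv_eq_iff_mul_eq_one, ← pow_succ']; exact hy3
    rw [hxinv, hyinv]
    interval_cases i <;> interval_cases j <;> simp [mul_comm]

end Cfsg.Agent.Lib.Helper84_D72_LOCA
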