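import Mathlib
import Cfsg.Prelude.Def_Characters
import Cfsg.Agent.Lib.Helper80_CharBasic
import Cfsg.Agent.Lib.Helper62_D72Defs
import Cfsg.Agent.Lib.Helper48_D72_LOCCARD
import Cfsg.Agent.Lib.Helper84_D72_LOCA

/-!
# S3716 package LOC (market `d72_packages`, architect helper62), by helper84.

The local analysis: from the hypotheses of S3716 build the configuration `Hyp G M x y s w`
(`N_G(M) = M ⟨s, w⟩ ≅ S₃ ≀ 2`).  Uses LOCA (`Helper84_D72_LOCA.diag8`) and LOCCARD.
-/

set_option autoImplicit false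
set_option linter.unusedVariables false
set_option linter.unusedSectionVars false

namespace Cfsg.Agent.Lib.Helper84_D72_LOC

open Cfsg Cfsg.Agent.Lib.Helper80_CharBasic Cfsg.Agent.Lib.Helper62_D72Defs

section mono
variable {A : Type*} [CommGroup A]

/-- an automorphism which is monomial with respect to `x, y` -/
def Mono (x y : A) (α : MulAut A) : Prop :=
  ((α x = x ∨ α x = x⁻¹) ∧ (α y = y ∨ α y = y⁻¹)) ∨
  ((α x = y ∨ α x = y⁻¹) ∧ (α y = x ∨ α y = x⁻¹))

theorem mono_one (x y : A) : Mono x y 1 := Or.inl ⟨Or.inl rfl, Or.inl rfl⟩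

theorem mono_mul {x y : A} {α β : MulAut A} (ha : Mono x y α) (hb : Mono x y β) :
    Mono x y (α * β) := by
  unfold Mono at *
  simp only [MulAut.mul_apply]
  rcases hb with ⟨h1 | h1, h2 | h2⟩ | ⟨h1 | h1, h2 | h2⟩ <;>
    rcases ha with ⟨h3 | h3, h4 | h4⟩ | ⟨h3 | h3, h4 | h4⟩ <;>
    simp [h1, h2, h3, h4, map_inv]

theorem mono_pow {x y : A} {α : MulAut A} (ha : Mono x y α) (k : ℕ) : Mono x y (α ^ k) := by
  induction k with
  | zero => rw [pow_zero]; exact mono_one x y
  | succ k ih => rw [pow_succ]; exact mono_mul ih ha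

end mono

section grp
variable {G : Type*} [Group G] [Finite G]

/-- **LOC**. -/
theorem exists_hyp (M : Sylow 3 G) (hM9 : Nat.card ↥(M : Subgroup G) = 9)
    (hMel : ∀ m ∈ (M : Subgroup G), m ^ 3 = 1)
    (hCM : Subgroup.centralizer ((M : Subgroup G) : Set G) = (M : Subgroup G))
    (N : Subgroup G) (hN : N = Subgroup.normalizer ((M : Subgroup G) : Set G))
    (hCg : ∀ g ∈ (M : Subgroup G), g ≠ 1 → Subgroup.centralizer ({g} : Set G) ≤ N)
    (hS : ∀ S : Sylow 2 ↥N, Nonempty (↥(S : Subgroup ↥N) ≃* DihedralGroup 4)) :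
    ∃ x y s w : G, Hyp G (M : Subgroup G) x y s w := by
  classical
  have h72 := Cfsg.Agent.Lib.Helper48_D72_LOCCARD.card_normalizer M hM9 hMel hCM N hN hS
  subst hN
  obtain ⟨T, hT⟩ : ∃ T : Subgroup G, T = (M : Subgroup G) := ⟨_, rfl⟩
  rw [← hT] at hM9 hMel hCM hCg hS h72 ⊢
  have hker : ∀ n : Subgroup.normalizer (T : Set G),
      T.normalizerMonoidHom n = 1 ↔ (n : G) ∈ T := by
    intro n
    rw [← MonoidHom.mem_ker, Subgroup.normalizerMonoidHom_ker, hCM, Subgroup.mem_subgroupOf]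
  have hact : ∀ (n : Subgroup.normalizer (T : Set G)) (t : ↥T),
      ((T.normalizerMonoidHom n) t : G) = n * t * (n : G)⁻¹ := fun n t => rfl
  obtain ⟨S⟩ : Nonempty (Sylow 2 ↥(Subgroup.normalizer (T : Set G))) := inferInstance
  obtain ⟨e⟩ := hS S
  -- `φ` is injective on `S`
  have hinjS : ∀ u : ↥(S : Subgroup ↥(Subgroup.normalizer (T : Set G))),
      T.normalizerMonoidHom (u : ↥(Subgroup.normalizer (T : Set G))) = 1 → u = 1 := by
    intro u hu
    rw [hker] at hu
    have h3 : ((u : ↥(Subgroup.normalizer (T : Set G))) : G) ^ 3 = 1 := hMel _ hu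
    have h3' : u ^ 3 = 1 := by
      apply Subtype.ext; apply Subtype.ext
      simpa using h3
    obtain ⟨k, hk⟩ := S.isPGroup' u
    have hd1 : orderOf u ∣ 3 := orderOf_dvd_of_pow_eq_one h3'
    have hd2 : orderOf u ∣ 2 ^ k := orderOf_dvd_of_pow_eq_one hk
    have hco : Nat.Coprime 3 (2 ^ k) := Nat.Coprime.pow_right k (by norm_num)
    have h1 : orderOf u = 1 := (Nat.Coprime.coprime_dvd_left hd1 hco).eq_one_of_dvd hd2
    exact orderOf_eq_one_iff.mp h1
  -- the homomorphism `D8 → Aut M`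
  obtain ⟨ψ, hψ⟩ : ∃ ψ : DihedralGroup 4 →* MulAut ↥T,
      ψ = T.normalizerMonoidHom.comp
        ((S : Subgroup ↥(Subgroup.normalizer (T : Set G))).subtype.comp e.symm.toMonoidHom) :=
    ⟨_, rfl⟩
  have hψapp : ∀ d : DihedralGroup 4, ψ d =
      T.normalizerMonoidHom ((e.symm d : ↥(S : Subgroup ↥(Subgroup.normalizer (T : Set G)))) :
        ↥(Subgroup.normalizer (T : Set G))) := by
    intro d; rw [hψ]; rfl
  have hψinj : ∀ d : DihedralGroup 4, ψ d = 1 → d = 1 := by
    intro d hd
    rw [hψapp] at hd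
    have := hinjS _ hd
    rwa [map_eq_one_iff _ e.symm.injective] at this
  -- relations
  have hρ4 : ψ (DihedralGroup.r 1) ^ 4 = 1 := by
    rw [← map_pow]
    have : (DihedralGroup.r 1 : DihedralGroup 4) ^ 4 = 1 := by decide
    rw [this, map_one]
  have hρ2 : ψ (DihedralGroup.r 1) ^ 2 ≠ 1 := by
    rw [← map_pow]
    intro h
    have := hψinj _ h
    revert this
    decide
  have hσ2 : ψ (DihedralGroup.sr 0) ^ 2 = 1 := by
    rw [← map_pow]
    have : (DihedralGroup.sr 0 : DihedralGroup 4) ^ 2 = 1 := by decide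
    rw [this, map_one]
  have hσ1 : ψ (DihedralGroup.sr 0) ≠ 1 := by
    intro h
    have := hψinj _ h
    revert this
    decide
  have hrel : ψ (DihedralGroup.sr 0) * ψ (DihedralGroup.r 1) * (ψ (DihedralGroup.sr 0))⁻¹ =
      (ψ (DihedralGroup.r 1))⁻¹ := by
    rw [← map_inv, ← map_inv, ← map_mul, ← map_mul]
    have : (DihedralGroup.sr 0 : DihedralGroup 4) * DihedralGroup.r 1 * (DihedralGroup.sr 0)⁻¹ =
        (DihedralGroup.r 1)⁻¹ := by decide
    rw [this]
  -- the commutative group structure on `M`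
  have hcommT : ∀ a b : ↥T, a * b = b * a := by
    intro a b
    have hb : (b : G) ∈ Subgroup.centralizer (T : Set G) := by rw [hCM]; exact b.2
    have := hb a a.2
    exact Subtype.ext this
  let _ : CommGroup ↥T := { (inferInstance : Group ↥T) with mul_comm := hcommT }
  have hexpT : ∀ t : ↥T, t ^ 3 = 1 := by
    intro t
    apply Subtype.ext
    rw [Subgroup.coe_pow, Subgroup.coe_one]
    exact hMel t t.2
  obtain ⟨x', y', hx1, hy1, hyx, hyx', hσx, hσy, hwx, hwy, hinv, hall⟩ :=
    Cfsg.Agent.Lib.Helper84_D72_LOCA.diag8 (A := ↥T) hM9 hexpT (ψ (DihedralGroup.r 1))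
      (ψ (DihedralGroup.sr 0)) hρ4 hρ2 hσ2 hσ1 hrel
  -- the elements `s`, `w`
  obtain ⟨s₀, hs₀⟩ : ∃ s₀ : ↥(Subgroup.normalizer (T : Set G)),
      s₀ = ((e.symm (DihedralGroup.sr 0) : ↥(S : Subgroup ↥(Subgroup.normalizer (T : Set G)))) :
        ↥(Subgroup.normalizer (T : Set G))) := ⟨_, rfl⟩
  obtain ⟨w₀, hw₀⟩ : ∃ w₀ : ↥(Subgroup.normalizer (T : Set G)),
      w₀ = ((e.symm (DihedralGroup.r 1 * DihedralGroup.sr 0) :
        ↥(S : Subgroup ↥(Subgroup.normalizer (T : Set G)))) :
        ↥(Subgroup.normalizer (T : Set G))) := ⟨_, rfl⟩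
  have hφs : T.normalizerMonoidHom s₀ = ψ (DihedralGroup.sr 0) := by rw [hs₀, hψapp]
  have hφw : T.normalizerMonoidHom w₀ = ψ (DihedralGroup.r 1) * ψ (DihedralGroup.sr 0) := by
    rw [hw₀, ← map_mul, hψapp]
  have hx3 : (x' : G) ^ 3 = 1 := hMel _ x'.2
  have hy3 : (y' : G) ^ 3 = 1 := hMel _ y'.2
  have hx1' : (x' : G) ≠ 1 := fun h => hx1 (Subtype.ext h)
  have hy1' : (y' : G) ≠ 1 := fun h => hy1 (Subtype.ext h)
  have hs2 : (s₀ : G) ^ 2 = 1 := by
    have h1 : (e.symm (DihedralGroup.sr 0) : ↥(S : Subgroup ↥(Subgroup.normalizer (T : Set G)))) ^ 2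
        = 1 := by
      rw [← map_pow]
      have : (DihedralGroup.sr 0 : DihedralGroup 4) ^ 2 = 1 := by decide
      rw [this, map_one]
    have h2 := congrArg (fun u : ↥(S : Subgroup ↥(Subgroup.normalizer (T : Set G))) =>
      ((u : ↥(Subgroup.normalizer (T : Set G))) : G)) h1
    simp only [Subgroup.coe_pow, Subgroup.coe_one] at h2
    rw [hs₀]; exact h2
  have hs1 : (s₀ : G) ≠ 1 := by
    intro h
    have h1 : (e.symm (DihedralGroup.sr 0) : ↥(S : Subgroup ↥(Subgroup.normalizer (T : Set G))))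
        = 1 := by
      apply Subtype.ext; apply Subtype.ext
      rw [hs₀] at h
      simpa using h
    rw [map_eq_one_iff _ e.symm.injective] at h1
    revert h1
    decide
  have hw2 : (w₀ : G) ^ 2 = 1 := by
    have h1 : (e.symm (DihedralGroup.r 1 * DihedralGroup.sr 0) :
        ↥(S : Subgroup ↥(Subgroup.normalizer (T : Set G)))) ^ 2 = 1 := by
      rw [← map_pow]
      have : (DihedralGroup.r 1 * DihedralGroup.sr 0 : DihedralGroup 4) ^ 2 = 1 := by decide
      rw [this, map_one]
    have h2 := congrArg (fun u : ↥(S : Subgroup ↥(Subgroup.normalizer (T : Set G))) =>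
      ((u : ↥(Subgroup.normalizer (T : Set G))) : G)) h1
    simp only [Subgroup.coe_pow, Subgroup.coe_one] at h2
    rw [hw₀]; exact h2
  have hw1 : (w₀ : G) ≠ 1 := by
    intro h
    have h1 : (e.symm (DihedralGroup.r 1 * DihedralGroup.sr 0) :
        ↥(S : Subgroup ↥(Subgroup.normalizer (T : Set G)))) = 1 := by
      apply Subtype.ext; apply Subtype.ext
      rw [hw₀] at h
      simpa using h
    rw [map_eq_one_iff _ e.symm.injective] at h1
    revert h1
    decide
  -- `ρ x = y`, `ρ y = x⁻¹`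
  have hρx : ψ (DihedralGroup.r 1) x' = y' := by
    have := hwx
    rw [MulAut.mul_apply, hσx] at this
    exact this
  have hρy : ψ (DihedralGroup.r 1) y' = x'⁻¹ := by
    have := hwy
    rw [MulAut.mul_apply, hσy, map_inv, inv_eq_iff_eq_inv] at this
    exact this
  have monoρ : Mono x' y' (ψ (DihedralGroup.r 1)) :=
    Or.inr ⟨Or.inl hρx, Or.inr hρy⟩
  have monoσ : Mono x' y' (ψ (DihedralGroup.sr 0)) :=
    Or.inl ⟨Or.inl hσx, Or.inr hσy⟩
  have monoψ : ∀ d : DihedralGroup 4, Mono x' y' (ψ d) := by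
    intro d
    cases d with
    | r i =>
      have : (DihedralGroup.r i : DihedralGroup 4) = (DihedralGroup.r 1) ^ i.val := by
        rw [DihedralGroup.r_one_pow, ZMod.natCast_zmod_val]
      rw [this, map_pow]
      exact mono_pow monoρ _
    | sr i =>
      have : (DihedralGroup.sr i : DihedralGroup 4) =
          DihedralGroup.sr 0 * (DihedralGroup.r 1) ^ i.val := by
        rw [DihedralGroup.r_one_pow, ZMod.natCast_zmod_val, DihedralGroup.sr_mul_r, zero_add]
      rw [this, map_mul, map_pow]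
      exact mono_mul monoσ (mono_pow monoρ _)
  -- `N = M S`
  have hcardS : Nat.card ↥(S : Subgroup ↥(Subgroup.normalizer (T : Set G))) = 8 := by
    rw [Nat.card_congr e.toEquiv, DihedralGroup.nat_card]
  have hcardM : Nat.card ↥(T.subgroupOf (Subgroup.normalizer (T : Set G))) = 9 := by
    rw [Nat.card_congr (Subgroup.subgroupOfEquivOfLe Subgroup.le_normalizer).toEquiv, hM9]
  have hcompl : Subgroup.IsComplement' (T.subgroupOf (Subgroup.normalizer (T : Set G)))
      (S : Subgroup ↥(Subgroup.normalizer (T : Set G))) := by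
    apply Subgroup.isComplement'_of_coprime
    · rw [hcardS, hcardM, h72]
    · rw [hcardS, hcardM]; norm_num
  have monoN : ∀ n : ↥(Subgroup.normalizer (T : Set G)), Mono x' y' (T.normalizerMonoidHom n) := by
    intro n
    obtain ⟨⟨m, u⟩, hmu, -⟩ := Subgroup.IsComplement.existsUnique hcompl n
    simp only at hmu
    have hm1 : T.normalizerMonoidHom (m : ↥(Subgroup.normalizer (T : Set G))) = 1 := by
      rw [hker]; exact Subgroup.mem_subgroupOf.mp m.2
    have hu : T.normalizerMonoidHom (u : ↥(Subgroup.normalizer (T : Set G))) = ψ (e u) := by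
      rw [hψapp, MulEquiv.symm_apply_apply]
    rw [← hmu, map_mul, hm1, one_mul, hu]
    exact monoψ _
  refine ⟨x', y', s₀, w₀, ?_⟩
  refine
    { card := hM9
      ox := orderOf_eq_prime hx3 hx1'
      oy := orderOf_eq_prime hy3 hy1'
      comm := ?_
      hne := ?_
      hne' := ?_
      mem := ?_
      os := orderOf_eq_prime hs2 hs1
      ow := orderOf_eq_prime hw2 hw1
      hs := s₀.2
      hw := w₀.2
      sx := ?_
      sy := ?_
      wx := ?_
      wy := ?_
      act := ?_
      cardN := h72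
      cent := ?_
      loc := hCg }
  · exact congrArg Subtype.val (hcommT x' y')
  · intro h; exact hyx (Subtype.ext h)
  · intro h; apply hyx'; apply Subtype.ext; rw [h]; rfl
  · intro t
    constructor
    · intro ht
      have := hall ⟨t, ht⟩
      simp only [Subtype.ext_iff, Subgroup.coe_mul, Subgroup.coe_inv, Subgroup.coe_one] at this
      exact this
    · intro ht
      have hxT := x'.2
      have hyT := y'.2
      rcases ht with h | h | h | h | h | h | h | h | h <;> rw [h]
      · exact T.one_mem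
      · exact hxT
      · exact T.inv_mem hxT
      · exact hyT
      · exact T.inv_mem hyT
      · exact T.mul_mem hxT hyT
      · exact T.mul_mem hxT (T.inv_mem hyT)
      · exact T.mul_mem (T.inv_mem hxT) hyT
      · exact T.mul_mem (T.inv_mem hxT) (T.inv_mem hyT)
  · rw [← hact s₀ x', hφs, hσx]
  · rw [← hact s₀ y', hφs, hσy]; rfl
  · rw [← hact w₀ x', hφw, hwx]
  · rw [← hact w₀ y', hφw, hwy]
  · intro n hnN
    have := monoN ⟨n, hnN⟩
    unfold Mono at this
    simp only [Subtype.ext_iff, hact, Subgroup.coe_inv] at this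
    exact this
  · intro g hgx hgy
    rw [← hCM, Subgroup.mem_centralizer_iff]
    intro t ht
    have hgxi : g * (x' : G)⁻¹ = (x' : G)⁻¹ * g := by
      rw [eq_inv_mul_iff_mul_eq, ← mul_assoc, ← hgx, mul_assoc, mul_inv_cancel, mul_one]
    have hgyi : g * (y' : G)⁻¹ = (y' : G)⁻¹ * g := by
      rw [eq_inv_mul_iff_mul_eq, ← mul_assoc, ← hgy, mul_assoc, mul_inv_cancel, mul_one]
    have := hall ⟨t, ht⟩
    simp only [Subtype.ext_iff, Subgroup.coe_mul, Subgroup.coe_inv, Subgroup.coe_one] at this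
    rcases this with h | h | h | h | h | h | h | h | h <;> rw [h]
    · simp
    · exact hgx.symm
    · exact hgxi.symm
    · exact hgy.symm
    · exact hgyi.symm
    · rw [mul_assoc, ← hgy, ← mul_assoc, ← hgx, mul_assoc]
    · rw [mul_assoc, ← hgyi, ← mul_assoc, ← hgx, mul_assoc]
    · rw [mul_assoc, ← hgy, ← mul_assoc, ← hgxi, mul_assoc]
    · rw [mul_assoc, ← hgyi, ← mul_assoc, ← hgxi, mul_assoc]

end grp

end Cfsg.Agent.Lib.Helper84_D72_LOC
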