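import Mathlib
import Cfsg.Agent.Lib.Helper84_TutteDefs
import Cfsg.Agent.Lib.Helper84_TutteAPI
import Cfsg.Agent.Lib.Helper84_TutteDefsW
import Cfsg.Agent.Lib.Helper84_TutteAPIW
import Cfsg.Agent.Lib.Helper84_TutteW_Main
import Cfsg.Agent.Lib.Helper5_Tutte_SINT
import Cfsg.Agent.Lib.Helper84_DC_Core

/-!
# Theorem DC ("directed chain", a weak `S₃` pushing-up theorem; helper33,
`pending/helper33/S2858_DC_proof.md`)

`G` any group, `H ≤ G` finite, `Q0 ≤ P ≤ H` with `|P : Q0| = 2`, `|H : P| = 3`, `Q0 ⊴ H`, `P` not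
normal in `H`; `δ ∈ G` normalises `P`, `δ³ ∈ P`, and (CF): no nontrivial subgroup of `P` is normalised by
`H` and by `δ`.  Then `|P| = 2^k` with `k ≤ 7`.
-/

set_option autoImplicit false
set_option linter.unusedVariables false

open scoped commutatorElement
open Cfsg.Agent.Lib.Helper84_TutteDefs

namespace Cfsg.Agent.Lib.Helper84_DC_Main

variable {G : Type*} [Group G]

/-- a subgroup of prime relative index is maximal -/
theorem eq_of_relIndex_prime {P K H : Subgroup G} {p : ℕ} (hp : p.Prime) (hPK : P ≤ K) (hKH : K ≤ H)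
    (h : P.relIndex H = p) (hne : ¬ K ≤ P) : K = H := by
  have hmul := Subgroup.relIndex_mul_relIndex P K H hPK hKH
  rw [h] at hmul
  have h1 : P.relIndex K ≠ 1 := by
    intro h'
    rw [Subgroup.relIndex_eq_one] at h'
    exact hne h'
  have hd : P.relIndex K ∣ p := ⟨_, hmul.symm⟩
  have h3 : P.relIndex K = p := by
    rcases (Nat.dvd_prime hp).1 hd with h' | h'
    · exact absurd h' h1
    · exact h'
  rw [h3] at hmul
  have h4 : K.relIndex H = 1 := by
    have hpos := hp.pos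
    nlinarith [Nat.eq_of_mul_eq_mul_left hpos (hmul.trans (mul_one p).symm)]
  rw [Subgroup.relIndex_eq_one] at h4
  exact le_antisymm hKH h4

/-- PART 0 + PART 1: the weak chain hypotheses for `(H, δ ρ)` -/
theorem chainHyp'_of (H P Q0 : Subgroup G) (y ρ : G) (hfin : Finite H) (hint : H ⊓ cj y H = P)
    (hρ : ρ ∈ H) (hgen : P ⊔ cj ρ⁻¹ P = H) (hinf : P ⊓ cj ρ P = Q0) (hQ2 : Q0.relIndex P = 2)
    (hyN : cj y P = P)
    (hcore : ∀ N : Subgroup G, N ≤ P → (∀ h ∈ H, cj h N = N) → cj y N = N → N = ⊥)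
    (hnot2 : ¬ IsPGroup 2 H) : ChainHyp' H (y * ρ) := by
  have hgH : cj (y * ρ) H = cj y H := by
    rw [← cj_cj, cj_eq_self_of_mem hρ]
  have hP : H ⊓ cj (y * ρ) H = P := by rw [hgH, hint]
  have hyN' : cj y⁻¹ P = P := by
    have := congrArg (cj y⁻¹) hyN
    rw [cj_cj, inv_mul_cancel, cj_one] at this
    exact this.symm
  refine ⟨hfin, ?_, ?_, ?_, hnot2⟩
  · rw [hP]
    have h1 : cj (y * ρ) P = cj (y * ρ) H ⊓ cj ((y * ρ) ^ 2) H := by
      rw [← hP, cj_inf, cj_cj, ← pow_two]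
    have h2 : P ⊓ cj ((y * ρ) ^ 2) H = P ⊓ cj (y * ρ) P := by
      rw [h1]
      conv_lhs => rw [← hP]
      conv_rhs => rw [← hP]
      simp only [inf_assoc, inf_left_idem]
    have h3 : P ⊓ cj (y * ρ) P = cj y Q0 := by
      rw [← hinf, cj_inf, hyN, ← cj_cj]
    have h4 : (cj ((y * ρ) ^ 2) H).relIndex P = (cj y Q0).relIndex P := by
      rw [← Subgroup.inf_relIndex_right, inf_comm, h2, h3]
    rw [h4]
    have h5 : (cj y Q0).relIndex (cj y P) = Q0.relIndex P :=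
      Subgroup.relIndex_map_map_of_injective Q0 P (MulAut.conj y).injective
    rw [hyN] at h5
    rw [h5, hQ2]
  · intro N hN h1 h2
    rw [hP] at hN
    apply hcore N hN h1
    rw [← cj_cj, h1 ρ hρ] at h2
    exact h2
  · rw [hP]
    have : cj (y * ρ)⁻¹ P = cj ρ⁻¹ P := by
      rw [mul_inv_rev, ← cj_cj, hyN']
    rw [this, hgen]

/-- **Theorem DC.** -/
theorem dc (H P Q0 : Subgroup G) (δ : G) (hfin : Finite H)
    (hPH : P ≤ H) (hQP : Q0 ≤ P) (hQ2 : Q0.relIndex P = 2) (hP3 : P.relIndex H = 3)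
    (hQn : ∀ h ∈ H, cj h Q0 = Q0) (hPnn : ∃ h ∈ H, cj h P ≠ P)
    (hδP : cj δ P = P) (hδ3 : δ ^ 3 ∈ P)
    (hCF : ∀ N : Subgroup G, N ≤ P → (∀ h ∈ H, cj h N = N) → cj δ N = N → N = ⊥) :
    ∃ k : ℕ, k ≤ 7 ∧ Nat.card P = 2 ^ k := by
  have hPfin : Finite P := Finite.of_injective (Subgroup.inclusion hPH) (Subgroup.inclusion_injective hPH)
  by_cases hQ0 : Q0 = ⊥
  · -- `|P| = 2`
    refine ⟨1, by norm_num, ?_⟩
    rw [hQ0, Subgroup.relIndex_bot_left] at hQ2
    rw [hQ2, pow_one]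
  -- `N_H(P) = P`
  have hN : ∀ h ∈ H, cj h P = P → h ∈ P := by
    intro h hh hhP
    by_contra hnot
    -- `K = N_H(P)` would be `H`
    obtain ⟨K, hK⟩ : ∃ K : Subgroup G, K = H ⊓ Subgroup.normalizer (P : Set G) := ⟨_, rfl⟩
    have hPK : P ≤ K := by rw [hK]; exact le_inf hPH Subgroup.le_normalizer
    have hKH : K ≤ H := by rw [hK]; exact inf_le_left
    have hhK : h ∈ K := by
      rw [hK]
      exact ⟨hh, Subgroup.mem_normalizer_iff_map_conj_eq.mpr hhP⟩
    have hKeq : K = H := eq_of_relIndex_prime Nat.prime_three hPK hKH hP3 (fun hle => hnot (hle hhK))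
    obtain ⟨u, hu, huP⟩ := hPnn
    apply huP
    have : u ∈ K := by rw [hKeq]; exact hu
    rw [hK] at this
    exact Subgroup.mem_normalizer_iff_map_conj_eq.mp this.2
  -- `cj δ Q0 ≠ Q0`
  have hδQ : cj δ Q0 ≠ Q0 := fun h => hQ0 (hCF Q0 hQP hQn h)
  have hint := Cfsg.Agent.Lib.Helper5_Tutte_SINT.inter_eq H P Q0 δ hPH hQP hQ2 hQn hN hδP hδQ
  -- the element `ρ`
  obtain ⟨ρ, hρH, hρP⟩ := hPnn
  have hρP' : cj ρ⁻¹ P ≠ P := by
    intro h
    apply hρP
    have := congrArg (cj ρ) h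
    rw [cj_cj, mul_inv_cancel, cj_one] at this
    exact this.symm
  have hgen : P ⊔ cj ρ⁻¹ P = H := by
    apply eq_of_relIndex_prime Nat.prime_three le_sup_left ?_ hP3
    · intro hle
      have h1 : cj ρ⁻¹ P ≤ P := le_trans le_sup_right hle
      apply hρP'
      exact Subgroup.eq_of_le_of_card_ge h1 (by rw [card_cj])
    · apply sup_le hPH
      intro x hx
      rw [mem_cj, inv_inv] at hx
      have := H.mul_mem (H.mul_mem (H.inv_mem hρH) (hPH hx)) hρH
      have e : ρ⁻¹ * (ρ * x * ρ⁻¹) * ρ = x := by group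
      rwa [e] at this
  have hQρ : cj ρ Q0 = Q0 := hQn ρ hρH
  have hinf : P ⊓ cj ρ P = Q0 := by
    have hle : Q0 ≤ P ⊓ cj ρ P := by
      apply le_inf hQP
      rw [← hQρ]
      exact cj_mono ρ hQP
    symm
    by_contra hne
    have := Cfsg.Agent.Lib.Helper5_Tutte_SINT.eq_of_relIndex_two hle inf_le_left hQ2
      (fun h => hne (le_antisymm hle h))
    -- `P ≤ cj ρ P`, equal cardinalities
    apply hρP
    have h1 : P ≤ cj ρ P := by
      have h2 : P ⊓ cj ρ P ≤ cj ρ P := inf_le_right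
      rwa [this] at h2
    have hc : Nat.card (cj ρ P) = Nat.card P := card_cj _ _
    have hfin2 : Finite (cj ρ P) := Nat.finite_of_card_ne_zero (by rw [hc]; exact Nat.card_pos.ne')
    exact (Subgroup.eq_of_le_of_card_ge h1 (by rw [hc])).symm
  -- `H` is not a 2-group
  have hnot2 : ¬ IsPGroup 2 H := by
    intro h2
    obtain ⟨n, hn⟩ := IsPGroup.iff_card.mp h2
    have h3 : 3 ∣ Nat.card H := by
      have := Cfsg.Agent.Lib.Helper84_TutteDefs.card_mul_relIndex' hPH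
      rw [hP3] at this
      exact ⟨_, by rw [← this, mul_comm]⟩
    rw [hn] at h3
    have := (Nat.Prime.dvd_of_dvd_pow Nat.prime_three h3)
    omega
  have hch := chainHyp'_of H P Q0 δ ρ hfin hint hρH hgen hinf hQ2 hδP hCF hnot2
  have hgP : H ⊓ cj (δ * ρ) H = P := by
    rw [← cj_cj, cj_eq_self_of_mem hρH]
    exact hint
  obtain ⟨s, x0, hT, hXP, hcard⟩ := Cfsg.Agent.Lib.Helper84_TutteW_Main.exists_tsys' hch
  rw [hgP] at hXP hcard
  have hs8 : s ≤ 8 := by
    apply Cfsg.Agent.Lib.Helper84_DC_Core.dc_core hT δ ρ rfl hρH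
    · rw [hXP]; exact hδP
    · rw [hXP]; exact hδ3
    · rw [hXP]; exact hCF
  exact ⟨s - 1, by omega, hcard⟩

end Cfsg.Agent.Lib.Helper84_DC_Main
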