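import Mathlib
import Cfsg.Prelude.Def_DegreeGraph
import Cfsg.Agent.Lib.Helper77_BlockBasics

/-!
# S3670 package DG-GR (helper84): the character degree graph from three degrees
-/

set_option autoImplicit false

namespace Cfsg.Agent.Lib.Helper84_DG_GR

open Cfsg

/-- a prime dividing `6048 = 2^5 · 3^3 · 7` is `2`, `3` or `7` -/
theorem prime_dvd_6048 {p : ℕ} (hp : p.Prime) (h : p ∣ 6048) : p = 2 ∨ p = 3 ∨ p = 7 := by
  have e : (6048 : ℕ) = 2 ^ 5 * 3 ^ 3 * 7 := by norm_num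
  rw [e] at h
  rcases (Nat.Prime.dvd_mul hp).mp h with h | h
  · rcases (Nat.Prime.dvd_mul hp).mp h with h | h
    · left
      exact (Nat.prime_dvd_prime_iff_eq hp Nat.prime_two).mp (hp.dvd_of_dvd_pow h)
    · right; left
      exact (Nat.prime_dvd_prime_iff_eq hp Nat.prime_three).mp (hp.dvd_of_dvd_pow h)
  · right; right
    exact (Nat.prime_dvd_prime_iff_eq hp (by norm_num)).mp h

theorem graph_of_degrees {G : Type*} [Group G] [Finite G] (hcard : Nat.card G = 6048)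
    (h6 : ∃ χ : Cfsg.IrrCharacter G, 6 ∣ Cfsg.charDegree (χ : G → ℂ))
    (h14 : ∃ χ : Cfsg.IrrCharacter G, 14 ∣ Cfsg.charDegree (χ : G → ℂ))
    (h21 : ∃ χ : Cfsg.IrrCharacter G, 21 ∣ Cfsg.charDegree (χ : G → ℂ)) :
    Cfsg.degreePrimes G = {2, 3, 7} ∧
      ∀ p q : ℕ, (Cfsg.degreeGraph G).Adj p q ↔
        p ≠ q ∧ p ∈ ({2, 3, 7} : Set ℕ) ∧ q ∈ ({2, 3, 7} : Set ℕ) := by
  obtain ⟨χ6, hχ6⟩ := h6
  obtain ⟨χ14, hχ14⟩ := h14
  obtain ⟨χ21, hχ21⟩ := h21
  have hmem6 : Cfsg.charDegree (χ6 : G → ℂ) ∈ Cfsg.charDegrees G := ⟨χ6, rfl⟩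
  have hmem14 : Cfsg.charDegree (χ14 : G → ℂ) ∈ Cfsg.charDegrees G := ⟨χ14, rfl⟩
  have hmem21 : Cfsg.charDegree (χ21 : G → ℂ) ∈ Cfsg.charDegrees G := ⟨χ21, rfl⟩
  -- primes dividing a degree
  have hprime : ∀ p : ℕ, p.Prime → ∀ d ∈ Cfsg.charDegrees G, p ∣ d → p = 2 ∨ p = 3 ∨ p = 7 := by
    intro p hp d hd hpd
    obtain ⟨χ, rfl⟩ := hd
    have h1 := Cfsg.Agent.Lib.Helper77_BlockBasics.charDegree_dvd_card χ
    rw [hcard] at h1
    exact prime_dvd_6048 hp (dvd_trans hpd h1)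
  constructor
  · ext p
    simp only [Cfsg.degreePrimes, Set.mem_ofPred_eq, Set.mem_insert_iff, Set.mem_singleton_iff]
    constructor
    · rintro ⟨hp, d, hd, hpd⟩
      exact hprime p hp d hd hpd
    · rintro (rfl | rfl | rfl)
      · exact ⟨Nat.prime_two, _, hmem6, dvd_trans (by norm_num) hχ6⟩
      · exact ⟨Nat.prime_three, _, hmem6, dvd_trans (by norm_num) hχ6⟩
      · exact ⟨by norm_num, _, hmem14, dvd_trans (by norm_num) hχ14⟩
  · intro p q
    simp only [Cfsg.degreeGraph, Set.mem_insert_iff, Set.mem_singleton_iff]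
    constructor
    · rintro ⟨hne, hp, hq, d, hd, hpq⟩
      exact ⟨hne, hprime p hp d hd (dvd_trans (dvd_mul_right p q) hpq),
        hprime q hq d hd (dvd_trans (dvd_mul_left q p) hpq)⟩
    · rintro ⟨hne, hp, hq⟩
      have p2 : Nat.Prime 2 := Nat.prime_two
      have p3 : Nat.Prime 3 := Nat.prime_three
      have p7 : Nat.Prime 7 := by norm_num
      rcases hp with rfl | rfl | rfl <;> rcases hq with rfl | rfl | rfl
      · exact absurd rfl hne
      · exact ⟨hne, p2, p3, _, hmem6, dvd_trans (by norm_num) hχ6⟩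
      · exact ⟨hne, p2, p7, _, hmem14, dvd_trans (by norm_num) hχ14⟩
      · exact ⟨hne, p3, p2, _, hmem6, dvd_trans (by norm_num) hχ6⟩
      · exact absurd rfl hne
      · exact ⟨hne, p3, p7, _, hmem21, dvd_trans (by norm_num) hχ21⟩
      · exact ⟨hne, p7, p2, _, hmem14, dvd_trans (by norm_num) hχ14⟩
      · exact ⟨hne, p7, p3, _, hmem21, dvd_trans (by norm_num) hχ21⟩
      · exact absurd rfl hne

end Cfsg.Agent.Lib.Helper84_DG_GR
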