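import Mathlib
import Cfsg.Agent.Lib.Helper34_DG_Aff

/-!
# S3670 package DG-HP (helper84): a primitive additive character of `F_8 × ℤ/18`
-/

set_option autoImplicit false

namespace Cfsg.Agent.Lib.Helper84_DG_HP

open Cfsg.Agent.Lib.Helper34_DG_Aff

/-- the product of primitive additive characters of two rings is a primitive character of the
product ring -/
theorem exists_primitive_prod {A B : Type*} [CommRing A] [CommRing B]
    (ψ₁ : AddChar A ℂ) (ψ₂ : AddChar B ℂ) (h₁ : ψ₁.IsPrimitive) (h₂ : ψ₂.IsPrimitive) :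
    ∃ ψ : AddChar (A × B) ℂ, ψ.IsPrimitive := by
  refine ⟨ψ₁.compAddMonoidHom (AddMonoidHom.fst A B) * ψ₂.compAddMonoidHom (AddMonoidHom.snd A B),
    ?_⟩
  rintro ⟨a, b⟩ hab hone
  have key : ∀ x : A × B,
      (ψ₁.compAddMonoidHom (AddMonoidHom.fst A B) * ψ₂.compAddMonoidHom (AddMonoidHom.snd A B))
        ((a, b) * x) = 1 := by
    intro x
    have := DFunLike.congr_fun hone x
    simpa [AddChar.mulShift_apply] using this
  by_cases ha : a = 0
  · have hb : b ≠ 0 := by
      intro hb
      exact hab (by rw [ha, hb]; rfl)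
    apply h₂ hb
    ext y
    have := key (0, y)
    simpa [AddChar.mulShift_apply, AddChar.mul_apply] using this
  · apply h₁ ha
    ext x
    have := key (x, 0)
    simpa [AddChar.mulShift_apply, AddChar.mul_apply] using this

theorem exists_primitive : ∃ ψ : AddChar R144 ℂ, ψ.IsPrimitive :=
  exists_primitive_prod _ _
    (AddChar.FiniteField.primitiveChar_to_Complex_isPrimitive (F := GaloisField 2 3))
    (ZMod.isPrimitive_stdAddChar 18)

end Cfsg.Agent.Lib.Helper84_DG_HP
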