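import Mathlib

/-!
# Group extensions from bisets (helper84)

An elementary construction of a group extension `1 → Z → G → A → 1` restricting to a given extension
`1 → Z → S → π(S) → 1` over the subgroup `π(S) ≤ A`, from a finite "biset" `X` with commuting left and right
actions of `S`, free on the right, together with a map `θ : X → A` whose fibres are the right `Z`-orbits:
`G` is the group of permutations of `X` commuting with the right action and covering a left translation of `A`,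
modulo the kernel of a trace map.  This is the group-theoretic core of the model theorem for constrained
fusion systems.
-/

set_option autoImplicit false

namespace Cfsg.Agent.Lib.Helper84_ExtBiset

/-- Orbit map lemma: if a group `H` acts on `X` (by `a1`) and on `Y` (by `a2`) and `g₀ : X → Y` sends every point
to a point with a larger stabilizer, there is an equivariant map `f : X → Y` which on each point is a translate of
`g₀` at a translate. -/
theorem exists_orbit_map {H X Y : Type*} [Group H] (a1 : H → X → X) (a2 : H → Y → Y)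
    (h1one : ∀ x, a1 1 x = x) (h1mul : ∀ g h x, a1 (g * h) x = a1 g (a1 h x))
    (h2mul : ∀ g h y, a2 (g * h) y = a2 g (a2 h y))
    (g₀ : X → Y) (hstab : ∀ x h, a1 h x = x → a2 h (g₀ x) = g₀ x) :
    ∃ f : X → Y, (∀ h x, f (a1 h x) = a2 h (f x)) ∧ ∀ x, ∃ h, f x = a2 h (g₀ (a1 h⁻¹ x)) := by
  classical
  let r : Setoid X := ⟨fun x y => ∃ h, y = a1 h x,
    ⟨fun x => ⟨1, (h1one x).symm⟩,
     fun {x y} ⟨h, hh⟩ => ⟨h⁻¹, by rw [hh, ← h1mul, inv_mul_cancel, h1one]⟩,
     fun {x y z} ⟨h, hh⟩ ⟨k, hk⟩ => ⟨k * h, by rw [hk, hh, h1mul]⟩⟩⟩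
  let rep : X → X := fun x => (Quotient.mk r x).out
  have hrep : ∀ x, ∃ h, x = a1 h (rep x) := fun x => by
    have h1 : r (rep x) x := Quotient.exact (Quotient.out_eq (Quotient.mk r x))
    exact h1
  choose t ht using hrep
  have hreq : ∀ h x, rep (a1 h x) = rep x := by
    intro h x
    have h1 : Quotient.mk r (a1 h x) = Quotient.mk r x :=
      Quotient.sound ⟨h⁻¹, by rw [← h1mul, inv_mul_cancel, h1one]⟩
    simp only [rep, h1]
  refine ⟨fun x => a2 (t x) (g₀ (rep x)), ?_, ?_⟩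
  · intro h x
    show a2 (t (a1 h x)) (g₀ (rep (a1 h x))) = a2 h (a2 (t x) (g₀ (rep x)))
    rw [hreq h x, ← h2mul]
    have h1 : a1 (t (a1 h x)) (rep x) = a1 (h * t x) (rep x) := by
      rw [h1mul, ← ht x, ← hreq h x, ← ht (a1 h x)]
    have h2 : a1 ((h * t x)⁻¹ * t (a1 h x)) (rep x) = rep x := by
      rw [h1mul, h1, ← h1mul, inv_mul_cancel, h1one]
    have h3 := hstab _ _ h2
    calc a2 (t (a1 h x)) (g₀ (rep x))
        = a2 ((h * t x) * ((h * t x)⁻¹ * t (a1 h x))) (g₀ (rep x)) := by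
          rw [mul_inv_cancel_left]
      _ = a2 (h * t x) (g₀ (rep x)) := by rw [h2mul, h3]
  · intro x
    refine ⟨t x, ?_⟩
    show a2 (t x) (g₀ (rep x)) = a2 (t x) (g₀ (a1 (t x)⁻¹ x))
    have : a1 (t x)⁻¹ x = rep x := by
      rw [congrArg (a1 (t x)⁻¹) (ht x), ← h1mul, inv_mul_cancel, h1one]
    rw [this]


/-- The data: a set `X` with commuting left and right actions of `S`, a map `θ` to a group `A` receiving `S` by
`π`, an abelian group `Z` embedded in `S` as the kernel of `π`, a group `N` mapped to `S`, with actions of `A` on `Z`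
and `N` compatible with conjugation in `S`. -/
structure Biset (S A N Z X : Type*) [Group S] [Group A] [Group N] [CommGroup Z] where
  /-- left action -/
  lm : S → X → X
  /-- right action -/
  rm : X → S → X
  lm_one : ∀ x, lm 1 x = x
  lm_mul : ∀ s t x, lm (s * t) x = lm s (lm t x)
  rm_one : ∀ x, rm x 1 = x
  rm_mul : ∀ x s t, rm x (s * t) = rm (rm x s) t
  lm_rm : ∀ s x t, lm s (rm x t) = rm (lm s x) t
  /-- the embedding of `Z` -/
  jz : Z →* S
  /-- the map of `N` -/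
  j : N →* S
  /-- the projection -/
  π : S →* A
  /-- action on `Z` -/
  actZ : A →* MulAut Z
  /-- action on `N` -/
  act : A →* MulAut N
  /-- the structure map -/
  θ : X → A
  jz_inj : Function.Injective jz
  compatZ : ∀ s z, jz (actZ (π s) z) = s * jz z * s⁻¹
  compat : ∀ s n, j (act (π s) n) = s * j n * s⁻¹
  ker_π : ∀ s, π s = 1 → ∃ z, jz z = s
  π_jz : ∀ z, π (jz z) = 1
  θ_lm : ∀ s x, θ (lm s x) = π s * θ x
  θ_rm : ∀ x t, θ (rm x t) = θ x * π t
  θ_surj : Function.Surjective θ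
  fiber : ∀ x y, θ x = θ y → ∃ z, y = rm x (jz z)
  free : ∀ x t, rm x t = x → t = 1
  zform : ∀ (z : Z) x, lm (jz z) x = rm x (jz (actZ (θ x)⁻¹ z))
  qform : ∀ (n : N) x, lm (j n) x = rm x (j (act (θ x)⁻¹ n))

namespace Biset

variable {S A N Z X : Type*} [Group S] [Group A] [Group N] [CommGroup Z] (B : Biset S A N Z X)

theorem rm_cancel {x : X} {s t : S} (h : B.rm x s = B.rm x t) : s = t := by
  have h1 : B.rm x (s * t⁻¹) = x := by
    rw [B.rm_mul, h, ← B.rm_mul, mul_inv_cancel, B.rm_one]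
  have h2 := B.free x _ h1
  exact mul_inv_eq_one.1 h2

theorem rm_inj {x y : X} {t : S} (h : B.rm x t = B.rm y t) : x = y := by
  have := congrArg (fun w => B.rm w t⁻¹) h
  simpa [← B.rm_mul, B.rm_one] using this

/-- The group `Ê` of permutations of `X` commuting with the right action and covering a left translation of
`A`. -/
def E : Subgroup (Equiv.Perm X) where
  carrier := {f | (∀ x t, f (B.rm x t) = B.rm (f x) t) ∧ ∃ a : A, ∀ x, B.θ (f x) = a * B.θ x}
  one_mem' := ⟨fun _ _ => rfl, 1, fun x => by simp⟩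
  mul_mem' := by
    rintro f g ⟨hf, a, ha⟩ ⟨hg, b, hb⟩
    refine ⟨fun x t => ?_, a * b, fun x => ?_⟩
    · simp only [Equiv.Perm.coe_mul, Function.comp_apply]
      rw [hg, hf]
    · simp only [Equiv.Perm.coe_mul, Function.comp_apply]
      rw [ha, hb, mul_assoc]
  inv_mem' := by
    rintro f ⟨hf, a, ha⟩
    refine ⟨fun x t => ?_, a⁻¹, fun x => ?_⟩
    · apply f.injective
      rw [hf]
      simp
    · rw [eq_inv_mul_iff_mul_eq]
      have := ha (f⁻¹ x)
      simpa using this.symm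

theorem mem_E_iff (f : Equiv.Perm X) :
    f ∈ B.E ↔ (∀ x t, f (B.rm x t) = B.rm (f x) t) ∧ ∃ a : A, ∀ x, B.θ (f x) = a * B.θ x := Iff.rfl

include B in
theorem nonempty : Nonempty X := ⟨(B.θ_surj 1).choose⟩

/-- the element of `A` covered by a member of `Ê` -/
noncomputable def ΘE : B.E →* A where
  toFun f := f.2.2.choose
  map_one' := by
    obtain ⟨x⟩ := B.nonempty
    have h := (1 : B.E).2.2.choose_spec x
    simpa using h.symm
  map_mul' f g := by
    obtain ⟨x⟩ := B.nonempty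
    have h1 := (f * g).2.2.choose_spec x
    have h2 := f.2.2.choose_spec (g.1 x)
    have h3 := g.2.2.choose_spec x
    have h4 : ((f * g : B.E) : Equiv.Perm X) x = f.1 (g.1 x) := rfl
    rw [h4, h2, h3, ← mul_assoc] at h1
    exact (mul_right_cancel h1).symm

theorem ΘE_spec (f : B.E) (x : X) : B.θ (f.1 x) = B.ΘE f * B.θ x := f.2.2.choose_spec x

theorem ΘE_eq (f : B.E) (a : A) (h : ∀ x, B.θ (f.1 x) = a * B.θ x) : B.ΘE f = a := by
  obtain ⟨x⟩ := B.nonempty
  have h1 := B.ΘE_spec f x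
  rw [h x] at h1
  exact (mul_right_cancel h1).symm

theorem E_rm (f : B.E) (x : X) (t : S) : f.1 (B.rm x t) = B.rm (f.1 x) t := f.2.1 x t

/-- left multiplication, as a member of `Ê` -/
def Λ : S →* B.E where
  toFun s := ⟨⟨B.lm s, B.lm s⁻¹, fun x => by rw [← B.lm_mul, inv_mul_cancel, B.lm_one],
      fun x => by rw [← B.lm_mul, mul_inv_cancel, B.lm_one]⟩,
    fun x t => B.lm_rm s x t, B.π s, fun x => B.θ_lm s x⟩
  map_one' := by
    apply Subtype.ext
    apply Equiv.ext
    intro x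
    exact B.lm_one x
  map_mul' s t := by
    apply Subtype.ext
    apply Equiv.ext
    intro x
    exact B.lm_mul s t x

@[simp] theorem Λ_apply (s : S) (x : X) : (B.Λ s).1 x = B.lm s x := rfl

theorem ΘE_Λ (s : S) : B.ΘE (B.Λ s) = B.π s := B.ΘE_eq _ _ (fun x => B.θ_lm s x)


/-! ### The kernel and the trace -/

open Classical in
/-- the element of `Z` by which a member of the kernel moves a point -/
noncomputable def ζ (f : B.E) (x : X) : Z :=
  if h : ∃ z, f.1 x = B.rm x (B.jz z) then h.choose else 1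

theorem ζ_spec {f : B.E} (hf : B.ΘE f = 1) (x : X) : f.1 x = B.rm x (B.jz (B.ζ f x)) := by
  have h : ∃ z, f.1 x = B.rm x (B.jz z) := by
    apply B.fiber
    rw [B.ΘE_spec, hf, one_mul]
  unfold ζ
  rw [dif_pos h]
  exact h.choose_spec

theorem ζ_unique {f : B.E} {x : X} {z : Z} (h : f.1 x = B.rm x (B.jz z)) : B.ζ f x = z := by
  have h1 : ∃ z, f.1 x = B.rm x (B.jz z) := ⟨z, h⟩
  unfold ζ
  rw [dif_pos h1]
  have h2 : B.rm x (B.jz z) = B.rm x (B.jz h1.choose) := h.symm.trans h1.choose_spec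
  exact (B.jz_inj (B.rm_cancel h2)).symm

/-- the `A`-twisted displacement, constant on right orbits -/
noncomputable def zc (f : B.E) (x : X) : Z := B.actZ (B.θ x) (B.ζ f x)

theorem ζ_rm {f : B.E} (hf : B.ΘE f = 1) (x : X) (t : S) :
    B.ζ f (B.rm x t) = B.actZ (B.π t)⁻¹ (B.ζ f x) := by
  apply B.ζ_unique
  rw [B.E_rm, B.ζ_spec hf x, ← B.rm_mul, ← B.rm_mul]
  congr 1
  rw [← map_inv, B.compatZ]
  group

theorem zc_rm {f : B.E} (hf : B.ΘE f = 1) (x : X) (t : S) : B.zc f (B.rm x t) = B.zc f x := by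
  unfold zc
  rw [B.ζ_rm hf, B.θ_rm, map_mul, MulAut.mul_apply, map_inv, MulAut.apply_inv_self]

/-- the right-orbit relation -/
def rel : Setoid X where
  r x y := ∃ t, y = B.rm x t
  iseqv := ⟨fun x => ⟨1, (B.rm_one x).symm⟩,
    fun {x y} ⟨t, ht⟩ => ⟨t⁻¹, by rw [ht, ← B.rm_mul, mul_inv_cancel, B.rm_one]⟩,
    fun {x y z} ⟨t, ht⟩ ⟨u, hu⟩ => ⟨t * u, by rw [hu, ht, B.rm_mul]⟩⟩

theorem rel_out (x : X) : ∃ t, x = B.rm (Quotient.mk B.rel x).out t :=
  Quotient.exact (Quotient.out_eq (Quotient.mk B.rel x))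

theorem zc_out {f : B.E} (hf : B.ΘE f = 1) (x : X) :
    B.zc f (Quotient.mk B.rel x).out = B.zc f x := by
  obtain ⟨t, ht⟩ := B.rel_out x
  conv_rhs => rw [ht]
  rw [B.zc_rm hf]

/-- the trace of a member of the kernel -/
noncomputable def τ (f : B.E) : Z := ∏ᶠ O : Quotient B.rel, B.zc f O.out

theorem ζ_mul {f g : B.E} (hf : B.ΘE f = 1) (hg : B.ΘE g = 1) (x : X) :
    B.ζ (f * g) x = B.ζ f x * B.ζ g x := by
  apply B.ζ_unique
  show f.1 (g.1 x) = _
  rw [B.ζ_spec hg x, B.E_rm, B.ζ_spec hf x, ← B.rm_mul, map_mul]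

theorem zc_mul {f g : B.E} (hf : B.ΘE f = 1) (hg : B.ΘE g = 1) (x : X) :
    B.zc (f * g) x = B.zc f x * B.zc g x := by
  unfold zc
  rw [B.ζ_mul hf hg, map_mul]

theorem τ_mul [Finite X] {f g : B.E} (hf : B.ΘE f = 1) (hg : B.ΘE g = 1) :
    B.τ (f * g) = B.τ f * B.τ g := by
  unfold τ
  rw [← finprod_mul_distrib (Set.toFinite _) (Set.toFinite _)]
  exact finprod_congr (fun O => B.zc_mul hf hg _)

theorem ζ_conj (e : B.E) {f : B.E} (hf : B.ΘE f = 1) (x : X) :
    B.ζ (e * f * e⁻¹) x = B.ζ f ((e⁻¹ : B.E).1 x) := by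
  apply B.ζ_unique
  show e.1 (f.1 ((e⁻¹ : B.E).1 x)) = _
  rw [B.ζ_spec hf, B.E_rm]
  congr 1
  show e.1 ((e.1)⁻¹ x) = x
  simp

theorem zc_conj (e : B.E) {f : B.E} (hf : B.ΘE f = 1) (x : X) :
    B.zc (e * f * e⁻¹) x = B.actZ (B.ΘE e) (B.zc f ((e⁻¹ : B.E).1 x)) := by
  unfold zc
  rw [B.ζ_conj e hf, ← MulAut.mul_apply, ← map_mul]
  congr 2
  have h1 := B.ΘE_spec e ((e⁻¹ : B.E).1 x)
  have h2 : e.1 ((e⁻¹ : B.E).1 x) = x := by
    show e.1 ((e.1)⁻¹ x) = x
    simp
  rw [h2] at h1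
  exact h1

/-- the permutation of right orbits induced by a member of `Ê` -/
noncomputable def orbitPerm (e : B.E) : Quotient B.rel ≃ Quotient B.rel :=
  Quotient.congr e.1 (by
    intro x y
    constructor
    · rintro ⟨t, ht⟩
      exact ⟨t, by rw [ht, B.E_rm]⟩
    · rintro ⟨t, ht⟩
      refine ⟨t, ?_⟩
      apply e.1.injective
      rw [ht, B.E_rm])

theorem orbitPerm_mk (e : B.E) (x : X) :
    B.orbitPerm e (Quotient.mk B.rel x) = Quotient.mk B.rel (e.1 x) := rfl

theorem τ_conj [Finite X] (e : B.E) {f : B.E} (hf : B.ΘE f = 1) :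
    B.τ (e * f * e⁻¹) = B.actZ (B.ΘE e) (B.τ f) := by
  unfold τ
  have h1 : ∀ O : Quotient B.rel, B.zc (e * f * e⁻¹) O.out
      = B.actZ (B.ΘE e) (B.zc f (B.orbitPerm e⁻¹ O).out) := by
    intro O
    rw [B.zc_conj e hf]
    congr 1
    have h2 : B.orbitPerm e⁻¹ O = Quotient.mk B.rel ((e⁻¹ : B.E).1 O.out) := by
      conv_lhs => rw [← Quotient.out_eq O]
      rfl
    rw [h2, B.zc_out hf]
  rw [finprod_congr h1]
  have h3 : (∏ᶠ O : Quotient B.rel, B.actZ (B.ΘE e) (B.zc f (B.orbitPerm e⁻¹ O).out))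
      = B.actZ (B.ΘE e) (∏ᶠ O : Quotient B.rel, B.zc f (B.orbitPerm e⁻¹ O).out) := by
    exact (map_finprod ((B.actZ (B.ΘE e)).toMonoidHom) (Set.toFinite _)).symm
  rw [h3]
  congr 1
  exact finprod_comp_equiv (B.orbitPerm e⁻¹) (f := fun O => B.zc f O.out)

theorem ΘE_Λ_jz (z : Z) : B.ΘE (B.Λ (B.jz z)) = 1 := by rw [B.ΘE_Λ, B.π_jz]

theorem zc_Λ_jz (z : Z) (x : X) : B.zc (B.Λ (B.jz z)) x = z := by
  unfold zc
  have h : B.ζ (B.Λ (B.jz z)) x = B.actZ (B.θ x)⁻¹ z := by
    apply B.ζ_unique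
    exact B.zform z x
  rw [h, map_inv, MulAut.apply_inv_self]

theorem τ_Λ_jz [Finite X] (z : Z) : B.τ (B.Λ (B.jz z)) = z ^ Nat.card (Quotient B.rel) := by
  unfold τ
  rw [show (∏ᶠ O : Quotient B.rel, B.zc (B.Λ (B.jz z)) O.out) = ∏ᶠ _O : Quotient B.rel, z from
    finprod_congr (fun O => B.zc_Λ_jz z O.out)]
  have : Fintype (Quotient B.rel) := Fintype.ofFinite _
  rw [finprod_eq_prod_of_fintype, Finset.prod_const, Finset.card_univ, Nat.card_eq_fintype_card]

/-- the number of right orbits is the index of `π(S)` in `A` -/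
theorem card_orbits : Nat.card (Quotient B.rel) = B.π.range.index := by
  unfold Subgroup.index
  let g : Quotient B.rel → A ⧸ B.π.range :=
    Quotient.lift (fun x => (QuotientGroup.mk (B.θ x) : A ⧸ B.π.range)) (by
      rintro x y ⟨t, rfl⟩
      rw [B.θ_rm]
      exact (QuotientGroup.eq.2 (by simp)).symm)
  apply Nat.card_congr
  refine Equiv.ofBijective g ⟨?_, ?_⟩
  · intro O O'
    induction O using Quotient.inductionOn with | _ x => ?_
    induction O' using Quotient.inductionOn with | _ y => ?_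
    intro h
    have h1 : (QuotientGroup.mk (B.θ x) : A ⧸ B.π.range) = QuotientGroup.mk (B.θ y) := h
    rw [QuotientGroup.eq] at h1
    obtain ⟨t, ht⟩ := h1
    have h2 : B.θ (B.rm x t) = B.θ y := by rw [B.θ_rm, ht]; group
    obtain ⟨z, hz⟩ := B.fiber _ _ h2
    apply Quotient.sound
    exact ⟨t * B.jz z, by rw [hz, B.rm_mul]⟩
  · intro c
    induction c using QuotientGroup.induction_on with | _ a => ?_
    obtain ⟨x, hx⟩ := B.θ_surj a
    exact ⟨Quotient.mk B.rel x, by show (QuotientGroup.mk (B.θ x) : A ⧸ B.π.range) = _; rw [hx]⟩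


/-! ### The extension group -/

theorem τ_one [Finite X] : B.τ (1 : B.E) = 1 := by
  have h := B.τ_mul (f := 1) (g := 1) (map_one _) (map_one _)
  rw [mul_one] at h
  exact (mul_eq_left.1 h.symm)

theorem τ_inv [Finite X] {f : B.E} (hf : B.ΘE f = 1) : B.τ f⁻¹ = (B.τ f)⁻¹ := by
  have h := B.τ_mul (f := f) (g := f⁻¹) hf (by rw [map_inv, hf, inv_one])
  rw [mul_inv_cancel, B.τ_one] at h
  exact eq_inv_of_mul_eq_one_right h.symm

/-- the kernel of the trace, a normal subgroup of `Ê` -/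
noncomputable def Nτ [Finite X] : Subgroup B.E where
  carrier := {f | B.ΘE f = 1 ∧ B.τ f = 1}
  one_mem' := ⟨map_one _, B.τ_one⟩
  mul_mem' := by
    rintro f g ⟨hf, hf'⟩ ⟨hg, hg'⟩
    exact ⟨by rw [map_mul, hf, hg, one_mul], by rw [B.τ_mul hf hg, hf', hg', one_mul]⟩
  inv_mem' := by
    rintro f ⟨hf, hf'⟩
    exact ⟨by rw [map_inv, hf, inv_one], by rw [B.τ_inv hf, hf', inv_one]⟩

theorem mem_Nτ [Finite X] (f : B.E) : f ∈ B.Nτ ↔ B.ΘE f = 1 ∧ B.τ f = 1 := Iff.rfl

instance [Finite X] : (B.Nτ).Normal := ⟨by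
  rintro f ⟨hf, hf'⟩ e
  exact ⟨by rw [map_mul, map_mul, hf, mul_one, map_inv, mul_inv_cancel],
    by rw [B.τ_conj e hf, hf', map_one]⟩⟩

/-- the extension group -/
abbrev G [Finite X] : Type _ := B.E ⧸ B.Nτ

/-- the embedding of `S` -/
noncomputable def ι [Finite X] : S →* B.G := (QuotientGroup.mk' B.Nτ).comp B.Λ

/-- the projection to `A` -/
noncomputable def Θ [Finite X] : B.G →* A := QuotientGroup.lift B.Nτ B.ΘE (fun _ hf => hf.1)

@[simp] theorem Θ_mk [Finite X] (f : B.E) : B.Θ (QuotientGroup.mk f) = B.ΘE f := rfl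

theorem ι_def [Finite X] (s : S) : B.ι s = QuotientGroup.mk (B.Λ s) := rfl

theorem Θ_ι [Finite X] (s : S) : B.Θ (B.ι s) = B.π s := B.ΘE_Λ s

instance [Finite X] : Finite B.G := by
  unfold G
  infer_instance

/-- Every permutation of `X` commuting with the right action and covering the left translation by `a` gives an
element of `G` over `a`, which conjugates `ι s` to `ι s'` whenever the permutation intertwines `lm s` and
`lm s'`. -/
theorem exists_of_perm [Finite X] (f : Equiv.Perm X) (hf : ∀ x t, f (B.rm x t) = B.rm (f x) t) (a : A)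
    (ha : ∀ x, B.θ (f x) = a * B.θ x) :
    ∃ g : B.G, B.Θ g = a ∧ ∀ s s' : S, (∀ x, f (B.lm s x) = B.lm s' (f x)) →
      g * B.ι s * g⁻¹ = B.ι s' := by
  let e : B.E := ⟨f, hf, a, ha⟩
  refine ⟨QuotientGroup.mk e, B.ΘE_eq e a ha, fun s s' h => ?_⟩
  rw [B.ι_def, B.ι_def, ← QuotientGroup.mk_inv, ← QuotientGroup.mk_mul, ← QuotientGroup.mk_mul]
  congr 1
  apply Subtype.ext
  apply Equiv.ext
  intro x
  show f (B.lm s (f⁻¹ x)) = B.lm s' x
  rw [h]
  simp

/-- a self-map of `X` commuting with the right action and covering a left translation of `A` is bijective -/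
theorem bijective_of_equivariant [Finite X] (f : X → X) (hfr : ∀ x t, f (B.rm x t) = B.rm (f x) t) (a : A)
    (hfθ : ∀ x, B.θ (f x) = a * B.θ x) : Function.Bijective f := by
  have hinj : Function.Injective f := by
    intro x y hxy
    have h1 : B.θ x = B.θ y := by
      have := congrArg B.θ hxy
      rw [hfθ, hfθ] at this
      exact mul_left_cancel this
    obtain ⟨z, hz⟩ := B.fiber _ _ h1
    have h2 : B.rm (f x) (B.jz z) = f x := by rw [← hfr, ← hz, hxy]
    have h3 := B.free _ _ h2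
    rw [hz, h3, B.rm_one]
  exact Finite.injective_iff_bijective.1 hinj

theorem Θ_surjective [Finite X] : Function.Surjective B.Θ := by
  intro a
  -- choose, for every point, a point over the translate
  have h0 : ∀ x, ∃ y, B.θ y = a * B.θ x := fun x => B.θ_surj _
  choose g₀ hg₀ using h0
  obtain ⟨f, hf1, hf2⟩ := exists_orbit_map (H := S) (fun t x => B.rm x t⁻¹) (fun t x => B.rm x t⁻¹)
    (fun x => by simp [B.rm_one]) (fun g h x => by simp [B.rm_mul])
    (fun g h x => by simp [B.rm_mul]) g₀ (fun x h hx => by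
      have := B.free x _ hx
      rw [inv_eq_one] at this
      subst this
      simp [B.rm_one])
  have hfr : ∀ x t, f (B.rm x t) = B.rm (f x) t := fun x t => by
    have := hf1 t⁻¹ x
    simpa using this
  have hfθ : ∀ x, B.θ (f x) = a * B.θ x := by
    intro x
    obtain ⟨h, hh⟩ := hf2 x
    rw [hh, B.θ_rm, hg₀, B.θ_rm, mul_assoc, mul_assoc, ← map_mul]
    simp
  have hbij : Function.Bijective f := B.bijective_of_equivariant f hfr a hfθ
  obtain ⟨g, hg, -⟩ := B.exists_of_perm (Equiv.ofBijective f hbij) hfr a hfθ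
  exact ⟨g, hg⟩

theorem ker_Θ [Finite X] [Finite Z] (hcop : (Nat.card Z).Coprime B.π.range.index) (g : B.G)
    (hg : B.Θ g = 1) : ∃ z, g = B.ι (B.jz z) := by
  induction g using QuotientGroup.induction_on with | _ f => ?_
  have hf : B.ΘE f = 1 := hg
  -- the power map is a bijection of `Z`
  have hn : (Nat.card Z).Coprime (Nat.card (Quotient B.rel)) := by rw [B.card_orbits]; exact hcop
  obtain ⟨z, hz⟩ : ∃ z : Z, z ^ Nat.card (Quotient B.rel) = B.τ f :=
    (powCoprime hn).surjective (B.τ f)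
  refine ⟨z, ?_⟩
  rw [B.ι_def]
  apply QuotientGroup.eq.2
  rw [B.mem_Nτ]
  refine ⟨by rw [map_mul, map_inv, hf, inv_one, one_mul, B.ΘE_Λ_jz], ?_⟩
  rw [B.τ_mul (by rw [map_inv, hf, inv_one]) (B.ΘE_Λ_jz z), B.τ_inv hf, B.τ_Λ_jz, hz, inv_mul_cancel]

theorem ι_injective [Finite X] [Finite Z] (hcop : (Nat.card Z).Coprime B.π.range.index) :
    Function.Injective B.ι := by
  rw [injective_iff_map_eq_one]
  intro s hs
  have h1 : B.π s = 1 := by rw [← B.Θ_ι, hs, map_one]
  obtain ⟨z, rfl⟩ := B.ker_π s h1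
  have h2 : B.Λ (B.jz z) ∈ B.Nτ := by
    rw [B.ι_def] at hs
    exact (QuotientGroup.eq_one_iff _).1 hs
  have h3 := h2.2
  rw [B.τ_Λ_jz] at h3
  have hn : (Nat.card Z).Coprime (Nat.card (Quotient B.rel)) := by rw [B.card_orbits]; exact hcop
  have h4 : z = 1 := by
    apply (powCoprime hn).injective
    simpa using h3
  rw [h4, map_one]

theorem range_ι [Finite X] [Finite Z] (hcop : (Nat.card Z).Coprime B.π.range.index) :
    B.ι.range = B.π.range.comap B.Θ := by
  ext g
  constructor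
  · rintro ⟨s, rfl⟩
    exact ⟨s, (B.Θ_ι s).symm⟩
  · rintro ⟨s, hs⟩
    have h1 : B.Θ (g * (B.ι s)⁻¹) = 1 := by rw [map_mul, map_inv, B.Θ_ι, ← hs, mul_inv_cancel]
    obtain ⟨z, hz⟩ := B.ker_Θ hcop _ h1
    refine ⟨B.jz z * s, ?_⟩
    rw [map_mul, ← hz, inv_mul_cancel_right]

theorem conj_ι_j [Finite X] (g : B.G) (n : N) :
    g * B.ι (B.j n) * g⁻¹ = B.ι (B.j (B.act (B.Θ g) n)) := by
  induction g using QuotientGroup.induction_on with | _ e => ?_
  rw [B.ι_def, B.ι_def, ← QuotientGroup.mk_inv, ← QuotientGroup.mk_mul, ← QuotientGroup.mk_mul]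
  congr 1
  apply Subtype.ext
  apply Equiv.ext
  intro x
  show e.1 (B.lm (B.j n) ((e.1)⁻¹ x)) = B.lm (B.j (B.act (B.ΘE e) n)) x
  rw [B.qform, B.E_rm, B.qform]
  have h1 : e.1 ((e.1)⁻¹ x) = x := by simp
  have h2 := B.ΘE_spec e ((e.1)⁻¹ x)
  rw [h1] at h2
  rw [h1, h2, mul_inv_rev, map_mul, MulAut.mul_apply]
  congr 3
  rw [← MulAut.mul_apply, ← map_mul, inv_mul_cancel, map_one, MulAut.one_apply]

end Biset

end Cfsg.Agent.Lib.Helper84_ExtBiset
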