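import Mathlib
import Cfsg.Prelude.Def_FusionSystem
import Cfsg.Prelude.Def_Classical
import Cfsg.Prelude.Def_LieClassical
import Cfsg.Agent.Lib.Helper87_F2L3Defs
import Cfsg.Agent.Lib.Helper87_F2U3Defs
import Cfsg.Agent.S2360

/-!
# S5319 / F2U3-CARD3A (architect helper87): the 2-part of `|SU₃(q)|`.
-/

set_option autoImplicit false

open Matrix Cfsg.Agent.Lib.Helper87_F2L3

namespace Cfsg.Agent.Lib.Helper84_F2U3_CARD3A

variable {F : Type*} [Field F]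

theorem factorization_two_pow_mul_odd (a m : ℕ) (hm : Odd m) :
    (2 ^ a * m).factorization 2 = a := by
  have hm0 : m ≠ 0 := by
    rintro rfl
    exact absurd hm (by decide)
  rw [Nat.factorization_mul (pow_ne_zero _ (by norm_num)) hm0, Nat.Prime.factorization_pow Nat.prime_two]
  have h2 : m.factorization 2 = 0 := by
    apply Nat.factorization_eq_zero_of_not_dvd
    intro hd
    rcases hm with ⟨t, ht⟩
    omega
  simp [h2]

theorem card_SU3_eq [Fintype F] {q : ℕ} (hF : Fintype.card F = q ^ 2) :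
    Nat.card ↥(Cfsg.SU 3 F q) = q ^ 3 * ((q ^ 2 - 1) * (q ^ 3 + 1)) := by
  have h := Cfsg.Agent.S2360.card_SU3 hF
  have hpos : 0 < q + 1 := Nat.succ_pos q
  apply Nat.eq_of_mul_eq_mul_left hpos
  rw [h]
  ring

/-- **F2U3-CARD3A**. -/
theorem card3A [Fintype F] {q k u : ℕ} (hF : Fintype.card F = q ^ 2) (hk : 2 ≤ k) (hu : Odd u)
    (hq : q + 1 = 2 ^ k * u) :
    (Nat.card ↥(Cfsg.SU 3 F q)).factorization 2 = 2 * k + 1 := by
  rw [card_SU3_eq hF]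
  obtain ⟨j, rfl⟩ : ∃ j, k = j + 2 := ⟨k - 2, by omega⟩
  obtain ⟨w, hw⟩ : ∃ w, w = 2 ^ j * u := ⟨_, rfl⟩
  have hq4 : q + 1 = 4 * w := by rw [hq, hw]; ring
  have hw1 : 1 ≤ w := by omega
  obtain ⟨r, hr⟩ : ∃ r, q = 2 * r + 1 := ⟨2 * w - 1, by omega⟩
  have hrodd : Odd r := ⟨w - 1, by omega⟩
  have hqodd : Odd q := ⟨r, hr⟩
  have e1 : q ^ 2 - 1 = 2 * r * (q + 1) := by
    apply Nat.sub_eq_of_eq_add
    rw [hr]; ring
  have e2 : q ^ 3 + 1 = (q + 1) * (2 * r * q + 1) := by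
    rw [hr]; ring
  have e3 : q ^ 3 * ((q ^ 2 - 1) * (q ^ 3 + 1)) =
      2 ^ (2 * (j + 2) + 1) * (q ^ 3 * r * (u * u) * (2 * r * q + 1)) := by
    rw [e1, e2, hq]; ring
  rw [e3]
  apply factorization_two_pow_mul_odd
  exact (((hqodd.pow).mul hrodd).mul (hu.mul hu)).mul ⟨r * q, by ring⟩

end Cfsg.Agent.Lib.Helper84_F2U3_CARD3A
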