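import Mathlib
import Cfsg.Prelude.Def_FusionSystem
import Cfsg.Prelude.Def_Classical
import Cfsg.Prelude.Def_LieClassical
import Cfsg.Agent.Lib.Helper87_F2L3Defs
import Cfsg.Agent.Lib.Helper87_F2U3Defs
import Cfsg.Agent.Lib.Helper84_F2U3_CARD3A

/-!
# S5319 / F2U3-CARD3B (architect helper87): the 2-part of `|SU₃(q)|`, `q ≡ 1 mod 4`.
-/

set_option autoImplicit false

open Matrix Cfsg.Agent.Lib.Helper87_F2L3 Cfsg.Agent.Lib.Helper84_F2U3_CARD3A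

namespace Cfsg.Agent.Lib.Helper84_F2U3_CARD3B

variable {F : Type*} [Field F]

/-- **F2U3-CARD3B**. -/
theorem card3B [Fintype F] {q k u : ℕ} (hF : Fintype.card F = q ^ 2) (hk : 2 ≤ k) (hu : Odd u)
    (hq : q - 1 = 2 ^ k * u) :
    (Nat.card ↥(Cfsg.SU 3 F q)).factorization 2 = k + 2 := by
  rw [card_SU3_eq hF]
  obtain ⟨j, rfl⟩ : ∃ j, k = j + 1 := ⟨k - 1, by omega⟩
  have hu1 : 1 ≤ u := by
    rcases hu with ⟨t, ht⟩; omega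
  have hpos : 1 ≤ 2 ^ (j + 1) * u := Nat.mul_pos (pow_pos (by norm_num) _) hu1
  have hq' : q = 2 ^ (j + 1) * u + 1 := by omega
  have hj : 1 ≤ j := by omega
  obtain ⟨i, rfl⟩ : ∃ i, j = i + 1 := ⟨j - 1, by omega⟩
  obtain ⟨s, hs⟩ : ∃ s, s = 2 ^ (i + 1) * u + 1 := ⟨_, rfl⟩
  have hsodd : Odd s := ⟨2 ^ i * u, by rw [hs]; ring⟩
  have hqodd : Odd q := ⟨2 ^ (i + 1) * u, by rw [hq']; ring⟩
  have hq1 : q + 1 = 2 * s := by rw [hq', hs]; ring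
  have e1 : q ^ 2 - 1 = 2 ^ (i + 1 + 1) * u * (q + 1) := by
    apply Nat.sub_eq_of_eq_add
    rw [hq']; ring
  have e2 : q ^ 3 + 1 = (q + 1) * (q * (2 ^ (i + 1 + 1) * u) + 1) := by
    rw [hq']; ring
  have e3 : q ^ 3 * ((q ^ 2 - 1) * (q ^ 3 + 1)) =
      2 ^ (i + 1 + 1 + 2) * (q ^ 3 * u * (s * s) * (q * (2 ^ (i + 1 + 1) * u) + 1)) := by
    rw [e1, e2, hq1]; ring
  rw [e3]
  apply factorization_two_pow_mul_odd
  refine (((hqodd.pow).mul hu).mul (hsodd.mul hsodd)).mul ⟨q * (2 ^ (i + 1) * u), by ring⟩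

end Cfsg.Agent.Lib.Helper84_F2U3_CARD3B
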