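import Mathlib
import Cfsg.Prelude.Def_FusionSystem
import Cfsg.Agent.Lib.Helper87_F2L3Defs

/-!
# S5318 package F2L3-IOTA (architect helper87): basic facts on `iota : GL₂(F) →* SL₃(F)` and `t3`.
-/

set_option autoImplicit false

open Matrix Cfsg.Agent.Lib.Helper87_F2L3

namespace Cfsg.Agent.Lib.Helper89_F2L3_IOTA

variable {F : Type*} [Field F]

theorem iota_injective : Function.Injective (iota (F := F)) := by
  intro A B h
  have h1 : iotaMat (A : Matrix (Fin 2) (Fin 2) F) = iotaMat (B : Matrix (Fin 2) (Fin 2) F) :=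
    congrArg Subtype.val h
  apply Units.ext
  ext i j
  have h00 := congrFun (congrFun h1 0) 0
  have h01 := congrFun (congrFun h1 0) 1
  have h10 := congrFun (congrFun h1 1) 0
  have h11 := congrFun (congrFun h1 1) 1
  simp only [iotaMat, Matrix.of_apply, Matrix.cons_val', Matrix.cons_val_zero, Matrix.cons_val_one,
    Matrix.cons_val_fin_one] at h00 h01 h10 h11
  fin_cases i <;> fin_cases j
  · exact h00
  · exact h01
  · exact h10
  · exact h11

theorem iota_neg_one : iota (-1 : GL (Fin 2) F) = t3 := by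
  apply Subtype.ext
  show iotaMat ((-1 : GL (Fin 2) F) : Matrix (Fin 2) (Fin 2) F) = _
  ext i j
  fin_cases i <;> fin_cases j <;> simp [iotaMat, t3, Matrix.det_fin_two]

theorem t3_mul_t3 : (t3 : SpecialLinearGroup (Fin 3) F) * t3 = 1 := by
  apply Subtype.ext
  show (t3 : SpecialLinearGroup (Fin 3) F).1 * (t3 : SpecialLinearGroup (Fin 3) F).1 = 1
  ext i j
  fin_cases i <;> fin_cases j <;> simp [t3, Matrix.mul_apply, Fin.sum_univ_three]

theorem t3_ne_one (h2 : (2 : F) ≠ 0) : (t3 : SpecialLinearGroup (Fin 3) F) ≠ 1 := by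
  intro h
  have h1 : (t3 : SpecialLinearGroup (Fin 3) F).1 0 0 = (1 : SpecialLinearGroup (Fin 3) F).1 0 0 := by
    rw [h]
  simp only [t3, Matrix.of_apply, Matrix.cons_val', Matrix.cons_val_zero, Matrix.cons_val_fin_one,
    Matrix.SpecialLinearGroup.coe_one, Matrix.one_apply_eq] at h1
  apply h2
  linear_combination (-1 : F) * h1

/-- **F2L3-IOTA**. -/
theorem iota_facts (h2 : (2 : F) ≠ 0) :
    Function.Injective (iota (F := F)) ∧ iota (-1 : GL (Fin 2) F) = t3 ∧
      (t3 : SpecialLinearGroup (Fin 3) F) * t3 = 1 ∧ (t3 : SpecialLinearGroup (Fin 3) F) ≠ 1 :=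
  ⟨iota_injective, iota_neg_one, t3_mul_t3, t3_ne_one h2⟩

end Cfsg.Agent.Lib.Helper89_F2L3_IOTA
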