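import Mathlib
import Cfsg.Prelude.Def_FusionSystem
import Cfsg.Prelude.Def_Classical
import Cfsg.Prelude.Def_LieClassical
import Cfsg.Agent.Lib.Helper87_F2L3Defs
import Cfsg.Agent.Lib.Helper87_F2U3Defs
import Cfsg.Agent.Lib.Helper89_F2L3_IOTA
import Cfsg.Agent.S2360

/-!
# S5319 / F2U3-INV (architect helper87): all involutions of `SU₃(q)` are conjugate to `t3` in `SU₃(q)`.
-/

set_option autoImplicit false

open Matrix Cfsg.Agent.Lib.Helper87_F2L3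

namespace Cfsg.Agent.Lib.Helper84_F2U3_INV

variable {F : Type*} [Field F]

/-- **F2U3-INV**. -/
theorem invol_conj_U [Fintype F] (q : ℕ) (hF : Fintype.card F = q ^ 2) (hq : Odd q)
    (ht3 : (t3 : SpecialLinearGroup (Fin 3) F) ∈ Cfsg.SU 3 F q)
    (u : SpecialLinearGroup (Fin 3) F) (hu : u ∈ Cfsg.SU 3 F q) (huu : u * u = 1) (hne : u ≠ 1) :
    ∃ g ∈ Cfsg.SU 3 F q, g * t3 * g⁻¹ = u := by
  have h2 : (2 : F) ≠ 0 := Cfsg.Agent.Lib.Helper13_SU3Inv.two_ne_zero_of_odd hF hq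
  obtain ⟨-, -, htt, ht1⟩ := Cfsg.Agent.Lib.Helper89_F2L3_IOTA.iota_facts h2
  obtain ⟨g, hg⟩ := Cfsg.Agent.S2360.conj_all hF hq
    (⟨t3, ht3⟩ : ↥(Cfsg.SU 3 F q)) (fun h => ht1 (congrArg Subtype.val h))
    (Subtype.ext htt) (⟨u, hu⟩ : ↥(Cfsg.SU 3 F q)) (fun h => hne (congrArg Subtype.val h))
    (Subtype.ext huu)
  exact ⟨g.1, g.2, congrArg Subtype.val hg⟩

end Cfsg.Agent.Lib.Helper84_F2U3_INV
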