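import Mathlib
import Cfsg.Prelude.Def_FusionSystem
import Cfsg.Agent.Lib.Helper87_F2L3Defs

/-!
# S5318 package F2L3-WEYL (architect helper87): a Weyl element of `SL₃(F)` conjugates
`iota (dg a b)` to `iota (dg a (a * b)⁻¹)`.
-/

set_option autoImplicit false

open Matrix Cfsg.Agent.Lib.Helper87_F2L3

namespace Cfsg.Agent.Lib.Helper89_F2L3_WEYL

variable {F : Type*} [Field F]

/-- The Weyl element `!![1,0,0; 0,0,1; 0,-1,0]` of `SL₃(F)`. -/
def wg : SpecialLinearGroup (Fin 3) F :=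
  ⟨!![1, 0, 0; 0, 0, 1; 0, -1, 0], by rw [Matrix.det_fin_three]; simp⟩

theorem wg_mul (a b : Fˣ) :
    (wg : SpecialLinearGroup (Fin 3) F) * iota (dg a b) = iota (dg a (a * b)⁻¹) * wg := by
  have ha : (a : F) ≠ 0 := a.ne_zero
  have hb : (b : F) ≠ 0 := b.ne_zero
  apply Subtype.ext
  show (wg : SpecialLinearGroup (Fin 3) F).1 * iotaMat ((dg a b : GL (Fin 2) F) : Matrix _ _ F) =
    iotaMat ((dg a (a * b)⁻¹ : GL (Fin 2) F) : Matrix _ _ F) * (wg : SpecialLinearGroup (Fin 3) F).1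
  ext i j
  fin_cases i <;> fin_cases j <;>
    simp [wg, iotaMat, dg, Matrix.mul_apply, Fin.sum_univ_three, Matrix.det_fin_two]
  field_simp

/-- **F2L3-WEYL**. -/
theorem weyl (a b : Fˣ) :
    ∃ g : SpecialLinearGroup (Fin 3) F, g * iota (dg a b) * g⁻¹ = iota (dg a (a * b)⁻¹) := by
  refine ⟨wg, ?_⟩
  rw [wg_mul, mul_assoc, mul_inv_cancel, mul_one]

end Cfsg.Agent.Lib.Helper89_F2L3_WEYL
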