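import Mathlib
import Cfsg.Prelude.Def_FusionSystem
import Cfsg.Prelude.Def_Classical
import Cfsg.Prelude.Def_LieClassical
import Cfsg.Agent.Lib.Helper87_F2L3Defs
import Cfsg.Agent.Lib.Helper87_F2U3Defs
import Cfsg.Agent.Lib.Helper89_F2L3_WEYL

/-!
# S5319 / F2U3-T3 (architect helper87): `t3` and the Weyl element `wg` are unitary.
-/

set_option autoImplicit false

open Matrix Cfsg.Agent.Lib.Helper87_F2L3

namespace Cfsg.Agent.Lib.Helper84_F2U3_T3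

variable {F : Type*} [Field F]

theorem t3_mem (q : ℕ) (hq : Odd q) : (t3 : SpecialLinearGroup (Fin 3) F) ∈ Cfsg.SU 3 F q := by
  intro u v
  have h1 : (-1 : F) ^ q = -1 := hq.neg_one_pow
  show Cfsg.hermForm 3 F q ((!![-1, 0, 0; 0, -1, 0; 0, 0, 1] : Matrix (Fin 3) (Fin 3) F) *ᵥ u)
    ((!![-1, 0, 0; 0, -1, 0; 0, 0, 1] : Matrix (Fin 3) (Fin 3) F) *ᵥ v) = _
  unfold Cfsg.hermForm
  simp only [Fin.sum_univ_three, Matrix.mulVec, dotProduct, Matrix.of_apply, Matrix.cons_val',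
    Matrix.cons_val_zero, Matrix.cons_val_one, Matrix.cons_val_two, Matrix.empty_val',
    Matrix.cons_val_fin_one, Matrix.head_cons, Matrix.tail_cons, Matrix.head_fin_const]
  simp only [neg_mul, one_mul, zero_mul, add_zero, zero_add]
  rw [neg_pow, neg_pow (v 1), h1]
  ring

theorem wg_mem (q : ℕ) (hq : Odd q) :
    (Cfsg.Agent.Lib.Helper89_F2L3_WEYL.wg : SpecialLinearGroup (Fin 3) F) ∈ Cfsg.SU 3 F q := by
  intro u v
  have h1 : (-1 : F) ^ q = -1 := hq.neg_one_pow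
  show Cfsg.hermForm 3 F q ((!![1, 0, 0; 0, 0, 1; 0, -1, 0] : Matrix (Fin 3) (Fin 3) F) *ᵥ u)
    ((!![1, 0, 0; 0, 0, 1; 0, -1, 0] : Matrix (Fin 3) (Fin 3) F) *ᵥ v) = _
  unfold Cfsg.hermForm
  simp only [Fin.sum_univ_three, Matrix.mulVec, dotProduct, Matrix.of_apply, Matrix.cons_val',
    Matrix.cons_val_zero, Matrix.cons_val_one, Matrix.cons_val_two, Matrix.empty_val',
    Matrix.cons_val_fin_one, Matrix.head_cons, Matrix.tail_cons, Matrix.head_fin_const]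
  simp only [neg_mul, one_mul, zero_mul, add_zero, zero_add]
  rw [neg_pow (v 1), h1]
  ring

theorem wg_not_comm (h2 : (2 : F) ≠ 0) :
    (Cfsg.Agent.Lib.Helper89_F2L3_WEYL.wg : SpecialLinearGroup (Fin 3) F) * t3 ≠
      t3 * Cfsg.Agent.Lib.Helper89_F2L3_WEYL.wg := by
  intro h
  have h' := congrArg (fun M : SpecialLinearGroup (Fin 3) F => (M : Matrix (Fin 3) (Fin 3) F) 1 2) h
  simp only [Matrix.SpecialLinearGroup.coe_mul] at h'
  simp [Cfsg.Agent.Lib.Helper89_F2L3_WEYL.wg, t3, Matrix.mul_apply, Fin.sum_univ_three] at h'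
  apply h2
  have : (1 : F) = -1 := h'
  linear_combination this

/-- **F2U3-T3**. -/
theorem t3_wg_mem (q : ℕ) (hq : Odd q) (h2 : (2 : F) ≠ 0) :
    (t3 : SpecialLinearGroup (Fin 3) F) ∈ Cfsg.SU 3 F q ∧
      ∃ w ∈ Cfsg.SU 3 F q, w * t3 ≠ t3 * w ∧
        ∀ a b : Fˣ, w * iota (dg a b) * w⁻¹ = iota (dg a (a * b)⁻¹) := by
  refine ⟨t3_mem q hq, Cfsg.Agent.Lib.Helper89_F2L3_WEYL.wg, wg_mem q hq, wg_not_comm h2, ?_⟩
  intro a b
  rw [Cfsg.Agent.Lib.Helper89_F2L3_WEYL.wg_mul, mul_assoc, mul_inv_cancel, mul_one]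

end Cfsg.Agent.Lib.Helper84_F2U3_T3
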