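import Cfsg.Agent.Lib.Helper84_FocRealized
import Cfsg.Agent.Lib.Helper84_ModelBiset
import Cfsg.Agent.S1970

/-!
# Focal subgroups: the constrained case (helper84)

Let `W` be a characteristic `p`-functor satisfying the local focal condition: for every finite group `G` with
`C_G(O_p(G)) ≤ O_p(G)` and Sylow subgroup `P`, `O_p(G) ∩ G' = O_p(G) ∩ N_G(W(P))'`.  Then for every saturated system
with a normal centric subgroup, the focal subgroup is the focal subgroup of the normalizer system of `W(S)`.
-/

set_option autoImplicit false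

namespace Cfsg.Agent.Lib.Helper84_FocConstrained

open Cfsg Cfsg.FusionSystem Cfsg.Agent.Lib Cfsg.Agent.Lib.Helper84_FocBasic Cfsg.Agent.Lib.Helper84_FocRealized
  Cfsg.Agent.Lib.Helper54_FunctorTransfer Cfsg.Agent.Lib.Helper34_NPC

universe u

/-- the local focal condition on the functor -/
def LocalHyp (p : ℕ) (W : ∀ (Q : Type u) [Group Q], Subgroup Q) : Prop :=
  ∀ (G : Type u) [Group G] [Finite G] (P : Sylow p G),
    Subgroup.centralizer ((Cfsg.pCore p G : Subgroup G) : Set G) ≤ Cfsg.pCore p G →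
    Cfsg.pCore p G ⊓ commutator G = Cfsg.pCore p G ⊓
      (commutator ↥(Subgroup.normalizer (((W ↥(P : Subgroup G)).map (P : Subgroup G).subtype : Subgroup G) : Set G))).map
        (Subgroup.normalizer (((W ↥(P : Subgroup G)).map (P : Subgroup G).subtype : Subgroup G) : Set G)).subtype

variable {p : ℕ} [Fact p.Prime] {W : ∀ (Q : Type u) [Group Q], Subgroup Q}

/-- under the local focal condition the functor controls transfer in every finite group -/
theorem fct_of_localHyp (hW : Cfsg.IsCharPFunctor.{u} p W) (hT : LocalHyp p W) (G : Type u) [Group G] [Finite G]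
    (T : Sylow p G) :
    (T : Subgroup G) ⊓ ⁅(⊤ : Subgroup G), ⊤⁆ ≤
      ⁅Subgroup.normalizer ((Cfsg.inducedFunctor W (T : Subgroup G) : Subgroup G) : Set G),
        Subgroup.normalizer ((Cfsg.inducedFunctor W (T : Subgroup G) : Subgroup G) : Set G)⁆ := by
  have h𝓦 : ∀ W' ∈ ({W} : Set (∀ (Q : Type u) [Group Q], Subgroup Q)), Cfsg.IsCharPFunctor.{u} p W' := by
    intro W' hW'
    rw [Set.mem_singleton_iff] at hW'
    rw [hW']
    exact hW
  have h1 : FCT p {W} G := by
    refine Cfsg.Agent.S1970.main' hW ?_ _ G rfl (involves_self G)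
    intro K R hR hcen T'
    have h2 := hT (↥K ⧸ R.subgroupOf K) T' hcen
    rw [Subgroup.map_subtype_commutator] at h2
    exact h2
  have h3 := FCT.eq h𝓦 h1 T
  rw [DD_ind, iSup_singleton, top_inf_eq] at h3
  rw [h3]
  exact inf_le_right

/-- **The constrained case.** -/
theorem allFoc_of_normal_centric {Ω : Type u} [Group Ω] {S : Subgroup Ω} [Finite S]
    (hW : Cfsg.IsCharPFunctor.{u} p W) (hT : LocalHyp p W) (hS : IsPGroup p S) {F : FusionSystem S}
    (hF : F.IsSaturated p) {Q : Subgroup Ω} (hQn : F.IsNormal Q) (hQc : F.IsCentric Q) :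
    AllFoc F (nfoc F (Cfsg.inducedFunctor W S)) := by
  obtain ⟨G, _, ι, hM⟩ := Helper84_ModelBiset.Setup.exists_model ⟨hS, hF, hQn, hQc⟩
  obtain ⟨hfin, hreal, ⟨T, hTr⟩, -⟩ := hM
  exact allFoc_of_realized hS hW hreal T hTr (fct_of_localHyp hW hT G T)

end Cfsg.Agent.Lib.Helper84_FocConstrained
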