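import Cfsg.Agent.Lib.Helper84_KLBasic
import Cfsg.Agent.Lib.Helper87_Factor
import Cfsg.Agent.Lib.Helper88_Model
import Cfsg.Agent.Lib.Helper34_NPC

/-!
# Kessar–Linckelmann reduction: the realized case (helper84)

If a fusion system `F` over `S` is realized by a finite group `G` with Sylow subgroup the image of `S`, `W` is a
characteristic `p`-functor for which the normalizer of `W(P)` controls normal `p`-complements, and all automorphisms
of the normalizer system of `W(S)` have `p`-power order, then all automorphisms of `F` have `p`-power order.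
-/

set_option autoImplicit false

namespace Cfsg.Agent.Lib.Helper84_KLRealized

open Cfsg Cfsg.FusionSystem Cfsg.Agent.Lib.Helper87_Alperin Cfsg.Agent.Lib.Helper87_Alperin2
  Cfsg.Agent.Lib.Helper87_Factor Cfsg.Agent.Lib.Helper84_KLBasic Cfsg.Agent.Lib.Helper35_FrobeniusNPC
  Cfsg.Agent.Lib.Helper34_NPC

universe u

section realized

variable {Ω : Type*} [Group Ω] {S : Subgroup Ω} {G : Type*} [Group G] {ι : S →* G} {F : FusionSystem S}

/-- conjugation in `G` keeping the image of `P` inside the image of `S` is a map of the system -/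
theorem exists_isMapOn_of_conj (hreal : F.IsRealizedBy ι) {P : Subgroup Ω} (hP : P ≤ S) (g : G)
    (h : ∀ x ∈ P, g * extOn ι x * g⁻¹ ∈ ι.range) :
    ∃ f : Ω → Ω, IsMapOn F P f ∧ ∀ x ∈ P, extOn ι (f x) = g * extOn ι x * g⁻¹ := by
  obtain ⟨φ, hφS, hφ, hφg⟩ := Helper88_Model.IsRealizedBy.exists_mem_of_conj (E := F) hreal hP g
    (fun x => by
      have := h x x.2
      rwa [extOn_apply ι (hP x.2)] at this)
  refine ⟨extHom φ, isMapOn_extHom F hφ, fun x hx => ?_⟩
  rw [extHom_apply φ hx, extOn_apply ι (hφS ⟨x, hx⟩), extOn_apply ι (hP hx)]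
  exact hφg ⟨x, hx⟩

/-- every map of a realized system is conjugation in `G` -/
theorem exists_conj_of_isMapOn (hreal : F.IsRealizedBy ι) {P : Subgroup Ω} {f : Ω → Ω} (hf : IsMapOn F P f) :
    ∃ g : G, ∀ x ∈ P, extOn ι (f x) = g * extOn ι x * g⁻¹ := by
  obtain ⟨φ, hφ, hφf⟩ := hf
  obtain ⟨g, hg⟩ := Helper88_Model.IsRealizedBy.exists_conj_of_mem (E := F) hreal hφ
  refine ⟨g, fun x hx => ?_⟩
  have h1 := hg ⟨x, hx⟩
  rw [← hφf ⟨x, hx⟩, extOn_apply ι ((F.le_of_mem hφ).2 ⟨x, hx⟩), extOn_apply ι ((F.le_of_mem hφ).1 hx)]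
  exact h1

theorem extOn_injOn (hι : Function.Injective ι) {x y : Ω} (hx : x ∈ S) (hy : y ∈ S)
    (h : extOn ι x = extOn ι y) : x = y := by
  rw [extOn_apply ι hx, extOn_apply ι hy] at h
  exact congrArg Subtype.val (hι h)

theorem extOn_mem_range (ι : S →* G) {x : Ω} (hx : x ∈ S) : extOn ι x ∈ ι.range := by
  rw [extOn_apply ι hx]
  exact ⟨_, rfl⟩

/-- iterates of a self-map realized by `g` are realized by the powers of `g` -/
theorem extOn_iterate {P : Subgroup Ω} {f : Ω → Ω} {g : G} (hfP : ∀ x ∈ P, f x ∈ P)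
    (h : ∀ x ∈ P, extOn ι (f x) = g * extOn ι x * g⁻¹) (n : ℕ) :
    ∀ x ∈ P, extOn ι (f^[n] x) = g ^ n * extOn ι x * (g ^ n)⁻¹ := by
  induction n with
  | zero => intro x _; simp
  | succ n ih =>
    intro x hx
    rw [Function.iterate_succ_apply, ih (f x) (hfP x hx), h x hx, pow_succ]
    simp only [mul_inv_rev]
    group

end realized

section main

variable {Ω : Type u} [Group Ω] {S : Subgroup Ω} {G : Type u} [Group G] {ι : S →* G} {F : FusionSystem S}
  {p : ℕ} {W : ∀ (Q : Type u) [Group Q], Subgroup Q}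

/-- the functor evaluated at the image of `S` -/
theorem mem_inducedFunctor_range [Finite S] (hW : Cfsg.IsCharPFunctor.{u} p W) (hS : IsPGroup p S)
    (hι : Function.Injective ι) {y : Ω} (hy : y ∈ S) :
    extOn ι y ∈ Cfsg.inducedFunctor W ι.range ↔ y ∈ Cfsg.inducedFunctor W S := by
  have hfin : Finite (⊤ : Subgroup S) := inferInstance
  have hp : IsPGroup p (⊤ : Subgroup S) := hS.to_subgroup ⊤
  have h1 := inducedFunctor_map hW ι (⊤ : Subgroup S) hp (fun x _ hx => by
    apply hι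
    rw [hx, map_one])
  have h2 := inducedFunctor_map hW S.subtype (⊤ : Subgroup S) hp (fun x _ hx => by
    apply S.subtype_injective
    rw [hx, map_one])
  have e1 : (⊤ : Subgroup S).map ι = ι.range := (MonoidHom.range_eq_map ι).symm
  have e2 : (⊤ : Subgroup S).map S.subtype = S := by
    rw [← MonoidHom.range_eq_map, Subgroup.range_subtype]
  rw [e1] at h1
  rw [e2] at h2
  rw [h1, h2, extOn_apply ι hy]
  constructor
  · rintro ⟨z, hz, hzy⟩
    have : z = ⟨y, hy⟩ := hι hzy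
    subst this
    exact ⟨_, hz, rfl⟩
  · rintro ⟨z, hz, hzy⟩
    have : z = ⟨y, hy⟩ := Subtype.ext hzy
    subst this
    exact ⟨_, hz, rfl⟩

theorem inducedFunctor_le_of_le [Finite S] (hW : Cfsg.IsCharPFunctor.{u} p W) (hS : IsPGroup p S) :
    S ≤ Subgroup.normalizer ((Cfsg.inducedFunctor W S : Subgroup Ω) : Set Ω) :=
  Subgroup.le_normalizer.trans (normalizer_le_normalizer_inducedFunctor hW S hS)

/-- **The realized case.** -/
theorem pInner_of_realized [Finite S] [Fact p.Prime] (hS : IsPGroup p S)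
    (hW : Cfsg.IsCharPFunctor.{u} p W)
    (hG : ∀ (L : Type u) [Group L] [Finite L] (P : Sylow p L),
      Cfsg.HasNormalPComplement p ↥(Subgroup.normalizer ((Cfsg.inducedFunctor W (P : Subgroup L) : Subgroup L) : Set L)) →
      Cfsg.HasNormalPComplement p L)
    [Finite G] (hreal : F.IsRealizedBy ι) (T : Sylow p G) (hT : (T : Subgroup G) = ι.range)
    (hN : NInner F (Cfsg.inducedFunctor W S) p) : PInner F p := by
  have hι : Function.Injective ι := hreal.1
  set W₀ : Subgroup Ω := Cfsg.inducedFunctor W S with hW₀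
  have hW₀S : W₀ ≤ S := inducedFunctor_le W S
  have hSW₀ : S ≤ normalizerIn S W₀ := le_inf le_rfl (inducedFunctor_le_of_le hW hS)
  set V : Subgroup G := Cfsg.inducedFunctor W (T : Subgroup G) with hV
  have hVmem : ∀ y ∈ S, (extOn ι y ∈ V ↔ y ∈ W₀) := by
    intro y hy
    rw [hV, hT]
    exact mem_inducedFunctor_range hW hS hι hy
  have hVT : V ≤ T := inducedFunctor_le W _
  have hfinT : Finite (T : Subgroup G) := inferInstance
  have hTV : (T : Subgroup G) ≤ Subgroup.normalizer (V : Set G) :=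
    Subgroup.le_normalizer.trans (normalizer_le_normalizer_inducedFunctor hW (T : Subgroup G) T.2)
  -- the normalizer of `V` has a normal `p`-complement
  have hM : FrobHyp p ↥(Subgroup.normalizer (V : Set G)) := by
    apply frobHyp_of_le_sylow (T.subtype hTV)
    intro Q hQT g hg hgo
    -- the preimage of `Q` in `S`
    set QG : Subgroup G := Q.map (Subgroup.normalizer (V : Set G)).subtype with hQG
    have hQGT : QG ≤ T := by
      rintro _ ⟨q, hq, rfl⟩
      have := hQT hq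
      rw [Sylow.coe_subtype, Subgroup.mem_subgroupOf] at this
      exact this
    set Q₀ : Subgroup Ω := (QG.comap ι).map S.subtype with hQ₀
    have hQ₀S : Q₀ ≤ S := by
      rintro _ ⟨s, -, rfl⟩
      exact s.2
    have hQ₀mem : ∀ y ∈ S, (y ∈ Q₀ ↔ extOn ι y ∈ QG) := by
      intro y hy
      rw [extOn_apply ι hy]
      constructor
      · rintro ⟨s, hs, hsy⟩
        have : s = ⟨y, hy⟩ := Subtype.ext hsy
        subst this
        exact hs
      · intro h
        exact ⟨⟨y, hy⟩, h, rfl⟩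
    have hgQG : ∀ z ∈ QG, (g : G) * z * (g : G)⁻¹ ∈ QG := by
      rintro _ ⟨q, hq, rfl⟩
      refine ⟨g * q * g⁻¹, (Subgroup.mem_normalizer_iff.1 hg q).1 hq, ?_⟩
      simp
    have hgV : ∀ z ∈ V, (g : G) * z * (g : G)⁻¹ ∈ V := fun z hz =>
      (Subgroup.mem_normalizer_iff.1 g.2 z).1 hz
    -- conjugation by `g` on `Q₀ ⊔ W₀`
    have hD : Q₀ ⊔ W₀ ≤ S := sup_le hQ₀S hW₀S
    have hconj : ∀ x ∈ Q₀ ⊔ W₀, (g : G) * extOn ι x * (g : G)⁻¹ ∈ ι.range := by
      let K : Subgroup Ω := (((ι.range).comap ((MulAut.conj (g : G)).toMonoidHom.comp ι))).map S.subtype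
      have hK : ∀ y ∈ S, (y ∈ K ↔ (g : G) * extOn ι y * (g : G)⁻¹ ∈ ι.range) := by
        intro y hy
        rw [extOn_apply ι hy]
        constructor
        · rintro ⟨s, hs, hsy⟩
          have : s = ⟨y, hy⟩ := Subtype.ext hsy
          subst this
          exact hs
        · intro h
          exact ⟨⟨y, hy⟩, h, rfl⟩
      have hle : Q₀ ⊔ W₀ ≤ K := by
        apply sup_le
        · intro y hy
          rw [hK y (hQ₀S hy), ← hT]
          exact hQGT (hgQG _ ((hQ₀mem y (hQ₀S hy)).1 hy))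
        · intro y hy
          rw [hK y (hW₀S hy), ← hT]
          exact hVT (hgV _ ((hVmem y (hW₀S hy)).2 hy))
      intro x hx
      exact (hK x (hD hx)).1 (hle hx)
    obtain ⟨f, hf, hfg⟩ := exists_isMapOn_of_conj hreal hD (g : G) hconj
    have hfS : ∀ x ∈ Q₀ ⊔ W₀, f x ∈ S := fun x hx => hf.mem hx
    have hfQ₀ : ∀ x ∈ Q₀, f x ∈ Q₀ := by
      intro x hx
      have hx' : x ∈ Q₀ ⊔ W₀ := (le_sup_left : Q₀ ≤ Q₀ ⊔ W₀) hx
      rw [hQ₀mem _ (hfS x hx'), hfg x hx']
      exact hgQG _ ((hQ₀mem x (hQ₀S hx)).1 hx)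
    have hfW₀ : ∀ x ∈ W₀, f x ∈ W₀ := by
      intro x hx
      have hx' : x ∈ Q₀ ⊔ W₀ := (le_sup_right : W₀ ≤ Q₀ ⊔ W₀) hx
      rw [← hVmem _ (hfS x hx'), hfg x hx']
      exact hgV _ ((hVmem x (hW₀S hx)).2 hx)
    have hnm : NMap F W₀ Q₀ f :=
      ⟨hf.mono le_sup_left, hQ₀S.trans hSW₀, fun x hx => hSW₀ (hQ₀S (hfQ₀ x hx)), Q₀ ⊔ W₀, f, le_sup_left,
        le_sup_right, hf, fun _ _ => rfl, hfW₀⟩
    obtain ⟨k, hk⟩ := hN Q₀ f hnm hfQ₀
    -- `g ^ p ^ k` centralizes `QG`
    have hit := extOn_iterate (ι := ι) hfQ₀ (fun x hx => hfg x ((le_sup_left : Q₀ ≤ Q₀ ⊔ W₀) hx)) (p ^ k)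
    have hcent : ∀ z ∈ QG, (g : G) ^ p ^ k * z = z * (g : G) ^ p ^ k := by
      intro z hz
      obtain ⟨s, rfl⟩ : z ∈ ι.range := hT ▸ hQGT hz
      have hsQ₀ : (s : Ω) ∈ Q₀ := (hQ₀mem _ s.2).2 (by rw [extOn_coe]; exact hz)
      have h1 := hit _ hsQ₀
      rw [hk _ hsQ₀, extOn_coe] at h1
      calc (g : G) ^ p ^ k * ι s = ((g : G) ^ p ^ k * ι s * ((g : G) ^ p ^ k)⁻¹) * (g : G) ^ p ^ k := by group
        _ = ι s * (g : G) ^ p ^ k := by rw [← h1]
    have hgo' : (p ^ k).Coprime (orderOf (g : G)) := by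
      rw [Subgroup.orderOf_coe]
      exact Nat.Coprime.pow_left k hgo.symm
    obtain ⟨m, hm⟩ := exists_pow_eq_self_of_coprime hgo'
    rw [Subgroup.mem_centralizer_iff]
    intro q hq
    apply Subtype.ext
    have hqG : (q : G) ∈ QG := ⟨q, hq, rfl⟩
    have hcm : ∀ n : ℕ, (q : G) * ((g : G) ^ p ^ k) ^ n = ((g : G) ^ p ^ k) ^ n * (q : G) := by
      intro n
      induction n with
      | zero => simp
      | succ n ih =>
        rw [pow_succ, ← mul_assoc, ih, mul_assoc, ← hcent _ hqG, mul_assoc]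
    have := hcm m
    rw [hm] at this
    exact this
  have hM2 : Cfsg.HasNormalPComplement p ↥(Subgroup.normalizer (V : Set G)) :=
    (Cfsg.Agent.S0072.hasNPC_iff p).2 (hasNPC_of_frobHyp hM)
  have hG2 : FrobHyp p G := frobHyp_of_hasNPC ((Cfsg.Agent.S0072.hasNPC_iff p).1 (hG G T hM2))
  -- all automorphisms of `F` have `p`-power order
  intro P f hf hfP
  have hPS : P ≤ S := hf.le
  obtain ⟨g, hg⟩ := exists_conj_of_isMapOn hreal hf
  obtain ⟨a, m, hm, hgm⟩ := Nat.exists_eq_pow_mul_and_not_dvd (orderOf_pos g).ne' p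
    (Nat.Prime.ne_one Fact.out)
  have hmc : m.Coprime p := ((Nat.Prime.coprime_iff_not_dvd Fact.out).2 hm).symm
  set PG : Subgroup G := (P.subgroupOf S).map ι with hPG
  have hPGmem : ∀ y ∈ P, extOn ι y ∈ PG := by
    intro y hy
    rw [extOn_apply ι (hPS hy)]
    exact ⟨⟨y, hPS hy⟩, Subgroup.mem_subgroupOf.2 hy, rfl⟩
  have hPGp : IsPGroup p PG := (hS.to_subgroup _).map ι
  have hit := extOn_iterate (ι := ι) hfP hg
  have hfin : Finite P := Finite.of_injective (Subgroup.inclusion hPS) (Subgroup.inclusion_injective hPS)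
  -- `f` is a bijection of `P`
  have hsurj : ∀ y ∈ P, ∃ x ∈ P, f x = y := by
    intro y hy
    let e : P → P := fun x => ⟨f x, hfP x x.2⟩
    have hinj : Function.Injective e := by
      intro a b hab
      exact Subtype.ext (hf.injOn a.2 b.2 (congrArg Subtype.val hab))
    obtain ⟨x, hx⟩ := (Finite.injective_iff_bijective.1 hinj).2 ⟨y, hy⟩
    exact ⟨x, x.2, congrArg Subtype.val hx⟩
  have hgN : g ^ p ^ a ∈ Subgroup.normalizer (PG : Set G) := by
    have hpow : ∀ z ∈ PG, g ^ p ^ a * z * (g ^ p ^ a)⁻¹ ∈ PG := by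
      rintro _ ⟨s, hs, rfl⟩
      have hsP : (s : Ω) ∈ P := Subgroup.mem_subgroupOf.1 hs
      have := hit (p ^ a) _ hsP
      rw [extOn_coe] at this
      rw [← this]
      exact hPGmem _ (iterate_mem hfP _ hsP)
    have hcard : ∀ z ∈ PG, ∃ w ∈ PG, g ^ p ^ a * w * (g ^ p ^ a)⁻¹ = z := by
      rintro _ ⟨s, hs, rfl⟩
      have hsP : (s : Ω) ∈ P := Subgroup.mem_subgroupOf.1 hs
      -- `f^[p^a]` is surjective on `P`
      have hsurj' : ∀ n : ℕ, ∀ y ∈ P, ∃ x ∈ P, f^[n] x = y := by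
        intro n
        induction n with
        | zero => intro y hy; exact ⟨y, hy, rfl⟩
        | succ n ih =>
          intro y hy
          obtain ⟨x, hx, hxy⟩ := ih y hy
          obtain ⟨x', hx', hx'x⟩ := hsurj x hx
          exact ⟨x', hx', by rw [Function.iterate_succ_apply, hx'x, hxy]⟩
      obtain ⟨x, hx, hxs⟩ := hsurj' (p ^ a) _ hsP
      refine ⟨extOn ι x, hPGmem x hx, ?_⟩
      rw [← hit (p ^ a) x hx, hxs, extOn_coe]
    rw [Subgroup.mem_normalizer_iff]
    intro z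
    constructor
    · exact hpow z
    · intro hz
      obtain ⟨w, hw, hwz⟩ := hcard _ hz
      have : w = z := by
        have h1 : g ^ p ^ a * w * (g ^ p ^ a)⁻¹ = g ^ p ^ a * z * (g ^ p ^ a)⁻¹ := hwz
        exact mul_left_cancel (mul_right_cancel h1)
      rw [← this]
      exact hw
  have hgo : (orderOf (g ^ p ^ a)).Coprime p := by
    have h1 : orderOf (g ^ p ^ a) = m := by
      rw [orderOf_pow' g (pow_pos (Nat.Prime.pos Fact.out) a).ne', hgm,
        Nat.gcd_eq_right (dvd_mul_right _ _), Nat.mul_div_cancel_left _ (pow_pos (Nat.Prime.pos Fact.out) a)]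
    rw [h1]
    exact hmc
  have hgC := hG2 PG hPGp _ hgN hgo
  refine ⟨a, fun x hx => ?_⟩
  have h1 := hit (p ^ a) x hx
  have h2 : g ^ p ^ a * extOn ι x = extOn ι x * g ^ p ^ a :=
    ((Subgroup.mem_centralizer_iff.1 hgC) _ (hPGmem x hx)).symm
  have h3 : extOn ι (f^[p ^ a] x) = extOn ι x := by
    rw [h1, h2]
    group
  exact extOn_injOn hι (hPS (iterate_mem hfP _ hx)) (hPS hx) h3

end main

end Cfsg.Agent.Lib.Helper84_KLRealized
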