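import Cfsg.Agent.Lib.Helper84_KLBasic
import Cfsg.Agent.Lib.Helper88_Centric
import Cfsg.Agent.Lib.Helper84_FusionRS

/-!
# Kessar–Linckelmann reduction: transport to a fully normalized conjugate (helper84)

Every subgroup `V₀ ≤ S` has a fully normalized conjugate `V` with `|N_S(V₀)| ≤ |N_S(V)|` such that, if all
automorphisms of the normalizer system of `V` have `p`-power order, so do those of the normalizer system of `V₀`.
-/

set_option autoImplicit false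

namespace Cfsg.Agent.Lib.Helper84_KLTransport

open Cfsg Cfsg.FusionSystem Cfsg.Agent.Lib Cfsg.Agent.Lib.Helper87_Alperin Cfsg.Agent.Lib.Helper87_Alperin2
  Cfsg.Agent.Lib.Helper84_KLBasic Cfsg.Agent.Lib.Helper88_Centric

variable {Ω : Type*} [Group Ω] {S : Subgroup Ω}

theorem nInner_of_conj {F : FusionSystem S} {p : ℕ} {V₀ V : Subgroup Ω} {χ : Ω → Ω} (hV₀S : V₀ ≤ S)
    (hχ : IsMapOn F (normalizerIn S V₀) χ) (hχV : ∀ y, y ∈ V ↔ ∃ x ∈ V₀, χ x = y)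
    (hχN : ∀ x ∈ normalizerIn S V₀, χ x ∈ normalizerIn S V) (h : NInner F V p) : NInner F V₀ p := by
  rintro P f ⟨hf, hPN, hfN, D, g, hPD, hVD, hg, hgf, hgV⟩ hfP
  set N₀ := normalizerIn S V₀ with hN₀
  have hV₀N : V₀ ≤ N₀ := le_inf hV₀S Subgroup.le_normalizer
  set D₁ := P ⊔ V₀ with hD₁
  have hD₁N : D₁ ≤ N₀ := sup_le hPN hV₀N
  have hD₁D : D₁ ≤ D := sup_le hPD hVD
  -- `g` maps `D₁` into itself
  have hgD₁ : ∀ x ∈ D₁, g x ∈ D₁ := by
    let K : Subgroup Ω :=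
      { carrier := {x | x ∈ D ∧ g x ∈ D₁}
        one_mem' := ⟨D.one_mem, by rw [hg.map_one]; exact D₁.one_mem⟩
        mul_mem' := by
          rintro a b ⟨ha, ha'⟩ ⟨hb, hb'⟩
          exact ⟨D.mul_mem ha hb, by rw [hg.map_mul ha hb]; exact D₁.mul_mem ha' hb'⟩
        inv_mem' := by
          rintro a ⟨ha, ha'⟩
          exact ⟨D.inv_mem ha, by rw [hg.map_inv ha]; exact D₁.inv_mem ha'⟩ }
    have hPK : P ≤ K := fun x hx => ⟨hPD hx, by
      rw [hgf x hx]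
      exact (le_sup_left : P ≤ P ⊔ V₀) (hfP x hx)⟩
    have hVK : V₀ ≤ K := fun x hx => ⟨hVD hx, (le_sup_right : V₀ ≤ P ⊔ V₀) (hgV x hx)⟩
    intro x hx
    exact ((sup_le hPK hVK : D₁ ≤ K) hx).2
  -- images
  obtain ⟨N₀', hN₀', -⟩ := exists_isImage hχ
  obtain ⟨D₁', hD₁', -⟩ := exists_isImage (hχ.mono hD₁N)
  obtain ⟨P', hP', -⟩ := exists_isImage (hχ.mono hPN)
  obtain ⟨χ', hχ', hχ'χ, hχ'N, hχχ'⟩ := hχ.inv (Q := N₀') hN₀'
  have hD₁'N₀' : D₁' ≤ N₀' := by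
    intro y hy
    obtain ⟨x, hx, rfl⟩ := (hD₁' y).1 hy
    exact hN₀'.mem (hD₁N hx)
  have hP'D₁' : P' ≤ D₁' := by
    intro y hy
    obtain ⟨x, hx, rfl⟩ := (hP' y).1 hy
    exact hD₁'.mem ((le_sup_left : P ≤ P ⊔ V₀) hx)
  have hVD₁' : V ≤ D₁' := by
    intro y hy
    obtain ⟨x, hx, rfl⟩ := (hχV y).1 hy
    exact hD₁'.mem ((le_sup_right : V₀ ≤ P ⊔ V₀) hx)
  have hχ'D₁ : ∀ y ∈ D₁', χ' y ∈ D₁ := by
    intro y hy
    obtain ⟨x, hx, rfl⟩ := (hD₁' y).1 hy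
    rw [hχ'χ x (hD₁N hx)]
    exact hx
  have h1 : IsMapOn F D₁' (g ∘ χ') := (hχ'.mono hD₁'N₀').comp (hg.mono hD₁D) hχ'D₁
  have h2 : IsMapOn F D₁' (χ ∘ (g ∘ χ')) :=
    h1.comp hχ (fun y hy => hD₁N (hgD₁ _ (hχ'D₁ y hy)))
  set f' : Ω → Ω := χ ∘ (g ∘ χ') with hf'
  have hf'χ : ∀ x ∈ D₁, f' (χ x) = χ (g x) := by
    intro x hx
    show χ (g (χ' (χ x))) = χ (g x)
    rw [hχ'χ x (hD₁N hx)]
  have hf'P' : ∀ y ∈ P', f' y ∈ P' := by
    intro y hy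
    obtain ⟨x, hx, rfl⟩ := (hP' y).1 hy
    rw [hf'χ x ((le_sup_left : P ≤ P ⊔ V₀) hx), hgf x hx]
    exact hP'.mem (hfP x hx)
  have hf'V : ∀ y ∈ V, f' y ∈ V := by
    intro y hy
    obtain ⟨x, hx, rfl⟩ := (hχV y).1 hy
    rw [hf'χ x ((le_sup_right : V₀ ≤ P ⊔ V₀) hx)]
    exact (hχV _).2 ⟨g x, hgV x hx, rfl⟩
  have hP'N : P' ≤ normalizerIn S V := by
    intro y hy
    obtain ⟨x, hx, rfl⟩ := (hP' y).1 hy
    exact hχN x (hPN hx)
  have hnm : NMap F V P' f' :=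
    ⟨h2.mono hP'D₁', hP'N, fun y hy => hP'N (hf'P' y hy), D₁', f', hP'D₁', hVD₁', h2, fun _ _ => rfl, hf'V⟩
  obtain ⟨k, hk⟩ := h P' f' hnm hf'P'
  refine ⟨k, fun x hx => ?_⟩
  have hit : ∀ n : ℕ, ∀ x ∈ P, f'^[n] (χ x) = χ (f^[n] x) := by
    intro n
    induction n with
    | zero => intro x _; rfl
    | succ n ih =>
      intro x hx
      rw [Function.iterate_succ_apply, Function.iterate_succ_apply,
        hf'χ x ((le_sup_left : P ≤ P ⊔ V₀) hx), hgf x hx, ih (f x) (hfP x hx)]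
  have h3 := hit (p ^ k) x hx
  rw [hk _ (hP'.mem hx)] at h3
  exact (hχ.injOn (hPN hx) (hPN (iterate_mem hfP _ hx)) h3).symm

/-- **Transport to a fully normalized conjugate.** -/
theorem exists_fullyNormalized_transport [Finite S] {p : ℕ} [Fact p.Prime] (hS : IsPGroup p S)
    {F : FusionSystem S} (hF : F.IsSaturated p) {V₀ : Subgroup Ω} (hV₀ : V₀ ≤ S) :
    ∃ V : Subgroup Ω, F.IsFullyNormalized V ∧ (V₀ ≠ ⊥ → V ≠ ⊥) ∧
      Nat.card (normalizerIn S V₀) ≤ Nat.card (normalizerIn S V) ∧ (NInner F V p → NInner F V₀ p) := by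
  obtain ⟨V, hconj, hVn⟩ := Helper84_FusionRS.exists_isFullyNormalized_conj F hV₀
  have hVa := Helper84_FusionRS.IsSaturated.isFullyAutomized hS hF hVn
  have hVr := Helper84_FusionRS.IsSaturated.isReceptive_of_isFullyNormalized hS hF hVn
  obtain ⟨φ, hφ, hφN, hφV⟩ := Helper84_FusionSat.exists_normalizer_map hS F hVa hVr hconj
  have hχ : IsMapOn F (normalizerIn S V₀) (extHom φ) := isMapOn_extHom F hφ
  have hV₀N : V₀ ≤ normalizerIn S V₀ := le_inf hV₀ Subgroup.le_normalizer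
  have hχV : ∀ y, y ∈ V ↔ ∃ x ∈ V₀, extHom φ x = y := by
    intro y
    rw [← hφV, Helper85_Fusion.mem_map_subgroupOf]
    constructor
    · rintro ⟨z, hz, hzD, rfl⟩
      exact ⟨z, hz, extHom_apply φ hzD⟩
    · rintro ⟨x, hx, rfl⟩
      exact ⟨x, hx, hV₀N hx, (extHom_apply φ (hV₀N hx)).symm⟩
  have hχN : ∀ x ∈ normalizerIn S V₀, extHom φ x ∈ normalizerIn S V := by
    intro x hx
    rw [extHom_apply φ hx]
    exact hφN _
  refine ⟨V, hVn, ?_, ?_, nInner_of_conj hV₀ hχ hχV hχN⟩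
  · intro hne hV
    apply hne
    rw [Subgroup.eq_bot_iff_forall]
    intro x hx
    have h1 : extHom φ x ∈ V := (hχV _).2 ⟨x, hx, rfl⟩
    rw [hV, Subgroup.mem_bot] at h1
    have h2 : extHom φ x = extHom φ 1 := by rw [h1, hχ.map_one]
    exact hχ.injOn (hV₀N hx) (Subgroup.one_mem _) h2
  · have : Finite (normalizerIn S V) := Helper84_FusionRS.finite_of_le_S inf_le_left
    exact Nat.card_le_card_of_injective (fun x : normalizerIn S V₀ => (⟨φ x, hφN x⟩ : normalizerIn S V))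
      (fun a b hab => F.injective_of_mem hφ (congrArg Subtype.val hab))

end Cfsg.Agent.Lib.Helper84_KLTransport
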