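import Cfsg.Agent.Lib.Helper84_KLQuot
import Cfsg.Agent.Lib.Helper84_KLTransport
import Cfsg.Agent.Lib.Helper84_KLRealized
import Cfsg.Agent.Lib.Helper84_ModelBiset
import Cfsg.Agent.S5098
import Cfsg.Agent.S5132
import Cfsg.Agent.S5133
import Cfsg.Agent.S5134

/-!
# Kessar–Linckelmann reduction: the main induction (helper84)

Let `W` be a characteristic `p`-functor such that for every finite group `L` with Sylow `p`-subgroup `P`, if
`N_L(W(P))` has a normal `p`-complement then so has `L`.  Then for every saturated fusion system `F` over a finite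
`p`-group `S`: if all automorphisms of `N_F(W(S))` have `p`-power order, then all automorphisms of `F` have `p`-power
order (that is, `F` is the inner system).
-/

set_option autoImplicit false

namespace Cfsg.Agent.Lib.Helper84_KLMain

open Cfsg Cfsg.FusionSystem Cfsg.Agent.Lib Cfsg.Agent.Lib.Helper87_Alperin Cfsg.Agent.Lib.Helper87_Alperin2
  Cfsg.Agent.Lib.Helper87_Factor Cfsg.Agent.Lib.Helper87_Factor2
  Cfsg.Agent.Lib.Helper84_KLBasic Cfsg.Agent.Lib.Helper84_KLQuot Cfsg.Agent.Lib.Helper84_KLTransport
  Cfsg.Agent.Lib.Helper84_KLRealized Cfsg.Agent.Lib.Helper34_NPC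

universe u

/-- the group-theoretic hypothesis on the functor -/
def GroupHyp (p : ℕ) (W : ∀ (Q : Type u) [Group Q], Subgroup Q) : Prop :=
  ∀ (L : Type u) [Group L] [Finite L] (P : Sylow p L),
    Cfsg.HasNormalPComplement p ↥(Subgroup.normalizer ((Cfsg.inducedFunctor W (P : Subgroup L) : Subgroup L) : Set L)) →
    Cfsg.HasNormalPComplement p L

/-- the statement for systems over groups of order `n` -/
def Stmt (p : ℕ) (W : ∀ (Q : Type u) [Group Q], Subgroup Q) (n : ℕ) : Prop :=
  ∀ (Ω : Type u) [Group Ω] (S : Subgroup Ω) [Finite S], Nat.card S = n → IsPGroup p S →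
    ∀ F : FusionSystem S, F.IsSaturated p → NInner F (Cfsg.inducedFunctor W S) p → PInner F p

variable {p : ℕ} [Fact p.Prime] {W : ∀ (Q : Type u) [Group Q], Subgroup Q}

/-- the constrained case -/
theorem pInner_of_normal_centric {Ω : Type u} [Group Ω] {S : Subgroup Ω} [Finite S]
    (hW : Cfsg.IsCharPFunctor.{u} p W) (hG : GroupHyp p W) (hS : IsPGroup p S) {F : FusionSystem S}
    (hF : F.IsSaturated p) {Q : Subgroup Ω} (hQn : F.IsNormal Q) (hQc : F.IsCentric Q)
    (hN : NInner F (Cfsg.inducedFunctor W S) p) : PInner F p := by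
  obtain ⟨G, _, ι, hM⟩ := Helper84_ModelBiset.Setup.exists_model ⟨hS, hF, hQn, hQc⟩
  obtain ⟨hfin, hreal, ⟨T, hT⟩, -⟩ := hM
  exact pInner_of_realized hS hW hG hreal T hT hN

theorem isMapOn_of_normalizerSystem {Ω : Type u} [Group Ω] {S : Subgroup Ω} {F : FusionSystem S}
    {U : Subgroup Ω} {E : FusionSystem (normalizerIn S U)} (hE : F.IsNormalizerSystem U E)
    (P : Subgroup Ω) (f : Ω → Ω) (hf : IsMapOn E P f) : IsMapOn F P f := by
  obtain ⟨φ, hφ, hφf⟩ := hf
  rw [hE P] at hφ
  exact ⟨φ, hφ.1, hφf⟩

/-- systems with a nontrivial normal subgroup -/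
theorem lemmaB (hW : Cfsg.IsCharPFunctor.{u} p W) (hG : GroupHyp p W) (n : ℕ)
    (IH : ∀ m < n, Stmt p W m) {Ω : Type u} [Group Ω] :
    ∀ (j : ℕ) (S : Subgroup Ω) [Finite S], Nat.card S = n → IsPGroup p S → ∀ F : FusionSystem S,
      F.IsSaturated p → ∀ Q : Subgroup Ω, F.IsNormal Q → Q ≠ ⊥ → n - Nat.card Q = j →
      NInner F (Cfsg.inducedFunctor W S) p → PInner F p := by
  intro j
  induction j using Nat.strong_induction_on with
  | _ j ih =>
  intro S _ hcard hS F hF Q hQn hQne hj hN
  have hQS : Q ≤ S := hQn.1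
  by_cases hQeq : Q = S
  · -- `S` is normal and centric
    have hSn : F.IsNormal S := hQeq ▸ hQn
    have hfc := Helper84_FusionRS.IsSaturated.isFullyCentralized hS hF
      (Helper84_FusionAlperin.isFullyNormalized_S F)
    have hSc : F.IsCentric S :=
      Helper84_FusionEssential.isCentric_of_centralizerIn_le F hfc inf_le_left
    exact pInner_of_normal_centric hW hG hS hF hSn hSc hN
  · have hQsc : F.StronglyClosed Q := Helper84_FusionNormal.IsNormal.stronglyClosed hQn
    have hSQ : S ≤ Subgroup.normalizer (Q : Set Ω) := Helper84_FusionNormal.IsNormal.le_normalizer hQn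
    have hQnormal : (Q.subgroupOf S).Normal := (Subgroup.normal_subgroupOf_iff_le_normalizer hQS).2 hSQ
    obtain ⟨E, hE⟩ := Cfsg.Agent.S5132.result p hS F Q hQsc
    set θ : S →* S ⧸ Q.subgroupOf S := QuotientGroup.mk' (Q.subgroupOf S) with hθ
    have hker : ∀ s : S, θ s = 1 ↔ (s : Ω) ∈ Q := hE.2.1
    have hEsat : E.IsSaturated p :=
      Cfsg.Agent.S5133.result p hS F hF E θ (Cfsg.Agent.S5134.result p hS F hF Q hQsc θ E hE)
    have hfinQ : Finite Q := Helper84_FusionRS.finite_of_le_S hQS
    -- the quotient group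
    have hpquot : IsPGroup p (S ⧸ Q.subgroupOf S) := hS.to_quotient _
    have hpS' : IsPGroup p (⊤ : Subgroup (S ⧸ Q.subgroupOf S)) := hpquot.to_subgroup ⊤
    have hcardQ : 1 < Nat.card Q := by
      rw [Finite.one_lt_card_iff_nontrivial]
      exact (Subgroup.nontrivial_iff_ne_bot Q).2 hQne
    have hcardquot : Nat.card (S ⧸ Q.subgroupOf S) * Nat.card Q = n := by
      have h1 := Subgroup.card_eq_card_quotient_mul_card_subgroup (Q.subgroupOf S)
      have h2 : Nat.card (Q.subgroupOf S) = Nat.card Q :=
        Nat.card_congr (Subgroup.subgroupOfEquivOfLe hQS).toEquiv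
      rw [← hcard, h1, h2]
    have hcardS' : Nat.card (⊤ : Subgroup (S ⧸ Q.subgroupOf S)) < n := by
      rw [Subgroup.card_top]
      have hpos : 0 < Nat.card (S ⧸ Q.subgroupOf S) := Nat.card_pos
      nlinarith
    -- the functor on the quotient and its preimage
    set W' : Subgroup (S ⧸ Q.subgroupOf S) := Cfsg.inducedFunctor W (⊤ : Subgroup (S ⧸ Q.subgroupOf S))
      with hW'
    set R : Subgroup Ω := preimageAlong θ W' with hRdef
    have hRS : R ≤ S := preimageAlong_le θ W'
    have hQR : Q ≤ R := le_preimageAlong hker hQS W'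
    have hW'norm : ∀ g : S ⧸ Q.subgroupOf S, ∀ w ∈ W', g * w * g⁻¹ ∈ W' := by
      intro g w hw
      have h1 : g ∈ Subgroup.normalizer ((⊤ : Subgroup (S ⧸ Q.subgroupOf S)) : Set (S ⧸ Q.subgroupOf S)) := by
        rw [Subgroup.normalizer_eq_top]
        exact Subgroup.mem_top g
      have h2 := normalizer_le_normalizer_inducedFunctor hW (⊤ : Subgroup (S ⧸ Q.subgroupOf S)) hpS' h1
      exact (Subgroup.mem_normalizer_iff.1 h2 w).1 hw
    have hRconj : ∀ s ∈ S, ∀ x ∈ R, s * x * s⁻¹ ∈ R := by
      intro s hs x hx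
      rw [hRdef, mem_preimageAlong] at hx ⊢
      refine ⟨S.mul_mem (S.mul_mem hs hx.1) (S.inv_mem hs), ?_⟩
      rw [extOn_mul θ (S.mul_mem hs hx.1) (S.inv_mem hs), extOn_mul θ hs hx.1, extOn_inv θ hs]
      exact hW'norm _ _ hx.2
    have hR_norm : S ≤ Subgroup.normalizer (R : Set Ω) := Helper87_Normal.le_normalizer_of_conj_mem hRconj
    -- `R` is strictly larger than `Q`
    have hS'ne : (⊤ : Subgroup (S ⧸ Q.subgroupOf S)) ≠ ⊥ := by
      intro h
      apply hQeq
      apply le_antisymm hQS
      intro s hs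
      have h1 : θ ⟨s, hs⟩ ∈ (⊤ : Subgroup (S ⧸ Q.subgroupOf S)) := Subgroup.mem_top _
      rw [h, Subgroup.mem_bot] at h1
      exact (hker ⟨s, hs⟩).1 h1
    have hW'ne : W' ≠ ⊥ := inducedFunctor_ne_bot hW hpS' hS'ne
    have hQltR : Q < R := by
      refine lt_of_le_of_ne hQR ?_
      intro hQR'
      apply hW'ne
      rw [Subgroup.eq_bot_iff_forall]
      intro w hw
      obtain ⟨s, rfl⟩ := QuotientGroup.mk'_surjective (Q.subgroupOf S) w
      have hsR : (s : Ω) ∈ R := by
        rw [hRdef, mem_preimageAlong]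
        exact ⟨s.2, by rw [extOn_coe]; exact hw⟩
      rw [← hQR'] at hsR
      exact (hker s).2 hsR
    have hcardR : Nat.card Q < Nat.card R := Helper84_FusionAlperin.card_lt_card_of_lt hRS hQltR
    have hcardRS : Nat.card R ≤ n := hcard ▸ Helper84_FusionAlperin.card_le_card_S hRS
    -- the normalizer system of `R`
    have hN₂ : normalizerIn S R = S := le_antisymm inf_le_left (le_inf le_rfl hR_norm)
    have hRfn : F.IsFullyNormalized R := by
      refine ⟨hRS, fun R' _ => ?_⟩
      rw [hN₂]
      exact Helper84_FusionAlperin.card_le_card_S inf_le_left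
    have hE₂ := Helper85_Fusion.normalizerSystem_isNormalizerSystem F R hRS
    have hE₂sat : (Helper85_Fusion.normalizerSystem F R hRS).IsSaturated p :=
      Cfsg.Agent.S5098.result p hS F hF R hRfn _ hE₂
    have hE₂n : (Helper85_Fusion.normalizerSystem F R hRS).IsNormal R :=
      Helper88_Model.isNormal_of_isNormalizerSystem F hRS _ hE₂
    have hfin₂ : Finite (normalizerIn S R) := Helper84_FusionRS.finite_of_le_S inf_le_left
    have hcard₂ : Nat.card (normalizerIn S R) = n := by rw [hN₂]; exact hcard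
    have hp₂ : IsPGroup p (normalizerIn S R) := hS.to_le inf_le_left
    have hW₂ : Cfsg.inducedFunctor W (normalizerIn S R) = Cfsg.inducedFunctor W S := by rw [hN₂]
    have hN₂' : NInner (Helper85_Fusion.normalizerSystem F R hRS)
        (Cfsg.inducedFunctor W (normalizerIn S R)) p := by
      rw [hW₂]
      exact NInner.of_subsystem inf_le_left (isMapOn_of_normalizerSystem hE₂) hN
    have hRne : R ≠ ⊥ := fun h => hQne (le_bot_iff.1 (h ▸ hQR))
    have hNR : NInner F R p := by
      have := ih (n - Nat.card R) (by omega) (normalizerIn S R) hcard₂ hp₂ _ hE₂sat R hE₂n hRne rfl hN₂'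
      exact (pInner_normalizerSystem_iff hRS hE₂ p).1 this
    -- the factor system is inner
    have hEp : PInner E p :=
      IH _ hcardS' _ (⊤ : Subgroup (S ⧸ Q.subgroupOf S)) rfl hpS' E hEsat (nInner_factor hE W' hR_norm hNR)
    obtain ⟨hn1, hc1⟩ := isNormal_isCentric_sup_centralizerIn hS hF hQn hE hEp
    exact pInner_of_normal_centric hW hG hS hF hn1 hc1 hN

/-- **Main theorem of the reduction.** -/
theorem main (hW : Cfsg.IsCharPFunctor.{u} p W) (hG : GroupHyp p W) : ∀ n : ℕ, Stmt p W n := by
  intro n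
  induction n using Nat.strong_induction_on with
  | _ n IH =>
  intro Ω _ S _ hcard hS F hF hN
  have claim : ∀ k : ℕ, ∀ U : Subgroup Ω, U ≠ ⊥ → F.IsFullyNormalized U →
      Nat.card S - Nat.card (normalizerIn S U) = k → NInner F U p := by
    intro k
    induction k using Nat.strong_induction_on with
    | _ k ihk =>
    intro U hUne hUfn hk
    have hUS : U ≤ S := hUfn.1
    have hE := Helper85_Fusion.normalizerSystem_isNormalizerSystem F U hUS
    have hEsat : (Helper85_Fusion.normalizerSystem F U hUS).IsSaturated p :=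
      Cfsg.Agent.S5098.result p hS F hF U hUfn _ hE
    rw [← pInner_normalizerSystem_iff hUS hE p]
    have hTS : normalizerIn S U ≤ S := inf_le_left
    have hfinT : Finite (normalizerIn S U) := Helper84_FusionRS.finite_of_le_S hTS
    have hpT : IsPGroup p (normalizerIn S U) := hS.to_le hTS
    have hsub := isMapOn_of_normalizerSystem hE
    by_cases hT : normalizerIn S U = S
    · have hEn : (Helper85_Fusion.normalizerSystem F U hUS).IsNormal U :=
        Helper88_Model.isNormal_of_isNormalizerSystem F hUS _ hE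
      have hcardT : Nat.card (normalizerIn S U) = n := by rw [hT]; exact hcard
      have hWT : Cfsg.inducedFunctor W (normalizerIn S U) = Cfsg.inducedFunctor W S := by rw [hT]
      have hNE : NInner (Helper85_Fusion.normalizerSystem F U hUS)
          (Cfsg.inducedFunctor W (normalizerIn S U)) p := by
        rw [hWT]
        exact NInner.of_subsystem hTS hsub hN
      exact lemmaB hW hG n IH _ (normalizerIn S U) hcardT hpT _ hEsat U hEn hUne rfl hNE
    · have hTlt : normalizerIn S U < S := lt_of_le_of_ne hTS hT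
      have hcardT : Nat.card (normalizerIn S U) < n :=
        hcard ▸ Helper84_FusionAlperin.card_lt_card_of_lt le_rfl hTlt
      apply IH _ hcardT Ω (normalizerIn S U) rfl hpT _ hEsat
      have hV₀T : Cfsg.inducedFunctor W (normalizerIn S U) ≤ normalizerIn S U := inducedFunctor_le W _
      have hTne : normalizerIn S U ≠ ⊥ := fun h =>
        hUne (le_bot_iff.1 (h ▸ Helper87_Alperin.le_normalizerIn hUS))
      have hV₀ne : Cfsg.inducedFunctor W (normalizerIn S U) ≠ ⊥ := inducedFunctor_ne_bot hW hpT hTne
      obtain ⟨V, hVfn, hVne, hVcard, hVtr⟩ :=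
        exists_fullyNormalized_transport (p := p) hS hF (hV₀T.trans hTS)
      have h1 : normalizerIn S (normalizerIn S U) ≤
          normalizerIn S (Cfsg.inducedFunctor W (normalizerIn S U)) :=
        inf_le_inf_left _ (normalizer_le_normalizer_inducedFunctor hW (normalizerIn S U) hpT)
      have h2 : normalizerIn S U < normalizerIn S (normalizerIn S U) :=
        Helper84_FusionAlperin.lt_normalizerIn hS hTlt
      have h3 : Nat.card (normalizerIn S U) <
          Nat.card (normalizerIn S (Cfsg.inducedFunctor W (normalizerIn S U))) := by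
        have : Finite (normalizerIn S (Cfsg.inducedFunctor W (normalizerIn S U))) :=
          Helper84_FusionRS.finite_of_le_S inf_le_left
        exact (Helper84_FusionAlperin.card_lt_card_of_lt inf_le_left h2).trans_le
          (Subgroup.card_le_of_le h1)
      have h4 : Nat.card (normalizerIn S V) ≤ Nat.card S :=
        Helper84_FusionAlperin.card_le_card_S inf_le_left
      have hk' : Nat.card S - Nat.card (normalizerIn S V) < k := by omega
      have := ihk _ hk' V (hVne hV₀ne) hVfn rfl
      exact NInner.of_subsystem hTS hsub (hVtr this)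
  intro P f hf hfP
  by_cases hP : P = ⊥
  · subst hP
    refine ⟨0, fun x hx => ?_⟩
    rw [Subgroup.mem_bot] at hx
    subst hx
    simpa using hf.map_one
  · obtain ⟨V, hVfn, hVne, -, hVtr⟩ := exists_fullyNormalized_transport (p := p) hS hF hf.le
    have hNP : NInner F P p := hVtr (claim _ V (hVne hP) hVfn rfl)
    have hPN : P ≤ normalizerIn S P := Helper87_Alperin.le_normalizerIn hf.le
    exact hNP P f ⟨hf, hPN, fun x hx => hPN (hfP x hx), P, f, le_rfl, le_rfl, hf, fun _ _ => rfl, hfP⟩ hfP

/-! ### The equivalence -/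

/-- the normalizer systems of an inner system are inner -/
theorem normalizer_inner_of_inner {Ω : Type*} [Group Ω] {S : Subgroup Ω} {F : FusionSystem S}
    (h : ∀ P : Subgroup Ω, F.Hom P = (innerFusionSystem S).Hom P) (U : Subgroup Ω)
    (N : FusionSystem (normalizerIn S U)) (hN : F.IsNormalizerSystem U N) (P : Subgroup Ω) :
    N.Hom P = (innerFusionSystem (normalizerIn S U)).Hom P := by
  apply Set.Subset.antisymm
  · intro φ hφ
    rw [hN P] at hφ
    obtain ⟨hφF, hPN, hφN, ψ, hψ, hext, himg⟩ := hφ
    rw [h (P ⊔ U)] at hψ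
    obtain ⟨hDS, g, hg, hgψ⟩ := hψ
    refine ⟨hPN, g, ⟨hg, ?_⟩, fun x => ?_⟩
    · show g ∈ Subgroup.normalizer (U : Set Ω)
      rw [Subgroup.mem_normalizer_iff]
      intro u
      constructor
      · intro hu
        have := Helper85_Fusion.apply_mem_of_map_eq ψ himg u hu ((le_sup_right : U ≤ P ⊔ U) hu)
        rwa [hgψ] at this
      · intro hu
        obtain ⟨z, hz, hzD, hzu⟩ := Helper85_Fusion.exists_of_map_eq ψ himg _ hu
        rw [hgψ] at hzu
        have hzu' : g * z * g⁻¹ = g * u * g⁻¹ := hzu
        have : z = u := mul_left_cancel (mul_right_cancel hzu')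
        exact this ▸ hz
    · rw [← hext x, hgψ]
      rfl
  · exact Helper84_FusionAlperin.innerFusionSystem_le N P

/-- **Kessar–Linckelmann Theorem A in functor form**: if the normalizer system of `W(S)` is inner, the system is
inner. -/
theorem inner_of_normalizer_inner (hW : Cfsg.IsCharPFunctor.{u} p W) (hG : GroupHyp p W) {Ω : Type u} [Group Ω]
    {S : Subgroup Ω} [Finite S] (hS : IsPGroup p S) (F : FusionSystem S) (hF : F.IsSaturated p)
    (h : ∀ N : FusionSystem (normalizerIn S (Cfsg.inducedFunctor W S)),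
      F.IsNormalizerSystem (Cfsg.inducedFunctor W S) N →
      ∀ P : Subgroup Ω, N.Hom P = (innerFusionSystem (normalizerIn S (Cfsg.inducedFunctor W S))).Hom P) :
    ∀ P : Subgroup Ω, F.Hom P = (innerFusionSystem S).Hom P := by
  have hUS : Cfsg.inducedFunctor W S ≤ S := inducedFunctor_le W S
  have hN := Helper85_Fusion.normalizerSystem_isNormalizerSystem F _ hUS
  have h1 := h _ hN
  have hpN : IsPGroup p (normalizerIn S (Cfsg.inducedFunctor W S)) := hS.to_le inf_le_left
  have h2 : PInner (Helper85_Fusion.normalizerSystem F _ hUS) p := pInner_of_inner hpN h1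
  have h3 : NInner F (Cfsg.inducedFunctor W S) p := (pInner_normalizerSystem_iff hUS hN p).1 h2
  exact inner_of_pInner hS hF (main hW hG _ Ω S rfl hS F hF h3)

end Cfsg.Agent.Lib.Helper84_KLMain
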