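import Cfsg.Agent.Lib.Helper87_GTQuot
import Cfsg.Agent.Lib.Helper84_FusionRS
import Cfsg.Agent.S5132
import Cfsg.Agent.S5133
import Cfsg.Agent.S5134

/-!
Saturated fusion systems over a `2`-group in which every element is conjugate into the centre (helper87), after
E. Henke: the group `S` is abelian.  The elements of order at most two form an elementary abelian strongly closed
subgroup `T`; the hypothesis passes to the factor system modulo `T`; in the abelian quotient every map extends to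
an automorphism, which lifts to an automorphism of `S`, and this gives `S = Z(S) T`.
-/

set_option autoImplicit false
set_option linter.style.haveILetI false

universe u

namespace Cfsg.Agent.Lib.Helper87_Henke

open Cfsg Cfsg.FusionSystem Cfsg.Agent.Lib Cfsg.Agent.Lib.Helper87_Alperin Cfsg.Agent.Lib.Helper87_Alperin2
  Cfsg.Agent.Lib.Helper87_Normal Cfsg.Agent.Lib.Helper87_Factor Cfsg.Agent.Lib.Helper87_Factor2
  Cfsg.Agent.Lib.Helper87_GTQuot

variable {Ω : Type u} [Group Ω] {S : Subgroup Ω}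

theorem isFullyNormalized_of_le_normalizer [Finite S] (F : FusionSystem S) {P : Subgroup Ω} (hPS : P ≤ S)
    (hn : S ≤ Subgroup.normalizer (P : Set Ω)) : F.IsFullyNormalized P := by
  refine ⟨hPS, fun Q _ => ?_⟩
  have h1 : normalizerIn S P = S := le_antisymm (normalizerIn_le S P) (le_inf le_rfl hn)
  rw [h1]
  exact Subgroup.card_le_of_le (normalizerIn_le S Q)

/-- No automorphism in the system of the cyclic group generated by a central element `z` inverts `z`, unless `z`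
has order at most two. -/
theorem sq_eq_one_of_inverted_central [Finite S] (hS : IsPGroup 2 S) (F : FusionSystem S)
    (hF : F.IsSaturated 2) {z : Ω} (hz : z ∈ S ⊓ Subgroup.centralizer (S : Set Ω))
    {P : Subgroup Ω} (hP : P = Subgroup.zpowers z)
    (β : MulAut P) (hβ : IsMapOn F P (extFun β))
    (hβz : extFun β z = z⁻¹) : z * z = 1 := by
  classical
  haveI : Fact (Nat.Prime 2) := ⟨Nat.prime_two⟩
  have hzS : z ∈ S := hz.1
  have hzP : z ∈ P := by rw [hP]; exact Subgroup.mem_zpowers z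
  have hPS : P ≤ S := by rw [hP]; exact (Subgroup.zpowers_le).2 hzS
  haveI : Finite P := Finite.of_injective (Subgroup.inclusion hPS) (Subgroup.inclusion_injective hPS)
  have hPc : P ≤ Subgroup.centralizer (S : Set Ω) := by rw [hP]; exact (Subgroup.zpowers_le).2 hz.2
  have hconj : ∀ g ∈ S, ∀ x ∈ P, g * x * g⁻¹ = x := by
    intro g hg x hx
    have := (Subgroup.mem_centralizer_iff.1 (hPc hx)) g hg
    rw [this]
    group
  have hn : S ≤ Subgroup.normalizer (P : Set Ω) :=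
    le_normalizer_of_conj_mem fun g hg x hx => by rw [hconj g hg x hx]; exact hx
  have hfn : F.IsFullyNormalized P := isFullyNormalized_of_le_normalizer F hPS hn
  obtain ⟨-, R, hR⟩ := Helper84_FusionRS.IsSaturated.isFullyAutomized hS hF hfn
  have hbot : autInducedBy S P = ⊥ := by
    rw [eq_bot_iff]
    intro α hα
    obtain ⟨g, hg, hαg⟩ := (mem_autInducedBy_iff S P α).1 hα
    rw [Subgroup.mem_bot]
    ext x
    rw [hαg x, hconj g hg x x.2]
    rfl
  have hRbot : (R : Subgroup (F.autGroup P)) = ⊥ := by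
    rw [hR, hbot]
    exact Subgroup.bot_subgroupOf _
  have hβK : β ∈ F.autGroup P := (mem_autGroup_iff F hPS β).2 hβ
  let zg : P := ⟨z, hzP⟩
  have hβzg : β zg = zg⁻¹ := by
    apply Subtype.ext
    rw [← extFun_coe β zg]
    exact hβz
  have hβinv : ∀ x : P, β x = x⁻¹ := by
    intro x
    obtain ⟨n, hn⟩ := Subgroup.mem_zpowers_iff.1 (hP ▸ x.2 : (x : Ω) ∈ Subgroup.zpowers z)
    have hx : x = zg ^ n := Subtype.ext (by rw [Subgroup.coe_zpow]; exact hn.symm)
    rw [hx, map_zpow, hβzg, inv_zpow]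
  have hββ : β * β = 1 := by
    ext x
    rw [MulAut.mul_apply, hβinv, hβinv, inv_inv]
    rfl
  let β' : F.autGroup P := ⟨β, hβK⟩
  have hβ'2 : β' * β' = 1 := Subtype.ext hββ
  have hB : IsPGroup 2 (Subgroup.zpowers β') := by
    rintro ⟨g, hg⟩
    obtain ⟨n, rfl⟩ := Subgroup.mem_zpowers_iff.1 hg
    refine ⟨1, Subtype.ext ?_⟩
    show (β' ^ n) ^ 2 ^ 1 = 1
    rw [pow_one, ← zpow_natCast, ← zpow_mul, mul_comm, zpow_mul, zpow_natCast, pow_two, hβ'2, one_zpow]
  obtain ⟨χ, hχ⟩ := sylow_conj_into R hB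
  have h1 := hχ β' (Subgroup.mem_zpowers β')
  rw [hRbot, Subgroup.mem_bot] at h1
  have h2 : β' = 1 := by
    have : β' = χ⁻¹ * (χ * β' * χ⁻¹) * χ := by group
    rw [this, h1]
    group
  have h3 : β = 1 := congrArg Subtype.val h2
  rw [h3, extFun_apply _ hzP] at hβz
  have h4 : z = z⁻¹ := hβz
  calc z * z = z * z⁻¹ := by rw [← h4]
    _ = 1 := mul_inv_cancel z

/-- An element of `S` inverted by an element of `S` and conjugate in the system to a central element has order at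
most two. -/
theorem sq_eq_one_of_inverted [Finite S] (hS : IsPGroup 2 S) (F : FusionSystem S) (hF : F.IsSaturated 2)
    {a s z : Ω} (ha : a ∈ S) (hs : s ∈ S) (hz : z ∈ S ⊓ Subgroup.centralizer (S : Set Ω))
    (hconj : F.IsConjElt a z) (hinv : s * a * s⁻¹ = a⁻¹) : a * a = 1 := by
  classical
  set Pa := Subgroup.zpowers a with hPa
  set Pz := Subgroup.zpowers z with hPz
  obtain ⟨φ, hφ, hφa⟩ := hconj
  have hPaS : Pa ≤ S := (Subgroup.zpowers_le).2 ha
  have hPzS : Pz ≤ S := (Subgroup.zpowers_le).2 hz.1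
  haveI : Finite Pz := Finite.of_injective (Subgroup.inclusion hPzS) (Subgroup.inclusion_injective hPzS)
  have ht : IsMapOn F Pa (extHom φ) := isMapOn_extHom F hφ
  have hta : extHom φ a = z := by
    rw [extHom_apply φ (Subgroup.mem_zpowers a)]
    exact hφa
  have htpow : ∀ n : ℤ, extHom φ (a ^ n) = z ^ n := by
    intro n
    rw [extHom_apply φ (Subgroup.zpow_mem_zpowers a n)]
    have : (⟨a ^ n, Subgroup.zpow_mem_zpowers a n⟩ : Pa) = (⟨a, Subgroup.mem_zpowers a⟩ : Pa) ^ n :=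
      Subtype.ext (by rw [Subgroup.coe_zpow])
    rw [this, map_zpow, hφa]
  have himg : ∀ y, y ∈ Pz ↔ ∃ x ∈ Pa, extHom φ x = y := by
    intro y
    constructor
    · intro hy
      obtain ⟨n, rfl⟩ := Subgroup.mem_zpowers_iff.1 hy
      exact ⟨a ^ n, Subgroup.zpow_mem_zpowers a n, htpow n⟩
    · rintro ⟨x, hx, rfl⟩
      obtain ⟨n, rfl⟩ := Subgroup.mem_zpowers_iff.1 hx
      rw [htpow n]
      exact Subgroup.zpow_mem_zpowers z n
  obtain ⟨s', hs', hs't, hs'Pa, hts'⟩ := ht.inv himg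
  have hc : IsMapOn F Pa (fun x => s * x * s⁻¹) := IsMapOn.conj F hPaS hs
  have hcPa : ∀ x ∈ Pa, s * x * s⁻¹ ∈ Pa := by
    intro x hx
    obtain ⟨n, rfl⟩ := Subgroup.mem_zpowers_iff.1 hx
    have : s * a ^ n * s⁻¹ = (s * a * s⁻¹) ^ n := by rw [conj_zpow]
    rw [this, hinv, inv_zpow]
    exact Pa.inv_mem (Subgroup.zpow_mem_zpowers a n)
  have hf : IsMapOn F Pz (fun y => extHom φ (s * s' y * s⁻¹)) :=
    (hs'.comp hc hs'Pa).comp ht (fun y hy => hcPa _ (hs'Pa y hy))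
  have hfPz : ∀ y ∈ Pz, extHom φ (s * s' y * s⁻¹) ∈ Pz := fun y hy =>
    (himg _).2 ⟨_, hcPa _ (hs'Pa y hy), rfl⟩
  obtain ⟨β, hβ⟩ := exists_aut_of_isMapOn hf hfPz
  have hzPz : z ∈ Pz := Subgroup.mem_zpowers z
  have hβz : extFun β z = z⁻¹ := by
    rw [hβ z hzPz]
    show extHom φ (s * s' z * s⁻¹) = z⁻¹
    have h1 : s' z = a := by
      rw [← hta]
      exact hs't a (Subgroup.mem_zpowers a)
    rw [h1, hinv, ht.map_inv (Subgroup.mem_zpowers a), hta]
  have hzz := sq_eq_one_of_inverted_central hS F hF hz hPz β (hf.congr fun y hy => (hβ y hy).symm) hβz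
  have h2 : extHom φ (a * a) = extHom φ 1 := by
    rw [ht.map_mul (Subgroup.mem_zpowers a) (Subgroup.mem_zpowers a), hta, hzz, ht.map_one]
  exact ht.injOn (Pa.mul_mem (Subgroup.mem_zpowers a) (Subgroup.mem_zpowers a)) Pa.one_mem h2

/-- The elements of `S` of order at most two, when they are closed under multiplication. -/
def sqOne (S : Subgroup Ω)
    (h : ∀ x ∈ S, ∀ y ∈ S, x * x = 1 → y * y = 1 → (x * y) * (x * y) = 1) : Subgroup Ω where
  carrier := {x | x ∈ S ∧ x * x = 1}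
  one_mem' := ⟨S.one_mem, mul_one 1⟩
  mul_mem' := fun ha hb => ⟨S.mul_mem ha.1 hb.1, h _ ha.1 _ hb.1 ha.2 hb.2⟩
  inv_mem' := fun {x} ha => ⟨S.inv_mem ha.1, by
    have : x⁻¹ * x⁻¹ = (x * x)⁻¹ := by group
    rw [this, ha.2, inv_one]⟩

theorem mem_sqOne {S : Subgroup Ω}
    {h : ∀ x ∈ S, ∀ y ∈ S, x * x = 1 → y * y = 1 → (x * y) * (x * y) = 1} {x : Ω} :
    x ∈ sqOne S h ↔ x ∈ S ∧ x * x = 1 := Iff.rfl

theorem extOn_zpow {Ω' : Type*} [Group Ω'] (θ : S →* Ω') {x : Ω} (hx : x ∈ S) (n : ℤ) :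
    extOn θ (x ^ n) = extOn θ x ^ n := by
  rw [extOn_apply θ (S.zpow_mem hx n), extOn_apply θ hx, ← map_zpow]
  rfl

theorem imageAlong_zpowers {Ω' : Type*} [Group Ω'] (θ : S →* Ω') {x : Ω} (hx : x ∈ S) :
    imageAlong θ (Subgroup.zpowers x) = Subgroup.zpowers (extOn θ x) := by
  ext y
  rw [mem_imageAlong]
  constructor
  · rintro ⟨w, -, hw, rfl⟩
    obtain ⟨n, rfl⟩ := Subgroup.mem_zpowers_iff.1 hw
    rw [extOn_zpow θ hx]
    exact Subgroup.zpow_mem_zpowers _ n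
  · intro hy
    obtain ⟨n, rfl⟩ := Subgroup.mem_zpowers_iff.1 hy
    exact ⟨x ^ n, S.zpow_mem hx n, Subgroup.zpow_mem_zpowers x n, extOn_zpow θ hx n⟩

theorem hom_cast {Ω₀ : Type*} [Group Ω₀] {S₀ : Subgroup Ω₀} (E : FusionSystem S₀) {P P' : Subgroup Ω₀}
    (h : P = P') {φ : P →* Ω₀} (hφ : φ ∈ E.Hom P) :
    ∃ ψ ∈ E.Hom P', ∀ (x : Ω₀) (hx : x ∈ P) (hx' : x ∈ P'), ψ ⟨x, hx'⟩ = φ ⟨x, hx⟩ := by
  subst h
  exact ⟨φ, hφ, fun _ _ _ => rfl⟩

/-- The statement, for groups of order `n`. -/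
def HenkeStatement (n : ℕ) : Prop :=
  ∀ (Ω : Type u) [Group Ω] (S : Subgroup Ω) [Finite S], Nat.card S = n → IsPGroup 2 S →
    ∀ F : FusionSystem S, F.IsSaturated 2 →
      (∀ x ∈ S, ∃ z ∈ S ⊓ Subgroup.centralizer (S : Set Ω), F.IsConjElt x z) →
      ∀ a ∈ S, ∀ b ∈ S, a * b = b * a

theorem henke : ∀ n : ℕ, HenkeStatement.{u} n := by
  intro n
  induction n using Nat.strong_induction_on with
  | _ n IH =>
  intro Ω _ S _ hn hS F hF h
  subst hn
  classical
  haveI : Fact (Nat.Prime 2) := ⟨Nat.prime_two⟩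
  -- the elements of order at most two
  have hclosed : ∀ x ∈ S, ∀ y ∈ S, x * x = 1 → y * y = 1 → (x * y) * (x * y) = 1 := by
    intro x hx y hy hx2 hy2
    obtain ⟨z, hz, hconj⟩ := h (x * y) (S.mul_mem hx hy)
    refine sq_eq_one_of_inverted hS F hF (S.mul_mem hx hy) hx hz hconj ?_
    have hxi : x⁻¹ = x := inv_eq_of_mul_eq_one_left hx2
    have hyi : y⁻¹ = y := inv_eq_of_mul_eq_one_left hy2
    rw [mul_inv_rev, hxi, hyi, ← mul_assoc, hx2, one_mul]
  set T := sqOne S hclosed with hT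
  have hTS : T ≤ S := fun x hx => hx.1
  have hTcomm : ∀ x ∈ T, ∀ y ∈ T, x * y = y * x := by
    intro x hx y hy
    have h1 := (T.mul_mem hx hy).2
    have hxi : x⁻¹ = x := inv_eq_of_mul_eq_one_left hx.2
    have hyi : y⁻¹ = y := inv_eq_of_mul_eq_one_left hy.2
    calc x * y = (x * y)⁻¹ := (inv_eq_of_mul_eq_one_left h1).symm
      _ = y * x := by rw [mul_inv_rev, hxi, hyi]
  have hTsc : F.StronglyClosed T := by
    refine ⟨hTS, fun R hR φ hφ x => ⟨hom_mem F hφ x, ?_⟩⟩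
    have h1 := (hR x.2).2
    rw [← map_mul]
    have : x * x = 1 := Subtype.ext h1
    rw [this, map_one]
  intro a ha b hb
  by_cases hcard : Nat.card S = 1
  · have hsub : Subsingleton S := (Nat.card_eq_one_iff_unique.1 hcard).1
    have h1 : (⟨a, ha⟩ : S) = ⟨b, hb⟩ := Subsingleton.elim _ _
    have h2 : a = b := congrArg Subtype.val h1
    rw [h2]
  -- `T` is not trivial
  have hTne : T ≠ ⊥ := by
    have h2 : 2 ∣ Nat.card S := by
      obtain ⟨k, hk⟩ := (IsPGroup.iff_card.1 hS)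
      rw [hk]
      rcases k with _ | k
      · exact absurd hk (by simpa using hcard)
      · exact dvd_pow_self 2 (Nat.succ_ne_zero k)
    obtain ⟨x, hx⟩ := exists_prime_orderOf_dvd_card' 2 h2
    intro hbot
    have hxT : (x : Ω) ∈ T := by
      refine ⟨x.2, ?_⟩
      have h3 : x ^ 2 = 1 := by rw [← hx]; exact pow_orderOf_eq_one x
      have h4 : (x : Ω) ^ 2 = 1 := by rw [← Subgroup.coe_pow, h3]; rfl
      rw [← pow_two]
      exact h4
    rw [hbot, Subgroup.mem_bot] at hxT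
    have h5 : x = 1 := Subtype.ext hxT
    rw [h5, orderOf_one] at hx
    exact absurd hx (by norm_num)
  -- the factor system
  have hSn : S ≤ Subgroup.normalizer (T : Set Ω) := stronglyClosed_le_normalizer hTsc
  haveI hTnormal : (T.subgroupOf S).Normal := (Subgroup.normal_subgroupOf_iff_le_normalizer hTS).2 hSn
  obtain ⟨E, hE⟩ := Cfsg.Agent.S5132.result 2 hS F T hTsc
  set θ : S →* S ⧸ T.subgroupOf S := QuotientGroup.mk' (T.subgroupOf S) with hθ
  have hE' := hE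
  obtain ⟨-, hker, hrange, hEhom⟩ := hE'
  have hEsat : E.IsSaturated 2 :=
    Cfsg.Agent.S5133.result 2 hS F hF E θ (Cfsg.Agent.S5134.result 2 hS F hF T hTsc θ E hE)
  have hS'p : IsPGroup 2 (⊤ : Subgroup (S ⧸ T.subgroupOf S)) := (hS.to_quotient _).to_subgroup ⊤
  have hcardlt : Nat.card (⊤ : Subgroup (S ⧸ T.subgroupOf S)) < Nat.card S := by
    rw [Subgroup.card_top, Subgroup.card_eq_card_quotient_mul_card_subgroup (T.subgroupOf S)]
    have h1 : 0 < Nat.card (S ⧸ T.subgroupOf S) := Nat.card_pos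
    have h2 : 1 < Nat.card (T.subgroupOf S) := by
      rw [Subgroup.one_lt_card_iff_ne_bot]
      intro h
      apply hTne
      rw [Subgroup.subgroupOf_eq_bot] at h
      exact disjoint_self.1 (h.mono_right hTS)
    nlinarith
  have hsurj : ∀ y : S ⧸ T.subgroupOf S, ∃ x ∈ S, extOn θ x = y := by
    intro y
    have hy : y ∈ θ.range := by rw [hrange]; exact Subgroup.mem_top y
    exact exists_extOn_eq_of_mem_range hy
  -- the hypothesis passes to the factor system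
  have hEhyp : ∀ y ∈ (⊤ : Subgroup (S ⧸ T.subgroupOf S)),
      ∃ w ∈ (⊤ : Subgroup (S ⧸ T.subgroupOf S)) ⊓
        Subgroup.centralizer ((⊤ : Subgroup (S ⧸ T.subgroupOf S)) : Set (S ⧸ T.subgroupOf S)),
        E.IsConjElt y w := by
    intro y _
    obtain ⟨x, hxS, rfl⟩ := hsurj y
    obtain ⟨z, hz, φ, hφ, hφx⟩ := h x hxS
    refine ⟨extOn θ z, Subgroup.mem_inf.2 ⟨Subgroup.mem_top _, ?_⟩, ?_⟩
    · rw [Subgroup.mem_centralizer_iff]
      intro w _
      obtain ⟨v, hvS, rfl⟩ := hsurj w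
      rw [← extOn_mul θ hvS hz.1, ← extOn_mul θ hz.1 hvS, (Subgroup.mem_centralizer_iff.1 hz.2) v hvS]
    · obtain ⟨φ', hφ', hφ'θ⟩ := exists_induced_hom F hS hF hTsc hE hφ
      obtain ⟨ψ, hψ, hψf⟩ := hom_cast E (imageAlong_zpowers θ hxS) hφ'
      refine ⟨ψ, hψ, ?_⟩
      have hx' : extOn θ x ∈ imageAlong θ (Subgroup.zpowers x) :=
        extOn_mem_imageAlong θ ((Subgroup.zpowers_le).2 hxS) (Subgroup.mem_zpowers x)
      rw [hψf _ hx', hφ'θ ⟨x, Subgroup.mem_zpowers x⟩ hx', hφx]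
  have hEcomm : ∀ u v : S ⧸ T.subgroupOf S, u * v = v * u := fun u v =>
    IH _ hcardlt (S ⧸ T.subgroupOf S) ⊤ rfl hS'p E hEsat hEhyp u (Subgroup.mem_top u) v (Subgroup.mem_top v)
  -- every element of `S` lies in `Z(S) T`
  have hZT : ∀ x ∈ S, ∃ c ∈ S ⊓ Subgroup.centralizer (S : Set Ω), ∃ w ∈ T, x = c * w := by
    intro x hxS
    obtain ⟨z, hz, φ, hφ, hφx⟩ := h x hxS
    set P' := imageAlong θ (Subgroup.zpowers x) with hP'
    obtain ⟨φ', hφ', hφ'θ⟩ : ∃ φ' ∈ E.Hom P', ∀ (y : Subgroup.zpowers x) (hy : extOn θ (y : Ω) ∈ P'),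
        φ' ⟨extOn θ (y : Ω), hy⟩ = extOn θ (φ y) := exists_induced_hom F hS hF hTsc hE hφ
    have hP'top : P' ≤ (⊤ : Subgroup (S ⧸ T.subgroupOf S)) := le_top
    -- the image of `φ'` is fully normalized, hence receptive
    have hQn : (⊤ : Subgroup (S ⧸ T.subgroupOf S)) ≤
        Subgroup.normalizer ((φ'.range : Subgroup (S ⧸ T.subgroupOf S)) : Set (S ⧸ T.subgroupOf S)) :=
      le_normalizer_of_conj_mem fun g _ y hy => by
        have : g * y * g⁻¹ = y := by rw [hEcomm g y]; group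
        rw [this]; exact hy
    have hQfn : E.IsFullyNormalized φ'.range := isFullyNormalized_of_le_normalizer E le_top hQn
    have hQrec : E.IsReceptive φ'.range :=
      Helper84_FusionRS.IsSaturated.isReceptive_of_isFullyNormalized hS'p hEsat hQfn
    obtain ⟨ψ, hψ, hψφ'⟩ := hQrec.2 P' φ' hφ' rfl
    have hext : extender (⊤ : Subgroup (S ⧸ T.subgroupOf S)) P' φ' = ⊤ := by
      rw [eq_top_iff]
      intro g _
      refine Subgroup.subset_closure ⟨Subgroup.mem_top g, ?_, 1, Subgroup.one_mem _, ?_⟩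
      · rw [Subgroup.mem_normalizer_iff]
        intro y
        have : g * y * g⁻¹ = y := by rw [hEcomm g y]; group
        rw [this]
      · intro y hy
        have : (⟨g * (y : S ⧸ T.subgroupOf S) * g⁻¹, hy⟩ : P') = y :=
          Subtype.ext (show g * (y : S ⧸ T.subgroupOf S) * g⁻¹ = y by rw [hEcomm g y]; group)
        rw [this]
        group
    obtain ⟨ψ₁, hψ₁, hψ₁ψ⟩ := hom_cast E hext hψ
    have hψmap : IsMapOn E ⊤ (extHom ψ₁) := isMapOn_extHom E hψ₁
    have hψext : ∀ y ∈ P', extHom ψ₁ y = extHom φ' y := by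
      intro y hy
      have hyN : y ∈ extender (⊤ : Subgroup (S ⧸ T.subgroupOf S)) P' φ' := by rw [hext]; exact Subgroup.mem_top y
      rw [extHom_apply ψ₁ (Subgroup.mem_top y), extHom_apply φ' hy, hψ₁ψ y hyN]
      exact hψφ' y hy hyN
    obtain ⟨β', hβ'⟩ := exists_aut_of_isMapOn hψmap (fun y _ => Subgroup.mem_top _)
    set P₀ := preimageAlong θ (⊤ : Subgroup (S ⧸ T.subgroupOf S)) with hP₀
    obtain ⟨β, hβmap, hββ'⟩ : ∃ β : MulAut P₀, IsMapOn F P₀ (extFun β) ∧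
        ∀ y ∈ P₀, extOn θ (extFun β y) = extFun β' (extOn θ y) :=
      exists_lift_aut hE β' (hψmap.congr fun y hy => (hβ' y hy).symm)
    have hP₀S : P₀ ≤ S := preimageAlong_le θ _
    have hSP₀ : S ≤ P₀ := fun y hy => (mem_preimageAlong θ _ y).2 ⟨hy, Subgroup.mem_top _⟩
    have hxP₀ : x ∈ P₀ := hSP₀ hxS
    have hxP' : extOn θ x ∈ P' :=
      extOn_mem_imageAlong θ ((Subgroup.zpowers_le).2 hxS) (Subgroup.mem_zpowers x)
    -- `β x` is congruent to `z` modulo `T`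
    have h1 : extOn θ (extFun β x) = extOn θ z := by
      rw [hββ' x hxP₀, hβ' _ (Subgroup.mem_top _), hψext _ hxP', extHom_apply φ' hxP',
        hφ'θ ⟨x, Subgroup.mem_zpowers x⟩ hxP', hφx]
    have hβxS : extFun β x ∈ S := hP₀S (extFun_mem β hxP₀)
    have h2 : z⁻¹ * extFun β x ∈ T := (extOn_eq_iff hker hz.1 hβxS).1 h1.symm
    -- pull back along `β⁻¹`
    have hzP₀ : z ∈ P₀ := hSP₀ hz.1
    have hwP₀ : z⁻¹ * extFun β x ∈ P₀ := hSP₀ (hTS h2)
    have hγ : IsMapOn F P₀ (extFun β⁻¹) :=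
      (mem_autGroup_iff F hP₀S _).1 (Subgroup.inv_mem _ ((mem_autGroup_iff F hP₀S β).2 hβmap))
    refine ⟨extFun β⁻¹ z, Subgroup.mem_inf.2 ⟨hP₀S (extFun_mem _ hzP₀), ?_⟩, extFun β⁻¹ (z⁻¹ * extFun β x),
      ⟨hP₀S (extFun_mem _ hwP₀), ?_⟩, ?_⟩
    · rw [Subgroup.mem_centralizer_iff]
      intro v hv
      have hvP₀ : v ∈ P₀ := hSP₀ hv
      have hv' : v = extFun β⁻¹ (extFun β v) := (extFun_inv_apply β hvP₀).symm
      have hβv : extFun β v ∈ P₀ := extFun_mem β hvP₀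
      rw [hv', ← hγ.map_mul hβv hzP₀, ← hγ.map_mul hzP₀ hβv,
        (Subgroup.mem_centralizer_iff.1 hz.2) _ (hP₀S hβv)]
    · rw [← hγ.map_mul hwP₀ hwP₀, h2.2, hγ.map_one]
    · rw [← hγ.map_mul hzP₀ hwP₀, mul_inv_cancel_left, extFun_inv_apply β hxP₀]
  obtain ⟨c₁, hc₁, w₁, hw₁, rfl⟩ := hZT a ha
  obtain ⟨c₂, hc₂, w₂, hw₂, rfl⟩ := hZT b hb
  have e1 : w₁ * c₂ = c₂ * w₁ := (Subgroup.mem_centralizer_iff.1 hc₂.2) w₁ (hTS hw₁)
  have e2 : w₂ * c₁ = c₁ * w₂ := (Subgroup.mem_centralizer_iff.1 hc₁.2) w₂ (hTS hw₂)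
  have e3 : c₂ * c₁ = c₁ * c₂ := (Subgroup.mem_centralizer_iff.1 hc₁.2) c₂ hc₂.1
  have e4 := hTcomm w₁ hw₁ w₂ hw₂
  calc c₁ * w₁ * (c₂ * w₂) = c₁ * (w₁ * c₂) * w₂ := by group
    _ = c₁ * (c₂ * w₁) * w₂ := by rw [e1]
    _ = (c₁ * c₂) * (w₁ * w₂) := by group
    _ = (c₂ * c₁) * (w₂ * w₁) := by rw [e3, e4]
    _ = c₂ * (c₁ * w₂) * w₁ := by group
    _ = c₂ * (w₂ * c₁) * w₁ := by rw [e2]
    _ = c₂ * w₂ * (c₁ * w₁) := by group

end Cfsg.Agent.Lib.Helper87_Henke
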