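import Cfsg.Agent.Lib.Helper87_TateFusion
import Cfsg.Agent.Lib.Helper87_Henke
import Cfsg.Agent.Lib.Helper87_GTMain
import Cfsg.Agent.S5090

/-!
Saturated fusion systems with `Aut_F(S)` a `p`-group (helper87): for `[S, S] ≤ Q ≤ Φ(S)` the normalizer system of `Q`
is the inner system.  The quotient `N_F(Q) / Q` lives on an abelian group, so it is controlled by the automorphisms
of `S / Q`, which lift to `Aut_F(S)`; hence it is inner, `N_F(Q)` is constrained, and the theorem of Tate applied to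
a model finishes the proof.
-/

set_option autoImplicit false
set_option linter.style.haveILetI false

universe u

namespace Cfsg.Agent.Lib.Helper87_TateFusion2

open Cfsg Cfsg.FusionSystem Cfsg.Agent.Lib Cfsg.Agent.Lib.Helper87_Alperin Cfsg.Agent.Lib.Helper87_Alperin2
  Cfsg.Agent.Lib.Helper87_Normal Cfsg.Agent.Lib.Helper87_Factor Cfsg.Agent.Lib.Helper87_Factor2
  Cfsg.Agent.Lib.Helper87_PInner Cfsg.Agent.Lib.Helper87_GTCentric Cfsg.Agent.Lib.Helper87_GTQuot
  Cfsg.Agent.Lib.Helper87_Henke Cfsg.Agent.Lib.Helper87_TateFusion Cfsg.Agent.Lib.Helper87_GTMain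

open scoped commutatorElement

variable {Ω : Type u} [Group Ω] {S : Subgroup Ω}

theorem castSystem_isSaturated {T S : Subgroup Ω} (h : T = S) (E : FusionSystem T) {p : ℕ}
    (hE : E.IsSaturated p) : (castSystem h E).IsSaturated p := by
  subst h
  exact hE

theorem castSystem_isNormal {T S : Subgroup Ω} (h : T = S) (E : FusionSystem T) {Q : Subgroup Ω}
    (hE : E.IsNormal Q) : (castSystem h E).IsNormal Q := by
  subst h
  exact hE

theorem hom_eq_inner_cast {T S : Subgroup Ω} (h : T = S) (E : FusionSystem T)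
    (hE : ∀ P : Subgroup Ω, (castSystem h E).Hom P = (innerFusionSystem S).Hom P) :
    ∀ P : Subgroup Ω, E.Hom P = (innerFusionSystem T).Hom P := by
  subst h
  exact hE

/-- The main lemma: a saturated system over `S` in which the automorphisms of `S` of order prime to `p` are trivial
and in which some `Q` with `[S, S] ≤ Q ≤ Φ(S)` is normal is `p`-inner. -/
theorem pInnerOn_of_commutator_le_of_le_frattini [Finite S] {p : ℕ} [Fact p.Prime] (hS : IsPGroup p S)
    (N : FusionSystem S) (hNsat : N.IsSaturated p)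
    (hAutS : ∀ α : MulAut S, IsMapOn N S (extFun α) → (orderOf α).Coprime p → α = 1)
    {Q : Subgroup Ω} (hQn : N.IsNormal Q) (h1 : (commutator S).map S.subtype ≤ Q)
    (h2 : Q ≤ (frattini S).map S.subtype) : PInnerOn p (IsMapOn N) := by
  classical
  have hQS : Q ≤ S := hQn.1
  have hQsc : N.StronglyClosed Q := Cfsg.Agent.Lib.Helper84_FusionNormal.IsNormal.stronglyClosed hQn
  have hSQ : S ≤ Subgroup.normalizer (Q : Set Ω) := stronglyClosed_le_normalizer hQsc
  haveI hQnormal : (Q.subgroupOf S).Normal := (Subgroup.normal_subgroupOf_iff_le_normalizer hQS).2 hSQ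
  obtain ⟨E, hE⟩ := Cfsg.Agent.S5132.result p hS N Q hQsc
  set θ : S →* S ⧸ Q.subgroupOf S := QuotientGroup.mk' (Q.subgroupOf S) with hθ
  have hE' := hE
  obtain ⟨-, hker, hrange, hEhom⟩ := hE'
  have hEsat : E.IsSaturated p :=
    Cfsg.Agent.S5133.result p hS N hNsat E θ (Cfsg.Agent.S5134.result p hS N hNsat Q hQsc θ E hE)
  have hS'p : IsPGroup p (⊤ : Subgroup (S ⧸ Q.subgroupOf S)) := (hS.to_quotient _).to_subgroup ⊤
  have hsurj : ∀ y : S ⧸ Q.subgroupOf S, ∃ x ∈ S, extOn θ x = y := by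
    intro y
    have hy : y ∈ θ.range := by rw [hrange]; exact Subgroup.mem_top y
    exact exists_extOn_eq_of_mem_range hy
  -- the quotient is abelian
  have hEcomm : ∀ u v : S ⧸ Q.subgroupOf S, u * v = v * u := by
    intro u v
    obtain ⟨a, ha, rfl⟩ := hsurj u
    obtain ⟨b, hb, rfl⟩ := hsurj v
    rw [← extOn_mul θ ha hb, ← extOn_mul θ hb ha, extOn_eq_iff hker (S.mul_mem ha hb) (S.mul_mem hb ha)]
    apply h1
    refine ⟨⁅(⟨b, hb⟩ : S)⁻¹, (⟨a, ha⟩ : S)⁻¹⁆, ?_, ?_⟩
    · rw [commutator_def]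
      exact Subgroup.commutator_mem_commutator (Subgroup.mem_top _) (Subgroup.mem_top _)
    · show ((⁅(⟨b, hb⟩ : S)⁻¹, (⟨a, ha⟩ : S)⁻¹⁆ : S) : Ω) = (a * b)⁻¹ * (b * a)
      rw [commutatorElement_def]
      simp only [Subgroup.coe_mul, Subgroup.coe_inv, inv_inv]
      group
  set P₀ := preimageAlong θ (⊤ : Subgroup (S ⧸ Q.subgroupOf S)) with hP₀
  have hP₀S : P₀ ≤ S := preimageAlong_le θ _
  have hSP₀ : S ≤ P₀ := fun y hy => (mem_preimageAlong θ _ y).2 ⟨hy, Subgroup.mem_top _⟩
  haveI hfinP₀ : Finite P₀ := Finite.of_injective (Subgroup.inclusion hP₀S) (Subgroup.inclusion_injective hP₀S)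
  -- the factor system is `p`-inner
  have hPIE : PInnerOn p (IsMapOn E) := by
    intro P' α' hα' hc
    have hφ' : P'.subtype.comp α'.toMonoidHom ∈ E.Hom P' := (comp_mem_iff_isMapOn E α').2 hα'
    have hφ'range : (P'.subtype.comp α'.toMonoidHom).range = P' := by
      ext y
      constructor
      · rintro ⟨x, rfl⟩
        exact (α' x).2
      · intro hy
        exact ⟨α'.symm ⟨y, hy⟩, by simp⟩
    have hP'n : (⊤ : Subgroup (S ⧸ Q.subgroupOf S)) ≤
        Subgroup.normalizer ((P' : Subgroup (S ⧸ Q.subgroupOf S)) : Set (S ⧸ Q.subgroupOf S)) :=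
      le_normalizer_of_conj_mem fun g _ y hy => by
        have : g * y * g⁻¹ = y := by rw [hEcomm g y]; group
        rw [this]; exact hy
    have hP'fn : E.IsFullyNormalized P' := isFullyNormalized_of_le_normalizer E le_top hP'n
    have hP'rec : E.IsReceptive P' :=
      Helper84_FusionRS.IsSaturated.isReceptive_of_isFullyNormalized hS'p hEsat hP'fn
    obtain ⟨ψ, hψ, hψφ'⟩ := hP'rec.2 P' _ hφ' hφ'range
    have hext : extender (⊤ : Subgroup (S ⧸ Q.subgroupOf S)) P' (P'.subtype.comp α'.toMonoidHom) = ⊤ := by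
      rw [eq_top_iff]
      intro g _
      refine Subgroup.subset_closure ⟨Subgroup.mem_top g, ?_, 1, Subgroup.one_mem _, ?_⟩
      · rw [Subgroup.mem_normalizer_iff]
        intro y
        have : g * y * g⁻¹ = y := by rw [hEcomm g y]; group
        rw [this]
      · intro y hy
        have : (⟨g * (y : S ⧸ Q.subgroupOf S) * g⁻¹, hy⟩ : P') = y :=
          Subtype.ext (show g * (y : S ⧸ Q.subgroupOf S) * g⁻¹ = y by rw [hEcomm g y]; group)
        rw [this]
        group
    obtain ⟨ψ₁, hψ₁, hψ₁ψ⟩ := hom_cast E hext hψ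
    have hψmap : IsMapOn E ⊤ (extHom ψ₁) := isMapOn_extHom E hψ₁
    obtain ⟨β', hβ'⟩ := exists_aut_of_isMapOn hψmap (fun y _ => Subgroup.mem_top _)
    have hβ'map : IsMapOn E ⊤ (extFun β') := hψmap.congr fun y hy => (hβ' y hy).symm
    have hβ'α' : ∀ y ∈ P', extFun α' y = extFun β' y := by
      intro y hy
      have hyN : y ∈ extender (⊤ : Subgroup (S ⧸ Q.subgroupOf S)) P' (P'.subtype.comp α'.toMonoidHom) := by
        rw [hext]; exact Subgroup.mem_top y
      rw [hβ' y (Subgroup.mem_top y), extHom_apply ψ₁ (Subgroup.mem_top y), hψ₁ψ y hyN, hψφ' y hy hyN,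
        extFun_apply α' hy]
      rfl
    obtain ⟨k, hkc, hk1⟩ := exists_pow_coprime β' (p := p) hc
    have hγ'map : IsMapOn E ⊤ (extFun (β' ^ k)) :=
      (mem_autGroup_iff E le_rfl _).1 (Subgroup.pow_mem _ ((mem_autGroup_iff E le_rfl β').2 hβ'map) k)
    obtain ⟨γ, hγmap, hγγ'⟩ : ∃ γ : MulAut P₀, IsMapOn N P₀ (extFun γ) ∧
        ∀ y ∈ P₀, extOn θ (extFun γ y) = extFun (β' ^ k) (extOn θ y) := exists_lift_aut hE (β' ^ k) hγ'map
    obtain ⟨j, hjc, hj1⟩ := exists_pow_coprime γ (p := p) hkc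
    have hδmap : IsMapOn N P₀ (extFun (γ ^ j)) :=
      (mem_autGroup_iff N hP₀S _).1 (Subgroup.pow_mem _ ((mem_autGroup_iff N hP₀S γ).2 hγmap) j)
    have hδδ' := extFun_pow_compat γ (β' ^ k) (extOn θ) (fun y _ => Subgroup.mem_top _) hγγ' j
    have hγ'j : (β' ^ k) ^ j = β' ^ k := by
      have : (β' ^ k) ^ j = (β' ^ k) ^ 1 := (pow_eq_pow_iff_modEq).2 hj1
      rwa [pow_one] at this
    rw [hγ'j] at hδδ'
    -- transfer to an automorphism of `S`
    obtain ⟨ε, hε⟩ := exists_aut_of_isMapOn (hδmap.mono hSP₀) (fun y hy => hP₀S (extFun_mem _ (hSP₀ hy)))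
    have hεmap : IsMapOn N S (extFun ε) := (hδmap.mono hSP₀).congr fun y hy => (hε y hy).symm
    have hεpow := extFun_pow_compat ε (γ ^ j) (fun x => x) (fun y hy => hSP₀ hy) (fun y hy => hε y hy)
    have hεo : ε ^ orderOf (γ ^ j) = 1 := by
      ext y
      have := hεpow (orderOf (γ ^ j)) y y.2
      rw [pow_orderOf_eq_one, extFun_coe, extFun_apply _ (hSP₀ y.2)] at this
      rw [this]
      rfl
    have hεc : (orderOf ε).Coprime p := Nat.Coprime.coprime_dvd_left (orderOf_dvd_of_pow_eq_one hεo) hjc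
    have hε1 : ε = 1 := hAutS ε hεmap hεc
    -- `β' ^ k` is trivial
    have hγ'1 : β' ^ k = 1 := by
      ext y
      obtain ⟨x, hxS, hxy⟩ := hsurj (y : S ⧸ Q.subgroupOf S)
      have h3 := hδδ' x (hSP₀ hxS)
      rw [← hε x hxS, hε1, extFun_apply _ hxS, hxy, extFun_coe, MulAut.one_apply] at h3
      rw [MulAut.one_apply, ← h3, hxy]
    -- conclusion
    have hα'pow := extFun_pow_compat α' β' (fun x => x) (fun y _ => Subgroup.mem_top _)
      (fun y hy => hβ'α' y hy) k
    have hα'k : α' ^ k = 1 := by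
      ext y
      have := hα'pow y y.2
      rw [hγ'1, extFun_coe, extFun_apply _ (Subgroup.mem_top _), MulAut.one_apply] at this
      rw [this]
      rfl
    have h5 : α' ^ k = α' := by
      have : α' ^ k = α' ^ 1 := (pow_eq_pow_iff_modEq).2 hk1
      rwa [pow_one] at this
    rw [← h5, hα'k]
  have hstar : ActsTriviallyMod p N Q := actsTriviallyMod_of_pInnerOn hS hNsat hQsc hE hPIE
  -- the system is constrained
  have hR : N.IsNormal (Q ⊔ centralizerIn S Q) := isNormal_sup_centralizerIn hS N hNsat hQn hstar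
  have hRc : N.IsCentric (Q ⊔ centralizerIn S Q) := by
    refine isCentric_of_isNormal hR ?_
    intro x hx
    refine le_sup_right (a := Q) ?_
    refine Subgroup.mem_inf.2 ⟨hx.1, ?_⟩
    rw [Subgroup.mem_centralizer_iff]
    intro y hy
    exact (Subgroup.mem_centralizer_iff.1 hx.2) y ((le_sup_left : Q ≤ Q ⊔ centralizerIn S Q) hy)
  obtain ⟨G, hGgrp, ι, hM⟩ := Cfsg.Agent.S5090.result p hS N ⟨hNsat, _, hR, hRc⟩
  exact pInnerOn_of_isModel hM hQn h2 hstar

/-- If `Aut_F(S)` is a `p`-group (the normalizer system of `S` is the inner system), then for `[S, S] ≤ Q ≤ Φ(S)` the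
normalizer system of `Q` is the inner system. -/
theorem normalizerSystem_inner [Finite S] {p : ℕ} [Fact p.Prime] (hS : IsPGroup p S) (F : FusionSystem S)
    (hF : F.IsSaturated p)
    (hN : ∀ N : FusionSystem (normalizerIn S S), F.IsNormalizerSystem S N →
      ∀ P : Subgroup Ω, N.Hom P = (innerFusionSystem (normalizerIn S S)).Hom P)
    (Q : Subgroup Ω) (h1 : (commutator S).map S.subtype ≤ Q) (h2 : Q ≤ (frattini S).map S.subtype) :
    ∀ N : FusionSystem (normalizerIn S Q), F.IsNormalizerSystem Q N →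
      ∀ P : Subgroup Ω, N.Hom P = (innerFusionSystem (normalizerIn S Q)).Hom P := by
  classical
  intro N' hN'
  have hQS : Q ≤ S := h2.trans (Subgroup.map_subtype_le _)
  have hSQ : S ≤ Subgroup.normalizer (Q : Set Ω) := by
    refine le_normalizer_of_conj_mem fun g hg x hx => ?_
    have h3 : g * x * g⁻¹ = (g * x * g⁻¹ * x⁻¹) * x := by group
    rw [h3]
    refine Q.mul_mem (h1 ?_) hx
    refine ⟨⁅(⟨g, hg⟩ : S), (⟨x, hQS hx⟩ : S)⁆, ?_, ?_⟩
    · rw [commutator_def]
      exact Subgroup.commutator_mem_commutator (Subgroup.mem_top _) (Subgroup.mem_top _)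
    · show ((⁅(⟨g, hg⟩ : S), (⟨x, hQS hx⟩ : S)⁆ : S) : Ω) = g * x * g⁻¹ * x⁻¹
      rw [commutatorElement_def]
      rfl
  have hT₀ : normalizerIn S Q = S := le_antisymm (normalizerIn_le S Q) (le_inf le_rfl hSQ)
  have hQfn : F.IsFullyNormalized Q := isFullyNormalized_of_le_normalizer F hQS hSQ
  have hN'sat : N'.IsSaturated p := Cfsg.Agent.S5098.result p hS F hF Q hQfn N' hN'
  have hN'n : N'.IsNormal Q := Cfsg.Agent.Lib.Helper88_Model.isNormal_of_isNormalizerSystem F hQS N' hN'
  set N₁ : FusionSystem S := castSystem hT₀ N' with hN₁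
  have hN₁hom : ∀ P : Subgroup Ω, N₁.Hom P = N'.Hom P := castSystem_hom hT₀ N'
  have hsub : ∀ (P : Subgroup Ω) (f : Ω → Ω), IsMapOn N₁ P f → IsMapOn F P f := by
    rintro P f ⟨φ, hφ, hφf⟩
    rw [hN₁hom, hN' P] at hφ
    exact ⟨φ, hφ.1, hφf⟩
  -- automorphisms of `S` of order prime to `p` are trivial
  have hAutS : ∀ α : MulAut S, IsMapOn N₁ S (extFun α) → (orderOf α).Coprime p → α = 1 := by
    intro α hα hc
    have hαF : IsMapOn F S (extFun α) := hsub S _ hα
    have hNS := Cfsg.Agent.Lib.Helper85_Fusion.normalizerSystem_isNormalizerSystem F S le_rfl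
    have hTp : IsPGroup p (normalizerIn S S) := hS.to_le (normalizerIn_le S S)
    have hPI : PInnerOn p (IsMapOn (Cfsg.Agent.Lib.Helper85_Fusion.normalizerSystem F S le_rfl)) :=
      pInnerOn_of_hom_eq_inner hTp _ (hN _ hNS)
    refine hPI S α ((isMapOn_normalizerSystem_iff hNS S _).2 ?_) hc
    refine ⟨hαF, le_normalizerIn le_rfl, fun x hx => le_normalizerIn le_rfl (extFun_mem α hx),
      extFun α, ?_, fun _ _ => rfl, fun y => ?_⟩
    · rw [sup_idem]
      exact hαF
    · constructor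
      · intro hy
        exact ⟨extFun α⁻¹ y, extFun_mem _ hy, extFun_apply_inv α hy⟩
      · rintro ⟨x, hx, rfl⟩
        exact extFun_mem α hx
  have hPI₁ : PInnerOn p (IsMapOn N₁) :=
    pInnerOn_of_commutator_le_of_le_frattini hS N₁ (castSystem_isSaturated hT₀ N' hN'sat) hAutS
      (castSystem_isNormal hT₀ N' hN'n) h1 h2
  exact hom_eq_inner_cast hT₀ N'
    (hom_eq_inner_of_pInnerOn hS N₁ (castSystem_isSaturated hT₀ N' hN'sat) hPI₁)

end Cfsg.Agent.Lib.Helper87_TateFusion2
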