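import Cfsg.Agent.Lib.Helper84_FocQuot
import Cfsg.Agent.Lib.Helper84_FocConstrained
import Cfsg.Agent.Lib.Helper88_KLB5
import Cfsg.Agent.Lib.Helper87_TateFusion2
import Cfsg.Agent.S5098
import Cfsg.Agent.Lib.Helper84_KLMain

/-!
# Control of transfer by a functor with the local focal condition (helper84)

Let `W` be a characteristic `p`-functor satisfying the local focal condition (`LocalHyp`).  Then for every saturated
fusion system `F` over a finite `p`-group `S`, the focal subgroup of `F` is the focal subgroup of the normalizer system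
of `W(S)`.  (Given `H5329`: the focal subgroup meets the centre of a saturated system in the derived subgroup.)
-/

set_option autoImplicit false

namespace Cfsg.Agent.Lib.Helper84_FocMain

open Cfsg Cfsg.FusionSystem Cfsg.Agent.Lib Cfsg.Agent.Lib.Helper87_Alperin Cfsg.Agent.Lib.Helper87_Alperin2
  Cfsg.Agent.Lib.Helper87_Factor Cfsg.Agent.Lib.Helper87_Factor2 Cfsg.Agent.Lib.Helper87_ModT
  Cfsg.Agent.Lib.Helper87_Normal Cfsg.Agent.Lib.Helper87_PInner
  Cfsg.Agent.Lib.Helper84_KLBasic Cfsg.Agent.Lib.Helper84_KLQuot Cfsg.Agent.Lib.Helper84_KLRealized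
  Cfsg.Agent.Lib.Helper84_FocBasic Cfsg.Agent.Lib.Helper84_FocCentral Cfsg.Agent.Lib.Helper84_FocQuot
  Cfsg.Agent.Lib.Helper84_FocConstrained Cfsg.Agent.Lib.Helper34_NPC Cfsg.Agent.Lib.Helper88_KLB1
  Cfsg.Agent.Lib.Helper88_KLB3 Cfsg.Agent.Lib.Helper88_KLB5

open scoped commutatorElement

universe u

/-- the statement for systems over groups of order `n` -/
def Stmt (p : ℕ) (W : ∀ (Q : Type u) [Group Q], Subgroup Q) (n : ℕ) : Prop :=
  ∀ (Ω : Type u) [Group Ω] (S : Subgroup Ω) [Finite S], Nat.card S = n → IsPGroup p S →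
    ∀ F : FusionSystem S, F.IsSaturated p → AllFoc F (nfoc F (Cfsg.inducedFunctor W S))

variable {p : ℕ} [Fact p.Prime] {W : ∀ (Q : Type u) [Group Q], Subgroup Q}

theorem commutator_le_of_conj {Ω : Type*} [Group Ω] {S X₀ : Subgroup Ω}
    (hX : ∀ x ∈ S, ∀ s ∈ S, x⁻¹ * (s * x * s⁻¹) ∈ X₀) : ⁅S, S⁆ ≤ X₀ := by
  rw [Subgroup.commutator_le]
  intro a ha b hb
  have h1 := hX a⁻¹ (S.inv_mem ha) b hb
  have h2 : (a⁻¹)⁻¹ * (b * a⁻¹ * b⁻¹) = ⁅a, b⁆ := by
    rw [commutatorElement_def]
    group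
  rw [← h2]
  exact h1

/-- the system `S C_F(U)` acts on `U` through `S` -/
theorem sAct_scSystem {Ω : Type u} [Group Ω] {S : Subgroup Ω} (F₁ : FusionSystem S) {U : Subgroup Ω} (hUS : U ≤ S)
    (hSU : S ≤ Subgroup.normalizer (U : Set Ω)) : SAct (scSystem F₁ U hUS hSU) U := by
  intro P f hf
  obtain ⟨-, -, -, g, hg, hgf, -⟩ := controls_of_isNormal (isNormal_scSystem F₁ hUS hSU) P f hf
  obtain ⟨s, hs, hgs⟩ := exists_conj_of_isMapOn_scSystem F₁ hUS hSU hg le_sup_right
  exact ⟨g, s, hg, hgf, hs, hgs⟩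

/-- the system `S C_F(U)`: the focal subgroup -/
theorem allFoc_sc (hW : Cfsg.IsCharPFunctor.{u} p W) (h5329 : H5329.{u} p) (n : ℕ) (IH : ∀ m < n, Stmt p W m)
    {Ω : Type u} [Group Ω] {S : Subgroup Ω} [Finite S] (hcard : Nat.card S = n) (hS : IsPGroup p S)
    {F₁ : FusionSystem S} (hF₁ : F₁.IsSaturated p) {U : Subgroup Ω} (hUS : U ≤ S)
    (hSU : S ≤ Subgroup.normalizer (U : Set Ω)) (hUne : U ≠ ⊥) (hUS' : U ≠ S) {X₀ : Subgroup Ω}
    (hX : ∀ x ∈ S, ∀ s ∈ S, x⁻¹ * (s * x * s⁻¹) ∈ X₀)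
    (hgood : ∀ V : Subgroup Ω, U < V → V ≤ S → S ≤ Subgroup.normalizer (V : Set Ω) →
      NFoc (scSystem F₁ U hUS hSU) V X₀) :
    AllFoc (scSystem F₁ U hUS hSU) X₀ := by
  set F₂ : FusionSystem S := scSystem F₁ U hUS hSU with hF₂def
  have hF₂sat : F₂.IsSaturated p := scSystem_isSaturated F₁ hUS hSU hS hF₁
  have hF₂n : F₂.IsNormal U := isNormal_scSystem F₁ hUS hSU
  have hact : SAct F₂ U := sAct_scSystem F₁ hUS hSU
  have hE5 : F₂.focalSubgroup ⊓ U ≤ ⁅S, S⁆ :=
    focal_inf_le_commutator h5329 n Ω S hcard hS F₂ hF₂sat U hUS hSU hact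
  have hcomm : ⁅S, S⁆ ≤ X₀ := commutator_le_of_conj hX
  -- the factor system
  have hUsc : F₂.StronglyClosed U := Helper84_FusionNormal.IsNormal.stronglyClosed hF₂n
  have hUnormal : (U.subgroupOf S).Normal := (Subgroup.normal_subgroupOf_iff_le_normalizer hUS).2 hSU
  obtain ⟨E, hE⟩ := Cfsg.Agent.S5132.result p hS F₂ U hUsc
  set θ : S →* S ⧸ U.subgroupOf S := QuotientGroup.mk' (U.subgroupOf S) with hθ
  have hker : ∀ s : S, θ s = 1 ↔ (s : Ω) ∈ U := hE.2.1
  have hEsat : E.IsSaturated p :=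
    Cfsg.Agent.S5133.result p hS F₂ hF₂sat E θ (Cfsg.Agent.S5134.result p hS F₂ hF₂sat U hUsc θ E hE)
  have hfinU : Finite U := Helper84_FusionRS.finite_of_le_S hUS
  have hpquot : IsPGroup p (S ⧸ U.subgroupOf S) := hS.to_quotient _
  have hpS' : IsPGroup p (⊤ : Subgroup (S ⧸ U.subgroupOf S)) := hpquot.to_subgroup ⊤
  have hcardU : 1 < Nat.card U := by
    rw [Finite.one_lt_card_iff_nontrivial]
    exact (Subgroup.nontrivial_iff_ne_bot U).2 hUne
  have hcardquot : Nat.card (S ⧸ U.subgroupOf S) * Nat.card U = n := by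
    have h1 := Subgroup.card_eq_card_quotient_mul_card_subgroup (U.subgroupOf S)
    have h2 : Nat.card (U.subgroupOf S) = Nat.card U :=
      Nat.card_congr (Subgroup.subgroupOfEquivOfLe hUS).toEquiv
    rw [← hcard, h1, h2]
  have hcardS' : Nat.card (⊤ : Subgroup (S ⧸ U.subgroupOf S)) < n := by
    rw [Subgroup.card_top]
    have hpos : 0 < Nat.card (S ⧸ U.subgroupOf S) := Nat.card_pos
    nlinarith
  -- the functor on the quotient and its preimage
  set W' : Subgroup (S ⧸ U.subgroupOf S) := Cfsg.inducedFunctor W (⊤ : Subgroup (S ⧸ U.subgroupOf S))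
    with hW'
  set V : Subgroup Ω := preimageAlong θ W' with hVdef
  have hVS : V ≤ S := preimageAlong_le θ W'
  have hUV : U ≤ V := le_preimageAlong hker hUS W'
  have hW'norm : ∀ g : S ⧸ U.subgroupOf S, ∀ w ∈ W', g * w * g⁻¹ ∈ W' := by
    intro g w hw
    have h1 : g ∈ Subgroup.normalizer ((⊤ : Subgroup (S ⧸ U.subgroupOf S)) : Set (S ⧸ U.subgroupOf S)) := by
      rw [Subgroup.normalizer_eq_top]
      exact Subgroup.mem_top g
    have h2 := normalizer_le_normalizer_inducedFunctor hW (⊤ : Subgroup (S ⧸ U.subgroupOf S)) hpS' h1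
    exact (Subgroup.mem_normalizer_iff.1 h2 w).1 hw
  have hVconj : ∀ s ∈ S, ∀ x ∈ V, s * x * s⁻¹ ∈ V := by
    intro s hs x hx
    rw [hVdef, mem_preimageAlong] at hx ⊢
    refine ⟨S.mul_mem (S.mul_mem hs hx.1) (S.inv_mem hs), ?_⟩
    rw [extOn_mul θ (S.mul_mem hs hx.1) (S.inv_mem hs), extOn_mul θ hs hx.1, extOn_inv θ hs]
    exact hW'norm _ _ hx.2
  have hV_norm : S ≤ Subgroup.normalizer (V : Set Ω) := le_normalizer_of_conj_mem hVconj
  have hS'ne : (⊤ : Subgroup (S ⧸ U.subgroupOf S)) ≠ ⊥ := by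
    intro h
    apply hUS'
    apply le_antisymm hUS
    intro s hs
    have h1 : θ ⟨s, hs⟩ ∈ (⊤ : Subgroup (S ⧸ U.subgroupOf S)) := Subgroup.mem_top _
    rw [h, Subgroup.mem_bot] at h1
    exact (hker ⟨s, hs⟩).1 h1
  have hW'ne : W' ≠ ⊥ := inducedFunctor_ne_bot hW hpS' hS'ne
  have hUltV : U < V := by
    refine lt_of_le_of_ne hUV ?_
    intro hUV'
    apply hW'ne
    rw [Subgroup.eq_bot_iff_forall]
    intro w hw
    obtain ⟨s, rfl⟩ := QuotientGroup.mk'_surjective (U.subgroupOf S) w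
    have hsV : (s : Ω) ∈ V := by
      rw [hVdef, mem_preimageAlong]
      exact ⟨s.2, by rw [extOn_coe]; exact hw⟩
    rw [← hUV'] at hsV
    exact (hker s).2 hsV
  -- the induction hypothesis for the factor system
  have hIH : AllFoc E (nfoc E W') := IH _ hcardS' _ (⊤ : Subgroup (S ⧸ U.subgroupOf S)) rfl hpS' E hEsat
  have hstep : AllFoc F₂ (nfoc F₂ V ⊔ U) := allFoc_of_factor hS hF₂sat hUsc hE W' hV_norm hIH
  have hVX : nfoc F₂ V ≤ X₀ := nfoc_le (hgood V hUltV hVS hV_norm)
  have hVfoc : nfoc F₂ V ≤ F₂.focalSubgroup := by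
    apply nfoc_le
    intro P f hf x hx
    exact mem_focalSubgroup_of_isMapOn hf.1 hx
  have hVN : nfoc F₂ V ≤ Subgroup.normalizer (U : Set Ω) := (nfoc_le_S F₂ V).trans hSU
  intro P f hf x hx
  have h1 := hstep P f hf x hx
  obtain ⟨a, ha, u, hu, hau⟩ := (mem_sup_iff_exists_mul hVN _).1 h1
  have h2 : x⁻¹ * f x ∈ F₂.focalSubgroup := mem_focalSubgroup_of_isMapOn hf hx
  have h3 : u ∈ F₂.focalSubgroup := by
    have : u = a⁻¹ * (x⁻¹ * f x) := by rw [hau]; group
    rw [this]
    exact Subgroup.mul_mem _ (Subgroup.inv_mem _ (hVfoc ha)) h2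
  rw [hau]
  exact X₀.mul_mem (hVX ha) (hcomm (hE5 ⟨h3, hu⟩))


omit [Fact p.Prime] in
/-- conjugation by elements of `S` has focal quotients in the focal subgroup of the normalizer system of `W(S)` -/
theorem conj_mem_nfoc (hW : Cfsg.IsCharPFunctor.{u} p W) {Ω : Type u} [Group Ω] {S : Subgroup Ω} [Finite S]
    (hS : IsPGroup p S) (F : FusionSystem S) :
    ∀ x ∈ S, ∀ s ∈ S, x⁻¹ * (s * x * s⁻¹) ∈ nfoc F (Cfsg.inducedFunctor W S) := by
  intro x hx s hs
  have hW₀S : Cfsg.inducedFunctor W S ≤ S := inducedFunctor_le W S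
  have hSW₀ : S ≤ Subgroup.normalizer ((Cfsg.inducedFunctor W S : Subgroup Ω) : Set Ω) :=
    inducedFunctor_le_of_le hW hS
  have hc : IsMapOn F S (fun y => s * y * s⁻¹) := IsMapOn.conj F le_rfl hs
  have hnm : NMap F (Cfsg.inducedFunctor W S) S (fun y => s * y * s⁻¹) :=
    nmap_of_le_normalizer hSW₀ hc hW₀S (fun y hy => (Subgroup.mem_normalizer_iff.1 (hSW₀ hs) y).1 hy) le_rfl
  exact nFoc_nfoc F _ S _ hnm x hx

/-- nontrivial subgroups normal in `S` are good -/
theorem nFoc_of_normal (hW : Cfsg.IsCharPFunctor.{u} p W) (hT : LocalHyp p W) (h5329 : H5329.{u} p) (n : ℕ)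
    (IH : ∀ m < n, Stmt p W m) {Ω : Type u} [Group Ω] {S : Subgroup Ω} [Finite S] (hcard : Nat.card S = n)
    (hS : IsPGroup p S) {F : FusionSystem S} (hF : F.IsSaturated p) :
    ∀ (k : ℕ) (U : Subgroup Ω), U ≠ ⊥ → U ≤ S → S ≤ Subgroup.normalizer (U : Set Ω) → n - Nat.card U = k →
      NFoc F U (nfoc F (Cfsg.inducedFunctor W S)) := by
  intro k
  induction k using Nat.strong_induction_on with
  | _ k ih =>
  intro U hUne hUS hSU hk
  set W₀ : Subgroup Ω := Cfsg.inducedFunctor W S with hW₀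
  set X₀ : Subgroup Ω := nfoc F W₀ with hX₀
  have hX : ∀ x ∈ S, ∀ s ∈ S, x⁻¹ * (s * x * s⁻¹) ∈ X₀ := conj_mem_nfoc hW hS F
  have hNU : normalizerIn S U = S := le_antisymm inf_le_left (le_inf le_rfl hSU)
  have hUfn : F.IsFullyNormalized U := isFullyNormalized_of_le_normalizer F hUS hSU
  have hN := Helper85_Fusion.normalizerSystem_isNormalizerSystem F U hUS
  have hNsat : (Helper85_Fusion.normalizerSystem F U hUS).IsSaturated p :=
    Cfsg.Agent.S5098.result p hS F hF U hUfn _ hN
  have hNn : (Helper85_Fusion.normalizerSystem F U hUS).IsNormal U :=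
    Helper88_Model.isNormal_of_isNormalizerSystem F hUS _ hN
  set F₁ : FusionSystem S := castSystem hNU (Helper85_Fusion.normalizerSystem F U hUS) with hF₁def
  have hF₁sat : F₁.IsSaturated p := Helper87_TateFusion2.castSystem_isSaturated hNU _ hNsat
  have hF₁n : F₁.IsNormal U := Helper87_TateFusion2.castSystem_isNormal hNU _ hNn
  have hF₁map : ∀ (P : Subgroup Ω) (f : Ω → Ω), IsMapOn F₁ P f ↔ NMap F U P f := by
    intro P f
    constructor
    · rintro ⟨φ, hφ, hφf⟩
      rw [hF₁def, castSystem_hom] at hφ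
      exact (isMapOn_normalizerSystem_iff hUS hN P f).1 ⟨φ, hφ, hφf⟩
    · intro h
      obtain ⟨φ, hφ, hφf⟩ := (isMapOn_normalizerSystem_iff hUS hN P f).2 h
      refine ⟨φ, ?_, hφf⟩
      rw [hF₁def, castSystem_hom]
      exact hφ
  have hsub : ∀ (P : Subgroup Ω) (f : Ω → Ω), IsMapOn F₁ P f → IsMapOn F P f :=
    fun P f h => ((hF₁map P f).1 h).1
  suffices hsuff : AllFoc F₁ X₀ by
    intro P f hf x hx
    exact hsuff P f ((hF₁map P f).2 hf) x hx
  have hnfoc₁ : nfoc F₁ W₀ ≤ X₀ := by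
    apply nfoc_le
    intro P f hf x hx
    exact nFoc_nfoc F W₀ P f (hf.of_subsystem le_rfl hsub) x hx
  by_cases hC : centralizerIn S U ≤ U
  · -- the constrained case
    have hfn₁ : F₁.IsFullyNormalized U := isFullyNormalized_of_le_normalizer F₁ hUS hSU
    have hfc := Helper84_FusionRS.IsSaturated.isFullyCentralized hS hF₁sat hfn₁
    have hUc : F₁.IsCentric U := Helper84_FusionEssential.isCentric_of_centralizerIn_le F₁ hfc hC
    exact (allFoc_of_normal_centric hW hT hS hF₁sat hF₁n hUc).mono hnfoc₁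
  · -- Proposition 3.4 of Kessar–Linckelmann
    have hUS' : U ≠ S := by
      intro h
      apply hC
      rw [h]
      exact inf_le_left
    set R : Subgroup Ω := U ⊔ centralizerIn S U with hR
    have hRS : R ≤ S := sup_le hUS inf_le_left
    have hSR : S ≤ Subgroup.normalizer (R : Set Ω) := le_normalizer_sup_centralizerIn hF₁n
    have hUltR : U < R := by
      refine lt_of_le_of_ne le_sup_left ?_
      intro h
      apply hC
      have h1 : centralizerIn S U ≤ R := le_sup_right
      rwa [← h] at h1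
    have hgoodV : ∀ V : Subgroup Ω, U < V → V ≤ S → S ≤ Subgroup.normalizer (V : Set Ω) → NFoc F V X₀ := by
      intro V hUV hVS hVn
      have hcardV : Nat.card U < Nat.card V := Helper84_FusionAlperin.card_lt_card_of_lt hVS hUV
      have hcardVS : Nat.card V ≤ n := hcard ▸ Helper84_FusionAlperin.card_le_card_S hVS
      have hVne : V ≠ ⊥ := fun h => hUne (le_bot_iff.1 (h ▸ hUV.le))
      exact ih (n - Nat.card V) (by omega) V hVne hVS hVn rfl
    have hsub₂ : ∀ (P : Subgroup Ω) (f : Ω → Ω), IsMapOn (scSystem F₁ U hUS hSU) P f → IsMapOn F P f :=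
      fun P f h => hsub P f (isMapOn_of_scSystem F₁ hUS hSU h)
    have hsc : AllFoc (scSystem F₁ U hUS hSU) X₀ := by
      refine allFoc_sc hW h5329 n IH hcard hS hF₁sat hUS hSU hUne hUS' hX (fun V hUV hVS hVn => ?_)
      intro P f hf x hx
      exact hgoodV V hUV hVS hVn P f (hf.of_subsystem le_rfl hsub₂) x hx
    have key := isMapOn_of_sc_of_norm hS F₁ hF₁sat hF₁n hSU (focSystem F X₀ hX)
      (fun P f hf => isMapOn_focSystem_iff.2 ⟨hsub₂ P f hf, hsc P f hf⟩)
      (fun P f hf => by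
        obtain ⟨h1, h2, h3, g, hg, hgf, himg⟩ := hf
        have hnm : NMap F R P f :=
          ⟨hsub P f h1, h2, h3, P ⊔ R, g, le_sup_left, le_sup_right, hsub _ g hg, hgf,
            fun x hx => (himg _).2 ⟨x, hx, rfl⟩⟩
        exact isMapOn_focSystem_iff.2 ⟨hsub P f h1, fun x hx => hgoodV R hUltR hRS hSR P f hnm x hx⟩)
    intro P f hf x hx
    exact (isMapOn_focSystem_iff.1 (key P f hf)).2 x hx


/-- **Main theorem.** -/
theorem main (hW : Cfsg.IsCharPFunctor.{u} p W) (hT : LocalHyp p W) (h5329 : H5329.{u} p) :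
    ∀ n : ℕ, Stmt p W n := by
  intro n
  induction n using Nat.strong_induction_on with
  | _ n IH =>
  intro Ω _ S _ hcard hS F hF
  set W₀ : Subgroup Ω := Cfsg.inducedFunctor W S with hW₀
  set X₀ : Subgroup Ω := nfoc F W₀ with hX₀
  have hX : ∀ x ∈ S, ∀ s ∈ S, x⁻¹ * (s * x * s⁻¹) ∈ X₀ := conj_mem_nfoc hW hS F
  have claim : ∀ k : ℕ, ∀ U : Subgroup Ω, U ≠ ⊥ → F.IsFullyNormalized U →
      Nat.card S - Nat.card (normalizerIn S U) = k → NFoc F U X₀ := by
    intro k
    induction k using Nat.strong_induction_on with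
    | _ k ihk =>
    intro U hUne hUfn hk
    have hUS : U ≤ S := hUfn.1
    have hTS : normalizerIn S U ≤ S := inf_le_left
    by_cases hT' : normalizerIn S U = S
    · have hSU : S ≤ Subgroup.normalizer (U : Set Ω) := by
        intro s hs
        have h1 : s ∈ normalizerIn S U := hT'.symm ▸ hs
        exact h1.2
      exact nFoc_of_normal hW hT h5329 n IH hcard hS hF _ U hUne hUS hSU rfl
    · have hTlt : normalizerIn S U < S := lt_of_le_of_ne hTS hT'
      have hE := Helper85_Fusion.normalizerSystem_isNormalizerSystem F U hUS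
      have hEsat : (Helper85_Fusion.normalizerSystem F U hUS).IsSaturated p :=
        Cfsg.Agent.S5098.result p hS F hF U hUfn _ hE
      have hfinT : Finite (normalizerIn S U) := Helper84_FusionRS.finite_of_le_S hTS
      have hpT : IsPGroup p (normalizerIn S U) := hS.to_le hTS
      have hcardT : Nat.card (normalizerIn S U) < n :=
        hcard ▸ Helper84_FusionAlperin.card_lt_card_of_lt le_rfl hTlt
      have hsub := Helper84_KLMain.isMapOn_of_normalizerSystem hE
      have hIH : AllFoc (Helper85_Fusion.normalizerSystem F U hUS)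
          (nfoc (Helper85_Fusion.normalizerSystem F U hUS) (Cfsg.inducedFunctor W (normalizerIn S U))) :=
        IH _ hcardT Ω (normalizerIn S U) rfl hpT _ hEsat
      have hV₀T : Cfsg.inducedFunctor W (normalizerIn S U) ≤ normalizerIn S U := inducedFunctor_le W _
      have hTne : normalizerIn S U ≠ ⊥ := fun h =>
        hUne (le_bot_iff.1 (h ▸ Helper87_Alperin.le_normalizerIn hUS))
      have hV₀ne : Cfsg.inducedFunctor W (normalizerIn S U) ≠ ⊥ := inducedFunctor_ne_bot hW hpT hTne
      obtain ⟨V, χ, hVfn, hVne, hVcard, hχ, hχV, hχN⟩ := exists_transport hS hF (hV₀T.trans hTS)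
      have h1 : normalizerIn S (normalizerIn S U) ≤
          normalizerIn S (Cfsg.inducedFunctor W (normalizerIn S U)) :=
        inf_le_inf_left _ (normalizer_le_normalizer_inducedFunctor hW (normalizerIn S U) hpT)
      have h2 : normalizerIn S U < normalizerIn S (normalizerIn S U) :=
        Helper84_FusionAlperin.lt_normalizerIn hS hTlt
      have h3 : Nat.card (normalizerIn S U) <
          Nat.card (normalizerIn S (Cfsg.inducedFunctor W (normalizerIn S U))) := by
        have : Finite (normalizerIn S (Cfsg.inducedFunctor W (normalizerIn S U))) :=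
          Helper84_FusionRS.finite_of_le_S inf_le_left
        exact (Helper84_FusionAlperin.card_lt_card_of_lt inf_le_left h2).trans_le
          (Subgroup.card_le_of_le h1)
      have h4 : Nat.card (normalizerIn S V) ≤ Nat.card S :=
        Helper84_FusionAlperin.card_le_card_S inf_le_left
      have hk' : Nat.card S - Nat.card (normalizerIn S V) < k := by omega
      have hVgood : NFoc F V X₀ := ihk _ hk' V (hVne hV₀ne) hVfn rfl
      -- the focal quotients of `χ`
      have hχX : ∀ x ∈ normalizerIn S (Cfsg.inducedFunctor W (normalizerIn S U)), x⁻¹ * χ x ∈ X₀ := by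
        refine allFoc_of_frc_bounded hS hF hX (Nat.card (normalizerIn S U) + 1) ?_ _ χ hχ (by omega)
        intro Q hQfn hQc hQrad hm α hα x hx
        have hQS : Q ≤ S := hQfn.1
        have hfinQ : Finite Q := Helper84_FusionRS.finite_of_le_S hQS
        have hTpos : 0 < Nat.card (normalizerIn S U) := Nat.card_pos
        have hQne : Q ≠ ⊥ := by
          intro h
          rw [h, Subgroup.card_bot] at hm
          omega
        have hfinNQ : Finite (normalizerIn S Q) := Helper84_FusionRS.finite_of_le_S inf_le_left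
        have hQN : Nat.card Q ≤ Nat.card (normalizerIn S Q) :=
          Subgroup.card_le_of_le (Helper87_Alperin.le_normalizerIn hQS)
        have h5 : Nat.card (normalizerIn S Q) ≤ Nat.card S :=
          Helper84_FusionAlperin.card_le_card_S inf_le_left
        have hk'' : Nat.card S - Nat.card (normalizerIn S Q) < k := by omega
        exact ihk _ hk'' Q hQne hQfn rfl Q (extFun α) (nmap_of_aut hQS hα) x hx
      have hV₀good : NFoc F (Cfsg.inducedFunctor W (normalizerIn S U)) X₀ :=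
        nFoc_of_conj (hV₀T.trans hTS) hχ hχV hχN hχX hVgood
      intro P f hf x hx
      have hfE : IsMapOn (Helper85_Fusion.normalizerSystem F U hUS) P f :=
        (isMapOn_normalizerSystem_iff hUS hE P f).2 hf
      have h5 := hIH P f hfE x hx
      have h6 : nfoc (Helper85_Fusion.normalizerSystem F U hUS) (Cfsg.inducedFunctor W (normalizerIn S U)) ≤
          X₀ := by
        apply nfoc_le
        intro P' f' hf' x' hx'
        exact hV₀good P' f' (hf'.of_subsystem hTS hsub) x' hx'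
      exact h6 h5
  intro D g hg x hx
  refine allFoc_of_frc_bounded hS hF hX 0 ?_ D g hg (Nat.zero_le _) x hx
  intro Q hQfn hQc hQrad _ α hα y hy
  have hQS : Q ≤ S := hQfn.1
  by_cases hQ : Q = ⊥
  · subst hQ
    rw [Subgroup.mem_bot] at hy
    subst hy
    have h1 := ((mem_autGroup_iff F hQS α).1 hα).map_one
    rw [h1, inv_one, one_mul]
    exact X₀.one_mem
  · exact claim _ Q hQ hQfn rfl Q (extFun α) (nmap_of_aut hQS hα) y hy


/-- **Control of transfer**: the focal subgroup of the normalizer system of `W(S)` is the focal subgroup of `F`. -/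
theorem focalSubgroup_normalizerSystem_eq (hW : Cfsg.IsCharPFunctor.{u} p W) (hT : LocalHyp p W)
    (h5329 : H5329.{u} p) {Ω : Type u} [Group Ω] {S : Subgroup Ω} [Finite S] (hS : IsPGroup p S)
    (F : FusionSystem S) (hF : F.IsSaturated p) (N : FusionSystem (normalizerIn S (Cfsg.inducedFunctor W S)))
    (hN : F.IsNormalizerSystem (Cfsg.inducedFunctor W S) N) : N.focalSubgroup = F.focalSubgroup := by
  have hW₀S : Cfsg.inducedFunctor W S ≤ S := inducedFunctor_le W S
  apply le_antisymm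
  · rw [focalSubgroup_le_iff]
    intro P f hf x hx
    exact mem_focalSubgroup_of_isMapOn (Helper84_KLMain.isMapOn_of_normalizerSystem hN P f hf) hx
  · rw [focalSubgroup_le_iff]
    have h1 : nfoc F (Cfsg.inducedFunctor W S) ≤ N.focalSubgroup := by
      apply nfoc_le
      intro P f hf x hx
      exact mem_focalSubgroup_of_isMapOn ((isMapOn_normalizerSystem_iff hW₀S hN P f).2 hf) hx
    exact (main hW hT h5329 _ Ω S rfl hS F hF).mono h1

end Cfsg.Agent.Lib.Helper84_FocMain
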