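import Cfsg.Agent.Lib.Helper84_FocBasic
import Cfsg.Agent.Lib.Helper84_KLRealized
import Mathlib.GroupTheory.Focal

/-!
# Focal subgroups: the realized case (helper84)

If a fusion system `F` over `S` is realized by a finite group `G` with Sylow subgroup `T` the image of `S`, `W` is a
characteristic `p`-functor, and `T ∩ G' ≤ N_G(W(T))'`, then the focal subgroup of `F` is the focal subgroup of the
normalizer system of `W(S)`.
-/

set_option autoImplicit false

namespace Cfsg.Agent.Lib.Helper84_FocRealized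

open Cfsg Cfsg.FusionSystem Cfsg.Agent.Lib.Helper87_Alperin Cfsg.Agent.Lib.Helper87_Alperin2
  Cfsg.Agent.Lib.Helper87_Factor Cfsg.Agent.Lib.Helper84_KLBasic Cfsg.Agent.Lib.Helper84_KLRealized
  Cfsg.Agent.Lib.Helper34_NPC Cfsg.Agent.Lib.Helper84_FocBasic

open scoped commutatorElement

universe u

section conj

variable {Ω : Type*} [Group Ω] {S : Subgroup Ω} {G : Type*} [Group G]

/-- the elements of `S` whose image is conjugated into the image of `S` by `u` -/
def conjDom (ι : S →* G) (u : G) : Subgroup Ω :=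
  (((ι.range).comap ((MulAut.conj u).toMonoidHom.comp ι))).map S.subtype

theorem conjDom_le (ι : S →* G) (u : G) : conjDom ι u ≤ S := by
  rintro _ ⟨s, -, rfl⟩
  exact s.2

theorem mem_conjDom (ι : S →* G) (u : G) {y : Ω} (hy : y ∈ S) :
    y ∈ conjDom ι u ↔ u * extOn ι y * u⁻¹ ∈ ι.range := by
  rw [extOn_apply ι hy]
  constructor
  · rintro ⟨s, hs, hsy⟩
    have : s = ⟨y, hy⟩ := Subtype.ext hsy
    subst this
    exact hs
  · intro h
    exact ⟨⟨y, hy⟩, h, rfl⟩

end conj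

section main

variable {Ω : Type u} [Group Ω] {S : Subgroup Ω} {G : Type u} [Group G] {ι : S →* G} {F : FusionSystem S}
  {p : ℕ} {W : ∀ (Q : Type u) [Group Q], Subgroup Q}

/-- conjugation by an element normalizing `W(T)` is a map of the normalizer system of `W(S)` -/
theorem exists_nmap_of_conj [Finite S] (hS : IsPGroup p S) (hW : Cfsg.IsCharPFunctor.{u} p W)
    (hreal : F.IsRealizedBy ι) (u : G)
    (hu : u ∈ Subgroup.normalizer ((Cfsg.inducedFunctor W ι.range : Subgroup G) : Set G)) :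
    ∃ f : Ω → Ω, NMap F (Cfsg.inducedFunctor W S) (conjDom ι u) f ∧
      ∀ y ∈ conjDom ι u, extOn ι (f y) = u * extOn ι y * u⁻¹ := by
  have hι : Function.Injective ι := hreal.1
  set W₀ : Subgroup Ω := Cfsg.inducedFunctor W S with hW₀
  have hW₀S : W₀ ≤ S := inducedFunctor_le W S
  have hSW₀ : S ≤ normalizerIn S W₀ := le_inf le_rfl (inducedFunctor_le_of_le hW hS)
  set V : Subgroup G := Cfsg.inducedFunctor W ι.range with hV
  have hVmem : ∀ y ∈ S, (extOn ι y ∈ V ↔ y ∈ W₀) := fun y hy => mem_inducedFunctor_range hW hS hι hy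
  have hVT : V ≤ ι.range := inducedFunctor_le W _
  have huV : ∀ z ∈ V, u * z * u⁻¹ ∈ V := fun z hz => (Subgroup.mem_normalizer_iff.1 hu z).1 hz
  have hDS : conjDom ι u ≤ S := conjDom_le ι u
  have hWD : W₀ ≤ conjDom ι u := by
    intro y hy
    rw [mem_conjDom ι u (hW₀S hy)]
    exact hVT (huV _ ((hVmem y (hW₀S hy)).2 hy))
  obtain ⟨f, hf, hfg⟩ := exists_isMapOn_of_conj hreal hDS u
    (fun x hx => (mem_conjDom ι u (hDS hx)).1 hx)
  have hfW₀ : ∀ x ∈ W₀, f x ∈ W₀ := by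
    intro x hx
    rw [← hVmem _ (hf.mem (hWD hx)), hfg x (hWD hx)]
    exact huV _ ((hVmem x (hW₀S hx)).2 hx)
  exact ⟨f, ⟨hf, hDS.trans hSW₀, fun x hx => hSW₀ (hf.mem hx), conjDom ι u, f, le_rfl, hWD, hf,
    fun _ _ => rfl, hfW₀⟩, hfg⟩

/-- **The realized case.** -/
theorem allFoc_of_realized [Finite S] [Fact p.Prime] (hS : IsPGroup p S)
    (hW : Cfsg.IsCharPFunctor.{u} p W) [Finite G] (hreal : F.IsRealizedBy ι) (T : Sylow p G)
    (hT : (T : Subgroup G) = ι.range)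
    (hfct : (T : Subgroup G) ⊓ ⁅(⊤ : Subgroup G), ⊤⁆ ≤
      ⁅Subgroup.normalizer ((Cfsg.inducedFunctor W (T : Subgroup G) : Subgroup G) : Set G),
        Subgroup.normalizer ((Cfsg.inducedFunctor W (T : Subgroup G) : Subgroup G) : Set G)⁆) :
    AllFoc F (nfoc F (Cfsg.inducedFunctor W S)) := by
  have hι : Function.Injective ι := hreal.1
  set W₀ : Subgroup Ω := Cfsg.inducedFunctor W S with hW₀
  set X₀ : Subgroup Ω := nfoc F W₀ with hX₀
  have hX₀S : X₀ ≤ S := nfoc_le_S F W₀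
  set V : Subgroup G := Cfsg.inducedFunctor W (T : Subgroup G) with hV
  set M : Subgroup G := Subgroup.normalizer (V : Set G) with hM
  have hTM : (T : Subgroup G) ≤ M :=
    Subgroup.le_normalizer.trans (normalizer_le_normalizer_inducedFunctor hW (T : Subgroup G) T.2)
  have hVeq : V = Cfsg.inducedFunctor W ι.range := by rw [hV, hT]
  -- the focal subgroup theorem in `M`
  set TM : Sylow p ↥M := T.subtype hTM with hTMdef
  have hfocal : commutator ↥M ⊓ (TM : Subgroup ↥M) = (TM : Subgroup ↥M).focalSubgroup :=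
    Subgroup.commutator_inf_eq_focalSubgroup TM
  -- the focal subgroup of `TM` lies in the image of `X₀`
  have hgen : (TM : Subgroup ↥M).focalSubgroup ≤
      (((X₀.subgroupOf S).map ι).comap M.subtype) := by
    rw [Subgroup.focalSubgroup_def, Subgroup.closure_le]
    rintro g' ⟨hg'T, x', hx'T, u, rfl⟩
    rw [hTMdef, Sylow.coe_subtype, Subgroup.mem_subgroupOf] at hg'T hx'T
    have hx'r : (x' : G) ∈ ι.range := hT ▸ hx'T
    obtain ⟨s, hs⟩ := hx'r
    have huN : (u : G) ∈ Subgroup.normalizer ((Cfsg.inducedFunctor W ι.range : Subgroup G) : Set G) := by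
      rw [← hVeq]
      exact u.2
    obtain ⟨f, hnm, hfu⟩ := exists_nmap_of_conj hS hW hreal (u : G) huN
    -- the element `s⁻¹`
    have hcomm : ((⁅x', u⁆ : ↥M) : G) = (x' : G) * ((u : G) * (x' : G)⁻¹ * (u : G)⁻¹) := by
      rw [commutatorElement_def]
      push_cast
      group
    have h1 : (u : G) * (x' : G)⁻¹ * (u : G)⁻¹ ∈ (T : Subgroup G) := by
      have h2 : (u : G) * (x' : G)⁻¹ * (u : G)⁻¹ = (x' : G)⁻¹ * ((⁅x', u⁆ : ↥M) : G) := by
        rw [hcomm]
        group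
      rw [h2]
      exact (T : Subgroup G).mul_mem ((T : Subgroup G).inv_mem hx'T) hg'T
    have hsinv : ((s : Ω)⁻¹) ∈ conjDom ι (u : G) := by
      rw [mem_conjDom ι (u : G) (S.inv_mem s.2), extOn_inv ι s.2, extOn_coe, hs, ← hT]
      exact h1
    have h3 := nFoc_nfoc F W₀ _ f hnm _ hsinv
    rw [inv_inv] at h3
    have h4 : (s : Ω) * f ((s : Ω)⁻¹) ∈ S := hX₀S h3
    show ((⁅x', u⁆ : ↥M) : G) ∈ (X₀.subgroupOf S).map ι
    refine ⟨⟨(s : Ω) * f ((s : Ω)⁻¹), h4⟩, Subgroup.mem_subgroupOf.2 h3, ?_⟩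
    have h5 : f ((s : Ω)⁻¹) ∈ S := hnm.1.mem hsinv
    have h6 := extOn_mul ι s.2 h5
    rw [extOn_apply ι h4, hfu _ hsinv, extOn_inv ι s.2, extOn_coe, hs] at h6
    rw [h6, hcomm]
  intro P f hf x hx
  have hPS : P ≤ S := hf.le
  obtain ⟨g, hg⟩ := exists_conj_of_isMapOn hreal hf
  have hyS : x⁻¹ * f x ∈ S := S.mul_mem (S.inv_mem (hPS hx)) (hf.mem hx)
  have h1 : extOn ι (x⁻¹ * f x) ∈ (T : Subgroup G) ⊓ ⁅(⊤ : Subgroup G), ⊤⁆ := by
    refine ⟨hT ▸ extOn_mem_range ι hyS, ?_⟩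
    rw [extOn_mul ι (S.inv_mem (hPS hx)) (hf.mem hx), extOn_inv ι (hPS hx), hg x hx]
    have h2 : (extOn ι x)⁻¹ * (g * extOn ι x * g⁻¹) = ⁅(extOn ι x)⁻¹, g⁆ := by
      rw [commutatorElement_def]
      group
    rw [h2]
    exact Subgroup.commutator_mem_commutator (Subgroup.mem_top _) (Subgroup.mem_top _)
  have h2 := hfct h1
  rw [← Subgroup.map_subtype_commutator] at h2
  obtain ⟨z, hzc, hzy⟩ := h2
  have hzT : z ∈ (TM : Subgroup ↥M) := by
    rw [hTMdef, Sylow.coe_subtype, Subgroup.mem_subgroupOf]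
    have : (z : G) = extOn ι (x⁻¹ * f x) := hzy
    rw [this]
    exact h1.1
  have h3 : z ∈ (TM : Subgroup ↥M).focalSubgroup := hfocal ▸ ⟨hzc, hzT⟩
  obtain ⟨s, hsX, hsz⟩ := hgen h3
  have h4 : ι s = extOn ι (x⁻¹ * f x) := hsz.trans hzy
  rw [extOn_apply ι hyS] at h4
  have h5 : s = ⟨x⁻¹ * f x, hyS⟩ := hι h4
  rw [h5] at hsX
  exact Subgroup.mem_subgroupOf.1 hsX

end main

end Cfsg.Agent.Lib.Helper84_FocRealized
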