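import Mathlib
import Cfsg.Prelude.Def_Solvable
import Cfsg.Prelude.Def_CaseTheorems
import Cfsg.Agent.Lib.Helper84_TutteDefs
import Cfsg.Agent.Lib.Helper84_TutteAPI

/-!
# S4385 package C-SYS: from the chain to a Tutte system (paper (1.10)).
-/

set_option autoImplicit false

open scoped commutatorElement
open Cfsg.Agent.Lib.Helper84_TutteDefs

namespace Cfsg.Agent.Lib.Helper84_Tutte_CSYS

variable {G : Type*} [Group G] {H : Subgroup G} {g x0 : G} {s lam : ℕ}

theorem mem_RS' {A : Set ℤ} {x : G} : x ∈ RS H g A ↔ ∀ l ∈ A, g ^ (-l) * x * g ^ l ∈ H := by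
  unfold RS
  simp only [Subgroup.mem_iInf]
  constructor
  · intro h l hl
    have := h l hl
    rw [mem_cj] at this
    rwa [zpow_neg]
  · intro h l hl
    rw [mem_cj]
    have := h l hl
    rwa [zpow_neg] at this

theorem cj_zpow_RI' (k i j : ℤ) : cj (g ^ k) (RI H g i j) = RI H g (i + k) (j + k) := by
  ext x
  rw [mem_cj]
  unfold RI
  rw [mem_RS', mem_RS']
  constructor
  · intro h l hl
    have := h (l - k) ⟨by have := hl.1; omega, by have := hl.2; omega⟩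
    have e : g ^ (-(l - k)) * ((g ^ k)⁻¹ * x * g ^ k) * g ^ (l - k) = g ^ (-l) * x * g ^ l := by group
    rwa [e] at this
  · intro h l hl
    have := h (l + k) ⟨by have := hl.1; omega, by have := hl.2; omega⟩
    have e : g ^ (-(l + k)) * x * g ^ (l + k) = g ^ (-l) * ((g ^ k)⁻¹ * x * g ^ k) * g ^ l := by group
    rwa [e] at this

theorem RI_zero_one' : RI H g 0 1 = H ⊓ cj g H := by
  ext x
  unfold RI
  rw [mem_RS', Subgroup.mem_inf, mem_cj]
  constructor
  · intro h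
    refine ⟨?_, ?_⟩
    · have := h 0 ⟨le_rfl, by norm_num⟩
      simpa using this
    · have := h 1 ⟨by norm_num, le_rfl⟩
      simpa using this
  · rintro ⟨h0, h1⟩ l ⟨hl0, hl1⟩
    have : l = 0 ∨ l = 1 := by omega
    rcases this with rfl | rfl
    · simpa using h0
    · simpa using h1

theorem RI_anti' {i j i' j' : ℤ} (h1 : i' ≤ i) (h2 : j ≤ j') : RI H g i' j' ≤ RI H g i j := by
  intro x hx
  unfold RI at *
  rw [mem_RS'] at *
  intro l hl
  exact hx l ⟨le_trans h1 hl.1, le_trans hl.2 h2⟩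

theorem RI_le_H {j : ℤ} (hj : 0 ≤ j) : RI H g 0 j ≤ H := by
  intro x hx
  unfold RI at hx
  rw [mem_RS'] at hx
  have := hx 0 ⟨le_rfl, hj⟩
  simpa using this

theorem card_chain (hd : ChainData H g s) (hbot : RI H g 0 s = ⊥) :
    ∀ m : ℕ, m + 1 ≤ s → Nat.card (RI H g 0 ((s : ℤ) - m)) = 2 ^ m := by
  intro m
  induction m with
  | zero =>
    intro _
    simp only [Nat.cast_zero, sub_zero, pow_zero]
    rw [hbot]
    exact Subgroup.card_bot
  | succ m ih =>
    intro hm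
    have ih' := ih (by omega)
    obtain ⟨k, hk⟩ : ∃ k : ℕ, k + (m + 1) = s := ⟨s - (m + 1), by omega⟩
    have h2 := hd.idx k (by omega) (by omega)
    have e1 : ((s : ℤ) - m) = (k : ℤ) + 1 := by rw [← hk]; push_cast; ring
    have e2 : ((s : ℤ) - ((m + 1 : ℕ) : ℤ)) = (k : ℤ) := by rw [← hk]; push_cast; ring
    rw [e1] at ih'
    rw [e2]
    have hle : RI H g 0 ((k : ℤ) + 1) ≤ RI H g 0 k := RI_anti' le_rfl (by omega)
    have := card_mul_relIndex' hle
    rw [ih', h2] at this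
    rw [← this, pow_succ]

theorem zpowers_xs (x0 : G) (l : ℤ) :
    cj (g ^ (-l)) (Subgroup.zpowers x0) = Subgroup.zpowers (xs g x0 l) := by
  unfold cj
  rw [MonoidHom.map_zpowers]
  congr 1
  change g ^ (-l) * x0 * (g ^ (-l))⁻¹ = g ^ (-l) * x0 * g ^ l
  rw [zpow_neg, inv_inv]

theorem XX_eq_iSup (x0 : G) (j : ℕ) :
    XX g x0 0 j = ⨆ l ∈ Finset.range (j + 1), Subgroup.zpowers (xs g x0 (l : ℤ)) := by
  apply le_antisymm
  · rw [XX_le_iff]
    intro l h0 hj
    obtain ⟨l', rfl⟩ : ∃ l' : ℕ, l = l' := ⟨l.toNat, by omega⟩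
    have hl' : l' ∈ Finset.range (j + 1) := by rw [Finset.mem_range]; omega
    exact (le_iSup₂ (f := fun l (_ : l ∈ Finset.range (j + 1)) => Subgroup.zpowers (xs g x0 (l : ℤ))) l' hl')
      (Subgroup.mem_zpowers _)
  · refine iSup₂_le ?_
    intro l hl
    rw [Finset.mem_range] at hl
    rw [Subgroup.zpowers_le]
    exact xs_mem_XX (by omega) (by omega)

theorem exists_tsys (hc : ChainHyp H g) (hd : ChainData H g s) (hbot : RI H g 0 s = ⊥)
    (hgen1 : ∀ j : ℕ, j + 2 ≤ s →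
      ⨆ l ∈ Finset.range (j + 1), RI H g (-(l : ℤ)) ((s : ℤ) - 1 - l) = RI H g 0 ((s : ℤ) - 1 - j))
    (hgen2 : ⨆ l ∈ Finset.range s, RI H g (-(l : ℤ)) ((s : ℤ) - 1 - l) = H) :
    ∃ x0 : G, TSys H g x0 s ∧ XX g x0 0 ((s : ℤ) - 2) = H ⊓ cj g H ∧ Nat.card ↥(H ⊓ cj g H) = 2 ^ (s - 1) := by
  have hs2 := hd.two_le
  have hcard := card_chain hd hbot
  -- the generator
  have h2 : Nat.card (RI H g 0 ((s : ℤ) - 1)) = 2 := by
    have := hcard 1 (by omega)
    simpa using this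
  obtain ⟨x0, hx0ne, hx0mem, hmem⟩ : ∃ x0 : G, x0 ≠ 1 ∧ x0 ∈ RI H g 0 ((s : ℤ) - 1) ∧
      ∀ z ∈ RI H g 0 ((s : ℤ) - 1), z = 1 ∨ z = x0 := by
    obtain ⟨x0', hx0', huniq⟩ := (Nat.card_eq_two_iff' (1 : ↥(RI H g 0 ((s : ℤ) - 1)))).mp h2
    refine ⟨(x0' : G), ?_, x0'.2, ?_⟩
    · intro h; apply hx0'; exact Subtype.ext h
    · intro z hz
      by_cases h1 : z = 1
      · left; exact h1
      · right
        have := huniq ⟨z, hz⟩ (by intro h; apply h1; exact congrArg Subtype.val h)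
        exact congrArg Subtype.val this
  have hsq : x0 * x0 = 1 := by
    rcases hmem _ ((RI H g 0 ((s : ℤ) - 1)).mul_mem hx0mem hx0mem) with h | h
    · exact h
    · exfalso; apply hx0ne
      have : x0 * x0 = x0 * 1 := by rw [mul_one]; exact h
      exact mul_left_cancel this
  have hR : RI H g 0 ((s : ℤ) - 1) = Subgroup.zpowers x0 := by
    apply le_antisymm
    · intro z hz
      rcases hmem z hz with rfl | rfl
      · exact Subgroup.one_mem _
      · exact Subgroup.mem_zpowers _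
    · rw [Subgroup.zpowers_le]; exact hx0mem
  clear hmem hx0mem
  -- Y_l
  have hY : ∀ l : ℕ, RI H g (-(l : ℤ)) ((s : ℤ) - 1 - l) = Subgroup.zpowers (xs g x0 l) := by
    intro l
    rw [← zpowers_xs, ← hR, cj_zpow_RI']
    congr 1
    ring
  have hXX1 : ∀ j : ℕ, j + 2 ≤ s → XX g x0 0 j = RI H g 0 ((s : ℤ) - 1 - j) := by
    intro j hj
    rw [XX_eq_iSup, ← hgen1 j hj]
    simp only [hY]
  have hXX2 : XX g x0 0 ((s : ℤ) - 1) = H := by
    obtain ⟨t, rfl⟩ : ∃ t : ℕ, s = t + 1 := ⟨s - 1, by omega⟩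
    have e : (((t + 1 : ℕ) : ℤ) - 1) = (t : ℤ) := by push_cast; ring
    rw [e, XX_eq_iSup, ← hgen2]
    simp only [hY]
  have hP : XX g x0 0 ((s : ℤ) - 2) = H ⊓ cj g H := by
    obtain ⟨t, rfl⟩ : ∃ t : ℕ, s = t + 2 := ⟨s - 2, by omega⟩
    have e : (((t + 2 : ℕ) : ℤ) - 2) = (t : ℤ) := by push_cast; ring
    rw [e, hXX1 t le_rfl, ← RI_zero_one']
    congr 1
    push_cast; ring_nf
  refine ⟨x0, ⟨hs2, hsq, ?_, hXX2, hc.not2, hc.core⟩, hP, ?_⟩
  · intro j hj
    rcases Nat.eq_zero_or_pos j with rfl | hjpos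
    · rw [XX_eq_bot (by norm_num)]
      simp
    · obtain ⟨t, rfl⟩ : ∃ t : ℕ, j = t + 1 := ⟨j - 1, by omega⟩
      have e : (((t + 1 : ℕ) : ℤ) - 1) = (t : ℤ) := by push_cast; ring
      rw [e, hXX1 t (by omega)]
      have := hcard (t + 1) (by omega)
      rw [← this]
      congr 2
      push_cast; ring_nf
  · rw [← RI_zero_one']
    have := hcard (s - 1) (by omega)
    rw [← this]
    congr 2
    have : ((s - 1 : ℕ) : ℤ) = (s : ℤ) - 1 := by omega
    rw [this]; ring_nf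

end Cfsg.Agent.Lib.Helper84_Tutte_CSYS
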