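import Mathlib
import Cfsg.Agent.Lib.Helper84_TutteDefs
import Cfsg.Agent.Lib.Helper84_TutteAPI
import Cfsg.Agent.Lib.Helper84_GlDefs
import Cfsg.Agent.Lib.Helper84_GlAPI
import Cfsg.Agent.Lib.Helper84_Tutte_CSYS

/-!
# S4359 package GC-SYS: from the chain to a `p`-system (paper (1.7)-(1.8)).
-/

set_option autoImplicit false

open scoped commutatorElement
open Cfsg.Agent.Lib.Helper84_TutteDefs Cfsg.Agent.Lib.Helper84_GlDefs

namespace Cfsg.Agent.Lib.Helper84_Gl_GCSYS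

open Cfsg.Agent.Lib.Helper84_Tutte_CSYS

variable {G : Type*} [Group G] {P : Subgroup G} {g x0 : G} {p t lam : ℕ}

theorem card_pchain (hd : PChainData P g p t) (hbot : RI P g 0 t = ⊥) :
    ∀ m : ℕ, m ≤ t → Nat.card (RI P g 0 ((t : ℤ) - m)) = p ^ m := by
  intro m
  induction m with
  | zero =>
    intro _
    simp only [Nat.cast_zero, sub_zero, pow_zero]
    rw [hbot]
    exact Subgroup.card_bot
  | succ m ih =>
    intro hm
    have ih' := ih (by omega)
    obtain ⟨k, hk⟩ : ∃ k : ℕ, k + (m + 1) = t := ⟨t - (m + 1), by omega⟩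
    have h2 := hd.idx k (by omega)
    have e1 : ((t : ℤ) - m) = (k : ℤ) + 1 := by rw [← hk]; push_cast; ring
    have e2 : ((t : ℤ) - ((m + 1 : ℕ) : ℤ)) = (k : ℤ) := by rw [← hk]; push_cast; ring
    rw [e1] at ih'
    rw [e2]
    have hle : RI P g 0 ((k : ℤ) + 1) ≤ RI P g 0 k := RI_anti' le_rfl (by omega)
    have := card_mul_relIndex' hle
    rw [ih', h2] at this
    rw [← this, pow_succ]

theorem RI_zero_zero' : RI P g 0 0 = P := by
  ext x
  unfold RI
  rw [mem_RS']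
  constructor
  · intro h
    have := h 0 ⟨le_rfl, le_rfl⟩
    simpa using this
  · intro h l hl
    have : l = 0 := le_antisymm hl.2 hl.1
    subst this
    simpa using h

theorem exists_psys (hc : PChainHyp P g p) (hd : PChainData P g p t) (hbot : RI P g 0 t = ⊥)
    (hgen : ∀ j : ℕ, j + 1 ≤ t →
      ⨆ l ∈ Finset.range (j + 1), RI P g (-(l : ℤ)) ((t : ℤ) - 1 - l) = RI P g 0 ((t : ℤ) - 1 - j)) :
    ∃ x0 : G, PSys P g x0 p t := by
  have ht := hd.one_le
  have hp := hc.prime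
  have : Fact p.Prime := ⟨hp⟩
  have hcard := card_pchain hd hbot
  have h2 : Nat.card (RI P g 0 ((t : ℤ) - 1)) = p := by
    have := hcard 1 (by omega)
    simpa using this
  -- the generator
  obtain ⟨x0, hx0p, hR⟩ : ∃ x0 : G, x0 ^ p = 1 ∧ RI P g 0 ((t : ℤ) - 1) = Subgroup.zpowers x0 := by
    have hfin : Finite ↥(RI P g 0 ((t : ℤ) - 1)) := Nat.finite_of_card_ne_zero (by rw [h2]; exact hp.ne_zero)
    have hnt : Nontrivial ↥(RI P g 0 ((t : ℤ) - 1)) := by
      rw [← Finite.one_lt_card_iff_nontrivial, h2]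
      exact hp.one_lt
    obtain ⟨x0', hx0'⟩ := exists_ne (1 : ↥(RI P g 0 ((t : ℤ) - 1)))
    have htop := zpowers_eq_top_of_prime_card h2 hx0'
    refine ⟨(x0' : G), ?_, ?_⟩
    · have := pow_card_eq_one' (G := ↥(RI P g 0 ((t : ℤ) - 1))) (x := x0')
      rw [h2] at this
      have h3 := congrArg Subtype.val this
      simpa using h3
    · have h3 : (Subgroup.zpowers x0').map (RI P g 0 ((t : ℤ) - 1)).subtype = Subgroup.zpowers (x0' : G) := by
        rw [MonoidHom.map_zpowers]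
        rfl
      rw [← h3, htop, ← MonoidHom.range_eq_map, Subgroup.range_subtype]
  have hY : ∀ l : ℕ, RI P g (-(l : ℤ)) ((t : ℤ) - 1 - l) = Subgroup.zpowers (xs g x0 l) := by
    intro l
    rw [← zpowers_xs, ← hR, cj_zpow_RI']
    congr 1
    ring
  have hXX1 : ∀ j : ℕ, j + 1 ≤ t → XX g x0 0 j = RI P g 0 ((t : ℤ) - 1 - j) := by
    intro j hj
    rw [XX_eq_iSup, ← hgen j hj]
    simp only [hY]
  refine ⟨x0, ⟨hp, ht, hx0p, ?_, ?_⟩⟩
  · intro j hj
    rcases Nat.eq_zero_or_pos j with rfl | hjpos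
    · rw [XX_eq_bot (by norm_num)]
      simp
    · obtain ⟨j', rfl⟩ : ∃ j' : ℕ, j = j' + 1 := ⟨j - 1, by omega⟩
      have e : (((j' + 1 : ℕ) : ℤ) - 1) = (j' : ℤ) := by push_cast; ring
      rw [e, hXX1 j' (by omega)]
      have := hcard (j' + 1) (by omega)
      rw [← this]
      congr 2
      push_cast; ring_nf
  · obtain ⟨t', rfl⟩ : ∃ t' : ℕ, t = t' + 1 := ⟨t - 1, by omega⟩
    have e : (((t' + 1 : ℕ) : ℤ) - 1) = (t' : ℤ) := by push_cast; ring
    rw [e, hXX1 t' le_rfl]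
    have e2 : (((t' + 1 : ℕ) : ℤ) - 1 - (t' : ℤ)) = 0 := by push_cast; ring
    rw [e2]
    exact RI_zero_zero'

end Cfsg.Agent.Lib.Helper84_Gl_GCSYS
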