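import Mathlib
import Cfsg.Agent.Lib.Helper9_GrossDefs

/-!
# GROSS-GG1 (helper84, package of helper9's S3795 architecture): existence of a minimal pair
-/

set_option autoImplicit false

namespace Cfsg.Agent.Lib.Helper84_Gross_GG1

open Module Cfsg.Agent.Lib.Helper9_GrossDefs
open scoped commutatorElement

universe u

/-- strict subgroups have strictly smaller cardinality -/
private theorem card_lt_of_le_of_ne {G : Type*} [Group G] [Finite G] {T S : Subgroup G}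
    (h : T ≤ S) (hne : T ≠ S) : Nat.card T < Nat.card S := by
  by_contra hlt
  exact hne (Subgroup.eq_of_le_of_card_ge h (not_lt.mp hlt))

theorem exists_gcfg {G : Type*} [Group G] [Finite G] (q r₁ N : ℕ) (τ : G)
    (hτ : τ ^ 2 ^ (N + 1) = 1) (Q R : Subgroup G) (hQ : IsPGroup q Q) (hR : IsPGroup r₁ R)
    (hτQ : ∀ g ∈ Q, τ * g * τ⁻¹ ∈ Q) (hτR : ∀ a ∈ R, τ * a * τ⁻¹ ∈ R)
    (hQR : ∀ g ∈ Q, ∀ a ∈ R, g * a * g⁻¹ ∈ R)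
    (hmoved : ∃ g ∈ Q, ∃ a ∈ R, ¬ Commute (τ ^ 2 ^ N * g * (τ ^ 2 ^ N)⁻¹ * g⁻¹) a) :
    ∃ Q₁ R₁ : Subgroup G, Q₁ ≤ Q ∧ R₁ ≤ R ∧ GCfg q r₁ N τ Q₁ R₁ := by
  classical
  -- the property of a pair
  let P : Subgroup G → Subgroup G → Prop := fun Q₁ R₁ =>
    Q₁ ≤ Q ∧ R₁ ≤ R ∧ (∀ g ∈ Q₁, τ * g * τ⁻¹ ∈ Q₁) ∧ (∀ a ∈ R₁, τ * a * τ⁻¹ ∈ R₁) ∧
      (∀ g ∈ Q₁, ∀ a ∈ R₁, g * a * g⁻¹ ∈ R₁) ∧
      ∃ g ∈ Q₁, ∃ a ∈ R₁, ¬ Commute (τ ^ 2 ^ N * g * (τ ^ 2 ^ N)⁻¹ * g⁻¹) a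
  have hex : ∃ n : ℕ, ∃ Q₁ R₁ : Subgroup G, P Q₁ R₁ ∧ Nat.card Q₁ + Nat.card R₁ = n :=
    ⟨_, Q, R, ⟨le_rfl, le_rfl, hτQ, hτR, hQR, hmoved⟩, rfl⟩
  obtain ⟨Q₁, R₁, hP, hn⟩ := Nat.find_spec hex
  have hmin : ∀ Q₂ R₂ : Subgroup G, P Q₂ R₂ →
      Nat.card Q₁ + Nat.card R₁ ≤ Nat.card Q₂ + Nat.card R₂ := by
    intro Q₂ R₂ h2
    rw [hn]
    exact Nat.find_min' hex ⟨Q₂, R₂, h2, rfl⟩
  obtain ⟨hQ₁, hR₁, h1, h2, h3, h4⟩ := hP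
  refine ⟨Q₁, R₁, hQ₁, hR₁, ?_⟩
  refine
    { hτ := hτ
      hQ := hQ.to_le hQ₁
      hR := hR.to_le hR₁
      hτQ := h1
      hτR := h2
      hQR := h3
      hmoved := h4
      m1 := ?_
      m2 := ?_ }
  · intro T hT hτT hne g hg a ha
    by_contra hc
    have hlt := card_lt_of_le_of_ne hT hne
    have := hmin T R₁ ⟨hT.trans hQ₁, hR₁, hτT, h2, fun g hg a ha => h3 g (hT hg) a ha,
      g, hg, a, ha, hc⟩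
    omega
  · intro R₂ hR₂ hτR₂ hQR₂ hne g hg a ha
    by_contra hc
    have hlt := card_lt_of_le_of_ne hR₂ hne
    have := hmin Q₁ R₂ ⟨hQ₁, hR₂.trans hR₁, h1, hτR₂, hQR₂, g, hg, a, ha, hc⟩
    omega

end Cfsg.Agent.Lib.Helper84_Gross_GG1
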