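import Mathlib
import Cfsg.Agent.S0065

/-!
# Averaging lemma for cosets of elements of order `p`, and the Hughes–Thompson index theorem

* `key`: abstract averaging lemma.  A group `T` acts on an abelian group `A`; `S ≤ T` is a finite
  subgroup normalised by `b`; every element `y` of the coset `S b` satisfies `y ^ p = 1` and has
  "trace" `∏ i < p, y ^ i • m = 1` on `A`; `|S|` is prime to the orders of the elements of `A`.
  Then `S` acts trivially on `A`.
* `prod_conj_eq_one`: if `y ^ p = 1` and `(m y) ^ p = 1` for `m` in an abelian normal subgroup `A`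
  then the trace of `y` on `m` is trivial.
* `hughes_index`: if `H ⊴ Γ` is nilpotent, proper, all elements outside `H` have `p`-th power `1`
  and `Γ` is not a `p`-group, then `|Γ : H| = p` (Hughes–Thompson).
-/

set_option autoImplicit false
set_option linter.style.haveILetI false

namespace Cfsg.Agent.Lib.Helper84_Hughes

universe u v

open Finset

/-- Abstract averaging lemma. -/
theorem key {T : Type u} {A : Type v} [Group T] [CommGroup A] (c : T →* MulAut A)
    {p : ℕ} (hp : p.Prime) (S : Subgroup T) [Finite S] (b : T)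
    (hbS : ∀ u ∈ S, b * u * b⁻¹ ∈ S)
    (hpow : ∀ u ∈ S, (u * b) ^ p = 1)
    (htr : ∀ m : A, ∀ u ∈ S, ∏ i ∈ Finset.range p, c ((u * b) ^ i) m = 1)
    (hcop : ∀ m : A, m ^ Nat.card S = 1 → m = 1) :
    ∀ u ∈ S, ∀ m : A, c u m = m := by
  classical
  letI : Fintype S := Fintype.ofFinite S
  have hbk : ∀ k : ℕ, ∀ u ∈ S, b ^ k * u * (b ^ k)⁻¹ ∈ S := by
    intro k
    induction k with
    | zero => intro u hu; simpa using hu
    | succ k ih =>
      intro u hu
      have h1 := hbS _ (ih u hu)
      have e : b ^ (k + 1) * u * (b ^ (k + 1))⁻¹ = b * (b ^ k * u * (b ^ k)⁻¹) * b⁻¹ := by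
        rw [pow_succ']; group
      rw [e]; exact h1
  have hmem : ∀ i : ℕ, ∀ u ∈ S, (u * b) ^ i * (b ^ i)⁻¹ ∈ S := by
    intro i
    induction i with
    | zero => intro u _; simp
    | succ i ih =>
      intro u hu
      have e : (u * b) ^ (i + 1) * (b ^ (i + 1))⁻¹
          = ((u * b) ^ i * (b ^ i)⁻¹) * (b ^ i * u * (b ^ i)⁻¹) := by
        rw [pow_succ, pow_succ]; group
      rw [e]; exact S.mul_mem (ih u hu) (hbk i u hu)
  let e : ℕ → S → S := fun i u => ⟨(u.1 * b) ^ i * (b ^ i)⁻¹, hmem i u.1 u.2⟩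
  have hinj : ∀ i, 0 < i → i < p → Function.Injective (e i) := by
    intro i hi0 hip u u' h
    have h1 : (u.1 * b) ^ i = (u'.1 * b) ^ i := by
      have h2 := congrArg Subtype.val h
      exact mul_right_cancel h2
    have hcop' : Nat.Coprime i p :=
      Nat.Coprime.symm ((Nat.Prime.coprime_iff_not_dvd hp).2 (Nat.not_dvd_of_pos_of_lt hi0 hip))
    obtain ⟨j, -, hj⟩ := Nat.exists_mul_mod_eq_one_of_coprime hcop' hp.one_lt
    have hkey : ∀ w ∈ S, w * b = ((w * b) ^ i) ^ j := by
      intro w hw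
      rw [← pow_mul, pow_eq_pow_mod (i * j) (hpow w hw), hj, pow_one]
    have h3 := hkey u.1 u.2
    rw [h1, ← hkey u'.1 u'.2] at h3
    exact Subtype.ext (mul_right_cancel h3)
  intro w hw m
  have hsum : ∏ i ∈ Finset.range p, ∏ u : S, c ((u.1 * b) ^ i) m = 1 := by
    rw [Finset.prod_comm]
    exact Finset.prod_eq_one (fun u _ => htr m u.1 u.2)
  have hfix : ∀ i, 0 < i → i < p → ∀ m' : A,
      c w (∏ u : S, c ((u.1 * b) ^ i) m') = ∏ u : S, c ((u.1 * b) ^ i) m' := by
    intro i hi0 hip m'
    have hbij : Function.Bijective (e i) := Finite.injective_iff_bijective.1 (hinj i hi0 hip)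
    have h1 : ∏ u : S, c ((u.1 * b) ^ i) m' = ∏ v : S, c (v.1 * b ^ i) m' := by
      refine Fintype.prod_bijective (e i) hbij _ _ (fun u => ?_)
      simp [e]
    rw [h1, map_prod]
    refine Fintype.prod_bijective (fun v : S => (⟨w, hw⟩ : S) * v)
      (Group.mulLeft_bijective _) _ _ (fun v => ?_)
    rw [← MulAut.mul_apply, ← map_mul]
    simp [mul_assoc]
  have h0 : ∏ u : S, c ((u.1 * b) ^ 0) m = m ^ Nat.card S := by
    simp [Finset.prod_const, Finset.card_univ, Nat.card_eq_fintype_card]
  obtain ⟨k, rfl⟩ : ∃ k, p = k + 1 := ⟨p - 1, by have := hp.pos; omega⟩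
  rw [Finset.prod_range_succ', h0] at hsum
  have hR : c w (∏ i ∈ Finset.range k, ∏ u : S, c ((u.1 * b) ^ (i + 1)) m)
      = ∏ i ∈ Finset.range k, ∏ u : S, c ((u.1 * b) ^ (i + 1)) m := by
    rw [map_prod]
    refine Finset.prod_congr rfl (fun i hi => ?_)
    exact hfix (i + 1) (Nat.succ_pos i) (by have := Finset.mem_range.1 hi; omega) m
  have hm : m ^ Nat.card S
      = (∏ i ∈ Finset.range k, ∏ u : S, c ((u.1 * b) ^ (i + 1)) m)⁻¹ :=
    eq_inv_of_mul_eq_one_right hsum
  have hfixm : c w (m ^ Nat.card S) = m ^ Nat.card S := by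
    rw [hm, map_inv, hR]
  have h4 : (c w m * m⁻¹) ^ Nat.card S = 1 := by
    rw [mul_pow, inv_pow, ← map_pow, hfixm, mul_inv_cancel]
  exact mul_inv_eq_one.1 (hcop _ h4)

open scoped IsMulCommutative in
/-- If `y ^ p = 1` and `(m y) ^ p = 1` for `m` in the commutative normal subgroup `A`, then
`m · y m y⁻¹ ⋯ y^{p-1} m y^{1-p} = 1`. -/
theorem prod_conj_eq_one {Γ : Type u} [Group Γ] (A : Subgroup Γ) [A.Normal] [IsMulCommutative A]
    {p : ℕ} (y : Γ) (m : A) (hy : y ^ p = 1) (hmy : ((m : Γ) * y) ^ p = 1) :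
    ∏ i ∈ Finset.range p, (MulAut.conjNormal (y ^ i) : MulAut A) m = 1 := by
  have hgen : ∀ k : ℕ, ((m : Γ) * y) ^ k
      = ((∏ i ∈ Finset.range k, (MulAut.conjNormal (y ^ i) : MulAut A) m : A) : Γ) * y ^ k := by
    intro k
    induction k with
    | zero => simp
    | succ k ih =>
      rw [pow_succ, ih, Finset.prod_range_succ, Subgroup.coe_mul, MulAut.conjNormal_apply,
        pow_succ]
      group
  have h1 := hgen p
  rw [hmy, hy, mul_one] at h1
  exact Subtype.ext h1.symm


/-- A nilpotent finite group whose order is divisible by the prime `q` has a central element of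
order `q`. -/
theorem exists_central_orderOf_eq {H : Type u} [Group H] [Finite H] [Group.IsNilpotent H]
    {q : ℕ} (hq : q.Prime) (hdvd : q ∣ Nat.card H) :
    ∃ z : H, z ∈ Subgroup.center H ∧ orderOf z = q := by
  haveI : Fact q.Prime := ⟨hq⟩
  obtain ⟨Q⟩ : Nonempty (Sylow q H) := inferInstance
  have htfae : Group.IsNilpotent H ↔ ∀ (p : ℕ), Fact (Nat.Prime p) → ∀ (P : Sylow p H),
      (P : Subgroup H).Normal := (Group.isNilpotent_of_finite_tfae (G := H)).out 0 3
  haveI hQn : (Q : Subgroup H).Normal := htfae.1 ‹Group.IsNilpotent H› q ⟨hq⟩ Q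
  have hQne : (Q : Subgroup H) ≠ ⊥ := by
    intro h
    have h1 : Nat.card (Q : Subgroup H) = 1 := by rw [h]; exact Subgroup.card_bot
    have h2 := Q.card_eq_multiplicity
    rw [h1] at h2
    have h3 : (Nat.card H).factorization q = 0 := by
      by_contra h0
      have : 1 < q ^ (Nat.card H).factorization q :=
        Nat.one_lt_pow h0 hq.one_lt
      omega
    have h4 : 0 < (Nat.card H).factorization q :=
      hq.factorization_pos_of_dvd Nat.card_pos.ne' hdvd
    omega
  have h5 := Cfsg.Agent.S0065.result (Q : Subgroup H) hQne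
  obtain ⟨z, hz1⟩ := (Subgroup.ne_bot_iff_exists_ne_one).1 h5
  -- z : ↥(Q ⊓ center)
  have hzQ : (z : H) ∈ (Q : Subgroup H) := (Subgroup.mem_inf.1 z.2).1
  have hzC : (z : H) ∈ Subgroup.center H := (Subgroup.mem_inf.1 z.2).2
  have hz1' : (z : H) ≠ 1 := fun h => hz1 (Subtype.ext h)
  obtain ⟨j, hj⟩ := IsPGroup.iff_orderOf.1 Q.2 (⟨(z : H), hzQ⟩ : (Q : Subgroup H))
  have hj' : orderOf (z : H) = q ^ j := by
    rw [← hj]; exact (Subgroup.orderOf_mk _ _).symm
  have hj0 : j ≠ 0 := by
    rintro rfl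
    rw [pow_zero, orderOf_eq_one_iff] at hj'
    exact hz1' hj'
  obtain ⟨i, rfl⟩ : ∃ i, j = i + 1 := ⟨j - 1, by omega⟩
  refine ⟨(z : H) ^ (q ^ i), Subgroup.pow_mem _ hzC _, ?_⟩
  rw [orderOf_pow' _ (pow_ne_zero i hq.pos.ne'), hj']
  rw [Nat.gcd_eq_right (pow_dvd_pow q (Nat.le_succ i)), pow_succ, Nat.mul_div_cancel_left _ (pow_pos hq.pos i)]

open scoped IsMulCommutative in
/-- **Hughes–Thompson** (given nilpotency): if `H ⊴ Γ` is a proper nilpotent subgroup such that every
element outside `H` has `p`-th power `1`, and `Γ` is not a `p`-group, then `|Γ : H| = p`. -/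
theorem hughes_index {Γ : Type u} [Group Γ] [Finite Γ] {p : ℕ} (hp : p.Prime)
    (H : Subgroup Γ) [H.Normal] (hH : ∀ x, x ∉ H → x ^ p = 1) (hne : H ≠ ⊤)
    (hnil : Group.IsNilpotent H) (hnp : ¬ IsPGroup p Γ) : H.index = p := by
  classical
  haveI : Fact p.Prime := ⟨hp⟩
  have hexp : ∀ g : Γ ⧸ H, g ^ p = 1 := by
    intro g
    obtain ⟨x, rfl⟩ := QuotientGroup.mk_surjective g
    by_cases hx : x ∈ H
    · rw [(QuotientGroup.eq_one_iff x).2 hx, one_pow]
    · rw [← QuotientGroup.mk_pow, hH x hx, QuotientGroup.mk_one]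
  have hPG : IsPGroup p (Γ ⧸ H) := fun g => ⟨1, by rw [pow_one]; exact hexp g⟩
  obtain ⟨k, hk⟩ := hPG.exists_card_eq
  have hidx : H.index = p ^ k := by rw [Subgroup.index_eq_card, hk]
  rw [hidx]
  have hk0 : k ≠ 0 := by
    rintro rfl
    rw [pow_zero] at hidx
    exact hne (Subgroup.index_eq_one.1 hidx)
  by_contra hcon
  have hk2 : 2 ≤ k := by
    rcases k with _ | _ | k
    · exact absurd rfl hk0
    · exact absurd (pow_one p) hcon
    · omega
  -- a prime q ≠ p dividing |H|
  have hHnp : ¬ IsPGroup p H := by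
    intro hHp
    obtain ⟨a, ha⟩ := hHp.exists_card_eq
    apply hnp
    apply IsPGroup.of_card (n := a + k)
    rw [← Subgroup.card_mul_index H, ha, hidx, pow_add]
  obtain ⟨q, hq, hqdvd, hqp⟩ : ∃ q : ℕ, q.Prime ∧ q ∣ Nat.card H ∧ q ≠ p := by
    by_contra hno
    push Not at hno
    apply hHnp
    have : Nat.card H = p ^ (Nat.card H).primeFactorsList.length :=
      Nat.eq_prime_pow_of_unique_prime_dvd Nat.card_pos.ne' (fun {d} hd hdd => hno d hd hdd)
    exact IsPGroup.of_card this
  haveI : Group.IsNilpotent H := hnil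
  obtain ⟨z, hzC, hzq⟩ := exists_central_orderOf_eq (H := H) hq hqdvd
  -- the subgroup A = Ω_q(Z(H))
  let A : Subgroup Γ :=
    { carrier := {z | z ∈ H ∧ (∀ h ∈ H, h * z = z * h) ∧ z ^ q = 1}
      one_mem' := ⟨H.one_mem, by simp, one_pow q⟩
      mul_mem' := by
        rintro a b ⟨ha, hac, haq⟩ ⟨hb, hbc, hbq⟩
        refine ⟨H.mul_mem ha hb, fun h hh => ?_, ?_⟩
        · rw [← mul_assoc, hac h hh, mul_assoc, hbc h hh, mul_assoc]
        · have hcomm : Commute a b := (hac b hb).symm
          rw [hcomm.mul_pow, haq, hbq, one_mul]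
      inv_mem' := by
        rintro a ⟨ha, hac, haq⟩
        refine ⟨H.inv_mem ha, fun h hh => ?_, by rw [inv_pow, haq, inv_one]⟩
        have h1 := hac h hh
        calc h * a⁻¹ = a⁻¹ * (a * h) * a⁻¹ := by group
          _ = a⁻¹ * (h * a) * a⁻¹ := by rw [h1]
          _ = a⁻¹ * h := by group }
  have hAmem : ∀ z : Γ, z ∈ A ↔ z ∈ H ∧ (∀ h ∈ H, h * z = z * h) ∧ z ^ q = 1 := fun z => Iff.rfl
  haveI hAn : A.Normal := by
    refine ⟨fun n hn g => ?_⟩
    obtain ⟨hnH, hnc, hnq⟩ := (hAmem n).1 hn
    refine (hAmem _).2 ⟨‹H.Normal›.conj_mem n hnH g, fun h hh => ?_, ?_⟩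
    · have h1 : g⁻¹ * h * g ∈ H := by
        have := ‹H.Normal›.conj_mem h hh g⁻¹
        simpa using this
      have h2 := hnc _ h1
      calc h * (g * n * g⁻¹) = g * ((g⁻¹ * h * g) * n) * g⁻¹ := by group
        _ = g * (n * (g⁻¹ * h * g)) * g⁻¹ := by rw [h2]
        _ = g * n * g⁻¹ * h := by group
    · rw [conj_pow, hnq]; group
  haveI hAc : IsMulCommutative A :=
    ⟨⟨fun a b => Subtype.ext (((hAmem a.1).1 a.2).2.1 b.1 ((hAmem b.1).1 b.2).1).symm⟩⟩
  have hAH : A ≤ H := fun z hz => ((hAmem z).1 hz).1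
  -- A is nontrivial
  have hzA : (z : Γ) ∈ A := by
    refine (hAmem _).2 ⟨z.2, fun h hh => ?_, ?_⟩
    · have := Subgroup.mem_center_iff.1 hzC ⟨h, hh⟩
      exact congrArg Subtype.val this
    · have : z ^ q = 1 := by rw [← hzq]; exact pow_orderOf_eq_one z
      exact_mod_cast congrArg Subtype.val this
  have hz1 : (z : Γ) ≠ 1 := by
    intro h
    have : z = 1 := Subtype.ext h
    rw [this, orderOf_one] at hzq
    exact hq.one_lt.ne hzq
  -- the action of Γ/H on A
  have hker : H ≤ (MulAut.conjNormal (H := A)).ker := by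
    intro h hh
    rw [MonoidHom.mem_ker]
    ext m
    rw [MulAut.conjNormal_apply, MulAut.one_apply]
    have := ((hAmem m.1).1 m.2).2.1 h hh
    rw [this]; group
  let cbar : Γ ⧸ H →* MulAut A := QuotientGroup.lift H MulAut.conjNormal hker
  have hcbar : ∀ g : Γ, cbar (QuotientGroup.mk g) = MulAut.conjNormal g := fun g => rfl
  -- central element of order p in Γ/H
  haveI : Nontrivial (Γ ⧸ H) := by
    rw [← Finite.one_lt_card_iff_nontrivial, hk]
    exact Nat.one_lt_pow hk0 hp.one_lt
  haveI : Nontrivial (Subgroup.center (Γ ⧸ H)) := hPG.center_nontrivial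
  obtain ⟨⟨xbar, hxC⟩, hx1⟩ := exists_ne (1 : Subgroup.center (Γ ⧸ H))
  have hxbar1 : xbar ≠ 1 := fun h => hx1 (Subtype.ext h)
  have hxord : orderOf xbar = p := orderOf_eq_prime (hexp xbar) hxbar1
  let S : Subgroup (Γ ⧸ H) := Subgroup.zpowers xbar
  have hScard : Nat.card S = p := by rw [Nat.card_zpowers, hxord]
  have hSC : S ≤ Subgroup.center (Γ ⧸ H) := by
    rw [Subgroup.zpowers_le]; exact hxC
  obtain ⟨ybar, hyS⟩ : ∃ ybar : Γ ⧸ H, ybar ∉ S := by
    by_contra hall
    push Not at hall
    have hST : S = ⊤ := (Subgroup.eq_top_iff' S).2 hall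
    have h1 : Nat.card S = Nat.card (Γ ⧸ H) := by rw [hST, Subgroup.card_top]
    rw [hScard, hk] at h1
    have h2 : p ^ 1 < p ^ k := Nat.pow_lt_pow_right hp.one_lt (by omega)
    rw [pow_one] at h2
    omega
  have hconcl := key cbar hp S ybar
    (fun u hu => by
      have := Subgroup.mem_center_iff.1 (hSC hu) ybar
      rw [this, mul_inv_cancel_right]; exact hu)
    (fun u _ => hexp _)
    (fun m u hu => by
      obtain ⟨g, hg⟩ := QuotientGroup.mk_surjective (u * ybar)
      have hgH : g ∉ H := by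
        intro hgH
        have h1 : u * ybar = 1 := by rw [← hg]; exact (QuotientGroup.eq_one_iff g).2 hgH
        have h2 : ybar = u⁻¹ := eq_inv_of_mul_eq_one_right h1
        exact hyS (h2 ▸ S.inv_mem hu)
      have hmg : (m : Γ) * g ∉ H := fun h => hgH (by
        have := H.mul_mem (H.inv_mem (hAH m.2)) h
        simpa using this)
      have h3 := prod_conj_eq_one A g m (hH g hgH) (hH _ hmg)
      rw [← hg]
      simpa [← QuotientGroup.mk_pow, hcbar] using h3)
    (fun m hm => by
      rw [hScard] at hm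
      have hmq : m ^ q = 1 := Subtype.ext (by
        have := ((hAmem m.1).1 m.2).2.2
        simpa using this)
      have h1 : orderOf m ∣ p := orderOf_dvd_of_pow_eq_one hm
      have h2 : orderOf m ∣ q := orderOf_dvd_of_pow_eq_one hmq
      have h3 : orderOf m ∣ Nat.gcd p q := Nat.dvd_gcd h1 h2
      rw [(Nat.coprime_primes hp hq).2 (Ne.symm hqp)] at h3
      exact orderOf_eq_one_iff.1 (Nat.dvd_one.1 h3))
  -- x centralizes A
  obtain ⟨x, hx⟩ := QuotientGroup.mk_surjective xbar
  have hxH : x ∉ H := fun h => hxbar1 (by rw [← hx]; exact (QuotientGroup.eq_one_iff x).2 h)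
  have hfix := hconcl xbar (Subgroup.mem_zpowers xbar) ⟨(z : Γ), hzA⟩
  rw [← hx, hcbar] at hfix
  have hfix' : x * (z : Γ) * x⁻¹ = (z : Γ) := by
    have := congrArg Subtype.val hfix
    rwa [MulAut.conjNormal_apply] at this
  have hcomm : Commute (z : Γ) x := by
    have : x * (z : Γ) = (z : Γ) * x := by
      calc x * (z : Γ) = x * (z : Γ) * x⁻¹ * x := by group
        _ = (z : Γ) * x := by rw [hfix']
    exact this.symm
  have hzx : (z : Γ) * x ∉ H := fun h => hxH (by
    have := H.mul_mem (H.inv_mem z.2) h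
    simpa using this)
  have h1 := hH _ hzx
  rw [hcomm.mul_pow, hH x hxH, mul_one] at h1
  have hzq' : (z : Γ) ^ q = 1 := ((hAmem _).1 hzA).2.2
  have h2 : orderOf (z : Γ) ∣ Nat.gcd p q :=
    Nat.dvd_gcd (orderOf_dvd_of_pow_eq_one h1) (orderOf_dvd_of_pow_eq_one hzq')
  rw [(Nat.coprime_primes hp hq).2 (Ne.symm hqp)] at h2
  exact hz1 (orderOf_eq_one_iff.1 (Nat.dvd_one.1 h2))

/-- The Hughes–Thompson–Kegel theorem, with Kegel's theorem on splitting automorphisms of prime
order as a hypothesis. -/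
theorem hughes_thompson_of_kegel {G : Type u} [Group G] [Finite G] (p : ℕ) (hp : p.Prime) (hG : ¬ IsPGroup p G)
    (hH : Subgroup.closure {g : G | g ^ p ≠ 1} ≠ ⊤)
    (kegel : ∀ {K : Type u} [Group K] [Finite K] (α : MulAut K), (orderOf α).Prime →
      (∀ x : K, (((List.range (orderOf α)).map (fun i : ℕ => (α ^ i) x)).prod = 1)) →
      Group.IsNilpotent K) :
    Group.IsNilpotent (Subgroup.closure {g : G | g ^ p ≠ 1}) ∧
      (Subgroup.closure {g : G | g ^ p ≠ 1}).index = p := by
  classical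
  haveI : Fact p.Prime := ⟨hp⟩
  set H : Subgroup G := Subgroup.closure {g : G | g ^ p ≠ 1} with hHdef
  haveI hHn : H.Normal := by
    refine ⟨fun n hn g => ?_⟩
    have hle : H ≤ H.comap (MulAut.conj g).toMonoidHom := by
      rw [hHdef, Subgroup.closure_le]
      intro y hy
      apply Subgroup.subset_closure
      show (g * y * g⁻¹) ^ p ≠ 1
      intro h
      apply hy
      rw [conj_pow] at h
      have : y ^ p = g⁻¹ * (g * y ^ p * g⁻¹) * g := by group
      rw [this, h]; group
    exact hle hn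
  have hout : ∀ x, x ∉ H → x ^ p = 1 := by
    intro x hx
    by_contra h
    exact hx (Subgroup.subset_closure h)
  obtain ⟨x, hx⟩ : ∃ x, x ∉ H := by
    by_contra hall
    push Not at hall
    exact hH ((Subgroup.eq_top_iff' H).2 hall)
  have hnil : Group.IsNilpotent H := by
    let α : MulAut H := MulAut.conjNormal x
    have hαk : ∀ k : ℕ, α ^ k = MulAut.conjNormal (x ^ k) := fun k => (map_pow _ x k).symm
    have hαp : α ^ p = 1 := by rw [hαk, hout x hx, map_one]
    have hdvd : orderOf α ∣ p := orderOf_dvd_of_pow_eq_one hαp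
    rcases (Nat.dvd_prime hp).1 hdvd with h1 | h1
    · -- α = 1: H has exponent p
      have hα1 : α = 1 := orderOf_eq_one_iff.1 h1
      have hpg : IsPGroup p H := by
        intro h
        refine ⟨1, ?_⟩
        rw [pow_one]
        have h2 : x * (h : G) * x⁻¹ = h := by
          have h3 : α h = h := by rw [hα1]; rfl
          have := congrArg Subtype.val h3
          rwa [MulAut.conjNormal_apply] at this
        have hcomm : Commute (h : G) x := by
          have : x * (h : G) = (h : G) * x := by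
            calc x * (h : G) = x * (h : G) * x⁻¹ * x := by group
              _ = (h : G) * x := by rw [h2]
          exact this.symm
        have hhx : (h : G) * x ∉ H := fun hh => hx (by
          have := H.mul_mem (H.inv_mem h.2) hh
          simpa using this)
        have h4 := hout _ hhx
        rw [hcomm.mul_pow, hout x hx, mul_one] at h4
        exact Subtype.ext (by simpa using h4)
      exact hpg.isNilpotent
    · -- α has order p and is splitting
      apply kegel α (h1 ▸ hp)
      intro h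
      rw [h1]
      have hgen : ∀ k : ℕ, ((h : G) * x) ^ k
          = ((((List.range k).map (fun i : ℕ => (α ^ i) h)).prod : H) : G) * x ^ k := by
        intro k
        induction k with
        | zero => simp
        | succ k ih =>
          rw [pow_succ, ih, List.prod_range_succ, Subgroup.coe_mul, hαk k,
            MulAut.conjNormal_apply, pow_succ]
          group
      have hhx : (h : G) * x ∉ H := fun hh => hx (by
        have := H.mul_mem (H.inv_mem h.2) hh
        simpa using this)
      have h5 := hgen p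
      rw [hout _ hhx, hout x hx, mul_one] at h5
      exact Subtype.ext h5.symm
  exact ⟨hnil, hughes_index hp H hout hH hnil hG⟩


end Cfsg.Agent.Lib.Helper84_Hughes
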