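import Cfsg.Agent.Lib.Helper47_IsoBar
import Cfsg.Agent.Lib.Helper47_IsoMain
import Cfsg.Agent.Lib.Helper21_Components
import Cfsg.Agent.Lib.Helper21_FStar
import Cfsg.Agent.Lib.Helper22_Layer
import Cfsg.Agent.Lib.Helper22_Quasisimple
import Cfsg.Agent.Lib.Helper29_Local
import Cfsg.Agent.Lib.Helper48_Trans2
import Cfsg.Agent.Lib.Helper24_CoprimeAction
import Cfsg.Agent.Lib.Helper1_Cores

set_option autoImplicit false

open Cfsg
open Cfsg.Agent.Lib.Helper47_IsoBase Cfsg.Agent.Lib.Helper47_IsoBar Cfsg.Agent.Lib.Helper47_SubAPI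
  Cfsg.Agent.Lib.Helper48_Op
open scoped commutatorElement Pointwise

namespace Cfsg.Agent.Lib.Helper84_Iso_COMPGEN

universe u

variable {H : Type u} [Group H] [Finite H] {p : ℕ} [Fact p.Prime] {Y C S W : Subgroup H}

theorem comp_gen (hb : BarHyp p Y C S W) (hl : Y ≤ Cfsg.layer H) :
    Y = sSup {K : Subgroup H | Cfsg.IsComponent K ∧ K ≤ Y} := by
  have hYn : Y.Normal := hb.hYn
  obtain ⟨M, hM⟩ : ∃ M, M = sSup {K : Subgroup H | Cfsg.IsComponent K ∧ K ≤ Y} := ⟨_, rfl⟩
  rw [← hM]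
  have hMY : M ≤ Y := by
    rw [hM]
    exact sSup_le (fun K hK => hK.2)
  -- `M` is normal
  have hMn : M.Normal := by
    constructor
    intro n hn g
    have hmap : M.map (MulAut.conj g).toMonoidHom ≤ M := by
      rw [hM, (Subgroup.gc_map_comap (MulAut.conj g).toMonoidHom).l_sSup]
      apply iSup₂_le
      intro K hK
      apply le_sSup
      refine ⟨Cfsg.Agent.Lib.Helper29_Local.isComponent_map_mulEquiv (MulAut.conj g) hK.1, ?_⟩
      rintro _ ⟨k, hk, rfl⟩
      exact hYn.conj_mem k (hK.2 hk) g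
    exact hmap ⟨n, hn, rfl⟩
  refine le_antisymm ?_ hMY
  rcases hb.normal_dich M hMn with hW | ⟨-, hMYc⟩
  · exact hb.Y_le_of_W_le hMn hW
  · exfalso
    apply hb.commutator_self_ne_bot
    have hlay : ⁅Cfsg.layer H, Y⁆ = ⊥ := by
      apply Cfsg.Agent.Lib.Helper22_Layer.layer_commutator_eq_bot
      intro K hK
      rcases Cfsg.Agent.Lib.Helper21_Components.IsComponent.le_or_commutator_eq_bot hK
        hYn.isSubnormal with h | h
      · rw [eq_bot_iff, ← hMYc]
        apply Subgroup.commutator_mono _ le_rfl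
        rw [hM]
        exact le_sSup ⟨hK, h⟩
      · exact h
    rw [eq_bot_iff, ← hlay]
    exact Subgroup.commutator_mono hl le_rfl

end Cfsg.Agent.Lib.Helper84_Iso_COMPGEN
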