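import Cfsg.Agent.Lib.Helper47_IsoBar
import Cfsg.Agent.Lib.Helper47_IsoMain
import Cfsg.Agent.Lib.Helper21_Components
import Cfsg.Agent.Lib.Helper21_FStar
import Cfsg.Agent.Lib.Helper22_Layer
import Cfsg.Agent.Lib.Helper22_Quasisimple
import Cfsg.Agent.Lib.Helper29_Local
import Cfsg.Agent.Lib.Helper48_Trans2
import Cfsg.Agent.Lib.Helper24_CoprimeAction
import Cfsg.Agent.Lib.Helper1_Cores

set_option autoImplicit false

open Cfsg
open Cfsg.Agent.Lib.Helper47_IsoBase Cfsg.Agent.Lib.Helper47_IsoBar Cfsg.Agent.Lib.Helper47_SubAPI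
  Cfsg.Agent.Lib.Helper48_Op
open scoped commutatorElement Pointwise

namespace Cfsg.Agent.Lib.Helper84_Iso_LAYERLE

universe u

variable {H : Type u} [Group H] [Finite H] {p : ℕ} [Fact p.Prime] {Y C S W : Subgroup H}

theorem layer_le (hb : BarHyp p Y C S W) : Y ≤ Cfsg.layer H := by
  by_contra hnl
  -- `Y` is not inside the Fitting subgroup
  have hF : ¬ Y ≤ fittingSubgroup H := by
    intro hYF
    apply hb.Y_ne_bot
    apply eq_bot_of_isSolvable_of_le_commutator _ hb.hperf
    have hnil : Group.IsNilpotent ↥(fittingSubgroup H) :=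
      Cfsg.Agent.Lib.Helper1_Cores.fittingSubgroup_isNilpotent
    have hsolvF : Group.IsSolvable ↥(fittingSubgroup H) := inferInstance
    exact Group.isSolvable_of_isSolvable_injective (Subgroup.inclusion_injective hYF)
  have h1 := (hb.normal_dich' (Cfsg.Agent.Lib.Helper1_Cores.fittingSubgroup_normal) hF).2
  have h2 := (hb.normal_dich' (Cfsg.Agent.Lib.Helper29_Local.layer_normal H) hnl).2
  -- `Y` centralizes `F*(H)`
  have hcent : Y ≤ Subgroup.centralizer (generalizedFittingSubgroup H : Set H) := by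
    rw [← Subgroup.commutator_eq_bot_iff_le_centralizer, Subgroup.commutator_comm]
    unfold generalizedFittingSubgroup
    rw [eq_bot_iff, Subgroup.commutator_le]
    intro a ha b hb'
    have ha' : a ∈ Subgroup.centralizer (Y : Set H) := by
      have hl : Cfsg.layer H ≤ Subgroup.centralizer (Y : Set H) :=
        Subgroup.commutator_eq_bot_iff_le_centralizer.mp h2
      have hf : fittingSubgroup H ≤ Subgroup.centralizer (Y : Set H) :=
        Subgroup.commutator_eq_bot_iff_le_centralizer.mp h1
      exact (sup_le hl hf) ha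
    rw [Subgroup.mem_bot, commutatorElement_eq_one_iff_mul_comm]
    exact (ha' b hb').symm
  have hYFs : Y ≤ generalizedFittingSubgroup H :=
    hcent.trans Cfsg.Agent.Lib.Helper21_FStar.centralizer_generalizedFitting_le
  apply hb.commutator_self_ne_bot
  rw [eq_bot_iff]
  calc ⁅Y, Y⁆ ≤ ⁅generalizedFittingSubgroup H, Y⁆ := Subgroup.commutator_mono hYFs le_rfl
    _ ≤ ⊥ := by
      rw [Subgroup.commutator_comm, Subgroup.commutator_eq_bot_iff_le_centralizer.mpr hcent]

end Cfsg.Agent.Lib.Helper84_Iso_LAYERLE
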