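import Cfsg.Agent.Lib.Helper84_FusionAlperin
import Cfsg.Agent.S5078

/-!
Fusion systems: `K`-normalizers (helper84). For `R ≤ S`, `K ≤ Aut(R)` and an injective homomorphism
`φ : R →* Ω`, `NK S R K φ` is the subgroup `N_S^{φK}(φR)` of the elements of `S` whose conjugation
action on `φ(R)`, read through `φ`, lies in `K`; `KS S R K φ` is the subgroup of `K` of the
automorphisms so induced. Counting: `|N_S^{φK}(φR)| = |C_S(φR)| |KS|`.
-/

set_option autoImplicit false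

namespace Cfsg.Agent.Lib.Helper84_KNormalizer

open Cfsg Cfsg.FusionSystem Cfsg.Agent.Lib.Helper85_Fusion Cfsg.Agent.Lib.Helper84_RelSylow
  Cfsg.Agent.Lib.Helper84_FusionSat Cfsg.Agent.Lib.Helper84_FusionRS
  Cfsg.Agent.Lib.Helper84_FusionAlperin

variable {Ω : Type*} [Group Ω] {S : Subgroup Ω}

/-- `N_S^{φK}(φR)`. -/
def NK (S R : Subgroup Ω) (K : Subgroup (MulAut R)) (φ : R →* Ω) : Subgroup Ω where
  carrier := {g | g ∈ S ∧ ∃ κ ∈ K, ∀ x : R, g * φ x * g⁻¹ = φ (κ x)}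
  one_mem' := ⟨S.one_mem, 1, K.one_mem, fun x => by simp⟩
  mul_mem' := by
    rintro a b ⟨haS, κa, hκa, ha⟩ ⟨hbS, κb, hκb, hb⟩
    refine ⟨S.mul_mem haS hbS, κa * κb, K.mul_mem hκa hκb, fun x => ?_⟩
    rw [MulAut.mul_apply, ← ha, ← hb]
    group
  inv_mem' := by
    rintro a ⟨haS, κa, hκa, ha⟩
    refine ⟨S.inv_mem haS, κa⁻¹, K.inv_mem hκa, fun x => ?_⟩
    have := ha (κa⁻¹ x)
    rw [MulAut.apply_inv_self] at this
    rw [← this]
    group

theorem mem_NK {R : Subgroup Ω} {K : Subgroup (MulAut R)} {φ : R →* Ω} {g : Ω} :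
    g ∈ NK S R K φ ↔ g ∈ S ∧ ∃ κ ∈ K, ∀ x : R, g * φ x * g⁻¹ = φ (κ x) := Iff.rfl

theorem NK_le (R : Subgroup Ω) (K : Subgroup (MulAut R)) (φ : R →* Ω) : NK S R K φ ≤ S :=
  fun _ h => h.1

/-- The automorphisms in `K` induced, through `φ`, by elements of `S`. -/
def KS (S R : Subgroup Ω) (K : Subgroup (MulAut R)) (φ : R →* Ω) : Subgroup (MulAut R) where
  carrier := {κ | κ ∈ K ∧ ∃ g ∈ S, ∀ x : R, g * φ x * g⁻¹ = φ (κ x)}
  one_mem' := ⟨K.one_mem, 1, S.one_mem, fun x => by simp⟩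
  mul_mem' := by
    rintro κa κb ⟨hκa, a, haS, ha⟩ ⟨hκb, b, hbS, hb⟩
    refine ⟨K.mul_mem hκa hκb, a * b, S.mul_mem haS hbS, fun x => ?_⟩
    rw [MulAut.mul_apply, ← ha, ← hb]
    group
  inv_mem' := by
    rintro κa ⟨hκa, a, haS, ha⟩
    refine ⟨K.inv_mem hκa, a⁻¹, S.inv_mem haS, fun x => ?_⟩
    have := ha (κa⁻¹ x)
    rw [MulAut.apply_inv_self] at this
    rw [← this]
    group

theorem mem_KS {R : Subgroup Ω} {K : Subgroup (MulAut R)} {φ : R →* Ω} {κ : MulAut R} :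
    κ ∈ KS S R K φ ↔ κ ∈ K ∧ ∃ g ∈ S, ∀ x : R, g * φ x * g⁻¹ = φ (κ x) := Iff.rfl

theorem KS_le (R : Subgroup Ω) (K : Subgroup (MulAut R)) (φ : R →* Ω) : KS S R K φ ≤ K :=
  fun _ h => h.1

/-- For the inclusion, `KS` is `Aut_S(R) ∩ K`. -/
theorem KS_subtype (R : Subgroup Ω) (K : Subgroup (MulAut R)) :
    KS S R K R.subtype = autInducedBy S R ⊓ K := by
  ext κ
  rw [mem_KS, Subgroup.mem_inf, mem_autInducedBy_iff]
  constructor
  · rintro ⟨hκ, g, hg, h⟩
    exact ⟨⟨g, hg, fun x => (h x).symm⟩, hκ⟩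
  · rintro ⟨⟨g, hg, h⟩, hκ⟩
    exact ⟨hκ, g, hg, fun x => (h x).symm⟩

/-- The centralizer lies in the `K`-normalizer. -/
theorem centralizerIn_le_NK (R : Subgroup Ω) (K : Subgroup (MulAut R)) (φ : R →* Ω) :
    centralizerIn S φ.range ≤ NK S R K φ := by
  rintro g ⟨hgS, hgC⟩
  refine ⟨hgS, 1, K.one_mem, fun x => ?_⟩
  have := hgC (φ x) ⟨x, rfl⟩
  rw [MulAut.one_apply, ← this]
  group

/-- The homomorphism `N_S^{φK}(φR) → Aut(R)`, `g ↦ φ⁻¹ c_g φ`, as a function choosing the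
automorphism; it is well defined as `φ` is injective. -/
theorem exists_unique_aut {R : Subgroup Ω} {φ : R →* Ω}
    (hinj : Function.Injective φ) {g : Ω} {κ κ' : MulAut R}
    (h : ∀ x : R, g * φ x * g⁻¹ = φ (κ x)) (h' : ∀ x : R, g * φ x * g⁻¹ = φ (κ' x)) : κ = κ' := by
  ext x
  exact congrArg Subtype.val (hinj ((h x).symm.trans (h' x)))

/-- The induced automorphism of an element of the `K`-normalizer. -/
noncomputable def autOf {R : Subgroup Ω} {K : Subgroup (MulAut R)} {φ : R →* Ω}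
    (g : NK S R K φ) : MulAut R := Classical.choose g.2.2

theorem autOf_mem {R : Subgroup Ω} {K : Subgroup (MulAut R)} {φ : R →* Ω} (g : NK S R K φ) :
    autOf g ∈ K := (Classical.choose_spec g.2.2).1

theorem autOf_spec {R : Subgroup Ω} {K : Subgroup (MulAut R)} {φ : R →* Ω} (g : NK S R K φ)
    (x : R) : (g : Ω) * φ x * (g : Ω)⁻¹ = φ (autOf g x) := (Classical.choose_spec g.2.2).2 x

/-- `g ↦ φ⁻¹ c_g φ` as a homomorphism. -/
noncomputable def autHom {R : Subgroup Ω} (K : Subgroup (MulAut R)) {φ : R →* Ω}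
    (hinj : Function.Injective φ) : NK S R K φ →* MulAut R where
  toFun := autOf
  map_one' := by
    apply exists_unique_aut hinj (g := 1) (fun x => ?_) (fun x => by simp)
    have := autOf_spec (1 : NK S R K φ) x
    simpa using this
  map_mul' := by
    intro a b
    apply exists_unique_aut hinj (g := ((a * b : NK S R K φ) : Ω)) (autOf_spec (a * b))
    intro x
    rw [MulAut.mul_apply, ← autOf_spec a, ← autOf_spec b]
    show ((a : Ω) * (b : Ω)) * φ x * ((a : Ω) * (b : Ω))⁻¹ = _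
    group

theorem autHom_apply {R : Subgroup Ω} (K : Subgroup (MulAut R)) {φ : R →* Ω}
    (hinj : Function.Injective φ) (g : NK S R K φ) (x : R) :
    (g : Ω) * φ x * (g : Ω)⁻¹ = φ (autHom K hinj g x) := autOf_spec g x

theorem range_autHom {R : Subgroup Ω} (K : Subgroup (MulAut R)) {φ : R →* Ω}
    (hinj : Function.Injective φ) : (autHom (S := S) K hinj).range = KS S R K φ := by
  ext κ
  constructor
  · rintro ⟨g, rfl⟩
    exact ⟨autOf_mem g, g, g.2.1, autOf_spec g⟩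
  · rintro ⟨hκ, g, hg, h⟩
    refine ⟨⟨g, hg, κ, hκ, h⟩, ?_⟩
    exact exists_unique_aut hinj (g := g) (autOf_spec ⟨g, hg, κ, hκ, h⟩) h

theorem map_ker_autHom {R : Subgroup Ω} (K : Subgroup (MulAut R)) {φ : R →* Ω}
    (hinj : Function.Injective φ) :
    (autHom (S := S) K hinj).ker.map (NK S R K φ).subtype = centralizerIn S φ.range := by
  ext g
  constructor
  · rintro ⟨g, hg, rfl⟩
    rw [SetLike.mem_coe, MonoidHom.mem_ker] at hg
    refine ⟨g.2.1, ?_⟩
    rintro _ ⟨x, rfl⟩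
    have := autHom_apply K hinj g x
    rw [hg, MulAut.one_apply] at this
    show φ x * (g : Ω) = (g : Ω) * φ x
    calc φ x * (g : Ω) = ((g : Ω) * φ x * (g : Ω)⁻¹) * g := by rw [this]
      _ = (g : Ω) * φ x := by group
  · intro hg
    refine ⟨⟨g, centralizerIn_le_NK _ K φ hg⟩, ?_, rfl⟩
    rw [SetLike.mem_coe, MonoidHom.mem_ker]
    apply exists_unique_aut hinj (g := g)
      (autHom_apply K hinj ⟨g, centralizerIn_le_NK _ K φ hg⟩)
    intro x
    have := hg.2 (φ x) ⟨x, rfl⟩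
    rw [MulAut.one_apply, ← this]
    group

/-- `|N_S^{φK}(φR)| = |C_S(φR)| · |KS|`. -/
theorem card_NK {R : Subgroup Ω} (K : Subgroup (MulAut R)) {φ : R →* Ω}
    (hinj : Function.Injective φ) :
    Nat.card (NK S R K φ) = Nat.card (centralizerIn S φ.range) * Nat.card (KS S R K φ) := by
  rw [← (autHom (S := S) K hinj).ker.card_mul_index, Subgroup.index_ker, range_autHom,
    ← map_ker_autHom K hinj]
  congr 1
  exact (Nat.card_congr ((autHom (S := S) K hinj).ker.equivMapOfInjective _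
    (Subgroup.subtype_injective _)).toEquiv)

/-! ### `K`-normalizers and the system -/

/-- The automorphisms in `KS` come from `Aut_S(φR)` through `φ`. -/
theorem KS_le_map (F : FusionSystem S) {R : Subgroup Ω} (K : Subgroup (MulAut R)) {φ : R →* Ω}
    (hφ : φ ∈ F.Hom R) :
    KS S R K φ ≤ (autInducedBy S φ.range).map
      (MulAut.congr (isoOfRange φ (F.injective_of_mem hφ) rfl).symm).toMonoidHom := by
  rintro κ ⟨-, g, hg, h⟩
  set e := isoOfRange φ (F.injective_of_mem hφ) rfl with he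
  have hα : ∀ y : φ.range, ((MulAut.congr e κ y : φ.range) : Ω) = g * y * g⁻¹ := by
    intro y
    show φ (κ (e.symm y)) = _
    rw [← h, apply_isoOfRange_symm]
  refine ⟨MulAut.congr e κ, (mem_autInducedBy_iff _ _ _).2 ⟨g, hg, hα⟩, ?_⟩
  ext x
  simp

theorem isPGroup_KS {p : ℕ} (hS : IsPGroup p S) (F : FusionSystem S) {R : Subgroup Ω}
    (K : Subgroup (MulAut R)) {φ : R →* Ω} (hφ : φ ∈ F.Hom R) : IsPGroup p (KS S R K φ) :=
  ((isPGroup_autInducedBy hS φ.range).map _).to_le (KS_le_map F K hφ)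

theorem KS_le_autGroup (F : FusionSystem S) {R : Subgroup Ω} (K : Subgroup (MulAut R)) {φ : R →* Ω}
    (hφ : φ ∈ F.Hom R) : KS S R K φ ≤ F.autGroup R := by
  refine le_trans (KS_le_map F K hφ) ?_
  have he : IsIso F (isoOfRange φ (F.injective_of_mem hφ) rfl) := isIso_isoOfRange F hφ rfl
  rw [← he.symm.map_autGroup]
  exact Subgroup.map_mono (autInducedBy_le_autGroup F (range_le F hφ))

/-- Precomposition of a map with an automorphism of the system. -/
theorem comp_aut_mem (F : FusionSystem S) {R : Subgroup Ω} {φ : R →* Ω} (hφ : φ ∈ F.Hom R)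
    {γ : MulAut R} (hγ : γ ∈ F.autGroup R) : φ.comp γ.toMonoidHom ∈ F.Hom R := by
  have hRS : R ≤ S := source_le F hφ
  have h1 := (mem_autGroup_iff F hRS γ).1 hγ
  have h2 := F.comp_mem h1 hφ (fun x => (γ x).2)
  exact mem_of_eq F h2 (fun x => rfl)

/-- **AKO I.5.2**: if `R` is fully `K`-normalized in a saturated system, then `R` is fully
centralized and `Aut_S^K(R)` is a Sylow `p`-subgroup of `Aut_F^K(R)`. -/
theorem isFullyCentralized_and_isSylowIn [Finite S] {p : ℕ} [Fact p.Prime] (hS : IsPGroup p S)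
    (F : FusionSystem S) (hF : F.IsSaturated p) {R : Subgroup Ω} (hRS : R ≤ S)
    (K : Subgroup (MulAut R))
    (hK : ∀ φ ∈ F.Hom R, Nat.card (NK S R K φ) ≤ Nat.card (NK S R K R.subtype)) :
    F.IsFullyCentralized R ∧ IsSylowIn p (autInducedBy S R ⊓ K) (F.autGroup R ⊓ K) := by
  have : Finite R := finite_of_le_S hRS
  obtain ⟨R', ⟨φ₀, hφ₀, hr₀⟩, haut, hrec⟩ := hF R hRS
  have hR'S : R' ≤ S := haut.1
  have : Finite R' := finite_of_le_S hR'S
  set e₀ := isoOfRange φ₀ (F.injective_of_mem hφ₀) hr₀ with he₀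
  have hiso : IsIso F e₀ := isIso_isoOfRange F hφ₀ hr₀
  -- a Sylow subgroup of `Aut_F(R)`
  have hSig : IsSylowIn p ((autInducedBy S R').map (MulAut.congr e₀.symm).toMonoidHom)
      (F.autGroup R) := by
    have h1 := (isSylowIn_of_isFullyAutomized F haut).map_of_injective
      (MulAut.congr e₀.symm).toMonoidHom (MulAut.congr e₀.symm).injective
    rwa [hiso.symm.map_autGroup] at h1
  -- a Sylow subgroup `T` of `Aut_F^K(R)` containing `Aut_S^K(R)`
  have hle0 : autInducedBy S R ⊓ K ≤ F.autGroup R ⊓ K :=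
    inf_le_inf_right K (autInducedBy_le_autGroup F hRS)
  have hp0 : IsPGroup p (autInducedBy S R ⊓ K : Subgroup (MulAut R)) :=
    (isPGroup_autInducedBy hS R).to_le inf_le_left
  obtain ⟨T, hT0, hT⟩ := exists_isSylowIn_ge hle0 hp0
  -- conjugate `T` into the Sylow subgroup of `Aut_F(R)`
  obtain ⟨γ, hγ, hγT⟩ := hSig.exists_conj_le (hT.le.trans inf_le_left) hT.isPGroup
  -- the map `φ₁ = φ₀ ∘ γ⁻¹`... we use `φ₁ = φ₀ ∘ γ` with `γ T γ⁻¹ ≤ Σ`
  have hφ₁ : φ₀.comp γ.toMonoidHom ∈ F.Hom R := comp_aut_mem F hφ₀ hγ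
  have hr₁ : (φ₀.comp γ.toMonoidHom).range = R' := by
    rw [← hr₀]
    apply le_antisymm
    · rintro _ ⟨x, rfl⟩
      exact ⟨γ x, rfl⟩
    · rintro _ ⟨x, rfl⟩
      exact ⟨γ⁻¹ x, by simp⟩
  have hTK : T ≤ KS S R K (φ₀.comp γ.toMonoidHom) := by
    intro τ hτ
    obtain ⟨α, hα, hατ⟩ := hγT τ hτ
    obtain ⟨s, hs, hsα⟩ := (mem_autInducedBy_iff _ _ _).1 hα
    refine ⟨(hT.le hτ).2, s, hs, fun x => ?_⟩
    have h1 : γ * τ * γ⁻¹ = MulAut.congr e₀.symm α := hατ.symm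
    have h2 : e₀ ((γ * τ * γ⁻¹) (γ x)) = α (e₀ (γ x)) := by
      rw [h1]
      simp
    have h3 := congrArg Subtype.val h2
    rw [hsα] at h3
    simp only [MulAut.mul_apply, MulAut.inv_apply_self] at h3
    show s * φ₀ (γ x) * s⁻¹ = φ₀ (γ (τ x))
    exact h3.symm
  -- counting
  have hinj₁ := F.injective_of_mem hφ₁
  have hc1 := card_NK (S := S) K hinj₁
  have hc0 := card_NK (S := S) K (Subgroup.subtype_injective R)
  rw [hr₁] at hc1
  rw [Subgroup.range_subtype, KS_subtype] at hc0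
  have hle := hK _ hφ₁
  rw [hc1, hc0] at hle
  have hcent : Nat.card (centralizerIn S R) ≤ Nat.card (centralizerIn S R') :=
    (Cfsg.Agent.S5078.result F R' hrec).2 R (isConj_symm F ⟨φ₀, hφ₀, hr₀⟩)
  have : Finite (KS S R K (φ₀.comp γ.toMonoidHom)) := inferInstance
  have hcT : Nat.card T ≤ Nat.card (KS S R K (φ₀.comp γ.toMonoidHom)) :=
    Subgroup.card_le_of_le hTK
  have hc0T : Nat.card (autInducedBy S R ⊓ K : Subgroup (MulAut R)) ≤ Nat.card T :=
    Subgroup.card_le_of_le hT0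
  have hfinC' : Finite (centralizerIn S R') := finite_of_le_S inf_le_left
  have hfinC : Finite (centralizerIn S R) := finite_of_le_S inf_le_left
  have hposC : 0 < Nat.card (centralizerIn S R) := Nat.card_pos
  have hposC' : 0 < Nat.card (centralizerIn S R') := Nat.card_pos
  have hpos0 : 0 < Nat.card (autInducedBy S R ⊓ K : Subgroup (MulAut R)) := Nat.card_pos
  have hposT : 0 < Nat.card T := Nat.card_pos
  have heqC : Nat.card (centralizerIn S R) = Nat.card (centralizerIn S R') := by nlinarith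
  have heqT : Nat.card (autInducedBy S R ⊓ K : Subgroup (MulAut R)) = Nat.card T := by nlinarith
  constructor
  · refine ⟨hRS, fun Q hQ => ?_⟩
    rw [heqC]
    exact (Cfsg.Agent.S5078.result F R' hrec).2 Q
      (isConj_trans F (isConj_symm F ⟨φ₀, hφ₀, hr₀⟩) hQ)
  · have : autInducedBy S R ⊓ K = T := Subgroup.eq_of_le_of_card_ge hT0 heqT.ge
    rw [this]
    exact hT


/-- **AKO I.5.2(b)**: if `Q` is fully centralized and `Aut_S^K(Q)` is Sylow in `Aut_F^K(Q)`, then for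
every map `φ` with source `Q` there are `χ ∈ Aut_F^K(Q)` and a map `ρ` of the system defined on
`N_S^{φK}(φQ) · φQ` with `ρ ∘ φ = χ` on `Q`. -/
theorem exists_extension_NK [Finite S] {p : ℕ} [Fact p.Prime] (hS : IsPGroup p S)
    (F : FusionSystem S) (hF : F.IsSaturated p) {Q : Subgroup Ω} (K : Subgroup (MulAut Q))
    (hQc : F.IsFullyCentralized Q)
    (hsyl : IsSylowIn p (autInducedBy S Q ⊓ K) (F.autGroup Q ⊓ K))
    {φ : Q →* Ω} (hφ : φ ∈ F.Hom Q) :
    ∃ ρ ∈ F.Hom (NK S Q K φ ⊔ φ.range), ∃ χ ∈ K,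
      ∀ x : Q, ρ ⟨φ x, (le_sup_right : φ.range ≤ NK S Q K φ ⊔ φ.range) ⟨x, rfl⟩⟩ = χ x := by
  have hQS := hQc.1
  have : Finite Q := finite_of_le_S hQS
  have hrec : F.IsReceptive Q := IsSaturated.isReceptive hS hF hQc
  set e := isoOfRange φ (F.injective_of_mem hφ) rfl with he
  have hiso : IsIso F e := isIso_isoOfRange F hφ rfl
  have hB : KS S Q K φ ≤ F.autGroup Q ⊓ K := le_inf (KS_le_autGroup F K hφ) (KS_le Q K φ)
  obtain ⟨χ, hχ, hχB⟩ := hsyl.exists_conj_le hB (isPGroup_KS hS F K hφ)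
  have hψ' : (Q.subtype.comp χ.toMonoidHom).comp e.symm.toMonoidHom ∈ F.Hom φ.range := by
    have h1 : IsIso F e.symm := hiso.symm
    have h2 := (mem_autGroup_iff F hQS χ).1 hχ.1
    have h3 := F.comp_mem h1 h2 (fun y => (e.symm y).2)
    exact mem_of_eq F h3 (fun y => rfl)
  set ψ' := (Q.subtype.comp χ.toMonoidHom).comp e.symm.toMonoidHom with hψ'def
  have hψ'e : ∀ x : Q, ψ' (e x) = χ x := by
    intro x
    show ((χ (e.symm (e x)) : Q) : Ω) = _
    rw [MulEquiv.symm_apply_apply]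
  have hψ'r : ψ'.range = Q := by
    apply le_antisymm
    · rintro _ ⟨y, rfl⟩
      exact (χ (e.symm y)).2
    · intro y hy
      refine ⟨e (χ⁻¹ ⟨y, hy⟩), ?_⟩
      show ((χ (e.symm (e (χ⁻¹ ⟨y, hy⟩))) : Q) : Ω) = y
      rw [MulEquiv.symm_apply_apply, MulAut.apply_inv_self]
  have hNle : NK S Q K φ ≤ extender S φ.range ψ' := by
    rintro g ⟨hgS, κ, hκ, hg⟩
    have hκB : κ ∈ KS S Q K φ := ⟨hκ, g, hgS, hg⟩
    have h1 := (hχB κ hκB).1
    obtain ⟨s, hs, hsκ⟩ := (mem_autInducedBy_iff _ _ _).1 h1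
    rw [mem_extender_iff]
    refine ⟨hgS, ?_, s, hs, ?_⟩
    · apply mem_normalizer_of_aut (MulAut.congr e κ) g
      intro y
      show φ (κ (e.symm y)) = _
      rw [← hg, apply_isoOfRange_symm]
    · intro y hx
      obtain ⟨x, rfl⟩ := e.surjective y
      have e1 : (⟨g * (e x : Ω) * g⁻¹, hx⟩ : φ.range) = e (κ x) :=
        Subtype.ext (hg x)
      rw [e1, hψ'e, hψ'e, ← hsκ (χ x)]
      simp
  have hQle : φ.range ≤ extender S φ.range ψ' :=
    Helper84_Fusion.le_extender S φ.range ψ' (range_le F hφ) (fun y => apply_mem F hψ' y)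
  obtain ⟨Ψ, hΨ, hΨψ⟩ := hrec.2 φ.range ψ' hψ' hψ'r
  refine ⟨Ψ.comp (Subgroup.inclusion (sup_le hNle hQle)), restrict_mem F _ hΨ, χ, hχ.2, ?_⟩
  intro x
  have h1 := hΨψ (e x : Ω) (e x).2 (hQle (e x).2)
  rw [Subtype.coe_eta, hψ'e] at h1
  exact h1


end Cfsg.Agent.Lib.Helper84_KNormalizer
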