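import Cfsg.Agent.Lib.Helper84_KNormalizer2

/-!
Fusion systems: `K`-normalizer systems `N_F^K(Q)` are saturated (helper84), part 3: if `P` is fully
normalized in `N_F^K(Q)` then `PQ` is fully `K_P`-normalized in `F`.
-/

set_option autoImplicit false

namespace Cfsg.Agent.Lib.Helper84_KNormalizer

open Cfsg Cfsg.FusionSystem Cfsg.Agent.Lib.Helper85_Fusion Cfsg.Agent.Lib.Helper84_RelSylow
  Cfsg.Agent.Lib.Helper84_FusionSat Cfsg.Agent.Lib.Helper84_FusionRS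
  Cfsg.Agent.Lib.Helper84_FusionAlperin

variable {Ω : Type*} [Group Ω] {S : Subgroup Ω}

/-- Conjugation inside the source of a homomorphism defined on a subgroup. -/
theorem map_conj_mk {D : Subgroup Ω} (ρ : D →* Ω) {a b : Ω} (ha : a ∈ D) (hb : b ∈ D)
    (hab : a * b * a⁻¹ ∈ D) : ρ ⟨a * b * a⁻¹, hab⟩ = ρ ⟨a, ha⟩ * ρ ⟨b, hb⟩ * (ρ ⟨a, ha⟩)⁻¹ := by
  rw [← map_inv, ← map_mul, ← map_mul]
  rfl

/-- **Key step**: if `P` is fully normalized in `N_F^K(Q)`, with `Q` fully centralized and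
`Aut_S^K(Q)` Sylow in `Aut_F^K(Q)`, then `PQ` is fully `K_P`-normalized in `F`. -/
theorem card_NK_le [Finite S] {p : ℕ} [Fact p.Prime] (hS : IsPGroup p S) (F : FusionSystem S)
    (hF : F.IsSaturated p) {Q : Subgroup Ω} (K : Subgroup (MulAut Q))
    (hQc : F.IsFullyCentralized Q)
    (hsyl : IsSylowIn p (autInducedBy S Q ⊓ K) (F.autGroup Q ⊓ K))
    {N : Subgroup Ω} {E : FusionSystem N} (hE : IsKNormalizerSystem F Q K E) {P : Subgroup Ω}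
    (hP : E.IsFullyNormalized P) {φ : ↥(P ⊔ Q) →* Ω} (hφ : φ ∈ F.Hom (P ⊔ Q)) :
    Nat.card (NK S (P ⊔ Q) (KP P Q K) φ) ≤
      Nat.card (NK S (P ⊔ Q) (KP P Q K) (P ⊔ Q).subtype) := by
  have hPN : P ≤ N := hP.1
  have hNS : N ≤ S := hE.le_S
  set φQ := φ.comp (Subgroup.inclusion (le_sup_right : Q ≤ P ⊔ Q)) with hφQdef
  have hφQ : φQ ∈ F.Hom Q := restrict_mem F le_sup_right hφ
  set D := NK S Q K φQ ⊔ φQ.range with hD
  obtain ⟨ρ, hρ, χ, hχ, hρχ⟩ : ∃ ρ ∈ F.Hom D, ∃ χ ∈ K, ∀ x : Q,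
      ρ ⟨φQ x, (le_sup_right : φQ.range ≤ D) ⟨x, rfl⟩⟩ = χ x :=
    exists_extension_NK hS F hF K hQc hsyl hφQ
  -- `φ` maps into `D`
  have hφP : ∀ x : P, φ (Subgroup.inclusion le_sup_left x) ∈ NK S Q K φQ := by
    intro x
    obtain ⟨-, κ, hκ, hx⟩ := (hE.mem_iff x).1 (hPN x.2)
    refine ⟨apply_mem F hφ _, κ, hκ, fun z => ?_⟩
    show φ (Subgroup.inclusion le_sup_left x) * φ (Subgroup.inclusion le_sup_right z) *
      (φ (Subgroup.inclusion le_sup_left x))⁻¹ = φ (Subgroup.inclusion le_sup_right (κ z))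
    rw [← map_inv, ← map_mul, ← map_mul]
    congr 1
    exact Subtype.ext (hx z)
  have hφD : ∀ y : ↥(P ⊔ Q), φ y ∈ D := by
    have htop : D.comap φ = ⊤ := by
      apply eq_top_of_le_sup
      · intro x
        exact Subgroup.mem_sup_left (hφP x)
      · intro x
        exact Subgroup.mem_sup_right ⟨x, rfl⟩
    intro y
    have : y ∈ D.comap φ := htop ▸ Subgroup.mem_top y
    exact this
  have hθ : ρ.comp (φ.codRestrict D hφD) ∈ F.Hom (P ⊔ Q) := F.comp_mem hφ hρ hφD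
  set θ := ρ.comp (φ.codRestrict D hφD) with hθdef
  have hθQ : ∀ x : Q, θ (Subgroup.inclusion le_sup_right x) = χ x := fun x => hρχ x
  have hθQ' : ∀ z : Q, θ (Subgroup.inclusion le_sup_right (χ⁻¹ z)) = z := by
    intro z
    rw [hθQ, MulAut.apply_inv_self]
  -- the conjugate `P''` of `P` in `E`
  have hθP : θ.comp (Subgroup.inclusion (le_sup_left : P ≤ P ⊔ Q)) ∈ E.Hom P := by
    rw [hE.hom_iff]
    refine ⟨restrict_mem F le_sup_left hθ, hPN, fun x => ?_, θ, hθ, fun x => rfl, χ, hχ, hθQ⟩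
    obtain ⟨-, κ, hκ, hx⟩ := (hE.mem_iff x).1 (hPN x.2)
    rw [hE.mem_iff]
    refine ⟨apply_mem F hθ _, χ * κ * χ⁻¹, K.mul_mem (K.mul_mem hχ hκ) (K.inv_mem hχ), fun z => ?_⟩
    show θ (Subgroup.inclusion le_sup_left x) * (z : Ω) * (θ (Subgroup.inclusion le_sup_left x))⁻¹ =
      ((χ (κ (χ⁻¹ z)) : Q) : Ω)
    rw [← hθQ' z, ← map_inv, ← map_mul, ← map_mul, ← hθQ]
    congr 1
    exact Subtype.ext (hx (χ⁻¹ z))
  set P'' := (θ.comp (Subgroup.inclusion (le_sup_left : P ≤ P ⊔ Q))).range with hP''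
  have hconj : E.IsConj P P'' := ⟨_, hθP, rfl⟩
  have h1 : Nat.card (normalizerIn N P'') ≤ Nat.card (normalizerIn N P) := hP.2 P'' hconj
  have hfinNK : Finite (NK S (P ⊔ Q) (KP P Q K) (P ⊔ Q).subtype) := finite_of_le_S (NK_le _ _ _)
  have h2 : Nat.card (normalizerIn N P) ≤ Nat.card (NK S (P ⊔ Q) (KP P Q K) (P ⊔ Q).subtype) :=
    Subgroup.card_le_of_le (hE.normalizerIn_le_NK P)
  refine le_trans ?_ (h1.trans h2)
  -- the injection `M → N_N(P'')`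
  have hMD : NK S (P ⊔ Q) (KP P Q K) φ ≤ NK S Q K φQ := by
    rintro g ⟨hgS, α, ⟨-, κ, hκ, hακ⟩, hg⟩
    refine ⟨hgS, κ, hκ, fun z => ?_⟩
    have e1 : α (Subgroup.inclusion le_sup_right z) = Subgroup.inclusion le_sup_right (κ z) :=
      Subtype.ext (hακ z)
    show g * φ (Subgroup.inclusion le_sup_right z) * g⁻¹ = φ (Subgroup.inclusion le_sup_right (κ z))
    rw [hg, e1]
  have hMD' : NK S (P ⊔ Q) (KP P Q K) φ ≤ D := hMD.trans le_sup_left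
  have key : ∀ g (hg : g ∈ NK S (P ⊔ Q) (KP P Q K) φ),
      ρ ⟨g, hMD' hg⟩ ∈ N ∧ ∀ h ∈ P'', ρ ⟨g, hMD' hg⟩ * h * (ρ ⟨g, hMD' hg⟩)⁻¹ ∈ P'' := by
    rintro g hg
    obtain ⟨hgS, α, ⟨hst, κ, hκ, hακ⟩, hgα⟩ := id hg
    have hgφ : ∀ y : ↥(P ⊔ Q), ρ ⟨g, hMD' hg⟩ * θ y * (ρ ⟨g, hMD' hg⟩)⁻¹ = θ (α y) := by
      intro y
      have hmem : g * φ y * g⁻¹ ∈ D := by rw [hgα]; exact hφD _
      have := map_conj_mk ρ (hMD' hg) (hφD y) hmem
      show ρ ⟨g, hMD' hg⟩ * ρ ⟨φ y, hφD y⟩ * (ρ ⟨g, hMD' hg⟩)⁻¹ = ρ ⟨φ (α y), hφD _⟩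
      rw [← this]
      congr 1
      exact Subtype.ext (hgα y)
    constructor
    · rw [hE.mem_iff]
      refine ⟨apply_mem F hρ _, χ * κ * χ⁻¹, K.mul_mem (K.mul_mem hχ hκ) (K.inv_mem hχ),
        fun z => ?_⟩
      show ρ ⟨g, hMD' hg⟩ * (z : Ω) * (ρ ⟨g, hMD' hg⟩)⁻¹ = ((χ (κ (χ⁻¹ z)) : Q) : Ω)
      rw [← hθQ' z, hgφ, ← hθQ]
      congr 1
      exact Subtype.ext (hακ (χ⁻¹ z))
    · rintro _ ⟨x, rfl⟩
      show ρ ⟨g, hMD' hg⟩ * θ (Subgroup.inclusion le_sup_left x) * (ρ ⟨g, hMD' hg⟩)⁻¹ ∈ P''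
      rw [hgφ]
      have hx' : ((α (Subgroup.inclusion le_sup_left x) : ↥(P ⊔ Q)) : Ω) ∈ P := (hst _).1 x.2
      refine ⟨⟨_, hx'⟩, ?_⟩
      show θ (Subgroup.inclusion le_sup_left ⟨_, hx'⟩) = _
      congr 1
  have hnorm : ∀ g (hg : g ∈ NK S (P ⊔ Q) (KP P Q K) φ), ρ ⟨g, hMD' hg⟩ ∈ normalizerIn N P'' := by
    intro g hg
    refine ⟨(key g hg).1, ?_⟩
    intro h
    constructor
    · exact (key g hg).2 h
    · intro hh
      have hg' := Subgroup.inv_mem _ hg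
      have h3 := (key g⁻¹ hg').2 _ hh
      have e : ρ ⟨g⁻¹, hMD' hg'⟩ = (ρ ⟨g, hMD' hg⟩)⁻¹ := by
        rw [← map_inv]
        rfl
      rw [e] at h3
      simpa [mul_assoc] using h3
  have hfin : Finite (normalizerIn N P'') := finite_of_le_S (inf_le_left.trans hNS)
  apply Nat.card_le_card_of_injective
    (fun g : NK S (P ⊔ Q) (KP P Q K) φ => (⟨ρ ⟨g, hMD' g.2⟩, hnorm g g.2⟩ : normalizerIn N P''))
  intro a b hab
  have h4 : ρ ⟨a, hMD' a.2⟩ = ρ ⟨b, hMD' b.2⟩ := congrArg Subtype.val hab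
  have h5 := F.injective_of_mem hρ h4
  exact Subtype.ext (congrArg (fun z : D => (z : Ω)) h5)

end Cfsg.Agent.Lib.Helper84_KNormalizer
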