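import Cfsg.Agent.Lib.Helper84_KNormalizer3

/-!
Fusion systems: `K`-normalizer systems `N_F^K(Q)` are saturated (helper84), part 4: a subgroup fully
normalized in `N_F^K(Q)` is fully automized in it.
-/

set_option autoImplicit false

namespace Cfsg.Agent.Lib.Helper84_KNormalizer

open Cfsg Cfsg.FusionSystem Cfsg.Agent.Lib.Helper85_Fusion Cfsg.Agent.Lib.Helper84_RelSylow
  Cfsg.Agent.Lib.Helper84_FusionSat Cfsg.Agent.Lib.Helper84_FusionRS
  Cfsg.Agent.Lib.Helper84_FusionAlperin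

variable {Ω : Type*} [Group Ω] {S : Subgroup Ω}

section

variable {F : FusionSystem S} {Q : Subgroup Ω} {K : Subgroup (MulAut Q)} {N : Subgroup Ω}
  {E : FusionSystem N}

/-- `PQ` is fully centralized and `Aut_S^{K_P}(PQ)` is Sylow in `Aut_F^{K_P}(PQ)` when `P` is fully
normalized in `N_F^K(Q)`. -/
theorem sup_isFullyCentralized_and_isSylowIn [Finite S] {p : ℕ} [Fact p.Prime] (hS : IsPGroup p S)
    (hF : F.IsSaturated p) (hQc : F.IsFullyCentralized Q)
    (hsyl : IsSylowIn p (autInducedBy S Q ⊓ K) (F.autGroup Q ⊓ K))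
    (hE : IsKNormalizerSystem F Q K E) {P : Subgroup Ω} (hP : E.IsFullyNormalized P) :
    F.IsFullyCentralized (P ⊔ Q) ∧
      IsSylowIn p (autInducedBy S (P ⊔ Q) ⊓ KP P Q K) (F.autGroup (P ⊔ Q) ⊓ KP P Q K) :=
  isFullyCentralized_and_isSylowIn hS F hF (sup_le (hP.1.trans hE.le_S) hQc.1) (KP P Q K)
    (fun _ hφ => card_NK_le hS F hF K hQc hsyl hE hP hφ)

/-- The restriction homomorphism `Aut_F^{K_P}(PQ) → Aut(P)`. -/
def resHom (F : FusionSystem S) (P Q : Subgroup Ω) (K : Subgroup (MulAut Q)) :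
    ↥(F.autGroup (P ⊔ Q) ⊓ KP P Q K) →* MulAut P :=
  (restrictHom (le_sup_left : P ≤ P ⊔ Q)).comp
    (Subgroup.inclusion (inf_le_right.trans (KP_le_stab P Q K)))

@[simp]
theorem coe_resHom (P : Subgroup Ω) (a : ↥(F.autGroup (P ⊔ Q) ⊓ KP P Q K)) (x : P) :
    ((resHom F P Q K a x : P) : Ω) =
      (((a : MulAut ↥(P ⊔ Q)) (Subgroup.inclusion le_sup_left x) : ↥(P ⊔ Q)) : Ω) := rfl

/-- The range of the restriction homomorphism is `Aut_E(P)`. -/
theorem range_resHom [Finite S] (hE : IsKNormalizerSystem F Q K E) (hQS : Q ≤ S) {P : Subgroup Ω}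
    (hPN : P ≤ N) : (resHom F P Q K).range = E.autGroup P := by
  have hRS : P ⊔ Q ≤ S := sup_le (hPN.trans hE.le_S) hQS
  ext β
  constructor
  · rintro ⟨a, rfl⟩
    rw [mem_autGroup_iff E hPN, hE.hom_iff]
    have haF := (mem_autGroup_iff F hRS (a : MulAut ↥(P ⊔ Q))).1 a.2.1
    obtain ⟨-, κ, hκ, haκ⟩ := a.2.2
    refine ⟨mem_of_eq F (restrict_mem F le_sup_left haF) (fun x => rfl), hPN,
      fun x => hPN (resHom F P Q K a x).2, _, haF, fun x => rfl, κ, hκ, haκ⟩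
  · intro hβ
    rw [mem_autGroup_iff E hPN, hE.hom_iff] at hβ
    obtain ⟨-, -, -, ψ, hψ, hext, κ, hκ, hψκ⟩ := hβ
    have hr : ψ.range = P ⊔ Q := by
      rw [range_eq_sup_map,
        map_subgroupOf_eq_range_of_ext le_sup_left (P.subtype.comp β.toMonoidHom) ψ hext,
        map_subgroupOf_eq_range_of_ext le_sup_right (Q.subtype.comp κ.toMonoidHom) ψ hψκ,
        range_subtype_comp_equiv, range_subtype_comp_equiv]
    have hinj := F.injective_of_mem hψ
    set α : MulAut ↥(P ⊔ Q) := isoOfRange ψ hinj hr with hα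
    have hαF : α ∈ F.autGroup (P ⊔ Q) :=
      (mem_autGroup_iff F hRS α).2 (mem_of_eq F hψ (fun y => rfl))
    have hαK : α ∈ KP P Q K := by
      refine ⟨fun y => ?_, κ, hκ, fun x => hψκ x⟩
      show (y : Ω) ∈ P ↔ ψ y ∈ P
      constructor
      · intro hy
        have := hext ⟨y, hy⟩
        have e1 : Subgroup.inclusion (le_sup_left : P ≤ P ⊔ Q) ⟨y, hy⟩ = y := Subtype.ext rfl
        rw [e1] at this
        rw [this]
        exact (β ⟨y, hy⟩).2
      · intro hy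
        have h1 := hext (β⁻¹ ⟨ψ y, hy⟩)
        have h2 : ψ (Subgroup.inclusion le_sup_left (β⁻¹ ⟨ψ y, hy⟩)) = ψ y := by
          rw [h1]
          show ((β (β⁻¹ ⟨ψ y, hy⟩) : P) : Ω) = ψ y
          rw [MulAut.apply_inv_self]
        have h3 := hinj h2
        rw [← h3]
        exact (β⁻¹ ⟨ψ y, hy⟩).2
    refine ⟨⟨α, hαF, hαK⟩, ?_⟩
    ext x
    exact hext x

/-- The image of `Aut_S^{K_P}(PQ)` under restriction is `Aut_N(P)`. -/
theorem map_resHom (hE : IsKNormalizerSystem F Q K E) (hQS : Q ≤ S) {P : Subgroup Ω}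
    (hPN : P ≤ N) :
    ((autInducedBy S (P ⊔ Q) ⊓ KP P Q K).subgroupOf (F.autGroup (P ⊔ Q) ⊓ KP P Q K)).map
      (resHom F P Q K) = autInducedBy N P := by
  have hRS : P ⊔ Q ≤ S := sup_le (hPN.trans hE.le_S) hQS
  ext γ
  constructor
  · rintro ⟨a, ha, rfl⟩
    rw [SetLike.mem_coe, Subgroup.mem_subgroupOf] at ha
    obtain ⟨s, hs, hsa⟩ := (mem_autInducedBy_iff _ _ _).1 ha.1
    have hsN := hE.mem_normalizerIn_of_KP hs ha.2 (fun y => (hsa y).symm)
    rw [mem_autInducedBy_iff]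
    exact ⟨s, hsN.1, fun x => hsa (Subgroup.inclusion le_sup_left x)⟩
  · intro hγ
    obtain ⟨h, hhN, hγh⟩ := (mem_autInducedBy_iff _ _ _).1 hγ
    have hhP : h ∈ Subgroup.normalizer (P : Set Ω) := mem_normalizer_of_aut γ h hγh
    obtain ⟨hhS, α, hαK, hα⟩ := hE.normalizerIn_le_NK P ⟨hhN, hhP⟩
    have hαS : α ∈ autInducedBy S (P ⊔ Q) :=
      (mem_autInducedBy_iff _ _ _).2 ⟨h, hhS, fun y => (hα y).symm⟩
    have hαF : α ∈ F.autGroup (P ⊔ Q) := autInducedBy_le_autGroup F hRS hαS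
    refine ⟨⟨α, hαF, hαK⟩, Subgroup.mem_subgroupOf.2 ⟨hαS, hαK⟩, ?_⟩
    ext x
    rw [hγh]
    exact (hα (Subgroup.inclusion le_sup_left x)).symm

/-- A subgroup fully normalized in `N_F^K(Q)` is fully automized in it. -/
theorem isFullyAutomized_of_isFullyNormalized [Finite S] {p : ℕ} [Fact p.Prime]
    (hS : IsPGroup p S) (hF : F.IsSaturated p) (hQc : F.IsFullyCentralized Q)
    (hsyl : IsSylowIn p (autInducedBy S Q ⊓ K) (F.autGroup Q ⊓ K))
    (hE : IsKNormalizerSystem F Q K E) {P : Subgroup Ω} (hP : E.IsFullyNormalized P) :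
    E.IsFullyAutomized p P := by
  have hPN := hP.1
  obtain ⟨-, hsylR⟩ := sup_isFullyCentralized_and_isSylowIn hS hF hQc hsyl hE hP
  apply isFullyAutomized_of_isSylowIn E hPN
  have h1 := isSylowIn_map_range (resHom F P Q K)
    ((autInducedBy S (P ⊔ Q) ⊓ KP P Q K).subgroupOf (F.autGroup (P ⊔ Q) ⊓ KP P Q K))
    (hsylR.isPGroup.comap_of_injective _ (Subgroup.subtype_injective _)) hsylR.not_dvd
  rwa [map_resHom hE hQc.1 hPN, range_resHom hE hQc.1 hPN] at h1

end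

end Cfsg.Agent.Lib.Helper84_KNormalizer
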