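import Mathlib
import Cfsg.Agent.Lib.Helper74_M11UDefs

/-!
# S0420 package A8 (helper84): elimination of the wrong local structures

Pure combinatorics on the bundles `LocP`, `Val`, `Link` of `Helper74_M11UDefs`: the 10-clique
`{P} ∪ P • Q` of an edge `P, Q` is the same seen from `P` or from `Q`.
-/

set_option autoImplicit false
set_option linter.unusedSectionVars false
set_option linter.unusedVariables false

open Cfsg.Agent.Lib.Helper74_M11UDefs
open scoped Pointwise

namespace Cfsg.Agent.Lib.Helper84_M11U_A8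

universe u

variable {G : Type u} [Group G] [Finite G]

/-- the map `y ↦ y • Y` on `P` is injective when `P ≠ Y` -/
theorem orb_inj (hl : Link G) {P Y : Sylow 3 G} (hPY : P ≠ Y) :
    Function.Injective (fun y : ↥(P : Subgroup G) => ((y : G) • Y : Sylow 3 G)) := by
  intro y y' h
  have h' : ((y' : G)⁻¹ * (y : G)) • Y = Y := by
    have h2 : ((y : G) • Y : Sylow 3 G) = (y' : G) • Y := h
    rw [mul_smul, h2, inv_smul_smul]
  have h3 := hl.free P Y hPY _ (mul_mem (inv_mem y'.2) y.2) h'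
  have h4 : (y' : G) = (y : G) := inv_mul_eq_one.mp h3
  exact Subtype.ext h4.symm

/-- the `P`-orbit of `Y ≠ P` has 9 elements -/
theorem orb_ncard (hp : LocP G) (hl : Link G) {P Y : Sylow 3 G} (hPY : P ≠ Y) :
    {X : Sylow 3 G | ∃ y ∈ (P : Subgroup G), X = y • Y}.ncard = 9 := by
  have e : {X : Sylow 3 G | ∃ y ∈ (P : Subgroup G), X = y • Y} =
      Set.range (fun y : ↥(P : Subgroup G) => ((y : G) • Y : Sylow 3 G)) := by
    ext X
    constructor
    · rintro ⟨y, hy, rfl⟩
      exact ⟨⟨y, hy⟩, rfl⟩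
    · rintro ⟨y, rfl⟩
      exact ⟨y, y.2, rfl⟩
  rw [e, ← Nat.card_coe_set_eq, Nat.card_range_of_injective (orb_inj hl hPY), hp.cardP]

/-- a nontrivial element of `P` -/
theorem exists_ne_one (hp : LocP G) (P : Sylow 3 G) : ∃ y ∈ (P : Subgroup G), y ≠ 1 := by
  by_contra hcon
  push Not at hcon
  have hbot : (P : Subgroup G) = ⊥ := by
    rw [Subgroup.eq_bot_iff_forall]
    exact hcon
  have h9 := hp.cardP P
  rw [hbot, Subgroup.card_bot] at h9
  omega

section counting

variable [Fintype (Sylow 3 G)] [DecidableEq (Sylow 3 G)] [DecidableRel (gr3 G).Adj]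

theorem card_common_eq_ncard (P Q : Sylow 3 G) :
    Fintype.card ((gr3 G).commonNeighbors P Q) = {X : Sylow 3 G | Adj3 P X ∧ Adj3 Q X}.ncard := by
  rw [Fintype.card_eq_nat_card, Nat.card_coe_set_eq]
  rfl

/-- The key: for every triangle `P, Q, T`, `Q` is adjacent to all of `P • Q ∖ {Q}` and to none of
`P • T ∖ {T}`. -/
theorem key (hp : LocP G) (hv : Val G) (hl : Link G) {l m : ℕ}
    (hs : (gr3 G).IsSRGWith 55 18 l m)
    (h1 : ¬ (gr3 G).IsSRGWith 55 18 1 8) (h17 : ¬ (gr3 G).IsSRGWith 55 18 17 0)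
    (P Q T : Sylow 3 G) (hT : Tri P Q T) :
    (∀ y ∈ (P : Subgroup G), y ≠ 1 → Adj3 Q (y • Q)) ∧
      (∀ y ∈ (P : Subgroup G), y ≠ 1 → ¬ Adj3 Q (y • T)) := by
  obtain ⟨y₀, hy₀, hy₀1⟩ := exists_ne_one hp P
  have hPQ : P ≠ Q := hT.1
  have hPT : P ≠ T := hT.2.1
  have hQT : Q ≠ T := hT.2.2.1
  have hparam := SimpleGraph.IsSRGWith.param_eq (gr3 G) hs (by norm_num)
  have hl_eq : l = {X : Sylow 3 G | Adj3 P X ∧ Adj3 Q X}.ncard := by
    rw [← card_common_eq_ncard]
    exact (hs.of_adj P Q hT.adj12).symm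
  -- the orbits
  have horbA : ∀ y ∈ (P : Subgroup G), y ≠ 1 → (Adj3 Q (y • Q) ↔ Adj3 Q (y₀ • Q)) :=
    fun y hy hy1 => (hl.orb P Q T hT y hy hy1 y₀ hy₀ hy₀1).1
  have horbB : ∀ y ∈ (P : Subgroup G), y ≠ 1 → (Adj3 Q (y • T) ↔ Adj3 Q (y₀ • T)) :=
    fun y hy hy1 => (hl.orb P Q T hT y hy hy1 y₀ hy₀ hy₀1).2
  -- neighbours of `P`
  have hnbr := hl.nbr P Q T hT
  by_cases ha : Adj3 Q (y₀ • Q)
  · by_cases hb : Adj3 Q (y₀ • T)
    · -- (1,1): l = 17, m = 0
      exfalso
      have hsub : {X : Sylow 3 G | Adj3 P X} \ {Q} ⊆ {X : Sylow 3 G | Adj3 P X ∧ Adj3 Q X} := by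
        rintro X ⟨hX, hXQ⟩
        refine ⟨hX, ?_⟩
        rcases (hnbr X).mp hX with ⟨y, hy, rfl⟩ | ⟨y, hy, rfl⟩
        · by_cases hy1 : y = 1
          · exfalso
            apply hXQ
            simp [hy1]
          · exact (horbA y hy hy1).mpr ha
        · by_cases hy1 : y = 1
          · rw [hy1, one_smul]
            exact hT.adj23
          · exact (horbB y hy hy1).mpr hb
      have h17le : 17 ≤ l := by
        rw [hl_eq]
        have hmem : Q ∈ {X : Sylow 3 G | Adj3 P X} := hT.adj12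
        have hc := Set.ncard_sdiff_singleton_of_mem hmem
        rw [hv.deg P] at hc
        calc 17 = ({X : Sylow 3 G | Adj3 P X} \ {Q}).ncard := by rw [hc]
          _ ≤ _ := Set.ncard_le_ncard hsub (Set.toFinite _)
      have hlt : l < 18 := by
        have h2 := SimpleGraph.Adj.card_commonNeighbors_lt_degree (G := gr3 G) (v := P) (w := Q)
          hT.adj12
        rw [hs.of_adj P Q hT.adj12, hs.regular P] at h2
        exact h2
      have hl17 : l = 17 := by omega
      subst hl17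
      have hm : m = 0 := by omega
      subst hm
      exact h17 hs
    · -- (1,0): the claim
      refine ⟨fun y hy hy1 => (horbA y hy hy1).mpr ha, fun y hy hy1 h => hb ((horbB y hy hy1).mp h)⟩
  · by_cases hb : Adj3 Q (y₀ • T)
    · -- (0,1): too many common neighbours of the non-edge `Q, y₀ • Q`
      exfalso
      have hQadj : ∀ y ∈ (P : Subgroup G), Adj3 Q (y • T) := by
        intro y hy
        by_cases hy1 : y = 1
        · rw [hy1, one_smul]
          exact hT.adj23
        · exact (horbB y hy hy1).mpr hb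
      have h9l : 9 ≤ l := by
        rw [hl_eq, ← orb_ncard hp hl hPT]
        refine Set.ncard_le_ncard ?_ (Set.toFinite _)
        rintro X ⟨y, hy, rfl⟩
        exact ⟨(hnbr _).mpr (Or.inr ⟨y, hy, rfl⟩), hQadj y hy⟩
      have hXQ : Q ≠ y₀ • Q := by
        intro h
        exact hy₀1 (hl.free P Q hPQ y₀ hy₀ h.symm)
      have hm_eq : m = {X : Sylow 3 G | Adj3 Q X ∧ Adj3 (y₀ • Q) X}.ncard := by
        rw [← card_common_eq_ncard]
        exact (hs.of_not_adj hXQ ha).symm
      have h9m : 9 ≤ m := by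
        rw [hm_eq, ← orb_ncard hp hl hPT]
        refine Set.ncard_le_ncard ?_ (Set.toFinite _)
        rintro X ⟨y, hy, rfl⟩
        refine ⟨hQadj y hy, ?_⟩
        have e : y • T = y₀ • ((y₀⁻¹ * y) • T) := by
          rw [smul_smul, mul_inv_cancel_left]
        rw [e, adj3_smul_iff]
        exact hQadj _ (mul_mem (inv_mem hy₀) hy)
      omega
    · -- (0,0): l = 1, m = 8
      exfalso
      have hset : {X : Sylow 3 G | Adj3 P X ∧ Adj3 Q X} = {T} := by
        ext X
        simp only [Set.mem_ofPred_eq, Set.mem_singleton_iff]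
        constructor
        · rintro ⟨hX, hXQ⟩
          rcases (hnbr X).mp hX with ⟨y, hy, rfl⟩ | ⟨y, hy, rfl⟩
          · by_cases hy1 : y = 1
            · exfalso
              rw [hy1, one_smul] at hXQ
              exact not_adj3_self Q hXQ
            · exact absurd ((horbA y hy hy1).mp hXQ) ha
          · by_cases hy1 : y = 1
            · rw [hy1, one_smul]
            · exact absurd ((horbB y hy hy1).mp hXQ) hb
        · rintro rfl
          exact ⟨hT.adj13, hT.adj23⟩
      have hl1 : l = 1 := by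
        rw [hl_eq, hset, Set.ncard_singleton]
      subst hl1
      have hm : m = 8 := by omega
      subst hm
      exact h1 hs

end counting

/-- one inclusion of the clique statement -/
theorem dir [Fintype (Sylow 3 G)] [DecidableEq (Sylow 3 G)] [DecidableRel (gr3 G).Adj]
    (hp : LocP G) (hv : Val G) (hl : Link G) {l m : ℕ}
    (hs : (gr3 G).IsSRGWith 55 18 l m)
    (h1 : ¬ (gr3 G).IsSRGWith 55 18 1 8) (h17 : ¬ (gr3 G).IsSRGWith 55 18 17 0)
    (P Q T : Sylow 3 G) (hT : Tri P Q T) (X : Sylow 3 G)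
    (hX : X = P ∨ ∃ y ∈ (P : Subgroup G), X = y • Q) :
    X = Q ∨ ∃ y ∈ (Q : Subgroup G), X = y • P := by
  rcases hX with rfl | ⟨y, hy, rfl⟩
  · exact Or.inr ⟨1, one_mem _, (one_smul _ _).symm⟩
  · by_cases hy1 : y = 1
    · left
      rw [hy1, one_smul]
    · have hk := key hp hv hl hs h1 h17 P Q T hT
      have hk' := key hp hv hl hs h1 h17 Q P T hT.swap12
      have hQX : Adj3 Q (y • Q) := hk.1 y hy hy1
      have hPX : Adj3 P (y • Q) := (hl.nbr P Q T hT _).mpr (Or.inl ⟨y, hy, rfl⟩)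
      rcases (hl.nbr Q P T hT.swap12 _).mp hQX with ⟨q, hq, hXq⟩ | ⟨q, hq, hXq⟩
      · exact Or.inr ⟨q, hq, hXq⟩
      · exfalso
        by_cases hq1 : q = 1
        · rw [hq1] at hXq
          exact hl.disj P Q T hT y hy 1 (one_mem _) hXq
        · apply hk'.2 q hq hq1
          rw [← hXq]
          exact hPX

theorem A8 [Fintype (Sylow 3 G)] [DecidableEq (Sylow 3 G)] [DecidableRel (gr3 G).Adj]
    (hp : LocP G) (hv : Val G) (hl : Link G) {l m : ℕ} (hs : (gr3 G).IsSRGWith 55 18 l m)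
    (h1 : ¬ (gr3 G).IsSRGWith 55 18 1 8) (h17 : ¬ (gr3 G).IsSRGWith 55 18 17 0) :
    CliqueStmt G := by
  intro P Q hPQ X
  obtain ⟨T, hT⟩ := hv.triEx P Q hPQ
  exact ⟨dir hp hv hl hs h1 h17 P Q T hT X, dir hp hv hl hs h1 h17 Q P T hT.swap12 X⟩

end Cfsg.Agent.Lib.Helper84_M11U_A8
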