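import Mathlib
import Cfsg.Agent.Lib.Helper75_MI3MDefs
import Cfsg.Agent.Lib.Helper60_OrthTS_OCOUNT
import Cfsg.Agent.Lib.Helper73_MIOEven

set_option autoImplicit false
set_option linter.unusedVariables false
set_option linter.unusedSectionVars false

/-!
# S2147 `q = 3` slice (MI3M, architect helper75), package MI3M-SCNT: cardinalities in a minus setting.
-/

namespace Cfsg.Agent.Lib.Helper84_MI3M_SCNT

open Module Cfsg.Agent.Lib.Helper14_OmegaSimple Cfsg.Agent.Lib.Helper22_MI2Defs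
  Cfsg.Agent.Lib.Helper44_MI3Defs Cfsg.Agent.Lib.Helper75_MI3MDefs

universe u

theorem card_field {F V : Type*} [Field F] [AddCommGroup V] [Module F V] {k : ℕ}
    (Q : QuadraticForm F V) (hS : MinusSetting3 Q k) : Nat.card F = 3 := by
  have h01 : (0 : F) ≠ 1 := zero_ne_one
  have h0m : (0 : F) ≠ -1 := by
    intro h
    have : (1 : F) = 0 := by linear_combination h
    exact one_ne_zero this
  have h1m : (1 : F) ≠ -1 := by
    intro h
    apply hS.two_ne
    linear_combination h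
  have huniv : (Set.univ : Set F) = {0, 1, -1} := by
    ext c
    simp only [Set.mem_univ, Set.mem_insert_iff, Set.mem_singleton_iff, true_iff]
    exact hS.f3 c
  rw [← Set.ncard_univ, huniv]
  exact Set.ncard_eq_three.mpr ⟨0, 1, -1, h01, h0m, h1m, rfl⟩

theorem level_arith (n : ℕ) :
    (3 + 1) * 3 ^ n + 3 ^ 2 * ((3 ^ n - 1) * 3 ^ (n - 1)) = 3 ^ n * (3 ^ (n + 1) + 1) := by
  cases n with
  | zero => norm_num
  | succ j =>
    obtain ⟨t, ht⟩ : ∃ t, 3 ^ (j + 1) = t + 1 :=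
      ⟨3 ^ (j + 1) - 1, by have := Nat.one_le_pow (j + 1) 3 (by norm_num); omega⟩
    have e1 : j + 1 - 1 = j := by omega
    have e2 : 3 ^ (j + 1 + 1) = 3 * (t + 1) := by rw [pow_succ, ht]; ring
    have e3 : 3 * 3 ^ j = t + 1 := by rw [← ht, pow_succ]; ring
    rw [e1, e2, ht, Nat.add_sub_cancel]
    have : 3 ^ 2 * (t * 3 ^ j) = 3 * t * (3 * 3 ^ j) := by ring
    rw [this, e3]
    ring

/-- **MI3M-SCNT**. -/
theorem card_levels_minus {F V : Type u} [Field F] [AddCommGroup V] [Module F V] [Finite F]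
    [FiniteDimensional F V] (Q : QuadraticForm F V) {k : ℕ} (hS : MinusSetting3 Q k) (hk : 1 ≤ k) :
    Nat.card F = 3 ∧ Nat.card V = 3 ^ (2 * k) ∧
      Nat.card {x : V // x ≠ 0 ∧ Q x = 0} = (3 ^ k + 1) * (3 ^ (k - 1) - 1) ∧
      Nat.card {x : V // Q x = 1} = 3 ^ (k - 1) * (3 ^ k + 1) ∧
      Nat.card {x : V // Q x = -1} = 3 ^ (k - 1) * (3 ^ k + 1) := by
  classical
  have hF : Nat.card F = 3 := card_field Q hS
  let _ : Fintype F := Fintype.ofFinite F
  have hF' : Fintype.card F = 3 := by rw [← Nat.card_eq_fintype_card]; exact hF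
  have hVfin : Finite V := Module.finite_of_finite F
  have hV : Nat.card V = 3 ^ (2 * k) := by
    rw [← hF, ← hS.dim]
    exact Module.natCard_eq_pow_finrank
  have h1ne : (1 : F) ≠ 0 := one_ne_zero
  have hm1ne : (-1 : F) ≠ 0 := neg_ne_zero.mpr one_ne_zero
  obtain ⟨ζ, hζ⟩ := Cfsg.Agent.Lib.Helper40_QuadStd.exists_aniso (F := F)
  obtain ⟨φ, hφ⟩ := Cfsg.Agent.Lib.Helper43_OrthTS_OQ2.iso_minus_of_not_isHyp k hk hS.dim Q
    hS.nondeg hS.nothyp 1 ζ hζ
  have hlevel : ∀ c : F, c ≠ 0 → Nat.card {x : V // Q x = c} = 3 ^ (k - 1) * (3 ^ k + 1) := by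
    intro c hc
    have h := Cfsg.Agent.Lib.Helper73_MIOEven.card_level_qfMinus (k - 1) 1 ζ hζ c hc
    rw [hF', level_arith (k - 1)] at h
    have hk1 : k - 1 + 1 = k := by omega
    rw [hk1] at h
    rw [← h]
    refine Nat.card_congr (Equiv.subtypeEquiv φ.toEquiv ?_)
    intro v
    rw [← hφ v]
    rfl
  refine ⟨hF, hV, ?_, hlevel 1 h1ne, hlevel (-1) hm1ne⟩
  have hz := Cfsg.Agent.Lib.Helper60_OrthTS_OCOUNT.card_zeros_of_type k hk hS.dim Q hS.nondeg false
    (by simpa using hS.nothyp)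
  rw [Cfsg.Agent.Lib.Helper99_OrthTSDefs.osing_false, hF'] at hz
  have h0 : (0 : V) ∈ {x : V | Q x = 0} := by
    show Q 0 = 0
    exact QuadraticMap.map_zero Q
  have hset : {x : V | x ≠ 0 ∧ Q x = 0} = {x : V | Q x = 0} \ {0} := by
    ext x
    simp only [Set.mem_ofPred_eq, Set.mem_sdiff, Set.mem_singleton_iff]
    tauto
  have hn : {x : V | Q x = 0}.ncard = (3 ^ k + 1) * (3 ^ (k - 1) - 1) + 1 := by
    rw [← Nat.card_coe_set_eq]
    exact hz
  show Nat.card ↥{x : V | x ≠ 0 ∧ Q x = 0} = _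
  rw [Nat.card_coe_set_eq, hset, Set.ncard_sdiff_singleton_of_mem h0, hn, Nat.add_sub_cancel]

end Cfsg.Agent.Lib.Helper84_MI3M_SCNT
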