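import Mathlib
import Cfsg.Agent.Lib.Helper75_MI3MDefs
import Cfsg.Agent.Lib.Helper44_QuadClass

set_option autoImplicit false
set_option linter.unusedVariables false
set_option linter.unusedSectionVars false

/-!
# S2147 `q = 3` slice (MI3M, architect helper75), package MI3M-WSET: the complement of a hyperbolic plane in a
minus setting over `F₃` is again a minus setting.
-/

namespace Cfsg.Agent.Lib.Helper84_MI3M_WSET

open Module Cfsg.Agent.Lib.Helper14_OmegaSimple Cfsg.Agent.Lib.Helper22_MI2Defs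
  Cfsg.Agent.Lib.Helper44_MI3Defs Cfsg.Agent.Lib.Helper75_MI3MDefs

variable {F V : Type*} [Field F] [AddCommGroup V] [Module F V]

/-- a totally singular subspace of `perp2 Q v v'` extended by the singular vector `v` -/
theorem isHyp_of_isHyp_perp2 [FiniteDimensional F V] (Q : QuadraticForm F V) {v v' : V}
    (hv : Q v = 0) (hv' : Q v' = 0) (hvv' : QuadraticMap.polar (⇑Q) v v' = 1)
    (h : Cfsg.Agent.Lib.Helper40_QuadIso.IsHyp (resQ Q (perp2 Q v v'))) :
    Cfsg.Agent.Lib.Helper40_QuadIso.IsHyp Q := by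
  obtain ⟨U, hU, hdim⟩ := h
  have hW : finrank F ↥(perp2 Q v v') + 2 = finrank F V :=
    Cfsg.Agent.Lib.Helper44_QuadClass.finrank_perp hv hv' hvv'
  obtain ⟨U1, hU1⟩ : ∃ U1 : Submodule F V, U1 = U.map (perp2 Q v v').subtype := ⟨_, rfl⟩
  have hU1dim : finrank F ↥U1 = finrank F ↥U := by
    rw [hU1]
    exact (Submodule.equivMapOfInjective _ (Submodule.subtype_injective _) U).finrank_eq.symm
  have hU1W : U1 ≤ perp2 Q v v' := by
    rw [hU1]; rintro _ ⟨u, -, rfl⟩; exact u.2
  have hU1sing : ∀ u ∈ U1, Q u = 0 := by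
    rw [hU1]; rintro _ ⟨u, hu, rfl⟩; exact hU u hu
  have hvW : v ∉ perp2 Q v v' := by
    intro hmem
    have := ((Cfsg.Agent.Lib.Helper44_QuadClass.mem_perp Q v v').mp hmem).2
    rw [QuadraticMap.polar_comm, hvv'] at this
    exact one_ne_zero this
  have hv0 : v ≠ 0 := by
    rintro rfl
    exact hvW (Submodule.zero_mem _)
  have hdisj : Disjoint U1 (Submodule.span F {v}) := by
    rw [Submodule.disjoint_def]
    intro x hx1 hx2
    obtain ⟨a, rfl⟩ := Submodule.mem_span_singleton.mp hx2
    by_cases ha : a = 0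
    · rw [ha, zero_smul]
    · exfalso
      apply hvW
      have := (perp2 Q v v').smul_mem a⁻¹ (hU1W hx1)
      rwa [smul_smul, inv_mul_cancel₀ ha, one_smul] at this
  refine ⟨U1 ⊔ Submodule.span F {v}, ?_, ?_⟩
  · intro x hx
    obtain ⟨u, hu, y, hy, rfl⟩ := Submodule.mem_sup.mp hx
    obtain ⟨a, rfl⟩ := Submodule.mem_span_singleton.mp hy
    have hpol : QuadraticMap.polar (⇑Q) u (a • v) = 0 := by
      rw [QuadraticMap.polar_smul_right, QuadraticMap.polar_comm,
        ((Cfsg.Agent.Lib.Helper44_QuadClass.mem_perp Q v v').mp (hU1W hu)).1, smul_zero]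
    have hadd : Q (u + a • v) = Q u + Q (a • v) + QuadraticMap.polar (⇑Q) u (a • v) := by
      unfold QuadraticMap.polar; ring
    rw [hadd, hpol, hU1sing u hu, QuadraticMap.map_smul, hv]
    simp
  · have hsum := Submodule.finrank_sup_add_finrank_inf_eq U1 (Submodule.span F {v})
    rw [disjoint_iff.mp hdisj, finrank_bot, finrank_span_singleton hv0] at hsum
    omega

/-- **MI3M-WSET**. -/
theorem minusSetting_perp2 [Finite F] [FiniteDimensional F V] (Q : QuadraticForm F V) {k : ℕ}
    (hS : MinusSetting3 Q (k + 1)) {v v' : V} (hv : Q v = 0) (hv' : Q v' = 0)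
    (hvv' : QuadraticMap.polar (⇑Q) v v' = 1) :
    IsCompl (perp2 Q v v')
        (LinearMap.BilinForm.orthogonal (QuadraticMap.polarBilin Q) (perp2 Q v v')) ∧
      MinusSetting3 (resQ Q (perp2 Q v v')) k := by
  have hnd := Cfsg.Agent.Lib.Helper44_QuadClass.nondegenerate_perp hS.nondeg hv hv' hvv'
  have hdim : finrank F ↥(perp2 Q v v') = 2 * k := by
    have h := Cfsg.Agent.Lib.Helper44_QuadClass.finrank_perp hv hv' hvv'
    have h2 := hS.dim
    show finrank F ↥(Cfsg.Agent.Lib.Helper44_QuadClass.perp Q v v') = 2 * k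
    omega
  constructor
  · apply LinearMap.BilinForm.isCompl_orthogonal_of_restrict_nondegenerate
    · intro x y hxy
      rw [QuadraticMap.polarBilin_apply_apply] at hxy ⊢
      rw [QuadraticMap.polar_comm]; exact hxy
    · have heq : LinearMap.BilinForm.restrict (QuadraticMap.polarBilin Q) (perp2 Q v v')
          = QuadraticMap.polarBilin (Q.comp (perp2 Q v v').subtype) := by
        ext x y
        simp [Cfsg.Agent.Lib.Helper44_QuadClass.polar_comp_subtype]
      rw [heq]
      exact hnd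
  · exact ⟨hS.f3, hS.two_ne, hnd, hdim,
      fun h => hS.nothyp (isHyp_of_isHyp_perp2 Q hv hv' hvv' h)⟩

end Cfsg.Agent.Lib.Helper84_MI3M_WSET
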