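import Mathlib
import Cfsg.Agent.Lib.Helper44_MI3Defs
import Cfsg.Agent.Lib.Helper14_POmegaSimple

/-!
# MI3-BRSET (S2144, architect helper44): the standard form `qfOdd m F` over the field with three
elements is an odd setting (given the counts of MI3-BRCNT).
-/

set_option autoImplicit false

namespace Cfsg.Agent.Lib.Helper84_MI3_BRSET

open Module Cfsg.Agent.Lib.Helper14_OmegaSimple Cfsg.Agent.Lib.Helper22_MI2Defs
  Cfsg.Agent.Lib.Helper44_MI3Defs Cfsg.Agent.Lib.Helper44_StdForms

variable {F : Type*} [Field F] [Fintype F]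

theorem three_eq_zero (hF : Fintype.card F = 3) : (3 : F) = 0 := by
  have h := card_nsmul_eq_zero (G := F) (x := (1 : F))
  rw [hF, nsmul_one] at h
  exact_mod_cast h

theorem two_ne_zero' (hF : Fintype.card F = 3) : (2 : F) ≠ 0 := by
  intro h2
  have h3 := three_eq_zero hF
  have : (1 : F) = 0 := by linear_combination h3 - h2
  exact one_ne_zero this

theorem f3_cases (hF : Fintype.card F = 3) (c : F) : c = 0 ∨ c = 1 ∨ c = -1 := by
  classical
  by_contra hcon
  push Not at hcon
  obtain ⟨h0, h1, hm1⟩ := hcon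
  have h2 := two_ne_zero' hF
  have h1m : (1 : F) ≠ -1 := by
    intro h
    apply h2
    linear_combination h
  have h4 : ({0, 1, -1, c} : Finset F).card = 4 := by
    rw [Finset.card_insert_of_notMem, Finset.card_insert_of_notMem, Finset.card_insert_of_notMem,
      Finset.card_singleton]
    · simp only [Finset.mem_singleton]
      exact fun h => hm1 h.symm
    · simp only [Finset.mem_insert, Finset.mem_singleton, not_or]
      exact ⟨h1m, fun h => h1 h.symm⟩
    · simp only [Finset.mem_insert, Finset.mem_singleton, not_or]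
      refine ⟨zero_ne_one, ?_, fun h => h0 h.symm⟩
      intro h
      have : (1 : F) = 0 := by linear_combination h
      exact one_ne_zero this
  have := Finset.card_le_univ ({0, 1, -1, c} : Finset F)
  omega

theorem oddSetting_qfOdd (hF : Fintype.card F = 3) (m : ℕ)
    (hcnt : Nat.card {x : Unit ⊕ (Fin m ⊕ Fin m) → F // Cfsg.quadFormOdd m F x = 0} = 3 ^ (2 * m) ∧
      Nat.card {x : Unit ⊕ (Fin m ⊕ Fin m) → F // Cfsg.quadFormOdd m F x = -1} =
        3 ^ m * (3 ^ m - 1)) :
    OddSetting (qfOdd m F) m where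
  f3 := f3_cases hF
  two_ne := two_ne_zero' hF
  nondeg := Cfsg.Agent.Lib.Helper14_POmegaSimple.nondegenerate_qfOdd (two_ne_zero' hF) m
  dim := by
    rw [Module.finrank_fintype_fun_eq_card, Fintype.card_sum, Fintype.card_sum, Fintype.card_fin,
      Fintype.card_unit]
    omega
  nsing := by
    rw [← hcnt.1, coe_qfOdd]
  nminus := by
    rw [← hcnt.2, coe_qfOdd]

end Cfsg.Agent.Lib.Helper84_MI3_BRSET
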