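import Mathlib
import Cfsg.Agent.Lib.Helper44_MI3Defs
import Cfsg.Agent.Lib.Helper54_MI2_HYPORB

/-!
# MI3-HYPORB (S2144, architect helper44): orbits of points and of hyperplanes under `T Q` have at least
`Nmin3 k` members (odd setting over the field with three elements).
-/

set_option autoImplicit false
set_option linter.unusedSectionVars false
set_option linter.style.haveILetI false

namespace Cfsg.Agent.Lib.Helper84_MI3_HYPORB

open Module Cfsg.Agent.Lib.Helper14_OmegaSimple Cfsg.Agent.Lib.Helper22_MI2Defs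
  Cfsg.Agent.Lib.Helper44_MI3Defs

variable {F V : Type*} [Field F] [AddCommGroup V] [Module F V]

/-- `2 * Nmin3 k = 3^k (3^k - 1)`. -/
theorem two_mul_Nmin3 (k : ℕ) : 2 * Nmin3 k = 3 ^ k * (3 ^ k - 1) := by
  unfold Nmin3
  have hodd : Odd (3 ^ k) := Odd.pow (by decide)
  have hev : 2 ∣ 3 ^ k * (3 ^ k - 1) := by
    obtain ⟨j, hj⟩ := hodd
    rw [hj]
    exact Dvd.dvd.mul_left ⟨j, by omega⟩ _
  exact Nat.mul_div_cancel' hev

section finite

variable [Finite F] [FiniteDimensional F V]

/-- `Nat.card F = 3` in an odd setting. -/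
theorem card_F (Q : QuadraticForm F V) {k : ℕ} (hS : OddSetting Q k) : Nat.card F = 3 := by
  classical
  have := Fintype.ofFinite F
  rw [Nat.card_eq_fintype_card]
  have h2 := hS.two_ne
  have h1m : (1 : F) ≠ -1 := by
    intro h
    apply h2
    linear_combination h
  have h0m : (0 : F) ≠ -1 := by
    intro h
    have : (1 : F) = 0 := by linear_combination h
    exact one_ne_zero this
  have huniv : (Finset.univ : Finset F) = {0, 1, -1} := by
    ext c
    simp only [Finset.mem_univ, Finset.mem_insert, Finset.mem_singleton, true_iff]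
    exact hS.f3 c
  rw [← Finset.card_univ, huniv, Finset.card_insert_of_notMem, Finset.card_insert_of_notMem,
    Finset.card_singleton]
  · simp only [Finset.mem_singleton]
    exact h1m
  · simp only [Finset.mem_insert, Finset.mem_singleton, not_or]
    exact ⟨zero_ne_one, h0m⟩

/-- `Nat.card V = 3^(2k+1)` in an odd setting. -/
theorem card_V (Q : QuadraticForm F V) {k : ℕ} (hS : OddSetting Q k) :
    Nat.card V = 3 ^ (2 * k + 1) := by
  rw [Module.natCard_eq_pow_finrank (K := F) (V := V), card_F Q hS, hS.dim]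

/-- the three level sets -/
theorem card_level (Q : QuadraticForm F V) {k : ℕ} (hS : OddSetting Q k) (c : F) :
    3 ^ k * (3 ^ k - 1) ≤ {y : V | y ≠ 0 ∧ Q y = c}.ncard := by
  classical
  haveI : Finite V := Module.finite_of_finite F
  have hpos : 1 ≤ 3 ^ k := Nat.one_le_pow _ _ (by norm_num)
  have hsq : 3 ^ (2 * k) = 3 ^ k * 3 ^ k := by rw [two_mul, pow_add]
  have h0c : Nat.card {x : V // Q x = 0} = {y : V | Q y = 0}.ncard :=
    Nat.card_coe_set_eq {x : V | Q x = 0}
  have hmc : Nat.card {x : V // Q x = -1} = {y : V | Q y = -1}.ncard :=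
    Nat.card_coe_set_eq {x : V | Q x = -1}
  rcases hS.f3 c with rfl | rfl | rfl
  · -- singular
    have hset : {y : V | y ≠ 0 ∧ Q y = 0} = {y : V | Q y = 0} \ {0} := by
      ext y
      simp only [Set.mem_ofPred_eq, Set.mem_sdiff, Set.mem_singleton_iff]
      tauto
    rw [hset, Set.ncard_sdiff_singleton_of_mem (show (0 : V) ∈ {y : V | Q y = 0} from map_zero Q),
      ← h0c, hS.nsing, hsq]
    have : 3 ^ k * (3 ^ k - 1) = 3 ^ k * 3 ^ k - 3 ^ k := by
      rw [Nat.mul_sub, mul_one]
    rw [this]
    omega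
  · -- plus
    have hset : {y : V | y ≠ 0 ∧ Q y = 1} = {y : V | Q y = 1} := by
      ext y
      simp only [Set.mem_ofPred_eq]
      constructor
      · exact fun h => h.2
      · intro h
        refine ⟨?_, h⟩
        rintro rfl
        rw [map_zero] at h
        exact zero_ne_one h
    rw [hset]
    -- the three level sets partition `V`
    have hcover : (Set.univ : Set V) = {y : V | Q y = 0} ∪ ({y : V | Q y = 1} ∪ {y : V | Q y = -1}) := by
      ext y
      simp only [Set.mem_univ, Set.mem_union, Set.mem_ofPred_eq, true_iff]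
      exact hS.f3 (Q y)
    have hle : (Set.univ : Set V).ncard ≤
        {y : V | Q y = 0}.ncard + ({y : V | Q y = 1}.ncard + {y : V | Q y = -1}.ncard) := by
      rw [hcover]
      exact le_trans (Set.ncard_union_le _ _) (Nat.add_le_add_left (Set.ncard_union_le _ _) _)
    rw [Set.ncard_univ, card_V Q hS, ← h0c, ← hmc, hS.nsing, hS.nminus, pow_succ, hsq] at hle
    have : 3 ^ k * (3 ^ k - 1) = 3 ^ k * 3 ^ k - 3 ^ k := by
      rw [Nat.mul_sub, mul_one]
    rw [this] at hle ⊢
    have hge : 3 ^ k ≤ 3 ^ k * 3 ^ k := Nat.le_mul_of_pos_left _ (by omega)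
    omega
  · -- minus
    have hset : {y : V | y ≠ 0 ∧ Q y = -1} = {y : V | Q y = -1} := by
      ext y
      simp only [Set.mem_ofPred_eq]
      constructor
      · exact fun h => h.2
      · intro h
        refine ⟨?_, h⟩
        rintro rfl
        rw [map_zero] at h
        have : (1 : F) = 0 := by linear_combination h
        exact one_ne_zero this
    rw [hset, ← hmc, hS.nminus]

/-- the orbit of a point -/
theorem point_orbit3 (Q : QuadraticForm F V) {k : ℕ} (hS : OddSetting Q k) (hk : 2 ≤ k)
    (htr : ∀ x y : V, Q x ≠ 0 → Q x = Q y → ∃ g ∈ T Q, g x = y)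
    (S : Submodule F V) (hS1 : finrank F S = 1) : Nmin3 k ≤ (subOrbit Q S).ncard := by
  classical
  haveI : Finite V := Module.finite_of_finite F
  have hdim : 5 ≤ finrank F V := by rw [hS.dim]; omega
  -- a generator
  obtain ⟨v, hv0, hv⟩ := finrank_eq_one_iff'.1 hS1
  obtain ⟨lam, hlam⟩ : ∃ lam : V, lam = (v : V) := ⟨_, rfl⟩
  have hlam0 : lam ≠ 0 := by
    rw [hlam]
    intro h
    exact hv0 (Subtype.ext h)
  have hSspan : S = Submodule.span F {lam} := by
    apply le_antisymm
    · intro w hw
      obtain ⟨c, hc⟩ := hv ⟨w, hw⟩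
      rw [Submodule.mem_span_singleton]
      refine ⟨c, ?_⟩
      rw [hlam]
      exact congrArg Subtype.val hc
    · rw [Submodule.span_singleton_le_iff_mem, hlam]
      exact v.2
  -- the orbit of `lam` up to scalars
  have horb : ∀ y : V, y ≠ 0 → Q y = Q lam → ∃ g ∈ T Q, ∃ c : F, c ≠ 0 ∧ g lam = c • y := by
    intro y hy hQy
    by_cases hQl : Q lam = 0
    · exact exists_mem_T_map Q hS.nondeg hdim hlam0 hQl hy (by rw [hQy, hQl])
    · obtain ⟨g, hg, hgl⟩ := htr lam y hQl hQy.symm
      exact ⟨g, hg, 1, one_ne_zero, by rw [one_smul]; exact hgl⟩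
  have hmaps : ∀ y ∈ {y : V | y ≠ 0 ∧ Q y = Q lam}, Submodule.span F {y} ∈ subOrbit Q S := by
    rintro y ⟨hy, hQy⟩
    obtain ⟨g, hg, c, hc, hgl⟩ := horb y hy hQy
    refine ⟨g, hg, ?_⟩
    rw [hSspan, Submodule.map_span, Set.image_singleton]
    show Submodule.span F {y} = Submodule.span F {g lam}
    rw [hgl, Submodule.span_singleton_smul_eq (IsUnit.mk0 c hc)]
  -- the map is at most two-to-one
  obtain ⟨L, hL⟩ : ∃ L : Finset V, L = (Set.toFinite {y : V | y ≠ 0 ∧ Q y = Q lam}).toFinset :=
    ⟨_, rfl⟩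
  have hLmem : ∀ y, y ∈ L ↔ y ≠ 0 ∧ Q y = Q lam := by
    intro y
    rw [hL, Set.Finite.mem_toFinset]
    rfl
  obtain ⟨O, hO⟩ : ∃ O : Finset (Submodule F V), O = (Set.toFinite (subOrbit Q S)).toFinset :=
    ⟨_, rfl⟩
  have himg : L.image (fun y : V => Submodule.span F {y}) ⊆ O := by
    intro W hW
    obtain ⟨y, hy, rfl⟩ := Finset.mem_image.mp hW
    rw [hO, Set.Finite.mem_toFinset]
    exact hmaps y ((hLmem y).mp hy)
  have hfib : ∀ W ∈ L.image (fun y : V => Submodule.span F {y}),
      (L.filter (fun y => Submodule.span F {y} = W)).card ≤ 2 := by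
    intro W hW
    obtain ⟨y0, hy0, rfl⟩ := Finset.mem_image.mp hW
    have hsub : L.filter (fun y => Submodule.span F {y} = Submodule.span F {y0}) ⊆ {y0, -y0} := by
      intro y hy
      rw [Finset.mem_filter] at hy
      have hmem : y ∈ Submodule.span F {y0} := by
        rw [← hy.2]
        exact Submodule.mem_span_singleton_self y
      obtain ⟨c, hc⟩ := Submodule.mem_span_singleton.1 hmem
      rw [Finset.mem_insert, Finset.mem_singleton]
      rcases hS.f3 c with rfl | rfl | rfl
      · rw [zero_smul] at hc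
        exact absurd hc.symm ((hLmem y).mp hy.1).1
      · left
        rw [one_smul] at hc
        exact hc.symm
      · right
        rw [neg_smul, one_smul] at hc
        exact hc.symm
    exact le_trans (Finset.card_le_card hsub) Finset.card_le_two
  have hcard := Finset.card_le_mul_card_image (f := fun y : V => Submodule.span F {y}) L 2 hfib
  have hLcard : L.card = {y : V | y ≠ 0 ∧ Q y = Q lam}.ncard := by
    rw [hL, Set.ncard_eq_toFinset_card _ (Set.toFinite _)]
  have hOcard : O.card = (subOrbit Q S).ncard := by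
    rw [hO, Set.ncard_eq_toFinset_card _ (Set.toFinite _)]
  have h1 := card_level Q hS (Q lam)
  have h2 := Finset.card_le_card himg
  have h3 := two_mul_Nmin3 k
  rw [← hLcard] at h1
  rw [← hOcard]
  omega

theorem point_hyperplane_orbit3 (Q : QuadraticForm F V) {k : ℕ}
    (hS : OddSetting Q k) (hk : 2 ≤ k)
    (htr : ∀ x y : V, Q x ≠ 0 → Q x = Q y → ∃ g ∈ T Q, g x = y) (S : Submodule F V)
    (hS1 : finrank F S = 1 ∨ finrank F S = 2 * k) :
    Nmin3 k ≤ (subOrbit Q S).ncard := by
  haveI : Finite V := Module.finite_of_finite F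
  rcases hS1 with h1 | h1
  · exact point_orbit3 Q hS hk htr S h1
  · have hrefl : (QuadraticMap.polarBilin Q).IsRefl := by
      intro x y h
      rw [QuadraticMap.polarBilin_apply_apply] at h ⊢
      rw [QuadraticMap.polar_comm]
      exact h
    have hfr : finrank F (LinearMap.BilinForm.orthogonal (QuadraticMap.polarBilin Q) S) = 1 := by
      rw [LinearMap.BilinForm.finrank_orthogonal hS.nondeg, hS.dim]
      omega
    have hpt := point_orbit3 Q hS hk htr _ hfr
    refine le_trans hpt ?_
    have hoo : ∀ W : Submodule F V,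
        LinearMap.BilinForm.orthogonal (QuadraticMap.polarBilin Q)
          (LinearMap.BilinForm.orthogonal (QuadraticMap.polarBilin Q) W) = W :=
      LinearMap.BilinForm.orthogonal_orthogonal hS.nondeg hrefl
    refine Set.ncard_le_ncard_of_injOn
      (fun D => LinearMap.BilinForm.orthogonal (QuadraticMap.polarBilin Q) D) ?_ ?_
      (Set.toFinite _)
    · rintro D ⟨g, hg, rfl⟩
      refine ⟨g, hg, ?_⟩
      show LinearMap.BilinForm.orthogonal (QuadraticMap.polarBilin Q) _ = _
      rw [Cfsg.Agent.Lib.Helper54_MI2_HYPORB.orthogonal_map Q hg, hoo]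
    · intro D _ D' _ h
      have := congrArg (fun W => LinearMap.BilinForm.orthogonal (QuadraticMap.polarBilin Q) W) h
      simpa only [hoo] using this

end finite

end Cfsg.Agent.Lib.Helper84_MI3_HYPORB
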