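import Mathlib
import Cfsg.Agent.Lib.Helper66_MI_SpDefs
import Cfsg.Agent.Lib.Helper93_MISp_COPOLAR
import Cfsg.Agent.Lib.Helper71_MISp_C1
import Cfsg.Agent.Lib.Helper42_MISp_C2

/-!
# S2141 / MISp-CASEI (architect helper66): assembly of Case I (`H` contains a root group).

`caseI_of` takes the statements of COPOLAR, C1 and C2 (specialised to `B`) as explicit hypotheses.
-/

set_option autoImplicit false
set_option linter.unusedSectionVars false
set_option linter.unusedVariables false

namespace Cfsg.Agent.Lib.Helper84_MISp_CASEI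

open Module Cfsg.Agent.Lib.Helper94_Symp Cfsg.Agent.Lib.Helper94_SympTI
  Cfsg.Agent.Lib.Helper94_SympPerfect Cfsg.Agent.Lib.Helper66_MI_SpDefs

variable {F V : Type*} [Field F] [AddCommGroup V] [Module F V]
variable (B : LinearMap.BilinForm F V) (hB : B.IsAlt)

/-- adjacency on `TV B hB H` -/
def Adj (H : Subgroup (V ≃ₗ[F] V)) (x y : V) : Prop :=
  x ∈ TV B hB H ∧ y ∈ TV B hB H ∧ B x y ≠ 0

/-- the component of `u` -/
def Comp (H : Subgroup (V ≃ₗ[F] V)) (u : V) : Set V :=
  {x | Relation.ReflTransGen (Adj B hB H) u x}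

variable {B hB} {H : Subgroup (V ≃ₗ[F] V)}

theorem adj_symm {x y : V} (h : Adj B hB H x y) : Adj B hB H y x :=
  ⟨h.2.1, h.1, alt_ne_zero_comm B hB h.2.2⟩

theorem rtg_symm {x y : V} (h : Relation.ReflTransGen (Adj B hB H) x y) :
    Relation.ReflTransGen (Adj B hB H) y x := by
  induction h with
  | refl => exact Relation.ReflTransGen.refl
  | tail _ hbc ih => exact Relation.ReflTransGen.head (adj_symm hbc) ih

theorem adj_map {g : V ≃ₗ[F] V} (hgH : g ∈ H) (hg : g ∈ isoGroup B) {x y : V}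
    (h : Adj B hB H x y) : Adj B hB H (g x) (g y) := by
  refine ⟨TV_map hgH hg h.1, TV_map hgH hg h.2.1, ?_⟩
  rw [hg x y]
  exact h.2.2

theorem rtg_map {g : V ≃ₗ[F] V} (hgH : g ∈ H) (hg : g ∈ isoGroup B) {x y : V}
    (h : Relation.ReflTransGen (Adj B hB H) x y) :
    Relation.ReflTransGen (Adj B hB H) (g x) (g y) := by
  induction h with
  | refl => exact Relation.ReflTransGen.refl
  | tail _ hbc ih => exact Relation.ReflTransGen.tail ih (adj_map hgH hg hbc)

theorem comp_subset {u : V} (hu : u ∈ TV B hB H) (hu0 : u ≠ 0) {x : V} (hx : x ∈ Comp B hB H u) :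
    x ∈ TV B hB H ∧ x ≠ 0 := by
  rcases Relation.ReflTransGen.cases_tail hx with h | ⟨c, -, hc⟩
  · rw [h]
    exact ⟨hu, hu0⟩
  · refine ⟨hc.2.1, ?_⟩
    rintro rfl
    exact hc.2.2 (by simp)

/-- the span of the component of `u` -/
abbrev U1 (B : LinearMap.BilinForm F V) (hB : B.IsAlt) (H : Subgroup (V ≃ₗ[F] V)) (u : V) :
    Submodule F V := Submodule.span F (Comp B hB H u)

theorem self_mem_comp (u : V) : u ∈ Comp B hB H u := Relation.ReflTransGen.refl

theorem dichotomy [FiniteDimensional F V] (hH : H ≤ isoGroup B) {u : V} (hu : u ∈ TV B hB H)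
    (hu0 : u ≠ 0) {g : V ≃ₗ[F] V} (hg : g ∈ H) :
    (U1 B hB H u).map (g : V →ₗ[F] V) = U1 B hB H u ∨
      (U1 B hB H u).map (g : V →ₗ[F] V) ≤ B.orthogonal (U1 B hB H u) := by
  by_cases hex : ∃ x ∈ Comp B hB H u, ∃ y ∈ Comp B hB H u, B x (g y) ≠ 0
  · left
    obtain ⟨x, hx, y, hy, hxy⟩ := hex
    have hgy : Relation.ReflTransGen (Adj B hB H) u (g y) :=
      Relation.ReflTransGen.tail hx
        ⟨(comp_subset hu hu0 hx).1, TV_map hg (hH hg) (comp_subset hu hu0 hy).1, hxy⟩
    have hgu : Relation.ReflTransGen (Adj B hB H) u (g u) :=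
      hgy.trans (rtg_map hg (hH hg) (rtg_symm hy))
    have hsub : ∀ z ∈ Comp B hB H u, g z ∈ Comp B hB H u := by
      intro z hz
      exact hgu.trans (rtg_map hg (hH hg) hz)
    have hle : (U1 B hB H u).map (g : V →ₗ[F] V) ≤ U1 B hB H u := by
      rw [Submodule.map_span]
      apply Submodule.span_mono
      rintro _ ⟨z, hz, rfl⟩
      exact hsub z hz
    exact Submodule.eq_of_le_of_finrank_eq hle (LinearEquiv.finrank_map_eq g _)
  · right
    push Not at hex
    rw [Submodule.map_span]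
    apply Submodule.span_le.mpr
    rintro _ ⟨y, hy, rfl⟩
    show g y ∈ B.orthogonal (U1 B hB H u)
    rw [LinearMap.BilinForm.mem_orthogonal_iff]
    intro n hn
    show B n (g y) = 0
    induction hn using Submodule.span_induction with
    | mem x hx => exact hex x hx y hy
    | zero => simp
    | add a b _ _ ha hb => rw [map_add, LinearMap.add_apply, ha, hb, add_zero]
    | smul c a _ ha => rw [map_smul, LinearMap.smul_apply, ha, smul_zero]

/-- adjacency restricted to a set -/
def AdjS (B : LinearMap.BilinForm F V) (T : Set V) (a b : V) : Prop := a ∈ T ∧ b ∈ T ∧ B a b ≠ 0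

include hB in
theorem rtgS_symm {T : Set V} {x y : V} (h : Relation.ReflTransGen (AdjS B T) x y) :
    Relation.ReflTransGen (AdjS B T) y x := by
  induction h with
  | refl => exact Relation.ReflTransGen.refl
  | tail _ hbc ih =>
    exact Relation.ReflTransGen.head ⟨hbc.2.1, hbc.1, alt_ne_zero_comm B hB hbc.2.2⟩ ih

theorem rtgS_of_comp {u z : V} (hz : z ∈ Comp B hB H u) :
    Relation.ReflTransGen (AdjS B (insert 0 (Comp B hB H u))) u z := by
  have hz' : Relation.ReflTransGen (Adj B hB H) u z := hz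
  induction hz' with
  | refl => exact Relation.ReflTransGen.refl
  | tail hab hbc ih =>
    refine Relation.ReflTransGen.tail (ih hab) ⟨?_, ?_, hbc.2.2⟩
    · exact Set.mem_insert_of_mem _ hab
    · exact Set.mem_insert_of_mem _ (Relation.ReflTransGen.tail hab hbc)

theorem caseC [FiniteDimensional F V] (hN : B.Nondegenerate) (hH : H ≤ isoGroup B)
    (hcop : ∀ T : Set V, (0 : V) ∈ T → (∀ (a : F) (x : V), x ∈ T → a • x ∈ T) →
      (∀ x y : V, x ∈ T → y ∈ T → B x y ≠ 0 → x + y ∈ T) →
      (∀ x y : V, x ∈ T → y ∈ T → x ≠ 0 → y ≠ 0 →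
        Relation.ReflTransGen (fun a b : V => a ∈ T ∧ b ∈ T ∧ B a b ≠ 0) x y) →
      Submodule.span F T = ⊤ → T = Set.univ)
    {u : V} (hu : u ∈ TV B hB H) (hu0 : u ≠ 0) (htop : U1 B hB H u = ⊤) : isoGroup B ≤ H := by
  -- a neighbour of `u`
  obtain ⟨w, hw, hwu⟩ : ∃ w ∈ Comp B hB H u, B u w ≠ 0 := by
    by_contra hcon
    push Not at hcon
    apply hu0
    apply hN.1 u
    intro y
    have hy : y ∈ U1 B hB H u := by rw [htop]; trivial
    induction hy using Submodule.span_induction with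
    | mem x hx => exact hcon x hx
    | zero => simp
    | add a b _ _ ha hb => rw [map_add, ha, hb, add_zero]
    | smul c a _ ha => rw [map_smul, ha, smul_zero]
  have hmemC : ∀ {x : V}, x ∈ insert (0 : V) (Comp B hB H u) → x ≠ 0 → x ∈ Comp B hB H u := by
    intro x hx hx0
    rcases hx with h | h
    · exact absurd h hx0
    · exact h
  have hall := hcop (insert 0 (Comp B hB H u)) (Set.mem_insert _ _) ?_ ?_ ?_ ?_
  · apply isoGroup_le_of_stv_mem B hB hN
    intro v c
    have hv : v ∈ insert (0 : V) (Comp B hB H u) := by rw [hall]; trivial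
    rcases hv with h | h
    · rw [h, stv_zero]
      exact H.one_mem
    · exact (comp_subset hu hu0 h).1 c
  · -- scalars
    intro a x hx
    by_cases ha : a = 0
    · rw [ha, zero_smul]
      exact Set.mem_insert _ _
    by_cases hx0 : x = 0
    · rw [hx0, smul_zero]
      exact Set.mem_insert _ _
    have hxC := hmemC hx hx0
    apply Set.mem_insert_of_mem
    have hxT := (comp_subset hu hu0 hxC).1
    rcases Relation.ReflTransGen.cases_tail hxC with h | ⟨c, hc, hcx⟩
    · -- `x = u`
      rw [h]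
      have h1 : Adj B hB H u w := ⟨hu, (comp_subset hu hu0 hw).1, hwu⟩
      have h2 : Adj B hB H w (a • u) := by
        refine ⟨(comp_subset hu hu0 hw).1, TV_smul a hu, ?_⟩
        rw [map_smul, smul_eq_mul]
        exact mul_ne_zero ha (alt_ne_zero_comm B hB hwu)
      exact (Relation.ReflTransGen.single h1).tail h2
    · have h2 : Adj B hB H c (a • x) := by
        refine ⟨hcx.1, TV_smul a hxT, ?_⟩
        rw [map_smul, smul_eq_mul]
        exact mul_ne_zero ha hcx.2.2
      exact Relation.ReflTransGen.tail hc h2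
  · -- sums
    intro x y hx hy hxy
    have hx0 : x ≠ 0 := by
      rintro rfl
      exact hxy (by simp)
    have hy0 : y ≠ 0 := by
      rintro rfl
      exact hxy (by simp)
    have hxC := hmemC hx hx0
    have hyC := hmemC hy hy0
    apply Set.mem_insert_of_mem
    have hxT := (comp_subset hu hu0 hxC).1
    have hyT := (comp_subset hu hu0 hyC).1
    have hsum : x + y ∈ TV B hB H := TV_add hyT hxT hxy
    have h2 : Adj B hB H x (x + y) := by
      refine ⟨hxT, hsum, ?_⟩
      rw [map_add, hB x, zero_add]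
      exact hxy
    exact Relation.ReflTransGen.tail hxC h2
  · -- connectedness
    intro x y hx hy hx0 hy0
    have hxC := hmemC hx hx0
    have hyC := hmemC hy hy0
    exact (rtgS_symm (hB := hB) (rtgS_of_comp hxC)).trans (rtgS_of_comp hyC)
  · -- span
    rw [Submodule.span_insert_zero]
    exact htop

theorem mem_stab_of_map_eq {U : Submodule F V} {g : V ≃ₗ[F] V}
    (h : U.map (g : V →ₗ[F] V) = U) : g ∈ stab U := by
  intro v
  constructor
  · intro hv
    rw [← h]
    exact ⟨v, hv, rfl⟩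
  · intro hv
    rw [← h] at hv
    obtain ⟨w, hw, hwv⟩ := hv
    have : w = v := g.injective hwv
    rw [← this]
    exact hw

theorem relIndex_le_of_le [Finite (V ≃ₗ[F] V)] {H K G : Subgroup (V ≃ₗ[F] V)} (h : H ≤ K) :
    K.relIndex G ≤ H.relIndex G := by
  apply Nat.le_of_dvd
  · apply Nat.pos_of_ne_zero
    unfold Subgroup.relIndex
    exact Subgroup.index_ne_zero_of_finite
  · exact Subgroup.relIndex_dvd_of_le_left G h

/-- a totally isotropic subspace has dimension at most half -/
theorem finrank_le_of_isotropic [FiniteDimensional F V] (hN : B.Nondegenerate) {X : Submodule F V}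
    (hX : X ≤ B.orthogonal X) : 2 * finrank F X ≤ finrank F V := by
  have h1 := Submodule.finrank_mono hX
  rw [LinearMap.BilinForm.finrank_orthogonal hN] at h1
  have h2 := Submodule.finrank_le X
  omega

theorem caseI_of [Finite F] [FiniteDimensional F V] {m q : ℕ} (S : Setting B m q)
    (hq : 3 ≤ q) (hm : 2 ≤ m) {H : Subgroup (V ≃ₗ[F] V)} (hH : H ≤ isoGroup B)
    (hne : H ≠ isoGroup B) {u : V} (hu : u ≠ 0) (hX : Xv B S.alt u ≤ H)
    (hcop : ∀ T : Set V, (0 : V) ∈ T → (∀ (a : F) (x : V), x ∈ T → a • x ∈ T) →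
      (∀ x y : V, x ∈ T → y ∈ T → B x y ≠ 0 → x + y ∈ T) →
      (∀ x y : V, x ∈ T → y ∈ T → x ≠ 0 → y ≠ 0 →
        Relation.ReflTransGen (fun a b : V => a ∈ T ∧ b ∈ T ∧ B a b ≠ 0) x y) →
      Submodule.span F T = ⊤ → T = Set.univ)
    (hC1 : ∀ U : Submodule F V, U ≠ ⊥ → U ≠ ⊤ →
      Npts m q ≤ (stab U ⊓ isoGroup B).relIndex (isoGroup B))
    (hC2 : ∀ U : Submodule F V, U ≠ ⊥ → NondegOn B U → 2 * finrank F U ≤ finrank F V →
      m * Npts m q ≤ (stab U ⊓ isoGroup B).relIndex (isoGroup B)) :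
    Npts m q ≤ H.relIndex (isoGroup B) := by
  classical
  have hVfin : Finite V := Module.finite_of_finite F
  have hGfin : Finite (V ≃ₗ[F] V) :=
    Finite.of_injective (fun g : V ≃ₗ[F] V => (g : V → V)) DFunLike.coe_injective
  obtain ⟨hB, hBdef⟩ : ∃ hB : B.IsAlt, hB = S.alt := ⟨_, rfl⟩
  rw [← hBdef] at hX
  have hN := S.nondeg
  have huT : u ∈ TV B hB H := fun c => hX (stv_mem_Xv B hB u c)
  obtain ⟨W1, hW1⟩ : ∃ W1 : Submodule F V, W1 = U1 B hB H u := ⟨_, rfl⟩
  have huW1 : u ∈ W1 := by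
    rw [hW1]
    exact Submodule.subset_span (self_mem_comp u)
  have hW1bot : W1 ≠ ⊥ := by
    intro h
    rw [h, Submodule.mem_bot] at huW1
    exact hu huW1
  by_cases htop : W1 = ⊤
  · exfalso
    apply hne
    exact le_antisymm hH (caseC hN hH hcop huT hu (by rw [← hW1]; exact htop))
  -- the sum of the images
  obtain ⟨W', hW'⟩ : ∃ W' : Submodule F V,
      W' = ⨆ h : H, W1.map ((h : V ≃ₗ[F] V) : V →ₗ[F] V) := ⟨_, rfl⟩
  have hmapW' : ∀ h : H, W1.map ((h : V ≃ₗ[F] V) : V →ₗ[F] V) ≤ W' := by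
    intro h
    rw [hW']
    exact le_iSup (fun h : H => W1.map ((h : V ≃ₗ[F] V) : V →ₗ[F] V)) h
  have hW1W' : W1 ≤ W' := by
    intro x hx
    apply hmapW' 1
    exact ⟨x, hx, rfl⟩
  have hW'bot : W' ≠ ⊥ := by
    intro h
    have := hW1W' huW1
    rw [h, Submodule.mem_bot] at this
    exact hu this
  have hstabW' : H ≤ stab W' := by
    intro g hg
    apply mem_stab_of_forall_mem
    intro v hv
    rw [hW'] at hv
    induction hv using Submodule.iSup_induction' with
    | mem h x hx =>
      obtain ⟨y, hy, rfl⟩ := hx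
      apply hmapW' (⟨g, hg⟩ * h)
      exact ⟨y, hy, rfl⟩
    | zero => rw [map_zero]; exact W'.zero_mem
    | add x y _ _ hx hy => rw [map_add]; exact W'.add_mem hx hy
  by_cases hW'top : W' = ⊤
  swap
  · -- the sum is a proper invariant subspace
    refine le_trans (hC1 W' hW'bot hW'top) ?_
    exact relIndex_le_of_le (le_inf hstabW' hH)
  -- the sum is everything
  have hdich : ∀ g ∈ H, W1.map ((g : V ≃ₗ[F] V) : V →ₗ[F] V) = W1 ∨
      W1.map ((g : V ≃ₗ[F] V) : V →ₗ[F] V) ≤ B.orthogonal W1 := by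
    intro g hg
    rw [hW1]
    exact dichotomy hH huT hu hg
  have hperp : ∀ g ∈ H, W1.map ((g : V ≃ₗ[F] V) : V →ₗ[F] V) ≠ W1 →
      ∀ x ∈ W1, ∀ y ∈ W1, B x (g y) = 0 := by
    intro g hg hgne x hx y hy
    rcases hdich g hg with h | h
    · exact absurd h hgne
    · have := h ⟨y, hy, rfl⟩
      rw [LinearMap.BilinForm.mem_orthogonal_iff] at this
      exact this x hx
  -- `W1` is nondegenerate
  have hnd : NondegOn B W1 := by
    intro w hw hw0
    by_contra hcon
    push Not at hcon
    apply hw0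
    apply hN.1 w
    intro y
    have hy : y ∈ W' := by rw [hW'top]; trivial
    rw [hW'] at hy
    induction hy using Submodule.iSup_induction' with
    | mem h x hx =>
      obtain ⟨z, hz, rfl⟩ := hx
      by_cases hmap : W1.map (((h : H) : V ≃ₗ[F] V) : V →ₗ[F] V) = W1
      · have hz' : (h : V ≃ₗ[F] V) z ∈ W1 := by
          rw [← hmap]
          exact ⟨z, hz, rfl⟩
        have := hcon _ hz'
        rw [alt_swap B hB]
        exact neg_eq_zero.mpr this
      · exact hperp h h.2 hmap w hw z hz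
    | zero => simp
    | add x y _ _ hx hy => rw [map_add, hx, hy, add_zero]
  -- some image differs
  obtain ⟨g0, hg0, hg0ne⟩ : ∃ g0 ∈ H, W1.map ((g0 : V ≃ₗ[F] V) : V →ₗ[F] V) ≠ W1 := by
    by_contra hcon
    push Not at hcon
    apply htop
    rw [eq_top_iff, ← hW'top, hW']
    apply iSup_le
    intro h
    rw [hcon h h.2]
  -- dimension
  have hdim : 2 * finrank F W1 ≤ finrank F V := by
    have hdisj : W1 ⊓ W1.map ((g0 : V ≃ₗ[F] V) : V →ₗ[F] V) = ⊥ := by
      rw [eq_bot_iff]
      rintro x ⟨hx1, hx2⟩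
      rw [Submodule.mem_bot]
      by_contra hx0
      obtain ⟨y, hy, hyx⟩ := hnd x hx1 hx0
      obtain ⟨z, hz, rfl⟩ := hx2
      exact hyx (hperp g0 hg0 hg0ne y hy z hz)
    have h1 := Submodule.finrank_sup_add_finrank_inf_eq W1
      (W1.map ((g0 : V ≃ₗ[F] V) : V →ₗ[F] V))
    rw [hdisj, finrank_bot, add_zero, LinearEquiv.finrank_map_eq] at h1
    have h2 := Submodule.finrank_le (W1 ⊔ W1.map ((g0 : V ≃ₗ[F] V) : V →ₗ[F] V))
    omega
  have hC2' := hC2 W1 hW1bot hnd hdim
  -- the stabiliser of `W1` in `H`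
  obtain ⟨K, hK⟩ : ∃ K : Subgroup (V ≃ₗ[F] V), K = H ⊓ stab W1 := ⟨_, rfl⟩
  have hKH : K ≤ H := by rw [hK]; exact inf_le_left
  have hmul := Subgroup.relIndex_mul_relIndex K H (isoGroup B) hKH hH
  have hle1 : (stab W1 ⊓ isoGroup B).relIndex (isoGroup B) ≤ K.relIndex (isoGroup B) := by
    apply relIndex_le_of_le
    rw [hK]
    exact le_inf inf_le_right (le_trans inf_le_left hH)
  -- the number of images is at most `m`
  have hr : K.relIndex H ≤ m := by
    have hQfin : Finite (H ⧸ K.subgroupOf H) := inferInstance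
    have hQft : Fintype (H ⧸ K.subgroupOf H) := Fintype.ofFinite _
    obtain ⟨rep, hrep⟩ : ∃ rep : H ⧸ K.subgroupOf H → H, ∀ c, (rep c : H ⧸ K.subgroupOf H) = c :=
      ⟨fun c => Quotient.out c, fun c => QuotientGroup.out_eq' c⟩
    obtain ⟨f, hf⟩ : ∃ f : H ⧸ K.subgroupOf H → V, ∀ c, f c = ((rep c : H) : V ≃ₗ[F] V) u :=
      ⟨_, fun _ => rfl⟩
    -- images under different representatives are perpendicular
    have hperp2 : ∀ c c' : H ⧸ K.subgroupOf H, c ≠ c' → ∀ x ∈ W1, ∀ y ∈ W1,
        B (((rep c : H) : V ≃ₗ[F] V) x) (((rep c' : H) : V ≃ₗ[F] V) y) = 0 := by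
      intro c c' hcc x hx y hy
      have hnot : (rep c)⁻¹ * rep c' ∉ K.subgroupOf H := by
        intro hmem
        apply hcc
        rw [← hrep c, ← hrep c']
        exact QuotientGroup.eq.mpr hmem
      obtain ⟨g, hg⟩ : ∃ g : V ≃ₗ[F] V, g = (((rep c)⁻¹ * rep c' : H) : V ≃ₗ[F] V) := ⟨_, rfl⟩
      have hgH : g ∈ H := by rw [hg]; exact ((rep c)⁻¹ * rep c').2
      have hgK : g ∉ K := by
        intro h
        apply hnot
        rw [Subgroup.mem_subgroupOf, ← hg]
        exact h
      have hgne : W1.map ((g : V ≃ₗ[F] V) : V →ₗ[F] V) ≠ W1 := by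
        intro h
        apply hgK
        rw [hK]
        exact ⟨hgH, mem_stab_of_map_eq h⟩
      have h0 := hperp g hgH hgne x hx y hy
      have hiso : ((rep c : H) : V ≃ₗ[F] V) ∈ isoGroup B := hH (rep c).2
      have hcg : ((rep c : H) : V ≃ₗ[F] V) * g = ((rep c' : H) : V ≃ₗ[F] V) := by
        rw [hg, Subgroup.coe_mul, Subgroup.coe_inv, mul_inv_cancel_left]
      rw [← hiso x (g y), ← LinearEquiv.mul_apply, hcg] at h0
      exact h0
    have hiso_f : ∀ c c' : H ⧸ K.subgroupOf H, B (f c) (f c') = 0 := by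
      intro c c'
      by_cases hcc : c = c'
      · rw [hcc]
        exact hB _
      · rw [hf, hf]
        exact hperp2 c c' hcc u huW1 u huW1
    have hli : LinearIndependent F f := by
      rw [Fintype.linearIndependent_iff]
      intro a ha c0
      obtain ⟨x, hx, hxu⟩ := hnd u huW1 hu
      have h1 : B (((rep c0 : H) : V ≃ₗ[F] V) x) (∑ c, a c • f c) = 0 := by
        rw [ha]
        simp
      rw [map_sum, Finset.sum_eq_single c0] at h1
      · rw [map_smul, smul_eq_mul, hf, (hH (rep c0).2) x u] at h1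
        rcases mul_eq_zero.mp h1 with h | h
        · exact h
        · exact absurd h hxu
      · intro c _ hc
        rw [map_smul, hf, hperp2 c0 c (Ne.symm hc) x hx u huW1, smul_zero]
      · intro h
        exact absurd (Finset.mem_univ c0) h
    have hXiso : Submodule.span F (Set.range f) ≤ B.orthogonal (Submodule.span F (Set.range f)) := by
      apply Submodule.span_le.mpr
      rintro _ ⟨c', rfl⟩
      show f c' ∈ B.orthogonal (Submodule.span F (Set.range f))
      rw [LinearMap.BilinForm.mem_orthogonal_iff]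
      intro n hn
      show B n (f c') = 0
      induction hn using Submodule.span_induction with
      | mem x hx =>
        obtain ⟨c, rfl⟩ := hx
        exact hiso_f c c'
      | zero => simp
      | add a b _ _ ha hb => rw [map_add, LinearMap.add_apply, ha, hb, add_zero]
      | smul c a _ ha => rw [map_smul, LinearMap.smul_apply, ha, smul_zero]
    have h2 := finrank_le_of_isotropic hN hXiso
    rw [finrank_span_eq_card hli, S.dim] at h2
    have hcard : K.relIndex H = Fintype.card (H ⧸ K.subgroupOf H) := by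
      rw [← Nat.card_eq_fintype_card]
      rfl
    rw [hcard]
    omega
  -- conclusion
  have hpos : 0 < m := by omega
  have h3 : m * Npts m q ≤ m * H.relIndex (isoGroup B) := by
    calc m * Npts m q ≤ (stab W1 ⊓ isoGroup B).relIndex (isoGroup B) := hC2'
      _ ≤ K.relIndex (isoGroup B) := hle1
      _ = K.relIndex H * H.relIndex (isoGroup B) := hmul.symm
      _ ≤ m * H.relIndex (isoGroup B) := Nat.mul_le_mul_right _ hr
  exact Nat.le_of_mul_le_mul_left h3 hpos

theorem exists_ne_zero_one {F : Type*} [Field F] [Finite F] {q : ℕ} (hc : Nat.card F = q)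
    (hq : 3 ≤ q) : ∃ a : F, a ≠ 0 ∧ a ≠ 1 := by
  classical
  by_contra hcon
  push Not at hcon
  have := Fintype.ofFinite F
  have hsub : (Finset.univ : Finset F) ⊆ {0, 1} := by
    intro a _
    rw [Finset.mem_insert, Finset.mem_singleton]
    by_cases ha : a = 0
    · exact Or.inl ha
    · exact Or.inr (hcon a ha)
  have h1 := Finset.card_le_card hsub
  have h2 : ({0, 1} : Finset F).card ≤ 2 := Finset.card_le_two
  rw [Finset.card_univ, ← Nat.card_eq_fintype_card, hc] at h1
  omega

universe u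

/-- **Package CASEI** (final form, verbatim statement): assembly of Case I from COPOLAR, C1, C2. -/
theorem caseI {F : Type*} [Field F] [Finite F] {V : Type u} [AddCommGroup V] [Module F V]
    [FiniteDimensional F V] (B : LinearMap.BilinForm F V) {m q : ℕ} (S : Setting B m q)
    (hq : 3 ≤ q) (hm : 2 ≤ m) {H : Subgroup (V ≃ₗ[F] V)} (hH : H ≤ isoGroup B)
    (hne : H ≠ isoGroup B) {u : V} (hu : u ≠ 0) (hX : Xv B S.alt u ≤ H) :
    Npts m q ≤ H.relIndex (isoGroup B) :=
  caseI_of S hq hm hH hne hu hX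
    (fun T h0 hsmul hadd hconn hspan =>
      Cfsg.Agent.Lib.Helper93_MISp_COPOLAR.copolar B S.alt S.nondeg
        (exists_ne_zero_one S.card hq) T h0 hsmul hadd hconn hspan)
    (fun U h1 h2 => Cfsg.Agent.Lib.Helper71_MISp_C1.C1 q m (by omega) V B S U h1 h2)
    (fun U h1 h2 h3 => Cfsg.Agent.Lib.Helper42_MISp_C2.C2 q hq m hm V B S U h1 h2 h3)

end Cfsg.Agent.Lib.Helper84_MISp_CASEI
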