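import Mathlib
import Cfsg.Agent.Lib.Helper72_MinIdxDefs
import Cfsg.Agent.Lib.Helper72_MI_R1BCore
import Cfsg.Agent.Lib.Helper47_MI_FACT
import Cfsg.Agent.Lib.Helper84_MI_R1Baux

/-!
# MI-R1B-3 (helper84; package of helper72's S2140 architecture): in configuration R1 with
`n = 3`, `q` is odd.  Proof in `Helper84_MI_R1Baux.R1_three_odd_of`, fed with MI-FACT (helper47).
-/

set_option autoImplicit false

namespace Cfsg.Agent.Lib.Helper84_MI_R1B3

open Module Cfsg.Agent.Lib.Helper72_MinIdxDefs Cfsg.Agent.Lib.Helper72_MI_R1BCore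

variable {F : Type*} [Field F] {V : Type*} [AddCommGroup V] [Module F V]

theorem R1_three_odd [Fintype F] [Module.Finite F V] (hn : finrank F V = 3)
    (H : Subgroup (SpecialLinearGroup F V))
    (hidx : H.index = Fintype.card F ^ (finrank F V - 1))
    (hno : ∀ (φ : Dual F V) (w : V) (h : φ w = 0), tv φ w h ∈ H → tv φ w h = 1) :
    Odd (Fintype.card F) :=
  Cfsg.Agent.Lib.Helper84_MI_R1Baux.R1_three_odd_of hn H
    (fun φ hφ g => Cfsg.Agent.Lib.Helper47_MI_FACT.exists_axis_mul_mem H hidx hno φ hφ g) hno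

end Cfsg.Agent.Lib.Helper84_MI_R1B3
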