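import Mathlib
import Cfsg.Agent.Lib.Helper72_MinIdxDefs
import Cfsg.Agent.Lib.Helper72_MI_R1BCore
import Cfsg.Agent.Lib.Helper47_MI_FACT
import Cfsg.Agent.Lib.Helper84_MI_R1Baux

/-!
# MI-R1B-SPAN (helper84; package of helper72's S2140 architecture): two flags on the same
hyperplane.  Proof in `Helper84_MI_R1Baux.flag_span_of`, fed with MI-FACT (helper47).
-/

set_option autoImplicit false

namespace Cfsg.Agent.Lib.Helper84_MI_R1BSPAN

open Module Cfsg.Agent.Lib.Helper72_MinIdxDefs Cfsg.Agent.Lib.Helper72_MI_R1BCore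

variable {F : Type*} [Field F] {V : Type*} [AddCommGroup V] [Module F V]

theorem flag_span [Fintype F] [Module.Finite F V]
    (H : Subgroup (SpecialLinearGroup F V))
    (hidx : H.index = Fintype.card F ^ (finrank F V - 1))
    (hno : ∀ (φ : Dual F V) (w : V) (h : φ w = 0), tv φ w h ∈ H → tv φ w h = 1)
    (φ : Dual F V) (hφ : φ ≠ 0) (v v' : V) (hv : φ v = 0) (hv' : φ v' = 0)
    (hind : LinearIndependent F ![v, v']) (α' : Dual F V) (hα' : α' v' = 0) (hα'v : α' v = 0)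
    (w' : V) (hw' : φ w' = 0) (hmem : tv φ w' hw' * tv α' v' hα' ∈ H) :
    w' ∈ Submodule.span F {v, v'} :=
  Cfsg.Agent.Lib.Helper84_MI_R1Baux.flag_span_of H
    (fun φ hφ g => Cfsg.Agent.Lib.Helper47_MI_FACT.exists_axis_mul_mem H hidx hno φ hφ g)
    hno φ hφ v v' hv hv' hind α' hα' hα'v w' hw' hmem

end Cfsg.Agent.Lib.Helper84_MI_R1BSPAN
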