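import Mathlib

/-!
# S1022 package N19-BRFIN (helper84): the arithmetic of the principal 19-block degrees

Pure finite combinatorics: from the degree equation of the principal block of a would-be simple
group of order `459648` with `|N(P)| = 456` one gets `e = 6` and two non-exceptional characters of
degree different from `189`.
-/

set_option autoImplicit false

namespace Cfsg.Agent.Lib.Helper84_N19_BRFIN

/-- none of the possible values of `±D` gives a divisor of `459648` -/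
theorem no_div (D : ℕ) (ε v : ℤ) (hε : ε = 1 ∨ ε = -1) (h : ε * (D : ℤ) = v) (hD : D ∣ 459648)
    (hv : v = 97 ∨ v = -17 ∨ v = -55 ∨ v = -188 ∨ v = 193 ∨ v = 79 ∨ v = 41 ∨ v = -92 ∨ v = -35 ∨
      v = -73 ∨ v = -206 ∨ v = -111 ∨ v = -244 ∨ v = -377 ∨ v = -659 ∨ v = -773 ∨ v = -811 ∨
      v = -944) : False := by
  have key : ∀ n : ℕ, (v = (n : ℤ) ∨ v = -(n : ℤ)) → ¬ n ∣ 459648 → n ≠ 0 → False := by
    intro n hn hnd hn0
    have hDn : D = n := by
      rcases hε with rfl | rfl <;> rcases hn with hn | hn <;> omega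
    rw [hDn] at hD
    exact hnd hD
  rcases hv with h | h | h | h | h | h | h | h | h | h | h | h | h | h | h | h | h | h
  · exact key 97 (Or.inl h) (by decide) (by decide)
  · exact key 17 (Or.inr h) (by decide) (by decide)
  · exact key 55 (Or.inr h) (by decide) (by decide)
  · exact key 188 (Or.inr h) (by decide) (by decide)
  · exact key 193 (Or.inl h) (by decide) (by decide)
  · exact key 79 (Or.inl h) (by decide) (by decide)
  · exact key 41 (Or.inl h) (by decide) (by decide)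
  · exact key 92 (Or.inr h) (by decide) (by decide)
  · exact key 35 (Or.inr h) (by decide) (by decide)
  · exact key 73 (Or.inr h) (by decide) (by decide)
  · exact key 206 (Or.inr h) (by decide) (by decide)
  · exact key 111 (Or.inr h) (by decide) (by decide)
  · exact key 244 (Or.inr h) (by decide) (by decide)
  · exact key 377 (Or.inr h) (by decide) (by decide)
  · exact key 659 (Or.inr h) (by decide) (by decide)
  · exact key 773 (Or.inr h) (by decide) (by decide)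
  · exact key 811 (Or.inr h) (by decide) (by decide)
  · exact key 944 (Or.inr h) (by decide) (by decide)

theorem brauer_fin {ι : Type*} (X : Finset ι) (one : ι) (d : ι → ℕ) (εX : ι → ℤ) (D : ℕ) (ε : ℤ)
    (e : ℕ) (he' : e = 2 ∨ e = 3 ∨ e = 6) (h1 : one ∈ X) (hcard : X.card = e)
    (hε1 : εX one = 1) (hd1 : d one = 1)
    (hX : ∀ χ ∈ X, χ ≠ one →
      (d χ = 96 ∧ εX χ = 1) ∨ ((d χ = 18 ∨ d χ = 56 ∨ d χ = 189) ∧ εX χ = -1))
    (hD : D ∣ 459648) (hε : ε = 1 ∨ ε = -1)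
    (hsum : ε * (D : ℤ) = ∑ χ ∈ X, εX χ * (d χ : ℤ)) :
    e = 6 ∧ ∃ χ₁ ∈ X, ∃ χ₂ ∈ X, χ₁ ≠ χ₂ ∧ χ₁ ≠ one ∧ χ₂ ≠ one ∧ d χ₁ ≠ 189 ∧ d χ₂ ≠ 189 := by
  classical
  -- the values
  have hv : ∀ χ ∈ X.erase one,
      (εX χ * (d χ : ℤ) = 96 ∧ d χ = 96) ∨ (εX χ * (d χ : ℤ) = -18 ∧ d χ = 18) ∨
      (εX χ * (d χ : ℤ) = -56 ∧ d χ = 56) ∨ (εX χ * (d χ : ℤ) = -189 ∧ d χ = 189) := by
    intro χ hχ
    obtain ⟨hne, hmem⟩ := Finset.mem_erase.mp hχ
    rcases hX χ hmem hne with ⟨h, h'⟩ | ⟨h | h | h, h'⟩ <;> rw [h, h'] <;> simp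
  have hsum' : ε * (D : ℤ) = 1 + ∑ χ ∈ X.erase one, εX χ * (d χ : ℤ) := by
    rw [hsum, ← Finset.add_sum_erase X _ h1, hε1, hd1]
    simp
  have hcard' : (X.erase one).card = e - 1 := by
    rw [Finset.card_erase_of_mem h1, hcard]
  have he6 : e = 6 := by
    rcases he' with rfl | rfl | rfl
    · -- one non-trivial member
      exfalso
      obtain ⟨χ, hχ⟩ := Finset.card_eq_one.mp hcard'
      have hχm : χ ∈ X.erase one := by rw [hχ]; exact Finset.mem_singleton_self χ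
      rw [hχ, Finset.sum_singleton] at hsum'
      refine no_div D ε _ hε hsum' hD ?_
      rcases hv χ hχm with ⟨h, -⟩ | ⟨h, -⟩ | ⟨h, -⟩ | ⟨h, -⟩ <;> rw [h] <;> norm_num
    · -- two non-trivial members
      exfalso
      obtain ⟨χ₁, χ₂, hne, hχ⟩ := Finset.card_eq_two.mp hcard'
      have hχ₁ : χ₁ ∈ X.erase one := by rw [hχ]; simp
      have hχ₂ : χ₂ ∈ X.erase one := by rw [hχ]; simp
      rw [hχ, Finset.sum_pair hne] at hsum'
      refine no_div D ε _ hε hsum' hD ?_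
      rcases hv χ₁ hχ₁ with ⟨h, -⟩ | ⟨h, -⟩ | ⟨h, -⟩ | ⟨h, -⟩ <;>
        rcases hv χ₂ hχ₂ with ⟨h', -⟩ | ⟨h', -⟩ | ⟨h', -⟩ | ⟨h', -⟩ <;> rw [h, h'] <;> norm_num
    · rfl
  refine ⟨he6, ?_⟩
  subst he6
  by_contra hcon
  -- the members of degree `≠ 189`
  have hA : ((X.erase one).filter (fun χ => d χ ≠ 189)).card ≤ 1 := by
    by_contra hlt
    push Not at hlt
    obtain ⟨χ₁, hχ₁, χ₂, hχ₂, hne⟩ := Finset.one_lt_card.mp hlt
    obtain ⟨hm₁, hd₁⟩ := Finset.mem_filter.mp hχ₁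
    obtain ⟨hm₂, hd₂⟩ := Finset.mem_filter.mp hχ₂
    obtain ⟨hne₁, hX₁⟩ := Finset.mem_erase.mp hm₁
    obtain ⟨hne₂, hX₂⟩ := Finset.mem_erase.mp hm₂
    exact hcon ⟨χ₁, hX₁, χ₂, hX₂, hne, hne₁, hne₂, hd₁, hd₂⟩
  have hsplit := Finset.sum_filter_add_sum_filter_not (X.erase one) (fun χ => d χ ≠ 189)
    (fun χ => εX χ * (d χ : ℤ))
  have hcsplit := Finset.card_filter_add_card_filter_not (s := X.erase one) (fun χ => d χ ≠ 189)
  rw [hcard'] at hcsplit
  have hB : ∑ χ ∈ (X.erase one).filter (fun χ => ¬ d χ ≠ 189), εX χ * (d χ : ℤ) =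
      -189 * (((X.erase one).filter (fun χ => ¬ d χ ≠ 189)).card : ℤ) := by
    rw [Finset.sum_congr rfl (g := fun _ => (-189 : ℤ))]
    · rw [Finset.sum_const, nsmul_eq_mul]
      ring
    · intro χ hχ
      obtain ⟨hm, hd⟩ := Finset.mem_filter.mp hχ
      rcases hv χ hm with ⟨-, h⟩ | ⟨-, h⟩ | ⟨-, h⟩ | ⟨h, -⟩
      · exact absurd (by rw [h]; norm_num) hd
      · exact absurd (by rw [h]; norm_num) hd
      · exact absurd (by rw [h]; norm_num) hd
      · exact h
  rw [← hsplit, hB] at hsum'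
  rcases Nat.eq_zero_or_pos ((X.erase one).filter (fun χ => d χ ≠ 189)).card with h0 | hpos
  · -- all five of degree 189
    have hAe : (X.erase one).filter (fun χ => d χ ≠ 189) = ∅ := Finset.card_eq_zero.mp h0
    have hBc : ((X.erase one).filter (fun χ => ¬ d χ ≠ 189)).card = 5 := by omega
    rw [hAe, Finset.sum_empty, hBc] at hsum'
    refine no_div D ε _ hε hsum' hD ?_
    norm_num
  · have hA1 : ((X.erase one).filter (fun χ => d χ ≠ 189)).card = 1 := by omega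
    have hBc : ((X.erase one).filter (fun χ => ¬ d χ ≠ 189)).card = 4 := by omega
    obtain ⟨χ, hχ⟩ := Finset.card_eq_one.mp hA1
    have hχm : χ ∈ (X.erase one).filter (fun χ => d χ ≠ 189) := by
      rw [hχ]; exact Finset.mem_singleton_self χ
    obtain ⟨hm, hd⟩ := Finset.mem_filter.mp hχm
    rw [hχ, Finset.sum_singleton, hBc] at hsum'
    refine no_div D ε _ hε hsum' hD ?_
    rcases hv χ hm with ⟨h, -⟩ | ⟨h, -⟩ | ⟨h, -⟩ | ⟨-, h⟩
    · rw [h]; norm_num
    · rw [h]; norm_num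
    · rw [h]; norm_num
    · exact absurd h hd

end Cfsg.Agent.Lib.Helper84_N19_BRFIN
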