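import Mathlib
import Cfsg.Agent.Lib.Helper17_Sylow

/-!
# S1022 package N19-CASE96 (helper84)

A simple group of order `459648 = 2^7·3^3·7·19` has no Sylow 19-subgroup `P` with `|N(P)| = 4788`
and `N(P) ≠ C(P)`: the Sylow 7-subgroup of `C(P)` is normal in `N(P)`, so `n_7(G) ∣ 96`,
`n_7(G) ∈ {1, 8}`.
-/

set_option autoImplicit false

open Subgroup

namespace Cfsg.Agent.Lib.Helper84_N19_CASE96

/-- in a finite group with a unique Sylow `p`-subgroup, a subgroup of the Sylow order is the Sylow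
subgroup -/
theorem eq_of_card_eq_of_unique_sylow {C : Type*} [Group C] [Finite C] {p : ℕ} [Fact p.Prime]
    (huniq : Nat.card (Sylow p C) = 1) (S : Sylow p C) (H : Subgroup C)
    (hH : Nat.card H = Nat.card (S : Subgroup C)) : H = (S : Subgroup C) := by
  have hHp : IsPGroup p H := IsPGroup.of_card (hH.trans S.card_eq_multiplicity)
  obtain ⟨S', hS'⟩ := hHp.exists_le_sylow
  have hsub : Subsingleton (Sylow p C) := (Nat.card_eq_one_iff_unique.mp huniq).1
  have hSS : S' = S := Subsingleton.elim _ _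
  rw [hSS] at hS'
  exact Subgroup.eq_of_le_of_card_ge hS' hH.ge

/-- conjugation by an element of `N(P)` preserves `C(P)` -/
theorem conj_mem_centralizer {G : Type*} [Group G] (P : Subgroup G) {n x : G}
    (hn : n ∈ normalizer (P : Set G)) (hx : x ∈ centralizer (P : Set G)) :
    n * x * n⁻¹ ∈ centralizer (P : Set G) := by
  rw [mem_centralizer_iff]
  intro y hy
  have hy' : n⁻¹ * y * n⁻¹⁻¹ ∈ P := ((inv_mem hn) y).mp hy
  rw [inv_inv] at hy'
  have h1 : (n⁻¹ * y * n) * x = x * (n⁻¹ * y * n) := (mem_centralizer_iff.mp hx) _ hy'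
  calc y * (n * x * n⁻¹) = n * ((n⁻¹ * y * n) * x) * n⁻¹ := by group
    _ = n * (x * (n⁻¹ * y * n)) * n⁻¹ := by rw [h1]
    _ = n * x * n⁻¹ * y := by group

/-- the Sylow 7-subgroup of `C` is unique when a central subgroup of order 19 is present and
`|C| = 133 k`, `k ∈ {18, 12, 6, 4, 2}` -/
theorem unique_sylow7 {C : Type*} [Group C] [Finite C] [Fact (Nat.Prime 7)]
    (P' : Subgroup C) (hP' : Nat.card P' = 19) (hcent : ∀ x ∈ P', ∀ c : C, x * c = c * x)
    (k : ℕ) (hk : k = 18 ∨ k = 12 ∨ k = 6 ∨ k = 4 ∨ k = 2) (hC : Nat.card C = 133 * k) :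
    Nat.card (Sylow 7 C) = 1 := by
  obtain ⟨Q'⟩ : Nonempty (Sylow 7 C) := inferInstance
  have hQ' : Nat.card (Q' : Subgroup C) = 7 ^ 1 := by
    apply Cfsg.Agent.Lib.Helper17_Sylow.card_sylow_eq_pow (m := 19 * k) _ _ Q'
    · rw [hC]; ring
    · rcases hk with rfl | rfl | rfl | rfl | rfl <;> norm_num
  rw [pow_one] at hQ'
  have hidx : Nat.card (Sylow 7 C) = (normalizer ((Q' : Subgroup C) : Set C)).index :=
    Sylow.card_eq_index_normalizer Q'
  rw [hidx]
  have hmod : (normalizer ((Q' : Subgroup C) : Set C)).index % 7 = 1 := by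
    have := card_sylow_modEq_one 7 C
    rw [hidx] at this
    exact this
  have h7 : 7 ∣ Nat.card (normalizer ((Q' : Subgroup C) : Set C)) := by
    have := Subgroup.card_dvd_of_le (le_normalizer : (Q' : Subgroup C) ≤ normalizer ((Q' : Subgroup C) : Set C))
    rwa [hQ'] at this
  have h19 : 19 ∣ Nat.card (normalizer ((Q' : Subgroup C) : Set C)) := by
    rw [← hP']
    apply Subgroup.card_dvd_of_le
    intro x hx
    rw [mem_normalizer_iff]
    intro h
    have e : x * h * x⁻¹ = h := by rw [hcent x hx h]; group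
    rw [e]
  have h133 : 133 ∣ Nat.card (normalizer ((Q' : Subgroup C) : Set C)) := by
    have : Nat.Coprime 7 19 := by norm_num
    exact this.mul_dvd_of_dvd_of_dvd h7 h19
  obtain ⟨m, hm⟩ := h133
  have hmul := Subgroup.card_mul_index (normalizer ((Q' : Subgroup C) : Set C))
  rw [hC, hm] at hmul
  obtain ⟨n, hn⟩ : ∃ n, n = (normalizer ((Q' : Subgroup C) : Set C)).index := ⟨_, rfl⟩
  rw [← hn] at hmul hmod ⊢
  have hmn : m * n = k := by
    have : 133 * (m * n) = 133 * k := by rw [← hmul]; ring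
    exact Nat.eq_of_mul_eq_mul_left (by norm_num) this
  have hn0 : 0 < n := by
    rcases Nat.eq_zero_or_pos n with h | h
    · rw [h] at hmod; norm_num at hmod
    · exact h
  have hnk : n ≤ k := by
    rw [← hmn]
    rcases Nat.eq_zero_or_pos m with h | h
    · exfalso
      rw [h, zero_mul] at hmn
      omega
    · exact Nat.le_mul_of_pos_left n h
  have hn18 : n ≤ 18 := by omega
  interval_cases n <;> first | rfl | omega

theorem case_96 {G : Type*} [Group G] [Finite G] [IsSimpleGroup G] [Fact (Nat.Prime 19)]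
    (hG : Nat.card G = 459648) (P : Sylow 19 G) (hP : Nat.card P = 19)
    (hN : Nat.card (Subgroup.normalizer ((P : Subgroup G) : Set G)) = 4788)
    (he : (Subgroup.centralizer ((P : Subgroup G) : Set G)).relIndex
      (Subgroup.normalizer ((P : Subgroup G) : Set G)) ≠ 1) : False := by
  have : Fact (Nat.Prime 7) := ⟨by norm_num⟩
  obtain ⟨N, hNdef⟩ : ∃ N, N = normalizer ((P : Subgroup G) : Set G) := ⟨_, rfl⟩
  obtain ⟨C, hCdef⟩ : ∃ C, C = centralizer ((P : Subgroup G) : Set G) := ⟨_, rfl⟩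
  rw [← hNdef] at hN
  rw [← hNdef, ← hCdef] at he
  have hCN : C ≤ N := by
    rw [hNdef, hCdef]
    exact centralizer_le_normalizer _
  have hmul : Nat.card C * C.relIndex N = Nat.card N :=
    Cfsg.Agent.Lib.Helper17_Sylow.card_mul_relIndex_of_le hCN
  have he18 : C.relIndex N ∣ 18 := by
    have := Cfsg.Agent.Lib.Helper17_Sylow.relIndex_centralizer_normalizer_dvd_pred (p := 19)
      (P : Subgroup G) hP
    rw [hNdef, hCdef]
    exact this
  rw [hN] at hmul
  -- the possible orders of `C`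
  obtain ⟨k, hk, hCk⟩ : ∃ k, (k = 18 ∨ k = 12 ∨ k = 6 ∨ k = 4 ∨ k = 2) ∧ Nat.card C = 133 * k := by
    obtain ⟨e, hedef⟩ : ∃ e, e = C.relIndex N := ⟨_, rfl⟩
    rw [← hedef] at hmul he18 he
    have hele : e ≤ 18 := Nat.le_of_dvd (by norm_num) he18
    have he0 : 0 < e := Nat.pos_of_dvd_of_pos he18 (by norm_num)
    interval_cases e
    · exact absurd rfl he
    · exact ⟨18, by norm_num, by omega⟩
    · exact ⟨12, by norm_num, by omega⟩
    all_goals first
      | (exfalso; revert he18; decide)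
      | exact ⟨6, by norm_num, by omega⟩
      | exact ⟨4, by norm_num, by omega⟩
      | exact ⟨2, by norm_num, by omega⟩
  -- `P ≤ C` is central in `C`
  have hcyc : IsCyclic (P : Subgroup G) := isCyclic_of_prime_card hP
  have hPC : (P : Subgroup G) ≤ C := by
    rw [hCdef]
    exact Cfsg.Agent.Lib.Helper17_Sylow.le_centralizer_of_isCyclic (P : Subgroup G)
  have hP'card : Nat.card ((P : Subgroup G).subgroupOf C) = 19 := by
    rw [Nat.card_congr (Subgroup.subgroupOfEquivOfLe hPC).toEquiv]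
    exact hP
  have hcent : ∀ x ∈ (P : Subgroup G).subgroupOf C, ∀ c : C, x * c = c * x := by
    intro x hx c
    have hx' : (x : G) ∈ (P : Subgroup G) := hx
    have hc : (c : G) ∈ centralizer ((P : Subgroup G) : Set G) := by
      rw [← hCdef]; exact c.2
    have := (mem_centralizer_iff.mp hc) (x : G) hx'
    exact Subtype.ext this
  have huniq : Nat.card (Sylow 7 C) = 1 :=
    unique_sylow7 ((P : Subgroup G).subgroupOf C) hP'card hcent k hk hCk
  obtain ⟨Q'⟩ : Nonempty (Sylow 7 C) := inferInstance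
  have hQ'card : Nat.card (Q' : Subgroup C) = 7 := by
    have := Cfsg.Agent.Lib.Helper17_Sylow.card_sylow_eq_pow (p := 7) (k := 1) (m := 19 * k)
      (G := C) (by rw [hCk]; ring)
      (by rcases hk with rfl | rfl | rfl | rfl | rfl <;> norm_num) Q'
    rwa [pow_one] at this
  -- the subgroup `Q` of `G`
  obtain ⟨Q, hQdef⟩ : ∃ Q : Subgroup G, Q = (Q' : Subgroup C).map C.subtype := ⟨_, rfl⟩
  have hQC : Q ≤ C := by
    rw [hQdef]
    rintro _ ⟨x, -, rfl⟩
    exact x.2
  have hQcard : Nat.card Q = 7 := by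
    rw [hQdef, Subgroup.card_map_of_injective C.subtype_injective]
    exact hQ'card
  have hQsub : Q.subgroupOf C = (Q' : Subgroup C) := by
    rw [hQdef]
    ext x
    rw [mem_subgroupOf]
    constructor
    · rintro ⟨y, hy, hyx⟩
      have : y = x := Subtype.ext hyx
      rwa [← this]
    · intro hx
      exact ⟨x, hx, rfl⟩
  -- `N` normalizes `Q`
  have hNQ : N ≤ normalizer (Q : Set G) := by
    intro n hn
    rw [mem_normalizer_iff_map_conj_eq]
    have hle : Q.map (MulAut.conj n : G →* G) ≤ C := by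
      rintro _ ⟨x, hx, rfl⟩
      have hxC : x ∈ centralizer ((P : Subgroup G) : Set G) := by rw [← hCdef]; exact hQC hx
      have hn' : n ∈ normalizer ((P : Subgroup G) : Set G) := by rw [← hNdef]; exact hn
      have := conj_mem_centralizer (P : Subgroup G) hn' hxC
      rw [hCdef]
      exact this
    have hcard : Nat.card (Q.map (MulAut.conj n : G →* G)) = 7 := by
      rw [Subgroup.card_map_of_injective (MulAut.conj n).injective]
      exact hQcard
    have h1 : (Q.map (MulAut.conj n : G →* G)).subgroupOf C = (Q' : Subgroup C) := by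
      apply eq_of_card_eq_of_unique_sylow huniq Q'
      rw [Nat.card_congr (Subgroup.subgroupOfEquivOfLe hle).toEquiv, hcard, hQ'card]
    have h2 : (Q.map (MulAut.conj n : G →* G)).subgroupOf C = Q.subgroupOf C := by
      rw [h1, hQsub]
    rw [subgroupOf_inj, inf_eq_left.mpr hle, inf_eq_left.mpr hQC] at h2
    exact h2
  -- `Q` is a Sylow 7-subgroup of `G`
  have hG7 : Nat.card G = 7 ^ 1 * 65664 := by rw [hG]; norm_num
  have h7n : ¬ 7 ∣ 65664 := by norm_num
  have hQp : IsPGroup 7 Q := IsPGroup.of_card (n := 1) (by rw [hQcard, pow_one])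
  obtain ⟨S, hS⟩ := hQp.exists_le_sylow
  have hScard : Nat.card (S : Subgroup G) = 7 := by
    have := Cfsg.Agent.Lib.Helper17_Sylow.card_sylow_eq_pow hG7 h7n S
    rwa [pow_one] at this
  have hQS : Q = (S : Subgroup G) := Subgroup.eq_of_le_of_card_ge hS (by rw [hScard, hQcard])
  -- `n_7 ∣ 96`
  have hidxN : N.index = 96 := by
    have := Subgroup.card_mul_index N
    rw [hN, hG] at this
    omega
  have hn7dvd : Nat.card (Sylow 7 G) ∣ 96 := by
    have hidx : Nat.card (Sylow 7 G) = (normalizer ((S : Subgroup G) : Set G)).index :=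
      Sylow.card_eq_index_normalizer S
    rw [hidx, ← hidxN, ← hQS]
    exact Subgroup.index_dvd_of_le hNQ
  have hn7mod : Nat.card (Sylow 7 G) % 7 = 1 := card_sylow_modEq_one 7 G
  have hSbot : (S : Subgroup G) ≠ ⊥ := by
    intro h
    rw [h, Subgroup.card_bot] at hScard
    norm_num at hScard
  have hStop : (S : Subgroup G) ≠ ⊤ := by
    intro h
    rw [h, Subgroup.card_top, hG] at hScard
    norm_num at hScard
  have hn7gt : 1 < Nat.card (Sylow 7 G) :=
    Cfsg.Agent.Lib.Helper17_Sylow.one_lt_card_sylow S hSbot hStop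
  have hfact := Cfsg.Agent.Lib.Helper17_Sylow.card_dvd_factorial_card_sylow (G := G) (p := 7) hn7gt
  obtain ⟨n7, hn7⟩ : ∃ n7, n7 = Nat.card (Sylow 7 G) := ⟨_, rfl⟩
  rw [← hn7] at hn7dvd hn7mod hn7gt hfact
  have hle : n7 ≤ 96 := Nat.le_of_dvd (by norm_num) hn7dvd
  have h8 : n7 = 8 := by
    obtain ⟨j, hj⟩ : ∃ j, n7 = 7 * j + 1 := ⟨n7 / 7, by omega⟩
    have hj13 : j ≤ 13 := by omega
    subst hj
    interval_cases j <;> first | rfl | omega
  rw [h8, hG] at hfact
  revert hfact
  decide

end Cfsg.Agent.Lib.Helper84_N19_CASE96
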