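import Cfsg.Agent.Lib.Helper88_Invariant
import Cfsg.Agent.Lib.Helper88_Centric
import Cfsg.Agent.Lib.Helper87_Alperin
import Cfsg.Agent.Lib.Helper84_FusionRS
import Cfsg.Agent.Lib.Helper84_FusionSat
import Cfsg.Agent.Lib.Helper84_RelSylow

/-!
Fusion systems (helper84): an invariant subsystem `E` of `F` over the same `p`-group `S`.

* `exists_frattini`: the Frattini condition in function form.
* `isMapOn_conj_aut`: `Aut_E(R)` is normalized by `Aut_F(R)` (function form).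
* `conj_mem_autGroup`: the same for elements of `MulAut R`.
* `mem_autGroup_of_pow_eq_one`: for `F` saturated and `R` fully normalized in `F`, every `p`-element of `Aut_F(R)`
  lies in `Aut_E(R)`.
* `autGroup_le_of_generators`, `hom_eq_of_autGroup_le`: `Aut_F(S) ≤ Aut_E(S)` forces `E = F`.
-/

set_option autoImplicit false

namespace Cfsg.Agent.Lib.Helper84_NormalIndex

open Cfsg Cfsg.FusionSystem Cfsg.Agent.Lib.Helper87_Alperin Cfsg.Agent.Lib.Helper88_Centric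
  Cfsg.Agent.Lib.Helper88_Invariant

variable {Ω : Type*} [Group Ω] {S : Subgroup Ω}

/-- The Frattini condition of an invariant subsystem over the same `S`, in function form. -/
theorem exists_frattini {F E : FusionSystem S} (hEF : E.IsInvariantIn F) {P : Subgroup Ω} {f : Ω → Ω}
    (hf : IsMapOn F P f) :
    ∃ α ∈ F.autGroup S, ∃ f₀ : Ω → Ω, IsMapOn E P f₀ ∧ ∀ x ∈ P, f x = extFun α (f₀ x) := by
  obtain ⟨φ, hφ, hφf⟩ := hf
  have hPS : P ≤ S := hom_le F hφ
  obtain ⟨α, hα, φ₀, hφ₀, h⟩ := hEF.2.2.2 P hPS φ hφ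
  refine ⟨α, hα, extHom φ₀, isMapOn_extHom E hφ₀, fun x hx => ?_⟩
  have hx0 : φ₀ ⟨x, hx⟩ ∈ S := hom_mem E hφ₀ _
  rw [← hφf ⟨x, hx⟩, h ⟨x, hx⟩ hx0, extHom_apply φ₀ hx, extFun_apply α hx0]

/-- `Aut_E(R)` is normalized by `Aut_F(R)`, in function form: `a e a⁻¹` is a map of `E` on `R`. -/
theorem isMapOn_conj_aut {F E : FusionSystem S} (hEF : E.IsInvariantIn F) {R : Subgroup Ω}
    {a a' e : Ω → Ω} (ha : IsMapOn F R a) (haR : ∀ x ∈ R, a x ∈ R) (ha'R : ∀ y ∈ R, a' y ∈ R)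
    (haa' : ∀ y ∈ R, a (a' y) = y) (he : IsMapOn E R e) (heR : ∀ x ∈ R, e x ∈ R) :
    IsMapOn E R (a ∘ e ∘ a') := by
  obtain ⟨α, hα, f₀, hf₀, hfα⟩ := exists_frattini hEF ha
  obtain ⟨R₀, hR₀, -⟩ := exists_isImage hf₀
  obtain ⟨g₀, hg₀, hg₀f, hg₀R, hfg₀⟩ := hf₀.inv hR₀
  have he₀ : IsMapOn E R₀ (f₀ ∘ (e ∘ g₀)) :=
    (hg₀.comp he hg₀R).comp hf₀ (fun y hy => heR _ (hg₀R y hy))
  have himg : IsImage R₀ (extFun α) R := by
    intro y
    constructor
    · intro hy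
      refine ⟨f₀ (a' y), hR₀.mem (ha'R y hy), ?_⟩
      rw [← hfα _ (ha'R y hy), haa' y hy]
    · rintro ⟨z, hz, rfl⟩
      obtain ⟨x, hx, rfl⟩ := (hR₀ z).1 hz
      rw [← hfα x hx]
      exact haR x hx
  have h1 := isMapOn_transport hEF hα he₀ himg
  refine h1.congr fun y hy => ?_
  have hx : a' y ∈ R := ha'R y hy
  have hy' : y = extFun α (f₀ (a' y)) := by rw [← hfα _ hx, haa' y hy]
  have h2 : extFun α⁻¹ y = f₀ (a' y) := by
    conv_lhs => rw [hy']
    exact extFun_inv_apply α (hf₀.mem hx)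
  show extFun α (f₀ (e (g₀ (extFun α⁻¹ y)))) = a (e (a' y))
  rw [h2, hg₀f _ hx, ← hfα _ (heR _ hx)]

/-- `Aut_E(R)` is normalized by `Aut_F(R)`. -/
theorem conj_mem_autGroup {F E : FusionSystem S} (hEF : E.IsInvariantIn F) {R : Subgroup Ω} (hRS : R ≤ S)
    {α ε : MulAut R} (hα : α ∈ F.autGroup R) (hε : ε ∈ E.autGroup R) :
    α * ε * α⁻¹ ∈ E.autGroup R := by
  rw [mem_autGroup_iff E hRS]
  have ha := (mem_autGroup_iff F hRS α).1 hα
  have he := (mem_autGroup_iff E hRS ε).1 hε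
  have h1 := isMapOn_conj_aut hEF (a' := extFun α⁻¹) ha (fun x hx => extFun_mem α hx)
    (fun y hy => extFun_mem α⁻¹ hy) (fun y hy => extFun_apply_inv α hy) he (fun x hx => extFun_mem ε hx)
  refine h1.congr fun y hy => ?_
  show extFun α (extFun ε (extFun α⁻¹ y)) = extFun (α * ε * α⁻¹) y
  rw [extFun_mul _ _ hy, extFun_mul _ _ (extFun_mem α⁻¹ hy)]

/-- In a saturated system `F`, every `p`-element of `Aut_F(R)`, `R` fully normalized, lies in `Aut_E(R)` for each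
invariant subsystem `E` over the same `S`. -/
theorem mem_autGroup_of_pow_eq_one [Finite S] {p : ℕ} [Fact p.Prime] (hS : IsPGroup p S)
    {F E : FusionSystem S} (hF : F.IsSaturated p) (hEF : E.IsInvariantIn F) {R : Subgroup Ω}
    (hR : F.IsFullyNormalized R) {α : MulAut R} (hα : α ∈ F.autGroup R) {k : ℕ}
    (hk : α ^ (p ^ k) = 1) : α ∈ E.autGroup R := by
  have hRS := hR.1
  haveI : Finite R := Helper84_FusionRS.finite_of_le_S hRS
  haveI : Finite (F.autGroup R) := inferInstance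
  have hfa := Helper84_FusionRS.IsSaturated.isFullyAutomized hS hF hR
  have hsyl := Helper84_FusionSat.isSylowIn_of_isFullyAutomized F hfa
  have hz : IsPGroup p (Subgroup.zpowers α) := by
    rintro ⟨x, hx⟩
    obtain ⟨n, rfl⟩ := Subgroup.mem_zpowers_iff.1 hx
    refine ⟨k, Subtype.ext ?_⟩
    show (α ^ n) ^ (p ^ k) = 1
    rw [← zpow_natCast, ← zpow_mul, mul_comm, zpow_mul, zpow_natCast, hk, one_zpow]
  have hzle : Subgroup.zpowers α ≤ F.autGroup R := by
    rw [Subgroup.zpowers_le]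
    exact hα
  obtain ⟨g, hg, hgc⟩ := hsyl.exists_conj_le hzle hz
  have h1 : g * α * g⁻¹ ∈ E.autGroup R :=
    Helper87_Alperin.autInducedBy_le_autGroup E hRS (hgc α (Subgroup.mem_zpowers α))
  have h2 := conj_mem_autGroup hEF hRS ((F.autGroup R).inv_mem hg) h1
  have h3 : g⁻¹ * (g * α * g⁻¹) * g⁻¹⁻¹ = α := by group
  rwa [h3] at h2

/-- If `Aut_F(S) ≤ Aut_E(S)` for an invariant subsystem `E` of `F` over the same `S`, then `E = F`. -/
theorem hom_eq_of_autGroup_le {F E : FusionSystem S} (hEF : E.IsInvariantIn F)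
    (h : F.autGroup S ≤ E.autGroup S) (P : Subgroup Ω) : E.Hom P = F.Hom P := by
  apply Set.Subset.antisymm (hEF.1 P)
  intro φ hφ
  have hPS : P ≤ S := hom_le F hφ
  obtain ⟨α, hα, f₀, hf₀, hfα⟩ := exists_frattini hEF (isMapOn_extHom F hφ)
  have h1 : IsMapOn E S (extFun α) := (mem_autGroup_iff E le_rfl α).1 (h hα)
  have h2 : IsMapOn E P (extFun α ∘ f₀) := hf₀.comp h1 (fun x hx => hf₀.mem hx)
  rw [mem_hom_iff_isMapOn]
  exact h2.congr fun x hx => (hfα x hx).symm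

end Cfsg.Agent.Lib.Helper84_NormalIndex
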