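import Mathlib
import Cfsg.Agent.Lib.Helper94_Herm
import Cfsg.Agent.Lib.Helper94_HermOrth

set_option autoImplicit false

/-!
Abstract part of package UC of S5954 (helper84): isometries `X` of a nondegenerate hermitian space
over a finite field of odd characteristic whose square is a scalar `l * l`.

* `l * σ l = 1`: every nonzero nondegenerate invariant subspace contains a non-isotropic
  eigenvector, hence there are nondegenerate invariant subspaces of every dimension.
* `l * σ l = -1`: the two eigenspaces are totally isotropic of the same dimension, the dimension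
  of the space is even, `det X = (-(l * l)) ^ (dim / 2)`, every nonzero nondegenerate invariant
  subspace contains a nondegenerate invariant plane, hence there are nondegenerate invariant
  subspaces of every even dimension.
-/

namespace Cfsg.Agent.Lib.Helper84_SUND_UCa

open Module Cfsg.Agent.Lib.Helper94_Herm Cfsg.Agent.Lib.Helper94_HermOrth

variable {F V : Type*} [Field F] [AddCommGroup V] [Module F V]
variable {σ : F →+* F} {B : V →ₗ[F] V →ₛₗ[σ] F}

/-- invariance of a subspace under an endomorphism -/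
def InvS (X : V →ₗ[F] V) (N : Submodule F V) : Prop := ∀ v ∈ N, X v ∈ N

section basic

theorem disjoint_orthS (hB : IsHerm B) {W : Submodule F V} (hW : NondegOn B W) :
    W ⊓ orthS B W = ⊥ := by
  rw [eq_bot_iff]
  rintro x ⟨hxW, hxO⟩
  rw [Submodule.mem_bot]
  by_contra hx0
  obtain ⟨y, hyW, hy⟩ := hW x hxW hx0
  exact hy (herm_eq_zero hB (hxO y hyW))

theorem nondeg_orthS [Finite F] [FiniteDimensional F V] (hB : IsHerm B) (hN : NondegOn B ⊤)
    {W : Submodule F V} (hW : NondegOn B W) : NondegOn B (orthS B W) := by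
  intro x hx hx0
  by_contra hcon
  push Not at hcon
  have hxW : x ∈ W := by
    rw [← orthS_orthS hB hN W]
    intro y hy
    exact herm_eq_zero hB (hcon y hy)
  obtain ⟨y, hyW, hy⟩ := hW x hxW hx0
  exact hy (herm_eq_zero hB (hx y hyW))

theorem finrank_sup_orth [FiniteDimensional F V] (hB : IsHerm B) {N P : Submodule F V}
    (hN : NondegOn B N) (hP : P ≤ orthS B N) :
    finrank F (N ⊔ P : Submodule F V) = finrank F N + finrank F P := by
  have h1 := Submodule.finrank_sup_add_finrank_inf_eq N P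
  have h2 : N ⊓ P = ⊥ := by
    rw [eq_bot_iff, ← disjoint_orthS hB hN]
    exact inf_le_inf_left N hP
  rw [h2, finrank_bot] at h1
  omega

theorem nondeg_sup (hB : IsHerm B) {N P : Submodule F V}
    (hN : NondegOn B N) (hPn : NondegOn B P) (hP : P ≤ orthS B N) : NondegOn B (N ⊔ P) := by
  intro x hx hx0
  obtain ⟨a, ha, b, hb, rfl⟩ := Submodule.mem_sup.1 hx
  by_cases ha0 : a = 0
  · have hb0 : b ≠ 0 := by
      intro hb0
      apply hx0
      rw [ha0, hb0, add_zero]
    obtain ⟨y, hyP, hy⟩ := hPn b hb hb0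
    refine ⟨y, Submodule.mem_sup_right hyP, ?_⟩
    rw [ha0, zero_add]
    exact hy
  · obtain ⟨y, hyN, hy⟩ := hN a ha ha0
    refine ⟨y, Submodule.mem_sup_left hyN, ?_⟩
    have h1 : B b y = 0 := herm_eq_zero hB (hP hb y hyN)
    rw [map_add, LinearMap.add_apply, h1, add_zero]
    exact hy

theorem inv_orthS {X : V →ₗ[F] V} (hiso : ∀ u v, B (X u) (X v) = B u v) {z : F} (hz : z ≠ 0)
    (hX2 : ∀ v, X (X v) = z • v) {N : Submodule F V} (hN : InvS X N) : InvS X (orthS B N) := by
  intro y hy w hw
  have h1 : w = X (z⁻¹ • X w) := by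
    rw [map_smul, hX2, smul_smul, inv_mul_cancel₀ hz, one_smul]
  rw [h1, hiso]
  exact hy _ (N.smul_mem _ (hN w hw))

end basic

section peel

variable [Finite F] [FiniteDimensional F V]

/-- the generic induction: if every nonzero nondegenerate invariant subspace contains a
nondegenerate invariant subspace of dimension `d`, then there are nondegenerate invariant
subspaces of every dimension `d * j ≤ dim V`. -/
theorem peel (hB : IsHerm B) (hN : NondegOn B ⊤) {X : V →ₗ[F] V}
    (hiso : ∀ u v, B (X u) (X v) = B u v) {z : F} (hz : z ≠ 0) (hX2 : ∀ v, X (X v) = z • v)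
    {d : ℕ} (hd : 0 < d)
    (hstep : ∀ M : Submodule F V, NondegOn B M → InvS X M → M ≠ ⊥ →
      ∃ P : Submodule F V, P ≤ M ∧ finrank F P = d ∧ NondegOn B P ∧ InvS X P) :
    ∀ j : ℕ, d * j ≤ finrank F V →
      ∃ W : Submodule F V, finrank F W = d * j ∧ NondegOn B W ∧ InvS X W := by
  intro j
  induction j with
  | zero =>
    intro _
    refine ⟨⊥, by simp, ?_, ?_⟩
    · intro x hx hx0
      exact absurd ((Submodule.mem_bot F).1 hx) hx0
    · intro v hv
      rw [(Submodule.mem_bot F).1 hv, map_zero]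
      exact Submodule.zero_mem _
  | succ j ih =>
    intro hj
    obtain ⟨W, hWr, hWn, hWi⟩ := ih (by nlinarith)
    have hMn := nondeg_orthS hB hN hWn
    have hMi := inv_orthS hiso hz hX2 hWi
    have hfr := finrank_orthS hB hN W
    have hM0 : orthS B W ≠ ⊥ := by
      intro h0
      rw [h0, finrank_bot] at hfr
      nlinarith
    obtain ⟨P, hPM, hPr, hPn, hPi⟩ := hstep _ hMn hMi hM0
    refine ⟨W ⊔ P, ?_, nondeg_sup hB hWn hPn hPM, ?_⟩
    · rw [finrank_sup_orth hB hWn hPM, hWr, hPr]
      ring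
    · intro v hv
      obtain ⟨a, ha, b, hb, rfl⟩ := Submodule.mem_sup.1 hv
      rw [map_add]
      exact Submodule.add_mem_sup (hWi a ha) (hPi b hb)

end peel

section pieces

/-- Case `l * σ l = 1`: a non-isotropic eigenvector in every nonzero nondegenerate invariant
subspace. -/
theorem exists_piece_one (hσ : Invol σ) (hB : IsHerm B) (h2 : (2 : F) ≠ 0) {X : V →ₗ[F] V}
    (hiso : ∀ u v, B (X u) (X v) = B u v) {l : F} (hl : l * σ l = 1)
    (hX2 : ∀ v, X (X v) = (l * l) • v)
    (M : Submodule F V) (hMn : NondegOn B M) (hMi : InvS X M) (hM0 : M ≠ ⊥) :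
    ∃ P : Submodule F V, P ≤ M ∧ finrank F P = 1 ∧ NondegOn B P ∧ InvS X P := by
  have hl0 : l ≠ 0 := by
    rintro rfl
    rw [zero_mul] at hl
    exact zero_ne_one hl
  have hσl0 : σ l ≠ 0 := by
    intro h
    rw [h, mul_zero] at hl
    exact zero_ne_one hl
  obtain ⟨x, hxM, hx0⟩ := Submodule.exists_mem_ne_zero_of_ne_bot hM0
  obtain ⟨y, hyM, hy⟩ := exists_aniso hσ hB hMn hxM hx0
  -- the two eigen-components of `y`
  obtain ⟨u, hu⟩ : ∃ u, u = l⁻¹ • X y := ⟨_, rfl⟩
  have huM : u ∈ M := by
    rw [hu]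
    exact M.smul_mem _ (hMi y hyM)
  have hXu : X u = l • y := by
    rw [hu, map_smul, hX2, smul_smul]
    congr 1
    field_simp
  have hXy : X y = l • u := by
    rw [hu, smul_smul, mul_inv_cancel₀ hl0, one_smul]
  have huu : B u u = B y y := by
    rw [hu, self_smul, hiso, map_inv₀]
    have : l⁻¹ * (σ l)⁻¹ = 1 := by
      rw [← mul_inv, hl, inv_one]
    rw [this, one_mul]
  have key : ∃ d ∈ M, B d d ≠ 0 ∧ ∃ c : F, X d = c • d := by
    by_cases hp : B (y + u) (y + u) = 0
    · refine ⟨y - u, M.sub_mem hyM huM, ?_, -l, ?_⟩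
      · intro hm
        apply hy
        have h4 : (2 : F) * 2 * B y y = 0 := by
          have e1 := self_add hB y u
          have e2 : B (y - u) (y - u) = B y y + B u u - (B y u + σ (B y u)) := by
            rw [map_sub, map_sub, LinearMap.sub_apply, LinearMap.sub_apply, hB y u]
            ring
          rw [hp] at e1
          rw [hm] at e2
          rw [huu] at e1 e2
          linear_combination (-1 : F) * e1 - e2
        rcases mul_eq_zero.1 h4 with h | h
        · exact absurd (mul_self_eq_zero.1 h) h2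
        · exact h
      · rw [map_sub, hXu, hXy, smul_sub, neg_smul, neg_smul]
        abel
    · refine ⟨y + u, M.add_mem hyM huM, hp, l, ?_⟩
      rw [map_add, hXu, hXy, smul_add]
      abel
  obtain ⟨d, hdM, hdd, c, hc⟩ := key
  have hd0 : d ≠ 0 := by
    rintro rfl
    simp at hdd
  refine ⟨Submodule.span F {d}, ?_, finrank_span_singleton hd0, ?_, ?_⟩
  · rw [Submodule.span_le]
    intro w hw
    rw [Set.mem_singleton_iff] at hw
    rw [hw]
    exact hdM
  · intro w hw hw0
    obtain ⟨a, rfl⟩ := Submodule.mem_span_singleton.1 hw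
    refine ⟨d, Submodule.mem_span_singleton_self d, ?_⟩
    rw [map_smul, LinearMap.smul_apply, smul_eq_mul]
    refine mul_ne_zero ?_ hdd
    rintro rfl
    exact hw0 (zero_smul _ _)
  · intro w hw
    obtain ⟨a, rfl⟩ := Submodule.mem_span_singleton.1 hw
    rw [map_smul, hc, smul_smul]
    exact Submodule.smul_mem _ _ (Submodule.mem_span_singleton_self d)

/-- Case `l * σ l = -1`: a nondegenerate invariant plane in every nonzero nondegenerate invariant
subspace. -/
theorem exists_piece_two (hB : IsHerm B) (h2 : (2 : F) ≠ 0) {X : V →ₗ[F] V}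
    (hiso : ∀ u v, B (X u) (X v) = B u v) {l : F} (hl : l * σ l = -1)
    (hX2 : ∀ v, X (X v) = (l * l) • v)
    (M : Submodule F V) (hMn : NondegOn B M) (hMi : InvS X M) (hM0 : M ≠ ⊥) :
    ∃ P : Submodule F V, P ≤ M ∧ finrank F P = 2 ∧ NondegOn B P ∧ InvS X P := by
  have hl0 : l ≠ 0 := by
    rintro rfl
    rw [zero_mul] at hl
    exact (neg_ne_zero.2 one_ne_zero) hl.symm
  obtain ⟨x, hxM, hx0⟩ := Submodule.exists_mem_ne_zero_of_ne_bot hM0
  -- an eigenvector `e ∈ M` with eigenvalue `c = ± l`
  have key : ∃ c : F, c * σ c = -1 ∧ c * c = l * l ∧ ∃ e ∈ M, e ≠ 0 ∧ X e = c • e := by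
    by_cases hp : x + l⁻¹ • X x = 0
    · refine ⟨-l, ?_, by ring, x - l⁻¹ • X x, M.sub_mem hxM (M.smul_mem _ (hMi x hxM)), ?_, ?_⟩
      · rw [map_neg, neg_mul_neg, hl]
      · intro hm
        apply hx0
        have h4 : (2 : F) • x = 0 := by
          rw [two_smul]
          have := congrArg₂ (· + ·) hp hm
          simp only [add_zero] at this
          rw [← this]
          abel
        exact (smul_eq_zero.1 h4).resolve_left h2
      · rw [map_sub, map_smul, hX2, smul_sub, smul_smul, smul_smul]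
        have e1 : l⁻¹ * (l * l) = l := by field_simp
        have e2 : -l * l⁻¹ = -1 := by field_simp
        rw [e1, e2, neg_smul, neg_smul, one_smul]
        abel
    · refine ⟨l, hl, rfl, x + l⁻¹ • X x, M.add_mem hxM (M.smul_mem _ (hMi x hxM)), hp, ?_⟩
      rw [map_add, map_smul, hX2, smul_add, smul_smul, smul_smul]
      have e1 : l⁻¹ * (l * l) = l := by field_simp
      have e2 : l * l⁻¹ = 1 := by field_simp
      rw [e1, e2, one_smul]
      abel
  obtain ⟨c, hc, hcc, e, heM, he0, hXe⟩ := key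
  have hc0 : c ≠ 0 := by
    rintro rfl
    rw [zero_mul] at hc
    exact (neg_ne_zero.2 one_ne_zero) hc.symm
  have hX2' : ∀ v, X (X v) = (c * c) • v := by
    intro v
    rw [hcc]
    exact hX2 v
  have hee : B e e = 0 := by
    have h1 := hiso e e
    rw [hXe, self_smul, hc] at h1
    have h3 : (2 : F) * B e e = 0 := by linear_combination (-1 : F) * h1
    exact (mul_eq_zero.1 h3).resolve_left h2
  obtain ⟨w, hwM, hw⟩ := hMn e heM he0
  obtain ⟨f, hf⟩ : ∃ f, f = w - c⁻¹ • X w := ⟨_, rfl⟩
  have hfM : f ∈ M := by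
    rw [hf]
    exact M.sub_mem hwM (M.smul_mem _ (hMi w hwM))
  have hXf : X f = (-c) • f := by
    rw [hf, map_sub, map_smul, hX2', smul_sub, smul_smul, smul_smul]
    have e1 : c⁻¹ * (c * c) = c := by field_simp
    have e2 : -c * c⁻¹ = -1 := by field_simp
    rw [e1, e2, neg_smul, neg_smul, one_smul]
    abel
  have hσc : σ c = -c⁻¹ := by
    field_simp
    linear_combination hc
  have hef : B e f = 2 * B e w := by
    have h1 : B e (X w) = c⁻¹ * B e w := by
      have h3 := hiso e w
      rw [hXe, map_smul, LinearMap.smul_apply, smul_eq_mul] at h3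
      rw [← h3]
      field_simp
    rw [hf, map_sub, map_smulₛₗ, h1, smul_eq_mul, map_inv₀, hσc]
    field_simp
    ring
  have hef0 : B e f ≠ 0 := by
    rw [hef]
    exact mul_ne_zero h2 hw
  have hfe0 : B f e ≠ 0 := by
    intro h
    exact hef0 (herm_eq_zero hB h)
  have hff : B f f = 0 := by
    have h1 := hiso f f
    rw [hXf, self_smul, map_neg, neg_mul_neg, hc] at h1
    have h3 : (2 : F) * B f f = 0 := by linear_combination (-1 : F) * h1
    exact (mul_eq_zero.1 h3).resolve_left h2
  have hf0 : f ≠ 0 := by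
    rintro rfl
    simp at hef0
  refine ⟨Submodule.span F {e} ⊔ Submodule.span F {f}, ?_, ?_, ?_, ?_⟩
  · refine sup_le ?_ ?_
    · rw [Submodule.span_le]
      intro w hw
      rw [Set.mem_singleton_iff] at hw
      rw [hw]
      exact heM
    · rw [Submodule.span_le]
      intro w hw
      rw [Set.mem_singleton_iff] at hw
      rw [hw]
      exact hfM
  · have h1 := Submodule.finrank_sup_add_finrank_inf_eq (Submodule.span F {e}) (Submodule.span F {f})
    have h3 : Submodule.span F {e} ⊓ Submodule.span F {f} = ⊥ := by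
      rw [eq_bot_iff]
      rintro v ⟨hve, hvf⟩
      obtain ⟨a, rfl⟩ := Submodule.mem_span_singleton.1 hve
      obtain ⟨b, hb⟩ := Submodule.mem_span_singleton.1 hvf
      rw [Submodule.mem_bot]
      have h4 : B (a • e) e = 0 := by
        rw [map_smul, LinearMap.smul_apply, hee, smul_zero]
      rw [← hb, map_smul, LinearMap.smul_apply, smul_eq_mul] at h4
      have hb0 : b = 0 := (mul_eq_zero.1 h4).resolve_right hfe0
      rw [← hb, hb0, zero_smul]
    rw [h3, finrank_bot, finrank_span_singleton he0, finrank_span_singleton hf0] at h1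
    omega
  · intro v hv hv0
    obtain ⟨a', ha', b', hb', rfl⟩ := Submodule.mem_sup.1 hv
    obtain ⟨a, rfl⟩ := Submodule.mem_span_singleton.1 ha'
    obtain ⟨b, rfl⟩ := Submodule.mem_span_singleton.1 hb'
    by_cases ha0 : a = 0
    · have hb0 : b ≠ 0 := by
        rintro rfl
        apply hv0
        rw [ha0, zero_smul, zero_smul, add_zero]
      refine ⟨e, Submodule.mem_sup_left (Submodule.mem_span_singleton_self e), ?_⟩
      rw [ha0, zero_smul, zero_add, map_smul, LinearMap.smul_apply, smul_eq_mul]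
      exact mul_ne_zero hb0 hfe0
    · refine ⟨f, Submodule.mem_sup_right (Submodule.mem_span_singleton_self f), ?_⟩
      rw [map_add, LinearMap.add_apply, map_smul, map_smul, LinearMap.smul_apply,
        LinearMap.smul_apply, hff, smul_zero, add_zero, smul_eq_mul]
      exact mul_ne_zero ha0 hef0
  · intro v hv
    obtain ⟨a', ha', b', hb', rfl⟩ := Submodule.mem_sup.1 hv
    obtain ⟨a, rfl⟩ := Submodule.mem_span_singleton.1 ha'
    obtain ⟨b, rfl⟩ := Submodule.mem_span_singleton.1 hb'
    rw [map_add, map_smul, map_smul, hXe, hXf, smul_smul, smul_smul]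
    exact Submodule.add_mem_sup (Submodule.smul_mem _ _ (Submodule.mem_span_singleton_self e))
      (Submodule.smul_mem _ _ (Submodule.mem_span_singleton_self f))

end pieces

section even

/-- the `c`-eigenspace as a kernel -/
def eig (X : V →ₗ[F] V) (c : F) : Submodule F V := LinearMap.ker (X - c • LinearMap.id)

theorem mem_eig {X : V →ₗ[F] V} {c : F} {v : V} : v ∈ eig X c ↔ X v = c • v := by
  rw [eig, LinearMap.mem_ker, LinearMap.sub_apply, LinearMap.smul_apply, LinearMap.id_apply,
    sub_eq_zero]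

theorem eig_isCompl (h2 : (2 : F) ≠ 0) {X : V →ₗ[F] V} {l : F} (hl0 : l ≠ 0)
    (hX2 : ∀ v, X (X v) = (l * l) • v) : IsCompl (eig X l) (eig X (-l)) := by
  constructor
  · rw [Submodule.disjoint_def]
    intro v h1 h3
    rw [mem_eig] at h1 h3
    have h4 : (2 * l) • v = 0 := by
      rw [mul_smul, two_smul]
      nth_rewrite 1 [← h1]
      rw [h3, neg_smul, neg_add_cancel]
    exact (smul_eq_zero.1 h4).resolve_left (mul_ne_zero h2 hl0)
  · rw [codisjoint_iff, eq_top_iff]
    intro v _
    have hv : v = (2⁻¹ : F) • (v + l⁻¹ • X v) + (2⁻¹ : F) • (v - l⁻¹ • X v) := by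
      rw [← smul_add]
      have : v + l⁻¹ • X v + (v - l⁻¹ • X v) = (2 : F) • v := by
        rw [two_smul]
        abel
      rw [this, smul_smul, inv_mul_cancel₀ h2, one_smul]
    rw [hv]
    refine Submodule.add_mem_sup (Submodule.smul_mem _ _ ?_) (Submodule.smul_mem _ _ ?_)
    · rw [mem_eig, map_add, map_smul, hX2, smul_add, smul_smul, smul_smul]
      have e1 : l⁻¹ * (l * l) = l := by field_simp
      have e2 : l * l⁻¹ = 1 := by field_simp
      rw [e1, e2, one_smul]
      abel
    · rw [mem_eig, map_sub, map_smul, hX2, smul_sub, smul_smul, smul_smul]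
      have e1 : l⁻¹ * (l * l) = l := by field_simp
      have e2 : -l * l⁻¹ = -1 := by field_simp
      rw [e1, e2, neg_smul, neg_smul, one_smul]
      abel

theorem eig_le_orthS (h2 : (2 : F) ≠ 0) {X : V →ₗ[F] V}
    (hiso : ∀ u v, B (X u) (X v) = B u v) {c : F} (hc : c * σ c = -1) :
    eig X c ≤ orthS B (eig X c) := by
  intro v hv u hu
  rw [mem_eig] at hv hu
  have h1 := hiso u v
  rw [hu, hv, map_smulₛₗ, map_smul, LinearMap.smul_apply, smul_eq_mul, smul_eq_mul] at h1
  have h3 : (2 : F) * B u v = 0 := by linear_combination (-1 : F) * h1 + B u v * hc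
  exact (mul_eq_zero.1 h3).resolve_left h2

variable [Finite F] [FiniteDimensional F V]

theorem finrank_eig (hB : IsHerm B) (hN : NondegOn B ⊤) (h2 : (2 : F) ≠ 0) {X : V →ₗ[F] V}
    (hiso : ∀ u v, B (X u) (X v) = B u v) {l : F} (hl : l * σ l = -1)
    (hX2 : ∀ v, X (X v) = (l * l) • v) :
    finrank F (eig X l) = finrank F (eig X (-l)) ∧ finrank F V = 2 * finrank F (eig X l) := by
  have hl0 : l ≠ 0 := by
    rintro rfl
    rw [zero_mul] at hl
    exact (neg_ne_zero.2 one_ne_zero) hl.symm
  have hl' : (-l) * σ (-l) = -1 := by rw [map_neg, neg_mul_neg, hl]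
  have h1 := Submodule.finrank_add_eq_of_isCompl (eig_isCompl h2 hl0 hX2)
  have h3 := finrank_orthS hB hN (eig X l)
  have h4 := finrank_orthS hB hN (eig X (-l))
  have h5 := Submodule.finrank_mono (eig_le_orthS (B := B) h2 hiso hl)
  have h6 := Submodule.finrank_mono (eig_le_orthS (B := B) h2 hiso hl')
  omega

omit [Finite F] in
theorem det_eq (h2 : (2 : F) ≠ 0) {X : V →ₗ[F] V} {l : F} (hl0 : l ≠ 0)
    (hX2 : ∀ v, X (X v) = (l * l) • v) :
    LinearMap.det X = l ^ finrank F (eig X l) * (-l) ^ finrank F (eig X (-l)) := by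
  have hc := eig_isCompl h2 hl0 hX2
  obtain ⟨e, he⟩ : ∃ e : ((eig X l) × (eig X (-l))) ≃ₗ[F] V, ∀ a b, e (a, b) = (a : V) + (b : V) :=
    ⟨Submodule.prodEquivOfIsCompl _ _ hc, fun a b => by
      rw [Submodule.coe_prodEquivOfIsCompl']⟩
  have hconj : X = (e : _ →ₗ[F] V) ∘ₗ
      (LinearMap.prodMap (l • (LinearMap.id : (eig X l) →ₗ[F] (eig X l)))
        ((-l) • (LinearMap.id : (eig X (-l)) →ₗ[F] (eig X (-l))))) ∘ₗ
      (e.symm : V →ₗ[F] _) := by
    apply LinearMap.ext
    intro v
    obtain ⟨⟨a, b⟩, rfl⟩ := e.surjective v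
    rw [LinearMap.comp_apply, LinearMap.comp_apply, LinearEquiv.coe_coe, LinearEquiv.coe_coe,
      LinearEquiv.symm_apply_apply, LinearMap.prodMap_apply, he, he, map_add,
      mem_eig.1 a.2, mem_eig.1 b.2]
    simp
  have h1 := congrArg (fun f : V →ₗ[F] V => LinearMap.det f) hconj
  rw [show LinearMap.det X = _ from h1, LinearMap.det_conj, LinearMap.det_prodMap, LinearMap.det_smul, LinearMap.det_smul]
  simp only [LinearMap.det_id, mul_one]

theorem det_eq' (hB : IsHerm B) (hN : NondegOn B ⊤) (h2 : (2 : F) ≠ 0) {X : V →ₗ[F] V}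
    (hiso : ∀ u v, B (X u) (X v) = B u v) {l : F} (hl : l * σ l = -1)
    (hX2 : ∀ v, X (X v) = (l * l) • v) :
    ∃ k : ℕ, finrank F V = 2 * k ∧ LinearMap.det X = (-(l * l)) ^ k := by
  have hl0 : l ≠ 0 := by
    rintro rfl
    rw [zero_mul] at hl
    exact (neg_ne_zero.2 one_ne_zero) hl.symm
  obtain ⟨h1, h3⟩ := finrank_eig hB hN h2 hiso hl hX2
  refine ⟨finrank F (eig X l), h3, ?_⟩
  rw [det_eq h2 hl0 hX2, ← h1, ← mul_pow]
  congr 1
  ring

end even

section restricted

variable [Finite F] [FiniteDimensional F V]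

/-- A nondegenerate invariant subspace has even dimension when `l * σ l = -1`. -/
theorem even_finrank_of_inv (hB : IsHerm B) (h2 : (2 : F) ≠ 0) {X : V →ₗ[F] V}
    (hiso : ∀ u v, B (X u) (X v) = B u v) {l : F} (hl : l * σ l = -1)
    (hX2 : ∀ v, X (X v) = (l * l) • v) {W : Submodule F V} (hWn : NondegOn B W)
    (hWi : InvS X W) : Even (finrank F W) := by
  have hB' : IsHerm (B.domRestrict₁₂ W W) := fun x y => hB x y
  have hN' : NondegOn (B.domRestrict₁₂ W W) ⊤ := by
    intro x _ hx0
    have hx0' : (x : V) ≠ 0 := fun h => hx0 (Subtype.ext h)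
    obtain ⟨y, hyW, hy⟩ := hWn x x.2 hx0'
    exact ⟨⟨y, hyW⟩, trivial, hy⟩
  have hiso' : ∀ u v : W, (B.domRestrict₁₂ W W) ((X.restrict hWi) u) ((X.restrict hWi) v)
      = (B.domRestrict₁₂ W W) u v := fun u v => hiso u v
  have hX2' : ∀ v : W, (X.restrict hWi) ((X.restrict hWi) v) = (l * l) • v := by
    intro v
    apply Subtype.ext
    exact hX2 v
  obtain ⟨-, h⟩ := finrank_eig hB' hN' h2 hiso' hl hX2'
  exact ⟨_, by rw [h, two_mul]⟩

end restricted

end Cfsg.Agent.Lib.Helper84_SUND_UCa
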