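import Mathlib
import Cfsg.Agent.Lib.Helper84_OTSDefs
import Cfsg.Agent.Lib.Helper84_SUND_UCa
import Cfsg.Agent.Lib.Helper44_QuadClass

set_option autoImplicit false

/-!
Abstract part of package OA of S5972 (helper84): hyperbolic pairs inside a nondegenerate subspace of a
quadratic space over a finite field, and involutory isometries (eigenspaces `±1`).
-/

namespace Cfsg.Agent.Lib.Helper84_OTS_OAa

open Module Cfsg.Agent.Lib.Helper40_SpBasic Cfsg.Agent.Lib.Helper40_OConj
  Cfsg.Agent.Lib.Helper84_OTSDefs Cfsg.Agent.Lib.Helper84_SUND_UCa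

universe v

variable {F : Type v} [Field F] {V : Type v} [AddCommGroup V] [Module F V]

section peel

/-- nondegeneracy of the restricted quadratic form on the subtype -/
theorem nondegenerate_comp_subtype [FiniteDimensional F V] (Q : QuadraticForm F V)
    {C : Submodule F V} (hC : NDOn (pol Q) C) :
    (QuadraticMap.polarBilin (Q.comp C.subtype)).Nondegenerate := by
  apply LinearMap.BilinForm.Nondegenerate.ofSeparatingLeft
  intro w hw
  apply Subtype.ext
  apply hC w w.2
  intro y hy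
  have h1 := hw ⟨y, hy⟩
  rw [QuadraticMap.polarBilin_apply_apply,
    Cfsg.Agent.Lib.Helper44_QuadClass.polar_comp_subtype] at h1
  exact h1

/-- a nondegenerate subspace of dimension at least three over a finite field contains a
hyperbolic pair -/
theorem exists_hyp_pair [Finite F] [FiniteDimensional F V] (Q : QuadraticForm F V)
    {C : Submodule F V} (hC : NDOn (pol Q) C) (hdim : 3 ≤ finrank F C) :
    ∃ e ∈ C, ∃ f ∈ C, Q e = 0 ∧ Q f = 0 ∧ pol Q e f = 1 := by
  obtain ⟨e, he0, hQe⟩ := Cfsg.Agent.Lib.Helper44_QuadClass.exists_singular (Q.comp C.subtype) hdim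
  obtain ⟨f, hQf, hef⟩ := Cfsg.Agent.Lib.Helper44_QuadClass.exists_hyperbolic_partner
    (Q.comp C.subtype) (nondegenerate_comp_subtype Q hC) he0 hQe
  rw [Cfsg.Agent.Lib.Helper44_QuadClass.polar_comp_subtype] at hef
  exact ⟨e, e.2, f, f.2, hQe, hQf, hef⟩

variable (Q : QuadraticForm F V) (C : Submodule F V) (e f : V)

/-- the orthogonal complement of `e, f` inside `C` -/
noncomputable def cperp : Submodule F V := C ⊓ (LinearMap.ker (pol Q e) ⊓ LinearMap.ker (pol Q f))

variable {Q C e f}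

theorem mem_cperp {w : V} : w ∈ cperp Q C e f ↔ w ∈ C ∧ pol Q e w = 0 ∧ pol Q f w = 0 := by
  rw [cperp, Submodule.mem_inf, Submodule.mem_inf, LinearMap.mem_ker, LinearMap.mem_ker]

theorem cperp_le : cperp Q C e f ≤ C := fun _ hw => (mem_cperp.1 hw).1

/-- the component of a vector orthogonal to a hyperbolic pair -/
theorem sub_mem_cperp (he : e ∈ C) (hf : f ∈ C) (hQe : Q e = 0) (hQf : Q f = 0)
    (hef : pol Q e f = 1) {c : V} (hc : c ∈ C) :
    c - pol Q f c • e - pol Q e c • f ∈ cperp Q C e f := by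
  have hfe : pol Q f e = 1 := by rw [pol_comm, hef]
  have hee : pol Q e e = 0 := by rw [pol_self, hQe, mul_zero]
  have hff : pol Q f f = 0 := by rw [pol_self, hQf, mul_zero]
  rw [mem_cperp]
  refine ⟨C.sub_mem (C.sub_mem hc (C.smul_mem _ he)) (C.smul_mem _ hf), ?_, ?_⟩
  · rw [map_sub, map_sub, map_smul, map_smul, hee, hef]
    simp
  · rw [map_sub, map_sub, map_smul, map_smul, hff, hfe]
    simp

theorem ndOn_cperp (hC : NDOn (pol Q) C) (he : e ∈ C) (hf : f ∈ C) (hQe : Q e = 0)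
    (hQf : Q f = 0) (hef : pol Q e f = 1) : NDOn (pol Q) (cperp Q C e f) := by
  intro w hw hwo
  obtain ⟨hwC, hwe, hwf⟩ := mem_cperp.1 hw
  apply hC w hwC
  intro c hc
  have h1 := hwo _ (sub_mem_cperp he hf hQe hQf hef hc)
  rw [map_sub, map_sub, map_smul, map_smul, pol_comm Q w e, pol_comm Q w f, hwe, hwf] at h1
  simpa using h1

theorem finrank_cperp [FiniteDimensional F V] (he : e ∈ C) (hf : f ∈ C) (hQe : Q e = 0)
    (hQf : Q f = 0) (hef : pol Q e f = 1) : finrank F (cperp Q C e f) + 2 = finrank F C := by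
  have hfe : pol Q f e = 1 := by rw [pol_comm, hef]
  have hee : pol Q e e = 0 := by rw [pol_self, hQe, mul_zero]
  have hff : pol Q f f = 0 := by rw [pol_self, hQf, mul_zero]
  set φ : C →ₗ[F] F × F := ((pol Q e).prod (pol Q f)).comp C.subtype with hφ
  have hsurj : LinearMap.range φ = ⊤ := by
    rw [LinearMap.range_eq_top]
    rintro ⟨a, b⟩
    refine ⟨⟨b • e + a • f, C.add_mem (C.smul_mem _ he) (C.smul_mem _ hf)⟩, ?_⟩
    rw [hφ]
    have e1 : pol Q e (b • e + a • f) = a := by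
      rw [map_add, map_smul, map_smul, hee, hef]
      simp
    have e2 : pol Q f (b • e + a • f) = b := by
      rw [map_add, map_smul, map_smul, hff, hfe]
      simp
    exact Prod.ext e1 e2
  have h1 := LinearMap.finrank_range_add_finrank_ker φ
  rw [hsurj, finrank_top, Module.finrank_prod, Module.finrank_self] at h1
  have h2 : (LinearMap.ker φ).map C.subtype = cperp Q C e f := by
    ext w
    rw [Submodule.mem_map, mem_cperp]
    constructor
    · rintro ⟨c, hc, rfl⟩
      rw [LinearMap.mem_ker, hφ] at hc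
      have hc1 : pol Q e (c : V) = 0 := by simpa using congrArg Prod.fst hc
      have hc2 : pol Q f (c : V) = 0 := by simpa using congrArg Prod.snd hc
      exact ⟨c.2, hc1, hc2⟩
    · rintro ⟨hwC, h1, h2⟩
      refine ⟨⟨w, hwC⟩, ?_, rfl⟩
      rw [LinearMap.mem_ker, hφ]
      ext
      · simpa using h1
      · simpa using h2
  have h3 : finrank F ((LinearMap.ker φ).map C.subtype) = finrank F (LinearMap.ker φ) :=
    (Submodule.equivMapOfInjective C.subtype C.injective_subtype _).finrank_eq.symm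
  rw [← h2, h3]
  omega

/-- adding the singular vector `e` to a totally singular subspace of the complement -/
theorem tsOn_sup_span {E : Submodule F V} (hE : E ≤ cperp Q C e f) (hEts : TSOn Q E)
    (hQe : Q e = 0) : TSOn Q (E ⊔ Submodule.span F {e}) := by
  apply TSOn.sup hEts
  · intro w hw
    obtain ⟨a, rfl⟩ := Submodule.mem_span_singleton.1 hw
    rw [QuadraticMap.map_smul, hQe, smul_zero]
  · intro x hx y hy
    obtain ⟨a, rfl⟩ := Submodule.mem_span_singleton.1 hy
    rw [map_smul, pol_comm, (mem_cperp.1 (hE hx)).2.1, smul_zero]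

theorem finrank_sup_span [FiniteDimensional F V] {E : Submodule F V} (hE : E ≤ cperp Q C e f)
    (hef : pol Q e f = 1) : finrank F (E ⊔ Submodule.span F {e} : Submodule F V) = finrank F E + 1 := by
  have he0 : e ≠ 0 := by
    rintro rfl
    rw [map_zero, LinearMap.zero_apply] at hef
    exact zero_ne_one hef
  have hdisj : E ⊓ Submodule.span F {e} = ⊥ := by
    rw [eq_bot_iff]
    rintro w ⟨hwE, hw⟩
    obtain ⟨a, rfl⟩ := Submodule.mem_span_singleton.1 hw
    have h1 := (mem_cperp.1 (hE hwE)).2.2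
    rw [map_smul, pol_comm, hef, smul_eq_mul, mul_one] at h1
    rw [h1, zero_smul]
    exact Submodule.zero_mem _
  have h1 := Submodule.finrank_sup_add_finrank_inf_eq E (Submodule.span F {e})
  rw [hdisj, finrank_bot, add_zero, finrank_span_singleton he0] at h1
  exact h1

end peel

section involution

variable {Q : QuadraticForm F V} {X : Module.End F V}

theorem mem_eig_one {v : V} : v ∈ eig X 1 ↔ X v = v := by
  rw [mem_eig, one_smul]

theorem mem_eig_neg_one {v : V} : v ∈ eig X (-1) ↔ X v = -v := by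
  rw [mem_eig, neg_smul, one_smul]

theorem eig_isCompl_one (h2 : (2 : F) ≠ 0) (hX2 : ∀ v, X (X v) = v) :
    IsCompl (eig X 1) (eig X (-1)) :=
  eig_isCompl h2 one_ne_zero (fun v => by rw [hX2, one_mul, one_smul])

theorem pol_isometry (hiso : ∀ v, Q (X v) = Q v) (u v : V) : pol Q (X u) (X v) = pol Q u v := by
  rw [pol_apply, pol_apply, ← map_add, hiso, hiso, hiso]

/-- the two eigenspaces are orthogonal -/
theorem eig_orth (h2 : (2 : F) ≠ 0) (hiso : ∀ v, Q (X v) = Q v) {u v : V} (hu : u ∈ eig X 1)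
    (hv : v ∈ eig X (-1)) : pol Q u v = 0 := by
  have h1 := pol_isometry hiso u v
  rw [mem_eig_one.1 hu, mem_eig_neg_one.1 hv, map_neg] at h1
  have h3 : (2 : F) * pol Q u v = 0 := by linear_combination (-1 : F) * h1
  exact (mul_eq_zero.1 h3).resolve_left h2

theorem ndOn_eig_neg_one (h2 : (2 : F) ≠ 0) (hQ : (pol Q).Nondegenerate)
    (hiso : ∀ v, Q (X v) = Q v) (hX2 : ∀ v, X (X v) = v) : NDOn (pol Q) (eig X (-1)) := by
  intro w hw hwo
  apply hQ.1 w
  intro y
  have hy : y ∈ eig X 1 ⊔ eig X (-1) := by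
    rw [(eig_isCompl_one h2 hX2).sup_eq_top]
    exact Submodule.mem_top
  obtain ⟨a, ha, b, hb, rfl⟩ := Submodule.mem_sup.1 hy
  rw [map_add, hwo b hb, add_zero, pol_comm, eig_orth h2 hiso ha hw]

theorem ndOn_eig_one (h2 : (2 : F) ≠ 0) (hQ : (pol Q).Nondegenerate)
    (hiso : ∀ v, Q (X v) = Q v) (hX2 : ∀ v, X (X v) = v) : NDOn (pol Q) (eig X 1) := by
  intro w hw hwo
  apply hQ.1 w
  intro y
  have hy : y ∈ eig X 1 ⊔ eig X (-1) := by
    rw [(eig_isCompl_one h2 hX2).sup_eq_top]
    exact Submodule.mem_top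
  obtain ⟨a, ha, b, hb, rfl⟩ := Submodule.mem_sup.1 hy
  rw [map_add, hwo a ha, zero_add, eig_orth h2 hiso hw hb]

/-- a vector orthogonal to the `(-1)`-eigenspace is fixed -/
theorem fixed_of_orth_eig (h2 : (2 : F) ≠ 0) (hQ : (pol Q).Nondegenerate)
    (hiso : ∀ v, Q (X v) = Q v) (hX2 : ∀ v, X (X v) = v) {v : V}
    (hv : ∀ c ∈ eig X (-1), pol Q c v = 0) : X v = v := by
  have hy : v ∈ eig X 1 ⊔ eig X (-1) := by
    rw [(eig_isCompl_one h2 hX2).sup_eq_top]
    exact Submodule.mem_top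
  obtain ⟨a, ha, b, hb, rfl⟩ := Submodule.mem_sup.1 hy
  have hb0 : b = 0 := by
    apply ndOn_eig_neg_one h2 hQ hiso hX2 b hb
    intro c hc
    have h1 := hv c hc
    rw [map_add, pol_comm Q c a, eig_orth h2 hiso ha hc, zero_add] at h1
    rw [pol_comm]
    exact h1
  rw [hb0, add_zero]
  exact mem_eig_one.1 ha

theorem finrank_eig_add [FiniteDimensional F V] (h2 : (2 : F) ≠ 0) (hX2 : ∀ v, X (X v) = v) :
    finrank F (eig X 1) + finrank F (eig X (-1)) = finrank F V :=
  Submodule.finrank_add_eq_of_isCompl (eig_isCompl_one h2 hX2)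

theorem even_finrank_eig_neg_one [FiniteDimensional F V] (h2 : (2 : F) ≠ 0)
    (hX2 : ∀ v, X (X v) = v) (hdet : LinearMap.det X = 1) : Even (finrank F (eig X (-1))) := by
  have h1 := det_eq h2 (one_ne_zero (α := F)) (X := X) (fun v => by rw [hX2, one_mul, one_smul])
  rw [hdet, one_pow, one_mul] at h1
  rcases Nat.even_or_odd (finrank F (eig X (-1))) with h | h
  · exact h
  · rw [h.neg_one_pow] at h1
    exfalso
    apply h2
    linear_combination h1

/-- sums of subspaces of the two eigenspaces are invariant -/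
theorem inv_sup {E₁ E₂ : Submodule F V} (h1 : E₁ ≤ eig X 1) (h3 : E₂ ≤ eig X (-1)) :
    ∀ w ∈ E₁ ⊔ E₂, X w ∈ E₁ ⊔ E₂ := by
  intro w hw
  obtain ⟨a, ha, b, hb, rfl⟩ := Submodule.mem_sup.1 hw
  rw [map_add, mem_eig_one.1 (h1 ha), mem_eig_neg_one.1 (h3 hb)]
  exact Submodule.add_mem_sup ha (E₂.neg_mem hb)

theorem finrank_sup_eig [FiniteDimensional F V] (h2 : (2 : F) ≠ 0) (hX2 : ∀ v, X (X v) = v)
    {E₁ E₂ : Submodule F V} (h1 : E₁ ≤ eig X 1) (h3 : E₂ ≤ eig X (-1)) :
    finrank F (E₁ ⊔ E₂ : Submodule F V) = finrank F E₁ + finrank F E₂ := by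
  have hdisj : E₁ ⊓ E₂ = ⊥ := by
    rw [eq_bot_iff]
    exact (inf_le_inf h1 h3).trans (eig_isCompl_one h2 hX2).inf_eq_bot.le
  have h4 := Submodule.finrank_sup_add_finrank_inf_eq E₁ E₂
  rw [hdisj, finrank_bot, add_zero] at h4
  exact h4

theorem tsOn_sup_eig (h2 : (2 : F) ≠ 0) (hiso : ∀ v, Q (X v) = Q v)
    {E₁ E₂ : Submodule F V} (h1 : E₁ ≤ eig X 1) (h3 : E₂ ≤ eig X (-1)) (ht1 : TSOn Q E₁)
    (ht2 : TSOn Q E₂) : TSOn Q (E₁ ⊔ E₂) :=
  TSOn.sup ht1 ht2 (fun _ hx _ hy => eig_orth h2 hiso (h1 hx) (h3 hy))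

end involution

end Cfsg.Agent.Lib.Helper84_OTS_OAa
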