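import Mathlib
import Cfsg.Prelude.Def_GeometricClasses
import Cfsg.Agent.Lib.Helper84_OTS_OAa
import Cfsg.Agent.Lib.Helper44_ReflProd
import Cfsg.Agent.Lib.Helper44_OmegaOdd

set_option autoImplicit false

/-!
Package OA of S5972 (helper84), spinor norm part: if `-1` is a square in the finite field `F`, `C` is a
nondegenerate subspace of dimension `2k` and the map that negates `C` and fixes its orthogonal lies in `Ω`,
then `C` contains a totally singular subspace of dimension `k`.
-/

namespace Cfsg.Agent.Lib.Helper84_OTS_OAb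

open Module Matrix Cfsg.Agent.Lib.Helper40_SpBasic Cfsg.Agent.Lib.Helper40_OConj
  Cfsg.Agent.Lib.Helper84_OTSDefs Cfsg.Agent.Lib.Helper84_OTS_OAa
  Cfsg.Agent.Lib.Helper44_Refl Cfsg.Agent.Lib.Helper44_ReflProd

universe v

variable {ι : Type} [Fintype ι] [DecidableEq ι] {F : Type v} [Field F]
variable (Q : QuadraticForm F (ι → F))

/-- `M` is the matrix of an element of `Ω(Q)` -/
def InOmega (M : Matrix ι ι F) : Prop :=
  ∃ g : ↥(Cfsg.isometryGroup F (⇑Q)), g ∈ Cfsg.Omega F (⇑Q) ∧
    ((g : Matrix.GeneralLinearGroup ι F) : Matrix ι ι F) = M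

theorem InOmega.mul {Q : QuadraticForm F (ι → F)} {M M' : Matrix ι ι F} (h : InOmega Q M)
    (h' : InOmega Q M') : InOmega Q (M * M') := by
  obtain ⟨g, hg, rfl⟩ := h
  obtain ⟨g', hg', rfl⟩ := h'
  exact ⟨g * g', (Cfsg.Omega F (⇑Q)).mul_mem hg hg', rfl⟩

/-- `M` acts as `-1` on `C` and as `1` on the orthogonal of `C`. -/
def IsNeg (M : Matrix ι ι F) (C : Submodule F (ι → F)) : Prop :=
  (∀ c ∈ C, M *ᵥ c = -c) ∧ (∀ v, (∀ c ∈ C, pol Q c v = 0) → M *ᵥ v = v)

omit [Fintype ι] [DecidableEq ι] in
theorem pol_eq (x y : ι → F) : pol Q x y = QuadraticMap.polar (⇑Q) x y := rfl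

/-- the product of the reflections in two orthogonal nonsingular vectors -/
theorem refl_mul_refl_mulVec {u u' : ι → F} (huu' : pol Q u u' = 0) (x : ι → F) :
    (Cfsg.reflectionMatrix (⇑Q) u * Cfsg.reflectionMatrix (⇑Q) u') *ᵥ x
      = x - ((Q u')⁻¹ * pol Q u' x) • u' - ((Q u)⁻¹ * pol Q u x) • u := by
  rw [← Matrix.mulVec_mulVec, reflectionMatrix_mulVec Q u' x, reflectionMatrix_mulVec,
    ← pol_eq, ← pol_eq, map_sub, map_smul, huu']
  simp

section base

variable [Fintype F]

/-- the base case: a nondegenerate plane -/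
theorem base_case (h2 : (2 : F) ≠ 0) (hs : IsSquare (-1 : F)) (C : Submodule F (ι → F))
    (M : Matrix ι ι F) (hdim : finrank F C = 2) (hM : IsNeg Q M C)
    (hΩ : InOmega Q M) : ∃ e ∈ C, e ≠ 0 ∧ Q e = 0 := by
  classical
  by_contra hcon
  push Not at hcon
  -- a nonzero vector of `C`
  have hCpos : 0 < finrank F C := by omega
  obtain ⟨c₀, hc₀⟩ := Module.finrank_pos_iff_exists_ne_zero.1 hCpos
  have hu : Q (c₀ : ι → F) ≠ 0 := fun h => hcon c₀ c₀.2 (fun h0 => hc₀ (Subtype.ext h0)) h
  set u : ι → F := (c₀ : ι → F) with hudef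
  have huC : u ∈ C := c₀.2
  -- a nonzero vector of `C` orthogonal to `u`
  set φ : C →ₗ[F] F := (pol Q u).comp C.subtype with hφ
  have h1 := LinearMap.finrank_range_add_finrank_ker φ
  have h3 : finrank F (LinearMap.range φ) ≤ 1 := by
    have := Submodule.finrank_le (LinearMap.range φ)
    rwa [Module.finrank_self] at this
  have hkpos : 0 < finrank F (LinearMap.ker φ) := by omega
  have hkne : LinearMap.ker φ ≠ ⊥ := by
    intro h
    rw [h, finrank_bot] at hkpos
    exact lt_irrefl _ hkpos
  obtain ⟨c₁, hc₁k, hc₁⟩ := Submodule.exists_mem_ne_zero_of_ne_bot hkne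
  set u' : ι → F := (c₁ : ι → F) with hu'def
  have hu'C : u' ∈ C := c₁.2
  have hu'0 : u' ≠ 0 := fun h => hc₁ (Subtype.ext h)
  have huu' : pol Q u u' = 0 := by
    rw [LinearMap.mem_ker, hφ] at hc₁k
    exact hc₁k
  have hu' : Q u' ≠ 0 := fun h => hcon u' hu'C hu'0 h
  have hu'u : pol Q u' u = 0 := by rw [pol_comm, huu']
  have huu : pol Q u u = 2 * Q u := pol_self Q u
  have hu'u'' : pol Q u' u' = 2 * Q u' := pol_self Q u'
  -- `C` is spanned by `u, u'`
  have hli : LinearIndependent F ![u, u'] := by
    rw [LinearIndependent.pair_iff]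
    intro a b hab
    have e1 : pol Q u (a • u + b • u') = 0 := by rw [hab, map_zero]
    have e2 : pol Q u' (a • u + b • u') = 0 := by rw [hab, map_zero]
    rw [map_add, map_smul, map_smul, huu, huu', smul_zero, add_zero, smul_eq_mul] at e1
    rw [map_add, map_smul, map_smul, hu'u, hu'u'', smul_zero, zero_add, smul_eq_mul] at e2
    constructor
    · exact (mul_eq_zero.1 e1).resolve_right (mul_ne_zero h2 hu)
    · exact (mul_eq_zero.1 e2).resolve_right (mul_ne_zero h2 hu')
  have hspan : Submodule.span F {u, u'} = C := by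
    apply Submodule.eq_of_le_of_finrank_eq
    · rw [Submodule.span_le]
      intro x hx
      rcases hx with rfl | rfl
      · exact huC
      · exact hu'C
    · have hr : Set.range ![u, u'] = {u, u'} := by
        ext z
        simp only [Matrix.range_cons, Matrix.range_empty, Set.union_empty, Set.mem_union,
          Set.mem_singleton_iff, Set.mem_insert_iff]
      have := finrank_span_eq_card hli
      rw [hr, Fintype.card_fin] at this
      rw [hdim, this]
  -- `M` is the product of the two reflections
  have hMeq : M = Cfsg.reflectionMatrix (⇑Q) u * Cfsg.reflectionMatrix (⇑Q) u' := by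
    apply matrix_ext_mulVec
    intro x
    rw [refl_mul_refl_mulVec Q huu']
    set c : ι → F := ((2 * Q u)⁻¹ * pol Q u x) • u + ((2 * Q u')⁻¹ * pol Q u' x) • u' with hc
    have hcC : c ∈ C := C.add_mem (C.smul_mem _ huC) (C.smul_mem _ hu'C)
    have hc' : ∀ y ∈ C, pol Q y (x - c) = 0 := by
      intro y hy
      rw [← hspan] at hy
      obtain ⟨a, b, rfl⟩ := Submodule.mem_span_pair.1 hy
      rw [map_add, map_smul, map_smul, LinearMap.add_apply, LinearMap.smul_apply,
        LinearMap.smul_apply, map_sub, map_sub, hc, map_add, map_add, map_smul, map_smul,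
        map_smul, map_smul, huu, huu', hu'u, hu'u'']
      simp only [smul_eq_mul, mul_zero, add_zero, zero_add]
      field_simp
      ring
    have e1 := hM.1 c hcC
    have e2 := hM.2 (x - c) hc'
    have hx : x = c + (x - c) := by abel
    conv_lhs => rw [hx, Matrix.mulVec_add, e1, e2]
    rw [hc]
    have i1 : (Q u')⁻¹ * pol Q u' x = 2 * ((2 * Q u')⁻¹ * pol Q u' x) := by
      field_simp
    have i2 : (Q u)⁻¹ * pol Q u x = 2 * ((2 * Q u)⁻¹ * pol Q u x) := by
      field_simp
    rw [i1, i2]
    module
  -- the spinor norm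
  have hrp : IsReflProd Q (Cfsg.reflectionMatrix (⇑Q) u * Cfsg.reflectionMatrix (⇑Q) u') (1 + 1)
      (Q u * Q u') := (IsReflProd.refl Q hu).mul (IsReflProd.refl Q hu')
  rw [hMeq] at hΩ
  obtain ⟨-, t, ht⟩ := (hrp.exists_mem_omega_iff h2).1 hΩ
  obtain ⟨s, hs⟩ := hs
  have ht0 : t ≠ 0 := by
    rintro rfl
    rw [mul_zero] at ht
    exact mul_ne_zero hu hu' ht
  -- the singular vector
  refine hcon ((s * Q u') • u + t • u') (C.add_mem (C.smul_mem _ huC) (C.smul_mem _ hu'C)) ?_ ?_
  · intro h0
    have e2 : pol Q u' ((s * Q u') • u + t • u') = 0 := by rw [h0, map_zero]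
    rw [map_add, map_smul, map_smul, hu'u, hu'u'', smul_zero, zero_add, smul_eq_mul] at e2
    exact (mul_ne_zero ht0 (mul_ne_zero h2 hu')) e2
  · rw [Cfsg.Agent.Lib.Helper44_QuadClass.map_smul_add, QuadraticMap.map_smul, ← pol_eq, map_smul,
      huu']
    simp only [smul_eq_mul, mul_zero, add_zero]
    linear_combination (-(Q u' * Q u' * Q u)) * hs - Q u' * ht

end base

section main

variable [Fintype F]

/-- **Main lemma**: if `-1` is a square and the negation of the nondegenerate `2k`-space `C` lies in `Ω`,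
then `C` contains a totally singular `k`-space. -/
theorem exists_ts_of_neg (h2 : (2 : F) ≠ 0) (hs : IsSquare (-1 : F)) :
    ∀ (k : ℕ) (C : Submodule F (ι → F)) (M : Matrix ι ι F), NDOn (pol Q) C →
      finrank F C = 2 * k → IsNeg Q M C → InOmega Q M →
      ∃ E : Submodule F (ι → F), E ≤ C ∧ TSOn Q E ∧ finrank F E = k := by
  intro k
  induction k with
  | zero =>
    intro C M _ _ _ _
    exact ⟨⊥, bot_le, tsOn_bot Q, finrank_bot F _⟩
  | succ k ih =>
    intro C M hC hdim hM hΩ
    by_cases hk : k = 0
    · subst hk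
      obtain ⟨e, heC, he0, hQe⟩ := base_case Q h2 hs C M (by rw [hdim]) hM hΩ
      refine ⟨Submodule.span F {e}, ?_, ?_, finrank_span_singleton he0⟩
      · rw [Submodule.span_le]
        intro x hx
        rw [Set.mem_singleton_iff.1 hx]
        exact heC
      · intro w hw
        obtain ⟨a, rfl⟩ := Submodule.mem_span_singleton.1 hw
        rw [QuadraticMap.map_smul, hQe, smul_zero]
    · obtain ⟨e, heC, f, hfC, hQe, hQf, hef⟩ := exists_hyp_pair Q hC (by omega)
      have hfe : pol Q f e = 1 := by rw [pol_comm, hef]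
      have hC' := ndOn_cperp hC heC hfC hQe hQf hef
      have hdim' := finrank_cperp (Q := Q) heC hfC hQe hQf hef
      set N : Matrix ι ι F :=
        Cfsg.reflectionMatrix (⇑Q) (e - f) * Cfsg.reflectionMatrix (⇑Q) (e + f) with hN
      have hNΩ : InOmega Q N :=
        ((hyperbolic_pair_isReflProd Q hQe hQf hef).exists_mem_omega_iff h2).2 ⟨even_two, hs⟩
      have hNv : ∀ x, N *ᵥ x = x - (2 * pol Q f x) • e - (2 * pol Q e x) • f :=
        fun x => hyperbolic_pair_mulVec Q hQe hQf hef x
      have hM' : IsNeg Q (M * N) (cperp Q C e f) := by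
        constructor
        · intro c hc
          obtain ⟨hcC, hce, hcf⟩ := mem_cperp.1 hc
          rw [← Matrix.mulVec_mulVec, hNv, hce, hcf]
          simp only [mul_zero, zero_smul, sub_zero]
          exact hM.1 c hcC
        · intro x hx
          set x₀ : ι → F := x - pol Q f x • e - pol Q e x • f with hx₀
          have hx₀e : pol Q e x₀ = 0 := by
            rw [hx₀, map_sub, map_sub, map_smul, map_smul, pol_self, hQe, hef]
            simp
          have hx₀f : pol Q f x₀ = 0 := by
            rw [hx₀, map_sub, map_sub, map_smul, map_smul, pol_self, hQf, hfe]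
            simp
          have hx₀C : ∀ c ∈ C, pol Q c x₀ = 0 := by
            intro c hc
            have hc' := sub_mem_cperp heC hfC hQe hQf hef hc
            have e1 := hx _ hc'
            have hcdec : c = (c - pol Q f c • e - pol Q e c • f) + pol Q f c • e + pol Q e c • f := by
              abel
            have e2 : pol Q (c - pol Q f c • e - pol Q e c • f) x₀ = 0 := by
              obtain ⟨-, h5, h6⟩ := mem_cperp.1 hc'
              rw [hx₀, map_sub, map_sub, map_smul, map_smul, e1,
                pol_comm Q _ e, pol_comm Q _ f, h5, h6]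
              simp
            rw [hcdec, map_add, map_add, LinearMap.add_apply, LinearMap.add_apply, e2, map_smul,
              map_smul, LinearMap.smul_apply, LinearMap.smul_apply, hx₀e, hx₀f]
            simp
          rw [← Matrix.mulVec_mulVec, hNv]
          have hdec : x - (2 * pol Q f x) • e - (2 * pol Q e x) • f
              = x₀ - pol Q f x • e - pol Q e x • f := by
            rw [hx₀, mul_smul, mul_smul, two_smul, two_smul]
            abel
          rw [hdec, Matrix.mulVec_sub, Matrix.mulVec_sub, Matrix.mulVec_smul, Matrix.mulVec_smul,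
            hM.2 x₀ hx₀C, hM.1 e heC, hM.1 f hfC, hx₀]
          simp only [smul_neg]
          abel
      obtain ⟨E', hE'C, hE'ts, hE'd⟩ := ih (cperp Q C e f) (M * N) hC' (by omega) hM'
        (hΩ.mul hNΩ)
      refine ⟨E' ⊔ Submodule.span F {e}, ?_, tsOn_sup_span hE'C hE'ts hQe, ?_⟩
      · apply sup_le (hE'C.trans cperp_le)
        rw [Submodule.span_le]
        intro x hx
        rw [Set.mem_singleton_iff.1 hx]
        exact heC
      · rw [finrank_sup_span hE'C hef, hE'd]

end main

end Cfsg.Agent.Lib.Helper84_OTS_OAb
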