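import Mathlib
import Cfsg.Prelude.Def_GeometricClasses
import Cfsg.Agent.Lib.Helper84_OTS_OAb
import Cfsg.Agent.Lib.Helper44_StdForms
import Cfsg.Agent.Lib.Helper14_POmegaSimple
import Cfsg.Agent.Lib.Helper73_OTS_OW1

set_option autoImplicit false

/-!
Package OA of S5972 (helper84): involutions of `Ω_{2d+1}(q)`, `q` odd, and totally singular `m`-spaces.
-/

namespace Cfsg.Agent.Lib.Helper84_OTS_OA

open Module Matrix Cfsg.Agent.Lib.Helper40_SpBasic Cfsg.Agent.Lib.Helper40_OConj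
  Cfsg.Agent.Lib.Helper84_OTSDefs Cfsg.Agent.Lib.Helper84_OTS_OAa Cfsg.Agent.Lib.Helper84_OTS_OAb
  Cfsg.Agent.Lib.Helper44_Refl Cfsg.Agent.Lib.Helper44_ReflProd Cfsg.Agent.Lib.Helper44_StdForms
  Cfsg.Agent.Lib.Helper84_SUND_UCa
open scoped MatrixGroups

universe v

variable {F : Type v} [Field F] [Fintype F]

theorem two_ne_zero_of_odd_card (hodd : Odd (Fintype.card F)) : (2 : F) ≠ 0 := by
  intro h
  have h1 : ringChar F = 2 := CharP.ringChar_of_prime_eq_zero Nat.prime_two h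
  have h3 := FiniteField.even_card_iff_char_two.1 h1
  rcases hodd with ⟨k, hk⟩
  omega

section suff

variable {ι : Type} [Fintype ι] [DecidableEq ι] (Q : QuadraticForm F (ι → F))

/-- sufficiency, for a general nondegenerate form of odd dimension `2d+1` -/
theorem suff (h2 : (2 : F) ≠ 0) (hQ : (pol Q).Nondegenerate) (d m : ℕ)
    (hdim : finrank F (ι → F) = 2 * d + 1) (hmd : m ≤ d)
    (hcond : m < d ∨ Fintype.card F % 4 = 1)
    (M : Matrix ι ι F) (hΩ : InOmega Q M) (hMM : M * M = 1) :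
    ∃ W : Submodule F (ι → F), finrank F W = m ∧ (∀ w ∈ W, Q w = 0) ∧
      W.map (Matrix.toLin' M) ≤ W := by
  obtain ⟨g, hgΩ, hgM⟩ := hΩ
  have hiso : ∀ v, Q (Matrix.toLin' M v) = Q v := by
    intro v
    rw [Matrix.toLin'_apply, ← hgM]
    exact (Cfsg.Agent.Lib.Helper44_Orth.mem_isometryGroup_iff _ _).1 g.2 v
  have hdet : LinearMap.det (Matrix.toLin' M) = 1 := by
    rw [LinearMap.det_toLin', ← hgM]
    exact ((Cfsg.Agent.Lib.Helper44_OmegaOdd.mem_omega_iff_det_theta h2 Q hQ g).1 hgΩ).1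
  have hX2 : ∀ v, Matrix.toLin' M (Matrix.toLin' M v) = v := by
    intro v
    rw [Matrix.toLin'_apply, Matrix.toLin'_apply, Matrix.mulVec_mulVec, hMM, Matrix.one_mulVec]
  set X : Module.End F (ι → F) := Matrix.toLin' M with hX
  obtain ⟨k, hk⟩ := even_finrank_eig_neg_one h2 hX2 hdet
  have hsum := finrank_eig_add h2 hX2
  rw [hdim] at hsum
  have hNp := ndOn_eig_one h2 hQ hiso hX2
  have hNm := ndOn_eig_neg_one h2 hQ hiso hX2
  have hkd : k ≤ d := by omega
  -- the pieces
  have key : ∃ E₁ E₂ : Submodule F (ι → F), E₁ ≤ eig X 1 ∧ E₂ ≤ eig X (-1) ∧ TSOn Q E₁ ∧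
      TSOn Q E₂ ∧ finrank F E₁ + finrank F E₂ = m := by
    by_cases hA : m ≤ d - k
    · obtain ⟨E₁, h1, ht1, hd1⟩ := Cfsg.Agent.Lib.Helper73_OTS_OW1.OW1 h2 Q (eig X 1) hNp m (by omega)
      exact ⟨E₁, ⊥, h1, bot_le, ht1, tsOn_bot Q, by rw [hd1, finrank_bot, add_zero]⟩
    · obtain ⟨E₁, h1, ht1, hd1⟩ :=
        Cfsg.Agent.Lib.Helper73_OTS_OW1.OW1 h2 Q (eig X 1) hNp (d - k) (by omega)
      by_cases hmd' : m < d
      · obtain ⟨E₂, h3, ht2, hd2⟩ :=
          Cfsg.Agent.Lib.Helper73_OTS_OW1.OW1 h2 Q (eig X (-1)) hNm (m - (d - k)) (by omega)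
        exact ⟨E₁, E₂, h1, h3, ht1, ht2, by rw [hd1, hd2]; omega⟩
      · have hq : Fintype.card F % 4 = 1 := by
          rcases hcond with h | h
          · exact absurd h hmd'
          · exact h
        have hs : IsSquare (-1 : F) := by
          rw [FiniteField.isSquare_neg_one_iff]
          omega
        have hneg : IsNeg Q M (eig X (-1)) := by
          constructor
          · intro c hc
            have := mem_eig_neg_one.1 hc
            rwa [hX, Matrix.toLin'_apply] at this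
          · intro v hv
            have := fixed_of_orth_eig h2 hQ hiso hX2 hv
            rwa [Matrix.toLin'_apply] at this
        obtain ⟨E₂, h3, ht2, hd2⟩ := exists_ts_of_neg Q h2 hs k (eig X (-1)) M hNm
          (by rw [hk]; ring) hneg ⟨g, hgΩ, hgM⟩
        exact ⟨E₁, E₂, h1, h3, ht1, ht2, by rw [hd1, hd2]; omega⟩
  obtain ⟨E₁, E₂, h1, h3, ht1, ht2, hdsum⟩ := key
  refine ⟨E₁ ⊔ E₂, ?_, tsOn_sup_eig h2 hiso h1 h3 ht1 ht2, ?_⟩
  · rw [finrank_sup_eig h2 hX2 h1 h3, hdsum]
  · rintro _ ⟨w, hw, rfl⟩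
    exact inv_sup h1 h3 w hw

end suff

section nec

variable {ι : Type} [Fintype ι] [DecidableEq ι] (Q : QuadraticForm F (ι → F))

omit [Fintype F] in
/-- two orthogonal reflections commute -/
theorem refl_comm {u u' : ι → F} (huu' : pol Q u u' = 0) :
    Cfsg.reflectionMatrix (⇑Q) u * Cfsg.reflectionMatrix (⇑Q) u'
      = Cfsg.reflectionMatrix (⇑Q) u' * Cfsg.reflectionMatrix (⇑Q) u := by
  apply matrix_ext_mulVec
  intro x
  rw [refl_mul_refl_mulVec Q huu', refl_mul_refl_mulVec Q (by rw [pol_comm, huu'])]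
  abel

/-- necessity: if `-1` is not a square, the product of two orthogonal reflections of norm one has no
invariant totally singular subspace of dimension `d`. -/
theorem nec (h2 : (2 : F) ≠ 0) (hQ : (pol Q).Nondegenerate) (d : ℕ)
    (hdim : finrank F (ι → F) = 2 * d + 1) (hs : ¬ IsSquare (-1 : F))
    {u u' : ι → F} (hu : Q u = 1) (hu' : Q u' = 1) (huu' : pol Q u u' = 0) :
    ∃ M : Matrix ι ι F, InOmega Q M ∧ M * M = 1 ∧ M ≠ 1 ∧
      ∀ W : Submodule F (ι → F), W.map (Matrix.toLin' M) ≤ W → (∀ w ∈ W, Q w = 0) →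
        finrank F W ≠ d := by
  have hune : Q u ≠ 0 := by rw [hu]; exact one_ne_zero
  have hu'ne : Q u' ≠ 0 := by rw [hu']; exact one_ne_zero
  have hu'u : pol Q u' u = 0 := by rw [pol_comm, huu']
  set M : Matrix ι ι F := Cfsg.reflectionMatrix (⇑Q) u * Cfsg.reflectionMatrix (⇑Q) u' with hM
  have hMv : ∀ x, M *ᵥ x = x - pol Q u' x • u' - pol Q u x • u := by
    intro x
    rw [hM, refl_mul_refl_mulVec Q huu', hu, hu', inv_one, one_mul, one_mul]
  have hrp : IsReflProd Q M (1 + 1) (Q u * Q u') :=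
    (IsReflProd.refl Q hune).mul (IsReflProd.refl Q hu'ne)
  have hΩ : InOmega Q M :=
    (hrp.exists_mem_omega_iff h2).2 ⟨even_two, by rw [hu, hu', one_mul]; exact ⟨1, by ring⟩⟩
  have hMM : M * M = 1 := by
    have e1 : M * M = Cfsg.reflectionMatrix (⇑Q) u * (Cfsg.reflectionMatrix (⇑Q) u'
        * Cfsg.reflectionMatrix (⇑Q) u') * Cfsg.reflectionMatrix (⇑Q) u := by
      conv_lhs => rw [hM]
      nth_rewrite 2 [refl_comm Q huu']
      simp only [Matrix.mul_assoc]
    rw [e1, reflectionMatrix_mul_self Q hu'ne, Matrix.mul_one, reflectionMatrix_mul_self Q hune]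
  have hu0 : u ≠ 0 := by
    rintro rfl
    rw [map_zero] at hu
    exact zero_ne_one hu
  have hM1 : M ≠ 1 := by
    intro h
    have e1 := hMv u
    rw [h, Matrix.one_mulVec, hu'u, zero_smul, sub_zero, pol_self, hu, mul_one] at e1
    have e2 : (2 : F) • u = 0 := by
      have : u - (u - (2 : F) • u) = (2 : F) • u := by abel
      rw [← this, ← e1, sub_self]
    exact hu0 ((smul_eq_zero.1 e2).resolve_left h2)
  refine ⟨M, hΩ, hMM, hM1, ?_⟩
  intro W hWinv hWts hWd
  -- sums of two squares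
  have hsq : ∀ a b : F, a * a + b * b = 0 → a = 0 ∧ b = 0 := by
    intro a b hab
    by_cases hb : b = 0
    · subst hb
      rw [mul_zero, add_zero] at hab
      exact ⟨mul_self_eq_zero.1 hab, rfl⟩
    · exfalso
      apply hs
      refine ⟨a / b, ?_⟩
      field_simp
      linear_combination -hab
  have hQab : ∀ a b : F, Q (a • u + b • u') = a * a + b * b := by
    intro a b
    rw [Cfsg.Agent.Lib.Helper44_QuadClass.map_smul_add, QuadraticMap.map_smul, ← pol_eq, map_smul,
      huu', hu, hu']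
    simp
  -- `W` is orthogonal to `u` and `u'`
  have horth : ∀ w ∈ W, pol Q u w = 0 ∧ pol Q u' w = 0 := by
    intro w hw
    have h1 : M *ᵥ w ∈ W := by
      have := hWinv ⟨w, hw, rfl⟩
      rwa [Matrix.toLin'_apply] at this
    have h3 : pol Q u w • u + pol Q u' w • u' ∈ W := by
      have : pol Q u w • u + pol Q u' w • u' = w - M *ᵥ w := by
        rw [hMv]
        abel
      rw [this]
      exact W.sub_mem hw h1
    have h4 := hWts _ h3
    rw [hQab] at h4
    exact hsq _ _ h4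
  -- the orthogonal of `W`
  have hrefl : (pol Q).IsRefl := by
    intro x y hxy
    rw [pol_comm, hxy]
  have hWo : finrank F ((pol Q).orthogonal W) = d + 1 := by
    rw [LinearMap.BilinForm.finrank_orthogonal hQ, hdim, hWd]
    omega
  have hWle : W ≤ (pol Q).orthogonal W := by
    intro w hw
    rw [LinearMap.BilinForm.mem_orthogonal_iff]
    intro y hy
    exact (TSOn.isoOn hWts) y hy w hw
  have huo : u ∈ (pol Q).orthogonal W := by
    rw [LinearMap.BilinForm.mem_orthogonal_iff]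
    intro y hy
    show pol Q y u = 0
    rw [pol_comm]
    exact (horth y hy).1
  have hu'o : u' ∈ (pol Q).orthogonal W := by
    rw [LinearMap.BilinForm.mem_orthogonal_iff]
    intro y hy
    show pol Q y u' = 0
    rw [pol_comm]
    exact (horth y hy).2
  have hlt1 : W < W ⊔ Submodule.span F {u} := by
    apply lt_of_le_of_ne le_sup_left
    intro h
    have : u ∈ W := by
      rw [h]
      exact Submodule.mem_sup_right (Submodule.mem_span_singleton_self u)
    exact hune (hWts u this)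
  have hlt2 : W ⊔ Submodule.span F {u} < W ⊔ Submodule.span F {u} ⊔ Submodule.span F {u'} := by
    apply lt_of_le_of_ne le_sup_left
    intro h
    have h1 : u' ∈ W ⊔ Submodule.span F {u} := by
      rw [h]
      exact Submodule.mem_sup_right (Submodule.mem_span_singleton_self u')
    obtain ⟨w, hw, y, hy, hwy⟩ := Submodule.mem_sup.1 h1
    obtain ⟨a, rfl⟩ := Submodule.mem_span_singleton.1 hy
    have hw' : w = (-a) • u + (1 : F) • u' := by
      rw [← hwy]
      module
    have h3 := hWts w hw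
    rw [hw', hQab] at h3
    have := (hsq _ _ h3).2
    exact one_ne_zero this
  have hle3 : W ⊔ Submodule.span F {u} ⊔ Submodule.span F {u'} ≤ (pol Q).orthogonal W := by
    apply sup_le (sup_le hWle _) _
    · rw [Submodule.span_le]
      intro x hx
      rw [Set.mem_singleton_iff.1 hx]
      exact huo
    · rw [Submodule.span_le]
      intro x hx
      rw [Set.mem_singleton_iff.1 hx]
      exact hu'o
  have f1 := Submodule.finrank_lt_finrank_of_lt hlt1
  have f2 := Submodule.finrank_lt_finrank_of_lt hlt2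
  have f3 := Submodule.finrank_mono hle3
  omega

end nec

section final

/-- OA: the case `r = 2`. -/
theorem OA {F : Type v} [Field F] [Fintype F] {q : ℕ} (hq : Fintype.card F = q) (hqodd : Odd q)
    (d m : ℕ) (hd : 3 ≤ d) (_hm : 1 ≤ m) (hmd : m ≤ d) :
    (∀ x : GL (Unit ⊕ (Fin d ⊕ Fin d)) F, x ∈ Cfsg.Geo.omegaGL (Cfsg.quadFormOdd d F) → orderOf x = 2 →
      ∃ W : Submodule F (Unit ⊕ (Fin d ⊕ Fin d) → F), Module.finrank F ↥W = m ∧ (∀ w ∈ W, Cfsg.quadFormOdd d F w = 0) ∧
        W.map (Matrix.toLin' (x : Matrix (Unit ⊕ (Fin d ⊕ Fin d)) (Unit ⊕ (Fin d ⊕ Fin d)) F)) ≤ W) ↔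
    (m < d ∨ q % 4 = 1) := by
  subst hq
  have h2 : (2 : F) ≠ 0 := two_ne_zero_of_odd_card hqodd
  have hQ := Cfsg.Agent.Lib.Helper14_POmegaSimple.nondegenerate_qfOdd (F := F) h2 d
  have hdim : finrank F (Unit ⊕ (Fin d ⊕ Fin d) → F) = 2 * d + 1 := by
    rw [Module.finrank_pi, Fintype.card_sum, Fintype.card_sum, Fintype.card_fin,
      Fintype.card_unit]
    omega
  rw [← coe_qfOdd]
  constructor
  · intro H
    by_contra hcon
    push Not at hcon
    obtain ⟨hdm, hq1⟩ := hcon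
    have hq3 : Fintype.card F % 4 = 3 := by
      rcases hqodd with ⟨k, hk⟩
      omega
    have hs : ¬ IsSquare (-1 : F) := by
      rw [FiniteField.isSquare_neg_one_iff]
      omega
    set j₀ : Fin d := ⟨0, by omega⟩ with hj₀
    set u : Unit ⊕ (Fin d ⊕ Fin d) → F := Pi.single (Sum.inl ()) 1 with hu
    set u' : Unit ⊕ (Fin d ⊕ Fin d) → F :=
      Pi.single (Sum.inr (Sum.inl j₀)) 1 + Pi.single (Sum.inr (Sum.inr j₀)) 1 with hu'
    have hQu : qfOdd d F u = 1 := by
      rw [coe_qfOdd, Cfsg.quadFormOdd, hu]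
      simp
    have hQu' : qfOdd d F u' = 1 := by
      rw [coe_qfOdd, Cfsg.quadFormOdd, hu']
      simp only [Pi.add_apply]
      rw [Finset.sum_eq_single j₀]
      · simp
      · intro b _ hb
        have h1 : (Sum.inr (Sum.inl b) : Unit ⊕ (Fin d ⊕ Fin d)) ≠ Sum.inr (Sum.inl j₀) := by
          simpa using hb
        have h3 : (Sum.inr (Sum.inl b) : Unit ⊕ (Fin d ⊕ Fin d)) ≠ Sum.inr (Sum.inr j₀) := by
          simp
        rw [Pi.single_eq_of_ne h1, Pi.single_eq_of_ne h3, add_zero, zero_mul]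
      · intro h
        exact absurd (Finset.mem_univ _) h
    have huu' : pol (qfOdd d F) u u' = 0 := by
      show QuadraticMap.polar (⇑(qfOdd d F)) u u' = 0
      rw [coe_qfOdd, polar_quadFormOdd, hu, hu']
      simp
    obtain ⟨M, ⟨g, hgΩ, hgM⟩, hMM, hM1, hno⟩ := nec (qfOdd d F) h2 hQ d hdim hs hQu hQu' huu'
    have hmem : (g : GL (Unit ⊕ (Fin d ⊕ Fin d)) F) ∈ Cfsg.Geo.omegaGL (⇑(qfOdd d F)) :=
      ⟨g, hgΩ, rfl⟩
    have hord : orderOf (g : GL (Unit ⊕ (Fin d ⊕ Fin d)) F) = 2 := by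
      apply orderOf_eq_prime
      · apply Units.ext
        rw [pow_two, Units.val_mul, hgM, hMM]
        rfl
      · intro h
        apply hM1
        rw [← hgM, h]
        rfl
    obtain ⟨W, hWd, hWts, hWinv⟩ := H _ hmem hord
    rw [hgM] at hWinv
    exact hno W hWinv hWts (by rw [hWd]; omega)
  · intro hcond x hx hxo
    obtain ⟨g, hgΩ, rfl⟩ := hx
    have hMM : ((g : GL (Unit ⊕ (Fin d ⊕ Fin d)) F) :
          Matrix (Unit ⊕ (Fin d ⊕ Fin d)) (Unit ⊕ (Fin d ⊕ Fin d)) F) *
        ((g : GL (Unit ⊕ (Fin d ⊕ Fin d)) F) :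
          Matrix (Unit ⊕ (Fin d ⊕ Fin d)) (Unit ⊕ (Fin d ⊕ Fin d)) F) = 1 := by
      have h1 : (g : GL (Unit ⊕ (Fin d ⊕ Fin d)) F) ^ 2 = 1 := by
        rw [← hxo]
        exact pow_orderOf_eq_one _
      rw [pow_two] at h1
      rw [← Units.val_mul, h1]
      rfl
    exact suff (qfOdd d F) h2 hQ d m hdim hmd hcond _ ⟨g, hgΩ, rfl⟩ hMM

end final

end Cfsg.Agent.Lib.Helper84_OTS_OA
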