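import Mathlib
import Cfsg.Agent.Lib.Helper88_OrthNDDefs

set_option autoImplicit false

/-!
Arithmetic for S5992 / S5993 (helper84): helper88's combinatorial model `Valid` / `Fix` with odd ambient
dimension `D = 2d+1` against the frozen right-hand sides.
-/

namespace Cfsg.Agent.Lib.Helper84_OrthOdd_Arith

open Cfsg.Agent.Lib.Helper88_OrthNDDefs

/-- the odd-`r` part of the right-hand side of S5992 -/
def R5992 (i c d m : ℕ) : Prop :=
  (Odd i ∧ c ≤ m ∧ (m % c = 0 ∨ (0 < m % c ∧ m % c < (2 * d + 1) % c))) ∨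
  (Even i ∧ i ≤ m ∧ m % c < (2 * d + 1) % c ∧ (0 < m % c ∨ Even (m / i)))

/-- the odd-`r` part of the right-hand side of S5993 -/
def R5993 (i c d m : ℕ) : Prop :=
  (Odd i ∧ c ≤ m ∧ 0 < m % c ∧ m % c < (2 * d + 1) % c) ∨
  (Even i ∧ i ≤ m ∧ m % c < (2 * d + 1) % c ∧ (0 < m % c ∨ Odd (m / i)))

theorem even_c (i c : ℕ) (hc : c = if Even i then i else 2 * i) : Even c := by
  rw [hc]
  split_ifs with h
  · exact h
  · exact even_two_mul i

/-- the common part of the two right-hand sides, with the type condition abstracted -/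
theorem mpr_aux (i c d m : ℕ) (hc0 : 0 < c) (hce : Even c) (hme : Even m) (hmn : m ≤ 2 * d)
    (eta : Prop)
    (hlt : m % c ≤ (2 * d + 1) % c) (hty : m % c = 0 → (eta ↔ SignPlus i (m / c))) :
    ∀ a, Valid i c (2 * d + 1) True a →
      Cfsg.Agent.Lib.Helper88_OrthNDDefs.Fix i c (2 * d + 1) m True eta a := by
  intro a ha
  obtain ⟨ha1, haD, -⟩ := ha
  have hmM : c * (m / c) + m % c = m := Nat.div_add_mod _ _
  have hD : c * ((2 * d + 1) / c) + (2 * d + 1) % c = 2 * d + 1 := Nat.div_add_mod _ _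
  by_cases haM : a < m / c
  · -- `a' = a`
    have h1 : c * (a + 1) ≤ c * (m / c) := Nat.mul_le_mul_left c haM
    rw [mul_add, mul_one] at h1
    refine ⟨a, m - c * a, le_rfl, by omega, by omega, fun h0 => by omega, fun h0 => by omega⟩
  · -- `a' = m / c`
    push Not at haM
    have hale : a ≤ (2 * d + 1) / c := (Nat.le_div_iff_mul_le hc0).2 (by rw [mul_comm]; exact haD)
    have hsum : c * a + m % c ≤ 2 * d + 1 := by
      rcases Nat.lt_or_ge a ((2 * d + 1) / c) with h | h
      · have h1 : c * (a + 1) ≤ c * ((2 * d + 1) / c) := Nat.mul_le_mul_left c h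
        rw [mul_add, mul_one] at h1
        have := Nat.mod_lt m hc0
        omega
      · have : a = (2 * d + 1) / c := le_antisymm hale h
        rw [this]
        omega
    have hne : c * a + m % c ≠ 2 * d + 1 := by
      intro h
      obtain ⟨c', hc'⟩ := hce
      obtain ⟨m', hm'⟩ := hme
      have h3 : c * a = 2 * (c' * a) := by rw [hc']; ring
      have h4 : c * (m / c) = 2 * (c' * (m / c)) := by rw [hc']; ring
      omega
    refine ⟨m / c, m % c, haM, hmM.symm, hsum, hty, fun h0 => absurd h0 hne⟩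

theorem A5992_mpr (i c d m : ℕ) (hi : 0 < i) (hc : c = if Even i then i else 2 * i)
    (hme : Even m) (hmn : m ≤ 2 * d) (h : R5992 i c d m) :
    ∀ a, Valid i c (2 * d + 1) True a →
      Cfsg.Agent.Lib.Helper88_OrthNDDefs.Fix i c (2 * d + 1) m True True a := by
  have hc0 : 0 < c := by rw [hc]; split_ifs <;> omega
  apply mpr_aux i c d m hc0 (even_c i c hc) hme hmn True
  · rcases h with ⟨-, -, h | h⟩ | ⟨-, -, h, -⟩
    · rw [h]; exact Nat.zero_le _
    · exact h.2.le
    · exact h.le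
  · intro h0
    rw [true_iff]
    rcases h with ⟨hio, -, -⟩ | ⟨hie, -, -, h | h⟩
    · exact Or.inl hio
    · omega
    · right
      rw [hc, if_pos hie]
      exact h

theorem A5993_mpr (i c d m : ℕ) (hi : 0 < i) (hc : c = if Even i then i else 2 * i)
    (hme : Even m) (hmn : m ≤ 2 * d) (h : R5993 i c d m) :
    ∀ a, Valid i c (2 * d + 1) True a →
      Cfsg.Agent.Lib.Helper88_OrthNDDefs.Fix i c (2 * d + 1) m True False a := by
  have hc0 : 0 < c := by rw [hc]; split_ifs <;> omega
  apply mpr_aux i c d m hc0 (even_c i c hc) hme hmn False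
  · rcases h with ⟨-, -, -, h⟩ | ⟨-, -, h, -⟩
    · exact h.le
    · exact h.le
  · intro h0
    rw [false_iff]
    rcases h with ⟨-, -, h, -⟩ | ⟨hie, -, -, h | h⟩
    · omega
    · omega
    · rw [hc, if_pos hie]
      rintro (h1 | h1)
      · exact (Nat.not_even_iff_odd.2 h1) hie
      · exact (Nat.not_even_iff_odd.2 h) h1

/-- the common part of the necessity direction -/
theorem mp_aux (i c d m : ℕ) (hc0 : 0 < c) (hce : Even c) (hme : Even m) (hcm : c ≤ m)
    (hmn : m ≤ 2 * d) (eta : Prop)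
    (h : ∀ a, Valid i c (2 * d + 1) True a →
      Cfsg.Agent.Lib.Helper88_OrthNDDefs.Fix i c (2 * d + 1) m True eta a) :
    m % c < (2 * d + 1) % c ∧ (m % c = 0 → (eta ↔ SignPlus i (m / c))) := by
  have hmM : c * (m / c) + m % c = m := Nat.div_add_mod _ _
  have hD : c * ((2 * d + 1) / c) + (2 * d + 1) % c = 2 * d + 1 := Nat.div_add_mod _ _
  have hℓc : m % c < c := Nat.mod_lt _ hc0
  have hkc : (2 * d + 1) % c < c := Nat.mod_lt _ hc0
  obtain ⟨c', hc'⟩ := hce
  obtain ⟨m', hm'⟩ := hme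
  have hA1 : 1 ≤ (2 * d + 1) / c := (Nat.le_div_iff_mul_le hc0).2 (by omega)
  have hval : Valid i c (2 * d + 1) True ((2 * d + 1) / c) := by
    refine ⟨hA1, by omega, fun h0 => ?_⟩
    exfalso
    have h3 : c * ((2 * d + 1) / c) = 2 * (c' * ((2 * d + 1) / c)) := by rw [hc']; ring
    omega
  obtain ⟨a', f, ha', hmf, hsum, h0, -⟩ := h _ hval
  have hfk : f ≤ (2 * d + 1) % c := by omega
  have hfc : f < c := by omega
  have hq : a' = m / c := by
    rw [hmf, Nat.mul_add_div hc0, Nat.div_eq_of_lt hfc, add_zero]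
  have hr : f = m % c := by
    rw [hmf, Nat.mul_add_mod, Nat.mod_eq_of_lt hfc]
  subst hq
  subst hr
  refine ⟨?_, h0⟩
  -- parity
  have h3 : c * ((2 * d + 1) / c) = 2 * (c' * ((2 * d + 1) / c)) := by rw [hc']; ring
  have h4 : c * (m / c) = 2 * (c' * (m / c)) := by rw [hc']; ring
  omega

theorem A5992_mp (i c d m : ℕ) (hi : 0 < i) (hc : c = if Even i then i else 2 * i)
    (hme : Even m) (hmn : m ≤ 2 * d) (hcm : c ≤ m)
    (h : ∀ a, Valid i c (2 * d + 1) True a →
      Cfsg.Agent.Lib.Helper88_OrthNDDefs.Fix i c (2 * d + 1) m True True a) :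
    R5992 i c d m := by
  have hc0 : 0 < c := by rw [hc]; split_ifs <;> omega
  obtain ⟨hlt, hty⟩ := mp_aux i c d m hc0 (even_c i c hc) hme hcm hmn True h
  rcases Nat.even_or_odd i with hie | hio
  · right
    have hci : c = i := by rw [hc, if_pos hie]
    refine ⟨hie, hci ▸ hcm, hlt, ?_⟩
    rcases Nat.eq_zero_or_pos (m % c) with h0 | h0
    · right
      rcases (hty h0).1 trivial with h1 | h1
      · exact absurd hie (Nat.not_even_iff_odd.2 h1)
      · rw [← hci]; exact h1
    · exact Or.inl h0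
  · left
    refine ⟨hio, hcm, ?_⟩
    rcases Nat.eq_zero_or_pos (m % c) with h0 | h0
    · exact Or.inl h0
    · exact Or.inr ⟨h0, hlt⟩

theorem A5993_mp (i c d m : ℕ) (hi : 0 < i) (hc : c = if Even i then i else 2 * i)
    (hme : Even m) (hmn : m ≤ 2 * d) (hcm : c ≤ m)
    (h : ∀ a, Valid i c (2 * d + 1) True a →
      Cfsg.Agent.Lib.Helper88_OrthNDDefs.Fix i c (2 * d + 1) m True False a) :
    R5993 i c d m := by
  have hc0 : 0 < c := by rw [hc]; split_ifs <;> omega
  obtain ⟨hlt, hty⟩ := mp_aux i c d m hc0 (even_c i c hc) hme hcm hmn False h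
  rcases Nat.even_or_odd i with hie | hio
  · right
    have hci : c = i := by rw [hc, if_pos hie]
    refine ⟨hie, hci ▸ hcm, hlt, ?_⟩
    rcases Nat.eq_zero_or_pos (m % c) with h0 | h0
    · right
      have h1 := (hty h0)
      rw [false_iff] at h1
      rw [← hci]
      rcases Nat.even_or_odd (m / c) with h3 | h3
      · exact absurd (Or.inr h3) h1
      · exact h3
    · exact Or.inl h0
  · left
    rcases Nat.eq_zero_or_pos (m % c) with h0 | h0
    · exfalso
      have h1 := (hty h0)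
      rw [false_iff] at h1
      exact h1 (Or.inl hio)
    · exact ⟨hio, hcm, h0, hlt⟩

end Cfsg.Agent.Lib.Helper84_OrthOdd_Arith
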