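import Mathlib
import Cfsg.Prelude.Def_GeometricClasses
import Cfsg.Prelude.Def_Classical
import Cfsg.Agent.Lib.Helper88_OrthNDDefs
import Cfsg.Agent.Lib.Helper99_SpAtoms
import Cfsg.Agent.Lib.Helper44_StdForms
import Cfsg.Agent.Lib.Helper40_S8Types
import Cfsg.Agent.Lib.Helper85_OrthND_TMUL

/-!
# Package TSUB of S5974/S5988/S5990 (architect helper88): nondegenerate subspaces of prescribed
dimension and type

Inside a nondegenerate even-dimensional quadratic space `C` over a finite field (any
characteristic) there is a nondegenerate subspace of every even dimension `f ≤ dim C` and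
every type compatible with the obvious constraints (`f = 0`: plus; `f = dim C`: the type of `C`).
-/

set_option autoImplicit false
universe u

namespace Cfsg.Agent.Lib.Helper85_OrthND_TSUB

open Module Cfsg.Agent.Lib.Helper40_SpBasic Cfsg.Agent.Lib.Helper88_OrthNDDefs
  Cfsg.Agent.Lib.Helper44_StdForms Cfsg.Agent.Lib.Helper40_QuadIso
  Cfsg.Agent.Lib.Helper40_QuadStd Cfsg.Agent.Lib.Helper14_POmegaSimple
  Cfsg.Agent.Lib.Helper40_OTransport Cfsg.Agent.Lib.Helper40_S8Types
  Cfsg.Agent.Lib.Helper85_OrthND_TMUL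

section general

variable {F : Type*} [Field F]
variable {V V' : Type*} [AddCommGroup V] [Module F V] [AddCommGroup V'] [Module F V']

/-- quadratic forms on zero-dimensional spaces are isometric -/
theorem iso_of_finrank_zero [FiniteDimensional F V] [FiniteDimensional F V']
    (Q : QuadraticForm F V) (Q' : QuadraticForm F V') (h : finrank F V = 0)
    (h' : finrank F V' = 0) : Iso Q Q' := by
  have hsub : Subsingleton V := Module.finrank_zero_iff.1 h
  refine ⟨LinearEquiv.ofFinrankEq V V' (by rw [h, h']), fun v => ?_⟩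
  rw [Subsingleton.elim v 0, map_zero, map_zero, map_zero]

theorem ndOn_of_resQ_nondeg (Q : QuadraticForm F V) (W : Submodule F V)
    (h : (QuadraticMap.polarBilin (resQ Q W)).Nondegenerate) :
    NDOn (QuadraticMap.polarBilin Q) W := by
  intro x hx hxy
  have h0 := h.1 ⟨x, hx⟩ (fun y => by
    rw [QuadraticMap.polarBilin_apply_apply, polar_resQ]
    have := hxy y y.2
    rw [QuadraticMap.polarBilin_apply_apply] at this
    exact this)
  exact congrArg Subtype.val h0

theorem nondeg_of_iso {Q : QuadraticForm F V} {Q' : QuadraticForm F V'} (h : Iso Q Q')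
    (hQ : (QuadraticMap.polarBilin Q).Nondegenerate) :
    (QuadraticMap.polarBilin Q').Nondegenerate := by
  obtain ⟨φ, hφ⟩ := h
  have hpol : ∀ x y : V, QuadraticMap.polar (⇑Q') (φ x) (φ y) = QuadraticMap.polar (⇑Q) x y :=
    fun x y => polar_of_iso (φ : V →ₗ[F] V') hφ x y
  have hleft : ∀ x : V', (∀ y, QuadraticMap.polarBilin Q' x y = 0) → x = 0 := by
    intro x hx
    have h1 : φ.symm x = 0 := by
      apply hQ.1
      intro y
      have := hx (φ y)
      rw [QuadraticMap.polarBilin_apply_apply] at this ⊢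
      rw [← hpol, φ.apply_symm_apply]
      exact this
    have := congrArg φ h1
    rwa [φ.apply_symm_apply, map_zero] at this
  refine ⟨hleft, ?_⟩
  intro y hy
  apply hleft
  intro x
  have := hy x
  rw [QuadraticMap.polarBilin_apply_apply, QuadraticMap.polar_comm] at this
  rw [QuadraticMap.polarBilin_apply_apply]
  exact this

/-- an isometric embedding gives a subspace isometric to the source -/
theorem exists_sub_of_embedding [FiniteDimensional F V] [FiniteDimensional F V']
    (Q : QuadraticForm F V) (Q' : QuadraticForm F V') (ψ : V' →ₗ[F] V)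
    (hinj : Function.Injective ψ) (hψ : ∀ a, Q (ψ a) = Q' a)
    (hQ' : (QuadraticMap.polarBilin Q').Nondegenerate) (he : Even (finrank F V')) :
    NDOn (QuadraticMap.polarBilin Q) (LinearMap.range ψ) ∧
      finrank F (LinearMap.range ψ) = finrank F V' ∧
      (PlusOn Q (LinearMap.range ψ) ↔ IsHyp Q') := by
  have hiso : Iso Q' (resQ Q (LinearMap.range ψ)) := by
    refine ⟨LinearEquiv.ofInjective ψ hinj, fun a => ?_⟩
    rw [resQ_apply, LinearEquiv.ofInjective_apply, hψ]
  have hfr : finrank F (LinearMap.range ψ) = finrank F V' := hiso.finrank_eq.symm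
  refine ⟨ndOn_of_resQ_nondeg Q _ (nondeg_of_iso hiso hQ'), hfr, ?_⟩
  rw [plusOn_iff_isHyp Q _ (by rw [hfr]; exact he)]
  exact ⟨fun h => h.of_iso hiso.symm, fun h => h.of_iso hiso⟩

end general

section finite

variable {F : Type u} [Field F] [Fintype F]

/-- nondegenerate spaces of the same even dimension and the same type are isometric -/
theorem iso_of_same_type {V V' : Type u} [AddCommGroup V] [Module F V] [FiniteDimensional F V]
    [AddCommGroup V'] [Module F V'] [FiniteDimensional F V']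
    (Q : QuadraticForm F V) (Q' : QuadraticForm F V')
    (hQ : (QuadraticMap.polarBilin Q).Nondegenerate)
    (hQ' : (QuadraticMap.polarBilin Q').Nondegenerate) (n : ℕ)
    (hn : finrank F V = 2 * n) (hn' : finrank F V' = 2 * n) (ht : IsHyp Q ↔ IsHyp Q') :
    Iso Q Q' := by
  rcases Nat.eq_zero_or_pos n with rfl | hpos
  · exact iso_of_finrank_zero Q Q' (by rw [hn]) (by rw [hn'])
  · by_cases hh : IsHyp Q
    · exact (iso_plus_of_hyp n hpos hn Q hQ hh).trans
        (iso_plus_of_hyp n hpos hn' Q' hQ' (ht.1 hh)).symm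
    · obtain ⟨ζ, hζ⟩ := exists_aniso (F := F)
      exact (iso_minus_of_not_hyp n hpos hn Q hQ hh 1 ζ hζ).trans
        (iso_minus_of_not_hyp n hpos hn' Q' hQ' (fun h => hh (ht.2 h)) 1 ζ hζ).symm

/-- a standard form of prescribed even dimension and type -/
theorem exists_form (g : ℕ) (τ : Prop) (h0 : g = 0 → τ) :
    ∃ (X : Type u) (_ : AddCommGroup X) (_ : Module F X) (_ : FiniteDimensional F X)
      (QX : QuadraticForm F X), (QuadraticMap.polarBilin QX).Nondegenerate ∧
        finrank F X = 2 * g ∧ (IsHyp QX ↔ τ) := by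
  by_cases hτ : τ
  · exact ⟨Fin g ⊕ Fin g → F, inferInstance, inferInstance, inferInstance, qfPlus g F,
      nondegenerate_qfPlus g, finrank_plus g, iff_of_true (isHyp_qfPlus g) hτ⟩
  · have hg : 1 ≤ g := by
      rcases Nat.eq_zero_or_pos g with rfl | h
      · exact absurd (h0 rfl) hτ
      · exact h
    obtain ⟨ζ, hζ⟩ := exists_aniso (F := F)
    refine ⟨(Fin (g - 1) ⊕ Fin (g - 1)) ⊕ Fin 2 → F, inferInstance, inferInstance, inferInstance,
      qfMinus (g - 1) F 1 ζ, nondegenerate_qfMinus (g - 1) 1 ζ hζ, ?_,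
      iff_of_false (not_isHyp_qfMinus (g - 1) 1 ζ hζ) hτ⟩
    rw [finrank_minus]
    omega

end finite

/-- TSUB: nondegenerate subspaces of prescribed dimension and type -/
theorem TSUB {F : Type u} [Field F] [Fintype F] {V : Type u} [AddCommGroup V] [Module F V]
    [FiniteDimensional F V] (Q : QuadraticForm F V) (C : Submodule F V)
    (hC : NDOn (QuadraticMap.polarBilin Q) C) (f : ℕ) (hf : Even f) (hfe : f ≤ finrank F C)
    (hCe : Even (finrank F C)) (eta : Prop) (h0 : f = 0 → eta)
    (h1 : f = finrank F C → (eta ↔ PlusOn Q C)) :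
    ∃ W : Submodule F V, W ≤ C ∧ NDOn (QuadraticMap.polarBilin Q) W ∧ finrank F W = f ∧
      (PlusOn Q W ↔ eta) := by
  obtain ⟨g, hg⟩ := hf
  obtain ⟨n, hn⟩ := hCe
  have hgn : g ≤ n := by omega
  have hCnd := resQ_nondeg Q C hC
  have hCtype : PlusOn Q C ↔ IsHyp (resQ Q C) := plusOn_iff_isHyp Q C ⟨n, hn⟩
  obtain ⟨X, iX1, iX2, iX3, QX, hXnd, hXdim, hXt⟩ :=
    exists_form (F := F) g eta (fun h => h0 (by omega))
  obtain ⟨Y, iY1, iY2, iY3, QY, hYnd, hYdim, hYt⟩ :=
    exists_form (F := F) (n - g) (IsHyp (resQ Q C) ↔ eta) (fun h => by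
      have hfC : f = finrank F C := by omega
      rw [← hCtype]
      exact (h1 hfC).symm)
  have hPnd := nondegenerate_prod QX QY hXnd hYnd
  have hPdim : finrank F (X × Y) = 2 * n := by
    rw [Module.finrank_prod, hXdim, hYdim]
    omega
  have hPt : IsHyp (QX.prod QY) ↔ IsHyp (resQ Q C) := by
    rw [isHyp_prod_iff QX QY hXnd hYnd g (n - g) hXdim hYdim, hXt, hYt]
    tauto
  obtain ⟨φ, hφ⟩ := iso_of_same_type (QX.prod QY) (resQ Q C) hPnd hCnd n hPdim
    (by rw [hn]; ring) hPt
  set ψ : X →ₗ[F] V := C.subtype.comp ((φ : (X × Y) →ₗ[F] C).comp (LinearMap.inl F X Y)) with hψdef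
  have hψa : ∀ a : X, ψ a = ((φ (a, 0) : C) : V) := fun a => rfl
  have hinj : Function.Injective ψ := by
    intro a b hab
    rw [hψa, hψa] at hab
    have := φ.injective (Subtype.ext hab)
    exact (Prod.mk.injEq _ _ _ _ ▸ this).1
  have hψQ : ∀ a : X, Q (ψ a) = QX a := by
    intro a
    rw [hψa, ← resQ_apply Q C, hφ, QuadraticMap.prod_apply]
    simp
  obtain ⟨hnd, hfr, hty⟩ := exists_sub_of_embedding Q QX ψ hinj hψQ hXnd ⟨g, by rw [hXdim]; ring⟩
  refine ⟨LinearMap.range ψ, ?_, hnd, ?_, ?_⟩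
  · rintro _ ⟨a, rfl⟩
    rw [hψa]
    exact (φ (a, 0)).2
  · rw [hfr, hXdim, hg]
    ring
  · rw [hty, hXt]

end Cfsg.Agent.Lib.Helper85_OrthND_TSUB
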