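import Mathlib
import Cfsg.Agent.Lib.Helper88_OrthNDDefs
import Cfsg.Agent.Lib.Helper99_SpAtoms
import Cfsg.Agent.Lib.Helper99_SpOrth
import Cfsg.Agent.Lib.Helper99_SpTI
import Cfsg.Agent.Lib.Helper82_OrthND_R1
import Cfsg.Agent.Lib.Helper82_OrthND_R2
import Cfsg.Agent.Lib.Helper82_OrthND_R3
import Cfsg.Agent.Lib.Helper85_OrthND_TMUL
import Cfsg.Agent.Lib.Helper45_OrthND_R4
import Cfsg.Agent.Lib.Helper85_OrthND_TSUB

/-!
# S5974 / S5988 / S5990 (helper88): the structure theorem for nondegenerate invariant subspaces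

An isometry `T` of odd prime order `r ≠ p` of a nondegenerate quadratic space of dimension `D` with
`e = dim Fix(T)` has `a = (D - e) / c` atoms, and it stabilises a nondegenerate `m`-space of type
`eta` iff `Fix i c D m eps eta a` holds (`eps` = type of the whole space).
-/

set_option autoImplicit false
set_option linter.unusedSectionVars false
set_option linter.unusedVariables false

universe u

namespace Cfsg.Agent.Lib.Helper88_OrthND_STR

open Module Cfsg.Agent.Lib.Helper40_SpBasic Cfsg.Agent.Lib.Helper88_OrthNDDefs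
  Cfsg.Agent.Lib.Helper99_SpAtoms Cfsg.Agent.Lib.Helper45_OrthND_R4
  Cfsg.Agent.Lib.Helper85_OrthND_TSUB
  Cfsg.Agent.Lib.Helper82_OrthND_R1 Cfsg.Agent.Lib.Helper82_OrthND_R2
  Cfsg.Agent.Lib.Helper82_OrthND_R3 Cfsg.Agent.Lib.Helper85_OrthND_TMUL

section basic

variable {F : Type u} [Field F] {V : Type u} [AddCommGroup V] [Module F V]

theorem iff_aux1 (X Y Z : Prop) : (((X ↔ Y) ↔ Z) ↔ Z) ↔ (X ↔ Y) := by
  by_cases hX : X <;> by_cases hY : Y <;> by_cases hZ : Z <;> simp [hX, hY, hZ]

theorem iff_aux2 (E Z : Prop) : ((E ↔ Z) ↔ Z) ↔ E := by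
  by_cases hE : E <;> by_cases hZ : Z <;> simp [hE, hZ]

theorem plusOn_bot (Q : QuadraticForm F V) : PlusOn Q ⊥ :=
  ⟨⊥, le_rfl, fun u hu => by rw [(Submodule.mem_bot F).1 hu, map_zero], by simp⟩

theorem polar_symm (Q : QuadraticForm F V) (u v : V) :
    QuadraticMap.polarBilin Q u v = QuadraticMap.polarBilin Q v u := by
  rw [QuadraticMap.polarBilin_apply_apply, QuadraticMap.polarBilin_apply_apply]
  exact QuadraticMap.polar_comm _ _ _

theorem orth_symm {Q : QuadraticForm F V} {W₁ W₂ : Submodule F V} (h : Orth Q W₁ W₂) :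
    Orth Q W₂ W₁ := fun u hu v hv => by
  rw [QuadraticMap.polar_comm]; exact h v hv u hu

theorem orth_mono {Q : QuadraticForm F V} {W₁ W₂ X₁ X₂ : Submodule F V} (h : Orth Q W₁ W₂)
    (h₁ : X₁ ≤ W₁) (h₂ : X₂ ≤ W₂) : Orth Q X₁ X₂ := fun u hu v hv => h u (h₁ hu) v (h₂ hv)

/-- orthogonal sum of nondegenerate subspaces -/
theorem ndOn_sup {Q : QuadraticForm F V} {W₁ W₂ : Submodule F V}
    (h₁ : NDOn (QuadraticMap.polarBilin Q) W₁) (h₂ : NDOn (QuadraticMap.polarBilin Q) W₂)
    (horth : Orth Q W₁ W₂) : NDOn (QuadraticMap.polarBilin Q) (W₁ ⊔ W₂) := by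
  intro x hx hxy
  obtain ⟨x₁, hx₁, x₂, hx₂, rfl⟩ := Submodule.mem_sup.1 hx
  have e1 : x₁ = 0 := by
    apply h₁ x₁ hx₁
    intro y hy
    have := hxy y (Submodule.mem_sup_left hy)
    rw [map_add, LinearMap.add_apply] at this
    have h0 : QuadraticMap.polarBilin Q x₂ y = 0 := by
      rw [polar_symm, QuadraticMap.polarBilin_apply_apply]
      exact horth y hy x₂ hx₂
    rwa [h0, add_zero] at this
  have e2 : x₂ = 0 := by
    apply h₂ x₂ hx₂
    intro y hy
    have := hxy y (Submodule.mem_sup_right hy)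
    rw [map_add, LinearMap.add_apply] at this
    have h0 : QuadraticMap.polarBilin Q x₁ y = 0 := by
      rw [QuadraticMap.polarBilin_apply_apply]
      exact horth x₁ hx₁ y hy
    rwa [h0, zero_add] at this
  rw [e1, e2, add_zero]

theorem inv_range (T : Module.End F V) : Inv T (LinearMap.range (T - 1)) := by
  rintro _ ⟨v, rfl⟩
  refine ⟨T v, ?_⟩
  simp only [LinearMap.sub_apply, Module.End.one_apply, map_sub]

theorem inv_of_le_ker (T : Module.End F V) {W : Submodule F V} (h : W ≤ LinearMap.ker (T - 1)) :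
    Inv T W := by
  intro x hx
  have := h hx
  rw [LinearMap.mem_ker, LinearMap.sub_apply, Module.End.one_apply, sub_eq_zero] at this
  rw [this]; exact hx

theorem inv_sup' (T : Module.End F V) {W₁ W₂ : Submodule F V} (h₁ : Inv T W₁) (h₂ : Inv T W₂) :
    Inv T (W₁ ⊔ W₂) := by
  intro x hx
  obtain ⟨x₁, hx₁, x₂, hx₂, rfl⟩ := Submodule.mem_sup.1 hx
  rw [map_add]
  exact Submodule.add_mem _ (Submodule.mem_sup_left (h₁ x₁ hx₁)) (Submodule.mem_sup_right (h₂ x₂ hx₂))

theorem inv_inf' (T : Module.End F V) {W₁ W₂ : Submodule F V} (h₁ : Inv T W₁) (h₂ : Inv T W₂) :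
    Inv T (W₁ ⊓ W₂) := fun x hx => ⟨h₁ x hx.1, h₂ x hx.2⟩

end basic

section str

variable {F : Type u} [Field F] [Fintype F] (p : ℕ) [Fact p.Prime] [CharP F p]
  {V : Type u} [AddCommGroup V] [Module F V] [FiniteDimensional F V]

/-- the structure theorem -/
theorem STR (Q : QuadraticForm F V) (hQ : (QuadraticMap.polarBilin Q).Nondegenerate)
    (T : Module.End F V) (hT : ∀ v, Q (T v) = Q v) (r : ℕ) (hr : r.Prime) (hr2 : r ≠ 2)
    (hrp : r ≠ p) (hTr : T ^ r = 1) (D e : ℕ) (hD : finrank F V = D) (hDe : Even D)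
    (he : finrank F (LinearMap.ker (T - 1)) = e) :
    ∃ a : ℕ, atomDim F r * a + e = D ∧
      (T ≠ 1 → Valid (orderOf ((Fintype.card F : ℕ) : ZMod r)) (atomDim F r) D (PlusOn Q ⊤) a) ∧
      ∀ (m : ℕ) (eta : Prop), Even m →
        ((∃ W : Submodule F V, Inv T W ∧ NDOn (QuadraticMap.polarBilin Q) W ∧ finrank F W = m ∧
            (PlusOn Q W ↔ eta)) ↔
          Fix (orderOf ((Fintype.card F : ℕ) : ZMod r)) (atomDim F r) D m (PlusOn Q ⊤) eta a) := by
  classical
  have hipos : 0 < orderOf ((Fintype.card F : ℕ) : ZMod r) :=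
    Cfsg.Agent.Lib.Helper99_SpTI.ord_pos (F := F) (p := p) hr hrp
  have hcpos : 0 < atomDim F r := atomDim_pos (F := F) (r := r) hipos
  have hceven : Even (atomDim F r) := Cfsg.Agent.Lib.Helper99_SpOrth.even_atomDim
  have R3' := fun U h1 h2 h3 => R3 p Q hQ T hT r hr hr2 hrp hTr U h1 h2 h3
  have R4' := fun a' h => R4 p Q hQ T hT r hr hr2 hrp hTr a' h
  obtain ⟨c, hc⟩ : ∃ c, atomDim F r = c := ⟨_, rfl⟩
  obtain ⟨i, hi⟩ : ∃ i, orderOf ((Fintype.card F : ℕ) : ZMod r) = i := ⟨_, rfl⟩
  simp only [hc, hi] at R3' R4' hcpos hceven ⊢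
  set C := LinearMap.ker (T - 1) with hCdef
  set R := LinearMap.range (T - 1) with hRdef
  obtain ⟨hCnd, hRnd, hCR, hcompl⟩ := R1 p Q hQ T hT r hr hrp hTr
  have hsum : finrank F C + finrank F R = D := by
    rw [← hD]; exact Submodule.finrank_add_eq_of_isCompl hcompl
  have hdisj : C ⊓ R = ⊥ := hcompl.inf_eq_bot
  obtain ⟨hcR, htR⟩ := R3' R le_rfl (inv_range T) hRnd
  obtain ⟨a, ha⟩ := hcR
  have hRa : finrank F R / c = a := by rw [ha, Nat.mul_div_cancel_left _ hcpos]
  rw [hRa] at htR
  have hRe : Even (finrank F R) := by rw [ha]; exact hceven.mul_right a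
  have hee : Even e := by
    have : e = D - finrank F R := by omega
    rw [this]
    exact (Nat.even_sub (by omega)).2 ⟨fun _ => hRe, fun _ => hDe⟩
  have hCe : Even (finrank F C) := by rw [he]; exact hee
  -- type of the fixed space
  have htop : C ⊔ R = ⊤ := hcompl.sup_eq_top
  have htC : PlusOn Q C ↔ (PlusOn Q ⊤ ↔ SignPlus i a) := by
    have h1 := TMUL Q C R hCnd hRnd hCR hCe hRe
    rw [htop] at h1
    constructor
    · intro h
      rw [h1]
      constructor
      · intro h2; exact htR.1 (h2.1 h)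
      · intro h2; exact ⟨fun _ => htR.2 h2, fun _ => h⟩
    · intro h
      by_cases hS : SignPlus i a
      · exact (h1.1 (h.2 hS)).2 (htR.2 hS)
      · by_contra hC
        have : PlusOn Q ⊤ := h1.2 ⟨fun h' => absurd h' hC, fun h' => absurd (htR.1 h') hS⟩
        exact hS (h.1 this)
  refine ⟨a, by omega, ?_, ?_⟩
  · -- validity
    intro hT1
    refine ⟨?_, by omega, ?_⟩
    · by_contra h0
      have ha0 : a = 0 := by omega
      rw [ha0, mul_zero] at ha
      have hR0 : R = ⊥ := Submodule.finrank_eq_zero.1 ha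
      apply hT1
      have : T - 1 = 0 := LinearMap.range_eq_bot.1 hR0
      exact sub_eq_zero.1 this
    · intro hca
      have he0 : e = 0 := by omega
      have hC0 : C = ⊥ := Submodule.finrank_eq_zero.1 (by rw [he, he0])
      have : PlusOn Q C := by rw [hC0]; exact plusOn_bot Q
      exact htC.1 this
  · intro m eta hme
    constructor
    · -- necessity
      rintro ⟨W, hWinv, hWnd, hWm, hWt⟩
      obtain ⟨hWCnd, hWRnd, hWsup⟩ := R2 p Q hQ T hT r hr hrp hTr W hWinv hWnd
      set WC := W ⊓ C with hWC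
      set WR := W ⊓ R with hWR
      have hWRinv : Inv T WR := inv_inf' T hWinv (inv_range T)
      obtain ⟨hcWR, htWR⟩ := R3' WR inf_le_right hWRinv hWRnd
      obtain ⟨a', ha'⟩ := hcWR
      have hWRa : finrank F WR / c = a' := by rw [ha', Nat.mul_div_cancel_left _ hcpos]
      rw [hWRa] at htWR
      have hdisjW : WC ⊓ WR = ⊥ := by
        rw [eq_bot_iff, ← hdisj]
        exact inf_le_inf inf_le_right inf_le_right
      have hdimW : finrank F WC + finrank F WR = m := by
        have := Submodule.finrank_sup_add_finrank_inf_eq WC WR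
        rw [hWsup, hdisjW, finrank_bot, add_zero, hWm] at this
        omega
      have hWRle : finrank F WR ≤ finrank F R := Submodule.finrank_mono inf_le_right
      have hWCle : finrank F WC ≤ finrank F C := Submodule.finrank_mono inf_le_right
      have ha'a : a' ≤ a := by
        rw [ha, ha'] at hWRle
        exact Nat.le_of_mul_le_mul_left hWRle hcpos
      have hWRe : Even (finrank F WR) := by rw [ha']; exact hceven.mul_right a'
      have hWCe : Even (finrank F WC) := by
        have : finrank F WC = m - finrank F WR := by omega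
        rw [this]
        exact (Nat.even_sub (by omega)).2 ⟨fun _ => hWRe, fun _ => hme⟩
      have horthW : Orth Q WC WR := orth_mono hCR inf_le_right inf_le_right
      have htW := TMUL Q WC WR hWCnd hWRnd horthW hWCe hWRe
      rw [hWsup] at htW
      -- eta ↔ (PlusOn WC ↔ SignPlus a')
      have hkey : eta ↔ (PlusOn Q WC ↔ SignPlus i a') := by
        rw [← hWt, htW, htWR]
      refine ⟨a', finrank F WC, ha'a, by omega, by omega, ?_, ?_⟩
      · intro hf0
        have hWC0 : WC = ⊥ := Submodule.finrank_eq_zero.1 hf0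
        have hp : PlusOn Q WC := by rw [hWC0]; exact plusOn_bot Q
        rw [hkey]
        exact ⟨fun h => h.1 hp, fun h => ⟨fun _ => h, fun _ => hp⟩⟩
      · intro hfull
        have hfe : finrank F WC = finrank F C := by omega
        have hWCC : WC = C := Submodule.eq_of_le_of_finrank_eq inf_le_right hfe
        rw [hWCC] at hkey
        rw [hkey, htC]
        exact iff_aux1 _ _ _
    · -- sufficiency
      rintro ⟨a', f, ha'a, hmf, hcaf, h0, h1⟩
      have hfe : Even f := by
        have : f = m - c * a' := by omega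
        rw [this]
        exact (Nat.even_sub (by omega)).2 ⟨fun _ => hceven.mul_right a', fun _ => hme⟩
      have hca'R : c * a' ≤ finrank F R := by
        rw [ha]; exact Nat.mul_le_mul_left c ha'a
      obtain ⟨U, hUR, hUinv, hUnd, hUd⟩ := R4' a' hca'R
      obtain ⟨-, htU⟩ := R3' U hUR hUinv hUnd
      rw [hUd, Nat.mul_div_cancel_left _ hcpos] at htU
      have hfC : f ≤ finrank F C := by omega
      obtain ⟨W₀, hW₀C, hW₀nd, hW₀d, hW₀t⟩ := TSUB Q C hCnd f hfe hfC hCe (eta ↔ SignPlus i a') h0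
        (by
          intro hfull
          rw [htC]
          exact h1 (by omega))
      have horth : Orth Q W₀ U := orth_mono hCR hW₀C hUR
      have hdisjW : W₀ ⊓ U = ⊥ := by
        rw [eq_bot_iff, ← hdisj]
        exact inf_le_inf hW₀C hUR
      have hW₀e : Even (finrank F W₀) := by rw [hW₀d]; exact hfe
      have hUe : Even (finrank F U) := by rw [hUd]; exact hceven.mul_right a'
      refine ⟨W₀ ⊔ U, inv_sup' T (inv_of_le_ker T hW₀C) hUinv, ndOn_sup hW₀nd hUnd horth, ?_, ?_⟩
      · have := Submodule.finrank_sup_add_finrank_inf_eq W₀ U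
        rw [hdisjW, finrank_bot, add_zero, hW₀d, hUd] at this
        omega
      · rw [TMUL Q W₀ U hW₀nd hUnd horth hW₀e hUe, hW₀t, htU]
        exact iff_aux2 _ _

end str

end Cfsg.Agent.Lib.Helper88_OrthND_STR
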