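import Mathlib
import Cfsg.Agent.Lib.Helper84_OTS_OAa
import Cfsg.Agent.Lib.Helper85_OrthND_TSUB
import Cfsg.Agent.Lib.Helper85_OrthND_TMUL
import Cfsg.Agent.Lib.Helper88_OrthND_STR

set_option autoImplicit false

/-!
TSUBodd (helper84, for S5992 / S5993 and helper88's `STR_odd`): inside a nondegenerate subspace `C` of ODD
dimension of a quadratic space over a finite field of odd characteristic there are nondegenerate subspaces of
every even dimension `f < dim C` and of both types (only plus type for `f = 0`).
-/

namespace Cfsg.Agent.Lib.Helper84_OrthOdd_TSUBodd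

open Module Cfsg.Agent.Lib.Helper40_SpBasic Cfsg.Agent.Lib.Helper40_OConj
  Cfsg.Agent.Lib.Helper84_OTSDefs Cfsg.Agent.Lib.Helper84_OTS_OAa
  Cfsg.Agent.Lib.Helper88_OrthNDDefs Cfsg.Agent.Lib.Helper88_OrthND_STR

universe u

variable {F : Type u} [Field F] {V : Type u} [AddCommGroup V] [Module F V]

section basic

variable {Q : QuadraticForm F V}

/-- a nonzero nondegenerate subspace contains a nonsingular vector -/
theorem exists_nonsingular [FiniteDimensional F V] (h2 : (2 : F) ≠ 0) {C : Submodule F V}
    (hC : NDOn (pol Q) C) (hpos : 0 < finrank F C) : ∃ w ∈ C, Q w ≠ 0 := by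
  by_contra hcon
  push Not at hcon
  have hne : C ≠ ⊥ := by
    intro h
    rw [h, finrank_bot] at hpos
    exact lt_irrefl _ hpos
  obtain ⟨c, hcC, hc0⟩ := Submodule.exists_mem_ne_zero_of_ne_bot hne
  apply hc0
  apply hC c hcC
  intro y hy
  exact (TSOn.isoOn (Q := Q) (W := C) hcon) c hcC y hy

/-- the orthogonal of a vector inside `C` -/
noncomputable def vperp (Q : QuadraticForm F V) (C : Submodule F V) (w : V) : Submodule F V :=
  C ⊓ LinearMap.ker (pol Q w)

theorem mem_vperp {C : Submodule F V} {w x : V} : x ∈ vperp Q C w ↔ x ∈ C ∧ pol Q w x = 0 := by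
  rw [vperp, Submodule.mem_inf, LinearMap.mem_ker]

theorem vperp_le {C : Submodule F V} {w : V} : vperp Q C w ≤ C := fun _ hx => (mem_vperp.1 hx).1

theorem sub_mem_vperp (h2 : (2 : F) ≠ 0) {C : Submodule F V} {w : V} (hw : w ∈ C) (hQw : Q w ≠ 0)
    {c : V} (hc : c ∈ C) : c - ((2 * Q w)⁻¹ * pol Q w c) • w ∈ vperp Q C w := by
  rw [mem_vperp]
  refine ⟨C.sub_mem hc (C.smul_mem _ hw), ?_⟩
  rw [map_sub, map_smul, pol_self, smul_eq_mul]
  have : 2 * Q w ≠ 0 := mul_ne_zero h2 hQw
  field_simp
  ring

theorem ndOn_vperp (h2 : (2 : F) ≠ 0) {C : Submodule F V} (hC : NDOn (pol Q) C) {w : V}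
    (hw : w ∈ C) (hQw : Q w ≠ 0) : NDOn (pol Q) (vperp Q C w) := by
  intro x hx hxo
  obtain ⟨hxC, hxw⟩ := mem_vperp.1 hx
  apply hC x hxC
  intro c hc
  have h1 := hxo _ (sub_mem_vperp h2 hw hQw hc)
  rw [map_sub, map_smul, pol_comm Q x w, hxw, smul_zero, sub_zero] at h1
  exact h1

theorem finrank_vperp [FiniteDimensional F V] (h2 : (2 : F) ≠ 0) {C : Submodule F V} {w : V}
    (hw : w ∈ C) (hQw : Q w ≠ 0) : finrank F (vperp Q C w) + 1 = finrank F C := by
  set φ : C →ₗ[F] F := (pol Q w).comp C.subtype with hφ
  have hsurj : LinearMap.range φ = ⊤ := by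
    rw [LinearMap.range_eq_top]
    intro a
    refine ⟨⟨(a * (2 * Q w)⁻¹) • w, C.smul_mem _ hw⟩, ?_⟩
    rw [hφ]
    show pol Q w ((a * (2 * Q w)⁻¹) • w) = a
    rw [map_smul, pol_self, smul_eq_mul]
    have : 2 * Q w ≠ 0 := mul_ne_zero h2 hQw
    field_simp
  have h1 := LinearMap.finrank_range_add_finrank_ker φ
  rw [hsurj, finrank_top, Module.finrank_self] at h1
  have h3 : (LinearMap.ker φ).map C.subtype = vperp Q C w := by
    ext x
    rw [Submodule.mem_map, mem_vperp]
    constructor
    · rintro ⟨c, hc, rfl⟩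
      rw [LinearMap.mem_ker, hφ] at hc
      exact ⟨c.2, hc⟩
    · rintro ⟨hxC, hx⟩
      refine ⟨⟨x, hxC⟩, ?_, rfl⟩
      rw [LinearMap.mem_ker, hφ]
      exact hx
  have h4 : finrank F ((LinearMap.ker φ).map C.subtype) = finrank F (LinearMap.ker φ) :=
    (Submodule.equivMapOfInjective C.subtype C.injective_subtype _).finrank_eq.symm
  rw [← h3, h4]
  omega

/-- the span of two vectors is a plane if no nontrivial combination vanishes -/
theorem finrank_span_pair {u w : V} (h : ∀ a b : F, a • u + b • w = 0 → a = 0 ∧ b = 0) :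
    finrank F (Submodule.span F {u, w}) = 2 := by
  have hli : LinearIndependent F ![u, w] := by
    rw [LinearIndependent.pair_iff]
    exact h
  have hr : Set.range ![u, w] = {u, w} := by
    ext z
    simp only [Matrix.range_cons, Matrix.range_empty, Set.union_empty, Set.mem_union,
      Set.mem_singleton_iff, Set.mem_insert_iff]
  have := finrank_span_eq_card hli
  rw [hr, Fintype.card_fin] at this
  exact this

/-- the hyperbolic plane -/
theorem hyp_plane [FiniteDimensional F V] {e f : V} (hQe : Q e = 0) (hQf : Q f = 0)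
    (hef : pol Q e f = 1) :
    NDOn (pol Q) (Submodule.span F {e, f}) ∧ finrank F (Submodule.span F {e, f}) = 2 ∧
      PlusOn Q (Submodule.span F {e, f}) := by
  have hfe : pol Q f e = 1 := by rw [pol_comm, hef]
  have hee : pol Q e e = 0 := by rw [pol_self, hQe, mul_zero]
  have hff : pol Q f f = 0 := by rw [pol_self, hQf, mul_zero]
  have hind : ∀ a b : F, a • e + b • f = 0 → a = 0 ∧ b = 0 := by
    intro a b hab
    have e1 : pol Q f (a • e + b • f) = 0 := by rw [hab, map_zero]
    have e2 : pol Q e (a • e + b • f) = 0 := by rw [hab, map_zero]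
    rw [map_add, map_smul, map_smul, hfe, hff, smul_zero, add_zero, smul_eq_mul, mul_one] at e1
    rw [map_add, map_smul, map_smul, hee, hef, smul_zero, zero_add, smul_eq_mul, mul_one] at e2
    exact ⟨e1, e2⟩
  have hd := finrank_span_pair hind
  refine ⟨?_, hd, ?_⟩
  · intro x hx hxo
    obtain ⟨a, b, rfl⟩ := Submodule.mem_span_pair.1 hx
    have he : e ∈ Submodule.span F {e, f} := Submodule.subset_span (by simp)
    have hf : f ∈ Submodule.span F {e, f} := Submodule.subset_span (by simp)
    have e1 := hxo e he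
    have e2 := hxo f hf
    rw [map_add, map_smul, map_smul, LinearMap.add_apply, LinearMap.smul_apply,
      LinearMap.smul_apply, hee, hfe, smul_zero, zero_add, smul_eq_mul, mul_one] at e1
    rw [map_add, map_smul, map_smul, LinearMap.add_apply, LinearMap.smul_apply,
      LinearMap.smul_apply, hef, hff, smul_zero, add_zero, smul_eq_mul, mul_one] at e2
    rw [e1, e2, zero_smul, zero_smul, add_zero]
  · have he0 : e ≠ 0 := by
      rintro rfl
      rw [map_zero, LinearMap.zero_apply] at hef
      exact zero_ne_one hef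
    refine ⟨Submodule.span F {e}, ?_, ?_, ?_⟩
    · rw [Submodule.span_le]
      intro x hx
      rw [Set.mem_singleton_iff.1 hx]
      exact Submodule.subset_span (by simp)
    · intro u hu
      obtain ⟨a, rfl⟩ := Submodule.mem_span_singleton.1 hu
      rw [QuadraticMap.map_smul, hQe, smul_zero]
    · rw [finrank_span_singleton he0, hd]

/-- an anisotropic plane -/
theorem aniso_plane [FiniteDimensional F V] (h2 : (2 : F) ≠ 0) {u w : V}
    (han : ∀ a b : F, Q (a • u + b • w) = 0 → a = 0 ∧ b = 0) :
    NDOn (pol Q) (Submodule.span F {u, w}) ∧ finrank F (Submodule.span F {u, w}) = 2 ∧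
      ¬ PlusOn Q (Submodule.span F {u, w}) := by
  have hind : ∀ a b : F, a • u + b • w = 0 → a = 0 ∧ b = 0 := by
    intro a b hab
    apply han
    rw [hab, map_zero]
  have hd := finrank_span_pair hind
  have hsing : ∀ x ∈ Submodule.span F {u, w}, Q x = 0 → x = 0 := by
    intro x hx hQx
    obtain ⟨a, b, rfl⟩ := Submodule.mem_span_pair.1 hx
    obtain ⟨ha, hb⟩ := han a b hQx
    rw [ha, hb, zero_smul, zero_smul, add_zero]
  refine ⟨?_, hd, ?_⟩
  · intro x hx hxo
    apply hsing x hx
    have := hxo x hx
    rw [pol_self] at this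
    exact (mul_eq_zero.1 this).resolve_left h2
  · rintro ⟨U, hU, hUts, hUd⟩
    have hU1 : 0 < finrank F U := by omega
    have hne : U ≠ ⊥ := by
      intro h
      rw [h, finrank_bot] at hU1
      exact lt_irrefl _ hU1
    obtain ⟨x, hxU, hx0⟩ := Submodule.exists_mem_ne_zero_of_ne_bot hne
    exact hx0 (hsing x (hU hxU) (hUts x hxU))

end basic

section main

variable [Fintype F] [FiniteDimensional F V]

/-- **TSUBodd** -/
theorem TSUBodd (h2 : (2 : F) ≠ 0) (Q : QuadraticForm F V) (C : Submodule F V)
    (hC : NDOn (QuadraticMap.polarBilin Q) C) (hCo : Odd (finrank F C)) (f : ℕ) (hf : Even f)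
    (hfC : f < finrank F C) (eta : Prop) (h0 : f = 0 → eta) :
    ∃ W : Submodule F V, W ≤ C ∧ NDOn (QuadraticMap.polarBilin Q) W ∧ finrank F W = f ∧
      (PlusOn Q W ↔ eta) := by
  classical
  by_cases hcase : f + 1 < finrank F C
  · -- any hyperplane
    obtain ⟨v, hvC, hQv⟩ := exists_nonsingular h2 hC (by omega)
    have hnd := ndOn_vperp h2 hC hvC hQv
    have hfr := finrank_vperp (Q := Q) h2 hvC hQv
    obtain ⟨W, hWC, hW⟩ := Cfsg.Agent.Lib.Helper85_OrthND_TSUB.TSUB Q (vperp Q C v) hnd f hf
      (by omega) (by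
        obtain ⟨t, ht⟩ := hCo
        exact ⟨t, by omega⟩) eta h0 (fun h => by omega)
    exact ⟨W, hWC.trans vperp_le, hW⟩
  · have hfeq : f + 1 = finrank F C := by omega
    by_cases hf0 : f = 0
    · subst hf0
      exact ⟨⊥, bot_le, fun x hx _ => (Submodule.mem_bot F).1 hx, finrank_bot F V,
        iff_of_true (plusOn_bot Q) (h0 rfl)⟩
    · -- `f ≥ 2`, `dim C ≥ 3`
      have hf2 : 2 ≤ f := by
        obtain ⟨t, ht⟩ := hf
        omega
      obtain ⟨e, heC, f₁, hfC₁, hQe, hQf, hef⟩ := exists_hyp_pair Q hC (by omega)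
      have hfe : pol Q f₁ e = 1 := by rw [pol_comm, hef]
      have hC2 := ndOn_cperp hC heC hfC₁ hQe hQf hef
      have hd2 := finrank_cperp (Q := Q) heC hfC₁ hQe hQf hef
      obtain ⟨w, hwC2, hQw⟩ := exists_nonsingular h2 hC2 (by omega)
      obtain ⟨hwC, hew, hfw⟩ := mem_cperp.1 hwC2
      have hC3 := ndOn_vperp h2 hC2 hwC2 hQw
      have hd3 := finrank_vperp (Q := Q) h2 hwC2 hQw
      set C3 := vperp Q (cperp Q C e f₁) w with hC3def
      have hC3e : Even (finrank F C3) := by
        obtain ⟨t, ht⟩ := hf
        exact ⟨t - 1, by omega⟩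
      -- orthogonality of `C3` with `e, f₁, w`
      have horth3 : ∀ y ∈ C3, pol Q e y = 0 ∧ pol Q f₁ y = 0 ∧ pol Q w y = 0 := by
        intro y hy
        obtain ⟨hy2, hyw⟩ := mem_vperp.1 hy
        obtain ⟨-, hye, hyf⟩ := mem_cperp.1 hy2
        exact ⟨hye, hyf, hyw⟩
      have hC3C : C3 ≤ C := vperp_le.trans cperp_le
      -- the plane
      obtain ⟨A, hAC, hAnd, hAd, hAorth, hAty⟩ : ∃ A : Submodule F V, A ≤ C ∧ NDOn (pol Q) A ∧
          finrank F A = 2 ∧ Orth Q A C3 ∧ (PlusOn Q A ↔ (PlusOn Q C3 ↔ eta)) := by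
        by_cases hty : PlusOn Q C3 ↔ eta
        · obtain ⟨h1, h3, h4⟩ := hyp_plane hQe hQf hef
          refine ⟨Submodule.span F {e, f₁}, ?_, h1, h3, ?_, iff_of_true h4 hty⟩
          · rw [Submodule.span_le]
            intro x hx
            rcases hx with rfl | rfl
            · exact heC
            · exact hfC₁
          · intro x hx y hy
            obtain ⟨a, b, rfl⟩ := Submodule.mem_span_pair.1 hx
            obtain ⟨h5, h6, -⟩ := horth3 y hy
            show pol Q (a • e + b • f₁) y = 0
            rw [map_add, map_smul, map_smul, LinearMap.add_apply, LinearMap.smul_apply,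
              LinearMap.smul_apply, h5, h6, smul_zero, smul_zero, add_zero]
        · -- the anisotropic plane `⟨e + a f₁, w⟩`, `a = - Q w * ν`
          have hchar : ringChar F ≠ 2 := by
            intro h
            apply h2
            have := CharP.cast_eq_zero F (ringChar F)
            rw [h] at this
            exact_mod_cast this
          obtain ⟨ν, hν⟩ := FiniteField.exists_nonsquare hchar
          set a : F := - Q w * ν with ha
          set u : V := e + a • f₁ with hu
          have hQu : Q u = a := by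
            rw [hu, add_comm, Cfsg.Agent.Lib.Helper44_QuadClass.map_smul_add, hQe, hQf]
            have : QuadraticMap.polar (⇑Q) f₁ e = 1 := hfe
            rw [this]
            ring
          have huw : pol Q u w = 0 := by
            rw [hu, map_add, map_smul, LinearMap.add_apply, LinearMap.smul_apply, hew, hfw,
              smul_zero, add_zero]
          have han : ∀ x y : F, Q (x • u + y • w) = 0 → x = 0 ∧ y = 0 := by
            intro x y hxy
            rw [Cfsg.Agent.Lib.Helper44_QuadClass.map_smul_add, QuadraticMap.map_smul, hQu] at hxy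
            have hp : QuadraticMap.polar (⇑Q) u (y • w) = 0 := by
              show pol Q u (y • w) = 0
              rw [map_smul, huw, smul_zero]
            rw [hp, mul_zero, add_zero, smul_eq_mul, ha] at hxy
            have hx0 : x = 0 := by
              by_contra hx
              apply hν
              refine ⟨y / x, ?_⟩
              have h5 : Q w * (y * y - ν * (x * x)) = 0 := by linear_combination hxy
              have h6 := (mul_eq_zero.1 h5).resolve_left hQw
              field_simp
              linear_combination -h6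
            refine ⟨hx0, ?_⟩
            rw [hx0] at hxy
            have h5 : Q w * (y * y) = 0 := by linear_combination hxy
            exact mul_self_eq_zero.1 ((mul_eq_zero.1 h5).resolve_left hQw)
          obtain ⟨h1, h3, h4⟩ := aniso_plane (Q := Q) h2 han
          refine ⟨Submodule.span F {u, w}, ?_, h1, h3, ?_, iff_of_false h4 hty⟩
          · rw [Submodule.span_le]
            intro x hx
            rcases hx with rfl | rfl
            · exact C.add_mem heC (C.smul_mem _ hfC₁)
            · exact hwC
          · intro x hx y hy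
            obtain ⟨b, c, rfl⟩ := Submodule.mem_span_pair.1 hx
            obtain ⟨h5, h6, h7⟩ := horth3 y hy
            show pol Q (b • u + c • w) y = 0
            rw [hu, map_add, map_smul, map_smul, map_add, map_smul, LinearMap.add_apply,
              LinearMap.smul_apply, LinearMap.smul_apply, LinearMap.add_apply,
              LinearMap.smul_apply, h5, h6, h7]
            simp
      have hdisj : A ⊓ C3 = ⊥ := by
        rw [eq_bot_iff]
        rintro x ⟨hx1, hx2⟩
        rw [Submodule.mem_bot]
        apply hAnd x hx1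
        intro y hy
        rw [pol_comm]
        exact hAorth y hy x hx2
      have hsum := Submodule.finrank_sup_add_finrank_inf_eq A C3
      rw [hdisj, finrank_bot, add_zero] at hsum
      refine ⟨A ⊔ C3, sup_le hAC hC3C, ndOn_sup hAnd hC3 hAorth, by omega, ?_⟩
      rw [Cfsg.Agent.Lib.Helper85_OrthND_TMUL.TMUL Q A C3 hAnd hC3 hAorth ⟨1, by omega⟩ hC3e, hAty]
      by_cases h5 : PlusOn Q C3 <;> by_cases h6 : eta <;> simp [h5, h6]

end main

end Cfsg.Agent.Lib.Helper84_OrthOdd_TSUBodd
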