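import Mathlib
import Cfsg.Agent.Lib.Helper3_GUSp_PC1
import Cfsg.Agent.Lib.Helper43_OrthExtDefs

/-!
# S5977 package PNsq (helper88): squares of `L = F(√Δ)` are detected by the norm

`F` finite of odd order `q`, `Δ` a non-square, `L = QE F Δ` the field with `q²` elements.
For `z ≠ 0`: `z` is a square in `L` iff `norm z` is a square in `F`.
Proof: Euler's criterion on both sides, `algebraMap (norm z) = z * star z = z ^ (q+1)` and
`(q + 1) * (q / 2) = q² / 2` for odd `q`.
-/

set_option autoImplicit false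

namespace Cfsg.Agent.Lib.Helper88_OrthExt_PNsq

open Cfsg.Agent.Lib.Helper3_GUSp_PC1

theorem star_eq_pow_card {F : Type*} [Field F] [Fintype F] (h2 : (2 : F) ≠ 0) (Δ : F)
    (hΔ : ¬ IsSquare Δ) (z : QE F Δ) : star z = z ^ Fintype.card F := by
  rw [pow_card_eq rfl h2 hΔ z]
  ext <;> simp

theorem algebraMap_norm_eq_pow {F : Type*} [Field F] [Fintype F] (h2 : (2 : F) ≠ 0) (Δ : F)
    (hΔ : ¬ IsSquare Δ) (z : QE F Δ) :
    algebraMap F (QE F Δ) (QuadraticAlgebra.norm z) = z ^ (Fintype.card F + 1) := by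
  rw [QuadraticAlgebra.algebraMap_norm_eq_mul_star, star_eq_pow_card h2 Δ hΔ, pow_succ']

/-- PNsq: squares of `L` are detected by the norm -/
theorem PNsq {F : Type*} [Field F] [Fintype F] (h2 : (2 : F) ≠ 0) (Δ : F) (hΔ : ¬ IsSquare Δ)
    (z : QE F Δ) (hz : z ≠ 0) : IsSquare z ↔ IsSquare (QuadraticAlgebra.norm z) := by
  have := fact_of_not_isSquare hΔ
  have hcF : ringChar F ≠ 2 := ringChar_ne_two h2
  have hodd : Fintype.card F % 2 = 1 := FiniteField.odd_card_of_char_ne_two hcF
  have h2L : (2 : QE F Δ) ≠ 0 := by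
    intro h
    apply h2
    have := congrArg QuadraticAlgebra.re h
    rwa [QuadraticAlgebra.re_ofNat, QuadraticAlgebra.re_zero] at this
  have hcL : ringChar (QE F Δ) ≠ 2 := by
    intro h
    apply h2L
    have := ringChar.Nat.cast_ringChar (R := QE F Δ)
    rw [h] at this
    exact_mod_cast this
  have hn0 : QuadraticAlgebra.norm z ≠ 0 := fun h =>
    hz (QuadraticAlgebra.norm_eq_zero_iff_eq_zero.mp h)
  rw [FiniteField.isSquare_iff hcL hz, FiniteField.isSquare_iff hcF hn0,
    card_QE (Δ := Δ) (rfl : Fintype.card F = Fintype.card F)]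
  have hinj : Function.Injective (algebraMap F (QE F Δ)) := (algebraMap F (QE F Δ)).injective
  have hexp : Fintype.card F ^ 2 / 2 = (Fintype.card F + 1) * (Fintype.card F / 2) := by
    obtain ⟨k, hk⟩ : ∃ k, Fintype.card F = 2 * k + 1 := ⟨Fintype.card F / 2, by omega⟩
    rw [hk]
    have h1 : (2 * k + 1) / 2 = k := by omega
    have h3 : (2 * k + 1) ^ 2 = 2 * ((2 * k + 1 + 1) * k) + 1 := by ring
    rw [h1, h3]
    omega
  rw [hexp, pow_mul, ← algebraMap_norm_eq_pow h2 Δ hΔ, ← map_pow]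
  constructor
  · intro h
    apply hinj
    rw [h, map_one]
  · intro h
    rw [h, map_one]

end Cfsg.Agent.Lib.Helper88_OrthExt_PNsq
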