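import Mathlib
import Cfsg.Agent.Lib.Helper3_GUSp_PC1
import Cfsg.Agent.Lib.Helper43_OrthExtDefs
import Cfsg.Agent.Lib.Helper40_QuadIso
import Cfsg.Agent.Lib.Helper14_WittType
import Cfsg.Agent.Lib.Helper22_OrthExt_Pdet
import Cfsg.Agent.Lib.Helper88_OrthExt_PNsq

/-!
# S5977 package C3c (helper88): the `L`-form `q'` is hyperbolic iff `Q` is

`L = QE F Δ`, `Φ : (Fin (2m) → L) ≃ₗ[F] (ι → F)` with `Q (Φ u) = (q' u).re`, `|ι| = 4m`.
(→) the image under `Φ` of a totally singular `L`-subspace of `L`-dimension `≥ m` is a totally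
singular `F`-subspace of `F`-dimension `≥ 2m`.
(←) a totally singular `F`-subspace of dimension `2m` makes the `F`-Gram determinant a square
(`Helper14_WittType.isSquare_of_isotropic`, `(-1)^(2m) = 1`); by `Pdet` it is
`Δ^(2m) * norm D`, so `norm D` is a square, so `D` is a square in `L` (`PNsq`), and `-1` is a
square in `L`; `Helper14_WittType.exists_isotropic_of_isSquare` over `L` concludes.
-/

set_option autoImplicit false
set_option linter.unusedSectionVars false
set_option linter.unusedVariables false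

namespace Cfsg.Agent.Lib.Helper88_OrthExt_C3c

open Matrix Module Cfsg.Agent.Lib.Helper3_GUSp_PC1 Cfsg.Agent.Lib.Helper43_OrthExtDefs
  Cfsg.Agent.Lib.Helper40_QuadIso

section basis

variable {F : Type*} [Field F] {Δ : F} {d : ℕ}

/-- real and imaginary coordinates -/
def coordEquiv (F : Type*) [Field F] (Δ : F) (d : ℕ) :
    (Fin d → QE F Δ) ≃ₗ[F] (Fin d ⊕ Fin d → F) where
  toFun u := Sum.elim (fun k => (u k).re) (fun k => (u k).im)
  invFun w := fun k => ⟨w (Sum.inl k), w (Sum.inr k)⟩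
  map_add' u v := by
    ext (k | k) <;> simp
  map_smul' c u := by
    ext (k | k) <;> simp
  left_inv u := by
    funext k
    rfl
  right_inv w := by
    ext (k | k) <;> rfl

/-- the `F`-basis `e_k, ω e_k` -/
noncomputable def rB (F : Type*) [Field F] (Δ : F) (d : ℕ) :
    Basis (Fin d ⊕ Fin d) F (Fin d → QE F Δ) :=
  Basis.ofEquivFun (coordEquiv F Δ d)

theorem rB_apply (a : Fin d ⊕ Fin d) : rB F Δ d a = rbasis F Δ d a := by
  rw [rB, Basis.coe_ofEquivFun]
  rcases a with k | k
  · funext j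
    change (⟨_, _⟩ : QE F Δ) = _
    by_cases h : j = k
    · subst h
      ext <;> simp [rbasis, QuadraticAlgebra.re_one, QuadraticAlgebra.im_one]
    · ext <;> simp [rbasis, h]
  · funext j
    change (⟨_, _⟩ : QE F Δ) = _
    by_cases h : j = k
    · subst h
      ext <;> simp [rbasis, om]
    · ext <;> simp [rbasis, h]

end basis

/-- a subspace of prescribed smaller dimension -/
theorem exists_le_finrank_eq {K V : Type*} [Field K] [AddCommGroup V] [Module K V]
    [FiniteDimensional K V] (U : Submodule K V) (n : ℕ) (hn : n ≤ finrank K U) :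
    ∃ X : Submodule K V, X ≤ U ∧ finrank K X = n := by
  obtain ⟨f, hf⟩ := exists_linearIndependent_of_le_finrank hn
  have hf' : LinearIndependent K (fun i => (f i : V)) :=
    hf.map' U.subtype (Submodule.ker_subtype U)
  refine ⟨Submodule.span K (Set.range fun i => (f i : V)), ?_, ?_⟩
  · rw [Submodule.span_le]
    rintro _ ⟨i, rfl⟩
    exact (f i).2
  · rw [finrank_span_eq_card hf', Fintype.card_fin]

theorem isSquare_of_mul_sq {K : Type*} [Field K] {a c : K} (hc : c ≠ 0)
    (h : IsSquare (c * c * a)) : IsSquare a := by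
  obtain ⟨s, hs⟩ := h
  refine ⟨s / c, ?_⟩
  rw [div_mul_div_comm, ← hs]
  field_simp

/-- C3c: the `L`-form is hyperbolic iff `Q` is -/
theorem C3c {F : Type*} [Field F] [Fintype F] (h2 : (2 : F) ≠ 0) {ι : Type} [Fintype ι]
    [DecidableEq ι] (m : ℕ) (hm : 1 ≤ m) (hcard : Fintype.card ι = 2 * (2 * m)) (Δ : F)
    (hΔ : ¬ IsSquare Δ) [Fact (∀ r : F, r ^ 2 ≠ Δ + 0 * r)] (Q : QuadraticForm F (ι → F))
    (hQ : (QuadraticMap.polarBilin Q).Nondegenerate) (θ : Matrix ι ι F)
    (q' : QuadraticForm (QE F Δ) (Fin (2 * m) → QE F Δ))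
    (Φ : (Fin (2 * m) → QE F Δ) ≃ₗ[F] (ι → F))
    (hq' : (QuadraticMap.polarBilin q').Nondegenerate)
    (hΦθ : ∀ u, Φ (om F Δ • u) = θ *ᵥ Φ u) (hΦQ : ∀ u, Q (Φ u) = (q' u).re) :
    IsHyp q' ↔ IsHyp Q := by
  have hfrL : finrank (QE F Δ) (Fin (2 * m) → QE F Δ) = 2 * m := by
    rw [Module.finrank_fintype_fun_eq_card, Fintype.card_fin]
  have hfrF : finrank F (ι → F) = 2 * (2 * m) := by
    rw [Module.finrank_fintype_fun_eq_card, hcard]
  have hΔ0 : Δ ≠ 0 := fun h => hΔ (h ▸ ⟨0, by simp⟩)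
  have h2L : (2 : QE F Δ) ≠ 0 := by
    intro h
    apply h2
    have := congrArg QuadraticAlgebra.re h
    rwa [QuadraticAlgebra.re_ofNat, QuadraticAlgebra.re_zero] at this
  constructor
  · -- (→)
    rintro ⟨U, hU, hdim⟩
    refine ⟨(U.restrictScalars F).map Φ.toLinearMap, ?_, ?_⟩
    · rintro _ ⟨u, hu, rfl⟩
      rw [LinearEquiv.coe_coe, hΦQ, hU u hu, QuadraticAlgebra.re_zero]
    · rw [LinearEquiv.finrank_map_eq, hfrF]
      have h1 : finrank F (QE F Δ) * finrank (QE F Δ) U = finrank F U :=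
        Module.finrank_mul_finrank F (QE F Δ) U
      have h3 : finrank F (U.restrictScalars F) = finrank F U := rfl
      rw [h3, ← h1, QuadraticAlgebra.finrank_eq_two]
      rw [hfrL] at hdim
      omega
  · -- (←)
    rintro ⟨U, hU, hdim⟩
    rw [hfrF] at hdim
    obtain ⟨X, hXU, hXd⟩ := exists_le_finrank_eq U (2 * m) (by omega)
    -- the F-side Gram determinant is a square
    set B : LinearMap.BilinForm F (ι → F) := QuadraticMap.polarBilin Q with hB
    have hS : B.IsSymm := ⟨fun x y => QuadraticMap.polar_comm _ _ _⟩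
    have hiso : ∀ x ∈ X, ∀ y ∈ X, B x y = 0 := by
      intro x hx y hy
      rw [hB, QuadraticMap.polarBilin_apply_apply, QuadraticMap.polar,
        hU _ (hXU (X.add_mem hx hy)), hU _ (hXU hx), hU _ (hXU hy)]
      simp
    set b : Basis (Fin (2 * m) ⊕ Fin (2 * m)) F (ι → F) := (rB F Δ (2 * m)).map Φ with hb
    have hsqF := Cfsg.Agent.Lib.Helper14_WittType.isSquare_of_isotropic B hS hfrF X hXd hiso b
    have hpolar : ∀ u v, QuadraticMap.polar (⇑Q) (Φ u) (Φ v) = (QuadraticMap.polar (⇑q') u v).re := by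
      intro u v
      simp only [QuadraticMap.polar]
      rw [← map_add, hΦQ, hΦQ, hΦQ]
      simp
    have hmat : LinearMap.BilinForm.toMatrix b B =
        Matrix.of fun a c : Fin (2 * m) ⊕ Fin (2 * m) =>
          (QuadraticMap.polar (⇑q') (rbasis F Δ (2 * m) a) (rbasis F Δ (2 * m) c)).re := by
      ext a c
      rw [LinearMap.BilinForm.toMatrix_apply, hb, Basis.map_apply, Basis.map_apply, rB_apply,
        rB_apply, hB, QuadraticMap.polarBilin_apply_apply, hpolar]
      rfl
    have hneg : ((-1 : F)) ^ (2 * m) = 1 := by rw [pow_mul]; simp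
    have hΔpow : Δ ^ (2 * m) = Δ ^ m * Δ ^ m := by rw [two_mul, pow_add]
    rw [hmat, Cfsg.Agent.Lib.Helper22_OrthExt_Pdet.Pdet, hneg, one_mul, hΔpow] at hsqF
    set G : Matrix (Fin (2 * m)) (Fin (2 * m)) (QE F Δ) := Matrix.of fun i j : Fin (2 * m) =>
      QuadraticMap.polar (⇑q') (Pi.single i 1) (Pi.single j 1) with hG
    have hnormsq : IsSquare (QuadraticAlgebra.norm G.det) :=
      isSquare_of_mul_sq (pow_ne_zero m hΔ0) hsqF
    -- the L-side
    set B' : LinearMap.BilinForm (QE F Δ) (Fin (2 * m) → QE F Δ) := QuadraticMap.polarBilin q'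
      with hB'
    have hS' : B'.IsSymm := ⟨fun x y => QuadraticMap.polar_comm _ _ _⟩
    have hmat' : LinearMap.BilinForm.toMatrix (Pi.basisFun (QE F Δ) (Fin (2 * m))) B' = G := by
      apply Matrix.ext
      intro i j
      rw [LinearMap.BilinForm.toMatrix_apply, Pi.basisFun_apply, Pi.basisFun_apply, hB',
        QuadraticMap.polarBilin_apply_apply, hG, Matrix.of_apply]
    have hD0 : G.det ≠ 0 := by
      rw [← hmat']
      exact (LinearMap.BilinForm.nondegenerate_iff_det_ne_zero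
        (Pi.basisFun (QE F Δ) (Fin (2 * m)))).mp hq'
    have hDsq : IsSquare G.det :=
      (Cfsg.Agent.Lib.Helper88_OrthExt_PNsq.PNsq h2 Δ hΔ G.det hD0).mpr hnormsq
    have hneg1 : IsSquare (-1 : QE F Δ) := by
      refine (Cfsg.Agent.Lib.Helper88_OrthExt_PNsq.PNsq h2 Δ hΔ (-1) (by simp)).mpr ?_
      rw [QuadraticAlgebra.norm_def]
      exact ⟨1, by simp [QuadraticAlgebra.re_one, QuadraticAlgebra.im_one]⟩
    have hsqL : IsSquare ((-1) ^ m *
        (LinearMap.BilinForm.toMatrix (Pi.basisFun (QE F Δ) (Fin (2 * m))) B').det) := by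
      rw [hmat']
      exact (hneg1.pow m).mul hDsq
    obtain ⟨Y, hYd, hYiso⟩ := Cfsg.Agent.Lib.Helper14_WittType.exists_isotropic_of_isSquare h2L
      B' hS' hq' hm hfrL (Pi.basisFun (QE F Δ) (Fin (2 * m))) hsqL
    refine ⟨Y, fun u hu => ?_, by rw [hfrL, hYd]⟩
    have h1 := hYiso u hu u hu
    rw [hB', QuadraticMap.polarBilin_apply_apply, QuadraticMap.polar_self] at h1
    have h1' : (2 : QE F Δ) * q' u = 0 := by
      have : (2 : QE F Δ) * q' u = 2 • q' u := by simp [two_mul, two_smul]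
      rw [this]; exact h1
    rcases mul_eq_zero.mp h1' with h | h
    · exact absurd h h2L
    · exact h

end Cfsg.Agent.Lib.Helper88_OrthExt_C3c
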