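import Mathlib
import Cfsg.Prelude.Def_GeometricClasses
import Cfsg.Prelude.Def_Classical
import Cfsg.Agent.Lib.Helper44_StdForms
import Cfsg.Agent.Lib.Helper40_QuadStd
import Cfsg.Agent.Lib.Helper43_OrthReal
import Cfsg.Agent.Lib.Helper68_OEven
import Cfsg.Agent.Lib.Helper14_POmegaSimple
import Cfsg.Agent.Lib.Helper88_OrthExt_C3c
import Cfsg.Agent.Lib.Helper88_OrthNDDefs
import Cfsg.Agent.Lib.Helper85_OrthND_TSUB

/-!
# S5974 / S5988 / S5990 (helper88): glue between the frozen predicates and the `OrthND` language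
(basic part, independent of the row argument)
-/

set_option autoImplicit false
set_option linter.unusedSectionVars false
set_option linter.unusedVariables false

universe u

namespace Cfsg.Agent.Lib.Helper88_OrthND_GlueBasic

open Module Matrix Cfsg.Agent.Lib.Helper40_SpBasic Cfsg.Agent.Lib.Helper88_OrthNDDefs
  Cfsg.Agent.Lib.Helper44_StdForms Cfsg.Agent.Lib.Helper40_QuadIso Cfsg.Agent.Lib.Helper40_QuadStd
  Cfsg.Agent.Lib.Helper85_OrthND_TSUB

variable {ι : Type} [Fintype ι] [DecidableEq ι] {F : Type u} [Field F]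

/-- elements of odd order of the isometry group lie in `Ω` (any characteristic) -/
theorem mem_omegaGL_of_odd [Fintype F] (Q : QuadraticForm F (ι → F))
    (hQ : (QuadraticMap.polarBilin Q).Nondegenerate) (hv₀ : ∃ v, Q v ≠ 0)
    (hcard : 5 ≤ Fintype.card ι) (x : GL ι F) (hx : x ∈ Cfsg.isometryGroup F (⇑Q)) (k : ℕ)
    (hk : Odd k) (hxk : x ^ k = 1) : x ∈ Cfsg.Geo.omegaGL (⇑Q) := by
  by_cases h2 : (2 : F) = 0
  · obtain ⟨v₀, hv₀⟩ := hv₀
    have hg : (⟨x, hx⟩ : ↥(Cfsg.isometryGroup F (⇑Q))) ^ k = 1 := by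
      apply Subtype.ext
      rw [Subgroup.coe_pow, Subgroup.coe_one]
      exact hxk
    have := Cfsg.Agent.Lib.Helper68_OEven.odd_mem_omega h2 Q hQ (Or.inr (by omega)) hv₀
      ⟨x, hx⟩ hk hg
    exact ⟨⟨x, hx⟩, this, rfl⟩
  · exact Cfsg.Agent.Lib.Helper43_OrthReal.mem_omegaGL_of_pow h2 Q hQ x
      ((Cfsg.Agent.Lib.Helper44_Orth.mem_isometryGroup_iff (⇑Q) x).1 hx) k hk hxk

/-- nondegeneracy: frozen two-sided form versus `NDOn` -/
theorem ndOn_iff (Q : QuadraticForm F (ι → F)) (W : Submodule F (ι → F)) :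
    Cfsg.Geo.IsNondegenerateOn (QuadraticMap.polar (⇑Q)) W ↔
      NDOn (QuadraticMap.polarBilin Q) W := by
  constructor
  · intro h x hx hxy
    by_contra hx0
    obtain ⟨-, y, hy, hne⟩ := h x hx hx0
    apply hne
    have := hxy y hy
    rwa [QuadraticMap.polarBilin_apply_apply] at this
  · intro h w hw hw0
    have : ∃ y ∈ W, QuadraticMap.polar (⇑Q) w y ≠ 0 := by
      by_contra hcon
      push Not at hcon
      apply hw0
      apply h w hw
      intro y hy
      rw [QuadraticMap.polarBilin_apply_apply]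
      exact hcon y hy
    obtain ⟨y, hy, hne⟩ := this
    exact ⟨⟨y, hy, by rwa [QuadraticMap.polar_comm]⟩, ⟨y, hy, hne⟩⟩

/-- nondegeneracy: one-sided form -/
theorem ndOn_iff' (Q : QuadraticForm F (ι → F)) (W : Submodule F (ι → F)) :
    (∀ u ∈ W, u ≠ 0 → ∃ v ∈ W, QuadraticMap.polar (⇑Q) u v ≠ 0) ↔
      NDOn (QuadraticMap.polarBilin Q) W := by
  constructor
  · intro h x hx hxy
    by_contra hx0
    obtain ⟨y, hy, hne⟩ := h x hx hx0
    apply hne
    have := hxy y hy
    rwa [QuadraticMap.polarBilin_apply_apply] at this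
  · intro h w hw hw0
    by_contra hcon
    push Not at hcon
    apply hw0
    apply h w hw
    intro y hy
    rw [QuadraticMap.polarBilin_apply_apply]
    exact hcon y hy

/-- plus type: frozen form versus `PlusOn` -/
theorem plusOn_iff (Q : QuadraticForm F (ι → F)) (W : Submodule F (ι → F)) :
    Cfsg.Geo.IsPlusTypeOn (⇑Q) W ↔ PlusOn Q W := by
  constructor
  · rintro ⟨U, hUW, hU, hd⟩
    exact ⟨U, hUW, hU, hd⟩
  · rintro ⟨U, hUW, hU, hd⟩
    exact ⟨U, hUW, hU, hd⟩

/-- the whole space is of plus type iff the form is hyperbolic -/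
theorem plusOn_top_of_isHyp (Q : QuadraticForm F (ι → F)) (hD : Even (Fintype.card ι))
    (h : IsHyp Q) : PlusOn Q ⊤ := by
  obtain ⟨U, hU, hdim⟩ := h
  obtain ⟨k, hk⟩ := hD
  rw [Module.finrank_fintype_fun_eq_card, hk] at hdim
  obtain ⟨X, hXU, hXd⟩ := Cfsg.Agent.Lib.Helper88_OrthExt_C3c.exists_le_finrank_eq U k (by omega)
  refine ⟨X, le_top, fun u hu => hU u (hXU hu), ?_⟩
  rw [hXd, finrank_top, Module.finrank_fintype_fun_eq_card, hk]
  ring

theorem isHyp_of_plusOn_top (Q : QuadraticForm F (ι → F)) (h : PlusOn Q ⊤) : IsHyp Q := by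
  obtain ⟨U, -, hU, hd⟩ := h
  refine ⟨U, hU, ?_⟩
  rw [finrank_top] at hd
  omega

theorem plusOn_top_qfPlus (d : ℕ) : PlusOn (qfPlus d F) ⊤ = True := by
  apply propext
  refine iff_true_intro (plusOn_top_of_isHyp _ ?_ (isHyp_qfPlus d))
  rw [Fintype.card_sum, Fintype.card_fin]
  exact ⟨d, rfl⟩

theorem plusOn_top_qfMinus [Fintype F] (n : ℕ) (a c : F)
    (hac : ∀ z₁ z₂ : F, z₁ ^ 2 + a * z₁ * z₂ + c * z₂ ^ 2 = 0 → z₁ = 0 ∧ z₂ = 0) :
    PlusOn (qfMinus n F a c) ⊤ = False := by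
  apply propext
  refine iff_false_intro fun h => not_isHyp_qfMinus n a c hac (isHyp_of_plusOn_top _ h)

/-- existence of an `(m, eta)`-space when `2 ≤ m < dim` -/
theorem exists_space [Fintype F] (Q : QuadraticForm F (ι → F))
    (hQ : (QuadraticMap.polarBilin Q).Nondegenerate) (hD : Even (Fintype.card ι)) (m : ℕ)
    (hm : 2 ≤ m) (hme : Even m) (hmD : m < Fintype.card ι) (eta : Prop) :
    ∃ W : Submodule F (ι → F), finrank F W = m ∧ NDOn (QuadraticMap.polarBilin Q) W ∧
      (PlusOn Q W ↔ eta) := by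
  have hnd : NDOn (QuadraticMap.polarBilin Q) ⊤ := by
    intro x _ hxy
    apply hQ.1 x
    intro y
    exact hxy y Submodule.mem_top
  have hft : finrank F (⊤ : Submodule F (ι → F)) = Fintype.card ι := by
    rw [finrank_top, Module.finrank_fintype_fun_eq_card]
  obtain ⟨W, -, hWnd, hWd, hWt⟩ := TSUB Q ⊤ hnd m hme (by rw [hft]; omega) (by rw [hft]; exact hD)
    eta (by intro h; omega) (by intro h; rw [hft] at h; omega)
  exact ⟨W, hWd, hWnd, hWt⟩

end Cfsg.Agent.Lib.Helper88_OrthND_GlueBasic
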