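import Mathlib
import Cfsg.Agent.Lib.Helper88_OrthNDDefs
import Cfsg.Agent.Lib.Helper99_SpAtoms
import Cfsg.Agent.Lib.Helper99_SpOrth
import Cfsg.Agent.Lib.Helper99_SpTI
import Cfsg.Agent.Lib.Helper82_OrthND_R1
import Cfsg.Agent.Lib.Helper82_OrthND_R2
import Cfsg.Agent.Lib.Helper82_OrthND_R3
import Cfsg.Agent.Lib.Helper85_OrthND_TMUL
import Cfsg.Agent.Lib.Helper45_OrthND_R4
import Cfsg.Agent.Lib.Helper88_OrthND_STR

/-!
# The structure theorem for nondegenerate invariant subspaces, ODD-dimensional version (helper88, for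
helper84's rows S5992 / S5993)

Same statement as `Helper88_OrthND_STR.STR` with `Odd D`; `eps` is an arbitrary proposition (the
boundary clauses of `Valid` / `Fix` never fire by parity).  The supply of nondegenerate subspaces of
the (odd-dimensional) fixed space is a hypothesis `hsub` (to be discharged by a `TSUBodd`).
-/

set_option autoImplicit false
set_option linter.unusedSectionVars false
set_option linter.unusedVariables false

universe u

namespace Cfsg.Agent.Lib.Helper88_OrthND_STRodd

open Module Cfsg.Agent.Lib.Helper40_SpBasic Cfsg.Agent.Lib.Helper88_OrthNDDefs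
  Cfsg.Agent.Lib.Helper99_SpAtoms Cfsg.Agent.Lib.Helper45_OrthND_R4
  Cfsg.Agent.Lib.Helper82_OrthND_R1 Cfsg.Agent.Lib.Helper82_OrthND_R2
  Cfsg.Agent.Lib.Helper82_OrthND_R3 Cfsg.Agent.Lib.Helper85_OrthND_TMUL
  Cfsg.Agent.Lib.Helper88_OrthND_STR

variable {F : Type u} [Field F] [Fintype F] (p : ℕ) [Fact p.Prime] [CharP F p]
  {V : Type u} [AddCommGroup V] [Module F V] [FiniteDimensional F V]

/-- the structure theorem, odd dimension -/
theorem STR_odd (Q : QuadraticForm F V) (hQ : (QuadraticMap.polarBilin Q).Nondegenerate)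
    (T : Module.End F V) (hT : ∀ v, Q (T v) = Q v) (r : ℕ) (hr : r.Prime) (hr2 : r ≠ 2)
    (hrp : r ≠ p) (hTr : T ^ r = 1) (D e : ℕ) (hD : finrank F V = D) (hDo : Odd D)
    (he : finrank F (LinearMap.ker (T - 1)) = e) (eps : Prop)
    (hsub : ∀ (f : ℕ) (eta : Prop), Even f → f < finrank F (LinearMap.ker (T - 1)) →
      (f = 0 → eta) → ∃ W : Submodule F V, W ≤ LinearMap.ker (T - 1) ∧
        NDOn (QuadraticMap.polarBilin Q) W ∧ finrank F W = f ∧ (PlusOn Q W ↔ eta)) :
    ∃ a : ℕ, atomDim F r * a + e = D ∧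
      (T ≠ 1 → Valid (orderOf ((Fintype.card F : ℕ) : ZMod r)) (atomDim F r) D eps a) ∧
      ∀ (m : ℕ) (eta : Prop), Even m →
        ((∃ W : Submodule F V, Inv T W ∧ NDOn (QuadraticMap.polarBilin Q) W ∧ finrank F W = m ∧
            (PlusOn Q W ↔ eta)) ↔
          Fix (orderOf ((Fintype.card F : ℕ) : ZMod r)) (atomDim F r) D m eps eta a) := by
  classical
  have hipos : 0 < orderOf ((Fintype.card F : ℕ) : ZMod r) :=
    Cfsg.Agent.Lib.Helper99_SpTI.ord_pos (F := F) (p := p) hr hrp
  have hcpos : 0 < atomDim F r := atomDim_pos (F := F) (r := r) hipos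
  have hceven : Even (atomDim F r) := Cfsg.Agent.Lib.Helper99_SpOrth.even_atomDim
  have R3' := fun U h1 h2 h3 => R3 p Q hQ T hT r hr hr2 hrp hTr U h1 h2 h3
  have R4' := fun a' h => R4 p Q hQ T hT r hr hr2 hrp hTr a' h
  obtain ⟨c, hc⟩ : ∃ c, atomDim F r = c := ⟨_, rfl⟩
  obtain ⟨i, hi⟩ : ∃ i, orderOf ((Fintype.card F : ℕ) : ZMod r) = i := ⟨_, rfl⟩
  simp only [hc, hi] at R3' R4' hcpos hceven ⊢
  set C := LinearMap.ker (T - 1) with hCdef
  set R := LinearMap.range (T - 1) with hRdef
  obtain ⟨hCnd, hRnd, hCR, hcompl⟩ := R1 p Q hQ T hT r hr hrp hTr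
  have hsum : finrank F C + finrank F R = D := by
    rw [← hD]; exact Submodule.finrank_add_eq_of_isCompl hcompl
  have hdisj : C ⊓ R = ⊥ := hcompl.inf_eq_bot
  obtain ⟨hcR, htR⟩ := R3' R le_rfl (inv_range T) hRnd
  obtain ⟨a, ha⟩ := hcR
  have hRe : Even (finrank F R) := by rw [ha]; exact hceven.mul_right a
  have heo : Odd e := by
    have : e = D - finrank F R := by omega
    rw [this]
    exact (Nat.odd_sub (by omega)).2 ⟨fun _ => hRe, fun _ => hDo⟩
  have hcaD : ∀ k f : ℕ, Even f → c * k + f ≠ D := by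
    intro k f hf h
    have : Even D := by rw [← h]; exact (hceven.mul_right k).add hf
    exact (Nat.not_even_iff_odd.2 hDo) this
  refine ⟨a, by omega, ?_, ?_⟩
  · -- validity
    intro hT1
    refine ⟨?_, by omega, ?_⟩
    · by_contra h0
      have ha0 : a = 0 := by omega
      rw [ha0, mul_zero] at ha
      have hR0 : R = ⊥ := Submodule.finrank_eq_zero.1 ha
      apply hT1
      have : T - 1 = 0 := LinearMap.range_eq_bot.1 hR0
      exact sub_eq_zero.1 this
    · intro hca
      exact absurd (by simpa using hca) (hcaD a 0 ⟨0, rfl⟩)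
  · intro m eta hme
    constructor
    · -- necessity
      rintro ⟨W, hWinv, hWnd, hWm, hWt⟩
      obtain ⟨hWCnd, hWRnd, hWsup⟩ := R2 p Q hQ T hT r hr hrp hTr W hWinv hWnd
      set WC := W ⊓ C with hWC
      set WR := W ⊓ R with hWR
      have hWRinv : Inv T WR := inv_inf' T hWinv (inv_range T)
      obtain ⟨hcWR, htWR⟩ := R3' WR inf_le_right hWRinv hWRnd
      obtain ⟨a', ha'⟩ := hcWR
      have hWRa : finrank F WR / c = a' := by rw [ha', Nat.mul_div_cancel_left _ hcpos]
      rw [hWRa] at htWR
      have hdisjW : WC ⊓ WR = ⊥ := by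
        rw [eq_bot_iff, ← hdisj]
        exact inf_le_inf inf_le_right inf_le_right
      have hdimW : finrank F WC + finrank F WR = m := by
        have := Submodule.finrank_sup_add_finrank_inf_eq WC WR
        rw [hWsup, hdisjW, finrank_bot, add_zero, hWm] at this
        omega
      have hWRle : finrank F WR ≤ finrank F R := Submodule.finrank_mono inf_le_right
      have hWCle : finrank F WC ≤ finrank F C := Submodule.finrank_mono inf_le_right
      have ha'a : a' ≤ a := by
        rw [ha, ha'] at hWRle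
        exact Nat.le_of_mul_le_mul_left hWRle hcpos
      have hWRe : Even (finrank F WR) := by rw [ha']; exact hceven.mul_right a'
      have hWCe : Even (finrank F WC) := by
        have : finrank F WC = m - finrank F WR := by omega
        rw [this]
        exact (Nat.even_sub (by omega)).2 ⟨fun _ => hWRe, fun _ => hme⟩
      have horthW : Orth Q WC WR := orth_mono hCR inf_le_right inf_le_right
      have htW := TMUL Q WC WR hWCnd hWRnd horthW hWCe hWRe
      rw [hWsup] at htW
      have hkey : eta ↔ (PlusOn Q WC ↔ SignPlus i a') := by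
        rw [← hWt, htW, htWR]
      refine ⟨a', finrank F WC, ha'a, by omega, by omega, ?_, ?_⟩
      · intro hf0
        have hWC0 : WC = ⊥ := Submodule.finrank_eq_zero.1 hf0
        have hp : PlusOn Q WC := by rw [hWC0]; exact plusOn_bot Q
        rw [hkey]
        exact ⟨fun h => h.1 hp, fun h => ⟨fun _ => h, fun _ => hp⟩⟩
      · intro hfull
        exact absurd hfull (hcaD a _ hWCe)
    · -- sufficiency
      rintro ⟨a', f, ha'a, hmf, hcaf, h0, h1⟩
      have hfe : Even f := by
        have : f = m - c * a' := by omega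
        rw [this]
        exact (Nat.even_sub (by omega)).2 ⟨fun _ => hceven.mul_right a', fun _ => hme⟩
      have hca'R : c * a' ≤ finrank F R := by
        rw [ha]; exact Nat.mul_le_mul_left c ha'a
      obtain ⟨U, hUR, hUinv, hUnd, hUd⟩ := R4' a' hca'R
      obtain ⟨-, htU⟩ := R3' U hUR hUinv hUnd
      rw [hUd, Nat.mul_div_cancel_left _ hcpos] at htU
      have hfC : f < finrank F C := by
        have h1 : f ≤ finrank F C := by omega
        rcases Nat.lt_or_ge f (finrank F C) with h | h
        · exact h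
        · exfalso
          have : f = e := by omega
          rw [this] at hfe
          exact (Nat.not_even_iff_odd.2 heo) hfe
      obtain ⟨W₀, hW₀C, hW₀nd, hW₀d, hW₀t⟩ := hsub f (eta ↔ SignPlus i a') hfe hfC h0
      have horth : Orth Q W₀ U := orth_mono hCR hW₀C hUR
      have hdisjW : W₀ ⊓ U = ⊥ := by
        rw [eq_bot_iff, ← hdisj]
        exact inf_le_inf hW₀C hUR
      have hW₀e : Even (finrank F W₀) := by rw [hW₀d]; exact hfe
      have hUe : Even (finrank F U) := by rw [hUd]; exact hceven.mul_right a'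
      refine ⟨W₀ ⊔ U, inv_sup' T (inv_of_le_ker T hW₀C) hUinv, ndOn_sup hW₀nd hUnd horth, ?_, ?_⟩
      · have := Submodule.finrank_sup_add_finrank_inf_eq W₀ U
        rw [hdisjW, finrank_bot, add_zero, hW₀d, hUd] at this
        omega
      · rw [TMUL Q W₀ U hW₀nd hUnd horth hW₀e hUe, hW₀t, htU]
        exact iff_aux2 _ _

end Cfsg.Agent.Lib.Helper88_OrthND_STRodd
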