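import Mathlib
import Cfsg.Prelude.Def_GeometricClasses
import Cfsg.Prelude.Def_Classical
import Cfsg.Agent.Lib.Helper88_OrthND_GlueBasic
import Cfsg.Agent.Lib.Helper88_OrthND_STRodd
import Cfsg.Agent.Lib.Helper89_OrthND_CLEM
import Cfsg.Agent.Lib.Helper31_OTS_OE1
import Cfsg.Agent.Lib.Helper43_OrthReal
import Cfsg.Agent.Lib.Helper84_OrthOdd_TSUBodd

/-!
# S5992 / S5993 (helper84): the row argument for elements of odd prime order `r ≠ p` of
`Ω_{2d+1}(q)`, `q` odd, acting on nondegenerate `m`-spaces of given type (`m` even)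

`row` : every element of order `r` of `Ω` fixes an `(m, eta)`-space iff `atomDim F r ≤ m` and
`Fix a` holds for every `Valid a` (the combinatorial model of helper88's `OrthND` packages).
-/

set_option autoImplicit false
set_option linter.unusedSectionVars false
set_option linter.unusedVariables false
open scoped MatrixGroups

universe u

namespace Cfsg.Agent.Lib.Helper84_OrthOdd_Row

open Module Matrix Cfsg.Agent.Lib.Helper40_SpBasic Cfsg.Agent.Lib.Helper88_OrthNDDefs
  Cfsg.Agent.Lib.Helper44_StdForms Cfsg.Agent.Lib.Helper99_SpAtoms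
  Cfsg.Agent.Lib.Helper88_OrthND_GlueBasic

variable {F : Type u} [Field F]

/-- the index type of the odd-dimensional standard form -/
abbrev I (d : ℕ) : Type := Unit ⊕ (Fin d ⊕ Fin d)

/-- the frozen class of subspaces, with the type as a parameter -/
def Cls (d m : ℕ) (eta : Prop) (W : Submodule F (I d → F)) : Prop :=
  finrank F W = m ∧ Cfsg.Geo.IsNondegenerateOn (QuadraticMap.polar (Cfsg.quadFormOdd d F)) W ∧
    (Cfsg.Geo.IsPlusTypeOn (Cfsg.quadFormOdd d F) W ↔ eta)

theorem cls_iff (d m : ℕ) (eta : Prop) (W : Submodule F (I d → F)) :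
    Cls d m eta W ↔ finrank F W = m ∧ NDOn (QuadraticMap.polarBilin (qfOdd d F)) W ∧
      (PlusOn (qfOdd d F) W ↔ eta) := by
  unfold Cls
  rw [← coe_qfOdd, ndOn_iff, plusOn_iff]

theorem inv_iff {ι : Type} [Fintype ι] [DecidableEq ι] (x : Matrix ι ι F)
    (W : Submodule F (ι → F)) :
    W.map (Matrix.toLin' x) ≤ W ↔ Inv (Matrix.toLin' x) W := by
  rw [Submodule.map_le_iff_le_comap]
  rfl

theorem finrank_I (d : ℕ) : finrank F (I d → F) = 2 * d + 1 := by
  rw [Module.finrank_fintype_fun_eq_card, Fintype.card_sum, Fintype.card_sum, Fintype.card_fin,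
    Fintype.card_unit]
  ring

theorem ndOn_top_qfOdd (h2 : (2 : F) ≠ 0) (d : ℕ) :
    NDOn (QuadraticMap.polarBilin (qfOdd d F)) ⊤ := by
  have hQ := Cfsg.Agent.Lib.Helper14_POmegaSimple.nondegenerate_qfOdd (F := F) h2 d
  intro x _ hxy
  exact hQ.1 x (fun y => hxy y trivial)

variable [Fintype F] {p : ℕ} [Fact p.Prime] [CharP F p]

/-- analysis of an isometry of odd prime order `r ≠ p` -/
theorem elt_fix (h2 : (2 : F) ≠ 0) (d : ℕ) {r : ℕ} (hr : r.Prime) (hr2 : r ≠ 2) (hrp : r ≠ p)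
    (x : GL (I d) F) (hx : ∀ v : I d → F, qfOdd d F ((x : Matrix (I d) (I d) F) *ᵥ v) = qfOdd d F v)
    (hxr : orderOf x = r) :
    ∃ a : ℕ, atomDim F r * a +
        finrank F (LinearMap.ker (Matrix.toLin' (x : Matrix (I d) (I d) F) - 1)) = 2 * d + 1 ∧
      Valid (orderOf ((Fintype.card F : ℕ) : ZMod r)) (atomDim F r) (2 * d + 1) True a ∧
      ∀ (m : ℕ) (eta : Prop), Even m →
        ((∃ W : Submodule F (I d → F), Cls d m eta W ∧
            W.map (Matrix.toLin' (x : Matrix (I d) (I d) F)) ≤ W) ↔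
          Fix (orderOf ((Fintype.card F : ℕ) : ZMod r)) (atomDim F r) (2 * d + 1) m True eta a) := by
  classical
  have hQ := Cfsg.Agent.Lib.Helper14_POmegaSimple.nondegenerate_qfOdd (F := F) h2 d
  set T : Module.End F (I d → F) := Matrix.toLin' (x : Matrix (I d) (I d) F) with hTdef
  have hT : ∀ v, qfOdd d F (T v) = qfOdd d F v := by
    intro v
    rw [hTdef, Matrix.toLin'_apply]
    exact hx v
  have hxr1 : x ^ r = 1 := by rw [← hxr]; exact pow_orderOf_eq_one x
  have hTr : T ^ r = 1 := by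
    have h1 : ((x ^ r : GL (I d) F) : Matrix (I d) (I d) F) = 1 := by rw [hxr1]; rfl
    rw [Units.val_pow_eq_pow_val] at h1
    rw [hTdef, ← Matrix.toLin'_pow, h1, Matrix.toLin'_one]
    rfl
  have hT1 : T ≠ 1 := by
    intro h
    have h1 : (x : Matrix (I d) (I d) F) = 1 := by
      apply Matrix.toLin'.injective
      rw [Matrix.toLin'_one]
      exact h
    have h3 : x = 1 := Units.ext h1
    rw [h3, orderOf_one] at hxr
    exact hr.one_lt.ne hxr
  obtain ⟨hKnd, hRnd, horth, hcompl⟩ :=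
    Cfsg.Agent.Lib.Helper82_OrthND_R1.R1 p (qfOdd d F) hQ T hT r hr hrp hTr
  -- the range is even-dimensional, the fixed space odd-dimensional
  have hRinv : Inv T (LinearMap.range (T - 1)) := by
    rintro _ ⟨w, rfl⟩
    refine ⟨T w, ?_⟩
    simp only [LinearMap.sub_apply, Module.End.one_apply, map_sub]
  obtain ⟨hdvd, -⟩ := Cfsg.Agent.Lib.Helper82_OrthND_R3.R3 p (qfOdd d F) hQ T hT r hr hr2 hrp hTr
    (LinearMap.range (T - 1)) le_rfl hRinv hRnd
  have hce : Even (atomDim F r) := Cfsg.Agent.Lib.Helper82_OrthND_R3.even_atomDim F r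
  have hsum : finrank F (LinearMap.ker (T - 1)) + finrank F (LinearMap.range (T - 1)) =
      2 * d + 1 := by
    rw [Submodule.finrank_add_eq_of_isCompl hcompl, finrank_I]
  have hKodd : Odd (finrank F (LinearMap.ker (T - 1))) := by
    obtain ⟨k, hk⟩ := hdvd
    obtain ⟨j, hj⟩ := hce
    rw [hk, hj] at hsum
    rcases Nat.even_or_odd (finrank F (LinearMap.ker (T - 1))) with ⟨t, ht⟩ | h
    · exfalso
      rw [ht] at hsum
      have : (t + t + (j + j) * k) % 2 = (2 * d + 1) % 2 := by rw [hsum]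
      have h4 : t + t + (j + j) * k = 2 * (t + j * k) := by ring
      rw [h4] at this
      omega
    · exact h
  obtain ⟨a, ha, hval, hfix⟩ := Cfsg.Agent.Lib.Helper88_OrthND_STRodd.STR_odd p (qfOdd d F) hQ T hT
    r hr hr2 hrp hTr (2 * d + 1) (finrank F (LinearMap.ker (T - 1))) (finrank_I d)
    ⟨d, rfl⟩ rfl True
    (fun f eta hf hfC h0 => Cfsg.Agent.Lib.Helper84_OrthOdd_TSUBodd.TSUBodd h2 (qfOdd d F)
      (LinearMap.ker (T - 1)) hKnd hKodd f hf hfC eta h0)
  refine ⟨a, ha, hval hT1, ?_⟩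
  intro m eta hme
  rw [← hfix m eta hme]
  constructor
  · rintro ⟨W, hW, hinv⟩
    rw [cls_iff] at hW
    exact ⟨W, (inv_iff _ W).1 hinv, hW.2.1, hW.1, hW.2.2⟩
  · rintro ⟨W, hinv, hnd, hdim, hty⟩
    exact ⟨W, (cls_iff d m eta W).2 ⟨hdim, hnd, hty⟩, (inv_iff _ W).2 hinv⟩

omit [Fintype F] [Fact p.Prime] [CharP F p] in
/-- a linear equivalence of `ι → F` as an element of `GL` -/
theorem exists_gl {ι : Type} [Fintype ι] [DecidableEq ι] (e : (ι → F) ≃ₗ[F] (ι → F)) :
    ∃ x : GL ι F, Matrix.toLin' (x : Matrix ι ι F) = (e : (ι → F) →ₗ[F] (ι → F)) ∧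
      (∀ k : ℕ, e ^ k = 1 → x ^ k = 1) ∧ (e ≠ 1 → x ≠ 1) := by
  set ψ : GL ι F ≃* ((ι → F) ≃ₗ[F] (ι → F)) :=
    Matrix.GeneralLinearGroup.toLin.trans (LinearMap.GeneralLinearGroup.generalLinearEquiv F _)
    with hψ
  refine ⟨ψ.symm e, ?_, ?_, ?_⟩
  · have h1 : ψ (ψ.symm e) = e := ψ.apply_symm_apply e
    rw [← h1]
    rw [hψ, MulEquiv.trans_apply,
      LinearMap.GeneralLinearGroup.generalLinearEquiv_to_linearMap,
      Matrix.GeneralLinearGroup.coe_toLin, Matrix.toLin'_apply']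
    congr 2
    exact (ψ.apply_symm_apply e).symm ▸ rfl
  · intro k hk
    rw [← map_pow, hk, map_one]
  · intro he h
    apply he
    rw [← ψ.apply_symm_apply e, h, map_one]

/-- **the row**: elements of odd prime order `r ≠ p` of `Ω_{2d+1}(q)` on `(m, eta)`-spaces -/
theorem row (h2 : (2 : F) ≠ 0) (d m : ℕ) (hm : 2 ≤ m) (hme : Even m) (hmn : m ≤ 2 * d) {r : ℕ}
    (hr : r.Prime) (hr2 : r ≠ 2) (hrp : r ≠ p) (eta : Prop)
    (hdvd : r ∣ Nat.card {W : Submodule F (I d → F) // Cls d m eta W}) :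
    (∀ x : GL (I d) F, x ∈ Cfsg.Geo.omegaGL (Cfsg.quadFormOdd d F) → orderOf x = r →
      ∃ W : Submodule F (I d → F), Cls d m eta W ∧
        W.map (Matrix.toLin' (x : Matrix (I d) (I d) F)) ≤ W) ↔
    (atomDim F r ≤ m ∧ ∀ a,
      Valid (orderOf ((Fintype.card F : ℕ) : ZMod r)) (atomDim F r) (2 * d + 1) True a →
      Fix (orderOf ((Fintype.card F : ℕ) : ZMod r)) (atomDim F r) (2 * d + 1) m True eta a) := by
  classical
  have hQ := Cfsg.Agent.Lib.Helper14_POmegaSimple.nondegenerate_qfOdd (F := F) h2 d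
  have hiso : ∀ x : GL (I d) F, x ∈ Cfsg.Geo.omegaGL (Cfsg.quadFormOdd d F) →
      ∀ v : I d → F, qfOdd d F ((x : Matrix (I d) (I d) F) *ᵥ v) = qfOdd d F v := by
    rintro x ⟨s, -, rfl⟩ v
    have := (Cfsg.Agent.Lib.Helper44_Orth.mem_isometryGroup_iff (Cfsg.quadFormOdd d F) _).1 s.2 v
    rw [coe_qfOdd]
    exact this
  have hipos : 0 < orderOf ((Fintype.card F : ℕ) : ZMod r) :=
    Cfsg.Agent.Lib.Helper99_SpTI.ord_pos (F := F) (p := p) hr hrp
  have hcpos : 0 < atomDim F r := atomDim_pos (F := F) (r := r) hipos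
  constructor
  · intro H
    constructor
    · by_contra hlt
      push Not at hlt
      have hne : ∃ W : Submodule F (I d → F), finrank F W = m ∧
          NDOn (QuadraticMap.polarBilin (qfOdd d F)) W ∧ (PlusOn (qfOdd d F) W ↔ eta) := by
        obtain ⟨W, -, hnd, hdim, hty⟩ := Cfsg.Agent.Lib.Helper84_OrthOdd_TSUBodd.TSUBodd h2
          (qfOdd d F) ⊤ (ndOn_top_qfOdd h2 d) (by rw [finrank_top, finrank_I]; exact ⟨d, rfl⟩)
          m hme (by rw [finrank_top, finrank_I]; omega) eta (by intro h; omega)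
        exact ⟨W, hdim, hnd, hty⟩
      have hdvd' : r ∣ Nat.card {W : Submodule F (I d → F) // finrank F W = m ∧
          NDOn (QuadraticMap.polarBilin (qfOdd d F)) W ∧ (PlusOn (qfOdd d F) W ↔ eta)} := by
        rw [← Nat.card_congr (Equiv.subtypeEquivRight (fun W => cls_iff d m eta W))]
        exact hdvd
      obtain ⟨e, heiso, her, he1, hno⟩ := Cfsg.Agent.Lib.Helper89_OrthND_CLEM.CLEM p (qfOdd d F) hQ
        r hr hr2 hrp m hlt hme eta hne hdvd'
      obtain ⟨x, hxe, hxpow, hx1⟩ := exists_gl e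
      have hxiso : ∀ v : I d → F,
          qfOdd d F ((x : Matrix (I d) (I d) F) *ᵥ v) = qfOdd d F v := by
        intro v
        rw [← Matrix.toLin'_apply, hxe]
        exact heiso v
      have hxr : x ^ r = 1 := hxpow r her
      have hxΩ : x ∈ Cfsg.Geo.omegaGL (Cfsg.quadFormOdd d F) := by
        have := Cfsg.Agent.Lib.Helper43_OrthReal.mem_omegaGL_of_pow h2 (qfOdd d F) hQ x hxiso r
          (hr.odd_of_ne_two hr2) hxr
        rwa [coe_qfOdd] at this
      have hxo : orderOf x = r := by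
        have : Fact r.Prime := ⟨hr⟩
        exact orderOf_eq_prime hxr (hx1 he1)
      obtain ⟨W, hW, hinv⟩ := H x hxΩ hxo
      rw [cls_iff] at hW
      rw [hxe] at hinv
      exact hno W hW.1 hW.2.1 hW.2.2 hinv
    · intro a ha
      obtain ⟨ha1, haD, -⟩ := ha
      have hsd : atomDim F r * a ≤ 2 * d := by
        have hce : Even (atomDim F r) := Cfsg.Agent.Lib.Helper82_OrthND_R3.even_atomDim F r
        obtain ⟨j, hj⟩ := hce
        rw [hj] at haD ⊢
        have : (j + j) * a = 2 * (j * a) := by ring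
        rw [this] at haD ⊢
        omega
      obtain ⟨x, hxΩ, hxo, hker⟩ := Cfsg.Agent.Lib.Helper31_OTS_OE1.OE1 (F := F) (p := p) h2 d hr
        hr2 hrp a ha1 hsd
      obtain ⟨a', ha', -, hfix⟩ := elt_fix (p := p) h2 d hr hr2 hrp x (hiso x hxΩ) hxo
      have haa : a' = a := by
        rw [hker] at ha'
        have h3 : atomDim F r * a' = atomDim F r * a := by omega
        exact Nat.eq_of_mul_eq_mul_left hcpos h3
      rw [haa] at hfix
      exact (hfix m eta hme).1 (H x hxΩ hxo)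
  · rintro ⟨-, H⟩ x hxΩ hxo
    obtain ⟨a, -, hval, hfix⟩ := elt_fix (p := p) h2 d hr hr2 hrp x (hiso x hxΩ) hxo
    exact (hfix m eta hme).2 (H a hval)

end Cfsg.Agent.Lib.Helper84_OrthOdd_Row
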