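import Mathlib
import Cfsg.Prelude.Def_GeometricClasses
import Cfsg.Prelude.Def_Classical
import Cfsg.Agent.Lib.Helper84_OTS_OA
import Cfsg.Agent.Lib.Helper84_OrthOdd_TSUBodd
import Cfsg.Agent.Lib.Helper85_OrthND_TSUB
import Cfsg.Agent.Lib.Helper85_OrthND_TMUL
import Cfsg.Agent.Lib.Helper88_OrthND_STR

/-!
# S5992 / S5993 (helper84): the case `r = 2`

Every involution of `Ω_{2d+1}(q)`, `q` odd, `d ≥ 2`, fixes a nondegenerate `m`-space of each type,
for every even `m` with `2 ≤ m ≤ 2d`.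
-/

set_option autoImplicit false
set_option linter.unusedSectionVars false
set_option linter.unusedVariables false

namespace Cfsg.Agent.Lib.Helper84_OrthOdd_Two

open Module Matrix Cfsg.Agent.Lib.Helper40_SpBasic Cfsg.Agent.Lib.Helper40_OConj
  Cfsg.Agent.Lib.Helper84_OTS_OAa Cfsg.Agent.Lib.Helper84_OTS_OAb
  Cfsg.Agent.Lib.Helper88_OrthNDDefs Cfsg.Agent.Lib.Helper88_OrthND_STR
  Cfsg.Agent.Lib.Helper84_OrthOdd_TSUBodd Cfsg.Agent.Lib.Helper84_SUND_UCa

universe v

variable {F : Type v} [Field F]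

section basic

variable {V : Type v} [AddCommGroup V] [Module F V] {Q : QuadraticForm F V}

theorem ndOn_span_singleton (h2 : (2 : F) ≠ 0) {u : V} (hQu : Q u ≠ 0) :
    NDOn (pol Q) (Submodule.span F {u}) := by
  intro x hx hxo
  obtain ⟨a, rfl⟩ := Submodule.mem_span_singleton.1 hx
  have h1 := hxo u (Submodule.mem_span_singleton_self u)
  rw [map_smul, LinearMap.smul_apply, pol_self, smul_eq_mul] at h1
  have ha : a = 0 := by
    rcases mul_eq_zero.1 h1 with h | h
    · exact h
    · exact absurd h (mul_ne_zero h2 hQu)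
  rw [ha, zero_smul]

theorem inf_eq_bot_of_orth {A B : Submodule F V} (hA : NDOn (pol Q) A) (horth : Orth Q A B) :
    A ⊓ B = ⊥ := by
  rw [eq_bot_iff]
  intro x hx
  rw [Submodule.mem_bot]
  apply hA x hx.1
  intro y hy
  have h1 : QuadraticMap.polar (⇑Q) y x = 0 := horth y hy x hx.2
  rw [pol_comm]
  exact h1

theorem finrank_sup_orth [FiniteDimensional F V] {A B : Submodule F V} (hA : NDOn (pol Q) A)
    (horth : Orth Q A B) : finrank F ↥(A ⊔ B) = finrank F A + finrank F B := by
  have h4 := Submodule.finrank_sup_add_finrank_inf_eq A B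
  rw [inf_eq_bot_of_orth hA horth, finrank_bot, add_zero] at h4
  exact h4

theorem ne_zero_of_Q_ne_zero {u : V} (hQu : Q u ≠ 0) : u ≠ 0 := by
  rintro rfl
  exact hQu (map_zero Q)

end basic

section main

variable [Fintype F] {ι : Type} [Fintype ι] [DecidableEq ι] (Q : QuadraticForm F (ι → F))

/-- every involution of `Ω` fixes a nondegenerate `m`-space of type `eta` -/
theorem two_fix (h2 : (2 : F) ≠ 0) (hQ : (pol Q).Nondegenerate) (d m : ℕ) (hd : 2 ≤ d)
    (hdim : finrank F (ι → F) = 2 * d + 1) (hm : 2 ≤ m) (hme : Even m) (hmn : m ≤ 2 * d)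
    (eta : Prop) (M : Matrix ι ι F) (hΩ : InOmega Q M) (hMM : M * M = 1) (hM1 : M ≠ 1) :
    ∃ W : Submodule F (ι → F), finrank F W = m ∧ NDOn (pol Q) W ∧ (PlusOn Q W ↔ eta) ∧
      W.map (Matrix.toLin' M) ≤ W := by
  classical
  obtain ⟨g, hgΩ, hgM⟩ := hΩ
  have hiso : ∀ v, Q (Matrix.toLin' M v) = Q v := by
    intro v
    rw [Matrix.toLin'_apply, ← hgM]
    exact (Cfsg.Agent.Lib.Helper44_Orth.mem_isometryGroup_iff _ _).1 g.2 v
  have hdet : LinearMap.det (Matrix.toLin' M) = 1 := by
    rw [LinearMap.det_toLin', ← hgM]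
    exact ((Cfsg.Agent.Lib.Helper44_OmegaOdd.mem_omega_iff_det_theta h2 Q hQ g).1 hgΩ).1
  have hX2 : ∀ v, Matrix.toLin' M (Matrix.toLin' M v) = v := by
    intro v
    rw [Matrix.toLin'_apply, Matrix.toLin'_apply, Matrix.mulVec_mulVec, hMM, Matrix.one_mulVec]
  set X : Module.End F (ι → F) := Matrix.toLin' M with hX
  obtain ⟨k, hk⟩ := even_finrank_eig_neg_one h2 hX2 hdet
  have hsum := finrank_eig_add h2 hX2
  rw [hdim] at hsum
  have hNp := ndOn_eig_one h2 hQ hiso hX2
  have hNm := ndOn_eig_neg_one h2 hQ hiso hX2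
  have hcompl := eig_isCompl_one (X := X) h2 hX2
  have horthPM : Orth Q (eig X 1) (eig X (-1)) := fun u hu v hv => eig_orth h2 hiso hu hv
  -- `k ≥ 1`
  have hk1 : 1 ≤ k := by
    by_contra hk0
    have hk0' : k = 0 := by omega
    rw [hk0', add_zero] at hk
    have hbot : eig X (-1) = ⊥ := Submodule.finrank_eq_zero.1 hk
    have htop : eig X 1 = ⊤ := by
      have := hcompl.sup_eq_top
      rwa [hbot, sup_bot_eq] at this
    apply hM1
    apply Matrix.toLin'.injective
    apply LinearMap.ext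
    intro v
    have hv : v ∈ eig X 1 := by rw [htop]; exact Submodule.mem_top
    rw [Matrix.toLin'_one, LinearMap.id_apply]
    exact mem_eig_one.1 hv
  have hkd : k ≤ d := by omega
  have hVPd : finrank F (eig X 1) = 2 * (d - k) + 1 := by omega
  have hVMd : finrank F (eig X (-1)) = 2 * k := by omega
  obtain ⟨t, ht⟩ := hme
  -- invariance of sums
  have hinv : ∀ E₁ E₂ : Submodule F (ι → F), E₁ ≤ eig X 1 → E₂ ≤ eig X (-1) →
      (E₁ ⊔ E₂).map (Matrix.toLin' M) ≤ E₁ ⊔ E₂ := by
    intro E₁ E₂ h1 h3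
    rintro _ ⟨w, hw, rfl⟩
    exact inv_sup h1 h3 w hw
  by_cases hc1 : m < finrank F (eig X 1)
  · -- inside the fixed space
    obtain ⟨W, hWle, hnd, hWd, hty⟩ := TSUBodd h2 Q (eig X 1) hNp (by rw [hVPd]; exact ⟨d - k, rfl⟩)
      m ⟨t, ht⟩ hc1 eta (by intro h; omega)
    refine ⟨W, hWd, hnd, hty, ?_⟩
    have := hinv W ⊥ hWle bot_le
    rwa [sup_bot_eq] at this
  · by_cases hc2 : k < d
    · -- a full-dimensional even part of the fixed space plus a part of the `-1`-eigenspace
      obtain ⟨W₂, hW₂le, hnd₂, hW₂d, hty₂⟩ := Cfsg.Agent.Lib.Helper85_OrthND_TSUB.TSUB Q (eig X (-1))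
        hNm (m - 2 * (d - k)) ⟨t - (d - k), by omega⟩ (by omega) ⟨k, hk⟩ (PlusOn Q (eig X (-1)))
        (by intro h; omega) (fun _ => Iff.rfl)
      obtain ⟨W₁, hW₁le, hnd₁, hW₁d, hty₁⟩ := TSUBodd h2 Q (eig X 1) hNp
        (by rw [hVPd]; exact ⟨d - k, rfl⟩) (2 * (d - k)) ⟨d - k, by ring⟩ (by omega)
        (eta ↔ PlusOn Q (eig X (-1))) (by intro h; omega)
      have horth : Orth Q W₁ W₂ := orth_mono horthPM hW₁le hW₂le
      refine ⟨W₁ ⊔ W₂, ?_, ndOn_sup hnd₁ hnd₂ horth, ?_, hinv W₁ W₂ hW₁le hW₂le⟩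
      · rw [finrank_sup_eig h2 hX2 hW₁le hW₂le, hW₁d, hW₂d]
        omega
      · rw [Cfsg.Agent.Lib.Helper85_OrthND_TMUL.TMUL Q W₁ W₂ hnd₁ hnd₂ horth
          (by rw [hW₁d]; exact ⟨d - k, by ring⟩) (by rw [hW₂d]; exact ⟨t - (d - k), by omega⟩),
          hty₁, hty₂]
        exact iff_aux2 eta _
    · have hkd' : k = d := by omega
      by_cases hc3 : m < 2 * k
      · -- inside the `-1`-eigenspace
        obtain ⟨W, hWle, hnd, hWd, hty⟩ := Cfsg.Agent.Lib.Helper85_OrthND_TSUB.TSUB Q (eig X (-1))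
          hNm m ⟨t, ht⟩ (by omega) ⟨k, hk⟩ eta (by intro h; omega) (by intro h; omega)
        refine ⟨W, hWd, hnd, hty, ?_⟩
        have := hinv ⊥ W bot_le hWle
        rwa [bot_sup_eq] at this
      · -- a hyperplane
        have hm2k : m = 2 * k := by omega
        obtain ⟨u, huP, hQu⟩ := exists_nonsingular h2 hNp (by omega)
        obtain ⟨w, hwM, hQw⟩ := exists_nonsingular h2 hNm (by omega)
        have hCnd := ndOn_vperp h2 hNm hwM hQw
        have hCd := finrank_vperp (Q := Q) h2 hwM hQw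
        have hsu : Submodule.span F {u} ≤ eig X 1 := by
          rw [Submodule.span_le]
          intro x hx
          rw [Set.mem_singleton_iff.1 hx]
          exact huP
        have hsw : Submodule.span F {w} ≤ eig X (-1) := by
          rw [Submodule.span_le]
          intro x hx
          rw [Set.mem_singleton_iff.1 hx]
          exact hwM
        set P : Submodule F (ι → F) := Submodule.span F {u} ⊔ Submodule.span F {w} with hP
        have hPnd : NDOn (pol Q) P :=
          ndOn_sup (ndOn_span_singleton h2 hQu) (ndOn_span_singleton h2 hQw)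
            (orth_mono horthPM hsu hsw)
        have hPd : finrank F P = 2 := by
          rw [hP, finrank_sup_eig h2 hX2 hsu hsw,
            finrank_span_singleton (ne_zero_of_Q_ne_zero hQu),
            finrank_span_singleton (ne_zero_of_Q_ne_zero hQw)]
        obtain ⟨W', hW'le, hnd', hW'd, hty'⟩ := TSUBodd h2 Q (vperp Q (eig X (-1)) w) hCnd
          ⟨k - 1, by omega⟩ (2 * k - 2) ⟨k - 1, by omega⟩ (by omega) (eta ↔ PlusOn Q P)
          (by intro h; omega)
        have hW'M : W' ≤ eig X (-1) := hW'le.trans vperp_le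
        have horth : Orth Q W' P := by
          intro y hy x hx
          obtain ⟨x₁, hx₁, x₂, hx₂, rfl⟩ := Submodule.mem_sup.1 hx
          obtain ⟨b, rfl⟩ := Submodule.mem_span_singleton.1 hx₂
          have e1 : pol Q y x₁ = 0 := by
            rw [pol_comm]
            exact eig_orth h2 hiso (hsu hx₁) (hW'M hy)
          have e2 : pol Q y (b • w) = 0 := by
            rw [map_smul, pol_comm, (mem_vperp.1 (hW'le hy)).2, smul_zero]
          show pol Q y (x₁ + b • w) = 0
          rw [map_add, e1, e2, add_zero]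
        refine ⟨W' ⊔ P, ?_, ndOn_sup hnd' hPnd horth, ?_, ?_⟩
        · rw [finrank_sup_orth hnd' horth, hW'd, hPd]
          omega
        · rw [Cfsg.Agent.Lib.Helper85_OrthND_TMUL.TMUL Q W' P hnd' hPnd horth
            (by rw [hW'd]; exact ⟨k - 1, by omega⟩) (by rw [hPd]; exact even_two), hty']
          exact iff_aux2 eta _
        · have e1 : W' ⊔ P = Submodule.span F {u} ⊔ (Submodule.span F {w} ⊔ W') := by
            rw [hP, sup_comm W', sup_assoc]
          rw [e1]
          exact hinv _ _ hsu (sup_le hsw hW'M)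

end main

end Cfsg.Agent.Lib.Helper84_OrthOdd_Two
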