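import Mathlib
import Cfsg.Prelude.Def_GeometricClasses
import Cfsg.Prelude.Def_Classical
import Cfsg.Agent.Lib.Helper84_OrthOdd_Row
import Cfsg.Agent.Lib.Helper84_OrthOdd_Two

/-!
# S5992 / S5993 (helper84): the common assembly for `r ≠ p`

`main_ne_p` : for a prime `r ≠ p`, every element of order `r` of `Ω_{2d+1}(q)` (`q` odd) fixes an
`(m, eta)`-space iff `r = 2`, or `r` is odd, `atomDim F r ≤ m` and `Fix a` holds for every `Valid a`.
-/

set_option autoImplicit false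
set_option linter.unusedSectionVars false
set_option linter.unusedVariables false
open scoped MatrixGroups

universe u

namespace Cfsg.Agent.Lib.Helper84_OrthOdd_Main

open Module Matrix Cfsg.Agent.Lib.Helper40_SpBasic Cfsg.Agent.Lib.Helper88_OrthNDDefs
  Cfsg.Agent.Lib.Helper44_StdForms Cfsg.Agent.Lib.Helper99_SpAtoms
  Cfsg.Agent.Lib.Helper88_OrthND_GlueBasic Cfsg.Agent.Lib.Helper84_OrthOdd_Row

variable {F : Type u} [Field F] [Fintype F] {p : ℕ} [Fact p.Prime] [CharP F p]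

/-- the case `r = 2`: every involution of `Ω` fixes an `(m, eta)`-space -/
theorem two_case (h2 : (2 : F) ≠ 0) (d m : ℕ) (hd : 2 ≤ d) (hm : 2 ≤ m) (hme : Even m)
    (hmn : m ≤ 2 * d) (eta : Prop) (x : GL (I d) F)
    (hx : x ∈ Cfsg.Geo.omegaGL (Cfsg.quadFormOdd d F)) (hxo : orderOf x = 2) :
    ∃ W : Submodule F (I d → F), Cls d m eta W ∧
      W.map (Matrix.toLin' (x : Matrix (I d) (I d) F)) ≤ W := by
  have hQ := Cfsg.Agent.Lib.Helper14_POmegaSimple.nondegenerate_qfOdd (F := F) h2 d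
  have hΩ : Cfsg.Agent.Lib.Helper84_OTS_OAb.InOmega (qfOdd d F) (x : Matrix (I d) (I d) F) := by
    rw [← coe_qfOdd] at hx
    obtain ⟨g, hg, rfl⟩ := hx
    exact ⟨g, hg, rfl⟩
  have hx2 : x ^ 2 = 1 := by rw [← hxo]; exact pow_orderOf_eq_one x
  have hMM : (x : Matrix (I d) (I d) F) * (x : Matrix (I d) (I d) F) = 1 := by
    have h1 : ((x ^ 2 : GL (I d) F) : Matrix (I d) (I d) F) = 1 := by rw [hx2]; rfl
    rw [pow_two] at h1
    exact h1
  have hM1 : (x : Matrix (I d) (I d) F) ≠ 1 := by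
    intro h
    have h3 : x = 1 := Units.ext h
    rw [h3, orderOf_one] at hxo
    omega
  obtain ⟨W, hWd, hnd, hty, hinv⟩ := Cfsg.Agent.Lib.Helper84_OrthOdd_Two.two_fix (qfOdd d F) h2 hQ
    d m hd (finrank_I d) hm hme hmn eta _ hΩ hMM hM1
  exact ⟨W, (cls_iff d m eta W).2 ⟨hWd, hnd, hty⟩, hinv⟩

/-- the assembly for `r ≠ p` -/
theorem main_ne_p (hqodd : Odd (Fintype.card F)) (d m : ℕ) (hd : 2 ≤ d) (hm : 2 ≤ m)
    (hme : Even m) (hmn : m ≤ 2 * d) (r : ℕ) (hr : r.Prime) (hrp : r ≠ p) (eta : Prop)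
    (hdvd : r ∣ Nat.card {W : Submodule F (I d → F) // Cls d m eta W}) :
    (∀ x : GL (I d) F, x ∈ Cfsg.Geo.omegaGL (Cfsg.quadFormOdd d F) → orderOf x = r →
      ∃ W : Submodule F (I d → F), Cls d m eta W ∧
        W.map (Matrix.toLin' (x : Matrix (I d) (I d) F)) ≤ W) ↔
    (r = 2 ∨ (2 < r ∧ atomDim F r ≤ m ∧ ∀ a,
      Valid (orderOf ((Fintype.card F : ℕ) : ZMod r)) (atomDim F r) (2 * d + 1) True a →
      Fix (orderOf ((Fintype.card F : ℕ) : ZMod r)) (atomDim F r) (2 * d + 1) m True eta a)) := by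
  have h2 : (2 : F) ≠ 0 := Cfsg.Agent.Lib.Helper84_OTS_OA.two_ne_zero_of_odd_card hqodd
  by_cases hr2 : r = 2
  · subst hr2
    exact ⟨fun _ => Or.inl rfl, fun _ x hx hxo => two_case h2 d m hd hm hme hmn eta x hx hxo⟩
  · have h2r : 2 < r := by
      have := hr.two_le
      omega
    rw [row (p := p) h2 d m hm hme hmn hr hr2 hrp eta hdvd]
    constructor
    · rintro ⟨h1, h3⟩
      exact Or.inr ⟨h2r, h1, h3⟩
    · rintro (h | ⟨-, h1, h3⟩)
      · exact absurd h hr2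
      · exact ⟨h1, h3⟩

end Cfsg.Agent.Lib.Helper84_OrthOdd_Main
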