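import Mathlib
import Cfsg.Agent.Lib.Helper84_OTSDefs
import Cfsg.Agent.Lib.Helper88_OrthNDDefs

set_option autoImplicit false

/-!
Unipotent isometries all of whose invariant nondegenerate even-dimensional subspaces are of plus type
(helper84, for the case `r = p` of S5993).

* `plus_of_sq_zero`: `x = 1 + N`, `N ^ 2 = 0`, `dim ker N ≤ dim im N + 1`  (Jordan type `2^d, 1`);
* `plus_of_cube_zero`: `N ^ 3 = 0`, `rank N ^ 2 ≤ 1`, `ker N ≤ im N`, `dim V` odd (Jordan type `3, 2^(d-1)`).
-/

namespace Cfsg.Agent.Lib.Helper84_OrthOdd_Unip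

open Module Cfsg.Agent.Lib.Helper40_SpBasic Cfsg.Agent.Lib.Helper40_OConj
  Cfsg.Agent.Lib.Helper84_OTSDefs Cfsg.Agent.Lib.Helper88_OrthNDDefs

universe v

variable {F : Type v} [Field F] {V : Type v} [AddCommGroup V] [Module F V]

section general

/-- rank-nullity on a subspace -/
theorem finrank_map_add_inf_ker [FiniteDimensional F V] (N : V →ₗ[F] V) (Y : Submodule F V) :
    finrank F (Y.map N) + finrank F (Y ⊓ LinearMap.ker N : Submodule F V) = finrank F Y := by
  have h1 := LinearMap.finrank_range_add_finrank_ker (N.domRestrict Y)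
  rw [LinearMap.range_domRestrict, LinearMap.ker_domRestrict] at h1
  have h2 : finrank F ((LinearMap.ker N).comap Y.subtype) =
      finrank F (((LinearMap.ker N).comap Y.subtype).map Y.subtype) :=
    (Submodule.equivMapOfInjective Y.subtype Y.injective_subtype _).finrank_eq
  rw [Submodule.map_comap_subtype] at h2
  rw [← h2]
  exact h1

variable {Q : QuadraticForm F V} {x : Module.End F V}

theorem pol_iso (hiso : ∀ v, Q (x v) = Q v) (u v : V) : pol Q (x u) (x v) = pol Q u v := by
  rw [pol_apply, pol_apply, ← map_add, hiso, hiso, hiso]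

theorem injective_of_iso (hQ : (pol Q).Nondegenerate) (hiso : ∀ v, Q (x v) = Q v) :
    Function.Injective x := by
  rw [← LinearMap.ker_eq_bot, eq_bot_iff]
  intro v hv
  rw [LinearMap.mem_ker] at hv
  rw [Submodule.mem_bot]
  apply hQ.1 v
  intro u
  rw [← pol_iso hiso v u, hv, map_zero, LinearMap.zero_apply]

/-- an invariant subspace is mapped onto itself -/
theorem map_eq_of_inv [FiniteDimensional F V] (hQ : (pol Q).Nondegenerate)
    (hiso : ∀ v, Q (x v) = Q v) {W : Submodule F V} (hW : Inv x W) : W.map x = W := by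
  apply Submodule.eq_of_le_of_finrank_eq
  · rintro _ ⟨w, hw, rfl⟩
    exact hW w hw
  · exact (Submodule.equivMapOfInjective x (injective_of_iso hQ hiso) W).finrank_eq.symm

/-- the orthogonal of an invariant subspace is invariant -/
theorem inv_orthogonal [FiniteDimensional F V] (hQ : (pol Q).Nondegenerate)
    (hiso : ∀ v, Q (x v) = Q v) {W : Submodule F V} (hW : Inv x W) :
    Inv x ((pol Q).orthogonal W) := by
  intro v hv
  rw [LinearMap.BilinForm.mem_orthogonal_iff] at hv ⊢
  intro w hw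
  have hw' : w ∈ W.map x := by rw [map_eq_of_inv hQ hiso hW]; exact hw
  obtain ⟨w₁, hw₁, rfl⟩ := hw'
  show pol Q (x w₁) (x v) = 0
  rw [pol_iso hiso]
  exact hv w₁ hw₁

theorem isRefl_pol (Q : QuadraticForm F V) : (pol Q).IsRefl := by
  intro a b hab
  rw [pol_comm, hab]

/-- a nondegenerate subspace is a complement of its orthogonal -/
theorem isCompl_orthogonal [FiniteDimensional F V] {W : Submodule F V} (hW : NDOn (pol Q) W) :
    IsCompl W ((pol Q).orthogonal W) := by
  apply LinearMap.BilinForm.isCompl_orthogonal_of_restrict_nondegenerate (isRefl_pol Q)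
  apply LinearMap.BilinForm.Nondegenerate.ofSeparatingLeft
  intro w hw
  apply Subtype.ext
  apply hW w w.2
  intro y hy
  exact hw ⟨y, hy⟩

/-- `N(Y)` is totally singular if `N ^ 2` kills `Y` -/
theorem tsOn_map (h2 : (2 : F) ≠ 0) (hiso : ∀ v, Q (x v) = Q v) {Y : Submodule F V}
    (hY2 : ∀ y ∈ Y, (x - 1) ((x - 1) y) = 0) : TSOn Q (Y.map (x - 1)) := by
  rintro _ ⟨y, hy, rfl⟩
  have h1 := pol_iso hiso y ((x - 1) y)
  have e1 : x y = y + (x - 1) y := by
    rw [LinearMap.sub_apply, Module.End.one_apply]; abel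
  have e2 : x ((x - 1) y) = (x - 1) y := by
    have := hY2 y hy
    rw [LinearMap.sub_apply (x) 1 ((x - 1) y), Module.End.one_apply, sub_eq_zero] at this
    exact this
  rw [e2, e1, map_add, LinearMap.add_apply, add_eq_left, pol_self] at h1
  exact (mul_eq_zero.1 h1).resolve_left h2

end general

section main

variable [FiniteDimensional F V] {Q : QuadraticForm F V} {x : Module.End F V}

/-- the common conclusion: if `N ^ 2` kills the invariant subspace `Y` and `ker N ∩ Y = N(Y)` then `Y` is of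
plus type -/
theorem plusOn_of_ker_eq (h2 : (2 : F) ≠ 0) (hiso : ∀ v, Q (x v) = Q v) {Y : Submodule F V}
    (hY : Inv x Y) (hY2 : ∀ y ∈ Y, (x - 1) ((x - 1) y) = 0)
    (hd : finrank F (Y ⊓ LinearMap.ker (x - 1) : Submodule F V) = finrank F (Y.map (x - 1))) :
    PlusOn Q Y := by
  refine ⟨Y.map (x - 1), ?_, tsOn_map h2 hiso hY2, ?_⟩
  · rintro _ ⟨y, hy, rfl⟩
    rw [LinearMap.sub_apply, Module.End.one_apply]
    exact Y.sub_mem (hY y hy) hy
  · have := finrank_map_add_inf_ker (x - 1) Y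
    omega

/-- Jordan type `2^d, 1`. -/
theorem plus_of_sq_zero (h2 : (2 : F) ≠ 0) (hQ : (pol Q).Nondegenerate)
    (hiso : ∀ v, Q (x v) = Q v) (hN2 : ∀ v, (x - 1) ((x - 1) v) = 0)
    (hker : finrank F (LinearMap.ker (x - 1)) ≤ finrank F (LinearMap.range (x - 1)) + 1)
    {W : Submodule F V} (hW : Inv x W) (hWnd : NDOn (pol Q) W) (hWe : Even (finrank F W)) :
    PlusOn Q W := by
  have hc := isCompl_orthogonal hWnd
  have hW'inv : Inv x ((pol Q).orthogonal W) := inv_orthogonal hQ hiso hW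
  obtain ⟨W', hW'⟩ : ∃ W' : Submodule F V, W' = (pol Q).orthogonal W := ⟨_, rfl⟩
  rw [← hW'] at hc hW'inv
  obtain ⟨N, hN⟩ : ∃ N : Module.End F V, N = x - 1 := ⟨_, rfl⟩
  rw [← hN] at hN2 hker
  have hNW : ∀ w ∈ W, N w ∈ W := fun w hw => by
    rw [hN, LinearMap.sub_apply, Module.End.one_apply]
    exact W.sub_mem (hW w hw) hw
  have hNW' : ∀ w ∈ W', N w ∈ W' := fun w hw => by
    rw [hN, LinearMap.sub_apply, Module.End.one_apply]
    exact W'.sub_mem (hW'inv w hw) hw
  have r1 := finrank_map_add_inf_ker N W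
  have r2 := finrank_map_add_inf_ker N W'
  -- `N(Y) ≤ Y ∩ ker N`
  have i1 : finrank F (W.map N) ≤ finrank F (W ⊓ LinearMap.ker N : Submodule F V) := by
    apply Submodule.finrank_mono
    rintro _ ⟨w, hw, rfl⟩
    exact ⟨hNW w hw, LinearMap.mem_ker.2 (hN2 w)⟩
  have i2 : finrank F (W'.map N) ≤ finrank F (W' ⊓ LinearMap.ker N : Submodule F V) := by
    apply Submodule.finrank_mono
    rintro _ ⟨w, hw, rfl⟩
    exact ⟨hNW' w hw, LinearMap.mem_ker.2 (hN2 w)⟩
  -- the kernels add up
  have k1 : finrank F (W ⊓ LinearMap.ker N : Submodule F V) +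
      finrank F (W' ⊓ LinearMap.ker N : Submodule F V) ≤ finrank F (LinearMap.ker N) := by
    have hdisj : (W ⊓ LinearMap.ker N) ⊓ (W' ⊓ LinearMap.ker N) = ⊥ := by
      rw [eq_bot_iff]
      exact (inf_le_inf inf_le_left inf_le_left).trans hc.inf_eq_bot.le
    have h3 := Submodule.finrank_sup_add_finrank_inf_eq (W ⊓ LinearMap.ker N)
      (W' ⊓ LinearMap.ker N)
    rw [hdisj, finrank_bot, add_zero] at h3
    rw [← h3]
    exact Submodule.finrank_mono (sup_le inf_le_right inf_le_right)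
  -- the ranges add up
  have k2 : finrank F (LinearMap.range N) ≤ finrank F (W.map N) + finrank F (W'.map N) := by
    have hle : LinearMap.range N ≤ W.map N ⊔ W'.map N := by
      rintro _ ⟨v, rfl⟩
      have hv : v ∈ W ⊔ W' := by rw [hc.sup_eq_top]; exact Submodule.mem_top
      obtain ⟨a, ha, b, hb, rfl⟩ := Submodule.mem_sup.1 hv
      rw [map_add]
      exact Submodule.add_mem_sup ⟨a, ha, rfl⟩ ⟨b, hb, rfl⟩
    exact (Submodule.finrank_mono hle).trans (Submodule.finrank_add_le_finrank_add_finrank _ _)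
  have hfin : finrank F (W ⊓ LinearMap.ker N : Submodule F V) = finrank F (W.map N) := by
    obtain ⟨t, ht⟩ := hWe
    omega
  subst hN
  exact plusOn_of_ker_eq h2 hiso hW (fun y _ => hN2 y) hfin

/-- Jordan type `3, 2^(d-1)`. -/
theorem plus_of_cube_zero (h2 : (2 : F) ≠ 0) (hQ : (pol Q).Nondegenerate)
    (hiso : ∀ v, Q (x v) = Q v) (hodd : Odd (finrank F V))
    (hrk : finrank F (LinearMap.range ((x - 1) * (x - 1))) ≤ 1)
    (hker : LinearMap.ker (x - 1) ≤ LinearMap.range (x - 1))
    {W : Submodule F V} (hW : Inv x W) (hWnd : NDOn (pol Q) W) (hWe : Even (finrank F W)) :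
    PlusOn Q W := by
  have hc := isCompl_orthogonal hWnd
  have hW'inv : Inv x ((pol Q).orthogonal W) := inv_orthogonal hQ hiso hW
  obtain ⟨W', hW'⟩ : ∃ W' : Submodule F V, W' = (pol Q).orthogonal W := ⟨_, rfl⟩
  rw [← hW'] at hc hW'inv
  obtain ⟨N, hN⟩ : ∃ N : Module.End F V, N = x - 1 := ⟨_, rfl⟩
  rw [← hN] at hrk hker
  have hNW : ∀ w ∈ W, N w ∈ W := fun w hw => by
    rw [hN, LinearMap.sub_apply, Module.End.one_apply]
    exact W.sub_mem (hW w hw) hw
  have hNW' : ∀ w ∈ W', N w ∈ W' := fun w hw => by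
    rw [hN, LinearMap.sub_apply, Module.End.one_apply]
    exact W'.sub_mem (hW'inv w hw) hw
  have r1 := finrank_map_add_inf_ker N W
  have r2 := finrank_map_add_inf_ker N W'
  have hsum := Submodule.finrank_add_eq_of_isCompl hc
  -- `ker N ∩ Y ≤ N(Y)` for `Y = W, W'`
  have s1 : finrank F (W ⊓ LinearMap.ker N : Submodule F V) ≤ finrank F (W.map N) := by
    apply Submodule.finrank_mono
    rintro v ⟨hvW, hvk⟩
    obtain ⟨u, rfl⟩ := hker hvk
    have hu : u ∈ W ⊔ W' := by rw [hc.sup_eq_top]; exact Submodule.mem_top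
    obtain ⟨a, ha, b, hb, rfl⟩ := Submodule.mem_sup.1 hu
    have hb0 : N b = 0 := by
      have h1 : N b ∈ W ⊓ W' := by
        refine ⟨?_, hNW' b hb⟩
        have : N b = N (a + b) - N a := by rw [map_add]; abel
        rw [this]
        exact W.sub_mem hvW (hNW a ha)
      rw [hc.inf_eq_bot] at h1
      exact (Submodule.mem_bot F).1 h1
    rw [map_add, hb0, add_zero]
    exact ⟨a, ha, rfl⟩
  have s2 : finrank F (W' ⊓ LinearMap.ker N : Submodule F V) ≤ finrank F (W'.map N) := by
    apply Submodule.finrank_mono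
    rintro v ⟨hvW, hvk⟩
    obtain ⟨u, rfl⟩ := hker hvk
    have hu : u ∈ W ⊔ W' := by rw [hc.sup_eq_top]; exact Submodule.mem_top
    obtain ⟨a, ha, b, hb, rfl⟩ := Submodule.mem_sup.1 hu
    have ha0 : N a = 0 := by
      have h1 : N a ∈ W ⊓ W' := by
        refine ⟨hNW a ha, ?_⟩
        have : N a = N (a + b) - N b := by rw [map_add]; abel
        rw [this]
        exact W'.sub_mem hvW (hNW' b hb)
      rw [hc.inf_eq_bot] at h1
      exact (Submodule.mem_bot F).1 h1
    rw [map_add, ha0, zero_add]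
    exact ⟨b, hb, rfl⟩
  -- `N ^ 2` kills `W` or `W'`
  have hA : W.map (N * N) = ⊥ ∨ W'.map (N * N) = ⊥ := by
    have hdisj : W.map (N * N) ⊓ W'.map (N * N) = ⊥ := by
      rw [eq_bot_iff]
      refine le_trans (inf_le_inf ?_ ?_) hc.inf_eq_bot.le
      · rintro _ ⟨w, hw, rfl⟩
        exact hNW _ (hNW w hw)
      · rintro _ ⟨w, hw, rfl⟩
        exact hNW' _ (hNW' w hw)
    have h3 := Submodule.finrank_sup_add_finrank_inf_eq (W.map (N * N)) (W'.map (N * N))
    rw [hdisj, finrank_bot, add_zero] at h3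
    have h4 : finrank F (W.map (N * N) ⊔ W'.map (N * N) : Submodule F V) ≤ 1 := by
      refine le_trans (Submodule.finrank_mono ?_) hrk
      apply sup_le
      · rintro _ ⟨w, _, rfl⟩
        exact ⟨w, rfl⟩
      · rintro _ ⟨w, _, rfl⟩
        exact ⟨w, rfl⟩
    rcases Nat.eq_zero_or_pos (finrank F (W.map (N * N))) with h0 | h0
    · exact Or.inl (Submodule.finrank_eq_zero.1 h0)
    · exact Or.inr (Submodule.finrank_eq_zero.1 (by omega))
  rcases hA with hA | hA
  · -- `N ^ 2` kills `W`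
    have hW2 : ∀ y ∈ W, N (N y) = 0 := by
      intro y hy
      have : (N * N) y ∈ W.map (N * N) := ⟨y, hy, rfl⟩
      rw [hA] at this
      exact (Submodule.mem_bot F).1 this
    have i1 : finrank F (W.map N) ≤ finrank F (W ⊓ LinearMap.ker N : Submodule F V) := by
      apply Submodule.finrank_mono
      rintro _ ⟨w, hw, rfl⟩
      exact ⟨hNW w hw, LinearMap.mem_ker.2 (hW2 w hw)⟩
    have hfin := le_antisymm s1 i1
    subst hN
    exact plusOn_of_ker_eq h2 hiso hW hW2 hfin
  · -- `N ^ 2` kills `W'`: impossible by parity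
    exfalso
    have hW2 : ∀ y ∈ W', N (N y) = 0 := by
      intro y hy
      have : (N * N) y ∈ W'.map (N * N) := ⟨y, hy, rfl⟩
      rw [hA] at this
      exact (Submodule.mem_bot F).1 this
    have i2 : finrank F (W'.map N) ≤ finrank F (W' ⊓ LinearMap.ker N : Submodule F V) := by
      apply Submodule.finrank_mono
      rintro _ ⟨w, hw, rfl⟩
      exact ⟨hNW' w hw, LinearMap.mem_ker.2 (hW2 w hw)⟩
    obtain ⟨t, ht⟩ := hWe
    obtain ⟨s, hs⟩ := hodd
    omega

end main

end Cfsg.Agent.Lib.Helper84_OrthOdd_Unip
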