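import Mathlib
import Cfsg.Prelude.Def_GeometricClasses
import Cfsg.Agent.Lib.Helper84_OrthOdd_Unip
import Cfsg.Agent.Lib.Helper44_StdForms
import Cfsg.Agent.Lib.Helper44_OmegaOdd
import Cfsg.Agent.Lib.Helper14_POmegaSimple

set_option autoImplicit false

/-!
The concrete unipotent elements of `O_{2d+1}(q)` (standard form `x₀² + Σ xᵢ yᵢ`) of Jordan type
`2^d, 1` (`d` even) resp. `3, 2^(d-1)` (`d` odd) (helper84, for the case `r = p` of S5993).
-/

namespace Cfsg.Agent.Lib.Helper84_OrthOdd_UnipElt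

open Module Matrix Cfsg.Agent.Lib.Helper44_StdForms

universe v

variable (d : ℕ) (F : Type v) [Field F]

/-- the partner of a natural number in its pair `{2k, 2k+1}` -/
def partner (n : ℕ) : ℕ := if n % 2 = 0 then n + 1 else n - 1

theorem partner_partner (n : ℕ) : partner (partner n) = n := by
  unfold partner
  split_ifs <;> omega

/-- the pairing of the coordinates below `2 * (d / 2)` -/
def sg (j : Fin d) : Fin d :=
  if h : j.val < 2 * (d / 2) then ⟨partner j.val, by unfold partner; split_ifs <;> omega⟩ else j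

theorem sg_val_of_lt {j : Fin d} (h : j.val < 2 * (d / 2)) : (sg d j).val = partner j.val := by
  unfold sg
  rw [dif_pos h]

theorem sg_val_lt {j : Fin d} (h : j.val < 2 * (d / 2)) : (sg d j).val < 2 * (d / 2) := by
  rw [sg_val_of_lt d h]
  unfold partner
  split_ifs <;> omega

theorem sg_sg (j : Fin d) : sg d (sg d j) = j := by
  by_cases h : j.val < 2 * (d / 2)
  · have h' := sg_val_lt d h
    apply Fin.ext
    rw [sg_val_of_lt d h', sg_val_of_lt d h, partner_partner]
  · unfold sg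
    rw [dif_neg h, dif_neg h]

theorem sg_of_not_lt {j : Fin d} (h : ¬ j.val < 2 * (d / 2)) : sg d j = j := by
  unfold sg
  rw [dif_neg h]

/-- the signs -/
def sn (j : Fin d) : F := if j.val < 2 * (d / 2) then (if j.val % 2 = 0 then 1 else -1) else 0

theorem sn_sg (j : Fin d) : sn d F (sg d j) = - sn d F j := by
  by_cases h : j.val < 2 * (d / 2)
  · have h' := sg_val_lt d h
    have hv : (sg d j).val = partner j.val := sg_val_of_lt d h
    unfold sn
    rw [if_pos h, if_pos h', hv]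
    unfold partner
    split_ifs <;> first | omega | simp
  · rw [sg_of_not_lt d h]
    unfold sn
    rw [if_neg h, neg_zero]

theorem sn_mul_self {j : Fin d} (h : j.val < 2 * (d / 2)) : sn d F j * sn d F j = 1 := by
  unfold sn
  rw [if_pos h]
  split_ifs <;> simp

theorem sn_of_not_lt {j : Fin d} (h : ¬ j.val < 2 * (d / 2)) : sn d F j = 0 := by
  unfold sn
  rw [if_neg h]

/-- the alternating sum vanishes -/
theorem alt_sum (h2 : (2 : F) ≠ 0) (y : Fin d → F) :
    ∑ j : Fin d, sn d F j * y (sg d j) * y j = 0 := by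
  have hinv : Function.Involutive (sg d) := sg_sg d
  have h1 := Equiv.sum_comp (hinv.toPerm (sg d)) (fun j => sn d F j * y (sg d j) * y j)
  simp only [Function.Involutive.coe_toPerm, sg_sg, sn_sg] at h1
  have h3 : ∑ j : Fin d, -sn d F j * y j * y (sg d j) = - ∑ j : Fin d, sn d F j * y (sg d j) * y j := by
    rw [← Finset.sum_neg_distrib]
    apply Finset.sum_congr rfl
    intro j _
    ring
  rw [h3] at h1
  have h4 : (2 : F) * ∑ j : Fin d, sn d F j * y (sg d j) * y j = 0 := by linear_combination -h1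
  exact (mul_eq_zero.1 h4).resolve_left h2

/-- the unipotent map, in coordinates -/
def uniFun (t : F) (l : Fin d) (v : Unit ⊕ (Fin d ⊕ Fin d) → F) : Unit ⊕ (Fin d ⊕ Fin d) → F
  | Sum.inl () => v (Sum.inl ()) + t * v (Sum.inr (Sum.inr l))
  | Sum.inr (Sum.inl j) => v (Sum.inr (Sum.inl j)) + sn d F j * v (Sum.inr (Sum.inr (sg d j)))
      + (if j = l then t * (-2 * v (Sum.inl ()) - t * v (Sum.inr (Sum.inr l))) else 0)
  | Sum.inr (Sum.inr j) => v (Sum.inr (Sum.inr j))

/-- the unipotent map -/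
def uni (t : F) (l : Fin d) : Module.End F (Unit ⊕ (Fin d ⊕ Fin d) → F) where
  toFun := uniFun d F t l
  map_add' := by
    intro v w
    funext k
    rcases k with ⟨⟩ | k | k
    · simp only [uniFun, Pi.add_apply]; ring
    · simp only [uniFun, Pi.add_apply]
      split_ifs <;> ring
    · simp only [uniFun, Pi.add_apply]
  map_smul' := by
    intro a v
    funext k
    rcases k with ⟨⟩ | k | k
    · simp only [uniFun, Pi.smul_apply, smul_eq_mul, RingHom.id_apply]; ring
    · simp only [uniFun, Pi.smul_apply, smul_eq_mul, RingHom.id_apply]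
      split_ifs <;> ring
    · simp only [uniFun, Pi.smul_apply, smul_eq_mul, RingHom.id_apply]

variable {d F}

theorem uni_inl (t : F) (l : Fin d) (v : Unit ⊕ (Fin d ⊕ Fin d) → F) :
    uni d F t l v (Sum.inl ()) = v (Sum.inl ()) + t * v (Sum.inr (Sum.inr l)) := rfl

theorem uni_e (t : F) (l : Fin d) (v : Unit ⊕ (Fin d ⊕ Fin d) → F) (j : Fin d) :
    uni d F t l v (Sum.inr (Sum.inl j)) = v (Sum.inr (Sum.inl j))
      + sn d F j * v (Sum.inr (Sum.inr (sg d j)))
      + (if j = l then t * (-2 * v (Sum.inl ()) - t * v (Sum.inr (Sum.inr l))) else 0) := rfl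

theorem uni_f (t : F) (l : Fin d) (v : Unit ⊕ (Fin d ⊕ Fin d) → F) (j : Fin d) :
    uni d F t l v (Sum.inr (Sum.inr j)) = v (Sum.inr (Sum.inr j)) := rfl

/-- `uni` is an isometry of the standard form -/
theorem uni_iso (h2 : (2 : F) ≠ 0) (t : F) (l : Fin d) (v : Unit ⊕ (Fin d ⊕ Fin d) → F) :
    qfOdd d F (uni d F t l v) = qfOdd d F v := by
  rw [coe_qfOdd, Cfsg.quadFormOdd, Cfsg.quadFormOdd]
  simp only [uni_inl, uni_e, uni_f]
  have h1 : ∀ i : Fin d, (v (Sum.inr (Sum.inl i)) + sn d F i * v (Sum.inr (Sum.inr (sg d i)))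
      + (if i = l then t * (-2 * v (Sum.inl ()) - t * v (Sum.inr (Sum.inr l))) else 0))
        * v (Sum.inr (Sum.inr i))
      = v (Sum.inr (Sum.inl i)) * v (Sum.inr (Sum.inr i))
        + sn d F i * v (Sum.inr (Sum.inr (sg d i))) * v (Sum.inr (Sum.inr i))
        + (if i = l then t * (-2 * v (Sum.inl ()) - t * v (Sum.inr (Sum.inr l)))
            * v (Sum.inr (Sum.inr i)) else 0) := by
    intro i
    split_ifs <;> ring
  rw [Finset.sum_congr rfl (fun i _ => h1 i), Finset.sum_add_distrib, Finset.sum_add_distrib,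
    alt_sum d F h2 (fun j => v (Sum.inr (Sum.inr j))), Finset.sum_ite_eq' Finset.univ l,
    if_pos (Finset.mem_univ l)]
  ring

/-! ### the nilpotent part -/

theorem N_inl (t : F) (l : Fin d) (v : Unit ⊕ (Fin d ⊕ Fin d) → F) :
    (uni d F t l - 1) v (Sum.inl ()) = t * v (Sum.inr (Sum.inr l)) := by
  rw [LinearMap.sub_apply, Module.End.one_apply, Pi.sub_apply, uni_inl]
  ring

theorem N_e (t : F) (l : Fin d) (v : Unit ⊕ (Fin d ⊕ Fin d) → F) (j : Fin d) :
    (uni d F t l - 1) v (Sum.inr (Sum.inl j)) = sn d F j * v (Sum.inr (Sum.inr (sg d j)))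
      + (if j = l then t * (-2 * v (Sum.inl ()) - t * v (Sum.inr (Sum.inr l))) else 0) := by
  rw [LinearMap.sub_apply, Module.End.one_apply, Pi.sub_apply, uni_e]
  ring

theorem N_f (t : F) (l : Fin d) (v : Unit ⊕ (Fin d ⊕ Fin d) → F) (j : Fin d) :
    (uni d F t l - 1) v (Sum.inr (Sum.inr j)) = 0 := by
  rw [LinearMap.sub_apply, Module.End.one_apply, Pi.sub_apply, uni_f, sub_self]

/-- `N` kills the vectors with vanishing `x₀`- and `f`-coordinates -/
theorem N_of_zero (t : F) (l : Fin d) (w : Unit ⊕ (Fin d ⊕ Fin d) → F) (h0 : w (Sum.inl ()) = 0)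
    (hf : ∀ j, w (Sum.inr (Sum.inr j)) = 0) : (uni d F t l - 1) w = 0 := by
  funext k
  rcases k with ⟨⟩ | k | k
  · rw [N_inl, hf, mul_zero]; rfl
  · rw [N_e, hf, hf, h0]
    simp
  · rw [N_f]; rfl

theorem N_sq_inl (t : F) (l : Fin d) (v : Unit ⊕ (Fin d ⊕ Fin d) → F) :
    (uni d F t l - 1) ((uni d F t l - 1) v) (Sum.inl ()) = 0 := by
  rw [N_inl, N_f, mul_zero]

theorem N_sq_e (t : F) (l : Fin d) (v : Unit ⊕ (Fin d ⊕ Fin d) → F) (j : Fin d) :
    (uni d F t l - 1) ((uni d F t l - 1) v) (Sum.inr (Sum.inl j))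
      = if j = l then -2 * t * t * v (Sum.inr (Sum.inr l)) else 0 := by
  rw [N_e, N_f, N_f, N_inl]
  split_ifs <;> ring

theorem N_sq_f (t : F) (l : Fin d) (v : Unit ⊕ (Fin d ⊕ Fin d) → F) (j : Fin d) :
    (uni d F t l - 1) ((uni d F t l - 1) v) (Sum.inr (Sum.inr j)) = 0 := N_f _ _ _ _

theorem N_cube (t : F) (l : Fin d) (v : Unit ⊕ (Fin d ⊕ Fin d) → F) :
    (uni d F t l - 1) ((uni d F t l - 1) ((uni d F t l - 1) v)) = 0 :=
  N_of_zero t l _ (N_sq_inl t l v) (fun j => N_sq_f t l v j)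

theorem N_sq_of_zero (l : Fin d) (v : Unit ⊕ (Fin d ⊕ Fin d) → F) :
    (uni d F 0 l - 1) ((uni d F 0 l - 1) v) = 0 := by
  funext k
  rcases k with ⟨⟩ | k | k
  · rw [N_sq_inl]; rfl
  · rw [N_sq_e]
    simp
  · rw [N_sq_f]; rfl

theorem finrank_std (d : ℕ) (F : Type v) [Field F] :
    finrank F (Unit ⊕ (Fin d ⊕ Fin d) → F) = 2 * d + 1 := by
  rw [Module.finrank_pi, Fintype.card_sum, Fintype.card_sum, Fintype.card_fin,
    Fintype.card_unit]
  omega

/-- the projection onto the `f`-coordinates -/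
def pf (d : ℕ) (F : Type v) [Field F] : (Unit ⊕ (Fin d ⊕ Fin d) → F) →ₗ[F] (Fin d → F) :=
  LinearMap.funLeft F F (fun j : Fin d => (Sum.inr (Sum.inr j) : Unit ⊕ (Fin d ⊕ Fin d)))

theorem pf_apply (w : Unit ⊕ (Fin d ⊕ Fin d) → F) (j : Fin d) :
    pf d F w j = w (Sum.inr (Sum.inr j)) := rfl

theorem finrank_ker_pf (d : ℕ) (F : Type v) [Field F] :
    finrank F (LinearMap.ker (pf d F)) = d + 1 := by
  have hsurj : LinearMap.range (pf d F) = ⊤ := by
    rw [LinearMap.range_eq_top]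
    intro y
    refine ⟨fun k => Sum.elim (fun _ => 0) (Sum.elim (fun _ => 0) y) k, ?_⟩
    funext j
    rw [pf_apply]
    rfl
  have h1 := LinearMap.finrank_range_add_finrank_ker (pf d F)
  rw [hsurj, finrank_top, Module.finrank_fintype_fun_eq_card, Fintype.card_fin, finrank_std] at h1
  omega

/-- `d` even: the kernel of `N` is small -/
theorem ker_le_of_even (hd : Even d) (l : Fin d) :
    finrank F (LinearMap.ker (uni d F 0 l - 1)) ≤ finrank F (LinearMap.range (uni d F 0 l - 1)) + 1 := by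
  have hle : LinearMap.ker (uni d F 0 l - 1) ≤ LinearMap.ker (pf d F) := by
    intro v hv
    rw [LinearMap.mem_ker] at hv ⊢
    funext k
    rw [pf_apply]
    have h1 := congrFun hv (Sum.inr (Sum.inl (sg d k)))
    rw [N_e, sg_sg] at h1
    simp only [zero_mul, ite_self, add_zero, Pi.zero_apply] at h1
    have hk : (sg d k).val < 2 * (d / 2) := by
      obtain ⟨t, ht⟩ := hd
      have := (sg d k).2
      omega
    have hne : sn d F (sg d k) ≠ 0 := by
      intro h0
      have := sn_mul_self (F := F) d hk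
      rw [h0, mul_zero] at this
      exact zero_ne_one this
    exact (mul_eq_zero.1 h1).resolve_left hne
  have h1 := Submodule.finrank_mono hle
  rw [finrank_ker_pf] at h1
  have h3 := LinearMap.finrank_range_add_finrank_ker (uni d F 0 l - 1)
  rw [finrank_std] at h3
  omega

/-! ### `d` odd -/

theorem lt_of_ne_last (hd : Odd d) {l : Fin d} (hl : l.val = 2 * (d / 2)) {k : Fin d} (hk : k ≠ l) :
    k.val < 2 * (d / 2) := by
  obtain ⟨t, ht⟩ := hd
  have h1 := k.2
  have h3 : k.val ≠ l.val := fun h => hk (Fin.ext h)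
  omega

theorem sn_last {l : Fin d} (hl : l.val = 2 * (d / 2)) : sn d F l = 0 :=
  sn_of_not_lt d F (by omega)

theorem sg_last {l : Fin d} (hl : l.val = 2 * (d / 2)) : sg d l = l :=
  sg_of_not_lt d (by omega)

theorem sn_ne_zero {k : Fin d} (hk : k.val < 2 * (d / 2)) : sn d F k ≠ 0 := by
  intro h0
  have := sn_mul_self (F := F) d hk
  rw [h0, mul_zero] at this
  exact zero_ne_one this

theorem ker_le_range_of_odd (h2 : (2 : F) ≠ 0) (hd : Odd d) (l : Fin d) (hl : l.val = 2 * (d / 2)) :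
    LinearMap.ker (uni d F 1 l - 1) ≤ LinearMap.range (uni d F 1 l - 1) := by
  intro v hv
  rw [LinearMap.mem_ker] at hv
  have hfl : v (Sum.inr (Sum.inr l)) = 0 := by
    have h1 := congrFun hv (Sum.inl ())
    rw [N_inl, one_mul] at h1
    exact h1
  have h0 : v (Sum.inl ()) = 0 := by
    have h1 := congrFun hv (Sum.inr (Sum.inl l))
    rw [N_e, sn_last hl, hfl, if_pos rfl] at h1
    simp only [zero_mul, mul_zero, sub_zero, one_mul, zero_add, Pi.zero_apply] at h1
    exact (mul_eq_zero.1 h1).resolve_left (neg_ne_zero.2 h2)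
  have hf : ∀ k, v (Sum.inr (Sum.inr k)) = 0 := by
    intro k
    by_cases hk : k = l
    · rw [hk, hfl]
    · have hk' := lt_of_ne_last hd hl hk
      have hsk := sg_val_lt d hk'
      have hskl : sg d k ≠ l := by
        intro h
        rw [h] at hsk
        omega
      have h1 := congrFun hv (Sum.inr (Sum.inl (sg d k)))
      rw [N_e, sg_sg, if_neg hskl, add_zero] at h1
      exact (mul_eq_zero.1 h1).resolve_left (sn_ne_zero hsk)
  refine ⟨fun k => Sum.elim (fun _ => -(2 : F)⁻¹ * v (Sum.inr (Sum.inl l)))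
    (Sum.elim (fun _ => 0) (fun k => sn d F (sg d k) * v (Sum.inr (Sum.inl (sg d k))))) k, ?_⟩
  funext k
  rcases k with ⟨⟩ | k | k
  · rw [N_inl, h0]
    simp only [Sum.elim_inr, one_mul]
    rw [sg_last hl, sn_last hl, zero_mul]
  · rw [N_e]
    simp only [Sum.elim_inr, Sum.elim_inl, one_mul]
    rw [sg_sg, sg_last hl, sn_last hl, zero_mul, sub_zero]
    by_cases hk : k = l
    · rw [if_pos hk, hk, sn_last hl]
      field_simp
      ring
    · rw [if_neg hk, add_zero, ← mul_assoc, sn_mul_self (F := F) d (lt_of_ne_last hd hl hk), one_mul]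
  · rw [N_f, hf]

theorem rank_sq_le_one (t : F) (l : Fin d) :
    finrank F (LinearMap.range ((uni d F t l - 1) * (uni d F t l - 1))) ≤ 1 := by
  have hle : LinearMap.range ((uni d F t l - 1) * (uni d F t l - 1)) ≤
      Submodule.span F {(Pi.single (Sum.inr (Sum.inl l)) 1 : Unit ⊕ (Fin d ⊕ Fin d) → F)} := by
    rintro _ ⟨v, rfl⟩
    rw [Submodule.mem_span_singleton]
    refine ⟨-2 * t * t * v (Sum.inr (Sum.inr l)), ?_⟩
    rw [Module.End.mul_apply]
    funext k
    rcases k with ⟨⟩ | k | k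
    · rw [N_sq_inl]
      simp
    · rw [N_sq_e]
      by_cases hk : k = l
      · rw [if_pos hk, hk]
        simp
      · rw [if_neg hk]
        have : (Sum.inr (Sum.inl k) : Unit ⊕ (Fin d ⊕ Fin d)) ≠ Sum.inr (Sum.inl l) := by
          simpa using hk
        simp [Pi.single_eq_of_ne this]
    · rw [N_sq_f]
      simp
  have hne : (Pi.single (Sum.inr (Sum.inl l)) 1 : Unit ⊕ (Fin d ⊕ Fin d) → F) ≠ 0 := by
    intro h
    have := congrFun h (Sum.inr (Sum.inl l))
    simp at this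
  exact (Submodule.finrank_mono hle).trans (finrank_span_singleton hne).le

/-! ### the element of `Ω` -/

open Cfsg.Agent.Lib.Helper40_SpBasic Cfsg.Agent.Lib.Helper40_OConj Cfsg.Agent.Lib.Helper88_OrthNDDefs
  Cfsg.Agent.Lib.Helper84_OrthOdd_Unip
open scoped MatrixGroups

/-- nondegeneracy in the sense of the statements gives `NDOn` -/
theorem ndOn_of_isNondegenerateOn {W : Submodule F (Unit ⊕ (Fin d ⊕ Fin d) → F)}
    (hW : Cfsg.Geo.IsNondegenerateOn (QuadraticMap.polar (Cfsg.quadFormOdd d F)) W) :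
    NDOn (pol (qfOdd d F)) W := by
  intro w hw hwo
  by_contra hw0
  obtain ⟨-, y, hy, hne⟩ := hW w hw hw0
  apply hne
  have := hwo y hy
  rw [pol, QuadraticMap.polarBilin_apply_apply, coe_qfOdd] at this
  exact this

theorem isPlusTypeOn_of_plusOn {W : Submodule F (Unit ⊕ (Fin d ⊕ Fin d) → F)}
    (hW : PlusOn (qfOdd d F) W) : Cfsg.Geo.IsPlusTypeOn (Cfsg.quadFormOdd d F) W := by
  obtain ⟨U, hUW, hU, hd⟩ := hW
  refine ⟨U, hUW, fun u hu => ?_, hd⟩
  rw [← coe_qfOdd]
  exact hU u hu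

/-- **The unipotent element** of `Ω_{2d+1}(q)`, `q` odd: it has order `p` and all its invariant
nondegenerate even-dimensional subspaces are of plus type. -/
theorem exists_unip [Fintype F] {p : ℕ} [Fact p.Prime] [CharP F p] (h2 : (2 : F) ≠ 0) (d : ℕ)
    (hd : 1 ≤ d) :
    ∃ x : GL (Unit ⊕ (Fin d ⊕ Fin d)) F, x ∈ Cfsg.Geo.omegaGL (Cfsg.quadFormOdd d F) ∧
      orderOf x = p ∧
      ∀ W : Submodule F (Unit ⊕ (Fin d ⊕ Fin d) → F),
        W.map (Matrix.toLin' (x : Matrix (Unit ⊕ (Fin d ⊕ Fin d)) (Unit ⊕ (Fin d ⊕ Fin d)) F)) ≤ W →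
        Cfsg.Geo.IsNondegenerateOn (QuadraticMap.polar (Cfsg.quadFormOdd d F)) W →
        Even (finrank F W) → Cfsg.Geo.IsPlusTypeOn (Cfsg.quadFormOdd d F) W := by
  classical
  have hp : p.Prime := Fact.out
  have hp2 : p ≠ 2 := by
    rintro rfl
    apply h2
    have := CharP.cast_eq_zero F 2
    exact_mod_cast this
  have hpodd : Odd p := hp.odd_of_ne_two hp2
  have hp3 : 3 ≤ p := by
    have := hp.two_le
    omega
  have hQ := Cfsg.Agent.Lib.Helper14_POmegaSimple.nondegenerate_qfOdd (F := F) h2 d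
  set l : Fin d := ⟨d - 1, by omega⟩ with hl
  -- the parameter `t`
  obtain ⟨t, ht⟩ : ∃ t : F, (t = 0 ∧ Even d) ∨ (t = 1 ∧ Odd d) := by
    rcases Nat.even_or_odd d with h | h
    · exact ⟨0, Or.inl ⟨rfl, h⟩⟩
    · exact ⟨1, Or.inr ⟨rfl, h⟩⟩
  set U : Module.End F (Unit ⊕ (Fin d ⊕ Fin d) → F) := uni d F t l with hU
  have hiso : ∀ v, qfOdd d F (U v) = qfOdd d F v := uni_iso h2 t l
  have hN3 : (U - 1) * (U - 1) * (U - 1) = 0 := by
    apply LinearMap.ext
    intro v
    rw [Module.End.mul_apply, Module.End.mul_apply, LinearMap.zero_apply]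
    exact N_cube t l v
  -- the matrix
  set M : Matrix (Unit ⊕ (Fin d ⊕ Fin d)) (Unit ⊕ (Fin d ⊕ Fin d)) F := LinearMap.toMatrix' U
    with hM
  have hMU : Matrix.toLin' M = U := Matrix.toLin'_toMatrix' U
  have hNm : (M - 1) * (M - 1) * (M - 1) = 0 := by
    have h1 : M - 1 = LinearMap.toMatrix' (U - 1) := by
      rw [map_sub, LinearMap.toMatrix'_one]
    rw [h1, ← LinearMap.toMatrix'_mul, ← LinearMap.toMatrix'_mul, hN3, map_zero]
  have hMp : M ^ p = 1 := by
    have h1 : M = 1 + (M - 1) := by abel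
    have h3 : (M - 1) ^ p = 0 := by
      have : p = 3 + (p - 3) := by omega
      rw [this, pow_add, pow_succ, pow_two, hNm, zero_mul]
    rw [h1, add_pow_char_of_commute p (Commute.one_left (M - 1)), one_pow, h3, add_zero]
  have hMne : M ≠ 1 := by
    intro h
    have hU1 : U = 1 := by
      rw [← hMU, h, Matrix.toLin'_one]
      rfl
    have hdim := finrank_std d F
    rcases ht with ⟨rfl, hde⟩ | ⟨rfl, hdo⟩
    · have h1 := ker_le_of_even (F := F) hde l
      rw [← hU, hU1, sub_self, LinearMap.ker_zero, LinearMap.range_zero, finrank_top, finrank_bot,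
        hdim] at h1
      omega
    · have hlv : l.val = 2 * (d / 2) := by
        obtain ⟨s, hs⟩ := hdo
        show d - 1 = _
        omega
      have h1 := ker_le_range_of_odd h2 hdo l hlv
      rw [← hU, hU1, sub_self, LinearMap.ker_zero, LinearMap.range_zero, top_le_iff] at h1
      have h3 : finrank F (⊤ : Submodule F (Unit ⊕ (Fin d ⊕ Fin d) → F)) = 0 := by
        rw [← h1, finrank_bot]
      rw [finrank_top, hdim] at h3
      omega
  -- the element of `GL`
  obtain ⟨x, hx⟩ : ∃ x : GL (Unit ⊕ (Fin d ⊕ Fin d)) F,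
      (x : Matrix (Unit ⊕ (Fin d ⊕ Fin d)) (Unit ⊕ (Fin d ⊕ Fin d)) F) = M := by
    refine ⟨⟨M, M ^ (p - 1), ?_, ?_⟩, rfl⟩
    · rw [← pow_succ', Nat.sub_add_cancel hp.one_le, hMp]
    · rw [← pow_succ, Nat.sub_add_cancel hp.one_le, hMp]
  have hxp : x ^ p = 1 := by
    apply Units.ext
    rw [Units.val_pow_eq_pow_val, hx, hMp]
    rfl
  have hx1 : x ≠ 1 := by
    intro h
    apply hMne
    rw [← hx, h]
    rfl
  have hmem : x ∈ Cfsg.isometryGroup F (⇑(qfOdd d F)) := by
    rw [Cfsg.Agent.Lib.Helper44_Orth.mem_isometryGroup_iff]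
    intro u
    rw [hx, ← Matrix.toLin'_apply, hMU]
    exact hiso u
  have hΩ : (⟨x, hmem⟩ : ↥(Cfsg.isometryGroup F (⇑(qfOdd d F)))) ∈ Cfsg.Omega F (⇑(qfOdd d F)) := by
    apply Cfsg.Agent.Lib.Helper44_OmegaOdd.mem_omega_of_pow_eq_one h2 (qfOdd d F) hQ _ hpodd
    apply Subtype.ext
    exact hxp
  refine ⟨x, ?_, orderOf_eq_prime hxp hx1, ?_⟩
  · rw [← coe_qfOdd]
    exact ⟨⟨x, hmem⟩, hΩ, rfl⟩
  · intro W hWinv hWnd hWe
    rw [hx, hMU] at hWinv
    have hWinv' : Inv U W := fun w hw => hWinv ⟨w, hw, rfl⟩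
    have hWnd' := ndOn_of_isNondegenerateOn hWnd
    apply isPlusTypeOn_of_plusOn
    rcases ht with ⟨rfl, hde⟩ | ⟨rfl, hdo⟩
    · exact plus_of_sq_zero h2 hQ hiso (fun v => N_sq_of_zero l v) (ker_le_of_even hde l)
        hWinv' hWnd' hWe
    · have hlv : l.val = 2 * (d / 2) := by
        obtain ⟨s, hs⟩ := hdo
        show d - 1 = _
        omega
      refine plus_of_cube_zero h2 hQ hiso ?_ (rank_sq_le_one 1 l) (ker_le_range_of_odd h2 hdo l hlv)
        hWinv' hWnd' hWe
      rw [finrank_std]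
      exact ⟨d, rfl⟩

end Cfsg.Agent.Lib.Helper84_OrthOdd_UnipElt
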