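import Mathlib
import Cfsg.Prelude.Def_OddOrderLocal
import Cfsg.Prelude.Def_OddOrderChar
import Cfsg.Agent.S1500
import Cfsg.Agent.S1501
import Cfsg.Agent.Lib.Helper25_DadeIso
import Cfsg.Agent.Lib.Helper25_FrobTI
import Cfsg.Agent.Lib.Helper17_CohSys
import Cfsg.Agent.Lib.Helper57_FrobNorm

/-!
# Peterfalvi section 12, part a (helper84): general lemmas on the Dade map

* `dade_add`, `dade_zsmul`: the Dade map is additive and commutes with integer scalars.
* `isometry_of_dade`: under the Dade hypothesis the Dade map is a linear isometry on the integer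
  combinations, vanishing at `1`, of characters vanishing off `A ∪ {1}`.
* `dade_eq_ind`: the Dade map agrees with induction on class functions supported on the elements
  `a ∈ A` with `H a = 1`.
* `card_dvd_exponent_of_cyclic_sylow`: a finite group all of whose Sylow subgroups are cyclic has
  exponent divisible by its order.
-/

set_option autoImplicit false

open Cfsg

namespace Cfsg.Agent.Lib.Helper84_PF12a

open Cfsg.Agent.Lib.Helper75_Induced Cfsg.Agent.Lib.Helper25_DadeIso

section dade

variable {G : Type*} [Group G]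

theorem dade_add (A : Set G) (L : Subgroup G) (H : G → Subgroup G) (α β : ↥L → ℂ) :
    dadeIsometry A L H (α + β) = dadeIsometry A L H α + dadeIsometry A L H β := by
  funext g
  unfold dadeIsometry
  simp only [Pi.add_apply]
  split_ifs <;> simp

theorem dade_zsmul (A : Set G) (L : Subgroup G) (H : G → Subgroup G) (n : ℤ) (α : ↥L → ℂ) :
    dadeIsometry A L H (n • α) = n • dadeIsometry A L H α := by
  funext g
  unfold dadeIsometry
  simp only [Pi.smul_apply]
  split_ifs <;> simp

/-- the Dade map of anything vanishes at `1` -/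
theorem dade_one (A : Set G) (L : Subgroup G) (H : G → Subgroup G) (hD : DadeHypothesis A L H)
    (α : ↥L → ℂ) : dadeIsometry A L H α 1 = 0 := by
  apply dade_of_not
  rintro ⟨a, ha, x, u, hu, hx⟩
  have h1 : (a : G) * u = 1 := by rw [← hx]; group
  have hu' : u = (a : G)⁻¹ := eq_inv_of_mul_eq_one_right h1
  have haC : (a : G)⁻¹ ∈ L ⊓ Subgroup.centralizer ({(a : G)} : Set G) := by
    refine Subgroup.mem_inf.2 ⟨L.inv_mem a.2, ?_⟩
    rw [Subgroup.mem_centralizer_iff]
    intro z hz
    rw [Set.mem_singleton_iff] at hz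
    rw [hz]; group
  have h2 : (a : G)⁻¹ ∈ H (a : G) ⊓ (L ⊓ Subgroup.centralizer ({(a : G)} : Set G)) :=
    Subgroup.mem_inf.2 ⟨hu' ▸ hu, haC⟩
  rw [hD.inf_eq_bot (a : G) ha, Subgroup.mem_bot, inv_eq_one] at h2
  exact hD.one_not_mem (h2 ▸ ha)

/-- integer combinations of characters vanishing where `P` holds are generalized characters
vanishing where `P` holds -/
theorem zspan_gen_van {L : Type*} [Group L] (S : Set (L → ℂ)) (hchar : ∀ χ ∈ S, IsCharacter L χ)
    (P : L → Prop) (hvan : ∀ χ ∈ S, ∀ x : L, P x → χ x = 0) :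
    ∀ α ∈ zspan S, IsGeneralizedCharacter L α ∧ ∀ x : L, P x → α x = 0 := by
  intro α hα
  refine Submodule.span_induction (p := fun α _ => IsGeneralizedCharacter L α ∧
    ∀ x : L, P x → α x = 0) ?_ ?_ ?_ ?_ hα
  · intro χ hχ
    exact ⟨Cfsg.Agent.Lib.Helper17_CohSys.gen_of_char (hchar χ hχ), hvan χ hχ⟩
  · exact ⟨Cfsg.Agent.Lib.Helper17_CohSys.gen_zero, fun x _ => rfl⟩
  · intro a b _ _ ha hb
    refine ⟨Cfsg.Agent.Lib.Helper17_CohSys.gen_add ha.1 hb.1, fun x hx => ?_⟩
    rw [Pi.add_apply, ha.2 x hx, hb.2 x hx, add_zero]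
  · intro n a _ ha
    refine ⟨Cfsg.Agent.Lib.Helper17_CohSys.gen_zsmul n ha.1, fun x hx => ?_⟩
    rw [Pi.smul_apply, ha.2 x hx, smul_zero]

/-- **the Dade map is a linear isometry** on the integer combinations, vanishing at `1`, of
characters vanishing off `A ∪ {1}` -/
theorem isometry_of_dade [Fintype G] (A : Set G) (L : Subgroup G) [Fintype L] (H : G → Subgroup G)
    (hD : DadeHypothesis A L H) (S : Set (↥L → ℂ)) (hchar : ∀ χ ∈ S, IsCharacter ↥L χ)
    (hvan : ∀ χ ∈ S, ∀ x : ↥L, x ≠ 1 → (x : G) ∉ A → χ x = 0) :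
    IsLinearIsometryOn (zspanOn S {1}ᶜ) (dadeIsometry A L H) ∧
      ∀ α ∈ zspanOn S {1}ᶜ, dadeIsometry A L H α 1 = 0 := by
  classical
  have hspan : ∀ α ∈ zspan S, IsGeneralizedCharacter ↥L α ∧
      ∀ x : ↥L, x ≠ 1 → (x : G) ∉ A → α x = 0 := by
    intro α hα
    refine Submodule.span_induction (p := fun α _ => IsGeneralizedCharacter ↥L α ∧
      ∀ x : ↥L, x ≠ 1 → (x : G) ∉ A → α x = 0) ?_ ?_ ?_ ?_ hα
    · intro χ hχ
      exact ⟨Cfsg.Agent.Lib.Helper17_CohSys.gen_of_char (hchar χ hχ), hvan χ hχ⟩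
    · exact ⟨Cfsg.Agent.Lib.Helper17_CohSys.gen_zero, fun x _ _ => rfl⟩
    · intro a b _ _ ha hb
      refine ⟨Cfsg.Agent.Lib.Helper17_CohSys.gen_add ha.1 hb.1, fun x hx hxA => ?_⟩
      rw [Pi.add_apply, ha.2 x hx hxA, hb.2 x hx hxA, add_zero]
    · intro n a _ ha
      refine ⟨Cfsg.Agent.Lib.Helper17_CohSys.gen_zsmul n ha.1, fun x hx hxA => ?_⟩
      rw [Pi.smul_apply, ha.2 x hx hxA, smul_zero]
  have hoff : ∀ α ∈ zspanOn S {1}ᶜ, ∀ x : ↥L, (x : G) ∉ A → α x = 0 := by
    intro α hα x hxA
    by_cases hx : x = 1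
    · rw [hx]
      exact hα.2 1 (fun h => h rfl)
    · exact (hspan α hα.1).2 x hx hxA
  refine ⟨⟨?_, ?_, ?_, ?_⟩, ?_⟩
  · intro α _ β _
    exact dade_add A L H α β
  · intro α _ n
    exact dade_zsmul A L H n α
  · intro α hα β hβ
    have hαc := Cfsg.Agent.Lib.Helper57_FrobNorm.isClassFunction_of_isGeneralizedCharacter
      (hspan α hα.1).1
    have hβc := Cfsg.Agent.Lib.Helper57_FrobNorm.isClassFunction_of_isGeneralizedCharacter
      (hspan β hβ.1).1
    exact (Cfsg.Agent.S1500.result A L H hD α hαc (hoff α hα)).1 β hβc (hoff β hβ)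
  · intro α hα
    exact Cfsg.Agent.S1501.result A L H hD α (hspan α hα.1).1 (hoff α hα)
  · intro α _
    exact dade_one A L H hD α

/-- **the Dade map agrees with induction** on class functions supported on elements `a ∈ A` with
`H a = 1` -/
theorem dade_eq_ind [Fintype G] (A : Set G) (L : Subgroup G) [Fintype L] (H : G → Subgroup G)
    (hD : DadeHypothesis A L H) (α : ↥L → ℂ) (hα : IsClassFunction ↥L α)
    (hsupp : ∀ x : ↥L, α x ≠ 0 → (x : G) ∈ A ∧ H (x : G) = ⊥) :
    indFun L α = dadeIsometry A L H α := by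
  classical
  funext g
  rw [indFun_apply]
  have hL0 : (Nat.card ↥L : ℂ) ≠ 0 := by
    rw [Nat.cast_ne_zero]; exact Nat.card_pos.ne'
  by_cases hex : ∃ x₀ : G, extendByZero L α (x₀⁻¹ * g * x₀) ≠ 0
  · obtain ⟨x₀, hx₀⟩ := hex
    have hmem : x₀⁻¹ * g * x₀ ∈ L := by
      by_contra h
      exact hx₀ (extendByZero_of_not_mem L α h)
    rw [extendByZero_of_mem L α hmem] at hx₀
    set a : ↥L := ⟨x₀⁻¹ * g * x₀, hmem⟩ with ha
    obtain ⟨haA, haH⟩ := hsupp a hx₀
    have hdade : dadeIsometry A L H α g = α a := by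
      apply dade_apply A L H hD α hα g a haA x₀⁻¹ 1 (one_mem _)
      rw [mul_one, inv_inv]
    rw [hdade]
    -- the terms of the sum
    have key : ∀ x : G, extendByZero L α (x⁻¹ * g * x) =
        if x₀⁻¹ * x ∈ L then α a else 0 := by
      intro x
      have hconj : x⁻¹ * g * x = (x₀⁻¹ * x)⁻¹ * (a : G) * (x₀⁻¹ * x) := by
        rw [ha]; group
      split_ifs with hx
      · have hmem' : x⁻¹ * g * x ∈ L := by
          rw [hconj]
          exact L.mul_mem (L.mul_mem (L.inv_mem hx) a.2) hx
        rw [extendByZero_of_mem L α hmem']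
        have h1 := hα a (⟨x₀⁻¹ * x, hx⟩⁻¹ : ↥L)
        rw [← h1]
        congr 1
        apply Subtype.ext
        show x⁻¹ * g * x = _
        rw [hconj]
        simp
      · by_cases hmem' : x⁻¹ * g * x ∈ L
        · rw [extendByZero_of_mem L α hmem']
          by_contra hne
          obtain ⟨hA', -⟩ := hsupp ⟨x⁻¹ * g * x, hmem'⟩ hne
          have hA'' : (x₀⁻¹ * x)⁻¹ * (a : G) * (x₀⁻¹ * x)⁻¹⁻¹ ∈ A := by
            rw [inv_inv, ← hconj]
            exact hA'
          obtain ⟨y, hy, c, hc, hyc⟩ := (conj_mem_iff A L H hD (a : G) haA _).1 hA''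
          rw [haH, Subgroup.mem_bot] at hc
          rw [hc, mul_one] at hyc
          apply hx
          have : x₀⁻¹ * x = y⁻¹ := by rw [← hyc, inv_inv]
          rw [this]
          exact L.inv_mem hy
        · exact extendByZero_of_not_mem L α hmem'
    simp_rw [key]
    rw [Finset.sum_ite, Finset.sum_const_zero, add_zero, Finset.sum_const, nsmul_eq_mul,
      ← mul_assoc]
    have hcard : ((Finset.univ.filter (fun x : G => x₀⁻¹ * x ∈ L)).card : ℂ) =
        (Nat.card ↥L : ℂ) := by
      congr 1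
      rw [Nat.card_eq_fintype_card, ← Fintype.card_subtype]
      exact Fintype.card_congr
        { toFun := fun x => ⟨x₀⁻¹ * x.1, x.2⟩
          invFun := fun y => ⟨x₀ * y.1, by
            have : x₀⁻¹ * (x₀ * (y : G)) = y := by group
            rw [this]; exact y.2⟩
          left_inv := fun x => by
            apply Subtype.ext
            show x₀ * (x₀⁻¹ * x.1) = x.1
            group
          right_inv := fun y => by
            apply Subtype.ext
            show x₀⁻¹ * (x₀ * (y : G)) = y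
            group }
    rw [hcard, inv_mul_cancel₀ hL0, one_mul]
  · push Not at hex
    rw [Finset.sum_eq_zero (fun x _ => hex x), mul_zero]
    symm
    by_cases h : ∃ a : ↥L, (a : G) ∈ A ∧ ∃ x : G, ∃ u ∈ H (a : G), x * g * x⁻¹ = (a : G) * u
    · obtain ⟨a, haA, x, u, hu, hx⟩ := h
      rw [dade_apply A L H hD α hα g a haA x u hu hx]
      by_contra hne
      obtain ⟨-, haH⟩ := hsupp a hne
      rw [haH, Subgroup.mem_bot] at hu
      rw [hu, mul_one] at hx
      have h1 := hex x⁻¹
      rw [inv_inv, hx, extendByZero_of_mem L α a.2] at h1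
      exact hne h1
    · exact dade_of_not A L H α g h

end dade

section zgroup

/-- a finite group all of whose Sylow subgroups are cyclic has exponent divisible by its order -/
theorem card_dvd_exponent_of_cyclic_sylow {U : Type*} [Group U] [Finite U]
    (h : ∀ (p : ℕ) [Fact p.Prime] (P : Sylow p U), IsCyclic P) :
    Nat.card U ∣ Monoid.exponent U := by
  have hpos : Nat.card U ≠ 0 := Nat.card_pos.ne'
  have hexp : Monoid.exponent U ≠ 0 := Monoid.exponent_ne_zero_of_finite
  rw [← Nat.factorization_le_iff_dvd hpos hexp]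
  intro p
  by_cases hp : p.Prime
  · have : Fact p.Prime := ⟨hp⟩
    obtain ⟨P⟩ : Nonempty (Sylow p U) := inferInstance
    have hc := h p P
    obtain ⟨g, hg⟩ := hc.exists_generator
    have ho : orderOf g = Nat.card P := orderOf_eq_card_of_forall_mem_zpowers hg
    have hcard : Nat.card P = p ^ (Nat.card U).factorization p := Sylow.card_eq_multiplicity P
    have hdvd : p ^ (Nat.card U).factorization p ∣ Monoid.exponent U := by
      rw [← hcard, ← ho, ← Subgroup.orderOf_coe]
      exact Monoid.order_dvd_exponent _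
    exact (hp.pow_dvd_iff_le_factorization hexp).1 hdvd
  · simp [Nat.factorization_eq_zero_of_not_prime _ hp]

end zgroup

end Cfsg.Agent.Lib.Helper84_PF12a
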