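import Mathlib
import Cfsg.Prelude.Def_OddOrderLocal
import Cfsg.Agent.Lib.Helper77_RealDegD

/-!
# Peterfalvi section 8 bookkeeping, part a (helper84)

Basic facts about the sets `A₁(M) ⊆ A(M) ⊆ A₀(M)` attached to a maximal subgroup `M`
(`Cfsg.typeA1`, `Cfsg.typeA`, `Cfsg.typeA0`): a subgroup of Frobenius type is not of type P,
inclusions, `M`-invariance, containment in `M`, absence of the identity.
-/

set_option autoImplicit false

open Cfsg

namespace Cfsg.Agent.Lib.Helper84_PF8a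

variable {G : Type*} [Group G]

/-- membership in `fittingHallOf M` in terms of `fittingHall ↥M` -/
theorem mem_fittingHallOf {M : Subgroup G} {x : G} :
    x ∈ fittingHallOf M ↔ ∃ h : x ∈ M, (⟨x, h⟩ : M) ∈ fittingHall M := by
  unfold fittingHallOf
  constructor
  · rintro ⟨y, hy, rfl⟩
    exact ⟨y.2, hy⟩
  · rintro ⟨h, hx⟩
    exact ⟨⟨x, h⟩, hx, rfl⟩

theorem fittingHallOf_le (M : Subgroup G) : fittingHallOf M ≤ M := by
  intro x hx
  obtain ⟨h, -⟩ := mem_fittingHallOf.1 hx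
  exact h

/-- `M_F` is normalized by `M` -/
theorem conj_mem_fittingHallOf {M : Subgroup G} {m x : G} (hm : m ∈ M) (hx : x ∈ fittingHallOf M) :
    m * x * m⁻¹ ∈ fittingHallOf M := by
  obtain ⟨h, hx'⟩ := mem_fittingHallOf.1 hx
  refine mem_fittingHallOf.2 ⟨M.mul_mem (M.mul_mem hm h) (M.inv_mem hm), ?_⟩
  have := (fittingHall_normal M).conj_mem _ hx' ⟨m, hm⟩
  exact this

/-- `M'` is normalized by `M` -/
theorem conj_mem_commutator {M : Subgroup G} {m x : G} (hm : m ∈ M) (hx : x ∈ ⁅M, M⁆) :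
    m * x * m⁻¹ ∈ ⁅M, M⁆ := by
  have hn : M ≤ Subgroup.normalizer ((⁅M, M⁆ : Subgroup G) : Set G) := by
    intro g hg
    rw [Subgroup.mem_normalizer_iff]
    intro n
    constructor
    · intro hn
      have : (MulAut.conj g) n ∈ (⁅M, M⁆).map (MulAut.conj g).toMonoidHom := ⟨n, hn, rfl⟩
      rw [Subgroup.map_commutator] at this
      have hM : M.map (MulAut.conj g).toMonoidHom = M := by
        ext y
        constructor
        · rintro ⟨z, hz, rfl⟩
          exact M.mul_mem (M.mul_mem hg hz) (M.inv_mem hg)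
        · intro hy
          refine ⟨g⁻¹ * y * g, M.mul_mem (M.mul_mem (M.inv_mem hg) hy) hg, ?_⟩
          simp [MulAut.conj_apply, mul_assoc]
      rw [hM] at this
      simpa [MulAut.conj_apply] using this
    · intro hn
      have : (MulAut.conj g⁻¹) (g * n * g⁻¹) ∈ (⁅M, M⁆).map (MulAut.conj g⁻¹).toMonoidHom :=
        ⟨_, hn, rfl⟩
      rw [Subgroup.map_commutator] at this
      have hM : M.map (MulAut.conj g⁻¹).toMonoidHom = M := by
        ext y
        constructor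
        · rintro ⟨z, hz, rfl⟩
          exact M.mul_mem (M.mul_mem (M.inv_mem hg) hz) (M.inv_mem (M.inv_mem hg))
        · intro hy
          refine ⟨g * y * g⁻¹, M.mul_mem (M.mul_mem hg hy) (M.inv_mem hg), ?_⟩
          simp [mul_assoc]
      rw [hM] at this
      simpa [MulAut.conj_apply, mul_assoc] using this
  exact (Subgroup.mem_normalizer_iff.1 (hn hm) x).1 hx

theorem commutator_le_self (M : Subgroup G) : ⁅M, M⁆ ≤ M :=
  Subgroup.commutator_le.2 fun _ ha _ hb =>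
    M.mul_mem (M.mul_mem (M.mul_mem ha hb) (M.inv_mem ha)) (M.inv_mem hb)

/-- A subgroup of Frobenius type (with `M_F ≤ M'`) is not of type P. -/
theorem not_isOfTypeP_of_isOfTypeF [Finite G] (M : Subgroup G) (hFle : fittingHallOf M ≤ ⁅M, M⁆)
    (hF : IsOfTypeF M) : ¬ IsOfTypeP M := by
  obtain ⟨_, _, _, _, U, _, hcompl, _, U₀, hU₀U, hexp, hfree⟩ := hF
  rintro ⟨W₁, U', W₂, hP⟩
  obtain ⟨hM'M, hW₁M, hW₁M', -⟩ := hP.W₁_compl
  -- a prime divisor of `|W₁|`
  have hW₁card : Nat.card W₁ ≠ 1 := by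
    intro h
    exact hP.W₁_ne (Subgroup.card_eq_one.1 h)
  obtain ⟨p, hp, hpW⟩ := Nat.exists_prime_and_dvd hW₁card
  have : Fact p.Prime := ⟨hp⟩
  -- `W₁` as a subgroup of `M`
  set W := W₁.subgroupOf M with hW
  have hWcard : Nat.card W = Nat.card W₁ := by
    rw [hW]
    exact Nat.card_congr (Subgroup.subgroupOfEquivOfLe hW₁M).toEquiv
  -- `W` meets `M_F` trivially
  have hWF : W ⊓ fittingHall M = ⊥ := by
    rw [eq_bot_iff]
    intro x hx
    obtain ⟨hx1, hx2⟩ := hx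
    have h1 : (x : G) ∈ W₁ := Subgroup.mem_subgroupOf.1 hx1
    have h2 : (x : G) ∈ ⁅M, M⁆ := hFle (mem_fittingHallOf.2 ⟨x.2, hx2⟩)
    have h3 : (x : G) ∈ ⁅M, M⁆ ⊓ W₁ := ⟨h2, h1⟩
    rw [hW₁M'] at h3
    rw [Subgroup.mem_bot] at h3 ⊢
    exact Subtype.ext h3
  -- hence `|W|` divides the index of `M_F`, which is `|U|`
  have hdvd : Nat.card W ∣ (fittingHall M).index := by
    have hinj : Function.Injective ((QuotientGroup.mk' (fittingHall M)).comp W.subtype) := by
      rw [injective_iff_map_eq_one]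
      intro x hx
      have h1 : (x : M) ∈ fittingHall M := by
        have : (QuotientGroup.mk' (fittingHall M)) (x : M) = 1 := hx
        rwa [QuotientGroup.mk'_apply, QuotientGroup.eq_one_iff] at this
      have h2 : (x : M) ∈ W ⊓ fittingHall M := ⟨x.2, h1⟩
      rw [hWF, Subgroup.mem_bot] at h2
      exact Subtype.ext h2
    have := Subgroup.card_dvd_of_injective _ hinj
    rwa [← Subgroup.index_eq_card] at this
  have hUcard : Nat.card U = (fittingHall M).index := by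
    have h1 := hcompl.card_mul_card
    have h2 := (fittingHall M).card_mul_index
    have h3 : Nat.card (fittingHall M) ≠ 0 := Nat.card_pos.ne'
    rw [← h2] at h1
    exact Nat.eq_of_mul_eq_mul_left (Nat.pos_of_ne_zero h3) h1
  have hpU : p ∣ Nat.card U := by
    rw [hUcard]
    exact dvd_trans (hWcard ▸ hpW) hdvd
  -- an element of order `p` in `U₀`
  have hpexpU : p ∣ Monoid.exponent U := by
    obtain ⟨u, hu⟩ := exists_prime_orderOf_dvd_card' p hpU
    rw [← hu]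
    exact Monoid.order_dvd_exponent u
  have hpU₀ : p ∣ Nat.card U₀ := by
    rw [← hexp] at hpexpU
    exact dvd_trans hpexpU Group.exponent_dvd_nat_card
  obtain ⟨u, hu⟩ := exists_prime_orderOf_dvd_card' p hpU₀
  have hu1 : (u : M) ≠ 1 := by
    intro h
    have : u = 1 := Subtype.ext h
    rw [this, orderOf_one] at hu
    exact hp.one_lt.ne hu
  -- `⟨u⟩` is conjugate in `M` into `W`
  have hpind : ¬ p ∣ W.index := by
    have h1 : W.index = W₁.relIndex M := rfl
    rw [h1]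
    intro h
    have h2 := hP.W₁_hall
    have h3 : p ∣ Nat.gcd (Nat.card W₁) (W₁.relIndex M) := Nat.dvd_gcd hpW h
    rw [h2] at h3
    exact hp.one_lt.ne' (Nat.dvd_one.1 h3)
  have hzp : IsPGroup p (Subgroup.zpowers (u : M)) := by
    rw [IsPGroup.iff_card, Nat.card_zpowers, Subgroup.orderOf_coe, hu]
    exact ⟨1, (pow_one p).symm⟩
  obtain ⟨m, hm⟩ := Cfsg.Agent.Lib.Helper77_RealDegD.exists_conj_le_of_index p W
    (Subgroup.zpowers (u : M)) hzp hpind
  have hx := hm (u : M) (Subgroup.mem_zpowers _)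
  -- x = m⁻¹ u m ∈ W₁, nontrivial
  have hxW₁ : ((m⁻¹ * (u : M) * m : M) : G) ∈ W₁ := by
    rw [hW, Subgroup.mem_subgroupOf] at hx
    exact hx
  have hx1 : ((m⁻¹ * (u : M) * m : M) : G) ≠ 1 := by
    intro h
    apply hu1
    have : (m⁻¹ * (u : M) * m : M) = 1 := Subtype.ext h
    have h2 : (u : M) = m * (m⁻¹ * (u : M) * m) * m⁻¹ := by group
    rw [h2, this]
    group
  -- the centralizer of `x` in `M'` is `W₂ ≠ 1`
  have hcent := hP.W₂_centralizer _ hxW₁ hx1
  have hW₂ne : W₂ ≠ ⊥ := hP.selfNormalizing.2.1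
  obtain ⟨w, hw1⟩ := (Subgroup.ne_bot_iff_exists_ne_one.1 hW₂ne)
  have hwW₂ : (w : G) ∈ W₂ := w.2
  have hwne : (w : G) ≠ 1 := fun h => hw1 (Subtype.ext h)
  have hwc : (w : G) ∈ ⁅M, M⁆ ⊓ Subgroup.centralizer ({((m⁻¹ * (u : M) * m : M) : G)} : Set G) := by
    rw [hcent]; exact hwW₂
  have hwF : (w : G) ∈ fittingHallOf M := (hP.W₂_le hwW₂).1
  obtain ⟨hwM, hwF'⟩ := mem_fittingHallOf.1 hwF
  -- `u` commutes with `m w m⁻¹ ∈ M_F`
  have hcomm : ((m⁻¹ * (u : M) * m : M) : G) * (w : G) = (w : G) * ((m⁻¹ * (u : M) * m : M) : G) := by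
    have h0 : (w : G) ∈ Subgroup.centralizer ({((m⁻¹ * (u : M) * m : M) : G)} : Set G) := hwc.2
    rw [Subgroup.mem_centralizer_iff] at h0
    exact h0 _ (Set.mem_singleton _)
  set w' : M := ⟨(w : G), hwM⟩ with hw'
  have hcomm' : (m⁻¹ * (u : M) * m) * w' = w' * (m⁻¹ * (u : M) * m) := Subtype.ext hcomm
  have hy : m * w' * m⁻¹ ∈ fittingHall M := (fittingHall_normal M).conj_mem _ hwF' m
  have hcomm'' : (u : M) * (m * w' * m⁻¹) = (m * w' * m⁻¹) * (u : M) := by
    have h1 : (u : M) * (m * w' * m⁻¹) = m * ((m⁻¹ * (u : M) * m) * w') * m⁻¹ := by group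
    have h2 : (m * w' * m⁻¹) * (u : M) = m * (w' * (m⁻¹ * (u : M) * m)) * m⁻¹ := by group
    rw [h1, h2, hcomm']
  have := hfree (u : M) u.2 hu1 _ hy hcomm''
  have h3 : w' = 1 := by
    have h4 : w' = m⁻¹ * (m * w' * m⁻¹) * m := by group
    rw [h4, this]; group
  apply hwne
  have := congrArg Subtype.val h3
  simpa [hw'] using this

/-! ### The subgroup `M_s` and the sets `A₁(M) ⊆ A(M) ⊆ A₀(M)` -/

theorem isOfTypeP_of_III {M : Subgroup G} (h : IsOfTypeIII M) : IsOfTypeP M := by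
  obtain ⟨W₁, U, W₂, hP, -⟩ := h
  exact ⟨W₁, U, W₂, hP⟩

theorem isOfTypeP_of_IV {M : Subgroup G} (h : IsOfTypeIV M) : IsOfTypeP M := by
  obtain ⟨W₁, U, W₂, hP, -⟩ := h
  exact ⟨W₁, U, W₂, hP⟩

theorem isOfTypeP_of_II {M : Subgroup G} (h : IsOfTypeII M) : IsOfTypeP M := by
  obtain ⟨W₁, U, W₂, hP, -⟩ := h
  exact ⟨W₁, U, W₂, hP⟩

theorem isOfTypeP_of_V {M : Subgroup G} (h : IsOfTypeV M) : IsOfTypeP M := by
  obtain ⟨W₁, U, W₂, hP, -⟩ := h
  exact ⟨W₁, U, W₂, hP⟩

theorem typeCore_le (M : Subgroup G) : typeCore M ≤ M := by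
  unfold typeCore
  split_ifs
  · exact commutator_le_self M
  · exact fittingHallOf_le M

theorem typeCore_le_commutator {M : Subgroup G} (hFle : fittingHallOf M ≤ ⁅M, M⁆) :
    typeCore M ≤ ⁅M, M⁆ := by
  unfold typeCore
  split_ifs
  · exact le_rfl
  · exact hFle

theorem fittingHallOf_le_typeCore {M : Subgroup G} (hFle : fittingHallOf M ≤ ⁅M, M⁆) :
    fittingHallOf M ≤ typeCore M := by
  unfold typeCore
  split_ifs
  · exact hFle
  · exact le_rfl

theorem conj_mem_typeCore {M : Subgroup G} {m x : G} (hm : m ∈ M) (hx : x ∈ typeCore M) :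
    m * x * m⁻¹ ∈ typeCore M := by
  unfold typeCore at hx ⊢
  split_ifs at hx ⊢
  · exact conj_mem_commutator hm hx
  · exact conj_mem_fittingHallOf hm hx

theorem typeCore_eq_of_typeI [Finite G] {M : Subgroup G} (hFle : fittingHallOf M ≤ ⁅M, M⁆)
    (hI : IsOfTypeI M) : typeCore M = fittingHallOf M := by
  have hnP := not_isOfTypeP_of_isOfTypeF M hFle hI.1
  unfold typeCore
  rw [if_neg]
  rintro (h | h)
  · exact hnP (isOfTypeP_of_III h)
  · exact hnP (isOfTypeP_of_IV h)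

theorem not_typeI_of_typeP [Finite G] {M : Subgroup G} (hFle : fittingHallOf M ≤ ⁅M, M⁆)
    (hP : IsOfTypeP M) : ¬ IsOfTypeI M := fun hI =>
  not_isOfTypeP_of_isOfTypeF M hFle hI.1 hP

theorem typeA1_subset_typeA [Finite G] {M : Subgroup G} (hFle : fittingHallOf M ≤ ⁅M, M⁆) :
    typeA1 M ⊆ typeA M := by
  intro a ha
  obtain ⟨ha1, ha2⟩ := ha
  have hane : a ≠ 1 := fun h => ha2 (by rw [h]; exact Set.mem_singleton _)
  unfold typeA
  split_ifs with hI
  · have hc := typeCore_eq_of_typeI hFle hI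
    have haF : a ∈ fittingHallOf M := by
      have : a ∈ typeCore M := ha1
      rwa [hc] at this
    exact ⟨fittingHallOf_le M haF, hane, a, haF, hane, rfl⟩
  · exact ⟨typeCore_le_commutator hFle ha1, hane, a, ha1, hane, rfl⟩

theorem typeA_subset_typeA0 (M : Subgroup G) : typeA M ⊆ typeA0 M :=
  Set.subset_union_left

theorem typeA_subset (M : Subgroup G) : typeA M ⊆ (M : Set G) := by
  intro a ha
  unfold typeA at ha
  split_ifs at ha
  · exact ha.1
  · exact commutator_le_self M ha.1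

theorem typeA0_subset (M : Subgroup G) : typeA0 M ⊆ (M : Set G) := by
  rintro a (ha | ha)
  · exact typeA_subset M ha
  · obtain ⟨-, W₁, U, W₂, hP, m, hm, w, hw, -, -, rfl⟩ := ha
    have hW₁ : W₁ ≤ M := hP.W₁_compl.2.1
    have hW₂ : W₂ ≤ M := fun x hx => fittingHallOf_le M (hP.W₂_le hx).1
    have hwM : w ∈ M := (sup_le hW₁ hW₂) hw
    exact M.mul_mem (M.mul_mem hm hwM) (M.inv_mem hm)

theorem one_not_mem_typeA (M : Subgroup G) : (1 : G) ∉ typeA M := by
  intro h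
  unfold typeA at h
  split_ifs at h
  · exact h.2.1 rfl
  · exact h.2.1 rfl

theorem one_not_mem_typeA0 (M : Subgroup G) : (1 : G) ∉ typeA0 M := by
  rintro (h | h)
  · exact one_not_mem_typeA M h
  · obtain ⟨-, W₁, U, W₂, -, m, -, w, -, hw1, -, h1⟩ := h
    apply hw1
    have : w = 1 := by
      have h2 : w = m⁻¹ * (m * w * m⁻¹) * m := by group
      rw [h2, ← h1]; group
    rw [this]; exact W₁.one_mem

theorem conj_mem_typeA1 {M : Subgroup G} {m a : G} (hm : m ∈ M) (ha : a ∈ typeA1 M) :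
    m * a * m⁻¹ ∈ typeA1 M := by
  obtain ⟨ha1, ha2⟩ := ha
  refine ⟨conj_mem_typeCore hm ha1, ?_⟩
  intro h
  apply ha2
  have h1 : m * a * m⁻¹ = 1 := h
  have h2 : a = m⁻¹ * (m * a * m⁻¹) * m := by group
  rw [h2, h1]
  simp

theorem conj_mem_typeA {M : Subgroup G} {m a : G} (hm : m ∈ M) (ha : a ∈ typeA M) :
    m * a * m⁻¹ ∈ typeA M := by
  have hne : ∀ y : G, y ≠ 1 → m * y * m⁻¹ ≠ 1 := by
    intro y hy h
    apply hy
    have h2 : y = m⁻¹ * (m * y * m⁻¹) * m := by group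
    rw [h2, h]; simp
  have hcomm : ∀ x : G, a * x = x * a → (m * a * m⁻¹) * (m * x * m⁻¹) = (m * x * m⁻¹) * (m * a * m⁻¹) := by
    intro x hx
    have h1 : (m * a * m⁻¹) * (m * x * m⁻¹) = m * (a * x) * m⁻¹ := by group
    have h2 : (m * x * m⁻¹) * (m * a * m⁻¹) = m * (x * a) * m⁻¹ := by group
    rw [h1, h2, hx]
  unfold typeA at ha ⊢
  split_ifs at ha ⊢
  · obtain ⟨h1, h2, x, hx, hx1, hc⟩ := ha
    exact ⟨M.mul_mem (M.mul_mem hm h1) (M.inv_mem hm), hne a h2, m * x * m⁻¹,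
      conj_mem_fittingHallOf hm hx, hne x hx1, hcomm x hc⟩
  · obtain ⟨h1, h2, x, hx, hx1, hc⟩ := ha
    exact ⟨conj_mem_commutator hm h1, hne a h2, m * x * m⁻¹,
      conj_mem_typeCore hm hx, hne x hx1, hcomm x hc⟩

theorem conj_mem_typeA0 {M : Subgroup G} {m a : G} (hm : m ∈ M) (ha : a ∈ typeA0 M) :
    m * a * m⁻¹ ∈ typeA0 M := by
  rcases ha with ha | ha
  · exact Or.inl (conj_mem_typeA hm ha)
  · obtain ⟨hI, W₁, U, W₂, hP, m₀, hm₀, w, hw, hw1, hw2, rfl⟩ := ha
    refine Or.inr ⟨hI, W₁, U, W₂, hP, m * m₀, M.mul_mem hm hm₀, w, hw, hw1, hw2, ?_⟩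
    group

end Cfsg.Agent.Lib.Helper84_PF8a
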