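import Mathlib
import Cfsg.Prelude.Def_OddOrderLocal
import Cfsg.Prelude.Def_OddOrderChar
import Cfsg.Agent.Lib.Helper84_PF8a

/-!
# Peterfalvi section 8 bookkeeping, part b (helper84)

The Dade hypothesis for `A₁(M)`, `A(M)`, `A₀(M)` (frozen S1537), from the tame-embedding theorem
(frozen S1391, taken here as the explicit hypothesis `H1391`) and `1 ≠ M_F ≤ M'` (from frozen S1355,
hypothesis `HF`).
-/

set_option autoImplicit false

open Cfsg

namespace Cfsg.Agent.Lib.Helper84_PF8b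

open Cfsg.Agent.Lib.Helper84_PF8a

variable {G : Type*} [Group G]

/-- the statement of S1391 (tame embedding, B-G Theorem II) for `G`, as a hypothesis -/
def H1391 (G : Type*) [Group G] : Prop :=
  ∀ (M : Subgroup G) (_ : IsCoatom M) (X : Set G) (_ : X = Cfsg.typeA M ∨ X = Cfsg.typeA0 M),
    (∀ x ∈ X, ∀ g : G, g * x * g⁻¹ ∈ X → ∃ m ∈ M, m * x * m⁻¹ = g * x * g⁻¹) ∧
      (∀ x ∈ X, ¬ Subgroup.centralizer ({x} : Set G) ≤ M → x ∈ Cfsg.typeA1 M ∧ ∃! L : Subgroup G, IsCoatom L ∧ Subgroup.centralizer ({x} : Set G) ≤ L) ∧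
      ∀ x ∈ X, ¬ Subgroup.centralizer ({x} : Set G) ≤ M → ∀ L : Subgroup G, IsCoatom L → Subgroup.centralizer ({x} : Set G) ≤ L →
        Cfsg.IsComplIn (Cfsg.fittingHallOf L) (M ⊓ L) L ∧
        Subgroup.centralizer ({x} : Set G) ≤ Subgroup.normalizer ((Cfsg.fittingHallOf L ⊓ Subgroup.centralizer ({x} : Set G) : Subgroup G) : Set G) ∧
        Cfsg.IsComplIn (Cfsg.fittingHallOf L ⊓ Subgroup.centralizer ({x} : Set G)) (M ⊓ Subgroup.centralizer ({x} : Set G)) (Subgroup.centralizer ({x} : Set G)) ∧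
        (∀ y ∈ X, (Nat.card (Cfsg.fittingHallOf L)).Coprime (Nat.card ↥(M ⊓ Subgroup.centralizer ({y} : Set G)))) ∧
        (x ∈ Cfsg.typeA L ∧ x ∉ Cfsg.typeA1 L) ∧
        (Cfsg.IsOfTypeI L ∨ Cfsg.IsOfTypeII L) ∧
        (Cfsg.IsOfTypeII L → ∃ E : Subgroup ↥M, Cfsg.IsFrobeniusComplement E ∧ Cfsg.frobeniusKernel E = ((Cfsg.fittingHall ↥M : Subgroup ↥M) : Set ↥M))

/-- `1 ≠ M_F ≤ M'` for every maximal subgroup (part of frozen S1355), as a hypothesis -/
def HF (G : Type*) [Group G] : Prop :=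
  ∀ M : Subgroup G, IsCoatom M → Cfsg.fittingHallOf M ≠ ⊥ ∧ Cfsg.fittingHallOf M ≤ ⁅M, M⁆

theorem supportR_eq_bot_of_le {M : Subgroup G} {x : G}
    (h : Subgroup.centralizer ({x} : Set G) ≤ M) : supportR M x = ⊥ := by
  unfold supportR
  rw [dif_neg]
  intro h'
  exact h'.1 h

theorem supportR_eq {M L : Subgroup G} {x : G} (h1 : ¬ Subgroup.centralizer ({x} : Set G) ≤ M)
    (hL : IsCoatom L) (hxL : Subgroup.centralizer ({x} : Set G) ≤ L)
    (huniq : ∀ L' : Subgroup G, IsCoatom L' → Subgroup.centralizer ({x} : Set G) ≤ L' → L' = L) :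
    supportR M x = fittingHallOf L ⊓ Subgroup.centralizer ({x} : Set G) := by
  have h : ¬ Subgroup.centralizer ({x} : Set G) ≤ M ∧
      ∃! L : Subgroup G, IsCoatom L ∧ Subgroup.centralizer ({x} : Set G) ≤ L :=
    ⟨h1, L, ⟨hL, hxL⟩, fun L' h' => huniq L' h'.1 h'.2⟩
  unfold supportR
  rw [dif_pos h]
  have hc := Classical.choose_spec h.2.exists
  rw [huniq _ hc.1 hc.2]

/-- `A` is one of the three sets -/
def IsTypeSet (M : Subgroup G) (A : Set G) : Prop :=
  A = typeA1 M ∨ A = typeA M ∨ A = typeA0 M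

theorem IsTypeSet.subset_typeA0 [Finite G] {M : Subgroup G} {A : Set G}
    (hFle : fittingHallOf M ≤ ⁅M, M⁆) (hA : IsTypeSet M A) : A ⊆ typeA0 M := by
  rcases hA with rfl | rfl | rfl
  · exact (typeA1_subset_typeA hFle).trans (typeA_subset_typeA0 M)
  · exact typeA_subset_typeA0 M
  · exact le_rfl

theorem IsTypeSet.conj_mem {M : Subgroup G} {A : Set G} (hA : IsTypeSet M A) {m a : G}
    (hm : m ∈ M) (ha : a ∈ A) : m * a * m⁻¹ ∈ A := by
  rcases hA with rfl | rfl | rfl
  · exact conj_mem_typeA1 hm ha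
  · exact conj_mem_typeA hm ha
  · exact conj_mem_typeA0 hm ha

theorem IsTypeSet.typeA1_subset [Finite G] {M : Subgroup G} {A : Set G}
    (hFle : fittingHallOf M ≤ ⁅M, M⁆) (hA : IsTypeSet M A) : typeA1 M ⊆ A := by
  rcases hA with rfl | rfl | rfl
  · exact le_rfl
  · exact typeA1_subset_typeA hFle
  · exact (typeA1_subset_typeA hFle).trans (typeA_subset_typeA0 M)

/-- fusion control for the three sets -/
theorem IsTypeSet.fusion [Finite G] (h91 : H1391 G) {M : Subgroup G} (hM : IsCoatom M) {A : Set G}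
    (hFle : fittingHallOf M ≤ ⁅M, M⁆) (hA : IsTypeSet M A) :
    ∀ a ∈ A, ∀ g : G, g * a * g⁻¹ ∈ A → ∃ x ∈ M, x * a * x⁻¹ = g * a * g⁻¹ := by
  intro a ha g hg
  rcases hA with rfl | rfl | rfl
  · exact (h91 M hM _ (Or.inl rfl)).1 a (typeA1_subset_typeA hFle ha) g
      (typeA1_subset_typeA hFle hg)
  · exact (h91 M hM _ (Or.inl rfl)).1 a ha g hg
  · exact (h91 M hM _ (Or.inr rfl)).1 a ha g hg

/-- The set normalizer of each of the three sets is `M`. -/
theorem normalizer_eq [Finite G] (hG : IsMinSimpleOddOrder G) {M : Subgroup G} (hM : IsCoatom M)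
    {A : Set G} (hF : fittingHallOf M ≠ ⊥) (hFle : fittingHallOf M ≤ ⁅M, M⁆) (hA : IsTypeSet M A) :
    Subgroup.normalizer A = M := by
  have hAM : A ⊆ (M : Set G) := (hA.subset_typeA0 hFle).trans (typeA0_subset M)
  have hle : M ≤ Subgroup.normalizer A := by
    intro m hm
    rw [Subgroup.mem_set_normalizer_iff]
    intro n
    constructor
    · intro hn
      exact hA.conj_mem hm hn
    · intro hn
      have := hA.conj_mem (M.inv_mem hm) hn
      have h2 : m⁻¹ * (m * n * m⁻¹) * m⁻¹⁻¹ = n := by group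
      rwa [h2] at this
  rcases hM.le_iff.1 hle with h | h
  · -- `A` would be a normal subset of `G`
    exfalso
    have : IsSimpleGroup G := hG.2.1
    obtain ⟨a, ha1⟩ := (Subgroup.ne_bot_iff_exists_ne_one.1 hF)
    have haA1 : (a : G) ∈ typeA1 M := by
      refine ⟨fittingHallOf_le_typeCore hFle a.2, ?_⟩
      intro h'
      exact ha1 (Subtype.ext h')
    have haA : (a : G) ∈ A := hA.typeA1_subset hFle haA1
    have hnorm : (Subgroup.closure A).Normal := by
      constructor
      intro n hn g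
      have hg : g ∈ Subgroup.normalizer A := by rw [h]; exact Subgroup.mem_top g
      have hmap : (Subgroup.closure A).map (MulAut.conj g).toMonoidHom ≤ Subgroup.closure A := by
        rw [MonoidHom.map_closure, Subgroup.closure_le]
        rintro _ ⟨y, hy, rfl⟩
        apply Subgroup.subset_closure
        exact ((Subgroup.mem_set_normalizer_iff.1 hg) y).1 hy
      have : (MulAut.conj g) n ∈ (Subgroup.closure A).map (MulAut.conj g).toMonoidHom :=
        ⟨n, hn, rfl⟩
      simpa [MulAut.conj_apply] using hmap this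
    rcases hnorm.eq_bot_or_eq_top with h' | h'
    · have : (a : G) ∈ Subgroup.closure A := Subgroup.subset_closure haA
      rw [h', Subgroup.mem_bot] at this
      exact ha1 (Subtype.ext this)
    · have h2 : Subgroup.closure A ≤ M := (Subgroup.closure_le M).2 hAM
      rw [h'] at h2
      exact hM.1 (top_le_iff.1 h2)
  · exact h

/-- **The Dade hypothesis for `A₁(M)`, `A(M)`, `A₀(M)`** (frozen S1537), from S1391 and S1355. -/
theorem dade [Finite G] (hG : IsMinSimpleOddOrder G) (hHF : HF G) (h91 : H1391 G)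
    (M : Subgroup G) (hM : IsCoatom M) (A : Set G)
    (hA : A = Cfsg.typeA1 M ∨ A = Cfsg.typeA M ∨ A = Cfsg.typeA0 M) :
    Subgroup.normalizer A = M ∧ Cfsg.DadeHypothesis A M (Cfsg.supportR M) := by
  obtain ⟨hF, hFle⟩ := hHF M hM
  have hA' : IsTypeSet M A := hA
  have hA0 : A ⊆ typeA0 M := hA'.subset_typeA0 hFle
  refine ⟨normalizer_eq hG hM hF hFle hA', ?_⟩
  have h0 := h91 M hM (typeA0 M) (Or.inr rfl)
  -- data for an element with centralizer outside `M`
  have key : ∀ a ∈ A, ¬ Subgroup.centralizer ({a} : Set G) ≤ M →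
      ∃ L : Subgroup G, supportR M a = fittingHallOf L ⊓ Subgroup.centralizer ({a} : Set G) ∧
        Subgroup.centralizer ({a} : Set G) ≤ Subgroup.normalizer ((fittingHallOf L ⊓ Subgroup.centralizer ({a} : Set G) : Subgroup G) : Set G) ∧
        IsComplIn (fittingHallOf L ⊓ Subgroup.centralizer ({a} : Set G)) (M ⊓ Subgroup.centralizer ({a} : Set G)) (Subgroup.centralizer ({a} : Set G)) ∧
        (∀ y ∈ typeA0 M, (Nat.card (fittingHallOf L)).Coprime (Nat.card ↥(M ⊓ Subgroup.centralizer ({y} : Set G)))) := by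
    intro a ha hna
    obtain ⟨-, L, ⟨hL, haL⟩, huniq⟩ := h0.2.1 a (hA0 ha) hna
    obtain ⟨-, h2, h3, h4, -⟩ := h0.2.2 a (hA0 ha) hna L hL haL
    exact ⟨L, supportR_eq hna hL haL (fun L' h1 h2 => huniq L' ⟨h1, h2⟩), h2, h3, h4⟩
  refine
    { one_not_mem := fun h => one_not_mem_typeA0 M (hA0 h)
      subset := hA0.trans (typeA0_subset M)
      conj_mem := fun x hx a ha => hA'.conj_mem hx ha
      fusion := hA'.fusion h91 hM hFle
      le_centralizer := ?_
      conj_mem_H := ?_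
      inf_eq_bot := ?_
      sup_eq := ?_
      coprime := ?_ }
  · intro a ha
    by_cases hc : Subgroup.centralizer ({a} : Set G) ≤ M
    · rw [supportR_eq_bot_of_le hc]; exact bot_le
    · obtain ⟨L, hL, -⟩ := key a ha hc
      rw [hL]; exact inf_le_right
  · intro a ha c hc u hu
    by_cases hcM : Subgroup.centralizer ({a} : Set G) ≤ M
    · rw [supportR_eq_bot_of_le hcM, Subgroup.mem_bot] at hu ⊢
      rw [hu]; group
    · obtain ⟨L, hL, hn, -⟩ := key a ha hcM
      rw [hL] at hu ⊢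
      exact ((Subgroup.mem_normalizer_iff.1 (hn hc)) u).1 hu
  · intro a ha
    by_cases hcM : Subgroup.centralizer ({a} : Set G) ≤ M
    · rw [supportR_eq_bot_of_le hcM]; exact bot_inf_eq _
    · obtain ⟨L, hL, -, hcompl, -⟩ := key a ha hcM
      rw [hL]; exact hcompl.2.2.1
  · intro a ha
    by_cases hcM : Subgroup.centralizer ({a} : Set G) ≤ M
    · rw [supportR_eq_bot_of_le hcM, bot_sup_eq]
      exact inf_eq_right.2 hcM
    · obtain ⟨L, hL, -, hcompl, -⟩ := key a ha hcM
      rw [hL]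
      apply le_antisymm
      · exact sup_le hcompl.1 hcompl.2.1
      · intro c hc
        obtain ⟨u, hu, v, hv, rfl⟩ := hcompl.2.2.2 c hc
        exact Subgroup.mul_mem _ (Subgroup.mem_sup_left hu) (Subgroup.mem_sup_right hv)
  · intro a ha b hb
    by_cases hcM : Subgroup.centralizer ({a} : Set G) ≤ M
    · rw [supportR_eq_bot_of_le hcM]
      simp
    · obtain ⟨L, hL, -, -, hcop⟩ := key a ha hcM
      rw [hL]
      have h1 := hcop b (hA0 hb)
      have h2 : Nat.card ↥(fittingHallOf L ⊓ Subgroup.centralizer ({a} : Set G)) ∣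
          Nat.card ↥(fittingHallOf L) := Subgroup.card_dvd_of_le inf_le_left
      exact Nat.Coprime.coprime_dvd_left h2 h1

end Cfsg.Agent.Lib.Helper84_PF8b
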