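import Mathlib
import Cfsg.Prelude.Def_OddOrderLocal
import Cfsg.Prelude.Def_OddOrderChar
import Cfsg.Agent.Lib.Helper84_PF8b
import Cfsg.Agent.Lib.Helper4_BGBasic
import Cfsg.Agent.Lib.Helper24_CoprimeHall
import Cfsg.Agent.S1387

/-!
# Peterfalvi section 8 bookkeeping, part c (helper84)

A maximal subgroup of Type II is not of Type III or IV (complements of `M_F` in `M'` are conjugate),
and for `M` of Type II the sets `A₀(M)`, `A(M)`, `A₁(M)` are TI-subsets with normalizer `M`
(frozen S1538), from the tame-embedding theorem (hypothesis `H1391`) and `HF`.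
-/

set_option autoImplicit false

open Cfsg

namespace Cfsg.Agent.Lib.Helper84_PF8c

open Cfsg.Agent.Lib.Helper84_PF8a Cfsg.Agent.Lib.Helper84_PF8b

variable {G : Type*} [Group G]

/-- Two complements (of coprime order) of the same subgroup `N` in a solvable subgroup `D` are
conjugate under `D`. -/
theorem complIn_conj [Finite G] {N U U' D : Subgroup G} (hsol : Group.IsSolvable D)
    (hcop : (Nat.card N).Coprime (Nat.card U)) (h : IsComplIn N U D) (h' : IsComplIn N U' D) :
    ∃ g ∈ D, U.map (MulAut.conj g).toMonoidHom = U' := by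
  have hcard := Cfsg.Agent.Lib.Helper4_BGBasic.card_of_isComplIn h
  have hcard' := Cfsg.Agent.Lib.Helper4_BGBasic.card_of_isComplIn h'
  have hUU' : Nat.card U = Nat.card U' :=
    Cfsg.Agent.Lib.Helper4_BGBasic.card_eq_of_isComplIn h h'
  have key : ∀ V : Subgroup G, V ≤ D → Nat.card D = Nat.card N * Nat.card V →
      (Nat.card N).Coprime (Nat.card V) →
      Cfsg.Agent.Lib.Helper24_CoprimeHall.PiHall {q | q.Prime ∧ ¬ q ∣ Nat.card N} V D := by
    intro V hV hc hco
    refine ⟨hV, ?_, ?_⟩
    · intro p hp hpV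
      refine ⟨hp, fun hpN => ?_⟩
      have := Nat.dvd_gcd hpN hpV
      rw [hco] at this
      exact hp.one_lt.ne' (Nat.dvd_one.1 this)
    · intro p _ hpπ hdiv
      apply hpπ.2
      rwa [hc, Nat.mul_div_cancel _ Nat.card_pos] at hdiv
  exact Cfsg.Agent.Lib.Helper24_CoprimeHall.piHall_conj hsol (key U h.2.1 hcard hcop)
    (key U' h'.2.1 hcard' (hUU' ▸ hcop))

theorem card_fittingHallOf (M : Subgroup G) :
    Nat.card (fittingHallOf M) = Nat.card (fittingHall M) := by
  unfold fittingHallOf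
  exact Nat.card_congr
    ((fittingHall M).equivMapOfInjective M.subtype M.subtype_injective).symm.toEquiv

/-- `|M_F|` is coprime to the order of any complement of `M_F` in `M'`. -/
theorem coprime_card_compl [Finite G] {M U : Subgroup G}
    (h : IsComplIn (fittingHallOf M) U ⁅M, M⁆) :
    (Nat.card (fittingHallOf M)).Coprime (Nat.card U) := by
  have h1 := Cfsg.Agent.Lib.Helper4_BGBasic.card_of_isComplIn h
  have h2 := Cfsg.Agent.S1387.fittingHall_coprime M
  have h3 := (fittingHall M).card_mul_index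
  have h4 : Nat.card (⁅M, M⁆ : Subgroup G) ∣ Nat.card M :=
    Subgroup.card_dvd_of_le (commutator_le_self M)
  rw [card_fittingHallOf] at h1 ⊢
  have h5 : Nat.card U ∣ (fittingHall M).index := by
    rw [h1, ← h3] at h4
    exact (Nat.mul_dvd_mul_iff_left Nat.card_pos).1 h4
  exact Nat.Coprime.coprime_dvd_right h5 h2

/-- A subgroup of Type II is not of Type III or IV. -/
theorem not_III_IV_of_II [Finite G] {M : Subgroup G} (hsol : Group.IsSolvable (⁅M, M⁆ : Subgroup G))
    (hII : IsOfTypeII M) : ¬ (IsOfTypeIII M ∨ IsOfTypeIV M) := by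
  obtain ⟨W₁, U, W₂, hP, -, -, -, -, hNU, -⟩ := hII
  have key : ∀ (W₁' U' W₂' : Subgroup G), IsTypePWith M W₁' U' W₂' →
      Subgroup.normalizer (U' : Set G) ≤ M → False := by
    intro W₁' U' W₂' hP' hNU'
    obtain ⟨g, hg, hgU⟩ := complIn_conj hsol (coprime_card_compl hP.U_compl) hP.U_compl hP'.U_compl
    have hgM : g ∈ M := commutator_le_self M hg
    apply hNU
    intro n hn
    -- `g n g⁻¹` normalizes `U'`
    have h1 : g * n * g⁻¹ ∈ Subgroup.normalizer (U' : Set G) := by
      rw [← hgU, ← Subgroup.map_equiv_normalizer_eq]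
      exact ⟨n, hn, rfl⟩
    have h2 := hNU' h1
    have h3 : n = g⁻¹ * (g * n * g⁻¹) * g := by group
    rw [h3]
    exact M.mul_mem (M.mul_mem (M.inv_mem hgM) h2) hgM
  rintro (h | h)
  · obtain ⟨W₁', U', W₂', hP', -, -, -, -, hN'⟩ := h
    exact key W₁' U' W₂' hP' hN'
  · obtain ⟨W₁', U', W₂', hP', -, -, -, -, hN'⟩ := h
    exact key W₁' U' W₂' hP' hN'

theorem typeCore_eq_of_II [Finite G] {M : Subgroup G}
    (hsol : Group.IsSolvable (⁅M, M⁆ : Subgroup G)) (hII : IsOfTypeII M) :
    typeCore M = fittingHallOf M := by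
  unfold typeCore
  rw [if_neg (not_III_IV_of_II hsol hII)]

/-- In a simple group, a nontrivial subgroup of a maximal subgroup `M` that is normalized by `M`
has normalizer `M`. -/
theorem normalizer_eq_of_le [Finite G] (hG : IsMinSimpleOddOrder G) {M : Subgroup G}
    (hM : IsCoatom M) (H : Subgroup G) (hH1 : H ≠ ⊥) (hHM : H ≤ M)
    (hn : M ≤ Subgroup.normalizer (H : Set G)) : Subgroup.normalizer (H : Set G) = M := by
  rcases hM.le_iff.1 hn with h | h
  · exfalso
    have : IsSimpleGroup G := hG.2.1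
    have hnorm : H.Normal := Subgroup.normalizer_eq_top_iff.1 h
    rcases hnorm.eq_bot_or_eq_top with h' | h'
    · exact hH1 h'
    · rw [h'] at hHM
      exact hM.1 (top_le_iff.1 hHM)
  · exact h

theorem fittingOf_le (M : Subgroup G) : fittingOf M ≤ M := by
  unfold fittingOf
  rintro _ ⟨y, -, rfl⟩
  exact y.2

theorem le_normalizer_fittingOf (M : Subgroup G) :
    M ≤ Subgroup.normalizer ((fittingOf M : Subgroup G) : Set G) := by
  have hnorm : (fittingSubgroup M).Normal := Subgroup.sSup_normal _ (fun _ h => h.1)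
  intro m hm
  rw [Subgroup.mem_normalizer_iff]
  have key : ∀ (m : G) (hm : m ∈ M) (x : G), x ∈ fittingOf M → m * x * m⁻¹ ∈ fittingOf M := by
    rintro m hm _ ⟨y, hy, rfl⟩
    exact ⟨⟨m, hm⟩ * y * ⟨m, hm⟩⁻¹, hnorm.conj_mem y hy ⟨m, hm⟩, rfl⟩
  intro x
  constructor
  · exact key m hm x
  · intro hx
    have := key m⁻¹ (M.inv_mem hm) _ hx
    have h2 : m⁻¹ * (m * x * m⁻¹) * m⁻¹⁻¹ = x := by group
    rwa [h2] at this

/-- **Type II: `A₀(M)`, `A(M)`, `A₁(M)` are TI-subsets with normalizer `M`** (frozen S1538). -/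
theorem typeII_TI [Finite G] (hG : IsMinSimpleOddOrder G) (hHF : HF G) (h91 : H1391 G)
    (M : Subgroup G) (hM : IsCoatom M) (hII : IsOfTypeII M) :
    (IsTISubset (typeA0 M) ∧ Subgroup.normalizer (typeA0 M) = M) ∧
      (IsTISubset (typeA M) ∧ Subgroup.normalizer (typeA M) = M) ∧
      (IsTISubset (typeA1 M) ∧ Subgroup.normalizer (typeA1 M) = M) := by
  obtain ⟨hF, hFle⟩ := hHF M hM
  have hMsol : Group.IsSolvable M := hG.2.2.2 M hM.1
  have hsol : Group.IsSolvable (⁅M, M⁆ : Subgroup G) :=
    Group.isSolvable_of_isSolvable_injective (Subgroup.inclusion_injective (commutator_le_self M))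
  have hcore := typeCore_eq_of_II hsol hII
  have h0 := h91 M hM (typeA0 M) (Or.inr rfl)
  obtain ⟨W₁, U, W₂, hP, -, -, hTI, -⟩ := hII
  have hFF : fittingHallOf M ≤ fittingOf M := by
    rw [← hP.fitting_eq]; exact le_sup_left
  have hFne : fittingOf M ≠ ⊥ := fun h => hF (le_bot_iff.1 (h ▸ hFF))
  have hNF : Subgroup.normalizer ((fittingOf M : Subgroup G) : Set G) = M :=
    normalizer_eq_of_le hG hM _ hFne (fittingOf_le M) (le_normalizer_fittingOf M)
  have main : ∀ A : Set G, IsTypeSet M A → IsTISubset A ∧ Subgroup.normalizer A = M := by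
    intro A hA
    have hN := normalizer_eq hG hM hF hFle hA
    refine ⟨?_, hN⟩
    intro g hg x hx hgx
    rw [hN] at hg
    exfalso
    have hA0 : A ⊆ typeA0 M := hA.subset_typeA0 hFle
    obtain ⟨m, hm, hmx⟩ := hA.fusion h91 hM hFle x hx g hgx
    -- `m⁻¹ g` centralizes `x` and is outside `M`
    have hc : ¬ Subgroup.centralizer ({x} : Set G) ≤ M := by
      intro hle
      apply hg
      have h1 : m⁻¹ * g ∈ Subgroup.centralizer ({x} : Set G) := by
        rw [Subgroup.mem_centralizer_iff]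
        intro y hy
        rw [Set.mem_singleton_iff] at hy
        subst hy
        have h2 : g * y = m * y * m⁻¹ * g := by
          rw [hmx]; group
        calc y * (m⁻¹ * g) = m⁻¹ * (m * y * m⁻¹ * g) := by group
          _ = m⁻¹ * (g * y) := by rw [h2]
          _ = m⁻¹ * g * y := by group
      have h3 := hle h1
      have h4 : g = m * (m⁻¹ * g) := by group
      rw [h4]
      exact M.mul_mem hm h3
    have hx1 : x ∈ typeA1 M := (h0.2.1 x (hA0 hx) hc).1
    have hxF : x ∈ fittingHallOf M := by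
      have : x ∈ typeCore M := hx1.1
      rwa [hcore] at this
    have hxne : x ≠ 1 := fun h => hx1.2 (by rw [h]; exact Set.mem_singleton _)
    have hgN : g ∉ Subgroup.normalizer ((fittingOf M : Subgroup G) : Set G) := by
      rw [hNF]; exact hg
    have hgxF : g * x * g⁻¹ ∈ ((fittingOf M : Subgroup G) : Set G) := by
      rw [← hmx]
      exact hFF (conj_mem_fittingHallOf hm hxF)
    exact hxne (hTI g hgN x (hFF hxF) hgxF)
  exact ⟨main _ (Or.inr (Or.inr rfl)), main _ (Or.inr (Or.inl rfl)), main _ (Or.inl rfl)⟩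

end Cfsg.Agent.Lib.Helper84_PF8c
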