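import Mathlib
import Cfsg.Prelude.Def_OddOrderLocal
import Cfsg.Prelude.Def_OddOrderChar
import Cfsg.Agent.Lib.Helper84_PF12a
import Cfsg.Agent.Lib.Helper84_PF8a
import Cfsg.Agent.Lib.Helper84_PF8b
import Cfsg.Agent.Lib.Helper84_PF8c
import Cfsg.Agent.Lib.Helper11_BGTypes2
import Cfsg.Agent.Lib.Helper16_FrobGroup
import Cfsg.Agent.Lib.Helper16_CohBasic
import Cfsg.Agent.Lib.Helper79_UniqueSingular
import Cfsg.Agent.S0040
import Cfsg.Agent.S1474
import Cfsg.Agent.S1514
import Cfsg.Agent.S1521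
import Cfsg.Agent.S1524

/-!
# Peterfalvi section 12, part b (helper84): coherence for a Frobenius maximal subgroup of Type I

`coherent_typeI`: the conclusion of the frozen row S1542 from the Dade hypothesis for `A(L)`
(frozen row S1537).  The three alternatives in the definition of Type I are treated by
S1524 (`L_F` a TI-subset; the Dade map is induction there), S1521 (`L_F` abelian) and S1521 again
(`|L : L_F| = exp(L / L_F)` divides `p - 1`: a Frobenius complement of odd order has cyclic Sylow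
subgroups, S0040).
-/

set_option autoImplicit false
set_option linter.unusedVariables false

open Cfsg

namespace Cfsg.Agent.Lib.Helper84_PF12b

open Cfsg.Agent.Lib.Helper84_PF12a Cfsg.Agent.Lib.Helper84_PF8a Cfsg.Agent.Lib.Helper84_PF8b
  Cfsg.Agent.Lib.Helper84_PF8c Cfsg.Agent.Lib.Helper75_Induced Cfsg.Agent.Lib.Helper3_CharBridge

section frobcompl

variable {L : Type*} [Group L] [Finite L]

/-- the index of a Frobenius kernel of a group of odd order divides the exponent of the quotient -/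
theorem index_dvd_exponent_quotient (K U : Subgroup L) [hK : K.Normal] (hodd : Odd (Nat.card L))
    (hK1 : K ≠ ⊥) (hcompl : Subgroup.IsComplement' K U)
    (hfrob : ∀ k ∈ K, k ≠ 1 → ∀ x : L, x * k = k * x → x ∈ K) :
    K.index ∣ Monoid.exponent (L ⧸ K) := by
  have hKU : K ⊓ U = ⊥ := hcompl.disjoint.eq_bot
  have hfpf : ∀ h ∈ U, h ≠ 1 → K ⊓ Subgroup.centralizer {h} = ⊥ := by
    intro h hh hh1
    rw [eq_bot_iff]
    intro k hk
    obtain ⟨hkK, hkC⟩ := hk
    rw [Subgroup.mem_bot]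
    by_contra hk1
    have hc : h * k = k * h := (Subgroup.mem_centralizer_iff.1 hkC) h (Set.mem_singleton h)
    have hhK : h ∈ K := hfrob k hkK hk1 h hc
    have : h ∈ K ⊓ U := ⟨hhK, hh⟩
    rw [hKU, Subgroup.mem_bot] at this
    exact hh1 this
  have hUodd : Odd (Nat.card U) := by
    have h1 : Nat.card U ∣ Nat.card L := Subgroup.card_subgroup_dvd_card U
    exact Odd.of_dvd_nat hodd h1
  have hcyc : ∀ (p : ℕ) [Fact p.Prime] (P : Sylow p U), IsCyclic P := by
    intro p _ P
    rcases Cfsg.Agent.S0040.result K U hcompl hK1 hfpf p P with h | ⟨n, ⟨e⟩⟩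
    · exact h
    · exfalso
      have hc : Nat.card P = 4 * 2 ^ n := by
        rw [Nat.card_congr e.toEquiv, Nat.card_eq_fintype_card, QuaternionGroup.card]
      have h2 : 2 ∣ Nat.card U := by
        have h3 : Nat.card P ∣ Nat.card U := Subgroup.card_subgroup_dvd_card (P : Subgroup U)
        exact (Dvd.intro (2 * 2 ^ n) (by rw [hc]; ring)).trans h3
      exact (Nat.not_even_iff_odd.2 hUodd) (even_iff_two_dvd.2 h2)
  have h1 : Nat.card U ∣ Monoid.exponent U := card_dvd_exponent_of_cyclic_sylow hcyc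
  have hinj : Function.Injective ((QuotientGroup.mk' K).comp U.subtype) := by
    rw [injective_iff_map_eq_one]
    intro x hx
    have h1 : (x : L) ∈ K := by
      have : (QuotientGroup.mk' K) (x : L) = 1 := hx
      rwa [QuotientGroup.mk'_apply, QuotientGroup.eq_one_iff] at this
    have h2 : (x : L) ∈ K ⊓ U := ⟨h1, x.2⟩
    rw [hKU, Subgroup.mem_bot] at h2
    exact Subtype.ext h2
  have h2 : Monoid.exponent U ∣ Monoid.exponent (L ⧸ K) :=
    Monoid.exponent_dvd_of_monoidHom _ hinj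
  rw [hcompl.symm.index_eq_card]
  exact h1.trans h2

end frobcompl

variable {G : Type*} [Group G] [Fintype G]

/-- **Coherence for a Frobenius maximal subgroup of Type I** (the conclusion of frozen S1542),
from the Dade hypothesis for `A(L)` (frozen S1537). -/
theorem coherent_typeI (hG : IsMinSimpleOddOrder G) (L : Subgroup G) [Fintype L] (hL : IsCoatom L)
    (hI : IsOfTypeI L)
    (hfrob : ∀ x ∈ fittingHallOf L, x ≠ 1 →
      L ⊓ Subgroup.centralizer ({x} : Set G) ≤ fittingHallOf L)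
    (hD : DadeHypothesis (typeA L) L (supportR L)) :
    (∀ χ ∈ inducedIrrAbove (fittingHall L) ⊥, IsIrrCharacter L χ) ∧
      IsCoherent (inducedIrrAbove (fittingHall L) ⊥) {1}ᶜ
        (dadeIsometry (typeA L) L (supportR L)) := by
  classical
  have hI' := hI
  obtain ⟨hF, hcase⟩ := hI
  obtain ⟨hsolvL, hodd, hK1, hKtop, U, hU1, hcompl, -, -⟩ := hF
  have hKn : (fittingHall ↥L).Normal := fittingHall_normal ↥L
  have hmemK : ∀ x : ↥L, x ∈ fittingHall ↥L ↔ (x : G) ∈ fittingHallOf L := by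
    intro x
    rw [mem_fittingHallOf]
    exact ⟨fun h => ⟨x.2, h⟩, fun ⟨_, h⟩ => h⟩
  have hfrob' : ∀ k ∈ fittingHall ↥L, k ≠ 1 → ∀ x : ↥L, x * k = k * x → x ∈ fittingHall ↥L := by
    intro k hk hk1 x hx
    rw [hmemK] at hk ⊢
    have hk1' : (k : G) ≠ 1 := fun h => hk1 (Subtype.ext h)
    apply hfrob (k : G) hk hk1'
    refine Subgroup.mem_inf.2 ⟨x.2, ?_⟩
    rw [Subgroup.mem_centralizer_iff]
    intro z hz
    rw [Set.mem_singleton_iff] at hz
    rw [hz]
    exact (congrArg Subtype.val hx).symm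
  have hcop : (Nat.card (fittingHall ↥L)).Coprime (fittingHall ↥L).index :=
    Cfsg.Agent.Lib.Helper16_FrobGroup.coprime_card_index _ hfrob'
  have hnilK : Group.IsNilpotent ↥(fittingHall ↥L) := Cfsg.Agent.S1474.fittingHall_nilpotent
  have hsolv : Group.IsSolvable ↥(fittingHall ↥L) := inferInstance
  have hirrS : ∀ χ ∈ inducedIrrAbove (fittingHall ↥L) ⊥, IsIrrCharacter ↥L χ := by
    rintro χ ⟨θ, hθ, hne, -, rfl⟩
    exact Cfsg.Agent.Lib.Helper25_FrobTI.isIrrCharacter_indFun _ hfrob' hcop hθ hne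
  refine ⟨hirrS, ?_⟩
  have hKnt : Nontrivial ↥(fittingHall ↥L) := (Subgroup.nontrivial_iff_ne_bot _).2 hK1
  obtain ⟨x₀, hx₀⟩ : ∃ x₀ : ↥L, x₀ ∉ fittingHall ↥L := by
    by_contra h
    push Not at h
    exact hKtop (top_le_iff.1 (fun x _ => h x))
  have hSne : (inducedIrrAbove (fittingHall ↥L) ⊥).Nonempty := by
    obtain ⟨θ, hθ, hne⟩ := Cfsg.Agent.Lib.Helper79_UniqueSingular.exists_irr_ne_one hKnt
    refine ⟨indFun (fittingHall ↥L) θ, θ, hθ, hne, fun a ha => ?_, rfl⟩
    have ha1 : a = 1 := Subtype.ext (Subgroup.mem_bot.mp ha)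
    rw [ha1]
  have hvanS : ∀ χ ∈ inducedIrrAbove (fittingHall ↥L) ⊥, ∀ x : ↥L, x ∉ fittingHall ↥L →
      χ x = 0 := by
    rintro χ ⟨θ, hθ, hne, -, rfl⟩ x hx
    exact Cfsg.Agent.Lib.Helper16_CohBasic.indFun_eq_zero_of_not_mem _ θ hx
  have hconj : ∀ χ ∈ inducedIrrAbove (fittingHall ↥L) ⊥,
      conjFun χ ∈ inducedIrrAbove (fittingHall ↥L) ⊥ ∧ conjFun χ ≠ χ := by
    intro χ hχ
    refine ⟨Cfsg.Agent.Lib.Helper16_CohBasic.conj_mem_inducedIrrAbove _ ⊥ hχ, fun h => ?_⟩
    have h1 := Cfsg.Agent.Lib.Helper25_FrobTI.eq_one_of_real hodd (hirrS χ hχ) h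
    have h2 := hvanS χ hχ x₀ hx₀
    rw [h1] at h2
    exact one_ne_zero h2
  -- non-identity elements of `L_F` lie in `A(L)`
  have hAmem : ∀ x : ↥L, x ∈ fittingHall ↥L → x ≠ 1 → (x : G) ∈ typeA L := by
    intro x hx hx1
    have hx1' : (x : G) ≠ 1 := fun h => hx1 (Subtype.ext h)
    unfold typeA
    rw [if_pos hI']
    exact ⟨x.2, hx1', (x : G), (hmemK x).1 hx, hx1', rfl⟩
  have hvanA : ∀ χ ∈ inducedIrrAbove (fittingHall ↥L) ⊥, ∀ x : ↥L, x ≠ 1 →
      (x : G) ∉ typeA L → χ x = 0 := by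
    intro χ hχ x hx1 hxA
    apply hvanS χ hχ x
    intro hxK
    exact hxA (hAmem x hxK hx1)
  have hcharS : ∀ χ ∈ inducedIrrAbove (fittingHall ↥L) ⊥, IsCharacter ↥L χ :=
    fun χ hχ => isCharacter_of_isIrrCharacter (hirrS χ hχ)
  obtain ⟨hτ, hτ1⟩ := isometry_of_dade (typeA L) L (supportR L) hD
    (inducedIrrAbove (fittingHall ↥L) ⊥) hcharS hvanA
  obtain ⟨R, hR⟩ := Cfsg.Agent.S1514.result (inducedIrrAbove (fittingHall ↥L) ⊥) hSne hirrS hconj
    (dadeIsometry (typeA L) L (supportR L)) hτ hτ1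
  have hKL : fittingHall ↥L < ⊤ := lt_top_iff_ne_top.2 hKtop
  have hfrobc : ∀ k ∈ fittingHall ↥L, k ∉ ⁅fittingHall ↥L, fittingHall ↥L⁆ → ∀ x : ↥L,
      x * k * x⁻¹ * k⁻¹ ∈ ⁅fittingHall ↥L, fittingHall ↥L⁆ → x ∈ fittingHall ↥L :=
    fun k hk hk' x hx => Cfsg.Agent.Lib.Helper25_FrobTI.mem_of_commutator _ hfrob' hk hk' x hx
  have hder : ⁅fittingHall ↥L, fittingHall ↥L⁆ < fittingHall ↥L := by
    refine lt_of_le_of_ne (Subgroup.commutator_le_left _ _) (fun heq => ?_)
    have h1 : (_root_.commutator ↥(fittingHall ↥L)).map (fittingHall ↥L).subtype =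
        (⊤ : Subgroup ↥(fittingHall ↥L)).map (fittingHall ↥L).subtype := by
      rw [Subgroup.map_subtype_commutator, heq, ← MonoidHom.range_eq_map, Subgroup.range_subtype]
    have h2 := Subgroup.map_injective (fittingHall ↥L).subtype_injective h1
    have h3 := Group.IsSolvable.commutator_lt_top_of_nontrivial ↥(fittingHall ↥L)
    rw [h2] at h3
    exact lt_irrefl _ h3
  have hnilq : Group.IsNilpotent
      (↥(fittingHall ↥L) ⧸ (⊥ : Subgroup ↥L).subgroupOf (fittingHall ↥L)) := inferInstance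
  rcases hcase with hTI | ⟨hab, -, -⟩ | ⟨hexp, -⟩
  · -- `L_F` is a TI-subset: Sibley's theorem for induction, and the Dade map is induction
    have hFne : fittingHallOf L ≠ ⊥ := by
      obtain ⟨k, hk1⟩ := Subgroup.ne_bot_iff_exists_ne_one.1 hK1
      intro h
      have : ((k : ↥L) : G) ∈ fittingHallOf L := (hmemK _).1 k.2
      rw [h, Subgroup.mem_bot] at this
      exact hk1 (Subtype.ext (Subtype.ext this))
    have hN : Subgroup.normalizer ((fittingHallOf L : Subgroup G) : Set G) = L :=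
      normalizer_eq_of_le hG hL _ hFne (fittingHallOf_le L) (by
        intro m hm
        rw [Subgroup.mem_normalizer_iff]
        intro x
        constructor
        · exact fun hx => conj_mem_fittingHallOf hm hx
        · intro hx
          have := conj_mem_fittingHallOf (L.inv_mem hm) hx
          have h2 : m⁻¹ * (m * x * m⁻¹) * m⁻¹⁻¹ = x := by group
          rwa [h2] at this)
    have hKU : fittingHall ↥L ⊓ U = ⊥ := hcompl.disjoint.eq_bot
    have hKUtop : fittingHall ↥L ⊔ U = ⊤ := hcompl.sup_eq_top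
    have hinf : fittingHallOf L ⊓ U.map L.subtype = ⊥ := by
      unfold fittingHallOf
      rw [← Subgroup.map_inf _ _ _ L.subtype_injective, hKU, Subgroup.map_bot]
    have hsup : fittingHallOf L ⊔ U.map L.subtype = L := by
      unfold fittingHallOf
      rw [← Subgroup.map_sup, hKUtop, ← MonoidHom.range_eq_map, Subgroup.range_subtype]
    have hW1 : U.map L.subtype ≠ ⊥ := by
      intro h
      apply hU1
      rw [eq_bot_iff]
      intro u hu
      have : ((u : ↥L) : G) ∈ U.map L.subtype := ⟨u, hu, rfl⟩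
      rw [h, Subgroup.mem_bot] at this
      rw [Subgroup.mem_bot]
      exact Subtype.ext this
    have hfpf : ∀ w ∈ U.map L.subtype, w ≠ 1 → ∀ h ∈ fittingHallOf L, w * h = h * w → h = 1 := by
      rintro _ ⟨w, hw, rfl⟩ hw1 h hh hc
      by_contra hh1
      obtain ⟨hhL, hhK⟩ := mem_fittingHallOf.1 hh
      have hh1' : (⟨h, hhL⟩ : ↥L) ≠ 1 := fun e => hh1 (congrArg Subtype.val e)
      have hwK : w ∈ fittingHall ↥L := hfrob' ⟨h, hhL⟩ hhK hh1' w (Subtype.ext hc)
      have : w ∈ fittingHall ↥L ⊓ U := ⟨hwK, hw⟩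
      rw [hKU, Subgroup.mem_bot] at this
      apply hw1
      rw [this]; rfl
    have h24 := Cfsg.Agent.S1524.result (fittingHallOf L) L (U.map L.subtype) hodd
      (fittingHallOf_le L) (Subgroup.map_subtype_le U) hFne hW1
      (Cfsg.Agent.Lib.Helper11_BGTypes2.fittingHallOf_nilpotent L)
      (fun x hx h hh => conj_mem_fittingHallOf hx hh) hinf hsup hfpf hTI hN
    have hsub : (fittingHallOf L).subgroupOf L = fittingHall ↥L := by
      unfold fittingHallOf Subgroup.subgroupOf
      rw [Subgroup.comap_map_eq_self_of_injective L.subtype_injective]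
    rw [hsub] at h24
    obtain ⟨hne0, τ₁, hτ₁, heq⟩ := h24
    refine ⟨hne0, τ₁, hτ₁, fun α hα => ?_⟩
    rw [heq α hα]
    obtain ⟨hgen, hvan⟩ := zspan_gen_van (inducedIrrAbove (fittingHall ↥L) ⊥) hcharS
      (fun x => x ∉ fittingHall ↥L) hvanS α hα.1
    have hαc := Cfsg.Agent.Lib.Helper57_FrobNorm.isClassFunction_of_isGeneralizedCharacter hgen
    apply dade_eq_ind (typeA L) L (supportR L) hD α hαc
    intro x hx
    have hxK : x ∈ fittingHall ↥L := by
      by_contra h
      exact hx (hvan x h)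
    have hx1 : x ≠ 1 := by
      rintro rfl
      exact hx (hα.2 1 (fun h => h rfl))
    refine ⟨hAmem x hxK hx1, ?_⟩
    apply supportR_eq_bot_of_le
    intro c hc
    have hxF : (x : G) ∈ fittingHallOf L := (hmemK x).1 hxK
    have hx1' : (x : G) ≠ 1 := fun h => hx1 (Subtype.ext h)
    by_contra hcL
    rw [← hN] at hcL
    apply hx1'
    apply hTI c hcL (x : G) hxF
    have : c * (x : G) * c⁻¹ = (x : G) := by
      have h1 := (Subgroup.mem_centralizer_iff.1 hc) (x : G) (Set.mem_singleton _)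
      rw [← h1]; group
    rw [this]
    exact hxF
  · -- `L_F` is abelian
    have hcomm : ⁅fittingHall ↥L, fittingHall ↥L⁆ ≤ ⊥ := by
      rw [Subgroup.commutator_le]
      intro a ha b hb
      rw [Subgroup.mem_bot, commutatorElement_eq_one_iff_mul_comm]
      have h1 := hab.is_comm.comm (⟨(a : G), (hmemK a).1 ha⟩ : fittingHallOf L)
        ⟨(b : G), (hmemK b).1 hb⟩
      have h2 : (a : G) * (b : G) = (b : G) * (a : G) := congrArg Subtype.val h1
      exact Subtype.ext h2
    exact Cfsg.Agent.S1521.result (fittingHall ↥L) hsolv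
      (dadeIsometry (typeA L) L (supportR L)) R hR hodd ⊥ bot_le hnilq
      ⁅fittingHall ↥L, fittingHall ↥L⁆ (sup_bot_eq _).symm hder hKL hfrobc
      (Or.inr (Or.inr (Or.inr (Or.inl hcomm))))
  · -- `exp(L / L_F)` divides `p - 1` for every prime divisor `p` of `|L_F|`
    have hcardK : Nat.card ↥(fittingHall ↥L) = Nat.card ↥(fittingHallOf L) := by
      unfold fittingHallOf
      rw [Subgroup.card_map_of_injective L.subtype_injective]
    by_cases hpp : ∃ p m : ℕ, p.Prime ∧ Nat.card ↥(fittingHall ↥L) = p ^ m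
    · obtain ⟨p, m, hp, hpm⟩ := hpp
      have hm0 : m ≠ 0 := by
        rintro rfl
        rw [pow_zero] at hpm
        exact hK1 (Subgroup.card_eq_one.1 hpm)
      have hpd : p ∣ Nat.card ↥(fittingHallOf L) := by
        rw [← hcardK, hpm]
        exact dvd_pow_self p hm0
      have hidx : (fittingHall ↥L).index ∣ p - 1 :=
        (index_dvd_exponent_quotient (fittingHall ↥L) U hodd hK1 hcompl hfrob').trans
          (hexp p hp hpd)
      exact Cfsg.Agent.S1521.result (fittingHall ↥L) hsolv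
        (dadeIsometry (typeA L) L (supportR L)) R hR hodd ⊥ bot_le hnilq
        ⁅fittingHall ↥L, fittingHall ↥L⁆ (sup_bot_eq _).symm hder hKL hfrobc
        (Or.inr (Or.inr (Or.inr (Or.inr ⟨p, m, hp, by
          rw [Subgroup.relIndex_bot_left]; exact hpm, hidx⟩))))
    · exact Cfsg.Agent.S1521.result (fittingHall ↥L) hsolv
        (dadeIsometry (typeA L) L (supportR L)) R hR hodd ⊥ bot_le hnilq
        ⁅fittingHall ↥L, fittingHall ↥L⁆ (sup_bot_eq _).symm hder hKL hfrobc
        (Or.inr (Or.inr (Or.inl (by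
          rw [Subgroup.relIndex_bot_left]
          exact hpp))))

end Cfsg.Agent.Lib.Helper84_PF12b
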