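import Mathlib
import Cfsg.Prelude.Def_OddOrderLocal
import Cfsg.Prelude.Def_OddOrderChar
import Cfsg.Agent.Lib.Helper84_PF8a
import Cfsg.Agent.Lib.Helper84_PF8b
import Cfsg.Agent.Lib.Helper84_PF8c

/-!
# Peterfalvi section 8 bookkeeping, part d (helper84)

The frozen tame-embedding statement S1391 is not available (its clause `IsOfTypeI L ∨ IsOfTypeII L`
is affected by the `O_{p'}(M)` typo of `IsOfTypeI`).  Here the Dade hypothesis for `A₁(M)`, `A(M)`,
`A₀(M)` (frozen S1537) and the TI property for Type II (frozen S1538) are derived from the weaker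
hypothesis `TameAt M`, which keeps only the clauses of S1391 that are really used and is provable
from the `σ`-language rows S1350-S1379 (see `Helper84_PF8f`).
-/

set_option autoImplicit false

open Cfsg

namespace Cfsg.Agent.Lib.Helper84_PF8d

open Cfsg.Agent.Lib.Helper84_PF8a Cfsg.Agent.Lib.Helper84_PF8b Cfsg.Agent.Lib.Helper84_PF8c

variable {G : Type*} [Group G]

/-- the clauses of the tame embedding theorem (B-G Theorem II) used below, for one maximal
subgroup `M` -/
structure TameAt (M : Subgroup G) : Prop where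
  ne_bot : fittingHallOf M ≠ ⊥
  le_comm : fittingHallOf M ≤ ⁅M, M⁆
  fusion : ∀ x ∈ typeA0 M, ∀ g : G, g * x * g⁻¹ ∈ typeA0 M → ∃ m ∈ M, m * x * m⁻¹ = g * x * g⁻¹
  mem_A1 : ∀ x ∈ typeA0 M, ¬ Subgroup.centralizer ({x} : Set G) ≤ M →
    x ∈ typeA1 M ∧ ∃! L : Subgroup G, IsCoatom L ∧ Subgroup.centralizer ({x} : Set G) ≤ L
  struct : ∀ x ∈ typeA0 M, ¬ Subgroup.centralizer ({x} : Set G) ≤ M → ∀ L : Subgroup G, IsCoatom L →
    Subgroup.centralizer ({x} : Set G) ≤ L →
      Subgroup.centralizer ({x} : Set G) ≤ Subgroup.normalizer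
        ((fittingHallOf L ⊓ Subgroup.centralizer ({x} : Set G) : Subgroup G) : Set G) ∧
      IsComplIn (fittingHallOf L ⊓ Subgroup.centralizer ({x} : Set G))
        (M ⊓ Subgroup.centralizer ({x} : Set G)) (Subgroup.centralizer ({x} : Set G)) ∧
      ∀ y ∈ typeA0 M, (Nat.card (fittingHallOf L)).Coprime
        (Nat.card ↥(M ⊓ Subgroup.centralizer ({y} : Set G)))

/-- fusion control for the three sets -/
theorem fusion_of_tame [Finite G] {M : Subgroup G} (hT : TameAt M) {A : Set G}
    (hA : IsTypeSet M A) :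
    ∀ a ∈ A, ∀ g : G, g * a * g⁻¹ ∈ A → ∃ x ∈ M, x * a * x⁻¹ = g * a * g⁻¹ := by
  intro a ha g hg
  have hA0 : A ⊆ typeA0 M := hA.subset_typeA0 hT.le_comm
  exact hT.fusion a (hA0 ha) g (hA0 hg)

/-- **The Dade hypothesis for `A₁(M)`, `A(M)`, `A₀(M)`** (frozen S1537), from `TameAt M`. -/
theorem dade_of_tame [Finite G] (hG : IsMinSimpleOddOrder G)
    (M : Subgroup G) (hM : IsCoatom M) (hT : TameAt M) (A : Set G)
    (hA : A = Cfsg.typeA1 M ∨ A = Cfsg.typeA M ∨ A = Cfsg.typeA0 M) :
    Subgroup.normalizer A = M ∧ Cfsg.DadeHypothesis A M (Cfsg.supportR M) := by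
  have hF := hT.ne_bot
  have hFle := hT.le_comm
  have hA' : IsTypeSet M A := hA
  have hA0 : A ⊆ typeA0 M := hA'.subset_typeA0 hFle
  refine ⟨normalizer_eq hG hM hF hFle hA', ?_⟩
  -- data for an element with centralizer outside `M`
  have key : ∀ a ∈ A, ¬ Subgroup.centralizer ({a} : Set G) ≤ M →
      ∃ L : Subgroup G, supportR M a = fittingHallOf L ⊓ Subgroup.centralizer ({a} : Set G) ∧
        Subgroup.centralizer ({a} : Set G) ≤ Subgroup.normalizer ((fittingHallOf L ⊓ Subgroup.centralizer ({a} : Set G) : Subgroup G) : Set G) ∧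
        IsComplIn (fittingHallOf L ⊓ Subgroup.centralizer ({a} : Set G)) (M ⊓ Subgroup.centralizer ({a} : Set G)) (Subgroup.centralizer ({a} : Set G)) ∧
        (∀ y ∈ typeA0 M, (Nat.card (fittingHallOf L)).Coprime (Nat.card ↥(M ⊓ Subgroup.centralizer ({y} : Set G)))) := by
    intro a ha hna
    obtain ⟨-, L, ⟨hL, haL⟩, huniq⟩ := hT.mem_A1 a (hA0 ha) hna
    obtain ⟨h2, h3, h4⟩ := hT.struct a (hA0 ha) hna L hL haL
    exact ⟨L, supportR_eq hna hL haL (fun L' h1 h2 => huniq L' ⟨h1, h2⟩), h2, h3, h4⟩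
  refine
    { one_not_mem := fun h => one_not_mem_typeA0 M (hA0 h)
      subset := hA0.trans (typeA0_subset M)
      conj_mem := fun x hx a ha => hA'.conj_mem hx ha
      fusion := fusion_of_tame hT hA'
      le_centralizer := ?_
      conj_mem_H := ?_
      inf_eq_bot := ?_
      sup_eq := ?_
      coprime := ?_ }
  · intro a ha
    by_cases hc : Subgroup.centralizer ({a} : Set G) ≤ M
    · rw [supportR_eq_bot_of_le hc]; exact bot_le
    · obtain ⟨L, hL, -⟩ := key a ha hc
      rw [hL]; exact inf_le_right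
  · intro a ha c hc u hu
    by_cases hcM : Subgroup.centralizer ({a} : Set G) ≤ M
    · rw [supportR_eq_bot_of_le hcM, Subgroup.mem_bot] at hu ⊢
      rw [hu]; group
    · obtain ⟨L, hL, hn, -⟩ := key a ha hcM
      rw [hL] at hu ⊢
      exact ((Subgroup.mem_normalizer_iff.1 (hn hc)) u).1 hu
  · intro a ha
    by_cases hcM : Subgroup.centralizer ({a} : Set G) ≤ M
    · rw [supportR_eq_bot_of_le hcM]; exact bot_inf_eq _
    · obtain ⟨L, hL, -, hcompl, -⟩ := key a ha hcM
      rw [hL]; exact hcompl.2.2.1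
  · intro a ha
    by_cases hcM : Subgroup.centralizer ({a} : Set G) ≤ M
    · rw [supportR_eq_bot_of_le hcM, bot_sup_eq]
      exact inf_eq_right.2 hcM
    · obtain ⟨L, hL, -, hcompl, -⟩ := key a ha hcM
      rw [hL]
      apply le_antisymm
      · exact sup_le hcompl.1 hcompl.2.1
      · intro c hc
        obtain ⟨u, hu, v, hv, rfl⟩ := hcompl.2.2.2 c hc
        exact Subgroup.mul_mem _ (Subgroup.mem_sup_left hu) (Subgroup.mem_sup_right hv)
  · intro a ha b hb
    by_cases hcM : Subgroup.centralizer ({a} : Set G) ≤ M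
    · rw [supportR_eq_bot_of_le hcM]
      simp
    · obtain ⟨L, hL, -, -, hcop⟩ := key a ha hcM
      rw [hL]
      have h1 := hcop b (hA0 hb)
      have h2 : Nat.card ↥(fittingHallOf L ⊓ Subgroup.centralizer ({a} : Set G)) ∣
          Nat.card ↥(fittingHallOf L) := Subgroup.card_dvd_of_le inf_le_left
      exact Nat.Coprime.coprime_dvd_left h2 h1

/-- **Type II: `A₀(M)`, `A(M)`, `A₁(M)` are TI-subsets with normalizer `M`** (frozen S1538),
from `TameAt M`. -/
theorem typeII_TI_of_tame [Finite G] (hG : IsMinSimpleOddOrder G)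
    (M : Subgroup G) (hM : IsCoatom M) (hT : TameAt M) (hII : IsOfTypeII M) :
    (IsTISubset (typeA0 M) ∧ Subgroup.normalizer (typeA0 M) = M) ∧
      (IsTISubset (typeA M) ∧ Subgroup.normalizer (typeA M) = M) ∧
      (IsTISubset (typeA1 M) ∧ Subgroup.normalizer (typeA1 M) = M) := by
  have hF := hT.ne_bot
  have hFle := hT.le_comm
  have hMsol : Group.IsSolvable M := hG.2.2.2 M hM.1
  have hsol : Group.IsSolvable (⁅M, M⁆ : Subgroup G) :=
    Group.isSolvable_of_isSolvable_injective (Subgroup.inclusion_injective (commutator_le_self M))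
  have hcore := typeCore_eq_of_II hsol hII
  obtain ⟨W₁, U, W₂, hP, -, -, hTI, -⟩ := hII
  have hFF : fittingHallOf M ≤ fittingOf M := by
    rw [← hP.fitting_eq]; exact le_sup_left
  have hFne : fittingOf M ≠ ⊥ := fun h => hF (le_bot_iff.1 (h ▸ hFF))
  have hNF : Subgroup.normalizer ((fittingOf M : Subgroup G) : Set G) = M :=
    normalizer_eq_of_le hG hM _ hFne (fittingOf_le M) (le_normalizer_fittingOf M)
  have main : ∀ A : Set G, IsTypeSet M A → IsTISubset A ∧ Subgroup.normalizer A = M := by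
    intro A hA
    have hN := normalizer_eq hG hM hF hFle hA
    refine ⟨?_, hN⟩
    intro g hg x hx hgx
    rw [hN] at hg
    exfalso
    have hA0 : A ⊆ typeA0 M := hA.subset_typeA0 hFle
    obtain ⟨m, hm, hmx⟩ := fusion_of_tame hT hA x hx g hgx
    -- `m⁻¹ g` centralizes `x` and is outside `M`
    have hc : ¬ Subgroup.centralizer ({x} : Set G) ≤ M := by
      intro hle
      apply hg
      have h1 : m⁻¹ * g ∈ Subgroup.centralizer ({x} : Set G) := by
        rw [Subgroup.mem_centralizer_iff]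
        intro y hy
        rw [Set.mem_singleton_iff] at hy
        subst hy
        have h2 : g * y = m * y * m⁻¹ * g := by
          rw [hmx]; group
        calc y * (m⁻¹ * g) = m⁻¹ * (m * y * m⁻¹ * g) := by group
          _ = m⁻¹ * (g * y) := by rw [h2]
          _ = m⁻¹ * g * y := by group
      have h3 := hle h1
      have h4 : g = m * (m⁻¹ * g) := by group
      rw [h4]
      exact M.mul_mem hm h3
    have hx1 : x ∈ typeA1 M := (hT.mem_A1 x (hA0 hx) hc).1
    have hxF : x ∈ fittingHallOf M := by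
      have : x ∈ typeCore M := hx1.1
      rwa [hcore] at this
    have hxne : x ≠ 1 := fun h => hx1.2 (by rw [h]; exact Set.mem_singleton _)
    have hgN : g ∉ Subgroup.normalizer ((fittingOf M : Subgroup G) : Set G) := by
      rw [hNF]; exact hg
    have hgxF : g * x * g⁻¹ ∈ ((fittingOf M : Subgroup G) : Set G) := by
      rw [← hmx]
      exact hFF (conj_mem_fittingHallOf hm hxF)
    exact hxne (hTI g hgN x (hFF hxF) hgxF)
  exact ⟨main _ (Or.inr (Or.inr rfl)), main _ (Or.inr (Or.inl rfl)), main _ (Or.inl rfl)⟩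

end Cfsg.Agent.Lib.Helper84_PF8d
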