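import Mathlib
import Cfsg.Prelude.Def_OddOrderLocal
import Cfsg.Prelude.Def_OddOrderChar
import Cfsg.Agent.Lib.Helper84_PF8Hyp
import Cfsg.Agent.Lib.Helper84_PF8a
import Cfsg.Agent.Lib.Helper84_PF8c
import Cfsg.Agent.Lib.Helper78_SigmaDecomp
import Cfsg.Agent.Lib.Helper39_BGBasic
import Cfsg.Agent.Lib.Helper11_BGTypes3
import Cfsg.Agent.Lib.Helper77_RealDegD

/-!
# Peterfalvi section 8 bookkeeping, part e (helper84)

The sets `A₁(M)`, `A(M)`, `A₀(M)` of the type language in terms of a standard factorisation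
`M = K U M_σ` (`σ`-language of Bender-Glauberman sections 14-16), from the frozen rows
S1350-S1372 taken as hypotheses (bundle `BGIn`).  No use of the (typo-affected) rows S1380, S1385,
S1391: a maximal subgroup "of Frobenius type" that fails the Lean predicate `IsOfTypeI` is handled
as well.
-/

set_option autoImplicit false
set_option linter.unusedVariables false
set_option linter.unusedSectionVars false

open Cfsg

namespace Cfsg.Agent.Lib.Helper84_PF8e

open Cfsg.Agent.Lib.Helper84_PF8Hyp Cfsg.Agent.Lib.Helper84_PF8a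

variable {G : Type*} [Group G] [Finite G]

/-- the frozen rows used, for the group `G` -/
structure BGIn (G : Type*) [Group G] [Finite G] : Prop where
  h50 : H1350 G
  h51 : H1351 G
  h52 : H1352 G
  h54 : H1354 G
  h55 : H1355 G
  h56 : H1356 G
  h57 : H1357 G
  h60 : H1360 G
  h61 : H1361 G
  h62 : H1362 G
  h63 : H1363 G
  h64 : H1364 G
  h65 : H1365 G
  h70 : H1370 G
  h71 : H1371 G
  h74 : H1374 G
  h75 : H1375 G
  h436 : H1436 G

/-- `K* = M_σ ∩ C_G(K)` -/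
abbrev kst (M K : Subgroup G) : Subgroup G := sigmaCore M ⊓ Subgroup.centralizer (K : Set G)

/-- `Ẑ = K K* ∖ (K ∪ K*)` -/
abbrev zhat (M K : Subgroup G) : Set G :=
  (↑(K ⊔ kst M K) : Set G) \ ((K : Set G) ∪ ↑(kst M K))

/-- the union of the `M`-conjugates of `Ẑ` -/
def tz (M K : Subgroup G) : Set G :=
  {a | ∃ m ∈ M, ∃ z ∈ zhat M K, a = m * z * m⁻¹}

/-- a standard factorisation exists -/
theorem exists_dec (I : BGIn G) {M : Subgroup G} (hM : IsCoatom M) :
    ∃ K U : Subgroup G, IsSigmaDecomposition M K U := by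
  obtain ⟨⟨K, hK⟩, hcyc⟩ := I.h51 M hM
  obtain ⟨⟨U, hU⟩, -⟩ := I.h52 M hM K (hcyc K hK) hK
  exact ⟨K, U, hU⟩

section dec

variable {M K U : Subgroup G}

theorem hall (I : BGIn G) (hM : IsCoatom M) : IsPiHallOf (sigma M) (sigmaCore M) M :=
  (I.h50 M hM).1

theorem sup_eq_of_K_bot (hKU : IsSigmaDecomposition M K U) (hK : K = ⊥) :
    U ⊔ sigmaCore M = M := by
  have h := Cfsg.Agent.Lib.Helper39_BGBasic.IsComplIn.sup_eq hKU.compl
  rwa [hK, bot_sup_eq] at h

/-- `K ∩ U M_σ = 1` -/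
theorem K_inf_sup (I : BGIn G) (hM : IsCoatom M) (hKU : IsSigmaDecomposition M K U) :
    K ⊓ (U ⊔ sigmaCore M) = ⊥ := by
  have hσN := Cfsg.Agent.Lib.Helper78_SigmaDecomp.le_normalizer_sigmaCore M
  have hUM := Cfsg.Agent.Lib.Helper78_SigmaDecomp.U_le hKU
  rw [eq_bot_iff]
  intro x hx
  obtain ⟨hxK, hxN⟩ := hx
  obtain ⟨s, hs, u, hu, rfl⟩ :=
    Cfsg.Agent.Lib.Helper39_BGBasic.exists_mul_of_mem_sup (hUM.trans hσN) hxN
  have hu' : u ∈ K ⊔ sigmaCore M := by
    have : u = s⁻¹ * (s * u) := by group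
    rw [this]
    exact mul_mem (Subgroup.mem_sup_right (inv_mem hs)) (Subgroup.mem_sup_left hxK)
  have hu1 : u = 1 := by
    have : u ∈ U ⊓ (K ⊔ sigmaCore M) := ⟨hu, hu'⟩
    rwa [hKU.compl.2.2.1, Subgroup.mem_bot] at this
  subst hu1
  rw [mul_one] at hxK ⊢
  have : s ∈ K ⊓ sigmaCore M := ⟨hxK, hs⟩
  rwa [Cfsg.Agent.Lib.Helper78_SigmaDecomp.K_inf_sigmaCore hKU (hall I hM)] at this

/-- a subgroup of Frobenius type has no nontrivial Hall subgroup, disjoint from `M_F`, centralizing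
a non-identity element of `M_F` -/
theorem typeF_no_hall_centralizing (M : Subgroup G) (hF : IsOfTypeF M) (W₁ : Subgroup G)
    (hW₁M : W₁ ≤ M) (hW₁ne : W₁ ≠ ⊥) (hW₁F : W₁ ⊓ fittingHallOf M = ⊥)
    (hhall : (Nat.card W₁).Coprime (W₁.relIndex M))
    (c : G) (hc : c ∈ fittingHallOf M) (hc1 : c ≠ 1) (hcomm : ∀ w ∈ W₁, w * c = c * w) : False := by
  obtain ⟨_, _, _, _, U, _, hcompl, _, U₀, hU₀U, hexp, hfree⟩ := hF
  have hW₁card : Nat.card W₁ ≠ 1 := fun h => hW₁ne (Subgroup.card_eq_one.1 h)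
  obtain ⟨p, hp, hpW⟩ := Nat.exists_prime_and_dvd hW₁card
  have : Fact p.Prime := ⟨hp⟩
  set W := W₁.subgroupOf M with hW
  have hWcard : Nat.card W = Nat.card W₁ := by
    rw [hW]
    exact Nat.card_congr (Subgroup.subgroupOfEquivOfLe hW₁M).toEquiv
  have hWF : W ⊓ fittingHall M = ⊥ := by
    rw [eq_bot_iff]
    intro x hx
    obtain ⟨hx1, hx2⟩ := hx
    have h1 : (x : G) ∈ W₁ := Subgroup.mem_subgroupOf.1 hx1
    have h3 : (x : G) ∈ W₁ ⊓ fittingHallOf M := ⟨h1, mem_fittingHallOf.2 ⟨x.2, hx2⟩⟩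
    rw [hW₁F] at h3
    rw [Subgroup.mem_bot] at h3 ⊢
    exact Subtype.ext h3
  have hdvd : Nat.card W ∣ (fittingHall M).index := by
    have hinj : Function.Injective ((QuotientGroup.mk' (fittingHall M)).comp W.subtype) := by
      rw [injective_iff_map_eq_one]
      intro x hx
      have h1 : (x : M) ∈ fittingHall M := by
        have : (QuotientGroup.mk' (fittingHall M)) (x : M) = 1 := hx
        rwa [QuotientGroup.mk'_apply, QuotientGroup.eq_one_iff] at this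
      have h2 : (x : M) ∈ W ⊓ fittingHall M := ⟨x.2, h1⟩
      rw [hWF, Subgroup.mem_bot] at h2
      exact Subtype.ext h2
    have := Subgroup.card_dvd_of_injective _ hinj
    rwa [← Subgroup.index_eq_card] at this
  have hUcard : Nat.card U = (fittingHall M).index := by
    have h1 := hcompl.card_mul_card
    have h2 := (fittingHall M).card_mul_index
    have h3 : Nat.card (fittingHall M) ≠ 0 := Nat.card_pos.ne'
    rw [← h2] at h1
    exact Nat.eq_of_mul_eq_mul_left (Nat.pos_of_ne_zero h3) h1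
  have hpU : p ∣ Nat.card U := by
    rw [hUcard]
    exact dvd_trans (hWcard ▸ hpW) hdvd
  have hpexpU : p ∣ Monoid.exponent U := by
    obtain ⟨u, hu⟩ := exists_prime_orderOf_dvd_card' p hpU
    rw [← hu]
    exact Monoid.order_dvd_exponent u
  have hpU₀ : p ∣ Nat.card U₀ := by
    rw [← hexp] at hpexpU
    exact dvd_trans hpexpU Group.exponent_dvd_nat_card
  obtain ⟨u, hu⟩ := exists_prime_orderOf_dvd_card' p hpU₀
  have hu1 : (u : M) ≠ 1 := by
    intro h
    have : u = 1 := Subtype.ext h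
    rw [this, orderOf_one] at hu
    exact hp.one_lt.ne hu
  have hpind : ¬ p ∣ W.index := by
    have h1 : W.index = W₁.relIndex M := rfl
    rw [h1]
    intro h
    have h3 : p ∣ Nat.gcd (Nat.card W₁) (W₁.relIndex M) := Nat.dvd_gcd hpW h
    rw [hhall] at h3
    exact hp.one_lt.ne' (Nat.dvd_one.1 h3)
  have hzp : IsPGroup p (Subgroup.zpowers (u : M)) := by
    rw [IsPGroup.iff_card, Nat.card_zpowers, Subgroup.orderOf_coe, hu]
    exact ⟨1, (pow_one p).symm⟩
  obtain ⟨m, hm⟩ := Cfsg.Agent.Lib.Helper77_RealDegD.exists_conj_le_of_index p W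
    (Subgroup.zpowers (u : M)) hzp hpind
  have hx := hm (u : M) (Subgroup.mem_zpowers _)
  have hxW₁ : ((m⁻¹ * (u : M) * m : M) : G) ∈ W₁ := by
    rw [hW, Subgroup.mem_subgroupOf] at hx
    exact hx
  obtain ⟨hcM, hcF'⟩ := mem_fittingHallOf.1 hc
  have hcomm0 : ((m⁻¹ * (u : M) * m : M) : G) * c = c * ((m⁻¹ * (u : M) * m : M) : G) :=
    hcomm _ hxW₁
  set w' : M := ⟨c, hcM⟩ with hw'
  have hcomm' : (m⁻¹ * (u : M) * m) * w' = w' * (m⁻¹ * (u : M) * m) := Subtype.ext hcomm0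
  have hy : m * w' * m⁻¹ ∈ fittingHall M := (fittingHall_normal M).conj_mem _ hcF' m
  have hcomm'' : (u : M) * (m * w' * m⁻¹) = (m * w' * m⁻¹) * (u : M) := by
    have h1 : (u : M) * (m * w' * m⁻¹) = m * ((m⁻¹ * (u : M) * m) * w') * m⁻¹ := by group
    have h2 : (m * w' * m⁻¹) * (u : M) = m * (w' * (m⁻¹ * (u : M) * m)) * m⁻¹ := by group
    rw [h1, h2, hcomm']
  have := hfree (u : M) u.2 hu1 _ hy hcomm''
  have h3 : w' = 1 := by
    have h4 : w' = m⁻¹ * (m * w' * m⁻¹) * m := by group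
    rw [h4, this]; group
  apply hc1
  have := congrArg Subtype.val h3
  simpa [hw'] using this

/-- `K` is a Hall subgroup of `M` -/
theorem K_hall (hKU : IsSigmaDecomposition M K U) : (Nat.card K).Coprime (K.relIndex M) := by
  apply Nat.coprime_of_dvd
  intro p hp h1 h2
  exact hKU.hall.2.2 p hp (hKU.hall.2.1 p hp h1) h2

/-- a maximal subgroup of (Lean) Type I has `K = 1` -/
theorem K_eq_bot_of_typeI (I : BGIn G) (hM : IsCoatom M) (hKU : IsSigmaDecomposition M K U)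
    (hI : IsOfTypeI M) : K = ⊥ := by
  by_contra hK1
  obtain ⟨-, hne, hle, -⟩ := I.h64 M hM K U hKU hK1
  obtain ⟨c, hc1⟩ := Subgroup.ne_bot_iff_exists_ne_one.1 hne
  have hcK : (c : G) ∈ kst M K := c.2
  refine typeF_no_hall_centralizing M hI.1 K hKU.hall.1 hK1 ?_ (K_hall hKU) (c : G) (hle hcK)
    (fun h => hc1 (Subtype.ext h)) ?_
  · have h1 := Cfsg.Agent.Lib.Helper78_SigmaDecomp.K_inf_sigmaCore hKU (hall I hM)
    rw [eq_bot_iff, ← h1]
    exact inf_le_inf_left K (I.h55 M hM).2.1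
  · intro w hw
    exact ((Subgroup.mem_centralizer_iff.1 hcK.2) w hw)

/-- `M_s = M_σ` in all cases -/
theorem typeCore_eq (hG : IsMinSimpleOddOrder G) (I : BGIn G) (hM : IsCoatom M)
    (hKU : IsSigmaDecomposition M K U) : typeCore M = sigmaCore M := by
  have hiff := Cfsg.Agent.Lib.Helper11_BGTypes3.typeIIIIV_iff hG hM hKU (hall I hM)
    (I.h54 M hM K hKU.cyclic hKU.hall) (I.h55 M hM) (I.h56 M hM) (I.h57 M hM K U hKU)
    (I.h63 M hM K U hKU) (I.h64 M hM K U hKU) (I.h65 M hM K U hKU) (I.h70 M hM K U hKU)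
  unfold typeCore
  by_cases h : IsOfTypeIII M ∨ IsOfTypeIV M
  · rw [if_pos h]
    obtain ⟨hK1, hU, -⟩ := hiff.1 h
    rw [(I.h65 M hM K U hKU hK1).1, hU, bot_sup_eq]
  · rw [if_neg h]
    by_contra hne
    obtain ⟨hU, -, hprime⟩ := I.h57 M hM K U hKU hne
    have hK1 : K ≠ ⊥ := by
      rintro rfl
      rw [Subgroup.card_bot] at hprime
      exact Nat.not_prime_one hprime
    exact h (hiff.2 ⟨hK1, hU, hne⟩)

/-- `A₁(M) = M_σ ∖ {1}` -/
theorem typeA1_eq (hG : IsMinSimpleOddOrder G) (I : BGIn G) (hM : IsCoatom M)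
    (hKU : IsSigmaDecomposition M K U) : typeA1 M = (sigmaCore M : Set G) \ {1} := by
  unfold typeA1
  rw [typeCore_eq hG I hM hKU]

/-- `M' ∩ K K* = K*` when `K ≠ 1` -/
theorem derived_inf_Z (I : BGIn G) (hM : IsCoatom M) (hKU : IsSigmaDecomposition M K U)
    (hK1 : K ≠ ⊥) : ⁅M, M⁆ ⊓ (K ⊔ kst M K) = kst M K := by
  have hσM' : sigmaCore M ≤ ⁅M, M⁆ := (I.h55 M hM).2.2.1
  apply le_antisymm
  · intro y hy
    obtain ⟨hyM', hyZ⟩ := hy
    obtain ⟨c, hc, k, hk, rfl⟩ := Cfsg.Agent.Lib.Helper39_BGBasic.exists_mul_of_mem_sup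
      (Cfsg.Agent.Lib.Helper11_BGTypes.K_le_normalizer_Kstar M K) hyZ
    have hcM' : c ∈ ⁅M, M⁆ := hσM' hc.1
    have hk' : k ∈ ⁅M, M⁆ := by
      have : k = c⁻¹ * (c * k) := by group
      rw [this]
      exact mul_mem (inv_mem hcM') hyM'
    have hk1 : k = 1 := by
      have h1 : k ∈ K ⊓ (U ⊔ sigmaCore M) := ⟨hk, (I.h65 M hM K U hKU hK1).1 ▸ hk'⟩
      rwa [K_inf_sup I hM hKU, Subgroup.mem_bot] at h1
    rw [hk1, mul_one]
    exact hc
  · exact le_inf (inf_le_left.trans hσM') le_sup_right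

/-- `K` is a complement to `M'` in `M` when `K ≠ 1` -/
theorem isComplIn_derived (I : BGIn G) (hM : IsCoatom M) (hKU : IsSigmaDecomposition M K U)
    (hK1 : K ≠ ⊥) : IsComplIn ⁅M, M⁆ K M := by
  have hσN := Cfsg.Agent.Lib.Helper78_SigmaDecomp.le_normalizer_sigmaCore M
  have hder := (I.h65 M hM K U hKU hK1).1
  refine ⟨commutator_le_self M, hKU.hall.1, ?_, ?_⟩
  · rw [hder, inf_comm]
    exact K_inf_sup I hM hKU
  · intro m hm
    obtain ⟨u, hu, w, hw, rfl⟩ := hKU.compl.2.2.2 m hm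
    obtain ⟨s, hs, k, hk, rfl⟩ := Cfsg.Agent.Lib.Helper39_BGBasic.exists_mul_of_mem_sup
      (hKU.hall.1.trans hσN) hw
    refine ⟨u * s, ?_, k, hk, by group⟩
    rw [hder]
    exact mul_mem (Subgroup.mem_sup_left hu) (Subgroup.mem_sup_right hs)

/-- any type-`P` data of `M` is `M`-conjugate to `(K, K*)` -/
theorem typeP_conj (hG : IsMinSimpleOddOrder G) (I : BGIn G) (hM : IsCoatom M)
    (hKU : IsSigmaDecomposition M K U) {W₁ U' W₂ : Subgroup G} (hP : IsTypePWith M W₁ U' W₂) :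
    K ≠ ⊥ ∧ ∃ n ∈ M, K.map (MulAut.conj n).toMonoidHom = W₁ ∧
      (kst M K).map (MulAut.conj n).toMonoidHom = W₂ := by
  have h55 := I.h55 M hM
  have hK1 : K ≠ ⊥ := Cfsg.Agent.Lib.Helper11_BGTypes.K_ne_bot_of_typeP hP hKU.hall (hall I hM)
    h55.2.1 h55.2.2.1
  refine ⟨hK1, ?_⟩
  have hMsol : Group.IsSolvable M := hG.2.2.2 M hM.1
  have hc := isComplIn_derived I hM hKU hK1
  have hcop : (Nat.card (⁅M, M⁆ : Subgroup G)).Coprime (Nat.card K) := by
    have h1 := Cfsg.Agent.Lib.Helper78_SigmaDecomp.card_of_isComplIn hc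
    have h2 := K_hall hKU
    have h3 : K.relIndex M * Nat.card K = Nat.card M := by
      have h := Subgroup.relIndex_mul_relIndex (⊥ : Subgroup G) K M bot_le hKU.hall.1
      rw [Subgroup.relIndex_bot_left, Subgroup.relIndex_bot_left] at h
      rw [mul_comm]; exact h
    have h4 : K.relIndex M = Nat.card (⁅M, M⁆ : Subgroup G) :=
      Nat.eq_of_mul_eq_mul_right Nat.card_pos (h3.trans h1)
    rw [← h4]
    exact h2.symm
  obtain ⟨n, hn, hnK⟩ := Cfsg.Agent.Lib.Helper84_PF8c.complIn_conj hMsol hcop hc hP.W₁_compl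
  refine ⟨n, hn, hnK, ?_⟩
  -- a non-identity element of `K`
  obtain ⟨k, hk1⟩ := Subgroup.ne_bot_iff_exists_ne_one.1 hK1
  have hkK : (k : G) ∈ K := k.2
  have hk1' : (k : G) ≠ 1 := fun h => hk1 (Subtype.ext h)
  have hxW : n * (k : G) * n⁻¹ ∈ W₁ := by
    rw [← hnK]
    exact ⟨(k : G), hkK, by simp [MulAut.conj_apply]⟩
  have hx1 : n * (k : G) * n⁻¹ ≠ 1 := by
    intro h
    apply hk1'
    have : (k : G) = n⁻¹ * (n * (k : G) * n⁻¹) * n := by group
    rw [this, h]; group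
  rw [← hP.W₂_centralizer _ hxW hx1]
  have h54 := (I.h54 M hM K hKU.cyclic hKU.hall).2 hK1 (k : G) hkK hk1'
  have hZ := derived_inf_Z I hM hKU hK1
  ext y
  constructor
  · rintro ⟨c, hc, rfl⟩
    have hcM' : c ∈ ⁅M, M⁆ := h55.2.2.1 hc.1
    refine Subgroup.mem_inf.2 ⟨?_, ?_⟩
    · simp only [MulEquiv.coe_toMonoidHom, MulAut.conj_apply]
      exact conj_mem_commutator hn hcM'
    · rw [Subgroup.mem_centralizer_iff]
      intro z hz
      rw [Set.mem_singleton_iff] at hz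
      rw [hz]
      have hck : (k : G) * c = c * (k : G) := (Subgroup.mem_centralizer_iff.1 hc.2) _ hkK
      simp only [MulEquiv.coe_toMonoidHom, MulAut.conj_apply]
      calc n * (k : G) * n⁻¹ * (n * c * n⁻¹) = n * ((k : G) * c) * n⁻¹ := by group
        _ = n * (c * (k : G)) * n⁻¹ := by rw [hck]
        _ = n * c * n⁻¹ * (n * (k : G) * n⁻¹) := by group
  · rintro ⟨hyM', hyc⟩
    have hy' : n⁻¹ * y * n ∈ ⁅M, M⁆ := by
      have := conj_mem_commutator (M.inv_mem hn) hyM'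
      simpa using this
    have hyk : n⁻¹ * y * n ∈ Subgroup.centralizer ({(k : G)} : Set G) := by
      rw [Subgroup.mem_centralizer_iff]
      intro z hz
      rw [Set.mem_singleton_iff] at hz
      rw [hz]
      have h0 := (Subgroup.mem_centralizer_iff.1 hyc) _ (Set.mem_singleton _)
      calc (k : G) * (n⁻¹ * y * n) = n⁻¹ * ((n * (k : G) * n⁻¹) * y) * n := by group
        _ = n⁻¹ * (y * (n * (k : G) * n⁻¹)) * n := by rw [h0]
        _ = n⁻¹ * y * n * (k : G) := by group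
    have hyM : n⁻¹ * y * n ∈ M := commutator_le_self M hy'
    have h1 : n⁻¹ * y * n ∈ ⁅M, M⁆ ⊓ (K ⊔ kst M K) := by
      refine ⟨hy', ?_⟩
      rw [← h54]
      exact ⟨hyM, hyk⟩
    rw [hZ] at h1
    exact ⟨n⁻¹ * y * n, h1, by simp only [MulEquiv.coe_toMonoidHom, MulAut.conj_apply]; group⟩

/-- the set containing `A₀(M)`: `A(M)` in the `σ`-language together with the `M`-conjugates of `Ẑ` -/
def b0 (M K U : Subgroup G) : Set G := (sigmaA M U \ {1}) ∪ tz M K

theorem typeA_subset_sigmaA (hG : IsMinSimpleOddOrder G) (I : BGIn G) (hM : IsCoatom M)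
    (hKU : IsSigmaDecomposition M K U) : typeA M ⊆ sigmaA M U \ {1} := by
  intro x hx
  have h55 := I.h55 M hM
  unfold typeA at hx
  by_cases hI : IsOfTypeI M
  · rw [if_pos hI] at hx
    obtain ⟨hxM, hx1, y, hy, hy1, hc⟩ := hx
    have hK := K_eq_bot_of_typeI I hM hKU hI
    refine ⟨⟨⟨hxM, y, h55.2.1 hy, hy1, hc⟩, ?_⟩, hx1⟩
    rw [SetLike.mem_coe, sup_eq_of_K_bot hKU hK]
    exact hxM
  · rw [if_neg hI] at hx
    obtain ⟨hxM', hx1, y, hy, hy1, hc⟩ := hx
    rw [typeCore_eq hG I hM hKU] at hy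
    refine ⟨⟨⟨commutator_le_self M hxM', y, hy, hy1, hc⟩, ?_⟩, hx1⟩
    rw [SetLike.mem_coe]
    by_cases hK : K = ⊥
    · rw [sup_eq_of_K_bot hKU hK]
      exact commutator_le_self M hxM'
    · rw [← (I.h65 M hM K U hKU hK).1]
      exact hxM'

theorem typeA0_subset_b0 (hG : IsMinSimpleOddOrder G) (I : BGIn G) (hM : IsCoatom M)
    (hKU : IsSigmaDecomposition M K U) : typeA0 M ⊆ b0 M K U := by
  intro x hx
  rcases hx with hx | hx
  · exact Or.inl (typeA_subset_sigmaA hG I hM hKU hx)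
  · right
    obtain ⟨-, W₁, U', W₂, hP, m, hm, w, hw, hw1, hw2, rfl⟩ := hx
    obtain ⟨hK1, n, hn, hnK, hnKs⟩ := typeP_conj hG I hM hKU hP
    have hsup : W₁ ⊔ W₂ = (K ⊔ kst M K).map (MulAut.conj n).toMonoidHom := by
      rw [Subgroup.map_sup, hnK, hnKs]
    rw [hsup] at hw
    obtain ⟨z, hz, rfl⟩ := hw
    refine ⟨m * n, M.mul_mem hm hn, z, ⟨hz, ?_⟩, ?_⟩
    · rintro (hzK | hzK)
      · apply hw1
        rw [← hnK]
        exact ⟨z, hzK, rfl⟩
      · apply hw2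
        rw [← hnKs]
        exact ⟨z, hzK, rfl⟩
    · simp only [MulEquiv.coe_toMonoidHom, MulAut.conj_apply]
      group

end dec

end Cfsg.Agent.Lib.Helper84_PF8e
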