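import Mathlib
import Cfsg.Prelude.Def_OddOrderLocal
import Cfsg.Prelude.Def_OddOrderChar
import Cfsg.Agent.Lib.Helper84_PF8e
import Cfsg.Agent.Lib.Helper33_BG16a
import Cfsg.Agent.Lib.Helper76_BG13a
import Cfsg.Agent.Lib.Helper76_BG13b
import Cfsg.Agent.Lib.Helper11_BGTypes4
import Cfsg.Agent.Lib.Helper23_SigmaHall

/-!
# Peterfalvi section 8 bookkeeping, part f (helper84)

General lemmas and the centralizer / fusion statements of the tame embedding theorem in the
`σ`-language (for the set `b0 M K U ⊇ A₀(M)`), from the frozen rows bundled in `BGIn`.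
-/

set_option autoImplicit false
set_option linter.unusedVariables false
set_option linter.unusedSectionVars false

open Cfsg

namespace Cfsg.Agent.Lib.Helper84_PF8f

open Cfsg.Agent.Lib.Helper84_PF8Hyp Cfsg.Agent.Lib.Helper84_PF8a Cfsg.Agent.Lib.Helper84_PF8e

/-! ### general lemmas -/

section general

variable {H : Type*} [Group H]

/-- the closure of a commuting pair is commutative -/
theorem comm_of_mem_closure_pair {z w : H} (hzw : z * w = w * z) :
    ∀ a ∈ Subgroup.closure ({z, w} : Set H), ∀ b ∈ Subgroup.closure ({z, w} : Set H),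
      a * b = b * a := by
  have h1 : ({z, w} : Set H) ⊆ Subgroup.centralizer ({z, w} : Set H) := by
    intro a ha
    rw [SetLike.mem_coe, Subgroup.mem_centralizer_iff]
    intro b hb
    rcases ha with rfl | rfl <;> rcases hb with rfl | rfl
    · rfl
    · exact hzw.symm
    · exact hzw
    · rfl
  have h2 : Subgroup.closure ({z, w} : Set H) ≤
      Subgroup.centralizer ((Subgroup.closure ({z, w} : Set H) : Subgroup H) : Set H) := by
    rw [Subgroup.centralizer_closure]
    exact (Subgroup.closure_le _).2 h1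
  intro a ha b hb
  exact ((Subgroup.mem_centralizer_iff.1 (h2 ha)) b hb).symm

/-- in a group of `r`-rank at most one, commuting elements of order dividing `r` generate the same
cyclic group -/
theorem mem_zpowers_of_pRankLE_one [Finite H] {r : ℕ} (hr : r.Prime) (hrank : PRankLE r 1 H)
    {z w : H} (hzw : z * w = w * z) (hz : orderOf z = r) (hw : w ^ r = 1) :
    w ∈ Subgroup.zpowers z := by
  set A := Subgroup.closure ({z, w} : Set H) with hA
  have hcomm := comm_of_mem_closure_pair hzw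
  have hAc : IsMulCommutative A := ⟨⟨fun a b => Subtype.ext (hcomm a a.2 b b.2)⟩⟩
  have hz1 : z ^ r = 1 := by rw [← hz]; exact pow_orderOf_eq_one z
  have hexp : ∀ a ∈ A, a ^ r = 1 := by
    intro a ha
    induction ha using Subgroup.closure_induction with
    | mem x hx =>
      rcases hx with rfl | rfl
      · exact hz1
      · exact hw
    | one => exact one_pow r
    | mul x y hx hy ihx ihy =>
      have hc : Commute x y := hcomm x hx y hy
      rw [hc.mul_pow, ihx, ihy, one_mul]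
    | inv x hx ihx => rw [inv_pow, ihx, inv_one]
  have hcard : Nat.card A ≤ r := by
    have := hrank A hAc hexp
    rwa [pow_one] at this
  have hzA : Subgroup.zpowers z ≤ A := by
    rw [Subgroup.zpowers_le]
    exact Subgroup.subset_closure (Set.mem_insert _ _)
  have hzc : Nat.card (Subgroup.zpowers z) = r := by rw [Nat.card_zpowers, hz]
  have heq : Subgroup.zpowers z = A :=
    Subgroup.eq_of_le_of_card_ge hzA (by rw [hzc]; exact hcard)
  rw [heq]
  exact Subgroup.subset_closure (Set.mem_insert_of_mem _ (Set.mem_singleton _))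

/-- in a group of `r`-rank at most one, any two elements of order `r` generate conjugate
subgroups -/
theorem exists_conj_mem_zpowers [Finite H] {r : ℕ} (hr : r.Prime) (hrank : PRankLE r 1 H)
    {u v : H} (hu : orderOf u = r) (hv : orderOf v = r) :
    ∃ g : H, g * v * g⁻¹ ∈ Subgroup.zpowers u := by
  have : Fact r.Prime := ⟨hr⟩
  have hzu : IsPGroup r (Subgroup.zpowers u) := by
    rw [IsPGroup.iff_card, Nat.card_zpowers, hu]
    exact ⟨1, (pow_one r).symm⟩
  have hzv : IsPGroup r (Subgroup.zpowers v) := by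
    rw [IsPGroup.iff_card, Nat.card_zpowers, hv]
    exact ⟨1, (pow_one r).symm⟩
  obtain ⟨P, hP⟩ := hzu.exists_le_sylow
  obtain ⟨Q, hQ⟩ := hzv.exists_le_sylow
  obtain ⟨g, hg⟩ := MulAction.exists_smul_eq H Q P
  have huP : u ∈ (P : Subgroup H) := hP (Subgroup.mem_zpowers u)
  have hvP : g * v * g⁻¹ ∈ (P : Subgroup H) := by
    rw [← hg, Sylow.coe_subgroup_smul, Subgroup.mem_pointwise_smul_iff_inv_smul_mem]
    have : (MulAut.conj g)⁻¹ • (g * v * g⁻¹) = v := by
      rw [MulAut.smul_def, ← map_inv, MulAut.conj_apply]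
      group
    rw [this]
    exact hQ (Subgroup.mem_zpowers v)
  -- a central element of order `r` of `P`
  have hPnt : Nontrivial (P : Subgroup H) := by
    refine ⟨⟨⟨u, huP⟩, 1, ?_⟩⟩
    intro h
    have h1 : u = 1 := congrArg Subtype.val h
    rw [h1, orderOf_one] at hu
    exact hr.one_lt.ne hu
  have hcnt : Nontrivial (Subgroup.center (P : Subgroup H)) := P.2.center_nontrivial
  have hcard : r ∣ Nat.card (Subgroup.center (P : Subgroup H)) := by
    obtain ⟨n, hn⟩ := IsPGroup.iff_card.1 (P.2.to_subgroup (Subgroup.center (P : Subgroup H)))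
    have hn0 : n ≠ 0 := by
      rintro rfl
      rw [pow_zero] at hn
      have := (Subgroup.card_eq_one.1 hn)
      exact (Subgroup.nontrivial_iff_ne_bot _).1 hcnt this
    rw [hn]
    exact dvd_pow_self r hn0
  obtain ⟨z, hz⟩ := exists_prime_orderOf_dvd_card' r hcard
  set z' : H := ((z : (P : Subgroup H)) : H) with hz'
  have hz'o : orderOf z' = r := by
    rw [hz', Subgroup.orderOf_coe, Subgroup.orderOf_coe]
    exact hz
  have hzcomm : ∀ x : H, x ∈ (P : Subgroup H) → z' * x = x * z' := by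
    intro x hx
    have h1 := (Subgroup.mem_center_iff.1 z.2) ⟨x, hx⟩
    have h2 := congrArg Subtype.val h1
    simpa [hz'] using h2.symm
  have hu1 : u ^ r = 1 := by rw [← hu]; exact pow_orderOf_eq_one u
  have hv1 : (g * v * g⁻¹) ^ r = 1 := by
    rw [conj_pow, ← hv, pow_orderOf_eq_one]
    group
  have h1 := mem_zpowers_of_pRankLE_one hr hrank (hzcomm u huP) hz'o hu1
  have h2 := mem_zpowers_of_pRankLE_one hr hrank (hzcomm _ hvP) hz'o hv1
  -- `⟨u⟩ = ⟨z'⟩`
  have heq : Subgroup.zpowers u = Subgroup.zpowers z' := by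
    apply Subgroup.eq_of_le_of_card_ge ((Subgroup.zpowers_le).2 h1)
    rw [Nat.card_zpowers, Nat.card_zpowers, hu, hz'o]
  exact ⟨g, heq ▸ h2⟩

end general

variable {G : Type*} [Group G] [Finite G]

/-- In a simple group, a nonempty `M`-invariant set of non-identity elements of a maximal
subgroup `M` has set normalizer `M`. -/
theorem normalizer_eq_of_invariant (hG : IsMinSimpleOddOrder G) {M : Subgroup G} (hM : IsCoatom M)
    {B : Set G} (hBM : B ⊆ (M : Set G)) (h1 : (1 : G) ∉ B) (hne : B.Nonempty)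
    (hinv : ∀ m ∈ M, ∀ b ∈ B, m * b * m⁻¹ ∈ B) : Subgroup.normalizer B = M := by
  have hle : M ≤ Subgroup.normalizer B := by
    intro m hm
    rw [Subgroup.mem_set_normalizer_iff]
    intro n
    constructor
    · intro hn
      exact hinv m hm n hn
    · intro hn
      have := hinv m⁻¹ (M.inv_mem hm) _ hn
      have h2 : m⁻¹ * (m * n * m⁻¹) * m⁻¹⁻¹ = n := by group
      rwa [h2] at this
  rcases hM.le_iff.1 hle with h | h
  · exfalso
    have : IsSimpleGroup G := hG.2.1
    obtain ⟨a, haB⟩ := hne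
    have hnorm : (Subgroup.closure B).Normal := by
      constructor
      intro n hn g
      have hg : g ∈ Subgroup.normalizer B := by rw [h]; exact Subgroup.mem_top g
      have hmap : (Subgroup.closure B).map (MulAut.conj g).toMonoidHom ≤ Subgroup.closure B := by
        rw [MonoidHom.map_closure, Subgroup.closure_le]
        rintro _ ⟨y, hy, rfl⟩
        apply Subgroup.subset_closure
        exact ((Subgroup.mem_set_normalizer_iff.1 hg) y).1 hy
      have : (MulAut.conj g) n ∈ (Subgroup.closure B).map (MulAut.conj g).toMonoidHom :=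
        ⟨n, hn, rfl⟩
      simpa [MulAut.conj_apply] using hmap this
    rcases hnorm.eq_bot_or_eq_top with h' | h'
    · have : a ∈ Subgroup.closure B := Subgroup.subset_closure haB
      rw [h', Subgroup.mem_bot] at this
      exact h1 (this ▸ haB)
    · have h2 : Subgroup.closure B ≤ M := (Subgroup.closure_le M).2 hBM
      rw [h'] at h2
      exact hM.1 (top_le_iff.1 h2)
  · exact h

section dec

variable {M K U : Subgroup G}

/-- `U` is a complement of `M_σ` in `U M_σ` -/
theorem isComplIn_U (I : BGIn G) (hM : IsCoatom M) (hKU : IsSigmaDecomposition M K U) :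
    IsComplIn U (sigmaCore M) (U ⊔ sigmaCore M) := by
  have hσN := Cfsg.Agent.Lib.Helper78_SigmaDecomp.le_normalizer_sigmaCore M
  have hUM := Cfsg.Agent.Lib.Helper78_SigmaDecomp.U_le hKU
  refine ⟨le_sup_left, le_sup_right, Cfsg.Agent.Lib.Helper78_SigmaDecomp.U_inf_sigmaCore hKU, ?_⟩
  intro m hm
  have hm' : m⁻¹ ∈ U ⊔ sigmaCore M := inv_mem hm
  obtain ⟨s, hs, u, hu, h⟩ :=
    Cfsg.Agent.Lib.Helper39_BGBasic.exists_mul_of_mem_sup (hUM.trans hσN) hm'
  refine ⟨u⁻¹, inv_mem hu, s⁻¹, inv_mem hs, ?_⟩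
  have : m = (m⁻¹)⁻¹ := by group
  rw [this, h]; group

theorem card_sup (I : BGIn G) (hM : IsCoatom M) (hKU : IsSigmaDecomposition M K U) :
    Nat.card ↥(U ⊔ sigmaCore M) = Nat.card U * Nat.card (sigmaCore M) :=
  Cfsg.Agent.Lib.Helper78_SigmaDecomp.card_of_isComplIn (isComplIn_U I hM hKU)

theorem sup_le_M (hKU : IsSigmaDecomposition M K U) : U ⊔ sigmaCore M ≤ M :=
  sup_le (Cfsg.Agent.Lib.Helper78_SigmaDecomp.U_le hKU)
    (Cfsg.Agent.Lib.Helper78_SigmaDecomp.sigmaCore_le M)

/-- an element of `M` whose order divides a power-free multiple of `|M_σ|` lies in `M_σ` -/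
theorem mem_sigmaCore_of_pow (I : BGIn G) (hM : IsCoatom M) {x : G} (hxM : x ∈ M)
    (hx : x ^ Nat.card (sigmaCore M) = 1) : x ∈ sigmaCore M := by
  apply Cfsg.Agent.Lib.Helper11_BGTypes4.mem_sigmaCore_of_orderOf (hall I hM) hxM
  intro p hp hpd
  exact (hall I hM).2.1 p hp (hpd.trans (orderOf_dvd_of_pow_eq_one hx))

/-- an element of `M` conjugate in `G` to an element of `M_σ` lies in `M_σ` -/
theorem mem_sigmaCore_of_conj (I : BGIn G) (hM : IsCoatom M) {x : G} (hx : x ∈ sigmaCore M)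
    {g : G} (hg : g * x * g⁻¹ ∈ M) : g * x * g⁻¹ ∈ sigmaCore M := by
  apply mem_sigmaCore_of_pow I hM hg
  rw [conj_pow]
  have : x ^ Nat.card (sigmaCore M) = 1 := by
    have := pow_card_eq_one' (G := sigmaCore M) (x := ⟨x, hx⟩)
    exact congrArg Subtype.val this
  rw [this]; group

/-- the `σ(M)'`-part `x ^ |M_σ|` of an element `x` of `U M_σ` outside `M_σ` -/
theorem sigma'_part (I : BGIn G) (hM : IsCoatom M) (hKU : IsSigmaDecomposition M K U) {x : G}
    (hxD : x ∈ U ⊔ sigmaCore M) (hxσ : x ∉ sigmaCore M) :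
    x ^ Nat.card (sigmaCore M) ≠ 1 ∧
      orderOf (x ^ Nat.card (sigmaCore M)) ∣ Nat.card U := by
  refine ⟨fun h => hxσ (mem_sigmaCore_of_pow I hM (sup_le_M hKU hxD) h), ?_⟩
  apply orderOf_dvd_of_pow_eq_one
  rw [← pow_mul, mul_comm, ← card_sup I hM hKU]
  have := pow_card_eq_one' (G := ↥(U ⊔ sigmaCore M)) (x := ⟨x, hxD⟩)
  exact congrArg Subtype.val this

/-- **centralizers of the elements of `A(M)` outside `M_σ` lie in `M`** -/
theorem cent_le_of_sigmaA (hG : IsMinSimpleOddOrder G) (I : BGIn G) (hM : IsCoatom M)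
    (hKU : IsSigmaDecomposition M K U) {x : G} (hx : x ∈ sigmaA M U) (hxσ : x ∉ sigmaCore M) :
    Subgroup.centralizer ({x} : Set G) ≤ M := by
  obtain ⟨⟨hxM, y, hyσ, hy1, hxy⟩, hxD⟩ := hx
  have hxD : x ∈ U ⊔ sigmaCore M := hxD
  have hH := hall I hM
  set a := Nat.card (sigmaCore M) with ha
  obtain ⟨hxa1, hxao⟩ := sigma'_part I hM hKU hxD hxσ
  set X := Subgroup.zpowers (x ^ a) with hX
  have hDM := sup_le_M hKU
  have hXD : X ≤ U ⊔ sigmaCore M := by
    rw [hX, Subgroup.zpowers_le]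
    exact pow_mem hxD a
  have hT : ∀ q : ℕ, q.Prime → q ∣ Nat.card X → q ∉ sigma M := by
    intro q hq hqd
    rw [hX, Nat.card_zpowers] at hqd
    exact (Cfsg.Agent.Lib.Helper78_SigmaDecomp.not_mem_of_dvd_card_U hKU hH hq
      (hqd.trans hxao)).1
  have hN : IsPiHallOf (sigma M) (sigmaCore M) (U ⊔ sigmaCore M) := by
    refine ⟨le_sup_right, hH.2.1, ?_⟩
    intro p hp hpσ hd
    apply hH.2.2 p hp hpσ
    have := Subgroup.relIndex_mul_relIndex (sigmaCore M) (U ⊔ sigmaCore M) M le_sup_right hDM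
    exact hd.trans (Dvd.intro _ this)
  have hsolvD : Group.IsSolvable ↥(U ⊔ sigmaCore M) :=
    Cfsg.Agent.Lib.Helper11_BGTypes3.solvable_of_le_coatom hG hM hDM
  obtain ⟨g, hgD, hgU⟩ := Cfsg.Agent.Lib.Helper76_BG13a.exists_cj_le_compl hsolvD hN
    (isComplIn_U I hM hKU) hXD hT
  have hgM : g ∈ M := hDM hgD
  set X1 := X.map (MulAut.conj g).toMonoidHom with hX1
  have hX1U : X1 ≤ U := hgU
  have hmemX1 : g * x ^ a * g⁻¹ ∈ X1 := ⟨x ^ a, Subgroup.mem_zpowers _, rfl⟩
  have hX1ne : X1 ≠ ⊥ := by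
    intro h
    rw [h, Subgroup.mem_bot] at hmemX1
    apply hxa1
    have : x ^ a = g⁻¹ * (g * x ^ a * g⁻¹) * g := by group
    rw [this, hmemX1]; group
  -- elements commuting with `x` commute with `X`
  have hcX : ∀ c : G, x * c = c * x → ∀ w ∈ X, w * c = c * w := by
    intro c hc w hw
    obtain ⟨k, rfl⟩ := Subgroup.mem_zpowers_iff.1 hw
    have h1 : Commute x c := hc
    exact ((h1.pow_left a).zpow_left k).eq
  have hX1c : sigmaCore M ⊓ Subgroup.centralizer (X1 : Set G) ≠ ⊥ := by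
    intro h
    have h1 : g * y * g⁻¹ ∈ sigmaCore M ⊓ Subgroup.centralizer (X1 : Set G) := by
      refine Subgroup.mem_inf.2 ⟨Cfsg.Agent.Lib.Helper33_BG16a.conj_mem_sigmaCore hgM hyσ, ?_⟩
      rw [Subgroup.mem_centralizer_iff]
      rintro _ ⟨w, hw, rfl⟩
      have h2 := hcX y hxy w hw
      simp only [MulEquiv.coe_toMonoidHom, MulAut.conj_apply]
      calc g * w * g⁻¹ * (g * y * g⁻¹) = g * (w * y) * g⁻¹ := by group
        _ = g * (y * w) * g⁻¹ := by rw [h2]
        _ = g * y * g⁻¹ * (g * w * g⁻¹) := by group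
    rw [h, Subgroup.mem_bot] at h1
    apply hy1
    have : y = g⁻¹ * (g * y * g⁻¹) * g := by group
    rw [this, h1]; group
  have h61 := (I.h61 M hM K U hKU X1 hX1U hX1ne hX1c).1
  intro c hc
  have hxc : x * c = c * x :=
    ((Subgroup.mem_centralizer_iff.1 hc) x (Set.mem_singleton x))
  have h3 : g * c * g⁻¹ ∈ Subgroup.centralizer (X1 : Set G) := by
    rw [Subgroup.mem_centralizer_iff]
    rintro _ ⟨w, hw, rfl⟩
    have h2 := hcX c hxc w hw
    simp only [MulEquiv.coe_toMonoidHom, MulAut.conj_apply]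
    calc g * w * g⁻¹ * (g * c * g⁻¹) = g * (w * c) * g⁻¹ := by group
      _ = g * (c * w) * g⁻¹ := by rw [h2]
      _ = g * c * g⁻¹ * (g * w * g⁻¹) := by group
  have h4 := h61 h3
  have : c = g⁻¹ * (g * c * g⁻¹) * g := by group
  rw [this]
  exact M.mul_mem (M.mul_mem (M.inv_mem hgM) h4) hgM

/-- `Z = K K* ≤ M` -/
theorem Z_le (hKU : IsSigmaDecomposition M K U) : K ⊔ kst M K ≤ M :=
  sup_le hKU.hall.1 (inf_le_left.trans (Cfsg.Agent.Lib.Helper78_SigmaDecomp.sigmaCore_le M))

/-- if `tz M K` is nonempty then `K ≠ 1` -/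
theorem K_ne_bot_of_mem_zhat {z : G} (hz : z ∈ zhat M K) : K ≠ ⊥ := by
  rintro rfl
  obtain ⟨h1, h2⟩ := hz
  rw [SetLike.mem_coe, bot_sup_eq] at h1
  exact h2 (Or.inr h1)

/-- **centralizers of the `M`-conjugates of the elements of `Ẑ` lie in `M`** -/
theorem cent_le_of_tz (I : BGIn G) (hM : IsCoatom M) (hKU : IsSigmaDecomposition M K U) {x : G}
    (hx : x ∈ tz M K) : Subgroup.centralizer ({x} : Set G) ≤ M := by
  obtain ⟨m, hm, z, hz, rfl⟩ := hx
  have hK1 := K_ne_bot_of_mem_zhat hz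
  obtain ⟨hTI, hN⟩ := I.h70 M hM K U hKU hK1
  have hz1 : z ≠ 1 := by
    rintro rfl
    exact hz.2 (Or.inl (one_mem K))
  intro c hc
  have hc' : (m * z * m⁻¹) * c = c * (m * z * m⁻¹) :=
    ((Subgroup.mem_centralizer_iff.1 hc) _ (Set.mem_singleton _))
  set c' := m⁻¹ * c * m with hc'def
  have hcz : c' * z * c'⁻¹ = z := by
    have h1 : c' * z * c'⁻¹ = m⁻¹ * (c * (m * z * m⁻¹) * c⁻¹) * m := by
      rw [hc'def]; group
    rw [h1, ← hc']; group
  have hmem : c' ∈ Subgroup.normalizer (zhat M K) := by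
    by_contra hnot
    exact hz1 (hTI c' hnot z hz (by rw [hcz]; exact hz))
  rw [hN] at hmem
  have h2 : c' ∈ M := Z_le hKU hmem
  have : c = m * c' * m⁻¹ := by rw [hc'def]; group
  rw [this]
  exact M.mul_mem (M.mul_mem hm h2) (M.inv_mem hm)

/-- **the centralizer of an element of `b0` outside `M_σ` lies in `M`** -/
theorem cent_le_of_b0 (hG : IsMinSimpleOddOrder G) (I : BGIn G) (hM : IsCoatom M)
    (hKU : IsSigmaDecomposition M K U) {x : G} (hx : x ∈ b0 M K U) (hxσ : x ∉ sigmaCore M) :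
    Subgroup.centralizer ({x} : Set G) ≤ M := by
  rcases hx with hx | hx
  · exact cent_le_of_sigmaA hG I hM hKU hx.1 hxσ
  · exact cent_le_of_tz I hM hKU hx

/-! ### fusion -/

theorem M_ne_bot (I : BGIn G) (hM : IsCoatom M) : M ≠ ⊥ := by
  intro h
  apply (I.h55 M hM).1
  rw [eq_bot_iff, ← h]
  exact fittingHallOf_le M

theorem mem_normalizer_of_map_eq {n : G} (h : M.map (MulAut.conj n).toMonoidHom = M) :
    n ∈ Subgroup.normalizer (M : Set G) := by
  rw [Subgroup.mem_normalizer_iff]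
  intro x
  constructor
  · intro hx
    rw [← h]
    exact ⟨x, hx, rfl⟩
  · intro hx
    rw [← h] at hx
    obtain ⟨y, hy, hyx⟩ := hx
    simp only [MulEquiv.coe_toMonoidHom, MulAut.conj_apply] at hyx
    have : y = x := by
      have h1 : y = n⁻¹ * (n * y * n⁻¹) * n := by group
      rw [h1, hyx]; group
    exact this ▸ hy

/-- two elements of `M_σ` conjugate in `G` are conjugate in `M` -/
theorem fusion_sigmaCore (hG : IsMinSimpleOddOrder G) (I : BGIn G) (hM : IsCoatom M) {a : G}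
    (ha : a ∈ sigmaCore M) (ha1 : a ≠ 1) {g : G} (hg : g * a * g⁻¹ ∈ M) :
    ∃ m ∈ M, m * a * m⁻¹ = g * a * g⁻¹ := by
  obtain ⟨-, R, -, hcompl, huniq⟩ := I.h74 M hM a ha ha1
  have hmem : a ∈ M.map (MulAut.conj g⁻¹).toMonoidHom := by
    refine ⟨g * a * g⁻¹, hg, ?_⟩
    simp only [MulEquiv.coe_toMonoidHom, MulAut.conj_apply]
    group
  obtain ⟨r, ⟨hrR, hr⟩, -⟩ := huniq g⁻¹ hmem
  have hmap : M.map (MulAut.conj (g * r)).toMonoidHom = M := by
    have h1 : M.map (MulAut.conj (g * r)).toMonoidHom =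
        (M.map (MulAut.conj r).toMonoidHom).map (MulAut.conj g).toMonoidHom := by
      rw [Subgroup.map_map]
      congr 1
      ext x
      simp [MulAut.conj_apply, mul_assoc]
    rw [h1, hr, Subgroup.map_map]
    have h2 : ((MulAut.conj g).toMonoidHom.comp (MulAut.conj g⁻¹).toMonoidHom) = MonoidHom.id G := by
      ext x
      simp [MulAut.conj_apply, mul_assoc]
    rw [h2, Subgroup.map_id]
  have hgr : g * r ∈ M := by
    have := mem_normalizer_of_map_eq hmap
    rwa [Cfsg.Agent.Lib.Helper33_BG16a.normalizer_eq_of_isCoatom hG hM (M_ne_bot I hM)] at this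
  refine ⟨g * r, hgr, ?_⟩
  have hrc : r ∈ Subgroup.centralizer ({a} : Set G) := hcompl.2.1 hrR
  have hra : a * r = r * a := (Subgroup.mem_centralizer_iff.1 hrc) a (Set.mem_singleton a)
  calc g * r * a * (g * r)⁻¹ = g * (r * a) * r⁻¹ * g⁻¹ := by group
    _ = g * (a * r) * r⁻¹ * g⁻¹ := by rw [hra]
    _ = g * a * g⁻¹ := by group

/-- `[M : K] = |U| |M_σ|` -/
theorem relIndex_K (I : BGIn G) (hM : IsCoatom M) (hKU : IsSigmaDecomposition M K U) :
    K.relIndex M = Nat.card U * Nat.card (sigmaCore M) := by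
  have h1 := Cfsg.Agent.Lib.Helper78_SigmaDecomp.card_M hKU (hall I hM)
  have h3 : K.relIndex M * Nat.card K = Nat.card M := by
    have h := Subgroup.relIndex_mul_relIndex (⊥ : Subgroup G) K M bot_le hKU.hall.1
    rw [Subgroup.relIndex_bot_left, Subgroup.relIndex_bot_left] at h
    rw [mul_comm]; exact h
  apply Nat.eq_of_mul_eq_mul_right (Nat.card_pos (α := K))
  rw [h3, h1]; ring

theorem pow_card_eq_one_of_mem_sup (I : BGIn G) (hM : IsCoatom M)
    (hKU : IsSigmaDecomposition M K U) {x : G} (hx : x ∈ U ⊔ sigmaCore M) :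
    x ^ (Nat.card U * Nat.card (sigmaCore M)) = 1 := by
  rw [← card_sup I hM hKU]
  have := pow_card_eq_one' (G := ↥(U ⊔ sigmaCore M)) (x := ⟨x, hx⟩)
  exact congrArg Subtype.val this

theorem pow_card_ne_one_of_mem_tz (I : BGIn G) (hM : IsCoatom M)
    (hKU : IsSigmaDecomposition M K U) {x : G} (hx : x ∈ tz M K) :
    x ^ (Nat.card U * Nat.card (sigmaCore M)) ≠ 1 := by
  obtain ⟨m, hm, z, hz, rfl⟩ := hx
  intro h
  set n := Nat.card U * Nat.card (sigmaCore M) with hn
  have hzn : z ^ n = 1 := by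
    rw [conj_pow] at h
    have : z ^ n = m⁻¹ * (m * z ^ n * m⁻¹) * m := by group
    rw [this, h]; group
  obtain ⟨hzZ, hznot⟩ := hz
  obtain ⟨c, hc, k, hk, rfl⟩ := Cfsg.Agent.Lib.Helper39_BGBasic.exists_mul_of_mem_sup
    (Cfsg.Agent.Lib.Helper11_BGTypes.K_le_normalizer_Kstar M K) hzZ
  have hck : Commute c k := ((Subgroup.mem_centralizer_iff.1 hc.2) k hk).symm
  have hk1 : k ≠ 1 := by
    rintro rfl
    rw [mul_one] at hznot
    exact hznot (Or.inr hc)
  rw [hck.mul_pow] at hzn
  have hkn : k ^ n ∈ K ⊓ sigmaCore M := by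
    refine Subgroup.mem_inf.2 ⟨K.pow_mem hk n, ?_⟩
    have : k ^ n = (c ^ n)⁻¹ := eq_inv_of_mul_eq_one_right hzn
    rw [this]
    exact (sigmaCore M).inv_mem ((sigmaCore M).pow_mem hc.1 n)
  rw [Cfsg.Agent.Lib.Helper78_SigmaDecomp.K_inf_sigmaCore hKU (hall I hM), Subgroup.mem_bot] at hkn
  have h1 : orderOf k ∣ n := orderOf_dvd_of_pow_eq_one hkn
  have h2 : orderOf k ∣ Nat.card K := by
    have := orderOf_dvd_natCard (⟨k, hk⟩ : K)
    rwa [Subgroup.orderOf_mk] at this
  have h3 : (Nat.card K).Coprime n := by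
    rw [hn, ← relIndex_K I hM hKU]
    exact K_hall hKU
  have h4 : orderOf k = 1 := Nat.eq_one_of_dvd_coprimes h3 h2 h1
  exact hk1 (orderOf_eq_one_iff.1 h4)

theorem sigmaA_subset_M : sigmaA M U ⊆ (M : Set G) := fun x hx => hx.1.1

theorem tz_subset_M (hKU : IsSigmaDecomposition M K U) : tz M K ⊆ (M : Set G) := by
  rintro _ ⟨m, hm, z, hz, rfl⟩
  exact M.mul_mem (M.mul_mem hm (Z_le hKU hz.1)) (M.inv_mem hm)

theorem b0_subset_M (hKU : IsSigmaDecomposition M K U) : b0 M K U ⊆ (M : Set G) := by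
  rintro x (hx | hx)
  · exact sigmaA_subset_M hx.1
  · exact tz_subset_M hKU hx

theorem one_not_mem_tz : (1 : G) ∉ tz M K := by
  rintro ⟨m, hm, z, hz, h⟩
  have hz1 : z = 1 := by
    have : z = m⁻¹ * (m * z * m⁻¹) * m := by group
    rw [this, ← h]; group
  rw [hz1] at hz
  exact hz.2 (Or.inl (one_mem K))

theorem one_not_mem_b0 : (1 : G) ∉ b0 M K U := by
  rintro (h | h)
  · exact h.2 rfl
  · exact one_not_mem_tz h

theorem conj_mem_tz {m x : G} (hm : m ∈ M) (hx : x ∈ tz M K) : m * x * m⁻¹ ∈ tz M K := by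
  obtain ⟨m', hm', z, hz, rfl⟩ := hx
  exact ⟨m * m', M.mul_mem hm hm', z, hz, by group⟩

/-- **fusion in `b0` is controlled by `M`** -/
theorem fusion_b0 (hG : IsMinSimpleOddOrder G) (I : BGIn G) (hM : IsCoatom M)
    (hKU : IsSigmaDecomposition M K U) {a : G} (ha : a ∈ b0 M K U) {g : G}
    (hg : g * a * g⁻¹ ∈ b0 M K U) : ∃ m ∈ M, m * a * m⁻¹ = g * a * g⁻¹ := by
  have ha1 : a ≠ 1 := fun h => one_not_mem_b0 (h ▸ ha)
  by_cases haσ : a ∈ sigmaCore M
  · exact fusion_sigmaCore hG I hM haσ ha1 (b0_subset_M hKU hg)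
  · have hbσ : g * a * g⁻¹ ∉ sigmaCore M := by
      intro hb
      apply haσ
      have h1 : g⁻¹ * (g * a * g⁻¹) * g⁻¹⁻¹ ∈ sigmaCore M := by
        apply mem_sigmaCore_of_conj I hM hb
        have : g⁻¹ * (g * a * g⁻¹) * g⁻¹⁻¹ = a := by group
        rw [this]
        exact b0_subset_M hKU ha
      have : g⁻¹ * (g * a * g⁻¹) * g⁻¹⁻¹ = a := by group
      rwa [this] at h1
    -- `g ∈ M` in all cases
    suffices hgM : g ∈ M from ⟨g, hgM, rfl⟩
    rcases ha with ha | ha <;> rcases hg with hg | hg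
    · -- both in `A(M) ∖ M_σ`
      set B := sigmaA M U \ (sigmaCore M : Set G) with hB
      have haB : a ∈ B := ⟨ha.1, haσ⟩
      have hgB : g * a * g⁻¹ ∈ B := ⟨hg.1, hbσ⟩
      have hN : Subgroup.normalizer B = M := by
        apply normalizer_eq_of_invariant hG hM
        · exact fun x hx => sigmaA_subset_M hx.1
        · exact fun h => h.2 (one_mem _)
        · exact ⟨a, haB⟩
        · intro m hm b hb
          exact Cfsg.Agent.Lib.Helper33_BG16a.sigmaA_diff_conj hKU hm hb
      by_contra hgM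
      rw [← hN] at hgM
      exact ha1 (I.h62 M hM K U hKU g hgM a haB hgB)
    · exfalso
      have h1 := pow_card_eq_one_of_mem_sup I hM hKU ha.1.2
      apply pow_card_ne_one_of_mem_tz I hM hKU hg
      rw [conj_pow, h1]; group
    · exfalso
      have h1 := pow_card_eq_one_of_mem_sup I hM hKU hg.1.2
      apply pow_card_ne_one_of_mem_tz I hM hKU ha
      rw [conj_pow] at h1
      have : a ^ (Nat.card U * Nat.card (sigmaCore M)) =
          g⁻¹ * (g * a ^ (Nat.card U * Nat.card (sigmaCore M)) * g⁻¹) * g := by group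
      rw [this, h1]; group
    · -- both in `tz`
      obtain ⟨m0, hm0, z0, hz0, -⟩ := id ha
      have hK1 := K_ne_bot_of_mem_zhat hz0
      obtain ⟨heq, hTI⟩ := I.h71 M hM K U hKU hK1
      have hTI' : IsTISubset (tz M K) := by
        have : tz M K = sigmaA0 M K \ sigmaA M U := heq
        rw [this]; exact hTI
      have hN : Subgroup.normalizer (tz M K) = M := by
        apply normalizer_eq_of_invariant hG hM (tz_subset_M hKU) one_not_mem_tz ⟨a, ha⟩
        intro m hm b hb
        exact conj_mem_tz hm hb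
      by_contra hgM
      rw [← hN] at hgM
      exact ha1 (hTI' g hgM a ha hg)

end dec

end Cfsg.Agent.Lib.Helper84_PF8f
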