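import Mathlib
import Cfsg.Prelude.Def_OddOrderLocal
import Cfsg.Prelude.Def_OddOrderChar
import Cfsg.Agent.Lib.Helper84_PF8d
import Cfsg.Agent.Lib.Helper84_PF8f
import Cfsg.Agent.Lib.Helper49_SigmaDisjoint
import Cfsg.Agent.Lib.Helper25_BG14a
import Cfsg.Agent.Lib.Helper11_BGTypes2

/-!
# Peterfalvi section 8 bookkeeping, part g (helper84)

The hypothesis `TameAt M` of `Helper84_PF8d` from the frozen `σ`-language rows bundled in `BGIn`
(and the Uniqueness Theorem S1403), hence the conclusions of the frozen rows S1537 and S1538.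
-/

set_option autoImplicit false
set_option linter.unusedVariables false
set_option linter.unusedSectionVars false

open Cfsg

namespace Cfsg.Agent.Lib.Helper84_PF8g

open Cfsg.Agent.Lib.Helper84_PF8Hyp Cfsg.Agent.Lib.Helper84_PF8a Cfsg.Agent.Lib.Helper84_PF8d
  Cfsg.Agent.Lib.Helper84_PF8e Cfsg.Agent.Lib.Helper84_PF8f

variable {G : Type*} [Group G] [Finite G]

section dec

variable {M K U : Subgroup G}

/-- if `κ(M) = ∅ = τ₂(M)`, no element of `M` of prime order `r ∉ σ(M)` centralizes a non-identity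
element of `M_σ` -/
theorem not_mem_sigmaHat_of_prime (hG : IsMinSimpleOddOrder G) (I : BGIn G) (hM : IsCoatom M)
    (hKU : IsSigmaDecomposition M K U) (hκ : kappa M = ∅) (hτ : tau2 M = ∅) {v : G} (hvM : v ∈ M)
    {r : ℕ} (hr : r.Prime) (hrσ : r ∉ sigma M) (hv : orderOf v = r) : v ∉ sigmaHat M := by
  intro hvH
  have hU' := Cfsg.Agent.Lib.Helper49_SigmaDisjoint.uniqHyp hG
  have hH := hall I hM
  have hK : K = ⊥ := by
    by_contra hK1
    have := Cfsg.Agent.Lib.Helper11_BGTypes.sd_kappa_nonempty hKU hK1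
    rw [hκ] at this
    exact Set.not_nonempty_empty this
  have hsup := sup_eq_of_K_bot hKU hK
  -- `r` divides `|U|`
  have hcard : Nat.card M = Nat.card U * Nat.card (sigmaCore M) := by
    rw [← card_sup I hM hKU, hsup]
  have hrM : r ∣ Nat.card M := by
    have := orderOf_dvd_natCard (⟨v, hvM⟩ : M)
    rwa [Subgroup.orderOf_mk, hv] at this
  have hrU : r ∣ Nat.card U := by
    rw [hcard] at hrM
    rcases (Nat.Prime.dvd_mul hr).1 hrM with h | h
    · exact h
    · exact absurd (hH.2.1 r hr h) hrσ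
  -- rank one
  have hrank2 : PRankLE r 2 ↥M :=
    Cfsg.Agent.Lib.Helper23_SigmaHall.pRankLE_of_not_mem_sigma hG hU' hM hr hrσ
  have hrank1 : PRankLE r 1 ↥M := by
    by_contra h
    have : r ∈ tau2 M := ⟨hr, hrσ, hrank2, h⟩
    rw [hτ] at this
    exact this
  obtain ⟨U₀, hU₀U, hexp, hfree⟩ := I.h60 M hM K U hKU
  have : Fact r.Prime := ⟨hr⟩
  have hrexp : r ∣ Monoid.exponent U := by
    obtain ⟨u, hu⟩ := exists_prime_orderOf_dvd_card' r hrU
    rw [← hu]
    exact Monoid.order_dvd_exponent u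
  have hrU₀ : r ∣ Nat.card U₀ := by
    rw [← hexp] at hrexp
    exact hrexp.trans Group.exponent_dvd_nat_card
  obtain ⟨u₀, hu₀⟩ := exists_prime_orderOf_dvd_card' r hrU₀
  have hUM := Cfsg.Agent.Lib.Helper78_SigmaDecomp.U_le hKU
  have hu₀M : (u₀ : G) ∈ M := hUM (hU₀U u₀.2)
  have ho1 : orderOf (⟨(u₀ : G), hu₀M⟩ : M) = r := by
    rw [Subgroup.orderOf_mk, Subgroup.orderOf_coe]; exact hu₀
  have ho2 : orderOf (⟨v, hvM⟩ : M) = r := by
    rw [Subgroup.orderOf_mk]; exact hv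
  obtain ⟨g, hg⟩ := exists_conj_mem_zpowers hr hrank1 ho1 ho2
  have hgU₀ : (g : G) * v * (g : G)⁻¹ ∈ U₀ := by
    obtain ⟨k, hk⟩ := Subgroup.mem_zpowers_iff.1 hg
    have h1 := congrArg (Subtype.val : M → G) hk
    have h2 : (g : G) * v * (g : G)⁻¹ = (u₀ : G) ^ k := by
      simpa using h1.symm
    rw [h2]
    exact U₀.zpow_mem u₀.2 k
  have hgH : (g : G) * v * (g : G)⁻¹ ∈ sigmaHat M :=
    Cfsg.Agent.Lib.Helper33_BG16a.sigmaHat_conj g.2 hvH
  have h1 := hfree _ hgU₀ hgH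
  have hv1 : v = 1 := by
    have : v = (g : G)⁻¹ * ((g : G) * v * (g : G)⁻¹) * (g : G) := by group
    rw [this, h1]; group
  rw [hv1, orderOf_one] at hv
  exact hr.one_lt.ne hv

/-- **coprimality in the tame embedding theorem** -/
theorem coprime_of_cent (hG : IsMinSimpleOddOrder G) (I : BGIn G) (hM : IsCoatom M)
    (hKU : IsSigmaDecomposition M K U) {N : Subgroup G} (hN : IsCoatom N) {x : G}
    (hx : x ∈ sigmaCore M) (hx1 : x ≠ 1) (hxM : ¬ Subgroup.centralizer ({x} : Set G) ≤ M)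
    (hxN : Subgroup.centralizer ({x} : Set G) ≤ N) (hxσN : x ∉ sigmaCore N)
    (hnil : Group.IsNilpotent ↥(sigmaCore N)) {y : G} (hy : y ∈ b0 M K U) :
    (Nat.card (sigmaCore N)).Coprime (Nat.card ↥(M ⊓ Subgroup.centralizer ({y} : Set G))) := by
  apply Nat.coprime_of_dvd
  intro p hp h1 h2
  have : Fact p.Prime := ⟨hp⟩
  have hH := hall I hM
  have hpσN : p ∈ sigma N := (hall I hN).2.1 p hp h1
  have hpM : p ∣ Nat.card M := h2.trans (Subgroup.card_dvd_of_le inf_le_left)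
  obtain ⟨hκ, hτ⟩ := (I.h436 M hM x hx hx1 hxM N hN hxN).1 ⟨p, hpσN, hpM⟩
  have hxx : x ∈ Subgroup.centralizer ({x} : Set G) := by
    rw [Subgroup.mem_centralizer_iff]
    intro z hz
    rw [Set.mem_singleton_iff] at hz
    rw [hz]
  have hpσM : p ∉ sigma M := by
    intro hpσM
    refine Cfsg.Agent.Lib.Helper49_SigmaDisjoint.sigma_inter_sigma hG hN hM ?_ hnil (hall I hN)
      hpσN hpσM
    intro g hg
    apply hxσN
    apply Cfsg.Agent.Lib.Helper11_BGTypes4.mem_sigmaCore_of_orderOf (hall I hN) (hxN hxx)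
    intro q hq hqd
    have hqσ : q ∈ sigma M := by
      apply hH.2.1 q hq
      have := orderOf_dvd_natCard (⟨x, hx⟩ : sigmaCore M)
      rw [Subgroup.orderOf_mk] at this
      exact hqd.trans this
    rw [hg, Cfsg.Agent.Lib.Helper25_BG14a.sigma_cj] at hqσ
    exact hqσ
  have hy1 : y ≠ 1 := fun h => one_not_mem_b0 (h ▸ hy)
  by_cases hyσ : y ∈ sigmaCore M
  · obtain ⟨t, ht⟩ := exists_prime_orderOf_dvd_card' p h2
    have htM : (t : G) ∈ M := t.2.1
    have hty : (t : G) * y = y * (t : G) :=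
      ((Subgroup.mem_centralizer_iff.1 t.2.2) y (Set.mem_singleton y)).symm
    have hto : orderOf (t : G) = p := by rw [Subgroup.orderOf_coe]; exact ht
    exact not_mem_sigmaHat_of_prime hG I hM hKU hκ hτ htM hp hpσM hto ⟨htM, y, hyσ, hy1, hty⟩
  · rcases hy with hy | hy
    · have hyH : y ∈ sigmaHat M := hy.1.1
      have hyD : y ∈ U ⊔ sigmaCore M := hy.1.2
      obtain ⟨hw1, hwo⟩ := sigma'_part I hM hKU hyD hyσ
      set w := y ^ Nat.card (sigmaCore M) with hw
      have hwo1 : orderOf w ≠ 1 := fun h => hw1 (orderOf_eq_one_iff.1 h)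
      obtain ⟨r, hr, hrd⟩ := Nat.exists_prime_and_dvd hwo1
      have hrσ : r ∉ sigma M :=
        (Cfsg.Agent.Lib.Helper78_SigmaDecomp.not_mem_of_dvd_card_U hKU hH hr (hrd.trans hwo)).1
      have hwpos : orderOf w ≠ 0 := (orderOf_pos w).ne'
      have hvo : orderOf (w ^ (orderOf w / r)) = r := orderOf_pow_orderOf_div hwpos hrd
      obtain ⟨hyM, y', hy', hy'1, hyy'⟩ := hyH
      have hvM : w ^ (orderOf w / r) ∈ M := M.pow_mem (M.pow_mem hyM _) _
      have hc : Commute y y' := hyy'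
      have hvc : w ^ (orderOf w / r) * y' = y' * w ^ (orderOf w / r) :=
        ((hc.pow_left _).pow_left _).eq
      exact not_mem_sigmaHat_of_prime hG I hM hKU hκ hτ hvM hr hrσ hvo ⟨hvM, y', hy', hy'1, hvc⟩
    · obtain ⟨m, hm, z, hz, -⟩ := hy
      have hK1 := K_ne_bot_of_mem_zhat hz
      have := Cfsg.Agent.Lib.Helper11_BGTypes.sd_kappa_nonempty hKU hK1
      rw [hκ] at this
      exact Set.not_nonempty_empty this

/-- **the tame embedding hypothesis holds for every maximal subgroup** -/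
theorem tameAt (hG : IsMinSimpleOddOrder G) (I : BGIn G) (hM : IsCoatom M) : TameAt M := by
  obtain ⟨K, U, hKU⟩ := exists_dec I hM
  have h55 := I.h55 M hM
  have hsub := typeA0_subset_b0 hG I hM hKU
  -- elements of `A₀(M)` whose centralizer is not in `M`
  have key : ∀ x ∈ typeA0 M, ¬ Subgroup.centralizer ({x} : Set G) ≤ M →
      x ∈ sigmaCore M ∧ x ≠ 1 := by
    intro x hx hxM
    refine ⟨?_, fun h => one_not_mem_b0 (h ▸ hsub hx)⟩
    by_contra hxσ
    exact hxM (cent_le_of_b0 hG I hM hKU (hsub hx) hxσ)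
  refine ⟨h55.1, h55.2.1.trans h55.2.2.1, ?_, ?_, ?_⟩
  · intro x hx g hg
    exact fusion_b0 hG I hM hKU (hsub hx) (hsub hg)
  · intro x hx hxM
    obtain ⟨hxσ, hx1⟩ := key x hx hxM
    refine ⟨?_, ?_⟩
    · rw [typeA1_eq hG I hM hKU]
      exact ⟨hxσ, hx1⟩
    · obtain ⟨N, hN, huniq, -⟩ := I.h75 M hM x hxσ hx1 hxM
      exact ⟨N, hN, fun L hL => huniq L hL.1 hL.2⟩
  · intro x hx hxM L hL hxL
    obtain ⟨hxσ, hx1⟩ := key x hx hxM
    obtain ⟨N, hN, huniq, hσF, hnorm, hcompl, -, hlast⟩ := I.h75 M hM x hxσ hx1 hxM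
    have hLN : L = N := huniq L hL hxL
    subst hLN
    obtain ⟨K', U', hKU'⟩ := exists_dec I hL
    obtain ⟨-, -, hxσN⟩ := hlast K' U' hKU'
    rw [← hσF]
    refine ⟨hnorm, Cfsg.Agent.Lib.Helper39_BGBasic.IsComplIn.symm_of_normal' hcompl hnorm, ?_⟩
    intro y hy
    have hnil : Group.IsNilpotent ↥(sigmaCore L) := by
      rw [hσF]; exact Cfsg.Agent.Lib.Helper11_BGTypes2.fittingHallOf_nilpotent L
    exact coprime_of_cent hG I hM hKU hL hxσ hx1 hxM hxL hxσN hnil (hsub hy)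

end dec

/-- the conclusion of frozen S1537 -/
theorem dade (hG : IsMinSimpleOddOrder G) (I : BGIn G) (M : Subgroup G) (hM : IsCoatom M)
    (A : Set G) (hA : A = Cfsg.typeA1 M ∨ A = Cfsg.typeA M ∨ A = Cfsg.typeA0 M) :
    Subgroup.normalizer A = M ∧ Cfsg.DadeHypothesis A M (Cfsg.supportR M) :=
  dade_of_tame hG M hM (tameAt hG I hM) A hA

/-- the conclusion of frozen S1538 -/
theorem typeII_TI (hG : IsMinSimpleOddOrder G) (I : BGIn G) (M : Subgroup G) (hM : IsCoatom M)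
    (hII : IsOfTypeII M) :
    (IsTISubset (typeA0 M) ∧ Subgroup.normalizer (typeA0 M) = M) ∧
      (IsTISubset (typeA M) ∧ Subgroup.normalizer (typeA M) = M) ∧
      (IsTISubset (typeA1 M) ∧ Subgroup.normalizer (typeA1 M) = M) :=
  typeII_TI_of_tame hG M hM (tameAt hG I hM) hII

end Cfsg.Agent.Lib.Helper84_PF8g
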