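import Mathlib
import Cfsg.Agent.Lib.Helper34_PG_Defs
import Cfsg.Agent.Lib.Helper5_SUOrder
import Cfsg.Agent.Lib.Helper5_SUCenter
import Cfsg.Agent.Lib.Helper61_SUTransfer

/-!
# PG-CARD (S3663, architect helper34): `|SU₃(4)| = 62400` and `PSU₃(4) ≃* SU₃(4)` (on the model `F16`).
-/

set_option autoImplicit false

namespace Cfsg.Agent.Lib.Helper84_PG_CARD

open Matrix Cfsg.Agent.Lib.Helper34_PG_F16 Cfsg.Agent.Lib.Helper34_PG_Defs

theorem card_F16_sq : Fintype.card F16 = 4 ^ 2 := by rw [F16.card]; norm_num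

theorem card_G16 : Nat.card G16 = 62400 := by
  have h := Cfsg.Agent.Lib.Helper5_SUOrder.card_SU (F := F16) (q := 4) card_F16_sq 3 (by norm_num)
  have h2 : (4 + 1) * Nat.card G16 = (4 + 1) * 62400 := by
    rw [h]
    decide
  exact Nat.eq_of_mul_eq_mul_left (by norm_num) h2

theorem center_SU : Subgroup.center ↥(Cfsg.SU 3 F16 4) = ⊥ := by
  have h := Cfsg.Agent.Lib.Helper5_SUCenter.card_center_SU (F := F16) (q := 4) card_F16_sq 3
    (by norm_num)
  have h1 : Nat.card (Subgroup.center ↥(Cfsg.SU 3 F16 4)) = 1 := by rw [h]; norm_num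
  exact Subgroup.card_eq_one.1 h1

theorem exists_equiv {F : Type*} [Field F] [Fintype F] (hF : Fintype.card F = 16) :
    Nonempty (Cfsg.PSU 3 F 4 ≃* G16) := by
  have e16 : F ≃+* F16 := ringEquivF16 hF
  have e1 : Cfsg.PSU 3 F 4 ≃* Cfsg.PSU 3 F16 4 := Cfsg.Agent.Lib.Helper61_SUTransfer.psuEquiv e16
  have e2 : Cfsg.PSU 3 F16 4 ≃* ↥(Cfsg.SU 3 F16 4) :=
    (QuotientGroup.quotientMulEquivOfEq center_SU).trans QuotientGroup.quotientBot
  exact ⟨e1.trans e2⟩

end Cfsg.Agent.Lib.Helper84_PG_CARD
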