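import Mathlib
import Cfsg.Agent.Lib.Helper34_PG_Defs

/-!
# PG-ELTS (S3663, architect helper34): the orders of the explicit elements `g13`, `g10`, `g15` of `SU₃(4)`.
-/

set_option autoImplicit false

namespace Cfsg.Agent.Lib.Helper84_PG_ELTS

open Matrix Cfsg.Agent.Lib.Helper34_PG_F16 Cfsg.Agent.Lib.Helper34_PG_Defs

/-- powers through `mul3` -/
def pw (M : M3) : ℕ → M3
  | 0 => 1
  | n + 1 => mul3 (pw M n) M

theorem pw_eq (M : M3) (n : ℕ) : pw M n = M ^ n := by
  induction n with
  | zero => rfl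
  | succ n ih => rw [pw, mul3_eq, ih, pow_succ]

theorem orderOf_mkSU (M : M3) (hdet : det3 M = 1) (H : Cols M) :
    orderOf (mkSU M hdet H) = orderOf M := by
  rw [orderOf_eq_orderOf_iff]
  intro n
  constructor
  · intro h
    have h' := congrArg (fun g : G16 => g.1.1) h
    simp only [Subgroup.coe_pow, Matrix.SpecialLinearGroup.coe_pow] at h'
    exact h'
  · intro h
    apply Subtype.ext
    apply Subtype.ext
    rw [Subgroup.coe_pow, Matrix.SpecialLinearGroup.coe_pow]
    exact h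

theorem m13_pows : pw m13 13 = 1 ∧ pw m13 1 ≠ 1 := by decide +kernel

theorem m10_pows : pw m10 10 = 1 ∧ pw m10 5 ≠ 1 ∧ pw m10 2 ≠ 1 := by decide +kernel

theorem m15_pows : pw m15 15 = 1 ∧ pw m15 5 ≠ 1 ∧ pw m15 3 ≠ 1 := by decide +kernel

theorem orderOf_m13 : orderOf m13 = 13 := by
  obtain ⟨h1, h2⟩ := m13_pows
  rw [pw_eq] at h1 h2
  have : Fact (Nat.Prime 13) := ⟨by norm_num⟩
  apply orderOf_eq_prime h1
  intro h
  apply h2
  rw [h, one_pow]

theorem orderOf_m10 : orderOf m10 = 10 := by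
  obtain ⟨h1, h2, h3⟩ := m10_pows
  rw [pw_eq] at h1 h2 h3
  apply orderOf_eq_of_pow_and_pow_div_prime (by norm_num) h1
  intro p hp hpd
  have hp' : p = 2 ∨ p = 5 := by
    have hle : p ≤ 10 := Nat.le_of_dvd (by norm_num) hpd
    interval_cases p <;> first | (exfalso; revert hp; decide) | (exfalso; revert hpd; decide) | simp
  rcases hp' with rfl | rfl
  · exact h2
  · exact h3

theorem orderOf_m15 : orderOf m15 = 15 := by
  obtain ⟨h1, h2, h3⟩ := m15_pows
  rw [pw_eq] at h1 h2 h3
  apply orderOf_eq_of_pow_and_pow_div_prime (by norm_num) h1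
  intro p hp hpd
  have hp' : p = 3 ∨ p = 5 := by
    have hle : p ≤ 15 := Nat.le_of_dvd (by norm_num) hpd
    interval_cases p <;> first | (exfalso; revert hp; decide) | (exfalso; revert hpd; decide) | simp
  rcases hp' with rfl | rfl
  · exact h2
  · exact h3

theorem orderOf_g13 : orderOf g13 = 13 := by
  unfold g13
  rw [orderOf_mkSU, orderOf_m13]

theorem orderOf_g10 : orderOf g10 = 10 := by
  unfold g10
  rw [orderOf_mkSU, orderOf_m10]

theorem orderOf_g15 : orderOf g15 = 15 := by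
  unfold g15
  rw [orderOf_mkSU, orderOf_m15]

end Cfsg.Agent.Lib.Helper84_PG_ELTS
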