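import Mathlib
import Cfsg.Agent.Lib.Helper30_QFDefs
import Cfsg.Agent.Lib.Helper30_QFPairDefs
import Cfsg.Agent.Lib.Helper5_PSpSimple

/-!
# S2333-KER (helper30 market): normal subgroups of `Sp_{2n}(q)` are `⊤` or central; `xs S` is not central.
-/

set_option autoImplicit false
set_option linter.unusedSectionVars false

namespace Cfsg.Agent.Lib.Helper84_S2333_KER

open Cfsg.Agent.Lib.Helper30_QFDefs Cfsg.Agent.Lib.Helper30_QFPairDefs Module QuadraticMap Matrix
open Cfsg.Agent.Lib.Helper5_SpPerfect Cfsg.Agent.Lib.Helper81_SpWeights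
open scoped LinearAlgebra.Projectivization
open MulAction Cfsg.Agent.Lib.Helper5_PSpSimple

variable {F : Type*} [Field F] [Fintype F] {n : ℕ}

theorem normal_eq_top_or_le_center (hn : 2 ≤ n) (h : n = 2 → 3 ≤ Fintype.card F)
    (N : Subgroup (Matrix.symplecticGroup (Fin n) F)) [N.Normal] :
    N = ⊤ ∨ N ≤ Subgroup.center (Matrix.symplecticGroup (Fin n) F) := by
  have hperf : commutator (symplecticGroup (Fin n) F) = ⊤ := by
    apply sp_perfect
    rcases Nat.lt_or_ge 2 n with h3 | h3
    · left; omega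
    · right; left
      have : n = 2 := by omega
      exact ⟨this, h this⟩
  have hprim := isPreprimitive (F := F) n (by omega)
  by_cases hfix : fixedPoints N (ℙ F (Fin n ⊕ Fin n → F)) = Set.univ
  · right
    intro g hg
    apply mem_center_of_fixes
    intro p
    have : p ∈ fixedPoints N (ℙ F (Fin n ⊕ Fin n → F)) := by rw [hfix]; trivial
    exact this ⟨g, hg⟩
  · left
    have := (iwasawa n).commutator_le N hfix
    rw [hperf] at this
    exact eq_top_iff.mpr this

theorem xs_not_mem_center (S : symSub n F) (hS : S ≠ 0) :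
    xs S ∉ Subgroup.center (Matrix.symplecticGroup (Fin n) F) := by
  intro hc
  rw [Subgroup.mem_center_iff] at hc
  have h1 := hc (SymplecticGroup.symJ (Fin n) F)
  have h2 := congrArg (fun M : symplecticGroup (Fin n) F =>
    (M : Matrix (Fin n ⊕ Fin n) (Fin n ⊕ Fin n) F)) h1
  have h3 : Matrix.J (Fin n) F * Xmat S.1 = Xmat S.1 * Matrix.J (Fin n) F := h2
  rw [Xmat, Matrix.J, Matrix.fromBlocks_multiply, Matrix.fromBlocks_multiply] at h3
  have h4 := (Matrix.fromBlocks_inj.mp h3).1
  apply hS
  apply Subtype.ext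
  simpa using h4.symm

end Cfsg.Agent.Lib.Helper84_S2333_KER
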