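import Mathlib

/-!
# S4016 package CAL (helper84)

A `p'`-element normalizing a cyclic `p`-subgroup `P` and centralizing a non-identity element of `P`
centralizes `P`.
-/

set_option autoImplicit false

namespace Cfsg.Agent.Lib.Helper84_S4016_CAL

theorem CAL {G : Type*} [Group G] {p : ℕ} [Fact p.Prime] (P : Subgroup G) [Finite ↥P]
    (hP : IsPGroup p ↥P) (hcyc : IsCyclic ↥P) {l : G}
    (hl : l ∈ Subgroup.normalizer (P : Set G)) (hcop : (orderOf l).Coprime p)
    {y : G} (hy : y ∈ P) (hy1 : y ≠ 1) (hly : l * y = y * l) : ∀ z ∈ P, l * z = z * l := by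
  have hp : p.Prime := Fact.out
  -- `l` acts on `P` as a power map
  obtain ⟨k, hk⟩ := MonoidHom.map_cyclic (P.normalizerMonoidHom ⟨l, hl⟩).toMonoidHom
  have hk' : ∀ z ∈ P, l * z * l⁻¹ = z ^ k := by
    intro z hz
    have := hk ⟨z, hz⟩
    exact congrArg Subtype.val this
  -- iterate
  have hiter : ∀ j : ℕ, ∀ z ∈ P, l ^ j * z * (l ^ j)⁻¹ = z ^ (k ^ j) := by
    intro j
    induction j with
    | zero => intro z hz; simp
    | succ j ih =>
      intro z hz
      have e1 : l ^ (j + 1) * z * (l ^ (j + 1))⁻¹ = l * (l ^ j * z * (l ^ j)⁻¹) * l⁻¹ := by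
        rw [pow_succ']
        group
      rw [e1, ih z hz, hk' _ (P.zpow_mem hz _), ← zpow_mul, pow_succ]
  -- the order of `P`
  obtain ⟨n, hn⟩ := (IsPGroup.iff_card (p := p) (G := ↥P)).mp hP
  have hzpow : ∀ z ∈ P, z ^ (p ^ n) = 1 := by
    intro z hz
    have h1 : (⟨z, hz⟩ : ↥P) ^ (p ^ n) = 1 := by
      rw [← hn]
      exact pow_card_eq_one'
    exact congrArg Subtype.val h1
  -- `p ∣ k - 1`
  have hyk : y ^ (k - 1) = 1 := by
    have h1 : l * y * l⁻¹ = y := by rw [hly]; group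
    have h2 := hk' y hy
    rw [h1] at h2
    rw [zpow_sub_one, ← h2, mul_inv_cancel]
  have hody : (orderOf y : ℤ) ∣ k - 1 := orderOf_dvd_iff_zpow_eq_one.mpr hyk
  have hpy : p ∣ orderOf y := by
    have h1 : orderOf y ∣ p ^ n := orderOf_dvd_of_pow_eq_one (hzpow y hy)
    obtain ⟨i, -, hi⟩ := (Nat.dvd_prime_pow hp).mp h1
    rcases Nat.eq_zero_or_pos i with h0 | hpos
    · exfalso
      rw [h0, pow_zero, orderOf_eq_one_iff] at hi
      exact hy1 hi
    · rw [hi]
      exact dvd_pow_self p hpos.ne'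
  have hpk : (p : ℤ) ∣ k - 1 := dvd_trans (Int.natCast_dvd_natCast.mpr hpy) hody
  have hn1 : 1 ≤ n := by
    rcases Nat.eq_zero_or_pos n with h0 | hpos
    · exfalso
      have := hzpow y hy
      rw [h0, pow_zero, pow_one] at this
      exact hy1 this
    · exact hpos
  -- `p ^ n ∣ k ^ (p ^ (n - 1)) - 1`
  have hbig : ((p : ℤ) ^ n) ∣ k ^ (p ^ (n - 1)) - 1 := by
    have := dvd_sub_pow_of_dvd_sub (R := ℤ) (p := p) (a := k) (b := 1) hpk (n - 1)
    rw [Nat.sub_add_cancel hn1, one_pow] at this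
    exact this
  -- `l ^ (p ^ (n - 1))` centralizes `P`
  have hcent : ∀ z ∈ P, l ^ (p ^ (n - 1)) * z * (l ^ (p ^ (n - 1)))⁻¹ = z := by
    intro z hz
    rw [hiter _ z hz]
    have h1 : z ^ (k ^ (p ^ (n - 1)) - 1) = 1 := by
      obtain ⟨c, hc⟩ := hbig
      rw [hc, zpow_mul]
      have : z ^ ((p : ℤ) ^ n) = 1 := by
        have := hzpow z hz
        exact_mod_cast this
      rw [this, one_zpow]
    have h2 : z ^ (k ^ (p ^ (n - 1))) = z ^ (k ^ (p ^ (n - 1)) - 1) * z := by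
      rw [zpow_sub_one, inv_mul_cancel_right]
    rw [h2, h1, one_mul]
  -- `l` is a power of `l ^ (p ^ (n - 1))`
  have hcop' : (p ^ (n - 1)).Coprime (orderOf l) := (Nat.Coprime.pow_right _ hcop).symm
  obtain ⟨m, hm⟩ := exists_pow_eq_self_of_coprime hcop'
  intro z hz
  have hc1 : Commute (l ^ (p ^ (n - 1))) z := by
    have h1 := hcent z hz
    show l ^ (p ^ (n - 1)) * z = z * l ^ (p ^ (n - 1))
    calc l ^ (p ^ (n - 1)) * z = l ^ (p ^ (n - 1)) * z * (l ^ (p ^ (n - 1)))⁻¹ * l ^ (p ^ (n - 1)) := by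
          group
      _ = z * l ^ (p ^ (n - 1)) := by rw [h1]
  have hc2 : Commute ((l ^ (p ^ (n - 1))) ^ m) z := hc1.pow_left m
  rw [hm] at hc2
  exact hc2

end Cfsg.Agent.Lib.Helper84_S4016_CAL
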