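import Mathlib

/-!
# S4016 package MU (helper84)

If `g` has prime order `p`, the elements `e` with `e ^ r = 1` normalizing `⟨g⟩` produce at most `r`
distinct conjugates `e g e⁻¹` (`e g e⁻¹ = g ^ k` with `k ^ r = 1` in the field `ZMod p`).
-/

set_option autoImplicit false

namespace Cfsg.Agent.Lib.Helper84_S4016_MU

/-- iterated conjugation by an element acting as a power map on `g` -/
theorem conj_pow_eq {G : Type*} [Group G] {g e : G} {k : ℕ} (h : e * g * e⁻¹ = g ^ k) (j : ℕ) :
    e ^ j * g * (e ^ j)⁻¹ = g ^ (k ^ j) := by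
  induction j with
  | zero => simp
  | succ j ih =>
    have e1 : e ^ (j + 1) * g * (e ^ (j + 1))⁻¹ = e * (e ^ j * g * (e ^ j)⁻¹) * e⁻¹ := by
      rw [pow_succ']
      group
    rw [e1, ih]
    have e2 : e * g ^ (k ^ j) * e⁻¹ = (e * g * e⁻¹) ^ (k ^ j) := (conj_pow (a := e) (b := g)).symm
    rw [e2, h, ← pow_mul, pow_succ']

theorem MU {G : Type*} [Group G] {p r : ℕ} [Fact p.Prime] (hr : 0 < r) (g : G)
    (hg : orderOf g = p) (S : Set G)
    (hS : ∀ e ∈ S, e ^ r = 1 ∧ ∃ k : ℕ, e * g * e⁻¹ = g ^ k) :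
    ((fun e => e * g * e⁻¹) '' S).ncard ≤ r := by
  classical
  have hsub : (fun e => e * g * e⁻¹) '' S ⊆
      (fun a : ZMod p => g ^ a.val) '' (↑(Polynomial.nthRootsFinset r (1 : ZMod p)) : Set (ZMod p)) := by
    rintro x ⟨e, he, rfl⟩
    obtain ⟨her, k, hk⟩ := hS e he
    refine ⟨(k : ZMod p), ?_, ?_⟩
    · rw [Finset.mem_coe, Polynomial.mem_nthRootsFinset hr]
      have h1 := conj_pow_eq hk r
      rw [her] at h1
      simp only [one_mul, inv_one, mul_one] at h1
      have h2 : g ^ 1 = g ^ (k ^ r) := by rw [pow_one]; exact h1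
      rw [pow_eq_pow_iff_modEq, hg] at h2
      have h3 := (ZMod.natCast_eq_natCast_iff _ _ _).mpr h2
      push_cast at h3
      exact h3.symm
    · show g ^ (k : ZMod p).val = e * g * e⁻¹
      rw [hk, ZMod.val_natCast, ← hg, pow_mod_orderOf]
  calc ((fun e => e * g * e⁻¹) '' S).ncard
      ≤ ((fun a : ZMod p => g ^ a.val) ''
          (↑(Polynomial.nthRootsFinset r (1 : ZMod p)) : Set (ZMod p))).ncard :=
        Set.ncard_le_ncard hsub ((Finset.finite_toSet _).image _)
    _ ≤ (↑(Polynomial.nthRootsFinset r (1 : ZMod p)) : Set (ZMod p)).ncard :=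
        Set.ncard_image_le (Finset.finite_toSet _)
    _ = (Polynomial.nthRootsFinset r (1 : ZMod p)).card := Set.ncard_coe_finset _
    _ ≤ Multiset.card (Polynomial.nthRoots r (1 : ZMod p)) := by
        rw [Polynomial.nthRootsFinset_def]
        exact Multiset.toFinset_card_le _
    _ ≤ r := Polynomial.card_nthRoots r 1

end Cfsg.Agent.Lib.Helper84_S4016_MU
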