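import Mathlib
import Cfsg.Prelude.Def_Classical
import Cfsg.Agent.Lib.Helper84_SUND_UCa
import Cfsg.Agent.Lib.Helper94_HermBridge

set_option autoImplicit false

/-!
Package UC of S5954 (helper99's work exchange; proved by helper84): the case `r = 2 ≠ p` of the
classification of prime order elements of `PSU_n(q)` without fixed nondegenerate `m`-spaces.

For `x ∈ SU_n(q)` with `x² = z`, write `z = l²` with `l ∈ F`; then `l^(q+1) = ± 1`.
* `l^(q+1) = 1`: `l⁻¹ x` is a unitary involution, there is an orthogonal basis of non-isotropic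
  eigenvectors and `x` fixes nondegenerate subspaces of every dimension.
* `l^(q+1) = -1`: the two eigenspaces are totally isotropic of dimension `n/2`,
  `det x = (-z)^(n/2)`, and the nondegenerate invariant subspaces are exactly those of even
  dimension.
The abstract linear algebra is in `Helper84_SUND_UCa`.
-/

namespace Cfsg.Agent.Lib.Helper84_SUND_UC

open scoped MatrixGroups
open Module Matrix Cfsg.Agent.Lib.Helper94_Herm Cfsg.Agent.Lib.Helper94_HermOrth
  Cfsg.Agent.Lib.Helper94_HermBridge Cfsg.Agent.Lib.Helper84_SUND_UCa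

section
variable {F : Type*} [Field F] [Fintype F]

theorem q_odd {p : ℕ} [Fact p.Prime] [CharP F p] {q : ℕ} (hq : Fintype.card F = q ^ 2)
    (hp2 : p ≠ 2) : Odd q := by
  obtain ⟨e, hp, he⟩ := FiniteField.card F p
  rw [← Nat.not_even_iff_odd]
  intro hev
  have h1 : 2 ∣ p ^ (e : ℕ) := by
    rw [← he, hq]
    exact dvd_pow hev.two_dvd two_ne_zero
  have h2 := (Nat.prime_two).dvd_of_dvd_pow h1
  exact hp2 ((Nat.prime_dvd_prime_iff_eq Nat.prime_two hp).1 h2).symm

theorem two_ne_zero_F {p : ℕ} [Fact p.Prime] [CharP F p] (hp2 : p ≠ 2) : (2 : F) ≠ 0 := by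
  intro h
  have h1 : ((2 : ℕ) : F) = 0 := by exact_mod_cast h
  rw [CharP.cast_eq_zero_iff F p] at h1
  have hp : p.Prime := Fact.out
  exact hp2 ((Nat.prime_dvd_prime_iff_eq hp Nat.prime_two).1 h1)

theorem exists_sqrt {p : ℕ} [Fact p.Prime] [CharP F p] {q : ℕ} (hq : Fintype.card F = q ^ 2)
    (hp2 : p ≠ 2) {z : F} (hz : z ^ (q + 1) = 1) : ∃ l : F, l * l = z := by
  have hodd := q_odd hq hp2
  have hz0 : z ≠ 0 := by
    rintro rfl
    rw [zero_pow (by omega)] at hz
    exact zero_ne_one hz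
  have hchar : ringChar F ≠ 2 := by
    rw [ringChar.eq F p]
    exact hp2
  have h1 : z ^ (Fintype.card F / 2) = 1 := by
    obtain ⟨t, ht⟩ := hodd
    have : Fintype.card F / 2 = (q + 1) * t := by
      rw [hq, ht]
      have : (2 * t + 1) ^ 2 = 2 * ((2 * t + 1 + 1) * t) + 1 := by ring
      rw [this]
      omega
    rw [this, pow_mul, hz, one_pow]
  obtain ⟨l, hl⟩ := (FiniteField.isSquare_iff hchar hz0).2 h1
  exact ⟨l, hl.symm⟩

end

section
variable {F : Type*} [Field F]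

theorem arith_contra (h2 : (2 : F) ≠ 0) {q n k : ℕ} {l : F}
    (hl : l ^ (q + 1) = -1) (hk : n = 2 * k) (hdet : (-(l * l)) ^ k = 1) (hn0 : n ≠ 0)
    (hv : padicValNat 2 n ≤ padicValNat 2 (q + 1)) (hq4 : q % 4 = 3) : False := by
  have hn : 2 ^ padicValNat 2 n * (n / 2 ^ padicValNat 2 n) = n :=
    Nat.ordProj_mul_ordCompl_eq_self n 2
  have hn'odd : ¬ 2 ∣ n / 2 ^ padicValNat 2 n := Nat.not_dvd_ordCompl Nat.prime_two hn0
  have ht : 2 ^ padicValNat 2 n ∣ q + 1 := (pow_dvd_pow 2 hv).trans (Nat.ordProj_dvd (q + 1) 2)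
  obtain ⟨s, hs⟩ := ht
  obtain ⟨n', hn'⟩ : ∃ n', n' = n / 2 ^ padicValNat 2 n := ⟨_, rfl⟩
  rw [← hn'] at hn hn'odd
  have e1 : (q + 1) * n' = 2 * (k * s) := by
    rw [hs]
    calc 2 ^ padicValNat 2 n * s * n' = (2 ^ padicValNat 2 n * n') * s := by ring
      _ = 2 * (k * s) := by rw [hn, hk]; ring
  have h1 : l ^ ((q + 1) * n') = -1 := by
    rw [pow_mul, hl, Odd.neg_one_pow]
    rw [Nat.odd_iff]
    omega
  have h3 : (l * l) ^ k = (-1) ^ k := by
    have h4 : (-(l * l)) ^ k = (-1) ^ k * (l * l) ^ k := by rw [neg_pow]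
    rw [h4] at hdet
    calc (l * l) ^ k = ((-1) ^ k * (-1) ^ k) * (l * l) ^ k := by
          rw [← mul_pow]; simp
      _ = (-1) ^ k * ((-1) ^ k * (l * l) ^ k) := by ring
      _ = (-1) ^ k := by rw [hdet, mul_one]
  have h4 : l ^ (2 * (k * s)) = (-1) ^ (k * s) := by
    rw [pow_mul, pow_two, pow_mul, h3, ← pow_mul]
  rw [e1, h4] at h1
  have hks : ¬ Even (k * s) := by
    intro he
    rw [he.neg_one_pow] at h1
    apply h2
    linear_combination h1
  rw [Nat.even_mul] at hks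
  push Not at hks
  obtain ⟨hk1, hs1⟩ := hks
  have hk0 : k ≠ 0 := by
    rintro rfl
    exact hk1 Even.zero
  have hpv : padicValNat 2 n = 1 := by
    rw [hk, padicValNat.mul two_ne_zero hk0, padicValNat.self (by norm_num),
      padicValNat.eq_zero_of_not_dvd]
    rw [← even_iff_two_dvd]
    exact hk1
  rw [hpv] at hs
  rw [Nat.not_even_iff_odd] at hs1
  obtain ⟨j, hj⟩ := hs1
  omega

end

section
variable {F : Type*} [Field F] [Fintype F]

theorem exists_l {q : ℕ} (hq : Fintype.card F = q ^ 2) (hodd : Odd q) (h2 : (2 : F) ≠ 0)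
    {n k : ℕ} (hk : n = 2 * k) (hn0 : n ≠ 0)
    (hcond : ¬ (padicValNat 2 n ≤ padicValNat 2 (q + 1) ∧ q % 4 = 3)) :
    ∃ l : F, l ^ (q + 1) = -1 ∧ (-(l * l)) ^ k = 1 := by
  classical
  obtain ⟨a, ha⟩ : ∃ a, a = padicValNat 2 (q + 1) := ⟨_, rfl⟩
  have hqa : 2 ^ a * ((q + 1) / 2 ^ a) = q + 1 := by
    rw [ha]
    exact Nat.ordProj_mul_ordCompl_eq_self (q + 1) 2
  have hoodd : ¬ 2 ∣ (q + 1) / 2 ^ a := by
    rw [ha]
    exact Nat.not_dvd_ordCompl Nat.prime_two (by omega)
  obtain ⟨o, ho⟩ : ∃ o, o = (q + 1) / 2 ^ a := ⟨_, rfl⟩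
  rw [← ho] at hqa hoodd
  obtain ⟨t, ht⟩ := hodd
  have ha1 : 1 ≤ a := by
    rw [ha]
    have : Fact (Nat.Prime 2) := ⟨Nat.prime_two⟩
    apply one_le_padicValNat_of_dvd (by omega)
    omega
  have hcard : q ^ 2 - 1 = (q - 1) * (q + 1) := by
    rw [ht]
    have : (2 * t + 1) ^ 2 = (2 * t) * (2 * t + 1 + 1) + 1 := by ring
    rw [this]
    simp
  have hd : 2 ^ (a + 1) ∣ q ^ 2 - 1 := by
    rw [hcard, pow_succ, mul_comm]
    apply Nat.mul_dvd_mul
    · omega
    · exact ⟨o, hqa.symm⟩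
  obtain ⟨g, hg⟩ := IsCyclic.exists_ofOrder_eq_natCard (α := Fˣ)
  have hcu : Nat.card Fˣ = q ^ 2 - 1 := by
    rw [Nat.card_units, Nat.card_eq_fintype_card, hq]
  rw [hcu] at hg
  have hq1 : q ^ 2 - 1 ≠ 0 := by
    have : 1 < Fintype.card F := Fintype.one_lt_card
    rw [hq] at this
    omega
  obtain ⟨u, hu⟩ : ∃ u : Fˣ, orderOf u = 2 ^ (a + 1) := by
    refine ⟨g ^ (orderOf g / 2 ^ (a + 1)), orderOf_pow_orderOf_div ?_ ?_⟩
    · rw [hg]; exact hq1
    · rw [hg]; exact hd
  have hu1 : ((u : F) ^ 2 ^ a) * ((u : F) ^ 2 ^ a) = 1 := by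
    rw [← pow_add, ← two_mul, ← pow_succ', ← hu, ← Units.val_pow_eq_pow_val, pow_orderOf_eq_one,
      Units.val_one]
  have hu2 : (u : F) ^ 2 ^ a ≠ 1 := by
    intro h
    have h3 : u ^ 2 ^ a = 1 := by
      apply Units.ext
      rw [Units.val_pow_eq_pow_val, h, Units.val_one]
    have h4 := orderOf_dvd_of_pow_eq_one h3
    rw [hu] at h4
    have h5 := Nat.le_of_dvd (by positivity) h4
    rw [pow_succ] at h5
    have : 0 < 2 ^ a := by positivity
    omega
  have hu3 : (u : F) ^ 2 ^ a = -1 := (mul_self_eq_one_iff.1 hu1).resolve_left hu2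
  refine ⟨(u : F), ?_, ?_⟩
  · rw [← hqa, pow_mul, hu3, Odd.neg_one_pow]
    rw [Nat.odd_iff]
    omega
  · by_cases hq4 : q % 4 = 3
    · have hv : padicValNat 2 (q + 1) < padicValNat 2 n := by
        by_contra hcon
        push Not at hcon
        exact hcond ⟨hcon, hq4⟩
      rw [← ha] at hv
      have hdvd : 2 ^ (a + 1) ∣ n := (pow_dvd_pow 2 hv).trans (Nat.ordProj_dvd n 2)
      have hdvd' : 2 ^ a ∣ k := by
        rw [hk, pow_succ, mul_comm] at hdvd
        exact Nat.dvd_of_mul_dvd_mul_left (by norm_num) hdvd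
      obtain ⟨k', hk'⟩ := hdvd'
      have h5 : (-((u : F) * (u : F))) ^ 2 ^ a = 1 := by
        rw [neg_pow, mul_pow, hu3, Even.neg_one_pow]
        · ring
        · exact (Nat.even_pow' (by omega)).2 even_two
      rw [hk', pow_mul, h5, one_pow]
    · -- q % 4 = 1, a = 1
      have ha' : a = 1 := by
        by_contra hne
        have h2a : 2 ≤ a := by omega
        have : 2 ^ 2 ∣ q + 1 := (pow_dvd_pow 2 h2a).trans ⟨o, hqa.symm⟩
        omega
      rw [ha'] at hu3
      have : (u : F) * (u : F) = -1 := by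
        rw [← hu3]
        ring
      rw [this, neg_neg, one_pow]

end

section mat
open Matrix
variable {F : Type*} [Field F] {n : ℕ}

/-- swap `2i ↔ 2i+1` -/
def tau (hn : n % 2 = 0) (i : Fin n) : Fin n :=
  ⟨if i.val % 2 = 0 then i.val + 1 else i.val - 1, by
    have := i.isLt
    split_ifs <;> omega⟩

theorem tau_tau (hn : n % 2 = 0) (i : Fin n) : tau hn (tau hn i) = i := by
  apply Fin.ext
  simp only [tau]
  split_ifs <;> omega

theorem tau_ne (hn : n % 2 = 0) (i : Fin n) : tau hn i ≠ i := by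
  intro h
  have := congrArg Fin.val h
  simp only [tau] at this
  split_ifs at this <;> omega

/-- weights -/
def cw (z : F) (i : Fin n) : F := if i.val % 2 = 0 then z else 1

theorem cw_mul (hn : n % 2 = 0) (z : F) (i : Fin n) : cw z i * cw z (tau hn i) = z := by
  simp only [cw, tau]
  split_ifs <;> first | omega | simp

/-- the monomial matrix with blocks `[[0, z], [1, 0]]` -/
def xmat (hn : n % 2 = 0) (z : F) : Matrix (Fin n) (Fin n) F :=
  Matrix.of fun i j => if j = tau hn i then cw z i else 0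

theorem xmat_mulVec (hn : n % 2 = 0) (z : F) (u : Fin n → F) :
    xmat hn z *ᵥ u = fun i => cw z i * u (tau hn i) := by
  funext i
  simp [xmat, Matrix.mulVec, dotProduct]

theorem xmat_sq (hn : n % 2 = 0) (z : F) : xmat hn z * xmat hn z = z • 1 := by
  ext i j
  rw [Matrix.mul_apply]
  simp only [xmat, Matrix.of_apply, Matrix.smul_apply, Matrix.one_apply, smul_eq_mul]
  rw [Finset.sum_eq_single (tau hn i)]
  · rw [if_pos rfl, tau_tau]
    by_cases hij : i = j
    · subst hij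
      rw [if_pos rfl, if_pos rfl, cw_mul, mul_one]
    · rw [if_neg (Ne.symm hij), if_neg hij, mul_zero, mul_zero]
  · intro b _ hb
    rw [if_neg hb, zero_mul]
  · intro h
    exact absurd (Finset.mem_univ _) h

theorem xmat_herm (hn : n % 2 = 0) {q : ℕ} {z : F} (hz : z ^ (q + 1) = 1) (u v : Fin n → F) :
    Cfsg.hermForm n F q (xmat hn z *ᵥ u) (xmat hn z *ᵥ v) = Cfsg.hermForm n F q u v := by
  rw [xmat_mulVec, xmat_mulVec]
  simp only [Cfsg.hermForm]
  have h1 : ∀ i : Fin n, cw z i * u (tau hn i) * (cw z i * v (tau hn i)) ^ q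
      = u (tau hn i) * v (tau hn i) ^ q := by
    intro i
    have : cw z i ^ (q + 1) = 1 := by
      simp only [cw]
      split_ifs
      · exact hz
      · exact one_pow _
    rw [mul_pow]
    calc cw z i * u (tau hn i) * (cw z i ^ q * v (tau hn i) ^ q)
        = cw z i ^ (q + 1) * (u (tau hn i) * v (tau hn i) ^ q) := by ring
      _ = _ := by rw [this, one_mul]
  rw [Finset.sum_congr rfl (fun i _ => h1 i)]
  exact Equiv.sum_comp (Function.Involutive.toPerm (tau hn) (tau_tau hn))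
    (fun j => u j * v j ^ q)

theorem xmat_ne_smul (hn : n % 2 = 0) (hn0 : 0 < n) {z : F} (hz : z ≠ 0) (s : F) :
    xmat hn z ≠ s • (1 : Matrix (Fin n) (Fin n) F) := by
  intro h
  have h1 := congrFun (congrFun h ⟨0, hn0⟩) (tau hn ⟨0, hn0⟩)
  simp only [xmat, Matrix.of_apply, if_pos, Matrix.smul_apply, Matrix.one_apply,
    if_neg (tau_ne hn ⟨0, hn0⟩).symm, smul_eq_mul, mul_zero, cw] at h1
  exact hz h1

end mat

/-- UC: case `r = 2 ≠ p`. -/
theorem UC {F : Type*} [Field F] [Fintype F] {p : ℕ} [Fact p.Prime] [CharP F p] {q : ℕ} (hq : Fintype.card F = q ^ 2)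
    (n m : ℕ) (hn : 3 ≤ n) (hm : 1 ≤ m) (hmn : 2 * m < n) (hp2 : p ≠ 2) :
    (∀ x : Matrix.SpecialLinearGroup (Fin n) F, x ∈ Cfsg.SU n F q →
      (∃ z : F, ((x ^ 2 : Matrix.SpecialLinearGroup (Fin n) F) : Matrix (Fin n) (Fin n) F) = z • (1 : Matrix (Fin n) (Fin n) F)) →
      (∀ z : F, (x : Matrix (Fin n) (Fin n) F) ≠ z • (1 : Matrix (Fin n) (Fin n) F)) →
      ∃ W : Submodule F (Fin n → F), Module.finrank F ↥W = m ∧ (∀ u ∈ W, u ≠ 0 → ∃ v ∈ W, Cfsg.hermForm n F q u v ≠ 0) ∧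
        W.map (Matrix.toLin' (x : Matrix (Fin n) (Fin n) F)) ≤ W) ↔
    (Odd n ∨ Even m ∨ (padicValNat 2 n ≤ padicValNat 2 (q + 1) ∧ q % 4 = 3)) := by
  classical
  obtain ⟨σ, hσq, hσ⟩ := exists_frob hq
  have hB := hermB_isHerm (n := n) σ hσq hσ
  have hN := hermB_nondeg (n := n) σ hσq
  have h2 := two_ne_zero_F (F := F) hp2
  have hodd := q_odd hq hp2
  have hfr : finrank F (Fin n → F) = n := Module.finrank_fin_fun F
  constructor
  · intro hL
    by_contra hR
    push Not at hR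
    obtain ⟨hn1, hm1, hR3⟩ := hR
    rw [Nat.not_odd_iff_even] at hn1
    obtain ⟨k, hk⟩ := hn1
    have hk2 : n = 2 * k := by omega
    have hn2 : n % 2 = 0 := by omega
    obtain ⟨l, hl1, hl2⟩ := exists_l hq hodd h2 hk2 (by omega) (fun h => hR3 h.1 h.2)
    have hlσ : l * σ l = -1 := by rw [hσq, ← pow_succ', hl1]
    have hz1 : (l * l) ^ (q + 1) = 1 := by
      rw [mul_pow, hl1]
      ring
    have hl0 : l ≠ 0 := by
      rintro rfl
      rw [zero_mul] at hlσ
      exact (neg_ne_zero.2 one_ne_zero) hlσ.symm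
    have hz0 : l * l ≠ 0 := mul_ne_zero hl0 hl0
    have hiso : ∀ u v, hermB n σ hσq (Matrix.toLin' (xmat hn2 (l * l)) u)
        (Matrix.toLin' (xmat hn2 (l * l)) v) = hermB n σ hσq u v := by
      intro u v
      rw [hermB_apply, hermB_apply, Matrix.toLin'_apply, Matrix.toLin'_apply]
      exact xmat_herm hn2 hz1 u v
    have hX2 : ∀ v, Matrix.toLin' (xmat hn2 (l * l)) (Matrix.toLin' (xmat hn2 (l * l)) v)
        = (l * l) • v := by
      intro v
      rw [Matrix.toLin'_apply, Matrix.toLin'_apply, Matrix.mulVec_mulVec, xmat_sq,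
        Matrix.smul_mulVec, Matrix.one_mulVec]
    obtain ⟨k', hk', hdet⟩ := det_eq' hB hN h2 hiso hlσ hX2
    rw [hfr] at hk'
    have hkk : k' = k := by omega
    rw [LinearMap.det_toLin', hkk, hl2] at hdet
    obtain ⟨x, hxdef⟩ : ∃ x : Matrix.SpecialLinearGroup (Fin n) F,
        (x : Matrix (Fin n) (Fin n) F) = xmat hn2 (l * l) := ⟨⟨_, hdet⟩, rfl⟩
    have hxSU : x ∈ Cfsg.SU n F q := by
      intro u v
      show Cfsg.hermForm n F q ((x : Matrix (Fin n) (Fin n) F) *ᵥ u)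
        ((x : Matrix (Fin n) (Fin n) F) *ᵥ v) = Cfsg.hermForm n F q u v
      rw [hxdef]
      exact xmat_herm hn2 hz1 u v
    obtain ⟨W, hWr, hWn, hWi⟩ := hL x hxSU ⟨l * l, by
        rw [Matrix.SpecialLinearGroup.coe_pow, pow_two, hxdef]
        exact xmat_sq hn2 (l * l)⟩
      (fun s => by
        rw [hxdef]
        exact xmat_ne_smul hn2 (by omega) hz0 s)
    rw [hxdef] at hWi
    have hev := even_finrank_of_inv hB h2 hiso hlσ hX2 (W := W) hWn
      (fun v hv => hWi ⟨v, hv, rfl⟩)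
    rw [hWr] at hev
    exact hm1 hev
  · intro hR x hx hz hns
    obtain ⟨z, hz⟩ := hz
    have hiso : ∀ u v, hermB n σ hσq (Matrix.toLin' (x : Matrix (Fin n) (Fin n) F) u)
        (Matrix.toLin' (x : Matrix (Fin n) (Fin n) F) v) = hermB n σ hσq u v := by
      intro u v
      rw [hermB_apply, hermB_apply, Matrix.toLin'_apply, Matrix.toLin'_apply]
      exact hx u v
    have hsq : (x : Matrix (Fin n) (Fin n) F) * (x : Matrix (Fin n) (Fin n) F) = z • 1 := by
      rw [← pow_two, ← Matrix.SpecialLinearGroup.coe_pow]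
      exact hz
    have hX2z : ∀ v, Matrix.toLin' (x : Matrix (Fin n) (Fin n) F)
        (Matrix.toLin' (x : Matrix (Fin n) (Fin n) F) v) = z • v := by
      intro v
      rw [Matrix.toLin'_apply, Matrix.toLin'_apply, Matrix.mulVec_mulVec, hsq,
        Matrix.smul_mulVec, Matrix.one_mulVec]
    have hzz : z * σ z = 1 := by
      have hx0 : (fun _ : Fin n => (1 : F)) ≠ 0 := by
        intro h
        have := congrFun h ⟨0, by omega⟩
        simp at this
      obtain ⟨y, -, hy⟩ := hN _ Submodule.mem_top hx0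
      have h1 := hiso (Matrix.toLin' (x : Matrix (Fin n) (Fin n) F) (fun _ : Fin n => (1 : F)))
        (Matrix.toLin' (x : Matrix (Fin n) (Fin n) F) y)
      rw [hiso (fun _ : Fin n => (1 : F)) y, hX2z, hX2z, map_smulₛₗ, map_smul,
        LinearMap.smul_apply, smul_eq_mul, smul_eq_mul, ← mul_assoc] at h1
      exact mul_right_cancel₀ hy (by rw [one_mul, mul_comm z, h1])
    have hz1 : z ^ (q + 1) = 1 := by rw [pow_succ', ← hσq, hzz]
    obtain ⟨l, hl⟩ := exists_sqrt hq hp2 hz1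
    subst hl
    have hl0 : l ≠ 0 := by
      rintro rfl
      rw [zero_mul, zero_mul] at hzz
      exact zero_ne_one hzz
    have hz0 : l * l ≠ 0 := mul_ne_zero hl0 hl0
    have hll : l ^ (q + 1) * l ^ (q + 1) = 1 := by rw [← mul_pow, hz1]
    rcases mul_self_eq_one_iff.1 hll with h1 | h1
    · have hlσ : l * σ l = 1 := by rw [hσq, ← pow_succ', h1]
      obtain ⟨W, hWr, hWn, hWi⟩ := peel hB hN hiso hz0 hX2z (d := 1) one_pos
        (exists_piece_one hσ hB h2 hiso hlσ hX2z) m (by rw [hfr]; omega)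
      refine ⟨W, by rw [hWr, one_mul], ?_, ?_⟩
      · intro u hu hu0
        obtain ⟨v, hv, h⟩ := hWn u hu hu0
        exact ⟨v, hv, h⟩
      · rintro _ ⟨v, hv, rfl⟩
        exact hWi v hv
    · have hlσ : l * σ l = -1 := by rw [hσq, ← pow_succ', h1]
      obtain ⟨k, hk, hdet⟩ := det_eq' hB hN h2 hiso hlσ hX2z
      rw [hfr] at hk
      rw [LinearMap.det_toLin', x.2] at hdet
      rcases hR with hodd' | hev | ⟨hv, hq4⟩
      · exfalso
        obtain ⟨j, hj⟩ := hodd'
        omega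
      · obtain ⟨j, hj⟩ := hev
        obtain ⟨W, hWr, hWn, hWi⟩ := peel hB hN hiso hz0 hX2z (d := 2) two_pos
          (exists_piece_two hB h2 hiso hlσ hX2z) j (by rw [hfr]; omega)
        refine ⟨W, by rw [hWr, hj, two_mul], ?_, ?_⟩
        · intro u hu hu0
          obtain ⟨v, hv, h⟩ := hWn u hu hu0
          exact ⟨v, hv, h⟩
        · rintro _ ⟨v, hv, rfl⟩
          exact hWi v hv
      · exfalso
        exact arith_contra h2 h1 hk hdet.symm (by omega) hv hq4

end Cfsg.Agent.Lib.Helper84_SUND_UC
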