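import Mathlib
import Cfsg.Agent.Lib.Helper84_SUND_UCa
import Cfsg.Agent.Lib.Helper94_HermWitt
import Cfsg.Agent.Lib.Helper99_InvSub

set_option autoImplicit false

/-!
Abstract part of the case `r = 2 ≠ p` of S5953 (helper84): totally isotropic invariant subspaces
of an isometry `X` of a nondegenerate hermitian space over a finite field of odd characteristic
with `X² = l²`.

* Witt index: a nondegenerate subspace of dimension `≥ 2k` contains a totally isotropic
  `k`-space (`exists_ti`).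
* `l * σ l = -1`: totally isotropic invariant subspaces of every dimension `m ≤ dim V / 2`.
* `l * σ l = 1`: the eigenspaces `V₊ ⊥ V₋` are nondegenerate and there are totally isotropic
  invariant subspaces of every dimension `m ≤ ⌊dim V₊ / 2⌋ + ⌊dim V₋ / 2⌋`.
* `ti_finrank_lt`: a totally isotropic subspace orthogonal to a non-isotropic vector has
  dimension `< dim V / 2`.
-/

namespace Cfsg.Agent.Lib.Helper84_SUTI_T2a

open Module Cfsg.Agent.Lib.Helper94_Herm Cfsg.Agent.Lib.Helper94_HermOrth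
  Cfsg.Agent.Lib.Helper94_HermWitt Cfsg.Agent.Lib.Helper84_SUND_UCa

variable {F V : Type*} [Field F] [AddCommGroup V] [Module F V]
variable {σ : F →+* F} {B : V →ₗ[F] V →ₛₗ[σ] F}

/-- total isotropy of a subspace -/
def TI (B : V →ₗ[F] V →ₛₗ[σ] F) (W : Submodule F V) : Prop := ∀ u ∈ W, ∀ v ∈ W, B u v = 0

theorem finrank_sup_span_of_notMem [FiniteDimensional F V] {W : Submodule F V} {e : V}
    (he : e ∉ W) : finrank F (W ⊔ Submodule.span F {e} : Submodule F V) = finrank F W + 1 := by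
  have he0 : e ≠ 0 := by
    rintro rfl
    exact he W.zero_mem
  have h1 := Submodule.finrank_sup_add_finrank_inf_eq W (Submodule.span F {e})
  have h3 : W ⊓ Submodule.span F {e} = ⊥ := by
    rw [eq_bot_iff]
    rintro v ⟨hvW, hve⟩
    obtain ⟨a, rfl⟩ := Submodule.mem_span_singleton.1 hve
    rw [Submodule.mem_bot]
    by_contra hne
    have ha : a ≠ 0 := by
      rintro rfl
      exact hne (zero_smul _ _)
    apply he
    have := W.smul_mem a⁻¹ hvW
    rwa [smul_smul, inv_mul_cancel₀ ha, one_smul] at this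
  rw [h3, finrank_bot, finrank_span_singleton he0] at h1
  omega

section witt

variable [Finite F] [FiniteDimensional F V]

/-- Witt index: a nondegenerate subspace of dimension at least `2k` contains a totally isotropic
subspace of dimension `k`. -/
theorem exists_ti (hσ : Invol σ) (hB : IsHerm B) :
    ∀ (k : ℕ) (U : Submodule F V), NondegOn B U → 2 * k ≤ finrank F U →
      ∃ W : Submodule F V, W ≤ U ∧ finrank F W = k ∧ TI B W := by
  intro k
  induction k with
  | zero =>
    intro U _ _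
    refine ⟨⊥, bot_le, by simp, ?_⟩
    intro u hu v _
    rw [(Submodule.mem_bot F).1 hu, map_zero, LinearMap.zero_apply]
  | succ k ih =>
    intro U hU hk
    obtain ⟨x, hxU, hx0⟩ := exists_ne_zero_of_finrank_pos (F := F) (U := U) (by omega)
    obtain ⟨y, hyU, hy⟩ := exists_notMem_span1 (F := F) (U := U) (by omega) x
    obtain ⟨a, b, he0, hee⟩ := exists_iso hσ hB hx0 hy
    obtain ⟨e, hedef⟩ : ∃ e, e = a • x + b • y := ⟨_, rfl⟩
    rw [← hedef] at he0 hee
    have heU : e ∈ U := by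
      rw [hedef]
      exact U.add_mem (U.smul_mem _ hxU) (U.smul_mem _ hyU)
    obtain ⟨f, hfU, hff, hef⟩ := exists_partner hσ hB hU heU he0 hee
    have hU' := nondegOn_pair hB hU heU hfU hee hff hef
    have hfr1 := finrank_le_inf_orthV_add_one (B := B) U e
    have hfr2 := finrank_le_inf_orthV_add_one (B := B) (U ⊓ orthV B e) f
    obtain ⟨W', hW'U, hW'r, hW'ti⟩ := ih _ hU' (by omega)
    have heW' : e ∉ W' := by
      intro h
      have h1 : B e f = 0 := mem_orthV.1 (hW'U h).2
      rw [hef] at h1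
      exact one_ne_zero h1
    refine ⟨W' ⊔ Submodule.span F {e}, ?_, ?_, ?_⟩
    · refine sup_le (hW'U.trans (inf_le_left.trans inf_le_left)) ?_
      rw [Submodule.span_le]
      intro w hw
      rw [Set.mem_singleton_iff] at hw
      rw [hw]
      exact heU
    · rw [finrank_sup_span_of_notMem heW', hW'r]
    · intro u hu v hv
      obtain ⟨w1, hw1, s1, hs1, rfl⟩ := Submodule.mem_sup.1 hu
      obtain ⟨w2, hw2, s2, hs2, rfl⟩ := Submodule.mem_sup.1 hv
      obtain ⟨c1, rfl⟩ := Submodule.mem_span_singleton.1 hs1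
      obtain ⟨c2, rfl⟩ := Submodule.mem_span_singleton.1 hs2
      have h1 : B w1 e = 0 := mem_orthV.1 (hW'U hw1).1.2
      have h2 : B e w2 = 0 := herm_eq_zero hB (mem_orthV.1 (hW'U hw2).1.2)
      simp only [map_add, map_smul, map_smulₛₗ, LinearMap.add_apply, LinearMap.smul_apply,
        hW'ti w1 hw1 w2 hw2, h1, h2, hee, smul_zero, add_zero]

end witt

section neg

variable [Finite F] [FiniteDimensional F V]

/-- `l * σ l = -1`: totally isotropic invariant subspaces of every dimension up to `dim V / 2`. -/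
theorem exists_ti_inv_neg (hB : IsHerm B) (hN : NondegOn B ⊤) (h2 : (2 : F) ≠ 0)
    {X : V →ₗ[F] V} (hiso : ∀ u v, B (X u) (X v) = B u v) {l : F} (hl : l * σ l = -1)
    (hX2 : ∀ v, X (X v) = (l * l) • v) (m : ℕ) (hm : 2 * m ≤ finrank F V) :
    ∃ W : Submodule F V, finrank F W = m ∧ TI B W ∧ InvS X W := by
  obtain ⟨-, h3⟩ := finrank_eig hB hN h2 hiso hl hX2
  obtain ⟨W, hWE, hWr⟩ := Cfsg.Agent.Lib.Helper99_InvSub.exists_le_finrank_eq' (eig X l) m
    (by omega)
  refine ⟨W, hWr, ?_, ?_⟩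
  · intro u hu v hv
    exact eig_le_orthS (B := B) h2 hiso hl (hWE hv) u (hWE hu)
  · intro v hv
    rw [mem_eig.1 (hWE hv)]
    exact W.smul_mem _ hv

end neg

section pos

theorem eig_orth (h2 : (2 : F) ≠ 0) {X : V →ₗ[F] V} (hiso : ∀ u v, B (X u) (X v) = B u v) {l : F}
    (hl : l * σ l = 1) {u v : V} (hu : u ∈ eig X l) (hv : v ∈ eig X (-l)) : B u v = 0 := by
  rw [mem_eig] at hu hv
  have h1 := hiso u v
  rw [hu, hv, map_smulₛₗ, map_smul, LinearMap.smul_apply, smul_eq_mul, smul_eq_mul, map_neg] at h1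
  have h3 : (2 : F) * B u v = 0 := by linear_combination (-1 : F) * h1 - B u v * hl
  exact (mul_eq_zero.1 h3).resolve_left h2

theorem nondeg_eig (hB : IsHerm B) (hN : NondegOn B ⊤) (h2 : (2 : F) ≠ 0) {X : V →ₗ[F] V}
    (hiso : ∀ u v, B (X u) (X v) = B u v) {l : F} (hl : l * σ l = 1)
    (hX2 : ∀ v, X (X v) = (l * l) • v) :
    NondegOn B (eig X l) ∧ NondegOn B (eig X (-l)) := by
  have hl0 : l ≠ 0 := by
    rintro rfl
    rw [zero_mul] at hl
    exact zero_ne_one hl
  have hc := eig_isCompl h2 hl0 hX2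
  constructor
  · intro x hx hx0
    obtain ⟨y, -, hy⟩ := hN x Submodule.mem_top hx0
    have hy' : y ∈ eig X l ⊔ eig X (-l) := by
      rw [hc.sup_eq_top]
      trivial
    obtain ⟨a, ha, b, hb, rfl⟩ := Submodule.mem_sup.1 hy'
    refine ⟨a, ha, ?_⟩
    rw [map_add, eig_orth h2 hiso hl hx hb, add_zero] at hy
    exact hy
  · intro x hx hx0
    obtain ⟨y, -, hy⟩ := hN x Submodule.mem_top hx0
    have hy' : y ∈ eig X l ⊔ eig X (-l) := by
      rw [hc.sup_eq_top]
      trivial
    obtain ⟨a, ha, b, hb, rfl⟩ := Submodule.mem_sup.1 hy'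
    refine ⟨b, hb, ?_⟩
    rw [map_add, herm_eq_zero hB (eig_orth h2 hiso hl ha hx), zero_add] at hy
    exact hy

variable [Finite F] [FiniteDimensional F V]

/-- `l * σ l = 1`: totally isotropic invariant subspaces of every dimension up to
`⌊dim V₊ / 2⌋ + ⌊dim V₋ / 2⌋`. -/
theorem exists_ti_inv_pos (hσ : Invol σ) (hB : IsHerm B) (hN : NondegOn B ⊤) (h2 : (2 : F) ≠ 0)
    {X : V →ₗ[F] V} (hiso : ∀ u v, B (X u) (X v) = B u v) {l : F} (hl : l * σ l = 1)
    (hX2 : ∀ v, X (X v) = (l * l) • v) (m : ℕ)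
    (hm : m ≤ finrank F (eig X l) / 2 + finrank F (eig X (-l)) / 2) :
    ∃ W : Submodule F V, finrank F W = m ∧ TI B W ∧ InvS X W := by
  have hl0 : l ≠ 0 := by
    rintro rfl
    rw [zero_mul] at hl
    exact zero_ne_one hl
  have hc := eig_isCompl h2 hl0 hX2
  obtain ⟨hn1, hn2⟩ := nondeg_eig hB hN h2 hiso hl hX2
  obtain ⟨m1, hm1⟩ : ∃ m1, m1 = min m (finrank F (eig X l) / 2) := ⟨_, rfl⟩
  obtain ⟨W1, hW1E, hW1r, hW1t⟩ := exists_ti hσ hB m1 _ hn1 (by omega)
  obtain ⟨W2, hW2E, hW2r, hW2t⟩ := exists_ti hσ hB (m - m1) _ hn2 (by omega)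
  refine ⟨W1 ⊔ W2, ?_, ?_, ?_⟩
  · have h1 := Submodule.finrank_sup_add_finrank_inf_eq W1 W2
    have h3 : W1 ⊓ W2 = ⊥ := by
      rw [eq_bot_iff, ← hc.inf_eq_bot]
      exact inf_le_inf hW1E hW2E
    rw [h3, finrank_bot, hW1r, hW2r] at h1
    omega
  · intro u hu v hv
    obtain ⟨a1, ha1, b1, hb1, rfl⟩ := Submodule.mem_sup.1 hu
    obtain ⟨a2, ha2, b2, hb2, rfl⟩ := Submodule.mem_sup.1 hv
    simp only [map_add, LinearMap.add_apply, hW1t a1 ha1 a2 ha2, hW2t b1 hb1 b2 hb2,
      eig_orth h2 hiso hl (hW1E ha1) (hW2E hb2),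
      herm_eq_zero hB (eig_orth h2 hiso hl (hW1E ha2) (hW2E hb1)), add_zero]
  · intro v hv
    obtain ⟨a, ha, b, hb, rfl⟩ := Submodule.mem_sup.1 hv
    rw [map_add, mem_eig.1 (hW1E ha), mem_eig.1 (hW2E hb)]
    exact Submodule.add_mem_sup (W1.smul_mem _ ha) (W2.smul_mem _ hb)

/-- a totally isotropic subspace orthogonal to a non-isotropic vector has dimension less than
half the dimension of the space -/
theorem ti_finrank_lt (hB : IsHerm B) (hN : NondegOn B ⊤) {W : Submodule F V} (hW : TI B W)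
    {e : V} (he : ∀ w ∈ W, B w e = 0) (hee : B e e ≠ 0) :
    2 * finrank F W + 1 ≤ finrank F V := by
  have heW : e ∉ W := fun h => hee (hW e h e h)
  have h1 : W ⊔ Submodule.span F {e} ≤ orthS B W := by
    refine sup_le ?_ ?_
    · intro v hv u hu
      exact hW u hu v hv
    · rw [Submodule.span_le]
      intro w hw
      rw [Set.mem_singleton_iff] at hw
      rw [hw]
      exact he
  have h3 := Submodule.finrank_mono h1
  rw [finrank_sup_span_of_notMem heW] at h3
  have h4 := finrank_orthS hB hN W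
  omega

end pos

end Cfsg.Agent.Lib.Helper84_SUTI_T2a
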