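import Mathlib
import Cfsg.Prelude.Def_Classical
import Cfsg.Agent.Lib.Helper84_SUND_UC
import Cfsg.Agent.Lib.Helper84_SUTI_T2a
import Cfsg.Agent.Lib.Helper94_HermBridge

set_option autoImplicit false

/-!
Case `r = 2 ≠ p` of S5953 (PSU_n(q) on totally isotropic `m`-spaces, `m ≤ n/2`), helper84:
every `x ∈ SU_n(q)` with `x²` scalar, `x` not scalar, fixes a totally isotropic `m`-space iff
`2m < n` or `(q+1)_2 ≤ (n)_2`.

For `x² = z = l²`: if `l^(q+1) = -1` the eigenspaces are totally isotropic of dimension `n/2`;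
if `l^(q+1) = 1` then `V = V₊ ⊥ V₋` and the maximal dimension is `⌊a/2⌋ + ⌊b/2⌋`; both `a, b`
odd forces `l^n = -1`, impossible when `(q+1)_2 ≤ (n)_2`.  Conversely `l • diag(-1, 1, …, 1)`
with `l^(q+1) = 1`, `l^n = -1` has no invariant totally isotropic `n/2`-space.
The abstract linear algebra is in `Helper84_SUTI_T2a` and `Helper84_SUND_UCa`.
-/

namespace Cfsg.Agent.Lib.Helper84_SUTI_T2

open scoped MatrixGroups
open Module Matrix Cfsg.Agent.Lib.Helper94_Herm Cfsg.Agent.Lib.Helper94_HermOrth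
  Cfsg.Agent.Lib.Helper94_HermBridge Cfsg.Agent.Lib.Helper84_SUND_UCa
  Cfsg.Agent.Lib.Helper84_SUND_UC Cfsg.Agent.Lib.Helper84_SUTI_T2a

section
variable {F : Type*} [Field F]

theorem arith_contra2 (h2 : (2 : F) ≠ 0) {q n : ℕ} {l : F}
    (hl : l ^ (q + 1) = 1) (hln : l ^ n = -1)
    (hv : padicValNat 2 (q + 1) ≤ padicValNat 2 n) : False := by
  have hq : 2 ^ padicValNat 2 (q + 1) * ((q + 1) / 2 ^ padicValNat 2 (q + 1)) = q + 1 :=
    Nat.ordProj_mul_ordCompl_eq_self (q + 1) 2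
  have hodd : ¬ 2 ∣ (q + 1) / 2 ^ padicValNat 2 (q + 1) :=
    Nat.not_dvd_ordCompl Nat.prime_two (by omega)
  have ht : 2 ^ padicValNat 2 (q + 1) ∣ n := (pow_dvd_pow 2 hv).trans (Nat.ordProj_dvd n 2)
  obtain ⟨t, htdef⟩ : ∃ t, t = 2 ^ padicValNat 2 (q + 1) := ⟨_, rfl⟩
  rw [← htdef] at hq hodd ht
  obtain ⟨s, hs⟩ := ht
  obtain ⟨o, ho⟩ : ∃ o, o = (q + 1) / t := ⟨_, rfl⟩
  rw [← ho] at hq hodd
  have e1 : n * o = (q + 1) * s := by
    rw [hs, ← hq]
    ring
  have h1 : l ^ (n * o) = -1 := by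
    rw [pow_mul, hln, Odd.neg_one_pow]
    rw [Nat.odd_iff]
    omega
  rw [e1, pow_mul, hl, one_pow] at h1
  apply h2
  linear_combination h1

end

section
variable {F : Type*} [Field F] [Fintype F]

theorem exists_l2 {q : ℕ} (hq : Fintype.card F = q ^ 2) {n : ℕ} (hn0 : n ≠ 0)
    (hv : padicValNat 2 n < padicValNat 2 (q + 1)) :
    ∃ l : F, l ^ (q + 1) = 1 ∧ l ^ n = -1 := by
  classical
  obtain ⟨a, ha⟩ : ∃ a, a = padicValNat 2 n := ⟨_, rfl⟩
  rw [← ha] at hv
  have hna : 2 ^ a * (n / 2 ^ a) = n := by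
    rw [ha]
    exact Nat.ordProj_mul_ordCompl_eq_self n 2
  have hoodd : ¬ 2 ∣ n / 2 ^ a := by
    rw [ha]
    exact Nat.not_dvd_ordCompl Nat.prime_two hn0
  obtain ⟨o, ho⟩ : ∃ o, o = n / 2 ^ a := ⟨_, rfl⟩
  rw [← ho] at hna hoodd
  have hd1 : 2 ^ (a + 1) ∣ q + 1 := (pow_dvd_pow 2 hv).trans (Nat.ordProj_dvd (q + 1) 2)
  have hq2 : 1 < q ^ 2 := by
    rw [← hq]
    exact Fintype.one_lt_card
  have hq1 : 1 ≤ q := by
    by_contra h
    have : q = 0 := by omega
    subst this
    simp at hq2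
  have hcard : q ^ 2 - 1 = (q - 1) * (q + 1) := by
    obtain ⟨t, rfl⟩ : ∃ t, q = t + 1 := ⟨q - 1, by omega⟩
    have : (t + 1) ^ 2 = t * (t + 1 + 1) + 1 := by ring
    rw [this]
    simp
  have hd : 2 ^ (a + 1) ∣ q ^ 2 - 1 := by
    rw [hcard]
    exact hd1.mul_left _
  obtain ⟨g, hg⟩ := IsCyclic.exists_ofOrder_eq_natCard (α := Fˣ)
  have hcu : Nat.card Fˣ = q ^ 2 - 1 := by
    rw [Nat.card_units, Nat.card_eq_fintype_card, hq]
  rw [hcu] at hg
  obtain ⟨u, hu⟩ : ∃ u : Fˣ, orderOf u = 2 ^ (a + 1) := by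
    refine ⟨g ^ (orderOf g / 2 ^ (a + 1)), orderOf_pow_orderOf_div ?_ ?_⟩
    · rw [hg]; omega
    · rw [hg]; exact hd
  have hu1 : ((u : F) ^ 2 ^ a) * ((u : F) ^ 2 ^ a) = 1 := by
    rw [← pow_add, ← two_mul, ← pow_succ', ← hu, ← Units.val_pow_eq_pow_val, pow_orderOf_eq_one,
      Units.val_one]
  have hu2 : (u : F) ^ 2 ^ a ≠ 1 := by
    intro h
    have h3 : u ^ 2 ^ a = 1 := by
      apply Units.ext
      rw [Units.val_pow_eq_pow_val, h, Units.val_one]
    have h4 := orderOf_dvd_of_pow_eq_one h3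
    rw [hu] at h4
    have h5 := Nat.le_of_dvd (by positivity) h4
    rw [pow_succ] at h5
    have : 0 < 2 ^ a := by positivity
    omega
  have hu3 : (u : F) ^ 2 ^ a = -1 := (mul_self_eq_one_iff.1 hu1).resolve_left hu2
  refine ⟨(u : F), ?_, ?_⟩
  · obtain ⟨s, hs⟩ := hd1
    rw [hs, pow_mul, ← hu, ← Units.val_pow_eq_pow_val, pow_orderOf_eq_one, Units.val_one, one_pow]
  · rw [← hna, pow_mul, hu3, Odd.neg_one_pow]
    rw [Nat.odd_iff]
    omega

end

section mat
open Matrix
variable {F : Type*} [Field F] {n : ℕ}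

/-- diagonal entries: `-l` at `j0`, `l` elsewhere -/
def dvec (j0 : Fin n) (l : F) (j : Fin n) : F := if j = j0 then -l else l

theorem dvec_mul_self (j0 : Fin n) (l : F) (j : Fin n) : dvec j0 l j * dvec j0 l j = l * l := by
  simp only [dvec]
  split_ifs <;> ring

theorem dvec_pow {q : ℕ} (hq : Odd q) (j0 : Fin n) {l : F} (hl : l ^ (q + 1) = 1) (j : Fin n) :
    dvec j0 l j ^ (q + 1) = 1 := by
  simp only [dvec]
  split_ifs
  · rw [Even.neg_pow (by
      obtain ⟨t, ht⟩ := hq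
      exact ⟨t + 1, by omega⟩), hl]
  · exact hl

theorem dmat_herm {q : ℕ} (hq : Odd q) (j0 : Fin n) {l : F} (hl : l ^ (q + 1) = 1)
    (u v : Fin n → F) :
    Cfsg.hermForm n F q (Matrix.diagonal (dvec j0 l) *ᵥ u) (Matrix.diagonal (dvec j0 l) *ᵥ v)
      = Cfsg.hermForm n F q u v := by
  simp only [Cfsg.hermForm, Matrix.mulVec_diagonal]
  refine Finset.sum_congr rfl (fun j _ => ?_)
  rw [mul_pow]
  calc dvec j0 l j * u j * (dvec j0 l j ^ q * v j ^ q)
      = dvec j0 l j ^ (q + 1) * (u j * v j ^ q) := by ring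
    _ = _ := by rw [dvec_pow hq j0 hl, one_mul]

theorem dmat_sq (j0 : Fin n) (l : F) :
    Matrix.diagonal (dvec j0 l) * Matrix.diagonal (dvec j0 l) = (l * l) • 1 := by
  rw [Matrix.diagonal_mul_diagonal]
  ext i j
  by_cases hij : i = j
  · subst hij
    simp [dvec_mul_self]
  · simp [hij]

theorem dmat_det (j0 : Fin n) (l : F) : (Matrix.diagonal (dvec j0 l)).det = -(l ^ n) := by
  rw [Matrix.det_diagonal]
  have h1 : ∀ j : Fin n, dvec j0 l j = l * (if j = j0 then (-1 : F) else 1) := by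
    intro j
    simp only [dvec]
    split_ifs <;> ring
  rw [Finset.prod_congr rfl (fun j _ => h1 j), Finset.prod_mul_distrib, Finset.prod_const,
    Finset.prod_ite_eq' Finset.univ j0 (fun _ => (-1 : F))]
  simp

theorem dmat_ne_smul (h2 : (2 : F) ≠ 0) (j0 j1 : Fin n) (hj : j1 ≠ j0) {l : F} (hl0 : l ≠ 0)
    (s : F) : Matrix.diagonal (dvec j0 l) ≠ s • (1 : Matrix (Fin n) (Fin n) F) := by
  intro h
  have h0 := congrFun (congrFun h j0) j0
  have h1 := congrFun (congrFun h j1) j1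
  simp only [Matrix.diagonal_apply_eq, Matrix.smul_apply, Matrix.one_apply_eq, smul_eq_mul,
    mul_one, dvec, if_pos, if_neg hj] at h0 h1
  apply mul_ne_zero h2 hl0
  linear_combination h1 - h0

end mat

/-- T2: case `r = 2 ≠ p` of S5953. -/
theorem T2 {F : Type*} [Field F] [Fintype F] {p : ℕ} [Fact p.Prime] [CharP F p] {q : ℕ} (hq : Fintype.card F = q ^ 2)
    (n m : ℕ) (hn : 3 ≤ n) (hm : 1 ≤ m) (hmn : 2 * m ≤ n) (hp2 : p ≠ 2) :
    (∀ x : Matrix.SpecialLinearGroup (Fin n) F, x ∈ Cfsg.SU n F q →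
      (∃ z : F, ((x ^ 2 : Matrix.SpecialLinearGroup (Fin n) F) : Matrix (Fin n) (Fin n) F) = z • (1 : Matrix (Fin n) (Fin n) F)) →
      (∀ z : F, (x : Matrix (Fin n) (Fin n) F) ≠ z • (1 : Matrix (Fin n) (Fin n) F)) →
      ∃ W : Submodule F (Fin n → F), Module.finrank F ↥W = m ∧ (∀ u ∈ W, ∀ v ∈ W, Cfsg.hermForm n F q u v = 0) ∧
        W.map (Matrix.toLin' (x : Matrix (Fin n) (Fin n) F)) ≤ W) ↔
    (2 * m < n ∨ padicValNat 2 (q + 1) ≤ padicValNat 2 n) := by
  classical
  obtain ⟨σ, hσq, hσ⟩ := exists_frob hq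
  have hB := hermB_isHerm (n := n) σ hσq hσ
  have hN := hermB_nondeg (n := n) σ hσq
  have h2 := two_ne_zero_F (F := F) hp2
  have hodd := q_odd hq hp2
  have hfr : finrank F (Fin n → F) = n := Module.finrank_fin_fun F
  have hq0 : q ≠ 0 := by
    rintro rfl
    obtain ⟨t, ht⟩ := hodd
    omega
  constructor
  · intro hL
    by_contra hR
    push Not at hR
    obtain ⟨hR1, hR2⟩ := hR
    have h2m : 2 * m = n := by omega
    obtain ⟨l, hl1, hln⟩ := exists_l2 hq (by omega : n ≠ 0) hR2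
    have hl0 : l ≠ 0 := by
      rintro rfl
      rw [zero_pow (by omega)] at hl1
      exact zero_ne_one hl1
    obtain ⟨j0, hj0⟩ : ∃ j0 : Fin n, j0 = ⟨0, by omega⟩ := ⟨_, rfl⟩
    obtain ⟨j1, hj1⟩ : ∃ j1 : Fin n, j1 = ⟨1, by omega⟩ := ⟨_, rfl⟩
    have hj10 : j1 ≠ j0 := by
      rw [hj0, hj1]
      intro h
      have := congrArg Fin.val h
      simp at this
    have hdet : (Matrix.diagonal (dvec j0 l)).det = 1 := by rw [dmat_det, hln, neg_neg]
    obtain ⟨x, hxdef⟩ : ∃ x : Matrix.SpecialLinearGroup (Fin n) F,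
        (x : Matrix (Fin n) (Fin n) F) = Matrix.diagonal (dvec j0 l) := ⟨⟨_, hdet⟩, rfl⟩
    have hxSU : x ∈ Cfsg.SU n F q := by
      intro u v
      show Cfsg.hermForm n F q ((x : Matrix (Fin n) (Fin n) F) *ᵥ u)
        ((x : Matrix (Fin n) (Fin n) F) *ᵥ v) = Cfsg.hermForm n F q u v
      rw [hxdef]
      exact dmat_herm hodd j0 hl1 u v
    obtain ⟨W, hWr, hWti, hWi⟩ := hL x hxSU ⟨l * l, by
        rw [Matrix.SpecialLinearGroup.coe_pow, pow_two, hxdef]
        exact dmat_sq j0 l⟩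
      (fun s => by
        rw [hxdef]
        exact dmat_ne_smul h2 j0 j1 hj10 hl0 s)
    rw [hxdef] at hWi
    have hW0 : ∀ w ∈ W, w j0 = 0 := by
      intro w hw
      have hxw : Matrix.diagonal (dvec j0 l) *ᵥ w ∈ W :=
        hWi ⟨w, hw, by rw [Matrix.toLin'_apply]⟩
      have hw'W : w - l⁻¹ • (Matrix.diagonal (dvec j0 l) *ᵥ w) ∈ W :=
        W.sub_mem hw (W.smul_mem _ hxw)
      have hw' : ∀ j, (w - l⁻¹ • (Matrix.diagonal (dvec j0 l) *ᵥ w)) j
          = if j = j0 then 2 * w j0 else 0 := by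
        intro j
        rw [Pi.sub_apply, Pi.smul_apply, Matrix.mulVec_diagonal, smul_eq_mul]
        by_cases hj : j = j0
        · subst hj
          simp only [dvec, if_pos]
          field_simp
          ring
        · simp only [dvec, if_neg hj]
          field_simp
          ring
      have h3 := hWti _ hw'W _ hw'W
      simp only [Cfsg.hermForm] at h3
      rw [Finset.sum_eq_single j0] at h3
      · rw [hw', if_pos rfl, ← pow_succ'] at h3
        have h4 := pow_eq_zero_iff (by omega : q + 1 ≠ 0) |>.1 h3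
        exact (mul_eq_zero.1 h4).resolve_left h2
      · intro j _ hj
        rw [hw', if_neg hj, zero_mul]
      · intro h
        exact absurd (Finset.mem_univ _) h
    have he : ∀ w ∈ W, hermB n σ hσq w (Pi.single j0 (1 : F)) = 0 := by
      intro w hw
      rw [hermB_apply]
      simp only [Cfsg.hermForm]
      rw [Finset.sum_eq_single j0]
      · rw [hW0 w hw, zero_mul]
      · intro j _ hj
        rw [Pi.single_eq_of_ne hj, zero_pow hq0, mul_zero]
      · intro h
        exact absurd (Finset.mem_univ _) h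
    have hee : hermB n σ hσq (Pi.single j0 (1 : F)) (Pi.single j0 (1 : F)) ≠ 0 := by
      rw [hermB_apply]
      simp only [Cfsg.hermForm]
      rw [Finset.sum_eq_single j0]
      · rw [Pi.single_eq_same, one_pow, mul_one]
        exact one_ne_zero
      · intro j _ hj
        rw [Pi.single_eq_of_ne hj, zero_mul]
      · intro h
        exact absurd (Finset.mem_univ _) h
    have hlt := ti_finrank_lt hB hN (W := W) (fun u hu v hv => hWti u hu v hv) he hee
    rw [hfr, hWr] at hlt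
    omega
  · intro hR x hx hz hns
    obtain ⟨z, hz⟩ := hz
    have hiso : ∀ u v, hermB n σ hσq (Matrix.toLin' (x : Matrix (Fin n) (Fin n) F) u)
        (Matrix.toLin' (x : Matrix (Fin n) (Fin n) F) v) = hermB n σ hσq u v := by
      intro u v
      rw [hermB_apply, hermB_apply, Matrix.toLin'_apply, Matrix.toLin'_apply]
      exact hx u v
    have hsq : (x : Matrix (Fin n) (Fin n) F) * (x : Matrix (Fin n) (Fin n) F) = z • 1 := by
      rw [← pow_two, ← Matrix.SpecialLinearGroup.coe_pow]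
      exact hz
    have hX2z : ∀ v, Matrix.toLin' (x : Matrix (Fin n) (Fin n) F)
        (Matrix.toLin' (x : Matrix (Fin n) (Fin n) F) v) = z • v := by
      intro v
      rw [Matrix.toLin'_apply, Matrix.toLin'_apply, Matrix.mulVec_mulVec, hsq,
        Matrix.smul_mulVec, Matrix.one_mulVec]
    have hzz : z * σ z = 1 := by
      have hx0 : (fun _ : Fin n => (1 : F)) ≠ 0 := by
        intro h
        have := congrFun h ⟨0, by omega⟩
        simp at this
      obtain ⟨y, -, hy⟩ := hN _ Submodule.mem_top hx0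
      have h1 := hiso (Matrix.toLin' (x : Matrix (Fin n) (Fin n) F) (fun _ : Fin n => (1 : F)))
        (Matrix.toLin' (x : Matrix (Fin n) (Fin n) F) y)
      rw [hiso (fun _ : Fin n => (1 : F)) y, hX2z, hX2z, map_smulₛₗ, map_smul,
        LinearMap.smul_apply, smul_eq_mul, smul_eq_mul, ← mul_assoc] at h1
      exact mul_right_cancel₀ hy (by rw [one_mul, mul_comm z, h1])
    have hz1 : z ^ (q + 1) = 1 := by rw [pow_succ', ← hσq, hzz]
    obtain ⟨l, hl⟩ := exists_sqrt hq hp2 hz1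
    subst hl
    have hl0 : l ≠ 0 := by
      rintro rfl
      rw [zero_mul, zero_mul] at hzz
      exact zero_ne_one hzz
    have hll : l ^ (q + 1) * l ^ (q + 1) = 1 := by rw [← mul_pow, hz1]
    have hfin : ∃ W : Submodule F (Fin n → F), finrank F W = m ∧ TI (hermB n σ hσq) W ∧
        InvS (Matrix.toLin' (x : Matrix (Fin n) (Fin n) F)) W := by
      rcases mul_self_eq_one_iff.1 hll with h1 | h1
      · have hlσ : l * σ l = 1 := by rw [hσq, ← pow_succ', h1]
        apply exists_ti_inv_pos hσ hB hN h2 hiso hlσ hX2z m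
        have hab := Submodule.finrank_add_eq_of_isCompl (eig_isCompl h2 hl0 hX2z)
        rw [hfr] at hab
        by_cases h2m : 2 * m < n
        · omega
        · have hR' : padicValNat 2 (q + 1) ≤ padicValNat 2 n := by
            rcases hR with h | h
            · exact absurd h h2m
            · exact h
          by_cases hb : Even (finrank F (eig (Matrix.toLin' (x : Matrix (Fin n) (Fin n) F)) (-l)))
          · obtain ⟨c, hc⟩ := hb
            omega
          · exfalso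
            rw [Nat.not_even_iff_odd] at hb
            have hdet := det_eq h2 hl0 hX2z
            rw [LinearMap.det_toLin', x.2, Odd.neg_pow hb, mul_neg, ← pow_add, hab] at hdet
            exact arith_contra2 h2 h1 (by linear_combination hdet) hR'
      · have hlσ : l * σ l = -1 := by rw [hσq, ← pow_succ', h1]
        exact exists_ti_inv_neg hB hN h2 hiso hlσ hX2z m (by rw [hfr]; exact hmn)
    obtain ⟨W, hWr, hWt, hWi⟩ := hfin
    refine ⟨W, hWr, fun u hu v hv => hWt u hu v hv, ?_⟩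
    rintro _ ⟨v, hv, rfl⟩
    exact hWi v hv

end Cfsg.Agent.Lib.Helper84_SUTI_T2
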