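import Mathlib
import Cfsg.Prelude.Def_Classical
import Cfsg.Agent.Lib.Helper84_SUTI_T2

set_option autoImplicit false

/-!
Package TA of S5953 (helper99's cut): the case `r = 2 ≠ p`, exact statement.  The proof is
`Cfsg.Agent.Lib.Helper84_SUTI_T2.T2` (helper84).
-/

namespace Cfsg.Agent.Lib.Helper84_SUTI_TA

open scoped MatrixGroups

/-- TA: case `r = 2 ≠ p`. -/
theorem TA {F : Type*} [Field F] [Fintype F] {p : ℕ} [Fact p.Prime] [CharP F p] {q : ℕ} (hq : Fintype.card F = q ^ 2)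
    (n m : ℕ) (hn : 3 ≤ n) (hm : 1 ≤ m) (hmn : 2 * m ≤ n) (hp2 : p ≠ 2) :
    (∀ x : Matrix.SpecialLinearGroup (Fin n) F, x ∈ Cfsg.SU n F q →
      (∃ z : F, ((x ^ 2 : Matrix.SpecialLinearGroup (Fin n) F) : Matrix (Fin n) (Fin n) F) = z • (1 : Matrix (Fin n) (Fin n) F)) →
      (∀ z : F, (x : Matrix (Fin n) (Fin n) F) ≠ z • (1 : Matrix (Fin n) (Fin n) F)) →
      ∃ W : Submodule F (Fin n → F), Module.finrank F ↥W = m ∧ (∀ u ∈ W, ∀ v ∈ W, Cfsg.hermForm n F q u v = 0) ∧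
        W.map (Matrix.toLin' (x : Matrix (Fin n) (Fin n) F)) ≤ W) ↔
    (2 * m < n ∨ padicValNat 2 (q + 1) ≤ padicValNat 2 n) :=
  Cfsg.Agent.Lib.Helper84_SUTI_T2.T2 hq n m hn hm hmn hp2

end Cfsg.Agent.Lib.Helper84_SUTI_TA
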