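import Mathlib
import Cfsg.Agent.Lib.Helper88_Biset7

/-!
# A twisted transfer of a right-free biset into a central extension (helper84)

Let `X` be a finite `(T × T)`-set on which `1 × T` acts freely, `q : G → Gb` a surjective
homomorphism with central kernel and `σ : T → G` a homomorphism.  Suppose that every point
stabilizer of `X` is "inner modulo `ker q`": for every `ξ` there is `γ : Gb` with
`q (σ a) * γ = γ * q (σ b)` for all `(a, b)` fixing `ξ`.  Then there is a homomorphism
`d : T → ker q` (a transfer twisted by a cocycle) such that `d y * (σ y ^ n)⁻¹` takes the same value on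
two elements `y, y'` with `σ y, σ y'` central which are exchanged by an automorphism of the right
`T`-set `X`.  Here `n` is the number of right orbits.
-/

set_option autoImplicit false
set_option linter.style.haveILetI false

namespace Cfsg.Agent.Lib.Helper84_TateCore

open MulAction Cfsg.Agent.Lib.Helper88_Biset7

open scoped IsMulCommutative

universe u v w

variable {T : Type u} [Group T] {X : Type v} [MulAction (T × T) X]

/-! ### Basic identities in the product action -/

theorem left_right_comm (s t : T) (x : X) :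
    ((s, (1 : T)) : T × T) • ((1 : T), t) • x = ((1 : T), t) • ((s, (1 : T)) : T × T) • x := by
  rw [← mul_smul, ← mul_smul]
  congr 1
  ext <;> simp

theorem left_left (s s' : T) (x : X) :
    ((s, (1 : T)) : T × T) • ((s', (1 : T)) : T × T) • x = ((s * s', (1 : T)) : T × T) • x := by
  rw [← mul_smul]
  congr 1
  ext <;> simp

/-! ### Products over the right orbits -/

section RProd

variable {Z : Type w} [CommGroup Z] [Fintype (ROrb T X)]

variable (T) in
/-- The product of the values of `f` on chosen representatives of the right orbits. -/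
noncomputable def rprod (f : X → Z) : Z := ∏ O : ROrb T X, f (Quotient.out O)

theorem rprod_mul (f g : X → Z) :
    rprod T (fun x => f x * g x) = rprod T f * rprod T g := Finset.prod_mul_distrib

theorem rprod_inv (f : X → Z) : rprod T (fun x => (f x)⁻¹) = (rprod T f)⁻¹ :=
  Finset.prod_inv_distrib _

theorem rprod_const (z : Z) : rprod T (fun _ : X => z) = z ^ Fintype.card (ROrb T X) := by
  unfold rprod
  rw [Finset.prod_const, Finset.card_univ]

theorem rprod_congr {f g : X → Z} (h : ∀ x, f x = g x) : rprod T f = rprod T g := by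
  unfold rprod
  exact Finset.prod_congr rfl (fun O _ => h _)

/-- Reindexing the product along a surjective map commuting with the right action. -/
theorem rprod_comp (f : X → Z) (hf : ∀ (t : T) (x : X), f (((1 : T), t) • x) = f x) (θ : X → X)
    (hθ : ∀ (t : T) (x : X), θ (((1 : T), t) • x) = ((1 : T), t) • θ x)
    (hsurj : Function.Surjective θ) : rprod T (fun x => f (θ x)) = rprod T f := by
  classical
  set θb : ROrb T X → ROrb T X := Quotient.map θ (by
    rintro a b ⟨t, rfl⟩
    exact ⟨t, (hθ t a).symm⟩) with hθb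
  have hsb : Function.Surjective θb := by
    intro O
    induction O using Quotient.inductionOn with
    | h y =>
      obtain ⟨x, rfl⟩ := hsurj y
      exact ⟨Quotient.mk _ x, rfl⟩
  have hbij : Function.Bijective θb := Finite.surjective_iff_bijective.1 hsb
  have key : ∀ O : ROrb T X, f (θ (Quotient.out O)) = f (Quotient.out (θb O)) := by
    intro O
    have h1 : Quotient.mk (rsetoid T X) (θ (Quotient.out O)) =
        Quotient.mk (rsetoid T X) (Quotient.out (θb O)) := by
      rw [Quotient.out_eq]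
      conv_rhs => rw [← Quotient.out_eq O]
      rfl
    obtain ⟨t, ht⟩ := Quotient.exact h1
    rw [← ht, hf]
  unfold rprod
  rw [Finset.prod_congr rfl (fun O _ => key O)]
  exact hbij.prod_comp (fun O => f (Quotient.out O))

end RProd

/-! ### A twisted conjugation function from inner stabilizers -/

section Rho

variable {Gb : Type w} [Group Gb] (π : T →* Gb)

theorem rho_wd {ξ : X} {γ : Gb} (hγ : ∀ a b : T, ((a, b) : T × T) • ξ = ξ → π a * γ = γ * π b)
    {g g' : T × T} (h : g • ξ = g' • ξ) :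
    π g.1 * γ * (π g.2)⁻¹ = π g'.1 * γ * (π g'.2)⁻¹ := by
  have h1 : ((g'.1⁻¹ * g.1, g'.2⁻¹ * g.2) : T × T) • ξ = ξ := by
    have : ((g'.1⁻¹ * g.1, g'.2⁻¹ * g.2) : T × T) = g'⁻¹ * g := by ext <;> simp
    rw [this, mul_smul, h, ← mul_smul, inv_mul_cancel, one_smul]
  have h2 := hγ _ _ h1
  rw [map_mul, map_mul, map_inv, map_inv] at h2
  have h3 : π g.1 * γ = π g'.1 * γ * ((π g'.2)⁻¹ * π g.2) := by
    rw [mul_assoc (π g'.1), ← h2]
    group
  rw [h3]
  group

/-- If all point stabilizers are inner via `π`, there is a function `ρ : X → Gb` with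
`ρ ((s, t) • x) = π s * ρ x * (π t)⁻¹`. -/
theorem exists_rho
    (hstab : ∀ ξ : X, ∃ γ : Gb, ∀ a b : T, ((a, b) : T × T) • ξ = ξ → π a * γ = γ * π b) :
    ∃ ρ : X → Gb, ∀ (s t : T) (x : X), ρ (((s, t) : T × T) • x) = π s * ρ x * (π t)⁻¹ := by
  classical
  choose γ hγ using hstab
  -- orbit representatives
  set r : X → X := fun x => Quotient.out (Quotient.mk (orbitRel (T × T) X) x) with hr
  have hr1 : ∀ x : X, ∃ g : T × T, g • r x = x := by
    intro x
    have h1 : Quotient.mk (orbitRel (T × T) X) (r x) = Quotient.mk (orbitRel (T × T) X) x :=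
      Quotient.out_eq _
    have h2 : x ∈ orbit (T × T) (r x) := by
      have h3 := Quotient.exact h1
      exact (orbitRel (T × T) X).symm h3
    exact h2
  have hr2 : ∀ (g : T × T) (x : X), r (g • x) = r x := by
    intro g x
    have : Quotient.mk (orbitRel (T × T) X) (g • x) = Quotient.mk (orbitRel (T × T) X) x :=
      Quotient.sound ⟨g, rfl⟩
    simp only [hr, this]
  choose c hc using hr1
  refine ⟨fun x => π (c x).1 * γ (r x) * (π (c x).2)⁻¹, ?_⟩
  intro s t x
  have h1 : c (((s, t) : T × T) • x) • r x = (((s, t) : T × T) * c x) • r x := by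
    have h2 := hc (((s, t) : T × T) • x)
    rw [hr2] at h2
    rw [h2, mul_smul, hc]
  have h3 := rho_wd π (hγ (r x)) h1
  show π (c (((s, t) : T × T) • x)).1 * γ (r (((s, t) : T × T) • x)) *
    (π (c (((s, t) : T × T) • x)).2)⁻¹ = _
  rw [hr2, h3]
  simp only [Prod.fst_mul, Prod.snd_mul, map_mul, mul_inv_rev]
  group

end Rho

/-! ### Central parts -/

section Cz

variable {G : Type w} [Group G]

/-- The element `g` as an element of the centre, or `1` if it is not central. -/
noncomputable def cz (g : G) : Subgroup.center G := by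
  classical exact if h : g ∈ Subgroup.center G then ⟨g, h⟩ else 1

theorem cz_of_mem {g : G} (h : g ∈ Subgroup.center G) : cz g = ⟨g, h⟩ := by
  unfold cz
  rw [dif_pos h]

theorem coe_cz {g : G} (h : g ∈ Subgroup.center G) : ((cz g : Subgroup.center G) : G) = g := by
  rw [cz_of_mem h]

theorem cz_mul {a b : G} (ha : a ∈ Subgroup.center G) (hb : b ∈ Subgroup.center G) :
    cz (a * b) = cz a * cz b := by
  rw [cz_of_mem ha, cz_of_mem hb, cz_of_mem (Subgroup.mul_mem _ ha hb)]
  rfl

theorem cz_inv {a : G} (ha : a ∈ Subgroup.center G) : cz a⁻¹ = (cz a)⁻¹ := by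
  rw [cz_of_mem ha, cz_of_mem (Subgroup.inv_mem _ ha)]
  rfl

theorem comm_of_mem_center {z : G} (hz : z ∈ Subgroup.center G) (g : G) : z * g = g * z :=
  ((Subgroup.mem_center_iff.1 hz) g).symm

end Cz

/-! ### Right equivariant functions and their central defects -/

section Eps

variable {G : Type w} [Group G] (σ : T →* G)

/-- `τ` is right equivariant: `τ (x · t⁻¹) = τ x * σ t⁻¹`. -/
def RightEq (τ : X → G) : Prop := ∀ (t : T) (x : X), τ (((1 : T), t) • x) = τ x * (σ t)⁻¹

/-- The defect of left invariance of `τ` under `y`. -/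
def eps (τ : X → G) (y : T) (x : X) : G := (τ (((y, (1 : T)) : T × T) • x))⁻¹ * τ x

variable {σ}

theorem eps_smul {τ : X → G} (hτ : RightEq σ τ) {y : T} {x : X}
    (hc : eps τ y x ∈ Subgroup.center G) (t : T) : eps τ y (((1 : T), t) • x) = eps τ y x := by
  unfold eps at hc ⊢
  rw [left_right_comm, hτ, hτ, mul_inv_rev, inv_inv]
  have h1 := comm_of_mem_center hc (σ t)⁻¹
  calc σ t * (τ (((y, (1 : T)) : T × T) • x))⁻¹ * (τ x * (σ t)⁻¹)
      = σ t * ((τ (((y, (1 : T)) : T × T) • x))⁻¹ * τ x * (σ t)⁻¹) := by group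
    _ = σ t * ((σ t)⁻¹ * ((τ (((y, (1 : T)) : T × T) • x))⁻¹ * τ x)) := by rw [h1]
    _ = (τ (((y, (1 : T)) : T × T) • x))⁻¹ * τ x := by group

variable [Fintype (ROrb T X)]

/-- The product of the central defects over the right orbits. -/
noncomputable def EE (τ : X → G) (y : T) : Subgroup.center G := rprod T (fun x => cz (eps τ y x))

/-- The product of the central defects does not depend on the right equivariant function. -/
theorem EE_indep {τ₁ τ₂ : X → G} (h₁ : RightEq σ τ₁) (h₂ : RightEq σ τ₂) (y : T)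
    (hc₁ : ∀ x, eps τ₁ y x ∈ Subgroup.center G) (hc₂ : ∀ x, eps τ₂ y x ∈ Subgroup.center G) :
    EE (T := T) τ₁ y = EE (T := T) τ₂ y := by
  classical
  set b : X → G := fun x => τ₂ x * (τ₁ x)⁻¹ with hb
  have hbr : ∀ (t : T) (x : X), b (((1 : T), t) • x) = b x := by
    intro t x
    simp only [hb]
    rw [h₁, h₂]
    group
  -- the central defect of `b`
  have hbc : ∀ x, (b (((y, (1 : T)) : T × T) • x))⁻¹ * b x = eps τ₂ y x * (eps τ₁ y x)⁻¹ := by
    intro x
    have h3 := comm_of_mem_center (hc₂ x) (τ₁ (((y, (1 : T)) : T × T) • x))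
    have h7 := comm_of_mem_center (Subgroup.inv_mem _ (hc₁ x)) (τ₁ x)
    have h8 : τ₁ (((y, (1 : T)) : T × T) • x) * (τ₁ x)⁻¹ = (eps τ₁ y x)⁻¹ := by
      calc τ₁ (((y, (1 : T)) : T × T) • x) * (τ₁ x)⁻¹
          = (τ₁ x * (eps τ₁ y x)⁻¹) * (τ₁ x)⁻¹ := by unfold eps; group
        _ = (eps τ₁ y x)⁻¹ * τ₁ x * (τ₁ x)⁻¹ := by rw [h7]
        _ = (eps τ₁ y x)⁻¹ := by group
    simp only [hb]
    calc (τ₂ (((y, (1 : T)) : T × T) • x) * (τ₁ (((y, (1 : T)) : T × T) • x))⁻¹)⁻¹ *
          (τ₂ x * (τ₁ x)⁻¹)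
        = τ₁ (((y, (1 : T)) : T × T) • x) * eps τ₂ y x * (τ₁ x)⁻¹ := by unfold eps; group
      _ = eps τ₂ y x * τ₁ (((y, (1 : T)) : T × T) • x) * (τ₁ x)⁻¹ := by rw [← h3]
      _ = eps τ₂ y x * (τ₁ (((y, (1 : T)) : T × T) • x) * (τ₁ x)⁻¹) := by group
      _ = _ := by rw [h8]
  have hbc' : ∀ x, (b (((y, (1 : T)) : T × T) • x))⁻¹ * b x ∈ Subgroup.center G := by
    intro x
    rw [hbc]
    exact Subgroup.mul_mem _ (hc₂ x) (Subgroup.inv_mem _ (hc₁ x))
  set o : X → G := fun x => Quotient.out (QuotientGroup.mk (b x) : G ⧸ Subgroup.center G) with ho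
  have hor : ∀ (t : T) (x : X), o (((1 : T), t) • x) = o x := by
    intro t x
    simp only [ho, hbr]
  have hol : ∀ x, o (((y, (1 : T)) : T × T) • x) = o x := by
    intro x
    simp only [ho]
    congr 1
    exact QuotientGroup.eq.2 (hbc' x)
  have hz : ∀ x, (o x)⁻¹ * b x ∈ Subgroup.center G := by
    intro x
    obtain ⟨h, hh⟩ := QuotientGroup.mk_out_eq_mul (Subgroup.center G) (b x)
    simp only [ho]
    rw [hh, mul_inv_rev, inv_mul_cancel_right]
    exact Subgroup.inv_mem _ h.2
  set ζ : X → Subgroup.center G := fun x => ⟨(o x)⁻¹ * b x, hz x⟩ with hζ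
  have hζr : ∀ (t : T) (x : X), ζ (((1 : T), t) • x) = ζ x := by
    intro t x
    apply Subtype.ext
    show (o (((1 : T), t) • x))⁻¹ * b (((1 : T), t) • x) = (o x)⁻¹ * b x
    rw [hor, hbr]
  have hkey : ∀ x, cz (eps τ₂ y x) =
      cz (eps τ₁ y x) * ((ζ (((y, (1 : T)) : T × T) • x))⁻¹ * ζ x) := by
    intro x
    apply Subtype.ext
    rw [coe_cz (hc₂ x)]
    show _ = ((cz (eps τ₁ y x) : Subgroup.center G) : G) *
      (((o (((y, (1 : T)) : T × T) • x))⁻¹ * b (((y, (1 : T)) : T × T) • x))⁻¹ * ((o x)⁻¹ * b x))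
    rw [coe_cz (hc₁ x), hol]
    have h4 : ((o x)⁻¹ * b (((y, (1 : T)) : T × T) • x))⁻¹ * ((o x)⁻¹ * b x) =
        (b (((y, (1 : T)) : T × T) • x))⁻¹ * b x := by group
    rw [h4, hbc]
    have h5 := comm_of_mem_center (hc₁ x) (eps τ₂ y x * (eps τ₁ y x)⁻¹)
    rw [h5]
    group
  unfold EE
  rw [rprod_congr hkey, rprod_mul, rprod_mul, rprod_inv,
    rprod_comp ζ hζr (fun x => ((y, (1 : T)) : T × T) • x) (fun t x => left_right_comm y t x)
      (MulAction.surjective _)]
  group

/-- Transport of the product of central defects along an automorphism of the right `T`-set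
intertwining the left actions of `y` and `y'`. -/
theorem EE_eq_of_equiv {τ : X → G} (hτ : RightEq σ τ) {y y' : T}
    (hc : ∀ x, eps τ y x ∈ Subgroup.center G) (hc' : ∀ x, eps τ y' x ∈ Subgroup.center G)
    (θ : X → X) (hθs : Function.Surjective θ)
    (hθr : ∀ (t : T) (x : X), θ (((1 : T), t) • x) = ((1 : T), t) • θ x)
    (hθl : ∀ x : X, θ (((y, (1 : T)) : T × T) • x) = ((y', (1 : T)) : T × T) • θ x) :
    EE (T := T) τ y = EE (T := T) τ y' := by
  have h1 : RightEq σ (fun x => τ (θ x)) := by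
    intro t x
    show τ (θ (((1 : T), t) • x)) = τ (θ x) * (σ t)⁻¹
    rw [hθr, hτ]
  have h2 : ∀ x, eps (fun x => τ (θ x)) y x = eps τ y' (θ x) := by
    intro x
    show (τ (θ (((y, (1 : T)) : T × T) • x)))⁻¹ * τ (θ x) = _
    rw [hθl]
    rfl
  have h3 : ∀ x, eps (fun x => τ (θ x)) y x ∈ Subgroup.center G := by
    intro x
    rw [h2]
    exact hc' _
  rw [EE_indep hτ h1 y hc h3]
  unfold EE
  rw [rprod_congr (fun x => by rw [h2 x])]
  exact rprod_comp (fun x => cz (eps τ y' x))
    (fun t x => by rw [eps_smul hτ (hc' x)]) θ hθr hθs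

end Eps

/-! ### The cocycle and the twisted transfer -/

section Transfer

variable {G : Type w} [Group G] (σ : T →* G)

/-- The cocycle `D (s, x) = τ (s x)⁻¹ * σ s * τ x`. -/
def DD (τ : X → G) (s : T) (x : X) : G := (τ (((s, (1 : T)) : T × T) • x))⁻¹ * σ s * τ x

variable {σ}

theorem DD_smul {τ : X → G} (hτ : RightEq σ τ) {s : T} {x : X}
    (hc : DD σ τ s x ∈ Subgroup.center G) (t : T) :
    DD σ τ s (((1 : T), t) • x) = DD σ τ s x := by
  unfold DD at hc ⊢
  rw [left_right_comm, hτ, hτ, mul_inv_rev, inv_inv]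
  have h1 := comm_of_mem_center hc (σ t)⁻¹
  calc σ t * (τ (((s, (1 : T)) : T × T) • x))⁻¹ * σ s * (τ x * (σ t)⁻¹)
      = σ t * ((τ (((s, (1 : T)) : T × T) • x))⁻¹ * σ s * τ x * (σ t)⁻¹) := by group
    _ = σ t * ((σ t)⁻¹ * ((τ (((s, (1 : T)) : T × T) • x))⁻¹ * σ s * τ x)) := by rw [h1]
    _ = (τ (((s, (1 : T)) : T × T) • x))⁻¹ * σ s * τ x := by group

theorem DD_mul (τ : X → G) (s₁ s₂ : T) (x : X) :
    DD σ τ (s₁ * s₂) x = DD σ τ s₁ (((s₂, (1 : T)) : T × T) • x) * DD σ τ s₂ x := by
  unfold DD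
  rw [left_left, map_mul]
  group

theorem DD_eq_of_central (τ : X → G) {y : T} (hy : σ y ∈ Subgroup.center G) (x : X) :
    DD σ τ y x = σ y * eps τ y x := by
  unfold DD eps
  have h1 := comm_of_mem_center hy (τ (((y, (1 : T)) : T × T) • x))⁻¹
  rw [← mul_assoc, h1]

theorem eps_mem_center {τ : X → G} {y : T} (hy : σ y ∈ Subgroup.center G) {x : X}
    (hc : DD σ τ y x ∈ Subgroup.center G) : eps τ y x ∈ Subgroup.center G := by
  have h1 : eps τ y x = (σ y)⁻¹ * DD σ τ y x := by
    rw [DD_eq_of_central τ hy, inv_mul_cancel_left]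
  rw [h1]
  exact Subgroup.mul_mem _ (Subgroup.inv_mem _ hy) hc

variable [Fintype (ROrb T X)]

/-- The twisted transfer, with values in the centre. -/
noncomputable def dd (τ : X → G) (hτ : RightEq σ τ)
    (hc : ∀ (s : T) (x : X), DD σ τ s x ∈ Subgroup.center G) : T →* Subgroup.center G :=
  MonoidHom.mk' (fun s => rprod T (fun x => cz (DD σ τ s x))) (by
    intro s₁ s₂
    have h1 : ∀ x, cz (DD σ τ (s₁ * s₂) x) =
        cz (DD σ τ s₁ (((s₂, (1 : T)) : T × T) • x)) * cz (DD σ τ s₂ x) := by
      intro x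
      rw [DD_mul, cz_mul (hc _ _) (hc _ _)]
    rw [rprod_congr h1, rprod_mul,
      rprod_comp (fun x => cz (DD σ τ s₁ x)) (fun t x => by rw [DD_smul hτ (hc _ _)])
        (fun x => ((s₂, (1 : T)) : T × T) • x) (fun t x => left_right_comm s₂ t x)
        (MulAction.surjective _)])

theorem dd_apply (τ : X → G) (hτ : RightEq σ τ)
    (hc : ∀ (s : T) (x : X), DD σ τ s x ∈ Subgroup.center G) (s : T) :
    dd τ hτ hc s = rprod T (fun x => cz (DD σ τ s x)) := rfl

theorem dd_of_central (τ : X → G) (hτ : RightEq σ τ)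
    (hc : ∀ (s : T) (x : X), DD σ τ s x ∈ Subgroup.center G) {y : T}
    (hy : σ y ∈ Subgroup.center G) :
    dd τ hτ hc y = cz (σ y) ^ Fintype.card (ROrb T X) * EE (T := T) τ y := by
  rw [dd_apply, ← rprod_const (T := T) (X := X), EE, ← rprod_mul]
  apply rprod_congr
  intro x
  rw [DD_eq_of_central τ hy, cz_mul hy (eps_mem_center hy (hc _ _))]

end Transfer

/-! ### The main theorem -/

section Main

universe w'

variable (hfree : ∀ (x : X) (t : T), ((1 : T), t) • x = x → t = 1)

include hfree in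
/-- The number of points is the number of right orbits times the order of `T`. -/
theorem card_eq_card_rorb_mul : Nat.card X = Nat.card (ROrb T X) * Nat.card T := by
  rw [← Nat.card_prod]
  apply Nat.card_congr
  refine ⟨fun x => (Quotient.mk _ x, coord (T := T) x),
    fun Ot => ((1 : T), Ot.2) • Quotient.out Ot.1, ?_, ?_⟩
  · intro x
    exact coord_spec (T := T) x
  · rintro ⟨O, t⟩
    have h1 : Quotient.mk (rsetoid T X) (((1 : T), t) • Quotient.out O) = O := by
      rw [mk_smul, Quotient.out_eq]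
    have h2 : coord (T := T) (Quotient.out O) = 1 := by
      have h3 := coord_spec (T := T) (Quotient.out O)
      have h4 : rep (T := T) (Quotient.out O) = Quotient.out O := by
        unfold rep
        rw [Quotient.out_eq]
      rw [h4] at h3
      exact hfree _ _ h3
    apply Prod.ext
    · exact h1
    · show coord (T := T) (((1 : T), t) • Quotient.out O) = t
      rw [coord_smul hfree, h2, mul_one]

variable {G : Type w} [Group G] {Gb : Type w'} [Group Gb]

include hfree in
/-- **The twisted transfer of a right-free biset into a central extension.** -/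
theorem exists_twisted_transfer [Finite X] (q : G →* Gb) (hq : Function.Surjective q)
    (hker : q.ker ≤ Subgroup.center G) (σ : T →* G)
    (hstab : ∀ ξ : X, ∃ γ : Gb, ∀ a b : T, ((a, b) : T × T) • ξ = ξ →
      q (σ a) * γ = γ * q (σ b)) :
    ∃ d : T →* G, (∀ s, q (d s) = 1) ∧
      ∀ y y' : T, σ y ∈ Subgroup.center G → σ y' ∈ Subgroup.center G →
        ∀ θ : X → X, Function.Surjective θ →
          (∀ (t : T) (x : X), θ (((1 : T), t) • x) = ((1 : T), t) • θ x) →
          (∀ x : X, θ (((y, (1 : T)) : T × T) • x) = ((y', (1 : T)) : T × T) • θ x) →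
          d y * (σ y ^ Nat.card (ROrb T X))⁻¹ = d y' * (σ y' ^ Nat.card (ROrb T X))⁻¹ := by
  classical
  letI : Fintype (ROrb T X) := Fintype.ofFinite _
  obtain ⟨ρ, hρ⟩ := exists_rho (q.comp σ) hstab
  have hρr : ∀ (t : T) (x : X), ρ (((1 : T), t) • x) = ρ x * (q (σ t))⁻¹ := by
    intro t x
    rw [hρ, map_one, one_mul]
    rfl
  have hρl : ∀ (s : T) (x : X), ρ (((s, (1 : T)) : T × T) • x) = q (σ s) * ρ x := by
    intro s x
    rw [hρ, map_one, inv_one, mul_one]
    rfl
  set τ : X → G := fun x =>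
    Function.surjInv hq (ρ (rep (T := T) x)) * (σ (coord (T := T) x))⁻¹ with hτdef
  have hτ : RightEq σ τ := by
    intro t x
    simp only [hτdef]
    rw [rep_eq_of_mk_eq (mk_smul t x), coord_smul hfree, map_mul, mul_inv_rev, mul_assoc]
  have hqτ : ∀ x, q (τ x) = ρ x := by
    intro x
    simp only [hτdef]
    rw [map_mul, Function.surjInv_eq hq, map_inv, ← hρr, coord_spec]
  have hD : ∀ (s : T) (x : X), DD σ τ s x ∈ Subgroup.center G := by
    intro s x
    apply hker
    rw [MonoidHom.mem_ker]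
    unfold DD
    rw [map_mul, map_mul, map_inv, hqτ, hqτ, hρl]
    group
  refine ⟨(Subgroup.center G).subtype.comp (dd τ hτ hD), ?_, ?_⟩
  · intro s
    rw [MonoidHom.comp_apply, dd_apply]
    unfold rprod
    rw [← MonoidHom.comp_apply]
    show _ ∈ (q.comp (Subgroup.center G).subtype).ker
    apply Subgroup.prod_mem
    intro O _
    rw [MonoidHom.mem_ker, MonoidHom.comp_apply, Subgroup.subtype_apply, coe_cz (hD _ _)]
    unfold DD
    rw [map_mul, map_mul, map_inv, hqτ, hqτ, hρl]
    group
  · intro y y' hy hy' θ hθs hθr hθl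
    have hval : ∀ z : T, σ z ∈ Subgroup.center G →
        (Subgroup.center G).subtype.comp (dd τ hτ hD) z * (σ z ^ Nat.card (ROrb T X))⁻¹ =
          ((EE (T := T) τ z : Subgroup.center G) : G) := by
      intro z hz
      rw [MonoidHom.comp_apply, dd_of_central τ hτ hD hz, Subgroup.subtype_apply,
        Subgroup.coe_mul, Subgroup.coe_pow, coe_cz hz, Nat.card_eq_fintype_card]
      have h1 := comm_of_mem_center (Subgroup.pow_mem _ hz (Fintype.card (ROrb T X)))
        ((EE (T := T) τ z : Subgroup.center G) : G)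
      rw [h1, mul_inv_cancel_right]
    rw [hval y hy, hval y' hy']
    congr 1
    exact EE_eq_of_equiv hτ (fun x => eps_mem_center hy (hD _ _))
      (fun x => eps_mem_center hy' (hD _ _)) θ hθs hθr hθl

end Main

end Cfsg.Agent.Lib.Helper84_TateCore
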