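import Mathlib
import Cfsg.Agent.Lib.Helper88_Marks

/-!
# Marks of coset spaces and disjoint unions (helper88)

General facts about the marks `|X^K|` of a finite `G`-set `X`:
pulled-back actions, conjugation invariance, coset spaces `G ⧸ Δ`, and disjoint unions
`Σ j, G ⧸ D j`.
-/

set_option autoImplicit false
set_option linter.style.haveILetI false

namespace Cfsg.Agent.Lib.Helper88_Biset1

open MulAction Cfsg.Agent.Lib.Helper88_Marks

variable {G : Type*} [Group G]

section CompHom

variable {W : Type*} [Group W] {X : Type*} [MulAction G X]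

/-- The mark of `H` for the action pulled back along `f` is the mark of the image of `H`. -/
theorem mark_compHom (f : W →* G) (H : Subgroup W) :
    @mark W _ X (MulAction.compHom X f) H = mark G X (H.map f) := by
  letI : MulAction W X := MulAction.compHom X f
  unfold mark
  apply Nat.card_congr
  refine Equiv.subtypeEquivRight (fun x => ?_)
  constructor
  · rintro h ⟨_, w, hw, rfl⟩
    exact h ⟨w, hw⟩
  · intro h w
    exact h ⟨f w, w, w.2, rfl⟩

/-- Burnside's theorem for two actions of `W` on `X` pulled back from `G`. -/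
theorem exists_equiv_of_marks_hom [Finite W] [Finite X] (f₁ f₂ : W →* G)
    (h : ∀ H : Subgroup W, mark G X (H.map f₁) = mark G X (H.map f₂)) :
    ∃ e : X ≃ X, ∀ (w : W) (x : X), e (f₁ w • x) = f₂ w • e x := by
  have := @exists_equiv_of_marks W _ X X (MulAction.compHom X f₁) (MulAction.compHom X f₂) _ _ _
    (fun L => by rw [mark_compHom, mark_compHom]; exact h L)
  exact this

/-- The congruence of marks for two actions of `W` on `X` pulled back from `G`. -/
theorem mark_modEq_of_hom [Finite W] [Finite X] (f₁ f₂ : W →* G) (K : Subgroup W) [K.Normal]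
    (h : ∀ H : Subgroup W, K < H → mark G X (H.map f₁) = mark G X (H.map f₂)) :
    mark G X (K.map f₁) ≡ mark G X (K.map f₂) [MOD K.index] := by
  have := @mark_modEq_of_marks W _ X X (MulAction.compHom X f₁) (MulAction.compHom X f₂) _ _ _ K _
    (fun H hH => by rw [mark_compHom, mark_compHom]; exact h H hH)
  rwa [mark_compHom, mark_compHom] at this

end CompHom

section Conj

variable {X : Type*} [MulAction G X]

theorem smul_mem_fixedPoints_iff (g : G) (K : Subgroup G) (x : X) :
    g⁻¹ • x ∈ fixedPoints K X ↔ x ∈ fixedPoints (K.map (MulAut.conj g).toMonoidHom) X := by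
  constructor
  · rintro h ⟨_, k, hk, rfl⟩
    have h1 : k • g⁻¹ • x = g⁻¹ • x := h ⟨k, hk⟩
    show (g * k * g⁻¹) • x = x
    rw [mul_smul, mul_smul, h1, smul_inv_smul]
  · intro h k
    have h1 : (g * (k : G) * g⁻¹) • x = x := h ⟨g * k * g⁻¹, k, k.2, rfl⟩
    show (k : G) • g⁻¹ • x = g⁻¹ • x
    rw [mul_smul, mul_smul] at h1
    have h2 := congrArg (fun y => g⁻¹ • y) h1
    simpa using h2

/-- Marks are invariant under conjugation. -/
theorem mark_map_conj [Finite X] (g : G) (K : Subgroup G) :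
    mark G X (K.map (MulAut.conj g).toMonoidHom) = mark G X K := by
  unfold mark
  apply Nat.card_congr
  exact Equiv.subtypeEquiv (MulAction.toPerm g⁻¹)
    (fun x => (smul_mem_fixedPoints_iff g K x).symm)

end Conj

section Coset

variable (Δ K : Subgroup G)

theorem mk_mem_fixedPoints_iff (g : G) :
    (g : G ⧸ Δ) ∈ fixedPoints K (G ⧸ Δ) ↔ ∀ k ∈ K, g⁻¹ * k * g ∈ Δ := by
  constructor
  · intro h k hk
    have h1 : (k : G) • (g : G ⧸ Δ) = (g : G ⧸ Δ) := h ⟨k, hk⟩
    rw [MulAction.Quotient.smul_mk, QuotientGroup.eq] at h1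
    have h2 := Δ.inv_mem h1
    simpa [mul_assoc] using h2
  · intro h k
    show (k : G) • (g : G ⧸ Δ) = (g : G ⧸ Δ)
    rw [MulAction.Quotient.smul_mk, QuotientGroup.eq]
    have h2 := Δ.inv_mem (h k k.2)
    simpa [mul_assoc] using h2

/-- If `K` has a fixed point on `G ⧸ Δ` then `K` is contained in a conjugate of `Δ`. -/
theorem exists_le_conj_of_mark_ne_zero (h : mark G (G ⧸ Δ) K ≠ 0) :
    ∃ g : G, K ≤ Δ.map (MulAut.conj g).toMonoidHom := by
  unfold mark at h
  have h1 : Nonempty (fixedPoints K (G ⧸ Δ)) := by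
    by_contra hne
    rw [not_nonempty_iff] at hne
    exact h (@Nat.card_of_isEmpty _ hne)
  obtain ⟨⟨x, hx⟩⟩ := h1
  obtain ⟨g, rfl⟩ := QuotientGroup.mk_surjective x
  rw [mk_mem_fixedPoints_iff] at hx
  refine ⟨g, fun k hk => ?_⟩
  refine ⟨g⁻¹ * k * g, hx k hk, ?_⟩
  simp [mul_assoc]

theorem mark_quotient_self [Finite Δ] :
    mark G (G ⧸ Δ) Δ = Δ.relIndex (Subgroup.normalizer (Δ : Set G)) := by
  unfold mark
  have h := Nat.card_congr (Sylow.fixedPointsMulLeftCosetsEquivQuotient Δ)
  rw [Subgroup.relIndex, Subgroup.index]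
  exact h

open Classical in
/-- The mark of a subgroup of the same order as `Δ` on `G ⧸ Δ`. -/
theorem mark_quotient_of_card_eq [Finite G] (hcard : Nat.card K = Nat.card Δ) :
    mark G (G ⧸ Δ) K =
      if ∃ g : G, K = Δ.map (MulAut.conj g).toMonoidHom then
        Δ.relIndex (Subgroup.normalizer (Δ : Set G)) else 0 := by
  split_ifs with h
  · obtain ⟨g, rfl⟩ := h
    rw [mark_map_conj, mark_quotient_self]
  · by_contra hne
    obtain ⟨g, hg⟩ := exists_le_conj_of_mark_ne_zero Δ K hne
    apply h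
    refine ⟨g, Subgroup.eq_of_le_of_card_ge hg ?_⟩
    rw [hcard]
    exact le_of_eq (Nat.card_congr
      (Δ.equivMapOfInjective _ (MulAut.conj g).injective).toEquiv).symm

/-- A subgroup of larger order than `Δ` has no fixed points on `G ⧸ Δ`. -/
theorem mark_quotient_of_card_lt [Finite G] (hcard : Nat.card Δ < Nat.card K) :
    mark G (G ⧸ Δ) K = 0 := by
  by_contra hne
  obtain ⟨g, hg⟩ := exists_le_conj_of_mark_ne_zero Δ K hne
  have h1 := Subgroup.card_le_of_le hg
  have h2 : Nat.card (Δ.map (MulAut.conj g).toMonoidHom) = Nat.card Δ :=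
    (Nat.card_congr (Δ.equivMapOfInjective _ (MulAut.conj g).injective).toEquiv).symm
  omega

/-- Point stabilizers in `G ⧸ Δ` are the conjugates of `Δ`. -/
theorem stabilizer_mk (g : G) :
    stabilizer G (g : G ⧸ Δ) = Δ.map (MulAut.conj g).toMonoidHom := by
  have h1 : (g : G ⧸ Δ) = g • ((1 : G) : G ⧸ Δ) := by
    rw [MulAction.Quotient.smul_mk, smul_eq_mul, mul_one]
  rw [h1, stabilizer_smul_eq_stabilizer_map_conj, MulAction.stabilizer_quotient]

end Coset

section Sigma

variable {J : Type*} (D : J → Subgroup G)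

/-- The `G`-set `Σ j, G ⧸ D j`. -/
abbrev Union := Σ j : J, G ⧸ D j

theorem stabilizer_union (j : J) (g : G) :
    stabilizer G (⟨j, (g : G ⧸ D j)⟩ : Union D) = (D j).map (MulAut.conj g).toMonoidHom := by
  rw [← stabilizer_mk]
  ext k
  simp only [mem_stabilizer_iff]
  constructor
  · intro h
    have h1 : (⟨j, k • (g : G ⧸ D j)⟩ : Union D) = ⟨j, (g : G ⧸ D j)⟩ := h
    exact eq_of_heq (Sigma.mk.inj h1).2
  · intro h
    show (⟨j, k • (g : G ⧸ D j)⟩ : Union D) = ⟨j, (g : G ⧸ D j)⟩
    rw [h]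

theorem mark_union [Fintype J] [Finite G] (K : Subgroup G) :
    mark G (Union D) K = ∑ j, mark G (G ⧸ D j) K := by
  unfold mark
  rw [← Nat.card_sigma]
  apply Nat.card_congr
  refine ⟨fun x => ⟨x.1.1, ⟨x.1.2, fun k => ?_⟩⟩, fun y => ⟨⟨y.1, y.2.1⟩, fun k => ?_⟩, ?_, ?_⟩
  · have h1 : (⟨x.1.1, (k : G) • x.1.2⟩ : Union D) = ⟨x.1.1, x.1.2⟩ := x.2 k
    exact eq_of_heq (Sigma.mk.inj h1).2
  · show (⟨y.1, (k : G) • y.2.1⟩ : Union D) = ⟨y.1, y.2.1⟩
    have h1 : (k : G) • y.2.1 = y.2.1 := y.2.2 k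
    rw [h1]
  · intro x
    rfl
  · intro y
    rfl

theorem card_union [Fintype J] [Finite G] :
    Nat.card (Union D) = ∑ j, Nat.card G / Nat.card (D j) := by
  rw [Nat.card_sigma]
  apply Finset.sum_congr rfl
  intro j _
  have h := Subgroup.card_eq_card_quotient_mul_card_subgroup (D j)
  rw [h, Nat.mul_div_cancel _ Nat.card_pos]

end Sigma

end Cfsg.Agent.Lib.Helper88_Biset1
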