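import Mathlib
import Cfsg.Prelude.Def_FusionSystem
import Cfsg.Agent.Lib.Helper87_Alperin
import Cfsg.Agent.Lib.Helper88_Biset1

/-!
# Twisted diagonal subgroups of a fusion system (helper88)

For a fusion system `F` over the whole group `T` (i.e. over `⊤ : Subgroup T`), the `F`-graphs are the
subgroups `{(a, f a) | a ∈ Q}` of `T × T` with `f` a map of `F` on `Q`.  They are closed under
conjugation, subgroups and twisting the first coordinate by a map of `F`.
-/

set_option autoImplicit false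
set_option linter.style.haveILetI false

namespace Cfsg.Agent.Lib.Helper88_Biset2

open Cfsg Cfsg.FusionSystem MulAction Cfsg.Agent.Lib.Helper87_Alperin Cfsg.Agent.Lib.Helper88_Marks
  Cfsg.Agent.Lib.Helper88_Biset1

universe u

variable {T : Type u} [Group T] {F : FusionSystem (⊤ : Subgroup T)}

/-- `Δ` is the graph of a map of `F`. -/
def IsFGraph (F : FusionSystem (⊤ : Subgroup T)) (Δ : Subgroup (T × T)) : Prop :=
  ∃ (Q : Subgroup T) (f : T → T), IsMapOn F Q f ∧ ∀ a b, (a, b) ∈ Δ ↔ a ∈ Q ∧ f a = b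

theorem mem_top' (x : T) : x ∈ (⊤ : Subgroup T) := Subgroup.mem_top x

namespace IsFGraph

variable {Δ K : Subgroup (T × T)}

/-- `F`-graphs meet `1 × T` trivially. -/
theorem snd_eq_one (h : IsFGraph F Δ) {t : T} (ht : ((1 : T), t) ∈ Δ) : t = 1 := by
  obtain ⟨Q, f, hf, hΔ⟩ := h
  rw [← ((hΔ 1 t).1 ht).2, hf.map_one]

/-- Subgroups of `F`-graphs are `F`-graphs. -/
theorem of_le (h : IsFGraph F Δ) (hK : K ≤ Δ) : IsFGraph F K := by
  obtain ⟨Q, f, hf, hΔ⟩ := h
  refine ⟨K.map (MonoidHom.fst T T), f, hf.mono ?_, fun a b => ?_⟩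
  · rintro _ ⟨⟨a, b⟩, hab, rfl⟩
    exact ((hΔ a b).1 (hK hab)).1
  · constructor
    · intro hab
      exact ⟨⟨(a, b), hab, rfl⟩, ((hΔ a b).1 (hK hab)).2⟩
    · rintro ⟨⟨⟨a', b'⟩, hab', rfl⟩, hfa⟩
      have h1 := ((hΔ a' b').1 (hK hab')).2
      have h2 : b' = b := by
        rw [← h1]
        exact hfa
      rw [← h2]
      exact hab'

/-- Conjugates of `F`-graphs are `F`-graphs. -/
theorem conj (h : IsFGraph F Δ) (g : T × T) :
    IsFGraph F (Δ.map (MulAut.conj g).toMonoidHom) := by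
  obtain ⟨Q, f, hf, hΔ⟩ := h
  obtain ⟨a, b⟩ := g
  have h1 : IsMapOn F (Q.map (MulAut.conj a).toMonoidHom) (fun x => a⁻¹ * x * a⁻¹⁻¹) :=
    IsMapOn.conj F le_top (mem_top' _)
  have h2 : IsMapOn F (⊤ : Subgroup T) (fun x => b * x * b⁻¹) :=
    IsMapOn.conj F le_top (mem_top' _)
  have h3 : ∀ x ∈ Q.map (MulAut.conj a).toMonoidHom, a⁻¹ * x * a⁻¹⁻¹ ∈ Q := by
    rintro _ ⟨x, hx, rfl⟩
    simpa [mul_assoc] using hx
  have h4 := (h1.comp hf h3).comp h2 (fun x _ => mem_top' _)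
  refine ⟨_, _, h4, fun x y => ?_⟩
  constructor
  · rintro ⟨⟨x₀, y₀⟩, hxy, hxy'⟩
    have hx : a * x₀ * a⁻¹ = x := congrArg Prod.fst hxy'
    have hy : b * y₀ * b⁻¹ = y := congrArg Prod.snd hxy'
    obtain ⟨hx₀, hfx₀⟩ := (hΔ x₀ y₀).1 hxy
    refine ⟨⟨x₀, hx₀, hx⟩, ?_⟩
    simp only [Function.comp_apply]
    rw [← hx, ← hy, ← hfx₀]
    congr 3
    group
  · rintro ⟨⟨x₀, hx₀, hx⟩, hy⟩
    have hx' : a * x₀ * a⁻¹ = x := hx
    refine ⟨(x₀, f x₀), (hΔ _ _).2 ⟨hx₀, rfl⟩, ?_⟩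
    simp only [Function.comp_apply] at hy
    show (a * x₀ * a⁻¹, b * f x₀ * b⁻¹) = (x, y)
    rw [hx', ← hy, ← hx']
    congr 4
    group

end IsFGraph

section Twist

variable {P : Subgroup T} (φ : P →* T)

/-- the inclusion `P × T → T × T` -/
def inclHom (P : Subgroup T) : ↥P × T →* T × T := P.subtype.prodMap (MonoidHom.id T)

/-- the twist `P × T → T × T`, `(x, t) ↦ (φ x, t)` -/
def twistHom : ↥P × T →* T × T := φ.prodMap (MonoidHom.id T)

theorem inclHom_apply (x : ↥P × T) : inclHom P x = ((x.1 : T), x.2) := rfl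

theorem twistHom_apply (x : ↥P × T) : twistHom φ x = (φ x.1, x.2) := rfl

theorem inclHom_injective : Function.Injective (inclHom P) := by
  intro x y h
  have h1 : (x.1 : T) = y.1 := (Prod.ext_iff.1 h).1
  have h2 : x.2 = y.2 := (Prod.ext_iff.1 h).2
  exact Prod.ext (Subtype.ext h1) h2

theorem twistHom_injective (hφ : Function.Injective φ) : Function.Injective (twistHom φ) := by
  intro x y h
  have h1 : φ x.1 = φ y.1 := (Prod.ext_iff.1 h).1
  have h2 : x.2 = y.2 := (Prod.ext_iff.1 h).2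
  exact Prod.ext (hφ h1) h2

theorem mem_map_inclHom (K : Subgroup (↥P × T)) (a b : T) :
    (a, b) ∈ K.map (inclHom P) ↔ ∃ ha : a ∈ P, ((⟨a, ha⟩ : P), b) ∈ K := by
  constructor
  · rintro ⟨⟨x, t⟩, hx, hxt⟩
    have h1 : (x : T) = a := congrArg Prod.fst hxt
    have h2 : t = b := congrArg Prod.snd hxt
    subst h1 h2
    exact ⟨x.2, hx⟩
  · rintro ⟨ha, h⟩
    exact ⟨(⟨a, ha⟩, b), h, rfl⟩

theorem mem_map_twistHom (K : Subgroup (↥P × T)) (a b : T) :
    (a, b) ∈ K.map (twistHom φ) ↔ ∃ x : P, (x, b) ∈ K ∧ φ x = a := by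
  constructor
  · rintro ⟨⟨x, t⟩, hx, hxt⟩
    have h1 : φ x = a := congrArg Prod.fst hxt
    have h2 : t = b := congrArg Prod.snd hxt
    subst h2
    exact ⟨x, hx, h1⟩
  · rintro ⟨x, hx, rfl⟩
    exact ⟨(x, b), hx, rfl⟩

/-- Twisting the first coordinate by a map of `F` preserves `F`-graphs. -/
theorem isFGraph_twist_iff (hφ : φ ∈ F.Hom P) (K : Subgroup (↥P × T)) :
    IsFGraph F (K.map (inclHom P)) ↔ IsFGraph F (K.map (twistHom φ)) := by
  have hφm : IsMapOn F P (extHom φ) := isMapOn_extHom F hφ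
  constructor
  · rintro ⟨Q, f, hf, hK⟩
    have hQP : Q ≤ P := by
      intro a ha
      obtain ⟨ha', -⟩ := (mem_map_inclHom K a (f a)).1 ((hK a (f a)).2 ⟨ha, rfl⟩)
      exact ha'
    set Q' : Subgroup T := (Q.subgroupOf P).map φ with hQ'
    have hQ'mem : ∀ y, y ∈ Q' ↔ ∃ x ∈ Q, extHom φ x = y := by
      intro y
      constructor
      · rintro ⟨x, hx, rfl⟩
        exact ⟨x, hx, extHom_coe φ x⟩
      · rintro ⟨x, hx, rfl⟩
        exact ⟨⟨x, hQP hx⟩, hx, (extHom_coe φ ⟨x, hQP hx⟩).symm⟩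
    obtain ⟨g, hg, hg1, hg2, hg3⟩ := (hφm.mono hQP).inv hQ'mem
    refine ⟨Q', f ∘ g, hg.comp hf hg2, fun a b => ?_⟩
    rw [mem_map_twistHom]
    constructor
    · rintro ⟨x, hx, rfl⟩
      have h1 : ((x : T), b) ∈ K.map (inclHom P) := (mem_map_inclHom K _ _).2 ⟨x.2, hx⟩
      obtain ⟨hxQ, hfx⟩ := (hK _ _).1 h1
      refine ⟨⟨x, hxQ, rfl⟩, ?_⟩
      simp only [Function.comp_apply]
      rw [← extHom_coe φ x, hg1 _ hxQ, hfx]
    · rintro ⟨⟨x, hxQ, rfl⟩, hb⟩
      have hxQ' : (x : T) ∈ Q := hxQ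
      simp only [Function.comp_apply] at hb
      rw [← extHom_coe φ x, hg1 _ hxQ'] at hb
      obtain ⟨_, h2⟩ := (mem_map_inclHom K _ _).1 ((hK _ _).2 ⟨hxQ', hb⟩)
      exact ⟨x, h2, rfl⟩
  · rintro ⟨Q₂, f₂, hf₂, hK⟩
    set Q₁ : Subgroup T := (K.map (inclHom P)).map (MonoidHom.fst T T) with hQ₁
    have hQ₁P : Q₁ ≤ P := by
      rintro _ ⟨⟨a, b⟩, hab, rfl⟩
      exact ((mem_map_inclHom K a b).1 hab).1
    have hkey : ∀ a b, (a, b) ∈ K.map (inclHom P) → extHom φ a ∈ Q₂ ∧ f₂ (extHom φ a) = b := by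
      intro a b hab
      obtain ⟨ha, h1⟩ := (mem_map_inclHom K a b).1 hab
      have h2 : (φ ⟨a, ha⟩, b) ∈ K.map (twistHom φ) := (mem_map_twistHom φ K _ _).2 ⟨_, h1, rfl⟩
      rw [extHom_apply φ ha]
      exact (hK _ _).1 h2
    refine ⟨Q₁, f₂ ∘ extHom φ, (hφm.mono hQ₁P).comp hf₂ ?_, fun a b => ?_⟩
    · rintro _ ⟨⟨a, b⟩, hab, rfl⟩
      exact (hkey a b hab).1
    · constructor
      · intro hab
        exact ⟨⟨(a, b), hab, rfl⟩, (hkey a b hab).2⟩
      · rintro ⟨⟨⟨a', b'⟩, hab', rfl⟩, hb⟩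
        have h1 := (hkey a' b' hab').2
        have h2 : b' = b := by
          rw [← h1]
          exact hb
        rw [← h2]
        exact hab'

/-- Twisting does not change the second projection. -/
theorem map_snd_twist (K : Subgroup (↥P × T)) :
    (K.map (twistHom φ)).map (MonoidHom.snd T T) = (K.map (inclHom P)).map (MonoidHom.snd T T) := by
  rw [Subgroup.map_map, Subgroup.map_map]
  rfl

end Twist

section Stable

variable {X : Type*} [MulAction (T × T) X]

/-- All point stabilizers are `F`-graphs. -/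
def IsFGen (F : FusionSystem (⊤ : Subgroup T)) (X : Type*) [MulAction (T × T) X] : Prop :=
  ∀ x : X, IsFGraph F (stabilizer (T × T) x)

theorem isFGraph_of_mark_ne_zero (hX : IsFGen F X) {K : Subgroup (T × T)}
    (h : mark (T × T) X K ≠ 0) : IsFGraph F K := by
  unfold mark at h
  have h1 : Nonempty (fixedPoints K X) := by
    by_contra hne
    rw [not_nonempty_iff] at hne
    exact h (@Nat.card_of_isEmpty _ hne)
  obtain ⟨⟨x, hx⟩⟩ := h1
  exact (hX x).of_le ((mem_fixedPoints_iff_le K x).1 hx)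

/-- Right-freeness. -/
theorem eq_one_of_smul_eq (hX : IsFGen F X) {x : X} {t : T} (h : ((1 : T), t) • x = x) : t = 1 :=
  (hX x).snd_eq_one h

/-- The marks of `F`-graphs of order `> n` depend only on the conjugacy class of the second
projection. -/
def StableAbove (F : FusionSystem (⊤ : Subgroup T)) (X : Type*) [MulAction (T × T) X] (n : ℕ) :
    Prop :=
  ∃ τ : Subgroup T → ℕ, (∀ (R : Subgroup T) (g : T), τ (R.map (MulAut.conj g).toMonoidHom) = τ R) ∧
    ∀ Δ : Subgroup (T × T), IsFGraph F Δ → n < Nat.card Δ →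
      mark (T × T) X Δ = τ (Δ.map (MonoidHom.snd T T))

theorem mark_twist_eq (hX : IsFGen F X) {n : ℕ} (hst : StableAbove F X n) {P : Subgroup T}
    {φ : P →* T} (hφ : φ ∈ F.Hom P) (K : Subgroup (↥P × T)) (hK : n < Nat.card K) :
    mark (T × T) X (K.map (inclHom P)) = mark (T × T) X (K.map (twistHom φ)) := by
  obtain ⟨τ, -, hτ⟩ := hst
  by_cases h : IsFGraph F (K.map (inclHom P))
  · have h' := (isFGraph_twist_iff φ hφ K).1 h
    have hc1 : Nat.card (K.map (inclHom P)) = Nat.card K :=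
      (Nat.card_congr (K.equivMapOfInjective _ inclHom_injective).toEquiv).symm
    have hc2 : Nat.card (K.map (twistHom φ)) = Nat.card K :=
      (Nat.card_congr (K.equivMapOfInjective _
        (twistHom_injective φ (F.injective_of_mem hφ))).toEquiv).symm
    rw [hτ _ h (by rw [hc1]; exact hK), hτ _ h' (by rw [hc2]; exact hK), map_snd_twist]
  · have h' : ¬ IsFGraph F (K.map (twistHom φ)) := fun h' => h ((isFGraph_twist_iff φ hφ K).2 h')
    have h1 : mark (T × T) X (K.map (inclHom P)) = 0 := by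
      by_contra hne
      exact h (isFGraph_of_mark_ne_zero hX hne)
    have h2 : mark (T × T) X (K.map (twistHom φ)) = 0 := by
      by_contra hne
      exact h' (isFGraph_of_mark_ne_zero hX hne)
    rw [h1, h2]

theorem isFGen_union {J : Type*} (D : J → Subgroup (T × T)) (hD : ∀ j, IsFGraph F (D j)) :
    IsFGen F (Union D) := by
  rintro ⟨j, x⟩
  obtain ⟨g, rfl⟩ := QuotientGroup.mk_surjective x
  rw [stabilizer_union]
  exact (hD j).conj g

end Stable

end Cfsg.Agent.Lib.Helper88_Biset2
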