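import Mathlib
import Cfsg.Prelude.Def_FusionSystem
import Cfsg.Agent.Lib.Helper87_Alperin
import Cfsg.Agent.Lib.Helper88_Biset2

/-!
# The stabilization step for bisets (helper88)

Given a union of orbits `X = Σ j, (T × T) ⧸ D j` with all `D j` graphs of maps of `F`, whose marks at
`F`-graphs of order `> n` are stable, and a numerical hypothesis at level `n`, one can add orbits with
stabilizers of order `n` to make the marks stable at all `F`-graphs of order `≥ n`.
-/

set_option autoImplicit false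
set_option linter.style.haveILetI false

namespace Cfsg.Agent.Lib.Helper88_Biset3

open Cfsg Cfsg.FusionSystem MulAction Cfsg.Agent.Lib.Helper87_Alperin Cfsg.Agent.Lib.Helper88_Marks
  Cfsg.Agent.Lib.Helper88_Biset1 Cfsg.Agent.Lib.Helper88_Biset2

universe u

variable {T : Type u} [Group T] {F : FusionSystem (⊤ : Subgroup T)}

/-- The index of a subgroup in its normalizer. -/
noncomputable def wt (Δ : Subgroup (T × T)) : ℕ :=
  Δ.relIndex (Subgroup.normalizer (Δ : Set (T × T)))

theorem wt_conj (Δ : Subgroup (T × T)) (g : T × T) :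
    wt (Δ.map (MulAut.conj g).toMonoidHom) = wt Δ := by
  unfold wt
  rw [← Subgroup.map_equiv_normalizer_eq Δ (MulAut.conj g),
    Subgroup.relIndex_map_map_of_injective _ _ (MulAut.conj g).injective]

theorem map_snd_conj (Δ : Subgroup (T × T)) (g : T × T) :
    (Δ.map (MulAut.conj g).toMonoidHom).map (MonoidHom.snd T T) =
      (Δ.map (MonoidHom.snd T T)).map (MulAut.conj g.2).toMonoidHom := by
  rw [Subgroup.map_map, Subgroup.map_map]
  rfl

theorem card_map_conj {G : Type*} [Group G] (Δ : Subgroup G) (g : G) :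
    Nat.card (Δ.map (MulAut.conj g).toMonoidHom) = Nat.card Δ :=
  (Nat.card_congr (Δ.equivMapOfInjective _ (MulAut.conj g).injective).toEquiv).symm

theorem map_conj_map_conj {G : Type*} [Group G] (Δ : Subgroup G) (g g' : G) :
    (Δ.map (MulAut.conj g).toMonoidHom).map (MulAut.conj g').toMonoidHom =
      Δ.map (MulAut.conj (g' * g)).toMonoidHom := by
  rw [Subgroup.map_map]
  congr 1
  ext x
  simp [mul_assoc]

theorem map_conj_one {G : Type*} [Group G] (Δ : Subgroup G) :
    Δ.map (MulAut.conj (1 : G)).toMonoidHom = Δ := by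
  rw [map_one]
  exact Subgroup.map_id _

theorem IsFGraph.card_map_snd {Δ : Subgroup (T × T)} (h : IsFGraph F Δ) :
    Nat.card (Δ.map (MonoidHom.snd T T)) = Nat.card Δ := by
  obtain ⟨Q, f, hf, hΔ⟩ := h
  have hinj : Function.Injective ((MonoidHom.snd T T).comp Δ.subtype) := by
    rintro ⟨⟨a, b⟩, hab⟩ ⟨⟨a', b'⟩, hab'⟩ h
    have h1 : b = b' := h
    obtain ⟨ha, hfa⟩ := (hΔ a b).1 hab
    obtain ⟨ha', hfa'⟩ := (hΔ a' b').1 hab'
    have h2 : a = a' := hf.injOn ha ha' (by rw [hfa, hfa', h1])
    subst h1 h2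
    rfl
  have h1 : Δ.map (MonoidHom.snd T T) = ((MonoidHom.snd T T).comp Δ.subtype).range := by
    rw [MonoidHom.range_comp, Subgroup.range_subtype]
  rw [h1]
  exact (Nat.card_congr (MonoidHom.ofInjective hinj).toEquiv).symm

section Levels

variable (F)

/-- The `F`-graphs of order `n`. -/
abbrev Lev (n : ℕ) : Type u := {Δ : Subgroup (T × T) // IsFGraph F Δ ∧ Nat.card Δ = n}

/-- Conjugacy of `F`-graphs of order `n`. -/
def conjSetoid (n : ℕ) : Setoid (Lev F n) where
  r Δ Δ' := ∃ g : T × T, Δ'.1 = Δ.1.map (MulAut.conj g).toMonoidHom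
  iseqv := by
    refine ⟨fun Δ => ⟨1, (map_conj_one _).symm⟩, ?_, ?_⟩
    · rintro Δ Δ' ⟨g, hg⟩
      refine ⟨g⁻¹, ?_⟩
      rw [hg, map_conj_map_conj, inv_mul_cancel, map_conj_one]
    · rintro Δ Δ' Δ'' ⟨g, hg⟩ ⟨g', hg'⟩
      refine ⟨g' * g, ?_⟩
      rw [hg', hg, map_conj_map_conj]

/-- The conjugacy classes of `F`-graphs of order `n`. -/
abbrev Cls (n : ℕ) : Type u := Quotient (conjSetoid F n)

end Levels

section Step

variable [Finite T]

open Classical in
/-- **The stabilization step.** -/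
theorem step {J : Type u} [Fintype J] (D : J → Subgroup (T × T)) (n : ℕ) (hn : 0 < n)
    (hst : StableAbove F (Union D) n)
    (hH : ∀ R : Subgroup T, ∃ t : ℕ, ∀ Δ : Subgroup (T × T), IsFGraph F Δ → Nat.card Δ = n →
      (∃ g : T, Δ.map (MonoidHom.snd T T) = R.map (MulAut.conj g).toMonoidHom) →
      mark (T × T) (Union D) Δ ≤ t ∧ t ≡ mark (T × T) (Union D) Δ [MOD wt Δ]) :
    ∃ (J' : Type u) (_ : Fintype J') (D' : J' → Subgroup (T × T)),
      (∀ j, IsFGraph F (D' j) ∧ Nat.card (D' j) = n) ∧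
      StableAbove F (Union (Sum.elim D D')) (n - 1) := by
  obtain ⟨τ, hτc, hτ⟩ := hst
  set τn : Subgroup T → ℕ := fun R => Nat.find (hH R) with hτn
  have hτn_spec : ∀ R : Subgroup T, ∀ Δ : Subgroup (T × T), IsFGraph F Δ → Nat.card Δ = n →
      (∃ g : T, Δ.map (MonoidHom.snd T T) = R.map (MulAut.conj g).toMonoidHom) →
      mark (T × T) (Union D) Δ ≤ τn R ∧ τn R ≡ mark (T × T) (Union D) Δ [MOD wt Δ] :=
    fun R => Nat.find_spec (hH R)
  have hτn_conj : ∀ (R : Subgroup T) (g : T), τn (R.map (MulAut.conj g).toMonoidHom) = τn R := by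
    intro R g
    apply le_antisymm
    · apply Nat.find_min'
      intro Δ h1 h2 ⟨g', hg'⟩
      apply hτn_spec R Δ h1 h2
      exact ⟨g' * g, by rw [hg', map_conj_map_conj]⟩
    · apply Nat.find_min'
      intro Δ h1 h2 ⟨g', hg'⟩
      apply hτn_spec _ Δ h1 h2
      refine ⟨g' * g⁻¹, ?_⟩
      rw [hg', map_conj_map_conj, inv_mul_cancel_right]
  have hkey : ∀ Δ : Subgroup (T × T), IsFGraph F Δ → Nat.card Δ = n →
      mark (T × T) (Union D) Δ ≤ τn (Δ.map (MonoidHom.snd T T)) ∧
        τn (Δ.map (MonoidHom.snd T T)) ≡ mark (T × T) (Union D) Δ [MOD wt Δ] :=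
    fun Δ h1 h2 => hτn_spec _ Δ h1 h2 ⟨1, (map_conj_one _).symm⟩
  letI : Fintype (Cls F n) := Fintype.ofFinite _
  set c : Cls F n → ℕ := fun q =>
    (τn ((Quotient.out q).1.map (MonoidHom.snd T T)) - mark (T × T) (Union D) (Quotient.out q).1) /
      wt (Quotient.out q).1 with hc
  set D' : (Σ q : Cls F n, Fin (c q)) → Subgroup (T × T) := fun j => (Quotient.out j.1).1 with hD'
  refine ⟨Σ q : Cls F n, Fin (c q), inferInstance, D', fun j => (Quotient.out j.1).2, ?_⟩
  have hmark : ∀ K : Subgroup (T × T), mark (T × T) (Union (Sum.elim D D')) K =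
      mark (T × T) (Union D) K +
        ∑ q : Cls F n, c q * mark (T × T) ((T × T) ⧸ (Quotient.out q).1) K := by
    intro K
    rw [mark_union, Fintype.sum_sum_type, mark_union]
    congr 1
    rw [Fintype.sum_sigma]
    apply Finset.sum_congr rfl
    intro q _
    have hy : ∀ y : Fin (c q), mark (T × T) ((T × T) ⧸ Sum.elim D D' (Sum.inr ⟨q, y⟩)) K =
        mark (T × T) ((T × T) ⧸ (Quotient.out q).1) K := fun y => rfl
    rw [Finset.sum_congr rfl (fun y _ => hy y), Finset.sum_const, Finset.card_univ,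
      Fintype.card_fin, smul_eq_mul]
  refine ⟨fun R => if Nat.card R = n then τn R else τ R, ?_, ?_⟩
  · intro R g
    simp only [card_map_conj]
    split_ifs
    · exact hτn_conj R g
    · exact hτc R g
  · intro Δ hΔ hcard
    have hcs := IsFGraph.card_map_snd hΔ
    rw [hmark]
    by_cases hn' : Nat.card Δ = n
    · dsimp only
      rw [if_pos (by rw [hcs]; exact hn')]
      set q₀ : Cls F n := Quotient.mk (conjSetoid F n) ⟨Δ, hΔ, hn'⟩ with hq₀
      have hrel : (conjSetoid F n).r (Quotient.out q₀) ⟨Δ, hΔ, hn'⟩ :=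
        Quotient.exact (Quotient.out_eq q₀)
      obtain ⟨g, hg⟩ := hrel
      have hg' : Δ = (Quotient.out q₀).1.map (MulAut.conj g).toMonoidHom := hg
      have hsum : ∑ q : Cls F n, c q * mark (T × T) ((T × T) ⧸ (Quotient.out q).1) Δ =
          c q₀ * wt (Quotient.out q₀).1 := by
        rw [Finset.sum_eq_single q₀]
        · rw [mark_quotient_of_card_eq _ _ (by rw [hn', (Quotient.out q₀).2.2]),
            if_pos ⟨g, hg'⟩]
          rfl
        · intro q _ hq
          rw [mark_quotient_of_card_eq _ _ (by rw [hn', (Quotient.out q).2.2]), if_neg, mul_zero]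
          rintro ⟨g₁, hg₁⟩
          apply hq
          rw [← Quotient.out_eq q]
          exact Quotient.sound ⟨g₁, hg₁⟩
        · intro h
          exact (h (Finset.mem_univ _)).elim
      rw [hsum]
      have h1 := hkey (Quotient.out q₀).1 (Quotient.out q₀).2.1 (Quotient.out q₀).2.2
      have hdvd : wt (Quotient.out q₀).1 ∣
          τn ((Quotient.out q₀).1.map (MonoidHom.snd T T)) -
            mark (T × T) (Union D) (Quotient.out q₀).1 :=
        (Nat.modEq_iff_dvd' h1.1).1 h1.2.symm
      have h2 : mark (T × T) (Union D) Δ = mark (T × T) (Union D) (Quotient.out q₀).1 := by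
        rw [hg', mark_map_conj]
      have h3 : τn (Δ.map (MonoidHom.snd T T)) =
          τn ((Quotient.out q₀).1.map (MonoidHom.snd T T)) := by
        rw [hg', map_snd_conj, hτn_conj]
      show _ + (_ / _) * _ = _
      rw [Nat.div_mul_cancel hdvd, h2, h3]
      have := h1.1
      omega
    · have hlt : n < Nat.card Δ := by omega
      dsimp only
      rw [if_neg (by rw [hcs]; exact hn')]
      have h0 : ∑ q : Cls F n, c q * mark (T × T) ((T × T) ⧸ (Quotient.out q).1) Δ = 0 :=
        Finset.sum_eq_zero (fun q _ => by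
          rw [mark_quotient_of_card_lt _ _ (by rw [(Quotient.out q).2.2]; exact hlt), mul_zero])
      rw [h0, add_zero]
      exact hτ Δ hΔ hlt

end Step

end Cfsg.Agent.Lib.Helper88_Biset3
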