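import Mathlib
import Cfsg.Prelude.Def_FusionSystem
import Cfsg.Agent.Lib.Helper87_Alperin
import Cfsg.Agent.Lib.Helper84_FusionSat
import Cfsg.Agent.Lib.Helper84_FusionRS
import Cfsg.Agent.Lib.Helper88_Biset3

/-!
# The congruence at level `n` for saturated fusion systems (helper88)
-/

set_option autoImplicit false
set_option linter.style.haveILetI false

namespace Cfsg.Agent.Lib.Helper88_Biset4

open Cfsg Cfsg.FusionSystem MulAction Cfsg.Agent.Lib.Helper87_Alperin Cfsg.Agent.Lib.Helper88_Marks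
  Cfsg.Agent.Lib.Helper88_Biset1 Cfsg.Agent.Lib.Helper88_Biset2 Cfsg.Agent.Lib.Helper88_Biset3

universe u

variable {T : Type u} [Group T] {F : FusionSystem (⊤ : Subgroup T)}

/-- Elements of the normalizer of an `F`-graph. -/
theorem normalizer_graph {Δ : Subgroup (T × T)} {Q : Subgroup T} {ψ : T → T}
    (hΔ : ∀ a b, (a, b) ∈ Δ ↔ a ∈ Q ∧ ψ a = b) {g : T × T}
    (hg : g ∈ Subgroup.normalizer (Δ : Set (T × T))) :
    g.1 ∈ Subgroup.normalizer (Q : Set T) ∧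
      g.2 ∈ Subgroup.normalizer ((Δ.map (MonoidHom.snd T T) : Subgroup T) : Set T) ∧
      ∀ x ∈ Q, ψ (g.1 * x * g.1⁻¹) = g.2 * ψ x * g.2⁻¹ := by
  obtain ⟨a, b⟩ := g
  have hg' : ∀ d : T × T, d ∈ Δ ↔ (a, b) * d * (a, b)⁻¹ ∈ Δ := fun d =>
    Subgroup.mem_normalizer_iff.1 hg d
  have hfw : ∀ x ∈ Q, a * x * a⁻¹ ∈ Q ∧ ψ (a * x * a⁻¹) = b * ψ x * b⁻¹ := by
    intro x hx
    have h1 : (x, ψ x) ∈ Δ := (hΔ _ _).2 ⟨hx, rfl⟩
    have h2 := (hg' _).1 h1
    exact (hΔ _ _).1 h2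
  refine ⟨?_, ?_, fun x hx => (hfw x hx).2⟩
  · rw [Subgroup.mem_normalizer_iff]
    intro x
    constructor
    · exact fun hx => (hfw x hx).1
    · intro hx
      have h1 : (a * x * a⁻¹, ψ (a * x * a⁻¹)) ∈ Δ := (hΔ _ _).2 ⟨hx, rfl⟩
      have h2 : (a, b) * (x, b⁻¹ * ψ (a * x * a⁻¹) * b) * (a, b)⁻¹ =
          (a * x * a⁻¹, ψ (a * x * a⁻¹)) := by
        ext
        · rfl
        · show b * (b⁻¹ * ψ (a * x * a⁻¹) * b) * b⁻¹ = ψ (a * x * a⁻¹)
          group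
      rw [← h2] at h1
      exact ((hΔ _ _).1 ((hg' _).2 h1)).1
  · rw [Subgroup.mem_normalizer_iff]
    intro y
    constructor
    · rintro ⟨⟨x, y'⟩, hxy, rfl⟩
      obtain ⟨hx, hψx⟩ := (hΔ _ _).1 hxy
      have h1 := hfw x hx
      refine ⟨(a * x * a⁻¹, ψ (a * x * a⁻¹)), (hΔ _ _).2 ⟨h1.1, rfl⟩, ?_⟩
      show ψ (a * x * a⁻¹) = b * y' * b⁻¹
      rw [h1.2, hψx]
    · rintro ⟨⟨x', y'⟩, hxy, hy'⟩
      have hy'' : y' = b * y * b⁻¹ := hy'
      have h2 : (a, b) * (a⁻¹ * x' * a, y) * (a, b)⁻¹ = (x', y') := by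
        ext
        · show a * (a⁻¹ * x' * a) * a⁻¹ = x'
          group
        · show b * y * b⁻¹ = y'
          exact hy''.symm
      rw [← h2] at hxy
      exact ⟨(a⁻¹ * x' * a, y), (hg' _).2 hxy, rfl⟩

/-- **Saturation input.** For every `R` there is a map `χ` on `N_T(R)` such that for every
isomorphism `ψ : Q → R` of the system the map `χ ∘ ψ` extends to a map `α` of the system defined
on all first coordinates of the normalizer of the graph of `ψ`. -/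
theorem exists_extension_data [Finite T] {p : ℕ} [Fact p.Prime]
    (hT : IsPGroup p (⊤ : Subgroup T)) (hF : F.IsSaturated p) (R : Subgroup T) :
    ∃ χ : T → T, IsMapOn F (normalizerIn ⊤ R) χ ∧
      ∀ (Q : Subgroup T) (ψ : T → T), IsMapOn F Q ψ → (∀ y, y ∈ R ↔ ∃ x ∈ Q, ψ x = y) →
        ∃ (P : Subgroup T) (α : P →* T), α ∈ F.Hom P ∧
          (∀ a b : T, a ∈ Subgroup.normalizer (Q : Set T) → b ∈ Subgroup.normalizer (R : Set T) →
            (∀ x ∈ Q, ψ (a * x * a⁻¹) = b * ψ x * b⁻¹) → a ∈ P) ∧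
          ∀ (q : T) (_ : q ∈ Q), ∃ hqP : q ∈ P, α ⟨q, hqP⟩ = χ (ψ q) := by
  obtain ⟨Qs, hconj, hfa, hrec⟩ := hF R le_top
  obtain ⟨χ, hχ, -, hχR⟩ := Helper84_FusionSat.exists_normalizer_map hT F hfa hrec hconj
  refine ⟨extHom χ, isMapOn_extHom F hχ, ?_⟩
  intro Q ψ hψ hR
  obtain ⟨ψb, hψb, hψbe⟩ := hψ
  have hRN : R ≤ normalizerIn ⊤ R := le_normalizerIn le_top
  have hψR : ∀ x : Q, ψb x ∈ R := fun x => (hR _).2 ⟨x, x.2, (hψbe x).symm⟩
  have hψN : ∀ x : Q, ψb x ∈ normalizerIn ⊤ R := fun x => hRN (hψR x)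
  set α₀ : Q →* T := χ.comp (ψb.codRestrict (normalizerIn ⊤ R) hψN) with hα₀def
  have hα₀ : α₀ ∈ F.Hom Q := F.comp_mem hψb hχ hψN
  have hα₀r : α₀.range = Qs := by
    rw [← hχR]
    ext y
    constructor
    · rintro ⟨x, rfl⟩
      exact ⟨⟨ψb x, hψN x⟩, hψR x, rfl⟩
    · rintro ⟨z, hz, rfl⟩
      have hz' : (z : T) ∈ R := hz
      obtain ⟨x, hx, hxz⟩ := (hR _).1 hz'
      refine ⟨⟨x, hx⟩, ?_⟩
      show χ ⟨ψb ⟨x, hx⟩, _⟩ = χ z
      congr 1
      apply Subtype.ext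
      show ψb ⟨x, hx⟩ = z
      rw [hψbe]
      exact hxz
  obtain ⟨α, hα, hαe⟩ := hrec.2 Q α₀ hα₀ hα₀r
  have hmem : ∀ a b : T, a ∈ Subgroup.normalizer (Q : Set T) →
      b ∈ Subgroup.normalizer (R : Set T) →
      (∀ x ∈ Q, ψ (a * x * a⁻¹) = b * ψ x * b⁻¹) → a ∈ extender ⊤ Q α₀ := by
    intro a b ha hb hab
    rw [Helper84_FusionRS.mem_extender_iff]
    have hbN : b ∈ normalizerIn ⊤ R := ⟨mem_top' b, hb⟩
    refine ⟨mem_top' a, ha, χ ⟨b, hbN⟩, mem_top' _, fun x hx => ?_⟩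
    show χ ⟨ψb ⟨a * x * a⁻¹, hx⟩, _⟩ = χ ⟨b, hbN⟩ * χ ⟨ψb x, _⟩ * (χ ⟨b, hbN⟩)⁻¹
    rw [← map_inv, ← map_mul, ← map_mul]
    congr 1
    apply Subtype.ext
    show ψb ⟨a * x * a⁻¹, hx⟩ = b * ψb x * b⁻¹
    rw [hψbe, hψbe]
    exact hab x x.2
  have hψ' : IsMapOn F Q ψ := ⟨ψb, hψb, hψbe⟩
  refine ⟨extender ⊤ Q α₀, α, hα, hmem, ?_⟩
  intro q hq
  have hqP : q ∈ extender ⊤ Q α₀ := by
    refine hmem q (ψ q) (Subgroup.le_normalizer hq) ?_ ?_
    · apply Subgroup.le_normalizer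
      exact (hR _).2 ⟨q, hq, rfl⟩
    · intro x hx
      rw [hψ'.map_mul (Q.mul_mem hq hx) (Q.inv_mem hq), hψ'.map_mul hq hx, hψ'.map_inv hq]
  refine ⟨hqP, ?_⟩
  rw [hαe q hq hqP]
  show χ ⟨ψb ⟨q, hq⟩, _⟩ = extHom χ (ψ q)
  have h1 : ψ q ∈ normalizerIn ⊤ R := by
    rw [← hψbe ⟨q, hq⟩]
    exact hψN _
  rw [extHom_apply χ h1]
  congr 1
  apply Subtype.ext
  exact hψbe ⟨q, hq⟩

/-- **The congruence of marks at level `n`.** -/
theorem sat_cong [Finite T] {p : ℕ} [Fact p.Prime] (hT : IsPGroup p (⊤ : Subgroup T))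
    (hF : F.IsSaturated p) {X : Type*} [MulAction (T × T) X] [Finite X] (hX : IsFGen F X) {n : ℕ}
    (hst : StableAbove F X n) (R : Subgroup T) :
    ∃ Δs : Subgroup (T × T), ∀ Δ : Subgroup (T × T), IsFGraph F Δ → Nat.card Δ = n →
      Δ.map (MonoidHom.snd T T) = R →
      mark (T × T) X Δ ≡ mark (T × T) X Δs [MOD wt Δ] ∧ wt Δ ∣ wt Δs := by
  classical
  obtain ⟨χ, hχ, hdata⟩ := exists_extension_data hT hF R
  -- the special graph
  have hmain : ∀ Δ : Subgroup (T × T), IsFGraph F Δ → Nat.card Δ = n →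
      Δ.map (MonoidHom.snd T T) = R →
      ∃ Δs : Subgroup (T × T), (∀ a b, (a, b) ∈ Δs ↔ b ∈ R ∧ χ b = a) ∧
        mark (T × T) X Δ ≡ mark (T × T) X Δs [MOD wt Δ] ∧ wt Δ ∣ wt Δs := by
    intro Δ hΔg hcard hproj
    obtain ⟨Q, ψ, hψ, hΔ⟩ := hΔg
    have hR : ∀ y, y ∈ R ↔ ∃ x ∈ Q, ψ x = y := by
      intro y
      rw [← hproj]
      constructor
      · rintro ⟨⟨a, b⟩, hab, rfl⟩
        exact ⟨a, ((hΔ a b).1 hab).1, ((hΔ a b).1 hab).2⟩
      · rintro ⟨x, hx, rfl⟩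
        exact ⟨(x, ψ x), (hΔ _ _).2 ⟨hx, rfl⟩, rfl⟩
    obtain ⟨P, α, hα, hP1, hP2⟩ := hdata Q ψ hψ hR
    set Γ : Subgroup (T × T) := Subgroup.normalizer (Δ : Set (T × T)) with hΓ
    have hΓP : ∀ g : Γ, (g : T × T).1 ∈ P := by
      intro g
      obtain ⟨h1, h2, h3⟩ := normalizer_graph hΔ g.2
      rw [hproj] at h2
      exact hP1 _ _ h1 h2 h3
    set j : Γ →* ↥P × T :=
      MonoidHom.prod (((MonoidHom.fst T T).comp Γ.subtype).codRestrict P hΓP)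
        ((MonoidHom.snd T T).comp Γ.subtype) with hj
    have hjinj : Function.Injective j := by
      intro g g' h
      have h1 : ((g : T × T).1 : T) = (g' : T × T).1 := congrArg (fun z : ↥P × T => (z.1 : T)) h
      have h2 : (g : T × T).2 = (g' : T × T).2 := congrArg (fun z : ↥P × T => z.2) h
      exact Subtype.ext (Prod.ext h1 h2)
    set f₁ : Γ →* T × T := (inclHom P).comp j with hf₁
    set f₂ : Γ →* T × T := (twistHom α).comp j with hf₂
    have hf₁' : f₁ = Γ.subtype := by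
      ext g <;> rfl
    have hαinj : Function.Injective α := F.injective_of_mem hα
    have hf₂inj : Function.Injective f₂ := (twistHom_injective α hαinj).comp hjinj
    set K : Subgroup Γ := Δ.subgroupOf Γ with hK
    haveI : K.Normal := Subgroup.normal_in_normalizer
    have hK1 : K.map f₁ = Δ := by
      rw [hf₁']
      exact Subgroup.map_subgroupOf_eq_of_le Subgroup.le_normalizer
    -- the image of `K` under `f₂`
    have hK2 : ∀ a b, (a, b) ∈ K.map f₂ ↔ b ∈ R ∧ χ b = a := by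
      intro a b
      constructor
      · rintro ⟨g, hg, hgab⟩
        have hg' : (g : T × T) ∈ Δ := hg
        obtain ⟨hq, hψq⟩ := (hΔ _ _).1 hg'
        have h1 : α ⟨(g : T × T).1, hΓP g⟩ = a := congrArg Prod.fst hgab
        have h2 : (g : T × T).2 = b := congrArg Prod.snd hgab
        obtain ⟨hqP, hαq⟩ := hP2 _ hq
        refine ⟨(hR b).2 ⟨_, hq, hψq.trans h2⟩, ?_⟩
        rw [← h1, ← h2, ← hψq]
        exact hαq.symm
      · rintro ⟨hb, rfl⟩
        obtain ⟨q, hq, rfl⟩ := (hR b).1 hb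
        have hqΔ : (q, ψ q) ∈ Δ := (hΔ _ _).2 ⟨hq, rfl⟩
        refine ⟨⟨(q, ψ q), Subgroup.le_normalizer hqΔ⟩, hqΔ, ?_⟩
        obtain ⟨hqP, hαq⟩ := hP2 _ hq
        show (α ⟨q, _⟩, ψ q) = (χ (ψ q), ψ q)
        rw [← hαq]
    have hKcard : Nat.card K = n := by
      rw [← hcard]
      exact Nat.card_congr (Subgroup.subgroupOfEquivOfLe Subgroup.le_normalizer).toEquiv
    have hcong := mark_modEq_of_hom (X := X) f₁ f₂ K (by
      intro H hH
      have h1 : H.map f₁ = (H.map j).map (inclHom P) := by rw [Subgroup.map_map]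
      have h2 : H.map f₂ = (H.map j).map (twistHom α) := by rw [Subgroup.map_map]
      rw [h1, h2]
      apply mark_twist_eq hX hst hα
      have h3 : Nat.card (H.map j) = Nat.card H :=
        (Nat.card_congr (H.equivMapOfInjective _ hjinj).toEquiv).symm
      rw [h3, ← hKcard]
      exact card_lt_of_lt hH)
    rw [hK1] at hcong
    refine ⟨K.map f₂, hK2, hcong, ?_⟩
    -- divisibility of the weights
    have h1 : K.index = (K.map f₂).relIndex f₂.range := by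
      rw [← Subgroup.relIndex_top_right, ← Subgroup.relIndex_map_map_of_injective K ⊤ hf₂inj,
        ← MonoidHom.range_eq_map]
    have h2 : f₂.range ≤ Subgroup.normalizer ((K.map f₂ : Subgroup (T × T)) : Set (T × T)) := by
      rintro _ ⟨g, rfl⟩
      rw [Subgroup.mem_normalizer_iff]
      intro d
      constructor
      · rintro ⟨k, hk, rfl⟩
        refine ⟨g * k * g⁻¹, ‹K.Normal›.conj_mem k hk g, ?_⟩
        simp only [map_mul, map_inv]
      · rintro ⟨k, hk, hkd⟩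
        refine ⟨g⁻¹ * k * g, ?_, ?_⟩
        · have := ‹K.Normal›.conj_mem k hk g⁻¹
          simpa using this
        · simp only [map_mul, map_inv, hkd]
          group
    have h3 : K.map f₂ ≤ f₂.range := by
      rintro _ ⟨k, -, rfl⟩
      exact ⟨k, rfl⟩
    have h4 := Subgroup.relIndex_mul_relIndex _ _ _ h3 h2
    show Δ.relIndex Γ ∣ (K.map f₂).relIndex _
    have h5 : Δ.relIndex Γ = K.index := rfl
    rw [h5, h1, ← h4]
    exact Dvd.intro _ rfl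
  by_cases hex : ∃ Δ : Subgroup (T × T), IsFGraph F Δ ∧ Nat.card Δ = n ∧
      Δ.map (MonoidHom.snd T T) = R
  · obtain ⟨Δ₀, h1, h2, h3⟩ := hex
    obtain ⟨Δs, hΔs, -, -⟩ := hmain Δ₀ h1 h2 h3
    refine ⟨Δs, fun Δ hΔ hc hp => ?_⟩
    obtain ⟨Δs', hΔs', h4, h5⟩ := hmain Δ hΔ hc hp
    have heq : Δs' = Δs := by
      ext ⟨a, b⟩
      rw [hΔs, hΔs']
    rw [heq] at h4 h5
    exact ⟨h4, h5⟩
  · exact ⟨⊥, fun Δ hΔ hc hp => (hex ⟨Δ, hΔ, hc, hp⟩).elim⟩

end Cfsg.Agent.Lib.Helper88_Biset4
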