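import Mathlib
import Cfsg.Prelude.Def_FusionSystem
import Cfsg.Agent.Lib.Helper87_Alperin
import Cfsg.Agent.Lib.Helper88_Biset4

/-!
# Existence of stable bisets for saturated fusion systems: the induction (helper88)
-/

set_option autoImplicit false
set_option linter.style.haveILetI false

namespace Cfsg.Agent.Lib.Helper88_Biset5

open Cfsg Cfsg.FusionSystem MulAction Cfsg.Agent.Lib.Helper87_Alperin Cfsg.Agent.Lib.Helper88_Marks
  Cfsg.Agent.Lib.Helper88_Biset1 Cfsg.Agent.Lib.Helper88_Biset2 Cfsg.Agent.Lib.Helper88_Biset3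
  Cfsg.Agent.Lib.Helper88_Biset4

universe u

variable {T : Type u} [Group T] {F : FusionSystem (⊤ : Subgroup T)}

theorem mark_le_card {G : Type*} [Group G] {X : Type*} [MulAction G X] [Finite X] (K : Subgroup G) :
    mark G X K ≤ Nat.card X := by
  unfold mark
  exact Nat.card_le_card_of_injective _ Subtype.val_injective

theorem wt_pos [Finite T] (Δ : Subgroup (T × T)) : 0 < wt Δ := by
  unfold wt
  have h := Subgroup.relIndex_dvd_card Δ (Subgroup.normalizer (Δ : Set (T × T)))
  exact Nat.pos_of_dvd_of_pos h Nat.card_pos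

/-- The numerical hypothesis of the stabilization step holds for saturated systems. -/
theorem hyp_of_sat [Finite T] {p : ℕ} [Fact p.Prime] (hT : IsPGroup p (⊤ : Subgroup T))
    (hF : F.IsSaturated p) {J : Type u} [Fintype J] (D : J → Subgroup (T × T))
    (hD : ∀ j, IsFGraph F (D j)) {n : ℕ} (hst : StableAbove F (Union D) n) (R : Subgroup T) :
    ∃ t : ℕ, ∀ Δ : Subgroup (T × T), IsFGraph F Δ → Nat.card Δ = n →
      (∃ g : T, Δ.map (MonoidHom.snd T T) = R.map (MulAut.conj g).toMonoidHom) →
      mark (T × T) (Union D) Δ ≤ t ∧ t ≡ mark (T × T) (Union D) Δ [MOD wt Δ] := by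
  have hX := isFGen_union D hD
  obtain ⟨Δs, hΔs⟩ := sat_cong hT hF hX hst R
  refine ⟨mark (T × T) (Union D) Δs + Nat.card (Union D) * wt Δs, ?_⟩
  intro Δ hΔ hc ⟨g, hg⟩
  set Δ₁ := Δ.map (MulAut.conj ((1 : T), g⁻¹)).toMonoidHom with hΔ₁
  have h1 : IsFGraph F Δ₁ := hΔ.conj _
  have h2 : Nat.card Δ₁ = n := by rw [hΔ₁, card_map_conj, hc]
  have h3 : Δ₁.map (MonoidHom.snd T T) = R := by
    rw [hΔ₁, map_snd_conj, hg, map_conj_map_conj, inv_mul_cancel, map_conj_one]
  obtain ⟨h4, h5⟩ := hΔs Δ₁ h1 h2 h3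
  rw [hΔ₁, mark_map_conj, wt_conj] at h4
  rw [hΔ₁, wt_conj] at h5
  constructor
  · have h6 := mark_le_card (G := T × T) (X := Union D) Δ
    have h7 := wt_pos Δs
    calc mark (T × T) (Union D) Δ ≤ Nat.card (Union D) := h6
      _ = Nat.card (Union D) * 1 := (mul_one _).symm
      _ ≤ Nat.card (Union D) * wt Δs := Nat.mul_le_mul_left _ h7
      _ ≤ _ := Nat.le_add_left _ _
  · have h8 : Nat.card (Union D) * wt Δs ≡ 0 [MOD wt Δ] :=
      (Nat.modEq_zero_iff_dvd).2 (Dvd.dvd.mul_left h5 _)
    have h9 := (Nat.ModEq.add h4.symm h8)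
    simpa using h9

theorem card_union_sum_elim [Finite T] {J J' : Type u} [Fintype J] [Fintype J']
    (D : J → Subgroup (T × T)) (D' : J' → Subgroup (T × T)) :
    Nat.card (Union (Sum.elim D D')) = Nat.card (Union D) + Nat.card (Union D') := by
  rw [card_union, card_union, card_union, Fintype.sum_sum_type]
  rfl

/-- An orbit with stabilizer a proper `F`-graph has cardinality divisible by `p |T|`. -/
theorem card_div_dvd [Finite T] {p : ℕ} [Fact p.Prime] (hT : IsPGroup p (⊤ : Subgroup T))
    {Δ : Subgroup (T × T)} (hΔ : IsFGraph F Δ) (hlt : Nat.card Δ < Nat.card T) :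
    p * Nat.card T ∣ Nat.card (T × T) / Nat.card Δ := by
  have hTp : IsPGroup p T := by
    intro x
    obtain ⟨k, hk⟩ := hT ⟨x, mem_top' x⟩
    exact ⟨k, by simpa [Subtype.ext_iff] using hk⟩
  obtain ⟨e, he⟩ := hTp.exists_card_eq
  have h1 : Nat.card Δ ∣ Nat.card T := by
    rw [← IsFGraph.card_map_snd hΔ]
    exact Subgroup.card_subgroup_dvd_card _
  rw [he] at h1 hlt
  obtain ⟨f, hf, hf'⟩ := (Nat.dvd_prime_pow (Fact.out : p.Prime)).1 h1
  rw [hf'] at hlt ⊢
  have hfe : f < e := (Nat.pow_lt_pow_iff_right (Fact.out : p.Prime).one_lt).1 hlt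
  rw [Nat.card_prod, he]
  have h2 : p ^ e * p ^ e / p ^ f = p ^ e * p ^ (e - f) := by
    rw [Nat.mul_div_assoc _ (pow_dvd_pow p hf), Nat.pow_div hf (Fact.out : p.Prime).pos]
  rw [h2, mul_comm p]
  apply Nat.mul_dvd_mul_left
  exact dvd_pow_self p (by omega)

/-- **The induction.** Starting from a union of orbits stable at the top level, one obtains a
union of orbits stable at all levels, with the same number of points modulo `p |T|`. -/
theorem exists_stable_of_top [Finite T] {p : ℕ} [Fact p.Prime] (hT : IsPGroup p (⊤ : Subgroup T))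
    (hF : F.IsSaturated p) {J₀ : Type u} [Fintype J₀] (D₀ : J₀ → Subgroup (T × T))
    (hD₀ : ∀ j, IsFGraph F (D₀ j)) (hst₀ : StableAbove F (Union D₀) (Nat.card T - 1)) :
    ∃ (J : Type u) (_ : Fintype J) (D : J → Subgroup (T × T)), (∀ j, IsFGraph F (D j)) ∧
      StableAbove F (Union D) 0 ∧
      Nat.card (Union D) ≡ Nat.card (Union D₀) [MOD p * Nat.card T] := by
  have hind : ∀ k : ℕ, ∃ (J : Type u) (_ : Fintype J) (D : J → Subgroup (T × T)),
      (∀ j, IsFGraph F (D j)) ∧ StableAbove F (Union D) (Nat.card T - 1 - k) ∧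
      Nat.card (Union D) ≡ Nat.card (Union D₀) [MOD p * Nat.card T] := by
    intro k
    induction k with
    | zero => exact ⟨J₀, inferInstance, D₀, hD₀, hst₀, Nat.ModEq.refl _⟩
    | succ k ih =>
      obtain ⟨J, hJ, D, hD, hst, hcard⟩ := ih
      by_cases hn : Nat.card T - 1 - k = 0
      · refine ⟨J, hJ, D, hD, ?_, hcard⟩
        have : Nat.card T - 1 - (k + 1) = Nat.card T - 1 - k := by omega
        rw [this]
        exact hst
      · have hn' : 0 < Nat.card T - 1 - k := Nat.pos_of_ne_zero hn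
        obtain ⟨J', hJ', D', hD', hst'⟩ := step D (Nat.card T - 1 - k) hn' hst
          (fun R => hyp_of_sat hT hF D hD hst R)
        refine ⟨J ⊕ J', inferInstance, Sum.elim D D', ?_, ?_, ?_⟩
        · rintro (j | j)
          · exact hD j
          · exact (hD' j).1
        · have : Nat.card T - 1 - (k + 1) = Nat.card T - 1 - k - 1 := by omega
          rw [this]
          exact hst'
        · rw [card_union_sum_elim]
          have h0 : Nat.card (Union D') ≡ 0 [MOD p * Nat.card T] := by
            rw [Nat.modEq_zero_iff_dvd, card_union]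
            apply Finset.dvd_sum
            intro j _
            apply card_div_dvd hT (hD' j).1
            rw [(hD' j).2]
            have : 0 < Nat.card T := Nat.card_pos
            omega
          have := Nat.ModEq.add hcard h0
          simpa using this
  obtain ⟨J, hJ, D, hD, hst, hcard⟩ := hind (Nat.card T)
  refine ⟨J, hJ, D, hD, ?_, hcard⟩
  have : Nat.card T - 1 - Nat.card T = 0 := by omega
  rw [this] at hst
  exact hst

end Cfsg.Agent.Lib.Helper88_Biset5
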