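import Cfsg.Agent.Lib.Helper88_Model
import Cfsg.Agent.Lib.Helper84_KLRealized
import Cfsg.Agent.Lib.Helper84_FusionNormal
import Cfsg.Agent.Lib.Helper84_FusionAlperin
import Cfsg.Agent.Lib.Helper87_GTCentric
import Cfsg.Agent.Lib.Helper87_PInner
import Cfsg.Agent.S5090
import Cfsg.Agent.S5098
import Cfsg.Prelude.Def_FusionSystem
import Cfsg.Prelude.Def_FusionReduction
import Cfsg.Prelude.Def_ConjugacyFunctors

/-!
Kessar–Linckelmann Theorem B (helper88), part 1: basic conversions between normality of a subgroup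
in a fusion system and control by its normalizer system, and the constrained case: in a
constrained `H`-free saturated system, `W(S)` is normal, if `W(P)` is normal in every finite group
of characteristic `p` not involving `H` (with Sylow `p`-subgroup `P`).
-/

set_option autoImplicit false

universe u

namespace Cfsg.Agent.Lib.Helper88_KLB1

open Cfsg Cfsg.FusionSystem Cfsg.Agent.Lib.Helper85_Fusion Cfsg.Agent.Lib.Helper88_Model
  Cfsg.Agent.Lib.Helper87_Alperin Cfsg.Agent.Lib.Helper87_PInner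

section Basic

variable {Ω : Type*} [Group Ω] {S : Subgroup Ω}

/-- If the image of `V ≤ N` is normal in a group realizing the system, `V` is normal in the
system.  (Stated for the pullback of a normal subgroup `Y` of `G` contained in the image.) -/
theorem isNormal_comap_of_normal {N : Subgroup Ω} (E : FusionSystem N)
    {G : Type*} [Group G] (ι : N →* G) (hreal : E.IsRealizedBy ι) (Y : Subgroup G)
    (hUn : Y.Normal) (hUr : Y ≤ ι.range) :
    E.IsNormal ((Y.comap ι).map N.subtype) := by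
  have hι := hreal.1
  set Uh : Subgroup Ω := (Y.comap ι).map N.subtype with hUh
  have hUhN : Uh ≤ N := by
    rintro _ ⟨x, -, rfl⟩
    exact x.2
  have hUh_mem : ∀ (x : Ω) (hx : x ∈ N), x ∈ Uh ↔ ι ⟨x, hx⟩ ∈ Y := by
    intro x hx
    constructor
    · rintro ⟨y, hy, hyx⟩
      have : y = ⟨x, hx⟩ := Subtype.ext hyx
      rw [← this]
      exact hy
    · intro h
      exact ⟨⟨x, hx⟩, h, rfl⟩
  refine ⟨hUhN, fun P φ hφ => ?_⟩
  have hPN := (E.le_of_mem hφ).1
  have hφN := (E.le_of_mem hφ).2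
  obtain ⟨g, hg⟩ := (hreal.2 P hPN φ hφN).1 hφ
  have hDN : P ⊔ Uh ≤ N := sup_le hPN hUhN
  have hconj : ∀ x : ↥(P ⊔ Uh), g * ι ⟨x, hDN x.2⟩ * g⁻¹ ∈ ι.range := by
    let W : Subgroup Ω := ((ι.range.comap (MulAut.conj g).toMonoidHom).comap ι).map N.subtype
    have hW : P ⊔ Uh ≤ W := by
      refine sup_le ?_ ?_
      · intro x hx
        refine ⟨⟨x, hPN hx⟩, ?_, rfl⟩
        show g * ι ⟨x, _⟩ * g⁻¹ ∈ ι.range
        rw [← hg ⟨x, hx⟩]
        exact ⟨_, rfl⟩
      · intro x hx
        refine ⟨⟨x, hUhN hx⟩, ?_, rfl⟩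
        show g * ι ⟨x, _⟩ * g⁻¹ ∈ ι.range
        exact hUr (hUn.conj_mem _ ((hUh_mem x _).1 hx) g)
    intro x
    obtain ⟨y, hy, hyx⟩ := hW x.2
    have : y = ⟨x, hDN x.2⟩ := Subtype.ext hyx
    rw [← this]
    exact hy
  obtain ⟨ψ, hψN, hψE, hψ⟩ := IsRealizedBy.exists_mem_of_conj hreal hDN g hconj
  refine ⟨ψ, hψE, fun x => ?_, ?_⟩
  · have h1 := hψ (Subgroup.inclusion le_sup_left x)
    have h2 := hg x
    have h3 : ι ⟨ψ (Subgroup.inclusion le_sup_left x), hψN _⟩ = ι ⟨φ x, hφN x⟩ := by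
      rw [h1, h2]
      rfl
    exact congrArg Subtype.val (hι h3)
  · ext y
    rw [mem_map_subgroupOf]
    constructor
    · rintro ⟨x, hxU, hxD, rfl⟩
      rw [hUh_mem _ (hψN _), hψ]
      exact hUn.conj_mem _ ((hUh_mem x _).1 hxU) g
    · intro hy
      have hyN := hUhN hy
      have h1 : g⁻¹ * ι ⟨y, hyN⟩ * g ∈ Y := by
        have := hUn.conj_mem _ ((hUh_mem y hyN).1 hy) g⁻¹
        simpa using this
      obtain ⟨x, hx⟩ := hUr h1
      have hxU : (x : Ω) ∈ Uh := (hUh_mem x x.2).2 (by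
        rw [Subtype.coe_eta, hx]
        exact h1)
      have hxD : (x : Ω) ∈ P ⊔ Uh := (le_sup_right : Uh ≤ P ⊔ Uh) hxU
      refine ⟨x, hxU, hxD, ?_⟩
      have h2 : ι ⟨ψ ⟨x, hxD⟩, hψN _⟩ = ι ⟨y, hyN⟩ := by
        rw [hψ]
        show g * ι ⟨(x : Ω), _⟩ * g⁻¹ = _
        rw [Subtype.coe_eta, hx]
        group
      exact congrArg Subtype.val (hι h2)

/-- Normality only depends on the maps. -/
theorem isNormal_of_hom_eq {T : Subgroup Ω} {N : FusionSystem T} {F : FusionSystem S}
    (h : ∀ P : Subgroup Ω, N.Hom P = F.Hom P) {U : Subgroup Ω} (hU : N.IsNormal U) (hUS : U ≤ S) :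
    F.IsNormal U := by
  refine ⟨hUS, fun P φ hφ => ?_⟩
  rw [← h P] at hφ
  obtain ⟨ψ, hψ, h1, h2⟩ := hU.2 P φ hφ
  exact ⟨ψ, h (P ⊔ U) ▸ hψ, h1, h2⟩

/-- If `Q` is normal in `F`, the normalizer system of `Q` has the same maps as `F`. -/
theorem hom_eq_of_isNormal {F : FusionSystem S} {Q : Subgroup Ω} (hQ : F.IsNormal Q)
    (N : FusionSystem (normalizerIn S Q)) (hN : F.IsNormalizerSystem Q N) (P : Subgroup Ω) :
    N.Hom P = F.Hom P := by
  have hSQ : S ≤ Subgroup.normalizer (Q : Set Ω) := Helper84_FusionNormal.IsNormal.le_normalizer hQ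
  rw [hN P]
  apply Set.Subset.antisymm
  · intro φ hφ
    exact hφ.1
  · intro φ hφ
    obtain ⟨ψ, hψ, hext, himg⟩ := hQ.2 P φ hφ
    have hPS := (F.le_of_mem hφ).1
    exact ⟨hφ, le_inf hPS (hPS.trans hSQ),
      fun x => ⟨(F.le_of_mem hφ).2 x, hSQ ((F.le_of_mem hφ).2 x)⟩, ψ, hψ, hext, himg⟩

/-- Every map of the system is a map of the normalizer system of `U`. -/
def Controls (F : FusionSystem S) (U : Subgroup Ω) : Prop :=
  ∀ (P : Subgroup Ω) (f : Ω → Ω), IsMapOn F P f → IsNormMapOn F U P f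

theorem controls_of_isNormal {F : FusionSystem S} {U : Subgroup Ω} (hU : F.IsNormal U) :
    Controls F U := fun _ _ hf =>
  Helper87_GTCentric.isNormMapOn_of_isNormal hU
    (Helper84_FusionNormal.IsNormal.le_normalizer hU) hf

theorem isNormal_of_controls {F : FusionSystem S} {U : Subgroup Ω} (hUS : U ≤ S)
    (hU : Controls F U) : F.IsNormal U := by
  refine ⟨hUS, fun P φ hφ => ?_⟩
  have h1 := hU P (extHom φ) (isMapOn_extHom F hφ)
  have h2 := (mem_normalizerHom_iff F U φ).2 h1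
  obtain ⟨-, -, -, ψ, hψ, hext, himg⟩ := h2
  exact ⟨ψ, hψ, hext, himg⟩

/-- The statement of S5205 from normality. -/
theorem hom_eq_of_isNormal' {F : FusionSystem S} {U : Subgroup Ω} (hU : F.IsNormal U)
    (N : FusionSystem (normalizerIn S U)) (hN : F.IsNormalizerSystem U N) (P : Subgroup Ω) :
    N.Hom P = F.Hom P := hom_eq_of_isNormal hU N hN P

theorem isFullyNormalized_of_le_normalizer [Finite S] (F : FusionSystem S) {Q : Subgroup Ω}
    (hQS : Q ≤ S) (hSQ : S ≤ Subgroup.normalizer (Q : Set Ω)) : F.IsFullyNormalized Q := by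
  have hT : normalizerIn S Q = S := le_antisymm inf_le_left (le_inf le_rfl hSQ)
  refine ⟨hQS, fun Q' _ => ?_⟩
  rw [hT]
  exact Helper84_FusionAlperin.card_le_card_S inf_le_left

end Basic

section Constrained

variable {Ω : Type u} [Group Ω] {S : Subgroup Ω} {p : ℕ} {W : ∀ (Q : Type u) [Group Q], Subgroup Q}

/-- The group-theoretic hypothesis of Theorem B: `W(P)` is normal in every finite group of
characteristic `p` with Sylow `p`-subgroup `P` not involving `H`. -/
def GroupHypB (p : ℕ) (W : ∀ (Q : Type u) [Group Q], Subgroup Q) (H : Type*) [Group H] : Prop :=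
  ∀ (L : Type u) [Group L] [Finite L] (P : Sylow p L),
    Subgroup.centralizer ((Cfsg.pCore p L : Subgroup L) : Set L) =
      Cfsg.pCore p L ⊓ Subgroup.centralizer ((Cfsg.pCore p L : Subgroup L) : Set L) →
    ¬ Cfsg.Involves H L → (((W ↥(P : Subgroup L)).map (P : Subgroup L).subtype : Subgroup L)).Normal

/-- **The constrained case.** -/
theorem isNormal_ind_of_constrained [Finite S] [Fact p.Prime] (hW : Cfsg.IsCharPFunctor.{u} p W)
    {H : Type*} [Group H] (hG : GroupHypB p W H) (hS : IsPGroup p S) (F : FusionSystem S)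
    (hF : F.IsSaturated p) (hfree : F.IsSectionFree p H) {Q : Subgroup Ω} (hQn : F.IsNormal Q)
    (hQc : F.IsCentric Q) : F.IsNormal (Cfsg.inducedFunctor W S) := by
  have hQS : Q ≤ S := hQn.1
  have hSQ : S ≤ Subgroup.normalizer (Q : Set Ω) := Helper84_FusionNormal.IsNormal.le_normalizer hQn
  have hT : normalizerIn S Q = S := le_antisymm inf_le_left (le_inf le_rfl hSQ)
  have hQfn : F.IsFullyNormalized Q := isFullyNormalized_of_le_normalizer F hQS hSQ
  have hN := normalizerSystem_isNormalizerSystem F Q hQS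
  set N := normalizerSystem F Q hQS with hNdef
  have hTS : normalizerIn S Q ≤ S := inf_le_left
  have hfinT : Finite ↥(normalizerIn S Q) := Helper84_FusionRS.finite_of_le_S hTS
  have hTp : IsPGroup p ↥(normalizerIn S Q) := hS.to_le hTS
  have hsatN : N.IsSaturated p := Cfsg.Agent.S5098.result p hS F hF Q hQfn N hN
  have hQnN : N.IsNormal Q := isNormal_of_isNormalizerSystem F hQS N hN
  have hQcN : N.IsCentric Q := isCentric_of_isNormalizerSystem F hQc N hN
  obtain ⟨L', _, ι', hM'⟩ := Cfsg.Agent.S5090.result p hTp N ⟨hsatN, Q, hQnN, hQcN⟩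
  have hfree' : ¬ Involves H L' := hfree Q hQfn hQc N hN L' ι' hM'
  obtain ⟨hfin, hreal, ⟨P, hP⟩, hcent⟩ := hM'
  have hnorm := hG L' P (inf_eq_right.2 hcent).symm hfree'
  have hnorm' : (Cfsg.inducedFunctor W ι'.range).Normal := by
    rw [← hP]
    exact hnorm
  have hYr : Cfsg.inducedFunctor W ι'.range ≤ ι'.range :=
    Cfsg.Agent.Lib.Helper34_NPC.inducedFunctor_le W _
  have h1 := isNormal_comap_of_normal N ι' hreal _ hnorm' hYr
  have h2 : ((Cfsg.inducedFunctor W ι'.range).comap ι').map (normalizerIn S Q).subtype =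
      Cfsg.inducedFunctor W (normalizerIn S Q) := by
    ext y
    constructor
    · rintro ⟨t, ht, rfl⟩
      have h3 : Helper87_Factor.extOn ι' (t : Ω) ∈ Cfsg.inducedFunctor W ι'.range := by
        rw [Helper87_Factor.extOn_coe]
        exact ht
      exact (Helper84_KLRealized.mem_inducedFunctor_range hW hTp hreal.1 t.2).1 h3
    · intro hy
      have hyT : y ∈ normalizerIn S Q := Cfsg.Agent.Lib.Helper34_NPC.inducedFunctor_le W _ hy
      have h3 := (Helper84_KLRealized.mem_inducedFunctor_range hW hTp hreal.1 hyT).2 hy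
      rw [Helper87_Factor.extOn_apply ι' hyT] at h3
      exact ⟨⟨y, hyT⟩, h3, rfl⟩
  have h3 : Cfsg.inducedFunctor W (normalizerIn S Q) = Cfsg.inducedFunctor W S := by rw [hT]
  rw [h2, h3] at h1
  exact isNormal_of_hom_eq (hom_eq_of_isNormal hQn N hN) h1
    (Cfsg.Agent.Lib.Helper34_NPC.inducedFunctor_le W S)

end Constrained

end Cfsg.Agent.Lib.Helper88_KLB1
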