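import Mathlib
import Cfsg.Prelude.Def_FusionSystem
import Cfsg.Agent.Lib.Helper87_Alperin
import Cfsg.Agent.Lib.Helper84_FusionRS
import Cfsg.Agent.Lib.Helper88_KLB1
import Cfsg.Agent.Lib.Helper88_Biset5

/-!
# The top level of the characteristic biset (helper88)

The orbits `(T × T) ⧸ graph(α)` for `α` running over representatives of `Out_F(T)`.
-/

set_option autoImplicit false
set_option linter.style.haveILetI false

namespace Cfsg.Agent.Lib.Helper88_Biset6

open Cfsg Cfsg.FusionSystem MulAction Cfsg.Agent.Lib.Helper87_Alperin Cfsg.Agent.Lib.Helper88_Marks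
  Cfsg.Agent.Lib.Helper88_Biset1 Cfsg.Agent.Lib.Helper88_Biset2 Cfsg.Agent.Lib.Helper88_Biset3
  Cfsg.Agent.Lib.Helper88_Biset4 Cfsg.Agent.Lib.Helper88_Biset5

universe u

variable {T : Type u} [Group T] {F : FusionSystem (⊤ : Subgroup T)}

/-- The endomorphism of `T` given by an automorphism of `⊤`. -/
def homOfAut (α : MulAut ↥(⊤ : Subgroup T)) : T →* T :=
  (⊤ : Subgroup T).subtype.comp (α.toMonoidHom.comp Subgroup.topEquiv.symm.toMonoidHom)

theorem homOfAut_apply (α : MulAut ↥(⊤ : Subgroup T)) (x : T) :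
    homOfAut α x = ((α ⟨x, mem_top' x⟩ : (⊤ : Subgroup T)) : T) := rfl

theorem homOfAut_eq_extFun (α : MulAut ↥(⊤ : Subgroup T)) (x : T) : homOfAut α x = extFun α x :=
  (extFun_apply α (mem_top' x)).symm

theorem homOfAut_injective (α : MulAut ↥(⊤ : Subgroup T)) : Function.Injective (homOfAut α) := by
  intro x y h
  have h1 : α ⟨x, mem_top' x⟩ = α ⟨y, mem_top' y⟩ := Subtype.ext h
  exact congrArg Subtype.val (α.injective h1)

theorem homOfAut_mul (α β : MulAut ↥(⊤ : Subgroup T)) (x : T) :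
    homOfAut (α * β) x = homOfAut α (homOfAut β x) := rfl

theorem homOfAut_inv_apply (α : MulAut ↥(⊤ : Subgroup T)) (x : T) :
    homOfAut α⁻¹ (homOfAut α x) = x := by
  rw [← homOfAut_mul, inv_mul_cancel]
  rfl

theorem homOfAut_apply_inv (α : MulAut ↥(⊤ : Subgroup T)) (x : T) :
    homOfAut α (homOfAut α⁻¹ x) = x := by
  rw [← homOfAut_mul, mul_inv_cancel]
  rfl

/-- The graph of an automorphism. -/
def agraph (α : MulAut ↥(⊤ : Subgroup T)) : Subgroup (T × T) :=
  ((MonoidHom.id T).prod (homOfAut α)).range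

theorem mem_agraph (α : MulAut ↥(⊤ : Subgroup T)) (a b : T) :
    (a, b) ∈ agraph α ↔ homOfAut α a = b := by
  constructor
  · rintro ⟨x, hx⟩
    have h1 : x = a := congrArg Prod.fst hx
    have h2 : homOfAut α x = b := congrArg Prod.snd hx
    rw [← h1, h2]
  · rintro rfl
    exact ⟨a, rfl⟩

theorem card_agraph (α : MulAut ↥(⊤ : Subgroup T)) : Nat.card (agraph α) = Nat.card T := by
  have hinj : Function.Injective ((MonoidHom.id T).prod (homOfAut α)) := by
    intro x y h
    exact congrArg Prod.fst h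
  exact (Nat.card_congr (MonoidHom.ofInjective hinj).toEquiv).symm

theorem isFGraph_agraph {α : MulAut ↥(⊤ : Subgroup T)} (hα : α ∈ F.autGroup ⊤) :
    IsFGraph F (agraph α) := by
  refine ⟨⊤, extFun α, (mem_autGroup_iff F le_rfl α).1 hα, fun a b => ?_⟩
  rw [mem_agraph, homOfAut_eq_extFun]
  simp

/-- Every `F`-graph of order `|T|` is the graph of an automorphism in `Aut_F(T)`. -/
theorem exists_eq_agraph [Finite T] {Δ : Subgroup (T × T)} (hΔ : IsFGraph F Δ)
    (hc : Nat.card Δ = Nat.card T) : ∃ α ∈ F.autGroup ⊤, Δ = agraph α := by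
  have hproj : Δ.map (MonoidHom.snd T T) = ⊤ := by
    apply Subgroup.eq_top_of_card_eq
    rw [IsFGraph.card_map_snd hΔ, hc]
  obtain ⟨Q, f, hf, hΔm⟩ := hΔ
  have hsurj : ∀ y : T, ∃ x ∈ Q, f x = y := by
    intro y
    have hy : y ∈ Δ.map (MonoidHom.snd T T) := by rw [hproj]; exact mem_top' y
    obtain ⟨⟨a, b⟩, hab, rfl⟩ := hy
    exact ⟨a, ((hΔm a b).1 hab).1, ((hΔm a b).1 hab).2⟩
  have hQ : Q = ⊤ := by
    apply Subgroup.eq_top_of_le_card
    have : Function.Surjective (fun x : Q => f x) := by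
      intro y
      obtain ⟨x, hx, hxy⟩ := hsurj y
      exact ⟨⟨x, hx⟩, hxy⟩
    exact Nat.card_le_card_of_surjective _ this
  subst hQ
  obtain ⟨φ, hφ, hφf⟩ := hf
  have hφinj : Function.Injective φ := F.injective_of_mem hφ
  have hbij : Function.Bijective (φ.codRestrict (⊤ : Subgroup T) (fun _ => mem_top' _)) := by
    constructor
    · intro x y h
      exact hφinj (congrArg Subtype.val h)
    · rintro ⟨y, -⟩
      obtain ⟨x, hx, hxy⟩ := hsurj y
      refine ⟨⟨x, hx⟩, Subtype.ext ?_⟩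
      show φ ⟨x, hx⟩ = y
      rw [hφf]
      exact hxy
  set α : MulAut ↥(⊤ : Subgroup T) := MulEquiv.ofBijective _ hbij with hα
  have hαφ : (⊤ : Subgroup T).subtype.comp α.toMonoidHom = φ := by
    ext x
    rfl
  refine ⟨α, (mem_autGroup_iff' F le_rfl α).2 (hαφ ▸ hφ), ?_⟩
  ext ⟨a, b⟩
  rw [hΔm, mem_agraph, homOfAut_apply]
  have h1 : ((α ⟨a, mem_top' a⟩ : (⊤ : Subgroup T)) : T) = f a := hφf ⟨a, mem_top' a⟩
  rw [h1]
  simp

/-- Conjugacy of graphs of automorphisms. -/
theorem agraph_conj_iff (α β : MulAut ↥(⊤ : Subgroup T)) :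
    (∃ g : T × T, agraph β = (agraph α).map (MulAut.conj g).toMonoidHom) ↔
      α⁻¹ * β ∈ autInducedBy (⊤ : Subgroup T) ⊤ := by
  rw [mem_autInducedBy_iff]
  constructor
  · rintro ⟨⟨a, b⟩, hg⟩
    have hkey : ∀ x : T, homOfAut β x = b * homOfAut α (a⁻¹ * x * a) * b⁻¹ := by
      intro x
      have h1 : (x, homOfAut β x) ∈ agraph β := (mem_agraph β _ _).2 rfl
      rw [hg] at h1
      obtain ⟨⟨y, z⟩, hyz, hyz'⟩ := h1
      have h2 : a * y * a⁻¹ = x := congrArg Prod.fst hyz'
      have h3 : b * z * b⁻¹ = homOfAut β x := congrArg Prod.snd hyz'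
      have h4 : homOfAut α y = z := (mem_agraph α _ _).1 hyz
      rw [← h3, ← h4, ← h2]
      congr 3
      group
    refine ⟨homOfAut α⁻¹ b * a⁻¹, mem_top' _, fun x => ?_⟩
    show homOfAut (α⁻¹ * β) (x : T) = _
    rw [homOfAut_mul, hkey, map_mul, map_mul, homOfAut_inv_apply, map_inv]
    group
  · rintro ⟨g, -, hg⟩
    have hkey : ∀ x : T, homOfAut β x = homOfAut α g * homOfAut α x * (homOfAut α g)⁻¹ := by
      intro x
      have h1 : homOfAut (α⁻¹ * β) x = g * x * g⁻¹ := hg ⟨x, mem_top' x⟩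
      rw [homOfAut_mul] at h1
      have h2 := congrArg (homOfAut α) h1
      rw [homOfAut_apply_inv, map_mul, map_mul, map_inv] at h2
      exact h2
    refine ⟨((1 : T), homOfAut α g), ?_⟩
    ext ⟨x, y⟩
    rw [mem_agraph]
    constructor
    · rintro rfl
      refine ⟨(x, homOfAut α x), (mem_agraph α _ _).2 rfl, ?_⟩
      show ((1 : T) * x * (1 : T)⁻¹, homOfAut α g * homOfAut α x * (homOfAut α g)⁻¹) = _
      rw [hkey]
      simp
    · rintro ⟨⟨x', y'⟩, hxy', hxy⟩
      have h1 : (1 : T) * x' * (1 : T)⁻¹ = x := congrArg Prod.fst hxy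
      have h2 : homOfAut α g * y' * (homOfAut α g)⁻¹ = y := congrArg Prod.snd hxy
      have h3 := (mem_agraph α _ _).1 hxy'
      rw [hkey, ← h2, ← h3, ← h1]
      simp

/-- The automorphism `(x, y) ↦ (x, α y)` of `T × T`. -/
def sndEquiv (α : MulAut ↥(⊤ : Subgroup T)) : T × T ≃* T × T :=
  MulEquiv.prodCongr (MulEquiv.refl T)
    ((Subgroup.topEquiv.symm.trans α).trans Subgroup.topEquiv)

theorem sndEquiv_apply (α : MulAut ↥(⊤ : Subgroup T)) (x : T × T) :
    sndEquiv α x = (x.1, homOfAut α x.2) := rfl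

theorem agraph_eq_map (α : MulAut ↥(⊤ : Subgroup T)) :
    agraph α = (agraph (1 : MulAut ↥(⊤ : Subgroup T))).map (sndEquiv α).toMonoidHom := by
  ext ⟨a, b⟩
  rw [mem_agraph]
  constructor
  · rintro rfl
    exact ⟨(a, a), (mem_agraph 1 _ _).2 rfl, rfl⟩
  · rintro ⟨⟨x, y⟩, hxy, hxy'⟩
    have h1 : x = a := congrArg Prod.fst hxy'
    have h2 : homOfAut α y = b := congrArg Prod.snd hxy'
    have h3 : x = y := (mem_agraph 1 _ _).1 hxy
    rw [← h1, h3, h2]

theorem wt_map_equiv (Δ : Subgroup (T × T)) (e : T × T ≃* T × T) :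
    wt (Δ.map e.toMonoidHom) = wt Δ := by
  unfold wt
  rw [← Subgroup.map_equiv_normalizer_eq Δ e,
    Subgroup.relIndex_map_map_of_injective _ _ e.injective]

theorem wt_agraph (α : MulAut ↥(⊤ : Subgroup T)) :
    wt (agraph α) = wt (agraph (1 : MulAut ↥(⊤ : Subgroup T))) := by
  rw [agraph_eq_map, wt_map_equiv]

section Top

set_option linter.unusedSectionVars false

variable [Finite T] (F)

/-- The index set of the top-level orbits: `Out_F(T)`. -/
abbrev JTop : Type u :=
  ↥(F.autGroup (⊤ : Subgroup T)) ⧸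
    ((autInducedBy (⊤ : Subgroup T) ⊤).subgroupOf (F.autGroup (⊤ : Subgroup T)))

/-- The stabilizers of the top-level orbits. -/
noncomputable def DTop (j : JTop F) : Subgroup (T × T) :=
  agraph ((Quotient.out j : F.autGroup (⊤ : Subgroup T)) : MulAut ↥(⊤ : Subgroup T))

theorem isFGraph_DTop (j : JTop F) : IsFGraph F (DTop F j) :=
  isFGraph_agraph (Quotient.out j : F.autGroup (⊤ : Subgroup T)).2

theorem card_DTop (j : JTop F) : Nat.card (DTop F j) = Nat.card T := card_agraph _

instance : Finite (JTop F) := by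
  unfold JTop
  infer_instance

open Classical in
theorem stableAbove_top [Fintype (JTop F)] :
    StableAbove F (Union (DTop F)) (Nat.card T - 1) := by
  refine ⟨fun _ => wt (agraph (1 : MulAut ↥(⊤ : Subgroup T))), fun _ _ => rfl, ?_⟩
  intro Δ hΔ hlt
  have hle : Nat.card Δ ≤ Nat.card T := by
    rw [← IsFGraph.card_map_snd hΔ]
    exact Subgroup.card_le_card_group _
  have hc : Nat.card Δ = Nat.card T := by omega
  obtain ⟨β, hβ, rfl⟩ := exists_eq_agraph hΔ hc
  rw [mark_union]
  set j₀ : JTop F := QuotientGroup.mk ⟨β, hβ⟩ with hj₀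
  have hterm : ∀ j : JTop F, mark (T × T) ((T × T) ⧸ DTop F j) (agraph β) =
      if j = j₀ then wt (agraph (1 : MulAut ↥(⊤ : Subgroup T))) else 0 := by
    intro j
    rw [mark_quotient_of_card_eq _ _ (by rw [card_agraph, card_DTop])]
    have hiff : (∃ g : T × T, agraph β = (DTop F j).map (MulAut.conj g).toMonoidHom) ↔ j = j₀ := by
      unfold DTop
      rw [agraph_conj_iff]
      have h1 : j = j₀ ↔ (Quotient.out j : F.autGroup (⊤ : Subgroup T))⁻¹ * ⟨β, hβ⟩ ∈
          (autInducedBy (⊤ : Subgroup T) ⊤).subgroupOf (F.autGroup (⊤ : Subgroup T)) := by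
        rw [← QuotientGroup.eq, hj₀]
        constructor
        · intro h
          rw [← h]
          exact QuotientGroup.out_eq' j
        · intro h
          rw [← h]
          exact (QuotientGroup.out_eq' j).symm
      rw [h1, Subgroup.mem_subgroupOf]
      rfl
    by_cases hj : j = j₀
    · rw [if_pos hj, if_pos (hiff.2 hj)]
      exact wt_agraph _
    · rw [if_neg hj, if_neg (fun h => hj (hiff.1 h))]
  rw [Finset.sum_congr rfl (fun j _ => hterm j), Finset.sum_ite_eq']
  simp

theorem card_union_top [Fintype (JTop F)] :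
    Nat.card (Union (DTop F)) = Nat.card (JTop F) * Nat.card T := by
  rw [card_union]
  have h : ∀ j : JTop F, Nat.card (T × T) / Nat.card (DTop F j) = Nat.card T := by
    intro j
    rw [card_DTop, Nat.card_prod, Nat.mul_div_cancel _ Nat.card_pos]
  rw [Finset.sum_congr rfl (fun j _ => h j), Finset.sum_const, Finset.card_univ, smul_eq_mul,
    Nat.card_eq_fintype_card (α := JTop F)]

theorem not_dvd_card_JTop {p : ℕ} [Fact p.Prime] (hT : IsPGroup p (⊤ : Subgroup T))
    (hF : F.IsSaturated p) : ¬ p ∣ Nat.card (JTop F) := by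
  have hfn : F.IsFullyNormalized (⊤ : Subgroup T) :=
    Helper88_KLB1.isFullyNormalized_of_le_normalizer F le_rfl (fun x _ => by
      rw [Subgroup.mem_normalizer_iff]
      intro y
      simp)
  obtain ⟨-, R, hR⟩ := Helper84_FusionRS.IsSaturated.isFullyAutomized hT hF hfn
  have h1 := R.not_dvd_index
  rw [hR] at h1
  exact h1

end Top

/-- **Existence of a characteristic biset** for a saturated fusion system over `T`: a union of
orbits `(T × T) ⧸ Δ` with `Δ` graphs of maps of `F`, with stable marks, and with `m |T|` points,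
`m` prime to `p`. -/
theorem exists_char_biset [Finite T] {p : ℕ} [Fact p.Prime] (hT : IsPGroup p (⊤ : Subgroup T))
    (hF : F.IsSaturated p) :
    ∃ (J : Type u) (_ : Fintype J) (D : J → Subgroup (T × T)) (m : ℕ),
      (∀ j, IsFGraph F (D j)) ∧ StableAbove F (Union D) 0 ∧
      Nat.card (Union D) = m * Nat.card T ∧ ¬ p ∣ m := by
  classical
  letI : Fintype (JTop F) := Fintype.ofFinite _
  obtain ⟨J, hJ, D, hD, hst, hcard⟩ := exists_stable_of_top hT hF (DTop F) (isFGraph_DTop F)
    (stableAbove_top F)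
  rw [card_union_top] at hcard
  have hTpos : Nat.card T ≠ 0 := Nat.card_pos.ne'
  have hdvd : Nat.card T ∣ Nat.card (Union D) :=
    (Nat.ModEq.dvd_iff hcard (dvd_mul_left _ _)).2 (dvd_mul_left _ _)
  obtain ⟨m, hm⟩ := hdvd
  refine ⟨J, hJ, D, m, hD, hst, by rw [hm, mul_comm], ?_⟩
  rw [hm, mul_comm (Nat.card T) m] at hcard
  have h2 := Nat.ModEq.mul_right_cancel' hTpos hcard
  intro hpm
  exact not_dvd_card_JTop F hT hF ((Nat.ModEq.dvd_iff h2 dvd_rfl).1 hpm)

end Cfsg.Agent.Lib.Helper88_Biset6
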