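import Mathlib
import Cfsg.Prelude.Def_FusionSystem
import Cfsg.Agent.Lib.Helper87_Alperin
import Cfsg.Agent.Lib.Helper85_Transport
import Cfsg.Agent.Lib.Helper85_Transport2
import Cfsg.Agent.Lib.Helper88_Biset6
import Cfsg.Agent.Lib.Helper88_Biset7
import Cfsg.Agent.Lib.Helper84_TateCore

/-!
# The twisted transfer of a saturated fusion system into a central extension (helper84)

Let `F` be a saturated fusion system over a finite `p`-group `S`, `q : G → Gb` a surjective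
homomorphism with central kernel and `σ : S → G` a homomorphism such that every map of `F` becomes
"inner" in `Gb` after applying `q ∘ σ`.  Then there are `m` prime to `p` and a homomorphism
`d : S → ker q` such that `y ↦ d y * (σ y ^ m)⁻¹` is constant along the maps of `F` between elements
with `σ y` central.
-/

set_option autoImplicit false
set_option linter.style.haveILetI false

namespace Cfsg.Agent.Lib.Helper84_TateBiset

open Cfsg Cfsg.FusionSystem MulAction Cfsg.Agent.Lib.Helper87_Alperin Cfsg.Agent.Lib.Helper88_Marks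
  Cfsg.Agent.Lib.Helper88_Biset1 Cfsg.Agent.Lib.Helper88_Biset2 Cfsg.Agent.Lib.Helper88_Biset3
  Cfsg.Agent.Lib.Helper88_Biset6 Cfsg.Agent.Lib.Helper88_Biset7 Cfsg.Agent.Lib.Helper84_TateCore
  Cfsg.Agent.Lib.Helper85_Transport Cfsg.Agent.Lib.Helper85_Transport2

universe u w w'

/-- The twisted transfer for a system over the whole group `T`. -/
theorem exists_twisted_transfer_top {T : Type u} [Group T] [Finite T] {p : ℕ} [Fact p.Prime]
    {F : FusionSystem (⊤ : Subgroup T)} (hT : IsPGroup p (⊤ : Subgroup T)) (hF : F.IsSaturated p)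
    {G : Type w} [Group G] {Gb : Type w'} [Group Gb] (q : G →* Gb) (hq : Function.Surjective q)
    (hker : q.ker ≤ Subgroup.center G) (σ : T →* G)
    (hinn : ∀ (Q : Subgroup T) (f : T → T), IsMapOn F Q f →
      ∃ γ : Gb, ∀ a ∈ Q, q (σ a) * γ = γ * q (σ (f a))) :
    ∃ (m : ℕ) (d : T →* G), ¬ p ∣ m ∧ (∀ s, q (d s) = 1) ∧
      ∀ (Q : Subgroup T) (f : T → T), IsMapOn F Q f → ∀ y ∈ Q,
        σ y ∈ Subgroup.center G → σ (f y) ∈ Subgroup.center G →
        d y * (σ y ^ m)⁻¹ = d (f y) * (σ (f y) ^ m)⁻¹ := by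
  obtain ⟨J, hJ, D, m, hD, hst, hcard, hpm⟩ := exists_char_biset hT hF
  have hX : IsFGen F (Union D) := isFGen_union D hD
  have hfree : ∀ (x : Union D) (t : T), ((1 : T), t) • x = x → t = 1 :=
    fun x t h => eq_one_of_smul_eq hX h
  have hn : Nat.card (ROrb T (Union D)) = m := by
    have h1 := card_eq_card_rorb_mul (T := T) (X := Union D) hfree
    rw [hcard] at h1
    exact (Nat.eq_of_mul_eq_mul_right Nat.card_pos h1).symm
  have hm0 : m ≠ 0 := by
    rintro rfl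
    exact hpm (dvd_zero p)
  haveI : Finite (Union D) := by
    apply Nat.finite_of_card_ne_zero
    rw [hcard]
    exact Nat.mul_ne_zero hm0 Nat.card_pos.ne'
  have hstab : ∀ ξ : Union D, ∃ γ : Gb, ∀ a b : T, ((a, b) : T × T) • ξ = ξ →
      q (σ a) * γ = γ * q (σ b) := by
    intro ξ
    obtain ⟨Q, f, hf, hΔ⟩ := hX ξ
    obtain ⟨γ, hγ⟩ := hinn Q f hf
    refine ⟨γ, ?_⟩
    intro a b hab
    have h1 : (a, b) ∈ stabilizer (T × T) ξ := hab
    obtain ⟨h2, h3⟩ := (hΔ _ _).1 h1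
    rw [← h3]
    exact hγ a h2
  obtain ⟨d, hd1, hd2⟩ := exists_twisted_transfer hfree q hq hker σ hstab
  refine ⟨m, d, hpm, hd1, ?_⟩
  rintro Q f ⟨φ, hφ, hφf⟩ y hy hcy hcfy
  obtain ⟨e, he⟩ := exists_equiv_of_marks_hom (X := Union D) (inclHom Q) (twistHom φ)
    (fun H => mark_twist_eq hX hst hφ H Nat.card_pos)
  have h1 := hd2 y (f y) hcy hcfy e e.surjective ?_ ?_
  · rw [hn] at h1
    exact h1
  · intro t ξ
    have h2 := he ((1 : Q), t) ξ
    rw [inclHom_apply, twistHom_apply, map_one] at h2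
    exact h2
  · intro ξ
    have h2 := he (⟨y, hy⟩, (1 : T)) ξ
    rw [inclHom_apply, twistHom_apply, hφf ⟨y, hy⟩] at h2
    exact h2

/-- The version of `exists_twisted_transfer_top` for a system over a subgroup equal to `⊤`. -/
theorem exists_twisted_transfer_of_eq_top {T : Type u} [Group T] [Finite T] {p : ℕ} [Fact p.Prime]
    {S₀ : Subgroup T} (h : S₀ = ⊤) (F₀ : FusionSystem S₀) (hT : IsPGroup p S₀)
    (hF : F₀.IsSaturated p)
    {G : Type w} [Group G] {Gb : Type w'} [Group Gb] (q : G →* Gb) (hq : Function.Surjective q)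
    (hker : q.ker ≤ Subgroup.center G) (σ : T →* G)
    (hinn : ∀ (Q : Subgroup T) (f : T → T), IsMapOn F₀ Q f →
      ∃ γ : Gb, ∀ a ∈ Q, q (σ a) * γ = γ * q (σ (f a))) :
    ∃ (m : ℕ) (d : T →* G), ¬ p ∣ m ∧ (∀ s, q (d s) = 1) ∧
      ∀ (Q : Subgroup T) (f : T → T), IsMapOn F₀ Q f → ∀ y ∈ Q,
        σ y ∈ Subgroup.center G → σ (f y) ∈ Subgroup.center G →
        d y * (σ y ^ m)⁻¹ = d (f y) * (σ (f y) ^ m)⁻¹ := by
  subst h
  exact exists_twisted_transfer_top hT hF q hq hker σ hinn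

variable {Ω : Type u} [Group Ω] {S : Subgroup Ω}

/-- **The twisted transfer of a saturated fusion system into a central extension.** -/
theorem exists_twisted_transfer_sub [Finite S] {p : ℕ} [Fact p.Prime] (hS : IsPGroup p S)
    (F : FusionSystem S) (hF : F.IsSaturated p)
    {G : Type w} [Group G] {Gb : Type w'} [Group Gb] (q : G →* Gb) (hq : Function.Surjective q)
    (hker : q.ker ≤ Subgroup.center G) (σ : ↥S →* G)
    (hinn : ∀ (Q : Subgroup Ω) (f : Ω → Ω) (hf : IsMapOn F Q f),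
      ∃ γ : Gb, ∀ (a : Ω) (ha : a ∈ Q),
        q (σ ⟨a, hf.le ha⟩) * γ = γ * q (σ ⟨f a, hf.mem ha⟩)) :
    ∃ (m : ℕ) (d : ↥S →* G), ¬ p ∣ m ∧ (∀ s, q (d s) = 1) ∧
      ∀ (Q : Subgroup Ω) (f : Ω → Ω) (hf : IsMapOn F Q f) (y : Ω) (hy : y ∈ Q),
        σ ⟨y, hf.le hy⟩ ∈ Subgroup.center G → σ ⟨f y, hf.mem hy⟩ ∈ Subgroup.center G →
        d ⟨y, hf.le hy⟩ * (σ ⟨y, hf.le hy⟩ ^ m)⁻¹ =
          d ⟨f y, hf.mem hy⟩ * (σ ⟨f y, hf.mem hy⟩ ^ m)⁻¹ := by
  set e : S ≃* (⊤ : Subgroup ↥S) := Subgroup.topEquiv.symm with he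
  have hcorr : SubCorr e F (pushSub e le_rfl F) := subCorr_pushSub le_rfl
  have hT : IsPGroup p ↥(push e S) := by
    rintro ⟨x, hx⟩
    obtain ⟨k, hk⟩ := hS x
    exact ⟨k, Subtype.ext hk⟩
  have hsat : (pushSub e le_rfl F).IsSaturated p := hcorr.isSaturated' hF
  have hext : ∀ (x : Ω) (hx : x ∈ S), ext e x = ⟨x, hx⟩ := by
    intro x hx
    rw [ext_apply e hx]
    rfl
  have hext' : ∀ y : ↥S, ext e.symm y = (y : Ω) := by
    intro y
    rw [ext_apply e.symm (Subgroup.mem_top y)]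
    rfl
  have hinn' : ∀ (Q' : Subgroup ↥S) (f' : ↥S → ↥S), IsMapOn (pushSub e le_rfl F) Q' f' →
      ∃ γ : Gb, ∀ a ∈ Q', q (σ a) * γ = γ * q (σ (f' a)) := by
    intro Q' f' hf'
    have h1 := hcorr.bwd Q' f' hf'
    obtain ⟨γ, hγ⟩ := hinn _ _ h1
    refine ⟨γ, ?_⟩
    intro a ha
    have h2 : (a : Ω) ∈ push e.symm Q' := by
      rw [mem_push]
      exact ⟨a, ha, Subgroup.mem_top _, hext' a⟩
    have h3 := hγ (a : Ω) h2
    have h4 : (⟨(ext e.symm ∘ f' ∘ ext e) (a : Ω), h1.mem h2⟩ : ↥S) = f' a := by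
      apply Subtype.ext
      show ext e.symm (f' (ext e (a : Ω))) = _
      rw [hext _ a.2, hext']
    rw [h4] at h3
    exact h3
  obtain ⟨m, d, hm, hd1, hd2⟩ := exists_twisted_transfer_of_eq_top (push_self e)
    (pushSub e le_rfl F) hT hsat q hq hker σ hinn'
  refine ⟨m, d, hm, hd1, ?_⟩
  intro Q f hf y hy hcy hcfy
  have hyS : y ∈ S := hf.le hy
  have h1 := hd2 _ _ (hcorr.fwd Q f hf) (ext e y) (ext_mem_push e hy hyS)
  have h2 : (ext e ∘ f ∘ ext e.symm) (ext e y) = ⟨f y, hf.mem hy⟩ := by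
    show ext e (f (ext e.symm (ext e y))) = _
    rw [ext_symm_ext e hyS, hext (f y) (hf.mem hy)]
  rw [h2, hext y hyS] at h1
  exact h1 hcy hcfy

end Cfsg.Agent.Lib.Helper84_TateBiset
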