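import Mathlib

/-!
# Group theoretic lemmas for Tate's theorem for fusion systems (helper84)
-/

set_option autoImplicit false

namespace Cfsg.Agent.Lib.Helper84_TateGroup

open scoped commutatorElement

/-- In a nilpotent group, `L ≤ K ⊔ [L, T]` with `K` normal implies `L ≤ K`. -/
theorem le_of_le_sup_commutator {T : Type*} [Group T] [hnil : Group.IsNilpotent T] (K L : Subgroup T)
    [hK : K.Normal] (h : L ≤ K ⊔ ⁅L, (⊤ : Subgroup T)⁆) : L ≤ K := by
  have key : ∀ n : ℕ, L ≤ K ⊔ (⊤ : Subgroup T).lowerCentralSeries n := by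
    intro n
    induction n with
    | zero =>
      rw [Subgroup.lowerCentralSeries_zero]
      exact le_sup_of_le_right le_top
    | succ n ih =>
      refine h.trans (sup_le le_sup_left ?_)
      rw [Subgroup.commutator_le]
      intro x hx g _
      obtain ⟨k, hk, c, hc, rfl⟩ := Subgroup.mem_sup_of_normal_left.1 (ih hx)
      have h1 : ⁅k * c, g⁆ = (k * ⁅c, g⁆ * k⁻¹) * ⁅k, g⁆ := by
        simp only [commutatorElement_def]
        group
      rw [h1]
      apply Subgroup.mul_mem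
      · apply Subgroup.mem_sup_right
        have h2 : ⁅c, g⁆ ∈ (⊤ : Subgroup T).lowerCentralSeries (n + 1) := by
          rw [Subgroup.lowerCentralSeries_succ]
          exact Subgroup.commutator_mem_commutator hc (Subgroup.mem_top g)
        exact (Subgroup.lowerCentralSeries_normal (⊤ : Subgroup T) (n + 1)).conj_mem _ h2 k
      · apply Subgroup.mem_sup_left
        have h3 : ⁅k, g⁆ = k * (g * k⁻¹ * g⁻¹) := by
          simp only [commutatorElement_def]
          group
        rw [h3]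
        exact K.mul_mem hk (hK.conj_mem _ (K.inv_mem hk) g)
  obtain ⟨n, hn⟩ := Subgroup.nilpotent_iff_lowerCentralSeries.1 hnil
  have := key n
  rwa [hn, sup_bot_eq] at this

/-- The finishing argument: a homomorphism `d : T → T / M` with values in `L / M`, equal to the `m`-th
power map on `L` with `m` prime to `p`, and with `L ≤ Φ(T) ker d`, forces `L ≤ M`. -/
theorem le_of_transfer {T : Type*} [Group T] [Finite T] {p : ℕ} [hp : Fact p.Prime]
    (hT : IsPGroup p T) (L M : Subgroup T) [M.Normal] (m : ℕ) (hm : ¬ p ∣ m) (d : T →* T ⧸ M)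
    (h1 : ∀ s : T, ∃ l ∈ L, d s = (QuotientGroup.mk l : T ⧸ M))
    (h2 : ∀ l ∈ L, d l = (QuotientGroup.mk l : T ⧸ M) ^ m)
    (h3 : L ≤ frattini T ⊔ d.ker) : L ≤ M := by
  have hcop : ∀ a : T ⧸ M, m.Coprime (orderOf a) := by
    intro a
    obtain ⟨k, hk⟩ := (hT.to_quotient M) a
    have h4 : orderOf a ∣ p ^ k := orderOf_dvd_of_pow_eq_one hk
    have h5 : m.Coprime (p ^ k) :=
      Nat.Coprime.pow_right k ((Nat.Prime.coprime_iff_not_dvd hp.out).2 hm).symm
    exact Nat.Coprime.coprime_dvd_right h4 h5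
  have hN : d.ker ⊔ L = ⊤ := by
    rw [eq_top_iff]
    intro s _
    obtain ⟨l₀, hl₀, hd⟩ := h1 s
    obtain ⟨m', hm'⟩ := exists_pow_eq_self_of_coprime (hcop (QuotientGroup.mk l₀ : T ⧸ M))
    have hl : l₀ ^ m' ∈ L := L.pow_mem hl₀ m'
    have h4 : d (l₀ ^ m') = d s := by
      rw [h2 _ hl, hd, QuotientGroup.mk_pow, ← pow_mul, mul_comm, pow_mul, hm']
    have h5 : s * (l₀ ^ m')⁻¹ ∈ d.ker := by
      rw [MonoidHom.mem_ker, map_mul, map_inv, h4, mul_inv_cancel]
    have h6 : s = (s * (l₀ ^ m')⁻¹) * l₀ ^ m' := by group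
    rw [h6]
    exact Subgroup.mul_mem _ (Subgroup.mem_sup_left h5) (Subgroup.mem_sup_right hl)
  have hker : d.ker = ⊤ := by
    apply frattini_nongenerating
    rw [eq_top_iff, ← hN]
    exact sup_le le_sup_left (h3.trans (sup_le le_sup_right le_sup_left))
  intro l hl
  have h4 : (QuotientGroup.mk l : T ⧸ M) ^ m = 1 := by
    rw [← h2 l hl]
    have : l ∈ d.ker := by rw [hker]; exact Subgroup.mem_top l
    exact this
  have h5 : orderOf (QuotientGroup.mk l : T ⧸ M) ∣ m := orderOf_dvd_of_pow_eq_one h4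
  have h6 := Nat.Coprime.eq_one_of_dvd (hcop _).symm h5
  rw [orderOf_eq_one_iff] at h6
  exact (QuotientGroup.eq_one_iff l).1 h6

/-! ### The defect `κ = d · σ^{-m}` on a subgroup with central image -/

section Kappa

variable {T G : Type*} [Group T] [Group G] (d σ : T →* G) (m : ℕ)

/-- The defect of `d` from the `m`-th power of `σ`. -/
def kappa (s : T) : G := d s * (σ s ^ m)⁻¹

theorem kappa_one : kappa d σ m 1 = 1 := by
  unfold kappa
  rw [map_one, map_one, one_pow, inv_one, mul_one]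

theorem kappa_eq_one_iff (s : T) : kappa d σ m s = 1 ↔ d s = σ s ^ m := by
  unfold kappa
  rw [mul_inv_eq_one]

variable {d σ m}

theorem kappa_mul {a b : T} (ha : σ a ∈ Subgroup.center G) (hb : σ b ∈ Subgroup.center G) :
    kappa d σ m (a * b) = kappa d σ m a * kappa d σ m b := by
  unfold kappa
  have hab : Commute (σ a) (σ b) := Subgroup.mem_center_iff.1 hb (σ a)
  have h1 : (σ a ^ m)⁻¹ ∈ Subgroup.center G := Subgroup.inv_mem _ (Subgroup.pow_mem _ ha m)
  have h2 : (σ a ^ m)⁻¹ * d b = d b * (σ a ^ m)⁻¹ := (Subgroup.mem_center_iff.1 h1 (d b)).symm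
  rw [map_mul, map_mul, hab.mul_pow, mul_inv_rev]
  calc d a * d b * ((σ b ^ m)⁻¹ * (σ a ^ m)⁻¹)
      = d a * (d b * (σ a ^ m)⁻¹) * (σ b ^ m)⁻¹ := by
        have h3 : (σ b ^ m)⁻¹ * (σ a ^ m)⁻¹ = (σ a ^ m)⁻¹ * (σ b ^ m)⁻¹ :=
          (Subgroup.mem_center_iff.1 h1 _)
        rw [h3]
        group
    _ = d a * ((σ a ^ m)⁻¹ * d b) * (σ b ^ m)⁻¹ := by rw [h2]
    _ = _ := by group

/-- Telescoping: if `v (n + 1) = v n * u n`, all `u n` have central image and the same defect, then the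
defect of `v n` is the `n`-th power of the defect of `u 0`. -/
theorem kappa_telescope (L : Subgroup T) (hL : ∀ l ∈ L, σ l ∈ Subgroup.center G) (u v : ℕ → T)
    (hu : ∀ n, u n ∈ L) (hv0 : v 0 = 1) (hv : ∀ n, v (n + 1) = v n * u n)
    (hκ : ∀ n, kappa d σ m (u (n + 1)) = kappa d σ m (u n)) (n : ℕ) :
    kappa d σ m (v n) = kappa d σ m (u 0) ^ n := by
  have hu0 : ∀ n, kappa d σ m (u n) = kappa d σ m (u 0) := by
    intro n
    induction n with
    | zero => rfl
    | succ n ih => rw [hκ, ih]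
  have hvL : ∀ n, v n ∈ L := by
    intro n
    induction n with
    | zero => rw [hv0]; exact L.one_mem
    | succ n ih => rw [hv]; exact L.mul_mem ih (hu n)
  induction n with
  | zero => rw [hv0, kappa_one, pow_zero]
  | succ n ih =>
    rw [hv, kappa_mul (hL _ (hvL n)) (hL _ (hu n)), ih, hu0 n, pow_succ]

variable (d σ m)

/-- The elements of `L` on which `d` is the `m`-th power of `σ`. -/
def eqSub (L : Subgroup T) (hL : ∀ l ∈ L, σ l ∈ Subgroup.center G) : Subgroup T where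
  carrier := {l | l ∈ L ∧ kappa d σ m l = 1}
  one_mem' := ⟨L.one_mem, kappa_one d σ m⟩
  mul_mem' := by
    rintro a b ⟨ha, ha'⟩ ⟨hb, hb'⟩
    refine ⟨L.mul_mem ha hb, ?_⟩
    rw [kappa_mul (hL a ha) (hL b hb), ha', hb', one_mul]
  inv_mem' := by
    rintro a ⟨ha, ha'⟩
    refine ⟨L.inv_mem ha, ?_⟩
    have h1 := kappa_mul (d := d) (m := m) (hL a ha) (hL a⁻¹ (L.inv_mem ha))
    rw [mul_inv_cancel, kappa_one, ha', one_mul] at h1
    exact h1.symm

theorem mem_eqSub {L : Subgroup T} {hL : ∀ l ∈ L, σ l ∈ Subgroup.center G} {l : T} :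
    l ∈ eqSub d σ m L hL ↔ l ∈ L ∧ d l = σ l ^ m := by
  show (l ∈ L ∧ kappa d σ m l = 1) ↔ _
  rw [kappa_eq_one_iff]

end Kappa

end Cfsg.Agent.Lib.Helper84_TateGroup
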