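import Cfsg.Agent.Lib.Helper84_TateBiset
import Cfsg.Agent.Lib.Helper84_TateGroup
import Cfsg.Agent.Lib.Helper84_FusionAlperin
import Cfsg.Agent.Lib.Helper34_Sylow
import Cfsg.Agent.Lib.Helper87_Hyperfocal
import Cfsg.Agent.S5124
import Cfsg.Agent.S5092

/-!
# Tate's theorem for fusion systems (helper84)

The twisted transfer of a saturated fusion system `F` over `S` into the central extension
`S / M → S / L` for `[L, S] ≤ M ≤ L`, where `L` is the focal or the hyperfocal subgroup, and its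
consequences: `foc(F) ≤ Φ(S) foc(H)` implies `foc(F) ≤ foc(H)`, `foc(F) = foc(H)` implies
`hyp(F) = hyp(H)`, and `hyp(F) ≤ Φ(S)` implies `hyp(F) = 1`.
-/

set_option autoImplicit false
set_option linter.style.haveILetI false

namespace Cfsg.Agent.Lib.Helper84_TateFusion

open Cfsg Cfsg.FusionSystem Cfsg.Agent.Lib.Helper87_Alperin Cfsg.Agent.Lib.Helper84_TateBiset
  Cfsg.Agent.Lib.Helper84_TateGroup

open scoped commutatorElement

universe u

variable {Ω : Type u} [Group Ω] {S : Subgroup Ω}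

/-- Elements of `L` are central modulo `M` if `[L, S] ≤ M`. -/
theorem mk_mem_center_of_mem {L M : Subgroup Ω} [(M.subgroupOf S).Normal]
    (hcomm : ∀ l ∈ L, ∀ s ∈ S, l * s * l⁻¹ * s⁻¹ ∈ M) {x : ↥S} (hx : (x : Ω) ∈ L) :
    (QuotientGroup.mk x : ↥S ⧸ M.subgroupOf S) ∈ Subgroup.center (↥S ⧸ M.subgroupOf S) := by
  rw [Subgroup.mem_center_iff]
  intro g
  obtain ⟨g, rfl⟩ := QuotientGroup.mk_surjective g
  rw [← QuotientGroup.mk_mul, ← QuotientGroup.mk_mul, QuotientGroup.eq, Subgroup.mem_subgroupOf]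
  have h1 := hcomm _ (L.inv_mem hx) _ (S.inv_mem g.2)
  have h2 : (((g * x)⁻¹ * (x * g) : ↥S) : Ω) = (x : Ω)⁻¹ * (g : Ω)⁻¹ * ((x : Ω)⁻¹)⁻¹ * ((g : Ω)⁻¹)⁻¹ := by
    simp only [Subgroup.coe_mul, Subgroup.coe_inv]
    group
  rw [h2]
  exact h1

/-- **The twisted transfer into `S / M`** for `[L, S] ≤ M ≤ L` when all maps of the system are inner
modulo `L`. -/
theorem exists_transfer_quot [Finite S] {p : ℕ} [Fact p.Prime] (hS : IsPGroup p S)
    (F : FusionSystem S) (hF : F.IsSaturated p) (L M : Subgroup Ω) (hML : M ≤ L)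
    [hMn : (M.subgroupOf S).Normal]
    (hcomm : ∀ l ∈ L, ∀ s ∈ S, l * s * l⁻¹ * s⁻¹ ∈ M)
    (hinn : ∀ (Q : Subgroup Ω) (f : Ω → Ω), IsMapOn F Q f →
      ∃ w ∈ S, ∀ a ∈ Q, (w * a * w⁻¹)⁻¹ * f a ∈ L) :
    ∃ (m : ℕ) (d : ↥S →* ↥S ⧸ M.subgroupOf S), ¬ p ∣ m ∧
      (∀ s : ↥S, ∃ l : ↥S, (l : Ω) ∈ L ∧ d s = QuotientGroup.mk l) ∧
      ∀ (Q : Subgroup Ω) (f : Ω → Ω) (hf : IsMapOn F Q f) (y : Ω) (hy : y ∈ Q),
        (QuotientGroup.mk (⟨y, hf.le hy⟩ : ↥S) : ↥S ⧸ M.subgroupOf S) ∈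
          Subgroup.center (↥S ⧸ M.subgroupOf S) →
        (QuotientGroup.mk (⟨f y, hf.mem hy⟩ : ↥S) : ↥S ⧸ M.subgroupOf S) ∈
          Subgroup.center (↥S ⧸ M.subgroupOf S) →
        d ⟨y, hf.le hy⟩ *
            ((QuotientGroup.mk (⟨y, hf.le hy⟩ : ↥S) : ↥S ⧸ M.subgroupOf S) ^ m)⁻¹ =
          d ⟨f y, hf.mem hy⟩ *
            ((QuotientGroup.mk (⟨f y, hf.mem hy⟩ : ↥S) : ↥S ⧸ M.subgroupOf S) ^ m)⁻¹ := by
  -- `L` is normal in `S`
  haveI hLn : (L.subgroupOf S).Normal := by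
    constructor
    intro l hl s
    rw [Subgroup.mem_subgroupOf] at hl ⊢
    have h1 := hcomm _ hl _ s.2
    have h2 : ((s * l * s⁻¹ : ↥S) : Ω) =
        ((l : Ω) * (s : Ω) * (l : Ω)⁻¹ * (s : Ω)⁻¹)⁻¹ * (l : Ω) := by
      simp only [Subgroup.coe_mul, Subgroup.coe_inv]
      group
    rw [h2]
    exact L.mul_mem (L.inv_mem (hML h1)) hl
  have hle : M.subgroupOf S ≤ (L.subgroupOf S).comap (MonoidHom.id ↥S) := by
    intro x hx
    exact hML hx
  set q : ↥S ⧸ M.subgroupOf S →* ↥S ⧸ L.subgroupOf S :=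
    QuotientGroup.map (M.subgroupOf S) (L.subgroupOf S) (MonoidHom.id ↥S) hle with hqdef
  have hqmk : ∀ x : ↥S, q (QuotientGroup.mk x) = QuotientGroup.mk x := fun x => rfl
  have hq : Function.Surjective q := by
    intro y
    obtain ⟨x, rfl⟩ := QuotientGroup.mk_surjective y
    exact ⟨QuotientGroup.mk x, rfl⟩
  have hker : q.ker ≤ Subgroup.center (↥S ⧸ M.subgroupOf S) := by
    intro y hy
    obtain ⟨x, rfl⟩ := QuotientGroup.mk_surjective y
    rw [MonoidHom.mem_ker, hqmk, QuotientGroup.eq_one_iff, Subgroup.mem_subgroupOf] at hy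
    exact mk_mem_center_of_mem hcomm hy
  set σ : ↥S →* ↥S ⧸ M.subgroupOf S := QuotientGroup.mk' (M.subgroupOf S) with hσ
  have hinn' : ∀ (Q : Subgroup Ω) (f : Ω → Ω) (hf : IsMapOn F Q f),
      ∃ γ : ↥S ⧸ L.subgroupOf S, ∀ (a : Ω) (ha : a ∈ Q),
        q (σ ⟨a, hf.le ha⟩) * γ = γ * q (σ ⟨f a, hf.mem ha⟩) := by
    intro Q f hf
    obtain ⟨w, hw, hwf⟩ := hinn Q f hf
    refine ⟨QuotientGroup.mk (⟨w, hw⟩ : ↥S)⁻¹, ?_⟩
    intro a ha
    show q (QuotientGroup.mk _) * _ = _ * q (QuotientGroup.mk _)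
    rw [hqmk, hqmk]
    have h1 : (QuotientGroup.mk (⟨f a, hf.mem ha⟩ : ↥S) : ↥S ⧸ L.subgroupOf S) =
        QuotientGroup.mk ((⟨w, hw⟩ : ↥S) * ⟨a, hf.le ha⟩ * (⟨w, hw⟩ : ↥S)⁻¹) := by
      symm
      rw [QuotientGroup.eq, Subgroup.mem_subgroupOf]
      exact hwf a ha
    rw [h1, ← QuotientGroup.mk_mul, ← QuotientGroup.mk_mul]
    congr 1
    group
  obtain ⟨m, d, hm, hd1, hd2⟩ := exists_twisted_transfer_sub hS F hF q hq hker σ hinn'
  refine ⟨m, d, hm, ?_, ?_⟩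
  · intro s
    obtain ⟨l, hl⟩ := QuotientGroup.mk_surjective (d s)
    refine ⟨l, ?_, hl.symm⟩
    have h1 := hd1 s
    rw [← hl, hqmk, QuotientGroup.eq_one_iff, Subgroup.mem_subgroupOf] at h1
    exact h1
  · intro Q f hf y hy hcy hcfy
    exact hd2 Q f hf y hy hcy hcfy

/-! ### The maps of a saturated system are inner modulo the hyperfocal subgroup -/

open Cfsg.Agent.Lib.Helper85_Fusion Cfsg.Agent.Lib.Helper84_FusionRS
  Cfsg.Agent.Lib.Helper84_FusionAlperin Cfsg.Agent.Lib.Helper84_FusionSat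

/-- The subsystem of the maps which are conjugations by elements of `S` modulo `H`. -/
def innerModSystem (F : FusionSystem S) (H : Subgroup Ω)
    (hHn : ∀ s ∈ S, ∀ h ∈ H, s * h * s⁻¹ ∈ H) : FusionSystem S where
  Hom P := {φ | φ ∈ F.Hom P ∧ ∃ w ∈ S, ∀ x : P, (w * (x : Ω) * w⁻¹)⁻¹ * φ x ∈ H}
  le_of_mem h := F.le_of_mem h.1
  injective_of_mem h := F.injective_of_mem h.1
  conj_mem := by
    intro P g hP hg
    refine ⟨F.conj_mem hP hg, g, hg, fun x => ?_⟩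
    rw [conjHom_apply, inv_mul_cancel]
    exact H.one_mem
  comp_mem := by
    rintro P Q φ ψ ⟨hφ, w₁, hw₁, hφH⟩ ⟨hψ, w₂, hw₂, hψH⟩ h
    refine ⟨F.comp_mem hφ hψ h, w₂ * w₁, S.mul_mem hw₂ hw₁, fun x => ?_⟩
    have h1 : (w₂ * w₁ * (x : Ω) * (w₂ * w₁)⁻¹)⁻¹ * (ψ.comp (φ.codRestrict Q h)) x =
        (w₂ * ((w₁ * (x : Ω) * w₁⁻¹)⁻¹ * φ x) * w₂⁻¹) *
          ((w₂ * (φ x) * w₂⁻¹)⁻¹ * ψ ⟨φ x, h x⟩) := by
      show _ * ψ ⟨φ x, h x⟩ = _
      group
    rw [h1]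
    exact H.mul_mem (hHn _ hw₂ _ (hφH x)) (hψH ⟨φ x, h x⟩)
  inv_mem := by
    rintro P φ ⟨hφ, w, hw, hφH⟩
    obtain ⟨ψ, hψ, hψφ⟩ := F.inv_mem hφ
    refine ⟨ψ, ⟨hψ, w⁻¹, S.inv_mem hw, ?_⟩, hψφ⟩
    rintro ⟨_, x, rfl⟩
    rw [hψφ x]
    have h1 : (w⁻¹ * φ x * w⁻¹⁻¹)⁻¹ * (x : Ω) =
        w⁻¹ * ((w * (x : Ω) * w⁻¹)⁻¹ * φ x)⁻¹ * w⁻¹⁻¹ := by group
    show (w⁻¹ * φ x * w⁻¹⁻¹)⁻¹ * (x : Ω) ∈ H
    rw [h1]
    exact hHn _ (S.inv_mem hw) _ (H.inv_mem (hφH x))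

/-- The hyperfocal subgroup is normalized by `S`. -/
theorem hyperfocal_conj_mem [Finite S] {p : ℕ} [Fact p.Prime] (hS : IsPGroup p S)
    (F : FusionSystem S) (hF : F.IsSaturated p) :
    ∀ s ∈ S, ∀ h ∈ F.hyperfocalSubgroup p, s * h * s⁻¹ ∈ F.hyperfocalSubgroup p := by
  intro s hs h hh
  obtain ⟨hle, hsc⟩ := Cfsg.Agent.S5124.result p hS F hF
  exact hsc _ le_rfl _ (F.conj_mem hle hs) ⟨h, hh⟩

/-- **Every map of a saturated fusion system is a conjugation by an element of `S` modulo the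
hyperfocal subgroup.** -/
theorem le_innerModSystem_hyperfocal [Finite S] {p : ℕ} [Fact p.Prime] (hS : IsPGroup p S)
    (F : FusionSystem S) (hF : F.IsSaturated p) :
    F ≤ innerModSystem F (F.hyperfocalSubgroup p) (hyperfocal_conj_mem hS F hF) := by
  apply le_of_autGroup_le hS F hF
  intro R hRn α hα
  have hRS : R ≤ S := hRn.1
  have : Finite R := finite_of_le_S hRS
  rw [Helper85_Fusion.mem_autGroup_iff _ hRS]
  refine ⟨(Helper85_Fusion.mem_autGroup_iff F hRS α).1 hα, ?_⟩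
  obtain ⟨-, T₀, hT₀⟩ := IsSaturated.isFullyAutomized hS hF hRn
  obtain ⟨r, hr, m, hm, hrm⟩ := Cfsg.Agent.Lib.Helper34_Sylow.exists_mul_pResidual
    (T₀ : Subgroup (F.autGroup R)) T₀.not_dvd_index ⟨α, hα⟩
  have hrS : (r : MulAut R) ∈ autInducedBy S R := by
    have : r ∈ (autInducedBy S R).subgroupOf (F.autGroup R) := hT₀ ▸ hr
    exact Subgroup.mem_subgroupOf.1 this
  obtain ⟨s, hsS, hs⟩ := (Helper85_Fusion.mem_autInducedBy_iff S R _).1 hrS
  have hα_eq : α = (r : MulAut R) * (m : MulAut R) := congrArg Subtype.val hrm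
  refine ⟨s, hsS, fun x => ?_⟩
  show (s * (x : Ω) * s⁻¹)⁻¹ * ((α x : R) : Ω) ∈ F.hyperfocalSubgroup p
  have e1 : ((α x : R) : Ω) = s * (((m : MulAut R) x : R) : Ω) * s⁻¹ := by
    rw [hα_eq, MulAut.mul_apply, hs]
  have e2 : (s * (x : Ω) * s⁻¹)⁻¹ * (s * (((m : MulAut R) x : R) : Ω) * s⁻¹) =
      s * ((x : Ω)⁻¹ * (((m : MulAut R) x : R) : Ω)) * s⁻¹ := by group
  rw [e1, e2]
  apply hyperfocal_conj_mem hS F hF s hsS
  apply Subgroup.subset_closure
  exact ⟨R, m, x, hRS, hm, rfl⟩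

/-- Function form of `le_innerModSystem_hyperfocal`. -/
theorem isMapOn_inner_mod_hyperfocal [Finite S] {p : ℕ} [Fact p.Prime] (hS : IsPGroup p S)
    (F : FusionSystem S) (hF : F.IsSaturated p) (Q : Subgroup Ω) (f : Ω → Ω)
    (hf : IsMapOn F Q f) :
    ∃ w ∈ S, ∀ a ∈ Q, (w * a * w⁻¹)⁻¹ * f a ∈ F.hyperfocalSubgroup p := by
  obtain ⟨φ, hφ, hφf⟩ := hf
  obtain ⟨-, w, hw, h⟩ := le_innerModSystem_hyperfocal hS F hF Q hφ
  refine ⟨w, hw, fun a ha => ?_⟩
  rw [← hφf ⟨a, ha⟩]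
  exact h ⟨a, ha⟩

/-! ### The transfer for the focal and for the hyperfocal subgroup -/

theorem focal_le_base (F : FusionSystem S) : F.focalSubgroup ≤ S := by
  unfold focalSubgroup
  rw [Subgroup.closure_le]
  rintro y ⟨P, φ, x, hφ, rfl⟩
  obtain ⟨hP, himg⟩ := F.le_of_mem hφ
  exact S.mul_mem (S.inv_mem (hP x.2)) (himg x)

/-- **The transfer into `S / M` for `[S, S] ≤ M ≤ foc(F)`**: it takes values in `foc(F) / M` and is the
`m`-th power map on `foc(F)`. -/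
theorem exists_transfer_focal [Finite S] {p : ℕ} [Fact p.Prime] (hS : IsPGroup p S)
    (F : FusionSystem S) (hF : F.IsSaturated p) (M : Subgroup Ω) (hML : M ≤ F.focalSubgroup)
    [hMn : (M.subgroupOf S).Normal] (hcomm : ∀ a ∈ S, ∀ b ∈ S, a * b * a⁻¹ * b⁻¹ ∈ M) :
    ∃ (m : ℕ) (d : ↥S →* ↥S ⧸ M.subgroupOf S), ¬ p ∣ m ∧
      (∀ s : ↥S, ∃ l : ↥S, (l : Ω) ∈ F.focalSubgroup ∧ d s = QuotientGroup.mk l) ∧
      ∀ l : ↥S, (l : Ω) ∈ F.focalSubgroup →
        d l = (QuotientGroup.mk l : ↥S ⧸ M.subgroupOf S) ^ m := by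
  have hLS := focal_le_base F
  have hcen : ∀ x : ↥S, (QuotientGroup.mk x : ↥S ⧸ M.subgroupOf S) ∈
      Subgroup.center (↥S ⧸ M.subgroupOf S) :=
    fun x => mk_mem_center_of_mem (L := S) hcomm x.2
  obtain ⟨m, d, hm, hd1, hd2⟩ := exists_transfer_quot hS F hF F.focalSubgroup M hML
    (fun l hl s hs => hcomm l (hLS hl) s hs)
    (fun Q f hf => ⟨1, S.one_mem, fun a ha => by
      obtain ⟨φ, hφ, hφf⟩ := hf
      rw [one_mul, inv_one, mul_one, ← hφf ⟨a, ha⟩]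
      apply Subgroup.subset_closure
      exact ⟨Q, φ, ⟨a, ha⟩, hφ, rfl⟩⟩)
  refine ⟨m, d, hm, hd1, ?_⟩
  set σ : ↥S →* ↥S ⧸ M.subgroupOf S := QuotientGroup.mk' (M.subgroupOf S) with hσ
  set E := eqSub d σ m ⊤ (fun l _ => hcen l) with hE
  have hle : F.focalSubgroup ≤ E.map S.subtype := by
    unfold focalSubgroup
    rw [Subgroup.closure_le]
    rintro y ⟨P, φ, x, hφ, rfl⟩
    obtain ⟨hP, himg⟩ := F.le_of_mem hφ
    have hf := isMapOn_extHom F hφ
    have h1 := hd2 P (extHom φ) hf (x : Ω) x.2 (hcen _) (hcen _)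
    set a : ↥S := ⟨(x : Ω), hf.le x.2⟩ with ha
    set b : ↥S := ⟨extHom φ (x : Ω), hf.mem x.2⟩ with hb
    have h2 : kappa d σ m a = kappa d σ m b := h1
    have h3 : kappa d σ m (a⁻¹ * b) = 1 := by
      have h4 := kappa_mul (d := d) (σ := σ) (m := m) (hcen a⁻¹) (hcen b)
      have h5 := kappa_mul (d := d) (σ := σ) (m := m) (hcen a⁻¹) (hcen a)
      rw [inv_mul_cancel, kappa_one] at h5
      rw [h4, ← h2, ← h5]
    refine ⟨a⁻¹ * b, ⟨Subgroup.mem_top _, h3⟩, ?_⟩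
    show (a : Ω)⁻¹ * (b : Ω) = (x : Ω)⁻¹ * φ x
    rw [hb, ha]
    show (x : Ω)⁻¹ * extHom φ (x : Ω) = _
    rw [extHom_coe]
  intro l hl
  obtain ⟨l', hl', hll'⟩ := hle hl
  have : l' = l := Subtype.ext hll'
  rw [this] at hl'
  exact ((mem_eqSub d σ m).1 hl').2

/-- **The transfer into `S / M` for `[hyp(F), S] ≤ M ≤ hyp(F)`**: it takes values in `hyp(F) / M` and is
the `m`-th power map on `hyp(F)`. -/
theorem exists_transfer_hyperfocal [Finite S] {p : ℕ} [hp : Fact p.Prime] (hS : IsPGroup p S)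
    (F : FusionSystem S) (hF : F.IsSaturated p) (M : Subgroup Ω)
    (hML : M ≤ F.hyperfocalSubgroup p) [hMn : (M.subgroupOf S).Normal]
    (hcomm : ∀ l ∈ F.hyperfocalSubgroup p, ∀ s ∈ S, l * s * l⁻¹ * s⁻¹ ∈ M) :
    ∃ (m : ℕ) (d : ↥S →* ↥S ⧸ M.subgroupOf S), ¬ p ∣ m ∧
      (∀ s : ↥S, ∃ l : ↥S, (l : Ω) ∈ F.hyperfocalSubgroup p ∧ d s = QuotientGroup.mk l) ∧
      ∀ l : ↥S, (l : Ω) ∈ F.hyperfocalSubgroup p →
        d l = (QuotientGroup.mk l : ↥S ⧸ M.subgroupOf S) ^ m := by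
  set L := F.hyperfocalSubgroup p with hL
  have hLS : L ≤ S := Cfsg.Agent.Lib.Helper87_Hyperfocal.hyperfocal_le_base F p
  have hcen : ∀ x : ↥S, (x : Ω) ∈ L → (QuotientGroup.mk x : ↥S ⧸ M.subgroupOf S) ∈
      Subgroup.center (↥S ⧸ M.subgroupOf S) :=
    fun x hx => mk_mem_center_of_mem hcomm hx
  obtain ⟨m, d, hm, hd1, hd2⟩ := exists_transfer_quot hS F hF L M hML hcomm
    (isMapOn_inner_mod_hyperfocal hS F hF)
  refine ⟨m, d, hm, hd1, ?_⟩
  set σ : ↥S →* ↥S ⧸ M.subgroupOf S := QuotientGroup.mk' (M.subgroupOf S) with hσ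
  set E := eqSub d σ m (L.subgroupOf S) (fun l hl => hcen l hl) with hE
  have hGp : IsPGroup p (↥S ⧸ M.subgroupOf S) := hS.to_quotient _
  have hle : L ≤ E.map S.subtype := by
    apply Cfsg.Agent.Lib.Helper87_Hyperfocal.hyperfocal_le
    intro P hP α hα hcop x
    have hf : IsMapOn F P (extFun α) := (Helper87_Alperin.mem_autGroup_iff F hP α).1 hα
    -- the sequence `w n = (αⁿ x)⁻¹ α^{n+1} x`
    set w : ℕ → P := fun n => ((α ^ n) x)⁻¹ * (α ^ (n + 1)) x with hw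
    have hwα : ∀ n, α (w n) = w (n + 1) := by
      intro n
      simp only [hw]
      rw [map_mul, map_inv, ← MulAut.mul_apply, ← MulAut.mul_apply, ← pow_succ', ← pow_succ']
    have hwL : ∀ n, ((w n : P) : Ω) ∈ L := by
      intro n
      have h1 := Cfsg.Agent.Lib.Helper87_Hyperfocal.mem_hyperfocal (F := F) hP hα hcop ((α ^ n) x)
      have h2 : ((w n : P) : Ω) = (((α ^ n) x : P) : Ω)⁻¹ * ((α ((α ^ n) x) : P) : Ω) := by
        simp only [hw]
        rw [pow_succ', MulAut.mul_apply]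
        rfl
      rw [h2]
      exact h1
    set u : ℕ → ↥S := fun n => ⟨((w n : P) : Ω), hP (w n).2⟩ with hu
    set v : ℕ → ↥S := fun n => (⟨(x : Ω), hP x.2⟩ : ↥S)⁻¹ * ⟨(((α ^ n) x : P) : Ω), hP ((α ^ n) x).2⟩
      with hv
    have hκ : ∀ n, kappa d σ m (u (n + 1)) = kappa d σ m (u n) := by
      intro n
      have h1 := hd2 P (extFun α) hf ((w n : P) : Ω) (w n).2 (hcen _ (hwL n))
        (hcen _ (by
          show extFun α ((w n : P) : Ω) ∈ L
          rw [extFun_coe, hwα]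
          exact hwL (n + 1)))
      have h2 : (⟨extFun α ((w n : P) : Ω), hf.mem (w n).2⟩ : ↥S) = u (n + 1) := by
        apply Subtype.ext
        show extFun α ((w n : P) : Ω) = ((w (n + 1) : P) : Ω)
        rw [extFun_coe, hwα]
      rw [h2] at h1
      exact h1.symm
    have htel := kappa_telescope (d := d) (σ := σ) (m := m) (L.subgroupOf S) (fun l hl => hcen l hl) u v
      (fun n => hwL n) (by
        simp only [hv]
        rw [pow_zero, MulAut.one_apply, inv_mul_cancel])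
      (fun n => by
        apply Subtype.ext
        simp only [hv, hu, hw]
        simp only [Subgroup.coe_mul, Subgroup.coe_inv]
        group) hκ (orderOf α)
    have hv1 : v (orderOf α) = 1 := by
      simp only [hv]
      rw [pow_orderOf_eq_one, MulAut.one_apply, inv_mul_cancel]
    rw [hv1, kappa_one] at htel
    have h3 : orderOf (kappa d σ m (u 0)) ∣ orderOf α := orderOf_dvd_of_pow_eq_one htel.symm
    obtain ⟨k, hk⟩ := hGp (kappa d σ m (u 0))
    have h4 : orderOf (kappa d σ m (u 0)) ∣ p ^ k := orderOf_dvd_of_pow_eq_one hk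
    have h5 : (orderOf α).Coprime (p ^ k) := Nat.Coprime.pow_right k hcop
    have h6 : orderOf (kappa d σ m (u 0)) = 1 :=
      Nat.eq_one_of_dvd_coprimes h5 h3 h4
    rw [orderOf_eq_one_iff] at h6
    refine ⟨u 0, ⟨hwL 0, h6⟩, ?_⟩
    show ((w 0 : P) : Ω) = (x : Ω)⁻¹ * ((α x : P) : Ω)
    simp only [hw]
    rw [pow_zero, zero_add, pow_one, MulAut.one_apply]
    rfl
  intro l hl
  obtain ⟨l', hl', hll'⟩ := hle hl
  have : l' = l := Subtype.ext hll'
  rw [this] at hl'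
  exact ((mem_eqSub d σ m).1 hl').2

/-! ### Consequences -/

theorem subgroupOf_map_subtype_self (K : Subgroup ↥S) : (K.map S.subtype).subgroupOf S = K :=
  Subgroup.comap_map_eq_self_of_injective (Subgroup.subtype_injective S) K

/-- **Tate's theorem, focal part**: if `[S, S] ≤ M ≤ foc(F)` and `foc(F) ≤ Φ(S) M` then `foc(F) ≤ M`. -/
theorem focal_le_of_le_frattini_sup [Finite S] {p : ℕ} [Fact p.Prime] (hS : IsPGroup p S)
    (F : FusionSystem S) (hF : F.IsSaturated p) (M : Subgroup Ω) (hML : M ≤ F.focalSubgroup)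
    (hcomm : ∀ a ∈ S, ∀ b ∈ S, a * b * a⁻¹ * b⁻¹ ∈ M)
    (h : F.focalSubgroup ≤ (frattini ↥S).map S.subtype ⊔ M) : F.focalSubgroup ≤ M := by
  have hLS := focal_le_base F
  have hMS : M ≤ S := hML.trans hLS
  haveI hMn : (M.subgroupOf S).Normal := by
    constructor
    intro x hx g
    rw [Subgroup.mem_subgroupOf] at hx ⊢
    have h1 := hcomm g g.2 x x.2
    have h2 : ((g * x * g⁻¹ : ↥S) : Ω) = ((g : Ω) * x * (g : Ω)⁻¹ * (x : Ω)⁻¹) * x := by
      simp only [Subgroup.coe_mul, Subgroup.coe_inv]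
      group
    rw [h2]
    exact M.mul_mem h1 hx
  obtain ⟨m, d, hm, hd1, hd2⟩ := exists_transfer_focal hS F hF M hML hcomm
  have hker : M.subgroupOf S ≤ d.ker := by
    intro x hx
    rw [MonoidHom.mem_ker, hd2 x (hML hx), (QuotientGroup.eq_one_iff x).2 hx, one_pow]
  have h3 : F.focalSubgroup.subgroupOf S ≤ frattini ↥S ⊔ d.ker := by
    have h4 : F.focalSubgroup.subgroupOf S ≤ ((frattini ↥S).map S.subtype ⊔ M).subgroupOf S :=
      Subgroup.comap_mono h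
    rw [Subgroup.subgroupOf_sup (Subgroup.map_subtype_le _) hMS, subgroupOf_map_subtype_self] at h4
    exact h4.trans (sup_le_sup_left hker _)
  have key := le_of_transfer hS (F.focalSubgroup.subgroupOf S) (M.subgroupOf S) m hm d
    (fun s => by
      obtain ⟨l, hl, hdl⟩ := hd1 s
      exact ⟨l, hl, hdl⟩)
    (fun l hl => hd2 l hl) h3
  intro x hx
  exact key (show (⟨x, hLS hx⟩ : ↥S) ∈ F.focalSubgroup.subgroupOf S from hx)

/-- **Tate's theorem, hyperfocal part**: if `K ≤ hyp(F)` is normal in `S` and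
`hyp(F) ≤ Φ(S) K [S, S]` then `hyp(F) ≤ K`. -/
theorem hyperfocal_le_of_le_frattini_sup [Finite S] {p : ℕ} [Fact p.Prime] (hS : IsPGroup p S)
    (F : FusionSystem S) (hF : F.IsSaturated p) (K : Subgroup Ω)
    (hKL : K ≤ F.hyperfocalSubgroup p) [hKn : (K.subgroupOf S).Normal]
    (h : (F.hyperfocalSubgroup p).subgroupOf S ≤
      frattini ↥S ⊔ (K.subgroupOf S ⊔ commutator ↥S)) : F.hyperfocalSubgroup p ≤ K := by
  set L := F.hyperfocalSubgroup p with hL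
  have hLS : L ≤ S := Cfsg.Agent.Lib.Helper87_Hyperfocal.hyperfocal_le_base F p
  have hKS : K ≤ S := hKL.trans hLS
  haveI hLn : (L.subgroupOf S).Normal := by
    constructor
    intro x hx g
    rw [Subgroup.mem_subgroupOf] at hx ⊢
    exact hyperfocal_conj_mem hS F hF g g.2 x hx
  set M' : Subgroup ↥S := K.subgroupOf S ⊔ ⁅L.subgroupOf S, (⊤ : Subgroup ↥S)⁆ with hM'
  haveI hM'n : M'.Normal := inferInstance
  set M : Subgroup Ω := M'.map S.subtype with hM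
  have hMM' : M.subgroupOf S = M' := subgroupOf_map_subtype_self M'
  haveI hMn : (M.subgroupOf S).Normal := hMM'.symm ▸ hM'n
  have hM'L : M' ≤ L.subgroupOf S := by
    apply sup_le (Subgroup.comap_mono hKL)
    rw [Subgroup.commutator_le]
    intro a ha b _
    have h1 : ⁅a, b⁆ = a * (b * a⁻¹ * b⁻¹) := by
      rw [commutatorElement_def]
      group
    rw [h1]
    exact Subgroup.mul_mem _ ha (hLn.conj_mem _ (Subgroup.inv_mem _ ha) b)
  have hML : M ≤ L := by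
    rintro _ ⟨x, hx, rfl⟩
    exact hM'L hx
  have hcomm : ∀ l ∈ L, ∀ s ∈ S, l * s * l⁻¹ * s⁻¹ ∈ M := by
    intro l hl s hs
    refine ⟨⁅(⟨l, hLS hl⟩ : ↥S), (⟨s, hs⟩ : ↥S)⁆, ?_, ?_⟩
    · apply Subgroup.mem_sup_right
      exact Subgroup.commutator_mem_commutator hl (Subgroup.mem_top _)
    · rw [commutatorElement_def]
      rfl
  obtain ⟨m, d, hm, hd1, hd2⟩ := exists_transfer_hyperfocal hS F hF M hML hcomm
  -- `d` kills `K` and the commutator subgroup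
  have hker1 : K.subgroupOf S ≤ d.ker := by
    intro x hx
    have hxM : x ∈ M.subgroupOf S := by
      rw [hMM']
      exact Subgroup.mem_sup_left hx
    rw [MonoidHom.mem_ker, hd2 x (hKL hx), (QuotientGroup.eq_one_iff x).2 hxM, one_pow]
  have hdc : ∀ s : ↥S, d s ∈ Subgroup.center (↥S ⧸ M.subgroupOf S) := by
    intro s
    obtain ⟨l, hl, hdl⟩ := hd1 s
    rw [hdl]
    exact mk_mem_center_of_mem hcomm hl
  have hker2 : commutator ↥S ≤ d.ker := by
    rw [commutator_def, Subgroup.commutator_le]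
    intro a _ b _
    rw [MonoidHom.mem_ker, map_commutatorElement, commutatorElement_eq_one_iff_commute]
    exact (Subgroup.mem_center_iff.1 (hdc a) (d b)).symm
  have h3 : L.subgroupOf S ≤ frattini ↥S ⊔ d.ker :=
    h.trans (sup_le_sup_left (sup_le hker1 hker2) _)
  have key := le_of_transfer hS (L.subgroupOf S) (M.subgroupOf S) m hm d
    (fun s => by
      obtain ⟨l, hl, hdl⟩ := hd1 s
      exact ⟨l, hl, hdl⟩)
    (fun l hl => hd2 l hl) h3
  rw [hMM'] at key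
  haveI : Group.IsNilpotent ↥S := hS.isNilpotent
  have key2 := le_of_le_sup_commutator (K.subgroupOf S) (L.subgroupOf S) key
  intro x hx
  exact key2 (show (⟨x, hLS hx⟩ : ↥S) ∈ L.subgroupOf S from hx)

/-- If the hyperfocal subgroup lies in the Frattini subgroup then it is trivial. -/
theorem hyperfocal_eq_bot_of_le_frattini [Finite S] {p : ℕ} [Fact p.Prime] (hS : IsPGroup p S)
    (F : FusionSystem S) (hF : F.IsSaturated p)
    (h : F.hyperfocalSubgroup p ≤ (frattini ↥S).map S.subtype) : F.hyperfocalSubgroup p = ⊥ := by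
  rw [eq_bot_iff]
  haveI : ((⊥ : Subgroup Ω).subgroupOf S).Normal := by
    rw [Subgroup.bot_subgroupOf]
    infer_instance
  apply hyperfocal_le_of_le_frattini_sup hS F hF ⊥ bot_le
  have h1 : (F.hyperfocalSubgroup p).subgroupOf S ≤ ((frattini ↥S).map S.subtype).subgroupOf S :=
    Subgroup.comap_mono h
  rw [subgroupOf_map_subtype_self] at h1
  exact h1.trans le_sup_left

end Cfsg.Agent.Lib.Helper84_TateFusion
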