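import Cfsg.Agent.Lib.Helper84_ThMain

/-!
# A strengthened Frobenius criterion for fusion systems (helper84)

If `F` is a saturated fusion system over `S` (`S₄`-free when `p = 2`) such that `Aut_F(X)` is a `p`-group for every
nontrivial characteristic subgroup `X` of `S`, then `F` is the inner system.  The proof is by induction on `|S|`:
for `X = Z(S)` or `J(S)` the factor system `N_F(X)/X` satisfies the hypotheses, hence is inner, hence `N_F(X)` is
inner; then Thompson's theorem for fusion systems applies.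
-/

set_option autoImplicit false

namespace Cfsg.Agent.Lib.Helper84_ThChar

open Cfsg Cfsg.FusionSystem Cfsg.Agent.Lib Cfsg.Agent.Lib.Helper87_Alperin Cfsg.Agent.Lib.Helper87_Alperin2
  Cfsg.Agent.Lib.Helper87_Factor Cfsg.Agent.Lib.Helper87_Factor2
  Cfsg.Agent.Lib.Helper84_KLBasic Cfsg.Agent.Lib.Helper84_KLQuot Cfsg.Agent.Lib.Helper84_KLMain
  Cfsg.Agent.Lib.Helper34_NPC Cfsg.Agent.Lib.Helper84_ThCent Cfsg.Agent.Lib.Helper84_ThMain

universe u

/-! ### Characteristic subgroups -/

/-- the preimage of a characteristic subgroup of the image under a homomorphism with characteristic kernel is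
characteristic -/
theorem characteristic_comap {A : Type*} [Group A] {B : Type*} [Group B] (θ : A →* B)
    (hK : θ.ker.Characteristic) (Y : Subgroup B) (hY : (Y.subgroupOf θ.range).Characteristic) :
    (Y.comap θ).Characteristic := by
  rw [Subgroup.characteristic_iff_le_comap]
  intro α s hs
  have he : θ.ker.map α.toMonoidHom = θ.ker := Subgroup.characteristic_iff_map_eq.1 hK α
  let e := QuotientGroup.quotientKerEquivRange θ
  let c := QuotientGroup.congr θ.ker θ.ker α he
  let β : θ.range ≃* θ.range := e.symm.trans (c.trans e)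
  have he1 : ∀ a : A, e (QuotientGroup.mk a) = ⟨θ a, a, rfl⟩ := fun a => rfl
  have hβ : β ⟨θ s, s, rfl⟩ = ⟨θ (α s), α s, rfl⟩ := by
    show e (c (e.symm ⟨θ s, s, rfl⟩)) = _
    have h1 : e.symm ⟨θ s, s, rfl⟩ = QuotientGroup.mk s := by
      rw [MulEquiv.symm_apply_eq, he1]
    rw [h1]
    show e (QuotientGroup.mk (α s)) = _
    rw [he1]
  have h2 : (⟨θ s, s, rfl⟩ : θ.range) ∈ Y.subgroupOf θ.range := by
    rw [Subgroup.mem_subgroupOf]
    exact hs
  have h3 := (Subgroup.characteristic_iff_le_comap.1 hY β) h2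
  rw [Subgroup.mem_comap] at h3
  have h4 : β ⟨θ s, s, rfl⟩ ∈ Y.subgroupOf θ.range := h3
  rw [hβ, Subgroup.mem_subgroupOf] at h4
  exact h4

variable {Ω : Type*} [Group Ω] {S : Subgroup Ω}

theorem subgroupOf_preimageAlong {Ω' : Type*} [Group Ω'] (θ : S →* Ω') (Y : Subgroup Ω') :
    (preimageAlong θ Y).subgroupOf S = Y.comap θ := by
  unfold preimageAlong Subgroup.subgroupOf
  exact Subgroup.comap_map_eq_self_of_injective S.subtype_injective _

/-- preimages of characteristic subgroups in factor groups by characteristic subgroups are characteristic -/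
theorem characteristic_preimageAlong {Ω' : Type*} [Group Ω'] {X : Subgroup Ω}
    (hXc : (X.subgroupOf S).Characteristic) {θ : S →* Ω'} (hker : ∀ s : S, θ s = 1 ↔ (s : Ω) ∈ X)
    {S' : Subgroup Ω'} (hrange : θ.range = S') {Y : Subgroup Ω'} (hYc : (Y.subgroupOf S').Characteristic) :
    ((preimageAlong θ Y).subgroupOf S).Characteristic := by
  subst hrange
  rw [subgroupOf_preimageAlong]
  apply characteristic_comap θ _ Y hYc
  have : θ.ker = X.subgroupOf S := by
    ext s
    rw [MonoidHom.mem_ker, Subgroup.mem_subgroupOf]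
    exact hker s
  rw [this]
  exact hXc

/-- the values of a characteristic functor are characteristic -/
theorem characteristic_inducedFunctor {Ω : Type u} [Group Ω] {S : Subgroup Ω} [Finite S] {p : ℕ}
    {W : ∀ (Q : Type u) [Group Q], Subgroup Q} (hW : Cfsg.IsCharPFunctor.{u} p W) (hS : IsPGroup p S) :
    ((Cfsg.inducedFunctor W S).subgroupOf S).Characteristic := by
  have h1 : (Cfsg.inducedFunctor W S).subgroupOf S = W S := by
    unfold Cfsg.inducedFunctor Subgroup.subgroupOf
    exact Subgroup.comap_map_eq_self_of_injective S.subtype_injective _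
  rw [h1]
  exact Subgroup.characteristic_iff_map_eq.2 (fun φ => hW.2 S S hS φ)

/-! ### Automorphisms of `p`-power order -/

/-- the automorphisms of `X` in `F` have `p`-power order -/
def AutP (F : FusionSystem S) (X : Subgroup Ω) (p : ℕ) : Prop :=
  ∀ f : Ω → Ω, IsMapOn F X f → (∀ x ∈ X, f x ∈ X) → PPow p X f

theorem autP_of_isPGroup [Finite S] {F : FusionSystem S} {X : Subgroup Ω} {p : ℕ}
    (h : IsPGroup p (F.autGroup X)) : AutP F X p := by
  intro f hf hfX
  obtain ⟨α, hα, hαf⟩ := exists_aut_of_isMapOn hf hfX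
  obtain ⟨k, hk⟩ := h ⟨α, hα⟩
  have hk' : α ^ p ^ k = 1 := congrArg Subtype.val hk
  exact ((pPow_extFun_iff α).2 ⟨k, hk'⟩).congr (fun x hx => extFun_mem α hx) hαf

theorem PPow.mono {p : ℕ} {P R : Subgroup Ω} {f : Ω → Ω} (h : PPow p R f) (hPR : P ≤ R) : PPow p P f := by
  obtain ⟨k, hk⟩ := h
  exact ⟨k, fun x hx => hk x (hPR hx)⟩

theorem isMapOn_iterate {F : FusionSystem S} {R : Subgroup Ω} {f : Ω → Ω} (hf : IsMapOn F R f)
    (hfR : ∀ x ∈ R, f x ∈ R) (n : ℕ) : IsMapOn F R (f^[n]) := by
  induction n with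
  | zero => exact IsMapOn.id F hf.le
  | succ n ih =>
    rw [Function.iterate_succ]
    exact hf.comp ih hfR

/-- a system with a normal subgroup `X` such that `F/X` has only automorphisms of `p`-power order and the automorphisms
of `X` have `p`-power order has only automorphisms of `p`-power order -/
theorem pInner_of_factor {Ω : Type u} [Group Ω] {S : Subgroup Ω} {Ω' : Type*} [Group Ω'] {S' : Subgroup Ω'}
    [Finite S] {p : ℕ} [Fact p.Prime] (hS : IsPGroup p S) {F : FusionSystem S}
    (hF : F.IsSaturated p) {X : Subgroup Ω} (hXn : F.IsNormal X) {θ : S →* Ω'} {E : FusionSystem S'}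
    (hE : F.IsFactorSystem X θ E) (hEp : PInner E p) (hX : AutP F X p) : PInner F p := by
  have hXsc : F.StronglyClosed X := Helper84_FusionNormal.IsNormal.stronglyClosed hXn
  intro P f hf hfP
  obtain ⟨-, -, -, D, g, hPD, hXD, hg, hgf, hgX⟩ := nmap_of_isNormal hXn hf
  set R := P ⊔ X with hR
  have hRD : R ≤ D := sup_le hPD hXD
  have hgR : ∀ x ∈ R, g x ∈ R := by
    let K : Subgroup Ω :=
      { carrier := {x | x ∈ D ∧ g x ∈ R}
        one_mem' := ⟨D.one_mem, by rw [hg.map_one]; exact R.one_mem⟩
        mul_mem' := by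
          rintro a b ⟨ha, ha'⟩ ⟨hb, hb'⟩
          exact ⟨D.mul_mem ha hb, by rw [hg.map_mul ha hb]; exact R.mul_mem ha' hb'⟩
        inv_mem' := by
          rintro a ⟨ha, ha'⟩
          exact ⟨D.inv_mem ha, by rw [hg.map_inv ha]; exact R.inv_mem ha'⟩ }
    have hle : R ≤ K := by
      apply sup_le
      · intro x hx
        exact ⟨hPD hx, by rw [hgf x hx]; exact (le_sup_left : P ≤ R) (hfP x hx)⟩
      · intro x hx
        exact ⟨hXD hx, (le_sup_right : X ≤ R) (hgX x hx)⟩
    intro x hx
    exact (hle hx).2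
  have hgRmap : IsMapOn F R g := hg.mono hRD
  obtain ⟨j, hj⟩ := hX g (hg.mono hXD) hgX
  have h1 : PPow p R (g^[p ^ j]) :=
    pPow_of_fixes hS hF hXsc hE hEp (isMapOn_iterate hgRmap hgR _)
      (fun x hx => iterate_mem hgR _ hx) le_sup_right hj
  have h2 : PPow p R g := PPow.of_iterate j h1
  exact (PPow.mono h2 le_sup_left).congr (fun x hx => by rw [hgf x hx]; exact hfP x hx) hgf


/-- Thompson's theorem supplies the group-theoretic hypothesis for `J` -/
theorem groupHyp2_WJ (p : ℕ) [Fact p.Prime] : GroupHyp2.{u} p (Equiv.Perm (Fin 4)) WJ := by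
  intro L _ _ P h h1 h2
  rw [inducedFunctor_WZ] at h1
  exact Cfsg.Agent.S2800.result P h h1 h2

/-- **The strengthened Frobenius criterion** (`PInner` form). -/
theorem char_pInner {p : ℕ} [Fact p.Prime] : ∀ n : ℕ, ∀ (Ω : Type u) [Group Ω] (S : Subgroup Ω) [Finite S],
    Nat.card S = n → IsPGroup p S → ∀ F : FusionSystem S, F.IsSaturated p →
    (p ≠ 2 ∨ F.IsSectionFree p (Equiv.Perm (Fin 4))) →
    (∀ X : Subgroup Ω, X ≤ S → X ≠ ⊥ → (X.subgroupOf S).Characteristic → AutP F X p) → PInner F p := by
  intro n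
  induction n using Nat.strong_induction_on with
  | _ n IH =>
  intro Ω _ S _ hcard hS F hF hfree hAut
  by_cases hSbot : S = ⊥
  · intro P f hf hfP
    have hP : P = ⊥ := le_bot_iff.1 (hSbot ▸ hf.le)
    subst hP
    refine ⟨0, fun x hx => ?_⟩
    rw [Subgroup.mem_bot] at hx
    subst hx
    simpa using hf.map_one
  have key : ∀ W : ∀ (Q : Type u) [Group Q], Subgroup Q, Cfsg.IsCharPFunctor.{u} p W →
      NInner F (Cfsg.inducedFunctor W S) p := by
    intro W hW
    set X := Cfsg.inducedFunctor W S with hXdef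
    have hXS : X ≤ S := inducedFunctor_le W S
    have hXne : X ≠ ⊥ := inducedFunctor_ne_bot hW hS hSbot
    have hXc : (X.subgroupOf S).Characteristic := characteristic_inducedFunctor hW hS
    have hSX : S ≤ Subgroup.normalizer (X : Set Ω) := Helper84_KLRealized.inducedFunctor_le_of_le hW hS
    have hT : normalizerIn S X = S := le_antisymm inf_le_left (le_inf le_rfl hSX)
    have hTS : normalizerIn S X ≤ S := inf_le_left
    have hfinT : Finite (normalizerIn S X) := Helper84_FusionRS.finite_of_le_S hTS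
    have hpT : IsPGroup p (normalizerIn S X) := hS.to_le hTS
    have hcardT : Nat.card (normalizerIn S X) = n := by rw [hT]; exact hcard
    have hXfn : F.IsFullyNormalized X := by
      refine ⟨hXS, fun X' _ => ?_⟩
      rw [hT]
      exact Helper84_FusionAlperin.card_le_card_S inf_le_left
    have hN := Helper85_Fusion.normalizerSystem_isNormalizerSystem F X hXS
    set N := Helper85_Fusion.normalizerSystem F X hXS with hNdef
    have hNsat : N.IsSaturated p := Cfsg.Agent.S5098.result p hS F hF X hXfn _ hN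
    have hNn : N.IsNormal X := Helper88_Model.isNormal_of_isNormalizerSystem F hXS _ hN
    have hsub := isMapOn_of_normalizerSystem hN
    rw [← pInner_normalizerSystem_iff hXS hN p]
    -- the factor system
    have hXT : X ≤ normalizerIn S X := Helper87_Alperin.le_normalizerIn hXS
    have hXsc : N.StronglyClosed X := Helper84_FusionNormal.IsNormal.stronglyClosed hNn
    have hTX : normalizerIn S X ≤ Subgroup.normalizer (X : Set Ω) := inf_le_right
    have hXnormal : (X.subgroupOf (normalizerIn S X)).Normal :=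
      (Subgroup.normal_subgroupOf_iff_le_normalizer hXT).2 hTX
    obtain ⟨E, hEf⟩ := Cfsg.Agent.S5132.result p hpT N X hXsc
    have hEsat : E.IsSaturated p :=
      Cfsg.Agent.S5133.result p hpT N hNsat E _ (Cfsg.Agent.S5134.result p hpT N hNsat X hXsc _ E hEf)
    have hfinX : Finite X := Helper84_FusionRS.finite_of_le_S hXS
    have hpS' : IsPGroup p (⊤ : Subgroup (normalizerIn S X ⧸ X.subgroupOf (normalizerIn S X))) :=
      (hpT.to_quotient _).to_subgroup ⊤
    have hcardX : 1 < Nat.card X := by
      rw [Finite.one_lt_card_iff_nontrivial]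
      exact (Subgroup.nontrivial_iff_ne_bot X).2 hXne
    have hcardquot : Nat.card (normalizerIn S X ⧸ X.subgroupOf (normalizerIn S X)) * Nat.card X = n := by
      have h1 := Subgroup.card_eq_card_quotient_mul_card_subgroup (X.subgroupOf (normalizerIn S X))
      have h2 : Nat.card (X.subgroupOf (normalizerIn S X)) = Nat.card X :=
        Nat.card_congr (Subgroup.subgroupOfEquivOfLe hXT).toEquiv
      rw [← hcardT, h1, h2]
    have hcardS' : Nat.card (⊤ : Subgroup (normalizerIn S X ⧸ X.subgroupOf (normalizerIn S X))) < n := by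
      rw [Subgroup.card_top]
      have hpos : 0 < Nat.card (normalizerIn S X ⧸ X.subgroupOf (normalizerIn S X)) := Nat.card_pos
      nlinarith
    have hNfree : p ≠ 2 ∨ N.IsSectionFree p (Equiv.Perm (Fin 4)) := hfree.imp_right (fun h =>
      Helper88_NormFree.isSectionFree_normalizerSystem hS F hF _ h X hXfn N hN)
    have hEfree : p ≠ 2 ∨ E.IsSectionFree p (Equiv.Perm (Fin 4)) := hNfree.imp_right (fun h =>
      quotFree p _ _ _ hpT N hNsat h X hNn _ _ _ E hEf)
    have hXcT : (X.subgroupOf (normalizerIn S X)).Characteristic :=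
      (congrArg (fun T' : Subgroup Ω => (X.subgroupOf T').Characteristic) hT).mpr hXc
    have hEAut : ∀ Y : Subgroup (normalizerIn S X ⧸ X.subgroupOf (normalizerIn S X)), Y ≤ ⊤ → Y ≠ ⊥ →
        (Y.subgroupOf ⊤).Characteristic → AutP E Y p := by
      intro Y hYS' hYne hYc
      set θ := QuotientGroup.mk' (X.subgroupOf (normalizerIn S X)) with hθ
      set R := preimageAlong θ Y with hRdef
      have hRcT : (R.subgroupOf (normalizerIn S X)).Characteristic :=
        characteristic_preimageAlong hXcT hEf.2.1 hEf.2.2.1 hYc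
      have hRc : (R.subgroupOf S).Characteristic :=
        (congrArg (fun T' : Subgroup Ω => (R.subgroupOf T').Characteristic) hT).mp hRcT
      have hRT : R ≤ normalizerIn S X := preimageAlong_le θ Y
      have hXR : X ≤ R := le_preimageAlong hEf.2.1 hXT Y
      have hRne : R ≠ ⊥ := fun h => hXne (le_bot_iff.1 (h ▸ hXR))
      have hFR := hAut R (hRT.trans hTS) hRne hRc
      intro f' hf' hf'Y
      obtain ⟨f, hf, hff'⟩ := exists_lift_isMapOn hEf hf'
      have hfR : ∀ x ∈ R, f x ∈ R := by
        intro x hx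
        rw [hRdef, mem_preimageAlong]
        refine ⟨hf.mem hx, ?_⟩
        rw [hff' x hx]
        exact hf'Y _ ((mem_preimageAlong θ Y x).1 hx).2
      obtain ⟨k, hk⟩ := hFR f (hsub R f hf) hfR
      refine ⟨k, fun y hy => ?_⟩
      have hyS' : y ∈ θ.range := by
        rw [hEf.2.2.1]
        exact hYS' hy
      obtain ⟨x, hxS, rfl⟩ := exists_extOn_eq_of_mem_range hyS'
      have hxR : x ∈ R := (mem_preimageAlong θ Y x).2 ⟨hxS, hy⟩
      have h1 : ∀ x ∈ R, f' (extOn θ x) = extOn θ (f x) := fun x hx => (hff' x hx).symm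
      rw [extOn_iterate_induced hfR h1 _ x hxR, hk x hxR]
    have hEp : PInner E p := IH _ hcardS' _ ⊤ rfl hpS' E hEsat hEfree hEAut
    have hNX : AutP N X p := fun f hf hfX => hAut X hXS hXne hXc f (hsub X f hf) hfX
    exact pInner_of_factor hpT hNsat hNn hEf hEp hNX
  exact thompson_pInner (isCharPFunctor_WJ p) (groupHyp2_WJ p) (fun _ => quotFree p _) hS F hF hfree
    (cInner_of_nInner (key WZ (isCharPFunctor_WZ p))) (key WJ (isCharPFunctor_WJ p))

/-- **The strengthened Frobenius criterion**: if `Aut_F(Q)` is a `p`-group for every nontrivial characteristic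
subgroup `Q` of `S` (and `p` is odd or `F` is `S₄`-free), then `F` is the inner system. -/
theorem char_inner {p : ℕ} [Fact p.Prime] {Ω : Type u} [Group Ω] {S : Subgroup Ω} [Finite S]
    (hS : IsPGroup p S) (F : FusionSystem S) (hF : F.IsSaturated p)
    (hp : p ≠ 2 ∨ F.IsSectionFree p (Equiv.Perm (Fin 4)))
    (h : ∀ Q : Subgroup Ω, Q ≤ S → Q ≠ ⊥ → (Q.subgroupOf S).Characteristic → IsPGroup p (F.autGroup Q)) :
    ∀ P : Subgroup Ω, F.Hom P = (innerFusionSystem S).Hom P :=
  inner_of_pInner hS hF (char_pInner _ Ω S rfl hS F hF hp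
    (fun X hXS hXne hXc => autP_of_isPGroup (h X hXS hXne hXc)))

end Cfsg.Agent.Lib.Helper84_ThChar
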