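import Cfsg.Agent.Lib.Helper84_KLRealized
import Cfsg.Agent.Lib.Helper84_ThCent

/-!
# Realized fusion systems and normal `p`-complements (helper84)

Let `F` over `S` be realized by the finite group `G` through `ι`, with `ι(S)` a Sylow `p`-subgroup `T`.
* `hasNPC_of_maps`: a subgroup `M ≥ T` of `G` has a normal `p`-complement as soon as the self-maps of `F` induced by
  elements of `M` have `p`-power order;
* `hasNPC_normalizer`: `N_G(V)` has a normal `p`-complement when the normalizer system of `W₀` (corresponding to `V`)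
  has only automorphisms of `p`-power order; `hasNPC_centralizer`: the same for centralizers;
* `pInner_of_hasNPC`: if `G` has a normal `p`-complement then all automorphisms of `F` have `p`-power order.
-/

set_option autoImplicit false

namespace Cfsg.Agent.Lib.Helper84_ThRealized

open Cfsg Cfsg.FusionSystem Cfsg.Agent.Lib.Helper87_Alperin Cfsg.Agent.Lib.Helper87_Alperin2
  Cfsg.Agent.Lib.Helper87_Factor Cfsg.Agent.Lib.Helper84_KLBasic Cfsg.Agent.Lib.Helper35_FrobeniusNPC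
  Cfsg.Agent.Lib.Helper34_NPC Cfsg.Agent.Lib.Helper84_KLRealized Cfsg.Agent.Lib.Helper84_ThCent

universe u

variable {Ω : Type*} [Group Ω] {S : Subgroup Ω} {G : Type u} [Group G] {ι : S →* G} {F : FusionSystem S}
  {p : ℕ}

/-- a `p'`-element whose `p^k`-th power centralizes `Q` centralizes `Q` -/
theorem mem_centralizer_of_pow {g : G} {k : ℕ} (hgo : (orderOf g).Coprime p) {QG : Subgroup G}
    (hcent : ∀ z ∈ QG, g ^ p ^ k * z = z * g ^ p ^ k) : ∀ z ∈ QG, g * z = z * g := by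
  have hgo' : (p ^ k).Coprime (orderOf g) := Nat.Coprime.pow_left k hgo.symm
  obtain ⟨m, hm⟩ := exists_pow_eq_self_of_coprime hgo'
  intro z hz
  have hcm : ∀ n : ℕ, (g ^ p ^ k) ^ n * z = z * (g ^ p ^ k) ^ n := by
    intro n
    induction n with
    | zero => simp
    | succ n ih =>
      rw [pow_succ, mul_assoc, hcent z hz, ← mul_assoc, ih, mul_assoc]
  have := hcm m
  rwa [hm] at this

/-- **normal `p`-complements of subgroups containing the Sylow subgroup** -/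
theorem hasNPC_of_maps [Finite S] [Fact p.Prime] [Finite G]
    (hreal : F.IsRealizedBy ι) (T : Sylow p G) (hT : (T : Subgroup G) = ι.range)
    (M : Subgroup G) (hTM : (T : Subgroup G) ≤ M) {X₀ : Subgroup Ω} (hX₀S : X₀ ≤ S)
    (hMX : ∀ g ∈ M, ∀ x ∈ X₀, g * extOn ι x * g⁻¹ ∈ ι.range)
    (hyp : ∀ (Q₀ : Subgroup Ω), Q₀ ≤ S → ∀ g ∈ M, ∀ f : Ω → Ω, IsMapOn F (Q₀ ⊔ X₀) f →
      (∀ x ∈ Q₀ ⊔ X₀, extOn ι (f x) = g * extOn ι x * g⁻¹) → (∀ x ∈ Q₀, f x ∈ Q₀) → PPow p Q₀ f) :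
    Cfsg.HasNormalPComplement p ↥M := by
  have hι : Function.Injective ι := hreal.1
  have hM : FrobHyp p ↥M := by
    apply frobHyp_of_le_sylow (T.subtype hTM)
    intro Q hQT g hg hgo
    -- the preimage of `Q` in `S`
    set QG : Subgroup G := Q.map M.subtype with hQG
    have hQGT : QG ≤ T := by
      rintro _ ⟨q, hq, rfl⟩
      have := hQT hq
      rw [Sylow.coe_subtype, Subgroup.mem_subgroupOf] at this
      exact this
    set Q₀ : Subgroup Ω := (QG.comap ι).map S.subtype with hQ₀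
    have hQ₀S : Q₀ ≤ S := by
      rintro _ ⟨s, -, rfl⟩
      exact s.2
    have hQ₀mem : ∀ y ∈ S, (y ∈ Q₀ ↔ extOn ι y ∈ QG) := by
      intro y hy
      rw [extOn_apply ι hy]
      constructor
      · rintro ⟨s, hs, hsy⟩
        have : s = ⟨y, hy⟩ := Subtype.ext hsy
        subst this
        exact hs
      · intro h
        exact ⟨⟨y, hy⟩, h, rfl⟩
    have hgQG : ∀ z ∈ QG, (g : G) * z * (g : G)⁻¹ ∈ QG := by
      rintro _ ⟨q, hq, rfl⟩
      refine ⟨g * q * g⁻¹, (Subgroup.mem_normalizer_iff.1 hg q).1 hq, ?_⟩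
      simp
    -- conjugation by `g` on `Q₀ ⊔ X₀`
    have hD : Q₀ ⊔ X₀ ≤ S := sup_le hQ₀S hX₀S
    have hconj : ∀ x ∈ Q₀ ⊔ X₀, (g : G) * extOn ι x * (g : G)⁻¹ ∈ ι.range := by
      let K : Subgroup Ω := (((ι.range).comap ((MulAut.conj (g : G)).toMonoidHom.comp ι))).map S.subtype
      have hK : ∀ y ∈ S, (y ∈ K ↔ (g : G) * extOn ι y * (g : G)⁻¹ ∈ ι.range) := by
        intro y hy
        rw [extOn_apply ι hy]
        constructor
        · rintro ⟨s, hs, hsy⟩
          have : s = ⟨y, hy⟩ := Subtype.ext hsy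
          subst this
          exact hs
        · intro h
          exact ⟨⟨y, hy⟩, h, rfl⟩
      have hle : Q₀ ⊔ X₀ ≤ K := by
        apply sup_le
        · intro y hy
          rw [hK y (hQ₀S hy), ← hT]
          exact hQGT (hgQG _ ((hQ₀mem y (hQ₀S hy)).1 hy))
        · intro y hy
          rw [hK y (hX₀S hy)]
          exact hMX g g.2 y hy
      intro x hx
      exact (hK x (hD hx)).1 (hle hx)
    obtain ⟨f, hf, hfg⟩ := exists_isMapOn_of_conj hreal hD (g : G) hconj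
    have hfS : ∀ x ∈ Q₀ ⊔ X₀, f x ∈ S := fun x hx => hf.mem hx
    have hfQ₀ : ∀ x ∈ Q₀, f x ∈ Q₀ := by
      intro x hx
      have hx' : x ∈ Q₀ ⊔ X₀ := (le_sup_left : Q₀ ≤ Q₀ ⊔ X₀) hx
      rw [hQ₀mem _ (hfS x hx'), hfg x hx']
      exact hgQG _ ((hQ₀mem x (hQ₀S hx)).1 hx)
    obtain ⟨k, hk⟩ := hyp Q₀ hQ₀S g g.2 f hf hfg hfQ₀
    -- `g ^ p ^ k` centralizes `QG`
    have hit := extOn_iterate (ι := ι) hfQ₀ (fun x hx => hfg x ((le_sup_left : Q₀ ≤ Q₀ ⊔ X₀) hx)) (p ^ k)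
    have hcent : ∀ z ∈ QG, (g : G) ^ p ^ k * z = z * (g : G) ^ p ^ k := by
      intro z hz
      obtain ⟨s, rfl⟩ : z ∈ ι.range := hT ▸ hQGT hz
      have hsQ₀ : (s : Ω) ∈ Q₀ := (hQ₀mem _ s.2).2 (by rw [extOn_coe]; exact hz)
      have h1 := hit _ hsQ₀
      rw [hk _ hsQ₀, extOn_coe] at h1
      calc (g : G) ^ p ^ k * ι s = ((g : G) ^ p ^ k * ι s * ((g : G) ^ p ^ k)⁻¹) * (g : G) ^ p ^ k := by group
        _ = ι s * (g : G) ^ p ^ k := by rw [← h1]
    have hgo' : (orderOf (g : G)).Coprime p := by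
      rw [Subgroup.orderOf_coe]
      exact hgo
    have hcm := mem_centralizer_of_pow hgo' hcent
    rw [Subgroup.mem_centralizer_iff]
    intro q hq
    apply Subtype.ext
    have hqG : (q : G) ∈ QG := ⟨q, hq, rfl⟩
    exact (hcm _ hqG).symm
  exact (Cfsg.Agent.S0072.hasNPC_iff p).2 (hasNPC_of_frobHyp hM)

/-- **the normalizer of a subgroup corresponding to `W₀`** -/
theorem hasNPC_normalizer [Finite S] [Fact p.Prime] [Finite G]
    (hreal : F.IsRealizedBy ι) (T : Sylow p G) (hT : (T : Subgroup G) = ι.range)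
    {W₀ : Subgroup Ω} {V : Subgroup G} (hW₀S : W₀ ≤ S) (hSW₀ : S ≤ normalizerIn S W₀)
    (hVT : V ≤ T) (hTV : (T : Subgroup G) ≤ Subgroup.normalizer (V : Set G))
    (hVmem : ∀ y ∈ S, (extOn ι y ∈ V ↔ y ∈ W₀)) (hN : NInner F W₀ p) :
    Cfsg.HasNormalPComplement p ↥(Subgroup.normalizer (V : Set G)) := by
  have hgV : ∀ g ∈ Subgroup.normalizer (V : Set G), ∀ z ∈ V, g * z * g⁻¹ ∈ V := fun g hg z hz =>
    (Subgroup.mem_normalizer_iff.1 hg z).1 hz
  refine hasNPC_of_maps hreal T hT _ hTV hW₀S (fun g hg x hx => ?_) ?_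
  · rw [← hT]
    exact hVT (hgV g hg _ ((hVmem x (hW₀S hx)).2 hx))
  · intro Q₀ hQ₀S g hg f hf hfg hfQ₀
    have hfW₀ : ∀ x ∈ W₀, f x ∈ W₀ := by
      intro x hx
      have hx' : x ∈ Q₀ ⊔ W₀ := (le_sup_right : W₀ ≤ Q₀ ⊔ W₀) hx
      rw [← hVmem _ (hf.mem hx'), hfg x hx']
      exact hgV g hg _ ((hVmem x (hW₀S hx)).2 hx)
    have hnm : NMap F W₀ Q₀ f :=
      ⟨hf.mono le_sup_left, hQ₀S.trans hSW₀, fun x hx => hSW₀ (hQ₀S (hfQ₀ x hx)), Q₀ ⊔ W₀, f, le_sup_left,
        le_sup_right, hf, fun _ _ => rfl, hfW₀⟩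
    exact hN Q₀ f hnm hfQ₀

/-- **the centralizer of a subgroup corresponding to `Z₀`** -/
theorem hasNPC_centralizer [Finite S] [Fact p.Prime] [Finite G]
    (hreal : F.IsRealizedBy ι) (T : Sylow p G) (hT : (T : Subgroup G) = ι.range)
    {Z₀ : Subgroup Ω} {V : Subgroup G} (hZ₀S : Z₀ ≤ S) (hSZ₀ : S ≤ centralizerIn S Z₀)
    (hTV : (T : Subgroup G) ≤ Subgroup.centralizer (V : Set G))
    (hVmem : ∀ y ∈ S, (extOn ι y ∈ V ↔ y ∈ Z₀)) (hN : CInner F Z₀ p) :
    Cfsg.HasNormalPComplement p ↥(Subgroup.centralizer (V : Set G)) := by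
  have hι : Function.Injective ι := hreal.1
  have hgV : ∀ g ∈ Subgroup.centralizer (V : Set G), ∀ z ∈ V, g * z * g⁻¹ = z := fun g hg z hz => by
    rw [← Subgroup.mem_centralizer_iff.1 hg z hz, mul_inv_cancel_right]
  refine hasNPC_of_maps hreal T hT _ hTV hZ₀S (fun g hg x hx => ?_) ?_
  · rw [hgV g hg _ ((hVmem x (hZ₀S hx)).2 hx)]
    exact extOn_mem_range ι (hZ₀S hx)
  · intro Q₀ hQ₀S g hg f hf hfg hfQ₀
    have hfZ₀ : ∀ x ∈ Z₀, f x = x := by
      intro x hx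
      have hx' : x ∈ Q₀ ⊔ Z₀ := (le_sup_right : Z₀ ≤ Q₀ ⊔ Z₀) hx
      apply extOn_injOn hι (hf.mem hx') (hZ₀S hx)
      rw [hfg x hx']
      exact hgV g hg _ ((hVmem x (hZ₀S hx)).2 hx)
    have hnm : CMap F Z₀ Q₀ f :=
      ⟨hf.mono le_sup_left, hQ₀S.trans hSZ₀, fun x hx => hSZ₀ (hQ₀S (hfQ₀ x hx)), Q₀ ⊔ Z₀, f, le_sup_left,
        le_sup_right, hf, fun _ _ => rfl, hfZ₀⟩
    exact hN Q₀ f hnm hfQ₀

/-- **if the realizing group has a normal `p`-complement, all automorphisms have `p`-power order** -/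
theorem pInner_of_hasNPC [Finite S] [Fact p.Prime] (hS : IsPGroup p S) [Finite G]
    (hreal : F.IsRealizedBy ι) (hG : Cfsg.HasNormalPComplement p G) : PInner F p := by
  have hι : Function.Injective ι := hreal.1
  have hG2 : FrobHyp p G := frobHyp_of_hasNPC ((Cfsg.Agent.S0072.hasNPC_iff p).1 hG)
  intro P f hf hfP
  have hPS : P ≤ S := hf.le
  obtain ⟨g, hg⟩ := exists_conj_of_isMapOn hreal hf
  obtain ⟨a, m, hm, hgm⟩ := Nat.exists_eq_pow_mul_and_not_dvd (orderOf_pos g).ne' p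
    (Nat.Prime.ne_one Fact.out)
  have hmc : m.Coprime p := ((Nat.Prime.coprime_iff_not_dvd Fact.out).2 hm).symm
  set PG : Subgroup G := (P.subgroupOf S).map ι with hPG
  have hPGmem : ∀ y ∈ P, extOn ι y ∈ PG := by
    intro y hy
    rw [extOn_apply ι (hPS hy)]
    exact ⟨⟨y, hPS hy⟩, Subgroup.mem_subgroupOf.2 hy, rfl⟩
  have hPGp : IsPGroup p PG := (hS.to_subgroup _).map ι
  have hit := extOn_iterate (ι := ι) hfP hg
  have hfin : Finite P := Finite.of_injective (Subgroup.inclusion hPS) (Subgroup.inclusion_injective hPS)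
  -- `f` is a bijection of `P`
  have hsurj : ∀ y ∈ P, ∃ x ∈ P, f x = y := by
    intro y hy
    let e : P → P := fun x => ⟨f x, hfP x x.2⟩
    have hinj : Function.Injective e := by
      intro a b hab
      exact Subtype.ext (hf.injOn a.2 b.2 (congrArg Subtype.val hab))
    obtain ⟨x, hx⟩ := (Finite.injective_iff_bijective.1 hinj).2 ⟨y, hy⟩
    exact ⟨x, x.2, congrArg Subtype.val hx⟩
  have hgN : g ^ p ^ a ∈ Subgroup.normalizer (PG : Set G) := by
    have hpow : ∀ z ∈ PG, g ^ p ^ a * z * (g ^ p ^ a)⁻¹ ∈ PG := by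
      rintro _ ⟨s, hs, rfl⟩
      have hsP : (s : Ω) ∈ P := Subgroup.mem_subgroupOf.1 hs
      have := hit (p ^ a) _ hsP
      rw [extOn_coe] at this
      rw [← this]
      exact hPGmem _ (iterate_mem hfP _ hsP)
    have hcard : ∀ z ∈ PG, ∃ w ∈ PG, g ^ p ^ a * w * (g ^ p ^ a)⁻¹ = z := by
      rintro _ ⟨s, hs, rfl⟩
      have hsP : (s : Ω) ∈ P := Subgroup.mem_subgroupOf.1 hs
      have hsurj' : ∀ n : ℕ, ∀ y ∈ P, ∃ x ∈ P, f^[n] x = y := by
        intro n
        induction n with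
        | zero => intro y hy; exact ⟨y, hy, rfl⟩
        | succ n ih =>
          intro y hy
          obtain ⟨x, hx, hxy⟩ := ih y hy
          obtain ⟨x', hx', hx'x⟩ := hsurj x hx
          exact ⟨x', hx', by rw [Function.iterate_succ_apply, hx'x, hxy]⟩
      obtain ⟨x, hx, hxs⟩ := hsurj' (p ^ a) _ hsP
      refine ⟨extOn ι x, hPGmem x hx, ?_⟩
      rw [← hit (p ^ a) x hx, hxs, extOn_coe]
    rw [Subgroup.mem_normalizer_iff]
    intro z
    constructor
    · exact hpow z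
    · intro hz
      obtain ⟨w, hw, hwz⟩ := hcard _ hz
      have : w = z := by
        have h1 : g ^ p ^ a * w * (g ^ p ^ a)⁻¹ = g ^ p ^ a * z * (g ^ p ^ a)⁻¹ := hwz
        exact mul_left_cancel (mul_right_cancel h1)
      rw [← this]
      exact hw
  have hgo : (orderOf (g ^ p ^ a)).Coprime p := by
    have h1 : orderOf (g ^ p ^ a) = m := by
      rw [orderOf_pow' g (pow_pos (Nat.Prime.pos Fact.out) a).ne', hgm,
        Nat.gcd_eq_right (dvd_mul_right _ _), Nat.mul_div_cancel_left _ (pow_pos (Nat.Prime.pos Fact.out) a)]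
    rw [h1]
    exact hmc
  have hgC := hG2 PG hPGp _ hgN hgo
  refine ⟨a, fun x hx => ?_⟩
  have h1 := hit (p ^ a) x hx
  have h2 : g ^ p ^ a * extOn ι x = extOn ι x * g ^ p ^ a :=
    ((Subgroup.mem_centralizer_iff.1 hgC) _ (hPGmem x hx)).symm
  have h3 : extOn ι (f^[p ^ a] x) = extOn ι x := by
    rw [h1, h2]
    group
  exact extOn_injOn hι (hPS (iterate_mem hfP _ hx)) (hPS hx) h3

end Cfsg.Agent.Lib.Helper84_ThRealized
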