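import Cfsg.Agent.Lib.Helper84_ThRed
import Cfsg.Agent.Lib.Helper84_ThRealized
import Cfsg.Agent.Lib.Helper88_NormFree
import Cfsg.Agent.Lib.Helper88_FactorFree
import Cfsg.Agent.Lib.Helper1_ZJFunctor
import Cfsg.Agent.S2800

/-!
# Thompson's normal `p`-complement theorem for fusion systems, functor form (helper84)

Let `W` be a characteristic `p`-functor such that every finite group `L` (in which `H` is not involved, when `p = 2`)
with Sylow `p`-subgroup `P` has a normal `p`-complement as soon as `C_L(Z(P))` and `N_L(W(P))` have one.  Then a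
saturated fusion system `F` over `S` (`H`-free when `p = 2`) such that the centralizer system of `Z(S)` and the
normalizer system of `W(S)` have only automorphisms of `p`-power order has only automorphisms of `p`-power order.
-/

set_option autoImplicit false

namespace Cfsg.Agent.Lib.Helper84_ThMain

open Cfsg Cfsg.FusionSystem Cfsg.Agent.Lib Cfsg.Agent.Lib.Helper87_Alperin Cfsg.Agent.Lib.Helper87_Alperin2
  Cfsg.Agent.Lib.Helper87_Factor Cfsg.Agent.Lib.Helper87_Factor2
  Cfsg.Agent.Lib.Helper84_KLBasic Cfsg.Agent.Lib.Helper84_KLQuot Cfsg.Agent.Lib.Helper84_KLTransport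
  Cfsg.Agent.Lib.Helper84_KLRealized Cfsg.Agent.Lib.Helper84_KLMain Cfsg.Agent.Lib.Helper34_NPC
  Cfsg.Agent.Lib.Helper84_ThRed Cfsg.Agent.Lib.Helper84_ThCent Cfsg.Agent.Lib.Helper84_ThRealized

universe u

/-! ### The centre functor -/

/-- the functor `Q ↦ Z(Q)` -/
def WZ (Q : Type u) [Group Q] : Subgroup Q := Subgroup.center Q

theorem WZ_map {Q R : Type u} [Group Q] [Group R] (φ : Q ≃* R) :
    (WZ Q).map φ.toMonoidHom = WZ R := by
  ext y
  constructor
  · rintro ⟨x, hx, rfl⟩
    show φ x ∈ Subgroup.center R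
    rw [Subgroup.mem_center_iff]
    intro r
    obtain ⟨q, rfl⟩ := φ.surjective r
    rw [← map_mul, ← map_mul, (Subgroup.mem_center_iff.1 hx) q]
  · intro hy
    refine ⟨φ.symm y, ?_, by simp⟩
    show φ.symm y ∈ Subgroup.center Q
    rw [Subgroup.mem_center_iff]
    intro q
    apply φ.injective
    rw [map_mul, map_mul, MulEquiv.apply_symm_apply, (Subgroup.mem_center_iff.1 hy) (φ q)]

theorem isCharPFunctor_WZ (p : ℕ) [Fact p.Prime] : Cfsg.IsCharPFunctor.{u} p WZ := by
  refine ⟨fun Q _ _ hQ hnt => ?_, fun Q R _ _ _ _ φ => WZ_map φ⟩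
  have := hQ.center_nontrivial
  exact (Subgroup.nontrivial_iff_ne_bot _).1 this

theorem inducedFunctor_WZ {G : Type u} [Group G] (P : Subgroup G) :
    Cfsg.inducedFunctor WZ P = P ⊓ Subgroup.centralizer (P : Set G) := by
  have h := Cfsg.Agent.S0622.map_inf_centralizer_of_injective P.subtype P.subtype_injective (⊤ : Subgroup P)
  have h1 : ((⊤ : Subgroup P)).map P.subtype = P := by
    rw [← MonoidHom.range_eq_map, Subgroup.range_subtype]
  rw [h1] at h
  rw [← h]
  unfold Cfsg.inducedFunctor WZ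
  congr 1
  ext x
  simp [Subgroup.mem_center_iff, Subgroup.mem_centralizer_iff, eq_comm]

theorem inducedFunctor_WZ_central {G : Type u} [Group G] (P : Subgroup G) :
    P ≤ Subgroup.centralizer ((Cfsg.inducedFunctor WZ P : Subgroup G) : Set G) := by
  rw [inducedFunctor_WZ]
  intro x hx
  rw [Subgroup.mem_centralizer_iff]
  intro z hz
  exact (Subgroup.mem_centralizer_iff.1 hz.2 x hx).symm

/-- the functor `Q ↦ J(Q)` -/
def WJ (Q : Type u) [Group Q] : Subgroup Q := Cfsg.thompsonSubgroupA Q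

theorem isCharPFunctor_WJ (p : ℕ) [Fact p.Prime] : Cfsg.IsCharPFunctor.{u} p WJ :=
  ⟨fun Q _ _ _ _ => Helper1_ZJFunctor.thompsonSubgroupA_ne_bot Q,
    fun _ _ _ _ _ _ φ => Helper1_ZJFunctor.thompsonSubgroupA_map φ⟩

theorem inducedFunctor_WJ {G : Type u} [Group G] (P : Subgroup G) :
    Cfsg.inducedFunctor WJ P = Cfsg.thompsonSubgroupAOf P := rfl

/-! ### The class of systems -/

/-- freeness passes to factor systems (supplied from outside for `p = 2`) -/
def QuotFree (p : ℕ) (H : Type) [Group H] : Prop :=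
  ∀ (Ω : Type u) [Group Ω] (S : Subgroup Ω) [Finite S], IsPGroup p S → ∀ F : FusionSystem S, F.IsSaturated p →
    F.IsSectionFree p H → ∀ U : Subgroup Ω, F.IsNormal U →
    ∀ (Ω' : Type u) [Group Ω'] (S' : Subgroup Ω') (θ : S →* Ω') (E : FusionSystem S'),
      F.IsFactorSystem U θ E → E.IsSectionFree p H

/-- freeness does pass to factor systems (helper88) -/
theorem quotFree (p : ℕ) [Fact p.Prime] (H : Type) [Group H] : QuotFree.{u} p H :=
  fun _ _ _ _ hS F hF hfree U hUn _ _ _ θ E hE =>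
    Helper88_FactorFree.isSectionFree_factorSystem hS F hF U hUn H hfree θ E hE

/-- the group-theoretic hypothesis -/
def GroupHyp2 (p : ℕ) (H : Type) [Group H] (W : ∀ (Q : Type u) [Group Q], Subgroup Q) : Prop :=
  ∀ (L : Type u) [Group L] [Finite L] (P : Sylow p L), (p ≠ 2 ∨ ¬ Cfsg.Involves H L) →
    Cfsg.HasNormalPComplement p
      ↥(Subgroup.centralizer ((Cfsg.inducedFunctor WZ (P : Subgroup L) : Subgroup L) : Set L)) →
    Cfsg.HasNormalPComplement p
      ↥(Subgroup.normalizer ((Cfsg.inducedFunctor W (P : Subgroup L) : Subgroup L) : Set L)) →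
    Cfsg.HasNormalPComplement p L

/-- the class of fusion systems of the theorem -/
def ThClass (p : ℕ) (H : Type) [Group H] (W : ∀ (Q : Type u) [Group Q], Subgroup Q) :
    ∀ (Ω : Type u) [Group Ω] (S : Subgroup Ω), FusionSystem S → Prop :=
  fun _ _ S F => (p ≠ 2 ∨ F.IsSectionFree p H) ∧ CInner F (Cfsg.inducedFunctor WZ S) p ∧
    NInner F (Cfsg.inducedFunctor W S) p

variable {p : ℕ} [Fact p.Prime] {W' : ∀ (Q : Type u) [Group Q], Subgroup Q}

/-- in the situation of `norm` with `N_S(U) < S` -/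
theorem nInner_functor_of_lt {Ω : Type u} [Group Ω] {S : Subgroup Ω} [Finite S]
    (hW' : Cfsg.IsCharPFunctor.{u} p W') (hS : IsPGroup p S) {F : FusionSystem S} (hF : F.IsSaturated p)
    {U : Subgroup Ω} (hUne : U ≠ ⊥) (hUS : U ≤ S)
    (hbig : ∀ V : Subgroup Ω, V ≠ ⊥ → F.IsFullyNormalized V →
      Nat.card (normalizerIn S U) < Nat.card (normalizerIn S V) → NInner F V p)
    (hT : normalizerIn S U ≠ S) : NInner F (Cfsg.inducedFunctor W' (normalizerIn S U)) p := by
  have hTS : normalizerIn S U ≤ S := inf_le_left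
  have hTlt : normalizerIn S U < S := lt_of_le_of_ne hTS hT
  have hfinT : Finite (normalizerIn S U) := Helper84_FusionRS.finite_of_le_S hTS
  have hpT : IsPGroup p (normalizerIn S U) := hS.to_le hTS
  have hV₀T : Cfsg.inducedFunctor W' (normalizerIn S U) ≤ normalizerIn S U := inducedFunctor_le W' _
  have hTne : normalizerIn S U ≠ ⊥ := fun h =>
    hUne (le_bot_iff.1 (h ▸ Helper87_Alperin.le_normalizerIn hUS))
  have hV₀ne : Cfsg.inducedFunctor W' (normalizerIn S U) ≠ ⊥ := inducedFunctor_ne_bot hW' hpT hTne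
  obtain ⟨V, hVfn, hVne, hVcard, hVtr⟩ :=
    exists_fullyNormalized_transport (p := p) hS hF (hV₀T.trans hTS)
  have h1 : normalizerIn S (normalizerIn S U) ≤
      normalizerIn S (Cfsg.inducedFunctor W' (normalizerIn S U)) :=
    inf_le_inf_left _ (normalizer_le_normalizer_inducedFunctor hW' (normalizerIn S U) hpT)
  have h2 : normalizerIn S U < normalizerIn S (normalizerIn S U) :=
    Helper84_FusionAlperin.lt_normalizerIn hS hTlt
  have h3 : Nat.card (normalizerIn S U) <
      Nat.card (normalizerIn S (Cfsg.inducedFunctor W' (normalizerIn S U))) := by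
    have : Finite (normalizerIn S (Cfsg.inducedFunctor W' (normalizerIn S U))) :=
      Helper84_FusionRS.finite_of_le_S inf_le_left
    exact (Helper84_FusionAlperin.card_lt_card_of_lt inf_le_left h2).trans_le
      (Subgroup.card_le_of_le h1)
  exact hVtr (hbig V (hVne hV₀ne) hVfn (h3.trans_le hVcard))

omit [Fact (Nat.Prime p)] in
/-- in the situation of `quot` -/
theorem nInner_functor_quot {Ω : Type u} [Group Ω] {S : Subgroup Ω} [Finite S]
    (hW' : Cfsg.IsCharPFunctor.{u} p W') (hS : IsPGroup p S) {F : FusionSystem S}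
    {U : Subgroup Ω} (hUlt : U < S)
    (hV : ∀ V : Subgroup Ω, U < V → V ≤ S → S ≤ Subgroup.normalizer (V : Set Ω) → NInner F V p)
    {Ω' : Type u} [Group Ω'] {S' : Subgroup Ω'} {θ : S →* Ω'} {E : FusionSystem S'}
    (hE : F.IsFactorSystem U θ E) : NInner E (Cfsg.inducedFunctor W' S') p := by
  have hUS : U ≤ S := hUlt.le
  have hker : ∀ s : S, θ s = 1 ↔ (s : Ω) ∈ U := hE.2.1
  have hrange : θ.range = S' := hE.2.2.1
  have hfinS' : Finite S' := by
    rw [← hrange]
    exact Finite.of_surjective θ.rangeRestrict θ.rangeRestrict_surjective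
  have hpS' : IsPGroup p S' := by
    rw [← hrange]
    exact hS.of_surjective θ.rangeRestrict θ.rangeRestrict_surjective
  set W₀ : Subgroup Ω' := Cfsg.inducedFunctor W' S' with hW₀
  set R : Subgroup Ω := preimageAlong θ W₀ with hRdef
  have hRS : R ≤ S := preimageAlong_le θ W₀
  have hUR : U ≤ R := le_preimageAlong hker hUS W₀
  have hW₀norm : ∀ g ∈ S', ∀ w ∈ W₀, g * w * g⁻¹ ∈ W₀ := by
    intro g hg w hw
    have h1 : g ∈ Subgroup.normalizer (S' : Set Ω') := Subgroup.le_normalizer hg
    have h2 := normalizer_le_normalizer_inducedFunctor hW' S' hpS' h1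
    exact (Subgroup.mem_normalizer_iff.1 h2 w).1 hw
  have hRconj : ∀ s ∈ S, ∀ x ∈ R, s * x * s⁻¹ ∈ R := by
    intro s hs x hx
    rw [hRdef, mem_preimageAlong] at hx ⊢
    refine ⟨S.mul_mem (S.mul_mem hs hx.1) (S.inv_mem hs), ?_⟩
    rw [extOn_mul θ (S.mul_mem hs hx.1) (S.inv_mem hs), extOn_mul θ hs hx.1, extOn_inv θ hs]
    refine hW₀norm _ ?_ _ hx.2
    rw [← hrange, extOn_apply θ hs]
    exact ⟨_, rfl⟩
  have hR_norm : S ≤ Subgroup.normalizer (R : Set Ω) := Helper87_Normal.le_normalizer_of_conj_mem hRconj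
  have hS'ne : S' ≠ ⊥ := by
    intro h
    apply hUlt.ne
    apply le_antisymm hUS
    intro s hs
    have h1 : θ ⟨s, hs⟩ ∈ θ.range := ⟨_, rfl⟩
    rw [hrange, h, Subgroup.mem_bot] at h1
    exact (hker ⟨s, hs⟩).1 h1
  have hW₀ne : W₀ ≠ ⊥ := inducedFunctor_ne_bot hW' hpS' hS'ne
  have hUltR : U < R := by
    refine lt_of_le_of_ne hUR ?_
    intro hUR'
    apply hW₀ne
    rw [Subgroup.eq_bot_iff_forall]
    intro w hw
    have hwS' : w ∈ θ.range := hrange ▸ (inducedFunctor_le W' S') hw
    obtain ⟨s, rfl⟩ := hwS'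
    have hsR : (s : Ω) ∈ R := by
      rw [hRdef, mem_preimageAlong]
      exact ⟨s.2, by rw [extOn_coe]; exact hw⟩
    rw [← hUR'] at hsR
    exact (hker s).2 hsR
  exact nInner_factor hE W₀ hR_norm (hV R hUltR hRS hR_norm)


/-- every map of a system is a map of the normalizer system of a normal subgroup -/
theorem nmap_of_isNormal {Ω : Type u} [Group Ω] {S : Subgroup Ω} {F : FusionSystem S} {Q : Subgroup Ω}
    (hQn : F.IsNormal Q) {P : Subgroup Ω} {f : Ω → Ω} (hf : IsMapOn F P f) : NMap F Q P f := by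
  have hSQ : S ≤ Subgroup.normalizer (Q : Set Ω) := Helper84_FusionNormal.IsNormal.le_normalizer hQn
  have hSN : S ≤ normalizerIn S Q := le_inf le_rfl hSQ
  obtain ⟨φ, hφ, hφf⟩ := hf
  obtain ⟨ψ, hψ, hext, himg⟩ := hQn.2 P φ hφ
  have hPS : P ≤ S := hom_le F hφ
  have h1 : φ ∈ F.normalizerHom Q P :=
    ⟨hφ, hPS.trans hSN, fun x => hSN ((F.le_of_mem hφ).2 x), ψ, hψ, hext, himg⟩
  exact (nmap_of_mem_normalizerHom h1).congr (fun x hx => by rw [extHom_apply φ hx, hφf])

variable {W : ∀ (Q : Type u) [Group Q], Subgroup Q} {H : Type} [Group H]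

/-- the constrained case -/
theorem pInner_of_constrained (hW : Cfsg.IsCharPFunctor.{u} p W) (hG : GroupHyp2.{u} p H W)
    {Ω : Type u} [Group Ω] {S : Subgroup Ω} [Finite S] (hS : IsPGroup p S) {F : FusionSystem S}
    (hF : F.IsSaturated p) (hCF : ThClass p H W Ω S F) {Q : Subgroup Ω} (hQn : F.IsNormal Q)
    (hQc : F.IsCentric Q) : PInner F p := by
  obtain ⟨hfree, hCZ, hNW⟩ := hCF
  have hQS : Q ≤ S := hQn.1
  have hN := Helper85_Fusion.normalizerSystem_isNormalizerSystem F Q hQS
  set N := Helper85_Fusion.normalizerSystem F Q hQS with hNdef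
  have hSQ : S ≤ Subgroup.normalizer (Q : Set Ω) := Helper84_FusionNormal.IsNormal.le_normalizer hQn
  have hT : normalizerIn S Q = S := le_antisymm inf_le_left (le_inf le_rfl hSQ)
  have hTS : normalizerIn S Q ≤ S := inf_le_left
  have hfinT : Finite (normalizerIn S Q) := Helper84_FusionRS.finite_of_le_S hTS
  have hpT : IsPGroup p (normalizerIn S Q) := hS.to_le hTS
  have hQfn : F.IsFullyNormalized Q := by
    refine ⟨hQS, fun Q' _ => ?_⟩
    rw [hT]
    exact Helper84_FusionAlperin.card_le_card_S inf_le_left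
  have hNsat : N.IsSaturated p := Cfsg.Agent.S5098.result p hS F hF Q hQfn _ hN
  have hNn : N.IsNormal Q := Helper88_Model.isNormal_of_isNormalizerSystem F hQS _ hN
  have hQT : Q ≤ normalizerIn S Q := Helper87_Alperin.le_normalizerIn hQS
  have hNQ : normalizerIn (normalizerIn S Q) Q = normalizerIn S Q :=
    le_antisymm inf_le_left (le_inf le_rfl inf_le_right)
  have hQfnN : N.IsFullyNormalized Q := by
    refine ⟨hQT, fun Q' _ => ?_⟩
    rw [hNQ]
    exact Helper84_FusionAlperin.card_le_card_S inf_le_left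
  have hfcN := Helper84_FusionRS.IsSaturated.isFullyCentralized hpT hNsat hQfnN
  have hcen : centralizerIn (normalizerIn S Q) Q ≤ Q :=
    (inf_le_inf_right _ hTS).trans (hQc.2 Q (Helper84_Fusion.isConj_refl F hQS))
  have hQcN : N.IsCentric Q := Helper84_FusionEssential.isCentric_of_centralizerIn_le N hfcN hcen
  obtain ⟨L, _, ι, hM⟩ := Helper84_ModelBiset.Setup.exists_model ⟨hpT, hNsat, hNn, hQcN⟩
  have hinv : p ≠ 2 ∨ ¬ Cfsg.Involves H L := hfree.imp_right (fun h => h Q hQfn hQc N hN L ι hM)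
  obtain ⟨hfin, hreal, ⟨TL, hTL⟩, -⟩ := hM
  have hι : Function.Injective ι := hreal.1
  have hsub := isMapOn_of_normalizerSystem hN
  have hCZN : CInner N (Cfsg.inducedFunctor WZ (normalizerIn S Q)) p := by
    have : Cfsg.inducedFunctor WZ (normalizerIn S Q) = Cfsg.inducedFunctor WZ S := by rw [hT]
    rw [this]
    exact CInner.of_subsystem hTS hsub hCZ
  have hNWN : NInner N (Cfsg.inducedFunctor W (normalizerIn S Q)) p := by
    have : Cfsg.inducedFunctor W (normalizerIn S Q) = Cfsg.inducedFunctor W S := by rw [hT]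
    rw [this]
    exact NInner.of_subsystem hTS hsub hNW
  have hmem : ∀ (W'' : ∀ (Q : Type u) [Group Q], Subgroup Q), Cfsg.IsCharPFunctor.{u} p W'' →
      ∀ y ∈ normalizerIn S Q, (extOn ι y ∈ Cfsg.inducedFunctor W'' (TL : Subgroup L) ↔
        y ∈ Cfsg.inducedFunctor W'' (normalizerIn S Q)) := by
    intro W'' hW'' y hy
    rw [hTL]
    exact mem_inducedFunctor_range hW'' hpT hι hy
  have h1 : Cfsg.HasNormalPComplement p
      ↥(Subgroup.centralizer ((Cfsg.inducedFunctor WZ (TL : Subgroup L) : Subgroup L) : Set L)) :=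
    hasNPC_centralizer hreal TL hTL (inducedFunctor_le WZ _)
      (le_inf le_rfl (inducedFunctor_WZ_central _)) (inducedFunctor_WZ_central _)
      (hmem WZ (isCharPFunctor_WZ p)) hCZN
  have h2 : Cfsg.HasNormalPComplement p
      ↥(Subgroup.normalizer ((Cfsg.inducedFunctor W (TL : Subgroup L) : Subgroup L) : Set L)) :=
    hasNPC_normalizer hreal TL hTL (inducedFunctor_le W _)
      (le_inf le_rfl (inducedFunctor_le_of_le hW hpT)) (inducedFunctor_le W _)
      (Subgroup.le_normalizer.trans (normalizer_le_normalizer_inducedFunctor hW (TL : Subgroup L) TL.2))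
      (hmem W hW) hNWN
  have h3 := hG L TL hinv h1 h2
  have h4 : PInner N p := pInner_of_hasNPC hpT hreal h3
  have h5 : NInner F Q p := (pInner_normalizerSystem_iff hQS hN p).1 h4
  intro P f hf hfP
  exact h5 P f (nmap_of_isNormal hQn hf) hfP

/-- the class satisfies the hypotheses of the reduction theorem -/
theorem redHyp_thClass (hW : Cfsg.IsCharPFunctor.{u} p W) (hG : GroupHyp2.{u} p H W)
    (hQF : p = 2 → QuotFree.{u} p H) : RedHyp p (ThClass.{u} p H W) where
  norm := by
    intro Ω _ S _ hS F hF hCF U hUne hUfn hbig N hN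
    obtain ⟨hfree, hCZ, hNW⟩ := hCF
    have hUS := hUfn.1
    have hTS : normalizerIn S U ≤ S := inf_le_left
    have hsub := isMapOn_of_normalizerSystem hN
    refine ⟨hfree.imp_right (fun h =>
      Helper88_NormFree.isSectionFree_normalizerSystem hS F hF H h U hUfn N hN), ?_, ?_⟩
    · by_cases hT : normalizerIn S U = S
      · have : Cfsg.inducedFunctor WZ (normalizerIn S U) = Cfsg.inducedFunctor WZ S := by rw [hT]
        rw [this]
        exact CInner.of_subsystem hTS hsub hCZ
      · exact cInner_of_nInner (NInner.of_subsystem hTS hsub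
          (nInner_functor_of_lt (isCharPFunctor_WZ p) hS hF hUne hUS hbig hT))
    · by_cases hT : normalizerIn S U = S
      · have : Cfsg.inducedFunctor W (normalizerIn S U) = Cfsg.inducedFunctor W S := by rw [hT]
        rw [this]
        exact NInner.of_subsystem hTS hsub hNW
      · exact NInner.of_subsystem hTS hsub (nInner_functor_of_lt hW hS hF hUne hUS hbig hT)
  quot := by
    intro Ω _ S _ hS F hF hCF U hUn hUne hUlt hV Ω' _ S' θ E hE
    obtain ⟨hfree, -, -⟩ := hCF
    refine ⟨?_, cInner_of_nInner (nInner_functor_quot (isCharPFunctor_WZ p) hS hUlt hV hE),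
      nInner_functor_quot hW hS hUlt hV hE⟩
    by_cases hp2 : p = 2
    · rcases hfree with h | h
      · exact Or.inl h
      · exact Or.inr (hQF hp2 Ω S hS F hF h U hUn Ω' S' θ E hE)
    · exact Or.inl hp2
  constrained := by
    intro Ω _ S _ hS F hF hCF Q hQn hQc
    exact pInner_of_constrained hW hG hS hF hCF hQn hQc

/-- **Thompson's normal `p`-complement theorem for fusion systems (functor form).** -/
theorem thompson_pInner (hW : Cfsg.IsCharPFunctor.{u} p W) (hG : GroupHyp2.{u} p H W)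
    (hQF : p = 2 → QuotFree.{u} p H) {Ω : Type u} [Group Ω] {S : Subgroup Ω} [Finite S]
    (hS : IsPGroup p S) (F : FusionSystem S) (hF : F.IsSaturated p)
    (hfree : p ≠ 2 ∨ F.IsSectionFree p H) (hCZ : CInner F (Cfsg.inducedFunctor WZ S) p)
    (hNW : NInner F (Cfsg.inducedFunctor W S) p) : PInner F p :=
  Helper84_ThRed.main (redHyp_thClass hW hG hQF) _ Ω S rfl hS F hF ⟨hfree, hCZ, hNW⟩


/-- **Thompson's normal `p`-complement theorem for fusion systems.** -/
theorem thompson_inner {Ω : Type u} [Group Ω] {S : Subgroup Ω} [Finite S] (hS : IsPGroup p S) (F : FusionSystem S)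
    (hF : F.IsSaturated p) (hp : p ≠ 2 ∨ F.IsSectionFree p (Equiv.Perm (Fin 4)))
    (hC : ∀ C : FusionSystem (centralizerIn S (S ⊓ Subgroup.centralizer (S : Set Ω))),
      F.IsCentralizerSystem (S ⊓ Subgroup.centralizer (S : Set Ω)) C → ∀ P : Subgroup Ω,
      C.Hom P = (innerFusionSystem (centralizerIn S (S ⊓ Subgroup.centralizer (S : Set Ω)))).Hom P)
    (hN : ∀ N : FusionSystem (normalizerIn S (Cfsg.thompsonSubgroupAOf S)),
      F.IsNormalizerSystem (Cfsg.thompsonSubgroupAOf S) N → ∀ P : Subgroup Ω,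
      N.Hom P = (innerFusionSystem (normalizerIn S (Cfsg.thompsonSubgroupAOf S))).Hom P) :
    ∀ P : Subgroup Ω, F.Hom P = (innerFusionSystem S).Hom P := by
  have hG : GroupHyp2.{u} p (Equiv.Perm (Fin 4)) WJ := by
    intro L _ _ P h h1 h2
    rw [inducedFunctor_WZ] at h1
    exact Cfsg.Agent.S2800.result P h h1 h2
  have hZS : S ⊓ Subgroup.centralizer (S : Set Ω) ≤ S := inf_le_left
  have hCsys := Helper85_Fusion.centralizerSystem_isCentralizerSystem F _ hZS
  have hpC : IsPGroup p (centralizerIn S (S ⊓ Subgroup.centralizer (S : Set Ω))) := hS.to_le inf_le_left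
  have hCZ : CInner F (Cfsg.inducedFunctor WZ S) p := by
    rw [inducedFunctor_WZ]
    exact cInner_of_centralizerSystem hCsys (pInner_of_inner hpC (hC _ hCsys))
  have hJS : Cfsg.thompsonSubgroupAOf S ≤ S := inducedFunctor_le WJ S
  have hNsys := Helper85_Fusion.normalizerSystem_isNormalizerSystem F _ hJS
  have hpN : IsPGroup p (normalizerIn S (Cfsg.thompsonSubgroupAOf S)) := hS.to_le inf_le_left
  have hNW : NInner F (Cfsg.inducedFunctor WJ S) p :=
    (pInner_normalizerSystem_iff hJS hNsys p).1 (pInner_of_inner hpN (hN _ hNsys))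
  exact inner_of_pInner hS hF
    (thompson_pInner (isCharPFunctor_WJ p) hG (fun _ => quotFree p _) hS F hF hp hCZ hNW)

end Cfsg.Agent.Lib.Helper84_ThMain
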