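import Cfsg.Agent.Lib.Helper84_KLMain

/-!
# A Thompson-style reduction for saturated fusion systems (helper84)

Let `C` be a class of fusion systems (over subgroups of groups in one universe) such that
* (`norm`) if `F ∈ C` is saturated, `U ≠ 1` is fully normalized and the normalizer systems of all fully normalized
  `V ≠ 1` with `|N_S(V)| > |N_S(U)|` have only automorphisms of `p`-power order, then `N_F(U) ∈ C`;
* (`quot`) if `F ∈ C` is saturated, `1 ≠ U < S` is normal in `F` and the normalizer systems of all `V > U` normal in `S`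
  have only automorphisms of `p`-power order, then `F/U ∈ C`;
* (`constrained`) every saturated constrained member of `C` has only automorphisms of `p`-power order.
Then every saturated member of `C` has only automorphisms of `p`-power order (is the inner system).

The proof follows Thompson / Díaz–Glesser–Mazza–Park: choose `U ≠ 1` fully normalized with `N_F(U)` not inner, with
`|N_S(U)|` and then `|U|` as large as possible.
-/

set_option autoImplicit false

namespace Cfsg.Agent.Lib.Helper84_ThRed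

open Cfsg Cfsg.FusionSystem Cfsg.Agent.Lib Cfsg.Agent.Lib.Helper87_Alperin Cfsg.Agent.Lib.Helper87_Alperin2
  Cfsg.Agent.Lib.Helper87_Factor Cfsg.Agent.Lib.Helper87_Factor2
  Cfsg.Agent.Lib.Helper84_KLBasic Cfsg.Agent.Lib.Helper84_KLQuot Cfsg.Agent.Lib.Helper84_KLTransport
  Cfsg.Agent.Lib.Helper84_KLMain

universe u

/-- a bounded nonempty family has a member at which a numerical invariant is largest -/
theorem exists_max_of_bounded {α : Type*} (B : α → Prop) (f : α → ℕ) (M : ℕ) (hne : ∃ a, B a)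
    (hM : ∀ a, B a → f a ≤ M) : ∃ a, B a ∧ ∀ b, B b → f b ≤ f a := by
  classical
  obtain ⟨a₀, ha₀⟩ := hne
  have hP : ∃ a, B a ∧ f a = f a₀ := ⟨a₀, ha₀, rfl⟩
  have h1 := Nat.findGreatest_spec (P := fun k => ∃ a, B a ∧ f a = k) (hM a₀ ha₀) hP
  obtain ⟨a, ha, hfa⟩ := h1
  refine ⟨a, ha, fun b hb => ?_⟩
  rw [hfa]
  exact Nat.le_findGreatest (P := fun k => ∃ a, B a ∧ f a = k) (hM b hb) ⟨b, hb, rfl⟩

/-- the hypotheses on the class of systems -/
structure RedHyp (p : ℕ)
    (C : ∀ (Ω : Type u) [Group Ω] (S : Subgroup Ω), FusionSystem S → Prop) : Prop where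
  norm : ∀ (Ω : Type u) [Group Ω] (S : Subgroup Ω) [Finite S], IsPGroup p S → ∀ F : FusionSystem S,
    F.IsSaturated p → C Ω S F → ∀ U : Subgroup Ω, U ≠ ⊥ → F.IsFullyNormalized U →
    (∀ V : Subgroup Ω, V ≠ ⊥ → F.IsFullyNormalized V →
      Nat.card (normalizerIn S U) < Nat.card (normalizerIn S V) → NInner F V p) →
    ∀ N : FusionSystem (normalizerIn S U), F.IsNormalizerSystem U N → C Ω (normalizerIn S U) N
  quot : ∀ (Ω : Type u) [Group Ω] (S : Subgroup Ω) [Finite S], IsPGroup p S → ∀ F : FusionSystem S,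
    F.IsSaturated p → C Ω S F → ∀ U : Subgroup Ω, F.IsNormal U → U ≠ ⊥ → U < S →
    (∀ V : Subgroup Ω, U < V → V ≤ S → S ≤ Subgroup.normalizer (V : Set Ω) → NInner F V p) →
    ∀ (Ω' : Type u) [Group Ω'] (S' : Subgroup Ω') (θ : S →* Ω') (E : FusionSystem S'),
      F.IsFactorSystem U θ E → C Ω' S' E
  constrained : ∀ (Ω : Type u) [Group Ω] (S : Subgroup Ω) [Finite S], IsPGroup p S → ∀ F : FusionSystem S,
    F.IsSaturated p → C Ω S F → ∀ Q : Subgroup Ω, F.IsNormal Q → F.IsCentric Q → PInner F p

variable {p : ℕ} [Fact p.Prime] {C : ∀ (Ω : Type u) [Group Ω] (S : Subgroup Ω), FusionSystem S → Prop}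

/-- if some automorphism does not have `p`-power order, some normalizer system of a nontrivial fully normalized
subgroup has such an automorphism -/
theorem exists_bad {Ω : Type u} [Group Ω] {S : Subgroup Ω} [Finite S] (hS : IsPGroup p S) {F : FusionSystem S}
    (hF : F.IsSaturated p) (h : ¬ PInner F p) :
    ∃ U : Subgroup Ω, U ≠ ⊥ ∧ F.IsFullyNormalized U ∧ ¬ NInner F U p := by
  unfold PInner at h
  push Not at h
  obtain ⟨P, f, hf, hfP, hnp⟩ := h
  have hP : P ≠ ⊥ := by
    intro hP
    subst hP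
    apply hnp
    refine ⟨0, fun x hx => ?_⟩
    rw [Subgroup.mem_bot] at hx
    subst hx
    simpa using hf.map_one
  obtain ⟨V, hVfn, hVne, -, hVtr⟩ := exists_fullyNormalized_transport (p := p) hS hF hf.le
  refine ⟨V, hVne hP, hVfn, fun hV => hnp ?_⟩
  have hNP : NInner F P p := hVtr hV
  have hPN : P ≤ normalizerIn S P := Helper87_Alperin.le_normalizerIn hf.le
  exact hNP P f ⟨hf, hPN, fun x hx => hPN (hfP x hx), P, f, le_rfl, le_rfl, hf, fun _ _ => rfl, hfP⟩ hfP

/-- **The reduction theorem.** -/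
theorem main (hC : RedHyp p C) : ∀ n : ℕ, ∀ (Ω : Type u) [Group Ω] (S : Subgroup Ω) [Finite S],
    Nat.card S = n → IsPGroup p S → ∀ F : FusionSystem S, F.IsSaturated p → C Ω S F → PInner F p := by
  intro n
  induction n using Nat.strong_induction_on with
  | _ n IH =>
  intro Ω _ S _ hcard hS F hF hCF
  by_contra hnot
  -- the bad subgroups
  let B : Subgroup Ω → Prop := fun U => U ≠ ⊥ ∧ F.IsFullyNormalized U ∧ ¬ NInner F U p
  have hBne : ∃ U, B U := exists_bad hS hF hnot
  have hNle : ∀ U : Subgroup Ω, Nat.card (normalizerIn S U) ≤ n := fun U =>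
    hcard ▸ Helper84_FusionAlperin.card_le_card_S inf_le_left
  obtain ⟨U₁, hU₁B, hU₁max⟩ := exists_max_of_bounded B (fun U => Nat.card (normalizerIn S U)) n hBne
    (fun U _ => hNle U)
  obtain ⟨hU₁ne, hU₁fn, hU₁bad⟩ := hU₁B
  have hbig : ∀ V : Subgroup Ω, V ≠ ⊥ → F.IsFullyNormalized V →
      Nat.card (normalizerIn S U₁) < Nat.card (normalizerIn S V) → NInner F V p := by
    intro V hVne hVfn hlt
    by_contra hV
    exact absurd (hU₁max V ⟨hVne, hVfn, hV⟩) (not_le.2 hlt)
  -- the normalizer of `U₁` is `S`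
  have hT₁ : normalizerIn S U₁ = S := by
    by_contra hT
    have hTS : normalizerIn S U₁ ≤ S := inf_le_left
    have hTlt : normalizerIn S U₁ < S := lt_of_le_of_ne hTS hT
    have hcardT : Nat.card (normalizerIn S U₁) < n :=
      hcard ▸ Helper84_FusionAlperin.card_lt_card_of_lt le_rfl hTlt
    have hfinT : Finite (normalizerIn S U₁) := Helper84_FusionRS.finite_of_le_S hTS
    have hpT : IsPGroup p (normalizerIn S U₁) := hS.to_le hTS
    have hE := Helper85_Fusion.normalizerSystem_isNormalizerSystem F U₁ hU₁fn.1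
    have hEsat : (Helper85_Fusion.normalizerSystem F U₁ hU₁fn.1).IsSaturated p :=
      Cfsg.Agent.S5098.result p hS F hF U₁ hU₁fn _ hE
    have hCE := hC.norm Ω S hS F hF hCF U₁ hU₁ne hU₁fn hbig _ hE
    have := IH _ hcardT Ω (normalizerIn S U₁) rfl hpT _ hEsat hCE
    exact hU₁bad ((pInner_normalizerSystem_iff hU₁fn.1 hE p).1 this)
  -- among the bad subgroups normal in `S` choose a largest one
  let B₁ : Subgroup Ω → Prop := fun U => B U ∧ normalizerIn S U = S
  have hB₁ne : ∃ U, B₁ U := ⟨U₁, ⟨hU₁ne, hU₁fn, hU₁bad⟩, hT₁⟩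
  obtain ⟨U, hUB₁, hUmax⟩ := exists_max_of_bounded B₁ (fun U => Nat.card U) n hB₁ne
    (fun U hU => hcard ▸ Helper84_FusionAlperin.card_le_card_S hU.1.2.1.1)
  obtain ⟨⟨hUne, hUfn, hUbad⟩, hT⟩ := hUB₁
  have hUS : U ≤ S := hUfn.1
  have hTS : normalizerIn S U ≤ S := inf_le_left
  have hfinT : Finite (normalizerIn S U) := Helper84_FusionRS.finite_of_le_S hTS
  have hpT : IsPGroup p (normalizerIn S U) := hS.to_le hTS
  have hcardT : Nat.card (normalizerIn S U) = n := by rw [hT]; exact hcard
  have hE := Helper85_Fusion.normalizerSystem_isNormalizerSystem F U hUS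
  set F₁ := Helper85_Fusion.normalizerSystem F U hUS with hF₁
  have hF₁sat : F₁.IsSaturated p := Cfsg.Agent.S5098.result p hS F hF U hUfn _ hE
  have hF₁n : F₁.IsNormal U := Helper88_Model.isNormal_of_isNormalizerSystem F hUS _ hE
  have hsub := isMapOn_of_normalizerSystem hE
  have hCF₁ : C Ω (normalizerIn S U) F₁ := by
    refine hC.norm Ω S hS F hF hCF U hUne hUfn (fun V _ _ hlt => ?_) _ hE
    exact absurd (hNle V) (not_le.2 (hcardT ▸ hlt))
  apply hUbad
  rw [← pInner_normalizerSystem_iff hUS hE p]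
  by_cases hUT : U = normalizerIn S U
  · -- `S` is normal and centric
    have hSn : F₁.IsNormal (normalizerIn S U) :=
      (congrArg (fun X => F₁.IsNormal X) hUT).mp hF₁n
    have hfc := Helper84_FusionRS.IsSaturated.isFullyCentralized hpT hF₁sat
      (Helper84_FusionAlperin.isFullyNormalized_S F₁)
    have hSc : F₁.IsCentric (normalizerIn S U) :=
      Helper84_FusionEssential.isCentric_of_centralizerIn_le F₁ hfc inf_le_left
    exact hC.constrained Ω _ hpT F₁ hF₁sat hCF₁ _ hSn hSc
  · have hUT' : U ≤ normalizerIn S U := Helper87_Alperin.le_normalizerIn hUS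
    have hUlt : U < normalizerIn S U := lt_of_le_of_ne hUT' hUT
    have hUsc : F₁.StronglyClosed U := Helper84_FusionNormal.IsNormal.stronglyClosed hF₁n
    have hTU : normalizerIn S U ≤ Subgroup.normalizer (U : Set Ω) := inf_le_right
    have hUnormal : (U.subgroupOf (normalizerIn S U)).Normal :=
      (Subgroup.normal_subgroupOf_iff_le_normalizer hUT').2 hTU
    obtain ⟨E, hEf⟩ := Cfsg.Agent.S5132.result p hpT F₁ U hUsc
    have hEsat : E.IsSaturated p :=
      Cfsg.Agent.S5133.result p hpT F₁ hF₁sat E _ (Cfsg.Agent.S5134.result p hpT F₁ hF₁sat U hUsc _ E hEf)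
    have hfinU : Finite U := Helper84_FusionRS.finite_of_le_S hUS
    have hpS' : IsPGroup p (⊤ : Subgroup (normalizerIn S U ⧸ U.subgroupOf (normalizerIn S U))) :=
      (hpT.to_quotient _).to_subgroup ⊤
    have hcardU : 1 < Nat.card U := by
      rw [Finite.one_lt_card_iff_nontrivial]
      exact (Subgroup.nontrivial_iff_ne_bot U).2 hUne
    have hcardquot : Nat.card (normalizerIn S U ⧸ U.subgroupOf (normalizerIn S U)) * Nat.card U = n := by
      have h1 := Subgroup.card_eq_card_quotient_mul_card_subgroup (U.subgroupOf (normalizerIn S U))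
      have h2 : Nat.card (U.subgroupOf (normalizerIn S U)) = Nat.card U :=
        Nat.card_congr (Subgroup.subgroupOfEquivOfLe hUT').toEquiv
      rw [← hcardT, h1, h2]
    have hcardS' : Nat.card (⊤ : Subgroup (normalizerIn S U ⧸ U.subgroupOf (normalizerIn S U))) < n := by
      rw [Subgroup.card_top]
      have hpos : 0 < Nat.card (normalizerIn S U ⧸ U.subgroupOf (normalizerIn S U)) := Nat.card_pos
      nlinarith
    have hCE : C _ ⊤ E := by
      refine hC.quot Ω _ hpT F₁ hF₁sat hCF₁ U hF₁n hUne hUlt (fun V hUV hVT hVn => ?_) _ _ _ E hEf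
      -- `V` is normal in `S` and larger than `U`
      have hVS : V ≤ S := hVT.trans hTS
      have hVn' : S ≤ Subgroup.normalizer (V : Set Ω) := by rw [← hT]; exact hVn
      have hNV : normalizerIn S V = S := le_antisymm inf_le_left (le_inf le_rfl hVn')
      have hVfn : F.IsFullyNormalized V := by
        refine ⟨hVS, fun V' _ => ?_⟩
        rw [hNV]
        exact Helper84_FusionAlperin.card_le_card_S inf_le_left
      have hVne : V ≠ ⊥ := fun h => hUne (le_bot_iff.1 (h ▸ hUV.le))
      have hcardV : Nat.card U < Nat.card V := Helper84_FusionAlperin.card_lt_card_of_lt hVS hUV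
      have hV : NInner F V p := by
        by_contra hV
        exact absurd (hUmax V ⟨⟨hVne, hVfn, hV⟩, hNV⟩) (not_le.2 hcardV)
      exact NInner.of_subsystem hTS hsub hV
    have hEp : PInner E p := IH _ hcardS' _ ⊤ rfl hpS' E hEsat hCE
    obtain ⟨hn1, hc1⟩ := isNormal_isCentric_sup_centralizerIn hpT hF₁sat hF₁n hEf hEp
    exact hC.constrained Ω _ hpT F₁ hF₁sat hCF₁ _ hn1 hc1

end Cfsg.Agent.Lib.Helper84_ThRed
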