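import Mathlib

/-!
# Fixed points of a subgroup of index prime to `p` (helper84)

Let a finite group `A` act on an abelian `p`-group `V` and let `T ≤ A` have index prime to `p`. Then the fixed points
of `A` are a direct factor of the fixed points of `T`: the kernel of the trace map `v ↦ ∏_{aT} a v` is a complement.
-/

set_option autoImplicit false

namespace Cfsg.Agent.Lib.Helper84_TraceSplit

variable {V : Type*} [CommGroup V] {A : Type*} [Group A]

/-- the points fixed by a subgroup -/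
def fixedBy (ρ : A →* MulAut V) (T : Subgroup A) : Subgroup V where
  carrier := {v | ∀ t ∈ T, ρ t v = v}
  one_mem' := fun t _ => map_one _
  mul_mem' := by
    intro a b ha hb t ht
    rw [map_mul, ha t ht, hb t ht]
  inv_mem' := by
    intro a ha t ht
    rw [map_inv, ha t ht]

theorem mem_fixedBy {ρ : A →* MulAut V} {T : Subgroup A} {v : V} :
    v ∈ fixedBy ρ T ↔ ∀ t ∈ T, ρ t v = v := Iff.rfl

theorem fixedBy_top_le (ρ : A →* MulAut V) (T : Subgroup A) : fixedBy ρ ⊤ ≤ fixedBy ρ T :=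
  fun _ hv t _ => hv t (Subgroup.mem_top t)

/-- the trace -/
noncomputable def tr (ρ : A →* MulAut V) (T : Subgroup A) (v : V) : V :=
  ∏ᶠ q : A ⧸ T, ρ q.out v

variable [Finite A]

theorem tr_mul (ρ : A →* MulAut V) (T : Subgroup A) (v w : V) : tr ρ T (v * w) = tr ρ T v * tr ρ T w := by
  unfold tr
  rw [← finprod_mul_distrib (Set.toFinite _) (Set.toFinite _)]
  exact finprod_congr fun q => map_mul _ _ _

omit [Finite A] in
theorem tr_one (ρ : A →* MulAut V) (T : Subgroup A) : tr ρ T 1 = 1 := by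
  unfold tr
  simp

theorem tr_inv (ρ : A →* MulAut V) (T : Subgroup A) (v : V) : tr ρ T v⁻¹ = (tr ρ T v)⁻¹ := by
  have h := tr_mul ρ T v v⁻¹
  rw [mul_inv_cancel, tr_one] at h
  exact eq_inv_of_mul_eq_one_right h.symm

theorem tr_of_fixed (ρ : A →* MulAut V) (T : Subgroup A) {v : V} (hv : v ∈ fixedBy ρ ⊤) :
    tr ρ T v = v ^ T.index := by
  classical
  let _ := Fintype.ofFinite (A ⧸ T)
  unfold tr
  rw [finprod_eq_prod_of_fintype]
  have h1 : ∀ q : A ⧸ T, ρ q.out v = v := fun q => hv _ (Subgroup.mem_top _)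
  rw [Finset.prod_congr rfl (fun q _ => h1 q), Finset.prod_const, Finset.card_univ, Subgroup.index,
    Nat.card_eq_fintype_card]

theorem tr_mem_fixed (ρ : A →* MulAut V) (T : Subgroup A) {v : V} (hv : v ∈ fixedBy ρ T) :
    tr ρ T v ∈ fixedBy ρ ⊤ := by
  intro a _
  unfold tr
  show (ρ a).toMonoidHom (∏ᶠ q : A ⧸ T, ρ q.out v) = _
  rw [MonoidHom.map_finprod _ (Set.toFinite _)]
  have h1 : ∀ q : A ⧸ T, (ρ a).toMonoidHom (ρ q.out v) = ρ ((a • q).out) v := by
    intro q
    have h2 : a • q = ((a * q.out : A) : A ⧸ T) := by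
      conv_lhs => rw [← QuotientGroup.out_eq' q]
      rfl
    obtain ⟨t, ht⟩ := QuotientGroup.mk_out_eq_mul T (a * q.out)
    rw [h2, ht, map_mul ρ, map_mul ρ]
    show ρ a (ρ q.out v) = ρ a (ρ q.out (ρ (t : A) v))
    rw [hv _ t.2]
  rw [finprod_congr h1]
  exact finprod_comp_equiv (MulAction.toPerm a) (f := fun q : A ⧸ T => ρ q.out v)

/-- the fixed points of `A` are a direct factor of the fixed points of `T` -/
theorem exists_complement (ρ : A →* MulAut V) (T : Subgroup A) (p : ℕ) [Fact p.Prime]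
    (hidx : ¬ p ∣ T.index) (hV : IsPGroup p V) :
    ∃ K : Subgroup V, K ≤ fixedBy ρ T ∧ fixedBy ρ ⊤ ⊓ K = ⊥ ∧ fixedBy ρ ⊤ ⊔ K = fixedBy ρ T := by
  have hp : p.Prime := Fact.out
  let K : Subgroup V :=
    { carrier := {v | v ∈ fixedBy ρ T ∧ tr ρ T v = 1}
      one_mem' := ⟨Subgroup.one_mem _, tr_one ρ T⟩
      mul_mem' := by
        rintro a b ⟨ha, ha'⟩ ⟨hb, hb'⟩
        exact ⟨Subgroup.mul_mem _ ha hb, by rw [tr_mul, ha', hb', one_mul]⟩
      inv_mem' := by
        rintro a ⟨ha, ha'⟩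
        exact ⟨Subgroup.inv_mem _ ha, by rw [tr_inv, ha', inv_one]⟩ }
  have hcop : ∀ v : V, (T.index).Coprime (orderOf v) := by
    intro v
    obtain ⟨k, hk⟩ := hV v
    have h1 : orderOf v ∣ p ^ k := orderOf_dvd_of_pow_eq_one hk
    have h2 : (T.index).Coprime (p ^ k) := ((hp.coprime_iff_not_dvd.2 hidx).pow_left k).symm
    exact h2.coprime_dvd_right h1
  refine ⟨K, fun v hv => hv.1, ?_, ?_⟩
  · rw [eq_bot_iff]
    rintro v ⟨hvA, -, hvK⟩
    rw [tr_of_fixed ρ T hvA] at hvK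
    have h1 : orderOf v ∣ T.index := orderOf_dvd_of_pow_eq_one hvK
    have h2 : orderOf v = 1 := Nat.eq_one_of_dvd_coprimes (hcop v) h1 dvd_rfl
    exact orderOf_eq_one_iff.1 h2
  · apply le_antisymm
    · exact sup_le (fixedBy_top_le ρ T) (fun v hv => hv.1)
    · intro v hv
      set c := tr ρ T v with hc
      have hcA : c ∈ fixedBy ρ ⊤ := tr_mem_fixed ρ T hv
      obtain ⟨n, hn⟩ := exists_pow_eq_self_of_coprime (hcop c)
      have hc'A : c ^ n ∈ fixedBy ρ ⊤ := Subgroup.pow_mem _ hcA n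
      have h1 : v = c ^ n * (v * (c ^ n)⁻¹) := by
        rw [mul_comm v, mul_inv_cancel_left]
      rw [h1]
      refine Subgroup.mul_mem_sup hc'A ⟨Subgroup.mul_mem _ hv (Subgroup.inv_mem _ (fixedBy_top_le ρ T hc'A)), ?_⟩
      rw [tr_mul, tr_inv, tr_of_fixed ρ T hc'A, ← hc, ← pow_mul, mul_comm n, pow_mul, hn, mul_inv_cancel]

end Cfsg.Agent.Lib.Helper84_TraceSplit
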