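import Mathlib
import Cfsg.Agent.Lib.Helper68_AutUMat
import Cfsg.Agent.Lib.Helper68_StSp
import Cfsg.Agent.Lib.Helper9_StOo_TORUS

set_option autoImplicit false
set_option linter.unusedSectionVars false
set_option linter.unusedVariables false

/-!
# S4613 package PSP (architect helper68): `AutUTrivial p (PSp m F)`, `m ≥ 2`.
`autU_of_matgrp` with `Helper68_StSp.spRDat`.
-/

namespace Cfsg.Agent.Lib.Helper85_AutU_PSP

open Cfsg Cfsg.Agent.Lib.Helper68_AutU
open Matrix Cfsg.Agent.Lib.Helper68_MatGrp Cfsg.Agent.Lib.Helper5_SpPerfect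
  Cfsg.Agent.Lib.Helper68_StSpDefs Cfsg.Agent.Lib.Helper68_StSp Cfsg.Agent.Lib.Helper44_SpUT
  Cfsg.Agent.Lib.Helper44_PSLnUT

section facts

variable {m : ℕ} {F : Type*} [Field F]

theorem h85_phi_inj : Function.Injective (φ m F) := Subtype.val_injective

/-- the unitriangular group of helper44 consists of unitriangular elements -/
theorem h85_USp_le_UU : USp m F ≤ UU (φ m F) (ht m) (ht_injective m) := by
  intro g hg
  refine ⟨Cfsg.Agent.Lib.Helper2_StSp_CARDB.USp_le_Bsp hg, ?_⟩
  obtain ⟨h21, hUT⟩ := hg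
  rintro (i | i)
  · exact hUT.2 i
  · show g.1.toBlocks₂₂ i i = 1
    rw [Cfsg.Agent.Lib.Helper2_StSp_CARDB.toBlocks22_eq h21, Matrix.transpose_apply]
    exact hUT.inv.2 i

/-- (1) the diagonal part of a triangular element -/
theorem h85_hdiag (b : ↥(symplecticGroup (Fin m) F)) (hb : b ∈ UT (φ m F) (ht m)) :
    ∃ t ∈ Diag (φ m F), ∀ a, φ m F t a a = φ m F b a a := by
  obtain ⟨t, htT, hu⟩ := Cfsg.Agent.Lib.Helper2_StSp_CARDB.exists_Tsp_mul (b := b) hb
  refine ⟨t, htT, fun a => ?_⟩
  have hU := h85_USp_le_UU hu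
  have htU : t ∈ UT (φ m F) (ht m) := Diag_le_UT (φ m F) (ht m) htT
  have h1 := UT_mul_apply_self (φ m F) (ht m) (ht_injective m) htU hU.1 a
  have e : t * (t⁻¹ * b) = b := by group
  rw [e, hU.2 a, mul_one] at h1
  exact h1.symm

theorem h85_xL_diag (i k : Fin m) (hik : i ≠ k) (t : F) (a : Fin m ⊕ Fin m) :
    (xL i k hik t).1 a a = 1 := by
  rw [xL_val]
  rcases a with a | a
  · rw [Matrix.fromBlocks_apply₁₁, Matrix.add_apply, Matrix.one_apply_eq, Matrix.single_apply]
    rw [if_neg]
    · rw [add_zero]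
    · rintro ⟨h1, h2⟩
      exact hik (h1.trans h2.symm)
  · rw [Matrix.fromBlocks_apply₂₂, Matrix.sub_apply, Matrix.one_apply_eq, Matrix.single_apply]
    rw [if_neg]
    · rw [sub_zero]
    · rintro ⟨h1, h2⟩
      exact hik (h2.trans h1.symm)

theorem h85_xX_diag (i : Fin m) (t : F) (a : Fin m ⊕ Fin m) : (xX i t).1 a a = 1 := by
  rw [xX_val]
  rcases a with a | a
  · rw [Matrix.fromBlocks_apply₁₁, Matrix.one_apply_eq]
  · rw [Matrix.fromBlocks_apply₂₂, Matrix.one_apply_eq]

theorem h85_xL_mem_UU (i k : Fin m) (hlt : i < k) (hik : i ≠ k) (t : F) :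
    xL i k hik t ∈ UU (φ m F) (ht m) (ht_injective m) :=
  ⟨xL_mem_Bsp i k hlt hik t, fun a => h85_xL_diag i k hik t a⟩

theorem h85_xX_mem_UU (i : Fin m) (t : F) : xX i t ∈ UU (φ m F) (ht m) (ht_injective m) :=
  ⟨xX_mem_Bsp i t, fun a => h85_xX_diag i t a⟩

/-- (3) the root subgroups are unitriangular -/
theorem h85_X_le (j : Fin m) : Us (F := F) j ≤ UU (φ m F) (ht m) (ht_injective m) := by
  rintro _ ⟨t, rfl⟩
  by_cases h : j.val + 1 < m
  · rw [xs_of_lt j h]
    exact h85_xL_mem_UU _ _ (by rw [Fin.lt_def]; simp) _ t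
  · rw [xs_of_not_lt j h]
    exact h85_xX_mem_UU j t

/-- the permutations of the distinguished generators -/
def h85_sig (m : ℕ) (i : Fin m) : Equiv.Perm (Fin m ⊕ Fin m) :=
  if h : i.val + 1 < m then
    Equiv.sumCongr (Equiv.swap i ⟨i.val + 1, h⟩) (Equiv.swap i ⟨i.val + 1, h⟩)
  else Equiv.swap (Sum.inl i) (Sum.inr i)

/-- (4) -/
theorem h85_isMono (i : Fin m) :
    IsMono (φ m F) (ss i : ↥(symplecticGroup (Fin m) F)) (h85_sig m i) := by
  unfold h85_sig
  by_cases h : i.val + 1 < m
  · rw [dif_pos h, ss_of_lt i h]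
    exact wL_isMono _ _
  · rw [dif_neg h, ss_of_not_lt i h]
    exact wX_isMono _

theorem h85_swap_val (i k j : Fin m) (hk : k.val = i.val + 1) :
    (Equiv.swap i k j).val ≤ j.val + 1 ∧ j.val ≤ (Equiv.swap i k j).val + 1 := by
  rw [Equiv.swap_apply_def]
  split_ifs with h1 h2
  · subst h1; omega
  · subst h2; omega
  · omega

theorem h85_adj (i : Fin m) (a : Fin m ⊕ Fin m) :
    ht m (h85_sig m i a) ≤ ht m a + 1 ∧ ht m a ≤ ht m (h85_sig m i a) + 1 := by
  unfold h85_sig
  by_cases h : i.val + 1 < m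
  · rw [dif_pos h]
    have hs := h85_swap_val i ⟨i.val + 1, h⟩
    rcases a with j | j
    · simp only [Equiv.sumCongr_apply, Sum.map_inl, ht_inl]
      exact hs j rfl
    · simp only [Equiv.sumCongr_apply, Sum.map_inr, ht_inr]
      have := hs j rfl
      have := j.2
      have := (Equiv.swap i ⟨i.val + 1, h⟩ j).2
      omega
  · rw [dif_neg h]
    have hi := i.2
    rw [Equiv.swap_apply_def]
    split_ifs with h1 h2
    · subst h1
      simp only [ht_inl, ht_inr]
      omega
    · subst h2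
      simp only [ht_inl, ht_inr]
      omega
    · omega

/-- (5) -/
theorem h85_conv (i : Fin m) : InvConvex (ht m) (h85_sig m i) :=
  invConvex_of_adjacent (ht m) (ht_injective m) (h85_sig m i) (h85_adj i)

/-- an inversion of a permutation moving the heights by at most one is a swapped adjacent pair -/
theorem h85_inv_swap (i : Fin m) {a b : Fin m ⊕ Fin m} (h : IsInv (ht m) (h85_sig m i) a b) :
    h85_sig m i a = b ∧ ht m b = ht m a + 1 := by
  obtain ⟨h1, h2⟩ := h
  have ha := h85_adj i a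
  have hb := h85_adj i b
  have e1 : ht m (h85_sig m i a) = ht m b := by omega
  exact ⟨ht_injective m e1, by omega⟩

theorem h85_single_apply_ne (i k a b : Fin m) (t : F) (h : ¬ (i = a ∧ k = b)) :
    (single i k t : Matrix (Fin m) (Fin m) F) a b = 0 := by
  rw [Matrix.single_apply, if_neg h]

/-- (6) the root elements of the other simple roots vanish at the inversions -/
theorem h85_hX (i j : Fin m) (hji : j ≠ i) (x : ↥(symplecticGroup (Fin m) F)) (hx : x ∈ Us j)
    (a b : Fin m ⊕ Fin m) (hab : IsInv (ht m) (h85_sig m i) a b) : φ m F x a b = 0 := by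
  obtain ⟨t, rfl⟩ := hx
  obtain ⟨hσ, hht⟩ := h85_inv_swap i hab
  have hne : a ≠ b := fun e => by rw [e] at hht; omega
  show (xs j t).1 a b = 0
  have hi := i.2
  have hj := j.2
  unfold h85_sig at hσ
  by_cases h : i.val + 1 < m
  · rw [dif_pos h] at hσ
    -- `σ = (e_i e_{i+1})(f_i f_{i+1})`
    by_cases h' : j.val + 1 < m
    · rw [xs_of_lt j h', xL_val]
      rcases a with a | a <;> rcases b with b | b
      · rw [Matrix.fromBlocks_apply₁₁, Matrix.add_apply, Matrix.one_apply_ne (fun e => hne (by rw [e]))]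
        rw [h85_single_apply_ne, add_zero]
        rintro ⟨rfl, rfl⟩
        simp only [Equiv.sumCongr_apply, Sum.map_inl, Sum.inl.injEq] at hσ
        simp only [ht_inl] at hht
        rw [Equiv.swap_apply_def] at hσ
        split_ifs at hσ with e1 e2
        · exact hji e1
        · have e3 : j.val = i.val + 1 := congrArg Fin.val e2
          have e4 : i.val = j.val + 1 := congrArg Fin.val hσ
          omega
        · have e4 : j.val = j.val + 1 := congrArg Fin.val hσ
          omega
      · rfl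
      · rfl
      · rw [Matrix.fromBlocks_apply₂₂, Matrix.sub_apply, Matrix.one_apply_ne (fun e => hne (by rw [e]))]
        rw [h85_single_apply_ne, sub_zero]
        rintro ⟨rfl, rfl⟩
        simp only [Equiv.sumCongr_apply, Sum.map_inr, Sum.inr.injEq] at hσ
        simp only [ht_inr] at hht
        rw [Equiv.swap_apply_def] at hσ
        split_ifs at hσ with e1 e2
        · have e3 : j.val + 1 = i.val := congrArg Fin.val e1
          have e4 : i.val + 1 = j.val := congrArg Fin.val hσ
          omega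
        · have e3 : j.val + 1 = i.val + 1 := congrArg Fin.val e2
          exact hji (Fin.ext (by omega))
        · have e4 : j.val + 1 = j.val := congrArg Fin.val hσ
          omega
    · rw [xs_of_not_lt j h', xX_val]
      rcases a with a | a <;> rcases b with b | b
      · rw [Matrix.fromBlocks_apply₁₁, Matrix.one_apply_ne (fun e => hne (by rw [e]))]
      · simp only [Equiv.sumCongr_apply, Sum.map_inl] at hσ
        exact absurd hσ (by simp)
      · rfl
      · rw [Matrix.fromBlocks_apply₂₂, Matrix.one_apply_ne (fun e => hne (by rw [e]))]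
  · rw [dif_neg h] at hσ
    -- `σ = (e_i f_i)`, `i = m - 1`
    have hab' : a = Sum.inl i ∧ b = Sum.inr i := by
      rw [Equiv.swap_apply_def] at hσ
      split_ifs at hσ with e1 e2
      · exact ⟨e1, hσ.symm⟩
      · subst e2
        subst hσ
        simp only [ht_inl, ht_inr] at hht
        omega
      · exact absurd hσ hne
    obtain ⟨rfl, rfl⟩ := hab'
    by_cases h' : j.val + 1 < m
    · rw [xs_of_lt j h', xL_val]
      rfl
    · rw [xs_of_not_lt j h', xX_val, Matrix.fromBlocks_apply₁₂, h85_single_apply_ne]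
      rintro ⟨e, -⟩
      exact hji e

/-- (7) a diagonal element centralising the unitriangular elements has constant diagonal -/
theorem h85_torus (hm : 0 < m) (t : ↥(symplecticGroup (Fin m) F)) (htD : t ∈ Diag (φ m F))
    (hc : ∀ u ∈ UU (φ m F) (ht m) (ht_injective m), t * u = u * t) (a b : Fin m ⊕ Fin m) :
    φ m F t a a = φ m F t b b := by
  have key : ∀ a : Fin m ⊕ Fin m, φ m F t a a = φ m F t (Sum.inl ⟨0, hm⟩) (Sum.inl ⟨0, hm⟩) := by
    have hl : ∀ k : Fin m, φ m F t (Sum.inl k) (Sum.inl k) =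
        φ m F t (Sum.inl ⟨0, hm⟩) (Sum.inl ⟨0, hm⟩) := by
      intro k
      by_cases hk : (⟨0, hm⟩ : Fin m) = k
      · rw [← hk]
      · have hlt : (⟨0, hm⟩ : Fin m) < k := by
          rw [Fin.lt_def]
          have : (⟨0, hm⟩ : Fin m).val ≠ k.val := fun e => hk (Fin.ext e)
          simp only at this ⊢
          omega
        have hu := h85_xL_mem_UU (F := F) ⟨0, hm⟩ k hlt hk 1
        refine (diag_eq_of_commute (φ m F) htD (hc _ hu) (Sum.inl ⟨0, hm⟩) (Sum.inl k) ?_).symm
        show (xL ⟨0, hm⟩ k hk (1 : F)).1 (Sum.inl ⟨0, hm⟩) (Sum.inl k) ≠ 0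
        rw [xL_apply_inl]
        exact one_ne_zero
    rintro (k | k)
    · exact hl k
    · rw [← hl k]
      have hu := h85_xX_mem_UU (F := F) k 1
      refine (diag_eq_of_commute (φ m F) htD (hc _ hu) (Sum.inl k) (Sum.inr k) ?_).symm
      show (xX k (1 : F)).1 (Sum.inl k) (Sum.inr k) ≠ 0
      rw [xX_val, Matrix.fromBlocks_apply₁₂, Matrix.single_apply_same]
      exact one_ne_zero
  rw [key a, key b]

/-- (8) `J` reverses the heights -/
theorem h85_rev (a c : Fin m ⊕ Fin m) (hac : ht m a < ht m c) :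
    ht m (Equiv.sumComm (Fin m) (Fin m) c) < ht m (Equiv.sumComm (Fin m) (Fin m) a) := by
  show ht m (Sum.swap c) < ht m (Sum.swap a)
  rw [ht_swap, ht_swap]
  have := ht_lt m a
  have := ht_lt m c
  omega

end facts

theorem autU_psp {F : Type} [Field F] [Fintype F] {p : ℕ} [Fact p.Prime] [CharP F p] (m : ℕ) (hm : 2 ≤ m) :
    AutUTrivial p (PSp m F) := by
  have hm0 : 0 < m := by omega
  have hfin : Finite ↥(symplecticGroup (Fin m) F) := Subtype.finite
  exact autU_of_matgrp (φ m F) h85_phi_inj (ht m) (ht_injective m) (spRDat (F := F) hm0) rfl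
    Bsp_inf_Nsp h85_hdiag
    (Cfsg.Agent.Lib.Helper9_StOo_TORUS.not_dvd_card_Diag (φ m F) h85_phi_inj p)
    h85_X_le (h85_sig m) h85_isMono h85_conv h85_hX (h85_torus hm0)
    (SymplecticGroup.symJ (Fin m) F) (Equiv.sumComm (Fin m) (Fin m)) symJ_isMono h85_rev

end Cfsg.Agent.Lib.Helper85_AutU_PSP
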