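import Cfsg.Agent.Lib.Helper85_ConstrainedNormal

/-!
# Normal subsystems of the fusion system of a constrained group, II (helper85)

The setting: `G` finite with `C_G(O_p(G)) ≤ O_p(G)`, `S` a Sylow `p`-subgroup, `E` a normal subsystem of
`F_S(G)` over `T`.  With `Q = O_p(G)` and `Q₀ = T ∩ Q` (a normal subgroup of `G`) we define
`B = {g ∈ C_G(Q/Q₀) : c_g|_{Q₀} ∈ Aut_E(Q₀)}`, a normal subgroup of `G` containing `T`, and show
`S ∩ B ⊆ T Q` and `[x, b] ∈ T` for `x ∈ S ∩ B`, `b ∈ B` with `x^b ∈ S`.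
-/

set_option autoImplicit false

namespace Cfsg.Agent.Lib.Helper85_ConstrainedNormal

open Cfsg Cfsg.FusionSystem Cfsg.Agent.Lib.Helper87_Alperin Cfsg.Agent.Lib.Helper88_Centric
  Cfsg.Agent.Lib.Helper84_FusionRS Cfsg.Agent.Lib.Helper85_StableSub

variable {G : Type*} [Group G]

/-- The setting. -/
structure Setting (p : ℕ) [Fact p.Prime] (S : Sylow p G) (T : Subgroup G) (E : FusionSystem T) : Prop where
  hG : Subgroup.centralizer ((pCore p G : Subgroup G) : Set G) ≤ pCore p G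
  hTS : T ≤ S
  hE : E.IsNormalIn (groupFusionSystem (S : Subgroup G)) p

/-- `g` centralizes `O_p(G)` modulo `T ∩ O_p(G)`. -/
def InCQ (p : ℕ) (T : Subgroup G) (g : G) : Prop :=
  ∀ q ∈ pCore p G, g * q * g⁻¹ * q⁻¹ ∈ T ⊓ pCore p G

/-- `g` centralizes `O_p(G)` modulo `T ∩ O_p(G)` and induces on `T ∩ O_p(G)` a map of `E`. -/
def InBQ (p : ℕ) {T : Subgroup G} (E : FusionSystem T) (g : G) : Prop :=
  InCQ p T g ∧ IsMapOn E (T ⊓ pCore p G) (fun x => g * x * g⁻¹)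

theorem Q_le {p : ℕ} [Fact p.Prime] (S : Sylow p G) : pCore p G ≤ S :=
  Helper1_Cores.pCore_le_sylow p S

theorem Q_conj {p : ℕ} {g q : G} (hq : q ∈ pCore p G) : g * q * g⁻¹ ∈ pCore p G :=
  (Helper1_Cores.pCore_normal p).conj_mem q hq g

theorem Q_conj' {p : ℕ} {g q : G} (hq : q ∈ pCore p G) : g⁻¹ * q * g ∈ pCore p G := by
  have := Q_conj (g := g⁻¹) hq
  rwa [inv_inv] at this

namespace Setting

variable {p : ℕ} [Fact p.Prime] {S : Sylow p G} {T : Subgroup G} {E : FusionSystem T}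

theorem hsub (h : Setting p S T E) : E.IsSubsystemOf (groupFusionSystem (S : Subgroup G)) := h.hE.1.2.2.1

theorem hsc (h : Setting p S T E) : (groupFusionSystem (S : Subgroup G)).StronglyClosed T :=
  h.hE.1.2.2.2.1

theorem hinv (h : Setting p S T E) : E.IsInvariantIn (groupFusionSystem (S : Subgroup G)) := h.hE.1.2.2

theorem hEsat (h : Setting p S T E) : E.IsSaturated p := h.hE.1.1

theorem hTp (h : Setting p S T E) : IsPGroup p T := S.isPGroup'.to_le h.hTS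

variable [Finite G]

/-- `T` is strongly closed in `S` with respect to `G`, elementwise. -/
theorem conj_mem_T (h : Setting p S T E) {t g : G} (ht : t ∈ T) (hg : g * t * g⁻¹ ∈ (S : Subgroup G)) :
    g * t * g⁻¹ ∈ T := by
  have hR : Subgroup.zpowers t ≤ T := (Subgroup.zpowers_le).2 ht
  have hφ : conjHom (Subgroup.zpowers t) g ∈
      (groupFusionSystem (S : Subgroup G)).Hom (Subgroup.zpowers t) := by
    refine ⟨hR.trans h.hTS, fun x => ?_, g, fun x => rfl⟩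
    obtain ⟨k, hk⟩ := Subgroup.mem_zpowers_iff.1 x.2
    show g * (x : G) * g⁻¹ ∈ (S : Subgroup G)
    rw [← hk, ← conj_zpow]
    exact Subgroup.zpow_mem _ hg k
  exact h.hsc.2 _ hR _ hφ ⟨t, Subgroup.mem_zpowers t⟩

theorem normal_T (h : Setting p S T E) {s t : G} (hs : s ∈ (S : Subgroup G)) (ht : t ∈ T) :
    s * t * s⁻¹ ∈ T :=
  h.conj_mem_T ht (Subgroup.mul_mem _ (Subgroup.mul_mem _ hs (h.hTS ht)) (Subgroup.inv_mem _ hs))

theorem normal_T' (h : Setting p S T E) {s t : G} (hs : s ∈ (S : Subgroup G)) (ht : t ∈ T) :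
    s⁻¹ * t * s ∈ T := by
  have := h.normal_T (Subgroup.inv_mem _ hs) ht
  rwa [inv_inv] at this

theorem Q0_conj (h : Setting p S T E) {g y : G} (hy : y ∈ T ⊓ pCore p G) :
    g * y * g⁻¹ ∈ T ⊓ pCore p G :=
  Subgroup.mem_inf.2 ⟨h.conj_mem_T (Subgroup.mem_inf.1 hy).1 (Q_le S (Q_conj (Subgroup.mem_inf.1 hy).2)),
    Q_conj (Subgroup.mem_inf.1 hy).2⟩

theorem Q0_conj' (h : Setting p S T E) {g y : G} (hy : y ∈ T ⊓ pCore p G) :
    g⁻¹ * y * g ∈ T ⊓ pCore p G := by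
  have := h.Q0_conj (g := g⁻¹) hy
  rwa [inv_inv] at this

theorem Q0_normal (h : Setting p S T E) : (T ⊓ pCore p G).Normal := ⟨fun _ hy _ => h.Q0_conj hy⟩

/-! ### The centralizer of `Q/Q₀` -/

theorem inC_one (_h : Setting p S T E) : InCQ p T (1 : G) := by
  intro q _
  have e : (1 : G) * q * 1⁻¹ * q⁻¹ = 1 := by group
  rw [e]
  exact Subgroup.one_mem _

theorem inC_mul (h : Setting p S T E) {a b : G} (ha : InCQ p T a) (hb : InCQ p T b) : InCQ p T (a * b) := by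
  intro q hq
  have h1 := h.Q0_conj (g := a) (hb q hq)
  have h2 := ha q hq
  have e : a * b * q * (a * b)⁻¹ * q⁻¹ = (a * (b * q * b⁻¹ * q⁻¹) * a⁻¹) * (a * q * a⁻¹ * q⁻¹) := by group
  rw [e]
  exact Subgroup.mul_mem _ h1 h2

theorem inC_inv (_h : Setting p S T E) {a : G} (ha : InCQ p T a) : InCQ p T a⁻¹ := by
  intro q hq
  have h1 := ha _ (Q_conj' (g := a) hq)
  have h2 := Subgroup.inv_mem _ h1
  have e : a⁻¹ * q * a⁻¹⁻¹ * q⁻¹ = (a * (a⁻¹ * q * a) * a⁻¹ * (a⁻¹ * q * a)⁻¹)⁻¹ := by group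
  rw [e]
  exact h2

theorem inC_conj (h : Setting p S T E) {a : G} (ha : InCQ p T a) (k : G) : InCQ p T (k * a * k⁻¹) := by
  intro q hq
  have h1 := h.Q0_conj (g := k) (ha _ (Q_conj' (g := k) hq))
  have e : k * a * k⁻¹ * q * (k * a * k⁻¹)⁻¹ * q⁻¹ =
      k * (a * (k⁻¹ * q * k) * a⁻¹ * (k⁻¹ * q * k)⁻¹) * k⁻¹ := by group
  rw [e]
  exact h1

theorem inC_of_mem_T (h : Setting p S T E) {t : G} (ht : t ∈ T) : InCQ p T t := by
  intro q hq
  refine Subgroup.mem_inf.2 ⟨?_, ?_⟩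
  · have h1 : q * t⁻¹ * q⁻¹ ∈ T := h.normal_T (Q_le S hq) (T.inv_mem ht)
    have e : t * q * t⁻¹ * q⁻¹ = t * (q * t⁻¹ * q⁻¹) := by group
    rw [e]
    exact T.mul_mem ht h1
  · exact Subgroup.mul_mem _ (Q_conj hq) (Subgroup.inv_mem _ hq)

/-- Variant of `InCQ`: `q⁻¹ (g q g⁻¹) ∈ Q₀`. -/
theorem inC_comm' (h : Setting p S T E) {g q : G} (hg : InCQ p T g) (hq : q ∈ pCore p G) :
    q⁻¹ * (g * q * g⁻¹) ∈ T ⊓ pCore p G := by
  have h1 := h.Q0_conj' (g := q) (hg q hq)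
  have e : q⁻¹ * (g * q * g⁻¹ * q⁻¹) * q = q⁻¹ * (g * q * g⁻¹) := by group
  rwa [e] at h1

/-! ### The subgroup `B` -/

theorem isImage_conj_Q0 (h : Setting p S T E) (g : G) :
    IsImage (T ⊓ pCore p G) (fun x => g * x * g⁻¹) (T ⊓ pCore p G) := by
  intro y
  constructor
  · intro hy
    exact ⟨g⁻¹ * y * g, h.Q0_conj' hy, by group⟩
  · rintro ⟨x, hx, rfl⟩
    exact h.Q0_conj hx

theorem inB_one (h : Setting p S T E) : InBQ p E (1 : G) :=
  ⟨h.inC_one, (IsMapOn.id E inf_le_left).congr (fun x _ => by group)⟩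

theorem inB_mul (h : Setting p S T E) {a b : G} (ha : InBQ p E a) (hb : InBQ p E b) : InBQ p E (a * b) :=
  ⟨h.inC_mul ha.1 hb.1, (hb.2.comp ha.2 (fun _ hx => h.Q0_conj hx)).congr (fun x _ => by
    simp only [Function.comp_apply]
    group)⟩

theorem inB_inv (h : Setting p S T E) {a : G} (ha : InBQ p E a) : InBQ p E a⁻¹ := by
  refine ⟨h.inC_inv ha.1, ?_⟩
  obtain ⟨k, hk, hk1, -, -⟩ := IsMapOn.inv ha.2 (h.isImage_conj_Q0 a)
  refine hk.congr (fun y hy => ?_)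
  have h1 := hk1 _ (h.Q0_conj' (g := a) hy)
  have e : a * (a⁻¹ * y * a) * a⁻¹ = y := by group
  simp only [e] at h1
  rw [h1]
  group

theorem inB_of_mem_T (h : Setting p S T E) {t : G} (ht : t ∈ T) : InBQ p E t :=
  ⟨h.inC_of_mem_T ht, IsMapOn.conj E inf_le_left ht⟩

theorem inB_conj (h : Setting p S T E) {a : G} (ha : InBQ p E a) (k : G) : InBQ p E (k * a * k⁻¹) := by
  refine ⟨h.inC_conj ha.1 k, ?_⟩
  have hF : IsMapOn (groupFusionSystem (S : Subgroup G)) (T ⊓ pCore p G) (fun x => k⁻¹ * x * k⁻¹⁻¹) :=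
    isMapOn_group_iff.2 ⟨inf_le_left.trans h.hTS, k⁻¹, fun x hx =>
      ⟨rfl, h.hTS (Subgroup.mem_inf.1 (h.Q0_conj hx)).1⟩⟩
  obtain ⟨f', hf', hf'eq⟩ := stable_of_invariant h.hinv inf_le_left hF (h.isImage_conj_Q0 k⁻¹) ha.2
    (fun y hy => h.Q0_conj hy)
  refine hf'.congr (fun x hx => ?_)
  obtain ⟨-, h2⟩ := hf'eq x hx
  have h2' : k⁻¹ * f' x * k⁻¹⁻¹ = a * (k⁻¹ * x * k⁻¹⁻¹) * a⁻¹ := h2
  have e : f' x = k * (k⁻¹ * f' x * k⁻¹⁻¹) * k⁻¹ := by group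
  rw [e, h2']
  group

/-- The subgroup `B` of elements of `G` centralizing `Q/Q₀` and inducing a map of `E` on `Q₀`. -/
def B (h : Setting p S T E) : Subgroup G where
  carrier := {g | InBQ p E g}
  mul_mem' := fun ha hb => h.inB_mul ha hb
  one_mem' := h.inB_one
  inv_mem' := fun ha => h.inB_inv ha

theorem mem_B (h : Setting p S T E) {g : G} : g ∈ h.B ↔ InBQ p E g := Iff.rfl

theorem B_normal (h : Setting p S T E) : h.B.Normal := ⟨fun _ ha k => h.inB_conj ha k⟩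

theorem T_le_B (h : Setting p S T E) : T ≤ h.B := fun _ ht => h.inB_of_mem_T ht

/-! ### The stabilizer of the chain `Q ≥ Q₀ ≥ 1` -/

/-- The stabilizer `W` of the chain `Q ≥ Q₀ ≥ 1`. -/
def W (h : Setting p S T E) : Subgroup G where
  carrier := {w | InCQ p T w ∧ ∀ y ∈ T ⊓ pCore p G, w * y * w⁻¹ = y}
  mul_mem' := by
    rintro a b ⟨ha, ha0⟩ ⟨hb, hb0⟩
    refine ⟨h.inC_mul ha hb, fun y hy => ?_⟩
    have e : a * b * y * (a * b)⁻¹ = a * (b * y * b⁻¹) * a⁻¹ := by group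
    rw [e, hb0 y hy, ha0 y hy]
  one_mem' := ⟨h.inC_one, fun y _ => by group⟩
  inv_mem' := by
    rintro a ⟨ha, ha0⟩
    refine ⟨h.inC_inv ha, fun y hy => ?_⟩
    have e : a⁻¹ * (a * y * a⁻¹) * a⁻¹⁻¹ = y := by group
    calc a⁻¹ * y * a⁻¹⁻¹ = a⁻¹ * (a * y * a⁻¹) * a⁻¹⁻¹ := by rw [ha0 y hy]
      _ = y := e

theorem mem_W (h : Setting p S T E) {w : G} :
    w ∈ h.W ↔ InCQ p T w ∧ ∀ y ∈ T ⊓ pCore p G, w * y * w⁻¹ = y := Iff.rfl

theorem W_normal (h : Setting p S T E) : h.W.Normal := by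
  refine ⟨fun w hw k => ?_⟩
  obtain ⟨hw1, hw0⟩ := hw
  refine ⟨h.inC_conj hw1 k, fun y hy => ?_⟩
  have e : k * w * k⁻¹ * y * (k * w * k⁻¹)⁻¹ = k * (w * (k⁻¹ * y * k) * w⁻¹) * k⁻¹ := by group
  rw [e, hw0 _ (h.Q0_conj' hy)]
  group

/-- Elements of `W` of order prime to `p` are trivial. -/
theorem eq_one_of_mem_W (h : Setting p S T E) {w : G} (hw : w ∈ h.W) (hcop : (orderOf w).Coprime p) :
    w = 1 := by
  obtain ⟨hw1, hw0⟩ := hw
  have hQp : IsPGroup p (pCore p G) := Helper1_Cores.pCore_isPGroup p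
  -- `w` centralizes `Q`
  have hcent : w ∈ Subgroup.centralizer ((pCore p G : Subgroup G) : Set G) := by
    rw [Subgroup.mem_centralizer_iff]
    intro q hq
    have ha : q⁻¹ * (w * q * w⁻¹) ∈ T ⊓ pCore p G := h.inC_comm' hw1 hq
    obtain ⟨k, hk⟩ := hQp ⟨q⁻¹ * (w * q * w⁻¹), (Subgroup.mem_inf.1 ha).2⟩
    have hk' : (q⁻¹ * (w * q * w⁻¹)) ^ p ^ k = 1 := by
      have := congrArg Subtype.val hk
      simpa using this
    have h1 : w * q * w⁻¹ = q * (q⁻¹ * (w * q * w⁻¹)) := by group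
    have h2 : w * (q⁻¹ * (w * q * w⁻¹)) * w⁻¹ = q⁻¹ * (w * q * w⁻¹) := hw0 _ ha
    have h3 := eq_one_of_chain_aux h1 h2 (pow_orderOf_eq_one w) hk' (hcop.pow_right k)
    have h4 : w * q * w⁻¹ = q := by
      calc w * q * w⁻¹ = q * (q⁻¹ * (w * q * w⁻¹)) := h1
        _ = q := by rw [h3, mul_one]
    calc q * w = (w * q * w⁻¹) * w := by rw [h4]
      _ = w * q := by group
  have hwQ : w ∈ pCore p G := h.hG hcent
  obtain ⟨k, hk⟩ := hQp ⟨w, hwQ⟩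
  have hk' : w ^ p ^ k = 1 := by
    have := congrArg Subtype.val hk
    simpa using this
  have h5 : orderOf w ∣ p ^ k := orderOf_dvd_of_pow_eq_one hk'
  have h6 : orderOf w = 1 := Nat.eq_one_of_dvd_coprimes (hcop.pow_right k) dvd_rfl h5
  exact orderOf_eq_one_iff.1 h6

theorem W_isPGroup (h : Setting p S T E) : IsPGroup p h.W := by
  apply isPGroup_of_coprime_eq_one
  intro w hw
  have h1 : orderOf (w : G) = orderOf w := Subgroup.orderOf_coe w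
  have h2 := h.eq_one_of_mem_W w.2 (h1 ▸ hw)
  exact Subtype.ext h2

theorem W_le_Q (h : Setting p S T E) : h.W ≤ pCore p G :=
  Helper1_Cores.le_pCore h.W_normal h.W_isPGroup

/-! ### `S ∩ B ⊆ T Q` -/

theorem Q0_stronglyClosed (h : Setting p S T E) : E.StronglyClosed (T ⊓ pCore p G) := by
  refine ⟨inf_le_left, fun R hR φ hφ x => ?_⟩
  have hφF := h.hsub R hφ
  obtain ⟨-, -, g, hg⟩ := hφF
  rw [hg]
  exact h.Q0_conj (hR x.2)

theorem exists_mul_of_mem_S_B (h : Setting p S T E) {s : G} (hsS : s ∈ (S : Subgroup G)) (hsB : s ∈ h.B) :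
    ∃ t ∈ T, ∃ q ∈ pCore p G, s = t * q := by
  have hfinT : Finite T := inferInstance
  have hQ0T : T ⊓ pCore p G ≤ T := inf_le_left
  have hfn : E.IsFullyNormalized (T ⊓ pCore p G) :=
    Helper85_DirectFactor.isFullyNormalized_of_stronglyClosed h.Q0_stronglyClosed
  obtain ⟨-, R, hR⟩ := IsSaturated.isFullyAutomized h.hTp h.hEsat hfn
  -- `Aut_S(Q₀) ∩ Aut_E(Q₀)` is a `p`-group containing the Sylow subgroup `Aut_T(Q₀)`
  have hXp : IsPGroup p ((autInducedBy (S : Subgroup G) (T ⊓ pCore p G)).subgroupOf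
      (E.autGroup (T ⊓ pCore p G))) :=
    (Helper84_FusionSat.isPGroup_autInducedBy S.isPGroup' _).comap_subtype
  have hmono : autInducedBy T (T ⊓ pCore p G) ≤ autInducedBy (S : Subgroup G) (T ⊓ pCore p G) := by
    intro α hα
    obtain ⟨g, hg, hgα⟩ := (mem_autInducedBy_iff _ _ α).1 hα
    exact (mem_autInducedBy_iff _ _ α).2 ⟨g, h.hTS hg, hgα⟩
  have hRX : (R : Subgroup (E.autGroup (T ⊓ pCore p G))) ≤
      (autInducedBy (S : Subgroup G) (T ⊓ pCore p G)).subgroupOf (E.autGroup (T ⊓ pCore p G)) := by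
    rw [hR]
    intro α hα
    exact Subgroup.mem_subgroupOf.2 (hmono (Subgroup.mem_subgroupOf.1 hα))
  have hXR := R.is_maximal' hXp hRX
  -- the automorphism induced by `s`
  obtain ⟨β, hβ, hβs⟩ := exists_aut_of_isMapOn hsB.2 (fun y hy => h.Q0_conj hy)
  have hβS : β ∈ autInducedBy (S : Subgroup G) (T ⊓ pCore p G) :=
    (mem_autInducedBy_iff _ _ β).2 ⟨s, hsS, hβs⟩
  have hβR : (⟨β, hβ⟩ : E.autGroup (T ⊓ pCore p G)) ∈ (R : Subgroup (E.autGroup (T ⊓ pCore p G))) := by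
    rw [← hXR]
    exact Subgroup.mem_subgroupOf.2 hβS
  rw [hR, Subgroup.mem_subgroupOf] at hβR
  obtain ⟨t, ht, htβ⟩ := (mem_autInducedBy_iff _ _ β).1 hβR
  -- `t⁻¹ s ∈ W ≤ Q`
  have hd : t⁻¹ * s ∈ h.W := by
    refine ⟨h.inC_mul (h.inC_inv (h.inC_of_mem_T ht)) hsB.1, fun y hy => ?_⟩
    have h1 : s * y * s⁻¹ = t * y * t⁻¹ := by
      rw [← hβs ⟨y, hy⟩, ← htβ ⟨y, hy⟩]
    have e : t⁻¹ * s * y * (t⁻¹ * s)⁻¹ = t⁻¹ * (s * y * s⁻¹) * t := by group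
    rw [e, h1]
    group
  exact ⟨t, ht, t⁻¹ * s, h.W_le_Q hd, by group⟩

/-- For `x ∈ S ∩ B` and `b ∈ B` with `b x b⁻¹ ∈ S`, the commutator `x⁻¹ (b x b⁻¹)` lies in `T`. -/
theorem comm_mem_T (h : Setting p S T E) {x b : G} (hxS : x ∈ (S : Subgroup G)) (hxB : x ∈ h.B)
    (hb : b ∈ h.B) (hbx : b * x * b⁻¹ ∈ (S : Subgroup G)) : x⁻¹ * (b * x * b⁻¹) ∈ T := by
  obtain ⟨t, ht, q, hq, rfl⟩ := h.exists_mul_of_mem_S_B hxS hxB
  have hqS : q ∈ (S : Subgroup G) := Q_le S hq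
  have hbq : b * q * b⁻¹ ∈ (S : Subgroup G) := Q_le S (Q_conj hq)
  have hbt : b * t * b⁻¹ ∈ (S : Subgroup G) := by
    have e : b * t * b⁻¹ = (b * (t * q) * b⁻¹) * (b * q * b⁻¹)⁻¹ := by group
    rw [e]
    exact Subgroup.mul_mem _ hbx (Subgroup.inv_mem _ hbq)
  have hbtT : b * t * b⁻¹ ∈ T := h.conj_mem_T ht hbt
  have h1 : q⁻¹ * (t⁻¹ * (b * t * b⁻¹)) * q ∈ T :=
    h.normal_T' hqS (T.mul_mem (T.inv_mem ht) hbtT)
  have h2 : q⁻¹ * (b * q * b⁻¹) ∈ T := (Subgroup.mem_inf.1 (h.inC_comm' hb.1 hq)).1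
  have e : (t * q)⁻¹ * (b * (t * q) * b⁻¹) = (q⁻¹ * (t⁻¹ * (b * t * b⁻¹)) * q) * (q⁻¹ * (b * q * b⁻¹)) := by
    group
  rw [e]
  exact T.mul_mem h1 h2

end Setting

end Cfsg.Agent.Lib.Helper85_ConstrainedNormal
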