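import Cfsg.Agent.Lib.Helper85_ConstrainedNormal2
import Cfsg.Agent.S5093

/-!
# Normal subsystems of the fusion system of a constrained group, III (helper85)

The subgroup `H = O^p(B) T`: it is normal in `G` and `T = S ∩ H` is a Sylow `p`-subgroup of `H`
(hyperfocal subgroup theorem applied to `B`).
-/

set_option autoImplicit false

namespace Cfsg.Agent.Lib.Helper85_ConstrainedNormal

open Cfsg Cfsg.FusionSystem Cfsg.Agent.Lib.Helper87_Alperin Cfsg.Agent.Lib.Helper88_Centric
  Cfsg.Agent.Lib.Helper84_FusionRS Cfsg.Agent.Lib.Helper85_StableSub Cfsg.Agent.Lib.Helper85_GroupFusion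

/-- The `p`-residual is preserved by automorphisms. -/
theorem map_pResidual_le {X : Type*} [Group X] (p : ℕ) (e : X ≃* X) :
    (pResidual p X).map e.toMonoidHom ≤ pResidual p X := by
  unfold pResidual
  rw [MonoidHom.map_closure, Subgroup.closure_le]
  rintro _ ⟨y, hy, rfl⟩
  apply Subgroup.subset_closure
  show (orderOf (e y)).Coprime p
  rw [MulEquiv.orderOf_eq]
  exact hy

/-- An element normalizing two subgroups of a finite group normalizes their join. -/
theorem mem_normalizer_sup {G : Type*} [Group G] [Finite G] {A B : Subgroup G} {x : G}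
    (hA : ∀ a ∈ A, x * a * x⁻¹ ∈ A) (hB : ∀ b ∈ B, x * b * x⁻¹ ∈ B) :
    x ∈ Subgroup.normalizer ((A ⊔ B : Subgroup G) : Set G) := by
  apply mem_normalizer_of_conjSub_le
  show (A ⊔ B).map (MulAut.conj x).toMonoidHom ≤ A ⊔ B
  rw [Subgroup.map_sup]
  apply sup_le_sup
  · rintro _ ⟨a, ha, rfl⟩
    exact hA a ha
  · rintro _ ⟨b, hb, rfl⟩
    exact hB b hb

variable {G : Type*} [Group G]

namespace Setting

variable [Finite G] {p : ℕ} [Fact p.Prime] {S : Sylow p G} {T : Subgroup G} {E : FusionSystem T}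

/-- `O^p(B)` as a subgroup of `G`. -/
def O (h : Setting p S T E) : Subgroup G := (pResidual p ↥h.B).map h.B.subtype

theorem O_le_B (h : Setting p S T E) : h.O ≤ h.B := by
  rintro _ ⟨b, -, rfl⟩
  exact b.2

theorem mem_O_of_coprime (h : Setting p S T E) {x : G} (hx : x ∈ h.B) (hcop : (orderOf x).Coprime p) :
    x ∈ h.O := by
  refine ⟨⟨x, hx⟩, Subgroup.subset_closure ?_, rfl⟩
  show (orderOf (⟨x, hx⟩ : h.B)).Coprime p
  rw [← Subgroup.orderOf_coe]
  exact hcop

theorem O_conj (h : Setting p S T E) {x : G} (hx : x ∈ h.O) (k : G) : k * x * k⁻¹ ∈ h.O := by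
  have := h.B_normal
  obtain ⟨b, hb, rfl⟩ := hx
  have h1 : (MulAut.conjNormal k : MulAut h.B) b ∈ pResidual p ↥h.B :=
    map_pResidual_le p (MulAut.conjNormal k : MulAut h.B) ⟨b, hb, rfl⟩
  exact ⟨_, h1, by simp [MulAut.conjNormal_apply]⟩

theorem O_normal (h : Setting p S T E) : h.O.Normal := ⟨fun _ hx k => h.O_conj hx k⟩

/-- The relative Sylow subgroup `S ∩ B` of `B`. -/
theorem exists_sylow_B (h : Setting p S T E) :
    ∃ R : Sylow p ↥h.B, (R : Subgroup ↥h.B) = (S : Subgroup G).subgroupOf h.B := by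
  have h1 : IsSylowIn p (S : Subgroup G) ⊤ := isSylowIn_of_sylow_le S le_top
  have h2 : IsSylowIn p ((S : Subgroup G) ⊓ h.B) h.B := by
    refine h1.inf_normal le_top le_top ?_
    intro g _
    have := h.B_normal
    rw [Subgroup.normalizer_eq_top]
    exact Subgroup.mem_top g
  obtain ⟨R, hR⟩ := h2
  exact ⟨R, by rw [hR, Subgroup.inf_subgroupOf_right]⟩

/-- `S ∩ O^p(B) ≤ T`: the hyperfocal subgroup theorem for `B`. -/
theorem mem_T_of_mem_O (h : Setting p S T E) {x : G} (hxO : x ∈ h.O) (hxS : x ∈ (S : Subgroup G)) :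
    x ∈ T := by
  obtain ⟨R, hR⟩ := h.exists_sylow_B
  have hyp := Cfsg.Agent.S5093.result p R
  obtain ⟨b, hb, rfl⟩ := hxO
  have hbR : b ∈ (R : Subgroup ↥h.B) := by
    rw [hR]
    exact Subgroup.mem_subgroupOf.2 hxS
  have hbh : b ∈ (groupFusionSystem (R : Subgroup ↥h.B)).hyperfocalSubgroup p := by
    rw [hyp]
    exact Subgroup.mem_inf.2 ⟨hbR, hb⟩
  have hRS : ∀ y : ↥h.B, y ∈ (R : Subgroup ↥h.B) → (y : G) ∈ (S : Subgroup G) :=
    fun y hy => Subgroup.mem_subgroupOf.1 (hR.le hy)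
  -- every generator of the hyperfocal subgroup lies in `T`
  have hle : (groupFusionSystem (R : Subgroup ↥h.B)).hyperfocalSubgroup p ≤ T.comap h.B.subtype := by
    unfold FusionSystem.hyperfocalSubgroup
    rw [Subgroup.closure_le]
    rintro y ⟨P, α, x, hP, -, rfl⟩
    obtain ⟨g, hg⟩ := (group_mem_autGroup_iff hP (α : MulAut P)).1 α.2
    have hxS' : ((x : ↥h.B) : G) ∈ (S : Subgroup G) := hRS _ (hP x.2)
    have hαS : ((((α : MulAut P) x : P) : ↥h.B) : G) ∈ (S : Subgroup G) :=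
      hRS _ (hP ((α : MulAut P) x).2)
    have hgx : ((((α : MulAut P) x : P) : ↥h.B) : G) = (g : G) * ((x : ↥h.B) : G) * (g : G)⁻¹ := by
      rw [hg x]
      rfl
    show ((((x : ↥h.B))⁻¹ * (((α : MulAut P) x : P) : ↥h.B) : ↥h.B) : G) ∈ T
    have e : ((((x : ↥h.B))⁻¹ * (((α : MulAut P) x : P) : ↥h.B) : ↥h.B) : G) =
        ((x : ↥h.B) : G)⁻¹ * ((g : G) * ((x : ↥h.B) : G) * (g : G)⁻¹) := by
      rw [← hgx]
      rfl
    rw [e]
    exact h.comm_mem_T hxS' (x : ↥h.B).2 g.2 (hgx ▸ hαS)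
  exact hle hbh

/-- The normal subgroup `H = O^p(B) T` attached to `E`. -/
def H (h : Setting p S T E) : Subgroup G := h.O ⊔ T

theorem T_le_H (h : Setting p S T E) : T ≤ h.H := le_sup_right

theorem O_le_H (h : Setting p S T E) : h.O ≤ h.H := le_sup_left

theorem H_le_B (h : Setting p S T E) : h.H ≤ h.B := sup_le h.O_le_B h.T_le_B

theorem exists_mul_of_mem_H (h : Setting p S T E) {x : G} (hx : x ∈ h.H) :
    ∃ o ∈ h.O, ∃ t ∈ T, x = o * t := by
  have := h.O_normal
  have : x ∈ ((h.O ⊔ T : Subgroup G) : Set G) := hx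
  rw [Subgroup.normal_mul] at this
  obtain ⟨o, ho, t, ht, rfl⟩ := this
  exact ⟨o, ho, t, ht, rfl⟩

theorem S_inf_H (h : Setting p S T E) : (S : Subgroup G) ⊓ h.H = T := by
  apply le_antisymm
  · intro x hx
    obtain ⟨hxS, hxH⟩ := Subgroup.mem_inf.1 hx
    obtain ⟨o, ho, t, ht, rfl⟩ := h.exists_mul_of_mem_H hxH
    have hoS : o ∈ (S : Subgroup G) := by
      have e : o = o * t * t⁻¹ := by group
      rw [e]
      exact Subgroup.mul_mem _ hxS (Subgroup.inv_mem _ (h.hTS ht))
    exact T.mul_mem (h.mem_T_of_mem_O ho hoS) ht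
  · exact le_inf h.hTS h.T_le_H

/-- Elements of `S` normalize `H`; elements normalizing `S ∩ B` normalize `H`; so `H` is normal. -/
theorem H_normal (h : Setting p S T E) : h.H.Normal := by
  have hBn := h.B_normal
  obtain ⟨R, hR⟩ := h.exists_sylow_B
  have hfr := Sylow.normalizer_sup_eq_top R
  have hmap : ((R : Subgroup ↥h.B).map h.B.subtype) = (S : Subgroup G) ⊓ h.B := by
    rw [hR, Subgroup.subgroupOf_map_subtype]
  -- elements of `S ∩ B` normalize `H`
  have h1 : ∀ s ∈ (S : Subgroup G), s ∈ Subgroup.normalizer ((h.H : Subgroup G) : Set G) := by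
    intro s hs
    exact mem_normalizer_sup (fun a ha => h.O_conj ha s) (fun b hb => h.normal_T hs hb)
  -- elements of `N_G(S ∩ B)` normalize `H`
  have h2 : Subgroup.normalizer (((S : Subgroup G) ⊓ h.B : Subgroup G) : Set G) ≤
      Subgroup.normalizer ((h.H : Subgroup G) : Set G) := by
    intro n hn
    refine mem_normalizer_sup (fun a ha => h.O_conj ha n) (fun t ht => ?_)
    have htSB : t ∈ (S : Subgroup G) ⊓ h.B := Subgroup.mem_inf.2 ⟨h.hTS ht, h.T_le_B ht⟩
    have h3 : n * t * n⁻¹ ∈ (S : Subgroup G) ⊓ h.B := (Subgroup.mem_normalizer_iff.1 hn t).1 htSB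
    exact h.conj_mem_T ht (Subgroup.mem_inf.1 h3).1
  -- elements of `B` normalize `H`
  have h3 : h.B ≤ Subgroup.normalizer ((h.H : Subgroup G) : Set G) := by
    intro b hb
    obtain ⟨r, hr, m, hm, hrm⟩ := Helper34_Sylow.exists_mul_pResidual (R : Subgroup ↥h.B)
      R.not_dvd_index ⟨b, hb⟩
    have hb' : b = (r : G) * (m : G) := congrArg Subtype.val hrm
    rw [hb']
    apply Subgroup.mul_mem
    · apply h1
      rw [hR] at hr
      exact Subgroup.mem_subgroupOf.1 hr
    · apply Subgroup.le_normalizer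
      exact h.O_le_H ⟨m, hm, rfl⟩
  have htop : Subgroup.normalizer ((h.H : Subgroup G) : Set G) = ⊤ := by
    rw [eq_top_iff, ← hfr, hmap]
    exact sup_le h2 h3
  exact Subgroup.normalizer_eq_top_iff.1 htop

theorem isSylowIn_T_H (h : Setting p S T E) : IsSylowIn p T h.H := by
  have h1 : IsSylowIn p (S : Subgroup G) ⊤ := isSylowIn_of_sylow_le S le_top
  have h2 : IsSylowIn p ((S : Subgroup G) ⊓ h.H) h.H := by
    refine h1.inf_normal le_top le_top ?_
    intro g _
    have := h.H_normal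
    rw [Subgroup.normalizer_eq_top]
    exact Subgroup.mem_top g
  rwa [h.S_inf_H] at h2

end Setting

end Cfsg.Agent.Lib.Helper85_ConstrainedNormal
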