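import Cfsg.Agent.Lib.Helper85_ConstrainedNormal3

/-!
# Normal subsystems of the fusion system of a constrained group, IV (helper85)

`Aut_E(T) = Aut_H(T)` for `H = O^p(B) T`, and hence `E = F_T(H)`.
-/

set_option autoImplicit false

namespace Cfsg.Agent.Lib.Helper85_ConstrainedNormal

open Cfsg Cfsg.FusionSystem Cfsg.Agent.Lib.Helper87_Alperin Cfsg.Agent.Lib.Helper88_Centric
  Cfsg.Agent.Lib.Helper84_FusionRS Cfsg.Agent.Lib.Helper85_StableSub Cfsg.Agent.Lib.Helper85_GroupFusion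

/-- Decomposition of an element of finite order as a product of a power of `p`-power order and a power of order
prime to `p`. -/
theorem exists_pow_decomp {X : Type*} [Group X] {p : ℕ} [hp : Fact p.Prime] (g : X) (hg : orderOf g ≠ 0) :
    ∃ i j : ℕ, g = g ^ i * g ^ j ∧ (∃ k : ℕ, (g ^ i) ^ p ^ k = 1) ∧ (orderOf (g ^ j)).Coprime p := by
  obtain ⟨a, m, hm, hn⟩ := Nat.exists_eq_pow_mul_and_not_dvd hg p hp.out.ne_one
  have hco : (p ^ a).Coprime m := Nat.Coprime.pow_left a ((Nat.Prime.coprime_iff_not_dvd hp.out).2 hm)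
  obtain ⟨i, hi1, hi0⟩ := Nat.chineseRemainder hco 1 0
  obtain ⟨j, hj0, hj1⟩ := Nat.chineseRemainder hco 0 1
  refine ⟨i, j, ?_, ⟨a, ?_⟩, ?_⟩
  · rw [← pow_add]
    conv_lhs => rw [← pow_one g]
    rw [pow_eq_pow_iff_modEq, hn]
    apply (Nat.modEq_and_modEq_iff_modEq_mul hco).1
    constructor
    · have := Nat.ModEq.add hi1 hj0
      simpa using this.symm
    · have := Nat.ModEq.add hi0 hj1
      simpa using this.symm
  · rw [← pow_mul]
    apply orderOf_dvd_iff_pow_eq_one.1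
    rw [hn, mul_comm i]
    exact Nat.mul_dvd_mul_left _ ((Nat.modEq_zero_iff_dvd).1 hi0)
  · have h1 : (g ^ j) ^ m = 1 := by
      rw [← pow_mul]
      apply orderOf_dvd_iff_pow_eq_one.1
      rw [hn]
      exact Nat.mul_dvd_mul_right ((Nat.modEq_zero_iff_dvd).1 hj0) m
    have h2 : orderOf (g ^ j) ∣ m := orderOf_dvd_of_pow_eq_one h1
    exact Nat.Coprime.coprime_dvd_left h2 ((Nat.Prime.coprime_iff_not_dvd hp.out).2 hm).symm

variable {G : Type*} [Group G]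

/-- `g` induces on `T` a map of `E` and centralizes `C_S(T)` modulo `T`. -/
def InKQ (S T : Subgroup G) (E : FusionSystem T) (g : G) : Prop :=
  IsMapOn E T (fun x => g * x * g⁻¹) ∧ ∀ c ∈ centralizerIn S T, c⁻¹ * (g * c * g⁻¹) ∈ T

namespace Setting

variable [Finite G] {p : ℕ} [Fact p.Prime] {S : Sylow p G} {T : Subgroup G} {E : FusionSystem T}

theorem T_stronglyClosed (_h : Setting p S T E) : E.StronglyClosed T :=
  ⟨le_rfl, fun _ _ _ hφ x => (E.le_of_mem hφ).2 x⟩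

theorem conj_mem_of_isMapOn (_h : Setting p S T E) {g : G} (hg : IsMapOn E T (fun x => g * x * g⁻¹))
    {t : G} (ht : t ∈ T) : g * t * g⁻¹ ∈ T := hg.mem ht

theorem inK_one (_h : Setting p S T E) : InKQ (S : Subgroup G) T E 1 := by
  refine ⟨(IsMapOn.id E le_rfl).congr (fun x _ => by group), fun c _ => ?_⟩
  have e : c⁻¹ * (1 * c * 1⁻¹) = 1 := by group
  rw [e]
  exact T.one_mem

theorem inK_mul (_h : Setting p S T E) {a b : G} (ha : InKQ (S : Subgroup G) T E a)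
    (hb : InKQ (S : Subgroup G) T E b) : InKQ (S : Subgroup G) T E (a * b) := by
  refine ⟨(hb.1.comp ha.1 (fun x hx => hb.1.mem hx)).congr (fun x _ => by
    simp only [Function.comp_apply]
    group), fun c hc => ?_⟩
  have h1 : c⁻¹ * (b * c * b⁻¹) ∈ T := hb.2 c hc
  have h2 : c⁻¹ * (a * c * a⁻¹) ∈ T := ha.2 c hc
  have h3 : a * (c⁻¹ * (b * c * b⁻¹)) * a⁻¹ ∈ T := ha.1.mem h1
  have e : c⁻¹ * (a * b * c * (a * b)⁻¹) = (c⁻¹ * (a * c * a⁻¹)) * (a * (c⁻¹ * (b * c * b⁻¹)) * a⁻¹) := by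
    group
  rw [e]
  exact T.mul_mem h2 h3

theorem inK_pow (h : Setting p S T E) {a : G} (ha : InKQ (S : Subgroup G) T E a) (n : ℕ) :
    InKQ (S : Subgroup G) T E (a ^ n) := by
  induction n with
  | zero => rw [pow_zero]; exact h.inK_one
  | succ n ih => rw [pow_succ]; exact h.inK_mul ih ha

/-- An element of `p`-power order inducing a map of `E` on `T` acts on `T` as an element of `T`. -/
theorem exists_T_conj (h : Setting p S T E) {s : G} (hs : IsMapOn E T (fun x => s * x * s⁻¹)) {k : ℕ}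
    (hsk : s ^ p ^ k = 1) : ∃ t ∈ T, ∀ x ∈ T, s * x * s⁻¹ = t * x * t⁻¹ := by
  have hfinT : Finite T := inferInstance
  have hfn : E.IsFullyNormalized T :=
    Helper85_DirectFactor.isFullyNormalized_of_stronglyClosed h.T_stronglyClosed
  obtain ⟨-, R, hR⟩ := IsSaturated.isFullyAutomized h.hTp h.hEsat hfn
  obtain ⟨β, hβ, hβs⟩ := exists_aut_of_isMapOn hs (fun y hy => hs.mem hy)
  -- `R` is normal in `Aut_E(T)`
  have hRn : (R : Subgroup (E.autGroup T)).Normal := by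
    refine ⟨fun ρ hρ γ => ?_⟩
    rw [hR, Subgroup.mem_subgroupOf] at hρ ⊢
    obtain ⟨t, ht, htρ⟩ := (mem_autInducedBy_iff T T _).1 hρ
    refine (mem_autInducedBy_iff T T _).2 ⟨((γ : MulAut T) ⟨t, ht⟩ : T), ((γ : MulAut T) ⟨t, ht⟩).2, fun x => ?_⟩
    show (((γ : MulAut T) ((ρ : MulAut T) ((γ : MulAut T)⁻¹ x)) : T) : G) = _
    have e1 : (ρ : MulAut T) ((γ : MulAut T)⁻¹ x) = ⟨t, ht⟩ * ((γ : MulAut T)⁻¹ x) * ⟨t, ht⟩⁻¹ := by
      apply Subtype.ext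
      rw [htρ]
      rfl
    rw [e1, map_mul, map_mul, map_inv, MulAut.apply_inv_self]
    rfl
  -- `β` has `p`-power order
  have hpow : ∀ n : ℕ, ∀ x : T, (((β ^ n) x : T) : G) = s ^ n * x * (s ^ n)⁻¹ := by
    intro n
    induction n with
    | zero => intro x; simp
    | succ n ih =>
      intro x
      rw [pow_succ', MulAut.mul_apply, hβs, ih x, pow_succ']
      group
  have hβk : β ^ p ^ k = 1 := by
    apply MulEquiv.ext
    intro x
    apply Subtype.ext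
    rw [hpow, hsk]
    simp
  have hKp : IsPGroup p (Subgroup.zpowers (⟨β, hβ⟩ : E.autGroup T)) := by
    rintro ⟨γ, hγ⟩
    obtain ⟨n, rfl⟩ := Subgroup.mem_zpowers_iff.1 hγ
    refine ⟨k, Subtype.ext ?_⟩
    show ((⟨β, hβ⟩ : E.autGroup T) ^ n) ^ p ^ k = 1
    rw [← zpow_natCast, ← zpow_mul, mul_comm, zpow_mul, zpow_natCast]
    have : (⟨β, hβ⟩ : E.autGroup T) ^ p ^ k = 1 := Subtype.ext hβk
    rw [this, one_zpow]
  obtain ⟨R', hR'⟩ := hKp.exists_le_sylow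
  obtain ⟨γ, hγ⟩ := MulAction.exists_smul_eq (E.autGroup T) R R'
  have hRR' : R' = R := by
    rw [← hγ]
    have := hRn
    exact Sylow.smul_eq_of_normal
  have hβR : (⟨β, hβ⟩ : E.autGroup T) ∈ (R : Subgroup (E.autGroup T)) := by
    rw [← hRR']
    exact hR' (Subgroup.mem_zpowers _)
  rw [hR, Subgroup.mem_subgroupOf] at hβR
  obtain ⟨t, ht, htβ⟩ := (mem_autInducedBy_iff T T _).1 hβR
  exact ⟨t, ht, fun x hx => by rw [← hβs ⟨x, hx⟩, ← htβ ⟨x, hx⟩]⟩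

/-- A `p'`-element inducing on `T` a map of `E` and centralizing `C_S(T)` modulo `T` centralizes `Q/Q₀`. -/
theorem inC_of_inK (h : Setting p S T E) {v : G} (hv : InKQ (S : Subgroup G) T E v)
    (hcop : (orderOf v).Coprime p) : InCQ p T v := by
  have hQp : IsPGroup p (pCore p G) := Helper1_Cores.pCore_isPGroup p
  -- the inverse of `c_v` on `T`
  have hI : IsImage T (fun x => v * x * v⁻¹) T := by
    obtain ⟨β, -, hβv⟩ := exists_aut_of_isMapOn hv.1 (fun y hy => hv.1.mem hy)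
    intro y
    constructor
    · intro hy
      refine ⟨(β⁻¹ ⟨y, hy⟩ : T), (β⁻¹ ⟨y, hy⟩ : T).2, ?_⟩
      show v * ((β⁻¹ ⟨y, hy⟩ : T) : G) * v⁻¹ = y
      rw [← hβv, MulAut.apply_inv_self]
    · rintro ⟨x, hx, rfl⟩
      exact hv.1.mem hx
  obtain ⟨vi, hvi, hvi1, hvi2, hvi3⟩ := IsMapOn.inv hv.1 hI
  have hviv : ∀ y ∈ T, vi y = v⁻¹ * y * v := by
    intro y hy
    have h1 := hvi3 y hy
    have h2 : vi y = v⁻¹ * (v * vi y * v⁻¹) * v := by group
    rw [h2, h1]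
  intro q hq
  have hqS : q ∈ (S : Subgroup G) := Q_le S hq
  -- Step 1: `a = q⁻¹ (v q v⁻¹)` induces a map of `E` on `T`
  have hqF : IsMapOn (groupFusionSystem (S : Subgroup G)) T (fun x => q * x * q⁻¹) :=
    isMapOn_group_iff.2 ⟨h.hTS, q, fun x hx => ⟨rfl, h.hTS (h.normal_T hqS hx)⟩⟩
  have hqI : IsImage T (fun x => q * x * q⁻¹) T := by
    intro y
    constructor
    · intro hy
      exact ⟨q⁻¹ * y * q, h.normal_T' hqS hy, by group⟩
    · rintro ⟨x, hx, rfl⟩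
      exact h.normal_T hqS hx
  obtain ⟨f', hf', hf'eq⟩ := stable_of_invariant h.hinv le_rfl hqF hqI hv.1 (fun y hy => hv.1.mem hy)
  have hf'v : ∀ x ∈ T, f' x = q⁻¹ * (v * (q * x * q⁻¹) * v⁻¹) * q := by
    intro x hx
    obtain ⟨-, h2⟩ := hf'eq x hx
    have h2' : q * f' x * q⁻¹ = v * (q * x * q⁻¹) * v⁻¹ := h2
    have e : f' x = q⁻¹ * (q * f' x * q⁻¹) * q := by group
    rw [e, h2']
  have ha : IsMapOn E T (fun x => (q⁻¹ * (v * q * v⁻¹)) * x * (q⁻¹ * (v * q * v⁻¹))⁻¹) := by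
    refine (hvi.comp hf' hvi2).congr (fun x hx => ?_)
    simp only [Function.comp_apply]
    rw [hf'v _ (hvi2 x hx), hviv x hx]
    group
  have haQ : q⁻¹ * (v * q * v⁻¹) ∈ pCore p G :=
    Subgroup.mul_mem _ (Subgroup.inv_mem _ hq) (Q_conj hq)
  obtain ⟨k, hk⟩ := hQp ⟨q⁻¹ * (v * q * v⁻¹), haQ⟩
  have hk' : (q⁻¹ * (v * q * v⁻¹)) ^ p ^ k = 1 := by
    have := congrArg Subtype.val hk
    simpa using this
  obtain ⟨t, ht, hta⟩ := h.exists_T_conj ha hk'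
  -- `a = t c` with `c ∈ C_S(T)`
  have hc : t⁻¹ * (q⁻¹ * (v * q * v⁻¹)) ∈ centralizerIn (S : Subgroup G) T := by
    rw [mem_centralizerIn_iff]
    refine ⟨Subgroup.mul_mem _ (Subgroup.inv_mem _ (h.hTS ht)) (Q_le S haQ), fun y hy => ?_⟩
    have h1 := hta y hy
    calc y * (t⁻¹ * (q⁻¹ * (v * q * v⁻¹)))
        = t⁻¹ * (t * y * t⁻¹) * (q⁻¹ * (v * q * v⁻¹)) := by group
      _ = t⁻¹ * ((q⁻¹ * (v * q * v⁻¹)) * y * (q⁻¹ * (v * q * v⁻¹))⁻¹) * (q⁻¹ * (v * q * v⁻¹)) := by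
          rw [h1]
      _ = t⁻¹ * (q⁻¹ * (v * q * v⁻¹)) * y := by group
  -- Step 2: `a⁻¹ (v a v⁻¹) ∈ Q₀`
  have hstep2 : (q⁻¹ * (v * q * v⁻¹))⁻¹ * (v * (q⁻¹ * (v * q * v⁻¹)) * v⁻¹) ∈ T ⊓ pCore p G := by
    refine Subgroup.mem_inf.2 ⟨?_, Subgroup.mul_mem _ (Subgroup.inv_mem _ haQ) (Q_conj haQ)⟩
    set c := t⁻¹ * (q⁻¹ * (v * q * v⁻¹)) with hcdef
    have hac : q⁻¹ * (v * q * v⁻¹) = t * c := by rw [hcdef]; group
    rw [hac]
    have hcS : c ∈ (S : Subgroup G) := ((mem_centralizerIn_iff _ _ _).1 hc).1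
    have h1 : c⁻¹ * (v * c * v⁻¹) ∈ T := hv.2 c hc
    have h2 : c⁻¹ * (t⁻¹ * (v * t * v⁻¹)) * c ∈ T :=
      h.normal_T' hcS (T.mul_mem (T.inv_mem ht) (hv.1.mem ht))
    have e : (t * c)⁻¹ * (v * (t * c) * v⁻¹) = (c⁻¹ * (t⁻¹ * (v * t * v⁻¹)) * c) * (c⁻¹ * (v * c * v⁻¹)) := by
      group
    rw [e]
    exact T.mul_mem h2 h1
  -- Step 3: coprime action
  have h1 : (q * (q⁻¹ * (v * q * v⁻¹)))⁻¹ * (v * q * v⁻¹) ∈ T ⊓ pCore p G := by
    have e : (q * (q⁻¹ * (v * q * v⁻¹)))⁻¹ * (v * q * v⁻¹) = 1 := by group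
    rw [e]
    exact Subgroup.one_mem _
  have hpk : (q⁻¹ * (v * q * v⁻¹)) ^ p ^ k ∈ T ⊓ pCore p G := by
    rw [hk']
    exact Subgroup.one_mem _
  have hmem := mem_of_chain h.Q0_normal h1 hstep2 (pow_orderOf_eq_one v) hpk (hcop.pow_right k)
  have h3 := h.Q0_conj (g := q) hmem
  have e : q * (q⁻¹ * (v * q * v⁻¹)) * q⁻¹ = v * q * v⁻¹ * q⁻¹ := by group
  rwa [e] at h3

/-- **`Aut_E(T) ⊆ Aut_H(T)`.** -/
theorem exists_H_conj (h : Setting p S T E) {f : G → G} (hf : IsMapOn E T f) :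
    ∃ x ∈ h.H, ∀ t ∈ T, f t = x * t * x⁻¹ := by
  have hfinT : Finite T := inferInstance
  obtain ⟨α, hα, hαf⟩ := exists_aut_of_isMapOn hf (fun y hy => hf.mem hy)
  obtain ⟨β, hβ, hβα, hβc⟩ := h.hE.2 α hα
  have hD : T ⊔ centralizerIn (S : Subgroup G) T ≤ (S : Subgroup G) := sup_le h.hTS inf_le_left
  obtain ⟨g, hg⟩ := (group_mem_autGroup_iff hD β).1 hβ
  have hgT : ∀ t ∈ T, f t = g * t * g⁻¹ := by
    intro t ht
    rw [← hαf ⟨t, ht⟩, ← hβα ⟨t, ht⟩, hg]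
    rfl
  have hgK : InKQ (S : Subgroup G) T E g := by
    refine ⟨hf.congr hgT, fun c hc => ?_⟩
    have hcD : c ∈ T ⊔ centralizerIn (S : Subgroup G) T := (le_sup_right : _ ≤ T ⊔ _) hc
    have h1 := hβc ⟨c, hcD⟩ hc
    rw [hg] at h1
    exact (Subgroup.mem_inf.1 h1).1
  obtain ⟨i, j, hij, ⟨k, hik⟩, hjcop⟩ := exists_pow_decomp (p := p) g (orderOf_pos g).ne'
  have hKi := h.inK_pow hgK i
  have hKj := h.inK_pow hgK j
  -- the `p'`-part lies in `O^p(B)`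
  have hjC : InCQ p T (g ^ j) := h.inC_of_inK hKj hjcop
  have hjB : g ^ j ∈ h.B := ⟨hjC, hKj.1.mono inf_le_left⟩
  have hjH : g ^ j ∈ h.H := h.O_le_H (h.mem_O_of_coprime hjB hjcop)
  -- the `p`-part acts as an element of `T`
  obtain ⟨t, ht, hti⟩ := h.exists_T_conj hKi.1 hik
  refine ⟨t * g ^ j, Subgroup.mul_mem _ (h.T_le_H ht) hjH, fun x hx => ?_⟩
  rw [hgT x hx]
  have h1 : g ^ j * x * (g ^ j)⁻¹ ∈ T := hKj.1.mem hx
  have h2 := hti _ h1
  calc g * x * g⁻¹ = (g ^ i * g ^ j) * x * (g ^ i * g ^ j)⁻¹ := by rw [← hij]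
    _ = g ^ i * (g ^ j * x * (g ^ j)⁻¹) * (g ^ i)⁻¹ := by group
    _ = t * (g ^ j * x * (g ^ j)⁻¹) * t⁻¹ := h2
    _ = t * g ^ j * x * (t * g ^ j)⁻¹ := by group

/-- `C_H(Q₀) ≤ T`. -/
theorem mem_T_of_centralizes (h : Setting p S T E) {d : G} (hd : d ∈ h.H)
    (hd0 : ∀ y ∈ T ⊓ pCore p G, d * y * d⁻¹ = y) : d ∈ T := by
  have hW : d ∈ h.W := ⟨(h.H_le_B hd).1, hd0⟩
  have hS : d ∈ (S : Subgroup G) := Q_le S (h.W_le_Q hW)
  rw [← h.S_inf_H]
  exact Subgroup.mem_inf.2 ⟨hS, hd⟩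

/-- **`Aut_H(T) ⊆ Aut_E(T)`.** -/
theorem isMapOn_of_mem_H (h : Setting p S T E) {x : G} (hx : x ∈ h.H) (hxT : ∀ t ∈ T, x * t * x⁻¹ ∈ T) :
    IsMapOn E T (fun t => x * t * x⁻¹) := by
  have hfinT : Finite T := inferInstance
  have hxB : InBQ p E x := h.H_le_B hx
  obtain ⟨φ, hφ, hφx⟩ := hxB.2
  have hrange : φ.range = T ⊓ pCore p G := by
    ext y
    constructor
    · rintro ⟨z, rfl⟩
      rw [hφx]
      exact h.Q0_conj z.2
    · intro hy
      refine ⟨⟨x⁻¹ * y * x, h.Q0_conj' hy⟩, ?_⟩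
      rw [hφx]
      show x * (x⁻¹ * y * x) * x⁻¹ = y
      group
  have hfn : E.IsFullyNormalized (T ⊓ pCore p G) :=
    Helper85_DirectFactor.isFullyNormalized_of_stronglyClosed h.Q0_stronglyClosed
  have hrec : E.IsReceptive (T ⊓ pCore p G) :=
    IsSaturated.isReceptive_of_isFullyNormalized h.hTp h.hEsat hfn
  obtain ⟨ψ, hψ, hψφ⟩ := hrec.2 _ φ hφ hrange
  have hext : T ≤ extender T (T ⊓ pCore p G) φ := by
    intro g hg
    rw [mem_extender_iff]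
    have hgN : g ∈ Subgroup.normalizer (((T ⊓ pCore p G : Subgroup G)) : Set G) := by
      have := h.Q0_normal
      rw [Subgroup.normalizer_eq_top]
      exact Subgroup.mem_top g
    refine ⟨hg, hgN, x * g * x⁻¹, hxT g hg, fun y hy => ?_⟩
    rw [hφx, hφx]
    show x * (g * y * g⁻¹) * x⁻¹ = x * g * x⁻¹ * (x * y * x⁻¹) * (x * g * x⁻¹)⁻¹
    group
  have ha : IsMapOn E T (extHom ψ) := (isMapOn_extHom E hψ).mono hext
  have haQ : ∀ y ∈ T ⊓ pCore p G, extHom ψ y = x * y * x⁻¹ := by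
    intro y hy
    have hyN : y ∈ extender T (T ⊓ pCore p G) φ := hext (Subgroup.mem_inf.1 hy).1
    rw [extHom_apply ψ hyN, hψφ y hy hyN, hφx]
  obtain ⟨x', hx', hx'a⟩ := h.exists_H_conj ha
  -- `d = x'⁻¹ x` centralizes `Q₀`, hence lies in `T`
  have hdT : x'⁻¹ * x ∈ T := by
    apply h.mem_T_of_centralizes (Subgroup.mul_mem _ (Subgroup.inv_mem _ hx') hx)
    intro y hy
    have h1 : x * y * x⁻¹ = x' * y * x'⁻¹ := by
      rw [← haQ y hy, hx'a y (Subgroup.mem_inf.1 hy).1]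
    calc x'⁻¹ * x * y * (x'⁻¹ * x)⁻¹ = x'⁻¹ * (x * y * x⁻¹) * x' := by group
      _ = x'⁻¹ * (x' * y * x'⁻¹) * x' := by rw [h1]
      _ = y := by group
  have hcd : IsMapOn E T (fun t => (x'⁻¹ * x) * t * (x'⁻¹ * x)⁻¹) := IsMapOn.conj E le_rfl hdT
  refine (hcd.comp ha (fun t ht => hcd.mem ht)).congr (fun t ht => ?_)
  simp only [Function.comp_apply]
  rw [hx'a _ (hcd.mem ht)]
  group

/-- **The subsystem `E` is the fusion system of `H` on `T`.** -/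
theorem hom_eq (h : Setting p S T E) (P : Subgroup G) :
    E.Hom P = (fusionSystemOfSubgroup h.H T h.T_le_H).Hom P := by
  have hfinT : Finite T := inferInstance
  obtain ⟨R, hR⟩ := h.isSylowIn_T_H
  have hsat' : (fusionSystemOfSubgroup h.H T h.T_le_H).IsSaturated p :=
    Helper85_Transport.subgroup_isSaturated h.H T h.T_le_H R hR
  have hHn := h.H_normal
  -- `E ⊆ F_T(H)`
  have h1 : ∀ (P : Subgroup G) (f : G → G), IsMapOn E P f →
      IsMapOn (fusionSystemOfSubgroup h.H T h.T_le_H) P f := by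
    refine isMapOn_of_stable h.hTp E _ h.hEsat ?_ ?_
    · intro U U' g f hg hI hf hfU
      have hU : U ≤ T := hg.le
      obtain ⟨-, k, hk⟩ := isMapOn_group_iff.1 (Helper85_Transport2.isMapOn_of_isSubsystemOf h.hsub hg)
      obtain ⟨-, x, hxH, hx⟩ := (isMapOn_subgroup_iff h.T_le_H).1 hf
      have hkey : ∀ y ∈ U, ∃ z ∈ U, k⁻¹ * x * k * y * (k⁻¹ * x * k)⁻¹ = z ∧ g z = f (g y) := by
        intro y hy
        obtain ⟨z, hz, hzy⟩ := (hI _).1 (hfU _ (hI.mem hy))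
        refine ⟨z, hz, ?_, hzy⟩
        have e1 : f (g y) = x * (k * y * k⁻¹) * x⁻¹ := by
          rw [(hx _ (hI.mem hy)).1, (hk y hy).1]
        have e2 : g z = k * z * k⁻¹ := (hk z hz).1
        have e3 : k * z * k⁻¹ = x * (k * y * k⁻¹) * x⁻¹ := by rw [← e2, hzy, e1]
        calc k⁻¹ * x * k * y * (k⁻¹ * x * k)⁻¹ = k⁻¹ * (x * (k * y * k⁻¹) * x⁻¹) * k := by group
          _ = k⁻¹ * (k * z * k⁻¹) * k := by rw [e3]
          _ = z := by group
      refine ⟨fun y => k⁻¹ * x * k * y * (k⁻¹ * x * k)⁻¹, ?_, ?_⟩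
      · refine (isMapOn_subgroup_iff h.T_le_H).2 ⟨hU, k⁻¹ * x * k, ?_, fun y hy => ⟨rfl, ?_⟩⟩
        · have := hHn.conj_mem x hxH k⁻¹
          rwa [inv_inv] at this
        · obtain ⟨z, hz, hzy, -⟩ := hkey y hy
          rw [hzy]
          exact hU hz
      · intro y hy
        obtain ⟨z, hz, hzy, hgz⟩ := hkey y hy
        simp only
        rw [hzy]
        exact ⟨hz, hgz⟩
    · intro f hf
      obtain ⟨x, hx, hxf⟩ := h.exists_H_conj hf
      exact (isMapOn_subgroup_iff h.T_le_H).2 ⟨le_rfl, x, hx, fun t ht =>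
        ⟨hxf t ht, hxf t ht ▸ hf.mem ht⟩⟩
  -- `F_T(H) ⊆ E`
  have h2 : ∀ (P : Subgroup G) (f : G → G), IsMapOn (fusionSystemOfSubgroup h.H T h.T_le_H) P f →
      IsMapOn E P f := by
    refine isMapOn_of_stable h.hTp _ E hsat' ?_ ?_
    · intro U U' g f hg hI hf hfU
      have hU : U ≤ T := hg.le
      obtain ⟨-, x, -, hx⟩ := (isMapOn_subgroup_iff h.T_le_H).1 hg
      have hgF : IsMapOn (groupFusionSystem (S : Subgroup G)) U g :=
        isMapOn_group_iff.2 ⟨hU.trans h.hTS, x, fun y hy => ⟨(hx y hy).1, h.hTS (hx y hy).2⟩⟩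
      exact stable_of_invariant h.hinv hU hgF hI hf hfU
    · intro f hf
      obtain ⟨-, x, hxH, hx⟩ := (isMapOn_subgroup_iff h.T_le_H).1 hf
      exact (h.isMapOn_of_mem_H hxH (fun t ht => (hx t ht).2)).congr (fun t ht => (hx t ht).1.symm)
  ext φ
  rw [mem_hom_iff_isMapOn E φ, mem_hom_iff_isMapOn _ φ]
  exact ⟨h1 P _, h2 P _⟩

end Setting

end Cfsg.Agent.Lib.Helper85_ConstrainedNormal
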