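import Mathlib
import Cfsg.Agent.Lib.Helper34_G2InvDefs
import Cfsg.Agent.Lib.Helper34_G2InvBasic
import Cfsg.Agent.Lib.Helper85_G2I_MUL

/-!
# S2177 market (architect helper34): package CJ (second seat)

Conjugation of a normal form `PW X s t c d e f` by a root element `X r y`, `r = 6, …, 10`:
`X r y = PW (… y …)`, `(X r y)⁻¹ = X r y` (characteristic 2), then MUL twice and a polynomial
identity in characteristic 2.
-/

set_option autoImplicit false
set_option linter.unusedSectionVars false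
set_option linter.unusedVariables false

namespace Cfsg.Agent.Lib.Helper85_G2I_CJ

open Cfsg Cfsg.Lie Cfsg.Agent.Lib.Helper34_G2InvDefs Cfsg.Agent.Lib.Helper34_G2InvBasic
open Cfsg.Agent.Lib.Helper85_G2I_MUL

variable {F : Type*} [Field F] [CharP F 2] {Γ : Type*} [Group Γ] {X : ℕ → F → Γ}

/-- congruence for `PW` -/
lemma PW_congr {s t c d e f s' t' c' d' e' f' : F} (hs : s = s') (ht : t = t') (hc : c = c')
    (hd : d = d') (he : e = e') (hf : f = f') :
    PW X s t c d e f = PW X s' t' c' d' e' f' := by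
  rw [hs, ht, hc, hd, he, hf]

theorem CJ6 (h : URel X) (s t c d e f y : F) :
    X 6 y * PW X s t c d e f * (X 6 y)⁻¹ =
      PW X s t (c + t * y) (d + t ^ 2 * y) (e + t ^ 3 * y) (f + e * y + t ^ 2 * c * y) := by
  have h2 : (2 : F) = 0 := CharTwo.two_eq_zero
  rw [X_inv h, ← PW_6 h y, MUL h, MUL h]
  apply PW_congr
  · linear_combination y * h2
  · ring
  · ring
  · ring
  · ring
  · ring

theorem CJ7 (h : URel X) (s t c d e f y : F) :
    X 7 y * PW X s t c d e f * (X 7 y)⁻¹ =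
      PW X s t (c + s * y) (d + s * y ^ 2)
        (e + d * y + c * y ^ 2 + s * y ^ 3 + s * t * y ^ 2 + s * t ^ 2 * y)
        (f + c ^ 2 * y + s * c * y ^ 2 + s ^ 2 * y ^ 3 + s ^ 2 * t * y ^ 2) := by
  have h2 : (2 : F) = 0 := CharTwo.two_eq_zero
  rw [X_inv h, ← PW_7 h y, MUL h, MUL h]
  apply PW_congr
  · ring
  · linear_combination y * h2
  · ring
  · ring
  · linear_combination (s * y ^ 3) * h2
  · linear_combination (c * s * y ^ 2) * h2

theorem CJ8 (h : URel X) (s t c d e f y : F) :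
    X 8 y * PW X s t c d e f * (X 8 y)⁻¹ =
      PW X s t c d (e + t ^ 2 * y) (f + d * y + t * y ^ 2) := by
  have h2 : (2 : F) = 0 := CharTwo.two_eq_zero
  rw [X_inv h, ← PW_8 h y, MUL h, MUL h]
  apply PW_congr
  · ring
  · ring
  · linear_combination y * h2
  · ring
  · ring
  · ring

theorem CJ9 (h : URel X) (s t c d e f y : F) :
    X 9 y * PW X s t c d e f * (X 9 y)⁻¹ = PW X s t c d (e + t * y) (f + c * y) := by
  have h2 : (2 : F) = 0 := CharTwo.two_eq_zero
  rw [X_inv h, ← PW_9 h y, MUL h, MUL h]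
  apply PW_congr
  · ring
  · ring
  · ring
  · linear_combination y * h2
  · ring
  · ring

theorem CJ10 (h : URel X) (s t c d e f y : F) :
    X 10 y * PW X s t c d e f * (X 10 y)⁻¹ = PW X s t c d e (f + s * y) := by
  have h2 : (2 : F) = 0 := CharTwo.two_eq_zero
  rw [X_inv h, ← PW_10 h y, MUL h, MUL h]
  apply PW_congr
  · ring
  · ring
  · ring
  · ring
  · linear_combination y * h2
  · ring

/-- CJ (M; dep MUL).  Conjugation of a normal form by a root element `X r y`, `r = 6, …, 10`. -/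
theorem CJ (h : URel X) (s t c d e f y : F) :
    (X 6 y * PW X s t c d e f * (X 6 y)⁻¹ =
      PW X s t (c + t * y) (d + t ^ 2 * y) (e + t ^ 3 * y) (f + e * y + t ^ 2 * c * y)) ∧
    (X 7 y * PW X s t c d e f * (X 7 y)⁻¹ =
      PW X s t (c + s * y) (d + s * y ^ 2)
        (e + d * y + c * y ^ 2 + s * y ^ 3 + s * t * y ^ 2 + s * t ^ 2 * y)
        (f + c ^ 2 * y + s * c * y ^ 2 + s ^ 2 * y ^ 3 + s ^ 2 * t * y ^ 2)) ∧
    (X 8 y * PW X s t c d e f * (X 8 y)⁻¹ =
      PW X s t c d (e + t ^ 2 * y) (f + d * y + t * y ^ 2)) ∧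
    (X 9 y * PW X s t c d e f * (X 9 y)⁻¹ = PW X s t c d (e + t * y) (f + c * y)) ∧
    (X 10 y * PW X s t c d e f * (X 10 y)⁻¹ = PW X s t c d e (f + s * y)) :=
  ⟨CJ6 h s t c d e f y, CJ7 h s t c d e f y, CJ8 h s t c d e f y, CJ9 h s t c d e f y,
    CJ10 h s t c d e f y⟩

end Cfsg.Agent.Lib.Helper85_G2I_CJ
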