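import Mathlib
import Cfsg.Agent.Lib.Helper34_G2InvDefs
import Cfsg.Agent.Lib.Helper34_G2InvBasic
import Cfsg.Agent.Lib.Helper85_G2I_CJ

/-!
# S2177 market (architect helper34): package REDB (second seat)

Case `s = 0`, `t ≠ 0`: the involution `PW 0 t c (c t) e f` is conjugate to `X 9 1` by the chain
CJ(6), CJ(8) (with a square root), CJ(9), `nb`, `na`, torus.
-/

set_option autoImplicit false
set_option linter.unusedSectionVars false
set_option linter.unusedVariables false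

namespace Cfsg.Agent.Lib.Helper85_G2I_REDB

open Cfsg Cfsg.Lie Cfsg.Agent.Lib.Helper34_G2InvDefs Cfsg.Agent.Lib.Helper34_G2InvBasic
open Cfsg.Agent.Lib.Helper85_G2I_CJ

variable {F : Type*} [Field F] [CharP F 2] {Γ : Type*} [Group Γ] {X : ℕ → F → Γ}

variable {na nb : Γ} {K : Subgroup Γ}

/-- one conjugation step -/
lemma conjIn_of_eq {y u v : Γ} (hy : y ∈ K) (e : y * u * y⁻¹ = v) : ConjIn K u v := ⟨y, hy, e⟩

/-- a conjugation step from a relation `n * u = v * n` -/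
lemma conjIn_of_mul_eq {n u v : Γ} (hn : n ∈ K) (e : n * u = v * n) : ConjIn K u v :=
  ⟨n, hn, by rw [e, mul_inv_cancel_right]⟩

/-- REDB (M; dep CJ).  Case `s = 0`, `t ≠ 0`. -/
theorem REDB (hsq : ∀ x : F, ∃ y, y * y = x) (h : URel X) (hw : WRel X na nb)
    (hX : ∀ r t, X r t ∈ K) (hna : na ∈ K) (hnb : nb ∈ K)
    (hs9 : ∀ t : F, t ≠ 0 → ConjIn K (X 9 t) (X 9 1))
    (t c e f : F) (ht : t ≠ 0) :
    ConjIn K (PW X 0 t c (c * t) e f) (X 9 1) := by
  have h2 : (2 : F) = 0 := CharTwo.two_eq_zero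
  -- step 1: conjugate by X 6 (c / t)
  set y1 : F := c / t with hy1
  have hty1 : t * y1 = c := by rw [hy1]; field_simp
  set e1 : F := e + t ^ 3 * y1 with he1
  set f1 : F := f + e * y1 + t ^ 2 * c * y1 with hf1
  have s1 : ConjIn K (PW X 0 t c (c * t) e f) (PW X 0 t 0 0 e1 f1) := by
    refine conjIn_of_eq (hX 6 y1) ?_
    rw [CJ6 h]
    apply PW_congr rfl rfl
    · rw [hty1]; exact CharTwo.add_self_eq_zero c
    · have : t ^ 2 * y1 = c * t := by rw [pow_two, mul_assoc, hty1, mul_comm]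
      rw [this]; exact CharTwo.add_self_eq_zero _
    · rfl
    · rfl
  -- step 2: conjugate by X 8 y2, y2 * y2 = f1 / t
  obtain ⟨y2, hy2⟩ := hsq (f1 / t)
  have hty2 : t * y2 ^ 2 = f1 := by rw [pow_two, hy2]; field_simp
  set e2 : F := e1 + t ^ 2 * y2 with he2
  have s2 : ConjIn K (PW X 0 t 0 0 e1 f1) (PW X 0 t 0 0 e2 0) := by
    refine conjIn_of_eq (hX 8 y2) ?_
    rw [CJ8 h]
    apply PW_congr rfl rfl rfl rfl rfl
    rw [hty2, zero_mul, add_zero]; exact CharTwo.add_self_eq_zero _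
  -- step 3: conjugate by X 9 (e2 / t)
  set y3 : F := e2 / t with hy3
  have hty3 : t * y3 = e2 := by rw [hy3]; field_simp
  have s3 : ConjIn K (PW X 0 t 0 0 e2 0) (X 7 t) := by
    refine conjIn_of_eq (hX 9 y3) ?_
    rw [CJ9 h, ← PW_7 h t]
    apply PW_congr rfl rfl rfl rfl
    · rw [hty3]; exact CharTwo.add_self_eq_zero _
    · rw [zero_mul, add_zero]
  -- step 4, 5: Weyl elements
  have s4 : ConjIn K (X 7 t) (X 8 t) := conjIn_of_mul_eq hnb (hw.b7 t)
  have s5 : ConjIn K (X 8 t) (X 9 t) := conjIn_of_mul_eq hna (hw.a8 t)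
  exact s1.trans (s2.trans (s3.trans (s4.trans (s5.trans (hs9 t ht)))))

end Cfsg.Agent.Lib.Helper85_G2I_REDB
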