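import Mathlib
import Cfsg.Agent.Lib.Helper34_G2InvDefs
import Cfsg.Agent.Lib.Helper34_G2InvBasic
import Cfsg.Agent.Lib.Helper85_G2I_L6
import Cfsg.Agent.Lib.Helper85_G2I_MUL
import Cfsg.Agent.Lib.Helper85_G2I_CJ
import Cfsg.Agent.Lib.Helper95_G2I_SQaux
import Cfsg.Agent.Lib.Helper58_G2I_NC2aux
import Cfsg.Agent.Lib.Helper58_G2I_REDA2aux

/-!
# S2177 market (architect helper34): verbatim wrappers SQ, NC2, REDA2 (second seat)

The cores are `Helper95_G2I_SQaux.SQ_aux`, `Helper58_G2I_NC2aux.NC2_aux`,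
`Helper58_G2I_REDA2aux.REDA2_aux`; the dependencies MUL, L6, CJ are
`Helper85_G2I_MUL.MUL`, `Helper85_G2I_L6.L6`, `Helper85_G2I_CJ.CJ`.
-/

set_option autoImplicit false
set_option linter.unusedSectionVars false
set_option linter.unusedVariables false

namespace Cfsg.Agent.Lib.Helper85_G2I_WRAP

open Cfsg Cfsg.Lie Cfsg.Agent.Lib.Helper34_G2InvDefs Cfsg.Agent.Lib.Helper34_G2InvBasic

variable {F : Type*} [Field F] [CharP F 2] {Γ : Type*} [Group Γ] {X : ℕ → F → Γ}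

/-- SQ (M; dep MUL).  Involutions of `U`. -/
theorem SQ (h : URel X) (hinj : PWInj X) (s t c d e f : F)
    (hsq : PW X s t c d e f * PW X s t c d e f = 1) :
    (t = 0 ∧ s * e = c * d) ∨ (s = 0 ∧ t ≠ 0 ∧ d = c * t) :=
  Cfsg.Agent.Lib.Helper95_G2I_SQaux.SQ_aux
    (fun s t c d e f s' t' c' d' e' f' =>
      Cfsg.Agent.Lib.Helper85_G2I_MUL.MUL h s t c d e f s' t' c' d' e' f')
    h hinj s t c d e f hsq

variable {na nb : Γ} {K : Subgroup Γ}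

/-- REDA2 (L; dep CJ).  Case `t = 0`, `s = 0`. -/
theorem REDA2 (hsq : ∀ x : F, ∃ y, y * y = x) (h : URel X) (hw : WRel X na nb)
    (hX : ∀ r t, X r t ∈ K) (hna : na ∈ K) (hnb : nb ∈ K)
    (hs9 : ∀ t : F, t ≠ 0 → ConjIn K (X 9 t) (X 9 1))
    (hs11 : ∀ t : F, t ≠ 0 → ConjIn K (X 11 t) (X 11 1))
    (c d e f : F) (hcd : c * d = 0) (hne : PW X 0 0 c d e f ≠ 1) :
    ConjIn K (PW X 0 0 c d e f) (X 11 1) ∨ ConjIn K (PW X 0 0 c d e f) (X 9 1) :=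
  Cfsg.Agent.Lib.Helper58_G2I_REDA2aux.REDA2_aux hsq h hw
    (fun s t c d e f y => Cfsg.Agent.Lib.Helper85_G2I_CJ.CJ h s t c d e f y)
    hX hna hnb hs9 hs11 c d e f hcd hne

/-- NC2 (M; dep MUL).  A `U`-conjugate of a long positive root element is not `X 9 1`. -/
theorem NC2 (h : URel X) (hinj : PWInj X) (s t c d e f a : F) (ha : a ≠ 0) (r : ℕ)
    (hr : r = 6 ∨ r = 10 ∨ r = 11) :
    PW X s t c d e f * X r a * (PW X s t c d e f)⁻¹ ≠ X 9 1 :=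
  Cfsg.Agent.Lib.Helper58_G2I_NC2aux.NC2_aux h hinj
    (fun s t c d e f s' t' c' d' e' f' =>
      Cfsg.Agent.Lib.Helper85_G2I_MUL.MUL h s t c d e f s' t' c' d' e' f')
    (fun s t c d e f a => Cfsg.Agent.Lib.Helper85_G2I_L6.L6 h s t c d e f a)
    s t c d e f a ha r hr

end Cfsg.Agent.Lib.Helper85_G2I_WRAP
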