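import Mathlib
import Cfsg.Agent.Lib.Helper40_ChevGreenDefs
import Cfsg.Prelude.Def_ChevG2
import Cfsg.Prelude.Def_ChevB2
import Cfsg.Prelude.Def_ChevD4
import Cfsg.Prelude.Def_ChevF4
import Cfsg.Prelude.Def_ChevE6
import Cfsg.Prelude.Def_ChevE7
import Cfsg.Prelude.Def_ChevE8

/-!
# Green market (architect helper40, target S2441), package GC-ROOTS

Elementary facts on the root data of the seven exceptional / small Chevalley data, by seven finite
checks (`decide +kernel` on a bounded, decidable reformulation `RootsOK D`); no certificates needed.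
-/

set_option autoImplicit false
set_option linter.unusedSectionVars false
set_option linter.unusedVariables false

namespace Cfsg.Agent.Lib.Helper85_GR_GCROOTS

open Cfsg Cfsg.Lie Cfsg.Agent.Lib.Helper40_ChevDZDefs Cfsg.Agent.Lib.Helper40_ChevGreenDefs

/-- the bounded (decidable) form of the statement -/
def RootsOK (D : ChevalleyDatum) : Prop :=
  (∀ r, r < D.nroots → D.IsPosRoot r ∨ D.IsNegRoot r) ∧
  (∀ r, r < D.nroots → D.IsPosRoot r → ¬ D.IsNegRoot r) ∧
  (∀ i, i < D.rank → D.IsPosRoot (D.simple i)) ∧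
  (∀ i, i < D.rank → ∀ r, r < D.nroots → D.IsPosRoot r → r ≠ D.simple i →
    D.IsPosRoot (D.reflectRoot i r) ∧ D.reflectRoot i r ≠ D.simple i) ∧
  (∀ i, i < D.rank → ∀ r, r < D.nroots → D.reflectRoot i (D.reflectRoot i r) = r) ∧
  (∀ i, i < D.rank → ∀ j, j < D.rank → i ≠ j → D.simple i ≠ D.simple j)

set_option synthInstance.maxSize 4000 in
set_option synthInstance.maxHeartbeats 400000 in
instance instDecRootsOK (D : ChevalleyDatum) : Decidable (RootsOK D) := by
  unfold RootsOK
  infer_instance

set_option maxRecDepth 100000 in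
theorem rootsOK_G2 : RootsOK chevG2 := by decide +kernel

set_option maxRecDepth 100000 in
theorem rootsOK_B2 : RootsOK chevB2 := by decide +kernel

set_option maxRecDepth 100000 in
theorem rootsOK_D4 : RootsOK chevD4 := by decide +kernel

set_option maxRecDepth 100000 in
theorem rootsOK_F4 : RootsOK chevF4 := by decide +kernel

set_option maxRecDepth 100000 in
theorem rootsOK_E6 : RootsOK chevE6 := by decide +kernel

set_option maxRecDepth 100000 in
theorem rootsOK_E7 : RootsOK chevE7 := by decide +kernel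

set_option maxRecDepth 100000 in
theorem rootsOK_E8 : RootsOK chevE8 := by decide +kernel

theorem rootsOK_all (D : ChevalleyDatum)
    (hD : D ∈ [chevG2, chevB2, chevD4, chevF4, chevE6, chevE7, chevE8]) : RootsOK D := by
  simp only [List.mem_cons, List.not_mem_nil, or_false] at hD
  rcases hD with rfl | rfl | rfl | rfl | rfl | rfl | rfl
  · exact rootsOK_G2
  · exact rootsOK_B2
  · exact rootsOK_D4
  · exact rootsOK_F4
  · exact rootsOK_E6
  · exact rootsOK_E7
  · exact rootsOK_E8

variable (D : ChevalleyDatum)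
  (hD : D ∈ [chevG2, chevB2, chevD4, chevF4, chevE6, chevE7, chevE8]) {F : Type*} [Field F]
include hD

/- GC-ROOTS (size S/M) -/
theorem ch_roots :
    (∀ r, r < D.nroots → D.IsPosRoot r ∨ D.IsNegRoot r) ∧
    (∀ r, D.IsPosRoot r → ¬ D.IsNegRoot r) ∧
    (∀ i, i < D.rank → D.IsPosRoot (D.simple i)) ∧
    (∀ i, i < D.rank → ∀ r, D.IsPosRoot r → r ≠ D.simple i →
      D.IsPosRoot (D.reflectRoot i r) ∧ D.reflectRoot i r ≠ D.simple i) ∧
    (∀ i, i < D.rank → ∀ r, r < D.nroots → D.reflectRoot i (D.reflectRoot i r) = r) ∧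
    (∀ i, i < D.rank → ∀ j, j < D.rank → cAdj D i j → D.simple i ≠ D.simple j) := by
  obtain ⟨h1, h2, h3, h4, h5, h6⟩ := rootsOK_all D hD
  exact ⟨h1, fun r hr => h2 r hr.1 hr, h3, fun i hi r hr hne => h4 i hi r hr.1 hr hne, h5,
    fun i hi j hj hadj => h6 i hi j hj hadj.1⟩

end Cfsg.Agent.Lib.Helper85_GR_GCROOTS
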