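import Mathlib
import Cfsg.Agent.Lib.Helper40_ChevGreenDefs
import Cfsg.Prelude.Def_ChevG2
import Cfsg.Prelude.Def_ChevB2
import Cfsg.Prelude.Def_ChevD4
import Cfsg.Prelude.Def_ChevF4
import Cfsg.Prelude.Def_ChevE6
import Cfsg.Prelude.Def_ChevE7
import Cfsg.Prelude.Def_ChevE8

/-!
# Green market (architect helper40, target S2441), package GC-SUB2

`s_i(α_j)` lies in the rank 2 subsystem spanned by `α_i`, `α_j`: seven finite checks
(`decide +kernel` on a bounded, decidable reformulation `Sub2OK D`); no certificates needed.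
-/

set_option autoImplicit false
set_option linter.unusedSectionVars false
set_option linter.unusedVariables false

namespace Cfsg.Agent.Lib.Helper85_GR_GCSUB2

open Cfsg Cfsg.Lie Cfsg.Agent.Lib.Helper40_ChevDZDefs Cfsg.Agent.Lib.Helper40_ChevGreenDefs

/-- the bounded (decidable) form of the statement -/
def Sub2OK (D : ChevalleyDatum) : Prop :=
  ∀ i, i < D.rank → ∀ j, j < D.rank →
    D.reflectRoot i (D.simple j) < D.nroots ∧
      ∀ k, k < D.rank → k ≠ i → k ≠ j →
        (D.coroot.getD (D.reflectRoot i (D.simple j)) #[]).getD k 0 = 0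

set_option synthInstance.maxSize 4000 in
set_option synthInstance.maxHeartbeats 400000 in
instance instDecSub2OK (D : ChevalleyDatum) : Decidable (Sub2OK D) := by
  unfold Sub2OK
  infer_instance

set_option maxRecDepth 100000 in
theorem sub2OK_G2 : Sub2OK chevG2 := by decide +kernel

set_option maxRecDepth 100000 in
theorem sub2OK_B2 : Sub2OK chevB2 := by decide +kernel

set_option maxRecDepth 100000 in
theorem sub2OK_D4 : Sub2OK chevD4 := by decide +kernel

set_option maxRecDepth 100000 in
theorem sub2OK_F4 : Sub2OK chevF4 := by decide +kernel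

set_option maxRecDepth 100000 in
theorem sub2OK_E6 : Sub2OK chevE6 := by decide +kernel

set_option maxRecDepth 100000 in
theorem sub2OK_E7 : Sub2OK chevE7 := by decide +kernel

set_option maxRecDepth 100000 in
theorem sub2OK_E8 : Sub2OK chevE8 := by decide +kernel

theorem sub2OK_all (D : ChevalleyDatum)
    (hD : D ∈ [chevG2, chevB2, chevD4, chevF4, chevE6, chevE7, chevE8]) : Sub2OK D := by
  simp only [List.mem_cons, List.not_mem_nil, or_false] at hD
  rcases hD with rfl | rfl | rfl | rfl | rfl | rfl | rfl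
  · exact sub2OK_G2
  · exact sub2OK_B2
  · exact sub2OK_D4
  · exact sub2OK_F4
  · exact sub2OK_E6
  · exact sub2OK_E7
  · exact sub2OK_E8

variable (D : ChevalleyDatum)
  (hD : D ∈ [chevG2, chevB2, chevD4, chevF4, chevE6, chevE7, chevE8]) {F : Type*} [Field F]
include hD

/- GC-SUB2 (size S/M) -/
theorem ch_refl_sub2 : ∀ i, i < D.rank → ∀ j, j < D.rank →
    cSub2 D i j (D.reflectRoot i (D.simple j)) := by
  intro i hi j hj
  obtain ⟨h1, h2⟩ := sub2OK_all D hD i hi j hj
  refine ⟨h1, ?_⟩
  intro k hk hkJ
  have hki : k ≠ i := fun e => hkJ (by rw [e]; exact Set.mem_insert i {j})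
  have hkj : k ≠ j := fun e => hkJ (by rw [e]; exact Set.mem_insert_of_mem i (Set.mem_singleton j))
  exact h2 k hk hki hkj

end Cfsg.Agent.Lib.Helper85_GR_GCSUB2
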