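import Cfsg.Agent.S5120
import Cfsg.Agent.S5139
import Cfsg.Agent.S5119
import Cfsg.Agent.S5111
import Cfsg.Agent.S5104
import Cfsg.Agent.Lib.Helper85_Fusion
import Cfsg.Agent.Lib.Helper85_GroupFusion
import Cfsg.Agent.Lib.Helper87_Alperin
import Cfsg.Agent.Lib.Helper88_Centric
import Cfsg.Agent.Lib.Helper88_Centric2
import Cfsg.Agent.Lib.Helper88_Essential
import Cfsg.Agent.Lib.Helper84_FusionRS
import Cfsg.Agent.Lib.Helper84_FusionSat
import Cfsg.Agent.Lib.Helper84_FusionAlperin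
import Cfsg.Agent.Lib.Helper34_Sylow

/-!
# Subsystems of index prime to `p` from automizers of centric subgroups (helper85)

helper85's own development of the Frattini decomposition `F = Aut_F(S) · E₀` (an independent proof of
statement S5114, which helper88 landed first): `genSystem F p` (generated by the `p`-elements of the
automizers of the centric subgroups), `Good`, `InvHyp`, `Gf2`, `frSystem2`, `le_frSystem2`,
`gf2_of_isMapOn_F`, `pe_mem`, `centric_iff`, `index_main`.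
-/


set_option autoImplicit false
set_option linter.style.haveILetI false
open Cfsg

namespace Cfsg.Agent.Lib.Helper85_Index

open Cfsg.FusionSystem Cfsg.Agent.Lib
open Cfsg.Agent.Lib.Helper87_Alperin (IsMapOn extFun extHom)
open Cfsg.Agent.Lib.Helper88_Centric (IsImage)
open Cfsg.Agent.S5120 (Adm Gi invSystem)

section
variable {Ω : Type*} [Group Ω] {S : Subgroup Ω}

/-! ### The `p`-elements of `Aut_F(P)` -/

/-- The elements of `p`-power order of `Aut_F(P)`. -/
def PE (F : FusionSystem S) (p : ℕ) (P : Subgroup Ω) : Set (MulAut P) :=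
  {β : MulAut P | β ∈ F.autGroup P ∧ ∃ k : ℕ, orderOf β = p ^ k}

theorem map_closure_pe (F : FusionSystem S) (p : ℕ) (P : Subgroup Ω) :
    (Subgroup.closure {α : ↥(F.autGroup P) | ∃ k : ℕ, orderOf α = p ^ k}).map
      (F.autGroup P).subtype = Subgroup.closure (PE F p P) := by
  rw [MonoidHom.map_closure]
  congr 1
  ext β
  constructor
  · rintro ⟨α, ⟨k, hk⟩, rfl⟩
    refine ⟨α.2, k, ?_⟩
    rw [← hk]
    exact Subgroup.orderOf_coe α
  · rintro ⟨hβ, k, hk⟩
    refine ⟨⟨β, hβ⟩, ⟨k, ?_⟩, rfl⟩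
    rw [← hk]
    exact (Subgroup.orderOf_coe (⟨β, hβ⟩ : F.autGroup P)).symm

/-! ### The subsystem generated by the `p`-elements of the automizers of centric subgroups -/

/-- A system containing the `p`-elements of `Aut_F(P)` for every `F`-centric `P`. -/
def Good (F : FusionSystem S) (p : ℕ) (E' : FusionSystem S) : Prop :=
  ∀ P : Subgroup Ω, F.IsCentric P → Subgroup.closure (PE F p P) ≤ E'.autGroup P

/-- The predicate cutting out the generated system. -/
def Gg (F : FusionSystem S) (p : ℕ) (P : Subgroup Ω) (f : Ω → Ω) : Prop :=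
  ∀ E' : FusionSystem S, Good F p E' → IsMapOn E' P f

variable {F : FusionSystem S} {p : ℕ}

theorem gg_congr {P : Subgroup Ω} {f g : Ω → Ω} (h : Gg F p P f) (hfg : ∀ x ∈ P, f x = g x) :
    Gg F p P g := fun E' hE' => (h E' hE').congr hfg

theorem gg_conj {P : Subgroup Ω} {a : Ω} (hP : P ≤ S) (ha : a ∈ S) :
    Gg F p P (fun x => a * x * a⁻¹) := fun E' _ => IsMapOn.conj E' hP ha

theorem gg_comp {P R : Subgroup Ω} {f g : Ω → Ω} (_ : IsMapOn F P f) (hGf : Gg F p P f)
    (_ : IsMapOn F R g) (hGg : Gg F p R g) (hfR : ∀ x ∈ P, f x ∈ R) : Gg F p P (g ∘ f) :=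
  fun E' hE' => (hGf E' hE').comp (hGg E' hE') hfR

theorem gg_inv {P P' : Subgroup Ω} {f g : Ω → Ω} (_ : IsMapOn F P f) (hGf : Gg F p P f)
    (himg : IsImage P f P') (_ : IsMapOn F P' g) (hgf : ∀ x ∈ P, g (f x) = x) : Gg F p P' g := by
  intro E' hE'
  obtain ⟨k, hk, hk1, -, -⟩ := (hGf E' hE').inv himg
  refine hk.congr fun y hy => ?_
  obtain ⟨x, hx, rfl⟩ := (himg y).1 hy
  rw [hk1 x hx, hgf x hx]

/-- The smallest system containing the `p`-elements of `Aut_F(P)` for every `F`-centric `P`. -/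
def genSystem (F : FusionSystem S) (p : ℕ) : FusionSystem S :=
  Helper88_Essential.subsystemOf F (Gg F p) gg_congr gg_conj gg_comp gg_inv

theorem genSystem_le_F : (genSystem F p).IsSubsystemOf F := fun _ _ h => h.1

theorem autGroup_le_of_le {E₁ E₂ : FusionSystem S} (h : E₁.IsSubsystemOf E₂) (P : Subgroup Ω) :
    E₁.autGroup P ≤ E₂.autGroup P := Cfsg.Agent.S5139.autGroup_mono h P

theorem good_F : Good F p F := by
  intro P _
  rw [Subgroup.closure_le]
  intro β hβ
  exact hβ.1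

theorem genSystem_good : Good F p (genSystem F p) := by
  intro P hP
  have hPS : P ≤ S := hP.1
  rw [Subgroup.closure_le]
  intro β hβ
  apply Subgroup.subset_closure
  refine ⟨(Helper87_Alperin.mem_autGroup_iff' F hPS β).1 hβ.1, fun E' hE' => ?_⟩
  have h1 : β ∈ E'.autGroup P := hE' P hP (Subgroup.subset_closure hβ)
  refine ((Helper87_Alperin.mem_autGroup_iff E' hPS β).1 h1).congr fun x hx => ?_
  rw [Helper87_Alperin.extFun_apply _ hx, Helper87_Alperin.extHom_apply _ hx]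
  rfl

theorem genSystem_le {E' : FusionSystem S} (hE' : Good F p E') :
    (genSystem F p).IsSubsystemOf E' := by
  intro P φ hφ
  exact (Helper87_Alperin.mem_hom_iff_isMapOn E' φ).2 (hφ.2 E' hE')

theorem isMapOn_of_le {E₁ E₂ : FusionSystem S} (h : E₁.IsSubsystemOf E₂) {P : Subgroup Ω}
    {f : Ω → Ω} (hf : IsMapOn E₁ P f) : IsMapOn E₂ P f := by
  obtain ⟨φ, hφ, hφf⟩ := hf
  exact ⟨φ, h P hφ, hφf⟩

/-! ### Transport of automorphisms along an isomorphism of the system -/

theorem exists_equiv_of_isMapOn {P P' : Subgroup Ω} {f : Ω → Ω} (hf : IsMapOn F P f)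
    (himg : IsImage P f P') : ∃ e : P ≃* P', ∀ x : P, ((e x : P') : Ω) = f x := by
  let f' : P →* P' :=
    { toFun := fun x => ⟨f x, himg.mem x.2⟩
      map_one' := Subtype.ext hf.map_one
      map_mul' := fun x y => Subtype.ext (hf.map_mul x.2 y.2) }
  have hbij : Function.Bijective f' := by
    constructor
    · intro x y hxy
      have h1 : f x = f y := congrArg Subtype.val hxy
      exact Subtype.ext (hf.injOn x.2 y.2 h1)
    · rintro ⟨y, hy⟩
      obtain ⟨x, hx, rfl⟩ := (himg y).1 hy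
      exact ⟨⟨x, hx⟩, rfl⟩
  exact ⟨MulEquiv.ofBijective f' hbij, fun x => rfl⟩

theorem transport_aut {P P' : Subgroup Ω} {f k : Ω → Ω} (hf : IsMapOn F P f)
    (hk : IsMapOn F P' k) (himg : IsImage P f P') (hkf : ∀ x ∈ P, k (f x) = x)
    (e : P ≃* P') (he : ∀ x : P, ((e x : P') : Ω) = f x) (β : MulAut P) (hβ : β ∈ F.autGroup P) :
    MulAut.congr e β ∈ F.autGroup P' ∧
      ∀ y, y ∈ P' → extFun (MulAut.congr e β) y = f (extFun β (k y)) := by
  have hPS : P ≤ S := hf.le
  have hP'S : P' ≤ S := hk.le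
  have hkmem : ∀ y ∈ P', k y ∈ P := by
    intro y hy
    obtain ⟨x, hx, rfl⟩ := (himg y).1 hy
    rw [hkf x hx]
    exact hx
  have hsymm : ∀ y : P', ((e.symm y : P) : Ω) = k y := by
    intro y
    have h1 : f ((e.symm y : P) : Ω) = y := by rw [← he, MulEquiv.apply_symm_apply]
    have h2 := hkf _ (e.symm y).2
    rw [h1] at h2
    exact h2.symm
  have hval : ∀ y, y ∈ P' → extFun (MulAut.congr e β) y = f (extFun β (k y)) := by
    intro y hy
    rw [Helper87_Alperin.extFun_apply _ hy, ← hsymm ⟨y, hy⟩, Helper87_Alperin.extFun_coe]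
    exact he _
  refine ⟨?_, hval⟩
  rw [Helper87_Alperin.mem_autGroup_iff F hP'S]
  have h2 : IsMapOn F P (extFun β) := (Helper87_Alperin.mem_autGroup_iff F hPS β).1 hβ
  refine ((hk.comp h2 hkmem).comp hf
    (fun y hy => Helper87_Alperin.extFun_mem β (hkmem y hy))).congr fun y hy => ?_
  simp only [Function.comp_apply]
  exact (hval y hy).symm

/-! ### Invariance of the generated system -/

theorem adm_id : Adm F S (fun x => x) (fun x => x) where
  map := IsMapOn.id F le_rfl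
  map' := IsMapOn.id F le_rfl
  mem := fun _ hx => hx
  mem' := fun _ hx => hx
  left := fun _ _ => rfl
  right := fun _ _ => rfl

theorem adm_comp {a₁ a₁' a₂ a₂' : Ω → Ω} (h₁ : Adm F S a₁ a₁') (h₂ : Adm F S a₂ a₂') :
    Adm F S (a₂ ∘ a₁) (a₁' ∘ a₂') where
  map := h₁.map.comp h₂.map h₁.mem
  map' := h₂.map'.comp h₁.map' h₂.mem'
  mem := fun x hx => h₂.mem _ (h₁.mem x hx)
  mem' := fun x hx => h₁.mem' _ (h₂.mem' x hx)
  left := fun x hx => by
    simp only [Function.comp_apply]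
    rw [h₂.left _ (h₁.mem x hx), h₁.left x hx]
  right := fun x hx => by
    simp only [Function.comp_apply]
    rw [h₁.right _ (h₂.mem' x hx), h₂.right x hx]

theorem good_invSystem [Finite S] : Good F p (invSystem F (genSystem F p)) := by
  intro P hP
  have hPS : P ≤ S := hP.1
  rw [Subgroup.closure_le]
  intro β hβ
  apply Subgroup.subset_closure
  have h0 : β ∈ (genSystem F p).autGroup P := genSystem_good P hP (Subgroup.subset_closure hβ)
  refine ⟨(Helper87_Alperin.mem_autGroup_iff' _ hPS β).1 h0, ?_⟩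
  intro _ a a' hA P' hP'
  obtain ⟨e, he⟩ := hA.exists_equiv hPS hP'
  have hP'S := hA.image_le hPS hP'
  have hfP : IsMapOn F P a := hA.map.mono hPS
  have hkP' : IsMapOn F P' a' := hA.map'.mono hP'S
  obtain ⟨h1, h2⟩ := transport_aut hfP hkP' hP' (fun x hx => hA.left x (hPS hx)) e he β hβ.1
  have hP'c : F.IsCentric P' :=
    Helper88_Centric.isCentric_of_isConj hP (Helper88_Centric.isConj_of_isImage hfP hP')
  have h3 : MulAut.congr e β ∈ PE F p P' := by
    refine ⟨h1, ?_⟩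
    obtain ⟨k, hk⟩ := hβ.2
    exact ⟨k, by rw [MulEquiv.orderOf_eq]; exact hk⟩
  have h4 : MulAut.congr e β ∈ (genSystem F p).autGroup P' :=
    genSystem_good P' hP'c (Subgroup.subset_closure h3)
  refine ((Helper87_Alperin.mem_autGroup_iff _ hP'S _).1 h4).congr fun y hy => ?_
  rw [h2 y hy]
  simp only [Function.comp_apply]
  rw [Helper87_Alperin.extFun_apply β (hA.inv_mem hPS hP' hy),
    Helper87_Alperin.extHom_apply _ (hA.inv_mem hPS hP' hy)]
  rfl

/-- The generated system is invariant under `Aut_F(S)`. -/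
theorem invF₀ [Finite S] {a a' : Ω → Ω} (hA : Adm F S a a') {P : Subgroup Ω} {f : Ω → Ω}
    (hf : IsMapOn (genSystem F p) P f) {P' : Subgroup Ω} (hP' : IsImage P a P') :
    IsMapOn (genSystem F p) P' (a ∘ f ∘ a') := by
  have hPS : P ≤ S := hf.le
  obtain ⟨φ, hφ, hφf⟩ := hf
  have h1 := genSystem_le (good_invSystem (F := F) (p := p)) P hφ
  have h2 : Gi F (genSystem F p) P (extHom φ) := h1.2
  refine (h2 hPS a a' hA P' hP').congr fun y hy => ?_
  simp only [Function.comp_apply]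
  rw [Helper87_Alperin.extHom_apply φ (hA.inv_mem hPS hP' hy), hφf]


/-! ### The Frattini subsystem -/

/-- The Frattini predicate: the map is an element of `Aut_F(S)` after a map of `E₀`. -/
def Gf2 (F : FusionSystem S) (E₀ : FusionSystem S) (P : Subgroup Ω) (f : Ω → Ω) : Prop :=
  ∃ a a' : Ω → Ω, Adm F S a a' ∧ IsMapOn E₀ P (a' ∘ f)

/-- Invariance hypothesis. -/
def InvHyp (F : FusionSystem S) (E₀ : FusionSystem S) : Prop :=
  ∀ {a a' : Ω → Ω}, Adm F S a a' → ∀ {P : Subgroup Ω} {f : Ω → Ω}, IsMapOn E₀ P f →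
    ∀ {P' : Subgroup Ω}, IsImage P a P' → IsMapOn E₀ P' (a ∘ f ∘ a')

variable {E₀ : FusionSystem S}

theorem gf2_congr {P : Subgroup Ω} {f g : Ω → Ω} (h : Gf2 F E₀ P f) (hfg : ∀ x ∈ P, f x = g x) :
    Gf2 F E₀ P g := by
  obtain ⟨a, a', hA, h⟩ := h
  refine ⟨a, a', hA, h.congr fun x hx => ?_⟩
  simp only [Function.comp_apply]
  rw [hfg x hx]

theorem gf2_conj {P : Subgroup Ω} {s : Ω} (hP : P ≤ S) (hs : s ∈ S) :
    Gf2 F E₀ P (fun x => s * x * s⁻¹) :=
  ⟨fun x => x, fun x => x, adm_id, IsMapOn.conj E₀ hP hs⟩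

theorem gf2_of_isMapOn {P : Subgroup Ω} {f : Ω → Ω} (hf : IsMapOn E₀ P f) : Gf2 F E₀ P f :=
  ⟨fun x => x, fun x => x, adm_id, hf⟩

theorem gf2_comp (hInv : InvHyp F E₀) {P R : Subgroup Ω} {f g : Ω → Ω} (hf : IsMapOn F P f)
    (hGf : Gf2 F E₀ P f) (hg : IsMapOn F R g) (hGg : Gf2 F E₀ R g) (hfR : ∀ x ∈ P, f x ∈ R) :
    Gf2 F E₀ P (g ∘ f) := by
  obtain ⟨a₁, a₁', hA₁, hf₁⟩ := hGf
  obtain ⟨a₂, a₂', hA₂, hg₂⟩ := hGg
  have hRS : R ≤ S := hg.le
  obtain ⟨R'', hR''⟩ := hA₁.symm.exists_image hRS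
  have hg₂' := hInv hA₁.symm hg₂ hR''
  refine ⟨a₂ ∘ a₁, a₁' ∘ a₂', adm_comp hA₁ hA₂, (hf₁.comp hg₂' ?_).congr ?_⟩
  · intro x hx
    exact hR''.mem (hfR x hx)
  · intro x hx
    simp only [Function.comp_apply]
    rw [hA₁.right _ (hf.mem hx)]

theorem gf2_inv (hInv : InvHyp F E₀) {P P' : Subgroup Ω} {f g : Ω → Ω} (hf : IsMapOn F P f)
    (hGf : Gf2 F E₀ P f) (himg : IsImage P f P') (_ : IsMapOn F P' g)
    (hgf : ∀ x ∈ P, g (f x) = x) : Gf2 F E₀ P' g := by
  obtain ⟨a, a', hA, hf₁⟩ := hGf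
  obtain ⟨P₁, hP₁, -⟩ := Helper88_Centric.exists_isImage hf₁
  obtain ⟨k, hk, hk1, -, -⟩ := hf₁.inv hP₁
  have hP₁S : P₁ ≤ S := hk.le
  obtain ⟨P₁', hP₁'⟩ := hA.exists_image hP₁S
  have hk' := hInv hA hk hP₁'
  have hle : P' ≤ P₁' := by
    intro y hy
    obtain ⟨x, hx, rfl⟩ := (himg y).1 hy
    refine (hP₁' _).2 ⟨(a' ∘ f) x, hP₁.mem hx, ?_⟩
    simp only [Function.comp_apply]
    exact hA.right _ (hf.mem hx)
  refine ⟨a', a, hA.symm, (hk'.mono hle).congr fun y hy => ?_⟩
  obtain ⟨x, hx, rfl⟩ := (himg y).1 hy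
  have h1 := hk1 x hx
  simp only [Function.comp_apply] at h1 ⊢
  rw [h1, hgf x hx]

/-- The Frattini subsystem. -/
def frSystem2 (F : FusionSystem S) (E₀ : FusionSystem S) (hInv : InvHyp F E₀) : FusionSystem S :=
  Helper88_Essential.subsystemOf F (Gf2 F E₀) gf2_congr gf2_conj (gf2_comp hInv) (gf2_inv hInv)

theorem isMapOn_frSystem2 (hInv : InvHyp F E₀) {P : Subgroup Ω} {f : Ω → Ω} (hf : IsMapOn F P f)
    (hG : Gf2 F E₀ P f) : IsMapOn (frSystem2 F E₀ hInv) P f := by
  obtain ⟨φ, hφ, hφf⟩ := hf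
  refine ⟨φ, ⟨hφ, gf2_congr hG fun x hx => ?_⟩, hφf⟩
  rw [Helper87_Alperin.extHom_apply φ hx, hφf]

theorem gf2_of_isMapOn_frSystem2 (hInv : InvHyp F E₀) {P : Subgroup Ω} {f : Ω → Ω}
    (hf : IsMapOn (frSystem2 F E₀ hInv) P f) : Gf2 F E₀ P f := by
  obtain ⟨φ, hφ, hφf⟩ := hf
  refine gf2_congr hφ.2 fun x hx => ?_
  rw [Helper87_Alperin.extHom_apply φ hx, hφf]

/-- The closure of the `p`-elements is normalized by `Aut_F(P)`. -/
theorem autGroup_le_normalizer_pe (F : FusionSystem S) (p : ℕ) (P : Subgroup Ω) [Finite P] :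
    F.autGroup P ≤ Subgroup.normalizer ((Subgroup.closure (PE F p P) : Subgroup (MulAut P)) :
      Set (MulAut P)) := by
  intro γ hγ
  haveI : Finite (MulAut P) := inferInstance
  apply Cfsg.Agent.S5111.mem_normalizer_of_conj_mem
  intro c hc
  have hle : Subgroup.closure (PE F p P) ≤
      (Subgroup.closure (PE F p P)).comap (MulAut.conj γ).toMonoidHom := by
    rw [Subgroup.closure_le]
    intro x hx
    apply Subgroup.subset_closure
    refine ⟨?_, ?_⟩
    · exact Subgroup.mul_mem _ (Subgroup.mul_mem _ hγ hx.1) (Subgroup.inv_mem _ hγ)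
    · obtain ⟨k, hk⟩ := hx.2
      refine ⟨k, ?_⟩
      show orderOf (γ * x * γ⁻¹) = p ^ k
      rw [Helper34_Sylow.orderOf_conj', hk]
  exact hle hc

theorem autInducedBy_le_closure_pe [Finite S] [Fact p.Prime] (hS : IsPGroup p S) {P : Subgroup Ω}
    (hPS : P ≤ S) : autInducedBy S P ≤ Subgroup.closure (PE F p P) := by
  intro c hc
  apply Subgroup.subset_closure
  refine ⟨Helper85_Fusion.autInducedBy_le_autGroup F hPS hc, ?_⟩
  have hp : IsPGroup p (autInducedBy S P) := Helper84_FusionSat.isPGroup_autInducedBy hS P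
  obtain ⟨k, hk⟩ := (IsPGroup.iff_orderOf.1 hp) ⟨c, hc⟩
  refine ⟨k, ?_⟩
  rw [← hk]
  exact (Subgroup.orderOf_coe (⟨c, hc⟩ : autInducedBy S P))

theorem le_frSystem2 [Finite S] [Fact p.Prime] (hS : IsPGroup p S) (hF : F.IsSaturated p)
    (hInv : InvHyp F E₀) (hE₀F : E₀.IsSubsystemOf F) (hgood : Good F p E₀) :
    F ≤ frSystem2 F E₀ hInv := by
  classical
  refine Helper84_FusionAlperin.alperin_induction hS F hF _ ?_
  intro U hUn IH β hβ
  have IH' : ∀ (Q : Subgroup Ω) (f : Ω → Ω), U < Q → IsMapOn F Q f →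
      IsMapOn (frSystem2 F E₀ hInv) Q f := by
    rintro Q f hUQ ⟨φ, hφ, hφf⟩
    exact ⟨φ, IH Q φ hUQ hφ, hφf⟩
  have hUS : U ≤ S := hUn.1
  haveI : Finite U := Helper84_FusionRS.finite_of_le_S hUS
  haveI : Finite (MulAut U) := inferInstance
  rw [Helper87_Alperin.mem_autGroup_iff _ hUS]
  have hβF : IsMapOn F U (extFun β) := (Helper87_Alperin.mem_autGroup_iff F hUS β).1 hβ
  by_cases hne : U = S
  · -- `U = S`
    subst hne
    apply isMapOn_frSystem2 hInv hβF
    have hA : Adm F U (extFun β) (extFun β⁻¹) :=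
      { map := hβF
        map' := (Helper87_Alperin.mem_autGroup_iff F hUS β⁻¹).1 (Subgroup.inv_mem _ hβ)
        mem := fun x hx => Helper87_Alperin.extFun_mem β hx
        mem' := fun x hx => Helper87_Alperin.extFun_mem β⁻¹ hx
        left := fun x hx => Helper87_Alperin.extFun_inv_apply β hx
        right := fun x hx => Helper87_Alperin.extFun_apply_inv β hx }
    refine ⟨_, _, hA, (IsMapOn.id E₀ le_rfl).congr fun x hx => ?_⟩
    simp only [Function.comp_apply]
    rw [Helper87_Alperin.extFun_inv_apply β hx]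
  have hUa : F.IsFullyAutomized p U := Helper84_FusionRS.IsSaturated.isFullyAutomized hS hF hUn
  have hUr : F.IsReceptive U :=
    Helper84_FusionRS.IsSaturated.isReceptive_of_isFullyNormalized hS hF hUn
  by_cases hcen : centralizerIn S U ≤ U
  · -- `U` is centric: the Frattini argument
    have hUc : F.IsCentric U :=
      Cfsg.Agent.S5104.result p hS F hF U (Helper84_FusionRS.IsSaturated.isFullyCentralized hS hF hUn) hcen
    have hKA : Subgroup.closure (PE F p U) ≤ F.autGroup U := by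
      rw [Subgroup.closure_le]
      intro x hx
      exact hx.1
    have hnormal := autGroup_le_normalizer_pe F p U
    have hT₀A : autInducedBy S U ≤ F.autGroup U := Helper85_Fusion.autInducedBy_le_autGroup F hUS
    have hT₀K : autInducedBy S U ≤ Subgroup.closure (PE F p U) :=
      autInducedBy_le_closure_pe hS hUS
    have hsyl : Helper85_GroupFusion.IsSylowIn p (autInducedBy S U) (F.autGroup U) := hUa.2
    have hR₀ : Helper85_GroupFusion.IsSylowIn p (autInducedBy S U ⊓ Subgroup.closure (PE F p U))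
        (Subgroup.closure (PE F p U)) := hsyl.inf_normal hT₀A hKA hnormal
    have hR₀p : IsPGroup p (autInducedBy S U ⊓ Subgroup.closure (PE F p U) :
        Subgroup (MulAut U)) :=
      (Helper84_FusionSat.isPGroup_autInducedBy hS U).to_le inf_le_left
    have hKle : Helper85_GroupFusion.conjSub β (autInducedBy S U ⊓ Subgroup.closure (PE F p U)) ≤
        Subgroup.closure (PE F p U) := by
      rintro _ ⟨r, hr, rfl⟩
      exact ((Subgroup.mem_normalizer_iff.1 (hnormal hβ)) r).1 hr.2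
    obtain ⟨ε, hε, hεK⟩ := hR₀.exists_conj_le hKle (Helper85_GroupFusion.isPGroup_conjSub β hR₀p)
    rw [Helper85_GroupFusion.conjSub_conjSub] at hεK
    have hνN : ε * β ∈ Subgroup.normalizer
        ((autInducedBy S U ⊓ Subgroup.closure (PE F p U) : Subgroup (MulAut U)) :
          Set (MulAut U)) :=
      Helper85_GroupFusion.mem_normalizer_of_conjSub_le hεK
    have hνA : ε * β ∈ F.autGroup U := Subgroup.mul_mem _ (hKA hε) hβ
    -- `ν = ε β` extends to `N_S(U)`
    have hνG : IsMapOn (frSystem2 F E₀ hInv) U (extFun (ε * β)) := by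
      have hext : normalizerIn S U ≤ extender S U (U.subtype.comp (ε * β).toMonoidHom) := by
        intro t ht
        have hc₁ : U.normalizerMonoidHom ⟨t, ht.2⟩ ∈ autInducedBy S U :=
          Helper84_FusionSat.normalizerMonoidHom_mem_autInducedBy ht.1 ht.2
        have h2 := ((Subgroup.mem_normalizer_iff.1 hνN) _).1 (⟨hc₁, hT₀K hc₁⟩ :
          U.normalizerMonoidHom ⟨t, ht.2⟩ ∈ autInducedBy S U ⊓ Subgroup.closure (PE F p U))
        exact Cfsg.Agent.S5119.mem_extender_of_conj_mem (ε * β) ht.1 ht.2 h2.1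
      have hνhom : U.subtype.comp (ε * β).toMonoidHom ∈ F.Hom U :=
        (Helper85_Fusion.mem_autGroup_iff F hUS _).1 hνA
      obtain ⟨ψ, hψ, hψν⟩ := hUr.2 U _ hνhom (Helper84_FusionRS.range_subtype_comp_equiv (ε * β))
      have hlt : U < normalizerIn S U := Helper87_Alperin.lt_normalizerIn hS hUS hne
      have h1 := IH' (normalizerIn S U) (extHom ψ) hlt
        ((Helper87_Alperin.isMapOn_extHom F hψ).mono hext)
      refine (h1.mono hlt.le).congr fun x hx => ?_
      rw [Helper87_Alperin.extHom_apply ψ (hext (hlt.le hx)), hψν x hx,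
        Helper87_Alperin.extFun_apply _ hx]
      rfl
    have hεG : IsMapOn (frSystem2 F E₀ hInv) U (extFun ε⁻¹) := by
      have h1 : ε⁻¹ ∈ E₀.autGroup U := hgood U hUc (Subgroup.inv_mem _ hε)
      have h2 : IsMapOn E₀ U (extFun ε⁻¹) := (Helper87_Alperin.mem_autGroup_iff E₀ hUS _).1 h1
      exact isMapOn_frSystem2 hInv (isMapOn_of_le hE₀F h2) (gf2_of_isMapOn h2)
    refine (hνG.comp hεG (fun x hx => Helper87_Alperin.extFun_mem _ hx)).congr fun x hx => ?_
    rw [Function.comp_apply, ← Helper87_Alperin.extFun_mul _ _ hx, inv_mul_cancel_left]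
  · -- `U` is not centric: extend to `U C_S(U)`
    have hlt : U < U ⊔ centralizerIn S U := by
      refine lt_of_le_of_ne le_sup_left ?_
      intro h
      apply hcen
      have h' : centralizerIn S U ≤ U ⊔ centralizerIn S U := le_sup_right
      rw [← h] at h'
      exact h'
    have hβhom : U.subtype.comp β.toMonoidHom ∈ F.Hom U :=
      (Helper87_Alperin.mem_autGroup_iff' F hUS β).1 hβ
    obtain ⟨b, hb, hbβ⟩ := Helper88_Centric2.exists_extension_sup_centralizerIn hUr hβhom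
      (Helper84_FusionRS.range_subtype_comp_equiv β)
    have h1 := IH' _ b hlt hb
    refine (h1.mono hlt.le).congr fun x hx => ?_
    rw [hbβ ⟨x, hx⟩, Helper87_Alperin.extFun_apply _ hx]
    rfl


/-! ### Consequences of the Frattini decomposition -/

theorem gf2_of_isMapOn_F (hInv : InvHyp F E₀) (hfr : F ≤ frSystem2 F E₀ hInv) {P : Subgroup Ω}
    {f : Ω → Ω} (hf : IsMapOn F P f) : Gf2 F E₀ P f := by
  obtain ⟨φ, hφ, hφf⟩ := hf
  exact gf2_of_isMapOn_frSystem2 hInv ⟨φ, hfr P hφ, hφf⟩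

/-- Every `p`-element of `Aut_F(P)` is an automorphism in `E₀`. -/
theorem pe_mem [Finite S] [Fact p.Prime] (hS : IsPGroup p S) (hF : F.IsSaturated p)
    (hInv : InvHyp F E₀) (hfr : F ≤ frSystem2 F E₀ hInv) {P : Subgroup Ω} (hPS : P ≤ S)
    {α : MulAut P} (hα : α ∈ PE F p P) : α ∈ E₀.autGroup P := by
  classical
  obtain ⟨hαF, k, hk⟩ := hα
  haveI : Finite P := Helper84_FusionRS.finite_of_le_S hPS
  obtain ⟨P', hPP', hP'n⟩ := Helper84_FusionRS.exists_isFullyNormalized_conj F hPS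
  obtain ⟨hP'S, R, hR⟩ := Helper84_FusionRS.IsSaturated.isFullyAutomized hS hF hP'n
  haveI : Finite P' := Helper84_FusionRS.finite_of_le_S hP'S
  obtain ⟨f₁, hf₁, hf₁img⟩ := Helper88_Centric.exists_isMapOn_of_isConj hPP'
  obtain ⟨k₁, hk₁, hk₁f, -, -⟩ := hf₁.inv hf₁img
  obtain ⟨e, he⟩ := exists_equiv_of_isMapOn hf₁ hf₁img
  obtain ⟨hα'F, hα'val⟩ := transport_aut hf₁ hk₁ hf₁img hk₁f e he α hαF
  have hord : orderOf (MulAut.congr e α) = p ^ k := by
    rw [MulEquiv.orderOf_eq]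
    exact hk
  have hB : IsPGroup p (Subgroup.zpowers (⟨MulAut.congr e α, hα'F⟩ : F.autGroup P')) := by
    apply IsPGroup.of_card (n := k)
    rw [Nat.card_zpowers, Subgroup.orderOf_mk, hord]
  haveI : Finite (F.autGroup P') := inferInstance
  obtain ⟨χ, hχ⟩ := Helper87_Alperin.sylow_conj_into R hB
  have h1 := hχ _ (Subgroup.mem_zpowers (⟨MulAut.congr e α, hα'F⟩ : F.autGroup P'))
  rw [hR, Subgroup.mem_subgroupOf, Helper85_Fusion.mem_autInducedBy_iff] at h1
  obtain ⟨g, hg, hgx⟩ := h1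
  -- the map `f = χ ∘ f₁`
  have hχF : IsMapOn F P' (extFun (χ : MulAut P')) :=
    (Helper87_Alperin.mem_autGroup_iff F hP'S _).1 χ.2
  have hf : IsMapOn F P (extFun (χ : MulAut P') ∘ f₁) :=
    hf₁.comp hχF (fun x hx => hf₁img.mem hx)
  have hrel : ∀ x ∈ P, (extFun (χ : MulAut P') ∘ f₁) (extFun α x) =
      g * (extFun (χ : MulAut P') ∘ f₁) x * g⁻¹ := by
    intro x hx
    have hy : f₁ x ∈ P' := hf₁img.mem hx
    have h2 := hgx ((χ : MulAut P') ⟨f₁ x, hy⟩)
    simp only [Subgroup.coe_mul, Subgroup.coe_inv, MulAut.mul_apply, MulAut.inv_apply_self] at h2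
    simp only [Function.comp_apply]
    rw [Helper87_Alperin.extFun_apply _ hy, ← h2]
    have h3 := hα'val (f₁ x) hy
    rw [hk₁f x hx, Helper87_Alperin.extFun_apply _ hy] at h3
    rw [← h3, Helper87_Alperin.extFun_coe]
  -- decompose `f`
  obtain ⟨a, a₀, hA, hf₀⟩ := gf2_of_isMapOn_F hInv hfr hf
  have hg' : a₀ g ∈ S := hA.mem' g hg
  have hrel₀ : ∀ x ∈ P, (a₀ ∘ (extFun (χ : MulAut P') ∘ f₁)) (extFun α x) =
      a₀ g * (a₀ ∘ (extFun (χ : MulAut P') ∘ f₁)) x * (a₀ g)⁻¹ := by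
    intro x hx
    have hfx : (extFun (χ : MulAut P') ∘ f₁) x ∈ S := hf.mem hx
    show a₀ ((extFun (χ : MulAut P') ∘ f₁) (extFun α x)) = _
    rw [hrel x hx, hA.map'.map_mul (S.mul_mem hg hfx) (S.inv_mem hg), hA.map'.map_mul hg hfx,
      hA.map'.map_inv hg]
    rfl
  obtain ⟨P₀, hP₀, -⟩ := Helper88_Centric.exists_isImage hf₀
  obtain ⟨k₀, hk₀, hk₀1, -, -⟩ := hf₀.inv hP₀
  have hP₀S : P₀ ≤ S := hk₀.le
  have hc : IsMapOn E₀ P₀ (fun y => a₀ g * y * (a₀ g)⁻¹) := IsMapOn.conj E₀ hP₀S hg'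
  rw [Helper87_Alperin.mem_autGroup_iff E₀ hPS]
  refine ((hf₀.comp hc (fun x hx => hP₀.mem hx)).comp hk₀ ?_).congr ?_
  · intro x hx
    simp only [Function.comp_apply]
    have := hrel₀ x hx
    simp only [Function.comp_apply] at this
    rw [← this]
    exact hP₀.mem (Helper87_Alperin.extFun_mem α hx)
  · intro x hx
    simp only [Function.comp_apply]
    have := hrel₀ x hx
    simp only [Function.comp_apply] at this
    rw [← this]
    exact hk₀1 _ (Helper87_Alperin.extFun_mem α hx)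

theorem centric_iff {E : FusionSystem S} (hEF : E.IsSubsystemOf F) (hE₀E : E₀.IsSubsystemOf E)
    (hInv : InvHyp F E₀) (hfr : F ≤ frSystem2 F E₀ hInv) (P : Subgroup Ω) :
    E.IsCentric P ↔ F.IsCentric P := by
  constructor
  · rintro ⟨hPS, hP⟩
    refine ⟨hPS, fun Q hPQ => ?_⟩
    obtain ⟨f, hf, himg⟩ := Helper88_Centric.exists_isMapOn_of_isConj hPQ
    obtain ⟨a, a', hA, hf₀⟩ := gf2_of_isMapOn_F hInv hfr hf
    obtain ⟨P₀, hP₀, hPP₀⟩ := Helper88_Centric.exists_isImage hf₀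
    have hPP₀E : E.IsConj P P₀ := by
      obtain ⟨φ, hφ, hr⟩ := hPP₀
      exact ⟨φ, hE₀E P hφ, hr⟩
    have hcen := hP P₀ hPP₀E
    intro c hc
    rw [Helper88_Centric.mem_centralizerIn_iff] at hc
    obtain ⟨hcS, hcQ⟩ := hc
    have h1 : a' c ∈ centralizerIn S P₀ := by
      rw [Helper88_Centric.mem_centralizerIn_iff]
      refine ⟨hA.mem' c hcS, fun y₀ hy₀ => ?_⟩
      obtain ⟨x, hx, rfl⟩ := (hP₀ y₀).1 hy₀
      have hfx : f x ∈ S := hf.mem hx
      simp only [Function.comp_apply]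
      rw [← hA.map'.map_mul hfx hcS, ← hA.map'.map_mul hcS hfx, hcQ (f x) (himg.mem hx)]
    obtain ⟨x, hx, hxc⟩ := (hP₀ _).1 (hcen h1)
    simp only [Function.comp_apply] at hxc
    have h2 := congrArg a hxc
    rw [hA.right _ (hf.mem hx), hA.right _ hcS] at h2
    rw [← h2]
    exact himg.mem hx
  · rintro ⟨hPS, hP⟩
    refine ⟨hPS, fun Q hPQ => hP Q ?_⟩
    obtain ⟨φ, hφ, hr⟩ := hPQ
    exact ⟨φ, hEF P hφ, hr⟩

end

/-- Let F be a saturated fusion system over a finite p-group S and E a fusion system over S contained in F. If Aut_E(P) contains the subgroup of Aut_F(P) generated by its elements of p-power order for every subgroup P that is centric in F, then the same holds for every subgroup of S (E has index prime to p in F), every map of F with source a subgroup P of S is an element of Aut_F(S) composed with a map of E, and a subgroup is centric in E exactly when it is centric in F. -/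
theorem index_main {Ω : Type*} [Group Ω] {S : Subgroup Ω} [Finite S] (p : ℕ) [Fact p.Prime] (hS : IsPGroup p S) (F : Cfsg.FusionSystem S) (hF : F.IsSaturated p) (E : Cfsg.FusionSystem S) (hEF : E.IsSubsystemOf F) (h : ∀ P : Subgroup Ω, F.IsCentric P → (Subgroup.closure {α : ↥(F.autGroup P) | ∃ k : ℕ, orderOf α = p ^ k}).map (F.autGroup P).subtype ≤ E.autGroup P) : E.HasPrimeToPIndexIn F p ∧ (∀ (P : Subgroup Ω) (φ : P →* Ω), φ ∈ F.Hom P → ∃ α ∈ F.autGroup S, ∃ φ₀ ∈ E.Hom P, ∀ (x : P) (hx : φ₀ x ∈ S), φ x = ((α ⟨φ₀ x, hx⟩ : S) : Ω)) ∧ ∀ P : Subgroup Ω, E.IsCentric P ↔ F.IsCentric P := by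
  have hgoodE : Good F p E := by
    intro P hP
    rw [← map_closure_pe]
    exact h P hP
  have hE₀E : (genSystem F p).IsSubsystemOf E := genSystem_le hgoodE
  have hInv : InvHyp F (genSystem F p) := fun hA _ _ hf _ hP' => invF₀ hA hf hP'
  have hfr : F ≤ frSystem2 F (genSystem F p) hInv :=
    le_frSystem2 hS hF hInv genSystem_le_F genSystem_good
  refine ⟨⟨hEF, fun P hPS => ?_⟩, fun P φ hφ => ?_, centric_iff hEF hE₀E hInv hfr⟩
  · rw [map_closure_pe, Subgroup.closure_le]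
    intro β hβ
    exact autGroup_le_of_le hE₀E P (pe_mem hS hF hInv hfr hPS hβ)
  · obtain ⟨a, a', hA, hm⟩ := gf2_of_isMapOn_F hInv hfr (Helper87_Alperin.isMapOn_extHom F hφ)
    obtain ⟨φ₀, hφ₀, hφ₀f⟩ := hm
    obtain ⟨α, hα, hαa⟩ := Cfsg.Agent.S5111.exists_aut_of_isMapOn hA.map hA.mem
    refine ⟨α, hα, φ₀, hE₀E P hφ₀, fun x hx => ?_⟩
    rw [hαa]
    show φ x = a (φ₀ x)
    rw [hφ₀f]
    simp only [Function.comp_apply]
    rw [Helper87_Alperin.extHom_coe, hA.right _ ((F.le_of_mem hφ).2 x)]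

end Cfsg.Agent.Lib.Helper85_Index
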