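import Cfsg.Agent.Lib.Helper85_PExt4

/-!
# Extensions trivial modulo a strongly closed subgroup (helper85), part 1

General lemmas on maps of a fusion system defined on a join `A ⊔ B`, iterates of automorphisms, and the set-up for the
extension lemma: a `p'`-automorphism `k` of `V` (in a saturated system `F`) that is the identity on `V ∩ T`, `T` strongly
closed with `V ∩ T` centric in `T`, extends to `V T` as the identity on `T`.
-/

set_option autoImplicit false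
set_option linter.style.haveILetI false

namespace Cfsg.Agent.Lib.Helper85_Nice1

open Cfsg Cfsg.FusionSystem Cfsg.Agent.Lib
open Cfsg.Agent.Lib.Helper87_Alperin Cfsg.Agent.Lib.Helper88_Centric

variable {Ω : Type*} [Group Ω] {S T : Subgroup Ω} {F : FusionSystem S} {p : ℕ}

/-- Values of a map of the system on `A ⊔ B` lie in `K` as soon as they do on `A` and on `B`. -/
theorem mem_of_mem_sup {A B K : Subgroup Ω} {f : Ω → Ω} (hf : IsMapOn F (A ⊔ B) f)
    (hA : ∀ x ∈ A, f x ∈ K) (hB : ∀ x ∈ B, f x ∈ K) : ∀ x ∈ A ⊔ B, f x ∈ K := by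
  obtain ⟨φ, -, hφf⟩ := hf
  have hle : A ⊔ B ≤ (K.comap φ).map (A ⊔ B).subtype := by
    refine sup_le ?_ ?_
    · intro x hx
      refine ⟨⟨x, (le_sup_left : A ≤ A ⊔ B) hx⟩, ?_, rfl⟩
      show φ _ ∈ K
      rw [hφf]
      exact hA x hx
    · intro x hx
      refine ⟨⟨x, (le_sup_right : B ≤ A ⊔ B) hx⟩, ?_, rfl⟩
      show φ _ ∈ K
      rw [hφf]
      exact hB x hx
  intro x hx
  obtain ⟨u, hu, rfl⟩ := hle hx
  have h1 : φ u ∈ K := hu
  rwa [hφf] at h1

/-- Two maps of systems on `A ⊔ B` that agree on `A` and on `B` agree. -/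
theorem eq_on_sup {S' : Subgroup Ω} {F' : FusionSystem S'} {A B : Subgroup Ω} {f g : Ω → Ω}
    (hf : IsMapOn F (A ⊔ B) f) (hg : IsMapOn F' (A ⊔ B) g)
    (hA : ∀ x ∈ A, f x = g x) (hB : ∀ x ∈ B, f x = g x) : ∀ x ∈ A ⊔ B, f x = g x := by
  obtain ⟨φ, -, hφf⟩ := hf
  obtain ⟨ψ, -, hψg⟩ := hg
  have hle : A ⊔ B ≤ (φ.eqLocus ψ).map (A ⊔ B).subtype := by
    refine sup_le ?_ ?_
    · intro x hx
      refine ⟨⟨x, (le_sup_left : A ≤ A ⊔ B) hx⟩, ?_, rfl⟩
      show φ _ = ψ _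
      rw [hφf, hψg]
      exact hA x hx
    · intro x hx
      refine ⟨⟨x, (le_sup_right : B ≤ A ⊔ B) hx⟩, ?_, rfl⟩
      show φ _ = ψ _
      rw [hφf, hψg]
      exact hB x hx
  intro x hx
  obtain ⟨u, hu, rfl⟩ := hle hx
  have h1 : φ u = ψ u := hu
  rwa [hφf, hψg] at h1

/-- Elements of `A ⊔ B` are products when `B` normalizes `A`. -/
theorem exists_mul_of_mem_sup {A B : Subgroup Ω} (h : B ≤ Subgroup.normalizer (A : Set Ω)) {x : Ω}
    (hx : x ∈ A ⊔ B) : ∃ a ∈ A, ∃ b ∈ B, x = a * b := by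
  have h1 : x ∈ ((A ⊔ B : Subgroup Ω) : Set Ω) := hx
  rw [Subgroup.coe_mul_of_right_le_normalizer_left A B h] at h1
  obtain ⟨a, ha, b, hb, rfl⟩ := h1
  exact ⟨a, ha, b, hb, rfl⟩

/-- Elements of `A ⊔ B` are products when `A` normalizes `B`. -/
theorem exists_mul_of_mem_sup' {A B : Subgroup Ω} (h : A ≤ Subgroup.normalizer (B : Set Ω)) {x : Ω}
    (hx : x ∈ A ⊔ B) : ∃ a ∈ A, ∃ b ∈ B, x = a * b := by
  have h1 : x ∈ ((A ⊔ B : Subgroup Ω) : Set Ω) := hx
  rw [Subgroup.coe_mul_of_left_le_normalizer_right A B h] at h1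
  obtain ⟨a, ha, b, hb, rfl⟩ := h1
  exact ⟨a, ha, b, hb, rfl⟩

/-- Iterates of an automorphism of the system. -/
theorem isMapOn_iterate {V : Subgroup Ω} {k : Ω → Ω} (hk : IsMapOn F V k) (hmem : ∀ x ∈ V, k x ∈ V)
    (j : ℕ) : IsMapOn F V (k^[j]) ∧ ∀ x ∈ V, k^[j] x ∈ V := by
  induction j with
  | zero => exact ⟨IsMapOn.id F hk.le, fun x hx => hx⟩
  | succ j ih =>
    rw [Function.iterate_succ']
    exact ⟨ih.1.comp hk ih.2, fun x hx => hmem _ (ih.2 x hx)⟩

theorem iterate_mul_eq {V : Subgroup Ω} {k : Ω → Ω} {o : ℕ} (hmem : ∀ x ∈ V, k x ∈ V)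
    (hord : ∀ x ∈ V, k^[o] x = x) (j : ℕ) : ∀ x ∈ V, k^[o * j] x = x := by
  induction j with
  | zero => intro x _; simp
  | succ j ih =>
    intro x hx
    rw [Nat.mul_succ, Function.iterate_add_apply, hord x hx, ih x hx]

/-- A Bézout identity in the natural numbers. -/
theorem exists_mul_eq_one_add {q o : ℕ} (hq : 0 < q) (ho : 0 < o) (h : q.Coprime o) :
    ∃ m j : ℕ, q * m = 1 + o * j := by
  by_cases h1 : o = 1
  · subst h1
    exact ⟨1, q - 1, by omega⟩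
  · have ho1 : 1 < o := by omega
    obtain ⟨m, hm⟩ := Nat.exists_mul_mod_eq_one_of_coprime h ho1
    refine ⟨m, q * m / o, ?_⟩
    have := Nat.div_add_mod (q * m) o
    omega

/-- `k` is an automorphism of `V` in `F`, the identity on `V ∩ T`, with `k ^ o = 1`. -/
structure PAut (F : FusionSystem S) (T V : Subgroup Ω) (k : Ω → Ω) (o : ℕ) : Prop where
  map : IsMapOn F V k
  mem : ∀ x ∈ V, k x ∈ V
  fix : ∀ x ∈ V, x ∈ T → k x = x
  ord : ∀ x ∈ V, k^[o] x = x

/-- All the conjugates of `R` in the system (`R ≤ T`) contain their centralizers in `T`. -/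
def TCentric (F : FusionSystem S) (T R : Subgroup Ω) : Prop :=
  ∀ (f : Ω → Ω) (R' : Subgroup Ω), IsMapOn F R f → IsImage R f R' → centralizerIn T R' ≤ R'

theorem TCentric.of_le {R R₁ : Subgroup Ω} (h : TCentric F T R) (hle : R ≤ R₁) :
    TCentric F T R₁ := by
  intro f R₁' hf himg y hy
  obtain ⟨R', hR', -⟩ := exists_isImage (hf.mono hle)
  have hR'le : R' ≤ R₁' := by
    intro z hz
    obtain ⟨x, hx, rfl⟩ := (hR' z).1 hz
    exact himg.mem (hle hx)
  apply hR'le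
  apply h f R' (hf.mono hle) hR'
  rw [mem_centralizerIn_iff] at hy ⊢
  exact ⟨hy.1, fun z hz => hy.2 z (hR'le hz)⟩

end Cfsg.Agent.Lib.Helper85_Nice1
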