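import Cfsg.Agent.Lib.Helper85_Nice1

/-!
# Extensions trivial modulo a strongly closed subgroup (helper85), part 2: the extension lemma

Let `F` be saturated over `S`, `T` strongly closed, `V ≤ S` with `V ∩ T` centric in `T` (for all its conjugates), and `k` an
automorphism of `V` in `F` of order prime to `p` that is the identity on `V ∩ T`.  Then `k` extends to an automorphism
of `V T` in `F` that is the identity on `T` (`exists_extension_fix`).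
-/

set_option autoImplicit false
set_option linter.style.haveILetI false

namespace Cfsg.Agent.Lib.Helper85_Nice2

open Cfsg Cfsg.FusionSystem Cfsg.Agent.Lib
open Cfsg.Agent.Lib.Helper87_Alperin Cfsg.Agent.Lib.Helper88_Centric Cfsg.Agent.Lib.Helper85_Rel6
  Cfsg.Agent.Lib.Helper85_Nice1

variable {Ω : Type*} [Group Ω] {S T : Subgroup Ω} {F : FusionSystem S} {p : ℕ}

/-- The commutator of an automorphism fixing `U₀` pointwise with one acting trivially on `U / U₀` stabilizes the series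
`1 ≤ U₀ ≤ U`. -/
theorem comm_mem_stabSeries {U U₀ : Subgroup Ω} (hU₀ : U₀ ≤ U) {κ c : MulAut U}
    (hκ : ∀ x : U, (x : Ω) ∈ U₀ → κ x = x)
    (hc' : ∀ x : U, (x : Ω) ∈ U₀ → ((c⁻¹ x : U) : Ω) ∈ U₀)
    (hcs : ∀ x : U, (x : Ω)⁻¹ * ((c x : U) : Ω) ∈ U₀)
    (hcs' : ∀ x : U, (x : Ω)⁻¹ * ((c⁻¹ x : U) : Ω) ∈ U₀) :
    κ * c * κ⁻¹ * c⁻¹ ∈ stabSeries U U₀ hU₀ := by
  have hκi : ∀ x : U, (x : Ω) ∈ U₀ → κ⁻¹ x = x := by
    intro x hx
    have h1 := hκ x hx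
    calc κ⁻¹ x = κ⁻¹ (κ x) := by rw [h1]
      _ = x := MulAut.inv_apply_self _ κ x
  refine ⟨fun x hx => ?_, fun x => ?_⟩
  · simp only [MulAut.mul_apply]
    rw [hκi _ (hc' x hx), MulAut.apply_inv_self, hκ x hx]
  · simp only [MulAut.mul_apply]
    have ht₁ := hcs' x
    have ht₂ := hcs (κ⁻¹ (c⁻¹ x))
    have e1 : c (κ⁻¹ (c⁻¹ x)) = κ⁻¹ (c⁻¹ x) *
        ⟨((κ⁻¹ (c⁻¹ x) : U) : Ω)⁻¹ * ((c (κ⁻¹ (c⁻¹ x)) : U) : Ω), hU₀ ht₂⟩ := by
      apply Subtype.ext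
      simp
    rw [e1, map_mul, hκ ⟨_, hU₀ ht₂⟩ ht₂, MulAut.apply_inv_self]
    have e2 : (x : Ω)⁻¹ * (((c⁻¹ x) * (⟨((κ⁻¹ (c⁻¹ x) : U) : Ω)⁻¹ *
        ((c (κ⁻¹ (c⁻¹ x)) : U) : Ω), hU₀ ht₂⟩ : U) : U) : Ω) =
        ((x : Ω)⁻¹ * ((c⁻¹ x : U) : Ω)) *
          (((κ⁻¹ (c⁻¹ x) : U) : Ω)⁻¹ * ((c (κ⁻¹ (c⁻¹ x)) : U) : Ω)) := by
      simp [mul_assoc]
    rw [e2]
    exact U₀.mul_mem ht₁ ht₂

/-- Conjugation by an element of `T` normalizing `U` acts trivially on `U / (U ∩ T)`. -/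
theorem conj_props (hT : F.StronglyClosed T) {U : Subgroup Ω} (hUS : U ≤ S)
    (n : Subgroup.normalizer (U : Set Ω)) (hnT : (n : Ω) ∈ T) :
    (∀ x : U, (x : Ω) ∈ U ⊓ T → ((U.normalizerMonoidHom n x : U) : Ω) ∈ U ⊓ T) ∧
      ∀ x : U, (x : Ω)⁻¹ * ((U.normalizerMonoidHom n x : U) : Ω) ∈ U ⊓ T := by
  have hnS : (n : Ω) ∈ S := hT.1 hnT
  refine ⟨fun x hx => ⟨(U.normalizerMonoidHom n x).2, ?_⟩, fun x => ⟨?_, ?_⟩⟩
  · exact Helper85_FusionNormal.sc_conj_mem hT hnS hx.2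
  · exact U.mul_mem (U.inv_mem x.2) (U.normalizerMonoidHom n x).2
  · show (x : Ω)⁻¹ * ((n : Ω) * (x : Ω) * (n : Ω)⁻¹) ∈ T
    have h1 : (x : Ω)⁻¹ * (n : Ω) * ((x : Ω)⁻¹)⁻¹ ∈ T :=
      Helper85_FusionNormal.sc_conj_mem hT (S.inv_mem (hUS x.2)) hnT
    have e : (x : Ω)⁻¹ * ((n : Ω) * (x : Ω) * (n : Ω)⁻¹) =
        ((x : Ω)⁻¹ * (n : Ω) * ((x : Ω)⁻¹)⁻¹) * (n : Ω)⁻¹ := by group
    rw [e]
    exact T.mul_mem h1 (T.inv_mem hnT)

/-- **The step of the extension lemma.** -/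
theorem exists_step [Finite S] [Fact p.Prime] (hS : IsPGroup p S) (hF : F.IsSaturated p)
    (hT : F.StronglyClosed T) {V : Subgroup Ω} {k : Ω → Ω} {o : ℕ} (ho : o.Coprime p)
    (hk : PAut F T V k o) (hcen : TCentric F T (V ⊓ T)) (hne : ¬ T ≤ V) :
    ∃ (V₁ : Subgroup Ω) (k₁ : Ω → Ω), V < V₁ ∧ V₁ ≤ V ⊔ T ∧ PAut F T V₁ k₁ o ∧
      ∀ x ∈ V, k₁ x = k x := by
  classical
  have hTS := hT.1
  have hVS : V ≤ S := hk.map.le
  have hSN : S ≤ Subgroup.normalizer (T : Set Ω) := Helper85_FusionNormal.sc_le_normalizer hT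
  -- `R₁ = N_T(V)` and `V₁ = V R₁`
  have hR₁T : normalizerIn T V ≤ T := normalizerIn_le T V
  have hR₁N : normalizerIn T V ≤ Subgroup.normalizer (V : Set Ω) := normalizerIn_le_normalizer T V
  have hR₁S : normalizerIn T V ≤ S := hR₁T.trans hTS
  have hR₁NS : normalizerIn T V ≤ normalizerIn S V := fun x hx => ⟨hR₁S hx, hR₁N hx⟩
  have hVNS : V ≤ normalizerIn S V := le_normalizerIn hVS
  have hV₁NS : V ⊔ normalizerIn T V ≤ normalizerIn S V := sup_le hVNS hR₁NS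
  have hV₁S : V ⊔ normalizerIn T V ≤ S := hV₁NS.trans (normalizerIn_le S V)
  -- `R₁` is not contained in `V`
  have hR₁V : ¬ normalizerIn T V ≤ V := by
    intro hle
    have hWS : V ⊔ T ≤ S := sup_le hVS hTS
    haveI : Finite ↥(V ⊔ T) := Helper84_FusionRS.finite_of_le_S hWS
    have hWp : IsPGroup p ↥(V ⊔ T) := hS.to_le hWS
    have hVW : V ≠ V ⊔ T := fun h => hne (h ▸ le_sup_right)
    have hlt := lt_normalizerIn hWp (le_sup_left : V ≤ V ⊔ T) hVW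
    obtain ⟨g, hgN, hgV⟩ := SetLike.exists_of_lt hlt
    obtain ⟨v, hv, t, ht, rfl⟩ := exists_mul_of_mem_sup' (hVS.trans hSN) hgN.1
    have htN : t ∈ Subgroup.normalizer (V : Set Ω) := by
      have h1 : t = v⁻¹ * (v * t) := by group
      rw [h1]
      exact Subgroup.mul_mem _ (Subgroup.inv_mem _ (Subgroup.le_normalizer hv)) hgN.2
    exact hgV (V.mul_mem hv (hle ⟨ht, htN⟩))
  -- a fully normalized conjugate `V'` of `V`
  obtain ⟨V', hVV', hV'n⟩ := Helper84_FusionRS.exists_isFullyNormalized_conj F hVS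
  have hfa := Helper84_FusionRS.IsSaturated.isFullyAutomized hS hF hV'n
  have hrec := Helper84_FusionRS.IsSaturated.isReceptive_of_isFullyNormalized hS hF hV'n
  have hV'S : V' ≤ S := hV'n.1
  obtain ⟨φ', hφ', hφ'N, hφ'V⟩ := Helper84_FusionSat.exists_normalizer_map hS F hfa hrec hVV'
  have hψ : IsMapOn F (normalizerIn S V) (extHom φ') := isMapOn_extHom F hφ'
  have hVimg : IsImage V (extHom φ') V' := by
    intro u
    rw [← hφ'V]
    constructor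
    · rintro ⟨r, hr, rfl⟩
      exact ⟨r, hr, extHom_coe φ' r⟩
    · rintro ⟨x, hx, rfl⟩
      exact ⟨⟨x, hVNS hx⟩, hx, (extHom_coe φ' _).symm⟩
  have hψN : ∀ x ∈ normalizerIn S V, extHom φ' x ∈ normalizerIn S V' := by
    intro x hx
    rw [extHom_apply φ' hx]
    exact hφ'N _
  obtain ⟨ψi, hψi, hψi1, hψi2, hψi3⟩ := (hψ.mono hVNS).inv hVimg
  haveI : Finite V := Helper84_FusionRS.finite_of_le_S hVS
  haveI : Finite V' := Helper84_FusionRS.finite_of_le_S hV'S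
  -- transport `k` to `V'`
  obtain ⟨κ, hκ, hκk⟩ := Cfsg.Agent.S5111.exists_aut_of_isMapOn hk.map hk.mem
  obtain ⟨e, he⟩ := Helper85_Index.exists_equiv_of_isMapOn (hψ.mono hVNS) hVimg
  obtain ⟨hκ'F, hκ'val⟩ :=
    Helper85_Index.transport_aut (hψ.mono hVNS) hψi hVimg hψi1 e he κ hκ
  have hκ'map : IsMapOn F V' (extFun (MulAut.congr e κ)) :=
    (mem_autGroup_iff F hV'S _).1 hκ'F
  have hκ'fix : ∀ y ∈ V', y ∈ T → extFun (MulAut.congr e κ) y = y := by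
    intro y hy hyT
    have h1 : ψi y ∈ V := hψi2 y hy
    have h2 : ψi y ∈ T := Helper87_ModT.IsMapOn.mem_stronglyClosed hT hψi hy hyT
    rw [hκ'val y hy, extFun_apply κ h1, hκk, hk.fix _ h1 h2, hψi3 y hy]
  have hκ'fix' : ∀ x : V', (x : Ω) ∈ V' ⊓ T → (MulAut.congr e κ) x = x := by
    intro x hx
    apply Subtype.ext
    rw [← extFun_coe]
    exact hκ'fix x x.2 hx.2
  -- the image `N'` of `R₁`
  obtain ⟨N', hN', -⟩ := exists_isImage (hψ.mono hR₁NS)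
  have hN'T : N' ≤ T := by
    intro y hy
    obtain ⟨t, ht, rfl⟩ := (hN' y).1 hy
    exact Helper87_ModT.IsMapOn.mem_stronglyClosed hT hψ (hR₁NS ht) (hR₁T ht)
  have hN'N : N' ≤ normalizerIn S V' := by
    intro y hy
    obtain ⟨t, ht, rfl⟩ := (hN' y).1 hy
    exact hψN t (hR₁NS ht)
  -- the elements of `N'` lie in `N_κ'`
  have hY : ∀ g ∈ N', g ∈ normalizerIn S V' ∧ ∃ h ∈ S, ∀ x ∈ V',
      extFun (MulAut.congr e κ) (g * x * g⁻¹) = h * extFun (MulAut.congr e κ) x * h⁻¹ := by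
    intro g hg
    have hgN := hN'N hg
    refine ⟨hgN, ?_⟩
    have hgT : g ∈ T := hN'T hg
    obtain ⟨hc1, hc2⟩ := conj_props hT hV'S ⟨g, hgN.2⟩ hgT
    obtain ⟨hd1, hd2⟩ := conj_props hT hV'S (⟨g, hgN.2⟩⁻¹ : Subgroup.normalizer (V' : Set Ω))
      (T.inv_mem hgT)
    have hcF : V'.normalizerMonoidHom ⟨g, hgN.2⟩ ∈ F.autGroup V' :=
      autInducedBy_le_autGroup F hV'S ((mem_autInducedBy_iff S V' _).2 ⟨g, hgN.1, fun x => rfl⟩)
    have hν : MulAut.congr e κ * V'.normalizerMonoidHom ⟨g, hgN.2⟩ * (MulAut.congr e κ)⁻¹ *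
        (V'.normalizerMonoidHom ⟨g, hgN.2⟩)⁻¹ ∈ stabSeries V' (V' ⊓ T) inf_le_left := by
      refine comm_mem_stabSeries _ hκ'fix' ?_ hc2 ?_
      · intro x hx
        rw [← map_inv]
        exact hd1 x hx
      · intro x
        rw [← map_inv]
        exact hd2 x
    have hνF : MulAut.congr e κ * V'.normalizerMonoidHom ⟨g, hgN.2⟩ * (MulAut.congr e κ)⁻¹ *
        (V'.normalizerMonoidHom ⟨g, hgN.2⟩)⁻¹ ∈ F.autGroup V' :=
      (F.autGroup V').mul_mem ((F.autGroup V').mul_mem ((F.autGroup V').mul_mem hκ'F hcF)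
        ((F.autGroup V').inv_mem hκ'F)) ((F.autGroup V').inv_mem hcF)
    have h3 := stab_le_autInducedBy hS hT hfa hν hνF
    rw [mem_autInducedBy_iff] at h3
    obtain ⟨s, hs, hsx⟩ := h3
    refine ⟨s * g, S.mul_mem hs hgN.1, fun x hx => ?_⟩
    have hgx : g * x * g⁻¹ ∈ V' := ((Subgroup.mem_normalizer_iff.1 hgN.2) _).1 hx
    have h4 := hsx (V'.normalizerMonoidHom ⟨g, hgN.2⟩ ((MulAut.congr e κ) ⟨x, hx⟩))
    simp only [MulAut.mul_apply, MulAut.inv_apply_self] at h4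
    rw [extFun_apply _ hgx, extFun_apply _ hx]
    have h5 : (MulAut.congr e κ) ((V'.normalizerMonoidHom ⟨g, hgN.2⟩) ⟨x, hx⟩) =
        (MulAut.congr e κ) ⟨g * x * g⁻¹, hgx⟩ := rfl
    rw [← h5, h4]
    show s * (g * (((MulAut.congr e κ) ⟨x, hx⟩ : V') : Ω) * g⁻¹) * s⁻¹ = _
    group
  obtain ⟨ψ', hψ', hψ'x⟩ := Helper85_SatCrit2.receptive_extend hrec hκ'map
    (Helper85_SatCrit6.isImage_extFun _) N' hY
  -- `ψ'` shifts the elements of `N'` by elements of `V' ∩ T`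
  have hRimg : IsImage (V ⊓ T) (extHom φ') (V' ⊓ T) := by
    intro y
    constructor
    · intro hy
      refine ⟨ψi y, ⟨hψi2 y hy.1, Helper87_ModT.IsMapOn.mem_stronglyClosed hT hψi hy.1 hy.2⟩,
        hψi3 y hy.1⟩
    · rintro ⟨x, hx, rfl⟩
      exact ⟨hVimg.mem hx.1,
        Helper87_ModT.IsMapOn.mem_stronglyClosed hT hψ (hVNS hx.1) hx.2⟩
  have hcen' : centralizerIn T (V' ⊓ T) ≤ V' ⊓ T :=
    hcen (extHom φ') (V' ⊓ T) (hψ.mono (inf_le_left.trans hVNS)) hRimg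
  have hshift : ∀ g ∈ N', g⁻¹ * ψ' g ∈ V' ⊓ T := by
    intro g hg
    have hgU : g ∈ V' ⊔ N' := (le_sup_right : N' ≤ V' ⊔ N') hg
    have hgN := hN'N hg
    have hgT : g ∈ T := hN'T hg
    have hψ'gT : ψ' g ∈ T := Helper87_ModT.IsMapOn.mem_stronglyClosed hT hψ' hgU hgT
    apply hcen'
    rw [mem_centralizerIn_iff]
    refine ⟨T.mul_mem (T.inv_mem hgT) hψ'gT, fun x hx => ?_⟩
    have hxU : x ∈ V' ⊔ N' := (le_sup_left : V' ≤ V' ⊔ N') hx.1
    have hgx : g * x * g⁻¹ ∈ V' := ((Subgroup.mem_normalizer_iff.1 hgN.2) _).1 hx.1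
    have hgxT : g * x * g⁻¹ ∈ T := Helper85_FusionNormal.sc_conj_mem hT hgN.1 hx.2
    have h1 : ψ' (g * x * g⁻¹) = ψ' g * ψ' x * (ψ' g)⁻¹ := by
      rw [hψ'.map_mul (Subgroup.mul_mem _ hgU hxU) (Subgroup.inv_mem _ hgU), hψ'.map_mul hgU hxU,
        hψ'.map_inv hgU]
    rw [hψ'x _ hgx, hκ'fix _ hgx hgxT, hψ'x _ hx.1, hκ'fix _ hx.1 hx.2] at h1
    -- h1 : g * x * g⁻¹ = ψ' g * x * (ψ' g)⁻¹
    calc x * (g⁻¹ * ψ' g) = g⁻¹ * (g * x * g⁻¹) * ψ' g := by group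
      _ = g⁻¹ * (ψ' g * x * (ψ' g)⁻¹) * ψ' g := by rw [h1]
      _ = g⁻¹ * ψ' g * x := by group
  -- pull back to `V₁ = V R₁`
  obtain ⟨M₁, hM₁, -⟩ := exists_isImage (hψ.mono hV₁NS)
  obtain ⟨ψj, hψj, hψj1, hψj2, hψj3⟩ := (hψ.mono hV₁NS).inv hM₁
  have hinto : ∀ x ∈ V ⊔ normalizerIn T V, extHom φ' x ∈ V' ⊔ N' :=
    mem_of_mem_sup (hψ.mono hV₁NS) (fun x hx => (le_sup_left : V' ≤ V' ⊔ N') (hVimg.mem hx))
      (fun x hx => (le_sup_right : N' ≤ V' ⊔ N') (hN'.mem hx))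
  have hcomp : IsMapOn F (V ⊔ normalizerIn T V) (ψ' ∘ extHom φ') :=
    (hψ.mono hV₁NS).comp hψ' hinto
  have hvalV : ∀ v ∈ V, ψ' (extHom φ' v) = extHom φ' (k v) := by
    intro v hv
    rw [hψ'x _ (hVimg.mem hv), hκ'val _ (hVimg.mem hv), hψi1 v hv, extFun_apply κ hv, hκk]
  have hvalR : ∀ t ∈ normalizerIn T V, ∃ v₀ ∈ V ⊓ T,
      ψ' (extHom φ' t) = extHom φ' (t * v₀) := by
    intro t ht
    have hw := hshift _ (hN'.mem ht)
    obtain ⟨v₀, hv₀, hv₀w⟩ := (hRimg _).1 hw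
    refine ⟨v₀, hv₀, ?_⟩
    rw [hψ.map_mul (hR₁NS ht) (hVNS hv₀.1), hv₀w]
    group
  have hinto₁ : ∀ x ∈ V ⊔ normalizerIn T V, (ψ' ∘ extHom φ') x ∈ M₁ := by
    refine mem_of_mem_sup hcomp ?_ ?_
    · intro v hv
      show ψ' (extHom φ' v) ∈ M₁
      rw [hvalV v hv]
      exact hM₁.mem ((le_sup_left : V ≤ V ⊔ normalizerIn T V) (hk.mem v hv))
    · intro t ht
      obtain ⟨v₀, hv₀, hv₀t⟩ := hvalR t ht
      show ψ' (extHom φ' t) ∈ M₁
      rw [hv₀t]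
      exact hM₁.mem (Subgroup.mul_mem _ ((le_sup_right : normalizerIn T V ≤ V ⊔ normalizerIn T V) ht)
        ((le_sup_left : V ≤ V ⊔ normalizerIn T V) hv₀.1))
  have hk₁ : IsMapOn F (V ⊔ normalizerIn T V) (ψj ∘ (ψ' ∘ extHom φ')) := hcomp.comp hψj hinto₁
  have hk₁mem : ∀ x ∈ V ⊔ normalizerIn T V, (ψj ∘ (ψ' ∘ extHom φ')) x ∈ V ⊔ normalizerIn T V :=
    fun x hx => hψj2 _ (hinto₁ x hx)
  have hk₁V : ∀ v ∈ V, (ψj ∘ (ψ' ∘ extHom φ')) v = k v := by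
    intro v hv
    show ψj (ψ' (extHom φ' v)) = k v
    rw [hvalV v hv]
    exact hψj1 _ ((le_sup_left : V ≤ V ⊔ normalizerIn T V) (hk.mem v hv))
  have hk₁R : ∀ t ∈ normalizerIn T V, t⁻¹ * (ψj ∘ (ψ' ∘ extHom φ')) t ∈ V ⊓ T := by
    intro t ht
    obtain ⟨v₀, hv₀, hv₀t⟩ := hvalR t ht
    show t⁻¹ * ψj (ψ' (extHom φ' t)) ∈ V ⊓ T
    rw [hv₀t, hψj1 _ (Subgroup.mul_mem _
      ((le_sup_right : normalizerIn T V ≤ V ⊔ normalizerIn T V) ht)
      ((le_sup_left : V ≤ V ⊔ normalizerIn T V) hv₀.1)), inv_mul_cancel_left]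
    exact hv₀
  -- the `p'`-part
  haveI : Finite ↥(V ⊓ T) := Helper84_FusionRS.finite_of_le_S (inf_le_left.trans hVS)
  have hRp : IsPGroup p ↥(V ⊓ T) := hS.to_le (inf_le_left.trans hVS)
  obtain ⟨a, ha⟩ := (IsPGroup.iff_card).1 hRp
  have ho0 : 0 < o := by
    rcases Nat.eq_zero_or_pos o with h | h
    · subst h
      rw [Nat.coprime_zero_left] at ho
      exact absurd ho (Nat.Prime.one_lt (Fact.out)).ne'
    · exact h
  have hcop : (p ^ a).Coprime o := (Nat.Coprime.pow_right a ho).symm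
  obtain ⟨m, j, hmj⟩ := exists_mul_eq_one_add (pow_pos (Nat.Prime.pos (Fact.out)) a) ho0 hcop
  obtain ⟨hk₃, hk₃mem⟩ := isMapOn_iterate hk₁ hk₁mem (p ^ a * m)
  have hiterV : ∀ (i : ℕ) (v : Ω), v ∈ V → (ψj ∘ (ψ' ∘ extHom φ'))^[i] v = k^[i] v := by
    intro i
    induction i with
    | zero => intro v _; rfl
    | succ i ih =>
      intro v hv
      rw [Function.iterate_succ_apply', Function.iterate_succ_apply', ih v hv]
      exact hk₁V _ ((isMapOn_iterate hk.map hk.mem i).2 v hv)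
  have hiterR : ∀ (i : ℕ) (t : Ω), t ∈ normalizerIn T V →
      (ψj ∘ (ψ' ∘ extHom φ'))^[i] t = t * (t⁻¹ * (ψj ∘ (ψ' ∘ extHom φ')) t) ^ i := by
    intro i t ht
    refine iterate_eq_mul_pow (P := V ⊔ normalizerIn T V) (Q := V ⊓ T)
      (fun x hx y hy => hk₁.map_mul hx hy) (inf_le_left.trans le_sup_left) ?_
      ((le_sup_right : normalizerIn T V ≤ V ⊔ normalizerIn T V) ht) (hk₁R t ht) i
    intro x hx
    rw [hk₁V x hx.1]
    exact hk.fix x hx.1 hx.2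
  have hpowR : ∀ r ∈ V ⊓ T, r ^ (p ^ a) = 1 := by
    intro r hr
    have h1 : (⟨r, hr⟩ : ↥(V ⊓ T)) ^ (p ^ a) = 1 := by
      rw [← ha]
      exact pow_card_eq_one'
    have := congrArg Subtype.val h1
    simpa using this
  have hk₃V : ∀ v ∈ V, (ψj ∘ (ψ' ∘ extHom φ'))^[p ^ a * m] v = k v := by
    intro v hv
    rw [hiterV _ v hv, hmj, Function.iterate_add_apply, iterate_mul_eq hk.mem hk.ord j v hv]
    rfl
  have hk₃R : ∀ t ∈ normalizerIn T V, (ψj ∘ (ψ' ∘ extHom φ'))^[p ^ a * m] t = t := by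
    intro t ht
    rw [hiterR _ t ht, pow_mul, hpowR _ (hk₁R t ht), one_pow, mul_one]
  refine ⟨V ⊔ normalizerIn T V, (ψj ∘ (ψ' ∘ extHom φ'))^[p ^ a * m], ?_, ?_, ?_, hk₃V⟩
  · refine lt_of_le_of_ne le_sup_left ?_
    intro heq
    exact hR₁V ((le_sup_right : normalizerIn T V ≤ V ⊔ normalizerIn T V).trans heq.ge)
  · exact sup_le le_sup_left (hR₁T.trans le_sup_right)
  · refine ⟨hk₃, hk₃mem, ?_, ?_⟩
    · intro x hx hxT
      obtain ⟨v, hv, t, ht, rfl⟩ := exists_mul_of_mem_sup hR₁N hx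
      have hvT : v ∈ T := by
        have h1 : v = v * t * t⁻¹ := by group
        rw [h1]
        exact T.mul_mem hxT (T.inv_mem (hR₁T ht))
      rw [hk₃.map_mul ((le_sup_left : V ≤ V ⊔ normalizerIn T V) hv)
        ((le_sup_right : normalizerIn T V ≤ V ⊔ normalizerIn T V) ht), hk₃V v hv, hk₃R t ht,
        hk.fix v hv hvT]
    · obtain ⟨hk₄, -⟩ := isMapOn_iterate hk₃ hk₃mem o
      refine eq_on_sup hk₄ (IsMapOn.id F hV₁S) ?_ ?_
      · intro v hv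
        have hiter : ∀ (i : ℕ) (v : Ω), v ∈ V →
            ((ψj ∘ (ψ' ∘ extHom φ'))^[p ^ a * m])^[i] v = k^[i] v := by
          intro i
          induction i with
          | zero => intro v _; rfl
          | succ i ih =>
            intro v hv
            rw [Function.iterate_succ_apply', Function.iterate_succ_apply', ih v hv]
            exact hk₃V _ ((isMapOn_iterate hk.map hk.mem i).2 v hv)
        rw [hiter o v hv]
        exact hk.ord v hv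
      · intro t ht
        have hiter : ∀ i : ℕ, ((ψj ∘ (ψ' ∘ extHom φ'))^[p ^ a * m])^[i] t = t := by
          intro i
          induction i with
          | zero => rfl
          | succ i ih => rw [Function.iterate_succ_apply', ih, hk₃R t ht]
        exact hiter o

/-- **The extension lemma**: a `p'`-automorphism `k` of `V` in `F` that is the identity on `V ∩ T`, where `T` is strongly
closed and `V ∩ T` is centric in `T`, extends to `V T` as the identity on `T`. -/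
theorem exists_extension_fix [Finite S] [Fact p.Prime] (hS : IsPGroup p S) (hF : F.IsSaturated p)
    (hT : F.StronglyClosed T) {o : ℕ} (ho : o.Coprime p) :
    ∀ (n : ℕ) (V : Subgroup Ω) (k : Ω → Ω), Nat.card S - Nat.card V = n → PAut F T V k o →
      TCentric F T (V ⊓ T) →
      ∃ d : Ω → Ω, IsMapOn F (V ⊔ T) d ∧ (∀ x ∈ V, d x = k x) ∧ ∀ x ∈ T, d x = x := by
  intro n
  induction n using Nat.strong_induction_on with
  | _ n ih =>
  intro V k hn hk hcen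
  by_cases hTV : T ≤ V
  · refine ⟨k, ?_, fun x _ => rfl, fun x hx => hk.fix x (hTV hx) hx⟩
    rw [sup_eq_left.2 hTV]
    exact hk.map
  · obtain ⟨V₁, k₁, hlt, hle, hk₁, hk₁k⟩ := exists_step hS hF hT ho hk hcen hTV
    have hV₁S : V₁ ≤ S := hk₁.map.le
    have hcard : Nat.card S - Nat.card V₁ < n := by
      haveI : Finite V₁ := Helper84_FusionRS.finite_of_le_S hV₁S
      have h1 := card_lt_of_lt hlt
      have h2 := Subgroup.card_le_of_le hV₁S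
      omega
    have hcen₁ : TCentric F T (V₁ ⊓ T) := hcen.of_le (inf_le_inf_right T hlt.le)
    obtain ⟨d, hd, hdk, hdT⟩ := ih _ hcard V₁ k₁ rfl hk₁ hcen₁
    have hsup : V₁ ⊔ T = V ⊔ T :=
      le_antisymm (sup_le hle le_sup_right) (sup_le_sup_right hlt.le T)
    rw [hsup] at hd
    exact ⟨d, hd, fun x hx => by rw [hdk x (hlt.le hx), hk₁k x hx], hdT⟩

end Cfsg.Agent.Lib.Helper85_Nice2
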