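import Cfsg.Agent.Lib.Helper85_Nice2

/-!
# Extensions trivial modulo a strongly closed subgroup (helper85), part 3: `p`-elements extend

Let `E` (over `T`) be saturated and invariant in the saturated system `F` (over `S`).  For an `E`-centric subgroup `P ≤ T`,
every `p`-element `β` of `Aut_E(P)` extends to a map of `F` on `P C_S(T)` that is trivial modulo `T` on `C_S(T)`
(`exists_nice_ext`).
-/

set_option autoImplicit false
set_option linter.style.haveILetI false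

namespace Cfsg.Agent.Lib.Helper85_Nice3

open Cfsg Cfsg.FusionSystem Cfsg.Agent.Lib
open Cfsg.Agent.Lib.Helper87_Alperin Cfsg.Agent.Lib.Helper88_Centric Cfsg.Agent.Lib.Helper85_Rel6
  Cfsg.Agent.Lib.Helper85_Nice1 Cfsg.Agent.Lib.Helper85_Nice2

variable {Ω : Type*} [Group Ω] {S T : Subgroup Ω} {F : FusionSystem S} {E : FusionSystem T} {p : ℕ}

/-- A subgroup of `T` that is fully normalized in `F` is fully normalized in the invariant subsystem `E`. -/
theorem isFullyNormalized_sub [Finite S] [Fact p.Prime] (hS : IsPGroup p S) (hF : F.IsSaturated p)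
    (hEF : E.IsInvariantIn F) {P : Subgroup Ω} (hPn : F.IsFullyNormalized P) (hPT : P ≤ T) :
    E.IsFullyNormalized P := by
  have hT := hEF.2.1
  have hTS := hT.1
  refine ⟨hPT, fun Q hQ => ?_⟩
  have hQF : F.IsConj P Q := by
    obtain ⟨φ, hφ, hr⟩ := hQ
    exact ⟨φ, hEF.1 P hφ, hr⟩
  have hfa := Helper84_FusionRS.IsSaturated.isFullyAutomized hS hF hPn
  have hrec := Helper84_FusionRS.IsSaturated.isReceptive_of_isFullyNormalized hS hF hPn
  obtain ⟨φ', hφ', hφ'N, -⟩ :=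
    Helper84_FusionSat.exists_normalizer_map hS F hfa hrec (Helper84_Fusion.isConj_symm F hQF)
  have ha : IsMapOn F (normalizerIn S Q) (extHom φ') := isMapOn_extHom F hφ'
  have hle : normalizerIn T Q ≤ normalizerIn S Q := fun x hx => ⟨hTS hx.1, hx.2⟩
  obtain ⟨M, hM, -⟩ := exists_isImage (ha.mono hle)
  have hMle : M ≤ normalizerIn T P := by
    intro y hy
    obtain ⟨x, hx, rfl⟩ := (hM y).1 hy
    refine ⟨Helper87_ModT.IsMapOn.mem_stronglyClosed hT ha (hle hx) hx.1, ?_⟩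
    rw [extHom_apply φ' (hle hx)]
    exact (hφ'N _).2
  haveI : Finite (normalizerIn T P) :=
    Helper84_FusionRS.finite_of_le_S ((normalizerIn_le T P).trans hTS)
  rw [Helper88_Centric2.card_eq_of_isImage (ha.mono hle) hM]
  exact Subgroup.card_le_of_le hMle

/-- In a fully automized subgroup, a `p`-element of the automizer is conjugate into `Aut_S(Q)`. -/
theorem exists_aut_conj_into [Finite S] [Fact p.Prime] {Q : Subgroup Ω}
    (hfa : F.IsFullyAutomized p Q) {β : MulAut Q} (hβ : β ∈ F.autGroup Q) {m : ℕ}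
    (hm : β ^ (p ^ m) = 1) :
    ∃ χ ∈ F.autGroup Q, ∃ g ∈ S, g ∈ Subgroup.normalizer (Q : Set Ω) ∧
      ∀ x : Q, ((χ (β x) : Q) : Ω) = g * ((χ x : Q) : Ω) * g⁻¹ := by
  classical
  obtain ⟨hQS, R, hR⟩ := hfa
  haveI : Finite Q := Helper84_FusionRS.finite_of_le_S hQS
  haveI : Finite (F.autGroup Q) := inferInstance
  obtain ⟨k, hk⟩ : ∃ k, orderOf β = p ^ k := by
    have h1 := orderOf_dvd_of_pow_eq_one hm
    obtain ⟨k, -, hk⟩ := (Nat.dvd_prime_pow (Fact.out)).1 h1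
    exact ⟨k, hk⟩
  have hB : IsPGroup p (Subgroup.zpowers (⟨β, hβ⟩ : F.autGroup Q)) := by
    apply IsPGroup.of_card (n := k)
    rw [Nat.card_zpowers, Subgroup.orderOf_mk, hk]
  obtain ⟨χ, hχ⟩ := sylow_conj_into R hB
  have h1 := hχ _ (Subgroup.mem_zpowers (⟨β, hβ⟩ : F.autGroup Q))
  rw [hR, Subgroup.mem_subgroupOf, Helper85_Fusion.mem_autInducedBy_iff] at h1
  obtain ⟨g, hg, hgx⟩ := h1
  have hconj : ∀ x : Q, ((χ : MulAut Q) (β x) : Ω) = g * (((χ : MulAut Q) x : Q) : Ω) * g⁻¹ := by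
    intro x
    have h2 := hgx ((χ : MulAut Q) x)
    simp only [Subgroup.coe_mul, Subgroup.coe_inv, MulAut.mul_apply, MulAut.inv_apply_self] at h2
    exact h2
  refine ⟨χ, χ.2, g, hg, ?_, hconj⟩
  apply Cfsg.Agent.S5111.mem_normalizer_of_conj_mem
  intro y hy
  have h3 := hconj ((χ : MulAut Q)⁻¹ ⟨y, hy⟩)
  simp only [MulAut.apply_inv_self] at h3
  rw [← h3]
  exact ((χ : MulAut Q) _).2

/-- Conjugation by an element of `S` commuting with `P` fixes `P` pointwise. -/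
theorem conj_eq_of_mem_centralizerIn {P : Subgroup Ω} {g x : Ω} (hg : g ∈ centralizerIn S P)
    (hx : x ∈ P) : g * x * g⁻¹ = x := by
  have h1 := ((mem_centralizerIn_iff S P g).1 hg).2 x hx
  rw [← h1]
  group

/-- A map of `F` defined on `P ⊔ C` maps the centralizer part into the centralizer of the image of `P`. -/
theorem map_mem_centralizerIn {P P' D : Subgroup Ω} {f : Ω → Ω} (hf : IsMapOn F D f) (hPD : P ≤ D)
    (himg : IsImage P f P') {y : Ω} (hyD : y ∈ D) (hy : ∀ x ∈ P, x * y = y * x) :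
    f y ∈ centralizerIn S P' := by
  rw [mem_centralizerIn_iff]
  refine ⟨hf.mem hyD, fun z hz => ?_⟩
  obtain ⟨x, hx, rfl⟩ := (himg z).1 hz
  rw [← hf.map_mul (hPD hx) hyD, ← hf.map_mul hyD (hPD hx), hy x hx]

/-- **`p`-elements extend trivially modulo `T`.** -/
theorem exists_nice_ext [Finite S] [Fact p.Prime] (hS : IsPGroup p S) (hF : F.IsSaturated p)
    (hE : E.IsSaturated p) (hEF : E.IsInvariantIn F) {P : Subgroup Ω} (hPc : E.IsCentric P)
    {β : MulAut P} (hβ : β ∈ E.autGroup P) {m : ℕ} (hm : β ^ (p ^ m) = 1) :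
    ∃ g : Ω → Ω, IsMapOn F (P ⊔ centralizerIn S T) g ∧ (∀ x ∈ P, g x = extFun β x) ∧
      ∀ c ∈ centralizerIn S T, c⁻¹ * g c ∈ T := by
  classical
  have hT := hEF.2.1
  have hTS := hT.1
  have hPT : P ≤ T := hPc.1
  have hPS : P ≤ S := hPT.trans hTS
  haveI : Finite T := Helper84_FusionRS.finite_of_le_S hTS
  have hTp : IsPGroup p T := hS.to_le hTS
  have hβF : β ∈ F.autGroup P := Cfsg.Agent.S5139.autGroup_mono hEF.1 P hβ
  -- a fully normalized conjugate `P''`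
  obtain ⟨P'', hPP'', hP''n⟩ := Helper84_FusionRS.exists_isFullyNormalized_conj F hPS
  have hrec := Helper84_FusionRS.IsSaturated.isReceptive_of_isFullyNormalized hS hF hP''n
  obtain ⟨f₁, hf₁, hf₁img⟩ := exists_isMapOn_of_isConj hPP''
  have hP''T : P'' ≤ T := by
    intro y hy
    obtain ⟨x, hx, rfl⟩ := (hf₁img y).1 hy
    exact Helper87_ModT.IsMapOn.mem_stronglyClosed hT hf₁ hx (hPT hx)
  have hP''S : P'' ≤ S := hP''n.1
  have hP''c : E.IsCentric P'' := Helper85_Rel1.isCentric_of_isMapOn hEF hPc hf₁ hf₁img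
  haveI : Finite P := Helper84_FusionRS.finite_of_le_S hPS
  haveI : Finite P'' := Helper84_FusionRS.finite_of_le_S hP''S
  -- extend `f₁` to `P C_S(P)`
  obtain ⟨ψ, hψ, hψf⟩ := Helper85_SatCrit2.receptive_extend hrec hf₁ hf₁img (centralizerIn S P)
    (fun g hg => ⟨Helper84_FusionRS.centralizerIn_le_normalizerIn S P hg, 1, S.one_mem,
      fun x hx => by rw [conj_eq_of_mem_centralizerIn hg hx]; group⟩)
  have hCle : centralizerIn S T ≤ centralizerIn S P := by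
    intro c hc
    rw [mem_centralizerIn_iff] at hc ⊢
    exact ⟨hc.1, fun x hx => hc.2 x (hPT hx)⟩
  have hdom : P ⊔ centralizerIn S T ≤ P ⊔ centralizerIn S P := sup_le_sup_left hCle P
  have hψ' : IsMapOn F (P ⊔ centralizerIn S T) ψ := hψ.mono hdom
  have hψimg : IsImage P ψ P'' := by
    intro y
    rw [hf₁img y]
    constructor
    · rintro ⟨x, hx, rfl⟩
      exact ⟨x, hx, hψf x hx⟩
    · rintro ⟨x, hx, rfl⟩
      exact ⟨x, hx, (hψf x hx).symm⟩
  -- transport `β` to `P''`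
  obtain ⟨k₁, hk₁, hk₁f, hk₁P, hfk₁⟩ := hf₁.inv hf₁img
  obtain ⟨e, he⟩ := Helper85_Index.exists_equiv_of_isMapOn hf₁ hf₁img
  obtain ⟨hβ''F, hβ''val⟩ := Helper85_Index.transport_aut hf₁ hk₁ hf₁img hk₁f e he β hβF
  have hβ''E : MulAut.congr e β ∈ E.autGroup P'' := by
    obtain ⟨α, hα, f₀, hf₀, hfα⟩ := Helper85_Transport2.exists_frattini hEF hPT hf₁
    obtain ⟨P₀, hP₀, -⟩ := exists_isImage hf₀
    obtain ⟨k₀, hk₀, hk₀f, hk₀P, -⟩ := hf₀.inv hP₀
    have hP₀T : P₀ ≤ T := hk₀.le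
    have hβE : IsMapOn E P (extFun β) := (mem_autGroup_iff E hPT β).1 hβ
    have hb₀ : IsMapOn E P₀ (f₀ ∘ (extFun β ∘ k₀)) :=
      (hk₀.comp hβE hk₀P).comp hf₀ (fun y hy => extFun_mem β (hk₀P y hy))
    have hP₀img : IsImage P₀ (extFun α) P'' := by
      intro y
      rw [hf₁img y]
      constructor
      · rintro ⟨x, hx, rfl⟩
        exact ⟨f₀ x, hP₀.mem hx, (hfα x hx).symm⟩
      · rintro ⟨z, hz, rfl⟩
        obtain ⟨x, hx, rfl⟩ := (hP₀ z).1 hz
        exact ⟨x, hx, hfα x hx⟩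
    have htr := Helper88_Invariant.isMapOn_transport hEF hα hb₀ hP₀img
    rw [mem_autGroup_iff E hP''T]
    refine htr.congr fun y hy => ?_
    obtain ⟨x, hx, rfl⟩ := (hf₁img y).1 hy
    simp only [Function.comp_apply]
    rw [hβ''val _ (hf₁img.mem hx), hk₁f x hx, hfα x hx,
      extFun_inv_apply α (hP₀T (hP₀.mem hx)), hk₀f x hx, hfα _ (extFun_mem β hx)]
  have hm'' : (MulAut.congr e β) ^ (p ^ m) = 1 := by
    rw [← map_pow, hm, map_one]
  -- conjugate into `Aut_T(P'')`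
  have hP''nE : E.IsFullyNormalized P'' := isFullyNormalized_sub hS hF hEF hP''n hP''T
  have hfaE := Helper84_FusionRS.IsSaturated.isFullyAutomized hTp hE hP''nE
  obtain ⟨χ, hχ, g, hgT, hgN, hχg⟩ := exists_aut_conj_into hfaE hβ''E hm''
  have hgS : g ∈ S := hTS hgT
  have hχF : χ ∈ F.autGroup P'' := Cfsg.Agent.S5139.autGroup_mono hEF.1 P'' hχ
  have hχmap : IsMapOn F P'' (extFun χ) := (mem_autGroup_iff F hP''S χ).1 hχF
  -- extend `χ` to `U₂ = P'' C_S(P'')`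
  obtain ⟨χ', hχ', hχ'x⟩ := Helper85_SatCrit2.receptive_extend hrec hχmap
    (Helper85_SatCrit6.isImage_extFun χ) (centralizerIn S P'')
    (fun g hg => ⟨Helper84_FusionRS.centralizerIn_le_normalizerIn S P'' hg, 1, S.one_mem,
      fun x hx => by rw [conj_eq_of_mem_centralizerIn hg hx]; group⟩)
  have hU₂S : P'' ⊔ centralizerIn S P'' ≤ S := sup_le hP''S inf_le_left
  haveI : Finite ↥(P'' ⊔ centralizerIn S P'') := Helper84_FusionRS.finite_of_le_S hU₂S
  have hχ'img : IsImage P'' χ' P'' := by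
    intro y
    rw [Helper85_SatCrit6.isImage_extFun χ y]
    constructor
    · rintro ⟨x, hx, rfl⟩
      exact ⟨x, hx, hχ'x x hx⟩
    · rintro ⟨x, hx, rfl⟩
      exact ⟨x, hx, (hχ'x x hx).symm⟩
  have hχ'U : ∀ x ∈ P'' ⊔ centralizerIn S P'', χ' x ∈ P'' ⊔ centralizerIn S P'' := by
    refine mem_of_mem_sup hχ' ?_ ?_
    · intro x hx
      exact (le_sup_left : P'' ≤ P'' ⊔ centralizerIn S P'') (hχ'img.mem hx)
    · intro y hy
      refine (le_sup_right : centralizerIn S P'' ≤ P'' ⊔ centralizerIn S P'')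
        (map_mem_centralizerIn hχ' le_sup_left hχ'img
          ((le_sup_right : centralizerIn S P'' ≤ P'' ⊔ centralizerIn S P'') hy) ?_)
      exact ((mem_centralizerIn_iff S P'' y).1 hy).2
  obtain ⟨X, hX, hXx⟩ := Cfsg.Agent.S5111.exists_aut_of_isMapOn hχ' hχ'U
  -- conjugation by `g` on `U₂`
  have hgP'' : ∀ x ∈ P'', g * x * g⁻¹ ∈ P'' :=
    fun x hx => ((Subgroup.mem_normalizer_iff.1 hgN) x).1 hx
  have hconjmap : IsMapOn F (P'' ⊔ centralizerIn S P'') (fun x => g * x * g⁻¹) :=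
    IsMapOn.conj F hU₂S hgS
  have hconjimg : IsImage P'' (fun x => g * x * g⁻¹) P'' := by
    intro y
    constructor
    · intro hy
      refine ⟨g⁻¹ * y * g, ?_, by group⟩
      have := ((Subgroup.mem_normalizer_iff.1 (Subgroup.inv_mem _ hgN)) y).1 hy
      rwa [inv_inv] at this
    · rintro ⟨x, hx, rfl⟩
      exact hgP'' x hx
  have hconjU : ∀ x ∈ P'' ⊔ centralizerIn S P'', g * x * g⁻¹ ∈ P'' ⊔ centralizerIn S P'' := by
    refine mem_of_mem_sup hconjmap ?_ ?_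
    · intro x hx
      exact (le_sup_left : P'' ≤ P'' ⊔ centralizerIn S P'') (hgP'' x hx)
    · intro y hy
      refine (le_sup_right : centralizerIn S P'' ≤ P'' ⊔ centralizerIn S P'')
        (map_mem_centralizerIn hconjmap le_sup_left hconjimg
          ((le_sup_right : centralizerIn S P'' ≤ P'' ⊔ centralizerIn S P'') hy) ?_)
      exact ((mem_centralizerIn_iff S P'' y).1 hy).2
  obtain ⟨G, hG, hGx⟩ := Cfsg.Agent.S5111.exists_aut_of_isMapOn hconjmap hconjU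
  -- `B = X⁻¹ G X`
  have hB : X⁻¹ * G * X ∈ F.autGroup (P'' ⊔ centralizerIn S P'') :=
    (F.autGroup _).mul_mem ((F.autGroup _).mul_mem ((F.autGroup _).inv_mem hX) hG) hX
  have hBmap : IsMapOn F (P'' ⊔ centralizerIn S P'') (extFun (X⁻¹ * G * X)) :=
    (mem_autGroup_iff F hU₂S _).1 hB
  -- `B` is trivial modulo `T`
  have hBT : ∀ y ∈ P'' ⊔ centralizerIn S P'', y⁻¹ * extFun (X⁻¹ * G * X) y ∈ T := by
    intro y hy
    rw [extFun_apply _ hy]
    simp only [MulAut.mul_apply]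
    have hz : ((X ⟨y, hy⟩ : ↥(P'' ⊔ centralizerIn S P'')) : Ω) ∈ S := hU₂S (X ⟨y, hy⟩).2
    have hw : ((X ⟨y, hy⟩ : ↥(P'' ⊔ centralizerIn S P'')) : Ω)⁻¹ *
        ((G (X ⟨y, hy⟩) : ↥(P'' ⊔ centralizerIn S P'')) : Ω) ∈ (P'' ⊔ centralizerIn S P'') ⊓ T := by
      refine ⟨Subgroup.mul_mem _ (Subgroup.inv_mem _ (X ⟨y, hy⟩).2) (G (X ⟨y, hy⟩)).2, ?_⟩
      rw [hGx]
      have h1 := Helper85_FusionNormal.sc_conj_mem hT (S.inv_mem hz) hgT
      have e1 : ((X ⟨y, hy⟩ : ↥(P'' ⊔ centralizerIn S P'')) : Ω)⁻¹ *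
          (g * ((X ⟨y, hy⟩ : ↥(P'' ⊔ centralizerIn S P'')) : Ω) * g⁻¹) =
          (((X ⟨y, hy⟩ : ↥(P'' ⊔ centralizerIn S P'')) : Ω)⁻¹ * g *
            (((X ⟨y, hy⟩ : ↥(P'' ⊔ centralizerIn S P'')) : Ω)⁻¹)⁻¹) * g⁻¹ := by group
      rw [e1]
      exact T.mul_mem h1 (T.inv_mem hgT)
    have e2 : G (X ⟨y, hy⟩) = X ⟨y, hy⟩ *
        ⟨((X ⟨y, hy⟩ : ↥(P'' ⊔ centralizerIn S P'')) : Ω)⁻¹ *
          ((G (X ⟨y, hy⟩) : ↥(P'' ⊔ centralizerIn S P'')) : Ω), hw.1⟩ := by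
      apply Subtype.ext
      simp
    rw [e2, map_mul, MulAut.inv_apply_self, Subgroup.coe_mul, inv_mul_cancel_left]
    exact (aut_mem_inf hT hU₂S ((F.autGroup _).inv_mem hX) _ hw).2
  -- `B` restricted to `P''` is the transport of `β`
  have hBβ : ∀ y ∈ P'', extFun (X⁻¹ * G * X) y = extFun (MulAut.congr e β) y := by
    intro y hy
    have hyU : y ∈ P'' ⊔ centralizerIn S P'' := (le_sup_left : P'' ≤ _) hy
    have hβy : extFun (MulAut.congr e β) y ∈ P'' := extFun_mem _ hy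
    have hβyU : extFun (MulAut.congr e β) y ∈ P'' ⊔ centralizerIn S P'' := (le_sup_left : P'' ≤ _) hβy
    rw [extFun_apply _ hyU]
    simp only [MulAut.mul_apply]
    have h1 : G (X ⟨y, hyU⟩) = X ⟨extFun (MulAut.congr e β) y, hβyU⟩ := by
      apply Subtype.ext
      rw [hGx, hXx, hXx, hχ'x y hy, hχ'x _ hβy, extFun_apply χ hy, extFun_apply χ hβy]
      have e3 : (⟨extFun (MulAut.congr e β) y, hβy⟩ : P'') = (MulAut.congr e β) ⟨y, hy⟩ :=
        Subtype.ext (extFun_apply _ hy)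
      rw [e3]
      exact (hχg ⟨y, hy⟩).symm
    rw [h1, MulAut.inv_apply_self]
  -- values of `ψ`
  have hψU : ∀ x ∈ P ⊔ centralizerIn S T, ψ x ∈ P'' ⊔ centralizerIn S P'' := by
    refine mem_of_mem_sup hψ' ?_ ?_
    · intro x hx
      exact (le_sup_left : P'' ≤ _) (hψimg.mem hx)
    · intro c hc
      refine (le_sup_right : centralizerIn S P'' ≤ _)
        (map_mem_centralizerIn hψ' le_sup_left hψimg
          ((le_sup_right : centralizerIn S T ≤ P ⊔ centralizerIn S T) hc) ?_)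
      exact ((mem_centralizerIn_iff S P c).1 (hCle hc)).2
  obtain ⟨U₁, hU₁, -⟩ := exists_isImage hψ'
  obtain ⟨ψi, hψi, hψi1, hψi2, hψi3⟩ := hψ'.inv hU₁
  have hcomp : IsMapOn F (P ⊔ centralizerIn S T) (extFun (X⁻¹ * G * X) ∘ ψ) :=
    hψ'.comp hBmap hψU
  have hvalP : ∀ x ∈ P, extFun (X⁻¹ * G * X) (ψ x) = ψ (extFun β x) := by
    intro x hx
    rw [hBβ _ (hψimg.mem hx), hβ''val _ (hψimg.mem hx), hψf x hx, hk₁f x hx,
      hψf _ (extFun_mem β hx)]
  have hvalC : ∀ c ∈ centralizerIn S T, ∃ x₀ ∈ P, extFun (X⁻¹ * G * X) (ψ c) = ψ (c * x₀) := by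
    intro c hc
    have hcD : c ∈ P ⊔ centralizerIn S T := (le_sup_right : centralizerIn S T ≤ _) hc
    have hψc : ψ c ∈ centralizerIn S P'' :=
      map_mem_centralizerIn hψ' le_sup_left hψimg hcD ((mem_centralizerIn_iff S P c).1 (hCle hc)).2
    have hψcU : ψ c ∈ P'' ⊔ centralizerIn S P'' := (le_sup_right : centralizerIn S P'' ≤ _) hψc
    have hBimg : IsImage P'' (extFun (X⁻¹ * G * X)) P'' := by
      intro y
      constructor
      · intro hy
        have h1 : extFun (MulAut.congr e β)⁻¹ y ∈ P'' := extFun_mem _ hy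
        refine ⟨_, h1, ?_⟩
        rw [hBβ _ h1]
        exact extFun_apply_inv _ hy
      · rintro ⟨x, hx, rfl⟩
        rw [hBβ x hx]
        exact extFun_mem _ hx
    have hBc : extFun (X⁻¹ * G * X) (ψ c) ∈ centralizerIn S P'' :=
      map_mem_centralizerIn hBmap le_sup_left hBimg hψcU ((mem_centralizerIn_iff S P'' _).1 hψc).2
    have htc : (ψ c)⁻¹ * extFun (X⁻¹ * G * X) (ψ c) ∈ centralizerIn T P'' := by
      have h1 : (ψ c)⁻¹ * extFun (X⁻¹ * G * X) (ψ c) ∈ centralizerIn S P'' :=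
        Subgroup.mul_mem _ (Subgroup.inv_mem _ hψc) hBc
      rw [mem_centralizerIn_iff] at h1 ⊢
      exact ⟨hBT _ hψcU, h1.2⟩
    have htc' := hP''c.2 P'' (isConj_refl E hP''T) htc
    obtain ⟨x₀, hx₀, hx₀t⟩ := (hψimg _).1 htc'
    refine ⟨x₀, hx₀, ?_⟩
    rw [hψ'.map_mul hcD ((le_sup_left : P ≤ _) hx₀), hx₀t]
    group
  have hinto : ∀ x ∈ P ⊔ centralizerIn S T, (extFun (X⁻¹ * G * X) ∘ ψ) x ∈ U₁ := by
    refine mem_of_mem_sup hcomp ?_ ?_
    · intro x hx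
      show extFun (X⁻¹ * G * X) (ψ x) ∈ U₁
      rw [hvalP x hx]
      exact hU₁.mem ((le_sup_left : P ≤ _) (extFun_mem β hx))
    · intro c hc
      obtain ⟨x₀, hx₀, hx₀c⟩ := hvalC c hc
      show extFun (X⁻¹ * G * X) (ψ c) ∈ U₁
      rw [hx₀c]
      exact hU₁.mem (Subgroup.mul_mem _ ((le_sup_right : centralizerIn S T ≤ _) hc)
        ((le_sup_left : P ≤ _) hx₀))
  refine ⟨ψi ∘ (extFun (X⁻¹ * G * X) ∘ ψ), hcomp.comp hψi hinto, ?_, ?_⟩
  · intro x hx
    show ψi (extFun (X⁻¹ * G * X) (ψ x)) = extFun β x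
    rw [hvalP x hx]
    exact hψi1 _ ((le_sup_left : P ≤ _) (extFun_mem β hx))
  · intro c hc
    obtain ⟨x₀, hx₀, hx₀c⟩ := hvalC c hc
    show c⁻¹ * ψi (extFun (X⁻¹ * G * X) (ψ c)) ∈ T
    rw [hx₀c, hψi1 _ (Subgroup.mul_mem _ ((le_sup_right : centralizerIn S T ≤ _) hc)
      ((le_sup_left : P ≤ _) hx₀)), inv_mul_cancel_left]
    exact hPT hx₀

end Cfsg.Agent.Lib.Helper85_Nice3
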