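import Cfsg.Agent.Lib.Helper85_Nice3

/-!
# Extensions trivial modulo a strongly closed subgroup (helper85), part 4: the system of nice maps

`E` (over `T`) saturated and invariant in the saturated system `F` (over `S`), `C = C_S(T)`.  A map `f` of `E` on an
`E`-centric subgroup `P` is *nice* when it extends to a map of `F` on `P C` that is trivial modulo `T` on `C`.  The nice
maps (and all maps on non-centric subgroups) form a fusion system `niceSystem` over `T` containing the `p`-elements of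
the automizers of the centric subgroups, hence containing `genSystem E p`.
-/

set_option autoImplicit false
set_option linter.style.haveILetI false

namespace Cfsg.Agent.Lib.Helper85_Nice4

open Cfsg Cfsg.FusionSystem Cfsg.Agent.Lib
open Cfsg.Agent.Lib.Helper87_Alperin Cfsg.Agent.Lib.Helper88_Centric
  Cfsg.Agent.Lib.Helper85_Nice1 Cfsg.Agent.Lib.Helper85_Nice2 Cfsg.Agent.Lib.Helper85_Nice3
open Cfsg.Agent.Lib.Helper85_Index (PE Good genSystem)

variable {Ω : Type*} [Group Ω] {S T : Subgroup Ω} {F : FusionSystem S} {E : FusionSystem T} {p : ℕ}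

/-- `g` is an extension of `f` from `P` to `P C_S(T)` in `F`, trivial modulo `T` on `C_S(T)`. -/
def IsNiceExt (F : FusionSystem S) (T P : Subgroup Ω) (f g : Ω → Ω) : Prop :=
  IsMapOn F (P ⊔ centralizerIn S T) g ∧ (∀ x ∈ P, g x = f x) ∧
    ∀ c ∈ centralizerIn S T, c⁻¹ * g c ∈ T

/-- The niceness predicate (void on non-centric subgroups). -/
def NiceG (F : FusionSystem S) (E : FusionSystem T) (P : Subgroup Ω) (f : Ω → Ω) : Prop :=
  E.IsCentric P → ∃ g : Ω → Ω, IsNiceExt F T P f g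

theorem IsNiceExt.isImage {P P' : Subgroup Ω} {f g : Ω → Ω} (hg : IsNiceExt F T P f g)
    (himg : IsImage P f P') : IsImage P g P' := by
  intro y
  rw [himg y]
  constructor
  · rintro ⟨x, hx, rfl⟩
    exact ⟨x, hx, hg.2.1 x hx⟩
  · rintro ⟨x, hx, rfl⟩
    exact ⟨x, hx, (hg.2.1 x hx).symm⟩

/-- The shift of a nice extension on `C_S(T)` lies in the image of `P`. -/
theorem nice_shift {P P' : Subgroup Ω} (hPT : P ≤ T) (hP'c : E.IsCentric P') {f g : Ω → Ω}
    (hg : IsNiceExt F T P f g) (himg : IsImage P f P') :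
    ∀ c ∈ centralizerIn S T, c⁻¹ * g c ∈ P' := by
  intro c hc
  have hP'T : P' ≤ T := hP'c.1
  have himg' := hg.isImage himg
  have hcP : ∀ x ∈ P, x * c = c * x := fun x hx => ((mem_centralizerIn_iff S T c).1 hc).2 x (hPT hx)
  have hgc : g c ∈ centralizerIn S P' :=
    map_mem_centralizerIn hg.1 le_sup_left himg'
      ((le_sup_right : centralizerIn S T ≤ P ⊔ centralizerIn S T) hc) hcP
  apply hP'c.2 P' (isConj_refl E hP'T)
  rw [mem_centralizerIn_iff] at hgc ⊢
  refine ⟨hg.2.2 c hc, fun z hz => ?_⟩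
  have h1 := hgc.2 z hz
  have h2 := ((mem_centralizerIn_iff S T c).1 hc).2 z (hP'T hz)
  have h3 : z * c⁻¹ = c⁻¹ * z := by
    calc z * c⁻¹ = c⁻¹ * (c * z) * c⁻¹ := by group
      _ = c⁻¹ * (z * c) * c⁻¹ := by rw [h2]
      _ = c⁻¹ * z := by group
  calc z * (c⁻¹ * g c) = (z * c⁻¹) * g c := by group
    _ = c⁻¹ * (z * g c) := by rw [h3]; group
    _ = c⁻¹ * (g c * z) := by rw [h1]
    _ = c⁻¹ * g c * z := by group

/-- A nice extension maps `P C` into `R C` when `P` is mapped into `R`. -/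
theorem nice_maps_into {P P' R : Subgroup Ω} (hPT : P ≤ T) (hP'c : E.IsCentric P') {f g : Ω → Ω}
    (hg : IsNiceExt F T P f g) (himg : IsImage P f P') (hP'R : P' ≤ R) :
    ∀ x ∈ P ⊔ centralizerIn S T, g x ∈ R ⊔ centralizerIn S T := by
  refine mem_of_mem_sup hg.1 ?_ ?_
  · intro x hx
    exact (le_sup_left : R ≤ _) (hP'R ((hg.isImage himg).mem hx))
  · intro c hc
    have h1 := nice_shift hPT hP'c hg himg c hc
    have e : g c = c * (c⁻¹ * g c) := by group
    rw [e]
    exact Subgroup.mul_mem _ ((le_sup_right : centralizerIn S T ≤ _) hc)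
      ((le_sup_left : R ≤ _) (hP'R h1))

theorem niceG_congr {P : Subgroup Ω} {f g : Ω → Ω} (h : NiceG F E P f) (hfg : ∀ x ∈ P, f x = g x) :
    NiceG F E P g := by
  intro hPc
  obtain ⟨k, hk1, hk2, hk3⟩ := h hPc
  exact ⟨k, hk1, fun x hx => (hk2 x hx).trans (hfg x hx), hk3⟩

theorem niceG_conj (hTS : T ≤ S) {P : Subgroup Ω} {a : Ω} (hP : P ≤ T) (ha : a ∈ T) :
    NiceG F E P (fun x => a * x * a⁻¹) := by
  intro _
  have hle : P ⊔ centralizerIn S T ≤ S := sup_le (hP.trans hTS) inf_le_left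
  refine ⟨fun x => a * x * a⁻¹, IsMapOn.conj F hle (hTS ha), fun _ _ => rfl, fun c hc => ?_⟩
  have h1 := ((mem_centralizerIn_iff S T c).1 hc).2 a ha
  have e : c⁻¹ * (a * c * a⁻¹) = 1 := by
    rw [h1]
    group
  rw [e]
  exact T.one_mem

theorem niceG_comp {P R : Subgroup Ω} {f g : Ω → Ω} (hf : IsMapOn E P f) (hGf : NiceG F E P f)
    (hg : IsMapOn E R g) (hGg : NiceG F E R g) (hfR : ∀ x ∈ P, f x ∈ R) :
    NiceG F E P (g ∘ f) := by
  intro hPc
  have hPT : P ≤ T := hPc.1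
  have hRT : R ≤ T := hg.le
  obtain ⟨P', hP', hPP'⟩ := exists_isImage hf
  have hP'c : E.IsCentric P' := isCentric_of_isConj hPc hPP'
  have hP'R : P' ≤ R := by
    intro y hy
    obtain ⟨x, hx, rfl⟩ := (hP' y).1 hy
    exact hfR x hx
  have hRc : E.IsCentric R := isCentric_of_le hP'c hP'R hRT
  obtain ⟨f', hf'⟩ := hGf hPc
  obtain ⟨g', hg'⟩ := hGg hRc
  have hinto := nice_maps_into hPT hP'c hf' hP' hP'R
  refine ⟨g' ∘ f', hf'.1.comp hg'.1 hinto, fun x hx => ?_, fun c hc => ?_⟩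
  · show g' (f' x) = g (f x)
    rw [hf'.2.1 x hx, hg'.2.1 _ (hfR x hx)]
  · show c⁻¹ * g' (f' c) ∈ T
    have h1 := nice_shift hPT hP'c hf' hP' c hc
    have hcD : c ∈ R ⊔ centralizerIn S T := (le_sup_right : centralizerIn S T ≤ _) hc
    have htD : c⁻¹ * f' c ∈ R ⊔ centralizerIn S T := (le_sup_left : R ≤ _) (hP'R h1)
    have e : f' c = c * (c⁻¹ * f' c) := by group
    rw [e, hg'.1.map_mul hcD htD, ← mul_assoc]
    refine T.mul_mem (hg'.2.2 c hc) ?_
    rw [hg'.2.1 _ (hP'R h1)]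
    exact hg.mem (hP'R h1)

theorem niceG_inv {P P' : Subgroup Ω} {f g : Ω → Ω} (hf : IsMapOn E P f) (hGf : NiceG F E P f)
    (himg : IsImage P f P') (_ : IsMapOn E P' g) (hgf : ∀ x ∈ P, g (f x) = x) :
    NiceG F E P' g := by
  intro hP'c
  have hPT : P ≤ T := hf.le
  have hPc : E.IsCentric P :=
    isCentric_of_isConj hP'c (Helper84_Fusion.isConj_symm E (isConj_of_isImage hf himg))
  obtain ⟨f', hf'⟩ := hGf hPc
  obtain ⟨M, hM, -⟩ := exists_isImage hf'.1
  obtain ⟨k, hk, hk1, hk2, hk3⟩ := hf'.1.inv hM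
  have himg' := hf'.isImage himg
  -- every element of `C` is a value of `f'`
  have hC : ∀ c ∈ centralizerIn S T, ∃ x₀ ∈ P, f' (c * x₀⁻¹) = c := by
    intro c hc
    have h1 := nice_shift hPT hP'c hf' himg c hc
    obtain ⟨x₀, hx₀, hx₀c⟩ := (himg' _).1 h1
    refine ⟨x₀, hx₀, ?_⟩
    rw [hf'.1.map_mul ((le_sup_right : centralizerIn S T ≤ _) hc)
      (Subgroup.inv_mem _ ((le_sup_left : P ≤ _) hx₀)),
      hf'.1.map_inv ((le_sup_left : P ≤ _) hx₀), hx₀c]
    group
  have hle : P' ⊔ centralizerIn S T ≤ M := by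
    refine sup_le ?_ ?_
    · intro y hy
      obtain ⟨x, hx, rfl⟩ := (himg' y).1 hy
      exact hM.mem ((le_sup_left : P ≤ _) hx)
    · intro c hc
      obtain ⟨x₀, hx₀, hx₀c⟩ := hC c hc
      rw [← hx₀c]
      exact hM.mem (Subgroup.mul_mem _ ((le_sup_right : centralizerIn S T ≤ _) hc)
        (Subgroup.inv_mem _ ((le_sup_left : P ≤ _) hx₀)))
  refine ⟨k, hk.mono hle, fun y hy => ?_, fun c hc => ?_⟩
  · obtain ⟨x, hx, rfl⟩ := (himg y).1 hy
    rw [hgf x hx, ← hf'.2.1 x hx]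
    exact hk1 x ((le_sup_left : P ≤ _) hx)
  · obtain ⟨x₀, hx₀, hx₀c⟩ := hC c hc
    have h2 := hk1 (c * x₀⁻¹) (Subgroup.mul_mem _ ((le_sup_right : centralizerIn S T ≤ _) hc)
      (Subgroup.inv_mem _ ((le_sup_left : P ≤ _) hx₀)))
    rw [hx₀c] at h2
    rw [h2, inv_mul_cancel_left]
    exact T.inv_mem (hPT hx₀)

/-- The system of nice maps. -/
def niceSystem (F : FusionSystem S) (E : FusionSystem T) (hTS : T ≤ S) : FusionSystem T :=
  Helper88_Essential.subsystemOf E (NiceG F E) niceG_congr (niceG_conj hTS) niceG_comp niceG_inv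

theorem niceSystem_le (hTS : T ≤ S) : (niceSystem F E hTS).IsSubsystemOf E := fun _ _ h => h.1

theorem niceG_of_isMapOn (hTS : T ≤ S) {P : Subgroup Ω} {f : Ω → Ω}
    (hf : IsMapOn (niceSystem F E hTS) P f) : NiceG F E P f := by
  obtain ⟨φ, hφ, hφf⟩ := hf
  refine niceG_congr hφ.2 fun x hx => ?_
  rw [extHom_apply φ hx, hφf]

/-- The system of nice maps contains the `p`-elements of the automizers of the centric subgroups. -/
theorem good_niceSystem [Finite S] [Fact p.Prime] (hS : IsPGroup p S) (hF : F.IsSaturated p)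
    (hE : E.IsSaturated p) (hEF : E.IsInvariantIn F) :
    Good E p (niceSystem F E hEF.2.1.1) := by
  intro P hP
  have hPT : P ≤ T := hP.1
  rw [Subgroup.closure_le]
  intro β hβ
  apply Subgroup.subset_closure
  refine ⟨(mem_autGroup_iff' E hPT β).1 hβ.1, ?_⟩
  intro hPc
  obtain ⟨k, hk⟩ := hβ.2
  have hm : β ^ (p ^ k) = 1 := by
    rw [← hk]
    exact pow_orderOf_eq_one β
  obtain ⟨g, hg1, hg2, hg3⟩ := exists_nice_ext hS hF hE hEF hPc hβ.1 hm
  refine ⟨g, hg1, fun x hx => ?_, hg3⟩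
  rw [hg2 x hx, extHom_apply _ hx, extFun_apply β hx]
  rfl

/-- Maps of the generated system on centric subgroups are nice. -/
theorem nice_of_genSystem [Finite S] [Fact p.Prime] (hS : IsPGroup p S) (hF : F.IsSaturated p)
    (hE : E.IsSaturated p) (hEF : E.IsInvariantIn F) {R : Subgroup Ω} (hRc : E.IsCentric R)
    {f : Ω → Ω} (hf : IsMapOn (genSystem E p) R f) : ∃ g : Ω → Ω, IsNiceExt F T R f g := by
  have h1 := Helper85_Index.genSystem_le (good_niceSystem hS hF hE hEF)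
  exact niceG_of_isMapOn hEF.2.1.1 (Helper85_Index.isMapOn_of_le h1 hf) hRc

end Cfsg.Agent.Lib.Helper85_Nice4
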