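import Cfsg.Agent.Lib.Helper85_Nice4

/-!
# Extensions trivial modulo a strongly closed subgroup (helper85), part 5: from nice restrictions to the extension condition

If `α ∈ Aut_E(T)` restricts on some `E`-centric subgroup `R` to a nice map, then `α` satisfies the extension condition of
normality (`ext_of_nice`).  Consequently every element of `Aut_E^0(T) = A0 E p` satisfies the extension condition
(`ext_of_mem_A0`).
-/

set_option autoImplicit false
set_option linter.style.haveILetI false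

namespace Cfsg.Agent.Lib.Helper85_Nice5

open Cfsg Cfsg.FusionSystem Cfsg.Agent.Lib
open Cfsg.Agent.Lib.Helper87_Alperin Cfsg.Agent.Lib.Helper88_Centric
  Cfsg.Agent.Lib.Helper85_Nice1 Cfsg.Agent.Lib.Helper85_Nice2 Cfsg.Agent.Lib.Helper85_Nice3
  Cfsg.Agent.Lib.Helper85_Nice4
open Cfsg.Agent.Lib.Helper85_Index (PE Good genSystem)
open Cfsg.Agent.S5120 (Ext ext_one ext_mul)

variable {Ω : Type*} [Group Ω] {S T : Subgroup Ω} {F : FusionSystem S} {E : FusionSystem T} {p : ℕ}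

/-- A map of `F` on `A ⊔ B` is trivial modulo `T` as soon as it is on `A` and on `B`. -/
theorem ttriv_on_sup (hT : F.StronglyClosed T) {A B : Subgroup Ω} {f : Ω → Ω}
    (hf : IsMapOn F (A ⊔ B) f) (hA : ∀ a ∈ A, a⁻¹ * f a ∈ T) (hB : ∀ b ∈ B, b⁻¹ * f b ∈ T) :
    ∀ x ∈ A ⊔ B, x⁻¹ * f x ∈ T := by
  have hDS : A ⊔ B ≤ S := hf.le
  let K : Subgroup Ω :=
    { carrier := {x | x ∈ A ⊔ B ∧ x⁻¹ * f x ∈ T}
      one_mem' := ⟨Subgroup.one_mem _, by rw [hf.map_one]; simp⟩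
      mul_mem' := by
        rintro x y ⟨hx, hxT⟩ ⟨hy, hyT⟩
        refine ⟨Subgroup.mul_mem _ hx hy, ?_⟩
        rw [hf.map_mul hx hy]
        have h1 : y⁻¹ * (x⁻¹ * f x) * (y⁻¹)⁻¹ ∈ T :=
          Helper85_FusionNormal.sc_conj_mem hT (S.inv_mem (hDS hy)) hxT
        have e : (x * y)⁻¹ * (f x * f y) = (y⁻¹ * (x⁻¹ * f x) * (y⁻¹)⁻¹) * (y⁻¹ * f y) := by group
        rw [e]
        exact T.mul_mem h1 hyT
      inv_mem' := by
        rintro x ⟨hx, hxT⟩
        refine ⟨Subgroup.inv_mem _ hx, ?_⟩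
        rw [hf.map_inv hx]
        have h1 : x * (x⁻¹ * f x)⁻¹ * x⁻¹ ∈ T :=
          Helper85_FusionNormal.sc_conj_mem hT (hDS hx) (T.inv_mem hxT)
        have e : (x⁻¹)⁻¹ * (f x)⁻¹ = x * (x⁻¹ * f x)⁻¹ * x⁻¹ := by group
        rw [e]
        exact h1 }
  have hle : A ⊔ B ≤ K :=
    sup_le (fun a ha => ⟨(le_sup_left : A ≤ A ⊔ B) ha, hA a ha⟩)
      (fun b hb => ⟨(le_sup_right : B ≤ A ⊔ B) hb, hB b hb⟩)
  exact fun x hx => (hle hx).2

theorem extFun_iterate {U : Subgroup Ω} (β : MulAut U) (j : ℕ) {x : Ω} (hx : x ∈ U) :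
    (extFun β)^[j] x = extFun (β ^ j) x := by
  induction j with
  | zero =>
    rw [pow_zero, Helper88_AutInv.extFun_one_apply hx]
    rfl
  | succ j ih =>
    rw [Function.iterate_succ_apply', ih, pow_succ', extFun_mul _ _ hx]

/-- A nice extension of `α` itself gives the extension condition. -/
theorem ext_of_nice_top [Finite S] (hTS : T ≤ S) {α : MulAut T} {ρ : Ω → Ω}
    (hρ : IsNiceExt F T T (extFun α) ρ) : Ext F T α := by
  have hUS : T ⊔ centralizerIn S T ≤ S := sup_le hTS inf_le_left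
  haveI : Finite ↥(T ⊔ centralizerIn S T) := Helper84_FusionRS.finite_of_le_S hUS
  have himg : IsImage T ρ T := hρ.isImage (Helper85_SatCrit6.isImage_extFun α)
  have hρU : ∀ x ∈ T ⊔ centralizerIn S T, ρ x ∈ T ⊔ centralizerIn S T := by
    refine mem_of_mem_sup hρ.1 ?_ ?_
    · intro x hx
      exact (le_sup_left : T ≤ _) (himg.mem hx)
    · intro c hc
      have e : ρ c = c * (c⁻¹ * ρ c) := by group
      rw [e]
      exact Subgroup.mul_mem _ ((le_sup_right : centralizerIn S T ≤ _) hc)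
        ((le_sup_left : T ≤ _) (hρ.2.2 c hc))
  obtain ⟨β, hβ, hβρ⟩ := Cfsg.Agent.S5111.exists_aut_of_isMapOn hρ.1 hρU
  refine ⟨β, hβ, fun x => ?_, fun c hc => ⟨?_, ?_⟩⟩
  · rw [hβρ]
    show ρ (x : Ω) = _
    rw [hρ.2.1 _ x.2, extFun_coe]
  · rw [hβρ]
    exact hρ.2.2 _ hc
  · rw [hβρ]
    have h1 : ρ (c : Ω) ∈ centralizerIn S T :=
      map_mem_centralizerIn hρ.1 le_sup_left himg c.2
        ((mem_centralizerIn_iff S T (c : Ω)).1 hc).2
    exact Subgroup.mul_mem _ (Subgroup.inv_mem _ hc.2) h1.2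

/-- The `p`-elements of `Aut_E(T)` satisfy the extension condition. -/
theorem ext_of_pelt [Finite S] [Fact p.Prime] (hS : IsPGroup p S) (hF : F.IsSaturated p)
    (hE : E.IsSaturated p) (hEF : E.IsInvariantIn F) {α : MulAut T} (hα : α ∈ E.autGroup T) {m : ℕ}
    (hm : α ^ (p ^ m) = 1) : Ext F T α := by
  have hTS := hEF.2.1.1
  haveI : Finite T := Helper84_FusionRS.finite_of_le_S hTS
  obtain ⟨g, hg⟩ := exists_nice_ext hS hF hE hEF (Helper85_PPrime2.isCentric_top E) hα hm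
  exact ext_of_nice_top hTS hg

/-- Decomposition of an element of a finite group into its `p`-part and its `p'`-part. -/
theorem exists_pow_decomp {G : Type*} [Group G] [Finite G] (p : ℕ) [hp : Fact p.Prime] (g : G) :
    ∃ a b k : ℕ, g = g ^ a * g ^ b ∧ (g ^ a) ^ (p ^ k) = 1 ∧ (orderOf (g ^ b)).Coprime p := by
  have ho : orderOf g ≠ 0 := (orderOf_pos g).ne'
  obtain ⟨k, m, hm, hom⟩ := Nat.exists_eq_pow_mul_and_not_dvd ho p hp.out.ne_one
  have hmp : m.Coprime p := ((Nat.Prime.coprime_iff_not_dvd hp.out).2 hm).symm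
  have hco : Nat.Coprime (p ^ k) m := (Nat.Coprime.pow_right k hmp).symm
  obtain ⟨a, ha1, ha0⟩ := Nat.chineseRemainder hco 1 0
  obtain ⟨b, hb0, hb1⟩ := Nat.chineseRemainder hco 0 1
  refine ⟨a, b, k, ?_, ?_, ?_⟩
  · rw [← pow_add]
    have h1 : a + b ≡ 1 [MOD orderOf g] := by
      rw [hom, ← Nat.modEq_and_modEq_iff_modEq_mul hco]
      exact ⟨by simpa using ha1.add hb0, by simpa using ha0.add hb1⟩
    have h2 := (pow_eq_pow_iff_modEq (x := g)).2 h1
    rw [h2, pow_one]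
  · rw [← pow_mul]
    apply orderOf_dvd_iff_pow_eq_one.1
    rw [hom, mul_comm a]
    exact Nat.mul_dvd_mul dvd_rfl ((Nat.modEq_zero_iff_dvd).1 ha0)
  · have hdvd : orderOf (g ^ b) ∣ m := by
      apply orderOf_dvd_of_pow_eq_one
      rw [← pow_mul]
      apply orderOf_dvd_iff_pow_eq_one.1
      rw [hom]
      exact Nat.mul_dvd_mul ((Nat.modEq_zero_iff_dvd).1 hb0) dvd_rfl
    exact Nat.Coprime.coprime_dvd_left hdvd hmp

/-- `R` is `T`-centric in the sense of the extension lemma when it is `E`-centric. -/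
theorem tCentric_of_isCentric (hEF : E.IsInvariantIn F) {R : Subgroup Ω} (hRc : E.IsCentric R) :
    TCentric F T R := by
  intro f R' hf himg
  have hR'c : E.IsCentric R' := Helper85_Rel1.isCentric_of_isMapOn hEF hRc hf himg
  exact hR'c.2 R' (isConj_refl E hR'c.1)

/-- **The correction**: an automorphism `b` of `T C_S(T)` in `F` of order prime to `p` whose restriction to some
`E`-centric `R` has a nice extension can be corrected by an automorphism that is the identity on `T`. -/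
theorem exists_correction [Finite S] [Fact p.Prime] (hS : IsPGroup p S) (hF : F.IsSaturated p)
    (hEF : E.IsInvariantIn F) {b : Ω → Ω} {o : ℕ} (ho : o.Coprime p)
    (hb : IsMapOn F (T ⊔ centralizerIn S T) b) (hbimg : IsImage T b T)
    (hbU : ∀ x ∈ T ⊔ centralizerIn S T, b x ∈ T ⊔ centralizerIn S T)
    (hbord : ∀ x ∈ T ⊔ centralizerIn S T, b^[o] x = x)
    {R : Subgroup Ω} (hRc : E.IsCentric R) {ρ : Ω → Ω} (hρ : IsNiceExt F T R b ρ) :
    ∃ d : Ω → Ω, IsMapOn F (T ⊔ centralizerIn S T) d ∧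
      (∀ x ∈ T ⊔ centralizerIn S T, d x ∈ T ⊔ centralizerIn S T) ∧ (∀ x ∈ T, d x = x) ∧
      ∀ c ∈ centralizerIn S T, ∃ x ∈ T ⊔ centralizerIn S T, d x = c ∧ c⁻¹ * b x ∈ T := by
  classical
  have hT := hEF.2.1
  have hTS := hT.1
  have hRT : R ≤ T := hRc.1
  have hRS : R ≤ S := hRT.trans hTS
  have hVU : R ⊔ centralizerIn S T ≤ T ⊔ centralizerIn S T := sup_le_sup_right hRT _
  have hRU : R ≤ T ⊔ centralizerIn S T := hRT.trans le_sup_left
  have hRV : R ≤ R ⊔ centralizerIn S T := le_sup_left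
  have hCV : centralizerIn S T ≤ R ⊔ centralizerIn S T := le_sup_right
  have hVS : R ⊔ centralizerIn S T ≤ S := sup_le hRS inf_le_left
  have ho0 : 0 < o := by
    rcases Nat.eq_zero_or_pos o with h | h
    · subst h
      rw [Nat.coprime_zero_left] at ho
      exact absurd ho (Nat.Prime.one_lt (Fact.out)).ne'
    · exact h
  -- the image `R'` of `R`
  obtain ⟨R', hR', -⟩ := exists_isImage (hb.mono hRU)
  have hR'c : E.IsCentric R' := Helper85_Rel1.isCentric_of_isMapOn hEF hRc (hb.mono hRU) hR'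
  have hρimg : IsImage R ρ R' := hρ.isImage hR'
  obtain ⟨M, hM, -⟩ := exists_isImage hρ.1
  obtain ⟨ρi, hρi, hρi1, hρi2, hρi3⟩ := hρ.1.inv hM
  -- `C ≤ M` and `R' ≤ M`
  have hCM : centralizerIn S T ≤ M := by
    intro c hc
    have h1 := nice_shift hRT hR'c hρ hR' c hc
    obtain ⟨x₀, hx₀, hx₀c⟩ := (hρimg _).1 h1
    have h2 : ρ (c * x₀⁻¹) = c := by
      rw [hρ.1.map_mul (hCV hc) (Subgroup.inv_mem _ (hRV hx₀)), hρ.1.map_inv (hRV hx₀), hx₀c]
      group
    rw [← h2]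
    exact hM.mem (Subgroup.mul_mem _ (hCV hc) (Subgroup.inv_mem _ (hRV hx₀)))
  have hR'M : R' ≤ M := by
    intro y hy
    obtain ⟨x, hx, rfl⟩ := (hρimg y).1 hy
    exact hM.mem (hRV hx)
  have hbVM : ∀ x ∈ R ⊔ centralizerIn S T, b x ∈ M := by
    refine mem_of_mem_sup (hb.mono hVU) ?_ ?_
    · intro x hx
      exact hR'M (hR'.mem hx)
    · intro c hc
      apply hCM
      exact map_mem_centralizerIn hb le_sup_left hbimg
        ((le_sup_right : centralizerIn S T ≤ T ⊔ centralizerIn S T) hc)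
        ((mem_centralizerIn_iff S T c).1 hc).2
  -- `k = ρ⁻¹ b` on `V = R C`
  have hk : IsMapOn F (R ⊔ centralizerIn S T) (ρi ∘ b) := (hb.mono hVU).comp hρi hbVM
  have hkmem : ∀ x ∈ R ⊔ centralizerIn S T, (ρi ∘ b) x ∈ R ⊔ centralizerIn S T :=
    fun x hx => hρi2 _ (hbVM x hx)
  have hkR : ∀ x ∈ R, (ρi ∘ b) x = x := by
    intro x hx
    show ρi (b x) = x
    rw [← hρ.2.1 x hx]
    exact hρi1 x (hRV hx)
  have hCN : centralizerIn S T ≤ Subgroup.normalizer (R : Set Ω) := by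
    intro c hc
    haveI : Finite R := Helper84_FusionRS.finite_of_le_S hRS
    apply Cfsg.Agent.S5111.mem_normalizer_of_conj_mem
    intro y hy
    have h1 := ((mem_centralizerIn_iff S T c).1 hc).2 y (hRT hy)
    have e : c * y * c⁻¹ = y := by
      rw [← h1]
      group
    rw [e]
    exact hy
  have hVT : ∀ x ∈ R ⊔ centralizerIn S T, x ∈ T → x ∈ R := by
    intro x hx hxT
    obtain ⟨r, hr, c, hc, rfl⟩ := exists_mul_of_mem_sup hCN hx
    have hcT : c ∈ T := by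
      have e : c = r⁻¹ * (r * c) := by group
      rw [e]
      exact T.mul_mem (T.inv_mem (hRT hr)) hxT
    have hcR : c ∈ R := by
      apply hRc.2 R (isConj_refl E hRT)
      rw [mem_centralizerIn_iff]
      exact ⟨hcT, fun y hy => ((mem_centralizerIn_iff S T c).1 hc).2 y (hRT hy)⟩
    exact R.mul_mem hr hcR
  have hkfix : ∀ x ∈ R ⊔ centralizerIn S T, x ∈ T → (ρi ∘ b) x = x :=
    fun x hx hxT => hkR x (hVT x hx hxT)
  -- congruences modulo `T`
  have hρtriv : ∀ y ∈ R ⊔ centralizerIn S T, y⁻¹ * ρ y ∈ T := by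
    refine ttriv_on_sup hT hρ.1 ?_ hρ.2.2
    intro r hr
    rw [hρ.2.1 r hr]
    exact T.mul_mem (T.inv_mem (hRT hr)) (hbimg.mem (hRT hr))
  have hcong1 : ∀ x ∈ R ⊔ centralizerIn S T, ((ρi ∘ b) x)⁻¹ * b x ∈ T := by
    intro x hx
    have h1 := hρtriv _ (hkmem x hx)
    have h2 : ρ ((ρi ∘ b) x) = b x := hρi3 _ (hbVM x hx)
    rwa [h2] at h1
  have hbT : ∀ t ∈ T ⊔ centralizerIn S T, t ∈ T → b t ∈ T := fun t _ htT => hbimg.mem htT
  have hcongj : ∀ (j : ℕ) (x : Ω), x ∈ R ⊔ centralizerIn S T →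
      (ρi ∘ b)^[j] x ∈ R ⊔ centralizerIn S T ∧ b^[j] x ∈ T ⊔ centralizerIn S T ∧
        ((ρi ∘ b)^[j] x)⁻¹ * b^[j] x ∈ T := by
    intro j
    induction j with
    | zero =>
      intro x hx
      refine ⟨hx, hVU hx, ?_⟩
      simp
    | succ j ih =>
      intro x hx
      obtain ⟨hu, hw, huw⟩ := ih x hx
      rw [Function.iterate_succ_apply', Function.iterate_succ_apply']
      refine ⟨hkmem _ hu, hbU _ hw, ?_⟩
      have h1 := hcong1 _ hu
      have h2 : (b ((ρi ∘ b)^[j] x))⁻¹ * b (b^[j] x) ∈ T := by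
        rw [← hb.map_inv (hVU hu), ← hb.map_mul (Subgroup.inv_mem _ (hVU hu)) hw]
        exact hbT _ (Subgroup.mul_mem _ (Subgroup.inv_mem _ (hVU hu)) hw) huw
      have e : ((ρi ∘ b) ((ρi ∘ b)^[j] x))⁻¹ * b (b^[j] x) =
          (((ρi ∘ b) ((ρi ∘ b)^[j] x))⁻¹ * b ((ρi ∘ b)^[j] x)) *
            ((b ((ρi ∘ b)^[j] x))⁻¹ * b (b^[j] x)) := by group
      rw [e]
      exact T.mul_mem h1 h2
  -- `k' = k^o` is a shift by elements of `R`
  obtain ⟨hk', hk'mem⟩ := isMapOn_iterate hk hkmem o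
  have hk'R : ∀ x ∈ R, (ρi ∘ b)^[o] x = x := fun x hx => Function.iterate_fixed (hkR x hx) o
  have hk'shift : ∀ x ∈ R ⊔ centralizerIn S T, x⁻¹ * (ρi ∘ b)^[o] x ∈ R := by
    intro x hx
    obtain ⟨hu, -, huw⟩ := hcongj o x hx
    rw [hbord x (hVU hx)] at huw
    have h1 : x⁻¹ * (ρi ∘ b)^[o] x ∈ T := by
      have := T.inv_mem huw
      rwa [mul_inv_rev, inv_inv] at this
    exact hVT _ (Subgroup.mul_mem _ (Subgroup.inv_mem _ hx) hu) h1
  haveI : Finite R := Helper84_FusionRS.finite_of_le_S hRS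
  have hRp : IsPGroup p R := hS.to_le hRS
  obtain ⟨a, ha⟩ := (IsPGroup.iff_card).1 hRp
  have hpowR : ∀ r ∈ R, r ^ (p ^ a) = 1 := by
    intro r hr
    have h1 : (⟨r, hr⟩ : R) ^ (p ^ a) = 1 := by
      rw [← ha]
      exact pow_card_eq_one'
    have := congrArg Subtype.val h1
    simpa using this
  have hk'iter : ∀ (i : ℕ) (x : Ω), x ∈ R ⊔ centralizerIn S T →
      ((ρi ∘ b)^[o])^[i] x = x * (x⁻¹ * (ρi ∘ b)^[o] x) ^ i := by
    intro i x hx
    exact iterate_eq_mul_pow (P := R ⊔ centralizerIn S T) (Q := R)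
      (fun x hx y hy => hk'.map_mul hx hy) hRV hk'R hx (hk'shift x hx) i
  have hcop : (p ^ a).Coprime o := (Nat.Coprime.pow_right a ho).symm
  obtain ⟨m, j, hmj⟩ := exists_mul_eq_one_add (pow_pos (Nat.Prime.pos (Fact.out)) a) ho0 hcop
  -- `k₃ = k^(q m)`
  obtain ⟨hk₃, hk₃mem⟩ := isMapOn_iterate hk hkmem (p ^ a * m)
  have hk₃val : ∀ x ∈ R ⊔ centralizerIn S T,
      (ρi ∘ b)^[p ^ a * m] x = (ρi ∘ b) x * (x⁻¹ * (ρi ∘ b)^[o] x) ^ j := by
    intro x hx
    rw [hmj, Function.iterate_add_apply, Function.iterate_mul, hk'iter j x hx]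
    show (ρi ∘ b) (x * (x⁻¹ * (ρi ∘ b)^[o] x) ^ j) = _
    have hr : (x⁻¹ * (ρi ∘ b)^[o] x) ^ j ∈ R := R.pow_mem (hk'shift x hx) j
    rw [hk.map_mul hx (hRV hr), hkR _ hr]
  have hk₃ord : ∀ x ∈ R ⊔ centralizerIn S T, ((ρi ∘ b)^[p ^ a * m])^[o] x = x := by
    intro x hx
    rw [← Function.iterate_mul, mul_comm (p ^ a * m) o, ← mul_assoc, Function.iterate_mul,
      Function.iterate_mul]
    have h1 : ∀ y ∈ R ⊔ centralizerIn S T, ((ρi ∘ b)^[o])^[p ^ a] y = y := by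
      intro y hy
      rw [hk'iter _ y hy, hpowR _ (hk'shift y hy), mul_one]
    have h2 : ∀ (i : ℕ) (y : Ω), y ∈ R ⊔ centralizerIn S T →
        ((((ρi ∘ b)^[o])^[p ^ a])^[i]) y = y := by
      intro i
      induction i with
      | zero => intro y _; rfl
      | succ i ih =>
        intro y hy
        rw [Function.iterate_succ_apply', ih y hy, h1 y hy]
    exact h2 m x hx
  have hk₃fix : ∀ x ∈ R ⊔ centralizerIn S T, x ∈ T → (ρi ∘ b)^[p ^ a * m] x = x :=
    fun x hx hxT => Function.iterate_fixed (hkfix x hx hxT) _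
  have hPA : PAut F T (R ⊔ centralizerIn S T) ((ρi ∘ b)^[p ^ a * m]) o :=
    ⟨hk₃, hk₃mem, hk₃fix, hk₃ord⟩
  have hTC : TCentric F T ((R ⊔ centralizerIn S T) ⊓ T) :=
    (tCentric_of_isCentric hEF hRc).of_le (le_inf hRV hRT)
  obtain ⟨d, hd, hdk, hdT⟩ := exists_extension_fix hS hF hT ho _ (R ⊔ centralizerIn S T)
    ((ρi ∘ b)^[p ^ a * m]) rfl hPA hTC
  have hsup : R ⊔ centralizerIn S T ⊔ T = T ⊔ centralizerIn S T :=
    le_antisymm (sup_le hVU le_sup_left) (sup_le le_sup_right (hCV.trans le_sup_left))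
  rw [hsup] at hd
  have hpred : ∀ c ∈ centralizerIn S T,
      (ρi ∘ b)^[p ^ a * m] (((ρi ∘ b)^[p ^ a * m])^[o - 1] c) = c := by
    intro c hc
    rw [← Function.iterate_succ_apply' ((ρi ∘ b)^[p ^ a * m]) (o - 1) c]
    have e : (o - 1).succ = o := by omega
    rw [e]
    exact hk₃ord c (hCV hc)
  refine ⟨d, hd, ?_, hdT, ?_⟩
  · refine mem_of_mem_sup hd ?_ ?_
    · intro x hx
      rw [hdT x hx]
      exact (le_sup_left : T ≤ _) hx
    · intro c hc
      rw [hdk c (hCV hc)]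
      exact hVU (hk₃mem c (hCV hc))
  · intro c hc
    obtain ⟨-, hxmem⟩ := isMapOn_iterate hk₃ hk₃mem (o - 1)
    have hxV := hxmem c (hCV hc)
    refine ⟨((ρi ∘ b)^[p ^ a * m])^[o - 1] c, hVU hxV, ?_, ?_⟩
    · rw [hdk _ hxV]
      exact hpred c hc
    · have h1 := hcong1 _ hxV
      have h2 : ((ρi ∘ b) (((ρi ∘ b)^[p ^ a * m])^[o - 1] c))⁻¹ *
          (ρi ∘ b)^[p ^ a * m] (((ρi ∘ b)^[p ^ a * m])^[o - 1] c) ∈ T := by
        rw [hk₃val _ hxV, inv_mul_cancel_left]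
        exact hRT (R.pow_mem (hk'shift _ hxV) j)
      rw [hpred c hc] at h2
      have e : c⁻¹ * b (((ρi ∘ b)^[p ^ a * m])^[o - 1] c) =
          (((ρi ∘ b) (((ρi ∘ b)^[p ^ a * m])^[o - 1] c))⁻¹ * c)⁻¹ *
            (((ρi ∘ b) (((ρi ∘ b)^[p ^ a * m])^[o - 1] c))⁻¹ *
              b (((ρi ∘ b)^[p ^ a * m])^[o - 1] c)) := by group
      rw [e]
      exact T.mul_mem (T.inv_mem h2) h1

/-- The extension condition for a `p'`-element of `Aut_E(T)` whose restriction to some `E`-centric subgroup is nice. -/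
theorem ext_of_nice_pprime [Finite S] [Fact p.Prime] (hS : IsPGroup p S) (hF : F.IsSaturated p)
    (hEF : E.IsInvariantIn F) {α : MulAut T} (hα : α ∈ E.autGroup T)
    (hco : (orderOf α).Coprime p) {R : Subgroup Ω} (hRc : E.IsCentric R) {ρ : Ω → Ω}
    (hρ : IsNiceExt F T R (extFun α) ρ) : Ext F T α := by
  classical
  have hT := hEF.2.1
  have hTS := hT.1
  haveI : Finite T := Helper84_FusionRS.finite_of_le_S hTS
  have hTn : (T.subgroupOf S).Normal :=
    (Subgroup.normal_subgroupOf_iff_le_normalizer hTS).2 (Helper85_FusionNormal.sc_le_normalizer hT)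
  have hαF : α ∈ F.autGroup T := Cfsg.Agent.S5139.autGroup_mono hEF.1 T hα
  obtain ⟨β₀, hβ₀, hβ₀α⟩ := Cfsg.Agent.S5120.exists_ext_aut hS hF hTS hTn hαF
  have hUS : T ⊔ centralizerIn S T ≤ S := sup_le hTS inf_le_left
  haveI : Finite ↥(T ⊔ centralizerIn S T) := Helper84_FusionRS.finite_of_le_S hUS
  haveI : Finite (MulAut ↥(T ⊔ centralizerIn S T)) := inferInstance
  obtain ⟨n, hn1, hn2⟩ := Cfsg.Agent.S5139.exists_pprime_power p β₀ (orderOf α) hco
  have hpow : ∀ (j : ℕ) (x : T),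
      (((β₀ ^ j) (Subgroup.inclusion le_sup_left x) : ↥(T ⊔ centralizerIn S T)) : Ω) =
        (((α ^ j) x : T) : Ω) := by
    intro j
    induction j with
    | zero => intro x; rfl
    | succ j ih =>
      intro x
      rw [pow_succ', pow_succ', MulAut.mul_apply, MulAut.mul_apply]
      have h : (β₀ ^ j) (Subgroup.inclusion le_sup_left x) =
          Subgroup.inclusion le_sup_left ((α ^ j) x) := Subtype.ext (ih x)
      rw [h, hβ₀α]
  have hαn : α ^ n = α := by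
    have : α ^ n = α ^ 1 := by
      rw [← pow_mod_orderOf, hn2, pow_mod_orderOf]
    simpa using this
  have hβ₁F : β₀ ^ n ∈ F.autGroup (T ⊔ centralizerIn S T) := Subgroup.pow_mem _ hβ₀ n
  have hb : IsMapOn F (T ⊔ centralizerIn S T) (extFun (β₀ ^ n)) :=
    (mem_autGroup_iff F hUS _).1 hβ₁F
  have hbT : ∀ x ∈ T, extFun (β₀ ^ n) x = extFun α x := by
    intro x hx
    rw [extFun_apply _ ((le_sup_left : T ≤ T ⊔ centralizerIn S T) hx), extFun_apply α hx]
    have h1 := hpow n ⟨x, hx⟩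
    rw [hαn] at h1
    exact h1
  have hbimg : IsImage T (extFun (β₀ ^ n)) T := by
    intro y
    rw [Helper85_SatCrit6.isImage_extFun α y]
    constructor
    · rintro ⟨x, hx, rfl⟩
      exact ⟨x, hx, hbT x hx⟩
    · rintro ⟨x, hx, rfl⟩
      exact ⟨x, hx, (hbT x hx).symm⟩
  have hbU : ∀ x ∈ T ⊔ centralizerIn S T, extFun (β₀ ^ n) x ∈ T ⊔ centralizerIn S T :=
    fun x hx => extFun_mem _ hx
  have hbord : ∀ x ∈ T ⊔ centralizerIn S T, (extFun (β₀ ^ n))^[orderOf (β₀ ^ n)] x = x := by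
    intro x hx
    rw [extFun_iterate _ _ hx, pow_orderOf_eq_one, Helper88_AutInv.extFun_one_apply hx]
  have hρ' : IsNiceExt F T R (extFun (β₀ ^ n)) ρ :=
    ⟨hρ.1, fun x hx => (hρ.2.1 x hx).trans (hbT x (hRc.1 hx)).symm, hρ.2.2⟩
  obtain ⟨d, hd, hdU, hdT, hdC⟩ := exists_correction hS hF hEF hn1 hb hbimg hbU hbord hRc hρ'
  obtain ⟨D, hD, hDd⟩ := Cfsg.Agent.S5111.exists_aut_of_isMapOn hd hdU
  have hβ : β₀ ^ n * D⁻¹ ∈ F.autGroup (T ⊔ centralizerIn S T) :=
    (F.autGroup _).mul_mem hβ₁F ((F.autGroup _).inv_mem hD)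
  apply ext_of_nice_top hTS (ρ := extFun (β₀ ^ n * D⁻¹))
  refine ⟨(mem_autGroup_iff F hUS _).1 hβ, fun x hx => ?_, fun c hc => ?_⟩
  · have hxU : x ∈ T ⊔ centralizerIn S T := (le_sup_left : T ≤ _) hx
    have hDx : D ⟨x, hxU⟩ = ⟨x, hxU⟩ := by
      apply Subtype.ext
      rw [hDd]
      exact hdT x hx
    have hDix : D⁻¹ ⟨x, hxU⟩ = ⟨x, hxU⟩ := by
      calc D⁻¹ ⟨x, hxU⟩ = D⁻¹ (D ⟨x, hxU⟩) := by rw [hDx]
        _ = ⟨x, hxU⟩ := MulAut.inv_apply_self _ D _
    rw [extFun_apply _ hxU, MulAut.mul_apply, hDix, ← hbT x hx, extFun_apply _ hxU]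
  · obtain ⟨x, hxU, hdx, hcx⟩ := hdC c hc
    have hcU : c ∈ T ⊔ centralizerIn S T := (le_sup_right : centralizerIn S T ≤ _) hc
    have hDx : D ⟨x, hxU⟩ = ⟨c, hcU⟩ := by
      apply Subtype.ext
      rw [hDd]
      exact hdx
    have hDic : D⁻¹ ⟨c, hcU⟩ = ⟨x, hxU⟩ := by
      rw [← hDx]
      exact MulAut.inv_apply_self _ D _
    rw [extFun_apply _ hcU, MulAut.mul_apply, hDic, ← extFun_apply (β₀ ^ n) hxU]
    exact hcx

/-- **The extension condition from a nice restriction.** -/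
theorem ext_of_nice [Finite S] [Fact p.Prime] (hS : IsPGroup p S) (hF : F.IsSaturated p)
    (hE : E.IsSaturated p) (hEF : E.IsInvariantIn F) {α : MulAut T} (hα : α ∈ E.autGroup T)
    {R : Subgroup Ω} (hRc : E.IsCentric R) {ρ : Ω → Ω} (hρ : IsNiceExt F T R (extFun α) ρ) :
    Ext F T α := by
  classical
  have hT := hEF.2.1
  have hTS := hT.1
  have hRT : R ≤ T := hRc.1
  haveI : Finite T := Helper84_FusionRS.finite_of_le_S hTS
  haveI : Finite (MulAut T) := inferInstance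
  obtain ⟨a, b, k, hab, hpa, hpb⟩ := exists_pow_decomp p α
  have hαa : α ^ a ∈ E.autGroup T := Subgroup.pow_mem _ hα a
  have hαb : α ^ b ∈ E.autGroup T := Subgroup.pow_mem _ hα b
  have hαai : (α ^ a)⁻¹ ∈ E.autGroup T := Subgroup.inv_mem _ hαa
  have hpai : ((α ^ a)⁻¹) ^ (p ^ k) = 1 := by rw [inv_pow, hpa, inv_one]
  have hbeq : α ^ b = (α ^ a)⁻¹ * α := by
    have h : (α ^ a)⁻¹ * α = (α ^ a)⁻¹ * (α ^ a * α ^ b) := congrArg (fun z => (α ^ a)⁻¹ * z) hab
    rw [h, inv_mul_cancel_left]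
  -- a nice extension of `(α^a)⁻¹` on `T C`
  obtain ⟨γ, hγ⟩ := exists_nice_ext hS hF hE hEF (Helper85_PPrime2.isCentric_top E) hαai hpai
  -- the image of `R` under `α`
  obtain ⟨R', hR', hRR'⟩ := exists_isImage
    (((mem_autGroup_iff E le_rfl α).1 hα).mono hRT)
  have hR'c : E.IsCentric R' := isCentric_of_isConj hRc hRR'
  have hinto := nice_maps_into hRT hR'c hρ hR' hR'c.1
  have hρ₂ : IsNiceExt F T R (extFun (α ^ b)) (γ ∘ ρ) := by
    refine ⟨hρ.1.comp hγ.1 hinto, fun x hx => ?_, fun c hc => ?_⟩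
    · show γ (ρ x) = _
      rw [hρ.2.1 x hx, hγ.2.1 _ (extFun_mem α (hRT hx)), hbeq, extFun_mul _ _ (hRT hx)]
    · show c⁻¹ * γ (ρ c) ∈ T
      have h1 := hρ.2.2 c hc
      have hcU : c ∈ T ⊔ centralizerIn S T := (le_sup_right : centralizerIn S T ≤ _) hc
      have htU : c⁻¹ * ρ c ∈ T ⊔ centralizerIn S T := (le_sup_left : T ≤ _) h1
      have e : ρ c = c * (c⁻¹ * ρ c) := by group
      rw [e, hγ.1.map_mul hcU htU, ← mul_assoc]
      refine T.mul_mem (hγ.2.2 c hc) ?_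
      rw [hγ.2.1 _ h1]
      exact extFun_mem _ h1
  have h1 : Ext F T (α ^ a) := ext_of_pelt hS hF hE hEF hαa hpa
  have h2 : Ext F T (α ^ b) := ext_of_nice_pprime hS hF hEF hαb hpb hRc hρ₂
  rw [hab]
  exact ext_mul h1 h2

end Cfsg.Agent.Lib.Helper85_Nice5
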