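import Cfsg.Agent.Lib.Helper85_PPrime1

/-!
# Subsystems of index prime to `p` (helper85), part 2: `H · E₀` is saturated of index prime to `p`
-/

set_option autoImplicit false
set_option linter.style.haveILetI false

namespace Cfsg.Agent.Lib.Helper85_PPrime2

open Cfsg Cfsg.FusionSystem Cfsg.Agent.Lib
open Cfsg.Agent.Lib.Helper87_Alperin (IsMapOn extFun extHom)
open Cfsg.Agent.Lib.Helper88_Centric (IsImage)
open Cfsg.Agent.S5120 (Adm)
open Cfsg.Agent.Lib.Helper85_Index (genSystem InvHyp)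
open Cfsg.Agent.Lib.Helper85_PPrime1

variable {Ω : Type*} [Group Ω] {S : Subgroup Ω} {F : FusionSystem S} {p : ℕ}
  {H : Subgroup (MulAut S)}

theorem card_normalizerIn_le_of_isImage [Finite S] {Q Q' : Subgroup Ω} {a : Ω → Ω}
    (ha : IsMapOn F (normalizerIn S Q) a) (hQS : Q ≤ S) (himg : IsImage Q a Q') :
    Nat.card (normalizerIn S Q) ≤ Nat.card (normalizerIn S Q') := by
  obtain ⟨M, hM, -⟩ := Helper88_Centric.exists_isImage ha
  have hMle : M ≤ normalizerIn S Q' := by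
    intro y hy
    obtain ⟨x, hx, rfl⟩ := (hM y).1 hy
    exact ⟨ha.mem hx, Helper88_Centric.map_mem_normalizer ha
      (Helper87_Alperin.le_normalizerIn hQS) himg hx hx.2⟩
  haveI : Finite (normalizerIn S Q') :=
    Helper84_FusionRS.finite_of_le_S (Helper87_Alperin.normalizerIn_le S Q')
  rw [Helper88_Centric2.card_eq_of_isImage ha hM]
  exact Subgroup.card_le_of_le hMle

theorem frattini [Finite S] [Fact p.Prime] (hS : IsPGroup p S) (hF : F.IsSaturated p) :
    F ≤ Cfsg.Agent.Lib.Helper85_Index.frSystem2 F (genSystem F p) invHyp :=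
  Cfsg.Agent.Lib.Helper85_Index.le_frSystem2 hS hF invHyp Cfsg.Agent.Lib.Helper85_Index.genSystem_le_F
    Cfsg.Agent.Lib.Helper85_Index.genSystem_good

theorem isCentric_top [Finite S] (F : FusionSystem S) : F.IsCentric S := by
  have hconjS : ∀ Q, F.IsConj S Q → Q = S := by
    intro Q hQ
    have hQS : Q ≤ S := Helper88_Centric.isConj_le_right hQ
    have hcard := Helper85_Fusion.isConj_card_eq F hQ
    exact Subgroup.eq_of_le_of_card_ge hQS (le_of_eq hcard)
  refine ⟨le_rfl, fun Q hQ => ?_⟩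
  rw [hconjS Q hQ]
  intro x hx
  exact ((Helper88_Centric.mem_centralizerIn_iff S S x).1 hx).1

/-- Every class of centric subgroups contains a fully automized receptive member of `H · E₀`. -/
theorem exists_fa_rec [Finite S] [Fact p.Prime] (hS : IsPGroup p S) (hF : F.IsSaturated p)
    (hH : H ≤ F.autGroup S) (hA0 : A0 F p ≤ H) {P : Subgroup Ω} (hPc : F.IsCentric P) :
    ∃ Q, (sysH F p H hH).IsConj P Q ∧ (sysH F p H hH).IsFullyAutomized p Q ∧
      (sysH F p H hH).IsReceptive Q := by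
  have hPS : P ≤ S := hPc.1
  have hfr := frattini hS hF
  obtain ⟨Q, hPQ, hQn⟩ := Helper84_FusionRS.exists_isFullyNormalized_conj F hPS
  obtain ⟨f, hf, himg⟩ := Helper88_Centric.exists_isMapOn_of_isConj hPQ
  obtain ⟨a, a', hA, hf₀⟩ := Cfsg.Agent.Lib.Helper85_Index.gf2_of_isMapOn_F invHyp hfr hf
  obtain ⟨Q', hQ', -⟩ := Helper88_Centric.exists_isImage hf₀
  have hf₀E : IsMapOn (sysH F p H hH) P (a' ∘ f) := isMapOn_sysH_of_genSystem hH hf₀
  have hPQ'E : (sysH F p H hH).IsConj P Q' := Helper88_Centric.isConj_of_isImage hf₀E hQ'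
  have hPQ'F : F.IsConj P Q' :=
    Helper88_Centric.isConj_of_isImage (isMapOn_F_of_sysH hH hf₀E) hQ'
  have hQ'S : Q' ≤ S := Helper88_Centric.isConj_le_right hPQ'F
  have hQS : Q ≤ S := hQn.1
  have hQQ' : IsImage Q a' Q' := by
    intro y
    constructor
    · intro hy
      obtain ⟨x, hx, rfl⟩ := (hQ' y).1 hy
      exact ⟨f x, himg.mem hx, rfl⟩
    · rintro ⟨z, hz, rfl⟩
      obtain ⟨x, hx, rfl⟩ := (himg z).1 hz
      exact hQ'.mem hx
  have hQ'n : F.IsFullyNormalized Q' := by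
    refine ⟨hQ'S, fun Q'' hQ'' => ?_⟩
    have h1 : F.IsConj Q Q'' :=
      Helper84_Fusion.isConj_trans F
        (Helper84_Fusion.isConj_trans F (Helper84_Fusion.isConj_symm F hPQ) hPQ'F) hQ''
    exact (hQn.2 Q'' h1).trans (card_normalizerIn_le_of_isImage
      (hA.map'.mono (Helper87_Alperin.normalizerIn_le S Q)) hQS hQQ')
  have hQ'fa : F.IsFullyAutomized p Q' :=
    Helper84_FusionRS.IsSaturated.isFullyAutomized hS hF hQ'n
  have hQ'rec : F.IsReceptive Q' :=
    Helper84_FusionRS.IsSaturated.isReceptive_of_isFullyNormalized hS hF hQ'n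
  have hQ'c : F.IsCentric Q' := Helper88_Centric.isCentric_of_isConj hPc hPQ'F
  refine ⟨Q', hPQ'E, ?_, ?_⟩
  · haveI : Finite Q' := Helper84_FusionRS.finite_of_le_S hQ'S
    have hsyl := Helper84_FusionSat.isSylowIn_of_isFullyAutomized F hQ'fa
    apply Helper84_FusionRS.isFullyAutomized_of_isSylowIn _ hQ'S
    exact hsyl.mono (Helper87_Alperin.autInducedBy_le_autGroup _ hQ'S)
      (Cfsg.Agent.Lib.Helper85_Index.autGroup_le_of_le (sysH_le_F hH) Q')
  · refine ⟨hQ'S, fun R φ hφ hrange => ?_⟩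
    have hφF : φ ∈ F.Hom R := sysH_le_F hH R hφ
    obtain ⟨ψ, hψ, hψφ⟩ := hQ'rec.2 R φ hφF hrange
    refine ⟨ψ, ?_, hψφ⟩
    have hRQ' : F.IsConj R Q' := ⟨φ, hφF, hrange⟩
    have hRc : F.IsCentric R :=
      Helper88_Centric.isCentric_of_isConj hQ'c (Helper84_Fusion.isConj_symm F hRQ')
    have hRS : R ≤ S := hRc.1
    have hRN : R ≤ extender S R φ :=
      Helper84_Fusion.le_extender S R φ hRS (F.le_of_mem hφF).2
    rw [Helper87_Alperin.mem_hom_iff_isMapOn]
    have hψF := Helper87_Alperin.isMapOn_extHom F hψ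
    apply isMapOn_sysH hH hψF
    obtain ⟨b, b', hB, hψ₀⟩ := Cfsg.Agent.Lib.Helper85_Index.gf2_of_isMapOn_F invHyp hfr hψF
    obtain ⟨β, hβ, hβb⟩ := Helper88_Centric.exists_aut_of_isMapOn hB.map hB.mem
    obtain ⟨α, hα, hφ₀⟩ := gh_of_isMapOn_sysH hH (Helper87_Alperin.isMapOn_extHom _ hφ)
    have hψ₀' : IsMapOn (genSystem F p) (extender S R φ) (extFun β⁻¹ ∘ extHom ψ) :=
      hψ₀.congr fun x hx => by
        simp only [Function.comp_apply]
        exact adm_inv_eq hB hβb (hψF.mem hx)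
    have hβH : β ∈ H := by
      refine key hH hA0 hRc (f := extHom φ) ?_ hα hβ hφ₀ ((hψ₀'.mono hRN).congr fun x hx => ?_)
      · intro x hx
        exact (Helper87_Alperin.isMapOn_extHom F hφF).mem hx
      · simp only [Function.comp_apply]
        rw [Helper87_Alperin.extHom_apply ψ (hRN hx), Helper87_Alperin.extHom_apply φ hx,
          hψφ x hx (hRN hx)]
    exact ⟨β, hβH, hψ₀'⟩

/-- `H · E₀` is generated by its maps on centric subgroups. -/
theorem sysH_gen [Finite S] (hH : H ≤ F.autGroup S) (E'' : FusionSystem S)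
    (hE'' : ∀ P, F.IsCentric P → (sysH F p H hH).Hom P ⊆ E''.Hom P) : sysH F p H hH ≤ E'' := by
  have hmap : ∀ {P : Subgroup Ω} {f : Ω → Ω}, F.IsCentric P → IsMapOn (sysH F p H hH) P f →
      IsMapOn E'' P f := by
    rintro P f hP ⟨φ, hφ, hφf⟩
    exact ⟨φ, hE'' P hP hφ, hφf⟩
  have hgood : Cfsg.Agent.Lib.Helper85_Index.Good F p E'' := by
    intro P hP β hβ
    have h1 : β ∈ (genSystem F p).autGroup P := Cfsg.Agent.Lib.Helper85_Index.genSystem_good P hP hβ
    rw [Helper87_Alperin.mem_autGroup_iff _ hP.1] at h1 ⊢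
    exact hmap hP (isMapOn_sysH_of_genSystem hH h1)
  have hE₀ := Cfsg.Agent.Lib.Helper85_Index.genSystem_le hgood
  intro P φ hφ
  have hφ' := Helper87_Alperin.isMapOn_extHom _ hφ
  have hφF := isMapOn_F_of_sysH hH hφ'
  obtain ⟨α, hα, hf₀⟩ := gh_of_isMapOn_sysH hH hφ'
  have h1 : IsMapOn E'' S (extFun α) := hmap (isCentric_top F) (isMapOn_sysH_of_mem hH hα)
  have h2 : IsMapOn E'' P (extFun α⁻¹ ∘ extHom φ) := Cfsg.Agent.Lib.Helper85_Index.isMapOn_of_le hE₀ hf₀
  rw [Helper87_Alperin.mem_hom_iff_isMapOn]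
  refine (h2.comp h1 (fun x hx => h2.mem hx)).congr fun x hx => ?_
  simp only [Function.comp_apply]
  rw [Helper87_Alperin.extFun_apply_inv α (hφF.mem hx)]

theorem sysH_hyp [Finite S] (hH : H ≤ F.autGroup S) (P : Subgroup Ω) (hP : F.IsCentric P) :
    (Subgroup.closure {α : ↥(F.autGroup P) | ∃ k : ℕ, orderOf α = p ^ k}).map
      (F.autGroup P).subtype ≤ (sysH F p H hH).autGroup P := by
  rw [Cfsg.Agent.Lib.Helper85_Index.map_closure_pe]
  exact (Cfsg.Agent.Lib.Helper85_Index.genSystem_good P hP).trans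
    (Cfsg.Agent.Lib.Helper85_Index.autGroup_le_of_le (genSystem_le_sysH hH) P)

/-- `H · E₀` is saturated. -/
theorem sysH_saturated [Finite S] [Fact p.Prime] (hS : IsPGroup p S) (hF : F.IsSaturated p)
    (hH : H ≤ F.autGroup S) (hA0 : A0 F p ≤ H) : (sysH F p H hH).IsSaturated p := by
  have h5114 := Cfsg.Agent.Lib.Helper85_Index.index_main p hS F hF (sysH F p H hH) (sysH_le_F hH) (sysH_hyp hH)
  refine Cfsg.Agent.S5110.result p hS (sysH F p H hH) {P | F.IsCentric P} (fun P hP => hP.1) ?_ ?_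
    ?_ ?_
  · intro P hP Q hPQ
    obtain ⟨φ, hφ, hr⟩ := hPQ
    exact Helper88_Centric.isCentric_of_isConj hP ⟨φ, sysH_le_F hH P hφ, hr⟩
  · intro P hP
    exact exists_fa_rec hS hF hH hA0 hP
  · intro E'' hE''
    exact sysH_gen hH E'' hE''
  · intro P hPc hP
    exact absurd ((h5114.2.2 P).1 hPc) hP

/-- `H · E₀` has index prime to `p` in `F`. -/
theorem sysH_index [Finite S] [Fact p.Prime] (hS : IsPGroup p S) (hF : F.IsSaturated p)
    (hH : H ≤ F.autGroup S) : (sysH F p H hH).HasPrimeToPIndexIn F p :=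
  (Cfsg.Agent.Lib.Helper85_Index.index_main p hS F hF (sysH F p H hH) (sysH_le_F hH) (sysH_hyp hH)).1

/-- `A0 · E₀` is contained in every saturated subsystem of index prime to `p`. -/
theorem sysH_A0_le [Finite S] [Fact p.Prime] (hS : IsPGroup p S) (hF : F.IsSaturated p)
    (D : FusionSystem S) (hD : D.IsSaturated p) (hDF : D.HasPrimeToPIndexIn F p) :
    (sysH F p (A0 F p) A0_le).IsSubsystemOf D := by
  have hgood : Cfsg.Agent.Lib.Helper85_Index.Good F p D := by
    intro P hP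
    rw [← Cfsg.Agent.Lib.Helper85_Index.map_closure_pe]
    exact hDF.2 P hP.1
  have hE₀ := Cfsg.Agent.Lib.Helper85_Index.genSystem_le hgood
  have hA0D : A0 F p ≤ D.autGroup S := by
    rw [A0, Subgroup.closure_le]
    rintro α ⟨hαF, R, hRc, hαR⟩
    rw [SetLike.mem_coe, Helper87_Alperin.mem_autGroup_iff D le_rfl]
    exact Helper88_Centric.isMapOn_of_restrict_centric hS hF hD hDF.1 _ rfl hRc.1 hRc
      ((Helper87_Alperin.mem_autGroup_iff F le_rfl α).1 hαF)
      (Cfsg.Agent.Lib.Helper85_Index.isMapOn_of_le hE₀ hαR)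
  intro P φ hφ
  have hφ' := Helper87_Alperin.isMapOn_extHom _ hφ
  have hφF := isMapOn_F_of_sysH A0_le hφ'
  obtain ⟨α, hα, hf₀⟩ := gh_of_isMapOn_sysH A0_le hφ'
  have h1 : IsMapOn D S (extFun α) := (Helper87_Alperin.mem_autGroup_iff D le_rfl α).1 (hA0D hα)
  have h2 : IsMapOn D P (extFun α⁻¹ ∘ extHom φ) := Cfsg.Agent.Lib.Helper85_Index.isMapOn_of_le hE₀ hf₀
  rw [Helper87_Alperin.mem_hom_iff_isMapOn]
  refine (h2.comp h1 (fun x hx => h2.mem hx)).congr fun x hx => ?_
  simp only [Function.comp_apply]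
  rw [Helper87_Alperin.extFun_apply_inv α (hφF.mem hx)]

end Cfsg.Agent.Lib.Helper85_PPrime2
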