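import Cfsg.Agent.Lib.Helper85_Nice5
import Cfsg.Agent.Lib.Helper85_PPrime2

/-!
# Extensions trivial modulo a strongly closed subgroup (helper85), part 6: the `p'`-residual of a weakly normal subsystem

For `E` weakly normal in `F` over `T`, the `p'`-residual `A0 · E₀` of `E` (`E₀ = genSystem E p`) is invariant in `F`, and
every element of `A0` satisfies the extension condition of normality.  Hence the `p'`-residual of `E` is normal in `F`.
-/

set_option autoImplicit false
set_option linter.style.haveILetI false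

namespace Cfsg.Agent.Lib.Helper85_Nice6

open Cfsg Cfsg.FusionSystem Cfsg.Agent.Lib
open Cfsg.Agent.Lib.Helper87_Alperin Cfsg.Agent.Lib.Helper88_Centric
  Cfsg.Agent.Lib.Helper85_Nice4 Cfsg.Agent.Lib.Helper85_Nice5
open Cfsg.Agent.Lib.Helper85_Index (PE Good genSystem)
open Cfsg.Agent.Lib.Helper85_PPrime1 (A0 A0gen A0_le GH sysH)
open Cfsg.Agent.S5120 (Ext ext_one ext_mul Adm Gi invSystem)

variable {Ω : Type*} [Group Ω] {S T : Subgroup Ω} {F : FusionSystem S} {E : FusionSystem T} {p : ℕ}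

/-! ### The extension condition on `A0` -/

theorem ext_of_A0gen [Finite S] [Fact p.Prime] (hS : IsPGroup p S) (hF : F.IsSaturated p)
    (hE : E.IsSaturated p) (hEF : E.IsInvariantIn F) {α : MulAut T} (hα : A0gen E p α) :
    Ext F T α := by
  obtain ⟨hαE, R, hRc, hαR⟩ := hα
  obtain ⟨g, hg⟩ := nice_of_genSystem hS hF hE hEF hRc hαR
  exact ext_of_nice hS hF hE hEF hαE hRc hg

/-- Every element of `Aut_E^0(T)` satisfies the extension condition. -/
theorem ext_of_mem_A0 [Finite S] [Fact p.Prime] (hS : IsPGroup p S) (hF : F.IsSaturated p)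
    (hE : E.IsSaturated p) (hEF : E.IsInvariantIn F) {α : MulAut T} (hα : α ∈ A0 E p) :
    Ext F T α := by
  haveI : Finite T := Helper84_FusionRS.finite_of_le_S hEF.2.1.1
  haveI : Finite (MulAut T) := inferInstance
  have h : α ∈ (Subgroup.closure {α | A0gen E p α}).toSubmonoid := hα
  rw [Subgroup.closure_toSubmonoid_of_finite] at h
  clear hα
  induction h using Submonoid.closure_induction with
  | mem γ hγ => exact ext_of_A0gen hS hF hE hEF hγ
  | one => exact ext_one
  | mul γ₁ γ₂ _ _ h₁ h₂ => exact ext_mul h₁ h₂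

/-! ### Admissible pairs and automorphisms -/

theorem adm_of_aut (hTS : T ≤ S) {α : MulAut T} (hα : α ∈ F.autGroup T) :
    Adm F T (extFun α) (extFun α⁻¹) where
  map := (mem_autGroup_iff F hTS α).1 hα
  map' := (mem_autGroup_iff F hTS α⁻¹).1 (Subgroup.inv_mem _ hα)
  mem := fun _ hx => extFun_mem α hx
  mem' := fun _ hx => extFun_mem α⁻¹ hx
  left := fun _ hx => extFun_inv_apply α hx
  right := fun _ hx => extFun_apply_inv α hx

theorem aut_of_adm [Finite T] {a a' : Ω → Ω} (hA : Adm F T a a') :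
    ∃ α ∈ F.autGroup T, (∀ x ∈ T, extFun α x = a x) ∧ ∀ x ∈ T, extFun α⁻¹ x = a' x := by
  obtain ⟨α, hα, hαa⟩ := Cfsg.Agent.S5111.exists_aut_of_isMapOn hA.map hA.mem
  have h1 : ∀ x ∈ T, extFun α x = a x := by
    intro x hx
    rw [extFun_apply α hx]
    exact hαa _
  refine ⟨α, hα, h1, fun x hx => ?_⟩
  have h2 : extFun α (a' x) = x := by
    rw [h1 _ (hA.mem' x hx)]
    exact hA.right x hx
  have h3 := extFun_inv_apply α (hA.mem' x hx)
  rw [h2] at h3
  exact h3

/-! ### Invariance of the generated system -/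

theorem good_invSystem_rel [Finite S] (hEF : E.IsInvariantIn F) :
    Good E p (invSystem F (genSystem E p)) := by
  have hTS : T ≤ S := hEF.2.1.1
  haveI : Finite T := Helper84_FusionRS.finite_of_le_S hTS
  intro P hP
  have hPT : P ≤ T := hP.1
  rw [Subgroup.closure_le]
  intro β hβ
  apply Subgroup.subset_closure
  have h0 : β ∈ (genSystem E p).autGroup P :=
    Helper85_Index.genSystem_good P hP (Subgroup.subset_closure hβ)
  refine ⟨(mem_autGroup_iff' _ hPT β).1 h0, ?_⟩
  intro _ a a' hA P' hP'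
  obtain ⟨α, hα, hαa, hαa'⟩ := aut_of_adm hA
  obtain ⟨e, he⟩ := hA.exists_equiv hPT hP'
  have hP'T := hA.image_le hPT hP'
  have hβE : IsMapOn E P (extFun β) := (mem_autGroup_iff E hPT β).1 hβ.1
  have hP'α : IsImage P (extFun α) P' := by
    intro y
    rw [hP' y]
    constructor
    · rintro ⟨x, hx, rfl⟩
      exact ⟨x, hx, hαa x (hPT hx)⟩
    · rintro ⟨x, hx, rfl⟩
      exact ⟨x, hx, (hαa x (hPT hx)).symm⟩
  have htr := Helper88_Invariant.isMapOn_transport hEF hα hβE hP'α
  have hsymm : ∀ y : P', ((e.symm y : P) : Ω) = a' y := by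
    intro y
    have h1 : a ((e.symm y : P) : Ω) = y := by rw [← he, MulEquiv.apply_symm_apply]
    rw [← h1, hA.left _ (hPT (e.symm y).2)]
  have hval : ∀ y, y ∈ P' → extFun (MulAut.congr e β) y = a (extFun β (a' y)) := by
    intro y hy
    rw [extFun_apply _ hy, ← hsymm ⟨y, hy⟩, extFun_coe]
    exact he _
  have h1 : MulAut.congr e β ∈ E.autGroup P' := by
    rw [mem_autGroup_iff E hP'T]
    refine htr.congr fun y hy => ?_
    simp only [Function.comp_apply]
    have hy' : a' y ∈ P := hA.inv_mem hPT hP' hy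
    rw [hval y hy, hαa' y (hP'T hy), hαa _ (hPT (extFun_mem β hy'))]
  have hP'c : E.IsCentric P' :=
    Helper85_Rel1.isCentric_of_isMapOn hEF hP (hA.map.mono hPT) hP'
  have h3 : MulAut.congr e β ∈ PE E p P' := by
    refine ⟨h1, ?_⟩
    obtain ⟨k, hk⟩ := hβ.2
    exact ⟨k, by rw [MulEquiv.orderOf_eq]; exact hk⟩
  have h4 : MulAut.congr e β ∈ (genSystem E p).autGroup P' :=
    Helper85_Index.genSystem_good P' hP'c (Subgroup.subset_closure h3)
  refine ((mem_autGroup_iff _ hP'T _).1 h4).congr fun y hy => ?_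
  rw [hval y hy]
  simp only [Function.comp_apply]
  rw [extFun_apply β (hA.inv_mem hPT hP' hy), extHom_apply _ (hA.inv_mem hPT hP' hy)]
  rfl

/-- The generated system of an invariant subsystem is invariant under `Aut_F(T)`. -/
theorem invF₀_rel [Finite S] (hEF : E.IsInvariantIn F) {a a' : Ω → Ω} (hA : Adm F T a a')
    {P : Subgroup Ω} {f : Ω → Ω} (hf : IsMapOn (genSystem E p) P f) {P' : Subgroup Ω}
    (hP' : IsImage P a P') : IsMapOn (genSystem E p) P' (a ∘ f ∘ a') := by
  have hPT : P ≤ T := hf.le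
  obtain ⟨φ, hφ, hφf⟩ := hf
  have h1 := Helper85_Index.genSystem_le (good_invSystem_rel (p := p) hEF) P hφ
  have h2 : Gi F (genSystem E p) P (extHom φ) := h1.2
  refine (h2 hPT a a' hA P' hP').congr fun y hy => ?_
  simp only [Function.comp_apply]
  rw [extHom_apply φ (hA.inv_mem hPT hP' hy), hφf]

/-! ### `A0` is normalised by `Aut_F(T)` -/

theorem extFun_conj_apply (α γ : MulAut T) {y : Ω} (hy : y ∈ T) :
    extFun (α * γ * α⁻¹) y = extFun α (extFun γ (extFun α⁻¹ y)) := by
  rw [extFun_mul _ _ hy, extFun_mul _ _ (extFun_mem _ hy)]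

theorem conj_A0gen [Finite S] (hEF : E.IsInvariantIn F) {α : MulAut T} (hα : α ∈ F.autGroup T)
    {γ : MulAut T} (hγ : A0gen E p γ) : A0gen E p (α * γ * α⁻¹) := by
  have hTS : T ≤ S := hEF.2.1.1
  obtain ⟨hγE, R, hRc, hγR⟩ := hγ
  have hRT : R ≤ T := hRc.1
  have hA := adm_of_aut hTS hα
  obtain ⟨R', hR'⟩ := hA.exists_image hRT
  have hR'T := hA.image_le hRT hR'
  have hR'c : E.IsCentric R' := Helper85_Rel1.isCentric_of_isMapOn hEF hRc (hA.map.mono hRT) hR'
  have hTimg : IsImage T (extFun α) T := Helper85_SatCrit6.isImage_extFun α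
  refine ⟨?_, R', hR'c, ?_⟩
  · rw [mem_autGroup_iff E le_rfl]
    have h1 := Helper88_Invariant.isMapOn_transport hEF hα
      ((mem_autGroup_iff E le_rfl γ).1 hγE) hTimg
    refine h1.congr fun y hy => ?_
    simp only [Function.comp_apply]
    exact (extFun_conj_apply α γ hy).symm
  · refine (invF₀_rel hEF hA hγR hR').congr fun y hy => ?_
    simp only [Function.comp_apply]
    exact (extFun_conj_apply α γ (hR'T hy)).symm

theorem conj_mem_A0 [Finite S] (hEF : E.IsInvariantIn F) {α : MulAut T} (hα : α ∈ F.autGroup T)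
    {γ : MulAut T} (hγ : γ ∈ A0 E p) : α * γ * α⁻¹ ∈ A0 E p := by
  induction hγ using Subgroup.closure_induction with
  | mem x hx => exact Subgroup.subset_closure (conj_A0gen hEF hα hx)
  | one =>
    have : α * 1 * α⁻¹ = 1 := by group
    rw [this]
    exact Subgroup.one_mem _
  | mul x y _ _ hx hy =>
    have : α * (x * y) * α⁻¹ = (α * x * α⁻¹) * (α * y * α⁻¹) := by group
    rw [this]
    exact Subgroup.mul_mem _ hx hy
  | inv x _ hx =>
    have : α * x⁻¹ * α⁻¹ = (α * x * α⁻¹)⁻¹ := by group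
    rw [this]
    exact Subgroup.inv_mem _ hx

/-! ### `A0 · E₀` is invariant in `F` -/

theorem sysH_isInvariantIn [Finite S] [Finite T] [Fact p.Prime] (hS : IsPGroup p S)
    (hE : E.IsSaturated p) (hEF : E.IsInvariantIn F) :
    (sysH E p (A0 E p) A0_le).IsInvariantIn F := by
  have hTS : T ≤ S := hEF.2.1.1
  have hTp : IsPGroup p T := hS.to_le hTS
  refine Helper85_Transport2.isInvariantIn_intro ?_ hEF.2.1 ?_ ?_
  · intro P φ hφ
    exact hEF.1 P (Helper85_PPrime1.sysH_le_F A0_le P hφ)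
  · intro P P' f α hα hf hP'
    have hPT : P ≤ T := hf.le
    have hA := adm_of_aut hTS hα
    have hP'T := hA.image_le hPT hP'
    have hfE := Helper85_PPrime1.isMapOn_F_of_sysH A0_le hf
    obtain ⟨α₀, hα₀, hf₀⟩ := Helper85_PPrime1.gh_of_isMapOn_sysH A0_le hf
    refine Helper85_PPrime1.isMapOn_sysH A0_le
      (Helper88_Invariant.isMapOn_transport hEF hα hfE hP')
      ⟨α * α₀ * α⁻¹, conj_mem_A0 hEF hα hα₀, ?_⟩
    refine (invF₀_rel hEF hA hf₀ hP').congr fun y hy => ?_
    simp only [Function.comp_apply]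
    have hy' : extFun α⁻¹ y ∈ P := hA.inv_mem hPT hP' hy
    have hz : f (extFun α⁻¹ y) ∈ T := hfE.mem hy'
    have e : (α * α₀ * α⁻¹)⁻¹ = α * α₀⁻¹ * α⁻¹ := by group
    rw [e, extFun_conj_apply α α₀⁻¹ (extFun_mem α hz), extFun_inv_apply α hz]
  · intro P f hPT hf
    obtain ⟨α, hα, f₀, hf₀, hfα⟩ := Helper85_Transport2.exists_frattini hEF hPT hf
    obtain ⟨a, a', hA, hd⟩ := Helper85_Index.gf2_of_isMapOn_F Helper85_PPrime1.invHyp
      (Helper85_PPrime2.frattini hTp hE) hf₀
    obtain ⟨α₁, hα₁, hα₁a, -⟩ := aut_of_adm hA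
    have hα₁F : α₁ ∈ F.autGroup T := Cfsg.Agent.S5139.autGroup_mono hEF.1 T hα₁
    refine ⟨α * α₁, Subgroup.mul_mem _ hα hα₁F, a' ∘ f₀,
      Helper85_PPrime1.isMapOn_sysH_of_genSystem A0_le hd, fun x hx => ?_⟩
    have hf₀x : f₀ x ∈ T := hf₀.mem hx
    simp only [Function.comp_apply]
    rw [extFun_mul _ _ (hA.mem' _ hf₀x), hα₁a _ (hA.mem' _ hf₀x), hA.right _ hf₀x]
    exact hfα x hx

/-! ### The residual is `A0 · E₀` -/

theorem residual_eq [Finite T] [Fact p.Prime] (hTp : IsPGroup p T) (hE : E.IsSaturated p)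
    {D : FusionSystem T} (hD : E.IsPPrimeResidual p D) : D = sysH E p (A0 E p) A0_le := by
  apply Helper84_FusionAlperin.fusionSystem_le_antisymm
  · exact hD.2.2 _ (Helper85_PPrime2.sysH_saturated hTp hE A0_le le_rfl)
      (Helper85_PPrime2.sysH_index hTp hE A0_le)
  · exact Helper85_PPrime2.sysH_A0_le hTp hE D hD.1 hD.2.1

/-- `Aut_{A0 · E₀}(T) ≤ A0`. -/
theorem autGroup_sysH_le [Finite T] : (sysH E p (A0 E p) A0_le).autGroup T ≤ A0 E p := by
  intro α hα
  have h1 : IsMapOn (sysH E p (A0 E p) A0_le) T (extFun α) := (mem_autGroup_iff _ le_rfl α).1 hα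
  have hαE : α ∈ E.autGroup T :=
    (mem_autGroup_iff E le_rfl α).2 (Helper85_PPrime1.isMapOn_F_of_sysH A0_le h1)
  obtain ⟨α₀, hα₀, hf₀⟩ := Helper85_PPrime1.gh_of_isMapOn_sysH A0_le h1
  have hγ : A0gen E p (α₀⁻¹ * α) := by
    refine ⟨Subgroup.mul_mem _ (Subgroup.inv_mem _ (A0_le hα₀)) hαE, T,
      Helper85_PPrime2.isCentric_top E, hf₀.congr fun x hx => ?_⟩
    simp only [Function.comp_apply]
    rw [extFun_mul _ _ hx]
  have e : α = α₀ * (α₀⁻¹ * α) := by group
  rw [e]
  exact Subgroup.mul_mem _ hα₀ (Subgroup.subset_closure hγ)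

/-- **The `p'`-residual of a weakly normal subsystem is normal.** -/
theorem residual_isNormalIn [Finite S] [Fact p.Prime] (hS : IsPGroup p S) (hF : F.IsSaturated p)
    (hE : E.IsWeaklyNormalIn F p) {D : FusionSystem T} (hD : E.IsPPrimeResidual p D) :
    D.IsNormalIn F p := by
  have hEF := hE.2.2
  have hTS : T ≤ S := hEF.2.1.1
  haveI : Finite T := Helper84_FusionRS.finite_of_le_S hTS
  have hTp : IsPGroup p T := hS.to_le hTS
  have hDeq := residual_eq hTp hE.1 hD
  refine ⟨⟨hD.1, hF, ?_⟩, fun α hα => ?_⟩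
  · rw [hDeq]
    exact sysH_isInvariantIn hS hE.1 hEF
  · rw [hDeq] at hα
    exact ext_of_mem_A0 hS hF hE.1 hEF (autGroup_sysH_le hα)

end Cfsg.Agent.Lib.Helper85_Nice6
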