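import Mathlib
import Cfsg.Agent.Lib.Helper95_OPDefs
import Cfsg.Agent.Lib.Helper95_OPBasic
import Cfsg.Agent.Lib.Helper48_OODefs
import Cfsg.Agent.Lib.Helper87_OO2Defs
import Cfsg.Agent.Lib.Helper87_OO2Defs2
import Cfsg.Agent.Lib.Helper87_OO2Defs3
import Cfsg.Agent.Lib.Helper85_OO2_RankOne
import Cfsg.Agent.Lib.Helper85_OO2_ELT
import Cfsg.Agent.Lib.Helper85_OO2_REL1
import Cfsg.Agent.Lib.Helper29_OO2_M0
import Cfsg.Agent.Lib.Helper58_MIO_ZEL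
import Cfsg.Agent.Lib.Helper63_OP_HCOMM
import Cfsg.Agent.Lib.Helper9_OO2_ZETA3

set_option autoImplicit false
set_option linter.unusedVariables false
set_option linter.unusedSectionVars false

/-!
S2344, package OO2-B2Z, part 1 (helper85, parallel seat): versions with B1 / J12F2 as hypotheses: in the base `n = 3` the torus elements `ζ_{w0}(t)`, `ζ_v(t)`,
`h12(t²)`, `h23(t²)` act trivially on `F_2`.
-/

namespace Cfsg.Agent.Lib.Helper85_OO2_B2Zaux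

open Module Cfsg.Agent.Lib.Helper94_OrthSmall Cfsg.Agent.Lib.Helper44_QuadClass
  Cfsg.Agent.Lib.Helper14_OmegaSimple Cfsg.Agent.Lib.Helper38_MIODefs
  Cfsg.Agent.Lib.Helper95_OPDefs Cfsg.Agent.Lib.Helper95_OPBasic Cfsg.Agent.Lib.Helper48_OODefs
  Cfsg.Agent.Lib.Helper87_OO2Defs Cfsg.Agent.Lib.Helper85_OO2_RankOne

open Cfsg.Agent.Lib.Helper85_OO2_ELT Cfsg.Agent.Lib.Helper85_OO2_REL1
  Cfsg.Agent.Lib.Helper29_OO2_M0

section geo

variable {F V : Type*} [Field F] [AddCommGroup V] [Module F V] {Q : QuadraticForm F V}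

/-- `g x = y → g⁻¹ y = x`. -/
theorem inv_apply_of_eq {g : V ≃ₗ[F] V} {x y : V} (h : g x = y) : g⁻¹ y = x := by
  show g.symm y = x
  rw [LinearEquiv.symm_apply_eq, h]

/-- Conjugating a torus element `z` of the pair `(a, a')` by `n_{ab}` gives the torus element of `(b, b')`. -/
theorem conj_zeta {a a' b b' : V} (h : HQuad Q a a' b b') {z : V ≃ₗ[F] V} {c : F}
    (hza : z a = c • a) (hza' : z a' = c⁻¹ • a')
    (hzp : ∀ w ∈ perp Q a a', z w = w) :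
    (nw Q a a' b b' 1 * z * (nw Q a a' b b' 1)⁻¹) b = c • b ∧
    (nw Q a a' b b' 1 * z * (nw Q a a' b b' 1)⁻¹) b' = c⁻¹ • b' ∧
    ∀ w ∈ perp Q b b', (nw Q a a' b b' 1 * z * (nw Q a a' b b' 1)⁻¹) w = w := by
  have hn : nw Q a a' b b' 1 ∈ oG (⇑Q) := T_le_oG Q (nw_mem_T h 1)
  refine ⟨?_, ?_, ?_⟩
  · rw [LinearEquiv.mul_apply, LinearEquiv.mul_apply, nwinv_b h, hza, map_smul,
      nw_a h one_ne_zero, inv_one, one_smul]
  · rw [LinearEquiv.mul_apply, LinearEquiv.mul_apply, nwinv_b' h, hza', map_smul,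
      nw_a' h one_ne_zero, one_smul]
  · intro w hw
    have hw' := (mem_perp Q b b').1 hw
    have h1 : (nw Q a a' b b' 1)⁻¹ w ∈ perp Q a a' := by
      rw [mem_perp]
      constructor
      · rw [← oG_polar Q hn, nw_a h one_ne_zero, inv_one, one_smul]
        have : nw Q a a' b b' 1 ((nw Q a a' b b' 1)⁻¹ w) = w := by
          show (nw Q a a' b b' 1) ((nw Q a a' b b' 1).symm w) = w
          exact LinearEquiv.apply_symm_apply _ _
        rw [this]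
        exact hw'.1
      · rw [← oG_polar Q hn, nw_a' h one_ne_zero, one_smul]
        have : nw Q a a' b b' 1 ((nw Q a a' b b' 1)⁻¹ w) = w := by
          show (nw Q a a' b b' 1) ((nw Q a a' b b' 1).symm w) = w
          exact LinearEquiv.apply_symm_apply _ _
        rw [this]
        exact hw'.2
    rw [LinearEquiv.mul_apply, LinearEquiv.mul_apply, hzp _ h1]
    show (nw Q a a' b b' 1) ((nw Q a a' b b' 1).symm w) = w
    exact LinearEquiv.apply_symm_apply _ _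

end geo

section rep

variable {F V : Type*} [Field F] [Fintype F] [AddCommGroup V] [Module F V] [FiniteDimensional F V]
  {X : Type*} [AddCommGroup X] [Module ℂ X] [FiniteDimensional ℂ X]

theorem Jop_eq' (Q : QuadraticForm F V) (ρ : Representation ℂ ↥(T Q) X) (a a' b b' : V) :
    Helper87_OO2Defs.Jop Q ρ a a' b b' =
      Helper85_OO2_RankOne.Jop (fun s => repE Q ρ (xr Q a b' s)) (repE Q ρ (nw Q a a' b b' 1)) := by
  unfold Helper87_OO2Defs.Jop Helper85_OO2_RankOne.Jop Pop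
  rw [Finset.sum_mul]

/-- If `repE z x = x` then `repE z⁻¹ x = x`. -/
theorem repE_inv_fix (Q : QuadraticForm F V) (ρ : Representation ℂ ↥(T Q) X) {z : V ≃ₗ[F] V}
    (hz : z ∈ T Q) {x : X} (h : repE Q ρ z x = x) : repE Q ρ z⁻¹ x = x := by
  have h1 := repE_mul_apply Q ρ (Subgroup.inv_mem _ hz) hz x
  rw [inv_mul_cancel, repE_one, h] at h1
  exact h1.symm

/-- The general step: a torus element `z` of `(a, a')` (fixing `b, b'`) acts trivially on a subspace `S` of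
`x_{ab}`-fixed vectors stable under `J_{ab}`, as soon as its conjugate `n z n⁻¹` does. -/
theorem fix_of_J (Q : QuadraticForm F V) {a a' b b' : V} (h : HQuad Q a a' b b')
    (ρ : Representation ℂ ↥(T Q) X) (S : Submodule ℂ X)
    (hSx : ∀ y ∈ S, ∀ s : F, repE Q ρ (xr Q a b' s) y = y)
    (hSJ : ∀ y ∈ S, Helper87_OO2Defs.Jop Q ρ a a' b b' y ∈ S)
    {c : F} (hc : c ≠ 0) {z : V ≃ₗ[F] V} (hzT : z ∈ T Q) (hza : z a = c • a)
    (hza' : z a' = c⁻¹ • a') (hzb : z b = b) (hzb' : z b' = b')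
    (hfix : ∀ y ∈ S, repE Q ρ (nw Q a a' b b' 1 * z * (nw Q a a' b b' 1)⁻¹) y = y)
    (y : X) (hy : y ∈ S) : repE Q ρ z y = y := by
  have hq : (Fintype.card F : ℂ) ≠ 0 := by
    exact_mod_cast Fintype.card_ne_zero
  have R := sl2Rel_repE ρ h
  have hnT : nw Q a a' b b' 1 ∈ T Q := nw_mem_T h 1
  have hniT : (nw Q a a' b b' 1)⁻¹ ∈ T Q := Subgroup.inv_mem _ hnT
  have hxT : ∀ s, xr Q a b' s ∈ T Q := fun s => xr_mem_T h.pa.qa h.pb.qa' h.ab' s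
  have hzO : z ∈ oG (⇑Q) := T_le_oG Q hzT
  obtain ⟨z', hz'⟩ : ∃ z', z' = nw Q a a' b b' 1 * z * (nw Q a a' b b' 1)⁻¹ := ⟨_, rfl⟩
  have hz'T : z' ∈ T Q := by
    rw [hz']
    exact Subgroup.mul_mem _ (Subgroup.mul_mem _ hnT hzT) hniT
  have hz'O : z' ∈ oG (⇑Q) := T_le_oG Q hz'T
  -- action of `z'` on `a`, `b'`
  have hz'a : z' a = a := by
    rw [hz', LinearEquiv.mul_apply, LinearEquiv.mul_apply, nwinv_a h, map_neg, hzb, map_neg,
      nw_b h one_ne_zero, one_smul, neg_neg]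
  have hz'b' : z' b' = c⁻¹ • b' := by
    rw [hz', LinearEquiv.mul_apply, LinearEquiv.mul_apply, nwinv_b' h, hza', map_smul,
      nw_a' h one_ne_zero, one_smul]
  -- `z' x(s) = x(c⁻¹ s) z'`
  have hsb' : ∀ s : F, QuadraticMap.polar (⇑Q) a (s • b') = 0 := fun s => by
    rw [QuadraticMap.polar_smul_right, h.ab', smul_zero]
  have hτx : ∀ s : F, repE Q ρ z' * repE Q ρ (xr Q a b' s) =
      repE Q ρ (xr Q a b' (c⁻¹ * s)) * repE Q ρ z' := by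
    intro s
    rw [← repE_mul Q ρ hz'T (hxT s), ← repE_mul Q ρ (hxT _) hz'T]
    congr 1
    have hconj := conj_E Q hz'O h.pa.qa (hsb' s)
    rw [hz'a, map_smul, hz'b', smul_smul] at hconj
    unfold xr
    rw [mul_comm c⁻¹ s, ← hconj]
    group
  have hτn : repE Q ρ z' * repE Q ρ (nw Q a a' b b' 1) =
      repE Q ρ (nw Q a a' b b' 1) * repE Q ρ z := by
    rw [← repE_mul Q ρ hz'T hnT, ← repE_mul Q ρ hnT hzT]
    congr 1
    rw [hz']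
    group
  have hτJ := tau_J (x := fun s => repE Q ρ (xr Q a b' s)) (n := repE Q ρ (nw Q a a' b b' 1))
    (τ := repE Q ρ z') (τ' := repE Q ρ z) (c := c⁻¹) (inv_ne_zero hc) hτx hτn
  -- `z y` is `x`-fixed
  have hzy : repE Q ρ z y ∈ fixX (fun s => repE Q ρ (xr Q a b' s)) := by
    intro s
    show repE Q ρ (xr Q a b' s) (repE Q ρ z y) = repE Q ρ z y
    have hzia : z⁻¹ a = c⁻¹ • a :=
      inv_apply_of_eq (by rw [map_smul, hza, smul_smul, inv_mul_cancel₀ hc, one_smul])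
    have hzib' : z⁻¹ b' = b' := inv_apply_of_eq hzb'
    apply fix_of_conj Q ρ hzT h.pa.qa (hsb' s) (hxT s) y
    rw [hzia, map_smul, hzib', E_smul_left Q h.pa.qa (hsb' s), smul_smul]
    exact hSx y hy (c⁻¹ * s)
  have hJy : Helper85_OO2_RankOne.Jop (fun s => repE Q ρ (xr Q a b' s))
      (repE Q ρ (nw Q a a' b b' 1)) y ∈ S := by
    rw [← Jop_eq']
    exact hSJ y hy
  have h1 := congrArg (fun f => f y) hτJ
  simp only [Module.End.mul_apply] at h1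
  rw [hz', hfix _ hJy] at h1
  have h2 : Helper85_OO2_RankOne.Jop (fun s => repE Q ρ (xr Q a b' s))
      (repE Q ρ (nw Q a a' b b' 1)) (repE Q ρ z y - y) = 0 := by
    rw [map_sub, ← h1, sub_self]
  have h3 : repE Q ρ z y - y ∈ fixX (fun s => repE Q ρ (xr Q a b' s)) :=
    (fixX _).sub_mem hzy (fun s => hSx y hy s)
  exact sub_eq_zero.1 (J_inj R hq h3 h2)

end rep

section main

open Cfsg.Agent.Lib.Helper9_OO2_ZETA3

variable {F V : Type*} [Field F] [Fintype F] [AddCommGroup V] [Module F V] [FiniteDimensional F V]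
  {X : Type*} [AddCommGroup X] [Module ℂ X] [FiniteDimensional ℂ X]

/-! ## OO2-B2Z (L) -/
theorem zeta_w0_fix_of (Q : QuadraticForm F V) (hP : IsOddT Q 3)
    {v v' w0 w0' w1 w1' x : V} (fr : Frame3 Q v v' w0 w0' w1 w1' x)
    (ρ : Representation ℂ ↥(T Q) X)
    (hB1 : ∀ y ∈ F2sp Q ρ v v' w0 w0', ∀ s : F,
      repE Q ρ (E Q w1 (s • x)) y = y ∧ repE Q ρ (E Q w1' (s • x)) y = y)
    (hJ2 : ∀ y ∈ F2sp Q ρ v v' w0 w0', Helper87_OO2Defs.Jop Q ρ w0 w0' w1 w1' y ∈ F2sp Q ρ v v' w0 w0')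
    (y : X) (hy : y ∈ F2sp Q ρ v v' w0 w0')
    (t : F) (ht : t ≠ 0) (z : V ≃ₗ[F] V) (hzT : z ∈ T Q) (hz1 : z w0 = t ^ 2 • w0)
    (hz1' : z w0' = (t ^ 2)⁻¹ • w0') (hzp : ∀ w ∈ perp Q w0 w0', z w = w) :
    repE Q ρ z y = y := by
  have hQ := hP.nondeg
  have hdim : 5 ≤ finrank F V := by
    rw [hP.dim]
    norm_num
  have h2 := fr.h12
  have hw1 : w1 ∈ perp Q w0 w0' := h2.mem_perp.1
  have hw1' : w1' ∈ perp Q w0 w0' := h2.mem_perp.2
  have hnT : nw Q w0 w0' w1 w1' 1 ∈ T Q := nw_mem_T h2 1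
  refine fix_of_J Q h2 ρ (F2sp Q ρ v v' w0 w0') ?_ ?_ (pow_ne_zero 2 ht) hzT hz1 hz1'
    (hzp _ hw1) (hzp _ hw1') ?_ y hy
  · intro y hy s
    exact hy.2 (s • w1') (Submodule.smul_mem _ s ⟨fr.h02.mem_perp.2, hw1'⟩)
  · intro y hy
    exact hJ2 y hy
  · intro y hy
    obtain ⟨e1, e2, e3⟩ := conj_zeta h2 hz1 hz1' hzp
    exact zeta3_fix Q hQ hdim h2.pb fr.xw1 fr.xw1' fr.qx ρ y
      (fun s => (hB1 y hy s).1)
      (fun s => (hB1 y hy s).2) t ht _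
      (Subgroup.mul_mem _ (Subgroup.mul_mem _ hnT hzT) (Subgroup.inv_mem _ hnT)) e1 e2 e3

theorem zeta_v_fix_of (Q : QuadraticForm F V) (hP : IsOddT Q 3)
    {v v' w0 w0' w1 w1' x : V} (fr : Frame3 Q v v' w0 w0' w1 w1' x)
    (ρ : Representation ℂ ↥(T Q) X)
    (hB1 : ∀ y ∈ F2sp Q ρ v v' w0 w0', ∀ s : F,
      repE Q ρ (E Q w1 (s • x)) y = y ∧ repE Q ρ (E Q w1' (s • x)) y = y)
    (hJ1 : ∀ y ∈ F2sp Q ρ v v' w0 w0', Helper87_OO2Defs.Jop Q ρ v v' w0 w0' y ∈ F2sp Q ρ v v' w0 w0')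
    (hJ2 : ∀ y ∈ F2sp Q ρ v v' w0 w0', Helper87_OO2Defs.Jop Q ρ w0 w0' w1 w1' y ∈ F2sp Q ρ v v' w0 w0')
    (y : X) (hy : y ∈ F2sp Q ρ v v' w0 w0')
    (t : F) (ht : t ≠ 0) (z : V ≃ₗ[F] V) (hzT : z ∈ T Q) (hz1 : z v = t ^ 2 • v)
    (hz1' : z v' = (t ^ 2)⁻¹ • v') (hzp : ∀ w ∈ perp Q v v', z w = w) :
    repE Q ρ z y = y := by
  have h1 := fr.h01
  have hw0 : w0 ∈ perp Q v v' := h1.mem_perp.1
  have hw0' : w0' ∈ perp Q v v' := h1.mem_perp.2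
  have hnT : nw Q v v' w0 w0' 1 ∈ T Q := nw_mem_T h1 1
  refine fix_of_J Q h1 ρ (F2sp Q ρ v v' w0 w0') ?_ ?_ (pow_ne_zero 2 ht) hzT hz1 hz1'
    (hzp _ hw0) (hzp _ hw0') ?_ y hy
  · intro y hy s
    exact hy.1 (s • w0') (Submodule.smul_mem _ s hw0')
  · intro y hy
    exact hJ1 y hy
  · intro y hy
    obtain ⟨e1, e2, e3⟩ := conj_zeta h1 hz1 hz1' hzp
    exact zeta_w0_fix_of Q hP fr ρ hB1 hJ2 y hy t ht _
      (Subgroup.mul_mem _ (Subgroup.mul_mem _ hnT hzT) (Subgroup.inv_mem _ hnT)) e1 e2 e3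

omit [Fintype F] [FiniteDimensional F V] in
/-- `h_{ab}(c) = ζ_a ζ_b⁻¹` for torus elements `ζ_a`, `ζ_b` of the two pairs. -/
theorem hh_eq_zeta (Q : QuadraticForm F V) {a a' b b' : V} (h : HQuad Q a a' b b') {c : F} (hc : c ≠ 0)
    {za zb : V ≃ₗ[F] V} (ha : za a = c • a) (ha' : za a' = c⁻¹ • a')
    (hap : ∀ w ∈ perp Q a a', za w = w) (hb : zb b = c • b) (hb' : zb b' = c⁻¹ • b')
    (hbp : ∀ w ∈ perp Q b b', zb w = w) : hh Q a a' b b' c = za * zb⁻¹ := by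
  have hab := h.mem_perp
  have hba := h.symm.mem_perp
  have zbi_b : zb⁻¹ b = c⁻¹ • b :=
    inv_apply_of_eq (by rw [map_smul, hb, smul_smul, inv_mul_cancel₀ hc, one_smul])
  have zbi_b' : zb⁻¹ b' = c • b' :=
    inv_apply_of_eq (by rw [map_smul, hb', smul_smul, mul_inv_cancel₀ hc, one_smul])
  refine ext_frame_equiv h ?_ ?_ ?_ ?_ ?_
  · rw [hh_a h hc, LinearEquiv.mul_apply, inv_apply_of_eq (hbp _ hba.1), ha]
  · rw [hh_a' h hc, LinearEquiv.mul_apply, inv_apply_of_eq (hbp _ hba.2), ha']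
  · rw [hh_b h hc, LinearEquiv.mul_apply, zbi_b, map_smul, hap _ hab.1]
  · rw [hh_b' h hc, LinearEquiv.mul_apply, zbi_b', map_smul, hap _ hab.2]
  · intro x h1 h2 h3 h4
    have hxa : x ∈ perp Q a a' := (mem_perp Q a a').2
      ⟨by rw [QuadraticMap.polar_comm]; exact h1, by rw [QuadraticMap.polar_comm]; exact h2⟩
    have hxb : x ∈ perp Q b b' := (mem_perp Q b b').2
      ⟨by rw [QuadraticMap.polar_comm]; exact h3, by rw [QuadraticMap.polar_comm]; exact h4⟩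
    rw [hh_perp h c h1 h2 h3 h4, LinearEquiv.mul_apply, inv_apply_of_eq (hbp _ hxb), hap _ hxa]

theorem h_sq_fix_of (Q : QuadraticForm F V) (hP : IsOddT Q 3)
    {v v' w0 w0' w1 w1' x : V} (fr : Frame3 Q v v' w0 w0' w1 w1' x)
    (ρ : Representation ℂ ↥(T Q) X)
    (hB1 : ∀ y ∈ F2sp Q ρ v v' w0 w0', ∀ s : F,
      repE Q ρ (E Q w1 (s • x)) y = y ∧ repE Q ρ (E Q w1' (s • x)) y = y)
    (hJ1 : ∀ y ∈ F2sp Q ρ v v' w0 w0', Helper87_OO2Defs.Jop Q ρ v v' w0 w0' y ∈ F2sp Q ρ v v' w0 w0')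
    (hJ2 : ∀ y ∈ F2sp Q ρ v v' w0 w0', Helper87_OO2Defs.Jop Q ρ w0 w0' w1 w1' y ∈ F2sp Q ρ v v' w0 w0')
    (y : X) (hy : y ∈ F2sp Q ρ v v' w0 w0')
    (t : F) (ht : t ≠ 0) :
    repE Q ρ (hh Q v v' w0 w0' (t ^ 2)) y = y ∧ repE Q ρ (hh Q w0 w0' w1 w1' (t ^ 2)) y = y := by
  have hQ := hP.nondeg
  have hdim : 5 ≤ finrank F V := by
    rw [hP.dim]
    norm_num
  have hcomm : ⁅oG (⇑Q), oG (⇑Q)⁆ ≤ T Q :=
    Cfsg.Agent.Lib.Helper63_OP_HCOMM.comm_oG_le_T Q hQ hdim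
  have ht2 : t ^ 2 ≠ 0 := pow_ne_zero 2 ht
  obtain ⟨zv, hzvT, hzv1, hzv2, hzv3⟩ := Cfsg.Agent.Lib.Helper58_MIO_ZEL.exists_zel Q hQ hdim hcomm
    fr.h01.pa.qa fr.h01.pa.qa' fr.h01.pa.aa' t ht
  obtain ⟨z0, hz0T, hz01, hz02, hz03⟩ := Cfsg.Agent.Lib.Helper58_MIO_ZEL.exists_zel Q hQ hdim hcomm
    fr.h01.pb.qa fr.h01.pb.qa' fr.h01.pb.aa' t ht
  obtain ⟨z1, hz1T, hz11, hz12, hz13⟩ := Cfsg.Agent.Lib.Helper58_MIO_ZEL.exists_zel Q hQ hdim hcomm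
    fr.h12.pb.qa fr.h12.pb.qa' fr.h12.pb.aa' t ht
  have fv : repE Q ρ zv y = y :=
    zeta_v_fix_of Q hP fr ρ hB1 hJ1 hJ2 y hy t ht zv hzvT hzv1 hzv2 hzv3
  have f0 : repE Q ρ z0 y = y :=
    zeta_w0_fix_of Q hP fr ρ hB1 hJ2 y hy t ht z0 hz0T hz01 hz02 hz03
  have f1 : repE Q ρ z1 y = y :=
    zeta3_fix Q hQ hdim fr.h12.pb fr.xw1 fr.xw1' fr.qx ρ y
      (fun s => (hB1 y hy s).1)
      (fun s => (hB1 y hy s).2) t ht z1 hz1T hz11 hz12 hz13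
  constructor
  · rw [hh_eq_zeta Q fr.h01 ht2 hzv1 hzv2 hzv3 hz01 hz02 hz03,
      repE_mul_apply Q ρ hzvT (Subgroup.inv_mem _ hz0T), repE_inv_fix Q ρ hz0T f0, fv]
  · rw [hh_eq_zeta Q fr.h12 ht2 hz01 hz02 hz03 hz11 hz12 hz13,
      repE_mul_apply Q ρ hz0T (Subgroup.inv_mem _ hz1T), repE_inv_fix Q ρ hz1T f1, f0]

end main

end Cfsg.Agent.Lib.Helper85_OO2_B2Zaux
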