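import Mathlib
import Cfsg.Agent.Lib.Helper87_OO2Defs
import Cfsg.Agent.Lib.Helper85_OO2_RankOne
import Cfsg.Agent.Lib.Helper85_OO2_LemK
import Cfsg.Agent.Lib.Helper85_OO2_LemK2

set_option autoImplicit false
set_option linter.unusedVariables false
set_option linter.unusedSectionVars false

/-!
S2344, packages OO2-HECKE / OO2-B4CORE (helper85, parallel seat): abstract core (B4) of the base `n = 3`.
-/

namespace Cfsg.Agent.Lib.Helper85_OO2_B4CORE

open Module Cfsg.Agent.Lib.Helper87_OO2Defs Cfsg.Agent.Lib.Helper85_OO2_RankOne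

section partJ

variable {F : Type*} [Field F] [Fintype F] {X : Type*} [AddCommGroup X] [Module ℂ X]
  [FiniteDimensional ℂ X]

omit [FiniteDimensional ℂ X] [Module ℂ X] in
/-- A sum over `s ≠ 0` reindexed by `s ↦ -s⁻¹`. -/
theorem sum_ne_zero_neg_inv [DecidablePred fun s : F => s ≠ 0] (g : F → X) :
    ∑ s ∈ Finset.univ.filter (fun s : F => s ≠ 0), g (-s⁻¹) =
      ∑ s ∈ Finset.univ.filter (fun s : F => s ≠ 0), g s := by
  classical
  refine Finset.sum_bij' (fun s _ => -s⁻¹) (fun s _ => -s⁻¹) ?_ ?_ ?_ ?_ ?_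
  · intro s hs
    rw [Finset.mem_filter] at hs ⊢
    exact ⟨Finset.mem_univ _, neg_ne_zero.mpr (inv_ne_zero hs.2)⟩
  · intro s hs
    rw [Finset.mem_filter] at hs ⊢
    exact ⟨Finset.mem_univ _, neg_ne_zero.mpr (inv_ne_zero hs.2)⟩
  · intro s hs
    rw [inv_neg, neg_neg, inv_inv]
  · intro s hs
    rw [inv_neg, neg_neg, inv_inv]
  · intro s hs
    rfl

omit [FiniteDimensional ℂ X] [Module ℂ X] in
theorem sum_ne_zero_eq [DecidableEq F] (g : F → X) :
    ∑ s ∈ Finset.univ.filter (fun s : F => s ≠ 0), g s = (∑ s, g s) - g 0 := by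
  classical
  rw [eq_sub_iff_add_eq, Finset.filter_ne' Finset.univ (0 : F),
    Finset.sum_erase_add _ _ (Finset.mem_univ _)]

/-! ## OO2-HECKE (M) -/
theorem hecke_triv (x : F → Module.End ℂ X) (n : Module.End ℂ X) (h : F → Module.End ℂ X)
    (R : SL2Rel x n h) (hq : 2 ≤ Fintype.card F) (y : X) (hy : y ∈ fixX x)
    (hh : ∀ t : F, t ≠ 0 → h t y = y) (hJ : Jop x n y = (Fintype.card F : ℂ) • y) : n y = y := by
  classical
  obtain ⟨y', hy'⟩ : ∃ y', y' = n y - y := ⟨_, rfl⟩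
  have hny : n y = y' + y := by rw [hy']; abel
  -- `Pop y' = 0`
  have hP : Pop x y' = 0 := by
    rw [hy', map_sub, Pop_of_mem_fixX hy]
    have : Pop x (n y) = Jop x n y := rfl
    rw [this, hJ, sub_self]
  -- the relation
  have hrel : ∀ s : F, s ≠ 0 → n (x s y') + y' = x (-s⁻¹) y' := by
    intro s hs
    have rel := congrArg (fun f => f y) (R.rel s hs)
    simp only [Module.End.mul_apply] at rel
    rw [hy _, hh (-s) (neg_ne_zero.mpr hs), hny, map_add, map_add, map_add, hy s, hy (-s⁻¹),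
      hny] at rel
    -- rel : n (x s y') + (y' + y) = x (-s⁻¹) y' + y
    have : n (x s y') + y' + y = x (-s⁻¹) y' + y := by
      rw [← rel]; abel
    exact add_right_cancel this
  -- sum over `s ≠ 0`
  have hx0 : x 0 y' = y' := by rw [R.x_zero]; rfl
  have hsum : ∑ s ∈ Finset.univ.filter (fun s : F => s ≠ 0), (n (x s y') + y') =
      ∑ s ∈ Finset.univ.filter (fun s : F => s ≠ 0), x (-s⁻¹) y' :=
    Finset.sum_congr rfl fun s hs => hrel s (Finset.mem_filter.1 hs).2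
  have hPy' : ∑ s, x s y' = 0 := by
    rw [← Pop_apply]; exact hP
  rw [sum_ne_zero_neg_inv (fun s => x s y'), sum_ne_zero_eq (fun s => x s y'), hPy', hx0,
    Finset.sum_add_distrib, ← map_sum, sum_ne_zero_eq (fun s => x s y'), hPy', hx0, zero_sub,
    map_neg, Finset.sum_const, Finset.filter_ne' Finset.univ (0 : F),
    Finset.card_erase_of_mem (Finset.mem_univ _), Finset.card_univ] at hsum
  -- hsum : -n y' + (q - 1) • y' = -y'
  have hq1 : 1 ≤ Fintype.card F := by omega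
  have hny' : n y' = (Fintype.card F : ℂ) • y' := by
    have h1 : (Fintype.card F - 1) • y' = ((Fintype.card F : ℂ) - 1) • y' := by
      rw [← Nat.cast_smul_eq_nsmul ℂ, Nat.cast_sub hq1, Nat.cast_one]
    rw [h1, sub_smul, one_smul] at hsum
    have h2 : n y' - (Fintype.card F : ℂ) • y' =
        -(-n y' + ((Fintype.card F : ℂ) • y' - y')) - y' := by abel
    rw [hsum, neg_neg, sub_self] at h2
    exact sub_eq_zero.1 h2
  -- `n⁴ = 1`
  have h4 := congrArg (fun f => f y') R.n_pow_four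
  simp only [Module.End.mul_apply, Module.End.one_apply] at h4
  simp only [hny', map_smul, smul_smul] at h4
  have hcN : Fintype.card F * Fintype.card F * Fintype.card F * Fintype.card F ≠ 1 := by
    have : 2 * 2 * 2 * 2 ≤ Fintype.card F * Fintype.card F * Fintype.card F * Fintype.card F :=
      Nat.mul_le_mul (Nat.mul_le_mul (Nat.mul_le_mul hq hq) hq) hq
    omega
  have hc : (Fintype.card F : ℂ) * (Fintype.card F : ℂ) * (Fintype.card F : ℂ) *
      (Fintype.card F : ℂ) ≠ 1 := by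
    exact_mod_cast hcN
  have hy'0 : y' = 0 := by
    by_contra hne
    apply hc
    have h5 : ((Fintype.card F : ℂ) * (Fintype.card F : ℂ) * (Fintype.card F : ℂ) *
      (Fintype.card F : ℂ) - 1) • y' = 0 := by
      rw [sub_smul, one_smul, h4, sub_self]
    rcases smul_eq_zero.1 h5 with h6 | h6
    · exact sub_eq_zero.1 h6
    · exact absurd h6 hne
  rw [hny, hy'0, zero_add]

/-! ## OO2-B4CORE (L) -/
theorem b4_core (ψ : AddChar F ℂ) (hψ : ψ.IsPrimitive)
    (x2 : F → Module.End ℂ X) (n2 : Module.End ℂ X) (h12 h13 h23 : F → Module.End ℂ X)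
    (F2 M2 : Submodule ℂ X) (R2 : SL2Rel x2 n2 h23)
    (T1 : ∀ a : F, a ≠ 0 → h13 a = h12 a * h23 a)
    (T3d : ∀ a : F, a ≠ 0 → h12 a * n2 = n2 * h13 a)
    (T4c : ∀ a s : F, a ≠ 0 → h12 a * x2 s = x2 (a⁻¹ * s) * h12 a)
    (hinv12 : ∀ a : F, a ≠ 0 → h12 a⁻¹ * h12 a = 1)
    (A1b : F2 ≤ fixX x2) (A1d : F2 ≤ M2) (A2b : ∀ m ∈ M2, m ∈ fixX x2 → m ∈ F2)
    (A3a : ∀ s : F, ∀ m ∈ M2, x2 s m ∈ M2) (A3b : ∀ m ∈ M2, n2 m ∈ M2)
    (A3c : ∀ a : F, a ≠ 0 → ∀ m ∈ M2, h23 a m ∈ M2)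
    (A4 : ∀ c : F, c ≠ 0 → ∀ m ∈ M2, ∀ m' ∈ M2, (∀ s : F, x2 s m = ψ (c * s) • m) →
      (∀ s : F, x2 s m' = ψ (c * s) • m') → m' ≠ 0 → ∃ a : ℂ, m = a • m')
    (triv : ∀ a : F, a ≠ 0 → ∀ y ∈ F2, h12 a y = y ∧ h23 a y = y)
    (nofix : ∀ y ∈ F2, n2 y = y → y = 0) :
    finrank ℂ ↥F2 ≤ 1 := by
  classical
  have hq : (Fintype.card F : ℂ) ≠ 0 := by
    exact_mod_cast Fintype.card_ne_zero
  have hq2 : 2 ≤ Fintype.card F := Fintype.one_lt_card
  have h12inj : ∀ a : F, a ≠ 0 → ∀ z, h12 a z = 0 → z = 0 := by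
    intro a ha z hz
    have := congrArg (fun f => f z) (hinv12 a ha)
    simp only [Module.End.mul_apply, Module.End.one_apply] at this
    rw [hz, map_zero] at this
    exact this.symm
  have h13_apply : ∀ a : F, a ≠ 0 → ∀ y, h13 a y = h12 a (h23 a y) := by
    intro a ha y
    rw [T1 a ha]
    rfl
  have J2_F2 : ∀ y ∈ F2, Jop x2 n2 y ∈ F2 := by
    intro y hy
    apply A2b
    · rw [Helper85_OO2_RankOne.Jop_apply]
      exact M2.sum_mem fun s _ => A3a s _ (A3b _ (A1d hy))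
    · exact Jop_mem_fixX R2.x_add n2 y
  -- a vector of `F2` with `J2 y = q y` vanishes
  have hker : ∀ y ∈ F2, Jop x2 n2 y = (Fintype.card F : ℂ) • y → y = 0 := by
    intro y hy hJ
    exact nofix y hy (hecke_triv x2 n2 h23 R2 hq2 y (A1b hy) (fun t ht => (triv t ht y hy).2) hJ)
  by_cases hbot : F2 = ⊥
  · rw [hbot, finrank_bot]
    exact Nat.zero_le 1
  have hnt : Nontrivial ↥F2 := Submodule.nontrivial_iff_ne_bot.2 hbot
  obtain ⟨μ, hμ⟩ := Module.End.exists_eigenvalue ((Jop x2 n2).restrict J2_F2)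
  obtain ⟨⟨y0, hy0⟩, hvec⟩ := hμ.exists_hasEigenvector
  have hy0ne : y0 ≠ 0 := by
    intro h
    apply hvec.2
    exact Subtype.ext h
  have hJy0 : Jop x2 n2 y0 = μ • y0 := by
    have := congrArg Subtype.val hvec.apply_eq_smul
    exact this
  have hμq : μ - (Fintype.card F : ℂ) ≠ 0 := by
    intro h
    apply hy0ne
    apply hker y0 hy0
    rw [hJy0, sub_eq_zero.1 h]
  have hm1 : (-1 : F) ≠ 0 := by simp
  have hn2 : n2 y0 ∉ fixX x2 := by
    intro hmem
    apply hy0ne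
    apply nofix y0 hy0
    have rel := congrArg (fun f => f y0) (R2.rel 1 one_ne_zero)
    simp only [Module.End.mul_apply, inv_one] at rel
    rw [hmem 1, A1b hy0 (-1), (triv (-1) hm1 y0 hy0).2, hmem (-1)] at rel
    have nn := congrArg (fun f => f y0) R2.nn
    simp only [Module.End.mul_apply] at nn
    rw [nn, (triv (-1) hm1 y0 hy0).2] at rel
    exact rel.symm
  obtain ⟨c0, hc0, hec0⟩ := exists_eop_ne_zero hψ R2.x_zero R2.x_add hq hn2
  have hne_all : ∀ c : F, c ≠ 0 → eop ψ x2 c (n2 y0) ≠ 0 := by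
    intro c hc
    have hd : c0 / c ≠ 0 := div_ne_zero hc0 hc
    have hd' : (c0 / c)⁻¹ ≠ 0 := inv_ne_zero hd
    have := eop_n_ne_zero_of_tau ψ (x := x2) (n := n2) (τ := h12 (c0 / c)⁻¹)
      (τ' := h13 (c0 / c)⁻¹) (d := c0 / c) hd
      (fun s => by
        have := T4c (c0 / c)⁻¹ s hd'
        rwa [inv_inv] at this)
      (T3d _ hd') (h12inj _ hd') (y₀ := y0)
      (a := 1) (by
        rw [h13_apply _ hd', (triv _ hd' y0 hy0).2, (triv _ hd' y0 hy0).1, one_smul]) hec0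
    have e : c0 / (c0 / c) = c := by
      field_simp
    rwa [e] at this
  have D : KData ψ x2 n2 h23 M2 y0 :=
    { R := R2
      hψ := hψ
      hq := hq
      Nx := A3a
      Nn := A3b
      Nh := A3c (-1) hm1
      y₀N := A1d hy0
      y₀fix := A1b hy0
      y₀h := fun t ht => ⟨1, by rw [(triv t ht y0 hy0).2, one_smul]⟩
      line := by
        intro c hc y hy
        have hM : ∀ w ∈ M2, eop ψ x2 c w ∈ M2 := by
          intro w hw
          rw [eop_apply]
          exact M2.smul_mem _ (M2.sum_mem fun s _ => M2.smul_mem _ (A3a s w hw))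
        exact A4 c hc _ (hM y hy) _ (hM _ (A3b _ (A1d hy0)))
          (fun s => x_eop_apply ψ R2.x_add c s y) (fun s => x_eop_apply ψ R2.x_add c s _)
          (hne_all c hc) }
  -- `(J2 - q) F2 ≤ ℂ y0`
  have hJq : ∀ y ∈ F2, ∃ c : ℂ, Jop x2 n2 y - (Fintype.card F : ℂ) • y = c • y0 := by
    intro y hy
    have h1 : n2 y - y ∈ Z0 x2 n2 y0 := D.n_mem_Triv.2.2 y (A1d hy)
    have h2 : Pop x2 (n2 y - y) ∈ Z0 x2 n2 y0 := by
      rw [Pop_apply]
      exact Submodule.sum_mem _ fun s _ => x_Z0 R2.x_add n2 (A1b hy0) s h1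
    have h3 : Pop x2 (n2 y - y) = Jop x2 n2 y - (Fintype.card F : ℂ) • y := by
      rw [map_sub, Pop_of_mem_fixX (A1b hy)]
      rfl
    rw [h3] at h2
    have h4 : Jop x2 n2 y - (Fintype.card F : ℂ) • y ∈ fixX x2 :=
      (fixX x2).sub_mem (Jop_mem_fixX R2.x_add n2 y) ((fixX x2).smul_mem _ (A1b hy))
    have h5 := Z0_fix R2.x_add hq n2 (A1b hy0) h2 h4
    obtain ⟨c, d, hcd⟩ := Submodule.mem_span_pair.1 h5
    refine ⟨c + d * μ, ?_⟩
    rw [← hcd, hJy0, add_smul, mul_smul]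
  have hgen : ∀ y ∈ F2, ∃ c : ℂ, c • y0 = y := by
    intro y hy
    obtain ⟨c, hc⟩ := hJq y hy
    refine ⟨c / (μ - (Fintype.card F : ℂ)), ?_⟩
    have hmem : y - (c / (μ - (Fintype.card F : ℂ))) • y0 ∈ F2 :=
      F2.sub_mem hy (F2.smul_mem _ hy0)
    have h0 := hker _ hmem (by
      have e1 : Jop x2 n2 (y - (c / (μ - (Fintype.card F : ℂ))) • y0) -
          (Fintype.card F : ℂ) • (y - (c / (μ - (Fintype.card F : ℂ))) • y0) = 0 := by
        have e2 : Jop x2 n2 (y - (c / (μ - (Fintype.card F : ℂ))) • y0) -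
            (Fintype.card F : ℂ) • (y - (c / (μ - (Fintype.card F : ℂ))) • y0) =
            (Jop x2 n2 y - (Fintype.card F : ℂ) • y) -
              (c / (μ - (Fintype.card F : ℂ))) • (μ • y0 - (Fintype.card F : ℂ) • y0) := by
          rw [map_sub, map_smul, hJy0, smul_sub, smul_sub, smul_comm (Fintype.card F : ℂ)]
          abel
        rw [e2, hc, ← sub_smul, smul_smul, div_mul_cancel₀ _ hμq, sub_self]
      exact sub_eq_zero.1 e1)
    exact (sub_eq_zero.1 h0).symm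
  exact finrank_le_one (⟨y0, hy0⟩ : ↥F2) (fun w => by
    obtain ⟨c, hc⟩ := hgen w w.2
    exact ⟨c, Subtype.ext hc⟩)

end partJ

end Cfsg.Agent.Lib.Helper85_OO2_B4CORE
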