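import Mathlib
import Cfsg.Agent.Lib.Helper87_OO2Defs
import Cfsg.Agent.Lib.Helper85_OO2_RankOne
import Cfsg.Agent.Lib.Helper85_OO2_LemK
import Cfsg.Agent.Lib.Helper85_OO2_LemK2
import Cfsg.Agent.Lib.Helper85_OO2_INVOL
import Cfsg.Agent.Lib.Helper85_OO2_STEPCORE

set_option autoImplicit false
set_option linter.unusedVariables false

/-!
S2344, package OO2-BASECORE (helper85): the abstract core of the base `n = 3`
(`pending/helper87/S2344_base3.md`, C2-C5): if `finrank F₂ ≤ 2` then `finrank F₂ ≤ 1`.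
-/

namespace Cfsg.Agent.Lib.Helper85_OO2_BASECORE

open Module Cfsg.Agent.Lib.Helper87_OO2Defs Cfsg.Agent.Lib.Helper85_OO2_RankOne
  Cfsg.Agent.Lib.Helper85_OO2_INVOL Cfsg.Agent.Lib.Helper85_OO2_STEPCORE

section sq

variable {F : Type*} [Field F] [Fintype F]

/-- Every non-zero element of a finite field is `t²` or `a0 t²`, `a0` a fixed non-square. -/
theorem exists_sq_or {a0 : F} (h0 : ¬ IsSquare a0) {a : F} (ha : a ≠ 0) :
    ∃ t : F, t ≠ 0 ∧ (a = t ^ 2 ∨ a = a0 * t ^ 2) := by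
  classical
  have ha0 : a0 ≠ 0 := by
    rintro rfl
    exact h0 (IsSquare.zero)
  by_cases hsq : IsSquare a
  · obtain ⟨r, hr⟩ := hsq
    refine ⟨r, ?_, Or.inl (by rw [hr, sq])⟩
    rintro rfl
    apply ha
    rw [hr, mul_zero]
  · have h1 : quadraticChar F a = -1 := quadraticChar_neg_one_iff_not_isSquare.2 hsq
    have h2 : quadraticChar F a0 = -1 := quadraticChar_neg_one_iff_not_isSquare.2 h0
    have h3 : quadraticChar F (a * a0) = 1 := by
      rw [map_mul, h1, h2]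
      norm_num
    obtain ⟨r, hr⟩ := (quadraticChar_one_iff_isSquare (mul_ne_zero ha ha0)).1 h3
    have hr0 : r ≠ 0 := by
      rintro rfl
      rw [mul_zero] at hr
      exact mul_ne_zero ha ha0 hr
    refine ⟨r / a0, div_ne_zero hr0 ha0, Or.inr ?_⟩
    have : a = r * r / a0 := by
      rw [← hr]
      field_simp
    rw [this]
    field_simp

omit [Fintype F] in
theorem not_isSquare_of_thetaC {a0 : F} (h : thetaC a0 = -1) : ¬ IsSquare a0 := by
  intro hsq
  unfold thetaC at h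
  rw [if_pos hsq] at h
  norm_num at h

end sq

section core

variable {F : Type*} [Field F] [Fintype F] {X : Type*} [AddCommGroup X] [Module ℂ X]
  [FiniteDimensional ℂ X]

/-- **OO2-BASECORE**: the abstract core of the base `n = 3` (C3 + C5 of `S2344_base3.md`). -/
theorem base_core (ψ : AddChar F ℂ) (hψ : ψ.IsPrimitive) (a0 : F) (ha0 : a0 ≠ 0)
    (hθ0 : thetaC a0 = -1)
    (x1 x2 : F → Module.End ℂ X) (n1 n2 : Module.End ℂ X) (h12 h13 h23 : F → Module.End ℂ X)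
    (F2 M0 M2 : Submodule ℂ X)
    (R1 : SL2Rel x1 n1 h12) (R2 : SL2Rel x2 n2 h23)
    (T1 : ∀ a : F, a ≠ 0 → h13 a = h12 a * h23 a)
    (T2 : ∀ a b : F, a ≠ 0 → b ≠ 0 → h12 a * h23 b = h23 b * h12 a)
    (T3b : ∀ a : F, a ≠ 0 → h23 a * n1 = n1 * h13 a)
    (T3d : ∀ a : F, a ≠ 0 → h12 a * n2 = n2 * h13 a)
    (T4b : ∀ a s : F, a ≠ 0 → h23 a * x1 s = x1 (a⁻¹ * s) * h23 a)
    (T4c : ∀ a s : F, a ≠ 0 → h12 a * x2 s = x2 (a⁻¹ * s) * h12 a)
    (HZ : ∀ t : F, t ≠ 0 → ∃ (zv z0 z1 : Module.End ℂ X) (c1 c0 : F), c1 ≠ 0 ∧ c0 ≠ 0 ∧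
      (∀ s : F, z1 * x2 s = x2 (c1 * s) * z1) ∧ z1 * n2 = n2 * z0 ∧
      (∀ s : F, z0 * x1 s = x1 (c0 * s) * z0) ∧ z0 * n1 = n1 * zv ∧
      zv = h12 (t ^ 2) * z0 ∧ z0 = h23 (t ^ 2) * z1 ∧ ∀ y ∈ F2, z1 y = y)
    (S2a : F2 ≤ fixX x1) (S2b : F2 ≤ fixX x2) (S2c : F2 ≤ M0) (S2c' : F2 ≤ M2)
    (S2d : ∀ m ∈ M0, m ∈ fixX x1 → m ∈ F2) (S2d' : ∀ m ∈ M2, m ∈ fixX x2 → m ∈ F2)
    (S3h : ∀ y ∈ M0, n1 y ∈ M0) (S3i : ∀ s : F, ∀ y ∈ M0, x1 s y ∈ M0)
    (S3h' : ∀ y ∈ M2, n2 y ∈ M2) (S3i' : ∀ s : F, ∀ y ∈ M2, x2 s y ∈ M2)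
    (S3f' : ∀ y ∈ M2, h23 (-1) y ∈ M2)
    (S4a : ∀ a : F, a ≠ 0 → ∀ y ∈ F2, h12 a y ∈ F2)
    (S4b : ∀ a : F, a ≠ 0 → ∀ y ∈ F2, h23 a y ∈ F2)
    (S9' : ∀ c : F, c ≠ 0 → ∀ m ∈ M2, ∀ m' ∈ M2, (∀ s : F, x2 s m = ψ (c * s) • m) →
      (∀ s : F, x2 s m' = ψ (c * s) • m') → m' ≠ 0 → ∃ a : ℂ, m = a • m')
    (C4 : ∀ y ∈ F2, n2 y = y → y = 0)
    {G : Type*} [Group G] [Finite G] (ρ : Representation ℂ G X) (gx : F → G) (gn : G)
    (hgx : ∀ s : F, ρ (gx s) = x2 s) (hgn : ρ gn = n2)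
    (hF2 : finrank ℂ ↥F2 ≤ 2) : finrank ℂ ↥F2 ≤ 1 := by
  classical
  have hq : (Fintype.card F : ℂ) ≠ 0 := by
    exact_mod_cast Fintype.card_ne_zero
  have hnsq : ¬ IsSquare a0 := not_isSquare_of_thetaC hθ0
  -- invertibility of the torus operators
  have h12inv : ∀ a : F, a ≠ 0 → h12 a⁻¹ * h12 a = 1 := by
    intro a ha
    rw [← R1.h_mul _ _ (inv_ne_zero ha) ha, inv_mul_cancel₀ ha, R1.h_one]
  have h12inj : ∀ a : F, a ≠ 0 → ∀ z, h12 a z = 0 → z = 0 := by
    intro a ha z hz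
    have := congrArg (fun f => f z) (h12inv a ha)
    simp only [Module.End.mul_apply, Module.End.one_apply] at this
    rw [hz, map_zero] at this
    exact this.symm
  have h13_apply : ∀ a : F, a ≠ 0 → ∀ y, h13 a y = h12 a (h23 a y) := by
    intro a ha y
    rw [T1 a ha]
    rfl
  -- intertwining relations
  have J1_h12 : ∀ a : F, a ≠ 0 → ∀ y, h12 a (Jop x1 n1 y) = Jop x1 n1 (h12 a⁻¹ y) := by
    intro a ha y
    have := congrArg (fun f => f y) (J_h R1 (inv_ne_zero ha))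
    simpa only [inv_inv, Module.End.mul_apply] using this
  have J2_h23 : ∀ a : F, a ≠ 0 → ∀ y, h23 a (Jop x2 n2 y) = Jop x2 n2 (h23 a⁻¹ y) := by
    intro a ha y
    have := congrArg (fun f => f y) (J_h R2 (inv_ne_zero ha))
    simpa only [inv_inv, Module.End.mul_apply] using this
  have J1_h23 : ∀ a : F, a ≠ 0 → ∀ y, h23 a (Jop x1 n1 y) = Jop x1 n1 (h13 a y) := by
    intro a ha y
    have := congrArg (fun f => f y) (tau_J (x := x1) (n := n1) (τ := h23 a) (τ' := h13 a)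
      (c := a⁻¹) (inv_ne_zero ha) (fun s => T4b a s ha) (T3b a ha))
    simpa only [Module.End.mul_apply] using this
  have J2_h12 : ∀ a : F, a ≠ 0 → ∀ y, h12 a (Jop x2 n2 y) = Jop x2 n2 (h13 a y) := by
    intro a ha y
    have := congrArg (fun f => f y) (tau_J (x := x2) (n := n2) (τ := h12 a) (τ' := h13 a)
      (c := a⁻¹) (inv_ne_zero ha) (fun s => T4c a s ha) (T3d a ha))
    simpa only [Module.End.mul_apply] using this
  -- `J1`, `J2` map `F2` into `F2`
  have J1_F2 : ∀ y ∈ F2, Jop x1 n1 y ∈ F2 := by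
    intro y hy
    apply S2d
    · rw [Helper85_OO2_RankOne.Jop_apply]
      exact M0.sum_mem fun s _ => S3i s _ (S3h _ (S2c hy))
    · exact Jop_mem_fixX R1.x_add n1 y
  have J2_F2 : ∀ y ∈ F2, Jop x2 n2 y ∈ F2 := by
    intro y hy
    apply S2d'
    · rw [Helper85_OO2_RankOne.Jop_apply]
      exact M2.sum_mem fun s _ => S3i' s _ (S3h' _ (S2c' hy))
    · exact Jop_mem_fixX R2.x_add n2 y
  -- C3, first part: the squares act trivially on `F2`
  have hsq : ∀ t : F, t ≠ 0 → ∀ y ∈ F2, h12 (t ^ 2) y = y ∧ h23 (t ^ 2) y = y := by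
    intro t ht y hy
    obtain ⟨zv, z0, z1, c1, c0, hc1, hc0, hz1x, hz1n, hz0x, hz0n, hzv, hz0, hz1F⟩ := HZ t ht
    have ht2 : t ^ 2 ≠ 0 := pow_ne_zero 2 ht
    have z0_apply : ∀ w ∈ F2, z0 w = h23 (t ^ 2) w := by
      intro w hw
      rw [hz0, Module.End.mul_apply, hz1F w hw]
    have e1 : ∀ w, z1 (Jop x2 n2 w) = Jop x2 n2 (z0 w) := by
      intro w
      have := congrArg (fun f => f w) (tau_J (x := x2) (n := n2) (τ := z1) (τ' := z0) (c := c1)
        hc1 hz1x hz1n)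
      simpa only [Module.End.mul_apply] using this
    have z0_fix : ∀ w ∈ F2, z0 w = w := by
      intro w hw
      have e2 : Jop x2 n2 (z0 w - w) = 0 := by
        rw [map_sub, ← e1, hz1F _ (J2_F2 w hw), sub_self]
      have e3 : z0 w - w ∈ fixX x2 := by
        rw [z0_apply w hw]
        exact (fixX x2).sub_mem (S2b (S4b _ ht2 w hw)) (S2b hw)
      exact sub_eq_zero.1 (J_inj R2 hq e3 e2)
    have zv_apply : ∀ w ∈ F2, zv w = h12 (t ^ 2) w := by
      intro w hw
      rw [hzv, Module.End.mul_apply, z0_fix w hw]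
    have e4 : ∀ w, z0 (Jop x1 n1 w) = Jop x1 n1 (zv w) := by
      intro w
      have := congrArg (fun f => f w) (tau_J (x := x1) (n := n1) (τ := z0) (τ' := zv) (c := c0)
        hc0 hz0x hz0n)
      simpa only [Module.End.mul_apply] using this
    have zv_fix : ∀ w ∈ F2, zv w = w := by
      intro w hw
      have e2 : Jop x1 n1 (zv w - w) = 0 := by
        rw [map_sub, ← e4, z0_fix _ (J1_F2 w hw), sub_self]
      have e3 : zv w - w ∈ fixX x1 := by
        rw [zv_apply w hw]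
        exact (fixX x1).sub_mem (S2a (S4a _ ht2 w hw)) (S2a hw)
      exact sub_eq_zero.1 (J_inj R1 hq e3 e2)
    exact ⟨by rw [← zv_apply y hy, zv_fix y hy], by rw [← z0_apply y hy, z0_fix y hy]⟩
  -- consequences: `h(a⁻¹) = h(a)` on `F2`
  have h12_inv_eq : ∀ a : F, a ≠ 0 → ∀ y ∈ F2, h12 a⁻¹ y = h12 a y := by
    intro a ha y hy
    have e : a⁻¹ = a * (a⁻¹) ^ 2 := by
      field_simp
    rw [e, R1.h_mul _ _ ha (pow_ne_zero 2 (inv_ne_zero ha)), Module.End.mul_apply,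
      (hsq a⁻¹ (inv_ne_zero ha) y hy).1]
  have h23_inv_eq : ∀ a : F, a ≠ 0 → ∀ y ∈ F2, h23 a⁻¹ y = h23 a y := by
    intro a ha y hy
    have e : a⁻¹ = a * (a⁻¹) ^ 2 := by
      field_simp
    rw [e, R2.h_mul _ _ ha (pow_ne_zero 2 (inv_ne_zero ha)), Module.End.mul_apply,
      (hsq a⁻¹ (inv_ne_zero ha) y hy).2]
  -- C3, second part: the involutions `h12 a0`, `h23 a0` are trivial on `F2`
  have hinvol : ∀ y ∈ F2, h12 a0 y = y ∧ h23 a0 y = y := by
    set σ₁ : Module.End ℂ ↥F2 := (h12 a0).restrict (S4a a0 ha0) with hσ₁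
    set σ₂ : Module.End ℂ ↥F2 := (h23 a0).restrict (S4b a0 ha0) with hσ₂
    set J₁ : Module.End ℂ ↥F2 := (Jop x1 n1).restrict J1_F2 with hJ₁
    set J₂ : Module.End ℂ ↥F2 := (Jop x2 n2).restrict J2_F2 with hJ₂
    have D : InvData σ₁ σ₂ J₁ J₂ :=
      { s11 := by
          ext y
          show h12 a0 (h12 a0 (y : X)) = y
          have := (hsq a0 ha0 y y.2).1
          rw [sq, R1.h_mul _ _ ha0 ha0] at this
          exact this
        s22 := by
          ext y
          show h23 a0 (h23 a0 (y : X)) = y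
          have := (hsq a0 ha0 y y.2).2
          rw [sq, R2.h_mul _ _ ha0 ha0] at this
          exact this
        comm := by
          ext y
          show h12 a0 (h23 a0 (y : X)) = h23 a0 (h12 a0 (y : X))
          have := congrArg (fun f => f (y : X)) (T2 a0 a0 ha0 ha0)
          exact this
        inj1 := by
          intro y hy
          apply Subtype.ext
          exact J_inj R1 hq (S2a y.2) (congrArg Subtype.val hy)
        inj2 := by
          intro y hy
          apply Subtype.ext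
          exact J_inj R2 hq (S2b y.2) (congrArg Subtype.val hy)
        a1 := by
          ext y
          show h12 a0 (Jop x1 n1 (y : X)) = Jop x1 n1 (h12 a0 (y : X))
          rw [J1_h12 a0 ha0, h12_inv_eq a0 ha0 y y.2]
        a2 := by
          ext y
          show h23 a0 (Jop x1 n1 (y : X)) = Jop x1 n1 (h12 a0 (h23 a0 (y : X)))
          rw [J1_h23 a0 ha0, h13_apply a0 ha0]
        b1 := by
          ext y
          show h23 a0 (Jop x2 n2 (y : X)) = Jop x2 n2 (h23 a0 (y : X))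
          rw [J2_h23 a0 ha0, h23_inv_eq a0 ha0 y y.2]
        b2 := by
          ext y
          show h12 a0 (Jop x2 n2 (y : X)) = Jop x2 n2 (h12 a0 (h23 a0 (y : X)))
          rw [J2_h12 a0 ha0, h13_apply a0 ha0] }
    obtain ⟨e1, e2⟩ := D.trivial_of_finrank_le_two hF2
    intro y hy
    constructor
    · have := congrArg (fun f => ((f ⟨y, hy⟩ : ↥F2) : X)) e1
      exact this
    · have := congrArg (fun f => ((f ⟨y, hy⟩ : ↥F2) : X)) e2
      exact this
  -- all torus elements act trivially on `F2`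
  have htriv : ∀ a : F, a ≠ 0 → ∀ y ∈ F2, h12 a y = y ∧ h23 a y = y := by
    intro a ha y hy
    obtain ⟨t, ht, h | h⟩ := exists_sq_or hnsq ha
    · rw [h]
      exact hsq t ht y hy
    · rw [h, R1.h_mul _ _ ha0 (pow_ne_zero 2 ht), R2.h_mul _ _ ha0 (pow_ne_zero 2 ht),
        Module.End.mul_apply, Module.End.mul_apply, (hsq t ht y hy).1, (hsq t ht y hy).2]
      exact hinvol y hy
  -- C5
  by_cases hbot : F2 = ⊥
  · rw [hbot, finrank_bot]
    exact Nat.zero_le 1
  have hnt : Nontrivial ↥F2 := Submodule.nontrivial_iff_ne_bot.2 hbot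
  obtain ⟨μ, hμ⟩ := Module.End.exists_eigenvalue ((Jop x2 n2).restrict J2_F2)
  obtain ⟨⟨y0, hy0⟩, hvec⟩ := hμ.exists_hasEigenvector
  have hy0ne : y0 ≠ 0 := by
    intro h
    apply hvec.2
    exact Subtype.ext h
  have hJy0 : Jop x2 n2 y0 = μ • y0 := by
    have := congrArg Subtype.val hvec.apply_eq_smul
    exact this
  have hm1 : (-1 : F) ≠ 0 := by simp
  have hn2 : n2 y0 ∉ fixX x2 := by
    intro hmem
    apply hy0ne
    apply C4 y0 hy0
    have rel := congrArg (fun f => f y0) (R2.rel 1 one_ne_zero)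
    simp only [Module.End.mul_apply, inv_one] at rel
    rw [hmem 1, S2b hy0 (-1), (htriv (-1) hm1 y0 hy0).2, hmem (-1)] at rel
    have nn := congrArg (fun f => f y0) R2.nn
    simp only [Module.End.mul_apply] at nn
    rw [nn, (htriv (-1) hm1 y0 hy0).2] at rel
    exact rel.symm
  obtain ⟨c0, hc0, hec0⟩ := exists_eop_ne_zero hψ R2.x_zero R2.x_add hq hn2
  have hne_all : ∀ c : F, c ≠ 0 → eop ψ x2 c (n2 y0) ≠ 0 := by
    intro c hc
    have hd : c0 / c ≠ 0 := div_ne_zero hc0 hc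
    have hd' : (c0 / c)⁻¹ ≠ 0 := inv_ne_zero hd
    have := eop_n_ne_zero_of_tau ψ (x := x2) (n := n2) (τ := h12 (c0 / c)⁻¹)
      (τ' := h13 (c0 / c)⁻¹) (d := c0 / c) hd
      (fun s => by
        have := T4c (c0 / c)⁻¹ s hd'
        rwa [inv_inv] at this)
      (T3d _ hd') (h12inj _ hd') (y₀ := y0)
      (a := 1) (by
        rw [h13_apply _ hd', (htriv _ hd' y0 hy0).2, (htriv _ hd' y0 hy0).1, one_smul]) hec0
    have e : c0 / (c0 / c) = c := by
      field_simp
    rwa [e] at this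
  have D : KData ψ x2 n2 h23 M2 y0 :=
    { R := R2
      hψ := hψ
      hq := hq
      Nx := S3i'
      Nn := S3h'
      Nh := S3f'
      y₀N := S2c' hy0
      y₀fix := S2b hy0
      y₀h := fun t ht => ⟨1, by rw [(htriv t ht y0 hy0).2, one_smul]⟩
      line := by
        intro c hc y hy
        have hM : ∀ w ∈ M2, eop ψ x2 c w ∈ M2 := by
          intro w hw
          rw [eop_apply]
          exact M2.smul_mem _ (M2.sum_mem fun s _ => M2.smul_mem _ (S3i' s w hw))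
        exact S9' c hc _ (hM y hy) _ (hM _ (S3h' _ (S2c' hy0)))
          (fun s => x_eop_apply ψ R2.x_add c s y) (fun s => x_eop_apply ψ R2.x_add c s _)
          (hne_all c hc) }
  -- the finite group generated by `gx s`, `gn`
  set S : Set G := Set.range gx ∪ {gn} with hS
  set K : Subgroup G := Subgroup.closure S with hK
  have : Fintype ↥K := Fintype.ofFinite _
  have hkT : ∀ g : G, g ∈ K → ρ g ∈ Triv M2 (Z0 x2 n2 y0) := by
    intro g hg
    have hg' : g ∈ Submonoid.closure S := by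
      rw [← Subgroup.closure_toSubmonoid_of_finite]
      exact hg
    induction hg' using Submonoid.closure_induction with
    | mem g hgS =>
      rcases hgS with ⟨s, rfl⟩ | hgn'
      · rw [hgx]
        exact D.x_mem_Triv s
      · rw [Set.mem_singleton_iff] at hgn'
        rw [hgn', hgn]
        exact D.n_mem_Triv
    | one =>
      rw [map_one]
      exact Submonoid.one_mem _
    | mul a b ha hb iha ihb =>
      rw [map_mul]
      have ha' : a ∈ K := by
        rw [hK, ← Subgroup.mem_toSubmonoid, Subgroup.closure_toSubmonoid_of_finite]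
        exact ha
      have hb' : b ∈ K := by
        rw [hK, ← Subgroup.mem_toSubmonoid, Subgroup.closure_toSubmonoid_of_finite]
        exact hb
      exact Submonoid.mul_mem _ (iha ha') (ihb hb')
  have hgen : ∀ y ∈ F2, ∃ c : ℂ, c • y0 = y := by
    intro y hy
    obtain ⟨y₁, hy₁M, hy₁x, hy₁n, -, hspan⟩ := D.d2 (ι := ↥K) (fun i => ρ (i : G))
      (fun i => hkT _ i.2)
      (fun s => ⟨Equiv.mulLeft ⟨gx s, Subgroup.subset_closure (Or.inl ⟨s, rfl⟩)⟩, fun i => by
        show x2 s * ρ (i : G) = ρ (gx s * (i : G))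
        rw [map_mul, hgx]⟩)
      ⟨Equiv.mulLeft ⟨gn, Subgroup.subset_closure (Or.inr rfl)⟩, fun i => by
        show n2 * ρ (i : G) = ρ (gn * (i : G))
        rw [map_mul, hgn]⟩ (S2c' hy)
    have hy₁F : y₁ ∈ F2 := S2d' y₁ hy₁M hy₁x
    have hy₁0 : y₁ = 0 := C4 y₁ hy₁F hy₁n
    have h1 := hspan (S2b hy)
    rw [hy₁0, sub_zero] at h1
    obtain ⟨c, d, hcd⟩ := Submodule.mem_span_pair.1 h1
    refine ⟨c + d * μ, ?_⟩
    rw [← hcd, hJy0, add_smul, mul_smul]
  exact finrank_le_one (⟨y0, hy0⟩ : ↥F2) (fun w => by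
    obtain ⟨c, hc⟩ := hgen w w.2
    exact ⟨c, Subtype.ext hc⟩)

end core

end Cfsg.Agent.Lib.Helper85_OO2_BASECORE
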