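import Mathlib
import Cfsg.Prelude.Def_GeometricClasses
import Cfsg.Agent.Lib.Helper13_OrthC8Defs

/-!
# Package DONE of S5981 (architect helper13)

Diagonal derangements of the orthogonal-type subgroup when `r ∣ q - 1`.
-/

set_option autoImplicit false

namespace Cfsg.Agent.Lib.Helper85_OrthC8_DONE

open Matrix Polynomial Cfsg.Agent.Lib.Helper13_OrthC8Defs

variable {F : Type*} [Field F]

/-- If `diagonal d` is a similarity (with factor `c`) of an invertible `A`, some permutation `σ`
has `d (σ k) * d k = c` for all `k` (take a non-vanishing term of the Leibniz expansion). -/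
theorem exists_perm {n : ℕ} (d : Fin n → F) (A : Matrix (Fin n) (Fin n) F) (hAd : A.det ≠ 0)
    (c : F) (h : (diagonal d)ᵀ * A * diagonal d = c • A) :
    ∃ σ : Equiv.Perm (Fin n), ∀ k, d (σ k) * d k = c := by
  have h1 : ∃ σ : Equiv.Perm (Fin n), ∏ i, A (σ i) i ≠ 0 := by
    by_contra hcon
    push Not at hcon
    apply hAd
    rw [Matrix.det_apply]
    apply Finset.sum_eq_zero
    intro σ _
    rw [hcon σ, smul_zero]
  obtain ⟨σ, hσ⟩ := h1
  refine ⟨σ, fun k => ?_⟩
  have hk : A (σ k) k ≠ 0 := fun h0 => hσ (Finset.prod_eq_zero (Finset.mem_univ k) h0)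
  have h2 := congrFun (congrFun h (σ k)) k
  rw [Matrix.diagonal_transpose, Matrix.mul_diagonal, Matrix.diagonal_mul, Matrix.smul_apply,
    smul_eq_mul] at h2
  apply mul_right_cancel₀ hk
  linear_combination h2

theorem diag_pow_scalar {n : ℕ} (d : Fin n → F) (r : ℕ) (z : F) (h : ∀ k, d k ^ r = z) :
    (diagonal d) ^ r = z • (1 : Matrix (Fin n) (Fin n) F) := by
  rw [Matrix.diagonal_pow, Matrix.smul_one_eq_diagonal]
  congr 1
  funext k
  exact h k

theorem diag_ne_scalar {n : ℕ} (d : Fin n → F) (i j : Fin n) (h : d i ≠ d j) (z : F) :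
    diagonal d ≠ z • (1 : Matrix (Fin n) (Fin n) F) := by
  intro he
  rw [Matrix.smul_one_eq_diagonal] at he
  have := Matrix.diagonal_injective he
  apply h
  rw [congrFun this i, congrFun this j]

/-- the diagonal entries of construction 1 -/
noncomputable def f1 (ω : F) (i : ℕ) : F := if i < 2 then ω else if i = 2 then (ω ^ 2)⁻¹ else 1

theorem f1_cases (ω : F) (i : ℕ) : f1 ω i = ω ∨ f1 ω i = (ω ^ 2)⁻¹ ∨ f1 ω i = 1 := by
  unfold f1
  split_ifs <;> simp

theorem core1 {n r : ℕ} (hr : r.Prime) (hr2 : r ≠ 2) (ω : F) (hω : orderOf ω = r)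
    (hn : 7 ≤ n ∨ (n = 6 ∧ 5 ≤ r)) :
    ∃ x : Matrix (Fin n) (Fin n) F, x.det = 1 ∧ (∃ z : F, x ^ r = z • 1) ∧ (∀ z : F, x ≠ z • 1) ∧
      ∀ A : Matrix (Fin n) (Fin n) F, Aᵀ = A → A.det ≠ 0 → ¬ SimM A x := by
  have hpow : ∀ k : ℕ, ω ^ k = 1 ↔ r ∣ k := fun k => by
    rw [← hω]; exact (orderOf_dvd_iff_pow_eq_one).symm
  have hωr : ω ^ r = 1 := (hpow r).2 dvd_rfl
  have hω0 : ω ≠ 0 := by
    intro h0
    rw [h0, zero_pow hr.ne_zero] at hωr
    exact zero_ne_one hωr
  have hω1 : ω ≠ 1 := by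
    intro h1
    have := (hpow 1).1 (by rw [h1, one_pow])
    exact hr.one_lt.ne' (Nat.dvd_one.1 this)
  have hω2 : ω ^ 2 ≠ 1 := by
    intro h2
    exact hr2 ((Nat.prime_dvd_prime_iff_eq hr Nat.prime_two).1 ((hpow 2).1 h2))
  have hn6 : 6 ≤ n := by omega
  refine ⟨diagonal fun k : Fin n => f1 ω k, ?_, ⟨1, ?_⟩, ?_, ?_⟩
  · rw [Matrix.det_diagonal]
    obtain ⟨m, rfl⟩ : ∃ m, n = m + 3 := ⟨n - 3, by omega⟩
    rw [Fin.prod_univ_succ, Fin.prod_univ_succ, Fin.prod_univ_succ]
    have : ∀ k : Fin m, f1 ω ((k.succ.succ.succ : Fin (m + 3)) : ℕ) = 1 := by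
      intro k
      unfold f1
      simp only [Fin.val_succ]
      rw [if_neg (by omega), if_neg (by omega)]
    rw [Finset.prod_congr rfl (fun k _ => this k), Finset.prod_const_one]
    simp only [f1, Fin.val_zero, Fin.val_succ]
    norm_num
    field_simp
  · apply diag_pow_scalar
    intro k
    rcases f1_cases ω k with h | h | h <;> rw [h]
    · exact hωr
    · rw [inv_pow, ← pow_mul, mul_comm, pow_mul, hωr, one_pow, inv_one]
    · exact one_pow r
  · intro z
    apply diag_ne_scalar _ ⟨0, by omega⟩ ⟨3, by omega⟩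
    simp only [f1]
    norm_num
    exact hω1
  · rintro A - hAd ⟨c, -, h⟩
    obtain ⟨σ, hσ⟩ := exists_perm _ A hAd c h
    have hbig : ∀ k : Fin n, 3 ≤ (k : ℕ) → f1 ω k = 1 := by
      intro k hk
      unfold f1
      rw [if_neg (by omega), if_neg (by omega)]
    have hinj : ∀ i j : Fin n, ((σ i : Fin n) : ℕ) = (σ j : Fin n) → (i : ℕ) = j := by
      intro i j hij
      have := σ.injective (Fin.ext hij)
      rw [this]
    -- step 1 : c = 1
    have hc1 : c = 1 := by
      by_cases hex : ∃ k : Fin n, 3 ≤ (k : ℕ) ∧ 3 ≤ ((σ k : Fin n) : ℕ)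
      · obtain ⟨k, hk, hk'⟩ := hex
        have := hσ k
        rw [hbig k hk, hbig _ hk', one_mul] at this
        exact this.symm
      · push Not at hex
        have h3 := hex ⟨3, by omega⟩ (le_refl 3)
        have h4 := hex ⟨4, by omega⟩ (by norm_num)
        have h5 := hex ⟨5, by omega⟩ (by norm_num)
        have i34 := mt (hinj ⟨3, by omega⟩ ⟨4, by omega⟩) (by norm_num)
        have i35 := mt (hinj ⟨3, by omega⟩ ⟨5, by omega⟩) (by norm_num)
        have i45 := mt (hinj ⟨4, by omega⟩ ⟨5, by omega⟩) (by norm_num)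
        rcases hn with hn | ⟨-, hr5⟩
        · have h6 := hex ⟨6, by omega⟩ (by norm_num)
          have i36 := mt (hinj ⟨3, by omega⟩ ⟨6, by omega⟩) (by norm_num)
          have i46 := mt (hinj ⟨4, by omega⟩ ⟨6, by omega⟩) (by norm_num)
          have i56 := mt (hinj ⟨5, by omega⟩ ⟨6, by omega⟩) (by norm_num)
          exfalso
          omega
        · -- some index maps to 0 and some to 2
          exfalso
          have e0 : ∃ k : Fin n, 3 ≤ (k : ℕ) ∧ ((σ k : Fin n) : ℕ) = 0 := by
            have : ((σ ⟨3, by omega⟩ : Fin n) : ℕ) = 0 ∨ ((σ ⟨4, by omega⟩ : Fin n) : ℕ) = 0 ∨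
                ((σ ⟨5, by omega⟩ : Fin n) : ℕ) = 0 := by omega
            rcases this with h | h | h
            · exact ⟨_, le_refl 3, h⟩
            · exact ⟨⟨4, by omega⟩, by norm_num, h⟩
            · exact ⟨⟨5, by omega⟩, by norm_num, h⟩
          have e2 : ∃ k : Fin n, 3 ≤ (k : ℕ) ∧ ((σ k : Fin n) : ℕ) = 2 := by
            have : ((σ ⟨3, by omega⟩ : Fin n) : ℕ) = 2 ∨ ((σ ⟨4, by omega⟩ : Fin n) : ℕ) = 2 ∨
                ((σ ⟨5, by omega⟩ : Fin n) : ℕ) = 2 := by omega
            rcases this with h | h | h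
            · exact ⟨_, le_refl 3, h⟩
            · exact ⟨⟨4, by omega⟩, by norm_num, h⟩
            · exact ⟨⟨5, by omega⟩, by norm_num, h⟩
          obtain ⟨k, hk, hk0⟩ := e0
          obtain ⟨k', hk', hk2⟩ := e2
          have a1 := hσ k
          have a2 := hσ k'
          rw [hbig k hk, mul_one] at a1
          rw [hbig k' hk', mul_one] at a2
          have b1 : f1 ω ((σ k : Fin n) : ℕ) = ω := by rw [hk0]; simp [f1]
          have b2 : f1 ω ((σ k' : Fin n) : ℕ) = (ω ^ 2)⁻¹ := by rw [hk2]; simp [f1]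
          rw [b1] at a1
          rw [b2] at a2
          have h3' : ω ^ 3 = 1 := by
            have : ω = (ω ^ 2)⁻¹ := a1.trans a2.symm
            have hne : ω ^ 2 ≠ 0 := pow_ne_zero 2 hω0
            field_simp at this
            linear_combination this
          have := (hpow 3).1 h3'
          have := Nat.le_of_dvd (by norm_num) this
          omega
    -- step 2
    have h0 := hσ ⟨0, by omega⟩
    have e0 : f1 ω ((⟨0, by omega⟩ : Fin n) : ℕ) = ω := by simp [f1]
    rw [e0, hc1] at h0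
    rcases f1_cases ω ((σ ⟨0, by omega⟩ : Fin n) : ℕ) with h | h | h <;> rw [h] at h0
    · exact hω2 (by rw [pow_two]; exact h0)
    · have hne : ω ^ 2 ≠ 0 := pow_ne_zero 2 hω0
      rw [inv_mul_eq_one₀ hne] at h0
      apply hω1
      have : ω * (ω - 1) = 0 := by linear_combination h0
      rcases mul_eq_zero.1 this with h' | h'
      · exact absurd h' hω0
      · exact sub_eq_zero.1 h'
    · rw [one_mul] at h0
      exact hω1 h0

theorem core2 {n r : ℕ} (hr : r.Prime) (hr2 : r ≠ 2) (l ω : F) (hω : orderOf ω = r)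
    (hl : l ^ n * ω = 1) (hn : 3 ≤ n) :
    ∃ x : Matrix (Fin n) (Fin n) F, x.det = 1 ∧ (∃ z : F, x ^ r = z • 1) ∧ (∀ z : F, x ≠ z • 1) ∧
      ∀ A : Matrix (Fin n) (Fin n) F, Aᵀ = A → A.det ≠ 0 → ¬ SimM A x := by
  have hpow : ∀ k : ℕ, ω ^ k = 1 ↔ r ∣ k := fun k => by
    rw [← hω]; exact (orderOf_dvd_iff_pow_eq_one).symm
  have hωr : ω ^ r = 1 := (hpow r).2 dvd_rfl
  have hω1 : ω ≠ 1 := by
    intro h1
    have := (hpow 1).1 (by rw [h1, one_pow])
    exact hr.one_lt.ne' (Nat.dvd_one.1 this)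
  have hω2 : ω ^ 2 ≠ 1 := by
    intro h2
    exact hr2 ((Nat.prime_dvd_prime_iff_eq hr Nat.prime_two).1 ((hpow 2).1 h2))
  have hl0 : l ≠ 0 := by
    intro h0
    rw [h0, zero_pow (by omega), zero_mul] at hl
    exact zero_ne_one hl
  set d : Fin n → F := fun k => if (k : ℕ) = 0 then l * ω else l with hd
  have d0 : ∀ k : Fin n, (k : ℕ) = 0 → d k = l * ω := fun k hk => by simp [hd, hk]
  have d1 : ∀ k : Fin n, (k : ℕ) ≠ 0 → d k = l := fun k hk => by simp [hd, hk]
  have dcases : ∀ k : Fin n, d k = l * ω ∨ d k = l := fun k => by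
    by_cases hk : (k : ℕ) = 0
    · exact Or.inl (d0 k hk)
    · exact Or.inr (d1 k hk)
  refine ⟨diagonal d, ?_, ⟨l ^ r, ?_⟩, ?_, ?_⟩
  · rw [Matrix.det_diagonal]
    obtain ⟨m, rfl⟩ : ∃ m, n = m + 1 := ⟨n - 1, by omega⟩
    rw [Fin.prod_univ_succ]
    have : ∀ k : Fin m, d k.succ = l := fun k => d1 _ (by simp)
    rw [Finset.prod_congr rfl (fun k _ => this k), Finset.prod_const, Finset.card_univ,
      Fintype.card_fin, d0 0 (by simp)]
    rw [← hl]
    ring
  · apply diag_pow_scalar
    intro k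
    rcases dcases k with h | h <;> rw [h]
    rw [mul_pow, hωr, mul_one]
  · intro z
    apply diag_ne_scalar d ⟨0, by omega⟩ ⟨1, by omega⟩
    rw [d0 _ rfl, d1 _ (by simp)]
    intro h
    apply hω1
    have : l * (ω - 1) = 0 := by linear_combination h
    rcases mul_eq_zero.1 this with h' | h'
    · exact absurd h' hl0
    · exact sub_eq_zero.1 h'
  · rintro A - hAd ⟨c, -, h⟩
    obtain ⟨σ, hσ⟩ := exists_perm _ A hAd c h
    have hc : c = l * l := by
      have : ((σ ⟨1, by omega⟩ : Fin n) : ℕ) ≠ 0 ∨ ((σ ⟨2, by omega⟩ : Fin n) : ℕ) ≠ 0 := by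
        by_contra hcon
        push Not at hcon
        have := σ.injective (Fin.ext (hcon.1.trans hcon.2.symm))
        have := congrArg Fin.val this
        simp at this
      rcases this with h' | h'
      · have := hσ ⟨1, by omega⟩
        rw [d1 _ h', d1 _ (by simp)] at this
        exact this.symm
      · have := hσ ⟨2, by omega⟩
        rw [d1 _ h', d1 _ (by simp)] at this
        exact this.symm
    have h0 := hσ ⟨0, by omega⟩
    rw [d0 ⟨0, by omega⟩ rfl, hc] at h0
    rcases dcases (σ ⟨0, by omega⟩) with h' | h' <;> rw [h'] at h0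
    · apply hω2
      have : l * l * (ω ^ 2 - 1) = 0 := by linear_combination h0
      rcases mul_eq_zero.1 this with h'' | h''
      · exact absurd h'' (mul_ne_zero hl0 hl0)
      · exact sub_eq_zero.1 h''
    · apply hω1
      have : l * l * (ω - 1) = 0 := by linear_combination h0
      rcases mul_eq_zero.1 this with h'' | h''
      · exact absurd h'' (mul_ne_zero hl0 hl0)
      · exact sub_eq_zero.1 h''

theorem DONE {F : Type*} [Field F] [Fintype F] {n r : ℕ} (hr : r.Prime) (hr2 : r ≠ 2)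
    (hrq : r ∣ Fintype.card F - 1) (hn : 3 ≤ n) (hgap : ¬ (n = 6 ∧ r = 3))
    (hex : ¬ ((r = 3 ∨ r = 5) ∧ n = r ∧ padicValNat r (Fintype.card F - 1) = 1)) :
    ∃ x : Matrix (Fin n) (Fin n) F, x.det = 1 ∧ (∃ z : F, x ^ r = z • 1) ∧ (∀ z : F, x ≠ z • 1) ∧
      ∀ A : Matrix (Fin n) (Fin n) F, Aᵀ = A → A.det ≠ 0 → ¬ SimM A x := by
  haveI := Fact.mk hr
  classical
  set N := Fintype.card F - 1 with hN
  have hN0 : N ≠ 0 := by
    have := Fintype.one_lt_card (α := F)
    omega
  have hcardU : Fintype.card Fˣ = N := by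
    rw [hN, ← Fintype.card_units F]
  have ha : 1 ≤ padicValNat r N := one_le_padicValNat_of_dvd hN0 hrq
  have hn0 : n ≠ 0 := by omega
  by_cases hv : padicValNat r n < padicValNat r N
  · -- construction 2
    obtain ⟨g, hg⟩ := IsCyclic.exists_generator (α := Fˣ)
    have hog : orderOf g = N := by
      rw [orderOf_eq_card_of_forall_mem_zpowers hg, Nat.card_eq_fintype_card, hcardU]
    set v := padicValNat r n with hvdef
    have hdiv : r ^ (v + 1) ∣ N := (padicValNat_dvd_iff_le hN0).2 (by omega)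
    set l : Fˣ := g ^ (orderOf g / r ^ (v + 1)) with hldef
    have hol : orderOf l = r ^ (v + 1) :=
      orderOf_pow_orderOf_div (by rw [hog]; exact hN0) (by rw [hog]; exact hdiv)
    have h1 : (l ^ n) ^ r = 1 := by
      rw [← pow_mul]
      apply orderOf_dvd_iff_pow_eq_one.1
      rw [hol, pow_succ]
      exact Nat.mul_dvd_mul (pow_padicValNat_dvd) dvd_rfl
    have h2 : l ^ n ≠ 1 := by
      intro h
      have := orderOf_dvd_iff_pow_eq_one.2 h
      rw [hol] at this
      have := (padicValNat_dvd_iff_le hn0).1 this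
      omega
    have h3 : orderOf (l ^ n) = r := orderOf_eq_prime h1 h2
    have h4 : orderOf (((l ^ n)⁻¹ : Fˣ) : F) = r := by
      rw [orderOf_units, orderOf_inv, h3]
    refine core2 hr hr2 (l : F) (((l ^ n)⁻¹ : Fˣ) : F) h4 ?_ hn
    rw [← Units.val_pow_eq_pow_val, ← Units.val_mul, mul_inv_cancel, Units.val_one]
  · push Not at hv
    by_cases hbig : 7 ≤ n ∨ (n = 6 ∧ 5 ≤ r)
    · obtain ⟨ω, hω⟩ := exists_prime_orderOf_dvd_card (G := Fˣ) r (by rw [hcardU]; exact hrq)
      exact core1 hr hr2 (ω : F) (by rw [orderOf_units, hω]) hbig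
    · exfalso
      push Not at hbig
      have hrn : r ∣ n := dvd_of_one_le_padicValNat (le_trans ha hv)
      have hr3 : 3 ≤ r := by
        have := hr.two_le
        omega
      have hn6 : n ≤ 6 := by omega
      have hrle : r ≤ n := Nat.le_of_dvd (by omega) hrn
      have key : ∀ s : ℕ, s.Prime → r = s → n = s → padicValNat r N = 1 := by
        intro s hs hrs hns
        have : padicValNat r n = 1 := by
          rw [hns, ← hrs]
          exact padicValNat_self
        omega
      interval_cases n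
      · -- n = 3
        have : r = 3 := by omega
        exact hex ⟨Or.inl this, this.symm, key 3 Nat.prime_three this rfl⟩
      · -- n = 4
        have : r = 3 ∨ r = 4 := by omega
        rcases this with h | h
        · rw [h] at hrn; omega
        · rw [h] at hr; exact absurd hr (by norm_num)
      · -- n = 5
        have : r = 3 ∨ r = 4 ∨ r = 5 := by omega
        rcases this with h | h | h
        · rw [h] at hrn; omega
        · rw [h] at hr; exact absurd hr (by norm_num)
        · exact hex ⟨Or.inr h, h.symm, key 5 Nat.prime_five h rfl⟩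
      · -- n = 6
        have : r = 3 ∨ r = 4 ∨ r = 5 ∨ r = 6 := by omega
        rcases this with h | h | h | h
        · exact hgap ⟨rfl, h⟩
        · rw [h] at hr; exact absurd hr (by norm_num)
        · rw [h] at hrn; omega
        · rw [h] at hr; exact absurd hr (by norm_num)

end Cfsg.Agent.Lib.Helper85_OrthC8_DONE
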