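import Mathlib
import Cfsg.Agent.Lib.Helper98_AschDefs
import Cfsg.Agent.Lib.Helper23_FormDefs
import Cfsg.Agent.Lib.Helper34_OrthOdd_OP4b
import Cfsg.Agent.Lib.Helper52_Asch_PK2

/-!
# PL14 of the `Ω₁₂⁺(q)` row (helper85): swapping the two factors of a tensor decomposition
-/

set_option autoImplicit false

open Cfsg Cfsg.Geo Matrix Cfsg.Agent.Lib.Helper98_AschDefs Cfsg.Agent.Lib.Helper23_FormDefs
  Cfsg.Agent.Lib.Helper34_OrthOdd_OP4b
open scoped Kronecker MatrixGroups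

namespace Cfsg.Agent.Lib.Helper85_OrthEven_PL14

variable {ι : Type} [Fintype ι] [DecidableEq ι] {F : Type*} [Field F]

/-- one inclusion between the stabilisers of a tensor decomposition and of the swapped one -/
lemma tps_le_swap (n₁ n₂ : ℕ) (e : ι ≃ Fin n₁ × Fin n₂) (P : GL ι F) :
    tensorProductSubgroup n₁ n₂ e P ≤
      tensorProductSubgroup n₂ n₁ (e.trans (Equiv.prodComm (Fin n₁) (Fin n₂))) P := by
  rintro g ⟨g', ⟨k, ⟨a, b, hk⟩, rfl⟩, rfl⟩
  have hk' : k = kronGL a b := Units.ext hk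
  subst hk'
  refine ⟨glReindex (e.trans (Equiv.prodComm (Fin n₁) (Fin n₂))).symm (kronGL b a),
    ⟨kronGL b a, kronGL_mem b a, rfl⟩, ?_⟩
  rw [← kronGL_swap a b]
  have := Cfsg.Agent.Lib.Helper52_Asch_PK2.glReindex_trans (F := F) e (Equiv.prodComm (Fin n₁) (Fin n₂))
    (kronGL a b)
  simp only [MulEquiv.coe_toMonoidHom] at *
  rw [this]

/-- PL14: swapping the two factors of a tensor decomposition -/
theorem PL14 (f : (ι → F) → (ι → F) → F) (n₁ n₂ : ℕ) (e : ι ≃ Fin n₁ × Fin n₂) (P : GL ι F)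
    (f₁ : (Fin n₁ → F) → (Fin n₁ → F) → F) (f₂ : (Fin n₂ → F) → (Fin n₂ → F) → F)
    (hten : IsTensorFormStructure id f f₁ f₂ e P) :
    IsTensorFormStructure id f f₂ f₁ (e.trans (Equiv.prodComm (Fin n₁) (Fin n₂))) P ∧
    tensorProductSubgroup n₁ n₂ e P = tensorProductSubgroup n₂ n₁ (e.trans (Equiv.prodComm (Fin n₁) (Fin n₂))) P ∧
    ∀ (x₁ : Fin n₁ → F) (x₂ : Fin n₂ → F),
      (fun a : Fin n₂ × Fin n₁ => x₂ a.1 * x₁ a.2) ∘ (e.trans (Equiv.prodComm (Fin n₁) (Fin n₂))) =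
        (fun a : Fin n₁ × Fin n₂ => x₁ a.1 * x₂ a.2) ∘ e := by
  refine ⟨?_, ?_, ?_⟩
  · obtain ⟨c, hc, h⟩ := hten
    refine ⟨c, hc, fun x y => ?_⟩
    have hx : ∀ z : Fin n₂ × Fin n₁ → F, z ∘ (e.trans (Equiv.prodComm (Fin n₁) (Fin n₂)))
        = (z ∘ (Equiv.prodComm (Fin n₁) (Fin n₂))) ∘ e := fun z => rfl
    rw [hx, hx, h]
    congr 1
    unfold formOfGram
    rw [← Equiv.sum_comp (Equiv.prodComm (Fin n₁) (Fin n₂))]
    refine Finset.sum_congr rfl fun a _ => ?_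
    rw [← Equiv.sum_comp (Equiv.prodComm (Fin n₁) (Fin n₂))]
    refine Finset.sum_congr rfl fun b _ => ?_
    simp only [Function.comp_apply, Matrix.kroneckerMap_apply, Equiv.prodComm_apply, Prod.fst_swap,
      Prod.snd_swap, id]
    ring
  · apply le_antisymm (tps_le_swap n₁ n₂ e P)
    have h := tps_le_swap n₂ n₁ (e.trans (Equiv.prodComm (Fin n₁) (Fin n₂))) P
    have he : (e.trans (Equiv.prodComm (Fin n₁) (Fin n₂))).trans (Equiv.prodComm (Fin n₂) (Fin n₁)) = e := by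
      ext i <;> simp
    rw [he] at h
    exact h
  · intro x₁ x₂
    funext i
    simp [mul_comm]

end Cfsg.Agent.Lib.Helper85_OrthEven_PL14
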