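import Mathlib
import Cfsg.Agent.Lib.Helper85_OrthEven_EV5

/-!
# PL8 of the `Ω₁₂⁺(q)` row (helper85): in a plus-type space an isometric orthogonal decomposition into an odd number of
even-dimensional blocks has blocks of plus type
-/

set_option autoImplicit false

universe u

open Cfsg Cfsg.Geo Matrix Module
open Cfsg.Agent.Lib.Helper85_OrthEven_EV5 Cfsg.Agent.Lib.Helper94_OrthGenBridge
  Cfsg.Agent.Lib.Helper43_OrthTS_OQ2 Cfsg.Agent.Lib.Helper99_OrthTSDefs
  Cfsg.Agent.Lib.Helper40_SpBasic Cfsg.Agent.Lib.Helper40_OConj Cfsg.Agent.Lib.Helper40_QuadIso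

namespace Cfsg.Agent.Lib.Helper85_OrthEven_PL8

variable {ι : Type} [Fintype ι] [DecidableEq ι] {F : Type u} [Field F]

/-- PL8 (helper85): in a plus-type space an isometric orthogonal decomposition into an odd number of even-dimensional
blocks has blocks of plus type -/
theorem PL8 [Fintype F] (Q : (ι → F) → F) (hQ : IsNondegenerateQuadraticForm Q) (hplus : IsPlusTypeOn Q ⊤)
    (t k : ℕ) (ht : Odd t) (hk : Even k) (D : Fin t → Submodule F (ι → F))
    (hD : IsOrthogonalMDecomposition Q k D) (i : Fin t) : IsPlusTypeOn Q (D i) := by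
  classical
  have hnd : ∀ i, NDOn (pol (qfOf Q hQ)) (D i) :=
    fun i => ndOn_of_geo Q hQ _ (hD.decomp.nondegenerate i)
  have horth : ∀ i j, i ≠ j → ∀ u ∈ D i, ∀ v ∈ D j, pol (qfOf Q hQ) u v = 0 :=
    fun i j hij u hu v hv => hD.decomp.orthogonal i j hij u hu v hv
  have hiso : ∀ i j, Iso (resQ (qfOf Q hQ) (D i)) (resQ (qfOf Q hQ) (D j)) :=
    fun i j => iso_of_geo Q hQ (hD.isometric i j)
  have htop : iSup D = ⊤ := hD.decomp.decomp.iSup_eq_top
  have hfr : ∀ i, finrank F (D i) = k := hD.decomp.decomp.finrank_eq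
  have hev : ∀ i, Even (finrank F (D i)) := fun i => by rw [hfr i]; exact hk
  have htype : ∀ i, OHypOn (qfOf Q hQ) (D i) ↔ ∀ j, OHypOn (qfOf Q hQ) (D j) :=
    fun i => ⟨fun hi j => (oHypOn_congr (hiso i j)).1 hi, fun hall => hall i⟩
  obtain ⟨-, -, h3⟩ := type_biSup D (∀ j, OHypOn (qfOf Q hQ) (D j)) hnd horth hev htype Finset.univ
  have hu : (⨆ i ∈ (Finset.univ : Finset (Fin t)), D i) = ⊤ := by
    rw [← htop]
    simp
  rw [hu, Finset.card_univ, Fintype.card_fin] at h3
  rcases h3.1 (oHypOn_of_isPlusTypeOn Q hQ hplus) with h | h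
  · exact absurd h (Nat.not_even_iff_odd.mpr ht)
  · exact isPlusTypeOn_of_oHypOn Q hQ (hev i) (h i)

end Cfsg.Agent.Lib.Helper85_OrthEven_PL8
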