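import Mathlib
import Cfsg.Agent.Lib.Helper22_OrthEven_IrrPlus
import Cfsg.Agent.Lib.Helper22_OrthEven_Row12
import Cfsg.Agent.Lib.Helper85_OrthEven_EV5
import Cfsg.Agent.Lib.Helper32_OrthEven_EV16
import Cfsg.Agent.Lib.Helper82_OrthEven_EV17
import Cfsg.Agent.Lib.Helper71_OrthEven_EV19
import Cfsg.Agent.Lib.Helper70_OrthEven_EV20
import Cfsg.Agent.Lib.Helper34_OrthEven_EV26
import Cfsg.Agent.Lib.Helper43_OrthEven_EV27
import Cfsg.Agent.Lib.Helper55_OrthEven_EV29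
import Cfsg.Agent.Lib.Helper34_OrthEven_EV40
import Cfsg.Agent.Lib.Helper50_OrthEven_EV45
import Cfsg.Agent.Lib.Helper11_OrthEven_EV45d
import Cfsg.Agent.Lib.Helper34_OrthEven_EV49
import Cfsg.Agent.Lib.Helper85_OrthEven_PL8
import Cfsg.Agent.Lib.Helper85_OrthEven_PL14
import Cfsg.Agent.Lib.Helper7_OrthEven_PL9a
import Cfsg.Agent.Lib.Helper7_OrthEven_PL9b
import Cfsg.Agent.Lib.Helper51_OrthEven_PL12
import Cfsg.Agent.Lib.Helper4_OrthEven_PL6
import Cfsg.Agent.Lib.Helper50_OrthEven_PL7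
import Cfsg.Agent.Lib.Helper10_OrthEven_PL11
import Cfsg.Agent.Lib.Helper64_OrthEven_EV45c
import Cfsg.Agent.Lib.Helper42_OrthEven_PL2
import Cfsg.Agent.Lib.Helper51_OrthEven_PL13b

/-!
# The row `Ω₁₂⁺(q)` of the maximal subgroup tables (helper85)

Built on helper22's framework for the even-dimensional orthogonal rows (`reducible_cases`, `irreducible_cases_ts`, the packages
`EV1`-`EV50` of his markets) and on the packages `PL2`-`PL14` of the market for this row (helper42, helper4, helper50, helper7,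
helper10, helper51).  `H` is maximal in `Ω`, so in each case of Aschbacher's analysis it is enough to put `H` inside one listed
overgroup `M` with `¬ Ω ≤ M`.
-/

set_option autoImplicit false

open Cfsg Cfsg.Geo Matrix Cfsg.Agent.Lib.Helper98_AschDefs Cfsg.Agent.Lib.Helper23_FormDefs
open scoped Kronecker MatrixGroups

namespace Cfsg.Agent.Lib.Helper85_OrthEven_Row12p

open Cfsg.Agent.Lib.Helper22_OrthEven_Basic Cfsg.Agent.Lib.Helper22_OrthEven_Core
  Cfsg.Agent.Lib.Helper22_OrthEven_Irr Cfsg.Agent.Lib.Helper22_OrthEven_IrrPlus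

variable {ι : Type} [Fintype ι] [DecidableEq ι] {F : Type*} [Field F]

/-- a group inside the stabiliser of a proper non-zero subspace is reducible -/
lemma not_irr_of_le_stab (H : Subgroup (GL ι F)) (W : Submodule F (ι → F)) (hW0 : W ≠ ⊥) (hW1 : W ≠ ⊤)
    (hHW : H ≤ subspaceStabilizer W) : ¬ ActsIrreducibly (matrixSet H) := by
  intro hirr
  have hinv : ∀ s ∈ matrixSet H, W.map (Matrix.toLin' s) ≤ W := by
    rintro _ ⟨g, hg, rfl⟩
    rintro _ ⟨v, hv, rfl⟩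
    rw [Matrix.toLin'_apply]
    exact ((mem_subspaceStabilizer_iff W g).mp (hHW hg) v).mp hv
  rcases hirr W hinv with h | h
  · exact hW0 h
  · exact hW1 h

/-- the cardinality of a finite field is not 6 -/
lemma card_ne_six [Fintype F] : Fintype.card F ≠ 6 := by
  intro h
  have hpp : IsPrimePow (Fintype.card F) := Fintype.isPrimePow_card_of_field
  rw [h] at hpp
  revert hpp
  decide

/-- one of the classes of the row -/
def clsTS [Fintype F] (Q : (Fin 12 → F) → F) (H : Subgroup (Matrix.GeneralLinearGroup (Fin 12) F)) : Prop :=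
  (∃ W : Submodule F (Fin 12 → F), W ≠ ⊥ ∧ Cfsg.Geo.IsTotallySingularQuad Q W ∧ Module.finrank F W ≠ 5 ∧ H = Cfsg.Geo.subspaceStabilizer W ⊓ Cfsg.Geo.omegaGL Q)

/-- one of the classes of the row -/
def clsOdd [Fintype F] (Q : (Fin 12 → F) → F) (H : Subgroup (Matrix.GeneralLinearGroup (Fin 12) F)) : Prop :=
  (Odd (Fintype.card F) ∧ ∃ W : Submodule F (Fin 12 → F), W ≠ ⊥ ∧ W ≠ ⊤ ∧ Odd (Module.finrank F W) ∧ 2 * Module.finrank F W ≠ 12 ∧ Cfsg.Geo.IsNondegenerateOn (QuadraticMap.polar Q) W ∧ H = Cfsg.Geo.subspaceStabilizer W ⊓ Cfsg.Geo.omegaGL Q)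

/-- one of the classes of the row -/
def clsMinus2 [Fintype F] (Q : (Fin 12 → F) → F) (H : Subgroup (Matrix.GeneralLinearGroup (Fin 12) F)) : Prop :=
  (∃ W : Submodule F (Fin 12 → F), Module.finrank F W = 2 ∧ Cfsg.Geo.IsNondegenerateOn (QuadraticMap.polar Q) W ∧ ¬ Cfsg.Geo.IsPlusTypeOn Q W ∧ H = Cfsg.Geo.subspaceStabilizer W ⊓ Cfsg.Geo.omegaGL Q)

/-- one of the classes of the row -/
def clsPlus2 [Fintype F] (Q : (Fin 12 → F) → F) (H : Subgroup (Matrix.GeneralLinearGroup (Fin 12) F)) : Prop :=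
  (4 ≤ Fintype.card F ∧ ∃ W : Submodule F (Fin 12 → F), Module.finrank F W = 2 ∧ Cfsg.Geo.IsNondegenerateOn (QuadraticMap.polar Q) W ∧ Cfsg.Geo.IsPlusTypeOn Q W ∧ H = Cfsg.Geo.subspaceStabilizer W ⊓ Cfsg.Geo.omegaGL Q)

/-- one of the classes of the row -/
def clsFour [Fintype F] (Q : (Fin 12 → F) → F) (H : Subgroup (Matrix.GeneralLinearGroup (Fin 12) F)) : Prop :=
  (∃ W : Submodule F (Fin 12 → F), Module.finrank F W = 4 ∧ Cfsg.Geo.IsNondegenerateOn (QuadraticMap.polar Q) W ∧ H = Cfsg.Geo.subspaceStabilizer W ⊓ Cfsg.Geo.omegaGL Q)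

/-- one of the classes of the row -/
def clsNS [Fintype F] (Q : (Fin 12 → F) → F) (H : Subgroup (Matrix.GeneralLinearGroup (Fin 12) F)) : Prop :=
  (¬ Odd (Fintype.card F) ∧ ∃ v : (Fin 12 → F), Q v ≠ 0 ∧ H = Cfsg.Geo.subspaceStabilizer (Submodule.span F {v}) ⊓ Cfsg.Geo.omegaGL Q)

/-- one of the classes of the row -/
def clsFrame [Fintype F] (Q : (Fin 12 → F) → F) (H : Subgroup (Matrix.GeneralLinearGroup (Fin 12) F)) : Prop :=
  ((∃ p : ℕ, p.Prime ∧ Odd p ∧ Fintype.card F = p) ∧ ∃ D : Fin 12 → Submodule F (Fin 12 → F), Cfsg.Geo.IsOrthogonalMDecomposition Q 1 D ∧ H = Cfsg.Geo.decompositionStabilizer D ⊓ Cfsg.Geo.omegaGL Q)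

/-- one of the classes of the row -/
def clsPlanesP [Fintype F] (Q : (Fin 12 → F) → F) (H : Subgroup (Matrix.GeneralLinearGroup (Fin 12) F)) : Prop :=
  (7 ≤ Fintype.card F ∧ ∃ D : Fin 6 → Submodule F (Fin 12 → F), Cfsg.Geo.IsOrthogonalMDecomposition Q 2 D ∧ (∀ i, Cfsg.Geo.IsPlusTypeOn Q (D i)) ∧ H = Cfsg.Geo.decompositionStabilizer D ⊓ Cfsg.Geo.omegaGL Q)

/-- one of the classes of the row -/
def clsPlanesM [Fintype F] (Q : (Fin 12 → F) → F) (H : Subgroup (Matrix.GeneralLinearGroup (Fin 12) F)) : Prop :=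
  (Fintype.card F ≠ 3 ∧ ∃ D : Fin 6 → Submodule F (Fin 12 → F), Cfsg.Geo.IsOrthogonalMDecomposition Q 2 D ∧ (∀ i, ¬ Cfsg.Geo.IsPlusTypeOn Q (D i)) ∧ H = Cfsg.Geo.decompositionStabilizer D ⊓ Cfsg.Geo.omegaGL Q)

/-- one of the classes of the row -/
def clsThrees [Fintype F] (Q : (Fin 12 → F) → F) (H : Subgroup (Matrix.GeneralLinearGroup (Fin 12) F)) : Prop :=
  (Odd (Fintype.card F) ∧ 5 ≤ Fintype.card F ∧ ∃ D : Fin 4 → Submodule F (Fin 12 → F), Cfsg.Geo.IsOrthogonalMDecomposition Q 3 D ∧ H = Cfsg.Geo.decompositionStabilizer D ⊓ Cfsg.Geo.omegaGL Q)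

/-- one of the classes of the row -/
def clsFours [Fintype F] (Q : (Fin 12 → F) → F) (H : Subgroup (Matrix.GeneralLinearGroup (Fin 12) F)) : Prop :=
  (3 ≤ Fintype.card F ∧ ∃ D : Fin 3 → Submodule F (Fin 12 → F), Cfsg.Geo.IsOrthogonalMDecomposition Q 4 D ∧ H = Cfsg.Geo.decompositionStabilizer D ⊓ Cfsg.Geo.omegaGL Q)

/-- one of the classes of the row -/
def clsSixes [Fintype F] (Q : (Fin 12 → F) → F) (H : Subgroup (Matrix.GeneralLinearGroup (Fin 12) F)) : Prop :=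
  (∃ D : Fin 2 → Submodule F (Fin 12 → F), Cfsg.Geo.IsOrthogonalMDecomposition Q 6 D ∧ H = Cfsg.Geo.decompositionStabilizer D ⊓ Cfsg.Geo.omegaGL Q)

/-- one of the classes of the row -/
def clsTSPair [Fintype F] (Q : (Fin 12 → F) → F) (H : Subgroup (Matrix.GeneralLinearGroup (Fin 12) F)) : Prop :=
  (∃ D : Fin 2 → Submodule F (Fin 12 → F), Cfsg.Geo.IsMDecomposition 6 D ∧ (∀ i, Cfsg.Geo.IsTotallySingularQuad Q (D i)) ∧ H = Cfsg.Geo.decompositionStabilizer D ⊓ Cfsg.Geo.omegaGL Q)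

/-- one of the classes of the row -/
def clsK2 [Fintype F] (Q : (Fin 12 → F) → F) (H : Subgroup (Matrix.GeneralLinearGroup (Fin 12) F)) : Prop :=
  (∃ K : Subalgebra F (Matrix (Fin 12) (Fin 12) F), Cfsg.Geo.IsFieldSubalgebra 2 K ∧ H = Cfsg.Geo.subalgebraNormalizer K ⊓ Cfsg.Geo.omegaGL Q)

/-- one of the classes of the row -/
def clsK3 [Fintype F] (Q : (Fin 12 → F) → F) (H : Subgroup (Matrix.GeneralLinearGroup (Fin 12) F)) : Prop :=
  (∃ K : Subalgebra F (Matrix (Fin 12) (Fin 12) F), Cfsg.Geo.IsFieldSubalgebra 3 K ∧ H = Cfsg.Geo.subalgebraNormalizer K ⊓ Cfsg.Geo.omegaGL Q)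

/-- one of the classes of the row -/
def clsK2U [Fintype F] (Q : (Fin 12 → F) → F) (H : Subgroup (Matrix.GeneralLinearGroup (Fin 12) F)) : Prop :=
  (∃ K : Subalgebra F (Matrix (Fin 12) (Fin 12) F), Cfsg.Geo.IsFieldSubalgebra 2 K ∧ Cfsg.Geo.IsAdjointClosedFor (QuadraticMap.polar Q) K ∧ ¬ Cfsg.Geo.IsSelfAdjointFor (QuadraticMap.polar Q) K ∧ (∀ k ∈ K, ∃ c : F, ∀ v : (Fin 12 → F), Q (Matrix.mulVec k v) = c * Q v) ∧ H = Cfsg.Geo.subalgebraNormalizer K ⊓ Cfsg.Geo.omegaGL Q)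

/-- one of the classes of the row -/
def clsTensor [Fintype F] (Q : (Fin 12 → F) → F) (H : Subgroup (Matrix.GeneralLinearGroup (Fin 12) F)) : Prop :=
  (3 ≤ Fintype.card F ∧ ∃ (e : Fin 12 ≃ Fin 2 × Fin 6) (P : Matrix.GeneralLinearGroup (Fin 12) F) (f₁ : (Fin 2 → F) → (Fin 2 → F) → F) (f₂ : (Fin 6 → F) → (Fin 6 → F) → F), Cfsg.Geo.IsSymplecticForm f₁ ∧ Cfsg.Geo.IsSymplecticForm f₂ ∧ Cfsg.Geo.IsTensorFormStructure id (QuadraticMap.polar Q) f₁ f₂ e P ∧ (∀ (x₁ : Fin 2 → F) (x₂ : Fin 6 → F), Q (Matrix.mulVec (P : Matrix (Fin 12) (Fin 12) F) ((fun a : Fin 2 × Fin 6 => x₁ a.1 * x₂ a.2) ∘ e)) = 0) ∧ H = Cfsg.Geo.tensorProductSubgroup 2 6 e P ⊓ Cfsg.Geo.omegaGL Q)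

/-- one of the classes of the row -/
def clsSubfield [Fintype F] (Q : (Fin 12 → F) → F) (H : Subgroup (Matrix.GeneralLinearGroup (Fin 12) F)) : Prop :=
  (∃ (F₀ : Subfield F) (r : ℕ) (P : Matrix.GeneralLinearGroup (Fin 12) F) (ζ : F), r.Prime ∧ Fintype.card F = Nat.card F₀ ^ r ∧ ζ ≠ 0 ∧ Cfsg.Geo.IsQuadFormRationalStructure (fun v : Fin 12 → F => ζ * Q v) F₀ P ∧ H = Cfsg.Geo.subfieldSubgroup F₀ P ⊓ Cfsg.Geo.omegaGL Q)

/-- one of the classes of the row -/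
def clsResidual [Fintype F] (_Q : (Fin 12 → F) → F) (H : Subgroup (Matrix.GeneralLinearGroup (Fin 12) F)) : Prop :=
  Cfsg.Geo.InOrthogonalResidualClass H

/-- the conclusion of the row -/
def Goal [Fintype F] (Q : (Fin 12 → F) → F) (H : Subgroup (Matrix.GeneralLinearGroup (Fin 12) F)) : Prop :=
  clsTS Q H ∨ clsOdd Q H ∨ clsMinus2 Q H ∨ clsPlus2 Q H ∨ clsFour Q H ∨ clsNS Q H ∨ clsFrame Q H ∨ clsPlanesP Q H ∨ clsPlanesM Q H ∨ clsThrees Q H ∨ clsFours Q H ∨ clsSixes Q H ∨ clsTSPair Q H ∨ clsK2 Q H ∨ clsK3 Q H ∨ clsK2U Q H ∨ clsTensor Q H ∨ clsSubfield Q H ∨ clsResidual Q H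

lemma Goal.of_clsTS [Fintype F] {Q : (Fin 12 → F) → F} {H : Subgroup (Matrix.GeneralLinearGroup (Fin 12) F)}
    (h : clsTS Q H) : Goal Q H :=
  Or.inl h

lemma Goal.of_clsOdd [Fintype F] {Q : (Fin 12 → F) → F} {H : Subgroup (Matrix.GeneralLinearGroup (Fin 12) F)}
    (h : clsOdd Q H) : Goal Q H :=
  Or.inr (Or.inl h)

lemma Goal.of_clsMinus2 [Fintype F] {Q : (Fin 12 → F) → F} {H : Subgroup (Matrix.GeneralLinearGroup (Fin 12) F)}
    (h : clsMinus2 Q H) : Goal Q H :=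
  Or.inr (Or.inr (Or.inl h))

lemma Goal.of_clsPlus2 [Fintype F] {Q : (Fin 12 → F) → F} {H : Subgroup (Matrix.GeneralLinearGroup (Fin 12) F)}
    (h : clsPlus2 Q H) : Goal Q H :=
  Or.inr (Or.inr (Or.inr (Or.inl h)))

lemma Goal.of_clsFour [Fintype F] {Q : (Fin 12 → F) → F} {H : Subgroup (Matrix.GeneralLinearGroup (Fin 12) F)}
    (h : clsFour Q H) : Goal Q H :=
  Or.inr (Or.inr (Or.inr (Or.inr (Or.inl h))))

lemma Goal.of_clsNS [Fintype F] {Q : (Fin 12 → F) → F} {H : Subgroup (Matrix.GeneralLinearGroup (Fin 12) F)}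
    (h : clsNS Q H) : Goal Q H :=
  Or.inr (Or.inr (Or.inr (Or.inr (Or.inr (Or.inl h)))))

lemma Goal.of_clsFrame [Fintype F] {Q : (Fin 12 → F) → F} {H : Subgroup (Matrix.GeneralLinearGroup (Fin 12) F)}
    (h : clsFrame Q H) : Goal Q H :=
  Or.inr (Or.inr (Or.inr (Or.inr (Or.inr (Or.inr (Or.inl h))))))

lemma Goal.of_clsPlanesP [Fintype F] {Q : (Fin 12 → F) → F} {H : Subgroup (Matrix.GeneralLinearGroup (Fin 12) F)}
    (h : clsPlanesP Q H) : Goal Q H :=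
  Or.inr (Or.inr (Or.inr (Or.inr (Or.inr (Or.inr (Or.inr (Or.inl h)))))))

lemma Goal.of_clsPlanesM [Fintype F] {Q : (Fin 12 → F) → F} {H : Subgroup (Matrix.GeneralLinearGroup (Fin 12) F)}
    (h : clsPlanesM Q H) : Goal Q H :=
  Or.inr (Or.inr (Or.inr (Or.inr (Or.inr (Or.inr (Or.inr (Or.inr (Or.inl h))))))))

lemma Goal.of_clsThrees [Fintype F] {Q : (Fin 12 → F) → F} {H : Subgroup (Matrix.GeneralLinearGroup (Fin 12) F)}
    (h : clsThrees Q H) : Goal Q H :=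
  Or.inr (Or.inr (Or.inr (Or.inr (Or.inr (Or.inr (Or.inr (Or.inr (Or.inr (Or.inl h)))))))))

lemma Goal.of_clsFours [Fintype F] {Q : (Fin 12 → F) → F} {H : Subgroup (Matrix.GeneralLinearGroup (Fin 12) F)}
    (h : clsFours Q H) : Goal Q H :=
  Or.inr (Or.inr (Or.inr (Or.inr (Or.inr (Or.inr (Or.inr (Or.inr (Or.inr (Or.inr (Or.inl h))))))))))

lemma Goal.of_clsSixes [Fintype F] {Q : (Fin 12 → F) → F} {H : Subgroup (Matrix.GeneralLinearGroup (Fin 12) F)}
    (h : clsSixes Q H) : Goal Q H :=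
  Or.inr (Or.inr (Or.inr (Or.inr (Or.inr (Or.inr (Or.inr (Or.inr (Or.inr (Or.inr (Or.inr (Or.inl h)))))))))))

lemma Goal.of_clsTSPair [Fintype F] {Q : (Fin 12 → F) → F} {H : Subgroup (Matrix.GeneralLinearGroup (Fin 12) F)}
    (h : clsTSPair Q H) : Goal Q H :=
  Or.inr (Or.inr (Or.inr (Or.inr (Or.inr (Or.inr (Or.inr (Or.inr (Or.inr (Or.inr (Or.inr (Or.inr (Or.inl h))))))))))))

lemma Goal.of_clsK2 [Fintype F] {Q : (Fin 12 → F) → F} {H : Subgroup (Matrix.GeneralLinearGroup (Fin 12) F)}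
    (h : clsK2 Q H) : Goal Q H :=
  Or.inr (Or.inr (Or.inr (Or.inr (Or.inr (Or.inr (Or.inr (Or.inr (Or.inr (Or.inr (Or.inr (Or.inr (Or.inr (Or.inl h)))))))))))))

lemma Goal.of_clsK3 [Fintype F] {Q : (Fin 12 → F) → F} {H : Subgroup (Matrix.GeneralLinearGroup (Fin 12) F)}
    (h : clsK3 Q H) : Goal Q H :=
  Or.inr (Or.inr (Or.inr (Or.inr (Or.inr (Or.inr (Or.inr (Or.inr (Or.inr (Or.inr (Or.inr (Or.inr (Or.inr (Or.inr (Or.inl h))))))))))))))

lemma Goal.of_clsK2U [Fintype F] {Q : (Fin 12 → F) → F} {H : Subgroup (Matrix.GeneralLinearGroup (Fin 12) F)}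
    (h : clsK2U Q H) : Goal Q H :=
  Or.inr (Or.inr (Or.inr (Or.inr (Or.inr (Or.inr (Or.inr (Or.inr (Or.inr (Or.inr (Or.inr (Or.inr (Or.inr (Or.inr (Or.inr (Or.inl h)))))))))))))))

lemma Goal.of_clsTensor [Fintype F] {Q : (Fin 12 → F) → F} {H : Subgroup (Matrix.GeneralLinearGroup (Fin 12) F)}
    (h : clsTensor Q H) : Goal Q H :=
  Or.inr (Or.inr (Or.inr (Or.inr (Or.inr (Or.inr (Or.inr (Or.inr (Or.inr (Or.inr (Or.inr (Or.inr (Or.inr (Or.inr (Or.inr (Or.inr (Or.inl h))))))))))))))))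

lemma Goal.of_clsSubfield [Fintype F] {Q : (Fin 12 → F) → F} {H : Subgroup (Matrix.GeneralLinearGroup (Fin 12) F)}
    (h : clsSubfield Q H) : Goal Q H :=
  Or.inr (Or.inr (Or.inr (Or.inr (Or.inr (Or.inr (Or.inr (Or.inr (Or.inr (Or.inr (Or.inr (Or.inr (Or.inr (Or.inr (Or.inr (Or.inr (Or.inr (Or.inl h)))))))))))))))))

lemma Goal.of_clsResidual [Fintype F] {Q : (Fin 12 → F) → F} {H : Subgroup (Matrix.GeneralLinearGroup (Fin 12) F)}
    (h : clsResidual Q H) : Goal Q H :=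
  Or.inr (Or.inr (Or.inr (Or.inr (Or.inr (Or.inr (Or.inr (Or.inr (Or.inr (Or.inr (Or.inr (Or.inr (Or.inr (Or.inr (Or.inr (Or.inr (Or.inr (Or.inr h)))))))))))))))))

/-- the row `Ω₁₂⁺(q)` -/
theorem S5871_main [Fintype F] (Q : (Fin 12 → F) → F) (hQ : Cfsg.Geo.IsNondegenerateQuadraticForm Q)
    (hplus : Cfsg.Geo.IsPlusTypeOn Q ⊤) (H : Subgroup (Matrix.GeneralLinearGroup (Fin 12) F))
    (hH : Cfsg.Geo.IsMaximalIn (Cfsg.Geo.omegaGL Q) H) : Goal Q H := by
  classical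
  have hcard : Fintype.card (Fin 12) = 12 := Fintype.card_fin 12
  have hHΩ : H ≤ omegaGL Q := hH.1.le
  have hHI : H ≤ isometryGroup F Q := hHΩ.trans (omegaGL_le Q)
  have hglue := fun (M : Subgroup (GL (Fin 12) F)) (hHM : H ≤ M) (hΩM : ¬ omegaGL Q ≤ M) =>
    eq_of_maximal hH hHM hΩM
  have hEV16 := fun (t k : ℕ) (D : Fin t → Submodule F (Fin 12 → F)) (hD : IsMDecomposition k D) =>
    Cfsg.Agent.Lib.Helper32_OrthEven_EV16.EV16 Q hQ (by rw [hcard]; omega) t k D hD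
  have hEV2 := Cfsg.Agent.Lib.Helper32_OrthEven_EV2.EV2 Q hQ (by rw [hcard]; omega)
  have hq1 : 1 < Fintype.card F := Fintype.one_lt_card
  -- the subfield class
  have hsub : ∀ (F₁ : Subfield F) (r : ℕ) (P : GL (Fin 12) F) (ζ : F), r.Prime →
      Fintype.card F = Nat.card F₁ ^ r → ζ ≠ 0 →
      IsQuadFormRationalStructure (fun v : Fin 12 → F => ζ * Q v) F₁ P → H ≤ subfieldSubgroup F₁ P →
      Goal Q H := by
    intro F₁ r P ζ hr hc hζ hrat hle
    exact Goal.of_clsSubfield ⟨F₁, r, P, ζ, hr, hc, hζ, hrat,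
      hglue _ hle (Cfsg.Agent.Lib.Helper94_OrthEven_EV11.EV11 Q hQ (by rw [hcard]; omega) F₁
        (subfield_ne_top F₁ r hr hc) P)⟩
  -- a frame
  have hframe : ∀ (D : Fin 12 → Submodule F (Fin 12 → F)), IsOrthogonalMDecomposition Q 1 D →
      H ≤ decompositionStabilizer D → Goal Q H := by
    intro D hOD hHD
    by_cases hp : (Fintype.card F).Prime
    · have h2F : (2 : F) ≠ 0 := by
        intro h2
        have hev := EV14 Q hQ h2 (D 0) (hOD.decomp.nondegenerate 0)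
        rw [hOD.decomp.decomp.finrank_eq] at hev
        exact absurd hev (by decide)
      exact Goal.of_clsFrame ⟨⟨Fintype.card F, hp, odd_card_of_two_ne_zero h2F, rfl⟩, D, hOD,
        hglue _ hHD (hEV16 12 1 D hOD.decomp.decomp)⟩
    · obtain ⟨F₁, r, P, ζ, hr, hc, hζ, hrat, hle⟩ :=
        Cfsg.Agent.Lib.Helper55_OrthEven_EV29.EV29 Q hQ hp 12 D hOD
      exact hsub F₁ r P ζ hr hc hζ hrat ((le_inf hHD hHI).trans hle)
  -- the decomposition class
  have hdecomp : ActsIrreducibly (matrixSet H) → ∀ (t k : ℕ) (D : Fin t → Submodule F (Fin 12 → F)),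
      t * k = 12 → 2 ≤ t → IsOrthogonalMDecomposition Q k D → H ≤ decompositionStabilizer D →
      Goal Q H := by
    intro hirr t k D htk ht2 hOD hHD
    have ht12 : t ≤ 12 := Nat.le_of_dvd (by norm_num) ⟨k, htk.symm⟩
    have hStab := hglue _ hHD (hEV16 t k D hOD.decomp.decomp)
    have hHDI : H ≤ decompositionStabilizer D ⊓ isometryGroup F Q := le_inf hHD hHI
    interval_cases t
    · -- t = 2, k = 6
      have : k = 6 := by omega
      subst this
      exact Goal.of_clsSixes ⟨D, hOD, hStab⟩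
    · -- t = 3, k = 4
      have : k = 4 := by omega
      subst this
      by_cases hq3 : 3 ≤ Fintype.card F
      · exact Goal.of_clsFours ⟨hq3, D, hOD, hStab⟩
      · have hq2 : Fintype.card F = 2 := by omega
        have hb := Cfsg.Agent.Lib.Helper85_OrthEven_PL8.PL8 Q hQ hplus 3 4 (by decide) (by decide) D hOD
        obtain ⟨D', hOD', hminus', hle⟩ := Cfsg.Agent.Lib.Helper50_OrthEven_PL7.PL7 hq2 Q hQ 3 6 (by norm_num) D hOD hb
        have hHD' : H ≤ decompositionStabilizer D' := hHDI.trans hle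
        exact Goal.of_clsPlanesM ⟨by omega, D', hOD', hminus',
          hglue _ hHD' (hEV16 6 2 D' hOD'.decomp.decomp)⟩
    · -- t = 4, k = 3
      have : k = 3 := by omega
      subst this
      have h2F : (2 : F) ≠ 0 := by
        intro h2
        have hev := EV14 Q hQ h2 (D 0) (hOD.decomp.nondegenerate 0)
        rw [hOD.decomp.decomp.finrank_eq] at hev
        exact absurd hev (by decide)
      have hodd := odd_card_of_two_ne_zero h2F
      by_cases hq5 : 5 ≤ Fintype.card F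
      · exact Goal.of_clsThrees ⟨hodd, hq5, D, hOD, hStab⟩
      · have hq3 : Fintype.card F = 3 := by
          obtain ⟨j, hj⟩ := hodd
          omega
        obtain ⟨D', hOD', hle⟩ := Cfsg.Agent.Lib.Helper4_OrthEven_PL6.PL6 hq3 Q hQ 4 12 (by norm_num) D hOD
        exact hframe D' hOD' (hHDI.trans hle)
    · omega
    · -- t = 6, k = 2
      have : k = 2 := by omega
      subst this
      by_cases hb : ∀ i, IsPlusTypeOn Q (D i)
      · by_cases hq7 : 7 ≤ Fintype.card F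
        · exact Goal.of_clsPlanesP ⟨hq7, D, hOD, hb, hStab⟩
        · by_cases hq3 : Fintype.card F ≤ 3
          · exfalso
            obtain ⟨W, hW0, hW1, hle⟩ := Cfsg.Agent.Lib.Helper50_OrthEven_EV45.EV45 hq3 Q hQ 6 D hOD hb
            exact not_irr_of_le_stab H W hW0 hW1 (hHDI.trans hle) hirr
          · have h45 : Fintype.card F = 4 ∨ Fintype.card F = 5 := by
              have := card_ne_six (F := F)
              omega
            rcases h45 with hq4 | hq5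
            · obtain ⟨F₁, r, P, ζ, hr, hc, hζ, hrat, hle⟩ := Cfsg.Agent.Lib.Helper64_OrthEven_EV45c.EV45c hq4 Q hQ 6 D hOD hb
              exact hsub F₁ r P ζ hr hc hζ hrat (hHDI.trans hle)
            · obtain ⟨D', hOD', hle⟩ :=
                Cfsg.Agent.Lib.Helper11_OrthEven_EV45d.EV45d hq5 Q hQ 6 12 (by norm_num) D hOD hb
              exact hframe D' hOD' (hHDI.trans hle)
      · -- all blocks of minus type
        have hm : ∀ i, ¬ IsPlusTypeOn Q (D i) := by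
          intro i hi
          apply hb
          intro j
          exact Cfsg.Agent.Lib.Helper22_OrthEven_Row12.plus_of_isometric Q (D i) (D j) (hOD.isometric i j) hi
        by_cases hq3 : Fintype.card F = 3
        · obtain ⟨D', hOD', hle⟩ :=
            Cfsg.Agent.Lib.Helper43_OrthEven_EV27.EV27 hq3 Q hQ 6 12 (by norm_num) D hOD hm
          exact hframe D' hOD' (hHDI.trans hle)
        · exact Goal.of_clsPlanesM ⟨hq3, D, hOD, hm, hStab⟩
    · omega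
    · omega
    · omega
    · omega
    · omega
    · -- t = 12, k = 1
      have : k = 1 := by omega
      subst this
      exact hframe D hOD hHD
  by_cases hirr : ActsIrreducibly (matrixSet H)
  swap
  · -- reducible
    rcases reducible_cases (by rw [hcard]; omega) Q hQ H hH hirr with
      ⟨W, hW0, hWts, hHeq⟩ | ⟨hq, W, hW0, hW1, hodd, -, hWnd, hHeq, -⟩ | ⟨W, h2, hWnd, hp, hHeq⟩ |
      ⟨hq, W, h2, hWnd, hp, hHeq⟩ | ⟨W, hev, h4, hle, hWnd, hHeq⟩ | ⟨hq, v, hv, hHeq⟩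
    · by_cases h5 : Module.finrank F W = 5
      · obtain ⟨U, hWU, hUts, hUdim, hle⟩ := Cfsg.Agent.Lib.Helper34_OrthEven_EV40.EV41 Q hQ 6
          (by rw [hcard]) hplus W hWts (by rw [h5])
        have hHU : H ≤ subspaceStabilizer U := by
          rw [hHeq]
          exact hle
        have hU0 : U ≠ ⊥ := by
          rintro rfl
          rw [finrank_bot] at hUdim
          omega
        have hU1 : U ≠ ⊤ := by
          rintro rfl
          rw [finrank_top, Module.finrank_fintype_fun_eq_card, hcard] at hUdim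
          omega
        exact Goal.of_clsTS ⟨U, hU0, hUts, by rw [hUdim]; norm_num, hglue _ hHU (hEV2 U hU0 hU1)⟩
      · exact Goal.of_clsTS ⟨W, hW0, hWts, h5, hHeq⟩
    · refine Goal.of_clsOdd ⟨hq, W, hW0, hW1, hodd, ?_, hWnd, hHeq⟩
      obtain ⟨j, hj⟩ := hodd
      omega
    · exact Goal.of_clsMinus2 ⟨W, h2, hWnd, hp, hHeq⟩
    · exact Goal.of_clsPlus2 ⟨hq, W, h2, hWnd, hp, hHeq⟩
    · rw [hcard] at hle
      have h46 : Module.finrank F W = 4 ∨ Module.finrank F W = 6 := by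
        obtain ⟨j, hj⟩ := hev
        omega
      rcases h46 with h | h
      · exact Goal.of_clsFour ⟨W, h, hWnd, hHeq⟩
      · obtain ⟨D, hOD, hle'⟩ := Cfsg.Agent.Lib.Helper42_OrthEven_PL2.PL2 Q hQ hplus 6 (by decide) (by norm_num) (by rw [hcard]) W h hWnd
        have hHW : H ≤ subspaceStabilizer W := by
          rw [hHeq]
          exact inf_le_left
        have hHD : H ≤ decompositionStabilizer D := (le_inf hHW hHI).trans hle'
        exact Goal.of_clsSixes ⟨D, hOD, hglue _ hHD (hEV16 2 6 D hOD.decomp.decomp)⟩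
    · exact Goal.of_clsNS ⟨hq, v, hv, hHeq⟩
  -- irreducible
  have hEV7 := fun (r : ℕ) (hr : 2 ≤ r) (K : Subalgebra F (Matrix (Fin 12) (Fin 12) F))
      (hK : IsFieldSubalgebra r K) =>
    Cfsg.Agent.Lib.Helper32_OrthEven_EV7.EV7 Q hQ (by rw [hcard]; omega) r hr K hK
  have hEV20 := fun (d s : ℕ) (hd : 1 < d) (hs : 1 < s) (e : Fin 12 ≃ Fin d × Fin s) (P : GL (Fin 12) F) =>
    Cfsg.Agent.Lib.Helper70_OrthEven_EV20.EV20 Q hQ (by rw [hcard]; omega) d s hd hs e P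
  -- the tensor decomposition `2 ⊗ 6` into alternating forms
  have hsp : ∀ (e : Fin 12 ≃ Fin 2 × Fin 6) (P : GL (Fin 12) F)
      (f₁ : (Fin 2 → F) → (Fin 2 → F) → F) (f₂ : (Fin 6 → F) → (Fin 6 → F) → F),
      IsSymplecticForm f₁ → IsSymplecticForm f₂ →
      IsTensorFormStructure id (QuadraticMap.polar Q) f₁ f₂ e P →
      (∀ (x₁ : Fin 2 → F) (x₂ : Fin 6 → F),
        Q ((P : Matrix (Fin 12) (Fin 12) F) *ᵥ ((fun a : Fin 2 × Fin 6 => x₁ a.1 * x₂ a.2) ∘ e)) = 0) →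
      H ≤ tensorProductSubgroup 2 6 e P → Goal Q H := by
    intro e P f₁ f₂ hf₁ hf₂ hten hpure hHT
    by_cases hq3 : 3 ≤ Fintype.card F
    · exact Goal.of_clsTensor ⟨hq3, e, P, f₁, f₂, hf₁, hf₂, hten, hpure,
        hglue _ hHT (hEV20 2 6 (by norm_num) (by norm_num) e P)⟩
    · have hq2 : Fintype.card F = 2 := by omega
      obtain ⟨K, hK, hle⟩ := Cfsg.Agent.Lib.Helper10_OrthEven_PL11.PL11 hq2 6 (by norm_num) e P
      exact Goal.of_clsK2 ⟨K, hK, hglue _ (hHT.trans hle) (hEV7 2 le_rfl K hK)⟩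
  -- the tensor decomposition `6 ⊗ 2` into symmetric forms
  have hsym : ∀ (e : Fin 12 ≃ Fin 6 × Fin 2) (P : GL (Fin 12) F)
      (f₁ : (Fin 6 → F) → (Fin 6 → F) → F) (f₂ : (Fin 2 → F) → (Fin 2 → F) → F), (2 : F) ≠ 0 →
      IsSymmetricForm f₁ → IsSymmetricForm f₂ →
      IsTensorFormStructure id (QuadraticMap.polar Q) f₁ f₂ e P →
      H ≤ tensorProductSubgroup 6 2 e P → Goal Q H := by
    intro e P f₁ f₂ h2F hf₁ hf₂ hten hHT
    by_cases hp2 : IsPlusTypeOn (fun v : Fin 2 → F => f₂ v v) ⊤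
    · obtain ⟨D, hD, hts, hle⟩ := Cfsg.Agent.Lib.Helper34_OrthEven_EV49.EV49 Q hQ h2F 6 (by norm_num) e P
        f₁ f₂ hf₁ hf₂ hten hp2
      have hHD : H ≤ decompositionStabilizer D := (le_inf hHT hHI).trans hle
      exact Goal.of_clsTSPair ⟨D, hD, hts, hglue _ hHD (hEV16 2 6 D hD)⟩
    · obtain ⟨K, hK, hKadj, hnsa, hsim, hle⟩ := Cfsg.Agent.Lib.Helper34_OrthEven_EV26.EV26 Q hQ h2F 6
        (by norm_num) e P f₁ f₂ hf₁ hf₂ hten hp2
      have hHK : H ≤ subalgebraNormalizer K := (le_inf hHT hHI).trans hle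
      exact Goal.of_clsK2U ⟨K, hK, hKadj, hnsa, hsim, hglue _ hHK (hEV7 2 le_rfl K hK)⟩
  rcases irreducible_cases_ts 12 (by omega) Q hQ H hH hirr with
    ⟨t, k, D, htk, ht2, hk0, hD, hOD, hHD⟩ | ⟨k, D, hD, hts, -, hHD⟩ | ⟨r, K, hr, hr12, hK, hKadj, hHeq⟩ |
    ⟨N, d, s, e, P, hNH, hnorm, hNZ, hmin, hA, hAadj, hT, hd2, hs2, hds⟩ | ⟨⟨j, hj⟩, -⟩ |
    ⟨N, k, S, hNI, hspan, hk, hSN, hSnorm, hSZ, hcomm, hsup, d, hd2, hdk⟩ |
    ⟨F₁, r, P', ζ, hrp, hcF, hζ, hrat, hHeq⟩ | hres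
  · exact hdecomp hirr t k D htk ht2 hOD hHD
  · -- a pair of totally singular subspaces
    have hk6 : k = 6 := by
      have h := Cfsg.Agent.Lib.Helper98_Decomp.card_eq hD
      omega
    subst hk6
    exact Goal.of_clsTSPair ⟨D, hD, hts, hglue _ hHD (hEV16 2 6 D hD)⟩
  · have hr23 : r = 2 ∨ r = 3 := by
      have h1 : r ∣ 2 ^ 2 * 3 := by simpa using hr12
      rcases (Nat.Prime.dvd_mul hr).mp h1 with h | h
      · left
        exact (Nat.prime_dvd_prime_iff_eq hr Nat.prime_two).mp (hr.dvd_of_dvd_pow h)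
      · right
        exact (Nat.prime_dvd_prime_iff_eq hr Nat.prime_three).mp h
    rcases hr23 with rfl | rfl
    · exact Goal.of_clsK2 ⟨K, hK, hHeq⟩
    · exact Goal.of_clsK3 ⟨K, hK, hHeq⟩
  · -- tensor algebra
    by_cases hev : Even d ∧ Even s
    · -- both factors of even dimension: `(d, s) = (2, 6)` or `(6, 2)`
      have hd26 : (d = 2 ∧ s = 6) ∨ (d = 6 ∧ s = 2) := by
        obtain ⟨⟨a, ha⟩, ⟨b, hb⟩⟩ := hev
        have hd12 : d ≤ 12 := Nat.le_of_dvd (by norm_num) ⟨s, hds.symm⟩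
        interval_cases d <;> omega
      have key : ∃ (f₁ : (Fin d → F) → (Fin d → F) → F) (f₂ : (Fin s → F) → (Fin s → F) → F),
          IsTensorFormStructure id (QuadraticMap.polar Q) f₁ f₂ e P ∧ H ≤ tensorProductSubgroup d s e P ∧
          ((IsSymplecticForm f₁ ∧ IsSymplecticForm f₂ ∧
              ∀ (x₁ : Fin d → F) (x₂ : Fin s → F),
                Q ((P : Matrix (Fin 12) (Fin 12) F) *ᵥ ((fun a : Fin d × Fin s => x₁ a.1 * x₂ a.2) ∘ e)) = 0) ∨
           ((2 : F) ≠ 0 ∧ IsSymmetricForm f₁ ∧ IsSymmetricForm f₂)) := by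
        by_cases h2F : (2 : F) = 0
        · obtain ⟨f₁, f₂, hten, hHT, h1, h2, h3⟩ := Cfsg.Agent.Lib.Helper7_OrthEven_PL9b.PL9b Q hQ h2F H hHI hirr
            (spanAlg N) hA hAadj d s e P hT hev.1 hev.2 (by omega) (by omega)
          exact ⟨f₁, f₂, hten, hHT, Or.inl ⟨h1, h2, h3⟩⟩
        · obtain ⟨f₁, f₂, hten, hHT, h⟩ := Cfsg.Agent.Lib.Helper7_OrthEven_PL9a.PL9a Q hQ h2F H hHI hirr
            (spanAlg N) hA hAadj d s e P hT hev.1 hev.2 (by omega) (by omega)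
          exact ⟨f₁, f₂, hten, hHT, h.imp id (fun h => ⟨h2F, h⟩)⟩
      obtain ⟨f₁, f₂, hten, hHT, hcase⟩ := key
      rcases hd26 with ⟨rfl, rfl⟩ | ⟨rfl, rfl⟩
      · rcases hcase with ⟨h1, h2, hpure⟩ | ⟨h2F, h1, h2⟩
        · exact hsp e P f₁ f₂ h1 h2 hten hpure hHT
        · obtain ⟨hten', htps, -⟩ := Cfsg.Agent.Lib.Helper85_OrthEven_PL14.PL14 (QuadraticMap.polar Q) 2 6 e P
            f₁ f₂ hten
          exact hsym _ P f₂ f₁ h2F h2 h1 hten' (htps ▸ hHT)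
      · rcases hcase with ⟨h1, h2, hpure⟩ | ⟨h2F, h1, h2⟩
        · obtain ⟨hten', htps, hcomp⟩ := Cfsg.Agent.Lib.Helper85_OrthEven_PL14.PL14 (QuadraticMap.polar Q) 6 2
            e P f₁ f₂ hten
          refine hsp _ P f₂ f₁ h2 h1 hten' ?_ (htps ▸ hHT)
          intro y₁ y₂
          rw [hcomp y₂ y₁]
          exact hpure y₂ y₁
        · exact hsym e P f₁ f₂ h2F h1 h2 hten hHT
    -- an odd factor
    have hodd : Odd d ∨ Odd s := by
      by_contra h
      push Not at h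
      exact hev ⟨Nat.not_odd_iff_even.mp h.1, Nat.not_odd_iff_even.mp h.2⟩
    obtain ⟨h2F, n₁, n₂, e', P', f₁, f₂, hns, hn₁, hf₁, hf₂, hten, hHT⟩ :=
      Cfsg.Agent.Lib.Helper82_OrthEven_EV17.EV17 Q hQ H hHI hirr (spanAlg N) hA hAadj d s e P hT
        (by omega) (by omega) hodd
    have hnn : n₁ * n₂ = 12 := by
      rcases hns with ⟨rfl, rfl⟩ | ⟨rfl, rfl⟩
      · exact hds
      · rw [mul_comm]; exact hds
    have hn₁2 : 2 ≤ n₁ ∧ 2 ≤ n₂ := by
      rcases hns with ⟨rfl, rfl⟩ | ⟨rfl, rfl⟩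
      · exact ⟨hd2, hs2⟩
      · exact ⟨hs2, hd2⟩
    have hn34 : n₁ = 3 ∧ n₂ = 4 := by
      have h12 : n₁ ≤ 12 := Nat.le_of_dvd (by norm_num) ⟨n₂, hnn.symm⟩
      obtain ⟨j, hj⟩ := hn₁
      have hj5 : j ≤ 5 := by omega
      subst hj
      interval_cases j <;> omega
    obtain ⟨rfl, rfl⟩ := hn34
    by_cases hq3 : Fintype.card F = 3
    · obtain ⟨D, hOD, hHD⟩ := Cfsg.Agent.Lib.Helper71_OrthEven_EV19.EV19 hq3 Q hQ H hHI hirr 4 e' P' f₁ f₂
        hf₁ hf₂ hten hHT (by norm_num)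
      exact hdecomp hirr 3 4 D (by norm_num) (by norm_num) hOD hHD
    · have hp2 := Cfsg.Agent.Lib.Helper51_OrthEven_PL12.PL12 Q hQ h2F 3 4 (by decide) (by decide) e' P' f₁ f₂
        hf₁ hf₂ hten hplus
      obtain ⟨e'', P'', g₁, g₂, hg₁, hg₂, hten', hpure, hHT'⟩ := Cfsg.Agent.Lib.Helper51_OrthEven_PL13b.PL13b Q hQ h2F H hHΩ 3 6 (by decide)
        (by norm_num) e' P' f₁ f₂ hf₁ hf₂ hten hp2 hHT
      exact hsp e'' P'' g₁ g₂ hg₁ hg₂ hten' hpure hHT'
  · exfalso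
    have hj4 : j < 4 := by
      by_contra h
      push Not at h
      have : 2 ^ 4 ≤ 2 ^ j := Nat.pow_le_pow_right (by norm_num) h
      omega
    interval_cases j <;> omega
  · exfalso
    have h2k : d ^ 2 ∣ d ^ k := pow_dvd_pow d hk
    rw [← hdk] at h2k
    have hle : d ^ 2 ≤ 12 := Nat.le_of_dvd (by norm_num) h2k
    have hd3 : d ≤ 3 := by nlinarith
    interval_cases d
    · have hk4 : k < 4 := by
        by_contra h
        push Not at h
        have : 2 ^ 4 ≤ 2 ^ k := Nat.pow_le_pow_right (by norm_num) h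
        omega
      interval_cases k <;> omega
    · norm_num at h2k
  · exact Goal.of_clsSubfield ⟨F₁, r, P', ζ, hrp, hcF, hζ, hrat, hHeq⟩
  · exact Goal.of_clsResidual hres

end Cfsg.Agent.Lib.Helper85_OrthEven_Row12p
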