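import Cfsg.Agent.Lib.Helper85_Rel8

/-!
# Extensions of index prime to `p` inside a saturated system (helper85), part 1

`F` saturated over `S`, `E` a saturated invariant subsystem over `T`, `Aut_E(T) ≤ N ≤ Aut_F(T)` with every element of `N`
having a power prime to `p` in `Aut_E(T)`.  `M = N · E`: the system over `T` of the maps `τ ∘ e` with `τ ∈ N`, `e` a map
of `E`.
-/

set_option autoImplicit false
set_option linter.style.haveILetI false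

namespace Cfsg.Agent.Lib.Helper85_PExt1

open Cfsg Cfsg.FusionSystem Cfsg.Agent.Lib
open Cfsg.Agent.Lib.Helper87_Alperin Cfsg.Agent.Lib.Helper88_Centric

variable {Ω : Type*} [Group Ω] {S T : Subgroup Ω}

/-- The system over a strongly closed subgroup `T` of the maps of `F` between subgroups of `T` whose underlying function
satisfies the predicate `G`. -/
def subsystemOn (F : FusionSystem S) (hT : F.StronglyClosed T) (G : Subgroup Ω → (Ω → Ω) → Prop)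
    (hcongr : ∀ {P : Subgroup Ω} {f g : Ω → Ω}, G P f → (∀ x ∈ P, f x = g x) → G P g)
    (hconj : ∀ {P : Subgroup Ω} {a : Ω}, P ≤ T → a ∈ T → G P (fun x => a * x * a⁻¹))
    (hcomp : ∀ {P R : Subgroup Ω} {f g : Ω → Ω}, P ≤ T → R ≤ T → IsMapOn F P f → G P f → IsMapOn F R g →
      G R g → (∀ x ∈ P, f x ∈ R) → G P (g ∘ f))
    (hinv : ∀ {P P' : Subgroup Ω} {f g : Ω → Ω}, P ≤ T → P' ≤ T → IsMapOn F P f → G P f → IsImage P f P' →
      IsMapOn F P' g → (∀ x ∈ P, g (f x) = x) → G P' g) : FusionSystem T where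
  Hom P := {φ | φ ∈ F.Hom P ∧ P ≤ T ∧ G P (extHom φ)}
  le_of_mem {P φ} h := ⟨h.2.1, fun x => hT.2 P h.2.1 φ h.1 x⟩
  injective_of_mem h := F.injective_of_mem h.1
  conj_mem {P g} hP hg := by
    refine ⟨F.conj_mem (hP.trans hT.1) (hT.1 hg), hP, hcongr (hconj hP hg) (fun x hx => ?_)⟩
    rw [extHom_apply _ hx]
    rfl
  comp_mem {P Q φ ψ} hφ hψ h := by
    refine ⟨F.comp_mem hφ.1 hψ.1 h, hφ.2.1, ?_⟩
    refine hcongr (hcomp hφ.2.1 hψ.2.1 (isMapOn_extHom F hφ.1) hφ.2.2 (isMapOn_extHom F hψ.1) hψ.2.2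
      (fun x hx => ?_)) (fun x hx => ?_)
    · rw [extHom_apply _ hx]
      exact h ⟨x, hx⟩
    · rw [extHom_apply _ hx, Function.comp_apply, extHom_apply _ hx, extHom_apply _ (h ⟨x, hx⟩)]
      rfl
  inv_mem {P φ} hφ := by
    obtain ⟨ψ, hψ, hψφ⟩ := F.inv_mem hφ.1
    have hrT : φ.range ≤ T := by
      rintro _ ⟨x, rfl⟩
      exact hT.2 P hφ.2.1 φ hφ.1 x
    refine ⟨ψ, ⟨hψ, hrT, hinv hφ.2.1 hrT (isMapOn_extHom F hφ.1) hφ.2.2
      (Helper88_Essential.isImage_extHom_range φ) (isMapOn_extHom F hψ) (fun x hx => ?_)⟩, hψφ⟩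
    rw [extHom_apply _ hx, extHom_apply ψ ⟨⟨x, hx⟩, rfl⟩]
    exact hψφ ⟨x, hx⟩

variable {F : FusionSystem S} {E : FusionSystem T} {p : ℕ} {N : Subgroup (MulAut T)}

/-- The standing hypotheses. -/
structure PSetup (p : ℕ) (F : FusionSystem S) (E : FusionSystem T) (N : Subgroup (MulAut T)) : Prop where
  hS : IsPGroup p S
  hF : F.IsSaturated p
  hE : E.IsSaturated p
  hEF : E.IsInvariantIn F
  le : N ≤ F.autGroup T
  autE : E.autGroup T ≤ N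
  pprime : ∀ γ ∈ N, ∃ m : ℕ, m.Coprime p ∧ γ ^ m ∈ E.autGroup T

theorem PSetup.hT (h : PSetup p F E N) : F.StronglyClosed T := h.hEF.2.1

theorem PSetup.hTS (h : PSetup p F E N) : T ≤ S := h.hEF.2.1.1

/-- `f` on `P` is `τ ∘ (map of E)` with `τ ∈ N`. -/
def NTriv (E : FusionSystem T) (N : Subgroup (MulAut T)) (P : Subgroup Ω) (f : Ω → Ω) : Prop :=
  ∃ τ ∈ N, IsMapOn E P (extFun τ⁻¹ ∘ f)

theorem ntriv_congr {P : Subgroup Ω} {f g : Ω → Ω} (h : NTriv E N P f) (hfg : ∀ x ∈ P, f x = g x) :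
    NTriv E N P g := by
  obtain ⟨τ, hτ, h⟩ := h
  refine ⟨τ, hτ, h.congr fun x hx => ?_⟩
  simp only [Function.comp_apply]
  rw [hfg x hx]

theorem ntriv_of_isMapOn {P : Subgroup Ω} {f : Ω → Ω} (hf : IsMapOn E P f) : NTriv E N P f := by
  refine ⟨1, N.one_mem, hf.congr fun x hx => ?_⟩
  simp only [Function.comp_apply]
  rw [inv_one, Helper88_AutInv.extFun_one_apply (hf.mem hx)]

theorem ntriv_conj {P : Subgroup Ω} {t : Ω} (hP : P ≤ T) (ht : t ∈ T) :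
    NTriv E N P (fun x => t * x * t⁻¹) := ntriv_of_isMapOn (IsMapOn.conj E hP ht)

/-- Composition multiplies the witnesses. -/
theorem witness_comp (h : PSetup p F E N) {P R : Subgroup Ω} {f g : Ω → Ω} {τ₁ τ₂ : MulAut T}
    (hτ₁ : τ₁ ∈ N) (hP : P ≤ T) (hR : R ≤ T) (hf : IsMapOn F P f) (hg : IsMapOn F R g)
    (hf₁ : IsMapOn E P (extFun τ₁⁻¹ ∘ f)) (hg₂ : IsMapOn E R (extFun τ₂⁻¹ ∘ g))
    (hfR : ∀ x ∈ P, f x ∈ R) : IsMapOn E P (extFun (τ₂ * τ₁)⁻¹ ∘ (g ∘ f)) := by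
  have hτ₁i : τ₁⁻¹ ∈ F.autGroup T := (F.autGroup T).inv_mem (h.le hτ₁)
  obtain ⟨R'', hR'', -⟩ := exists_isImage (((mem_autGroup_iff F h.hTS _).1 hτ₁i).mono hR)
  have hg₂' := Helper88_Invariant.isMapOn_transport h.hEF hτ₁i hg₂ hR''
  rw [inv_inv] at hg₂'
  refine (hf₁.comp hg₂' ?_).congr ?_
  · intro x hx
    exact hR''.mem (hfR x hx)
  · intro x hx
    have hfx : f x ∈ T := hR (hfR x hx)
    have hgfx : g (f x) ∈ T := Helper87_ModT.IsMapOn.mem_stronglyClosed h.hT hg (hfR x hx) hfx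
    simp only [Function.comp_apply]
    rw [extFun_apply_inv τ₁ hfx, mul_inv_rev, extFun_mul _ _ hgfx]

theorem ntriv_comp (h : PSetup p F E N) {P R : Subgroup Ω} {f g : Ω → Ω} (hP : P ≤ T) (hR : R ≤ T)
    (hf : IsMapOn F P f) (hGf : NTriv E N P f) (hg : IsMapOn F R g) (hGg : NTriv E N R g)
    (hfR : ∀ x ∈ P, f x ∈ R) : NTriv E N P (g ∘ f) := by
  obtain ⟨τ₁, hτ₁, hf₁⟩ := hGf
  obtain ⟨τ₂, hτ₂, hg₂⟩ := hGg
  exact ⟨τ₂ * τ₁, N.mul_mem hτ₂ hτ₁, witness_comp h hτ₁ hP hR hf hg hf₁ hg₂ hfR⟩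

theorem ntriv_inv (h : PSetup p F E N) {P P' : Subgroup Ω} {f g : Ω → Ω} (hP : P ≤ T) (hP' : P' ≤ T)
    (hf : IsMapOn F P f) (hGf : NTriv E N P f) (himg : IsImage P f P') (_ : IsMapOn F P' g)
    (hgf : ∀ x ∈ P, g (f x) = x) : NTriv E N P' g := by
  obtain ⟨τ, hτ, hf₁⟩ := hGf
  have hτF : τ ∈ F.autGroup T := h.le hτ
  obtain ⟨P₁, hP₁, -⟩ := exists_isImage hf₁
  obtain ⟨k, hk, hk1, -, -⟩ := hf₁.inv hP₁
  have hP₁T : P₁ ≤ T := hk.le
  obtain ⟨P₁', hP₁', -⟩ := exists_isImage (((mem_autGroup_iff F h.hTS _).1 hτF).mono hP₁T)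
  have hk' := Helper88_Invariant.isMapOn_transport h.hEF hτF hk hP₁'
  have hle : P' ≤ P₁' := by
    intro y hy
    obtain ⟨x, hx, rfl⟩ := (himg y).1 hy
    refine (hP₁' _).2 ⟨(extFun τ⁻¹ ∘ f) x, hP₁.mem hx, ?_⟩
    simp only [Function.comp_apply]
    exact extFun_apply_inv τ (hP' hy)
  refine ⟨τ⁻¹, N.inv_mem hτ, (hk'.mono hle).congr fun y hy => ?_⟩
  obtain ⟨x, hx, rfl⟩ := (himg y).1 hy
  have h1 := hk1 x hx
  simp only [Function.comp_apply] at h1 ⊢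
  rw [h1, hgf x hx, inv_inv]

/-- The system `M = N · E` over `T`. -/
def M (h : PSetup p F E N) : FusionSystem T :=
  subsystemOn F h.hT (NTriv E N) ntriv_congr ntriv_conj (ntriv_comp h) (ntriv_inv h)

theorem isMapOn_M_iff (h : PSetup p F E N) {P : Subgroup Ω} {f : Ω → Ω} :
    IsMapOn (M h) P f ↔ IsMapOn F P f ∧ P ≤ T ∧ NTriv E N P f := by
  constructor
  · rintro ⟨φ, hφ, hφf⟩
    refine ⟨⟨φ, hφ.1, hφf⟩, hφ.2.1, ntriv_congr hφ.2.2 fun x hx => ?_⟩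
    rw [extHom_apply φ hx, hφf]
  · rintro ⟨⟨φ, hφ, hφf⟩, hP, hG⟩
    refine ⟨φ, ⟨hφ, hP, ntriv_congr hG fun x hx => ?_⟩, hφf⟩
    rw [extHom_apply φ hx, hφf]

theorem isMapOn_F_of_M (h : PSetup p F E N) {P : Subgroup Ω} {f : Ω → Ω} (hf : IsMapOn (M h) P f) :
    IsMapOn F P f := ((isMapOn_M_iff h).1 hf).1

theorem M_le_F (h : PSetup p F E N) : (M h).IsSubsystemOf F := fun _ _ hφ => hφ.1

theorem isMapOn_M_of_E (h : PSetup p F E N) {P : Subgroup Ω} {f : Ω → Ω} (hf : IsMapOn E P f) :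
    IsMapOn (M h) P f :=
  (isMapOn_M_iff h).2 ⟨Helper85_Transport2.isMapOn_of_isSubsystemOf h.hEF.1 hf, hf.le,
    ntriv_of_isMapOn hf⟩

theorem E_le_M (h : PSetup p F E N) : E ≤ M h := by
  intro P φ hφ
  rw [mem_hom_iff_isMapOn]
  exact isMapOn_M_of_E h (isMapOn_extHom E hφ)

/-- Elements of `N` are maps of `M` on every subgroup of `T`. -/
theorem isMapOn_M_of_mem (h : PSetup p F E N) {τ : MulAut T} (hτ : τ ∈ N) {P : Subgroup Ω} (hP : P ≤ T) :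
    IsMapOn (M h) P (extFun τ) := by
  refine (isMapOn_M_iff h).2 ⟨((mem_autGroup_iff F h.hTS τ).1 (h.le hτ)).mono hP, hP, τ, hτ, ?_⟩
  refine (IsMapOn.id E hP).congr fun x hx => ?_
  simp only [Function.comp_apply]
  rw [extFun_inv_apply τ (hP hx)]

end Cfsg.Agent.Lib.Helper85_PExt1
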