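import Cfsg.Agent.Lib.Helper85_PExt1

/-!
# Extensions of index prime to `p` inside a saturated system (helper85), part 2: `p`-elements of `M` lie in `E`;
uniqueness of the `N`-factor on `E`-centric subgroups
-/

set_option autoImplicit false
set_option linter.style.haveILetI false

namespace Cfsg.Agent.Lib.Helper85_PExt2

open Cfsg Cfsg.FusionSystem Cfsg.Agent.Lib
open Cfsg.Agent.Lib.Helper87_Alperin Cfsg.Agent.Lib.Helper88_Centric Cfsg.Agent.Lib.Helper85_Rel1
  Cfsg.Agent.Lib.Helper85_Rel2 Cfsg.Agent.Lib.Helper85_PExt1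

variable {Ω : Type*} [Group Ω] {S T : Subgroup Ω} {F : FusionSystem S} {E : FusionSystem T} {p : ℕ}
  {N : Subgroup (MulAut T)}

/-- Powers multiply the witnesses. -/
theorem pow_witness (h : PSetup p F E N) {Q : Subgroup Ω} (hQ : Q ≤ T) {β : MulAut Q}
    (hβ : β ∈ F.autGroup Q) {τ : MulAut T} (hτ : τ ∈ N)
    (h1 : IsMapOn E Q (extFun τ⁻¹ ∘ extFun β)) :
    ∀ j : ℕ, IsMapOn E Q (extFun (τ ^ j)⁻¹ ∘ extFun (β ^ j)) := by
  have hQS : Q ≤ S := hQ.trans h.hTS
  have hβF : IsMapOn F Q (extFun β) := (mem_autGroup_iff F hQS β).1 hβ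
  intro j
  induction j with
  | zero =>
    refine (IsMapOn.id E hQ).congr fun x hx => ?_
    simp only [Function.comp_apply, pow_zero, inv_one]
    rw [Helper88_AutInv.extFun_one_apply hx, Helper88_AutInv.extFun_one_apply (hQ hx)]
  | succ j ih =>
    have hβj : IsMapOn F Q (extFun (β ^ j)) :=
      (mem_autGroup_iff F hQS _).1 ((F.autGroup Q).pow_mem hβ j)
    have h2 := witness_comp h hτ hQ hQ hβF hβj h1 ih (fun x hx => extFun_mem β hx)
    refine h2.congr fun x hx => ?_
    simp only [Function.comp_apply]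
    rw [pow_succ, pow_succ, extFun_mul _ _ hx]

/-- The `p`-elements of `Aut_M(Q)` lie in `Aut_E(Q)`. -/
theorem pelt_mem (h : PSetup p F E N) {Q : Subgroup Ω} (hQ : Q ≤ T) {β : MulAut Q}
    (hβ : IsMapOn (M h) Q (extFun β)) {k : ℕ} (hk : β ^ (p ^ k) = 1) : β ∈ E.autGroup Q := by
  have hQS : Q ≤ S := hQ.trans h.hTS
  obtain ⟨hβF, -, τ, hτ, h1⟩ := (isMapOn_M_iff h).1 hβ
  have hβF' : β ∈ F.autGroup Q := (mem_autGroup_iff F hQS β).2 hβF
  obtain ⟨m, hm, hτm⟩ := h.pprime τ hτ
  have h2 := pow_witness h hQ hβF' hτ h1 m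
  have hτmE : IsMapOn E T (extFun (τ ^ m)) := (mem_autGroup_iff E le_rfl _).1 hτm
  have h3 : IsMapOn E Q (extFun (β ^ m)) := by
    refine (h2.comp hτmE (fun x hx => h2.mem hx)).congr fun x hx => ?_
    simp only [Function.comp_apply]
    rw [extFun_apply_inv (τ ^ m) (hQ (extFun_mem _ hx))]
  have h4 : β ^ m ∈ E.autGroup Q := (mem_autGroup_iff E hQ _).2 h3
  have hcop : m.Coprime (orderOf β) :=
    Nat.Coprime.coprime_dvd_right (orderOf_dvd_of_pow_eq_one hk) (Nat.Coprime.pow_right k hm)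
  obtain ⟨j, hj⟩ := exists_pow_eq_self_of_coprime hcop
  rw [← hj]
  exact (E.autGroup Q).pow_mem h4 j

/-- **Uniqueness**: an element of `N` whose restriction to an `E`-centric subgroup is a map of `E` lies in `Aut_E(T)`. -/
theorem uniq [Finite S] [Fact p.Prime] (h : PSetup p F E N) :
    ∀ (n : ℕ) (R : Subgroup Ω), Nat.card T - Nat.card R = n → E.IsCentric R →
      ∀ γ ∈ N, IsMapOn E R (extFun γ) → γ ∈ E.autGroup T := by
  intro n
  induction n using Nat.strong_induction_on with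
  | _ n ih =>
  intro R hn hRc γ hγN hγR
  have hS := h.hS
  have hF := h.hF
  have hE := h.hE
  have hEF := h.hEF
  have hγ : γ ∈ F.autGroup T := h.le hγN
  have hT : F.StronglyClosed T := hEF.2.1
  have hTS : T ≤ S := hT.1
  haveI hfinT : Finite T := Helper84_FusionRS.finite_of_le_S hTS
  have hTp : IsPGroup p T := hS.to_le hTS
  have hRT : R ≤ T := hRc.1
  have hEsub : E.IsSubsystemOf F := hEF.1
  by_cases hReq : R = T
  · subst hReq
    exact (mem_autGroup_iff E le_rfl γ).2 hγR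
  · have hRlt : R < normalizerIn T R := lt_normalizerIn (S := T) hTp hRT hReq
    have hR1T : normalizerIn T R ≤ T := normalizerIn_le T R
    haveI hfinR1 : Finite (normalizerIn T R) :=
      Finite.of_injective (Subgroup.inclusion hR1T) (Subgroup.inclusion_injective hR1T)
    haveI hfinR : Finite R :=
      Finite.of_injective (Subgroup.inclusion hRT) (Subgroup.inclusion_injective hRT)
    have hf : IsMapOn F T (extFun γ) := (mem_autGroup_iff F hTS γ).1 hγ
    have hfR1 : IsMapOn F (normalizerIn T R) (extFun γ) := hf.mono hR1T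
    obtain ⟨R', hR', hRR'⟩ := exists_isImage hγR
    have hR'T : R' ≤ T := hR'.le hγR
    obtain ⟨Rs, ⟨φ, hφ, hφr⟩, hfa, hrec⟩ := hE R' hR'T
    obtain ⟨α, hα, a, ha, haφ⟩ := exists_extension E hTp hfa hrec hφ hφr
    have hRsT : Rs ≤ T := hfa.1
    have hRsc : E.IsCentric Rs :=
      isCentric_of_isConj (isCentric_of_isConj hRc hRR') ⟨φ, hφ, hφr⟩
    have haR' : ∀ x ∈ R', a x ∈ Rs := by
      intro x hx
      rw [haφ ⟨x, hx⟩]
      exact extFun_mem α (hφr.le ⟨⟨x, hx⟩, rfl⟩)
    have hR'N : R' ≤ normalizerIn T R' := le_normalizerIn hR'T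
    have hfN : ∀ g ∈ normalizerIn T R, extFun γ g ∈ normalizerIn T R' := by
      intro g hg
      refine Subgroup.mem_inf.2 ⟨extFun_mem γ (hR1T hg), ?_⟩
      exact map_mem_normalizer hfR1 hRlt.le hR' hg (normalizerIn_le_normalizer T R hg)
    have haF : IsMapOn F (normalizerIn T R') a :=
      Helper85_Transport2.isMapOn_of_isSubsystemOf hEsub ha
    have haf : IsMapOn F (normalizerIn T R) (a ∘ extFun γ) := hfR1.comp haF hfN
    have haf' : IsMapOn E R (a ∘ extFun γ) := hγR.comp ha (fun x hx => hR'N (hR'.mem hx))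
    have himgT : IsImage R (a ∘ extFun γ) Rs := by
      intro t
      constructor
      · intro ht
        have ht' : extFun α⁻¹ t ∈ Rs := extFun_mem _ ht
        obtain ⟨x, hx⟩ := hφr.ge ht'
        obtain ⟨w, hw, hwx⟩ := (hR' x).1 x.2
        refine ⟨w, hw, ?_⟩
        show a (extFun γ w) = t
        have h1 := haφ x
        rw [hx, extFun_apply_inv α ht] at h1
        rw [hwx]
        exact h1
      · rintro ⟨w, hw, rfl⟩
        exact haR' _ (hR'.mem hw)
    obtain ⟨ψ₀, hψ₀, hψ₀f⟩ := haf'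
    have hψ₀r : ψ₀.range = Rs := by
      ext t
      rw [himgT t]
      constructor
      · rintro ⟨x, rfl⟩
        exact ⟨x, x.2, (hψ₀f x).symm⟩
      · rintro ⟨x, hx, rfl⟩
        exact ⟨⟨x, hx⟩, hψ₀f _⟩
    obtain ⟨ψ, hψ, hψext⟩ := hrec.2 R ψ₀ hψ₀ hψ₀r
    have hR1ext : normalizerIn T R ≤ extender T R ψ₀ := by
      intro g hg
      apply Subgroup.subset_closure
      refine ⟨hR1T hg, normalizerIn_le_normalizer T R hg, a (extFun γ g), ?_, ?_⟩
      · exact ha.mem (hfN g hg)
      intro x hx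
      rw [hψ₀f, hψ₀f]
      show a (extFun γ (g * (x : Ω) * g⁻¹)) = a (extFun γ g) * a (extFun γ (x : Ω)) * (a (extFun γ g))⁻¹
      have hxR1 : (x : Ω) ∈ normalizerIn T R := hRlt.le x.2
      have e1 := haf.map_mul (Subgroup.mul_mem _ hg hxR1) (Subgroup.inv_mem _ hg)
      have e2 := haf.map_mul hg hxR1
      have e3 := haf.map_inv hg
      simp only [Function.comp_apply] at e1 e2 e3
      rw [e1, e2, e3]
    have hb : IsMapOn E (normalizerIn T R) (extHom ψ) := (isMapOn_extHom E hψ).mono hR1ext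
    have hbF : IsMapOn F (normalizerIn T R) (extHom ψ) :=
      Helper85_Transport2.isMapOn_of_isSubsystemOf hEsub hb
    have hbR : ∀ x ∈ R, extHom ψ x = (a ∘ extFun γ) x := by
      intro x hx
      rw [extHom_apply ψ (hR1ext (hRlt.le hx)), hψext x hx, hψ₀f]
    -- the two maps `b = extHom ψ` and `c = a ∘ γ` on `R1` differ by elements of `Rs`
    have hdiff : ∀ g ∈ normalizerIn T R, ∃ x ∈ R, (a ∘ extFun γ) g = extHom ψ (g * x) := by
      intro g hg
      have hz : (extHom ψ g)⁻¹ * (a ∘ extFun γ) g ∈ centralizerIn T Rs := by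
        rw [mem_centralizerIn_iff]
        refine ⟨T.mul_mem (T.inv_mem (hb.mem hg)) (ha.mem (hfN g hg)), fun y hy => ?_⟩
        obtain ⟨x, hx, rfl⟩ := (himgT y).1 hy
        have hxR1 : x ∈ normalizerIn T R := hRlt.le hx
        have hgx : g * x * g⁻¹ ∈ R := conj_mem_of_mem_normalizerIn hg hx
        have e0 := hbR _ hgx
        rw [hbF.map_mul (Subgroup.mul_mem _ hg hxR1) (Subgroup.inv_mem _ hg), hbF.map_mul hg hxR1,
          hbF.map_inv hg, haf.map_mul (Subgroup.mul_mem _ hg hxR1) (Subgroup.inv_mem _ hg),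
          haf.map_mul hg hxR1, haf.map_inv hg, hbR x hx] at e0
        -- e0 : b g * c x * (b g)⁻¹ = c g * c x * (c g)⁻¹
        have e1 : (a ∘ extFun γ) x * ((extHom ψ g)⁻¹ * (a ∘ extFun γ) g) =
            (extHom ψ g)⁻¹ * (extHom ψ g * (a ∘ extFun γ) x * (extHom ψ g)⁻¹) * (a ∘ extFun γ) g := by
          group
        rw [e1, e0]
        group
      have hzRs := hRsc.2 Rs (Helper88_Centric.isConj_refl E hRsT) hz
      obtain ⟨x, hx, hxz⟩ := (himgT _).1 hzRs
      refine ⟨x, hx, ?_⟩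
      rw [hbF.map_mul hg (hRlt.le hx), hbR x hx, hxz]
      group
    obtain ⟨R1s, hR1s, -⟩ := exists_isImage hb
    obtain ⟨k, hk, hk1, hk2, hk3⟩ := hb.inv hR1s
    have hkF : IsMapOn F R1s k := Helper85_Transport2.isMapOn_of_isSubsystemOf hEsub hk
    have hcR1s : ∀ g ∈ normalizerIn T R, (a ∘ extFun γ) g ∈ R1s := by
      intro g hg
      obtain ⟨x, hx, hgx⟩ := hdiff g hg
      rw [hgx]
      exact hR1s.mem (Subgroup.mul_mem _ hg (hRlt.le hx))
    have hβf : IsMapOn F (normalizerIn T R) (k ∘ (a ∘ extFun γ)) := haf.comp hkF hcR1s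
    have hβmem : ∀ g ∈ normalizerIn T R, (k ∘ (a ∘ extFun γ)) g ∈ normalizerIn T R :=
      fun g hg => hk2 _ (hcR1s g hg)
    obtain ⟨βh, hβh, hβhx⟩ := Cfsg.Agent.S5111.exists_aut_of_isMapOn hβf hβmem
    have hβshift : ∀ g ∈ normalizerIn T R, ∃ x ∈ R, (k ∘ (a ∘ extFun γ)) g = g * x := by
      intro g hg
      obtain ⟨x, hx, hgx⟩ := hdiff g hg
      refine ⟨x, hx, ?_⟩
      show k ((a ∘ extFun γ) g) = g * x
      rw [hgx, hk1 _ (Subgroup.mul_mem _ hg (hRlt.le hx))]
    have hβfix : ∀ x ∈ R, (k ∘ (a ∘ extFun γ)) x = x := by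
      intro x hx
      show k ((a ∘ extFun γ) x) = x
      rw [← hbR x hx, hk1 _ (hRlt.le hx)]
    -- `βh` is a `p`-element
    obtain ⟨m, hm⟩ := IsPGroup.exists_card_eq (hTp.to_le hRT)
    have hβpow : βh ^ (p ^ m) = 1 := by
      rw [← hm]
      apply pow_eq_one_of_shift hRlt.le βh
      · intro x hx
        apply Subtype.ext
        rw [hβhx]
        exact hβfix x hx
      · intro g
        obtain ⟨x, hx, hgx⟩ := hβshift g g.2
        exact ⟨x, hx, by rw [hβhx]; exact hgx⟩
    have hβext : ∀ g ∈ normalizerIn T R, extFun βh g = (k ∘ (a ∘ extFun γ)) g := by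
      intro g hg
      rw [extFun_apply βh hg, hβhx]
    -- `c g = b (βh g)`
    have hcb : ∀ g ∈ normalizerIn T R, (a ∘ extFun γ) g = extHom ψ (extFun βh g) := by
      intro g hg
      rw [hβext g hg]
      exact (hk3 _ (hcR1s g hg)).symm
    -- `βh` is a map of `M`, hence of `E`
    have hβM : IsMapOn (M h) (normalizerIn T R) (extFun βh) := by
      have hγM : IsMapOn (M h) (normalizerIn T R) (extFun γ) := isMapOn_M_of_mem h hγN hR1T
      have haM := isMapOn_M_of_E h ha
      have hkM := isMapOn_M_of_E h hk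
      exact ((hγM.comp haM hfN).comp hkM hcR1s).congr fun g hg => (hβext g hg).symm
    have hβE : βh ∈ E.autGroup (normalizerIn T R) := pelt_mem h hR1T hβM hβpow
    have hβEm : IsMapOn E (normalizerIn T R) (extFun βh) := (mem_autGroup_iff E hR1T βh).1 hβE
    have hcE : IsMapOn E (normalizerIn T R) (a ∘ extFun γ) :=
      (hβEm.comp hb (fun g hg => extFun_mem βh hg)).congr fun g hg => (hcb g hg).symm
    -- the inverse of `a`
    obtain ⟨A', hA', -⟩ := exists_isImage ha
    obtain ⟨ai, hai, hai1, -, -⟩ := ha.inv hA'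
    have hγ' : IsMapOn E (normalizerIn T R) (extFun γ) :=
      (hcE.comp hai (fun g hg => hA'.mem (hfN g hg))).congr fun g hg => hai1 _ (hfN g hg)
    have hR1c : E.IsCentric (normalizerIn T R) := isCentric_of_le hRc hRlt.le hR1T
    have hcard : Nat.card T - Nat.card (normalizerIn T R) < n := by
      have h1 : Nat.card R < Nat.card (normalizerIn T R) := card_lt_of_lt hRlt
      have h2 : Nat.card (normalizerIn T R) ≤ Nat.card T := Subgroup.card_le_of_le hR1T
      omega
    exact ih _ hcard (normalizerIn T R) rfl hR1c γ hγN hγ'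

end Cfsg.Agent.Lib.Helper85_PExt2
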