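import Cfsg.Agent.Lib.Helper85_PExt2

/-!
# Extensions of index prime to `p` inside a saturated system (helper85), part 3: `M = N · E` is saturated
-/

set_option autoImplicit false
set_option linter.style.haveILetI false

namespace Cfsg.Agent.Lib.Helper85_PExt3

open Cfsg Cfsg.FusionSystem Cfsg.Agent.Lib
open Cfsg.Agent.Lib.Helper87_Alperin Cfsg.Agent.Lib.Helper88_Centric Cfsg.Agent.Lib.Helper85_Rel1
  Cfsg.Agent.Lib.Helper85_PExt1 Cfsg.Agent.Lib.Helper85_PExt2
open Cfsg.Agent.Lib.Helper85_Index (PE Good autGroup_le_normalizer_pe autInducedBy_le_closure_pe)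
open Cfsg.Agent.Lib.Helper84_RelSylow (IsSylowIn)

section
variable {Ω : Type*} [Group Ω] {S : Subgroup Ω} {F : FusionSystem S} {p : ℕ}

/-- **Generation**: a saturated system is generated by `Aut_F(S)` and the `p`-elements of the automizers of its centric
subgroups. -/
theorem le_of_good [Finite S] [Fact p.Prime] (hS : IsPGroup p S) (hF : F.IsSaturated p)
    (E' : FusionSystem S) (htop : F.autGroup S ≤ E'.autGroup S) (hgood : Good F p E') : F ≤ E' := by
  classical
  refine Helper84_FusionAlperin.alperin_induction hS F hF _ ?_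
  intro U hUn IH β hβ
  have IH' : ∀ (Q : Subgroup Ω) (f : Ω → Ω), U < Q → IsMapOn F Q f →
      IsMapOn E' Q f := by
    rintro Q f hUQ ⟨φ, hφ, hφf⟩
    exact ⟨φ, IH Q φ hUQ hφ, hφf⟩
  have hUS : U ≤ S := hUn.1
  haveI : Finite U := Helper84_FusionRS.finite_of_le_S hUS
  haveI : Finite (MulAut U) := inferInstance
  rw [Helper87_Alperin.mem_autGroup_iff _ hUS]
  have hβF : IsMapOn F U (extFun β) := (Helper87_Alperin.mem_autGroup_iff F hUS β).1 hβ
  by_cases hne : U = S
  · -- `U = S`
    subst hne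
    exact (Helper87_Alperin.mem_autGroup_iff E' hUS β).1 (htop hβ)
  have hUa : F.IsFullyAutomized p U := Helper84_FusionRS.IsSaturated.isFullyAutomized hS hF hUn
  have hUr : F.IsReceptive U :=
    Helper84_FusionRS.IsSaturated.isReceptive_of_isFullyNormalized hS hF hUn
  by_cases hcen : centralizerIn S U ≤ U
  · -- `U` is centric: the Frattini argument
    have hUc : F.IsCentric U :=
      Cfsg.Agent.S5104.result p hS F hF U (Helper84_FusionRS.IsSaturated.isFullyCentralized hS hF hUn) hcen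
    have hKA : Subgroup.closure (PE F p U) ≤ F.autGroup U := by
      rw [Subgroup.closure_le]
      intro x hx
      exact hx.1
    have hnormal := autGroup_le_normalizer_pe F p U
    have hT₀A : autInducedBy S U ≤ F.autGroup U := Helper85_Fusion.autInducedBy_le_autGroup F hUS
    have hT₀K : autInducedBy S U ≤ Subgroup.closure (PE F p U) :=
      autInducedBy_le_closure_pe hS hUS
    have hsyl : Helper85_GroupFusion.IsSylowIn p (autInducedBy S U) (F.autGroup U) := hUa.2
    have hR₀ : Helper85_GroupFusion.IsSylowIn p (autInducedBy S U ⊓ Subgroup.closure (PE F p U))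
        (Subgroup.closure (PE F p U)) := hsyl.inf_normal hT₀A hKA hnormal
    have hR₀p : IsPGroup p (autInducedBy S U ⊓ Subgroup.closure (PE F p U) :
        Subgroup (MulAut U)) :=
      (Helper84_FusionSat.isPGroup_autInducedBy hS U).to_le inf_le_left
    have hKle : Helper85_GroupFusion.conjSub β (autInducedBy S U ⊓ Subgroup.closure (PE F p U)) ≤
        Subgroup.closure (PE F p U) := by
      rintro _ ⟨r, hr, rfl⟩
      exact ((Subgroup.mem_normalizer_iff.1 (hnormal hβ)) r).1 hr.2
    obtain ⟨ε, hε, hεK⟩ := hR₀.exists_conj_le hKle (Helper85_GroupFusion.isPGroup_conjSub β hR₀p)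
    rw [Helper85_GroupFusion.conjSub_conjSub] at hεK
    have hνN : ε * β ∈ Subgroup.normalizer
        ((autInducedBy S U ⊓ Subgroup.closure (PE F p U) : Subgroup (MulAut U)) :
          Set (MulAut U)) :=
      Helper85_GroupFusion.mem_normalizer_of_conjSub_le hεK
    have hνA : ε * β ∈ F.autGroup U := Subgroup.mul_mem _ (hKA hε) hβ
    -- `ν = ε β` extends to `N_S(U)`
    have hνG : IsMapOn E' U (extFun (ε * β)) := by
      have hext : normalizerIn S U ≤ extender S U (U.subtype.comp (ε * β).toMonoidHom) := by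
        intro t ht
        have hc₁ : U.normalizerMonoidHom ⟨t, ht.2⟩ ∈ autInducedBy S U :=
          Helper84_FusionSat.normalizerMonoidHom_mem_autInducedBy ht.1 ht.2
        have h2 := ((Subgroup.mem_normalizer_iff.1 hνN) _).1 (⟨hc₁, hT₀K hc₁⟩ :
          U.normalizerMonoidHom ⟨t, ht.2⟩ ∈ autInducedBy S U ⊓ Subgroup.closure (PE F p U))
        exact Cfsg.Agent.S5119.mem_extender_of_conj_mem (ε * β) ht.1 ht.2 h2.1
      have hνhom : U.subtype.comp (ε * β).toMonoidHom ∈ F.Hom U :=
        (Helper85_Fusion.mem_autGroup_iff F hUS _).1 hνA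
      obtain ⟨ψ, hψ, hψν⟩ := hUr.2 U _ hνhom (Helper84_FusionRS.range_subtype_comp_equiv (ε * β))
      have hlt : U < normalizerIn S U := Helper87_Alperin.lt_normalizerIn hS hUS hne
      have h1 := IH' (normalizerIn S U) (extHom ψ) hlt
        ((Helper87_Alperin.isMapOn_extHom F hψ).mono hext)
      refine (h1.mono hlt.le).congr fun x hx => ?_
      rw [Helper87_Alperin.extHom_apply ψ (hext (hlt.le hx)), hψν x hx,
        Helper87_Alperin.extFun_apply _ hx]
      rfl
    have hεG : IsMapOn E' U (extFun ε⁻¹) :=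
      (Helper87_Alperin.mem_autGroup_iff E' hUS _).1 (hgood U hUc (Subgroup.inv_mem _ hε))
    refine (hνG.comp hεG (fun x hx => Helper87_Alperin.extFun_mem _ hx)).congr fun x hx => ?_
    rw [Function.comp_apply, ← Helper87_Alperin.extFun_mul _ _ hx, inv_mul_cancel_left]
  · -- `U` is not centric: extend to `U C_S(U)`
    have hlt : U < U ⊔ centralizerIn S U := by
      refine lt_of_le_of_ne le_sup_left ?_
      intro h
      apply hcen
      have h' : centralizerIn S U ≤ U ⊔ centralizerIn S U := le_sup_right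
      rw [← h] at h'
      exact h'
    have hβhom : U.subtype.comp β.toMonoidHom ∈ F.Hom U :=
      (Helper87_Alperin.mem_autGroup_iff' F hUS β).1 hβ
    obtain ⟨b, hb, hbβ⟩ := Helper88_Centric2.exists_extension_sup_centralizerIn hUr hβhom
      (Helper84_FusionRS.range_subtype_comp_equiv β)
    have h1 := IH' _ b hlt hb
    refine (h1.mono hlt.le).congr fun x hx => ?_
    rw [hbβ ⟨x, hx⟩, Helper87_Alperin.extFun_apply _ hx]
    rfl

end

section
variable {G : Type*} [Group G] {p : ℕ}

/-- If `K ≤ H` contains all the `p`-elements of the finite group `H` then `[H : K]` is prime to `p`. -/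
theorem not_dvd_relIndex_of_pelt [Fact p.Prime] {K H : Subgroup G} [Finite H]
    (hpe : ∀ x ∈ H, ∀ k : ℕ, x ^ (p ^ k) = 1 → x ∈ K) (hKH : K ≤ H) : ¬ p ∣ K.relIndex H := by
  obtain ⟨P⟩ : Nonempty (Sylow p H) := inferInstance
  have hsyl := Helper84_RelSylow.isSylowIn_of_sylow P
  have hPK : (P : Subgroup H).map H.subtype ≤ K := by
    rintro _ ⟨y, hy, rfl⟩
    obtain ⟨k, hk⟩ := P.2 ⟨y, hy⟩
    refine hpe _ y.2 k ?_
    have h1 := congrArg Subtype.val hk
    have h2 := congrArg Subtype.val h1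
    simpa using h2
  intro hd
  apply hsyl.2.2
  rw [← Subgroup.relIndex_mul_relIndex _ _ _ hPK hKH]
  exact Dvd.dvd.mul_left hd _

end

variable {Ω : Type*} [Group Ω] {S T : Subgroup Ω} {F : FusionSystem S} {E : FusionSystem T} {p : ℕ}
  {N : Subgroup (MulAut T)}

theorem isCentric_top' [Finite S] (h : PSetup p F E N) : E.IsCentric T := by
  haveI : Finite T := Helper84_FusionRS.finite_of_le_S h.hTS
  exact Helper85_PPrime2.isCentric_top E

/-- The image of a fully `E`-normalized subgroup under an element of `N` is fully `E`-normalized. -/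
theorem isFullyNormalized_image [Finite S] (h : PSetup p F E N) {Q Q' : Subgroup Ω}
    (hQ : E.IsFullyNormalized Q) {σ : MulAut T} (hσ : σ ∈ N) (himg : IsImage Q (extFun σ) Q') :
    E.IsFullyNormalized Q' := by
  have hTS := h.hTS
  haveI : Finite T := Helper84_FusionRS.finite_of_le_S hTS
  have hQT : Q ≤ T := hQ.1
  have hQ'T : Q' ≤ T := by
    intro y hy
    obtain ⟨x, hx, rfl⟩ := (himg y).1 hy
    exact extFun_mem σ (hQT hx)
  refine ⟨hQ'T, fun Q'' hQ'' => ?_⟩
  have hσi : σ⁻¹ ∈ N := N.inv_mem hσ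
  have hσiF : σ⁻¹ ∈ F.autGroup T := h.le hσi
  have hQ''T : Q'' ≤ T := isConj_le_right hQ''
  obtain ⟨e, he, heimg⟩ := exists_isMapOn_of_isConj hQ''
  -- `Q` is the image of `Q'` under `σ⁻¹`
  have himg' : IsImage Q' (extFun σ⁻¹) Q := by
    intro y
    constructor
    · intro hy
      exact ⟨extFun σ y, himg.mem hy, extFun_inv_apply σ (hQT hy)⟩
    · rintro ⟨z, hz, rfl⟩
      obtain ⟨x, hx, rfl⟩ := (himg z).1 hz
      rw [extFun_inv_apply σ (hQT hx)]
      exact hx
  have htr := Helper88_Invariant.isMapOn_transport h.hEF hσiF he himg'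
  obtain ⟨Q₃, hQ₃, hQQ₃⟩ := exists_isImage htr
  have h1 : Nat.card (normalizerIn T Q₃) ≤ Nat.card (normalizerIn T Q) := hQ.2 Q₃ hQQ₃
  -- `Q₃` is the image of `Q''` under `σ⁻¹`
  have hQ₃' : IsImage Q'' (extFun σ⁻¹) Q₃ := by
    intro y
    rw [hQ₃ y]
    constructor
    · rintro ⟨x, hx, rfl⟩
      refine ⟨e (extFun σ⁻¹⁻¹ x), heimg.mem ?_, rfl⟩
      rw [inv_inv]
      exact himg.mem hx
    · rintro ⟨z, hz, rfl⟩
      obtain ⟨w, hw, rfl⟩ := (heimg z).1 hz
      refine ⟨extFun σ⁻¹ w, himg'.mem hw, ?_⟩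
      simp only [Function.comp_apply]
      rw [inv_inv, extFun_apply_inv σ (hQ'T hw)]
  have h2 : Nat.card (normalizerIn T Q'') ≤ Nat.card (normalizerIn T Q₃) :=
    Helper85_PPrime2.card_normalizerIn_le_of_isImage
      (isMapOn_M_of_mem h hσi (normalizerIn_le T Q'')) hQ''T hQ₃'
  have h3 : Nat.card (normalizerIn T Q) ≤ Nat.card (normalizerIn T Q') :=
    Helper85_PPrime2.card_normalizerIn_le_of_isImage
      (isMapOn_M_of_mem h hσ (normalizerIn_le T Q)) hQT himg
  exact (h2.trans h1).trans h3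

/-- Every class of `E`-centric subgroups contains a fully automized receptive member of `M`. -/
theorem exists_fa_rec [Finite S] [Fact p.Prime] (h : PSetup p F E N) {P : Subgroup Ω}
    (hP : E.IsCentric P) :
    ∃ Q, (M h).IsConj P Q ∧ (M h).IsFullyAutomized p Q ∧ (M h).IsReceptive Q := by
  have hTS := h.hTS
  haveI : Finite T := Helper84_FusionRS.finite_of_le_S hTS
  have hTp : IsPGroup p T := h.hS.to_le hTS
  have hPT := hP.1
  obtain ⟨Q, hPQ, hQn⟩ := Helper84_FusionRS.exists_isFullyNormalized_conj E hPT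
  have hQT : Q ≤ T := hQn.1
  haveI : Finite Q := Helper84_FusionRS.finite_of_le_S hQT
  have hPQM : (M h).IsConj P Q := by
    obtain ⟨φ, hφ, hr⟩ := hPQ
    exact ⟨φ, E_le_M h P hφ, hr⟩
  refine ⟨Q, hPQM, ?_, ?_⟩
  · -- fully automized
    have hfaE := Helper84_FusionRS.IsSaturated.isFullyAutomized hTp h.hE hQn
    have hsylE := Helper84_FusionSat.isSylowIn_of_isFullyAutomized E hfaE
    have hEM : E.autGroup Q ≤ (M h).autGroup Q := Helper85_Index.autGroup_le_of_le (E_le_M h) Q
    haveI : Finite ((M h).autGroup Q) := inferInstance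
    have hnd : ¬ p ∣ (E.autGroup Q).relIndex ((M h).autGroup Q) := by
      apply not_dvd_relIndex_of_pelt _ hEM
      intro β hβ k hk
      exact pelt_mem h hQT ((mem_autGroup_iff (M h) hQT β).1 hβ) hk
    apply Helper84_FusionRS.isFullyAutomized_of_isSylowIn _ hQT
    refine ⟨autInducedBy_le_autGroup (M h) hQT, hsylE.2.1, fun hd => ?_⟩
    rw [← Subgroup.relIndex_mul_relIndex _ _ _ hsylE.1 hEM] at hd
    rcases (Nat.Prime.dvd_mul (Fact.out)).1 hd with h1 | h1
    · exact hsylE.2.2 h1
    · exact hnd h1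
  · -- receptive
    refine ⟨hQT, fun R φ hφ hrange => ?_⟩
    have hf : IsMapOn (M h) R (extHom φ) := isMapOn_extHom _ hφ
    obtain ⟨hfF, hRT, τ, hτ, he⟩ := (isMapOn_M_iff h).1 hf
    obtain ⟨ε, hε, hεe⟩ := he
    have hτi := N.inv_mem hτ
    have hφT : ∀ x : R, φ x ∈ T := fun x => hom_mem (M h) hφ x
    have hεx : ∀ x : R, ε x = extFun τ⁻¹ (φ x) := by
      intro x
      rw [hεe x]
      simp only [Function.comp_apply]
      rw [extHom_coe]
    have hQ'img : IsImage Q (extFun τ⁻¹) ε.range := by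
      intro y
      constructor
      · rintro ⟨r, rfl⟩
        refine ⟨φ r, ?_, (hεx r).symm⟩
        rw [← hrange]
        exact ⟨r, rfl⟩
      · rintro ⟨x, hx, rfl⟩
        rw [← hrange] at hx
        obtain ⟨r, rfl⟩ := hx
        exact ⟨r, hεx r⟩
    have hQ'n : E.IsFullyNormalized ε.range := isFullyNormalized_image h hQn hτi hQ'img
    have hrec := Helper84_FusionRS.IsSaturated.isReceptive_of_isFullyNormalized hTp h.hE hQ'n
    obtain ⟨ψe, hψe, hψeε⟩ := hrec.2 R ε hε rfl
    have hle : extender T R φ ≤ extender T R ε := by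
      apply Subgroup.closure_mono
      rintro g ⟨hgT, hgN, h', hh', hgx⟩
      refine ⟨hgT, hgN, extFun τ⁻¹ h', extFun_mem _ hh', fun x hx => ?_⟩
      rw [hεx, hεx, hgx x hx, Helper88_AutInv.extFun_map_mul τ⁻¹ (T.mul_mem hh' (hφT x)) (T.inv_mem hh'),
        Helper88_AutInv.extFun_map_mul τ⁻¹ hh' (hφT x), Helper88_AutInv.extFun_map_inv τ⁻¹ hh']
    have h1 : IsMapOn (M h) (extender T R φ) (extHom ψe) :=
      (isMapOn_M_of_E h (isMapOn_extHom E hψe)).mono hle
    have h2 := h1.comp (isMapOn_M_of_mem h hτ le_rfl) (fun x hx => h1.mem hx)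
    obtain ⟨ψ, hψ, hψx⟩ := h2
    refine ⟨ψ, hψ, fun x hxR hxN => ?_⟩
    rw [hψx]
    simp only [Function.comp_apply]
    rw [extHom_apply ψe (hle hxN), hψeε x hxR (hle hxN), hεx, extFun_apply_inv τ (hφT _)]

/-- **`M = N · E` is saturated.** -/
theorem M_saturated [Finite S] [Fact p.Prime] (h : PSetup p F E N) : (M h).IsSaturated p := by
  have hTS := h.hTS
  haveI : Finite T := Helper84_FusionRS.finite_of_le_S hTS
  have hTp : IsPGroup p T := h.hS.to_le hTS
  refine Cfsg.Agent.S5110.result p hTp (M h) {P | E.IsCentric P} (fun P hP => hP.1) ?_ ?_ ?_ ?_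
  · intro P hP Q hPQ
    obtain ⟨f, hf, himg⟩ := exists_isMapOn_of_isConj hPQ
    exact isCentric_of_isMapOn h.hEF hP (isMapOn_F_of_M h hf) himg
  · intro P hP
    exact exists_fa_rec h hP
  · intro E'' hE''
    have hTc := isCentric_top' h
    have hsub : ∀ {P : Subgroup Ω}, E.IsCentric P → ∀ {f : Ω → Ω}, IsMapOn (M h) P f →
        IsMapOn E'' P f := by
      rintro P hP f ⟨φ, hφ, hφf⟩
      exact ⟨φ, hE'' P hP hφ, hφf⟩
    have hEE'' : E ≤ E'' := by
      refine le_of_good hTp h.hE E'' ?_ ?_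
      · intro α hα
        rw [mem_autGroup_iff E'' le_rfl]
        exact hsub hTc (isMapOn_M_of_E h ((mem_autGroup_iff E le_rfl α).1 hα))
      · intro P hP
        rw [Subgroup.closure_le]
        intro β hβ
        have hPT := hP.1
        show β ∈ E''.autGroup P
        rw [mem_autGroup_iff E'' hPT]
        exact hsub hP (isMapOn_M_of_E h ((mem_autGroup_iff E hPT β).1 hβ.1))
    intro P φ hφ
    rw [mem_hom_iff_isMapOn]
    have hf : IsMapOn (M h) P (extHom φ) := isMapOn_extHom _ hφ
    obtain ⟨hfF, hPT, τ, hτ, he⟩ := (isMapOn_M_iff h).1 hf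
    have he'' : IsMapOn E'' P (extFun τ⁻¹ ∘ extHom φ) := Helper85_Index.isMapOn_of_le hEE'' he
    have hτ'' : IsMapOn E'' T (extFun τ) := hsub hTc (isMapOn_M_of_mem h hτ le_rfl)
    refine (he''.comp hτ'' (fun x hx => he''.mem hx)).congr fun x hx => ?_
    simp only [Function.comp_apply]
    rw [extFun_apply_inv τ (hf.mem hx)]
  · intro P hPc hP
    exfalso
    apply hP
    refine ⟨hPc.1, fun Q hQ => hPc.2 Q ?_⟩
    obtain ⟨φ, hφ, hr⟩ := hQ
    exact ⟨φ, E_le_M h P hφ, hr⟩

end Cfsg.Agent.Lib.Helper85_PExt3
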