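import Cfsg.Agent.Lib.Helper85_PExt3

/-!
# Extensions of index prime to `p` inside a saturated system (helper85), part 4: indices, the automizer of `T`, and the
product of two invariant saturated subsystems over the same subgroup
-/

set_option autoImplicit false
set_option linter.style.haveILetI false

namespace Cfsg.Agent.Lib.Helper85_PExt4

open Cfsg Cfsg.FusionSystem Cfsg.Agent.Lib
open Cfsg.Agent.Lib.Helper87_Alperin Cfsg.Agent.Lib.Helper88_Centric Cfsg.Agent.Lib.Helper85_Rel1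
  Cfsg.Agent.Lib.Helper85_PExt1 Cfsg.Agent.Lib.Helper85_PExt2 Cfsg.Agent.Lib.Helper85_PExt3
open Cfsg.Agent.Lib.Helper85_Index (PE Good)

variable {Ω : Type*} [Group Ω] {S T : Subgroup Ω} {F : FusionSystem S} {E : FusionSystem T} {p : ℕ}
  {N : Subgroup (MulAut T)}

theorem pe_pow {X : FusionSystem T} {P : Subgroup Ω} {β : MulAut P} (hβ : β ∈ PE X p P) :
    ∃ k : ℕ, β ^ (p ^ k) = 1 := by
  obtain ⟨-, k, hk⟩ := hβ
  exact ⟨k, by rw [← hk]; exact pow_orderOf_eq_one β⟩

/-- `E` has index prime to `p` in `M`. -/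
theorem index_E_M [Finite S] [Fact p.Prime] (h : PSetup p F E N) : E.HasPrimeToPIndexIn (M h) p := by
  refine ⟨E_le_M h, fun P hPT => ?_⟩
  rw [Helper85_Index.map_closure_pe, Subgroup.closure_le]
  intro β hβ
  obtain ⟨k, hk⟩ := pe_pow hβ
  exact pelt_mem h hPT ((mem_autGroup_iff (M h) hPT β).1 hβ.1) hk

theorem mem_autGroup_M_iff [Finite S] (h : PSetup p F E N) (α : MulAut T) :
    α ∈ (M h).autGroup T ↔ α ∈ N := by
  rw [mem_autGroup_iff (M h) le_rfl]
  constructor
  · intro hα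
    obtain ⟨-, -, τ, hτ, he⟩ := (isMapOn_M_iff h).1 hα
    have h1 : τ⁻¹ * α ∈ E.autGroup T := by
      rw [mem_autGroup_iff E le_rfl]
      refine he.congr fun x hx => ?_
      simp only [Function.comp_apply]
      rw [extFun_mul _ _ hx]
    have e : α = τ * (τ⁻¹ * α) := by group
    rw [e]
    exact N.mul_mem hτ (h.autE h1)
  · intro hα
    exact isMapOn_M_of_mem h hα le_rfl

/-- The `p`-elements of `Aut_E(P)` lie in `Aut_D(P)` for every invariant subsystem `D` over the same subgroup. -/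
theorem pelt_le_of_invariant [Finite S] [Fact p.Prime] (hS : IsPGroup p S) {D : FusionSystem T}
    (hTS : T ≤ S) (hE : E.IsSaturated p) (hEF : E.IsSubsystemOf F) (hDF : D.IsInvariantIn F)
    {P : Subgroup Ω} (hPT : P ≤ T) {β : MulAut P} (hβ : β ∈ E.autGroup P) {k : ℕ}
    (hk : β ^ (p ^ k) = 1) : β ∈ D.autGroup P := by
  haveI : Finite T := Helper84_FusionRS.finite_of_le_S hTS
  have hTp : IsPGroup p T := hS.to_le hTS
  obtain ⟨ω, hω, g, hg, hrel⟩ := exists_conj_rel hTp hE hPT hβ hk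
  have hωF : IsMapOn F P ω := Helper85_Transport2.isMapOn_of_isSubsystemOf hEF hω
  obtain ⟨a, ha, d, hd, hωd⟩ := Helper85_Transport2.exists_frattini hDF hPT hωF
  have hdT : ∀ x ∈ P, d x ∈ T := fun x hx => hd.mem hx
  have hrel' : ∀ x ∈ P, d (extFun β x) = extFun a⁻¹ g * d x * (extFun a⁻¹ g)⁻¹ := by
    intro x hx
    have hβx := extFun_mem β hx
    have h1 := hrel x hx
    rw [hωd _ hβx, hωd x hx] at h1
    have h2 := congrArg (extFun a⁻¹) h1
    rw [extFun_inv_apply a (hdT _ hβx),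
      Helper88_AutInv.extFun_map_mul a⁻¹ (T.mul_mem hg (extFun_mem a (hdT x hx))) (T.inv_mem hg),
      Helper88_AutInv.extFun_map_mul a⁻¹ hg (extFun_mem a (hdT x hx)), extFun_inv_apply a (hdT x hx),
      Helper88_AutInv.extFun_map_inv a⁻¹ hg] at h2
    exact h2
  obtain ⟨P₀, hP₀, -⟩ := exists_isImage hd
  obtain ⟨k₀, hk₀, hk₀1, -, -⟩ := hd.inv hP₀
  have hP₀T : P₀ ≤ T := hk₀.le
  have hg' : extFun a⁻¹ g ∈ T := extFun_mem _ hg
  have hc : IsMapOn D P₀ (fun y => extFun a⁻¹ g * y * (extFun a⁻¹ g)⁻¹) := IsMapOn.conj D hP₀T hg'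
  rw [mem_autGroup_iff D hPT]
  refine ((hd.comp hc (fun x hx => hP₀.mem hx)).comp hk₀ ?_).congr ?_
  · intro x hx
    simp only [Function.comp_apply]
    rw [← hrel' x hx]
    exact hP₀.mem (extFun_mem β hx)
  · intro x hx
    simp only [Function.comp_apply]
    rw [← hrel' x hx]
    exact hk₀1 _ (extFun_mem β hx)

theorem autGroup_le_F (hEF : E.IsSubsystemOf F) (hTS : T ≤ S) : E.autGroup T ≤ F.autGroup T := by
  intro τ hτ
  rw [mem_autGroup_iff' F hTS]
  exact hEF T ((mem_autGroup_iff' E le_rfl τ).1 hτ)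

/-- `Aut_F(T)` normalizes `Aut_E(T)`. -/
theorem conj_mem_autGroup (hEF : E.IsInvariantIn F) {γ e : MulAut T} (hγ : γ ∈ F.autGroup T)
    (he : e ∈ E.autGroup T) : γ * e * γ⁻¹ ∈ E.autGroup T := by
  have h1 : IsMapOn E T (extFun e) := (mem_autGroup_iff E le_rfl e).1 he
  have h2 := Helper88_Invariant.isMapOn_transport hEF hγ h1 (Helper85_SatCrit6.isImage_extFun γ)
  rw [mem_autGroup_iff E le_rfl]
  refine h2.congr fun x hx => ?_
  simp only [Function.comp_apply]
  rw [extFun_mul _ _ hx, extFun_mul _ _ (extFun_mem _ hx)]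

theorem pow_mul_mem {G : Type*} [Group G] (K : Subgroup G) {d e : G}
    (hd : ∀ x ∈ K, d⁻¹ * x * d ∈ K) (he : e ∈ K) : ∀ j : ℕ, ∃ e' ∈ K, (d * e) ^ j = d ^ j * e' := by
  intro j
  induction j with
  | zero => exact ⟨1, K.one_mem, by simp⟩
  | succ j ih =>
    obtain ⟨e', he', hj⟩ := ih
    refine ⟨d⁻¹ * e' * d * e, K.mul_mem (hd e' he') he, ?_⟩
    rw [pow_succ, hj, pow_succ]
    group

/-- The set-up for the product of two invariant saturated subsystems over the same subgroup. -/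
theorem pSetup_sup [Finite S] [Fact p.Prime] (hS : IsPGroup p S) (hF : F.IsSaturated p)
    {D : FusionSystem T} (hE : E.IsSaturated p) (hEF : E.IsInvariantIn F) (hD : D.IsSaturated p)
    (hDF : D.IsInvariantIn F) : PSetup p F E (D.autGroup T ⊔ E.autGroup T) := by
  have hTS : T ≤ S := hEF.2.1.1
  haveI : Finite T := Helper84_FusionRS.finite_of_le_S hTS
  have hTp : IsPGroup p T := hS.to_le hTS
  have hAE := autGroup_le_F hEF.1 hTS
  have hAD := autGroup_le_F hDF.1 hTS
  refine ⟨hS, hF, hE, hEF, sup_le hAD hAE, le_sup_right, ?_⟩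
  -- the index of `Inn(T)` in `Aut_D(T)`
  have hTn : D.IsFullyNormalized T := by
    refine ⟨le_rfl, fun Q hQ => ?_⟩
    have hQT : Q ≤ T := isConj_le_right hQ
    have hcard := Helper85_Fusion.isConj_card_eq D hQ
    rw [Subgroup.eq_of_le_of_card_ge hQT (le_of_eq hcard)]
  have hfa := Helper84_FusionRS.IsSaturated.isFullyAutomized hTp hD hTn
  have hsyl := Helper84_FusionSat.isSylowIn_of_isFullyAutomized D hfa
  have hinn : autInducedBy T T = Inn T := Helper88_Essential.autInducedBy_self_eq_inn T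
  have hinnE : autInducedBy T T ≤ E.autGroup T := autInducedBy_le_autGroup E le_rfl
  have hcop : ((autInducedBy T T).relIndex (D.autGroup T)).Coprime p :=
    (Nat.Coprime.symm ((Nat.Prime.coprime_iff_not_dvd (Fact.out)).2 hsyl.2.2))
  haveI hnorm : ((autInducedBy T T).subgroupOf (D.autGroup T)).Normal := by
    rw [hinn]
    exact Subgroup.normal_subgroupOf
  have hnormE : D.autGroup T ≤ Subgroup.normalizer ((E.autGroup T : Subgroup (MulAut T)) : Set (MulAut T)) := by
    intro d hd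
    rw [Subgroup.mem_normalizer_iff]
    intro x
    constructor
    · exact fun hx => conj_mem_autGroup hEF (hAD hd) hx
    · intro hx
      have := conj_mem_autGroup hEF ((F.autGroup T).inv_mem (hAD hd)) hx
      have e : d⁻¹ * (d * x * d⁻¹) * d⁻¹⁻¹ = x := by group
      rwa [e] at this
  intro γ hγ
  refine ⟨(autInducedBy T T).relIndex (D.autGroup T), hcop, ?_⟩
  have hγ' : γ ∈ ((D.autGroup T ⊔ E.autGroup T : Subgroup (MulAut T)) : Set (MulAut T)) := hγ
  rw [Subgroup.coe_mul_of_left_le_normalizer_right _ _ hnormE] at hγ'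
  obtain ⟨d, hd, e, he, rfl⟩ := hγ'
  have hdconj : ∀ x ∈ E.autGroup T, d⁻¹ * x * d ∈ E.autGroup T := by
    intro x hx
    have := conj_mem_autGroup hEF ((F.autGroup T).inv_mem (hAD hd)) hx
    rwa [inv_inv] at this
  obtain ⟨e', he', hpow⟩ := pow_mul_mem (E.autGroup T) hdconj he
    ((autInducedBy T T).relIndex (D.autGroup T))
  rw [hpow]
  refine (E.autGroup T).mul_mem (hinnE ?_) he'
  have h1 := Subgroup.pow_index_mem ((autInducedBy T T).subgroupOf (D.autGroup T)) (⟨d, hd⟩ : D.autGroup T)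
  rw [Subgroup.mem_subgroupOf] at h1
  exact h1

end Cfsg.Agent.Lib.Helper85_PExt4
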