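import Cfsg.Agent.Lib.Helper85_PExt3
import Cfsg.Agent.Lib.Helper47_YL

/-!
# Subsystems of index `p` from a realizing group with a character (helper85), part 1

`F` a fusion system over `S`, realized inside a group `G` through `ι`, and `π : G → Γ` a homomorphism to a group of
prime order `p`, with `M = ker (π ∘ ι)`.  The maps of `F` between subgroups of `M` realized by elements of `ker π` form
a fusion system `E` over `M`.  Under the hypothesis `cent` (the centralizer in `G` of a subgroup `P` lies in `ker π`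
as soon as the centralizers in `S` of all `F`-conjugates of `P` lie in `M`), and `F` saturated, `E` is saturated and of
`p`-power index in `F`.
-/

set_option autoImplicit false
set_option linter.style.haveILetI false

namespace Cfsg.Agent.Lib.Helper85_PIdx1

open Cfsg Cfsg.FusionSystem Cfsg.Agent.Lib
open Cfsg.Agent.Lib.Helper87_Alperin Cfsg.Agent.Lib.Helper88_Centric

universe u v w

variable {Ω : Type u} [Group Ω] {S M : Subgroup Ω} {p : ℕ} {F : FusionSystem S}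
  {G : Type v} [Group G] {Γ : Type w} [CommGroup Γ]

/-- The data: a group `G` realizing `F` through `ι`, and a homomorphism `π` of `G` to a group of prime order with
`M` the kernel of `π ∘ ι`. -/
structure Datum (p : ℕ) (F : FusionSystem S) (M : Subgroup Ω) (G : Type v) [Group G] (Γ : Type w)
    [CommGroup Γ] where
  ι : Ω → G
  π : G →* Γ
  ι_mul : ∀ x ∈ S, ∀ y ∈ S, ι (x * y) = ι x * ι y
  ι_inj : ∀ x ∈ S, ∀ y ∈ S, ι x = ι y → x = y
  real : ∀ {P : Subgroup Ω} {f : Ω → Ω}, IsMapOn F P f → ∃ g : G, ∀ x ∈ P, ι (f x) = g * ι x * g⁻¹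
  real' : ∀ {P : Subgroup Ω} {f : Ω → Ω} (g : G), P ≤ S →
    (∀ x ∈ P, f x ∈ S ∧ ι (f x) = g * ι x * g⁻¹) → IsMapOn F P f
  le : M ≤ S
  ker : ∀ s ∈ S, π (ι s) = 1 ↔ s ∈ M
  out : ∃ s ∈ S, s ∉ M
  pow : ∀ γ : Γ, γ ^ p = 1
  gen : ∀ γ : Γ, γ ≠ 1 → ∀ δ : Γ, ∃ k : ℕ, δ = γ ^ k
  cent : ∀ P : Subgroup Ω, P ≤ S →
    (∀ f : Ω → Ω, IsMapOn F P f → ∀ y ∈ S, (∀ x ∈ P, y * f x = f x * y) → y ∈ M) →
    ∀ c : G, (∀ x ∈ P, c * ι x = ι x * c) → π c = 1

namespace Datum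

variable (d : Datum p F M G Γ)

theorem ι_one : d.ι 1 = 1 := by
  have h := d.ι_mul 1 S.one_mem 1 S.one_mem
  rw [mul_one] at h
  have h' : d.ι 1 * d.ι 1 = d.ι 1 * 1 := by rw [mul_one]; exact h.symm
  exact mul_left_cancel h'

theorem ι_inv {x : Ω} (hx : x ∈ S) : d.ι x⁻¹ = (d.ι x)⁻¹ := by
  have h := d.ι_mul x⁻¹ (S.inv_mem hx) x hx
  rw [inv_mul_cancel, d.ι_one] at h
  exact eq_inv_of_mul_eq_one_left h.symm

theorem ι_pow {x : Ω} (hx : x ∈ S) (k : ℕ) : d.ι (x ^ k) = d.ι x ^ k := by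
  induction k with
  | zero => rw [pow_zero, pow_zero, d.ι_one]
  | succ k ih => rw [pow_succ, pow_succ, d.ι_mul _ (S.pow_mem hx k) _ hx, ih]

theorem ι_conj {a x : Ω} (ha : a ∈ S) (hx : x ∈ S) : d.ι (a * x * a⁻¹) = d.ι a * d.ι x * (d.ι a)⁻¹ := by
  rw [d.ι_mul _ (S.mul_mem ha hx) _ (S.inv_mem ha), d.ι_mul _ ha _ hx, d.ι_inv ha]

/-- The character `λ = π ∘ ι`. -/
def lam (x : Ω) : Γ := d.π (d.ι x)

theorem lam_mul {x y : Ω} (hx : x ∈ S) (hy : y ∈ S) : d.lam (x * y) = d.lam x * d.lam y := by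
  unfold lam
  rw [d.ι_mul x hx y hy, map_mul]

theorem lam_inv {x : Ω} (hx : x ∈ S) : d.lam x⁻¹ = (d.lam x)⁻¹ := by
  unfold lam
  rw [d.ι_inv hx, map_inv]

theorem lam_pow {x : Ω} (hx : x ∈ S) (k : ℕ) : d.lam (x ^ k) = d.lam x ^ k := by
  unfold lam
  rw [d.ι_pow hx, map_pow]

theorem lam_eq_one_iff {x : Ω} (hx : x ∈ S) : d.lam x = 1 ↔ x ∈ M := d.ker x hx

theorem π_conj (g : G) (x : G) : d.π (g * x * g⁻¹) = d.π x := by
  rw [map_mul, map_mul, map_inv, mul_comm (d.π g), mul_inv_cancel_right]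

theorem lam_map {P : Subgroup Ω} {f : Ω → Ω} (hf : IsMapOn F P f) {x : Ω} (hx : x ∈ P) :
    d.lam (f x) = d.lam x := by
  obtain ⟨g, hg⟩ := d.real hf
  unfold lam
  rw [hg x hx, d.π_conj]

include d in
theorem mem_iff {P : Subgroup Ω} {f : Ω → Ω} (hf : IsMapOn F P f) {x : Ω} (hx : x ∈ P) :
    f x ∈ M ↔ x ∈ M := by
  rw [← d.lam_eq_one_iff (hf.mem hx), ← d.lam_eq_one_iff (hf.le hx), d.lam_map hf hx]

include d in
theorem stronglyClosed : F.StronglyClosed M := by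
  refine ⟨d.le, fun R hR φ hφ x => ?_⟩
  have h := (d.mem_iff (isMapOn_extHom F hφ) x.2).2 (hR x.2)
  rwa [extHom_coe] at h

include d in
theorem conj_mem {s x : Ω} (hs : s ∈ S) (hx : x ∈ M) : s * x * s⁻¹ ∈ M := by
  have hxS := d.le hx
  have h := (d.mem_iff (IsMapOn.conj F (P := M) d.le hs) hx).2 hx
  exact h

include d in
theorem conj_mem_iff {s : Ω} (hs : s ∈ S) (x : Ω) : x ∈ M ↔ s * x * s⁻¹ ∈ M := by
  constructor
  · exact d.conj_mem hs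
  · intro h
    have := d.conj_mem (S.inv_mem hs) h
    have e : s⁻¹ * (s * x * s⁻¹) * s⁻¹⁻¹ = x := by group
    rwa [e] at this

/-- Surjectivity of `λ` on `S`. -/
theorem exists_lam_eq (δ : Γ) : ∃ s ∈ S, d.lam s = δ := by
  obtain ⟨s, hs, hsM⟩ := d.out
  have h1 : d.lam s ≠ 1 := fun h => hsM ((d.lam_eq_one_iff hs).1 h)
  obtain ⟨k, hk⟩ := d.gen _ h1 δ
  exact ⟨s ^ k, S.pow_mem hs k, by rw [d.lam_pow hs, hk]⟩

/-! ### The subsystem -/

/-- The function `f` on `P` is realized by an element of `ker π`. -/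
def GE (P : Subgroup Ω) (f : Ω → Ω) : Prop :=
  ∃ g : G, d.π g = 1 ∧ ∀ x ∈ P, d.ι (f x) = g * d.ι x * g⁻¹

theorem ge_congr {P : Subgroup Ω} {f g : Ω → Ω} (h : d.GE P f) (hfg : ∀ x ∈ P, f x = g x) :
    d.GE P g := by
  obtain ⟨a, ha, hf⟩ := h
  exact ⟨a, ha, fun x hx => by rw [← hfg x hx, hf x hx]⟩

theorem ge_conj {P : Subgroup Ω} {a : Ω} (hP : P ≤ M) (ha : a ∈ M) :
    d.GE P (fun x => a * x * a⁻¹) :=
  ⟨d.ι a, (d.ker a (d.le ha)).2 ha, fun x hx => d.ι_conj (d.le ha) (d.le (hP hx))⟩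

theorem ge_comp {P R : Subgroup Ω} {f g : Ω → Ω} (hf : d.GE P f) (hg : d.GE R g)
    (h : ∀ x ∈ P, f x ∈ R) : d.GE P (g ∘ f) := by
  obtain ⟨a, ha, hfa⟩ := hf
  obtain ⟨b, hb, hgb⟩ := hg
  refine ⟨b * a, by rw [map_mul, ha, hb, mul_one], fun x hx => ?_⟩
  rw [Function.comp_apply, hgb _ (h x hx), hfa x hx]
  group

theorem ge_inv {P P' : Subgroup Ω} {f g : Ω → Ω} (hf : d.GE P f) (himg : IsImage P f P')
    (hgf : ∀ x ∈ P, g (f x) = x) : d.GE P' g := by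
  obtain ⟨a, ha, hfa⟩ := hf
  refine ⟨a⁻¹, by rw [map_inv, ha, inv_one], fun y hy => ?_⟩
  obtain ⟨x, hx, rfl⟩ := (himg y).1 hy
  rw [hgf x hx, hfa x hx]
  group

/-- The subsystem `E` over `M`. -/
def E : FusionSystem M :=
  Helper85_PExt1.subsystemOn F d.stronglyClosed d.GE (fun h hfg => d.ge_congr h hfg)
    (fun hP ha => d.ge_conj hP ha) (fun _ _ _ hGf _ hGg h => d.ge_comp hGf hGg h)
    (fun _ _ _ hGf himg _ hgf => d.ge_inv hGf himg hgf)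

theorem isMapOn_E_iff {P : Subgroup Ω} {f : Ω → Ω} :
    IsMapOn d.E P f ↔ IsMapOn F P f ∧ P ≤ M ∧ d.GE P f := by
  constructor
  · rintro ⟨φ, hφ, hφf⟩
    refine ⟨⟨φ, hφ.1, hφf⟩, hφ.2.1, d.ge_congr hφ.2.2 fun x hx => ?_⟩
    rw [extHom_apply φ hx, hφf]
  · rintro ⟨⟨φ, hφ, hφf⟩, hP, hG⟩
    refine ⟨φ, ⟨hφ, hP, d.ge_congr hG fun x hx => ?_⟩, hφf⟩
    rw [extHom_apply φ hx, hφf]

theorem E_le_F : d.E.IsSubsystemOf F := fun _ _ hφ => hφ.1

theorem isMapOn_F_of_E {P : Subgroup Ω} {f : Ω → Ω} (hf : IsMapOn d.E P f) : IsMapOn F P f :=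
  (d.isMapOn_E_iff.1 hf).1

/-- An `F`-map on `P ≤ M` realized by an element of `ker π` is a map of `E`. -/
theorem isMapOn_E_of_real {P : Subgroup Ω} {f : Ω → Ω} (hP : P ≤ M) (g : G) (hg : d.π g = 1)
    (h : ∀ x ∈ P, f x ∈ S ∧ d.ι (f x) = g * d.ι x * g⁻¹) : IsMapOn d.E P f :=
  d.isMapOn_E_iff.2 ⟨d.real' g (hP.trans d.le) h, hP, g, hg, fun x hx => (h x hx).2⟩

/-- **Frattini**: every `F`-map on a subgroup of `M` is a map of `E` followed by conjugation by an element of `S`. -/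
theorem exists_frattini {P : Subgroup Ω} {f : Ω → Ω} (hf : IsMapOn F P f) (hP : P ≤ M) :
    ∃ s ∈ S, IsMapOn d.E P (fun x => s⁻¹ * f x * s) := by
  obtain ⟨g, hg⟩ := d.real hf
  obtain ⟨s, hs, hsg⟩ := d.exists_lam_eq (d.π g)
  refine ⟨s, hs, d.isMapOn_E_of_real hP ((d.ι s)⁻¹ * g) ?_ fun x hx => ⟨?_, ?_⟩⟩
  · rw [map_mul, map_inv, ← hsg]
    exact inv_mul_cancel _
  · exact S.mul_mem (S.mul_mem (S.inv_mem hs) (hf.mem hx)) hs
  · have h1 := d.ι_conj (S.inv_mem hs) (hf.mem hx)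
    rw [inv_inv] at h1
    rw [h1, hg x hx, d.ι_inv hs]
    group

/-! ### The two types of subgroups -/

/-- `P` is of type I: some element of the centralizer of `ι P` is outside `ker π`. -/
def TypeI (P : Subgroup Ω) : Prop :=
  ∃ c : G, (∀ x ∈ P, c * d.ι x = d.ι x * c) ∧ d.π c ≠ 1

theorem exists_cent_eq {P : Subgroup Ω} (h : d.TypeI P) (δ : Γ) :
    ∃ c : G, (∀ x ∈ P, c * d.ι x = d.ι x * c) ∧ d.π c = δ := by
  obtain ⟨c, hc, hπ⟩ := h
  obtain ⟨k, hk⟩ := d.gen _ hπ δ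
  refine ⟨c ^ k, fun x hx => ?_, by rw [map_pow, hk]⟩
  exact ((Commute.pow_left (hc x hx) k : Commute (c ^ k) (d.ι x))).eq

/-- For `P` of type I every `F`-map on `P` is a map of `E`. -/
theorem isMapOn_E_of_typeI {P : Subgroup Ω} (h : d.TypeI P) (hP : P ≤ M) {f : Ω → Ω}
    (hf : IsMapOn F P f) : IsMapOn d.E P f := by
  obtain ⟨g, hg⟩ := d.real hf
  obtain ⟨c, hc, hπ⟩ := d.exists_cent_eq h (d.π g)⁻¹
  refine d.isMapOn_E_of_real hP (g * c) (by rw [map_mul, hπ, mul_inv_cancel]) fun x hx =>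
    ⟨hf.mem hx, ?_⟩
  rw [hg x hx]
  have h1 : c * d.ι x * c⁻¹ = d.ι x := by rw [hc x hx, mul_inv_cancel_right]
  calc g * d.ι x * g⁻¹ = g * (c * d.ι x * c⁻¹) * g⁻¹ := by rw [h1]
    _ = g * c * d.ι x * (g * c)⁻¹ := by group

/-- For `P` not of type I, two elements of `G` inducing the same map on `P` have the same image under `π`. -/
theorem π_eq_of_not_typeI {P : Subgroup Ω} (h : ¬ d.TypeI P) {g g' : G}
    (hgg' : ∀ x ∈ P, g * d.ι x * g⁻¹ = g' * d.ι x * g'⁻¹) : d.π g = d.π g' := by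
  by_contra hne
  apply h
  refine ⟨g'⁻¹ * g, fun x hx => ?_, ?_⟩
  · have h1 := hgg' x hx
    calc g'⁻¹ * g * d.ι x = g'⁻¹ * (g * d.ι x * g⁻¹) * g := by group
      _ = g'⁻¹ * (g' * d.ι x * g'⁻¹) * g := by rw [h1]
      _ = d.ι x * (g'⁻¹ * g) := by group
  · rw [map_mul, map_inv]
    intro h1
    apply hne
    rw [inv_mul_eq_one] at h1
    exact h1.symm

/-- A subgroup of type I has an `F`-conjugate whose centralizer in `S` is not inside `M`. -/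
theorem exists_cent_of_typeI {P : Subgroup Ω} (h : d.TypeI P) (hP : P ≤ S) :
    ∃ f : Ω → Ω, IsMapOn F P f ∧ ∃ y ∈ S, (∀ x ∈ P, y * f x = f x * y) ∧ y ∉ M := by
  by_contra hne
  push Not at hne
  obtain ⟨c, hc, hπ⟩ := h
  exact hπ (d.cent P hP (fun f hf y hy hyc => hne f hf y hy hyc) c hc)

/-- Type I is inherited by `F`-conjugates. -/
theorem typeI_of_isImage {P P' : Subgroup Ω} (h : d.TypeI P) {f : Ω → Ω} (hf : IsMapOn F P f)
    (himg : IsImage P f P') : d.TypeI P' := by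
  obtain ⟨c, hc, hπ⟩ := h
  obtain ⟨g, hg⟩ := d.real hf
  refine ⟨g * c * g⁻¹, fun y hy => ?_, by rw [d.π_conj]; exact hπ⟩
  obtain ⟨x, hx, rfl⟩ := (himg y).1 hy
  rw [hg x hx]
  calc g * c * g⁻¹ * (g * d.ι x * g⁻¹) = g * (c * d.ι x) * g⁻¹ := by group
    _ = g * (d.ι x * c) * g⁻¹ := by rw [hc x hx]
    _ = g * d.ι x * g⁻¹ * (g * c * g⁻¹) := by group

end Datum

end Cfsg.Agent.Lib.Helper85_PIdx1
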