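import Cfsg.Agent.Lib.Helper85_PIdx1
import Cfsg.Agent.Lib.Helper87_Hyperfocal
import Cfsg.Agent.S5124

/-!
# Subsystems of index `p` from a realizing group with a character (helper85), part 2: saturation
-/

set_option autoImplicit false
set_option linter.style.haveILetI false

namespace Cfsg.Agent.Lib.Helper85_PIdx2

open Cfsg Cfsg.FusionSystem Cfsg.Agent.Lib
open Cfsg.Agent.Lib.Helper87_Alperin Cfsg.Agent.Lib.Helper88_Centric
open Cfsg.Agent.Lib.Helper84_RelSylow (IsSylowIn)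
open Cfsg.Agent.Lib.Helper85_PIdx1

universe u v w

section Group

variable {G : Type*} [Group G] {p : ℕ}

/-- The intersection of a relative Sylow subgroup with a subgroup normalized by the whole group is a relative
Sylow subgroup of it. -/
theorem not_dvd_relIndex_inf [Fact p.Prime] {R A B : Subgroup G} [Finite A]
    (hsyl : IsSylowIn p R A) (hBA : B ≤ A) (hnorm : ∀ a ∈ A, ∀ b ∈ B, a * b * a⁻¹ ∈ B) :
    ¬ p ∣ (R ⊓ B).relIndex B := by
  have hn : (B.subgroupOf A).Normal := by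
    refine ⟨fun b hb a => ?_⟩
    rw [Subgroup.mem_subgroupOf] at hb ⊢
    exact hnorm a a.2 b hb
  have h := Cfsg.Agent.Lib.Helper32_Sylow.not_dvd_relIndex_inf_normal hsyl.toSylow (B.subgroupOf A)
  rw [Helper84_RelSylow.IsSylowIn.coe_toSylow] at h
  have h2 : R.subgroupOf A ⊓ B.subgroupOf A = (R ⊓ B).subgroupOf A := by
    ext x; simp [Subgroup.mem_subgroupOf]
  rw [h2, Subgroup.relIndex_subgroupOf hBA] at h
  exact h

end Group

variable {Ω : Type u} [Group Ω] {S M : Subgroup Ω} {p : ℕ} {F : FusionSystem S}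
  {G : Type v} [Group G] {Γ : Type w} [CommGroup Γ] (d : Datum p F M G Γ)

/-- A receptive subgroup of type I is centralized by an element of `S` outside `M`. -/
theorem exists_cent_out {Q : Subgroup Ω} (hQr : F.IsReceptive Q) (h : d.TypeI Q) :
    ∃ y ∈ S, (∀ x ∈ Q, y * x = x * y) ∧ y ∉ M := by
  have hQS := hQr.1
  obtain ⟨ρ, hρ, y, hy, hyc, hyM⟩ := d.exists_cent_of_typeI h hQS
  obtain ⟨Q₁, hQ₁, -⟩ := exists_isImage hρ
  obtain ⟨ρ', hρ', hρ'ρ, hρ'mem, hρρ'⟩ := hρ.inv hQ₁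
  have himg : IsImage Q₁ ρ' Q := by
    intro x
    constructor
    · intro hx
      exact ⟨ρ x, hQ₁.mem hx, hρ'ρ x hx⟩
    · rintro ⟨z, hz, rfl⟩
      exact hρ'mem z hz
  have hyc' : ∀ z ∈ Q₁, y * z = z * y := by
    intro z hz
    obtain ⟨x, hx, rfl⟩ := (hQ₁ z).1 hz
    exact hyc x hx
  have hyC : y ∈ centralizerIn S Q₁ := by
    rw [mem_centralizerIn_iff]
    exact ⟨hy, fun z hz => (hyc' z hz).symm⟩
  obtain ⟨ψ, hψ, hψρ'⟩ := Helper85_SatCrit2.receptive_extend hQr hρ' himg (centralizerIn S Q₁) (by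
    intro g hg
    refine ⟨Helper84_FusionRS.centralizerIn_le_normalizerIn S Q₁ hg, 1, S.one_mem, fun x hx => ?_⟩
    rw [mem_centralizerIn_iff] at hg
    have : g * x * g⁻¹ = x := by rw [← hg.2 x hx, mul_inv_cancel_right]
    rw [this]
    simp)
  have hyN : y ∈ Q₁ ⊔ centralizerIn S Q₁ := (le_sup_right : centralizerIn S Q₁ ≤ _) hyC
  refine ⟨ψ y, hψ.mem hyN, fun x hx => ?_, fun hM => hyM ((d.mem_iff hψ hyN).1 hM)⟩
  have hx₁ : ρ x ∈ Q₁ := hQ₁.mem hx
  have hx₁N : ρ x ∈ Q₁ ⊔ centralizerIn S Q₁ := (le_sup_left : Q₁ ≤ _) hx₁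
  have h1 : ψ (ρ x) = x := by rw [hψρ' _ hx₁, hρ'ρ x hx]
  rw [← h1, ← hψ.map_mul hyN hx₁N, ← hψ.map_mul hx₁N hyN, hyc' _ hx₁]

include d in
/-- Given `y ∈ S` outside `M`, every element of `S` is congruent modulo `M` to a power of `y`. -/
theorem exists_pow_mul_mem {y : Ω} (hy : y ∈ S) (hyM : y ∉ M) {s : Ω} (hs : s ∈ S) :
    ∃ k : ℕ, s * y ^ k ∈ M := by
  have h1 : d.lam y ≠ 1 := fun h => hyM ((d.lam_eq_one_iff hy).1 h)
  obtain ⟨k, hk⟩ := d.gen _ h1 (d.lam s)⁻¹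
  refine ⟨k, ?_⟩
  rw [← d.lam_eq_one_iff (S.mul_mem hs (S.pow_mem hy k)), d.lam_mul hs (S.pow_mem hy k),
    d.lam_pow hy, ← hk, mul_inv_cancel]

theorem exists_pow_lam {y : Ω} (hy : y ∈ S) (hyM : y ∉ M) (δ : Γ) :
    ∃ k : ℕ, d.lam (y ^ k) = δ := by
  have h1 : d.lam y ≠ 1 := fun h => hyM ((d.lam_eq_one_iff hy).1 h)
  obtain ⟨k, hk⟩ := d.gen _ h1 δ
  exact ⟨k, by rw [d.lam_pow hy, hk]⟩

theorem autGroup_E_le (Q : Subgroup Ω) : d.E.autGroup Q ≤ F.autGroup Q :=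
  Cfsg.Agent.S5139.autGroup_mono d.E_le_F Q

/-- `Aut_E(Q)` is normalized by `Aut_F(Q)`. -/
theorem conj_mem_autGroup_E {Q : Subgroup Ω} (hQ : Q ≤ M) {a b : MulAut Q} (ha : a ∈ F.autGroup Q)
    (hb : b ∈ d.E.autGroup Q) : a * b * a⁻¹ ∈ d.E.autGroup Q := by
  have hQS := hQ.trans d.le
  rw [mem_autGroup_iff d.E hQ] at hb ⊢
  rw [mem_autGroup_iff F hQS] at ha
  obtain ⟨hbF, -, gb, hgb, hb'⟩ := d.isMapOn_E_iff.1 hb
  obtain ⟨ga, hga⟩ := d.real ha
  refine d.isMapOn_E_of_real hQ (ga * gb * ga⁻¹) (by rw [d.π_conj]; exact hgb) fun x hx => ?_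
  have hx' : extFun a⁻¹ x ∈ Q := extFun_mem _ hx
  have hbx' : extFun b (extFun a⁻¹ x) ∈ Q := extFun_mem _ hx'
  have h1 : extFun (a * b * a⁻¹) x = extFun a (extFun b (extFun a⁻¹ x)) := by
    rw [extFun_mul _ _ hx, extFun_mul _ _ hx']
  have h2 : d.ι x = ga * d.ι (extFun a⁻¹ x) * ga⁻¹ := by
    rw [← hga _ hx', extFun_apply_inv a hx]
  refine ⟨hQS (extFun_mem _ hx), ?_⟩
  rw [h1, hga _ hbx', hb' _ hx', h2]
  group

/-- **Full automization.** -/
theorem isFullyAutomized_E [Finite S] [Fact p.Prime] (hS : IsPGroup p S) (hF : F.IsSaturated p)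
    {Q : Subgroup Ω} (hQn : F.IsFullyNormalized Q) (hQ : Q ≤ M) : d.E.IsFullyAutomized p Q := by
  have hQS := hQ.trans d.le
  haveI : Finite Q := Helper84_FusionRS.finite_of_le_S hQS
  have hfa := Helper84_FusionRS.IsSaturated.isFullyAutomized hS hF hQn
  have hrec := Helper84_FusionRS.IsSaturated.isReceptive_of_isFullyNormalized hS hF hQn
  have hsyl := Helper84_FusionSat.isSylowIn_of_isFullyAutomized F hfa
  have hMp : IsPGroup p M := hS.to_le d.le
  have hle : autInducedBy M Q ≤ d.E.autGroup Q := autInducedBy_le_autGroup d.E hQ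
  have heq : autInducedBy S Q ⊓ d.E.autGroup Q = autInducedBy M Q := by
    apply le_antisymm
    · rintro α ⟨hαS, hαE'⟩
      have hαE : α ∈ d.E.autGroup Q := hαE'
      obtain ⟨s, hs, hαs⟩ := (mem_autInducedBy_iff S Q α).1 hαS
      rw [mem_autGroup_iff d.E hQ] at hαE
      obtain ⟨-, -, h, hh, hαh⟩ := d.isMapOn_E_iff.1 hαE
      rw [mem_autInducedBy_iff]
      by_cases hI : d.TypeI Q
      · obtain ⟨y, hy, hyc, hyM⟩ := exists_cent_out d hrec hI
        obtain ⟨k, hk⟩ := exists_pow_mul_mem d hy hyM hs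
        refine ⟨s * y ^ k, hk, fun x => ?_⟩
        rw [hαs x]
        have h1 : y ^ k * (x : Ω) = x * y ^ k :=
          ((Commute.pow_left (hyc x x.2) k : Commute (y ^ k) (x : Ω))).eq
        calc s * (x : Ω) * s⁻¹ = s * ((x : Ω) * y ^ k * (y ^ k)⁻¹) * s⁻¹ := by
              rw [mul_inv_cancel_right]
          _ = s * (y ^ k * (x : Ω) * (y ^ k)⁻¹) * s⁻¹ := by rw [h1]
          _ = s * y ^ k * (x : Ω) * (s * y ^ k)⁻¹ := by group
      · refine ⟨s, ?_, hαs⟩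
        rw [← d.lam_eq_one_iff hs]
        have h1 : d.π (d.ι s) = d.π h := by
          apply d.π_eq_of_not_typeI hI
          intro x hx
          rw [← hαh x hx, extFun_apply α hx, hαs ⟨x, hx⟩]
          exact (d.ι_conj hs (hQS hx)).symm
        exact h1.trans hh
    · refine le_inf ?_ hle
      intro α hα
      obtain ⟨g, hg, hgα⟩ := (mem_autInducedBy_iff M Q α).1 hα
      exact (mem_autInducedBy_iff S Q α).2 ⟨g, d.le hg, hgα⟩
  apply Helper84_FusionRS.isFullyAutomized_of_isSylowIn _ hQ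
  refine ⟨hle, Helper84_FusionSat.isPGroup_autInducedBy hMp Q, ?_⟩
  rw [← heq]
  exact not_dvd_relIndex_inf hsyl (autGroup_E_le d Q)
    (fun a ha b hb => conj_mem_autGroup_E d hQ ha hb)

/-- **Receptivity.** -/
theorem isReceptive_E [Finite S] [Fact p.Prime] (hS : IsPGroup p S) (hF : F.IsSaturated p)
    {Q : Subgroup Ω} (hQn : F.IsFullyNormalized Q) (hQ : Q ≤ M) : d.E.IsReceptive Q := by
  have hQS := hQ.trans d.le
  have hrec := Helper84_FusionRS.IsSaturated.isReceptive_of_isFullyNormalized hS hF hQn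
  refine ⟨hQ, fun R φ hφ hrange => ?_⟩
  have hφF : φ ∈ F.Hom R := d.E_le_F R hφ
  have hf : IsMapOn d.E R (extHom φ) := isMapOn_extHom _ hφ
  obtain ⟨hfF, hRM, h, hh, hφh⟩ := d.isMapOn_E_iff.1 hf
  have hRS := hRM.trans d.le
  obtain ⟨ψ₀, hψ₀, hψ₀φ⟩ := hrec.2 R φ hφF hrange
  have hle : extender M R φ ≤ extender S R φ := by
    apply Subgroup.closure_mono
    rintro g ⟨hgM, hgN, h', hh', hgx⟩
    exact ⟨d.le hgM, hgN, h', d.le hh', hgx⟩
  have hNM : extender M R φ ≤ M := Helper84_FusionRS.extender_le' φ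
  have hRN : R ≤ extender S R φ :=
    Helper84_Fusion.le_extender S R φ hRS (fun x => hom_mem F hφF x)
  have hψ₁ : IsMapOn F (extender M R φ) (extHom ψ₀) := (isMapOn_extHom F hψ₀).mono hle
  have hψ₁φ : ∀ x (hx : x ∈ R), extHom ψ₀ x = φ ⟨x, hx⟩ := by
    intro x hx
    rw [extHom_apply ψ₀ (hRN hx)]
    exact hψ₀φ x hx (hRN hx)
  have himg : IsImage R (extHom φ) Q := by
    intro y
    rw [← hrange]
    constructor
    · rintro ⟨x, rfl⟩
      exact ⟨x, x.2, extHom_coe φ x⟩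
    · rintro ⟨x, hx, rfl⟩
      exact ⟨⟨x, hx⟩, (extHom_apply φ hx).symm⟩
  obtain ⟨g, hg⟩ := d.real hψ₁
  -- the desired map, as a function
  have key : ∃ ψ' : Ω → Ω, IsMapOn d.E (extender M R φ) ψ' ∧ ∀ x (hx : x ∈ R), ψ' x = φ ⟨x, hx⟩ := by
    by_cases hI : d.TypeI R
    · have hIQ : d.TypeI Q := d.typeI_of_isImage hI hfF himg
      obtain ⟨y, hy, hyc, hyM⟩ := exists_cent_out d hrec hIQ
      obtain ⟨k, hk⟩ := exists_pow_lam d hy hyM (d.π g)⁻¹
      have hyk : y ^ k ∈ S := S.pow_mem hy k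
      refine ⟨fun x => y ^ k * extHom ψ₀ x * (y ^ k)⁻¹, ?_, fun x hx => ?_⟩
      · refine d.isMapOn_E_of_real hNM (d.ι (y ^ k) * g) ?_ fun x hx => ⟨?_, ?_⟩
        · rw [map_mul]
          show d.lam (y ^ k) * d.π g = 1
          rw [hk, inv_mul_cancel]
        · exact S.mul_mem (S.mul_mem hyk (hψ₁.mem hx)) (S.inv_mem hyk)
        · rw [d.ι_conj hyk (hψ₁.mem hx), hg x hx]
          group
      · show y ^ k * extHom ψ₀ x * (y ^ k)⁻¹ = _
        rw [hψ₁φ x hx]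
        have hφQ : φ ⟨x, hx⟩ ∈ Q := by
          rw [← hrange]
          exact ⟨⟨x, hx⟩, rfl⟩
        have h1 : y ^ k * φ ⟨x, hx⟩ = φ ⟨x, hx⟩ * y ^ k :=
          ((Commute.pow_left (hyc _ hφQ) k : Commute (y ^ k) (φ ⟨x, hx⟩))).eq
        rw [h1, mul_inv_cancel_right]
    · refine ⟨extHom ψ₀, ?_, hψ₁φ⟩
      refine d.isMapOn_E_of_real hNM g ?_ fun x hx => ⟨hψ₁.mem hx, hg x hx⟩
      have h1 : d.π g = d.π h := by
        apply d.π_eq_of_not_typeI hI
        intro x hx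
        have hxN : x ∈ extender M R φ := by
          have : R ≤ extender M R φ :=
            Helper84_Fusion.le_extender M R φ hRM (fun x => hom_mem d.E hφ x)
          exact this hx
        rw [← hg x hxN, ← hφh x hx, hψ₁φ x hx, extHom_apply φ hx]
      exact h1.trans hh
  obtain ⟨ψ', ⟨ψ, hψ, hψx⟩, hψ'φ⟩ := key
  refine ⟨ψ, hψ, fun x hxR hxN => ?_⟩
  rw [hψx ⟨x, hxN⟩]
  exact hψ'φ x hxR

/-- Every subgroup of `M` is `E`-conjugate to a fully `F`-normalized subgroup. -/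
theorem exists_conj_fn [Finite S] {P : Subgroup Ω} (hP : P ≤ M) :
    ∃ Q, d.E.IsConj P Q ∧ F.IsFullyNormalized Q ∧ Q ≤ M := by
  have hPS := hP.trans d.le
  obtain ⟨Q₁, hPQ₁, hQ₁n⟩ := Helper84_FusionRS.exists_isFullyNormalized_conj F hPS
  obtain ⟨f, hf, himg⟩ := exists_isMapOn_of_isConj hPQ₁
  obtain ⟨s, hs, hf₀⟩ := d.exists_frattini hf hP
  obtain ⟨Q, hQ, hPQ⟩ := exists_isImage hf₀
  have hQM : Q ≤ M := isConj_le_right hPQ
  have hQS := hQM.trans d.le
  have hQ₁S := hQ₁n.1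
  -- `Q` is the image of `Q₁` under conjugation by `s⁻¹`
  have himg' : IsImage Q₁ (fun x => s⁻¹ * x * s⁻¹⁻¹) Q := by
    intro y
    rw [hQ y]
    constructor
    · rintro ⟨x, hx, rfl⟩
      exact ⟨f x, himg.mem hx, by rw [inv_inv]⟩
    · rintro ⟨z, hz, rfl⟩
      obtain ⟨x, hx, rfl⟩ := (himg z).1 hz
      exact ⟨x, hx, by rw [inv_inv]⟩
  have hsi : s⁻¹ ∈ S := S.inv_mem hs
  refine ⟨Q, hPQ, ⟨hQS, fun Q'' hQ'' => ?_⟩, hQM⟩
  have hc1 : F.IsConj Q₁ Q := isConj_of_isImage (IsMapOn.conj F hQ₁S hsi) himg'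
  have h1 := hQ₁n.2 Q'' (isConj_trans hc1 hQ'')
  have h2 := Helper85_PPrime2.card_normalizerIn_le_of_isImage
    (IsMapOn.conj F (normalizerIn_le S Q₁) hsi) hQ₁S himg'
  exact h1.trans h2

/-- **`E` is saturated.** -/
theorem isSaturated_E [Finite S] [Fact p.Prime] (hS : IsPGroup p S) (hF : F.IsSaturated p) :
    d.E.IsSaturated p := by
  intro P hP
  obtain ⟨Q, hPQ, hQn, hQM⟩ := exists_conj_fn d hP
  exact ⟨Q, hPQ, isFullyAutomized_E d hS hF hQn hQM, isReceptive_E d hS hF hQn hQM⟩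

/-- Powers of a realized automorphism are realized by powers. -/
theorem real_pow {P : Subgroup Ω} (β : MulAut P) (g : G)
    (hg : ∀ x ∈ P, d.ι (extFun β x) = g * d.ι x * g⁻¹) (k : ℕ) :
    ∀ x ∈ P, d.ι (extFun (β ^ k) x) = g ^ k * d.ι x * (g ^ k)⁻¹ := by
  induction k with
  | zero =>
    intro x hx
    rw [pow_zero, pow_zero, extFun_apply _ hx]
    simp
  | succ k ih =>
    intro x hx
    rw [pow_succ', extFun_mul _ _ hx, hg _ (extFun_mem _ hx), ih x hx, pow_succ']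
    group

/-- **`E` has `p`-power index in `F`.** -/
theorem hasPPowerIndexIn_E [Finite S] [hp : Fact p.Prime] (hhyp : F.hyperfocalSubgroup p ≤ M) :
    d.E.HasPPowerIndexIn F p := by
  refine ⟨d.E_le_F, hhyp, fun P hP => ?_⟩
  have hPS := hP.trans d.le
  haveI : Finite P := Helper84_FusionRS.finite_of_le_S hPS
  rintro _ ⟨α, hα, rfl⟩
  have h1 := Cfsg.Agent.S5124.coe_mem_of_mem_pResidual F p P α hα
  have hcl : Subgroup.closure {β : MulAut P | β ∈ F.autGroup P ∧ (orderOf β).Coprime p} ≤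
      d.E.autGroup P := by
    rw [Subgroup.closure_le]
    rintro β ⟨hβ, hco⟩
    show β ∈ d.E.autGroup P
    rw [mem_autGroup_iff d.E hP]
    rw [mem_autGroup_iff F hPS] at hβ
    obtain ⟨g, hg⟩ := d.real hβ
    -- `β = β ^ (p * m)`
    have hex : ∃ m : ℕ, β ^ (p * m) = β := by
      by_cases h1 : orderOf β = 1
      · rw [orderOf_eq_one_iff] at h1
        exact ⟨0, by rw [h1, one_pow]⟩
      · have hpos : 0 < orderOf β := orderOf_pos β
        have hlt : 1 < orderOf β := by omega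
        obtain ⟨m, -, hm⟩ := Nat.exists_mul_mod_eq_one_of_coprime hco.symm hlt
        refine ⟨m, ?_⟩
        rw [← pow_mod_orderOf, hm, pow_one]
    obtain ⟨m, hm⟩ := hex
    have h2 := real_pow d β g hg (p * m)
    rw [hm] at h2
    refine d.isMapOn_E_of_real hP (g ^ (p * m)) ?_ fun x hx => ⟨hPS (extFun_mem _ hx), h2 x hx⟩
    rw [map_pow, pow_mul, d.pow, one_pow]
  exact hcl h1

end Cfsg.Agent.Lib.Helper85_PIdx2
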