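import Mathlib
import Cfsg.Agent.Lib.Helper88_Biset7

/-!
# A transfer-like character of the automorphism group of a right-free biset (helper85)

`X` a finite `(T × T)`-set, free on the right, `lam : T → Γ` a homomorphism to a commutative group which takes the
same value on both coordinates of every element of a point stabilizer.  Then there is a weight `w : X → Γ` with
`w ((a, b) • x) = lam a / lam b * w x`, and `π g = ∏ w (g x) / w x` (product over representatives of the right
orbits) is a homomorphism `autR T X → Γ` with `π (ι s) = lam s ^ |X / T|`.  When `Γ` has exponent `p`, an element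
`c` commuting with the left action of a `p`-subgroup `P` has `π c = 1`, under a hypothesis on the points whose right
orbit is fixed by `P`.
-/

set_option autoImplicit false
set_option linter.style.haveILetI false

namespace Cfsg.Agent.Lib.Helper85_PIdx3

open MulAction Cfsg.Agent.Lib.Helper88_Biset7

universe u v w

/-! ### Weights -/

/-- A character trivial on all point stabilizers is the ratio of a weight function. -/
theorem exists_weight {H : Type*} [Group H] {X : Type*} [MulAction H X] {Γ : Type*} [CommGroup Γ]
    (χ : H →* Γ) (hχ : ∀ (x : X) (h : H), h • x = x → χ h = 1) :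
    ∃ w : X → Γ, ∀ (q : H) (x : X), w (q • x) = χ q * w x := by
  classical
  let r : X → X := fun x => Quotient.out (Quotient.mk (MulAction.orbitRel H X) x)
  have hr : ∀ x, ∃ h : H, h • r x = x := by
    intro x
    have h1 : (MulAction.orbitRel H X) (r x) x := Quotient.exact (Quotient.out_eq _)
    obtain ⟨h, hh⟩ := h1
    have hh' : h • x = r x := hh
    refine ⟨h⁻¹, ?_⟩
    rw [← hh', inv_smul_smul]
  have hrq : ∀ (q : H) (x : X), r (q • x) = r x := by
    intro q x
    show Quotient.out _ = Quotient.out _
    congr 1
    exact Quotient.sound ⟨q, rfl⟩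
  choose c hc using hr
  refine ⟨fun x => χ (c x), fun q x => ?_⟩
  have h1 := hc (q • x)
  rw [hrq] at h1
  have h2 : ((q * c x)⁻¹ * c (q • x)) • r x = r x := by
    have e : q • x = (q * c x) • r x := by rw [mul_smul, hc x]
    rw [mul_smul, h1, e, inv_smul_smul]
  have h3 := hχ _ _ h2
  rw [map_mul, map_inv, inv_mul_eq_one, map_mul] at h3
  exact h3.symm

variable {T : Type u} [Group T] {X : Type v} [MulAction (T × T) X] {Γ : Type w} [CommGroup Γ]

/-- The character `(a, b) ↦ lam a / lam b` of `T × T`. -/
def chi (lam : T →* Γ) : T × T →* Γ :=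
  (lam.comp (MonoidHom.fst T T)) / (lam.comp (MonoidHom.snd T T))

theorem chi_apply (lam : T →* Γ) (q : T × T) : chi lam q = lam q.1 / lam q.2 := rfl

/-! ### The orbit permutation -/

/-- The permutation of the right orbits induced by an element of `autR T X`. -/
def actR (g : autR T X) : Equiv.Perm (ROrb T X) where
  toFun := Quotient.map (g : Equiv.Perm X) (by
    rintro x y ⟨t, rfl⟩
    exact ⟨t, (autR_apply g t x).symm⟩)
  invFun := Quotient.map ((g⁻¹ : autR T X) : Equiv.Perm X) (by
    rintro x y ⟨t, rfl⟩
    exact ⟨t, (autR_apply g⁻¹ t x).symm⟩)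
  left_inv := by
    intro o
    induction o using Quotient.inductionOn with
    | _ x =>
      show Quotient.mk _ (((g⁻¹ : autR T X) : Equiv.Perm X) ((g : Equiv.Perm X) x)) = Quotient.mk _ x
      congr 1
      show ((g : Equiv.Perm X))⁻¹ ((g : Equiv.Perm X) x) = x
      simp
  right_inv := by
    intro o
    induction o using Quotient.inductionOn with
    | _ x =>
      show Quotient.mk _ ((g : Equiv.Perm X) (((g⁻¹ : autR T X) : Equiv.Perm X) x)) = Quotient.mk _ x
      congr 1
      show (g : Equiv.Perm X) (((g : Equiv.Perm X))⁻¹ x) = x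
      simp

theorem actR_mk (g : autR T X) (x : X) :
    actR g (Quotient.mk (rsetoid T X) x) = Quotient.mk (rsetoid T X) ((g : Equiv.Perm X) x) := rfl

/-- `actR` as a homomorphism. -/
def actRHom : autR T X →* Equiv.Perm (ROrb T X) where
  toFun := actR
  map_one' := by
    ext o
    induction o using Quotient.inductionOn with
    | _ x => rfl
  map_mul' g h := by
    ext o
    induction o using Quotient.inductionOn with
    | _ x => rfl

theorem actRHom_mk (g : autR T X) (x : X) :
    actRHom g (Quotient.mk (rsetoid T X) x) = Quotient.mk (rsetoid T X) ((g : Equiv.Perm X) x) := rfl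

/-! ### The character -/

section Pi

variable (lam : T →* Γ) (w : X → Γ)

/-- The local ratio. -/
def Dg (g : Equiv.Perm X) (x : X) : Γ := w (g x) / w x

theorem Dg_mul (g h : Equiv.Perm X) (x : X) : Dg w (g * h) x = Dg w g (h x) * Dg w h x := by
  unfold Dg
  rw [Equiv.Perm.mul_apply, div_mul_div_cancel]

variable {lam w} (hw : ∀ (q : T × T) (x : X), w (q • x) = chi lam q * w x)

include hw in
theorem Dg_smul (g : autR T X) (t : T) (x : X) :
    Dg w (g : Equiv.Perm X) (((1 : T), t) • x) = Dg w (g : Equiv.Perm X) x := by
  unfold Dg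
  rw [autR_apply, hw, hw, mul_div_mul_left_eq_div]

variable (w) in
/-- The ratio as a function of the right orbit. -/
noncomputable def Dbar (g : Equiv.Perm X) (o : ROrb T X) : Γ := Dg w g (Quotient.out o)

include hw in
theorem Dbar_mk (g : autR T X) (x : X) :
    Dbar w (g : Equiv.Perm X) (Quotient.mk (rsetoid T X) x) = Dg w (g : Equiv.Perm X) x := by
  obtain ⟨t, ht⟩ := exists_coord (T := T) x
  unfold Dbar
  conv_rhs => rw [← ht, Dg_smul hw]
  rfl

variable [Fintype (ROrb T X)]

/-- **The character** of `autR T X`. -/
noncomputable def piHom : autR T X →* Γ :=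
  MonoidHom.mk' (fun g => ∏ o : ROrb T X, Dbar w (g : Equiv.Perm X) o) (by
    intro g h
    have h1 : ∀ o : ROrb T X, Dbar w ((g * h : autR T X) : Equiv.Perm X) o =
        Dbar w (g : Equiv.Perm X) (actRHom h o) * Dbar w (h : Equiv.Perm X) o := by
      intro o
      have h2 : actRHom h o = Quotient.mk (rsetoid T X) ((h : Equiv.Perm X) (Quotient.out o)) := by
        conv_lhs => rw [← Quotient.out_eq o]
        rfl
      rw [h2, Dbar_mk hw]
      exact Dg_mul w _ _ _
    rw [Finset.prod_congr rfl (fun o _ => h1 o), Finset.prod_mul_distrib,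
      Equiv.prod_comp (actRHom h) (Dbar w (g : Equiv.Perm X))])

theorem piHom_apply (g : autR T X) :
    piHom hw g = ∏ o : ROrb T X, Dbar w (g : Equiv.Perm X) o := rfl

theorem piHom_iota (s : T) : piHom hw (iota T X s) = lam s ^ Fintype.card (ROrb T X) := by
  rw [piHom_apply]
  have h1 : ∀ o : ROrb T X, Dbar w ((iota T X s : autR T X) : Equiv.Perm X) o = lam s := by
    intro o
    unfold Dbar Dg
    rw [iota_apply, hw, chi_apply, map_one, div_one, mul_div_cancel_right]
  rw [Finset.prod_congr rfl (fun o _ => h1 o), Finset.prod_const, Finset.card_univ]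

end Pi

/-! ### The number of right orbits -/

theorem card_ROrb [Finite X] [Finite T]
    (hfree : ∀ (x : X) (t : T), ((1 : T), t) • x = x → t = 1) :
    Nat.card (ROrb T X) * Nat.card T = Nat.card X := by
  rw [← Nat.card_prod]
  apply Nat.card_congr
  refine
    { toFun := fun ot => ((1 : T), ot.2) • Quotient.out ot.1
      invFun := fun x => (Quotient.mk (rsetoid T X) x, coord (T := T) x)
      left_inv := ?_
      right_inv := ?_ }
  · rintro ⟨o, t⟩
    have h1 : Quotient.mk (rsetoid T X) (((1 : T), t) • Quotient.out o) = o := by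
      rw [mk_smul]
      exact Quotient.out_eq o
    have h2 : coord (T := T) (Quotient.out o) = 1 := by
      have h3 := coord_spec (T := T) (Quotient.out o)
      have h4 : rep (T := T) (Quotient.out o) = Quotient.out o := by
        unfold rep
        rw [Quotient.out_eq]
      rw [h4] at h3
      exact hfree _ _ h3
    ext
    · exact h1
    · show coord (T := T) (((1 : T), t) • Quotient.out o) = t
      rw [coord_smul hfree, h2, mul_one]
  · intro x
    exact coord_spec (T := T) x

/-! ### Products of invariant functions over sets with an action of a `p`-group -/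

/-- The product of a function invariant under a `p`-group of permutations, with values in a group of exponent `p`,
is the product over the fixed points. -/
theorem prod_eq_prod_fixed {O : Type*} [Fintype O] [DecidableEq O] {p : ℕ} [Fact p.Prime]
    (hΓ : ∀ γ : Γ, γ ^ p = 1) (A : Subgroup (Equiv.Perm O)) (hA : IsPGroup p A) (Fn : O → Γ)
    (hFn : ∀ σ ∈ A, ∀ o, Fn (σ o) = Fn o) [DecidablePred fun o : O => ∀ σ ∈ A, σ o = o] :
    ∏ o, Fn o = ∏ o ∈ Finset.univ.filter (fun o => ∀ σ ∈ A, σ o = o), Fn o := by
  classical
  have key : ∀ (n : ℕ) (s : Finset O), s.card = n → (∀ σ ∈ A, ∀ o ∈ s, σ o ∈ s) →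
      ∏ o ∈ s, Fn o = ∏ o ∈ s.filter (fun o => ∀ σ ∈ A, σ o = o), Fn o := by
    intro n
    induction n using Nat.strong_induction_on with
    | _ n ih =>
    intro s hs hinv
    by_cases hall : ∀ o ∈ s, ∀ σ ∈ A, σ o = o
    · rw [Finset.filter_true_of_mem hall]
    · push Not at hall
      obtain ⟨o₀, ho₀, σ₀, hσ₀, hne⟩ := hall
      set B : Finset O := Finset.univ.filter (fun o => ∃ σ ∈ A, σ o₀ = o) with hB
      have hBs : B ⊆ s := by
        intro o ho
        rw [hB, Finset.mem_filter] at ho
        obtain ⟨-, σ, hσ, rfl⟩ := ho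
        exact hinv σ hσ o₀ ho₀
      have ho₀B : o₀ ∈ B := by
        rw [hB, Finset.mem_filter]
        exact ⟨Finset.mem_univ _, 1, A.one_mem, rfl⟩
      -- the product over `B` is trivial
      have hBprod : ∏ o ∈ B, Fn o = 1 := by
        have h1 : ∀ o ∈ B, Fn o = Fn o₀ := by
          intro o ho
          rw [hB, Finset.mem_filter] at ho
          obtain ⟨-, σ, hσ, rfl⟩ := ho
          exact hFn σ hσ o₀
        rw [Finset.prod_congr rfl h1, Finset.prod_const]
        -- the cardinality of `B` is a positive power of `p`
        have hBorb : (B : Set O) = MulAction.orbit A o₀ := by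
          ext o
          rw [hB]
          simp only [Finset.coe_filter, Finset.mem_univ, true_and, Set.mem_setOf_eq,
            MulAction.mem_orbit_iff]
          constructor
          · rintro ⟨σ, hσ, rfl⟩
            exact ⟨⟨σ, hσ⟩, rfl⟩
          · rintro ⟨σ, rfl⟩
            exact ⟨σ, σ.2, rfl⟩
        obtain ⟨k, hk⟩ := hA.card_orbit o₀
        have hcard : B.card = p ^ k := by
          rw [← hk, ← hBorb, Nat.card_coe_set_eq, Set.ncard_coe_finset]
        have hk0 : k ≠ 0 := by
          rintro rfl
          rw [pow_zero] at hcard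
          obtain ⟨b, hb⟩ := Finset.card_eq_one.1 hcard
          have h2 : o₀ = b := by
            have := ho₀B
            rw [hb, Finset.mem_singleton] at this
            exact this
          have h3 : σ₀ o₀ ∈ B := by
            rw [hB, Finset.mem_filter]
            exact ⟨Finset.mem_univ _, σ₀, hσ₀, rfl⟩
          rw [hb, Finset.mem_singleton] at h3
          exact hne (h3.trans h2.symm)
        obtain ⟨k', rfl⟩ := Nat.exists_eq_succ_of_ne_zero hk0
        rw [hcard, pow_succ', pow_mul, hΓ, one_pow]
      have hsd : (s \ B).card < n := by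
        rw [← hs]
        apply Finset.card_lt_card
        refine ⟨Finset.sdiff_subset, fun h => ?_⟩
        have := h ho₀
        rw [Finset.mem_sdiff] at this
        exact this.2 ho₀B
      have hinv' : ∀ σ ∈ A, ∀ o ∈ s \ B, σ o ∈ s \ B := by
        intro σ hσ o ho
        rw [Finset.mem_sdiff] at ho ⊢
        refine ⟨hinv σ hσ o ho.1, fun h => ho.2 ?_⟩
        rw [hB, Finset.mem_filter] at h ⊢
        obtain ⟨-, τ, hτ, hτo⟩ := h
        refine ⟨Finset.mem_univ _, σ⁻¹ * τ, A.mul_mem (A.inv_mem hσ) hτ, ?_⟩
        rw [Equiv.Perm.mul_apply, hτo]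
        simp
      have h1 := ih _ hsd (s \ B) rfl hinv'
      have h2 : (s \ B).filter (fun o => ∀ σ ∈ A, σ o = o) =
          s.filter (fun o => ∀ σ ∈ A, σ o = o) := by
        ext o
        simp only [Finset.mem_filter, Finset.mem_sdiff]
        constructor
        · rintro ⟨⟨h3, -⟩, h4⟩
          exact ⟨h3, h4⟩
        · rintro ⟨h3, h4⟩
          refine ⟨⟨h3, fun hoB => ?_⟩, h4⟩
          rw [hB, Finset.mem_filter] at hoB
          obtain ⟨-, τ, hτ, rfl⟩ := hoB
          apply hne
          have h5 := h4 (τ * σ₀ * τ⁻¹) (A.mul_mem (A.mul_mem hτ hσ₀) (A.inv_mem hτ))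
          rw [Equiv.Perm.mul_apply, Equiv.Perm.mul_apply] at h5
          have h6 : τ⁻¹ (τ o₀) = o₀ := by simp
          rw [h6] at h5
          exact τ.injective h5
      rw [← Finset.prod_sdiff hBs, hBprod, mul_one, h1, h2]
  have h := key _ Finset.univ rfl (fun _ _ _ _ => Finset.mem_univ _)
  rw [h]

end Cfsg.Agent.Lib.Helper85_PIdx3
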