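import Mathlib
import Cfsg.Agent.Lib.Helper85_PIdx3

/-!
# Vanishing of the transfer-like character on centralizers (helper85)

With the notation of `Helper85_PIdx3`: if `Γ` has exponent `p`, `P` is a `p`-subgroup of `T`, and `c ∈ autR T X`
commutes with the left action of `P`, then `π c = 1` provided that for every point `y` whose right orbit is fixed by
`P`, every `b : T` such that `y` and `y · b` have the same stabilizer in `P × T` has `lam b = 1`.
-/

set_option autoImplicit false
set_option linter.style.haveILetI false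

namespace Cfsg.Agent.Lib.Helper85_PIdx4

open MulAction Cfsg.Agent.Lib.Helper88_Biset7 Cfsg.Agent.Lib.Helper85_PIdx3

universe u v w

variable {T : Type u} [Group T] {X : Type v} [MulAction (T × T) X] {Γ : Type w} [CommGroup Γ]
  {lam : T →* Γ} {w : X → Γ} (hw : ∀ (q : T × T) (x : X), w (q • x) = chi lam q * w x)
  [Fintype (ROrb T X)]

theorem pi_eq_one_of_commute {p : ℕ} [Fact p.Prime] (hΓ : ∀ γ : Γ, γ ^ p = 1) (P : Subgroup T)
    (hP : IsPGroup p P) (c : autR T X)
    (hc : ∀ a ∈ P, ∀ x : X, (c : Equiv.Perm X) ((a, (1 : T)) • x) = (a, (1 : T)) • (c : Equiv.Perm X) x)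
    (hII : ∀ (y : X) (b : T), (∀ a ∈ P, ∃ t : T, (a, t) • y = y) →
      (∀ q : T × T, q.1 ∈ P → (q • (((1 : T), b) • y) = ((1 : T), b) • y ↔ q • y = y)) → lam b = 1) :
    piHom hw c = 1 := by
  classical
  set A : Subgroup (Equiv.Perm (ROrb T X)) := P.map ((actRHom (T := T) (X := X)).comp (iota T X))
    with hA
  have hAp : IsPGroup p A := hP.map _
  have hcomm : ∀ a ∈ P, c * iota T X a = iota T X a * c := by
    intro a ha
    apply Subtype.ext
    apply Equiv.ext
    intro x
    exact hc a ha x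
  have hcq : ∀ q : T × T, q.1 ∈ P → ∀ x : X, (c : Equiv.Perm X) (q • x) = q • (c : Equiv.Perm X) x := by
    rintro ⟨a, b⟩ ha x
    have e : ((a, b) : T × T) = (a, (1 : T)) * ((1 : T), b) := by ext <;> simp
    rw [e, mul_smul, hc a ha, autR_apply, mul_smul]
  have hinv : ∀ σ ∈ A, ∀ o, Dbar w (c : Equiv.Perm X) (σ o) = Dbar w (c : Equiv.Perm X) o := by
    rintro _ ⟨a, ha, rfl⟩ o
    induction o using Quotient.inductionOn with
    | _ x =>
      show Dbar w (c : Equiv.Perm X) (actRHom (iota T X a) (Quotient.mk _ x)) = _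
      rw [actRHom_mk, Dbar_mk hw, Dbar_mk hw]
      unfold Dg
      rw [iota_apply, hc a ha x, hw, hw, mul_div_mul_left_eq_div]
  rw [piHom_apply, prod_eq_prod_fixed hΓ A hAp _ hinv]
  set Fix : Finset (ROrb T X) := Finset.univ.filter (fun o => ∀ σ ∈ A, σ o = o) with hFix
  have hmemFix : ∀ o, o ∈ Fix ↔ ∀ a ∈ P, actRHom (iota T X a) o = o := by
    intro o
    rw [hFix, Finset.mem_filter]
    constructor
    · rintro ⟨-, h⟩ a ha
      exact h _ ⟨a, ha, rfl⟩
    · intro h
      refine ⟨Finset.mem_univ _, ?_⟩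
      rintro _ ⟨a, ha, rfl⟩
      exact h a ha
  -- `c` permutes the fixed orbits
  have hFixc : ∀ o, o ∈ Fix ↔ actRHom c o ∈ Fix := by
    intro o
    rw [hmemFix, hmemFix]
    have h1 : ∀ a ∈ P, actRHom (iota T X a) (actRHom c o) = actRHom c (actRHom (iota T X a) o) := by
      intro a ha
      rw [← Equiv.Perm.mul_apply, ← Equiv.Perm.mul_apply, ← map_mul, ← map_mul, hcomm a ha]
    constructor
    · intro h a ha
      rw [h1 a ha, h a ha]
    · intro h a ha
      have h2 := h a ha
      rw [h1 a ha] at h2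
      exact (actRHom c).injective h2
  -- labels
  let Lab : X → Set (T × T) := fun x => {q | q.1 ∈ P ∧ q • x = x}
  have hLabc : ∀ x, Lab ((c : Equiv.Perm X) x) = Lab x := by
    intro x
    ext q
    constructor
    · rintro ⟨hq, h⟩
      refine ⟨hq, ?_⟩
      rw [← hcq q hq] at h
      exact (c : Equiv.Perm X).injective h
    · rintro ⟨hq, h⟩
      refine ⟨hq, ?_⟩
      rw [← hcq q hq, h]
  let LL : ROrb T X → Set (Set (T × T)) := fun o => {L | ∃ x, Quotient.mk (rsetoid T X) x = o ∧ Lab x = L}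
  have hLLc : ∀ o, LL (actRHom c o) = LL o := by
    intro o
    ext L
    constructor
    · rintro ⟨x, hx, rfl⟩
      refine ⟨((c⁻¹ : autR T X) : Equiv.Perm X) x, ?_, ?_⟩
      · rw [← actRHom_mk, hx, ← Equiv.Perm.mul_apply, ← map_mul, inv_mul_cancel, map_one]
        rfl
      · rw [← hLabc]
        congr 1
        show (c : Equiv.Perm X) (((c : Equiv.Perm X))⁻¹ x) = x
        simp
    · rintro ⟨x, hx, rfl⟩
      exact ⟨(c : Equiv.Perm X) x, by rw [← hx, actRHom_mk], hLabc x⟩
  have hLLne : ∀ o, (LL o).Nonempty := fun o =>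
    ⟨Lab (Quotient.out o), Quotient.out o, Quotient.out_eq o, rfl⟩
  let ν : Set (Set (T × T)) → Set (T × T) := fun 𝒮 => if h : 𝒮.Nonempty then h.some else ∅
  have hν : ∀ o, ∃ x, Quotient.mk (rsetoid T X) x = o ∧ Lab x = ν (LL o) := by
    intro o
    have h1 : ν (LL o) ∈ LL o := by
      simp only [ν, dif_pos (hLLne o)]
      exact (hLLne o).some_mem
    exact h1
  choose xs hxs1 hxs2 using hν
  -- the key property of the representatives
  have hkey : ∀ o ∈ Fix, w ((c : Equiv.Perm X) (xs o)) = w (xs (actRHom c o)) := by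
    intro o ho
    set o' := actRHom c o with ho'
    have ho'Fix : o' ∈ Fix := (hFixc o).1 ho
    have h1 : Quotient.mk (rsetoid T X) (xs o') =
        Quotient.mk (rsetoid T X) ((c : Equiv.Perm X) (xs o)) := by
      rw [hxs1 o', ← actRHom_mk, hxs1 o]
    obtain ⟨b, hb⟩ := Quotient.exact h1
    have hb' : ((1 : T), b) • xs o' = (c : Equiv.Perm X) (xs o) := hb
    have h2 : Lab (((1 : T), b) • xs o') = Lab (xs o') := by
      rw [hb', hLabc, hxs2, hxs2, ho', hLLc]
    have hfix : ∀ a ∈ P, ∃ t : T, (a, t) • xs o' = xs o' := by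
      intro a ha
      have h3 := (hmemFix o').1 ho'Fix a ha
      rw [← hxs1 o', actRHom_mk, iota_apply] at h3
      obtain ⟨t, ht⟩ := Quotient.exact h3
      have ht' : ((1 : T), t) • (a, (1 : T)) • xs o' = xs o' := ht
      refine ⟨t, ?_⟩
      rw [← mul_smul] at ht'
      have e : (((1 : T), t) : T × T) * (a, (1 : T)) = (a, t) := by ext <;> simp
      rw [e] at ht'
      exact ht'
    have h4 : lam b = 1 := by
      refine hII (xs o') b hfix fun q hq => ?_
      have h5 : q ∈ Lab (((1 : T), b) • xs o') ↔ q ∈ Lab (xs o') := by rw [h2]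
      constructor
      · intro h
        exact (h5.1 ⟨hq, h⟩).2
      · intro h
        exact (h5.2 ⟨hq, h⟩).2
    rw [← hb', hw, chi_apply, map_one, h4, div_one, one_mul]
  -- the product telescopes
  have h1 : ∀ o ∈ Fix, Dbar w (c : Equiv.Perm X) o = w (xs (actRHom c o)) / w (xs o) := by
    intro o ho
    conv_lhs => rw [← hxs1 o]
    rw [Dbar_mk hw]
    unfold Dg
    rw [hkey o ho]
  rw [Finset.prod_congr rfl h1, Finset.prod_div_distrib, div_eq_one]
  exact Finset.prod_equiv (actRHom c) hFixc (fun o _ => rfl)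

end Cfsg.Agent.Lib.Helper85_PIdx4
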