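import Mathlib
import Cfsg.Prelude.Def_FusionSystem
import Cfsg.Agent.Lib.Helper87_Alperin
import Cfsg.Agent.Lib.Helper88_Biset6
import Cfsg.Agent.Lib.Helper88_Biset7
import Cfsg.Agent.Lib.Helper85_PIdx4

/-!
# A realizing group with a character, for a saturated system over the whole group (helper85)

`F` saturated over the finite `p`-group `T` (as the top subgroup of itself), `lam : T → Γ` an `F`-invariant
homomorphism to a commutative group of exponent `p`.  Then Park's group `G` (the automorphisms of a characteristic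
biset commuting with the right action) realizes `F`, and has a homomorphism `π : G → Γ` extending `lam` which is trivial
on the centralizer of `P` whenever `lam` is trivial on the centralizers in `T` of all the `F`-conjugates of `P`.
-/

set_option autoImplicit false
set_option linter.style.haveILetI false

namespace Cfsg.Agent.Lib.Helper85_PIdx5

open Cfsg Cfsg.FusionSystem MulAction Cfsg.Agent.Lib.Helper87_Alperin Cfsg.Agent.Lib.Helper88_Marks
  Cfsg.Agent.Lib.Helper88_Biset1 Cfsg.Agent.Lib.Helper88_Biset2 Cfsg.Agent.Lib.Helper88_Biset3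
  Cfsg.Agent.Lib.Helper88_Biset5 Cfsg.Agent.Lib.Helper88_Biset6 Cfsg.Agent.Lib.Helper88_Biset7
  Cfsg.Agent.Lib.Helper88_Centric
  Cfsg.Agent.Lib.Helper85_PIdx3 Cfsg.Agent.Lib.Helper85_PIdx4

universe u w

variable {T : Type u} [Group T] {F : FusionSystem (⊤ : Subgroup T)}

/-- A characteristic biset has a point whose stabilizer is the graph of an automorphism. -/
theorem exists_top_point [Finite T] {p : ℕ} [Fact p.Prime] (hT : IsPGroup p (⊤ : Subgroup T))
    {J : Type u} [Fintype J] (D : J → Subgroup (T × T)) (hD : ∀ j, IsFGraph F (D j)) {m : ℕ}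
    (hcard : Nat.card (Union D) = m * Nat.card T) (hpm : ¬ p ∣ m) :
    ∃ (ξ : Union D) (β : MulAut ↥(⊤ : Subgroup T)), β ∈ F.autGroup ⊤ ∧
      stabilizer (T × T) ξ = agraph β := by
  have hex : ∃ j, ¬ Nat.card (D j) < Nat.card T := by
    by_contra hne
    push Not at hne
    apply hpm
    have h1 : p * Nat.card T ∣ Nat.card (Union D) := by
      rw [card_union]
      apply Finset.dvd_sum
      intro j _
      exact card_div_dvd hT (hD j) (hne j)
    rw [hcard] at h1
    exact (Nat.mul_dvd_mul_iff_right Nat.card_pos).1 h1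
  obtain ⟨j, hj⟩ := hex
  have hle : Nat.card (D j) ≤ Nat.card T := by
    rw [← IsFGraph.card_map_snd (hD j)]
    exact Subgroup.card_le_card_group _
  have hc : Nat.card (D j) = Nat.card T := by omega
  obtain ⟨β, hβ, hDβ⟩ := exists_eq_agraph (hD j) hc
  refine ⟨⟨j, ((1 : T × T) : (T × T) ⧸ D j)⟩, β, hβ, ?_⟩
  rw [stabilizer_union, map_conj_one, hDβ]

theorem exists_datum_top [Finite T] {p : ℕ} [hp : Fact p.Prime] (hT : IsPGroup p (⊤ : Subgroup T))
    (hF : F.IsSaturated p) {Γ : Type w} [CommGroup Γ] (hΓ : ∀ γ : Γ, γ ^ p = 1) (lam : T →* Γ)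
    (hlam : ∀ (P : Subgroup T) (f : T → T), IsMapOn F P f → ∀ x ∈ P, lam (f x) = lam x) :
    ∃ (G : Type u) (_ : Group G) (ι : T →* G) (π : G →* Γ), Function.Injective ι ∧
      (∀ s, π (ι s) = lam s) ∧
      (∀ (P : Subgroup T) (f : T → T), IsMapOn F P f → ∃ g : G, ∀ x ∈ P, ι (f x) = g * ι x * g⁻¹) ∧
      (∀ (P : Subgroup T) (f : T → T) (g : G), (∀ x ∈ P, ι (f x) = g * ι x * g⁻¹) → IsMapOn F P f) ∧
      (∀ P : Subgroup T,
        (∀ f : T → T, IsMapOn F P f → ∀ y : T, (∀ x ∈ P, y * f x = f x * y) → lam y = 1) →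
        ∀ c : G, (∀ x ∈ P, c * ι x = ι x * c) → π c = 1) := by
  classical
  obtain ⟨J, hJ, D, m, hD, hst, hcard, hpm⟩ := exists_char_biset hT hF
  have hX : IsFGen F (Union D) := isFGen_union D hD
  have hfree : ∀ (x : Union D) (t : T), ((1 : T), t) • x = x → t = 1 :=
    fun x t h => eq_one_of_smul_eq hX h
  letI : Fintype (ROrb T (Union D)) := Fintype.ofFinite _
  have hTp : IsPGroup p T := by
    intro x
    obtain ⟨k, hk⟩ := hT ⟨x, mem_top' x⟩
    exact ⟨k, by simpa [Subtype.ext_iff] using hk⟩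
  -- the weight
  have hχ : ∀ (x : Union D) (q : T × T), q • x = x → chi lam q = 1 := by
    rintro x ⟨a, b⟩ hq
    obtain ⟨Q, f, hf, hΔ⟩ := hX x
    obtain ⟨ha, hfa⟩ := (hΔ a b).1 hq
    rw [chi_apply]
    show lam a / lam b = 1
    rw [← hfa, hlam Q f hf a ha, div_self']
  obtain ⟨w, hw⟩ := exists_weight (chi lam) hχ
  -- the number of right orbits
  have hn : Fintype.card (ROrb T (Union D)) = m := by
    have h1 := card_ROrb (T := T) (X := Union D) hfree
    rw [hcard, Nat.card_eq_fintype_card] at h1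
    exact Nat.eq_of_mul_eq_mul_right Nat.card_pos h1
  have hco : Nat.Coprime m p := ((Nat.Prime.coprime_iff_not_dvd hp.out).2 hpm).symm
  obtain ⟨k, -, hk⟩ := Nat.exists_mul_mod_eq_one_of_coprime hco hp.out.one_lt
  -- base point
  obtain ⟨ξ₀, β, hβ, hξ₀⟩ := exists_top_point hT D hD hcard hpm
  have hα : IsMapOn F ⊤ (extFun β) := (mem_autGroup_iff F le_rfl β).1 hβ
  have hξ₀' : ∀ x : T, ((x, extFun β x) : T × T) • ξ₀ = ξ₀ := by
    intro x
    have h1 : (x, extFun β x) ∈ stabilizer (T × T) ξ₀ := by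
      rw [hξ₀, mem_agraph, homOfAut_eq_extFun]
    exact h1
  refine ⟨autR T (Union D), inferInstance, iota T (Union D), (piHom hw) ^ k, ?_, ?_, ?_, ?_, ?_⟩
  · -- injectivity
    rw [injective_iff_map_eq_one]
    intro s hs
    have h1 : ((s, (1 : T)) : T × T) • ξ₀ = ξ₀ := by
      rw [← iota_apply, hs]
      rfl
    obtain ⟨Q, f, hf, hΔ⟩ := hX ξ₀
    obtain ⟨hsQ, hfs⟩ := (hΔ s 1).1 h1
    exact hf.injOn hsQ Q.one_mem (by rw [hfs, hf.map_one])
  · -- `π ∘ ι = lam`
    intro s
    rw [MonoidHom.pow_apply, piHom_iota, hn, ← pow_mul]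
    have h1 := Nat.div_add_mod (m * k) p
    rw [hk] at h1
    rw [← h1, pow_succ, pow_mul, hΓ, one_pow, one_mul]
  · -- maps of `F` are realized
    rintro P f ⟨φ, hφ, hφf⟩
    obtain ⟨e, he⟩ := exists_equiv_of_marks_hom (X := Union D) (inclHom P) (twistHom φ)
      (fun H => mark_twist_eq hX hst hφ H Nat.card_pos)
    have hg : e ∈ autR T (Union D) := by
      intro t ξ
      have h1 := he ((1 : P), t) ξ
      rw [inclHom_apply, twistHom_apply, map_one] at h1
      exact h1
    refine ⟨⟨e, hg⟩, fun x hx => ?_⟩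
    rw [eq_mul_inv_iff_mul_eq]
    apply Subtype.ext
    apply Equiv.ext
    intro ξ
    show ((f x, (1 : T)) : T × T) • e ξ = e (((x, (1 : T)) : T × T) • ξ)
    have h1 := he (⟨x, hx⟩, (1 : T)) ξ
    rw [inclHom_apply, twistHom_apply] at h1
    rw [← hφf ⟨x, hx⟩]
    exact h1.symm
  · -- realized maps are maps of `F`
    intro P f g hg
    set η : Union D := (g : Equiv.Perm (Union D)) ξ₀ with hη
    obtain ⟨Q, h, hh, hΔ⟩ := hX η
    have hstab : ∀ x ∈ P, ((f x, extFun β x) : T × T) • η = η := by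
      intro x hx
      have h1 : iota T (Union D) (f x) * g = g * iota T (Union D) x := by
        rw [hg x hx]
        group
      have h2 := congrArg (fun z : autR T (Union D) => (z : Equiv.Perm (Union D)) ξ₀) h1
      simp only [Subgroup.coe_mul, Equiv.Perm.mul_apply, iota_apply] at h2
      have e1 : ((f x, extFun β x) : T × T) = ((1 : T), extFun β x) * (f x, (1 : T)) := by
        ext <;> simp
      have e2 : ((x, extFun β x) : T × T) = ((1 : T), extFun β x) * (x, (1 : T)) := by
        ext <;> simp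
      rw [e1, mul_smul, hη, h2, ← autR_apply, ← mul_smul, ← e2, hξ₀']
    have hfQ : ∀ x ∈ P, f x ∈ Q ∧ h (f x) = extFun β x := fun x hx => (hΔ _ _).1 (hstab x hx)
    obtain ⟨Q', hQ', -⟩ := exists_isImage hh
    obtain ⟨k', hk', hk'h, -, -⟩ := hh.inv hQ'
    have h1 : IsMapOn F P (k' ∘ extFun β) := by
      refine (hα.mono le_top).comp hk' fun x hx => ?_
      rw [← (hfQ x hx).2]
      exact hQ'.mem (hfQ x hx).1
    refine h1.congr fun x hx => ?_
    rw [Function.comp_apply, ← (hfQ x hx).2, hk'h _ (hfQ x hx).1]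
  · -- centralizers
    intro P hII c hc
    rw [MonoidHom.pow_apply]
    have h1 : piHom hw c = 1 := by
      refine pi_eq_one_of_commute hw hΓ P (hTp.to_subgroup P) c ?_ ?_
      · intro a ha x
        have h2 := congrArg (fun z : autR T (Union D) => (z : Equiv.Perm (Union D)) x) (hc a ha)
        simp only [Subgroup.coe_mul, Equiv.Perm.mul_apply, iota_apply] at h2
        exact h2
      · intro y b hfix hlab
        obtain ⟨Q, f, hf, hΔ⟩ := hX y
        have hPQ : P ≤ Q := by
          intro a ha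
          obtain ⟨t, ht⟩ := hfix a ha
          exact ((hΔ a t).1 ht).1
        refine hII f (hf.mono hPQ) b fun x hx => ?_
        have h2 : ((x, f x) : T × T) • y = y := (hΔ x (f x)).2 ⟨hPQ hx, rfl⟩
        have h3 := (hlab (x, f x) hx).2 h2
        have h4 : ((((1 : T), b) : T × T)⁻¹ * (x, f x) * ((1 : T), b)) • y = y := by
          rw [mul_smul, mul_smul, h3, inv_smul_smul]
        have e1 : (((1 : T), b) : T × T)⁻¹ * (x, f x) * ((1 : T), b) = (x, b⁻¹ * f x * b) := by
          ext <;> simp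
        rw [e1] at h4
        have h5 := ((hΔ _ _).1 h4).2
        calc b * f x = b * (b⁻¹ * f x * b) := by rw [← h5]
          _ = f x * b := by group
    rw [h1, one_pow]

end Cfsg.Agent.Lib.Helper85_PIdx5
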