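import Cfsg.Agent.Lib.Helper85_PIdx2
import Cfsg.Agent.Lib.Helper85_PIdx5
import Cfsg.Agent.Lib.Helper85_Transport2
import Cfsg.Agent.Lib.Helper85_ResLimit
import Cfsg.Agent.Lib.Helper34_Sylow
import Cfsg.Agent.S5120

/-!
# Existence of saturated subsystems of `p`-power index (helper85)

Transport of the realizing group with a character to a system over a subgroup `S` of an ambient group, the resulting
saturated subsystem over a subgroup of index `p` containing the hyperfocal subgroup, and the induction giving a saturated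
subsystem of `p`-power index over every subgroup containing the hyperfocal subgroup.
-/

set_option autoImplicit false
set_option linter.style.haveILetI false

namespace Cfsg.Agent.Lib.Helper85_PIdx6

open Cfsg Cfsg.FusionSystem Cfsg.Agent.Lib
open Cfsg.Agent.Lib.Helper87_Alperin Cfsg.Agent.Lib.Helper88_Centric
open Cfsg.Agent.Lib.Helper85_Transport Cfsg.Agent.Lib.Helper85_Transport2
open Cfsg.Agent.Lib.Helper85_PIdx1 Cfsg.Agent.Lib.Helper85_PIdx2 Cfsg.Agent.Lib.Helper85_PIdx5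

universe u w

/-- The version of `exists_datum_top` for a system over a subgroup equal to `⊤`. -/
theorem exists_datum_of_eq_top {T : Type u} [Group T] [Finite T] {p : ℕ} [Fact p.Prime]
    {S₀ : Subgroup T} (h : S₀ = ⊤) (F₀ : FusionSystem S₀) (hT : IsPGroup p S₀)
    (hF : F₀.IsSaturated p) {Γ : Type w} [CommGroup Γ] (hΓ : ∀ γ : Γ, γ ^ p = 1) (lam : T →* Γ)
    (hlam : ∀ (P : Subgroup T) (f : T → T), IsMapOn F₀ P f → ∀ x ∈ P, lam (f x) = lam x) :
    ∃ (G : Type u) (_ : Group G) (ι : T →* G) (π : G →* Γ), Function.Injective ι ∧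
      (∀ s, π (ι s) = lam s) ∧
      (∀ (P : Subgroup T) (f : T → T), IsMapOn F₀ P f → ∃ g : G, ∀ x ∈ P, ι (f x) = g * ι x * g⁻¹) ∧
      (∀ (P : Subgroup T) (f : T → T) (g : G), (∀ x ∈ P, ι (f x) = g * ι x * g⁻¹) → IsMapOn F₀ P f) ∧
      (∀ P : Subgroup T,
        (∀ f : T → T, IsMapOn F₀ P f → ∀ y : T, (∀ x ∈ P, y * f x = f x * y) → lam y = 1) →
        ∀ c : G, (∀ x ∈ P, c * ι x = ι x * c) → π c = 1) := by
  subst h
  exact exists_datum_top hT hF hΓ lam hlam

variable {Ω : Type u} [Group Ω] {S : Subgroup Ω}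

/-- **The realizing group with a character**, for a saturated system over a subgroup of an ambient group. -/
theorem exists_datum [Finite S] {p : ℕ} [hp : Fact p.Prime] (hS : IsPGroup p S) (F : FusionSystem S)
    (hF : F.IsSaturated p) {Γ : Type w} [CommGroup Γ] (hΓpow : ∀ γ : Γ, γ ^ p = 1)
    (hΓgen : ∀ γ : Γ, γ ≠ 1 → ∀ δ : Γ, ∃ k : ℕ, δ = γ ^ k) (lam₀ : ↥S →* Γ)
    (hlam : ∀ (P : Subgroup Ω) (f : Ω → Ω) (hf : IsMapOn F P f) (x : Ω) (hx : x ∈ P),
      lam₀ ⟨f x, hf.mem hx⟩ = lam₀ ⟨x, hf.le hx⟩)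
    (M : Subgroup Ω) (hMS : M ≤ S) (hker : ∀ s : ↥S, lam₀ s = 1 ↔ (s : Ω) ∈ M)
    (hout : ∃ s ∈ S, s ∉ M) :
    ∃ (G : Type u) (_ : Group G), Nonempty (Datum p F M G Γ) := by
  classical
  set e : S ≃* (⊤ : Subgroup ↥S) := Subgroup.topEquiv.symm with he
  have hcorr : SubCorr e F (pushSub e le_rfl F) := subCorr_pushSub le_rfl
  have hT : IsPGroup p ↥(push e S) := by
    rintro ⟨x, hx⟩
    obtain ⟨k, hk⟩ := hS x
    exact ⟨k, Subtype.ext hk⟩
  have hsat : (pushSub e le_rfl F).IsSaturated p := hcorr.isSaturated' hF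
  have hext : ∀ (x : Ω) (hx : x ∈ S), ext e x = ⟨x, hx⟩ := by
    intro x hx
    rw [ext_apply e hx]
    rfl
  have hext' : ∀ y : ↥S, ext e.symm y = (y : Ω) := by
    intro y
    rw [ext_apply e.symm (Subgroup.mem_top y)]
    rfl
  have hpsp : ∀ {P : Subgroup Ω}, P ≤ S → push e.symm (push e P) = P := fun hP => push_symm_push e hP
  have hlam' : ∀ (P' : Subgroup ↥S) (f' : ↥S → ↥S), IsMapOn (pushSub e le_rfl F) P' f' →
      ∀ x' ∈ P', lam₀ (f' x') = lam₀ x' := by
    intro P' f' hf' x' hx'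
    have h1 := hcorr.bwd P' f' hf'
    have hxP : (x' : Ω) ∈ push e.symm P' := by
      rw [mem_push]
      exact ⟨x', hx', Subgroup.mem_top _, hext' x'⟩
    have h2 := hlam _ _ h1 (x' : Ω) hxP
    have h3 : (ext e.symm ∘ f' ∘ ext e) (x' : Ω) = ((f' x' : ↥S) : Ω) := by
      simp only [Function.comp_apply]
      rw [hext _ x'.2, hext']
    have h4 : (⟨(ext e.symm ∘ f' ∘ ext e) (x' : Ω), h1.mem hxP⟩ : ↥S) = f' x' := Subtype.ext h3
    rw [h4] at h2
    exact h2
  obtain ⟨G, hG, ι', π, hinj, hπι, hreal, hreal', hcent⟩ :=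
    exists_datum_of_eq_top (push_self e) (pushSub e le_rfl F) hT hsat hΓpow lam₀ hlam'
  refine ⟨G, hG, ⟨?_⟩⟩
  have hι : ∀ (x : Ω) (hx : x ∈ S), (if h : x ∈ S then ι' ⟨x, h⟩ else 1) = ι' ⟨x, hx⟩ :=
    fun x hx => dif_pos hx
  refine
    { ι := fun x => if h : x ∈ S then ι' ⟨x, h⟩ else 1
      π := π
      ι_mul := ?_
      ι_inj := ?_
      real := ?_
      real' := ?_
      le := hMS
      ker := ?_
      out := hout
      pow := hΓpow
      gen := hΓgen
      cent := ?_ }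
  · intro x hx y hy
    rw [hι x hx, hι y hy, hι _ (S.mul_mem hx hy), ← map_mul]
    rfl
  · intro x hx y hy hxy
    rw [hι x hx, hι y hy] at hxy
    exact congrArg Subtype.val (hinj hxy)
  · intro P f hf
    obtain ⟨g, hg⟩ := hreal _ _ (hcorr.fwd P f hf)
    refine ⟨g, fun x hx => ?_⟩
    have hxS := hf.le hx
    have h1 := hg (ext e x) (ext_mem_push e hx hxS)
    simp only [Function.comp_apply] at h1
    rw [ext_symm_ext e hxS, hext x hxS, hext (f x) (hf.mem hx)] at h1
    rw [hι x hxS, hι _ (hf.mem hx)]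
    exact h1
  · intro P f g hP hfg
    have h1 : IsMapOn (pushSub e le_rfl F) (push e P) (ext e ∘ f ∘ ext e.symm) := by
      refine hreal' _ _ g fun x' hx' => ?_
      obtain ⟨x, hx, hxS, rfl⟩ := (mem_push e P x').1 hx'
      simp only [Function.comp_apply]
      rw [ext_symm_ext e hxS, hext x hxS, hext (f x) (hfg x hx).1]
      have h2 := (hfg x hx).2
      rw [hι x hxS, hι _ (hfg x hx).1] at h2
      exact h2
    have h2 := hcorr.bwd _ _ h1
    rw [hpsp hP] at h2
    refine h2.congr fun x hx => ?_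
    have hxS := hP hx
    simp only [Function.comp_apply]
    rw [ext_symm_ext e hxS, ext_symm_ext e (hfg x hx).1]
  · intro s hs
    rw [hι s hs, hπι]
    exact hker ⟨s, hs⟩
  · intro P hP hII c hc
    refine hcent (push e P) ?_ c ?_
    · intro f' hf' y' hy'
      have h1 := hcorr.bwd _ _ hf'
      rw [hpsp hP] at h1
      rw [hker y']
      refine hII _ h1 (y' : Ω) y'.2 fun x hx => ?_
      have hxS := hP hx
      have h2 := hy' (ext e x) (ext_mem_push e hx hxS)
      simp only [Function.comp_apply]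
      rw [hext']
      rw [hext x hxS] at h2
      rw [hext x hxS]
      have h3 := congrArg Subtype.val h2
      exact h3
    · intro x' hx'
      obtain ⟨x, hx, hxS, rfl⟩ := (mem_push e P x').1 hx'
      have h1 := hc x hx
      rw [hι x hxS] at h1
      rw [hext x hxS]
      exact h1

/-! ### The focal subgroup -/

/-- The maps `φ` of `F` with `x⁻¹ φ(x) ∈ M` for all `x`. -/
def mSystem (F : FusionSystem S) (M : Subgroup Ω)
    (hM : ∀ s ∈ S, ∀ x ∈ S, x⁻¹ * (s * x * s⁻¹) ∈ M) : FusionSystem S where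
  Hom P := {φ | φ ∈ F.Hom P ∧ ∀ x : P, (x : Ω)⁻¹ * φ x ∈ M}
  le_of_mem h := F.le_of_mem h.1
  injective_of_mem h := F.injective_of_mem h.1
  conj_mem := by
    intro P g hP hg
    exact ⟨F.conj_mem hP hg, fun x => hM g hg x (hP x.2)⟩
  comp_mem := by
    rintro P Q φ ψ ⟨hφ, hφh⟩ ⟨hψ, hψh⟩ h
    refine ⟨F.comp_mem hφ hψ h, fun x => ?_⟩
    have h1 := hφh x
    have h2 := hψh ⟨φ x, h x⟩
    have h3 := M.mul_mem h1 h2
    have e : (x : Ω)⁻¹ * φ x * ((φ x)⁻¹ * ψ ⟨φ x, h x⟩) = (x : Ω)⁻¹ * ψ ⟨φ x, h x⟩ := by group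
    rw [e] at h3
    exact h3
  inv_mem := by
    rintro P φ ⟨hφ, hφh⟩
    obtain ⟨ψ, hψ, hψv⟩ := F.inv_mem hφ
    refine ⟨ψ, ⟨hψ, ?_⟩, hψv⟩
    rintro ⟨_, x, rfl⟩
    rw [hψv x]
    have h1 := M.inv_mem (hφh x)
    rw [mul_inv_rev, inv_inv] at h1
    exact h1

/-- If `M` contains the hyperfocal subgroup and the commutators of `S`, it contains the focal subgroup. -/
theorem inv_mul_map_mem [Finite S] {p : ℕ} [Fact p.Prime] (hS : IsPGroup p S) (F : FusionSystem S)
    (hF : F.IsSaturated p) {M : Subgroup Ω}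
    (hM : ∀ s ∈ S, ∀ x ∈ S, x⁻¹ * (s * x * s⁻¹) ∈ M) (hhyp : F.hyperfocalSubgroup p ≤ M)
    {P : Subgroup Ω} {f : Ω → Ω} (hf : IsMapOn F P f) {x : Ω} (hx : x ∈ P) : x⁻¹ * f x ∈ M := by
  have hsub : F.IsSubsystemOf (mSystem F M hM) := by
    refine Helper87_Alperin.weak_alperin F hS hF _ ?_
    intro Q hQa hQr α hα
    obtain ⟨hQS, R, hR⟩ := hQa
    refine ⟨(Helper85_Fusion.mem_autGroup_iff F hQS α).1 hα, fun x => ?_⟩
    have hfinQ : Finite Q := Helper84_FusionRS.finite_of_le_S hQS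
    have hfinA : Finite (F.autGroup Q) := inferInstance
    obtain ⟨r, hr, m, hm, hrm⟩ := Helper34_Sylow.exists_mul_pResidual
      (R : Subgroup (F.autGroup Q)) R.not_dvd_index ⟨α, hα⟩
    rw [hR, Subgroup.mem_subgroupOf, Helper85_Fusion.mem_autInducedBy_iff] at hr
    obtain ⟨s, hs, hrs⟩ := hr
    have h1 : α = (r : MulAut Q) * (m : MulAut Q) := congrArg Subtype.val hrm
    show (x : Ω)⁻¹ * ((α x : Q) : Ω) ∈ M
    rw [h1]
    show (x : Ω)⁻¹ * (((r : MulAut Q) ((m : MulAut Q) x) : Q) : Ω) ∈ M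
    rw [hrs]
    have h2 : (x : Ω)⁻¹ * (((m : MulAut Q) x : Q) : Ω) ∈ M :=
      hhyp (Subgroup.subset_closure ⟨Q, m, x, hQS, hm, rfl⟩)
    have h3 := hM s hs _ (hQS ((m : MulAut Q) x).2)
    have h4 := M.mul_mem h2 h3
    have e : (x : Ω)⁻¹ * (((m : MulAut Q) x : Q) : Ω) *
        ((((m : MulAut Q) x : Q) : Ω)⁻¹ * (s * (((m : MulAut Q) x : Q) : Ω) * s⁻¹)) =
        (x : Ω)⁻¹ * (s * (((m : MulAut Q) x : Q) : Ω) * s⁻¹) := by group
    rw [e] at h4
    exact h4
  obtain ⟨φ, hφ, hφf⟩ := hf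
  have h1 := (hsub P hφ).2 ⟨x, hx⟩
  rw [hφf] at h1
  exact h1

/-! ### Subgroups of index `p` -/

/-- **A saturated subsystem of `p`-power index over a subgroup of index `p`** containing the hyperfocal subgroup. -/
theorem exists_index_p [Finite S] {p : ℕ} [hp : Fact p.Prime] (hS : IsPGroup p S) (F : FusionSystem S)
    (hF : F.IsSaturated p) (M : Subgroup Ω) (hMS : M ≤ S) (hidx : (M.subgroupOf S).index = p)
    (hhyp : F.hyperfocalSubgroup p ≤ M) :
    ∃ E : FusionSystem M, E.IsSaturated p ∧ E.HasPPowerIndexIn F p := by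
  classical
  -- normality
  have hnorm : (M.subgroupOf S).Normal := by
    apply Subgroup.normal_of_index_eq_minFac_card
    rw [hidx]
    obtain ⟨n, hn⟩ := hS.exists_card_eq
    have hn0 : n ≠ 0 := by
      rintro rfl
      rw [pow_zero] at hn
      have h1 : (M.subgroupOf S).index ∣ Nat.card S := Subgroup.index_dvd_card _
      rw [hidx, hn] at h1
      exact hp.out.one_lt.ne' (Nat.dvd_one.1 h1)
    rw [hn, Nat.Prime.pow_minFac hp.out hn0]
  set Γ := ↥S ⧸ M.subgroupOf S with hΓdef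
  have hcardΓ : Nat.card Γ = p := hidx
  haveI : IsCyclic Γ := isCyclic_of_prime_card hcardΓ
  letI : CommGroup Γ := IsCyclic.commGroup
  haveI : Finite Γ := Nat.finite_of_card_ne_zero (by rw [hcardΓ]; exact hp.out.ne_zero)
  set lam₀ : ↥S →* Γ := QuotientGroup.mk' (M.subgroupOf S) with hlam₀
  have hker : ∀ s : ↥S, lam₀ s = 1 ↔ (s : Ω) ∈ M := by
    intro s
    rw [hlam₀, QuotientGroup.mk'_apply, QuotientGroup.eq_one_iff, Subgroup.mem_subgroupOf]
  have hΓpow : ∀ γ : Γ, γ ^ p = 1 := by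
    intro γ
    rw [← hcardΓ]
    exact pow_card_eq_one'
  have hΓgen : ∀ γ : Γ, γ ≠ 1 → ∀ δ : Γ, ∃ k : ℕ, δ = γ ^ k := by
    intro γ hγ δ
    have h1 : Subgroup.zpowers γ = ⊤ := zpowers_eq_top_of_prime_card hcardΓ hγ
    have h2 : δ ∈ Subgroup.zpowers γ := by rw [h1]; exact Subgroup.mem_top δ
    rw [← mem_powers_iff_mem_zpowers, Submonoid.mem_powers_iff] at h2
    obtain ⟨k, hk⟩ := h2
    exact ⟨k, hk.symm⟩
  -- commutators lie in `M`
  have hM : ∀ s ∈ S, ∀ x ∈ S, x⁻¹ * (s * x * s⁻¹) ∈ M := by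
    intro s hs x hx
    have h1 : lam₀ (⟨x, hx⟩⁻¹ * (⟨s, hs⟩ * ⟨x, hx⟩ * ⟨s, hs⟩⁻¹)) = 1 := by
      rw [map_mul, map_mul, map_mul, map_inv, map_inv, mul_comm (lam₀ ⟨s, hs⟩), mul_inv_cancel_right,
        inv_mul_cancel]
    exact (hker _).1 h1
  have hlam : ∀ (P : Subgroup Ω) (f : Ω → Ω) (hf : IsMapOn F P f) (x : Ω) (hx : x ∈ P),
      lam₀ ⟨f x, hf.mem hx⟩ = lam₀ ⟨x, hf.le hx⟩ := by
    intro P f hf x hx
    have h1 := inv_mul_map_mem hS F hF hM hhyp hf hx
    have h2 : lam₀ (⟨x, hf.le hx⟩⁻¹ * ⟨f x, hf.mem hx⟩) = 1 := (hker _).2 h1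
    rw [map_mul, map_inv, inv_mul_eq_one] at h2
    exact h2.symm
  have hout : ∃ s ∈ S, s ∉ M := by
    by_contra hne
    push Not at hne
    have h1 : M.subgroupOf S = ⊤ := by
      rw [Subgroup.eq_top_iff']
      intro s
      exact Subgroup.mem_subgroupOf.2 (hne s s.2)
    rw [h1, Subgroup.index_top] at hidx
    exact hp.out.one_lt.ne' hidx.symm
  obtain ⟨G, hG, ⟨d⟩⟩ := exists_datum hS F hF hΓpow hΓgen lam₀ hlam M hMS hker hout
  exact ⟨d.E, isSaturated_E d hS hF, hasPPowerIndexIn_E d hhyp⟩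

/-! ### The induction -/

/-- **Existence of saturated subsystems of `p`-power index.** -/
theorem exists_pPower {p : ℕ} [hp : Fact p.Prime] :
    ∀ (n : ℕ) {S : Subgroup Ω} [Finite S], IsPGroup p S → ∀ F : FusionSystem S, F.IsSaturated p →
      Nat.card S = n → ∀ T : Subgroup Ω, T ≤ S → F.hyperfocalSubgroup p ≤ T →
      ∃ E : FusionSystem T, E.IsSaturated p ∧ E.HasPPowerIndexIn F p := by
  intro n
  induction n using Nat.strong_induction_on with
  | _ n ih =>
  intro S _ hS F hF hn T hTS hT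
  obtain rfl | hne := eq_or_ne T S
  · exact ⟨F, hF, Helper85_ResLimit.hasPPowerIndexIn_self F p⟩
  · -- a subgroup of index `p` containing `T`
    haveI : Finite T := Helper84_FusionRS.finite_of_le_S hTS
    obtain ⟨b, hb⟩ := hS.exists_card_eq
    have hTp : IsPGroup p (T.subgroupOf S) := hS.to_subgroup _
    obtain ⟨a, ha⟩ := hTp.exists_card_eq
    have hlt : T.subgroupOf S ≠ ⊤ := by
      intro h
      apply hne
      apply le_antisymm hTS
      intro s hs
      have : (⟨s, hs⟩ : ↥S) ∈ T.subgroupOf S := by rw [h]; exact Subgroup.mem_top _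
      exact Subgroup.mem_subgroupOf.1 this
    have hab : a < b := by
      have h1 : Nat.card (T.subgroupOf S) < Nat.card S := by
        by_contra hge
        push Not at hge
        exact hlt (Subgroup.eq_top_of_le_card _ hge)
      rw [ha, hb] at h1
      exact (Nat.pow_lt_pow_iff_right hp.out.one_lt).1 h1
    obtain ⟨K, hK, hTK⟩ := Sylow.exists_subgroup_card_pow_prime_le p
      (show p ^ (b - 1) ∣ Nat.card S by rw [hb]; exact pow_dvd_pow p (Nat.sub_le b 1))
      (T.subgroupOf S) ha (by omega)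
    set M : Subgroup Ω := K.map S.subtype with hMdef
    have hMS : M ≤ S := by
      rintro _ ⟨x, -, rfl⟩
      exact x.2
    have hMK : M.subgroupOf S = K := by
      rw [hMdef]
      exact Subgroup.comap_map_eq_self_of_injective S.subtype_injective K
    have hTM : T ≤ M := by
      intro t ht
      exact ⟨⟨t, hTS ht⟩, hTK (Subgroup.mem_subgroupOf.2 ht), rfl⟩
    have hidx : (M.subgroupOf S).index = p := by
      rw [hMK]
      have h1 := K.card_mul_index
      rw [hK, hb] at h1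
      have h2 : p ^ (b - 1) * p = p ^ b := by
        rw [← pow_succ]
        congr 1
        omega
      rw [← h2] at h1
      exact Nat.eq_of_mul_eq_mul_left (pow_pos hp.out.pos _) h1
    have hhypM : F.hyperfocalSubgroup p ≤ M := hT.trans hTM
    obtain ⟨E₁, hE₁s, hE₁i⟩ := exists_index_p hS F hF M hMS hidx hhypM
    haveI : Finite M := Helper84_FusionRS.finite_of_le_S hMS
    have hcardM : Nat.card M < n := by
      rw [← hn]
      have h1 : Nat.card M = Nat.card K := by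
        rw [← hMK]
        exact (Nat.card_congr (Subgroup.subgroupOfEquivOfLe hMS).toEquiv).symm
      rw [h1, hK, hb]
      exact Nat.pow_lt_pow_right hp.out.one_lt (by omega)
    have hMn : (M.subgroupOf S).Normal := by
      apply Subgroup.normal_of_index_eq_minFac_card
      rw [hidx, hb, Nat.Prime.pow_minFac hp.out (by omega)]
    have hsc : F.StronglyClosed M := Cfsg.Agent.S5120.stronglyClosed_T hS F hF hMS hMn hhypM
    have hhypeq := Helper85_ResLimit.hyperfocal_eq_of_pPower hS hsc hE₁i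
    obtain ⟨E, hEs, hEi⟩ := ih _ hcardM (hS.to_le hMS) E₁ hE₁s rfl T hTM (by rw [hhypeq]; exact hT)
    exact ⟨E, hEs, Helper85_ResLimit.pPower_trans hE₁i hhypeq.ge hEi⟩

end Cfsg.Agent.Lib.Helper85_PIdx6
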