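import Cfsg.Agent.Lib.Helper85_SatCrit11
import Cfsg.Agent.Lib.Helper88_Essential
import Cfsg.Agent.Lib.Helper84_FusionRS
import Cfsg.Agent.Lib.Helper85_Fusion

/-!
# Saturation criterion, part 12 (helper85): one conjugacy class outside `ℋ`
-/

set_option autoImplicit false

namespace Cfsg.Agent.Lib.Helper85_SatCrit12

open Cfsg Cfsg.FusionSystem Cfsg.Agent.Lib.Helper87_Alperin Cfsg.Agent.Lib.Helper88_Centric
  Cfsg.Agent.Lib.Helper84_RelSylow Cfsg.Agent.Lib.Helper88_AutInv Cfsg.Agent.Lib.Helper85_SatCrit1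
  Cfsg.Agent.Lib.Helper85_SatCrit2 Cfsg.Agent.Lib.Helper85_SatCrit3 Cfsg.Agent.Lib.Helper85_SatCrit4
  Cfsg.Agent.Lib.Helper85_SatCrit5 Cfsg.Agent.Lib.Helper85_SatCrit6 Cfsg.Agent.Lib.Helper88_Centric2
  Cfsg.Agent.Lib.Helper85_SatCrit7 Cfsg.Agent.Lib.Helper85_SatCrit8 Cfsg.Agent.Lib.Helper85_SatCrit9
  Cfsg.Agent.Lib.Helper85_SatCrit10 Cfsg.Agent.Lib.Helper85_SatCrit11
  Cfsg.Agent.Lib.Helper84_Fusion Cfsg.Agent.Lib.Helper84_FusionRS

variable {Ω : Type*} [Group Ω] {S : Subgroup Ω}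

theorem exists_equiv_of_isMapOn' {F : FusionSystem S} {P P' : Subgroup Ω} {f : Ω → Ω}
    (hf : IsMapOn F P f) (himg : IsImage P f P') :
    ∃ e : P ≃* P', ∀ x : P, ((e x : P') : Ω) = f x := by
  let f' : P →* P' :=
    { toFun := fun x => ⟨f x, himg.mem x.2⟩
      map_one' := Subtype.ext hf.map_one
      map_mul' := fun x y => Subtype.ext (hf.map_mul x.2 y.2) }
  have hbij : Function.Bijective f' := by
    constructor
    · intro x y hxy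
      have h1 : f x = f y := congrArg Subtype.val hxy
      exact Subtype.ext (hf.injOn x.2 y.2 h1)
    · rintro ⟨y, hy⟩
      obtain ⟨x, hx, rfl⟩ := (himg y).1 hy
      exact ⟨⟨x, hx⟩, rfl⟩
  exact ⟨MulEquiv.ofBijective f' hbij, fun x => rfl⟩

/-- The hypothesis (*) forces `S ∈ ℋ`. -/
theorem S_mem [Finite S] {p : ℕ} (F : FusionSystem S) (ℋ : Set (Subgroup Ω))
    (hstar : ∀ P : Subgroup Ω, F.IsCentric P → P ∉ ℋ → ∃ Q, F.IsConj P Q ∧
      ¬ (Cfsg.autInducedBy S Q ⊓ (Cfsg.pCore p ↥(F.autGroup Q)).map (F.autGroup Q).subtype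
        ≤ Cfsg.Inn Q)) : S ∈ ℋ := by
  by_contra hS'
  have hconjS : ∀ Q, F.IsConj S Q → Q = S := by
    intro Q hQ
    have hQS : Q ≤ S := isConj_le_right hQ
    have hcard := Cfsg.Agent.Lib.Helper85_Fusion.isConj_card_eq F hQ
    exact Subgroup.eq_of_le_of_card_ge hQS (le_of_eq hcard)
  have hcent : F.IsCentric S := by
    refine ⟨le_rfl, fun Q hQ => ?_⟩
    rw [hconjS Q hQ]
    intro x hx
    exact ((mem_centralizerIn_iff S S x).1 hx).1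
  obtain ⟨Q, hQ, hnot⟩ := hstar S hcent hS'
  have hQS := hconjS Q hQ
  subst hQS
  apply hnot
  rw [Cfsg.Agent.Lib.Helper88_Essential.autInducedBy_self_eq_inn]
  exact inf_le_left

/-- The choice of `Y`: either `Inn` (non-centric case) or the transport of `O_p(Aut_F(Q))`. -/
theorem exists_Y [Finite S] {p : ℕ} [Fact p.Prime] (hS : IsPGroup p S) (F : FusionSystem S)
    (ℋ : Set (Subgroup Ω))
    (hstar : ∀ P : Subgroup Ω, F.IsCentric P → P ∉ ℋ → ∃ Q, F.IsConj P Q ∧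
      ¬ (Cfsg.autInducedBy S Q ⊓ (Cfsg.pCore p ↥(F.autGroup Q)).map (F.autGroup Q).subtype
        ≤ Cfsg.Inn Q))
    {Ph : Subgroup Ω} (hPhS : Ph ≤ S) (hPhℋ : Ph ∉ ℋ) (hpi : ∀ P, F.IsConj P Ph → Pi F Ph P) :
    ∃ Y : Subgroup (MulAut Ph), YHyp p F Ph Y ∧ Ph < NY S Ph Y := by
  by_cases hc : F.IsCentric Ph
  · obtain ⟨Q, hQ, hnot⟩ := hstar Ph hc hPhℋ
    have hQS : Q ≤ S := isConj_le_right hQ
    have hcQ : F.IsCentric Q := isCentric_of_isConj hc hQ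
    obtain ⟨φ, hφ, himg⟩ := hpi Q (isConj_symm F hQ)
    have hφQ : IsMapOn F Q φ := hφ.mono (le_normalizerIn hQS)
    obtain ⟨e, he⟩ := exists_equiv_of_isMapOn' hφQ himg
    rw [SetLike.not_le_iff_exists] at hnot
    obtain ⟨α, hα, hαInn⟩ := hnot
    obtain ⟨g, hgS, hg⟩ := (mem_autInducedBy_iff S Q α).1 hα.1
    have hgN : g ∈ normalizerIn S Q := ⟨hgS, mem_normalizer_of_aut α g hg⟩
    have hY := yhyp_transport hφQ himg e he (yhyp_opAut hS F hQS hcQ)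
    refine ⟨_, hY, ?_⟩
    rw [SetLike.lt_iff_le_and_exists]
    refine ⟨le_NY hPhS hY.inn, φ g, ?_, ?_⟩
    · rw [mem_NY]
      refine ⟨hφ.mem hgN, MulAut.congr e α, ⟨α, hα.2, rfl⟩, fun z => ?_⟩
      have hzN : ((e.symm z : Q) : Ω) ∈ normalizerIn S Q := le_normalizerIn hQS (e.symm z).2
      rw [congr_apply', he, hg, hφ.map_mul (mul_mem hgN hzN) (inv_mem hgN), hφ.map_mul hgN hzN,
        hφ.map_inv hgN, ← he, MulEquiv.apply_symm_apply]
    · intro hmem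
      obtain ⟨q, hq, hqg⟩ := (himg _).1 hmem
      have hqg' : q = g := hφ.injOn (le_normalizerIn hQS hq) hgN hqg
      subst hqg'
      apply hαInn
      refine ⟨⟨q, hq⟩, ?_⟩
      ext z
      rw [hg]
      simp [MulAut.conj_apply]
  · have hex : ∃ Q, F.IsConj Ph Q ∧ ¬ centralizerIn S Q ≤ Q := by
      by_contra hcon
      push Not at hcon
      exact hc ⟨hPhS, hcon⟩
    obtain ⟨Q, hQ, hnot⟩ := hex
    have hQS : Q ≤ S := isConj_le_right hQ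
    obtain ⟨φ, hφ, himg⟩ := hpi Q (isConj_symm F hQ)
    rw [SetLike.not_le_iff_exists] at hnot
    obtain ⟨c, hc', hcQ⟩ := hnot
    have hcN : c ∈ normalizerIn S Q := centralizerIn_le_normalizerIn S Q hc'
    rw [mem_centralizerIn_iff] at hc'
    have hY := yhyp_inn (p := p) hS F hPhS
    refine ⟨Inn Ph, hY, ?_⟩
    rw [SetLike.lt_iff_le_and_exists]
    refine ⟨le_NY hPhS le_rfl, φ c, ?_, ?_⟩
    · rw [mem_NY]
      refine ⟨hφ.mem hcN, 1, Subgroup.one_mem _, fun z => ?_⟩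
      obtain ⟨q, hq, hqz⟩ := (himg _).1 z.2
      have hqN := le_normalizerIn hQS hq
      rw [MulAut.one_apply, ← hqz, ← hφ.map_inv hcN, ← hφ.map_mul hcN hqN,
        ← hφ.map_mul (mul_mem hcN hqN) (inv_mem hcN)]
      congr 1
      rw [← hc'.2 q hq]
      group
    · intro hmem
      obtain ⟨q, hq, hqc⟩ := (himg _).1 hmem
      have hqc' : q = c := hφ.injOn (le_normalizerIn hQS hq) hcN hqc
      exact hcQ (hqc' ▸ hq)

theorem normalizerIn_le_normalizerIn_NY [Finite S] {p : ℕ} {F : FusionSystem S} {Ph : Subgroup Ω}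
    {Y : Subgroup (MulAut Ph)} (hY : YHyp p F Ph Y) (hPh : Ph ≤ S) :
    normalizerIn S Ph ≤ normalizerIn S (NY S Ph Y) := by
  intro v hv
  refine ⟨hv.1, ?_⟩
  change v ∈ Subgroup.normalizer (NY S Ph Y : Set Ω)
  intro q
  constructor
  · intro hq
    exact NY_normal hY hPh hv hq
  · intro hq
    have h1 := NY_normal hY hPh (Subgroup.inv_mem _ hv) hq
    have h2 : v⁻¹ * (v * q * v⁻¹) * v⁻¹⁻¹ = q := by group
    rwa [h2] at h1

/-- **One class**: if all subgroups of order bigger than `|P₁|` lie in `ℋ` and `P₁ ∉ ℋ`, then the class of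
`P₁` contains a fully automized receptive member. -/
theorem class_step [Finite S] {p : ℕ} [Fact p.Prime] (hS : IsPGroup p S) (F : FusionSystem S)
    (ℋ : Set (Subgroup Ω))
    (hℋconj : ∀ P ∈ ℋ, ∀ Q, F.IsConj P Q → Q ∈ ℋ)
    (hsat : ∀ P ∈ ℋ, ∃ Q, F.IsConj P Q ∧ F.IsFullyAutomized p Q ∧ F.IsReceptive Q)
    (hgen : ∀ E : FusionSystem S, (∀ P ∈ ℋ, F.Hom P ⊆ E.Hom P) → F ≤ E)
    (hstar : ∀ P : Subgroup Ω, F.IsCentric P → P ∉ ℋ → ∃ Q, F.IsConj P Q ∧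
      ¬ (Cfsg.autInducedBy S Q ⊓ (Cfsg.pCore p ↥(F.autGroup Q)).map (F.autGroup Q).subtype
        ≤ Cfsg.Inn Q))
    {P₁ : Subgroup Ω} (hP₁S : P₁ ≤ S) (hP₁ : P₁ ∉ ℋ)
    (hmax : ∀ R, R ≤ S → Nat.card P₁ < Nat.card R → R ∈ ℋ) :
    ∃ Q, F.IsConj P₁ Q ∧ F.IsFullyAutomized p Q ∧ F.IsReceptive Q := by
  have hSℋ : S ∈ ℋ := S_mem F ℋ hstar
  have hbig : Big p F (Nat.card P₁) := fun R hR hn => hsat R (hmax R hR hn)
  have hnotℋ : ∀ Q, F.IsConj Q P₁ → Q ∉ ℋ := fun Q hQ hQℋ => hP₁ (hℋconj Q hQℋ P₁ hQ)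
  obtain ⟨Ph₀, hconj₀, hfn₀⟩ := exists_isFullyNormalized_conj F hP₁S
  have hPh₀S : Ph₀ ≤ S := hfn₀.1
  have hcard₀ : Nat.card Ph₀ = Nat.card P₁ :=
    (Cfsg.Agent.Lib.Helper85_Fusion.isConj_card_eq F hconj₀).symm
  have hchainAll : ∀ (Q : Subgroup Ω) (f : Ω → Ω), F.IsConj Q P₁ → IsMapOn F Q f → Chain F Q f :=
    fun Q f hQ hf => chain_of_generated F ℋ hℋconj hSℋ hgen (hnotℋ Q hQ) hf
  have hchain₀ : ∀ (P : Subgroup Ω) (f : Ω → Ω), F.IsConj P Ph₀ → IsMapOn F P f → Chain F P f :=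
    fun P f hP hf => hchainAll P f (isConj_trans F hP (isConj_symm F hconj₀)) hf
  have hpi₀ : ∀ P, F.IsConj P Ph₀ → Pi F Ph₀ P :=
    fun P hP => pi_all hS F hbig hcard₀ hfn₀ hchain₀ hP
  obtain ⟨Y₀, hY₀, hlt₀⟩ :=
    exists_Y hS F ℋ hstar hPh₀S (hnotℋ Ph₀ (isConj_symm F hconj₀)) hpi₀
  have hQh₀S : NY S Ph₀ Y₀ ≤ S := (NY_le_normalizerIn Ph₀ Y₀).trans (normalizerIn_le S Ph₀)
  have : Finite (NY S Ph₀ Y₀) := finite_of_le_S hQh₀S
  have hcardlt : Nat.card P₁ < Nat.card (NY S Ph₀ Y₀) := hcard₀ ▸ card_lt_of_lt hlt₀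
  obtain ⟨Qs, Ps, f₀, hPsQs, hfaQs, hrecQs, hsyl, hf₀, hf₀Q, hf₀P, hext⟩ :=
    lemmaK hS F hlt₀.le (hbig _ hQh₀S hcardlt)
  obtain ⟨κ, hκ, f', hf', hf'x⟩ := hext _ Ph₀ f₀ hf₀ hf₀Q hlt₀.le hf₀P
  have hNN : normalizerIn S Ph₀ ≤ normalizerIn S (NY S Ph₀ Y₀) :=
    normalizerIn_le_normalizerIn_NY hY₀ hPh₀S
  have hψ : IsMapOn F (normalizerIn S Ph₀) f' :=
    hf'.mono (le_sup_of_le_right (le_inf hNN le_rfl))
  have hψQ : IsImage (NY S Ph₀ Y₀) f' Qs := isImage_of_ext_top hf₀Q hf'x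
  have hψP : IsImage Ph₀ f' Ps := isImage_of_ext hκ.2 hPsQs hlt₀.le hf₀P hf'x
  have hPh₀N : Ph₀ ≤ normalizerIn S Ph₀ := le_normalizerIn hPh₀S
  have hψPh : IsMapOn F Ph₀ f' := hψ.mono hPh₀N
  have hconjPs : F.IsConj Ph₀ Ps := isConj_of_isImage hψPh hψP
  have hPsS : Ps ≤ S := isConj_le_right hconjPs
  have hcardPs : Nat.card Ps = Nat.card P₁ :=
    (Cfsg.Agent.Lib.Helper85_Fusion.isConj_card_eq F hconjPs).symm.trans hcard₀
  -- the image of the normalizer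
  obtain ⟨M, hM, -⟩ := exists_isImage hψ
  have hMle : M ≤ normalizerIn S Ps := by
    intro y hy
    obtain ⟨x, hx, rfl⟩ := (hM y).1 hy
    exact ⟨hψ.mem hx, map_mem_normalizer hψ hPh₀N hψP hx hx.2⟩
  have hMcard : Nat.card M = Nat.card (normalizerIn S Ph₀) := (card_eq_of_isImage hψ hM).symm
  have : Finite (normalizerIn S Ps) := finite_of_le_S (normalizerIn_le S Ps)
  have hMeq : M = normalizerIn S Ps := by
    refine Subgroup.eq_of_le_of_card_ge hMle ?_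
    rw [hMcard]
    exact hfn₀.2 Ps hconjPs
  rw [hMeq] at hM
  have hNcard : Nat.card (normalizerIn S Ps) = Nat.card (normalizerIn S Ph₀) := by
    rw [← hMeq]; exact hMcard
  have hfnPs : F.IsFullyNormalized Ps := by
    refine ⟨hPsS, fun Q hQ => ?_⟩
    rw [hNcard]
    exact hfn₀.2 Q (isConj_trans F hconjPs hQ)
  obtain ⟨e₁, he₁⟩ := exists_equiv_of_isMapOn' hψPh hψP
  have hY : YHyp p F Ps (Y₀.map (MulAut.congr e₁).toMonoidHom) :=
    yhyp_transport hψPh hψP e₁ he₁ hY₀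
  have hNYeq : NY S Ps (Y₀.map (MulAut.congr e₁).toMonoidHom) = Qs :=
    isImage_unique (NY_transport hPh₀S hψ hψP hM e₁ he₁ Y₀) hψQ
  have hchain : ∀ (P : Subgroup Ω) (f : Ω → Ω), F.IsConj P Ps → IsMapOn F P f → Chain F P f :=
    fun P f hP hf => hchainAll P f
      (isConj_trans F hP (isConj_symm F (isConj_trans F hconj₀ hconjPs))) hf
  have hpi : ∀ P, F.IsConj P Ps → Pi F Ps P :=
    fun P hP => pi_all hS F hbig hcardPs hfnPs hchain hP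
  have hB : ∀ γ : Ω → Ω, IsMapOn F Ps γ → IsImage Ps γ Ps →
      Cfsg.Agent.Lib.Helper85_SatCrit5.Ext F Ps (Y₀.map (MulAut.congr e₁).toMonoidHom) γ :=
    fun γ hγ hγP => ext_all hS F hbig hcardPs hPsS hpi hY hchain hγ hγP
  subst hNYeq
  exact ⟨Ps, isConj_trans F hconj₀ hconjPs, fa_of_ext F hPsS hY hsyl hB,
    rec_of_ext hS F hPsS hY hpi hrecQs hsyl hB⟩

end Cfsg.Agent.Lib.Helper85_SatCrit12
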