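import Cfsg.Agent.Lib.Helper85_Index
import Cfsg.Agent.S5110

/-!
# Subsystems of index prime to `p` (helper85), part 1

For a saturated fusion system `F` over `S`, `E₀ = genSystem F p` is the system generated by the `p`-elements
of the automizers of centric subgroups (`Cfsg.Agent.Lib.Helper85_Index`).  `A0 F p ≤ Aut_F(S)` is generated by the
automorphisms whose restriction to some centric subgroup is a map of `E₀`.  For `A0 ≤ H ≤ Aut_F(S)` we
define the system `sysH F p H` of the maps `α ∘ f₀` with `α ∈ H` and `f₀` a map of `E₀`.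
-/

set_option autoImplicit false
set_option linter.style.haveILetI false

namespace Cfsg.Agent.Lib.Helper85_PPrime1

open Cfsg Cfsg.FusionSystem Cfsg.Agent.Lib
open Cfsg.Agent.Lib.Helper87_Alperin (IsMapOn extFun extHom)
open Cfsg.Agent.Lib.Helper88_Centric (IsImage)
open Cfsg.Agent.S5120 (Adm)
open Cfsg.Agent.Lib.Helper85_Index (genSystem InvHyp)

variable {Ω : Type*} [Group Ω] {S : Subgroup Ω} {F : FusionSystem S} {p : ℕ}

theorem adm_of_mem {α : MulAut S} (hα : α ∈ F.autGroup S) : Adm F S (extFun α) (extFun α⁻¹) where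
  map := (Helper87_Alperin.mem_autGroup_iff F le_rfl α).1 hα
  map' := (Helper87_Alperin.mem_autGroup_iff F le_rfl α⁻¹).1 (Subgroup.inv_mem _ hα)
  mem := fun _ hx => Helper87_Alperin.extFun_mem α hx
  mem' := fun _ hx => Helper87_Alperin.extFun_mem α⁻¹ hx
  left := fun _ hx => Helper87_Alperin.extFun_inv_apply α hx
  right := fun _ hx => Helper87_Alperin.extFun_apply_inv α hx

theorem invHyp [Finite S] : InvHyp F (genSystem F p) :=
  fun hA _ _ hf _ hP' => Cfsg.Agent.Lib.Helper85_Index.invF₀ hA hf hP'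

/-- If `β ∈ Aut(S)` agrees with `b`, then `β⁻¹` agrees with the inverse `b'`. -/
theorem adm_inv_eq {b b' : Ω → Ω} (hB : Adm F S b b') {β : MulAut S}
    (hβb : ∀ x : S, ((β x : S) : Ω) = b x) {y : Ω} (hy : y ∈ S) : b' y = extFun β⁻¹ y := by
  have h1 : extFun β (b' y) = y := by
    rw [Helper87_Alperin.extFun_apply β (hB.mem' y hy), hβb]
    exact hB.right y hy
  have h2 := Helper87_Alperin.extFun_inv_apply β (hB.mem' y hy)
  rw [h1] at h2
  exact h2.symm

/-! ### The subgroup `A0` -/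

/-- The generators of `A0`. -/
def A0gen (F : FusionSystem S) (p : ℕ) (α : MulAut S) : Prop :=
  α ∈ F.autGroup S ∧ ∃ R, F.IsCentric R ∧ IsMapOn (genSystem F p) R (extFun α)

/-- `Aut_F^0(S)`. -/
def A0 (F : FusionSystem S) (p : ℕ) : Subgroup (MulAut S) := Subgroup.closure {α | A0gen F p α}

theorem A0_le : A0 F p ≤ F.autGroup S := by
  rw [A0, Subgroup.closure_le]
  exact fun α hα => hα.1

/-! ### The system `H · E₀` -/

/-- The predicate cutting out `H · E₀`. -/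
def GH (F : FusionSystem S) (p : ℕ) (H : Subgroup (MulAut S)) (P : Subgroup Ω) (f : Ω → Ω) : Prop :=
  ∃ α ∈ H, IsMapOn (genSystem F p) P (extFun α⁻¹ ∘ f)

variable {H : Subgroup (MulAut S)}

theorem gh_congr {P : Subgroup Ω} {f g : Ω → Ω} (h : GH F p H P f) (hfg : ∀ x ∈ P, f x = g x) :
    GH F p H P g := by
  obtain ⟨α, hα, h⟩ := h
  refine ⟨α, hα, h.congr fun x hx => ?_⟩
  simp only [Function.comp_apply]
  rw [hfg x hx]

theorem gh_conj {P : Subgroup Ω} {s : Ω} (hP : P ≤ S) (hs : s ∈ S) :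
    GH F p H P (fun x => s * x * s⁻¹) := by
  refine ⟨1, H.one_mem, (IsMapOn.conj (genSystem F p) hP hs).congr fun x hx => ?_⟩
  simp only [Function.comp_apply, inv_one]
  rw [Helper88_AutInv.extFun_one_apply]
  exact S.mul_mem (S.mul_mem hs (hP hx)) (S.inv_mem hs)

theorem gh_comp [Finite S] (hH : H ≤ F.autGroup S) {P R : Subgroup Ω} {f g : Ω → Ω}
    (hf : IsMapOn F P f) (hGf : GH F p H P f) (hg : IsMapOn F R g) (hGg : GH F p H R g)
    (hfR : ∀ x ∈ P, f x ∈ R) : GH F p H P (g ∘ f) := by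
  obtain ⟨α, hα, hf₁⟩ := hGf
  obtain ⟨β, hβ, hg₂⟩ := hGg
  have hA₁ := adm_of_mem (hH hα)
  have hRS : R ≤ S := hg.le
  obtain ⟨R'', hR''⟩ := hA₁.symm.exists_image hRS
  have hg₂' := invHyp hA₁.symm hg₂ hR''
  refine ⟨β * α, H.mul_mem hβ hα, (hf₁.comp hg₂' ?_).congr ?_⟩
  · intro x hx
    exact hR''.mem (hfR x hx)
  · intro x hx
    simp only [Function.comp_apply]
    rw [hA₁.right _ (hf.mem hx), mul_inv_rev, Helper87_Alperin.extFun_mul _ _ (hg.mem (hfR x hx))]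

theorem gh_inv [Finite S] (hH : H ≤ F.autGroup S) {P P' : Subgroup Ω} {f g : Ω → Ω}
    (hf : IsMapOn F P f) (hGf : GH F p H P f) (himg : IsImage P f P') (_ : IsMapOn F P' g)
    (hgf : ∀ x ∈ P, g (f x) = x) : GH F p H P' g := by
  obtain ⟨α, hα, hf₁⟩ := hGf
  have hA := adm_of_mem (hH hα)
  obtain ⟨P₁, hP₁, -⟩ := Helper88_Centric.exists_isImage hf₁
  obtain ⟨k, hk, hk1, -, -⟩ := hf₁.inv hP₁
  have hP₁S : P₁ ≤ S := hk.le
  obtain ⟨P₁', hP₁'⟩ := hA.exists_image hP₁S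
  have hk' := invHyp hA hk hP₁'
  have hle : P' ≤ P₁' := by
    intro y hy
    obtain ⟨x, hx, rfl⟩ := (himg y).1 hy
    refine (hP₁' _).2 ⟨(extFun α⁻¹ ∘ f) x, hP₁.mem hx, ?_⟩
    simp only [Function.comp_apply]
    exact hA.right _ (hf.mem hx)
  refine ⟨α⁻¹, H.inv_mem hα, (hk'.mono hle).congr fun y hy => ?_⟩
  obtain ⟨x, hx, rfl⟩ := (himg y).1 hy
  have h1 := hk1 x hx
  simp only [Function.comp_apply] at h1 ⊢
  rw [h1, hgf x hx, inv_inv]

/-- The system `H · E₀`. -/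
def sysH [Finite S] (F : FusionSystem S) (p : ℕ) (H : Subgroup (MulAut S))
    (hH : H ≤ F.autGroup S) : FusionSystem S :=
  Helper88_Essential.subsystemOf F (GH F p H) gh_congr gh_conj (gh_comp hH) (gh_inv hH)

theorem isMapOn_sysH [Finite S] (hH : H ≤ F.autGroup S) {P : Subgroup Ω} {f : Ω → Ω}
    (hf : IsMapOn F P f) (hG : GH F p H P f) : IsMapOn (sysH F p H hH) P f := by
  obtain ⟨φ, hφ, hφf⟩ := hf
  refine ⟨φ, ⟨hφ, gh_congr hG fun x hx => ?_⟩, hφf⟩
  rw [Helper87_Alperin.extHom_apply φ hx, hφf]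

theorem gh_of_isMapOn_sysH [Finite S] (hH : H ≤ F.autGroup S) {P : Subgroup Ω} {f : Ω → Ω}
    (hf : IsMapOn (sysH F p H hH) P f) : GH F p H P f := by
  obtain ⟨φ, hφ, hφf⟩ := hf
  refine gh_congr hφ.2 fun x hx => ?_
  rw [Helper87_Alperin.extHom_apply φ hx, hφf]

theorem sysH_le_F [Finite S] (hH : H ≤ F.autGroup S) : (sysH F p H hH).IsSubsystemOf F :=
  fun _ _ h => h.1

theorem isMapOn_F_of_sysH [Finite S] (hH : H ≤ F.autGroup S) {P : Subgroup Ω} {f : Ω → Ω}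
    (hf : IsMapOn (sysH F p H hH) P f) : IsMapOn F P f := by
  obtain ⟨φ, hφ, hφf⟩ := hf
  exact ⟨φ, hφ.1, hφf⟩

theorem isMapOn_sysH_of_genSystem [Finite S] (hH : H ≤ F.autGroup S) {P : Subgroup Ω} {f : Ω → Ω}
    (hf : IsMapOn (genSystem F p) P f) : IsMapOn (sysH F p H hH) P f := by
  have hfF : IsMapOn F P f := Cfsg.Agent.Lib.Helper85_Index.isMapOn_of_le Cfsg.Agent.Lib.Helper85_Index.genSystem_le_F hf
  refine isMapOn_sysH hH hfF ⟨1, H.one_mem, hf.congr fun x hx => ?_⟩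
  simp only [Function.comp_apply, inv_one]
  rw [Helper88_AutInv.extFun_one_apply (hfF.mem hx)]

theorem genSystem_le_sysH [Finite S] (hH : H ≤ F.autGroup S) :
    (genSystem F p).IsSubsystemOf (sysH F p H hH) := by
  intro P φ hφ
  rw [Helper87_Alperin.mem_hom_iff_isMapOn]
  exact isMapOn_sysH_of_genSystem hH (Helper87_Alperin.isMapOn_extHom _ hφ)

/-- Elements of `H` are automorphisms of `S` in `H · E₀`. -/
theorem isMapOn_sysH_of_mem [Finite S] (hH : H ≤ F.autGroup S) {α : MulAut S} (hα : α ∈ H) :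
    IsMapOn (sysH F p H hH) S (extFun α) := by
  refine isMapOn_sysH hH ((Helper87_Alperin.mem_autGroup_iff F le_rfl α).1 (hH hα))
    ⟨α, hα, (IsMapOn.id (genSystem F p) le_rfl).congr fun x hx => ?_⟩
  simp only [Function.comp_apply]
  rw [Helper87_Alperin.extFun_inv_apply α hx]

/-- **Key**: on a centric subgroup, the `Aut_F(S)`-factor of a map of `H · E₀` lies in `H`. -/
theorem key [Finite S] (hH : H ≤ F.autGroup S) (hA0 : A0 F p ≤ H) {P : Subgroup Ω}
    (hPc : F.IsCentric P) {f : Ω → Ω} (hfS : ∀ x ∈ P, f x ∈ S) {α β : MulAut S} (hα : α ∈ H)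
    (hβ : β ∈ F.autGroup S) (h1 : IsMapOn (genSystem F p) P (extFun α⁻¹ ∘ f))
    (h2 : IsMapOn (genSystem F p) P (extFun β⁻¹ ∘ f)) : β ∈ H := by
  obtain ⟨P₀, hP₀, hPP₀⟩ := Helper88_Centric.exists_isImage h1
  obtain ⟨k, hk, hk1, hkP, -⟩ := h1.inv hP₀
  have hPP₀F : F.IsConj P P₀ := by
    obtain ⟨φ, hφ, hr⟩ := hPP₀
    exact ⟨φ, Cfsg.Agent.Lib.Helper85_Index.genSystem_le_F P hφ, hr⟩
  have hP₀c : F.IsCentric P₀ := Helper88_Centric.isCentric_of_isConj hPc hPP₀F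
  have hγ : A0gen F p (β⁻¹ * α) := by
    refine ⟨Subgroup.mul_mem _ (Subgroup.inv_mem _ hβ) (hH hα), P₀, hP₀c,
      (hk.comp h2 hkP).congr fun y hy => ?_⟩
    obtain ⟨x, hx, rfl⟩ := (hP₀ y).1 hy
    have hfx := hfS x hx
    simp only [Function.comp_apply] at hk1 ⊢
    rw [hk1 x hx, Helper87_Alperin.extFun_mul _ _ (Helper87_Alperin.extFun_mem _ hfx),
      Helper87_Alperin.extFun_apply_inv α hfx]
  have hγH : β⁻¹ * α ∈ H := hA0 (Subgroup.subset_closure hγ)
  have h3 : β = α * (β⁻¹ * α)⁻¹ := by group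
  rw [h3]
  exact H.mul_mem hα (H.inv_mem hγH)

end Cfsg.Agent.Lib.Helper85_PPrime1
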