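import Mathlib
import Cfsg.Agent.Lib.Helper86_PomDefs

set_option autoImplicit false
set_option linter.unusedSectionVars false
set_option linter.unusedVariables false

/-!
# POM sub-market (S4613, family architect helper86), package INVC: the inversion set of the permutation
`σs j` of the `j`-th simple reflection is convex for the block height.
-/

namespace Cfsg.Agent.Lib.Helper85_Pom_INVC

open Matrix Cfsg Cfsg.Agent.Lib.Helper68_MatGrp Cfsg.Agent.Lib.Helper22_BlkGrp Cfsg.Agent.Lib.Helper22_StOmDefs
open Cfsg.Agent.Lib.Helper86_PomDefs Cfsg.Agent.Lib.Helper68_AutU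
open Cfsg.Agent.Lib.Helper5_OmegaCenter (eichO eichMat)

section heights

variable {m : ℕ}

/-- the height of the image under a transposition of two indices outside the plane -/
theorem h85_ht_swap {x y : I m} (hx : ¬ IsPl x) (hy : ¬ IsPl y) (a : I m) :
    ht m (Equiv.swap x y a) =
      if ht m a = ht m x then ht m y else if ht m a = ht m y then ht m x else ht m a := by
  by_cases h1 : a = x
  · subst h1
    rw [Equiv.swap_apply_left, if_pos rfl]
  · have h1' : ht m a ≠ ht m x := fun e => h1 (eq_of_ht_eq e.symm hx).symm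
    rw [if_neg h1']
    by_cases h2 : a = y
    · subst h2
      rw [Equiv.swap_apply_right, if_pos rfl]
    · have h2' : ht m a ≠ ht m y := fun e => h2 (eq_of_ht_eq e.symm hy).symm
      rw [if_neg h2', Equiv.swap_apply_of_ne_of_ne h1 h2]

theorem h85_ht_swap_spec {x y : I m} (hx : ¬ IsPl x) (hy : ¬ IsPl y) (a : I m) :
    (ht m a = ht m x → ht m (Equiv.swap x y a) = ht m y) ∧
      (ht m a ≠ ht m x → ht m a = ht m y → ht m (Equiv.swap x y a) = ht m x) ∧
        (ht m a ≠ ht m x → ht m a ≠ ht m y → ht m (Equiv.swap x y a) = ht m a) := by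
  rw [h85_ht_swap hx hy]
  exact ⟨fun h => by rw [if_pos h], fun h h' => by rw [if_neg h, if_pos h'],
    fun h h' => by rw [if_neg h, if_neg h']⟩

end heights

variable {m : ℕ} {F : Type*} [Field F] [Fintype F] {A B : F} [Fact (Aniso A B)]

theorem h85_ht_sig_long (j : Fin m) (h : j.val + 1 < m) (a : I m) :
    ht m (σs j a) =
      if ht m a = j.val then j.val + 1 else if ht m a = j.val + 1 then j.val
      else if ht m a = 2 * m - j.val then 2 * m - (j.val + 1)
      else if ht m a = 2 * m - (j.val + 1) then 2 * m - j.val else ht m a := by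
  have hla := ht_le a
  rw [σs_of_lt j h, Equiv.Perm.mul_apply]
  have s1 := h85_ht_swap_spec (not_isPl_jf j) (not_isPl_jf ⟨j.val + 1, h⟩) a
  have s2 := h85_ht_swap_spec (not_isPl_ie j) (not_isPl_ie ⟨j.val + 1, h⟩)
    (Equiv.swap (jf j) (jf ⟨j.val + 1, h⟩) a)
  simp only [ht_ie, ht_jf] at s1 s2 ⊢
  split_ifs <;> omega

theorem h85_ht_sig_short (j : Fin m) (h : ¬ j.val + 1 < m) (a : I m) :
    ht m (σs j a) =
      if ht m a = j.val then 2 * m - j.val else if ht m a = 2 * m - j.val then j.val
      else ht m a := by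
  rw [σs_of_not_lt j h]
  have s1 := h85_ht_swap_spec (not_isPl_ie j) (not_isPl_jf j) a
  simp only [ht_ie, ht_jf] at s1 ⊢
  split_ifs <;> omega

theorem h85_isInv_long (j : Fin m) (h : j.val + 1 < m) (a b : I m) :
    IsInv (ht m) (σs j) a b ↔
      (ht m a = j.val ∧ ht m b = j.val + 1) ∨
        (ht m a = 2 * m - (j.val + 1) ∧ ht m b = 2 * m - j.val) := by
  have hla := ht_le a
  have hlb := ht_le b
  unfold IsInv
  rw [h85_ht_sig_long j h a, h85_ht_sig_long j h b]
  split_ifs <;> omega

theorem h85_isInv_short (j : Fin m) (h : ¬ j.val + 1 < m) (a b : I m) :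
    IsInv (ht m) (σs j) a b ↔
      (ht m a < ht m b ∧ m ≤ ht m a + 1 ∧ ht m b ≤ m + 1) := by
  have hla := ht_le a
  have hlb := ht_le b
  have hj := j.2
  unfold IsInv
  rw [h85_ht_sig_short j h a, h85_ht_sig_short j h b]
  split_ifs <;> omega

/-- INVC (M).  The inversion set of `σs j` is convex: for `j + 1 < m` it is `{(e_j, e_{j+1}), (f_{j+1}, f_j)}`,
for `j = m - 1` it is `{(a, b) | m - 1 ≤ ht a < ht b ≤ m + 1}`. -/
theorem inv_convex (j : Fin m) : InvConvex (ht m) (σs j) := by
  intro a b hab c d hac hcd hdb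
  by_cases h : j.val + 1 < m
  · rw [h85_isInv_long j h] at hab ⊢
    omega
  · rw [h85_isInv_short j h] at hab ⊢
    omega

end Cfsg.Agent.Lib.Helper85_Pom_INVC
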