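import Mathlib
import Cfsg.Agent.Lib.Helper86_PomDefs
import Cfsg.Agent.Lib.Helper26_StOm_XB

set_option autoImplicit false
set_option linter.unusedSectionVars false
set_option linter.unusedVariables false

/-!
# POM sub-market (S4613, family architect helper86), package XLES: the short root elements
`sx (e_i) s t` are block unitriangular.
-/

namespace Cfsg.Agent.Lib.Helper85_Pom_XLES

open Matrix Cfsg Cfsg.Agent.Lib.Helper68_MatGrp Cfsg.Agent.Lib.Helper22_BlkGrp Cfsg.Agent.Lib.Helper22_StOmDefs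
open Cfsg.Agent.Lib.Helper86_PomDefs Cfsg.Agent.Lib.Helper68_AutU
open Cfsg.Agent.Lib.Helper5_OmegaCenter (eichO eichMat)

variable {m : ℕ} {F : Type*} [Field F] [Fintype F] {A B : F} [Fact (Aniso A B)]

/-- XLES (S). -/
theorem sx_e_mem (i : Fin m) (s t : F) : sx A B (ie i) s t ∈ UUb m F A B := by
  rw [mem_UUb]
  refine ⟨mem_Boo.1 (Cfsg.Agent.Lib.Helper26_StOm_XB.sx_mem_Boo i s t), ?_⟩
  intro x y hxy
  rw [sx_val (not_isPl_ie i)]
  unfold sxM
  have hi := i.2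
  have c1 : ¬ ((d0 : I m) = x ∧ op (ie i) = y) := by
    rintro ⟨h1, h2⟩
    rw [← h1, ← h2, op_ie, ht_jf, ht_d0] at hxy
    omega
  have c2 : ¬ ((d1 : I m) = x ∧ op (ie i) = y) := by
    rintro ⟨h1, h2⟩
    rw [← h1, ← h2, op_ie, ht_jf, ht_d1] at hxy
    omega
  have c3 : ¬ (ie i = x ∧ (d0 : I m) = y) := by
    rintro ⟨h1, h2⟩
    rw [← h1, ← h2, ht_d0, ht_ie] at hxy
    omega
  have c4 : ¬ (ie i = x ∧ (d1 : I m) = y) := by
    rintro ⟨h1, h2⟩
    rw [← h1, ← h2, ht_d1, ht_ie] at hxy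
    omega
  have c5 : ¬ (ie i = x ∧ op (ie i) = y) := by
    rintro ⟨h1, h2⟩
    rw [← h1, ← h2, op_ie, ht_jf, ht_ie] at hxy
    omega
  simp only [Matrix.sub_apply, Matrix.add_apply, Matrix.one_apply, Matrix.single_apply, if_neg c1,
    if_neg c2, if_neg c3, if_neg c4, if_neg c5, add_zero, sub_zero]

end Cfsg.Agent.Lib.Helper85_Pom_XLES
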