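import Cfsg.Agent.Lib.Helper85_PPrime2
import Cfsg.Agent.Lib.Helper88_Invariant
import Cfsg.Agent.Lib.Helper85_Transport2
import Cfsg.Agent.Lib.Helper85_FusionNormal

/-!
# Relative theory for an invariant subsystem `E` (over `T`) of `F` (helper85), part 1

* `isCentric_of_isMapOn`: maps of `F` carry `E`-centric subgroups of `T` to `E`-centric subgroups;
* `exists_aut_conj`: conjugation by `s ∈ S` as an element of `Aut_F(T)`;
* `exists_conj_rel`: a `p`-element of `Aut_F(Q)` is conjugate to conjugation by an element of `S`;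
* `NHyp`, `pelt_decomp`: a `p`-element of `Aut_F(Q)`, `Q ≤ T`, is `τ ∘ (map of E)` with `τ ∈ N`.
-/

set_option autoImplicit false
set_option linter.style.haveILetI false

namespace Cfsg.Agent.Lib.Helper85_Rel1

open Cfsg Cfsg.FusionSystem Cfsg.Agent.Lib
open Cfsg.Agent.Lib.Helper87_Alperin (IsMapOn extFun extHom)
open Cfsg.Agent.Lib.Helper88_Centric (IsImage)

variable {Ω : Type*} [Group Ω] {S T : Subgroup Ω} {F : FusionSystem S} {E : FusionSystem T} {p : ℕ}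

/-- Maps of `F` carry `E`-centric subgroups of `T` to `E`-centric subgroups. -/
theorem isCentric_of_isMapOn (hEF : E.IsInvariantIn F) {R R' : Subgroup Ω} (hR : E.IsCentric R)
    {f : Ω → Ω} (hf : IsMapOn F R f) (hI : IsImage R f R') : E.IsCentric R' := by
  have hRT : R ≤ T := hR.1
  obtain ⟨α, hα, f₀, hf₀, hfα⟩ := Helper85_Transport2.exists_frattini hEF hRT hf
  obtain ⟨R₀, hR₀, hRR₀⟩ := Helper88_Centric.exists_isImage hf₀
  have hR₀c : E.IsCentric R₀ := Helper88_Centric.isCentric_of_isConj hR hRR₀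
  have hR₀T : R₀ ≤ T := hR₀c.1
  have hR'α : IsImage R₀ (extFun α) R' := by
    intro y
    constructor
    · intro hy
      obtain ⟨x, hx, rfl⟩ := (hI y).1 hy
      exact ⟨f₀ x, hR₀.mem hx, (hfα x hx).symm⟩
    · rintro ⟨z, hz, rfl⟩
      obtain ⟨x, hx, rfl⟩ := (hR₀ z).1 hz
      rw [← hfα x hx]
      exact hI.mem hx
  have hR'T : R' ≤ T := by
    intro y hy
    obtain ⟨z, hz, rfl⟩ := (hR'α y).1 hy
    exact Helper87_Alperin.extFun_mem α (hR₀T hz)
  have hαi : α⁻¹ ∈ F.autGroup T := (F.autGroup T).inv_mem hα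
  have hI' : IsImage R' (extFun α⁻¹) R₀ := by
    intro z
    constructor
    · intro hz
      exact ⟨extFun α z, hR'α.mem hz, Helper87_Alperin.extFun_inv_apply α (hR₀T hz)⟩
    · rintro ⟨y, hy, rfl⟩
      obtain ⟨z, hz, rfl⟩ := (hR'α y).1 hy
      rw [Helper87_Alperin.extFun_inv_apply α (hR₀T hz)]
      exact hz
  refine ⟨hR'T, fun Q hQ => ?_⟩
  obtain ⟨h, hh, hhI⟩ := Helper88_Centric.exists_isMapOn_of_isConj hQ
  have hQT : Q ≤ T := Helper88_Centric.isConj_le_right hQ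
  have h1 := Helper88_Invariant.isMapOn_transport hEF hαi hh hI'
  rw [inv_inv] at h1
  obtain ⟨Q₀, hQ₀, hR₀Q₀⟩ := Helper88_Centric.exists_isImage h1
  have hcen := hR₀c.2 Q₀ hR₀Q₀
  intro c hc
  rw [Helper88_Centric.mem_centralizerIn_iff] at hc
  obtain ⟨hcT, hcQ⟩ := hc
  have h2 : extFun α⁻¹ c ∈ centralizerIn T Q₀ := by
    rw [Helper88_Centric.mem_centralizerIn_iff]
    refine ⟨Helper87_Alperin.extFun_mem _ hcT, fun y₀ hy₀ => ?_⟩
    obtain ⟨z, hz, rfl⟩ := (hQ₀ y₀).1 hy₀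
    simp only [Function.comp_apply]
    have hq : h (extFun α z) ∈ Q := hhI.mem (hR'α.mem hz)
    rw [← Helper88_AutInv.extFun_map_mul _ (hQT hq) hcT, ← Helper88_AutInv.extFun_map_mul _ hcT (hQT hq),
      hcQ _ hq]
  obtain ⟨z, hz, hzc⟩ := (hQ₀ _).1 (hcen h2)
  simp only [Function.comp_apply] at hzc
  have hq : h (extFun α z) ∈ Q := hhI.mem (hR'α.mem hz)
  have h3 := congrArg (extFun α) hzc
  rw [Helper87_Alperin.extFun_apply_inv α (hQT hq), Helper87_Alperin.extFun_apply_inv α hcT] at h3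
  rw [← h3]
  exact hq

/-- Conjugation by `s ∈ S` as an element of `Aut_F(T)`, for `T` strongly closed. -/
theorem exists_aut_conj [Finite S] (hT : F.StronglyClosed T) {s : Ω} (hs : s ∈ S) :
    ∃ σ ∈ F.autGroup T, (∀ x : T, ((σ x : T) : Ω) = s * x * s⁻¹) ∧
      ∀ k : ℕ, s ^ k = 1 → σ ^ k = 1 := by
  have hTS := hT.1
  haveI : Finite T := Helper84_FusionRS.finite_of_le_S hTS
  obtain ⟨σ, hσ, hσx⟩ := Cfsg.Agent.S5111.exists_aut_of_isMapOn (IsMapOn.conj F hTS hs)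
    (fun x hx => Helper85_FusionNormal.sc_conj_mem hT hs hx)
  refine ⟨σ, hσ, hσx, fun k hk => ?_⟩
  have hpow : ∀ (j : ℕ) (x : T), (((σ ^ j) x : T) : Ω) = s ^ j * x * (s ^ j)⁻¹ := by
    intro j
    induction j with
    | zero => intro x; simp
    | succ j ih =>
      intro x
      rw [pow_succ', MulAut.mul_apply, hσx, ih x, pow_succ', mul_inv_rev]
      simp only [mul_assoc]
  ext x
  rw [hpow k x, hk]
  simp

/-- A `p`-element of `Aut_F(Q)` is conjugate, by a map of `F`, to conjugation by an element of `S`. -/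
theorem exists_conj_rel [Finite S] [Fact p.Prime] (hS : IsPGroup p S) (hF : F.IsSaturated p)
    {Q : Subgroup Ω} (hQS : Q ≤ S) {β : MulAut Q} (hβ : β ∈ F.autGroup Q) {m : ℕ}
    (hm : β ^ (p ^ m) = 1) :
    ∃ ω : Ω → Ω, IsMapOn F Q ω ∧ ∃ g ∈ S, ∀ x ∈ Q, ω (extFun β x) = g * ω x * g⁻¹ := by
  classical
  haveI : Finite Q := Helper84_FusionRS.finite_of_le_S hQS
  obtain ⟨k, hk⟩ : ∃ k, orderOf β = p ^ k := by
    have h1 := orderOf_dvd_of_pow_eq_one hm
    obtain ⟨k, -, hk⟩ := (Nat.dvd_prime_pow (Fact.out)).1 h1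
    exact ⟨k, hk⟩
  obtain ⟨P', hPP', hP'n⟩ := Helper84_FusionRS.exists_isFullyNormalized_conj F hQS
  obtain ⟨hP'S, R, hR⟩ := Helper84_FusionRS.IsSaturated.isFullyAutomized hS hF hP'n
  haveI : Finite P' := Helper84_FusionRS.finite_of_le_S hP'S
  obtain ⟨f₁, hf₁, hf₁img⟩ := Helper88_Centric.exists_isMapOn_of_isConj hPP'
  obtain ⟨k₁, hk₁, hk₁f, -, -⟩ := hf₁.inv hf₁img
  obtain ⟨e, he⟩ := Cfsg.Agent.Lib.Helper85_Index.exists_equiv_of_isMapOn hf₁ hf₁img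
  obtain ⟨hα'F, hα'val⟩ := Cfsg.Agent.Lib.Helper85_Index.transport_aut hf₁ hk₁ hf₁img hk₁f e he β hβ
  have hord : orderOf (MulAut.congr e β) = p ^ k := by
    rw [MulEquiv.orderOf_eq]
    exact hk
  have hB : IsPGroup p (Subgroup.zpowers (⟨MulAut.congr e β, hα'F⟩ : F.autGroup P')) := by
    apply IsPGroup.of_card (n := k)
    rw [Nat.card_zpowers, Subgroup.orderOf_mk, hord]
  haveI : Finite (F.autGroup P') := inferInstance
  obtain ⟨χ, hχ⟩ := Helper87_Alperin.sylow_conj_into R hB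
  have h1 := hχ _ (Subgroup.mem_zpowers (⟨MulAut.congr e β, hα'F⟩ : F.autGroup P'))
  rw [hR, Subgroup.mem_subgroupOf, Helper85_Fusion.mem_autInducedBy_iff] at h1
  obtain ⟨g, hg, hgx⟩ := h1
  have hχF : IsMapOn F P' (extFun (χ : MulAut P')) :=
    (Helper87_Alperin.mem_autGroup_iff F hP'S _).1 χ.2
  have hf : IsMapOn F Q (extFun (χ : MulAut P') ∘ f₁) :=
    hf₁.comp hχF (fun x hx => hf₁img.mem hx)
  refine ⟨_, hf, g, hg, fun x hx => ?_⟩
  have hy : f₁ x ∈ P' := hf₁img.mem hx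
  have h2 := hgx ((χ : MulAut P') ⟨f₁ x, hy⟩)
  simp only [Subgroup.coe_mul, Subgroup.coe_inv, MulAut.mul_apply, MulAut.inv_apply_self] at h2
  simp only [Function.comp_apply]
  rw [Helper87_Alperin.extFun_apply _ hy, ← h2]
  have h3 := hα'val (f₁ x) hy
  rw [hk₁f x hx, Helper87_Alperin.extFun_apply _ hy] at h3
  rw [← h3, Helper87_Alperin.extFun_coe]

/-- The hypotheses on the normal subgroup `N` of `Aut_F(T)`: it contains `Aut_E(T)` and all `p`-elements. -/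
structure NHyp (p : ℕ) (F : FusionSystem S) (E : FusionSystem T) (N : Subgroup (MulAut T)) : Prop where
  le : N ≤ F.autGroup T
  normal : ∀ γ ∈ F.autGroup T, ∀ n ∈ N, γ * n * γ⁻¹ ∈ N
  autE : E.autGroup T ≤ N
  pelt : ∀ β ∈ F.autGroup T, ∀ k : ℕ, β ^ (p ^ k) = 1 → β ∈ N

/-- A `p`-element of `Aut_F(Q)`, `Q ≤ T`, is `τ ∘ (map of E)` with `τ ∈ N`. -/
theorem pelt_decomp [Finite S] [Fact p.Prime] (hS : IsPGroup p S) (hF : F.IsSaturated p)
    (hEF : E.IsInvariantIn F) {N : Subgroup (MulAut T)} (hN : NHyp p F E N) {Q : Subgroup Ω}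
    (hQT : Q ≤ T) {β : MulAut Q} (hβ : β ∈ F.autGroup Q) {m : ℕ} (hm : β ^ (p ^ m) = 1) :
    ∃ τ ∈ N, IsMapOn E Q (extFun τ⁻¹ ∘ extFun β) := by
  have hT : F.StronglyClosed T := hEF.2.1
  have hTS := hT.1
  have hQS := hQT.trans hTS
  obtain ⟨ω, hω, g, hg, hrel⟩ := exists_conj_rel hS hF hQS hβ hm
  obtain ⟨α, hα, ω₀, hω₀, hωα⟩ := Helper85_Transport2.exists_frattini hEF hQT hω
  obtain ⟨k, hk⟩ := hS ⟨g, hg⟩
  have hgk : g ^ (p ^ k) = 1 := by simpa using congrArg Subtype.val hk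
  obtain ⟨σ, hσ, hσx, hσpow⟩ := exists_aut_conj hT hg
  have hσN : σ ∈ N := hN.pelt σ hσ k (hσpow _ hgk)
  have hτN : α⁻¹ * σ * α ∈ N := by
    have := hN.normal α⁻¹ ((F.autGroup T).inv_mem hα) σ hσN
    rwa [inv_inv] at this
  obtain ⟨Q₀, hQ₀, -⟩ := Helper88_Centric.exists_isImage hω₀
  obtain ⟨k₀, hk₀, hk₀1, -, -⟩ := hω₀.inv hQ₀
  have hQ₀T : Q₀ ≤ T := hk₀.le
  have hkey : ∀ x ∈ Q, extFun (α⁻¹ * σ * α) (ω₀ x) = ω₀ (extFun β x) := by
    intro x hx
    have hβx : extFun β x ∈ Q := Helper87_Alperin.extFun_mem β hx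
    have h1 := hrel x hx
    rw [hωα _ hβx, hωα x hx] at h1
    have hy : extFun α (ω₀ x) ∈ T := Helper87_Alperin.extFun_mem α (hω₀.mem hx)
    have h2 : extFun σ (extFun α (ω₀ x)) = g * extFun α (ω₀ x) * g⁻¹ := by
      rw [Helper87_Alperin.extFun_apply σ hy, hσx]
    rw [← h2] at h1
    rw [Helper87_Alperin.extFun_mul _ _ (hω₀.mem hx), Helper87_Alperin.extFun_mul _ _ hy, ← h1,
      Helper87_Alperin.extFun_inv_apply α (hω₀.mem hβx)]
  have hτF : α⁻¹ * σ * α ∈ F.autGroup T := hN.le hτN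
  have hτi : (α⁻¹ * σ * α)⁻¹ ∈ F.autGroup T := (F.autGroup T).inv_mem hτF
  obtain ⟨Q₀', hQ₀', -⟩ := Helper88_Centric.exists_isImage
    (((Helper87_Alperin.mem_autGroup_iff F hTS _).1 hτi).mono hQ₀T)
  have htr := Helper88_Invariant.isMapOn_transport hEF hτi hk₀ hQ₀'
  rw [inv_inv] at htr
  refine ⟨α⁻¹ * σ * α, hτN, (hω₀.comp htr ?_).congr ?_⟩
  · intro x hx
    refine (hQ₀' _).2 ⟨extFun (α⁻¹ * σ * α) (ω₀ x), ?_,
      Helper87_Alperin.extFun_inv_apply _ (hω₀.mem hx)⟩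
    rw [hkey x hx]
    exact hQ₀.mem (Helper87_Alperin.extFun_mem β hx)
  · intro x hx
    simp only [Function.comp_apply]
    rw [hkey x hx, hk₀1 _ (Helper87_Alperin.extFun_mem β hx)]

end Cfsg.Agent.Lib.Helper85_Rel1
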