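import Cfsg.Agent.Lib.Helper85_Rel1

/-!
# Relative theory for an invariant subsystem (helper85), part 2: uniqueness of the Frattini factor

**Theorem G.** Let `E` (over `T`) be saturated and invariant in the saturated system `F`, and let `N` be a normal
subgroup of `Aut_F(T)` containing `Aut_E(T)` and all `p`-elements.  If `γ ∈ Aut_F(T)` restricts to a map of `E`
on some `E`-centric subgroup `R ≤ T`, then `γ ∈ N`.
-/

set_option autoImplicit false
set_option linter.style.haveILetI false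

namespace Cfsg.Agent.Lib.Helper85_Rel2

open Cfsg Cfsg.FusionSystem Cfsg.Agent.Lib
open Cfsg.Agent.Lib.Helper87_Alperin Cfsg.Agent.Lib.Helper88_Centric Cfsg.Agent.Lib.Helper85_Rel1

variable {Ω : Type*} [Group Ω] {S T : Subgroup Ω} {F : FusionSystem S} {E : FusionSystem T} {p : ℕ}

/-- An automorphism of the form `g ↦ g * r(g)` with `r(g) ∈ R`, fixing `R` pointwise, has order dividing `|R|`. -/
theorem pow_eq_one_of_shift {R R1 : Subgroup Ω} [Finite R] (hRR1 : R ≤ R1) (β : MulAut R1)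
    (hfix : ∀ x : R1, (x : Ω) ∈ R → β x = x)
    (hshift : ∀ g : R1, ∃ r ∈ R, ((β g : R1) : Ω) = g * r) : β ^ Nat.card R = 1 := by
  have hpow : ∀ (j : ℕ) (g : R1) (r : Ω), r ∈ R → ((β g : R1) : Ω) = g * r →
      (((β ^ j) g : R1) : Ω) = g * r ^ j := by
    intro j
    induction j with
    | zero => intro g r _ _; simp
    | succ j ih =>
      intro g r hr hgr
      rw [pow_succ', MulAut.mul_apply]
      have h1 := ih g r hr hgr
      have hrj : r ^ j ∈ R := R.pow_mem hr j
      have h2 : (β ^ j) g = g * ⟨r ^ j, hRR1 hrj⟩ := Subtype.ext h1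
      rw [h2, map_mul, hfix ⟨r ^ j, hRR1 hrj⟩ hrj]
      show ((β g : R1) : Ω) * r ^ j = g * r ^ (j + 1)
      rw [hgr, pow_succ', mul_assoc]
  ext g
  obtain ⟨r, hr, hgr⟩ := hshift g
  rw [hpow _ g r hr hgr]
  have h1 : (⟨r, hr⟩ : R) ^ Nat.card R = 1 := pow_card_eq_one'
  have h2 : r ^ Nat.card R = 1 := by
    have h3 := congrArg Subtype.val h1
    rw [Subgroup.coe_pow, Subgroup.coe_one] at h3
    exact h3
  rw [h2]
  simp

/-- **Theorem G**: uniqueness of the Frattini factor modulo `N` on `E`-centric subgroups. -/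
theorem thmG [Finite S] [Fact p.Prime] (hS : IsPGroup p S) (hF : F.IsSaturated p)
    (hE : E.IsSaturated p) (hEF : E.IsInvariantIn F) {N : Subgroup (MulAut T)} (hN : NHyp p F E N) :
    ∀ (n : ℕ) (R : Subgroup Ω), Nat.card T - Nat.card R = n → E.IsCentric R →
      ∀ γ ∈ F.autGroup T, IsMapOn E R (extFun γ) → γ ∈ N := by
  intro n
  induction n using Nat.strong_induction_on with
  | _ n ih =>
  intro R hn hRc γ hγ hγR
  have hT : F.StronglyClosed T := hEF.2.1
  have hTS : T ≤ S := hT.1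
  haveI hfinT : Finite T := Helper84_FusionRS.finite_of_le_S hTS
  have hTp : IsPGroup p T := hS.to_le hTS
  have hRT : R ≤ T := hRc.1
  have hEsub : E.IsSubsystemOf F := hEF.1
  by_cases hReq : R = T
  · subst hReq
    exact hN.autE ((mem_autGroup_iff E le_rfl γ).2 hγR)
  · have hRlt : R < normalizerIn T R := lt_normalizerIn (S := T) hTp hRT hReq
    have hR1T : normalizerIn T R ≤ T := normalizerIn_le T R
    haveI hfinR1 : Finite (normalizerIn T R) :=
      Finite.of_injective (Subgroup.inclusion hR1T) (Subgroup.inclusion_injective hR1T)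
    haveI hfinR : Finite R :=
      Finite.of_injective (Subgroup.inclusion hRT) (Subgroup.inclusion_injective hRT)
    have hf : IsMapOn F T (extFun γ) := (mem_autGroup_iff F hTS γ).1 hγ
    have hfR1 : IsMapOn F (normalizerIn T R) (extFun γ) := hf.mono hR1T
    obtain ⟨R', hR', hRR'⟩ := exists_isImage hγR
    have hR'T : R' ≤ T := hR'.le hγR
    obtain ⟨Rs, ⟨φ, hφ, hφr⟩, hfa, hrec⟩ := hE R' hR'T
    obtain ⟨α, hα, a, ha, haφ⟩ := exists_extension E hTp hfa hrec hφ hφr
    have hRsT : Rs ≤ T := hfa.1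
    have hRsc : E.IsCentric Rs :=
      isCentric_of_isConj (isCentric_of_isConj hRc hRR') ⟨φ, hφ, hφr⟩
    have haR' : ∀ x ∈ R', a x ∈ Rs := by
      intro x hx
      rw [haφ ⟨x, hx⟩]
      exact extFun_mem α (hφr.le ⟨⟨x, hx⟩, rfl⟩)
    have hR'N : R' ≤ normalizerIn T R' := le_normalizerIn hR'T
    have hfN : ∀ g ∈ normalizerIn T R, extFun γ g ∈ normalizerIn T R' := by
      intro g hg
      refine Subgroup.mem_inf.2 ⟨extFun_mem γ (hR1T hg), ?_⟩
      exact map_mem_normalizer hfR1 hRlt.le hR' hg (normalizerIn_le_normalizer T R hg)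
    have haF : IsMapOn F (normalizerIn T R') a :=
      Helper85_Transport2.isMapOn_of_isSubsystemOf hEsub ha
    have haf : IsMapOn F (normalizerIn T R) (a ∘ extFun γ) := hfR1.comp haF hfN
    have haf' : IsMapOn E R (a ∘ extFun γ) := hγR.comp ha (fun x hx => hR'N (hR'.mem hx))
    have himgT : IsImage R (a ∘ extFun γ) Rs := by
      intro t
      constructor
      · intro ht
        have ht' : extFun α⁻¹ t ∈ Rs := extFun_mem _ ht
        obtain ⟨x, hx⟩ := hφr.ge ht'
        obtain ⟨w, hw, hwx⟩ := (hR' x).1 x.2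
        refine ⟨w, hw, ?_⟩
        show a (extFun γ w) = t
        have h1 := haφ x
        rw [hx, extFun_apply_inv α ht] at h1
        rw [hwx]
        exact h1
      · rintro ⟨w, hw, rfl⟩
        exact haR' _ (hR'.mem hw)
    obtain ⟨ψ₀, hψ₀, hψ₀f⟩ := haf'
    have hψ₀r : ψ₀.range = Rs := by
      ext t
      rw [himgT t]
      constructor
      · rintro ⟨x, rfl⟩
        exact ⟨x, x.2, (hψ₀f x).symm⟩
      · rintro ⟨x, hx, rfl⟩
        exact ⟨⟨x, hx⟩, hψ₀f _⟩
    obtain ⟨ψ, hψ, hψext⟩ := hrec.2 R ψ₀ hψ₀ hψ₀r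
    have hR1ext : normalizerIn T R ≤ extender T R ψ₀ := by
      intro g hg
      apply Subgroup.subset_closure
      refine ⟨hR1T hg, normalizerIn_le_normalizer T R hg, a (extFun γ g), ?_, ?_⟩
      · exact ha.mem (hfN g hg)
      intro x hx
      rw [hψ₀f, hψ₀f]
      show a (extFun γ (g * (x : Ω) * g⁻¹)) = a (extFun γ g) * a (extFun γ (x : Ω)) * (a (extFun γ g))⁻¹
      have hxR1 : (x : Ω) ∈ normalizerIn T R := hRlt.le x.2
      have e1 := haf.map_mul (Subgroup.mul_mem _ hg hxR1) (Subgroup.inv_mem _ hg)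
      have e2 := haf.map_mul hg hxR1
      have e3 := haf.map_inv hg
      simp only [Function.comp_apply] at e1 e2 e3
      rw [e1, e2, e3]
    have hb : IsMapOn E (normalizerIn T R) (extHom ψ) := (isMapOn_extHom E hψ).mono hR1ext
    have hbF : IsMapOn F (normalizerIn T R) (extHom ψ) :=
      Helper85_Transport2.isMapOn_of_isSubsystemOf hEsub hb
    have hbR : ∀ x ∈ R, extHom ψ x = (a ∘ extFun γ) x := by
      intro x hx
      rw [extHom_apply ψ (hR1ext (hRlt.le hx)), hψext x hx, hψ₀f]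
    -- the two maps `b = extHom ψ` and `c = a ∘ γ` on `R1` differ by elements of `Rs`
    have hdiff : ∀ g ∈ normalizerIn T R, ∃ x ∈ R, (a ∘ extFun γ) g = extHom ψ (g * x) := by
      intro g hg
      have hz : (extHom ψ g)⁻¹ * (a ∘ extFun γ) g ∈ centralizerIn T Rs := by
        rw [mem_centralizerIn_iff]
        refine ⟨T.mul_mem (T.inv_mem (hb.mem hg)) (ha.mem (hfN g hg)), fun y hy => ?_⟩
        obtain ⟨x, hx, rfl⟩ := (himgT y).1 hy
        have hxR1 : x ∈ normalizerIn T R := hRlt.le hx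
        have hgx : g * x * g⁻¹ ∈ R := conj_mem_of_mem_normalizerIn hg hx
        have e0 := hbR _ hgx
        rw [hbF.map_mul (Subgroup.mul_mem _ hg hxR1) (Subgroup.inv_mem _ hg), hbF.map_mul hg hxR1,
          hbF.map_inv hg, haf.map_mul (Subgroup.mul_mem _ hg hxR1) (Subgroup.inv_mem _ hg),
          haf.map_mul hg hxR1, haf.map_inv hg, hbR x hx] at e0
        -- e0 : b g * c x * (b g)⁻¹ = c g * c x * (c g)⁻¹
        have e1 : (a ∘ extFun γ) x * ((extHom ψ g)⁻¹ * (a ∘ extFun γ) g) =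
            (extHom ψ g)⁻¹ * (extHom ψ g * (a ∘ extFun γ) x * (extHom ψ g)⁻¹) * (a ∘ extFun γ) g := by
          group
        rw [e1, e0]
        group
      have hzRs := hRsc.2 Rs (Helper88_Centric.isConj_refl E hRsT) hz
      obtain ⟨x, hx, hxz⟩ := (himgT _).1 hzRs
      refine ⟨x, hx, ?_⟩
      rw [hbF.map_mul hg (hRlt.le hx), hbR x hx, hxz]
      group
    obtain ⟨R1s, hR1s, -⟩ := exists_isImage hb
    obtain ⟨k, hk, hk1, hk2, hk3⟩ := hb.inv hR1s
    have hkF : IsMapOn F R1s k := Helper85_Transport2.isMapOn_of_isSubsystemOf hEsub hk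
    have hcR1s : ∀ g ∈ normalizerIn T R, (a ∘ extFun γ) g ∈ R1s := by
      intro g hg
      obtain ⟨x, hx, hgx⟩ := hdiff g hg
      rw [hgx]
      exact hR1s.mem (Subgroup.mul_mem _ hg (hRlt.le hx))
    have hβf : IsMapOn F (normalizerIn T R) (k ∘ (a ∘ extFun γ)) := haf.comp hkF hcR1s
    have hβmem : ∀ g ∈ normalizerIn T R, (k ∘ (a ∘ extFun γ)) g ∈ normalizerIn T R :=
      fun g hg => hk2 _ (hcR1s g hg)
    obtain ⟨βh, hβh, hβhx⟩ := Cfsg.Agent.S5111.exists_aut_of_isMapOn hβf hβmem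
    have hβshift : ∀ g ∈ normalizerIn T R, ∃ x ∈ R, (k ∘ (a ∘ extFun γ)) g = g * x := by
      intro g hg
      obtain ⟨x, hx, hgx⟩ := hdiff g hg
      refine ⟨x, hx, ?_⟩
      show k ((a ∘ extFun γ) g) = g * x
      rw [hgx, hk1 _ (Subgroup.mul_mem _ hg (hRlt.le hx))]
    have hβfix : ∀ x ∈ R, (k ∘ (a ∘ extFun γ)) x = x := by
      intro x hx
      show k ((a ∘ extFun γ) x) = x
      rw [← hbR x hx, hk1 _ (hRlt.le hx)]
    -- `βh` is a `p`-element
    obtain ⟨m, hm⟩ := IsPGroup.exists_card_eq (hTp.to_le hRT)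
    have hβpow : βh ^ (p ^ m) = 1 := by
      rw [← hm]
      apply pow_eq_one_of_shift hRlt.le βh
      · intro x hx
        apply Subtype.ext
        rw [hβhx]
        exact hβfix x hx
      · intro g
        obtain ⟨x, hx, hgx⟩ := hβshift g g.2
        exact ⟨x, hx, by rw [hβhx]; exact hgx⟩
    obtain ⟨τ, hτN, hβ₀⟩ := pelt_decomp hS hF hEF hN hR1T hβh hβpow
    have hτF : τ ∈ F.autGroup T := hN.le hτN
    have hτi : τ⁻¹ ∈ F.autGroup T := (F.autGroup T).inv_mem hτF
    have hβext : ∀ g ∈ normalizerIn T R, extFun βh g = (k ∘ (a ∘ extFun γ)) g := by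
      intro g hg
      rw [extFun_apply βh hg, hβhx]
    -- `c g = b (βh g)`
    have hcb : ∀ g ∈ normalizerIn T R, (a ∘ extFun γ) g = extHom ψ (extFun βh g) := by
      intro g hg
      rw [hβext g hg]
      exact (hk3 _ (hcR1s g hg)).symm
    -- the inverse of `a`
    obtain ⟨A', hA', -⟩ := exists_isImage ha
    obtain ⟨ai, hai, hai1, -, -⟩ := ha.inv hA'
    have hbA' : ∀ g ∈ normalizerIn T R, extHom ψ g ∈ A' := by
      intro g hg
      have hg' : extFun βh⁻¹ g ∈ normalizerIn T R := extFun_mem _ hg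
      have h1 := hcb _ hg'
      rw [extFun_apply_inv βh hg] at h1
      rw [← h1]
      exact hA'.mem (hfN _ hg')
    have hε : IsMapOn E (normalizerIn T R) (ai ∘ extHom ψ) := hb.comp hai hbA'
    have hγε : ∀ g ∈ normalizerIn T R, extFun γ g = (ai ∘ extHom ψ) (extFun βh g) := by
      intro g hg
      show extFun γ g = ai (extHom ψ (extFun βh g))
      rw [← hcb g hg]
      exact (hai1 _ (hfN g hg)).symm
    -- transport `ε` by `τ⁻¹`
    obtain ⟨R1', hR1', -⟩ := exists_isImage
      (((mem_autGroup_iff F hTS _).1 hτi).mono hR1T)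
    have htr := Helper88_Invariant.isMapOn_transport hEF hτi hε hR1'
    rw [inv_inv] at htr
    have hγ' : IsMapOn E (normalizerIn T R) (extFun (τ⁻¹ * γ)) := by
      refine (hβ₀.comp htr ?_).congr ?_
      · intro g hg
        exact hR1'.mem (extFun_mem βh hg)
      · intro g hg
        simp only [Function.comp_apply]
        have hβg : extFun βh g ∈ T := hR1T (extFun_mem βh hg)
        rw [extFun_apply_inv τ hβg, extFun_mul _ _ (hR1T hg), hγε g hg]
        rfl
    have hR1c : E.IsCentric (normalizerIn T R) := isCentric_of_le hRc hRlt.le hR1T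
    have hcard : Nat.card T - Nat.card (normalizerIn T R) < n := by
      have h1 : Nat.card R < Nat.card (normalizerIn T R) := card_lt_of_lt hRlt
      have h2 : Nat.card (normalizerIn T R) ≤ Nat.card T := Subgroup.card_le_of_le hR1T
      omega
    have h3 := ih _ hcard (normalizerIn T R) rfl hR1c (τ⁻¹ * γ)
      (Subgroup.mul_mem _ hτi hγ) hγ'
    have h4 : γ = τ * (τ⁻¹ * γ) := by group
    rw [h4]
    exact N.mul_mem hτN h3

end Cfsg.Agent.Lib.Helper85_Rel2
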