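import Cfsg.Agent.Lib.Helper85_Rel2
import Cfsg.Agent.Lib.Helper87_ModT

/-!
# Relative theory for an invariant subsystem (helper85), part 3: the subsystem cut out by `N`

`F0' F E N`: the maps `f` of `F` on `P` such that, if `P ∩ T` is `E`-centric, the restriction of `f` to
`P ∩ T` is `τ ∘ (map of E)` with `τ ∈ N`.  `F0 F E N`: the subsystem generated by the maps of `F0'` on the
family `ℋ = {P ≤ S | P ∩ T is E-centric}`.
-/

set_option autoImplicit false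
set_option linter.style.haveILetI false

namespace Cfsg.Agent.Lib.Helper85_Rel3

open Cfsg Cfsg.FusionSystem Cfsg.Agent.Lib
open Cfsg.Agent.Lib.Helper87_Alperin Cfsg.Agent.Lib.Helper88_Centric Cfsg.Agent.Lib.Helper85_Rel1
  Cfsg.Agent.Lib.Helper85_Rel2

variable {Ω : Type*} [Group Ω] {S T : Subgroup Ω} {F : FusionSystem S} {E : FusionSystem T} {p : ℕ}
  {N : Subgroup (MulAut T)}

/-- The standing hypotheses. -/
structure Setup (p : ℕ) (F : FusionSystem S) (E : FusionSystem T) (N : Subgroup (MulAut T)) : Prop where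
  hS : IsPGroup p S
  hF : F.IsSaturated p
  hE : E.IsSaturated p
  hEF : E.IsInvariantIn F
  hN : NHyp p F E N

theorem Setup.hT (h : Setup p F E N) : F.StronglyClosed T := h.hEF.2.1

theorem Setup.hTS (h : Setup p F E N) : T ≤ S := h.hEF.2.1.1

theorem Setup.mem_autGroup (h : Setup p F E N) {τ : MulAut T} (hτ : τ ∈ N) : τ ∈ F.autGroup T :=
  h.hN.le hτ

/-- The family `ℋ`. -/
def InH (S : Subgroup Ω) (E : FusionSystem T) (P : Subgroup Ω) : Prop := P ≤ S ∧ E.IsCentric (P ⊓ T)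

/-- The restriction of `f` to `P ∩ T` is `τ ∘ (map of E)` with `τ ∈ N`. -/
def ThetaTriv (E : FusionSystem T) (N : Subgroup (MulAut T)) (P : Subgroup Ω) (f : Ω → Ω) : Prop :=
  ∃ τ ∈ N, IsMapOn E (P ⊓ T) (extFun τ⁻¹ ∘ f)

/-- The predicate cutting out `F0'`. -/
def G0 (E : FusionSystem T) (N : Subgroup (MulAut T)) (P : Subgroup Ω) (f : Ω → Ω) : Prop :=
  E.IsCentric (P ⊓ T) → ThetaTriv E N P f

theorem thetaTriv_congr {P : Subgroup Ω} {f g : Ω → Ω} (h : ThetaTriv E N P f)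
    (hfg : ∀ x ∈ P, f x = g x) : ThetaTriv E N P g := by
  obtain ⟨τ, hτ, h⟩ := h
  refine ⟨τ, hτ, h.congr fun x hx => ?_⟩
  simp only [Function.comp_apply]
  rw [hfg x hx.1]

theorem g0_congr {P : Subgroup Ω} {f g : Ω → Ω} (h : G0 E N P f) (hfg : ∀ x ∈ P, f x = g x) :
    G0 E N P g := fun hc => thetaTriv_congr (h hc) hfg

theorem g0_conj [Finite S] (h : Setup p F E N) {P : Subgroup Ω} {s : Ω} (_ : P ≤ S) (hs : s ∈ S) :
    G0 E N P (fun x => s * x * s⁻¹) := by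
  intro _
  obtain ⟨k, hk⟩ := h.hS ⟨s, hs⟩
  have hsk : s ^ (p ^ k) = 1 := by simpa using congrArg Subtype.val hk
  obtain ⟨σ, hσ, hσx, hσpow⟩ := exists_aut_conj h.hT hs
  have hσN : σ ∈ N := h.hN.pelt σ hσ k (hσpow _ hsk)
  refine ⟨σ, hσN, (IsMapOn.id E inf_le_right).congr fun x hx => ?_⟩
  simp only [Function.comp_apply]
  have h1 : s * x * s⁻¹ = extFun σ x := by rw [extFun_apply σ hx.2, hσx]
  rw [h1, extFun_inv_apply σ hx.2]

theorem inf_isCentric_of_map (h : Setup p F E N) {P R : Subgroup Ω} {f : Ω → Ω} (hf : IsMapOn F P f)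
    (hfR : ∀ x ∈ P, f x ∈ R) (hc : E.IsCentric (P ⊓ T)) : E.IsCentric (R ⊓ T) := by
  obtain ⟨P₀', hP₀', -⟩ := exists_isImage (hf.mono (inf_le_left : P ⊓ T ≤ P))
  have hP₀'c : E.IsCentric P₀' := isCentric_of_isMapOn h.hEF hc (hf.mono inf_le_left) hP₀'
  refine isCentric_of_le hP₀'c ?_ inf_le_right
  intro y hy
  obtain ⟨x, hx, rfl⟩ := (hP₀' y).1 hy
  exact ⟨hfR x hx.1, Helper87_ModT.IsMapOn.mem_stronglyClosed h.hT hf hx.1 hx.2⟩

theorem g0_comp (h : Setup p F E N) {P R : Subgroup Ω} {f g : Ω → Ω} (hf : IsMapOn F P f)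
    (hGf : G0 E N P f) (hg : IsMapOn F R g) (hGg : G0 E N R g) (hfR : ∀ x ∈ P, f x ∈ R) :
    G0 E N P (g ∘ f) := by
  intro hc
  obtain ⟨τ₁, hτ₁, hf₁⟩ := hGf hc
  obtain ⟨τ₂, hτ₂, hg₂⟩ := hGg (inf_isCentric_of_map h hf hfR hc)
  have hτ₁i : τ₁⁻¹ ∈ F.autGroup T := (F.autGroup T).inv_mem (h.mem_autGroup hτ₁)
  obtain ⟨R'', hR'', -⟩ := exists_isImage
    (((mem_autGroup_iff F h.hTS _).1 hτ₁i).mono (inf_le_right : R ⊓ T ≤ T))
  have hg₂' := Helper88_Invariant.isMapOn_transport h.hEF hτ₁i hg₂ hR''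
  rw [inv_inv] at hg₂'
  have hfT : ∀ x ∈ P ⊓ T, f x ∈ R ⊓ T := fun x hx =>
    ⟨hfR x hx.1, Helper87_ModT.IsMapOn.mem_stronglyClosed h.hT hf hx.1 hx.2⟩
  refine ⟨τ₂ * τ₁, N.mul_mem hτ₂ hτ₁, (hf₁.comp hg₂' ?_).congr ?_⟩
  · intro x hx
    exact hR''.mem (hfT x hx)
  · intro x hx
    have hfx := hfT x hx
    have hgfx : g (f x) ∈ T := Helper87_ModT.IsMapOn.mem_stronglyClosed h.hT hg hfx.1 hfx.2
    simp only [Function.comp_apply]
    rw [extFun_apply_inv τ₁ hfx.2, mul_inv_rev, extFun_mul _ _ hgfx]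

theorem g0_inv (h : Setup p F E N) {P P' : Subgroup Ω} {f g : Ω → Ω} (hf : IsMapOn F P f)
    (hGf : G0 E N P f) (himg : IsImage P f P') (hg : IsMapOn F P' g)
    (hgf : ∀ x ∈ P, g (f x) = x) : G0 E N P' g := by
  intro hc'
  have hgP : ∀ y ∈ P', g y ∈ P := by
    intro y hy
    obtain ⟨x, hx, rfl⟩ := (himg y).1 hy
    rw [hgf x hx]
    exact hx
  have hc : E.IsCentric (P ⊓ T) := inf_isCentric_of_map h hg hgP hc'
  obtain ⟨τ, hτ, hf₁⟩ := hGf hc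
  have hτF : τ ∈ F.autGroup T := h.mem_autGroup hτ
  obtain ⟨P₁, hP₁, -⟩ := exists_isImage hf₁
  obtain ⟨k, hk, hk1, -, -⟩ := hf₁.inv hP₁
  have hP₁T : P₁ ≤ T := hk.le
  obtain ⟨P₁', hP₁', -⟩ := exists_isImage (((mem_autGroup_iff F h.hTS _).1 hτF).mono hP₁T)
  have hk' := Helper88_Invariant.isMapOn_transport h.hEF hτF hk hP₁'
  have hle : P' ⊓ T ≤ P₁' := by
    intro y hy
    obtain ⟨x, hx, rfl⟩ := (himg y).1 hy.1
    have hxT : x ∈ T := by
      have := Helper87_ModT.IsMapOn.mem_stronglyClosed h.hT hg hy.1 hy.2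
      rwa [hgf x hx] at this
    refine (hP₁' _).2 ⟨(extFun τ⁻¹ ∘ f) x, hP₁.mem ⟨hx, hxT⟩, ?_⟩
    simp only [Function.comp_apply]
    exact extFun_apply_inv τ hy.2
  refine ⟨τ⁻¹, N.inv_mem hτ, (hk'.mono hle).congr fun y hy => ?_⟩
  obtain ⟨x, hx, rfl⟩ := (himg y).1 hy.1
  have hxT : x ∈ T := by
    have := Helper87_ModT.IsMapOn.mem_stronglyClosed h.hT hg hy.1 hy.2
    rwa [hgf x hx] at this
  have h1 := hk1 x ⟨hx, hxT⟩
  simp only [Function.comp_apply] at h1 ⊢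
  rw [h1, hgf x hx, inv_inv]

/-- The system of the maps of `F` that are `N`-trivial on `ℋ`. -/
def F0' [Finite S] (h : Setup p F E N) : FusionSystem S :=
  Helper88_Essential.subsystemOf F (G0 E N) g0_congr (g0_conj h) (g0_comp h) (g0_inv h)

theorem isMapOn_F0' [Finite S] (h : Setup p F E N) {P : Subgroup Ω} {f : Ω → Ω}
    (hf : IsMapOn F P f) (hG : G0 E N P f) : IsMapOn (F0' h) P f := by
  obtain ⟨φ, hφ, hφf⟩ := hf
  refine ⟨φ, ⟨hφ, g0_congr hG fun x hx => ?_⟩, hφf⟩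
  rw [extHom_apply φ hx, hφf]

theorem g0_of_isMapOn_F0' [Finite S] (h : Setup p F E N) {P : Subgroup Ω} {f : Ω → Ω}
    (hf : IsMapOn (F0' h) P f) : G0 E N P f := by
  obtain ⟨φ, hφ, hφf⟩ := hf
  refine g0_congr hφ.2 fun x hx => ?_
  rw [extHom_apply φ hx, hφf]

theorem isMapOn_F_of_F0' [Finite S] (h : Setup p F E N) {P : Subgroup Ω} {f : Ω → Ω}
    (hf : IsMapOn (F0' h) P f) : IsMapOn F P f := by
  obtain ⟨φ, hφ, hφf⟩ := hf
  exact ⟨φ, hφ.1, hφf⟩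

/-! ### The generated system -/

/-- A system containing the maps of `F0'` on `ℋ`. -/
def Good0 [Finite S] (h : Setup p F E N) (E'' : FusionSystem S) : Prop :=
  ∀ P' : Subgroup Ω, InH S E P' → (F0' h).Hom P' ⊆ E''.Hom P'

/-- The predicate cutting out the generated system. -/
def G1 [Finite S] (h : Setup p F E N) (P : Subgroup Ω) (f : Ω → Ω) : Prop :=
  ∀ E'' : FusionSystem S, Good0 h E'' → IsMapOn E'' P f

theorem g1_congr [Finite S] {h : Setup p F E N} {P : Subgroup Ω} {f g : Ω → Ω} (hG : G1 h P f)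
    (hfg : ∀ x ∈ P, f x = g x) : G1 h P g := fun E'' hE'' => (hG E'' hE'').congr hfg

theorem g1_conj [Finite S] {h : Setup p F E N} {P : Subgroup Ω} {a : Ω} (hP : P ≤ S) (ha : a ∈ S) :
    G1 h P (fun x => a * x * a⁻¹) := fun E'' _ => IsMapOn.conj E'' hP ha

theorem g1_comp [Finite S] {h : Setup p F E N} {P R : Subgroup Ω} {f g : Ω → Ω} (_ : IsMapOn F P f)
    (hGf : G1 h P f) (_ : IsMapOn F R g) (hGg : G1 h R g) (hfR : ∀ x ∈ P, f x ∈ R) :
    G1 h P (g ∘ f) := fun E'' hE'' => (hGf E'' hE'').comp (hGg E'' hE'') hfR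

theorem g1_inv [Finite S] {h : Setup p F E N} {P P' : Subgroup Ω} {f g : Ω → Ω} (_ : IsMapOn F P f)
    (hGf : G1 h P f) (himg : IsImage P f P') (_ : IsMapOn F P' g) (hgf : ∀ x ∈ P, g (f x) = x) :
    G1 h P' g := by
  intro E'' hE''
  obtain ⟨k, hk, hk1, -, -⟩ := (hGf E'' hE'').inv himg
  refine hk.congr fun y hy => ?_
  obtain ⟨x, hx, rfl⟩ := (himg y).1 hy
  rw [hk1 x hx, hgf x hx]

/-- The subsystem generated by the maps of `F0'` on `ℋ`. -/
def F0 [Finite S] (h : Setup p F E N) : FusionSystem S :=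
  Helper88_Essential.subsystemOf F (G1 h) g1_congr g1_conj g1_comp g1_inv

theorem good0_F0' [Finite S] (h : Setup p F E N) : Good0 h (F0' h) := fun _ _ _ hφ => hφ

theorem isMapOn_F_of_F0 [Finite S] (h : Setup p F E N) {P : Subgroup Ω} {f : Ω → Ω}
    (hf : IsMapOn (F0 h) P f) : IsMapOn F P f := by
  obtain ⟨φ, hφ, hφf⟩ := hf
  exact ⟨φ, hφ.1, hφf⟩

theorem F0_le_F [Finite S] (h : Setup p F E N) : (F0 h).IsSubsystemOf F := fun _ _ hφ => hφ.1

theorem g1_of_isMapOn_F0 [Finite S] (h : Setup p F E N) {P : Subgroup Ω} {f : Ω → Ω}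
    (hf : IsMapOn (F0 h) P f) : G1 h P f := by
  obtain ⟨φ, hφ, hφf⟩ := hf
  refine g1_congr hφ.2 fun x hx => ?_
  rw [extHom_apply φ hx, hφf]

theorem isMapOn_F0'_of_F0 [Finite S] (h : Setup p F E N) {P : Subgroup Ω} {f : Ω → Ω}
    (hf : IsMapOn (F0 h) P f) : IsMapOn (F0' h) P f :=
  g1_of_isMapOn_F0 h hf (F0' h) (good0_F0' h)

/-- On `ℋ` the two systems coincide. -/
theorem isMapOn_F0_of_inH [Finite S] (h : Setup p F E N) {P : Subgroup Ω} (hP : InH S E P)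
    {f : Ω → Ω} (hf : IsMapOn (F0' h) P f) : IsMapOn (F0 h) P f := by
  obtain ⟨φ, hφ, hφf⟩ := hf
  refine ⟨φ, ⟨hφ.1, fun E'' hE'' => ?_⟩, hφf⟩
  exact isMapOn_extHom E'' (hE'' P hP hφ)

/-- `F0` is generated by its maps on `ℋ`. -/
theorem F0_gen [Finite S] (h : Setup p F E N) (E'' : FusionSystem S)
    (hE'' : ∀ P, InH S E P → (F0 h).Hom P ⊆ E''.Hom P) : F0 h ≤ E'' := by
  have hgood : Good0 h E'' := by
    intro P hP φ hφ
    have h1 : IsMapOn (F0 h) P (extHom φ) := isMapOn_F0_of_inH h hP (isMapOn_extHom _ hφ)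
    exact hE'' P hP ((mem_hom_iff_isMapOn (F0 h) φ).2 h1)
  intro P φ hφ
  rw [mem_hom_iff_isMapOn]
  exact hφ.2 E'' hgood

/-- On `ℋ`, a map of `F` is in `F0` as soon as it is `N`-trivial. -/
theorem isMapOn_F0_of_thetaTriv [Finite S] (h : Setup p F E N) {P : Subgroup Ω} (hP : InH S E P)
    {f : Ω → Ω} (hf : IsMapOn F P f) (hθ : ThetaTriv E N P f) : IsMapOn (F0 h) P f :=
  isMapOn_F0_of_inH h hP (isMapOn_F0' h hf fun _ => hθ)

theorem thetaTriv_of_isMapOn_F0 [Finite S] (h : Setup p F E N) {P : Subgroup Ω} (hP : InH S E P)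
    {f : Ω → Ω} (hf : IsMapOn (F0 h) P f) : ThetaTriv E N P f :=
  g0_of_isMapOn_F0' h (isMapOn_F0'_of_F0 h hf) hP.2

end Cfsg.Agent.Lib.Helper85_Rel3
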