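import Cfsg.Agent.Lib.Helper85_Rel3

/-!
# Relative theory for an invariant subsystem (helper85), part 4

* `exists_aut_S_of_aut_T`: every element of `Aut_F(T)` is, modulo `N`, the restriction of an element of `Aut_F(S)`;
* `uniq`: on `ℋ`, the `Aut_F(T)`-factor of an `N`-trivial map lies in `N`;
* `exists_fa_rec0`: every class of `ℋ` contains a fully automized receptive member of `F0`.
-/

set_option autoImplicit false
set_option linter.style.haveILetI false

namespace Cfsg.Agent.Lib.Helper85_Rel4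

open Cfsg Cfsg.FusionSystem Cfsg.Agent.Lib
open Cfsg.Agent.Lib.Helper87_Alperin Cfsg.Agent.Lib.Helper88_Centric Cfsg.Agent.Lib.Helper85_Rel1
  Cfsg.Agent.Lib.Helper85_Rel2 Cfsg.Agent.Lib.Helper85_Rel3

variable {Ω : Type*} [Group Ω] {S T : Subgroup Ω} {F : FusionSystem S} {E : FusionSystem T} {p : ℕ}
  {N : Subgroup (MulAut T)}

/-- A strongly closed subgroup is fully normalized. -/
theorem isFullyNormalized_of_stronglyClosed [Finite S] (hT : F.StronglyClosed T) :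
    F.IsFullyNormalized T := by
  refine ⟨hT.1, fun Q hQ => ?_⟩
  haveI : Finite T := Helper84_FusionRS.finite_of_le_S hT.1
  have hQT : Q ≤ T := by
    obtain ⟨φ, hφ, hr⟩ := hQ
    intro y hy
    rw [← hr] at hy
    obtain ⟨x, rfl⟩ := hy
    exact hT.2 T le_rfl φ hφ x
  have hcard := Helper85_Fusion.isConj_card_eq F hQ
  have hQeq : Q = T := Subgroup.eq_of_le_of_card_ge hQT (le_of_eq hcard)
  rw [hQeq]

/-- The restriction to `T` of an automorphism of `S` in `F`. -/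
theorem exists_restr [Finite S] (hT : F.StronglyClosed T) {α : MulAut S} (hα : α ∈ F.autGroup S) :
    ∃ a ∈ F.autGroup T, ∀ x ∈ T, extFun a x = extFun α x := by
  haveI : Finite T := Helper84_FusionRS.finite_of_le_S hT.1
  have hαm : IsMapOn F S (extFun α) := (mem_autGroup_iff F le_rfl α).1 hα
  obtain ⟨a, ha, hax⟩ := Cfsg.Agent.S5111.exists_aut_of_isMapOn (hαm.mono hT.1)
    (fun x hx => Helper87_ModT.IsMapOn.mem_stronglyClosed hT hαm (hT.1 hx) hx)
  exact ⟨a, ha, fun x hx => by rw [extFun_apply a hx, hax]⟩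

/-- If `a` is the restriction of `α`, then `a⁻¹` is the restriction of `α⁻¹`. -/
theorem restr_inv (hTS : T ≤ S) {α : MulAut S} {a : MulAut T}
    (h : ∀ x ∈ T, extFun a x = extFun α x) : ∀ x ∈ T, extFun a⁻¹ x = extFun α⁻¹ x := by
  intro x hx
  have h1 : extFun a⁻¹ x ∈ T := extFun_mem _ hx
  have h2 := h _ h1
  rw [extFun_apply_inv a hx] at h2
  have h3 := congrArg (extFun α⁻¹) h2
  rw [extFun_inv_apply α (hTS h1)] at h3
  exact h3.symm

/-- Elements of `Aut_S(T)` lie in `N`. -/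
theorem autInducedBy_le_N [Finite S] (h : Setup p F E N) : autInducedBy S T ≤ N := by
  intro x hx
  obtain ⟨s, hs, hxs⟩ := (mem_autInducedBy_iff S T x).1 hx
  obtain ⟨k, hk⟩ := h.hS ⟨s, hs⟩
  have hsk : s ^ (p ^ k) = 1 := by simpa using congrArg Subtype.val hk
  obtain ⟨σ, hσ, hσx, hσpow⟩ := exists_aut_conj h.hT hs
  have hxσ : x = σ := by
    ext t
    rw [hxs, hσx]
  rw [hxσ]
  exact h.hN.pelt σ hσ k (hσpow _ hsk)

/-- Every element of `Aut_F(T)` is, modulo `N`, the restriction of an element of `Aut_F(S)`. -/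
theorem exists_aut_S_of_aut_T [Finite S] [Fact p.Prime] (h : Setup p F E N) {a : MulAut T}
    (ha : a ∈ F.autGroup T) :
    ∃ α ∈ F.autGroup S, ∃ b ∈ F.autGroup T, (∀ x ∈ T, extFun b x = extFun α x) ∧ b⁻¹ * a ∈ N := by
  classical
  have hTS := h.hTS
  haveI : Finite T := Helper84_FusionRS.finite_of_le_S hTS
  have hTn := isFullyNormalized_of_stronglyClosed h.hT
  obtain ⟨-, R, hR⟩ := Helper84_FusionRS.IsSaturated.isFullyAutomized h.hS h.hF hTn
  have hrec := Helper84_FusionRS.IsSaturated.isReceptive_of_isFullyNormalized h.hS h.hF hTn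
  haveI : Finite (F.autGroup T) := inferInstance
  haveI hnorm : (N.subgroupOf (F.autGroup T)).Normal := by
    refine ⟨fun n hn g => ?_⟩
    rw [Subgroup.mem_subgroupOf] at hn ⊢
    exact h.hN.normal g g.2 n hn
  have hRN : (R : Subgroup (F.autGroup T)) ≤ N.subgroupOf (F.autGroup T) := by
    intro x hx
    rw [hR, Subgroup.mem_subgroupOf] at hx
    rw [Subgroup.mem_subgroupOf]
    exact autInducedBy_le_N h hx
  have hfr := Sylow.normalizer_sup_eq_top' R hRN
  have hmem : (⟨a, ha⟩ : F.autGroup T) ∈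
      Subgroup.normalizer ((R : Subgroup (F.autGroup T)) : Set (F.autGroup T)) ⊔
        N.subgroupOf (F.autGroup T) := hfr ▸ Subgroup.mem_top _
  have hmem' : (⟨a, ha⟩ : F.autGroup T) ∈
      ((Subgroup.normalizer ((R : Subgroup (F.autGroup T)) : Set (F.autGroup T)) ⊔
        N.subgroupOf (F.autGroup T) : Subgroup (F.autGroup T)) : Set (F.autGroup T)) := hmem
  rw [Subgroup.mul_normal] at hmem'
  obtain ⟨ν, hν, n, hn, hνn⟩ := hmem'
  -- `ν` normalizes `Aut_S(T)`, hence extends to `S`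
  have hνm : IsMapOn F T (extFun (ν : MulAut T)) := (mem_autGroup_iff F hTS _).1 ν.2
  have hext : ∀ g ∈ S, g ∈ normalizerIn S T ∧ ∃ h' ∈ S, ∀ x ∈ T,
      extFun (ν : MulAut T) (g * x * g⁻¹) = h' * extFun (ν : MulAut T) x * h'⁻¹ := by
    intro g hg
    have hgN : g ∈ normalizerIn S T :=
      ⟨hg, Helper85_FusionNormal.sc_le_normalizer h.hT hg⟩
    refine ⟨hgN, ?_⟩
    obtain ⟨σ, hσ, hσx, -⟩ := exists_aut_conj h.hT hg
    have hσR : (⟨σ, hσ⟩ : F.autGroup T) ∈ (R : Subgroup (F.autGroup T)) := by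
      rw [hR, Subgroup.mem_subgroupOf]
      exact (mem_autInducedBy_iff S T σ).2 ⟨g, hg, hσx⟩
    have h1 := (Subgroup.mem_normalizer_iff.1 hν ⟨σ, hσ⟩).1 hσR
    rw [hR, Subgroup.mem_subgroupOf, mem_autInducedBy_iff] at h1
    obtain ⟨h', hh', hh'x⟩ := h1
    refine ⟨h', hh', fun x hx => ?_⟩
    have h2 := hh'x ((ν : MulAut T) ⟨x, hx⟩)
    simp only [Subgroup.coe_mul, Subgroup.coe_inv, MulAut.mul_apply, MulAut.inv_apply_self] at h2
    have hgx : g * x * g⁻¹ ∈ T := Helper85_FusionNormal.sc_conj_mem h.hT hg hx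
    rw [extFun_apply _ hgx, extFun_apply _ hx, ← h2]
    congr 2
    apply Subtype.ext
    exact (hσx ⟨x, hx⟩).symm
  obtain ⟨ψ', hψ', hψ'x⟩ := Helper85_SatCrit2.receptive_extend hrec hνm
    (Helper85_SatCrit6.isImage_extFun _) S hext
  have hTS' : T ⊔ S = S := sup_eq_right.2 hTS
  rw [hTS'] at hψ'
  obtain ⟨α, hα, hαx⟩ := Cfsg.Agent.S5111.exists_aut_of_isMapOn hψ' (fun x hx => hψ'.mem hx)
  refine ⟨α, hα, ν, ν.2, fun x hx => ?_, ?_⟩
  · rw [extFun_apply α (hTS hx), hαx, hψ'x x hx]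
  · have h3 : a = (ν : MulAut T) * (n : MulAut T) := by
      have := congrArg Subtype.val hνn
      simpa using this.symm
    rw [h3]
    have h4 : (ν : MulAut T)⁻¹ * ((ν : MulAut T) * (n : MulAut T)) = n := by group
    rw [h4]
    exact Subgroup.mem_subgroupOf.1 hn

/-- **Uniqueness**: on `ℋ`, the `Aut_F(T)`-factor of an `N`-trivial map lies in `N`. -/
theorem uniq [Finite S] [Fact p.Prime] (h : Setup p F E N) {P : Subgroup Ω}
    (hc : E.IsCentric (P ⊓ T)) {f : Ω → Ω} (hfT : ∀ x ∈ P ⊓ T, f x ∈ T) (hθ : ThetaTriv E N P f)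
    {b : MulAut T} (hb : b ∈ F.autGroup T) (h2 : IsMapOn E (P ⊓ T) (extFun b⁻¹ ∘ f)) : b ∈ N := by
  obtain ⟨τ, hτ, h1⟩ := hθ
  obtain ⟨P₀, hP₀, hPP₀⟩ := exists_isImage h1
  obtain ⟨k, hk, hk1, hkP, -⟩ := h1.inv hP₀
  have hP₀c : E.IsCentric P₀ := isCentric_of_isConj hc hPP₀
  have hτF := h.mem_autGroup hτ
  have hγ : b⁻¹ * τ ∈ N := by
    refine thmG h.hS h.hF h.hE h.hEF h.hN _ P₀ rfl hP₀c (b⁻¹ * τ)
      (Subgroup.mul_mem _ (Subgroup.inv_mem _ hb) hτF) ((hk.comp h2 hkP).congr fun y hy => ?_)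
    obtain ⟨x, hx, rfl⟩ := (hP₀ y).1 hy
    have hfx := hfT x hx
    simp only [Function.comp_apply] at hk1 ⊢
    rw [hk1 x hx, extFun_mul _ _ (extFun_mem _ hfx), extFun_apply_inv τ hfx]
  have h3 : b = τ * (b⁻¹ * τ)⁻¹ := by group
  rw [h3]
  exact N.mul_mem hτ (N.inv_mem hγ)

/-- The family `ℋ` is closed under images of maps of `F` and under overgroups. -/
theorem inH_of_map [Finite S] (h : Setup p F E N) {P R : Subgroup Ω} (hP : InH S E P) {f : Ω → Ω}
    (hf : IsMapOn F P f) (hfR : ∀ x ∈ P, f x ∈ R) (hRS : R ≤ S) : InH S E R :=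
  ⟨hRS, inf_isCentric_of_map h hf hfR hP.2⟩

/-- Every class of `ℋ` contains a fully automized receptive member of `F0`. -/
theorem exists_fa_rec0 [Finite S] [Fact p.Prime] (h : Setup p F E N) {P : Subgroup Ω}
    (hP : InH S E P) :
    ∃ Q, (F0 h).IsConj P Q ∧ (F0 h).IsFullyAutomized p Q ∧ (F0 h).IsReceptive Q := by
  have hPS : P ≤ S := hP.1
  have hTS := h.hTS
  obtain ⟨Q₁, hPQ₁, hQ₁n⟩ := Helper84_FusionRS.exists_isFullyNormalized_conj F hPS
  obtain ⟨f, hf, himg⟩ := exists_isMapOn_of_isConj hPQ₁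
  obtain ⟨a, ha, f₀, hf₀, hfa⟩ := Helper85_Transport2.exists_frattini h.hEF
    (inf_le_right : P ⊓ T ≤ T) (hf.mono inf_le_left)
  obtain ⟨α, hα, b, hb, hbα, hbaN⟩ := exists_aut_S_of_aut_T h ha
  have hαi : α⁻¹ ∈ F.autGroup S := (F.autGroup S).inv_mem hα
  have hαim : IsMapOn F S (extFun α⁻¹) := (mem_autGroup_iff F le_rfl _).1 hαi
  have hf' : IsMapOn F P (extFun α⁻¹ ∘ f) := hf.comp hαim (fun x hx => hf.mem hx)
  have hbαi := restr_inv hTS hbα
  have hfT : ∀ x ∈ P ⊓ T, f x ∈ T := fun x hx =>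
    Helper87_ModT.IsMapOn.mem_stronglyClosed h.hT hf hx.1 hx.2
  have hθ : ThetaTriv E N P (extFun α⁻¹ ∘ f) := by
    refine ⟨b⁻¹ * a, hbaN, hf₀.congr fun x hx => ?_⟩
    simp only [Function.comp_apply]
    have hfx := hfT x hx
    rw [← hbαi _ hfx, mul_inv_rev, inv_inv, extFun_mul _ _ (extFun_mem _ hfx),
      extFun_apply_inv b hfx, hfa x hx, extFun_inv_apply a (hf₀.mem hx)]
  have hf'0 : IsMapOn (F0 h) P (extFun α⁻¹ ∘ f) := isMapOn_F0_of_thetaTriv h hP hf' hθ
  obtain ⟨Q, hQ, -⟩ := exists_isImage hf'0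
  have hPQ0 : (F0 h).IsConj P Q := isConj_of_isImage hf'0 hQ
  have hPQF : F.IsConj P Q := isConj_of_isImage hf' hQ
  have hQS : Q ≤ S := isConj_le_right hPQF
  have hQ₁S : Q₁ ≤ S := hQ₁n.1
  have hQH : InH S E Q := inH_of_map h hP hf' (fun x hx => hQ.mem hx) hQS
  -- `Q` is the image of `Q₁` under `α⁻¹`
  have hQ₁Q : IsImage Q₁ (extFun α⁻¹) Q := by
    intro y
    constructor
    · intro hy
      obtain ⟨x, hx, rfl⟩ := (hQ y).1 hy
      exact ⟨f x, himg.mem hx, rfl⟩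
    · rintro ⟨z, hz, rfl⟩
      obtain ⟨x, hx, rfl⟩ := (himg z).1 hz
      exact hQ.mem hx
  have hQn : F.IsFullyNormalized Q := by
    refine ⟨hQS, fun Q'' hQ'' => ?_⟩
    have h1 : F.IsConj Q₁ Q'' :=
      Helper84_Fusion.isConj_trans F
        (Helper84_Fusion.isConj_trans F (Helper84_Fusion.isConj_symm F hPQ₁) hPQF) hQ''
    exact (hQ₁n.2 Q'' h1).trans (Helper85_PPrime2.card_normalizerIn_le_of_isImage
      (hαim.mono (normalizerIn_le S Q₁)) hQ₁S hQ₁Q)
  have hQfa : F.IsFullyAutomized p Q := Helper84_FusionRS.IsSaturated.isFullyAutomized h.hS h.hF hQn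
  have hQrec : F.IsReceptive Q :=
    Helper84_FusionRS.IsSaturated.isReceptive_of_isFullyNormalized h.hS h.hF hQn
  refine ⟨Q, hPQ0, ?_, ?_⟩
  · haveI : Finite Q := Helper84_FusionRS.finite_of_le_S hQS
    have hsyl := Helper84_FusionSat.isSylowIn_of_isFullyAutomized F hQfa
    apply Helper84_FusionRS.isFullyAutomized_of_isSylowIn _ hQS
    exact hsyl.mono (autInducedBy_le_autGroup _ hQS)
      (Cfsg.Agent.Lib.Helper85_Index.autGroup_le_of_le (F0_le_F h) Q)
  · refine ⟨hQS, fun R φ hφ hrange => ?_⟩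
    have hφF : φ ∈ F.Hom R := F0_le_F h R hφ
    obtain ⟨ψ, hψ, hψφ⟩ := hQrec.2 R φ hφF hrange
    refine ⟨ψ, ?_, hψφ⟩
    have hRS : R ≤ S := (F.le_of_mem hφF).1
    have hRN : R ≤ extender S R φ :=
      Helper84_Fusion.le_extender S R φ hRS (F.le_of_mem hφF).2
    have hNS : extender S R φ ≤ S := Helper84_FusionRS.extender_le' φ
    -- `R ∈ ℋ`
    have hφm : IsMapOn F R (extHom φ) := isMapOn_extHom F hφF
    have hφI : IsImage R (extHom φ) Q := by
      rw [← hrange]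
      exact Helper88_Essential.isImage_extHom_range φ
    obtain ⟨k, hk, hk1, hkR, -⟩ := hφm.inv hφI
    have hRH : InH S E R := inH_of_map h hQH hk hkR hRS
    have hNH : InH S E (extender S R φ) :=
      inH_of_map h hRH (IsMapOn.id F hRS) (fun x hx => hRN hx) hNS
    rw [mem_hom_iff_isMapOn]
    have hψF := isMapOn_extHom F hψ
    apply isMapOn_F0_of_thetaTriv h hNH hψF
    obtain ⟨b', hb', ψ₀, hψ₀, hψb'⟩ := Helper85_Transport2.exists_frattini h.hEF
      (inf_le_right : extender S R φ ⊓ T ≤ T) (hψF.mono inf_le_left)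
    have hψ₀' : IsMapOn E (extender S R φ ⊓ T) (extFun b'⁻¹ ∘ extHom ψ) :=
      hψ₀.congr fun x hx => by
        simp only [Function.comp_apply]
        rw [hψb' x hx, extFun_inv_apply b' (hψ₀.mem hx)]
    have hθR : ThetaTriv E N R (extHom φ) :=
      thetaTriv_of_isMapOn_F0 h hRH (isMapOn_extHom _ hφ)
    have hb'N : b' ∈ N := by
      refine uniq h hRH.2 (f := extHom φ) ?_ hθR hb'
        ((hψ₀'.mono (inf_le_inf_right T hRN)).congr fun x hx => ?_)
      · intro x hx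
        exact Helper87_ModT.IsMapOn.mem_stronglyClosed h.hT hφm hx.1 hx.2
      · simp only [Function.comp_apply]
        rw [extHom_apply ψ (hRN hx.1), extHom_apply φ hx.1, hψφ x hx.1 (hRN hx.1)]
    exact ⟨b', hb'N, hψ₀'⟩

end Cfsg.Agent.Lib.Helper85_Rel4
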