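import Cfsg.Agent.Lib.Helper85_Rel4

/-!
# Relative theory for an invariant subsystem (helper85), part 5: invariance of `F0` and the Frattini
decomposition `F = Aut_F(S) · F0`
-/

set_option autoImplicit false
set_option linter.style.haveILetI false

namespace Cfsg.Agent.Lib.Helper85_Rel5

open Cfsg Cfsg.FusionSystem Cfsg.Agent.Lib
open Cfsg.Agent.Lib.Helper87_Alperin Cfsg.Agent.Lib.Helper88_Centric Cfsg.Agent.Lib.Helper85_Rel1
  Cfsg.Agent.Lib.Helper85_Rel2 Cfsg.Agent.Lib.Helper85_Rel3 Cfsg.Agent.Lib.Helper85_Rel4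
open Cfsg.Agent.S5120 (Adm Gi invSystem)
open Cfsg.Agent.Lib.Helper85_Index (InvHyp Gf2 frSystem2)

variable {Ω : Type*} [Group Ω] {S T : Subgroup Ω} {F : FusionSystem S} {E : FusionSystem T} {p : ℕ}
  {N : Subgroup (MulAut T)}

/-- The restriction to `T` of an admissible pair on `S`. -/
theorem exists_restr_adm [Finite S] (h : Setup p F E N) {a a' : Ω → Ω} (hA : Adm F S a a') :
    ∃ b ∈ F.autGroup T, (∀ x ∈ T, extFun b x = a x) ∧ ∀ x ∈ T, extFun b⁻¹ x = a' x := by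
  have hTS := h.hTS
  haveI : Finite T := Helper84_FusionRS.finite_of_le_S hTS
  obtain ⟨b, hb, hbx⟩ := Cfsg.Agent.S5111.exists_aut_of_isMapOn (hA.map.mono hTS)
    (fun x hx => Helper87_ModT.IsMapOn.mem_stronglyClosed h.hT hA.map (hTS hx) hx)
  have h1 : ∀ x ∈ T, extFun b x = a x := fun x hx => by rw [extFun_apply b hx, hbx]
  refine ⟨b, hb, h1, fun x hx => ?_⟩
  have h2 : extFun b⁻¹ x ∈ T := extFun_mem _ hx
  have h3 := h1 _ h2
  rw [extFun_apply_inv b hx] at h3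
  have h4 := congrArg a' h3
  rw [hA.left _ (hTS h2)] at h4
  exact h4.symm

/-- `N`-triviality is invariant under `Aut_F(S)`. -/
theorem thetaTriv_transport [Finite S] (h : Setup p F E N) {a a' : Ω → Ω} (hA : Adm F S a a')
    {P P' : Subgroup Ω} {f : Ω → Ω} (hf : IsMapOn F P f) (hθ : ThetaTriv E N P f)
    (hP' : IsImage P a P') : ThetaTriv E N P' (a ∘ f ∘ a') := by
  have hTS := h.hTS
  have hPS : P ≤ S := hf.le
  obtain ⟨b, hb, hba, hba'⟩ := exists_restr_adm h hA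
  obtain ⟨τ, hτ, hf₁⟩ := hθ
  have himg : IsImage (P ⊓ T) (extFun b) (P' ⊓ T) := by
    intro y
    constructor
    · rintro ⟨hy, hyT⟩
      obtain ⟨x, hx, rfl⟩ := (hP' y).1 hy
      have hxT : x ∈ T := by
        have h1 := hba' _ hyT
        rw [hA.left x (hPS hx)] at h1
        rw [← h1]
        exact extFun_mem _ hyT
      exact ⟨x, ⟨hx, hxT⟩, hba x hxT⟩
    · rintro ⟨x, hx, rfl⟩
      refine ⟨?_, extFun_mem _ hx.2⟩
      rw [hba x hx.2]
      exact hP'.mem hx.1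
  have h1 := Helper88_Invariant.isMapOn_transport h.hEF hb hf₁ himg
  have hτF := h.mem_autGroup hτ
  refine ⟨b * τ * b⁻¹, h.hN.normal b hb τ hτ, h1.congr fun y hy => ?_⟩
  have hy' : extFun b⁻¹ y ∈ P ⊓ T := by
    obtain ⟨x, hx, rfl⟩ := (himg y).1 hy
    rw [extFun_inv_apply b hx.2]
    exact hx
  have hfy : f (extFun b⁻¹ y) ∈ T :=
    Helper87_ModT.IsMapOn.mem_stronglyClosed h.hT hf hy'.1 hy'.2
  simp only [Function.comp_apply]
  rw [← hba' y hy.2, ← hba _ hfy]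
  have e : (b * τ * b⁻¹)⁻¹ = b * (τ⁻¹ * b⁻¹) := by group
  rw [e, extFun_mul _ _ (extFun_mem _ hfy), extFun_mul _ _ (extFun_mem _ hfy),
    extFun_inv_apply b hfy]

theorem good0_invSystem [Finite S] (h : Setup p F E N) : Good0 h (invSystem F (F0 h)) := by
  intro P hP φ hφ
  have hφm : IsMapOn (F0' h) P (extHom φ) := isMapOn_extHom _ hφ
  have hφ0 : IsMapOn (F0 h) P (extHom φ) := isMapOn_F0_of_inH h hP hφm
  refine ⟨(mem_hom_iff_isMapOn (F0 h) φ).2 hφ0, ?_⟩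
  intro _ a a' hA P' hP'
  have hφF : IsMapOn F P (extHom φ) := isMapOn_F_of_F0' h hφm
  have hP'S : P' ≤ S := hA.image_le hP.1 hP'
  have hP'H : InH S E P' := inH_of_map h hP (hA.map.mono hP.1) (fun x hx => hP'.mem hx) hP'S
  have hθ : ThetaTriv E N P (extHom φ) := g0_of_isMapOn_F0' h hφm hP.2
  have hθ' := thetaTriv_transport h hA hφF hθ hP'
  have hF' : IsMapOn F P' (a ∘ extHom φ ∘ a') :=
    ((hA.map'.mono hP'S).comp hφF (fun y hy => hA.inv_mem hP.1 hP' hy)).comp hA.map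
      (fun y hy => hφF.mem (hA.inv_mem hP.1 hP' hy))
  exact isMapOn_F0_of_thetaTriv h hP'H hF' hθ'

/-- `F0` is invariant under `Aut_F(S)`. -/
theorem invHyp0 [Finite S] (h : Setup p F E N) : InvHyp F (F0 h) := by
  intro a a' hA P f hf P' hP'
  have hPS : P ≤ S := hf.le
  obtain ⟨φ, hφ, hφf⟩ := hf
  have h1 : φ ∈ (invSystem F (F0 h)).Hom P :=
    (mem_hom_iff_isMapOn _ φ).2 (hφ.2 _ (good0_invSystem h))
  have h2 : Gi F (F0 h) P (extHom φ) := h1.2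
  refine (h2 hPS a a' hA P' hP').congr fun y hy => ?_
  simp only [Function.comp_apply]
  rw [extHom_apply φ (hA.inv_mem hPS hP' hy), hφf]

/-! ### Subgroups outside `ℋ` -/

/-- If `U₀ ≤ T` is not `E`-centric and `V₀` is a fully normalized `F`-conjugate of `U₀`, then
`C_T(V₀)` is not contained in `V₀`. -/
theorem exists_centralizer_elt [Finite S] [Fact p.Prime] (h : Setup p F E N) {U₀ V₀ : Subgroup Ω}
    (hU₀T : U₀ ≤ T) (hnc : ¬ E.IsCentric U₀) (hconj : F.IsConj U₀ V₀)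
    (hV₀n : F.IsFullyNormalized V₀) :
    ∃ d ∈ T, (∀ v ∈ V₀, d * v = v * d) ∧ d ∉ V₀ := by
  have hTS := h.hTS
  have hnc' : ∃ R₀, E.IsConj U₀ R₀ ∧ ¬ centralizerIn T R₀ ≤ R₀ := by
    by_contra hcon
    push Not at hcon
    exact hnc ⟨hU₀T, hcon⟩
  obtain ⟨R₀, hUR, hR₀⟩ := hnc'
  obtain ⟨d₀, hd₀, hd₀R⟩ := SetLike.not_le_iff_exists.1 hR₀
  have hURF : F.IsConj U₀ R₀ := by
    obtain ⟨φ, hφ, hr⟩ := hUR
    exact ⟨φ, h.hEF.1 U₀ hφ, hr⟩
  have hRV : F.IsConj R₀ V₀ :=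
    Helper84_Fusion.isConj_trans F (Helper84_Fusion.isConj_symm F hURF) hconj
  have hfa := Helper84_FusionRS.IsSaturated.isFullyAutomized h.hS h.hF hV₀n
  have hrec := Helper84_FusionRS.IsSaturated.isReceptive_of_isFullyNormalized h.hS h.hF hV₀n
  obtain ⟨ψ, hψ, -, hψR⟩ := Helper84_FusionSat.exists_normalizer_map h.hS F hfa hrec hRV
  have hg : IsMapOn F (normalizerIn S R₀) (extHom ψ) := isMapOn_extHom F hψ
  have hR₀S : R₀ ≤ S := by
    obtain ⟨φ, hφ, -⟩ := hRV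
    exact hom_le F hφ
  have hR₀N : R₀ ≤ normalizerIn S R₀ := le_normalizerIn hR₀S
  have hd₀T : d₀ ∈ T := hd₀.1
  have hd₀c : d₀ ∈ Subgroup.centralizer (R₀ : Set Ω) := hd₀.2
  have hd₀N : d₀ ∈ normalizerIn S R₀ :=
    ⟨hTS hd₀T, Subgroup.centralizer_le_normalizer _ hd₀c⟩
  have hV₀ : ∀ v ∈ V₀, ∃ r ∈ R₀, extHom ψ r = v := by
    intro v hv
    rw [← hψR] at hv
    obtain ⟨r, hr, rfl⟩ := hv
    exact ⟨r, hr, extHom_coe ψ r⟩
  refine ⟨extHom ψ d₀, Helper87_ModT.IsMapOn.mem_stronglyClosed h.hT hg hd₀N hd₀T, ?_, ?_⟩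
  · intro v hv
    obtain ⟨r, hr, rfl⟩ := hV₀ v hv
    rw [← hg.map_mul hd₀N (hR₀N hr), ← hg.map_mul (hR₀N hr) hd₀N]
    congr 1
    exact (Subgroup.mem_centralizer_iff.1 hd₀c r hr).symm
  · intro hv
    obtain ⟨r, hr, hrd⟩ := hV₀ _ hv
    have := hg.injOn (hR₀N hr) hd₀N hrd
    exact hd₀R (this ▸ hr)

/-- If `U ∩ T` is not `E`-centric, some `F`-conjugate `V` of `U` has an element `c` of `T`, outside `V`,
normalizing `V` and centralizing `V ∩ T`. -/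
theorem exists_outer [Finite S] [Fact p.Prime] (h : Setup p F E N) {U : Subgroup Ω} (hUS : U ≤ S)
    (hnc : ¬ E.IsCentric (U ⊓ T)) :
    ∃ (ρ : Ω → Ω) (V : Subgroup Ω) (c : Ω), IsMapOn F U ρ ∧ IsImage U ρ V ∧ c ∈ T ∧
      c ∈ normalizerIn S V ∧ c ∉ V ∧ ∀ v ∈ V ⊓ T, c * v = v * c := by
  have hTS := h.hTS
  have hU₀T : U ⊓ T ≤ T := inf_le_right
  have hU₀S : U ⊓ T ≤ S := hU₀T.trans hTS
  obtain ⟨V₀, hUV₀, hV₀n⟩ := Helper84_FusionRS.exists_isFullyNormalized_conj F hU₀S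
  obtain ⟨d, hdT, hdc, hdV₀⟩ := exists_centralizer_elt h hU₀T hnc hUV₀ hV₀n
  have hfa := Helper84_FusionRS.IsSaturated.isFullyAutomized h.hS h.hF hV₀n
  have hrec := Helper84_FusionRS.IsSaturated.isReceptive_of_isFullyNormalized h.hS h.hF hV₀n
  obtain ⟨φ, hφ, -, hφU⟩ := Helper84_FusionSat.exists_normalizer_map h.hS F hfa hrec hUV₀
  have hg : IsMapOn F (normalizerIn S (U ⊓ T)) (extHom φ) := isMapOn_extHom F hφ
  have hUN : U ≤ normalizerIn S (U ⊓ T) := by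
    intro u hu
    refine ⟨hUS hu, ?_⟩
    show u ∈ Subgroup.normalizer ((U ⊓ T : Subgroup Ω) : Set Ω)
    rw [Subgroup.mem_normalizer_iff]
    intro x
    constructor
    · rintro ⟨hxU, hxT⟩
      exact ⟨U.mul_mem (U.mul_mem hu hxU) (U.inv_mem hu),
        Helper85_FusionNormal.sc_conj_mem h.hT (hUS hu) hxT⟩
    · rintro ⟨hxU, hxT⟩
      have h1 : x = u⁻¹ * (u * x * u⁻¹) * u⁻¹⁻¹ := by group
      rw [h1]
      exact ⟨U.mul_mem (U.mul_mem (U.inv_mem hu) hxU) (U.inv_mem (U.inv_mem hu)),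
        Helper85_FusionNormal.sc_conj_mem h.hT (S.inv_mem (hUS hu)) hxT⟩
  have hρ : IsMapOn F U (extHom φ) := hg.mono hUN
  obtain ⟨V, hV, -⟩ := exists_isImage hρ
  have hVS : V ≤ S := hV.le hρ
  have hV₀img : ∀ v, v ∈ V₀ ↔ ∃ x ∈ U ⊓ T, extHom φ x = v := by
    intro v
    rw [← hφU]
    constructor
    · rintro ⟨r, hr, rfl⟩
      exact ⟨r, hr, extHom_coe φ r⟩
    · rintro ⟨x, hx, rfl⟩
      exact ⟨⟨x, hUN hx.1⟩, hx, (extHom_coe φ _).symm⟩
  have hVT : ∀ v, v ∈ V ⊓ T ↔ v ∈ V₀ := by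
    intro v
    constructor
    · rintro ⟨hvV, hvT⟩
      obtain ⟨u, hu, rfl⟩ := (hV v).1 hvV
      obtain ⟨k, hk, hk1, -, -⟩ := hρ.inv hV
      have := Helper87_ModT.IsMapOn.mem_stronglyClosed h.hT hk hvV hvT
      rw [hk1 u hu] at this
      exact (hV₀img _).2 ⟨u, ⟨hu, this⟩, rfl⟩
    · intro hv
      obtain ⟨x, hx, rfl⟩ := (hV₀img v).1 hv
      exact ⟨hV.mem hx.1, Helper87_ModT.IsMapOn.mem_stronglyClosed h.hT hρ hx.1 hx.2⟩
  -- `V` normalizes `C = C_T(V₀)`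
  have hconjV₀ : ∀ v ∈ V, ∀ w ∈ V₀, v * w * v⁻¹ ∈ V₀ := by
    intro v hv w hw
    have hw' := (hVT w).2 hw
    exact (hVT _).1 ⟨V.mul_mem (V.mul_mem hv hw'.1) (V.inv_mem hv),
      Helper85_FusionNormal.sc_conj_mem h.hT (hVS hv) hw'.2⟩
  have hconjC : ∀ v ∈ V, ∀ x ∈ centralizerIn T V₀, v * x * v⁻¹ ∈ centralizerIn T V₀ := by
    intro v hv x hx
    refine ⟨Helper85_FusionNormal.sc_conj_mem h.hT (hVS hv) hx.1, ?_⟩
    show v * x * v⁻¹ ∈ Subgroup.centralizer (V₀ : Set Ω)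
    rw [Subgroup.mem_centralizer_iff]
    intro w hw
    have hw' : v⁻¹ * w * v⁻¹⁻¹ ∈ V₀ := hconjV₀ v⁻¹ (V.inv_mem hv) w hw
    have hxw := Subgroup.mem_centralizer_iff.1 hx.2 _ hw'
    have e1 : w * (v * x * v⁻¹) = v * ((v⁻¹ * w * v⁻¹⁻¹) * x) * v⁻¹ := by group
    have e2 : v * x * v⁻¹ * w = v * (x * (v⁻¹ * w * v⁻¹⁻¹)) * v⁻¹ := by group
    rw [e1, e2, hxw]
  have hVnC : V ≤ Subgroup.normalizer ((centralizerIn T V₀ : Subgroup Ω) : Set Ω) := by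
    intro v hv
    rw [Subgroup.mem_normalizer_iff]
    intro x
    constructor
    · exact hconjC v hv x
    · intro hx
      have := hconjC v⁻¹ (V.inv_mem hv) _ hx
      have e : v⁻¹ * (v * x * v⁻¹) * v⁻¹⁻¹ = x := by group
      rwa [e] at this
  have hdC : d ∈ centralizerIn T V₀ := by
    refine ⟨hdT, ?_⟩
    show d ∈ Subgroup.centralizer (V₀ : Set Ω)
    rw [Subgroup.mem_centralizer_iff]
    intro v hv
    exact (hdc v hv).symm
  have hCS : centralizerIn T V₀ ≤ S := inf_le_left.trans hTS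
  have hDS : V ⊔ centralizerIn T V₀ ≤ S := sup_le hVS hCS
  haveI hfinD : Finite ↥(V ⊔ centralizerIn T V₀) := Helper84_FusionRS.finite_of_le_S hDS
  have hDp : IsPGroup p ↥(V ⊔ centralizerIn T V₀) := h.hS.to_le hDS
  have hVD : V ≤ V ⊔ centralizerIn T V₀ := le_sup_left
  have hne : V ≠ V ⊔ centralizerIn T V₀ := by
    intro heq
    have hdV : d ∈ V := by
      rw [heq]
      exact (le_sup_right : centralizerIn T V₀ ≤ _) hdC
    exact hdV₀ ((hVT d).1 ⟨hdV, hdT⟩)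
  have hlt := lt_normalizerIn (S := V ⊔ centralizerIn T V₀) hDp hVD hne
  obtain ⟨y, hyN, hyV⟩ := SetLike.exists_of_lt hlt
  have hyD : y ∈ ((V ⊔ centralizerIn T V₀ : Subgroup Ω) : Set Ω) := hyN.1
  rw [Subgroup.coe_mul_of_left_le_normalizer_right V _ hVnC] at hyD
  obtain ⟨v, hv, c, hc, rfl⟩ := hyD
  have hcT : c ∈ T := hc.1
  refine ⟨extHom φ, V, c, hρ, hV, hcT, ⟨hTS hcT, ?_⟩, ?_, ?_⟩
  · have e : c = v⁻¹ * (v * c) := by group
    rw [e]
    exact Subgroup.mul_mem _ (Subgroup.inv_mem _ (Subgroup.le_normalizer hv)) hyN.2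
  · intro hcV
    exact hyV (V.mul_mem hv hcV)
  · intro w hw
    exact (Subgroup.mem_centralizer_iff.1 hc.2 w ((hVT w).1 hw)).symm

end Cfsg.Agent.Lib.Helper85_Rel5
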