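import Cfsg.Agent.Lib.Helper85_Rel5

/-!
# Relative theory for an invariant subsystem (helper85), part 6: the stabilizer of the series `1 ≤ U₀ ≤ U`,
extension of automorphisms outside `ℋ`, and the Frattini decomposition `F = Aut_F(S) · F0`
-/

set_option autoImplicit false
set_option linter.style.haveILetI false

namespace Cfsg.Agent.Lib.Helper85_Rel6

open Cfsg Cfsg.FusionSystem Cfsg.Agent.Lib
open Cfsg.Agent.Lib.Helper87_Alperin Cfsg.Agent.Lib.Helper88_Centric Cfsg.Agent.Lib.Helper85_Rel1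
  Cfsg.Agent.Lib.Helper85_Rel2 Cfsg.Agent.Lib.Helper85_Rel3 Cfsg.Agent.Lib.Helper85_Rel4
  Cfsg.Agent.Lib.Helper85_Rel5
open Cfsg.Agent.S5120 (Adm Gi invSystem)
open Cfsg.Agent.Lib.Helper85_Index (InvHyp Gf2 frSystem2)

variable {Ω : Type*} [Group Ω] {S T : Subgroup Ω} {F : FusionSystem S} {E : FusionSystem T} {p : ℕ}
  {N : Subgroup (MulAut T)}

/-- The automorphisms of `U` fixing `U₀` pointwise and acting trivially on `U / U₀`. -/
def stabSeries (U U₀ : Subgroup Ω) (hU₀ : U₀ ≤ U) : Subgroup (MulAut U) where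
  carrier := {β | (∀ x : U, (x : Ω) ∈ U₀ → β x = x) ∧ ∀ x : U, (x : Ω)⁻¹ * ((β x : U) : Ω) ∈ U₀}
  one_mem' := ⟨fun _ _ => rfl, fun x => by simp⟩
  mul_mem' := by
    rintro β₁ β₂ ⟨h1, h1'⟩ ⟨h2, h2'⟩
    refine ⟨fun x hx => ?_, fun x => ?_⟩
    · rw [MulAut.mul_apply, h2 x hx, h1 x hx]
    · have hr := h2' x
      have e : β₂ x = x * ⟨(x : Ω)⁻¹ * ((β₂ x : U) : Ω), hU₀ hr⟩ := by
        apply Subtype.ext
        simp
      rw [MulAut.mul_apply, e, map_mul, h1 ⟨(x : Ω)⁻¹ * ((β₂ x : U) : Ω), hU₀ hr⟩ hr]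
      have e2 : (x : Ω)⁻¹ * (((β₁ x * ⟨(x : Ω)⁻¹ * ((β₂ x : U) : Ω), hU₀ hr⟩ : U)) : Ω) =
          ((x : Ω)⁻¹ * ((β₁ x : U) : Ω)) * ((x : Ω)⁻¹ * ((β₂ x : U) : Ω)) := by
        simp [mul_assoc]
      rw [e2]
      exact U₀.mul_mem (h1' x) hr
  inv_mem' := by
    rintro β ⟨h1, h1'⟩
    refine ⟨fun x hx => ?_, fun x => ?_⟩
    · have := h1 x hx
      calc β⁻¹ x = β⁻¹ (β x) := by rw [this]
        _ = x := by simp
    · have := h1' (β⁻¹ x)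
      have e : β (β⁻¹ x) = x := by simp
      rw [e] at this
      have e2 : (x : Ω)⁻¹ * ((β⁻¹ x : U) : Ω) = (((β⁻¹ x : U) : Ω)⁻¹ * (x : Ω))⁻¹ := by group
      rw [e2]
      exact U₀.inv_mem this

theorem mem_stabSeries {U U₀ : Subgroup Ω} (hU₀ : U₀ ≤ U) (β : MulAut U) :
    β ∈ stabSeries U U₀ hU₀ ↔
      (∀ x : U, (x : Ω) ∈ U₀ → β x = x) ∧ ∀ x : U, (x : Ω)⁻¹ * ((β x : U) : Ω) ∈ U₀ := Iff.rfl

theorem isPGroup_stabSeries [Fact p.Prime] {U U₀ : Subgroup Ω} (hU₀ : U₀ ≤ U) [Finite U₀]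
    (hp : IsPGroup p U₀) : IsPGroup p (stabSeries U U₀ hU₀) := by
  obtain ⟨k, hk⟩ := hp.exists_card_eq
  rintro ⟨β, hβ⟩
  refine ⟨k, Subtype.ext ?_⟩
  rw [Subgroup.coe_pow, Subgroup.coe_one, ← hk]
  refine pow_eq_one_of_shift hU₀ β hβ.1 fun g => ⟨_, hβ.2 g, ?_⟩
  group

theorem conj_mem_stabSeries {U U₀ : Subgroup Ω} (hU₀ : U₀ ≤ U) {γ β : MulAut U}
    (hγ : ∀ x : U, (x : Ω) ∈ U₀ → ((γ x : U) : Ω) ∈ U₀)
    (hγ' : ∀ x : U, (x : Ω) ∈ U₀ → ((γ⁻¹ x : U) : Ω) ∈ U₀) (hβ : β ∈ stabSeries U U₀ hU₀) :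
    γ * β * γ⁻¹ ∈ stabSeries U U₀ hU₀ := by
  refine ⟨fun x hx => ?_, fun x => ?_⟩
  · rw [MulAut.mul_apply, MulAut.mul_apply, hβ.1 _ (hγ' x hx)]
    simp
  · have h1 := hβ.2 (γ⁻¹ x)
    have h2 := hγ ⟨_, hU₀ h1⟩ h1
    have e : (γ ⟨((γ⁻¹ x : U) : Ω)⁻¹ * ((β (γ⁻¹ x) : U) : Ω), hU₀ h1⟩ : U) =
        x⁻¹ * (γ * β * γ⁻¹) x := by
      have e' : (⟨((γ⁻¹ x : U) : Ω)⁻¹ * ((β (γ⁻¹ x) : U) : Ω), hU₀ h1⟩ : U) =
          (γ⁻¹ x)⁻¹ * β (γ⁻¹ x) := Subtype.ext (by simp)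
      rw [e', map_mul, map_inv]
      simp
    rw [e] at h2
    simpa using h2

theorem aut_mem_inf {F' : FusionSystem S} (hT : F'.StronglyClosed T) {U : Subgroup Ω} (hUS : U ≤ S)
    {γ : MulAut U} (hγ : γ ∈ F'.autGroup U) (x : U) (hx : (x : Ω) ∈ U ⊓ T) :
    ((γ x : U) : Ω) ∈ U ⊓ T := by
  have hg : IsMapOn F' U (extFun γ) := (mem_autGroup_iff F' hUS γ).1 hγ
  have := Helper87_ModT.IsMapOn.mem_stronglyClosed hT hg hx.1 hx.2
  rw [extFun_coe] at this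
  exact ⟨(γ x).2, this⟩

theorem stab_conj {F' : FusionSystem S} (hT : F'.StronglyClosed T) {U : Subgroup Ω} (hUS : U ≤ S)
    {γ β : MulAut U} (hγ : γ ∈ F'.autGroup U) (hβ : β ∈ stabSeries U (U ⊓ T) inf_le_left) :
    γ * β * γ⁻¹ ∈ stabSeries U (U ⊓ T) inf_le_left :=
  conj_mem_stabSeries _ (aut_mem_inf hT hUS hγ)
    (aut_mem_inf hT hUS ((F'.autGroup U).inv_mem hγ)) hβ

/-- The stabilizer of the series `1 ≤ U ∩ T ≤ U` in `Aut_{F'}(U)` is a normal `p`-subgroup. -/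
theorem stab_subgroupOf_normal {F' : FusionSystem S} (hT : F'.StronglyClosed T) {U : Subgroup Ω}
    (hUS : U ≤ S) :
    ((stabSeries U (U ⊓ T) inf_le_left).subgroupOf (F'.autGroup U)).Normal := by
  refine ⟨fun n hn g => ?_⟩
  rw [Subgroup.mem_subgroupOf] at hn ⊢
  exact stab_conj hT hUS g.2 hn

theorem stab_subgroupOf_isPGroup [Finite S] [Fact p.Prime] (hS : IsPGroup p S)
    (F' : FusionSystem S) {U : Subgroup Ω} (hUS : U ≤ S) :
    IsPGroup p ((stabSeries U (U ⊓ T) inf_le_left).subgroupOf (F'.autGroup U)) := by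
  have hU₀S : U ⊓ T ≤ S := inf_le_left.trans hUS
  haveI : Finite ↥(U ⊓ T) := Helper84_FusionRS.finite_of_le_S hU₀S
  exact (isPGroup_stabSeries _ (hS.to_le hU₀S)).comap_of_injective _
    (Subgroup.subtype_injective _)

/-- For fully automized `U`, the stabilizer of the series lies in `Aut_S(U)`. -/
theorem stab_le_autInducedBy [Finite S] [Fact p.Prime] (hS : IsPGroup p S) {F' : FusionSystem S}
    (hT : F'.StronglyClosed T) {U : Subgroup Ω} (hfa : F'.IsFullyAutomized p U) {β : MulAut U}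
    (hβ : β ∈ stabSeries U (U ⊓ T) inf_le_left) (hβF : β ∈ F'.autGroup U) :
    β ∈ autInducedBy S U := by
  obtain ⟨hUS, R, hR⟩ := hfa
  haveI : Finite U := Helper84_FusionRS.finite_of_le_S hUS
  haveI : Finite (F'.autGroup U) := inferInstance
  obtain ⟨χ, hχ⟩ := sylow_conj_into R (stab_subgroupOf_isPGroup hS F' hUS (T := T))
  have hn := stab_subgroupOf_normal hT hUS
  have h1 : χ⁻¹ * (⟨β, hβF⟩ : F'.autGroup U) * χ⁻¹⁻¹ ∈
      (stabSeries U (U ⊓ T) inf_le_left).subgroupOf (F'.autGroup U) :=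
    hn.conj_mem _ (Subgroup.mem_subgroupOf.2 hβ) _
  have h2 := hχ _ h1
  have e : χ * (χ⁻¹ * (⟨β, hβF⟩ : F'.autGroup U) * χ⁻¹⁻¹) * χ⁻¹ = ⟨β, hβF⟩ := by group
  rw [e, hR, Subgroup.mem_subgroupOf] at h2
  exact h2

/-- The stabilizer of the series lies in `O_p(Aut_{F'}(U))`. -/
theorem stab_le_pCore [Finite S] [Fact p.Prime] (hS : IsPGroup p S) {F' : FusionSystem S}
    (hT : F'.StronglyClosed T) {U : Subgroup Ω} (hUS : U ≤ S) {β : MulAut U}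
    (hβ : β ∈ stabSeries U (U ⊓ T) inf_le_left) (hβF : β ∈ F'.autGroup U) :
    β ∈ (pCore p ↥(F'.autGroup U)).map (F'.autGroup U).subtype := by
  have hle : (stabSeries U (U ⊓ T) inf_le_left).subgroupOf (F'.autGroup U) ≤
      pCore p (F'.autGroup U) :=
    le_sSup ⟨stab_subgroupOf_normal hT hUS, stab_subgroupOf_isPGroup hS F' hUS⟩
  exact ⟨⟨β, hβF⟩, hle (Subgroup.mem_subgroupOf.2 hβ), rfl⟩

/-- Conjugation by an element of `T` normalizing `U` and centralizing `U ∩ T` stabilizes the series. -/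
theorem conj_mem_stab {F' : FusionSystem S} (hT : F'.StronglyClosed T) {U : Subgroup Ω} (hUS : U ≤ S)
    {y : Ω} (hyT : y ∈ T) (hyN : y ∈ Subgroup.normalizer (U : Set Ω))
    (hyc : ∀ v ∈ U ⊓ T, y * v = v * y) :
    U.normalizerMonoidHom ⟨y, hyN⟩ ∈ stabSeries U (U ⊓ T) inf_le_left := by
  refine ⟨fun x hx => ?_, fun x => ?_⟩
  · apply Subtype.ext
    show y * (x : Ω) * y⁻¹ = x
    rw [hyc _ hx]
    group
  · show (x : Ω)⁻¹ * (y * (x : Ω) * y⁻¹) ∈ U ⊓ T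
    refine ⟨U.mul_mem (U.inv_mem x.2) ?_, ?_⟩
    · exact ((Subgroup.mem_normalizer_iff.1 hyN) _).1 x.2
    · have h1 : (x : Ω)⁻¹ * y * (x : Ω)⁻¹⁻¹ ∈ T :=
        Helper85_FusionNormal.sc_conj_mem hT (S.inv_mem (hUS x.2)) hyT
      have e : (x : Ω)⁻¹ * (y * (x : Ω) * y⁻¹) = ((x : Ω)⁻¹ * y * (x : Ω)⁻¹⁻¹) * y⁻¹ := by group
      rw [e]
      exact T.mul_mem h1 (T.inv_mem hyT)

/-- Outside `ℋ`, every automorphism of a fully normalized subgroup extends to a strictly larger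
subgroup. -/
theorem exists_extension_of_not_inH [Finite S] [Fact p.Prime] (h : Setup p F E N) {U : Subgroup Ω}
    (hUn : F.IsFullyNormalized U) (hnc : ¬ E.IsCentric (U ⊓ T)) {ε : MulAut U}
    (hε : ε ∈ F.autGroup U) :
    ∃ (Q : Subgroup Ω) (ψ : Ω → Ω), U < Q ∧ IsMapOn F Q ψ ∧ ∀ x ∈ U, ψ x = extFun ε x := by
  have hUS := hUn.1
  have hTS := h.hTS
  obtain ⟨ρ, V, c, hρ, hV, hcT, hcN, hcV, hcc⟩ := exists_outer h hUS hnc
  have hfa := Helper84_FusionRS.IsSaturated.isFullyAutomized h.hS h.hF hUn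
  have hrec := Helper84_FusionRS.IsSaturated.isReceptive_of_isFullyNormalized h.hS h.hF hUn
  have hVU : F.IsConj V U := Helper84_Fusion.isConj_symm F (isConj_of_isImage hρ hV)
  obtain ⟨φ', hφ', hφ'N, hφ'V⟩ := Helper84_FusionSat.exists_normalizer_map h.hS F hfa hrec hVU
  have hg' : IsMapOn F (normalizerIn S V) (extHom φ') := isMapOn_extHom F hφ'
  have hVS : V ≤ S := hV.le hρ
  have hVN : V ≤ normalizerIn S V := le_normalizerIn hVS
  have hUimg : IsImage V (extHom φ') U := by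
    intro u
    rw [← hφ'V]
    constructor
    · rintro ⟨r, hr, rfl⟩
      exact ⟨r, hr, extHom_coe φ' r⟩
    · rintro ⟨x, hx, rfl⟩
      exact ⟨⟨x, hVN hx⟩, hx, (extHom_coe φ' _).symm⟩
  have hyN : extHom φ' c ∈ normalizerIn S U := by
    rw [extHom_apply φ' hcN]
    exact hφ'N _
  have hyT : extHom φ' c ∈ T := Helper87_ModT.IsMapOn.mem_stronglyClosed h.hT hg' hcN hcT
  have hyU : extHom φ' c ∉ U := by
    intro hyU
    obtain ⟨v, hv, hvy⟩ := (hUimg _).1 hyU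
    have := hg'.injOn (hVN hv) hcN hvy
    exact hcV (this ▸ hv)
  have hyc : ∀ w ∈ U ⊓ T, extHom φ' c * w = w * extHom φ' c := by
    intro w hw
    obtain ⟨v, hv, rfl⟩ := (hUimg w).1 hw.1
    obtain ⟨k, hk, hk1, -, -⟩ := (hg'.mono hVN).inv hUimg
    have hvT : v ∈ T := by
      have := Helper87_ModT.IsMapOn.mem_stronglyClosed h.hT hk hw.1 hw.2
      rwa [hk1 v hv] at this
    rw [← hg'.map_mul hcN (hVN hv), ← hg'.map_mul (hVN hv) hcN, hcc v ⟨hv, hvT⟩]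
  -- the subgroup of all such elements
  have hεm : IsMapOn F U (extFun ε) := (mem_autGroup_iff F hUS ε).1 hε
  have hY : ∀ g ∈ T ⊓ normalizerIn S U ⊓ Subgroup.centralizer ((U ⊓ T : Subgroup Ω) : Set Ω),
      g ∈ normalizerIn S U ∧ ∃ h' ∈ S, ∀ x ∈ U, extFun ε (g * x * g⁻¹) = h' * extFun ε x * h'⁻¹ := by
    rintro g ⟨⟨hgT, hgN⟩, hgc⟩
    refine ⟨hgN, ?_⟩
    have hgc' : ∀ v ∈ U ⊓ T, g * v = v * g := fun v hv =>
      (Subgroup.mem_centralizer_iff.1 hgc v hv).symm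
    have hcg := conj_mem_stab h.hT hUS hgT hgN.2 hgc'
    have hcgF : U.normalizerMonoidHom ⟨g, hgN.2⟩ ∈ F.autGroup U :=
      autInducedBy_le_autGroup F hUS ((mem_autInducedBy_iff S U _).2 ⟨g, hgN.1, fun x => rfl⟩)
    have h1 := stab_conj h.hT hUS hε hcg
    have h2 : ε * U.normalizerMonoidHom ⟨g, hgN.2⟩ * ε⁻¹ ∈ F.autGroup U :=
      (F.autGroup U).mul_mem ((F.autGroup U).mul_mem hε hcgF) ((F.autGroup U).inv_mem hε)
    have h3 := stab_le_autInducedBy h.hS h.hT hfa h1 h2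
    rw [mem_autInducedBy_iff] at h3
    obtain ⟨h', hh', hh'x⟩ := h3
    refine ⟨h', hh', fun x hx => ?_⟩
    have h4 := hh'x (ε ⟨x, hx⟩)
    simp only [MulAut.mul_apply, MulAut.inv_apply_self] at h4
    have hgx : g * x * g⁻¹ ∈ U := ((Subgroup.mem_normalizer_iff.1 hgN.2) _).1 hx
    rw [extFun_apply ε hgx, extFun_apply ε hx, ← h4]
    rfl
  obtain ⟨ψ', hψ', hψ'x⟩ := Helper85_SatCrit2.receptive_extend hrec hεm
    (Helper85_SatCrit6.isImage_extFun ε) _ hY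
  refine ⟨_, ψ', lt_of_le_of_ne le_sup_left ?_, hψ', hψ'x⟩
  intro heq
  apply hyU
  rw [heq]
  have hcen : extHom φ' c ∈ Subgroup.centralizer ((U ⊓ T : Subgroup Ω) : Set Ω) := by
    rw [Subgroup.mem_centralizer_iff]
    intro w hw
    exact (hyc w hw).symm
  exact (le_sup_right : _ ≤ U ⊔ _) ⟨⟨hyT, hyN⟩, hcen⟩

/-- On `ℋ`, every map of `F` is an element of `Aut_F(S)` after a map of `F0`. -/
theorem exists_decomp0 [Finite S] [Fact p.Prime] (h : Setup p F E N) {P : Subgroup Ω}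
    (hP : InH S E P) {f : Ω → Ω} (hf : IsMapOn F P f) :
    ∃ α ∈ F.autGroup S, IsMapOn (F0 h) P (extFun α⁻¹ ∘ f) := by
  have hTS := h.hTS
  obtain ⟨a, ha, f₀, hf₀, hfa⟩ := Helper85_Transport2.exists_frattini h.hEF
    (inf_le_right : P ⊓ T ≤ T) (hf.mono inf_le_left)
  obtain ⟨α, hα, b, hb, hbα, hbaN⟩ := exists_aut_S_of_aut_T h ha
  have hαi : α⁻¹ ∈ F.autGroup S := (F.autGroup S).inv_mem hα
  have hαim : IsMapOn F S (extFun α⁻¹) := (mem_autGroup_iff F le_rfl _).1 hαi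
  have hf' : IsMapOn F P (extFun α⁻¹ ∘ f) := hf.comp hαim (fun x hx => hf.mem hx)
  have hbαi := restr_inv hTS hbα
  have hfT : ∀ x ∈ P ⊓ T, f x ∈ T := fun x hx =>
    Helper87_ModT.IsMapOn.mem_stronglyClosed h.hT hf hx.1 hx.2
  have hθ : ThetaTriv E N P (extFun α⁻¹ ∘ f) := by
    refine ⟨b⁻¹ * a, hbaN, hf₀.congr fun x hx => ?_⟩
    simp only [Function.comp_apply]
    have hfx := hfT x hx
    rw [← hbαi _ hfx, mul_inv_rev, inv_inv, extFun_mul _ _ (extFun_mem _ hfx),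
      extFun_apply_inv b hfx, hfa x hx, extFun_inv_apply a (hf₀.mem hx)]
  exact ⟨α, hα, isMapOn_F0_of_thetaTriv h hP hf' hθ⟩

/-- **Frattini decomposition**: `F = Aut_F(S) · F0`. -/
theorem le_frSystem0 [Finite S] [Fact p.Prime] (h : Setup p F E N) :
    F ≤ frSystem2 F (F0 h) (invHyp0 h) := by
  classical
  refine Helper84_FusionAlperin.alperin_induction h.hS F h.hF _ ?_
  intro U hUn IH β hβ
  have hUS : U ≤ S := hUn.1
  rw [mem_autGroup_iff _ hUS]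
  have hβF : IsMapOn F U (extFun β) := (mem_autGroup_iff F hUS β).1 hβ
  by_cases hc : E.IsCentric (U ⊓ T)
  · obtain ⟨α, hα, hm⟩ := exists_decomp0 h ⟨hUS, hc⟩ hβF
    exact Helper85_Index.isMapOn_frSystem2 _ hβF ⟨_, _, Helper85_PPrime1.adm_of_mem hα, hm⟩
  · obtain ⟨Q, ψ, hUQ, hψ, hψβ⟩ := exists_extension_of_not_inH h hUn hc hβ
    obtain ⟨φ, hφ, hφψ⟩ := hψ
    have h1 := IH Q φ hUQ hφ
    have h2 : IsMapOn (frSystem2 F (F0 h) (invHyp0 h)) Q ψ := ⟨φ, h1, hφψ⟩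
    exact (h2.mono hUQ.le).congr hψβ

end Cfsg.Agent.Lib.Helper85_Rel6
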