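import Cfsg.Agent.Lib.Helper85_Rel6

/-!
# Relative theory for an invariant subsystem (helper85), part 7: `F0` is saturated of index prime to `p`
-/

set_option autoImplicit false
set_option linter.style.haveILetI false

namespace Cfsg.Agent.Lib.Helper85_Rel7

open Cfsg Cfsg.FusionSystem Cfsg.Agent.Lib
open Cfsg.Agent.Lib.Helper87_Alperin Cfsg.Agent.Lib.Helper88_Centric Cfsg.Agent.Lib.Helper85_Rel1
  Cfsg.Agent.Lib.Helper85_Rel2 Cfsg.Agent.Lib.Helper85_Rel3 Cfsg.Agent.Lib.Helper85_Rel4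
  Cfsg.Agent.Lib.Helper85_Rel5 Cfsg.Agent.Lib.Helper85_Rel6
open Cfsg.Agent.S5120 (Adm Gi invSystem)
open Cfsg.Agent.Lib.Helper85_Index (InvHyp Gf2 frSystem2)

variable {Ω : Type*} [Group Ω] {S T : Subgroup Ω} {F : FusionSystem S} {E : FusionSystem T} {p : ℕ}
  {N : Subgroup (MulAut T)}

theorem stronglyClosed0 [Finite S] (h : Setup p F E N) : (F0 h).StronglyClosed T :=
  ⟨h.hTS, fun R hR φ hφ x => h.hT.2 R hR φ (F0_le_F h R hφ) x⟩

theorem gf2_0 [Finite S] [Fact p.Prime] (h : Setup p F E N) {P : Subgroup Ω} {f : Ω → Ω}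
    (hf : IsMapOn F P f) : Gf2 F (F0 h) P f :=
  Helper85_Index.gf2_of_isMapOn_F (invHyp0 h) (le_frSystem0 h) hf

theorem centric_iff0 [Finite S] [Fact p.Prime] (h : Setup p F E N) (P : Subgroup Ω) :
    (F0 h).IsCentric P ↔ F.IsCentric P :=
  Helper85_Index.centric_iff (F0_le_F h) (fun _ _ hφ => hφ) (invHyp0 h) (le_frSystem0 h) P

/-- `F0` has index prime to `p` in `F`. -/
theorem index0 [Finite S] [Fact p.Prime] (h : Setup p F E N) : (F0 h).HasPrimeToPIndexIn F p := by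
  refine ⟨F0_le_F h, fun P hPS => ?_⟩
  rw [Helper85_Index.map_closure_pe, Subgroup.closure_le]
  intro β hβ
  exact Helper85_Index.pe_mem h.hS h.hF (invHyp0 h) (le_frSystem0 h) hPS hβ

/-- The condition of the saturation criterion outside `ℋ`. -/
theorem hstar0 [Finite S] [Fact p.Prime] (h : Setup p F E N) {P : Subgroup Ω}
    (hPc : (F0 h).IsCentric P) (hP : ¬ InH S E P) :
    ∃ Q, (F0 h).IsConj P Q ∧ ¬ (autInducedBy S Q ⊓
      (pCore p ↥((F0 h).autGroup Q)).map ((F0 h).autGroup Q).subtype ≤ Inn Q) := by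
  have hPS := hPc.1
  have hnc : ¬ E.IsCentric (P ⊓ T) := fun hc => hP ⟨hPS, hc⟩
  obtain ⟨ρ, V, c, hρ, hV, hcT, hcN, hcV, hcc⟩ := exists_outer h hPS hnc
  obtain ⟨a, a', hA, hm⟩ := gf2_0 h hρ
  obtain ⟨Q, hQ, hPQ⟩ := exists_isImage hm
  refine ⟨Q, hPQ, ?_⟩
  have hQc : (F0 h).IsCentric Q := isCentric_of_isConj hPc hPQ
  have hQS := hQc.1
  have hVS : V ≤ S := hV.le hρ
  haveI : Finite Q := Helper84_FusionRS.finite_of_le_S hQS
  have hQV : ∀ q, q ∈ Q ↔ ∃ v ∈ V, a' v = q := by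
    intro q
    rw [hQ q]
    constructor
    · rintro ⟨x, hx, rfl⟩
      exact ⟨ρ x, hV.mem hx, rfl⟩
    · rintro ⟨v, hv, rfl⟩
      obtain ⟨x, hx, rfl⟩ := (hV v).1 hv
      exact ⟨x, hx, rfl⟩
  have hcS : c ∈ S := hcN.1
  have hyS : a' c ∈ S := hA.mem' c hcS
  have hyT : a' c ∈ T := Helper87_ModT.IsMapOn.mem_stronglyClosed h.hT hA.map' hcS hcT
  have hyN : a' c ∈ Subgroup.normalizer (Q : Set Ω) := by
    apply Cfsg.Agent.S5111.mem_normalizer_of_conj_mem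
    intro q hq
    obtain ⟨v, hv, rfl⟩ := (hQV q).1 hq
    have hv' : c * v * c⁻¹ ∈ V := ((Subgroup.mem_normalizer_iff.1 hcN.2) v).1 hv
    refine (hQV _).2 ⟨c * v * c⁻¹, hv', ?_⟩
    rw [hA.map'.map_mul (S.mul_mem hcS (hVS hv)) (S.inv_mem hcS), hA.map'.map_mul hcS (hVS hv),
      hA.map'.map_inv hcS]
  have hyQ : a' c ∉ Q := by
    intro hq
    obtain ⟨v, hv, hvc⟩ := (hQV _).1 hq
    have := hA.map'.injOn (hVS hv) hcS hvc
    exact hcV (this ▸ hv)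
  have hyc : ∀ w ∈ Q ⊓ T, a' c * w = w * a' c := by
    intro w hw
    obtain ⟨v, hv, rfl⟩ := (hQV w).1 hw.1
    have hvT : v ∈ T := by
      have := Helper87_ModT.IsMapOn.mem_stronglyClosed h.hT hA.map (hA.mem' v (hVS hv)) hw.2
      rwa [hA.right v (hVS hv)] at this
    rw [← hA.map'.map_mul hcS (hVS hv), ← hA.map'.map_mul (hVS hv) hcS, hcc v ⟨hv, hvT⟩]
  have hT0 := stronglyClosed0 h
  have hcy := conj_mem_stab hT0 hQS hyT hyN hyc
  have hcyS : Q.normalizerMonoidHom ⟨a' c, hyN⟩ ∈ autInducedBy S Q :=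
    (mem_autInducedBy_iff S Q _).2 ⟨a' c, hyS, fun x => rfl⟩
  have hcyF := autInducedBy_le_autGroup (F0 h) hQS hcyS
  have hcore := stab_le_pCore h.hS hT0 hQS hcy hcyF
  intro hle
  obtain ⟨u, hu⟩ := hle ⟨hcyS, hcore⟩
  apply hyQ
  have hcent : (u : Ω)⁻¹ * a' c ∈ centralizerIn S Q := by
    refine ⟨S.mul_mem (S.inv_mem (hQS u.2)) hyS, ?_⟩
    show (u : Ω)⁻¹ * a' c ∈ Subgroup.centralizer (Q : Set Ω)
    rw [Subgroup.mem_centralizer_iff]
    intro x hx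
    have h1 : ((MulAut.conj u) ⟨x, hx⟩ : Q) = Q.normalizerMonoidHom ⟨a' c, hyN⟩ ⟨x, hx⟩ := by
      rw [hu]
    have h2 : (u : Ω) * x * (u : Ω)⁻¹ = a' c * x * (a' c)⁻¹ := congrArg Subtype.val h1
    have e : (u : Ω)⁻¹ * a' c * x = (u : Ω)⁻¹ * (a' c * x * (a' c)⁻¹) * a' c := by group
    rw [e, ← h2]
    group
  have h3 : (u : Ω)⁻¹ * a' c ∈ Q := hQc.2 Q (Helper84_Fusion.isConj_refl _ hQS) hcent
  have e : a' c = (u : Ω) * ((u : Ω)⁻¹ * a' c) := by group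
  rw [e]
  exact Q.mul_mem u.2 h3

/-- `F0` is saturated. -/
theorem F0_saturated [Finite S] [Fact p.Prime] (h : Setup p F E N) : (F0 h).IsSaturated p := by
  refine Cfsg.Agent.S5110.result p h.hS (F0 h) {P | InH S E P} (fun P hP => hP.1) ?_ ?_ ?_ ?_
  · intro P hP Q hPQ
    obtain ⟨f, hf, himg⟩ := exists_isMapOn_of_isConj hPQ
    exact inH_of_map h hP (isMapOn_F_of_F0 h hf) (fun x hx => himg.mem hx) (isConj_le_right hPQ)
  · intro P hP
    exact exists_fa_rec0 h hP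
  · intro E'' hE''
    exact F0_gen h E'' hE''
  · intro P hPc hP
    exact hstar0 h hPc hP

end Cfsg.Agent.Lib.Helper85_Rel7
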