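import Cfsg.Agent.Lib.Helper85_Rel7

/-!
# Relative theory for an invariant subsystem (helper85), part 8: `F0` is normal in `F`, contains `E`, and its
automizer of `S`
-/

set_option autoImplicit false
set_option linter.style.haveILetI false

namespace Cfsg.Agent.Lib.Helper85_Rel8

open Cfsg Cfsg.FusionSystem Cfsg.Agent.Lib
open Cfsg.Agent.Lib.Helper87_Alperin Cfsg.Agent.Lib.Helper88_Centric Cfsg.Agent.Lib.Helper85_Rel1
  Cfsg.Agent.Lib.Helper85_Rel2 Cfsg.Agent.Lib.Helper85_Rel3 Cfsg.Agent.Lib.Helper85_Rel4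
  Cfsg.Agent.Lib.Helper85_Rel5 Cfsg.Agent.Lib.Helper85_Rel6 Cfsg.Agent.Lib.Helper85_Rel7
open Cfsg.Agent.S5120 (Adm Gi invSystem)
open Cfsg.Agent.Lib.Helper85_Index (InvHyp Gf2 frSystem2)

variable {Ω : Type*} [Group Ω] {S T : Subgroup Ω} {F : FusionSystem S} {E : FusionSystem T} {p : ℕ}
  {N : Subgroup (MulAut T)}

/-! ### `E ⊆ F0` -/

/-- The subsystem of `E` of the maps lying in `F0`. -/
def EF0 [Finite S] (h : Setup p F E N) : FusionSystem T :=
  Helper88_Essential.subsystemOf E (fun P f => IsMapOn (F0 h) P f)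
    (fun hG hfg => hG.congr hfg)
    (fun hP ha => IsMapOn.conj (F0 h) (hP.trans h.hTS) (h.hTS ha))
    (fun _ hGf _ hGg hfR => hGf.comp hGg hfR)
    (fun {P P' f g} _ hGf himg _ hgf => by
      obtain ⟨k, hk, hk1, -, -⟩ := hGf.inv himg
      refine hk.congr fun y hy => ?_
      obtain ⟨x, hx, rfl⟩ := (himg y).1 hy
      rw [hk1 x hx, hgf x hx])

theorem E_le_EF0 [Finite S] [Fact p.Prime] (h : Setup p F E N) : E ≤ EF0 h := by
  classical
  have hTS := h.hTS
  have hTp : IsPGroup p T := h.hS.to_le hTS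
  haveI : Finite T := Helper84_FusionRS.finite_of_le_S hTS
  refine Helper84_FusionAlperin.alperin_induction hTp E h.hE _ ?_
  intro U hUn IH β hβ
  have hUT : U ≤ T := hUn.1
  rw [mem_autGroup_iff _ hUT]
  have hβE : IsMapOn E U (extFun β) := (mem_autGroup_iff E hUT β).1 hβ
  by_cases hcen : centralizerIn T U ≤ U
  · have hUc : E.IsCentric U := Cfsg.Agent.S5104.result p hTp E h.hE U
      (Helper84_FusionRS.IsSaturated.isFullyCentralized hTp h.hE hUn) hcen
    have hUH : InH S E U := ⟨hUT.trans hTS, by rw [inf_eq_left.2 hUT]; exact hUc⟩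
    have hβF : IsMapOn F U (extFun β) := Helper85_Transport2.isMapOn_of_isSubsystemOf h.hEF.1 hβE
    have hθ : ThetaTriv E N U (extFun β) := by
      refine ⟨1, N.one_mem, (hβE.mono inf_le_left).congr fun x hx => ?_⟩
      simp only [Function.comp_apply]
      rw [inv_one, Helper88_AutInv.extFun_one_apply (hUT (extFun_mem β hx.1))]
    have h0 := isMapOn_F0_of_thetaTriv h hUH hβF hθ
    obtain ⟨φ, hφ, hφf⟩ := hβE
    refine ⟨φ, ⟨hφ, h0.congr fun x hx => ?_⟩, hφf⟩
    rw [extHom_apply φ hx, hφf]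
  · have hUr : E.IsReceptive U :=
      Helper84_FusionRS.IsSaturated.isReceptive_of_isFullyNormalized hTp h.hE hUn
    have hlt : U < U ⊔ centralizerIn T U := by
      refine lt_of_le_of_ne le_sup_left ?_
      intro heq
      apply hcen
      have h' : centralizerIn T U ≤ U ⊔ centralizerIn T U := le_sup_right
      rw [← heq] at h'
      exact h'
    have hβhom : U.subtype.comp β.toMonoidHom ∈ E.Hom U := (mem_autGroup_iff' E hUT β).1 hβ
    obtain ⟨b, hb, hbβ⟩ := Helper88_Centric2.exists_extension_sup_centralizerIn hUr hβhom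
      (Helper84_FusionRS.range_subtype_comp_equiv β)
    obtain ⟨φ, hφ, hφb⟩ := hb
    have h1 := IH _ φ hlt hφ
    have h2 : IsMapOn (EF0 h) (U ⊔ centralizerIn T U) b := ⟨φ, h1, hφb⟩
    refine (h2.mono hlt.le).congr fun x hx => ?_
    rw [hbβ ⟨x, hx⟩, extFun_apply _ hx]
    rfl

/-- `E` is contained in `F0`. -/
theorem E_le_F0 [Finite S] [Fact p.Prime] (h : Setup p F E N) : E.IsSubsystemOf (F0 h) := by
  intro P φ hφ
  have h1 := E_le_EF0 h P hφ
  exact (mem_hom_iff_isMapOn (F0 h) φ).2 h1.2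

/-! ### The automizer of `S` in `F0` -/

theorem S_inH [Finite S] (h : Setup p F E N) : InH S E S := by
  haveI : Finite T := Helper84_FusionRS.finite_of_le_S h.hTS
  refine ⟨le_rfl, ?_⟩
  rw [inf_eq_right.2 h.hTS]
  exact Helper85_PPrime2.isCentric_top E

theorem mem_autGroup_F0_iff [Finite S] [Fact p.Prime] (h : Setup p F E N) (α : MulAut S) :
    α ∈ (F0 h).autGroup S ↔
      α ∈ F.autGroup S ∧ ∃ b ∈ N, ∀ x ∈ T, extFun b x = extFun α x := by
  have hid : ∀ {b : MulAut T}, (∀ x ∈ T, extFun b x = extFun α x) →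
      IsMapOn E (S ⊓ T) (extFun b⁻¹ ∘ extFun α) := by
    intro b hbα
    refine (IsMapOn.id E inf_le_right).congr fun x hx => ?_
    simp only [Function.comp_apply]
    rw [← hbα x hx.2, extFun_inv_apply b hx.2]
  constructor
  · intro hα0
    have hαF : α ∈ F.autGroup S := Helper85_Index.autGroup_le_of_le (F0_le_F h) S hα0
    refine ⟨hαF, ?_⟩
    obtain ⟨b, hb, hbα⟩ := exists_restr h.hT hαF
    have hm : IsMapOn (F0 h) S (extFun α) := (mem_autGroup_iff _ le_rfl α).1 hα0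
    have hαm : IsMapOn F S (extFun α) := (mem_autGroup_iff F le_rfl α).1 hαF
    have hθ := thetaTriv_of_isMapOn_F0 h (S_inH h) hm
    have hbN : b ∈ N := uniq h (S_inH h).2 (f := extFun α)
      (fun x hx => Helper87_ModT.IsMapOn.mem_stronglyClosed h.hT hαm hx.1 hx.2) hθ hb (hid hbα)
    exact ⟨b, hbN, hbα⟩
  · rintro ⟨hαF, b, hbN, hbα⟩
    have hαm : IsMapOn F S (extFun α) := (mem_autGroup_iff F le_rfl α).1 hαF
    rw [mem_autGroup_iff _ le_rfl]
    exact isMapOn_F0_of_thetaTriv h (S_inH h) hαm ⟨b, hbN, hid hbα⟩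

/-- `F0 ≠ F` as soon as `N ≠ Aut_F(T)`. -/
theorem F0_ne [Finite S] [Fact p.Prime] (h : Setup p F E N) {a : MulAut T} (ha : a ∈ F.autGroup T)
    (haN : a ∉ N) : ¬ ∀ P : Subgroup Ω, (F0 h).Hom P = F.Hom P := by
  intro heq
  obtain ⟨α, hα, b, hb, hbα, hbaN⟩ := exists_aut_S_of_aut_T h ha
  have hα0 : α ∈ (F0 h).autGroup S := by
    rw [mem_autGroup_iff' _ le_rfl, heq S, ← mem_autGroup_iff' F le_rfl]
    exact hα
  obtain ⟨-, b', hb'N, hb'α⟩ := (mem_autGroup_F0_iff h α).1 hα0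
  have hbb' : b = b' := by
    ext t
    rw [← extFun_coe b t, ← extFun_coe b' t, hbα _ t.2, hb'α _ t.2]
  apply haN
  have e : a = b * (b⁻¹ * a) := by group
  rw [e]
  exact N.mul_mem (hbb' ▸ hb'N) hbaN

/-! ### Normality -/

theorem F0_invariant [Finite S] [Fact p.Prime] (h : Setup p F E N) : (F0 h).IsInvariantIn F := by
  refine Helper85_Transport2.isInvariantIn_intro (F0_le_F h)
    ⟨le_rfl, fun R _ φ hφ x => hom_mem F hφ x⟩ ?_ ?_
  · intro P P' f α hα hf hP'
    exact invHyp0 h (Helper85_PPrime1.adm_of_mem hα) hf hP'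
  · intro P f _ hf
    obtain ⟨a, a', hA, hm⟩ := gf2_0 h hf
    obtain ⟨α, hα, hαa⟩ := Cfsg.Agent.S5111.exists_aut_of_isMapOn hA.map hA.mem
    refine ⟨α, hα, a' ∘ f, hm, fun x hx => ?_⟩
    simp only [Function.comp_apply]
    rw [extFun_apply α (hA.mem' _ (hf.mem hx)), hαa, hA.right _ (hf.mem hx)]

/-- The extension condition for a subsystem over `S` itself. -/
theorem ext_cond_top [Finite S] (F : FusionSystem S) {α : MulAut S} (hα : α ∈ F.autGroup S) :
    ∃ β ∈ F.autGroup (S ⊔ centralizerIn S S),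
      (∀ x : S, ((β (Subgroup.inclusion le_sup_left x) : ↥(S ⊔ centralizerIn S S)) : Ω) =
        ((α x : S) : Ω)) ∧
      ∀ c : ↥(S ⊔ centralizerIn S S), (c : Ω) ∈ centralizerIn S S →
        (c : Ω)⁻¹ * ((β c : ↥(S ⊔ centralizerIn S S)) : Ω) ∈
          S ⊓ Subgroup.centralizer (S : Set Ω) := by
  have hD : S ⊔ centralizerIn S S = S := sup_eq_left.2 inf_le_left
  have hαm : IsMapOn F S (extFun α) := (mem_autGroup_iff F le_rfl α).1 hα
  have hg' : IsMapOn F (S ⊔ centralizerIn S S) (extFun α) := by rw [hD]; exact hαm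
  have hgD : ∀ x ∈ S ⊔ centralizerIn S S, extFun α x ∈ S ⊔ centralizerIn S S := by
    intro x hx
    rw [hD] at hx ⊢
    exact extFun_mem α hx
  haveI : Finite ↥(S ⊔ centralizerIn S S) :=
    Helper84_FusionRS.finite_of_le_S (le_of_eq hD)
  obtain ⟨β, hβ, hβx⟩ := Cfsg.Agent.S5111.exists_aut_of_isMapOn hg' hgD
  refine ⟨β, hβ, fun x => ?_, fun c hc => ?_⟩
  · rw [hβx]
    exact extFun_coe α x
  · rw [hβx]
    have hcS : (c : Ω) ∈ S := hc.1
    have hcc : (c : Ω) ∈ Subgroup.centralizer (S : Set Ω) := hc.2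
    refine ⟨S.mul_mem (S.inv_mem hcS) (extFun_mem α hcS), ?_⟩
    refine Subgroup.mul_mem _ (Subgroup.inv_mem _ hcc) ?_
    rw [Subgroup.mem_centralizer_iff]
    intro s hs
    have hs' : extFun α⁻¹ s ∈ S := extFun_mem _ hs
    have h1 := Subgroup.mem_centralizer_iff.1 hcc _ hs'
    have h2 := congrArg (extFun α) h1
    rw [hαm.map_mul hs' hcS, hαm.map_mul hcS hs', extFun_apply_inv α hs] at h2
    exact h2

/-- `F0` is a normal subsystem of `F`. -/
theorem F0_normal [Finite S] [Fact p.Prime] (h : Setup p F E N) : (F0 h).IsNormalIn F p := by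
  refine ⟨⟨F0_saturated h, h.hF, F0_invariant h⟩, fun α hα => ?_⟩
  exact ext_cond_top F (Helper85_Index.autGroup_le_of_le (F0_le_F h) S hα)

end Cfsg.Agent.Lib.Helper85_Rel8
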