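import Mathlib
import Cfsg.Agent.Lib.Helper41_SLRDefs
import Cfsg.Agent.Lib.Helper41_SLR_SSVAL

/-!
# SLR market (S4613 package PSL, sub-architect helper41), package SQ: `ss j * ss j` is diagonal.
-/

set_option autoImplicit false
set_option linter.unusedSectionVars false
set_option linter.unusedVariables false

namespace Cfsg.Agent.Lib.Helper85_SLR_SQ

open Matrix Cfsg.Agent.Lib.Helper68_MatGrp Cfsg.Agent.Lib.Helper41_SLRDefs

variable {n : ℕ} {F : Type*} [Field F]

/-- `ss j` is monomial with permutation `swap (lo j) (hi j)` (from SSVAL) -/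
theorem h85_ss_isMono (j : Fin (n - 1)) :
    IsMono (φ n F) (ss j : Matrix.SpecialLinearGroup (Fin n) F) (Equiv.swap (lo j) (hi j)) := by
  intro a b hab
  show (ss j : Matrix.SpecialLinearGroup (Fin n) F).1 a b = 0
  rw [Cfsg.Agent.Lib.Helper41_SLR_SSVAL.ss_apply]
  by_cases h1 : b = lo j
  · subst h1
    rw [Equiv.swap_apply_left] at hab
    rw [if_pos rfl, if_neg hab]
  · rw [if_neg h1]
    by_cases h2 : b = hi j
    · subst h2
      rw [Equiv.swap_apply_right] at hab
      rw [if_pos rfl, if_neg hab]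
    · rw [Equiv.swap_apply_of_ne_of_ne h1 h2] at hab
      rw [if_neg h2, if_neg hab]

theorem ss_sq (j : Fin (n - 1)) :
    (ss j : Matrix.SpecialLinearGroup (Fin n) F) * ss j ∈ Tsl n F := by
  have h := (h85_ss_isMono (F := F) j).mul (h85_ss_isMono (F := F) j)
  rw [Equiv.swap_mul_self] at h
  rw [mem_Tsl]
  intro a b hab
  exact h a b hab

end Cfsg.Agent.Lib.Helper85_SLR_SQ
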