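import Mathlib

set_option autoImplicit false

/-!
# S2112 package SZ8-K4 (architect helper35): a finite group of exponent two with at most four
elements is an image of the four-group.
-/

namespace Cfsg.Agent.Lib.Helper85_SZ8_K4

/-- a homomorphism from the four-group with prescribed images of the two generators -/
theorem h85_exists_hom {K : Type*} [Group K] (h2 : ∀ x : K, x * x = 1) (a b : K) :
    ∃ f : Multiplicative (ZMod 2 × ZMod 2) →* K, a ∈ f.range ∧ b ∈ f.range := by
  have hcomm : ∀ x y : K, x * y = y * x := by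
    intro x y
    have h := h2 (x * y)
    have hx := h2 x
    have hy := h2 y
    calc x * y = x * (x * y * (x * y)) * y := by rw [h, mul_one]
      _ = (x * x) * (y * x) * (y * y) := by group
      _ = y * x := by rw [hx, hy, one_mul, mul_one]
  have ha2 : a ^ 2 = 1 := by rw [pow_two]; exact h2 a
  have hb2 : b ^ 2 = 1 := by rw [pow_two]; exact h2 b
  let g : ZMod 2 × ZMod 2 → K := fun x => a ^ x.1.val * b ^ x.2.val
  have hpow : ∀ (c : K), c ^ 2 = 1 → ∀ x y : ZMod 2, c ^ (x + y).val = c ^ x.val * c ^ y.val := by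
    intro c hc x y
    rw [ZMod.val_add, ← pow_eq_pow_mod _ hc, pow_add]
  have hg : ∀ x y : ZMod 2 × ZMod 2, g (x + y) = g x * g y := by
    intro x y
    show a ^ (x.1 + y.1).val * b ^ (x.2 + y.2).val =
      a ^ x.1.val * b ^ x.2.val * (a ^ y.1.val * b ^ y.2.val)
    rw [hpow a ha2, hpow b hb2]
    have e1 : a ^ x.1.val * a ^ y.1.val * (b ^ x.2.val * b ^ y.2.val) =
        a ^ x.1.val * (a ^ y.1.val * b ^ x.2.val) * b ^ y.2.val := by group
    rw [e1, hcomm (a ^ y.1.val) (b ^ x.2.val)]
    group
  let f : Multiplicative (ZMod 2 × ZMod 2) →* K :=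
    MonoidHom.mk' (fun x => g (Multiplicative.toAdd x)) (fun x y => hg _ _)
  refine ⟨f, ⟨Multiplicative.ofAdd (1, 0), ?_⟩, ⟨Multiplicative.ofAdd (0, 1), ?_⟩⟩
  · show a ^ (1 : ZMod 2).val * b ^ (0 : ZMod 2).val = a
    have v0 : (0 : ZMod 2).val = 0 := rfl
    have v1 : (1 : ZMod 2).val = 1 := rfl
    rw [v0, v1, pow_one, pow_zero, mul_one]
  · show a ^ (0 : ZMod 2).val * b ^ (1 : ZMod 2).val = b
    have v0 : (0 : ZMod 2).val = 0 := rfl
    have v1 : (1 : ZMod 2).val = 1 := rfl
    rw [v0, v1, pow_one, pow_zero, one_mul]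

/-- a finite group of exponent two with at most four elements is an image of the four-group -/
theorem exists_surjective_of_exponent_two {K : Type*} [Group K] [Finite K]
    (h2 : ∀ x : K, x * x = 1) (hc : Nat.card K ≤ 4) :
    ∃ f : Multiplicative (ZMod 2 × ZMod 2) →* K, Function.Surjective f := by
  by_cases hK : ∃ a : K, a ≠ 1
  · obtain ⟨a, ha⟩ := hK
    have hA2 : 2 ≤ Nat.card (Subgroup.zpowers a) := by
      rw [Nat.card_zpowers]
      have h1 : orderOf a ≠ 1 := fun h => ha (orderOf_eq_one_iff.mp h)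
      have h0 : 0 < orderOf a := orderOf_pos a
      omega
    by_cases hA : ∃ b : K, b ∉ Subgroup.zpowers a
    · obtain ⟨b, hb⟩ := hA
      obtain ⟨f, hfa, hfb⟩ := h85_exists_hom h2 a b
      refine ⟨f, ?_⟩
      rw [← MonoidHom.range_eq_top]
      have hle : Subgroup.zpowers a ≤ f.range := by
        rw [Subgroup.zpowers_le]
        exact hfa
      have hne : Subgroup.zpowers a ≠ f.range := by
        intro h
        apply hb
        rw [h]
        exact hfb
      obtain ⟨k, hk⟩ := Subgroup.card_dvd_of_le hle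
      have hk0 : k ≠ 0 := by
        rintro rfl
        rw [mul_zero] at hk
        exact Nat.card_pos.ne' hk
      have hk1 : k ≠ 1 := by
        rintro rfl
        rw [mul_one] at hk
        exact hne (Subgroup.eq_of_le_of_card_ge hle hk.le)
      have h4 : 4 ≤ Nat.card f.range := by
        rw [hk]
        have hk2 : 2 ≤ k := by omega
        calc 4 = 2 * 2 := rfl
          _ ≤ Nat.card (Subgroup.zpowers a) * k := Nat.mul_le_mul hA2 hk2
      exact Subgroup.eq_top_of_le_card _ (hc.trans h4)
    · push Not at hA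
      obtain ⟨f, hfa, -⟩ := h85_exists_hom h2 a 1
      refine ⟨f, fun y => ?_⟩
      have hle : Subgroup.zpowers a ≤ f.range := by
        rw [Subgroup.zpowers_le]
        exact hfa
      exact hle (hA y)
  · push Not at hK
    refine ⟨1, fun y => ⟨1, ?_⟩⟩
    rw [hK y]
    rfl

end Cfsg.Agent.Lib.Helper85_SZ8_K4
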