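import Cfsg.Agent.Lib.Helper88_Essential
import Cfsg.Agent.Lib.Helper88_Receptive
import Cfsg.Agent.Lib.Helper84_RelSylow

/-!
# Saturation criterion (BCGLO1 Theorem 2.2 / AKO I.3.10), part 1 (helper85)

Chains of restrictions of maps defined on strictly larger subgroups, and the generation lemma: if `F` is
generated by its maps with source in a conjugation-closed family `ℋ` containing `S`, then every map of `F` with
source outside `ℋ` is a composite of restrictions of maps defined on strictly larger subgroups.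
-/

set_option autoImplicit false

namespace Cfsg.Agent.Lib.Helper85_SatCrit1

open Cfsg Cfsg.FusionSystem Cfsg.Agent.Lib.Helper87_Alperin Cfsg.Agent.Lib.Helper88_Centric
  Cfsg.Agent.Lib.Helper88_Essential

variable {Ω : Type*} [Group Ω] {S : Subgroup Ω}

/-- `Chain F P f`: on `P`, the function `f` is a composite of restrictions of maps of `F` defined on subgroups
strictly larger than the successive images of `P`. -/
inductive Chain (F : FusionSystem S) : Subgroup Ω → (Ω → Ω) → Prop
  | refl {P : Subgroup Ω} {f : Ω → Ω} : P ≤ S → (∀ x ∈ P, f x = x) → Chain F P f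
  | step {P R P' : Subgroup Ω} {g f h : Ω → Ω} : P < R → IsMapOn F R g → IsImage P g P' →
      Chain F P' f → (∀ x ∈ P, h x = f (g x)) → Chain F P h

namespace Chain

variable {F : FusionSystem S}

theorem congr {P : Subgroup Ω} {f g : Ω → Ω} (h : Chain F P f) (hfg : ∀ x ∈ P, f x = g x) :
    Chain F P g := by
  cases h with
  | refl hP hf => exact Chain.refl hP (fun x hx => (hfg x hx).symm.trans (hf x hx))
  | step hPR hg himg hc hh =>
    exact Chain.step hPR hg himg hc (fun x hx => (hfg x hx).symm.trans (hh x hx))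

theorem isMapOn {P : Subgroup Ω} {f : Ω → Ω} (h : Chain F P f) : IsMapOn F P f := by
  induction h with
  | refl hP hf => exact (IsMapOn.id F hP).congr (fun x hx => (hf x hx).symm)
  | step hPR hg himg _ hh ih =>
    exact ((hg.mono hPR.le).comp ih (fun x hx => himg.mem hx)).congr (fun x hx => (hh x hx).symm)

theorem single {P R : Subgroup Ω} {g : Ω → Ω} (hPR : P < R) (hg : IsMapOn F R g) : Chain F P g := by
  obtain ⟨P', hP', -⟩ := exists_isImage (hg.mono hPR.le)
  exact Chain.step hPR hg hP' (Chain.refl (IsImage.le (hg.mono hPR.le) hP') (fun x _ => rfl))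
    (fun x _ => rfl)

theorem isImage_id {P P' : Subgroup Ω} {f : Ω → Ω} (hf : ∀ x ∈ P, f x = x) (h : IsImage P f P') :
    P' = P := by
  ext y
  rw [h y]
  constructor
  · rintro ⟨x, hx, rfl⟩
    rw [hf x hx]
    exact hx
  · intro hy
    exact ⟨y, hy, hf y hy⟩

theorem trans {P P' : Subgroup Ω} {f g : Ω → Ω} (h₁ : Chain F P f) (himg : IsImage P f P')
    (h₂ : Chain F P' g) : Chain F P (g ∘ f) := by
  induction h₁ generalizing P' g with
  | refl hP hf =>
    have h := isImage_id hf himg
    subst h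
    exact h₂.congr (fun x hx => by rw [Function.comp_apply, hf x hx])
  | @step P₀ R P₁ g₁ f₁ h₁ hPR hg himg₁ _ hh ih =>
    have himg' : IsImage P₁ f₁ P' := by
      intro y
      rw [himg y]
      constructor
      · rintro ⟨x, hx, rfl⟩
        exact ⟨g₁ x, himg₁.mem hx, (hh x hx).symm⟩
      · rintro ⟨z, hz, rfl⟩
        obtain ⟨x, hx, rfl⟩ := (himg₁ z).1 hz
        exact ⟨x, hx, hh x hx⟩
    exact Chain.step hPR hg himg₁ (ih himg' h₂)
      (fun x hx => by rw [Function.comp_apply, Function.comp_apply, hh x hx])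

theorem inv {P P' : Subgroup Ω} {f k : Ω → Ω} (h : Chain F P f) (himg : IsImage P f P')
    (hk : IsMapOn F P' k) (hkf : ∀ x ∈ P, k (f x) = x) : Chain F P' k := by
  induction h generalizing P' k with
  | refl hP hf =>
    have h := isImage_id hf himg
    subst h
    exact Chain.refl hP (fun x hx => by have := hkf x hx; rwa [hf x hx] at this)
  | @step P₀ R P₁ g₁ f₁ h₁ hPR hg himg₁ hc hh ih =>
    have himg' : IsImage P₁ f₁ P' := by
      intro y
      rw [himg y]
      constructor
      · rintro ⟨x, hx, rfl⟩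
        exact ⟨g₁ x, himg₁.mem hx, (hh x hx).symm⟩
      · rintro ⟨z, hz, rfl⟩
        obtain ⟨x, hx, rfl⟩ := (himg₁ z).1 hz
        exact ⟨x, hx, hh x hx⟩
    have hkP : ∀ y ∈ P', k y ∈ P₀ := by
      intro y hy
      obtain ⟨x, hx, rfl⟩ := (himg y).1 hy
      rw [hkf x hx]
      exact hx
    -- `k₁ = g₁ ∘ k` inverts `f₁`
    have hk₁ : IsMapOn F P' (g₁ ∘ k) := hk.comp hg (fun y hy => hPR.le (hkP y hy))
    have hk₁f : ∀ z ∈ P₁, (g₁ ∘ k) (f₁ z) = z := by
      intro z hz
      obtain ⟨x, hx, rfl⟩ := (himg₁ z).1 hz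
      rw [Function.comp_apply, ← hh x hx, hkf x hx]
    have hc₁ := ih himg' hk₁ hk₁f
    have himg₂ : IsImage P' (g₁ ∘ k) P₁ := by
      intro z
      constructor
      · intro hz
        exact ⟨f₁ z, himg'.mem hz, hk₁f z hz⟩
      · rintro ⟨y, hy, rfl⟩
        exact himg₁.mem (hkP y hy)
    -- the inverse of `g₁` on `g₁(R)`
    obtain ⟨R₁, hR₁, -⟩ := exists_isImage hg
    obtain ⟨g', hg', hg'g, -, -⟩ := hg.inv hR₁
    have hlt : P₁ < R₁ := by
      obtain ⟨r, hrR, hrP⟩ := SetLike.exists_of_lt hPR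
      refine lt_of_le_of_ne ?_ ?_
      · intro z hz
        obtain ⟨x, hx, rfl⟩ := (himg₁ z).1 hz
        exact hR₁.mem (hPR.le hx)
      · intro heq
        have h1 : g₁ r ∈ P₁ := heq ▸ hR₁.mem hrR
        obtain ⟨x, hx, hxr⟩ := (himg₁ _).1 h1
        have := hg.injOn (hPR.le hx) hrR hxr
        exact hrP (this ▸ hx)
    have hc₂ : Chain F P₁ g' := single hlt hg'
    refine (hc₁.trans himg₂ hc₂).congr ?_
    intro y hy
    rw [Function.comp_apply, Function.comp_apply]
    exact hg'g _ (hPR.le (hkP y hy))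

end Chain

/-- **Generation lemma.** Let `ℋ` be a family of subgroups closed under conjugacy in `F` and containing `S`, such
that `F` is the smallest fusion system containing all maps of `F` with source in `ℋ`. Then every map of `F` whose
source is not in `ℋ` is a chain of restrictions of maps defined on strictly larger subgroups. -/
theorem chain_of_generated (F : FusionSystem S) (ℋ : Set (Subgroup Ω))
    (hℋconj : ∀ P ∈ ℋ, ∀ Q, F.IsConj P Q → Q ∈ ℋ) (hSℋ : S ∈ ℋ)
    (hgen : ∀ E : FusionSystem S, (∀ P ∈ ℋ, F.Hom P ⊆ E.Hom P) → F ≤ E)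
    {P : Subgroup Ω} (hP : P ∉ ℋ) {f : Ω → Ω} (hf : IsMapOn F P f) : Chain F P f := by
  have hconj' : ∀ {P Q : Subgroup Ω}, F.IsConj P Q → Q ∉ ℋ → P ∉ ℋ := by
    intro P Q hPQ hQ hP
    exact hQ (hℋconj P hP Q hPQ)
  let G : Subgroup Ω → (Ω → Ω) → Prop := fun P f => P ∉ ℋ → Chain F P f
  let E : FusionSystem S := subsystemOf F G
    (fun {P f g} h hfg hP => (h hP).congr hfg)
    (fun {P a} hPS ha hP => by
      have hne : P ≠ S := fun h => hP (h ▸ hSℋ)
      exact Chain.single (lt_of_le_of_ne hPS hne) (IsMapOn.conj F le_rfl ha))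
    (fun {P R f g} hf hGf hg hGg hfR hP => by
      obtain ⟨P', hP', hconj⟩ := exists_isImage hf
      have hP'R : P' ≤ R := by
        intro y hy
        obtain ⟨x, hx, rfl⟩ := (hP' y).1 hy
        exact hfR x hx
      have hP'ℋ : P' ∉ ℋ := fun h =>
        hP (hℋconj P' h P (Cfsg.Agent.Lib.Helper84_Fusion.isConj_symm F hconj))
      by_cases hPR : P' = R
      · subst hPR
        exact (hGf hP).trans hP' (hGg hP'ℋ)
      · exact (hGf hP).trans hP' (Chain.single (lt_of_le_of_ne hP'R hPR) hg))
    (fun {P P' f g} hf hGf himg hg hgf hP' => by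
      have hP : P ∉ ℋ := hconj' (isConj_of_isImage hf himg) hP'
      exact (hGf hP).inv himg hg hgf)
  have hle : F ≤ E := hgen E (fun Q hQ φ hφ => ⟨hφ, fun hQ' => absurd hQ hQ'⟩)
  obtain ⟨φ, hφ, hφf⟩ := hf
  have h1 : G P (extHom φ) := (hle P hφ).2
  exact (h1 hP).congr (fun x hx => by rw [extHom_apply φ hx]; exact hφf ⟨x, hx⟩)

end Cfsg.Agent.Lib.Helper85_SatCrit1
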