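import Cfsg.Agent.Lib.Helper85_SatCrit9

/-!
# Saturation criterion, part 10 (helper85): Step C, receptivity
-/

set_option autoImplicit false

namespace Cfsg.Agent.Lib.Helper85_SatCrit10

open Cfsg Cfsg.FusionSystem Cfsg.Agent.Lib.Helper87_Alperin Cfsg.Agent.Lib.Helper88_Centric
  Cfsg.Agent.Lib.Helper84_RelSylow Cfsg.Agent.Lib.Helper88_AutInv Cfsg.Agent.Lib.Helper85_SatCrit1
  Cfsg.Agent.Lib.Helper85_SatCrit2 Cfsg.Agent.Lib.Helper85_SatCrit3 Cfsg.Agent.Lib.Helper85_SatCrit4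
  Cfsg.Agent.Lib.Helper85_SatCrit5 Cfsg.Agent.Lib.Helper85_SatCrit6 Cfsg.Agent.Lib.Helper85_SatCrit7
  Cfsg.Agent.Lib.Helper85_SatCrit8 Cfsg.Agent.Lib.Helper85_SatCrit9 Cfsg.Agent.Lib.Helper88_Centric2

variable {Ω : Type*} [Group Ω] {S : Subgroup Ω}

/-- **Step C, receptive.** -/
theorem rec_of_ext [Finite S] {p : ℕ} [Fact p.Prime] (hS : IsPGroup p S) (F : FusionSystem S)
    {Ph : Subgroup Ω} (hPhS : Ph ≤ S) {Y : Subgroup (MulAut Ph)} (hY : YHyp p F Ph Y)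
    (hpi : ∀ P, F.IsConj P Ph → Pi F Ph P)
    (hQrec : F.IsReceptive (NY S Ph Y))
    (hQsyl : IsSylowIn p
      (autInducedBy S (NY S Ph Y) ⊓ (F.autGroup (NY S Ph Y) ⊓ stab (NY S Ph Y) Ph))
      (F.autGroup (NY S Ph Y) ⊓ stab (NY S Ph Y) Ph))
    (hB : ∀ γ : Ω → Ω, IsMapOn F Ph γ → IsImage Ph γ Ph → Ext F Ph Y γ) :
    F.IsReceptive Ph := by
  classical
  have hPQ : Ph ≤ NY S Ph Y := le_NY hPhS hY.inn
  have hQN : NY S Ph Y ≤ normalizerIn S Ph := NY_le_normalizerIn Ph Y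
  have hQS : NY S Ph Y ≤ S := hQN.trans (normalizerIn_le S Ph)
  have hfinQ : Finite (NY S Ph Y) := Cfsg.Agent.Lib.Helper84_FusionRS.finite_of_le_S hQS
  have hPhN : Ph ≤ normalizerIn S Ph := le_normalizerIn hPhS
  refine ⟨hPhS, ?_⟩
  intro P φ hφ hr
  have hf : IsMapOn F P (extHom φ) := isMapOn_extHom F hφ
  have hfP : IsImage P (extHom φ) Ph := by
    intro y
    rw [← hr]
    constructor
    · rintro ⟨x, rfl⟩
      exact ⟨x, x.2, extHom_coe φ x⟩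
    · rintro ⟨x, hx, rfl⟩
      exact ⟨⟨x, hx⟩, (extHom_apply φ hx).symm⟩
  have hPS : P ≤ S := hf.le
  have hPN : P ≤ normalizerIn S P := le_normalizerIn hPS
  obtain ⟨φP, hφP, hφPimg⟩ := hpi P (isConj_of_isImage hf hfP)
  obtain ⟨MP, hMP, -⟩ := exists_isImage hφP
  obtain ⟨kP, hkP, hkPφ, hkPM, hφPkP⟩ := hφP.inv hMP
  have hPhMP : Ph ≤ MP := by
    intro y hy
    obtain ⟨x, hx, rfl⟩ := (hφPimg y).1 hy
    exact hMP.mem (hPN hx)
  have hkPimg : IsImage Ph kP P := isImage_inv_of hPN hφPimg hkPφ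
  -- the automorphism `β = φ ∘ φ_P⁻¹` of `P̂`
  have hβ : IsMapOn F Ph (extHom φ ∘ kP) :=
    (hkP.mono hPhMP).comp hf (fun y hy => hkPimg.mem hy)
  have hβP : IsImage Ph (extHom φ ∘ kP) Ph := IsImage.comp hkPimg hfP
  obtain ⟨βb, hβb, hβbext⟩ := hB _ hβ hβP
  have hβbP : IsImage Ph βb Ph := IsImage.congr hβP (fun x hx => (hβbext x hx).symm)
  have hβbQ := ext_image hY hPhS hβb hβbP
  obtain ⟨kβ, hkβ, hkββ, hkβQ, hβkβ⟩ := hβb.inv hβbQ
  -- the image of the extender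
  have hNφN : extender S P φ ≤ normalizerIn S P :=
    Cfsg.Agent.Lib.Helper84_FusionRS.extender_le_normalizerIn φ
  obtain ⟨N, hN, -⟩ := exists_isImage_of_le hφP hNφN
  have hNle : N ≤ normalizerIn S Ph := by
    intro y hy
    obtain ⟨g, hg, rfl⟩ := (hN y).1 hy
    exact ⟨hφP.mem (hNφN hg), map_mem_normalizer hφP hPN hφPimg (hNφN hg) (hNφN hg).2⟩
  have hNQ : N ≤ normalizerIn S (NY S Ph Y) := by
    intro y hy
    refine ⟨(hNle hy).1, ?_⟩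
    intro q
    constructor
    · intro hq
      exact NY_normal hY hPhS (hNle hy) hq
    · intro hq
      have h1 := NY_normal hY hPhS (Subgroup.inv_mem _ (hNle hy)) hq
      have h3 : y⁻¹ * (y * q * y⁻¹) * y⁻¹⁻¹ = q := by group
      rwa [h3] at h1
  -- the group `K_S`
  set K : Subgroup (MulAut (NY S Ph Y)) := F.autGroup (NY S Ph Y) ⊓ stab (NY S Ph Y) Ph with hKdef
  let KS : Subgroup (MulAut (NY S Ph Y)) :=
    { carrier := {κ | κ ∈ K ∧ ∃ s ∈ S, ∀ x ∈ Ph, extFun κ x = s * x * s⁻¹}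
      one_mem' := ⟨K.one_mem, 1, S.one_mem, fun x hx => by
        rw [extFun_one_apply (hPQ hx)]; simp⟩
      mul_mem' := by
        rintro κ₁ κ₂ ⟨h₁, s₁, hs₁, e₁⟩ ⟨h₂, s₂, hs₂, e₂⟩
        refine ⟨K.mul_mem h₁ h₂, s₁ * s₂, S.mul_mem hs₁ hs₂, fun x hx => ?_⟩
        have hx2 : extFun κ₂ x ∈ Ph := (extFun_mem_iff_of_mem_stab h₂.2 (hPQ hx)).2 hx
        rw [extFun_mul _ _ (hPQ hx), e₁ _ hx2, e₂ x hx]
        group
      inv_mem' := by
        rintro κ ⟨h₁, s, hs, e⟩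
        refine ⟨K.inv_mem h₁, s⁻¹, S.inv_mem hs, fun x hx => ?_⟩
        have hx2 : extFun κ⁻¹ x ∈ Ph :=
          (extFun_mem_iff_of_mem_stab (K.inv_mem h₁).2 (hPQ hx)).2 hx
        have h2 := e _ hx2
        rw [extFun_apply_inv κ (hPQ hx)] at h2
        calc extFun κ⁻¹ x = s⁻¹ * (s * extFun κ⁻¹ x * s⁻¹) * s⁻¹⁻¹ := by group
          _ = s⁻¹ * x * s⁻¹⁻¹ := by rw [← h2] }
  have hKSK : KS ≤ K := fun κ hκ => hκ.1
  have hle1 : autInducedBy S (NY S Ph Y) ⊓ K ≤ KS := by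
    intro κ hκ
    obtain ⟨g, hgS, hg⟩ := (mem_autInducedBy_iff S _ κ).1 hκ.1
    exact ⟨hκ.2, g, hgS, fun x hx => by rw [extFun_apply κ (hPQ hx), hg]⟩
  have hsylKS : IsSylowIn p (autInducedBy S (NY S Ph Y) ⊓ KS) KS := by
    have heq : autInducedBy S (NY S Ph Y) ⊓ KS = autInducedBy S (NY S Ph Y) ⊓ K :=
      le_antisymm (inf_le_inf_left _ hKSK) (le_inf inf_le_left hle1)
    rw [heq]
    exact hQsyl.mono hle1 hKSK
  have hKSF : KS ≤ F.autGroup (NY S Ph Y) := fun κ hκ => hκ.1.1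
  -- elements of `N` induce automorphisms in `K_S`
  have hNK : ∀ g' ∈ N, ∃ κ ∈ KS, ∀ x ∈ NY S Ph Y, βb (g' * x * g'⁻¹) = extFun κ (βb x) := by
    intro g' hg'
    have hg'Q := hNQ hg'
    have hg'Ph := hNle hg'
    obtain ⟨g, hg, hgg'⟩ := (hN g').1 hg'
    obtain ⟨hgS, hgnorm, h, hhS, hgh⟩ := (Cfsg.Agent.Lib.Helper84_FusionRS.mem_extender_iff φ g).1 hg
    have hgNP : g ∈ normalizerIn S P := ⟨hgS, hgnorm⟩
    have hconjQ : ∀ x ∈ NY S Ph Y, g' * x * g'⁻¹ ∈ NY S Ph Y := fun x hx =>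
      conj_mem_of_mem_normalizerIn hg'Q hx
    have hmap : IsMapOn F (NY S Ph Y) (fun y => βb (g' * kβ y * g'⁻¹)) := by
      have h1 : IsMapOn F (NY S Ph Y) ((fun x => g' * x * g'⁻¹) ∘ kβ) :=
        hkβ.comp (IsMapOn.conj F hQS hg'Q.1) hkβQ
      exact h1.comp hβb (fun y hy => hconjQ _ (hkβQ y hy))
    obtain ⟨κ, hκ, hκf⟩ := exists_aut_of_isMapOn hmap
      (fun y hy => hβbQ.mem (hconjQ _ (hkβQ y hy)))
    have hκstab : κ ∈ stab (NY S Ph Y) Ph := by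
      intro y
      rw [hκf y]
      have hky : kβ y ∈ NY S Ph Y := hkβQ y y.2
      have h3 : kβ y ∈ Ph ↔ g' * kβ y * g'⁻¹ ∈ Ph := hg'Ph.2 (kβ y)
      rw [mem_iff_of_isImage hβb hPQ hβbP (hconjQ _ hky), ← h3]
      have h2 := mem_iff_of_isImage hβb hPQ hβbP hky
      rw [hβkβ y y.2] at h2
      exact h2
    have hκKS : κ ∈ KS := by
      refine ⟨⟨hκ, hκstab⟩, h, hhS, fun x hx => ?_⟩
      rw [extFun_apply κ (hPQ hx), hκf]
      simp only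
      -- `w = kβ x ∈ P̂`, `βb w = x`
      have hw : kβ x ∈ Ph := by
        have h2 := mem_iff_of_isImage hβb hPQ hβbP (hkβQ x (hPQ hx))
        rw [hβkβ x (hPQ hx)] at h2
        exact h2.1 hx
      have hβw : βb (kβ x) = x := hβkβ x (hPQ hx)
      set w := kβ x with hwdef
      have hu : kP w ∈ P := hkPimg.mem hw
      have hφu : φP (kP w) = w := hφPkP w (hPhMP hw)
      have hconjw : g' * w * g'⁻¹ ∈ Ph := conj_mem_of_mem_normalizerIn hg'Ph hw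
      have hgu : g * kP w * g⁻¹ ∈ P := conj_mem_of_mem_normalizerIn hgNP hu
      have h5 : g' * w * g'⁻¹ = φP (g * kP w * g⁻¹) := by
        rw [hφP.map_mul (Subgroup.mul_mem _ hgNP (hPN hu)) (Subgroup.inv_mem _ hgNP),
          hφP.map_mul hgNP (hPN hu), hφP.map_inv hgNP, hgg', hφu]
      rw [hβbext _ hconjw, Function.comp_apply, h5, hkPφ _ (hPN hgu), extHom_apply φ hgu,
        hgh ⟨kP w, hu⟩ hgu, ← hβw, hβbext _ hw, Function.comp_apply, extHom_apply φ hu]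
    refine ⟨κ, hκKS, fun x hx => ?_⟩
    rw [extFun_apply κ (hβbQ.mem hx), hκf]
    simp only
    rw [hkββ x hx]
  obtain ⟨κ₀, hκ₀, f', hf', hf'ext⟩ :=
    exists_extension_of_sylow hS F hQrec KS hKSF hsylKS hβb hβbQ N hNQ hNK
  obtain ⟨-, s, hsS, hκ₀s⟩ := hκ₀
  -- the extension of `φ`
  have hψ1 : IsMapOn F (extender S P φ) (f' ∘ φP) :=
    (hφP.mono hNφN).comp hf' (fun x hx => (le_sup_right : N ≤ NY S Ph Y ⊔ N) (hN.mem hx))
  have hψ2 : IsMapOn F (extender S P φ) ((fun y => s⁻¹ * y * s⁻¹⁻¹) ∘ (f' ∘ φP)) :=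
    hψ1.comp (IsMapOn.conj F le_rfl (S.inv_mem hsS)) (fun x hx => hψ1.mem hx)
  obtain ⟨ψ, hψ, hψf⟩ := hψ2
  refine ⟨ψ, hψ, fun x hxP hxN => ?_⟩
  rw [hψf ⟨x, hxN⟩]
  simp only [Function.comp_apply]
  have h1 : φP x ∈ Ph := hφPimg.mem hxP
  rw [hf'ext _ (hPQ h1), hβbext _ h1, Function.comp_apply, hkPφ x (hPN hxP),
    hκ₀s _ (hfP.mem hxP), extHom_apply φ hxP]
  group

end Cfsg.Agent.Lib.Helper85_SatCrit10
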