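import Cfsg.Agent.Lib.Helper85_SatCrit10
import Cfsg.Agent.Lib.Helper87_Alperin2
import Cfsg.Agent.Lib.Helper1_Cores

/-!
# Saturation criterion, part 11 (helper85): transport of `Y` and the two basic choices of `Y`
-/

set_option autoImplicit false

namespace Cfsg.Agent.Lib.Helper85_SatCrit11

open Cfsg Cfsg.FusionSystem Cfsg.Agent.Lib.Helper87_Alperin Cfsg.Agent.Lib.Helper88_Centric
  Cfsg.Agent.Lib.Helper84_RelSylow Cfsg.Agent.Lib.Helper88_AutInv Cfsg.Agent.Lib.Helper85_SatCrit1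
  Cfsg.Agent.Lib.Helper85_SatCrit2 Cfsg.Agent.Lib.Helper85_SatCrit3 Cfsg.Agent.Lib.Helper85_SatCrit4
  Cfsg.Agent.Lib.Helper85_SatCrit5 Cfsg.Agent.Lib.Helper85_SatCrit6 Cfsg.Agent.Lib.Helper88_Centric2

variable {Ω : Type*} [Group Ω] {S : Subgroup Ω}

theorem congr_apply' {P P' : Subgroup Ω} (e : P ≃* P') (y : MulAut P) (z : P') :
    MulAut.congr e y z = e (y (e.symm z)) := rfl

/-- Transport of an automorphism of the system along an isomorphism of the system. -/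
theorem congr_mem_autGroup' {F : FusionSystem S} {P P' : Subgroup Ω} {f k : Ω → Ω} (hf : IsMapOn F P f)
    (hk : IsMapOn F P' k) (himg : IsImage P f P') (hkf : ∀ x ∈ P, k (f x) = x)
    (e : P ≃* P') (he : ∀ x : P, ((e x : P') : Ω) = f x) (β : MulAut P) (hβ : β ∈ F.autGroup P) :
    MulAut.congr e β ∈ F.autGroup P' := by
  have hPS : P ≤ S := hf.le
  have hP'S : P' ≤ S := hk.le
  have hkmem : ∀ y ∈ P', k y ∈ P := by
    intro y hy
    obtain ⟨x, hx, rfl⟩ := (himg y).1 hy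
    rw [hkf x hx]
    exact hx
  have hsymm : ∀ y : P', ((e.symm y : P) : Ω) = k y := by
    intro y
    have h1 : f ((e.symm y : P) : Ω) = y := by rw [← he, MulEquiv.apply_symm_apply]
    have h2 := hkf _ (e.symm y).2
    rw [h1] at h2
    exact h2.symm
  have hval : ∀ y, y ∈ P' → extFun (MulAut.congr e β) y = f (extFun β (k y)) := by
    intro y hy
    rw [extFun_apply _ hy, ← hsymm ⟨y, hy⟩, extFun_coe]
    exact he _
  rw [mem_autGroup_iff F hP'S]
  have h2 : IsMapOn F P (extFun β) := (mem_autGroup_iff F hPS β).1 hβ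
  refine ((hk.comp h2 hkmem).comp hf
    (fun y hy => extFun_mem β (hkmem y hy))).congr fun y hy => ?_
  simp only [Function.comp_apply]
  exact (hval y hy).symm

theorem congr_conj {P P' : Subgroup Ω} (e : P ≃* P') (w : P) :
    MulAut.congr e (MulAut.conj w) = MulAut.conj (e w) := by
  ext z
  rw [congr_apply']
  simp [MulAut.conj_apply]

theorem congr_congr_symm {P P' : Subgroup Ω} (e : P ≃* P') (γ' : MulAut P') :
    MulAut.congr e (MulAut.congr e.symm γ') = γ' := by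
  ext z
  rw [congr_apply', congr_apply']
  simp

/-- Transport of the hypotheses on `Y` along an isomorphism of the system. -/
theorem yhyp_transport {p : ℕ} {F : FusionSystem S} {P P' : Subgroup Ω} {ψ : Ω → Ω}
    (hψ : IsMapOn F P ψ) (himg : IsImage P ψ P') (e : P ≃* P')
    (he : ∀ x : P, ((e x : P') : Ω) = ψ x) {Y : Subgroup (MulAut P)} (hY : YHyp p F P Y) :
    YHyp p F P' (Y.map (MulAut.congr e).toMonoidHom) := by
  obtain ⟨k, hk, hkψ, hkP, hψk⟩ := hψ.inv himg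
  have hesymm : ∀ y : P', ((e.symm y : P) : Ω) = k y := by
    intro y
    have h1 : ψ ((e.symm y : P) : Ω) = y := by rw [← he, MulEquiv.apply_symm_apply]
    have h2 := hkψ _ (e.symm y).2
    rw [h1] at h2
    exact h2.symm
  have himg' : IsImage P' k P := isImage_inv_of le_rfl himg hkψ
  have hfwd : ∀ β ∈ F.autGroup P, MulAut.congr e β ∈ F.autGroup P' := fun β hβ =>
    congr_mem_autGroup' hψ hk himg hkψ e he β hβ
  have hbwd : ∀ β' ∈ F.autGroup P', MulAut.congr e.symm β' ∈ F.autGroup P := fun β' hβ' =>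
    congr_mem_autGroup' hk hψ himg' hψk e.symm hesymm β' hβ'
  refine ⟨?_, ?_, ?_, ?_, ?_⟩
  · rintro _ ⟨y, hy, rfl⟩
    exact hfwd y (hY.le hy)
  · rintro γ' hγ' _ ⟨y, hy, rfl⟩
    refine ⟨MulAut.congr e.symm γ' * y * (MulAut.congr e.symm γ')⁻¹,
      hY.normal _ (hbwd γ' hγ') y hy, ?_⟩
    simp only [MulEquiv.coe_toMonoidHom, map_mul, map_inv]
    rw [congr_congr_symm]
  · exact hY.pgroup.map _
  · rintro _ ⟨w', rfl⟩
    refine ⟨MulAut.conj (e.symm w'), hY.inn ⟨e.symm w', rfl⟩, ?_⟩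
    simp only [MulEquiv.coe_toMonoidHom]
    rw [congr_conj, MulEquiv.apply_symm_apply]
  · rcases hY.alt with h | h
    · left
      rw [h]
      ext α
      constructor
      · rintro ⟨_, ⟨w, rfl⟩, rfl⟩
        refine ⟨e w, ?_⟩
        simp only [MulEquiv.coe_toMonoidHom]
        rw [congr_conj]
      · rintro ⟨w', rfl⟩
        refine ⟨MulAut.conj (e.symm w'), ⟨e.symm w', rfl⟩, ?_⟩
        simp only [MulEquiv.coe_toMonoidHom]
        rw [congr_conj, MulEquiv.apply_symm_apply]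
    · right
      exact isCentric_of_isConj h (isConj_of_isImage hψ himg)

/-- Transport of `N_S^Y(P)` along an isomorphism of normalizers. -/
theorem NY_transport {F : FusionSystem S} {P P' : Subgroup Ω} {ψ : Ω → Ω} (hP : P ≤ S)
    (hψ : IsMapOn F (normalizerIn S P) ψ) (_himg : IsImage P ψ P')
    (hsurj : IsImage (normalizerIn S P) ψ (normalizerIn S P')) (e : P ≃* P')
    (he : ∀ x : P, ((e x : P') : Ω) = ψ x) (Y : Subgroup (MulAut P)) :
    IsImage (NY S P Y) ψ (NY S P' (Y.map (MulAut.congr e).toMonoidHom)) := by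
  have hPN : P ≤ normalizerIn S P := le_normalizerIn hP
  have hesymm_ψ : ∀ z' : P', ψ ((e.symm z' : P) : Ω) = z' := by
    intro z'
    rw [← he, MulEquiv.apply_symm_apply]
  have hconj : ∀ {x z : Ω}, x ∈ normalizerIn S P → z ∈ P →
      ψ (x * z * x⁻¹) = ψ x * ψ z * (ψ x)⁻¹ := by
    intro x z hx hz
    rw [hψ.map_mul (Subgroup.mul_mem _ hx (hPN hz)) (Subgroup.inv_mem _ hx),
      hψ.map_mul hx (hPN hz), hψ.map_inv hx]
  intro x'
  constructor
  · rintro ⟨hx'S, y', ⟨y, hy, rfl⟩, hy'⟩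
    have hx'N : x' ∈ normalizerIn S P' :=
      ⟨hx'S, Cfsg.Agent.Lib.Helper84_FusionRS.mem_normalizer_of_aut _ x' hy'⟩
    obtain ⟨x, hx, rfl⟩ := (hsurj x').1 hx'N
    refine ⟨x, ⟨hx.1, y, hy, fun z => ?_⟩, rfl⟩
    have h1 := hy' (e z)
    simp only [MulEquiv.coe_toMonoidHom] at h1
    rw [congr_apply', MulEquiv.symm_apply_apply, he, he] at h1
    have hxz : x * z * x⁻¹ ∈ normalizerIn S P :=
      Subgroup.mul_mem _ (Subgroup.mul_mem _ hx (hPN z.2)) (Subgroup.inv_mem _ hx)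
    exact hψ.injOn (hPN (y z).2) hxz (h1.trans (hconj hx z.2).symm)
  · rintro ⟨x, ⟨hxS, y, hy, hyx⟩, rfl⟩
    have hxN : x ∈ normalizerIn S P :=
      ⟨hxS, Cfsg.Agent.Lib.Helper84_FusionRS.mem_normalizer_of_aut y x hyx⟩
    refine ⟨hψ.mem hxN, MulAut.congr e y, ⟨y, hy, rfl⟩, fun z' => ?_⟩
    rw [congr_apply', he, hyx, hconj hxN (e.symm z').2, hesymm_ψ]

/-- `Y = Inn(P)`. -/
theorem yhyp_inn {p : ℕ} (hS : IsPGroup p S) (F : FusionSystem S) {P : Subgroup Ω} (hP : P ≤ S) :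
    YHyp p F P (Inn P) := by
  refine ⟨Cfsg.Agent.Lib.Helper87_Alperin2.inn_le_autGroup F hP, ?_,
    Cfsg.Agent.Lib.Helper87_Alperin2.isPGroup_inn (hS.to_le hP), le_rfl, Or.inl rfl⟩
  rintro γ - _ ⟨w, rfl⟩
  refine ⟨γ w, ?_⟩
  ext z
  simp [MulAut.conj_apply]

/-- `Y = O_p(Aut_F(P))` for centric `P`. -/
theorem yhyp_opAut {p : ℕ} [Fact p.Prime] (hS : IsPGroup p S) (F : FusionSystem S) {P : Subgroup Ω}
    (hP : P ≤ S) (hc : F.IsCentric P) :
    YHyp p F P ((pCore p (F.autGroup P)).map (F.autGroup P).subtype) := by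
  refine ⟨Subgroup.map_subtype_le _, ?_,
    (Cfsg.Agent.Lib.Helper1_Cores.pCore_isPGroup p).map _,
    Cfsg.Agent.Lib.Helper87_Alperin2.inn_le_pCore_map F hS hP, Or.inr hc⟩
  rintro γ hγ _ ⟨y, hy, rfl⟩
  have hn := (Cfsg.Agent.Lib.Helper1_Cores.pCore_normal (G := F.autGroup P) p).conj_mem y hy ⟨γ, hγ⟩
  exact ⟨⟨γ, hγ⟩ * y * ⟨γ, hγ⟩⁻¹, hn, rfl⟩

end Cfsg.Agent.Lib.Helper85_SatCrit11
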