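import Cfsg.Agent.Lib.Helper88_Essential
import Cfsg.Agent.Lib.Helper87_Alperin2

/-!
Fusion systems (helper88): for a subsystem `E` (over `T`) of `F` (over `S`), the largest subsystem `invSub F E`
of `E` that is stable under conjugation by `Aut_F(T)`, and the class of maps `α ∘ f₀` with `α ∈ Aut_F(T)` and `f₀` a map
of `invSub F E` (`ProdPred`), with its closure properties.  Used for Frattini-type statements
(every map of `F` is an automorphism of `T` followed by a map of `E`).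
-/

set_option autoImplicit false

namespace Cfsg.Agent.Lib.Helper88_AutInv

open Cfsg Cfsg.FusionSystem Cfsg.Agent.Lib.Helper87_Alperin Cfsg.Agent.Lib.Helper88_Centric
  Cfsg.Agent.Lib.Helper88_Essential

variable {Ω : Type*} [Group Ω] {S : Subgroup Ω}

/-! ### `extFun` of an automorphism of `T` -/

theorem extFun_map_mul {T : Subgroup Ω} (α : MulAut T) {x y : Ω} (hx : x ∈ T) (hy : y ∈ T) :
    extFun α (x * y) = extFun α x * extFun α y := by
  rw [extFun_apply α (T.mul_mem hx hy), extFun_apply α hx, extFun_apply α hy]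
  have : (⟨x * y, T.mul_mem hx hy⟩ : T) = ⟨x, hx⟩ * ⟨y, hy⟩ := rfl
  rw [this, map_mul]
  rfl

theorem extFun_map_inv {T : Subgroup Ω} (α : MulAut T) {x : Ω} (hx : x ∈ T) :
    extFun α x⁻¹ = (extFun α x)⁻¹ := by
  rw [extFun_apply α (T.inv_mem hx), extFun_apply α hx]
  have : (⟨x⁻¹, T.inv_mem hx⟩ : T) = (⟨x, hx⟩ : T)⁻¹ := rfl
  rw [this, map_inv]
  rfl

theorem extFun_one_apply {T : Subgroup Ω} {x : Ω} (hx : x ∈ T) : extFun (1 : MulAut T) x = x := by
  rw [extFun_apply _ hx]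
  rfl

/-- The image of `R ≤ T` under an automorphism of `T`, as a subgroup of the ambient group. -/
def mapAut {T : Subgroup Ω} (α : MulAut T) (R : Subgroup Ω) : Subgroup Ω :=
  (R.subgroupOf T).map (T.subtype.comp α.toMonoidHom)

theorem isImage_mapAut {T : Subgroup Ω} (α : MulAut T) {R : Subgroup Ω} (hRT : R ≤ T) :
    IsImage R (extFun α) (mapAut α R) := by
  intro y
  constructor
  · rintro ⟨z, hz, rfl⟩
    exact ⟨z, hz, extFun_coe α z⟩
  · rintro ⟨x, hx, rfl⟩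
    exact ⟨⟨x, hRT hx⟩, hx, (extFun_apply α (hRT hx)).symm⟩

theorem isImage_le_of_extFun {T : Subgroup Ω} {α : MulAut T} {P P' : Subgroup Ω}
    (h : IsImage P (extFun α) P') (hPT : P ≤ T) : P' ≤ T := by
  intro y hy
  obtain ⟨x, hx, rfl⟩ := (h y).1 hy
  exact extFun_mem α (hPT hx)

theorem isImage_inv_mem {T : Subgroup Ω} {α : MulAut T} {P P' : Subgroup Ω}
    (h : IsImage P (extFun α) P') (hPT : P ≤ T) {y : Ω} (hy : y ∈ P') : extFun α⁻¹ y ∈ P := by
  obtain ⟨x, hx, rfl⟩ := (h y).1 hy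
  rw [extFun_inv_apply α (hPT hx)]
  exact hx

theorem isImage_inv {T : Subgroup Ω} {α : MulAut T} {P P' : Subgroup Ω}
    (h : IsImage P (extFun α) P') (hPT : P ≤ T) : IsImage P' (extFun α⁻¹) P := by
  intro x
  constructor
  · intro hx
    exact ⟨extFun α x, h.mem hx, extFun_inv_apply α (hPT hx)⟩
  · rintro ⟨y, hy, rfl⟩
    exact isImage_inv_mem h hPT hy

theorem isImage_unique {P P' P'' : Subgroup Ω} {f : Ω → Ω} (h : IsImage P f P')
    (h' : IsImage P f P'') : P' = P'' := by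
  ext y
  rw [h y, h' y]

theorem isImage_comp_extFun {T : Subgroup Ω} {α β : MulAut T} {P P₁ P₂ : Subgroup Ω} (hPT : P ≤ T)
    (h₁ : IsImage P (extFun α) P₁) (h₂ : IsImage P₁ (extFun β) P₂) :
    IsImage P (extFun (β * α)) P₂ := by
  intro y
  rw [h₂ y]
  constructor
  · rintro ⟨z, hz, rfl⟩
    obtain ⟨x, hx, rfl⟩ := (h₁ z).1 hz
    exact ⟨x, hx, extFun_mul β α (hPT hx)⟩
  · rintro ⟨x, hx, rfl⟩
    exact ⟨extFun α x, h₁.mem hx, (extFun_mul β α (hPT hx)).symm⟩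

/-- Conjugate of a function by an automorphism of `T`. -/
noncomputable def conjFun {T : Subgroup Ω} (α : MulAut T) (f : Ω → Ω) : Ω → Ω :=
  extFun α ∘ f ∘ extFun α⁻¹

theorem conjFun_apply {T : Subgroup Ω} (α : MulAut T) (f : Ω → Ω) (y : Ω) :
    conjFun α f y = extFun α (f (extFun α⁻¹ y)) := rfl

theorem conjFun_extFun {T : Subgroup Ω} (α : MulAut T) (f : Ω → Ω) {x : Ω} (hx : x ∈ T) :
    conjFun α f (extFun α x) = extFun α (f x) := by
  rw [conjFun_apply, extFun_inv_apply α hx]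

/-- `β (α f α⁻¹) β⁻¹ = (βα) f (βα)⁻¹` on `T`, for functions `f` with values in `T`. -/
theorem conjFun_conjFun {T : Subgroup Ω} (α β : MulAut T) (f : Ω → Ω) {y : Ω} (hy : y ∈ T)
    (hf : f (extFun (β * α)⁻¹ y) ∈ T) :
    conjFun β (conjFun α f) y = conjFun (β * α) f y := by
  have h1 : extFun (β * α)⁻¹ y = extFun α⁻¹ (extFun β⁻¹ y) := by
    rw [mul_inv_rev]
    exact extFun_mul α⁻¹ β⁻¹ hy
  rw [conjFun_apply, conjFun_apply, conjFun_apply, h1]
  rw [h1] at hf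
  exact (extFun_mul β α hf).symm

/-! ### The `Aut_F(T)`-stable part of a subsystem -/

/-- The predicate cutting out the `Aut_F(T)`-stable part of `E`: all conjugates `α f α⁻¹`, `α ∈ Aut_F(T)`, are maps
of `E`. -/
def InvPred (F : FusionSystem S) {T : Subgroup Ω} (E : FusionSystem T) (P : Subgroup Ω) (f : Ω → Ω) : Prop :=
  P ≤ T ∧ ∀ α ∈ F.autGroup T, ∀ P' : Subgroup Ω, IsImage P (extFun α) P' → IsMapOn E P' (conjFun α f)

theorem InvPred.congr {F : FusionSystem S} {T : Subgroup Ω} {E : FusionSystem T} {P : Subgroup Ω}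
    {f g : Ω → Ω} (h : InvPred F E P f) (hfg : ∀ x ∈ P, f x = g x) : InvPred F E P g := by
  refine ⟨h.1, fun α hα P' hP' => (h.2 α hα P' hP').congr (fun y hy => ?_)⟩
  rw [conjFun_apply, conjFun_apply, hfg _ (isImage_inv_mem hP' h.1 hy)]

theorem invPred_conj {F : FusionSystem S} {T : Subgroup Ω} (E : FusionSystem T) {P : Subgroup Ω} {a : Ω}
    (hP : P ≤ T) (ha : a ∈ T) : InvPred F E P (fun x => a * x * a⁻¹) := by
  refine ⟨hP, fun α hα P' hP' => ?_⟩
  have hP'T := isImage_le_of_extFun hP' hP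
  refine (IsMapOn.conj E hP'T (extFun_mem α ha)).congr (fun y hy => ?_)
  rw [conjFun_apply]
  have hz : extFun α⁻¹ y ∈ T := hP (isImage_inv_mem hP' hP hy)
  rw [extFun_map_mul α (T.mul_mem ha hz) (T.inv_mem ha), extFun_map_mul α ha hz, extFun_map_inv α ha,
    extFun_apply_inv α (hP'T hy)]

theorem InvPred.comp {F : FusionSystem S} {T : Subgroup Ω} {E : FusionSystem T} {P R : Subgroup Ω}
    {f g : Ω → Ω} (hrf : InvPred F E P f) (hrg : InvPred F E R g) (h : ∀ x ∈ P, f x ∈ R) :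
    InvPred F E P (g ∘ f) := by
  refine ⟨hrf.1, fun α hα P' hP' => ?_⟩
  have hRT := hrg.1
  have h1 := hrf.2 α hα P' hP'
  have h2 := hrg.2 α hα (mapAut α R) (isImage_mapAut α hRT)
  have h3 : ∀ y ∈ P', conjFun α f y ∈ mapAut α R := fun y hy =>
    (isImage_mapAut α hRT).mem (h _ (isImage_inv_mem hP' hrf.1 hy))
  refine (h1.comp h2 h3).congr (fun y hy => ?_)
  show conjFun α g (conjFun α f y) = conjFun α (g ∘ f) y
  rw [conjFun_apply α f, conjFun_extFun α g (hRT (h _ (isImage_inv_mem hP' hrf.1 hy)))]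
  rfl

theorem InvPred.inv {F : FusionSystem S} {T : Subgroup Ω} {E : FusionSystem T} {P P' : Subgroup Ω}
    {f g : Ω → Ω} (hrf : InvPred F E P f) (himg : IsImage P f P') (hg : IsMapOn E P' g)
    (hgf : ∀ x ∈ P, g (f x) = x) : InvPred F E P' g := by
  have hPT := hrf.1
  have hP'T : P' ≤ T := hg.le
  refine ⟨hP'T, fun α hα P'' hP'' => ?_⟩
  have hP₁ := isImage_mapAut α hPT
  have h1 := hrf.2 α hα _ hP₁
  have himg' : ∀ z, z ∈ P'' ↔ ∃ y ∈ mapAut α P, conjFun α f y = z := by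
    intro z
    rw [hP'' z]
    constructor
    · rintro ⟨w, hw, rfl⟩
      obtain ⟨x, hx, rfl⟩ := (himg w).1 hw
      exact ⟨extFun α x, hP₁.mem hx, conjFun_extFun α f (hPT hx)⟩
    · rintro ⟨y, hy, rfl⟩
      obtain ⟨x, hx, rfl⟩ := (hP₁ y).1 hy
      exact ⟨f x, himg.mem hx, (conjFun_extFun α f (hPT hx)).symm⟩
  obtain ⟨g', hg', hg'f, -, -⟩ := h1.inv himg'
  refine hg'.congr (fun z hz => ?_)
  obtain ⟨y, hy, rfl⟩ := (himg' z).1 hz
  obtain ⟨x, hx, rfl⟩ := (hP₁ y).1 hy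
  rw [hg'f _ hy, conjFun_extFun α f (hPT hx), conjFun_extFun α g (hP'T (himg.mem hx)), hgf x hx]

/-- The largest subsystem of `E` that is stable under conjugation by `Aut_F(T)`. -/
noncomputable def invSub (F : FusionSystem S) {T : Subgroup Ω} (E : FusionSystem T) : FusionSystem T :=
  subsystemOf E (InvPred F E) (fun h hfg => h.congr hfg) (fun hP ha => invPred_conj E hP ha)
    (fun _ hrf _ hrg h => InvPred.comp hrf hrg h) (fun _ hrf himg hg hgf => InvPred.inv hrf himg hg hgf)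

theorem invSub_hom_subset (F : FusionSystem S) {T : Subgroup Ω} (E : FusionSystem T) (P : Subgroup Ω) :
    (invSub F E).Hom P ⊆ E.Hom P := fun _ h => h.1

theorem isMapOn_invSub_iff {F : FusionSystem S} {T : Subgroup Ω} {E : FusionSystem T} {P : Subgroup Ω}
    {f : Ω → Ω} : IsMapOn (invSub F E) P f ↔ IsMapOn E P f ∧ InvPred F E P f := by
  constructor
  · rintro ⟨φ, ⟨hφ, hG⟩, hφf⟩
    refine ⟨⟨φ, hφ, hφf⟩, hG.congr (fun x hx => ?_)⟩
    rw [extHom_apply φ hx]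
    exact hφf ⟨x, hx⟩
  · rintro ⟨⟨φ, hφ, hφf⟩, hG⟩
    refine ⟨φ, ⟨hφ, hG.congr (fun x hx => ?_)⟩, hφf⟩
    rw [extHom_apply φ hx]
    exact (hφf ⟨x, hx⟩).symm

theorem IsMapOn.of_invSub {F : FusionSystem S} {T : Subgroup Ω} {E : FusionSystem T} {P : Subgroup Ω}
    {f : Ω → Ω} (h : IsMapOn (invSub F E) P f) : IsMapOn E P f := (isMapOn_invSub_iff.1 h).1

/-- `invSub F E` is stable under conjugation by `Aut_F(T)`. -/
theorem isMapOn_invSub_conj {F : FusionSystem S} {T : Subgroup Ω} {E : FusionSystem T} {P P' : Subgroup Ω}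
    {f : Ω → Ω} (hf : IsMapOn (invSub F E) P f) {α : MulAut T} (hα : α ∈ F.autGroup T)
    (hP' : IsImage P (extFun α) P') : IsMapOn (invSub F E) P' (conjFun α f) := by
  obtain ⟨hfE, hPT, hinv⟩ := isMapOn_invSub_iff.1 hf
  have hP'T := isImage_le_of_extFun hP' hPT
  refine isMapOn_invSub_iff.2 ⟨hinv α hα P' hP', hP'T, fun β hβ P'' hP'' => ?_⟩
  have h1 := hinv (β * α) ((F.autGroup T).mul_mem hβ hα) P'' (isImage_comp_extFun hPT hP' hP'')
  have hP''T := isImage_le_of_extFun hP'' hP'T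
  refine h1.congr (fun y hy => ?_)
  have hy' : extFun (β * α)⁻¹ y ∈ P :=
    isImage_inv_mem (isImage_comp_extFun hPT hP' hP'') hPT hy
  exact (conjFun_conjFun α β f (hP''T hy) (hfE.mem hy')).symm

/-! ### Maps of the form `α ∘ f₀` -/

/-- `f` is, on `P`, an automorphism in `Aut_F(T)` after a map of `invSub F E`. -/
def ProdPred (F : FusionSystem S) {T : Subgroup Ω} (E : FusionSystem T) (P : Subgroup Ω) (f : Ω → Ω) : Prop :=
  ∃ α ∈ F.autGroup T, ∃ f₀ : Ω → Ω, IsMapOn (invSub F E) P f₀ ∧ ∀ x ∈ P, f x = extFun α (f₀ x)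

theorem ProdPred.congr {F : FusionSystem S} {T : Subgroup Ω} {E : FusionSystem T} {P : Subgroup Ω}
    {f g : Ω → Ω} (h : ProdPred F E P f) (hfg : ∀ x ∈ P, f x = g x) : ProdPred F E P g := by
  obtain ⟨α, hα, f₀, hf₀, hf⟩ := h
  exact ⟨α, hα, f₀, hf₀, fun x hx => (hfg x hx).symm.trans (hf x hx)⟩

theorem ProdPred.of_invSub {F : FusionSystem S} {T : Subgroup Ω} {E : FusionSystem T} {P : Subgroup Ω}
    {f : Ω → Ω} (h : IsMapOn (invSub F E) P f) : ProdPred F E P f :=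
  ⟨1, (F.autGroup T).one_mem, f, h, fun _ hx => (extFun_one_apply (h.mem hx)).symm⟩

theorem ProdPred.of_aut {F : FusionSystem S} {T : Subgroup Ω} (E : FusionSystem T) {P : Subgroup Ω}
    (hPT : P ≤ T) {α : MulAut T} (hα : α ∈ F.autGroup T) : ProdPred F E P (extFun α) :=
  ⟨α, hα, fun x => x, IsMapOn.id (invSub F E) hPT, fun _ _ => rfl⟩

theorem ProdPred.le {F : FusionSystem S} {T : Subgroup Ω} {E : FusionSystem T} {P : Subgroup Ω}
    {f : Ω → Ω} (h : ProdPred F E P f) : P ≤ T := by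
  obtain ⟨α, hα, f₀, hf₀, hf⟩ := h
  exact hf₀.le

theorem ProdPred.comp {F : FusionSystem S} {T : Subgroup Ω} {E : FusionSystem T} {P R : Subgroup Ω}
    {f g : Ω → Ω} (hf : ProdPred F E P f) (hg : ProdPred F E R g) (h : ∀ x ∈ P, f x ∈ R) :
    ProdPred F E P (g ∘ f) := by
  obtain ⟨α, hα, f₀, hf₀, hff⟩ := hf
  obtain ⟨β, hβ, g₀, hg₀, hgg⟩ := hg
  have hRT : R ≤ T := hg₀.le
  have hαi : α⁻¹ ∈ F.autGroup T := (F.autGroup T).inv_mem hα
  have hR₀ := isImage_mapAut α⁻¹ hRT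
  have hg₀' := isMapOn_invSub_conj hg₀ hαi hR₀
  have hf₀R : ∀ x ∈ P, f₀ x ∈ mapAut α⁻¹ R := by
    intro x hx
    have h1 : extFun α⁻¹ (f x) ∈ mapAut α⁻¹ R := hR₀.mem (h x hx)
    rwa [hff x hx, extFun_inv_apply α (hf₀.mem hx)] at h1
  refine ⟨β * α, (F.autGroup T).mul_mem hβ hα, conjFun α⁻¹ g₀ ∘ f₀, hf₀.comp hg₀' hf₀R, fun x hx => ?_⟩
  have hx₀ : f₀ x ∈ T := hf₀.mem hx
  have h2 : conjFun α⁻¹ g₀ (f₀ x) = extFun α⁻¹ (g₀ (f x)) := by
    rw [conjFun_apply, inv_inv, hff x hx]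
  have h3 : g₀ (f x) ∈ T := hg₀.mem (h x hx)
  show g (f x) = extFun (β * α) (conjFun α⁻¹ g₀ (f₀ x))
  rw [h2, extFun_mul β α (extFun_mem α⁻¹ h3), extFun_apply_inv α h3, hgg _ (h x hx)]

theorem ProdPred.inv {F : FusionSystem S} {T : Subgroup Ω} {E : FusionSystem T} {P P' : Subgroup Ω}
    {f g : Ω → Ω} (hf : ProdPred F E P f) (himg : IsImage P f P') (hgf : ∀ x ∈ P, g (f x) = x) :
    ProdPred F E P' g := by
  obtain ⟨α, hα, f₀, hf₀, hff⟩ := hf
  have hPT : P ≤ T := hf₀.le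
  obtain ⟨P₀, hP₀, -⟩ := exists_isImage hf₀
  obtain ⟨k, hk, hkf, -, -⟩ := hf₀.inv hP₀
  have hP₀T : P₀ ≤ T := hk.le
  have hαi : α⁻¹ ∈ F.autGroup T := (F.autGroup T).inv_mem hα
  -- `P' = α P₀`
  have hP' : IsImage P₀ (extFun α) P' := by
    intro y
    rw [himg y]
    constructor
    · rintro ⟨x, hx, rfl⟩
      exact ⟨f₀ x, hP₀.mem hx, (hff x hx).symm⟩
    · rintro ⟨z, hz, rfl⟩
      obtain ⟨x, hx, rfl⟩ := (hP₀ z).1 hz
      exact ⟨x, hx, hff x hx⟩
  have hk' := isMapOn_invSub_conj hk hα hP'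
  refine ⟨α⁻¹, hαi, conjFun α k, hk', fun y hy => ?_⟩
  obtain ⟨x, hx, rfl⟩ := (himg y).1 hy
  rw [hgf x hx, hff x hx, conjFun_extFun α k (hf₀.mem hx), hkf x hx, extFun_inv_apply α (hPT hx)]

end Cfsg.Agent.Lib.Helper88_AutInv
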