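import Cfsg.Agent.Lib.Helper85_SatCrit1
import Cfsg.Agent.Lib.Helper84_FusionSat
import Cfsg.Agent.Lib.Helper88_AutInv

/-!
# Saturation criterion, part 2 (helper85): relative Sylow tools and the `K`-normalizer extension lemma

* `receptive_extend`: function-level form of receptivity.
* `stab R P`: the automorphisms of `R` stabilizing the subgroup `P`.
* `IsSylowIn.inf_of_normal`, `IsSylowIn.normal_le`.
* `exists_extension_of_sylow`: if `R'` is receptive, `K ≤ Aut_F(R')` and `Aut_S(R') ∩ K` is Sylow in `K`, then an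
  isomorphism `f : R → R'` extends, after composing with an element of `K`, to `R N` for every `N ≤ N_S(R)` whose
  elements induce (through `f`) automorphisms in `K`.
* `lemmaK`: the pair version (AKO I.5.2-like): good representatives `(R', P')` of a pair `(R₀, P₀)`.
-/

set_option autoImplicit false

namespace Cfsg.Agent.Lib.Helper85_SatCrit2

open Cfsg Cfsg.FusionSystem Cfsg.Agent.Lib.Helper87_Alperin Cfsg.Agent.Lib.Helper88_Centric
  Cfsg.Agent.Lib.Helper84_RelSylow Cfsg.Agent.Lib.Helper88_AutInv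

variable {Ω : Type*} [Group Ω] {S : Subgroup Ω}

/-- Function-level receptivity: an isomorphism `ψ : Q → Q'` onto a receptive subgroup extends to `Q N` for every
`N ≤ N_S(Q)` whose elements `g` satisfy `ψ c_g ψ⁻¹ ∈ Aut_S(Q')`. -/
theorem receptive_extend {F : FusionSystem S} {Q Q' : Subgroup Ω} (hQ'r : F.IsReceptive Q')
    {ψ : Ω → Ω} (hψ : IsMapOn F Q ψ) (hQ' : IsImage Q ψ Q') (N : Subgroup Ω)
    (hN : ∀ g ∈ N, g ∈ normalizerIn S Q ∧ ∃ h ∈ S, ∀ x ∈ Q, ψ (g * x * g⁻¹) = h * ψ x * h⁻¹) :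
    ∃ ψ' : Ω → Ω, IsMapOn F (Q ⊔ N) ψ' ∧ ∀ x ∈ Q, ψ' x = ψ x := by
  obtain ⟨φ, hφ, hφψ⟩ := hψ
  have hr : φ.range = Q' := by
    ext y
    rw [hQ' y]
    constructor
    · rintro ⟨x, rfl⟩
      exact ⟨x, x.2, (hφψ x).symm⟩
    · rintro ⟨x, hx, rfl⟩
      exact ⟨⟨x, hx⟩, hφψ _⟩
  obtain ⟨χ, hχ, hχext⟩ := hQ'r.2 Q φ hφ hr
  have hQS : Q ≤ S := hom_le F hφ
  have hNle : N ≤ extender S Q φ := by
    intro g hg
    obtain ⟨hgN, h, hh, hgh⟩ := hN g hg
    rw [Cfsg.Agent.Lib.Helper84_FusionRS.mem_extender_iff]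
    refine ⟨hgN.1, hgN.2, h, hh, fun x hx => ?_⟩
    rw [hφψ, hφψ]
    exact hgh x x.2
  have hle : Q ⊔ N ≤ extender S Q φ :=
    sup_le (Cfsg.Agent.Lib.Helper84_Fusion.le_extender S Q φ hQS (hom_mem F hφ)) hNle
  refine ⟨extHom χ, (isMapOn_extHom F hχ).mono hle, fun x hx => ?_⟩
  have hxN : x ∈ extender S Q φ := hle ((le_sup_left : Q ≤ Q ⊔ N) hx)
  rw [extHom_apply χ hxN, hχext x hx hxN, hφψ]

/-- The automorphisms of `R` stabilizing the subgroup `P`. -/
def stab (R P : Subgroup Ω) : Subgroup (MulAut R) where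
  carrier := {α | ∀ x : R, (x : Ω) ∈ P ↔ ((α x : R) : Ω) ∈ P}
  one_mem' := fun _ => Iff.rfl
  mul_mem' := by
    intro α β hα hβ x
    rw [MulAut.mul_apply]
    exact (hβ x).trans (hα (β x))
  inv_mem' := by
    intro α hα x
    have := hα (α⁻¹ x)
    rw [MulAut.apply_inv_self] at this
    exact this.symm

theorem mem_stab {R P : Subgroup Ω} {α : MulAut R} :
    α ∈ stab R P ↔ ∀ x : R, (x : Ω) ∈ P ↔ ((α x : R) : Ω) ∈ P := Iff.rfl

theorem extFun_mem_iff_of_mem_stab {R P : Subgroup Ω} {α : MulAut R} (hα : α ∈ stab R P) {x : Ω}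
    (hx : x ∈ R) : extFun α x ∈ P ↔ x ∈ P := by
  rw [extFun_apply α hx]
  exact (hα ⟨x, hx⟩).symm

/-! ### Relative Sylow subgroups -/

section sylow

variable {G : Type*} [Group G] {p : ℕ}

/-- A relative Sylow subgroup of `K` meets a subgroup `N ≤ K` normalized by `K` in a relative Sylow subgroup of
`N`. -/
theorem IsSylowIn.inf_of_normal [Fact p.Prime] {T K N : Subgroup G} [Finite K] (h : IsSylowIn p T K)
    (hNK : N ≤ K) (hnorm : ∀ k ∈ K, ∀ n ∈ N, k * n * k⁻¹ ∈ N) : IsSylowIn p (T ⊓ N) N := by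
  have : Finite N := Finite.of_injective (Subgroup.inclusion hNK) (Subgroup.inclusion_injective hNK)
  obtain ⟨T₀, -, hT₀⟩ := exists_isSylowIn_ge (p := p) (K := ⊥) (H := N) bot_le IsPGroup.of_bot
  obtain ⟨k, hk, hconj⟩ := h.exists_conj_le (hT₀.le.trans hNK) hT₀.isPGroup
  have h1 := hT₀.conj k
  have hNeq : N.map (MulAut.conj k).toMonoidHom = N := by
    apply le_antisymm
    · rintro _ ⟨n, hn, rfl⟩
      exact hnorm k hk n hn
    · intro n hn
      refine ⟨k⁻¹ * n * k, ?_, ?_⟩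
      · have := hnorm k⁻¹ (K.inv_mem hk) n hn
        rwa [inv_inv] at this
      · simp [MulAut.conj_apply, mul_assoc]
  rw [hNeq] at h1
  have hle : T₀.map (MulAut.conj k).toMonoidHom ≤ T ⊓ N := by
    rintro _ ⟨x, hx, rfl⟩
    exact ⟨hconj x hx, hnorm k hk x (hT₀.le hx)⟩
  have h2 := h1.eq_of_le hle inf_le_right (h.isPGroup.to_le inf_le_left)
  rw [h2]
  exact h1

/-- A `p`-subgroup of `K` normalized by `K` lies in every relative Sylow subgroup of `K`. -/
theorem IsSylowIn.normal_le [Fact p.Prime] {T K N : Subgroup G} [Finite K] (h : IsSylowIn p T K)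
    (hNK : N ≤ K) (hnorm : ∀ k ∈ K, ∀ n ∈ N, k * n * k⁻¹ ∈ N) (hN : IsPGroup p N) : N ≤ T := by
  obtain ⟨k, hk, hconj⟩ := h.exists_conj_le hNK hN
  intro n hn
  have h1 : k⁻¹ * n * k ∈ N := by
    have := hnorm k⁻¹ (K.inv_mem hk) n hn
    rwa [inv_inv] at this
  have h2 := hconj _ h1
  have h3 : k * (k⁻¹ * n * k) * k⁻¹ = n := by group
  rwa [h3] at h2

end sylow

/-! ### The Sylow extension lemma -/

theorem extFun_pow_fix {R' : Subgroup Ω} (κ : MulAut R') (m : ℕ) {y : Ω} (hy : y ∈ R')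
    (h : extFun κ y = y) : extFun (κ ^ m) y = y := by
  induction m with
  | zero => rw [pow_zero]; exact extFun_one_apply hy
  | succ m ih => rw [pow_succ, extFun_mul _ _ hy, h, ih]

/-- If `R'` is receptive, `K ≤ Aut_F(R')` and `Aut_S(R') ∩ K` is a Sylow `p`-subgroup of `K`, then an isomorphism
`f : R → R'` of the system extends, after composing with an element of `K`, to `R N`, for every `N ≤ N_S(R)` whose
elements induce through `f` automorphisms of `R'` lying in `K`. -/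
theorem exists_extension_of_sylow [Finite S] {p : ℕ} [Fact p.Prime] (hS : IsPGroup p S)
    (F : FusionSystem S) {R R' : Subgroup Ω} (hrec : F.IsReceptive R') (K : Subgroup (MulAut R'))
    (hK : K ≤ F.autGroup R') (hsyl : IsSylowIn p (autInducedBy S R' ⊓ K) K)
    {f : Ω → Ω} (hf : IsMapOn F R f) (himg : IsImage R f R') (N : Subgroup Ω)
    (hN : N ≤ normalizerIn S R)
    (hNK : ∀ g ∈ N, ∃ κ ∈ K, ∀ x ∈ R, f (g * x * g⁻¹) = extFun κ (f x)) :
    ∃ κ ∈ K, ∃ f' : Ω → Ω, IsMapOn F (R ⊔ N) f' ∧ ∀ x ∈ R, f' x = extFun κ (f x) := by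
  classical
  have hR'S : R' ≤ S := hrec.1
  have hfinR' : Finite R' := Cfsg.Agent.Lib.Helper84_FusionRS.finite_of_le_S hR'S
  have hconjR : ∀ g ∈ N, ∀ x ∈ R, g * x * g⁻¹ ∈ R := fun g hg x hx =>
    conj_mem_of_mem_normalizerIn (hN hg) hx
  -- the subgroup of `K` induced by `N`
  let X : Subgroup (MulAut R') :=
    { carrier := {κ | κ ∈ K ∧ ∃ g ∈ N, ∀ x ∈ R, f (g * x * g⁻¹) = extFun κ (f x)}
      one_mem' := ⟨K.one_mem, 1, N.one_mem, fun x hx => by
        rw [extFun_one_apply (himg.mem hx)]; simp⟩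
      mul_mem' := by
        rintro κ₁ κ₂ ⟨h₁, g₁, hg₁, e₁⟩ ⟨h₂, g₂, hg₂, e₂⟩
        refine ⟨K.mul_mem h₁ h₂, g₁ * g₂, N.mul_mem hg₁ hg₂, fun x hx => ?_⟩
        have hx2 := hconjR g₂ hg₂ x hx
        rw [extFun_mul _ _ (himg.mem hx), ← e₂ x hx, ← e₁ _ hx2]
        congr 1
        group
      inv_mem' := by
        rintro κ ⟨h₁, g, hg, e⟩
        refine ⟨K.inv_mem h₁, g⁻¹, N.inv_mem hg, fun x hx => ?_⟩
        have hx2 := hconjR g⁻¹ (N.inv_mem hg) x hx
        have h2 := e _ hx2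
        have h3 : g * (g⁻¹ * x * g⁻¹⁻¹) * g⁻¹ = x := by group
        rw [h3] at h2
        rw [h2, extFun_inv_apply κ (himg.mem hx2)] }
  have hXK : X ≤ K := fun κ hκ => hκ.1
  have hXp : IsPGroup p X := by
    rintro ⟨κ, hκK, g, hg, e⟩
    have hgS : g ∈ S := (hN hg).1
    obtain ⟨k, hk⟩ := hS ⟨g, hgS⟩
    have hk' : g ^ p ^ k = 1 := by
      have := congrArg Subtype.val hk
      simpa using this
    refine ⟨k, ?_⟩
    apply Subtype.ext
    show κ ^ p ^ k = 1
    have hpow : ∀ m : ℕ, ∀ x ∈ R, f (g ^ m * x * (g ^ m)⁻¹) = extFun (κ ^ m) (f x) := by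
      intro m
      induction m with
      | zero =>
        intro x hx
        rw [pow_zero, pow_zero, extFun_one_apply (himg.mem hx)]
        simp
      | succ m ih =>
        intro x hx
        have hx2 : g ^ m * x * (g ^ m)⁻¹ ∈ R := by
          have hgm : g ^ m ∈ N := N.pow_mem hg m
          exact hconjR _ hgm x hx
        rw [pow_succ', pow_succ', extFun_mul _ _ (himg.mem hx), ← ih x hx, ← e _ hx2]
        congr 1
        group
    ext y
    obtain ⟨x, hx, hxy⟩ := (himg y.1).1 y.2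
    have h1 := hpow (p ^ k) x hx
    rw [hk'] at h1
    simp only [one_mul, inv_one, mul_one] at h1
    rw [hxy, extFun_coe] at h1
    exact h1.symm
  have hfinK : Finite K := inferInstance
  obtain ⟨κ₀, hκ₀K, hconj⟩ := hsyl.exists_conj_le hXK hXp
  have hκ₀map : IsMapOn F R' (extFun κ₀) := (mem_autGroup_iff F hR'S κ₀).1 (hK hκ₀K)
  have hψ : IsMapOn F R (extFun κ₀ ∘ f) := hf.comp hκ₀map (fun x hx => himg.mem hx)
  have hψimg : IsImage R (extFun κ₀ ∘ f) R' := by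
    intro y
    constructor
    · intro hy
      obtain ⟨x, hx, hxy⟩ := (himg _).1 (extFun_mem κ₀⁻¹ hy)
      refine ⟨x, hx, ?_⟩
      rw [Function.comp_apply, hxy, extFun_apply_inv κ₀ hy]
    · rintro ⟨x, hx, rfl⟩
      exact extFun_mem κ₀ (himg.mem hx)
  obtain ⟨ψ', hψ', hψ'ext⟩ := receptive_extend hrec hψ hψimg N (fun g hg => by
    refine ⟨hN hg, ?_⟩
    obtain ⟨κ, hκK, e⟩ := hNK g hg
    have hκX : κ ∈ X := ⟨hκK, g, hg, e⟩
    have h1 := (hconj κ hκX).1
    obtain ⟨h, hhS, hh⟩ := (mem_autInducedBy_iff S R' _).1 h1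
    refine ⟨h, hhS, fun x hx => ?_⟩
    have h2 := hh ⟨extFun κ₀ (f x), extFun_mem κ₀ (himg.mem hx)⟩
    simp only [Function.comp_apply]
    rw [← h2, e x hx]
    have h3 : extFun κ₀ (extFun κ (f x)) = extFun (κ₀ * κ * κ₀⁻¹) (extFun κ₀ (f x)) := by
      rw [extFun_mul _ _ (extFun_mem κ₀ (himg.mem hx)), extFun_inv_apply κ₀ (himg.mem hx),
        extFun_mul _ _ (himg.mem hx)]
    rw [h3, extFun_apply _ (extFun_mem κ₀ (himg.mem hx))])
  exact ⟨κ₀, hκ₀K, ψ', hψ', fun x hx => hψ'ext x hx⟩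

end Cfsg.Agent.Lib.Helper85_SatCrit2
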