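import Cfsg.Agent.Lib.Helper85_SatCrit2

/-!
# Saturation criterion, part 3 (helper85): the pair lemma

`lemmaK`: if `R₀` is conjugate in `F` to a fully automized receptive subgroup and `P₀ ≤ R₀`, then the pair
`(R₀, P₀)` has a representative `(R', P')` (conjugate to it as a pair) with `R'` fully automized and receptive,
`Aut_S(R') ∩ K'` a Sylow `p`-subgroup of `K' = Stab_{Aut_F(R')}(P')`, such that every isomorphism of pairs
`f : (R, P) → (R', P')` extends, after composing with an element of `K'`, to `R (N_S(R) ∩ N_S(P))`.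
-/

set_option autoImplicit false

namespace Cfsg.Agent.Lib.Helper85_SatCrit3

open Cfsg Cfsg.FusionSystem Cfsg.Agent.Lib.Helper87_Alperin Cfsg.Agent.Lib.Helper88_Centric
  Cfsg.Agent.Lib.Helper84_RelSylow Cfsg.Agent.Lib.Helper88_AutInv Cfsg.Agent.Lib.Helper85_SatCrit2

variable {Ω : Type*} [Group Ω] {S : Subgroup Ω}

/-- Injectivity of a map gives: `f x ∈ f(P) ↔ x ∈ P`. -/
theorem mem_iff_of_isImage {F : FusionSystem S} {R P P' : Subgroup Ω} {f : Ω → Ω} (hf : IsMapOn F R f)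
    (hPR : P ≤ R) (hP' : IsImage P f P') {x : Ω} (hx : x ∈ R) : f x ∈ P' ↔ x ∈ P := by
  constructor
  · intro h
    obtain ⟨z, hz, hzx⟩ := (hP' _).1 h
    have := hf.injOn (hPR hz) hx hzx
    exact this ▸ hz
  · intro h
    exact hP'.mem h

/-- Conjugating the stabilizer: if `P' = a(P†)` then `a Stab(P†) a⁻¹ = Stab(P')`. -/
theorem conj_mem_stab {R P P' : Subgroup Ω} {a : MulAut R} (hPR : P ≤ R)
    (hP' : IsImage P (extFun a) P') {t : MulAut R} (ht : t ∈ stab R P) :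
    a * t * a⁻¹ ∈ stab R P' := by
  have hP'R : P' ≤ R := by
    intro y hy
    obtain ⟨x, hx, rfl⟩ := (hP' y).1 hy
    exact extFun_mem a (hPR hx)
  -- `y ∈ P' ↔ a⁻¹ y ∈ P`
  have key : ∀ y : R, (y : Ω) ∈ P' ↔ ((a⁻¹ y : R) : Ω) ∈ P := by
    intro y
    constructor
    · intro hy
      obtain ⟨x, hx, hxy⟩ := (hP' _).1 hy
      have h1 : a ⟨x, hPR hx⟩ = y := by
        apply Subtype.ext
        rw [← extFun_apply a (hPR hx)]
        exact hxy
      rw [← h1, MulAut.inv_apply_self]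
      exact hx
    · intro hy
      have h1 := hP'.mem hy
      rw [extFun_coe, MulAut.apply_inv_self] at h1
      exact h1
  intro y
  rw [key y, key ((a * t * a⁻¹) y)]
  simp only [MulAut.mul_apply, MulAut.inv_apply_self]
  exact ht (a⁻¹ y)

theorem lemmaK [Finite S] {p : ℕ} [Fact p.Prime] (hS : IsPGroup p S) (F : FusionSystem S)
    {R₀ P₀ : Subgroup Ω} (hP₀ : P₀ ≤ R₀)
    (hR₀ : ∃ R', F.IsConj R₀ R' ∧ F.IsFullyAutomized p R' ∧ F.IsReceptive R') :
    ∃ (R' P' : Subgroup Ω) (f₀ : Ω → Ω), P' ≤ R' ∧ F.IsFullyAutomized p R' ∧ F.IsReceptive R' ∧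
      IsSylowIn p (autInducedBy S R' ⊓ (F.autGroup R' ⊓ stab R' P')) (F.autGroup R' ⊓ stab R' P') ∧
      IsMapOn F R₀ f₀ ∧ IsImage R₀ f₀ R' ∧ IsImage P₀ f₀ P' ∧
      ∀ (R P : Subgroup Ω) (f : Ω → Ω), IsMapOn F R f → IsImage R f R' → P ≤ R → IsImage P f P' →
        ∃ κ ∈ F.autGroup R' ⊓ stab R' P', ∃ f' : Ω → Ω,
          IsMapOn F (R ⊔ (normalizerIn S R ⊓ normalizerIn S P)) f' ∧ ∀ x ∈ R, f' x = extFun κ (f x) := by
  classical
  obtain ⟨R', hconj, hfa, hrec⟩ := hR₀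
  have hR'S : R' ≤ S := hrec.1
  have hfinR' : Finite R' := Cfsg.Agent.Lib.Helper84_FusionRS.finite_of_le_S hR'S
  obtain ⟨f₁, hf₁, hf₁img⟩ := exists_isMapOn_of_isConj hconj
  obtain ⟨P₁, hP₁, -⟩ := exists_isImage_of_le hf₁ hP₀
  have hP₁R' : P₁ ≤ R' := by
    intro y hy
    obtain ⟨x, hx, rfl⟩ := (hP₁ y).1 hy
    exact hf₁img.mem (hP₀ hx)
  have hsylA : IsSylowIn p (autInducedBy S R') (F.autGroup R') :=
    Cfsg.Agent.Lib.Helper84_FusionSat.isSylowIn_of_isFullyAutomized F hfa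
  -- a Sylow subgroup of `K₁ = Stab(P₁)` and an element `a` conjugating it into `Aut_S(R')`
  have hfinK₁ : Finite (F.autGroup R' ⊓ stab R' P₁ : Subgroup (MulAut R')) := inferInstance
  obtain ⟨T₁, -, hT₁⟩ := exists_isSylowIn_ge (p := p) (K := ⊥) (H := F.autGroup R' ⊓ stab R' P₁) bot_le
    IsPGroup.of_bot
  have hfinA : Finite (F.autGroup R') := inferInstance
  obtain ⟨a, haA, haconj⟩ := hsylA.exists_conj_le (hT₁.le.trans inf_le_left) hT₁.isPGroup
  have hamap : IsMapOn F R' (extFun a) := (mem_autGroup_iff F hR'S a).1 haA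
  obtain ⟨P', hP', -⟩ := exists_isImage_of_le hamap hP₁R'
  have hP'R' : P' ≤ R' := by
    intro y hy
    obtain ⟨x, hx, rfl⟩ := (hP' y).1 hy
    exact extFun_mem a (hP₁R' hx)
  -- `a K₁ a⁻¹ = K'`
  have hKmap : (F.autGroup R' ⊓ stab R' P₁).map (MulAut.conj a).toMonoidHom =
      F.autGroup R' ⊓ stab R' P' := by
    apply le_antisymm
    · rintro _ ⟨t, ht, rfl⟩
      refine ⟨?_, conj_mem_stab hP₁R' hP' ht.2⟩
      exact (F.autGroup R').mul_mem ((F.autGroup R').mul_mem haA ht.1) ((F.autGroup R').inv_mem haA)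
    · intro κ hκ
      have hP₁' : IsImage P' (extFun a⁻¹) P₁ := by
        intro y
        constructor
        · intro hy
          exact ⟨extFun a y, hP'.mem hy, extFun_inv_apply a (hP₁R' hy)⟩
        · rintro ⟨x, hx, rfl⟩
          obtain ⟨z, hz, rfl⟩ := (hP' x).1 hx
          rw [extFun_inv_apply a (hP₁R' hz)]
          exact hz
      have h1 := conj_mem_stab hP'R' hP₁' hκ.2
      rw [inv_inv] at h1
      refine ⟨a⁻¹ * κ * a, ⟨?_, h1⟩, ?_⟩
      · exact (F.autGroup R').mul_mem ((F.autGroup R').mul_mem ((F.autGroup R').inv_mem haA) hκ.1) haA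
      · simp [MulAut.conj_apply, mul_assoc]
  have hsyl' : IsSylowIn p (autInducedBy S R' ⊓ (F.autGroup R' ⊓ stab R' P'))
      (F.autGroup R' ⊓ stab R' P') := by
    have h1 := hT₁.conj a
    rw [hKmap] at h1
    have hle : T₁.map (MulAut.conj a).toMonoidHom ≤
        autInducedBy S R' ⊓ (F.autGroup R' ⊓ stab R' P') := by
      refine le_inf ?_ h1.le
      rintro _ ⟨t, ht, rfl⟩
      exact haconj t ht
    have h2 := h1.eq_of_le hle inf_le_right
      ((Cfsg.Agent.Lib.Helper84_FusionSat.isPGroup_autInducedBy hS R').to_le inf_le_left)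
    rw [h2]
    exact h1
  -- the base isomorphism
  have hf₀ : IsMapOn F R₀ (extFun a ∘ f₁) := hf₁.comp hamap (fun x hx => hf₁img.mem hx)
  have hf₀img : IsImage R₀ (extFun a ∘ f₁) R' := by
    intro y
    constructor
    · intro hy
      obtain ⟨x, hx, hxy⟩ := (hf₁img _).1 (extFun_mem a⁻¹ hy)
      refine ⟨x, hx, ?_⟩
      rw [Function.comp_apply, hxy, extFun_apply_inv a hy]
    · rintro ⟨x, hx, rfl⟩
      exact extFun_mem a (hf₁img.mem hx)
  have hf₀P : IsImage P₀ (extFun a ∘ f₁) P' := by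
    intro y
    constructor
    · intro hy
      obtain ⟨z, hz, rfl⟩ := (hP' y).1 hy
      obtain ⟨x, hx, rfl⟩ := (hP₁ z).1 hz
      exact ⟨x, hx, rfl⟩
    · rintro ⟨x, hx, rfl⟩
      exact hP'.mem (hP₁.mem hx)
  refine ⟨R', P', extFun a ∘ f₁, hP'R', hfa, hrec, hsyl', hf₀, hf₀img, hf₀P, ?_⟩
  intro R P f hf himg hPR hPimg
  have hNle : normalizerIn S R ⊓ normalizerIn S P ≤ normalizerIn S R := inf_le_left
  apply exists_extension_of_sylow hS F hrec (F.autGroup R' ⊓ stab R' P') inf_le_left hsyl' hf himg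
    (normalizerIn S R ⊓ normalizerIn S P) hNle
  intro g hg
  have hgR : ∀ x ∈ R, g * x * g⁻¹ ∈ R := fun x hx => conj_mem_of_mem_normalizerIn hg.1 hx
  have hgP : ∀ x, x ∈ P ↔ g * x * g⁻¹ ∈ P := fun x => hg.2.2 x
  obtain ⟨k, hk, hkf, hkR, hfk⟩ := hf.inv himg
  -- the automorphism `f c_g f⁻¹` of `R'`
  have hmap : IsMapOn F R' (fun y => f (g * k y * g⁻¹)) := by
    have h1 : IsMapOn F R' ((fun x => g * x * g⁻¹) ∘ k) :=
      hk.comp (IsMapOn.conj F hf.le hg.1.1) hkR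
    exact h1.comp hf (fun y hy => hgR _ (hkR y hy))
  obtain ⟨β, hβ, hβf⟩ := exists_aut_of_isMapOn hmap
    (fun y hy => himg.mem (hgR _ (hkR y hy)))
  refine ⟨β, ⟨hβ, ?_⟩, fun x hx => ?_⟩
  · intro y
    rw [hβf y]
    have hky : k y ∈ R := hkR y y.2
    rw [mem_iff_of_isImage hf hPR hPimg (hgR _ hky), ← hgP]
    have h2 := mem_iff_of_isImage hf hPR hPimg hky
    rw [hfk y y.2] at h2
    exact h2
  · rw [extFun_apply β (himg.mem hx), hβf, hkf x hx]

end Cfsg.Agent.Lib.Helper85_SatCrit3
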