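import Cfsg.Agent.Lib.Helper85_SatCrit3
import Cfsg.Agent.Lib.Helper88_Centric2

/-!
# Saturation criterion, part 4 (helper85): Claim A

Let all subgroups of `S` of order larger than `n` be conjugate to fully automized receptive subgroups, and let `P̂`
be a fully normalized subgroup of order `n`. If `P` is conjugate to `P̂`, `P < R ≤ N_S(P)`, and `g` is a map of the
system on `R`, then: if `N_S(g P)` maps into `N_S(P̂)` carrying `g P` to `P̂`, so does `N_S(P)` for `P`.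
-/

set_option autoImplicit false

namespace Cfsg.Agent.Lib.Helper85_SatCrit4

open Cfsg Cfsg.FusionSystem Cfsg.Agent.Lib.Helper87_Alperin Cfsg.Agent.Lib.Helper88_Centric
  Cfsg.Agent.Lib.Helper84_RelSylow Cfsg.Agent.Lib.Helper88_AutInv Cfsg.Agent.Lib.Helper85_SatCrit2
  Cfsg.Agent.Lib.Helper85_SatCrit3 Cfsg.Agent.Lib.Helper88_Centric2

variable {Ω : Type*} [Group Ω] {S : Subgroup Ω}

/-! ### Small facts about images -/

theorem IsImage.comp {P P' P'' : Subgroup Ω} {f g : Ω → Ω} (h₁ : IsImage P f P') (h₂ : IsImage P' g P'') :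
    IsImage P (g ∘ f) P'' := by
  intro y
  rw [h₂ y]
  constructor
  · rintro ⟨z, hz, rfl⟩
    obtain ⟨x, hx, rfl⟩ := (h₁ z).1 hz
    exact ⟨x, hx, rfl⟩
  · rintro ⟨x, hx, rfl⟩
    exact ⟨f x, h₁.mem hx, rfl⟩

theorem IsImage.congr {P P' : Subgroup Ω} {f g : Ω → Ω} (h : IsImage P f P') (hfg : ∀ x ∈ P, f x = g x) :
    IsImage P g P' := by
  intro y
  rw [h y]
  constructor
  · rintro ⟨x, hx, rfl⟩
    exact ⟨x, hx, (hfg x hx).symm⟩
  · rintro ⟨x, hx, rfl⟩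
    exact ⟨x, hx, hfg x hx⟩

theorem isImage_id (P : Subgroup Ω) : IsImage P (fun x => x) P := by
  intro y
  exact ⟨fun hy => ⟨y, hy, rfl⟩, fun ⟨x, hx, hxy⟩ => hxy ▸ hx⟩

/-- The inverse map carries the image back. -/
theorem isImage_inv_of {P P' R : Subgroup Ω} {f k : Ω → Ω} (hPR : P ≤ R) (hP' : IsImage P f P')
    (hkf : ∀ x ∈ R, k (f x) = x) : IsImage P' k P := by
  intro x
  constructor
  · intro hx
    exact ⟨f x, hP'.mem hx, hkf x (hPR hx)⟩
  · rintro ⟨y, hy, rfl⟩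
    obtain ⟨x, hx, rfl⟩ := (hP' y).1 hy
    rw [hkf x (hPR hx)]
    exact hx

theorem IsImage.lt {F : FusionSystem S} {P R P' R' : Subgroup Ω} {g : Ω → Ω} (hg : IsMapOn F R g)
    (hPR : P < R) (hP' : IsImage P g P') (hR' : IsImage R g R') : P' < R' := by
  obtain ⟨r, hrR, hrP⟩ := SetLike.exists_of_lt hPR
  refine lt_of_le_of_ne ?_ ?_
  · intro z hz
    obtain ⟨x, hx, rfl⟩ := (hP' z).1 hz
    exact hR'.mem (hPR.le hx)
  · intro heq
    have h1 : g r ∈ P' := heq ▸ hR'.mem hrR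
    obtain ⟨x, hx, hxr⟩ := (hP' _).1 h1
    have := hg.injOn (hPR.le hx) hrR hxr
    exact hrP (this ▸ hx)

/-- A map defined on `R ≤ N_S(P)` (with `P ≤ R`) carries `R` into the normalizer of the image of `P`. -/
theorem IsImage.le_normalizerIn {F : FusionSystem S} {P R P' R' : Subgroup Ω} {g : Ω → Ω}
    (hg : IsMapOn F R g) (hPR : P ≤ R) (hRN : R ≤ normalizerIn S P) (hP' : IsImage P g P')
    (hR' : IsImage R g R') : R' ≤ normalizerIn S P' := by
  intro y hy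
  obtain ⟨x, hx, rfl⟩ := (hR' y).1 hy
  exact ⟨hg.mem hx, map_mem_normalizer hg hPR hP' hx (hRN hx).2⟩

theorem isPGroup_of_le {p : ℕ} (hS : IsPGroup p S) {R : Subgroup Ω} (hR : R ≤ S) : IsPGroup p R :=
  hS.to_le hR

/-- Normalizers grow inside `N_S(P)`. -/
theorem lt_inf_normalizerIn [Finite S] {p : ℕ} [Fact p.Prime] (hS : IsPGroup p S) {P R : Subgroup Ω}
    (hRN : R ≤ normalizerIn S P) (hne : R ≠ normalizerIn S P) :
    R < normalizerIn S R ⊓ normalizerIn S P := by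
  have hNS : normalizerIn S P ≤ S := normalizerIn_le S P
  have hfin : Finite (normalizerIn S P) := Cfsg.Agent.Lib.Helper84_FusionRS.finite_of_le_S hNS
  have hp : IsPGroup p (normalizerIn S P) := hS.to_le hNS
  have h1 := lt_normalizerIn (S := normalizerIn S P) hp hRN hne
  refine lt_of_lt_of_le h1 ?_
  intro x hx
  exact ⟨⟨hNS hx.1, hx.2⟩, hx.1⟩

/-! ### The property `Π` -/

/-- `Pi F Ph P`: some map of the system defined on `N_S(P)` carries `P` onto `Ph`. -/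
def Pi (F : FusionSystem S) (Ph P : Subgroup Ω) : Prop :=
  ∃ φ : Ω → Ω, IsMapOn F (normalizerIn S P) φ ∧ IsImage P φ Ph

theorem pi_self (F : FusionSystem S) {Ph : Subgroup Ω} (hPh : Ph ≤ S) : Pi F Ph Ph :=
  ⟨fun x => x, IsMapOn.id F (normalizerIn_le S Ph), isImage_id Ph⟩

theorem pi_comp {F : FusionSystem S} {Ph P P' : Subgroup Ω} {g : Ω → Ω} (hP : P ≤ S)
    (hg : IsMapOn F (normalizerIn S P) g) (himg : IsImage P g P') (h : Pi F Ph P') : Pi F Ph P := by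
  obtain ⟨φ, hφ, hφimg⟩ := h
  refine ⟨φ ∘ g, hg.comp hφ (fun x hx => ?_), IsImage.comp himg hφimg⟩
  exact ⟨hg.mem hx, map_mem_normalizer hg (le_normalizerIn hP) himg hx hx.2⟩

/-- The hypothesis on large subgroups. -/
def Big (p : ℕ) (F : FusionSystem S) (n : ℕ) : Prop :=
  ∀ R : Subgroup Ω, R ≤ S → n < Nat.card R →
    ∃ R', F.IsConj R R' ∧ F.IsFullyAutomized p R' ∧ F.IsReceptive R'

/-- **Claim A, step form.** -/
theorem pi_step [Finite S] {p : ℕ} [Fact p.Prime] (hS : IsPGroup p S) (F : FusionSystem S) {n : ℕ}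
    (hbig : Big p F n) {Ph : Subgroup Ω} (hPhn : Nat.card Ph = n) (hPhfn : F.IsFullyNormalized Ph) :
    ∀ (d : ℕ) (P R P' : Subgroup Ω) (g : Ω → Ω), Nat.card S - Nat.card R = d → F.IsConj P Ph → P < R →
      R ≤ normalizerIn S P → IsMapOn F R g → IsImage P g P' → Pi F Ph P' → Pi F Ph P := by
  intro d
  induction d using Nat.strong_induction_on with
  | _ d ih =>
  intro P R P' g hd hPconj hPR hRN hg hP' hpi
  have hPhS : Ph ≤ S := hPhfn.1
  have hRS : R ≤ S := hRN.trans (normalizerIn_le S P)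
  have hfinR : ∀ {X : Subgroup Ω}, X ≤ S → Finite X := fun h =>
    Cfsg.Agent.Lib.Helper84_FusionRS.finite_of_le_S h
  have hcardS : ∀ {X : Subgroup Ω}, X ≤ S → Nat.card X ≤ Nat.card S := fun h =>
    Subgroup.card_le_of_le h
  -- the symmetric form of the induction hypothesis
  have IH : ∀ (P₂ R₂ P₂' : Subgroup Ω) (g₂ : Ω → Ω), Nat.card R < Nat.card R₂ → F.IsConj P₂ Ph →
      P₂ < R₂ → R₂ ≤ normalizerIn S P₂ → IsMapOn F R₂ g₂ → IsImage P₂ g₂ P₂' →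
      (Pi F Ph P₂' ↔ Pi F Ph P₂) := by
    intro P₂ R₂ P₂' g₂ hcard hconj₂ hPR₂ hRN₂ hg₂ hP₂'
    have hR₂S : R₂ ≤ S := hRN₂.trans (normalizerIn_le S P₂)
    have hlt : Nat.card S - Nat.card R₂ < d := by
      have := hcardS hR₂S
      omega
    constructor
    · exact ih _ hlt P₂ R₂ P₂' g₂ rfl hconj₂ hPR₂ hRN₂ hg₂ hP₂'
    · -- the inverse step
      obtain ⟨R₂', hR₂', -⟩ := exists_isImage hg₂
      obtain ⟨k, hk, hkg, hkR, hgk⟩ := hg₂.inv hR₂'
      have hconj₂' : F.IsConj P₂' Ph :=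
        Cfsg.Agent.Lib.Helper84_Fusion.isConj_trans F
          (Cfsg.Agent.Lib.Helper84_Fusion.isConj_symm F (isConj_of_isImage (hg₂.mono hPR₂.le) hP₂'))
          hconj₂
      have hcard' : Nat.card R₂' = Nat.card R₂ := (card_eq_of_isImage hg₂ hR₂').symm
      have hlt' : Nat.card S - Nat.card R₂' < d := by rw [hcard']; exact hlt
      exact ih _ hlt' P₂' R₂' P₂ k rfl hconj₂' (IsImage.lt hg₂ hPR₂ hP₂' hR₂')
        (IsImage.le_normalizerIn hg₂ hPR₂.le hRN₂ hP₂' hR₂') hk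
        (isImage_inv_of hPR₂.le hP₂' hkg)
  -- the representative pair
  have hPn : Nat.card P = n := (Cfsg.Agent.Lib.Helper85_Fusion.isConj_card_eq F hPconj).trans hPhn
  have hRbig : n < Nat.card R := by
    have : Finite R := hfinR hRS
    rw [← hPn]
    exact card_lt_of_lt hPR
  obtain ⟨Rs, Ps, f₀, hPsRs, -, -, -, hf₀, hf₀R, hf₀P, hext⟩ :=
    lemmaK hS F hPR.le (hbig R hRS hRbig)
  have hPsconj : F.IsConj Ps Ph :=
    Cfsg.Agent.Lib.Helper84_Fusion.isConj_trans F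
      (Cfsg.Agent.Lib.Helper84_Fusion.isConj_symm F (isConj_of_isImage (hf₀.mono hPR.le) hf₀P)) hPconj
  have hRsN : Rs ≤ normalizerIn S Ps := IsImage.le_normalizerIn hf₀ hPR.le hRN hf₀P hf₀R
  have hcardRs : Nat.card Rs = Nat.card R := (card_eq_of_isImage hf₀ hf₀R).symm
  -- A2a: pairs with `R₂ ≠ N_S(P₂)`
  have A2a : ∀ (R₂ P₂ : Subgroup Ω) (f₂ : Ω → Ω), F.IsConj P₂ Ph → P₂ < R₂ → R₂ ≤ normalizerIn S P₂ →
      R₂ ≠ normalizerIn S P₂ → Nat.card R₂ = Nat.card R → IsMapOn F R₂ f₂ → IsImage R₂ f₂ Rs →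
      IsImage P₂ f₂ Ps → (Pi F Ph Ps ↔ Pi F Ph P₂) := by
    intro R₂ P₂ f₂ hconj₂ hPR₂ hRN₂ hne₂ hcard₂ hf₂ hf₂R hf₂P
    obtain ⟨κ, hκ, f', hf', hf'ext⟩ := hext R₂ P₂ f₂ hf₂ hf₂R hPR₂.le hf₂P
    have hlt₃ := lt_inf_normalizerIn hS hRN₂ hne₂
    have hf'' : IsMapOn F (normalizerIn S R₂ ⊓ normalizerIn S P₂) f' := hf'.mono le_sup_right
    have hR₃S : normalizerIn S R₂ ⊓ normalizerIn S P₂ ≤ S := inf_le_left.trans (normalizerIn_le S R₂)
    have hf'P : IsImage P₂ f' Ps := by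
      intro y
      constructor
      · intro hy
        have hyRs : y ∈ Rs := hPsRs hy
        have h1 : extFun κ⁻¹ y ∈ Ps :=
          (extFun_mem_iff_of_mem_stab ((stab Rs Ps).inv_mem hκ.2) hyRs).2 hy
        obtain ⟨x, hx, hxy⟩ := (hf₂P _).1 h1
        refine ⟨x, hx, ?_⟩
        rw [hf'ext x (hPR₂.le hx), hxy, extFun_apply_inv κ hyRs]
      · rintro ⟨x, hx, rfl⟩
        rw [hf'ext x (hPR₂.le hx)]
        exact (extFun_mem_iff_of_mem_stab hκ.2 (hf₂R.mem (hPR₂.le hx))).2 (hf₂P.mem hx)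
    have hcard₃ : Nat.card R < Nat.card (normalizerIn S R₂ ⊓ normalizerIn S P₂ : Subgroup Ω) := by
      have : Finite (normalizerIn S R₂ ⊓ normalizerIn S P₂ : Subgroup Ω) := hfinR hR₃S
      rw [← hcard₂]
      exact card_lt_of_lt hlt₃
    exact IH P₂ _ Ps f' hcard₃ hconj₂ (lt_of_lt_of_le hPR₂ hlt₃.le) inf_le_right hf'' hf'P
  -- A2: all pairs
  have A2 : ∀ (R₂ P₂ : Subgroup Ω) (f₂ : Ω → Ω), F.IsConj P₂ Ph → P₂ < R₂ → R₂ ≤ normalizerIn S P₂ →
      Nat.card R₂ = Nat.card R → IsMapOn F R₂ f₂ → IsImage R₂ f₂ Rs →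
      IsImage P₂ f₂ Ps → (Pi F Ph Ps ↔ Pi F Ph P₂) := by
    intro R₂ P₂ f₂ hconj₂ hPR₂ hRN₂ hcard₂ hf₂ hf₂R hf₂P
    by_cases hne₂ : R₂ = normalizerIn S P₂
    · have hP₂S : P₂ ≤ S := hPR₂.le.trans (hRN₂.trans (normalizerIn_le S P₂))
      constructor
      · intro h
        exact pi_comp hP₂S (hne₂ ▸ hf₂) hf₂P h
      · rintro ⟨φ, hφ, hφimg⟩
        obtain ⟨k₂, hk₂, hk₂f, hk₂R, hfk₂⟩ := hf₂.inv hf₂R
        by_cases hRs : Rs = normalizerIn S Ps
        · have hPsS : Ps ≤ S := hPsRs.trans (hRsN.trans (normalizerIn_le S Ps))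
          have hk₂' : IsMapOn F (normalizerIn S Ps) k₂ := hRs ▸ hk₂
          exact pi_comp hPsS hk₂' (isImage_inv_of hPR₂.le hf₂P hk₂f) ⟨φ, hφ, hφimg⟩
        · -- the pair `(φ R₂, Ph)`
          have hφ' : IsMapOn F R₂ φ := hne₂ ▸ hφ
          obtain ⟨R₄, hR₄, -⟩ := exists_isImage hφ'
          obtain ⟨k₄, hk₄, hk₄φ, hk₄R, hφk₄⟩ := hφ'.inv hR₄
          have hR₄N : R₄ ≤ normalizerIn S Ph := IsImage.le_normalizerIn hφ' hPR₂.le hRN₂ hφimg hR₄
          have hcard₄ : Nat.card R₄ = Nat.card R := (card_eq_of_isImage hφ' hR₄).symm.trans hcard₂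
          have hne₄ : R₄ ≠ normalizerIn S Ph := by
            intro heq
            have hPsS : Ps ≤ S := hPsRs.trans (hRsN.trans (normalizerIn_le S Ps))
            have h1 : Nat.card (normalizerIn S Ps) ≤ Nat.card (normalizerIn S Ph) :=
              hPhfn.2 Ps (Cfsg.Agent.Lib.Helper84_Fusion.isConj_symm F hPsconj)
            have hfinN : Finite (normalizerIn S Ps) := hfinR (normalizerIn_le S Ps)
            have h2 : Nat.card Rs < Nat.card (normalizerIn S Ps) :=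
              card_lt_of_lt (lt_of_le_of_ne hRsN hRs)
            rw [← heq, hcard₄, ← hcardRs] at h1
            omega
          have hf₄ : IsMapOn F R₄ (f₂ ∘ k₄) := hk₄.comp hf₂ hk₄R
          have hf₄R : IsImage R₄ (f₂ ∘ k₄) Rs :=
            IsImage.comp (isImage_inv_of le_rfl hR₄ hk₄φ) hf₂R
          have hf₄P : IsImage Ph (f₂ ∘ k₄) Ps :=
            IsImage.comp (isImage_inv_of hPR₂.le hφimg hk₄φ) hf₂P
          have h5 := A2a R₄ Ph (f₂ ∘ k₄)
            (Cfsg.Agent.Lib.Helper84_Fusion.isConj_refl F hPhS)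
            (IsImage.lt hφ' hPR₂ hφimg hR₄) hR₄N hne₄ hcard₄ hf₄ hf₄R hf₄P
          exact h5.2 (pi_self F hPhS)
    · exact A2a R₂ P₂ f₂ hconj₂ hPR₂ hRN₂ hne₂ hcard₂ hf₂ hf₂R hf₂P
  -- conclusion
  have h1 : Pi F Ph Ps ↔ Pi F Ph P := A2 R P f₀ hPconj hPR hRN rfl hf₀ hf₀R hf₀P
  obtain ⟨R', hR', -⟩ := exists_isImage hg
  obtain ⟨k, hk, hkg, hkR, hgk⟩ := hg.inv hR'
  have hP'conj : F.IsConj P' Ph :=
    Cfsg.Agent.Lib.Helper84_Fusion.isConj_trans F
      (Cfsg.Agent.Lib.Helper84_Fusion.isConj_symm F (isConj_of_isImage (hg.mono hPR.le) hP')) hPconj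
  have h2 : Pi F Ph Ps ↔ Pi F Ph P' :=
    A2 R' P' (f₀ ∘ k) hP'conj (IsImage.lt hg hPR hP' hR')
      (IsImage.le_normalizerIn hg hPR.le hRN hP' hR') (card_eq_of_isImage hg hR').symm
      (hk.comp hf₀ hkR) (IsImage.comp (isImage_inv_of le_rfl hR' hkg) hf₀R)
      (IsImage.comp (isImage_inv_of hPR.le hP' hkg) hf₀P)
  exact h1.1 (h2.2 hpi)

end Cfsg.Agent.Lib.Helper85_SatCrit4
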