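import Cfsg.Agent.Lib.Helper85_SatCrit4

/-!
# Saturation criterion, part 5 (helper85): Claim A (final form), the subgroup `N_S^Y(P)` and extendable maps

* `pi_all`: every member of the class of `P̂` (fully normalized, of the maximal order outside `ℋ`) has a map
  `N_S(P) → N_S(P̂)` carrying `P` to `P̂`.
* `NY S P Y`: the elements of `S` whose conjugation action on `P` lies in `Y ≤ Aut(P)`.
* `YHyp`, `Ext`: hypotheses on `Y` and the predicate "the automorphism extends to `N_S^Y(P̂)`".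
* group theoretic tools: `exists_normalizing_outside`, `frattini_decomp`, `pow_card_eq_one_of_fix`.
-/

set_option autoImplicit false

namespace Cfsg.Agent.Lib.Helper85_SatCrit5

open Cfsg Cfsg.FusionSystem Cfsg.Agent.Lib.Helper87_Alperin Cfsg.Agent.Lib.Helper88_Centric
  Cfsg.Agent.Lib.Helper84_RelSylow Cfsg.Agent.Lib.Helper88_AutInv Cfsg.Agent.Lib.Helper85_SatCrit1
  Cfsg.Agent.Lib.Helper85_SatCrit2 Cfsg.Agent.Lib.Helper85_SatCrit3 Cfsg.Agent.Lib.Helper85_SatCrit4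
  Cfsg.Agent.Lib.Helper88_Centric2

variable {Ω : Type*} [Group Ω] {S : Subgroup Ω}

/-! ### Claim A -/

theorem pi_of_chain [Finite S] {p : ℕ} [Fact p.Prime] (hS : IsPGroup p S) (F : FusionSystem S) {n : ℕ}
    (hbig : Big p F n) {Ph : Subgroup Ω} (hPhn : Nat.card Ph = n) (hPhfn : F.IsFullyNormalized Ph)
    {P : Subgroup Ω} {f : Ω → Ω} (hc : Chain F P f) (himg : IsImage P f Ph) : Pi F Ph P := by
  induction hc with
  | refl hP hf =>
    have h := Chain.isImage_id hf himg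
    subst h
    exact pi_self F hP
  | @step P₀ R P₁ g₁ f₁ h₁ hPR hg himg₁ hc₁ hh ih =>
    have himg' : IsImage P₁ f₁ Ph := by
      intro y
      rw [himg y]
      constructor
      · rintro ⟨x, hx, rfl⟩
        exact ⟨g₁ x, himg₁.mem hx, (hh x hx).symm⟩
      · rintro ⟨z, hz, rfl⟩
        obtain ⟨x, hx, rfl⟩ := (himg₁ z).1 hz
        exact ⟨x, hx, hh x hx⟩
    have hpi₁ := ih himg'
    have hRS : R ≤ S := hg.le
    have hfinR : Finite R := Cfsg.Agent.Lib.Helper84_FusionRS.finite_of_le_S hRS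
    have hlt : P₀ < normalizerIn R P₀ := lt_normalizerIn (S := R) (hS.to_le hRS) hPR.le hPR.ne
    have hle : normalizerIn R P₀ ≤ normalizerIn S P₀ := fun x hx => ⟨hRS hx.1, hx.2⟩
    have hleR : normalizerIn R P₀ ≤ R := inf_le_left
    have hmap : IsMapOn F P₀ h₁ :=
      (Chain.step hPR hg himg₁ hc₁ hh).isMapOn
    have hconj : F.IsConj P₀ Ph := isConj_of_isImage hmap himg
    exact pi_step hS F hbig hPhn hPhfn _ P₀ (normalizerIn R P₀) P₁ g₁ rfl hconj hlt hle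
      (hg.mono hleR) himg₁ hpi₁

/-- **Claim A.** -/
theorem pi_all [Finite S] {p : ℕ} [Fact p.Prime] (hS : IsPGroup p S) (F : FusionSystem S) {n : ℕ}
    (hbig : Big p F n) {Ph : Subgroup Ω} (hPhn : Nat.card Ph = n) (hPhfn : F.IsFullyNormalized Ph)
    (hchain : ∀ (P : Subgroup Ω) (f : Ω → Ω), F.IsConj P Ph → IsMapOn F P f → Chain F P f)
    {P : Subgroup Ω} (hP : F.IsConj P Ph) : Pi F Ph P := by
  obtain ⟨f, hf, himg⟩ := exists_isMapOn_of_isConj hP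
  exact pi_of_chain hS F hbig hPhn hPhfn (hchain P f hP hf) himg

/-! ### The subgroup `N_S^Y(P)` -/

/-- `N_S^Y(P)`: the elements of `S` whose conjugation action on `P` lies in `Y`. -/
def NY (S P : Subgroup Ω) (Y : Subgroup (MulAut P)) : Subgroup Ω where
  carrier := {x | x ∈ S ∧ ∃ y ∈ Y, ∀ z : P, ((y z : P) : Ω) = x * z * x⁻¹}
  one_mem' := ⟨S.one_mem, 1, Y.one_mem, fun z => by simp⟩
  mul_mem' := by
    rintro a b ⟨haS, ya, hya, ha⟩ ⟨hbS, yb, hyb, hb⟩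
    refine ⟨S.mul_mem haS hbS, ya * yb, Y.mul_mem hya hyb, fun z => ?_⟩
    rw [MulAut.mul_apply, ha, hb]
    group
  inv_mem' := by
    rintro a ⟨haS, ya, hya, ha⟩
    refine ⟨S.inv_mem haS, ya⁻¹, Y.inv_mem hya, fun z => ?_⟩
    have h1 := ha (ya⁻¹ z)
    rw [MulAut.apply_inv_self] at h1
    rw [h1]
    group

theorem mem_NY {P : Subgroup Ω} {Y : Subgroup (MulAut P)} {x : Ω} :
    x ∈ NY S P Y ↔ x ∈ S ∧ ∃ y ∈ Y, ∀ z : P, ((y z : P) : Ω) = x * z * x⁻¹ := Iff.rfl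

theorem NY_le_normalizerIn (P : Subgroup Ω) (Y : Subgroup (MulAut P)) :
    NY S P Y ≤ normalizerIn S P := by
  rintro x ⟨hxS, y, -, hy⟩
  exact ⟨hxS, Cfsg.Agent.Lib.Helper84_FusionRS.mem_normalizer_of_aut y x hy⟩

theorem le_NY {P : Subgroup Ω} {Y : Subgroup (MulAut P)} (hPS : P ≤ S) (hinn : Inn P ≤ Y) :
    P ≤ NY S P Y := by
  intro x hx
  exact ⟨hPS hx, MulAut.conj ⟨x, hx⟩, hinn ⟨⟨x, hx⟩, rfl⟩, fun z => rfl⟩

/-- Hypotheses on the normal `p`-subgroup `Y` of `Aut_F(P̂)`. -/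
structure YHyp (p : ℕ) (F : FusionSystem S) (Ph : Subgroup Ω) (Y : Subgroup (MulAut Ph)) : Prop where
  le : Y ≤ F.autGroup Ph
  normal : ∀ γ ∈ F.autGroup Ph, ∀ y ∈ Y, γ * y * γ⁻¹ ∈ Y
  pgroup : IsPGroup p Y
  inn : Inn Ph ≤ Y
  alt : Y = Inn Ph ∨ F.IsCentric Ph

/-- A map of the system fixing `P̂` carries `N_S^Y(P̂)` into itself. -/
theorem map_mem_NY [Finite S] {F : FusionSystem S} {Ph D : Subgroup Ω} {Y : Subgroup (MulAut Ph)}
    (hYn : ∀ γ ∈ F.autGroup Ph, ∀ y ∈ Y, γ * y * γ⁻¹ ∈ Y) {a : Ω → Ω} (ha : IsMapOn F D a)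
    (hPD : Ph ≤ D) (haP : IsImage Ph a Ph) {x : Ω} (hxD : x ∈ D) (hx : x ∈ NY S Ph Y) :
    a x ∈ NY S Ph Y := by
  obtain ⟨-, y, hy, hyx⟩ := hx
  obtain ⟨β, hβ, hβa⟩ := exists_aut_of_isMapOn (ha.mono hPD) (fun z hz => haP.mem hz)
  refine ⟨ha.mem hxD, β * y * β⁻¹, hYn β hβ y hy, fun z => ?_⟩
  simp only [MulAut.mul_apply]
  set w := β⁻¹ z with hw
  have hwD : (w : Ω) ∈ D := hPD w.2
  rw [hβa, hyx w, ha.map_mul (D.mul_mem hxD hwD) (D.inv_mem hxD), ha.map_mul hxD hwD, ha.map_inv hxD,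
    ← hβa w, hw, MulAut.apply_inv_self]

/-- The automorphism (given as a function on `P̂`) extends to a map of the system on `N_S^Y(P̂)`. -/
def Ext (F : FusionSystem S) (Ph : Subgroup Ω) (Y : Subgroup (MulAut Ph)) (γ : Ω → Ω) : Prop :=
  ∃ γ' : Ω → Ω, IsMapOn F (NY S Ph Y) γ' ∧ ∀ x ∈ Ph, γ' x = γ x

theorem Ext.congr {F : FusionSystem S} {Ph : Subgroup Ω} {Y : Subgroup (MulAut Ph)} {γ γ₂ : Ω → Ω}
    (h : Ext F Ph Y γ) (hγ : ∀ x ∈ Ph, γ x = γ₂ x) : Ext F Ph Y γ₂ := by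
  obtain ⟨γ', hγ', hext⟩ := h
  exact ⟨γ', hγ', fun x hx => (hext x hx).trans (hγ x hx)⟩

/-- An extension carries `N_S^Y(P̂)` onto itself. -/
theorem ext_image [Finite S] {p : ℕ} {F : FusionSystem S} {Ph : Subgroup Ω} {Y : Subgroup (MulAut Ph)}
    (hY : YHyp p F Ph Y) (hPh : Ph ≤ S) {γ' : Ω → Ω} (hγ' : IsMapOn F (NY S Ph Y) γ')
    (hP : IsImage Ph γ' Ph) : IsImage (NY S Ph Y) γ' (NY S Ph Y) := by
  have hPQ : Ph ≤ NY S Ph Y := le_NY hPh hY.inn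
  have hsub : ∀ x ∈ NY S Ph Y, γ' x ∈ NY S Ph Y := fun x hx =>
    map_mem_NY hY.normal hγ' hPQ hP hx hx
  have hQS : NY S Ph Y ≤ S := (NY_le_normalizerIn Ph Y).trans (normalizerIn_le S Ph)
  have hfin : Finite (NY S Ph Y) := Cfsg.Agent.Lib.Helper84_FusionRS.finite_of_le_S hQS
  let g : NY S Ph Y → NY S Ph Y := fun x => ⟨γ' x, hsub x x.2⟩
  have hinj : Function.Injective g := by
    intro x y hxy
    have h1 : γ' x = γ' y := congrArg Subtype.val hxy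
    exact Subtype.ext (hγ'.injOn x.2 y.2 h1)
  have hsurj := Finite.injective_iff_surjective.1 hinj
  intro y
  constructor
  · intro hy
    obtain ⟨x, hx⟩ := hsurj ⟨y, hy⟩
    exact ⟨x, x.2, congrArg Subtype.val hx⟩
  · rintro ⟨x, hx, rfl⟩
    exact hsub x hx

theorem Ext.comp [Finite S] {p : ℕ} {F : FusionSystem S} {Ph : Subgroup Ω} {Y : Subgroup (MulAut Ph)}
    (hY : YHyp p F Ph Y) (hPh : Ph ≤ S) {γ₁ γ₂ : Ω → Ω} (h₁ : Ext F Ph Y γ₁) (h₂ : Ext F Ph Y γ₂)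
    (hγ₁ : ∀ x ∈ Ph, γ₁ x ∈ Ph) : Ext F Ph Y (γ₂ ∘ γ₁) := by
  obtain ⟨a, ha, hea⟩ := h₁
  obtain ⟨b, hb, heb⟩ := h₂
  have hPQ : Ph ≤ NY S Ph Y := le_NY hPh hY.inn
  have haP : IsImage Ph a Ph := by
    have hsub : ∀ x ∈ Ph, a x ∈ Ph := fun x hx => by rw [hea x hx]; exact hγ₁ x hx
    have hfin : Finite Ph := Cfsg.Agent.Lib.Helper84_FusionRS.finite_of_le_S hPh
    let g : Ph → Ph := fun x => ⟨a x, hsub x x.2⟩
    have hinj : Function.Injective g := by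
      intro x y hxy
      have h1 : a x = a y := congrArg Subtype.val hxy
      exact Subtype.ext (ha.injOn (hPQ x.2) (hPQ y.2) h1)
    have hsurj := Finite.injective_iff_surjective.1 hinj
    intro y
    constructor
    · intro hy
      obtain ⟨x, hx⟩ := hsurj ⟨y, hy⟩
      exact ⟨x, x.2, congrArg Subtype.val hx⟩
    · rintro ⟨x, hx, rfl⟩
      exact hsub x hx
  have himg := ext_image hY hPh ha haP
  refine ⟨b ∘ a, ha.comp hb (fun x hx => himg.mem hx), fun x hx => ?_⟩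
  simp only [Function.comp_apply]
  rw [hea x hx, heb _ (hγ₁ x hx)]

/-- Cancellation: if `b` and `b ∘ γ` extend then so does `γ`. -/
theorem Ext.cancel_left [Finite S] {p : ℕ} {F : FusionSystem S} {Ph : Subgroup Ω}
    {Y : Subgroup (MulAut Ph)} (hY : YHyp p F Ph Y) (hPh : Ph ≤ S) {b γ : Ω → Ω}
    (hb : Ext F Ph Y b) (hbγ : Ext F Ph Y (b ∘ γ)) (hbP : ∀ x ∈ Ph, b x ∈ Ph)
    (hγP : ∀ x ∈ Ph, γ x ∈ Ph) : Ext F Ph Y γ := by
  obtain ⟨b', hb', heb⟩ := hb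
  obtain ⟨c', hc', hec⟩ := hbγ
  have hPQ : Ph ≤ NY S Ph Y := le_NY hPh hY.inn
  have hfin : Finite Ph := Cfsg.Agent.Lib.Helper84_FusionRS.finite_of_le_S hPh
  have himg_of : ∀ {a : Ω → Ω}, IsMapOn F (NY S Ph Y) a → (∀ x ∈ Ph, a x ∈ Ph) → IsImage Ph a Ph := by
    intro a ha hsub
    let g : Ph → Ph := fun x => ⟨a x, hsub x x.2⟩
    have hinj : Function.Injective g := by
      intro x y hxy
      have h1 : a x = a y := congrArg Subtype.val hxy
      exact Subtype.ext (ha.injOn (hPQ x.2) (hPQ y.2) h1)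
    have hsurj := Finite.injective_iff_surjective.1 hinj
    intro y
    constructor
    · intro hy
      obtain ⟨x, hx⟩ := hsurj ⟨y, hy⟩
      exact ⟨x, x.2, congrArg Subtype.val hx⟩
    · rintro ⟨x, hx, rfl⟩
      exact hsub x hx
  have hb'P : IsImage Ph b' Ph := himg_of hb' (fun x hx => by rw [heb x hx]; exact hbP x hx)
  have hc'P : IsImage Ph c' Ph := himg_of hc' (fun x hx => by
    rw [hec x hx, Function.comp_apply]; exact hbP _ (hγP x hx))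
  have hb'Q := ext_image hY hPh hb' hb'P
  have hc'Q := ext_image hY hPh hc' hc'P
  obtain ⟨k, hk, hkb, -, -⟩ := hb'.inv hb'Q
  refine ⟨k ∘ c', hc'.comp hk (fun x hx => hc'Q.mem hx), fun x hx => ?_⟩
  simp only [Function.comp_apply]
  rw [hec x hx, Function.comp_apply, ← heb _ (hγP x hx), hkb _ (hPQ (hγP x hx))]

/-- Conjugation by an element of `S` normalizing `P̂` extends. -/
theorem ext_conj {F : FusionSystem S} {Ph : Subgroup Ω} {Y : Subgroup (MulAut Ph)} {s : Ω} (hs : s ∈ S) :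
    Ext F Ph Y (fun x => s * x * s⁻¹) :=
  ⟨fun x => s * x * s⁻¹,
    IsMapOn.conj F ((NY_le_normalizerIn Ph Y).trans (normalizerIn_le S Ph)) hs, fun _ _ => rfl⟩

/-! ### Group theoretic tools -/

theorem exists_mul_of_mem_sup_normal {A B : Subgroup Ω} (hnorm : ∀ a ∈ A, ∀ b ∈ B, a * b * a⁻¹ ∈ B)
    {s : Ω} (hs : s ∈ A ⊔ B) : ∃ a ∈ A, ∃ b ∈ B, s = a * b := by
  rw [Subgroup.sup_eq_closure] at hs
  induction hs using Subgroup.closure_induction with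
  | mem y hy =>
    rcases hy with hy | hy
    · exact ⟨y, hy, 1, B.one_mem, (mul_one y).symm⟩
    · exact ⟨1, A.one_mem, y, hy, (one_mul y).symm⟩
  | one => exact ⟨1, A.one_mem, 1, B.one_mem, (mul_one 1).symm⟩
  | mul x y _ _ hx hy =>
    obtain ⟨a, ha, b, hb, rfl⟩ := hx
    obtain ⟨a', ha', b', hb', rfl⟩ := hy
    refine ⟨a * a', A.mul_mem ha ha', a'⁻¹ * b * a' * b', B.mul_mem ?_ hb', by group⟩
    have := hnorm a'⁻¹ (A.inv_mem ha') b hb
    rwa [inv_inv] at this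
  | inv x _ hx =>
    obtain ⟨a, ha, b, hb, rfl⟩ := hx
    refine ⟨a⁻¹, A.inv_mem ha, a * b⁻¹ * a⁻¹, hnorm a ha _ (B.inv_mem hb), by group⟩

/-- If `V` normalizes `Q` and `Q ≰ V` (both inside the finite `p`-group `S`), some element of `Q` outside `V`
normalizes `V`. -/
theorem exists_normalizing_outside [Finite S] {p : ℕ} [Fact p.Prime] (hS : IsPGroup p S)
    {V Q : Subgroup Ω} (hVS : V ≤ S) (hQS : Q ≤ S) (hnorm : ∀ v ∈ V, ∀ q ∈ Q, v * q * v⁻¹ ∈ Q)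
    (hQV : ¬ Q ≤ V) : ∃ x ∈ Q, x ∉ V ∧ x ∈ Subgroup.normalizer (V : Set Ω) := by
  have hTS : V ⊔ Q ≤ S := sup_le hVS hQS
  have hfin : Finite (V ⊔ Q : Subgroup Ω) := Cfsg.Agent.Lib.Helper84_FusionRS.finite_of_le_S hTS
  have hne : V ≠ V ⊔ Q := fun h => hQV (h ▸ le_sup_right)
  have hlt := lt_normalizerIn (S := V ⊔ Q) (hS.to_le hTS) le_sup_left hne
  obtain ⟨y, hyN, hyV⟩ := SetLike.exists_of_lt hlt
  obtain ⟨v, hv, q, hq, rfl⟩ := exists_mul_of_mem_sup_normal hnorm hyN.1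
  refine ⟨q, hq, fun hqV => hyV (V.mul_mem hv hqV), ?_⟩
  have h1 : v⁻¹ ∈ Subgroup.normalizer (V : Set Ω) := Subgroup.le_normalizer (V.inv_mem hv)
  have h2 := Subgroup.mul_mem _ h1 hyN.2
  rwa [inv_mul_cancel_left] at h2

/-- Frattini decomposition with respect to a relative Sylow subgroup. -/
theorem frattini_decomp {G : Type*} [Group G] {p : ℕ} [Fact p.Prime] {T K N : Subgroup G} [Finite K]
    (hsyl : IsSylowIn p T K) (hNK : N ≤ K) (hnorm : ∀ k ∈ K, ∀ n ∈ N, k * n * k⁻¹ ∈ N) {δ : G}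
    (hδ : δ ∈ K) : ∃ υ ∈ N, ∃ ν ∈ K, δ = υ * ν ∧ ∀ t ∈ T ⊓ N, ν * t * ν⁻¹ ∈ T ⊓ N := by
  have hD := IsSylowIn.inf_of_normal hsyl hNK hnorm
  have hfinN : Finite N := Finite.of_injective (Subgroup.inclusion hNK) (Subgroup.inclusion_injective hNK)
  have hX : (T ⊓ N).map (MulAut.conj δ).toMonoidHom ≤ N := by
    rintro _ ⟨t, ht, rfl⟩
    exact hnorm δ hδ t ht.2
  have hXp : IsPGroup p ((T ⊓ N).map (MulAut.conj δ).toMonoidHom) :=
    (hsyl.isPGroup.to_le inf_le_left).map _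
  obtain ⟨u, hu, hconj⟩ := hD.exists_conj_le hX hXp
  refine ⟨u⁻¹, N.inv_mem hu, u * δ, K.mul_mem (hNK hu) hδ, by group, fun t ht => ?_⟩
  have h1 := hconj _ ⟨t, ht, rfl⟩
  have h2 : u * δ * t * (u * δ)⁻¹ = u * (MulAut.conj δ).toMonoidHom t * u⁻¹ := by
    simp [MulAut.conj_apply, mul_assoc]
  rw [h2]
  exact h1

/-- An automorphism of `V` fixing a normal subgroup `P` with `C_V(P) ≤ P` pointwise has order dividing `|P|`. -/
theorem pow_card_eq_one_of_fix {V P : Subgroup Ω} [Finite P] (hPV : P ≤ V) (α : MulAut V)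
    (hfix : ∀ z : V, (z : Ω) ∈ P → α z = z)
    (hnorm : ∀ v ∈ V, ∀ z ∈ P, v * z * v⁻¹ ∈ P)
    (hcent : ∀ c ∈ V, (∀ z ∈ P, c * z = z * c) → c ∈ P) : α ^ Nat.card P = 1 := by
  have key : ∀ v : V, ∃ c : V, (c : Ω) ∈ P ∧ α v = v * c := by
    intro v
    refine ⟨v⁻¹ * α v, ?_, by group⟩
    apply hcent _ (v⁻¹ * α v).2
    intro z hz
    have hz' : (v : Ω) * z * (v : Ω)⁻¹ ∈ P := hnorm v v.2 z hz
    have h1 := hfix ⟨(v : Ω) * z * (v : Ω)⁻¹, hPV hz'⟩ hz'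
    have h2 : (⟨(v : Ω) * z * (v : Ω)⁻¹, hPV hz'⟩ : V) = v * ⟨z, hPV hz⟩ * v⁻¹ := rfl
    rw [h2, map_mul, map_mul, map_inv, hfix ⟨z, hPV hz⟩ hz] at h1
    have h3 : (α v : Ω) * z * (α v : Ω)⁻¹ = (v : Ω) * z * (v : Ω)⁻¹ := by
      have := congrArg Subtype.val h1
      simpa using this
    show ((v⁻¹ * α v : V) : Ω) * z = z * ((v⁻¹ * α v : V) : Ω)
    simp only [Subgroup.coe_mul, Subgroup.coe_inv]
    have h4 : (α v : Ω) * z = (v : Ω) * z * (v : Ω)⁻¹ * (α v : Ω) := by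
      rw [← h3]; group
    calc (v : Ω)⁻¹ * (α v : Ω) * z = (v : Ω)⁻¹ * ((α v : Ω) * z) := by group
      _ = (v : Ω)⁻¹ * ((v : Ω) * z * (v : Ω)⁻¹ * (α v : Ω)) := by rw [h4]
      _ = z * ((v : Ω)⁻¹ * (α v : Ω)) := by group
  ext v
  obtain ⟨c, hcP, hc⟩ := key v
  have hαc : α c = c := hfix c hcP
  have hpow : ∀ m : ℕ, (α ^ m) v = v * c ^ m := by
    intro m
    induction m with
    | zero => simp
    | succ m ih =>
      rw [pow_succ', MulAut.mul_apply, ih, map_mul, map_pow, hαc, hc, pow_succ']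
      group
  have hcard : c ^ Nat.card P = 1 := by
    have h1 : (⟨c, hcP⟩ : P) ^ Nat.card P = 1 := pow_card_eq_one'
    have h2 : (c : Ω) ^ Nat.card P = 1 := by
      have h3 := congrArg Subtype.val h1
      rwa [SubgroupClass.coe_pow, OneMemClass.coe_one] at h3
    apply Subtype.ext
    rw [SubgroupClass.coe_pow, OneMemClass.coe_one]
    exact h2
  have := hpow (Nat.card P)
  rw [hcard, mul_one] at this
  rw [this]
  rfl

end Cfsg.Agent.Lib.Helper85_SatCrit5
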