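import Cfsg.Agent.Lib.Helper85_SatCrit5

/-!
# Saturation criterion, part 6 (helper85): Claim B

Every automorphism in `Aut_F(P̂)` that is the restriction of a map of the system defined on a subgroup `V` with
`P̂ < V ≤ N_S(P̂)` extends to a map of the system on `N_S^Y(P̂)`.
-/

set_option autoImplicit false

namespace Cfsg.Agent.Lib.Helper85_SatCrit6

open Cfsg Cfsg.FusionSystem Cfsg.Agent.Lib.Helper87_Alperin Cfsg.Agent.Lib.Helper88_Centric
  Cfsg.Agent.Lib.Helper84_RelSylow Cfsg.Agent.Lib.Helper88_AutInv Cfsg.Agent.Lib.Helper85_SatCrit1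
  Cfsg.Agent.Lib.Helper85_SatCrit2 Cfsg.Agent.Lib.Helper85_SatCrit3 Cfsg.Agent.Lib.Helper85_SatCrit4
  Cfsg.Agent.Lib.Helper85_SatCrit5 Cfsg.Agent.Lib.Helper88_Centric2

variable {Ω : Type*} [Group Ω] {S : Subgroup Ω}

theorem isImage_extFun {P : Subgroup Ω} (α : MulAut P) : IsImage P (extFun α) P := by
  intro y
  constructor
  · intro hy
    exact ⟨extFun α⁻¹ y, extFun_mem _ hy, extFun_apply_inv α hy⟩
  · rintro ⟨x, hx, rfl⟩
    exact extFun_mem α hx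

/-- The image of `P` under `κ ∘ f` when `κ` stabilizes the image of `P` under `f`. -/
theorem isImage_of_ext {R P Rs Ps : Subgroup Ω} {f f' : Ω → Ω} {κ : MulAut Rs}
    (hκ : κ ∈ stab Rs Ps) (hPsRs : Ps ≤ Rs) (hPR : P ≤ R) (hfP : IsImage P f Ps)
    (hext : ∀ x ∈ R, f' x = extFun κ (f x)) : IsImage P f' Ps := by
  intro y
  constructor
  · intro hy
    have hyRs : y ∈ Rs := hPsRs hy
    have h1 : extFun κ⁻¹ y ∈ Ps :=
      (extFun_mem_iff_of_mem_stab ((stab Rs Ps).inv_mem hκ) hyRs).2 hy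
    obtain ⟨x, hx, hxy⟩ := (hfP _).1 h1
    refine ⟨x, hx, ?_⟩
    rw [hext x (hPR hx), hxy, extFun_apply_inv κ hyRs]
  · rintro ⟨x, hx, rfl⟩
    rw [hext x (hPR hx)]
    exact (extFun_mem_iff_of_mem_stab hκ (hPsRs (hfP.mem hx))).2 (hfP.mem hx)

theorem isImage_of_ext_top {R Rs : Subgroup Ω} {f f' : Ω → Ω} {κ : MulAut Rs}
    (hfR : IsImage R f Rs) (hext : ∀ x ∈ R, f' x = extFun κ (f x)) : IsImage R f' Rs := by
  intro y
  constructor
  · intro hy
    obtain ⟨x, hx, hxy⟩ := (hfR _).1 (extFun_mem κ⁻¹ hy)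
    refine ⟨x, hx, ?_⟩
    rw [hext x hx, hxy, extFun_apply_inv κ hy]
  · rintro ⟨x, hx, rfl⟩
    rw [hext x hx]
    exact extFun_mem κ (hfR.mem hx)

/-- `N_S^Y(P̂)` is normalized by `N_S(P̂)`. -/
theorem NY_normal [Finite S] {p : ℕ} {F : FusionSystem S} {Ph : Subgroup Ω} {Y : Subgroup (MulAut Ph)}
    (hY : YHyp p F Ph Y) (hPh : Ph ≤ S) {v q : Ω} (hv : v ∈ normalizerIn S Ph) (hq : q ∈ NY S Ph Y) :
    v * q * v⁻¹ ∈ NY S Ph Y := by
  have hmap : IsMapOn F S (fun x => v * x * v⁻¹) := IsMapOn.conj F le_rfl hv.1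
  have himg : IsImage Ph (fun x => v * x * v⁻¹) Ph := by
    intro y
    constructor
    · intro hy
      refine ⟨v⁻¹ * y * v, ?_, by group⟩
      have := conj_mem_of_mem_normalizerIn (Subgroup.inv_mem _ hv) hy
      rwa [inv_inv] at this
    · rintro ⟨x, hx, rfl⟩
      exact conj_mem_of_mem_normalizerIn hv hx
  exact map_mem_NY hY.normal hmap hPh himg hq.1 hq

/-- **Claim B, core step**: automorphisms of `P̂` transported from `K = Stab_{Aut_F(V*)}(P*)` extend. -/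
theorem ext_of_stab [Finite S] {p : ℕ} [Fact p.Prime] (hS : IsPGroup p S) (F : FusionSystem S)
    {Ph : Subgroup Ω} {Y : Subgroup (MulAut Ph)} (hY : YHyp p F Ph Y)
    {Vs Ps : Subgroup Ω} (hPsVs : Ps ≤ Vs) (hVsN : Vs ≤ normalizerIn S Ps) (hrec : F.IsReceptive Vs)
    (hsyl : IsSylowIn p (autInducedBy S Vs ⊓ (F.autGroup Vs ⊓ stab Vs Ps)) (F.autGroup Vs ⊓ stab Vs Ps))
    {φs ks : Ω → Ω} {Ms : Subgroup Ω} (hφs : IsMapOn F (normalizerIn S Ps) φs) (hφsP : IsImage Ps φs Ph)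
    (hMs : IsImage (normalizerIn S Ps) φs Ms) (hks : IsMapOn F Ms ks)
    (hksφ : ∀ x ∈ normalizerIn S Ps, ks (φs x) = x)
    (hout : ∃ g, g ∈ normalizerIn S Vs ∧ g ∈ normalizerIn S Ps ∧ φs g ∈ NY S Ph Y ∧ g ∉ Vs)
    (IHW : ∀ (W : Subgroup Ω) (θ : Ω → Ω), Nat.card Vs < Nat.card W → Ph < W → W ≤ normalizerIn S Ph →
      IsMapOn F W θ → IsImage Ph θ Ph → Ext F Ph Y θ)
    {δ : MulAut Vs} (hδ : δ ∈ F.autGroup Vs ⊓ stab Vs Ps) :
    Ext F Ph Y (fun t => φs (extFun δ (ks t))) := by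
  classical
  have hVsS : Vs ≤ S := hrec.1
  have hPsS : Ps ≤ S := hPsVs.trans hVsS
  have hPsN : Ps ≤ normalizerIn S Ps := le_normalizerIn hPsS
  have hPhS : Ph ≤ S := IsImage.le (hφs.mono hPsN) hφsP
  have hfinVs : Finite Vs := Cfsg.Agent.Lib.Helper84_FusionRS.finite_of_le_S hVsS
  have hfinPs : Finite Ps := Cfsg.Agent.Lib.Helper84_FusionRS.finite_of_le_S hPsS
  have hPhMs : Ph ≤ Ms := by
    intro y hy
    obtain ⟨x, hx, rfl⟩ := (hφsP y).1 hy
    exact hMs.mem (hPsN hx)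
  have hksP : ∀ t ∈ Ph, ks t ∈ Ps ∧ φs (ks t) = t := by
    intro t ht
    obtain ⟨x, hx, rfl⟩ := (hφsP t).1 ht
    rw [hksφ x (hPsN hx)]
    exact ⟨hx, rfl⟩
  have hstabP : ∀ {ξ : MulAut Vs}, ξ ∈ stab Vs Ps → ∀ z ∈ Ps, extFun ξ z ∈ Ps := fun hξ z hz =>
    (extFun_mem_iff_of_mem_stab hξ (hPsVs hz)).2 hz
  set K : Subgroup (MulAut Vs) := F.autGroup Vs ⊓ stab Vs Ps with hKdef
  -- the subgroup of `K` acting on `P*` through `Y`
  let Yh : Subgroup (MulAut Vs) :=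
    { carrier := {ξ | ξ ∈ K ∧ ∃ y ∈ Y, ∀ z ∈ Ps, φs (extFun ξ z) = extFun y (φs z)}
      one_mem' := ⟨K.one_mem, 1, Y.one_mem, fun z hz => by
        rw [extFun_one_apply (hPsVs hz), extFun_one_apply (hφsP.mem hz)]⟩
      mul_mem' := by
        rintro ξ₁ ξ₂ ⟨h₁, y₁, hy₁, e₁⟩ ⟨h₂, y₂, hy₂, e₂⟩
        refine ⟨K.mul_mem h₁ h₂, y₁ * y₂, Y.mul_mem hy₁ hy₂, fun z hz => ?_⟩
        rw [extFun_mul _ _ (hPsVs hz), e₁ _ (hstabP h₂.2 z hz), e₂ z hz,
          extFun_mul _ _ (hφsP.mem hz)]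
      inv_mem' := by
        rintro ξ ⟨h₁, y, hy, e⟩
        refine ⟨K.inv_mem h₁, y⁻¹, Y.inv_mem hy, fun z hz => ?_⟩
        have hw : extFun ξ⁻¹ z ∈ Ps := hstabP (K.inv_mem h₁).2 z hz
        have h2 := e _ hw
        rw [extFun_apply_inv ξ (hPsVs hz)] at h2
        rw [h2, extFun_inv_apply y (hφsP.mem hw)] }
  have hYhK : Yh ≤ K := fun ξ hξ => hξ.1
  -- the element of `Aut_F(P̂)` attached to `κ ∈ K`
  have hγκ : ∀ κ ∈ K, ∃ γ ∈ F.autGroup Ph, ∀ t : Ph, ((γ t : Ph) : Ω) = φs (extFun κ (ks t)) := by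
    intro κ hκ
    have hκmap : IsMapOn F Vs (extFun κ) := (mem_autGroup_iff F hVsS κ).1 hκ.1
    have h1 : IsMapOn F Ph (extFun κ ∘ ks) :=
      (hks.mono hPhMs).comp (hκmap.mono hPsVs) (fun t ht => (hksP t ht).1)
    have h2 : IsMapOn F Ph (φs ∘ (extFun κ ∘ ks)) :=
      h1.comp (hφs.mono hPsN) (fun t ht => hstabP hκ.2 _ (hksP t ht).1)
    obtain ⟨γ, hγ, hγf⟩ := exists_aut_of_isMapOn h2
      (fun t ht => hφsP.mem (hstabP hκ.2 _ (hksP t ht).1))
    exact ⟨γ, hγ, fun t => hγf t⟩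
  have hYhnorm : ∀ κ ∈ K, ∀ ξ ∈ Yh, κ * ξ * κ⁻¹ ∈ Yh := by
    rintro κ hκ ξ ⟨hξK, y, hy, e⟩
    obtain ⟨γ, hγ, hγf⟩ := hγκ κ hκ
    refine ⟨K.mul_mem (K.mul_mem hκ hξK) (K.inv_mem hκ), γ * y * γ⁻¹, hY.normal γ hγ y hy,
      fun z hz => ?_⟩
    have hw : extFun κ⁻¹ z ∈ Ps := hstabP (K.inv_mem hκ).2 z hz
    have hξw : extFun ξ (extFun κ⁻¹ z) ∈ Ps := hstabP hξK.2 _ hw
    have hL : extFun (κ * ξ * κ⁻¹) z = extFun κ (extFun ξ (extFun κ⁻¹ z)) := by
      rw [extFun_mul _ _ (hPsVs hz), extFun_mul _ _ (hPsVs hw)]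
    have hγφ : ∀ u ∈ Ps, extFun γ (φs u) = φs (extFun κ u) := by
      intro u hu
      rw [extFun_apply γ (hφsP.mem hu), hγf]
      simp only
      rw [hksφ u (hPsN hu)]
    have hγinv : extFun γ⁻¹ (φs z) = φs (extFun κ⁻¹ z) := by
      have h3 := hγφ _ hw
      rw [extFun_apply_inv κ (hPsVs hz)] at h3
      rw [← h3, extFun_inv_apply γ (hφsP.mem hw)]
    rw [hL, extFun_mul _ _ (hφsP.mem hz), extFun_mul _ _ (extFun_mem γ⁻¹ (hφsP.mem hz)), hγinv,
      ← e _ hw, hγφ _ hξw]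
  have hfinK : Finite K := inferInstance
  obtain ⟨υ, hυ, ν, hν, hδeq, hνD⟩ := frattini_decomp hsyl hYhK hYhnorm hδ
  -- the subgroup `N*`
  let Ns : Subgroup Ω :=
    { carrier := {x | x ∈ normalizerIn S Vs ⊓ normalizerIn S Ps ∧ φs x ∈ NY S Ph Y}
      one_mem' := ⟨Subgroup.one_mem _, by rw [hφs.map_one]; exact Subgroup.one_mem _⟩
      mul_mem' := by
        rintro a b ⟨ha, ha'⟩ ⟨hb, hb'⟩
        refine ⟨Subgroup.mul_mem _ ha hb, ?_⟩
        show φs (a * b) ∈ NY S Ph Y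
        rw [hφs.map_mul ha.2 hb.2]
        exact Subgroup.mul_mem _ ha' hb'
      inv_mem' := by
        rintro a ⟨ha, ha'⟩
        refine ⟨Subgroup.inv_mem _ ha, ?_⟩
        show φs a⁻¹ ∈ NY S Ph Y
        rw [hφs.map_inv ha.2]
        exact Subgroup.inv_mem _ ha' }
  have hNs : ∀ g ∈ Ns, g ∈ normalizerIn S Vs ∧
      ∃ h ∈ S, ∀ x ∈ Vs, extFun ν (g * x * g⁻¹) = h * extFun ν x * h⁻¹ := by
    rintro g ⟨⟨hgV, hgP⟩, hgQ⟩
    refine ⟨hgV, ?_⟩
    have hgS : g ∈ S := hgV.1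
    have hconjV : ∀ x ∈ Vs, g * x * g⁻¹ ∈ Vs := fun x hx => conj_mem_of_mem_normalizerIn hgV hx
    obtain ⟨βg, hβg, hβgf⟩ := exists_aut_of_isMapOn (IsMapOn.conj F hVsS hgS) hconjV
    have hβgA : βg ∈ autInducedBy S Vs :=
      (mem_autInducedBy_iff S Vs βg).2 ⟨g, hgS, fun x => hβgf x⟩
    have hβgstab : βg ∈ stab Vs Ps := by
      intro x
      rw [hβgf x]
      exact hgP.2 x
    have hβgK : βg ∈ K := ⟨hβg, hβgstab⟩
    have hβgYh : βg ∈ Yh := by
      obtain ⟨-, y, hy, hyg⟩ := hgQ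
      refine ⟨hβgK, y, hy, fun z hz => ?_⟩
      rw [extFun_apply βg (hPsVs hz), hβgf, extFun_apply y (hφsP.mem hz), hyg]
      simp only
      rw [hφs.map_mul (Subgroup.mul_mem _ hgP (hPsN hz)) (Subgroup.inv_mem _ hgP),
        hφs.map_mul hgP (hPsN hz), hφs.map_inv hgP]
    have h1 := hνD βg ⟨⟨hβgA, hβgK⟩, hβgYh⟩
    obtain ⟨h, hhS, hh⟩ := (mem_autInducedBy_iff S Vs _).1 h1.1.1
    refine ⟨h, hhS, fun x hx => ?_⟩
    have h2 := hh ⟨extFun ν x, extFun_mem ν hx⟩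
    rw [← h2]
    have h3 : extFun (ν * βg * ν⁻¹) (extFun ν x) = extFun ν (g * x * g⁻¹) := by
      rw [extFun_mul _ _ (extFun_mem ν hx), extFun_inv_apply ν hx, extFun_mul _ _ hx,
        extFun_apply βg hx, hβgf]
    rw [← h3, extFun_apply _ (extFun_mem ν hx)]
  have hνmap : IsMapOn F Vs (extFun ν) := (mem_autGroup_iff F hVsS ν).1 hν.1
  obtain ⟨νb, hνb, hνbext⟩ := receptive_extend hrec hνmap (isImage_extFun ν) Ns hNs
  have hDle : Vs ⊔ Ns ≤ normalizerIn S Ps := sup_le hVsN (fun x hx => hx.1.2)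
  obtain ⟨W, hW, -⟩ := exists_isImage_of_le hφs hDle
  have hksW : ∀ y ∈ W, ks y ∈ Vs ⊔ Ns := by
    intro y hy
    obtain ⟨x, hx, rfl⟩ := (hW y).1 hy
    rw [hksφ x (hDle hx)]
    exact hx
  have hWMs : W ≤ Ms := by
    intro y hy
    obtain ⟨x, hx, rfl⟩ := (hW y).1 hy
    exact hMs.mem (hDle hx)
  have hνbP : IsImage Ps νb Ps := by
    intro y
    constructor
    · intro hy
      refine ⟨extFun ν⁻¹ y, hstabP (K.inv_mem hν).2 y hy, ?_⟩
      rw [hνbext _ (hPsVs (hstabP (K.inv_mem hν).2 y hy)), extFun_apply_inv ν (hPsVs hy)]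
    · rintro ⟨x, hx, rfl⟩
      rw [hνbext x (hPsVs hx)]
      exact hstabP hν.2 x hx
  have hνbN : ∀ x ∈ Vs ⊔ Ns, νb x ∈ normalizerIn S Ps := fun x hx =>
    ⟨hνb.mem hx, map_mem_normalizer hνb (hPsVs.trans le_sup_left) hνbP hx (hDle hx).2⟩
  have hθ : IsMapOn F W (φs ∘ (νb ∘ ks)) :=
    ((hks.mono hWMs).comp hνb hksW).comp hφs (fun y hy => hνbN _ (hksW y hy))
  have hθeq : ∀ t ∈ Ph, (φs ∘ (νb ∘ ks)) t = φs (extFun ν (ks t)) := by
    intro t ht
    simp only [Function.comp_apply]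
    rw [hνbext _ (hPsVs (hksP t ht).1)]
  obtain ⟨γν, hγν, hγνf⟩ := hγκ ν hν
  have hcνP : IsImage Ph (fun t => φs (extFun ν (ks t))) Ph :=
    IsImage.congr (isImage_extFun γν) (fun t ht => by rw [extFun_apply γν ht, hγνf])
  have hθP : IsImage Ph (φs ∘ (νb ∘ ks)) Ph :=
    IsImage.congr hcνP (fun t ht => (hθeq t ht).symm)
  have hDS : Vs ⊔ Ns ≤ S := hDle.trans (normalizerIn_le S Ps)
  have hfinD : Finite (Vs ⊔ Ns : Subgroup Ω) := Cfsg.Agent.Lib.Helper84_FusionRS.finite_of_le_S hDS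
  have hcardW : Nat.card Vs < Nat.card W := by
    rw [← card_eq_of_isImage (hφs.mono hDle) hW]
    apply card_lt_of_lt
    refine lt_of_le_of_ne le_sup_left ?_
    intro heq
    obtain ⟨g, hgV, hgP, hgQ, hgVs⟩ := hout
    apply hgVs
    rw [heq]
    exact (le_sup_right : Ns ≤ Vs ⊔ Ns) ⟨⟨hgV, hgP⟩, hgQ⟩
  have hWN : W ≤ normalizerIn S Ph := by
    intro y hy
    obtain ⟨x, hx, rfl⟩ := (hW y).1 hy
    exact ⟨hφs.mem (hDle hx), map_mem_normalizer hφs hPsN hφsP (hDle hx) (hDle hx).2⟩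
  have hPhW : Ph < W := by
    have hle : Ph ≤ W := by
      intro t ht
      obtain ⟨x, hx, rfl⟩ := (hφsP t).1 ht
      exact hW.mem ((hPsVs.trans le_sup_left) hx)
    refine lt_of_le_of_ne hle ?_
    intro heq
    have h1 : Nat.card Ps = Nat.card Ph := card_eq_of_isImage (hφs.mono hPsN) hφsP
    have h2 : Nat.card Ps ≤ Nat.card Vs := Subgroup.card_le_of_le hPsVs
    rw [← heq] at hcardW
    omega
  have hExtν : Ext F Ph Y (fun t => φs (extFun ν (ks t))) :=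
    (IHW W _ hcardW hPhW hWN hθ hθP).congr hθeq
  -- the `Ŷ` part
  have hExtυ : Ext F Ph Y (fun t => φs (extFun υ (ks t))) := by
    obtain ⟨hυK, y, hy, e⟩ := hυ
    have hcy : ∀ t ∈ Ph, φs (extFun υ (ks t)) = extFun y t := by
      intro t ht
      rw [e _ (hksP t ht).1, (hksP t ht).2]
    rcases hY.alt with hYinn | hcen
    · have hyI : y ∈ Inn Ph := hYinn ▸ hy
      obtain ⟨w, rfl⟩ := hyI
      refine (ext_conj (hPhS w.2)).congr (fun t ht => ?_)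
      rw [hcy t ht, extFun_apply _ ht]
      rfl
    · have hPsconj : F.IsConj Ph Ps :=
        Cfsg.Agent.Lib.Helper84_Fusion.isConj_symm F (isConj_of_isImage (hφs.mono hPsN) hφsP)
      have hcPs : centralizerIn S Ps ≤ Ps := hcen.2 Ps hPsconj
      have hYhp : IsPGroup p Yh := by
        rintro ⟨ξ, hξK, y', hy', e'⟩
        obtain ⟨k, hk⟩ := hY.pgroup ⟨y', hy'⟩
        have hk' : y' ^ p ^ k = 1 := by
          have h3 := congrArg Subtype.val hk
          rwa [SubgroupClass.coe_pow, OneMemClass.coe_one] at h3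
        have hpow : ∀ m : ℕ, ∀ z ∈ Ps, φs (extFun (ξ ^ m) z) = extFun (y' ^ m) (φs z) := by
          intro m
          induction m with
          | zero =>
            intro z hz
            rw [pow_zero, pow_zero, extFun_one_apply (hPsVs hz), extFun_one_apply (hφsP.mem hz)]
          | succ m ih =>
            intro z hz
            have hz' : extFun ξ z ∈ Ps := hstabP hξK.2 z hz
            rw [pow_succ, pow_succ, extFun_mul _ _ (hPsVs hz), ih _ hz', e' z hz,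
              extFun_mul _ _ (hφsP.mem hz)]
        have hfix : ∀ z : Vs, (z : Ω) ∈ Ps → (ξ ^ p ^ k) z = z := by
          intro z hz
          have h1 := hpow (p ^ k) z hz
          rw [hk', extFun_one_apply (hφsP.mem hz)] at h1
          have hz' : extFun (ξ ^ p ^ k) z ∈ Ps := hstabP (K.pow_mem hξK _).2 z hz
          have h2 := hφs.injOn (hPsN hz') (hPsN hz) h1
          apply Subtype.ext
          rw [← extFun_coe]
          exact h2
        have hcardpow := pow_card_eq_one_of_fix hPsVs (ξ ^ p ^ k) hfix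
          (fun v hv z hz => conj_mem_of_mem_normalizerIn (hVsN hv) hz)
          (fun c hc hcz => hcPs ((mem_centralizerIn_iff S Ps c).2
            ⟨hVsS hc, fun z hz => (hcz z hz).symm⟩))
        obtain ⟨j, hj⟩ := (hS.to_le hPsS).exists_card_eq
        refine ⟨k + j, ?_⟩
        apply Subtype.ext
        show ξ ^ p ^ (k + j) = 1
        rw [pow_add, pow_mul, ← hj]
        exact hcardpow
      have hle := IsSylowIn.normal_le hsyl hYhK hYhnorm hYhp
      obtain ⟨g, hgS, hg⟩ := (mem_autInducedBy_iff S Vs υ).1 (hle ⟨hυK, y, hy, e⟩).1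
      have hgV : g ∈ Subgroup.normalizer (Vs : Set Ω) :=
        Cfsg.Agent.Lib.Helper84_FusionRS.mem_normalizer_of_aut υ g hg
      have hgP : g ∈ normalizerIn S Ps := by
        refine ⟨hgS, ?_⟩
        intro x
        by_cases hx : x ∈ Vs
        · have h1 := hυK.2 ⟨x, hx⟩
          rw [hg ⟨x, hx⟩] at h1
          exact h1
        · constructor
          · intro hxP
            exact absurd (hPsVs hxP) hx
          · intro hxP
            exact absurd ((hgV x).2 (hPsVs hxP)) hx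
      refine (ext_conj (hφs.mem hgP)).congr (fun t ht => ?_)
      have hkt := hksP t ht
      have h1 : extFun υ (ks t) = g * ks t * g⁻¹ := by
        rw [extFun_apply υ (hPsVs hkt.1), hg]
      rw [h1, hφs.map_mul (Subgroup.mul_mem _ hgP (hPsN hkt.1)) (Subgroup.inv_mem _ hgP),
        hφs.map_mul hgP (hPsN hkt.1), hφs.map_inv hgP, hkt.2]
  -- combine
  have hcνsub : ∀ t ∈ Ph, φs (extFun ν (ks t)) ∈ Ph := fun t ht => hcνP.mem ht
  refine (Ext.comp hY hPhS hExtν hExtυ hcνsub).congr (fun t ht => ?_)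
  simp only [Function.comp_apply]
  have hkt := hksP t ht
  have hνkt : extFun ν (ks t) ∈ Ps := hstabP hν.2 _ hkt.1
  rw [hksφ _ (hPsN hνkt), hδeq, extFun_mul _ _ (hPsVs hkt.1)]

end Cfsg.Agent.Lib.Helper85_SatCrit6
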