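import Cfsg.Agent.Lib.Helper85_SatCrit6

/-!
# Saturation criterion, part 7 (helper85): Claim B, main induction

If `P̂` (of the maximal order `n` outside `ℋ`) is such that every member `P` of its class has a map
`N_S(P) → N_S(P̂)` carrying `P` to `P̂`, then every map of the system defined on `V`, `P̂ < V ≤ N_S(P̂)`, that
carries `P̂` to itself, restricts on `P̂` to an automorphism extending to `N_S^Y(P̂)`.
-/

set_option autoImplicit false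

namespace Cfsg.Agent.Lib.Helper85_SatCrit7

open Cfsg Cfsg.FusionSystem Cfsg.Agent.Lib.Helper87_Alperin Cfsg.Agent.Lib.Helper88_Centric
  Cfsg.Agent.Lib.Helper84_RelSylow Cfsg.Agent.Lib.Helper88_AutInv Cfsg.Agent.Lib.Helper85_SatCrit1
  Cfsg.Agent.Lib.Helper85_SatCrit2 Cfsg.Agent.Lib.Helper85_SatCrit3 Cfsg.Agent.Lib.Helper85_SatCrit4
  Cfsg.Agent.Lib.Helper85_SatCrit5 Cfsg.Agent.Lib.Helper85_SatCrit6 Cfsg.Agent.Lib.Helper88_Centric2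

variable {Ω : Type*} [Group Ω] {S : Subgroup Ω}

/-- **Claim B.** -/
theorem claimB [Finite S] {p : ℕ} [Fact p.Prime] (hS : IsPGroup p S) (F : FusionSystem S) {n : ℕ}
    (hbig : Big p F n) {Ph : Subgroup Ω} (hPhn : Nat.card Ph = n) (hPhS : Ph ≤ S)
    (hpi : ∀ P, F.IsConj P Ph → Pi F Ph P) {Y : Subgroup (MulAut Ph)} (hY : YHyp p F Ph Y) :
    ∀ (d : ℕ) (V : Subgroup Ω) (γ : Ω → Ω), Nat.card (normalizerIn S Ph) - Nat.card V = d → Ph < V →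
      V ≤ normalizerIn S Ph → IsMapOn F V γ → IsImage Ph γ Ph → Ext F Ph Y γ := by
  intro d
  induction d using Nat.strong_induction_on with
  | _ d ih =>
  intro V γ hd hPV hVN hγ hγP
  by_cases hQV : NY S Ph Y ≤ V
  · exact ⟨γ, hγ.mono hQV, fun _ _ => rfl⟩
  have hNS : normalizerIn S Ph ≤ S := normalizerIn_le S Ph
  have hVS : V ≤ S := hVN.trans hNS
  have hfin : ∀ {X : Subgroup Ω}, X ≤ S → Finite X := fun h =>
    Cfsg.Agent.Lib.Helper84_FusionRS.finite_of_le_S h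
  have hfinN : Finite (normalizerIn S Ph) := hfin hNS
  have hfinV : Finite V := hfin hVS
  have hVne : V ≠ normalizerIn S Ph := fun h => hQV (h ▸ NY_le_normalizerIn Ph Y)
  have hQS : NY S Ph Y ≤ S := (NY_le_normalizerIn Ph Y).trans hNS
  -- induction hypothesis
  have IH : ∀ (W : Subgroup Ω) (θ : Ω → Ω), Nat.card V < Nat.card W → Ph < W →
      W ≤ normalizerIn S Ph → IsMapOn F W θ → IsImage Ph θ Ph → Ext F Ph Y θ := by
    intro W θ hcard hPW hWN hθ hθP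
    have hWle : Nat.card W ≤ Nat.card (normalizerIn S Ph) := Subgroup.card_le_of_le hWN
    exact ih (Nat.card (normalizerIn S Ph) - Nat.card W) (by omega) W θ rfl hPW hWN hθ hθP
  -- the representative pair
  have hVbig : n < Nat.card V := by
    rw [← hPhn]
    exact card_lt_of_lt hPV
  obtain ⟨Vs, Ps, f₀, hPsVs, -, hrec, hsyl, hf₀, hf₀V, hf₀P, hext⟩ :=
    lemmaK hS F hPV.le (hbig V hVS hVbig)
  have hVsN : Vs ≤ normalizerIn S Ps := IsImage.le_normalizerIn hf₀ hPV.le hVN hf₀P hf₀V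
  have hVsS : Vs ≤ S := hrec.1
  have hPsS : Ps ≤ S := hPsVs.trans hVsS
  have hPsN : Ps ≤ normalizerIn S Ps := le_normalizerIn hPsS
  have hcardVs : Nat.card Vs = Nat.card V := (card_eq_of_isImage hf₀ hf₀V).symm
  -- the first extension
  have hlt₁ := lt_inf_normalizerIn hS hVN hVne
  obtain ⟨κ₁, hκ₁, ψ, hψ', hψext⟩ := hext V Ph f₀ hf₀ hf₀V hPV.le hf₀P
  have hψ : IsMapOn F (normalizerIn S V ⊓ normalizerIn S Ph) ψ := hψ'.mono le_sup_right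
  have hψP : IsImage Ph ψ Ps := isImage_of_ext hκ₁.2 hPsVs hPV.le hf₀P hψext
  have hψV : IsImage V ψ Vs := isImage_of_ext_top hf₀V hψext
  -- the second extension
  obtain ⟨V', hV', -⟩ := exists_isImage hγ
  obtain ⟨kγ, hkγ, hkγγ, hkγV, hγkγ⟩ := hγ.inv hV'
  have hPV' : Ph < V' := IsImage.lt hγ hPV hγP hV'
  have hV'N : V' ≤ normalizerIn S Ph := IsImage.le_normalizerIn hγ hPV.le hVN hγP hV'
  have hcardV' : Nat.card V' = Nat.card V := (card_eq_of_isImage hγ hV').symm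
  have hV'ne : V' ≠ normalizerIn S Ph := by
    intro h
    apply hVne
    exact Subgroup.eq_of_le_of_card_ge hVN (by rw [← hcardV', h])
  have hlt₁' := lt_inf_normalizerIn hS hV'N hV'ne
  have hf₀' : IsMapOn F V' (f₀ ∘ kγ) := hkγ.comp hf₀ hkγV
  have hf₀'V : IsImage V' (f₀ ∘ kγ) Vs := IsImage.comp (isImage_inv_of le_rfl hV' hkγγ) hf₀V
  have hf₀'P : IsImage Ph (f₀ ∘ kγ) Ps := IsImage.comp (isImage_inv_of hPV.le hγP hkγγ) hf₀P
  obtain ⟨κ₂, hκ₂, ψ₂, hψ₂', hψ₂ext⟩ := hext V' Ph (f₀ ∘ kγ) hf₀' hf₀'V hPV'.le hf₀'P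
  have hψ₂ : IsMapOn F (normalizerIn S V' ⊓ normalizerIn S Ph) ψ₂ := hψ₂'.mono le_sup_right
  have hψ₂P : IsImage Ph ψ₂ Ps := isImage_of_ext hκ₂.2 hPsVs hPV'.le hf₀'P hψ₂ext
  -- the map `N_S(P*) → N_S(P̂)`
  have hPsconj : F.IsConj Ps Ph :=
    Cfsg.Agent.Lib.Helper84_Fusion.isConj_symm F (isConj_of_isImage (hf₀.mono hPV.le) hf₀P)
  obtain ⟨φs, hφs, hφsP⟩ := hpi Ps hPsconj
  obtain ⟨Ms, hMs, -⟩ := exists_isImage hφs
  obtain ⟨ks, hks, hksφ, -, -⟩ := hφs.inv hMs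
  -- `a = φs ∘ ψ` and `b = φs ∘ ψ₂`
  have hV₁N : normalizerIn S V ⊓ normalizerIn S Ph ≤ normalizerIn S Ph := inf_le_right
  have hV₁'N : normalizerIn S V' ⊓ normalizerIn S Ph ≤ normalizerIn S Ph := inf_le_right
  have hPhV₁ : Ph ≤ normalizerIn S V ⊓ normalizerIn S Ph := hPV.le.trans hlt₁.le
  have hPhV₁' : Ph ≤ normalizerIn S V' ⊓ normalizerIn S Ph := hPV'.le.trans hlt₁'.le
  have hψN : ∀ x ∈ normalizerIn S V ⊓ normalizerIn S Ph, ψ x ∈ normalizerIn S Ps := fun x hx =>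
    ⟨hψ.mem hx, map_mem_normalizer hψ hPhV₁ hψP hx hx.2.2⟩
  have hψ₂N : ∀ x ∈ normalizerIn S V' ⊓ normalizerIn S Ph, ψ₂ x ∈ normalizerIn S Ps := fun x hx =>
    ⟨hψ₂.mem hx, map_mem_normalizer hψ₂ hPhV₁' hψ₂P hx hx.2.2⟩
  have ha : IsMapOn F (normalizerIn S V ⊓ normalizerIn S Ph) (φs ∘ ψ) := hψ.comp hφs hψN
  have hb : IsMapOn F (normalizerIn S V' ⊓ normalizerIn S Ph) (φs ∘ ψ₂) := hψ₂.comp hφs hψ₂N
  have haP : IsImage Ph (φs ∘ ψ) Ph := IsImage.comp hψP hφsP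
  have hbP : IsImage Ph (φs ∘ ψ₂) Ph := IsImage.comp hψ₂P hφsP
  have hfinV₁ : Finite (normalizerIn S V ⊓ normalizerIn S Ph : Subgroup Ω) := hfin (hV₁N.trans hNS)
  have hfinV₁' : Finite (normalizerIn S V' ⊓ normalizerIn S Ph : Subgroup Ω) :=
    hfin (hV₁'N.trans hNS)
  have hExta : Ext F Ph Y (φs ∘ ψ) :=
    IH _ _ (card_lt_of_lt hlt₁) (lt_of_lt_of_le hPV hlt₁.le) hV₁N ha haP
  have hExtb : Ext F Ph Y (φs ∘ ψ₂) := by
    have hV'S : V' ≤ S := hV'N.trans hNS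
    have hfinV' : Finite V' := hfin hV'S
    have h1 : Nat.card V < Nat.card (normalizerIn S V' ⊓ normalizerIn S Ph : Subgroup Ω) := by
      rw [← hcardV']
      exact card_lt_of_lt hlt₁'
    exact IH _ _ h1 (lt_of_lt_of_le hPV' hlt₁'.le) hV₁'N hb hbP
  -- the element outside `V*`
  have hout : ∃ g, g ∈ normalizerIn S Vs ∧ g ∈ normalizerIn S Ps ∧ φs g ∈ NY S Ph Y ∧ g ∉ Vs := by
    obtain ⟨x₀, hx₀Q, hx₀V, hx₀N⟩ := exists_normalizing_outside hS hVS hQS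
      (fun v hv q hq => NY_normal hY hPhS (hVN hv) hq) hQV
    have hx₀V₁ : x₀ ∈ normalizerIn S V ⊓ normalizerIn S Ph :=
      ⟨⟨hQS hx₀Q, hx₀N⟩, NY_le_normalizerIn Ph Y hx₀Q⟩
    refine ⟨ψ x₀, ⟨hψ.mem hx₀V₁, map_mem_normalizer hψ hlt₁.le hψV hx₀V₁ hx₀N⟩, hψN x₀ hx₀V₁, ?_, ?_⟩
    · exact map_mem_NY hY.normal ha hPhV₁ haP hx₀V₁ hx₀Q
    · intro h
      obtain ⟨v, hv, hvx⟩ := (hψV _).1 h
      have := hψ.injOn (hlt₁.le hv) hx₀V₁ hvx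
      exact hx₀V (this ▸ hv)
  -- `δ = κ₂ κ₁⁻¹`
  have hδ : κ₂ * κ₁⁻¹ ∈ F.autGroup Vs ⊓ stab Vs Ps :=
    Subgroup.mul_mem _ hκ₂ (Subgroup.inv_mem _ hκ₁)
  have hExtc := ext_of_stab hS F hY hPsVs hVsN hrec hsyl hφs hφsP hMs hks hksφ hout
    (fun W θ hcard => IH W θ (hcardVs ▸ hcard)) hδ
  -- the relation `b ∘ γ = c ∘ a` on `P̂`
  have hrel : ∀ x ∈ V, ψ₂ (γ x) = extFun (κ₂ * κ₁⁻¹) (ψ x) := by
    intro x hx
    rw [hψ₂ext _ (hV'.mem hx), Function.comp_apply, hkγγ x hx, hψext x hx,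
      extFun_mul _ _ (extFun_mem κ₁ (hf₀V.mem hx)), extFun_inv_apply κ₁ (hf₀V.mem hx)]
  have haSub : ∀ x ∈ Ph, (φs ∘ ψ) x ∈ Ph := fun x hx => haP.mem hx
  have hbSub : ∀ x ∈ Ph, (φs ∘ ψ₂) x ∈ Ph := fun x hx => hbP.mem hx
  have hγSub : ∀ x ∈ Ph, γ x ∈ Ph := fun x hx => hγP.mem hx
  have hExtca := Ext.comp hY hPhS hExta hExtc haSub
  have hExtbγ : Ext F Ph Y ((φs ∘ ψ₂) ∘ γ) := by
    refine hExtca.congr (fun x hx => ?_)
    simp only [Function.comp_apply]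
    rw [hrel x (hPV.le hx), hksφ _ (hψN x (hPhV₁ hx))]
  exact Ext.cancel_left hY hPhS hExtb hExtbγ hbSub hγSub

end Cfsg.Agent.Lib.Helper85_SatCrit7
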