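import Cfsg.Agent.Lib.Helper85_SatCrit7

/-!
# Saturation criterion, part 8 (helper85): all automorphisms of `P̂` extend to `N_S^Y(P̂)`

Combining Claim B with the chain decomposition.
-/

set_option autoImplicit false

namespace Cfsg.Agent.Lib.Helper85_SatCrit8

open Cfsg Cfsg.FusionSystem Cfsg.Agent.Lib.Helper87_Alperin Cfsg.Agent.Lib.Helper88_Centric
  Cfsg.Agent.Lib.Helper84_RelSylow Cfsg.Agent.Lib.Helper88_AutInv Cfsg.Agent.Lib.Helper85_SatCrit1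
  Cfsg.Agent.Lib.Helper85_SatCrit2 Cfsg.Agent.Lib.Helper85_SatCrit3 Cfsg.Agent.Lib.Helper85_SatCrit4
  Cfsg.Agent.Lib.Helper85_SatCrit5 Cfsg.Agent.Lib.Helper85_SatCrit6 Cfsg.Agent.Lib.Helper85_SatCrit7
  Cfsg.Agent.Lib.Helper88_Centric2

variable {Ω : Type*} [Group Ω] {S : Subgroup Ω}

theorem ext_id {F : FusionSystem S} {Ph : Subgroup Ω} {Y : Subgroup (MulAut Ph)} :
    Ext F Ph Y (fun x => x) :=
  ⟨fun x => x, IsMapOn.id F ((NY_le_normalizerIn Ph Y).trans (normalizerIn_le S Ph)), fun _ _ => rfl⟩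

/-- Along a chain ending in `P̂`, the composite with the inverse of the normalizer map extends. -/
theorem ext_of_chain [Finite S] {p : ℕ} [Fact p.Prime] (hS : IsPGroup p S) (F : FusionSystem S) {n : ℕ}
    (hbig : Big p F n) {Ph : Subgroup Ω} (hPhn : Nat.card Ph = n) (hPhS : Ph ≤ S)
    (hpi : ∀ P, F.IsConj P Ph → Pi F Ph P) {Y : Subgroup (MulAut Ph)} (hY : YHyp p F Ph Y)
    {P : Subgroup Ω} {f : Ω → Ω} (hc : Chain F P f) (himg : IsImage P f Ph) :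
    ∀ (φ k : Ω → Ω) (M : Subgroup Ω), IsMapOn F (normalizerIn S P) φ → IsImage P φ Ph →
      IsImage (normalizerIn S P) φ M → IsMapOn F M k → (∀ x ∈ normalizerIn S P, k (φ x) = x) →
      Ext F Ph Y (f ∘ k) := by
  induction hc with
  | @refl P₀ f₀ hP hf =>
    intro φ k M hφ hφP hM hk hkφ
    have h := Chain.isImage_id hf himg
    subst h
    -- `φ` restricted to `N_S^Y(P̂)` extends `φ` on `P̂`
    have hExtφ : Ext F Ph Y φ := ⟨φ, hφ.mono (NY_le_normalizerIn Ph Y), fun _ _ => rfl⟩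
    have hPN : Ph ≤ normalizerIn S Ph := le_normalizerIn hP
    have hkP : ∀ x ∈ Ph, k x ∈ Ph := by
      intro y hy
      obtain ⟨x, hx, rfl⟩ := (hφP y).1 hy
      rw [hkφ x (hPN hx)]
      exact hx
    have hφk : ∀ y ∈ Ph, φ (k y) = y := by
      intro y hy
      obtain ⟨x, hx, rfl⟩ := (hφP y).1 hy
      rw [hkφ x (hPN hx)]
    have h1 : Ext F Ph Y (φ ∘ k) := ext_id.congr (fun y hy => (hφk y hy).symm)
    have h2 := Ext.cancel_left hY hP hExtφ h1 (fun x hx => hφP.mem hx) hkP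
    exact h2.congr (fun y hy => by rw [Function.comp_apply, hf _ (hkP y hy)])
  | @step P₀ R P₁ g₁ f₁ h₁ hPR hg himg₁ hc₁ hh ih =>
    intro φ k M hφ hφP hM hk hkφ
    have himg' : IsImage P₁ f₁ Ph := by
      intro y
      rw [himg y]
      constructor
      · rintro ⟨x, hx, rfl⟩
        exact ⟨g₁ x, himg₁.mem hx, (hh x hx).symm⟩
      · rintro ⟨z, hz, rfl⟩
        obtain ⟨x, hx, rfl⟩ := (himg₁ z).1 hz
        exact ⟨x, hx, hh x hx⟩
    have hRS : R ≤ S := hg.le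
    have hP₀S : P₀ ≤ S := hPR.le.trans hRS
    have hfin : ∀ {X : Subgroup Ω}, X ≤ S → Finite X := fun h =>
      Cfsg.Agent.Lib.Helper84_FusionRS.finite_of_le_S h
    have hfinR : Finite R := hfin hRS
    have hP₀N : P₀ ≤ normalizerIn S P₀ := le_normalizerIn hP₀S
    -- the class
    have hP₁conj : F.IsConj P₁ Ph := isConj_of_isImage hc₁.isMapOn himg'
    obtain ⟨φ₁, hφ₁, hφ₁P⟩ := hpi P₁ hP₁conj
    obtain ⟨M₁, hM₁, -⟩ := exists_isImage hφ₁
    obtain ⟨k₁, hk₁, hk₁φ, -, -⟩ := hφ₁.inv hM₁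
    have hExt₁ := ih himg' φ₁ k₁ M₁ hφ₁ hφ₁P hM₁ hk₁ hk₁φ
    have hP₁S : P₁ ≤ S := IsImage.le (hg.mono hPR.le) himg₁
    have hP₁N : P₁ ≤ normalizerIn S P₁ := le_normalizerIn hP₁S
    -- `R₁ = N_R(P₀)` and its image `V`
    have hlt : P₀ < normalizerIn R P₀ := lt_normalizerIn (S := R) (hS.to_le hRS) hPR.le hPR.ne
    have hle : normalizerIn R P₀ ≤ normalizerIn S P₀ := fun x hx => ⟨hRS hx.1, hx.2⟩
    have hleR : normalizerIn R P₀ ≤ R := inf_le_left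
    obtain ⟨V, hV, -⟩ := exists_isImage_of_le hφ hle
    have hPV : Ph < V := IsImage.lt (hφ.mono hle) hlt hφP hV
    have hVN : V ≤ normalizerIn S Ph := IsImage.le_normalizerIn (hφ.mono hle) hlt.le hle hφP hV
    have hVM : V ≤ M := by
      intro y hy
      obtain ⟨x, hx, rfl⟩ := (hV y).1 hy
      exact hM.mem (hle hx)
    have hkV : ∀ y ∈ V, k y ∈ normalizerIn R P₀ := by
      intro y hy
      obtain ⟨x, hx, rfl⟩ := (hV y).1 hy
      rw [hkφ x (hle hx)]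
      exact hx
    -- `γ = φ₁ ∘ g₁ ∘ k` on `V`
    have hg₁N : ∀ x ∈ normalizerIn R P₀, g₁ x ∈ normalizerIn S P₁ := fun x hx =>
      ⟨hg.mem hx.1, map_mem_normalizer hg hPR.le himg₁ hx.1 hx.2⟩
    have hγ : IsMapOn F V (φ₁ ∘ (g₁ ∘ k)) :=
      ((hk.mono hVM).comp (hg.mono hleR) hkV).comp hφ₁ (fun y hy => hg₁N _ (hkV y hy))
    have hkP : IsImage Ph k P₀ := isImage_inv_of hP₀N hφP hkφ
    have hγP : IsImage Ph (φ₁ ∘ (g₁ ∘ k)) Ph := IsImage.comp (IsImage.comp hkP himg₁) hφ₁P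
    have hExtγ := claimB hS F hbig hPhn hPhS hpi hY _ V _ rfl hPV hVN hγ hγP
    have h3 := Ext.comp hY hPhS hExtγ hExt₁ (fun x hx => hγP.mem hx)
    refine h3.congr (fun y hy => ?_)
    simp only [Function.comp_apply]
    have hky : k y ∈ P₀ := hkP.mem hy
    rw [hk₁φ _ (hP₁N (himg₁.mem hky)), hh _ hky]

/-- Every automorphism of `P̂` in the system extends to `N_S^Y(P̂)`. -/
theorem ext_all [Finite S] {p : ℕ} [Fact p.Prime] (hS : IsPGroup p S) (F : FusionSystem S) {n : ℕ}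
    (hbig : Big p F n) {Ph : Subgroup Ω} (hPhn : Nat.card Ph = n) (hPhS : Ph ≤ S)
    (hpi : ∀ P, F.IsConj P Ph → Pi F Ph P) {Y : Subgroup (MulAut Ph)} (hY : YHyp p F Ph Y)
    (hchain : ∀ (P : Subgroup Ω) (f : Ω → Ω), F.IsConj P Ph → IsMapOn F P f → Chain F P f)
    {γ : Ω → Ω} (hγ : IsMapOn F Ph γ) (hγP : IsImage Ph γ Ph) : Ext F Ph Y γ := by
  have hc := hchain Ph γ (Cfsg.Agent.Lib.Helper84_Fusion.isConj_refl F hPhS) hγ
  have h := ext_of_chain hS F hbig hPhn hPhS hpi hY hc hγP (fun x => x) (fun x => x)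
    (normalizerIn S Ph) (IsMapOn.id F (normalizerIn_le S Ph)) (isImage_id Ph)
    (isImage_id _) (IsMapOn.id F (normalizerIn_le S Ph)) (fun _ _ => rfl)
  exact h.congr (fun _ _ => rfl)

end Cfsg.Agent.Lib.Helper85_SatCrit8
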