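import Cfsg.Agent.Lib.Helper85_SatCrit8

/-!
# Saturation criterion, part 9 (helper85): Step C

If `Q̂ = N_S^Y(P̂)` is fully automized and receptive, `Aut_S(Q̂) ∩ K` is a Sylow `p`-subgroup of
`K = Stab_{Aut_F(Q̂)}(P̂)`, and every automorphism of `P̂` in the system extends to `Q̂`, then `P̂` is fully
automized and receptive.
-/

set_option autoImplicit false

namespace Cfsg.Agent.Lib.Helper85_SatCrit9

open Cfsg Cfsg.FusionSystem Cfsg.Agent.Lib.Helper87_Alperin Cfsg.Agent.Lib.Helper88_Centric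
  Cfsg.Agent.Lib.Helper84_RelSylow Cfsg.Agent.Lib.Helper88_AutInv Cfsg.Agent.Lib.Helper85_SatCrit1
  Cfsg.Agent.Lib.Helper85_SatCrit2 Cfsg.Agent.Lib.Helper85_SatCrit3 Cfsg.Agent.Lib.Helper85_SatCrit4
  Cfsg.Agent.Lib.Helper85_SatCrit5 Cfsg.Agent.Lib.Helper85_SatCrit6 Cfsg.Agent.Lib.Helper85_SatCrit7
  Cfsg.Agent.Lib.Helper85_SatCrit8 Cfsg.Agent.Lib.Helper88_Centric2

variable {Ω : Type*} [Group Ω] {S : Subgroup Ω}

/-- Restriction to `P ≤ R` of the automorphisms of `R` stabilizing `P`. -/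
noncomputable def resAut {R P : Subgroup Ω} (hPR : P ≤ R) : stab R P →* MulAut P where
  toFun κ :=
    { toFun := fun x => ⟨((κ : MulAut R) ⟨x, hPR x.2⟩ : R), (κ.2 ⟨x, hPR x.2⟩).1 x.2⟩
      invFun := fun x => ⟨((κ : MulAut R)⁻¹ ⟨x, hPR x.2⟩ : R),
        (((stab R P).inv_mem κ.2) ⟨x, hPR x.2⟩).1 x.2⟩
      left_inv := fun x => by
        apply Subtype.ext
        show (((κ : MulAut R)⁻¹ ((κ : MulAut R) ⟨x, hPR x.2⟩) : R) : Ω) = x
        rw [MulAut.inv_apply_self]
      right_inv := fun x => by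
        apply Subtype.ext
        show (((κ : MulAut R) ((κ : MulAut R)⁻¹ ⟨x, hPR x.2⟩) : R) : Ω) = x
        rw [MulAut.apply_inv_self]
      map_mul' := fun x y => by
        apply Subtype.ext
        show (((κ : MulAut R) (⟨x, hPR x.2⟩ * ⟨y, hPR y.2⟩) : R) : Ω) = _
        rw [map_mul]
        rfl }
  map_one' := by
    ext x
    rfl
  map_mul' := fun κ₁ κ₂ => by
    ext x
    rfl

theorem resAut_apply {R P : Subgroup Ω} (hPR : P ≤ R) (κ : stab R P) (x : P) :
    ((resAut hPR κ x : P) : Ω) = extFun (κ : MulAut R) x := by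
  rw [extFun_apply _ (hPR x.2)]
  rfl

/-- **Step C, fully automized.** -/
theorem fa_of_ext [Finite S] {p : ℕ} [Fact p.Prime] (F : FusionSystem S)
    {Ph : Subgroup Ω} (hPhS : Ph ≤ S) {Y : Subgroup (MulAut Ph)} (hY : YHyp p F Ph Y)
    (hQsyl : IsSylowIn p
      (autInducedBy S (NY S Ph Y) ⊓ (F.autGroup (NY S Ph Y) ⊓ stab (NY S Ph Y) Ph))
      (F.autGroup (NY S Ph Y) ⊓ stab (NY S Ph Y) Ph))
    (hB : ∀ γ : Ω → Ω, IsMapOn F Ph γ → IsImage Ph γ Ph → Ext F Ph Y γ) :
    F.IsFullyAutomized p Ph := by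
  classical
  have hPQ : Ph ≤ NY S Ph Y := le_NY hPhS hY.inn
  have hQN : NY S Ph Y ≤ normalizerIn S Ph := NY_le_normalizerIn Ph Y
  have hQS : NY S Ph Y ≤ S := hQN.trans (normalizerIn_le S Ph)
  have hfinQ : Finite (NY S Ph Y) := Cfsg.Agent.Lib.Helper84_FusionRS.finite_of_le_S hQS
  have hfinP : Finite Ph := Cfsg.Agent.Lib.Helper84_FusionRS.finite_of_le_S hPhS
  set K : Subgroup (MulAut (NY S Ph Y)) := F.autGroup (NY S Ph Y) ⊓ stab (NY S Ph Y) Ph with hKdef
  let f : ↥K →* MulAut Ph := (resAut hPQ).comp (Subgroup.inclusion (inf_le_right : K ≤ stab _ Ph))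
  have hf_apply : ∀ (κ : K) (x : Ph), ((f κ x : Ph) : Ω) = extFun (κ : MulAut (NY S Ph Y)) x :=
    fun κ x => resAut_apply hPQ _ x
  have hrange : f.range = F.autGroup Ph := by
    ext α
    constructor
    · rintro ⟨κ, rfl⟩
      rw [mem_autGroup_iff F hPhS]
      have h1 : IsMapOn F (NY S Ph Y) (extFun (κ : MulAut (NY S Ph Y))) :=
        (mem_autGroup_iff F hQS _).1 κ.2.1
      exact (h1.mono hPQ).congr (fun x hx => by
        rw [extFun_apply (f κ) hx, hf_apply])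
    · intro hα
      have h1 := (mem_autGroup_iff F hPhS α).1 hα
      obtain ⟨γ', hγ', hγ'ext⟩ := hB _ h1 (isImage_extFun α)
      have hγ'P : IsImage Ph γ' Ph :=
        IsImage.congr (isImage_extFun α) (fun x hx => (hγ'ext x hx).symm)
      have hγ'Q := ext_image hY hPhS hγ' hγ'P
      obtain ⟨κ, hκ, hκf⟩ := exists_aut_of_isMapOn hγ' (fun x hx => hγ'Q.mem hx)
      have hκstab : κ ∈ stab (NY S Ph Y) Ph := by
        intro x
        rw [hκf x]
        exact (mem_iff_of_isImage hγ' hPQ hγ'P x.2).symm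
      refine ⟨⟨κ, hκ, hκstab⟩, ?_⟩
      ext x
      rw [hf_apply]
      show extFun κ x = α x
      rw [extFun_apply κ (hPQ x.2), hκf, hγ'ext _ x.2, extFun_coe]
  have hfinK : Finite K := inferInstance
  have hfinR : Finite f.range := inferInstance
  have h1 := isSylowIn_of_sylow ((hQsyl.toSylow).mapSurjective f.rangeRestrict_surjective)
  have h2 : (((hQsyl.toSylow).mapSurjective f.rangeRestrict_surjective : Sylow p f.range) :
      Subgroup f.range).map f.range.subtype = autInducedBy S Ph := by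
    rw [Sylow.coe_mapSurjective, Subgroup.map_map, MonoidHom.subtype_comp_rangeRestrict,
      hQsyl.coe_toSylow]
    ext α
    constructor
    · rintro ⟨κ, hκ, rfl⟩
      rw [SetLike.mem_coe, Subgroup.mem_subgroupOf] at hκ
      obtain ⟨g, hgS, hg⟩ := (mem_autInducedBy_iff S _ _).1 hκ.1
      refine (mem_autInducedBy_iff S Ph _).2 ⟨g, hgS, fun x => ?_⟩
      rw [hf_apply, extFun_apply _ (hPQ x.2), hg]
    · intro hα
      obtain ⟨g, hgS, hg⟩ := (mem_autInducedBy_iff S Ph α).1 hα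
      have hgN : g ∈ normalizerIn S Ph :=
        ⟨hgS, Cfsg.Agent.Lib.Helper84_FusionRS.mem_normalizer_of_aut α g hg⟩
      obtain ⟨κ, hκ, hκf⟩ := exists_aut_of_isMapOn (IsMapOn.conj F hQS hgS)
        (fun x hx => NY_normal hY hPhS hgN hx)
      have hκA : κ ∈ autInducedBy S (NY S Ph Y) :=
        (mem_autInducedBy_iff S _ κ).2 ⟨g, hgS, fun x => hκf x⟩
      have hκstab : κ ∈ stab (NY S Ph Y) Ph := by
        intro x
        rw [hκf x]
        exact hgN.2 x
      refine ⟨⟨κ, hκ, hκstab⟩, ?_, ?_⟩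
      · rw [SetLike.mem_coe, Subgroup.mem_subgroupOf]
        exact ⟨hκA, hκ, hκstab⟩
      · ext x
        rw [hf_apply]
        show extFun κ x = α x
        rw [extFun_apply κ (hPQ x.2), hκf, hg]
  rw [h2, hrange] at h1
  exact Cfsg.Agent.Lib.Helper84_FusionRS.isFullyAutomized_of_isSylowIn F hPhS h1

end Cfsg.Agent.Lib.Helper85_SatCrit9
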