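import Mathlib
import Cfsg.Agent.Lib.Helper85_Sp2Defs
import Cfsg.Agent.Lib.Helper85_Sp2Basic
import Cfsg.Prelude.Def_Classical

set_option autoImplicit false

namespace Cfsg.Agent.Lib.Helper85_Sp2_EXIST

open Cfsg.Agent.Lib.Helper85_Sp2Defs Cfsg.Agent.Lib.Helper85_Sp2Basic

variable {𝒢 : Type*} {F : Type*} {U : Type*} [Group 𝒢] [Field F] [Fintype F]
  [AddCommGroup U] [Module F U] [Fintype U]

theorem exists_index [Finite 𝒢] (hF : Fintype.card F = 2) (D : SpAct 𝒢 F U) (m : ℕ)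
    (hcls : ∀ Q : QF D.β,
      (0 < gsum Q → Nat.card {Q' : QF D.β // SameType Q Q'} = 2 ^ (m - 1) * (2 ^ m + 1)) ∧
      (¬ 0 < gsum Q → Nat.card {Q' : QF D.β // SameType Q Q'} = 2 ^ (m - 1) * (2 ^ m - 1)))
    (hboth : (∃ Q : QF D.β, 0 < gsum Q) ∧ (∃ Q : QF D.β, ¬ 0 < gsum Q))
    (htrans : ∀ Q Q' : QF D.β, SameType Q Q' → ∃ g : 𝒢, D.Moves g Q Q') :
    ∃ H : Subgroup 𝒢, H.index = 2 ^ (m - 1) * (2 ^ m - 1) := by
  classical
  obtain ⟨Q, hQ⟩ := hboth.2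
  letI : MulAction 𝒢 (QF D.β) := D.qfAct
  refine ⟨MulAction.stabilizer 𝒢 Q, ?_⟩
  have hset : (MulAction.orbit 𝒢 Q) = {Q' : QF D.β | SameType Q Q'} := by
    ext Q'
    constructor
    · rintro ⟨g, rfl⟩
      exact sameType_of_moves D g Q (g • Q) (fun _ => rfl)
    · intro h
      obtain ⟨g, hg⟩ := htrans Q Q' h
      refine ⟨g, ?_⟩
      apply Subtype.ext
      funext x
      exact (hg x).symm
  rw [MulAction.index_stabilizer, hset, ← (hcls Q).2 hQ, ← Nat.card_coe_set_eq]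
  rfl

end Cfsg.Agent.Lib.Helper85_Sp2_EXIST
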