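import Mathlib
import Cfsg.Agent.Lib.Helper85_Sp2Defs
import Cfsg.Agent.Lib.Helper85_Sp2Basic
import Cfsg.Prelude.Def_Classical

set_option autoImplicit false

namespace Cfsg.Agent.Lib.Helper85_Sp2_IND1

open Cfsg.Agent.Lib.Helper85_Sp2Defs Cfsg.Agent.Lib.Helper85_Sp2Basic

variable {𝒢 : Type*} {F : Type*} {U : Type*} [Group 𝒢] [Field F] [Fintype F]
  [AddCommGroup U] [Module F U] [Fintype U]

/-- the `W`-component of `x` -/
theorem wcomp_mem (hF : Fintype.card F = 2) (D : SpAct 𝒢 F U) (v vs : U) (hvs : D.β v vs = 1)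
    (x : U) : x + D.β x vs • v + D.β x v • vs ∈ D.WSub v vs := by
  have hsv : D.β vs v = 1 := by rw [beta_symm hF D vs v]; exact hvs
  rw [D.mem_WSub]
  constructor
  · simp only [map_add, LinearMap.add_apply, map_smul, LinearMap.smul_apply, smul_eq_mul, D.alt,
      hsv, mul_zero, add_zero, mul_one]
    exact F2_add_self hF _
  · simp only [map_add, LinearMap.add_apply, map_smul, LinearMap.smul_apply, smul_eq_mul, D.alt,
      hvs, mul_zero, add_zero, mul_one]
    exact F2_add_self hF _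

theorem act_mem (hF : Fintype.card F = 2) (D : SpAct 𝒢 F U) (v vs : U) (hvs : D.β v vs = 1)
    (p : 𝒢) (hp : D.ρ p v = v) (w : U) (hw : w ∈ D.WSub v vs) :
    D.ρ p w + D.β (D.ρ p w) vs • v ∈ D.WSub v vs := by
  have h1 : D.β (D.ρ p w) v = 0 := by
    have := D.pres p w v
    rw [hp] at this
    rw [this]; exact hw.1
  rw [D.mem_WSub]
  constructor
  · simp only [map_add, LinearMap.add_apply, map_smul, LinearMap.smul_apply, smul_eq_mul, D.alt,
      h1, mul_zero, add_zero]
  · simp only [map_add, LinearMap.add_apply, map_smul, LinearMap.smul_apply, smul_eq_mul,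
      hvs, mul_one]
    exact F2_add_self hF _

/-- the induced endomorphism of `W` -/
def rhoW (hF : Fintype.card F = 2) (D : SpAct 𝒢 F U) (v vs : U) (hvs : D.β v vs = 1)
    (p : ↥(D.Pstab v)) : AddMonoid.End ↥(D.WSub v vs) where
  toFun w := ⟨D.ρ (p : 𝒢) (w : U) + D.β (D.ρ (p : 𝒢) (w : U)) vs • v,
    act_mem hF D v vs hvs p p.2 w w.2⟩
  map_zero' := by
    apply Subtype.ext
    simp
  map_add' a b := by
    apply Subtype.ext
    simp only [Submodule.coe_add, map_add, LinearMap.add_apply, add_smul]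
    abel

theorem rhoW_coe (hF : Fintype.card F = 2) (D : SpAct 𝒢 F U) (v vs : U) (hvs : D.β v vs = 1)
    (p : ↥(D.Pstab v)) (w : ↥(D.WSub v vs)) :
    ((rhoW hF D v vs hvs p w : ↥(D.WSub v vs)) : U) =
      D.ρ (p : 𝒢) (w : U) + D.β (D.ρ (p : 𝒢) (w : U)) vs • v := rfl

/-- the induced action as a monoid hom -/
def rhoWHom (hF : Fintype.card F = 2) (D : SpAct 𝒢 F U) (v vs : U) (hvs : D.β v vs = 1) :
    ↥(D.Pstab v) →* AddMonoid.End ↥(D.WSub v vs) where
  toFun := rhoW hF D v vs hvs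
  map_one' := by
    ext w
    rw [rhoW_coe]
    simp only [Subgroup.coe_one, D.rho_one_apply]
    rw [w.2.2, zero_smul, add_zero]
    rfl
  map_mul' p q := by
    ext w
    have hp : D.ρ (p : 𝒢) v = v := p.2
    show ((rhoW hF D v vs hvs (p * q) w : ↥(D.WSub v vs)) : U) =
      ((rhoW hF D v vs hvs p (rhoW hF D v vs hvs q w) : ↥(D.WSub v vs)) : U)
    rw [rhoW_coe, rhoW_coe, rhoW_coe]
    simp only [Subgroup.coe_mul, D.rho_mul_apply, map_add, rho_smul hF, hp, LinearMap.add_apply,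
      map_smul, LinearMap.smul_apply, smul_eq_mul, hvs, mul_one, add_smul]
    have h2 := D.two (D.β (D.ρ (q : 𝒢) (w : U)) vs • v)
    have h3 : D.β (D.ρ (q : 𝒢) (w : U)) vs • v +
        (D.β (D.ρ (p : 𝒢) (D.ρ (q : 𝒢) (w : U))) vs • v + D.β (D.ρ (q : 𝒢) (w : U)) vs • v) =
        D.β (D.ρ (p : 𝒢) (D.ρ (q : 𝒢) (w : U))) vs • v := by
      rw [add_comm (D.β (D.ρ (p : 𝒢) (D.ρ (q : 𝒢) (w : U))) vs • v), ← add_assoc, h2, zero_add]
    rw [add_assoc, h3]

theorem exists_induced (hF : Fintype.card F = 2) (D : SpAct 𝒢 F U) (v vs : U)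
    (hvs : D.β v vs = 1) :
    ∃ DW : SpAct ↥(D.Pstab v) F ↥(D.WSub v vs), D.IsInduced v vs DW := by
  have hsv : D.β vs v = 1 := by rw [beta_symm hF D vs v]; exact hvs
  refine ⟨{ β := D.β.restrict (D.WSub v vs)
            ρ := rhoWHom hF D v vs hvs
            alt := fun x => D.alt x
            nondeg := ?_
            pres := ?_
            two := fun x => Subtype.ext (D.two x) }, ?_⟩
  · -- nondegenerate
    intro w hw
    apply Subtype.ext
    apply D.nondeg
    intro x
    have hx := hw ⟨_, wcomp_mem hF D v vs hvs x⟩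
    have hx' : D.β (w : U) (x + D.β x vs • v + D.β x v • vs) = 0 := hx
    simp only [map_add, map_smul, smul_eq_mul, w.2.1, w.2.2, mul_zero, add_zero] at hx'
    exact hx'
  · -- preserved
    intro p w w'
    have hp : D.ρ (p : 𝒢) v = v := p.2
    have h1 : ∀ z : ↥(D.WSub v vs), D.β (D.ρ (p : 𝒢) (z : U)) v = 0 := by
      intro z
      have := D.pres p z v
      rw [hp] at this
      rw [this]; exact z.2.1
    have h1' : ∀ z : ↥(D.WSub v vs), D.β v (D.ρ (p : 𝒢) (z : U)) = 0 := by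
      intro z; rw [beta_symm hF D]; exact h1 z
    show D.β ((rhoW hF D v vs hvs p w : ↥(D.WSub v vs)) : U)
      ((rhoW hF D v vs hvs p w' : ↥(D.WSub v vs)) : U) = D.β (w : U) (w' : U)
    rw [rhoW_coe, rhoW_coe]
    simp only [map_add, LinearMap.add_apply, map_smul, LinearMap.smul_apply, smul_eq_mul, h1, h1',
      D.alt, mul_zero, add_zero]
    exact D.pres p w w'
  · exact ⟨fun w w' => rfl, fun p w => rfl⟩

end Cfsg.Agent.Lib.Helper85_Sp2_IND1
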