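import Mathlib
import Cfsg.Agent.Lib.Helper85_Sp2Defs
import Cfsg.Agent.Lib.Helper85_Sp2Basic
import Cfsg.Prelude.Def_Classical

/-!
# S2142 package BURN (helper89, for architect helper85)

Orbit counting: an element of `H` fixes as many quadratic forms as vectors (the fixed forms are a
torsor under the fixed vectors), so `H` has as many orbits on `U` as on the forms, namely two.
-/

set_option autoImplicit false
set_option linter.style.haveILetI false

namespace Cfsg.Agent.Lib.Helper89_Sp2_BURN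

open Cfsg.Agent.Lib.Helper85_Sp2Defs Cfsg.Agent.Lib.Helper85_Sp2Basic

variable {𝒢 : Type*} {F : Type*} {U : Type*} [Group 𝒢] [Field F] [Fintype F]
  [AddCommGroup U] [Module F U] [Fintype U]

theorem trans_of_forms [Finite 𝒢] (hF : Fintype.card F = 2) (D : SpAct 𝒢 F U) (H : Subgroup 𝒢)
    (hfix : ∀ g : 𝒢, ∃ Q : QF D.β, D.FixesQ g Q)
    (hboth : (∃ Q : QF D.β, 0 < gsum Q) ∧ (∃ Q : QF D.β, ¬ 0 < gsum Q))
    (hdiff : ∀ Q Q' : QF D.β, ∃ u : U, ∀ x, Q'.1 x = Q.1 x + D.β x u)
    (h : ∀ Q Q' : QF D.β, SameType Q Q' → ∃ h ∈ H, D.Moves h Q Q') :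
    ∀ x y : U, x ≠ 0 → y ≠ 0 → ∃ h ∈ H, D.ρ h x = y := by
  classical
  letI actU : MulAction ↥H U :=
    { smul := fun a u => D.ρ (a : 𝒢) u
      one_smul := fun u => D.rho_one_apply u
      mul_smul := fun a b u => D.rho_mul_apply (a : 𝒢) (b : 𝒢) u }
  letI actQ0 : MulAction 𝒢 (QF D.β) := D.qfAct
  letI actQ : MulAction ↥H (QF D.β) := MulAction.compHom (QF D.β) H.subtype
  have hsU : ∀ (a : ↥H) (u : U), a • u = D.ρ (a : 𝒢) u := fun _ _ => rfl
  have hsQ : ∀ (a : ↥H) (Q : QF D.β) (x : U), (a • Q).1 x = Q.1 (D.ρ (a : 𝒢)⁻¹ x) :=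
    fun _ _ _ => rfl
  haveI : Fintype ↥H := Fintype.ofFinite _
  haveI : Fintype (QF D.β) := Fintype.ofFinite _
  -- fixed point counts
  have hfixcard : ∀ a : ↥H, Fintype.card (MulAction.fixedBy U a) =
      Fintype.card (MulAction.fixedBy (QF D.β) a) := by
    intro a
    obtain ⟨Q₀, hQ₀⟩ := hfix (a : 𝒢)
    have htr : ∀ u : U, a • Cfsg.Agent.Lib.Helper85_Sp2Basic.translate D Q₀ u = Cfsg.Agent.Lib.Helper85_Sp2Basic.translate D Q₀ (a • u) := by
      intro u
      apply Subtype.ext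
      funext x
      rw [hsQ, Cfsg.Agent.Lib.Helper85_Sp2Basic.translate_apply, Cfsg.Agent.Lib.Helper85_Sp2Basic.translate_apply, hsU]
      have h1 : Q₀.1 (D.ρ (a : 𝒢)⁻¹ x) = Q₀.1 x := by
        have := hQ₀ (D.ρ (a : 𝒢)⁻¹ x)
        rw [D.rho_apply_inv] at this
        exact this.symm
      have h2 : D.β (D.ρ (a : 𝒢)⁻¹ x) u = D.β x (D.ρ (a : 𝒢) u) := by
        have := D.pres (a : 𝒢) (D.ρ (a : 𝒢)⁻¹ x) u
        rw [D.rho_apply_inv] at this
        exact this.symm
      rw [h1, h2]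
    have hinj : Function.Injective (Cfsg.Agent.Lib.Helper85_Sp2Basic.translate D Q₀) := by
      intro u u' huu'
      have hb : ∀ x, D.β x (u - u') = 0 := by
        intro x
        have h1 := congrFun (congrArg Subtype.val huu') x
        rw [Cfsg.Agent.Lib.Helper85_Sp2Basic.translate_apply, Cfsg.Agent.Lib.Helper85_Sp2Basic.translate_apply] at h1
        have h2 := add_left_cancel h1
        rw [map_sub, h2, sub_self]
      have h0 : u - u' = 0 := D.nondeg _ (fun y => by rw [beta_symm hF D]; exact hb y)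
      exact sub_eq_zero.1 h0
    apply Fintype.card_congr
    refine Equiv.ofBijective (fun u => ⟨Cfsg.Agent.Lib.Helper85_Sp2Basic.translate D Q₀ u.1, ?_⟩) ⟨?_, ?_⟩
    · rw [MulAction.mem_fixedBy, htr, MulAction.mem_fixedBy.1 u.2]
    · intro u u' huu'
      exact Subtype.ext (hinj (congrArg Subtype.val huu'))
    · rintro ⟨Q, hQ⟩
      obtain ⟨u, hu⟩ := hdiff Q₀ Q
      have hQu : Q = Cfsg.Agent.Lib.Helper85_Sp2Basic.translate D Q₀ u :=
        Subtype.ext (funext fun x => by rw [hu x, Cfsg.Agent.Lib.Helper85_Sp2Basic.translate_apply])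
      refine ⟨⟨u, ?_⟩, Subtype.ext hQu.symm⟩
      rw [MulAction.mem_fixedBy]
      apply hinj
      rw [← htr, ← hQu]
      exact MulAction.mem_fixedBy.1 hQ
  have hB1 := MulAction.sum_card_fixedBy_eq_card_orbits_mul_card_group ↥H U
  have hB2 := MulAction.sum_card_fixedBy_eq_card_orbits_mul_card_group ↥H (QF D.β)
  have hcardH : 0 < Fintype.card ↥H := Fintype.card_pos
  have horb : Fintype.card (Quotient (MulAction.orbitRel ↥H U)) =
      Fintype.card (Quotient (MulAction.orbitRel ↥H (QF D.β))) := by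
    apply Nat.eq_of_mul_eq_mul_right hcardH
    rw [← hB1, ← hB2]
    exact Finset.sum_congr rfl (fun a _ => hfixcard a)
  obtain ⟨⟨Qp, hQp⟩, ⟨Qm, hQm⟩⟩ := hboth
  have hΩQ : Fintype.card (Quotient (MulAction.orbitRel ↥H (QF D.β))) = 2 := by
    rw [← Nat.card_eq_fintype_card, Nat.card_eq_two_iff]
    refine ⟨Quotient.mk _ Qp, Quotient.mk _ Qm, ?_, ?_⟩
    · intro heq
      have hrel := Quotient.exact heq
      obtain ⟨a, ha⟩ := MulAction.mem_orbit_iff.1 (MulAction.orbitRel_apply.1 hrel)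
      have hm : D.Moves (a : 𝒢) Qm Qp := by
        intro x
        rw [← ha]
        rfl
      have hs := sameType_of_moves D _ _ _ hm
      exact hQm (hs.2 hQp)
    · ext q
      simp only [Set.mem_univ, iff_true, Set.mem_insert_iff, Set.mem_singleton_iff]
      induction q using Quotient.inductionOn with
      | h Q =>
        by_cases hQ : 0 < gsum Q
        · left
          apply Quotient.sound
          obtain ⟨g, hg, hmv⟩ := h Qp Q (show SameType Qp Q from ⟨fun _ => hQ, fun _ => hQp⟩)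
          exact MulAction.orbitRel_apply.2 (MulAction.mem_orbit_iff.2
            ⟨⟨g, hg⟩, Subtype.ext (funext fun x => (hmv x).symm)⟩)
        · right
          apply Quotient.sound
          obtain ⟨g, hg, hmv⟩ := h Qm Q (show SameType Qm Q from
            ⟨fun hh => absurd hh hQm, fun hh => absurd hh hQ⟩)
          exact MulAction.orbitRel_apply.2 (MulAction.mem_orbit_iff.2
            ⟨⟨g, hg⟩, Subtype.ext (funext fun x => (hmv x).symm)⟩)
  intro x y hx hy
  have hΩU : Fintype.card (Quotient (MulAction.orbitRel ↥H U)) = 2 := horb.trans hΩQ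
  have h0 : ∀ z : U, z ≠ 0 →
      (Quotient.mk (MulAction.orbitRel ↥H U) z) ≠ Quotient.mk (MulAction.orbitRel ↥H U) 0 := by
    intro z hz heq
    obtain ⟨a, ha⟩ := MulAction.mem_orbit_iff.1 (MulAction.orbitRel_apply.1 (Quotient.exact heq))
    apply hz
    rw [← ha, hsU, map_zero]
  by_contra hcon
  have hxy : (Quotient.mk (MulAction.orbitRel ↥H U) x) ≠ Quotient.mk (MulAction.orbitRel ↥H U) y := by
    intro heq
    obtain ⟨a, ha⟩ := MulAction.mem_orbit_iff.1 (MulAction.orbitRel_apply.1 (Quotient.exact heq))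
    apply hcon
    refine ⟨((a⁻¹ : ↥H) : 𝒢), (a⁻¹).2, ?_⟩
    rw [← ha, hsU]
    show D.ρ ((a : 𝒢)⁻¹) (D.ρ (a : 𝒢) y) = y
    exact D.rho_inv_apply (a : 𝒢) y
  have : 2 < Fintype.card (Quotient (MulAction.orbitRel ↥H U)) :=
    Fintype.two_lt_card_iff.2 ⟨_, _, _, (h0 x hx).symm, (h0 y hy).symm, hxy⟩
  omega

end Cfsg.Agent.Lib.Helper89_Sp2_BURN
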