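import Mathlib
import Cfsg.Agent.Lib.Helper85_Sp2Defs
import Cfsg.Agent.Lib.Helper85_Sp2Basic
import Cfsg.Prelude.Def_Classical

/-!
# S2142 package FISHER (helper89, for architect helper85)

Fisher-type lemma: if `G` is 2-transitive on the finite set `X` and `[G : H] < |X|` then `H` is
transitive on `X`.  Proof: the translates of a proper `H`-orbit form a family of at most `[G : H]`
subsets with constant point and pair degrees `r > l`; the incidence map is injective
(`card_le_of_design`, a generalized Fisher inequality).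
-/

set_option autoImplicit false

namespace Cfsg.Agent.Lib.Helper89_Sp2_FISHER

open Finset

/-- Generalized Fisher inequality: a family of subsets of `X` in which every point lies in `r`
members and every pair of distinct points in `l < r` members has at least `|X|` members. -/
theorem card_le_of_design {X : Type*} [Fintype X] [DecidableEq X] (𝒯 : Finset (Finset X))
    (r l : ℕ) (hlr : l < r) (hdiag : ∀ x : X, (𝒯.filter (fun T => x ∈ T)).card = r)
    (hoff : ∀ x x' : X, x ≠ x' → (𝒯.filter (fun T => x ∈ T ∧ x' ∈ T)).card = l) :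
    Fintype.card X ≤ 𝒯.card := by
  classical
  -- the incidence map
  let L : (X → ℚ) →ₗ[ℚ] (↥𝒯 → ℚ) :=
    { toFun := fun w T => ∑ x ∈ T.1, w x
      map_add' := by
        intro w w'
        funext T
        simp [Finset.sum_add_distrib]
      map_smul' := by
        intro c w
        funext T
        simp [Finset.mul_sum] }
  have hL : ∀ w T, L w T = ∑ x ∈ T.1, w x := fun w T => rfl
  -- the quadratic identity
  have hquad : ∀ w : X → ℚ, ∑ T ∈ 𝒯, (∑ x ∈ T, w x) ^ 2 =
      ((r : ℚ) - l) * ∑ x, w x ^ 2 + (l : ℚ) * (∑ x, w x) ^ 2 := by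
    intro w
    have h1 : ∀ T : Finset X, (∑ x ∈ T, w x) ^ 2 =
        ∑ x, ∑ x', (if x ∈ T ∧ x' ∈ T then w x * w x' else 0) := by
      intro T
      have e : ∑ x ∈ T, w x = ∑ x, if x ∈ T then w x else 0 := by
        rw [Finset.sum_ite_mem]
        simp
      rw [sq, e, Finset.sum_mul_sum]
      apply Finset.sum_congr rfl
      intro x _
      apply Finset.sum_congr rfl
      intro x' _
      by_cases hx : x ∈ T <;> by_cases hx' : x' ∈ T <;> simp [hx, hx']
    have h2 : ∑ T ∈ 𝒯, (∑ x ∈ T, w x) ^ 2 =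
        ∑ x, ∑ x', ((𝒯.filter (fun T => x ∈ T ∧ x' ∈ T)).card : ℚ) * (w x * w x') := by
      rw [Finset.sum_congr rfl (fun T _ => h1 T), Finset.sum_comm]
      apply Finset.sum_congr rfl
      intro x _
      rw [Finset.sum_comm]
      apply Finset.sum_congr rfl
      intro x' _
      rw [← Finset.sum_filter, Finset.sum_const, nsmul_eq_mul]
    have h3 : ∀ x x' : X, ((𝒯.filter (fun T => x ∈ T ∧ x' ∈ T)).card : ℚ) =
        (l : ℚ) + if x' = x then ((r : ℚ) - l) else 0 := by
      intro x x'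
      by_cases h : x' = x
      · subst h
        have : (𝒯.filter (fun T => x' ∈ T ∧ x' ∈ T)) = 𝒯.filter (fun T => x' ∈ T) := by
          apply Finset.filter_congr; intro T _; simp
        rw [this, hdiag]
        simp
      · rw [hoff x x' (Ne.symm h)]
        simp [h]
    rw [h2]
    have h4 : ∀ x : X, ∑ x', ((𝒯.filter (fun T => x ∈ T ∧ x' ∈ T)).card : ℚ) * (w x * w x') =
        (l : ℚ) * (w x * ∑ x', w x') + ((r : ℚ) - l) * w x ^ 2 := by
      intro x
      have : ∀ x' : X, ((𝒯.filter (fun T => x ∈ T ∧ x' ∈ T)).card : ℚ) * (w x * w x') =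
          (l : ℚ) * (w x * w x') + if x' = x then ((r : ℚ) - l) * (w x * w x') else 0 := by
        intro x'
        rw [h3 x x', add_mul]
        by_cases h : x' = x <;> simp [h]
      rw [Finset.sum_congr rfl (fun x' _ => this x'), Finset.sum_add_distrib, ← Finset.mul_sum,
        ← Finset.mul_sum, Finset.sum_ite_eq' Finset.univ x]
      simp [sq]
    rw [Finset.sum_congr rfl (fun x _ => h4 x), Finset.sum_add_distrib, ← Finset.mul_sum,
      ← Finset.mul_sum, ← Finset.sum_mul, sq]
    ring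
  -- injectivity
  have hinj : Function.Injective L := by
    rw [injective_iff_map_eq_zero]
    intro w hw
    have hz : ∀ T ∈ 𝒯, ∑ x ∈ T, w x = 0 := by
      intro T hT
      have := congrFun hw ⟨T, hT⟩
      rwa [hL] at this
    have h0 : ∑ T ∈ 𝒯, (∑ x ∈ T, w x) ^ 2 = 0 := by
      apply Finset.sum_eq_zero
      intro T hT
      rw [hz T hT]; ring
    rw [hquad w] at h0
    have hpos : (0 : ℚ) < (r : ℚ) - l := by
      have : (l : ℚ) < r := by exact_mod_cast hlr
      linarith
    have hnn1 : 0 ≤ ∑ x, w x ^ 2 := Finset.sum_nonneg (fun x _ => sq_nonneg _)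
    have hnn2 : 0 ≤ (l : ℚ) * (∑ x, w x) ^ 2 := mul_nonneg (by positivity) (sq_nonneg _)
    have hsum : ∑ x, w x ^ 2 = 0 := by
      by_contra hne
      have : 0 < ∑ x, w x ^ 2 := lt_of_le_of_ne hnn1 (Ne.symm hne)
      have := mul_pos hpos this
      linarith
    funext x
    have := (Finset.sum_eq_zero_iff_of_nonneg (fun x _ => sq_nonneg (w x))).1 hsum x
      (Finset.mem_univ x)
    simpa using this
  have := LinearMap.finrank_le_finrank_of_injective hinj
  simpa using this


open scoped Pointwise in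
theorem fisher {G : Type*} {X : Type*} [Group G] [MulAction G X] [Fintype X]
    (h2 : ∀ x y x' y' : X, x ≠ y → x' ≠ y' → ∃ g : G, g • x = x' ∧ g • y = y')
    (H : Subgroup G) (hH0 : H.index ≠ 0) (hlt : H.index < Fintype.card X) :
    ∀ x y : X, ∃ h ∈ H, h • x = y := by
  classical
  by_contra hcon
  push Not at hcon
  obtain ⟨x0, y0, hxy⟩ := hcon
  let O : Finset X := Finset.univ.filter (fun z => ∃ h ∈ H, h • x0 = z)
  have hO : ∀ z, z ∈ O ↔ ∃ h ∈ H, h • x0 = z := by
    intro z
    simp [O]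
  have hx0 : x0 ∈ O := (hO x0).2 ⟨1, H.one_mem, one_smul _ _⟩
  have hy0 : y0 ∉ O := by
    rw [hO]
    rintro ⟨h, hh, he⟩
    exact hxy h hh he
  have hne : x0 ≠ y0 := by
    rintro rfl
    exact hy0 hx0
  have hHO : ∀ h ∈ H, h • O = O := by
    intro h hh
    ext z
    rw [Finset.mem_smul_finset]
    constructor
    · rintro ⟨y, hy, rfl⟩
      obtain ⟨k, hk, rfl⟩ := (hO y).1 hy
      exact (hO _).2 ⟨h * k, H.mul_mem hh hk, mul_smul _ _ _⟩
    · intro hz
      obtain ⟨k, hk, rfl⟩ := (hO z).1 hz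
      refine ⟨h⁻¹ • k • x0, (hO _).2 ⟨h⁻¹ * k, H.mul_mem (H.inv_mem hh) hk, mul_smul _ _ _⟩, ?_⟩
      rw [smul_inv_smul]
  let 𝒯 : Finset (Finset X) := Finset.univ.filter (fun T => ∃ g : G, g • O = T)
  have h𝒯 : ∀ T, T ∈ 𝒯 ↔ ∃ g : G, g • O = T := by
    intro T
    simp [𝒯]
  have hOT : O ∈ 𝒯 := (h𝒯 O).2 ⟨1, one_smul _ _⟩
  have hsmul : ∀ (g : G) (T : Finset X), T ∈ 𝒯 → g • T ∈ 𝒯 := by
    intro g T hT
    obtain ⟨k, rfl⟩ := (h𝒯 T).1 hT
    exact (h𝒯 _).2 ⟨g * k, mul_smul _ _ _⟩
  -- invariance of the pair counts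
  have hcinv : ∀ (g : G) (x x' : X),
      (𝒯.filter (fun T => g • x ∈ T ∧ g • x' ∈ T)).card =
        (𝒯.filter (fun T => x ∈ T ∧ x' ∈ T)).card := by
    intro g x x'
    symm
    apply Finset.card_bij (fun T _ => g • T)
    · intro T hT
      rw [Finset.mem_filter] at hT ⊢
      exact ⟨hsmul g T hT.1, (Finset.smul_mem_smul_finset_iff g).2 hT.2.1,
        (Finset.smul_mem_smul_finset_iff g).2 hT.2.2⟩
    · intro T _ T' _ h
      exact MulAction.injective g h
    · intro T hT
      rw [Finset.mem_filter] at hT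
      refine ⟨g⁻¹ • T, ?_, smul_inv_smul g T⟩
      rw [Finset.mem_filter]
      exact ⟨hsmul g⁻¹ T hT.1, Finset.mem_inv_smul_finset_iff.2 hT.2.1,
        Finset.mem_inv_smul_finset_iff.2 hT.2.2⟩
  set r := (𝒯.filter (fun T => x0 ∈ T ∧ x0 ∈ T)).card with hr
  set l := (𝒯.filter (fun T => x0 ∈ T ∧ y0 ∈ T)).card with hl
  have hdiag : ∀ x : X, (𝒯.filter (fun T => x ∈ T)).card = r := by
    intro x
    have hx'' : ∃ x'' : X, x ≠ x'' := by
      by_cases h : x = x0
      · exact ⟨y0, by rw [h]; exact hne⟩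
      · exact ⟨x0, h⟩
    obtain ⟨x'', hx''⟩ := hx''
    obtain ⟨g, hg1, _⟩ := h2 x0 y0 x x'' hne hx''
    have := hcinv g x0 x0
    rw [hg1] at this
    rw [hr, ← this]
    congr 1
    apply Finset.filter_congr
    intro T _
    simp
  have hoff : ∀ x x' : X, x ≠ x' → (𝒯.filter (fun T => x ∈ T ∧ x' ∈ T)).card = l := by
    intro x x' hxx'
    obtain ⟨g, hg1, hg2⟩ := h2 x0 y0 x x' hne hxx'
    have := hcinv g x0 y0
    rw [hg1, hg2] at this
    rw [hl, this]
  have hlr : l < r := by
    rw [hl, hr]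
    apply Finset.card_lt_card
    rw [Finset.ssubset_iff_of_subset]
    · refine ⟨O, ?_, ?_⟩
      · rw [Finset.mem_filter]; exact ⟨hOT, hx0, hx0⟩
      · rw [Finset.mem_filter]; rintro ⟨_, _, h⟩; exact hy0 h
    · intro T hT
      rw [Finset.mem_filter] at hT ⊢
      exact ⟨hT.1, hT.2.1, hT.2.1⟩
  have hcard := card_le_of_design 𝒯 r l hlr hdiag hoff
  -- `|𝒯| ≤ [G : H]`
  have hle : H ≤ MulAction.stabilizer G O := fun h hh => MulAction.mem_stabilizer_iff.2 (hHO h hh)
  have hdvd : (MulAction.stabilizer G O).index ∣ H.index := Subgroup.index_dvd_of_le hle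
  have h1 : (MulAction.stabilizer G O).index ≤ H.index :=
    Nat.le_of_dvd (Nat.pos_of_ne_zero hH0) hdvd
  have h2' : (MulAction.stabilizer G O).index = 𝒯.card := by
    rw [MulAction.index_stabilizer, ← Set.ncard_coe_finset 𝒯]
    congr 1
    ext T
    rw [Finset.mem_coe, h𝒯, MulAction.mem_orbit_iff]
  omega

end Cfsg.Agent.Lib.Helper89_Sp2_FISHER
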