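import Mathlib
import Cfsg.Agent.Lib.Helper85_Sp2Defs
import Cfsg.Agent.Lib.Helper85_Sp2Basic
import Cfsg.Prelude.Def_Classical

/-!
# S2142 package IDX (helper89, for architect helper85): three index lemmas
-/

set_option autoImplicit false
set_option linter.unusedVariables false
set_option linter.style.haveILetI false

namespace Cfsg.Agent.Lib.Helper89_Sp2_IDX

open Cfsg.Agent.Lib.Helper85_Sp2Defs Cfsg.Agent.Lib.Helper85_Sp2Basic

/-- `|K| * [L : K] = |L|` for `K ≤ L`. -/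
theorem card_mul_relIndex' {K0 : Type*} [Group K0] (K L : Subgroup K0) (h : K ≤ L) :
    Nat.card K * K.relIndex L = Nat.card L := by
  rw [← Subgroup.relIndex_bot_left, Subgroup.relIndex_mul_relIndex _ _ _ bot_le h,
    Subgroup.relIndex_bot_left]

/-- Second isomorphism theorem, index form, for a normal `Q'`: `[Q'A' : A'] = [Q' : Q' ∩ A']`. -/
theorem relIndex_sup_of_normal {K0 : Type*} [Group K0] [Finite K0] (Q' A' : Subgroup K0) [Q'.Normal] :
    A'.relIndex (Q' ⊔ A') = A'.relIndex Q' := by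
  have h1 := card_mul_relIndex' Q' (Q' ⊔ A') le_sup_left
  have h2 := card_mul_relIndex' A' (Q' ⊔ A') le_sup_right
  have h3 : Q'.relIndex (Q' ⊔ A') = Q'.relIndex A' := by
    rw [sup_comm]; exact Subgroup.relIndex_sup_right (H := A') (K := Q')
  have h4 : Nat.card (Q' ⊓ A' : Subgroup K0) * Q'.relIndex A' = Nat.card A' := by
    rw [← Subgroup.inf_relIndex_right]
    exact card_mul_relIndex' _ _ inf_le_right
  have h5 : Nat.card (Q' ⊓ A' : Subgroup K0) * A'.relIndex Q' = Nat.card Q' := by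
    rw [← Subgroup.inf_relIndex_left]
    exact card_mul_relIndex' _ _ inf_le_left
  have hpos : 0 < Nat.card A' := Nat.card_pos
  apply Nat.eq_of_mul_eq_mul_left hpos
  rw [h2, ← h1, h3, ← h5, ← h4]
  ring

theorem relIndex_factor {G : Type*} [Group G] [Finite G] (P Q H : Subgroup G) (hQP : Q ≤ P)
    (hn : ∀ p ∈ P, ∀ q ∈ Q, p * q * p⁻¹ ∈ Q) :
    (H ⊓ P).relIndex P = (Q ⊔ (H ⊓ P)).relIndex P * (H ⊓ Q).relIndex Q := by
  have hnorm : (Q.subgroupOf P).Normal := by
    refine ⟨fun q hq p => ?_⟩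
    rw [Subgroup.mem_subgroupOf] at hq ⊢
    exact hn p p.2 q hq
  have hAP : H ⊓ P ≤ P := inf_le_right
  have key := relIndex_sup_of_normal (Q.subgroupOf P) ((H ⊓ P).subgroupOf P)
  rw [← Subgroup.subgroupOf_sup hQP hAP, Subgroup.relIndex_subgroupOf (sup_le hQP hAP),
    Subgroup.relIndex_subgroupOf hQP] at key
  have h1 := Subgroup.relIndex_mul_relIndex (H ⊓ P) (Q ⊔ (H ⊓ P)) P le_sup_right (sup_le hQP hAP)
  have h2 : (H ⊓ P).relIndex Q = (H ⊓ Q).relIndex Q := by
    rw [← Subgroup.inf_relIndex_right (H ⊓ P) Q, inf_assoc, inf_eq_right.2 hQP]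
  rw [← h1, key, h2, mul_comm]

theorem index_eq_relIndex {G : Type*} [Group G] [Finite G] (H P : Subgroup G)
    (h : ∀ g : G, ∃ h ∈ H, h⁻¹ * g ∈ P) : H.index = (H ⊓ P).relIndex P := by
  rw [Subgroup.inf_relIndex_right]
  -- `P` acts transitively on `G ⧸ H`
  have hPH : ∀ g : G, ∃ p ∈ P, p⁻¹ * g ∈ H := by
    intro g
    obtain ⟨a, ha, hap⟩ := h g⁻¹
    refine ⟨(a⁻¹ * g⁻¹)⁻¹, P.inv_mem hap, ?_⟩
    have : ((a⁻¹ * g⁻¹)⁻¹)⁻¹ * g = a⁻¹ := by group
    rw [this]
    exact H.inv_mem ha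
  haveI : MulAction.IsPretransitive ↥P (G ⧸ H) := by
    refine ⟨fun x y => ?_⟩
    induction x using QuotientGroup.induction_on with
    | H x =>
      induction y using QuotientGroup.induction_on with
      | H y =>
        obtain ⟨p1, hp1, h1⟩ := hPH x
        obtain ⟨p2, hp2, h2⟩ := hPH y
        refine ⟨⟨p2 * p1⁻¹, P.mul_mem hp2 (P.inv_mem hp1)⟩, ?_⟩
        show ((p2 * p1⁻¹ * x : G) : G ⧸ H) = (y : G ⧸ H)
        rw [QuotientGroup.eq]
        have : (p2 * p1⁻¹ * x)⁻¹ * y = (p1⁻¹ * x)⁻¹ * (p2⁻¹ * y) := by group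
        rw [this]
        exact H.mul_mem (H.inv_mem h1) h2
  have hstab : MulAction.stabilizer ↥P ((1 : G) : G ⧸ H) = H.subgroupOf P := by
    ext p
    rw [MulAction.mem_stabilizer_iff, Subgroup.mem_subgroupOf]
    show (((p : G) * 1 : G) : G ⧸ H) = ((1 : G) : G ⧸ H) ↔ (p : G) ∈ H
    rw [QuotientGroup.eq, mul_one, mul_one, inv_mem_iff]
  have := MulAction.index_stabilizer_of_transitive ↥P ((1 : G) : G ⧸ H)
  rw [hstab] at this
  rw [Subgroup.relIndex, this, Subgroup.index_eq_card]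

theorem sup_normalizes {G : Type*} [Group G] (P Q H : Subgroup G) (hQP : Q ≤ P)
    (hn : ∀ p ∈ P, ∀ q ∈ Q, p * q * p⁻¹ ∈ Q) (hab : ∀ a ∈ Q, ∀ b ∈ Q, a * b = b * a) :
    ∀ p ∈ Q ⊔ (H ⊓ P), ∀ b ∈ H ⊓ Q, p * b * p⁻¹ ∈ H ⊓ Q := by
  have hle : Q ⊔ (H ⊓ P) ≤ Subgroup.normalizer ((H ⊓ Q : Subgroup G) : Set G) := by
    apply sup_le
    · intro q hq
      rw [Subgroup.mem_normalizer_iff]
      intro b
      constructor
      · intro hb
        have : q * b * q⁻¹ = b := by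
          rw [hab q hq b hb.2, mul_inv_cancel_right]
        rw [this]; exact hb
      · intro hb
        have hbQ : b ∈ Q := by
          have : b = q⁻¹ * (q * b * q⁻¹) * q := by group
          rw [this]
          exact Q.mul_mem (Q.mul_mem (Q.inv_mem hq) hb.2) hq
        have : q * b * q⁻¹ = b := by
          rw [hab q hq b hbQ, mul_inv_cancel_right]
        rw [this] at hb; exact hb
    · intro p hp
      rw [Subgroup.mem_normalizer_iff]
      intro b
      constructor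
      · intro hb
        exact ⟨H.mul_mem (H.mul_mem hp.1 hb.1) (H.inv_mem hp.1), hn p hp.2 b hb.2⟩
      · intro hb
        have e : b = p⁻¹ * (p * b * p⁻¹) * p⁻¹⁻¹ := by group
        rw [e]
        refine ⟨H.mul_mem (H.mul_mem (H.inv_mem hp.1) hb.1) (H.inv_mem (H.inv_mem hp.1)),
          hn p⁻¹ (P.inv_mem hp.2) _ hb.2⟩
  intro p hp b hb
  exact (Subgroup.mem_normalizer_iff.1 (hle hp) b).1 hb

end Cfsg.Agent.Lib.Helper89_Sp2_IDX
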