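import Mathlib
import Cfsg.Agent.Lib.Helper85_Sp2Defs
import Cfsg.Agent.Lib.Helper85_Sp2Basic

/-!
# Helper8_Sp2_GAUSS1: Gauss sums of quadratic forms over `F₂` (package GAUSS1 of S2142)
-/

set_option autoImplicit false

namespace Cfsg.Agent.Lib.Helper8_Sp2_GAUSS1

open Cfsg.Agent.Lib.Helper85_Sp2Defs Cfsg.Agent.Lib.Helper85_Sp2Basic

variable {𝒢 : Type*} {F : Type*} {U : Type*} [Group 𝒢] [Field F] [Fintype F]
  [AddCommGroup U] [Module F U] [Fintype U]

omit [Fintype F] in
theorem chi_zero : chi (0 : F) = 1 := by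
  unfold chi; simp

omit [Fintype F] in
theorem chi_one : chi (1 : F) = -1 := by
  unfold chi; simp

theorem chi_add (hF : Fintype.card F = 2) (a b : F) : chi (a + b) = chi a * chi b := by
  rcases F2_cases hF a with rfl | rfl <;> rcases F2_cases hF b with rfl | rfl
  · simp [chi_zero]
  · simp [chi_zero, chi_one]
  · simp [chi_zero, chi_one]
  · rw [F2_add_self hF]; simp [chi_zero, chi_one]

theorem chi_mul_self (hF : Fintype.card F = 2) (a : F) : chi a * chi a = 1 := by
  rcases F2_cases hF a with rfl | rfl <;> simp [chi_zero, chi_one]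

/-- the character sum `∑ₓ χ(β(x,u))` vanishes for `u ≠ 0` -/
theorem sum_chi_beta_eq_zero (hF : Fintype.card F = 2) (D : SpAct 𝒢 F U) (u : U) (hu : u ≠ 0) :
    ∑ x : U, chi (D.β x u) = 0 := by
  obtain ⟨x0, hx0⟩ := exists_partner hF D u hu
  rw [beta_symm hF] at hx0
  have h1 : ∑ x : U, chi (D.β x u) = ∑ x : U, chi (D.β (x + x0) u) :=
    (Equiv.sum_comp (Equiv.addRight x0) (fun x => chi (D.β x u))).symm
  have h2 : ∑ x : U, chi (D.β (x + x0) u) = - ∑ x : U, chi (D.β x u) := by
    rw [← Finset.sum_neg_distrib]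
    refine Finset.sum_congr rfl fun x _ => ?_
    rw [map_add, LinearMap.add_apply, hx0, chi_add hF, chi_one]
    ring
  have h3 : ∑ x : U, chi (D.β x u) = - ∑ x : U, chi (D.β x u) := h1.trans h2
  omega

omit [Fintype F] in
theorem sum_chi_beta_zero (D : SpAct 𝒢 F U) :
    ∑ x : U, chi (D.β x 0) = (Fintype.card U : ℤ) := by
  simp [chi_zero]

theorem gsum_sq (hF : Fintype.card F = 2) (D : SpAct 𝒢 F U) (Q : QF D.β) :
    gsum Q ^ 2 = (Fintype.card U : ℤ) := by
  classical
  have key : ∀ x u : U, chi (Q.1 x) * chi (Q.1 (x + u)) = chi (Q.1 u) * chi (D.β x u) := by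
    intro x u
    rw [Q.2, chi_add hF, chi_add hF]
    have := chi_mul_self hF (Q.1 x)
    linear_combination (chi (Q.1 u) * chi (D.β x u)) * this
  calc gsum Q ^ 2 = ∑ x : U, ∑ y : U, chi (Q.1 x) * chi (Q.1 y) := by
        unfold gsum
        rw [sq, Finset.sum_mul_sum]
    _ = ∑ x : U, ∑ u : U, chi (Q.1 x) * chi (Q.1 (x + u)) := by
        refine Finset.sum_congr rfl fun x _ => ?_
        exact (Equiv.sum_comp (Equiv.addLeft x) (fun y => chi (Q.1 x) * chi (Q.1 y))).symm
    _ = ∑ x : U, ∑ u : U, chi (Q.1 u) * chi (D.β x u) := by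
        refine Finset.sum_congr rfl fun x _ => Finset.sum_congr rfl fun u _ => key x u
    _ = ∑ u : U, chi (Q.1 u) * ∑ x : U, chi (D.β x u) := by
        rw [Finset.sum_comm]
        refine Finset.sum_congr rfl fun u _ => ?_
        rw [Finset.mul_sum]
    _ = chi (Q.1 0) * ∑ x : U, chi (D.β x 0) := by
        refine Finset.sum_eq_single 0 ?_ ?_
        · intro u _ hu
          rw [sum_chi_beta_eq_zero hF D u hu, mul_zero]
        · intro h; exact absurd (Finset.mem_univ _) h
    _ = (Fintype.card U : ℤ) := by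
        rw [QF_zero D Q, chi_zero, one_mul, sum_chi_beta_zero]

theorem gsum_translate (hF : Fintype.card F = 2) (D : SpAct 𝒢 F U) (Q Q' : QF D.β) (u : U)
    (h : ∀ x, Q'.1 x = Q.1 x + D.β x u) : gsum Q' = chi (Q.1 u) * gsum Q := by
  have key : ∀ x : U, chi (Q'.1 x) = chi (Q.1 u) * chi (Q.1 (x + u)) := by
    intro x
    rw [h x, ← chi_add hF, Q.2]
    congr 1
    have := F2_add_self hF (Q.1 u)
    linear_combination -this
  unfold gsum
  rw [Finset.mul_sum]
  rw [← Equiv.sum_comp (Equiv.addRight u) (fun x => chi (Q.1 u) * chi (Q.1 x))]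
  exact Finset.sum_congr rfl fun x _ => key x

theorem sameType_translate (hF : Fintype.card F = 2) (D : SpAct 𝒢 F U) (Q Q' : QF D.β) (u : U)
    (h : ∀ x, Q'.1 x = Q.1 x + D.β x u) : SameType Q Q' ↔ Q.1 u = 0 := by
  have ht := gsum_translate hF D Q Q' u h
  have hsq := gsum_sq hF D Q
  have hpos : (0 : ℤ) < (Fintype.card U : ℤ) := by
    have : 0 < Fintype.card U := Fintype.card_pos_iff.mpr ⟨0⟩
    exact_mod_cast this
  have hne : gsum Q ≠ 0 := by
    intro h0
    rw [h0] at hsq
    simp at hsq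
    omega
  unfold SameType
  rw [ht]
  rcases F2_cases hF (Q.1 u) with h0 | h1
  · rw [h0, chi_zero, one_mul]
    simp
  · rw [h1, chi_one]
    constructor
    · intro hiff
      exfalso
      rcases lt_or_gt_of_ne hne with hlt | hgt
      · have : 0 < gsum Q := hiff.mpr (by linarith)
        linarith
      · have : 0 < -1 * gsum Q := hiff.mp hgt
        linarith
    · intro h10
      exact absurd h10 one_ne_zero

end Cfsg.Agent.Lib.Helper8_Sp2_GAUSS1
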