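import Mathlib
import Cfsg.Agent.Lib.Helper85_Sp2Defs
import Cfsg.Agent.Lib.Helper85_Sp2Basic

/-!
# Helper8_Sp2_GAUSS2: sizes of the two classes of quadratic forms over `F₂` (package GAUSS2 of S2142)
-/

set_option autoImplicit false

namespace Cfsg.Agent.Lib.Helper8_Sp2_GAUSS2

open Cfsg.Agent.Lib.Helper85_Sp2Defs Cfsg.Agent.Lib.Helper85_Sp2Basic

variable {𝒢 : Type*} {F : Type*} {U : Type*} [Group 𝒢] [Field F] [Fintype F]
  [AddCommGroup U] [Module F U] [Fintype U]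

omit [Fintype F] in
theorem chi_of_eq_zero {a : F} (h : a = 0) : chi a = 1 := by
  unfold chi; simp [h]

omit [Fintype F] in
theorem chi_of_ne_zero {a : F} (h : a ≠ 0) : chi a = -1 := by
  unfold chi; simp [h]

/-- the class of `Q` is in bijection with the `Q`-singular vectors -/
theorem card_class_eq (hF : Fintype.card F = 2) (D : SpAct 𝒢 F U)
    (hst : ∀ (Q Q' : QF D.β) (u : U), (∀ x, Q'.1 x = Q.1 x + D.β x u) → (SameType Q Q' ↔ Q.1 u = 0))
    (hdiff : ∀ Q Q' : QF D.β, ∃ u : U, ∀ x, Q'.1 x = Q.1 x + D.β x u)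
    (Q : QF D.β) :
    Nat.card {Q' : QF D.β // SameType Q Q'} = Nat.card {u : U // Q.1 u = 0} := by
  symm
  refine Nat.card_congr (Equiv.ofBijective
    (fun u : {u : U // Q.1 u = 0} =>
      (⟨translate D Q u.1, (hst Q (translate D Q u.1) u.1 (fun _ => rfl)).mpr u.2⟩ :
        {Q' : QF D.β // SameType Q Q'})) ⟨?_, ?_⟩)
  · rintro ⟨u, hu⟩ ⟨u', hu'⟩ h
    have h1 : translate D Q u = translate D Q u' := congrArg Subtype.val h
    have h2 : ∀ x, D.β x u = D.β x u' := by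
      intro x
      have := congrFun (congrArg Subtype.val h1) x
      rw [Cfsg.Agent.Lib.Helper85_Sp2Basic.translate_apply,
        Cfsg.Agent.Lib.Helper85_Sp2Basic.translate_apply] at this
      exact add_left_cancel this
    have h3 : u - u' = 0 := by
      apply D.nondeg
      intro y
      rw [beta_symm hF, map_sub, h2 y, sub_self]
    exact Subtype.ext (sub_eq_zero.mp h3)
  · rintro ⟨Q', hQ'⟩
    obtain ⟨u, hu⟩ := hdiff Q Q'
    refine ⟨⟨u, (hst Q Q' u hu).mp hQ'⟩, ?_⟩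
    apply Subtype.ext
    apply Subtype.ext
    funext x
    show (translate D Q u).1 x = Q'.1 x
    rw [Cfsg.Agent.Lib.Helper85_Sp2Basic.translate_apply, hu x]

omit [Fintype F] in
/-- `gsum Q = #{Q = 0} - #{Q ≠ 0}` and the two counts add up to `|U|` -/
theorem gsum_eq_sub {β : LinearMap.BilinForm F U} (Q : QF β) :
    ∃ a b : ℕ, a = Nat.card {u : U // Q.1 u = 0} ∧ a + b = Fintype.card U ∧
      gsum Q = (a : ℤ) - (b : ℤ) := by
  classical
  refine ⟨(Finset.univ.filter fun u : U => Q.1 u = 0).card,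
    (Finset.univ.filter fun u : U => ¬ Q.1 u = 0).card, ?_, ?_, ?_⟩
  · rw [Nat.card_eq_fintype_card, Fintype.card_subtype]
  · rw [Finset.card_filter_add_card_filter_not, Finset.card_univ]
  · unfold gsum
    have h1 : ∀ x : U, chi (Q.1 x) = if Q.1 x = 0 then (1 : ℤ) else -1 := by
      intro x
      split_ifs with h
      · exact chi_of_eq_zero h
      · exact chi_of_ne_zero h
    rw [Finset.sum_congr rfl fun x _ => h1 x, Finset.sum_ite]
    simp
    ring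

omit [Fintype F] in
theorem gsum_eq_pow_or (D : SpAct 𝒢 F U) (k : ℕ)
    (hU : Fintype.card U = 4 ^ k)
    (hsq : ∀ Q : QF D.β, gsum Q ^ 2 = (Fintype.card U : ℤ)) (Q : QF D.β) :
    gsum Q = 2 ^ k ∨ gsum Q = -2 ^ k := by
  have h := hsq Q
  rw [hU] at h
  have h4 : ((4 ^ k : ℕ) : ℤ) = (2 ^ k) ^ 2 := by
    push_cast
    rw [← pow_mul, mul_comm, pow_mul]
    norm_num
  rw [h4] at h
  have h5 : (gsum Q - 2 ^ k) * (gsum Q + 2 ^ k) = 0 := by linear_combination h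
  rcases mul_eq_zero.mp h5 with h6 | h6
  · left; linarith
  · right; linarith

theorem class_card (hF : Fintype.card F = 2) (D : SpAct 𝒢 F U) (k : ℕ) (hk : 1 ≤ k)
    (hU : Fintype.card U = 4 ^ k)
    (hsq : ∀ Q : QF D.β, gsum Q ^ 2 = (Fintype.card U : ℤ))
    (hst : ∀ (Q Q' : QF D.β) (u : U), (∀ x, Q'.1 x = Q.1 x + D.β x u) → (SameType Q Q' ↔ Q.1 u = 0))
    (hdiff : ∀ Q Q' : QF D.β, ∃ u : U, ∀ x, Q'.1 x = Q.1 x + D.β x u)
    (Q : QF D.β) :
    (0 < gsum Q → Nat.card {Q' : QF D.β // SameType Q Q'} = 2 ^ (k - 1) * (2 ^ k + 1)) ∧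
    (¬ 0 < gsum Q → Nat.card {Q' : QF D.β // SameType Q Q'} = 2 ^ (k - 1) * (2 ^ k - 1)) := by
  rw [card_class_eq hF D hst hdiff Q]
  obtain ⟨a, b, ha, hab, hg⟩ := gsum_eq_sub Q
  rw [← ha]
  obtain ⟨j, rfl⟩ : ∃ j, k = j + 1 := ⟨k - 1, by omega⟩
  rw [Nat.add_sub_cancel]
  have hpow : (2 : ℤ) ^ (j + 1) = 2 * 2 ^ j := by rw [pow_succ]; ring
  have hpowN : (2 : ℕ) ^ (j + 1) = 2 * 2 ^ j := by rw [pow_succ]; ring
  have hspos : (0 : ℤ) < 2 ^ j := by positivity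
  have hsposN : 1 ≤ (2 : ℕ) ^ j := Nat.one_le_two_pow
  have habZ : (a : ℤ) + (b : ℤ) = (2 * 2 ^ j) ^ 2 := by
    have : ((a + b : ℕ) : ℤ) = ((4 ^ (j + 1) : ℕ) : ℤ) := by rw [hab, hU]
    push_cast at this
    rw [this, ← hpow, ← pow_mul, mul_comm, pow_mul]
    norm_num
  have hor := gsum_eq_pow_or D (j + 1) hU hsq Q
  rw [hpow] at hor
  constructor
  · intro hpos
    have h1 : gsum Q = 2 * 2 ^ j := by
      rcases hor with h | h
      · exact h
      · exfalso; linarith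
    rw [hg] at h1
    have h2' : 2 * (a : ℤ) = 2 * (2 ^ j * (2 * 2 ^ j + 1)) := by linear_combination habZ + h1
    have h2 : (a : ℤ) = 2 ^ j * (2 * 2 ^ j + 1) := mul_left_cancel₀ two_ne_zero h2'
    have h3 : (a : ℤ) = ((2 ^ j * (2 ^ (j + 1) + 1) : ℕ) : ℤ) := by
      push_cast
      rw [h2, hpow]
    exact_mod_cast h3
  · intro hnpos
    have h1 : gsum Q = -(2 * 2 ^ j) := by
      rcases hor with h | h
      · exfalso; apply hnpos; rw [h]; positivity
      · rw [h]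
    rw [hg] at h1
    have h2' : 2 * (a : ℤ) = 2 * (2 ^ j * (2 * 2 ^ j - 1)) := by linear_combination habZ + h1
    have h2 : (a : ℤ) = 2 ^ j * (2 * 2 ^ j - 1) := mul_left_cancel₀ two_ne_zero h2'
    have hle : 1 ≤ (2 : ℕ) ^ (j + 1) := Nat.one_le_two_pow
    have h3 : (a : ℤ) = ((2 ^ j * (2 ^ (j + 1) - 1) : ℕ) : ℤ) := by
      rw [Nat.cast_mul, Nat.cast_sub hle]
      push_cast
      rw [h2, hpow]
    exact_mod_cast h3

set_option linter.unusedVariables false in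
theorem exists_both_types (hF : Fintype.card F = 2) (D : SpAct 𝒢 F U) (k : ℕ) (hk : 1 ≤ k)
    (hU : Fintype.card U = 4 ^ k)
    (hsq : ∀ Q : QF D.β, gsum Q ^ 2 = (Fintype.card U : ℤ))
    (hst : ∀ (Q Q' : QF D.β) (u : U), (∀ x, Q'.1 x = Q.1 x + D.β x u) → (SameType Q Q' ↔ Q.1 u = 0))
    (hQF : Nonempty (QF D.β)) :
    (∃ Q : QF D.β, 0 < gsum Q) ∧ (∃ Q : QF D.β, ¬ 0 < gsum Q) := by
  obtain ⟨Q⟩ := hQF
  -- some vector is non-singular
  have hex : ∃ u : U, Q.1 u ≠ 0 := by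
    by_contra hcon
    push Not at hcon
    have hg : gsum Q = (Fintype.card U : ℤ) := by
      unfold gsum
      rw [Finset.sum_congr rfl fun x _ => chi_of_eq_zero (hcon x)]
      simp
    have h := hsq Q
    rw [hg, hU] at h
    have h4 : (4 : ℤ) ≤ ((4 ^ k : ℕ) : ℤ) := by
      have : 4 ^ 1 ≤ 4 ^ k := Nat.pow_le_pow_right (by norm_num) hk
      exact_mod_cast this
    nlinarith
  obtain ⟨u, hu⟩ := hex
  have hns : ¬ SameType Q (translate D Q u) := fun h =>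
    hu ((hst Q (translate D Q u) u (fun _ => rfl)).mp h)
  unfold SameType at hns
  by_cases hpos : 0 < gsum Q
  · refine ⟨⟨Q, hpos⟩, ⟨translate D Q u, fun h => hns ⟨fun _ => h, fun _ => hpos⟩⟩⟩
  · refine ⟨⟨translate D Q u, ?_⟩, ⟨Q, hpos⟩⟩
    by_contra h
    exact hns ⟨fun h' => absurd h' hpos, fun h' => absurd h' h⟩

end Cfsg.Agent.Lib.Helper8_Sp2_GAUSS2
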