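import Mathlib
import Cfsg.Agent.Lib.Helper85_Sp2Defs
import Cfsg.Agent.Lib.Helper85_Sp2Basic
import Cfsg.Prelude.Def_Classical

/-!
# Helper95_Sp2_GEO1

Package GEO1 of S2142 (architect helper85): a subgroup `B ≤ Q_v` containing no element acting as
`t_v`, normalized by a group `P0` which is transitive on `W - 0` and fixes no form of `W`, is trivial.
-/

set_option autoImplicit false

namespace Cfsg.Agent.Lib.Helper95_Sp2_GEO1

open Cfsg.Agent.Lib.Helper85_Sp2Defs Cfsg.Agent.Lib.Helper85_Sp2Basic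

variable {𝒢 : Type*} {F : Type*} {U : Type*} [Group 𝒢] [Field F] [Fintype F]
  [AddCommGroup U] [Module F U] [Fintype U]

theorem geo_i (hF : Fintype.card F = 2) (D : SpAct 𝒢 F U)
    (v vs : U) (hvs : D.β v vs = 1)
    (γ : ↥(D.WSub v vs) × F → 𝒢) (hγ : D.IsParam v vs γ)
    (DW : SpAct ↥(D.Pstab v) F ↥(D.WSub v vs)) (hDW : D.IsInduced v vs DW)
    (hpp : D.ParamProps v vs γ DW)
    (B P0 : Subgroup 𝒢) (hB : B ≤ D.Qrad v)
    (hnorm : ∀ p ∈ P0, ∀ b ∈ B, p * b * p⁻¹ ∈ B)
    (hnt : ∀ b ∈ B, ¬ D.ActsTransv b v)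
    (htrW : ∀ x y : ↥(D.WSub v vs), x ≠ 0 → y ≠ 0 →
      ∃ p : ↥(D.Pstab v), (p : 𝒢) ∈ P0 ∧ DW.ρ p x = y)
    (hnofix : ∀ q : QF DW.β, ∃ p : ↥(D.Pstab v), (p : 𝒢) ∈ P0 ∧ ¬ DW.FixesQ p q) :
    B = ⊥ := by
  classical
  obtain ⟨hmul, hinj, hconj, htv, -, -⟩ := hpp
  -- γ (0,0) = 1
  have h00 : γ (0, 0) = 1 := by
    have h := hmul 0 0 0 0
    simp only [add_zero, ZeroMemClass.coe_zero, map_zero] at h
    exact mul_eq_left.mp h
  -- γ (0,1) ∉ B
  have h01 : γ (0, 1) ∉ B := fun h => hnt _ h htv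
  -- uniqueness of t
  have huniq : ∀ (w : ↥(D.WSub v vs)) (t t' : F), γ (w, t) ∈ B → γ (w, t') ∈ B → t = t' := by
    intro w t t' h1 h2
    by_contra hne
    have hprod := B.mul_mem h1 h2
    rw [hmul] at hprod
    have hww : w + w = 0 := by
      apply Subtype.ext
      show (w : U) + (w : U) = 0
      exact D.two _
    rw [hww, D.alt, add_zero] at hprod
    have ht : t + t' = 1 := by
      rcases F2_cases hF t with rfl | rfl <;> rcases F2_cases hF t' with rfl | rfl
      · exact absurd rfl hne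
      · simp
      · simp
      · exact absurd rfl hne
    rw [ht] at hprod
    exact h01 hprod
  by_cases hex : ∃ w : ↥(D.WSub v vs), w ≠ 0 ∧ ∃ t, γ (w, t) ∈ B
  · exfalso
    obtain ⟨w0, hw0, t0, hb0⟩ := hex
    -- every `w` occurs
    have hall : ∀ w : ↥(D.WSub v vs), ∃ t, γ (w, t) ∈ B := by
      intro w
      by_cases hw : w = 0
      · subst hw
        exact ⟨0, by rw [h00]; exact B.one_mem⟩
      · obtain ⟨p, hp, hpw⟩ := htrW w0 w hw0 hw
        refine ⟨t0, ?_⟩
        have := hnorm _ hp _ hb0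
        rw [hconj, hpw] at this
        exact this
    choose q hq using hall
    have hqadd : ∀ w w' : ↥(D.WSub v vs), q (w + w') = q w + q w' + DW.β w w' := by
      intro w w'
      have h1 := B.mul_mem (hq w) (hq w')
      rw [hmul] at h1
      rw [hDW.1]
      exact huniq _ _ _ (hq _) h1
    obtain ⟨p, hp, hpq⟩ := hnofix ⟨q, hqadd⟩
    apply hpq
    intro x
    show q (DW.ρ p x) = q x
    have := hnorm _ hp _ (hq x)
    rw [hconj] at this
    exact huniq _ _ _ (hq _) this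
  · push Not at hex
    rw [eq_bot_iff]
    intro b hb
    rw [Subgroup.mem_bot]
    obtain ⟨w, t, rfl⟩ := (hγ.2 b).mp (hB hb)
    have hw : w = 0 := by
      by_contra hw
      exact hex w hw t hb
    subst hw
    rcases F2_cases hF t with rfl | rfl
    · exact h00
    · exact absurd hb h01

end Cfsg.Agent.Lib.Helper95_Sp2_GEO1
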