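import Mathlib
import Cfsg.Agent.Lib.Helper85_Sp2Defs
import Cfsg.Agent.Lib.Helper85_Sp2Basic
import Cfsg.Agent.Lib.Helper10_Sp2_DIFF
import Cfsg.Agent.Lib.Helper10_Sp2_PAR2
import Cfsg.Agent.Lib.Helper27_Sp2_FIXF
import Cfsg.Agent.Lib.Helper27_Sp2_PAR1
import Cfsg.Agent.Lib.Helper44_Sp2_GEO2
import Cfsg.Agent.Lib.Helper44_Sp2_GEO3
import Cfsg.Agent.Lib.Helper4_Sp2_CONC
import Cfsg.Agent.Lib.Helper4_Sp2_TT
import Cfsg.Agent.Lib.Helper60_Sp2_IND2
import Cfsg.Agent.Lib.Helper60_Sp2_PSP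
import Cfsg.Agent.Lib.Helper79_Sp2_COUNT
import Cfsg.Agent.Lib.Helper79_Sp2_QFEX
import Cfsg.Agent.Lib.Helper85_Sp2_EXIST
import Cfsg.Agent.Lib.Helper85_Sp2_IND1
import Cfsg.Agent.Lib.Helper89_Sp2_BURN
import Cfsg.Agent.Lib.Helper89_Sp2_FISHER
import Cfsg.Agent.Lib.Helper89_Sp2_IDX
import Cfsg.Agent.Lib.Helper8_Sp2_GAUSS1
import Cfsg.Agent.Lib.Helper8_Sp2_GAUSS2
import Cfsg.Agent.Lib.Helper95_Sp2_GEO1
import Cfsg.Statements.S2142

set_option autoImplicit false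

namespace Cfsg.Agent.Lib.Helper85_Sp2Main

open Cfsg.Agent.Lib.Helper85_Sp2Defs Cfsg.Agent.Lib.Helper85_Sp2Basic
open Cfsg.Agent.Lib.Helper10_Sp2_DIFF Cfsg.Agent.Lib.Helper10_Sp2_PAR2 Cfsg.Agent.Lib.Helper27_Sp2_FIXF Cfsg.Agent.Lib.Helper27_Sp2_PAR1 Cfsg.Agent.Lib.Helper44_Sp2_GEO2 Cfsg.Agent.Lib.Helper44_Sp2_GEO3 Cfsg.Agent.Lib.Helper4_Sp2_CONC Cfsg.Agent.Lib.Helper4_Sp2_TT Cfsg.Agent.Lib.Helper60_Sp2_IND2 Cfsg.Agent.Lib.Helper60_Sp2_PSP Cfsg.Agent.Lib.Helper79_Sp2_COUNT Cfsg.Agent.Lib.Helper79_Sp2_QFEX Cfsg.Agent.Lib.Helper85_Sp2_EXIST Cfsg.Agent.Lib.Helper85_Sp2_IND1 Cfsg.Agent.Lib.Helper89_Sp2_BURN Cfsg.Agent.Lib.Helper89_Sp2_FISHER Cfsg.Agent.Lib.Helper89_Sp2_IDX Cfsg.Agent.Lib.Helper8_Sp2_GAUSS1 Cfsg.Agent.Lib.Helper8_Sp2_GAUSS2 Cfsg.Agent.Lib.Helper95_Sp2_GEO1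

variable {𝒢 : Type*} {F : Type*} {U : Type*} [Group 𝒢] [Field F] [Fintype F]
  [AddCommGroup U] [Module F U] [Fintype U]

/-! ### glue: hypothesis-free versions -/

theorem hst (hF : Fintype.card F = 2) (D : SpAct 𝒢 F U) :
    ∀ (Q Q' : QF D.β) (u : U), (∀ x, Q'.1 x = Q.1 x + D.β x u) → (SameType Q Q' ↔ Q.1 u = 0) :=
  fun Q Q' u h => sameType_translate hF D Q Q' u h

theorem class_card' (hF : Fintype.card F = 2) (D : SpAct 𝒢 F U) (k : ℕ) (hk : 1 ≤ k)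
    (hU : Fintype.card U = 4 ^ k) (Q : QF D.β) :
    (0 < gsum Q → Nat.card {Q' : QF D.β // SameType Q Q'} = 2 ^ (k - 1) * (2 ^ k + 1)) ∧
    (¬ 0 < gsum Q → Nat.card {Q' : QF D.β // SameType Q Q'} = 2 ^ (k - 1) * (2 ^ k - 1)) :=
  class_card hF D k hk hU (gsum_sq hF D) (hst hF D) (exists_diff hF D) Q

theorem both_types' (hF : Fintype.card F = 2) (D : SpAct 𝒢 F U) (k : ℕ) (hk : 1 ≤ k)
    (hU : Fintype.card U = 4 ^ k) :
    (∃ Q : QF D.β, 0 < gsum Q) ∧ (∃ Q : QF D.β, ¬ 0 < gsum Q) :=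
  exists_both_types hF D k hk hU (gsum_sq hF D) (hst hF D) (exists_QF hF D)

/-- transitivity of `𝒢` on each class -/
theorem trans_class (hF : Fintype.card F = 2) (D : SpAct 𝒢 F U) (htr : D.HasTransv)
    (Q Q' : QF D.β) (h : SameType Q Q') : ∃ g : 𝒢, D.Moves g Q Q' := by
  by_cases hne : Q.1 = Q'.1
  · refine ⟨1, fun x => ?_⟩
    rw [← hne, inv_one, D.rho_one_apply]
  · obtain ⟨g, hg, -⟩ := two_trans hF D htr (hst hF D) (exists_diff hF D) Q Q' Q' Q h h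
      (sameType_symm h) hne (fun h' => hne h'.symm)
    exact ⟨g, hg⟩

/-! ### Theorem T -/

theorem T_main [Finite 𝒢] (hF : Fintype.card F = 2) (D : SpAct 𝒢 F U) (htr : D.HasTransv)
    (k : ℕ) (hU : Fintype.card U = 4 ^ k) (H : Subgroup 𝒢)
    (hH : H.index < 2 ^ (k - 1) * (2 ^ k - 1)) :
    (∀ x y : U, x ≠ 0 → y ≠ 0 → ∃ h ∈ H, D.ρ h x = y) ∧
    (∀ Q Q' : QF D.β, SameType Q Q' → ∃ h ∈ H, D.Moves h Q Q') := by
  classical
  have hk : 1 ≤ k := by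
    rcases Nat.eq_zero_or_pos k with h0 | h0
    · subst h0; simp at hH
    · exact h0
  have hH0 : H.index ≠ 0 := Subgroup.index_ne_zero_of_finite
  have hQ : ∀ Q Q' : QF D.β, SameType Q Q' → ∃ h ∈ H, D.Moves h Q Q' := by
    intro Q Q' hQQ'
    let X := {Q' : QF D.β // SameType Q Q'}
    letI : MulAction 𝒢 (QF D.β) := D.qfAct
    letI : MulAction 𝒢 X :=
      { smul := fun g x => ⟨g • x.1, sameType_trans x.2 (sameType_of_moves D g x.1 (g • x.1)
          (fun _ => rfl))⟩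
        one_smul := fun x => Subtype.ext (one_smul 𝒢 x.1)
        mul_smul := fun g h x => Subtype.ext (mul_smul g h x.1) }
    haveI : Fintype X := Fintype.ofFinite X
    have hcard : 2 ^ (k - 1) * (2 ^ k - 1) ≤ Fintype.card X := by
      have h1 := class_card' hF D k hk hU Q
      rw [← Nat.card_eq_fintype_card]
      by_cases hpos : 0 < gsum Q
      · rw [h1.1 hpos]
        exact Nat.mul_le_mul_left _ ((Nat.sub_le _ _).trans (Nat.le_add_right _ _))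
      · rw [h1.2 hpos]
    have h2 : ∀ x y x' y' : X, x ≠ y → x' ≠ y' → ∃ g : 𝒢, g • x = x' ∧ g • y = y' := by
      intro x y x' y' hxy hxy'
      have hne : x.1.1 ≠ y.1.1 := fun h => hxy (Subtype.ext (Subtype.ext h))
      have hne' : x'.1.1 ≠ y'.1.1 := fun h => hxy' (Subtype.ext (Subtype.ext h))
      obtain ⟨g, hg1, hg2⟩ := two_trans hF D htr (hst hF D) (exists_diff hF D) x.1 y.1 x'.1 y'.1
        (sameType_trans (sameType_symm x.2) y.2) (sameType_trans (sameType_symm x.2) x'.2)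
        (sameType_trans (sameType_symm x'.2) y'.2) hne hne'
      refine ⟨g, ?_, ?_⟩
      · apply Subtype.ext; apply Subtype.ext; funext z
        exact (hg1 z).symm
      · apply Subtype.ext; apply Subtype.ext; funext z
        exact (hg2 z).symm
    have := fisher h2 H hH0 (lt_of_lt_of_le hH hcard) ⟨Q, sameType_refl Q⟩ ⟨Q', hQQ'⟩
    obtain ⟨h, hh, hhx⟩ := this
    refine ⟨h, hh, fun z => ?_⟩
    have := congrArg (fun q : X => q.1.1 z) hhx
    exact this.symm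
  refine ⟨?_, hQ⟩
  exact trans_of_forms hF D H (exists_fixed_form hF D (exists_diff hF D) (exists_QF hF D))
    (both_types' hF D k hk hU) (exists_diff hF D) hQ

/-! ### arithmetic -/

theorem arith1 (m : ℕ) (hm : 3 ≤ m) :
    2 ^ (m - 1) * (2 ^ m - 1) ≤ 2 * 4 ^ (m - 1) ∧
    2 ^ (m - 1) * (2 ^ m - 1) ≤ 5 * (2 ^ (m - 1 - 1) * (2 ^ (m - 1) - 1)) ∧
    2 ^ (m - 1) * (2 ^ m - 1) ≤ (4 ^ (m - 1) - 1) * 4 ∧
    2 ≤ 2 ^ (m - 1 - 1) * (2 ^ (m - 1) - 1) := by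
  obtain ⟨j, rfl⟩ : ∃ j, m = j + 3 := ⟨m - 3, by omega⟩
  have e1 : j + 3 - 1 = j + 2 := by omega
  have e2 : j + 2 - 1 = j + 1 := by omega
  rw [e1, e2]
  have h4 : (4 : ℕ) ^ (j + 2) = 2 ^ (j + 2) * 2 ^ (j + 2) := by
    rw [← pow_add, show (4 : ℕ) = 2 ^ 2 by norm_num, ← pow_mul]; congr 1; omega
  have hp1 : (2 : ℕ) ^ (j + 1) = 2 * 2 ^ j := by rw [pow_succ]; ring
  have hp2 : (2 : ℕ) ^ (j + 2) = 4 * 2 ^ j := by rw [pow_succ, pow_succ]; ring
  have hp3 : (2 : ℕ) ^ (j + 3) = 8 * 2 ^ j := by rw [pow_succ, pow_succ, pow_succ]; ring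
  have hj : 1 ≤ 2 ^ j := Nat.one_le_two_pow
  rw [h4, hp1, hp2, hp3]
  set a := 2 ^ j with ha
  have h8 : 8 * a - 1 + 1 = 8 * a := by omega
  have h4a : 4 * a - 1 + 1 = 4 * a := by omega
  refine ⟨?_, ?_, ?_, ?_⟩
  · have : 4 * a * (8 * a - 1) ≤ 4 * a * (8 * a) := Nat.mul_le_mul_left _ (Nat.sub_le _ _)
    calc 4 * a * (8 * a - 1) ≤ 4 * a * (8 * a) := this
      _ = 2 * (4 * a * (4 * a)) := by ring
  · -- 4a(8a-1) ≤ 5 * (2a * (4a - 1))
    zify [show 1 ≤ 8 * a by omega, show 1 ≤ 4 * a by omega]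
    nlinarith
  · zify [show 1 ≤ 8 * a by omega, show 1 ≤ 4 * a * (4 * a) by nlinarith]
    nlinarith
  · have : 3 ≤ 4 * a - 1 := by omega
    calc 2 ≤ 2 * 1 * 3 := by norm_num
      _ ≤ 2 * a * (4 * a - 1) := Nat.mul_le_mul (Nat.mul_le_mul_left _ hj) this

/-! ### Step 5 -/

/-- Step 5: for every nonzero `v`, `H ∩ Q_v` has index 2 in `Q_v`. -/
theorem step5 [Finite 𝒢] (hF : Fintype.card F = 2) (D : SpAct 𝒢 F U)
    (hinj : Function.Injective D.ρ) (htr : D.HasTransv) (m : ℕ) (hm : 3 ≤ m)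
    (hU : Fintype.card U = 4 ^ m) (H : Subgroup 𝒢)
    (hlt : H.index < 2 ^ (m - 1) * (2 ^ m - 1))
    (htransU : ∀ x y : U, x ≠ 0 → y ≠ 0 → ∃ h ∈ H, D.ρ h x = y)
    (hnt : ∀ t ∈ H, ∀ u : U, u ≠ 0 → ¬ D.ActsTransv t u)
    (v : U) (hv : v ≠ 0) : (H ⊓ D.Qrad v).relIndex (D.Qrad v) = 2 := by
  classical
  obtain ⟨vs, hvs⟩ := exists_partner hF D v hv
  obtain ⟨DW, hDW⟩ := exists_induced hF D v vs hvs
  have htrW := induced_hasTransv hF D htr v vs hvs DW hDW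
  have hcW := card_WSub hF D v vs hvs
  obtain ⟨γ, hγ⟩ := exists_param hF D hinj htr v vs hvs
  have hpp := param_props hF D hinj v vs hvs γ hγ DW hDW
  obtain ⟨hmul, hγinj, hconj, htv, hab, hcQ⟩ := hpp
  obtain ⟨ha1, ha2, ha3, ha4⟩ := arith1 m hm
  -- cardinality of W
  have hWcard : Nat.card ↥(D.WSub v vs) = 4 ^ (m - 1) := by
    have h4 : (4 : ℕ) ^ m = 4 * 4 ^ (m - 1) := by
      rw [← pow_succ']; congr 1; omega
    rw [hU, h4] at hcW
    omega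
  haveI : Fintype ↥(D.WSub v vs) := Fintype.ofFinite _
  have hWcard' : Fintype.card ↥(D.WSub v vs) = 4 ^ (m - 1) := by
    rw [← Nat.card_eq_fintype_card]; exact hWcard
  have hQP : D.Qrad v ≤ D.Pstab v := D.Qrad_le_Pstab v
  have hn : ∀ p ∈ D.Pstab v, ∀ q ∈ D.Qrad v, p * q * p⁻¹ ∈ D.Qrad v := by
    intro p hp q hq
    have := Qrad_conj D v p q hq
    rwa [show D.ρ p v = v from hp] at this
  have hP0P : D.Qrad v ⊔ (H ⊓ D.Pstab v) ≤ D.Pstab v := sup_le hQP inf_le_right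
  -- index bookkeeping
  have hidx1 : H.index = (H ⊓ D.Pstab v).relIndex (D.Pstab v) := by
    apply index_eq_relIndex
    intro g
    have hgv : D.ρ g v ≠ 0 := by
      intro h0
      apply hv
      have := D.rho_inv_apply g v
      rw [h0, map_zero] at this
      exact this.symm
    obtain ⟨h, hh, hhv⟩ := htransU v (D.ρ g v) hv hgv
    refine ⟨h, hh, ?_⟩
    rw [D.mem_Pstab, D.rho_mul_apply, ← hhv, D.rho_inv_apply]
  have hidx2 := relIndex_factor (D.Pstab v) (D.Qrad v) H hQP hn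
  have hnormB := sup_normalizes (D.Pstab v) (D.Qrad v) H hQP hn hab
  have hBQ : H ⊓ D.Qrad v ≤ D.Qrad v := inf_le_right
  have hntB : ∀ b ∈ H ⊓ D.Qrad v, ¬ D.ActsTransv b v := fun b hb => hnt b hb.1 v hv
  -- B ≠ Q since t_v ∈ Q
  have htvQ : γ (0, 1) ∈ D.Qrad v := (hγ.2 _).2 ⟨0, 1, rfl⟩
  have hBneQ : (H ⊓ D.Qrad v).relIndex (D.Qrad v) ≠ 1 := by
    intro h1
    have : D.Qrad v ≤ H ⊓ D.Qrad v := Subgroup.relIndex_eq_one.mp h1
    exact hntB _ (this htvQ) htv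
  -- B.relIndex Q divides card Q = 2 * 4^(m-1)
  have hdvd : (H ⊓ D.Qrad v).relIndex (D.Qrad v) ∣ 2 * 4 ^ (m - 1) := by
    rw [← hWcard, ← hcQ]
    exact Subgroup.relIndex_dvd_card _ _
  have hn_eq : H.index = (D.Qrad v ⊔ (H ⊓ D.Pstab v)).relIndex (D.Pstab v) *
      (H ⊓ D.Qrad v).relIndex (D.Qrad v) := by rw [hidx1, hidx2]
  have hfin0 : ∀ A B' : Subgroup 𝒢, A.relIndex B' ≠ 0 := fun A B' => by
    unfold Subgroup.relIndex; exact Subgroup.index_ne_zero_of_finite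
  -- Case analysis on the index of P0
  by_cases hcase : (D.Qrad v ⊔ (H ⊓ D.Pstab v)).relIndex (D.Pstab v) <
      2 ^ (m - 1 - 1) * (2 ^ (m - 1) - 1)
  · -- Case A
    exfalso
    obtain ⟨hT1, hT2⟩ := T_main hF DW htrW (m - 1) hWcard'
      ((D.Qrad v ⊔ (H ⊓ D.Pstab v)).subgroupOf (D.Pstab v)) hcase
    have hBbot : H ⊓ D.Qrad v = ⊥ := by
      apply geo_i hF D v vs hvs γ hγ DW hDW ⟨hmul, hγinj, hconj, htv, hab, hcQ⟩
        (H ⊓ D.Qrad v) (D.Qrad v ⊔ (H ⊓ D.Pstab v)) hBQ hnormB hntB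
      · intro x y hx hy
        obtain ⟨p, hp, hpx⟩ := hT1 x y hx hy
        exact ⟨p, Subgroup.mem_subgroupOf.mp hp, hpx⟩
      · intro q
        -- another form of the same type
        have hcc := class_card' hF DW (m - 1) (by omega) hWcard' q
        have h2le : 2 ≤ Nat.card {Q' : QF DW.β // SameType q Q'} := by
          by_cases hpos : 0 < gsum q
          · rw [hcc.1 hpos]
            exact le_trans ha4 (Nat.mul_le_mul_left _
              ((Nat.sub_le _ _).trans (Nat.le_add_right _ _)))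
          · rw [hcc.2 hpos]; exact ha4
        have hnt' : Nontrivial {Q' : QF DW.β // SameType q Q'} :=
          Finite.one_lt_card_iff_nontrivial.mp (by omega)
        obtain ⟨q', hq'⟩ := exists_ne (⟨q, sameType_refl q⟩ : {Q' : QF DW.β // SameType q Q'})
        obtain ⟨p, hp, hpq⟩ := hT2 q q'.1 q'.2
        refine ⟨p, Subgroup.mem_subgroupOf.mp hp, fun hfix => hq' ?_⟩
        apply Subtype.ext; apply Subtype.ext; funext x
        rw [hpq x]
        have := hfix (DW.ρ p⁻¹ x)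
        rw [DW.rho_apply_inv] at this
        exact this.symm
    have : (H ⊓ D.Qrad v).relIndex (D.Qrad v) = 2 * 4 ^ (m - 1) := by
      rw [hBbot, Subgroup.relIndex_bot_left, ← hWcard, ← hcQ]
    rw [this] at hn_eq
    have : 2 * 4 ^ (m - 1) ≤ H.index := by
      rw [hn_eq]
      have hpos : 0 < (D.Qrad v ⊔ (H ⊓ D.Pstab v)).relIndex (D.Pstab v) :=
        Nat.pos_of_ne_zero (hfin0 _ _)
      nlinarith
    omega
  · -- Case B
    push Not at hcase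
    have hi5 : (H ⊓ D.Qrad v).relIndex (D.Qrad v) < 5 := by
      by_contra h5
      push Not at h5
      have : 5 * (2 ^ (m - 1 - 1) * (2 ^ (m - 1) - 1)) ≤ H.index := by
        rw [hn_eq]
        calc 5 * (2 ^ (m - 1 - 1) * (2 ^ (m - 1) - 1))
            = (2 ^ (m - 1 - 1) * (2 ^ (m - 1) - 1)) * 5 := by ring
          _ ≤ _ := Nat.mul_le_mul hcase h5
      omega
    have hi4 : (H ⊓ D.Qrad v).relIndex (D.Qrad v) ≠ 4 := by
      intro h4
      have hge := geo_ii hF D v vs hvs γ hγ DW hDW ⟨hmul, hγinj, hconj, htv, hab, hcQ⟩ htrW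
        (H ⊓ D.Qrad v) (D.Qrad v ⊔ (H ⊓ D.Pstab v)) hBQ hP0P hnormB hntB h4
      rw [hWcard] at hge
      have : (4 ^ (m - 1) - 1) * 4 ≤ H.index := by
        rw [hn_eq, h4]
        exact Nat.mul_le_mul_right _ hge
      omega
    have hi0 : (H ⊓ D.Qrad v).relIndex (D.Qrad v) ≠ 0 := hfin0 _ _
    -- the index is 2 or 3; 3 does not divide 2 * 4^(m-1)
    have hi3 : (H ⊓ D.Qrad v).relIndex (D.Qrad v) ≠ 3 := by
      intro h3
      rw [h3] at hdvd
      have h3' : (3 : ℕ) ∣ 2 ^ (1 + 2 * (m - 1)) := by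
        have : (2 : ℕ) ^ (1 + 2 * (m - 1)) = 2 * 4 ^ (m - 1) := by
          rw [pow_add, pow_mul]; norm_num
        rw [this]; exact hdvd
      have := (Nat.Prime.dvd_of_dvd_pow Nat.prime_three h3')
      omega
    omega

/-! ### the abstract main theorem -/

theorem main_lower [Finite 𝒢] (hF : Fintype.card F = 2) (D : SpAct 𝒢 F U)
    (hinj : Function.Injective D.ρ) (htr : D.HasTransv) (hgen : D.GenTransv) (m : ℕ) (hm : 3 ≤ m)
    (hU : Fintype.card U = 4 ^ m) (H : Subgroup 𝒢) (hH : H ≠ ⊤) :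
    2 ^ (m - 1) * (2 ^ m - 1) ≤ H.index := by
  by_contra hlt
  push Not at hlt
  obtain ⟨hT1, hT2⟩ := T_main hF D htr m hU H hlt
  have hnt := no_transv hF D hinj hgen H hH hT1
  refine count_contra hF D m hm hU H (class_card' hF D m (by omega) hU) hT2 (fun v hv => ?_)
  obtain ⟨vs, hvs⟩ := exists_partner hF D v hv
  obtain ⟨DW, hDW⟩ := exists_induced hF D v vs hvs
  obtain ⟨γ, hγ⟩ := exists_param hF D hinj htr v vs hvs
  have hpp := param_props hF D hinj v vs hvs γ hγ DW hDW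
  have hidx := step5 hF D hinj htr m hm hU H hlt hT1 hnt v hv
  have hcW := card_WSub hF D v vs hvs
  have hW : ∃ w : ↥(D.WSub v vs), w ≠ 0 := by
    have h4 : (4 : ℕ) ^ m = 4 * 4 ^ (m - 1) := by
      rw [← pow_succ']; congr 1; omega
    rw [hU, h4] at hcW
    have hc : Nat.card ↥(D.WSub v vs) = 4 ^ (m - 1) := by omega
    have h1 : 1 < Nat.card ↥(D.WSub v vs) := by
      rw [hc]
      exact Nat.one_lt_pow (by omega) (by norm_num)
    have := Finite.one_lt_card_iff_nontrivial.mp h1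
    exact exists_ne 0
  exact geo_G hF D v vs hvs γ hγ DW hpp hW (H ⊓ D.Qrad v) inf_le_right
    (fun b hb => hnt b hb.1 v hv) hidx

theorem main_exists [Finite 𝒢] (hF : Fintype.card F = 2) (D : SpAct 𝒢 F U) (htr : D.HasTransv)
    (m : ℕ) (hm : 1 ≤ m) (hU : Fintype.card U = 4 ^ m) :
    ∃ H : Subgroup 𝒢, H.index = 2 ^ (m - 1) * (2 ^ m - 1) :=
  exists_index hF D m (class_card' hF D m hm hU) (both_types' hF D m hm hU)
    (trans_class hF D htr)

theorem S2142_main {F : Type*} [Field F] [Fintype F] (hF : Fintype.card F = 2) (m : ℕ)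
    (hm : 3 ≤ m) :
    (∀ H : Subgroup (Cfsg.PSp m F), H ≠ ⊤ → 2 ^ (m - 1) * (2 ^ m - 1) ≤ H.index) ∧
    (∃ H : Subgroup (Cfsg.PSp m F), H.index = 2 ^ (m - 1) * (2 ^ m - 1)) := by
  classical
  obtain ⟨D, hinj, htr, hgen⟩ := sp_concrete hF m
  have hU : Fintype.card (Fin m ⊕ Fin m → F) = 4 ^ m := by
    rw [Fintype.card_fun, hF, Fintype.card_sum, Fintype.card_fin, ← two_mul, pow_mul]
    norm_num
  haveI : Finite (Matrix.symplecticGroup (Fin m) F) := by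
    apply Finite.of_injective (fun g : Matrix.symplecticGroup (Fin m) F => g.1)
    exact Subtype.val_injective
  apply psp_transfer hF m _ (by omega)
  · intro H hH
    exact main_lower hF D hinj htr hgen m hm hU H hH
  · exact main_exists hF D htr m (by omega) hU

end Cfsg.Agent.Lib.Helper85_Sp2Main
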