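import Cfsg.Agent.Lib.Helper87_Alperin
import Cfsg.Agent.Lib.Helper88_Centric
import Cfsg.Agent.Lib.Helper84_FusionRS

/-!
# Subsystems stable under conjugation are determined by the automizer of the base (helper85)

Let `E₁`, `E₂` be fusion systems over the same finite `p`-group `T`, with `E₁` saturated, and suppose
`E₂` is stable under conjugation by the isomorphisms of `E₁` (for instance both are invariant
subsystems of a common system `F`).  If `Aut_{E₁}(T) ⊆ Aut_{E₂}(T)` then `E₁ ⊆ E₂`.
The proof is the Frattini argument `A = ⟨R^A⟩ N_A(R)` for `A = Aut_{E₁}(Q)`, `R = Aut_T(Q)`, inside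
a downward induction on `|Q|`.
-/

set_option autoImplicit false

namespace Cfsg.Agent.Lib.Helper85_StableSub

open Cfsg Cfsg.FusionSystem Cfsg.Agent.Lib.Helper87_Alperin Cfsg.Agent.Lib.Helper88_Centric
  Cfsg.Agent.Lib.Helper84_FusionRS

/-- A subgroup of a finite group containing all conjugates of a Sylow subgroup and its normalizer is
everything (Frattini argument). -/
theorem eq_top_of_conj_of_normalizer {A : Type*} [Group A] [Finite A] {p : ℕ} [Fact p.Prime]
    (R : Sylow p A) (X : Subgroup A)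
    (h1 : ∀ ρ ∈ (R : Subgroup A), ∀ γ : A, γ * ρ * γ⁻¹ ∈ X)
    (h2 : Subgroup.normalizer ((R : Subgroup A) : Set A) ≤ X) : X = ⊤ := by
  have hN : Subgroup.normalClosure ((R : Subgroup A) : Set A) ≤ X := by
    unfold Subgroup.normalClosure
    rw [Subgroup.closure_le]
    intro a ha
    rw [Group.mem_conjugatesOfSet_iff] at ha
    obtain ⟨b, hb, hba⟩ := ha
    rw [isConj_iff] at hba
    obtain ⟨c, rfl⟩ := hba
    exact h1 b hb c
  have hRN : (R : Subgroup A) ≤ Subgroup.normalClosure ((R : Subgroup A) : Set A) :=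
    Subgroup.le_normalClosure
  have := Sylow.normalizer_sup_eq_top' R hRN
  rw [eq_top_iff, ← this]
  exact sup_le h2 hN

variable {Ω : Type*} [Group Ω] {T : Subgroup Ω}

/-- `E₂` is stable under conjugation by the isomorphisms of `E₁`: for an `E₁`-isomorphism `g : U → U'` and an
automorphism `f` of `U'` in `E₂`, the automorphism `g⁻¹ f g` of `U` is in `E₂`. -/
def StableUnder (E₁ E₂ : FusionSystem T) : Prop :=
  ∀ (U U' : Subgroup Ω) (g f : Ω → Ω), IsMapOn E₁ U g → IsImage U g U' → IsMapOn E₂ U' f →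
    (∀ y ∈ U', f y ∈ U') → ∃ f' : Ω → Ω, IsMapOn E₂ U f' ∧ ∀ x ∈ U, f' x ∈ U ∧ g (f' x) = f (g x)

variable [Finite T] {p : ℕ} [Fact p.Prime]

/-- Key step: automorphisms in `E₁` of a fully automized receptive `Q < T` lie in `E₂`, given this for
all strictly larger subgroups. -/
theorem aut_mem_of_larger (hT : IsPGroup p T) {E₁ E₂ : FusionSystem T} (hst : StableUnder E₁ E₂)
    {Q : Subgroup Ω} (hQa : E₁.IsFullyAutomized p Q) (hQr : E₁.IsReceptive Q) (hQne : Q ≠ T)
    (ih : ∀ U : Subgroup Ω, U ≤ T → Nat.card Q < Nat.card U →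
      ∀ α ∈ E₁.autGroup U, IsMapOn E₂ U (extFun α))
    (β : MulAut Q) (hβ : β ∈ E₁.autGroup Q) : IsMapOn E₂ Q (extFun β) := by
  classical
  obtain ⟨hQT, R, hR⟩ := hQa
  have : Finite Q := finite_of_le_S hQT
  -- the subgroup of `Aut_{E₁}(Q)` of automorphisms lying in `E₂`
  let X : Subgroup (E₁.autGroup Q) :=
    { carrier := {a | IsMapOn E₂ Q (extFun (a : MulAut Q))}
      mul_mem' := by
        intro a b ha hb
        have h := (hb.comp ha (fun x hx => extFun_mem _ hx)).congr (g := extFun ((a * b : E₁.autGroup Q) : MulAut Q))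
          (fun x hx => by
            simp only [Function.comp_apply]
            exact (extFun_mul (a : MulAut Q) (b : MulAut Q) hx).symm)
        exact h
      one_mem' := by
        refine (IsMapOn.id E₂ hQT).congr (fun x hx => ?_)
        rw [extFun_apply _ hx]
        rfl
      inv_mem' := by
        intro a ha
        have hI : IsImage Q (extFun (a : MulAut Q)) Q := by
          intro y
          constructor
          · intro hy
            exact ⟨extFun (a : MulAut Q)⁻¹ y, extFun_mem _ hy, extFun_apply_inv _ hy⟩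
          · rintro ⟨x, hx, rfl⟩
            exact extFun_mem _ hx
        obtain ⟨k, hk, hk1, -, -⟩ := IsMapOn.inv ha hI
        refine hk.congr (fun y hy => ?_)
        have h1 : extFun (a : MulAut Q) (extFun (a : MulAut Q)⁻¹ y) = y := extFun_apply_inv _ hy
        have h2 := hk1 (extFun (a : MulAut Q)⁻¹ y) (extFun_mem _ hy)
        rw [h1] at h2
        exact h2 }
  have hX : X = ⊤ := by
    apply eq_top_of_conj_of_normalizer R X
    · -- conjugates of `Aut_T(Q)`
      intro ρ hρ γ
      have hρ' : (ρ : MulAut Q) ∈ autInducedBy T Q := by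
        have : ρ ∈ (autInducedBy T Q).subgroupOf (E₁.autGroup Q) := hR ▸ hρ
        exact Subgroup.mem_subgroupOf.1 this
      obtain ⟨x, hxT, hx⟩ := (mem_autInducedBy_iff T Q _).1 hρ'
      have hρm : IsMapOn E₂ Q (extFun (ρ : MulAut Q)) :=
        (IsMapOn.conj E₂ hQT hxT).congr (fun y hy => by rw [extFun_apply _ hy, hx])
      have hγi : IsMapOn E₁ Q (extFun ((γ : MulAut Q)⁻¹)) :=
        (mem_autGroup_iff E₁ hQT _).1 ((E₁.autGroup Q).inv_mem γ.2)
      have hI : IsImage Q (extFun ((γ : MulAut Q)⁻¹)) Q := by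
        intro y
        constructor
        · intro hy
          exact ⟨extFun (γ : MulAut Q) y, extFun_mem _ hy, extFun_inv_apply _ hy⟩
        · rintro ⟨z, hz, rfl⟩
          exact extFun_mem _ hz
      obtain ⟨f', hf', hf'eq⟩ := hst Q Q _ _ hγi hI hρm (fun y hy => extFun_mem _ hy)
      show IsMapOn E₂ Q (extFun ((γ * ρ * γ⁻¹ : E₁.autGroup Q) : MulAut Q))
      refine hf'.congr (fun y hy => ?_)
      obtain ⟨h1, h2⟩ := hf'eq y hy
      have h3 : f' y = extFun (γ : MulAut Q) (extFun ((γ : MulAut Q)⁻¹) (f' y)) :=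
        (extFun_apply_inv _ h1).symm
      rw [h3, h2]
      have h4 : extFun ((γ : MulAut Q)⁻¹) y ∈ Q := extFun_mem _ hy
      have h5 : extFun (ρ : MulAut Q) (extFun ((γ : MulAut Q)⁻¹) y) ∈ Q := extFun_mem _ h4
      have e1 : ((γ * ρ * γ⁻¹ : E₁.autGroup Q) : MulAut Q) = (γ : MulAut Q) * (ρ : MulAut Q) * (γ : MulAut Q)⁻¹ := rfl
      rw [e1, extFun_mul _ _ hy, extFun_mul _ _ h4]
    · -- the normalizer of `Aut_T(Q)`: extend to `N_T(Q)`
      intro ν hν
      have hνA : (ν : MulAut Q) ∈ E₁.autGroup Q := ν.2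
      have hνm : IsMapOn E₁ Q (extFun (ν : MulAut Q)) := (mem_autGroup_iff E₁ hQT _).1 hνA
      obtain ⟨φ, hφ, hφν⟩ := hνm
      have hrange : φ.range = Q := by
        ext y
        constructor
        · rintro ⟨x, rfl⟩
          rw [hφν]
          exact extFun_mem _ x.2
        · intro hy
          refine ⟨⟨extFun (ν : MulAut Q)⁻¹ y, extFun_mem _ hy⟩, ?_⟩
          rw [hφν]
          exact extFun_apply_inv _ hy
      obtain ⟨ψ, hψ, hψφ⟩ := hQr.2 Q φ hφ hrange
      -- the extender is all of `N_T(Q)`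
      have hext : normalizerIn T Q ≤ extender T Q φ := by
        intro g hg
        rw [mem_extender_iff]
        have hgT : g ∈ T := hg.1
        have hgN : g ∈ Subgroup.normalizer (Q : Set Ω) := hg.2
        refine ⟨hgT, hgN, ?_⟩
        -- `c_g ∈ R`, so `ν c_g ν⁻¹ ∈ R`
        let cg : MulAut Q := Q.normalizerMonoidHom ⟨g, hgN⟩
        have hcg : cg ∈ autInducedBy T Q :=
          (mem_autInducedBy_iff T Q _).2 ⟨g, hgT, fun _ => rfl⟩
        have hcgA : cg ∈ E₁.autGroup Q := autInducedBy_le_autGroup E₁ hQT hcg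
        have hcgR : (⟨cg, hcgA⟩ : E₁.autGroup Q) ∈ (R : Subgroup (E₁.autGroup Q)) := by
          rw [hR, Subgroup.mem_subgroupOf]
          exact hcg
        have hconj : ν * ⟨cg, hcgA⟩ * ν⁻¹ ∈ (R : Subgroup (E₁.autGroup Q)) :=
          (Subgroup.mem_normalizer_iff.1 hν _).1 hcgR
        rw [hR, Subgroup.mem_subgroupOf] at hconj
        obtain ⟨h, hhT, hh⟩ := (mem_autInducedBy_iff T Q _).1 hconj
        refine ⟨h, hhT, fun x hx => ?_⟩
        have e1 := hh ((ν : MulAut Q) x)
        have e2 : ((ν * ⟨cg, hcgA⟩ * ν⁻¹ : E₁.autGroup Q) : MulAut Q) ((ν : MulAut Q) x) =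
            (ν : MulAut Q) (cg x) := by
          show (ν : MulAut Q) (cg ((ν : MulAut Q)⁻¹ ((ν : MulAut Q) x))) = _
          rw [MulAut.inv_apply_self]
        rw [e2] at e1
        rw [hφν, hφν]
        show extFun (ν : MulAut Q) (g * x * g⁻¹) = h * extFun (ν : MulAut Q) x * h⁻¹
        rw [extFun_apply _ hx, extFun_coe]
        exact e1
      -- the extension as a function on `N_T(Q)`
      have ha : IsMapOn E₁ (normalizerIn T Q) (extHom ψ) := (isMapOn_extHom E₁ hψ).mono hext
      have haQ : ∀ x ∈ Q, extHom ψ x = extFun (ν : MulAut Q) x := by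
        intro x hx
        have hxN : x ∈ extender T Q φ := hext (le_normalizerIn hQT hx)
        rw [extHom_apply ψ hxN, hψφ x hx hxN, hφν]
      -- it preserves `N_T(Q)`
      have haN : ∀ g ∈ normalizerIn T Q, extHom ψ g ∈ normalizerIn T Q := by
        intro g hg
        refine Subgroup.mem_inf.2 ⟨ha.mem hg, ?_⟩
        have key : ∀ k ∈ normalizerIn T Q, ∀ y ∈ Q, extHom ψ k * y * (extHom ψ k)⁻¹ ∈ Q := by
          intro k hk y hy
          have hx : extFun (ν : MulAut Q)⁻¹ y ∈ Q := extFun_mem _ hy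
          have hy' : y = extHom ψ (extFun (ν : MulAut Q)⁻¹ y) := by
            rw [haQ _ hx, extFun_apply_inv _ hy]
          have hxN : extFun (ν : MulAut Q)⁻¹ y ∈ normalizerIn T Q := le_normalizerIn hQT hx
          have hcx : k * extFun (ν : MulAut Q)⁻¹ y * k⁻¹ ∈ Q := conj_mem_of_mem_normalizerIn hk hx
          rw [hy', ← ha.map_inv hk, ← ha.map_mul hk hxN,
            ← ha.map_mul ((normalizerIn T Q).mul_mem hk hxN) ((normalizerIn T Q).inv_mem hk), haQ _ hcx]
          exact extFun_mem _ hcx
        rw [Subgroup.mem_normalizer_iff]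
        intro y
        constructor
        · exact key g hg y
        · intro hy
          have h1 := key g⁻¹ ((normalizerIn T Q).inv_mem hg) _ hy
          rw [ha.map_inv hg] at h1
          have e : (extHom ψ g)⁻¹ * (extHom ψ g * y * (extHom ψ g)⁻¹) * (extHom ψ g)⁻¹⁻¹ = y := by group
          rwa [e] at h1
      obtain ⟨ν', hν', hν'a⟩ := exists_aut_of_isMapOn ha haN
      have hfinN : Finite (normalizerIn T Q) := finite_of_le_S (normalizerIn_le T Q)
      have hlt : Nat.card Q < Nat.card (normalizerIn T Q) :=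
        card_lt_of_lt (lt_normalizerIn hT hQT hQne)
      have hbig := ih _ (normalizerIn_le T Q) hlt ν' hν'
      show IsMapOn E₂ Q (extFun (ν : MulAut Q))
      refine (hbig.mono (le_normalizerIn hQT)).congr (fun x hx => ?_)
      rw [extFun_apply _ (le_normalizerIn hQT hx), hν'a]
      exact haQ x hx
  have hβX : (⟨β, hβ⟩ : E₁.autGroup Q) ∈ X := by
    rw [hX]
    exact Subgroup.mem_top _
  exact hβX

/-- **Subsystems stable under conjugation are determined by `Aut(T)`.**  If `E₁` is saturated, `E₂` is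
stable under conjugation by the isomorphisms of `E₁`, and every `E₁`-automorphism of `T` lies in `E₂`, then
every map of `E₁` is a map of `E₂`. -/
theorem isMapOn_of_stable (hT : IsPGroup p T) (E₁ E₂ : FusionSystem T) (h₁ : E₁.IsSaturated p)
    (hst : StableUnder E₁ E₂) (htop : ∀ f : Ω → Ω, IsMapOn E₁ T f → IsMapOn E₂ T f) :
    ∀ (P : Subgroup Ω) (f : Ω → Ω), IsMapOn E₁ P f → IsMapOn E₂ P f := by
  classical
  -- all automorphism groups
  have claim : ∀ n : ℕ, ∀ U : Subgroup Ω, U ≤ T → Nat.card T - Nat.card U = n →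
      ∀ α ∈ E₁.autGroup U, IsMapOn E₂ U (extFun α) := by
    intro n
    induction n using Nat.strong_induction_on with
    | _ n ih =>
      intro U hU hn α hα
      by_cases hUT : U = T
      · subst hUT
        exact htop _ ((mem_autGroup_iff E₁ le_rfl α).1 hα)
      · have : Finite U := finite_of_le_S hU
        obtain ⟨Q, hUQ, hQa, hQr⟩ := h₁ U hU
        have hQT : Q ≤ T := hQa.1
        have hcard : Nat.card U = Nat.card Q := Helper85_Fusion.isConj_card_eq E₁ hUQ
        have hQne : Q ≠ T := by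
          intro h
          apply hUT
          apply Subgroup.eq_of_le_of_card_ge hU
          rw [hcard, h]
        have hUle : Nat.card U ≤ Nat.card T := Subgroup.card_le_of_le hU
        have ih' : ∀ U' : Subgroup Ω, U' ≤ T → Nat.card Q < Nat.card U' →
            ∀ α ∈ E₁.autGroup U', IsMapOn E₂ U' (extFun α) := by
          intro U' hU' hlt α' hα'
          have hU'le : Nat.card U' ≤ Nat.card T := Subgroup.card_le_of_le hU'
          exact ih (Nat.card T - Nat.card U') (by omega) U' hU' rfl α' hα'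
        have hQall := aut_mem_of_larger hT hst hQa hQr hQne ih'
        -- transfer along `k : U → Q`
        obtain ⟨k, hk, hkI⟩ := exists_isMapOn_of_isConj hUQ
        obtain ⟨ki, hki, hki1, hki2, hki3⟩ := IsMapOn.inv hk hkI
        have hαm : IsMapOn E₁ U (extFun α) := (mem_autGroup_iff E₁ hU α).1 hα
        have hb : IsMapOn E₁ Q (k ∘ extFun α ∘ ki) :=
          (hki.comp hαm hki2).comp hk (fun y hy => extFun_mem α (hki2 y hy))
        have hbQ : ∀ y ∈ Q, (k ∘ extFun α ∘ ki) y ∈ Q := fun y hy =>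
          hkI.mem (extFun_mem α (hki2 y hy))
        obtain ⟨β, hβ, hβb⟩ := exists_aut_of_isMapOn hb hbQ
        have hβm := hQall β hβ
        obtain ⟨f', hf', hf'eq⟩ := hst U Q k (extFun β) hk hkI hβm (fun y hy => extFun_mem β hy)
        refine hf'.congr (fun x hx => ?_)
        obtain ⟨h1, h2⟩ := hf'eq x hx
        apply hk.injOn h1 (extFun_mem α hx)
        rw [h2, extFun_apply β (hkI.mem hx), hβb]
        simp only [Function.comp_apply]
        rw [hki1 x hx]
  refine weak_alperin_isMapOn E₁ hT h₁ E₂ ?_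
  intro Q hQa _ α hα
  exact claim _ Q hQa.1 rfl α hα

end Cfsg.Agent.Lib.Helper85_StableSub
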