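import Cfsg.Agent.Lib.Helper85_PIdx6
import Cfsg.Agent.S5119

/-!
# Terminating residual series (helper85), part 2: subsystems of index `p` are invariant

The saturated subsystem of `p`-power index over a subgroup of index `p` containing the hyperfocal subgroup, built from
the realizing group with a character, is invariant in the ambient system.
-/

set_option autoImplicit false
set_option linter.style.haveILetI false

namespace Cfsg.Agent.Lib.Helper85_TRS2

open Cfsg Cfsg.FusionSystem Cfsg.Agent.Lib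
open Cfsg.Agent.Lib.Helper87_Alperin Cfsg.Agent.Lib.Helper88_Centric
open Cfsg.Agent.Lib.Helper85_Transport Cfsg.Agent.Lib.Helper85_Transport2
open Cfsg.Agent.Lib.Helper85_PIdx1 Cfsg.Agent.Lib.Helper85_PIdx2 Cfsg.Agent.Lib.Helper85_PIdx5
open Cfsg.Agent.Lib.Helper85_PIdx6

universe u v w

variable {Ω : Type u} [Group Ω] {S : Subgroup Ω}

/-- Strong invariance at the level of functions gives invariance. -/
theorem isInvariantIn_of_si [Finite S] {p : ℕ} [Fact p.Prime] (hS : IsPGroup p S) {F : FusionSystem S}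
    (hF : F.IsSaturated p) {T : Subgroup Ω} {E : FusionSystem T} (hE : E.IsSubsystemOf F)
    (hT : F.StronglyClosed T) (hSI : Cfsg.Agent.S5119.SI F E) : E.IsInvariantIn F := by
  rw [Cfsg.Agent.S5119.result p hS F hF E hE hT]
  intro P Q hPQ hQT φ hφ hφQ ψ hψ
  obtain ⟨R, h, hR, hh, hhg⟩ := hSI P Q (extHom φ) (extHom ψ) hPQ hQT (isMapOn_extHom E hφ)
    (fun x hx => by rw [extHom_apply φ hx]; exact hφQ ⟨x, hx⟩) (isMapOn_extHom F hψ)
  have hReq : R = (P.subgroupOf Q).map ψ := by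
    ext y
    rw [hR y, Helper85_Fusion.mem_map_subgroupOf]
    constructor
    · rintro ⟨x, hx, rfl⟩
      exact ⟨x, hx, hPQ hx, (extHom_apply ψ (hPQ hx)).symm⟩
    · rintro ⟨x, hxP, hxQ, rfl⟩
      exact ⟨x, hxP, extHom_apply ψ hxQ⟩
  subst hReq
  obtain ⟨χ, hχ, hχh⟩ := hh
  refine ⟨χ, hχ, fun x hx => ?_⟩
  rw [hχh]
  show h (ψ (Subgroup.inclusion hPQ x)) = _
  have h1 : ψ (Subgroup.inclusion hPQ x) = extHom ψ (x : Ω) := (extHom_apply ψ (hPQ x.2)).symm
  rw [h1, hhg x x.2, extHom_coe φ x, extHom_apply ψ (hφQ x)]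

section datum

variable {M : Subgroup Ω} {p : ℕ} {F : FusionSystem S} {G : Type v} [Group G] {Γ : Type w} [CommGroup Γ]

/-- The subsystem of a datum is strongly invariant. -/
theorem si_E (d : Datum p F M G Γ) : Cfsg.Agent.S5119.SI F d.E := by
  intro P Q f g hPQ hQM hf hfQ hg
  have hfE := d.isMapOn_E_iff.1 hf
  obtain ⟨R, hR, -⟩ := exists_isImage (hg.mono hPQ)
  obtain ⟨g', hg', hg'g, hg'P, hgg'⟩ := (hg.mono hPQ).inv hR
  have hRM : R ≤ M := by
    intro y hy
    obtain ⟨x, hx, rfl⟩ := (hR y).1 hy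
    exact Cfsg.Agent.S5119.sc_apply_mem' d.stronglyClosed hg hQM (hPQ hx)
  refine ⟨R, g ∘ f ∘ g', hR, ?_, fun x hx => ?_⟩
  · refine d.isMapOn_E_iff.2 ⟨?_, hRM, ?_⟩
    · exact (hg'.comp hfE.1 hg'P).comp hg (fun y hy => hfQ _ (hg'P y hy))
    · obtain ⟨b, hb⟩ := d.real hg
      obtain ⟨c, hc, hfc⟩ := hfE.2.2
      refine ⟨b * c * b⁻¹, by rw [d.π_conj, hc], fun y hy => ?_⟩
      have hx : g' y ∈ P := hg'P y hy
      have h1 : d.ι y = b * d.ι (g' y) * b⁻¹ := by
        rw [← hb _ (hPQ hx), hgg' y hy]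
      show d.ι (g (f (g' y))) = _
      rw [hb _ (hfQ _ hx), hfc _ hx, h1]
      group
  · show g (f (g' (g x))) = g (f x)
    rw [hg'g x hx]

/-- The subsystem of a datum is invariant in the system. -/
theorem isInvariantIn_E [Finite S] [Fact p.Prime] (hS : IsPGroup p S) (hF : F.IsSaturated p)
    (d : Datum p F M G Γ) : d.E.IsInvariantIn F :=
  isInvariantIn_of_si hS hF d.E_le_F d.stronglyClosed (si_E d)

end datum

/-- **A saturated invariant subsystem of `p`-power index over a subgroup of index `p`** containing the hyperfocal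
subgroup. -/
theorem exists_index_p_inv [Finite S] {p : ℕ} [hp : Fact p.Prime] (hS : IsPGroup p S) (F : FusionSystem S)
    (hF : F.IsSaturated p) (M : Subgroup Ω) (hMS : M ≤ S) (hidx : (M.subgroupOf S).index = p)
    (hhyp : F.hyperfocalSubgroup p ≤ M) :
    ∃ E : FusionSystem M, E.IsSaturated p ∧ E.HasPPowerIndexIn F p ∧ E.IsInvariantIn F := by
  classical
  -- normality
  have hnorm : (M.subgroupOf S).Normal := by
    apply Subgroup.normal_of_index_eq_minFac_card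
    rw [hidx]
    obtain ⟨n, hn⟩ := hS.exists_card_eq
    have hn0 : n ≠ 0 := by
      rintro rfl
      rw [pow_zero] at hn
      have h1 : (M.subgroupOf S).index ∣ Nat.card S := Subgroup.index_dvd_card _
      rw [hidx, hn] at h1
      exact hp.out.one_lt.ne' (Nat.dvd_one.1 h1)
    rw [hn, Nat.Prime.pow_minFac hp.out hn0]
  set Γ := ↥S ⧸ M.subgroupOf S with hΓdef
  have hcardΓ : Nat.card Γ = p := hidx
  haveI : IsCyclic Γ := isCyclic_of_prime_card hcardΓ
  letI : CommGroup Γ := IsCyclic.commGroup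
  haveI : Finite Γ := Nat.finite_of_card_ne_zero (by rw [hcardΓ]; exact hp.out.ne_zero)
  set lam₀ : ↥S →* Γ := QuotientGroup.mk' (M.subgroupOf S) with hlam₀
  have hker : ∀ s : ↥S, lam₀ s = 1 ↔ (s : Ω) ∈ M := by
    intro s
    rw [hlam₀, QuotientGroup.mk'_apply, QuotientGroup.eq_one_iff, Subgroup.mem_subgroupOf]
  have hΓpow : ∀ γ : Γ, γ ^ p = 1 := by
    intro γ
    rw [← hcardΓ]
    exact pow_card_eq_one'
  have hΓgen : ∀ γ : Γ, γ ≠ 1 → ∀ δ : Γ, ∃ k : ℕ, δ = γ ^ k := by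
    intro γ hγ δ
    have h1 : Subgroup.zpowers γ = ⊤ := zpowers_eq_top_of_prime_card hcardΓ hγ
    have h2 : δ ∈ Subgroup.zpowers γ := by rw [h1]; exact Subgroup.mem_top δ
    rw [← mem_powers_iff_mem_zpowers, Submonoid.mem_powers_iff] at h2
    obtain ⟨k, hk⟩ := h2
    exact ⟨k, hk.symm⟩
  -- commutators lie in `M`
  have hM : ∀ s ∈ S, ∀ x ∈ S, x⁻¹ * (s * x * s⁻¹) ∈ M := by
    intro s hs x hx
    have h1 : lam₀ (⟨x, hx⟩⁻¹ * (⟨s, hs⟩ * ⟨x, hx⟩ * ⟨s, hs⟩⁻¹)) = 1 := by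
      rw [map_mul, map_mul, map_mul, map_inv, map_inv, mul_comm (lam₀ ⟨s, hs⟩), mul_inv_cancel_right,
        inv_mul_cancel]
    exact (hker _).1 h1
  have hlam : ∀ (P : Subgroup Ω) (f : Ω → Ω) (hf : IsMapOn F P f) (x : Ω) (hx : x ∈ P),
      lam₀ ⟨f x, hf.mem hx⟩ = lam₀ ⟨x, hf.le hx⟩ := by
    intro P f hf x hx
    have h1 := inv_mul_map_mem hS F hF hM hhyp hf hx
    have h2 : lam₀ (⟨x, hf.le hx⟩⁻¹ * ⟨f x, hf.mem hx⟩) = 1 := (hker _).2 h1
    rw [map_mul, map_inv, inv_mul_eq_one] at h2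
    exact h2.symm
  have hout : ∃ s ∈ S, s ∉ M := by
    by_contra hne
    push Not at hne
    have h1 : M.subgroupOf S = ⊤ := by
      rw [Subgroup.eq_top_iff']
      intro s
      exact Subgroup.mem_subgroupOf.2 (hne s s.2)
    rw [h1, Subgroup.index_top] at hidx
    exact hp.out.one_lt.ne' hidx.symm
  obtain ⟨G, hG, ⟨d⟩⟩ := exists_datum hS F hF hΓpow hΓgen lam₀ hlam M hMS hker hout
  exact ⟨d.E, isSaturated_E d hS hF, hasPPowerIndexIn_E d hhyp, isInvariantIn_E hS hF d⟩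

end Cfsg.Agent.Lib.Helper85_TRS2
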