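import Cfsg.Agent.Lib.Helper85_TRS2
import Cfsg.Agent.Lib.Helper87_Constrained
import Cfsg.Agent.Lib.Helper87_GTCentric
import Cfsg.Agent.Lib.Helper87_Hyperfocal
import Cfsg.Agent.S5291
import Cfsg.Agent.S5139
import Cfsg.Agent.S5141

/-!
# Terminating residual series (helper85), part 3: constrained systems and residual subsystems

If a saturated subsystem of `p`-power index of a saturated system `E` is constrained, so is `E`; if the `p'`-residual
subsystem of a saturated system `F` is constrained, so is `F`.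
-/

set_option autoImplicit false
set_option linter.style.haveILetI false

namespace Cfsg.Agent.Lib.Helper85_TRS3

open Cfsg Cfsg.FusionSystem Cfsg.Agent.Lib
open Cfsg.Agent.Lib.Helper87_Alperin Cfsg.Agent.Lib.Helper88_Centric
open Cfsg.Agent.Lib.Helper87_Normal Cfsg.Agent.Lib.Helper87_Normal2 Cfsg.Agent.Lib.Helper87_Constrained
open Cfsg.Agent.Lib.Helper85_TRS2

universe u

variable {Ω : Type u} [Group Ω] {S : Subgroup Ω}

/-- Let `R` be normal in the saturated system `E`, contained in a strongly closed subgroup `M` that contains the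
hyperfocal subgroup, with `C_M(R) ≤ R`.  Then `R C_S(R)` is normal and centric in `E`; so `E` is constrained. -/
theorem isConstrained_of_normal_le [Finite S] {p : ℕ} [Fact p.Prime] (hS : IsPGroup p S)
    (E : FusionSystem S) (hE : E.IsSaturated p) {R M : Subgroup Ω} (hR : E.IsNormal R)
    (hM : E.StronglyClosed M) (hhyp : E.hyperfocalSubgroup p ≤ M) (hRM : R ≤ M)
    (hcent : centralizerIn M R ≤ R) : E.IsConstrained p := by
  classical
  have hRsc : E.StronglyClosed R := Helper84_FusionNormal.IsNormal.stronglyClosed hR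
  have hRS : R ≤ S := hR.1
  have hX : E.StronglyClosed (centralizerIn S R) := by
    have hSsc : E.StronglyClosed S := ⟨le_rfl, fun P _ φ hφ x => (E.le_of_mem hφ).2 x⟩
    have h1 := stronglyClosed_centralizerIn_inf hR hSsc
    rwa [inf_eq_left.2 hRS] at h1
  have hnormR : S ≤ Subgroup.normalizer (R : Set Ω) := stronglyClosed_le_normalizer hRsc
  have hYn : E.IsNormal (R ⊔ centralizerIn S R) := by
    rw [Cfsg.Agent.S5086.result p hS E hE]
    refine ⟨Cfsg.Agent.S5128.result p hS E hE _ _ hRsc hX, fun P hPc hPrad => ?_⟩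
    have hPS : P ≤ S := hPc.1
    have hRP : R ≤ P := Helper84_FusionNormal.IsNormal.le_of_isCentric_of_isRadical hS hR hPc hPrad
    refine sup_le hRP ?_
    by_contra hXP
    have hfinP : Finite P := Finite.of_injective (Subgroup.inclusion hPS) (Subgroup.inclusion_injective hPS)
    obtain ⟨x, hxX, hxN, hxP⟩ := exists_mem_normalizer_not_mem hS hPS hX.1
      (hPS.trans (stronglyClosed_le_normalizer hX)) hXP
    have hxS : x ∈ S := hX.1 hxX
    have hxc : ∀ y ∈ R, y * x = x * y := fun y hy => Subgroup.mem_centralizer_iff.1 hxX.2 y hy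
    let β : MulAut P := Subgroup.normalizerMonoidHom P ⟨x, hxN⟩
    have hβ : ∀ y : P, ((β y : P) : Ω) = x * y * x⁻¹ := fun y => rfl
    have hβK : β ∈ E.autGroup P :=
      autInducedBy_le_autGroup E hPS ((mem_autInducedBy_iff S P β).2 ⟨x, hxS, hβ⟩)
    let U : ℕ → Subgroup Ω := fun _ => R
    let V : ℕ → Subgroup Ω := fun _ => ⊥
    have hinvU : ∀ j < 1, ∀ α ∈ E.autGroup P, ∀ y : P, (y : Ω) ∈ U j → ((α y : P) : Ω) ∈ U j :=
      fun j _ α hα y hy => stronglyClosed_aut_mem hRsc hPS hα y hy
    have hinvV : ∀ j < 1, ∀ α ∈ E.autGroup P, ∀ y : P, (y : Ω) ∈ V j → ((α y : P) : Ω) ∈ V j := by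
      intro j _ α _ y hy
      have hy' : (y : Ω) = 1 := Subgroup.mem_bot.1 hy
      have : y = 1 := Subtype.ext hy'
      rw [this, map_one]
      exact Subgroup.one_mem _
    have htriv : ∀ α ∈ E.autGroup P, (orderOf α).Coprime p →
        (∀ j < 1, ∀ y : P, (y : Ω) ∈ U j → (y : Ω)⁻¹ * ((α y : P) : Ω) ∈ V j) → α = 1 := by
      intro α hα hαc hstab
      have hPp : IsPGroup p P := hS.to_le hPS
      have hfixR : ∀ y : P, (y : Ω) ∈ R → α y = y := by
        intro y hy
        have h1 := hstab 0 Nat.zero_lt_one y hy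
        have h2 : (y : Ω)⁻¹ * ((α y : P) : Ω) = 1 := Subgroup.mem_bot.1 h1
        rw [inv_mul_eq_one] at h2
        exact (Subtype.ext h2).symm
      have hhy : ∀ y : P, (y : Ω)⁻¹ * ((α y : P) : Ω) ∈ M := fun y =>
        hhyp (Helper87_Hyperfocal.mem_hyperfocal hPS hα hαc y)
      -- `α` fixes `P ∩ M`
      have stepA : ∀ y : P, (y : Ω) ∈ M → α y = y := by
        intro y _
        set t : P := y⁻¹ * α y with ht
        have htM : (t : Ω) ∈ M := hhy y
        have hxt : α y = y * t := by rw [ht]; group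
        have htc : (t : Ω) ∈ centralizerIn M R := by
          refine ⟨htM, ?_⟩
          intro q hq
          have hyS : (y : Ω) ∈ S := hPS y.2
          have hq' : (y : Ω) * q * (y : Ω)⁻¹ ∈ R := ((Subgroup.mem_normalizer_iff.1 (hnormR hyS)) q).1 hq
          have e1 : α (y * ⟨q, hRP hq⟩ * y⁻¹) = y * ⟨q, hRP hq⟩ * y⁻¹ := hfixR _ hq'
          have e2 : α (⟨q, hRP hq⟩ : P) = ⟨q, hRP hq⟩ := hfixR _ hq
          rw [map_mul, map_mul, map_inv, e2, hxt] at e1
          have e3 := congrArg Subtype.val e1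
          simp only [Subgroup.coe_mul, Subgroup.coe_inv] at e3
          have e4 : (t : Ω) * q * (t : Ω)⁻¹ = q := by
            have : (y : Ω) * ((t : Ω) * q * (t : Ω)⁻¹) * (y : Ω)⁻¹ = (y : Ω) * q * (y : Ω)⁻¹ := by
              rw [← e3]; group
            exact mul_left_cancel (mul_right_cancel this)
          calc q * (t : Ω) = ((t : Ω) * q * (t : Ω)⁻¹) * (t : Ω) := by rw [e4]
            _ = (t : Ω) * q := by group
        have htR : (t : Ω) ∈ R := hcent htc
        have hαt : α t = t := hfixR t htR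
        obtain ⟨k, hk⟩ := hPp t
        have := eq_one_of_fixed_quotient α hαc y t hxt hαt hk
        rw [hxt, this, mul_one]
      ext y
      set t : P := y⁻¹ * α y with ht
      have hxt : α y = y * t := by rw [ht]; group
      have hαt : α t = t := stepA t (hhy y)
      obtain ⟨k, hk⟩ := hPp t
      have := eq_one_of_fixed_quotient α hαc y t hxt hαt hk
      rw [hxt, this, mul_one]
      rfl
    have hβstab : ∀ j < 1, ∀ y : P, (y : Ω) ∈ U j → (y : Ω)⁻¹ * ((β y : P) : Ω) ∈ V j := by
      intro j _ y hy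
      rw [hβ]
      show _ ∈ (⊥ : Subgroup Ω)
      rw [Subgroup.mem_bot, ← hxc (y : Ω) hy]
      group
    have hβcore : β ∈ (pCore p (E.autGroup P)).map (E.autGroup P).subtype :=
      mem_pCore_of_stabilizes_pairs (E.autGroup P) U V 1 hinvU hinvV htriv β hβK hβstab
    exact hxP (mem_of_conj_mem_pCore hPc hPrad hxS β hβ hβcore)
  refine ⟨hE, R ⊔ centralizerIn S R, hYn, Helper87_GTCentric.isCentric_of_isNormal hYn ?_⟩
  intro x hx
  exact le_sup_right (a := R)
    ⟨hx.1, Subgroup.centralizer_le (SetLike.coe_subset_coe.2 le_sup_left) hx.2⟩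

/-- If a saturated invariant subsystem over a subgroup containing the hyperfocal subgroup is constrained, so is the
system. -/
theorem isConstrained_of_invariant [Finite S] {p : ℕ} [Fact p.Prime] (hS : IsPGroup p S)
    (E : FusionSystem S) (hE : E.IsSaturated p) {M : Subgroup Ω} (E' : FusionSystem M)
    (hE' : E'.IsSaturated p) (hinv : E'.IsInvariantIn E) (hhyp : E.hyperfocalSubgroup p ≤ M)
    (hc : E'.IsConstrained p) : E.IsConstrained p := by
  have hM : E.StronglyClosed M := hinv.2.1
  have hMS : M ≤ S := hM.1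
  haveI : Finite M := Helper84_FusionRS.finite_of_le_S hMS
  have hQn : E'.IsNormal E'.core := Helper85_Fusion.isNormal_core E'
  have hQc : centralizerIn M E'.core ≤ E'.core := centralizerIn_core_le hc
  have hRn := Cfsg.Agent.S5291.result p hS E hE E' ⟨hE', hE, hinv⟩ E'.core hQn
  have hQR : E'.core ≤ Subgroup.closure {x : Ω | ∃ φ ∈ E.Hom E'.core, ∃ r : E'.core, x = φ r} :=
    fun x hx => Subgroup.subset_closure
      ⟨(E'.core).subtype, Helper85_Fusion.subtype_mem E (hQn.1.trans hMS), ⟨x, hx⟩, rfl⟩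
  have hRM : Subgroup.closure {x : Ω | ∃ φ ∈ E.Hom E'.core, ∃ r : E'.core, x = φ r} ≤ M := by
    rw [Subgroup.closure_le]
    rintro x ⟨φ, hφ, r, rfl⟩
    exact hM.2 E'.core hQn.1 φ hφ r
  refine isConstrained_of_normal_le hS E hE hRn hM hhyp hRM ?_
  intro x hx
  exact hQR (hQc ⟨hx.1, Subgroup.centralizer_le (SetLike.coe_subset_coe.2 hQR) hx.2⟩)

/-- A proper subgroup of a finite `p`-group lies in a normal subgroup of index `p`. -/
theorem exists_index_p_subgroup [Finite S] {p : ℕ} [hp : Fact p.Prime] (hS : IsPGroup p S)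
    {T : Subgroup Ω} (hTS : T ≤ S) (hne : T ≠ S) :
    ∃ M : Subgroup Ω, M ≤ S ∧ T ≤ M ∧ (M.subgroupOf S).index = p ∧ Nat.card M < Nat.card S := by
  haveI : Finite T := Helper84_FusionRS.finite_of_le_S hTS
  obtain ⟨b, hb⟩ := hS.exists_card_eq
  have hTp : IsPGroup p (T.subgroupOf S) := hS.to_subgroup _
  obtain ⟨a, ha⟩ := hTp.exists_card_eq
  have hlt : T.subgroupOf S ≠ ⊤ := by
    intro h
    apply hne
    apply le_antisymm hTS
    intro s hs
    have : (⟨s, hs⟩ : ↥S) ∈ T.subgroupOf S := by rw [h]; exact Subgroup.mem_top _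
    exact Subgroup.mem_subgroupOf.1 this
  have hab : a < b := by
    have h1 : Nat.card (T.subgroupOf S) < Nat.card S := by
      by_contra hge
      push Not at hge
      exact hlt (Subgroup.eq_top_of_le_card _ hge)
    rw [ha, hb] at h1
    exact (Nat.pow_lt_pow_iff_right hp.out.one_lt).1 h1
  obtain ⟨K, hK, hTK⟩ := Sylow.exists_subgroup_card_pow_prime_le p
    (show p ^ (b - 1) ∣ Nat.card S by rw [hb]; exact pow_dvd_pow p (Nat.sub_le b 1))
    (T.subgroupOf S) ha (by omega)
  have hMS : K.map S.subtype ≤ S := by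
    rintro _ ⟨x, -, rfl⟩
    exact x.2
  have hMK : (K.map S.subtype).subgroupOf S = K :=
    Subgroup.comap_map_eq_self_of_injective S.subtype_injective K
  refine ⟨K.map S.subtype, hMS, ?_, ?_, ?_⟩
  · intro t ht
    exact ⟨⟨t, hTS ht⟩, hTK (Subgroup.mem_subgroupOf.2 ht), rfl⟩
  · rw [hMK]
    have h1 := K.card_mul_index
    rw [hK, hb] at h1
    have h2 : p ^ (b - 1) * p = p ^ b := by
      rw [← pow_succ]
      congr 1
      omega
    rw [← h2] at h1
    exact Nat.eq_of_mul_eq_mul_left (pow_pos hp.out.pos _) h1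
  · have h1 : Nat.card ↥(K.map S.subtype) = Nat.card K :=
      Subgroup.card_map_of_injective S.subtype_injective
    rw [h1, hK, hb]
    exact Nat.pow_lt_pow_right hp.out.one_lt (by omega)

/-- **If a saturated subsystem of `p`-power index is constrained, so is the system.** -/
theorem isConstrained_of_pPower {p : ℕ} [hp : Fact p.Prime] :
    ∀ (n : ℕ) {S : Subgroup Ω} [Finite S], IsPGroup p S → ∀ E : FusionSystem S, E.IsSaturated p →
      Nat.card S = n → ∀ {T : Subgroup Ω} (D : FusionSystem T), D.IsSaturated p →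
      D.HasPPowerIndexIn E p → D.IsConstrained p → E.IsConstrained p := by
  intro n
  induction n using Nat.strong_induction_on with
  | _ n ih =>
  intro S _ hS E hE hn T D hDs hDi hDc
  have hTS : T ≤ S := (E.le_of_mem (hDi.1 T (Helper85_Fusion.subtype_mem D le_rfl))).1
  haveI : Finite T := Helper84_FusionRS.finite_of_le_S hTS
  have hTp : IsPGroup p T := hS.to_le hTS
  obtain rfl | hne := eq_or_ne T S
  · have hDE : D = E := Helper85_Transport2.fs_ext
      (Cfsg.Agent.S5139.hom_eq_of_pPower rfl hS E D E hDs hDi hE (Helper85_ResLimit.hasPPowerIndexIn_self E p))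
    rw [← hDE]
    exact hDc
  · obtain ⟨M, hMS, hTM, hidx, hcard⟩ := exists_index_p_subgroup hS hTS hne
    have hhypM : E.hyperfocalSubgroup p ≤ M := hDi.2.1.trans hTM
    obtain ⟨E₁, hE₁s, hE₁i, hE₁inv⟩ := exists_index_p_inv hS E hE M hMS hidx hhypM
    haveI : Finite M := Helper84_FusionRS.finite_of_le_S hMS
    have hsc : E.StronglyClosed M := hE₁inv.2.1
    have hhypeq := Helper85_ResLimit.hyperfocal_eq_of_pPower hS hsc hE₁i
    obtain ⟨D', hD's, hD'i⟩ := Helper85_PIdx6.exists_pPower _ (hS.to_le hMS) E₁ hE₁s rfl T hTM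
      (by rw [hhypeq]; exact hDi.2.1)
    have hD'E : D'.HasPPowerIndexIn E p := Helper85_ResLimit.pPower_trans hE₁i hhypeq.ge hD'i
    have hDD' : D' = D := Helper85_Transport2.fs_ext
      (Cfsg.Agent.S5139.hom_eq_of_pPower rfl hTp E D' D hD's hD'E hDs hDi)
    subst hDD'
    have hE₁c : E₁.IsConstrained p :=
      ih _ (hn ▸ hcard) (hS.to_le hMS) E₁ hE₁s rfl D' hD's hD'i hDc
    exact isConstrained_of_invariant hS E hE E₁ hE₁s hE₁inv hhypM hE₁c

/-- A system is strongly invariant in itself. -/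
theorem si_self (F : FusionSystem S) : Cfsg.Agent.S5119.SI F F := by
  intro P Q f g hPQ _ hf hfQ hg
  obtain ⟨R, hR, -⟩ := exists_isImage (hg.mono hPQ)
  obtain ⟨g', hg', hg'g, hg'P, -⟩ := (hg.mono hPQ).inv hR
  refine ⟨R, g ∘ f ∘ g', hR, ?_, fun x hx => ?_⟩
  · exact (hg'.comp hf hg'P).comp hg (fun y hy => hfQ _ (hg'P y hy))
  · show g (f (g' (g x))) = g (f x)
    rw [hg'g x hx]

/-- A saturated system is invariant in itself. -/
theorem isInvariantIn_self [Finite S] {p : ℕ} [Fact p.Prime] (hS : IsPGroup p S) {F : FusionSystem S}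
    (hF : F.IsSaturated p) : F.IsInvariantIn F :=
  isInvariantIn_of_si hS hF (fun _ _ h => h)
    ⟨le_rfl, fun _ _ φ hφ x => (F.le_of_mem hφ).2 x⟩ (si_self F)

/-- **If the `p'`-residual subsystem is constrained, so is the system.** -/
theorem isConstrained_of_pPrimeResidual [Finite S] {p : ℕ} [Fact p.Prime] (hS : IsPGroup p S)
    (F : FusionSystem S) (hF : F.IsSaturated p) (E : FusionSystem S) (hE : F.IsPPrimeResidual p E)
    (hEc : E.IsConstrained p) : F.IsConstrained p := by
  have hFF : F.IsWeaklyNormalIn F p := ⟨hF, hF, isInvariantIn_self hS hF⟩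
  have hEn : E.IsNormalIn F p := Cfsg.Agent.S5141.result p hS F hF F hFF E hE
  exact isConstrained_of_invariant hS F hF E hE.1 hEn.1.2.2
    (Helper87_Hyperfocal.hyperfocal_le_base F p) hEc

end Cfsg.Agent.Lib.Helper85_TRS3
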