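import Cfsg.Agent.Lib.Helper85_Transport2
import Cfsg.Agent.Lib.Helper87_Hyperfocal

/-!
Transport along an isomorphism `e : S ≃* S'` (helper85), continued: the hyperfocal subgroup, the centre,
factor systems, simple and quasisimple systems.
-/

set_option autoImplicit false
set_option linter.style.haveILetI false

namespace Cfsg.Agent.Lib.Helper85_Transport3

open Cfsg Cfsg.FusionSystem Cfsg.Agent.Lib Cfsg.Agent.Lib.Helper85_Transport
  Cfsg.Agent.Lib.Helper85_Transport2
open Cfsg.Agent.Lib.Helper87_Alperin (IsMapOn extFun extHom)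
open Cfsg.Agent.Lib.Helper87_Factor (extOn)

section Hyperfocal

variable {Ω Ω' : Type*} [Group Ω] [Group Ω'] {S : Subgroup Ω} {S' : Subgroup Ω'} {e : S ≃* S'}
  {F : FusionSystem S} {F' : FusionSystem S'}

theorem ext_mem_hyperfocal (h : Corr e F F') {p : ℕ} {x : Ω} (hx : x ∈ F.hyperfocalSubgroup p) :
    ext e x ∈ F'.hyperfocalSubgroup p := by
  have hle : F.hyperfocalSubgroup p ≤ push e.symm (F'.hyperfocalSubgroup p) := by
    apply Helper87_Hyperfocal.hyperfocal_le
    intro P hP α hα hcop x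
    rw [mem_push]
    have hxS : (x : Ω) ∈ S := hP x.2
    have hαxS : ((α x : P) : Ω) ∈ S := hP (α x).2
    refine ⟨ext e ((x : Ω)⁻¹ * ((α x : P) : Ω)), ?_, ext_mem e _, ?_⟩
    · have hα' := h.congr_mem_autGroup hP hα
      have hcop' : (orderOf (MulAut.congr (restrictEquiv e hP) α)).Coprime p := by
        rw [MulEquiv.orderOf_eq]
        exact hcop
      have h1 := Helper87_Hyperfocal.mem_hyperfocal (F := F') (p := p) (push_le e P) hα' hcop'
        (restrictEquiv e hP x)
      rw [coe_congr_apply] at h1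
      have h2 : (⟨ext e.symm ((restrictEquiv e hP x : push e P) : Ω'),
          ext_symm_mem e (restrictEquiv e hP x).2⟩ : P) = x := Subtype.ext (ext_symm_ext e hxS)
      rw [h2] at h1
      rw [ext_mul e (S.inv_mem hxS) hαxS, ext_inv e hxS]
      exact h1
    · exact ext_symm_ext e (S.mul_mem (S.inv_mem hxS) hαxS)
  exact ext_mem_of_mem_push_symm e (hle hx)

theorem hyperfocal_eq_of_corr (h : Corr e F F') {p : ℕ} (hF : F.hyperfocalSubgroup p = S) :
    F'.hyperfocalSubgroup p = S' := by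
  apply le_antisymm (Helper87_Hyperfocal.hyperfocal_le_base F' p)
  intro y hy
  have h1 : ext e.symm y ∈ F.hyperfocalSubgroup p := by
    rw [hF]
    exact ext_mem e.symm y
  have h2 := ext_mem_hyperfocal h h1
  rwa [ext_ext_symm e hy] at h2

end Hyperfocal

section Center

variable {Ω Ω' : Type*} [Group Ω] [Group Ω'] {S : Subgroup Ω} {S' : Subgroup Ω'} {e : S ≃* S'}
  {F : FusionSystem S} {F' : FusionSystem S'}

theorem isCentral_of_corr (h : Corr e F F') {Q : Subgroup Ω} (hQ : Q ≤ S)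
    (hn : F'.IsCentral (push e Q)) : F.IsCentral Q := by
  refine ⟨hQ, fun P φ hφ => ?_⟩
  have hPS : P ≤ S := Helper85_Fusion.source_le F hφ
  obtain ⟨φ', hφ', hφ'x⟩ := h.exists_push_hom hφ
  obtain ⟨ψ', hψ', hext', hfix'⟩ := hn.2 (push e P) φ' hφ'
  have hb := h.bwd _ _ (Helper87_Alperin.isMapOn_extHom F' hψ')
  have hD : push e.symm (push e P ⊔ push e Q) = P ⊔ Q := by
    rw [← push_sup e hPS hQ, push_symm_push e (sup_le hPS hQ)]
  obtain ⟨ψ, hψ, hψf⟩ := hb.mono (le_of_eq hD.symm)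
  have hDS : P ⊔ Q ≤ S := sup_le hPS hQ
  have hmemD : ∀ x ∈ P ⊔ Q, ext e x ∈ push e P ⊔ push e Q := by
    intro x hx
    rw [← push_sup e hPS hQ]
    exact ext_mem_push e hx (hDS hx)
  have hψx : ∀ (x : Ω) (hx : x ∈ P ⊔ Q), ψ ⟨x, hx⟩ = ext e.symm (ψ' ⟨ext e x, hmemD x hx⟩) := by
    intro x hx
    rw [hψf]
    simp only [Function.comp_apply]
    rw [Helper87_Alperin.extHom_apply ψ' (hmemD x hx)]
  refine ⟨ψ, hψ, fun x => ?_, fun x => ?_⟩
  · have hy : ext e (x : Ω) ∈ push e P := ext_mem_push e x.2 (hPS x.2)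
    have h1 := hext' ⟨ext e (x : Ω), hy⟩
    rw [hφ'x x x.2 hy] at h1
    have h2 := hψx x (Subgroup.mem_sup_left x.2)
    have h3 : (Subgroup.inclusion le_sup_left x : ↥(P ⊔ Q)) = ⟨(x : Ω), Subgroup.mem_sup_left x.2⟩ :=
      rfl
    rw [h3, h2]
    have h4 : (⟨ext e (x : Ω), hmemD x (Subgroup.mem_sup_left x.2)⟩ : ↥(push e P ⊔ push e Q)) =
        Subgroup.inclusion le_sup_left ⟨ext e (x : Ω), hy⟩ := rfl
    rw [h4, h1, ext_symm_ext e (Helper85_Fusion.apply_mem F hφ _)]
  · have hy : ext e (x : Ω) ∈ push e Q := ext_mem_push e x.2 (hQ x.2)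
    have h1 := hfix' ⟨ext e (x : Ω), hy⟩
    have h2 := hψx x (Subgroup.mem_sup_right x.2)
    have h3 : (Subgroup.inclusion le_sup_right x : ↥(P ⊔ Q)) = ⟨(x : Ω), Subgroup.mem_sup_right x.2⟩ :=
      rfl
    rw [h3, h2]
    have h4 : (⟨ext e (x : Ω), hmemD x (Subgroup.mem_sup_right x.2)⟩ : ↥(push e P ⊔ push e Q)) =
        Subgroup.inclusion le_sup_right ⟨ext e (x : Ω), hy⟩ := rfl
    rw [h4, h1]
    exact ext_symm_ext e (hQ x.2)

theorem push_center (h : Corr e F F') [Finite S] : push e F.center = F'.center := by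
  haveI : Finite S' := Finite.of_equiv S e.toEquiv
  have hZ := Helper85_Fusion.isCentral_center F
  have hZ' := Helper85_Fusion.isCentral_center F'
  apply le_antisymm
  · apply le_sSup
    apply isCentral_of_corr h.symm (push_le e _)
    rw [push_symm_push e hZ.1]
    exact hZ
  · have h1 : push e.symm F'.center ≤ F.center := by
      apply le_sSup
      apply isCentral_of_corr h (push_le e.symm _)
      rw [push_push_symm e hZ'.1]
      exact hZ'
    have h2 := push_mono e h1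
    rwa [push_push_symm e hZ'.1] at h2

end Center

section Simple

variable {Ω Ω' : Type*} [Group Ω] [Group Ω'] {S : Subgroup Ω} {S' : Subgroup Ω'} {e : S ≃* S'}
  {F : FusionSystem S} {F' : FusionSystem S'}

theorem push_bot (e : S ≃* S') : push e ⊥ = ⊥ := by
  rw [eq_bot_iff]
  intro y hy
  obtain ⟨x, hx, -, rfl⟩ := (mem_push e ⊥ y).1 hy
  rw [Subgroup.mem_bot] at hx
  rw [hx, ext_one]
  exact Subgroup.mem_bot.2 rfl

theorem isSimple_of_corr (h : Corr e F F') [Finite S] {p : ℕ} [Fact p.Prime] (hs : F.IsSimple p) :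
    F'.IsSimple p := by
  haveI : Finite S' := Finite.of_equiv S e.toEquiv
  obtain ⟨hsat, hne, hall⟩ := hs
  refine ⟨h.symm.isSaturated hsat, ?_, ?_⟩
  · intro hbot
    apply hne
    rw [eq_bot_iff]
    intro x hx
    have h1 : ext e x ∈ S' := ext_mem e x
    have h2 : ext e x ∈ (⊥ : Subgroup Ω') := hbot.le h1
    rw [Subgroup.mem_bot, ← ext_one e] at h2
    exact Subgroup.mem_bot.2 (ext_injOn e hx S.one_mem h2)
  · intro T' E' hn
    have hT' : T' ≤ S' := hn.1.2.2.2.1.1
    have hsub : E'.IsSubsystemOf F' := hn.1.2.2.1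
    have hc : SubCorr e.symm E' (pushSub e.symm hT' E') := subCorr_pushSub hT'
    have hn2 := SubCorr.isNormalIn' h.symm hc hn
    rcases hall _ _ hn2 with h1 | ⟨h1, h2⟩
    · left
      have := push_push_symm e hT'
      rw [h1, push_bot] at this
      exact this.symm
    · right
      refine ⟨?_, fun P' => Set.Subset.antisymm (hsub P') ?_⟩
      · have := push_push_symm e hT'
        rw [h1, push_self] at this
        exact this.symm
      · have hc' : SubCorr e (pushSub e.symm hT' E') E' := by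
          have := hc.symm
          rwa [MulEquiv.symm_symm] at this
        have h3 : F.IsSubsystemOf (pushSub e.symm hT' E') := fun P => (h2 P).symm.subset
        exact SubCorr.isSubsystemOf' (subCorr_of_corr h) hc' h3 P'

end Simple

section Factor

variable {Ω Ω' Ω₁ Ω₁' : Type*} [Group Ω] [Group Ω'] [Group Ω₁] [Group Ω₁']
  {S : Subgroup Ω} {S' : Subgroup Ω'} {S₁ : Subgroup Ω₁} {S₁' : Subgroup Ω₁'}
  {e : S ≃* S'} {ê : S₁ ≃* S₁'} {θ : S →* Ω₁} {θ' : S' →* Ω₁'}

theorem mem_push_symm_iff (e : S ≃* S') {Q' : Subgroup Ω'} {x : Ω} (hx : x ∈ S) :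
    x ∈ push e.symm Q' ↔ ext e x ∈ Q' := by
  refine ⟨ext_mem_of_mem_push_symm e, fun h => ?_⟩
  have := ext_mem_push e.symm h (ext_mem e x)
  rwa [ext_symm_ext e hx] at this

theorem extOn_mem_range (hθ : θ.range = S₁) (x : Ω) : extOn θ x ∈ S₁ := by
  by_cases hx : x ∈ S
  · rw [Helper87_Factor.extOn_apply θ hx, ← hθ]
    exact ⟨_, rfl⟩
  · unfold extOn
    rw [dif_neg hx]
    exact S₁.one_mem

theorem compat_ext (hc : ∀ s : S, ext ê (θ s) = θ' (e s)) {x : Ω} (hx : x ∈ S) :
    ext ê (extOn θ x) = extOn θ' (ext e x) := by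
  rw [Helper87_Factor.extOn_apply θ hx, hc, ext_apply e hx, Helper87_Factor.extOn_coe]

theorem compat_ext_symm (hθ : θ.range = S₁) (hc : ∀ s : S, ext ê (θ s) = θ' (e s)) {y : Ω'}
    (hy : y ∈ S') : ext ê.symm (extOn θ' y) = extOn θ (ext e.symm y) := by
  have h1 := compat_ext hc (ext_mem e.symm y)
  rw [ext_ext_symm e hy] at h1
  rw [← h1, ext_symm_ext ê (extOn_mem_range hθ _)]

theorem push_symm_preimageAlong (hθ : θ.range = S₁) (hc : ∀ s : S, ext ê (θ s) = θ' (e s))
    (Pb : Subgroup Ω₁) : push e.symm (preimageAlong θ' (push ê Pb)) = preimageAlong θ Pb := by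
  ext x
  by_cases hx : x ∈ S
  · rw [mem_push_symm_iff e hx, Helper87_Factor.mem_preimageAlong, Helper87_Factor.mem_preimageAlong,
      ← compat_ext hc hx]
    constructor
    · rintro ⟨-, h⟩
      refine ⟨hx, ?_⟩
      have := ext_symm_mem ê h
      rwa [ext_symm_ext ê (extOn_mem_range hθ x)] at this
    · rintro ⟨-, h⟩
      exact ⟨ext_mem e x, ext_mem_push ê h (extOn_mem_range hθ x)⟩
  · constructor
    · intro h
      exact absurd (push_le e.symm _ h) hx
    · intro h
      exact absurd (Helper87_Factor.preimageAlong_le θ _ h) hx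

theorem isFactorSystem_of_corr {F : FusionSystem S} {F' : FusionSystem S'} {E : FusionSystem S₁}
    {E' : FusionSystem S₁'} (hF : Corr e F F') (hE : Corr ê E E') (hθ : θ.range = S₁)
    (hc : ∀ s : S, ext ê (θ s) = θ' (e s)) {Z : Subgroup Ω} (hZ : Z ≤ S)
    (hker : ∀ s : S, θ s = 1 ↔ (s : Ω) ∈ Z) {Z' : Subgroup Ω'} (hE' : F'.IsFactorSystem Z' θ' E') :
    F.IsFactorSystem Z θ E := by
  refine ⟨hZ, hker, hθ, fun Pb φb => ⟨fun hφb => ?_, ?_⟩⟩
  · have hPb : Pb ≤ S₁ := Helper87_Alperin.hom_le E hφb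
    obtain ⟨φb', hφb', hφb'f⟩ := hE.fwd Pb (extHom φb) (Helper87_Alperin.isMapOn_extHom E hφb)
    obtain ⟨-, φ', hφ', hind⟩ := (hE'.2.2.2 _ φb').1 hφb'
    obtain ⟨hP'S', hφ'S', hind'⟩ := Helper87_Factor.extOn_of_inducedAlong hind
    have hb := hF.bwd _ (extHom φ') (Helper87_Alperin.isMapOn_extHom F' hφ')
    rw [push_symm_preimageAlong hθ hc] at hb
    obtain ⟨φ, hφ, hφf⟩ := hb
    have hPS : preimageAlong θ Pb ≤ S := Helper87_Factor.preimageAlong_le θ Pb
    have hP' : ∀ x : preimageAlong θ Pb, extOn θ (x : Ω) ∈ Pb :=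
      fun x => ((Helper87_Factor.mem_preimageAlong θ _ _).1 x.2).2
    refine ⟨hPb, φ, hφ, Helper87_Factor.inducedAlong_of_extOn hPS (Helper87_Alperin.hom_mem F hφ) hP'
      (fun x => ?_)⟩
    have hxS : (x : Ω) ∈ S := hPS x.2
    have hy : ext e (x : Ω) ∈ preimageAlong θ' (push ê Pb) := by
      have := (push_symm_preimageAlong (e := e) (ê := ê) (θ' := θ') hθ hc Pb).symm.le x.2
      exact ext_mem_of_mem_push_symm e this
    have hy2 : extOn θ' (ext e (x : Ω)) ∈ push ê Pb :=
      ((Helper87_Factor.mem_preimageAlong θ' _ _).1 hy).2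
    rw [hφf x]
    simp only [Function.comp_apply]
    rw [Helper87_Alperin.extHom_apply φ' hy, ← compat_ext_symm hθ hc (hφ'S' _), ← hind' ⟨_, hy⟩ hy2,
      hφb'f ⟨_, hy2⟩]
    simp only [Function.comp_apply]
    rw [← compat_ext hc hxS, ext_symm_ext ê (extOn_mem_range hθ _),
      Helper87_Alperin.extHom_apply φb (hP' x),
      ext_symm_ext ê (Helper87_Alperin.hom_mem E hφb _)]
  · rintro ⟨hPb, φ, hφ, hind⟩
    obtain ⟨hPS, hφS, hind'⟩ := Helper87_Factor.extOn_of_inducedAlong hind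
    have hP' : ∀ x : preimageAlong θ Pb, extOn θ (x : Ω) ∈ Pb :=
      fun x => ((Helper87_Factor.mem_preimageAlong θ _ _).1 x.2).2
    -- `φb` takes values in `S₁`
    have hφbS : ∀ z : Pb, φb z ∈ S₁ := by
      intro z
      have hz : (z : Ω₁) ∈ θ.range := by
        rw [hθ]
        exact hPb z.2
      obtain ⟨s, hs⟩ := hz
      have hsP : (s : Ω) ∈ preimageAlong θ Pb := by
        rw [Helper87_Factor.mem_preimageAlong, Helper87_Factor.extOn_coe, hs]
        exact ⟨s.2, z.2⟩
      have h1 := hind' ⟨s, hsP⟩ (hP' ⟨s, hsP⟩)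
      have h2 : (⟨extOn θ ((⟨(s : Ω), hsP⟩ : preimageAlong θ Pb) : Ω), hP' ⟨s, hsP⟩⟩ : Pb) = z := by
        apply Subtype.ext
        show extOn θ (s : Ω) = z
        rw [Helper87_Factor.extOn_coe, hs]
      rw [h2] at h1
      rw [h1]
      exact extOn_mem_range hθ _
    have hf := hF.fwd _ (extHom φ) (Helper87_Alperin.isMapOn_extHom F hφ)
    have hpush : push e (preimageAlong θ Pb) = preimageAlong θ' (push ê Pb) := by
      rw [← push_symm_preimageAlong (e := e) (ê := ê) (θ' := θ') hθ hc,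
        push_push_symm e (Helper87_Factor.preimageAlong_le θ' _)]
    rw [hpush] at hf
    obtain ⟨φ', hφ', hφ'f⟩ := hf
    -- the induced map on `push ê Pb`
    let φb' : push ê Pb →* Ω₁' := S₁'.subtype.comp
      (ê.toMonoidHom.comp ((φb.codRestrict S₁ hφbS).comp (restrictEquiv ê hPb).symm.toMonoidHom))
    have hφb'x : ∀ y : push ê Pb,
        φb' y = ext ê (φb ⟨ext ê.symm (y : Ω₁'), ext_symm_mem ê y.2⟩) := by
      intro y
      rw [ext_apply ê (hφbS _)]
      rfl
    have hP'' : ∀ y : preimageAlong θ' (push ê Pb), extOn θ' (y : Ω') ∈ push ê Pb :=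
      fun y => ((Helper87_Factor.mem_preimageAlong θ' _ _).1 y.2).2
    have hφb' : φb' ∈ E'.Hom (push ê Pb) := by
      refine (hE'.2.2.2 _ φb').2 ⟨push_le ê Pb, φ', hφ', ?_⟩
      refine Helper87_Factor.inducedAlong_of_extOn (Helper87_Factor.preimageAlong_le θ' _)
        (Helper87_Alperin.hom_mem F' hφ') hP'' (fun y => ?_)
      have hyS' : (y : Ω') ∈ S' := Helper87_Factor.preimageAlong_le θ' _ y.2
      have hx : ext e.symm (y : Ω') ∈ preimageAlong θ Pb := by
        rw [← push_symm_preimageAlong (e := e) (ê := ê) (θ' := θ') hθ hc]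
        exact ext_mem_push e.symm y.2 hyS'
      rw [hφ'f y, hφb'x]
      simp only [Function.comp_apply]
      rw [Helper87_Alperin.extHom_apply φ hx, ← compat_ext hc (hφS _), ← hind' ⟨_, hx⟩ (hP' ⟨_, hx⟩)]
      congr 2
      apply Subtype.ext
      exact compat_ext_symm hθ hc hyS'
    have hb := hE.bwd _ (extHom φb') (Helper87_Alperin.isMapOn_extHom E' hφb')
    rw [push_symm_push ê hPb] at hb
    rw [Helper87_Alperin.mem_hom_iff_isMapOn]
    refine hb.congr (fun z hz => ?_)
    have hz' : ext ê z ∈ push ê Pb := ext_mem_push ê hz (hPb hz)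
    simp only [Function.comp_apply]
    rw [Helper87_Alperin.extHom_apply φb' hz', hφb'x, ext_symm_ext ê (hφbS _),
      Helper87_Alperin.extHom_apply φb hz]
    congr 1
    apply Subtype.ext
    exact ext_symm_ext ê (hPb hz)

end Factor

section Quasisimple

theorem exists_corr_symm {Ω₁ Ω₁' : Type*} [Group Ω₁] [Group Ω₁'] {S₁ : Subgroup Ω₁} {S₁' : Subgroup Ω₁'}
    (ê : S₁ ≃* S₁') (E' : FusionSystem S₁') : ∃ E : FusionSystem S₁, Corr ê E E' := by
  have h := subCorr_pushSub (e := ê.symm) (E := E') le_rfl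
  have key : ∀ (T : Subgroup Ω₁) (_ : T = S₁) (E₀ : FusionSystem T), SubCorr ê.symm E' E₀ →
      ∃ E : FusionSystem S₁, Corr ê E E' := by
    intro T hT E₀ h₀
    subst hT
    exact ⟨E₀, ⟨fun P f hf => h₀.bwd P f hf, fun P' f' hf' => h₀.fwd P' f' hf'⟩⟩
  exact key _ (push_self ê.symm) _ h

variable {Ω Ω' : Type*} [Group Ω] [Group Ω'] {S : Subgroup Ω} {S' : Subgroup Ω'} {e : S ≃* S'}
  {F : FusionSystem S} {F' : FusionSystem S'}

theorem map_center_subgroupOf (h : Corr e F F') [Finite S] :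
    ((F.center).subgroupOf S).map e.toMonoidHom = (F'.center).subgroupOf S' := by
  ext x'
  rw [Subgroup.mem_subgroupOf, ← push_center h]
  constructor
  · rintro ⟨s, hs, rfl⟩
    exact ⟨s, hs, rfl⟩
  · rintro ⟨s, hs, hsx⟩
    exact ⟨s, hs, Subtype.ext hsx⟩

theorem quasisimple_of_corr (h : Corr e F F') [Finite S] {p : ℕ} [Fact p.Prime] (hq : F.Quasisimple p) :
    F'.Quasisimple p := by
  haveI : Finite S' := Finite.of_equiv S e.toEquiv
  obtain ⟨hsat, hhyp, hfac⟩ := hq
  refine ⟨h.symm.isSaturated hsat, hyperfocal_eq_of_corr h hhyp, fun E' hE' => ?_⟩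
  let eb : S ⧸ (F.center).subgroupOf S ≃* S' ⧸ (F'.center).subgroupOf S' :=
    QuotientGroup.congr ((F.center).subgroupOf S) ((F'.center).subgroupOf S') e (map_center_subgroupOf h)
  let ê : (⊤ : Subgroup (S ⧸ (F.center).subgroupOf S)) ≃*
      (⊤ : Subgroup (S' ⧸ (F'.center).subgroupOf S')) :=
    Subgroup.topEquiv.trans (eb.trans Subgroup.topEquiv.symm)
  obtain ⟨E, hE⟩ := exists_corr_symm ê E'
  have hθ : (QuotientGroup.mk' ((F.center).subgroupOf S)).range = ⊤ :=
    MonoidHom.range_eq_top.2 (QuotientGroup.mk'_surjective _)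
  have hc : ∀ s : S, ext ê (QuotientGroup.mk' ((F.center).subgroupOf S) s) =
      QuotientGroup.mk' ((F'.center).subgroupOf S') (e s) := by
    intro s
    rw [ext_apply ê (Subgroup.mem_top _)]
    rfl
  have hZ : F.center ≤ S := (Helper85_Fusion.isCentral_center F).1
  have hker : ∀ s : S, QuotientGroup.mk' ((F.center).subgroupOf S) s = 1 ↔ (s : Ω) ∈ F.center := by
    intro s
    rw [QuotientGroup.mk'_apply, QuotientGroup.eq_one_iff, Subgroup.mem_subgroupOf]
  have hfs := isFactorSystem_of_corr h hE hθ hc hZ hker hE'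
  exact isSimple_of_corr hE (hfac E hfs)

theorem quasisimple_of_subCorr {T : Subgroup Ω} {E : FusionSystem T} {T' : Subgroup Ω'}
    {E' : FusionSystem T'} (hE : SubCorr e E E') [Finite S] {p : ℕ} [Fact p.Prime]
    (hq : E.Quasisimple p) : E'.Quasisimple p := by
  have h1 := hE.eq
  subst h1
  haveI : Finite T := Helper84_FusionRS.finite_of_le_S hE.le
  exact quasisimple_of_corr hE.toCorr hq

theorem isComponentIn_push [Finite S] {p : ℕ} [Fact p.Prime] {T U : Subgroup Ω} {C : FusionSystem T}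
    {D : FusionSystem U} (h : C.IsComponentIn D p) {T' U' : Subgroup Ω'} {C' : FusionSystem T'}
    {D' : FusionSystem U'} (hC : SubCorr e C C') (hD : SubCorr e D D') : C'.IsComponentIn D' p :=
  ⟨isSubnormalIn_push h.1 hC hD, quasisimple_of_subCorr hC h.2⟩

end Quasisimple

section Misc

theorem isSubnormalIn_le {Ω : Type*} [Group Ω] {p : ℕ} {T S : Subgroup Ω} {E : FusionSystem T}
    {F : FusionSystem S} (h : E.IsSubnormalIn F p) : T ≤ S := by
  induction h with
  | refl F p => exact le_rfl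
  | step _ hn ih => exact ih.trans hn.1.2.2.2.1.1

variable {Ω Ω' : Type*} [Group Ω] [Group Ω'] {S : Subgroup Ω} {S' : Subgroup Ω'}

theorem extOn_eq_ext (e : S ≃* S') : extOn (S'.subtype.comp e.toMonoidHom) = ext e := rfl

theorem imageAlong_eq_push (e : S ≃* S') (P : Subgroup Ω) :
    imageAlong (S'.subtype.comp e.toMonoidHom) P = push e P := rfl

/-- A morphism of fusion systems given by an isomorphism of the underlying groups carries maps to maps. -/
theorem fwd_of_isMorphism {e : S ≃* S'} {F : FusionSystem S} {F' : FusionSystem S'}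
    (h : F.IsMorphism F' (S'.subtype.comp e.toMonoidHom)) (P : Subgroup Ω) (f : Ω → Ω)
    (hf : IsMapOn F P f) : IsMapOn F' (push e P) (ext e ∘ f ∘ ext e.symm) := by
  obtain ⟨φ, hφ, hφf⟩ := hf
  obtain ⟨φ', hφ', hind⟩ := h.2 P φ hφ
  obtain ⟨hPS, -, hind'⟩ := Helper87_Factor.extOn_of_inducedAlong hind
  refine ⟨φ', hφ', fun y => ?_⟩
  have hx : ext e.symm (y : Ω') ∈ P := ext_symm_mem e y.2
  have hy : ext e (ext e.symm (y : Ω')) = y := ext_ext_symm e (push_le e P y.2)
  have h1 := hind' ⟨_, hx⟩ (by rw [extOn_eq_ext]; exact ext_mem_push e hx (hPS hx))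
  simp only [Function.comp_apply]
  rw [← hφf ⟨_, hx⟩, ← extOn_eq_ext, ← h1]
  congr 1
  apply Subtype.ext
  exact hy.symm

theorem corr_of_isMorphism {e : S ≃* S'} {F : FusionSystem S} {F' : FusionSystem S'}
    (h : F.IsMorphism F' (S'.subtype.comp e.toMonoidHom))
    (h' : F'.IsMorphism F (S.subtype.comp e.symm.toMonoidHom)) : Corr e F F' :=
  ⟨fwd_of_isMorphism h, fwd_of_isMorphism h'⟩

end Misc

end Cfsg.Agent.Lib.Helper85_Transport3
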