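import Cfsg.Agent.Lib.Helper87_Realized
import Cfsg.Agent.Lib.Helper85_Transport
import Cfsg.Agent.Lib.Helper87_Normal

/-!
# The fusion system pulled back along an embedding `ι : S →* G`, and a non-supersolubility criterion

* `pullSystem ι hinj` : the fusion system over `S` whose maps are the homomorphisms which, read through
  `ι`, are conjugations by elements of `G`.  It is realized by `ι`, hence saturated when `G` is finite and
  `ι(S)` is a Sylow subgroup.
* `not_chain_of_fused` : if `u, v ∈ S` satisfy `v u v⁻¹ = u⁻¹`, `v² = u²`, `u ≠ 1`, and `u`, `v`,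
  `u⁻¹ v` are fused in the right pattern, then `S` has no chain of strongly closed subgroups with cyclic steps.
-/

set_option autoImplicit false
set_option linter.style.haveILetI false

namespace Cfsg.Agent.Lib.Helper87_RealizeSys

open Cfsg Cfsg.FusionSystem Cfsg.Agent.Lib Cfsg.Agent.Lib.Helper87_Realized

variable {Ω : Type*} [Group Ω] {S : Subgroup Ω} {G : Type*} [Group G]

/-- The fusion system over `S` induced by `G` through the embedding `ι`. -/
def pullSystem (ι : S →* G) (hinj : Function.Injective ι) : FusionSystem S where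
  Hom P := {φ | P ≤ S ∧ (∀ x : P, φ x ∈ S) ∧ ∃ g : G, ∀ x : P, J ι (φ x) = g * J ι (x : Ω) * g⁻¹}
  le_of_mem := fun h => ⟨h.1, h.2.1⟩
  injective_of_mem := by
    rintro P φ ⟨hP, hφ, g, hg⟩ a b hab
    apply Subtype.ext
    apply J_injOn hinj (hP a.2) (hP b.2)
    have h1 : g * J ι (a : Ω) * g⁻¹ = g * J ι (b : Ω) * g⁻¹ := by rw [← hg, ← hg, hab]
    exact mul_left_cancel (mul_right_cancel h1)
  conj_mem := by
    intro P g hP hg
    exact ⟨hP, fun x => S.mul_mem (S.mul_mem hg (hP x.2)) (S.inv_mem hg), J ι g,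
      fun x => J_conj ι hg (hP x.2)⟩
  comp_mem := by
    rintro P Q φ ψ ⟨hP, hφ, g, hg⟩ ⟨hQ, hψ, k, hk⟩ h
    refine ⟨hP, fun x => hψ _, k * g, fun x => ?_⟩
    show J ι (ψ ⟨φ x, h x⟩) = _
    rw [hk ⟨φ x, h x⟩]
    show k * J ι (φ x) * k⁻¹ = _
    rw [hg]
    group
  inv_mem := by
    rintro P φ ⟨hP, hφ, g, hg⟩
    have hφinj : Function.Injective φ := by
      intro a b hab
      apply Subtype.ext
      apply J_injOn hinj (hP a.2) (hP b.2)
      have h1 : g * J ι (a : Ω) * g⁻¹ = g * J ι (b : Ω) * g⁻¹ := by rw [← hg, ← hg, hab]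
      exact mul_left_cancel (mul_right_cancel h1)
    let E : P ≃* φ.range := MonoidHom.ofInjective hφinj
    have hE : ∀ x : P, E.symm ⟨φ x, ⟨x, rfl⟩⟩ = x := by
      intro x
      rw [MulEquiv.symm_apply_eq]
      rfl
    refine ⟨P.subtype.comp E.symm.toMonoidHom, ⟨?_, ?_, g⁻¹, ?_⟩, ?_⟩
    · rintro _ ⟨x, rfl⟩
      exact hφ x
    · intro y
      exact hP (E.symm y).2
    · rintro ⟨_, x, rfl⟩
      show J ι ((E.symm ⟨φ x, ⟨x, rfl⟩⟩ : P) : Ω) = g⁻¹ * J ι (φ x) * g⁻¹⁻¹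
      rw [hE, hg]
      group
    · intro x
      show ((E.symm ⟨φ x, ⟨x, rfl⟩⟩ : P) : Ω) = x
      rw [hE]

theorem mem_pullSystem_hom (ι : S →* G) (hinj : Function.Injective ι) {P : Subgroup Ω} (φ : P →* Ω) :
    φ ∈ (pullSystem ι hinj).Hom P ↔
      P ≤ S ∧ (∀ x : P, φ x ∈ S) ∧ ∃ g : G, ∀ x : P, J ι (φ x) = g * J ι (x : Ω) * g⁻¹ := Iff.rfl

theorem pullSystem_isRealizedBy (ι : S →* G) (hinj : Function.Injective ι) :
    (pullSystem ι hinj).IsRealizedBy ι := by
  refine ⟨hinj, fun P hP φ hφ => ?_⟩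
  rw [mem_pullSystem_hom]
  constructor
  · rintro ⟨-, -, g, hg⟩
    refine ⟨g, fun x => ?_⟩
    rw [← J_apply ι (hφ x), ← J_apply ι (hP x.2)]
    exact hg x
  · rintro ⟨g, hg⟩
    refine ⟨hP, hφ, g, fun x => ?_⟩
    rw [J_apply ι (hφ x), J_apply ι (hP x.2)]
    exact hg x

theorem pullSystem_isSaturated [Finite S] [Finite G] {p : ℕ} [Fact p.Prime] (ι : S →* G)
    (hinj : Function.Injective ι) (R : Sylow p G) (hR : (R : Subgroup G) = ι.range) :
    (pullSystem ι hinj).IsSaturated p :=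
  Helper85_Transport.isSaturated_of_isRealizedBy (pullSystem_isRealizedBy ι hinj) R hR

/-- Elements of `S` whose images are conjugate in `G` are conjugate in a system realized by `ι`. -/
theorem isConjElt_of_conj {F : FusionSystem S} {ι : S →* G} (hr : F.IsRealizedBy ι) {u v : Ω}
    (hu : u ∈ S) (hv : v ∈ S) (g : G) (hg : g * J ι u * g⁻¹ = J ι v) : F.IsConjElt u v := by
  have hP : Subgroup.zpowers u ≤ S := Subgroup.zpowers_le.2 hu
  have hJpow : ∀ (w : Ω), w ∈ S → ∀ n : ℤ, J ι (w ^ n) = J ι w ^ n := by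
    intro w hw n
    rw [J_apply ι hw, J_apply ι (S.zpow_mem hw n), ← map_zpow]
    rfl
  obtain ⟨φ, hφ, hφg⟩ := exists_hom_of_conj hr hP g (by
    intro x hx
    obtain ⟨n, rfl⟩ := Subgroup.mem_zpowers_iff.1 hx
    rw [hJpow u hu n, ← conj_zpow, hg, ← hJpow v hv n]
    exact J_mem_range ι _)
  refine ⟨φ, hφ, ?_⟩
  have hφS : ∀ x : Subgroup.zpowers u, φ x ∈ S := (F.le_of_mem hφ).2
  apply J_injOn hr.1 (hφS _) hv
  rw [hφg, ← hg]

section chain

variable {F : FusionSystem S}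

theorem mem_of_isConjElt {A : Subgroup Ω} (hA : F.StronglyClosed A) {u v : Ω} (h : F.IsConjElt u v)
    (hu : u ∈ A) : v ∈ A := by
  obtain ⟨φ, hφ, rfl⟩ := h
  exact hA.2 (Subgroup.zpowers u) (Subgroup.zpowers_le.2 hu) φ hφ ⟨u, Subgroup.mem_zpowers u⟩

theorem mem_of_isConjElt_symm {A : Subgroup Ω} (hA : F.StronglyClosed A) {u v : Ω}
    (h : F.IsConjElt u v) (hv : v ∈ A) : u ∈ A := by
  obtain ⟨φ, hφ, rfl⟩ := h
  obtain ⟨ψ, hψ, hψφ⟩ := F.inv_mem hφ
  have hle : φ.range ≤ A := by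
    rintro _ ⟨x, rfl⟩
    obtain ⟨n, hn⟩ := Subgroup.mem_zpowers_iff.1 x.2
    have : x = (⟨u, Subgroup.mem_zpowers u⟩ : Subgroup.zpowers u) ^ n := Subtype.ext hn.symm
    rw [this, map_zpow]
    exact A.zpow_mem hv n
  have h1 := hA.2 φ.range hle ψ hψ ⟨φ ⟨u, Subgroup.mem_zpowers u⟩, ⟨_, rfl⟩⟩
  rw [hψφ] at h1
  exact h1

/-- In a finite cyclic group, `orderOf x ∣ orderOf y` forces `x ∈ zpowers y`. -/
theorem mem_zpowers_of_orderOf_dvd_cyclic {Q : Type*} [Group Q] [Finite Q] [IsCyclic Q] {x y : Q}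
    (h : orderOf x ∣ orderOf y) : x ∈ Subgroup.zpowers y := by
  classical
  haveI := Fintype.ofFinite Q
  have hn0 : 0 < orderOf y := orderOf_pos y
  have h1 := IsCyclic.card_pow_eq_one_le (α := Q) hn0
  have h2 : ((Subgroup.zpowers y : Set Q).toFinset) ⊆
      Finset.univ.filter (fun a : Q => a ^ orderOf y = 1) := by
    intro z hz
    rw [Set.mem_toFinset] at hz
    rw [Finset.mem_filter]
    refine ⟨Finset.mem_univ _, ?_⟩
    obtain ⟨k, rfl⟩ := Subgroup.mem_zpowers_iff.mp hz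
    rw [← zpow_natCast, ← zpow_mul, mul_comm, zpow_mul, zpow_natCast, pow_orderOf_eq_one, one_zpow]
  have h3 : ((Subgroup.zpowers y : Set Q).toFinset).card = orderOf y := by
    rw [Set.toFinset_card]
    exact Fintype.card_zpowers
  have h4 := Finset.eq_of_subset_of_card_le h2 (by rw [h3]; exact h1)
  have h5 : x ∈ Finset.univ.filter (fun a : Q => a ^ orderOf y = 1) := by
    rw [Finset.mem_filter]
    exact ⟨Finset.mem_univ _, orderOf_dvd_iff_pow_eq_one.mp h⟩
  rw [← h4, Set.mem_toFinset] at h5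
  exact h5

/-- Two involutions of a finite cyclic group coincide. -/
theorem eq_of_sq_eq_one_of_mem_zpowers {Q : Type*} [Group Q] [Finite Q] {t a b : Q}
    (ha : a ∈ Subgroup.zpowers t) (hb : b ∈ Subgroup.zpowers t) (ha2 : a * a = 1) (hb2 : b * b = 1)
    (ha1 : a ≠ 1) (hb1 : b ≠ 1) : a = b := by
  have hoa : orderOf a = 2 := orderOf_eq_prime (by rw [sq]; exact ha2) ha1
  have hob : orderOf b = 2 := orderOf_eq_prime (by rw [sq]; exact hb2) hb1
  let a' : Subgroup.zpowers t := ⟨a, ha⟩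
  let b' : Subgroup.zpowers t := ⟨b, hb⟩
  have h1 : orderOf b' ∣ orderOf a' := by
    rw [Subgroup.orderOf_mk, Subgroup.orderOf_mk, hoa, hob]
  have h2 := mem_zpowers_of_orderOf_dvd_cyclic h1
  obtain ⟨n, hn⟩ := Subgroup.mem_zpowers_iff.1 h2
  have hn' : a ^ n = b := by
    have := congrArg Subtype.val hn
    simpa [a', b'] using this
  rcases Int.emod_two_eq_zero_or_one n with h | h
  · exfalso
    apply hb1
    rw [← hn', ← Int.emod_add_mul_ediv n 2, h, zero_add, zpow_mul, zpow_ofNat, sq, ha2, one_zpow]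
  · rw [← hn', ← Int.emod_add_mul_ediv n 2, h, zpow_add, zpow_one, zpow_mul, zpow_ofNat, sq, ha2,
      one_zpow, mul_one]

/-- **Non-supersolubility criterion.** -/
theorem not_chain_of_fused [Finite S] {u v : Ω} (hu : u ∈ S) (hv : v ∈ S) (hinv : v * u * v⁻¹ = u⁻¹)
    (hsq : v * v = u * u) (hu1 : u ≠ 1) (h1 : F.IsConjElt u v) (h2 : F.IsConjElt (u⁻¹ * v) u) :
    ¬ ∃ (m : ℕ) (c : Fin (m + 1) → Subgroup Ω), c 0 = ⊥ ∧ c (Fin.last m) = S ∧
      (∀ i : Fin (m + 1), F.StronglyClosed (c i)) ∧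
        ∀ i : Fin m, c i.castSucc ≤ c i.succ ∧ ∃ x ∈ S, c i.succ = c i.castSucc ⊔ Subgroup.zpowers x := by
  rintro ⟨m, c, h0, hm, hsc, hstep⟩
  -- a step where `u` appears
  obtain ⟨i, hiA, hiB⟩ : ∃ i : Fin m, u ∉ c i.castSucc ∧ u ∈ c i.succ := by
    by_contra hcon
    push Not at hcon
    have hall : ∀ j : Fin (m + 1), u ∈ c j := by
      intro j
      induction j using Fin.reverseInduction with
      | last => rw [hm]; exact hu
      | cast j ih =>
        by_contra hj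
        exact hcon j hj ih
    have := hall 0
    rw [h0, Subgroup.mem_bot] at this
    exact hu1 this
  obtain ⟨hAB, x, hx, hB⟩ := hstep i
  set A := c i.castSucc with hAdef
  set B := c i.succ with hBdef
  have hA : F.StronglyClosed A := hsc _
  have hBc : F.StronglyClosed B := hsc _
  have hvB : v ∈ B := mem_of_isConjElt hBc h1 hiB
  haveI hN : (A.subgroupOf S).Normal :=
    Subgroup.normal_subgroupOf_of_le_normalizer (Helper87_Normal.stronglyClosed_le_normalizer hA)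
  let θ : S →* S ⧸ A.subgroupOf S := QuotientGroup.mk' (A.subgroupOf S)
  have hθ : ∀ y : S, θ y = 1 ↔ (y : Ω) ∈ A := by
    intro y
    rw [QuotientGroup.mk'_apply, QuotientGroup.eq_one_iff, Subgroup.mem_subgroupOf]
  let t := θ ⟨x, hx⟩
  have hle : B ≤ ((Subgroup.zpowers t).comap θ).map S.subtype := by
    rw [hB]
    refine sup_le ?_ ?_
    · intro a ha
      refine ⟨⟨a, hA.1 ha⟩, ?_, rfl⟩
      rw [SetLike.mem_coe, Subgroup.mem_comap, (hθ _).2 ha]
      exact Subgroup.one_mem _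
    · rw [Subgroup.zpowers_le]
      refine ⟨⟨x, hx⟩, ?_, rfl⟩
      rw [SetLike.mem_coe, Subgroup.mem_comap]
      exact Subgroup.mem_zpowers _
  have hcyc : ∀ y : S, (y : Ω) ∈ B → θ y ∈ Subgroup.zpowers t := by
    intro y hy
    obtain ⟨s, hs, hsy⟩ := hle hy
    rw [SetLike.mem_coe, Subgroup.mem_comap] at hs
    have : y = s := Subtype.ext hsy.symm
    rw [this]
    exact hs
  let ub : S ⧸ A.subgroupOf S := θ ⟨u, hu⟩
  let vb : S ⧸ A.subgroupOf S := θ ⟨v, hv⟩
  have hub : ub ∈ Subgroup.zpowers t := hcyc _ hiB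
  have hvb : vb ∈ Subgroup.zpowers t := hcyc _ hvB
  have hcomm : vb * ub = ub * vb := by
    obtain ⟨a, ha⟩ := Subgroup.mem_zpowers_iff.1 hub
    obtain ⟨b, hb⟩ := Subgroup.mem_zpowers_iff.1 hvb
    rw [← ha, ← hb, ← zpow_add, ← zpow_add, add_comm]
  have hinv' : vb * ub * vb⁻¹ = ub⁻¹ := by
    rw [← map_inv, ← map_mul, ← map_mul, ← map_inv]
    congr 1
    exact Subtype.ext hinv
  have hub2 : ub * ub = 1 := by
    rw [hcomm, mul_inv_cancel_right] at hinv'
    nth_rewrite 1 [hinv']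
    exact inv_mul_cancel _
  have hvb2 : vb * vb = 1 := by
    rw [← hub2, ← map_mul, ← map_mul]
    congr 1
    exact Subtype.ext hsq
  have hub1 : ub ≠ 1 := fun h => hiA ((hθ _).1 h)
  have hvb1 : vb ≠ 1 := fun h => hiA (mem_of_isConjElt_symm hA h1 ((hθ _).1 h))
  have heq : ub = vb := eq_of_sq_eq_one_of_mem_zpowers hub hvb hub2 hvb2 hub1 hvb1
  have hw : u⁻¹ * v ∈ A := by
    have h3 : θ (⟨u, hu⟩⁻¹ * ⟨v, hv⟩) = 1 := by
      rw [map_mul, map_inv]
      show ub⁻¹ * vb = 1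
      rw [heq, inv_mul_cancel]
    exact (hθ _).1 h3
  exact hiA (mem_of_isConjElt hA h2 hw)

end chain

end Cfsg.Agent.Lib.Helper87_RealizeSys
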