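import Cfsg.Agent.Lib.Helper85_TRS1
import Cfsg.Agent.Lib.Helper87_RealizeSys
import Cfsg.Agent.Lib.Helper85_Transport3
import Cfsg.Agent.S0542
import Cfsg.Agent.S5093
import Cfsg.Agent.S5121
import Cfsg.Agent.S5139
import Cfsg.Agent.S5141

/-!
# Terminating residual series (helper85), part 4: models of the residual subsystems

If `G` (through `ι`) is a model of the saturated system `F`, then the normal closure of `ι(S)` in `G` is a model of
the `p'`-residual subsystem of `F`, and `O^p(G)` is a model of the `p`-residual subsystem of `F`.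
-/

set_option autoImplicit false
set_option linter.style.haveILetI false

namespace Cfsg.Agent.Lib.Helper85_TRS4

open Cfsg Cfsg.FusionSystem Cfsg.Agent.Lib
open Cfsg.Agent.Lib.Helper87_Alperin Cfsg.Agent.Lib.Helper87_Realized Cfsg.Agent.Lib.Helper87_RealizeSys
open Cfsg.Agent.Lib.Helper85_Transport Cfsg.Agent.Lib.Helper85_Transport2

universe u v

variable {Ω : Type u} [Group Ω] {S : Subgroup Ω} {G : Type v} [Group G]

/-! ### Restriction of a model to a normal subgroup -/

theorem coe_J_restrict {ι : S →* G} {N : Subgroup G} {T : Subgroup Ω} (hTS : T ≤ S) (ιN : T →* ↥N)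
    (hι : ∀ t : T, ((ιN t : ↥N) : G) = ι ⟨t, hTS t.2⟩) {y : Ω} (hy : y ∈ T) :
    ((J ιN y : ↥N) : G) = J ι y := by
  rw [J_apply ιN hy, J_apply ι (hTS hy), hι]

/-- The model condition for the system induced by a normal subgroup `N` of a model on the preimage of `N`. -/
theorem isModel_restrict [Finite S] {p : ℕ} [Fact p.Prime] {F : FusionSystem S} {ι : S →* G}
    (hM : F.IsModel p G ι) (N : Subgroup G) [hN : N.Normal] {T : Subgroup Ω} (hTS : T ≤ S)
    (ιN : T →* ↥N) (hι : ∀ t : T, ((ιN t : ↥N) : G) = ι ⟨t, hTS t.2⟩)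
    (hpre : ∀ s : S, ι s ∈ N → (s : Ω) ∈ T) :
    ∃ hinj : Function.Injective ιN, (pullSystem ιN hinj).IsSaturated p ∧
      ∀ D : FusionSystem T, (∀ P, D.Hom P = (pullSystem ιN hinj).Hom P) → D.IsModel p ↥N ιN := by
  obtain ⟨hfin, hreal, ⟨R, hR⟩, hcent⟩ := hM
  have hinj : Function.Injective ιN := by
    intro a b hab
    have h1 : ι ⟨a, hTS a.2⟩ = ι ⟨b, hTS b.2⟩ := by rw [← hι, ← hι, hab]
    have h2 := hreal.1 h1
    exact Subtype.ext (congrArg (fun s : S => (s : Ω)) h2)
  obtain ⟨RN, hRN⟩ := Cfsg.Agent.S0542.result p N hN.isSubnormal R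
  have hrange : (RN : Subgroup ↥N) = ιN.range := by
    rw [hRN, hR]
    ext x
    rw [Subgroup.mem_subgroupOf]
    constructor
    · rintro ⟨s, hs⟩
      have hsT : (s : Ω) ∈ T := hpre s (hs ▸ x.2)
      exact ⟨⟨s, hsT⟩, Subtype.ext ((hι _).trans hs)⟩
    · rintro ⟨t, rfl⟩
      exact ⟨⟨t, hTS t.2⟩, (hι t).symm⟩
  haveI : Finite T := Helper84_FusionRS.finite_of_le_S hTS
  have hsat := pullSystem_isSaturated ιN hinj RN hrange
  refine ⟨hinj, hsat, fun D hD => ⟨inferInstance, ⟨hinj, fun P hP φ hφ => ?_⟩, ⟨RN, hrange⟩,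
    Helper85_TRS1.centralizer_pCore_le_of_normal p hcent N⟩⟩
  rw [hD P]
  exact (pullSystem_isRealizedBy ιN hinj).2 P hP φ hφ

/-! ### Power tricks -/

theorem real_pow {ι : S →* G} {P : Subgroup Ω} (α : MulAut P) (g : G)
    (hg : ∀ x : P, J ι ((α x : P) : Ω) = g * J ι (x : Ω) * g⁻¹) (n : ℕ) :
    ∀ x : P, J ι (((α ^ n) x : P) : Ω) = g ^ n * J ι (x : Ω) * (g ^ n)⁻¹ := by
  induction n with
  | zero => intro x; simp
  | succ n ih =>
    intro x
    rw [pow_succ', MulAut.mul_apply, hg, ih x, pow_succ', mul_inv_rev]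
    simp only [mul_assoc]

/-- A `p'`-automorphism of a realized system is induced by a `p'`-element. -/
theorem exists_pprime_real [Finite G] {p : ℕ} [Fact p.Prime] {F : FusionSystem S} {ι : S →* G}
    (hr : F.IsRealizedBy ι) {P : Subgroup Ω} (hP : P ≤ S) {α : MulAut P} (hα : α ∈ F.autGroup P)
    (hcop : (orderOf α).Coprime p) :
    ∃ g : G, (orderOf g).Coprime p ∧ ∀ x : P, J ι ((α x : P) : Ω) = g * J ι (x : Ω) * g⁻¹ := by
  obtain ⟨g, hg⟩ := exists_conj_of_aut hr hP hα
  obtain ⟨n, hn1, hn2⟩ := Cfsg.Agent.S5139.exists_pprime_power p g (orderOf α) hcop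
  have hαn : α ^ n = α := by
    have : α ^ n = α ^ 1 := by
      rw [← pow_mod_orderOf, hn2, pow_mod_orderOf]
    simpa using this
  refine ⟨g ^ n, hn1, fun x => ?_⟩
  have := real_pow α g hg n x
  rwa [hαn] at this

theorem exists_ppower_power [Finite G] (p : ℕ) [hp : Fact p.Prime] (g : G) (k : ℕ) :
    ∃ n : ℕ, (∃ j : ℕ, (g ^ n) ^ p ^ j = 1) ∧ n % p ^ k = 1 % p ^ k := by
  have ho : orderOf g ≠ 0 := (orderOf_pos g).ne'
  obtain ⟨a, m, hm, hom⟩ := Nat.exists_eq_pow_mul_and_not_dvd ho p hp.out.ne_one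
  have hmp : m.Coprime p := ((Nat.Prime.coprime_iff_not_dvd hp.out).2 hm).symm
  have hco : Nat.Coprime (p ^ k) m := (Nat.Coprime.pow_right k hmp).symm
  obtain ⟨n, hn1, hn0⟩ := Nat.chineseRemainder hco 1 0
  refine ⟨n, ⟨a, ?_⟩, hn1⟩
  rw [← pow_mul]
  apply orderOf_dvd_iff_pow_eq_one.1
  rw [hom, mul_comm n]
  exact Nat.mul_dvd_mul dvd_rfl ((Nat.modEq_zero_iff_dvd).1 hn0)

/-- An automorphism of `p`-power order of a realized system is induced by a `p`-element. -/
theorem exists_ppow_real [Finite G] {p : ℕ} [Fact p.Prime] {F : FusionSystem S} {ι : S →* G}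
    (hr : F.IsRealizedBy ι) {P : Subgroup Ω} (hP : P ≤ S) {α : MulAut P} (hα : α ∈ F.autGroup P)
    {k : ℕ} (hk : orderOf α = p ^ k) :
    ∃ g : G, (∃ j : ℕ, g ^ p ^ j = 1) ∧ ∀ x : P, J ι ((α x : P) : Ω) = g * J ι (x : Ω) * g⁻¹ := by
  obtain ⟨g, hg⟩ := exists_conj_of_aut hr hP hα
  obtain ⟨n, hn1, hn2⟩ := exists_ppower_power p g k
  have hαn : α ^ n = α := by
    have : α ^ n = α ^ 1 := by
      rw [← pow_mod_orderOf, hk, hn2, ← hk, pow_mod_orderOf]
    simpa using this
  refine ⟨g ^ n, hn1, fun x => ?_⟩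
  have := real_pow α g hg n x
  rwa [hαn] at this

/-! ### The Sylow subgroup `ι(S)` -/

/-- The Sylow subgroup with carrier `ι(S)`. -/
def sylowRange {p : ℕ} (ι : S →* G) (R : Sylow p G) (hR : (R : Subgroup G) = ι.range) : Sylow p G where
  toSubgroup := ι.range
  isPGroup' := hR ▸ R.isPGroup'
  is_maximal' := fun {Q} hQ hle => (R.is_maximal' hQ (hR.le.trans hle)).trans hR

theorem coe_sylowRange {p : ℕ} (ι : S →* G) (R : Sylow p G) (hR : (R : Subgroup G) = ι.range) :
    ((sylowRange ι R hR : Sylow p G) : Subgroup G) = ι.range := rfl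

theorem ext_ofInjective {ι : S →* G} (hinj : Function.Injective ι) {x : Ω} (hx : x ∈ S) :
    ext (MonoidHom.ofInjective hinj) x = J ι x := by
  rw [ext_apply _ hx, J_apply ι hx]
  rfl

/-! ### Maps induced by the normal closure of `ι(S)` lie in every normal subsystem over `S` -/

theorem mem_of_normal_of_real [Finite S] {p : ℕ} [Fact p.Prime] {F : FusionSystem S}
    {ι : S →* G} (hM : F.IsModel p G ι) {E : FusionSystem S} (hEn : E.IsNormalIn F p)
    {P : Subgroup Ω} (hP : P ≤ S) (φ : P →* Ω) (hφS : ∀ x : P, φ x ∈ S) (g : G)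
    (hgN : g ∈ Subgroup.normalClosure (ι.range : Set G))
    (hg : ∀ x : P, J ι (φ x) = g * J ι (x : Ω) * g⁻¹) : φ ∈ E.Hom P := by
  obtain ⟨hfin, hreal, ⟨R, hR⟩, hcent⟩ := hM
  have hcorr : Corr (MonoidHom.ofInjective hreal.1) F
      (groupFusionSystem ((sylowRange ι R hR : Sylow p G) : Subgroup G)) := corr_of_isRealizedBy hreal
  have hsc : SubCorr (MonoidHom.ofInjective hreal.1) E (pushSub (MonoidHom.ofInjective hreal.1) le_rfl E) :=
    subCorr_pushSub le_rfl
  have hEn' := hsc.isNormalIn' hcorr hEn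
  have hT'R : push (MonoidHom.ofInjective hreal.1) S ≤ ((sylowRange ι R hR : Sylow p G) : Subgroup G) :=
    push_le _ S
  obtain ⟨H, ⟨hTH, hHn, -, hhom⟩, -⟩ := Cfsg.Agent.S5121.result p (sylowRange ι R hR) hcent
    (push (MonoidHom.ofInjective hreal.1) S) hT'R _ hEn'
  have hrH : ι.range ≤ H := by
    have h1 := push_self (MonoidHom.ofInjective hreal.1)
    rw [h1] at hTH
    exact hTH
  haveI := hHn
  have hgH : g ∈ H := (Subgroup.normalClosure_le_normal hrH) hgN
  have hext : ∀ x ∈ S, ext (MonoidHom.ofInjective hreal.1) x = J ι x := fun x hx => ext_ofInjective hreal.1 hx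
  have hval : ∀ y ∈ push (MonoidHom.ofInjective hreal.1) P,
      g * y * g⁻¹ ∈ push (MonoidHom.ofInjective hreal.1) S := by
    intro y hy
    obtain ⟨x, hx, hxS, rfl⟩ := (mem_push _ P y).1 hy
    rw [hext x hxS, ← hg ⟨x, hx⟩, ← hext _ (hφS ⟨x, hx⟩)]
    exact ext_mem_push _ (hφS ⟨x, hx⟩) (hφS ⟨x, hx⟩)
  have hmem : conjHom (push (MonoidHom.ofInjective hreal.1) P) g ∈
      (pushSub (MonoidHom.ofInjective hreal.1) le_rfl E).Hom (push (MonoidHom.ofInjective hreal.1) P) := by
    rw [hhom]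
    exact ⟨push_mono _ hP, fun y => hval y y.2, g, hgH, fun _ => rfl⟩
  have hmap : IsMapOn (pushSub (MonoidHom.ofInjective hreal.1) le_rfl E)
      (push (MonoidHom.ofInjective hreal.1) P) (fun y => g * y * g⁻¹) := ⟨_, hmem, fun _ => rfl⟩
  have h1 := hsc.bwd _ _ hmap
  rw [push_symm_push _ hP] at h1
  refine (mem_hom_iff_isMapOn E φ).2 (h1.congr fun x hx => ?_)
  simp only [Function.comp_apply]
  rw [extHom_apply φ hx, hext x (hP hx), ← hg ⟨x, hx⟩, ← hext _ (hφS ⟨x, hx⟩), ext_symm_ext _ (hφS ⟨x, hx⟩)]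

/-! ### The model of the `p'`-residual subsystem -/

/-- **The normal closure of `ι(S)` in a model of `F` is a model of the `p'`-residual subsystem of `F`.** -/
theorem isModel_pPrimeResidual [Finite S] {p : ℕ} [hp : Fact p.Prime] (hS : IsPGroup p S)
    {F : FusionSystem S} (hF : F.IsSaturated p) {ι : S →* G} (hM : F.IsModel p G ι)
    {E : FusionSystem S} (hE : F.IsPPrimeResidual p E) (hEn : E.IsNormalIn F p) :
    E.IsModel p ↥(Subgroup.normalClosure (ι.range : Set G))
      (ι.codRestrict (Subgroup.normalClosure (ι.range : Set G))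
        (fun s => Subgroup.subset_normalClosure ⟨s, rfl⟩)) := by
  have hι : ∀ t : S, (((ι.codRestrict (Subgroup.normalClosure (ι.range : Set G))
      (fun s => Subgroup.subset_normalClosure ⟨s, rfl⟩) t : ↥(Subgroup.normalClosure (ι.range : Set G))) : G)) =
      ι ⟨t, (le_refl S) t.2⟩ := fun t => rfl
  obtain ⟨hinj, hsat, hmodel⟩ := isModel_restrict hM (Subgroup.normalClosure (ι.range : Set G)) (le_refl S)
    (ι.codRestrict (Subgroup.normalClosure (ι.range : Set G))
      (fun s => Subgroup.subset_normalClosure ⟨s, rfl⟩)) hι (fun s _ => s.2)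
  have hM' := hM
  obtain ⟨hfin, hreal, ⟨R, hR⟩, hcent⟩ := hM
  have hcoe := fun {y : Ω} (hy : y ∈ S) => coe_J_restrict (ι := ι) (le_refl S) _ hι hy
  apply hmodel E
  intro P
  apply Set.Subset.antisymm
  · -- minimality
    refine hE.2.2 _ hsat ⟨?_, ?_⟩ P
    · rintro P φ ⟨hP, hφS, g, hg⟩
      refine (mem_hom_iff hreal hP φ).2 ⟨hφS, (g : G), fun x => ?_⟩
      have h1 := congrArg Subtype.val (hg x)
      simp only [Subgroup.coe_mul, Subgroup.coe_inv] at h1
      rw [hcoe (hφS x), hcoe (hP x.2)] at h1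
      exact h1
    · intro P hP
      rw [Subgroup.map_le_iff_le_comap, Subgroup.closure_le]
      rintro α ⟨k, hk⟩
      show (α : MulAut P) ∈ (pullSystem _ hinj).autGroup P
      have hk' : orderOf (α : MulAut P) = p ^ k := by rw [Subgroup.orderOf_coe]; exact hk
      obtain ⟨g, ⟨j, hgj⟩, hg⟩ := exists_ppow_real hreal hP α.2 hk'
      have hgN : g ∈ Subgroup.normalClosure (ι.range : Set G) := by
        apply Helper85_TRS1.mem_of_coprime_index
        have h1 : orderOf g ∣ p ^ j := orderOf_dvd_of_pow_eq_one hgj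
        have h2 : ¬ p ∣ (Subgroup.normalClosure (ι.range : Set G)).index := by
          intro hdvd
          apply R.not_dvd_index
          have hle : (R : Subgroup G) ≤ Subgroup.normalClosure (ι.range : Set G) := by
            rw [hR]
            exact Subgroup.subset_normalClosure
          exact hdvd.trans (Subgroup.index_dvd_of_le hle)
        have h3 : (p ^ j).Coprime (Subgroup.normalClosure (ι.range : Set G)).index :=
          Nat.Coprime.pow_left j ((Nat.Prime.coprime_iff_not_dvd hp.out).2 h2)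
        exact Nat.Coprime.coprime_dvd_left h1 h3
      rw [Helper85_Fusion.mem_autGroup_iff _ hP]
      refine ⟨hP, fun x => hP ((α : MulAut P) x).2, ⟨g, hgN⟩, fun x => Subtype.ext ?_⟩
      simp only [Subgroup.coe_mul, Subgroup.coe_inv]
      rw [hcoe (hP x.2)]
      refine (hcoe ?_).trans (hg x)
      exact hP ((α : MulAut P) x).2
  · rintro φ ⟨hP, hφS, g, hg⟩
    refine mem_of_normal_of_real hM' hEn hP φ hφS (g : G) g.2 fun x => ?_
    have h1 := congrArg Subtype.val (hg x)
    simp only [Subgroup.coe_mul, Subgroup.coe_inv] at h1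
    rw [hcoe (hφS x), hcoe (hP x.2)] at h1
    exact h1

/-! ### The model of the `p`-residual subsystem -/

/-- The image of the hyperfocal subgroup lies in `O^p` of a realizing finite group. -/
theorem J_mem_pResidual_of_mem_hyperfocal [Finite G] {p : ℕ} [Fact p.Prime] {E : FusionSystem S}
    {ι : S →* G} (hr : E.IsRealizedBy ι) {t : Ω} (ht : t ∈ E.hyperfocalSubgroup p) :
    t ∈ S ∧ J ι t ∈ pResidual p G := by
  haveI hKn : (pResidual p G).Normal := Helper34_Sylow.pResidual_normal p G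
  have hle : E.hyperfocalSubgroup p ≤ subT ι (pResidual p G) := by
    apply Helper87_Hyperfocal.hyperfocal_le
    intro P hP α hα hcop x
    rw [mem_subT]
    have hxS : (x : Ω) ∈ S := hP x.2
    have hαS : ((α x : P) : Ω) ∈ S := hP (α x).2
    refine ⟨S.mul_mem (S.inv_mem hxS) hαS, ?_⟩
    obtain ⟨g, hg1, hg⟩ := exists_pprime_real hr hP hα hcop
    have hgK : g ∈ pResidual p G := Subgroup.subset_closure hg1
    rw [J_mul ι (S.inv_mem hxS) hαS, J_inv ι hxS, hg x]
    have h1 : (J ι (x : Ω))⁻¹ * (g * J ι (x : Ω) * g⁻¹) =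
        ((J ι (x : Ω))⁻¹ * g * ((J ι (x : Ω))⁻¹)⁻¹) * g⁻¹ := by group
    rw [h1]
    exact Subgroup.mul_mem _ (hKn.conj_mem g hgK _) (Subgroup.inv_mem _ hgK)
  exact mem_subT.1 (hle ht)

/-- **`O^p` of a model of `E` is a model of the `p`-residual subsystem of `E`.** -/
theorem isModel_pResidual [Finite S] {p : ℕ} [hp : Fact p.Prime] (hS : IsPGroup p S)
    {E : FusionSystem S} {ι : S →* G} (hM : E.IsModel p G ι)
    {D : FusionSystem (E.hyperfocalSubgroup p)} (hD : E.IsPResidual p D) :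
    ∃ ιK : ↥(E.hyperfocalSubgroup p) →* ↥(pResidual p G), D.IsModel p ↥(pResidual p G) ιK := by
  haveI hKn : (pResidual p G).Normal := Helper34_Sylow.pResidual_normal p G
  have hM' := hM
  obtain ⟨hfin, hreal, ⟨R, hR⟩, hcent⟩ := hM
  have hTS : E.hyperfocalSubgroup p ≤ S := Helper87_Hyperfocal.hyperfocal_le_base E p
  haveI : Finite ↥(E.hyperfocalSubgroup p) := Helper84_FusionRS.finite_of_le_S hTS
  have hmemK : ∀ t : ↥(E.hyperfocalSubgroup p),
      (ι.comp (Subgroup.inclusion hTS)) t ∈ pResidual p G := by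
    intro t
    have h1 := (J_mem_pResidual_of_mem_hyperfocal hreal t.2).2
    rw [J_apply ι (hTS t.2)] at h1
    exact h1
  have hι : ∀ t : ↥(E.hyperfocalSubgroup p),
      ((((ι.comp (Subgroup.inclusion hTS)).codRestrict (pResidual p G) hmemK) t : ↥(pResidual p G)) : G) =
        ι ⟨t, hTS t.2⟩ := fun t => rfl
  -- the hyperfocal subgroup theorem
  have hpre : ∀ s : S, ι s ∈ pResidual p G → (s : Ω) ∈ E.hyperfocalSubgroup p := by
    intro s hs
    have hcorr : Corr (MonoidHom.ofInjective hreal.1) E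
        (groupFusionSystem ((sylowRange ι R hR : Sylow p G) : Subgroup G)) := corr_of_isRealizedBy hreal
    have h1 : ι s ∈ (groupFusionSystem ((sylowRange ι R hR : Sylow p G) : Subgroup G)).hyperfocalSubgroup p := by
      rw [Cfsg.Agent.S5093.result p (sylowRange ι R hR)]
      exact ⟨⟨s, rfl⟩, hs⟩
    have h2 := Helper85_Transport3.ext_mem_hyperfocal hcorr.symm h1
    have h3 : ι s = ext (MonoidHom.ofInjective hreal.1) (s : Ω) := by
      rw [ext_ofInjective hreal.1 s.2, J_coe]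
    rw [h3, ext_symm_ext _ s.2] at h2
    exact h2
  obtain ⟨hinj, hsat, hmodel⟩ := isModel_restrict hM' (pResidual p G) hTS
    ((ι.comp (Subgroup.inclusion hTS)).codRestrict (pResidual p G) hmemK) hι hpre
  have hcoe := fun {y : Ω} (hy : y ∈ E.hyperfocalSubgroup p) => coe_J_restrict (ι := ι) hTS _ hι hy
  refine ⟨_, hmodel D (fun P => ?_)⟩
  refine Cfsg.Agent.S5139.hom_eq_of_pPower rfl (hS.to_le hTS) E D _ hD.1 hD.2 hsat ⟨?_, le_rfl, ?_⟩ P
  · rintro P φ ⟨hP, hφT, g, hg⟩
    refine (mem_hom_iff hreal (hP.trans hTS) φ).2 ⟨fun x => hTS (hφT x), (g : G), fun x => ?_⟩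
    have h1 := congrArg Subtype.val (hg x)
    simp only [Subgroup.coe_mul, Subgroup.coe_inv] at h1
    rw [hcoe (hφT x), hcoe (hP x.2)] at h1
    exact h1
  · intro P hP
    rintro _ ⟨α, hα, rfl⟩
    have h1 := Cfsg.Agent.S5124.coe_mem_of_mem_pResidual _ p P α hα
    refine (Subgroup.closure_le _).2 ?_ h1
    rintro β ⟨hβ1, hβ2⟩
    show β ∈ (pullSystem _ hinj).autGroup P
    obtain ⟨g, hg1, hg⟩ := exists_pprime_real hreal (hP.trans hTS) hβ1 hβ2
    have hgK : g ∈ pResidual p G := Subgroup.subset_closure hg1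
    rw [Helper85_Fusion.mem_autGroup_iff _ hP]
    refine ⟨hP, fun x => hP (β x).2, ⟨g, hgK⟩, fun x => Subtype.ext ?_⟩
    simp only [Subgroup.coe_mul, Subgroup.coe_inv]
    rw [hcoe (hP x.2)]
    refine (hcoe ?_).trans (hg x)
    exact hP (β x).2

end Cfsg.Agent.Lib.Helper85_TRS4
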