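import Cfsg.Agent.Lib.Helper85_Transport3

/-!
Transport along isomorphisms (helper85), continued: composition of correspondences, automorphisms of a
system, isomorphisms given as factor systems modulo the trivial subgroup, images of subnormal subsystems
under maps of the system.
-/

set_option autoImplicit false
set_option linter.style.haveILetI false

namespace Cfsg.Agent.Lib.Helper85_Transport4

open Cfsg Cfsg.FusionSystem Cfsg.Agent.Lib Cfsg.Agent.Lib.Helper85_Transport
  Cfsg.Agent.Lib.Helper85_Transport2 Cfsg.Agent.Lib.Helper85_Transport3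
open Cfsg.Agent.Lib.Helper87_Alperin (IsMapOn extFun extHom)
open Cfsg.Agent.Lib.Helper87_Factor (extOn)

section Trans

variable {Ω₁ Ω₂ Ω₃ : Type*} [Group Ω₁] [Group Ω₂] [Group Ω₃] {S₁ : Subgroup Ω₁} {S₂ : Subgroup Ω₂}
  {S₃ : Subgroup Ω₃} (e₁ : S₁ ≃* S₂) (e₂ : S₂ ≃* S₃)

theorem ext_trans {x : Ω₁} (hx : x ∈ S₁) : ext (e₁.trans e₂) x = ext e₂ (ext e₁ x) := by
  rw [ext_apply e₁ hx, ext_coe, ext_apply _ hx]
  rfl

theorem push_trans (P : Subgroup Ω₁) : push (e₁.trans e₂) P = push e₂ (push e₁ P) := by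
  ext y
  rw [mem_push, mem_push]
  constructor
  · rintro ⟨x, hx, hxS, rfl⟩
    exact ⟨ext e₁ x, ext_mem_push e₁ hx hxS, ext_mem e₁ x, (ext_trans e₁ e₂ hxS).symm⟩
  · rintro ⟨z, hz, hzS, rfl⟩
    obtain ⟨x, hx, hxS, rfl⟩ := (mem_push e₁ P z).1 hz
    exact ⟨x, hx, hxS, ext_trans e₁ e₂ hxS⟩

variable {e₁ e₂}

theorem fwd_trans {F₁ : FusionSystem S₁} {F₂ : FusionSystem S₂} {F₃ : FusionSystem S₃}
    (h₁ : Corr e₁ F₁ F₂) (h₂ : Corr e₂ F₂ F₃) (P : Subgroup Ω₁) (f : Ω₁ → Ω₁) (hf : IsMapOn F₁ P f) :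
    IsMapOn F₃ (push (e₁.trans e₂) P) (ext (e₁.trans e₂) ∘ f ∘ ext (e₁.trans e₂).symm) := by
  have h := h₂.fwd _ _ (h₁.fwd P f hf)
  rw [← push_trans] at h
  refine h.congr (fun y hy => ?_)
  have hyS : y ∈ S₃ := push_le _ _ hy
  have hy' : y ∈ push e₂ (push e₁ P) := by
    rw [← push_trans]
    exact hy
  have hxP : ext e₁.symm (ext e₂.symm y) ∈ P := ext_symm_mem e₁ (ext_symm_mem e₂ hy')
  have h3 : ext (e₁.trans e₂).symm y = ext e₁.symm (ext e₂.symm y) := ext_trans e₂.symm e₁.symm hyS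
  simp only [Function.comp_apply]
  rw [h3, ext_trans e₁ e₂ (hf.mem hxP)]

theorem corr_trans {F₁ : FusionSystem S₁} {F₂ : FusionSystem S₂} {F₃ : FusionSystem S₃}
    (h₁ : Corr e₁ F₁ F₂) (h₂ : Corr e₂ F₂ F₃) : Corr (e₁.trans e₂) F₁ F₃ := by
  refine ⟨fwd_trans h₁ h₂, fun P' f' hf' => ?_⟩
  have h := fwd_trans h₂.symm h₁.symm P' f' hf'
  have hs : (e₁.trans e₂).symm = e₂.symm.trans e₁.symm := rfl
  have hs' : (e₂.symm.trans e₁.symm).symm = e₁.trans e₂ := rfl
  rw [hs]
  rw [hs'] at h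
  exact h

end Trans

section Aut

variable {Ω : Type*} [Group Ω] {S : Subgroup Ω}

theorem ext_eq_extFun (α : MulAut S) : ext α = extFun α := rfl

theorem fwd_of_isMapOn {F : FusionSystem S} {e : S ≃* S} (he : IsMapOn F S (ext e))
    (he' : IsMapOn F S (ext e.symm)) (P : Subgroup Ω) (f : Ω → Ω) (hf : IsMapOn F P f) :
    IsMapOn F (push e P) (ext e ∘ f ∘ ext e.symm) := by
  have h1 : IsMapOn F (push e P) (ext e.symm) := he'.mono (push_le e P)
  have h2 := h1.comp hf (fun y hy => ext_symm_mem e hy)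
  exact h2.comp he (fun y hy => hf.mem (ext_symm_mem e hy))

theorem corr_of_isMapOn {F : FusionSystem S} {e : S ≃* S} (he : IsMapOn F S (ext e))
    (he' : IsMapOn F S (ext e.symm)) : Corr e F F :=
  ⟨fwd_of_isMapOn he he', fwd_of_isMapOn (e := e.symm) he' he⟩

theorem corr_of_mem_autGroup {F : FusionSystem S} {α : MulAut S} (hα : α ∈ F.autGroup S) : Corr α F F := by
  apply corr_of_isMapOn
  · exact (Helper87_Alperin.mem_autGroup_iff F le_rfl α).1 hα
  · exact (Helper87_Alperin.mem_autGroup_iff F le_rfl α⁻¹).1 ((F.autGroup S).inv_mem hα)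

/-- An automorphism in `Aut_F(T)` of the base of an invariant subsystem `E` carries `E` to itself. -/
theorem fwd_of_invariant {F : FusionSystem S} {T : Subgroup Ω} {E : FusionSystem T}
    (hEF : E.IsInvariantIn F) {α : MulAut T} (hα : α ∈ F.autGroup T) (P : Subgroup Ω) (f : Ω → Ω)
    (hf : IsMapOn E P f) : IsMapOn E (push α P) (ext α ∘ f ∘ ext α.symm) := by
  have hP : P ≤ T := hf.le
  refine Helper88_Invariant.isMapOn_transport hEF hα hf (fun y => ?_)
  rw [mem_push]
  constructor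
  · rintro ⟨x, hx, -, rfl⟩
    exact ⟨x, hx, rfl⟩
  · rintro ⟨x, hx, rfl⟩
    exact ⟨x, hx, hP hx, rfl⟩

theorem corr_of_invariant {F : FusionSystem S} {T : Subgroup Ω} {E : FusionSystem T}
    (hEF : E.IsInvariantIn F) {α : MulAut T} (hα : α ∈ F.autGroup T) : Corr α E E :=
  ⟨fwd_of_invariant hEF hα, fwd_of_invariant hEF (α := α⁻¹) ((F.autGroup T).inv_mem hα)⟩

end Aut

section FactorBot

variable {Ω Ω' : Type*} [Group Ω] [Group Ω'] {T : Subgroup Ω}

theorem extOn_eq_ext_ofInjective {γ : T →* Ω'} (hinj : Function.Injective γ) :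
    extOn γ = ext (MonoidHom.ofInjective hinj) := rfl

theorem preimageAlong_eq_push_symm {γ : T →* Ω'} (hinj : Function.Injective γ) (P' : Subgroup Ω') :
    preimageAlong γ P' = push (MonoidHom.ofInjective hinj).symm P' := by
  ext x
  rw [Helper87_Factor.mem_preimageAlong]
  constructor
  · rintro ⟨hx, h⟩
    rw [mem_push_symm_iff _ hx]
    rwa [extOn_eq_ext_ofInjective hinj] at h
  · intro h
    have hx : x ∈ T := push_le _ _ h
    refine ⟨hx, ?_⟩
    rw [extOn_eq_ext_ofInjective hinj]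
    exact (mem_push_symm_iff _ hx).1 h

/-- A factor system modulo the trivial subgroup is an isomorphic copy. -/
theorem corr_of_isFactorSystem_bot {C : FusionSystem T} {γ : T →* Ω'} (hinj : Function.Injective γ)
    {E : FusionSystem γ.range} (hE : C.IsFactorSystem ⊥ γ E) :
    Corr (MonoidHom.ofInjective hinj) C E := by
  have hext : extOn γ = ext (MonoidHom.ofInjective hinj) := rfl
  constructor
  · intro P f hf
    obtain ⟨φ, hφ, hφf⟩ := hf
    have hP : P ≤ T := Helper87_Alperin.hom_le C hφ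
    have hφT : ∀ x : P, φ x ∈ T := Helper87_Alperin.hom_mem C hφ
    let φ' : push (MonoidHom.ofInjective hinj) P →* Ω' := (γ.range).subtype.comp
      ((MonoidHom.ofInjective hinj).toMonoidHom.comp ((φ.codRestrict T hφT).comp
        (restrictEquiv (MonoidHom.ofInjective hinj) hP).symm.toMonoidHom))
    have hφ'x : ∀ y : push (MonoidHom.ofInjective hinj) P, φ' y =
        ext (MonoidHom.ofInjective hinj) (φ ⟨ext (MonoidHom.ofInjective hinj).symm (y : Ω'),
          ext_symm_mem _ y.2⟩) := by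
      intro y
      rw [ext_apply _ (hφT _)]
      rfl
    refine ⟨φ', ?_, fun y => ?_⟩
    · refine (hE.2.2.2 _ φ').2 ⟨push_le _ P, ?_⟩
      have hpre : preimageAlong γ (push (MonoidHom.ofInjective hinj) P) = P := by
        rw [preimageAlong_eq_push_symm hinj, push_symm_push _ hP]
      have h0 : IsMapOn C (preimageAlong γ (push (MonoidHom.ofInjective hinj) P)) (extHom φ) := by
        rw [hpre]
        exact Helper87_Alperin.isMapOn_extHom C hφ
      obtain ⟨φ₀, hφ₀, hφ₀f⟩ := h0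
      refine ⟨φ₀, hφ₀, Helper87_Factor.inducedAlong_of_extOn (Helper87_Factor.preimageAlong_le γ _)
        (Helper87_Alperin.hom_mem C hφ₀)
        (fun x => ((Helper87_Factor.mem_preimageAlong γ _ _).1 x.2).2) (fun x => ?_)⟩
      have hxP : (x : Ω) ∈ P := hpre.le x.2
      rw [hφ'x, hφ₀f, Helper87_Alperin.extHom_apply φ hxP]
      show _ = ext (MonoidHom.ofInjective hinj) (φ ⟨(x : Ω), hxP⟩)
      congr 2
      apply Subtype.ext
      exact ext_symm_ext (MonoidHom.ofInjective hinj) (hP hxP)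
    · rw [hφ'x]
      simp only [Function.comp_apply]
      rw [hφf ⟨_, ext_symm_mem _ y.2⟩]
  · intro P' f' hf'
    obtain ⟨φ', hφ', hφ'f⟩ := hf'
    obtain ⟨hP', φ, hφ, hind⟩ := (hE.2.2.2 P' φ').1 hφ'
    obtain ⟨hPT, hφT, hind'⟩ := Helper87_Factor.extOn_of_inducedAlong hind
    rw [← preimageAlong_eq_push_symm hinj]
    refine ⟨φ, hφ, fun x => ?_⟩
    have hx' : extOn γ (x : Ω) ∈ P' := ((Helper87_Factor.mem_preimageAlong γ _ _).1 x.2).2
    have h1 := hind' x hx'
    simp only [Function.comp_apply]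
    rw [← hext, ← hφ'f ⟨_, hx'⟩, h1, hext, ext_symm_ext _ (hφT x)]

end FactorBot

section SubnormalImage

variable {Ω : Type*} [Group Ω]

theorem isSubnormalIn_image_aux {p : ℕ} {T U : Subgroup Ω} {C : FusionSystem T} {D : FusionSystem U}
    (h : C.IsSubnormalIn D p) : p.Prime → Finite U →
      ∀ (T' : Subgroup Ω) (e : T ≃* T') (C' : FusionSystem T'), IsMapOn D T (ext e) → Corr e C C' →
        C'.IsSubnormalIn D p := by
  induction h with
  | refl F p =>
    intro hp hfin T' e C' he hc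
    have hT'S : T' ≤ T := by
      intro y hy
      have := he.mem (x := ext e.symm y) (ext_mem e.symm y)
      rwa [ext_ext_symm e hy] at this
    have hcard : Nat.card T' = Nat.card T := (Nat.card_congr e.toEquiv).symm
    have hT' : T' = T := Subgroup.eq_of_le_of_card_ge hT'S hcard.ge
    subst hT'
    have hα : (e : MulAut T') ∈ F.autGroup T' := (Helper87_Alperin.mem_autGroup_iff F le_rfl e).2 he
    have hcorr : Corr e F F := corr_of_mem_autGroup hα
    exact isSubnormalIn_of_eq rfl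
      (SubCorr.isSubsystemOf' (subCorr_of_corr hc) (subCorr_of_corr hcorr) (fun _ _ h => h))
      (SubCorr.isSubsystemOf' (subCorr_of_corr hcorr) (subCorr_of_corr hc) (fun _ _ h => h))
  | step h₁ hn ih =>
    rename_i U₁ U₂ C₁ D₁ D₂ p₂
    intro hp hfin T' e C' he hc
    haveI : Fact p₂.Prime := ⟨hp⟩
    have hinv : D₁.IsInvariantIn D₂ := hn.1.2.2
    have hU₁U : U₁ ≤ U₂ := hinv.2.1.1
    haveI : Finite U₁ := Helper84_FusionRS.finite_of_le_S hU₁U
    have hTU₁ : T ≤ U₁ := isSubnormalIn_le h₁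
    obtain ⟨α, hα, f₀, hf₀, hfac⟩ := exists_frattini hinv hTU₁ he
    have hT'U₁ : T' ≤ U₁ := by
      intro y hy
      have := Helper87_ModT.IsMapOn.mem_stronglyClosed hinv.2.1 he (x := ext e.symm y)
        (ext_mem e.symm y) (hTU₁ (ext_mem e.symm y))
      rwa [ext_ext_symm e hy] at this
    have hC₀ : SubCorr α.symm C' (pushSub α.symm hT'U₁ C') := subCorr_pushSub hT'U₁
    have hcorr₀ : Corr (e.trans (restrictEquiv α.symm hT'U₁)) C₁ (pushSub α.symm hT'U₁ C') :=
      corr_trans hc hC₀.toCorr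
    have he₀ : IsMapOn D₁ T (ext (e.trans (restrictEquiv α.symm hT'U₁))) := by
      refine hf₀.congr (fun x hx => ?_)
      rw [ext_trans e _ hx, ext_restrictEquiv α.symm _ (ext_mem e x), hfac x hx, ← ext_eq_extFun]
      exact (ext_symm_ext α (hf₀.mem hx)).symm
    have h₀ := ih hp ‹_› _ _ _ he₀ hcorr₀
    have hαcorr : Corr α D₁ D₁ := corr_of_invariant hinv hα
    have hC₀' : SubCorr α (pushSub α.symm hT'U₁ C') C' := by
      have := hC₀.symm
      rwa [MulEquiv.symm_symm] at this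
    have h₁' := isSubnormalIn_push h₀ hC₀' (subCorr_of_corr hαcorr)
    exact IsSubnormalIn.step h₁' hn

/-- The image of a subnormal subsystem `C` (over `T`) of `D` under a map of `D` with source `T` is subnormal. -/
theorem isSubnormalIn_image {p : ℕ} [hp : Fact p.Prime] {T U : Subgroup Ω} [Finite U] {C : FusionSystem T}
    {D : FusionSystem U} (h : C.IsSubnormalIn D p) {T' : Subgroup Ω} {e : T ≃* T'} {C' : FusionSystem T'}
    (he : IsMapOn D T (ext e)) (hc : Corr e C C') : C'.IsSubnormalIn D p :=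
  isSubnormalIn_image_aux h hp.out ‹_› T' e C' he hc

end SubnormalImage

end Cfsg.Agent.Lib.Helper85_Transport4
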