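import Mathlib
import Cfsg.Agent.Lib.Helper85_U5_Main
import Cfsg.Agent.Lib.Helper46_U5_V5FIXS
import Cfsg.Agent.Lib.Helper68_T5_Final

set_option autoImplicit false

open Module Cfsg.Agent.Lib.Helper94_Symp Cfsg.Agent.Lib.Helper94_Herm
  Cfsg.Agent.Lib.Helper13_SUGen Cfsg.Agent.Lib.Helper13_PSUSimple Cfsg.Agent.Lib.Helper14_PSULocal1
  Cfsg.Agent.Lib.Helper27_UQDefs

namespace Cfsg.Agent.Lib.Helper85_U5_T5

universe u

variable {F : Type*} [Field F] {σ : F →+* F}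

/-- **T(5)**: every proper subgroup of `SU_5(q)` has index at least `q^7 + q^5 + q^2 + 1` (all `q ≥ 2`). -/
theorem T5 [Finite F] (hσ : Invol σ) {q : ℕ} (hF : Nat.card F = q ^ 2)
    {V : Type u} [AddCommGroup V] [Module F V] [FiniteDimensional F V]
    (B : V →ₗ[F] V →ₛₗ[σ] F) (hB : IsHerm B) (hN : NondegOn B ⊤) (h5 : finrank F V = 5) :
    ∀ H : Subgroup ↥(SUg B), H ≠ ⊤ → q ^ 7 + q ^ 5 + q ^ 2 + 1 ≤ H.index := by
  have hfinV : Finite V := Module.finite_of_finite F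
  have hfinG : Finite ↥(SUg B) := Cfsg.Agent.Lib.Helper94_UQStep.finite_SUg B
  exact Cfsg.Agent.Lib.Helper68_T5_Final.T5_of B hσ hB hN hF h5
    (fun h => Cfsg.Agent.Lib.Helper46_U5_V5FIXS.exists_fix_elt hσ hB hN
      (Cfsg.Agent.Lib.Helper94_UQStep.two_le_q hF) hF h5 h)
    (fun H hH hcard {v v'} h => Cfsg.Agent.Lib.Helper85_U5_Main.hreg_udat hσ hB hN hF h5 h hcard)

end Cfsg.Agent.Lib.Helper85_U5_T5
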