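import Mathlib
import Cfsg.Agent.Lib.Helper37_UTDefs
import Cfsg.Agent.Lib.Helper37_UTPairDefs
import Cfsg.Agent.Lib.Helper85_UT_LAYERaux
import Cfsg.Agent.Lib.Helper47_UT_QCOMM

set_option autoImplicit false
set_option linter.unusedSectionVars false
set_option linter.unusedVariables false

/-!
# UTENS wave 2, package LAYER (architect helper37): the action of `Stab_M(x ⊗ B)` on the layers
`x ⊗ B < x^⊥ ⊗ B < V` (statement verbatim from `pending/helper37/UTENS_packages3.lean.txt`).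
Core: `Helper85_UT_LAYERaux.layer_of`.
-/

namespace Cfsg.Agent.Lib.Helper85_UT_LAYER

open Matrix Module
open Cfsg.Agent.Lib.Helper98_ExtDefs Cfsg.Agent.Lib.Helper97_TensDefs
open Cfsg.Agent.Lib.Helper94_Herm Cfsg.Agent.Lib.Helper13_PSUSimple
open Cfsg.Agent.Lib.Helper94_HermEich
open Cfsg.Agent.Lib.Helper67_UT2Defs Cfsg.Agent.Lib.Helper37_UTDefs
open Cfsg.Agent.Lib.Helper37_UTPairDefs

variable {F : Type*} [Field F] {ι κ : Type*} [Fintype ι] [Fintype κ] [DecidableEq ι]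
  [DecidableEq κ] {σ : F →+* F}
variable {α : (ι → F) →ₗ[F] (ι → F) →ₛₗ[σ] F} {β : (κ → F) →ₗ[F] (κ → F) →ₛₗ[σ] F}
variable {M : Subgroup (Matrix ι κ F ≃ₗ[F] Matrix ι κ F)}

theorem layer [Finite F] (hB : UTBase α β M) (hII : RadStdII α M) {x : ι → F} (hx0 : x ≠ 0)
    (hx : α x x = 0) {g : Matrix ι κ F ≃ₗ[F] Matrix ι κ F} (hg : g ∈ M)
    (hst : ∀ w : κ → F, ∃ w' : κ → F, g (vecMulVec x w) = vecMulVec x w') :
    ∃ (g₃ : (κ → F) →ₗ[F] (κ → F)) (φ : (ι → F) →ₗ[F] (ι → F)),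
      (∀ X, ctrA α x (g X) = g₃ (ctrA α x X)) ∧
      (∀ c, α c x = 0 → α (φ c) x = 0) ∧
      (∀ c w, α c x = 0 → g (vecMulVec c w) - vecMulVec (φ c) (g₃ w) ∈ fibB (κ := κ) x) :=
  Cfsg.Agent.Lib.Helper85_UT_LAYERaux.layer_of hB hx0 hx
    (fun h hh hQ => Cfsg.Agent.Lib.Helper47_UT_QCOMM.qcomm hB hII hx0 hx hh hQ) hg hst

end Cfsg.Agent.Lib.Helper85_UT_LAYER
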