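import Cfsg.Agent.Lib.Helper85_Fusion
import Cfsg.Agent.Lib.Helper87_ModT
import Cfsg.Agent.Lib.Helper32_Sylow
import Cfsg.Agent.Lib.Helper1_Cores
import Cfsg.Agent.Lib.Helper55_DihedralNPC
import Cfsg.Prelude.Def_CaseTheorems

/-!
The centre of the 2-fusion system of a finite group and `Z*` (helper85): the centre of `F_S(G)` is
`S ∩ Z*(G)`, given Glauberman's `Z*`-theorem as a hypothesis.
-/

set_option autoImplicit false
set_option linter.style.haveILetI false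

namespace Cfsg.Agent.Lib.Helper85_ZStarFusion

open Cfsg Cfsg.FusionSystem Cfsg.Agent.Lib

universe u

variable {G : Type u} [Group G] [Finite G]

/-! ### Elementary facts about the odd core and a Sylow 2-subgroup -/

theorem eq_one_of_mem_of_mem_core (S : Sylow 2 G) {x : G} (hxS : x ∈ (S : Subgroup G))
    (hxO : x ∈ pPrimeCore 2 G) : x = 1 := by
  obtain ⟨k, hk⟩ := S.2 ⟨x, hxS⟩
  have h2 : orderOf x ∣ 2 ^ k := by
    apply orderOf_dvd_of_pow_eq_one
    exact congrArg Subtype.val hk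
  have h1 : orderOf x ∣ Nat.card (pPrimeCore 2 G) := Subgroup.orderOf_dvd_natCard _ hxO
  have hcop : (Nat.card (pPrimeCore 2 G)).Coprime (2 ^ k) :=
    (Helper1_Cores.pPrimeCore_card_coprime 2).pow_right k
  have h3 := Nat.dvd_gcd h1 h2
  rw [hcop] at h3
  exact orderOf_eq_one_iff.1 (Nat.dvd_one.1 h3)

/-- Two elements of `S` conjugate by an element of the odd core are equal. -/
theorem eq_of_core_conj (S : Sylow 2 G) {b s : G} (hb : b ∈ pPrimeCore 2 G) (hs : s ∈ (S : Subgroup G))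
    (hbs : b * s * b⁻¹ ∈ (S : Subgroup G)) : b * s * b⁻¹ = s := by
  have h1 : b * s * b⁻¹ * s⁻¹ ∈ (S : Subgroup G) := Subgroup.mul_mem _ hbs (Subgroup.inv_mem _ hs)
  have h2 : b * s * b⁻¹ * s⁻¹ ∈ pPrimeCore 2 G := by
    have : b * s * b⁻¹ * s⁻¹ = b * (s * b⁻¹ * s⁻¹) := by group
    rw [this]
    exact Subgroup.mul_mem _ hb ((pPrimeCore_normal 2 G).conj_mem _ (Subgroup.inv_mem _ hb) s)
  have h3 := eq_one_of_mem_of_mem_core S h1 h2
  calc b * s * b⁻¹ = b * s * b⁻¹ * s⁻¹ * s := by group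
    _ = s := by rw [h3, one_mul]

/-- A 2-subgroup inside `N S`, `N` normalized by `S`, is conjugate into `S` by an element of `N`. -/
theorem exists_conj_into (S : Sylow 2 G) (N : Subgroup G)
    (hNS : (S : Subgroup G) ≤ Subgroup.normalizer (N : Set G)) (Q : Subgroup G) (hQ : IsPGroup 2 Q)
    (hQNS : Q ≤ (S : Subgroup G) ⊔ N) : ∃ n ∈ N, ∀ x ∈ Q, n * x * n⁻¹ ∈ (S : Subgroup G) := by
  obtain ⟨c, hc, hcQ⟩ := Helper32_Sylow.sylow_conj_into ((S : Subgroup G) ⊔ N) S le_sup_left Q hQNS hQ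
  obtain ⟨s, hs, n, hn, rfl⟩ := (Helper87_ModT.mem_sup_iff_exists_mul hNS c).1 hc
  refine ⟨n, hn, fun x hx => ?_⟩
  have h1 := hcQ x hx
  have h2 : n * x * n⁻¹ = s⁻¹ * (s * n * x * (s * n)⁻¹) * s := by group
  rw [h2]
  exact Subgroup.mul_mem _ (Subgroup.mul_mem _ (Subgroup.inv_mem _ hs) h1) hs

omit [Finite G] in
theorem sylow_le_normalizer_core (S : Sylow 2 G) :
    (S : Subgroup G) ≤ Subgroup.normalizer ((pPrimeCore 2 G : Subgroup G) : Set G) := by
  rw [Subgroup.normalizer_eq_top]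
  exact le_top

/-- A 2-element of `O(G) S` is conjugate into `S` by an element of `O(G)`. -/
theorem exists_core_conj_mem (S : Sylow 2 G) {y : G} (hy : y ∈ (S : Subgroup G) ⊔ pPrimeCore 2 G)
    (hy2 : IsPGroup 2 (Subgroup.zpowers y)) :
    ∃ a ∈ pPrimeCore 2 G, a * y * a⁻¹ ∈ (S : Subgroup G) := by
  obtain ⟨a, ha, h⟩ := exists_conj_into S (pPrimeCore 2 G) (sylow_le_normalizer_core S)
    (Subgroup.zpowers y) hy2 ((Subgroup.zpowers_le).2 hy)
  exact ⟨a, ha, h y (Subgroup.mem_zpowers y)⟩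

/-! ### Control of fusion by the centralizer of a subgroup of `S` central modulo the odd core -/

/-- A subgroup of `S` whose elements are central modulo `O(G)` lies in the centre of `S`. -/
theorem commute_of_central_mod_core (S : Sylow 2 G) {Z : Subgroup G} (hZS : Z ≤ (S : Subgroup G))
    (hZ : ∀ z ∈ Z, ∀ g : G, g * z * g⁻¹ * z⁻¹ ∈ pPrimeCore 2 G) {z s : G} (hz : z ∈ Z)
    (hs : s ∈ (S : Subgroup G)) : s * z * s⁻¹ = z := by
  have h1 : s * z * s⁻¹ * z⁻¹ ∈ (S : Subgroup G) :=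
    Subgroup.mul_mem _ (Subgroup.mul_mem _ (Subgroup.mul_mem _ hs (hZS hz)) (Subgroup.inv_mem _ hs))
      (Subgroup.inv_mem _ (hZS hz))
  have h3 := eq_one_of_mem_of_mem_core S h1 (hZ z hz s)
  calc s * z * s⁻¹ = s * z * s⁻¹ * z⁻¹ * z := by group
    _ = z := by rw [h3, one_mul]

theorem control_of_central_mod_core (S : Sylow 2 G) {Z : Subgroup G} (hZS : Z ≤ (S : Subgroup G))
    (hZ : ∀ z ∈ Z, ∀ g : G, g * z * g⁻¹ * z⁻¹ ∈ pPrimeCore 2 G) {P : Subgroup G}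
    (hP : P ≤ (S : Subgroup G)) {g : G} (hg : ∀ x ∈ P, g * x * g⁻¹ ∈ (S : Subgroup G)) :
    ∃ c : G, (∀ z ∈ Z, c * z * c⁻¹ = z) ∧ ∀ x ∈ P, c * x * c⁻¹ = g * x * g⁻¹ := by
  have hO := pPrimeCore_normal 2 G
  -- step (ii): `a g` centralizes `Z` for some `a ∈ O(G)`
  have hQ2 : IsPGroup 2 (Z.map (MulAut.conj g).toMonoidHom) := (S.2.to_le hZS).map _
  have hQle : Z.map (MulAut.conj g).toMonoidHom ≤ (S : Subgroup G) ⊔ pPrimeCore 2 G := by
    rintro _ ⟨z, hz, rfl⟩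
    have : (MulAut.conj g).toMonoidHom z = z * (z⁻¹ * (g * z * g⁻¹ * z⁻¹) * z) := by
      show g * z * g⁻¹ = _
      group
    rw [this]
    exact Subgroup.mul_mem_sup (hZS hz) (by
      have := hO.conj_mem _ (hZ z hz g) z⁻¹
      rwa [inv_inv] at this)
  obtain ⟨a, ha, haQ⟩ := exists_conj_into S (pPrimeCore 2 G) (sylow_le_normalizer_core S) _ hQ2 hQle
  have hc₀ : ∀ z ∈ Z, (a * g) * z * (a * g)⁻¹ = z := by
    intro z hz
    have h1 : a * (g * z * g⁻¹) * a⁻¹ ∈ (S : Subgroup G) := haQ _ ⟨z, hz, rfl⟩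
    have h2 : (a * g) * z * (a * g)⁻¹ = a * (g * z * g⁻¹) * a⁻¹ := by group
    rw [h2]
    have h3 : a * (g * z * g⁻¹) * a⁻¹ * z⁻¹ ∈ (S : Subgroup G) :=
      Subgroup.mul_mem _ h1 (Subgroup.inv_mem _ (hZS hz))
    have h4 : a * (g * z * g⁻¹) * a⁻¹ * z⁻¹ ∈ pPrimeCore 2 G := by
      have h5 := hZ z hz (a * g)
      rwa [h2] at h5
    have h6 := eq_one_of_mem_of_mem_core S h3 h4
    calc a * (g * z * g⁻¹) * a⁻¹ = a * (g * z * g⁻¹) * a⁻¹ * z⁻¹ * z := by group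
      _ = z := by rw [h6, one_mul]
  -- the centralizer of `Z`
  have hSC : ∀ s ∈ (S : Subgroup G), s ∈ Subgroup.centralizer (Z : Set G) := by
    intro s hs
    rw [Subgroup.mem_centralizer_iff]
    intro z hz
    have := commute_of_central_mod_core S hZS hZ hz hs
    calc z * s = s * z * s⁻¹ * s := by rw [this]
      _ = s * z := by group
  have hc₀C : a * g ∈ Subgroup.centralizer (Z : Set G) := by
    rw [Subgroup.mem_centralizer_iff]
    intro z hz
    have := hc₀ z hz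
    calc z * (a * g) = (a * g) * z * (a * g)⁻¹ * (a * g) := by rw [this]
      _ = (a * g) * z := by group
  -- step (iii)
  have hNS : (S : Subgroup G) ≤
      Subgroup.normalizer ((pPrimeCore 2 G ⊓ Subgroup.centralizer (Z : Set G) : Subgroup G) : Set G) := by
    intro s hs
    have key : ∀ t ∈ (S : Subgroup G), ∀ h ∈ pPrimeCore 2 G ⊓ Subgroup.centralizer (Z : Set G),
        t * h * t⁻¹ ∈ pPrimeCore 2 G ⊓ Subgroup.centralizer (Z : Set G) := by
      intro t ht h hh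
      exact ⟨hO.conj_mem _ hh.1 t, Subgroup.mul_mem _ (Subgroup.mul_mem _ (hSC t ht) hh.2)
        (Subgroup.inv_mem _ (hSC t ht))⟩
    rw [Subgroup.mem_normalizer_iff]
    intro h
    refine ⟨key s hs h, fun hh => ?_⟩
    have := key s⁻¹ (Subgroup.inv_mem _ hs) _ hh
    have h2 : s⁻¹ * (s * h * s⁻¹) * s⁻¹⁻¹ = h := by group
    rwa [h2] at this
  have hP₁2 : IsPGroup 2 (P.map (MulAut.conj (a * g)).toMonoidHom) := (S.2.to_le hP).map _
  have hP₁le : P.map (MulAut.conj (a * g)).toMonoidHom ≤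
      (S : Subgroup G) ⊔ (pPrimeCore 2 G ⊓ Subgroup.centralizer (Z : Set G)) := by
    rintro _ ⟨x, hx, rfl⟩
    have hs : g * x * g⁻¹ ∈ (S : Subgroup G) := hg x hx
    have hy : (MulAut.conj (a * g)).toMonoidHom x = (g * x * g⁻¹) *
        ((g * x * g⁻¹)⁻¹ * a * (g * x * g⁻¹) * a⁻¹) := by
      show (a * g) * x * (a * g)⁻¹ = _
      group
    have hyC : (a * g) * x * (a * g)⁻¹ ∈ Subgroup.centralizer (Z : Set G) :=
      Subgroup.mul_mem _ (Subgroup.mul_mem _ hc₀C (hSC x (hP hx))) (Subgroup.inv_mem _ hc₀C)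
    rw [hy]
    refine Subgroup.mul_mem_sup hs ⟨?_, ?_⟩
    · have h1 : (g * x * g⁻¹)⁻¹ * a * (g * x * g⁻¹) * a⁻¹ =
          ((g * x * g⁻¹)⁻¹ * a * (g * x * g⁻¹)⁻¹⁻¹) * a⁻¹ := by group
      rw [h1]
      exact Subgroup.mul_mem _ (hO.conj_mem _ ha _) (Subgroup.inv_mem _ ha)
    · have h1 : (g * x * g⁻¹)⁻¹ * a * (g * x * g⁻¹) * a⁻¹ =
          (g * x * g⁻¹)⁻¹ * ((a * g) * x * (a * g)⁻¹) := by group
      rw [h1]
      exact Subgroup.mul_mem _ (Subgroup.inv_mem _ (hSC _ hs)) hyC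
  obtain ⟨m, hm, hmP⟩ := exists_conj_into S _ hNS _ hP₁2 hP₁le
  refine ⟨m * (a * g), fun z hz => ?_, fun x hx => ?_⟩
  · have h1 : m * (a * g) * z * (m * (a * g))⁻¹ = m * ((a * g) * z * (a * g)⁻¹) * m⁻¹ := by group
    rw [h1, hc₀ z hz]
    have h2 := (Subgroup.mem_centralizer_iff.1 hm.2) z hz
    calc m * z * m⁻¹ = z * m * m⁻¹ := by rw [h2]
      _ = z := by group
  · have hs : g * x * g⁻¹ ∈ (S : Subgroup G) := hg x hx
    have h1 : m * (a * g) * x * (m * (a * g))⁻¹ = (m * a) * (g * x * g⁻¹) * (m * a)⁻¹ := by group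
    have h2 : m * ((MulAut.conj (a * g)).toMonoidHom x) * m⁻¹ ∈ (S : Subgroup G) :=
      hmP _ ⟨x, hx, rfl⟩
    have h3 : m * ((MulAut.conj (a * g)).toMonoidHom x) * m⁻¹ =
        (m * a) * (g * x * g⁻¹) * (m * a)⁻¹ := by
      show m * ((a * g) * x * (a * g)⁻¹) * m⁻¹ = _
      group
    rw [h3] at h2
    rw [h1]
    exact eq_of_core_conj S (Subgroup.mul_mem _ hm.1 ha) hs h2

/-! ### `S ∩ Z*(G)` is central in the fusion system -/

omit [Finite G] in
theorem mem_zstar_iff (x : G) :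
    x ∈ (Subgroup.center (G ⧸ oddCore G)).comap (QuotientGroup.mk' (oddCore G)) ↔
      ∀ g : G, g * x * g⁻¹ * x⁻¹ ∈ pPrimeCore 2 G := by
  rw [Subgroup.mem_comap, Subgroup.mem_center_iff]
  constructor
  · intro h g
    have h1 := h (QuotientGroup.mk' (oddCore G) g)
    rw [← QuotientGroup.eq_one_iff]
    simp only [QuotientGroup.mk'_apply] at h1
    rw [QuotientGroup.mk_mul, QuotientGroup.mk_mul, QuotientGroup.mk_mul, QuotientGroup.mk_inv,
      QuotientGroup.mk_inv, h1]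
    group
  · intro h gb
    obtain ⟨g, rfl⟩ := QuotientGroup.mk'_surjective (oddCore G) gb
    have h1 := (QuotientGroup.eq_one_iff (N := pPrimeCore 2 G) _).2 (h g)
    simp only [QuotientGroup.mk'_apply]
    rw [QuotientGroup.mk_mul, QuotientGroup.mk_mul, QuotientGroup.mk_mul, QuotientGroup.mk_inv,
      QuotientGroup.mk_inv] at h1
    calc (g : G ⧸ oddCore G) * (x : G ⧸ oddCore G)
        = ((g : G ⧸ oddCore G) * (x : G ⧸ oddCore G) * (g : G ⧸ oddCore G)⁻¹ *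
            (x : G ⧸ oddCore G)⁻¹) * (x : G ⧸ oddCore G) * (g : G ⧸ oddCore G) := by group
      _ = (x : G ⧸ oddCore G) * (g : G ⧸ oddCore G) := by rw [h1, one_mul]

theorem isCentral_of_central_mod_core (S : Sylow 2 G) {Z : Subgroup G} (hZS : Z ≤ (S : Subgroup G))
    (hZ : ∀ z ∈ Z, ∀ g : G, g * z * g⁻¹ * z⁻¹ ∈ pPrimeCore 2 G) :
    (groupFusionSystem (S : Subgroup G)).IsCentral Z := by
  refine ⟨hZS, fun P φ hφ => ?_⟩
  obtain ⟨hP, hφS, g, hg⟩ := hφ
  have hgS : ∀ x ∈ P, g * x * g⁻¹ ∈ (S : Subgroup G) := by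
    intro x hx
    have := hφS ⟨x, hx⟩
    rwa [hg] at this
  obtain ⟨c, hcZ, hcP⟩ := control_of_central_mod_core S hZS hZ hP hgS
  have hPZ : P ⊔ Z ≤ (S : Subgroup G) := sup_le hP hZS
  have hPN : P ≤ Subgroup.normalizer (Z : Set G) := by
    intro x hx
    rw [Subgroup.mem_normalizer_iff]
    intro z
    constructor
    · intro hz
      rw [commute_of_central_mod_core S hZS hZ hz (hP hx)]
      exact hz
    · intro hz
      have h1 := commute_of_central_mod_core S hZS hZ hz (Subgroup.inv_mem _ (hP hx))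
      have h2 : x⁻¹ * (x * z * x⁻¹) * x⁻¹⁻¹ = z := by group
      rw [h2] at h1
      rw [h1]
      exact hz
  refine ⟨conjHom (P ⊔ Z) c, ⟨hPZ, fun y => ?_, c, fun y => rfl⟩, fun x => ?_, fun z => ?_⟩
  · obtain ⟨x, hx, z, hz, hy⟩ := (Helper87_ModT.mem_sup_iff_exists_mul hPN (y : G)).1 y.2
    show c * (y : G) * c⁻¹ ∈ (S : Subgroup G)
    rw [hy]
    have h1 : c * (x * z) * c⁻¹ = (c * x * c⁻¹) * (c * z * c⁻¹) := by group
    rw [h1, hcP x hx, hcZ z hz]
    exact Subgroup.mul_mem _ (hgS x hx) (hZS hz)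
  · show c * (x : G) * c⁻¹ = φ x
    rw [hcP x x.2, hg]
  · show c * (z : G) * c⁻¹ = z
    exact hcZ z z.2

theorem zstar_le_center (S : Sylow 2 G) :
    (S : Subgroup G) ⊓ (Subgroup.center (G ⧸ oddCore G)).comap (QuotientGroup.mk' (oddCore G)) ≤
      (groupFusionSystem (S : Subgroup G)).center := by
  apply le_sSup
  apply isCentral_of_central_mod_core S inf_le_left
  intro z hz
  exact (mem_zstar_iff z).1 hz.2

/-! ### Elements of the centre are isolated -/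

theorem isolated_of_mem_center (S : Sylow 2 G) {x : G}
    (hx : x ∈ (groupFusionSystem (S : Subgroup G)).center) {g : G}
    (hg : g * x * g⁻¹ ∈ (S : Subgroup G)) : g * x * g⁻¹ = x := by
  have hc := Helper85_Fusion.isCentral_center (groupFusionSystem (S : Subgroup G))
  have hxS : x ∈ (S : Subgroup G) := hc.1 hx
  have hP : Subgroup.zpowers x ≤ (S : Subgroup G) := (Subgroup.zpowers_le).2 hxS
  have hφ : conjHom (Subgroup.zpowers x) g ∈ (groupFusionSystem (S : Subgroup G)).Hom (Subgroup.zpowers x) := by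
    refine ⟨hP, fun y => ?_, g, fun y => rfl⟩
    obtain ⟨k, hk⟩ := Subgroup.mem_zpowers_iff.1 y.2
    show g * (y : G) * g⁻¹ ∈ (S : Subgroup G)
    rw [← hk, ← conj_zpow]
    exact Subgroup.zpow_mem _ hg k
  obtain ⟨ψ, -, hext, hfix⟩ := hc.2 _ _ hφ
  have h1 := hext ⟨x, Subgroup.mem_zpowers x⟩
  have h2 := hfix ⟨x, hx⟩
  have h3 : (Subgroup.inclusion le_sup_left (⟨x, Subgroup.mem_zpowers x⟩ : Subgroup.zpowers x) :
      ↥(Subgroup.zpowers x ⊔ (groupFusionSystem (S : Subgroup G)).center)) =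
      Subgroup.inclusion le_sup_right ⟨x, hx⟩ := Subtype.ext rfl
  rw [h3, h2] at h1
  exact h1.symm

/-- An isolated element of `S` all of whose conjugates lie in `S O(G)` is central modulo `O(G)`. -/
theorem comm_mem_core_of_isolated (S : Sylow 2 G) {x : G} (hxS : x ∈ (S : Subgroup G))
    (hiso : ∀ g : G, g * x * g⁻¹ ∈ (S : Subgroup G) → g * x * g⁻¹ = x)
    (h : ∀ g : G, g * x * g⁻¹ ∈ (S : Subgroup G) ⊔ pPrimeCore 2 G) (g : G) :
    g * x * g⁻¹ * x⁻¹ ∈ pPrimeCore 2 G := by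
  have hO := pPrimeCore_normal 2 G
  have hy2 : IsPGroup 2 (Subgroup.zpowers (g * x * g⁻¹)) := by
    have h1 : IsPGroup 2 ((Subgroup.zpowers x).map (MulAut.conj g).toMonoidHom) :=
      (S.2.to_le ((Subgroup.zpowers_le).2 hxS)).map _
    rwa [MonoidHom.map_zpowers] at h1
  obtain ⟨a, ha, hay⟩ := exists_core_conj_mem S (h g) hy2
  have h1 : (a * g) * x * (a * g)⁻¹ = a * (g * x * g⁻¹) * a⁻¹ := by group
  have h2 := hiso (a * g) (by rw [h1]; exact hay)
  rw [h1] at h2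
  have h3 : g * x * g⁻¹ = a⁻¹ * x * a := by
    calc g * x * g⁻¹ = a⁻¹ * (a * (g * x * g⁻¹) * a⁻¹) * a := by group
      _ = a⁻¹ * x * a := by rw [h2]
  rw [h3]
  have h4 : a⁻¹ * x * a * x⁻¹ = a⁻¹ * (x * a * x⁻¹) := by group
  rw [h4]
  exact Subgroup.mul_mem _ (Subgroup.inv_mem _ ha) (hO.conj_mem _ ha x)

/-! ### Normal subgroups with cyclic Sylow 2-subgroup -/

theorem mem_core_mul_of_cyclic (S : Sylow 2 G) (N : Subgroup G) [N.Normal]
    (hcyc : IsCyclic ↥((S : Subgroup G) ⊓ N)) {n : G} (hn : n ∈ N) :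
    ∃ a ∈ pPrimeCore 2 G, ∃ s ∈ (S : Subgroup G) ⊓ N, n = a * s := by
  have hP : ((Helper32_Sylow.sylowInfNormal S N : Sylow 2 N) : Subgroup N) =
      ((S : Subgroup G) ⊓ N).subgroupOf N := Helper32_Sylow.coe_sylowInfNormal S N
  have hPc : IsCyclic ↥((Helper32_Sylow.sylowInfNormal S N : Sylow 2 N) : Subgroup N) := by
    rw [hP]
    exact (Subgroup.subgroupOfEquivOfLe (inf_le_right : (S : Subgroup G) ⊓ N ≤ N)).isCyclic.2 hcyc
  obtain ⟨K, hKn, hKc, a, hKi⟩ := Helper55_DihedralNPC.hasNPC_of_isCyclic_sylow _ hPc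
  have hcomp := Helper35_FrobeniusNPC.isComplement'_of_npc hKc hKi (Helper32_Sylow.sylowInfNormal S N)
  obtain ⟨⟨k, s⟩, hks, -⟩ := hcomp.existsUnique ⟨n, hn⟩
  have hK1 : K ≤ pPrimeCore 2 ↥N := Helper1_Cores.le_pPrimeCore hKn hKc
  have hON : (pPrimeCore 2 ↥N).map N.subtype ≤ pPrimeCore 2 G := by
    apply Helper1_Cores.le_pPrimeCore
    · exact ConjAct.normal_of_characteristic_of_normal
    · rw [Subgroup.card_map_of_injective N.subtype_injective]
      exact Helper1_Cores.pPrimeCore_card_coprime 2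
  refine ⟨((k : N) : G), hON ⟨k, hK1 k.2, rfl⟩, ((s : N) : G), ?_, ?_⟩
  · have h1 : (s : N) ∈ ((Helper32_Sylow.sylowInfNormal S N : Sylow 2 N) : Subgroup N) := s.2
    have h2 : (s : N) ∈ ((S : Subgroup G) ⊓ N).subgroupOf N := hP ▸ h1
    exact Subgroup.mem_subgroupOf.1 h2
  · exact (congrArg Subtype.val hks).symm

/-! ### The centre lies in `Z*`, given the `Z*`-theorem -/

/-- Glauberman's `Z*`-theorem (for groups in the universe `u`), as a hypothesis. -/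
def ZStarHyp : Prop :=
  ∀ (H : Type u) [Group H] [Finite H] (P : Sylow 2 H) (u : H), orderOf u = 2 → u ∈ P →
    (∀ g : H, g * u * g⁻¹ ∈ P → g * u * g⁻¹ = u) →
    ∃ N : Subgroup H, N.Normal ∧ Odd (Nat.card N) ∧ ∀ g : H, u * g * u⁻¹ * g⁻¹ ∈ N

omit [Finite G] in
theorem isPGroup_zpowers_conj (S : Sylow 2 G) {x : G} (hxS : x ∈ (S : Subgroup G)) (g : G) :
    IsPGroup 2 (Subgroup.zpowers (g * x * g⁻¹)) := by
  have h1 : IsPGroup 2 ((Subgroup.zpowers x).map (MulAut.conj g).toMonoidHom) :=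
    (S.2.to_le ((Subgroup.zpowers_le).2 hxS)).map _
  rwa [MonoidHom.map_zpowers] at h1

theorem comm_mem_core_of_mem_center (hZ : ZStarHyp.{u}) (S : Sylow 2 G) :
    ∀ (n : ℕ) (x : G), orderOf x = n → x ∈ (groupFusionSystem (S : Subgroup G)).center →
      ∀ g : G, g * x * g⁻¹ * x⁻¹ ∈ pPrimeCore 2 G := by
  intro n
  induction n using Nat.strong_induction_on with
  | _ n ih =>
  intro x hxn hx g₀
  have hO := pPrimeCore_normal 2 G
  have hc := Helper85_Fusion.isCentral_center (groupFusionSystem (S : Subgroup G))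
  have hxS : x ∈ (S : Subgroup G) := hc.1 hx
  by_cases hx1 : x = 1
  · subst hx1
    simp
  obtain ⟨k, hk⟩ := S.2 ⟨x, hxS⟩
  have hord : orderOf x ∣ 2 ^ k := orderOf_dvd_of_pow_eq_one (congrArg Subtype.val hk)
  obtain ⟨j, -, hj⟩ := (Nat.dvd_prime_pow Nat.prime_two).1 hord
  have hj0 : j ≠ 0 := by
    rintro rfl
    rw [pow_zero] at hj
    exact hx1 (orderOf_eq_one_iff.1 hj)
  have h2dvd : 2 ∣ orderOf x := by
    rw [hj]
    exact dvd_pow_self 2 hj0
  have hx2 : x ^ 2 ∈ (groupFusionSystem (S : Subgroup G)).center := Subgroup.pow_mem _ hx 2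
  have hx2S : x ^ 2 ∈ (S : Subgroup G) := Subgroup.pow_mem _ hxS 2
  have hlt : orderOf (x ^ 2) < n := by
    rw [← hxn, orderOf_pow' x two_ne_zero, Nat.gcd_eq_right h2dvd]
    exact Nat.div_lt_self (orderOf_pos x) one_lt_two
  have hx2c := ih _ hlt (x ^ 2) rfl hx2
  -- the normal subgroup `M = ⟨x²⟩ O(G)`
  have hzN : Subgroup.zpowers (x ^ 2) ≤
      Subgroup.normalizer ((pPrimeCore 2 G : Subgroup G) : Set G) := by
    rw [Subgroup.normalizer_eq_top]
    exact le_top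
  have hMmem : ∀ y, y ∈ Subgroup.zpowers (x ^ 2) ⊔ pPrimeCore 2 G ↔
      ∃ z ∈ Subgroup.zpowers (x ^ 2), ∃ a ∈ pPrimeCore 2 G, y = z * a :=
    Helper87_ModT.mem_sup_iff_exists_mul hzN
  haveI hMn : (Subgroup.zpowers (x ^ 2) ⊔ pPrimeCore 2 G).Normal := by
    constructor
    intro y hy g
    obtain ⟨z, hz, a, ha, rfl⟩ := (hMmem y).1 hy
    have h1 : g * (z * a) * g⁻¹ = (g * z * g⁻¹) * (g * a * g⁻¹) := by group
    rw [h1]
    refine Subgroup.mul_mem _ ?_ (Subgroup.mem_sup_right (hO.conj_mem _ ha g))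
    obtain ⟨i, rfl⟩ := Subgroup.mem_zpowers_iff.1 hz
    rw [← conj_zpow]
    apply Subgroup.zpow_mem
    have h2 : g * x ^ 2 * g⁻¹ = (g * x ^ 2 * g⁻¹ * (x ^ 2)⁻¹) * x ^ 2 := by group
    rw [h2]
    exact Subgroup.mul_mem _ (Subgroup.mem_sup_right (hx2c g))
      (Subgroup.mem_sup_left (Subgroup.mem_zpowers _))
  have hMS : Subgroup.zpowers (x ^ 2) ⊔ pPrimeCore 2 G ≤ (S : Subgroup G) ⊔ pPrimeCore 2 G :=
    sup_le_sup_right ((Subgroup.zpowers_le).2 hx2S) _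
  have hMinf : ∀ s ∈ (S : Subgroup G), s ∈ Subgroup.zpowers (x ^ 2) ⊔ pPrimeCore 2 G →
      s ∈ Subgroup.zpowers (x ^ 2) := by
    intro s hs hsM
    obtain ⟨z, hz, a, ha, rfl⟩ := (hMmem s).1 hsM
    have hzS : z ∈ (S : Subgroup G) := ((Subgroup.zpowers_le).2 hx2S) hz
    have haS : a ∈ (S : Subgroup G) := by
      have : a = z⁻¹ * (z * a) := by group
      rw [this]
      exact Subgroup.mul_mem _ (Subgroup.inv_mem _ hzS) hs
    rw [eq_one_of_mem_of_mem_core S haS ha, mul_one]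
    exact hz
  have hxM : x ∉ Subgroup.zpowers (x ^ 2) ⊔ pPrimeCore 2 G := by
    intro h
    obtain ⟨i, hi⟩ := Subgroup.mem_zpowers_iff.1 (hMinf x hxS h)
    have h1 : x ^ (2 * i - 1) = 1 := by
      rw [zpow_sub_one, zpow_mul, zpow_ofNat, hi, mul_inv_cancel]
    have h3 : (orderOf x : ℤ) ∣ 2 * i - 1 := orderOf_dvd_iff_zpow_eq_one.2 h1
    have h4 : (2 : ℤ) ∣ 2 * i - 1 := (Int.natCast_dvd_natCast.2 h2dvd).trans h3
    omega
  -- the quotient
  have hπ : Function.Surjective (QuotientGroup.mk' (Subgroup.zpowers (x ^ 2) ⊔ pPrimeCore 2 G)) :=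
    QuotientGroup.mk'_surjective _
  have hSt : ((S.mapSurjective hπ : Sylow 2 (G ⧸ (Subgroup.zpowers (x ^ 2) ⊔ pPrimeCore 2 G))) :
      Subgroup (G ⧸ (Subgroup.zpowers (x ^ 2) ⊔ pPrimeCore 2 G))) =
      (S : Subgroup G).map (QuotientGroup.mk' (Subgroup.zpowers (x ^ 2) ⊔ pPrimeCore 2 G)) :=
    Sylow.coe_mapSurjective hπ S
  have hu2 : orderOf (QuotientGroup.mk' (Subgroup.zpowers (x ^ 2) ⊔ pPrimeCore 2 G) x) = 2 := by
    apply orderOf_eq_prime
    · rw [← map_pow]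
      exact (QuotientGroup.eq_one_iff _).2 (Subgroup.mem_sup_left (Subgroup.mem_zpowers _))
    · intro h
      exact hxM ((QuotientGroup.eq_one_iff _).1 h)
  have huS : QuotientGroup.mk' (Subgroup.zpowers (x ^ 2) ⊔ pPrimeCore 2 G) x ∈
      (S.mapSurjective hπ : Sylow 2 (G ⧸ (Subgroup.zpowers (x ^ 2) ⊔ pPrimeCore 2 G))) := by
    have h : QuotientGroup.mk' (Subgroup.zpowers (x ^ 2) ⊔ pPrimeCore 2 G) x ∈
        (S : Subgroup G).map (QuotientGroup.mk' (Subgroup.zpowers (x ^ 2) ⊔ pPrimeCore 2 G)) :=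
      Subgroup.mem_map_of_mem _ hxS
    rw [← hSt] at h
    exact h
  have hiso : ∀ g : G, g * x * g⁻¹ ∈ (S : Subgroup G) → g * x * g⁻¹ = x :=
    fun g hg => isolated_of_mem_center S hx hg
  have huiso : ∀ gt : G ⧸ (Subgroup.zpowers (x ^ 2) ⊔ pPrimeCore 2 G),
      gt * QuotientGroup.mk' _ x * gt⁻¹ ∈
        (S.mapSurjective hπ : Sylow 2 (G ⧸ (Subgroup.zpowers (x ^ 2) ⊔ pPrimeCore 2 G))) →
      gt * QuotientGroup.mk' _ x * gt⁻¹ = QuotientGroup.mk' _ x := by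
    intro gt hgt
    obtain ⟨g, rfl⟩ := hπ gt
    have hgt' : QuotientGroup.mk' (Subgroup.zpowers (x ^ 2) ⊔ pPrimeCore 2 G) (g * x * g⁻¹) ∈
        (S : Subgroup G).map (QuotientGroup.mk' (Subgroup.zpowers (x ^ 2) ⊔ pPrimeCore 2 G)) := by
      rw [← hSt, map_mul, map_mul, map_inv]
      exact hgt
    obtain ⟨s, hs, hsπ⟩ := hgt'
    have h1 : s⁻¹ * (g * x * g⁻¹) ∈ Subgroup.zpowers (x ^ 2) ⊔ pPrimeCore 2 G :=
      QuotientGroup.eq.1 hsπ
    have h2 : g * x * g⁻¹ ∈ (S : Subgroup G) ⊔ pPrimeCore 2 G := by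
      have : g * x * g⁻¹ = s * (s⁻¹ * (g * x * g⁻¹)) := by group
      rw [this]
      exact Subgroup.mul_mem _ (Subgroup.mem_sup_left hs) (hMS h1)
    obtain ⟨a, ha, hay⟩ := exists_core_conj_mem S h2 (isPGroup_zpowers_conj S hxS g)
    have h3 : (a * g) * x * (a * g)⁻¹ = a * (g * x * g⁻¹) * a⁻¹ := by group
    have h4 := hiso (a * g) (by rw [h3]; exact hay)
    rw [h3] at h4
    have hπa : QuotientGroup.mk' (Subgroup.zpowers (x ^ 2) ⊔ pPrimeCore 2 G) a = 1 :=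
      (QuotientGroup.eq_one_iff _).2 (Subgroup.mem_sup_right ha)
    have h5 := congrArg (QuotientGroup.mk' (Subgroup.zpowers (x ^ 2) ⊔ pPrimeCore 2 G)) h4
    rw [map_mul, map_mul, map_inv, hπa, one_mul, inv_one, mul_one, map_mul, map_mul, map_inv] at h5
    exact h5
  obtain ⟨Nt, hNtn, hNtodd, hNt⟩ := hZ _ (S.mapSurjective hπ) _ hu2 huS huiso
  haveI hNn : (Nt.comap (QuotientGroup.mk' (Subgroup.zpowers (x ^ 2) ⊔ pPrimeCore 2 G))).Normal :=
    hNtn.comap _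
  have hxgN : ∀ g : G, x * g * x⁻¹ * g⁻¹ ∈
      Nt.comap (QuotientGroup.mk' (Subgroup.zpowers (x ^ 2) ⊔ pPrimeCore 2 G)) := by
    intro g
    rw [Subgroup.mem_comap, map_mul, map_mul, map_mul, map_inv, map_inv]
    exact hNt _
  have hSN : (S : Subgroup G) ⊓
      Nt.comap (QuotientGroup.mk' (Subgroup.zpowers (x ^ 2) ⊔ pPrimeCore 2 G)) ≤
      Subgroup.zpowers (x ^ 2) := by
    rintro s ⟨hs, hsN⟩
    apply hMinf s hs
    rw [← QuotientGroup.eq_one_iff]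
    have h1 : orderOf (QuotientGroup.mk' (Subgroup.zpowers (x ^ 2) ⊔ pPrimeCore 2 G) s) ∣
        Nat.card Nt := Subgroup.orderOf_dvd_natCard _ hsN
    obtain ⟨k', hk'⟩ := S.2 ⟨s, hs⟩
    have h2 : orderOf (QuotientGroup.mk' (Subgroup.zpowers (x ^ 2) ⊔ pPrimeCore 2 G) s) ∣ 2 ^ k' :=
      (orderOf_map_dvd _ s).trans (orderOf_dvd_of_pow_eq_one (congrArg Subtype.val hk'))
    have hcop : (Nat.card Nt).Coprime (2 ^ k') := (Nat.coprime_two_right.2 hNtodd).pow_right k'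
    have h3 := Nat.dvd_gcd h1 h2
    rw [hcop] at h3
    exact orderOf_eq_one_iff.1 (Nat.dvd_one.1 h3)
  have hcyc : IsCyclic ↥((S : Subgroup G) ⊓
      Nt.comap (QuotientGroup.mk' (Subgroup.zpowers (x ^ 2) ⊔ pPrimeCore 2 G))) :=
    Subgroup.isCyclic_of_le hSN
  -- all conjugates of `x` lie in `S O(G)`
  have hall : ∀ g : G, g * x * g⁻¹ ∈ (S : Subgroup G) ⊔ pPrimeCore 2 G := by
    intro g
    obtain ⟨a, ha, s, hs, has⟩ := mem_core_mul_of_cyclic S _ hcyc (hxgN g)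
    have h1 : g * x * g⁻¹ = (x⁻¹ * (x * g * x⁻¹ * g⁻¹))⁻¹ := by group
    rw [h1, has]
    exact Subgroup.inv_mem _ (Subgroup.mul_mem _ (Subgroup.mem_sup_left (Subgroup.inv_mem _ hxS))
      (Subgroup.mul_mem _ (Subgroup.mem_sup_right ha) (Subgroup.mem_sup_left hs.1)))
  exact comm_mem_core_of_isolated S hxS hiso hall g₀

/-- The centre of the 2-fusion system of `G` is `S ∩ Z*(G)`, given the `Z*`-theorem. -/
theorem center_eq_of_zStarHyp (hZ : ZStarHyp.{u}) (S : Sylow 2 G) :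
    (groupFusionSystem (S : Subgroup G)).center = (S : Subgroup G) ⊓
      (Subgroup.center (G ⧸ oddCore G)).comap (QuotientGroup.mk' (oddCore G)) := by
  apply le_antisymm _ (zstar_le_center S)
  intro x hx
  exact ⟨(Helper85_Fusion.isCentral_center (groupFusionSystem (S : Subgroup G))).1 hx,
    (mem_zstar_iff x).2 (comm_mem_core_of_mem_center hZ S _ x rfl hx)⟩

end Cfsg.Agent.Lib.Helper85_ZStarFusion
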