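import Mathlib
import Cfsg.Prelude.Def_Solvable
import Cfsg.Agent.S0144
import Cfsg.Agent.Lib.Helper75_SolvStep

/-!
Groups without nontrivial normal `2`-subgroups and without nontrivial normal subgroups of odd order:
transport along isomorphisms, the form for subgroups of an ambient group, and the existence of
elements of order five or seven in such subgroups of the alternating group of degree eight.
-/

set_option autoImplicit false

namespace Cfsg.Agent.Lib.Helper86_A8Core

open Equiv

/-- no nontrivial normal `2`-subgroup and no nontrivial normal subgroup of odd order -/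
def CF (G : Type*) [Group G] : Prop :=
  ∀ N : Subgroup G, N.Normal → (IsPGroup 2 N ∨ (Nat.card N).Coprime 2) → N = ⊥

theorem cf_of_cores {G : Type*} [Group G] (h1 : Cfsg.pPrimeCore 2 G = ⊥)
    (h2 : Cfsg.pCore 2 G = ⊥) : CF G := by
  intro N hN h
  rw [eq_bot_iff]
  rcases h with h | h
  · rw [← h2]
    exact le_sSup ⟨hN, h⟩
  · rw [← h1]
    exact le_sSup ⟨hN, h⟩

theorem CF.of_equiv {G G' : Type*} [Group G] [Group G'] (e : G ≃* G') (h : CF G) : CF G' := by
  intro N hN hc
  have hN' : (N.comap (e : G →* G')).Normal := hN.comap _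
  have hmap : (N.comap (e : G →* G')).map (e : G →* G') = N :=
    Subgroup.map_comap_eq_self_of_surjective e.surjective N
  have e' : ↥(N.comap (e : G →* G')) ≃* ↥N :=
    (e.subgroupMap (N.comap (e : G →* G'))).trans (MulEquiv.subgroupCongr hmap)
  have h1 := h (N.comap (e : G →* G')) hN' (by
    rcases hc with hc | hc
    · left
      exact hc.of_equiv e'.symm
    · right
      rwa [Nat.card_congr e'.toEquiv])
  rw [eq_bot_iff] at h1 ⊢
  intro x hx
  have : e.symm x ∈ N.comap (e : G →* G') := by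
    simpa using hx
  have h2 := h1 this
  rw [Subgroup.mem_bot] at h2 ⊢
  simpa using h2

/-- the form for a subgroup of an ambient group -/
theorem CF.sub {P : Type*} [Group P] {H : Subgroup P} (h : CF H) (N : Subgroup P) (hNH : N ≤ H)
    (hn : ∀ x ∈ H, ∀ n ∈ N, x * n * x⁻¹ ∈ N)
    (hN : IsPGroup 2 N ∨ (Nat.card N).Coprime 2) : N = ⊥ := by
  have hnorm : (N.subgroupOf H).Normal := by
    constructor
    intro n hn' x
    rw [Subgroup.mem_subgroupOf] at hn' ⊢
    exact hn x x.2 n hn'
  have e : ↥(N.subgroupOf H) ≃* ↥N := Subgroup.subgroupOfEquivOfLe hNH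
  have h1 := h (N.subgroupOf H) hnorm (by
    rcases hN with hc | hc
    · left
      exact hc.of_equiv e.symm
    · right
      rwa [Nat.card_congr e.toEquiv])
  rw [Subgroup.subgroupOf_eq_bot] at h1
  rw [eq_bot_iff]
  intro x hx
  have : x ∈ N ⊓ H := ⟨hx, hNH hx⟩
  exact h1.le_bot this |> fun h => by simpa using h

theorem card_alt8 : Nat.card (alternatingGroup (Fin 8)) = 20160 := by
  have h := two_mul_card_alternatingGroup (α := Fin 8)
  rw [Nat.card_eq_fintype_card]
  rw [Fintype.card_perm, Fintype.card_fin] at h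
  have : Nat.factorial 8 = 40320 := by decide
  omega

theorem eq_two_pow_mul_three_pow {n : ℕ} (h : n ∣ 576) : ∃ a b : ℕ, n = 2 ^ a * 3 ^ b := by
  have e : 576 = 2 ^ 6 * 3 ^ 2 := by norm_num
  rw [e] at h
  obtain ⟨x, y, hx, hy, rfl⟩ := (Nat.dvd_mul).1 h
  obtain ⟨a, -, rfl⟩ := (Nat.dvd_prime_pow Nat.prime_two).1 hx
  obtain ⟨b, -, rfl⟩ := (Nat.dvd_prime_pow Nat.prime_three).1 hy
  exact ⟨a, b, rfl⟩

/-- a nontrivial subgroup of the alternating group of degree eight without nontrivial normal
`2`-subgroups and without nontrivial normal subgroups of odd order has an element of order five or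
seven -/
theorem exists_order_five_or_seven {H : Subgroup (Perm (Fin 8))}
    (hH : H ≤ alternatingGroup (Fin 8)) (hne : H ≠ ⊥) (hcf : CF H) :
    ∃ g ∈ H, orderOf g = 5 ∨ orderOf g = 7 := by
  by_contra hno
  push Not at hno
  have hcard : Nat.card H ∣ 20160 := card_alt8 ▸ Subgroup.card_dvd_of_le hH
  have h5 : ¬ 5 ∣ Nat.card H := by
    intro h
    have : Fact (Nat.Prime 5) := ⟨by norm_num⟩
    obtain ⟨g, hg⟩ := exists_prime_orderOf_dvd_card' 5 h
    exact (hno g.1 g.2).1 (by rw [← hg, Subgroup.orderOf_coe])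
  have h7 : ¬ 7 ∣ Nat.card H := by
    intro h
    have : Fact (Nat.Prime 7) := ⟨by norm_num⟩
    obtain ⟨g, hg⟩ := exists_prime_orderOf_dvd_card' 7 h
    exact (hno g.1 g.2).2 (by rw [← hg, Subgroup.orderOf_coe])
  have h576 : Nat.card H ∣ 576 := by
    have hc : Nat.Coprime (Nat.card H) 35 := by
      have e : 35 = 5 * 7 := by norm_num
      rw [e]
      apply Nat.Coprime.mul_right
      · exact (Nat.Coprime.symm ((Nat.Prime.coprime_iff_not_dvd (by norm_num)).2 h5))
      · exact (Nat.Coprime.symm ((Nat.Prime.coprime_iff_not_dvd (by norm_num)).2 h7))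
    have e : 20160 = 576 * 35 := by norm_num
    rw [e] at hcard
    exact hc.dvd_of_dvd_mul_right hcard
  obtain ⟨a, b, hab⟩ := eq_two_pow_mul_three_pow h576
  have : Group.IsSolvable H := Cfsg.Agent.S0144.result 2 3 a b Nat.prime_two Nat.prime_three hab
  have : Nontrivial H := (Subgroup.nontrivial_iff_ne_bot H).2 hne
  obtain ⟨p, hp, R, hRn, hRp, hRne⟩ := Cfsg.Agent.Lib.Helper75_SolvStep.exists_normal_pgroup H
  apply hRne
  apply hcf R hRn
  by_cases h2 : p = 2
  · left
    rw [← h2]
    exact hRp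
  · right
    have : Fact p.Prime := ⟨hp⟩
    obtain ⟨k, hk⟩ := hRp.exists_card_eq
    rw [hk]
    apply Nat.Coprime.pow_left
    exact (Nat.coprime_primes hp Nat.prime_two).2 h2

/-- move an element with the cycle type of `c` to `c` -/
theorem exists_conj_subgroup {H : Subgroup (Perm (Fin 8))} (hH : H ≤ alternatingGroup (Fin 8))
    {g : Perm (Fin 8)} (hg : g ∈ H) (c : Perm (Fin 8)) (hc : c.cycleType = g.cycleType) :
    ∃ H' : Subgroup (Perm (Fin 8)), H' ≤ alternatingGroup (Fin 8) ∧ c ∈ H' ∧
      Nonempty (H ≃* H') := by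
  obtain ⟨β, hβ⟩ := isConj_iff.1 (Equiv.Perm.isConj_iff_cycleType_eq.2 hc.symm)
  refine ⟨H.map (MulAut.conj β).toMonoidHom, ?_, ?_, ⟨?_⟩⟩
  · rintro x ⟨y, hy, rfl⟩
    have : y ∈ alternatingGroup (Fin 8) := hH hy
    simpa using (inferInstance : (alternatingGroup (Fin 8)).Normal).conj_mem y this β
  · refine ⟨g, hg, ?_⟩
    simpa using hβ
  · exact H.equivMapOfInjective _ (MulAut.conj β).injective

theorem cycleType_of_orderOf_eq {p : ℕ} (hp : p.Prime) (h8 : 8 < 2 * p) {g : Perm (Fin 8)}
    (hg : orderOf g = p) : g.cycleType = {p} := by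
  have hp' : (orderOf g).Prime := hg ▸ hp
  obtain ⟨n, hn⟩ := Equiv.Perm.cycleType_prime_order hp'
  have hs := Equiv.Perm.sum_cycleType g
  have hle : g.support.card ≤ 8 := by
    simpa using Finset.card_le_univ g.support
  rw [hn, hg] at hs
  rw [hn, hg]
  have : n = 0 := by
    by_contra h0
    have h1 : 2 ≤ n + 1 := by omega
    rw [Multiset.sum_replicate, smul_eq_mul] at hs
    have : 2 * p ≤ (n + 1) * p := Nat.mul_le_mul_right p h1
    omega
  subst this
  simp

end Cfsg.Agent.Lib.Helper86_A8Core
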