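import Mathlib

/-!
Permutations of eight points packed into natural numbers (three bits per point), a binary trie for
sets of such numbers, and a breadth first enumeration of the subgroup generated by a list of packed
permutations, with the lemmas that connect these computations with `Equiv.Perm (Fin 8)`.
-/

set_option autoImplicit false
set_option linter.unusedSimpArgs false

namespace Cfsg.Agent.Lib.Helper86_PackPerm

/-! ### Packed permutations -/

/-- digit `i` (base eight) of `p` -/
def pget (p i : ℕ) : ℕ := p / 8 ^ i % 8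

/-- the packed product: `(a * b) i = a (b i)` -/
def pmul (a b : ℕ) : ℕ :=
  pget a (pget b 0) + 8 * pget a (pget b 1) + 8 ^ 2 * pget a (pget b 2) +
    8 ^ 3 * pget a (pget b 3) + 8 ^ 4 * pget a (pget b 4) + 8 ^ 5 * pget a (pget b 5) +
    8 ^ 6 * pget a (pget b 6) + 8 ^ 7 * pget a (pget b 7)

/-- the packed inverse -/
def pinv (p : ℕ) : ℕ :=
  0 * 8 ^ pget p 0 + 1 * 8 ^ pget p 1 + 2 * 8 ^ pget p 2 + 3 * 8 ^ pget p 3 +
    4 * 8 ^ pget p 4 + 5 * 8 ^ pget p 5 + 6 * 8 ^ pget p 6 + 7 * 8 ^ pget p 7

/-- the packed identity -/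
def pid : ℕ := 0o76543210

/-- the number of a permutation -/
def pack (σ : Equiv.Perm (Fin 8)) : ℕ :=
  (σ 0).val + 8 * (σ 1).val + 8 ^ 2 * (σ 2).val + 8 ^ 3 * (σ 3).val + 8 ^ 4 * (σ 4).val +
    8 ^ 5 * (σ 5).val + 8 ^ 6 * (σ 6).val + 8 ^ 7 * (σ 7).val

theorem pget_lt (p i : ℕ) : pget p i < 8 := Nat.mod_lt _ (by norm_num)

theorem pack_lt (σ : Equiv.Perm (Fin 8)) : pack σ < 8 ^ 8 := by
  unfold pack
  have h0 := (σ 0).isLt
  have h1 := (σ 1).isLt
  have h2 := (σ 2).isLt
  have h3 := (σ 3).isLt
  have h4 := (σ 4).isLt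
  have h5 := (σ 5).isLt
  have h6 := (σ 6).isLt
  have h7 := (σ 7).isLt
  omega

theorem pmul_lt (a b : ℕ) : pmul a b < 8 ^ 8 := by
  unfold pmul
  have h0 := pget_lt a (pget b 0)
  have h1 := pget_lt a (pget b 1)
  have h2 := pget_lt a (pget b 2)
  have h3 := pget_lt a (pget b 3)
  have h4 := pget_lt a (pget b 4)
  have h5 := pget_lt a (pget b 5)
  have h6 := pget_lt a (pget b 6)
  have h7 := pget_lt a (pget b 7)
  omega

theorem pget_pack (σ : Equiv.Perm (Fin 8)) (i : Fin 8) : pget (pack σ) i.val = (σ i).val := by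
  have h0 := (σ 0).isLt
  have h1 := (σ 1).isLt
  have h2 := (σ 2).isLt
  have h3 := (σ 3).isLt
  have h4 := (σ 4).isLt
  have h5 := (σ 5).isLt
  have h6 := (σ 6).isLt
  have h7 := (σ 7).isLt
  unfold pget pack
  fin_cases i <;> simp only [Fin.zero_eta, Fin.mk_one, Fin.reduceFinMk, Fin.isValue, Fin.val_zero,
    Fin.val_one, Fin.val_two, Fin.coe_ofNat_eq_mod, Nat.reduceMod, Nat.reducePow, pow_zero,
    pow_one] <;> omega

theorem pack_injective : Function.Injective pack := by
  intro σ τ h
  ext i
  rw [← pget_pack σ i, ← pget_pack τ i, h]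

theorem pack_mul (σ τ : Equiv.Perm (Fin 8)) : pack (σ * τ) = pmul (pack σ) (pack τ) := by
  unfold pmul
  have e (i : Fin 8) : pget (pack σ) (pget (pack τ) i.val) = ((σ * τ) i).val := by
    rw [pget_pack τ i, pget_pack σ (τ i)]
    rfl
  have e0 := e 0
  have e1 := e 1
  have e2 := e 2
  have e3 := e 3
  have e4 := e 4
  have e5 := e 5
  have e6 := e 6
  have e7 := e 7
  simp only [Fin.isValue, Fin.val_zero, Fin.val_one, Fin.val_two, Fin.coe_ofNat_eq_mod,
    Nat.reduceMod] at e0 e1 e2 e3 e4 e5 e6 e7
  rw [e0, e1, e2, e3, e4, e5, e6, e7]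
  rfl

theorem pack_one : pack 1 = pid := by decide


theorem pack_eq_sum (σ : Equiv.Perm (Fin 8)) : pack σ = ∑ i : Fin 8, (σ i).val * 8 ^ i.val := by
  rw [Fin.sum_univ_eight]
  unfold pack
  simp only [Fin.isValue, Fin.val_zero, Fin.val_one, Fin.val_two, Fin.coe_ofNat_eq_mod,
    Nat.reduceMod, pow_zero, pow_one, mul_one]
  ring

theorem pack_inv (σ : Equiv.Perm (Fin 8)) : pack σ⁻¹ = pinv (pack σ) := by
  have e : pinv (pack σ) = ∑ i : Fin 8, i.val * 8 ^ (σ i).val := by
    rw [Fin.sum_univ_eight]
    unfold pinv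
    have e (i : Fin 8) := pget_pack σ i
    have e0 := e 0
    have e1 := e 1
    have e2 := e 2
    have e3 := e 3
    have e4 := e 4
    have e5 := e 5
    have e6 := e 6
    have e7 := e 7
    simp only [Fin.isValue, Fin.val_zero, Fin.val_one, Fin.val_two, Fin.coe_ofNat_eq_mod,
      Nat.reduceMod] at e0 e1 e2 e3 e4 e5 e6 e7
    rw [e0, e1, e2, e3, e4, e5, e6, e7]
    rfl
  rw [e, pack_eq_sum]
  rw [← Equiv.sum_comp σ (fun j => ((σ⁻¹ j : Fin 8) : ℕ) * 8 ^ (j : ℕ))]
  simp

/-- `p` is the number of a permutation -/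
def pvalid (p : ℕ) : Bool :=
  decide (p < 8 ^ 8) &&
    (List.range 8).all fun i => (List.range 8).all fun j => (i == j) || (pget p i != pget p j)

theorem exists_of_pvalid {p : ℕ} (h : pvalid p = true) : ∃ σ : Equiv.Perm (Fin 8), pack σ = p := by
  unfold pvalid at h
  rw [Bool.and_eq_true, decide_eq_true_eq] at h
  obtain ⟨hlt, hd⟩ := h
  let f : Fin 8 → Fin 8 := fun i => ⟨pget p i.val, pget_lt _ _⟩
  have hf : Function.Injective f := by
    intro i j hij
    have h1 : pget p i.val = pget p j.val := congrArg Fin.val hij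
    rw [List.all_eq_true] at hd
    have h2 := hd i.val (List.mem_range.mpr i.isLt)
    rw [List.all_eq_true] at h2
    have h3 := h2 j.val (List.mem_range.mpr j.isLt)
    rw [Bool.or_eq_true] at h3
    rcases h3 with h3 | h3
    · exact Fin.ext (by simpa using h3)
    · rw [h1] at h3
      simp at h3
  refine ⟨Equiv.ofBijective f ⟨hf, Finite.surjective_of_injective hf⟩, ?_⟩
  unfold pack
  simp only [Equiv.ofBijective_apply, f, pget, Fin.isValue, Fin.val_zero, Fin.val_one, Fin.val_two,
    Fin.coe_ofNat_eq_mod, Nat.reduceMod, Nat.reducePow, pow_zero, pow_one, Nat.div_one]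
  omega

/-! ### A binary trie on the 24 low bits -/

inductive BT where
  | nil : BT
  | leaf : BT
  | node : BT → BT → BT

namespace BT

/-- the two children (empty for a non-node) -/
def left : BT → BT
  | node l _ => l
  | _ => nil

def right : BT → BT
  | node _ r => r
  | _ => nil

/-- insert the `d` low bits of `k` -/
def ins : ℕ → ℕ → BT → BT
  | 0, _, _ => leaf
  | d + 1, k, t =>
    bif Nat.beq (k % 2) 0 then node (ins d (k / 2) t.left) t.right
    else node t.left (ins d (k / 2) t.right)

/-- membership of the `d` low bits of `k` -/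
def has : ℕ → ℕ → BT → Bool
  | 0, _, leaf => true
  | 0, _, _ => false
  | d + 1, k, t => bif Nat.beq (k % 2) 0 then has d (k / 2) t.left else has d (k / 2) t.right

theorem has_nil (d k : ℕ) : has d k nil = false := by
  induction d generalizing k with
  | zero => rfl
  | succ d ih =>
    unfold has
    cases Nat.beq (k % 2) 0 <;> simp [left, right, ih]

theorem has_ins {d k x : ℕ} {t : BT} (h : has d x (ins d k t) = true) :
    x % 2 ^ d = k % 2 ^ d ∨ has d x t = true := by
  induction d generalizing k x t with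
  | zero => left; simp [Nat.mod_one]
  | succ d ih =>
    unfold ins at h
    unfold has at h
    rw [pow_succ', Nat.mod_mul (x := x), Nat.mod_mul (x := k)]
    cases hk : Nat.beq (k % 2) 0 <;> cases hx : Nat.beq (x % 2) 0 <;>
      simp only [hk, hx, cond_true, cond_false, left, right] at h
    · -- k odd, x odd
      have hk' : k % 2 ≠ 0 := fun e => by rw [e] at hk; exact Bool.noConfusion hk
      have hx' : x % 2 ≠ 0 := fun e => by rw [e] at hx; exact Bool.noConfusion hx
      rcases ih h with h1 | h1
      · left; rw [h1]; omega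
      · right; unfold has; rw [hx]; exact h1
    · right; unfold has; rw [hx]; exact h
    · right; unfold has; rw [hx]; exact h
    · have hk' : k % 2 = 0 := Nat.eq_of_beq_eq_true hk
      have hx' : x % 2 = 0 := Nat.eq_of_beq_eq_true hx
      rcases ih h with h1 | h1
      · left; rw [h1, hk', hx']
      · right; unfold has; rw [hx]; exact h1

/-- the trie of a list -/
def ofList (l : List ℕ) : BT := l.foldl (fun t k => ins 24 k t) nil

theorem has_foldl {l : List ℕ} {t : BT} {x : ℕ}
    (h : has 24 x (l.foldl (fun t k => ins 24 k t) t) = true) :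
    (∃ k ∈ l, x % 2 ^ 24 = k % 2 ^ 24) ∨ has 24 x t = true := by
  induction l generalizing t with
  | nil => right; exact h
  | cons a l ih =>
    rw [List.foldl_cons] at h
    rcases ih h with ⟨k, hk, e⟩ | h1
    · left; exact ⟨k, List.mem_cons_of_mem _ hk, e⟩
    · rcases has_ins h1 with e | h2
      · left; exact ⟨a, List.mem_cons_self, e⟩
      · right; exact h2

theorem mem_of_has {l : List ℕ} {x : ℕ} (hl : ∀ k ∈ l, k < 8 ^ 8) (hx : x < 8 ^ 8)
    (h : has 24 x (ofList l) = true) : x ∈ l := by
  rcases has_foldl h with ⟨k, hk, e⟩ | h1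
  · have := hl k hk
    have e8 : (8 : ℕ) ^ 8 = 2 ^ 24 := by norm_num
    rw [e8] at this hx
    rw [Nat.mod_eq_of_lt hx, Nat.mod_eq_of_lt this] at e
    rw [e]; exact hk
  · rw [has_nil] at h1; exact Bool.noConfusion h1

end BT


/-! ### Strict evaluation (for the kernel) and breadth first enumeration -/

/-- evaluate the argument before passing it on (for the kernel) -/
def forceN {α : Sort*} (n : ℕ) (f : ℕ → α) : α :=
  Nat.rec (motive := fun _ => α) (f 0) (fun k _ => f (Nat.succ k)) n

theorem forceN_eq {α : Sort*} (n : ℕ) (f : ℕ → α) : forceN n f = f n := by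
  cases n <;> rfl

namespace BT

/-- evaluate the tree to a constructor before passing it on -/
noncomputable def forceT {α : Sort*} (t : BT) (f : BT → α) : α :=
  BT.rec (motive := fun _ => α) (f nil) (f leaf) (fun l r _ _ => f (node l r)) t

theorem forceT_eq {α : Sort*} (t : BT) (f : BT → α) : forceT t f = f t := by
  cases t <;> rfl

/-- insertion, evaluated along the path -/
noncomputable def insS : ℕ → ℕ → BT → BT :=
  Nat.rec (motive := fun _ => ℕ → BT → BT) (fun _ _ => leaf)
    (fun _ ih k t =>
      forceT t.left fun tl => forceT t.right fun tr =>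
        bif Nat.beq (k % 2) 0 then forceT (ih (k / 2) tl) fun l' => node l' tr
        else forceT (ih (k / 2) tr) fun r' => node tl r')

theorem insS_eq (d k : ℕ) (t : BT) : insS d k t = ins d k t := by
  induction d generalizing k t with
  | zero => rfl
  | succ d ih =>
    have e : insS (d + 1) k t = forceT t.left fun tl => forceT t.right fun tr =>
        bif Nat.beq (k % 2) 0 then forceT (insS d (k / 2) tl) fun l' => node l' tr
        else forceT (insS d (k / 2) tr) fun r' => node tl r' := rfl
    rw [e]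
    simp only [forceT_eq, ih]
    rfl

/-- membership, by the recursors -/
noncomputable def hasR : ℕ → ℕ → BT → Bool :=
  Nat.rec (motive := fun _ => ℕ → BT → Bool)
    (fun _ t => BT.rec (motive := fun _ => Bool) false true (fun _ _ _ _ => false) t)
    (fun _ ih k t => bif Nat.beq (k % 2) 0 then ih (k / 2) t.left else ih (k / 2) t.right)

theorem hasR_eq (d k : ℕ) (t : BT) : hasR d k t = has d k t := by
  induction d generalizing k t with
  | zero => cases t <;> rfl
  | succ d ih =>
    have e : hasR (d + 1) k t =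
        bif Nat.beq (k % 2) 0 then hasR d (k / 2) t.left else hasR d (k / 2) t.right := rfl
    rw [e, ih, ih]
    rfl

end BT

/-! ### Conjunctions over an initial segment, words -/

/-- conjunction of `f 0, …, f (n-1)` -/
def allF (f : ℕ → Bool) (n : ℕ) : Bool :=
  Nat.rec (motive := fun _ => Bool) true (fun k acc => f k && acc) n

theorem allF_succ (f : ℕ → Bool) (n : ℕ) : allF f (n + 1) = (f n && allF f n) := rfl

theorem allF_eq_true (f : ℕ → Bool) (n : ℕ) : allF f n = true ↔ ∀ k < n, f k = true := by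
  induction n with
  | zero => simp [allF]
  | succ n ih =>
    rw [allF_succ, Bool.and_eq_true, ih]
    constructor
    · rintro ⟨h1, h2⟩ k hk
      rcases Nat.lt_succ_iff_lt_or_eq.mp hk with h | rfl
      · exact h2 k h
      · exact h1
    · intro h
      exact ⟨h n (Nat.lt_succ_self n), fun k hk => h k (Nat.lt_succ_of_lt hk)⟩

/-- evaluation of a word: the letters are the base sixteen digits of `w`, the first one is applied
first (it is the rightmost factor) -/
def evwA (LL : List ℕ) (len : ℕ) : ℕ → ℕ → ℕ :=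
  Nat.rec (motive := fun _ => ℕ → ℕ → ℕ) (fun _ acc => acc)
    (fun _ ih w acc => forceN (pmul (LL.getD (w % 16) pid) acc) fun acc' => ih (w / 16) acc') len

theorem evwA_succ (LL : List ℕ) (len w acc : ℕ) :
    evwA LL (len + 1) w acc = evwA LL len (w / 16) (pmul (LL.getD (w % 16) pid) acc) := by
  have e : evwA LL (len + 1) w acc =
      forceN (pmul (LL.getD (w % 16) pid) acc) fun acc' => evwA LL len (w / 16) acc' := rfl
  rw [e, forceN_eq]

/-- the value of the word `w` of length `len` -/
def evw (LL : List ℕ) (w len : ℕ) : ℕ := evwA LL len w pid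

/-- all letters are numbers of elements of `C` -/
def LettersIn (C : Subgroup (Equiv.Perm (Fin 8))) (LL : List ℕ) : Prop :=
  ∀ c : ℕ, ∃ σ ∈ C, pack σ = LL.getD c pid

theorem evwA_mem {C : Subgroup (Equiv.Perm (Fin 8))} {LL : List ℕ} (h : LettersIn C LL)
    (len w acc : ℕ) (hacc : ∃ σ ∈ C, pack σ = acc) : ∃ σ ∈ C, pack σ = evwA LL len w acc := by
  induction len generalizing w acc with
  | zero => exact hacc
  | succ n ih =>
    rw [evwA_succ]
    apply ih
    obtain ⟨σ, hσ, e⟩ := hacc
    obtain ⟨τ, hτ, e'⟩ := h (w % 16)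
    exact ⟨τ * σ, C.mul_mem hτ hσ, by rw [pack_mul, e, e']⟩

theorem evw_mem {C : Subgroup (Equiv.Perm (Fin 8))} {LL : List ℕ} (h : LettersIn C LL)
    (w len : ℕ) : ∃ σ ∈ C, pack σ = evw LL w len :=
  evwA_mem h len w pid ⟨1, C.one_mem, pack_one⟩

theorem lettersIn_nil (C : Subgroup (Equiv.Perm (Fin 8))) : LettersIn C [] :=
  fun _ => ⟨1, C.one_mem, by simp [pack_one]⟩

theorem lettersIn_cons {C : Subgroup (Equiv.Perm (Fin 8))} {LL : List ℕ} {x : ℕ}
    (hx : ∃ σ ∈ C, pack σ = x) (h : LettersIn C LL) : LettersIn C (x :: LL) := by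
  intro c
  cases c with
  | zero => simpa using hx
  | succ c => simpa using h c

theorem lettersIn_append {C : Subgroup (Equiv.Perm (Fin 8))} {L1 L2 : List ℕ}
    (h1 : LettersIn C L1) (h2 : LettersIn C L2) : LettersIn C (L1 ++ L2) := by
  induction L1 with
  | nil => simpa using h2
  | cons x L ih =>
    rw [List.cons_append]
    apply lettersIn_cons
    · simpa using h1 0
    · apply ih
      intro c
      simpa using h1 (c + 1)

theorem lettersIn_mono {C D : Subgroup (Equiv.Perm (Fin 8))} (hCD : C ≤ D) {LL : List ℕ}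
    (h : LettersIn C LL) : LettersIn D LL := fun c => by
  obtain ⟨σ, hσ, e⟩ := h c
  exact ⟨σ, hCD hσ, e⟩

end Cfsg.Agent.Lib.Helper86_PackPerm
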