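import Mathlib
import Cfsg.Agent.Lib.Helper86_PackPerm

/-!
A verified description of a family of subgroups of the alternating group of degree eight that
contains, with every member `K` and every even permutation `g` outside `K`, a larger member inside
the subgroup generated by `K` and `g`: every subgroup of the alternating group that contains the
smallest member is then a member.  The data are transversals, coset tables (with the correcting
elements written as words in the generators) and, for every nontrivial coset representative, words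
for the generators of a larger member.
-/

set_option autoImplicit false

namespace Cfsg.Agent.Lib.Helper86_A8Lat

open Cfsg.Agent.Lib.Helper86_PackPerm

/-- the permutations whose numbers are in the list -/
def genSet (S : List ℕ) : Set (Equiv.Perm (Fin 8)) := {σ | pack σ ∈ S}

/-- the subgroup generated by the permutations whose numbers are in the list -/
def Kgrp (S : List ℕ) : Subgroup (Equiv.Perm (Fin 8)) := Subgroup.closure (genSet S)

/-- the generators of a list of letters `[s₀, s₀⁻¹, s₁, s₁⁻¹, …]` -/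
def evens : List ℕ → List ℕ
  | s :: _ :: l => s :: evens l
  | _ => []

/-- the list of letters consists of numbers of permutations and of their inverses -/
def lettersOK : List ℕ → Bool
  | s :: s' :: l => pvalid s && pvalid s' && (pmul s s' == pid) && lettersOK l
  | [] => true
  | [_] => false

theorem genSet_mono {S T : List ℕ} (h : ∀ x ∈ S, x ∈ T) : Kgrp S ≤ Kgrp T :=
  Subgroup.closure_mono fun _ hσ => h _ hσ

theorem lettersIn_of_lettersOK {LL : List ℕ} (h : lettersOK LL = true) :
    LettersIn (Kgrp (evens LL)) LL := by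
  induction LL using lettersOK.induct with
  | case1 s s' l ih =>
    unfold lettersOK at h
    simp only [Bool.and_eq_true, beq_iff_eq] at h
    obtain ⟨⟨⟨h1, h2⟩, h3⟩, h4⟩ := h
    obtain ⟨σ, e⟩ := exists_of_pvalid h1
    obtain ⟨τ, e'⟩ := exists_of_pvalid h2
    have hσ : σ ∈ Kgrp (evens (s :: s' :: l)) :=
      Subgroup.subset_closure (by simp [genSet, evens, e])
    have hτ : τ = σ⁻¹ := by
      have : σ * τ = 1 := pack_injective (by rw [pack_mul, e, e', h3, pack_one])
      exact (eq_inv_of_mul_eq_one_right this)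
    apply lettersIn_cons ⟨σ, hσ, e⟩
    apply lettersIn_cons ⟨τ, hτ ▸ (Kgrp _).inv_mem hσ, e'⟩
    exact lettersIn_mono (genSet_mono fun x hx => by simp [evens, hx]) (ih h4)
  | case2 => exact lettersIn_nil _
  | case3 x => simp [lettersOK] at h

/-- entry `k` of a packed table of entries of `W` bits -/
def ent (X W k : ℕ) : ℕ := (X >>> (W * k)) % 2 ^ W

/-- the data of a family of subgroups -/
structure Lat where
  /-- the number of subgroups -/
  n : ℕ
  /-- the letters (generators and their inverses) of each subgroup -/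
  SL : ℕ → List ℕ
  /-- weights, increasing along the certificates -/
  wt : ℕ → ℕ
  /-- letters of the ambient group -/
  aL : List ℕ
  /-- the number of cosets -/
  nR : ℕ → ℕ
  /-- the packed transversals, 24 bits per entry -/
  R : ℕ → ℕ
  /-- the greatest length of a word of the coset table -/
  Lc : ℕ → ℕ
  /-- the packed coset tables -/
  C : ℕ → ℕ
  /-- the greatest length of a word of the certificates -/
  Lt : ℕ → ℕ
  /-- the packed certificates -/
  T : ℕ → ℕ

namespace Lat

variable (L : Lat)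

/-- entry `t` of a transversal -/
def rget (R t : ℕ) : ℕ := (R >>> (24 * t)) % 16777216

/-- the generators of subgroup `i` -/
def S (i : ℕ) : List ℕ := evens (L.SL i)

/-- the subgroup `i` -/
def K (i : ℕ) : Subgroup (Equiv.Perm (Fin 8)) := Kgrp (L.S i)

/-- the ambient group -/
def A : Subgroup (Equiv.Perm (Fin 8)) := Kgrp (evens L.aL)

/-- the letters are valid -/
def lettersChk : Bool :=
  lettersOK L.aL && decide ((evens L.aL).length ≤ 2) && allF (fun i => lettersOK (L.SL i)) L.n

/-- the transversal of subgroup `i` consists of numbers of permutations and starts with the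
identity -/
def transvChk (i : ℕ) : Bool :=
  decide (0 < L.nR i) && (rget (L.R i) 0 == pid) && allF (fun t => pvalid (rget (L.R i) t)) (L.nR i)

/-- the coset table of subgroup `i`: entry `2 t + j` says `r_t a_j = k r_t'` with `k` a word -/
def ctabChk (i : ℕ) : Bool :=
  allF (fun k =>
    forceN (ent (L.C i) (24 + 4 * L.Lc i) k) fun e =>
      (e % 65536 < L.nR i) &&
        (pmul (rget (L.R i) (k / 2)) ((evens L.aL).getD (k % 2) pid) ==
          pmul (evw (L.SL i) (e >>> 24) ((e >>> 16) % 256)) (rget (L.R i) (e % 65536))))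
    (2 * L.nR i)

/-- word number `u` of a certificate -/
def wordChk (LL : List ℕ) (Lt e u : ℕ) (tgt : List ℕ) : Bool :=
  (tgt.length ≤ u) ||
    (evw LL (e >>> (8 + (8 + 4 * Lt) * u + 8)) ((e >>> (8 + (8 + 4 * Lt) * u)) % 256) ==
      tgt.getD u 0)

/-- the certificates of subgroup `i`: entry `t - 1` (after its low 16 bits, which only serve to keep
the entries apart) names a subgroup `j` of larger weight and gives its generators as words in the
generators of subgroup `i` and `r_t` -/
def transChk (i : ℕ) : Bool :=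
  allF (fun k =>
    forceN (ent (L.T i) (24 + 3 * (8 + 4 * L.Lt i)) k) fun e =>
      forceN (rget (L.R i) (k + 1)) fun r =>
        ((e >>> 16) % 256 < L.n) && (L.wt i < L.wt ((e >>> 16) % 256)) &&
          ((L.S ((e >>> 16) % 256)).length ≤ 3) &&
          wordChk (L.SL i ++ [r, pinv r]) (L.Lt i) (e >>> 16) 0 (L.S ((e >>> 16) % 256)) &&
          wordChk (L.SL i ++ [r, pinv r]) (L.Lt i) (e >>> 16) 1 (L.S ((e >>> 16) % 256)) &&
          wordChk (L.SL i ++ [r, pinv r]) (L.Lt i) (e >>> 16) 2 (L.S ((e >>> 16) % 256)))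
    (L.nR i - 1)

/-- all checks -/
structure Valid : Prop where
  letters : L.lettersChk = true
  transv : ∀ i < L.n, L.transvChk i = true
  ctab : ∀ i < L.n, L.ctabChk i = true
  trans : ∀ i < L.n, L.transChk i = true

variable {L}

theorem lettersIn_K (hV : L.Valid) {i : ℕ} (hi : i < L.n) : LettersIn (L.K i) (L.SL i) := by
  have h := hV.letters
  unfold lettersChk at h
  rw [Bool.and_eq_true, Bool.and_eq_true, allF_eq_true] at h
  exact lettersIn_of_lettersOK (h.2 i hi)

theorem lettersIn_A (hV : L.Valid) : LettersIn L.A L.aL := by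
  have h := hV.letters
  unfold lettersChk at h
  rw [Bool.and_eq_true, Bool.and_eq_true] at h
  exact lettersIn_of_lettersOK h.1.1

theorem aL_length (hV : L.Valid) : (evens L.aL).length ≤ 2 := by
  have h := hV.letters
  unfold lettersChk at h
  rw [Bool.and_eq_true, Bool.and_eq_true, decide_eq_true_eq] at h
  exact h.1.2

/-- the permutation with the number `r_t` -/
theorem exists_rep (hV : L.Valid) {i : ℕ} (hi : i < L.n) {t : ℕ} (ht : t < L.nR i) :
    ∃ ρ : Equiv.Perm (Fin 8), pack ρ = rget (L.R i) t := by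
  have h := hV.transv i hi
  unfold transvChk at h
  rw [Bool.and_eq_true, Bool.and_eq_true, allF_eq_true] at h
  exact exists_of_pvalid (h.2 t ht)

theorem rep_zero (hV : L.Valid) {i : ℕ} (hi : i < L.n) : rget (L.R i) 0 = pid := by
  have h := hV.transv i hi
  unfold transvChk at h
  rw [Bool.and_eq_true, Bool.and_eq_true, beq_iff_eq] at h
  exact h.1.2

theorem nR_pos (hV : L.Valid) {i : ℕ} (hi : i < L.n) : 0 < L.nR i := by
  have h := hV.transv i hi
  unfold transvChk at h
  rw [Bool.and_eq_true, Bool.and_eq_true, decide_eq_true_eq] at h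
  exact h.1.1

/-- every element of the ambient group lies in a coset of the transversal -/
theorem cover_aux (hV : L.Valid) {i : ℕ} (hi : i < L.n) (hpos : 0 < L.nR i)
    {g : Equiv.Perm (Fin 8)} (hmon : g ∈ Submonoid.closure (genSet (evens L.aL))) :
    ∃ t < L.nR i, ∃ k ∈ L.K i, ∃ ρ : Equiv.Perm (Fin 8), pack ρ = rget (L.R i) t ∧ g = k * ρ := by
  induction hmon using Submonoid.closure_induction_right with
  | one =>
    exact ⟨0, hpos, 1, (L.K i).one_mem, 1, by rw [rep_zero hV hi, pack_one], by simp⟩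
  | mul_right x hx y hy ih =>
    obtain ⟨t, ht, k, hk, ρ, hρ, rfl⟩ := ih
    have hc := hV.ctab i hi
    unfold ctabChk at hc
    rw [allF_eq_true] at hc
    have hy' : pack y ∈ evens L.aL := hy
    obtain ⟨j, hj, ej⟩ := List.getElem_of_mem hy'
    have hj2 : j < 2 := lt_of_lt_of_le hj (aL_length hV)
    have h1 := hc (2 * t + j) (by omega)
    rw [forceN_eq, Bool.and_eq_true, decide_eq_true_eq, beq_iff_eq] at h1
    obtain ⟨h1a, h1b⟩ := h1
    have e1 : (2 * t + j) / 2 = t := by omega
    have e2 : (2 * t + j) % 2 = j := by omega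
    rw [e1, e2, List.getD_eq_getElem _ _ hj, ej, ← hρ] at h1b
    obtain ⟨κ, hκ, eκ⟩ := evw_mem (lettersIn_K hV hi)
      ((ent (L.C i) (24 + 4 * L.Lc i) (2 * t + j)) >>> 24)
      (((ent (L.C i) (24 + 4 * L.Lc i) (2 * t + j)) >>> 16) % 256)
    obtain ⟨ρ', hρ'⟩ := exists_rep hV hi h1a
    rw [← eκ, ← hρ', ← pack_mul, ← pack_mul] at h1b
    have h2 : ρ * y = κ * ρ' := pack_injective h1b
    refine ⟨_, h1a, k * κ, (L.K i).mul_mem hk hκ, ρ', hρ', ?_⟩
    rw [mul_assoc, h2, mul_assoc]

theorem cover (hV : L.Valid) {i : ℕ} (hi : i < L.n) (hpos : 0 < L.nR i)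
    {g : Equiv.Perm (Fin 8)} (hg : g ∈ L.A) :
    ∃ t < L.nR i, ∃ k ∈ L.K i, ∃ ρ : Equiv.Perm (Fin 8), pack ρ = rget (L.R i) t ∧ g = k * ρ := by
  apply cover_aux hV hi hpos
  rw [← Subgroup.closure_toSubmonoid_of_finite]
  exact hg

theorem wordChk_spec {LL : List ℕ} {Lt e u : ℕ} {tgt : List ℕ}
    (h : wordChk LL Lt e u tgt = true) (hu : u < tgt.length) :
    ∃ w len : ℕ, evw LL w len = tgt[u] := by
  unfold wordChk at h
  rw [Bool.or_eq_true, decide_eq_true_eq, beq_iff_eq] at h
  rcases h with h | h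
  · omega
  · rw [List.getD_eq_getElem _ _ hu] at h
    exact ⟨_, _, h⟩

/-- a subgroup that contains subgroup `i` and a nontrivial coset representative contains a subgroup
of larger weight -/
theorem step (hV : L.Valid) {i : ℕ} (hi : i < L.n) {t : ℕ} (ht0 : t ≠ 0) (ht : t < L.nR i)
    {ρ : Equiv.Perm (Fin 8)} (hρ : pack ρ = rget (L.R i) t) {H : Subgroup (Equiv.Perm (Fin 8))}
    (hK : L.K i ≤ H) (hρH : ρ ∈ H) : ∃ j < L.n, L.wt i < L.wt j ∧ L.K j ≤ H := by
  have hc := hV.trans i hi
  unfold transChk at hc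
  rw [allF_eq_true] at hc
  have h1 := hc (t - 1) (by omega)
  rw [forceN_eq, forceN_eq] at h1
  have et : t - 1 + 1 = t := by omega
  rw [et] at h1
  simp only [Bool.and_eq_true, decide_eq_true_eq] at h1
  obtain ⟨⟨⟨⟨⟨hj, hw⟩, hl⟩, w0⟩, w1⟩, w2⟩ := h1
  refine ⟨_, hj, hw, ?_⟩
  have hLL : LettersIn H (L.SL i ++ [rget (L.R i) t, pinv (rget (L.R i) t)]) := by
    apply lettersIn_append (lettersIn_mono hK (lettersIn_K hV hi))
    apply lettersIn_cons ⟨ρ, hρH, hρ⟩
    apply lettersIn_cons ⟨ρ⁻¹, H.inv_mem hρH, by rw [pack_inv, hρ]⟩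
    exact lettersIn_nil _
  unfold K Kgrp
  rw [Subgroup.closure_le]
  intro σ hσ
  have hσ' : pack σ ∈ L.S ((ent (L.T i) (24 + 3 * (8 + 4 * L.Lt i)) (t - 1) >>> 16) % 256) := hσ
  obtain ⟨u, hu, eu⟩ := List.getElem_of_mem hσ'
  have hu3 : u < 3 := lt_of_lt_of_le hu hl
  have key : ∃ w len : ℕ, evw (L.SL i ++ [rget (L.R i) t, pinv (rget (L.R i) t)]) w len =
      pack σ := by
    rw [← eu]
    interval_cases u
    · exact wordChk_spec w0 hu
    · exact wordChk_spec w1 hu
    · exact wordChk_spec w2 hu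
  obtain ⟨w, len, e⟩ := key
  obtain ⟨τ, hτ, eτ⟩ := evw_mem hLL w len
  rw [e] at eτ
  rw [← pack_injective eτ]
  exact hτ

/-- every subgroup of the ambient group that contains subgroup `0` is one of the subgroups -/
theorem classify (hV : L.Valid) (hn : 0 < L.n) {H : Subgroup (Equiv.Perm (Fin 8))}
    (hHA : H ≤ L.A) (h0 : L.K 0 ≤ H) : ∃ i < L.n, H = L.K i := by
  classical
  let I : Finset ℕ := (Finset.range L.n).filter fun i => L.K i ≤ H
  have hI : I.Nonempty := ⟨0, by simp [I, hn, h0]⟩
  obtain ⟨i, hiI, hmax⟩ := Finset.exists_max_image I L.wt hI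
  have hi : i < L.n := by
    have := (Finset.mem_filter.mp hiI).1
    exact Finset.mem_range.mp this
  have hKi : L.K i ≤ H := (Finset.mem_filter.mp hiI).2
  refine ⟨i, hi, ?_⟩
  by_contra hne
  have hlt : L.K i < H := lt_of_le_of_ne hKi (Ne.symm hne)
  obtain ⟨g, hgH, hgK⟩ := SetLike.exists_of_lt hlt
  obtain ⟨t, ht, k, hk, ρ, hρ, rfl⟩ := cover hV hi (nR_pos hV hi) (hHA hgH)
  have ht0 : t ≠ 0 := by
    rintro rfl
    rw [rep_zero hV hi, ← pack_one] at hρ
    rw [pack_injective hρ, mul_one] at hgK
    exact hgK hk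
  have hρH : ρ ∈ H := by
    have : ρ = k⁻¹ * (k * ρ) := by group
    rw [this]
    exact H.mul_mem (H.inv_mem (hKi hk)) hgH
  obtain ⟨j, hj, hw, hKj⟩ := step hV hi ht0 ht hρ hKi hρH
  have hjI : j ∈ I := Finset.mem_filter.mpr ⟨Finset.mem_range.mpr hj, hKj⟩
  exact absurd (hmax j hjI) (not_le.mpr hw)

end Lat

/-! ### The ambient group contains the alternating group -/

/-- the number of the transposition of `a` and `b` -/
def pswap (a b : ℕ) : ℕ := pid + b * 8 ^ a + a * 8 ^ b - a * 8 ^ a - b * 8 ^ b

theorem pack_swap (a b : Fin 8) : pack (Equiv.swap a b) = pswap a.val b.val := by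
  revert a b
  decide

/-- the products of two transpositions with a common point are words in the letters: entry
`64 a + 8 b + c` of the table is a word for `(a b)(a c)` -/
def threeChk (aL : List ℕ) (L3 T3 : ℕ) : Bool :=
  allF (fun k =>
    forceN (ent T3 (8 + 4 * L3) k) fun e =>
      (k / 64 == k / 8 % 8) || (k / 64 == k % 8) || (k / 8 % 8 == k % 8) ||
        (evw aL (e >>> 8) (e % 256) == pmul (pswap (k / 64) (k / 8 % 8)) (pswap (k / 64) (k % 8))))
    512

theorem swap_mul_swap_same_mem {aL : List ℕ} {L3 T3 : ℕ} (hl : lettersOK aL = true)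
    (h : threeChk aL L3 T3 = true) {a b c : Fin 8} (hab : a ≠ b) (hac : a ≠ c) :
    Equiv.swap a b * Equiv.swap a c ∈ Kgrp (evens aL) := by
  by_cases hbc : b = c
  · subst hbc
    rw [Equiv.swap_mul_self]
    exact Subgroup.one_mem _
  unfold threeChk at h
  rw [allF_eq_true] at h
  have h1 := h (64 * a.val + 8 * b.val + c.val) (by omega)
  rw [forceN_eq] at h1
  have e1 : (64 * a.val + 8 * b.val + c.val) / 64 = a.val := by omega
  have e2 : (64 * a.val + 8 * b.val + c.val) / 8 % 8 = b.val := by omega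
  have e3 : (64 * a.val + 8 * b.val + c.val) % 8 = c.val := by omega
  rw [e1, e2, e3] at h1
  simp only [Bool.or_eq_true, beq_iff_eq] at h1
  rcases h1 with ((h1 | h1) | h1) | h1
  · exact absurd (Fin.ext h1) hab
  · exact absurd (Fin.ext h1) hac
  · exact absurd (Fin.ext h1) hbc
  · obtain ⟨τ, hτ, eτ⟩ := evw_mem (lettersIn_of_lettersOK hl)
      ((ent T3 (8 + 4 * L3) (64 * a.val + 8 * b.val + c.val)) >>> 8)
      ((ent T3 (8 + 4 * L3) (64 * a.val + 8 * b.val + c.val)) % 256)
    rw [h1, ← pack_swap, ← pack_swap, ← pack_mul] at eτ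
    rw [← pack_injective eτ]
    exact hτ

theorem isSwap_mul_mem {aL : List ℕ} {L3 T3 : ℕ} (hl : lettersOK aL = true)
    (h : threeChk aL L3 T3 = true) {σ τ : Equiv.Perm (Fin 8)} (hσ : σ.IsSwap) (hτ : τ.IsSwap) :
    σ * τ ∈ Kgrp (evens aL) := by
  obtain ⟨a, b, ab, rfl⟩ := hσ
  obtain ⟨c, d, cd, rfl⟩ := hτ
  by_cases ac : a = c
  · subst ac
    exact swap_mul_swap_same_mem hl h ab cd
  have h' : Equiv.swap a b * Equiv.swap c d =
      Equiv.swap a b * Equiv.swap a c * (Equiv.swap c a * Equiv.swap c d) := by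
    simp [Equiv.swap_comm c a, mul_assoc]
  rw [h']
  exact Subgroup.mul_mem _ (swap_mul_swap_same_mem hl h ab ac)
    (swap_mul_swap_same_mem hl h (Ne.symm ac) cd)

/-- the ambient group contains the alternating group -/
theorem alternatingGroup_le {aL : List ℕ} {L3 T3 : ℕ} (hl : lettersOK aL = true)
    (h : threeChk aL L3 T3 = true) : alternatingGroup (Fin 8) ≤ Kgrp (evens aL) := by
  intro σ hσ
  suffices hind : ∀ (n : ℕ) (l : List (Equiv.Perm (Fin 8))) (_ : ∀ g, g ∈ l → g.IsSwap)
      (_ : l.length = 2 * n), l.prod ∈ Kgrp (evens aL) by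
    obtain ⟨l, rfl, hl'⟩ := Equiv.Perm.truncSwapFactors σ
    obtain ⟨n, hn⟩ := (Equiv.Perm.prod_list_swap_mem_alternatingGroup_iff_even_length hl').1 hσ
    rw [← two_mul] at hn
    exact hind n l hl' hn
  intro n
  induction n with
  | zero =>
    intro l _ hn
    simp [List.length_eq_zero_iff.1 hn]
  | succ n ih =>
    intro l hl' hn
    rw [Nat.mul_succ] at hn
    obtain ⟨a, l, rfl⟩ := l.exists_of_length_succ hn
    rw [List.length_cons, Nat.succ_inj] at hn
    obtain ⟨b, l, rfl⟩ := l.exists_of_length_succ hn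
    rw [List.prod_cons, List.prod_cons, ← mul_assoc]
    apply Subgroup.mul_mem
    · exact isSwap_mul_mem hl h (hl' a (by simp)) (hl' b (by simp))
    · apply ih l (fun g hg => hl' g (by simp [hg]))
      simpa using hn

end Cfsg.Agent.Lib.Helper86_A8Lat
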