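import Mathlib
import Cfsg.Agent.Lib.Helper86_A8Lat
import Cfsg.Agent.Lib.Helper86_A8Core

/-!
Certificates for subgroups of the symmetric group of degree eight given by generators: a list of
permutations written as words in the generators, permuted by the generators under conjugation,
pairwise commuting and of prime order `p`, generates a nontrivial normal `p`-subgroup.
-/

set_option autoImplicit false

namespace Cfsg.Agent.Lib.Helper86_A8Bad

open Cfsg.Agent.Lib.Helper86_PackPerm Cfsg.Agent.Lib.Helper86_A8Lat Cfsg.Agent.Lib.Helper86_A8Core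
open Equiv

/-- each entry `(v, w, len)` says that the word `w` of length `len` has the value `v` -/
def wordsChk (SL : List ℕ) (NW : List (ℕ × ℕ × ℕ)) : Bool :=
  NW.all fun t => evw SL t.2.1 t.2.2 == t.1

/-- the list `NL` is closed under conjugation by the entries of `GG` -/
def normChk (GG NL : List ℕ) : Bool :=
  GG.all fun s => NL.all fun v => NL.contains (pmul (pmul s v) (pinv s))

/-- powers -/
def ppow (v : ℕ) (k : ℕ) : ℕ := Nat.rec pid (fun _ acc => pmul v acc) k

theorem pack_pow (σ : Perm (Fin 8)) (k : ℕ) : pack (σ ^ k) = ppow (pack σ) k := by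
  induction k with
  | zero => simp [ppow, pack_one]
  | succ k ih =>
    rw [pow_succ', pack_mul, ih]
    rfl

/-- the entries of `NL` commute, have `p`-th power one, and the first one is not the identity -/
def abelChk (p : ℕ) (NL : List ℕ) : Bool :=
  (NL.all fun v => (ppow v p == pid) && NL.all fun u => pmul u v == pmul v u) &&
    !(NL.headD pid == pid) && !NL.isEmpty

theorem kgrp_le_of_wordsChk {SL : List ℕ} {NW : List (ℕ × ℕ × ℕ)} (hl : lettersOK SL = true)
    (hw : wordsChk SL NW = true) : Kgrp (NW.map (·.1)) ≤ Kgrp (evens SL) := by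
  unfold Kgrp
  rw [Subgroup.closure_le]
  intro σ hσ
  have h1 : pack σ ∈ NW.map (·.1) := hσ
  obtain ⟨t, ht, e⟩ := List.mem_map.1 h1
  unfold wordsChk at hw
  rw [List.all_eq_true] at hw
  have h2 := hw t ht
  rw [beq_iff_eq] at h2
  obtain ⟨τ, hτ, eτ⟩ := evw_mem (lettersIn_of_lettersOK hl) t.2.1 t.2.2
  rw [h2, e] at eτ
  rw [← pack_injective eτ]
  exact hτ

theorem conj_mem_of_normChk {GG NL : List ℕ} (hn : normChk GG NL = true)
    {x : Perm (Fin 8)} (hx : pack x ∈ GG) {n : Perm (Fin 8)} (hnN : n ∈ Kgrp NL) :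
    x * n * x⁻¹ ∈ Kgrp NL := by
  unfold normChk at hn
  rw [List.all_eq_true] at hn
  have h1 := hn _ hx
  rw [List.all_eq_true] at h1
  unfold Kgrp at hnN ⊢
  induction hnN using Subgroup.closure_induction with
  | mem y hy =>
    have h2 := h1 _ hy
    rw [List.contains_iff_mem] at h2
    apply Subgroup.subset_closure
    change pack (x * y * x⁻¹) ∈ NL
    rw [pack_mul, pack_mul, pack_inv]
    exact h2
  | one => simp
  | mul a b _ _ iha ihb =>
    have : x * (a * b) * x⁻¹ = (x * a * x⁻¹) * (x * b * x⁻¹) := by group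
    rw [this]
    exact Subgroup.mul_mem _ iha ihb
  | inv a _ iha =>
    have : x * a⁻¹ * x⁻¹ = (x * a * x⁻¹)⁻¹ := by group
    rw [this]
    exact Subgroup.inv_mem _ iha

theorem normalized_of_normChk {GG NL : List ℕ} (hn : normChk GG NL = true)
    {x : Perm (Fin 8)} (hx : x ∈ Kgrp GG) {n : Perm (Fin 8)} (hnN : n ∈ Kgrp NL) :
    x * n * x⁻¹ ∈ Kgrp NL := by
  have hle : Kgrp GG ≤ Subgroup.normalizer (Kgrp NL : Set (Perm (Fin 8))) := by
    unfold Kgrp
    rw [Subgroup.closure_le]
    intro y hy
    apply Subgroup.mem_normalizer_fintype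
    intro m hm
    exact conj_mem_of_normChk hn hy hm
  exact (Subgroup.mem_normalizer_iff.1 (hle hx) n).1 hnN

theorem isPGroup_of_abelChk {p : ℕ} {NL : List ℕ} (ha : abelChk p NL = true) :
    IsPGroup p (Kgrp NL) := by
  unfold abelChk at ha
  rw [Bool.and_eq_true, Bool.and_eq_true, List.all_eq_true] at ha
  have hcomm : ∀ x ∈ genSet NL, ∀ y ∈ genSet NL, x * y = y * x := by
    intro x hx y hy
    have h1 := (ha.1.1 _ hy)
    rw [Bool.and_eq_true, List.all_eq_true] at h1
    have h2 := h1.2 _ hx
    rw [beq_iff_eq, ← pack_mul, ← pack_mul] at h2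
    exact pack_injective h2
  have hc : IsMulCommutative (Kgrp NL) := Subgroup.isMulCommutative_closure hcomm
  have hpow : ∀ x ∈ Kgrp NL, x ^ p = 1 := by
    intro x hx
    unfold Kgrp at hx
    induction hx using Subgroup.closure_induction with
    | mem y hy =>
      have h1 := (ha.1.1 _ hy)
      rw [Bool.and_eq_true, beq_iff_eq, ← pack_pow, ← pack_one] at h1
      exact pack_injective h1.1
    | one => simp
    | mul a b ha' hb' iha ihb =>
      have hab : a * b = b * a := by
        have := hc.is_comm.comm (⟨a, ha'⟩ : Kgrp NL) ⟨b, hb'⟩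
        exact congrArg Subtype.val this
      rw [(Commute.mul_pow hab), iha, ihb, one_mul]
    | inv a _ iha => rw [inv_pow, iha, inv_one]
  intro g
  refine ⟨1, ?_⟩
  rw [pow_one]
  exact Subtype.ext (by simpa using hpow g.1 g.2)

theorem ne_bot_of_abelChk {p : ℕ} {NL : List ℕ} (hv : ∀ v ∈ NL, pvalid v = true)
    (ha : abelChk p NL = true) : Kgrp NL ≠ ⊥ := by
  unfold abelChk at ha
  rw [Bool.and_eq_true, Bool.and_eq_true] at ha
  obtain ⟨⟨-, h1⟩, h2⟩ := ha
  cases NL with
  | nil => simp at h2
  | cons v l =>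
    simp only [List.headD_cons, Bool.not_eq_true', beq_eq_false_iff_ne] at h1
    obtain ⟨σ, hσ⟩ := exists_of_pvalid (hv v (by simp))
    intro hbot
    have hmem : σ ∈ Kgrp (v :: l) := Subgroup.subset_closure (by
      change pack σ ∈ v :: l
      simp [hσ])
    rw [hbot, Subgroup.mem_bot] at hmem
    rw [hmem, pack_one] at hσ
    exact h1 hσ.symm

/-- the contradiction from a certificate -/
theorem false_of_cert {p : ℕ} (hp : p.Prime) {SL : List ℕ} {NW : List (ℕ × ℕ × ℕ)}
    (hl : lettersOK SL = true) (hw : wordsChk SL NW = true)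
    (hn : normChk (evens SL) (NW.map (·.1)) = true) (ha : abelChk p (NW.map (·.1)) = true)
    (hv : (NW.map (·.1)).all pvalid = true)
    (hcf : CF (Kgrp (evens SL))) : False := by
  have hle := kgrp_le_of_wordsChk hl hw
  have hN := isPGroup_of_abelChk ha
  rw [List.all_eq_true] at hv
  apply ne_bot_of_abelChk hv ha
  apply hcf.sub _ hle (fun x hx n hn' => normalized_of_normChk hn hx hn')
  by_cases h2 : p = 2
  · left
    rw [← h2]
    exact hN
  · right
    have : Fact p.Prime := ⟨hp⟩
    obtain ⟨k, hk⟩ := hN.exists_card_eq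
    rw [hk]
    apply Nat.Coprime.pow_left
    exact (Nat.coprime_primes hp Nat.prime_two).2 h2

end Cfsg.Agent.Lib.Helper86_A8Bad
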