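import Mathlib
import Cfsg.Agent.Lib.Helper86_A8Core
import Cfsg.Agent.Lib.Helper86_A8Lat7Verdict
import Cfsg.Agent.Lib.Helper86_A8Lat5Verdict

/-!
The nontrivial subgroups of the alternating group of degree eight without nontrivial normal
`2`-subgroups and without nontrivial normal subgroups of odd order.
-/

set_option autoImplicit false
set_option maxRecDepth 100000

namespace Cfsg.Agent.Lib.Helper86_A8Final

open Cfsg.Agent.Lib.Helper86_PackPerm Cfsg.Agent.Lib.Helper86_A8Lat Cfsg.Agent.Lib.Helper86_A8Core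
open Cfsg.Agent.Lib.Helper86_A8Bad
open Equiv

/-- a permutation of prime order `p` with given number -/
theorem exists_perm_of_order (c p : ℕ) (hp : p.Prime) (hv : pvalid c = true)
    (hpow : ppow c p = pid) (hne : c ≠ pid) :
    ∃ σ : Perm (Fin 8), pack σ = c ∧ orderOf σ = p := by
  obtain ⟨σ, hσ⟩ := exists_of_pvalid hv
  refine ⟨σ, hσ, ?_⟩
  have : Fact p.Prime := ⟨hp⟩
  apply orderOf_eq_prime
  · apply pack_injective
    rw [pack_pow, hσ, hpow, pack_one]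
  · intro h1
    rw [h1, pack_one] at hσ
    exact hne hσ.symm

theorem main {H : Subgroup (Perm (Fin 8))} (hH : H ≤ alternatingGroup (Fin 8)) (hne : H ≠ ⊥)
    (hcf : CF H) :
    (∃ n : ℕ, 5 ≤ n ∧ n ≤ 8 ∧ Nonempty (↥H ≃* alternatingGroup (Fin n))) ∨
    Nonempty (↥H ≃* Perm (Fin 5)) ∨ Nonempty (↥H ≃* Perm (Fin 6)) ∨
    Nonempty (↥H ≃* GL (Fin 3) (ZMod 2)) := by
  obtain ⟨g, hg, ho⟩ := exists_order_five_or_seven hH hne hcf
  rcases ho with ho | ho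
  · obtain ⟨c, hc, hoc⟩ := exists_perm_of_order 16419025 5 (by norm_num) (by decide +kernel)
      (by decide +kernel) (by decide)
    have hct : c.cycleType = g.cycleType := by
      rw [cycleType_of_orderOf_eq (by norm_num) (by norm_num) hoc,
        cycleType_of_orderOf_eq (by norm_num) (by norm_num) ho]
    obtain ⟨H', hH', hcH', ⟨e⟩⟩ := exists_conj_subgroup hH hg c hct
    have hcf' : CF H' := hcf.of_equiv e
    obtain ⟨i, hi, rfl⟩ := Cfsg.Agent.Lib.Helper86_A8Lat5.classify hH' hc hcH'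
    interval_cases i
    · exact (Cfsg.Agent.Lib.Helper86_A8Lat5.bad0 hcf').elim
    · exact (Cfsg.Agent.Lib.Helper86_A8Lat5.bad1 hcf').elim
    · exact (Cfsg.Agent.Lib.Helper86_A8Lat5.bad2 hcf').elim
    · exact (Cfsg.Agent.Lib.Helper86_A8Lat5.bad3 hcf').elim
    · exact (Cfsg.Agent.Lib.Helper86_A8Lat5.bad4 hcf').elim
    · exact (Cfsg.Agent.Lib.Helper86_A8Lat5.bad5 hcf').elim
    · exact (Cfsg.Agent.Lib.Helper86_A8Lat5.bad6 hcf').elim
    · exact (Cfsg.Agent.Lib.Helper86_A8Lat5.bad7 hcf').elim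
    · obtain ⟨e2⟩ := Cfsg.Agent.Lib.Helper86_A8Lat5.good8 hH'
      exact Or.inl ⟨5, by norm_num, by norm_num, ⟨e.trans e2⟩⟩
    · obtain ⟨e2⟩ := Cfsg.Agent.Lib.Helper86_A8Lat5.good9
      exact Or.inl ⟨5, by norm_num, by norm_num, ⟨e.trans e2⟩⟩
    · obtain ⟨e2⟩ := Cfsg.Agent.Lib.Helper86_A8Lat5.good10
      exact Or.inl ⟨5, by norm_num, by norm_num, ⟨e.trans e2⟩⟩
    · obtain ⟨e2⟩ := Cfsg.Agent.Lib.Helper86_A8Lat5.good11
      exact Or.inl ⟨5, by norm_num, by norm_num, ⟨e.trans e2⟩⟩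
    · obtain ⟨e2⟩ := Cfsg.Agent.Lib.Helper86_A8Lat5.good12 hH'
      exact Or.inr (Or.inl ⟨e.trans e2⟩)
    · obtain ⟨e2⟩ := Cfsg.Agent.Lib.Helper86_A8Lat5.good13 hH'
      exact Or.inr (Or.inl ⟨e.trans e2⟩)
    · obtain ⟨e2⟩ := Cfsg.Agent.Lib.Helper86_A8Lat5.good14 hH'
      exact Or.inr (Or.inl ⟨e.trans e2⟩)
    · obtain ⟨e2⟩ := Cfsg.Agent.Lib.Helper86_A8Lat5.good15
      exact Or.inr (Or.inl ⟨e.trans e2⟩)
    · obtain ⟨e2⟩ := Cfsg.Agent.Lib.Helper86_A8Lat5.good16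
      exact Or.inr (Or.inl ⟨e.trans e2⟩)
    · obtain ⟨e2⟩ := Cfsg.Agent.Lib.Helper86_A8Lat5.good17
      exact Or.inr (Or.inl ⟨e.trans e2⟩)
    · exact (Cfsg.Agent.Lib.Helper86_A8Lat5.bad18 hcf').elim
    · exact (Cfsg.Agent.Lib.Helper86_A8Lat5.bad19 hcf').elim
    · obtain ⟨e2⟩ := Cfsg.Agent.Lib.Helper86_A8Lat5.good20 hH'
      exact Or.inl ⟨6, by norm_num, by norm_num, ⟨e.trans e2⟩⟩
    · obtain ⟨e2⟩ := Cfsg.Agent.Lib.Helper86_A8Lat5.good21 hH'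
      exact Or.inl ⟨6, by norm_num, by norm_num, ⟨e.trans e2⟩⟩
    · obtain ⟨e2⟩ := Cfsg.Agent.Lib.Helper86_A8Lat5.good22 hH'
      exact Or.inl ⟨6, by norm_num, by norm_num, ⟨e.trans e2⟩⟩
    · obtain ⟨e2⟩ := Cfsg.Agent.Lib.Helper86_A8Lat5.good23 hH'
      exact Or.inr (Or.inr (Or.inl ⟨e.trans e2⟩))
    · obtain ⟨e2⟩ := Cfsg.Agent.Lib.Helper86_A8Lat5.good24 hH'
      exact Or.inr (Or.inr (Or.inl ⟨e.trans e2⟩))
    · obtain ⟨e2⟩ := Cfsg.Agent.Lib.Helper86_A8Lat5.good25 hH'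
      exact Or.inr (Or.inr (Or.inl ⟨e.trans e2⟩))
    · obtain ⟨e2⟩ := Cfsg.Agent.Lib.Helper86_A8Lat5.good26 hH'
      exact Or.inl ⟨7, by norm_num, by norm_num, ⟨e.trans e2⟩⟩
    · obtain ⟨e2⟩ := Cfsg.Agent.Lib.Helper86_A8Lat5.good27 hH'
      exact Or.inl ⟨7, by norm_num, by norm_num, ⟨e.trans e2⟩⟩
    · obtain ⟨e2⟩ := Cfsg.Agent.Lib.Helper86_A8Lat5.good28 hH'
      exact Or.inl ⟨7, by norm_num, by norm_num, ⟨e.trans e2⟩⟩
    · obtain ⟨e2⟩ := Cfsg.Agent.Lib.Helper86_A8Lat5.good29 hH'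
      exact Or.inl ⟨8, by norm_num, by norm_num, ⟨e.trans e2⟩⟩
  · obtain ⟨c, hc, hoc⟩ := exists_perm_of_order 12369168 7 (by norm_num) (by decide +kernel)
      (by decide +kernel) (by decide)
    have hct : c.cycleType = g.cycleType := by
      rw [cycleType_of_orderOf_eq (by norm_num) (by norm_num) hoc,
        cycleType_of_orderOf_eq (by norm_num) (by norm_num) ho]
    obtain ⟨H', hH', hcH', ⟨e⟩⟩ := exists_conj_subgroup hH hg c hct
    have hcf' : CF H' := hcf.of_equiv e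
    obtain ⟨i, hi, rfl⟩ := Cfsg.Agent.Lib.Helper86_A8Lat7.classify hH' hc hcH'
    interval_cases i
    · exact (Cfsg.Agent.Lib.Helper86_A8Lat7.bad0 hcf').elim
    · exact (Cfsg.Agent.Lib.Helper86_A8Lat7.bad1 hcf').elim
    · exact (Cfsg.Agent.Lib.Helper86_A8Lat7.bad2 hcf').elim
    · exact (Cfsg.Agent.Lib.Helper86_A8Lat7.bad3 hcf').elim
    · obtain ⟨e2⟩ := Cfsg.Agent.Lib.Helper86_A8Lat7.good4
      exact Or.inr (Or.inr (Or.inr ⟨e.trans e2⟩))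
    · obtain ⟨e2⟩ := Cfsg.Agent.Lib.Helper86_A8Lat7.good5
      exact Or.inr (Or.inr (Or.inr ⟨e.trans e2⟩))
    · obtain ⟨e2⟩ := Cfsg.Agent.Lib.Helper86_A8Lat7.good6
      exact Or.inr (Or.inr (Or.inr ⟨e.trans e2⟩))
    · exact (Cfsg.Agent.Lib.Helper86_A8Lat7.bad7 hcf').elim
    · exact (Cfsg.Agent.Lib.Helper86_A8Lat7.bad8 hcf').elim
    · exact (Cfsg.Agent.Lib.Helper86_A8Lat7.bad9 hcf').elim
    · exact (Cfsg.Agent.Lib.Helper86_A8Lat7.bad10 hcf').elim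
    · obtain ⟨e2⟩ := Cfsg.Agent.Lib.Helper86_A8Lat7.good11 hH'
      exact Or.inl ⟨7, by norm_num, by norm_num, ⟨e.trans e2⟩⟩
    · obtain ⟨e2⟩ := Cfsg.Agent.Lib.Helper86_A8Lat7.good12 hH'
      exact Or.inl ⟨8, by norm_num, by norm_num, ⟨e.trans e2⟩⟩

end Cfsg.Agent.Lib.Helper86_A8Final
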