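import Mathlib
import Cfsg.Agent.Lib.Helper86_A8Lat5Data

/-!
Kernel evaluation of the checks of the data of `Helper86_A8Lat5Data` (part 1).
-/

set_option autoImplicit false

namespace Cfsg.Agent.Lib.Helper86_A8Lat5

open Cfsg.Agent.Lib.Helper86_PackPerm Cfsg.Agent.Lib.Helper86_A8Lat

set_option maxRecDepth 100000 in
theorem transv1 : lat.transvChk 1 = true := by decide +kernel

set_option maxRecDepth 100000 in
theorem ctab1 : lat.ctabChk 1 = true := by decide +kernel

set_option maxRecDepth 100000 in
theorem trans1 : lat.transChk 1 = true := by decide +kernel

set_option maxRecDepth 100000 in
theorem transv5 : lat.transvChk 5 = true := by decide +kernel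

set_option maxRecDepth 100000 in
theorem ctab5 : lat.ctabChk 5 = true := by decide +kernel

set_option maxRecDepth 100000 in
theorem trans5 : lat.transChk 5 = true := by decide +kernel

set_option maxRecDepth 100000 in
theorem transv9 : lat.transvChk 9 = true := by decide +kernel

set_option maxRecDepth 100000 in
theorem ctab9 : lat.ctabChk 9 = true := by decide +kernel

set_option maxRecDepth 100000 in
theorem trans9 : lat.transChk 9 = true := by decide +kernel

set_option maxRecDepth 100000 in
theorem transv13 : lat.transvChk 13 = true := by decide +kernel

set_option maxRecDepth 100000 in
theorem ctab13 : lat.ctabChk 13 = true := by decide +kernel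

set_option maxRecDepth 100000 in
theorem trans13 : lat.transChk 13 = true := by decide +kernel

set_option maxRecDepth 100000 in
theorem transv17 : lat.transvChk 17 = true := by decide +kernel

set_option maxRecDepth 100000 in
theorem ctab17 : lat.ctabChk 17 = true := by decide +kernel

set_option maxRecDepth 100000 in
theorem trans17 : lat.transChk 17 = true := by decide +kernel

set_option maxRecDepth 100000 in
theorem transv21 : lat.transvChk 21 = true := by decide +kernel

set_option maxRecDepth 100000 in
theorem ctab21 : lat.ctabChk 21 = true := by decide +kernel

set_option maxRecDepth 100000 in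
theorem trans21 : lat.transChk 21 = true := by decide +kernel

set_option maxRecDepth 100000 in
theorem transv25 : lat.transvChk 25 = true := by decide +kernel

set_option maxRecDepth 100000 in
theorem ctab25 : lat.ctabChk 25 = true := by decide +kernel

set_option maxRecDepth 100000 in
theorem trans25 : lat.transChk 25 = true := by decide +kernel

set_option maxRecDepth 100000 in
theorem transv29 : lat.transvChk 29 = true := by decide +kernel

set_option maxRecDepth 100000 in
theorem ctab29 : lat.ctabChk 29 = true := by decide +kernel

set_option maxRecDepth 100000 in
theorem trans29 : lat.transChk 29 = true := by decide +kernel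

end Cfsg.Agent.Lib.Helper86_A8Lat5
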