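import Mathlib
import Cfsg.Agent.Lib.Helper86_A8Lat5Data

/-!
Kernel evaluation of the checks of the data of `Helper86_A8Lat5Data` (part 3).
-/

set_option autoImplicit false

namespace Cfsg.Agent.Lib.Helper86_A8Lat5

open Cfsg.Agent.Lib.Helper86_PackPerm Cfsg.Agent.Lib.Helper86_A8Lat

set_option maxRecDepth 100000 in
theorem transv3 : lat.transvChk 3 = true := by decide +kernel

set_option maxRecDepth 100000 in
theorem ctab3 : lat.ctabChk 3 = true := by decide +kernel

set_option maxRecDepth 100000 in
theorem trans3 : lat.transChk 3 = true := by decide +kernel

set_option maxRecDepth 100000 in
theorem transv7 : lat.transvChk 7 = true := by decide +kernel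

set_option maxRecDepth 100000 in
theorem ctab7 : lat.ctabChk 7 = true := by decide +kernel

set_option maxRecDepth 100000 in
theorem trans7 : lat.transChk 7 = true := by decide +kernel

set_option maxRecDepth 100000 in
theorem transv11 : lat.transvChk 11 = true := by decide +kernel

set_option maxRecDepth 100000 in
theorem ctab11 : lat.ctabChk 11 = true := by decide +kernel

set_option maxRecDepth 100000 in
theorem trans11 : lat.transChk 11 = true := by decide +kernel

set_option maxRecDepth 100000 in
theorem transv15 : lat.transvChk 15 = true := by decide +kernel

set_option maxRecDepth 100000 in
theorem ctab15 : lat.ctabChk 15 = true := by decide +kernel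

set_option maxRecDepth 100000 in
theorem trans15 : lat.transChk 15 = true := by decide +kernel

set_option maxRecDepth 100000 in
theorem transv19 : lat.transvChk 19 = true := by decide +kernel

set_option maxRecDepth 100000 in
theorem ctab19 : lat.ctabChk 19 = true := by decide +kernel

set_option maxRecDepth 100000 in
theorem trans19 : lat.transChk 19 = true := by decide +kernel

set_option maxRecDepth 100000 in
theorem transv23 : lat.transvChk 23 = true := by decide +kernel

set_option maxRecDepth 100000 in
theorem ctab23 : lat.ctabChk 23 = true := by decide +kernel

set_option maxRecDepth 100000 in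
theorem trans23 : lat.transChk 23 = true := by decide +kernel

set_option maxRecDepth 100000 in
theorem transv27 : lat.transvChk 27 = true := by decide +kernel

set_option maxRecDepth 100000 in
theorem ctab27 : lat.ctabChk 27 = true := by decide +kernel

set_option maxRecDepth 100000 in
theorem trans27 : lat.transChk 27 = true := by decide +kernel

end Cfsg.Agent.Lib.Helper86_A8Lat5
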