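import Mathlib
import Cfsg.Agent.Lib.Helper86_A8Lat5Chk0
import Cfsg.Agent.Lib.Helper86_A8Lat5Chk1
import Cfsg.Agent.Lib.Helper86_A8Lat5Chk2
import Cfsg.Agent.Lib.Helper86_A8Lat5Chk3

/-!
The subgroups of the alternating group of degree eight that contain a fixed element of order 5:
the checked data give the list.
-/

set_option autoImplicit false

namespace Cfsg.Agent.Lib.Helper86_A8Lat5

open Cfsg.Agent.Lib.Helper86_PackPerm Cfsg.Agent.Lib.Helper86_A8Lat

theorem valid : lat.Valid where
  letters := letters_ok
  transv := by
    intro i hi
    have hi' : i < 30 := hi
    interval_cases i
    · exact transv0
    · exact transv1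
    · exact transv2
    · exact transv3
    · exact transv4
    · exact transv5
    · exact transv6
    · exact transv7
    · exact transv8
    · exact transv9
    · exact transv10
    · exact transv11
    · exact transv12
    · exact transv13
    · exact transv14
    · exact transv15
    · exact transv16
    · exact transv17
    · exact transv18
    · exact transv19
    · exact transv20
    · exact transv21
    · exact transv22
    · exact transv23
    · exact transv24
    · exact transv25
    · exact transv26
    · exact transv27
    · exact transv28
    · exact transv29
  ctab := by
    intro i hi
    have hi' : i < 30 := hi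
    interval_cases i
    · exact ctab0
    · exact ctab1
    · exact ctab2
    · exact ctab3
    · exact ctab4
    · exact ctab5
    · exact ctab6
    · exact ctab7
    · exact ctab8
    · exact ctab9
    · exact ctab10
    · exact ctab11
    · exact ctab12
    · exact ctab13
    · exact ctab14
    · exact ctab15
    · exact ctab16
    · exact ctab17
    · exact ctab18
    · exact ctab19
    · exact ctab20
    · exact ctab21
    · exact ctab22
    · exact ctab23
    · exact ctab24
    · exact ctab25
    · exact ctab26
    · exact ctab27
    · exact ctab28
    · exact ctab29
  trans := by
    intro i hi
    have hi' : i < 30 := hi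
    interval_cases i
    · exact trans0
    · exact trans1
    · exact trans2
    · exact trans3
    · exact trans4
    · exact trans5
    · exact trans6
    · exact trans7
    · exact trans8
    · exact trans9
    · exact trans10
    · exact trans11
    · exact trans12
    · exact trans13
    · exact trans14
    · exact trans15
    · exact trans16
    · exact trans17
    · exact trans18
    · exact trans19
    · exact trans20
    · exact trans21
    · exact trans22
    · exact trans23
    · exact trans24
    · exact trans25
    · exact trans26
    · exact trans27
    · exact trans28
    · exact trans29

theorem alternatingGroup_le_A : alternatingGroup (Fin 8) ≤ lat.A := by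
  have h := letters_ok
  unfold Lat.lettersChk at h
  rw [Bool.and_eq_true, Bool.and_eq_true] at h
  exact alternatingGroup_le h.1.1 three_ok

theorem lettersOK_SL (i : ℕ) (hi : i < 30) : lettersOK (lat.SL i) = true := by
  have h := letters_ok
  unfold Lat.lettersChk at h
  rw [Bool.and_eq_true, allF_eq_true] at h
  exact h.2 i hi

/-- every subgroup of the alternating group that contains the permutation with the number
`16419025` is one of the subgroups of the list -/
theorem classify {H : Subgroup (Equiv.Perm (Fin 8))} (hH : H ≤ alternatingGroup (Fin 8))
    {c : Equiv.Perm (Fin 8)} (hc : pack c = 16419025) (hcH : c ∈ H) : ∃ i < 30, H = lat.K i := by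
  apply Lat.classify valid (by decide) (hH.trans alternatingGroup_le_A)
  unfold Lat.K Kgrp
  rw [Subgroup.closure_le]
  intro σ hσ
  have h1 : pack σ ∈ [16419025] := hσ
  rw [List.mem_singleton, ← hc] at h1
  rw [pack_injective h1]
  exact hcH

end Cfsg.Agent.Lib.Helper86_A8Lat5
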