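import Mathlib
import Cfsg.Agent.Lib.Helper86_A8Lat7Data

/-!
Kernel evaluation of the checks of the data of `Helper86_A8Lat7Data` (part 0).
-/

set_option autoImplicit false

namespace Cfsg.Agent.Lib.Helper86_A8Lat7

open Cfsg.Agent.Lib.Helper86_PackPerm Cfsg.Agent.Lib.Helper86_A8Lat

set_option maxRecDepth 100000 in
theorem transv0 : lat.transvChk 0 = true := by decide +kernel

set_option maxRecDepth 100000 in
theorem ctab0 : lat.ctabChk 0 = true := by decide +kernel

set_option maxRecDepth 100000 in
theorem trans0 : lat.transChk 0 = true := by decide +kernel

set_option maxRecDepth 100000 in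
theorem transv4 : lat.transvChk 4 = true := by decide +kernel

set_option maxRecDepth 100000 in
theorem ctab4 : lat.ctabChk 4 = true := by decide +kernel

set_option maxRecDepth 100000 in
theorem trans4 : lat.transChk 4 = true := by decide +kernel

set_option maxRecDepth 100000 in
theorem transv8 : lat.transvChk 8 = true := by decide +kernel

set_option maxRecDepth 100000 in
theorem ctab8 : lat.ctabChk 8 = true := by decide +kernel

set_option maxRecDepth 100000 in
theorem trans8 : lat.transChk 8 = true := by decide +kernel

set_option maxRecDepth 100000 in
theorem transv12 : lat.transvChk 12 = true := by decide +kernel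

set_option maxRecDepth 100000 in
theorem ctab12 : lat.ctabChk 12 = true := by decide +kernel

set_option maxRecDepth 100000 in
theorem trans12 : lat.transChk 12 = true := by decide +kernel

set_option maxRecDepth 100000 in
theorem letters_ok : lat.lettersChk = true := by decide +kernel

set_option maxRecDepth 100000 in
theorem three_ok : threeChk aLf len3 tab3 = true := by decide +kernel

end Cfsg.Agent.Lib.Helper86_A8Lat7
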