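import Mathlib
import Cfsg.Agent.Lib.Helper86_A8Lat7Data

/-!
Kernel evaluation of the checks of the data of `Helper86_A8Lat7Data` (part 2).
-/

set_option autoImplicit false

namespace Cfsg.Agent.Lib.Helper86_A8Lat7

open Cfsg.Agent.Lib.Helper86_PackPerm Cfsg.Agent.Lib.Helper86_A8Lat

set_option maxRecDepth 100000 in
theorem transv2 : lat.transvChk 2 = true := by decide +kernel

set_option maxRecDepth 100000 in
theorem ctab2 : lat.ctabChk 2 = true := by decide +kernel

set_option maxRecDepth 100000 in
theorem trans2 : lat.transChk 2 = true := by decide +kernel

set_option maxRecDepth 100000 in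
theorem transv6 : lat.transvChk 6 = true := by decide +kernel

set_option maxRecDepth 100000 in
theorem ctab6 : lat.ctabChk 6 = true := by decide +kernel

set_option maxRecDepth 100000 in
theorem trans6 : lat.transChk 6 = true := by decide +kernel

set_option maxRecDepth 100000 in
theorem transv10 : lat.transvChk 10 = true := by decide +kernel

set_option maxRecDepth 100000 in
theorem ctab10 : lat.ctabChk 10 = true := by decide +kernel

set_option maxRecDepth 100000 in
theorem trans10 : lat.transChk 10 = true := by decide +kernel

end Cfsg.Agent.Lib.Helper86_A8Lat7
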