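import Mathlib
import Cfsg.Agent.Lib.Helper86_A8Lat
import Cfsg.Agent.Lib.Helper86_A8Bad

/-!
Further certificates for subgroups of the symmetric group of degree eight given by generators:
evenness of the generators, lower bounds for the order, and an isomorphism with the group of the
invertible matrices of degree three over the field of two elements acting on the eight vectors.
-/

set_option autoImplicit false

namespace Cfsg.Agent.Lib.Helper86_A8Lin

open Cfsg.Agent.Lib.Helper86_PackPerm Cfsg.Agent.Lib.Helper86_A8Lat Cfsg.Agent.Lib.Helper86_A8Bad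
open Equiv

/-! ### Evenness -/

/-- the product of the transpositions coded by the entries `8 a + b` -/
def swapProd (l : List ℕ) : ℕ :=
  l.foldr (fun c acc => pmul (pswap (c / 8 % 8) (c % 8)) acc) pid

/-- the number `t` is the product of an even number of transpositions -/
def evenChk (t : ℕ) (l : List ℕ) : Bool :=
  l.all (fun c => c / 8 % 8 != c % 8) && (l.length % 2 == 0) && (swapProd l == t)

/-- the permutation coded by an entry -/
def swapOf (c : ℕ) : Perm (Fin 8) := swap (Fin.ofNat 8 (c / 8)) (Fin.ofNat 8 c)

theorem pack_prod_swapOf (l : List ℕ) : pack (l.map swapOf).prod = swapProd l := by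
  induction l with
  | nil => simp [swapProd, pack_one]
  | cons c l ih =>
    rw [List.map_cons, List.prod_cons, pack_mul, ih]
    unfold swapOf
    rw [pack_swap]
    rfl

theorem mem_alt_of_evenChk {t : ℕ} {l : List ℕ} (h : evenChk t l = true) {σ : Perm (Fin 8)}
    (hσ : pack σ = t) : σ ∈ alternatingGroup (Fin 8) := by
  unfold evenChk at h
  rw [Bool.and_eq_true, Bool.and_eq_true, List.all_eq_true, beq_iff_eq, beq_iff_eq] at h
  obtain ⟨⟨h1, h2⟩, h3⟩ := h
  have e : σ = (l.map swapOf).prod := by
    apply pack_injective
    rw [pack_prod_swapOf, h3, hσ]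
  rw [e, Perm.prod_list_swap_mem_alternatingGroup_iff_even_length]
  · rw [List.length_map]
    exact Nat.even_iff.2 h2
  · intro g hg
    obtain ⟨c, hc, rfl⟩ := List.mem_map.1 hg
    have := h1 c hc
    rw [bne_iff_ne] at this
    refine ⟨_, _, ?_, rfl⟩
    intro e'
    apply this
    exact congrArg Fin.val e'

/-- the generators are even -/
def evenAll (E : List (ℕ × List ℕ)) : Bool := E.all fun p => evenChk p.1 p.2

theorem kgrp_le_alt {E : List (ℕ × List ℕ)} (h : evenAll E = true) :
    Kgrp (E.map (·.1)) ≤ alternatingGroup (Fin 8) := by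
  unfold Kgrp
  rw [Subgroup.closure_le]
  intro σ hσ
  have h1 : pack σ ∈ E.map (·.1) := hσ
  obtain ⟨p, hp, e⟩ := List.mem_map.1 h1
  unfold evenAll at h
  rw [List.all_eq_true] at h
  exact mem_alt_of_evenChk (h p hp) e.symm

/-! ### Lower bounds for the order -/

/-- strictly increasing -/
def incr : List ℕ → Bool
  | a :: b :: l => decide (a < b) && incr (b :: l)
  | _ => true

theorem pairwise_of_incr {l : List ℕ} (h : incr l = true) : l.Pairwise (· < ·) := by
  rw [← List.isChain_iff_pairwise]
  induction l using incr.induct with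
  | case1 a b l ih =>
    unfold incr at h
    rw [Bool.and_eq_true, decide_eq_true_eq] at h
    exact List.IsChain.cons_cons h.1 (ih h.2)
  | case2 l hl =>
    cases l with
    | nil => exact List.IsChain.nil
    | cons a l =>
      cases l with
      | nil => exact List.IsChain.singleton a
      | cons b l => exact absurd rfl (hl a b l)

/-- distinct elements given by words bound the order from below -/
theorem length_le_card {SL : List ℕ} {NW : List (ℕ × ℕ × ℕ)} (hl : lettersOK SL = true)
    (hw : wordsChk SL NW = true) (hi : incr (NW.map (·.1)) = true) :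
    NW.length ≤ Nat.card (Kgrp (evens SL)) := by
  have hle := kgrp_le_of_wordsChk hl hw
  have hnd : (NW.map (·.1)).Nodup := (pairwise_of_incr hi).imp (fun h => Nat.ne_of_lt h)
  unfold wordsChk at hw
  rw [List.all_eq_true] at hw
  have hex : ∀ i : Fin NW.length, ∃ σ : Kgrp (evens SL), pack σ.1 = (NW[i]).1 := by
    intro i
    obtain ⟨τ, hτ, eτ⟩ := evw_mem (lettersIn_of_lettersOK hl) (NW[i]).2.1 (NW[i]).2.2
    have := hw _ (List.getElem_mem i.isLt)
    rw [beq_iff_eq] at this
    exact ⟨⟨τ, hτ⟩, by rw [eτ]; exact this⟩
  choose f hf using hex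
  have hinj : Function.Injective f := by
    intro i j hij
    have h1 : (NW[i]).1 = (NW[j]).1 := by rw [← hf i, ← hf j, hij]
    have h2 : (NW.map (·.1))[i.val]'(by simp) = (NW.map (·.1))[j.val]'(by simp) := by
      simpa using h1
    exact Fin.ext ((hnd.getElem_inj_iff).1 h2)
  have := Nat.card_le_card_of_injective f hinj
  simpa using this

/-! ### The linear group -/

/-- the numbering of the vectors by their bits -/
def numE : (Fin 3 → ZMod 2) ≃ Fin 8 where
  toFun v := ⟨(v 0).val + 2 * (v 1).val + 4 * (v 2).val, by
    have h0 := ZMod.val_lt (v 0)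
    have h1 := ZMod.val_lt (v 1)
    have h2 := ZMod.val_lt (v 2)
    omega⟩
  invFun k := fun i => ((k.val / 2 ^ i.val % 2 : ℕ) : ZMod 2)
  left_inv := by decide
  right_inv := by decide

/-- the action of the invertible matrices on the vectors -/
def Psi0 : GL (Fin 3) (ZMod 2) →* Perm (Fin 3 → ZMod 2) where
  toFun M :=
    { toFun := fun v => M.val.mulVec v
      invFun := fun v => M⁻¹.val.mulVec v
      left_inv := fun v => by
        change M⁻¹.val.mulVec (M.val.mulVec v) = v
        rw [Matrix.mulVec_mulVec, ← Units.val_mul, inv_mul_cancel, Units.val_one, Matrix.one_mulVec]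
      right_inv := fun v => by
        change M.val.mulVec (M⁻¹.val.mulVec v) = v
        rw [Matrix.mulVec_mulVec, ← Units.val_mul, mul_inv_cancel, Units.val_one,
          Matrix.one_mulVec] }
  map_one' := by
    ext v
    simp
  map_mul' M N := by
    ext v
    simp [Matrix.mulVec_mulVec]

theorem Psi0_injective : Function.Injective Psi0 := by
  intro M N h
  apply Units.ext
  apply Matrix.mulVec_injective
  funext v
  exact congrArg (fun σ : Perm (Fin 3 → ZMod 2) => σ v) h

/-- the action of the invertible matrices on the numbers of the vectors -/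
def Psi : GL (Fin 3) (ZMod 2) →* Perm (Fin 8) := (permCongrHom numE).toMonoidHom.comp Psi0

theorem Psi_injective : Function.Injective Psi := by
  unfold Psi
  exact (permCongrHom numE).injective.comp Psi0_injective

theorem Psi_apply (M : GL (Fin 3) (ZMod 2)) (x : Fin 8) :
    Psi M x = numE (M.val.mulVec (numE.symm x)) := rfl

theorem card_GL3 : Nat.card (GL (Fin 3) (ZMod 2)) = 168 := by
  rw [Matrix.card_GL_field, ZMod.card, Fin.prod_univ_three]
  rfl

/-- the isomorphism with the linear group -/
theorem lin_iso {TL : List ℕ}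
    (hgen : ∀ t ∈ evens TL, ∃ M : GL (Fin 3) (ZMod 2), ∀ x : Fin 8, (Psi M x).val = pget t x.val)
    (hcard : 168 ≤ Nat.card (Kgrp (evens TL))) :
    Nonempty (Kgrp (evens TL) ≃* GL (Fin 3) (ZMod 2)) := by
  have hle : Kgrp (evens TL) ≤ Psi.range := by
    unfold Kgrp
    rw [Subgroup.closure_le]
    intro σ hσ
    obtain ⟨M, hM⟩ := hgen _ hσ
    refine ⟨M, ?_⟩
    ext x
    rw [hM x, pget_pack]
  have e1 : GL (Fin 3) (ZMod 2) ≃* Psi.range := MonoidHom.ofInjective Psi_injective
  have hc : Nat.card Psi.range = 168 := by
    rw [← Nat.card_congr e1.toEquiv, card_GL3]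
  have heq : Kgrp (evens TL) = Psi.range := Subgroup.eq_of_le_of_card_ge hle (by rw [hc]; exact hcard)
  exact ⟨(MulEquiv.subgroupCongr heq).trans e1.symm⟩

end Cfsg.Agent.Lib.Helper86_A8Lin
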