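import Mathlib
import Cfsg.Agent.Lib.Helper86_A8Lat

/-!
A certificate for an isomorphism between two subgroups of the symmetric group of degree eight given
by generators: a list of pairs that contains the pair of identities, is closed under left
multiplication by the pairs of generators, and in which a pair has the identity as first component
exactly if it has it as second component.
-/

set_option autoImplicit false

namespace Cfsg.Agent.Lib.Helper86_A8Pair

open Cfsg.Agent.Lib.Helper86_PackPerm Cfsg.Agent.Lib.Helper86_A8Lat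
open Equiv

/-- the code of a pair -/
def pcode (s t : ℕ) : ℕ := s + 16777216 * t

/-- first component -/
def pfst (e : ℕ) : ℕ := e % 16777216

/-- second component -/
def psnd (e : ℕ) : ℕ := e / 16777216

theorem pfst_pcode {s t : ℕ} (hs : s < 16777216) : pfst (pcode s t) = s := by
  unfold pfst pcode
  omega

theorem psnd_pcode {s t : ℕ} (hs : s < 16777216) : psnd (pcode s t) = t := by
  unfold psnd pcode
  omega

theorem pcode_pfst_psnd (e : ℕ) : pcode (pfst e) (psnd e) = e := by
  unfold pfst psnd pcode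
  omega

theorem pack_lt' (σ : Perm (Fin 8)) : pack σ < 16777216 := by
  have := pack_lt σ
  norm_num at this
  exact this

/-- the pairs of permutations with codes in the list -/
def pairSet (GP : List ℕ) : Set (Perm (Fin 8) × Perm (Fin 8)) :=
  {x | pcode (pack x.1) (pack x.2) ∈ GP}

/-- the subgroup generated by the pairs -/
def Dgrp (GP : List ℕ) : Subgroup (Perm (Fin 8) × Perm (Fin 8)) := Subgroup.closure (pairSet GP)

/-- the check -/
def pairChk (GP Γ : List ℕ) : Bool :=
  GP.all (fun g => pvalid (pfst g) && pvalid (psnd g)) &&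
  Γ.contains (pcode pid pid) &&
  GP.all (fun g => Γ.all fun e =>
    Γ.contains (pcode (pmul (pfst g) (pfst e)) (pmul (psnd g) (psnd e)))) &&
  Γ.all (fun e => (pfst e == pid) == (psnd e == pid))

theorem code_mem {GP Γ : List ℕ} (h : pairChk GP Γ = true) {x : Perm (Fin 8) × Perm (Fin 8)}
    (hx : x ∈ Dgrp GP) : pcode (pack x.1) (pack x.2) ∈ Γ := by
  unfold pairChk at h
  simp only [Bool.and_eq_true, List.all_eq_true, List.contains_iff_mem] at h
  obtain ⟨⟨⟨-, h1⟩, h2⟩, -⟩ := h
  have hx' : x ∈ Submonoid.closure (pairSet GP) := by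
    rw [← Subgroup.closure_toSubmonoid_of_finite]
    exact hx
  induction hx' using Submonoid.closure_induction_left with
  | one =>
    change pcode (pack 1) (pack 1) ∈ Γ
    rw [pack_one]
    exact h1
  | mul_left g hg y hy ih =>
    have := h2 _ hg _ (ih (by
      rw [Dgrp, ← Subgroup.mem_toSubmonoid, Subgroup.closure_toSubmonoid_of_finite]
      exact hy))
    rw [pfst_pcode (pack_lt' _), psnd_pcode (pack_lt' _), pfst_pcode (pack_lt' _),
      psnd_pcode (pack_lt' _), ← pack_mul, ← pack_mul] at this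
    exact this

theorem eq_one_iff {GP Γ : List ℕ} (h : pairChk GP Γ = true) {x : Perm (Fin 8) × Perm (Fin 8)}
    (hx : x ∈ Dgrp GP) : x.1 = 1 ↔ x.2 = 1 := by
  have hm := code_mem h hx
  unfold pairChk at h
  simp only [Bool.and_eq_true, List.all_eq_true] at h
  have h1 := h.2 _ hm
  rw [pfst_pcode (pack_lt' _), psnd_pcode (pack_lt' _), beq_iff_eq] at h1
  constructor
  · intro e
    have : (pack x.1 == pid) = true := by
      rw [e, pack_one]
      exact beq_self_eq_true _
    rw [this] at h1
    have h2 := h1.symm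
    rw [beq_iff_eq, ← pack_one] at h2
    exact pack_injective h2
  · intro e
    have : (pack x.2 == pid) = true := by
      rw [e, pack_one]
      exact beq_self_eq_true _
    rw [this, beq_iff_eq, ← pack_one] at h1
    exact pack_injective h1

theorem map_fst_eq {GP Γ : List ℕ} (h : pairChk GP Γ = true) :
    (Dgrp GP).map (MonoidHom.fst _ _) = Kgrp (GP.map pfst) := by
  unfold pairChk at h
  simp only [Bool.and_eq_true, List.all_eq_true] at h
  obtain ⟨⟨⟨h0, -⟩, -⟩, -⟩ := h
  unfold Dgrp Kgrp
  rw [MonoidHom.map_closure]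
  congr 1
  ext σ
  constructor
  · rintro ⟨x, hx, rfl⟩
    change pack x.1 ∈ GP.map pfst
    rw [List.mem_map]
    exact ⟨_, hx, pfst_pcode (pack_lt' _)⟩
  · intro hσ
    have hσ' : pack σ ∈ GP.map pfst := hσ
    obtain ⟨g, hg, e⟩ := List.mem_map.1 hσ'
    obtain ⟨τ, hτ⟩ := exists_of_pvalid (h0 g hg).2
    refine ⟨(σ, τ), ?_, rfl⟩
    change pcode (pack σ) (pack τ) ∈ GP
    rw [← e, hτ, pcode_pfst_psnd]
    exact hg

theorem map_snd_eq {GP Γ : List ℕ} (h : pairChk GP Γ = true) :
    (Dgrp GP).map (MonoidHom.snd _ _) = Kgrp (GP.map psnd) := by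
  unfold pairChk at h
  simp only [Bool.and_eq_true, List.all_eq_true] at h
  obtain ⟨⟨⟨h0, -⟩, -⟩, -⟩ := h
  unfold Dgrp Kgrp
  rw [MonoidHom.map_closure]
  congr 1
  ext τ
  constructor
  · rintro ⟨x, hx, rfl⟩
    change pack x.2 ∈ GP.map psnd
    rw [List.mem_map]
    exact ⟨_, hx, psnd_pcode (pack_lt' _)⟩
  · intro hτ
    have hτ' : pack τ ∈ GP.map psnd := hτ
    obtain ⟨g, hg, e⟩ := List.mem_map.1 hτ'
    obtain ⟨σ, hσ⟩ := exists_of_pvalid (h0 g hg).1
    refine ⟨(σ, τ), ?_, rfl⟩
    change pcode (pack σ) (pack τ) ∈ GP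
    rw [← e, hσ, pcode_pfst_psnd]
    exact hg

/-- the isomorphism given by a certificate -/
theorem pair_iso {GP Γ : List ℕ} (h : pairChk GP Γ = true) :
    Nonempty (Kgrp (GP.map pfst) ≃* Kgrp (GP.map psnd)) := by
  have i1 : Function.Injective ((MonoidHom.fst (Perm (Fin 8)) (Perm (Fin 8))).comp (Dgrp GP).subtype) := by
    rw [injective_iff_map_eq_one]
    intro x hx
    have h1 : x.1.1 = 1 := hx
    have h2 := (eq_one_iff h x.2).1 h1
    exact Subtype.ext (Prod.ext h1 h2)
  have i2 : Function.Injective ((MonoidHom.snd (Perm (Fin 8)) (Perm (Fin 8))).comp (Dgrp GP).subtype) := by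
    rw [injective_iff_map_eq_one]
    intro x hx
    have h2 : x.1.2 = 1 := hx
    have h1 := (eq_one_iff h x.2).2 h2
    exact Subtype.ext (Prod.ext h1 h2)
  have e1 := MonoidHom.ofInjective i1
  have e2 := MonoidHom.ofInjective i2
  rw [MonoidHom.range_comp, Subgroup.range_subtype, map_fst_eq h] at e1
  rw [MonoidHom.range_comp, Subgroup.range_subtype, map_snd_eq h] at e2
  exact ⟨e1.symm.trans e2⟩

end Cfsg.Agent.Lib.Helper86_A8Pair
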