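import Mathlib
import Cfsg.Agent.Lib.Helper86_A8Lat

/-!
Subgroups of the alternating group of degree eight, given by generators, that preserve a set of
points, act faithfully on it and induce all even, or all, permutations of it: certificates for an
isomorphism with the alternating or the symmetric group of the degree of the set.
-/

set_option autoImplicit false

namespace Cfsg.Agent.Lib.Helper86_A8Restr

open Cfsg.Agent.Lib.Helper86_PackPerm Cfsg.Agent.Lib.Helper86_A8Lat
open Equiv

/-! ### Generalities on permutations -/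

theorem eq_one_of_fix_all_but_two {α : Type*} [DecidableEq α] [Fintype α] {σ : Perm α} (a b : α)
    (h : ∀ x, x ≠ a → x ≠ b → σ x = x) (hs : Perm.sign σ = 1) : σ = 1 := by
  have hsupp : σ.support ⊆ {a, b} := by
    intro x hx
    rw [Perm.mem_support] at hx
    by_contra hne
    simp only [Finset.mem_insert, Finset.mem_singleton, not_or] at hne
    exact hx (h x hne.1 hne.2)
  have hcard : σ.support.card ≤ 2 := (Finset.card_le_card hsupp).trans Finset.card_le_two
  have h1 : σ.support.card ≠ 1 := Perm.card_support_ne_one σ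
  have h2 : σ.support.card ≠ 2 := by
    intro h2
    have := (Perm.card_support_eq_two.1 h2).sign_eq
    rw [hs] at this
    exact absurd this (by decide)
  have h0 : σ.support.card = 0 := by omega
  exact Perm.card_support_eq_zero.1 h0

theorem swap_mul_swap_mem {α : Type*} [DecidableEq α] {R : Subgroup (Perm α)}
    (h : ∀ a b c : α, a ≠ b → a ≠ c → swap a b * swap a c ∈ R) {σ τ : Perm α}
    (hσ : σ.IsSwap) (hτ : τ.IsSwap) : σ * τ ∈ R := by
  obtain ⟨a, b, ab, rfl⟩ := hσ
  obtain ⟨c, d, cd, rfl⟩ := hτ
  by_cases ac : a = c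
  · subst ac
    exact h a b d ab cd
  have h' : swap a b * swap c d = swap a b * swap a c * (swap c a * swap c d) := by
    simp [swap_comm c a, mul_assoc]
  rw [h']
  exact R.mul_mem (h a b c ab ac) (h c a d (Ne.symm ac) cd)

/-- a subgroup that contains the products of two transpositions with a common point contains the
alternating group -/
theorem alternatingGroup_le_of_swap_mul_swap {α : Type*} [DecidableEq α] [Fintype α]
    {R : Subgroup (Perm α)} (h : ∀ a b c : α, a ≠ b → a ≠ c → swap a b * swap a c ∈ R) :
    alternatingGroup α ≤ R := by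
  intro σ hσ
  suffices hind : ∀ (n : ℕ) (l : List (Perm α)) (_ : ∀ g, g ∈ l → g.IsSwap)
      (_ : l.length = 2 * n), l.prod ∈ R by
    obtain ⟨l, rfl, hl'⟩ := Perm.truncSwapFactors σ
    obtain ⟨n, hn⟩ := (Perm.prod_list_swap_mem_alternatingGroup_iff_even_length hl').1 hσ
    rw [← two_mul] at hn
    exact hind n l hl' hn
  intro n
  induction n with
  | zero =>
    intro l _ hn
    simp [List.length_eq_zero_iff.1 hn]
  | succ n ih =>
    intro l hl' hn
    rw [Nat.mul_succ] at hn
    obtain ⟨a, l, rfl⟩ := l.exists_of_length_succ hn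
    rw [List.length_cons, Nat.succ_inj] at hn
    obtain ⟨b, l, rfl⟩ := l.exists_of_length_succ hn
    rw [List.prod_cons, List.prod_cons, ← mul_assoc]
    apply R.mul_mem
    · exact swap_mul_swap_mem h (hl' a (by simp)) (hl' b (by simp))
    · apply ih l (fun g hg => hl' g (by simp [hg]))
      simpa using hn

/-! ### The set of points and the restriction -/

/-- membership in the set with the bitmask `m` -/
def inY (m x : ℕ) : Bool := m / 2 ^ x % 2 == 1

/-- the points of the set with the bitmask `m` -/
abbrev Ysub (m : ℕ) : Type := {x : Fin 8 // inY m x.val = true}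

/-- the permutations of the list preserve the set -/
def presChk (m : ℕ) (GG : List ℕ) : Bool :=
  GG.all fun s => allF (fun x => inY m (pget s x) == inY m x) 8

/-- the permutations of the list fix the points outside the set other than `a` and `b` -/
def fixChk (m a b : ℕ) (GG : List ℕ) : Bool :=
  allF (fun x => inY m x || x == a || x == b || GG.all fun s => pget s x == x) 8

theorem pres_of_chk {m : ℕ} {GG : List ℕ} (h : presChk m GG = true) {σ : Perm (Fin 8)}
    (hσ : σ ∈ Kgrp GG) (x : Fin 8) : inY m (σ x).val = true ↔ inY m x.val = true := by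
  unfold presChk at h
  rw [List.all_eq_true] at h
  unfold Kgrp at hσ
  induction hσ using Subgroup.closure_induction generalizing x with
  | mem y hy =>
    have h1 := h _ hy
    rw [allF_eq_true] at h1
    have h2 := h1 x.val x.isLt
    rw [beq_iff_eq, pget_pack] at h2
    rw [h2]
  | one => simp
  | mul a b _ _ iha ihb =>
    rw [Perm.mul_apply, iha, ihb]
  | inv a _ iha =>
    have := iha (a⁻¹ x)
    rw [show a (a⁻¹ x) = x by simp] at this
    exact this.symm

theorem fix_of_chk {m a b : ℕ} {GG : List ℕ} (h : fixChk m a b GG = true) {σ : Perm (Fin 8)}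
    (hσ : σ ∈ Kgrp GG) (x : Fin 8) (hx : inY m x.val = false) (hxa : x.val ≠ a)
    (hxb : x.val ≠ b) : σ x = x := by
  unfold fixChk at h
  rw [allF_eq_true] at h
  have h1 := h x.val x.isLt
  simp only [Bool.or_eq_true, hx, beq_iff_eq, hxa, hxb, or_self, false_or, Bool.false_eq_true,
    List.all_eq_true] at h1
  unfold Kgrp at hσ
  induction hσ using Subgroup.closure_induction with
  | mem y hy =>
    have h2 := h1 _ hy
    rw [pget_pack] at h2
    exact Fin.ext h2
  | one => simp
  | mul a b _ _ iha ihb => rw [Perm.mul_apply, ihb, iha]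
  | inv a _ iha =>
    rw [Perm.inv_eq_iff_eq]
    exact iha.symm

/-- the restriction to the set -/
def restr {m : ℕ} {GG : List ℕ} (h : presChk m GG = true) : Kgrp GG →* Perm (Ysub m) where
  toFun σ := σ.1.subtypePerm fun x => pres_of_chk h σ.2 x
  map_one' := by
    ext y
    rfl
  map_mul' σ τ := by
    ext y
    rfl

theorem restr_apply {m : ℕ} {GG : List ℕ} (h : presChk m GG = true) (σ : Kgrp GG) (y : Ysub m) :
    ((restr h σ) y).val = σ.1 y.val := rfl

theorem restr_injective {m a b : ℕ} {GG : List ℕ} (h : presChk m GG = true)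
    (hf : fixChk m a b GG = true) (hK : Kgrp GG ≤ alternatingGroup (Fin 8)) :
    Function.Injective (restr h) := by
  rw [injective_iff_map_eq_one]
  intro σ hσ
  apply Subtype.ext
  by_cases ha : a < 8
  · by_cases hb : b < 8
    · apply eq_one_of_fix_all_but_two (⟨a, ha⟩ : Fin 8) ⟨b, hb⟩
      · intro x hxa hxb
        by_cases hx : inY m x.val = true
        · have := restr_apply h σ ⟨x, hx⟩
          rw [hσ] at this
          exact this.symm
        · rw [Bool.not_eq_true] at hx
          exact fix_of_chk hf σ.2 x hx (fun e => hxa (Fin.ext e)) (fun e => hxb (Fin.ext e))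
      · exact Perm.mem_alternatingGroup.1 (hK σ.2)
    · apply eq_one_of_fix_all_but_two (⟨a, ha⟩ : Fin 8) ⟨a, ha⟩
      · intro x hxa _
        by_cases hx : inY m x.val = true
        · have := restr_apply h σ ⟨x, hx⟩
          rw [hσ] at this
          exact this.symm
        · rw [Bool.not_eq_true] at hx
          exact fix_of_chk hf σ.2 x hx (fun e => hxa (Fin.ext e)) (fun e => hb (e ▸ x.isLt))
      · exact Perm.mem_alternatingGroup.1 (hK σ.2)
  · by_cases hb : b < 8
    · apply eq_one_of_fix_all_but_two (⟨b, hb⟩ : Fin 8) ⟨b, hb⟩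
      · intro x hxb _
        by_cases hx : inY m x.val = true
        · have := restr_apply h σ ⟨x, hx⟩
          rw [hσ] at this
          exact this.symm
        · rw [Bool.not_eq_true] at hx
          exact fix_of_chk hf σ.2 x hx (fun e => ha (e ▸ x.isLt)) (fun e => hxb (Fin.ext e))
      · exact Perm.mem_alternatingGroup.1 (hK σ.2)
    · ext x
      by_cases hx : inY m x.val = true
      · have := restr_apply h σ ⟨x, hx⟩
        rw [hσ] at this
        simpa using congrArg Fin.val this.symm
      · rw [Bool.not_eq_true] at hx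
        have := fix_of_chk hf σ.2 x hx (fun e => ha (e ▸ x.isLt)) (fun e => hb (e ▸ x.isLt))
        simpa using congrArg Fin.val this

/-- two permutations agree on the set -/
def restrEq (m u v : ℕ) : Bool := allF (fun y => !inY m y || pget u y == pget v y) 8

theorem coe_swap_apply {m : ℕ} (a b y : Ysub m) :
    ((swap a b) y).val = swap a.val b.val y.val := by
  simp only [swap_apply_def]
  split_ifs <;> simp_all [Subtype.ext_iff]

/-- a permutation of the group whose number agrees on the set with the number of `τ` restricts to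
the restriction of `τ` -/
theorem restr_eq_of_restrEq {m : ℕ} {GG : List ℕ} (h : presChk m GG = true) (σ : Kgrp GG)
    (τ : Perm (Fin 8)) (he : restrEq m (pack σ.1) (pack τ) = true) (y : Ysub m) :
    ((restr h σ) y).val = τ y.val := by
  rw [restr_apply]
  unfold restrEq at he
  rw [allF_eq_true] at he
  have h1 := he y.val.val y.val.isLt
  rw [Bool.or_eq_true, Bool.not_eq_true', beq_iff_eq, pget_pack, pget_pack] at h1
  rcases h1 with h1 | h1
  · rw [y.2] at h1
    exact absurd h1 (by decide)
  · exact Fin.ext h1

/-! ### Alternating groups -/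

/-- entry `64 a + 8 b + c` of the table is a word whose value agrees with `(a b)(a c)` on the set,
for `a`, `b`, `c` in the set -/
def altChk (m : ℕ) (SL : List ℕ) (L3 T3 : ℕ) : Bool :=
  allF (fun k =>
    forceN (ent T3 (8 + 4 * L3) k) fun e =>
      !(inY m (k / 64) && inY m (k / 8 % 8) && inY m (k % 8)) ||
      (k / 64 == k / 8 % 8) || (k / 64 == k % 8) || (k / 8 % 8 == k % 8) ||
        restrEq m (evw SL (e >>> 8) (e % 256))
          (pmul (pswap (k / 64) (k / 8 % 8)) (pswap (k / 64) (k % 8))))
    512

theorem swap_mul_swap_mem_range {m : ℕ} {SL : List ℕ} {L3 T3 : ℕ} (hl : lettersOK SL = true)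
    (hp : presChk m (evens SL) = true) (ht : altChk m SL L3 T3 = true) (a b c : Ysub m)
    (hab : a ≠ b) (hac : a ≠ c) : swap a b * swap a c ∈ (restr hp).range := by
  by_cases hbc : b = c
  · subst hbc
    rw [swap_mul_self]
    exact Subgroup.one_mem _
  unfold altChk at ht
  rw [allF_eq_true] at ht
  have h1 := ht (64 * a.val.val + 8 * b.val.val + c.val.val) (by omega)
  rw [forceN_eq] at h1
  have e1 : (64 * a.val.val + 8 * b.val.val + c.val.val) / 64 = a.val.val := by omega
  have e2 : (64 * a.val.val + 8 * b.val.val + c.val.val) / 8 % 8 = b.val.val := by omega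
  have e3 : (64 * a.val.val + 8 * b.val.val + c.val.val) % 8 = c.val.val := by omega
  rw [e1, e2, e3] at h1
  simp only [Bool.or_eq_true, beq_iff_eq, a.2, b.2, c.2, Bool.and_self, Bool.not_true,
    Bool.false_eq_true, false_or] at h1
  rcases h1 with ((h1 | h1) | h1) | h1
  · exact absurd (Subtype.ext (Fin.ext h1)) hab
  · exact absurd (Subtype.ext (Fin.ext h1)) hac
  · exact absurd (Subtype.ext (Fin.ext h1)) hbc
  · obtain ⟨τ, hτ, eτ⟩ := evw_mem (lettersIn_of_lettersOK hl)
      ((ent T3 (8 + 4 * L3) (64 * a.val.val + 8 * b.val.val + c.val.val)) >>> 8)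
      ((ent T3 (8 + 4 * L3) (64 * a.val.val + 8 * b.val.val + c.val.val)) % 256)
    rw [← eτ, ← pack_swap, ← pack_swap, ← pack_mul] at h1
    refine ⟨⟨τ, hτ⟩, ?_⟩
    ext y
    rw [restr_eq_of_restrEq hp ⟨τ, hτ⟩ _ h1 y, Perm.mul_apply, Perm.mul_apply, coe_swap_apply,
      coe_swap_apply]

theorem range_restr_le_alt {m a b : ℕ} {GG : List ℕ} (h : presChk m GG = true)
    (hf : fixChk m a b GG = true) (ha : inY m a = true) (hb : inY m b = true)
    (hK : Kgrp GG ≤ alternatingGroup (Fin 8)) : (restr h).range ≤ alternatingGroup (Ysub m) := by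
  rintro _ ⟨σ, rfl⟩
  rw [Perm.mem_alternatingGroup]
  have : Perm.sign (restr h σ) = Perm.sign σ.1 := by
    refine Perm.sign_subtypePerm σ.1 (fun x => pres_of_chk h σ.2 x) ?_
    intro x hx
    by_contra hxY
    rw [Bool.not_eq_true] at hxY
    apply hx
    apply fix_of_chk hf σ.2 x hxY
    · intro e
      rw [e, ha] at hxY
      exact absurd hxY (by decide)
    · intro e
      rw [e, hb] at hxY
      exact absurd hxY (by decide)
  rw [this]
  exact Perm.mem_alternatingGroup.1 (hK σ.2)

/-- the isomorphism with an alternating group -/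
theorem alt_iso {m a b k : ℕ} {SL : List ℕ} {L3 T3 : ℕ} (hl : lettersOK SL = true)
    (hK : Kgrp (evens SL) ≤ alternatingGroup (Fin 8))
    (hp : presChk m (evens SL) = true) (hf : fixChk m a b (evens SL) = true)
    (ha : inY m a = true) (hb : inY m b = true)
    (ht : altChk m SL L3 T3 = true) (hk : Fintype.card (Ysub m) = k) :
    Nonempty (Kgrp (evens SL) ≃* alternatingGroup (Fin k)) := by
  have hrange : (restr hp).range = alternatingGroup (Ysub m) := by
    apply le_antisymm (range_restr_le_alt hp hf ha hb hK)
    apply alternatingGroup_le_of_swap_mul_swap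
    intro x y z hxy hxz
    exact swap_mul_swap_mem_range hl hp ht x y z hxy hxz
  have e1 : Kgrp (evens SL) ≃* (restr hp).range := MonoidHom.ofInjective (restr_injective hp hf hK)
  have e2 : (restr hp).range ≃* alternatingGroup (Ysub m) := MulEquiv.subgroupCongr hrange
  have e3 : Ysub m ≃ Fin k := Fintype.equivFinOfCardEq hk
  exact ⟨(e1.trans e2).trans (altCongrHom e3)⟩

/-! ### Symmetric groups -/

/-- entry `8 a + b` of the table is a word whose value agrees with `(a b)` on the set, for `a`, `b`
in the set -/
def symChk (m : ℕ) (SL : List ℕ) (L2 T2 : ℕ) : Bool :=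
  allF (fun k =>
    forceN (ent T2 (8 + 4 * L2) k) fun e =>
      !(inY m (k / 8) && inY m (k % 8)) || (k / 8 == k % 8) ||
        restrEq m (evw SL (e >>> 8) (e % 256)) (pswap (k / 8) (k % 8)))
    64

theorem swap_mem_range {m : ℕ} {SL : List ℕ} {L2 T2 : ℕ} (hl : lettersOK SL = true)
    (hp : presChk m (evens SL) = true) (ht : symChk m SL L2 T2 = true) (a b : Ysub m)
    (hab : a ≠ b) : swap a b ∈ (restr hp).range := by
  unfold symChk at ht
  rw [allF_eq_true] at ht
  have h1 := ht (8 * a.val.val + b.val.val) (by omega)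
  rw [forceN_eq] at h1
  have e1 : (8 * a.val.val + b.val.val) / 8 = a.val.val := by omega
  have e2 : (8 * a.val.val + b.val.val) % 8 = b.val.val := by omega
  rw [e1, e2] at h1
  simp only [Bool.or_eq_true, beq_iff_eq, a.2, b.2, Bool.and_self, Bool.not_true,
    Bool.false_eq_true, false_or] at h1
  rcases h1 with h1 | h1
  · exact absurd (Subtype.ext (Fin.ext h1)) hab
  · obtain ⟨τ, hτ, eτ⟩ := evw_mem (lettersIn_of_lettersOK hl)
      ((ent T2 (8 + 4 * L2) (8 * a.val.val + b.val.val)) >>> 8)
      ((ent T2 (8 + 4 * L2) (8 * a.val.val + b.val.val)) % 256)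
    rw [← eτ, ← pack_swap] at h1
    refine ⟨⟨τ, hτ⟩, ?_⟩
    ext y
    rw [restr_eq_of_restrEq hp ⟨τ, hτ⟩ _ h1 y, coe_swap_apply]

/-- the isomorphism with a symmetric group -/
theorem sym_iso {m a b k : ℕ} {SL : List ℕ} {L2 T2 : ℕ} (hl : lettersOK SL = true)
    (hK : Kgrp (evens SL) ≤ alternatingGroup (Fin 8))
    (hp : presChk m (evens SL) = true) (hf : fixChk m a b (evens SL) = true)
    (ht : symChk m SL L2 T2 = true) (hk : Fintype.card (Ysub m) = k) :
    Nonempty (Kgrp (evens SL) ≃* Perm (Fin k)) := by
  have hrange : (restr hp).range = ⊤ := by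
    rw [eq_top_iff, ← Perm.closure_isSwap, Subgroup.closure_le]
    rintro _ ⟨x, y, hxy, rfl⟩
    exact swap_mem_range hl hp ht x y hxy
  have e1 : Kgrp (evens SL) ≃* (restr hp).range := MonoidHom.ofInjective (restr_injective hp hf hK)
  have e2 : (restr hp).range ≃* Perm (Ysub m) :=
    (MulEquiv.subgroupCongr hrange).trans Subgroup.topEquiv
  have e3 : Ysub m ≃ Fin k := Fintype.equivFinOfCardEq hk
  exact ⟨(e1.trans e2).trans (permCongrHom e3)⟩

end Cfsg.Agent.Lib.Helper86_A8Restr
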