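import Mathlib
import Cfsg.Agent.Lib.Helper1_D8Defs

/-!
# S3716 market (architect helper1), package SHAPE3 (aux form): shape 3 is impossible

`shape3_of` = the package statement with the conclusion of EXPL (for `R3`) as a hypothesis `hexpl`;
the verbatim wrapper is `shape3_of c hs (fun idx ε hinj hno hε hm hz => expl c R3 hR3 idx ε hinj hno hε hm hz)`.
-/

set_option autoImplicit false
set_option linter.unusedVariables false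
set_option linter.unusedSimpArgs false

namespace Cfsg.Agent.Lib.Helper86_D8_SHAPE3aux

open Cfsg Cfsg.Agent.Lib.Helper1_D8Defs

theorem hR3 : ∀ k, ∃ j, R3 k j = 1 ∨ R3 k j = -1 := by decide

/-- the rows of `R3` have pairwise distinct supports -/
theorem supp3 : ∀ k k' : Fin 7, k' ≠ k →
    ∃ j, (R3 k j = 0 ∧ R3 k' j ≠ 0) ∨ (R3 k j ≠ 0 ∧ R3 k' j = 0) := by decide

/-- no two rows of `R3` agree up to sign -/
theorem rows3 (ε : Fin 7 → ℤ) (hε : ∀ k, ε k = 1 ∨ ε k = -1) (k k' : Fin 7) (hk : k' ≠ k)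
    (h : ∀ j, ε k' * R3 k' j = ε k * R3 k j) : False := by
  obtain ⟨j, ⟨h0, h1⟩ | ⟨h0, h1⟩⟩ := supp3 k k' hk
  · have := h j
    rw [h0, mul_zero] at this
    rcases mul_eq_zero.mp this with e | e
    · rcases hε k' with e' | e' <;> omega
    · exact h1 e
  · have := h j
    rw [h1, mul_zero] at this
    rcases mul_eq_zero.mp this.symm with e | e
    · rcases hε k with e' | e' <;> omega
    · exact h0 e

/-- the arithmetic of the sign pattern (3b) -/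
theorem arith3b {D0 D1 D2 D4 D5 D6 h : ℕ} (p0 : 0 < D0) (p1 : 0 < D1) (p2 : 0 < D2) (p4 : 0 < D4)
    (p5 : 0 < D5) (c0 : D5 = 1 + D4 + D6)
    (E1 : (h : ℚ) * (1 + 4 / (D0 : ℚ) - 2 / (D1 : ℚ) + 1 / (D2 : ℚ) + 1 / (D4 : ℚ) - 1 / (D5 : ℚ)) = 9)
    (E2 : (h : ℚ) * (1 - 2 / (D0 : ℚ) + 4 / (D1 : ℚ) + 1 / (D2 : ℚ) + 1 / (D4 : ℚ) - 1 / (D5 : ℚ)) = 9)
    (hh : 10 ≤ h) : False := by
  have q0 : (0 : ℚ) < D0 := by exact_mod_cast p0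
  have q1 : (0 : ℚ) < D1 := by exact_mod_cast p1
  have q2 : (0 : ℚ) < D2 := by exact_mod_cast p2
  have q4 : (0 : ℚ) < D4 := by exact_mod_cast p4
  have q5 : (0 : ℚ) < D5 := by exact_mod_cast p5
  have qh : (10 : ℚ) ≤ h := by exact_mod_cast hh
  set x0 : ℚ := 1 / (D0 : ℚ) with hx0
  set x1 : ℚ := 1 / (D1 : ℚ) with hx1
  set x2 : ℚ := 1 / (D2 : ℚ) with hx2
  set x4 : ℚ := 1 / (D4 : ℚ) with hx4
  set x5 : ℚ := 1 / (D5 : ℚ) with hx5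
  have y0 : 0 < x0 := one_div_pos.mpr q0
  have y2 : 0 < x2 := one_div_pos.mpr q2
  have y45 : x5 < x4 := by
    apply one_div_lt_one_div_of_lt q4
    have : D4 < D5 := by omega
    exact_mod_cast this
  have E1' : (h : ℚ) * (1 + 4 * x0 - 2 * x1 + x2 + x4 - x5) = 9 := by
    rw [← E1, hx0, hx1, hx2, hx4, hx5]; ring
  have E2' : (h : ℚ) * (1 - 2 * x0 + 4 * x1 + x2 + x4 - x5) = 9 := by
    rw [← E2, hx0, hx1, hx2, hx4, hx5]; ring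
  have hsub : (h : ℚ) * (6 * (x0 - x1)) = 0 := by linear_combination E1' - E2'
  have h01 : x0 = x1 := by
    rcases mul_eq_zero.mp hsub with e | e
    · linarith
    · linarith
  rw [← h01] at E1'
  nlinarith [mul_nonneg (sub_nonneg.mpr qh) (by linarith : (0 : ℚ) ≤ 1 + 4 * x0 - 2 * x0 + x2 + x4 - x5)]

/-- the arithmetic of the sign pattern (3a), in terms of the inverses -/
theorem arith3a_aux {D0 D2 D3 D5 h : ℕ} (x0 x2 x5 : ℚ)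
    (E1 : (h : ℚ) * (1 - 2 * x0 - 2 * x2 + x5) = 9)
    (y0 : x0 ≤ 1 / 5) (y2 : x2 ≤ 1 / 17) (y5 : 0 < x5)
    (sq : 1 + (D0 ^ 2 + D0 ^ 2 + D2 ^ 2 + D3 ^ 2 + D2 ^ 2 + D5 ^ 2 + D3 ^ 2) ≤ 72 * h)
    (b0 : 5 ≤ D0) (b2 : 17 ≤ D2) (b3 : 6 ≤ D3) (b5 : 10 ≤ D5)
    (hmod : h % 9 = 1) (hne : h ≠ 1) : False := by
  have hlt : (h : ℚ) < 19 := by
    by_contra hcon
    push Not at hcon
    nlinarith [mul_nonneg (sub_nonneg.mpr hcon) (by linarith : (0 : ℚ) ≤ 1 - 2 * x0 - 2 * x2 + x5)]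
  have hlt' : h < 19 := by exact_mod_cast hlt
  have h10 : h = 10 := by omega
  have s0 : 25 ≤ D0 ^ 2 := by nlinarith
  have s2 : 289 ≤ D2 ^ 2 := by nlinarith
  have s3 : 36 ≤ D3 ^ 2 := by nlinarith
  have s5 : 100 ≤ D5 ^ 2 := by nlinarith
  rw [h10] at sq
  omega

/-- the arithmetic of the sign pattern (3a) -/
theorem arith3a {D0 D1 D2 D3 D4 D5 D6 h : ℕ} (p0 : 0 < D0) (p1 : 0 < D1) (p2 : 0 < D2) (p3 : 0 < D3)
    (p4 : 0 < D4) (p5 : 0 < D5) (p6 : 0 < D6)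
    (c0 : D4 = 1 + D5 + D6) (c1 : D2 = D1 + D3 + D6) (c2 : D2 = 1 + D3 + D5) (c3 : D4 = D0 + D3 + D6)
    (E1 : (h : ℚ) * (1 - 4 / (D0 : ℚ) + 2 / (D1 : ℚ) - 1 / (D2 : ℚ) - 1 / (D4 : ℚ) + 1 / (D5 : ℚ)) = 9)
    (E2 : (h : ℚ) * (1 + 2 / (D0 : ℚ) - 4 / (D1 : ℚ) - 1 / (D2 : ℚ) - 1 / (D4 : ℚ) + 1 / (D5 : ℚ)) = 9)
    (sq : 1 + (D0 ^ 2 + D1 ^ 2 + D2 ^ 2 + D3 ^ 2 + D4 ^ 2 + D5 ^ 2 + D6 ^ 2) ≤ 72 * h)
    (m0 : D0 % 9 = 5) (m2 : D2 % 9 = 8) (m3 : D3 % 9 = 6) (m5 : D5 % 9 = 1) (l5 : D5 ≠ 1)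
    (hmod : h % 9 = 1) (hne : h ≠ 1) : False := by
  have q0 : (0 : ℚ) < D0 := by exact_mod_cast p0
  have q1 : (0 : ℚ) < D1 := by exact_mod_cast p1
  have q2 : (0 : ℚ) < D2 := by exact_mod_cast p2
  have q5 : (0 : ℚ) < D5 := by exact_mod_cast p5
  have hh : 10 ≤ h := by omega
  have qh : (10 : ℚ) ≤ h := by exact_mod_cast hh
  have hsub : (h : ℚ) * (6 * (1 / (D1 : ℚ) - 1 / (D0 : ℚ))) = 0 := by linear_combination E1 - E2
  have h01 : 1 / (D0 : ℚ) = 1 / (D1 : ℚ) := by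
    rcases mul_eq_zero.mp hsub with e | e
    · linarith
    · linarith
  have hD01 : D0 = D1 := by
    have : (D0 : ℚ) = (D1 : ℚ) := by
      rw [one_div, one_div] at h01
      exact inv_injective h01
    exact_mod_cast this
  subst hD01
  -- the linear relations
  have r24 : D2 = D4 := by omega
  have r36 : D3 = D6 := by omega
  subst r24
  subst r36
  -- lower bounds
  have b5 : 10 ≤ D5 := by omega
  have b3 : 6 ≤ D3 := by omega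
  have b2 : 17 ≤ D2 := by omega
  have b0 : 5 ≤ D0 := by omega
  refine arith3a_aux (D0 := D0) (D2 := D2) (D3 := D3) (D5 := D5) (h := h)
    (1 / (D0 : ℚ)) (1 / (D2 : ℚ)) (1 / (D5 : ℚ)) ?_ ?_ ?_ (one_div_pos.mpr q5) sq b0 b2 b3 b5 hmod hne
  · rw [← E1]; ring
  · apply one_div_le_one_div_of_le (by norm_num)
    exact_mod_cast b0
  · apply one_div_le_one_div_of_le (by norm_num)
    exact_mod_cast b2


set_option maxHeartbeats 1600000 in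
/-- SHAPE3 in hypothesis form: shape 3 is impossible -/
theorem shape3_of {I : Type*} [Fintype I] [DecidableEq I] {o : I} {d : I → ℕ} {m : I → Fin 4 → ℤ} {ν : I → ℤ}
    {h : ℕ} (c : Core I o d m ν h) (hs : IsShape o m 7 R3)
    (hexpl : ∀ (idx : Fin 7 → I) (ε : Fin 7 → ℤ), Function.Injective idx → (∀ k, idx k ≠ o) →
      (∀ k, ε k = 1 ∨ ε k = -1) → (∀ k j, m (idx k) j = ε k * R3 k j) →
      (∀ i, i ≠ o → (∀ k, i ≠ idx k) → ∀ j, m i j = 0) →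
      (∀ j, (![1, 0, 1, 0] : Fin 4 → ℤ) j + ∑ k, (ε k * (d (idx k) : ℤ)) * R3 k j = 0) ∧
      ((h : ℚ) * (1 + ∑ k, ((pv (R3 k) : ℚ) ^ 2 * (qv (R3 k) : ℚ)) / ((ε k : ℚ) * (d (idx k) : ℚ))) = 9) ∧
      ((h : ℚ) * (1 + ∑ k, ((pv (R3 k) : ℚ) * (qv (R3 k) : ℚ) ^ 2) / ((ε k : ℚ) * (d (idx k) : ℚ))) = 9) ∧
      (1 + ∑ k, d (idx k) ^ 2 ≤ 72 * h) ∧
      (∀ j, (![1, 0, 1, 0] : Fin 4 → ℤ) j + ∑ k, ν (idx k) * ε k * R3 k j = 2) ∧
      (∀ k, (9 : ℤ) ∣ ε k * (d (idx k) : ℤ) + 4 * pv (R3 k) + 4 * qv (R3 k)) ∧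
      (∀ k, 0 < d (idx k)) ∧ (∀ k, d (idx k) ≠ 1) ∧
      (∀ k, ν (idx k) = 0 ∨ ν (idx k) = 1) ∧
      (∀ k, ν (idx k) = 0 → ∃ k', k' ≠ k ∧ (∀ j, ε k' * R3 k' j = ε k * R3 k j) ∧ ν (idx k') = 0)) :
    False := by
  obtain ⟨idx, ε, hinj, hno, hε, hm, hz⟩ := hs
  obtain ⟨hcol, he1, he2, hsq, hfs, h9, hpos, hne1, hν01, hν0⟩ :=
    hexpl idx ε hinj hno hε hm hz
  -- all indicators are `1`
  have hν1 : ∀ k, ν (idx k) = 1 := by
    intro k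
    rcases hν01 k with h0 | h1
    · exfalso
      obtain ⟨k', hk', hsame, -⟩ := hν0 k h0
      exact rows3 ε hε k k' hk' hsame
    · exact h1
  have f0 := hfs 0
  have f1 := hfs 1
  have f2 := hfs 2
  have f3 := hfs 3
  have c1 := hcol 0
  have c2 := hcol 1
  have c3 := hcol 2
  have c4 := hcol 3
  have n0 := h9 0
  have n2 := h9 2
  have n3 := h9 3
  have n5 := h9 5
  simp only [Fin.sum_univ_seven, hν1, one_mul] at f0 f1 f2 f3 c1 c2 c3 c4 he1 he2 hsq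
  simp [R3] at f0 f1 f2 f3
  have e0 := hε 0
  have e1 := hε 1
  have e2 := hε 2
  have e3 := hε 3
  have e4 := hε 4
  have e5 := hε 5
  have e6 := hε 6
  have hsg : (ε 0 = 1 ∧ ε 1 = 1 ∧ ε 2 = -1 ∧ ε 3 = 1 ∧ ε 4 = -1 ∧ ε 5 = 1 ∧ ε 6 = 1) ∨
      (ε 0 = -1 ∧ ε 1 = -1 ∧ ε 2 = 1 ∧ ε 3 = 1 ∧ ε 4 = 1 ∧ ε 5 = -1 ∧ ε 6 = 1) := by
    omega
  have hh : 10 ≤ h := by
    have := c.hmod
    have := c.hne
    omega
  rcases hsg with ⟨s0, s1, s2, s3, s4, s5, s6⟩ | ⟨s0, s1, s2, s3, s4, s5, s6⟩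
  · simp [R3, pv, qv, s0, s1, s2, s3, s4, s5, s6] at c1 c2 c3 c4 he1 he2 n0 n2 n3 n5
    refine arith3a (D0 := d (idx 0)) (D1 := d (idx 1)) (D2 := d (idx 2)) (D3 := d (idx 3))
      (D4 := d (idx 4)) (D5 := d (idx 5)) (D6 := d (idx 6)) (h := h)
      (hpos 0) (hpos 1) (hpos 2) (hpos 3) (hpos 4) (hpos 5) (hpos 6)
      (by omega) (by omega) (by omega) (by omega) ?_ ?_ hsq
      (by omega) (by omega) (by omega) (by omega) (hne1 5) c.hmod c.hne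
    · rw [← he1]; congr 1; ring
    · rw [← he2]; congr 1; ring
  · simp [R3, pv, qv, s0, s1, s2, s3, s4, s5, s6] at c1 c2 c3 c4 he1 he2 n0 n2 n3 n5
    refine arith3b (D0 := d (idx 0)) (D1 := d (idx 1)) (D2 := d (idx 2))
      (D4 := d (idx 4)) (D5 := d (idx 5)) (D6 := d (idx 6)) (h := h)
      (hpos 0) (hpos 1) (hpos 2) (hpos 4) (hpos 5) (by omega) ?_ ?_ hh
    · rw [← he1]; congr 1; ring
    · rw [← he2]; congr 1; ring

end Cfsg.Agent.Lib.Helper86_D8_SHAPE3aux
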