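import Mathlib
import Cfsg.Agent.Lib.Helper1_D8Defs
import Cfsg.Agent.Lib.Helper86_D8_SHAPE3aux
import Cfsg.Agent.Lib.Helper16_D8_EXPL

/-!
# S3716 market (architect helper1), package SHAPE3: shape 3 is impossible (verbatim wrapper)
-/

set_option autoImplicit false

namespace Cfsg.Agent.Lib.Helper86_D8_SHAPE3

open Cfsg Cfsg.Agent.Lib.Helper1_D8Defs

theorem shape3 {I : Type*} [Fintype I] [DecidableEq I] {o : I} {d : I → ℕ} {m : I → Fin 4 → ℤ} {ν : I → ℤ}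
    {h : ℕ} (c : Core I o d m ν h) (hs : IsShape o m 7 R3) : False :=
  Cfsg.Agent.Lib.Helper86_D8_SHAPE3aux.shape3_of c hs
    (fun idx ε hinj hno hε hm hz =>
      Cfsg.Agent.Lib.Helper16_D8_EXPL.expl c R3 Cfsg.Agent.Lib.Helper86_D8_SHAPE3aux.hR3 idx ε hinj hno hε
        hm hz)

end Cfsg.Agent.Lib.Helper86_D8_SHAPE3
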