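import Mathlib
import Cfsg.Agent.Lib.Helper33_DCDefs
import Cfsg.Agent.Lib.Helper84_TutteW_Main
import Cfsg.Prelude.Def_Solvable

/-!
# DC market (architect helper33, S2858), package DC-G: `dc10_false` (aux form)

`dc10_false_of`: the critical case `s = 10`, `λ = 6` is impossible, with the statements of DC-K (`K_eq`,
instantiated) and DC-NRM (`normal_between`, instantiated) as hypotheses.
`N := V₀ ⊔ cj δ V₀ ⊔ cj (δ²) V₀` with `V₀ = X[3,6]` lies between `V₀` and `K₀ = X[1,8] = Q0`, is `δ`-invariant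
and `H`-invariant, hence trivial by (CF); but `x₃ ∈ V₀` is not trivial.
-/

set_option autoImplicit false
set_option linter.unusedSectionVars false
set_option linter.unusedVariables false

namespace Cfsg.Agent.Lib.Helper86_DC_Gaux

open scoped commutatorElement
open Cfsg.Agent.Lib.Helper84_TutteDefs Cfsg.Agent.Lib.Helper33_DCDefs

variable {G : Type*} [Group G] {H P Q0 : Subgroup G} {δ ρ g x0 : G} {s lam : ℕ}

/-- **DC-G**, with the (instantiated) statements of DC-K and DC-NRM as hypotheses. -/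
theorem dc10_false_of (h : DC10 H P Q0 δ ρ x0)
    (hK : XX (δ * ρ) x0 1 (((10 : ℕ) : ℤ) - 2) = Q0)
    (hNRM : ∀ N : Subgroup G, XX (δ * ρ) x0 3 6 ≤ N → N ≤ XX (δ * ρ) x0 1 8 →
      ∀ u ∈ H, cj u N = N) : False := by
  have hD := h.sys.hyp
  have hT := h.sys.sys
  have hK' : XX (δ * ρ) x0 1 8 = Q0 := by
    have : (((10 : ℕ) : ℤ) - 2) = 8 := by norm_num
    rw [this] at hK
    exact hK
  -- `V₀ ≤ K₀`
  have hVK : XX (δ * ρ) x0 3 6 ≤ XX (δ * ρ) x0 1 8 := XX_mono (by norm_num) (by norm_num)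
  -- `ρ⁻¹ ∈ H` normalises `V₀` and `K₀`
  have hρi : ρ⁻¹ ∈ H := H.inv_mem h.sys.ρH
  have hρV : cj ρ⁻¹ (XX (δ * ρ) x0 3 6) = XX (δ * ρ) x0 3 6 :=
    hNRM _ le_rfl hVK _ hρi
  have hρK : cj ρ⁻¹ (XX (δ * ρ) x0 1 8) = XX (δ * ρ) x0 1 8 :=
    hNRM _ hVK le_rfl _ hρi
  have hcjδ : ∀ U : Subgroup G, cj δ U = cj (δ * ρ) (cj ρ⁻¹ U) := by
    intro U
    rw [cj_cj, mul_inv_cancel_right]
  -- `cj δ V₀ = X[2,5]`, `cj δ K₀ = X[0,7]`
  have hδV : cj δ (XX (δ * ρ) x0 3 6) = XX (δ * ρ) x0 2 5 := by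
    rw [hcjδ, hρV, cj_XX]
    norm_num
  have hδK : cj δ (XX (δ * ρ) x0 1 8) = XX (δ * ρ) x0 0 7 := by
    rw [hcjδ, hρK, cj_XX]
    norm_num
  -- `cj (δ^3) V₀ = V₀`
  have hδ3H : δ ^ 3 ∈ H := hD.PH hD.δ3
  have hδ3V : cj (δ ^ 3) (XX (δ * ρ) x0 3 6) = XX (δ * ρ) x0 3 6 :=
    hNRM _ le_rfl hVK _ hδ3H
  -- `cj (δ^2) V₀ ≤ K₀`
  have hδ2V : cj (δ ^ 2) (XX (δ * ρ) x0 3 6) ≤ XX (δ * ρ) x0 1 8 := by
    have e : cj (δ ^ 2) (XX (δ * ρ) x0 3 6) = cj δ⁻¹ (XX (δ * ρ) x0 3 6) := by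
      have e3 : δ⁻¹ * δ ^ 3 = δ ^ 2 := by
        rw [pow_succ' δ 2, inv_mul_cancel_left]
      conv_rhs => rw [← hδ3V, cj_cj, e3]
    rw [e, cj_le_iff, inv_inv, hδK]
    exact XX_mono (by norm_num) (by norm_num)
  -- the subgroup `N`
  obtain ⟨N, hN⟩ : ∃ N : Subgroup G, N = XX (δ * ρ) x0 3 6 ⊔ cj δ (XX (δ * ρ) x0 3 6) ⊔
      cj (δ ^ 2) (XX (δ * ρ) x0 3 6) := ⟨_, rfl⟩
  have hVN : XX (δ * ρ) x0 3 6 ≤ N := by
    rw [hN]
    exact le_sup_of_le_left le_sup_left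
  have hNK : N ≤ XX (δ * ρ) x0 1 8 := by
    rw [hN]
    refine sup_le (sup_le hVK ?_) hδ2V
    rw [hδV]
    exact XX_mono (by norm_num) (by norm_num)
  have hδN : cj δ N = N := by
    rw [hN, cj_sup, cj_sup, cj_cj, cj_cj]
    have e1 : δ * δ = δ ^ 2 := (pow_two δ).symm
    have e2 : δ * δ ^ 2 = δ ^ 3 := (pow_succ' δ 2).symm
    rw [e1, e2, hδ3V]
    rw [sup_comm, ← sup_assoc]
  have hNP : N ≤ P := by
    refine le_trans hNK ?_
    rw [hK']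
    exact hD.QP
  have hNH : ∀ u ∈ H, cj u N = N := hNRM N hVN hNK
  have hbot : N = ⊥ := hD.CF N hNP hNH hδN
  have hx3 : xs (δ * ρ) x0 3 ∈ N := hVN (xs_mem_XX (by norm_num) (by norm_num))
  rw [hbot, Subgroup.mem_bot] at hx3
  exact hT.xs_ne_one 3 hx3

end Cfsg.Agent.Lib.Helper86_DC_Gaux
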