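import Mathlib
import Cfsg.Prelude.Def_FusionSystem
import Cfsg.Agent.Lib.Helper87_F2L3Defs

/-!
# F2L3-ASMB (architect helper87): part (B) of `SCB` for `S₂.map iota` in `SL₃(F)`.
-/

set_option autoImplicit false

open Matrix Cfsg.Agent.Lib.Helper87_F2L3

namespace Cfsg.Agent.Lib.Helper86_F2L3_ASMB

variable {F : Type*} [Field F]

/-- Scalar matrices are central in `GL₂(F)`. -/
theorem sc_comm (c : Fˣ) (y : GL (Fin 2) F) : sc c * y = y * sc c := by
  apply Units.ext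
  ext i j
  fin_cases i <;> fin_cases j <;>
    simp [sc, dg, Matrix.mul_apply, Fin.sum_univ_two, mul_comm]

/-- `-1` is central in `GL₂(F)`. -/
theorem neg_one_comm (y : GL (Fin 2) F) : (-1 : GL (Fin 2) F) * y = y * (-1) := by
  apply Units.ext
  simp

/-- In a finite group, if conjugation by `n` maps `S` into `S`, so does conjugation by `n⁻¹`. -/
theorem conj_inv_mem {G : Type*} [Group G] [Finite G] (S : Subgroup G) (n : G)
    (hn : ∀ s ∈ S, n * s * n⁻¹ ∈ S) : ∀ s ∈ S, n⁻¹ * s * n ∈ S := by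
  have hpow : ∀ j : ℕ, ∀ s ∈ S, n ^ j * s * (n ^ j)⁻¹ ∈ S := by
    intro j
    induction j with
    | zero => intro s hs; simpa using hs
    | succ k ih =>
      intro s hs
      have := hn _ (ih s hs)
      have e : n ^ (k + 1) * s * (n ^ (k + 1))⁻¹ = n * (n ^ k * s * (n ^ k)⁻¹) * n⁻¹ := by
        rw [pow_succ']; group
      rw [e]; exact this
  intro s hs
  have hpos : 0 < orderOf n := orderOf_pos n
  have hinv : n⁻¹ = n ^ (orderOf n - 1) := by
    rw [inv_eq_iff_mul_eq_one, ← pow_succ', Nat.sub_add_cancel hpos, pow_orderOf_eq_one]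
  have := hpow (orderOf n - 1) s hs
  rw [← hinv, inv_inv] at this
  exact this

theorem asm_B [Fintype F] (S₂ : Subgroup (GL (Fin 2) F)) (hS : GL2Syl F S₂)
    (hinj : Function.Injective (iota (F := F))) (hneg : iota (-1 : GL (Fin 2) F) = t3)
    (ht3 : (t3 : SpecialLinearGroup (Fin 3) F) * t3 = 1 ∧ (t3 : SpecialLinearGroup (Fin 3) F) ≠ 1)
    (hcent : ∀ n : SpecialLinearGroup (Fin 3) F, n * t3 = t3 * n → n ∈ (iota (F := F)).range)
    (n : SpecialLinearGroup (Fin 3) F) (hn : ∀ s ∈ S₂.map iota, n * s * n⁻¹ ∈ S₂.map iota) :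
    ∃ s₀ ∈ S₂.map iota, ∀ x ∈ S₂.map iota, n * x * n⁻¹ = s₀ * x * s₀⁻¹ := by
  classical
  have hn' := conj_inv_mem (S₂.map iota) n hn
  have ht3mem : (t3 : SpecialLinearGroup (Fin 3) F) ∈ S₂.map iota :=
    ⟨-1, hS.neg_mem, hneg⟩
  -- t3 commutes with all of S̃
  have ht3comm : ∀ s ∈ S₂.map (iota (F := F)), t3 * s = s * t3 := by
    rintro s ⟨y, -, rfl⟩
    rw [← hneg, ← map_mul, ← map_mul, neg_one_comm]
  -- w = n t3 n⁻¹
  obtain ⟨z, hzS, hzw⟩ := hn _ ht3mem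
  have hzz : z * z = 1 := by
    apply hinj
    rw [map_mul, hzw, map_one]
    calc n * t3 * n⁻¹ * (n * t3 * n⁻¹) = n * (t3 * t3) * n⁻¹ := by group
      _ = 1 := by rw [ht3.1]; group
  have hz1 : z ≠ 1 := by
    intro h1
    apply ht3.2
    rw [h1, map_one] at hzw
    have : n * t3 * n⁻¹ = 1 := hzw.symm
    calc (t3 : SpecialLinearGroup (Fin 3) F) = n⁻¹ * (n * t3 * n⁻¹) * n := by group
      _ = 1 := by rw [this]; group
  have hzc : ∀ s ∈ S₂, z * s = s * z := by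
    intro s hs
    apply hinj
    rw [map_mul, map_mul, hzw]
    have hs' : n⁻¹ * iota s * n ∈ S₂.map (iota (F := F)) := hn' _ ⟨s, hs, rfl⟩
    have hc := ht3comm _ hs'
    calc n * t3 * n⁻¹ * iota s = n * (t3 * (n⁻¹ * iota s * n)) * n⁻¹ := by group
      _ = n * ((n⁻¹ * iota s * n) * t3) * n⁻¹ := by rw [hc]
      _ = iota s * (n * t3 * n⁻¹) := by group
  have hzneg : z = -1 := hS.cent z hzS hzz hz1 hzc
  have hnt : n * t3 = t3 * n := by
    rw [hzneg, hneg] at hzw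
    calc n * t3 = (n * t3 * n⁻¹) * n := by group
      _ = t3 * n := by rw [← hzw]
  obtain ⟨m, rfl⟩ := hcent n hnt
  -- m normalizes S₂
  have hm : ∀ s ∈ S₂, m * s * m⁻¹ ∈ S₂ := by
    intro s hs
    obtain ⟨s'', hs'', he⟩ := hn _ ⟨s, hs, rfl⟩
    have : s'' = m * s * m⁻¹ := by
      apply hinj
      rw [he, map_mul, map_mul, map_inv]
    rw [← this]; exact hs''
  obtain ⟨s₀, hs₀, c, rfl⟩ := hS.norm m hm
  refine ⟨iota s₀, ⟨s₀, hs₀, rfl⟩, ?_⟩
  rintro x ⟨y, -, rfl⟩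
  rw [← map_inv, ← map_mul, ← map_mul, ← map_inv, ← map_mul, ← map_mul]
  congr 1
  have hcy : sc c * y * (sc c)⁻¹ = y := by
    rw [sc_comm, mul_assoc, mul_inv_cancel, mul_one]
  calc s₀ * sc c * y * (s₀ * sc c)⁻¹ = s₀ * (sc c * y * (sc c)⁻¹) * s₀⁻¹ := by group
    _ = s₀ * y * s₀⁻¹ := by rw [hcy]

end Cfsg.Agent.Lib.Helper86_F2L3_ASMB
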