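import Mathlib
import Cfsg.Prelude.Def_FusionSystem
import Cfsg.Agent.Lib.Helper87_F2L3Defs

/-!
# F2L3-CENT3 (architect helper87): `C_{SL₃(F)}(diag(-1,-1,1))` is the image of `iota`.
-/

set_option autoImplicit false

open Matrix Cfsg.Agent.Lib.Helper87_F2L3

namespace Cfsg.Agent.Lib.Helper86_F2L3_CENT3

variable {F : Type*} [Field F]

theorem eq_zero_of_eq_neg (h2 : (2 : F) ≠ 0) {x : F} (h : x = -x) : x = 0 := by
  have : (2 : F) * x = 0 := by linear_combination h
  rcases mul_eq_zero.mp this with h' | h'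
  · exact absurd h' h2
  · exact h'

/-- The four off-block entries of a matrix commuting with `diag(-1,-1,1)` vanish. -/
theorem offblock_zero (h2 : (2 : F) ≠ 0) (N : Matrix (Fin 3) (Fin 3) F)
    (hN : N * !![-1, 0, 0; 0, -1, 0; 0, 0, 1] = !![-1, 0, 0; 0, -1, 0; 0, 0, 1] * N) :
    N 0 2 = 0 ∧ N 1 2 = 0 ∧ N 2 0 = 0 ∧ N 2 1 = 0 := by
  have h02 := congrFun (congrFun hN 0) 2
  have h12 := congrFun (congrFun hN 1) 2
  have h20 := congrFun (congrFun hN 2) 0
  have h21 := congrFun (congrFun hN 2) 1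
  simp [Matrix.mul_apply, Fin.sum_univ_three] at h02 h12 h20 h21
  refine ⟨eq_zero_of_eq_neg h2 h02, eq_zero_of_eq_neg h2 h12, ?_, ?_⟩
  · exact eq_zero_of_eq_neg h2 (by linear_combination (-1 : F) * h20)
  · exact eq_zero_of_eq_neg h2 (by linear_combination (-1 : F) * h21)

theorem cent_t3 (h2 : (2 : F) ≠ 0) (n : SpecialLinearGroup (Fin 3) F) (hn : n * t3 = t3 * n) :
    n ∈ (iota (F := F)).range := by
  have hN : (n : Matrix (Fin 3) (Fin 3) F) * !![-1, 0, 0; 0, -1, 0; 0, 0, 1] =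
      !![-1, 0, 0; 0, -1, 0; 0, 0, 1] * (n : Matrix (Fin 3) (Fin 3) F) := by
    have := congrArg (fun x : SpecialLinearGroup (Fin 3) F => (x : Matrix (Fin 3) (Fin 3) F)) hn
    exact this
  obtain ⟨h02, h12, h20, h21⟩ := offblock_zero h2 _ hN
  set N : Matrix (Fin 3) (Fin 3) F := (n : Matrix (Fin 3) (Fin 3) F) with hNdef
  set A : Matrix (Fin 2) (Fin 2) F := !![N 0 0, N 0 1; N 1 0, N 1 1] with hA
  have hdetN : N.det = 1 := n.2
  have hprod : A.det * N 2 2 = 1 := by
    rw [Matrix.det_fin_three, h02, h12, h20, h21] at hdetN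
    rw [hA, Matrix.det_fin_two]
    simp only [Matrix.of_apply, Matrix.cons_val', Matrix.cons_val_zero, Matrix.cons_val_one,
      Matrix.cons_val_fin_one]
    linear_combination hdetN
  have hdetA : A.det ≠ 0 := by
    intro h0
    rw [h0, zero_mul] at hprod
    exact zero_ne_one hprod
  have h22 : N 2 2 = (A.det)⁻¹ := eq_inv_of_mul_eq_one_right hprod
  refine ⟨Matrix.GeneralLinearGroup.mkOfDetNeZero A hdetA, ?_⟩
  apply Subtype.ext
  show iotaMat A = N
  ext i j
  fin_cases i <;> fin_cases j <;> simp [iotaMat, hA, h02, h12, h20, h21, h22]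

end Cfsg.Agent.Lib.Helper86_F2L3_CENT3
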