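import Mathlib
import Cfsg.Prelude.Def_FusionSystem
import Cfsg.Agent.Lib.Helper87_F2L3Defs

/-!
# F2L3-SD3CONJ (architect helper87): elements of `GL₂(F)` squaring to `-1` are conjugate
when `-1` is not a square.
-/

set_option autoImplicit false

open Matrix Cfsg.Agent.Lib.Helper87_F2L3

namespace Cfsg.Agent.Lib.Helper86_F2L3_SD3CONJ

variable {F : Type*} [Field F]

/-- Entry equations of `A * A = -1`. -/
theorem sq_entries (A : Matrix (Fin 2) (Fin 2) F) (hA : A * A = -1) :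
    A 0 0 * A 0 0 + A 0 1 * A 1 0 = -1 ∧ A 1 0 * A 0 0 + A 1 1 * A 1 0 = 0 := by
  have h00 := congrFun (congrFun hA 0) 0
  have h10 := congrFun (congrFun hA 1) 0
  simp [Matrix.mul_apply, Fin.sum_univ_two] at h00 h10
  exact ⟨h00, h10⟩

/-- `A` with `A² = -1` is conjugate to `J = [[0,-1],[1,0]]` (as a matrix equation). -/
theorem exists_conj_J (hns : ¬ IsSquare (-1 : F)) (A : GL (Fin 2) F) (hA : A * A = -1) :
    ∃ P : GL (Fin 2) F, (A : Matrix (Fin 2) (Fin 2) F) * (P : Matrix (Fin 2) (Fin 2) F) =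
      (P : Matrix (Fin 2) (Fin 2) F) * !![0, -1; 1, 0] := by
  have hA' : (A : Matrix (Fin 2) (Fin 2) F) * (A : Matrix (Fin 2) (Fin 2) F) = -1 := by
    have := congrArg (fun x : GL (Fin 2) F => (x : Matrix (Fin 2) (Fin 2) F)) hA
    simpa using this
  obtain ⟨h00, h10⟩ := sq_entries _ hA'
  have hne : (A : Matrix (Fin 2) (Fin 2) F) 1 0 ≠ 0 := by
    intro h0
    apply hns
    refine ⟨(A : Matrix (Fin 2) (Fin 2) F) 0 0, ?_⟩
    rw [h0, mul_zero, add_zero] at h00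
    exact h00.symm
  set M : Matrix (Fin 2) (Fin 2) F :=
    !![1, (A : Matrix (Fin 2) (Fin 2) F) 0 0; 0, (A : Matrix (Fin 2) (Fin 2) F) 1 0] with hM
  have hdet : M.det ≠ 0 := by
    rw [hM, Matrix.det_fin_two]
    simpa using hne
  refine ⟨Matrix.GeneralLinearGroup.mkOfDetNeZero M hdet, ?_⟩
  show (A : Matrix (Fin 2) (Fin 2) F) * M = M * !![0, -1; 1, 0]
  ext i j
  fin_cases i <;> fin_cases j <;>
    simp [hM, Matrix.mul_apply, Fin.sum_univ_two]
  · linear_combination h00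
  · linear_combination h10

theorem conj_of_sq (hns : ¬ IsSquare (-1 : F)) (A B : GL (Fin 2) F) (hA : A * A = -1)
    (hB : B * B = -1) : ∃ g : GL (Fin 2) F, g * A * g⁻¹ = B := by
  obtain ⟨P, hP⟩ := exists_conj_J hns A hA
  obtain ⟨Q, hQ⟩ := exists_conj_J hns B hB
  -- A = P J P⁻¹ and B = Q J Q⁻¹ at the matrix level
  refine ⟨Q * P⁻¹, ?_⟩
  have h1 : P⁻¹ * A * P = Q⁻¹ * B * Q := by
    apply Units.ext
    have e1 : ((P⁻¹ * A * P : GL (Fin 2) F) : Matrix (Fin 2) (Fin 2) F) =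
        ((P⁻¹ : GL (Fin 2) F) : Matrix (Fin 2) (Fin 2) F) *
          ((A : Matrix (Fin 2) (Fin 2) F) * (P : Matrix (Fin 2) (Fin 2) F)) := by
      simp [Units.val_mul, Matrix.mul_assoc]
    have e2 : ((Q⁻¹ * B * Q : GL (Fin 2) F) : Matrix (Fin 2) (Fin 2) F) =
        ((Q⁻¹ : GL (Fin 2) F) : Matrix (Fin 2) (Fin 2) F) *
          ((B : Matrix (Fin 2) (Fin 2) F) * (Q : Matrix (Fin 2) (Fin 2) F)) := by
      simp [Units.val_mul, Matrix.mul_assoc]
    rw [e1, e2, hP, hQ, ← Matrix.mul_assoc, ← Matrix.mul_assoc, ← Units.val_mul, ← Units.val_mul,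
      inv_mul_cancel, inv_mul_cancel]
  have : B = Q * (Q⁻¹ * B * Q) * Q⁻¹ := by group
  rw [this, ← h1]
  group

end Cfsg.Agent.Lib.Helper86_F2L3_SD3CONJ
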