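import Mathlib
import Cfsg.Agent.Lib.Helper27_FusionSimple

/-!
Certificates that a subgroup `S` of a group `G` of permutations of the 24 points, given by a
sorted list of tables, has no proper nontrivial subgroup that is strongly closed in `S` with
respect to `G`: a funnel (from each element other than the identity one reaches a fixed element
`z` by conjugating into `S` and multiplying) and a derivation (from `z` one reaches every
element).  No multiplication table is needed, so the subgroup may have more than 256 elements.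
-/

set_option autoImplicit false
open Cfsg
open Cfsg.Agent.Lib.Helper26_Golay
open Cfsg.Agent.Lib.Helper27_K0Affine
open Cfsg.Agent.Lib.Helper27_EnumGroup
open Cfsg.Agent.Lib.Helper27_FusionSimple

namespace Cfsg.Agent.Lib.Helper86_FusCert

/-- the data of a certificate -/
structure Cert where
  /-- the number of elements of the subgroup -/
  N : ℕ
  /-- the packed tables of the elements, increasing -/
  LL : ℕ
  /-- the index of the identity -/
  idI : ℕ
  /-- the index of the target element -/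
  z : ℕ
  /-- the number of conjugating elements -/
  nC : ℕ
  /-- the packed tables of the conjugating elements -/
  CC : ℕ
  /-- the funnel steps, 64 bits each -/
  FUN : ℕ
  /-- the derivation steps, 64 bits each -/
  DER : ℕ

/-- the `i`-th table -/
def Cert.tb (d : Cert) (i : ℕ) : ℕ := tblAt d.LL i

/-- the `c`-th conjugating table -/
def Cert.cg (d : Cert) (c : ℕ) : ℕ := tblAt d.CC c

/-- the `i`-th entry of 64 bits -/
def ent (A i : ℕ) : ℕ := Nat.land (Nat.shiftRight A (Nat.mul 64 i)) 18446744073709551615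

/-- the flag of an entry -/
def fFlag (e : ℕ) : ℕ := Nat.land e 3

/-- the conjugator of an entry -/
def fC (e : ℕ) : ℕ := Nat.land (Nat.shiftRight e 2) 255

/-- the first index of an entry -/
def fK (e : ℕ) : ℕ := Nat.land (Nat.shiftRight e 10) 4095

/-- the second index of an entry -/
def fJ (e : ℕ) : ℕ := Nat.land (Nat.shiftRight e 22) 4095

/-- the rank of an entry -/
def fR (e : ℕ) : ℕ := Nat.shiftRight e 34

/-- the basic checks: indices in range, tables increasing, identity -/
def baseOK (d : Cert) : Bool :=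
  Nat.blt d.idI d.N && (Nat.blt d.z d.N &&
  (allF (fun i => Nat.blt (d.tb i) (d.tb (Nat.succ i))) (Nat.pred d.N) &&
  all24 (fun x => Nat.beq (imgF (d.tb d.idI) x) x)))

/-- the tables listed describe elements of a group given by a test -/
def memOK (inS : ℕ → Bool) (LL n : ℕ) : Bool := allF (fun i => inS (tblAt LL i)) n

/-- the check of the funnel -/
def funnelOK (d : Cert) : Bool :=
  allF (fun i => Nat.beq i d.idI || (Nat.beq i d.z || forceN (ent d.FUN i) fun e =>
    forceN (fC e) fun c => forceN (fK e) fun k => forceN (fJ e) fun j =>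
    forceN (d.cg c) fun g => forceN (d.tb i) fun ti => forceN (d.tb k) fun tk =>
    forceN (d.tb j) fun tj =>
      Nat.blt c d.nC && (Nat.blt k d.N && (Nat.blt j d.N && (!(Nat.beq j d.idI) &&
      (all24 (fun x => Nat.beq (imgF g (imgF ti x)) (imgF tk (imgF g x))) &&
      (Nat.blt (fR (ent d.FUN j)) (fR e) &&
      (Nat.beq (fFlag e) 0 && Nat.beq j k ||
      (Nat.beq (fFlag e) 1 && all24 (fun x => Nat.beq (imgF tj x) (imgF ti (imgF tk x))) ||
       Nat.beq (fFlag e) 2 && all24 (fun x => Nat.beq (imgF ti (imgF tj x)) (imgF tk x)))))))))))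
    d.N

/-- the check of the derivation -/
def derOK (d : Cert) : Bool :=
  allF (fun j => Nat.beq j d.idI || (Nat.beq j d.z || forceN (ent d.DER j) fun e =>
    forceN (fC e) fun c => forceN (fK e) fun a => forceN (fJ e) fun b =>
    forceN (d.tb j) fun tj => forceN (d.tb a) fun ta =>
      Nat.blt a d.N && (Nat.blt b d.N && (Nat.blt (fR (ent d.DER a)) (fR e) &&
      (Nat.blt (fR (ent d.DER b)) (fR e) &&
      (Nat.beq (fFlag e) 0 &&
        forceN (d.tb b) (fun tb => all24 (fun x => Nat.beq (imgF tj x) (imgF ta (imgF tb x)))) ||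
       Nat.beq (fFlag e) 1 && (Nat.blt c d.nC &&
        forceN (d.cg c) (fun g =>
          all24 (fun x => Nat.beq (imgF g (imgF ta x)) (imgF tj (imgF g x)))))))))))
    d.N

section Base

variable {d : Cert} (hb : baseOK d = true)

include hb in
theorem base_facts : d.idI < d.N ∧ d.z < d.N ∧
    (∀ i, i + 1 < d.N → d.tb i < d.tb (i + 1)) ∧
    (∀ x < 24, imgF (d.tb d.idI) x = x) := by
  unfold baseOK at hb
  simp only [Bool.and_eq_true, blt_iff, allF_eq_true, all24_eq_true] at hb
  obtain ⟨h1, h2, h4, h5⟩ := hb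
  refine ⟨h1, h2, ?_, ?_⟩
  · intro i hi
    exact h4 i (by rw [Nat.pred_eq_sub_one]; omega)
  · intro x hx
    exact Nat.eq_of_beq_eq_true (h5 x hx)

include hb in
theorem tb_lt_of_lt {i j : ℕ} (hij : i < j) (hj : j < d.N) : d.tb i < d.tb j := by
  obtain ⟨-, -, h4, -⟩ := base_facts hb
  induction j with
  | zero => omega
  | succ j ih =>
    have hstep : d.tb j < d.tb (j + 1) := h4 j hj
    rcases Nat.lt_succ_iff_lt_or_eq.1 hij with h | h
    · exact (ih h (by omega)).trans hstep
    · rw [h]; exact hstep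

include hb in
theorem tb_inj {i j : ℕ} (hi : i < d.N) (hj : j < d.N)
    (h : ∀ x < 24, imgF (d.tb i) x = imgF (d.tb j) x) : i = j := by
  have e : d.tb i = d.tb j := table_ext (tblAt_lt _ _) (tblAt_lt _ _) h
  by_contra hne
  rcases Nat.lt_or_gt_of_ne hne with h' | h'
  · exact absurd e (ne_of_lt (tb_lt_of_lt hb h' hj))
  · exact absurd e.symm (ne_of_lt (tb_lt_of_lt hb h' hi))

variable {S : Subgroup (Equiv.Perm GolayPt)}
  (hS : ∀ i < d.N, ∃ σ ∈ S, Represents σ (d.tb i)) (hcard : Nat.card ↥S = d.N)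

include hb hS hcard in
/-- every element of the subgroup is listed -/
theorem exists_index (σ : Equiv.Perm GolayPt) (hσ : σ ∈ S) :
    ∃ i < d.N, Represents σ (d.tb i) := by
  have hex : ∀ i : Fin d.N, ∃ τ : ↥S, Represents (τ : Equiv.Perm GolayPt) (d.tb i) := by
    intro i
    obtain ⟨τ, hτS, hτ⟩ := hS i i.2
    exact ⟨⟨τ, hτS⟩, hτ⟩
  let f : Fin d.N → ↥S := fun i => (hex i).choose
  have hf : ∀ i, Represents (f i : Equiv.Perm GolayPt) (d.tb i) := fun i => (hex i).choose_spec
  have hinj : Function.Injective f := by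
    intro i j h
    apply Fin.ext
    apply tb_inj hb i.2 j.2
    intro x hx
    have h1 := hf i (pt x)
    have h2 := hf j (pt x)
    rw [idx_pt x hx] at h1 h2
    show img _ x = img _ x
    rw [← h1, ← h2, h]
  have hfin : Finite ↥S := Nat.finite_of_card_ne_zero (by
    rw [hcard]
    have := (base_facts hb).1
    omega)
  have hbij : Function.Bijective f := by
    rw [Nat.bijective_iff_injective_and_card]
    exact ⟨hinj, by rw [Nat.card_eq_fintype_card, Fintype.card_fin, hcard]⟩
  obtain ⟨i, hi⟩ := hbij.2 ⟨σ, hσ⟩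
  refine ⟨i, i.2, ?_⟩
  have := hf i
  rw [hi] at this
  exact this

end Base

section Closed

variable {G S : Subgroup (Equiv.Perm GolayPt)} {d : Cert}
  (hS : ∀ i < d.N, ∃ σ ∈ S, Represents σ (d.tb i))
  (hC : ∀ c < d.nC, ∃ γ ∈ G, Represents γ (d.cg c))
  (T : Subgroup (Equiv.Perm GolayPt))
  (hcl : ∀ t ∈ T, ∀ g ∈ G, g * t * g⁻¹ ∈ S → g * t * g⁻¹ ∈ T)

/-- the element with the `i`-th table lies in `T` -/
def QI (T : Subgroup (Equiv.Perm GolayPt)) (d : Cert) (i : ℕ) : Prop :=
  ∀ σ, Represents σ (d.tb i) → σ ∈ T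

include hS hC hcl in
theorem Q_conj {i k c : ℕ} (hi : i < d.N) (hk : k < d.N) (hc : c < d.nC)
    (h : ∀ x < 24, imgF (d.cg c) (imgF (d.tb i) x) = imgF (d.tb k) (imgF (d.cg c) x))
    (hQ : QI T d i) : QI T d k := by
  intro τ hτ
  obtain ⟨γ, hγG, hγ⟩ := hC c hc
  obtain ⟨σ, -, hσ⟩ := hS i hi
  obtain ⟨τ', hτ'S, hτ'⟩ := hS k hk
  have hττ' : τ = τ' := eq_of_represents hτ hτ'
  have e : γ * σ = τ * γ :=
    eq_of_repF (repF_mul (repF_of_represents hγ) (repF_of_represents hσ))
      (repF_mul (repF_of_represents hτ) (repF_of_represents hγ)) h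
  have e' : γ * σ * γ⁻¹ = τ := by rw [e]; group
  have := hcl σ (hQ σ hσ) γ hγG (by rw [e', hττ']; exact hτ'S)
  rwa [e'] at this

include hS in
theorem Q_mul {i k j : ℕ} (hi : i < d.N) (hk : k < d.N)
    (h : ∀ x < 24, imgF (d.tb j) x = imgF (d.tb i) (imgF (d.tb k) x))
    (hQi : QI T d i) (hQk : QI T d k) : QI T d j := by
  intro τ hτ
  obtain ⟨σ, -, hσ⟩ := hS i hi
  obtain ⟨ρ, -, hρ⟩ := hS k hk
  have e : τ = σ * ρ :=
    eq_of_repF (repF_of_represents hτ) (repF_mul (repF_of_represents hσ) (repF_of_represents hρ)) h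
  rw [e]
  exact T.mul_mem (hQi σ hσ) (hQk ρ hρ)

include hS in
theorem Q_div {i k j : ℕ} (hi : i < d.N) (hk : k < d.N)
    (h : ∀ x < 24, imgF (d.tb i) (imgF (d.tb j) x) = imgF (d.tb k) x)
    (hQi : QI T d i) (hQk : QI T d k) : QI T d j := by
  intro τ hτ
  obtain ⟨σ, -, hσ⟩ := hS i hi
  obtain ⟨ρ, -, hρ⟩ := hS k hk
  have e : σ * τ = ρ :=
    eq_of_repF (repF_mul (repF_of_represents hσ) (repF_of_represents hτ)) (repF_of_represents hρ) h
  have e' : τ = σ⁻¹ * ρ := by rw [← e]; group
  rw [e']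
  exact T.mul_mem (T.inv_mem (hQi σ hσ)) (hQk ρ hρ)

include hS hC hcl in
theorem funnel (hf : funnelOK d = true) (i : ℕ) (hi : i < d.N) (hid : i ≠ d.idI)
    (hQ : QI T d i) : QI T d d.z := by
  unfold funnelOK at hf
  rw [allF_eq_true] at hf
  induction' hr : fR (ent d.FUN i) using Nat.strong_induction_on with r ih generalizing i
  have h1 := hf i hi
  simp only [Bool.or_eq_true, forceN_eq, Bool.and_eq_true, blt_iff, all24_eq_true,
    Bool.not_eq_true', ← Bool.not_eq_true] at h1
  rcases h1 with h1 | h1 | ⟨hc, hk, hj, hjid, hconj, hrank, hcase⟩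
  · exact absurd (Nat.eq_of_beq_eq_true h1) hid
  · rw [← Nat.eq_of_beq_eq_true h1]; exact hQ
  · have hQk := Q_conj hS hC T hcl hi hk hc
      (fun x hx => Nat.eq_of_beq_eq_true (hconj x hx)) hQ
    have hjid' : fJ (ent d.FUN i) ≠ d.idI := by
      intro e
      apply hjid
      rw [e]
      exact Nat.beq_refl _
    have hQj : QI T d (fJ (ent d.FUN i)) := by
      rcases hcase with ⟨-, h0⟩ | ⟨-, h1⟩ | ⟨-, h2⟩
      · rw [Nat.eq_of_beq_eq_true h0]; exact hQk
      · exact Q_mul hS T hi hk (fun x hx => Nat.eq_of_beq_eq_true (h1 x hx)) hQ hQk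
      · exact Q_div hS T hi hk (fun x hx => Nat.eq_of_beq_eq_true (h2 x hx)) hQ hQk
    exact ih _ (by rw [← hr]; exact hrank) _ hj hjid' hQj rfl

include hS hC hcl in
theorem derive (hb : baseOK d = true) (hd : derOK d = true)
    (hQz : QI T d d.z) (j : ℕ) (hj : j < d.N) : QI T d j := by
  unfold derOK at hd
  rw [allF_eq_true] at hd
  induction' ho : fR (ent d.DER j) using Nat.strong_induction_on with o ih generalizing j
  have h1 := hd j hj
  simp only [Bool.or_eq_true, forceN_eq, Bool.and_eq_true, blt_iff, all24_eq_true] at h1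
  rcases h1 with h1 | h1 | ⟨ha, hbN, ho1, ho2, hstep⟩
  · rw [Nat.eq_of_beq_eq_true h1]
    intro σ hσ
    obtain ⟨-, -, -, h5⟩ := base_facts hb
    have : σ = 1 := eq_of_repF (repF_of_represents hσ) repF_one h5
    rw [this]; exact T.one_mem
  · rw [Nat.eq_of_beq_eq_true h1]; exact hQz
  · have hQa := ih _ (by rw [← ho]; exact ho1) _ ha rfl
    have hQb := ih _ (by rw [← ho]; exact ho2) _ hbN rfl
    rcases hstep with ⟨-, h0⟩ | ⟨-, hc, h1⟩
    · exact Q_mul hS T ha hbN (fun x hx => Nat.eq_of_beq_eq_true (h0 x hx)) hQa hQb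
    · exact Q_conj hS hC T hcl ha hj hc (fun x hx => Nat.eq_of_beq_eq_true (h1 x hx)) hQa

end Closed

/-- the main statement: a subgroup of `S` that is closed under conjugation by elements of `G`
landing in `S` is trivial or everything -/
theorem closed_cases {G S : Subgroup (Equiv.Perm GolayPt)} {d : Cert}
    (hb : baseOK d = true)
    (hS : ∀ i < d.N, ∃ σ ∈ S, Represents σ (d.tb i)) (hcard : Nat.card ↥S = d.N)
    (hC : ∀ c < d.nC, ∃ γ ∈ G, Represents γ (d.cg c))
    (hf : funnelOK d = true) (hd : derOK d = true)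
    (T : Subgroup (Equiv.Perm GolayPt)) (hTS : T ≤ S)
    (hcl : ∀ t ∈ T, ∀ g ∈ G, g * t * g⁻¹ ∈ S → g * t * g⁻¹ ∈ T) : T = ⊥ ∨ T = S := by
  by_cases hT : T = ⊥
  · exact Or.inl hT
  · right
    obtain ⟨t, htT, ht1⟩ := (Subgroup.ne_bot_iff_exists_ne_one).1 hT |>.imp
      (fun t ht => ht) |> fun ⟨⟨t, htT⟩, ht1⟩ => (⟨t, htT, fun e => ht1 (Subtype.ext e)⟩ :
        ∃ t, t ∈ T ∧ t ≠ 1)
    obtain ⟨-, -, -, h5⟩ := base_facts hb
    obtain ⟨i, hi, hiT⟩ := exists_index hb hS hcard t (hTS htT)
    have hiid : i ≠ d.idI := by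
      rintro rfl
      apply ht1
      exact eq_of_repF (repF_of_represents hiT) repF_one h5
    have hQi : QI T d i := by
      intro σ hσ
      have : σ = t := eq_of_represents hσ hiT
      rw [this]
      exact htT
    have hQz := funnel hS hC T hcl hf i hi hiid hQi
    have hall := derive hS hC T hcl hb hd hQz
    apply le_antisymm hTS
    intro x hx
    obtain ⟨j, hj, hjT⟩ := exists_index hb hS hcard x hx
    exact hall j hj _ hjT

/-- the fusion system of `G` on a Sylow 2-subgroup is simple, from a certificate for the subgroup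
`S₀` of `G` and the fact that `S₀` contains its normaliser in `G` -/
theorem simple_of_cert {G S₀ : Subgroup (Equiv.Perm GolayPt)} (hSG : S₀ ≤ G) {d : Cert}
    (hb : baseOK d = true)
    (hS : ∀ i < d.N, ∃ σ ∈ S₀, Represents σ (d.tb i)) (hcard : Nat.card ↥S₀ = d.N)
    (hC : ∀ c < d.nC, ∃ γ ∈ G, Represents γ (d.cg c))
    (hf : funnelOK d = true) (hd : derOK d = true)
    (hnorm : ∀ g ∈ G, (∀ x ∈ S₀, g * x * g⁻¹ ∈ S₀) → g ∈ S₀)
    (n m : ℕ) (hn : n ≠ 0) (hN : d.N = 2 ^ n) (hcardG : Nat.card ↥G = 2 ^ n * m) (hm : ¬ 2 ∣ m)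
    (S : Sylow 2 ↥G) : (groupFusionSystem (S : Subgroup ↥G)).IsSimple 2 := by
  have hp : Fact (Nat.Prime 2) := ⟨Nat.prime_two⟩
  have hm0 : m ≠ 0 := by
    rintro rfl
    simp at hm
  have hfac : (Nat.card ↥G).factorization 2 = n := by
    rw [hcardG, Nat.factorization_mul (pow_ne_zero _ (by norm_num)) hm0,
      Nat.Prime.factorization_pow Nat.prime_two]
    simp [Nat.factorization_eq_zero_of_not_dvd hm]
  let S0sub : Subgroup ↥G := S₀.subgroupOf G
  have hcard0 : Nat.card ↥S0sub = d.N := by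
    rw [← hcard]
    exact Nat.card_congr (Subgroup.subgroupOfEquivOfLe hSG).toEquiv
  let S0 : Sylow 2 ↥G := Sylow.ofCard S0sub (by rw [hcard0, hfac, hN])
  have hS0 : (S0 : Subgroup ↥G) = S0sub := rfl
  have hmemS0 : ∀ x : ↥G, x ∈ (S0 : Subgroup ↥G) ↔ (x : Equiv.Perm GolayPt) ∈ S₀ := by
    intro x
    rw [hS0]
    exact Subgroup.mem_subgroupOf
  apply isSimple_of_base 2 S0
  · intro h
    have : Nat.card ↥(S0 : Subgroup ↥G) = 1 := by rw [h]; exact Subgroup.card_bot
    rw [hS0, hcard0, hN] at this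
    have h2 : 2 ^ n ≠ 1 := by
      intro e
      exact hn (Nat.pow_eq_one.1 e |>.resolve_left (by norm_num))
    exact h2 this
  · intro T hTS hcl
    let T' : Subgroup (Equiv.Perm GolayPt) := T.map G.subtype
    have hT'mem : ∀ x : ↥G, (x : Equiv.Perm GolayPt) ∈ T' ↔ x ∈ T := by
      intro x
      constructor
      · rintro ⟨y, hy, hxy⟩
        have : y = x := Subtype.ext hxy
        rw [← this]; exact hy
      · intro hx
        exact ⟨x, hx, rfl⟩
    have hT'S : T' ≤ S₀ := by
      rintro _ ⟨y, hy, rfl⟩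
      exact (hmemS0 y).1 (hTS hy)
    have hcl' : ∀ t ∈ T', ∀ g ∈ G, g * t * g⁻¹ ∈ S₀ → g * t * g⁻¹ ∈ T' := by
      rintro _ ⟨y, hy, rfl⟩ g hg hmem
      have := hcl y hy ⟨g, hg⟩ ((hmemS0 _).2 hmem)
      exact (hT'mem _).2 this
    rcases closed_cases hb hS hcard hC hf hd T' hT'S hcl' with h | h
    · left
      rw [eq_bot_iff]
      intro x hx
      have : (x : Equiv.Perm GolayPt) ∈ T' := (hT'mem x).2 hx
      rw [h, Subgroup.mem_bot] at this
      rw [Subgroup.mem_bot]
      exact Subtype.ext this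
    · right
      apply le_antisymm hTS
      intro x hx
      have := (hmemS0 x).1 hx
      rw [← h] at this
      exact (hT'mem x).1 this
  · intro g hg
    have hmem : (g : Equiv.Perm GolayPt) ∈ S₀ := hnorm g.1 g.2 (by
      intro x hx
      have hxG : x ∈ G := hSG hx
      have := hg ⟨x, hxG⟩ ((hmemS0 _).2 hx)
      exact (hmemS0 _).1 this)
    exact ⟨g, (hmemS0 g).2 hmem, fun x _ => rfl⟩

end Cfsg.Agent.Lib.Helper86_FusCert
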