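import Mathlib
import Cfsg.Agent.Lib.Helper40_ChevGreenDefs
import Cfsg.Agent.Lib.Helper40_ChevGreenXG
import Cfsg.Agent.Lib.Helper18_ChevData5
import Cfsg.Agent.Lib.Helper18_ChevBruhat
import Cfsg.Agent.Lib.Helper18_ChevUni

/-!
# Green market (architect helper40, S2441), package GC-STR: `ch_act_str`

A linear map of the roots fixing `α_j` and `s_i α_j` (with `i`, `j` adjacent) fixes `α_i`.
-/

set_option autoImplicit false
set_option linter.unusedSectionVars false
set_option linter.unusedVariables false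

namespace Cfsg.Agent.Lib.Helper86_GR_GCSTR

open Cfsg Cfsg.Lie Cfsg.Agent.Lib.Helper40_ChevDZDefs Cfsg.Agent.Lib.Helper40_ChevGreenDefs

variable (D : ChevalleyDatum)
  (hD : D ∈ [chevG2, chevB2, chevD4, chevF4, chevE6, chevE7, chevE8]) {F : Type*} [Field F]
include hD

omit [Field F] in
theorem ch_act_str : ∀ π : ℕ → ℕ, LinMapC D π → ∀ i, i < D.rank → ∀ j, j < D.rank → cAdj D i j →
    π (D.simple j) = D.simple j →
    π (D.reflectRoot i (D.simple j)) = D.reflectRoot i (D.simple j) → π (D.simple i) = D.simple i := by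
  intro π hπ i hi j hj hadj hfj hfγ
  obtain ⟨Ns, w, d, Ts, hT, K, base, stepT, wl, ws, sc, c, tc, gc, pc, ac⟩ :=
    Cfsg.Agent.Lib.Helper18_ChevData5.exists_cert5 D hD
  have hlin : Cfsg.Agent.Lib.Helper18_ChevBruhat.LinMap D π := hπ
  have hαi : D.simple i < D.nroots := (tc.simple_pos i hi).1
  have hαj : D.simple j < D.nroots := (tc.simple_pos j hj).1
  have hγ : D.reflectRoot i (D.simple j) < D.nroots := c.reflect_lt i hi _ hαj
  have hπi : π (D.simple i) < D.nroots := hlin.1 _ hαi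
  obtain ⟨w', hw'⟩ := hlin.2.2 (fun k => wl.getD k 0)
  have e1 := hw' _ hγ
  have e2 := hw' _ hαj
  have e3 := hw' _ hαi
  rw [hfγ] at e1
  rw [hfj] at e2
  rw [Cfsg.Agent.Lib.Helper18_ChevBruhat.grF_reflect c i hi _ _ hαj,
    Cfsg.Agent.Lib.Helper18_ChevBruhat.grF_reflect c i hi _ _ hαj] at e1
  have hA : (D.cartan i (D.simple j) : ℤ) ≠ 0 := hadj.2
  have e4 : Cfsg.Agent.Lib.Helper18_ChevBruhat.grF D (fun k => wl.getD k 0) (π (D.simple i)) =
      Cfsg.Agent.Lib.Helper18_ChevBruhat.grF D (fun k => wl.getD k 0) (D.simple i) := by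
    have h5 : (Cfsg.Agent.Lib.Helper18_ChevBruhat.grF D (fun k => wl.getD k 0) (π (D.simple i)) -
        Cfsg.Agent.Lib.Helper18_ChevBruhat.grF D (fun k => wl.getD k 0) (D.simple i)) *
        D.cartan i (D.simple j) = 0 := by
      rw [e3]
      linear_combination e1 - e2
    rcases mul_eq_zero.mp h5 with h | h
    · linarith
    · exact absurd h hA
  exact Cfsg.Agent.Lib.Helper18_ChevUni.gl_inj ac _ _ hπi hαi e4

end Cfsg.Agent.Lib.Helper86_GR_GCSTR
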