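/-
Helper library (helper86): if every subgroup of a subgroup `Z` of the centre of a Sylow `2`-subgroup
`S` of `H` is weakly closed in `S` with respect to `H`, then `H = O(H) C_H(Z)`.  Uses Glauberman's
`Z*`-theorem (helper23, helper17, helper55).
-/
import Mathlib
import Cfsg.Agent.S0201
import Cfsg.Agent.Lib.Helper23_ZStarC
import Cfsg.Agent.Lib.Helper32_Sylow

set_option autoImplicit false

namespace Cfsg.Agent.Lib.Helper86_WCCenter

open Cfsg
open scoped Pointwise

universe u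

section

variable {H : Type u} [Group H] [Finite H]

/-- `Z` is a central subgroup of the Sylow subgroup `S` all of whose subgroups are weakly closed in
`S` -/
structure WCHyp (S : Sylow 2 H) (Z : Subgroup H) : Prop where
  le : Z ≤ (S : Subgroup H)
  comm : ∀ s ∈ (S : Subgroup H), ∀ y ∈ Z, s * y = y * s
  wc : ∀ Z₀ : Subgroup H, Z₀ ≤ Z → Cfsg.IsWeaklyClosed Z₀ (S : Subgroup H)

/-- the hypothesis passes to quotients -/
theorem WCHyp.quotient {S : Sylow 2 H} {Z : Subgroup H} (h : WCHyp S Z) (N : Subgroup H)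
    [N.Normal] (hf : Function.Surjective (QuotientGroup.mk' N)) :
    haveI : Fact (Nat.Prime 2) := ⟨Nat.prime_two⟩
    WCHyp (S.mapSurjective hf) (Z.map (QuotientGroup.mk' N)) := by
  have : Fact (Nat.Prime 2) := ⟨Nat.prime_two⟩
  set π := QuotientGroup.mk' N with hπ
  refine ⟨?_, ?_, ?_⟩
  · rw [Sylow.coe_mapSurjective]
    exact Subgroup.map_mono h.le
  · rintro _ ⟨s, hs, rfl⟩ _ ⟨y, hy, rfl⟩
    rw [← map_mul, ← map_mul, h.comm s hs y hy]
  · intro Y hY
    refine ⟨hY.trans (Subgroup.map_mono h.le), ?_⟩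
    intro gb hgb
    obtain ⟨g, rfl⟩ := hf gb
    rw [Sylow.coe_mapSurjective] at hgb
    set Y' := Z ⊓ Y.comap π with hY'
    have hY'Z : Y' ≤ Z := inf_le_left
    have hY'map : Y'.map π = Y := by
      apply le_antisymm
      · rintro _ ⟨y, hy, rfl⟩
        exact hy.2
      · intro w hw
        obtain ⟨y, hy, rfl⟩ := hY hw
        exact ⟨y, ⟨hy, hw⟩, rfl⟩
    have hconj : Y'.map (MulAut.conj g).toMonoidHom ≤ (S : Subgroup H) ⊔ N := by
      rintro _ ⟨y, hy, rfl⟩
      have h1 : π (g * y * g⁻¹) ∈ (S : Subgroup H).map π := by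
        apply hgb
        refine ⟨π y, hy.2, ?_⟩
        show π g * π y * (π g)⁻¹ = _
        rw [map_mul, map_mul, map_inv]
      obtain ⟨s, hs, hsπ⟩ := h1
      have h2 : s⁻¹ * (g * y * g⁻¹) ∈ N := QuotientGroup.eq.mp hsπ
      have e : g * y * g⁻¹ = s * (s⁻¹ * (g * y * g⁻¹)) := by group
      show g * y * g⁻¹ ∈ _
      rw [e]
      exact mul_mem (Subgroup.mem_sup_left hs) (Subgroup.mem_sup_right h2)
    have hp : IsPGroup 2 (Y'.map (MulAut.conj g).toMonoidHom) :=
      (S.isPGroup'.to_le (hY'Z.trans h.le)).map _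
    obtain ⟨c, hcB, hc⟩ := Helper32_Sylow.sylow_conj_into ((S : Subgroup H) ⊔ N) S le_sup_left _
      hconj hp
    have hcg : Y'.map (MulAut.conj (c * g)).toMonoidHom ≤ (S : Subgroup H) := by
      rintro _ ⟨y, hy, rfl⟩
      have := hc (g * y * g⁻¹) ⟨y, hy, rfl⟩
      show c * g * y * (c * g)⁻¹ ∈ _
      have e : c * g * y * (c * g)⁻¹ = c * (g * y * g⁻¹) * c⁻¹ := by group
      rw [e]; exact this
    have heq := (h.wc Y' hY'Z).2 (c * g) hcg
    have hπc : π c ∈ (S : Subgroup H).map π := by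
      have h1 : π c ∈ ((S : Subgroup H) ⊔ N).map π := ⟨c, hcB, rfl⟩
      have h2 : N.map π = ⊥ :=
        (Subgroup.map_eq_bot_iff N).mpr (by rw [hπ, QuotientGroup.ker_mk'])
      rwa [Subgroup.map_sup, h2, sup_bot_eq] at h1
    obtain ⟨s, hs, hsc⟩ := hπc
    have hle : Y.map (MulAut.conj (π g)).toMonoidHom ≤ Y := by
      rintro _ ⟨v, hv, rfl⟩
      rw [← hY'map] at hv
      obtain ⟨y, hy, rfl⟩ := hv
      have h2 : c * g * y * (c * g)⁻¹ ∈ Y' := by
        rw [← heq]; exact ⟨y, hy, rfl⟩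
      have hu : π (c * g * y * (c * g)⁻¹) ∈ Y := by
        rw [← hY'map]; exact ⟨_, h2, rfl⟩
      have hcomm : π s * π (c * g * y * (c * g)⁻¹) = π (c * g * y * (c * g)⁻¹) * π s := by
        rw [← map_mul, ← map_mul, h.comm s hs _ (hY'Z h2)]
      show π g * π y * (π g)⁻¹ ∈ Y
      have e : π g * π y * (π g)⁻¹ = (π c)⁻¹ * π (c * g * y * (c * g)⁻¹) * π c := by
        simp only [map_mul, map_inv]
        group
      rw [e, ← hsc, mul_assoc, ← hcomm, ← mul_assoc, inv_mul_cancel, one_mul]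
      exact hu
    have hfinY : Finite Y := inferInstance
    apply Subgroup.eq_of_le_of_card_ge hle
    rw [Subgroup.card_map_of_injective (MulAut.conj (π g)).injective]

end

/-! ### the core-free case -/

theorem central_of_core_free : ∀ (n : ℕ) (H : Type u) [Group H] [Finite H] (S : Sylow 2 H)
    (Z : Subgroup H), Nat.card H = n → pPrimeCore 2 H = ⊥ → WCHyp S Z →
    ∀ h : H, ∀ y ∈ Z, h * y = y * h := by
  intro n
  induction n using Nat.strong_induction_on with
  | _ n ih =>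
  intro H _ _ S Z hn hO hZ h y hy
  have : Fact (Nat.Prime 2) := ⟨Nat.prime_two⟩
  by_cases hZbot : Z = ⊥
  · rw [hZbot, Subgroup.mem_bot] at hy
    rw [hy, mul_one, one_mul]
  -- an involution of `Z`
  have hZp : IsPGroup 2 Z := S.isPGroup'.to_le hZ.le
  obtain ⟨z, hzZ, hz2⟩ : ∃ z ∈ Z, orderOf z = 2 := by
    have hnt : Nontrivial Z := (Subgroup.nontrivial_iff_ne_bot Z).mpr hZbot
    obtain ⟨k, hk⟩ := IsPGroup.iff_card.mp hZp
    have hk0 : k ≠ 0 := by
      rintro rfl
      rw [pow_zero] at hk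
      have := (Nat.card_eq_one_iff_unique.mp hk).1
      exact not_subsingleton Z this
    have h2 : 2 ∣ Nat.card Z := by rw [hk]; exact dvd_pow_self 2 hk0
    obtain ⟨w, hw⟩ := exists_prime_orderOf_dvd_card' 2 h2
    exact ⟨w, w.2, by rw [← hw, Subgroup.orderOf_coe]⟩
  have hzS : z ∈ (S : Subgroup H) := hZ.le hzZ
  -- `z` is isolated
  have hiso : ∀ g : H, g * z * g⁻¹ ∈ (S : Subgroup H) → g * z * g⁻¹ = z := by
    intro g hg
    have hle : (Subgroup.zpowers z).map (MulAut.conj g).toMonoidHom ≤ (S : Subgroup H) := by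
      rw [MonoidHom.map_zpowers, Subgroup.zpowers_le]
      exact hg
    have heq := (hZ.wc (Subgroup.zpowers z) (Subgroup.zpowers_le.mpr hzZ)).2 g hle
    have hmem : g * z * g⁻¹ ∈ Subgroup.zpowers z := by
      rw [← heq]; exact ⟨z, Subgroup.mem_zpowers z, rfl⟩
    obtain ⟨k, hk⟩ := Subgroup.mem_zpowers_iff.mp hmem
    have ho : orderOf (g * z * g⁻¹) = 2 := by
      have := (MulAut.conj g).orderOf_eq z
      rw [MulAut.conj_apply] at this
      rw [this, hz2]
    have hzz : z * z = 1 := by rw [← pow_two, ← hz2, pow_orderOf_eq_one]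
    rcases Int.even_or_odd' k with ⟨j, hj | hj⟩
    · exfalso
      have : g * z * g⁻¹ = 1 := by
        rw [← hk, hj, zpow_mul, zpow_ofNat, pow_two, hzz, one_zpow]
      rw [this, orderOf_one] at ho
      omega
    · rw [← hk, hj, zpow_add, zpow_mul, zpow_ofNat, pow_two, hzz, one_zpow, one_mul, zpow_one]
  -- `z` is central
  have hBS : Cfsg.Agent.Lib.Helper23_ZStar.BrauerSuzukiHyp.{u} :=
    fun H _ _ S n e hO => Cfsg.Agent.S0201.result S n e hO
  have hzc : ∀ g : H, g * z = z * g := by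
    intro g
    have := Cfsg.Agent.Lib.Helper23_ZStarC.zstar_sylow hBS S z hz2 hzS hiso g
    rw [hO, Subgroup.mem_bot] at this
    have e : z * g = (z * g * z⁻¹ * g⁻¹) * (g * z) := by group
    rw [e, this, one_mul]
  -- the quotient by `⟨z⟩`
  have hZ₁n : (Subgroup.zpowers z).Normal := by
    refine ⟨fun w hw g => ?_⟩
    obtain ⟨k, rfl⟩ := Subgroup.mem_zpowers_iff.mp hw
    have hc : Commute g (z ^ k) := Commute.zpow_right (hzc g) k
    rw [hc.eq, mul_inv_cancel_right]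
    exact hw
  have hZ₁c : Nat.card (Subgroup.zpowers z) = 2 := by rw [Nat.card_zpowers, hz2]
  have hcardq : Nat.card (H ⧸ Subgroup.zpowers z) < n := by
    have h1 := Subgroup.card_eq_card_quotient_mul_card_subgroup (Subgroup.zpowers z)
    rw [hZ₁c, hn] at h1
    have hpos : 0 < Nat.card (H ⧸ Subgroup.zpowers z) := Nat.card_pos
    omega
  have hf : Function.Surjective (QuotientGroup.mk' (Subgroup.zpowers z)) :=
    QuotientGroup.mk'_surjective _
  have hquot := ih _ hcardq (H ⧸ Subgroup.zpowers z) (S.mapSurjective hf)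
    (Z.map (QuotientGroup.mk' (Subgroup.zpowers z))) rfl
    (Cfsg.Agent.Lib.Helper23_ZStar.pPrimeCore_quotient_order_two_eq_bot hO _ hZ₁c)
    (hZ.quotient _ hf)
  -- commutators with `y` lie in `⟨z⟩`
  have hcomm : ∀ a : H, a * y * a⁻¹ * y⁻¹ ∈ Subgroup.zpowers z := by
    intro a
    have h1 := hquot (QuotientGroup.mk' _ a) (QuotientGroup.mk' _ y) ⟨y, hy, rfl⟩
    rw [← QuotientGroup.eq_one_iff]
    have h2 : (QuotientGroup.mk' (Subgroup.zpowers z)) (a * y * a⁻¹ * y⁻¹) = 1 := by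
      rw [map_mul, map_mul, map_mul, h1, map_inv, map_inv, mul_inv_cancel_right, mul_inv_cancel]
    exact h2
  have hcen : ∀ w ∈ Subgroup.zpowers z, ∀ g : H, g * w = w * g := by
    intro w hw g
    obtain ⟨k, rfl⟩ := Subgroup.mem_zpowers_iff.mp hw
    exact (Commute.zpow_right (hzc g) k).eq
  -- the commutator map is a homomorphism
  let f : H →* H := MonoidHom.mk' (fun a => a * y * a⁻¹ * y⁻¹) (by
    intro a b
    have hb := hcen _ (hcomm b)
    obtain ⟨cb, hcb⟩ : ∃ cb, cb = b * y * b⁻¹ * y⁻¹ := ⟨_, rfl⟩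
    rw [← hcb] at hb ⊢
    calc a * b * y * (a * b)⁻¹ * y⁻¹ = a * (cb * y) * a⁻¹ * y⁻¹ := by rw [hcb]; group
      _ = (a * cb) * (y * a⁻¹ * y⁻¹) := by group
      _ = (cb * a) * (y * a⁻¹ * y⁻¹) := by rw [hb a]
      _ = cb * (a * y * a⁻¹ * y⁻¹) := by group
      _ = (a * y * a⁻¹ * y⁻¹) * cb := (hb _).symm)
  have hfa : ∀ a, f a = a * y * a⁻¹ * y⁻¹ := fun a => rfl
  have hrange : f.range ≤ Subgroup.zpowers z := by
    rintro _ ⟨a, rfl⟩
    exact hcomm a
  have hSker : (S : Subgroup H) ≤ f.ker := by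
    intro s hs
    rw [MonoidHom.mem_ker, hfa, hZ.comm s hs y hy, mul_inv_cancel_right, mul_inv_cancel]
  have hidx2 : f.ker.index ∣ 2 := by
    rw [Subgroup.index_ker, ← hZ₁c]
    exact Subgroup.card_dvd_of_le hrange
  have hidxS : f.ker.index ∣ (S : Subgroup H).index := Subgroup.index_dvd_of_le hSker
  have hker : f.ker = ⊤ := by
    rw [← Subgroup.index_eq_one]
    rcases (Nat.dvd_prime Nat.prime_two).mp hidx2 with h1 | h2
    · exact h1
    · exfalso
      rw [h2] at hidxS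
      exact S.not_dvd_index hidxS
  have hh : f h = 1 := by
    rw [← MonoidHom.mem_ker, hker]; exact Subgroup.mem_top h
  rw [hfa] at hh
  have e : h * y = (h * y * h⁻¹ * y⁻¹) * (y * h) := by group
  rw [e, hh, one_mul]

/-! ### the general case -/

section general

variable {H : Type u} [Group H] [Finite H]

/-- commutators of elements of `Z` with elements of `H` lie in the odd core -/
theorem commutator_mem_oddCore {S : Sylow 2 H} {Z : Subgroup H} (hZ : WCHyp S Z) (h : H) (y : H)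
    (hy : y ∈ Z) : h * y * h⁻¹ * y⁻¹ ∈ pPrimeCore 2 H := by
  have : Fact (Nat.Prime 2) := ⟨Nat.prime_two⟩
  have hf : Function.Surjective (QuotientGroup.mk' (pPrimeCore 2 H)) :=
    QuotientGroup.mk'_surjective _
  have hq := central_of_core_free _ (H ⧸ pPrimeCore 2 H) (S.mapSurjective hf)
    (Z.map (QuotientGroup.mk' (pPrimeCore 2 H))) rfl
    (Cfsg.Agent.Lib.Helper23_PComp.pPrimeCore_quotient_eq_bot H 2) (hZ.quotient _ hf)
    (QuotientGroup.mk' _ h) (QuotientGroup.mk' _ y) ⟨y, hy, rfl⟩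
  rw [← QuotientGroup.eq_one_iff]
  have h2 : (QuotientGroup.mk' (pPrimeCore 2 H)) (h * y * h⁻¹ * y⁻¹) = 1 := by
    rw [map_mul, map_mul, map_mul, hq, map_inv, map_inv, mul_inv_cancel_right, mul_inv_cancel]
  exact h2

theorem inf_oddCore_eq_bot {S : Sylow 2 H} {Z : Subgroup H} (hZ : Z ≤ (S : Subgroup H)) (w : H)
    (hw : w ∈ Z) (hwO : w ∈ pPrimeCore 2 H) : w = 1 := by
  have : Fact (Nat.Prime 2) := ⟨Nat.prime_two⟩
  have h1 : orderOf w ∣ Nat.card (pPrimeCore 2 H) := by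
    have := orderOf_dvd_natCard (⟨w, hwO⟩ : pPrimeCore 2 H)
    rwa [Subgroup.orderOf_mk] at this
  obtain ⟨k, hk⟩ := (S.isPGroup'.to_le hZ) ⟨w, hw⟩
  have h2 : orderOf w ∣ 2 ^ k := by
    apply orderOf_dvd_of_pow_eq_one
    exact congrArg Subtype.val hk
  have hcop : (Nat.card (pPrimeCore 2 H)).Coprime (2 ^ k) :=
    Nat.Coprime.pow_right k (Cfsg.Agent.Lib.Helper1_Cores.pPrimeCore_card_coprime 2)
  have h3 : orderOf w ∣ 1 := by
    have := Nat.dvd_gcd h1 h2
    rwa [hcop] at this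
  exact orderOf_eq_one_iff.mp (Nat.dvd_one.mp h3)

/-- **`H = O(H) C_H(Z)`** when every subgroup of `Z ≤ Z(S)` is weakly closed in `S` -/
theorem core_mul_centralizer {S : Sylow 2 H} {Z : Subgroup H} (hZ : WCHyp S Z) (h : H) :
    ∃ o ∈ pPrimeCore 2 H, ∃ c ∈ Subgroup.centralizer (Z : Set H), h = o * c := by
  have : Fact (Nat.Prime 2) := ⟨Nat.prime_two⟩
  -- the conjugate of `Z` by `h` lies in `S O(H)`
  have hconj : Z.map (MulAut.conj h).toMonoidHom ≤ (S : Subgroup H) ⊔ pPrimeCore 2 H := by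
    rintro _ ⟨y, hy, rfl⟩
    show h * y * h⁻¹ ∈ _
    have e : h * y * h⁻¹ = (h * y * h⁻¹ * y⁻¹) * y := by group
    rw [e]
    exact mul_mem (Subgroup.mem_sup_right (commutator_mem_oddCore hZ h y hy))
      (Subgroup.mem_sup_left (hZ.le hy))
  have hp : IsPGroup 2 (Z.map (MulAut.conj h).toMonoidHom) := (S.isPGroup'.to_le hZ.le).map _
  obtain ⟨c, hcB, hc⟩ := Helper32_Sylow.sylow_conj_into ((S : Subgroup H) ⊔ pPrimeCore 2 H) S
    le_sup_left _ hconj hp
  have hcg : Z.map (MulAut.conj (c * h)).toMonoidHom ≤ (S : Subgroup H) := by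
    rintro _ ⟨y, hy, rfl⟩
    have := hc (h * y * h⁻¹) ⟨y, hy, rfl⟩
    show c * h * y * (c * h)⁻¹ ∈ _
    have e : c * h * y * (c * h)⁻¹ = c * (h * y * h⁻¹) * c⁻¹ := by group
    rw [e]; exact this
  have heq := (hZ.wc Z le_rfl).2 (c * h) hcg
  -- `c h` centralizes `Z`
  have hcent : c * h ∈ Subgroup.centralizer (Z : Set H) := by
    rw [Subgroup.mem_centralizer_iff]
    intro y hy
    have h1 : c * h * y * (c * h)⁻¹ ∈ Z := by
      rw [← heq]; exact ⟨y, hy, rfl⟩
    have h2 : c * h * y * (c * h)⁻¹ * y⁻¹ ∈ Z := mul_mem h1 (inv_mem hy)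
    have h3 := inf_oddCore_eq_bot hZ.le _ h2 (commutator_mem_oddCore hZ (c * h) y hy)
    have e : c * h * y = (c * h * y * (c * h)⁻¹ * y⁻¹) * (y * (c * h)) := by group
    rw [e, h3, one_mul]
  -- decompose `c⁻¹`
  have hcinv : c⁻¹ ∈ pPrimeCore 2 H ⊔ (S : Subgroup H) := by
    rw [sup_comm]; exact inv_mem hcB
  have hOn : (pPrimeCore 2 H).Normal := Cfsg.Agent.Lib.Helper1_Cores.pPrimeCore_normal 2
  have hset : c⁻¹ ∈ ((pPrimeCore 2 H : Set H) * ((S : Subgroup H) : Set H)) := by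
    rw [← Subgroup.normal_mul]; exact hcinv
  obtain ⟨o, ho, s, hs, hos⟩ := Set.mem_mul.mp hset
  refine ⟨o, ho, s * (c * h), ?_, ?_⟩
  · apply mul_mem _ hcent
    rw [Subgroup.mem_centralizer_iff]
    intro y hy
    exact (hZ.comm s hs y hy).symm
  · rw [← mul_assoc, hos, inv_mul_cancel_left]

end general

end Cfsg.Agent.Lib.Helper86_WCCenter
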