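/-
Helper library (helper86): finite groups with a quasi-dihedral or wreathed Sylow 2-subgroup `S` and
an isolated involution in `S`: `O(G) Z(S)` is normal.
-/
import Cfsg.Agent.Lib.Helper86_WCCenter
import Cfsg.Agent.Lib.Helper86_QDCentralizer
import Cfsg.Agent.Lib.Helper86_WrCentralizer
import Cfsg.Agent.S2968

set_option autoImplicit false
set_option linter.unusedSectionVars false

namespace Cfsg.Agent.Lib.Helper86_IsolatedQDWr

open Cfsg Cfsg.Agent.Lib.Helper86_WCCenter
open scoped Pointwise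

universe u

section

variable {G : Type u} [Group G] [Finite G]

/-- an isolated involution of a Sylow subgroup is central in it -/
theorem isolated_mem_center (S : Sylow 2 G) (z : G) (hzS : z ∈ (S : Subgroup G))
    (hz : Cfsg.IsIsolatedInvolution z) :
    z ∈ (Subgroup.center (S : Subgroup G)).map (S : Subgroup G).subtype := by
  have : Fact (Nat.Prime 2) := ⟨Nat.prime_two⟩
  have h := (Cfsg.Agent.S2968.result S z hzS ⟨1, by rw [hz.1, pow_one]⟩ hz.2).1
  rw [Cfsg.Agent.Lib.Helper86_QuasiDihedral.map_center_subtype]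
  exact h

/-- the subgroup `O(G) Z` is normal when commutators with `Z` lie in `O(X)` -/
theorem normal_of_commutator_mem (Z : Subgroup G)
    (hcomm : ∀ h : G, ∀ y ∈ Z, h * y * h⁻¹ * y⁻¹ ∈ pPrimeCore 2 G) :
    (pPrimeCore 2 G ⊔ Z).Normal := by
  have hOn : (pPrimeCore 2 G).Normal := Cfsg.Agent.Lib.Helper1_Cores.pPrimeCore_normal 2
  refine ⟨fun w hw g => ?_⟩
  have hset : w ∈ ((pPrimeCore 2 G : Set G) * (Z : Set G)) := by
    rw [← Subgroup.normal_mul]; exact hw
  obtain ⟨o, ho, y, hy, rfl⟩ := Set.mem_mul.mp hset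
  have e : g * (o * y) * g⁻¹ = (g * o * g⁻¹) * (g * y * g⁻¹ * y⁻¹) * y := by group
  rw [e]
  exact mul_mem (mul_mem (Subgroup.mem_sup_left (hOn.conj_mem o ho g))
    (Subgroup.mem_sup_left (hcomm g y hy))) (Subgroup.mem_sup_right hy)

theorem isWeaklyClosed_bot (P : Subgroup G) : Cfsg.IsWeaklyClosed (⊥ : Subgroup G) P := by
  refine ⟨bot_le, fun g _ => ?_⟩
  rw [Subgroup.map_bot]

/-- the quasi-dihedral case -/
theorem wcHyp_qd (S : Sylow 2 G) (hS : Cfsg.IsQuasiDihedral (S : Subgroup G)) (z : G)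
    (hzS : z ∈ (S : Subgroup G)) (hz : Cfsg.IsIsolatedInvolution z) :
    WCHyp S ((Subgroup.center (S : Subgroup G)).map (S : Subgroup G).subtype) := by
  open Cfsg.Agent.Lib.Helper86_QuasiDihedral Cfsg.Agent.Lib.Helper55_QDCoord
    Cfsg.Agent.Lib.Helper55_QDFusion in
  obtain ⟨k, -, ⟨e⟩⟩ := exists_mulEquiv hS
  have hzc := isolated_mem_center S z hzS hz
  have hz1 : z ≠ 1 := by
    intro h
    have := hz.1
    rw [h, orderOf_one] at this
    omega
  have hzX : z = X e (hh (2 ^ k)) := by
    rcases (mem_center_map e z).mp hzc with h | h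
    · exact absurd h hz1
    · exact h
  have hTF : ¬ TF e := by
    intro h
    obtain ⟨g, hg⟩ := isConj_iff.mp h
    rw [← hzX] at hg
    have hcomm : Commute z (g * z * g⁻¹) := by
      rw [hg, hzX]
      exact (X_hh_comm e (Y_mem e 0)).symm
    have := hz.2 g hcomm
    rw [hg, hzX] at this
    exact X_ne_Y e _ _ this.symm
  have hwc := isWeaklyClosed_center e hTF
  refine ⟨?_, ?_, ?_⟩
  · rintro _ ⟨w, -, rfl⟩
    exact w.2
  · rintro s hs _ ⟨w, hw, rfl⟩
    have := Subgroup.mem_center_iff.mp hw ⟨s, hs⟩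
    exact congrArg Subtype.val this
  · intro Z₀ hZ₀
    by_cases hzZ₀ : X e (hh (2 ^ k)) ∈ Z₀
    · have : Z₀ = (Subgroup.center (S : Subgroup G)).map (S : Subgroup G).subtype := by
        apply le_antisymm hZ₀
        intro w hw
        rcases (mem_center_map e w).mp hw with rfl | rfl
        · exact one_mem _
        · exact hzZ₀
      rw [this]; exact hwc
    · have : Z₀ = ⊥ := by
        rw [eq_bot_iff]
        intro w hw
        rcases (mem_center_map e w).mp (hZ₀ hw) with rfl | rfl
        · exact Subgroup.mem_bot.mpr rfl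
        · exact absurd hw hzZ₀
      rw [this]; exact isWeaklyClosed_bot _

/-- the wreathed case -/
theorem wcHyp_wr (S : Sylow 2 G) (hS : Cfsg.IsWreathed (S : Subgroup G)) (z : G)
    (hzS : z ∈ (S : Subgroup G)) (hz : Cfsg.IsIsolatedInvolution z) :
    WCHyp S ((Subgroup.center (S : Subgroup G)).map (S : Subgroup G).subtype) := by
  open Cfsg.Agent.Lib.Helper86_WrG in
  have hzc := isolated_mem_center S z hzS hz
  have hS' := hS
  obtain ⟨n, hn2, hcard, -⟩ := hS'
  have hcard' : Nat.card S = 2 ^ (2 * n + 1) := hcard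
  have hpow : 2 * 2 ^ (n - 1) = 2 ^ n := by
    rw [← pow_succ']; congr 1; omega
  obtain ⟨W, hW⟩ := exists_wrSylow' S hS n hcard' (2 * 2 ^ (n - 1)) hpow
  subst hW
  rw [W.center_map_eq_Z] at hzc ⊢
  have hz1 : z ≠ 1 := by
    intro h
    have := hz.1
    rw [h, orderOf_one] at this
    omega
  have hzz : z * z = 1 := by rw [← pow_two, ← hz.1, pow_orderOf_eq_one]
  have hzz1 : z = W.z1 := W.Z_involution hzc hzz hz1
  have h₁ : (Subgroup.centralizer (W.U : Set G)).relIndex (Subgroup.normalizer (W.U : Set G)) = 2 := by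
    rcases W.relIndex_U_two_or_six with h | h
    · exact h
    · exfalso
      obtain ⟨-, -, -, hc1, -, -⟩ := W.exists_of_relIndex_U_six h
      obtain ⟨g, hg⟩ := isConj_iff.mp hc1
      rw [← hzz1] at hg
      have hu1S : W.u1 ∈ (W.S : Subgroup G) := W.U_le W.u1_mem_U
      have hcomm : Commute z (g * z * g⁻¹) := by
        rw [hg]
        exact (W.Z_central hu1S hzc).symm
      have := hz.2 g hcomm
      rw [hg, hzz1] at this
      exact W.z1_ne_u1 this.symm
  have hact := W.acts_U_of_relIndex_two h₁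
  refine ⟨W.Z_le, ?_, ?_⟩
  · intro s hs y hy
    exact W.Z_central hs hy
  · intro Z₀ hZ₀
    exact W.isWeaklyClosed_of_fusion_Z (W.fusion_Z hact) Z₀ hZ₀

/-- **`O(G) Z(S)` is normal** when `S` is quasi-dihedral or wreathed and contains an isolated
involution -/
theorem main (S : Sylow 2 G)
    (hS : Cfsg.IsQuasiDihedral (S : Subgroup G) ∨ Cfsg.IsWreathed (S : Subgroup G)) (z : G)
    (hzS : z ∈ (S : Subgroup G)) (hz : Cfsg.IsIsolatedInvolution z) :
    (Cfsg.oddCore G ⊔ (Subgroup.center (S : Subgroup G)).map (S : Subgroup G).subtype).Normal := by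
  have hW : WCHyp S ((Subgroup.center (S : Subgroup G)).map (S : Subgroup G).subtype) := by
    rcases hS with h | h
    · exact wcHyp_qd S h z hzS hz
    · exact wcHyp_wr S h z hzS hz
  exact normal_of_commutator_mem _ (fun h y hy => commutator_mem_oddCore hW h y hy)

end

end Cfsg.Agent.Lib.Helper86_IsolatedQDWr
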