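import Mathlib
import Cfsg.Agent.Lib.Helper74_M11UDefs

/-!
# S0420 package A2 (architect helper74): the nine involutions inverting a Sylow 3-subgroup.
-/

set_option autoImplicit false
set_option linter.unusedSectionVars false
set_option linter.unusedVariables false

open Cfsg.Agent.Lib.Helper74_M11UDefs
open scoped Pointwise

namespace Cfsg.Agent.Lib.Helper86_M11U_A2

universe u

variable {G : Type u} [Group G] [Finite G]

theorem mem_CC_iff {z c : G} : c ∈ CC z ↔ c * z = z * c :=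
  Subgroup.mem_centralizer_singleton_iff

/-- an inverting involution also inverts from the other side -/
theorem inv_conj {z : G} {P : Subgroup G} (hz : Inverts z P) {y : G} (hy : y ∈ P) :
    z⁻¹ * y * z = y⁻¹ := by
  have h1 := hz.2 y⁻¹ (inv_mem hy)
  rw [inv_inv] at h1
  calc z⁻¹ * y * z = z⁻¹ * (z * y⁻¹ * z⁻¹) * z := by rw [h1]
    _ = y⁻¹ := by group

/-- the quotient of two inverting involutions centralises -/
theorem mul_inv_mem_centralizer {z z' : G} {P : Subgroup G} (hz : Inverts z P)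
    (hz' : Inverts z' P) : z' * z⁻¹ ∈ Subgroup.centralizer (P : Set G) := by
  rw [Subgroup.mem_centralizer_iff]
  intro y hy
  have hy' : y ∈ P := hy
  symm
  calc z' * z⁻¹ * y = z' * (z⁻¹ * y * z) * z⁻¹ := by group
    _ = z' * y⁻¹ * z⁻¹ := by rw [inv_conj hz hy']
    _ = (z' * y⁻¹ * z'⁻¹) * z' * z⁻¹ := by group
    _ = y * (z' * z⁻¹) := by rw [hz'.2 y⁻¹ (inv_mem hy'), inv_inv, mul_assoc]

/-- an element of `P` commuting with an inverting involution is trivial -/
theorem eq_one_of_comm (hp : LocP G) {P : Sylow 3 G} {z y : G}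
    (hz : Inverts z (P : Subgroup G)) (hy : y ∈ (P : Subgroup G)) (hc : y * z = z * y) :
    y = 1 := by
  have h1 := hz.2 y hy
  have h2 : z * y * z⁻¹ = y := by rw [← hc]; group
  have h3 : y = y⁻¹ := by rw [← h1, h2]
  have h4 : y ^ 2 = 1 := by
    rw [pow_two]
    nth_rewrite 1 [h3]
    exact inv_mul_cancel y
  have h5 := hp.exp3 P y hy
  calc y = y ^ 3 * (y ^ 2)⁻¹ := by group
    _ = 1 := by rw [h4, h5]; simp

theorem conj (hp : LocP G) (P : Sylow 3 G) (z z' : G) (hz : Inverts z (P : Subgroup G))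
    (hz' : Inverts z' (P : Subgroup G)) : ∃ y ∈ (P : Subgroup G), z' = y * z * y⁻¹ := by
  have hu : z' * z⁻¹ ∈ (P : Subgroup G) := by
    rw [← hp.cent P]
    exact mul_inv_mem_centralizer hz hz'
  set u := z' * z⁻¹ with hu_def
  have hu3 := hp.exp3 P u hu
  refine ⟨u⁻¹, inv_mem hu, ?_⟩
  -- u⁻¹ z u = u⁻¹ (z u z⁻¹) z = u⁻¹ u⁻¹ z = u z
  have h1 := hz.2 u hu
  calc z' = u * z := by rw [hu_def]; group
    _ = u ^ 3 * (u⁻¹ * u⁻¹) * z := by group
    _ = u⁻¹ * (z * u * z⁻¹) * z := by rw [hu3, h1]; group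
    _ = u⁻¹ * z * u⁻¹⁻¹ := by group

theorem uniq (hp : LocP G) (P Q : Sylow 3 G) (z z' : G) (hPQ : P ≠ Q)
    (h1 : Inverts z (P : Subgroup G)) (h2 : Inverts z (Q : Subgroup G))
    (h3 : Inverts z' (P : Subgroup G)) (h4 : Inverts z' (Q : Subgroup G)) : z = z' := by
  have hP : z' * z⁻¹ ∈ (P : Subgroup G) := by
    rw [← hp.cent P]
    exact mul_inv_mem_centralizer h1 h3
  have hQ : z' * z⁻¹ ∈ (Q : Subgroup G) := by
    rw [← hp.cent Q]
    exact mul_inv_mem_centralizer h2 h4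
  have := hp.ti P Q hPQ _ hP hQ
  exact (mul_inv_eq_one.mp this).symm

/-- existence of an inverting involution -/
theorem ex (h : Loc G) (hL : LInvStmt G) (P : Sylow 3 G) :
    ∃ z : G, Inverts z (P : Subgroup G) := by
  have : Fact (Nat.Prime 2) := ⟨Nat.prime_two⟩
  have hdvd : 2 ^ 4 ∣ Nat.card ↥(NN P) := by rw [h.n3 P]; norm_num
  obtain ⟨S, hS⟩ := Sylow.exists_subgroup_card_pow_prime 2 hdvd
  have hSp : IsPGroup 2 ↥S := IsPGroup.of_card hS
  have : Nontrivial ↥S := by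
    apply (Finite.one_lt_card_iff_nontrivial).mp
    rw [hS]; norm_num
  have := hSp.center_nontrivial
  have hZp : IsPGroup 2 ↥(Subgroup.center ↥S) := hSp.to_subgroup _
  obtain ⟨k, hk⟩ := IsPGroup.iff_card.mp hZp
  have hk0 : k ≠ 0 := by
    rintro rfl
    have : 1 < Nat.card ↥(Subgroup.center ↥S) := Finite.one_lt_card
    omega
  have h2dvd : 2 ∣ Nat.card ↥(Subgroup.center ↥S) := by
    rw [hk]; exact dvd_pow_self 2 hk0
  obtain ⟨w, hw⟩ := exists_prime_orderOf_dvd_card' 2 h2dvd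
  -- w : center S, of order 2
  set D : Subgroup G := (S.map (NN P).subtype) with hD
  have hDle : D ≤ NN P := by
    rintro x ⟨s, -, rfl⟩
    exact s.2
  have hDcard : Nat.card ↥D = 2 ^ 4 := by
    rw [hD, Subgroup.card_map_of_injective (Subgroup.subtype_injective _), hS]
  set w' : G := (((w : ↥S) : ↥(NN P)) : G) with hw'
  have hw'D : w' ∈ D := ⟨(w : ↥S), (w : ↥S).2, rfl⟩
  have hw'ord : orderOf w' = 2 := by
    rw [hw', Subgroup.orderOf_coe, Subgroup.orderOf_coe, Subgroup.orderOf_coe]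
    exact hw
  have hcomm : ∀ g ∈ D, g * w' = w' * g := by
    rintro g ⟨s, hs, rfl⟩
    have hc := Subgroup.mem_center_iff.mp w.2 ⟨s, hs⟩
    have hc' := congrArg (fun t : ↥S => ((t : ↥(NN P)) : G)) hc
    simpa using hc'
  exact ⟨w', hL P D hDle ⟨4, hDcard⟩ (by rw [hDcard]; norm_num) w' hw'D hw'ord hcomm⟩

/-- `N(P) = P ⋊ (N(P) ∩ C(z))`, counted -/
theorem cardS (h : Loc G) (hp : LocP G) (P : Sylow 3 G) (z : G)
    (hz : Inverts z (P : Subgroup G)) : Nat.card ↥(NN P ⊓ CC z) = 16 := by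
  let f : ↥(P : Subgroup G) × ↥(NN P ⊓ CC z) → ↥(NN P) := fun a =>
    ⟨(a.1 : G) * (a.2 : G), mul_mem (Subgroup.le_normalizer a.1.2) a.2.2.1⟩
  have hinj : Function.Injective f := by
    rintro ⟨y, s⟩ ⟨y', s'⟩ hyy
    have e : (y : G) * (s : G) = (y' : G) * (s' : G) := congrArg Subtype.val hyy
    -- y'⁻¹ y = s' s⁻¹ ∈ P ∩ C(z)
    have e2 : (y' : G)⁻¹ * (y : G) = (s' : G) * (s : G)⁻¹ := by
      calc (y' : G)⁻¹ * (y : G) = (y' : G)⁻¹ * ((y : G) * (s : G)) * (s : G)⁻¹ := by group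
        _ = (s' : G) * (s : G)⁻¹ := by rw [e]; group
    have hmemP : (y' : G)⁻¹ * (y : G) ∈ (P : Subgroup G) := mul_mem (inv_mem y'.2) y.2
    have hmemC : (y' : G)⁻¹ * (y : G) ∈ CC z := by
      rw [e2]; exact mul_mem s'.2.2 (inv_mem s.2.2)
    have h1 := eq_one_of_comm hp hz hmemP (mem_CC_iff.mp hmemC)
    have hy : (y : G) = (y' : G) := by
      have := inv_mul_eq_one.mp h1
      exact this.symm
    have hs : (s : G) = (s' : G) := by
      rw [hy] at e
      exact mul_left_cancel e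
    have hy2 : y = y' := Subtype.ext hy
    have hs2 : s = s' := Subtype.ext hs
    rw [hy2, hs2]
  have hsurj : Function.Surjective f := by
    rintro ⟨g, hg⟩
    have hgP : g • P = P := mem_NN_iff.mp hg
    have h1 : Inverts (g * z * g⁻¹) (P : Subgroup G) := by
      have := hz.conj g
      rwa [hgP] at this
    obtain ⟨y, hy, hyz⟩ := conj hp P z (g * z * g⁻¹) hz h1
    have hsN : y⁻¹ * g ∈ NN P := mul_mem (inv_mem (Subgroup.le_normalizer hy)) hg
    have hsC : y⁻¹ * g ∈ CC z := by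
      rw [mem_CC_iff]
      calc y⁻¹ * g * z = y⁻¹ * (g * z * g⁻¹) * g := by group
        _ = y⁻¹ * (y * z * y⁻¹) * g := by rw [hyz]
        _ = z * (y⁻¹ * g) := by group
    refine ⟨(⟨y, hy⟩, ⟨y⁻¹ * g, hsN, hsC⟩), ?_⟩
    apply Subtype.ext
    show y * (y⁻¹ * g) = g
    group
  have hcard := Nat.card_congr (Equiv.ofBijective f ⟨hinj, hsurj⟩)
  rw [Nat.card_prod, hp.cardP P, h.n3 P] at hcard
  omega

theorem A2 (h : Loc G) (hp : LocP G) (hL : LInvStmt G) : InvP G :=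
  ⟨fun P => ex h hL P, fun P z z' hz hz' => conj hp P z z' hz hz',
    fun P z hz => cardS h hp P z hz,
    fun P Q z z' hPQ h1 h2 h3 h4 => uniq hp P Q z z' hPQ h1 h2 h3 h4⟩

end Cfsg.Agent.Lib.Helper86_M11U_A2
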