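import Mathlib
import Cfsg.Agent.Lib.Helper74_M11UDefs

/-!
# S0420 package A4a (architect helper74): an involution inverts exactly three Sylow 3-subgroups,
and its centralizer permutes them transitively.
-/

set_option autoImplicit false
set_option linter.unusedSectionVars false
set_option linter.unusedVariables false

open Cfsg.Agent.Lib.Helper74_M11UDefs
open scoped Pointwise

namespace Cfsg.Agent.Lib.Helper86_M11U_A4a

universe u

variable {G : Type u} [Group G] [Finite G]

theorem mem_CC_iff {z c : G} : c ∈ CC z ↔ c * z = z * c :=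
  Subgroup.mem_centralizer_singleton_iff

/-- `C(z)` is transitive on the Sylow 3-subgroups inverted by `z`. -/
theorem transC (hi : InvP G) (z : G) (P Q : Sylow 3 G)
    (hP : Inverts z (P : Subgroup G)) (hQ : Inverts z (Q : Subgroup G)) :
    ∃ c ∈ CC z, c • P = Q := by
  obtain ⟨g, rfl⟩ := MulAction.exists_smul_eq G P Q
  have h1 : Inverts (g⁻¹ * z * g) (P : Subgroup G) := by
    apply Inverts.of_conj (g := g)
    have e : g * (g⁻¹ * z * g) * g⁻¹ = z := by group
    rwa [e]
  obtain ⟨y, hy, hyz⟩ := hi.conj P z (g⁻¹ * z * g) hP h1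
  refine ⟨g * y, ?_, ?_⟩
  · rw [mem_CC_iff]
    have e : z = g * (y * z * y⁻¹) * g⁻¹ := by rw [← hyz]; group
    calc g * y * z = g * (y * z * y⁻¹) * g⁻¹ * (g * y) := by group
      _ = z * (g * y) := by rw [← e]
  · rw [mul_smul]
    congr 1
    exact mem_NN_iff.mp (Subgroup.le_normalizer hy)

theorem three (h : Loc G) (hi : InvP G) (P : Sylow 3 G) (z : G)
    (hP : Inverts z (P : Subgroup G)) :
    ∃ Q T : Sylow 3 G, P ≠ Q ∧ P ≠ T ∧ Q ≠ T ∧ Inverts z (Q : Subgroup G) ∧
      Inverts z (T : Subgroup G) ∧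
      ∀ X : Sylow 3 G, Inverts z (X : Subgroup G) → X = P ∨ X = Q ∨ X = T := by
  have horb : MulAction.orbit ↥(CC z) P = {X : Sylow 3 G | Inverts z (X : Subgroup G)} := by
    ext X
    constructor
    · rintro ⟨c, rfl⟩
      have h1 := hP.conj (c : G)
      have hc : (c : G) * z * (c : G)⁻¹ = z := by
        have := mem_CC_iff.mp c.2
        rw [this]; group
      rw [hc] at h1
      exact h1
    · intro hX
      obtain ⟨c, hc, rfl⟩ := transC hi z P X hP hX
      exact ⟨⟨c, hc⟩, rfl⟩
  have hstab : MulAction.stabilizer ↥(CC z) P = (NN P ⊓ CC z).subgroupOf (CC z) := by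
    ext c
    rw [MulAction.mem_stabilizer_iff, Subgroup.mem_subgroupOf, Subgroup.mem_inf, mem_NN_iff]
    constructor
    · intro hc; exact ⟨hc, c.2⟩
    · intro hc; exact hc.1
  have hcard_stab : Nat.card (MulAction.stabilizer ↥(CC z) P) = 16 := by
    rw [hstab, Nat.card_congr (Subgroup.subgroupOfEquivOfLe
      (inf_le_right : NN P ⊓ CC z ≤ CC z)).toEquiv]
    exact hi.cardS P z hP
  have hidx := MulAction.index_stabilizer ↥(CC z) P
  have hmul := Subgroup.card_mul_index (MulAction.stabilizer ↥(CC z) P)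
  rw [h.c2 z hP.1, hcard_stab, hidx, horb] at hmul
  have h3 : {X : Sylow 3 G | Inverts z (X : Subgroup G)}.ncard = 3 := by omega
  have hPmem : P ∈ {X : Sylow 3 G | Inverts z (X : Subgroup G)} := hP
  have h2 : ({X : Sylow 3 G | Inverts z (X : Subgroup G)} \ {P}).ncard = 2 := by
    rw [Set.ncard_sdiff_singleton_of_mem hPmem, h3]
  obtain ⟨Q, T, hQT, hset⟩ := Set.ncard_eq_two.mp h2
  have hQ : Q ∈ {X : Sylow 3 G | Inverts z (X : Subgroup G)} \ {P} := by
    rw [hset]; simp
  have hT : T ∈ {X : Sylow 3 G | Inverts z (X : Subgroup G)} \ {P} := by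
    rw [hset]; simp
  refine ⟨Q, T, fun e => hQ.2 e.symm, fun e => hT.2 e.symm, hQT, hQ.1, hT.1, ?_⟩
  intro X hX
  by_cases hXP : X = P
  · exact Or.inl hXP
  · right
    have : X ∈ {X : Sylow 3 G | Inverts z (X : Subgroup G)} \ {P} := ⟨hX, hXP⟩
    rw [hset] at this
    simpa using this

theorem A4a (h : Loc G) (hp : LocP G) (hi : InvP G) : TriA G :=
  ⟨fun z P Q hP hQ => transC hi z P Q hP hQ, fun P z hP => three h hi P z hP⟩

end Cfsg.Agent.Lib.Helper86_M11U_A4a
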