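import Mathlib
import Cfsg.Agent.Lib.Helper86_FusM23

/-!
Fixed points of the elements of order two and three of the Mathieu group of degree 23 on the 24
points: an involution fixes at least eight points and an element of order three at least six.
By Sylow's theorem it is enough to look at a Sylow 2-subgroup (the one of `Helper86_FusM23`, of
order 128) and at a Sylow 3-subgroup (an explicit elementary abelian group of order 9).
-/

set_option autoImplicit false
open Cfsg
open scoped Pointwise
open Cfsg.Agent.Lib.Helper26_Golay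
open Cfsg.Agent.Lib.Helper93_M24Obj
open Cfsg.Agent.Lib.Helper27_EnumGroup (tblAt)
open Cfsg.Agent.Lib.Helper93_OutM24

namespace Cfsg.Agent.Lib.Helper86_M23Fix

/-- the number of fixed points of a permutation -/
def fixN (σ : Equiv.Perm GolayPt) : ℕ := (Finset.univ.filter fun p => σ p = p).card

theorem fixN_conj (h g : Equiv.Perm GolayPt) : fixN (h * g * h⁻¹) = fixN g := by
  unfold fixN
  apply Finset.card_bij' (fun a _ => h⁻¹ a) (fun a _ => h a)
  · intro a ha
    simp only [Finset.mem_filter, Finset.mem_univ, true_and] at ha ⊢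
    have := congrArg (fun a => h⁻¹ a) ha
    simpa [Equiv.Perm.mul_apply] using this
  · intro a ha
    simp only [Finset.mem_filter, Finset.mem_univ, true_and] at ha ⊢
    simp [Equiv.Perm.mul_apply, ha]
  · intro a _
    simp
  · intro a _
    simp

/-- An element of order dividing `p` of a finite group is conjugate into a given subgroup whose
order is the full power of `p`. -/
theorem conj_into {P : Type*} [Group P] {G S₀ : Subgroup P} [Finite ↥G] (hSG : S₀ ≤ G)
    (p n m : ℕ) [hp : Fact p.Prime] (hcard : Nat.card ↥S₀ = p ^ n)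
    (hcardG : Nat.card ↥G = p ^ n * m) (hm : ¬ p ∣ m)
    (g : P) (hg : g ∈ G) (hgp : g ^ p = 1) : ∃ h ∈ G, h * g * h⁻¹ ∈ S₀ := by
  have hm0 : m ≠ 0 := by
    rintro rfl
    simp at hm
  have hfac : (Nat.card ↥G).factorization p = n := by
    rw [hcardG, Nat.factorization_mul (pow_ne_zero _ hp.out.ne_zero) hm0,
      Nat.Prime.factorization_pow hp.out]
    simp [Nat.factorization_eq_zero_of_not_dvd hm]
  let S0sub : Subgroup ↥G := S₀.subgroupOf G
  have hcard0 : Nat.card ↥S0sub = p ^ n := by
    rw [← hcard]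
    exact Nat.card_congr (Subgroup.subgroupOfEquivOfLe hSG).toEquiv
  let S0 : Sylow p ↥G := Sylow.ofCard S0sub (by rw [hcard0, hfac])
  have hS0 : (S0 : Subgroup ↥G) = S0sub := rfl
  let g' : ↥G := ⟨g, hg⟩
  have hg'p : g' ^ p = 1 := Subtype.ext (by simpa using hgp)
  have hpg : IsPGroup p ↥(Subgroup.zpowers g') := by
    rintro ⟨x, hx⟩
    obtain ⟨k, rfl⟩ := Subgroup.mem_zpowers_iff.1 hx
    refine ⟨1, ?_⟩
    apply Subtype.ext
    show (g' ^ k) ^ p ^ 1 = 1
    rw [pow_one, ← zpow_natCast, ← zpow_mul, mul_comm, zpow_mul, zpow_natCast, hg'p, one_zpow]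
  obtain ⟨Q, hQ⟩ := hpg.exists_le_sylow
  obtain ⟨h, hh⟩ := MulAction.exists_smul_eq ↥G Q S0
  refine ⟨h.1, h.2, ?_⟩
  have h1 : g' ∈ (Q : Subgroup ↥G) := hQ (Subgroup.mem_zpowers g')
  have h2 : MulAut.conj h • g' ∈ (MulAut.conj h • (Q : Subgroup ↥G)) :=
    Subgroup.smul_mem_pointwise_smul _ _ _ h1
  have h3 : ((h • Q : Sylow p ↥G) : Subgroup ↥G) = MulAut.conj h • (Q : Subgroup ↥G) := rfl
  rw [← h3, hh, hS0] at h2
  have h4 := Subgroup.mem_subgroupOf.1 h2
  simpa [MulAut.smul_def, MulAut.conj_apply] using h4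

/-! ### Involutions -/

open Cfsg.Agent.Lib.Helper86_FusM23 in
set_option maxRecDepth 100000 in
theorem invol_ok : allFold (fun i =>
    !(isId (itr (img (cert.tb i)) 2)) || isId (img (cert.tb i)) ||
      Nat.ble 8 (fixCount (img (cert.tb i)))) 128 = true := by decide +kernel

open Cfsg.Agent.Lib.Helper86_FusM23 in
/-- An involution of `M23` fixes at least eight points. -/
theorem fix_invol {g : Equiv.Perm GolayPt} (hg : g ∈ Spor.M23) (h2 : g ^ 2 = 1) (h1 : g ≠ 1) :
    8 ≤ fixN g := by
  have : Fact (Nat.Prime 2) := ⟨Nat.prime_two⟩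
  have : Finite ↥Spor.M23 := Nat.finite_of_card_ne_zero (by
    rw [card_M23]; norm_num)
  obtain ⟨h, -, hs⟩ := conj_into S1_le 2 7 79695 card_S1
    (card_M23.trans (by norm_num)) (by norm_num) g hg h2
  obtain ⟨i, hi, hrep⟩ := Cfsg.Agent.Lib.Helper86_FusCert.exists_index base_ok hS card_S1 _ hs
  have hF : RepF (h * g * h⁻¹) (img (cert.tb i)) := repF_of_represents hrep
  have hc := (allFold_eq_true _ _).mp invol_ok i hi
  have hsq : (h * g * h⁻¹) ^ 2 = 1 := by
    rw [conj_pow, h2]
    group
  have hne : h * g * h⁻¹ ≠ 1 := by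
    intro e
    apply h1
    have : g = h⁻¹ * (h * g * h⁻¹) * h := by group
    rw [this, e]
    group
  have e1 : isId (itr (img (cert.tb i)) 2) = true :=
    (eq_one_iff
      (repF_npow hF 2)).mp hsq
  have e2 : isId (img (cert.tb i)) = false := by
    rw [← Bool.not_eq_true]
    intro e
    exact hne ((eq_one_iff hF).mpr e)
  rw [e1, e2] at hc
  simp only [Bool.not_true, Bool.or_self, Bool.false_or, Nat.ble_eq] at hc
  rw [← fixN_conj h g]
  unfold fixN
  rw [card_fixed_eq hF]
  exact hc

/-! ### Elements of order three -/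

/-- membership in `M23`, on tables -/
def inM23 (T : ℕ) : Bool := tblInM24 T && (img T 23 == 23)

theorem exists_of_inM23 (T : ℕ) (h : inM23 T = true) : ∃ σ ∈ Spor.M23, Represents σ T := by
  unfold inM23 at h
  rw [Bool.and_eq_true, beq_iff_eq] at h
  obtain ⟨σ, hσ, hσT⟩ := exists_of_tblInM24 h.1
  refine ⟨σ, (mem_M23_iff σ).mpr ⟨hσ, ?_⟩, hσT⟩
  rw [(repF_of_represents hσT).apply_pt 23 (by norm_num), h.2]

/-- the data of an elementary abelian subgroup of order nine -/
def d9 : Cfsg.Agent.Lib.Helper27_FusionSimple.SylData where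
  N := 9
  LL := 0xbdab49ca307b9ac5a928398a418820bdab10ccc05352c809c33d1042be4bbdaa69068b125cc03da53c46442a70bd8f37242b5522c008c8248b51bdb0bd8f24b66079a8c82a2520475409cbbd8e16ba50144cc5be8324d152a920bd88ea19a014c2c83e48aa4a71aa2bbd88d8d12b7864c02a63ab907288d0bd889345d054a6c58825ab46743e80
  idI := 8
  z := 0
  MUL := 0x80706050403020100070608030504010002060807040305000201050304020001080706040503000102060807030405010200070608020100080607050304010002070806030405000201060708040503
  INV := 0x80607020100050403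
  FUNG := 0
  FUNI := 0
  DERG := 0
  DERI := 0
  gens := []

set_option maxRecDepth 100000 in
theorem base9 : Cfsg.Agent.Lib.Helper27_FusionSimple.baseOK inM23 d9 = true := by decide +kernel

/-- the subgroup of order nine -/
def Q9 : Subgroup (Equiv.Perm GolayPt) :=
  Cfsg.Agent.Lib.Helper27_FusionSimple.sylSub exists_of_inM23 d9 base9

theorem Q9_le : Q9 ≤ Spor.M23 :=
  Cfsg.Agent.Lib.Helper27_FusionSimple.sylSub_le exists_of_inM23 base9

theorem card_Q9 : Nat.card ↥Q9 = 9 :=
  Cfsg.Agent.Lib.Helper27_FusionSimple.card_sylSub exists_of_inM23 base9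

set_option maxRecDepth 100000 in
theorem three_ok : allFold (fun i => isId (img (d9.tb i)) ||
      Nat.ble 6 (fixCount (img (d9.tb i)))) 9 = true := by decide +kernel

/-- An element of order three of `M23` fixes at least six points. -/
theorem fix_three {g : Equiv.Perm GolayPt} (hg : g ∈ Spor.M23) (h3 : g ^ 3 = 1) (h1 : g ≠ 1) :
    6 ≤ fixN g := by
  have : Fact (Nat.Prime 3) := ⟨Nat.prime_three⟩
  have : Finite ↥Spor.M23 := Nat.finite_of_card_ne_zero (by
    rw [card_M23]; norm_num)
  obtain ⟨h, -, hs⟩ := conj_into Q9_le 3 2 1133440 (card_Q9.trans (by norm_num))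
    (card_M23.trans (by norm_num)) (by norm_num) g hg h3
  obtain ⟨i, hi, hrep⟩ := (Cfsg.Agent.Lib.Helper27_FusionSimple.mem_sylSub exists_of_inM23 base9).1 hs
  have hF : RepF (h * g * h⁻¹) (img (d9.tb i)) := repF_of_represents hrep
  have hc := (allFold_eq_true _ _).mp three_ok i hi
  have hne : h * g * h⁻¹ ≠ 1 := by
    intro e
    apply h1
    have : g = h⁻¹ * (h * g * h⁻¹) * h := by group
    rw [this, e]
    group
  have e2 : isId (img (d9.tb i)) = false := by
    rw [← Bool.not_eq_true]
    intro e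
    exact hne ((eq_one_iff hF).mpr e)
  rw [e2] at hc
  simp only [Bool.false_or, Nat.ble_eq] at hc
  rw [← fixN_conj h g]
  unfold fixN
  rw [card_fixed_eq hF]
  exact hc

end Cfsg.Agent.Lib.Helper86_M23Fix
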