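import Mathlib

/-!
Scott's inequality for two linear maps, and its consequence for permutations (the theorem of
Ree): if `x`, `y` are permutations of a finite set with `n` points, then the numbers of cycles of
`x`, `y` and `x * y` (fixed points included) add up to at most `n + 2 s`, where `s` is the
dimension of the space of functions fixed by `x` and `y` (the number of orbits of the group they
generate).  Everything is phrased through the spaces of rational functions fixed by a permutation.
-/

set_option autoImplicit false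
set_option linter.unusedSectionVars false

namespace Cfsg.Agent.Lib.Helper86_Scott

open Module

section Abstract

variable {K V : Type*} [Field K] [AddCommGroup V] [Module K V] [FiniteDimensional K V]

theorem finrank_ker_add_le (A B : V →ₗ[K] V) :
    finrank K ↥(LinearMap.ker (A + B)) ≤
      finrank K ↥(LinearMap.ker A ⊓ LinearMap.ker B) +
        finrank K ↥(LinearMap.range A ⊓ LinearMap.range B) := by
  let A' : ↥(LinearMap.ker (A + B)) →ₗ[K] V := A.domRestrict (LinearMap.ker (A + B))
  have h1 := LinearMap.finrank_range_add_finrank_ker A'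
  have h2 : LinearMap.range A' ≤ LinearMap.range A ⊓ LinearMap.range B := by
    rintro _ ⟨⟨v, hv⟩, rfl⟩
    refine ⟨⟨v, rfl⟩, ⟨-v, ?_⟩⟩
    have hv' : A v + B v = 0 := by simpa using hv
    show B (-v) = A v
    rw [map_neg]
    exact (eq_neg_of_add_eq_zero_left hv').symm
  have h3 : finrank K ↥(LinearMap.ker A') ≤ finrank K ↥(LinearMap.ker A ⊓ LinearMap.ker B) := by
    let f : ↥(LinearMap.ker A') →ₗ[K] V :=
      (LinearMap.ker (A + B)).subtype ∘ₗ (LinearMap.ker A').subtype
    have hf : Function.Injective f :=
      (Submodule.injective_subtype _).comp (Submodule.injective_subtype _)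
    have hr : LinearMap.range f ≤ LinearMap.ker A ⊓ LinearMap.ker B := by
      rintro _ ⟨⟨⟨v, hv⟩, hw⟩, rfl⟩
      have hv' : A v + B v = 0 := by simpa using hv
      have hA : A v = 0 := by simpa [A'] using hw
      refine ⟨hA, ?_⟩
      show B v = 0
      rw [hA, zero_add] at hv'
      exact hv'
    rw [← LinearMap.finrank_range_of_inj hf]
    exact Submodule.finrank_mono hr
  have h4 := Submodule.finrank_mono h2
  omega

/-- Scott's inequality for two maps. -/
theorem scott_two (A B : V →ₗ[K] V) :
    finrank K V + finrank K ↥(LinearMap.range A ⊔ LinearMap.range B) ≤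
      finrank K ↥(LinearMap.range A) + finrank K ↥(LinearMap.range B) +
        finrank K ↥(LinearMap.range (A + B)) +
        finrank K ↥(LinearMap.ker A ⊓ LinearMap.ker B) := by
  have h1 := finrank_ker_add_le A B
  have h2 := LinearMap.finrank_range_add_finrank_ker (A + B)
  have h3 := Submodule.finrank_sup_add_finrank_inf_eq (LinearMap.range A) (LinearMap.range B)
  omega

end Abstract

section Perm

variable {α : Type*} [Fintype α] [DecidableEq α]

/-- The map `f ↦ f ∘ σ` on rational functions. -/
def P (σ : Equiv.Perm α) : (α → ℚ) →ₗ[ℚ] (α → ℚ) := LinearMap.funLeft ℚ ℚ σ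

@[simp] theorem P_apply (σ : Equiv.Perm α) (f : α → ℚ) (a : α) : P σ f a = f (σ a) := rfl

theorem P_mul (σ τ : Equiv.Perm α) : P (σ * τ) = P τ ∘ₗ P σ := by
  ext f a
  simp [P, LinearMap.funLeft]

theorem P_surjective (σ : Equiv.Perm α) : Function.Surjective (P σ) := by
  intro f
  refine ⟨fun a => f (σ⁻¹ a), ?_⟩
  ext a
  simp

/-- The functions fixed by `σ`. -/
def fixSub (σ : Equiv.Perm α) : Submodule ℚ (α → ℚ) := LinearMap.ker (LinearMap.id - P σ)

theorem mem_fixSub {σ : Equiv.Perm α} {f : α → ℚ} : f ∈ fixSub σ ↔ ∀ a, f (σ a) = f a := by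
  unfold fixSub
  rw [LinearMap.mem_ker, LinearMap.sub_apply, LinearMap.id_apply, sub_eq_zero]
  constructor
  · intro h a
    have := congrFun h a
    rw [P_apply] at this
    exact this.symm
  · intro h
    ext a
    rw [P_apply, h a]

theorem finrank_range_add (σ : Equiv.Perm α) :
    finrank ℚ ↥(LinearMap.range (LinearMap.id - P σ)) + finrank ℚ ↥(fixSub σ) =
      Fintype.card α := by
  have := LinearMap.finrank_range_add_finrank_ker (LinearMap.id - P σ)
  rw [Module.finrank_fintype_fun_eq_card] at this
  exact this

/-- evaluation of a functional at the basis vectors -/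
def dualVals : Module.Dual ℚ (α → ℚ) →ₗ[ℚ] (α → ℚ) :=
  LinearMap.pi fun a => LinearMap.applyₗ (Pi.single a (1 : ℚ))

theorem dualVals_apply (φ : Module.Dual ℚ (α → ℚ)) (a : α) :
    dualVals φ a = φ (Pi.single a 1) := rfl

theorem dualVals_injective : Function.Injective (dualVals (α := α)) := by
  rw [← LinearMap.ker_eq_bot, LinearMap.ker_eq_bot']
  intro φ hφ
  apply LinearMap.pi_ext
  intro a c
  have h := congrFun hφ a
  rw [dualVals_apply] at h
  have e : (Pi.single a c : α → ℚ) = c • Pi.single a 1 := by
    ext b
    by_cases hb : b = a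
    · subst hb; simp
    · simp [hb]
  rw [e, map_smul, h]
  simp

theorem single_sub_mem (σ : Equiv.Perm α) (a : α) :
    (Pi.single (σ a) (1 : ℚ) - Pi.single a 1 : α → ℚ) ∈ LinearMap.range (LinearMap.id - P σ) := by
  refine ⟨Pi.single (σ a) 1, ?_⟩
  ext b
  simp only [LinearMap.sub_apply, LinearMap.id_apply, Pi.sub_apply, P_apply, Pi.single_apply]
  by_cases hb : b = a
  · subst hb; simp
  · have : σ b ≠ σ a := fun h => hb (σ.injective h)
    simp [hb, this]

theorem finrank_sup_range_ge (x y : Equiv.Perm α) :
    Fintype.card α ≤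
      finrank ℚ ↥(LinearMap.range (LinearMap.id - P x) ⊔ LinearMap.range (LinearMap.id - P y)) +
        finrank ℚ ↥(fixSub x ⊓ fixSub y) := by
  set U := LinearMap.range (LinearMap.id - P x) ⊔ LinearMap.range (LinearMap.id - P y) with hU
  have h1 := Subspace.finrank_add_finrank_dualAnnihilator_eq U
  rw [Module.finrank_fintype_fun_eq_card] at h1
  have h2 : finrank ℚ ↥U.dualAnnihilator ≤ finrank ℚ ↥(fixSub x ⊓ fixSub y) := by
    let f : ↥U.dualAnnihilator →ₗ[ℚ] (α → ℚ) := dualVals ∘ₗ U.dualAnnihilator.subtype
    have hf : Function.Injective f := dualVals_injective.comp (Submodule.injective_subtype _)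
    have hr : LinearMap.range f ≤ fixSub x ⊓ fixSub y := by
      rintro _ ⟨⟨φ, hφ⟩, rfl⟩
      rw [Submodule.mem_dualAnnihilator] at hφ
      have key : ∀ σ : Equiv.Perm α, LinearMap.range (LinearMap.id - P σ) ≤ U →
          (dualVals φ) ∈ fixSub σ := by
        intro σ hσ
        rw [mem_fixSub]
        intro a
        rw [dualVals_apply, dualVals_apply]
        have := hφ _ (hσ (single_sub_mem σ a))
        rw [map_sub, sub_eq_zero] at this
        exact this
      exact ⟨key x le_sup_left, key y le_sup_right⟩
    rw [← LinearMap.finrank_range_of_inj hf]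
    exact Submodule.finrank_mono hr
  omega

/-- The inequality of Ree and Scott for two permutations and their product. -/
theorem scott_perm (x y : Equiv.Perm α) :
    finrank ℚ ↥(fixSub x) + finrank ℚ ↥(fixSub y) + finrank ℚ ↥(fixSub (x * y)) ≤
      Fintype.card α + 2 * finrank ℚ ↥(fixSub x ⊓ fixSub y) := by
  have hAB : (LinearMap.id - P x) + (LinearMap.id - P y) ∘ₗ P x = LinearMap.id - P (x * y) := by
    rw [P_mul]
    ext f a
    simp
  have hrB : LinearMap.range ((LinearMap.id - P y) ∘ₗ P x) =
      LinearMap.range (LinearMap.id - P y) := by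
    rw [LinearMap.range_comp_of_range_eq_top _ (LinearMap.range_eq_top.2 (P_surjective x))]
  have hker : LinearMap.ker (LinearMap.id - P x) ⊓ LinearMap.ker ((LinearMap.id - P y) ∘ₗ P x) ≤
      fixSub x ⊓ fixSub y := by
    rintro f ⟨h1, h2⟩
    refine ⟨h1, ?_⟩
    have h1' : P x f = f := by
      have : f - P x f = 0 := by simpa using h1
      exact (sub_eq_zero.1 this).symm
    have h2' : (LinearMap.id - P y : (α → ℚ) →ₗ[ℚ] (α → ℚ)) (P x f) = 0 := by
      simpa using h2
    rw [h1'] at h2'
    exact h2'
  have h0 := scott_two (LinearMap.id - P x) ((LinearMap.id - P y) ∘ₗ P x)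
  rw [Module.finrank_fintype_fun_eq_card, hAB, hrB] at h0
  have h1 := finrank_range_add x
  have h2 := finrank_range_add y
  have h3 := finrank_range_add (x * y)
  have h4 := finrank_sup_range_ge x y
  have h5 := Submodule.finrank_mono hker
  omega

/-! ### Fixed functions and orbits -/

theorem fix_zpow {σ : Equiv.Perm α} {f : α → ℚ} (hf : f ∈ fixSub σ) (k : ℤ) (a : α) :
    f ((σ ^ k) a) = f a := by
  rw [mem_fixSub] at hf
  induction k using Int.induction_on generalizing a with
  | zero => simp
  | succ k ih =>
    rw [zpow_add_one, Equiv.Perm.mul_apply, ih, hf]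
  | pred k ih =>
    rw [zpow_sub_one, Equiv.Perm.mul_apply, ih]
    have := hf (σ⁻¹ a)
    have e : σ (σ⁻¹ a) = a := by simp
    rw [e] at this
    exact this.symm

/-- The space of the functions fixed by `σ` has the number of cycles of `σ` as dimension. -/
theorem finrank_fixSub (σ : Equiv.Perm α) :
    finrank ℚ ↥(fixSub σ) =
      Nat.card (MulAction.orbitRel.Quotient ↥(Subgroup.zpowers σ) α) := by
  classical
  have : Fintype (MulAction.orbitRel.Quotient ↥(Subgroup.zpowers σ) α) := Fintype.ofFinite _
  rw [Nat.card_eq_fintype_card,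
    ← Module.finrank_fintype_fun_eq_card (R := ℚ)
      (η := MulAction.orbitRel.Quotient ↥(Subgroup.zpowers σ) α)]
  symm
  apply LinearEquiv.finrank_eq
  refine
    { toFun := fun q => ⟨fun a => q (Quotient.mk'' a), ?_⟩
      map_add' := fun _ _ => rfl
      map_smul' := fun _ _ => rfl
      invFun := fun f ω => Quotient.liftOn' ω f.1 ?_
      left_inv := ?_
      right_inv := ?_ }
  · rw [mem_fixSub]
    intro a
    apply congrArg q
    apply Quotient.sound'
    exact ⟨⟨σ, Subgroup.mem_zpowers σ⟩, rfl⟩
  · rintro a b ⟨⟨h, hh⟩, rfl⟩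
    obtain ⟨k, rfl⟩ := Subgroup.mem_zpowers_iff.1 hh
    exact fix_zpow f.2 k b
  · intro q
    funext ω
    induction ω using Quotient.inductionOn' with
    | h a => rfl
  · intro f
    apply Subtype.ext
    funext a
    rfl

/-- A consequence of the lemma that is not Burnside's: the number of cycles of `σ`, times its
order, is at least the number of points plus `order - 1` times the number of fixed points. -/
theorem burnside_bound (σ : Equiv.Perm α) :
    Fintype.card α + (orderOf σ - 1) * (Finset.univ.filter fun a => σ a = a).card ≤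
      orderOf σ * finrank ℚ ↥(fixSub σ) := by
  classical
  have : Fintype ↥(Subgroup.zpowers σ) := Fintype.ofFinite _
  have : Fintype (MulAction.orbitRel.Quotient ↥(Subgroup.zpowers σ) α) := Fintype.ofFinite _
  have hB := MulAction.sum_card_fixedBy_eq_card_orbits_mul_card_group ↥(Subgroup.zpowers σ) α
  have hcardH : Fintype.card ↥(Subgroup.zpowers σ) = orderOf σ := by
    rw [← Nat.card_eq_fintype_card, Nat.card_zpowers]
  have hle : ∀ h : ↥(Subgroup.zpowers σ),
      (Finset.univ.filter fun a => σ a = a).card ≤ Fintype.card ↥(MulAction.fixedBy α h) := by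
    rintro ⟨h, hh⟩
    obtain ⟨k, rfl⟩ := Subgroup.mem_zpowers_iff.1 hh
    rw [← Fintype.card_subtype]
    apply Fintype.card_le_of_injective
      (fun a : {a // σ a = a} => (⟨a.1, by
        show (σ ^ k) a.1 = a.1
        exact Equiv.Perm.zpow_apply_eq_self_of_apply_eq_self a.2 k⟩ :
          ↥(MulAction.fixedBy α (⟨σ ^ k, hh⟩ : ↥(Subgroup.zpowers σ)))))
    intro a b hab
    apply Subtype.ext
    have := congrArg Subtype.val hab
    exact this
  have hone : Fintype.card ↥(MulAction.fixedBy α (1 : ↥(Subgroup.zpowers σ))) = Fintype.card α := by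
    apply Fintype.card_of_bijective (f := fun a : ↥(MulAction.fixedBy α (1 : ↥(Subgroup.zpowers σ))) => a.1)
    constructor
    · intro a b hab
      exact Subtype.ext hab
    · intro a
      exact ⟨⟨a, one_smul _ a⟩, rfl⟩
  rw [finrank_fixSub, Nat.card_eq_fintype_card]
  have hB' : orderOf σ * Fintype.card (MulAction.orbitRel.Quotient ↥(Subgroup.zpowers σ) α) =
      ∑ g : ↥(Subgroup.zpowers σ), Fintype.card ↥(MulAction.fixedBy α g) := by
    rw [hB, hcardH, mul_comm]
  rw [hB', ← Finset.add_sum_erase Finset.univ _ (Finset.mem_univ (1 : ↥(Subgroup.zpowers σ))), hone]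
  apply Nat.add_le_add_left
  have h2 := Finset.card_nsmul_le_sum ((Finset.univ : Finset ↥(Subgroup.zpowers σ)).erase 1)
    (fun h => Fintype.card ↥(MulAction.fixedBy α h))
    ((Finset.univ.filter fun a => σ a = a).card) (fun h _ => hle h)
  rw [Finset.card_erase_of_mem (Finset.mem_univ _), Finset.card_univ, hcardH, smul_eq_mul] at h2
  exact h2

/-! ### Functions fixed by two permutations -/

theorem fix_closure {x y : Equiv.Perm α} {f : α → ℚ} (hf : f ∈ fixSub x ⊓ fixSub y)
    {g : Equiv.Perm α} (hg : g ∈ Subgroup.closure ({x, y} : Set (Equiv.Perm α))) (a : α) :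
    f (g a) = f a := by
  obtain ⟨hx, hy⟩ := Submodule.mem_inf.1 hf
  rw [mem_fixSub] at hx hy
  induction hg using Subgroup.closure_induction generalizing a with
  | mem g hg =>
    rcases hg with rfl | rfl
    · exact hx a
    · exact hy a
  | one => rfl
  | mul g h _ _ ihg ihh => rw [Equiv.Perm.mul_apply, ihg, ihh]
  | inv g _ ih =>
    have := ih (g⁻¹ a)
    have e : g (g⁻¹ a) = a := by simp
    rw [e] at this
    exact this.symm

/-- If every point is the image of one of two given points under the group generated by `x` and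
`y`, the functions fixed by `x` and `y` form a space of dimension at most two. -/
theorem finrank_inf_le_two (x y : Equiv.Perm α) (r₁ r₂ : α)
    (h : ∀ a, ∃ g ∈ Subgroup.closure ({x, y} : Set (Equiv.Perm α)), g r₁ = a ∨ g r₂ = a) :
    finrank ℚ ↥(fixSub x ⊓ fixSub y) ≤ 2 := by
  let e : ↥(fixSub x ⊓ fixSub y) →ₗ[ℚ] (Fin 2 → ℚ) :=
    { toFun := fun f => ![f.1 r₁, f.1 r₂]
      map_add' := by
        intro f g
        ext i
        fin_cases i <;> rfl
      map_smul' := by
        intro c f
        ext i
        fin_cases i <;> rfl }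
  have he : Function.Injective e := by
    rw [← LinearMap.ker_eq_bot, LinearMap.ker_eq_bot']
    intro f hf
    have h1 : f.1 r₁ = 0 := congrFun hf 0
    have h2 : f.1 r₂ = 0 := congrFun hf 1
    apply Subtype.ext
    funext a
    obtain ⟨g, hg, hga | hga⟩ := h a
    · rw [← hga, fix_closure f.2 hg]
      exact h1
    · rw [← hga, fix_closure f.2 hg]
      exact h2
  have := LinearMap.finrank_le_finrank_of_injective he
  rw [Module.finrank_fintype_fun_eq_card, Fintype.card_fin] at this
  exact this

/-- The inequality in the form used: `cx`, `cy`, `cz` are lower bounds for the numbers of cycles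
obtained from the orders and the numbers of fixed points. -/
theorem ree_bound (x y : Equiv.Perm α) (r₁ r₂ : α)
    (h : ∀ a, ∃ g ∈ Subgroup.closure ({x, y} : Set (Equiv.Perm α)), g r₁ = a ∨ g r₂ = a)
    (cx cy cz : ℕ)
    (hx : orderOf x * cx ≤ Fintype.card α + (orderOf x - 1) * (Finset.univ.filter fun a => x a = a).card)
    (hy : orderOf y * cy ≤ Fintype.card α + (orderOf y - 1) * (Finset.univ.filter fun a => y a = a).card)
    (hz : orderOf (x * y) * cz ≤
      Fintype.card α + (orderOf (x * y) - 1) * (Finset.univ.filter fun a => (x * y) a = a).card) :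
    cx + cy + cz ≤ Fintype.card α + 4 := by
  have h0 := scott_perm x y
  have h1 := finrank_inf_le_two x y r₁ r₂ h
  have key : ∀ (σ : Equiv.Perm α) (c : ℕ),
      orderOf σ * c ≤ Fintype.card α + (orderOf σ - 1) * (Finset.univ.filter fun a => σ a = a).card →
      c ≤ finrank ℚ ↥(fixSub σ) := by
    intro σ c hc
    have hb := burnside_bound σ
    have hpos : 0 < orderOf σ := orderOf_pos σ
    exact Nat.le_of_mul_le_mul_left (hc.trans hb) hpos
  have h2 := key x cx hx
  have h3 := key y cy hy
  have h4 := key (x * y) cz hz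
  omega

end Perm

end Cfsg.Agent.Lib.Helper86_Scott
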