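import Mathlib
import Cfsg.Agent.Lib.Helper86_Scott
import Cfsg.Agent.Lib.Helper86_M23Fix

/-!
The Mathieu group of degree 23 is not generated by two elements of prime orders `p`, `q` with
product of prime order `r` when the numbers of cycles are too large: the inequality of Ree and
Scott on the 24 points, where the group has two orbits.
-/

set_option autoImplicit false
open Cfsg
open scoped Pointwise
open Cfsg.Agent.Lib.Helper26_Golay
open Cfsg.Agent.Lib.Helper93_M24Obj
open Cfsg.Agent.Lib.Helper93_OutM24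
open Cfsg.Agent.Lib.Helper86_M23Fix
open Cfsg.Agent.Lib.Helper86_Scott

namespace Cfsg.Agent.Lib.Helper86_M23NoGen

theorem card_golayPt : Fintype.card GolayPt = 24 := by
  show Fintype.card (Option (ZMod 23)) = 24
  rw [Fintype.card_option, ZMod.card]

theorem trans_ok : allFold (fun j => itr fA j 0 == j) 23 = true := by decide +kernel

/-- Every point is the image of `∞` or of `0` under an element of `M23`. -/
theorem orbit_reps (a : GolayPt) : ∃ g ∈ Spor.M23, g (pt 23) = a ∨ g (pt 0) = a := by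
  by_cases h : idx a = 23
  · refine ⟨1, Spor.M23.one_mem, Or.inl ?_⟩
    rw [← h, pt_idx]
    rfl
  · have hlt : idx a < 23 := by
      have := idx_lt a
      omega
    refine ⟨gA ^ idx a, Spor.M23.pow_mem gA_mem23 _, Or.inr ?_⟩
    rw [(repF_npow gA_rep (idx a)).apply_pt 0 (by norm_num)]
    have := (allFold_eq_true _ _).mp trans_ok (idx a) hlt
    rw [beq_iff_eq] at this
    rw [this, pt_idx]

theorem fix_pos {g : Equiv.Perm GolayPt} (hg : g ∈ Spor.M23) : 1 ≤ fixN g := by
  unfold fixN
  rw [Nat.one_le_iff_ne_zero, Finset.card_ne_zero]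
  refine ⟨pt 23, ?_⟩
  simp only [Finset.mem_filter, Finset.mem_univ, true_and]
  exact ((mem_M23_iff g).mp hg).2

theorem fix_mod {g : Equiv.Perm GolayPt} {p : ℕ} (hp : p.Prime) (ho : orderOf g = p) :
    fixN g ≡ 24 [MOD p] := by
  have : Fact p.Prime := ⟨hp⟩
  have h1 : g ^ p ^ 1 = 1 := by rw [pow_one, ← ho, pow_orderOf_eq_one]
  have h2 := Equiv.Perm.card_compl_support_modEq h1
  rw [card_golayPt] at h2
  have e : fixN g = (Equiv.Perm.support g)ᶜ.card := by
    unfold fixN
    congr 1
    ext a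
    simp [Equiv.Perm.mem_support]
  rw [e]
  exact h2

/-- A lower bound for the number of cycles of an element of prime order of `M23`, in the form
needed for the inequality. -/
theorem cyc_bound {g : Equiv.Perm GolayPt} (hg : g ∈ Spor.M23) {p : ℕ} (hp : p.Prime)
    (ho : orderOf g = p) :
    ∃ c : ℕ, orderOf g * c ≤ Fintype.card GolayPt +
        (orderOf g - 1) * (Finset.univ.filter fun a => g a = a).card ∧
      1 ≤ c ∧ (p = 2 → 16 ≤ c) ∧ (p = 3 → 12 ≤ c) ∧ (p = 5 → 8 ≤ c) ∧ (p = 7 → 6 ≤ c) := by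
  have hf : (Finset.univ.filter fun a => g a = a).card = fixN g := rfl
  rw [hf, card_golayPt, ho]
  have h1 := fix_pos hg
  have hmod := fix_mod hp ho
  have hne : g ≠ 1 := by
    rintro rfl
    rw [orderOf_one] at ho
    exact hp.one_lt.ne ho
  have hpow : g ^ p = 1 := by rw [← ho, pow_orderOf_eq_one]
  by_cases h2 : p = 2
  · subst h2
    have := fix_invol hg hpow hne
    exact ⟨16, by omega, by omega, by omega, by omega, by omega, by omega⟩
  by_cases h3 : p = 3
  · subst h3
    have := fix_three hg hpow hne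
    exact ⟨12, by omega, by omega, by omega, by omega, by omega, by omega⟩
  by_cases h5 : p = 5
  · subst h5
    have : fixN g % 5 = 4 := hmod
    exact ⟨8, by omega, by omega, by omega, by omega, by omega, by omega⟩
  by_cases h7 : p = 7
  · subst h7
    have : fixN g % 7 = 3 := hmod
    exact ⟨6, by omega, by omega, by omega, by omega, by omega, by omega⟩
  refine ⟨1, ?_, le_refl 1, fun h => absurd h h2, fun h => absurd h h3, fun h => absurd h h5,
    fun h => absurd h h7⟩
  have hp1 : 1 ≤ p := hp.one_lt.le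
  calc p * 1 = 1 + (p - 1) * 1 := by omega
    _ ≤ 24 + (p - 1) * fixN g := by
      apply Nat.add_le_add (by norm_num)
      exact Nat.mul_le_mul_left _ h1

/-- The triples of primes for which the inequality forbids generation. -/
theorem no_gen (x y z : ↥Spor.M23) {p q r : ℕ} (hp : p.Prime) (hq : q.Prime) (hr : r.Prime)
    (hqr : q ≤ r)
    (ox : orderOf x = p) (oy : orderOf y = q) (oz : orderOf z = r) (hxyz : x * y * z = 1)
    (hcl : Subgroup.closure ({x, y} : Set ↥Spor.M23) = ⊤)
    (hexc : (p = 2 ∧ q = 3) ∨ (p = 2 ∧ q = 5 ∧ r = 5) ∨ (p = 2 ∧ q = 5 ∧ r = 7) ∨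
      (p = 3 ∧ q = 3 ∧ r ≤ 7)) : False := by
  have hxy : x * y = z⁻¹ := eq_inv_of_mul_eq_one_left hxyz
  have oxy : orderOf (x * y) = r := by rw [hxy, orderOf_inv, oz]
  have ox' : orderOf (x : Equiv.Perm GolayPt) = p := by rw [Subgroup.orderOf_coe, ox]
  have oy' : orderOf (y : Equiv.Perm GolayPt) = q := by rw [Subgroup.orderOf_coe, oy]
  have oxy' : orderOf ((x : Equiv.Perm GolayPt) * (y : Equiv.Perm GolayPt)) = r := by
    rw [← Subgroup.coe_mul, Subgroup.orderOf_coe, oxy]
  have hclos : Subgroup.closure ({(x : Equiv.Perm GolayPt), (y : Equiv.Perm GolayPt)} :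
      Set (Equiv.Perm GolayPt)) = Spor.M23 := by
    have h1 := congrArg (Subgroup.map Spor.M23.subtype) hcl
    rw [MonoidHom.map_closure, ← MonoidHom.range_eq_map, Subgroup.range_subtype] at h1
    have e : ({(x : Equiv.Perm GolayPt), (y : Equiv.Perm GolayPt)} : Set (Equiv.Perm GolayPt)) =
        ⇑Spor.M23.subtype '' ({x, y} : Set ↥Spor.M23) := by
      ext a
      simp only [Set.mem_insert_iff, Set.mem_singleton_iff, Set.mem_image, Subgroup.coe_subtype]
      constructor
      · rintro (rfl | rfl)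
        · exact ⟨x, Or.inl rfl, rfl⟩
        · exact ⟨y, Or.inr rfl, rfl⟩
      · rintro ⟨b, hb | hb, rfl⟩
        · left; rw [hb]
        · right; rw [hb]
    rw [e]
    exact h1
  have horb : ∀ a, ∃ g ∈ Subgroup.closure ({(x : Equiv.Perm GolayPt),
      (y : Equiv.Perm GolayPt)} : Set (Equiv.Perm GolayPt)), g (pt 23) = a ∨ g (pt 0) = a := by
    intro a
    rw [hclos]
    exact orbit_reps a
  obtain ⟨cx, hcx, -, hx2, hx3, -, -⟩ := cyc_bound x.2 hp ox'
  obtain ⟨cy, hcy, -, -, hy3, hy5, -⟩ := cyc_bound y.2 hq oy'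
  obtain ⟨cz, hcz, hz1, -, hz3, hz5, hz7⟩ :=
    cyc_bound (Spor.M23.mul_mem x.2 y.2) hr oxy'
  have hb := ree_bound (x : Equiv.Perm GolayPt) (y : Equiv.Perm GolayPt) (pt 23) (pt 0) horb
    cx cy cz hcx hcy hcz
  rw [card_golayPt] at hb
  rcases hexc with ⟨h2, h3⟩ | ⟨h2, h5, h5'⟩ | ⟨h2, h5, h7⟩ | ⟨h3, h3', hr7⟩
  · have := hx2 h2
    have := hy3 h3
    omega
  · have := hx2 h2
    have := hy5 h5
    have := hz5 h5'
    omega
  · have := hx2 h2
    have := hy5 h5
    have := hz7 h7
    omega
  · have := hx3 h3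
    have := hy3 h3'
    -- `r` is a prime with `3 ≤ r ≤ 7`
    have hr3 : r = 3 ∨ r = 5 ∨ r = 7 := by
      have h2r : 2 ≤ r := hr.two_le
      interval_cases r
      · omega
      · exact Or.inl rfl
      · exact absurd hr (by norm_num)
      · exact Or.inr (Or.inl rfl)
      · exact absurd hr (by norm_num)
      · exact Or.inr (Or.inr rfl)
    rcases hr3 with h | h | h
    · have := hz3 h
      omega
    · have := hz5 h
      omega
    · have := hz7 h
      omega

end Cfsg.Agent.Lib.Helper86_M23NoGen
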