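import Mathlib
import Cfsg.Agent.Lib.Helper94_OD3Defs

/-!
# OD3 market (architect helper94), package OD3-VALUE

A nondegenerate subspace of dimension `≥ 2` of a quadratic space over a finite field represents every value.
(A singular vector `u ≠ 0` with a partner `x`, `B x u ≠ 0`: `Q (x + λ u)` takes every value; otherwise the subspace
is anisotropic: in characteristic 2 squaring is onto, in odd characteristic `a s² + d t² = c` is solvable.)
-/

set_option autoImplicit false
set_option linter.unusedSectionVars false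
set_option linter.unusedVariables false

namespace Cfsg.Agent.Lib.Helper86_OD3_VALUE

open Module Cfsg.Agent.Lib.Helper94_Symp Cfsg.Agent.Lib.Helper94_OrthSmall
  Cfsg.Agent.Lib.Helper94_OrthSiegel Cfsg.Agent.Lib.Helper94_OrthNondeg
  Cfsg.Agent.Lib.Helper29_ODDefs Cfsg.Agent.Lib.Helper94_Q2Defs Cfsg.Agent.Lib.Helper94_OD3Defs

variable {F V : Type*} [Field F] [AddCommGroup V] [Module F V] [Finite F] [FiniteDimensional F V]
  {Q : V → F} {B : LinearMap.BilinForm F V} {t k : ℕ} {D : Fin t → Submodule F V}
  {S M L : Subgroup (V ≃ₗ[F] V)}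

/-- over a finite field of odd order, `a s² + d t² = c` is solvable for `a, d ≠ 0` -/
theorem exists_sq_add_sq (h2 : (2 : F) ≠ 0) {a d : F} (ha : a ≠ 0) (hd : d ≠ 0) (c : F) :
    ∃ s t : F, a * (s * s) + d * (t * t) = c := by
  classical
  have : Fintype F := Fintype.ofFinite F
  have hchar : ringChar F ≠ 2 := by
    intro e
    have : CharP F 2 := ringChar.of_eq e
    exact h2 (CharTwo.two_eq_zero)
  have hodd := FiniteField.odd_card_of_char_ne_two hchar
  open Polynomial in
  have hf : (C a * X ^ 2 : F[X]).degree = 2 := by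
    rw [Polynomial.degree_C_mul_X_pow 2 ha]; rfl
  open Polynomial in
  have hg : (C d * X ^ 2 - C c : F[X]).degree = 2 := by
    have h1 : (C d * X ^ 2 : F[X]).degree = 2 := by
      rw [Polynomial.degree_C_mul_X_pow 2 hd]; rfl
    rw [Polynomial.degree_sub_eq_left_of_degree_lt, h1]
    rw [h1]
    exact lt_of_le_of_lt Polynomial.degree_C_le (by norm_num)
  obtain ⟨s, t, hst⟩ := FiniteField.exists_root_sum_quadratic hf hg hodd
  refine ⟨s, t, ?_⟩
  simp only [Polynomial.eval_mul, Polynomial.eval_C, Polynomial.eval_pow, Polynomial.eval_X,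
    Polynomial.eval_sub] at hst
  linear_combination hst

/-- **OD3-VALUE** -/
theorem VALUE (hQs : ∀ (c : F) (v : V), Q (c • v) = c * c * Q v)
    (hQp : ∀ u v : V, Q (u + v) = Q u + Q v + B u v) (A : Submodule F V)
    (hA : ∀ a ∈ A, a ≠ 0 → ∃ x ∈ A, B x a ≠ 0) (h2 : 2 ≤ finrank F A) (c : F) :
    ∃ x ∈ A, Q x = c := by
  by_cases hsing : ∃ u ∈ A, u ≠ 0 ∧ Q u = 0
  · -- a singular vector and a partner
    obtain ⟨u, huA, hu0, hQu⟩ := hsing
    obtain ⟨x, hxA, hxu⟩ := hA u huA hu0
    refine ⟨x + ((c - Q x) / B x u) • u, A.add_mem hxA (A.smul_mem _ huA), ?_⟩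
    rw [hQp, hQs, hQu, mul_zero, add_zero, map_smul, smul_eq_mul, div_mul_cancel₀ _ hxu]
    ring
  · push Not at hsing
    -- a nonzero vector of `A`
    have hpos : 0 < finrank F A := by omega
    obtain ⟨u', hu'⟩ := (Module.finrank_pos_iff_exists_ne_zero (R := F) (M := A)).mp hpos
    set u : V := (u' : V) with hu
    have huA : u ∈ A := u'.2
    have hu0 : u ≠ 0 := fun e => hu' (Subtype.ext e)
    have ha : Q u ≠ 0 := hsing u huA hu0
    by_cases h20 : (2 : F) = 0
    · -- characteristic 2: squaring is onto
      have : CharP F 2 := CharTwo.of_one_ne_zero_of_two_eq_zero one_ne_zero h20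
      have hchar : ringChar F = 2 := ringChar.eq F 2
      obtain ⟨s, hs⟩ := FiniteField.isSquare_of_char_two hchar (c / Q u)
      refine ⟨s • u, A.smul_mem _ huA, ?_⟩
      rw [hQs, ← hs, div_mul_cancel₀ _ ha]
    · -- odd characteristic: an orthogonal vector
      obtain ⟨w, hwA, hw⟩ : ∃ w ∈ A, w ∉ Submodule.span F {u} := by
        by_contra hcon
        push Not at hcon
        have hle : A ≤ Submodule.span F {u} := fun w hw => hcon w hw
        have h1 := Submodule.finrank_mono hle
        have h3 := finrank_span_singleton (K := F) hu0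
        omega
      have hBuu : B u u = 2 * Q u := by
        have h1 := hQp u u
        have h3 : u + u = (2 : F) • u := (two_smul F u).symm
        rw [h3, hQs] at h1
        linear_combination -h1
      have hBuu0 : B u u ≠ 0 := by rw [hBuu]; exact mul_ne_zero h20 ha
      set v : V := w - (B u w / B u u) • u with hv
      have hvA : v ∈ A := A.sub_mem hwA (A.smul_mem _ huA)
      have hv0 : v ≠ 0 := by
        intro e
        apply hw
        have : w = (B u w / B u u) • u := sub_eq_zero.mp e
        rw [this]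
        exact Submodule.smul_mem _ _ (Submodule.mem_span_singleton_self u)
      have huv : B u v = 0 := by
        rw [hv, map_sub, map_smul, smul_eq_mul, div_mul_cancel₀ _ hBuu0, sub_self]
      have hd : Q v ≠ 0 := hsing v hvA hv0
      obtain ⟨s, t', hst⟩ := exists_sq_add_sq h20 ha hd c
      refine ⟨s • u + t' • v, A.add_mem (A.smul_mem _ huA) (A.smul_mem _ hvA), ?_⟩
      have hB : B (s • u) (t' • v) = 0 := by
        simp only [map_smul, LinearMap.smul_apply, smul_eq_mul, huv, mul_zero]
      rw [hQp, hQs, hQs, hB, add_zero, ← hst]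
      ring

end Cfsg.Agent.Lib.Helper86_OD3_VALUE
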