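import Mathlib
import Cfsg.Agent.Lib.Helper95_OPDefs
import Cfsg.Agent.Lib.Helper95_OPBasic
import Cfsg.Agent.Lib.Helper48_OODefs
import Cfsg.Agent.Lib.Helper87_OO2Defs
import Cfsg.Agent.Lib.Helper87_OO2Defs2
import Cfsg.Agent.Lib.Helper42_OO2_FRAME
import Cfsg.Agent.Lib.Helper12_OO2_HEIS
import Cfsg.Agent.Lib.Helper30_OO2_SL2G
import Cfsg.Agent.Lib.Helper44_OO2_FIXLALL

set_option autoImplicit false
set_option linter.unusedSectionVars false
set_option linter.unusedVariables false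
set_option linter.unusedSimpArgs false

/-!
# S2344 OO2 market, wave 2 (cutter helper87), package OO2-J2F2

`J_2 = ∑_s x_2(s) n_2` maps `Y_2 = F_2^{L''}` into `F_2 = (X^R)^{R_1}`.
-/

namespace Cfsg.Agent.Lib.Helper86_OO2_J2F2

open Module Cfsg.Agent.Lib.Helper94_OrthSmall Cfsg.Agent.Lib.Helper44_QuadClass
  Cfsg.Agent.Lib.Helper14_OmegaSimple Cfsg.Agent.Lib.Helper38_MIODefs
  Cfsg.Agent.Lib.Helper95_OPDefs Cfsg.Agent.Lib.Helper95_OPBasic Cfsg.Agent.Lib.Helper48_OODefs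
  Cfsg.Agent.Lib.Helper87_OO2Defs Cfsg.Agent.Lib.Helper42_OO2_FRAME
  Cfsg.Agent.Lib.Helper12_OO2_HEIS Cfsg.Agent.Lib.Helper30_OO2_SL2G

section gen

variable {F V : Type*} [Field F] [AddCommGroup V] [Module F V] (Q : QuadraticForm F V)
  {X : Type*} [AddCommGroup X] [Module ℂ X] (ρ : Representation ℂ ↥(T Q) X)

theorem repE_mul_apply {g k : V ≃ₗ[F] V} (hg : g ∈ T Q) (hk : k ∈ T Q) (x : X) :
    repE Q ρ (g * k) x = repE Q ρ g (repE Q ρ k x) := by
  rw [repE_mul Q ρ hg hk]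
  rfl

/-- if `g * k = k * g'` and `g'` fixes `x` then `g` fixes `k x` -/
theorem fix_of_conj {g k g' : V ≃ₗ[F] V} (hg : g ∈ T Q) (hk : k ∈ T Q) (hg' : g' ∈ T Q)
    (hrel : g * k = k * g') {x : X} (hx : repE Q ρ g' x = x) :
    repE Q ρ g (repE Q ρ k x) = repE Q ρ k x := by
  rw [← repE_mul_apply Q ρ hg hk, hrel, repE_mul_apply Q ρ hk hg', hx]

theorem inv_apply_of_apply (g : V ≃ₗ[F] V) {x y : V} (h : g x = y) : g⁻¹ y = x :=
  inv_apply_eq_of_apply_eq g h

end gen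

section main

variable {F V : Type*} [Field F] [Fintype F] [AddCommGroup V] [Module F V] [FiniteDimensional F V]
  {X : Type*} [AddCommGroup X] [Module ℂ X]

/-- an element of `T Q` fixing `v` and `v'` preserves the space of `R`-fixed vectors -/
theorem fixE_stable (Q : QuadraticForm F V) (hQ : (QuadraticMap.polarBilin Q).Nondegenerate)
    (hdim : 5 ≤ finrank F V) {v v' : V} (hv : Q v = 0) (ρ : Representation ℂ ↥(T Q) X)
    {g : V ≃ₗ[F] V} (hg : g ∈ T Q) (hgv : g v = v) (hgv' : g v' = v') {y : X}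
    (hy : y ∈ fixE Q ρ v (perp Q v v')) : repE Q ρ g y ∈ fixE Q ρ v (perp Q v v') := by
  intro w hw
  have hoG : g ∈ oG (⇑Q) := T_le_oG Q hg
  have hoGi : g⁻¹ ∈ oG (⇑Q) := Subgroup.inv_mem _ hoG
  obtain ⟨hvw, hv'w⟩ := (mem_perp Q v v').mp hw
  have hgiv : g⁻¹ v = v := inv_apply_of_apply g hgv
  have hgiv' : g⁻¹ v' = v' := inv_apply_of_apply g hgv'
  have hw' : g⁻¹ w ∈ perp Q v v' := by
    rw [mem_perp]
    constructor
    · have := oG_polar Q hoGi v w
      rw [hgiv] at this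
      rw [this, hvw]
    · have := oG_polar Q hoGi v' w
      rw [hgiv'] at this
      rw [this, hv'w]
  have hvw' : QuadraticMap.polar (⇑Q) v (g⁻¹ w) = 0 := ((mem_perp Q v v').mp hw').1
  have hE : E Q v w ∈ T Q := E_mem_T Q hQ hdim hv hvw
  have hE' : E Q v (g⁻¹ w) ∈ T Q := E_mem_T Q hQ hdim hv hvw'
  have hconj := conj_E Q hoGi hv hvw
  rw [hgiv, inv_inv] at hconj
  have hrel : E Q v w * g = g * E Q v (g⁻¹ w) := by
    rw [← hconj]
    group
  exact fix_of_conj Q ρ hE hg hE' hrel (hy _ hw')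

/-- OO2-J2F2 with the consequence of OO2-FIXLALL for `S = W_1` as a hypothesis. -/
theorem J2_mem_F2_core (Q : QuadraticForm F V) (hQ : (QuadraticMap.polarBilin Q).Nondegenerate)
    (hdim : 5 ≤ finrank F V) {v v' w0 w0' w1 w1' : V} (h : HQuad Q v v' w0 w0')
    (h1 : HQuad Q v v' w1 w1') (h2 : HQuad Q w0 w0' w1 w1')
    (ρ : Representation ℂ ↥(T Q) X) (y : X) (hy : y ∈ Y2sp Q ρ v v' w0 w0')
    (hall : ∀ u z : V, u ∈ W1 Q v v' w0 w0' → z ∈ W1 Q v v' w0 w0' → Q u = 0 →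
      QuadraticMap.polar (⇑Q) u z = 0 → repE Q ρ (E Q u z) y = y) :
    Jop Q ρ w0 w0' w1 w1' y ∈ F2sp Q ρ v v' w0 w0' := by
  classical
  obtain ⟨⟨hyR, hyR1⟩, hyL⟩ := hy
  -- the frame
  have qv : Q v = 0 := h.pa.qa
  have qw0 : Q w0 = 0 := h.pb.qa
  have qw1 : Q w1 = 0 := h2.pb.qa
  have qw1' : Q w1' = 0 := h2.pb.qa'
  have pc : ∀ a b : V, QuadraticMap.polar (⇑Q) a b = 0 → QuadraticMap.polar (⇑Q) b a = 0 := by
    intro a b hab
    rw [QuadraticMap.polar_comm]; exact hab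
  have w1mem : w1 ∈ W1 Q v v' w0 w0' :=
    ⟨(mem_perp Q v v').mpr ⟨h1.ab, h1.a'b⟩, (mem_perp Q w0 w0').mpr ⟨h2.ab, h2.a'b⟩⟩
  have w1'mem : w1' ∈ W1 Q v v' w0 w0' :=
    ⟨(mem_perp Q v v').mpr ⟨h1.ab', h1.a'b'⟩, (mem_perp Q w0 w0').mpr ⟨h2.ab', h2.a'b'⟩⟩
  -- the elements
  set n : V ≃ₗ[F] V := nw Q w0 w0' w1 w1' 1 with hn
  have hnT : n ∈ T Q := nw_mem_T h2 1
  have hxT : ∀ s : F, xr Q w0 w1' s ∈ T Q := fun s => xr_mem_T qw0 qw1' h2.ab' s
  have hnoG : n ∈ oG (⇑Q) := T_le_oG Q hnT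
  have hnioG : n⁻¹ ∈ oG (⇑Q) := Subgroup.inv_mem _ hnoG
  have hnv : n v = v := nw_perp h2 1 v h.ab h.ab' h1.ab h1.ab'
  have hnv' : n v' = v' := nw_perp h2 1 v' h.a'b h.a'b' h1.a'b h1.a'b'
  have hxv : ∀ s : F, xr Q w0 w1' s v = v := fun s =>
    xr_perp qw0 qw1' h2.ab' s v h.ab h1.ab'
  have hxv' : ∀ s : F, xr Q w0 w1' s v' = v' := fun s =>
    xr_perp qw0 qw1' h2.ab' s v' h.a'b h1.a'b'
  have hn_w0 : n w0 = w1 := by
    rw [hn, nw_a h2 1 one_ne_zero, inv_one, one_smul]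
  have hn_w1 : n w1 = -w0 := by
    rw [hn, nw_b h2 1 one_ne_zero, one_smul]
  have hni_w1 : n⁻¹ w1 = w0 := inv_apply_of_apply n hn_w0
  have hni_w0 : n⁻¹ w0 = -w1 := by
    apply inv_apply_of_apply n
    rw [map_neg, hn_w1, neg_neg]
  rw [Jop_apply]
  set ny : X := repE Q ρ n y with hny
  refine ⟨?_, ?_⟩
  · -- fixed by the radical `R`
    apply Submodule.sum_mem
    intro s _
    have h3 : ny ∈ fixE Q ρ v (perp Q v v') := fixE_stable Q hQ hdim qv ρ hnT hnv hnv' hyR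
    exact fixE_stable Q hQ hdim qv ρ (hxT s) (hxv s) (hxv' s) h3
  · -- fixed by `R_1`
    -- (i) the root group `x_2`
    have hi : ∀ c : F, repE Q ρ (xr Q w0 w1' c)
        (∑ s : F, repE Q ρ (xr Q w0 w1' s) ny) = ∑ s : F, repE Q ρ (xr Q w0 w1' s) ny := by
      intro c
      rw [map_sum]
      have : ∀ s : F, repE Q ρ (xr Q w0 w1' c) (repE Q ρ (xr Q w0 w1' s) ny) =
          repE Q ρ (xr Q w0 w1' (c + s)) ny := by
        intro s
        rw [xr_add qw0 qw1' h2.ab', repE_mul_apply Q ρ (hxT c) (hxT s)]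
      rw [Finset.sum_congr rfl (fun s _ => this s)]
      exact Fintype.sum_equiv (Equiv.addLeft c) _ _ (fun s => rfl)
    -- (ii)/(iii) elements `E(w0, z)` whose `n`-conjugate fixes `y`
    have hconjfix : ∀ z : V, QuadraticMap.polar (⇑Q) w0 z = 0 →
        repE Q ρ (E Q (n⁻¹ w0) (n⁻¹ z)) y = y → E Q (n⁻¹ w0) (n⁻¹ z) ∈ T Q →
        repE Q ρ (E Q w0 z) (∑ s : F, repE Q ρ (xr Q w0 w1' s) ny) =
          ∑ s : F, repE Q ρ (xr Q w0 w1' s) ny := by
      intro z hz hfix hmem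
      have hET : E Q w0 z ∈ T Q := E_mem_T Q hQ hdim qw0 hz
      rw [map_sum]
      apply Finset.sum_congr rfl
      intro s _
      have hsw : QuadraticMap.polar (⇑Q) w0 (s • w1') = 0 := by
        rw [QuadraticMap.polar_smul_right, h2.ab', smul_zero]
      have hcomm : E Q w0 z * xr Q w0 w1' s = xr Q w0 w1' s * E Q w0 z := by
        unfold xr
        rw [E_mul Q qw0 hz hsw, E_mul Q qw0 hsw hz, add_comm]
      rw [← repE_mul_apply Q ρ hET (hxT s), hcomm, repE_mul_apply Q ρ (hxT s) hET]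
      congr 1
      have hconj := conj_E Q hnioG qw0 hz
      rw [inv_inv] at hconj
      have hrel : E Q w0 z * n = n * E Q (n⁻¹ w0) (n⁻¹ z) := by
        rw [← hconj]
        group
      exact fix_of_conj Q ρ hET hnT hmem hrel hfix
    intro w hw
    obtain ⟨hwp, hwp0⟩ := hw
    obtain ⟨hvw, hv'w⟩ := (mem_perp Q v v').mp hwp
    obtain ⟨hw0w, hw0'w⟩ := (mem_perp Q w0 w0').mp hwp0
    -- decomposition of `w`
    set c : F := QuadraticMap.polar (⇑Q) w w1' with hc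
    set c' : F := QuadraticMap.polar (⇑Q) w w1 with hc'
    set w2 : V := w - c • w1 - c' • w1' with hw2
    have hw_eq : w = c • w1 + (c' • w1' + w2) := by rw [hw2]; abel
    have p11 : QuadraticMap.polar (⇑Q) w1 w1 = 0 := polar_self_of_zero qw1
    have p1'1' : QuadraticMap.polar (⇑Q) w1' w1' = 0 := polar_self_of_zero qw1'
    have p11' : QuadraticMap.polar (⇑Q) w1 w1' = 1 := h2.pb.aa'
    have p1'1 : QuadraticMap.polar (⇑Q) w1' w1 = 1 := by rw [QuadraticMap.polar_comm]; exact p11'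
    have hw2_w1 : QuadraticMap.polar (⇑Q) w2 w1 = 0 := by
      rw [hw2, QuadraticMap.polar_sub_left, QuadraticMap.polar_sub_left,
        QuadraticMap.polar_smul_left, QuadraticMap.polar_smul_left, p11, p1'1]
      simp [hc']
    have hw2_w1' : QuadraticMap.polar (⇑Q) w2 w1' = 0 := by
      rw [hw2, QuadraticMap.polar_sub_left, QuadraticMap.polar_sub_left,
        QuadraticMap.polar_smul_left, QuadraticMap.polar_smul_left, p11', p1'1']
      simp [hc]
    have hw2_gen : ∀ a : V, QuadraticMap.polar (⇑Q) a w = 0 → QuadraticMap.polar (⇑Q) a w1 = 0 →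
        QuadraticMap.polar (⇑Q) a w1' = 0 → QuadraticMap.polar (⇑Q) a w2 = 0 := by
      intro a ha1 ha2 ha3
      rw [hw2, QuadraticMap.polar_sub_right, QuadraticMap.polar_sub_right,
        QuadraticMap.polar_smul_right, QuadraticMap.polar_smul_right, ha1, ha2, ha3]
      simp
    have hv_w2 := hw2_gen v hvw h1.ab h1.ab'
    have hv'_w2 := hw2_gen v' hv'w h1.a'b h1.a'b'
    have hw0_w2 := hw2_gen w0 hw0w h2.ab h2.ab'
    have hw0'_w2 := hw2_gen w0' hw0'w h2.a'b h2.a'b'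
    have w2mem : w2 ∈ W1 Q v v' w0 w0' :=
      ⟨(mem_perp Q v v').mpr ⟨hv_w2, hv'_w2⟩, (mem_perp Q w0 w0').mpr ⟨hw0_w2, hw0'_w2⟩⟩
    -- orthogonality to `w0`
    have o1 : QuadraticMap.polar (⇑Q) w0 (c • w1) = 0 := by
      rw [QuadraticMap.polar_smul_right, h2.ab, smul_zero]
    have o2 : QuadraticMap.polar (⇑Q) w0 (c' • w1') = 0 := by
      rw [QuadraticMap.polar_smul_right, h2.ab', smul_zero]
    have o3 : QuadraticMap.polar (⇑Q) w0 (c' • w1' + w2) = 0 := by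
      rw [QuadraticMap.polar_add_right, o2, hw0_w2, add_zero]
    have t1 : E Q w0 (c • w1) ∈ T Q := E_mem_T Q hQ hdim qw0 o1
    have t2 : E Q w0 (c' • w1') ∈ T Q := E_mem_T Q hQ hdim qw0 o2
    have t3 : E Q w0 w2 ∈ T Q := E_mem_T Q hQ hdim qw0 hw0_w2
    have t23 : E Q w0 (c' • w1') * E Q w0 w2 ∈ T Q := Subgroup.mul_mem _ t2 t3
    rw [hw_eq, ← E_mul Q qw0 o1 o3, ← E_mul Q qw0 o2 hw0_w2,
      repE_mul_apply Q ρ t1 t23, repE_mul_apply Q ρ t2 t3]
    -- (iii)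
    have f3 : repE Q ρ (E Q w0 w2) (∑ s : F, repE Q ρ (xr Q w0 w1' s) ny) =
        ∑ s : F, repE Q ρ (xr Q w0 w1' s) ny := by
      have hni_w2 : n⁻¹ w2 = w2 := by
        apply inv_apply_of_apply n
        exact nw_perp h2 1 w2 (pc _ _ hw0_w2) (pc _ _ hw0'_w2) hw2_w1 hw2_w1'
      have hw1w2 : QuadraticMap.polar (⇑Q) w1 w2 = 0 := pc _ _ hw2_w1
      have e1 : E Q (n⁻¹ w0) (n⁻¹ w2) = E Q w1 (-w2) := by
        rw [hni_w0, hni_w2]
        have := E_smul_left Q qw1 hw1w2 (-1 : F)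
        rw [neg_one_smul, neg_one_smul] at this
        exact this
      have hw1nw2 : QuadraticMap.polar (⇑Q) w1 (-w2) = 0 := by
        rw [QuadraticMap.polar_neg_right, hw1w2, neg_zero]
      apply hconjfix w2 hw0_w2
      · rw [e1]
        exact hall w1 (-w2) w1mem (Submodule.neg_mem _ w2mem) qw1 hw1nw2
      · rw [e1]
        exact E_mem_T Q hQ hdim qw1 hw1nw2
    -- (ii)
    have f1 : repE Q ρ (E Q w0 (c • w1)) (∑ s : F, repE Q ρ (xr Q w0 w1' s) ny) =
        ∑ s : F, repE Q ρ (xr Q w0 w1' s) ny := by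
      have hw1w0 : QuadraticMap.polar (⇑Q) w1 w0 = 0 := pc _ _ h2.ab
      have hw1cw0 : QuadraticMap.polar (⇑Q) w1 (c • w0) = 0 := by
        rw [QuadraticMap.polar_smul_right, hw1w0, smul_zero]
      have e1 : E Q (n⁻¹ w0) (n⁻¹ (c • w1)) = E Q w0 (c • w1) := by
        rw [hni_w0, map_smul, hni_w1]
        have s1 := E_smul_left Q qw1 hw1cw0 (-1 : F)
        rw [neg_one_smul, neg_one_smul] at s1
        have qcw1 : Q (c • w1) = 0 := by rw [hQs, qw1, mul_zero]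
        have s2 := E_swap (Q := Q) qw0 qcw1 o1
        have hw1nw0 : QuadraticMap.polar (⇑Q) w1 (-w0) = 0 := by
          rw [QuadraticMap.polar_neg_right, hw1w0, neg_zero]
        have s3 := E_smul_left Q qw1 hw1nw0 c
        rw [s1, s2, s3, smul_neg]
      apply hconjfix (c • w1) o1
      · rw [e1]
        exact hyR1 _ (Submodule.smul_mem _ c w1mem)
      · rw [e1]
        exact t1
    -- (i)
    have f2 : repE Q ρ (E Q w0 (c' • w1')) (∑ s : F, repE Q ρ (xr Q w0 w1' s) ny) =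
        ∑ s : F, repE Q ρ (xr Q w0 w1' s) ny := hi c'
    rw [f3, f2, f1]

/-- the restriction of `Q` to `W_1` is non-degenerate -/
theorem nondeg_W1 (Q : QuadraticForm F V) (hQ : (QuadraticMap.polarBilin Q).Nondegenerate)
    {v v' w0 w0' : V} (h : HQuad Q v v' w0 w0') :
    (QuadraticMap.polarBilin (Q.comp (W1 Q v v' w0 w0').subtype)).Nondegenerate := by
  have pc : ∀ a b : V, QuadraticMap.polar (⇑Q) a b = 0 → QuadraticMap.polar (⇑Q) b a = 0 := by
    intro a b hab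
    rw [QuadraticMap.polar_comm]; exact hab
  have pvv : QuadraticMap.polar (⇑Q) v v = 0 := polar_self_of_zero h.pa.qa
  have pv'v' : QuadraticMap.polar (⇑Q) v' v' = 0 := polar_self_of_zero h.pa.qa'
  have pww : QuadraticMap.polar (⇑Q) w0 w0 = 0 := polar_self_of_zero h.pb.qa
  have pw'w' : QuadraticMap.polar (⇑Q) w0' w0' = 0 := polar_self_of_zero h.pb.qa'
  have pv'v : QuadraticMap.polar (⇑Q) v' v = 1 := by rw [QuadraticMap.polar_comm]; exact h.pa.aa'
  have pw'w : QuadraticMap.polar (⇑Q) w0' w0 = 1 := by rw [QuadraticMap.polar_comm]; exact h.pb.aa'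
  apply LinearMap.BilinForm.Nondegenerate.ofSeparatingLeft
  intro w hw
  obtain ⟨hw1, hw2⟩ := w.2
  obtain ⟨hvw, hv'w⟩ := (mem_perp Q v v').mp hw1
  obtain ⟨hw0w, hw0'w⟩ := (mem_perp Q w0 w0').mp hw2
  apply Subtype.ext
  apply hQ.1
  intro x
  rw [QuadraticMap.polarBilin_apply_apply]
  set x' : V := x - QuadraticMap.polar (⇑Q) v' x • v - QuadraticMap.polar (⇑Q) v x • v' -
    QuadraticMap.polar (⇑Q) w0' x • w0 - QuadraticMap.polar (⇑Q) w0 x • w0' with hx'
  have hx'mem : x' ∈ W1 Q v v' w0 w0' := by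
    refine ⟨(mem_perp Q v v').mpr ⟨?_, ?_⟩, (mem_perp Q w0 w0').mpr ⟨?_, ?_⟩⟩
    · rw [hx']
      simp only [QuadraticMap.polar_sub_right, QuadraticMap.polar_smul_right, pvv, h.pa.aa', h.ab,
        h.ab', smul_eq_mul, mul_zero, mul_one, sub_zero, sub_self]
    · rw [hx']
      simp only [QuadraticMap.polar_sub_right, QuadraticMap.polar_smul_right, pv'v', pv'v, h.a'b,
        h.a'b', smul_eq_mul, mul_zero, mul_one, sub_zero, sub_self]
    · rw [hx']
      simp only [QuadraticMap.polar_sub_right, QuadraticMap.polar_smul_right, pww, h.pb.aa',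
        pc _ _ h.ab, pc _ _ h.a'b, smul_eq_mul, mul_zero, mul_one, sub_zero, sub_self]
    · rw [hx']
      simp only [QuadraticMap.polar_sub_right, QuadraticMap.polar_smul_right, pw'w', pw'w,
        pc _ _ h.ab', pc _ _ h.a'b', smul_eq_mul, mul_zero, mul_one, sub_zero, sub_self]
  have hw' := hw ⟨x', hx'mem⟩
  rw [QuadraticMap.polarBilin_apply_apply,
    Cfsg.Agent.Lib.Helper44_OO2_FIXLALL.polar_comp_subtype] at hw'
  have hx : x = x' + QuadraticMap.polar (⇑Q) v' x • v + QuadraticMap.polar (⇑Q) v x • v' +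
      QuadraticMap.polar (⇑Q) w0' x • w0 + QuadraticMap.polar (⇑Q) w0 x • w0' := by
    rw [hx']; abel
  rw [hx]
  simp only [QuadraticMap.polar_add_right, QuadraticMap.polar_smul_right]
  rw [hw', pc _ _ hvw, pc _ _ hv'w, pc _ _ hw0w, pc _ _ hw0'w]
  simp

/-- the dimension of `W_1` -/
theorem finrank_W1 (Q : QuadraticForm F V) {v v' w0 w0' : V} (h : HQuad Q v v' w0 w0') :
    finrank F ↥(W1 Q v v' w0 w0') + 4 = finrank F V := by
  have pc : ∀ a b : V, QuadraticMap.polar (⇑Q) a b = 0 → QuadraticMap.polar (⇑Q) b a = 0 := by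
    intro a b hab
    rw [QuadraticMap.polar_comm]; exact hab
  have pww : QuadraticMap.polar (⇑Q) w0 w0 = 0 := polar_self_of_zero h.pb.qa
  have pw'w' : QuadraticMap.polar (⇑Q) w0' w0' = 0 := polar_self_of_zero h.pb.qa'
  have pw'w : QuadraticMap.polar (⇑Q) w0' w0 = 1 := by rw [QuadraticMap.polar_comm]; exact h.pb.aa'
  have hA := finrank_perp (Q := Q) h.pa.qa h.pa.qa' h.pa.aa'
  have hB := finrank_perp (Q := Q) h.pb.qa h.pb.qa' h.pb.aa'
  have hsup : perp Q v v' ⊔ perp Q w0 w0' = ⊤ := by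
    rw [eq_top_iff]
    intro x _
    have hx : x = (QuadraticMap.polar (⇑Q) w0' x • w0 + QuadraticMap.polar (⇑Q) w0 x • w0') +
        (x - QuadraticMap.polar (⇑Q) w0' x • w0 - QuadraticMap.polar (⇑Q) w0 x • w0') := by abel
    rw [hx]
    apply Submodule.add_mem_sup
    · apply Submodule.add_mem
      · exact Submodule.smul_mem _ _ ((mem_perp Q v v').mpr ⟨h.ab, h.a'b⟩)
      · exact Submodule.smul_mem _ _ ((mem_perp Q v v').mpr ⟨h.ab', h.a'b'⟩)
    · rw [mem_perp]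
      constructor
      · simp only [QuadraticMap.polar_sub_right, QuadraticMap.polar_smul_right, pww, h.pb.aa',
          smul_eq_mul, mul_zero, mul_one, sub_zero, sub_self]
      · simp only [QuadraticMap.polar_sub_right, QuadraticMap.polar_smul_right, pw'w', pw'w,
          smul_eq_mul, mul_zero, mul_one, sub_zero, sub_self]
  have hsi := Submodule.finrank_sup_add_finrank_inf_eq (perp Q v v') (perp Q w0 w0')
  rw [hsup, finrank_top] at hsi
  have : W1 Q v v' w0 w0' = perp Q v v' ⊓ perp Q w0 w0' := rfl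
  rw [this]
  omega

/-- OO2-J2F2. -/
theorem J2_mem_F2 [FiniteDimensional ℂ X] (Q : QuadraticForm F V)
    (hQ : (QuadraticMap.polarBilin Q).Nondegenerate)
    (hdim : 9 ≤ finrank F V) {v v' w0 w0' w1 w1' : V} (h : HQuad Q v v' w0 w0')
    (h1 : HQuad Q v v' w1 w1') (h2 : HQuad Q w0 w0' w1 w1')
    (ρ : Representation ℂ ↥(T Q) X) (y : X) (hy : y ∈ Y2sp Q ρ v v' w0 w0') :
    Jop Q ρ w0 w0' w1 w1' y ∈ F2sp Q ρ v v' w0 w0' := by
  have hd1 := finrank_W1 Q h
  have hS := nondeg_W1 Q hQ h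
  apply J2_mem_F2_core Q hQ (by omega) h h1 h2 ρ y hy
  intro u z hu hz hQu huz
  exact Cfsg.Agent.Lib.Helper44_OO2_FIXLALL.fixL_all Q (W1 Q v v' w0 w0') hS (by omega) ρ y hy.2
    u z hu hz hQu huz

end main

end Cfsg.Agent.Lib.Helper86_OO2_J2F2
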