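import Mathlib
import Cfsg.Prelude.Def_Characters
import Cfsg.Prelude.Def_Blocks
import Cfsg.Agent.Lib.Helper3_P2Defs
import Cfsg.Agent.Lib.Helper53_P2_PCOMPL

/-!
# P2-E2A (helper86, for helper3's S4705 market)

Products of two distinct involutions: not central, no central factor, and `p`-singular implies of
order `p`.
-/

set_option autoImplicit false
set_option linter.unusedSectionVars false
set_option linter.unusedVariables false

namespace Cfsg.Agent.Lib.Helper86_P2_E2A

open Cfsg Cfsg.Agent.Lib.Helper3_P2Defs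

universe u

/-- an element killed by two coprime exponents is trivial -/
theorem eq_one_of_pow_coprime {G : Type*} [Group G] {w : G} {m n : ℕ} (hm : w ^ m = 1)
    (hn : w ^ n = 1) (h : Nat.Coprime m n) : w = 1 := by
  have h1 := orderOf_dvd_of_pow_eq_one hm
  have h2 := orderOf_dvd_of_pow_eq_one hn
  have : orderOf w ∣ Nat.gcd m n := Nat.dvd_gcd h1 h2
  rw [h] at this
  exact orderOf_eq_one_iff.mp (Nat.dvd_one.mp this)

theorem pow_card_center {G : Type*} [Group G] [Finite G] {w : G} (hw : w ∈ Subgroup.center G) :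
    w ^ Nat.card (Subgroup.center G) = 1 := by
  have := pow_card_eq_one' (G := Subgroup.center G) (x := ⟨w, hw⟩)
  exact congrArg Subtype.val this

theorem sq_of_orderOf_two {G : Type*} [Group G] {a : G} (ha : orderOf a = 2) : a * a = 1 := by
  have := pow_orderOf_eq_one a
  rw [ha, pow_two] at this
  exact this

theorem inv_of_orderOf_two {G : Type*} [Group G] {a : G} (ha : orderOf a = 2) : a⁻¹ = a :=
  inv_eq_of_mul_eq_one_left (sq_of_orderOf_two ha)

theorem pow_odd_of_orderOf_two {G : Type*} [Group G] {a : G} (ha : orderOf a = 2) {z : ℕ}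
    (hz : Odd z) : a ^ z = a := by
  obtain ⟨k, rfl⟩ := hz
  rw [pow_succ, pow_mul, pow_two, sq_of_orderOf_two ha, one_pow, one_mul]

variable {G : Type u} [Group G] [Fintype G] {p : ℕ} [hp : Fact p.Prime] {P : Sylow p G}
  {ζ : G → ℂ} {k₂ : ℕ}

/-- A central element whose square is trivial is trivial (the centre has odd order). -/
theorem central_sq_eq_one (hc : Core G p P ζ k₂) {w : G} (hw : w ∈ Subgroup.center G)
    (h2 : w * w = 1) : w = 1 := by
  have h1 := pow_card_center hw
  have h2' : w ^ 2 = 1 := by rw [pow_two]; exact h2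
  exact eq_one_of_pow_coprime h1 h2' (Nat.Coprime.symm (Nat.coprime_two_left.mpr hc.zodd))

/-- every `p`-singular element is `x' * w` with `x' ^ p = 1`, `w` central -/
theorem psing_form (hc : Core G p P ζ k₂) (g : G) (hg : p ∣ orderOf g) :
    ∃ x' w : G, x' ^ p = 1 ∧ w ∈ Subgroup.center G ∧ g = x' * w := by
  have hpp : p.Prime := hp.out
  obtain ⟨k, hk⟩ := hg
  have hgpos : 0 < orderOf g := orderOf_pos g
  have hkpos : 0 < k := by
    rcases Nat.eq_zero_or_pos k with h | h
    · rw [h, mul_zero] at hk; omega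
    · exact h
  set x := g ^ k with hx
  have hxord : orderOf x = p := by
    rw [hx, orderOf_pow' g hkpos.ne', hk, Nat.gcd_eq_right (Dvd.intro_left p rfl)]
    exact Nat.mul_div_cancel _ hkpos
  have hxg : Commute g x := (Commute.refl g).pow_right k
  -- a Sylow subgroup containing x, conjugate to P
  have hpg : IsPGroup p (Subgroup.zpowers x) :=
    IsPGroup.of_card (n := 1) (by rw [Nat.card_zpowers, hxord, pow_one])
  obtain ⟨Q, hQ⟩ := hpg.exists_le_sylow
  obtain ⟨c, hcQ⟩ := MulAction.exists_smul_eq G Q P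
  have hxQ : x ∈ (Q : Subgroup G) := hQ (Subgroup.mem_zpowers x)
  have hx1P : c * x * c⁻¹ ∈ (P : Subgroup G) := by
    rw [← hcQ, Sylow.coe_subgroup_smul, Subgroup.mem_pointwise_smul_iff_inv_smul_mem]
    simp only [MulAut.smul_def, MulAut.conj_inv_apply]
    simpa [mul_assoc] using hxQ
  set x₁ := c * x * c⁻¹ with hx₁
  have hx₁ne : x₁ ≠ 1 := by
    intro h
    have : x = 1 := by
      have := congrArg (fun y => c⁻¹ * y * c) h
      simpa [hx₁, mul_assoc] using this
    rw [this, orderOf_one] at hxord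
    exact hpp.one_lt.ne hxord
  set g₁ := c * g * c⁻¹ with hg₁
  have hcomm1 : Commute g₁ x₁ := by
    show c * g * c⁻¹ * (c * x * c⁻¹) = c * x * c⁻¹ * (c * g * c⁻¹)
    have := hxg.eq
    calc c * g * c⁻¹ * (c * x * c⁻¹) = c * (g * x) * c⁻¹ := by group
      _ = c * (x * g) * c⁻¹ := by rw [this]
      _ = c * x * c⁻¹ * (c * g * c⁻¹) := by group
  -- g₁ centralizes P
  have hg1cent : g₁ ∈ Subgroup.centralizer ((P : Subgroup G) : Set G) := by
    rw [Subgroup.mem_centralizer_iff]
    intro y hy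
    have htop : Subgroup.zpowers (⟨x₁, hx1P⟩ : ↥(P : Subgroup G)) = ⊤ := by
      apply zpowers_eq_top_of_prime_card (p := p) hc.cardP
      intro h
      exact hx₁ne (congrArg Subtype.val h)
    have hy' : (⟨y, hy⟩ : ↥(P : Subgroup G)) ∈ Subgroup.zpowers (⟨x₁, hx1P⟩ : ↥(P : Subgroup G)) := by
      rw [htop]; trivial
    obtain ⟨n, hn⟩ := Subgroup.mem_zpowers_iff.mp hy'
    have hyn : y = x₁ ^ n := by
      have := congrArg Subtype.val hn
      simpa using this.symm
    rw [hyn]
    exact ((hcomm1.zpow_right n).eq).symm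
  obtain ⟨x₀, hx₀, w, hw, hgw⟩ := hc.cent g₁ hg1cent
  refine ⟨c⁻¹ * x₀ * c, w, ?_, hw, ?_⟩
  · have hx0p : x₀ ^ p = 1 := by
      have := pow_card_eq_one' (G := ↥(P : Subgroup G)) (x := ⟨x₀, hx₀⟩)
      rw [hc.cardP] at this
      exact congrArg Subtype.val this
    have : (c⁻¹ * x₀ * c) ^ p = c⁻¹ * x₀ ^ p * c := by
      have := conj_pow (a := c⁻¹) (b := x₀) (i := p)
      simpa using this
    rw [this, hx0p]; group
  · have hwc : c⁻¹ * w * c = w := by
      have := Subgroup.mem_center_iff.mp hw c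
      calc c⁻¹ * w * c = c⁻¹ * (w * c) := by group
        _ = c⁻¹ * (c * w) := by rw [this]
        _ = w := by group
    calc g = c⁻¹ * g₁ * c := by rw [hg₁]; group
      _ = c⁻¹ * (x₀ * w) * c := by rw [hgw]
      _ = c⁻¹ * x₀ * c * (c⁻¹ * w * c) := by group
      _ = c⁻¹ * x₀ * c * w := by rw [hwc]

theorem prod_inv_cases (hc : Core G p P ζ k₂) (a b : G) (ha : orderOf a = 2) (hb : orderOf b = 2)
    (hab : a ≠ b) :
    a * b ∉ Subgroup.center G ∧
    (∀ u w : G, orderOf u = 2 → w ∈ Subgroup.center G → a * b = u * w → w = 1) ∧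
    (p ∣ orderOf (a * b) → orderOf (a * b) = p) := by
  have hpp : p.Prime := hp.out
  have haa := sq_of_orderOf_two ha
  have hbb := sq_of_orderOf_two hb
  have hai := inv_of_orderOf_two ha
  have hbi := inv_of_orderOf_two hb
  -- a inverts g = a b
  have hinv : a * (a * b) * a⁻¹ = (a * b)⁻¹ := by
    rw [mul_inv_rev, hai, hbi, ← mul_assoc, haa, one_mul]
  have hne : a * b ≠ 1 := by
    intro h
    apply hab
    have : a = b⁻¹ := eq_inv_of_mul_eq_one_left h
    rw [this, hbi]
  have hzodd := hc.zodd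
  refine ⟨?_, ?_, ?_⟩
  · intro hcen
    have h1 : a * (a * b) = (a * b) * a := Subgroup.mem_center_iff.mp hcen a
    have h2 : (a * b)⁻¹ = a * b := by
      rw [← hinv, h1, mul_assoc, ← hai, mul_inv_cancel, mul_one]
    have h3 : (a * b) * (a * b) = 1 := by
      nth_rewrite 1 [← h2]; exact inv_mul_cancel _
    exact hne (central_sq_eq_one hc hcen h3)
  · intro u w hu hw hg
    have hui := inv_of_orderOf_two hu
    have hwcomm : ∀ y : G, y * w = w * y := Subgroup.mem_center_iff.mp hw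
    have hwi : w⁻¹ ∈ Subgroup.center G := Subgroup.inv_mem _ hw
    have hwicomm : ∀ y : G, y * w⁻¹ = w⁻¹ * y := Subgroup.mem_center_iff.mp hwi
    -- (a u a⁻¹) w = u w⁻¹
    have h1 : (a * u * a⁻¹) * w = u * w⁻¹ := by
      have e1 : a * (u * w) * a⁻¹ = (u * w)⁻¹ := by rw [← hg]; exact hinv
      have e2 : a * (u * w) * a⁻¹ = (a * u * a⁻¹) * w := by
        calc a * (u * w) * a⁻¹ = a * u * (w * a⁻¹) := by group
          _ = a * u * (a⁻¹ * w) := by rw [← hwcomm a⁻¹]
          _ = (a * u * a⁻¹) * w := by group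
      have e3 : (u * w)⁻¹ = u * w⁻¹ := by
        rw [mul_inv_rev, hui, ← hwicomm u]
      rw [← e2, e1, e3]
    set z := Nat.card (Subgroup.center G) with hz
    have hwz : w ^ z = 1 := pow_card_center hw
    have hwiz : w⁻¹ ^ z = 1 := by rw [inv_pow, hwz, inv_one]
    have hcu : orderOf (a * u * a⁻¹) = 2 := by
      have : a * u * a⁻¹ = MulAut.conj a u := by simp [MulAut.conj_apply]
      rw [this, MulEquiv.orderOf_eq, hu]
    have h2 : ((a * u * a⁻¹) * w) ^ z = a * u * a⁻¹ := by
      rw [(show Commute (a * u * a⁻¹) w from hwcomm _).mul_pow, hwz, mul_one,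
        pow_odd_of_orderOf_two hcu hzodd]
    have h3 : (u * w⁻¹) ^ z = u := by
      rw [(show Commute u w⁻¹ from hwicomm _).mul_pow, hwiz, mul_one, pow_odd_of_orderOf_two hu hzodd]
    have h4 : a * u * a⁻¹ = u := by rw [← h2, h1, h3]
    rw [h4] at h1
    have h5 : w = w⁻¹ := mul_left_cancel h1
    have h6 : w * w = 1 := by nth_rewrite 2 [h5]; exact mul_inv_cancel w
    exact central_sq_eq_one hc hw h6
  · intro hdvd
    obtain ⟨x', w, hx'p, hw, hg⟩ := psing_form hc (a * b) hdvd
    have hwcomm : ∀ y : G, y * w = w * y := Subgroup.mem_center_iff.mp hw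
    have hwi : w⁻¹ ∈ Subgroup.center G := Subgroup.inv_mem _ hw
    have hwicomm : ∀ y : G, y * w⁻¹ = w⁻¹ * y := Subgroup.mem_center_iff.mp hwi
    have h1 : (a * x' * a⁻¹) * w = x'⁻¹ * w⁻¹ := by
      have e1 : a * (x' * w) * a⁻¹ = (x' * w)⁻¹ := by rw [← hg]; exact hinv
      have e2 : a * (x' * w) * a⁻¹ = (a * x' * a⁻¹) * w := by
        calc a * (x' * w) * a⁻¹ = a * x' * (w * a⁻¹) := by group
          _ = a * x' * (a⁻¹ * w) := by rw [← hwcomm a⁻¹]
          _ = (a * x' * a⁻¹) * w := by group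
      have e3 : (x' * w)⁻¹ = x'⁻¹ * w⁻¹ := by
        rw [mul_inv_rev, ← hwicomm x'⁻¹]
      rw [← e2, e1, e3]
    have hcx : (a * x' * a⁻¹) ^ p = 1 := by
      have := conj_pow (a := a) (b := x') (i := p)
      rw [this, hx'p]; group
    have h2 : ((a * x' * a⁻¹) * w) ^ p = w ^ p := by
      rw [(show Commute (a * x' * a⁻¹) w from hwcomm _).mul_pow, hcx, one_mul]
    have h3 : (x'⁻¹ * w⁻¹) ^ p = (w ^ p)⁻¹ := by
      rw [(show Commute x'⁻¹ w⁻¹ from hwicomm _).mul_pow, inv_pow, hx'p, inv_one, one_mul, inv_pow]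
    have h4 : w ^ p = (w ^ p)⁻¹ := by
      calc w ^ p = ((a * x' * a⁻¹) * w) ^ p := h2.symm
        _ = (x'⁻¹ * w⁻¹) ^ p := by rw [h1]
        _ = (w ^ p)⁻¹ := h3
    have h5 : w ^ (2 * p) = 1 := by
      rw [two_mul, pow_add]
      nth_rewrite 2 [h4]; exact mul_inv_cancel _
    have hcop : Nat.Coprime (Nat.card (Subgroup.center G)) (2 * p) := by
      apply Nat.Coprime.mul_right
      · exact Nat.Coprime.symm (Nat.coprime_two_left.mpr hzodd)
      · exact Cfsg.Agent.Lib.Helper53_P2_PCOMPL.coprime_center hc.toHyp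
    have hw1 : w = 1 := eq_one_of_pow_coprime (pow_card_center hw) h5 hcop
    rw [hw1, mul_one] at hg
    have h6 : orderOf (a * b) ∣ p := by
      rw [hg]; exact orderOf_dvd_of_pow_eq_one hx'p
    exact Nat.dvd_antisymm h6 hdvd

end Cfsg.Agent.Lib.Helper86_P2_E2A
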