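import Mathlib
import Cfsg.Prelude.Def_ParabolicCharacters
import Cfsg.Agent.Lib.Helper81_BNSub
import Cfsg.Agent.Lib.Helper81_BNBorel
import Cfsg.Agent.Lib.Helper81_ChevBorel
import Cfsg.Agent.Lib.Helper81_ChevStDeg
import Cfsg.Agent.Lib.Helper81_ChevParCent
import Cfsg.Agent.Lib.Helper18_ChevLevi

/-!
# S2314 package CK-DESC (architect helper81): `isNeg_of_descent`

A left descent `ℓ(s_j n) < ℓ(n)` means that `n⁻¹` makes the `j`-th fundamental root negative.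
-/

set_option autoImplicit false
set_option linter.unusedSectionVars false
set_option linter.unusedVariables false

namespace Cfsg.Agent.Lib.Helper81_PCountChev

open Cfsg Cfsg.Lie Cfsg.Agent.Lib.Helper18_ChevFast Cfsg.Agent.Lib.Helper18_ChevEngine
  Cfsg.Agent.Lib.Helper18_ChevR1 Cfsg.Agent.Lib.Helper18_ChevN Cfsg.Agent.Lib.Helper18_ChevR4
  Cfsg.Agent.Lib.Helper18_ChevSimple Cfsg.Agent.Lib.Helper18_ChevSimple2 Cfsg.Agent.Lib.Helper18_ChevFacts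
  Cfsg.Agent.Lib.Helper18_ChevWeyl Cfsg.Agent.Lib.Helper18_ChevDiag Cfsg.Agent.Lib.Helper18_ChevCar
  Cfsg.Agent.Lib.Helper18_ChevTorus Cfsg.Agent.Lib.Helper18_ChevGL Cfsg.Agent.Lib.Helper18_ChevComm
  Cfsg.Agent.Lib.Helper18_ChevComm2 Cfsg.Agent.Lib.Helper18_MatTri Cfsg.Agent.Lib.Helper18_ChevTri
  Cfsg.Agent.Lib.Helper18_ChevBorel Cfsg.Agent.Lib.Helper18_ChevAdd Cfsg.Agent.Lib.Helper18_ChevUni
  Cfsg.Agent.Lib.Helper18_ChevBN Cfsg.Agent.Lib.Helper18_ChevMono Cfsg.Agent.Lib.Helper18_ChevBNPair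
  Cfsg.Agent.Lib.Helper18_ChevSimp Cfsg.Agent.Lib.Helper18_ChevJCerts Cfsg.Agent.Lib.Helper18_ChevLevi
  Cfsg.Agent.Lib.Helper18_ChevBruhat Cfsg.Agent.Lib.Helper18_ChevPar Cfsg.Agent.Lib.Helper18_ChevRootHom
  Cfsg.Agent.Lib.Helper18_ChevOrder Cfsg.Agent.Lib.Helper18_ChevSylow
  Cfsg.Agent.Lib.Helper6_Word Cfsg.Agent.Lib.Helper6_BNPair Cfsg.Agent.Lib.Helper81_CoxComb
  Cfsg.Agent.Lib.Helper81_ChevLen Cfsg.Agent.Lib.Helper81_ChevLenBN Cfsg.Agent.Lib.Helper81_BNSteinberg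
  Cfsg.Agent.Lib.Helper81_BNIndex Cfsg.Agent.Lib.Helper81_BNBorel Cfsg.Agent.Lib.Helper81_ChevSt

variable {D : ChevalleyDatum} {Ns : List NData} {F : Type*} [Field F]
variable {wl : List ℤ} {ws : List (List ℤ)} {sc : ℤ} {w : List ℤ} {d : ℕ}

section bn

variable (P : Cfsg.BNPair ↥(D.group F))
  (hB : P.B = (D.borelSubgroup F).subgroupOf (D.group F))
  (hN : P.N = (D.monomialSubgroup F).subgroupOf (D.group F))
  (hS : P.S = {n : ↥(D.group F) | ∃ i < D.rank,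
        ((n : GL D.Idx F) : Matrix D.Idx D.Idx F) = D.nMat F (D.simple i) 1})

/-! ## CK-DESC -/

include hB hN hS in
/-- a left descent `ℓ(s_j n) < ℓ(n)` means that `n⁻¹` makes the `j`-th fundamental root negative -/
theorem isNeg_of_descent (c : DCert D Ns) (tc : TCert D) (ac : ACert D wl ws sc) (gc : GCert D w d)
    (hdesc : Descent D) (hR2 : R2All D F) (n : P.N) (j : ℕ) (hj : j < D.rank)
    (hlt : ℓ P (sP P hN c j hj * n) < ℓ P n) :
    D.IsNegRoot (piOf c tc (toN P hN n)⁻¹ (D.simple j)) := by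
  have hlin := piOf_linMap c tc (toN P hN n)⁻¹
  rcases ac.posOrNeg _ (hlin.1 _ (tc.simple_pos j hj).1) with hp | hn
  · exfalso
    have h1 := lam_lt_of_pos c tc ac (toN P hN n)⁻¹ j hj hp
    have e0 : (toN P hN n)⁻¹ = toN P hN n⁻¹ := (map_inv (toN P hN) n).symm
    have e : (toN P hN n)⁻¹ * sN c j hj = toN P hN (n⁻¹ * sP P hN c j hj) := by
      rw [map_mul, toN_sP, e0]
    rw [e, e0] at h1
    have h2 : lamP P hN c tc ac n⁻¹ < lamP P hN c tc ac (n⁻¹ * sP P hN c j hj) := h1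
    rw [lamP_eq_ℓ P hB hN hS c tc ac gc hdesc hR2, lamP_eq_ℓ P hB hN hS c tc ac gc hdesc hR2] at h2
    have hsimp : IsSimple P (sP P hN c j hj) := isSimple_of_mem P (sP_mem_S P hN hS c j hj)
    have h3 : ℓ P n⁻¹ = ℓ P n := by
      unfold ℓ
      rw [map_inv, len_inv (invGen P)]
    have h4 : ℓ P (n⁻¹ * sP P hN c j hj) = ℓ P (sP P hN c j hj * n) := by
      rw [← ℓ_inv_simple_mul P hsimp n]
      unfold ℓ
      rw [← len_inv (invGen P) (π P ((sP P hN c j hj)⁻¹ * n)), ← map_inv, mul_inv_rev, inv_inv]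
    omega
  · exact hn

end bn

end Cfsg.Agent.Lib.Helper81_PCountChev
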