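/-
Helper library (helper86): the centralizer of an involution of `PSL(3, F)`, `F` a finite field of
odd order, is `GL(2, F)` modulo the central subgroup of scalars of order dividing `3`.
-/
import Mathlib

set_option autoImplicit false

namespace Cfsg.Agent.Lib.Helper86_PSL3Inv

open Matrix

variable {F : Type*} [Field F]

/-! ### linear algebra: involutions of determinant one -/

/-- an involutory matrix has an eigenbasis -/
theorem exists_eigenbasis (h2 : (2 : F) ≠ 0) (M : Matrix (Fin 3) (Fin 3) F) (hM : M * M = 1) :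
    ∃ (b : Module.Basis (Fin 3) F (Fin 3 → F)) (ε : Fin 3 → F),
      (∀ i, ε i = 1 ∨ ε i = -1) ∧ ∀ i, M *ᵥ b i = ε i • b i := by
  classical
  set s : Set (Fin 3 → F) := {v | M *ᵥ v = v ∨ M *ᵥ v = -v} with hs
  have hspan : ⊤ ≤ Submodule.span F s := by
    intro v _
    have hMM : ∀ w : Fin 3 → F, M *ᵥ (M *ᵥ w) = w := by
      intro w
      rw [Matrix.mulVec_mulVec, hM, Matrix.one_mulVec]
    have h1 : (v + M *ᵥ v) ∈ s := by
      left
      rw [Matrix.mulVec_add, hMM, add_comm]
    have h3 : (v - M *ᵥ v) ∈ s := by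
      right
      rw [Matrix.mulVec_sub, hMM, neg_sub]
    have hv : v = (2 : F)⁻¹ • (v + M *ᵥ v) + (2 : F)⁻¹ • (v - M *ᵥ v) := by
      rw [← smul_add]
      have : v + M *ᵥ v + (v - M *ᵥ v) = (2 : F) • v := by
        rw [two_smul]; abel
      rw [this, smul_smul, inv_mul_cancel₀ h2, one_smul]
    rw [hv]
    exact Submodule.add_mem _ (Submodule.smul_mem _ _ (Submodule.subset_span h1))
      (Submodule.smul_mem _ _ (Submodule.subset_span h3))
  set b₀ := Module.Basis.ofSpan hspan with hb₀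
  have hfin : Fintype ((linearIndepOn_empty F id).extend (Set.empty_subset s)) :=
    FiniteDimensional.fintypeBasisIndex b₀
  have hcard : Fintype.card ((linearIndepOn_empty F id).extend (Set.empty_subset s)) = 3 := by
    rw [← Module.finrank_eq_card_basis b₀]
    simp
  set e := Fintype.equivFinOfCardEq hcard with he
  set b := b₀.reindex e with hb
  have hbs : ∀ i, b i ∈ s := by
    intro i
    have : b i = b₀ (e.symm i) := by rw [hb, Module.Basis.reindex_apply]
    rw [this]
    exact Module.Basis.ofSpan_subset hspan ⟨_, rfl⟩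
  refine ⟨b, fun i => if M *ᵥ b i = b i then 1 else -1, ?_, ?_⟩
  · intro i
    by_cases h : M *ᵥ b i = b i
    · left; simp [h]
    · right; simp [h]
  · intro i
    by_cases h : M *ᵥ b i = b i
    · simp [h]
    · rcases hbs i with h' | h'
      · exact absurd h' h
      · simp [h']

/-- the matrix of a basis of eigenvectors -/
theorem mul_toMatrix (M : Matrix (Fin 3) (Fin 3) F) (b : Module.Basis (Fin 3) F (Fin 3 → F))
    (ε : Fin 3 → F) (hb : ∀ i, M *ᵥ b i = ε i • b i) :
    M * (Pi.basisFun F (Fin 3)).toMatrix b = (Pi.basisFun F (Fin 3)).toMatrix b * diagonal ε := by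
  ext i j
  rw [Matrix.mul_apply, Matrix.mul_diagonal]
  simp only [Module.Basis.toMatrix_apply, Pi.basisFun_repr]
  have := congrFun (hb j) i
  rw [Matrix.mulVec, Pi.smul_apply, smul_eq_mul] at this
  rw [mul_comm, ← this]
  rfl

theorem det_toMatrix_ne_zero (b : Module.Basis (Fin 3) F (Fin 3 → F)) :
    ((Pi.basisFun F (Fin 3)).toMatrix b).det ≠ 0 := by
  have h := Module.Basis.toMatrix_mul_toMatrix_flip (Pi.basisFun F (Fin 3)) b
  have h1 := congrArg Matrix.det h
  rw [Matrix.det_mul, Matrix.det_one] at h1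
  exact left_ne_zero_of_mul_eq_one h1

/-- the standard involution -/
def dd : Fin 3 → F := ![-1, -1, 1]

theorem exists_std_eigenbasis (h2 : (2 : F) ≠ 0) (M : Matrix (Fin 3) (Fin 3) F) (hM : M * M = 1)
    (hdet : M.det = 1) (hne : M ≠ 1) :
    ∃ b : Module.Basis (Fin 3) F (Fin 3 → F), ∀ i, M *ᵥ b i = (dd i : F) • b i := by
  obtain ⟨b, ε, hε, hb⟩ := exists_eigenbasis h2 M hM
  have h11 : (-1 : F) ≠ 1 := by
    intro h
    apply h2
    have : (2 : F) = 1 - (-1) := by ring
    rw [this, h, sub_self]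
  have hmul := mul_toMatrix M b ε hb
  have hQ := det_toMatrix_ne_zero b
  have hprod : ε 0 * ε 1 * ε 2 = 1 := by
    have h1 := congrArg Matrix.det hmul
    rw [Matrix.det_mul, Matrix.det_mul, hdet, one_mul, Matrix.det_diagonal,
      Fin.prod_univ_three] at h1
    have h3 : ((Pi.basisFun F (Fin 3)).toMatrix b).det * (ε 0 * ε 1 * ε 2 - 1) = 0 := by
      rw [mul_sub, ← h1]; ring
    rcases mul_eq_zero.mp h3 with h4 | h4
    · exact absurd h4 hQ
    · exact sub_eq_zero.mp h4
  have hall : ¬ (ε 0 = 1 ∧ ε 1 = 1 ∧ ε 2 = 1) := by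
    rintro ⟨e0, e1, e2⟩
    apply hne
    have hε1 : ε = fun _ => 1 := by
      funext i
      fin_cases i
      · exact e0
      · exact e1
      · exact e2
    rw [hε1] at hmul
    have hd1 : (diagonal (fun _ => (1 : F)) : Matrix (Fin 3) (Fin 3) F) = 1 := by
      rw [← Matrix.diagonal_one]
    rw [hd1, Matrix.mul_one] at hmul
    have h := Module.Basis.toMatrix_mul_toMatrix_flip (Pi.basisFun F (Fin 3)) b
    calc M = M * ((Pi.basisFun F (Fin 3)).toMatrix b * b.toMatrix (Pi.basisFun F (Fin 3))) := by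
          rw [h, Matrix.mul_one]
      _ = 1 := by rw [← Matrix.mul_assoc, hmul, h]
  rcases hε 0 with e0 | e0 <;> rcases hε 1 with e1 | e1 <;> rcases hε 2 with e2 | e2
  · exact absurd ⟨e0, e1, e2⟩ hall
  · exfalso; rw [e0, e1, e2] at hprod; apply h11; linear_combination hprod
  · exfalso; rw [e0, e1, e2] at hprod; apply h11; linear_combination hprod
  · -- (1, -1, -1)
    refine ⟨b.reindex (Equiv.swap 0 2), ?_⟩
    have s0 : (Equiv.swap (0 : Fin 3) 2).symm 0 = 2 := by decide
    have s1 : (Equiv.swap (0 : Fin 3) 2).symm 1 = 1 := by decide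
    have s2 : (Equiv.swap (0 : Fin 3) 2).symm 2 = 0 := by decide
    intro i
    rw [Module.Basis.reindex_apply]
    fin_cases i
    · show M *ᵥ b ((Equiv.swap (0 : Fin 3) 2).symm 0) = (-1 : F) • b ((Equiv.swap (0 : Fin 3) 2).symm 0)
      rw [s0, hb, e2]
    · show M *ᵥ b ((Equiv.swap (0 : Fin 3) 2).symm 1) = (-1 : F) • b ((Equiv.swap (0 : Fin 3) 2).symm 1)
      rw [s1, hb, e1]
    · show M *ᵥ b ((Equiv.swap (0 : Fin 3) 2).symm 2) = (1 : F) • b ((Equiv.swap (0 : Fin 3) 2).symm 2)
      rw [s2, hb, e0]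
  · exfalso; rw [e0, e1, e2] at hprod; apply h11; linear_combination hprod
  · -- (-1, 1, -1)
    refine ⟨b.reindex (Equiv.swap 1 2), ?_⟩
    have s0 : (Equiv.swap (1 : Fin 3) 2).symm 0 = 0 := by decide
    have s1 : (Equiv.swap (1 : Fin 3) 2).symm 1 = 2 := by decide
    have s2 : (Equiv.swap (1 : Fin 3) 2).symm 2 = 1 := by decide
    intro i
    rw [Module.Basis.reindex_apply]
    fin_cases i
    · show M *ᵥ b ((Equiv.swap (1 : Fin 3) 2).symm 0) = (-1 : F) • b ((Equiv.swap (1 : Fin 3) 2).symm 0)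
      rw [s0, hb, e0]
    · show M *ᵥ b ((Equiv.swap (1 : Fin 3) 2).symm 1) = (-1 : F) • b ((Equiv.swap (1 : Fin 3) 2).symm 1)
      rw [s1, hb, e2]
    · show M *ᵥ b ((Equiv.swap (1 : Fin 3) 2).symm 2) = (1 : F) • b ((Equiv.swap (1 : Fin 3) 2).symm 2)
      rw [s2, hb, e1]
  · -- (-1, -1, 1)
    refine ⟨b, ?_⟩
    intro i
    fin_cases i
    · show M *ᵥ b 0 = (-1 : F) • b 0
      rw [hb, e0]
    · show M *ᵥ b 1 = (-1 : F) • b 1
      rw [hb, e1]
    · show M *ᵥ b 2 = (1 : F) • b 2
      rw [hb, e2]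
  · exfalso; rw [e0, e1, e2] at hprod; apply h11; linear_combination hprod

/-- an involution of determinant one is conjugate to the standard one by a matrix of
determinant one -/
theorem exists_conj (h2 : (2 : F) ≠ 0) (M : Matrix (Fin 3) (Fin 3) F) (hM : M * M = 1)
    (hdet : M.det = 1) (hne : M ≠ 1) :
    ∃ P : Matrix (Fin 3) (Fin 3) F, P.det = 1 ∧ M * P = P * diagonal (dd : Fin 3 → F) := by
  obtain ⟨b, hb⟩ := exists_std_eigenbasis h2 M hM hdet hne
  have hmul := mul_toMatrix M b dd hb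
  have hQ := det_toMatrix_ne_zero b
  set Q := (Pi.basisFun F (Fin 3)).toMatrix b with hQdef
  refine ⟨Q * diagonal ![1, 1, Q.det⁻¹], ?_, ?_⟩
  · rw [Matrix.det_mul, Matrix.det_diagonal, Fin.prod_univ_three]
    simp [hQ]
  · rw [← Matrix.mul_assoc, hmul, Matrix.mul_assoc, Matrix.mul_assoc, Matrix.diagonal_mul_diagonal,
      Matrix.diagonal_mul_diagonal]
    congr 2
    funext i
    exact mul_comm _ _


/-! ### the block embedding of `GL(2, F)` -/

/-- block diagonal matrices -/
def blockMat (A : Matrix (Fin 2) (Fin 2) F) (d : F) : Matrix (Fin 3) (Fin 3) F :=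
  !![A 0 0, A 0 1, 0; A 1 0, A 1 1, 0; 0, 0, d]

theorem blockMat_mul (A B : Matrix (Fin 2) (Fin 2) F) (d e : F) :
    blockMat A d * blockMat B e = blockMat (A * B) (d * e) := by
  ext i j
  fin_cases i <;> fin_cases j <;>
    simp [blockMat, Matrix.mul_apply, Fin.sum_univ_three, Fin.sum_univ_two]

theorem blockMat_one : blockMat (1 : Matrix (Fin 2) (Fin 2) F) 1 = 1 := by
  ext i j
  fin_cases i <;> fin_cases j <;> simp [blockMat]

theorem det_blockMat (A : Matrix (Fin 2) (Fin 2) F) (d : F) :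
    (blockMat A d).det = A.det * d := by
  rw [Matrix.det_fin_three, Matrix.det_fin_two]
  simp [blockMat]
  ring

theorem blockMat_apply_22 (A : Matrix (Fin 2) (Fin 2) F) (d : F) : blockMat A d 2 2 = d := rfl

theorem blockMat_inj {A B : Matrix (Fin 2) (Fin 2) F} {d e : F}
    (h : blockMat A d = blockMat B e) : A = B := by
  ext i j
  fin_cases i <;> fin_cases j
  · exact congrFun (congrFun h 0) 0
  · exact congrFun (congrFun h 0) 1
  · exact congrFun (congrFun h 1) 0
  · exact congrFun (congrFun h 1) 1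

/-- the embedding `A ↦ diag(A, (det A)⁻¹)` of `GL(2, F)` into `SL(3, F)` -/
def phi : GL (Fin 2) F →* Matrix.SpecialLinearGroup (Fin 3) F where
  toFun A := ⟨blockMat (A : Matrix (Fin 2) (Fin 2) F)
      (((Matrix.GeneralLinearGroup.det A)⁻¹ : Fˣ) : F), by
    rw [det_blockMat]
    have : (A : Matrix (Fin 2) (Fin 2) F).det = ((Matrix.GeneralLinearGroup.det A : Fˣ) : F) := rfl
    rw [this, ← Units.val_mul, mul_inv_cancel, Units.val_one]⟩
  map_one' := by
    apply Subtype.ext
    show blockMat ((1 : GL (Fin 2) F) : Matrix (Fin 2) (Fin 2) F)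
      (((Matrix.GeneralLinearGroup.det (1 : GL (Fin 2) F))⁻¹ : Fˣ) : F) = 1
    rw [map_one, inv_one, Units.val_one]
    exact blockMat_one
  map_mul' A B := by
    apply Subtype.ext
    show blockMat ((A * B : GL (Fin 2) F) : Matrix (Fin 2) (Fin 2) F)
      (((Matrix.GeneralLinearGroup.det (A * B))⁻¹ : Fˣ) : F) =
      blockMat (A : Matrix (Fin 2) (Fin 2) F) (((Matrix.GeneralLinearGroup.det A)⁻¹ : Fˣ) : F) *
      blockMat (B : Matrix (Fin 2) (Fin 2) F) (((Matrix.GeneralLinearGroup.det B)⁻¹ : Fˣ) : F)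
    rw [blockMat_mul, map_mul, mul_inv, Units.val_mul]
    rfl

theorem phi_coe (A : GL (Fin 2) F) : ((phi A : Matrix.SpecialLinearGroup (Fin 3) F) :
    Matrix (Fin 3) (Fin 3) F) = blockMat (A : Matrix (Fin 2) (Fin 2) F)
      (((Matrix.GeneralLinearGroup.det A)⁻¹ : Fˣ) : F) := rfl

/-- the standard involution of `SL(3, F)` -/
def d0 : Matrix.SpecialLinearGroup (Fin 3) F :=
  ⟨diagonal (dd : Fin 3 → F), by
    rw [Matrix.det_diagonal, Fin.prod_univ_three]
    simp [dd]⟩

theorem d0_coe : ((d0 : Matrix.SpecialLinearGroup (Fin 3) F) : Matrix (Fin 3) (Fin 3) F) =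
    diagonal (dd : Fin 3 → F) := rfl

theorem blockMat_comm_diag (A : Matrix (Fin 2) (Fin 2) F) (d : F) :
    blockMat A d * diagonal (dd : Fin 3 → F) = diagonal (dd : Fin 3 → F) * blockMat A d := by
  ext i j
  rw [Matrix.mul_diagonal, Matrix.diagonal_mul]
  fin_cases i <;> fin_cases j <;> simp [blockMat, dd]

theorem phi_comm_d0 (A : GL (Fin 2) F) : phi A * d0 = d0 * phi A := by
  apply Subtype.ext
  show ((phi A : Matrix.SpecialLinearGroup (Fin 3) F) : Matrix (Fin 3) (Fin 3) F) * _ = _ * _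
  rw [phi_coe, d0_coe]
  exact blockMat_comm_diag _ _

/-- a matrix of determinant one commuting with the standard involution is block diagonal -/
theorem exists_phi_eq (h2 : (2 : F) ≠ 0) (g : Matrix.SpecialLinearGroup (Fin 3) F)
    (hg : (g : Matrix (Fin 3) (Fin 3) F) * diagonal (dd : Fin 3 → F) =
      diagonal (dd : Fin 3 → F) * (g : Matrix (Fin 3) (Fin 3) F)) :
    ∃ A : GL (Fin 2) F, phi A = g := by
  set G : Matrix (Fin 3) (Fin 3) F := (g : Matrix (Fin 3) (Fin 3) F) with hG
  have key : ∀ i j, G i j * dd j = dd i * G i j := by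
    intro i j
    have := congrFun (congrFun hg i) j
    rwa [Matrix.mul_diagonal, Matrix.diagonal_mul] at this
  have hz : ∀ x : F, x * 1 = -1 * x → x = 0 := by
    intro x hx
    have : (2 : F) * x = 0 := by linear_combination hx
    rcases mul_eq_zero.mp this with h | h
    · exact absurd h h2
    · exact h
  have hz' : ∀ x : F, x * -1 = 1 * x → x = 0 := by
    intro x hx
    have : (2 : F) * x = 0 := by linear_combination -hx
    rcases mul_eq_zero.mp this with h | h
    · exact absurd h h2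
    · exact h
  have g02 : G 0 2 = 0 := hz _ (key 0 2)
  have g12 : G 1 2 = 0 := hz _ (key 1 2)
  have g20 : G 2 0 = 0 := hz' _ (key 2 0)
  have g21 : G 2 1 = 0 := hz' _ (key 2 1)
  set A : Matrix (Fin 2) (Fin 2) F := !![G 0 0, G 0 1; G 1 0, G 1 1] with hA
  have hGA : G = blockMat A (G 2 2) := by
    ext i j
    fin_cases i <;> fin_cases j <;> simp [blockMat, hA, g02, g12, g20, g21]
  have hdet : A.det * G 2 2 = 1 := by
    rw [← det_blockMat, ← hGA]
    exact g.2
  have hA0 : A.det ≠ 0 := left_ne_zero_of_mul_eq_one hdet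
  refine ⟨Matrix.GeneralLinearGroup.mkOfDetNeZero A hA0, ?_⟩
  apply Subtype.ext
  rw [phi_coe]
  show blockMat A _ = G
  rw [hGA]
  congr 1
  have h1 : ((Matrix.GeneralLinearGroup.det (Matrix.GeneralLinearGroup.mkOfDetNeZero A hA0) : Fˣ) : F)
      = A.det := rfl
  rw [Units.val_inv_eq_inv_val, h1]
  exact (eq_inv_of_mul_eq_one_right hdet).symm

/-! ### the projective group -/

/-- the projection onto `PSL(3, F)` -/
def proj : Matrix.SpecialLinearGroup (Fin 3) F →* Matrix.ProjectiveSpecialLinearGroup (Fin 3) F :=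
  QuotientGroup.mk' (Subgroup.center (Matrix.SpecialLinearGroup (Fin 3) F))

theorem proj_surjective : Function.Surjective (proj (F := F)) :=
  QuotientGroup.mk'_surjective _

theorem proj_eq_iff (a b : Matrix.SpecialLinearGroup (Fin 3) F) :
    proj a = proj b ↔ ∃ r : F, r ^ 3 = 1 ∧
      (b : Matrix (Fin 3) (Fin 3) F) = r • (a : Matrix (Fin 3) (Fin 3) F) := by
  unfold proj
  rw [QuotientGroup.mk'_apply, QuotientGroup.mk'_apply, QuotientGroup.eq,
    Matrix.SpecialLinearGroup.mem_center_iff]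
  simp only [Fintype.card_fin]
  constructor
  · rintro ⟨r, hr, h⟩
    refine ⟨r, hr, ?_⟩
    have h1 : (a : Matrix (Fin 3) (Fin 3) F) * (scalar (Fin 3) r) = b := by
      rw [h]
      show (a : Matrix (Fin 3) (Fin 3) F) * ((a⁻¹ * b : Matrix.SpecialLinearGroup (Fin 3) F) :
        Matrix (Fin 3) (Fin 3) F) = b
      rw [← Matrix.SpecialLinearGroup.coe_mul, mul_inv_cancel_left]
    rw [← h1, Matrix.scalar_apply, ← Matrix.smul_eq_mul_diagonal]
  · rintro ⟨r, hr, h⟩
    refine ⟨r, hr, ?_⟩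
    have h1 : ((a⁻¹ * b : Matrix.SpecialLinearGroup (Fin 3) F) : Matrix (Fin 3) (Fin 3) F) =
        ((a⁻¹ : Matrix.SpecialLinearGroup (Fin 3) F) : Matrix (Fin 3) (Fin 3) F) *
          (r • (a : Matrix (Fin 3) (Fin 3) F)) := by
      rw [Matrix.SpecialLinearGroup.coe_mul, h]
    rw [h1, Matrix.mul_smul, ← Matrix.SpecialLinearGroup.coe_mul, inv_mul_cancel,
      Matrix.SpecialLinearGroup.coe_one, Matrix.scalar_apply, Matrix.smul_one_eq_diagonal]

/-- the standard involution of `PSL(3, F)` -/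
def t0 : Matrix.ProjectiveSpecialLinearGroup (Fin 3) F := proj d0

/-- the map `GL(2, F) → PSL(3, F)` -/
def psi : GL (Fin 2) F →* Matrix.ProjectiveSpecialLinearGroup (Fin 3) F := proj.comp phi

theorem trace_dd : (diagonal (dd : Fin 3 → F)).trace = -1 := by
  rw [Matrix.trace_diagonal, Fin.sum_univ_three]
  simp [dd]

theorem range_psi (h2 : (2 : F) ≠ 0) :
    (psi (F := F)).range = Subgroup.centralizer {t0} := by
  ext c
  rw [Subgroup.mem_centralizer_iff]
  constructor
  · rintro ⟨A, rfl⟩ h hh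
    rw [Set.mem_singleton_iff] at hh
    subst hh
    show proj d0 * proj (phi A) = proj (phi A) * proj d0
    rw [← map_mul, ← map_mul, phi_comm_d0]
  · intro hc
    obtain ⟨g, rfl⟩ := proj_surjective c
    have h1 : proj (d0 * g) = proj (g * d0) := by
      rw [map_mul, map_mul]; exact hc _ rfl
    obtain ⟨r, -, hr⟩ := (proj_eq_iff _ _).mp h1
    rw [Matrix.SpecialLinearGroup.coe_mul, Matrix.SpecialLinearGroup.coe_mul, d0_coe] at hr
    -- taking traces of `g⁻¹ (g d) = r g⁻¹ (d g)`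
    have hinv : ((g⁻¹ : Matrix.SpecialLinearGroup (Fin 3) F) : Matrix (Fin 3) (Fin 3) F) *
        (g : Matrix (Fin 3) (Fin 3) F) = 1 := by
      rw [← Matrix.SpecialLinearGroup.coe_mul, inv_mul_cancel, Matrix.SpecialLinearGroup.coe_one]
    have htr : (diagonal (dd : Fin 3 → F)).trace = r * (diagonal (dd : Fin 3 → F)).trace := by
      have e1 : ((g⁻¹ : Matrix.SpecialLinearGroup (Fin 3) F) : Matrix (Fin 3) (Fin 3) F) *
          ((g : Matrix (Fin 3) (Fin 3) F) * diagonal (dd : Fin 3 → F)) =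
          diagonal (dd : Fin 3 → F) := by
        rw [← Matrix.mul_assoc, hinv, Matrix.one_mul]
      have e2 := congrArg Matrix.trace e1
      have hinv' : (g : Matrix (Fin 3) (Fin 3) F) *
          ((g⁻¹ : Matrix.SpecialLinearGroup (Fin 3) F) : Matrix (Fin 3) (Fin 3) F) = 1 := by
        rw [← Matrix.SpecialLinearGroup.coe_mul, mul_inv_cancel, Matrix.SpecialLinearGroup.coe_one]
      rw [hr, Matrix.mul_smul, Matrix.trace_smul, smul_eq_mul, ← Matrix.mul_assoc,
        Matrix.trace_mul_comm, ← Matrix.mul_assoc, hinv', Matrix.one_mul] at e2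
      exact e2.symm
    rw [trace_dd] at htr
    have hr1 : r = 1 := by linear_combination htr
    rw [hr1, one_smul] at hr
    obtain ⟨A, hA⟩ := exists_phi_eq h2 g hr
    exact ⟨A, by rw [← hA]; rfl⟩

/-- the kernel of `psi` consists of the scalar matrices of order dividing `3` -/
theorem mem_ker_psi (A : GL (Fin 2) F) :
    A ∈ (psi (F := F)).ker ↔ ∃ u : Fˣ, u ^ 3 = 1 ∧ A = Matrix.GeneralLinearGroup.scalar (Fin 2) u := by
  rw [MonoidHom.mem_ker]
  show proj (phi A) = 1 ↔ _
  rw [← map_one proj, eq_comm, proj_eq_iff]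
  constructor
  · rintro ⟨r, hr, h⟩
    rw [phi_coe, Matrix.SpecialLinearGroup.coe_one] at h
    have hr0 : r ≠ 0 := by
      rintro rfl
      simp at hr
    refine ⟨Units.mk0 r hr0, by ext; simpa using hr, ?_⟩
    apply Units.ext
    rw [Matrix.GeneralLinearGroup.coe_scalar]
    ext i j
    fin_cases i <;> fin_cases j
    · simpa [blockMat] using congrFun (congrFun h 0) 0
    · simpa [blockMat] using congrFun (congrFun h 0) 1
    · simpa [blockMat] using congrFun (congrFun h 1) 0
    · simpa [blockMat] using congrFun (congrFun h 1) 1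
  · rintro ⟨u, hu, rfl⟩
    refine ⟨(u : F), by rw [← Units.val_pow_eq_pow_val, hu, Units.val_one], ?_⟩
    rw [phi_coe, Matrix.SpecialLinearGroup.coe_one, Matrix.GeneralLinearGroup.det_scalar,
      Matrix.GeneralLinearGroup.coe_scalar]
    have hinv : ((u ^ Fintype.card (Fin 2))⁻¹ : Fˣ) = u := by
      rw [Fintype.card_fin, inv_eq_iff_eq_inv, eq_inv_iff_mul_eq_one, ← pow_succ, hu]
    rw [hinv]
    ext i j
    fin_cases i <;> fin_cases j <;> simp [blockMat]

theorem ker_psi_le_center : (psi (F := F)).ker ≤ Subgroup.center (GL (Fin 2) F) := by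
  intro A hA
  obtain ⟨u, -, rfl⟩ := (mem_ker_psi A).mp hA
  rw [Matrix.GeneralLinearGroup.center_eq_range_scalar]
  exact ⟨u, rfl⟩

theorem ker_psi_eq_map : (psi (F := F)).ker =
    (powMonoidHom 3 : Fˣ →* Fˣ).ker.map (Matrix.GeneralLinearGroup.scalar (Fin 2)) := by
  ext A
  rw [mem_ker_psi, Subgroup.mem_map]
  constructor
  · rintro ⟨u, hu, rfl⟩
    exact ⟨u, by rw [MonoidHom.mem_ker]; exact hu, rfl⟩
  · rintro ⟨u, hu, rfl⟩
    exact ⟨u, by rw [MonoidHom.mem_ker] at hu; exact hu, rfl⟩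

theorem scalar_injective : Function.Injective (Matrix.GeneralLinearGroup.scalar (Fin 2) (R := F)) := by
  intro u v h
  have h1 := congrArg (fun A : GL (Fin 2) F => (A : Matrix (Fin 2) (Fin 2) F) 0 0) h
  simp only [Matrix.GeneralLinearGroup.coe_scalar] at h1
  apply Units.ext
  simpa using h1

theorem card_ker_psi [Fintype F] :
    Nat.card (psi (F := F)).ker = Nat.gcd (Fintype.card F - 1) 3 := by
  rw [ker_psi_eq_map, Subgroup.card_map_of_injective scalar_injective,
    IsCyclic.card_powMonoidHom_ker, Nat.card_units, Nat.card_eq_fintype_card]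

/-! ### conjugacy of involutions -/

/-- every involution of `PSL(3, F)` is conjugate to the standard one -/
theorem exists_conj_t0 (h2 : (2 : F) ≠ 0) (t : Matrix.ProjectiveSpecialLinearGroup (Fin 3) F)
    (ht : orderOf t = 2) : ∃ c, t = c * t0 * c⁻¹ := by
  obtain ⟨x, rfl⟩ := proj_surjective t
  have ht1 : proj x ≠ 1 := by
    intro h
    rw [h, orderOf_one] at ht
    omega
  have ht2 : proj (x * x) = proj 1 := by
    rw [map_mul, map_one, ← pow_two, ← ht, pow_orderOf_eq_one]
  obtain ⟨r, hr, hxx⟩ := (proj_eq_iff _ _).mp ht2.symm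
  rw [Matrix.SpecialLinearGroup.coe_one, Matrix.SpecialLinearGroup.coe_mul] at hxx
  -- the lift `y = r x` is an involution
  have hydet : (r • (x : Matrix (Fin 3) (Fin 3) F)).det = 1 := by
    rw [Matrix.det_smul, Fintype.card_fin, hr, one_mul]
    exact x.2
  set y : Matrix.SpecialLinearGroup (Fin 3) F := ⟨r • (x : Matrix (Fin 3) (Fin 3) F), hydet⟩ with hy
  have hycoe : (y : Matrix (Fin 3) (Fin 3) F) = r • (x : Matrix (Fin 3) (Fin 3) F) := rfl
  have hpy : proj x = proj y := (proj_eq_iff _ _).mpr ⟨r, hr, hycoe⟩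
  have hyy : (y : Matrix (Fin 3) (Fin 3) F) * (y : Matrix (Fin 3) (Fin 3) F) = 1 := by
    rw [hycoe, Matrix.smul_mul, Matrix.mul_smul, smul_smul, hxx, smul_smul,
      show r * r * r = r ^ 3 by ring, hr, one_smul]
  have hy1 : (y : Matrix (Fin 3) (Fin 3) F) ≠ 1 := by
    intro h
    apply ht1
    rw [hpy]
    have : y = 1 := Subtype.ext h
    rw [this, map_one]
  obtain ⟨P, hP, hMP⟩ := exists_conj h2 (y : Matrix (Fin 3) (Fin 3) F) hyy y.2 hy1
  set p : Matrix.SpecialLinearGroup (Fin 3) F := ⟨P, hP⟩ with hp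
  have hyp : y * p = p * d0 := by
    apply Subtype.ext
    rw [Matrix.SpecialLinearGroup.coe_mul, Matrix.SpecialLinearGroup.coe_mul, d0_coe]
    exact hMP
  refine ⟨proj p, ?_⟩
  rw [hpy, t0, ← map_mul, ← hyp, ← map_inv, ← map_mul, mul_inv_cancel_right]

/-! ### the centralizer -/

/-- conjugate elements have isomorphic centralizers -/
def centralizerConjEquiv {G : Type*} [Group G] (c t : G) :
    ↥(Subgroup.centralizer ({c * t * c⁻¹} : Set G)) ≃* ↥(Subgroup.centralizer ({t} : Set G)) where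
  toFun x := ⟨c⁻¹ * x * c, by
    have hx := x.2
    rw [Subgroup.mem_centralizer_iff] at hx ⊢
    intro h hh
    rw [Set.mem_singleton_iff] at hh
    subst hh
    have := hx _ rfl
    calc h * (c⁻¹ * ↑x * c) = c⁻¹ * ((c * h * c⁻¹) * ↑x) * c := by group
      _ = c⁻¹ * (↑x * (c * h * c⁻¹)) * c := by rw [this]
      _ = c⁻¹ * ↑x * c * h := by group⟩
  invFun y := ⟨c * y * c⁻¹, by
    have hy := y.2
    rw [Subgroup.mem_centralizer_iff] at hy ⊢
    intro h hh
    rw [Set.mem_singleton_iff] at hh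
    subst hh
    have := hy _ rfl
    calc c * t * c⁻¹ * (c * ↑y * c⁻¹) = c * (t * ↑y) * c⁻¹ := by group
      _ = c * (↑y * t) * c⁻¹ := by rw [this]
      _ = c * ↑y * c⁻¹ * (c * t * c⁻¹) := by group⟩
  left_inv x := by
    apply Subtype.ext
    show c * (c⁻¹ * ↑x * c) * c⁻¹ = ↑x
    group
  right_inv y := by
    apply Subtype.ext
    show c⁻¹ * (c * ↑y * c⁻¹) * c = ↑y
    group
  map_mul' x y := by
    apply Subtype.ext
    show c⁻¹ * (↑x * ↑y) * c = (c⁻¹ * ↑x * c) * (c⁻¹ * ↑y * c)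
    group

theorem two_ne_zero_of_odd [Fintype F] (hF : Odd (Fintype.card F)) : (2 : F) ≠ 0 := by
  intro h
  have h1 : ringChar F = 2 := CharP.ringChar_of_prime_eq_zero Nat.prime_two h
  have h3 := FiniteField.even_card_of_char_two h1
  rcases hF with ⟨k, hk⟩
  omega

/-- **The centralizer of an involution of `PSL(3, F)`.** -/
theorem main [Fintype F] (hF : Odd (Fintype.card F))
    (t : Matrix.ProjectiveSpecialLinearGroup (Fin 3) F) (ht : orderOf t = 2) :
    ∃ (Z : Subgroup (GL (Fin 2) F)) (_ : Z.Normal), Z ≤ Subgroup.center (GL (Fin 2) F) ∧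
      Nat.card Z = Nat.gcd (Fintype.card F - 1) 3 ∧
      Nonempty (↥(Subgroup.centralizer ({t} : Set (Matrix.ProjectiveSpecialLinearGroup (Fin 3) F)))
        ≃* GL (Fin 2) F ⧸ Z) := by
  have h2 := two_ne_zero_of_odd hF
  obtain ⟨c, rfl⟩ := exists_conj_t0 h2 t ht
  refine ⟨(psi (F := F)).ker, MonoidHom.normal_ker _, ker_psi_le_center, card_ker_psi, ⟨?_⟩⟩
  exact (centralizerConjEquiv c t0).trans
    ((MulEquiv.subgroupCongr (range_psi h2).symm).trans
      (QuotientGroup.quotientKerEquivRange (psi (F := F))).symm)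

end Cfsg.Agent.Lib.Helper86_PSL3Inv
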