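/-
POM sub-market (S4613 family PΩ⁻, architect helper86), package BUT: `B = U T` for `Ω⁻`, given that block unitriangular
isometries lie in `Ω` (`but_of`).  helper86 (parallel second seat).
-/
import Mathlib
import Cfsg.Agent.Lib.Helper86_PomDefs

set_option autoImplicit false
set_option linter.unusedSectionVars false
set_option linter.unusedVariables false

namespace Cfsg.Agent.Lib.Helper86_Pom_BUT

open Matrix Cfsg Cfsg.Agent.Lib.Helper68_MatGrp Cfsg.Agent.Lib.Helper22_BlkGrp Cfsg.Agent.Lib.Helper22_StOmDefs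
open Cfsg.Agent.Lib.Helper86_PomDefs Cfsg.Agent.Lib.Helper68_AutU
open Cfsg.Agent.Lib.Helper5_OmegaCenter (eichO eichMat)
open Cfsg.Agent.Lib.Helper84_StOm_DIAGHOM (Dm Dm_apply Dm_one Dm_mul dOO φO_dOO)

variable {m : ℕ} {F : Type*} [Field F] [Fintype F] {A B : F} [Fact (Aniso A B)]

theorem Dm_Dm (M : Matrix (I m) (I m) F) : Dm (Dm M) = Dm M := by
  ext x y
  rw [Dm_apply, Dm_apply]
  split_ifs <;> rfl

theorem Dm_ut (M : Matrix (I m) (I m) F) : ∀ a b, ht m b < ht m a → Dm M a b = 0 := by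
  intro a b hab
  rw [Dm_apply, if_neg (by omega)]

/-- BUT (M).  `B = U T`, given that block unitriangular isometries lie in `Ω`. -/
theorem but_of (hU : ∀ u : OO m F A B, IsBU (φO m F A B u) → u ∈ Cfsg.Omega F (⇑(Qm m F A B))) :
    ∀ b ∈ Boo m F A B, ∃ u ∈ UUb m F A B, ∃ t ∈ Too m F A B, b = u * t := by
  intro b hb
  have hbO : b.1 ∈ BO m F A B := hb
  set d : OO m F A B := dOO ⟨b.1, hbO⟩ with hd
  have hd1 : φO m F A B d = Dm (φO m F A B b.1) := rfl
  have hd2 : φO m F A B d⁻¹ = Dm (φO m F A B b.1⁻¹) := rfl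
  set u : OO m F A B := b.1 * d⁻¹ with hu
  have huBU : IsBU (φO m F A B u) := by
    rw [isBU_iff]
    have hdi : ∀ a c, ht m c < ht m a → φO m F A B d⁻¹ a c = 0 := by
      rw [hd2]; exact Dm_ut _
    constructor
    · intro a c hac
      rw [hu, map_mul, Matrix.mul_apply]
      apply Finset.sum_eq_zero
      intro z _
      by_cases hz : ht m z < ht m a
      · rw [mem_BO.1 hbO a z hz, zero_mul]
      · rw [hdi z c (by omega), mul_zero]
    · rw [hu, map_mul, Dm_mul (mem_BO.1 hbO) hdi, hd2, Dm_Dm, ← hd2, ← hd1, ← map_mul, mul_inv_cancel, map_one]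
  have huΩ : u ∈ Cfsg.Omega F (⇑(Qm m F A B)) := hU u huBU
  have hdΩ : d ∈ Cfsg.Omega F (⇑(Qm m F A B)) := by
    have e : d = u⁻¹ * b.1 := by rw [hu]; group
    rw [e]
    exact Subgroup.mul_mem _ (Subgroup.inv_mem _ huΩ) b.2
  refine ⟨⟨u, huΩ⟩, huBU, ⟨d, hdΩ⟩, ?_, ?_⟩
  · rw [mem_Too]
    intro a c hac
    show φO m F A B d a c = 0
    rw [hd1, Dm_apply, if_neg hac]
  · apply Subtype.ext
    show b.1 = u * d
    rw [hu, inv_mul_cancel_right]

end Cfsg.Agent.Lib.Helper86_Pom_BUT
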