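/-
POM sub-market (S4613 family PΩ⁻, architect helper86), package CONJV: block version of `Helper68_AutU.conj_vanish`
(`conj_vanish_blk`).  helper86 (parallel second seat).
-/
import Mathlib
import Cfsg.Agent.Lib.Helper86_PomDefs

set_option autoImplicit false
set_option linter.unusedSectionVars false
set_option linter.unusedVariables false

namespace Cfsg.Agent.Lib.Helper86_Pom_CONJV

open Matrix Cfsg Cfsg.Agent.Lib.Helper68_MatGrp Cfsg.Agent.Lib.Helper22_BlkGrp Cfsg.Agent.Lib.Helper22_StOmDefs
open Cfsg.Agent.Lib.Helper86_PomDefs Cfsg.Agent.Lib.Helper68_AutU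
open Cfsg.Agent.Lib.Helper5_OmegaCenter (eichO eichMat)

section generic

variable {ι : Type*} [Fintype ι] [DecidableEq ι] {K : Type*} [Field K]
variable {G : Type*} [Group G] (ψ : G →* Matrix ι ι K) (h : ι → ℕ)

/-- CONJV (S).  Block version of `Helper68_AutU.conj_vanish`: conjugating a block unitriangular `x` by a block
triangular `u` preserves the vanishing on a convex inversion set. -/
theorem conj_vanish_blk {u x : G} (hu : u ∈ UT ψ h) (hx : x ∈ UT ψ h)
    (hx1 : ∀ c d, h c = h d → ψ x c d = if c = d then 1 else 0) (σ : Equiv.Perm ι)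
    (hconv : InvConvex h σ) (hxv : ∀ a b, IsInv h σ a b → ψ x a b = 0) :
    ∀ a b, IsInv h σ a b → ψ (u * x * u⁻¹) a b = 0 := by
  intro a b hab
  have hne : a ≠ b := fun e => by rw [e] at hab; exact lt_irrefl _ hab.1
  have hui : u⁻¹ ∈ UT ψ h := (UT ψ h).inv_mem hu
  have e1 : ψ (u * x * u⁻¹) = 1 + ψ u * (ψ x - 1) * ψ u⁻¹ := by
    rw [map_mul, map_mul, Matrix.mul_sub, Matrix.sub_mul, Matrix.mul_one,
      Cfsg.Agent.Lib.Helper68_MatGrp.map_mul_inv]
    abel
  rw [e1, Matrix.add_apply, Matrix.one_apply_ne hne, zero_add, Matrix.mul_apply]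
  apply Finset.sum_eq_zero
  intro d _
  by_cases hd : h b < h d
  · rw [(mem_UT ψ h).1 hui d b hd, mul_zero]
  · push Not at hd
    rw [Matrix.mul_apply]
    have : ∑ c, ψ u a c * (ψ x - 1) c d = 0 := by
      apply Finset.sum_eq_zero
      intro c _
      by_cases hc : h c < h a
      · rw [(mem_UT ψ h).1 hu a c hc, zero_mul]
      · push Not at hc
        have hN : (ψ x - 1) c d = 0 := by
          rw [Matrix.sub_apply]
          rcases lt_trichotomy (h c) (h d) with h' | h' | h'
          · have hcd : c ≠ d := fun e => by rw [e] at h'; exact lt_irrefl _ h'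
            rw [hxv c d (hconv a b hab c d hc h' hd), Matrix.one_apply_ne hcd, sub_zero]
          · rw [hx1 c d h', Matrix.one_apply, sub_self]
          · have hcd : c ≠ d := fun e => by rw [e] at h'; exact lt_irrefl _ h'
            rw [(mem_UT ψ h).1 hx c d h', Matrix.one_apply_ne hcd, sub_zero]
        rw [hN, mul_zero]
    rw [this, zero_mul]

end generic

end Cfsg.Agent.Lib.Helper86_Pom_CONJV
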