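/-
POM sub-market (S4613 family PΩ⁻, architect helper86), package EICHSTEP: the induction step of "block unitriangular
isometries of the minus type form lie in Ω" (`eich_step`).  helper86.
-/
import Mathlib
import Cfsg.Agent.Lib.Helper86_PomDefs

set_option autoImplicit false
set_option linter.unusedSectionVars false
set_option linter.unusedVariables false

namespace Cfsg.Agent.Lib.Helper86_Pom_EICHSTEP

open Matrix Cfsg Cfsg.Agent.Lib.Helper68_MatGrp Cfsg.Agent.Lib.Helper22_BlkGrp Cfsg.Agent.Lib.Helper22_StOmDefs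
open Cfsg.Agent.Lib.Helper86_PomDefs Cfsg.Agent.Lib.Helper68_AutU
open Cfsg.Agent.Lib.Helper5_OmegaCenter (eichO eichMat)
open Cfsg.Agent.Lib.Helper44_Eichler (eich)

/-- abstract: `E(e, -y)` maps `f + c e - y` (singular) back to `f` -/
theorem eich_neg_fix {ι : Type} [Fintype ι] [DecidableEq ι] {F : Type*} [Field F]
    (Q : QuadraticForm F (ι → F)) {e f y : ι → F} (he : Q e = 0) (hf : Q f = 0)
    (hef : QuadraticMap.polar (⇑Q) e f = 1) (hye : QuadraticMap.polar (⇑Q) e y = 0)
    (hyf : QuadraticMap.polar (⇑Q) f y = 0) (c : F) (hw : Q (f + c • e - y) = 0) :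
    eich Q e (-y) (f + c • e - y) = f := by
  have hee : QuadraticMap.polar (⇑Q) e e = 0 := by
    rw [Cfsg.Agent.Lib.Helper44_Refl.polar_self, he, mul_zero]
  have hyy : QuadraticMap.polar (⇑Q) y y = 2 * Q y := Cfsg.Agent.Lib.Helper44_Refl.polar_self Q y
  have hfe : QuadraticMap.polar (⇑Q) f e = 1 := by rw [QuadraticMap.polar_comm]; exact hef
  have hey : QuadraticMap.polar (⇑Q) y e = 0 := by rw [QuadraticMap.polar_comm]; exact hye
  have hfy : QuadraticMap.polar (⇑Q) y f = 0 := by rw [QuadraticMap.polar_comm]; exact hyf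
  -- `c = - Q y`
  have h1 : Q (f + c • e - y) = Q y + c := by
    have e1 : Q (f + c • e) = c := by
      have := QuadraticMap.map_add (⇑Q) f (c • e)
      rw [QuadraticMap.map_smul, he, hf, QuadraticMap.polar_smul_right, hfe] at this
      rw [this]
      simp only [smul_eq_mul]
      ring
    rw [Cfsg.Agent.Lib.Helper14_OmegaSimple.map_sub', e1,
      QuadraticMap.polar_add_left, QuadraticMap.polar_smul_left, hyf, hye]
    simp only [smul_eq_mul]
    ring
  have hc : c = - Q y := by
    rw [h1] at hw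
    linear_combination hw
  have h2 : QuadraticMap.polar (⇑Q) (f + c • e - y) e = 1 := by
    rw [QuadraticMap.polar_sub_left, QuadraticMap.polar_add_left, QuadraticMap.polar_smul_left, hfe, hee, hey]
    simp
  have h3 : QuadraticMap.polar (⇑Q) (f + c • e - y) (-y) = 2 * Q y := by
    rw [QuadraticMap.polar_neg_right, QuadraticMap.polar_sub_left, QuadraticMap.polar_add_left,
      QuadraticMap.polar_smul_left, hyf, hye, hyy]
    simp
  unfold eich
  rw [h2, h3, QuadraticMap.map_neg, hc]
  funext x
  simp only [Pi.add_apply, Pi.sub_apply, Pi.smul_apply, Pi.neg_apply, smul_eq_mul]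
  ring


variable {m : ℕ} {F : Type*} [Field F] [Fintype F] {A B : F} [Fact (Aniso A B)]

/-- a column of a matrix is standard iff the matrix fixes the basis vector -/
theorem col_std_iff (M : Matrix (I m) (I m) F) (b : I m) :
    (∀ x, M x b = if x = b then 1 else 0) ↔ M *ᵥ Pi.single b 1 = Pi.single b 1 := by
  rw [Cfsg.Agent.Lib.Helper22_StOmDefs.mulVec_single_one]
  constructor
  · intro h
    funext x
    rw [h x, Pi.single_apply]
  · intro h x
    rw [congrFun h x, Pi.single_apply]

/-- an index of height `< k` (`k < m`) is an `e_i`, `i < k` -/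
theorem exists_ie_of_ht_lt {k : ℕ} (hk : k < m) {x : I m} (hx : ht m x < k) :
    ∃ i : Fin m, i.val < k ∧ x = ie i := by
  rcases index_cases x with ⟨i, rfl⟩ | ⟨i, rfl⟩ | rfl | rfl
  · exact ⟨i, by rw [ht_ie] at hx; exact hx, rfl⟩
  · rw [ht_jf] at hx; have := i.2; omega
  · rw [ht_d0] at hx; omega
  · rw [ht_d1] at hx; omega

theorem eich_step (k : Fin m) (u : OO m F A B) (hu : IsBU (φO m F A B u))
    (hfix : FixLv k.val (φO m F A B u)) :
    ∃ y : I m → F, (∀ x, (ht m x ≤ k.val ∨ 2 * m - k.val ≤ ht m x) → y x = 0) ∧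
      FixLv (k.val + 1) (eichMat (Qm m F A B) (Pi.single (ie k) 1) (-y) * φO m F A B u) := by
  have hkm : k.val < m := k.2
  set M := φO m F A B u with hM
  have hcolE : ∀ i : Fin m, i.val < k.val → M *ᵥ Pi.single (ie i) 1 = Pi.single (ie i) 1 :=
    fun i hi => (col_std_iff M (ie i)).1 (hfix i hi).1
  have hcolF : ∀ i : Fin m, i.val < k.val → M *ᵥ Pi.single (jf i) 1 = Pi.single (jf i) 1 :=
    fun i hi => (col_std_iff M (jf i)).1 (hfix i hi).2
  -- the rows `e_i`, `i < k`, are standard
  have L1 : ∀ i : Fin m, i.val < k.val → ∀ b, M (ie i) b = if ie i = b then 1 else 0 := by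
    intro i hi b
    have h1 := φO_polar u (Pi.single b 1) (Pi.single (jf i) 1)
    rw [← hM, hcolF i hi, polar_single_np A B _ (not_isPl_jf i), polar_single_np A B _ (not_isPl_jf i),
      one_mul, one_mul, op_jf, Cfsg.Agent.Lib.Helper22_StOmDefs.mulVec_single_one] at h1
    have h1' : M (ie i) b = (Pi.single b 1 : I m → F) (ie i) := h1
    rw [h1', Pi.single_apply]
  -- the column `e_k` is standard
  have hcolk : M *ᵥ Pi.single (ie k) 1 = Pi.single (ie k) 1 := by
    rw [← col_std_iff]
    intro x
    rcases lt_trichotomy (ht m x) k.val with h | h | h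
    · obtain ⟨i, hi, rfl⟩ := exists_ie_of_ht_lt hkm h
      rw [L1 i hi]
    · have : ht m x = ht m (ie k) := by rw [ht_ie]; exact h
      exact hu.2 x (ie k) this
    · have hne : x ≠ ie k := fun e => by rw [e, ht_ie] at h; exact lt_irrefl _ h
      rw [if_neg hne]
      exact hu.1 x (ie k) (by rw [ht_ie]; exact h)
  -- the column `f_k`
  set w : I m → F := M *ᵥ Pi.single (jf k) 1 with hw
  have hwx : ∀ x, w x = M x (jf k) := fun x => by rw [hw, Cfsg.Agent.Lib.Helper22_StOmDefs.mulVec_single_one]
  set y : I m → F := fun x => if k.val < ht m x ∧ ht m x < 2 * m - k.val then - w x else 0 with hy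
  have hy0 : ∀ x, (ht m x ≤ k.val ∨ 2 * m - k.val ≤ ht m x) → y x = 0 := by
    intro x hx
    show (if k.val < ht m x ∧ ht m x < 2 * m - k.val then - w x else 0) = 0
    rw [if_neg]
    omega
  have hwdec : w = Pi.single (jf k) 1 + w (ie k) • Pi.single (ie k) 1 - y := by
    funext x
    rw [Pi.sub_apply, Pi.add_apply, Pi.smul_apply, smul_eq_mul]
    by_cases h1 : k.val < ht m x ∧ ht m x < 2 * m - k.val
    · have e1 : y x = - w x := by
        show (if k.val < ht m x ∧ ht m x < 2 * m - k.val then - w x else 0) = - w x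
        rw [if_pos h1]
      have hne1 : x ≠ jf k := fun e => by rw [e, ht_jf] at h1; omega
      have hne2 : x ≠ ie k := fun e => by rw [e, ht_ie] at h1; omega
      rw [e1, Pi.single_eq_of_ne hne1, Pi.single_eq_of_ne hne2]
      ring
    · have e1 : y x = 0 := hy0 x (by omega)
      rw [e1, sub_zero]
      rcases lt_trichotomy (ht m x) k.val with h | h | h
      · obtain ⟨i, hi, rfl⟩ := exists_ie_of_ht_lt hkm h
        have hik : i ≠ k := fun e => by rw [e] at hi; exact lt_irrefl _ hi
        rw [hwx, L1 i hi, if_neg (ie_ne_jf i k), Pi.single_eq_of_ne (ie_ne_jf i k),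
          Pi.single_eq_of_ne (fun e => hik (ie_injective e))]
        ring
      · have hx : x = ie k := (eq_of_ht_eq (a := ie k) (b := x) (by rw [ht_ie]; exact h.symm)
          (not_isPl_ie k)).symm
        rw [hx, Pi.single_eq_of_ne (ie_ne_jf k k), Pi.single_eq_same]
        ring
      · have h2 : 2 * m - k.val ≤ ht m x := by omega
        rcases lt_or_eq_of_le h2 with h3 | h3
        · have hne1 : x ≠ jf k := fun e => by rw [e, ht_jf] at h3; exact lt_irrefl _ h3
          have hne2 : x ≠ ie k := fun e => by rw [e, ht_ie] at h; exact lt_irrefl _ h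
          rw [hwx, hu.1 x (jf k) (by rw [ht_jf]; exact h3), Pi.single_eq_of_ne hne1,
            Pi.single_eq_of_ne hne2]
          ring
        · have hx : x = jf k := (eq_of_ht_eq (a := jf k) (b := x) (by rw [ht_jf]; exact h3)
            (not_isPl_jf k)).symm
          rw [hx, hwx, hu.2 (jf k) (jf k) rfl, if_pos rfl, Pi.single_eq_same,
            Pi.single_eq_of_ne (ie_ne_jf k k).symm]
          ring
  -- orthogonality of `y`
  have hQe : Qm m F A B (Pi.single (ie k) 1) = 0 := Qm_single_np A B (not_isPl_ie k) 1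
  have hQf : Qm m F A B (Pi.single (jf k) 1) = 0 := Qm_single_np A B (not_isPl_jf k) 1
  have hef : QuadraticMap.polar (⇑(Qm m F A B)) (Pi.single (ie k) 1) (Pi.single (jf k) 1) = 1 := by
    rw [polar_single_np A B _ (not_isPl_jf k), one_mul, op_jf, Pi.single_eq_same]
  have hye : QuadraticMap.polar (⇑(Qm m F A B)) (Pi.single (ie k) 1) y = 0 := by
    rw [QuadraticMap.polar_comm, polar_single_np A B y (not_isPl_ie k), one_mul, op_ie]
    exact hy0 _ (Or.inr (by rw [ht_jf]))
  have hyf : QuadraticMap.polar (⇑(Qm m F A B)) (Pi.single (jf k) 1) y = 0 := by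
    rw [QuadraticMap.polar_comm, polar_single_np A B y (not_isPl_jf k), one_mul, op_jf]
    exact hy0 _ (Or.inl (by rw [ht_ie]))
  have hQw : Qm m F A B (Pi.single (jf k) 1 + w (ie k) • Pi.single (ie k) 1 - y) = 0 := by
    rw [← hwdec, hw, φO_isom u, hQf]
  have hfin := eich_neg_fix (Qm m F A B) hQe hQf hef hye hyf (w (ie k)) hQw
  rw [← hwdec] at hfin
  refine ⟨y, hy0, ?_⟩
  intro i hi
  have hnye : ∀ v : I m → F, QuadraticMap.polar (⇑(Qm m F A B)) v (-y) = - QuadraticMap.polar (⇑(Qm m F A B)) v y :=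
    fun v => QuadraticMap.polar_neg_right _ _ _
  constructor
  · -- column `e_i`, `i ≤ k`
    rw [col_std_iff, ← Matrix.mulVec_mulVec]
    have h1 : M *ᵥ Pi.single (ie i) 1 = Pi.single (ie i) 1 := by
      rcases Nat.lt_succ_iff_lt_or_eq.1 hi with h | h
      · exact hcolE i h
      · have : i = k := Fin.ext h
        rw [this]; exact hcolk
    rw [h1, Cfsg.Agent.Lib.Helper5_OmegaCenter.eichMat_mulVec]
    unfold eich
    have e1 : QuadraticMap.polar (⇑(Qm m F A B)) (Pi.single (ie i) 1) (-y) = 0 := by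
      rw [hnye, QuadraticMap.polar_comm, polar_single_np A B y (not_isPl_ie i), one_mul, op_ie,
        hy0 _ (Or.inr (by rw [ht_jf]; omega)), neg_zero]
    have e2 : QuadraticMap.polar (⇑(Qm m F A B)) (Pi.single (ie i) 1) (Pi.single (ie k) 1) = 0 := by
      rw [polar_single_np A B _ (not_isPl_ie k), one_mul, op_ie, Pi.single_eq_of_ne (ie_ne_jf i k).symm]
    rw [e1, e2]
    simp
  · by_cases hik : i = k
    · -- column `f_k`
      rw [hik, col_std_iff, ← Matrix.mulVec_mulVec, ← hw,
        Cfsg.Agent.Lib.Helper5_OmegaCenter.eichMat_mulVec]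
      exact hfin
    · -- column `f_i`, `i < k`
      have hi' : i.val < k.val := by
        have : i.val ≠ k.val := fun e => hik (Fin.ext e)
        omega
      rw [col_std_iff, ← Matrix.mulVec_mulVec, hcolF i hi',
        Cfsg.Agent.Lib.Helper5_OmegaCenter.eichMat_mulVec]
      unfold eich
      have e1 : QuadraticMap.polar (⇑(Qm m F A B)) (Pi.single (jf i) 1) (-y) = 0 := by
        rw [hnye, QuadraticMap.polar_comm, polar_single_np A B y (not_isPl_jf i), one_mul, op_jf,
          hy0 _ (Or.inl (by rw [ht_ie]; omega)), neg_zero]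
      have e2 : QuadraticMap.polar (⇑(Qm m F A B)) (Pi.single (jf i) 1) (Pi.single (ie k) 1) = 0 := by
        rw [polar_single_np A B _ (not_isPl_ie k), one_mul, op_ie,
          Pi.single_eq_of_ne (fun e => hik (jf_injective e).symm)]
      rw [e1, e2]
      simp

end Cfsg.Agent.Lib.Helper86_Pom_EICHSTEP
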