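/-
Helper library (helper86): rank two, non-commuting involutions and the quotient by the subgroup
generated by the involutions, in the models of the quasi-dihedral and the wreathed 2-groups; transfer
of these properties along an embedding.
-/
import Cfsg.Agent.Lib.Helper86_QDModel
import Cfsg.Agent.Lib.Helper86_Wreathed

set_option autoImplicit false

namespace Cfsg.Agent.Lib.Helper86_QDWrRank

open Cfsg.Agent.Lib.Helper86_QuasiDihedral Cfsg.Agent.Lib.Helper86_Wreathed

/-- pairwise commuting involutions lie in a four-group -/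
def RankTwo (M₀ : Type*) [Group M₀] : Prop :=
  ∀ p q t : M₀, orderOf p = 2 → orderOf q = 2 → orderOf t = 2 → p ≠ q → Commute p q →
    Commute p t → Commute q t → t = p ∨ t = q ∨ t = p * q

/-- there are two non-commuting involutions -/
def NonComm (M₀ : Type*) [Group M₀] : Prop :=
  ∃ p q : M₀, orderOf p = 2 ∧ orderOf q = 2 ∧ ¬ Commute p q

/-- modulo the subgroup generated by the involutions the group is generated by `m₀` -/
def CycMod {M₀ : Type*} [Group M₀] (m₀ : M₀) : Prop :=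
  ∀ m : M₀, ∃ k : ℤ, ∃ w ∈ Subgroup.closure {t : M₀ | orderOf t = 2}, m = m₀ ^ k * w

section qd

open Dk QD

variable {K : ℕ} [NeZero K]

theorem qd_commute_s_s (i j : ZMod (8 * K)) (h : Commute (s i : QD K) (s j)) :
    j = i ∨ j = i + hh K := by
  have h' : (s i : QD K) * s j = s j * s i := h
  rw [s_mul_s, s_mul_s] at h'
  injection h' with h1
  have h2 : (1 - kap K) * (j - i) = 0 := by linear_combination (-1 : ZMod (8 * K)) * h1
  rw [one_sub_kap_mul_eq_zero_iff, two_mul_eq_zero_iff] at h2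
  rcases h2 with h2 | h2
  · left; exact sub_eq_zero.mp h2
  · right; rw [← h2]; ring

theorem qd_rankTwo : RankTwo (QD K) := by
  intro p q t hp hq ht hpq c1 c2 c3
  rcases involution_classify p hp with rfl | ⟨i, hi, rfl⟩ <;>
  rcases involution_classify q hq with rfl | ⟨j, hj, rfl⟩ <;>
  rcases involution_classify t ht with rfl | ⟨l, hl, rfl⟩
  · exact absurd rfl hpq
  · exact absurd rfl hpq
  · left; rfl
  · rcases qd_commute_s_s j l c3 with rfl | rfl
    · right; left; rfl
    · right; right; rw [r_mul_s]; congr 1; ring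
  · right; left; rfl
  · rcases qd_commute_s_s i l c2 with rfl | rfl
    · left; rfl
    · right; right; rw [s_mul_r, kap_mul_hh]
  · rcases qd_commute_s_s i j c1 with rfl | rfl
    · exact absurd rfl hpq
    · right; right
      rw [s_mul_s]
      congr 1
      have h1 := hh_mul_of_par_zero K i hi
      rw [mul_add, kap_mul_hh]
      rw [← one_add_kap] at h1
      linear_combination (-1 : ZMod (8 * K)) * h1
  · rcases qd_commute_s_s i j c1 with rfl | rfl
    · exact absurd rfl hpq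
    · rcases qd_commute_s_s i l c2 with rfl | rfl
      · left; rfl
      · right; left; rfl

theorem qd_two_ne : (2 : ZMod (8 * K)) ≠ 0 ∧ (2 : ZMod (8 * K)) ≠ 0 + hh K := by
  have hK : 0 < K := Nat.pos_of_ne_zero (NeZero.ne K)
  have e2 : (2 : ZMod (8 * K)) = ((2 : ℕ) : ZMod (8 * K)) := by norm_cast
  constructor
  · rw [e2]
    intro h
    rw [ZMod.natCast_eq_zero_iff] at h
    have := Nat.le_of_dvd (by omega) h
    omega
  · rw [zero_add, e2, hh]
    intro h
    rw [ZMod.natCast_eq_natCast_iff'] at h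
    rw [Nat.mod_eq_of_lt (by omega), Nat.mod_eq_of_lt (by omega)] at h
    omega

theorem qd_nonComm : NonComm (QD K) := by
  refine ⟨s 0, s 2, orderOf_s_even 0 (map_zero _), orderOf_s_even 2 ?_, ?_⟩
  · have := par_two_mul K 1
    rwa [mul_one] at this
  · intro h
    rcases qd_commute_s_s 0 2 h with h | h
    · exact qd_two_ne.1 h
    · exact qd_two_ne.2 h

theorem qd_cycMod : CycMod (r 1 : QD K) := by
  intro m
  rw [closure_involutions]
  rcases m with i | i
  · rcases par_cases K i with h | h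
    · exact ⟨0, r i, (r_mem_dihSub i).mpr h, by rw [zpow_zero, one_mul]⟩
    · refine ⟨1, r (i - 1), (r_mem_dihSub _).mpr ?_, ?_⟩
      · rw [map_sub, h, par_one, sub_self]
      · rw [zpow_one, r_mul_r]; congr 1; ring
  · rcases par_cases K i with h | h
    · exact ⟨0, s i, (s_mem_dihSub i).mpr h, by rw [zpow_zero, one_mul]⟩
    · refine ⟨1, s (i - 1), (s_mem_dihSub _).mpr ?_, ?_⟩
      · rw [map_sub, h, par_one, sub_self]
      · rw [zpow_one, r_mul_s]; congr 1; ring

end qd

section wr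

open Wr

variable {N M : ℕ}

theorem sq_eq_one_of_orderOf {G : Type*} [Group G] {t : G} (ht : orderOf t = 2) : t * t = 1 := by
  rw [← pow_two, ← ht, pow_orderOf_eq_one]

theorem ne_one_of_orderOf {G : Type*} [Group G] {t : G} (ht : orderOf t = 2) : t ≠ 1 := by
  intro h
  rw [h, orderOf_one] at ht
  omega

theorem wr_orderOf_a (hN : N = 2 * M) (hM : 0 < M) (i j : ZMod N) (h : orderOf (a i j) = 2) :
    (i = 0 ∧ j = (M : ZMod N)) ∨ (i = (M : ZMod N) ∧ j = 0) ∨
      (i = (M : ZMod N) ∧ j = (M : ZMod N)) := by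
  have h1 := (a_sq_eq_one_iff hN hM i j).mp (sq_eq_one_of_orderOf h)
  have h2 := ne_one_of_orderOf h
  rcases h1 with ⟨rfl | rfl, rfl | rfl⟩
  · exact absurd rfl h2
  · left; exact ⟨rfl, rfl⟩
  · right; left; exact ⟨rfl, rfl⟩
  · right; right; exact ⟨rfl, rfl⟩

theorem wr_orderOf_b (i j : ZMod N) (h : orderOf (b i j) = 2) : j = -i :=
  (b_sq_eq_one_iff i j).mp (sq_eq_one_of_orderOf h)

theorem wr_commute_a_b (i j k l : ZMod N) (h : Commute (a i j) (b k l)) : i = j := by
  have h' : a i j * b k l = b k l * a i j := h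
  rw [a_mul_b, b_mul_a] at h'
  injection h' with h1 h2
  exact add_right_cancel (h1.trans (add_comm k j))

theorem wr_inv_a_comm_b (hN : N = 2 * M) (hM : 0 < M) {i j k l : ZMod N}
    (ho : orderOf (a i j) = 2) (h : Commute (a i j) (b k l)) :
    i = (M : ZMod N) ∧ j = (M : ZMod N) := by
  have h1 := wr_commute_a_b i j k l h
  subst h1
  rcases wr_orderOf_a hN hM i i ho with ⟨h2, h3⟩ | ⟨h2, h3⟩ | ⟨h2, h3⟩
  · exact absurd (h3.symm.trans h2) (zmod_half_ne_zero hN hM)
  · exact absurd (h2.symm.trans h3) (zmod_half_ne_zero hN hM)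
  · exact ⟨h2, h3⟩

theorem wr_commute_b_b (hN : N = 2 * M) (hM : 0 < M) (k l : ZMod N)
    (h : Commute (b k (-k)) (b l (-l))) : l = k ∨ l = k + (M : ZMod N) := by
  have h' : b k (-k) * b l (-l) = b l (-l) * b k (-k) := h
  rw [b_mul_b, b_mul_b] at h'
  injection h' with h1 h2
  have h3 : (l - k) + (l - k) = 0 := by linear_combination (-1 : ZMod N) * h1
  rcases zmod_two_torsion hN hM _ h3 with h0 | h0
  · left; exact sub_eq_zero.mp h0
  · right; rw [← h0]; ring

theorem wr_rankTwo (hN : N = 2 * M) (hM : 0 < M) : RankTwo (Wr N) := by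
  intro p q t hp hq ht hpq c1 c2 c3
  have hMM : (M : ZMod N) + M = 0 := zmod_half_add_half hN
  rcases p with ⟨i, j⟩ | ⟨i, j⟩ <;> rcases q with ⟨k, l⟩ | ⟨k, l⟩ <;>
    rcases t with ⟨m, n⟩ | ⟨m, n⟩
  · rcases wr_orderOf_a hN hM i j hp with ⟨rfl, rfl⟩ | ⟨rfl, rfl⟩ | ⟨rfl, rfl⟩ <;>
    rcases wr_orderOf_a hN hM k l hq with ⟨rfl, rfl⟩ | ⟨rfl, rfl⟩ | ⟨rfl, rfl⟩ <;>
    rcases wr_orderOf_a hN hM m n ht with ⟨rfl, rfl⟩ | ⟨rfl, rfl⟩ | ⟨rfl, rfl⟩ <;>
    first
      | exact absurd rfl hpq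
      | (left; rfl)
      | (right; left; rfl)
      | (right; right; rw [a_mul_a]; simp [hMM])
  · obtain ⟨rfl, rfl⟩ := wr_inv_a_comm_b hN hM hp c2
    obtain ⟨rfl, rfl⟩ := wr_inv_a_comm_b hN hM hq c3
    exact absurd rfl hpq
  · obtain ⟨rfl, rfl⟩ := wr_inv_a_comm_b hN hM hp c1
    obtain ⟨rfl, rfl⟩ := wr_inv_a_comm_b hN hM ht c3.symm
    left; rfl
  · obtain ⟨rfl, rfl⟩ := wr_inv_a_comm_b hN hM hp c1
    obtain rfl := wr_orderOf_b k l hq
    obtain rfl := wr_orderOf_b m n ht
    rcases wr_commute_b_b hN hM k m c3 with rfl | rfl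
    · right; left; rfl
    · right; right
      rw [a_mul_b]
      congr 1
      · ring
      · linear_combination (-1 : ZMod N) * hMM
  · obtain ⟨rfl, rfl⟩ := wr_inv_a_comm_b hN hM hq c1.symm
    obtain ⟨rfl, rfl⟩ := wr_inv_a_comm_b hN hM ht c2.symm
    right; left; rfl
  · obtain ⟨rfl, rfl⟩ := wr_inv_a_comm_b hN hM hq c1.symm
    obtain rfl := wr_orderOf_b i j hp
    obtain rfl := wr_orderOf_b m n ht
    rcases wr_commute_b_b hN hM i m c2 with rfl | rfl
    · left; rfl
    · right; right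
      rw [b_mul_a]
      congr 1
      linear_combination (-1 : ZMod N) * hMM
  · obtain ⟨rfl, rfl⟩ := wr_inv_a_comm_b hN hM ht c2.symm
    obtain rfl := wr_orderOf_b i j hp
    obtain rfl := wr_orderOf_b k l hq
    rcases wr_commute_b_b hN hM i k c1 with rfl | rfl
    · exact absurd rfl hpq
    · right; right
      rw [b_mul_b]
      congr 1
      · linear_combination hMM
      · ring
  · obtain rfl := wr_orderOf_b i j hp
    obtain rfl := wr_orderOf_b k l hq
    obtain rfl := wr_orderOf_b m n ht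
    rcases wr_commute_b_b hN hM i k c1 with rfl | rfl
    · exact absurd rfl hpq
    · rcases wr_commute_b_b hN hM i m c2 with rfl | rfl
      · left; rfl
      · right; left; rfl

theorem wr_nonComm (hN : N = 2 * M) (hM : 0 < M) : NonComm (Wr N) := by
  refine ⟨a 0 (M : ZMod N), b 0 0, orderOf_a_zero_half hN hM, ?_, ?_⟩
  · have := orderOf_b (0 : ZMod N)
    rwa [neg_zero] at this
  · intro h
    exact zmod_half_ne_zero hN hM (wr_commute_a_b _ _ _ _ h).symm

theorem wr_cycMod (hN : N = 2 * M) (hM : 0 < M) : CycMod (a (1 : ZMod N) 0) := by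
  intro m
  have : NeZero N := ⟨by omega⟩
  rw [omegaSub_eq_closure hN hM]
  set v : ZMod N := Multiplicative.toAdd (sumHom m) with hv
  refine ⟨(v.val : ℤ), (a v 0)⁻¹ * m, ?_, ?_⟩
  · rw [mem_omegaSub_iff, map_mul, map_inv, sumHom_a]
    simp only [add_zero, toAdd_mul, toAdd_inv, toAdd_ofAdd, ← hv]
    ring
  · rw [zpow_natCast, a_one_zero_pow, ZMod.natCast_zmod_val]; group

end wr

section transfer

variable {M₀ G : Type*} [Group M₀] [Group G] (ι : M₀ →* G) (hι : Function.Injective ι)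

include hι

theorem rankTwo_transfer (h : RankTwo M₀) :
    ∀ p q t : G, p ∈ ι.range → q ∈ ι.range → t ∈ ι.range → orderOf p = 2 → orderOf q = 2 →
      orderOf t = 2 → p ≠ q → Commute p q → Commute p t → Commute q t →
      t = p ∨ t = q ∨ t = p * q := by
  rintro _ _ _ ⟨p, rfl⟩ ⟨q, rfl⟩ ⟨t, rfl⟩ hp hq ht hpq c1 c2 c3
  rw [orderOf_injective ι hι] at hp hq ht
  have hc : ∀ x y : M₀, Commute (ι x) (ι y) → Commute x y := by
    intro x y hxy
    apply hι
    rw [map_mul, map_mul]
    exact hxy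
  rcases h p q t hp hq ht (fun h => hpq (by rw [h])) (hc _ _ c1) (hc _ _ c2) (hc _ _ c3) with
    rfl | rfl | rfl
  · left; rfl
  · right; left; rfl
  · right; right; exact map_mul ι _ _

theorem nonComm_transfer (h : NonComm M₀) :
    ∃ p q : G, p ∈ ι.range ∧ q ∈ ι.range ∧ orderOf p = 2 ∧ orderOf q = 2 ∧ ¬ Commute p q := by
  obtain ⟨p, q, hp, hq, hpq⟩ := h
  refine ⟨ι p, ι q, ⟨p, rfl⟩, ⟨q, rfl⟩, ?_, ?_, ?_⟩
  · rw [orderOf_injective ι hι]; exact hp
  · rw [orderOf_injective ι hι]; exact hq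
  · intro hc
    apply hpq
    apply hι
    rw [map_mul, map_mul]
    exact hc

theorem cycMod_transfer (m₀ : M₀) (h : CycMod m₀) :
    ∀ s ∈ ι.range, ∃ k : ℤ, ∃ w ∈ Subgroup.closure {t : G | orderOf t = 2},
      s = (ι m₀) ^ k * w := by
  rintro _ ⟨m, rfl⟩
  obtain ⟨k, w, hw, rfl⟩ := h m
  refine ⟨k, ι w, ?_, by rw [map_mul, map_zpow]⟩
  have hle : (Subgroup.closure {t : M₀ | orderOf t = 2}).map ι ≤
      Subgroup.closure {t : G | orderOf t = 2} := by
    rw [MonoidHom.map_closure, Subgroup.closure_le]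
    rintro _ ⟨t, ht, rfl⟩
    apply Subgroup.subset_closure
    show orderOf (ι t) = 2
    rw [orderOf_injective ι hι]; exact ht
  exact hle ⟨w, hw, rfl⟩

end transfer

end Cfsg.Agent.Lib.Helper86_QDWrRank
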