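/-
Helper library (helper86): an abstract criterion for a finite group `Q` with `O(Q) = 1` to have a
non-abelian simple normal subgroup of odd index (the subgroup generated by the involutions).
-/
import Mathlib
import Cfsg.Agent.Lib.Helper1_Cores
import Cfsg.Agent.Lib.Helper4_CayleySign
import Cfsg.Agent.Lib.Helper23_ZStar
import Cfsg.Agent.Lib.Lead_Subnormal
import Cfsg.Agent.S0225

set_option autoImplicit false

namespace Cfsg.Agent.Lib.Helper86_SimpleOddIndex

open Cfsg

universe u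

/-- the subgroup generated by the involutions -/
def invSub (Q : Type u) [Group Q] : Subgroup Q := Subgroup.closure {t : Q | orderOf t = 2}

section basic

variable {Q : Type u} [Group Q]

theorem orderOf_conj_eq (g t : Q) : orderOf (g * t * g⁻¹) = orderOf t :=
  MulEquiv.orderOf_eq (MulAut.conj g) t

theorem mem_invSub {t : Q} (ht : orderOf t = 2) : t ∈ invSub Q := Subgroup.subset_closure ht

instance invSub_normal : (invSub Q).Normal := by
  refine ⟨fun n hn g => ?_⟩
  have h : (invSub Q).map (MulAut.conj g).toMonoidHom ≤ invSub Q := by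
    unfold invSub
    rw [MonoidHom.map_closure, Subgroup.closure_le]
    rintro _ ⟨t, ht, rfl⟩
    apply Subgroup.subset_closure
    show orderOf (g * t * g⁻¹) = 2
    rw [orderOf_conj_eq]; exact ht
  exact h ⟨n, hn, rfl⟩

theorem sq_eq_one_of_orderOf {t : Q} (ht : orderOf t = 2) : t * t = 1 := by
  rw [← pow_two, ← ht, pow_orderOf_eq_one]

theorem ne_one_of_orderOf {t : Q} (ht : orderOf t = 2) : t ≠ 1 := by
  intro h
  rw [h, orderOf_one] at ht
  omega

end basic

section main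

variable {Q : Type u} [Group Q] [Finite Q]

/-- every non-trivial normal subgroup contains all involutions -/
theorem invSub_le_of_normal (h0 : pPrimeCore 2 Q = ⊥)
    (h2 : ∀ s t : Q, orderOf s = 2 → orderOf t = 2 → IsConj s t)
    (N : Subgroup Q) (hN : N.Normal) (hN1 : N ≠ ⊥) : invSub Q ≤ N := by
  have : Fact (Nat.Prime 2) := ⟨Nat.prime_two⟩
  have heven : 2 ∣ Nat.card N := by
    by_contra hodd
    have hcop : (Nat.card N).Coprime 2 := by
      rw [Nat.coprime_comm, Nat.Prime.coprime_iff_not_dvd Nat.prime_two]; exact hodd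
    have := Cfsg.Agent.Lib.Helper1_Cores.le_pPrimeCore hN hcop
    rw [h0] at this
    exact hN1 (le_bot_iff.mp this)
  obtain ⟨u, hu⟩ := exists_prime_orderOf_dvd_card' 2 heven
  have hu' : orderOf (u : Q) = 2 := by rw [Subgroup.orderOf_coe]; exact hu
  unfold invSub
  rw [Subgroup.closure_le]
  intro t ht
  obtain ⟨g, hg⟩ := isConj_iff.mp (h2 (u : Q) t hu' ht)
  rw [← hg]
  exact hN.conj_mem _ u.2 g

/-- the subgroup generated by the involutions has odd index -/
theorem odd_index_invSub (h1 : ∀ H : Subgroup Q, H.index ≠ 2)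
    (h5 : ∃ (P : Sylow 2 Q) (s₀ : Q), ∀ s ∈ (P : Subgroup Q), ∃ k : ℤ, ∃ w ∈ invSub Q,
      s = s₀ ^ k * w) : Odd (invSub Q).index := by
  classical
  have : Fact (Nat.Prime 2) := ⟨Nat.prime_two⟩
  obtain ⟨P, s₀, hP⟩ := h5
  rw [← Nat.not_even_iff_odd]
  intro heven
  set π := QuotientGroup.mk' (invSub Q) with hπ
  have hsurj : Function.Surjective π := QuotientGroup.mk'_surjective _
  set P' : Sylow 2 (Q ⧸ invSub Q) := P.mapSurjective hsurj with hP'
  have hle : (P' : Subgroup (Q ⧸ invSub Q)) ≤ Subgroup.zpowers (π s₀) := by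
    intro x hx
    rw [hP', Sylow.coe_mapSurjective] at hx
    obtain ⟨s, hs, rfl⟩ := hx
    obtain ⟨k, w, hw, rfl⟩ := hP s hs
    have hw1 : π w = 1 := by
      rw [hπ, QuotientGroup.mk'_apply, QuotientGroup.eq_one_iff]; exact hw
    rw [map_mul, hw1, mul_one, map_zpow]
    exact Subgroup.zpow_mem_zpowers _ _
  have hcyc : IsCyclic (P' : Subgroup (Q ⧸ invSub Q)) := Subgroup.isCyclic_of_le hle
  obtain ⟨g, hg⟩ := (isCyclic_iff_exists_orderOf_eq_natCard).mp hcyc
  have hg' : orderOf (g : Q ⧸ invSub Q) = Nat.card (P' : Subgroup (Q ⧸ invSub Q)) := by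
    rw [Subgroup.orderOf_coe]; exact hg
  have : Fintype (Q ⧸ invSub Q) := Fintype.ofFinite _
  have hcardQ : Nat.card (Q ⧸ invSub Q) = (invSub Q).index := (Subgroup.index_eq_card _).symm
  have h2dvd : 2 ∣ Nat.card (Q ⧸ invSub Q) := by rw [hcardQ]; exact heven.two_dvd
  have hev : Even (orderOf (g : Q ⧸ invSub Q)) := by
    rw [hg']
    have := P'.dvd_card_of_dvd_card h2dvd
    exact (even_iff_two_dvd).mpr this
  have hodd : Odd (Fintype.card (Q ⧸ invSub Q) / orderOf (g : Q ⧸ invSub Q)) := by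
    rw [hg', ← Nat.card_eq_fintype_card]
    have h1 : Nat.card (Q ⧸ invSub Q) / Nat.card (P' : Subgroup (Q ⧸ invSub Q)) =
        (P' : Subgroup (Q ⧸ invSub Q)).index := by
      rw [← Subgroup.index_mul_card (P' : Subgroup (Q ⧸ invSub Q))]
      exact Nat.mul_div_cancel _ Nat.card_pos
    rw [h1, ← Nat.not_even_iff_odd, even_iff_two_dvd]
    exact P'.not_dvd_index
  obtain ⟨H, hH⟩ := Cfsg.Agent.Lib.Helper4_CayleySign.exists_index_two (g : Q ⧸ invSub Q) hev hodd
  apply h1 (H.comap π)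
  rw [Subgroup.index_comap_of_surjective _ hsurj]
  exact hH

/-- the subgroup generated by the involutions is simple -/
theorem isSimpleGroup_invSub (h0 : pPrimeCore 2 Q = ⊥)
    (h2 : ∀ s t : Q, orderOf s = 2 → orderOf t = 2 → IsConj s t)
    (h3 : ∀ a b c : Q, orderOf a = 2 → orderOf b = 2 → orderOf c = 2 → a ≠ b → Commute a b →
      Commute a c → Commute b c → c = a ∨ c = b ∨ c = a * b)
    (h4 : ∃ a b : Q, orderOf a = 2 ∧ orderOf b = 2 ∧ ¬ Commute a b) :
    IsSimpleGroup (invSub Q) := by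
  classical
  have : Fact (Nat.Prime 2) := ⟨Nat.prime_two⟩
  obtain ⟨a₀, b₀, ha₀, hb₀, hab₀⟩ := h4
  have hOL : pPrimeCore 2 ↥(invSub Q) = ⊥ :=
    Cfsg.Agent.Lib.Helper23_ZStar.pPrimeCore_normal_subgroup_eq_bot h0 (invSub Q)
  have hnt : Nontrivial ↥(invSub Q) := by
    refine ⟨⟨⟨a₀, mem_invSub ha₀⟩, 1, ?_⟩⟩
    intro h
    exact ne_one_of_orderOf ha₀ (congrArg Subtype.val h)
  refine { toNontrivial := hnt, eq_bot_or_eq_top_of_normal := ?_ }
  intro H₀ hH₀
  by_contra hcon
  push Not at hcon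
  obtain ⟨hH₀bot, hH₀top⟩ := hcon
  obtain ⟨K, hK, hKH⟩ := Cfsg.Agent.Lib.Lead_Subnormal.exists_isMinNormal_le H₀ hH₀ hH₀bot
  obtain ⟨hKn, hKbot, hKmin⟩ := hK
  have hKtop : K ≠ ⊤ := fun h => hH₀top (top_le_iff.mp (h ▸ hKH))
  -- Step A: some conjugate of `K` differs from `K`
  have hA : ∃ g : Q, K.map (MulAut.conjNormal g : ↥(invSub Q) ≃* ↥(invSub Q)).toMonoidHom ≠ K := by
    by_contra hall
    push Not at hall
    have hNn : (K.map (invSub Q).subtype).Normal := by
      refine ⟨fun n hn g => ?_⟩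
      obtain ⟨k, hk, rfl⟩ := hn
      have hmem : (MulAut.conjNormal g : ↥(invSub Q) ≃* ↥(invSub Q)) k ∈
          K.map (MulAut.conjNormal g : ↥(invSub Q) ≃* ↥(invSub Q)).toMonoidHom := ⟨k, hk, rfl⟩
      rw [hall g] at hmem
      exact ⟨_, hmem, MulAut.conjNormal_apply g k⟩
    have hN1 : K.map (invSub Q).subtype ≠ ⊥ := by
      intro h
      exact hKbot ((Subgroup.map_eq_bot_iff_of_injective _ (invSub Q).subtype_injective).mp h)
    have hle := invSub_le_of_normal h0 h2 _ hNn hN1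
    apply hKtop
    rw [eq_top_iff]
    intro x _
    obtain ⟨k, hk, hkx⟩ := hle x.2
    have : k = x := Subtype.ext hkx
    rw [← this]; exact hk
  obtain ⟨g, hg⟩ := hA
  set φ : ↥(invSub Q) ≃* ↥(invSub Q) := MulAut.conjNormal g with hφ
  set K₂ := K.map φ.toMonoidHom with hK₂
  have hK₂n : K₂.Normal := hKn.map _ φ.surjective
  have hdisj : K ⊓ K₂ = ⊥ := by
    have hn : (K ⊓ K₂).Normal := Subgroup.normal_inf_normal K K₂
    rcases hKmin (K ⊓ K₂) hn inf_le_left with h | h
    · exact h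
    · exfalso
      have hle : K ≤ K₂ := by rw [← h]; exact inf_le_right
      have hcard : Nat.card K₂ = Nat.card K := Subgroup.card_map_of_injective φ.injective
      apply hg
      exact (Subgroup.eq_of_le_of_card_ge hle (le_of_eq hcard)).symm
  have hcomm : ∀ x ∈ K, ∀ y ∈ K₂, Commute x y := fun x hx y hy =>
    Subgroup.commute_of_normal_of_disjoint K K₂ hKn hK₂n (disjoint_iff.mpr hdisj) x y hx hy
  have hOK : pPrimeCore 2 ↥K = ⊥ := by
    have := hKn
    exact Cfsg.Agent.Lib.Helper23_ZStar.pPrimeCore_normal_subgroup_eq_bot hOL K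
  have hKeven : 2 ∣ Nat.card K := by
    by_contra hodd
    have hcop : (Nat.card K).Coprime 2 := by
      rw [Nat.coprime_comm, Nat.Prime.coprime_iff_not_dvd Nat.prime_two]; exact hodd
    have := Cfsg.Agent.Lib.Helper1_Cores.le_pPrimeCore hKn hcop
    rw [hOL] at this
    exact hKbot (le_bot_iff.mp this)
  obtain ⟨u, hu⟩ := exists_prime_orderOf_dvd_card' 2 hKeven
  set u₂ : ↥(invSub Q) := φ (u : ↥(invSub Q)) with hu₂
  have hu₂K : u₂ ∈ K₂ := ⟨u, u.2, rfl⟩
  have hu₂o : orderOf u₂ = 2 := by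
    rw [hu₂, MulEquiv.orderOf_eq, Subgroup.orderOf_coe]; exact hu
  have hu₂notK : u₂ ∉ K := by
    intro h
    have : u₂ ∈ K ⊓ K₂ := ⟨h, hu₂K⟩
    rw [hdisj, Subgroup.mem_bot] at this
    exact ne_one_of_orderOf hu₂o this
  -- Step E: commuting involutions of `K` are equal
  have hE : ∀ v v' : ↥(invSub Q), v ∈ K → v' ∈ K → orderOf v = 2 → orderOf v' = 2 →
      Commute v v' → v = v' := by
    intro v v' hv hv' hvo hv'o hc
    by_contra hne
    have h := h3 (v : Q) (v' : Q) (u₂ : Q) (by rw [Subgroup.orderOf_coe]; exact hvo)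
      (by rw [Subgroup.orderOf_coe]; exact hv'o) (by rw [Subgroup.orderOf_coe]; exact hu₂o)
      (fun h => hne (Subtype.ext h)) (congrArg Subtype.val hc)
      (congrArg Subtype.val (hcomm v hv u₂ hu₂K)) (congrArg Subtype.val (hcomm v' hv' u₂ hu₂K))
    rcases h with h | h | h
    · exact hu₂notK (by rw [Subtype.ext h]; exact hv)
    · exact hu₂notK (by rw [Subtype.ext h]; exact hv')
    · have : u₂ = v * v' := Subtype.ext h
      exact hu₂notK (by rw [this]; exact mul_mem hv hv')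
  -- Step F: no four-subgroups in `K`
  have hrank : ∀ E : Subgroup ↥K, ¬ IsKleinFour E := by
    intro E hE4
    have hcard : Nat.card E = 4 := hE4.card_four
    have hexp : Monoid.exponent E = 2 := hE4.exponent_two
    obtain ⟨x, y, hx1, hy1, hxy⟩ : ∃ x y : E, x ≠ 1 ∧ y ≠ 1 ∧ x ≠ y := by
      have : Fintype E := Fintype.ofFinite _
      have h3' : 2 < Fintype.card E := by rw [← Nat.card_eq_fintype_card, hcard]; norm_num
      obtain ⟨p, q, r, hpq, hpr, hqr⟩ := Fintype.two_lt_card_iff.mp h3'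
      by_cases hp : p = 1
      · subst hp
        exact ⟨q, r, fun h => hpq h.symm, fun h => hpr h.symm, hqr⟩
      · by_cases hq : q = 1
        · subst hq
          exact ⟨p, r, hp, fun h => hqr h.symm, hpr⟩
        · exact ⟨p, q, hp, hq, hpq⟩
    have hsq : ∀ w : E, w ^ 2 = 1 := fun w => by rw [← hexp]; exact Monoid.pow_exponent_eq_one w
    have ho : ∀ w : E, w ≠ 1 → orderOf w = 2 := fun w hw => orderOf_eq_prime (hsq w) hw
    have hc : Commute x y := mul_comm_of_exponent_two hexp x y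
    have hc' : Commute (((x : ↥K)) : ↥(invSub Q)) (((y : ↥K)) : ↥(invSub Q)) :=
      congrArg (fun w : E => (((w : ↥K)) : ↥(invSub Q))) hc
    have := hE (((x : ↥K)) : ↥(invSub Q)) (((y : ↥K)) : ↥(invSub Q)) (x : ↥K).2 (y : ↥K).2
      (by rw [Subgroup.orderOf_coe, Subgroup.orderOf_coe]; exact ho x hx1)
      (by rw [Subgroup.orderOf_coe, Subgroup.orderOf_coe]; exact ho y hy1) hc'
    exact hxy (Subtype.ext (Subtype.ext this))
  -- Step G: the Brauer-Suzuki input
  obtain ⟨z, hz, N, hNn, hNodd, hzN⟩ :=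
    Cfsg.Agent.S0225.result (G := ↥K) (even_iff_two_dvd.mpr hKeven) hrank
  have hNbot : N = ⊥ := by
    have hcop : (Nat.card N).Coprime 2 := Nat.coprime_two_right.mpr hNodd
    have := Cfsg.Agent.Lib.Helper1_Cores.le_pPrimeCore hNn hcop
    rw [hOK] at this
    exact le_bot_iff.mp this
  have hzc : ∀ k : ↥K, z * k = k * z := by
    intro k
    have := hzN k
    rw [hNbot, Subgroup.mem_bot, mul_inv_eq_one] at this
    exact mul_inv_eq_iff_eq_mul.mp this
  -- Step H: `z` is central in the involution subgroup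
  have hzΛ : ∀ x : ↥(invSub Q), x * (z : ↥(invSub Q)) = (z : ↥(invSub Q)) * x := by
    intro x
    have hmem : x * (z : ↥(invSub Q)) * x⁻¹ ∈ K := hKn.conj_mem _ z.2 x
    have ho : orderOf (x * (z : ↥(invSub Q)) * x⁻¹) = 2 := by
      rw [orderOf_conj_eq, Subgroup.orderOf_coe]; exact hz
    have hcm : Commute (z : ↥(invSub Q)) (x * z * x⁻¹) := by
      have := hzc ⟨_, hmem⟩
      exact congrArg Subtype.val this
    have := hE (z : ↥(invSub Q)) _ z.2 hmem (by rw [Subgroup.orderOf_coe]; exact hz) ho hcm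
    exact (eq_mul_inv_iff_mul_eq.mp this).symm
  -- Step I: all involutions centralize the involution subgroup
  set ζ : Q := ((z : ↥(invSub Q)) : Q) with hζ
  have hζo : orderOf ζ = 2 := by
    rw [hζ, Subgroup.orderOf_coe, Subgroup.orderOf_coe]; exact hz
  have hζc : ∀ x ∈ invSub Q, x * ζ = ζ * x := fun x hx => congrArg Subtype.val (hzΛ ⟨x, hx⟩)
  have hall : ∀ t : Q, orderOf t = 2 → ∀ x ∈ invSub Q, x * t = t * x := by
    intro t ht x hx
    obtain ⟨c, hc⟩ := isConj_iff.mp (h2 ζ t hζo ht)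
    have hx' : c⁻¹ * x * c ∈ invSub Q := by
      have := (invSub_normal (Q := Q)).conj_mem x hx c⁻¹
      rwa [inv_inv] at this
    have := hζc _ hx'
    rw [← hc]
    calc x * (c * ζ * c⁻¹) = c * ((c⁻¹ * x * c) * ζ) * c⁻¹ := by group
      _ = c * (ζ * (c⁻¹ * x * c)) * c⁻¹ := by rw [this]
      _ = c * ζ * c⁻¹ * x := by group
  exact hab₀ (hall b₀ hb₀ a₀ (mem_invSub ha₀))

/-- **the criterion**: under the hypotheses, the subgroup generated by the involutions is a normal
non-abelian simple subgroup of odd index -/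
theorem main (h0 : pPrimeCore 2 Q = ⊥) (h1 : ∀ H : Subgroup Q, H.index ≠ 2)
    (h2 : ∀ s t : Q, orderOf s = 2 → orderOf t = 2 → IsConj s t)
    (h3 : ∀ a b c : Q, orderOf a = 2 → orderOf b = 2 → orderOf c = 2 → a ≠ b → Commute a b →
      Commute a c → Commute b c → c = a ∨ c = b ∨ c = a * b)
    (h4 : ∃ a b : Q, orderOf a = 2 ∧ orderOf b = 2 ∧ ¬ Commute a b)
    (h5 : ∃ (P : Sylow 2 Q) (s₀ : Q), ∀ s ∈ (P : Subgroup Q), ∃ k : ℤ, ∃ w ∈ invSub Q,
      s = s₀ ^ k * w) :
    ∃ L : Subgroup Q, L.Normal ∧ Odd L.index ∧ IsSimpleGroup L ∧ ¬ IsMulCommutative L := by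
  refine ⟨invSub Q, invSub_normal, odd_index_invSub h1 h5, isSimpleGroup_invSub h0 h2 h3 h4, ?_⟩
  intro hc
  obtain ⟨a₀, b₀, ha₀, hb₀, hab₀⟩ := h4
  have := hc.is_comm.comm (⟨a₀, mem_invSub ha₀⟩ : invSub Q) ⟨b₀, mem_invSub hb₀⟩
  exact hab₀ (congrArg Subtype.val this)

end main

end Cfsg.Agent.Lib.Helper86_SimpleOddIndex
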