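/-
Helper library (helper86): finite groups `G` with a quasi-dihedral or wreathed Sylow 2-subgroup and
no subgroup of index two: `G / O(G)` has a non-abelian simple normal subgroup of odd index.
-/
import Cfsg.Agent.Lib.Helper86_SimpleOddIndex
import Cfsg.Agent.Lib.Helper86_QDWrRank
import Cfsg.Agent.Lib.Helper86_WCCenter
import Cfsg.Agent.Lib.Helper86_QDCentralizer
import Cfsg.Agent.Lib.Helper86_WrCentralizer

set_option autoImplicit false

namespace Cfsg.Agent.Lib.Helper86_QDWrSimple

open Cfsg Cfsg.Agent.Lib.Helper86_SimpleOddIndex Cfsg.Agent.Lib.Helper86_QDWrRank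
open scoped Pointwise

universe u

section general

variable {Q : Type u} [Group Q]

/-- commuting involutions generate a 2-group -/
theorem isPGroup_closure (T : Set Q) (hT : ∀ x ∈ T, ∀ y ∈ T, x * y = y * x)
    (hT2 : ∀ x ∈ T, x * x = 1) : IsPGroup 2 (Subgroup.closure T) := by
  have h1 : T ⊆ Subgroup.centralizer T := fun x hx =>
    Subgroup.mem_centralizer_iff.mpr (fun y hy => hT y hy x hx)
  have h2 : Subgroup.closure T ≤ Subgroup.centralizer T := (Subgroup.closure_le _).mpr h1
  have h3 : T ⊆ Subgroup.centralizer (Subgroup.closure T : Set Q) := fun t ht =>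
    Subgroup.mem_centralizer_iff.mpr
      (fun y hy => ((Subgroup.mem_centralizer_iff.mp (h2 hy)) t ht).symm)
  have h4 : Subgroup.closure T ≤ Subgroup.centralizer (Subgroup.closure T : Set Q) :=
    (Subgroup.closure_le _).mpr h3
  have hcomm : ∀ x ∈ Subgroup.closure T, ∀ y ∈ Subgroup.closure T, x * y = y * x :=
    fun x hx y hy => (Subgroup.mem_centralizer_iff.mp (h4 hy)) x hx
  have hsq : ∀ x ∈ Subgroup.closure T, x * x = 1 := by
    intro x hx
    induction hx using Subgroup.closure_induction with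
    | mem x hx => exact hT2 x hx
    | one => exact one_mul 1
    | mul x y hx hy ihx ihy =>
      calc x * y * (x * y) = x * (y * x) * y := by group
        _ = x * (x * y) * y := by rw [hcomm y hy x hx]
        _ = (x * x) * (y * y) := by group
        _ = 1 := by rw [ihx, ihy, one_mul]
    | inv x hx ih => rw [← mul_inv_rev, ih, inv_one]
  rintro ⟨x, hx⟩
  refine ⟨1, ?_⟩
  apply Subtype.ext
  rw [pow_one]
  show x ^ 2 = 1
  rw [pow_two]
  exact hsq x hx

end general

section main

variable {G : Type u} [Group G] [Finite G]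

/-- the transfer to `G / O(G)` -/
theorem main_of_sylow (S : Sylow 2 G) (hG : ∀ H : Subgroup G, H.index ≠ 2)
    (hconj : ∀ s t : G, orderOf s = 2 → orderOf t = 2 → IsConj s t)
    (hR2 : ∀ p q t : G, p ∈ (S : Subgroup G) → q ∈ (S : Subgroup G) → t ∈ (S : Subgroup G) →
      orderOf p = 2 → orderOf q = 2 → orderOf t = 2 → p ≠ q → Commute p q → Commute p t →
      Commute q t → t = p ∨ t = q ∨ t = p * q)
    (hNC : ∃ p q : G, p ∈ (S : Subgroup G) ∧ q ∈ (S : Subgroup G) ∧ orderOf p = 2 ∧
      orderOf q = 2 ∧ ¬ Commute p q)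
    (hCY : ∃ s₀ : G, ∀ s ∈ (S : Subgroup G), ∃ k : ℤ,
      ∃ w ∈ Subgroup.closure {t : G | orderOf t = 2}, s = s₀ ^ k * w) :
    ∃ L : Subgroup (G ⧸ Cfsg.oddCore G), L.Normal ∧ Odd L.index ∧ IsSimpleGroup L ∧
      ¬ IsMulCommutative L := by
  have : Fact (Nat.Prime 2) := ⟨Nat.prime_two⟩
  set π := QuotientGroup.mk' (pPrimeCore 2 G) with hπ
  have hsurj : Function.Surjective π := QuotientGroup.mk'_surjective _
  have hker : ∀ x : G, π x = 1 ↔ x ∈ pPrimeCore 2 G := fun x => by
    rw [hπ, QuotientGroup.mk'_apply, QuotientGroup.eq_one_iff]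
  -- `π` is injective on `S`
  have hinj : ∀ x ∈ (S : Subgroup G), ∀ y ∈ (S : Subgroup G), π x = π y → x = y := by
    intro x hx y hy hxy
    have h1 : x⁻¹ * y ∈ pPrimeCore 2 G := by
      rw [← hker, map_mul, map_inv, hxy, inv_mul_cancel]
    have := Cfsg.Agent.Lib.Helper86_WCCenter.inf_oddCore_eq_bot (le_refl (S : Subgroup G))
      (x⁻¹ * y) (mul_mem (inv_mem hx) hy) h1
    exact inv_mul_eq_one.mp this
  -- orders of elements of `S`
  have hord : ∀ s ∈ (S : Subgroup G), orderOf (π s) = 2 → orderOf s = 2 := by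
    intro s hs ho
    apply orderOf_eq_prime
    · apply hinj _ (pow_mem hs 2) _ (one_mem _)
      have h2 := pow_orderOf_eq_one (π s)
      rw [ho] at h2
      rw [map_pow, map_one, h2]
    · intro h
      rw [h, map_one, orderOf_one] at ho
      omega
  -- involutions of `G` map to involutions
  have hinv : ∀ t : G, orderOf t = 2 → orderOf (π t) = 2 := by
    intro t ht
    apply orderOf_eq_prime
    · have h2 := pow_orderOf_eq_one t
      rw [ht] at h2
      rw [← map_pow, h2, map_one]
    · intro h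
      rw [hker] at h
      have h1 : orderOf t ∣ Nat.card (pPrimeCore 2 G) := by
        have := orderOf_dvd_natCard (⟨t, h⟩ : pPrimeCore 2 G)
        rwa [Subgroup.orderOf_mk] at this
      rw [ht] at h1
      have hcop := Cfsg.Agent.Lib.Helper1_Cores.pPrimeCore_card_coprime (G := G) 2
      rw [Nat.coprime_comm, Nat.Prime.coprime_iff_not_dvd Nat.prime_two] at hcop
      exact hcop h1
  -- 2-subgroups of the quotient are conjugate into the image of `S`
  have hT1 : ∀ R : Subgroup (G ⧸ pPrimeCore 2 G), IsPGroup 2 R →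
      ∃ φ : (G ⧸ pPrimeCore 2 G) ≃* (G ⧸ pPrimeCore 2 G), (∃ c, φ = MulAut.conj c) ∧
        ∀ x ∈ R, ∃ s ∈ (S : Subgroup G), π s = φ x := by
    intro R hR
    obtain ⟨P, hRP⟩ := hR.exists_le_sylow
    obtain ⟨c, hc⟩ := MulAction.exists_smul_eq (G ⧸ pPrimeCore 2 G) P (S.mapSurjective hsurj)
    refine ⟨MulAut.conj c, ⟨c, rfl⟩, fun x hx => ?_⟩
    have h1 : (MulAut.conj c) • x ∈ (MulAut.conj c) • (P : Subgroup (G ⧸ pPrimeCore 2 G)) :=
      Subgroup.smul_mem_pointwise_smul _ _ _ (hRP hx)
    rw [← Sylow.coe_subgroup_smul, hc, Sylow.coe_mapSurjective] at h1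
    obtain ⟨s, hs, hsx⟩ := h1
    exact ⟨s, hs, hsx⟩
  -- lifting involutions
  have hlift : ∀ t : G ⧸ pPrimeCore 2 G, orderOf t = 2 → ∃ t' : G, orderOf t' = 2 ∧ π t' = t := by
    intro t ht
    have hR : IsPGroup 2 (Subgroup.zpowers t) := by
      apply IsPGroup.of_card (n := 1)
      rw [Nat.card_zpowers, ht, pow_one]
    obtain ⟨φ, ⟨c, rfl⟩, hφ⟩ := hT1 _ hR
    obtain ⟨s, hs, hst⟩ := hφ t (Subgroup.mem_zpowers t)
    obtain ⟨g, rfl⟩ := hsurj c
    have hso : orderOf s = 2 := by
      apply hord s hs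
      rw [hst, MulEquiv.orderOf_eq]; exact ht
    refine ⟨g⁻¹ * s * g, ?_, ?_⟩
    · have := Cfsg.Agent.Lib.Helper86_SimpleOddIndex.orderOf_conj_eq g⁻¹ s
      rw [inv_inv] at this
      rw [this]; exact hso
    · rw [map_mul, map_mul, hst, MulAut.conj_apply, map_inv]; group
  apply Cfsg.Agent.Lib.Helper86_SimpleOddIndex.main
  · exact Cfsg.Agent.Lib.Helper23_PComp.pPrimeCore_quotient_eq_bot G 2
  · intro H hH
    apply hG (H.comap π)
    rw [Subgroup.index_comap_of_surjective _ hsurj]
    exact hH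
  · intro s t hs ht
    obtain ⟨s', hs', rfl⟩ := hlift s hs
    obtain ⟨t', ht', rfl⟩ := hlift t ht
    obtain ⟨c, hc⟩ := isConj_iff.mp (hconj s' t' hs' ht')
    exact isConj_iff.mpr ⟨π c, by rw [← map_inv, ← map_mul, ← map_mul, hc]⟩
  · intro a b c ha hb hc hab c1 c2 c3
    have hR : IsPGroup 2 (Subgroup.closure ({a, b, c} : Set (G ⧸ pPrimeCore 2 G))) := by
      apply isPGroup_closure
      · intro x hx y hy
        simp only [Set.mem_insert_iff, Set.mem_singleton_iff] at hx hy
        rcases hx with rfl | rfl | rfl <;> rcases hy with rfl | rfl | rfl <;>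
          first | rfl | exact c1.eq | exact c2.eq | exact c3.eq | exact c1.eq.symm |
            exact c2.eq.symm | exact c3.eq.symm
      · intro x hx
        simp only [Set.mem_insert_iff, Set.mem_singleton_iff] at hx
        rcases hx with rfl | rfl | rfl
        · exact Helper86_SimpleOddIndex.sq_eq_one_of_orderOf ha
        · exact Helper86_SimpleOddIndex.sq_eq_one_of_orderOf hb
        · exact Helper86_SimpleOddIndex.sq_eq_one_of_orderOf hc
    obtain ⟨φ, -, hφ⟩ := hT1 _ hR
    obtain ⟨a', ha'S, ha'⟩ := hφ a (Subgroup.subset_closure (by simp))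
    obtain ⟨b', hb'S, hb'⟩ := hφ b (Subgroup.subset_closure (by simp))
    obtain ⟨c', hc'S, hc'⟩ := hφ c (Subgroup.subset_closure (by simp))
    have hoa : orderOf a' = 2 := hord a' ha'S (by rw [ha', MulEquiv.orderOf_eq]; exact ha)
    have hob : orderOf b' = 2 := hord b' hb'S (by rw [hb', MulEquiv.orderOf_eq]; exact hb)
    have hoc : orderOf c' = 2 := hord c' hc'S (by rw [hc', MulEquiv.orderOf_eq]; exact hc)
    have hne : a' ≠ b' := by
      intro h
      apply hab
      apply φ.injective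
      rw [← ha', ← hb', h]
    have hcm : ∀ x y : G ⧸ pPrimeCore 2 G, ∀ x' ∈ (S : Subgroup G), ∀ y' ∈ (S : Subgroup G),
        π x' = φ x → π y' = φ y → Commute x y → Commute x' y' := by
      intro x y x' hx' y' hy' hx hy hxy
      apply hinj _ (mul_mem hx' hy') _ (mul_mem hy' hx')
      rw [map_mul, map_mul, hx, hy, ← map_mul, ← map_mul, hxy.eq]
    rcases hR2 a' b' c' ha'S hb'S hc'S hoa hob hoc hne (hcm a b a' ha'S b' hb'S ha' hb' c1)
      (hcm a c a' ha'S c' hc'S ha' hc' c2) (hcm b c b' hb'S c' hc'S hb' hc' c3) with h | h | h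
    · left
      apply φ.injective
      rw [← hc', ← ha', h]
    · right; left
      apply φ.injective
      rw [← hc', ← hb', h]
    · right; right
      apply φ.injective
      rw [← hc', map_mul, ← ha', ← hb', h, map_mul]
  · obtain ⟨p, q, hp, hq, hpo, hqo, hpq⟩ := hNC
    refine ⟨π p, π q, hinv p hpo, hinv q hqo, ?_⟩
    intro h
    apply hpq
    apply hinj _ (mul_mem hp hq) _ (mul_mem hq hp)
    rw [map_mul, map_mul]
    exact h
  · obtain ⟨s₀, hs₀⟩ := hCY
    refine ⟨S.mapSurjective hsurj, π s₀, ?_⟩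
    intro s hs
    rw [Sylow.coe_mapSurjective] at hs
    obtain ⟨s', hs', rfl⟩ := hs
    obtain ⟨k, w, hw, rfl⟩ := hs₀ s' hs'
    refine ⟨k, π w, ?_, by rw [map_mul, map_zpow]⟩
    have hle : (Subgroup.closure {t : G | orderOf t = 2}).map π ≤
        invSub (G ⧸ pPrimeCore 2 G) := by
      rw [MonoidHom.map_closure, Subgroup.closure_le]
      rintro _ ⟨t, ht, rfl⟩
      exact mem_invSub (hinv t ht)
    exact hle ⟨w, hw, rfl⟩

end main

end Cfsg.Agent.Lib.Helper86_QDWrSimple
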