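import Mathlib
import Cfsg.Prelude.Def_CaseTheorems
import Cfsg.Prelude.Def_LocalStructure
import Cfsg.Agent.Lib.Helper48_Op
import Cfsg.Agent.Lib.Helper22_Quasisimple
import Cfsg.Agent.Lib.Helper29_Local

/-!
# S2860 package QS-CENTRAL (architect helper48): a perfect central extension of a quasisimple
group is quasisimple, in the form `X/T` over `X/D`.
-/

set_option autoImplicit false

open Cfsg.Agent.Lib.Helper48_Op
open scoped commutatorElement

namespace Cfsg.Agent.Lib.Helper86_QS_CENTRAL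

theorem qs_of_central_ext {X : Type*} [Group X] (T D : Subgroup X) [T.Normal] [D.Normal]
    (hTD : T ≤ D) (hc : ⁅D, (⊤ : Subgroup X)⁆ ≤ T) (hperf : ⁅(⊤ : Subgroup X), (⊤ : Subgroup X)⁆ = ⊤)
    (hq : Cfsg.IsQuasisimple (X ⧸ D)) : Cfsg.IsQuasisimple (X ⧸ T) := by
  have hX : Group.IsPerfect X := by
    rw [Group.isPerfect_def, commutator_def]
    exact hperf
  have hXT : Group.IsPerfect (X ⧸ T) := inferInstance
  have hO : D.map (QuotientGroup.mk' T) ≤ Subgroup.center (X ⧸ T) := by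
    rintro _ ⟨d, hd, rfl⟩
    rw [Subgroup.mem_center_iff]
    intro g
    obtain ⟨x, rfl⟩ := QuotientGroup.mk'_surjective T g
    rw [← map_mul, ← map_mul, QuotientGroup.mk'_apply, QuotientGroup.mk'_apply, QuotientGroup.eq]
    apply hc
    have : (x * d)⁻¹ * (d * x) = ⁅d⁻¹, x⁻¹⁆ := by
      rw [commutatorElement_def]; group
    rw [this]
    exact Subgroup.commutator_mem_commutator (D.inv_mem hd) (Subgroup.mem_top _)
  have e : (X ⧸ T) ⧸ D.map (QuotientGroup.mk' T) ≃* X ⧸ D :=
    QuotientGroup.quotientQuotientEquivQuotient T D hTD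
  have hq' : Cfsg.IsQuasisimple ((X ⧸ T) ⧸ D.map (QuotientGroup.mk' T)) :=
    Cfsg.Agent.Lib.Helper29_Local.isQuasisimple_of_mulEquiv e.symm hq
  exact Cfsg.Agent.Lib.Helper22_Quasisimple.isQuasisimple_of_central_quotient hXT
    (D.map (QuotientGroup.mk' T)) hO hq'

end Cfsg.Agent.Lib.Helper86_QS_CENTRAL
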