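import Mathlib
import Cfsg.Agent.Lib.Helper56_RuDefs
import Cfsg.Agent.Lib.Helper56_RuBasic

/-!
# S3174 market (helper56), package IDXW: `|T : C_T(Z_3)| ≤ 8`.
Paper proof: `pending/helper56/S3174_proof.md`, IDXW.
-/

set_option autoImplicit false

open scoped commutatorElement
open Cfsg.Agent.Lib.Helper56_RuDefs Cfsg.Agent.Lib.Helper56_RuBasic

namespace Cfsg.Agent.Lib.Helper86_RU_IDXW

variable {T : Type*} [Group T]

/-- if all commutators `⁅g, z⁆` lie in the finite subgroup `Z` then `|T : C_T(z)| ≤ |Z|`. -/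
theorem index_centralizer_le (z : T) (Z : Subgroup T) [Finite Z] (h : ∀ g : T, ⁅g, z⁆ ∈ Z) :
    (Subgroup.centralizer ({z} : Set T)).index ≤ Nat.card Z := by
  have hmem : ∀ g : T, g ∈ Subgroup.centralizer ({z} : Set T) ↔ g * z = z * g := by
    intro g
    rw [Subgroup.mem_centralizer_iff]
    constructor
    · intro hg; exact (hg z rfl).symm
    · intro hg y hy
      rw [Set.mem_singleton_iff] at hy
      rw [hy]; exact hg.symm
  let f : T → Z := fun g => ⟨⁅g, z⁆, h g⟩
  have hf : ∀ a b : T, (QuotientGroup.leftRel (Subgroup.centralizer ({z} : Set T))) a b →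
      f a = f b := by
    intro a b hab
    rw [QuotientGroup.leftRel_apply, hmem] at hab
    apply Subtype.ext
    show ⁅a, z⁆ = ⁅b, z⁆
    simp only [commutatorElement_def]
    have h1 : a * z * a⁻¹ = b * z * b⁻¹ := by
      have h2 : z * (a⁻¹ * b) = (a⁻¹ * b) * z := hab.symm
      calc a * z * a⁻¹ = a * (z * (a⁻¹ * b)) * b⁻¹ := by group
        _ = a * ((a⁻¹ * b) * z) * b⁻¹ := by rw [h2]
        _ = b * z * b⁻¹ := by group
    rw [h1]
  let F : T ⧸ Subgroup.centralizer ({z} : Set T) → Z := Quotient.lift f hf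
  have hF : Function.Injective F := by
    intro x y
    refine Quotient.inductionOn₂ x y ?_
    intro a b hab
    apply Quotient.sound
    show (QuotientGroup.leftRel (Subgroup.centralizer ({z} : Set T))) a b
    rw [QuotientGroup.leftRel_apply, hmem]
    have h0 : f a = f b := hab
    have h1 : ⁅a, z⁆ = ⁅b, z⁆ := congrArg Subtype.val h0
    simp only [commutatorElement_def] at h1
    have h2 : a * z * a⁻¹ = b * z * b⁻¹ := by
      have := congrArg (fun x => x * z) h1
      simpa using this
    calc a⁻¹ * b * z = a⁻¹ * (b * z * b⁻¹) * b := by group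
      _ = a⁻¹ * (a * z * a⁻¹) * b := by rw [h2]
      _ = z * (a⁻¹ * b) := by group
  exact Nat.card_le_card_of_injective F hF

/-- a subgroup between `H` and `K` (`|K : H| = 2`) not contained in `H` is `K`. -/
theorem eq_of_card_two_mul {H K D : Subgroup T} [Finite K] (hc : Nat.card K = 2 * Nat.card H)
    (hHD : H ≤ D) (hDK : D ≤ K) {x : T} (hxD : x ∈ D) (hxH : x ∉ H) : D = K := by
  have hH : Finite H := Finite.of_injective _ (Subgroup.inclusion_injective (hHD.trans hDK))
  have hD : Finite D := Finite.of_injective _ (Subgroup.inclusion_injective hDK)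
  have hHpos : 0 < Nat.card H := Nat.card_pos
  obtain ⟨m, hm⟩ := Subgroup.card_dvd_of_le hHD
  have hdvd : Nat.card D ∣ Nat.card K := Subgroup.card_dvd_of_le hDK
  rw [hm, hc, mul_comm 2] at hdvd
  have hm2 : m ∣ 2 := (Nat.mul_dvd_mul_iff_left hHpos).1 hdvd
  rcases (Nat.dvd_prime Nat.prime_two).1 hm2 with h1 | h2
  · exfalso
    apply hxH
    have : H = D := Subgroup.eq_of_le_of_card_ge hHD (by rw [hm, h1, mul_one])
    rw [this]; exact hxD
  · exact Subgroup.eq_of_le_of_card_ge hDK (by rw [hm, h2, hc, mul_comm])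

/-- an element outside a subgroup of smaller order. -/
theorem exists_mem_not_mem {H K : Subgroup T} [Finite K] (hHK : H ≤ K)
    (hc : Nat.card H < Nat.card K) : ∃ x ∈ K, x ∉ H := by
  by_contra hcon
  push Not at hcon
  have : K ≤ H := hcon
  have := le_antisymm hHK this
  rw [this] at hc
  exact lt_irrefl _ hc

/-- IDXW. `|T : C_T(Z_3)| ≤ 8`. -/
theorem index_Wc_le [Finite T] (hT : IsPGroup 2 T)
    (hZ : ∀ i ≤ 4, Nat.card ↥(Subgroup.upperCentralSeries T i) = 2 ^ i) : (Wc T).index ≤ 8 := by
  have h1 := hZ 1 (by norm_num)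
  have h2 := hZ 2 (by norm_num)
  have h3 := hZ 3 (by norm_num)
  have h12 : Subgroup.upperCentralSeries T 1 ≤ Subgroup.upperCentralSeries T 2 :=
    Subgroup.upperCentralSeries_mono T (by norm_num)
  have h23 : Subgroup.upperCentralSeries T 2 ≤ Subgroup.upperCentralSeries T 3 :=
    Subgroup.upperCentralSeries_mono T (by norm_num)
  obtain ⟨z2, hz2, hz2'⟩ := exists_mem_not_mem h12 (by rw [h1, h2]; norm_num)
  obtain ⟨z3, hz3, hz3'⟩ := exists_mem_not_mem h23 (by rw [h2, h3]; norm_num)
  -- the centralizer of z2 and z3 centralizes Z_3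
  have hle : Subgroup.centralizer ({z2} : Set T) ⊓ Subgroup.centralizer ({z3} : Set T) ≤ Wc T := by
    intro g hg
    rw [Subgroup.mem_inf, Subgroup.mem_centralizer_iff, Subgroup.mem_centralizer_iff] at hg
    have hg2 : z2 * g = g * z2 := hg.1 z2 rfl
    have hg3 : z3 * g = g * z3 := hg.2 z3 rfl
    -- D = C_{Z_3}(g)
    set D : Subgroup T := Subgroup.upperCentralSeries T 3 ⊓ Subgroup.centralizer ({g} : Set T)
      with hD
    have hmemD : ∀ x : T, x ∈ D ↔ x ∈ Subgroup.upperCentralSeries T 3 ∧ g * x = x * g := by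
      intro x
      rw [hD, Subgroup.mem_inf, Subgroup.mem_centralizer_iff]
      constructor
      · rintro ⟨hx, hc⟩; exact ⟨hx, hc g rfl⟩
      · rintro ⟨hx, hc⟩
        refine ⟨hx, fun y hy => ?_⟩
        rw [Set.mem_singleton_iff] at hy
        rw [hy]; exact hc
    have hZ1D : Subgroup.upperCentralSeries T 1 ≤ D := by
      intro x hx
      rw [hmemD]
      refine ⟨h23 (h12 hx), ?_⟩
      rw [Subgroup.upperCentralSeries_one, Subgroup.mem_center_iff] at hx
      exact hx g
    have hz2D : z2 ∈ D := (hmemD z2).2 ⟨h23 hz2, hg2.symm⟩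
    have hz3D : z3 ∈ D := (hmemD z3).2 ⟨hz3, hg3.symm⟩
    have hZ2D : Subgroup.upperCentralSeries T 2 ≤ D := by
      have : D ⊓ Subgroup.upperCentralSeries T 2 = Subgroup.upperCentralSeries T 2 :=
        eq_of_card_two_mul (H := Subgroup.upperCentralSeries T 1) (by rw [h1, h2]; norm_num)
          (le_inf hZ1D h12) inf_le_right (x := z2) ⟨hz2D, hz2⟩ hz2'
      rw [← this]; exact inf_le_left
    have hDZ3 : D = Subgroup.upperCentralSeries T 3 :=
      eq_of_card_two_mul (H := Subgroup.upperCentralSeries T 2) (by rw [h2, h3]; norm_num)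
        hZ2D inf_le_left hz3D hz3'
    show g ∈ Subgroup.centralizer _
    rw [Subgroup.mem_centralizer_iff]
    intro x hx
    have hxD : x ∈ D := by rw [hDZ3]; exact hx
    exact ((hmemD x).1 hxD).2.symm
  -- the indices
  have hi2 : (Subgroup.centralizer ({z2} : Set T)).index ≤ 2 := by
    have := index_centralizer_le z2 (Subgroup.upperCentralSeries T 1) (fun g => by
      have h := comm_ucs 1 z2 hz2 g
      have hinv : ⁅g, z2⁆ = ⁅z2, g⁆⁻¹ := by simp only [commutatorElement_def]; group
      rw [hinv]; exact Subgroup.inv_mem _ h)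
    rwa [h1] at this
  have hi3 : (Subgroup.centralizer ({z3} : Set T)).index ≤ 4 := by
    have := index_centralizer_le z3 (Subgroup.upperCentralSeries T 2) (fun g => by
      have h := comm_ucs 2 z3 hz3 g
      have hinv : ⁅g, z3⁆ = ⁅z3, g⁆⁻¹ := by simp only [commutatorElement_def]; group
      rw [hinv]; exact Subgroup.inv_mem _ h)
    rwa [h2] at this
  have hdvd : (Wc T).index ∣
      (Subgroup.centralizer ({z2} : Set T) ⊓ Subgroup.centralizer ({z3} : Set T)).index :=
    Subgroup.index_dvd_of_le hle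
  have hne : (Subgroup.centralizer ({z2} : Set T) ⊓ Subgroup.centralizer ({z3} : Set T)).index ≠ 0 :=
    Subgroup.index_ne_zero_of_finite
  have hle2 := Nat.le_of_dvd (Nat.pos_of_ne_zero hne) hdvd
  have hinf := Subgroup.index_inf_le (H := Subgroup.centralizer ({z2} : Set T))
    (K := Subgroup.centralizer ({z3} : Set T))
  calc (Wc T).index ≤ _ := hle2
    _ ≤ _ := hinf
    _ ≤ 2 * 4 := Nat.mul_le_mul hi2 hi3
    _ = 8 := by norm_num

end Cfsg.Agent.Lib.Helper86_RU_IDXW
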