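import Mathlib

/-!
# S1906 package T (architect helper76): evaluation of the transfer at a central involution of a
Sylow 2-subgroup gives an extremal conjugate in the kernel.
-/

set_option autoImplicit false

namespace Cfsg.Agent.Lib.Helper86_S1906_T

open MulAction Subgroup Subgroup.leftTransversals

section general

variable {G : Type*} [Group G] {H : Subgroup G} {A : Type*} [CommGroup A] (lam : ↥H →* A)

open Classical in
/-- the total extension of `lam` by `1` outside `H` -/
noncomputable def ext (g : G) : A := if h : g ∈ H then lam ⟨g, h⟩ else 1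

theorem ext_of_mem {g : G} (h : g ∈ H) : ext lam g = lam ⟨g, h⟩ := by
  unfold ext
  rw [dif_pos h]

theorem ext_one : ext lam (1 : G) = 1 := by
  rw [ext_of_mem lam H.one_mem]
  exact map_one lam

theorem ext_mul {a b : G} (ha : a ∈ H) (hb : b ∈ H) :
    ext lam (a * b) = ext lam a * ext lam b := by
  rw [ext_of_mem lam ha, ext_of_mem lam hb, ext_of_mem lam (mul_mem ha hb), ← map_mul]
  rfl

theorem ext_inv {a : G} (ha : a ∈ H) : ext lam a⁻¹ = (ext lam a)⁻¹ := by
  rw [ext_of_mem lam ha, ext_of_mem lam (inv_mem ha), ← map_inv]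
  rfl

theorem ext_conj {k v : G} (hk : k ∈ H) (hv : v ∈ H) : ext lam (k⁻¹ * v * k) = ext lam v := by
  rw [ext_mul lam (mul_mem (inv_mem hk) hv) hk, ext_mul lam (inv_mem hk) hv, ext_inv lam hk]
  rw [mul_comm (ext lam k)⁻¹, mul_assoc, inv_mul_cancel, mul_one]

/-- the transfer computed with the transversal `Quotient.out` -/
theorem transfer_eq_prod_out [H.FiniteIndex] [Fintype (G ⧸ H)] (g : G) :
    MonoidHom.transfer lam g = ∏ q : G ⧸ H, ext lam ((q.out)⁻¹ * (g * (g⁻¹ • q).out)) := by
  let T : H.LeftTransversal :=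
    ⟨Set.range (Quotient.out : G ⧸ H → G), isComplement_range_left Quotient.out_eq'⟩
  have hT : ∀ q : G ⧸ H, (T.2.leftQuotientEquiv q : G) = q.out :=
    fun q => IsComplement.leftQuotientEquiv_apply (f := Quotient.out) Quotient.out_eq' q
  rw [MonoidHom.transfer_def lam T g]
  unfold diff
  simp only
  refine Finset.prod_congr ?_ (fun q _ => ?_)
  · ext q; simp
  · rw [← ext_of_mem]
    congr 1
    rw [hT, smul_apply_eq_smul_apply_inv_smul, hT]
    rfl

theorem out_inv_mul_mem (c : G) (q : G ⧸ H) : (q.out)⁻¹ * (c * (c⁻¹ • q).out) ∈ H := by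
  apply QuotientGroup.eq.mp
  rw [QuotientGroup.out_eq', ← smul_eq_mul, ← MulAction.Quotient.smul_mk, QuotientGroup.out_eq',
    smul_inv_smul]

/-- the transfer at an involution is a product over the fixed cosets -/
theorem transfer_involution [H.FiniteIndex] [Fintype (G ⧸ H)] [DecidableEq (G ⧸ H)] (c : G)
    (hc : c * c = 1) :
    MonoidHom.transfer lam c =
      ∏ q ∈ (Finset.univ : Finset (G ⧸ H)).filter (fun q => c • q = q),
        ext lam ((q.out)⁻¹ * c * q.out) := by
  have hinv : c⁻¹ = c := inv_eq_of_mul_eq_one_right hc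
  have hcc : ∀ q : G ⧸ H, c • c • q = q := fun q => by rw [← mul_smul, hc, one_smul]
  rw [transfer_eq_prod_out,
    ← Finset.prod_filter_mul_prod_filter_not Finset.univ (fun q : G ⧸ H => c • q = q)]
  have h2 : ∏ q ∈ (Finset.univ : Finset (G ⧸ H)).filter (fun q => ¬ c • q = q),
      ext lam ((q.out)⁻¹ * (c * (c⁻¹ • q).out)) = 1 := by
    refine Finset.prod_involution (fun q _ => c • q) ?_ ?_ ?_ ?_
    · intro q _
      have h1 := out_inv_mul_mem (H := H) c q
      have h2 := out_inv_mul_mem (H := H) c (c • q)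
      rw [← ext_mul lam h1 h2, hinv, hcc]
      have : (q.out)⁻¹ * (c * (c • q).out) * (((c • q).out)⁻¹ * (c * q.out)) = 1 := by
        calc (q.out)⁻¹ * (c * (c • q).out) * (((c • q).out)⁻¹ * (c * q.out))
            = (q.out)⁻¹ * (c * c) * q.out := by group
          _ = 1 := by rw [hc]; group
      rw [this, ext_one]
    · intro q hq _
      exact (Finset.mem_filter.mp hq).2
    · intro q hq
      rw [Finset.mem_filter] at hq ⊢
      refine ⟨Finset.mem_univ _, fun h => hq.2 ?_⟩
      have := congrArg (fun r => c • r) h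
      simp only [hcc] at this
      exact this
    · intro q _
      exact hcc q
  rw [h2, mul_one]
  refine Finset.prod_congr rfl (fun q hq => ?_)
  have hq' : c • q = q := (Finset.mem_filter.mp hq).2
  rw [hinv, hq', mul_assoc]

end general

/-- a product of values in `{1, a}` with `a` of order two -/
theorem even_of_prod_eq_one {ι A : Type*} [CommGroup A] [DecidableEq A] (s : Finset ι)
    (f : ι → A) (a : A) (ha : a ≠ 1) (ha2 : a ^ 2 = 1)
    (hf : ∀ i ∈ s, f i = 1 ∨ f i = a) (hprod : ∏ i ∈ s, f i = 1) :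
    Even (s.filter (fun i => f i ≠ 1)).card := by
  have h1 : ∏ i ∈ s, f i = ∏ i ∈ s, (if f i ≠ 1 then a else 1) := by
    refine Finset.prod_congr rfl (fun i hi => ?_)
    rcases hf i hi with h | h
    · rw [if_neg (by simp [h]), h]
    · rw [if_pos (by rw [h]; exact ha), h]
  rw [h1, Finset.prod_ite, Finset.prod_const_one, mul_one, Finset.prod_const] at hprod
  by_contra hodd
  rw [Nat.not_even_iff_odd] at hodd
  obtain ⟨k, hk⟩ := hodd
  rw [hk, pow_succ, pow_mul, ha2, one_pow, one_mul] at hprod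
  exact ha hprod

theorem core {G : Type*} [Group G] [Finite G] (H : Subgroup G) (hHp : IsPGroup 2 ↥H)
    (hidx : ¬ 2 ∣ H.index)
    {A : Type*} [CommGroup A]
    (hA : ∀ a b : A, a ^ 2 = 1 → b ^ 2 = 1 → a ≠ 1 → b ≠ 1 → a = b)
    (lam : ↥H →* A) (c : ↥H)
    (hc : c ∈ Subgroup.center ↥H) (hc2 : c ^ 2 = 1)
    (htr : MonoidHom.transfer lam (c : G) = 1) :
    ∃ (x : G) (v : ↥H), (v : G) = x⁻¹ * (c : G) * x ∧
      v ∈ Subgroup.center ↥H ∧ lam v = 1 := by
  classical
  have : Fact (Nat.Prime 2) := ⟨Nat.prime_two⟩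
  let _ : Fintype (G ⧸ H) := Fintype.ofFinite _
  have hcc : (c : G) * (c : G) = 1 := by
    have h := congrArg Subtype.val hc2
    simpa [pow_two] using h
  have hcomm : ∀ h ∈ H, h * (c : G) = (c : G) * h := by
    intro h hh
    have h1 := Subgroup.mem_center_iff.mp hc ⟨h, hh⟩
    exact congrArg Subtype.val h1
  have hform := transfer_involution lam (c : G) hcc
  rw [htr] at hform
  -- membership for fixed cosets
  have hmem : ∀ y : G, (c : G) • (y : G ⧸ H) = (y : G ⧸ H) → y⁻¹ * (c : G) * y ∈ H := by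
    intro y hy
    rw [mul_assoc]
    apply QuotientGroup.eq.mp
    rw [← smul_eq_mul, ← MulAction.Quotient.smul_mk, hy]
  have hmem' : ∀ q : G ⧸ H, (c : G) • q = q → (q.out)⁻¹ * (c : G) * q.out ∈ H := by
    intro q hq
    apply hmem
    rw [QuotientGroup.out_eq']
    exact hq
  -- independence of the representative
  have hrep : ∀ y : G, (c : G) • (y : G ⧸ H) = (y : G ⧸ H) →
      ext lam (((y : G ⧸ H).out)⁻¹ * (c : G) * (y : G ⧸ H).out) = ext lam (y⁻¹ * (c : G) * y) := by
    intro y hy
    obtain ⟨k, hk⟩ := QuotientGroup.mk_out_eq_mul H y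
    rw [hk]
    have e : (y * (k : G))⁻¹ * (c : G) * (y * (k : G)) = (k : G)⁻¹ * (y⁻¹ * (c : G) * y) * (k : G) := by
      group
    rw [e, ext_conj lam k.2 (hmem y hy)]
  set val : G ⧸ H → A := fun q => ext lam ((q.out)⁻¹ * (c : G) * q.out) with hval
  set Fix : Finset (G ⧸ H) := Finset.univ.filter (fun q => (c : G) • q = q) with hFix
  have hval2 : ∀ q ∈ Fix, val q ^ 2 = 1 := by
    intro q hq
    have hq' : (c : G) • q = q := (Finset.mem_filter.mp hq).2
    have h1 := hmem' q hq'
    rw [pow_two, hval]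
    simp only
    rw [← ext_mul lam h1 h1]
    have e : (q.out)⁻¹ * (c : G) * q.out * ((q.out)⁻¹ * (c : G) * q.out) =
        (q.out)⁻¹ * ((c : G) * (c : G)) * q.out := by group
    rw [e, hcc, mul_one, inv_mul_cancel, ext_one]
  -- parity of the number of fixed cosets
  have hFixodd : Odd Fix.card := by
    let f : Function.End (G ⧸ H) := fun q => (c : G) • q
    have hf : f ^ 2 ^ 1 = 1 := by
      rw [pow_one, pow_two]
      funext q
      show (c : G) • (c : G) • q = q
      rw [← mul_smul, hcc, one_smul]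
    have h1 := Equiv.Perm.card_fixedPoints_modEq (p := 2) (n := 1) hf
    have h2 : Fintype.card (Function.fixedPoints f) = Fix.card := by
      apply Fintype.card_of_subtype
      intro q
      rw [hFix, Finset.mem_filter]
      exact ⟨fun h => h.2, fun h => ⟨Finset.mem_univ _, h⟩⟩
    rw [h2] at h1
    have h3 : Fintype.card (G ⧸ H) = H.index := by
      rw [Subgroup.index, Nat.card_eq_fintype_card]
    rw [h3] at h1
    have h4 : ¬ 2 ∣ H.index := hidx
    rw [Nat.odd_iff]
    have := h1.symm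
    unfold Nat.ModEq at this
    omega
  -- the good fixed cosets
  set Good : Finset (G ⧸ H) := Fix.filter (fun q => val q = 1) with hGood
  have hGoododd : Odd Good.card := by
    have hsplit := Finset.card_filter_add_card_filter_not (s := Fix)
      (fun q => val q = 1)
    by_cases hex : ∃ q₀ ∈ Fix, val q₀ ≠ 1
    · obtain ⟨q₀, hq₀, hne⟩ := hex
      have heven : Even (Fix.filter (fun q => ¬ val q = 1)).card :=
        even_of_prod_eq_one Fix val (val q₀) hne (hval2 q₀ hq₀)
        (fun q hq => by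
          by_cases h1 : val q = 1
          · exact Or.inl h1
          · exact Or.inr (hA _ _ (hval2 q hq) (hval2 q₀ hq₀) h1 hne)) hform.symm
      rw [← hGood] at hsplit
      rcases hFixodd with ⟨a, ha⟩
      rcases heven with ⟨b, hb⟩
      rw [Nat.odd_iff]
      omega
    · push Not at hex
      have : Good = Fix := Finset.filter_true_of_mem hex
      rw [this]
      exact hFixodd
  -- the action of `H` on the good cosets
  let S : SubMulAction ↥H (G ⧸ H) :=
    { carrier := {q | (c : G) • q = q ∧ val q = 1}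
      smul_mem' := by
        rintro ⟨h, hh⟩ q ⟨hq1, hq2⟩
        have hfix : (c : G) • ((⟨h, hh⟩ : ↥H) • q) = (⟨h, hh⟩ : ↥H) • q := by
          show (c : G) • (h • q) = h • q
          rw [← mul_smul, ← hcomm h hh, mul_smul, hq1]
        refine ⟨hfix, ?_⟩
        have e1 : ((⟨h, hh⟩ : ↥H) • q) = ((h * q.out : G) : G ⧸ H) := by
          show h • q = _
          conv_lhs => rw [← QuotientGroup.out_eq' q]
          rw [← smul_eq_mul h q.out, MulAction.Quotient.smul_mk]
        have hfix' : (c : G) • ((h * q.out : G) : G ⧸ H) = ((h * q.out : G) : G ⧸ H) := by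
          rw [← e1]; exact hfix
        show val ((⟨h, hh⟩ : ↥H) • q) = 1
        rw [e1, hval]
        simp only
        rw [hrep (h * q.out) hfix']
        have e2 : (h * q.out)⁻¹ * (c : G) * (h * q.out) = (q.out)⁻¹ * (c : G) * q.out := by
          calc (h * q.out)⁻¹ * (c : G) * (h * q.out)
              = (q.out)⁻¹ * (h⁻¹ * ((c : G) * h)) * q.out := by group
            _ = (q.out)⁻¹ * (c : G) * q.out := by rw [← hcomm h hh]; group
        rw [e2]
        exact hq2 }
  have hScard : Nat.card ↥S = Good.card := by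
    rw [Nat.card_eq_fintype_card]
    apply Fintype.card_of_subtype
    intro q
    rw [hGood, Finset.mem_filter, hFix, Finset.mem_filter]
    exact ⟨fun h => ⟨h.1.2, h.2⟩, fun h => ⟨⟨Finset.mem_univ _, h.1⟩, h.2⟩⟩
  have hnd : ¬ 2 ∣ Nat.card ↥S := by
    rw [hScard]
    rcases hGoododd with ⟨a, ha⟩
    omega
  obtain ⟨⟨q, hqS⟩, hqfix⟩ := hHp.nonempty_fixed_point_of_prime_not_dvd_card ↥S hnd
  obtain ⟨hq1, hq2⟩ := hqS
  -- `q` is fixed by all of `H`
  have hqH : ∀ h ∈ H, h • q = q := by
    intro h hh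
    have h1 := MulAction.mem_fixedPoints.mp hqfix ⟨h, hh⟩
    exact congrArg Subtype.val h1
  set y : G := q.out with hy
  have hv : y⁻¹ * (c : G) * y ∈ H := hmem' q hq1
  -- `y` normalizes `H`
  have hnorm : ∀ h ∈ H, y⁻¹ * h * y ∈ H := by
    intro h hh
    have h1 := hqH h hh
    rw [mul_assoc]
    apply QuotientGroup.eq.mp
    rw [← smul_eq_mul, ← MulAction.Quotient.smul_mk, hy, QuotientGroup.out_eq']
    exact h1.symm
  have hsurj : ∀ k ∈ H, ∃ h ∈ H, k = y⁻¹ * h * y := by
    let φ : ↥H → ↥H := fun h => ⟨y⁻¹ * (h : G) * y, hnorm h h.2⟩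
    have hinj : Function.Injective φ := by
      intro a b hab
      have h1 : y⁻¹ * (a : G) * y = y⁻¹ * (b : G) * y := congrArg Subtype.val hab
      apply Subtype.ext
      have h2 := mul_right_cancel h1
      exact mul_left_cancel h2
    have hsur := Finite.surjective_of_injective hinj
    intro k hk
    obtain ⟨h, hh⟩ := hsur ⟨k, hk⟩
    exact ⟨h, h.2, (congrArg Subtype.val hh).symm⟩
  refine ⟨y, ⟨y⁻¹ * (c : G) * y, hv⟩, rfl, ?_, ?_⟩
  · rw [Subgroup.mem_center_iff]
    rintro ⟨k, hk⟩
    obtain ⟨h, hh, rfl⟩ := hsurj k hk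
    apply Subtype.ext
    show y⁻¹ * h * y * (y⁻¹ * (c : G) * y) = y⁻¹ * (c : G) * y * (y⁻¹ * h * y)
    calc y⁻¹ * h * y * (y⁻¹ * (c : G) * y) = y⁻¹ * (h * (c : G)) * y := by group
      _ = y⁻¹ * ((c : G) * h) * y := by rw [hcomm h hh]
      _ = y⁻¹ * (c : G) * y * (y⁻¹ * h * y) := by group
  · rw [← ext_of_mem lam hv]
    exact hq2

theorem exists_central_conj_of_transfer_eq_one {G : Type*} [Group G] [Finite G] (X : Sylow 2 G)
    {A : Type*} [CommGroup A]
    (hA : ∀ a b : A, a ^ 2 = 1 → b ^ 2 = 1 → a ≠ 1 → b ≠ 1 → a = b)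
    (lam : ↥(X : Subgroup G) →* A) (c : ↥(X : Subgroup G))
    (hc : c ∈ Subgroup.center ↥(X : Subgroup G)) (hc2 : c ^ 2 = 1)
    (htr : MonoidHom.transfer lam (c : G) = 1) :
    ∃ (x : G) (v : ↥(X : Subgroup G)), (v : G) = x⁻¹ * (c : G) * x ∧
      v ∈ Subgroup.center ↥(X : Subgroup G) ∧ lam v = 1 := by
  have : Fact (Nat.Prime 2) := ⟨Nat.prime_two⟩
  exact core (X : Subgroup G) X.isPGroup' X.not_dvd_index hA lam c hc hc2 htr

end Cfsg.Agent.Lib.Helper86_S1906_T
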