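import Mathlib
import Cfsg.Agent.Lib.Helper17_ExcApply
import Cfsg.Agent.Lib.Helper16_M11_BR

/-!
# S0496 / order 720, package SO-720-DEG (architect helper76)

A simple group of order `720` with a self-centralizing Sylow 5-subgroup whose normalizer has
order `20` has an irreducible character of degree `4` (Brauer's theorem on blocks of defect one
with `e = 4`, plus arithmetic).
-/

set_option autoImplicit false

namespace Cfsg.Agent.Lib.Helper86_SO_720DEG

open Cfsg Cfsg.Agent.Lib.Helper17_Sylow Cfsg.Agent.Lib.Helper17_ExcApply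
  Cfsg.Agent.Lib.Helper80_CharBasic Subgroup

/-- arithmetic on one degree: the signed degree of a nontrivial character of degree prime to 5,
different from 4 -/
theorem deg_cases (d : ℕ) (t : ℤ) (ht : t = 1 ∨ t = -1) (h2 : 2 ≤ d) (hdvd : d ∣ 720)
    (hsq : 1 + d ^ 2 ≤ 720) (hcong : (d : ℤ) ≡ t [ZMOD 5]) (h4 : d ≠ 4) :
    t * d = 6 ∨ t * d = -9 ∨ t * d = 16 ∨ t * d = -24 := by
  have hle : d ≤ 26 := by nlinarith
  unfold Int.ModEq at hcong
  rcases ht with rfl | rfl
  · have h1 : (d : ℤ) % 5 = 1 := by omega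
    interval_cases d <;> omega
  · have h1 : (d : ℤ) % 5 = 4 := by omega
    interval_cases d <;> omega

/-- the final arithmetic: four signed degrees cannot sum to `-1` with squares summing to at most
`719` -/
theorem four_vals (a b c d : ℤ) (ha : a = 6 ∨ a = -9 ∨ a = 16 ∨ a = -24)
    (hb : b = 6 ∨ b = -9 ∨ b = 16 ∨ b = -24) (hc : c = 6 ∨ c = -9 ∨ c = 16 ∨ c = -24)
    (hd : d = 6 ∨ d = -9 ∨ d = 16 ∨ d = -24)
    (hsum : a + b + c + d = -1) (hsq : a * a + b * b + c * c + d * d ≤ 719) : False := by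
  rcases ha with rfl | rfl | rfl | rfl <;> rcases hb with rfl | rfl | rfl | rfl <;>
  rcases hc with rfl | rfl | rfl | rfl <;> rcases hd with rfl | rfl | rfl | rfl <;> omega

theorem exists_irr_deg_four {G : Type*} [Group G] [Finite G] [IsSimpleGroup G]
    (hG : ¬ IsMulCommutative G) [Fact (Nat.Prime 5)] (h : Nat.card G = 720) (P : Sylow 5 G)
    (hP : Nat.card (P : Subgroup G) = 5)
    (hC : centralizer ((P : Subgroup G) : Set G) = (P : Subgroup G))
    (hN : Nat.card (normalizer ((P : Subgroup G) : Set G)) = 20) :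
    ∃ χ : Cfsg.IrrCharacter G, Cfsg.charDegree (χ : G → ℂ) = 4 := by
  classical
  cases nonempty_fintype G
  by_contra hno
  push Not at hno
  obtain ⟨X, Y, s, ε, hdisj, hXc, hYc, hXY, hX, hε, hYcong, hYrel⟩ :=
    Cfsg.Agent.Lib.Helper16_M11_BR.BR 5 P hP hC 4 (by rw [hN])
  have hYc1 : Y.card = 1 := by omega
  obtain ⟨ψ, hYψ⟩ := Finset.card_eq_one.mp hYc1
  have hψY : ψ ∈ Y := by rw [hYψ]; simp
  set v : IrrCharacter G → ℤ :=
    fun χ => if χ ∈ Y then -ε * (deg χ : ℤ) else s χ * (deg χ : ℤ) with hv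
  have hZsum : ∑ χ ∈ X ∪ Y, v χ = 0 := by
    rw [Finset.sum_union hdisj]
    have h1 : ∑ χ ∈ X, v χ = ∑ χ ∈ X, s χ * (deg χ : ℤ) :=
      Finset.sum_congr rfl (fun χ hχ => by
        simp only [hv, if_neg (Finset.disjoint_left.mp hdisj hχ)])
    have h2 : ∑ χ ∈ Y, v χ = -ε * (deg ψ : ℤ) := by
      rw [hYψ, Finset.sum_singleton]
      simp only [hv, if_pos hψY]
    have h3 := hYrel ψ hψY
    rw [h1, h2]
    unfold deg
    rw [← h3]
    ring
  have h1deg : deg (oneIrr G) = 1 := deg_oneIrr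
  have h1Z : oneIrr G ∈ X ∪ Y := by
    rw [Finset.mem_union]
    refine (hXY _).mp ?_
    have : charDegree ((oneIrr G : IrrCharacter G) : G → ℂ) = 1 := h1deg
    rw [this]; norm_num
  -- every member of `X ∪ Y` has a sign
  have hsign : ∀ χ ∈ X ∪ Y, ∃ t : ℤ, (t = 1 ∨ t = -1) ∧ ((deg χ : ℕ) : ℤ) ≡ t [ZMOD 5] ∧
      v χ = t * (deg χ : ℤ) := by
    intro χ hχ
    by_cases hY : χ ∈ Y
    · refine ⟨-ε, ?_, ?_, ?_⟩
      · rcases hε with rfl | rfl <;> simp
      · have := hYcong χ hY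
        unfold Int.ModEq at this ⊢
        unfold deg
        rcases hε with rfl | rfl <;> omega
      · simp only [hv, if_pos hY]
    · have hXm : χ ∈ X := by
        rcases Finset.mem_union.mp hχ with h' | h'
        · exact h'
        · exact absurd h' hY
      obtain ⟨h1, h2⟩ := hX χ hXm
      exact ⟨s χ, h1, h2, by simp only [hv, if_neg hY]⟩
  have hv1 : v (oneIrr G) = 1 := by
    obtain ⟨t, ht, hcong, hvt⟩ := hsign _ h1Z
    rw [hvt, h1deg]
    rw [h1deg] at hcong
    unfold Int.ModEq at hcong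
    rcases ht with rfl | rfl
    · simp
    · omega
  have hvals : ∀ χ ∈ (X ∪ Y).erase (oneIrr G),
      (v χ = 6 ∨ v χ = -9 ∨ v χ = 16 ∨ v χ = -24) ∧ v χ * v χ = ((deg χ ^ 2 : ℕ) : ℤ) := by
    intro χ hχ
    obtain ⟨hne, hmem⟩ := Finset.mem_erase.mp hχ
    obtain ⟨t, ht, hcong, hvt⟩ := hsign χ hmem
    have hdc := deg_cases (deg χ) t ht (two_le_deg_of_simple hG χ hne)
      (by have := deg_dvd_card χ; rwa [h] at this)
      (by have := one_add_sq_le χ hne; rwa [h] at this) hcong (hno χ)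
    refine ⟨by rw [hvt]; exact hdc, ?_⟩
    rw [hvt]
    push_cast
    rcases ht with rfl | rfl <;> ring
  have hcardZ : ((X ∪ Y).erase (oneIrr G)).card = 4 := by
    rw [Finset.card_erase_of_mem h1Z, Finset.card_union_of_disjoint hdisj, hXc, hYc1]
  have hsumZ' : ∑ χ ∈ (X ∪ Y).erase (oneIrr G), v χ = -1 := by
    have := Finset.add_sum_erase (X ∪ Y) v h1Z
    rw [hv1, hZsum] at this
    linarith
  have hsq : ∑ χ ∈ (X ∪ Y).erase (oneIrr G), v χ * v χ ≤ 719 := by
    have hsub : insert (oneIrr G) ((X ∪ Y).erase (oneIrr G)) ⊆ Finset.univ :=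
      Finset.subset_univ _
    have h2 := Finset.sum_le_sum_of_subset (f := fun χ : IrrCharacter G => deg χ ^ 2) hsub
    rw [Finset.sum_insert (Finset.notMem_erase _ _), sum_sq_deg, h, h1deg] at h2
    have h3 : ∑ χ ∈ (X ∪ Y).erase (oneIrr G), v χ * v χ =
        ((∑ χ ∈ (X ∪ Y).erase (oneIrr G), deg χ ^ 2 : ℕ) : ℤ) := by
      rw [Nat.cast_sum]
      exact Finset.sum_congr rfl (fun χ hχ => (hvals χ hχ).2)
    rw [h3]
    omega
  let e := (Finset.equivFinOfCardEq hcardZ).symm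
  have hs1 : ∑ i : Fin 4, v (e i) = -1 := by
    rw [← hsumZ', ← Finset.sum_coe_sort ((X ∪ Y).erase (oneIrr G)) v]
    exact Equiv.sum_comp e (fun x => v x)
  have hs2 : ∑ i : Fin 4, v (e i) * v (e i) ≤ 719 := by
    have : ∑ i : Fin 4, v (e i) * v (e i) = ∑ χ ∈ (X ∪ Y).erase (oneIrr G), v χ * v χ := by
      rw [← Finset.sum_coe_sort ((X ∪ Y).erase (oneIrr G)) (fun χ => v χ * v χ)]
      exact Equiv.sum_comp e (fun x => v x * v x)
    rw [this]
    exact hsq
  rw [Fin.sum_univ_four] at hs1 hs2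
  exact four_vals _ _ _ _ (hvals _ (e 0).2).1 (hvals _ (e 1).2).1 (hvals _ (e 2).2).1
    (hvals _ (e 3).2).1 hs1 hs2

end Cfsg.Agent.Lib.Helper86_SO_720DEG
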