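import Mathlib
import Cfsg.Prelude.Def_LinearParabolics
import Cfsg.Agent.Lib.Helper99_StGLDefs

/-!
# S2425 package StGL-B1 (architect helper99): the Moebius recursion for the lattice of invariant
subspaces.
-/

set_option autoImplicit false
open Polynomial

namespace Cfsg.Agent.Lib.Helper86_StGL_B1
open Cfsg.Agent.Lib.Helper99_StGLDefs

variable {F : Type*} [Field F] {V : Type*} [AddCommGroup V] [Module F V]

/-- a nonempty finite chain of subspaces contains its supremum -/
theorem sup_mem_of_chain (C : Finset (Submodule F V))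
    (hC : IsChain (· ≤ ·) (C : Set (Submodule F V))) (hne : C.Nonempty) : C.sup id ∈ C := by
  have h := Finset.sup'_mem (C : Set (Submodule F V)) (fun x hx y hy => by
    rcases hC.total hx hy with h | h
    · rw [sup_eq_right.mpr h]; exact hy
    · rw [sup_eq_left.mpr h]; exact hx) C hne id (fun i hi => hi)
  rw [Finset.sup'_eq_sup] at h
  exact h

theorem isMidChain_empty (T : Module.End F V) (B : Submodule F V) : IsMidChain T B ∅ := by
  refine ⟨fun W hW => absurd hW (Finset.notMem_empty W), ?_⟩
  rw [Finset.coe_empty]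
  exact Set.Subsingleton.isChain Set.subsingleton_empty

theorem isMidChain_erase_sup {T : Module.End F V} {B : Submodule F V}
    {C : Finset (Submodule F V)} (h : IsMidChain T B C) :
    IsMidChain T (C.sup id) (C.erase (C.sup id)) := by
  classical
  refine ⟨fun W hW => ?_, ?_⟩
  · obtain ⟨hne, hmem⟩ := Finset.mem_erase.mp hW
    obtain ⟨h1, h2, -⟩ := h.1 W hmem
    refine ⟨h1, h2, lt_of_le_of_ne ?_ hne⟩
    exact Finset.le_sup (f := id) hmem
  · exact h.2.mono (by
      intro x hx
      exact Finset.mem_of_mem_erase (Finset.mem_coe.mp hx))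

theorem isMidChain_insert {T : Module.End F V} {B W : Submodule F V}
    {C : Finset (Submodule F V)} (hW : W ∈ T.invtSubmodule) (h0 : ⊥ < W) (hB : W < B)
    (h : IsMidChain T W C) : IsMidChain T B (insert W C) := by
  classical
  refine ⟨fun U hU => ?_, ?_⟩
  · rcases Finset.mem_insert.mp hU with rfl | hU
    · exact ⟨hW, h0, hB⟩
    · obtain ⟨h1, h2, h3⟩ := h.1 U hU
      exact ⟨h1, h2, h3.trans hB⟩
  · rw [Finset.coe_insert]
    refine h.2.insert ?_
    intro U hU _
    right
    exact (h.1 U (Finset.mem_coe.mp hU)).2.2.le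

theorem sup_insert_of_midChain {T : Module.End F V} {W : Submodule F V}
    {C : Finset (Submodule F V)} (h : IsMidChain T W C) [DecidableEq (Submodule F V)] :
    (insert W C).sup id = W := by
  rw [Finset.sup_insert, id]
  apply sup_eq_left.mpr
  exact Finset.sup_le (fun U hU => (h.1 U hU).2.2.le)

theorem notMem_of_midChain {T : Module.End F V} {W : Submodule F V}
    {C : Finset (Submodule F V)} (h : IsMidChain T W C) : W ∉ C :=
  fun hW => lt_irrefl W (h.1 W hW).2.2

open Classical in
/-- splitting the chains by their largest member -/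
theorem chi_rec [Finite V] [Fintype (Submodule F V)] (T : Module.End F V) (B : Submodule F V) :
    chi T B = 1 - ∑ W ∈ (Finset.univ : Finset (Submodule F V)).filter
      (fun W => W ∈ T.invtSubmodule ∧ ⊥ < W ∧ W < B), chi T W := by
  classical
  rw [chi_eq T B]
  have hsplit : (Finset.univ : Finset (Finset (Submodule F V))).filter (fun C => IsMidChain T B C) =
      insert ∅ ((Finset.univ : Finset (Finset (Submodule F V))).filter
        (fun C => IsMidChain T B C ∧ C.Nonempty)) := by
    ext C
    simp only [Finset.mem_filter, Finset.mem_univ, true_and, Finset.mem_insert]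
    constructor
    · intro h
      rcases C.eq_empty_or_nonempty with h0 | h0
      · exact Or.inl h0
      · exact Or.inr ⟨h, h0⟩
    · rintro (rfl | h)
      · exact isMidChain_empty T B
      · exact h.1
  rw [hsplit, Finset.sum_insert (by simp), Finset.card_empty, pow_zero, sub_eq_add_neg]
  congr 1
  have hchi : ∀ W : Submodule F V, chi T W =
      ∑ C ∈ (Finset.univ : Finset (Finset (Submodule F V))).filter (fun C => IsMidChain T W C),
        (-1 : ℤ) ^ C.card := fun W => chi_eq T W
  rw [Finset.sum_congr rfl (fun W _ => hchi W), ← Finset.sum_neg_distrib]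
  simp only [← Finset.sum_neg_distrib]
  rw [Finset.sum_sigma']
  refine Finset.sum_nbij' (fun C => ⟨C.sup id, C.erase (C.sup id)⟩)
    (fun x => insert x.1 x.2) ?_ ?_ ?_ ?_ ?_
  · intro C hC
    simp only [Finset.mem_filter, Finset.mem_univ, true_and] at hC
    obtain ⟨hmid, hne⟩ := hC
    simp only [Finset.mem_sigma, Finset.mem_filter, Finset.mem_univ, true_and]
    exact ⟨hmid.1 _ (sup_mem_of_chain C hmid.2 hne), isMidChain_erase_sup hmid⟩
  · rintro ⟨W, C'⟩ hx
    simp only [Finset.mem_sigma, Finset.mem_filter, Finset.mem_univ, true_and] at hx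
    obtain ⟨⟨h1, h2, h3⟩, hmid⟩ := hx
    simp only [Finset.mem_filter, Finset.mem_univ, true_and]
    exact ⟨isMidChain_insert h1 h2 h3 hmid, Finset.insert_nonempty _ _⟩
  · intro C hC
    simp only [Finset.mem_filter, Finset.mem_univ, true_and] at hC
    obtain ⟨hmid, hne⟩ := hC
    exact Finset.insert_erase (sup_mem_of_chain C hmid.2 hne)
  · rintro ⟨W, C'⟩ hx
    simp only [Finset.mem_sigma, Finset.mem_filter, Finset.mem_univ, true_and] at hx
    obtain ⟨-, hmid⟩ := hx
    have e1 : (insert W C').sup id = W := sup_insert_of_midChain hmid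
    simp only [e1]
    rw [Finset.erase_insert (notMem_of_midChain hmid)]
  · intro C hC
    simp only [Finset.mem_filter, Finset.mem_univ, true_and] at hC
    obtain ⟨hmid, hne⟩ := hC
    have hmem := sup_mem_of_chain C hmid.2 hne
    have hcard : C.card = (C.erase (C.sup id)).card + 1 := by
      rw [Finset.card_erase_of_mem hmem]
      have : 0 < C.card := Finset.card_pos.mpr hne
      omega
    show (-1 : ℤ) ^ C.card = -(-1 : ℤ) ^ (C.erase (C.sup id)).card
    rw [hcard, pow_succ]
    ring_nf

theorem B1 [Finite V] [Fintype (Submodule F V)] (T : Module.End F V) (B : Submodule F V) (hB : B ≠ ⊥)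
    [DecidablePred (fun W : Submodule F V => W ∈ T.invtSubmodule ∧ W < B)] :
    nu T B = - ∑ W ∈ (Finset.univ : Finset (Submodule F V)).filter
      (fun W => W ∈ T.invtSubmodule ∧ W < B), nu T W := by
  classical
  rw [nu_of_ne_bot T hB, chi_rec T B]
  have hset : (Finset.univ : Finset (Submodule F V)).filter
      (fun W => W ∈ T.invtSubmodule ∧ W < B) =
      insert ⊥ ((Finset.univ : Finset (Submodule F V)).filter
        (fun W => W ∈ T.invtSubmodule ∧ ⊥ < W ∧ W < B)) := by
    ext W
    simp only [Finset.mem_filter, Finset.mem_univ, true_and, Finset.mem_insert]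
    constructor
    · rintro ⟨h1, h2⟩
      by_cases hW : W = ⊥
      · exact Or.inl hW
      · exact Or.inr ⟨h1, bot_lt_iff_ne_bot.mpr hW, h2⟩
    · rintro (rfl | ⟨h1, -, h3⟩)
      · exact ⟨Module.End.invtSubmodule.bot_mem T, bot_lt_iff_ne_bot.mpr hB⟩
      · exact ⟨h1, h3⟩
  have hset' : ∑ W ∈ (Finset.univ : Finset (Submodule F V)).filter
      (fun W => W ∈ T.invtSubmodule ∧ W < B), nu T W =
      ∑ W ∈ insert ⊥ ((Finset.univ : Finset (Submodule F V)).filter
        (fun W => W ∈ T.invtSubmodule ∧ ⊥ < W ∧ W < B)), nu T W := by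
    rw [← hset]
  rw [hset', Finset.sum_insert (by simp), nu_bot]
  have hnu : ∑ W ∈ (Finset.univ : Finset (Submodule F V)).filter
      (fun W => W ∈ T.invtSubmodule ∧ ⊥ < W ∧ W < B), nu T W =
      - ∑ W ∈ (Finset.univ : Finset (Submodule F V)).filter
      (fun W => W ∈ T.invtSubmodule ∧ ⊥ < W ∧ W < B), chi T W := by
    rw [← Finset.sum_neg_distrib]
    refine Finset.sum_congr rfl (fun W hW => ?_)
    simp only [Finset.mem_filter, Finset.mem_univ, true_and] at hW
    exact nu_of_ne_bot T (bot_lt_iff_ne_bot.mp hW.2.1)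
  rw [hnu]
  ring

end Cfsg.Agent.Lib.Helper86_StGL_B1
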