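import Mathlib
import Cfsg.Prelude.Def_LinearParabolics
import Cfsg.Agent.Lib.Helper99_StGLDefs
import Cfsg.Agent.Lib.Helper86_StGL_B1

/-!
# S2425 package StGL-B2 (architect helper99): the Moebius number of the lattice of invariant
subspaces is multiplicative on `A ⊔ A'` when coprime polynomials in `T` kill `A` and `A'`.
-/

set_option autoImplicit false
set_option linter.unusedSectionVars false
open Polynomial

namespace Cfsg.Agent.Lib.Helper86_StGL_B2
open Cfsg.Agent.Lib.Helper99_StGLDefs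

variable {F : Type*} [Field F] {V : Type*} [AddCommGroup V] [Module F V]

theorem pow_mem_of_invt {T : Module.End F V} {U : Submodule F V} (hU : U ∈ T.invtSubmodule)
    (n : ℕ) {x : V} (hx : x ∈ U) : (T ^ n) x ∈ U := by
  induction n generalizing x with
  | zero => simpa using hx
  | succ n ih =>
    rw [pow_succ, Module.End.mul_apply]
    exact ih (hU hx)

theorem aeval_mem_of_invt {T : Module.End F V} {U : Submodule F V} (hU : U ∈ T.invtSubmodule)
    (q : F[X]) {x : V} (hx : x ∈ U) : aeval T q x ∈ U := by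
  rw [Polynomial.aeval_eq_sum_range, LinearMap.sum_apply]
  refine Submodule.sum_mem _ (fun i _ => ?_)
  rw [LinearMap.smul_apply]
  exact U.smul_mem _ (pow_mem_of_invt hU i hx)

section coprime

variable {T : Module.End F V} {u u' p p' : F[X]} (hb : u * p + u' * p' = 1)
include hb

theorem proj_eq_self {x : V} (hx : x ∈ LinearMap.ker (aeval T p)) :
    aeval T (u' * p') x = x := by
  have h1 : aeval T (u * p + u' * p') x = x := by rw [hb]; simp
  rw [map_add, LinearMap.add_apply] at h1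
  have h2 : aeval T (u * p) x = 0 := by
    rw [map_mul, Module.End.mul_apply, LinearMap.mem_ker.mp hx, map_zero]
  rw [h2, zero_add] at h1
  exact h1

theorem proj_eq_zero {x : V} (hx : x ∈ LinearMap.ker (aeval T p')) :
    aeval T (u' * p') x = 0 := by
  rw [map_mul, Module.End.mul_apply, LinearMap.mem_ker.mp hx, map_zero]

theorem ker_inf_ker : LinearMap.ker (aeval T p) ⊓ LinearMap.ker (aeval T p') = ⊥ := by
  rw [eq_bot_iff]
  rintro x ⟨h1, h2⟩
  rw [Submodule.mem_bot, ← proj_eq_self hb h1, proj_eq_zero hb h2]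

/-- an invariant subspace of `W₁ ⊔ W₂` splits -/
theorem inf_sup_inf {U W₁ W₂ : Submodule F V} (hU : U ∈ T.invtSubmodule)
    (h1 : W₁ ≤ LinearMap.ker (aeval T p)) (h2 : W₂ ≤ LinearMap.ker (aeval T p'))
    (hle : U ≤ W₁ ⊔ W₂) : (U ⊓ W₁) ⊔ (U ⊓ W₂) = U := by
  apply le_antisymm (sup_le inf_le_left inf_le_left)
  intro x hx
  obtain ⟨w₁, hw₁, w₂, hw₂, rfl⟩ := Submodule.mem_sup.mp (hle hx)
  have he : aeval T (u' * p') (w₁ + w₂) = w₁ := by
    rw [map_add, proj_eq_self hb (h1 hw₁), proj_eq_zero hb (h2 hw₂), add_zero]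
  have hw₁U : w₁ ∈ U := by
    rw [← he]
    exact aeval_mem_of_invt hU _ hx
  have hw₂U : w₂ ∈ U := by
    have : w₂ = (w₁ + w₂) - w₁ := by abel
    rw [this]
    exact U.sub_mem hx hw₁U
  exact Submodule.mem_sup.mpr ⟨w₁, ⟨hw₁U, hw₁⟩, w₂, ⟨hw₂U, hw₂⟩, rfl⟩

theorem sup_inf_left_eq {U₁ U₂ W₁ W₂ : Submodule F V}
    (h1 : W₁ ≤ LinearMap.ker (aeval T p)) (h2 : W₂ ≤ LinearMap.ker (aeval T p'))
    (hU₁ : U₁ ≤ W₁) (hU₂ : U₂ ≤ W₂) : (U₁ ⊔ U₂) ⊓ W₁ = U₁ := by
  rw [sup_inf_assoc_of_le U₂ hU₁]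
  have : U₂ ⊓ W₁ = ⊥ := by
    rw [eq_bot_iff, ← ker_inf_ker hb (T := T)]
    exact le_inf (inf_le_right.trans h1) (inf_le_left.trans (hU₂.trans h2))
  rw [this, sup_bot_eq]

theorem sup_inf_right_eq {U₁ U₂ W₁ W₂ : Submodule F V}
    (h1 : W₁ ≤ LinearMap.ker (aeval T p)) (h2 : W₂ ≤ LinearMap.ker (aeval T p'))
    (hU₁ : U₁ ≤ W₁) (hU₂ : U₂ ≤ W₂) : (U₁ ⊔ U₂) ⊓ W₂ = U₂ := by
  rw [sup_comm, sup_inf_assoc_of_le U₁ hU₂]
  have : U₁ ⊓ W₂ = ⊥ := by
    rw [eq_bot_iff, ← ker_inf_ker hb (T := T)]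
    exact le_inf (inf_le_left.trans (hU₁.trans h1)) (inf_le_right.trans h2)
  rw [this, sup_bot_eq]

end coprime

open Classical in
/-- the invariant subspaces below `B` -/
noncomputable def Lset [Fintype (Submodule F V)] (T : Module.End F V) (B : Submodule F V) :
    Finset (Submodule F V) :=
  (Finset.univ : Finset (Submodule F V)).filter (fun U => U ∈ T.invtSubmodule ∧ U ≤ B)

theorem mem_Lset [Fintype (Submodule F V)] {T : Module.End F V} {B U : Submodule F V} :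
    U ∈ Lset T B ↔ U ∈ T.invtSubmodule ∧ U ≤ B := by
  unfold Lset
  simp only [Finset.mem_filter, Finset.mem_univ, true_and]

/-- the defining property of the Moebius numbers -/
theorem sum_Lset [Finite V] [Fintype (Submodule F V)] (T : Module.End F V) (B : Submodule F V)
    (hB : B ∈ T.invtSubmodule) : ∑ U ∈ Lset T B, nu T U = if B = ⊥ then 1 else 0 := by
  classical
  by_cases h0 : B = ⊥
  · rw [if_pos h0]
    have : Lset T B = {⊥} := by
      ext U
      rw [mem_Lset, Finset.mem_singleton, h0]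
      constructor
      · rintro ⟨-, h⟩
        exact le_bot_iff.mp h
      · rintro rfl
        exact ⟨Module.End.invtSubmodule.bot_mem T, le_rfl⟩
    rw [this, Finset.sum_singleton, nu_bot]
  · rw [if_neg h0]
    have hset : Lset T B = insert B ((Finset.univ : Finset (Submodule F V)).filter
        (fun W => W ∈ T.invtSubmodule ∧ W < B)) := by
      ext U
      rw [mem_Lset]
      simp only [Finset.mem_insert, Finset.mem_filter, Finset.mem_univ, true_and]
      constructor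
      · rintro ⟨h1, h2⟩
        rcases eq_or_lt_of_le h2 with h | h
        · exact Or.inl h
        · exact Or.inr ⟨h1, h⟩
      · rintro (rfl | ⟨h1, h2⟩)
        · exact ⟨hB, le_rfl⟩
        · exact ⟨h1, h2.le⟩
    rw [hset, Finset.sum_insert (by simp), Cfsg.Agent.Lib.Helper86_StGL_B1.B1 T B h0]
    ring

/-- the invariant subspaces of `W₁ ⊔ W₂` are the sums of invariant subspaces of `W₁` and `W₂` -/
theorem sum_Lset_sup [Fintype (Submodule F V)] {T : Module.End F V} {u u' p p' : F[X]}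
    (hb : u * p + u' * p' = 1) {W₁ W₂ : Submodule F V}
    (hW₁ : W₁ ∈ T.invtSubmodule) (hW₂ : W₂ ∈ T.invtSubmodule)
    (h1 : W₁ ≤ LinearMap.ker (aeval T p)) (h2 : W₂ ≤ LinearMap.ker (aeval T p'))
    (f : Submodule F V → ℤ) :
    ∑ U ∈ Lset T (W₁ ⊔ W₂), f U = ∑ x ∈ Lset T W₁ ×ˢ Lset T W₂, f (x.1 ⊔ x.2) := by
  refine Finset.sum_nbij' (fun U => (U ⊓ W₁, U ⊓ W₂)) (fun x => x.1 ⊔ x.2) ?_ ?_ ?_ ?_ ?_
  · intro U hU
    obtain ⟨hU1, hU2⟩ := mem_Lset.mp hU
    rw [Finset.mem_product, mem_Lset, mem_Lset]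
    exact ⟨⟨Module.End.invtSubmodule.inf_mem hU1 hW₁, inf_le_right⟩,
      ⟨Module.End.invtSubmodule.inf_mem hU1 hW₂, inf_le_right⟩⟩
  · rintro ⟨U₁, U₂⟩ hx
    rw [Finset.mem_product, mem_Lset, mem_Lset] at hx
    rw [mem_Lset]
    exact ⟨Module.End.invtSubmodule.sup_mem hx.1.1 hx.2.1, sup_le_sup hx.1.2 hx.2.2⟩
  · intro U hU
    obtain ⟨hU1, hU2⟩ := mem_Lset.mp hU
    exact inf_sup_inf hb hU1 h1 h2 hU2
  · rintro ⟨U₁, U₂⟩ hx
    rw [Finset.mem_product, mem_Lset, mem_Lset] at hx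
    show ((U₁ ⊔ U₂) ⊓ W₁, (U₁ ⊔ U₂) ⊓ W₂) = (U₁, U₂)
    rw [sup_inf_left_eq hb h1 h2 hx.1.2 hx.2.2, sup_inf_right_eq hb h1 h2 hx.1.2 hx.2.2]
  · intro U hU
    obtain ⟨hU1, hU2⟩ := mem_Lset.mp hU
    show f U = f ((U ⊓ W₁) ⊔ (U ⊓ W₂))
    rw [inf_sup_inf hb hU1 h1 h2 hU2]

theorem key [Finite V] [Fintype (Submodule F V)] {T : Module.End F V} {u u' p p' : F[X]}
    (hb : u * p + u' * p' = 1) :
    ∀ (S W₁ W₂ : Submodule F V), W₁ ∈ T.invtSubmodule → W₂ ∈ T.invtSubmodule →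
      W₁ ≤ LinearMap.ker (aeval T p) → W₂ ≤ LinearMap.ker (aeval T p') → W₁ ⊔ W₂ = S →
      nu T S = nu T W₁ * nu T W₂ := by
  classical
  intro S
  induction S using WellFoundedLT.induction with
  | ind S ih =>
    intro W₁ W₂ hW₁ hW₂ h1 h2 hS
    by_cases hbot : S = ⊥
    · have e1 : W₁ = ⊥ := by
        rw [eq_bot_iff, ← hbot, ← hS]; exact le_sup_left
      have e2 : W₂ = ⊥ := by
        rw [eq_bot_iff, ← hbot, ← hS]; exact le_sup_right
      rw [hbot, e1, e2, nu_bot]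
      norm_num
    · have hSinv : S ∈ T.invtSubmodule := by
        rw [← hS]; exact Module.End.invtSubmodule.sup_mem hW₁ hW₂
      have h0 := sum_Lset T S hSinv
      rw [if_neg hbot, ← hS, sum_Lset_sup hb hW₁ hW₂ h1 h2 (nu T)] at h0
      have hmem : (W₁, W₂) ∈ Lset T W₁ ×ˢ Lset T W₂ := by
        rw [Finset.mem_product, mem_Lset, mem_Lset]
        exact ⟨⟨hW₁, le_rfl⟩, ⟨hW₂, le_rfl⟩⟩
      rw [← Finset.add_sum_erase _ _ hmem] at h0
      have hIH : ∑ x ∈ (Lset T W₁ ×ˢ Lset T W₂).erase (W₁, W₂), nu T (x.1 ⊔ x.2) =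
          ∑ x ∈ (Lset T W₁ ×ˢ Lset T W₂).erase (W₁, W₂), nu T x.1 * nu T x.2 := by
        refine Finset.sum_congr rfl ?_
        rintro ⟨U₁, U₂⟩ hx
        obtain ⟨hne, hx⟩ := Finset.mem_erase.mp hx
        rw [Finset.mem_product, mem_Lset, mem_Lset] at hx
        have hlt : U₁ ⊔ U₂ < S := by
          rw [← hS]
          refine lt_of_le_of_ne (sup_le_sup hx.1.2 hx.2.2) (fun heq => hne ?_)
          have e1 := sup_inf_left_eq hb h1 h2 hx.1.2 hx.2.2
          have e2 := sup_inf_right_eq hb h1 h2 hx.1.2 hx.2.2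
          rw [heq] at e1 e2
          rw [inf_eq_right.mpr le_sup_left] at e1
          rw [inf_eq_right.mpr le_sup_right] at e2
          exact Prod.ext e1.symm e2.symm
        exact ih (U₁ ⊔ U₂) hlt U₁ U₂ hx.1.1 hx.2.1 (hx.1.2.trans h1) (hx.2.2.trans h2) rfl
      have hprod : ∑ x ∈ Lset T W₁ ×ˢ Lset T W₂, nu T x.1 * nu T x.2 =
          (∑ U ∈ Lset T W₁, nu T U) * (∑ U ∈ Lset T W₂, nu T U) := by
        rw [Finset.sum_product, Finset.sum_mul_sum]
      have hzero : (∑ U ∈ Lset T W₁, nu T U) * (∑ U ∈ Lset T W₂, nu T U) = 0 := by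
        rw [sum_Lset T W₁ hW₁, sum_Lset T W₂ hW₂]
        by_cases e1 : W₁ = ⊥
        · have e2 : W₂ ≠ ⊥ := by
            intro e2
            apply hbot
            rw [← hS, e1, e2, sup_bot_eq]
          rw [if_neg e2, mul_zero]
        · rw [if_neg e1, zero_mul]
      rw [hzero, ← Finset.add_sum_erase _ _ hmem] at hprod
      rw [hIH] at h0
      show nu T S = nu T W₁ * nu T W₂
      have h0' : nu T S + ∑ x ∈ (Lset T W₁ ×ˢ Lset T W₂).erase (W₁, W₂), nu T x.1 * nu T x.2 = 0 := by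
        rw [← hS]; exact h0
      linarith

theorem B2 [Finite V] (T : Module.End F V) (A A' : Submodule F V)
    (hA : A ∈ T.invtSubmodule) (hA' : A' ∈ T.invtSubmodule)
    (p p' : F[X]) (hpp : IsCoprime p p')
    (hp : A ≤ LinearMap.ker (aeval T p)) (hp' : A' ≤ LinearMap.ker (aeval T p')) :
    nu T (A ⊔ A') = nu T A * nu T A' := by
  classical
  let _ : Fintype (Submodule F V) := Fintype.ofFinite _
  obtain ⟨u, u', hb⟩ := hpp
  exact key hb (A ⊔ A') A A' hA hA' hp hp' rfl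

end Cfsg.Agent.Lib.Helper86_StGL_B2
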