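import Mathlib
import Cfsg.Agent.Lib.Helper21_TICDefs

/-!
S4064 package LOC5 (architect helper21): in the local situation with `A` a `2`-group, the normalizer
`N` of `A` normalizes the centralizer of every nonidentity element of `A`.
-/

set_option autoImplicit false

namespace Cfsg.Agent.Lib.Helper86_TIC_LOC5

open Cfsg Cfsg.Agent.Lib.Helper21_TICDefs

variable {G : Type*} [Group G]

theorem cent_normal_of_preLocal [Finite G] (h : TIC G) {S : Sylow 2 G} {A N : Subgroup G}
    (hP : PreLocal S A N) :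
    IsPGroup 2 A → ∀ x ∈ A, x ≠ 1 → ∀ n ∈ N,
      ∀ c ∈ Subgroup.centralizer ({x} : Set G), n * c * n⁻¹ ∈ Subgroup.centralizer ({x} : Set G) := by
  intro hA x hx hx1 n hn c hc
  have : Fact (Nat.Prime 2) := ⟨Nat.prime_two⟩
  have : Nontrivial A := ⟨⟨⟨x, hx⟩, 1, fun e => hx1 (congrArg Subtype.val e)⟩⟩
  have hcn : Nontrivial (Subgroup.center A) := hA.center_nontrivial
  obtain ⟨w, hw⟩ := exists_ne (1 : Subgroup.center A)
  have hw0A : (w.1.1 : G) ∈ A := w.1.2
  have hw0c : ∀ a ∈ A, (w.1.1 : G) * a = a * w.1.1 := by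
    intro a ha
    have := (Subgroup.mem_center_iff.1 w.2) ⟨a, ha⟩
    exact (congrArg Subtype.val this).symm
  have hw01 : (w.1.1 : G) ≠ 1 := by
    intro e
    apply hw
    apply Subtype.ext
    apply Subtype.ext
    exact e
  have hnN : n ∈ Subgroup.normalizer (A : Set G) := hP.N_eq ▸ hn
  have hconj : ∀ a ∈ A, n * a * n⁻¹ ∈ A := fun a ha => (Subgroup.mem_normalizer_iff.1 hnN a).1 ha
  have hyx : (n⁻¹ * w.1.1 * n) * x = x * (n⁻¹ * w.1.1 * n) := by
    have e := hw0c (n * x * n⁻¹) (hconj x hx)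
    calc (n⁻¹ * w.1.1 * n) * x = n⁻¹ * ((w.1.1 : G) * (n * x * n⁻¹)) * n := by group
      _ = n⁻¹ * ((n * x * n⁻¹) * w.1.1) * n := by rw [e]
      _ = x * (n⁻¹ * w.1.1 * n) := by group
  have hwx : (w.1.1 : G) * x = x * w.1.1 := hw0c x hx
  have hnC : n ∈ Subgroup.normalizer
      ((Subgroup.centralizer ({x} : Set G) : Subgroup G) : Set G) := by
    by_contra hnot
    have h1 := h x n hnot (n⁻¹ * w.1.1 * n)
      (by
        change _ ∈ Subgroup.centralizer ({x} : Set G)
        rw [Subgroup.mem_centralizer_singleton_iff]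
        exact hyx)
      (by
        change _ ∈ Subgroup.centralizer ({x} : Set G)
        rw [Subgroup.mem_centralizer_singleton_iff]
        have e : n * (n⁻¹ * w.1.1 * n) * n⁻¹ = (w.1.1 : G) := by group
        rw [e]
        exact hwx)
    apply hw01
    have e : (w.1.1 : G) = n * (n⁻¹ * w.1.1 * n) * n⁻¹ := by group
    rw [e, h1]
    group
  exact (Subgroup.mem_normalizer_iff.1 hnC c).1 hc

end Cfsg.Agent.Lib.Helper86_TIC_LOC5
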