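import Mathlib

/-!
Explicit groups of automorphisms of `(M × M) × H` for a commutative group `M` (helper87): an automorphism of
order `3`, and a nonabelian `2`-group (dihedral of order `8`) of automorphisms.
-/

set_option autoImplicit false
set_option linter.style.haveILetI false

namespace Cfsg.Agent.Lib.Helper87_AbelianAut

variable (M H : Type*) [CommGroup M] [Group H]

/-- `(x, y) ↦ (y⁻¹, x y⁻¹)`, of order dividing `3`. -/
def rot3 : M × M ≃* M × M where
  toFun z := (z.2⁻¹, z.1 * z.2⁻¹)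
  invFun z := (z.1⁻¹ * z.2, z.1⁻¹)
  left_inv := by
    rintro ⟨x, y⟩
    simp
  right_inv := by
    rintro ⟨x, y⟩
    simp
  map_mul' := by
    rintro ⟨x, y⟩ ⟨x', y'⟩
    exact Prod.ext (mul_inv y y') (by
      show x * x' * (y * y')⁻¹ = x * y⁻¹ * (x' * y'⁻¹)
      rw [mul_inv, mul_mul_mul_comm])

/-- `(x, y) ↦ (y⁻¹, x)`, of order dividing `4`. -/
def rot4 : M × M ≃* M × M where
  toFun z := (z.2⁻¹, z.1)
  invFun z := (z.2, z.1⁻¹)
  left_inv := by
    rintro ⟨x, y⟩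
    simp
  right_inv := by
    rintro ⟨x, y⟩
    simp
  map_mul' := by
    rintro ⟨x, y⟩ ⟨x', y'⟩
    exact Prod.ext (mul_inv y y') rfl

theorem rot3_apply (x y : M) : rot3 M (x, y) = (y⁻¹, x * y⁻¹) := rfl

theorem rot4_apply (x y : M) : rot4 M (x, y) = (y⁻¹, x) := rfl

theorem swap_apply (x y : M) : (MulEquiv.prodComm : M × M ≃* M × M) (x, y) = (y, x) := rfl

/-- Extension of an automorphism of `M × M` to `(M × M) × H`. -/
def ext (α : M × M ≃* M × M) : MulAut ((M × M) × H) := MulEquiv.prodCongr α (MulEquiv.refl H)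

theorem ext_apply (α : M × M ≃* M × M) (z : M × M) (h : H) : ext M H α (z, h) = (α z, h) := rfl

theorem ext_rot3_pow_three : (ext M H (rot3 M)) ^ 3 = 1 := by
  apply MulEquiv.ext
  rintro ⟨⟨x, y⟩, h⟩
  rw [pow_succ, pow_succ, pow_one, MulAut.mul_apply, MulAut.mul_apply, ext_apply, rot3_apply, ext_apply,
    rot3_apply, ext_apply, rot3_apply, MulAut.one_apply]
  refine Prod.ext (Prod.ext ?_ ?_) rfl
  · show (y⁻¹ * (x * y⁻¹)⁻¹)⁻¹ = x
    group
  · show (x * y⁻¹)⁻¹ * (y⁻¹ * (x * y⁻¹)⁻¹)⁻¹ = y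
    group

theorem ext_rot4_pow_four : (ext M H (rot4 M)) ^ 4 = 1 := by
  apply MulEquiv.ext
  rintro ⟨⟨x, y⟩, h⟩
  rw [pow_succ, pow_succ, pow_succ, pow_one, MulAut.mul_apply, MulAut.mul_apply, MulAut.mul_apply,
    ext_apply, rot4_apply, ext_apply, rot4_apply, ext_apply, rot4_apply, ext_apply, rot4_apply,
    MulAut.one_apply, inv_inv, inv_inv]

theorem ext_swap_pow_two : (ext M H (MulEquiv.prodComm : M × M ≃* M × M)) ^ 2 = 1 := by
  apply MulEquiv.ext
  rintro ⟨⟨x, y⟩, h⟩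
  rw [pow_succ, pow_one, MulAut.mul_apply, ext_apply, swap_apply, ext_apply, swap_apply,
    MulAut.one_apply]

theorem ext_swap_inv : (ext M H (MulEquiv.prodComm : M × M ≃* M × M))⁻¹ =
    ext M H (MulEquiv.prodComm : M × M ≃* M × M) := by
  rw [inv_eq_iff_mul_eq_one, ← pow_two]
  exact ext_swap_pow_two M H

theorem ext_swap_conj :
    ext M H (MulEquiv.prodComm : M × M ≃* M × M) * ext M H (rot4 M) *
      (ext M H (MulEquiv.prodComm : M × M ≃* M × M))⁻¹ = (ext M H (rot4 M))⁻¹ := by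
  rw [ext_swap_inv, eq_inv_iff_mul_eq_one]
  apply MulEquiv.ext
  rintro ⟨⟨x, y⟩, h⟩
  simp only [MulAut.mul_apply, ext_apply, rot4_apply, swap_apply, MulAut.one_apply, inv_inv]

/-- A cyclic `p'`-group for `p = 2`, not of exponent dividing `1`, when `M` is nontrivial. -/
theorem exists_odd_order_aut (g : M) (hg : g ≠ 1) :
    ∃ K : Subgroup (MulAut ((M × M) × H)), (Nat.card K).Coprime 2 ∧ ¬ ∀ h ∈ K, h ^ (2 - 1) = 1 := by
  refine ⟨Subgroup.zpowers (ext M H (rot3 M)), ?_, ?_⟩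
  · rw [Nat.card_zpowers]
    have h1 : orderOf (ext M H (rot3 M)) ∣ 3 := orderOf_dvd_of_pow_eq_one (ext_rot3_pow_three M H)
    exact Nat.Coprime.coprime_dvd_left h1 (by norm_num)
  · intro h
    have h1 := h _ (Subgroup.mem_zpowers (ext M H (rot3 M)))
    rw [pow_one] at h1
    have h2 := congrArg (fun α : MulAut ((M × M) × H) => α ((g, 1), 1)) h1
    simp only [ext_apply, MulAut.one_apply, Prod.mk.injEq] at h2
    have h3 : (rot3 M) (g, 1) = ((1 : M)⁻¹, g * (1 : M)⁻¹) := rfl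
    rw [h3] at h2
    have h4 : (1 : M)⁻¹ = g := congrArg Prod.fst h2.1
    rw [inv_one] at h4
    exact hg h4.symm

/-- A nonabelian `2`-group of automorphisms, when `M` has an element whose square is nontrivial. -/
theorem exists_two_group_aut [Finite M] [Finite H] (g : M) (hg : g ^ 2 ≠ 1) :
    ∃ K : Subgroup (MulAut ((M × M) × H)), (∃ k : ℕ, Nat.card K = 2 ^ k) ∧ ¬ IsMulCommutative K := by
  have hτ : IsPGroup 2 (Subgroup.zpowers (ext M H (MulEquiv.prodComm : M × M ≃* M × M))) := by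
    rintro ⟨x, hx⟩
    obtain ⟨k, rfl⟩ := Subgroup.mem_zpowers_iff.1 hx
    refine ⟨1, Subtype.ext ?_⟩
    rw [Subgroup.coe_pow, Subgroup.coe_one, pow_one, ← zpow_natCast, ← zpow_mul, mul_comm, zpow_mul,
      zpow_natCast, ext_swap_pow_two, one_zpow]
  have hρ : IsPGroup 2 (Subgroup.zpowers (ext M H (rot4 M))) := by
    rintro ⟨x, hx⟩
    obtain ⟨k, rfl⟩ := Subgroup.mem_zpowers_iff.1 hx
    refine ⟨2, Subtype.ext ?_⟩
    have : (2 : ℕ) ^ 2 = 4 := by norm_num
    rw [Subgroup.coe_pow, Subgroup.coe_one, this, ← zpow_natCast, ← zpow_mul, mul_comm, zpow_mul,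
      zpow_natCast, ext_rot4_pow_four, one_zpow]
  have hnorm : Subgroup.zpowers (ext M H (MulEquiv.prodComm : M × M ≃* M × M)) ≤
      Subgroup.normalizer (Subgroup.zpowers (ext M H (rot4 M)) : Set (MulAut ((M × M) × H))) := by
    rw [Subgroup.zpowers_le, Subgroup.mem_normalizer_iff]
    have hconj : ∀ k : ℤ, ext M H (MulEquiv.prodComm : M × M ≃* M × M) * (ext M H (rot4 M)) ^ k *
        (ext M H (MulEquiv.prodComm : M × M ≃* M × M))⁻¹ = ((ext M H (rot4 M)) ^ k)⁻¹ := by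
      intro k
      rw [← conj_zpow, ext_swap_conj, inv_zpow]
    intro h
    constructor
    · intro hh
      obtain ⟨k, rfl⟩ := Subgroup.mem_zpowers_iff.1 hh
      rw [hconj]
      exact Subgroup.inv_mem _ (Subgroup.zpow_mem_zpowers _ k)
    · intro hh
      obtain ⟨k, hk⟩ := Subgroup.mem_zpowers_iff.1 hh
      have h1 : h = (ext M H (MulEquiv.prodComm : M × M ≃* M × M))⁻¹ * (ext M H (rot4 M)) ^ k *
          ext M H (MulEquiv.prodComm : M × M ≃* M × M) := by
        rw [hk]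
        group
      have h2 := ext_swap_inv M H
      have h3 : h = ((ext M H (rot4 M)) ^ k)⁻¹ := by
        rw [h1, ← hconj k, h2]
      rw [h3]
      exact Subgroup.inv_mem _ (Subgroup.zpow_mem_zpowers _ k)
  have hK := IsPGroup.to_sup_of_normal_right' hτ hρ hnorm
  refine ⟨_, IsPGroup.iff_card.1 hK, ?_⟩
  intro hc
  have h1 := hc.is_comm.comm
    ⟨ext M H (MulEquiv.prodComm : M × M ≃* M × M),
      Subgroup.mem_sup_left (Subgroup.mem_zpowers _)⟩
    ⟨ext M H (rot4 M), Subgroup.mem_sup_right (Subgroup.mem_zpowers _)⟩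
  have h2 := congrArg (fun α : (Subgroup.zpowers (ext M H (MulEquiv.prodComm : M × M ≃* M × M)) ⊔
    Subgroup.zpowers (ext M H (rot4 M)) : Subgroup (MulAut ((M × M) × H))) =>
      (α : MulAut ((M × M) × H)) ((g, 1), 1)) h1
  simp only [Subgroup.coe_mul, MulAut.mul_apply, ext_apply, Prod.mk.injEq] at h2
  have h3 : (rot4 M) (g, 1) = ((1 : M)⁻¹, g) := rfl
  have h4 : (MulEquiv.prodComm : M × M ≃* M × M) (g, 1) = (1, g) := rfl
  have h5 : (rot4 M) (1, g) = (g⁻¹, 1) := rfl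
  have h6 : (MulEquiv.prodComm : M × M ≃* M × M) ((1 : M)⁻¹, g) = (g, (1 : M)⁻¹) := rfl
  rw [h3, h4, h5, h6] at h2
  have h7 : g = g⁻¹ := congrArg Prod.fst h2.1
  apply hg
  rw [pow_two]
  nth_rewrite 1 [h7]
  exact inv_mul_cancel g

end Cfsg.Agent.Lib.Helper87_AbelianAut
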