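import Mathlib

/-!
Chains of fully invariant subgroups with cyclic steps in finite abelian `p`-groups (helper87).

For a commutative group `G` write `om p a` for `Ω_a(G)` (the elements killed by `p ^ a`) and `mho p b` for
`℧^b(G)` (the `p ^ b`-th powers). If all Ulm factors `(Ω_1 ∩ ℧^j) / (Ω_1 ∩ ℧^(j+1))` are cyclic (`CU p G`), then
the subgroups `(Ω_(a+1) ∩ ℧^b) Ω_a` form a chain of fully invariant subgroups with cyclic steps.
-/

set_option autoImplicit false
set_option linter.style.haveILetI false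

namespace Cfsg.Agent.Lib.Helper87_AbelianChain

variable {G : Type*} [CommGroup G]

/-- `Ω_a(G)`: the elements `x` with `x ^ (p ^ a) = 1`. -/
def om (G : Type*) [CommGroup G] (p a : ℕ) : Subgroup G := (powMonoidHom (p ^ a) : G →* G).ker

/-- `℧^b(G)`: the `p ^ b`-th powers. -/
def mho (G : Type*) [CommGroup G] (p b : ℕ) : Subgroup G := (powMonoidHom (p ^ b) : G →* G).range

theorem mem_om {p a : ℕ} {x : G} : x ∈ om G p a ↔ x ^ (p ^ a) = 1 := Iff.rfl

theorem mem_mho {p b : ℕ} {x : G} : x ∈ mho G p b ↔ ∃ z : G, z ^ (p ^ b) = x := Iff.rfl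

theorem om_zero (p : ℕ) : om G p 0 = ⊥ := by
  rw [eq_bot_iff]
  intro x hx
  rw [mem_om, pow_zero, pow_one] at hx
  exact Subgroup.mem_bot.2 hx

theorem mho_zero (p : ℕ) : mho G p 0 = ⊤ := by
  rw [eq_top_iff]
  intro x _
  exact mem_mho.2 ⟨x, by rw [pow_zero, pow_one]⟩

theorem om_mono (p : ℕ) {a a' : ℕ} (h : a ≤ a') : om G p a ≤ om G p a' := by
  intro x hx
  rw [mem_om] at hx ⊢
  obtain ⟨k, rfl⟩ := Nat.exists_eq_add_of_le h
  rw [pow_add, pow_mul, hx, one_pow]

theorem mho_anti (p : ℕ) {b b' : ℕ} (h : b ≤ b') : mho G p b' ≤ mho G p b := by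
  rintro x ⟨z, rfl⟩
  obtain ⟨k, rfl⟩ := Nat.exists_eq_add_of_le h
  refine mem_mho.2 ⟨z ^ (p ^ k), ?_⟩
  show (z ^ p ^ k) ^ p ^ b = z ^ p ^ (b + k)
  rw [← pow_mul, pow_add, mul_comm]

/-- Fully invariant subgroups. -/
def FI (A : Subgroup G) : Prop := ∀ f : G →* G, ∀ x ∈ A, f x ∈ A

theorem FI.bot : FI (⊥ : Subgroup G) := by
  intro f x hx
  rw [Subgroup.mem_bot] at hx ⊢
  rw [hx, map_one]

theorem FI.inf {A B : Subgroup G} (hA : FI A) (hB : FI B) : FI (A ⊓ B) :=
  fun f x hx => ⟨hA f x hx.1, hB f x hx.2⟩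

theorem FI.sup {A B : Subgroup G} (hA : FI A) (hB : FI B) : FI (A ⊔ B) := by
  intro f x hx
  have h1 : (A ⊔ B).map f ≤ A ⊔ B := by
    rw [Subgroup.map_sup]
    refine sup_le_sup ?_ ?_
    · rintro _ ⟨y, hy, rfl⟩
      exact hA f y hy
    · rintro _ ⟨y, hy, rfl⟩
      exact hB f y hy
  exact h1 ⟨x, hx, rfl⟩

theorem FI.om (p a : ℕ) : FI (om G p a) := by
  intro f x hx
  rw [mem_om] at hx ⊢
  rw [← map_pow, hx, map_one]

theorem FI.mho (p b : ℕ) : FI (mho G p b) := by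
  rintro f x ⟨z, rfl⟩
  exact mem_mho.2 ⟨f z, by rw [← map_pow]; rfl⟩

/-- The members of the chain. -/
def D (G : Type*) [CommGroup G] (p a b : ℕ) : Subgroup G := (om G p (a + 1) ⊓ mho G p b) ⊔ om G p a

theorem FI.D (p a b : ℕ) : FI (D G p a b) := ((FI.om p (a + 1)).inf (FI.mho p b)).sup (FI.om p a)

theorem D_zero (p a : ℕ) : D G p a 0 = om G p (a + 1) := by
  rw [D, mho_zero, inf_top_eq]
  exact sup_eq_left.2 (om_mono p (Nat.le_succ a))

theorem D_of_mho_eq_bot {p a E : ℕ} (hE : mho G p E = ⊥) : D G p a E = om G p a := by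
  rw [D, hE, inf_bot_eq, bot_sup_eq]

theorem D_anti (p a : ℕ) {b b' : ℕ} (h : b ≤ b') : D G p a b' ≤ D G p a b :=
  sup_le_sup_right (inf_le_inf_left _ (mho_anti p h)) _

/-- All Ulm factors of `G` are cyclic. -/
def CU (p : ℕ) (G : Type*) [CommGroup G] : Prop :=
  ∀ j : ℕ, ∃ s : G, (s ^ (p ^ j)) ^ p = 1 ∧
    om G p 1 ⊓ mho G p j ≤ (om G p 1 ⊓ mho G p (j + 1)) ⊔ Subgroup.zpowers (s ^ (p ^ j))

/-- Cyclic Ulm factors give cyclic steps in the chain `D`. -/
theorem exists_step {p : ℕ} (h : CU p G) (a b : ℕ) :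
    ∃ x : G, D G p a b = D G p a (b + 1) ⊔ Subgroup.zpowers x := by
  obtain ⟨s, hs, hle⟩ := h (a + b)
  refine ⟨s ^ (p ^ b), le_antisymm ?_ ?_⟩
  · refine sup_le ?_ (le_sup_of_le_left le_sup_right)
    intro y hy
    obtain ⟨hy1, hy2⟩ := Subgroup.mem_inf.1 hy
    obtain ⟨z, rfl⟩ := mem_mho.1 hy2
    rw [mem_om] at hy1
    -- the image of `y` under the `p ^ a`-th power map
    have h1 : (z ^ p ^ b) ^ p ^ a ∈ om G p 1 ⊓ mho G p (a + b) := by
      refine Subgroup.mem_inf.2 ⟨?_, ?_⟩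
      · rw [mem_om, ← pow_mul, ← pow_add]
        exact hy1
      · refine mem_mho.2 ⟨z, ?_⟩
        rw [← pow_mul, pow_add, mul_comm]
    obtain ⟨w, hw, u, hu, hwu⟩ := Subgroup.mem_sup.1 (hle h1)
    obtain ⟨hw1, hw2⟩ := Subgroup.mem_inf.1 hw
    obtain ⟨v, hv⟩ := mem_mho.1 hw2
    rw [mem_om, pow_one] at hw1
    obtain ⟨k, rfl⟩ := Subgroup.mem_zpowers_iff.1 hu
    -- the decomposition
    have hx : (s ^ p ^ b) ^ p ^ a = s ^ p ^ (a + b) := by
      rw [← pow_mul, pow_add, mul_comm]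
    have hv' : (v ^ p ^ (b + 1)) ^ p ^ a = w := by
      rw [← pow_mul, ← pow_add, ← hv]
      congr 2
      ring
    have h2 : z ^ p ^ b * ((s ^ p ^ b) ^ k)⁻¹ * (v ^ p ^ (b + 1))⁻¹ ∈ om G p a := by
      rw [mem_om, mul_pow, mul_pow, inv_pow, inv_pow, ← zpow_natCast ((s ^ p ^ b) ^ k), ← zpow_mul,
        mul_comm k, zpow_mul, zpow_natCast, hx, hv', ← hwu]
      rw [mul_comm w, mul_comm _ w, mul_inv_cancel_right, mul_inv_cancel]
    have h3 : v ^ p ^ (b + 1) ∈ om G p (a + 1) ⊓ mho G p (b + 1) := by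
      refine Subgroup.mem_inf.2 ⟨?_, mem_mho.2 ⟨v, rfl⟩⟩
      rw [mem_om, pow_succ p a, pow_mul, hv']
      exact hw1
    have h4 : z ^ p ^ b = (v ^ p ^ (b + 1) * (z ^ p ^ b * ((s ^ p ^ b) ^ k)⁻¹ * (v ^ p ^ (b + 1))⁻¹)) *
        (s ^ p ^ b) ^ k := by
      rw [mul_comm (v ^ p ^ (b + 1)), inv_mul_cancel_right, inv_mul_cancel_right]
    rw [h4]
    refine Subgroup.mul_mem_sup ?_ (Subgroup.zpow_mem_zpowers _ k)
    exact Subgroup.mul_mem_sup h3 h2
  · refine sup_le (D_anti p a (Nat.le_succ b)) ?_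
    rw [Subgroup.zpowers_le]
    refine (le_sup_left : _ ≤ D G p a b) (Subgroup.mem_inf.2 ⟨?_, mem_mho.2 ⟨s, rfl⟩⟩)
    rw [mem_om, ← pow_mul, ← pow_add]
    have : b + (a + 1) = a + b + 1 := by ring
    rw [this, pow_succ, pow_mul]
    exact hs

/-! ### Chains -/

/-- `CReach Pr A`: the subgroup `A` is reached from `⊥` by adjoining one element at a time, all intermediate
subgroups satisfying `Pr`. -/
inductive CReach (Pr : Subgroup G → Prop) : Subgroup G → Prop
  | bot : CReach Pr ⊥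
  | step (A : Subgroup G) (x : G) : CReach Pr A → Pr (A ⊔ Subgroup.zpowers x) →
      CReach Pr (A ⊔ Subgroup.zpowers x)

theorem chain_of_creach {Pr : Subgroup G → Prop} (hbot : Pr ⊥) {A : Subgroup G} (h : CReach Pr A) :
    ∃ (n : ℕ) (H : Fin (n + 1) → Subgroup G),
      H 0 = ⊥ ∧ H (Fin.last n) = A ∧ (∀ i, Pr (H i)) ∧
        ∀ i : Fin n, ∃ g : G, H i.succ = H i.castSucc ⊔ Subgroup.zpowers g := by
  induction h with
  | bot =>
    exact ⟨0, fun _ => ⊥, rfl, rfl, fun _ => hbot, fun i => i.elim0⟩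
  | step A g hA hn ih =>
    obtain ⟨n, H, h0, hl, hnorm, hs⟩ := ih
    refine ⟨n + 1, Fin.snoc H (A ⊔ Subgroup.zpowers g), ?_, ?_, ?_, ?_⟩
    · have : (0 : Fin (n + 1 + 1)) = Fin.castSucc (0 : Fin (n + 1)) := rfl
      rw [this, Fin.snoc_castSucc, h0]
    · rw [Fin.snoc_last]
    · intro i
      refine Fin.lastCases ?_ (fun j => ?_) i
      · rw [Fin.snoc_last]; exact hn
      · rw [Fin.snoc_castSucc]; exact hnorm j
    · intro i
      refine Fin.lastCases ?_ (fun j => ?_) i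
      · refine ⟨g, ?_⟩
        rw [Fin.succ_last, Fin.snoc_last, Fin.snoc_castSucc, hl]
      · obtain ⟨g', hg'⟩ := hs j
        refine ⟨g', ?_⟩
        rw [← Fin.castSucc_succ, Fin.snoc_castSucc, Fin.snoc_castSucc, hg']

/-- With cyclic Ulm factors and exponent dividing `p ^ E`, every `Ω_a` is reached through fully invariant
subgroups. -/
theorem creach_om {p : ℕ} (h : CU p G) {E : ℕ} (hE : mho G p E = ⊥) (a : ℕ) : CReach FI (om G p a) := by
  induction a with
  | zero =>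
    rw [om_zero]
    exact CReach.bot
  | succ a ih =>
    have key : ∀ k : ℕ, CReach FI (D G p a (E - k)) := by
      intro k
      induction k with
      | zero =>
        rw [Nat.sub_zero, D_of_mho_eq_bot hE]
        exact ih
      | succ k ihk =>
        by_cases hk : k < E
        · obtain ⟨x, hx⟩ := exists_step h a (E - (k + 1))
          have : E - (k + 1) + 1 = E - k := by omega
          rw [this] at hx
          rw [hx]
          refine CReach.step _ x ihk ?_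
          rw [← hx]
          exact FI.D p a _
        · have : E - (k + 1) = E - k := by omega
          rw [this]
          exact ihk
    have := key E
    rwa [Nat.sub_self, D_zero] at this

/-- A commutative group of exponent dividing `p ^ E` with cyclic Ulm factors has a chain of fully invariant
subgroups from `⊥` to `⊤` with cyclic steps. -/
theorem exists_chain {p : ℕ} (h : CU p G) {E : ℕ} (hE : ∀ x : G, x ^ (p ^ E) = 1) :
    ∃ (n : ℕ) (H : Fin (n + 1) → Subgroup G),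
      H 0 = ⊥ ∧ H (Fin.last n) = ⊤ ∧ (∀ i, FI (H i)) ∧
        ∀ i : Fin n, ∃ g : G, H i.succ = H i.castSucc ⊔ Subgroup.zpowers g := by
  have h1 : mho G p E = ⊥ := by
    rw [eq_bot_iff]
    rintro x ⟨z, rfl⟩
    exact Subgroup.mem_bot.2 (hE z)
  have h2 : om G p E = ⊤ := by
    rw [eq_top_iff]
    intro x _
    exact mem_om.2 (hE x)
  have := chain_of_creach FI.bot (creach_om h h1 E)
  rwa [h2] at this

/-- Transport of `CU` along an isomorphism. -/
theorem CU.of_mulEquiv {p : ℕ} {G' : Type*} [CommGroup G'] (e : G ≃* G') (h : CU p G') : CU p G := by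
  intro j
  obtain ⟨s, hs, hle⟩ := h j
  refine ⟨e.symm s, ?_, ?_⟩
  · rw [← map_pow, ← map_pow, hs, map_one]
  · intro x hx
    obtain ⟨hx1, hx2⟩ := Subgroup.mem_inf.1 hx
    obtain ⟨z, rfl⟩ := mem_mho.1 hx2
    rw [mem_om] at hx1
    have h1 : e (z ^ p ^ j) ∈ om G' p 1 ⊓ mho G' p j := by
      refine Subgroup.mem_inf.2 ⟨?_, mem_mho.2 ⟨e z, by rw [← map_pow]⟩⟩
      rw [mem_om, ← map_pow, hx1, map_one]
    obtain ⟨w, hw, u, hu, hwu⟩ := Subgroup.mem_sup.1 (hle h1)
    obtain ⟨hw1, hw2⟩ := Subgroup.mem_inf.1 hw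
    obtain ⟨v, hv⟩ := mem_mho.1 hw2
    rw [mem_om] at hw1
    obtain ⟨k, rfl⟩ := Subgroup.mem_zpowers_iff.1 hu
    have h2 : z ^ p ^ j = e.symm w * (e.symm s ^ p ^ j) ^ k := by
      rw [← map_pow, ← map_zpow, ← map_mul, hwu, MulEquiv.symm_apply_apply]
    rw [h2]
    refine Subgroup.mul_mem_sup (Subgroup.mem_inf.2 ⟨?_, mem_mho.2 ⟨e.symm v, ?_⟩⟩)
      (Subgroup.zpow_mem_zpowers _ k)
    · rw [mem_om, ← map_pow, hw1, map_one]
    · rw [← map_pow, hv]

theorem zmod_div {p : ℕ} [hp : Fact p.Prime] {e j : ℕ} (hej : e ≠ j + 1) (a : ZMod (p ^ e))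
    (h : (p ^ (j + 1)) • a = 0) : ∃ b : ZMod (p ^ e), (p ^ (j + 1)) • b = (p ^ j) • a := by
  haveI : NeZero (p ^ e) := ⟨pow_ne_zero _ hp.out.ne_zero⟩
  by_cases hle : e ≤ j
  · refine ⟨0, ?_⟩
    rw [smul_zero, nsmul_eq_mul]
    have : ((p ^ j : ℕ) : ZMod (p ^ e)) = 0 := by
      rw [ZMod.natCast_eq_zero_iff]
      exact pow_dvd_pow p hle
    rw [this, zero_mul]
  · have hge : j + 2 ≤ e := by omega
    have ha : a = ((a.val : ℕ) : ZMod (p ^ e)) := (ZMod.natCast_zmod_val a).symm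
    rw [ha, nsmul_eq_mul, ← Nat.cast_mul, ZMod.natCast_eq_zero_iff] at h
    have he : p ^ e = p ^ (j + 1) * p ^ (e - (j + 1)) := by
      rw [← pow_add]
      congr 1
      omega
    have h2 : p ^ (e - (j + 1)) ∣ a.val :=
      Nat.dvd_of_mul_dvd_mul_left (pow_pos hp.out.pos (j + 1)) (he ▸ h)
    obtain ⟨u, hu⟩ := h2
    refine ⟨((p ^ (e - (j + 2)) * u : ℕ) : ZMod (p ^ e)), ?_⟩
    rw [ha, nsmul_eq_mul, nsmul_eq_mul, ← Nat.cast_mul, ← Nat.cast_mul, hu]
    congr 1
    have h3 : e - (j + 1) = e - (j + 2) + 1 := by omega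
    rw [h3, pow_succ, pow_succ]
    ring

theorem cyclic_div {p : ℕ} [hp : Fact p.Prime] {e j : ℕ} (hej : e ≠ j + 1)
    (z : Multiplicative (ZMod (p ^ e))) (h : (z ^ p ^ j) ^ p = 1) :
    ∃ v : Multiplicative (ZMod (p ^ e)), v ^ p ^ (j + 1) = z ^ p ^ j := by
  have h1 : (p ^ (j + 1)) • (Multiplicative.toAdd z) = 0 := by
    have := congrArg Multiplicative.toAdd h
    rw [← pow_mul, ← pow_succ, toAdd_pow, toAdd_one] at this
    exact this
  obtain ⟨b, hb⟩ := zmod_div hej _ h1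
  refine ⟨Multiplicative.ofAdd b, ?_⟩
  apply Multiplicative.toAdd.injective
  rw [toAdd_pow, toAdd_pow, toAdd_ofAdd]
  exact hb


/-- A product of cyclic groups of pairwise distinct `p`-power orders has cyclic Ulm factors. -/
theorem cu_pi {p : ℕ} [hp : Fact p.Prime] {ι : Type*} (f : ι → ℕ) (hf : Function.Injective f) :
    CU p ((i : ι) → Multiplicative (ZMod (p ^ f i))) := by
  classical
  intro j
  by_cases hex : ∃ i₀, f i₀ = j + 1
  · obtain ⟨i₀, hi₀⟩ := hex
    have hother : ∀ i, i ≠ i₀ → f i ≠ j + 1 := fun i hi h => hi (hf (h.trans hi₀.symm))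
    have hs : ((Pi.mulSingle i₀ (Multiplicative.ofAdd (1 : ZMod (p ^ f i₀))) :
        (i : ι) → Multiplicative (ZMod (p ^ f i))) ^ p ^ j) ^ p = 1 := by
      rw [← pow_mul, ← pow_succ, ← Pi.mulSingle_pow, ← ofAdd_nsmul, nsmul_eq_mul, mul_one, ← hi₀]
      rw [ZMod.natCast_self, ofAdd_zero, Pi.mulSingle_one]
    refine ⟨Pi.mulSingle i₀ (Multiplicative.ofAdd 1), hs, ?_⟩
    intro x hx
    obtain ⟨hx1, hx2⟩ := Subgroup.mem_inf.1 hx
    obtain ⟨z, rfl⟩ := mem_mho.1 hx2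
    rw [mem_om, pow_one] at hx1
    -- the coordinate at `i₀`
    have hz0 : z i₀ = (Multiplicative.ofAdd (1 : ZMod (p ^ f i₀))) ^ (Multiplicative.toAdd (z i₀)).val := by
      haveI : NeZero (p ^ f i₀) := ⟨pow_ne_zero _ hp.out.ne_zero⟩
      apply Multiplicative.toAdd.injective
      rw [toAdd_pow, toAdd_ofAdd, nsmul_eq_mul, mul_one, ZMod.natCast_zmod_val]
    set k := (Multiplicative.toAdd (z i₀)).val with hk
    set t : (i : ι) → Multiplicative (ZMod (p ^ f i)) :=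
      (Pi.mulSingle i₀ (Multiplicative.ofAdd (1 : ZMod (p ^ f i₀)))) ^ p ^ j with ht
    have hw : z ^ p ^ j * (t ^ k)⁻¹ ∈ om _ p 1 ⊓ mho _ p (j + 1) := by
      refine Subgroup.mem_inf.2 ⟨?_, ?_⟩
      · rw [mem_om, pow_one, mul_pow, hx1, one_mul, inv_pow, ← pow_mul, mul_comm, pow_mul, hs, one_pow,
          inv_one]
      · have hcoord : ∀ i, ∃ v : Multiplicative (ZMod (p ^ f i)),
            v ^ p ^ (j + 1) = (z ^ p ^ j * (t ^ k)⁻¹) i := by
          intro i
          by_cases hi : i = i₀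
          · subst hi
            refine ⟨1, ?_⟩
            have e1 : (t ^ k) i = (z i) ^ p ^ j := by
              rw [Pi.pow_apply, ht, Pi.pow_apply, Pi.mulSingle_eq_same, ← pow_mul, mul_comm, pow_mul,
                ← hz0]
            rw [one_pow, Pi.mul_apply, Pi.inv_apply, e1, Pi.pow_apply, mul_inv_cancel]
          · have h1 : (z ^ p ^ j * (t ^ k)⁻¹) i = (z i) ^ p ^ j := by
              rw [Pi.mul_apply, Pi.inv_apply, Pi.pow_apply, Pi.pow_apply, ht, Pi.pow_apply,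
                Pi.mulSingle_eq_of_ne hi, one_pow, one_pow, inv_one, mul_one]
            rw [h1]
            refine cyclic_div (hother i hi) (z i) ?_
            have := congrFun hx1 i
            simpa using this
        choose v hv using hcoord
        exact mem_mho.2 ⟨v, funext hv⟩
    have h2 : z ^ p ^ j = (z ^ p ^ j * (t ^ k)⁻¹) * t ^ (k : ℤ) := by
      rw [zpow_natCast, inv_mul_cancel_right]
    rw [h2]
    exact Subgroup.mul_mem_sup hw (Subgroup.zpow_mem_zpowers _ _)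
  · refine ⟨1, by rw [one_pow, one_pow], ?_⟩
    intro x hx
    obtain ⟨hx1, hx2⟩ := Subgroup.mem_inf.1 hx
    obtain ⟨z, rfl⟩ := mem_mho.1 hx2
    rw [mem_om, pow_one] at hx1
    refine Subgroup.mem_sup_left (Subgroup.mem_inf.2 ⟨mem_om.2 (by rw [pow_one]; exact hx1), ?_⟩)
    have hcoord : ∀ i, ∃ v : Multiplicative (ZMod (p ^ f i)), v ^ p ^ (j + 1) = (z ^ p ^ j) i := by
      intro i
      refine cyclic_div (fun h => hex ⟨i, h⟩) (z i) ?_
      have := congrFun hx1 i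
      simpa using this
    choose v hv using hcoord
    exact mem_mho.2 ⟨v, funext hv⟩

/-- Splitting off one coordinate of a product of groups. -/
noncomputable def piSplitAtMul {ι : Type*} [DecidableEq ι] (M : ι → Type*) [∀ i, Group (M i)] (i : ι) :
    ((k : ι) → M k) ≃* M i × ((k : {k // k ≠ i}) → M k) :=
  { Equiv.piSplitAt i M with
    map_mul' := fun _ _ => rfl }

/-- Splitting off two coordinates of a product of groups. -/
noncomputable def piSplitTwo {ι : Type} [DecidableEq ι] (M : ι → Type) [∀ i, Group (M i)] (i j : ι)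
    (hji : j ≠ i) :
    ((k : ι) → M k) ≃* (M i × M j) × ((k : {k : {k // k ≠ i} // k ≠ ⟨j, hji⟩}) → M k) :=
  ((piSplitAtMul M i).trans
    (MulEquiv.prodCongr (MulEquiv.refl (M i))
      (piSplitAtMul (fun k : {k // k ≠ i} => M k) ⟨j, hji⟩))).trans MulEquiv.prodAssoc.symm

/-- A finite abelian `p`-group without a direct factor `(Z/p^n)²` (`n ≥ 1`) is a product of cyclic groups of
pairwise distinct orders. -/
theorem exists_iso_pi_injective {S : Type*} [CommGroup S] [Finite S] (p : ℕ) [hp : Fact p.Prime]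
    (hS : IsPGroup p S)
    (hno : ¬ ∃ (n : ℕ) (H : Type) (_ : CommGroup H), 0 < n ∧
      Nonempty (S ≃* (Multiplicative (ZMod (p ^ n)) × Multiplicative (ZMod (p ^ n))) × H)) :
    ∃ (ι : Type) (f : ι → ℕ), Function.Injective f ∧
      Nonempty (S ≃* ((i : ι) → Multiplicative (ZMod (p ^ f i)))) := by
  classical
  obtain ⟨ι, _, n, hn1, ⟨e⟩⟩ := CommGroup.equiv_prod_multiplicative_zmod_of_finite S
  have h1 : ∀ i, ∃ k, n i = p ^ k := by
    intro i
    obtain ⟨k, hk⟩ := hS (e.symm (Pi.mulSingle i (Multiplicative.ofAdd (1 : ZMod (n i)))))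
    rw [← map_pow, ← map_one e.symm] at hk
    have h2 := congrFun (e.symm.injective hk) i
    rw [Pi.pow_apply, Pi.mulSingle_eq_same, Pi.one_apply, ← ofAdd_nsmul, nsmul_eq_mul, mul_one] at h2
    have h3 : ((p ^ k : ℕ) : ZMod (n i)) = 0 := by
      have := congrArg Multiplicative.toAdd h2
      simpa using this
    rw [ZMod.natCast_eq_zero_iff] at h3
    obtain ⟨m, -, hm⟩ := (Nat.dvd_prime_pow hp.out).1 h3
    exact ⟨m, hm⟩
  choose f hf using h1
  have hn : n = fun i => p ^ f i := funext hf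
  subst hn
  refine ⟨ι, f, ?_, ⟨e⟩⟩
  intro i j hij
  by_contra hne
  apply hno
  have hpos : 0 < f i := by
    by_contra h0
    have h00 : f i = 0 := by omega
    have h01 : 1 < p ^ f i := hn1 i
    rw [h00, pow_zero] at h01
    exact lt_irrefl _ h01
  have e2 : Multiplicative (ZMod (p ^ f j)) ≃* Multiplicative (ZMod (p ^ f i)) :=
    AddEquiv.toMultiplicative (ZMod.ringEquivCongr (by rw [hij])).toAddEquiv
  exact ⟨f i, _, inferInstance, hpos,
    ⟨(e.trans (piSplitTwo (fun k => Multiplicative (ZMod (p ^ f k))) i j (Ne.symm hne))).trans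
      (MulEquiv.prodCongr (MulEquiv.prodCongr (MulEquiv.refl _) e2) (MulEquiv.refl _))⟩⟩

/-- A finite abelian `p`-group without a direct factor `(Z/p^n)²` (`n ≥ 1`) has a chain of fully invariant
subgroups from `⊥` to `⊤` with cyclic steps. -/
theorem exists_chain_of_no_repeated {S : Type*} [CommGroup S] [Finite S] (p : ℕ) [hp : Fact p.Prime]
    (hS : IsPGroup p S)
    (hno : ¬ ∃ (n : ℕ) (H : Type) (_ : CommGroup H), 0 < n ∧
      Nonempty (S ≃* (Multiplicative (ZMod (p ^ n)) × Multiplicative (ZMod (p ^ n))) × H)) :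
    ∃ (n : ℕ) (H : Fin (n + 1) → Subgroup S),
      H 0 = ⊥ ∧ H (Fin.last n) = ⊤ ∧ (∀ i, FI (H i)) ∧
        ∀ i : Fin n, ∃ g : S, H i.succ = H i.castSucc ⊔ Subgroup.zpowers g := by
  obtain ⟨ι, f, hf, ⟨e⟩⟩ := exists_iso_pi_injective p hS hno
  obtain ⟨E, hE⟩ := IsPGroup.iff_card.1 hS
  refine exists_chain (CU.of_mulEquiv e (cu_pi f hf)) (E := E) ?_
  intro x
  rw [← hE]
  exact pow_card_eq_one'

end Cfsg.Agent.Lib.Helper87_AbelianChain
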