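import Cfsg.Agent.Lib.Helper87_Normal
import Cfsg.Agent.Lib.Helper87_OddOmega
import Cfsg.Prelude.Def_PLocal

set_option autoImplicit false

namespace Cfsg.Agent.Lib.Helper87_Normal2

open Cfsg Cfsg.FusionSystem Cfsg.Agent.Lib.Helper87_Alperin Cfsg.Agent.Lib.Helper87_Alperin2
  Cfsg.Agent.Lib.Helper87_Normal Cfsg.Agent.Lib.Helper87_AutSystem Cfsg.Agent.Lib.Helper87_OddOmega
open scoped Pointwise

universe u

variable {Ω : Type u} [Group Ω] {S : Subgroup Ω}

/-! ### Automorphisms stabilizing a family of invariant pairs lie in the `p`-core -/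

/-- Let `R` be a finite `p`-group, `K` a group of automorphisms of `R` and `(U j, V j)`, `j < m`, pairs of subgroups
whose intersections with `R` are invariant under `K`. Suppose that the only element of `K` of order prime to `p`
with `x⁻¹ α(x) ∈ V j` for all `x ∈ R ∩ U j` and all `j` is the identity. Then every element `β` of `K` with that
property lies in `O_p(K)`. -/
theorem mem_pCore_of_stabilizes_pairs {R : Subgroup Ω} [Finite R] {p : ℕ} [Fact p.Prime]
    (K : Subgroup (MulAut R)) (U V : ℕ → Subgroup Ω) (m : ℕ)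
    (hinvU : ∀ j < m, ∀ α ∈ K, ∀ x : R, (x : Ω) ∈ U j → ((α x : R) : Ω) ∈ U j)
    (hinvV : ∀ j < m, ∀ α ∈ K, ∀ x : R, (x : Ω) ∈ V j → ((α x : R) : Ω) ∈ V j)
    (htriv : ∀ α ∈ K, (orderOf α).Coprime p →
      (∀ j < m, ∀ x : R, (x : Ω) ∈ U j → (x : Ω)⁻¹ * ((α x : R) : Ω) ∈ V j) → α = 1)
    (β : MulAut R) (hβK : β ∈ K)
    (hβ : ∀ j < m, ∀ x : R, (x : Ω) ∈ U j → (x : Ω)⁻¹ * ((β x : R) : Ω) ∈ V j) :
    β ∈ (pCore p K).map K.subtype := by
  classical
  let A : Subgroup K :=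
    { carrier := {α | ∀ j < m, ∀ x : R, (x : Ω) ∈ U j →
        (x : Ω)⁻¹ * (((α : MulAut R) x : R) : Ω) ∈ V j}
      one_mem' := by
        intro j _ x _
        simp
      mul_mem' := by
        intro a b ha hb j hj x hx
        have h1 := hb j hj x hx
        have h3 : ((((b : MulAut R) x : R)) : Ω) ∈ U j := hinvU j hj b b.2 x hx
        have h4 := ha j hj ((b : MulAut R) x) h3
        have h5 : (x : Ω)⁻¹ * ((((a * b : K) : MulAut R) x : R) : Ω) =
            ((x : Ω)⁻¹ * (((b : MulAut R) x : R) : Ω)) *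
              ((((b : MulAut R) x : R) : Ω)⁻¹ * (((a : MulAut R) ((b : MulAut R) x) : R) : Ω)) := by
          simp only [Subgroup.coe_mul, MulAut.mul_apply]
          group
        show (x : Ω)⁻¹ * ((((a * b : K) : MulAut R) x : R) : Ω) ∈ V j
        rw [h5]
        exact (V j).mul_mem h1 h4
      inv_mem' := by
        intro a ha j hj x hx
        have ha' : ((a⁻¹ : K) : MulAut R) ∈ K := (a⁻¹).2
        have h3 : (((((a⁻¹ : K) : MulAut R)) x : R) : Ω) ∈ U j := hinvU j hj _ ha' x hx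
        have h4 := ha j hj (((a⁻¹ : K) : MulAut R) x) h3
        have h5 : ((a : MulAut R) (((a⁻¹ : K) : MulAut R) x)) = x := by
          simp
        rw [h5] at h4
        have h6 : (x : Ω)⁻¹ * (((((a⁻¹ : K) : MulAut R)) x : R) : Ω) =
            ((((((a⁻¹ : K) : MulAut R)) x : R) : Ω)⁻¹ * (x : Ω))⁻¹ := by group
        show (x : Ω)⁻¹ * (((((a⁻¹ : K) : MulAut R)) x : R) : Ω) ∈ V j
        rw [h6]
        exact (V j).inv_mem h4 }
  have hAmem : ∀ α : K, α ∈ A ↔ ∀ j < m, ∀ x : R, (x : Ω) ∈ U j →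
      (x : Ω)⁻¹ * (((α : MulAut R) x : R) : Ω) ∈ V j := fun _ => Iff.rfl
  have hAn : A.Normal := by
    constructor
    intro a ha g
    rw [hAmem] at ha ⊢
    intro j hj x hx
    have hg' : ((g⁻¹ : K) : MulAut R) ∈ K := (g⁻¹).2
    have h1 : (((((g⁻¹ : K) : MulAut R)) x : R) : Ω) ∈ U j := hinvU j hj _ hg' x hx
    have h2 := ha j hj _ h1
    set w : R := ((g⁻¹ : K) : MulAut R) x with hw
    have h3 : (((g : MulAut R) (w⁻¹ * (a : MulAut R) w) : R) : Ω) ∈ V j :=
      hinvV j hj g g.2 (w⁻¹ * (a : MulAut R) w) h2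
    have h4 : (g : MulAut R) w = x := by
      rw [hw]
      simp
    have h5 : (x : Ω)⁻¹ * ((((g * a * g⁻¹ : K) : MulAut R) x : R) : Ω) =
        (((g : MulAut R) (w⁻¹ * (a : MulAut R) w) : R) : Ω) := by
      simp only [Subgroup.coe_mul, MulAut.mul_apply, map_mul, map_inv, h4]
      rfl
    rw [h5]
    exact h3
  have hAp : IsPGroup p A := by
    apply isPGroup_of_coprime_eq_one
    rintro ⟨⟨α, hαK⟩, hαA⟩ hcop
    have hcop' : (orderOf α).Coprime p := by
      have h1 : orderOf (⟨⟨α, hαK⟩, hαA⟩ : A) = orderOf (⟨α, hαK⟩ : K) := Subgroup.orderOf_mk _ _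
      have h2 : orderOf (⟨α, hαK⟩ : K) = orderOf α := Subgroup.orderOf_mk _ _
      rwa [h1, h2] at hcop
    have hα1 : α = 1 := htriv α hαK hcop' ((hAmem ⟨α, hαK⟩).1 hαA)
    apply Subtype.ext
    apply Subtype.ext
    exact hα1
  have hle : A ≤ pCore p K := le_pCore' hAn hAp
  exact ⟨⟨β, hβK⟩, hle ((hAmem _).2 hβ), rfl⟩

/-! ### Maps of a system with a normal subgroup `Q` induce automorphisms of `Q` -/

/-- If `Q` is normal in `F` then every map of `F` agrees, on the part of its source inside `Q`, with an automorphism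
of `Q`. -/
theorem exists_aut_of_isNormal {F : FusionSystem S} {Q : Subgroup Ω} [Finite Q] (hN : F.IsNormal Q)
    {R : Subgroup Ω} {φ : R →* Ω} (hφ : φ ∈ F.Hom R) :
    ∃ β : MulAut Q, ∀ (x : R) (hx : (x : Ω) ∈ Q), φ x = ((β ⟨x, hx⟩ : Q) : Ω) := by
  obtain ⟨ψ, hψ, hext, himg⟩ := hN.2 R φ hφ
  have hψinj : Function.Injective ψ := F.injective_of_mem hψ
  have hψQ : ∀ y : Q, ψ ⟨y, (le_sup_right : Q ≤ R ⊔ Q) y.2⟩ ∈ Q := fun y =>
    Helper85_Fusion.apply_mem_of_map_eq ψ himg _ y.2 _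
  let β₀ : Q →* Q :=
    { toFun := fun y => ⟨ψ ⟨y, (le_sup_right : Q ≤ R ⊔ Q) y.2⟩, hψQ y⟩
      map_one' := by
        apply Subtype.ext
        exact ψ.map_one
      map_mul' := by
        intro a b
        apply Subtype.ext
        exact ψ.map_mul ⟨a, _⟩ ⟨b, _⟩ }
  have hβ₀inj : Function.Injective β₀ := by
    intro a b hab
    have h1 : ψ ⟨a, (le_sup_right : Q ≤ R ⊔ Q) a.2⟩ = ψ ⟨b, (le_sup_right : Q ≤ R ⊔ Q) b.2⟩ :=
      congrArg Subtype.val hab
    have h2 := hψinj h1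
    apply Subtype.ext
    exact Subtype.mk.inj h2
  have hβ₀bij : Function.Bijective β₀ := Finite.injective_iff_bijective.1 hβ₀inj
  refine ⟨MulEquiv.ofBijective β₀ hβ₀bij, fun x hx => ?_⟩
  rw [← hext x]
  rfl

/-! ### `Ω₁` is invariant under automorphisms -/

theorem omegaOne_le (p : ℕ) (P : Subgroup Ω) : omegaOne p P ≤ P := by
  apply (Subgroup.closure_le _).2
  rintro x ⟨hx, -⟩
  exact hx

theorem omegaOne_aut_mem (p : ℕ) {P : Subgroup Ω} (β : MulAut P) (x : P)
    (hx : (x : Ω) ∈ omegaOne p P) : ((β x : P) : Ω) ∈ omegaOne p P := by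
  set O' : Subgroup P := Subgroup.closure {y : P | y ^ p = 1} with hO'
  have hO'map : O'.map P.subtype = omegaOne p P := by
    rw [hO', MonoidHom.map_closure]
    unfold omegaOne
    congr 1
    ext y
    constructor
    · rintro ⟨z, hz, rfl⟩
      refine ⟨z.2, ?_⟩
      have := congrArg Subtype.val (show z ^ p = 1 from hz)
      simpa using this
    · rintro ⟨hy, hyp⟩
      refine ⟨⟨y, hy⟩, ?_, rfl⟩
      show (⟨y, hy⟩ : P) ^ p = 1
      apply Subtype.ext
      simpa using hyp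
  have hO'inv : O'.map β.toMonoidHom ≤ O' := by
    rw [hO', MonoidHom.map_closure]
    apply Subgroup.closure_mono
    rintro _ ⟨z, hz, rfl⟩
    show (β z) ^ p = 1
    have hz' : z ^ p = 1 := hz
    rw [← map_pow, hz', map_one]
  rw [← hO'map] at hx ⊢
  obtain ⟨x', hx', hxx⟩ := hx
  have : x' = x := Subtype.ext hxx
  subst this
  exact ⟨β x', hO'inv ⟨x', hx', rfl⟩, rfl⟩

/-- An element of `P` with trivial `p`-th power lies in `Ω₁(P)`. -/
theorem mem_omegaOne {p : ℕ} {P : Subgroup Ω} {x : Ω} (hx : x ∈ P) (hxp : x ^ p = 1) :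
    x ∈ omegaOne p P :=
  Subgroup.subset_closure ⟨hx, hxp⟩

end Cfsg.Agent.Lib.Helper87_Normal2
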