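import Cfsg.Agent.Lib.Helper9_Huppert
import Cfsg.Agent.Lib.Helper9_CLT2
import Cfsg.Agent.Lib.Helper9_Supersolvable
import Cfsg.Agent.Lib.Helper9_Supersolvable2

/-!
A normal `p`-subgroup `P` of a finite group `Γ` with `Γ/P` abelian of exponent dividing `p - 1` can be
reached from the trivial subgroup by a chain of normal subgroups of `Γ` with cyclic steps (helper87;
built on helper9's supersolvability library).
-/

set_option autoImplicit false
set_option linter.style.haveILetI false
open scoped commutatorElement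

universe u

namespace Cfsg.Agent.Lib.Helper87_Supersoluble

open Cfsg.Agent.Lib.Helper9_Supersolvable Cfsg.Agent.Lib.Helper9_Supersolvable2
  Cfsg.Agent.Lib.Helper9_CLT2 Cfsg.Agent.Lib.Helper9_Huppert

theorem reach_of_abelian_quotient_aux (p : ℕ) [hp : Fact p.Prime] :
    ∀ (n : ℕ) (Γ : Type u) [Group Γ] [Finite Γ], Nat.card Γ = n →
      ∀ (P : Subgroup Γ) [P.Normal], IsPGroup p P → (∀ g : Γ, g ^ (p - 1) ∈ P) →
        (∀ g g' : Γ, ⁅g, g'⁆ ∈ P) → Reach P := by
  intro n
  induction n using Nat.strong_induction_on with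
  | _ n ih =>
    intro Γ _ _ hcard P hPn hPp hpow hc
    by_cases hP : P = ⊥
    · rw [hP]; exact Reach.bot
    obtain ⟨N, hNn, hN0, hNP, hmin⟩ := exists_minimal_normal_le P hP
    haveI := hNn
    have hNC : N ≤ Subgroup.centralizer (P : Set Γ) :=
      minimal_normal_le_centralizer p P N hPp hN0 hNP hmin
    have hcomm : ∀ a ∈ N, ∀ b ∈ N, a * b = b * a := by
      intro a ha b hb
      exact ((Subgroup.mem_centralizer_iff.1 (hNC ha)) b (hNP hb)).symm
    -- the elements of order dividing `p`
    have hexp : ∀ a ∈ N, a ^ p = 1 := by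
      let E : Subgroup Γ :=
        { carrier := {a | a ∈ N ∧ a ^ p = 1}
          one_mem' := ⟨N.one_mem, one_pow p⟩
          mul_mem' := by
            rintro a b ⟨ha, ha'⟩ ⟨hb, hb'⟩
            refine ⟨N.mul_mem ha hb, ?_⟩
            have hab : Commute a b := hcomm a ha b hb
            rw [hab.mul_pow, ha', hb', one_mul]
          inv_mem' := by
            rintro a ⟨ha, ha'⟩
            exact ⟨N.inv_mem ha, by rw [inv_pow, ha', inv_one]⟩ }
      have hEmem : ∀ x, x ∈ E ↔ x ∈ N ∧ x ^ p = 1 := fun x => Iff.rfl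
      have hEn : E.Normal := by
        constructor
        intro a ha g
        obtain ⟨haN, ha'⟩ := (hEmem a).1 ha
        rw [hEmem]
        refine ⟨hNn.conj_mem a haN g, ?_⟩
        rw [conj_pow, ha', mul_one, mul_inv_cancel]
      have hEle : E ≤ N := fun x hx => ((hEmem x).1 hx).1
      have hEne : E ≠ ⊥ := by
        have hNnt : Nontrivial N := (Subgroup.nontrivial_iff_ne_bot N).2 hN0
        obtain ⟨k, hk0, hk⟩ := ((hPp.to_le hNP)).nontrivial_iff_card.mp hNnt
        have hpN : p ∣ Nat.card N := by rw [hk]; exact dvd_pow_self _ hk0.ne'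
        obtain ⟨x, hx⟩ := exists_prime_orderOf_dvd_card' p hpN
        intro h
        have h1 : (x : Γ) ∈ E := by
          refine (hEmem _).2 ⟨x.2, ?_⟩
          have : x ^ p = 1 := by rw [← hx]; exact pow_orderOf_eq_one x
          have := congrArg Subtype.val this
          simpa using this
        rw [h, Subgroup.mem_bot] at h1
        have hx1 : x = 1 := Subtype.ext h1
        rw [hx1, orderOf_one] at hx
        exact hp.out.one_lt.ne hx
      have hEN := hmin E hEn hEne hEle
      intro a ha
      rw [← hEN] at ha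
      exact ((hEmem a).1 ha).2
    have hpow' : ∀ g : Γ, ∀ w ∈ N, g ^ (p - 1) * w = w * g ^ (p - 1) := by
      intro g w hw
      exact (Subgroup.mem_centralizer_iff.1 (hNC hw)) _ (hpow g)
    have hc' : ∀ g g' : Γ, ∀ w ∈ N, ⁅g, g'⁆ * w = w * ⁅g, g'⁆ := by
      intro g g' w hw
      exact (Subgroup.mem_centralizer_iff.1 (hNC hw)) _ (hc g g')
    have hNcard : Nat.card N = p :=
      card_eq_prime_of_abelian_action p N hN0 hmin hcomm hexp hpow' hc'
    haveI : IsCyclic N := isCyclic_of_prime_card hNcard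
    -- the quotient
    have hlt : Nat.card (Γ ⧸ N) < n := by
      rw [← hcard]
      exact card_quotient_lt N hN0
    have hPbar : (P.map (QuotientGroup.mk' N)).Normal :=
      hPn.map _ (QuotientGroup.mk'_surjective N)
    have hreach := ih _ hlt (Γ ⧸ N) rfl (P.map (QuotientGroup.mk' N)) (hPp.map _)
      (by
        intro g
        obtain ⟨g, rfl⟩ := QuotientGroup.mk'_surjective N g
        exact ⟨g ^ (p - 1), hpow g, map_pow _ _ _⟩)
      (by
        intro g g'
        obtain ⟨g, rfl⟩ := QuotientGroup.mk'_surjective N g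
        obtain ⟨g', rfl⟩ := QuotientGroup.mk'_surjective N g'
        exact ⟨⁅g, g'⁆, hc g g', map_commutatorElement _ _ _⟩)
    have h2 := Reach.comap_mk N (reach_of_isCyclic_normal N) hreach
    rwa [Subgroup.comap_map_eq, QuotientGroup.ker_mk', sup_eq_left.2 hNP] at h2

/-- A normal `p`-subgroup `P` of a finite group `Γ` such that `Γ/P` is abelian of exponent dividing `p - 1`
is reached from `⊥` by a chain of normal subgroups of `Γ` with cyclic steps. -/
theorem reach_of_abelian_quotient (p : ℕ) [Fact p.Prime] {Γ : Type u} [Group Γ] [Finite Γ]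
    (P : Subgroup Γ) [P.Normal] (hP : IsPGroup p P) (hpow : ∀ g : Γ, g ^ (p - 1) ∈ P)
    (hc : ∀ g g' : Γ, ⁅g, g'⁆ ∈ P) : Reach P :=
  reach_of_abelian_quotient_aux p _ Γ rfl P hP hpow hc

/-- A finite `p`-group `G` with an abelian group `H` of automorphisms of exponent dividing `p - 1` has a chain
of `H`-invariant normal subgroups from `⊥` to `⊤` with cyclic steps. -/
theorem exists_chain_of_abelian_action {G : Type u} [Group G] [Finite G] (p : ℕ) [Fact p.Prime]
    (hG : IsPGroup p G) (H : Subgroup (MulAut G)) (hc : ∀ a ∈ H, ∀ b ∈ H, a * b = b * a)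
    (he : ∀ h ∈ H, h ^ (p - 1) = 1) :
    ∃ (m : ℕ) (c : Fin (m + 1) → Subgroup G), c 0 = ⊥ ∧ c (Fin.last m) = ⊤ ∧
      (∀ i, (c i).Normal) ∧ (∀ i, ∀ h ∈ H, ∀ x, x ∈ c i ↔ h x ∈ c i) ∧
        ∀ i : Fin m, ∃ x, c i.succ = c i.castSucc ⊔ Subgroup.zpowers x := by
  haveI : Finite (G ⋊[H.subtype] H) := Finite.of_equiv _ SemidirectProduct.equivProd.symm
  have hPker : (SemidirectProduct.inl : G →* G ⋊[H.subtype] H).range =
      (SemidirectProduct.rightHom : G ⋊[H.subtype] H →* H).ker :=
    SemidirectProduct.range_inl_eq_ker_rightHom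
  haveI hPn : (SemidirectProduct.inl : G →* G ⋊[H.subtype] H).range.Normal := by
    rw [hPker]
    infer_instance
  have hPp : IsPGroup p (SemidirectProduct.inl : G →* G ⋊[H.subtype] H).range :=
    hG.of_surjective (SemidirectProduct.inl : G →* G ⋊[H.subtype] H).rangeRestrict
      (MonoidHom.rangeRestrict_surjective _)
  have hpow : ∀ g : G ⋊[H.subtype] H,
      g ^ (p - 1) ∈ (SemidirectProduct.inl : G →* G ⋊[H.subtype] H).range := by
    intro g
    rw [hPker, MonoidHom.mem_ker, map_pow]
    apply Subtype.ext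
    rw [Subgroup.coe_pow]
    exact he _ (SemidirectProduct.rightHom g).2
  have hcomm : ∀ g g' : G ⋊[H.subtype] H,
      ⁅g, g'⁆ ∈ (SemidirectProduct.inl : G →* G ⋊[H.subtype] H).range := by
    intro g g'
    rw [hPker, MonoidHom.mem_ker, map_commutatorElement, commutatorElement_eq_one_iff_mul_comm]
    apply Subtype.ext
    rw [Subgroup.coe_mul, Subgroup.coe_mul]
    exact hc _ (SemidirectProduct.rightHom g).2 _ (SemidirectProduct.rightHom g').2
  have hreach := reach_of_abelian_quotient p
    (SemidirectProduct.inl : G →* G ⋊[H.subtype] H).range hPp hpow hcomm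
  obtain ⟨n, B, hB0, hBl, hBn, hBs⟩ := chain_of_reach hreach
  have hinj : Function.Injective (SemidirectProduct.inl : G →* G ⋊[H.subtype] H) :=
    SemidirectProduct.inl_injective
  have hle : ∀ i : Fin (n + 1), B i ≤ (SemidirectProduct.inl : G →* G ⋊[H.subtype] H).range := by
    intro i
    induction i using Fin.reverseInduction with
    | last => exact hBl.le
    | cast i ih =>
      obtain ⟨g, hg⟩ := hBs i
      refine le_trans ?_ ih
      rw [hg]
      exact le_sup_left
  refine ⟨n, fun i => (B i).comap (SemidirectProduct.inl : G →* G ⋊[H.subtype] H), ?_, ?_, ?_, ?_, ?_⟩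
  · show (B 0).comap _ = ⊥
    rw [hB0, MonoidHom.comap_bot]
    exact (MonoidHom.ker_eq_bot_iff _).2 hinj
  · show (B (Fin.last n)).comap _ = ⊤
    rw [hBl, eq_top_iff]
    intro x _
    exact ⟨x, rfl⟩
  · intro i
    exact (hBn i).comap _
  · intro i h hh x
    show SemidirectProduct.inl x ∈ B i ↔ SemidirectProduct.inl (h x) ∈ B i
    have h1 : (SemidirectProduct.inl (h x) : G ⋊[H.subtype] H) =
        SemidirectProduct.inr ⟨h, hh⟩ * SemidirectProduct.inl x * (SemidirectProduct.inr ⟨h, hh⟩)⁻¹ := by
      rw [← map_inv]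
      exact SemidirectProduct.inl_aut (φ := H.subtype) ⟨h, hh⟩ x
    rw [h1]
    constructor
    · intro hx
      exact (hBn i).conj_mem _ hx _
    · intro hx
      have := (hBn i).conj_mem _ hx (SemidirectProduct.inr ⟨h, hh⟩)⁻¹
      simpa [mul_assoc] using this
  · intro i
    obtain ⟨g, hg⟩ := hBs i
    have hgm : g ∈ B i.succ := by
      rw [hg]
      exact (le_sup_right : Subgroup.zpowers g ≤ _) (Subgroup.mem_zpowers g)
    obtain ⟨x, rfl⟩ := hle _ hgm
    refine ⟨x, ?_⟩
    show (B i.succ).comap _ = (B i.castSucc).comap _ ⊔ Subgroup.zpowers x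
    rw [hg, ← Subgroup.comap_sup_eq_of_le_range _ (hle _)
      (by rw [Subgroup.zpowers_le]; exact ⟨x, rfl⟩), ← MonoidHom.map_zpowers,
      Subgroup.comap_map_eq_self_of_injective hinj]

end Cfsg.Agent.Lib.Helper87_Supersoluble
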