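import Cfsg.Agent.Lib.Helper87_CyclicChain
import Cfsg.Agent.Lib.Helper87_Supersoluble
import Cfsg.Agent.Lib.Helper87_Normal2
import Cfsg.Agent.Lib.Helper84_FusionRS
import Cfsg.Agent.S5301

/-!
Supersoluble-type fusion systems (helper87): a saturated fusion system over `S` with a chain of strongly closed
subgroups from `⊥` to `S` with cyclic steps has `S` normal; if all saturated systems over `S` have such chains
then the `p'`-subgroups of `Aut(S)` are abelian of exponent dividing `p - 1`; and conversely.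
-/

set_option autoImplicit false
set_option linter.style.haveILetI false
open scoped commutatorElement

universe u

namespace Cfsg.Agent.Lib.Helper87_CyclicChain2

open Cfsg Cfsg.FusionSystem Cfsg.Agent.Lib.Helper87_Alperin Cfsg.Agent.Lib.Helper87_Alperin2
  Cfsg.Agent.Lib.Helper87_Normal Cfsg.Agent.Lib.Helper87_PowAct Cfsg.Agent.Lib.Helper87_CyclicChain
  Cfsg.Agent.Lib.Helper87_AutSystem Cfsg.Agent.Lib.Helper87_Supersoluble

variable {Ω : Type u} [Group Ω] {S : Subgroup Ω}


/-- In a finite group whose commutators all lie in `O_p`, every Sylow `p`-subgroup is normal. -/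
theorem sylow_normal_of_commutator_mem {G : Type*} [Group G] [Finite G] {p : ℕ} [Fact p.Prime]
    (h : ∀ a b : G, ⁅a, b⁆ ∈ pCore p G) (R : Sylow p G) : (R : Subgroup G).Normal := by
  constructor
  intro t ht g
  have h1 : g * t * g⁻¹ = ⁅g, t⁆ * t := by
    rw [commutatorElement_def]
    group
  rw [h1]
  exact (R : Subgroup G).mul_mem (pCore_le_sylow' p R (h g t)) ht

/-- A saturated fusion system with a chain of strongly closed subgroups with cyclic steps from `⊥` to `S` has `S`
normal. -/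
theorem isNormal_of_chain [Finite S] (p : ℕ) [Fact p.Prime] (hS : IsPGroup p S) (F : FusionSystem S)
    (hF : F.IsSaturated p) {m : ℕ} {c : Fin (m + 1) → Subgroup Ω} (h0 : c 0 = ⊥)
    (hm : c (Fin.last m) = S) (hsc : ∀ i : Fin (m + 1), F.StronglyClosed (c i))
    (hstep : ∀ i : Fin m, c i.castSucc ≤ c i.succ ∧
      ∃ x ∈ S, c i.succ = c i.castSucc ⊔ Subgroup.zpowers x) : F.IsNormal S := by
  refine Cfsg.Agent.S5301.result p hS F hF ?_
  intro P hPn _ _
  have hPS : P ≤ S := hPn.1
  haveI hfinP : Finite P := Finite.of_injective (Subgroup.inclusion hPS) (Subgroup.inclusion_injective hPS)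
  have hP : IsPGroup p P := hS.to_le hPS
  haveI : Finite (F.autGroup P) := inferInstance
  obtain ⟨R⟩ : Nonempty (Sylow p (F.autGroup P)) := inferInstance
  refine ⟨R, sylow_normal_of_commutator_mem ?_ R⟩
  intro a b
  have h1 : ⁅(a : MulAut P), (b : MulAut P)⁆ ∈ (pCore p (F.autGroup P)).map (F.autGroup P).subtype := by
    refine mem_pCore_of_stabFin h0 (hm ▸ hPS) hP (F.autGroup P) ?_ ?_
      (stabFin_comm hsc hstep hPS a.2 b.2)
    · intro i α hα x hx
      exact stronglyClosed_aut_mem (hsc i) hPS hα x hx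
    · exact (⁅a, b⁆ : F.autGroup P).2
  obtain ⟨z, hz, hz'⟩ := h1
  have : z = ⁅a, b⁆ := by
    apply Subtype.ext
    exact hz'
  rw [← this]
  exact hz



theorem inn_normal (G : Type*) [Group G] : (Inn G).Normal := by
  constructor
  rintro _ ⟨g, rfl⟩ β
  refine ⟨β g, ?_⟩
  ext x
  simp [MulAut.conj_apply]

/-- An element of a finite group of order prime to `p` whose `p ^ e`-th power is trivial is trivial. -/
theorem eq_one_of_pow_eq_one_of_coprime {G : Type*} [Group G] [Finite G] {p : ℕ} (hG : (Nat.card G).Coprime p)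
    (g : G) (e : ℕ) (h : g ^ (p ^ e) = 1) : g = 1 := by
  have h1 : orderOf g ∣ p ^ e := orderOf_dvd_of_pow_eq_one h
  have h2 : orderOf g ∣ Nat.card G := orderOf_dvd_natCard g
  have h3 : (Nat.card G).Coprime (p ^ e) := Nat.Coprime.pow_right e hG
  have h4 : orderOf g = 1 := Nat.eq_one_of_dvd_coprimes h3 h2 h1
  exact orderOf_eq_one_iff.1 h4

theorem abelian_of_chains [Finite S] (p : ℕ) [Fact p.Prime] (hS : IsPGroup p S)
    (hch : ∀ F : FusionSystem S, F.IsSaturated p → ∃ (m : ℕ) (c : Fin (m + 1) → Subgroup Ω),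
      c 0 = ⊥ ∧ c (Fin.last m) = S ∧ (∀ i : Fin (m + 1), F.StronglyClosed (c i)) ∧
        ∀ i : Fin m, c i.castSucc ≤ c i.succ ∧ ∃ x ∈ S, c i.succ = c i.castSucc ⊔ Subgroup.zpowers x)
    (H : Subgroup (MulAut S)) (hH : (Nat.card H).Coprime p) :
    IsMulCommutative H ∧ ∀ h ∈ H, h ^ (p - 1) = 1 := by
  haveI := inn_normal S
  have hA : Inn S ≤ Inn S ⊔ H := le_sup_left
  have hidx : ¬ p ∣ ((Inn S).subgroupOf (Inn S ⊔ H)).index := by
    intro hdvd
    have h1 : ((Inn S).subgroupOf (Inn S ⊔ H)).index = (Inn S).relIndex H :=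
      Subgroup.relIndex_sup_left H (Inn S)
    rw [h1] at hdvd
    have h2 := hdvd.trans (Subgroup.relIndex_dvd_card (Inn S) H)
    have h3 : p ∣ Nat.gcd (Nat.card H) p := Nat.dvd_gcd h2 dvd_rfl
    rw [hH] at h3
    exact (Fact.out : p.Prime).one_lt.ne' (Nat.dvd_one.1 h3)
  have hsat := autSystem_isSaturated S hS (Inn S ⊔ H) hA hidx
  obtain ⟨m, c, h0, hm, hsc, hstep⟩ := hch _ hsat
  have hmem : ∀ h ∈ H, h ∈ (autSystem S (Inn S ⊔ H) hA).autGroup S := by
    intro h hh
    rw [mem_autGroup_autSystem le_rfl]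
    exact ⟨h, le_sup_right (a := Inn S) hh, fun x => rfl⟩
  obtain ⟨e, he⟩ := IsPGroup.iff_card.1 hS
  have key : ∀ β : MulAut S, β ∈ H → StabFin c β → β = 1 := by
    intro β hβ hst
    refine eq_one_of_stabFin h0 hm.ge hS ?_ hst
    have h1 : orderOf β ∣ Nat.card H := by
      have := orderOf_dvd_natCard (⟨β, hβ⟩ : H)
      rwa [Subgroup.orderOf_mk] at this
    exact Nat.Coprime.coprime_dvd_left h1 hH
  refine ⟨⟨⟨fun a b => ?_⟩⟩, fun h hh => ?_⟩
  · have h1 : ⁅(a : MulAut S), (b : MulAut S)⁆ = 1 :=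
      key _ (⁅a, b⁆ : H).2 (stabFin_comm hsc hstep le_rfl (hmem _ a.2) (hmem _ b.2))
    apply Subtype.ext
    exact commutatorElement_eq_one_iff_mul_comm.1 h1
  · have h1 : h ^ ((p - 1) * p ^ e) = 1 :=
      key _ (H.pow_mem hh _) (stabFin_pow hsc hstep le_rfl p e he (hmem _ hh))
    rw [pow_mul] at h1
    have h2 : (⟨h, hh⟩ : H) ^ (p - 1) = 1 := by
      apply eq_one_of_pow_eq_one_of_coprime hH _ e
      apply Subtype.ext
      simpa using h1
    have := congrArg Subtype.val h2
    simpa using this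



theorem autInducedBy_self (S : Subgroup Ω) : autInducedBy S S = Inn S := by
  apply le_antisymm
  · intro α hα
    obtain ⟨g, hg, hα⟩ := (mem_autInducedBy_iff S S α).1 hα
    refine ⟨⟨g, hg⟩, ?_⟩
    ext x
    rw [hα]
    rfl
  · rintro _ ⟨g, rfl⟩
    exact (mem_autInducedBy_iff S S _).2 ⟨g, g.2, fun x => rfl⟩

/-- If `Q` is normal in `F`, every map of `F` is, on its intersection with `Q`, the restriction of an element
of `Aut_F(Q)`. -/
theorem exists_aut_mem_of_isNormal {F : FusionSystem S} {Q : Subgroup Ω} [Finite Q] (hN : F.IsNormal Q)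
    {R : Subgroup Ω} {φ : R →* Ω} (hφ : φ ∈ F.Hom R) :
    ∃ β ∈ F.autGroup Q, ∀ (x : R) (hx : (x : Ω) ∈ Q), φ x = ((β ⟨x, hx⟩ : Q) : Ω) := by
  obtain ⟨ψ, hψ, hext, himg⟩ := hN.2 R φ hφ
  have hψinj : Function.Injective ψ := F.injective_of_mem hψ
  have hψQ : ∀ y : Q, ψ ⟨y, (le_sup_right : Q ≤ R ⊔ Q) y.2⟩ ∈ Q := fun y =>
    Helper85_Fusion.apply_mem_of_map_eq ψ himg _ y.2 _
  let β₀ : Q →* Q :=
    { toFun := fun y => ⟨ψ ⟨y, (le_sup_right : Q ≤ R ⊔ Q) y.2⟩, hψQ y⟩
      map_one' := by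
        apply Subtype.ext
        exact ψ.map_one
      map_mul' := by
        intro a b
        apply Subtype.ext
        exact ψ.map_mul ⟨a, _⟩ ⟨b, _⟩ }
  have hβ₀inj : Function.Injective β₀ := by
    intro a b hab
    have h1 : ψ ⟨a, (le_sup_right : Q ≤ R ⊔ Q) a.2⟩ = ψ ⟨b, (le_sup_right : Q ≤ R ⊔ Q) b.2⟩ :=
      congrArg Subtype.val hab
    have h2 := hψinj h1
    apply Subtype.ext
    exact Subtype.mk.inj h2
  have hβ₀bij : Function.Bijective β₀ := Finite.injective_iff_bijective.1 hβ₀inj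
  refine ⟨MulEquiv.ofBijective β₀ hβ₀bij, ?_, fun x hx => ?_⟩
  · rw [mem_autGroup_iff' F hN.1]
    have h1 := restrict_mem F hψ (le_sup_right : Q ≤ R ⊔ Q)
    have h2 : Q.subtype.comp (MulEquiv.ofBijective β₀ hβ₀bij).toMonoidHom =
        ψ.comp (Subgroup.inclusion (le_sup_right : Q ≤ R ⊔ Q)) := by
      ext y
      rfl
    rw [h2]
    exact h1
  · rw [← hext x]
    rfl

/-- When `S` is normal in `F`, a subgroup of `S` invariant under `Aut_F(S)` is strongly closed. -/
theorem stronglyClosed_of_invariant [Finite S] {F : FusionSystem S} (hN : F.IsNormal S) (T : Subgroup S)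
    (hT : ∀ β ∈ F.autGroup S, ∀ x : S, x ∈ T → β x ∈ T) : F.StronglyClosed (T.map S.subtype) := by
  refine ⟨Subgroup.map_subtype_le T, ?_⟩
  intro R hR φ hφ x
  obtain ⟨β, hβ, hβx⟩ := exists_aut_mem_of_isNormal hN hφ
  have hxS : (x : Ω) ∈ S := Subgroup.map_subtype_le T (hR x.2)
  rw [hβx x hxS]
  obtain ⟨y, hy, hyx⟩ := hR x.2
  have : (⟨x, hxS⟩ : S) = y := Subtype.ext hyx.symm
  rw [this]
  exact ⟨β y, hT β hβ y hy, rfl⟩

theorem isFullyNormalized_self [Finite S] (F : FusionSystem S) : F.IsFullyNormalized S := by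
  refine ⟨le_rfl, fun Q _ => ?_⟩
  have h1 : normalizerIn S Q ≤ normalizerIn S S := by
    intro x hx
    exact ⟨hx.1, Subgroup.le_normalizer hx.1⟩
  haveI : Finite (normalizerIn S S) :=
    Finite.of_injective (Subgroup.inclusion (normalizerIn_le S S)) (Subgroup.inclusion_injective _)
  exact Nat.card_le_card_of_injective _ (Subgroup.inclusion_injective h1)

/-- A resistant-type conclusion: if `S` is normal in the saturated system `F` and the `p'`-subgroups of `Aut(S)`
are abelian of exponent dividing `p - 1`, then `S` has a chain of strongly closed subgroups with cyclic steps. -/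
theorem exists_chain_of_isNormal [Finite S] (p : ℕ) [Fact p.Prime] (hS : IsPGroup p S) (F : FusionSystem S)
    (hF : F.IsSaturated p) (hN : F.IsNormal S)
    (hH : ∀ H : Subgroup (MulAut S), (Nat.card H).Coprime p →
      IsMulCommutative H ∧ ∀ h ∈ H, h ^ (p - 1) = 1) :
    ∃ (m : ℕ) (c : Fin (m + 1) → Subgroup Ω), c 0 = ⊥ ∧ c (Fin.last m) = S ∧
      (∀ i : Fin (m + 1), F.StronglyClosed (c i)) ∧
        ∀ i : Fin m, c i.castSucc ≤ c i.succ ∧ ∃ x ∈ S, c i.succ = c i.castSucc ⊔ Subgroup.zpowers x := by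
  haveI hInnN := inn_normal S
  haveI hNn : ((Inn S).subgroupOf (F.autGroup S)).Normal := hInnN.subgroupOf _
  -- `Inn S` is a Sylow `p`-subgroup of `Aut_F(S)`
  obtain ⟨-, R, hR⟩ := Cfsg.Agent.Lib.Helper84_FusionRS.IsSaturated.isFullyAutomized hS hF
    (isFullyNormalized_self F)
  rw [autInducedBy_self] at hR
  have hidx : ¬ p ∣ ((Inn S).subgroupOf (F.autGroup S)).index := by
    rw [← hR]
    exact R.not_dvd_index
  have hcop : (Nat.card ((Inn S).subgroupOf (F.autGroup S))).Coprime
      ((Inn S).subgroupOf (F.autGroup S)).index := by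
    rw [← hR]
    exact R.card_coprime_index
  obtain ⟨H₀, hH₀⟩ := Subgroup.exists_right_complement'_of_coprime hcop
  have hcard : Nat.card (H₀.map (F.autGroup S).subtype) =
      ((Inn S).subgroupOf (F.autGroup S)).index := by
    rw [Subgroup.card_map_of_injective (F.autGroup S).subtype_injective]
    exact hH₀.symm.index_eq_card.symm
  have hcopH : (Nat.card (H₀.map (F.autGroup S).subtype)).Coprime p := by
    rw [hcard]
    exact ((Nat.Prime.coprime_iff_not_dvd (Fact.out : p.Prime)).2 hidx).symm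
  obtain ⟨hcomm, hexp⟩ := hH _ hcopH
  obtain ⟨m, c', hc0, hcm, hcn, hcH, hcs⟩ := exists_chain_of_abelian_action p hS
    (H₀.map (F.autGroup S).subtype)
    (fun a ha b hb => by
      have := hcomm.is_comm.comm ⟨a, ha⟩ ⟨b, hb⟩
      exact congrArg Subtype.val this) hexp
  -- invariance under `Aut_F(S)`
  have hAle : F.autGroup S ≤ Inn S ⊔ H₀.map (F.autGroup S).subtype := by
    have h1 := hH₀.sup_eq_top
    have h2 : ((Inn S).subgroupOf (F.autGroup S) ⊔ H₀).map (F.autGroup S).subtype = F.autGroup S := by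
      rw [h1, ← MonoidHom.range_eq_map, Subgroup.range_subtype]
    rw [Subgroup.map_sup, Subgroup.subgroupOf_map_subtype] at h2
    conv_lhs => rw [← h2]
    exact sup_le_sup_right inf_le_left _
  have hinv : ∀ i : Fin (m + 1), ∀ β ∈ F.autGroup S, ∀ x : S, x ∈ c' i → β x ∈ c' i := by
    intro i
    let St : Subgroup (MulAut S) :=
      { carrier := {β | ∀ x : S, x ∈ c' i ↔ β x ∈ c' i}
        one_mem' := fun x => Iff.rfl
        mul_mem' := by
          intro a b ha hb x
          rw [MulAut.mul_apply, ← ha, ← hb]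
        inv_mem' := by
          intro a ha x
          rw [ha (a⁻¹ x), MulAut.apply_inv_self] }
    have h1 : Inn S ≤ St := by
      rintro _ ⟨g, rfl⟩ x
      show x ∈ c' i ↔ MulAut.conj g x ∈ c' i
      rw [MulAut.conj_apply]
      constructor
      · intro hx
        exact (hcn i).conj_mem x hx g
      · intro hx
        have := (hcn i).conj_mem _ hx g⁻¹
        simpa [mul_assoc] using this
    have h2 : H₀.map (F.autGroup S).subtype ≤ St := fun h hh x => hcH i h hh x
    intro β hβ x hx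
    exact ((sup_le h1 h2) (hAle hβ) x).1 hx
  refine ⟨m, fun i => (c' i).map S.subtype, ?_, ?_, ?_, ?_⟩
  · show (c' 0).map S.subtype = ⊥
    rw [hc0, Subgroup.map_bot]
  · show (c' (Fin.last m)).map S.subtype = S
    rw [hcm, ← MonoidHom.range_eq_map, Subgroup.range_subtype]
  · intro i
    exact stronglyClosed_of_invariant hN (c' i) (hinv i)
  · intro i
    obtain ⟨x, hx⟩ := hcs i
    have h1 : (c' i.succ).map S.subtype = (c' i.castSucc).map S.subtype ⊔ Subgroup.zpowers (x : Ω) := by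
      rw [hx, Subgroup.map_sup, MonoidHom.map_zpowers]
      rfl
    refine ⟨?_, x, x.2, h1⟩
    show (c' i.castSucc).map S.subtype ≤ (c' i.succ).map S.subtype
    rw [h1]
    exact le_sup_left

end Cfsg.Agent.Lib.Helper87_CyclicChain2
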