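import Cfsg.Agent.Lib.Helper85_Fusion

/-!
Saturated fusion systems over an abelian group (helper88): every map extends to an automorphism of `S`,
the automorphism group has order prime to `p`, and the coprime-action decomposition of an abelian group.
-/

set_option autoImplicit false

namespace Cfsg.Agent.Lib.Helper88_FusionAbelian

open Cfsg Cfsg.FusionSystem Cfsg.Agent.Lib.Helper85_Fusion

universe u

variable {Ω : Type u} [Group Ω] {S : Subgroup Ω}

/-- For abelian `S` the extender of any homomorphism on a subgroup of `S` is all of `S`. -/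
theorem extender_eq_of_abelian (hab : ∀ x ∈ S, ∀ y ∈ S, x * y = y * x) {P : Subgroup Ω} (hP : P ≤ S)
    (φ : P →* Ω) : extender S P φ = S := by
  unfold extender
  apply le_antisymm
  · rw [Subgroup.closure_le]
    intro g hg
    exact hg.1
  · intro g hg
    apply Subgroup.subset_closure
    have hconj : ∀ x ∈ S, g * x * g⁻¹ = x := fun x hx => by
      rw [hab g hg x hx, mul_inv_cancel_right]
    refine ⟨hg, ?_, 1, S.one_mem, ?_⟩
    · rw [Subgroup.mem_normalizer_iff]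
      intro h
      constructor
      · intro hh
        rw [hconj h (hP hh)]
        exact hh
      · intro hh
        have hS : h ∈ S := by
          have h1 : g⁻¹ * (g * h * g⁻¹) * g ∈ S :=
            S.mul_mem (S.mul_mem (S.inv_mem hg) (hP hh)) hg
          have h2 : g⁻¹ * (g * h * g⁻¹) * g = h := by group
          rwa [h2] at h1
        rwa [hconj h hS] at hh
    · intro x hx
      have h1 : (⟨g * (x : Ω) * g⁻¹, hx⟩ : P) = x := Subtype.ext (hconj x (hP x.2))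
      rw [h1]
      simp

/-- A map of the system defined on all of a finite `S` has range `S`. -/
theorem range_eq_top_of_mem [Finite S] (F : FusionSystem S) {ψ : S →* Ω} (hψ : ψ ∈ F.Hom S) :
    ψ.range = S := by
  have hle : ψ.range ≤ S := range_le F hψ
  apply Subgroup.eq_of_le_of_card_ge hle
  have : Nat.card S = Nat.card ψ.range :=
    Nat.card_congr (Equiv.ofInjective ψ (F.injective_of_mem hψ))
  exact this.le


/-- Over an abelian `S`, a map onto a receptive subgroup extends to all of `S`. -/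
theorem receptive_extend_of_abelian (F : FusionSystem S) (hab : ∀ x ∈ S, ∀ y ∈ S, x * y = y * x)
    {Q : Subgroup Ω} (hQ : F.IsReceptive Q) {P : Subgroup Ω} {φ : P →* Ω} (hφ : φ ∈ F.Hom P)
    (hr : φ.range = Q) :
    ∃ ψ ∈ F.Hom S, ∀ (x : Ω) (hx : x ∈ P) (hxS : x ∈ S), ψ ⟨x, hxS⟩ = φ ⟨x, hx⟩ := by
  obtain ⟨ψ', hψ', hext⟩ := hQ.2 P φ hφ hr
  have he : extender S P φ = S := extender_eq_of_abelian hab (source_le F hφ) φ
  refine ⟨ψ'.comp (Subgroup.inclusion he.ge), cast_mem F he.symm hψ', ?_⟩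
  intro x hx hxS
  exact hext x hx (he.ge hxS)

/-- The inverse of a map defined on all of the finite group `S`, again as a map on `S`. -/
theorem exists_inverse_top [Finite S] (F : FusionSystem S) {θ : S →* Ω} (hθ : θ ∈ F.Hom S) :
    ∃ θi ∈ F.Hom S, ∀ (s : S) (h : θ s ∈ S), θi ⟨θ s, h⟩ = (s : Ω) := by
  obtain ⟨θi, hθi, h1, -⟩ := inv_mem' F hθ
  have hr : θ.range = S := range_eq_top_of_mem F hθ
  refine ⟨θi.comp (Subgroup.inclusion hr.ge), cast_mem F hr.symm hθi, ?_⟩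
  intro s h
  exact h1 s

/-- Over a finite abelian `S`, every map of a saturated fusion system extends to a map defined on `S`. -/
theorem exists_extension_of_abelian [Finite S] (p : ℕ) (F : FusionSystem S) (hF : F.IsSaturated p)
    (hab : ∀ x ∈ S, ∀ y ∈ S, x * y = y * x) {P : Subgroup Ω} {φ : P →* Ω} (hφ : φ ∈ F.Hom P) :
    ∃ ψ ∈ F.Hom S, ∀ (x : Ω) (hx : x ∈ P) (hxS : x ∈ S), ψ ⟨x, hxS⟩ = φ ⟨x, hx⟩ := by
  have hP := source_le F hφ
  obtain ⟨Q, ⟨χ, hχ, hχQ⟩, -, hrec⟩ := hF P hP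
  obtain ⟨χ', hχ', hχ'ext⟩ := receptive_extend_of_abelian F hab hrec hχ hχQ
  obtain ⟨φi, hφi, hφi1, hφir⟩ := inv_mem' F hφ
  have hφiP : ∀ y : φ.range, φi y ∈ P := by
    intro y
    exact hφir.le ⟨y, rfl⟩
  have hθ₀ := F.comp_mem hφi hχ hφiP
  have hφi2 : ∀ x : P, φi.codRestrict P hφiP ⟨φ x, ⟨x, rfl⟩⟩ = x := fun x => Subtype.ext (hφi1 x)
  have hθ₀r : (χ.comp (φi.codRestrict P hφiP)).range = Q := by
    rw [← hχQ]
    apply le_antisymm
    · rintro _ ⟨y, rfl⟩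
      exact ⟨_, rfl⟩
    · rintro _ ⟨x, rfl⟩
      refine ⟨⟨φ x, ⟨x, rfl⟩⟩, ?_⟩
      show χ (φi.codRestrict P hφiP ⟨φ x, ⟨x, rfl⟩⟩) = χ x
      rw [hφi2]
  obtain ⟨θ, hθ, hθext⟩ := receptive_extend_of_abelian F hab hrec hθ₀ hθ₀r
  obtain ⟨θi, hθi, hθi1⟩ := exists_inverse_top F hθ
  have hcomp := F.comp_mem hχ' hθi (apply_mem F hχ')
  refine ⟨_, hcomp, ?_⟩
  intro x hx hxS
  show θi ⟨χ' ⟨x, hxS⟩, _⟩ = φ ⟨x, hx⟩
  have h1 : χ' ⟨x, hxS⟩ = χ ⟨x, hx⟩ := hχ'ext x hx hxS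
  have hφS : φ ⟨x, hx⟩ ∈ S := apply_mem F hφ _
  have h2 : θ ⟨φ ⟨x, hx⟩, hφS⟩ = χ ⟨x, hx⟩ := by
    rw [hθext (φ ⟨x, hx⟩) ⟨⟨x, hx⟩, rfl⟩ hφS]
    show χ (φi.codRestrict P hφiP ⟨φ ⟨x, hx⟩, _⟩) = χ ⟨x, hx⟩
    rw [hφi2]
  have h3 : (⟨χ' ⟨x, hxS⟩, apply_mem F hχ' _⟩ : S) = ⟨θ ⟨φ ⟨x, hx⟩, hφS⟩, apply_mem F hθ _⟩ := by
    apply Subtype.ext
    show χ' ⟨x, hxS⟩ = θ ⟨φ ⟨x, hx⟩, hφS⟩
    rw [h1, h2]
  rw [h3, hθi1]


/-- A map of the system defined on all of the finite group `S` comes from an element of `Aut_F(S)`. -/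
theorem exists_aut_of_mem [Finite S] (F : FusionSystem S) {ψ : S →* Ω} (hψ : ψ ∈ F.Hom S) :
    ∃ α ∈ F.autGroup S, ∀ s : S, ((α s : S) : Ω) = ψ s := by
  have hinj : Function.Injective (ψ.codRestrict S (apply_mem F hψ)) := by
    intro a b hab
    apply F.injective_of_mem hψ
    exact congrArg Subtype.val hab
  have hbij : Function.Bijective (ψ.codRestrict S (apply_mem F hψ)) :=
    ⟨hinj, Finite.injective_iff_surjective.1 hinj⟩
  refine ⟨MulEquiv.ofBijective (ψ.codRestrict S (apply_mem F hψ)) hbij, ?_, fun s => rfl⟩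
  rw [mem_autGroup_iff F le_rfl]
  exact mem_of_eq F hψ (fun s => rfl)

/-- Over an abelian `S`, `Aut_S(S)` is trivial. -/
theorem autInducedBy_eq_bot_of_abelian (hab : ∀ x ∈ S, ∀ y ∈ S, x * y = y * x) :
    autInducedBy S S = ⊥ := by
  rw [eq_bot_iff]
  intro α hα
  obtain ⟨g, hg, h⟩ := (mem_autInducedBy_iff S S α).1 hα
  rw [Subgroup.mem_bot]
  ext x
  rw [h x, hab g hg x x.2, mul_inv_cancel_right]
  rfl

/-- Over a finite abelian `S`, the automorphism group `Aut_F(S)` of a saturated fusion system has order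
prime to `p`. -/
theorem card_autGroup_coprime_of_abelian [Finite S] (p : ℕ) [Fact p.Prime] (F : FusionSystem S)
    (hF : F.IsSaturated p) (hab : ∀ x ∈ S, ∀ y ∈ S, x * y = y * x) :
    (Nat.card (F.autGroup S)).Coprime p := by
  obtain ⟨Q, ⟨χ, hχ, hχQ⟩, hfa, -⟩ := hF S le_rfl
  have hQS : Q = S := by rw [← hχQ]; exact range_eq_top_of_mem F hχ
  rw [hQS] at hfa
  obtain ⟨-, R, hR⟩ := hfa
  rw [autInducedBy_eq_bot_of_abelian hab, Subgroup.bot_subgroupOf] at hR
  have h1 : ¬ p ∣ (R : Subgroup (F.autGroup S)).index := R.not_dvd_index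
  rw [hR, Subgroup.index_bot] at h1
  exact (Nat.Coprime.symm ((Nat.Prime.coprime_iff_not_dvd (Fact.out : p.Prime)).2 h1))

end Cfsg.Agent.Lib.Helper88_FusionAbelian
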