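import Cfsg.Agent.Lib.Helper87_AbelianChain
import Cfsg.Agent.Lib.Helper87_AbelianAut
import Cfsg.Agent.Lib.Helper87_CyclicChain2
import Cfsg.Agent.Lib.Helper88_FusionAbelian

/-!
Saturated fusion systems over abelian `p`-groups and chains of strongly closed subgroups with cyclic steps
(helper87).
-/

set_option autoImplicit false
set_option linter.style.haveILetI false

universe u

namespace Cfsg.Agent.Lib.Helper87_AbelianSS

open Cfsg Cfsg.FusionSystem Cfsg.Agent.Lib.Helper87_Alperin Cfsg.Agent.Lib.Helper87_AbelianChain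
  Cfsg.Agent.Lib.Helper87_AbelianAut

variable {Ω : Type u} [Group Ω] {S : Subgroup Ω}

/-- Over an abelian `S`, a fully invariant subgroup of `S` is strongly closed in every saturated fusion system. -/
theorem stronglyClosed_of_fi [Finite S] (p : ℕ) (F : FusionSystem S) (hF : F.IsSaturated p)
    (hab : ∀ x ∈ S, ∀ y ∈ S, x * y = y * x) (T : Subgroup S)
    (hT : ∀ f : S →* S, ∀ x ∈ T, f x ∈ T) : F.StronglyClosed (T.map S.subtype) := by
  refine ⟨Subgroup.map_subtype_le T, ?_⟩
  intro R hR φ hφ x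
  obtain ⟨ψ, hψ, hext⟩ := Cfsg.Agent.Lib.Helper88_FusionAbelian.exists_extension_of_abelian p F hF hab hφ
  obtain ⟨y, hy, hyx⟩ := hR x.2
  have h1 := hext x x.2 (Subgroup.map_subtype_le T (hR x.2))
  have h2 : (⟨(x : Ω), Subgroup.map_subtype_le T (hR x.2)⟩ : S) = y := Subtype.ext hyx.symm
  rw [h2] at h1
  have h3 : φ x = ψ y := h1.symm
  rw [h3]
  exact ⟨(ψ.codRestrict S (hom_mem F hψ)) y, hT _ y hy, rfl⟩

/-- An abelian `p`-group without repeated invariants: every saturated fusion system has a chain of strongly closed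
subgroups with cyclic steps. -/
theorem exists_chain_of_abelian [Finite S] (p : ℕ) [Fact p.Prime] (hS : IsPGroup p S)
    (hab : IsMulCommutative S)
    (hno : ¬ ∃ (n : ℕ) (H : Type) (_ : CommGroup H), 0 < n ∧
      Nonempty (↥S ≃* (Multiplicative (ZMod (p ^ n)) × Multiplicative (ZMod (p ^ n))) × H))
    (F : FusionSystem S) (hF : F.IsSaturated p) :
    ∃ (m : ℕ) (c : Fin (m + 1) → Subgroup Ω), c 0 = ⊥ ∧ c (Fin.last m) = S ∧
      (∀ i : Fin (m + 1), F.StronglyClosed (c i)) ∧
        ∀ i : Fin m, c i.castSucc ≤ c i.succ ∧ ∃ x ∈ S, c i.succ = c i.castSucc ⊔ Subgroup.zpowers x := by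
  letI : CommGroup S := { (inferInstance : Group S) with mul_comm := hab.is_comm.comm }
  have hab' : ∀ x ∈ S, ∀ y ∈ S, x * y = y * x := by
    intro x hx y hy
    exact congrArg Subtype.val (hab.is_comm.comm ⟨x, hx⟩ ⟨y, hy⟩)
  obtain ⟨m, c', hc0, hcm, hfi, hcs⟩ := exists_chain_of_no_repeated (S := S) p hS hno
  refine ⟨m, fun i => (c' i).map S.subtype, ?_, ?_, ?_, ?_⟩
  · show (c' 0).map S.subtype = ⊥
    rw [hc0, Subgroup.map_bot]
  · show (c' (Fin.last m)).map S.subtype = S
    rw [hcm, ← MonoidHom.range_eq_map, Subgroup.range_subtype]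
  · intro i
    exact stronglyClosed_of_fi p F hF hab' (c' i) (hfi i)
  · intro i
    obtain ⟨x, hx⟩ := hcs i
    have h1 : (c' i.succ).map S.subtype = (c' i.castSucc).map S.subtype ⊔ Subgroup.zpowers (x : Ω) := by
      rw [hx, Subgroup.map_sup, MonoidHom.map_zpowers]
      rfl
    refine ⟨?_, x, x.2, h1⟩
    show (c' i.castSucc).map S.subtype ≤ (c' i.succ).map S.subtype
    rw [h1]
    exact le_sup_left

/-- If every saturated fusion system over `S` has a chain of strongly closed subgroups with cyclic steps, then `S`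
has no direct factor `(Z/p^n)²` with `n ≥ 1`. -/
theorem false_of_chains_of_iso [Finite S] (p : ℕ) [hp : Fact p.Prime] (hS : IsPGroup p S)
    (hch : ∀ F : FusionSystem S, F.IsSaturated p → ∃ (m : ℕ) (c : Fin (m + 1) → Subgroup Ω),
      c 0 = ⊥ ∧ c (Fin.last m) = S ∧ (∀ i : Fin (m + 1), F.StronglyClosed (c i)) ∧
        ∀ i : Fin m, c i.castSucc ≤ c i.succ ∧ ∃ x ∈ S, c i.succ = c i.castSucc ⊔ Subgroup.zpowers x)
    (n : ℕ) (hn : 0 < n) (H : Type) [CommGroup H]
    (e : ↥S ≃* (Multiplicative (ZMod (p ^ n)) × Multiplicative (ZMod (p ^ n))) × H) : False := by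
  haveI : NeZero (p ^ n) := ⟨pow_ne_zero _ hp.out.ne_zero⟩
  haveI : Finite ((Multiplicative (ZMod (p ^ n)) × Multiplicative (ZMod (p ^ n))) × H) :=
    Finite.of_equiv _ e.toEquiv
  haveI : Finite H := by
    refine Finite.of_injective
      (fun h : H => ((1, h) : (Multiplicative (ZMod (p ^ n)) × Multiplicative (ZMod (p ^ n))) × H)) ?_
    intro a b hab
    exact (Prod.mk.inj hab).2
  have hkey := Cfsg.Agent.Lib.Helper87_CyclicChain2.abelian_of_chains p hS hch
  -- transport of subgroups of `Aut (T)` to `Aut (S)`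
  have hcardmap : ∀ K : Subgroup (MulAut ((Multiplicative (ZMod (p ^ n)) × Multiplicative (ZMod (p ^ n))) × H)),
      Nat.card (K.map (MulAut.congr e.symm).toMonoidHom) = Nat.card K := fun K =>
    Subgroup.card_map_of_injective (MulAut.congr e.symm).injective
  have h1lt : 1 < p ^ n := Nat.one_lt_pow hn.ne' hp.out.one_lt
  by_cases hp2 : p = 2
  · -- `p = 2`
    subst hp2
    have hg : (Multiplicative.ofAdd (1 : ZMod (2 ^ n))) ≠ 1 := by
      intro h
      have h2 : (1 : ZMod (2 ^ n)) = 0 := congrArg Multiplicative.toAdd h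
      have h3 : ((1 : ℕ) : ZMod (2 ^ n)) = 0 := by rw [Nat.cast_one]; exact h2
      rw [ZMod.natCast_eq_zero_iff] at h3
      exact absurd (Nat.le_of_dvd Nat.one_pos h3) (not_le.2 h1lt)
    obtain ⟨K, hcop, hne⟩ := exists_odd_order_aut (Multiplicative (ZMod (2 ^ n))) H _ hg
    apply hne
    intro α hα
    have hcop' : (Nat.card (K.map (MulAut.congr e.symm).toMonoidHom)).Coprime 2 := by
      rw [hcardmap]
      exact hcop
    have h2 := (hkey _ hcop').2 ((MulAut.congr e.symm) α) ⟨α, hα, rfl⟩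
    have h3 : (MulAut.congr e.symm) (α ^ (2 - 1)) = 1 := by
      rw [map_pow]
      exact h2
    rw [← map_one (MulAut.congr e.symm)] at h3
    exact (MulAut.congr e.symm).injective h3
  · -- `p` odd
    have hg : (Multiplicative.ofAdd (1 : ZMod (p ^ n))) ^ 2 ≠ 1 := by
      intro h
      have h2 : (2 : ℕ) • (1 : ZMod (p ^ n)) = 0 := by
        have := congrArg Multiplicative.toAdd h
        rwa [toAdd_pow, toAdd_ofAdd, toAdd_one] at this
      rw [nsmul_eq_mul, mul_one, ZMod.natCast_eq_zero_iff] at h2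
      have h3 : p ∣ 2 := (dvd_pow_self p hn.ne').trans h2
      exact hp2 ((Nat.prime_dvd_prime_iff_eq hp.out Nat.prime_two).1 h3)
    obtain ⟨K, ⟨k, hk⟩, hnc⟩ := exists_two_group_aut (Multiplicative (ZMod (p ^ n))) H _ hg
    apply hnc
    have hcop' : (Nat.card (K.map (MulAut.congr e.symm).toMonoidHom)).Coprime p := by
      rw [hcardmap, hk]
      apply Nat.Coprime.pow_left
      exact (Nat.coprime_primes Nat.prime_two hp.out).2 (Ne.symm hp2)
    have h2 := (hkey _ hcop').1
    refine ⟨⟨fun a b => ?_⟩⟩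
    have h3 := h2.is_comm.comm ⟨_, a, a.2, rfl⟩ ⟨_, b, b.2, rfl⟩
    have h4 := congrArg Subtype.val h3
    simp only [Subgroup.coe_mul, MulEquiv.coe_toMonoidHom, ← map_mul] at h4
    exact Subtype.ext ((MulAut.congr e.symm).injective h4)

end Cfsg.Agent.Lib.Helper87_AbelianSS
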