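import Cfsg.Agent.Lib.Helper87_Alperin2

set_option autoImplicit false

namespace Cfsg.Agent.Lib.Helper87_AutSystem

open Cfsg Cfsg.FusionSystem Cfsg.Agent.Lib.Helper87_Alperin Cfsg.Agent.Lib.Helper87_Alperin2
open scoped Pointwise

variable {Ω : Type*} [Group Ω]

/-! ### The fusion system generated by a group of automorphisms of `R` containing `Inn R` -/

/-- The fusion system over `R` whose maps are the restrictions, to subgroups of `R`, of the elements of a group `A`
of automorphisms of `R` that contains the inner automorphisms. -/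
def autSystem (R : Subgroup Ω) (A : Subgroup (MulAut R)) (hA : Inn R ≤ A) : FusionSystem R where
  Hom P := {φ | ∃ hP : P ≤ R, ∃ α ∈ A, ∀ x : P, φ x = ((α ⟨x, hP x.2⟩ : R) : Ω)}
  le_of_mem := by
    rintro P φ ⟨hP, α, -, hφ⟩
    exact ⟨hP, fun x => by rw [hφ]; exact (α _).2⟩
  injective_of_mem := by
    rintro P φ ⟨hP, α, -, hφ⟩ a b hab
    rw [hφ, hφ] at hab
    have h1 := α.injective (Subtype.ext hab)
    exact Subtype.ext (Subtype.mk.inj h1)
  conj_mem := by
    intro P g hP hg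
    exact ⟨hP, MulAut.conj ⟨g, hg⟩, hA ⟨_, rfl⟩, fun x => rfl⟩
  comp_mem := by
    rintro P Q φ ψ ⟨hP, α, hα, hφ⟩ ⟨hQ, α', hα', hψ⟩ h
    refine ⟨hP, α' * α, A.mul_mem hα' hα, fun x => ?_⟩
    simp only [MonoidHom.comp_apply, MulAut.mul_apply]
    rw [hψ]
    congr 2
    apply Subtype.ext
    exact hφ x
  inv_mem := by
    rintro P φ ⟨hP, α, hα, hφ⟩
    have hle : φ.range ≤ R := by
      rintro _ ⟨x, rfl⟩
      rw [hφ]
      exact (α _).2
    refine ⟨(R.subtype.comp (α⁻¹ : MulAut R).toMonoidHom).comp (Subgroup.inclusion hle),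
      ⟨hle, α⁻¹, A.inv_mem hα, fun x => rfl⟩, fun x => ?_⟩
    show (((α⁻¹ : MulAut R) ⟨φ x, _⟩ : R) : Ω) = x
    have h1 : (⟨φ x, hle ⟨x, rfl⟩⟩ : R) = α ⟨x, hP x.2⟩ := Subtype.ext (hφ x)
    rw [h1]
    simp

theorem mem_autSystem_hom {R : Subgroup Ω} {A : Subgroup (MulAut R)} {hA : Inn R ≤ A}
    {P : Subgroup Ω} {φ : P →* Ω} :
    φ ∈ (autSystem R A hA).Hom P ↔
      ∃ hP : P ≤ R, ∃ α ∈ A, ∀ x : P, φ x = ((α ⟨x, hP x.2⟩ : R) : Ω) := Iff.rfl

/-- Powers of an automorphism of `R` that restricts to the automorphism `γ` of `P` restrict to the powers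
of `γ`. -/
theorem pow_restrict {R P : Subgroup Ω} (hP : P ≤ R) (α : MulAut R) (γ : MulAut P)
    (h : ∀ x : P, ((γ x : P) : Ω) = ((α ⟨x, hP x.2⟩ : R) : Ω)) (j : ℕ) (x : P) :
    (((γ ^ j) x : P) : Ω) = (((α ^ j) ⟨x, hP x.2⟩ : R) : Ω) := by
  induction j generalizing x with
  | zero => simp
  | succ j ih =>
    rw [pow_succ, pow_succ, MulAut.mul_apply, MulAut.mul_apply, ih]
    congr 2
    apply Subtype.ext
    exact h x

/-- The automorphism group of `autSystem R A` on `P ≤ R`. -/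
theorem mem_autGroup_autSystem {R : Subgroup Ω} {A : Subgroup (MulAut R)} {hA : Inn R ≤ A}
    {P : Subgroup Ω} (hP : P ≤ R) (γ : MulAut P) :
    γ ∈ (autSystem R A hA).autGroup P ↔
      ∃ α ∈ A, ∀ x : P, ((γ x : P) : Ω) = ((α ⟨x, hP x.2⟩ : R) : Ω) := by
  rw [mem_autGroup_iff' _ hP]
  constructor
  · rintro ⟨_, α, hα, h⟩
    exact ⟨α, hα, fun x => h x⟩
  · rintro ⟨α, hα, h⟩
    exact ⟨hP, α, hα, fun x => h x⟩

/-- Every element of `A` of `p`-power order is inner, when `Inn R` has index prime to `p` in `A`. -/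
theorem mem_inn_of_pow_eq_one {R : Subgroup Ω} [Finite R] {p : ℕ} [Fact p.Prime] (hR : IsPGroup p R)
    (A : Subgroup (MulAut R)) (hidx : ¬ p ∣ ((Inn R).subgroupOf A).index) {α : MulAut R} (hα : α ∈ A)
    {k : ℕ} (hk : α ^ p ^ k = 1) : α ∈ Inn R := by
  have hInnp : IsPGroup p ((Inn R).subgroupOf A) := (isPGroup_inn hR).comap_subtype
  let SyA : Sylow p A := hInnp.toSylow hidx
  have hSyA : (SyA : Subgroup A) = (Inn R).subgroupOf A := hInnp.toSylow_coe hidx
  have hnormal : (SyA : Subgroup A).Normal := by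
    rw [hSyA]
    infer_instance
  have hz : IsPGroup p (Subgroup.zpowers (⟨α, hα⟩ : A)) := by
    rw [IsPGroup.iff_orderOf]
    rintro ⟨y, hy⟩
    obtain ⟨n, rfl⟩ := Subgroup.mem_zpowers_iff.1 hy
    have h1 : ((⟨α, hα⟩ : A) ^ n) ^ p ^ k = 1 := by
      rw [← zpow_natCast, ← zpow_mul, mul_comm, zpow_mul, zpow_natCast]
      have : (⟨α, hα⟩ : A) ^ p ^ k = 1 := Subtype.ext hk
      rw [this, one_zpow]
    have h2 : orderOf ((⟨(⟨α, hα⟩ : A) ^ n, hy⟩ : Subgroup.zpowers (⟨α, hα⟩ : A))) ∣ p ^ k := by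
      apply orderOf_dvd_of_pow_eq_one
      apply Subtype.ext
      exact h1
    obtain ⟨j, -, hj⟩ := (Nat.dvd_prime_pow (Fact.out : p.Prime)).1 h2
    exact ⟨j, hj⟩
  obtain ⟨Sy₂, hSy₂⟩ := hz.exists_le_sylow
  obtain ⟨g, hg⟩ := MulAction.exists_smul_eq A SyA Sy₂
  have hg' : g • SyA = SyA := Sylow.smul_eq_of_normal
  rw [hg'] at hg
  have h3 : (⟨α, hα⟩ : A) ∈ (SyA : Subgroup A) := by
    rw [hg]
    exact hSy₂ (Subgroup.mem_zpowers _)
  rw [hSyA, Subgroup.mem_subgroupOf] at h3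
  exact h3

/-- `autSystem R A` is saturated when `R` is a finite `p`-group and `Inn R` has index prime to `p` in `A`. -/
theorem autSystem_isSaturated (R : Subgroup Ω) [Finite R] {p : ℕ} [Fact p.Prime] (hR : IsPGroup p R)
    (A : Subgroup (MulAut R)) (hA : Inn R ≤ A) (hidx : ¬ p ∣ ((Inn R).subgroupOf A).index) :
    (autSystem R A hA).IsSaturated p := by
  classical
  intro P hPR
  have hfinP : Finite P := Finite.of_injective (Subgroup.inclusion hPR) (Subgroup.inclusion_injective hPR)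
  refine ⟨P, ⟨P.subtype, subtype_mem _ hPR, P.range_subtype⟩, ⟨hPR, ?_⟩, ⟨hPR, ?_⟩⟩
  · -- fully automized
    let Sy : Sylow p ((autSystem R A hA).autGroup P) := Classical.arbitrary _
    refine ⟨Sy, ?_⟩
    have hAutRp : IsPGroup p ((autInducedBy R P).subgroupOf ((autSystem R A hA).autGroup P)) := by
      have h1 : IsPGroup p (autInducedBy R P) := by
        rw [IsPGroup.iff_orderOf]
        rintro ⟨γ, hγ⟩
        obtain ⟨g, hgR, hg⟩ := (mem_autInducedBy_iff R P γ).1 hγ
        obtain ⟨k, hk⟩ := hR ⟨g, hgR⟩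
        have hpow : ∀ (j : ℕ) (x : P), (((γ ^ j) x : P) : Ω) = g ^ j * x * (g ^ j)⁻¹ := by
          intro j
          induction j with
          | zero => intro x; simp
          | succ j ih =>
            intro x
            rw [pow_succ, MulAut.mul_apply, ih, hg, pow_succ]
            group
        have h2 : γ ^ p ^ k = 1 := by
          ext x
          rw [hpow]
          have : g ^ p ^ k = 1 := by
            have := congrArg Subtype.val hk
            simpa using this
          rw [this]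
          simp
        have h3 : orderOf (⟨γ, hγ⟩ : autInducedBy R P) ∣ p ^ k := by
          apply orderOf_dvd_of_pow_eq_one
          exact Subtype.ext h2
        obtain ⟨j, -, hj⟩ := (Nat.dvd_prime_pow (Fact.out : p.Prime)).1 h3
        exact ⟨j, hj⟩
      exact h1.comap_subtype
    have hle : (Sy : Subgroup ((autSystem R A hA).autGroup P)) ≤
        (autInducedBy R P).subgroupOf ((autSystem R A hA).autGroup P) := by
      rintro ⟨γ, hγK⟩ hγSy
      rw [Subgroup.mem_subgroupOf, mem_autInducedBy_iff]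
      -- `γ` has `p`-power order
      obtain ⟨k, hk⟩ := Sy.isPGroup' ⟨⟨γ, hγK⟩, hγSy⟩
      have hγk : γ ^ p ^ k = 1 := by
        have := congrArg (fun z => ((z : Sy) : (autSystem R A hA).autGroup P)) hk
        have := congrArg Subtype.val this
        simpa using this
      obtain ⟨α, hα, hγα⟩ := (mem_autGroup_autSystem hPR γ).1 hγK
      -- decompose the order of `α`
      have hn0 : orderOf α ≠ 0 := (orderOf_pos α).ne'
      obtain ⟨a, m, hm, hn⟩ := Nat.exists_eq_pow_mul_and_not_dvd hn0 p (Fact.out : p.Prime).ne_one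
      have hcop : Nat.Coprime m (p ^ a) :=
        Nat.Coprime.pow_right a ((Nat.Prime.coprime_iff_not_dvd (Fact.out : p.Prime)).2 hm).symm
      -- `γ ^ (p ^ a) = 1`
      have hγa : γ ^ p ^ a = 1 := by
        have h1 : orderOf γ ∣ orderOf α := by
          apply orderOf_dvd_of_pow_eq_one
          ext x
          rw [pow_restrict hPR α γ hγα, pow_orderOf_eq_one]
          rfl
        have h2 : orderOf γ ∣ p ^ k := orderOf_dvd_of_pow_eq_one hγk
        obtain ⟨j, -, hj⟩ := (Nat.dvd_prime_pow (Fact.out : p.Prime)).1 h2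
        have h3 : p ^ j ∣ p ^ a * m := by rw [← hn, ← hj]; exact h1
        have h4 : p ^ j ∣ p ^ a := (Nat.Coprime.dvd_of_dvd_mul_right
          (Nat.Coprime.pow_left j ((Nat.Prime.coprime_iff_not_dvd (Fact.out : p.Prime)).2 hm)) h3)
        rw [← orderOf_dvd_iff_pow_eq_one, hj]
        exact h4
      by_cases ha0 : p ^ a = 1
      · -- `γ = 1`
        rw [ha0, pow_one] at hγa
        refine ⟨1, R.one_mem, fun x => ?_⟩
        show ((γ x : P) : Ω) = 1 * (x : Ω) * 1⁻¹
        rw [hγa]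
        simp
      · obtain ⟨c, -, hc⟩ := Nat.exists_mul_mod_eq_one_of_coprime hcop
          (lt_of_le_of_ne (Nat.one_le_pow _ _ (Fact.out : p.Prime).pos) (Ne.symm ha0))
        -- `α' = α ^ (m * c)` has `p`-power order and restricts to `γ`
        have hα' : (α ^ (m * c)) ^ p ^ a = 1 := by
          rw [← pow_mul]
          have : m * c * p ^ a = orderOf α * c := by rw [hn]; ring
          rw [this, pow_mul, pow_orderOf_eq_one, one_pow]
        have hinn := mem_inn_of_pow_eq_one hR A hidx (A.pow_mem hα (m * c)) hα'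
        obtain ⟨g, hg⟩ := hinn
        refine ⟨g, g.2, fun x => ?_⟩
        have hγmc : γ ^ (m * c) = γ := by
          have h1 : orderOf γ ∣ p ^ a := orderOf_dvd_of_pow_eq_one hγa
          have h2 : m * c ≡ 1 [MOD orderOf γ] := by
            apply Nat.ModEq.of_dvd h1
            show m * c % p ^ a = 1 % p ^ a
            rw [hc, Nat.mod_eq_of_lt (lt_of_le_of_ne (Nat.one_le_pow _ _ (Fact.out : p.Prime).pos)
              (Ne.symm ha0))]
          have := (pow_eq_pow_iff_modEq (x := γ)).2 h2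
          rwa [pow_one] at this
        have h5 := pow_restrict hPR α γ hγα (m * c) x
        rw [hγmc, ← hg] at h5
        rw [h5]
        rfl
    have := Sy.is_maximal' hAutRp hle
    exact this.symm
  · -- receptive
    rintro P'' φ ⟨hP'', α, hα, hφα⟩ -
    have hle : extender R P'' φ ≤ R := (extender_le_normalizerIn R P'' φ).trans (normalizerIn_le R P'')
    refine ⟨(R.subtype.comp (α : MulAut R).toMonoidHom).comp (Subgroup.inclusion hle),
      ⟨hle, α, hα, fun x => rfl⟩, fun x hP hN => ?_⟩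
    rw [hφα]
    rfl

/-- `Inn R` has index prime to `p` in `Inn R ⊔ ⟨β⟩` when `β` has order prime to `p`. -/
theorem not_dvd_index_sup_zpowers {R : Subgroup Ω} [Finite R] {p : ℕ} [Fact p.Prime] (β : MulAut R)
    (hβ : (orderOf β).Coprime p) :
    ¬ p ∣ ((Inn R).subgroupOf (Inn R ⊔ Subgroup.zpowers β)).index := by
  intro h
  have h1 : ((Inn R).subgroupOf (Inn R ⊔ Subgroup.zpowers β)).index =
      (Inn R).relIndex (Subgroup.zpowers β) := by
    exact Subgroup.relIndex_sup_left (K := Inn R) (H := Subgroup.zpowers β)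
  rw [h1] at h
  have h2 : (Inn R).relIndex (Subgroup.zpowers β) ∣ orderOf β := by
    rw [← Nat.card_zpowers]
    exact Subgroup.relIndex_dvd_card _ _
  have h3 : p ∣ orderOf β := h.trans h2
  have h4 : p ∣ Nat.gcd (orderOf β) p := Nat.dvd_gcd h3 dvd_rfl
  rw [hβ] at h4
  exact (Fact.out : p.Prime).one_lt.ne' (Nat.dvd_one.1 h4)

/-- `autSystem R A` is a subsystem of `F` when `A ≤ Aut_F(R)`. -/
theorem autSystem_isSubsystemOf {S : Subgroup Ω} (F : FusionSystem S) {R : Subgroup Ω} (hRS : R ≤ S)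
    {A : Subgroup (MulAut R)} (hA : Inn R ≤ A) (hAF : A ≤ F.autGroup R) :
    (autSystem R A hA).IsSubsystemOf F := by
  rintro P φ ⟨hP, α, hα, hφ⟩
  have h1 := (mem_autGroup_iff' F hRS α).1 (hAF hα)
  have h2 := restrict_mem F h1 hP
  have h3 : φ = (R.subtype.comp α.toMonoidHom).comp (Subgroup.inclusion hP) := by
    ext x
    rw [hφ]
    rfl
  rw [h3]
  exact h2

/-- A nontrivial automorphism of order prime to `p` of a `p`-group is not inner. -/
theorem not_mem_inn_of_coprime {R : Subgroup Ω} {p : ℕ} [Fact p.Prime] (hR : IsPGroup p R)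
    {β : MulAut R} (hβ : (orderOf β).Coprime p) (hβ1 : β ≠ 1) : β ∉ Inn R := by
  intro hmem
  obtain ⟨k, hk⟩ := isPGroup_inn hR ⟨β, hmem⟩
  have hk' : β ^ p ^ k = 1 := by
    have := congrArg Subtype.val hk
    simpa using this
  have h1 : orderOf β ∣ p ^ k := orderOf_dvd_of_pow_eq_one hk'
  have h2 : (orderOf β).Coprime (p ^ k) := Nat.Coprime.pow_right k hβ
  have h3 : orderOf β = 1 := Nat.Coprime.eq_one_of_dvd h2 h1
  exact hβ1 (orderOf_eq_one_iff.1 h3)

/-- `autSystem R A` is not the inner system of `R` when `A` contains a nontrivial automorphism of order prime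
to `p`. -/
theorem autSystem_not_inner {R : Subgroup Ω} {p : ℕ} [Fact p.Prime] (hR : IsPGroup p R)
    {A : Subgroup (MulAut R)} (hA : Inn R ≤ A) {β : MulAut R} (hβA : β ∈ A)
    (hβ : (orderOf β).Coprime p) (hβ1 : β ≠ 1) :
    ¬ ∀ P : Subgroup Ω, (autSystem R A hA).Hom P = (innerFusionSystem R).Hom P := by
  intro h
  have h1 : R.subtype.comp β.toMonoidHom ∈ (autSystem R A hA).Hom R :=
    ⟨le_rfl, β, hβA, fun x => rfl⟩
  rw [h R] at h1
  obtain ⟨-, g, hg, hgx⟩ := h1
  apply not_mem_inn_of_coprime hR hβ hβ1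
  refine ⟨⟨g, hg⟩, ?_⟩
  ext x
  exact (hgx x).symm

/-- The restriction of an automorphism `β` of `R` to a finite `β`-invariant subgroup `W` of `R`. -/
noncomputable def restrictAut {R W : Subgroup Ω} [Finite W] (hWR : W ≤ R) (β : MulAut R)
    (hinv : ∀ x : W, ((β ⟨x, hWR x.2⟩ : R) : Ω) ∈ W) : MulAut W :=
  MulEquiv.ofBijective
    ({ toFun := fun x => ⟨((β ⟨x, hWR x.2⟩ : R) : Ω), hinv x⟩
       map_one' := by
         apply Subtype.ext
         show ((β ⟨((1 : W) : Ω), _⟩ : R) : Ω) = 1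
         have : (⟨((1 : W) : Ω), hWR (1 : W).2⟩ : R) = 1 := rfl
         rw [this, map_one]
         rfl
       map_mul' := by
         intro x y
         apply Subtype.ext
         show ((β ⟨((x * y : W) : Ω), _⟩ : R) : Ω) = ((β ⟨x, _⟩ : R) : Ω) * ((β ⟨y, _⟩ : R) : Ω)
         have : (⟨((x * y : W) : Ω), hWR (x * y).2⟩ : R) = ⟨x, hWR x.2⟩ * ⟨y, hWR y.2⟩ := rfl
         rw [this, map_mul]
         rfl } : W →* W)
    (by
      apply (Finite.injective_iff_bijective).1
      intro x y hxy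
      have h1 : ((β ⟨x, hWR x.2⟩ : R) : Ω) = ((β ⟨y, hWR y.2⟩ : R) : Ω) := Subtype.mk.inj hxy
      have h2 := β.injective (Subtype.ext h1)
      exact Subtype.ext (Subtype.mk.inj h2))

theorem restrictAut_apply {R W : Subgroup Ω} [Finite W] (hWR : W ≤ R) (β : MulAut R)
    (hinv : ∀ x : W, ((β ⟨x, hWR x.2⟩ : R) : Ω) ∈ W) (x : W) :
    ((restrictAut hWR β hinv x : W) : Ω) = ((β ⟨x, hWR x.2⟩ : R) : Ω) := rfl

theorem restrictAut_mem_autGroup {S : Subgroup Ω} (F : FusionSystem S) {R W : Subgroup Ω} [Finite W]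
    (hRS : R ≤ S) (hWR : W ≤ R) (β : MulAut R) (hβ : β ∈ F.autGroup R)
    (hinv : ∀ x : W, ((β ⟨x, hWR x.2⟩ : R) : Ω) ∈ W) :
    restrictAut hWR β hinv ∈ F.autGroup W := by
  rw [mem_autGroup_iff' F (hWR.trans hRS)]
  have h1 := (mem_autGroup_iff' F hRS β).1 hβ
  have h2 := restrict_mem F h1 hWR
  have h3 : W.subtype.comp (restrictAut hWR β hinv).toMonoidHom =
      (R.subtype.comp β.toMonoidHom).comp (Subgroup.inclusion hWR) := by
    ext x
    rfl
  rw [h3]
  exact h2

theorem restrictAut_pow {R W : Subgroup Ω} [Finite W] (hWR : W ≤ R) (β : MulAut R)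
    (hinv : ∀ x : W, ((β ⟨x, hWR x.2⟩ : R) : Ω) ∈ W) (j : ℕ) (x : W) :
    (((restrictAut hWR β hinv ^ j) x : W) : Ω) = (((β ^ j) ⟨x, hWR x.2⟩ : R) : Ω) :=
  pow_restrict hWR β (restrictAut hWR β hinv) (fun _ => rfl) j x

theorem orderOf_restrictAut_dvd {R W : Subgroup Ω} [Finite W] (hWR : W ≤ R) (β : MulAut R)
    (hinv : ∀ x : W, ((β ⟨x, hWR x.2⟩ : R) : Ω) ∈ W) :
    orderOf (restrictAut hWR β hinv) ∣ orderOf β := by
  apply orderOf_dvd_of_pow_eq_one
  ext x
  rw [restrictAut_pow, pow_orderOf_eq_one]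
  rfl

end Cfsg.Agent.Lib.Helper87_AutSystem
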