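import Mathlib
import Cfsg.Agent.Lib.Helper36_CellAut2
import Cfsg.Agent.Lib.Helper68_AutU2
import Cfsg.Agent.Lib.Helper68_AutUIso

/-!
# S4613 (architect helper68), packages TD4 / TE6: from a normal form of Bruhat type (`CellCore` of helper36) and
the `(B, N)`-pair to the data `RootDat` of helper68, hence `AutUTrivial p Γ`.

Everything is derived from the normal form except the condition (r5), which needs the root structure.
-/

set_option autoImplicit false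
set_option linter.unusedVariables false
set_option linter.unusedSectionVars false

namespace Cfsg.Agent.Lib.Helper87_AutU_Cell

open Cfsg Cfsg.Agent.Lib.Helper36_CellAut2 Cfsg.Agent.Lib.Helper68_AutU

/-- The link between a normal form of Bruhat type `C` and a `(B, N)`-pair `P` of the same group: `B = U H`,
`B ∩ N ≤ H ≤ N`, the distinguished generators `s i` lie in the cosets `H n_{x i}` of non-trivial cells, the condition
(r5) on the cell subgroups of the generators, and the core of `B` is trivial. -/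
structure Link {Γ : Type*} [Group Γ] {W : Type*} {p : ℕ} (C : CellCore Γ W p) (P : BNPair Γ) (ι : Type*) where
  s : ι → Γ
  x : ι → W
  range_s : Set.range s = P.S
  hB : P.B = C.B
  hBN : ∀ t ∈ P.B ⊓ P.N, t ∈ C.H
  hHN : C.H ≤ P.N
  hs : ∀ i, ∃ h ∈ C.H, s i = h * C.nw (x i)
  hx : ∀ i, x i ≠ C.i1
  r5 : ∀ i j, j ≠ i → ∀ u ∈ C.Uw (x i), ∀ y ∈ C.Uw (x j), s i * (u * y * u⁻¹) * (s i)⁻¹ ∈ P.B
  core : P.B.normalCore = ⊥

section standalone

variable {Γ : Type*} [Group Γ] {W : Type*} {p : ℕ}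

/-- In a normal form of Bruhat type, an element of `H` centralising `U` lies in every conjugate of `B = U H`. -/
theorem conj_mem_B_of_cent (C : CellCore Γ W p) (t : Γ) (ht : t ∈ C.H) (hc : ∀ u ∈ C.U, t * u = u * t)
    (g : Γ) : g * t * g⁻¹ ∈ C.B := by
  obtain ⟨u, hu, h, hh, u', hu', e⟩ := C.nf g⁻¹
  have hg : g = (u * h * C.nw (C.cellOf g⁻¹) * u')⁻¹ := by rw [← e, inv_inv]
  set n := C.nw (C.cellOf g⁻¹) with hn
  have h1 : u⁻¹ * t * u = t := by
    rw [mul_assoc, hc u hu, ← mul_assoc, inv_mul_cancel, one_mul]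
  have e2 : g * t * g⁻¹ = u'⁻¹ * (n⁻¹ * (h⁻¹ * t * h) * n) * u' := by
    have : g * t * g⁻¹ = u'⁻¹ * (n⁻¹ * (h⁻¹ * (u⁻¹ * t * u) * h) * n) * u' := by
      rw [hg]; group
    rw [this, h1]
  rw [e2]
  have h2 : h⁻¹ * t * h ∈ C.H := C.H.mul_mem (C.H.mul_mem (C.H.inv_mem hh) ht) hh
  have h3 : n⁻¹ * (h⁻¹ * t * h) * n ∈ C.H := C.nw_norm' _ _ h2
  have hu'U : u' ∈ C.U := C.Uw_le _ hu'
  exact C.B.mul_mem (C.B.mul_mem (C.U_le_B (C.U.inv_mem hu'U)) (C.H_le_B h3)) (C.U_le_B hu'U)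

/-- A subgroup `H` normalising a Sylow `p`-subgroup `U` and meeting it trivially has order prime to `p`. -/
theorem not_dvd_card_of_sylow [Finite Γ] [Fact p.Prime] (U H : Subgroup Γ)
    (hS : ∃ S : Sylow p Γ, (S : Subgroup Γ) = U) (hnorm : ∀ h ∈ H, ∀ u ∈ U, h * u * h⁻¹ ∈ U)
    (hUH : ∀ x ∈ U, x ∈ H → x = 1) : ¬ p ∣ Nat.card ↥H := by
  intro hdvd
  obtain ⟨S, hS⟩ := hS
  obtain ⟨t, ht⟩ := exists_prime_orderOf_dvd_card' p hdvd
  have htH : (t : Γ) ∈ H := t.2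
  have ht' : orderOf (t : Γ) = p := by rw [Subgroup.orderOf_coe]; exact ht
  have hZ : IsPGroup p (Subgroup.zpowers (t : Γ)) := by
    apply IsPGroup.of_card (n := 1)
    rw [Nat.card_zpowers, ht', pow_one]
  have hU : IsPGroup p U := hS ▸ S.isPGroup'
  have hn : Subgroup.zpowers (t : Γ) ≤ Subgroup.normalizer (U : Set Γ) := by
    rw [Subgroup.zpowers_le, Subgroup.mem_normalizer_iff]
    intro u
    constructor
    · intro hu
      exact hnorm _ htH u hu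
    · intro hu
      have := hnorm _ (H.inv_mem htH) _ hu
      have e : (t : Γ)⁻¹ * ((t : Γ) * u * (t : Γ)⁻¹) * ((t : Γ)⁻¹)⁻¹ = u := by group
      rwa [e] at this
  have hsup : IsPGroup p (Subgroup.zpowers (t : Γ) ⊔ U : Subgroup Γ) :=
    IsPGroup.to_sup_of_normal_right' hZ hU hn
  have hle : (S : Subgroup Γ) ≤ Subgroup.zpowers (t : Γ) ⊔ U := by rw [hS]; exact le_sup_right
  have heq := S.is_maximal' hsup hle
  have htU : (t : Γ) ∈ U := by
    rw [← hS, ← heq]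
    exact (le_sup_left : Subgroup.zpowers (t : Γ) ≤ _) (Subgroup.mem_zpowers _)
  have ht1 : (t : Γ) = 1 := hUH _ htU htH
  rw [ht1, orderOf_one] at ht'
  exact (Fact.out : p.Prime).one_lt.ne ht'

end standalone

section link

variable {Γ : Type*} [Group Γ] {W : Type*} {p : ℕ} {C : CellCore Γ W p} {P : BNPair Γ} {ι : Type*}

theorem Link.H_le_BN (K : Link C P ι) : C.H ≤ P.B ⊓ P.N := fun h hh => ⟨K.hB ▸ C.H_le_B hh, K.hHN hh⟩

theorem Link.U_le (K : Link C P ι) : C.U ≤ P.B := K.hB ▸ C.U_le_B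

theorem Link.cell_s (K : Link C P ι) (i : ι) : C.cellOf (K.s i) = K.x i := by
  obtain ⟨h, hh, e⟩ := K.hs i
  rw [e, C.cell_H_mul h hh, C.cell_nw]

/-- (r1): `B = (B ∩ s_i⁻¹ B s_i) X_i`. -/
theorem Link.r1 (K : Link C P ι) (i : ι) (b : Γ) (hb : b ∈ P.B) :
    ∃ u ∈ C.Uw (K.x i), K.s i * (b * u⁻¹) * (K.s i)⁻¹ ∈ P.B := by
  obtain ⟨h, hh, e⟩ := K.hs i
  have hbC : b ∈ C.B := K.hB ▸ hb
  have hcell : C.cellOf (K.s i * b) = K.x i := by rw [C.cell_mul_B b hbC, K.cell_s]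
  obtain ⟨u0, hu0, h0, hh0, u', hu', enf⟩ := C.nf (K.s i * b)
  rw [hcell] at hu' enf
  refine ⟨u', hu', ?_⟩
  have e1 : K.s i * (b * u'⁻¹) * (K.s i)⁻¹ = u0 * (h0 * h⁻¹) := by
    have : K.s i * (b * u'⁻¹) * (K.s i)⁻¹ = (K.s i * b) * u'⁻¹ * (K.s i)⁻¹ := by group
    rw [this, enf, e]
    group
  rw [e1, K.hB]
  exact ⟨u0, hu0, h0 * h⁻¹, C.H.mul_mem hh0 (C.H.inv_mem hh), rfl⟩

/-- (r4): `s_i X_i s_i⁻¹ ⊄ B`. -/
theorem Link.r4 (K : Link C P ι) (i : ι) : ∃ u ∈ C.Uw (K.x i), K.s i * u * (K.s i)⁻¹ ∉ P.B := by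
  obtain ⟨h, hh, e⟩ := K.hs i
  have hne : C.Uw (K.x i) ≠ ⊥ := fun hbot => K.hx i (C.Uw_bot _ hbot)
  obtain ⟨z, hz1⟩ := (Subgroup.ne_bot_iff_exists_ne_one.mp hne)
  refine ⟨z, z.2, fun hmem => ?_⟩
  apply hz1
  apply Subtype.ext
  show (z : Γ) = 1
  apply C.conj_not_mem_B (K.x i) z z.2
  have e1 : C.nw (K.x i) * z * (C.nw (K.x i))⁻¹ = h⁻¹ * (K.s i * z * (K.s i)⁻¹) * h := by
    rw [e]; group
  rw [e1]
  rw [K.hB] at hmem
  exact C.B.mul_mem (C.B.mul_mem (C.H_le_B (C.H.inv_mem hh)) hmem) (C.H_le_B hh)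

/-- an element of `H` centralising `U` lies in every conjugate of `B`. -/
theorem Link.mem_core_of_cent (K : Link C P ι) (t : Γ) (ht : t ∈ C.H) (hc : ∀ u ∈ C.U, t * u = u * t) :
    t ∈ P.B.normalCore := by
  show ∀ g : Γ, g * t * g⁻¹ ∈ P.B
  intro g
  -- normal form of `g⁻¹`
  obtain ⟨u, hu, h, hh, u', hu', e⟩ := C.nf g⁻¹
  have hg : g = (u * h * C.nw (C.cellOf g⁻¹) * u')⁻¹ := by rw [← e, inv_inv]
  set n := C.nw (C.cellOf g⁻¹) with hn
  have h1 : u⁻¹ * t * u = t := by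
    rw [mul_assoc, hc u hu, ← mul_assoc, inv_mul_cancel, one_mul]
  have e2 : g * t * g⁻¹ = u'⁻¹ * (n⁻¹ * (h⁻¹ * t * h) * n) * u' := by
    have : g * t * g⁻¹ = u'⁻¹ * (n⁻¹ * (h⁻¹ * (u⁻¹ * t * u) * h) * n) * u' := by
      rw [hg]; group
    rw [this, h1]
  rw [e2, K.hB]
  have h2 : h⁻¹ * t * h ∈ C.H := C.H.mul_mem (C.H.mul_mem (C.H.inv_mem hh) ht) hh
  have h3 : n⁻¹ * (h⁻¹ * t * h) * n ∈ C.H := C.nw_norm' _ _ h2
  have hu'U : u' ∈ C.U := C.Uw_le _ hu'
  exact C.B.mul_mem (C.B.mul_mem (C.U_le_B (C.U.inv_mem hu'U)) (C.H_le_B h3)) (C.U_le_B hu'U)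

theorem Link.center_U (K : Link C P ι) (z : Γ) (hz : z ∈ Subgroup.center Γ) (hzU : z ∈ C.U) : z = 1 := by
  have hmem : z ∈ P.B.normalCore := by
    show ∀ g : Γ, g * z * g⁻¹ ∈ P.B
    intro g
    have : g * z * g⁻¹ = z := by
      rw [(Subgroup.mem_center_iff.mp hz g), mul_assoc, mul_inv_cancel, mul_one]
    rw [this]
    exact K.U_le hzU
  rw [K.core, Subgroup.mem_bot] at hmem
  exact hmem

variable [Finite Γ] [Fact p.Prime]

/-- `H` is a `p'`-group. -/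
theorem Link.T_p' (K : Link C P ι) : ¬ p ∣ Nat.card ↥(P.B ⊓ P.N) := by
  intro hdvd
  obtain ⟨S, hS⟩ := C.sylow
  obtain ⟨t, ht⟩ := exists_prime_orderOf_dvd_card' p hdvd
  have htH : (t : Γ) ∈ C.H := K.hBN t t.2
  have ht' : orderOf (t : Γ) = p := by rw [Subgroup.orderOf_coe]; exact ht
  -- `⟨t⟩ U` is a `p`-group
  have hZ : IsPGroup p (Subgroup.zpowers (t : Γ)) := by
    apply IsPGroup.of_card (n := 1)
    rw [Nat.card_zpowers, ht', pow_one]
  have hU : IsPGroup p C.U := hS ▸ S.isPGroup'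
  have hn : Subgroup.zpowers (t : Γ) ≤ Subgroup.normalizer (C.U : Set Γ) := by
    rw [Subgroup.zpowers_le, Subgroup.mem_normalizer_iff]
    intro u
    constructor
    · intro hu
      exact C.H_norm _ htH u hu
    · intro hu
      have := C.H_norm _ (C.H.inv_mem htH) _ hu
      have e : (t : Γ)⁻¹ * ((t : Γ) * u * (t : Γ)⁻¹) * ((t : Γ)⁻¹)⁻¹ = u := by group
      rwa [e] at this
  have hsup : IsPGroup p (Subgroup.zpowers (t : Γ) ⊔ C.U : Subgroup Γ) :=
    IsPGroup.to_sup_of_normal_right' hZ hU hn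
  have hle : (S : Subgroup Γ) ≤ Subgroup.zpowers (t : Γ) ⊔ C.U := by rw [hS]; exact le_sup_right
  have heq := S.is_maximal' hsup hle
  have htU : (t : Γ) ∈ C.U := by
    rw [← hS, ← heq]
    exact (le_sup_left : Subgroup.zpowers (t : Γ) ≤ _) (Subgroup.mem_zpowers _)
  have ht1 : (t : Γ) = 1 := C.UH _ htU htH
  rw [ht1, orderOf_one] at ht'
  exact (Fact.out : p.Prime).one_lt.ne ht'

/-- The data `RootDat` of helper68 from the link. -/
noncomputable def Link.rootDat (K : Link C P ι) : RootDat p P ι where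
  s := K.s
  range_s := K.range_s
  U := C.U
  X := fun i => C.Uw (K.x i)
  U_le := K.U_le
  U_normal := fun b hb u hu => C.B_conj_mem b (K.hB ▸ hb) u hu
  U_pgroup := by
    obtain ⟨S, hS⟩ := C.sylow
    exact hS ▸ S.isPGroup'
  U_index := by
    obtain ⟨S, hS⟩ := C.sylow
    rw [← hS]
    exact S.not_dvd_index
  BUT := by
    intro b hb
    rw [K.hB] at hb
    obtain ⟨u, hu, h, hh, e⟩ := hb
    exact ⟨u, hu, h, K.H_le_BN hh, e⟩
  T_p' := K.T_p'
  X_le := fun i => C.Uw_le _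
  r1 := K.r1
  r4 := K.r4
  r5 := K.r5
  torus_cent := by
    intro t ht hc
    have hmem := K.mem_core_of_cent t (K.hBN t ht) hc
    rw [K.core, Subgroup.mem_bot] at hmem
    rw [hmem]
    exact Subgroup.one_mem _
  center_U := K.center_U

theorem Link.center_eq_bot (K : Link C P ι) : Subgroup.center Γ = ⊥ := by
  rw [Subgroup.eq_bot_iff_forall]
  intro z hz
  have hzB : z ∈ P.B := K.rootDat.center_le_B hz
  have hmem : z ∈ P.B.normalCore := by
    show ∀ g : Γ, g * z * g⁻¹ ∈ P.B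
    intro g
    have : g * z * g⁻¹ = z := by
      rw [(Subgroup.mem_center_iff.mp hz g), mul_assoc, mul_inv_cancel, mul_one]
    rw [this]
    exact hzB
  rw [K.core, Subgroup.mem_bot] at hmem
  exact hmem

/-- **Criterion**: a group with a normal form of Bruhat type linked to a `(B, N)`-pair with trivial core. -/
theorem Link.autUTrivial (K : Link C P ι) : AutUTrivial p Γ := by
  intro α hα Q hfix
  exact K.rootDat.aut_eq_one (MonoidHom.id Γ) (fun x => ⟨x, rfl⟩)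
    (by rw [MonoidHom.ker_id, K.center_eq_bot]) α hα Q hfix

end link

end Cfsg.Agent.Lib.Helper87_AutU_Cell
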