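import Cfsg.Agent.Lib.Helper87_GTMain
import Cfsg.Agent.Lib.Helper1_ZJFunctor
import Cfsg.Agent.S3082

/-!
The Glauberman-Thompson criterion for fusion systems in its final form (helper87): for an isomorphism-invariant
functor `W` satisfying the group-theoretic criterion, a saturated system `F` is the inner system if and only if the
normalizer system of `W(D)` is the inner system, for `D` strongly closed.  Instance: `W = Z(J(-))`, `p` odd.
-/

set_option autoImplicit false
set_option linter.style.haveILetI false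

universe u

namespace Cfsg.Agent.Lib.Helper87_GTFinal

open Cfsg Cfsg.FusionSystem Cfsg.Agent.Lib Cfsg.Agent.Lib.Helper87_Alperin Cfsg.Agent.Lib.Helper87_Alperin2
  Cfsg.Agent.Lib.Helper87_Normal Cfsg.Agent.Lib.Helper87_PInner Cfsg.Agent.Lib.Helper87_GTFunctor
  Cfsg.Agent.Lib.Helper87_GTModel Cfsg.Agent.Lib.Helper87_GTMain

variable {Ω : Type u} [Group Ω] {S : Subgroup Ω}

/-- If the system is the inner system, so is every normalizer system. -/
theorem normalizerSystem_inner_of_inner {F : FusionSystem S}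
    (h : ∀ P : Subgroup Ω, F.Hom P = (innerFusionSystem S).Hom P) (V : Subgroup Ω)
    (N : FusionSystem (normalizerIn S V)) (hN : F.IsNormalizerSystem V N) (P : Subgroup Ω) :
    N.Hom P = (innerFusionSystem (normalizerIn S V)).Hom P := by
  refine Set.Subset.antisymm ?_ (inner_hom_subset N P)
  intro φ hφ
  rw [hN P] at hφ
  obtain ⟨-, hPT, -, ψ, hψ, hext, himg⟩ := hφ
  rw [h] at hψ
  obtain ⟨-, g, hgS, hg⟩ := hψ
  have hgV : ∀ x ∈ V, g * x * g⁻¹ ∈ V := by
    intro x hx
    have hx' : x ∈ P ⊔ V := (le_sup_right : V ≤ P ⊔ V) hx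
    have h1 := Cfsg.Agent.Lib.Helper85_Fusion.apply_mem_of_map_eq ψ himg x hx hx'
    rwa [hg ⟨x, hx'⟩] at h1
  have hgN : g ∈ Subgroup.normalizer (V : Set Ω) := by
    rw [Subgroup.mem_normalizer_iff]
    intro x
    constructor
    · exact hgV x
    · intro hx
      obtain ⟨z, hz, hzD, hzx⟩ := Cfsg.Agent.Lib.Helper85_Fusion.exists_of_map_eq ψ himg _ hx
      rw [hg ⟨z, hzD⟩] at hzx
      have : z = x := by simpa using hzx
      rw [← this]
      exact hz
  refine ⟨hPT, g, Subgroup.mem_inf.2 ⟨hgS, hgN⟩, fun x => ?_⟩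
  rw [← hext x, hg]
  rfl

/-- The general criterion. -/
theorem inner_iff_normalizer_inner [Finite S] {p : ℕ} [Fact p.Prime] {W : ∀ (Q : Type u) [Group Q], Subgroup Q}
    (hW : IsCharPFunctor p W) (hG : GroupHyp p W) (hS : IsPGroup p S) (F : FusionSystem S)
    (hF : F.IsSaturated p) {D : Subgroup Ω} (hD : F.StronglyClosed D) :
    (∀ P : Subgroup Ω, F.Hom P = (innerFusionSystem S).Hom P) ↔
      ∀ N : FusionSystem (normalizerIn S (inducedFunctor W D)), F.IsNormalizerSystem (inducedFunctor W D) N →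
        ∀ P : Subgroup Ω, N.Hom P = (innerFusionSystem (normalizerIn S (inducedFunctor W D))).Hom P := by
  constructor
  · intro h N hN P
    exact normalizerSystem_inner_of_inner h _ N hN P
  · intro h
    have hVS : inducedFunctor W D ≤ S := (ind_le D).trans hD.1
    have hTS : normalizerIn S (inducedFunctor W D) ≤ S := normalizerIn_le S _
    have hTp : IsPGroup p (normalizerIn S (inducedFunctor W D)) := hS.to_le hTS
    have hN := Cfsg.Agent.Lib.Helper85_Fusion.normalizerSystem_isNormalizerSystem F (inducedFunctor W D) hVS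
    have h1 : PInnerOn p (IsMapOn (Cfsg.Agent.Lib.Helper85_Fusion.normalizerSystem F (inducedFunctor W D) hVS)) :=
      pInnerOn_of_hom_eq_inner hTp _ (h _ hN)
    have h2 : PInnerOn p (IsNormMapOn F (inducedFunctor W D)) :=
      PInnerOn.mono (fun P f hf => (isMapOn_normalizerSystem_iff hN P f).2 hf) h1
    exact hom_eq_inner_of_pInnerOn hS F hF (gt_main hW hG _ Ω S rfl hS F hF D hD h2)

/-- The group-theoretic criterion for `Z(J(-))`, `p` odd (Glauberman-Thompson, strongly closed version). -/
theorem groupHyp_WZJ {p : ℕ} [Fact p.Prime] (hp : p ≠ 2) :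
    GroupHyp.{u} p Cfsg.Agent.Lib.Helper1_ZJFunctor.WZJ := by
  intro G _ _ P D hD h
  rw [Cfsg.Agent.Lib.Helper1_ZJFunctor.inducedFunctor_WZJ] at h
  exact Cfsg.Agent.S3082.result hp P D hD (Or.inl h)

/-- Glauberman-Thompson for fusion systems, relative to a strongly closed subgroup. -/
theorem inner_iff_centerThompson [Finite S] {p : ℕ} [Fact p.Prime] (hp : p ≠ 2) (hS : IsPGroup p S)
    (F : FusionSystem S) (hF : F.IsSaturated p) {D : Subgroup Ω} (hD : F.StronglyClosed D) :
    (∀ P : Subgroup Ω, F.Hom P = (innerFusionSystem S).Hom P) ↔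
      ∀ N : FusionSystem (normalizerIn S (centerThompsonAOf D)), F.IsNormalizerSystem (centerThompsonAOf D) N →
        ∀ P : Subgroup Ω, N.Hom P = (innerFusionSystem (normalizerIn S (centerThompsonAOf D))).Hom P := by
  have h := inner_iff_normalizer_inner (Cfsg.Agent.Lib.Helper1_ZJFunctor.isCharPFunctor_WZJ p)
    (groupHyp_WZJ hp) hS F hF hD
  rw [Cfsg.Agent.Lib.Helper1_ZJFunctor.inducedFunctor_WZJ] at h
  exact h

end Cfsg.Agent.Lib.Helper87_GTFinal
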