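import Cfsg.Agent.Lib.Helper87_AxModel
import Cfsg.Agent.Lib.Helper87_GTFinal

/-!
# The axiomatic Glauberman-Thompson criterion for fusion systems (helper87)

`F` is a saturated fusion system over the finite `p`-group `S`, `p` odd, and `𝒜` is a family of abelian subgroups of
`S` with the invariance and replacement properties (`Helper87_AxModel.FusFam`).  If the normalizer system of the
intersection of the family is `p`-inner, then `F` is `p`-inner.  The reduction follows `Helper87_GTMain`, with the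
inductive hypothesis replaced by the criterion for `Z(J(-))`.
-/

set_option autoImplicit false
set_option linter.style.haveILetI false

universe u

namespace Cfsg.Agent.Lib.Helper87_AxMain

open Cfsg Cfsg.FusionSystem Cfsg.Agent.Lib Cfsg.Agent.Lib.Helper87_Alperin Cfsg.Agent.Lib.Helper87_Alperin2
  Cfsg.Agent.Lib.Helper87_Normal Cfsg.Agent.Lib.Helper87_Factor Cfsg.Agent.Lib.Helper87_Factor2
  Cfsg.Agent.Lib.Helper87_PInner Cfsg.Agent.Lib.Helper87_GTCentric Cfsg.Agent.Lib.Helper87_GTFunctor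
  Cfsg.Agent.Lib.Helper87_GTQuot Cfsg.Agent.Lib.Helper87_GTModel Cfsg.Agent.Lib.Helper87_GTTransport
  Cfsg.Agent.Lib.Helper87_GTMain Cfsg.Agent.Lib.Helper87_GTFinal Cfsg.Agent.Lib.Helper87_AxZJ
  Cfsg.Agent.Lib.Helper87_AxModel Cfsg.Agent.Lib.Helper1_ZJFunctor

variable {Ω : Type u} [Group Ω] {S : Subgroup Ω} {p : ℕ}

/-- The criterion for `Z(J(-))`, in `p`-inner form. -/
theorem pInnerOn_of_WZJ [Finite S] [Fact p.Prime] (hp2 : p ≠ 2) (hS : IsPGroup p S) (F : FusionSystem S)
    (hF : F.IsSaturated p) {D : Subgroup Ω} (hD : F.StronglyClosed D)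
    (h : PInnerOn p (IsNormMapOn F (inducedFunctor WZJ D))) : PInnerOn p (IsMapOn F) :=
  gt_main (isCharPFunctor_WZJ p) (groupHyp_WZJ hp2) _ Ω S rfl hS F hF D hD h

/-- The case of a nontrivial subgroup `X` normal in the system, maximal with non-inner normalizer system. -/
theorem normal_case [Finite S] [Fact p.Prime] (hp2 : p ≠ 2) (hS : IsPGroup p S)
    (F : FusionSystem S) (hF : F.IsSaturated p) {𝒜 : Set (Subgroup Ω)} (h𝒜 : FusFam F 𝒜)
    {X : Subgroup Ω} (hX : F.IsNormal X)
    (hM : ∀ Y : Subgroup Ω, X < Y → Y ≤ S → S ≤ Subgroup.normalizer (Y : Set Ω) →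
      PInnerOn p (IsNormMapOn F Y))
    (hZ : PInnerOn p (IsNormMapOn F (sInf 𝒜))) : PInnerOn p (IsMapOn F) := by
  classical
  have hW := isCharPFunctor_WZJ.{u} p
  have hXsc : F.StronglyClosed X := Cfsg.Agent.Lib.Helper84_FusionNormal.IsNormal.stronglyClosed hX
  have hXS : X ≤ S := hX.1
  have hSX : S ≤ Subgroup.normalizer (X : Set Ω) := stronglyClosed_le_normalizer hXsc
  have hD : F.StronglyClosed S := stronglyClosed_self F
  by_cases hDX : S ≤ X
  · -- `S` is normal in the system
    have hcent : centralizerIn S X ≤ X := (inf_le_left : centralizerIn S X ≤ S).trans hDX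
    have hXc : F.IsCentric X := isCentric_of_isNormal hX hcent
    have hstar : ActsTriviallyMod p F X := by
      intro P α _ hα _ x
      exact hDX (S.mul_mem (S.inv_mem (hα.le x.2)) (hα.le (α x).2))
    obtain ⟨G, hGgrp, ι, hMod⟩ := Cfsg.Agent.S5090.result p hS F ⟨hF, X, hX, hXc⟩
    exact pInnerOn_of_isModel hp2 hS hMod h𝒜 hX hstar hZ
  -- the quotient system
  haveI hXnormal : (X.subgroupOf S).Normal := (Subgroup.normal_subgroupOf_iff_le_normalizer hXS).2 hSX
  obtain ⟨E, hE⟩ := Cfsg.Agent.S5132.result p hS F X hXsc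
  set θ : S →* S ⧸ X.subgroupOf S := QuotientGroup.mk' (X.subgroupOf S) with hθ
  have hE' := hE
  obtain ⟨-, hker, hrange, hEhom⟩ := hE'
  have hEsat : E.IsSaturated p :=
    Cfsg.Agent.S5133.result p hS F hF E θ (Cfsg.Agent.S5134.result p hS F hF X hXsc θ E hE)
  have hS'p : IsPGroup p (⊤ : Subgroup (S ⧸ X.subgroupOf S)) := (hS.to_quotient _).to_subgroup ⊤
  -- the image of `S`
  have hDXsc : F.StronglyClosed (S ⊔ X) := Cfsg.Agent.S5128.result p hS F hF S X hD hXsc
  set D' := imageAlong θ (S ⊔ X) with hD'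
  have hD'sc : E.StronglyClosed D' := stronglyClosed_imageAlong hE hDXsc le_sup_right
  haveI hfinD' : Finite D' := inferInstance
  have hD'p : IsPGroup p D' := (hS.to_quotient _).to_subgroup D'
  have hD'ne : D' ≠ ⊥ := by
    intro h
    apply hDX
    intro d hd
    have h1 : extOn θ d ∈ D' := extOn_mem_imageAlong θ hDXsc.1 ((le_sup_left : S ≤ S ⊔ X) hd)
    rw [h, Subgroup.mem_bot] at h1
    exact (extOn_eq_one_iff hker hd).1 h1
  set W' := inducedFunctor WZJ D' with hW'
  have hW'ne : W' ≠ ⊥ := ind_ne_bot hW D' hD'p hD'ne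
  set R := preimageAlong θ W' with hR
  have hXR : X ≤ R := le_preimageAlong hker hXS W'
  have hRS : R ≤ S := preimageAlong_le θ W'
  have hXltR : X < R := by
    refine lt_of_le_of_ne hXR ?_
    intro h
    apply hW'ne
    rw [eq_bot_iff]
    intro y hy
    have hyr : y ∈ θ.range := by rw [hrange]; exact Subgroup.mem_top y
    obtain ⟨x, hxS, hxy⟩ := exists_extOn_eq_of_mem_range hyr
    have hxR : x ∈ R := by
      rw [hR, mem_preimageAlong]
      exact ⟨hxS, by rw [hxy]; exact hy⟩
    rw [← h] at hxR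
    rw [Subgroup.mem_bot, ← hxy]
    exact (extOn_eq_one_iff hker hxS).2 hxR
  have hS'W' : (⊤ : Subgroup (S ⧸ X.subgroupOf S)) ≤ Subgroup.normalizer (W' : Set (S ⧸ X.subgroupOf S)) :=
    (stronglyClosed_le_normalizer hD'sc).trans (normalizer_le hW D' hD'p)
  have hSR : S ≤ Subgroup.normalizer (R : Set Ω) := by
    refine le_normalizer_of_conj_mem fun g hg x hx => ?_
    have hxS : x ∈ S := hRS hx
    rw [hR, mem_preimageAlong]
    refine ⟨S.mul_mem (S.mul_mem hg hxS) (S.inv_mem hg), ?_⟩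
    rw [extOn_mul θ (S.mul_mem hg hxS) (S.inv_mem hg), extOn_mul θ hg hxS, extOn_inv θ hg]
    have h1 : extOn θ x ∈ W' := ((mem_preimageAlong θ W' x).1 hx).2
    exact ((Subgroup.mem_normalizer_iff.1 (hS'W' (Subgroup.mem_top (extOn θ g)))) _).1 h1
  have hNPIR : PInnerOn p (IsNormMapOn F R) := hM R hXltR hRS hSR
  have hNPIE : PInnerOn p (IsNormMapOn E W') := pInnerOn_factor hE W' hNPIR
  have hPIE : PInnerOn p (IsMapOn E) := pInnerOn_of_WZJ hp2 hS'p E hEsat hD'sc hNPIE
  have hstar : ActsTriviallyMod p F X := actsTriviallyMod_of_pInnerOn hS hF hXsc hE hPIE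
  -- `X C_S(X)` is normal in the system
  have hR₁ : F.IsNormal (X ⊔ centralizerIn S X) := isNormal_sup_centralizerIn hS F hF hX hstar
  have hR₁sc := Cfsg.Agent.Lib.Helper84_FusionNormal.IsNormal.stronglyClosed hR₁
  by_cases hcent : centralizerIn S X ≤ X
  · -- the constrained case
    have hXc : F.IsCentric X := isCentric_of_isNormal hX hcent
    obtain ⟨G, hGgrp, ι, hMod⟩ := Cfsg.Agent.S5090.result p hS F ⟨hF, X, hX, hXc⟩
    exact pInnerOn_of_isModel hp2 hS hMod h𝒜 hX hstar hZ
  · have hlt : X < X ⊔ centralizerIn S X := by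
      refine lt_of_le_of_ne le_sup_left ?_
      intro h
      exact hcent (le_sup_right.trans h.ge)
    exact pInnerOn_of_isNormal hR₁ (stronglyClosed_le_normalizer hR₁sc)
      (hM _ hlt hR₁.1 (stronglyClosed_le_normalizer hR₁sc))

/-- **The axiomatic Glauberman-Thompson criterion**, in `p`-inner form. -/
theorem ax_main [Finite S] [Fact p.Prime] (hp2 : p ≠ 2) (hS : IsPGroup p S)
    (F : FusionSystem S) (hF : F.IsSaturated p) {𝒜 : Set (Subgroup Ω)} (h𝒜 : FusFam F 𝒜)
    (hZ : PInnerOn p (IsNormMapOn F (sInf 𝒜))) : PInnerOn p (IsMapOn F) := by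
  classical
  have hW := isCharPFunctor_WZJ.{u} p
  by_contra hcon
  -- the maximal choice
  let μ : Subgroup Ω → ℕ := fun X => Nat.card (normalizerIn S X) * (Nat.card S + 1) + Nat.card X
  let XX : Subgroup Ω → Prop := fun X =>
    X ≠ ⊥ ∧ F.IsFullyNormalized X ∧ ¬ PInnerOn p (IsNormMapOn F X)
  have hex : ∃ X, XX X := exists_of_not_pInnerOn hS F hF hcon
  let A : Set ℕ := {m | ∃ X, XX X ∧ μ X = m}
  have hAne : A.Nonempty := by
    obtain ⟨X, hX⟩ := hex
    exact ⟨μ X, X, hX, rfl⟩
  have hAbdd : BddAbove A := by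
    refine ⟨Nat.card S * (Nat.card S + 1) + Nat.card S, ?_⟩
    rintro m ⟨X, hX, rfl⟩
    have h1 : Nat.card (normalizerIn S X) ≤ Nat.card S := Subgroup.card_le_of_le (normalizerIn_le S X)
    have h2 : Nat.card X ≤ Nat.card S := Subgroup.card_le_of_le hX.2.1.1
    exact Nat.add_le_add (Nat.mul_le_mul_right _ h1) h2
  obtain ⟨X, hXX, hXmax⟩ : ∃ X, XX X ∧ ∀ Y, XX Y → μ Y ≤ μ X := by
    obtain ⟨X, hX, hXm⟩ := Nat.sSup_mem hAne hAbdd
    exact ⟨X, hX, fun Y hY => by rw [hXm]; exact le_csSup hAbdd ⟨Y, hY, rfl⟩⟩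
  obtain ⟨hXne, hXfn, hXnpi⟩ := hXX
  have hXS : X ≤ S := hXfn.1
  have hcardX : Nat.card X ≤ Nat.card S := Subgroup.card_le_of_le hXS
  -- the normalizer system
  set T := normalizerIn S X with hT
  have hTS : T ≤ S := normalizerIn_le S X
  haveI hfinT : Finite T := Finite.of_injective (Subgroup.inclusion hTS) (Subgroup.inclusion_injective hTS)
  have hTp : IsPGroup p T := hS.to_le hTS
  set N := Cfsg.Agent.Lib.Helper85_Fusion.normalizerSystem F X hXS with hNdef
  have hN : F.IsNormalizerSystem X N := Cfsg.Agent.Lib.Helper85_Fusion.normalizerSystem_isNormalizerSystem F X hXS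
  have hNsat : N.IsSaturated p := Cfsg.Agent.S5098.result p hS F hF X hXfn N hN
  have hNX : ¬ PInnerOn p (IsMapOn N) := by
    intro h
    exact hXnpi (PInnerOn.mono (fun P f hf => (isMapOn_normalizerSystem_iff hN P f).2 hf) h)
  by_cases hTeq : T = S
  · -- `X` is normal in `S`
    have hXnN : N.IsNormal X := Cfsg.Agent.Lib.Helper88_Model.isNormal_of_isNormalizerSystem F hXS N hN
    have h𝒜N : FusFam N 𝒜 := by
      refine ⟨fun A hA => (h𝒜.le A hA).trans hTeq.ge, h𝒜.comm, h𝒜.ne, ?_, ?_⟩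
      · intro Q hQT hexQ α hα x hx
        have hαF : IsMapOn F Q (extFun α) := ((isMapOn_normalizerSystem_iff hN Q _).1 hα).1
        exact h𝒜.inv Q (hQT.trans hTS) hexQ α hαF x hx
      · intro B hBT hcl hexB
        exact h𝒜.rep B (hBT.trans hTS) hcl hexB
    have hM' : ∀ Y : Subgroup Ω, X < Y → Y ≤ T → T ≤ Subgroup.normalizer (Y : Set Ω) →
        PInnerOn p (IsNormMapOn N Y) := by
      intro Y hXY hYT hTY
      by_contra hY
      have hYF : ¬ PInnerOn p (IsNormMapOn F Y) := fun h =>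
        hY (PInnerOn.mono (fun P f hf => isNormMapOn_of_normalizerSystem hN hf) h)
      have hYS : Y ≤ S := hYT.trans hTS
      have hNY : normalizerIn S Y = S := by
        refine le_antisymm (normalizerIn_le S Y) (le_inf le_rfl ?_)
        rw [← hTeq]
        exact hTY
      have hYne : Y ≠ ⊥ := by
        rintro rfl
        exact hXne (le_bot_iff.1 hXY.le)
      have hYfn : F.IsFullyNormalized Y := by
        refine ⟨hYS, fun Q _ => ?_⟩
        rw [hNY]
        exact Subgroup.card_le_of_le (normalizerIn_le S Q)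
      have h1 := hXmax Y ⟨hYne, hYfn, hYF⟩
      have h2 : Nat.card X < Nat.card Y := by
        haveI : Finite Y := Finite.of_injective (Subgroup.inclusion hYS) (Subgroup.inclusion_injective hYS)
        exact card_lt_of_lt hXY
      have h3 : μ Y = Nat.card S * (Nat.card S + 1) + Nat.card Y := by
        show Nat.card (normalizerIn S Y) * (Nat.card S + 1) + Nat.card Y = _
        rw [hNY]
      have h4 : μ X = Nat.card S * (Nat.card S + 1) + Nat.card X := by
        show Nat.card (normalizerIn S X) * (Nat.card S + 1) + Nat.card X = _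
        rw [← hT, hTeq]
      rw [h3, h4] at h1
      omega
    have hZ' : PInnerOn p (IsNormMapOn N (sInf 𝒜)) :=
      PInnerOn.mono (fun P f hf => isNormMapOn_of_normalizerSystem hN hf) hZ
    exact hNX (normal_case hp2 hTp N hNsat h𝒜N hXnN hM' hZ')
  · -- `N_S(X)` is a proper subgroup
    have hTlt : T < S := lt_of_le_of_ne hTS hTeq
    have hcardlt : Nat.card T < Nat.card S := card_lt_of_lt hTlt
    have hTsc : N.StronglyClosed T := stronglyClosed_self N
    set W₁ := inducedFunctor WZJ T with hW₁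
    have h1 : ¬ PInnerOn p (IsNormMapOn N W₁) := fun h =>
      hNX (pInnerOn_of_WZJ hp2 hTp N hNsat hTsc h)
    have h2 : ¬ PInnerOn p (IsNormMapOn F W₁) := fun h =>
      h1 (PInnerOn.mono (fun P f hf => isNormMapOn_of_normalizerSystem hN hf) h)
    have hXT : X ≤ T := le_inf hXS Subgroup.le_normalizer
    have hTne : T ≠ ⊥ := by
      intro h
      exact hXne (le_bot_iff.1 (h ▸ hXT))
    have hW₁ne : W₁ ≠ ⊥ := ind_ne_bot hW T hTp hTne
    have hW₁S : W₁ ≤ S := (ind_le T).trans hTS
    -- `N_S(W₁)` is larger than `N_S(X)`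
    have hNT : normalizerIn S T ≤ normalizerIn S W₁ := by
      intro g hg
      have hgS : g ∈ S := (normalizerIn_le S T) hg
      have hgT : g ∈ Subgroup.normalizer (T : Set Ω) := (normalizerIn_le_normalizer S T) hg
      exact Subgroup.mem_inf.2 ⟨hgS, normalizer_le hW T hTp hgT⟩
    have hTltN : T < normalizerIn S T := lt_normalizerIn hS hTS hTeq
    have hcard1 : Nat.card T < Nat.card (normalizerIn S W₁) := by
      have hfin : Finite (normalizerIn S T) :=
        Finite.of_injective (Subgroup.inclusion (normalizerIn_le S T)) (Subgroup.inclusion_injective _)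
      have hfin' : Finite (normalizerIn S W₁) :=
        Finite.of_injective (Subgroup.inclusion (normalizerIn_le S W₁)) (Subgroup.inclusion_injective _)
      exact lt_of_lt_of_le (card_lt_of_lt hTltN) (Subgroup.card_le_of_le hNT)
    -- a fully normalized conjugate
    obtain ⟨W₂, hconj, hfa, hrec⟩ := hF W₁ hW₁S
    have hW₂npi : ¬ PInnerOn p (IsNormMapOn F W₂) := not_pInnerOn_transport hS F hfa hrec hconj h2
    have hW₂S : W₂ ≤ S := hfa.1
    haveI hfinW₁ : Finite W₁ :=
      Finite.of_injective (Subgroup.inclusion hW₁S) (Subgroup.inclusion_injective hW₁S)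
    haveI hfinW₂ : Finite W₂ :=
      Finite.of_injective (Subgroup.inclusion hW₂S) (Subgroup.inclusion_injective hW₂S)
    have hW₂ne : W₂ ≠ ⊥ := by
      rw [← Subgroup.one_lt_card_iff_ne_bot, ← Cfsg.Agent.Lib.Helper85_Fusion.isConj_card_eq F hconj,
        Subgroup.one_lt_card_iff_ne_bot]
      exact hW₁ne
    have hW₂fn : F.IsFullyNormalized W₂ :=
      Cfsg.Agent.S5301.isFullyNormalized_of_isFullyAutomized_of_isReceptive hS F hfa hrec
    have hcard2 : Nat.card (normalizerIn S W₁) ≤ Nat.card (normalizerIn S W₂) :=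
      hW₂fn.2 W₁ (Cfsg.Agent.Lib.Helper85_Fusion.isConj_symm F hconj)
    have h3 := hXmax W₂ ⟨hW₂ne, hW₂fn, hW₂npi⟩
    have h4 : Nat.card T + 1 ≤ Nat.card (normalizerIn S W₂) := by omega
    have h5 : (Nat.card T + 1) * (Nat.card S + 1) ≤ μ W₂ :=
      le_trans (Nat.mul_le_mul_right _ h4) (Nat.le_add_right _ _)
    have h6 : μ X = Nat.card T * (Nat.card S + 1) + Nat.card X := rfl
    rw [h6] at h3
    nlinarith

end Cfsg.Agent.Lib.Helper87_AxMain
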