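import Cfsg.Agent.Lib.Helper87_Realized
import Cfsg.Agent.Lib.Helper87_GTFunctor
import Cfsg.Agent.Lib.Helper87_GTQuot
import Cfsg.Agent.Lib.Helper35_FrobeniusNPC
import Cfsg.Agent.S0072
import Cfsg.Prelude.Def_TwoFusion

/-!
The model step of the Glauberman-Thompson reduction (helper87).  Let the system `F` over `S` be realized by
`ι : S →* G` with `ι(S)` a Sylow `p`-subgroup of the finite group `G`, let `D` be strongly closed in `F` and `W` an
isomorphism-invariant functor for which the group-theoretic normal `p`-complement criterion holds.  If the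
normalizer system of `W(D)` is `p`-inner then `F` is `p`-inner.
-/

set_option autoImplicit false
set_option linter.style.haveILetI false

universe u

namespace Cfsg.Agent.Lib.Helper87_GTModel

open Cfsg Cfsg.FusionSystem Cfsg.Agent.Lib Cfsg.Agent.Lib.Helper87_Alperin Cfsg.Agent.Lib.Helper87_Alperin2
  Cfsg.Agent.Lib.Helper87_Normal Cfsg.Agent.Lib.Helper87_PInner Cfsg.Agent.Lib.Helper87_Realized
  Cfsg.Agent.Lib.Helper87_GTFunctor Cfsg.Agent.Lib.Helper87_GTQuot Cfsg.Agent.Lib.Helper35_FrobeniusNPC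

/-- The group-theoretic normal `p`-complement criterion for the functor `W` and strongly closed subgroups. -/
def GroupHyp (p : ℕ) (W : ∀ (Q : Type u) [Group Q], Subgroup Q) : Prop :=
  ∀ (G : Type u) [Group G] [Finite G] (P : Sylow p G) (D : Subgroup G), Cfsg.IsStronglyClosed D (P : Subgroup G) →
    HasNormalPComplement p ↥(Subgroup.normalizer ((inducedFunctor W D : Subgroup G) : Set G)) →
    HasNormalPComplement p G

variable {Ω : Type u} [Group Ω] {S : Subgroup Ω} {G : Type u} [Group G]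

/-- The image in `G` of a subgroup of `S`. -/
def imgJ (ι : S →* G) (D : Subgroup Ω) : Subgroup G := (D.subgroupOf S).map ι

theorem mem_imgJ {ι : S →* G} {D : Subgroup Ω} (hD : D ≤ S) (y : G) :
    y ∈ imgJ ι D ↔ ∃ x ∈ D, J ι x = y := by
  constructor
  · rintro ⟨s, hs, rfl⟩
    exact ⟨(s : Ω), Subgroup.mem_subgroupOf.1 hs, J_coe ι s⟩
  · rintro ⟨x, hx, rfl⟩
    exact ⟨⟨x, hD hx⟩, Subgroup.mem_subgroupOf.2 hx, (J_apply ι (hD hx)).symm⟩

theorem imgJ_le_range (ι : S →* G) (D : Subgroup Ω) : imgJ ι D ≤ ι.range := by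
  rintro _ ⟨s, -, rfl⟩
  exact ⟨s, rfl⟩

theorem J_pow_conj {ι : S →* G} {P : Subgroup Ω} (α : MulAut P) (g : G)
    (h : ∀ x : P, J ι ((α x : P) : Ω) = g * J ι (x : Ω) * g⁻¹) (k : ℕ) :
    ∀ x : P, J ι (((α ^ k) x : P) : Ω) = g ^ k * J ι (x : Ω) * (g ^ k)⁻¹ := by
  induction k with
  | zero => intro x; simp
  | succ k ih =>
    intro x
    rw [pow_succ', MulAut.mul_apply, h, ih, pow_succ']
    group

variable {p : ℕ} {W : ∀ (Q : Type u) [Group Q], Subgroup Q}

theorem isStronglyClosed_imgJ {F : FusionSystem S} {ι : S →* G} (hr : F.IsRealizedBy ι) {D : Subgroup Ω}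
    (hD : F.StronglyClosed D) : Cfsg.IsStronglyClosed (imgJ ι D) ι.range := by
  refine ⟨imgJ_le_range ι D, fun y hy g hg => ?_⟩
  obtain ⟨x, hx, rfl⟩ := (mem_imgJ hD.1 y).1 hy
  have hxS : x ∈ S := hD.1 hx
  have hPS : Subgroup.zpowers x ≤ S := (Subgroup.zpowers_le).2 hxS
  have hPD : Subgroup.zpowers x ≤ D := (Subgroup.zpowers_le).2 hx
  have hconj : ∀ z ∈ Subgroup.zpowers x, g * J ι z * g⁻¹ ∈ ι.range := by
    intro z hz
    obtain ⟨n, rfl⟩ := Subgroup.mem_zpowers_iff.1 hz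
    have h1 : J ι (x ^ n) = (J ι x) ^ n := by
      rw [J_apply ι (S.zpow_mem hxS n), J_apply ι hxS, ← map_zpow]
      rfl
    rw [h1]
    have h2 : g * J ι x ^ n * g⁻¹ = (g * J ι x * g⁻¹) ^ n := by
      rw [conj_zpow]
    rw [h2]
    exact ι.range.zpow_mem hg n
  obtain ⟨φ, hφ, hφg⟩ := exists_hom_of_conj hr hPS g hconj
  have h3 := hD.2 _ hPD φ hφ ⟨x, Subgroup.mem_zpowers x⟩
  rw [mem_imgJ hD.1]
  exact ⟨_, h3, hφg ⟨x, Subgroup.mem_zpowers x⟩⟩

theorem ind_imgJ [Finite S] (hW : IsCharPFunctor p W) (hS : IsPGroup p S) {ι : S →* G} (hinj : Function.Injective ι)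
    {D : Subgroup Ω} (hD : D ≤ S) :
    ∀ y, y ∈ inducedFunctor W (imgJ ι D) ↔ ∃ x ∈ inducedFunctor W D, J ι x = y := by
  haveI : Finite D := Finite.of_injective (Subgroup.inclusion hD) (Subgroup.inclusion_injective hD)
  exact ind_image hW (hS.to_le hD) (J ι) (fun x hx y hy => J_mul ι (hD hx) (hD hy))
    (fun x hx y hy hxy => J_injOn hinj (hD hx) (hD hy) hxy) (mem_imgJ hD)

/-- The model step. -/
theorem pInnerOn_of_isRealizedBy [Finite S] [Fact p.Prime] [Finite G] (hW : IsCharPFunctor p W) (hG : GroupHyp p W) (hS : IsPGroup p S)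
    {F : FusionSystem S} {ι : S →* G} (hr : F.IsRealizedBy ι) (T : Sylow p G) (hT : (T : Subgroup G) = ι.range)
    {D : Subgroup Ω} (hD : F.StronglyClosed D) (hNPI : PInnerOn p (IsNormMapOn F (inducedFunctor W D))) :
    PInnerOn p (IsMapOn F) := by
  classical
  have hDS : D ≤ S := hD.1
  haveI hfinD : Finite D := Finite.of_injective (Subgroup.inclusion hDS) (Subgroup.inclusion_injective hDS)
  have hDp : IsPGroup p D := hS.to_le hDS
  set V := inducedFunctor W D with hV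
  have hVD : V ≤ D := ind_le D
  have hVS : V ≤ S := hVD.trans hDS
  have hSV : S ≤ Subgroup.normalizer (V : Set Ω) :=
    (stronglyClosed_le_normalizer hD).trans (normalizer_le hW D hDp)
  set D' := imgJ ι D with hD'
  set V' := inducedFunctor W D' with hV'
  have hD'sc : Cfsg.IsStronglyClosed D' (T : Subgroup G) := by
    rw [hT]
    exact isStronglyClosed_imgJ hr hD
  have hD'T : D' ≤ (T : Subgroup G) := hD'sc.1
  have hD'p : IsPGroup p D' := T.2.to_le hD'T
  have hV'mem : ∀ y, y ∈ V' ↔ ∃ x ∈ V, J ι x = y := ind_imgJ hW hS hr.1 hDS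
  have hV'D' : V' ≤ D' := ind_le D'
  have hTD' : (T : Subgroup G) ≤ Subgroup.normalizer (D' : Set G) :=
    le_normalizer_of_conj_mem fun g hg x hx =>
      hD'sc.2 x hx g ((T : Subgroup G).mul_mem ((T : Subgroup G).mul_mem hg (hD'T hx))
        ((T : Subgroup G).inv_mem hg))
  set M := Subgroup.normalizer (V' : Set G) with hM
  have hTM : (T : Subgroup G) ≤ M := hTD'.trans (normalizer_le hW D' hD'p)
  -- the normalizer of `V'` satisfies the hypothesis of the theorem of Frobenius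
  have hfrobM : FrobHyp p ↥M := by
    refine frobHyp_of_le_sylow (T.subtype hTM) ?_
    intro Q hQ g hg hgo
    rw [Sylow.coe_subtype] at hQ
    have hQT : ∀ q ∈ Q, ((q : ↥M) : G) ∈ ι.range := fun q hq => by
      rw [← hT]
      exact Subgroup.mem_subgroupOf.1 (hQ hq)
    set g₀ : G := (g : G) with hg₀
    have hg₀M : g₀ ∈ Subgroup.normalizer (V' : Set G) := g.2
    set P := subT ι (Q.map M.subtype) with hP
    have hPS : P ≤ S := subT_le ι _
    haveI hfinP : Finite P := Finite.of_injective (Subgroup.inclusion hPS) (Subgroup.inclusion_injective hPS)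
    have hPmem : ∀ x ∈ P, ∃ q ∈ Q, ((q : ↥M) : G) = J ι x := by
      intro x hx
      obtain ⟨q, hq, hqx⟩ := (mem_subT.1 hx).2
      exact ⟨q, hq, hqx⟩
    have hconjP : ∀ x ∈ P, ∃ y ∈ P, J ι y = g₀ * J ι x * g₀⁻¹ := by
      intro x hx
      obtain ⟨q, hq, hqx⟩ := hPmem x hx
      have h1 : g * q * g⁻¹ ∈ Q := ((Subgroup.mem_normalizer_iff.1 hg) q).1 hq
      have h2 : ((g * q * g⁻¹ : ↥M) : G) = g₀ * J ι x * g₀⁻¹ := by
        rw [← hqx]
        rfl
      obtain ⟨y, hyS, hy⟩ := exists_of_mem_range (hQT _ h1)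
      refine ⟨y, mem_subT.2 ⟨hyS, ?_⟩, by rw [hy, h2]⟩
      rw [hy]
      exact ⟨_, h1, rfl⟩
    obtain ⟨α, hαK, hαg⟩ := exists_aut_of_conj hr hPS g₀ hconjP
    -- the extension to `P ⊔ V`
    set K := subT ι (ι.range.comap (MulAut.conj g₀).toMonoidHom) with hK
    have hKmem : ∀ x, x ∈ K ↔ x ∈ S ∧ g₀ * J ι x * g₀⁻¹ ∈ ι.range := by
      intro x
      rw [hK, mem_subT, Subgroup.mem_comap]
      rfl
    have hV'conj : ∀ y ∈ V', g₀ * y * g₀⁻¹ ∈ V' := fun y hy =>
      ((Subgroup.mem_normalizer_iff.1 hg₀M) y).1 hy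
    have hPK : P ≤ K := by
      intro x hx
      obtain ⟨y, hy, hyx⟩ := hconjP x hx
      rw [hKmem]
      exact ⟨hPS hx, by rw [← hyx]; exact J_mem_range ι y⟩
    have hVK : V ≤ K := by
      intro x hx
      rw [hKmem]
      refine ⟨hVS hx, ?_⟩
      have h1 : J ι x ∈ V' := (hV'mem _).2 ⟨x, hx, rfl⟩
      have h2 := hV'D' (hV'conj _ h1)
      rw [← hT]
      exact hD'T h2
    have hPVS : P ⊔ V ≤ S := sup_le hPS hVS
    obtain ⟨ψ, hψ, hψg⟩ := exists_hom_of_conj hr hPVS g₀ (fun x hx =>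
      ((hKmem x).1 ((sup_le hPK hVK) hx)).2)
    have hψS : ∀ x : (P ⊔ V : Subgroup Ω), ψ x ∈ S := hom_mem F hψ
    have hαmap : IsMapOn F P (extFun α) := (mem_autGroup_iff F hPS α).1 hαK
    have hPN : P ≤ normalizerIn S V := le_inf hPS (hPS.trans hSV)
    have hαnorm : IsNormMapOn F V P (extFun α) := by
      refine ⟨hαmap, hPN, fun x hx => hPN (extFun_mem α hx), extHom ψ, isMapOn_extHom F hψ,
        fun x hx => ?_, fun y => ?_⟩
      · have hx' : x ∈ P ⊔ V := (le_sup_left : P ≤ P ⊔ V) hx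
        rw [extHom_apply ψ hx', extFun_apply α hx]
        apply J_injOn hr.1 (hψS _) (hPS (α ⟨x, hx⟩).2)
        rw [hψg, hαg]
      · constructor
        · intro hy
          have h1 : J ι y ∈ V' := (hV'mem _).2 ⟨y, hy, rfl⟩
          have h2 : g₀⁻¹ * J ι y * g₀ ∈ V' := by
            have := ((Subgroup.mem_normalizer_iff.1 (Subgroup.inv_mem _ hg₀M)) (J ι y)).1 h1
            simpa using this
          obtain ⟨x, hx, hxy⟩ := (hV'mem _).1 h2
          have hx' : x ∈ P ⊔ V := (le_sup_right : V ≤ P ⊔ V) hx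
          refine ⟨x, hx, ?_⟩
          rw [extHom_apply ψ hx']
          apply J_injOn hr.1 (hψS _) (hVS hy)
          rw [hψg]
          show g₀ * J ι x * g₀⁻¹ = J ι y
          rw [hxy]
          group
        · rintro ⟨x, hx, rfl⟩
          have hx' : x ∈ P ⊔ V := (le_sup_right : V ≤ P ⊔ V) hx
          rw [extHom_apply ψ hx']
          have h1 : J ι x ∈ V' := (hV'mem _).2 ⟨x, hx, rfl⟩
          have h2 := hV'conj _ h1
          obtain ⟨v, hv, hvx⟩ := (hV'mem _).1 h2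
          have : ψ ⟨x, hx'⟩ = v := by
            apply J_injOn hr.1 (hψS _) (hVS hv)
            rw [hψg, hvx]
          rw [this]
          exact hv
    -- the order of `α`
    have hαo : α ^ orderOf g = 1 := by
      ext x
      have h1 := J_pow_conj α g₀ hαg (orderOf g) x
      have h2 : g₀ ^ orderOf g = 1 := by
        rw [hg₀, ← Subgroup.coe_pow, pow_orderOf_eq_one]
        rfl
      rw [h2] at h1
      have h3 : J ι (((α ^ orderOf g) x : P) : Ω) = J ι (x : Ω) := by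
        rw [h1]
        group
      rw [MulAut.one_apply]
      exact J_injOn hr.1 (hPS ((α ^ orderOf g) x).2) (hPS x.2) h3
    have hαc : (orderOf α).Coprime p := Nat.Coprime.coprime_dvd_left (orderOf_dvd_of_pow_eq_one hαo) hgo
    have hα1 : α = 1 := hNPI P α hαnorm hαc
    rw [Subgroup.mem_centralizer_iff]
    intro q hq
    obtain ⟨x, hxS, hxq⟩ := exists_of_mem_range (hQT q hq)
    have hxP : x ∈ P := mem_subT.2 ⟨hxS, by rw [hxq]; exact ⟨q, hq, rfl⟩⟩
    have h1 := hαg ⟨x, hxP⟩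
    rw [hα1, MulAut.one_apply, hxq] at h1
    apply Subtype.ext
    show ((q : ↥M) : G) * g₀ = g₀ * ((q : ↥M) : G)
    calc ((q : ↥M) : G) * g₀ = (g₀ * ((q : ↥M) : G) * g₀⁻¹) * g₀ := by rw [← h1]
      _ = g₀ * ((q : ↥M) : G) := by group
  -- hence `G` has a normal `p`-complement
  have hnpcM : HasNormalPComplement p ↥M := (Cfsg.Agent.S0072.hasNPC_iff p).2 (hasNPC_of_frobHyp hfrobM)
  have hnpcG : HasNormalPComplement p G := hG G T D' hD'sc hnpcM
  have hfrobG : FrobHyp p G := frobHyp_of_hasNPC ((Cfsg.Agent.S0072.hasNPC_iff p).1 hnpcG)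
  -- the system is `p`-inner
  intro P α hα hc
  have hPS : P ≤ S := hα.le
  have hαK : α ∈ F.autGroup P := (mem_autGroup_iff F hPS α).2 hα
  obtain ⟨g, hg⟩ := exists_conj_of_aut hr hPS hαK
  obtain ⟨k, hkc, hk1⟩ := exists_pow_coprime g (p := p) hc
  have hpow := J_pow_conj α g hg k
  set Q' := imgJ ι P with hQ'
  have hQ'p : IsPGroup p Q' := by
    have : IsPGroup p (T : Subgroup G) := T.2
    refine this.to_le ?_
    rw [hT]
    exact imgJ_le_range ι P
  have hnorm : g ^ k ∈ Subgroup.normalizer (Q' : Set G) := by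
    rw [Subgroup.mem_normalizer_iff]
    intro h
    constructor
    · intro hh
      obtain ⟨x, hx, rfl⟩ := (mem_imgJ hPS h).1 hh
      rw [mem_imgJ hPS]
      exact ⟨_, ((α ^ k) ⟨x, hx⟩).2, hpow ⟨x, hx⟩⟩
    · intro hh
      obtain ⟨y, hy, hyh⟩ := (mem_imgJ hPS _).1 hh
      rw [mem_imgJ hPS]
      refine ⟨(((α ^ k)⁻¹ ⟨y, hy⟩ : P) : Ω), ((α ^ k)⁻¹ ⟨y, hy⟩).2, ?_⟩
      have h1 := hpow ((α ^ k)⁻¹ ⟨y, hy⟩)
      rw [MulAut.apply_inv_self, hyh] at h1
      have h2 : h = (g ^ k)⁻¹ * (g ^ k * h * (g ^ k)⁻¹) * g ^ k := by group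
      rw [h2, h1]
      group
  have hcent := hfrobG Q' hQ'p (g ^ k) hnorm hkc
  rw [Subgroup.mem_centralizer_iff] at hcent
  have hαk : α ^ k = 1 := by
    ext x
    rw [MulAut.one_apply]
    apply J_injOn hr.1 (hPS ((α ^ k) x).2) (hPS x.2)
    rw [hpow x]
    have h1 := hcent (J ι (x : Ω)) ((mem_imgJ hPS _).2 ⟨x, x.2, rfl⟩)
    rw [← h1]
    group
  have h5 : α ^ k = α := by
    have : α ^ k = α ^ 1 := (pow_eq_pow_iff_modEq).2 hk1
    rwa [pow_one] at this
  rw [← h5, hαk]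

end Cfsg.Agent.Lib.Helper87_GTModel
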