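import Cfsg.Agent.Lib.Helper87_AxNPC
import Cfsg.Agent.Lib.Helper87_GTModel
import Cfsg.Agent.Lib.Helper87_GTCentric
import Cfsg.Agent.Lib.Helper88_Model

/-!
# The model step of the axiomatic Glauberman-Thompson criterion (helper87)

`F` is a system over `S` with a model `ι : S →* G`, `𝒜` is a family of abelian subgroups of `S` with the invariance and
replacement properties (`FusFam`), `X` is normal in `F` and the automorphisms of order prime to `p` of the subgroups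
containing `X` act trivially modulo `X`.  If the normalizer system of the intersection of the family is `p`-inner,
then `F` is `p`-inner.
-/

set_option autoImplicit false
set_option linter.style.haveILetI false

universe u

namespace Cfsg.Agent.Lib.Helper87_AxModel

open Cfsg Cfsg.FusionSystem Cfsg.Agent.Lib Cfsg.Agent.Lib.Helper87_Alperin Cfsg.Agent.Lib.Helper87_Alperin2
  Cfsg.Agent.Lib.Helper87_Normal Cfsg.Agent.Lib.Helper87_PInner Cfsg.Agent.Lib.Helper87_Realized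
  Cfsg.Agent.Lib.Helper87_GTQuot Cfsg.Agent.Lib.Helper87_GTModel Cfsg.Agent.Lib.Helper87_GTCentric
  Cfsg.Agent.Lib.Helper87_AxZJ Cfsg.Agent.Lib.Helper87_AxNPC
  Cfsg.Agent.Lib.Helper35_FrobeniusNPC Cfsg.Agent.Lib.Helper34_NPC

variable {Ω : Type u} [Group Ω] {S : Subgroup Ω}

/-- The hypotheses on the family, for the system `F`. -/
structure FusFam (F : FusionSystem S) (𝒜 : Set (Subgroup Ω)) : Prop where
  le : ∀ A ∈ 𝒜, A ≤ S
  comm : ∀ A ∈ 𝒜, ∀ x ∈ A, ∀ y ∈ A, x * y = y * x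
  ne : 𝒜.Nonempty
  inv : ∀ Q : Subgroup Ω, Q ≤ S → (∃ A ∈ 𝒜, A ≤ Q) → ∀ α : MulAut Q, IsMapOn F Q (extFun α) →
    ∀ x : Q, (x : Ω) ∈ Iof 𝒜 Q → ((α x : Q) : Ω) ∈ Iof 𝒜 Q
  rep : ∀ B : Subgroup Ω, B ≤ S → ⁅⁅B, B⁆, B⁆ = ⊥ → (∃ A ∈ 𝒜, ⁅B, B⁆ ≤ A ∧ ¬ B ≤ A) →
    ∃ A ∈ 𝒜, ⁅B, B⁆ ≤ A ∧ ¬ B ≤ A ∧ B ≤ Subgroup.normalizer (A : Set Ω)

/-- The family, as a family of subgroups of the group `S`. -/
def famP (S : Subgroup Ω) (𝒜 : Set (Subgroup Ω)) : Set (Subgroup ↥S) := {A' | A'.map S.subtype ∈ 𝒜}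

theorem iof_self {𝒜 : Set (Subgroup Ω)} (hle : ∀ A ∈ 𝒜, A ≤ S) : Iof 𝒜 S = sInf 𝒜 := by
  unfold Iof
  congr 1
  ext A
  exact ⟨fun h => h.1, fun h => ⟨h, hle A h⟩⟩

theorem mem_iof_famP {𝒜 : Set (Subgroup Ω)} (hle : ∀ A ∈ 𝒜, A ≤ S) (R : Subgroup ↥S) (y : ↥S) :
    y ∈ Iof (famP S 𝒜) R ↔ (y : Ω) ∈ Iof 𝒜 (R.map S.subtype) := by
  unfold Iof
  rw [Subgroup.mem_sInf, Subgroup.mem_sInf]
  constructor
  · rintro h A ⟨hA, hAR⟩
    have hAS : A ≤ S := hle A hA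
    have hmap : (A.subgroupOf S).map S.subtype = A := Subgroup.map_subgroupOf_eq_of_le hAS
    have h1 : A.subgroupOf S ∈ {A' | A' ∈ famP S 𝒜 ∧ A' ≤ R} := by
      refine ⟨?_, ?_⟩
      · show (A.subgroupOf S).map S.subtype ∈ 𝒜
        rw [hmap]
        exact hA
      · intro x hx
        obtain ⟨r, hr, hrx⟩ := hAR (Subgroup.mem_subgroupOf.1 hx)
        have : r = x := Subtype.ext hrx
        rw [← this]
        exact hr
    exact Subgroup.mem_subgroupOf.1 (h _ h1)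
  · rintro h A' ⟨hA', hA'R⟩
    obtain ⟨z, hz, hzy⟩ := h (A'.map S.subtype) ⟨hA', Subgroup.map_mono hA'R⟩
    have : z = y := Subtype.ext hzy
    rw [← this]
    exact hz

theorem famP_famP {F : FusionSystem S} {𝒜 : Set (Subgroup Ω)} (h : FusFam F 𝒜) : FamP (famP S 𝒜) := by
  have hinj := S.subtype_injective
  refine ⟨?_, ?_, ?_⟩
  · intro A' hA' x hx y hy
    apply Subtype.ext
    exact h.comm _ hA' (x : Ω) ⟨x, hx, rfl⟩ (y : Ω) ⟨y, hy, rfl⟩
  · obtain ⟨A, hA⟩ := h.ne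
    refine ⟨A.subgroupOf S, ?_⟩
    show (A.subgroupOf S).map S.subtype ∈ 𝒜
    rw [Subgroup.map_subgroupOf_eq_of_le (h.le A hA)]
    exact hA
  · intro B' hcl hex
    have hBS : B'.map S.subtype ≤ S := by
      rintro _ ⟨b, -, rfl⟩
      exact b.2
    have hcomm : (⁅B', B'⁆).map S.subtype = ⁅B'.map S.subtype, B'.map S.subtype⁆ :=
      Subgroup.map_commutator _ _ _
    have hcl' : ⁅⁅B'.map S.subtype, B'.map S.subtype⁆, B'.map S.subtype⁆ = ⊥ := by
      rw [← hcomm, ← Subgroup.map_commutator, hcl, Subgroup.map_bot]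
    have hex' : ∃ A ∈ 𝒜, ⁅B'.map S.subtype, B'.map S.subtype⁆ ≤ A ∧ ¬ B'.map S.subtype ≤ A := by
      obtain ⟨A', hA', h1, h2⟩ := hex
      refine ⟨A'.map S.subtype, hA', ?_, ?_⟩
      · rw [← hcomm]
        exact Subgroup.map_mono h1
      · intro h3
        exact h2 ((Subgroup.map_le_map_iff_of_injective hinj).1 h3)
    obtain ⟨A, hA, h1, h2, h3⟩ := h.rep _ hBS hcl' hex'
    have hAS : A ≤ S := h.le A hA
    have hmap : (A.subgroupOf S).map S.subtype = A := Subgroup.map_subgroupOf_eq_of_le hAS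
    refine ⟨A.subgroupOf S, ?_, ?_, ?_, ?_⟩
    · show (A.subgroupOf S).map S.subtype ∈ 𝒜
      rw [hmap]
      exact hA
    · rw [← Subgroup.map_le_map_iff_of_injective hinj, hcomm, hmap]
      exact h1
    · intro h4
      apply h2
      rw [← hmap]
      exact Subgroup.map_mono h4
    · intro b hb
      have hbN : (b : Ω) ∈ Subgroup.normalizer (A : Set Ω) := h3 ⟨b, hb, rfl⟩
      rw [Subgroup.mem_normalizer_iff] at hbN ⊢
      intro x
      rw [Subgroup.mem_subgroupOf, Subgroup.mem_subgroupOf]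
      exact hbN (x : Ω)

variable {G : Type u} [Group G] {p : ℕ}

theorem invIn_famP [Finite S] {F : FusionSystem S} {ι : S →* G} (hr : F.IsRealizedBy ι)
    {𝒜 : Set (Subgroup Ω)} (h : FusFam F 𝒜) : InvIn ι (famP S 𝒜) := by
  intro R hex g hg x hx
  set Q : Subgroup Ω := R.map S.subtype with hQ
  have hQS : Q ≤ S := by
    rintro _ ⟨b, -, rfl⟩
    exact b.2
  haveI : Finite Q := Finite.of_injective (Subgroup.inclusion hQS) (Subgroup.inclusion_injective hQS)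
  have hexQ : ∃ A ∈ 𝒜, A ≤ Q := by
    obtain ⟨A', hA', hA'R⟩ := hex
    exact ⟨A'.map S.subtype, hA', Subgroup.map_mono hA'R⟩
  have hconj : ∀ x ∈ Q, ∃ y ∈ Q, J ι y = g * J ι x * g⁻¹ := by
    rintro _ ⟨r, hr', rfl⟩
    have h1 : g * ι r * g⁻¹ ∈ R.map ι :=
      ((Subgroup.mem_normalizer_iff.1 hg) (ι r)).1 ⟨r, hr', rfl⟩
    obtain ⟨r', hr'', hrr⟩ := h1
    refine ⟨(r' : Ω), ⟨r', hr'', rfl⟩, ?_⟩
    show J ι (r' : Ω) = g * J ι (r : Ω) * g⁻¹
    rw [J_coe, J_coe, hrr]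
  obtain ⟨α, hα, hαg⟩ := exists_aut_of_conj hr hQS g hconj
  have hαmap : IsMapOn F Q (extFun α) := (Helper87_Alperin.mem_autGroup_iff F hQS α).1 hα
  have hxQ : (x : Ω) ∈ Q := by
    obtain ⟨A', hA', hA'R⟩ := hex
    exact ⟨x, hA'R (Iof_le_of_mem hA' hA'R hx), rfl⟩
  have hxI : (x : Ω) ∈ Iof 𝒜 Q := (mem_iof_famP h.le R x).1 hx
  have h2 := h.inv Q hQS hexQ α hαmap ⟨(x : Ω), hxQ⟩ hxI
  have h3 : ((α ⟨(x : Ω), hxQ⟩ : Q) : Ω) ∈ S := hQS (α ⟨(x : Ω), hxQ⟩).2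
  refine ⟨⟨((α ⟨(x : Ω), hxQ⟩ : Q) : Ω), h3⟩, (mem_iof_famP h.le R _).2 h2, ?_⟩
  have h4 := hαg ⟨(x : Ω), hxQ⟩
  rw [J_apply ι h3] at h4
  rw [h4]
  show g * J ι (x : Ω) * g⁻¹ = g * ι x * g⁻¹
  rw [J_coe]

/-- If the normalizer system of `V` is `p`-inner, the normalizer of the image of `V` has a normal `p`-complement. -/
theorem hasNPC_normalizer_of_pInnerOn [Finite S] [Fact p.Prime] [Finite G] {F : FusionSystem S} {ι : S →* G}
    (hr : F.IsRealizedBy ι) (T : Sylow p G) (hT : (T : Subgroup G) = ι.range)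
    {V : Subgroup Ω} (hVS : V ≤ S) (hSV : S ≤ Subgroup.normalizer (V : Set Ω)) {V' : Subgroup G}
    (hV'mem : ∀ y, y ∈ V' ↔ ∃ x ∈ V, J ι x = y) (hNPI : PInnerOn p (IsNormMapOn F V)) :
    HasNPC p ↥(Subgroup.normalizer (V' : Set G)) := by
  classical
  have hV'T : V' ≤ (T : Subgroup G) := by
    intro y hy
    obtain ⟨x, -, rfl⟩ := (hV'mem y).1 hy
    rw [hT]
    exact J_mem_range ι x
  set M := Subgroup.normalizer (V' : Set G) with hM
  have hTM : (T : Subgroup G) ≤ M := by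
    have key : ∀ t ∈ (T : Subgroup G), ∀ y ∈ V', t * y * t⁻¹ ∈ V' := by
      intro t ht y hy
      rw [hT] at ht
      obtain ⟨s, hsS, rfl⟩ := exists_of_mem_range ht
      obtain ⟨x, hx, rfl⟩ := (hV'mem y).1 hy
      rw [hV'mem]
      refine ⟨s * x * s⁻¹, ((Subgroup.mem_normalizer_iff.1 (hSV hsS)) x).1 hx, ?_⟩
      exact J_conj ι hsS (hVS hx)
    intro t ht
    rw [Subgroup.mem_normalizer_iff]
    intro y
    constructor
    · exact key t ht y
    · intro hy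
      have := key t⁻¹ ((T : Subgroup G).inv_mem ht) _ hy
      have h2 : t⁻¹ * (t * y * t⁻¹) * t⁻¹⁻¹ = y := by group
      rwa [h2] at this
  have hfrobM : FrobHyp p ↥M := by
    refine frobHyp_of_le_sylow (T.subtype hTM) ?_
    intro Q hQ g hg hgo
    rw [Sylow.coe_subtype] at hQ
    have hQT : ∀ q ∈ Q, ((q : ↥M) : G) ∈ ι.range := fun q hq => by
      rw [← hT]
      exact Subgroup.mem_subgroupOf.1 (hQ hq)
    set g₀ : G := (g : G) with hg₀
    have hg₀M : g₀ ∈ Subgroup.normalizer (V' : Set G) := g.2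
    set P := subT ι (Q.map M.subtype) with hP
    have hPS : P ≤ S := subT_le ι _
    haveI hfinP : Finite P := Finite.of_injective (Subgroup.inclusion hPS) (Subgroup.inclusion_injective hPS)
    have hPmem : ∀ x ∈ P, ∃ q ∈ Q, ((q : ↥M) : G) = J ι x := by
      intro x hx
      obtain ⟨q, hq, hqx⟩ := (mem_subT.1 hx).2
      exact ⟨q, hq, hqx⟩
    have hconjP : ∀ x ∈ P, ∃ y ∈ P, J ι y = g₀ * J ι x * g₀⁻¹ := by
      intro x hx
      obtain ⟨q, hq, hqx⟩ := hPmem x hx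
      have h1 : g * q * g⁻¹ ∈ Q := ((Subgroup.mem_normalizer_iff.1 hg) q).1 hq
      have h2 : ((g * q * g⁻¹ : ↥M) : G) = g₀ * J ι x * g₀⁻¹ := by
        rw [← hqx]
        rfl
      obtain ⟨y, hyS, hy⟩ := exists_of_mem_range (hQT _ h1)
      refine ⟨y, mem_subT.2 ⟨hyS, ?_⟩, by rw [hy, h2]⟩
      rw [hy]
      exact ⟨_, h1, rfl⟩
    obtain ⟨α, hαK, hαg⟩ := exists_aut_of_conj hr hPS g₀ hconjP
    set K := subT ι (ι.range.comap (MulAut.conj g₀).toMonoidHom) with hK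
    have hKmem : ∀ x, x ∈ K ↔ x ∈ S ∧ g₀ * J ι x * g₀⁻¹ ∈ ι.range := by
      intro x
      rw [hK, mem_subT, Subgroup.mem_comap]
      rfl
    have hV'conj : ∀ y ∈ V', g₀ * y * g₀⁻¹ ∈ V' := fun y hy =>
      ((Subgroup.mem_normalizer_iff.1 hg₀M) y).1 hy
    have hPK : P ≤ K := by
      intro x hx
      obtain ⟨y, hy, hyx⟩ := hconjP x hx
      rw [hKmem]
      exact ⟨hPS hx, by rw [← hyx]; exact J_mem_range ι y⟩
    have hVK : V ≤ K := by
      intro x hx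
      rw [hKmem]
      refine ⟨hVS hx, ?_⟩
      have h1 : J ι x ∈ V' := (hV'mem _).2 ⟨x, hx, rfl⟩
      rw [← hT]
      exact hV'T (hV'conj _ h1)
    have hPVS : P ⊔ V ≤ S := sup_le hPS hVS
    obtain ⟨ψ, hψ, hψg⟩ := exists_hom_of_conj hr hPVS g₀ (fun x hx =>
      ((hKmem x).1 ((sup_le hPK hVK) hx)).2)
    have hψS : ∀ x : (P ⊔ V : Subgroup Ω), ψ x ∈ S := hom_mem F hψ
    have hαmap : IsMapOn F P (extFun α) := (Helper87_Alperin.mem_autGroup_iff F hPS α).1 hαK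
    have hPN : P ≤ normalizerIn S V := le_inf hPS (hPS.trans hSV)
    have hαnorm : IsNormMapOn F V P (extFun α) := by
      refine ⟨hαmap, hPN, fun x hx => hPN (extFun_mem α hx), extHom ψ, isMapOn_extHom F hψ,
        fun x hx => ?_, fun y => ?_⟩
      · have hx' : x ∈ P ⊔ V := (le_sup_left : P ≤ P ⊔ V) hx
        rw [extHom_apply ψ hx', extFun_apply α hx]
        apply J_injOn hr.1 (hψS _) (hPS (α ⟨x, hx⟩).2)
        rw [hψg, hαg]
      · constructor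
        · intro hy
          have h1 : J ι y ∈ V' := (hV'mem _).2 ⟨y, hy, rfl⟩
          have h2 : g₀⁻¹ * J ι y * g₀ ∈ V' := by
            have := ((Subgroup.mem_normalizer_iff.1 (Subgroup.inv_mem _ hg₀M)) (J ι y)).1 h1
            simpa using this
          obtain ⟨x, hx, hxy⟩ := (hV'mem _).1 h2
          have hx' : x ∈ P ⊔ V := (le_sup_right : V ≤ P ⊔ V) hx
          refine ⟨x, hx, ?_⟩
          rw [extHom_apply ψ hx']
          apply J_injOn hr.1 (hψS _) (hVS hy)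
          rw [hψg]
          show g₀ * J ι x * g₀⁻¹ = J ι y
          rw [hxy]
          group
        · rintro ⟨x, hx, rfl⟩
          have hx' : x ∈ P ⊔ V := (le_sup_right : V ≤ P ⊔ V) hx
          rw [extHom_apply ψ hx']
          have h1 : J ι x ∈ V' := (hV'mem _).2 ⟨x, hx, rfl⟩
          have h2 := hV'conj _ h1
          obtain ⟨v, hv, hvx⟩ := (hV'mem _).1 h2
          have : ψ ⟨x, hx'⟩ = v := by
            apply J_injOn hr.1 (hψS _) (hVS hv)
            rw [hψg, hvx]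
          rw [this]
          exact hv
    have hαo : α ^ orderOf g = 1 := by
      ext x
      have h1 := J_pow_conj α g₀ hαg (orderOf g) x
      have h2 : g₀ ^ orderOf g = 1 := by
        rw [hg₀, ← Subgroup.coe_pow, pow_orderOf_eq_one]
        rfl
      rw [h2] at h1
      have h3 : J ι (((α ^ orderOf g) x : P) : Ω) = J ι (x : Ω) := by
        rw [h1]
        group
      rw [MulAut.one_apply]
      exact J_injOn hr.1 (hPS ((α ^ orderOf g) x).2) (hPS x.2) h3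
    have hαc : (orderOf α).Coprime p := Nat.Coprime.coprime_dvd_left (orderOf_dvd_of_pow_eq_one hαo) hgo
    have hα1 : α = 1 := hNPI P α hαnorm hαc
    rw [Subgroup.mem_centralizer_iff]
    intro q hq
    obtain ⟨x, hxS, hxq⟩ := exists_of_mem_range (hQT q hq)
    have hxP : x ∈ P := mem_subT.2 ⟨hxS, by rw [hxq]; exact ⟨q, hq, rfl⟩⟩
    have h1 := hαg ⟨x, hxP⟩
    rw [hα1, MulAut.one_apply, hxq] at h1
    apply Subtype.ext
    show ((q : ↥M) : G) * g₀ = g₀ * ((q : ↥M) : G)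
    calc ((q : ↥M) : G) * g₀ = (g₀ * ((q : ↥M) : G) * g₀⁻¹) * g₀ := by rw [← h1]
      _ = g₀ * ((q : ↥M) : G) := by group
  exact hasNPC_of_frobHyp hfrobM

/-- `S` normalizes the intersection of the family. -/
theorem FusFam.conj_mem_sInf {F : FusionSystem S} {𝒜 : Set (Subgroup Ω)} (h : FusFam F 𝒜) {s x : Ω}
    (hs : s ∈ S) (hx : x ∈ sInf 𝒜) : s * x * s⁻¹ ∈ sInf 𝒜 := by
  rw [← iof_self h.le] at hx ⊢
  obtain ⟨A₁, hA₁⟩ := h.ne
  have hxS : x ∈ S := h.le A₁ hA₁ (Iof_le_of_mem hA₁ (h.le A₁ hA₁) hx)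
  set α : MulAut S := MulAut.conj (⟨s, hs⟩ : S) with hα
  have hαmap : IsMapOn F S (extFun α) := by
    refine (IsMapOn.conj F le_rfl hs).congr (fun y hy => ?_)
    rw [extFun_apply α hy]
    rfl
  have := h.inv S le_rfl ⟨A₁, hA₁, h.le A₁ hA₁⟩ α hαmap ⟨x, hxS⟩ hx
  exact this

theorem FusFam.le_normalizer_sInf {F : FusionSystem S} {𝒜 : Set (Subgroup Ω)} (h : FusFam F 𝒜) :
    S ≤ Subgroup.normalizer ((sInf 𝒜 : Subgroup Ω) : Set Ω) :=
  le_normalizer_of_conj_mem fun _ hs _ hx => h.conj_mem_sInf hs hx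

/-- In a model, the image of a subgroup normal in the system is a normal subgroup. -/
theorem conj_mem_imgJ_of_isNormal [Finite S] [Fact p.Prime] {F : FusionSystem S} {ι : S →* G}
    (hr : F.IsRealizedBy ι) (T : Sylow p G) (hT : (T : Subgroup G) = ι.range)
    (hc : Subgroup.centralizer ((pCore p G : Subgroup G) : Set G) ≤ pCore p G)
    {X : Subgroup Ω} (hX : F.IsNormal X) (g : G) {x : Ω} (hx : x ∈ X) :
    g * J ι x * g⁻¹ ∈ imgJ ι X := by
  have hXS : X ≤ S := hX.1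
  have hXsc : F.StronglyClosed X := Cfsg.Agent.Lib.Helper84_FusionNormal.IsNormal.stronglyClosed hX
  have hSX : S ≤ Subgroup.normalizer (X : Set Ω) := stronglyClosed_le_normalizer hXsc
  have hQn : (pCore p G).Normal := Cfsg.Agent.Lib.Helper1_Cores.pCore_normal p
  have hQT : pCore p G ≤ ι.range := by
    rw [← hT]
    exact Cfsg.Agent.Lib.Helper1_Cores.pCore_le_sylow p T
  set U := subT ι (pCore p G) with hU
  have hUS : U ≤ S := subT_le ι _
  have hUconj : ∀ u ∈ U, g * J ι u * g⁻¹ ∈ ι.range := fun u hu =>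
    hQT (hQn.conj_mem _ (mem_subT.1 hu).2 g)
  obtain ⟨φ, hφ, hφg⟩ := exists_hom_of_conj hr hUS g hUconj
  obtain ⟨ψ, hψ, hext, himg⟩ := hX.2 U φ hφ
  have hUXS : U ⊔ X ≤ S := sup_le hUS hXS
  obtain ⟨-, h, hh⟩ := (mem_hom_iff hr hUXS ψ).1 hψ
  -- `h⁻¹ g` centralizes `O_p(G)`
  have hcent : h⁻¹ * g ∈ Subgroup.centralizer ((pCore p G : Subgroup G) : Set G) := by
    rw [Subgroup.mem_centralizer_iff]
    intro q hq
    obtain ⟨u, huS, huq⟩ := exists_of_mem_range (hQT hq)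
    have huU : u ∈ U := mem_subT.2 ⟨huS, by rw [huq]; exact hq⟩
    have h1 := hφg ⟨u, huU⟩
    have h2 := hh (Subgroup.inclusion le_sup_left ⟨u, huU⟩)
    rw [hext ⟨u, huU⟩] at h2
    have h3 : h * J ι u * h⁻¹ = g * J ι u * g⁻¹ := by
      rw [← h1]
      exact h2.symm
    rw [huq] at h3
    calc q * (h⁻¹ * g) = h⁻¹ * (h * q * h⁻¹) * g := by group
      _ = h⁻¹ * (g * q * g⁻¹) * g := by rw [h3]
      _ = h⁻¹ * g * q := by group
  obtain ⟨s, hsS, hs⟩ := exists_of_mem_range (hQT (hc hcent))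
  have hsx : s * x * s⁻¹ ∈ X := ((Subgroup.mem_normalizer_iff.1 (hSX hsS)) x).1 hx
  have hsx' : s * x * s⁻¹ ∈ U ⊔ X := (le_sup_right : X ≤ U ⊔ X) hsx
  have h4 := hh ⟨s * x * s⁻¹, hsx'⟩
  have h5 : ψ ⟨s * x * s⁻¹, hsx'⟩ ∈ X :=
    (le_of_eq himg) ⟨⟨s * x * s⁻¹, hsx'⟩, Subgroup.mem_subgroupOf.2 hsx, rfl⟩
  rw [mem_imgJ hXS]
  refine ⟨_, h5, ?_⟩
  rw [h4]
  show h * J ι (s * x * s⁻¹) * h⁻¹ = g * J ι x * g⁻¹
  rw [J_conj ι hsS (hXS hx), hs]
  group

theorem imgJ_le_pCore [Finite S] [Fact p.Prime] [Finite G] {F : FusionSystem S} {ι : S →* G}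
    (hr : F.IsRealizedBy ι) (T : Sylow p G) (hT : (T : Subgroup G) = ι.range)
    (hc : Subgroup.centralizer ((pCore p G : Subgroup G) : Set G) ≤ pCore p G)
    {X : Subgroup Ω} (hX : F.IsNormal X) : imgJ ι X ≤ pCore p G := by
  have hXS : X ≤ S := hX.1
  apply Cfsg.Agent.Lib.Helper1_Cores.le_pCore
  · refine ⟨fun y hy g => ?_⟩
    obtain ⟨x, hx, rfl⟩ := (mem_imgJ hXS y).1 hy
    exact conj_mem_imgJ_of_isNormal hr T hT hc hX g hx
  · refine T.2.to_le ?_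
    rw [hT]
    exact imgJ_le_range ι X

/-- The structure of the model. -/
theorem cstr_of_actsTriviallyMod [Finite S] [Fact p.Prime] [Finite G] {F : FusionSystem S} {ι : S →* G}
    (hr : F.IsRealizedBy ι) (T : Sylow p G) (hT : (T : Subgroup G) = ι.range)
    (hc : Subgroup.centralizer ((pCore p G : Subgroup G) : Set G) ≤ pCore p G)
    {X : Subgroup Ω} (hX : F.IsNormal X) (hstar : ActsTriviallyMod p F X) : CStr p G := by
  classical
  have hXS : X ≤ S := hX.1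
  have hXQ : imgJ ι X ≤ pCore p G := imgJ_le_pCore hr T hT hc hX
  have hQn : (pCore p G).Normal := Cfsg.Agent.Lib.Helper1_Cores.pCore_normal p
  have hQT : pCore p G ≤ (T : Subgroup G) := Cfsg.Agent.Lib.Helper1_Cores.pCore_le_sylow p T
  apply cstr_of_hasNPC_quotient hc
  apply hasNPC_of_frobHyp
  have hsurj : Function.Surjective (QuotientGroup.mk' (pCore p G)) := QuotientGroup.mk'_surjective _
  refine frobHyp_of_le_sylow (T.mapSurjective hsurj) ?_
  intro Qb hQb gb hgb hgbo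
  rw [Sylow.coe_mapSurjective] at hQb
  -- elements of the preimage of `Qb` lie in `T`
  have hpre : ∀ z : G, QuotientGroup.mk' (pCore p G) z ∈ Qb → z ∈ ι.range := by
    intro z hz
    obtain ⟨t, ht, htz⟩ := hQb hz
    have h1 : t⁻¹ * z ∈ pCore p G := by
      rw [← QuotientGroup.ker_mk' (pCore p G), MonoidHom.mem_ker, map_mul, map_inv, htz]
      group
    have h2 : z = t * (t⁻¹ * z) := by group
    rw [h2, ← hT]
    exact (T : Subgroup G).mul_mem ht (hQT h1)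
  -- a lift of `gb` of order prime to `p`
  obtain ⟨g₁, rfl⟩ := hsurj gb
  obtain ⟨k, hkc, hk1⟩ := exists_pow_coprime g₁ (p := p) hgbo
  set g : G := g₁ ^ k with hg
  have hgmk : QuotientGroup.mk' (pCore p G) g = QuotientGroup.mk' (pCore p G) g₁ := by
    rw [hg, map_pow]
    have : (QuotientGroup.mk' (pCore p G) g₁) ^ k = (QuotientGroup.mk' (pCore p G) g₁) ^ 1 :=
      (pow_eq_pow_iff_modEq).2 hk1
    rwa [pow_one] at this
  set P := subT ι (Qb.comap (QuotientGroup.mk' (pCore p G))) with hP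
  have hPS : P ≤ S := subT_le ι _
  haveI hfinP : Finite P := Finite.of_injective (Subgroup.inclusion hPS) (Subgroup.inclusion_injective hPS)
  have hPmem : ∀ x, x ∈ P ↔ x ∈ S ∧ QuotientGroup.mk' (pCore p G) (J ι x) ∈ Qb := by
    intro x
    rw [hP, mem_subT, Subgroup.mem_comap]
  have hXP : X ≤ P := by
    intro x hx
    rw [hPmem]
    refine ⟨hXS hx, ?_⟩
    have h1 : J ι x ∈ pCore p G := hXQ ((mem_imgJ hXS _).2 ⟨x, hx, rfl⟩)
    have h2 : QuotientGroup.mk' (pCore p G) (J ι x) = 1 := by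
      rw [← MonoidHom.mem_ker, QuotientGroup.ker_mk']
      exact h1
    rw [h2]
    exact Qb.one_mem
  have hconjP : ∀ x ∈ P, ∃ y ∈ P, J ι y = g * J ι x * g⁻¹ := by
    intro x hx
    have h1 : QuotientGroup.mk' (pCore p G) (g * J ι x * g⁻¹) ∈ Qb := by
      rw [map_mul, map_mul, map_inv, hgmk]
      exact ((Subgroup.mem_normalizer_iff.1 hgb) _).1 ((hPmem x).1 hx).2
    obtain ⟨y, hyS, hy⟩ := exists_of_mem_range (hpre _ h1)
    refine ⟨y, (hPmem y).2 ⟨hyS, by rw [hy]; exact h1⟩, hy⟩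
  obtain ⟨α, hαK, hαg⟩ := exists_aut_of_conj hr hPS g hconjP
  have hαmap : IsMapOn F P (extFun α) := (Helper87_Alperin.mem_autGroup_iff F hPS α).1 hαK
  have hαo : α ^ orderOf g = 1 := by
    ext x
    have h1 := J_pow_conj α g hαg (orderOf g) x
    rw [pow_orderOf_eq_one] at h1
    have h3 : J ι (((α ^ orderOf g) x : P) : Ω) = J ι (x : Ω) := by
      rw [h1]
      group
    rw [MulAut.one_apply]
    exact J_injOn hr.1 (hPS ((α ^ orderOf g) x).2) (hPS x.2) h3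
  have hαc : (orderOf α).Coprime p := Nat.Coprime.coprime_dvd_left (orderOf_dvd_of_pow_eq_one hαo) hkc
  rw [Subgroup.mem_centralizer_iff]
  intro qb hqb
  obtain ⟨z, rfl⟩ := hsurj qb
  obtain ⟨x, hxS, hxz⟩ := exists_of_mem_range (hpre z hqb)
  have hxP : x ∈ P := (hPmem x).2 ⟨hxS, by rw [hxz]; exact hqb⟩
  have h1 := hstar P α hXP hαmap hαc ⟨x, hxP⟩
  have h2 : J ι (x⁻¹ * ((α ⟨x, hxP⟩ : P) : Ω)) ∈ pCore p G :=
    hXQ ((mem_imgJ hXS _).2 ⟨_, h1, rfl⟩)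
  rw [J_mul ι (S.inv_mem hxS) (hPS (α ⟨x, hxP⟩).2), J_inv ι hxS, hαg ⟨x, hxP⟩, hxz] at h2
  have h3 : QuotientGroup.mk' (pCore p G) (z⁻¹ * (g * z * g⁻¹)) = 1 := by
    rw [← MonoidHom.mem_ker, QuotientGroup.ker_mk']
    exact h2
  rw [map_mul, map_inv, map_mul, map_mul, map_inv, hgmk] at h3
  have h4 : QuotientGroup.mk' (pCore p G) z =
      QuotientGroup.mk' (pCore p G) g₁ * QuotientGroup.mk' (pCore p G) z *
        (QuotientGroup.mk' (pCore p G) g₁)⁻¹ := inv_mul_eq_one.1 h3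
  calc QuotientGroup.mk' (pCore p G) z * QuotientGroup.mk' (pCore p G) g₁
      = QuotientGroup.mk' (pCore p G) g₁ * QuotientGroup.mk' (pCore p G) z *
        (QuotientGroup.mk' (pCore p G) g₁)⁻¹ * QuotientGroup.mk' (pCore p G) g₁ := by rw [← h4]
    _ = QuotientGroup.mk' (pCore p G) g₁ * QuotientGroup.mk' (pCore p G) z := by group

/-- If `ι` is surjective the system is `p`-inner. -/
theorem pInnerOn_of_range_eq_top {F : FusionSystem S} {ι : S →* G} (hr : F.IsRealizedBy ι)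
    (hS : IsPGroup p S) (htop : ι.range = ⊤) : PInnerOn p (IsMapOn F) := by
  intro P α hα hc
  have hPS : P ≤ S := hα.le
  have hαK : α ∈ F.autGroup P := (Helper87_Alperin.mem_autGroup_iff F hPS α).2 hα
  obtain ⟨g, hg⟩ := exists_conj_of_aut hr hPS hαK
  have hgr : g ∈ ι.range := by rw [htop]; exact Subgroup.mem_top g
  obtain ⟨s, hsS, hs⟩ := exists_of_mem_range hgr
  obtain ⟨k, hk⟩ := hS ⟨s, hsS⟩
  have hk' : s ^ (p ^ k) = 1 := by
    have := congrArg Subtype.val hk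
    simpa using this
  refine eq_one_of_conj α s k hk' (fun x => ?_) hc
  apply J_injOn hr.1 (hPS (α x).2) (S.mul_mem (S.mul_mem hsS (hPS x.2)) (S.inv_mem hsS))
  rw [hg x, J_conj ι hsS (hPS x.2), hs]

/-- **The model step.** -/
theorem pInnerOn_of_isModel [Finite S] [Fact p.Prime] (hp2 : p ≠ 2) (hS : IsPGroup p S) {F : FusionSystem S}
    {ι : S →* G} (hM : F.IsModel p G ι) {𝒜 : Set (Subgroup Ω)} (h𝒜 : FusFam F 𝒜)
    {X : Subgroup Ω} (hX : F.IsNormal X) (hstar : ActsTriviallyMod p F X)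
    (hZ : PInnerOn p (IsNormMapOn F (sInf 𝒜))) : PInnerOn p (IsMapOn F) := by
  obtain ⟨hfin, hr, ⟨T, hT⟩, hc⟩ := hM
  haveI := hfin
  have hstr : CStr p G := cstr_of_actsTriviallyMod hr T hT hc hX hstar
  obtain ⟨A₁, hA₁⟩ := h𝒜.ne
  have hVS : sInf 𝒜 ≤ S := (sInf_le hA₁).trans (h𝒜.le A₁ hA₁)
  have hV'mem : ∀ y, y ∈ (Iof (famP S 𝒜) ⊤).map ι ↔ ∃ x ∈ sInf 𝒜, J ι x = y := by
    intro y
    have htop : (⊤ : Subgroup ↥S).map S.subtype = S := by
      rw [← MonoidHom.range_eq_map, Subgroup.range_subtype]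
    constructor
    · rintro ⟨s, hs, rfl⟩
      have h1 := (mem_iof_famP h𝒜.le ⊤ s).1 hs
      rw [htop, iof_self h𝒜.le] at h1
      exact ⟨(s : Ω), h1, J_coe ι s⟩
    · rintro ⟨x, hx, rfl⟩
      have hxS : x ∈ S := hVS hx
      refine ⟨⟨x, hxS⟩, ?_, (J_apply ι hxS).symm⟩
      show (⟨x, hxS⟩ : ↥S) ∈ Iof (famP S 𝒜) ⊤
      rw [mem_iof_famP h𝒜.le ⊤, htop, iof_self h𝒜.le]
      exact hx
  have hnpc := hasNPC_normalizer_of_pInnerOn hr T hT hVS h𝒜.le_normalizer_sInf hV'mem hZ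
  have htop := range_eq_top hp2 (famP_famP h𝒜) _ G rfl ι hr.1 ⟨T, hT⟩ (invIn_famP hr h𝒜) hstr hnpc
  exact pInnerOn_of_range_eq_top hr hS htop

end Cfsg.Agent.Lib.Helper87_AxModel
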