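import Cfsg.Agent.Lib.Helper87_AxZJ
import Cfsg.Agent.Lib.Helper11_NPCStable
import Cfsg.Agent.Lib.Helper34_NPC

/-!
# An axiomatic Glauberman-Thompson criterion for constrained groups (helper87)

`P` is a finite `p`-group, `p` odd, with a family `𝒜` of abelian subgroups having the replacement property
(`FamP`).  Let `ι : P →* G` embed `P` as a Sylow `p`-subgroup of the finite group `G`, where `G` has normal subgroups
`Q ≤ K` with `Q` a `p`-group containing its centralizer, `K / Q` of order prime to `p` and `G / K` a `p`-group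
(`CStr`), and assume the family is invariant in `G` (`InvIn`).  If the normalizer of the image of the intersection of
the family has a normal `p`-complement, then `G = ι(P)`.
-/

set_option autoImplicit false

universe u

namespace Cfsg.Agent.Lib.Helper87_AxNPC

open Cfsg Cfsg.Agent.Lib.Helper11_ZJ Cfsg.Agent.Lib.Helper87_AxZJ Cfsg.Agent.Lib.Helper35_FrobeniusNPC
  Cfsg.Agent.Lib.Helper34_NPC

/-! ### The structure of the groups -/

/-- `G` has normal subgroups `Q ≤ K` with `Q` a `p`-group containing its centralizer, `K / Q` a `p'`-group and `G / K`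
a `p`-group. -/
def CStr (p : ℕ) (G : Type*) [Group G] : Prop :=
  ∃ K Q : Subgroup G, K.Normal ∧ Q.Normal ∧ Q ≤ K ∧ IsPGroup p Q ∧
    Subgroup.centralizer (Q : Set G) ≤ Q ∧ (Q.relIndex K).Coprime p ∧ ∃ n : ℕ, K.index = p ^ n

section CStr

variable {G : Type*} [Group G] {p : ℕ}

theorem card_map_eq_relIndex_ker {G' : Type*} [Group G'] (f : G →* G') (K : Subgroup G) :
    Nat.card (K.map f) = f.ker.relIndex K := by
  have h1 : (f.comp K.subtype).range = K.map f := by
    rw [MonoidHom.range_comp, Subgroup.range_subtype]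
  have h2 : (f.comp K.subtype).ker = f.ker.subgroupOf K := rfl
  rw [← h1, ← Subgroup.index_ker, h2]
  rfl

theorem CStr.centralizer_pCore_le (h : CStr p G) :
    Subgroup.centralizer ((pCore p G : Subgroup G) : Set G) ≤ pCore p G := by
  obtain ⟨K, Q, -, hQn, -, hQp, hQc, -, -⟩ := h
  have hQle : Q ≤ pCore p G := Cfsg.Agent.Lib.Helper1_Cores.le_pCore hQn hQp
  exact (Subgroup.centralizer_le hQle).trans (hQc.trans hQle)

variable [Fact p.Prime]

theorem CStr.hasNPC_quotient [Finite G] (h : CStr p G) : HasNPC p (G ⧸ pCore p G) := by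
  obtain ⟨K, Q, hKn, hQn, hQK, hQp, -, hcop, n, hn⟩ := h
  have hQle : Q ≤ pCore p G := Cfsg.Agent.Lib.Helper1_Cores.le_pCore hQn hQp
  have hsurj : Function.Surjective (QuotientGroup.mk' (pCore p G)) := QuotientGroup.mk'_surjective _
  refine ⟨K.map (QuotientGroup.mk' (pCore p G)), hKn.map _ hsurj, ?_, ?_⟩
  · rw [card_map_eq_relIndex_ker, QuotientGroup.ker_mk']
    exact Nat.Coprime.coprime_dvd_left (Subgroup.relIndex_dvd_of_le_left K hQle) hcop
  · have h1 : (K.map (QuotientGroup.mk' (pCore p G))).index ∣ K.index := Subgroup.index_map_dvd K hsurj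
    rw [hn] at h1
    obtain ⟨j, -, hj⟩ := (Nat.dvd_prime_pow (Fact.out : p.Prime)).mp h1
    exact ⟨j, hj⟩

theorem CStr.isPGroup_of_hasNPC [Finite G] (h : CStr p G) (hnpc : HasNPC p G) : IsPGroup p G := by
  obtain ⟨K, Q, -, hQn, -, hQp, hQc, -, -⟩ := h
  obtain ⟨M, hMn, hMc, n, hn⟩ := hnpc
  have hMQ : M ⊓ Q = ⊥ := by
    apply (Subgroup.disjoint_of_coprime_natCard ?_).eq_bot
    obtain ⟨j, hj⟩ := IsPGroup.iff_card.mp hQp
    rw [hj]
    exact Nat.Coprime.pow_right j hMc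
  have h1 : ⁅M, Q⁆ = ⊥ := by
    rw [eq_bot_iff, ← hMQ]
    exact Subgroup.commutator_le_inf M Q
  have h2 : M ≤ Subgroup.centralizer (Q : Set G) := Subgroup.commutator_eq_bot_iff_le_centralizer.1 h1
  have h3 : M = ⊥ := by
    rw [eq_bot_iff, ← hMQ]
    exact le_inf le_rfl (h2.trans hQc)
  rw [h3, Subgroup.index_bot] at hn
  exact IsPGroup.of_card hn

theorem CStr.subgroup [Finite G] (h : CStr p G) (T : Sylow p G) (H : Subgroup G) (hTH : (T : Subgroup G) ≤ H) :
    CStr p ↥H := by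
  obtain ⟨K, Q, hKn, hQn, hQK, hQp, hQc, hcop, n, hn⟩ := h
  have hQH : Q ≤ H := ((Cfsg.Agent.Lib.Helper1_Cores.le_pCore hQn hQp).trans
    (Cfsg.Agent.Lib.Helper1_Cores.pCore_le_sylow p T)).trans hTH
  refine ⟨K.subgroupOf H, Q.subgroupOf H, hKn.subgroupOf H, hQn.subgroupOf H, Subgroup.comap_mono hQK,
    hQp.comap_of_injective _ H.subtype_injective, ?_, ?_, ?_⟩
  · intro x hx
    rw [Subgroup.mem_subgroupOf]
    apply hQc
    rw [Subgroup.mem_centralizer_iff]
    intro q hq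
    have := (Subgroup.mem_centralizer_iff.1 hx) ⟨q, hQH hq⟩ (Subgroup.mem_subgroupOf.2 hq)
    exact congrArg Subtype.val this
  · have h1 : (Q.subgroupOf H).relIndex (K.subgroupOf H) = Q.relIndex (K ⊓ H) := by
      rw [← Subgroup.inf_subgroupOf_right K H, Subgroup.relIndex_subgroupOf inf_le_right]
    rw [h1]
    have h2 : Q.relIndex (K ⊓ H) * (K ⊓ H).relIndex K = Q.relIndex K :=
      Subgroup.relIndex_mul_relIndex Q (K ⊓ H) K (le_inf hQK hQH) inf_le_left
    exact Nat.Coprime.coprime_dvd_left (Dvd.intro _ h2) hcop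
  · have h1 : (K.subgroupOf H).index ∣ K.index := Subgroup.relIndex_dvd_index_of_normal K H
    rw [hn] at h1
    obtain ⟨j, -, hj⟩ := (Nat.dvd_prime_pow (Fact.out : p.Prime)).mp h1
    exact ⟨j, hj⟩

/-- The structure from a normal `p`-complement of `G / O_p(G)`. -/
theorem cstr_of_hasNPC_quotient [Finite G]
    (hc : Subgroup.centralizer ((pCore p G : Subgroup G) : Set G) ≤ pCore p G)
    (h : HasNPC p (G ⧸ pCore p G)) : CStr p G := by
  obtain ⟨Kb, hKbn, hKbc, n, hn⟩ := h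
  have hsurj : Function.Surjective (QuotientGroup.mk' (pCore p G)) := QuotientGroup.mk'_surjective _
  refine ⟨Kb.comap (QuotientGroup.mk' (pCore p G)), pCore p G, hKbn.comap _,
    Cfsg.Agent.Lib.Helper1_Cores.pCore_normal p, ?_, Cfsg.Agent.Lib.Helper1_Cores.pCore_isPGroup p, hc, ?_, n, ?_⟩
  · have := Subgroup.ker_le_comap (QuotientGroup.mk' (pCore p G)) Kb
    rwa [QuotientGroup.ker_mk'] at this
  · have h1 := card_map_eq_relIndex_ker (QuotientGroup.mk' (pCore p G))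
      (Kb.comap (QuotientGroup.mk' (pCore p G)))
    rw [Subgroup.map_comap_eq_self_of_surjective hsurj, QuotientGroup.ker_mk'] at h1
    rw [← h1]
    exact hKbc
  · rw [Subgroup.index_comap_of_surjective _ hsurj, hn]

end CStr

/-! ### The family -/

variable {P : Type u} [Group P]

/-- The intrinsic axioms on a family of subgroups of `P`. -/
structure FamP (𝒜 : Set (Subgroup P)) : Prop where
  comm : ∀ A ∈ 𝒜, ∀ x ∈ A, ∀ y ∈ A, x * y = y * x
  ne : 𝒜.Nonempty
  rep : ∀ B : Subgroup P, ⁅⁅B, B⁆, B⁆ = ⊥ → (∃ A ∈ 𝒜, ⁅B, B⁆ ≤ A ∧ ¬ B ≤ A) →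
    ∃ A ∈ 𝒜, ⁅B, B⁆ ≤ A ∧ ¬ B ≤ A ∧ B ≤ Subgroup.normalizer (A : Set P)

/-- Invariance of the family with respect to an embedding of `P`. -/
def InvIn {G : Type*} [Group G] (ι : P →* G) (𝒜 : Set (Subgroup P)) : Prop :=
  ∀ R : Subgroup P, (∃ A ∈ 𝒜, A ≤ R) → ∀ g : G,
    g ∈ Subgroup.normalizer ((R.map ι : Subgroup G) : Set G) →
    ∀ x ∈ Iof 𝒜 R, g * ι x * g⁻¹ ∈ (Iof 𝒜 R).map ι

section Transport

variable {G : Type*} [Group G] {ι : P →* G} {𝒜 : Set (Subgroup P)}

theorem iof_map (hι : Function.Injective ι) (R : Subgroup P) (h : ∃ A ∈ 𝒜, A ≤ R) :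
    Iof ((fun A : Subgroup P => A.map ι) '' 𝒜) (R.map ι) = (Iof 𝒜 R).map ι := by
  obtain ⟨A₀, hA₀, hA₀R⟩ := h
  unfold Iof
  rw [map_sInf_of_injective ι hι {A | A ∈ 𝒜 ∧ A ≤ R} ⟨A₀, hA₀, hA₀R⟩]
  congr 1
  ext A'
  constructor
  · rintro ⟨⟨A, hA, rfl⟩, hle⟩
    exact ⟨A, ⟨hA, (Subgroup.map_le_map_iff_of_injective hι).1 hle⟩, rfl⟩
  · rintro ⟨A, ⟨hA, hAR⟩, rfl⟩
    exact ⟨⟨A, hA, rfl⟩, Subgroup.map_mono hAR⟩

theorem axFam_map (hι : Function.Injective ι) (hfam : FamP 𝒜) (hinv : InvIn ι 𝒜) :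
    AxFam ι.range ((fun A : Subgroup P => A.map ι) '' 𝒜) := by
  refine ⟨?_, ?_, ?_, ?_, ?_⟩
  · rintro _ ⟨A, -, rfl⟩
    exact Subgroup.map_le_range ι A
  · rintro _ ⟨A, hA, rfl⟩ _ ⟨x, hx, rfl⟩ _ ⟨y, hy, rfl⟩
    rw [← map_mul, ← map_mul, hfam.comm A hA x hx y hy]
  · obtain ⟨A, hA⟩ := hfam.ne
    exact ⟨A.map ι, A, hA, rfl⟩
  · intro R' hR' hex g hg x hx
    have hR : (R'.comap ι).map ι = R' := Subgroup.map_comap_eq_self hR'
    have hex' : ∃ A ∈ 𝒜, A ≤ R'.comap ι := by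
      obtain ⟨_, ⟨A, hA, rfl⟩, hle⟩ := hex
      exact ⟨A, hA, Subgroup.map_le_iff_le_comap.1 hle⟩
    rw [← hR, iof_map hι _ hex'] at hx ⊢
    obtain ⟨x₀, hx₀, rfl⟩ := hx
    rw [← hR] at hg
    exact hinv _ hex' g hg x₀ hx₀
  · intro B' hB' hcl hex
    have hB : (B'.comap ι).map ι = B' := Subgroup.map_comap_eq_self hB'
    have hcomm : (⁅B'.comap ι, B'.comap ι⁆).map ι = ⁅B', B'⁆ := by
      rw [Subgroup.map_commutator, hB]
    have hcl' : ⁅⁅B'.comap ι, B'.comap ι⁆, B'.comap ι⁆ = ⊥ := by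
      rw [← Subgroup.map_eq_bot_iff_of_injective _ hι, Subgroup.map_commutator, hcomm, hB, hcl]
    have hex' : ∃ A ∈ 𝒜, ⁅B'.comap ι, B'.comap ι⁆ ≤ A ∧ ¬ B'.comap ι ≤ A := by
      obtain ⟨_, ⟨A, hA, rfl⟩, h1, h2⟩ := hex
      refine ⟨A, hA, ?_, ?_⟩
      · rw [← Subgroup.map_le_map_iff_of_injective hι, hcomm]
        exact h1
      · intro h
        apply h2
        rw [← hB]
        exact Subgroup.map_mono h
    obtain ⟨A, hA, h1, h2, h3⟩ := hfam.rep _ hcl' hex'
    refine ⟨A.map ι, ⟨A, hA, rfl⟩, ?_, ?_, ?_⟩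
    · rw [← hcomm]
      exact Subgroup.map_mono h1
    · intro h
      apply h2
      rw [← Subgroup.map_le_map_iff_of_injective hι, hB]
      exact h
    · rw [← hB]
      exact (Subgroup.map_mono h3).trans (Subgroup.le_normalizer_map _)

end Transport

/-! ### The main theorem -/

/-- **The axiomatic criterion**: under the hypotheses above, `G = ι(P)`. -/
theorem range_eq_top {p : ℕ} [Fact p.Prime] (hp2 : p ≠ 2) {𝒜 : Set (Subgroup P)} (hfam : FamP 𝒜) :
    ∀ (n : ℕ) (G : Type u) [Group G] [Finite G], Nat.card G = n → ∀ ι : P →* G, Function.Injective ι →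
      (∃ T : Sylow p G, (T : Subgroup G) = ι.range) → InvIn ι 𝒜 → CStr p G →
      HasNPC p ↥(Subgroup.normalizer ((((Iof 𝒜 ⊤).map ι : Subgroup G)) : Set G)) → ι.range = ⊤ := by
  intro n
  induction n using Nat.strong_induction_on with
  | _ n IH =>
  intro G _ _ hn ι hι hT hinv hstr hnpc
  obtain ⟨T, hT⟩ := hT
  subst hn
  -- proper subgroups containing the Sylow subgroup
  have hprop : ∀ H : Subgroup G, ι.range ≤ H → H ≠ ⊤ → H = ι.range := by
    intro H hTH hHne
    have hlt : Nat.card H < Nat.card G := by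
      have h1 : H < ⊤ := lt_top_iff_ne_top.2 hHne
      have := card_lt_of_lt h1
      rwa [Subgroup.card_top] at this
    set ι' : P →* ↥H := ι.codRestrict H (fun x => hTH ⟨x, rfl⟩) with hι'
    have hι'inj : Function.Injective ι' := by
      intro x y hxy
      apply hι
      have := congrArg Subtype.val hxy
      exact this
    have hmap : ∀ R : Subgroup P, (R.map ι').map H.subtype = R.map ι := by
      intro R
      rw [Subgroup.map_map]
      rfl
    have hTH' : (T : Subgroup G) ≤ H := hT ▸ hTH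
    have hsyl : ∃ T' : Sylow p ↥H, (T' : Subgroup ↥H) = ι'.range := by
      refine ⟨T.subtype hTH', ?_⟩
      rw [Sylow.coe_subtype, hT]
      ext x
      rw [Subgroup.mem_subgroupOf]
      constructor
      · rintro ⟨y, hy⟩
        exact ⟨y, Subtype.ext hy⟩
      · rintro ⟨y, rfl⟩
        exact ⟨y, rfl⟩
    have hinv' : InvIn ι' 𝒜 := by
      intro R hex g hg x hx
      have hg' : (g : G) ∈ Subgroup.normalizer ((R.map ι : Subgroup G) : Set G) := by
        rw [← hmap R]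
        exact Subgroup.le_normalizer_map H.subtype ⟨g, hg, rfl⟩
      obtain ⟨y, hy, hyx⟩ := hinv R hex (g : G) hg' x hx
      exact ⟨y, hy, Subtype.ext hyx⟩
    have hnpc' : HasNPC p ↥(Subgroup.normalizer ((((Iof 𝒜 ⊤).map ι' : Subgroup ↥H)) : Set ↥H)) := by
      apply hasNPC_normalizer_of_map
      rw [hmap]
      exact hnpc
    have h1 := IH _ hlt ↥H rfl ι' hι'inj hsyl hinv' (hstr.subgroup T H hTH') hnpc'
    apply le_antisymm _ hTH
    intro h hh
    have h2 : (⟨h, hh⟩ : ↥H) ∈ ι'.range := by rw [h1]; exact Subgroup.mem_top _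
    obtain ⟨x, hx⟩ := h2
    exact ⟨x, congrArg Subtype.val hx⟩
  by_contra hne
  have hcoatom : IsCoatom (T : Subgroup G) := by
    refine ⟨hT ▸ hne, fun H hTH => ?_⟩
    by_contra hH
    have := hprop H (hT ▸ hTH.le) hH
    rw [this, ← hT] at hTH
    exact lt_irrefl _ hTH
  have hst : ∀ B : Subgroup G, B.Normal → IsPGroup p B → StableOn p (T : Subgroup G) B :=
    fun B hBn hBp =>
      Cfsg.Agent.Lib.Helper11_NPCStable.stableOn_of_npc_coatom hp2 hstr.hasNPC_quotient T hcoatom B hBn hBp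
  have hax : AxFam (T : Subgroup G) ((fun A : Subgroup P => A.map ι) '' 𝒜) := by
    rw [hT]
    exact axFam_map hι hfam hinv
  have hZn := Iof_normal T hax hstr.centralizer_pCore_le hst
  have hZ : Iof ((fun A : Subgroup P => A.map ι) '' 𝒜) (T : Subgroup G) = (Iof 𝒜 ⊤).map ι := by
    obtain ⟨A, hA⟩ := hfam.ne
    rw [hT, MonoidHom.range_eq_map]
    exact iof_map hι ⊤ ⟨A, hA, le_top⟩
  rw [hZ] at hZn
  have htop : Subgroup.normalizer ((((Iof 𝒜 ⊤).map ι : Subgroup G)) : Set G) = ⊤ := by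
    have := hZn
    exact Subgroup.normalizer_eq_top _
  have hG : HasNPC p G := hasNPC_top_iff.1 (hasNPC_of_eq htop hnpc)
  have hGp : IsPGroup p G := hstr.isPGroup_of_hasNPC hG
  have hTtop : (⊤ : Subgroup G) = (T : Subgroup G) :=
    T.is_maximal' (hGp.to_subgroup ⊤) le_top
  exact hne (hT ▸ hTtop.symm)

end Cfsg.Agent.Lib.Helper87_AxNPC
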