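import Cfsg.Agent.Lib.Helper11_ZJ

/-!
# An axiomatic form of Glauberman's ZJ-theorem (helper87)

`𝒜` is a nonempty family of abelian subgroups of the Sylow `p`-subgroup `S` of `G`; for `R ≤ S` the subgroup
`Iof 𝒜 R` is the intersection of the members of `𝒜` inside `R`.  Assume invariance (`N_G(R)` normalizes `Iof 𝒜 R`
whenever `R` contains a member) and replacement (a subgroup `B ≤ S` of class at most two with `[B,B]` inside a member
not containing `B` normalizes such a member).  If `C_G(O_p(G)) ≤ O_p(G)` and `G` acts `p`-stably on its normal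
`p`-subgroups (in the sense of `Helper11_ZJ.StableOn`), then `Iof 𝒜 S` is normal in `G`.  The proof follows
`Helper11_ZJ.inf_normal`.
-/

set_option autoImplicit false

namespace Cfsg.Agent.Lib.Helper87_AxZJ

open Cfsg Cfsg.Agent.Lib.Helper11_ZJ

variable {G : Type*} [Group G]

/-- The intersection of the members of the family inside `R`. -/
def Iof (𝒜 : Set (Subgroup G)) (R : Subgroup G) : Subgroup G := sInf {A | A ∈ 𝒜 ∧ A ≤ R}

theorem Iof_le_of_mem {𝒜 : Set (Subgroup G)} {R A : Subgroup G} (hA : A ∈ 𝒜) (hAR : A ≤ R) :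
    Iof 𝒜 R ≤ A := sInf_le ⟨hA, hAR⟩

theorem Iof_anti (𝒜 : Set (Subgroup G)) {R R' : Subgroup G} (h : R' ≤ R) : Iof 𝒜 R ≤ Iof 𝒜 R' := by
  apply le_sInf
  rintro A ⟨hA, hAR'⟩
  exact sInf_le ⟨hA, hAR'.trans h⟩

theorem le_Iof_iff {𝒜 : Set (Subgroup G)} {R B : Subgroup G} :
    B ≤ Iof 𝒜 R ↔ ∀ A ∈ 𝒜, A ≤ R → B ≤ A := by
  unfold Iof
  rw [le_sInf_iff]
  exact ⟨fun h A hA hAR => h A ⟨hA, hAR⟩, fun h A hA => h A hA.1 hA.2⟩

/-- The axioms on the family. -/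
structure AxFam (S : Subgroup G) (𝒜 : Set (Subgroup G)) : Prop where
  le : ∀ A ∈ 𝒜, A ≤ S
  comm : ∀ A ∈ 𝒜, ∀ x ∈ A, ∀ y ∈ A, x * y = y * x
  ne : 𝒜.Nonempty
  inv : ∀ R : Subgroup G, R ≤ S → (∃ A ∈ 𝒜, A ≤ R) → ∀ g ∈ Subgroup.normalizer (R : Set G),
    ∀ x ∈ Iof 𝒜 R, g * x * g⁻¹ ∈ Iof 𝒜 R
  rep : ∀ B : Subgroup G, B ≤ S → ⁅⁅B, B⁆, B⁆ = ⊥ → (∃ A ∈ 𝒜, ⁅B, B⁆ ≤ A ∧ ¬ B ≤ A) →
    ∃ A ∈ 𝒜, ⁅B, B⁆ ≤ A ∧ ¬ B ≤ A ∧ B ≤ Subgroup.normalizer (A : Set G)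

/-- The key claim: `Iof 𝒜 S ∩ B` is normal in `G` for every normal `p`-subgroup `B`. -/
theorem inf_normal [Finite G] {p : ℕ} [Fact p.Prime] {𝒜 : Set (Subgroup G)} (S : Sylow p G)
    (h𝒜 : AxFam (S : Subgroup G) 𝒜)
    (hst : ∀ B : Subgroup G, B.Normal → IsPGroup p B → StableOn p (S : Subgroup G) B) :
    ∀ (n : ℕ) (B : Subgroup G), B.Normal → IsPGroup p B → Nat.card B ≤ n →
      (Iof 𝒜 (S : Subgroup G) ⊓ B).Normal := by
  intro n
  induction n with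
  | zero =>
    intro B _ _ hcard
    exfalso
    have : 0 < Nat.card B := Nat.card_pos
    omega
  | succ n ih =>
    intro B hBn hBp hcard
    set Z := Iof 𝒜 (S : Subgroup G) with hZ
    have hBS : B ≤ (S : Subgroup G) :=
      (Cfsg.Agent.Lib.Helper1_Cores.le_pCore hBn hBp).trans
        (Cfsg.Agent.Lib.Helper1_Cores.pCore_le_sylow p S)
    obtain ⟨A₁, hA₁⟩ := h𝒜.ne
    have hZc : ∀ x ∈ Z, ∀ y ∈ Z, x * y = y * x := by
      intro x hx y hy
      exact h𝒜.comm A₁ hA₁ x (Iof_le_of_mem hA₁ (h𝒜.le A₁ hA₁) hx) y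
        (Iof_le_of_mem hA₁ (h𝒜.le A₁ hA₁) hy)
    have hSZ : ∀ s ∈ (S : Subgroup G), ∀ z ∈ Z, s * z * s⁻¹ ∈ Z := fun s hs z hz =>
      h𝒜.inv _ le_rfl ⟨A₁, hA₁, h𝒜.le A₁ hA₁⟩ s (Subgroup.le_normalizer hs) z hz
    have hSZ₁ : ∀ s ∈ (S : Subgroup G), ∀ z ∈ Z ⊓ B, s * z * s⁻¹ ∈ Z ⊓ B := fun s hs z hz =>
      ⟨hSZ s hs z hz.1, hBn.conj_mem z hz.2 s⟩
    have hB₁B : Subgroup.normalClosure ((Z ⊓ B : Subgroup G) : Set G) ≤ B :=
      Subgroup.normalClosure_le_normal (fun z hz => (hz : z ∈ Z ⊓ B).2)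
    have hZ₁B₁ : Z ⊓ B ≤ Subgroup.normalClosure ((Z ⊓ B : Subgroup G) : Set G) :=
      Subgroup.le_normalClosure
    by_cases hlt : Subgroup.normalClosure ((Z ⊓ B : Subgroup G) : Set G) = B
    swap
    · have hcard₁ : Nat.card (Subgroup.normalClosure ((Z ⊓ B : Subgroup G) : Set G)) ≤ n := by
        have := card_lt_of_lt (lt_of_le_of_ne hB₁B hlt)
        omega
      have h1 := ih _ Subgroup.normalClosure_normal (hBp.to_le hB₁B) hcard₁
      have h2 : Z ⊓ Subgroup.normalClosure ((Z ⊓ B : Subgroup G) : Set G) = Z ⊓ B :=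
        le_antisymm (inf_le_inf_left _ hB₁B) (le_inf inf_le_left hZ₁B₁)
      rwa [h2] at h1
    · by_cases hBbot : B = ⊥
      · rw [hBbot, inf_bot_eq]; infer_instance
      have hDlt : ⁅B, B⁆ < B := commutator_lt hBp hBbot
      have hDcard : Nat.card (⁅B, B⁆ : Subgroup G) ≤ n := by
        have := card_lt_of_lt hDlt
        omega
      have hD := ih ⁅B, B⁆ inferInstance (hBp.to_le hDlt.le) hDcard
      obtain ⟨hDZ, hcl2⟩ := class_two_aux hZc (fun b hb => hSZ₁ b (hBS hb)) hlt hD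
      obtain ⟨L, hLn, hCL, hidx, hquad⟩ := hst B hBn hBp
      have hlem3 : ∀ A ∈ 𝒜, B ≤ Subgroup.normalizer (A : Set G) → A ≤ L := by
        intro A hA hBA a ha
        exact hquad a (h𝒜.le A hA ha) (quadratic_of_normalizes (h𝒜.comm A hA) hBA ha)
      have h6 : ∀ A ∈ 𝒜, B ≤ A := by
        intro A₂ hA₂
        by_contra hBA₂
        obtain ⟨A, hA, -, hnBA, hBA⟩ := h𝒜.rep B hBS hcl2
          ⟨A₂, hA₂, hDZ.trans (Iof_le_of_mem hA₂ (h𝒜.le A₂ hA₂)), hBA₂⟩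
        apply hnBA
        have hAR : A ≤ (S : Subgroup G) ⊓ L := le_inf (h𝒜.le A hA) (hlem3 A hA hBA)
        have hZX : Z ≤ Iof 𝒜 ((S : Subgroup G) ⊓ L) := Iof_anti 𝒜 inf_le_left
        have hXB : (Iof 𝒜 ((S : Subgroup G) ⊓ L) ⊓ B).Normal := by
          apply normal_of_conj_mem
          intro g x hx
          have : (Subgroup.centralizer (B : Set G)).Normal := Subgroup.normal_centralizer
          obtain ⟨c, hc, m, hm, rfl⟩ :=
            exists_mul_normalizer S (Subgroup.centralizer (B : Set G)) L hCL hidx g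
          have h1 : m * x * m⁻¹ ∈ Iof 𝒜 ((S : Subgroup G) ⊓ L) ⊓ B :=
            ⟨h𝒜.inv _ inf_le_left ⟨A, hA, hAR⟩ m hm x hx.1, hBn.conj_mem x hx.2 m⟩
          have h2 : c * (m * x * m⁻¹) * c⁻¹ = m * x * m⁻¹ := by
            have := Subgroup.mem_centralizer_iff.mp hc _ h1.2
            rw [← this, mul_inv_cancel_right]
          have h3 : c * m * x * (c * m)⁻¹ = c * (m * x * m⁻¹) * c⁻¹ := by group
          rw [h3, h2]
          exact h1
        have h1 : Subgroup.normalClosure ((Z ⊓ B : Subgroup G) : Set G) ≤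
            Iof 𝒜 ((S : Subgroup G) ⊓ L) ⊓ B :=
          Subgroup.normalClosure_le_normal (fun z hz =>
            ⟨hZX (hz : z ∈ Z ⊓ B).1, (hz : z ∈ Z ⊓ B).2⟩)
        rw [hlt] at h1
        exact (h1.trans inf_le_left).trans (Iof_le_of_mem hA hAR)
      have hBZ : B ≤ Z := le_Iof_iff.2 (fun A hA _ => h6 A hA)
      rw [inf_of_le_right hBZ]
      exact hBn

/-- **Axiomatic ZJ-theorem**: `Iof 𝒜 S` is normal in `G`. -/
theorem Iof_normal [Finite G] {p : ℕ} [Fact p.Prime] {𝒜 : Set (Subgroup G)} (S : Sylow p G)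
    (h𝒜 : AxFam (S : Subgroup G) 𝒜)
    (hc : Subgroup.centralizer (pCore p G : Set G) ≤ pCore p G)
    (hst : ∀ B : Subgroup G, B.Normal → IsPGroup p B → StableOn p (S : Subgroup G) B) :
    (Iof 𝒜 (S : Subgroup G)).Normal := by
  have hQn : (pCore p G).Normal := Cfsg.Agent.Lib.Helper1_Cores.pCore_normal p
  have hQp : IsPGroup p (pCore p G) := Cfsg.Agent.Lib.Helper1_Cores.pCore_isPGroup p
  have hQS : pCore p G ≤ (S : Subgroup G) := Cfsg.Agent.Lib.Helper1_Cores.pCore_le_sylow p S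
  set Z := Iof 𝒜 (S : Subgroup G) with hZ
  obtain ⟨A₁, hA₁⟩ := h𝒜.ne
  have hZS : Z ≤ (S : Subgroup G) := (Iof_le_of_mem hA₁ (h𝒜.le A₁ hA₁)).trans (h𝒜.le A₁ hA₁)
  have hZc : ∀ x ∈ Z, ∀ y ∈ Z, x * y = y * x := by
    intro x hx y hy
    exact h𝒜.comm A₁ hA₁ x (Iof_le_of_mem hA₁ (h𝒜.le A₁ hA₁) hx) y
      (Iof_le_of_mem hA₁ (h𝒜.le A₁ hA₁) hy)
  have hSZ : ∀ s ∈ (S : Subgroup G), ∀ z ∈ Z, s * z * s⁻¹ ∈ Z := fun s hs z hz =>
    h𝒜.inv _ le_rfl ⟨A₁, hA₁, h𝒜.le A₁ hA₁⟩ s (Subgroup.le_normalizer hs) z hz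
  -- `Z ≤ O_p(G)`
  have hZQ : Z ≤ pCore p G := by
    obtain ⟨L, hLn, hCL, ⟨k, hk⟩, hquad⟩ := hst (pCore p G) hQn hQp
    have hLp : IsPGroup p L := by
      obtain ⟨j, hj⟩ := IsPGroup.iff_card.mp (hQp.to_le hc)
      apply IsPGroup.of_card (n := j + k)
      rw [← Cfsg.Agent.S0608.card_mul_relIndex' hCL, hj, hk, pow_add]
    have hLQ : L ≤ pCore p G := Cfsg.Agent.Lib.Helper1_Cores.le_pCore hLn hLp
    intro z hz
    apply hLQ
    apply hquad z (hZS hz)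
    have hzZ : Subgroup.zpowers z ≤ Z := by
      rw [Subgroup.zpowers_le]; exact hz
    have h1 : ⁅pCore p G, Subgroup.zpowers z⁆ ≤ Z := by
      rw [Subgroup.commutator_le]
      intro q hq x hx
      have h2 := hSZ q (hQS hq) x (hzZ hx)
      rw [commutatorElement_def]
      exact Subgroup.mul_mem _ h2 (Subgroup.inv_mem _ (hzZ hx))
    rw [eq_bot_iff]
    refine (Subgroup.commutator_mono h1 hzZ).trans ?_
    rw [Subgroup.commutator_le]
    intro x hx y hy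
    rw [Subgroup.mem_bot, commutatorElement_def, hZc x hx y hy]
    group
  have h := inf_normal S h𝒜 hst (Nat.card (pCore p G)) (pCore p G) hQn hQp le_rfl
  rwa [inf_of_le_left hZQ] at h

end Cfsg.Agent.Lib.Helper87_AxZJ
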