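import Cfsg.Agent.Lib.Helper87_Alperin2

set_option autoImplicit false

namespace Cfsg.Agent.Lib.Helper87_Conj

open Cfsg Cfsg.FusionSystem Cfsg.Agent.Lib.Helper87_Alperin Cfsg.Agent.Lib.Helper87_Alperin2

/-! ### The `p`-core of a subgroup, viewed in the ambient group, under isomorphisms -/

/-- The `p`-core of a subgroup `K` (viewed inside the ambient group) is carried into the `p`-core of the image of
`K` by an isomorphism of the ambient groups. -/
theorem pCoreIn_map_le {G G' : Type*} [Group G] [Group G'] {p : ℕ} [Fact p.Prime] (Ψ : G ≃* G')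
    (K : Subgroup G) (K' : Subgroup G') (h : K.map Ψ.toMonoidHom = K') :
    ((pCore p K).map K.subtype).map Ψ.toMonoidHom ≤ (pCore p K').map K'.subtype := by
  have hOK : (pCore p K).map K.subtype ≤ K := by
    rintro _ ⟨x, -, rfl⟩
    exact x.2
  have hO'K' : ((pCore p K).map K.subtype).map Ψ.toMonoidHom ≤ K' := by
    rw [← h]
    exact Subgroup.map_mono hOK
  have hN : ((((pCore p K).map K.subtype).map Ψ.toMonoidHom).subgroupOf K').Normal := by
    constructor
    rintro ⟨n', hn'K⟩ hn' ⟨k', hk'⟩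
    rw [Subgroup.mem_subgroupOf] at hn' ⊢
    obtain ⟨n, ⟨n₀, hn₀, rfl⟩, hn⟩ := hn'
    have hk'' : k' ∈ K.map Ψ.toMonoidHom := by rw [h]; exact hk'
    obtain ⟨k, hk, rfl⟩ := hk''
    have hconj := (pCore_normal' (G := K) p).conj_mem n₀ hn₀ ⟨k, hk⟩
    refine ⟨k * (n₀ : G) * k⁻¹, ⟨_, hconj, rfl⟩, ?_⟩
    simp only [map_mul, map_inv]
    simp only [MulEquiv.coe_toMonoidHom] at hn ⊢
    show Ψ k * Ψ (K.subtype n₀) * (Ψ k)⁻¹ = Ψ k * n' * (Ψ k)⁻¹
    rw [hn]
  have hp : IsPGroup p ((((pCore p K).map K.subtype).map Ψ.toMonoidHom).subgroupOf K') :=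
    (((pCore_isPGroup' (G := K) p).map K.subtype).map Ψ.toMonoidHom).comap_subtype
  have hle := le_pCore' hN hp
  intro x hx
  exact ⟨⟨x, hO'K' hx⟩, hle (Subgroup.mem_subgroupOf.2 hx), rfl⟩

variable {Ω : Type*} [Group Ω] {S : Subgroup Ω}

/-! ### Conjugate subgroups have isomorphic automorphism groups -/

/-- Transport of `Aut_F(P)` to `Aut_F(R)` along an isomorphism `e : P ≃* R` of the system. -/
theorem congr_mem_autGroup (F : FusionSystem S) {P R : Subgroup Ω} {φ : P →* Ω} (hφ : φ ∈ F.Hom P)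
    (e : P ≃* R) (he : ∀ x : P, ((e x : R) : Ω) = φ x) {γ : MulAut P} (hγ : γ ∈ F.autGroup P) :
    MulAut.congr e γ ∈ F.autGroup R := by
  have hPS : P ≤ S := hom_le F hφ
  have hRS : R ≤ S := by
    intro y hy
    have := hom_mem F hφ (e.symm ⟨y, hy⟩)
    rw [← he, MulEquiv.apply_symm_apply] at this
    exact this
  have hf : IsMapOn F P (extHom φ) := isMapOn_extHom F hφ
  have hRiff : ∀ y, y ∈ R ↔ ∃ x ∈ P, extHom φ x = y := by
    intro y
    constructor
    · intro hy
      refine ⟨e.symm ⟨y, hy⟩, (e.symm ⟨y, hy⟩).2, ?_⟩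
      rw [extHom_coe, ← he, MulEquiv.apply_symm_apply]
    · rintro ⟨x, hx, rfl⟩
      rw [extHom_apply φ hx, ← he]
      exact (e ⟨x, hx⟩).2
  obtain ⟨finv, hfinv, hfinv1, hfinv2, hfinv3⟩ := hf.inv hRiff
  rw [mem_autGroup_iff F hRS]
  have hγmap : IsMapOn F P (extFun γ) := (mem_autGroup_iff F hPS γ).1 hγ
  have h1 : IsMapOn F R (extFun γ ∘ finv) := hfinv.comp hγmap hfinv2
  have h2 : IsMapOn F R (extHom φ ∘ (extFun γ ∘ finv)) :=
    h1.comp hf fun y hy => extFun_mem γ (hfinv2 y hy)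
  refine h2.congr fun y hy => ?_
  simp only [Function.comp_apply]
  rw [extFun_apply _ hy]
  have hy' : e.symm ⟨y, hy⟩ = ⟨finv y, hfinv2 y hy⟩ := by
    apply e.injective
    apply Subtype.ext
    rw [MulEquiv.apply_symm_apply, he, ← extHom_apply φ (hfinv2 y hy), hfinv3 y hy]
  simp only [MulAut.congr_apply, MulEquiv.trans_apply, hy']
  rw [he, extFun_apply γ (hfinv2 y hy), extHom_coe]

/-- The isomorphism `P ≃* φ(P)` given by a map of the system. -/
noncomputable def rangeEquiv (F : FusionSystem S) {P : Subgroup Ω} {φ : P →* Ω} (hφ : φ ∈ F.Hom P) :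
    P ≃* φ.range :=
  MonoidHom.ofInjective (F.injective_of_mem hφ)

theorem rangeEquiv_apply (F : FusionSystem S) {P : Subgroup Ω} {φ : P →* Ω} (hφ : φ ∈ F.Hom P) (x : P) :
    ((rangeEquiv F hφ x : φ.range) : Ω) = φ x := rfl

/-- The inverse of a map of the system, as a map of the system from the range, with its isomorphism. -/
theorem exists_inverse_hom (F : FusionSystem S) {P : Subgroup Ω} {φ : P →* Ω} (hφ : φ ∈ F.Hom P) :
    ∃ ψ ∈ F.Hom φ.range, ∀ y : φ.range, ψ y = (((rangeEquiv F hφ).symm y : P) : Ω) := by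
  obtain ⟨ψ, hψ, hψφ⟩ := F.inv_mem hφ
  refine ⟨ψ, hψ, fun y => ?_⟩
  obtain ⟨x, rfl⟩ := (rangeEquiv F hφ).surjective y
  rw [MulEquiv.symm_apply_apply]
  exact hψφ x

theorem inn_map_congr {P R : Type*} [Group P] [Group R] (e : P ≃* R) :
    (Inn P).map (MulAut.congr e).toMonoidHom = Inn R := by
  ext δ
  constructor
  · rintro ⟨_, ⟨g, rfl⟩, rfl⟩
    refine ⟨e g, ?_⟩
    ext y
    simp [MulAut.congr_apply, MulAut.conj_apply]
  · rintro ⟨g, rfl⟩
    refine ⟨MulAut.conj (e.symm g), ⟨_, rfl⟩, ?_⟩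
    ext y
    simp [MulAut.congr_apply, MulAut.conj_apply]

theorem autGroup_map_congr (F : FusionSystem S) {P : Subgroup Ω} {φ : P →* Ω} (hφ : φ ∈ F.Hom P) :
    (F.autGroup P).map (MulAut.congr (rangeEquiv F hφ)).toMonoidHom = F.autGroup φ.range := by
  apply le_antisymm
  · rintro _ ⟨γ, hγ, rfl⟩
    exact congr_mem_autGroup F hφ (rangeEquiv F hφ) (rangeEquiv_apply F hφ) hγ
  · intro δ hδ
    obtain ⟨ψ, hψ, hψe⟩ := exists_inverse_hom F hφ
    have h1 := congr_mem_autGroup F hψ (rangeEquiv F hφ).symm (fun y => (hψe y).symm) hδ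
    refine ⟨_, h1, ?_⟩
    ext y
    simp [MulAut.congr_apply]

/-- Being radical is invariant under conjugation in the system. -/
theorem isRadical_range (F : FusionSystem S) {p : ℕ} [Fact p.Prime] {P : Subgroup Ω} {φ : P →* Ω}
    (hφ : φ ∈ F.Hom P) (hrad : F.IsRadical p φ.range) : F.IsRadical p P := by
  refine ⟨hom_le F hφ, ?_⟩
  obtain ⟨ψ, hψ, hψe⟩ := exists_inverse_hom F hφ
  -- the inverse isomorphism and its action on automorphism groups
  have hmapK : (F.autGroup φ.range).map (MulAut.congr (rangeEquiv F hφ).symm).toMonoidHom =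
      F.autGroup P := by
    rw [← autGroup_map_congr F hφ, Subgroup.map_map]
    have : (MulAut.congr (rangeEquiv F hφ).symm).toMonoidHom.comp
        (MulAut.congr (rangeEquiv F hφ)).toMonoidHom = MonoidHom.id _ := by
      ext γ y
      simp [MulAut.congr_apply]
    rw [this, Subgroup.map_id]
  have hmapK' := autGroup_map_congr F hφ
  have h1 := pCoreIn_map_le (p := p) (MulAut.congr (rangeEquiv F hφ)) (F.autGroup P) (F.autGroup φ.range)
    hmapK'
  have h2 := pCoreIn_map_le (p := p) (MulAut.congr (rangeEquiv F hφ).symm) (F.autGroup φ.range)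
    (F.autGroup P) hmapK
  rw [hrad.2] at h1 h2
  rw [inn_map_congr] at h2
  apply le_antisymm
  · intro γ hγ
    have h3 : (MulAut.congr (rangeEquiv F hφ)) γ ∈ Inn ↥φ.range := h1 ⟨γ, hγ, rfl⟩
    rw [← inn_map_congr (rangeEquiv F hφ)] at h3
    obtain ⟨γ', hγ', hγγ'⟩ := h3
    have := (MulAut.congr (rangeEquiv F hφ)).injective hγγ'
    rw [← this]
    exact hγ'
  · exact h2

end Cfsg.Agent.Lib.Helper87_Conj
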