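import Cfsg.Agent.Lib.Helper87_Constrained

set_option autoImplicit false

/-!
# Constrained systems: elements acting trivially on `Y` and on `Q / Y` (helper87)

For `Q` normal in `F` and `Y ≤ Q` strongly closed, the subgroup `stabCent S Q Y` of elements of `S` centralizing `Y`
and `Q / Y` is strongly closed, `Q · stabCent S Q Y` is normal in `F` when `C_S(Q) ≤ Q`, and hence
`stabCent S (O_p(F)) Y ≤ O_p(F)` for a constrained system.
-/

namespace Cfsg.Agent.Lib.Helper87_Constrained2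

open Cfsg Cfsg.FusionSystem Cfsg.Agent.Lib Cfsg.Agent.Lib.Helper87_Alperin Cfsg.Agent.Lib.Helper87_Alperin2
  Cfsg.Agent.Lib.Helper87_Normal Cfsg.Agent.Lib.Helper87_Normal2 Cfsg.Agent.Lib.Helper87_Constrained

universe u

variable {Ω : Type u} [Group Ω] {S : Subgroup Ω}

/-- The elements of `S` that centralize `Y` and act trivially on `Q` modulo `Y`. -/
def stabCent (S Q Y : Subgroup Ω) : Subgroup Ω where
  carrier := {x | x ∈ S ∧ (∀ y ∈ Y, y * x = x * y) ∧ ∀ q ∈ Q, q⁻¹ * (x * q * x⁻¹) ∈ Y}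
  one_mem' := ⟨S.one_mem, fun y _ => by simp, fun q _ => by simp [Y.one_mem]⟩
  mul_mem' := by
    rintro a b ⟨haS, haY, haQ⟩ ⟨hbS, hbY, hbQ⟩
    refine ⟨S.mul_mem haS hbS, fun y hy => ?_, fun q hq => ?_⟩
    · rw [← mul_assoc, haY y hy, mul_assoc, hbY y hy, mul_assoc]
    · have h1 := haQ q hq
      have h2 := hbQ q hq
      have h3 : a * (q⁻¹ * (b * q * b⁻¹)) * a⁻¹ = q⁻¹ * (b * q * b⁻¹) := by
        rw [← haY _ h2]
        group
      have h4 : q⁻¹ * (a * b * q * (a * b)⁻¹) =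
          (q⁻¹ * (a * q * a⁻¹)) * (a * (q⁻¹ * (b * q * b⁻¹)) * a⁻¹) := by group
      rw [h4, h3]
      exact Y.mul_mem h1 h2
  inv_mem' := by
    rintro a ⟨haS, haY, haQ⟩
    refine ⟨S.inv_mem haS, fun y hy => ?_, fun q hq => ?_⟩
    · have := haY y hy
      calc y * a⁻¹ = a⁻¹ * (a * y) * a⁻¹ := by group
        _ = a⁻¹ * (y * a) * a⁻¹ := by rw [this]
        _ = a⁻¹ * y := by group
    · have h1 := haQ q hq
      -- `a⁻¹` centralizes `Y`
      have h2 : a⁻¹ * (q⁻¹ * (a * q * a⁻¹)) * a = q⁻¹ * (a * q * a⁻¹) := by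
        have := haY _ h1
        calc a⁻¹ * (q⁻¹ * (a * q * a⁻¹)) * a = a⁻¹ * ((q⁻¹ * (a * q * a⁻¹)) * a) := by group
          _ = a⁻¹ * (a * (q⁻¹ * (a * q * a⁻¹))) := by rw [this]
          _ = q⁻¹ * (a * q * a⁻¹) := by group
      have h3 : q⁻¹ * (a⁻¹ * q * a⁻¹⁻¹) = (a⁻¹ * (q⁻¹ * (a * q * a⁻¹)) * a)⁻¹ := by group
      rw [h3, h2]
      exact Y.inv_mem h1

theorem mem_stabCent {S Q Y : Subgroup Ω} {x : Ω} :
    x ∈ stabCent S Q Y ↔ x ∈ S ∧ (∀ y ∈ Y, y * x = x * y) ∧ ∀ q ∈ Q, q⁻¹ * (x * q * x⁻¹) ∈ Y :=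
  Iff.rfl

theorem stabCent_le (S Q Y : Subgroup Ω) : stabCent S Q Y ≤ S := fun _ hx => hx.1

/-- `stabCent S Q Y` is strongly closed when `Q` is normal and `Y ≤ Q` is strongly closed. -/
theorem stronglyClosed_stabCent [Finite S] {F : FusionSystem S} {Q Y : Subgroup Ω}
    (hQ : F.IsNormal Q) (hY : F.StronglyClosed Y) (hYQ : Y ≤ Q) : F.StronglyClosed (stabCent S Q Y) := by
  classical
  have hQsc : F.StronglyClosed Q := Cfsg.Agent.Lib.Helper84_FusionNormal.IsNormal.stronglyClosed hQ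
  have hQS : Q ≤ S := hQ.1
  have hfinQ : Finite Q := Finite.of_injective (Subgroup.inclusion hQS) (Subgroup.inclusion_injective _)
  refine ⟨stabCent_le S Q Y, fun P hP φ hφ x => ?_⟩
  obtain ⟨β, hβ⟩ := exists_aut_of_isNormal hQ (R := P ⊔ Q) (φ := (hQ.2 P φ hφ).choose)
    (hQ.2 P φ hφ).choose_spec.1
  obtain ⟨hψ, hext, himg⟩ := (hQ.2 P φ hφ).choose_spec
  set ψ := (hQ.2 P φ hφ).choose with hψdef
  have hψY : ∀ (y : Ω) (hy : y ∈ Y), ψ ⟨y, (le_sup_right : Q ≤ P ⊔ Q) (hYQ hy)⟩ ∈ Y := by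
    intro y hy
    have h3 := restrict_mem F hψ (inf_le_left : (P ⊔ Q) ⊓ Y ≤ P ⊔ Q)
    exact hY.2 _ inf_le_right _ h3 ⟨y, ⟨(le_sup_right : Q ≤ P ⊔ Q) (hYQ hy), hy⟩⟩
  have hβY : ∀ y : Q, (y : Ω) ∈ Y → ((β y : Q) : Ω) ∈ Y := by
    intro y hy
    have hy' : (y : Ω) ∈ P ⊔ Q := (le_sup_right : Q ≤ P ⊔ Q) y.2
    have h1 := hβ ⟨(y : Ω), hy'⟩ y.2
    have h2 := hψY (y : Ω) hy
    rw [h1] at h2
    exact h2
  have hsurjY : ∀ y : Q, (y : Ω) ∈ Y → ∃ y' : Q, (y' : Ω) ∈ Y ∧ β y' = y := by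
    let A : Set Q := {y | (y : Ω) ∈ Y}
    have hmaps : Set.MapsTo β A A := fun y hy => hβY y hy
    have hinjA : Set.InjOn β A := fun a _ b _ h => β.injective h
    have hbij : Set.BijOn β A A := ((Set.toFinite A).injOn_iff_bijOn_of_mapsTo hmaps).1 hinjA
    intro y hy
    obtain ⟨y', hy', hyy'⟩ := hbij.surjOn hy
    exact ⟨y', hy', hyy'⟩
  have hxP : (x : Ω) ∈ P ⊔ Q := (le_sup_left : P ≤ P ⊔ Q) x.2
  have h2 : φ x = ψ ⟨(x : Ω), hxP⟩ := (hext x).symm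
  obtain ⟨hxS, hxY, hxQ⟩ := hP x.2
  refine ⟨hom_mem F hφ x, fun y hy => ?_, fun q hq => ?_⟩
  · obtain ⟨y', hy'Y, hy'y⟩ := hsurjY ⟨y, hYQ hy⟩ hy
    have hy'PQ : (y' : Ω) ∈ P ⊔ Q := (le_sup_right : Q ≤ P ⊔ Q) y'.2
    have h1 : ψ ⟨(y' : Ω), hy'PQ⟩ = y := by
      rw [hβ ⟨(y' : Ω), hy'PQ⟩ y'.2]
      exact congrArg Subtype.val hy'y
    rw [h2, ← h1, ← map_mul, ← map_mul]
    congr 1
    apply Subtype.ext
    exact hxY (y' : Ω) hy'Y
  · -- `q = ψ q'`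
    obtain ⟨q', hq'⟩ := β.surjective ⟨q, hq⟩
    have hq'PQ : (q' : Ω) ∈ P ⊔ Q := (le_sup_right : Q ≤ P ⊔ Q) q'.2
    have h1 : ψ ⟨(q' : Ω), hq'PQ⟩ = q := by
      rw [hβ ⟨(q' : Ω), hq'PQ⟩ q'.2]
      exact congrArg Subtype.val hq'
    have hy0 : (q' : Ω)⁻¹ * ((x : Ω) * (q' : Ω) * (x : Ω)⁻¹) ∈ Y := hxQ (q' : Ω) q'.2
    have h3 := hψY _ hy0
    have h4 : ψ ⟨(q' : Ω)⁻¹ * ((x : Ω) * (q' : Ω) * (x : Ω)⁻¹),
        (le_sup_right : Q ≤ P ⊔ Q) (hYQ hy0)⟩ = q⁻¹ * (φ x * q * (φ x)⁻¹) := by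
      rw [h2, ← h1, ← map_inv, ← map_inv, ← map_mul, ← map_mul, ← map_mul]
      congr 1
    rw [← h4]
    exact h3

/-- If `Q` is normal in the saturated system `F` with `C_S(Q) ≤ Q`, and `Y ≤ Q` is strongly closed, then
`Q · stabCent S Q Y` is normal in `F`. -/
theorem isNormal_sup_stabCent [Finite S] {p : ℕ} [Fact p.Prime] (hS : IsPGroup p S)
    (F : FusionSystem S) (hF : F.IsSaturated p) {Q Y : Subgroup Ω} (hQ : F.IsNormal Q)
    (hcent : centralizerIn S Q ≤ Q) (hY : F.StronglyClosed Y) (hYQ : Y ≤ Q) :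
    F.IsNormal (Q ⊔ stabCent S Q Y) := by
  classical
  have hQsc : F.StronglyClosed Q := Cfsg.Agent.Lib.Helper84_FusionNormal.IsNormal.stronglyClosed hQ
  have hX : F.StronglyClosed (stabCent S Q Y) := stronglyClosed_stabCent hQ hY hYQ
  have hnormQ : S ≤ Subgroup.normalizer (Q : Set Ω) := stronglyClosed_le_normalizer hQsc
  rw [Cfsg.Agent.S5086.result p hS F hF]
  refine ⟨Cfsg.Agent.S5128.result p hS F hF _ _ hQsc hX, fun P hPc hPrad => ?_⟩
  have hPS : P ≤ S := hPc.1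
  have hQP : Q ≤ P := Cfsg.Agent.Lib.Helper84_FusionNormal.IsNormal.le_of_isCentric_of_isRadical hS hQ hPc hPrad
  refine sup_le hQP ?_
  by_contra hXP
  have hfinP : Finite P := Finite.of_injective (Subgroup.inclusion hPS) (Subgroup.inclusion_injective hPS)
  obtain ⟨x, hxX, hxN, hxP⟩ := exists_mem_normalizer_not_mem hS hPS hX.1
    (hPS.trans (stronglyClosed_le_normalizer hX)) hXP
  obtain ⟨hxS, hxY, hxQ⟩ := hxX
  let β : MulAut P := Subgroup.normalizerMonoidHom P ⟨x, hxN⟩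
  have hβ : ∀ y : P, ((β y : P) : Ω) = x * y * x⁻¹ := fun y => rfl
  have hβK : β ∈ F.autGroup P :=
    autInducedBy_le_autGroup F hPS ((mem_autInducedBy_iff S P β).2 ⟨x, hxS, hβ⟩)
  let U : ℕ → Subgroup Ω := fun j => if j = 0 then Y else Q
  let V : ℕ → Subgroup Ω := fun j => if j = 0 then ⊥ else Y
  have hU0 : U 0 = Y := if_pos rfl
  have hU1 : U 1 = Q := if_neg one_ne_zero
  have hV0 : V 0 = ⊥ := if_pos rfl
  have hV1 : V 1 = Y := if_neg one_ne_zero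
  have hcases : ∀ j < 2, j = 0 ∨ j = 1 := fun j hj => by omega
  have hinvU : ∀ j < 2, ∀ α ∈ F.autGroup P, ∀ y : P, (y : Ω) ∈ U j → ((α y : P) : Ω) ∈ U j := by
    intro j hj α hα y hy
    rcases hcases j hj with rfl | rfl
    · rw [hU0] at hy ⊢
      exact stronglyClosed_aut_mem hY hPS hα y hy
    · rw [hU1] at hy ⊢
      exact stronglyClosed_aut_mem hQsc hPS hα y hy
  have hinvV : ∀ j < 2, ∀ α ∈ F.autGroup P, ∀ y : P, (y : Ω) ∈ V j → ((α y : P) : Ω) ∈ V j := by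
    intro j hj α hα y hy
    rcases hcases j hj with rfl | rfl
    · rw [hV0] at hy ⊢
      rw [Subgroup.mem_bot] at hy ⊢
      have : y = 1 := Subtype.ext hy
      rw [this, map_one]
      rfl
    · rw [hV1] at hy ⊢
      exact stronglyClosed_aut_mem hY hPS hα y hy
  have htriv : ∀ α ∈ F.autGroup P, (orderOf α).Coprime p →
      (∀ j < 2, ∀ y : P, (y : Ω) ∈ U j → (y : Ω)⁻¹ * ((α y : P) : Ω) ∈ V j) → α = 1 := by
    intro α _ hαc hstab
    refine aut_eq_one_of_coprime_of_stabilizes hS hPS hQP hnormQ hcent α hαc (Y := Y) ?_ ?_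
    · intro y hy
      have := hstab 0 (by norm_num) y (by rw [hU0]; exact hy)
      rw [hV0, Subgroup.mem_bot, inv_mul_eq_one] at this
      exact (Subtype.ext this).symm
    · intro y hy
      have := hstab 1 (by norm_num) y (by rw [hU1]; exact hy)
      rwa [hV1] at this
  have hβstab : ∀ j < 2, ∀ y : P, (y : Ω) ∈ U j → (y : Ω)⁻¹ * ((β y : P) : Ω) ∈ V j := by
    intro j hj y hy
    rw [hβ]
    rcases hcases j hj with rfl | rfl
    · rw [hU0] at hy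
      rw [hV0, Subgroup.mem_bot, ← hxY (y : Ω) hy]
      group
    · rw [hU1] at hy
      rw [hV1]
      exact hxQ (y : Ω) hy
  have hβcore : β ∈ (pCore p (F.autGroup P)).map (F.autGroup P).subtype :=
    mem_pCore_of_stabilizes_pairs (F.autGroup P) U V 2 hinvU hinvV htriv β hβK hβstab
  exact hxP (mem_of_conj_mem_pCore hPc hPrad hxS β hβ hβcore)

/-- In a constrained system, the elements of `S` centralizing a strongly closed `Y ≤ O_p(F)` and `O_p(F) / Y` lie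
in `O_p(F)`. -/
theorem stabCent_core_le [Finite S] {p : ℕ} [Fact p.Prime] (hS : IsPGroup p S)
    {F : FusionSystem S} (hFc : F.IsConstrained p) {Y : Subgroup Ω} (hY : F.StronglyClosed Y)
    (hYQ : Y ≤ F.core) : stabCent S F.core Y ≤ F.core := by
  have hQn : F.IsNormal F.core := Cfsg.Agent.Lib.Helper85_Fusion.isNormal_core F
  have hD := isNormal_sup_stabCent hS F hFc.1 hQn (centralizerIn_core_le hFc) hY hYQ
  exact le_sup_right.trans (le_sSup hD)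

end Cfsg.Agent.Lib.Helper87_Constrained2
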