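import Cfsg.Agent.Lib.Helper87_PowAct
import Cfsg.Agent.Lib.Helper87_Normal
import Cfsg.Agent.Lib.Helper87_AutSystem

/-!
Chains of strongly closed subgroups with cyclic steps (helper87): the automorphism groups `Aut_F(P)` act on
each step through an abelian group of exponent dividing `(p - 1) p ^ e`, so commutators and suitable powers of
elements of `Aut_F(P)` stabilize the chain.
-/

set_option autoImplicit false
set_option linter.style.haveILetI false
open scoped commutatorElement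

universe u

namespace Cfsg.Agent.Lib.Helper87_CyclicChain

open Cfsg Cfsg.FusionSystem Cfsg.Agent.Lib.Helper87_Alperin Cfsg.Agent.Lib.Helper87_Alperin2
  Cfsg.Agent.Lib.Helper87_Normal Cfsg.Agent.Lib.Helper87_PowAct

variable {Ω : Type u} [Group Ω] {S : Subgroup Ω}

/-- The section `B / A` of a cyclic step between strongly closed subgroups, seen from a subgroup `P` of `S`. -/
theorem exists_section {F : FusionSystem S} {A B : Subgroup Ω} (hA : F.StronglyClosed A)
    (hB : F.StronglyClosed B) {x : Ω} (hx : x ∈ S) (hAB : B = A ⊔ Subgroup.zpowers x)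
    {P : Subgroup Ω} (hPS : P ≤ S) :
    ∃ (Q : Type u) (_ : Group Q) (θ : P →* Q) (t : Q),
      (∀ y : P, θ y = 1 ↔ (y : Ω) ∈ A) ∧ (∀ y ∈ B.subgroupOf P, θ y ∈ Subgroup.zpowers t) ∧
        ∀ κ ∈ F.autGroup P, Pres θ (B.subgroupOf P) κ.toMonoidHom := by
  haveI hN : (A.subgroupOf S).Normal :=
    Subgroup.normal_subgroupOf_of_le_normalizer (stronglyClosed_le_normalizer hA)
  have h1 : ∀ y : P, ((QuotientGroup.mk' (A.subgroupOf S)).comp (Subgroup.inclusion hPS)) y = 1 ↔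
      (y : Ω) ∈ A := by
    intro y
    rw [MonoidHom.comp_apply, QuotientGroup.mk'_apply, QuotientGroup.eq_one_iff, Subgroup.mem_subgroupOf]
    rfl
  refine ⟨S ⧸ A.subgroupOf S, inferInstance,
    (QuotientGroup.mk' (A.subgroupOf S)).comp (Subgroup.inclusion hPS),
    QuotientGroup.mk' (A.subgroupOf S) ⟨x, hx⟩, h1, ?_, ?_⟩
  · -- the image of `B` is cyclic
    have hle : B ≤ ((Subgroup.zpowers (QuotientGroup.mk' (A.subgroupOf S) ⟨x, hx⟩)).comap
        (QuotientGroup.mk' (A.subgroupOf S))).map S.subtype := by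
      rw [hAB]
      refine sup_le ?_ ?_
      · intro a ha
        refine ⟨⟨a, hA.1 ha⟩, ?_, rfl⟩
        rw [SetLike.mem_coe, Subgroup.mem_comap]
        have : QuotientGroup.mk' (A.subgroupOf S) ⟨a, hA.1 ha⟩ = 1 := by
          rw [QuotientGroup.mk'_apply, QuotientGroup.eq_one_iff, Subgroup.mem_subgroupOf]
          exact ha
        rw [this]
        exact Subgroup.one_mem _
      · rw [Subgroup.zpowers_le]
        refine ⟨⟨x, hx⟩, ?_, rfl⟩
        rw [SetLike.mem_coe, Subgroup.mem_comap]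
        exact Subgroup.mem_zpowers _
    intro y hy
    rw [Subgroup.mem_subgroupOf] at hy
    obtain ⟨s, hs, hsy⟩ := hle hy
    rw [SetLike.mem_coe, Subgroup.mem_comap] at hs
    have : Subgroup.inclusion hPS y = s := Subtype.ext hsy.symm
    rw [MonoidHom.comp_apply, this]
    exact hs
  · intro κ hκ
    refine ⟨fun y hy => ?_, fun y _ hy1 => ?_⟩
    · rw [Subgroup.mem_subgroupOf] at hy ⊢
      exact stronglyClosed_aut_mem hB hPS hκ y hy
    · rw [h1] at hy1 ⊢
      exact stronglyClosed_aut_mem hA hPS hκ y hy1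

/-- Commutators in `Aut_F(P)` act trivially on a cyclic step between strongly closed subgroups. -/
theorem step_comm {F : FusionSystem S} {A B : Subgroup Ω} (hA : F.StronglyClosed A)
    (hB : F.StronglyClosed B) {x : Ω} (hx : x ∈ S) (hAB : B = A ⊔ Subgroup.zpowers x)
    {P : Subgroup Ω} (hPS : P ≤ S) {κ τ : MulAut P} (hκ : κ ∈ F.autGroup P) (hτ : τ ∈ F.autGroup P)
    (y : P) (hy : (y : Ω) ∈ B) : (y : Ω)⁻¹ * ((⁅κ, τ⁆ y : P) : Ω) ∈ A := by
  obtain ⟨Q, instQ, θ, t, h1, h2, h3⟩ := exists_section hA hB hx hAB hPS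
  have h4 := commutator_mod t h2 κ τ (h3 κ hκ) (h3 τ hτ) (h3 _ ((F.autGroup P).inv_mem hκ))
    (h3 _ ((F.autGroup P).inv_mem hτ)) y (Subgroup.mem_subgroupOf.2 hy)
  have h5 : θ (y⁻¹ * ⁅κ, τ⁆ y) = 1 := by
    rw [map_mul, map_inv, h4, inv_mul_cancel]
  exact (h1 _).1 h5

/-- A suitable power of an element of `Aut_F(P)` acts trivially on a cyclic step between strongly closed
subgroups. -/
theorem step_pow {F : FusionSystem S} [Finite S] {A B : Subgroup Ω} (hA : F.StronglyClosed A)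
    (hB : F.StronglyClosed B) {x : Ω} (hx : x ∈ S) (hAB : B = A ⊔ Subgroup.zpowers x)
    {P : Subgroup Ω} (hPS : P ≤ S) (p : ℕ) [Fact p.Prime] (e : ℕ) (hcard : Nat.card S = p ^ e)
    {κ : MulAut P} (hκ : κ ∈ F.autGroup P)
    (y : P) (hy : (y : Ω) ∈ B) : (y : Ω)⁻¹ * (((κ ^ ((p - 1) * p ^ e)) y : P) : Ω) ∈ A := by
  obtain ⟨Q, instQ, θ, t, h1, h2, h3⟩ := exists_section hA hB hx hAB hPS
  have hexp : ∀ y ∈ B.subgroupOf P, θ y ^ (p ^ e) = 1 := by
    intro y _
    have h6 : (Subgroup.inclusion hPS y) ^ (p ^ e) = 1 := by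
      rw [← hcard]
      exact pow_card_eq_one'
    have h7 : y ^ (p ^ e) = 1 := by
      apply Subgroup.inclusion_injective hPS
      rw [map_pow, h6, map_one]
    rw [← map_pow, h7, map_one]
  have h4 := pow_mod t h2 p e hexp κ (h3 κ hκ) (h3 _ ((F.autGroup P).inv_mem hκ)) y
    (Subgroup.mem_subgroupOf.2 hy)
  have h5 : θ (y⁻¹ * (κ ^ ((p - 1) * p ^ e)) y) = 1 := by
    rw [map_mul, map_inv, h4, inv_mul_cancel]
  exact (h1 _).1 h5

/-! ### Chains -/

/-- `β` stabilizes the chain `c`. -/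
def StabFin {m : ℕ} (c : Fin (m + 1) → Subgroup Ω) {P : Subgroup Ω} (β : MulAut P) : Prop :=
  ∀ i : Fin m, ∀ y : P, (y : Ω) ∈ c i.succ → (y : Ω)⁻¹ * ((β y : P) : Ω) ∈ c i.castSucc

theorem stabFin_comm {F : FusionSystem S} {m : ℕ} {c : Fin (m + 1) → Subgroup Ω}
    (hsc : ∀ i : Fin (m + 1), F.StronglyClosed (c i))
    (hstep : ∀ i : Fin m, c i.castSucc ≤ c i.succ ∧
      ∃ x ∈ S, c i.succ = c i.castSucc ⊔ Subgroup.zpowers x)
    {P : Subgroup Ω} (hPS : P ≤ S) {κ τ : MulAut P} (hκ : κ ∈ F.autGroup P) (hτ : τ ∈ F.autGroup P) :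
    StabFin c ⁅κ, τ⁆ := by
  intro i y hy
  obtain ⟨-, x, hx, hAB⟩ := hstep i
  exact step_comm (hsc _) (hsc _) hx hAB hPS hκ hτ y hy

theorem stabFin_pow {F : FusionSystem S} [Finite S] {m : ℕ} {c : Fin (m + 1) → Subgroup Ω}
    (hsc : ∀ i : Fin (m + 1), F.StronglyClosed (c i))
    (hstep : ∀ i : Fin m, c i.castSucc ≤ c i.succ ∧
      ∃ x ∈ S, c i.succ = c i.castSucc ⊔ Subgroup.zpowers x)
    {P : Subgroup Ω} (hPS : P ≤ S) (p : ℕ) [Fact p.Prime] (e : ℕ) (hcard : Nat.card S = p ^ e)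
    {κ : MulAut P} (hκ : κ ∈ F.autGroup P) :
    StabFin c (κ ^ ((p - 1) * p ^ e)) := by
  intro i y hy
  obtain ⟨-, x, hx, hAB⟩ := hstep i
  exact step_pow (hsc _) (hsc _) hx hAB hPS p e hcard hκ y hy

/-- An automorphism of order prime to `p` stabilizing a chain from `⊥` to a subgroup containing `P` is
trivial. -/
theorem eq_one_of_stabFin {m : ℕ} {c : Fin (m + 1) → Subgroup Ω} (h0 : c 0 = ⊥) {P : Subgroup Ω}
    [Finite P] (hm : P ≤ c (Fin.last m)) {p : ℕ} [Fact p.Prime] (hP : IsPGroup p P) {β : MulAut P}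
    (hβ : (orderOf β).Coprime p) (hst : StabFin c β) : β = 1 := by
  refine aut_eq_one_of_chain hP β hβ (fun i => c ⟨m - i, by omega⟩) m ?_ ?_ ?_
  · intro y hy
    have : (⟨m - 0, by omega⟩ : Fin (m + 1)) = Fin.last m := Fin.ext (by simp)
    show y ∈ c ⟨m - 0, _⟩
    rw [this]
    exact hm hy
  · have : (⟨m - m, by omega⟩ : Fin (m + 1)) = 0 := Fin.ext (by simp)
    show c ⟨m - m, _⟩ = ⊥
    rw [this, h0]
  · intro i hi y hy
    have h1 : (⟨m - i, by omega⟩ : Fin (m + 1)) = (⟨m - i - 1, by omega⟩ : Fin m).succ :=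
      Fin.ext (by simp; omega)
    have h2 : (⟨m - (i + 1), by omega⟩ : Fin (m + 1)) = (⟨m - i - 1, by omega⟩ : Fin m).castSucc :=
      Fin.ext (by simp; omega)
    show _ ∈ c ⟨m - (i + 1), _⟩
    rw [h2]
    apply hst
    rw [← h1]
    exact hy

/-- An element of a group `K` of automorphisms preserving the members of a chain from `⊥` to a subgroup containing
`P`, which stabilizes the chain, lies in `O_p(K)`. -/
theorem mem_pCore_of_stabFin {m : ℕ} {c : Fin (m + 1) → Subgroup Ω} (h0 : c 0 = ⊥) {P : Subgroup Ω}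
    [Finite P] (hm : P ≤ c (Fin.last m)) {p : ℕ} [Fact p.Prime] (hP : IsPGroup p P)
    (K : Subgroup (MulAut P))
    (hinv : ∀ i : Fin (m + 1), ∀ α ∈ K, ∀ x : P, (x : Ω) ∈ c i → ((α x : P) : Ω) ∈ c i)
    {β : MulAut P} (hβK : β ∈ K) (hst : StabFin c β) : β ∈ (pCore p K).map K.subtype := by
  refine mem_pCore_of_stabilizes_chain hP K (fun j => c ⟨min j m, by omega⟩) m ?_ ?_ ?_ β hβK ?_
  · have : (⟨min 0 m, by omega⟩ : Fin (m + 1)) = 0 := Fin.ext (by simp)
    show c ⟨min 0 m, _⟩ = ⊥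
    rw [this, h0]
  · have : (⟨min m m, by omega⟩ : Fin (m + 1)) = Fin.last m := Fin.ext (by simp)
    show P ≤ c ⟨min m m, _⟩
    rw [this]
    exact hm
  · intro j _ α hα x hx
    exact hinv _ α hα x hx
  · intro j hj y hy
    have h1 : (⟨min (j + 1) m, by omega⟩ : Fin (m + 1)) = (⟨j, hj⟩ : Fin m).succ :=
      Fin.ext (by simp; omega)
    have h2 : (⟨min j m, by omega⟩ : Fin (m + 1)) = (⟨j, hj⟩ : Fin m).castSucc :=
      Fin.ext (by simp; omega)
    show _ ∈ c ⟨min j m, _⟩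
    rw [h2]
    apply hst
    rw [← h1]
    exact hy

end Cfsg.Agent.Lib.Helper87_CyclicChain
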