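import Mathlib
import Cfsg.Prelude.Def_FusionSystem
import Cfsg.Agent.Lib.Helper85_GroupFusion
import Cfsg.Agent.Lib.Helper87_F2L3Defs

/-!
# A simplicity criterion for the fusion system of a finite group (architect helper87)

`crit`: if `S` is a nontrivial Sylow `p`-subgroup of the finite group `G` with `SCB S`
(no proper nontrivial strongly closed subgroup, and `N_G(S) = S C_G(S)`), then the fusion system
of `G` on `S` is simple.  (Proof adapted from helper42's `S5317`.)
-/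

set_option autoImplicit false

namespace Cfsg.Agent.Lib.Helper87_F2L3

open Cfsg

theorem crit {G : Type*} [Group G] [Finite G] {p : ℕ} [Fact p.Prime] (S : Sylow p G)
    (hne : (S : Subgroup G) ≠ ⊥) (h : SCB (S : Subgroup G)) :
    (Cfsg.groupFusionSystem (S : Subgroup G)).IsSimple p := by
  classical
  have hsat := Cfsg.Agent.Lib.Helper85_GroupFusion.group_isSaturated S
  refine ⟨hsat, hne, ?_⟩
  intro T E hE
  obtain ⟨⟨-, -, hsub, hstrong, -, hfrat⟩, -⟩ := hE
  by_cases hT : T = ⊥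
  · left; exact hT
  right
  have hTS : T ≤ (S : Subgroup G) := hstrong.1
  -- strong closure for elements
  have hSC : ∀ t ∈ T, ∀ g : G, g * t * g⁻¹ ∈ (S : Subgroup G) → g * t * g⁻¹ ∈ T := by
    intro t ht g hg
    have hR : Subgroup.zpowers t ≤ T := Subgroup.zpowers_le.mpr ht
    have hφ : Cfsg.conjHom (Subgroup.zpowers t) g ∈
        (Cfsg.groupFusionSystem (S : Subgroup G)).Hom (Subgroup.zpowers t) := by
      refine ⟨hR.trans hTS, ?_, g, fun x => rfl⟩
      rintro ⟨x, hx⟩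
      obtain ⟨k, rfl⟩ := Subgroup.mem_zpowers_iff.mp hx
      show g * t ^ k * g⁻¹ ∈ (S : Subgroup G)
      have : g * t ^ k * g⁻¹ = (g * t * g⁻¹) ^ k := by rw [conj_zpow]
      rw [this]
      exact Subgroup.zpow_mem _ hg k
    exact hstrong.2 _ hR _ hφ ⟨t, Subgroup.mem_zpowers t⟩
  have hTeq : T = (S : Subgroup G) := h.1 T hTS hT hSC
  subst hTeq
  refine ⟨rfl, fun P => Set.Subset.antisymm (hsub P) ?_⟩
  intro φ hφ
  have hP : P ≤ (S : Subgroup G) :=
    ((Cfsg.groupFusionSystem (S : Subgroup G)).le_of_mem hφ).1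
  obtain ⟨α, hα, φ₀, hφ₀, hform⟩ := hfrat P hP φ hφ
  obtain ⟨m, hm⟩ := (Cfsg.Agent.Lib.Helper85_GroupFusion.group_mem_autGroup_iff le_rfl α).mp hα
  have hmN := Cfsg.Agent.Lib.Helper85_GroupFusion.mem_normalizer_of_aut α m hm
  -- `m` normalizes `S`, hence acts on `S` as some `s₀ ∈ S`
  have hmS : ∀ s ∈ (S : Subgroup G), m * s * m⁻¹ ∈ (S : Subgroup G) := by
    intro s hs
    exact (Subgroup.mem_normalizer_iff.mp hmN s).mp hs
  obtain ⟨s₀, hs₀, hs₀eq⟩ := h.2 m hmS
  have hconj := E.conj_mem (le_refl (S : Subgroup G)) hs₀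
  have hφ₀S := (E.le_of_mem hφ₀).2
  have hcomp := E.comp_mem hφ₀ hconj hφ₀S
  have heq : φ = (Cfsg.conjHom (S : Subgroup G) s₀).comp (φ₀.codRestrict _ hφ₀S) := by
    apply MonoidHom.ext
    intro x
    rw [hform x (hφ₀S x), hm]
    exact hs₀eq _ (hφ₀S x)
  rw [heq]
  exact hcomp

end Cfsg.Agent.Lib.Helper87_F2L3
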