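import Mathlib
import Cfsg.Prelude.Def_FusionSystem
import Cfsg.Agent.Lib.Helper87_F2L3Defs

set_option autoImplicit false

open Matrix Cfsg.Agent.Lib.Helper87_F2L3

namespace Cfsg.Agent.Lib.Helper87_F2L3_SD3GEN

variable {F : Type*} [Field F]

theorem fmGL_mul_fmGL' : (fmGL : GL (Fin 2) F) * fmGL = 1 := by
  unfold fmGL
  rw [dg_mul]
  simp [dg_one]

/-- **F2L3-SD3GEN**. -/
theorem gen_SDg {m : ℕ} (hm : 2 ≤ m) (a b : F) (h : a * a + b * b = -1)
    (hs : torM a b ^ 2 ^ m = -1)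
    (hf : (fmGL : GL (Fin 2) F) * torGL a b h * fmGL⁻¹ = (torGL a b h)⁻¹ * (-1))
    (hconj : ∀ A B : GL (Fin 2) F, A * A = -1 → B * B = -1 → ∃ g : GL (Fin 2) F, g * A * g⁻¹ = B)
    (T₂ : Subgroup (GL (Fin 2) F)) (hT : T₂ ≤ SDg a b h)
    (hinv : ∀ u ∈ SDg a b h, u * u = 1 → u ∈ T₂)
    (hSC : ∀ u ∈ T₂, ∀ g : GL (Fin 2) F, g * u * g⁻¹ ∈ SDg a b h → g * u * g⁻¹ ∈ T₂) :
    T₂ = SDg a b h := by
  obtain ⟨s, hsdef⟩ : ∃ s, s = torGL a b h := ⟨_, rfl⟩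
  obtain ⟨f, hfdef⟩ : ∃ f : GL (Fin 2) F, f = fmGL := ⟨_, rfl⟩
  rw [← hsdef, ← hfdef] at hf
  have hff : f * f = 1 := by rw [hfdef]; exact fmGL_mul_fmGL'
  have hfinv : f⁻¹ = f := inv_eq_of_mul_eq_one_right hff
  have hsGL : s ^ 2 ^ m = -1 := by
    rw [hsdef]
    apply Units.ext
    rw [Units.val_pow_eq_pow_val]
    exact hs
  have hfmem : f ∈ SDg a b h := by rw [hfdef]; exact Subgroup.subset_closure (Or.inr rfl)
  have hsmem : s ∈ SDg a b h := by rw [hsdef]; exact Subgroup.subset_closure (Or.inl rfl)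
  -- `f s = s⁻¹ (-1) f`
  have hfs : f * s = s⁻¹ * (-1) * f := by
    rw [← hf, hfinv, mul_assoc, mul_assoc, hff, mul_one]
  have hnegc : ∀ x : GL (Fin 2) F, (-1 : GL (Fin 2) F) * x = x * (-1) := by
    intro x; simp
  have hnn : (-1 : GL (Fin 2) F) * (-1) = 1 := by simp
  -- involutions `f`, `s² f`
  have hfT : f ∈ T₂ := hinv f hfmem hff
  have hs2f : s * s * f ∈ T₂ := by
    apply hinv
    · exact Subgroup.mul_mem _ (Subgroup.mul_mem _ hsmem hsmem) hfmem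
    · have : s * s * f * (s * s * f) = s * s * (f * s) * (s * f) := by group
      rw [this, hfs]
      have : s * s * (s⁻¹ * -1 * f) * (s * f) = s * (-1) * (f * s) * f := by group
      rw [this, hfs]
      have : s * -1 * (s⁻¹ * -1 * f) * f = s * ((-1) * s⁻¹) * (-1) * (f * f) := by group
      rw [this, hnegc, hff]
      have : s * (s⁻¹ * -1) * -1 * 1 = (-1 : GL (Fin 2) F) * (-1) := by group
      rw [this, hnn]
  have hs2 : s * s ∈ T₂ := by
    have := T₂.mul_mem hs2f hfT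
    rwa [mul_assoc, hff, mul_one] at this
  -- `y₂ = s ^ 2^(m-1) ∈ T₂`
  obtain ⟨n, rfl⟩ : ∃ n, m = n + 2 := ⟨m - 2, by omega⟩
  have hy2 : s ^ 2 ^ (n + 1) ∈ T₂ := by
    have : s ^ 2 ^ (n + 1) = (s * s) ^ 2 ^ n := by
      rw [← sq, ← pow_mul, ← pow_succ']
    rw [this]
    exact T₂.pow_mem hs2 _
  have hy2sq : s ^ 2 ^ (n + 1) * s ^ 2 ^ (n + 1) = -1 := by
    rw [← pow_add, ← two_mul, ← pow_succ', hsGL]
  have hy1sq : (s * f) * (s * f) = -1 := by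
    have : (s * f) * (s * f) = s * (f * s) * f := by group
    rw [this, hfs]
    have : s * (s⁻¹ * -1 * f) * f = (-1) * (f * f) := by group
    rw [this, hff, mul_one]
  obtain ⟨g, hg⟩ := hconj _ _ hy2sq hy1sq
  have hy1 : s * f ∈ T₂ := by
    have := hSC _ hy2 g (by rw [hg]; exact Subgroup.mul_mem _ hsmem hfmem)
    rwa [hg] at this
  have hsT : s ∈ T₂ := by
    have := T₂.mul_mem hy1 hfT
    rwa [mul_assoc, hff, mul_one] at this
  apply le_antisymm hT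
  unfold SDg
  rw [Subgroup.closure_le]
  rintro x (rfl | rfl)
  · rw [← hsdef]; exact hsT
  · rw [← hfdef]; exact hfT

end Cfsg.Agent.Lib.Helper87_F2L3_SD3GEN
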