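import Mathlib

/-!
# Groups generated by two elements `x, y` with `⟨x⟩` of index two

`TwoGenData G N e c x y`: `x` has order `N`, `y ∉ ⟨x⟩`, `y x y⁻¹ = x ^ e` and `y y = x ^ c`.
Main result `exists_injective_hom`: two groups carrying such data with the same parameters, the first
of order `2 N`, admit an injective homomorphism from the first to the second sending generators to
generators.
-/

namespace Cfsg.Agent.Lib.Helper87_TwoGen

open Subgroup

/-- Data of a two-generator group with a cyclic subgroup of index at most two. -/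
structure TwoGenData (G : Type*) [Group G] (N e c : ℕ) (x y : G) : Prop where
  order : orderOf x = N
  npos : 0 < N
  not_mem : y ∉ zpowers x
  conj : y * x * y⁻¹ = x ^ e
  sq : y * y = x ^ c

section normalform

variable {K : Type*} [Group K] {N e c : ℕ} {a b : K}

theorem conj_pow_of_conj (hconj : b * a * b⁻¹ = a ^ e) (i : ℕ) : b * a ^ i * b⁻¹ = a ^ (e * i) := by
  induction i with
  | zero => simp
  | succ i ih =>
    rw [pow_succ, Nat.mul_succ, pow_add, ← ih, ← hconj]
    group

theorem exists_normal_form (haN : a ^ N = 1) (hN : 0 < N) (hconj : b * a * b⁻¹ = a ^ e)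
    (hsq : b * b = a ^ c) :
    ∀ k ∈ closure ({a, b} : Set K), ∃ i j : ℕ, j < 2 ∧ k = a ^ i * b ^ j := by
  have hmulb : ∀ i j : ℕ, j < 2 → ∃ i' j' : ℕ, j' < 2 ∧ b * (a ^ i * b ^ j) = a ^ i' * b ^ j' := by
    intro i j hj
    have h1 : b * a ^ i = a ^ (e * i) * b := by
      rw [← conj_pow_of_conj hconj i]
      group
    interval_cases j
    · exact ⟨e * i, 1, by norm_num, by rw [pow_zero, mul_one, pow_one, h1]⟩
    · refine ⟨e * i + c, 0, by norm_num, ?_⟩
      rw [pow_one, pow_zero, mul_one, ← mul_assoc, h1, mul_assoc, hsq, pow_add]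
  have hinva : a⁻¹ = a ^ (N - 1) := by
    rw [inv_eq_iff_mul_eq_one, ← pow_succ', Nat.sub_add_cancel hN, haN]
  have hinvb : b⁻¹ = b * a ^ (c * (N - 1)) := by
    have hcN : c + c * (N - 1) = N * c := by
      obtain ⟨M, rfl⟩ := Nat.exists_eq_succ_of_ne_zero hN.ne'
      rw [Nat.succ_sub_one, Nat.succ_eq_add_one]
      ring
    rw [inv_eq_iff_mul_eq_one, ← mul_assoc, hsq, ← pow_add, hcN, pow_mul, haN, one_pow]
  intro k hk
  induction hk using closure_induction_left with
  | one => exact ⟨0, 0, by norm_num, by simp⟩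
  | mul_left g hg k _ ih =>
    obtain ⟨i, j, hj, rfl⟩ := ih
    rcases hg with rfl | rfl
    · exact ⟨i + 1, j, hj, by rw [← mul_assoc, ← pow_succ']⟩
    · exact hmulb i j hj
  | inv_mul_cancel g hg k _ ih =>
    obtain ⟨i, j, hj, rfl⟩ := ih
    rcases hg with rfl | rfl
    · exact ⟨N - 1 + i, j, hj, by rw [hinva, ← mul_assoc, ← pow_add]⟩
    · obtain ⟨i', j', hj', h⟩ := hmulb (c * (N - 1) + i) j hj
      refine ⟨i', j', hj', ?_⟩
      rw [← h, hinvb, pow_add]
      group

end normalform

section graph

variable {G H : Type*} [Group G] [Group H] {N e c : ℕ} {x y : G} {s f : H}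

/-- The graph subgroup. -/
def graph (x y : G) (s f : H) : Subgroup (G × H) := closure {((x, s) : G × H), (y, f)}

theorem fst_eq_one_imp (hG : TwoGenData G N e c x y) (hH : TwoGenData H N e c s f)
    {k : G × H} (hk : k ∈ graph x y s f) (h1 : k.1 = 1) : k = 1 := by
  have haN : ((x, s) : G × H) ^ N = 1 := by
    rw [Prod.pow_mk, ← hG.order, pow_orderOf_eq_one, hG.order, ← hH.order, pow_orderOf_eq_one]
    rfl
  have hconj : ((y, f) : G × H) * (x, s) * (y, f)⁻¹ = (x, s) ^ e := by
    rw [Prod.pow_mk, ← hG.conj, ← hH.conj]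
    rfl
  have hsq : ((y, f) : G × H) * (y, f) = (x, s) ^ c := by
    rw [Prod.pow_mk, ← hG.sq, ← hH.sq]
    rfl
  obtain ⟨i, j, hj, rfl⟩ := exists_normal_form haN hG.npos hconj hsq k hk
  have h2 : x ^ i * y ^ j = 1 := by
    simpa using h1
  interval_cases j
  · rw [pow_zero, mul_one] at h2
    have hdvd : N ∣ i := by
      rw [← hG.order]
      exact orderOf_dvd_of_pow_eq_one h2
    have h3 : s ^ i = 1 := by
      rw [← hH.order] at hdvd
      exact orderOf_dvd_iff_pow_eq_one.1 hdvd
    rw [pow_zero, mul_one, Prod.pow_mk, h2, h3]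
    rfl
  · exfalso
    apply hG.not_mem
    rw [pow_one] at h2
    have : y = (x ^ i)⁻¹ := eq_inv_of_mul_eq_one_right h2
    rw [this]
    exact (zpowers x).inv_mem (npow_mem_zpowers x i)

theorem swap_mem_graph (x y : G) (s f : H) (k : G × H) (hk : k ∈ graph x y s f) :
    k.swap ∈ graph s f x y := by
  have : graph x y s f ≤ (graph s f x y).comap (MulEquiv.prodComm : G × H ≃* H × G).toMonoidHom := by
    unfold graph
    rw [closure_le]
    rintro z (rfl | rfl)
    · exact subset_closure (Or.inl rfl)
    · exact subset_closure (Or.inr rfl)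
  exact this hk

theorem snd_eq_one_imp (hG : TwoGenData G N e c x y) (hH : TwoGenData H N e c s f)
    {k : G × H} (hk : k ∈ graph x y s f) (h1 : k.2 = 1) : k = 1 := by
  have h2 := fst_eq_one_imp hH hG (swap_mem_graph x y s f k hk) h1
  have : k.swap.swap = (1 : H × G).swap := by rw [h2]
  simpa using this

/-- Main result: an injective homomorphism sending `x ↦ s` and `y ↦ f`. -/
theorem exists_injective_hom [Finite G] (hG : TwoGenData G N e c x y) (hcard : Nat.card G = 2 * N)
    (hH : TwoGenData H N e c s f) :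
    ∃ φ : G →* H, Function.Injective φ ∧ φ x = s ∧ φ y = f := by
  let K := graph x y s f
  let π : K →* G := (MonoidHom.fst G H).comp K.subtype
  have hπinj : Function.Injective π := by
    rw [injective_iff_map_eq_one]
    intro k hk
    exact Subtype.ext (fst_eq_one_imp hG hH k.2 hk)
  have hxK : ((x, s) : G × H) ∈ K := subset_closure (Or.inl rfl)
  have hyK : ((y, f) : G × H) ∈ K := subset_closure (Or.inr rfl)
  have hπsurj : Function.Surjective π := by
    rw [← MonoidHom.range_eq_top]
    have hx : x ∈ π.range := ⟨⟨_, hxK⟩, rfl⟩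
    have hy : y ∈ π.range := ⟨⟨_, hyK⟩, rfl⟩
    have hle : zpowers x ≤ π.range := by
      rw [zpowers_le]
      exact hx
    have hlt : zpowers x < π.range := lt_of_le_of_ne hle (fun h => hG.not_mem (h ▸ hy))
    have hcardz : Nat.card (zpowers x) = N := by rw [Nat.card_zpowers, hG.order]
    have hdvd1 : N ∣ Nat.card π.range := hcardz ▸ Subgroup.card_dvd_of_le hle
    have hdvd2 : Nat.card π.range ∣ 2 * N := hcard ▸ Subgroup.card_subgroup_dvd_card _
    have hlt' : N < Nat.card π.range := by
      by_contra hcon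
      have hge : Nat.card π.range ≤ Nat.card (zpowers x) := by
        rw [hcardz]
        exact not_lt.1 hcon
      exact hlt.ne (Subgroup.eq_of_le_of_card_ge hle hge)
    obtain ⟨t, ht⟩ := hdvd1
    have ht2 : t = 2 := by
      have h1 : 1 < t := by
        by_contra h
        have h := not_lt.1 h
        have : N * t ≤ N * 1 := Nat.mul_le_mul_left N h
        omega
      have h2 : t ∣ 2 := by
        rw [ht, mul_comm 2 N] at hdvd2
        exact Nat.dvd_of_mul_dvd_mul_left hG.npos hdvd2
      have h3 : t ≤ 2 := Nat.le_of_dvd (by norm_num) h2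
      omega
    apply Subgroup.eq_top_of_card_eq
    rw [ht, ht2, hcard, mul_comm]
  let E : K ≃* G := MulEquiv.ofBijective π ⟨hπinj, hπsurj⟩
  let φ : G →* H := ((MonoidHom.snd G H).comp K.subtype).comp E.symm.toMonoidHom
  refine ⟨φ, ?_, ?_, ?_⟩
  · rw [injective_iff_map_eq_one]
    intro g hg
    have h1 : ((E.symm g : K) : G × H).2 = 1 := hg
    have h2 : ((E.symm g : K) : G × H) = 1 := snd_eq_one_imp hG hH (E.symm g).2 h1
    have h3 : E.symm g = 1 := Subtype.ext h2
    have : g = E 1 := by rw [← h3, E.apply_symm_apply]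
    rw [this, map_one]
  · have : E.symm x = ⟨(x, s), hxK⟩ := by
      rw [MulEquiv.symm_apply_eq]
      rfl
    show ((E.symm x : K) : G × H).2 = s
    rw [this]
  · have : E.symm y = ⟨(y, f), hyK⟩ := by
      rw [MulEquiv.symm_apply_eq]
      rfl
    show ((E.symm y : K) : G × H).2 = f
    rw [this]

end graph

end Cfsg.Agent.Lib.Helper87_TwoGen
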