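import Mathlib
import Cfsg.Prelude.Def_FusionSystem
import Cfsg.Agent.Lib.Helper87_F2L3Defs
import Cfsg.Agent.Lib.Helper87_TwoGen

set_option autoImplicit false

open Matrix Cfsg.Agent.Lib.Helper87_F2L3

namespace Cfsg.Agent.Lib.Helper87_F2L3_SD3NF

variable {F : Type*} [Field F]

theorem fmGL_mul_fmGL : (fmGL : GL (Fin 2) F) * fmGL = 1 := by
  unfold fmGL
  rw [dg_mul]
  simp [dg_one]

theorem fmGL_inv : (fmGL : GL (Fin 2) F)⁻¹ = fmGL := inv_eq_of_mul_eq_one_right fmGL_mul_fmGL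

theorem fmGL_val : ((fmGL : GL (Fin 2) F) : Matrix (Fin 2) (Fin 2) F) = !![1, 0; 0, -1] := by
  ext x y
  fin_cases x <;> fin_cases y <;> simp [fmGL, dg]

theorem fm_torM_fm (a b : F) :
    (!![1, 0; 0, -1] : Matrix (Fin 2) (Fin 2) F) * torM a b * !![1, 0; 0, -1] = torM a (-b) := by
  ext x y
  fin_cases x <;> fin_cases y <;> simp [torM, Matrix.mul_apply, Fin.sum_univ_two]

theorem torGL_inv_val (a b : F) (h : a * a + b * b = -1) :
    (((torGL a b h)⁻¹ : GL (Fin 2) F) : Matrix (Fin 2) (Fin 2) F) = - torM a (-b) := rfl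

theorem conj_rel (a b : F) (h : a * a + b * b = -1) :
    (fmGL : GL (Fin 2) F) * torGL a b h * fmGL⁻¹ = (torGL a b h)⁻¹ * (-1) := by
  rw [fmGL_inv]
  apply Units.ext
  rw [Units.val_mul, Units.val_mul, Units.val_mul, torGL_inv_val, fmGL_val, Units.val_neg,
    Units.val_one, mul_neg, mul_one, neg_neg]
  exact fm_torM_fm a b

/-- **F2L3-SD3NF**. -/
theorem sd_normal_form {m : ℕ} (a b : F) (h : a * a + b * b = -1)
    (hs : torM a b ^ 2 ^ m = -1) :
    (fmGL : GL (Fin 2) F) * torGL a b h * fmGL⁻¹ = (torGL a b h)⁻¹ * (-1) ∧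
      ∀ x ∈ SDg a b h, ∃ i : ℕ, x = torGL a b h ^ i ∨ x = torGL a b h ^ i * fmGL := by
  have hrel := conj_rel a b h
  refine ⟨hrel, ?_⟩
  have hsGL : torGL a b h ^ 2 ^ m = -1 := by
    apply Units.ext
    rw [Units.val_pow_eq_pow_val]
    exact hs
  have hN : torGL a b h ^ 2 ^ (m + 1) = 1 := by
    rw [pow_succ, pow_mul, hsGL]
    simp
  have hconj : (fmGL : GL (Fin 2) F) * torGL a b h * fmGL⁻¹ = torGL a b h ^ (2 ^ m - 1) := by
    rw [hrel]
    have h1 : torGL a b h ^ (2 ^ m - 1) * torGL a b h = -1 := by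
      rw [← pow_succ, Nat.sub_add_cancel Nat.one_le_two_pow, hsGL]
    rw [← h1, ← pow_succ, pow_succ', inv_mul_cancel_left]
  have hsq : (fmGL : GL (Fin 2) F) * fmGL = torGL a b h ^ 0 := by
    rw [pow_zero, fmGL_mul_fmGL]
  intro x hx
  obtain ⟨i, j, hj, rfl⟩ := Cfsg.Agent.Lib.Helper87_TwoGen.exists_normal_form hN (by positivity)
    hconj hsq x hx
  refine ⟨i, ?_⟩
  have hj' : j = 0 ∨ j = 1 := by omega
  rcases hj' with rfl | rfl
  · left; rw [pow_zero, mul_one]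
  · right; rw [pow_one]

end Cfsg.Agent.Lib.Helper87_F2L3_SD3NF
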