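import Mathlib
import Cfsg.Prelude.Def_FusionSystem
import Cfsg.Agent.Lib.Helper87_F2L3Defs

set_option autoImplicit false

open Matrix Cfsg.Agent.Lib.Helper87_F2L3

namespace Cfsg.Agent.Lib.Helper87_F2L3_WGEN

variable {F : Type*} [Field F]

/-- **F2L3-WGEN**.  A subgroup `T₂ ≤ Wr μ` containing all involutions of `Wr μ` and satisfying the
"Weyl" condition is all of `Wr μ`. -/
theorem gen_Wr (μ : Subgroup Fˣ) (T₂ : Subgroup (GL (Fin 2) F)) (hT : T₂ ≤ Wr μ)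
    (hinv : ∀ u ∈ Wr μ, u * u = 1 → u ∈ T₂)
    (hW : ∀ a : Fˣ, dg a a⁻¹ ∈ T₂ → dg a 1 ∈ Wr μ → dg a 1 ∈ T₂) : T₂ = Wr μ := by
  have hw : (wsw : GL (Fin 2) F) ∈ T₂ := by
    apply hinv _ _ wsw_mul_wsw
    exact ⟨1, μ.one_mem, 1, μ.one_mem, Or.inr (by rw [dg_one, one_mul])⟩
  have h1 : ∀ a ∈ μ, dg a 1 ∈ T₂ := by
    intro a ha
    have hu : dg a a⁻¹ * wsw ∈ T₂ := by
      apply hinv
      · exact ⟨a, ha, a⁻¹, μ.inv_mem ha, Or.inr rfl⟩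
      · rw [mul_assoc, ← mul_assoc wsw, wsw_mul_dg, mul_assoc (dg a⁻¹ a), wsw_mul_wsw, mul_one,
          dg_mul, mul_inv_cancel, inv_mul_cancel, dg_one]
    have h3 : dg a a⁻¹ ∈ T₂ := by
      have := T₂.mul_mem hu hw
      rwa [mul_assoc, wsw_mul_wsw, mul_one] at this
    exact hW a h3 ⟨a, ha, 1, μ.one_mem, Or.inl rfl⟩
  have h2 : ∀ a ∈ μ, dg 1 a ∈ T₂ := by
    intro a ha
    have := T₂.mul_mem (T₂.mul_mem hw (h1 a ha)) hw
    rwa [wsw_mul_dg, mul_assoc, wsw_mul_wsw, mul_one] at this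
  apply le_antisymm hT
  rintro x ⟨a, ha, b, hb, rfl | rfl⟩
  · have := T₂.mul_mem (h1 a ha) (h2 b hb)
    rwa [dg_mul, mul_one, one_mul] at this
  · have := T₂.mul_mem (T₂.mul_mem (h1 a ha) (h2 b hb)) hw
    rwa [dg_mul, mul_one, one_mul] at this

end Cfsg.Agent.Lib.Helper87_F2L3_WGEN
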