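import Mathlib
import Cfsg.Prelude.Def_FusionSystem
import Cfsg.Agent.Lib.Helper87_F2L3Defs

/-!
# S5318 package F2L3-TRANSFER (architect helper87): `SCB` is invariant under conjugation, hence
passes from one Sylow `p`-subgroup to any other.
-/

set_option autoImplicit false

open Matrix Cfsg.Agent.Lib.Helper87_F2L3

namespace Cfsg.Agent.Lib.Helper89_F2L3_TRANSFER

/-- `SCB` is invariant under conjugation: if `S' = g S g⁻¹` then `SCB S → SCB S'`. -/
theorem scb_conj {G : Type*} [Group G] (S S' : Subgroup G) (g : G)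
    (hS' : ∀ x, x ∈ S' ↔ g⁻¹ * x * g ∈ S) (h : SCB S) : SCB S' := by
  obtain ⟨hA, hB⟩ := h
  have hSS' : ∀ s ∈ S, g * s * g⁻¹ ∈ S' := by
    intro s hs
    rw [hS']
    have : g⁻¹ * (g * s * g⁻¹) * g = s := by group
    rwa [this]
  refine ⟨?_, ?_⟩
  · intro T hT hTne hSC
    -- `T' = g⁻¹ T g`
    let T' : Subgroup G := T.comap (MulAut.conj g).toMonoidHom
    have hmemT' : ∀ x, x ∈ T' ↔ g * x * g⁻¹ ∈ T := by
      intro x
      show (MulAut.conj g) x ∈ T ↔ _
      rw [MulAut.conj_apply]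
    have h1 : T' ≤ S := by
      intro x hx
      have hx' := hT ((hmemT' x).mp hx)
      rw [hS'] at hx'
      have : g⁻¹ * (g * x * g⁻¹) * g = x := by group
      rwa [this] at hx'
    have h2 : T' ≠ ⊥ := by
      intro hbot
      apply hTne
      rw [Subgroup.eq_bot_iff_forall]
      intro t ht
      have : g⁻¹ * t * g ∈ T' := by
        rw [hmemT']
        have : g * (g⁻¹ * t * g) * g⁻¹ = t := by group
        rwa [this]
      rw [hbot, Subgroup.mem_bot] at this
      have h3 : t = g * (g⁻¹ * t * g) * g⁻¹ := by group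
      rw [h3, this]
      group
    have h3 : ∀ t ∈ T', ∀ k : G, k * t * k⁻¹ ∈ S → k * t * k⁻¹ ∈ T' := by
      intro t ht k hk
      rw [hmemT'] at ht ⊢
      have e : g * (k * t * k⁻¹) * g⁻¹ = (g * k * g⁻¹) * (g * t * g⁻¹) * (g * k * g⁻¹)⁻¹ := by
        group
      rw [e]
      apply hSC _ ht
      rw [← e]
      exact hSS' _ hk
    have h4 := hA T' h1 h2 h3
    apply le_antisymm hT
    intro x hx
    have hx' : g⁻¹ * x * g ∈ T' := by
      rw [h4]
      exact (hS' x).mp hx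
    rw [hmemT'] at hx'
    have : g * (g⁻¹ * x * g) * g⁻¹ = x := by group
    rwa [this] at hx'
  · intro n hn
    have h1 : ∀ s ∈ S, (g⁻¹ * n * g) * s * (g⁻¹ * n * g)⁻¹ ∈ S := by
      intro s hs
      have h2 := hn _ (hSS' s hs)
      rw [hS'] at h2
      have e : g⁻¹ * (n * (g * s * g⁻¹) * n⁻¹) * g = (g⁻¹ * n * g) * s * (g⁻¹ * n * g)⁻¹ := by
        group
      rwa [e] at h2
    obtain ⟨s₀, hs₀, hs₀'⟩ := hB _ h1
    refine ⟨g * s₀ * g⁻¹, hSS' s₀ hs₀, ?_⟩
    intro x hx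
    have h2 := hs₀' _ ((hS' x).mp hx)
    have e1 : n * x * n⁻¹ = g * ((g⁻¹ * n * g) * (g⁻¹ * x * g) * (g⁻¹ * n * g)⁻¹) * g⁻¹ := by
      group
    rw [e1, h2]
    group

/-- **F2L3-TRANSFER**. -/
theorem transfer {G : Type*} [Group G] [Finite G] {p : ℕ} [Fact p.Prime] (P Q : Sylow p G)
    (h : SCB (P : Subgroup G)) : SCB (Q : Subgroup G) := by
  obtain ⟨g, hg⟩ := MulAction.exists_smul_eq G P Q
  apply scb_conj (P : Subgroup G) (Q : Subgroup G) g _ h
  intro x
  rw [← hg, Sylow.coe_subgroup_smul, Subgroup.mem_smul_pointwise_iff_exists]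
  constructor
  · rintro ⟨s, hs, rfl⟩
    rw [MulAut.smul_def, MulAut.conj_apply]
    have : g⁻¹ * (g * s * g⁻¹) * g = s := by group
    rwa [this]
  · intro hx
    refine ⟨g⁻¹ * x * g, hx, ?_⟩
    rw [MulAut.smul_def, MulAut.conj_apply]
    group

end Cfsg.Agent.Lib.Helper89_F2L3_TRANSFER
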