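import Mathlib
import Cfsg.Prelude.Def_FusionSystem
import Cfsg.Agent.Lib.Helper87_F2L3Defs

/-!
# S5318 package F2L3-WCENT (architect helper87): the only central involution of `Wr μ` is `-1`.
-/

set_option autoImplicit false

open Matrix Cfsg.Agent.Lib.Helper87_F2L3

namespace Cfsg.Agent.Lib.Helper89_F2L3_WCENT

variable {F : Type*} [Field F]

theorem dg_val (a b : Fˣ) :
    ((dg a b : GL (Fin 2) F) : Matrix (Fin 2) (Fin 2) F) = !![(a : F), 0; 0, (b : F)] := rfl

theorem wsw_val : ((wsw : GL (Fin 2) F) : Matrix (Fin 2) (Fin 2) F) = !![0, 1; 1, 0] := rfl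

/-- **F2L3-WCENT**. -/
theorem cent_Wr (h2 : (2 : F) ≠ 0) (μ : Subgroup Fˣ) (hμ : (-1 : Fˣ) ∈ μ)
    (z : GL (Fin 2) F) (hz : z ∈ Wr μ) (hzz : z * z = 1) (hz1 : z ≠ 1)
    (hc : ∀ s ∈ Wr μ, z * s = s * z) : z = -1 := by
  obtain ⟨a, ha, b, hb, rfl | rfl⟩ := hz
  · -- diagonal case
    have hw : (wsw : GL (Fin 2) F) ∈ Wr μ :=
      ⟨1, μ.one_mem, 1, μ.one_mem, Or.inr (by rw [dg_one, one_mul])⟩
    have h1 := congrArg (fun g : GL (Fin 2) F => (g : Matrix (Fin 2) (Fin 2) F) 0 1) (hc _ hw)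
    simp only [Units.val_mul, dg_val, wsw_val, Matrix.mul_apply, Fin.sum_univ_two] at h1
    simp at h1
    -- h1 : a = b
    have hab : a = b := Units.ext h1
    subst hab
    have h3 := congrArg (fun g : GL (Fin 2) F => (g : Matrix (Fin 2) (Fin 2) F) 0 0) hzz
    simp only [Units.val_mul, dg_val, Matrix.mul_apply, Fin.sum_univ_two] at h3
    simp at h3
    -- h3 : a * a = 1
    have h4 : ((a : F) - 1) * ((a : F) + 1) = 0 := by linear_combination h3
    rcases mul_eq_zero.mp h4 with h5 | h5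
    · exfalso
      apply hz1
      have : a = 1 := Units.ext (by rw [Units.val_one]; linear_combination h5)
      rw [this, dg_one]
    · have : a = -1 := Units.ext (by rw [Units.val_neg, Units.val_one]; linear_combination h5)
      rw [this]
      apply Units.ext
      ext i j
      fin_cases i <;> fin_cases j <;> simp [dg_val]
  · -- anti-diagonal case: does not commute with `dg (-1) 1`
    exfalso
    have hs : (dg (-1 : Fˣ) 1 : GL (Fin 2) F) ∈ Wr μ := ⟨-1, hμ, 1, μ.one_mem, Or.inl rfl⟩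
    have h1 := congrArg (fun g : GL (Fin 2) F => (g : Matrix (Fin 2) (Fin 2) F) 0 1) (hc _ hs)
    simp only [Units.val_mul, dg_val, wsw_val, Matrix.mul_apply, Fin.sum_univ_two] at h1
    simp at h1
    -- h1 : a = -a
    have h5 : (2 : F) * (a : F) = 0 := by linear_combination h1
    rcases mul_eq_zero.mp h5 with h6 | h6
    · exact h2 h6
    · exact a.ne_zero h6

end Cfsg.Agent.Lib.Helper89_F2L3_WCENT
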