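import Mathlib
import Cfsg.Prelude.Def_FusionSystem
import Cfsg.Agent.Lib.Helper87_F2L3Defs

/-!
# F2L3-SD3S (helper87's S5318 market): an element of order `2^(m+1)` in the nonsplit torus of `GL₂(F)`

General finite field `F` with `|F| + 1 = 2^m u`, `u` odd, `m ≥ 2`.
-/

set_option autoImplicit false

open Matrix Cfsg.Agent.Lib.Helper87_F2L3

namespace Cfsg.Agent.Lib.Helper99_F2L3_SD3S

variable {F : Type*} [Field F]

theorem torM_neg_one : torM (-1 : F) 0 = -1 := by
  ext i j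
  fin_cases i <;> fin_cases j <;> simp [torM]

theorem torM_pow (a b : F) (n : ℕ) : ∃ a' b' : F, torM a b ^ n = torM a' b' := by
  induction n with
  | zero => exact ⟨1, 0, by rw [pow_zero, torM_one]⟩
  | succ n ih =>
    obtain ⟨a', b', h⟩ := ih
    exact ⟨_, _, by rw [pow_succ, h, torM_mul]⟩

theorem det_torM (a b : F) : (torM a b).det = a * a + b * b := by
  unfold torM
  rw [Matrix.det_fin_two_of]
  ring

theorem torM_eq (a b : F) :
    torM a b = a • (1 : Matrix (Fin 2) (Fin 2) F) + b • torM 0 1 := by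
  ext i j
  fin_cases i <;> fin_cases j <;> simp [torM]

theorem torM01_sq : torM (0 : F) 1 * torM 0 1 = -1 := by
  rw [torM_mul, ← torM_neg_one]
  congr 1 <;> ring

theorem torM01_pow {q : ℕ} (h3 : q % 4 = 3) : torM (0 : F) 1 ^ q = - torM 0 1 := by
  have hq : q = 4 * (q / 4) + 3 := by omega
  have h2 : torM (0 : F) 1 ^ 2 = -1 := by rw [sq, torM01_sq]
  have h4 : torM (0 : F) 1 ^ 4 = 1 := by
    rw [show 4 = 2 * 2 from rfl, pow_mul, h2]
    simp
  have h5 : torM (0 : F) 1 ^ q = torM (0 : F) 1 ^ (4 * (q / 4) + 3) :=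
    congrArg (fun n => torM (0 : F) 1 ^ n) hq
  rw [h5, pow_add, pow_mul, h4, one_pow, one_mul, show 3 = 2 + 1 from rfl, pow_succ, h2]
  simp

theorem torM_pow_card [Fintype F] (h3 : Fintype.card F % 4 = 3) (a b : F) :
    torM a b ^ Fintype.card F = torM a (-b) := by
  obtain ⟨p, hp⟩ := CharP.exists F
  have := hp
  obtain ⟨n, hpr, hcard⟩ := FiniteField.card F p
  have : Fact p.Prime := ⟨hpr⟩
  have : CharP (Matrix (Fin 2) (Fin 2) F) p := inferInstance
  have hcomm : Commute (a • (1 : Matrix (Fin 2) (Fin 2) F)) (b • torM 0 1) := by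
    apply Commute.smul_left
    apply Commute.smul_right
    exact Commute.one_left _
  have key : (a • (1 : Matrix (Fin 2) (Fin 2) F) + b • torM 0 1) ^ p ^ (n : ℕ)
      = (a • (1 : Matrix (Fin 2) (Fin 2) F)) ^ p ^ (n : ℕ) + (b • torM 0 1) ^ p ^ (n : ℕ) :=
    add_pow_char_pow_of_commute p (n : ℕ) hcomm
  rw [← hcard] at key
  rw [torM_eq a b, key, smul_pow, smul_pow, one_pow, FiniteField.pow_card, FiniteField.pow_card,
    torM01_pow h3, torM_eq a (-b)]
  simp

/-- **F2L3-SD3S**. -/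
theorem exists_tor [Fintype F] {m u : ℕ} (hm : 2 ≤ m) (hu : Odd u)
    (hq : Fintype.card F + 1 = 2 ^ m * u) :
    ∃ a b : F, a * a + b * b = -1 ∧ torM a b ^ 2 ^ m = -1 := by
  have h3 : Fintype.card F % 4 = 3 := by
    obtain ⟨k, hk⟩ : ∃ k, m = k + 2 := ⟨m - 2, by omega⟩
    have h1 : Fintype.card F + 1 = 4 * (2 ^ k * u) := by
      rw [hq, hk, pow_add]
      ring
    have hpos : 0 < Fintype.card F := Fintype.card_pos
    omega
  obtain ⟨p, hp⟩ := CharP.exists F
  have := hp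
  obtain ⟨n, hpr, hcard⟩ := FiniteField.card F p
  have : NeZero p := ⟨hpr.ne_zero⟩
  obtain ⟨a₀, b₀, hab⟩ := CharP.sq_add_sq F p (-1)
  have hab' : (a₀ : F) * a₀ + (b₀ : F) * b₀ = -1 := by
    have : ((-1 : ℤ) : F) = -1 := by simp
    rw [← this, ← hab]; ring
  set τ := torM (a₀ : F) (b₀ : F) with hτ
  have htq : τ ^ Fintype.card F = torM (a₀ : F) (-(b₀ : F)) := torM_pow_card h3 _ _
  have htq1 : τ ^ (Fintype.card F + 1) = -1 := by
    rw [pow_succ, htq, hτ, torM_mul, ← torM_neg_one]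
    congr 1
    · linear_combination hab'
    · ring
  obtain ⟨a, b, hs⟩ := torM_pow (a₀ : F) (b₀ : F) u
  refine ⟨a, b, ?_, ?_⟩
  · rw [← det_torM, ← hs, Matrix.det_pow, det_torM, hab', hu.neg_one_pow]
  · rw [← hs, ← pow_mul, mul_comm, ← hq]
    exact htq1

end Cfsg.Agent.Lib.Helper99_F2L3_SD3S
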