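import Mathlib
import Cfsg.Prelude.Def_FusionSystem
import Cfsg.Agent.Lib.Helper87_F2L3Defs
import Cfsg.Agent.Lib.Helper99_F2L3_SD3S

/-!
# F2L3-SD3NORMA (helper87's S5318 market): shape of an element normalizing `SDg a b h`
-/

set_option autoImplicit false

open Matrix Cfsg.Agent.Lib.Helper87_F2L3

namespace Cfsg.Agent.Lib.Helper99_F2L3_SD3NORMA

open Cfsg.Agent.Lib.Helper99_F2L3_SD3S

variable {F : Type*} [Field F]

theorem coe_torGL (a b : F) (h : a * a + b * b = -1) :
    ((torGL a b h : GL (Fin 2) F) : Matrix (Fin 2) (Fin 2) F) = torM a b := rfl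

theorem coe_fmGL : ((fmGL : GL (Fin 2) F) : Matrix (Fin 2) (Fin 2) F) = !![1, 0; 0, -1] := by
  ext i j
  fin_cases i <;> fin_cases j <;> simp [fmGL, dg]

theorem coe_torGL_pow (a b : F) (h : a * a + b * b = -1) (i : ℕ) :
    ∃ x y : F, ((torGL a b h ^ i : GL (Fin 2) F) : Matrix (Fin 2) (Fin 2) F) = torM x y := by
  obtain ⟨x, y, hxy⟩ := torM_pow a b i
  exact ⟨x, y, by rw [Units.val_pow_eq_pow_val, coe_torGL, hxy]⟩

theorem torGL_mem (a b : F) (h : a * a + b * b = -1) : torGL a b h ∈ SDg a b h :=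
  Subgroup.subset_closure (by simp)

theorem fmGL_mem (a b : F) (h : a * a + b * b = -1) : (fmGL : GL (Fin 2) F) ∈ SDg a b h :=
  Subgroup.subset_closure (by simp)

theorem one_ne_neg_one_mat (h2 : (2 : F) ≠ 0) : (1 : Matrix (Fin 2) (Fin 2) F) ≠ -1 := by
  intro hh
  have h1 := congrFun (congrFun hh 0) 0
  simp at h1
  apply h2
  linear_combination h1

/-- If `s = torM a b` has `s ^ 2 ^ m = -1` (`m ≥ 2`, `2 ≠ 0`) then `a b ≠ 0`
(otherwise `s ^ 4 = 1`).  No hypothesis on `-1` being a non-square. -/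
theorem ab_ne_zero (h2 : (2 : F) ≠ 0) {m : ℕ} (hm : 2 ≤ m) (a b : F)
    (h : a * a + b * b = -1) (hs : torM a b ^ 2 ^ m = -1) : a * b ≠ 0 := by
  intro hab
  have h4 : torM a b ^ 4 = 1 := by
    rw [show 4 = 2 * 2 from rfl, pow_mul, sq (torM a b), torM_mul, sq, torM_mul, ← torM_one]
    congr 1
    · linear_combination (a * a + b * b - 1) * h - 8 * (a * b) * hab
    · linear_combination (4 * (a * a - b * b)) * hab
  obtain ⟨k, rfl⟩ : ∃ k, m = k + 2 := ⟨m - 2, by omega⟩
  have h5 : torM a b ^ 2 ^ (k + 2) = 1 := by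
    rw [pow_add, show (2 : ℕ) ^ 2 = 4 from rfl, mul_comm, pow_mul, h4, one_pow]
  rw [h5] at hs
  exact one_ne_neg_one_mat h2 hs

/-- **F2L3-SD3NORMA** without the hypothesis that `-1` is a non-square. -/
theorem norm_SDg_A' (h2 : (2 : F) ≠ 0) {m : ℕ} (hm : 2 ≤ m) (a b : F)
    (h : a * a + b * b = -1) (hs : torM a b ^ 2 ^ m = -1)
    (hf : (fmGL : GL (Fin 2) F) * torGL a b h * fmGL⁻¹ = (torGL a b h)⁻¹ * (-1))
    (hnf : ∀ x ∈ SDg a b h, ∃ i : ℕ, x = torGL a b h ^ i ∨ x = torGL a b h ^ i * fmGL)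
    (n : GL (Fin 2) F) (hn : ∀ x ∈ SDg a b h, n * x * n⁻¹ ∈ SDg a b h) :
    ∃ c d : F, (n : Matrix (Fin 2) (Fin 2) F) = torM c d ∨
      (n : Matrix (Fin 2) (Fin 2) F) = !![1, 0; 0, -1] * torM c d := by
  have hab := ab_ne_zero h2 hm a b h hs
  have hb : b ≠ 0 := by
    rintro rfl
    exact hab (mul_zero a)
  have ha : a ≠ 0 := by
    rintro rfl
    exact hab (zero_mul b)
  obtain ⟨i, hi⟩ := hnf _ (hn _ (torGL_mem a b h))
  obtain ⟨x, y, hxy⟩ := coe_torGL_pow a b h i
  set N : Matrix (Fin 2) (Fin 2) F := (n : Matrix (Fin 2) (Fin 2) F) with hNdef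
  have hNinv : ((n⁻¹ : GL (Fin 2) F) : Matrix (Fin 2) (Fin 2) F) * N = 1 := by
    rw [hNdef, ← Units.val_mul, inv_mul_cancel, Units.val_one]
  rcases hi with hi | hi
  · -- `n s n⁻¹ = s^i = torM x y`
    have hN : N * torM a b = torM x y * N := by
      have h1 : n * torGL a b h = torGL a b h ^ i * n := by
        rw [← hi]; group
      have h2' := congrArg (fun g : GL (Fin 2) F => (g : Matrix (Fin 2) (Fin 2) F)) h1
      simp only [Units.val_mul] at h2'
      rw [hxy, coe_torGL] at h2'
      exact h2'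
    have htr : (torM x y).trace = (torM a b).trace := by
      have h1 : torM x y = N * torM a b * ((n⁻¹ : GL (Fin 2) F) : Matrix (Fin 2) (Fin 2) F) := by
        rw [hN, mul_assoc, hNdef, ← Units.val_mul, mul_inv_cancel, Units.val_one, mul_one]
      rw [h1, hNdef, Matrix.trace_units_conj]
    have hdet : (torM x y).det = (torM a b).det := by
      have h1 : torM x y = N * torM a b * ((n⁻¹ : GL (Fin 2) F) : Matrix (Fin 2) (Fin 2) F) := by
        rw [hN, mul_assoc, hNdef, ← Units.val_mul, mul_inv_cancel, Units.val_one, mul_one]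
      rw [h1, hNdef, Matrix.det_units_conj]
    have hxa : x = a := by
      have : x + x = a + a := by
        simpa [torM, Matrix.trace_fin_two] using htr
      have h3 : (2 : F) * (x - a) = 0 := by linear_combination this
      rcases mul_eq_zero.mp h3 with h4 | h4
      · exact absurd h4 h2
      · exact sub_eq_zero.mp h4
    have hyb : (y - b) * (y + b) = 0 := by
      rw [det_torM, det_torM, hxa] at hdet
      linear_combination hdet
    have e00 := congrFun (congrFun hN 0) 0
    have e01 := congrFun (congrFun hN 0) 1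
    simp only [torM, Matrix.mul_apply, Fin.sum_univ_two, Matrix.of_apply, Matrix.cons_val',
      Matrix.cons_val_zero, Matrix.cons_val_one, Matrix.cons_val_fin_one] at e00 e01
    rcases mul_eq_zero.mp hyb with hy | hy
    · -- `y = b`
      have hy' : y = b := sub_eq_zero.mp hy
      subst hxa hy'
      refine ⟨N 0 0, N 1 0, Or.inl ?_⟩
      have h01 : N 0 1 = - N 1 0 := by
        have : y * (N 0 1 + N 1 0) = 0 := by linear_combination e00
        rcases mul_eq_zero.mp this with h5 | h5
        · exact absurd h5 hb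
        · linear_combination h5
      have h11 : N 1 1 = N 0 0 := by
        have : y * (N 1 1 - N 0 0) = 0 := by linear_combination e01
        rcases mul_eq_zero.mp this with h5 | h5
        · exact absurd h5 hb
        · linear_combination h5
      ext i j
      fin_cases i <;> fin_cases j <;> simp [torM, h01, h11]
    · -- `y = -b`
      have hy' : y = -b := by linear_combination hy
      subst hxa hy'
      refine ⟨N 0 0, - N 1 0, Or.inr ?_⟩
      have h01 : N 0 1 = N 1 0 := by
        have : b * (N 0 1 - N 1 0) = 0 := by linear_combination e00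
        rcases mul_eq_zero.mp this with h5 | h5
        · exact absurd h5 hb
        · linear_combination h5
      have h11 : N 1 1 = - N 0 0 := by
        have : b * (N 1 1 + N 0 0) = 0 := by linear_combination (-1 : F) * e01
        rcases mul_eq_zero.mp this with h5 | h5
        · exact absurd h5 hb
        · linear_combination h5
      ext i j
      fin_cases i <;> fin_cases j <;>
        simp [torM, h01, h11, Matrix.mul_apply, Fin.sum_univ_two]
  · -- `n s n⁻¹ = s^i f`: then `s²` is scalar, impossible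
    exfalso
    set R : Matrix (Fin 2) (Fin 2) F := torM x y * !![1, 0; 0, -1] with hR
    have hN : N * torM a b = R * N := by
      have h1 : n * torGL a b h = torGL a b h ^ i * fmGL * n := by
        rw [← hi]; group
      have h2' := congrArg (fun g : GL (Fin 2) F => (g : Matrix (Fin 2) (Fin 2) F)) h1
      simp only [Units.val_mul] at h2'
      rw [hxy, coe_torGL, coe_fmGL] at h2'
      exact h2'
    have hRR : R * R = (x * x + y * y) • (1 : Matrix (Fin 2) (Fin 2) F) := by
      rw [hR]
      ext i j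
      fin_cases i <;> fin_cases j <;>
        simp [torM, Matrix.mul_apply, Fin.sum_univ_two] <;> ring
    have h1 : N * (torM a b * torM a b) = (R * R) * N := by
      rw [← mul_assoc, hN, mul_assoc, hN, ← mul_assoc]
    have h3 : torM a b * torM a b = (x * x + y * y) • (1 : Matrix (Fin 2) (Fin 2) F) := by
      have h4 : ((n⁻¹ : GL (Fin 2) F) : Matrix (Fin 2) (Fin 2) F) * (N * (torM a b * torM a b))
          = torM a b * torM a b := by
        rw [← mul_assoc, hNinv, one_mul]
      rw [← h4, h1, hRR, Matrix.smul_mul, one_mul, Matrix.mul_smul, hNinv]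
    have e10 := congrFun (congrFun h3 1) 0
    rw [torM_mul] at e10
    simp [torM] at e10
    have h5 : (2 : F) * (a * b) = 0 := by linear_combination e10
    rcases mul_eq_zero.mp h5 with h6 | h6
    · exact h2 h6
    · rcases mul_eq_zero.mp h6 with h7 | h7
      · exact ha h7
      · exact hb h7

/-- **F2L3-SD3NORMA** (verbatim). -/
theorem norm_SDg_A (h2 : (2 : F) ≠ 0) (hns : ¬ IsSquare (-1 : F)) {m : ℕ} (hm : 2 ≤ m) (a b : F)
    (h : a * a + b * b = -1) (hs : torM a b ^ 2 ^ m = -1)
    (hf : (fmGL : GL (Fin 2) F) * torGL a b h * fmGL⁻¹ = (torGL a b h)⁻¹ * (-1))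
    (hnf : ∀ x ∈ SDg a b h, ∃ i : ℕ, x = torGL a b h ^ i ∨ x = torGL a b h ^ i * fmGL)
    (n : GL (Fin 2) F) (hn : ∀ x ∈ SDg a b h, n * x * n⁻¹ ∈ SDg a b h) :
    ∃ c d : F, (n : Matrix (Fin 2) (Fin 2) F) = torM c d ∨
      (n : Matrix (Fin 2) (Fin 2) F) = !![1, 0; 0, -1] * torM c d :=
  norm_SDg_A' h2 hm a b h hs hf hnf n hn

end Cfsg.Agent.Lib.Helper99_F2L3_SD3NORMA
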