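import Mathlib
import Cfsg.Prelude.Def_FusionSystem
import Cfsg.Agent.Lib.Helper87_F2L3Defs
import Cfsg.Agent.Lib.Helper99_F2L3_SD3S
import Cfsg.Agent.Lib.Helper99_F2L3_SD3NORMA

/-!
# F2L3-SD3NORMB (helper87's S5318 market): a torus element normalizing `SDg a b h` lies in
`SDg · scalars`
-/

set_option autoImplicit false

open Matrix Cfsg.Agent.Lib.Helper87_F2L3

namespace Cfsg.Agent.Lib.Helper99_F2L3_SD3NORMB

open Cfsg.Agent.Lib.Helper99_F2L3_SD3S Cfsg.Agent.Lib.Helper99_F2L3_SD3NORMA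

variable {F : Type*} [Field F]

theorem torM_comm (a b c d : F) : torM a b * torM c d = torM c d * torM a b := by
  rw [torM_mul, torM_mul]; congr 1 <;> ring

theorem torM_inj {a b c d : F} (hh : torM a b = torM c d) : a = c ∧ b = d := by
  have h0 := congrFun (congrFun hh 0) 0
  have h1 := congrFun (congrFun hh 1) 0
  simp [torM] at h0 h1
  exact ⟨h0, h1⟩

theorem torM_scalar (x : F) : torM x 0 = x • (1 : Matrix (Fin 2) (Fin 2) F) := by
  ext i j
  fin_cases i <;> fin_cases j <;> simp [torM]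

theorem coe_sc (e : Fˣ) : ((sc e : GL (Fin 2) F) : Matrix (Fin 2) (Fin 2) F) = torM (e : F) 0 := by
  ext i j
  fin_cases i <;> fin_cases j <;> simp [sc, dg, torM]

/-- If the matrix of `κ` is `e • S^k` (`e ≠ 0`), then `κ = s^k * sc e`. -/
theorem final_step (a b : F) (h : a * a + b * b = -1) (κ : GL (Fin 2) F) (e : F) (he : e ≠ 0)
    (k : ℕ) (hK : (κ : Matrix (Fin 2) (Fin 2) F) = torM e 0 * torM a b ^ k) :
    ∃ s₀ ∈ SDg a b h, ∃ e' : Fˣ, κ = s₀ * sc e' := by
  refine ⟨torGL a b h ^ k, pow_mem (torGL_mem a b h) k, Units.mk0 e he, ?_⟩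
  apply Units.ext
  rw [Units.val_mul, Units.val_pow_eq_pow_val, coe_torGL, coe_sc, hK]
  obtain ⟨x, y, hxy⟩ := torM_pow a b k
  rw [hxy, Units.val_mk0, torM_comm]

/-- `s^(2^(m-1))` is not scalar: conjugation by `diag(1,-1)` inverts it, and its square is
`-1 ≠ 1`. -/
theorem half_pow_not_scalar (h2 : (2 : F) ≠ 0) {m : ℕ} (hm : 2 ≤ m) (a b : F)
    (h : a * a + b * b = -1) (hs : torM a b ^ 2 ^ m = -1) (p : F)
    (hp : torM a b ^ 2 ^ (m - 1) = torM p 0) : False := by
  have hFS : SemiconjBy (!![1, 0; 0, -1] : Matrix (Fin 2) (Fin 2) F) (torM a b) (torM a (-b)) := by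
    show _ * _ = _ * _
    ext i j
    fin_cases i <;> fin_cases j <;> simp [torM, Matrix.mul_apply, Fin.sum_univ_two]
  have hFF : (!![1, 0; 0, -1] : Matrix (Fin 2) (Fin 2) F) * !![1, 0; 0, -1] = 1 := by
    ext i j
    fin_cases i <;> fin_cases j <;> simp [Matrix.mul_apply, Fin.sum_univ_two]
  have h1 := hFS.pow_right (2 ^ (m - 1))
  rw [hp] at h1
  have h1' : (!![1, 0; 0, -1] : Matrix (Fin 2) (Fin 2) F) * torM p 0
      = torM a (-b) ^ 2 ^ (m - 1) * !![1, 0; 0, -1] := h1
  have h3 : torM p 0 * (!![1, 0; 0, -1] : Matrix (Fin 2) (Fin 2) F)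
      = !![1, 0; 0, -1] * torM p 0 := by
    ext i j
    fin_cases i <;> fin_cases j <;> simp [torM, Matrix.mul_apply, Fin.sum_univ_two]
  have h4 : torM a (-b) ^ 2 ^ (m - 1) = torM p 0 := by
    have h5 := congrArg (fun M : Matrix (Fin 2) (Fin 2) F => M * !![1, 0; 0, -1]) h1'
    simp only [mul_assoc, hFF, mul_one] at h5
    rw [← h5, ← mul_assoc, ← h3, mul_assoc, hFF, mul_one]
  have hc : Commute (torM a b) (torM a (-b)) := by
    show _ * _ = _ * _
    rw [torM_mul, torM_mul]; congr 1 <;> ring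
  have h6 : torM p 0 * torM p 0 = 1 := by
    have h7 : (torM a b * torM a (-b)) ^ 2 ^ (m - 1) = torM p 0 * torM p 0 := by
      rw [hc.mul_pow, hp, h4]
    rw [← h7]
    have h8 : torM a b * torM a (-b) = -1 := by
      rw [torM_mul, ← torM_neg_one]
      congr 1
      · linear_combination h
      · ring
    rw [h8]
    obtain ⟨k, rfl⟩ : ∃ k, m = k + 2 := ⟨m - 2, by omega⟩
    have : 2 ^ (k + 2 - 1) = 2 * 2 ^ k := by
      rw [show k + 2 - 1 = k + 1 by omega, pow_succ]; ring
    rw [this, pow_mul]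
    simp
  have h9 : torM p 0 * torM p 0 = -1 := by
    rw [← hp, ← pow_add, ← hs]
    congr 1
    obtain ⟨k, rfl⟩ : ∃ k, m = k + 1 := ⟨m - 1, by omega⟩
    simp [pow_succ]
    ring
  rw [h6] at h9
  exact one_ne_neg_one_mat h2 h9

/-- **F2L3-SD3NORMB** without the hypothesis that `-1` is a non-square. -/
theorem norm_SDg_B' (h2 : (2 : F) ≠ 0) {m : ℕ} (hm : 2 ≤ m) (a b : F)
    (h : a * a + b * b = -1) (hs : torM a b ^ 2 ^ m = -1)
    (hf : (fmGL : GL (Fin 2) F) * torGL a b h * fmGL⁻¹ = (torGL a b h)⁻¹ * (-1))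
    (hnf : ∀ x ∈ SDg a b h, ∃ i : ℕ, x = torGL a b h ^ i ∨ x = torGL a b h ^ i * fmGL)
    (κ : GL (Fin 2) F) (c d : F) (hκ : (κ : Matrix (Fin 2) (Fin 2) F) = torM c d)
    (hn : ∀ x ∈ SDg a b h, κ * x * κ⁻¹ ∈ SDg a b h) :
    ∃ s₀ ∈ SDg a b h, ∃ e : Fˣ, κ = s₀ * sc e := by
  have hν : c * c + d * d ≠ 0 := by
    have h1 := (Matrix.GeneralLinearGroup.det κ).ne_zero
    rw [Matrix.GeneralLinearGroup.val_det_apply, hκ, det_torM] at h1
    exact h1
  have hff : (fmGL : GL (Fin 2) F) * fmGL = 1 := by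
    rw [fmGL, dg_mul]
    simp [dg_one]
  obtain ⟨G, hGdef⟩ : ∃ G : GL (Fin 2) F, G = κ * fmGL * κ⁻¹ * fmGL := ⟨_, rfl⟩
  have hG : G ∈ SDg a b h := by
    rw [hGdef]
    exact mul_mem (hn _ (fmGL_mem a b h)) (fmGL_mem a b h)
  have hGrel : G * fmGL * κ = κ * fmGL := by
    rw [hGdef, mul_assoc (κ * fmGL * κ⁻¹), hff, mul_one, inv_mul_cancel_right]
  have hGm := congrArg (fun g : GL (Fin 2) F => (g : Matrix (Fin 2) (Fin 2) F)) hGrel
  simp only [Units.val_mul] at hGm
  rw [coe_fmGL, hκ] at hGm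
  have hFK : (!![1, 0; 0, -1] : Matrix (Fin 2) (Fin 2) F) * torM c d
      = torM c (-d) * !![1, 0; 0, -1] := by
    ext i j
    fin_cases i <;> fin_cases j <;> simp [torM, Matrix.mul_apply, Fin.sum_univ_two]
  have hFF : (!![1, 0; 0, -1] : Matrix (Fin 2) (Fin 2) F) * !![1, 0; 0, -1] = 1 := by
    ext i j
    fin_cases i <;> fin_cases j <;> simp [Matrix.mul_apply, Fin.sum_univ_two]
  -- `G * K̄ = K`
  have hGK : (G : Matrix (Fin 2) (Fin 2) F) * torM c (-d) = torM c d := by
    have h1 : (G : Matrix (Fin 2) (Fin 2) F) * torM c (-d) * !![1, 0; 0, -1]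
        = torM c d * !![1, 0; 0, -1] := by
      rw [mul_assoc, ← hFK, ← mul_assoc]; exact hGm
    have h3 := congrArg (fun M : Matrix (Fin 2) (Fin 2) F => M * !![1, 0; 0, -1]) h1
    simp only [mul_assoc, hFF, mul_one] at h3
    exact h3
  -- `ν • G = K * K`
  have hGKK : (c * c + d * d) • (G : Matrix (Fin 2) (Fin 2) F) = torM c d * torM c d := by
    have h1 : torM c (-d) * torM c d = torM (c * c + d * d) 0 := by
      rw [torM_mul]; congr 1 <;> ring
    have h3 : (G : Matrix (Fin 2) (Fin 2) F) * torM c (-d) * torM c d = torM c d * torM c d := by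
      rw [hGK]
    rw [mul_assoc, h1, torM_scalar, Matrix.mul_smul, mul_one] at h3
    exact h3
  obtain ⟨j, hj⟩ := hnf G hG
  obtain ⟨x, y, hxy⟩ := coe_torGL_pow a b h j
  rcases hj with hj | hj
  · -- `G = s^j`
    have hGx : (G : Matrix (Fin 2) (Fin 2) F) = torM x y := by rw [hj, hxy]
    have hSj : torM a b ^ j = torM x y := by
      rw [← hxy, Units.val_pow_eq_pow_val, coe_torGL]
    -- determinant: `(-1)^j = 1`
    have hdet : x * x + y * y = 1 := by
      have h1 := congrArg Matrix.det hGKK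
      rw [hGx, Matrix.det_smul, Matrix.det_mul, det_torM, det_torM, Fintype.card_fin] at h1
      have h3 : (c * c + d * d) ^ 2 * (x * x + y * y - 1) = 0 := by linear_combination h1
      rcases mul_eq_zero.mp h3 with h4 | h4
      · exact absurd (pow_eq_zero_iff (two_ne_zero)|>.mp h4) hν
      · linear_combination h4
    have hdet' : (-1 : F) ^ j = 1 := by
      have h1 : (torM a b ^ j).det = (-1 : F) ^ j := by
        rw [Matrix.det_pow, det_torM, h]
      rw [← h1, hSj, det_torM, hdet]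
    have hjeven : Even j := by
      rcases Nat.even_or_odd j with he | ho
      · exact he
      · exfalso
        rw [ho.neg_one_pow] at hdet'
        apply h2
        linear_combination (-1 : F) * hdet'
    obtain ⟨i, hi⟩ := hjeven
    -- inverse of `S`
    have hSS : torM a b * torM (-a) b = 1 := by
      rw [torM_mul, ← torM_one]
      congr 1
      · linear_combination (-1 : F) * h
      · ring
    have hSS' : torM (-a) b * torM a b = 1 := by rw [torM_comm, hSS]
    have hcS : Commute (torM a b) (torM (-a) b) := torM_comm _ _ _ _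
    obtain ⟨u, v, huv⟩ := torM_pow (-a) b i
    -- `Λ = K * Sinv^i`
    have hΛ : torM c d * torM (-a) b ^ i = torM (c * u - d * v) (c * v + d * u) := by
      rw [huv, torM_mul]
    have hcK0 : Commute (torM c d) (torM (-a) b) := torM_comm _ _ _ _
    have hcK : Commute (torM c d) (torM (-a) b ^ i) := hcK0.pow_right i
    have hΛΛ : (torM c d * torM (-a) b ^ i) ^ 2 = (c * c + d * d) • (1 : Matrix (Fin 2) (Fin 2) F) := by
      rw [hcK.mul_pow, ← pow_mul, sq (torM c d), ← hGKK, hGx, ← hSj,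
        show i * 2 = j by omega, Matrix.smul_mul, ← hcS.mul_pow, hSS, one_pow]
    have hKΛ : torM c d = torM c d * torM (-a) b ^ i * torM a b ^ i := by
      rw [mul_assoc, ← hcS.symm.mul_pow, hSS', one_pow, mul_one]
    rw [hΛ] at hΛΛ hKΛ
    set x' := c * u - d * v with hx'
    set y' := c * v + d * u with hy'
    rw [sq, torM_mul, ← torM_scalar] at hΛΛ
    obtain ⟨e1, e2⟩ := torM_inj hΛΛ
    have h3 : (2 : F) * (x' * y') = 0 := by linear_combination e2
    rcases mul_eq_zero.mp h3 with h4 | h4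
    · exact absurd h4 h2
    rcases mul_eq_zero.mp h4 with h5 | h5
    · -- `x' = 0`: `Λ = y' • J`
      rw [h5] at e1 hKΛ
      have hy0 : y' ≠ 0 := by
        intro h6
        rw [h6] at e1
        apply hν
        rw [← e1]; ring
      -- `J` is a power of `S`
      have hJ : ∃ k : ℕ, torM (0 : F) 1 = torM a b ^ k := by
        obtain ⟨p, r, hpr⟩ := torM_pow a b (2 ^ (m - 1))
        have hWW : torM p r * torM p r = torM (-1) 0 := by
          rw [← hpr, ← pow_add, torM_neg_one, ← hs]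
          congr 1
          obtain ⟨k, rfl⟩ : ∃ k, m = k + 1 := ⟨m - 1, by omega⟩
          simp [pow_succ]
          ring
        rw [torM_mul] at hWW
        obtain ⟨w1, w2⟩ := torM_inj hWW
        have h7 : (2 : F) * (p * r) = 0 := by linear_combination w2
        rcases mul_eq_zero.mp h7 with h8 | h8
        · exact absurd h8 h2
        rcases mul_eq_zero.mp h8 with h9 | h9
        · rw [h9] at w1 hpr
          have h10 : (r - 1) * (r + 1) = 0 := by linear_combination (-1 : F) * w1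
          rcases mul_eq_zero.mp h10 with h11 | h11
          · have : r = 1 := by linear_combination h11
            rw [this] at hpr
            exact ⟨_, hpr.symm⟩
          · have : r = -1 := by linear_combination h11
            rw [this] at hpr
            refine ⟨2 ^ m + 2 ^ (m - 1), ?_⟩
            rw [pow_add, hs, hpr, neg_one_mul]
            ext i j
            fin_cases i <;> fin_cases j <;> simp [torM]
        · exfalso
          rw [h9] at hpr
          exact half_pow_not_scalar h2 hm a b h hs p hpr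
      obtain ⟨k, hk⟩ := hJ
      refine final_step a b h κ y' hy0 (k + i) ?_
      rw [hκ, hKΛ, pow_add, ← mul_assoc, ← hk, torM_mul]
      congr 2 <;> ring
    · -- `y' = 0`
      rw [h5] at e1 hKΛ
      have hx0 : x' ≠ 0 := by
        intro h6
        rw [h6] at e1
        apply hν
        rw [← e1]; ring
      refine final_step a b h κ x' hx0 i ?_
      rw [hκ, hKΛ]
  · -- `G = s^j f`: impossible
    exfalso
    have hGx : (G : Matrix (Fin 2) (Fin 2) F) = torM x y * !![1, 0; 0, -1] := by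
      rw [hj, Units.val_mul, hxy, coe_fmGL]
    rw [hGx, torM_mul] at hGKK
    have e00 := congrFun (congrFun hGKK 0) 0
    have e11 := congrFun (congrFun hGKK 1) 1
    have e01 := congrFun (congrFun hGKK 0) 1
    have e10 := congrFun (congrFun hGKK 1) 0
    simp [torM] at e00 e11 e01 e10
    have k1 : (2 : F) * (c * c - d * d) = 0 := by linear_combination (-1 : F) * e00 - e11
    have k2 : (2 : F) * (c * d + d * c) = 0 := by linear_combination (-1 : F) * e10 + e01
    have k1' : c * c - d * d = 0 := (mul_eq_zero.mp k1).resolve_left h2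
    have k2' : c * d + d * c = 0 := (mul_eq_zero.mp k2).resolve_left h2
    have k3 : (2 : F) * (c * d) = 0 := by linear_combination k2'
    have k3' : c * d = 0 := (mul_eq_zero.mp k3).resolve_left h2
    rcases mul_eq_zero.mp k3' with hc | hd
    · apply hν
      rw [hc] at k1' ⊢
      linear_combination (-1 : F) * k1'
    · apply hν
      rw [hd] at k1' ⊢
      linear_combination k1'

/-- **F2L3-SD3NORMB** (verbatim). -/
theorem norm_SDg_B (h2 : (2 : F) ≠ 0) (hns : ¬ IsSquare (-1 : F)) {m : ℕ} (hm : 2 ≤ m) (a b : F)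
    (h : a * a + b * b = -1) (hs : torM a b ^ 2 ^ m = -1)
    (hf : (fmGL : GL (Fin 2) F) * torGL a b h * fmGL⁻¹ = (torGL a b h)⁻¹ * (-1))
    (hnf : ∀ x ∈ SDg a b h, ∃ i : ℕ, x = torGL a b h ^ i ∨ x = torGL a b h ^ i * fmGL)
    (κ : GL (Fin 2) F) (c d : F) (hκ : (κ : Matrix (Fin 2) (Fin 2) F) = torM c d)
    (hn : ∀ x ∈ SDg a b h, κ * x * κ⁻¹ ∈ SDg a b h) :
    ∃ s₀ ∈ SDg a b h, ∃ e : Fˣ, κ = s₀ * sc e :=
  norm_SDg_B' h2 hm a b h hs hf hnf κ c d hκ hn

end Cfsg.Agent.Lib.Helper99_F2L3_SD3NORMB
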