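import Mathlib
import Cfsg.Prelude.Def_FusionSystem
import Cfsg.Agent.Lib.Helper87_F2L3Defs
import Cfsg.Agent.Lib.Helper87_F2L3Crit
import Cfsg.Agent.Lib.Helper5_PSLCard
import Cfsg.Agent.Lib.Helper20_F2L3_ARITH3
import Cfsg.Agent.Lib.Helper20_F2L3_WNORM
import Cfsg.Agent.Lib.Helper46_F2L3_ASMA
import Cfsg.Agent.Lib.Helper46_F2L3_INVB
import Cfsg.Agent.Lib.Helper60_F2L3_ARITH1
import Cfsg.Agent.Lib.Helper60_F2L3_CARD3
import Cfsg.Agent.Lib.Helper60_F2L3_QUOT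
import Cfsg.Agent.Lib.Helper60_F2L3_W1MU
import Cfsg.Agent.Lib.Helper61_F2L3_WCARD
import Cfsg.Agent.Lib.Helper86_F2L3_ASMB
import Cfsg.Agent.Lib.Helper86_F2L3_CENT3
import Cfsg.Agent.Lib.Helper86_F2L3_SD3CENT
import Cfsg.Agent.Lib.Helper86_F2L3_SD3CONJ
import Cfsg.Agent.Lib.Helper87_F2L3_SD3CARD
import Cfsg.Agent.Lib.Helper87_F2L3_SD3GEN
import Cfsg.Agent.Lib.Helper87_F2L3_SD3NF
import Cfsg.Agent.Lib.Helper87_F2L3_WGEN
import Cfsg.Agent.Lib.Helper89_F2L3_INVC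
import Cfsg.Agent.Lib.Helper89_F2L3_IOTA
import Cfsg.Agent.Lib.Helper89_F2L3_TRANSFER
import Cfsg.Agent.Lib.Helper89_F2L3_WCENT
import Cfsg.Agent.Lib.Helper89_F2L3_WEYL
import Cfsg.Agent.Lib.Helper99_F2L3_SD3NORMA
import Cfsg.Agent.Lib.Helper99_F2L3_SD3NORMB
import Cfsg.Agent.Lib.Helper99_F2L3_SD3S

/-!
# S5318 assembly: the 2-fusion system of `PSL₃(F)`, `|F|` odd, is simple (architect helper87)
-/

set_option autoImplicit false

namespace Cfsg.Agent.Lib.Helper87_F2L3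

open Matrix

variable {F : Type*} [Field F] [Fintype F]

theorem two_ne_zero_of_odd' (hodd : Fintype.card F % 2 = 1) : (2 : F) ≠ 0 := by
  intro h
  have h' : ((2 : ℕ) : F) = 0 := by exact_mod_cast h
  have := CharP.ringChar_of_prime_eq_zero Nat.prime_two h'
  have := FiniteField.even_card_of_char_two this
  omega

/-- `2^k ∥ n` decomposition with `4 ∣ n`. -/
theorem exists_two_pow_mul_odd_of_four_dvd {n : ℕ} (hn : n ≠ 0) (h4 : 4 ∣ n) :
    ∃ k u : ℕ, 2 ≤ k ∧ Odd u ∧ n = 2 ^ k * u := by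
  obtain ⟨k, u, hu, rfl⟩ := Nat.exists_eq_two_pow_mul_odd hn
  refine ⟨k, u, ?_, hu, rfl⟩
  by_contra hk
  have hk' : k = 0 ∨ k = 1 := by omega
  obtain ⟨j, rfl⟩ := hu
  rcases hk' with rfl | rfl
  · omega
  · omega

/-- Case `q ≡ 1 mod 4`: the wreathed group. -/
theorem gl2syl_one (h2 : (2 : F) ≠ 0) {k u : ℕ} (hk : 2 ≤ k) (hu : Odd u)
    (hq : Fintype.card F - 1 = 2 ^ k * u) : GL2Syl F (Wr (rootsOfUnity (2 ^ k) F)) := by
  obtain ⟨hcard, i, hi, hii⟩ := Cfsg.Agent.Lib.Helper60_F2L3_W1MU.mu_facts (F := F) hk hq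
  have hneg : (-1 : Fˣ) ∈ rootsOfUnity (2 ^ k) F := by
    rw [← hii]
    exact Subgroup.mul_mem _ hi hi
  refine ⟨?_, ?_, ?_, ?_, ?_⟩
  · rw [Cfsg.Agent.Lib.Helper61_F2L3_WCARD.card_Wr, hcard, Cfsg.Agent.Lib.Helper60_F2L3_ARITH1.arith1 hk hu hq]
    ring
  · refine ⟨-1, hneg, -1, hneg, Or.inl ?_⟩
    apply Units.ext
    ext a b
    fin_cases a <;> fin_cases b <;> simp [dg]
  · intro z hz hzz hz1 hc
    exact Cfsg.Agent.Lib.Helper89_F2L3_WCENT.cent_Wr h2 _ hneg z hz hzz hz1 hc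
  · intro T₂ hT hinv _ hW
    exact Cfsg.Agent.Lib.Helper87_F2L3_WGEN.gen_Wr _ T₂ hT hinv hW
  · intro n hn
    exact Cfsg.Agent.Lib.Helper20_F2L3_WNORM.norm_Wr h2 _ i hi hii n hn

/-- Case `q ≡ 3 mod 4`: the semidihedral group. -/
theorem gl2syl_three (h2 : (2 : F) ≠ 0) (hns : ¬ IsSquare (-1 : F)) {m u : ℕ} (hm : 2 ≤ m)
    (hu : Odd u) (hq : Fintype.card F + 1 = 2 ^ m * u) :
    ∃ S₂ : Subgroup (GL (Fin 2) F), GL2Syl F S₂ := by
  obtain ⟨a, b, h, hs⟩ := Cfsg.Agent.Lib.Helper99_F2L3_SD3S.exists_tor (F := F) hm hu hq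
  obtain ⟨hf, hnf⟩ := Cfsg.Agent.Lib.Helper87_F2L3_SD3NF.sd_normal_form a b h hs
  have hsGL : torGL a b h ^ 2 ^ m = -1 := by
    apply Units.ext
    rw [Units.val_pow_eq_pow_val]
    exact hs
  have hfmem : (fmGL : GL (Fin 2) F) ∈ SDg a b h := Subgroup.subset_closure (Or.inr rfl)
  have hsmem : torGL a b h ∈ SDg a b h := Subgroup.subset_closure (Or.inl rfl)
  refine ⟨SDg a b h, ?_, ?_, ?_, ?_, ?_⟩
  · rw [Cfsg.Agent.Lib.Helper87_F2L3_SD3CARD.card_SDg h2 hm a b h hs hf hnf, Cfsg.Agent.Lib.Helper20_F2L3_ARITH3.arith3 hm hu hq]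
  · rw [← hsGL]
    exact Subgroup.pow_mem _ hsmem _
  · intro z hz hzz hz1 hc
    exact Cfsg.Agent.Lib.Helper86_F2L3_SD3CENT.cent_SDg h2 hns hm a b h hs hf hnf z hz hzz hz1 hc
  · intro T₂ hT hinv hSC _
    exact Cfsg.Agent.Lib.Helper87_F2L3_SD3GEN.gen_SDg hm a b h hs hf (Cfsg.Agent.Lib.Helper86_F2L3_SD3CONJ.conj_of_sq hns) T₂ hT hinv hSC
  · intro n hn
    obtain ⟨c, d, hcd | hcd⟩ := Cfsg.Agent.Lib.Helper99_F2L3_SD3NORMA.norm_SDg_A h2 hns hm a b h hs hf hnf n hn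
    · exact Cfsg.Agent.Lib.Helper99_F2L3_SD3NORMB.norm_SDg_B h2 hns hm a b h hs hf hnf n c d hcd hn
    · -- `n = fm * κ`
      have hff : (fmGL : GL (Fin 2) F) * fmGL = 1 := by
        unfold fmGL
        rw [dg_mul]
        simp [dg_one]
      have hfinv : (fmGL : GL (Fin 2) F)⁻¹ = fmGL := inv_eq_of_mul_eq_one_right hff
      have hfmat : ((fmGL : GL (Fin 2) F) : Matrix (Fin 2) (Fin 2) F) = !![1, 0; 0, -1] := by
        ext x y
        fin_cases x <;> fin_cases y <;> simp [fmGL, dg]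
      have hκ : ((fmGL * n : GL (Fin 2) F) : Matrix (Fin 2) (Fin 2) F) = torM c d := by
        rw [Units.val_mul, hcd, ← mul_assoc, hfmat]
        have : (!![1, 0; 0, -1] : Matrix (Fin 2) (Fin 2) F) * !![1, 0; 0, -1] = 1 := by
          ext x y
          fin_cases x <;> fin_cases y <;> simp [Matrix.mul_apply, Fin.sum_univ_two]
        rw [this, one_mul]
      have hn' : ∀ x ∈ SDg a b h, (fmGL * n) * x * (fmGL * n)⁻¹ ∈ SDg a b h := by
        intro x hx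
        have : (fmGL * n) * x * (fmGL * n)⁻¹ = fmGL * (n * x * n⁻¹) * fmGL⁻¹ := by group
        rw [this]
        exact Subgroup.mul_mem _ (Subgroup.mul_mem _ hfmem (hn x hx)) (Subgroup.inv_mem _ hfmem)
      obtain ⟨s₀, hs₀, e, he⟩ := Cfsg.Agent.Lib.Helper99_F2L3_SD3NORMB.norm_SDg_B h2 hns hm a b h hs hf hnf (fmGL * n) c d hκ hn'
      refine ⟨fmGL * s₀, Subgroup.mul_mem _ hfmem hs₀, e, ?_⟩
      rw [mul_assoc, ← he, ← mul_assoc, hff, one_mul]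

theorem exists_gl2syl (hodd : Fintype.card F % 2 = 1) :
    ∃ S₂ : Subgroup (GL (Fin 2) F), GL2Syl F S₂ := by
  have h2 := two_ne_zero_of_odd' hodd
  have hq2 : 2 ≤ Fintype.card F := Fintype.one_lt_card
  have h4 : Fintype.card F % 4 = 1 ∨ Fintype.card F % 4 = 3 := by omega
  rcases h4 with h4 | h4
  · obtain ⟨k, u, hk, hu, hq⟩ :=
      exists_two_pow_mul_odd_of_four_dvd (n := Fintype.card F - 1) (by omega)
        (by omega)
    exact ⟨_, gl2syl_one h2 hk hu hq⟩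
  · obtain ⟨m, u, hm, hu, hq⟩ :=
      exists_two_pow_mul_odd_of_four_dvd (n := Fintype.card F + 1) (by omega)
        (by omega)
    have hns : ¬ IsSquare (-1 : F) := by
      rw [FiniteField.isSquare_neg_one_iff]
      omega
    exact gl2syl_three h2 hns hm hu hq

/-- A Sylow 2-subgroup of `SL₃(F)` with `SCB`. -/
theorem exists_sylow_SL3 (hodd : Fintype.card F % 2 = 1) :
    ∃ P : Sylow 2 (SpecialLinearGroup (Fin 3) F),
      SCB (P : Subgroup (SpecialLinearGroup (Fin 3) F)) ∧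
        (P : Subgroup (SpecialLinearGroup (Fin 3) F)) ≠ ⊥ := by
  have h2 := two_ne_zero_of_odd' hodd
  obtain ⟨S₂, hS⟩ := exists_gl2syl (F := F) hodd
  obtain ⟨hinj, hneg, ht3, ht3'⟩ := Cfsg.Agent.Lib.Helper89_F2L3_IOTA.iota_facts (F := F) h2
  have hinv : ∀ u : SpecialLinearGroup (Fin 3) F, u * u = 1 → u ≠ 1 →
      ∃ g : SpecialLinearGroup (Fin 3) F, g * t3 * g⁻¹ = u :=
    fun u hu hne => Cfsg.Agent.Lib.Helper89_F2L3_INVC.invol_conj (Cfsg.Agent.Lib.Helper46_F2L3_INVB.invol_basis h2) u hu hne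
  have hcard : Nat.card (S₂.map (iota (F := F))) =
      2 ^ (Nat.card (SpecialLinearGroup (Fin 3) F)).factorization 2 := by
    rw [Cfsg.Agent.Lib.Helper60_F2L3_CARD3.card3 hodd, ← hS.card]
    exact Nat.card_congr (S₂.equivMapOfInjective _ hinj).toEquiv.symm
  refine ⟨Sylow.ofCard (S₂.map iota) hcard, ⟨?_, ?_⟩, ?_⟩
  · intro T hT hTne hSC
    exact Cfsg.Agent.Lib.Helper46_F2L3_ASMA.asm_A S₂ hS hinj hneg hinv Cfsg.Agent.Lib.Helper89_F2L3_WEYL.weyl T hT hTne hSC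
  · intro n hn
    exact Cfsg.Agent.Lib.Helper86_F2L3_ASMB.asm_B S₂ hS hinj hneg ⟨ht3, ht3'⟩ (Cfsg.Agent.Lib.Helper86_F2L3_CENT3.cent_t3 h2) n hn
  · intro hbot
    have hmem : (t3 : SpecialLinearGroup (Fin 3) F) ∈ S₂.map (iota (F := F)) :=
      ⟨-1, hS.neg_mem, hneg⟩
    have hmem' : (t3 : SpecialLinearGroup (Fin 3) F) ∈
        ((Sylow.ofCard (S₂.map iota) hcard : Sylow 2 (SpecialLinearGroup (Fin 3) F)) :
          Subgroup (SpecialLinearGroup (Fin 3) F)) := hmem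
    rw [hbot, Subgroup.mem_bot] at hmem'
    exact ht3' hmem'

/-- All Sylow `p`-subgroups of `G ⧸ Z(G)` have `SCB` and are nontrivial, if one Sylow `p`-subgroup of `G` does
and `p ∤ |Z(G)|`. -/
theorem scb_quotient {G : Type*} [Group G] [Finite G] {p : ℕ} [Fact p.Prime]
    (hZ : ¬ p ∣ Nat.card (Subgroup.center G)) (P : Sylow p G) (h : SCB (P : Subgroup G))
    (hne : (P : Subgroup G) ≠ ⊥) (Q : Sylow p (G ⧸ Subgroup.center G)) :
    SCB (Q : Subgroup (G ⧸ Subgroup.center G)) ∧ (Q : Subgroup (G ⧸ Subgroup.center G)) ≠ ⊥ := by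
  obtain ⟨P', hP'⟩ := Sylow.mapSurjective_surjective
    (QuotientGroup.mk'_surjective (Subgroup.center G)) p Q
  have hcoe : (Q : Subgroup (G ⧸ Subgroup.center G)) =
      (P' : Subgroup G).map (QuotientGroup.mk' (Subgroup.center G)) := by
    rw [← hP']
    rfl
  have h' : SCB (P' : Subgroup G) := Cfsg.Agent.Lib.Helper89_F2L3_TRANSFER.transfer P P' h
  have hne' : (P' : Subgroup G) ≠ ⊥ := by
    intro hb
    apply hne
    have h1 : Nat.card (P : Subgroup G) = Nat.card (P' : Subgroup G) := by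
      obtain ⟨g, rfl⟩ := MulAction.exists_smul_eq G P P'
      exact (Sylow.card_eq_multiplicity P).trans (Sylow.card_eq_multiplicity _).symm
    rw [hb, Subgroup.card_bot] at h1
    exact Subgroup.card_eq_one.mp h1
  rw [hcoe]
  exact Cfsg.Agent.Lib.Helper60_F2L3_QUOT.quot hZ P' h' hne'

theorem main (hodd : Fintype.card F % 2 = 1)
    (S : Sylow 2 (Matrix.ProjectiveSpecialLinearGroup (Fin 3) F)) :
    (Cfsg.groupFusionSystem
      (S : Subgroup (Matrix.ProjectiveSpecialLinearGroup (Fin 3) F))).IsSimple 2 := by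
  have : Fact (Nat.Prime 2) := ⟨Nat.prime_two⟩
  obtain ⟨P, hP, hPne⟩ := exists_sylow_SL3 (F := F) hodd
  have hZ : ¬ 2 ∣ Nat.card (Subgroup.center (SpecialLinearGroup (Fin 3) F)) := by
    rw [Cfsg.Agent.Lib.Helper5_PSLCard.card_center_SL 3 (by norm_num)]
    intro h
    have h3 : Nat.gcd (Fintype.card F - 1) 3 ∣ 3 := Nat.gcd_dvd_right _ _
    have := Nat.dvd_trans h h3
    omega
  obtain ⟨hS, hSne⟩ := scb_quotient hZ P hP hPne S
  exact crit S hSne hS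

end Cfsg.Agent.Lib.Helper87_F2L3
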