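import Mathlib
import Cfsg.Prelude.Def_FusionSystem
import Cfsg.Prelude.Def_Classical
import Cfsg.Prelude.Def_LieClassical
import Cfsg.Agent.Lib.Helper87_F2L3Defs
import Cfsg.Agent.Lib.Helper87_F2U3Defs
import Cfsg.Agent.Lib.Helper46_F2L3_ASMA

/-!
# F2U3-RELA (S5319 market): relative version of helper46's `asm_A` (proof adapted from
`Cfsg.Agent.Lib.Helper46_F2L3_ASMA.asm_A`).
-/

set_option autoImplicit false

open Matrix Cfsg.Agent.Lib.Helper87_F2L3

namespace Cfsg.Agent.Lib.Helper87_F2U3_RELA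

variable {F : Type*} [Field F]

/-- **F2U3-RELA**. -/
theorem asm_A_rel (U : Subgroup (SpecialLinearGroup (Fin 3) F)) (V : Subgroup (GL (Fin 2) F))
    (S₂ : Subgroup (GL (Fin 2) F)) [Finite S₂] (hp : IsPGroup 2 S₂) (hSV : S₂ ≤ V)
    (hcent : ∀ z ∈ S₂, z * z = 1 → z ≠ 1 → (∀ s ∈ S₂, z * s = s * z) → z = -1)
    (hgen : ∀ T₂ : Subgroup (GL (Fin 2) F), T₂ ≤ S₂ → (∀ u ∈ S₂, u * u = 1 → u ∈ T₂) →
      (∀ u ∈ T₂, ∀ g ∈ V, g * u * g⁻¹ ∈ S₂ → g * u * g⁻¹ ∈ T₂) →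
      (∀ a : Fˣ, dg a a⁻¹ ∈ T₂ → dg a 1 ∈ S₂ → dg a 1 ∈ T₂) → T₂ = S₂)
    (hVU : ∀ x ∈ V, iota x ∈ U)
    (hinj : Function.Injective (iota (F := F))) (hneg : iota (-1 : GL (Fin 2) F) = t3)
    (hinv : ∀ u ∈ U, u * u = 1 → u ≠ 1 → ∃ g ∈ U, g * t3 * g⁻¹ = u)
    (hweyl : ∀ a b : Fˣ, ∃ g ∈ U, g * iota (dg a b) * g⁻¹ = iota (dg a (a * b)⁻¹))
    (T : Subgroup (SpecialLinearGroup (Fin 3) F)) (hT : T ≤ S₂.map iota) (hTne : T ≠ ⊥)
    (hSC : ∀ t ∈ T, ∀ g ∈ U, g * t * g⁻¹ ∈ S₂.map iota → g * t * g⁻¹ ∈ T) :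
    T = S₂.map iota := by
  classical
  have hSU : S₂.map (iota (F := F)) ≤ U := by
    rintro _ ⟨x, hx, rfl⟩
    exact hVU x (hSV hx)
  -- `S̃` is a finite 2-group
  have hfin : Finite ↥(S₂.map (iota (F := F))) :=
    Finite.of_equiv _ (S₂.equivMapOfInjective _ hinj).toEquiv
  have hp' : IsPGroup 2 ↥(S₂.map (iota (F := F))) :=
    hp.of_equiv (S₂.equivMapOfInjective _ hinj)
  -- `T` is normal in `S̃`
  have hnorm : (T.subgroupOf (S₂.map iota)).Normal := by
    constructor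
    intro n hn g
    rw [Subgroup.mem_subgroupOf] at hn ⊢
    have : ((g * n * g⁻¹ : ↥(S₂.map iota)) : SpecialLinearGroup (Fin 3) F)
        = (g : SpecialLinearGroup (Fin 3) F) * n * (g : SpecialLinearGroup (Fin 3) F)⁻¹ := by
      simp
    rw [this]
    apply hSC _ hn _ (hSU g.2)
    rw [← this]
    exact (g * n * g⁻¹).2
  have hne : T.subgroupOf (S₂.map iota) ≠ ⊥ := by
    intro h
    apply hTne
    rw [Subgroup.subgroupOf_eq_bot] at h
    rw [eq_bot_iff]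
    intro x hx
    have : x ∈ T ⊓ S₂.map iota := ⟨hx, hT hx⟩
    rw [disjoint_iff.mp h] at this
    exact this
  obtain ⟨zt, hztT, hztc, hzt2, hzt1⟩ :=
    Cfsg.Agent.Lib.Helper46_F2L3_ASMA.exists_central_invol hp' _ hne
  rw [Subgroup.mem_subgroupOf] at hztT
  obtain ⟨z, hzS, hz⟩ := Subgroup.mem_map.mp zt.2
  -- `z` is a central involution of `S₂`
  have hzz : z * z = 1 := by
    apply hinj
    rw [map_mul, map_one, hz]
    have := congrArg Subtype.val hzt2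
    simpa using this
  have hz1 : z ≠ 1 := by
    intro h
    apply hzt1
    apply Subtype.ext
    rw [← hz, h, map_one]
    rfl
  have hzc : ∀ s ∈ S₂, z * s = s * z := by
    intro s hs
    apply hinj
    rw [map_mul, map_mul, hz]
    have h1 := Subgroup.mem_center_iff.mp hztc ⟨iota s, Subgroup.mem_map_of_mem _ hs⟩
    have h2 := congrArg Subtype.val h1
    simpa using h2.symm
  have hzneg : z = -1 := hcent z hzS hzz hz1 hzc
  have ht3T : (t3 : SpecialLinearGroup (Fin 3) F) ∈ T := by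
    rw [← hneg, ← hzneg, hz]
    exact hztT
  -- every involution of `S̃` lies in `T`
  have hinvT : ∀ u ∈ S₂.map iota, u * u = 1 → u ∈ T := by
    intro u huS huu
    by_cases hu1 : u = 1
    · rw [hu1]; exact T.one_mem
    · obtain ⟨g, hgU, hg⟩ := hinv u (hSU huS) huu hu1
      rw [← hg]
      apply hSC _ ht3T _ hgU
      rw [hg]
      exact huS
  -- the subgroup `T₂`
  have hgen' : T.comap iota ⊓ S₂ = S₂ := by
    apply hgen
    · exact inf_le_right
    · intro u huS huu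
      refine Subgroup.mem_inf.mpr ⟨Subgroup.mem_comap.mpr ?_, huS⟩
      apply hinvT _ (Subgroup.mem_map_of_mem _ huS)
      rw [← map_mul, huu, map_one]
    · intro u hu g hgV hg
      rw [Subgroup.mem_inf, Subgroup.mem_comap] at hu
      refine Subgroup.mem_inf.mpr ⟨Subgroup.mem_comap.mpr ?_, hg⟩
      rw [map_mul, map_mul, map_inv]
      apply hSC _ hu.1 _ (hVU g hgV)
      rw [← map_inv, ← map_mul, ← map_mul]
      exact Subgroup.mem_map_of_mem _ hg
    · intro a ha ha1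
      rw [Subgroup.mem_inf, Subgroup.mem_comap] at ha
      refine Subgroup.mem_inf.mpr ⟨Subgroup.mem_comap.mpr ?_, ha1⟩
      obtain ⟨g, hgU, hg⟩ := hweyl a a⁻¹
      rw [mul_inv_cancel, inv_one] at hg
      rw [← hg]
      apply hSC _ ha.1 _ hgU
      rw [hg]
      exact Subgroup.mem_map_of_mem _ ha1
  apply le_antisymm hT
  rw [Subgroup.map_le_iff_le_comap]
  intro x hx
  have : x ∈ T.comap iota ⊓ S₂ := by rw [hgen']; exact hx
  exact (Subgroup.mem_inf.mp this).1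

end Cfsg.Agent.Lib.Helper87_F2U3_RELA
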