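import Mathlib
import Cfsg.Prelude.Def_FusionSystem
import Cfsg.Prelude.Def_Classical
import Cfsg.Prelude.Def_LieClassical
import Cfsg.Agent.Lib.Helper87_F2L3Defs
import Cfsg.Agent.Lib.Helper87_F2U3Defs
import Cfsg.Agent.Lib.Helper86_F2L3_ASMB

/-!
# F2U3-RELB (S5319 market): relative version of helper86's `asm_B` (proof adapted from
`Cfsg.Agent.Lib.Helper86_F2L3_ASMB.asm_B`).
-/

set_option autoImplicit false

open Matrix Cfsg.Agent.Lib.Helper87_F2L3 Cfsg.Agent.Lib.Helper86_F2L3_ASMB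

namespace Cfsg.Agent.Lib.Helper87_F2U3_RELB

variable {F : Type*} [Field F]

/-- If conjugation by `n` maps the finite subgroup `S` into itself, so does conjugation by `n⁻¹`. -/
theorem conj_inv_mem' {G : Type*} [Group G] (S : Subgroup G) [Finite S] (n : G)
    (hn : ∀ s ∈ S, n * s * n⁻¹ ∈ S) : ∀ s ∈ S, n⁻¹ * s * n ∈ S := by
  let f : S → S := fun s => ⟨n * s * n⁻¹, hn s s.2⟩
  have hinj : Function.Injective f := by
    intro a b hab
    have h1 : n * (a : G) * n⁻¹ = n * (b : G) * n⁻¹ := congrArg Subtype.val hab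
    apply Subtype.ext
    have : (a : G) = n⁻¹ * (n * (a : G) * n⁻¹) * n := by group
    rw [this, h1]
    group
  have hsurj : Function.Surjective f := Finite.injective_iff_surjective.mp hinj
  intro s hs
  obtain ⟨s', hs'⟩ := hsurj ⟨s, hs⟩
  have h1 : n * (s' : G) * n⁻¹ = s := congrArg Subtype.val hs'
  rw [← h1]
  have : n⁻¹ * (n * (s' : G) * n⁻¹) * n = s' := by group
  rw [this]
  exact s'.2

/-- **F2U3-RELB**. -/
theorem asm_B_rel (U : Subgroup (SpecialLinearGroup (Fin 3) F)) (V : Subgroup (GL (Fin 2) F))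
    (S₂ : Subgroup (GL (Fin 2) F)) [Finite S₂] (hneg_mem : (-1 : GL (Fin 2) F) ∈ S₂)
    (hcent : ∀ z ∈ S₂, z * z = 1 → z ≠ 1 → (∀ s ∈ S₂, z * s = s * z) → z = -1)
    (hnorm : ∀ n ∈ V, (∀ s ∈ S₂, n * s * n⁻¹ ∈ S₂) → ∃ s₀ ∈ S₂, ∃ c : Fˣ, n = s₀ * sc c)
    (hinj : Function.Injective (iota (F := F))) (hneg : iota (-1 : GL (Fin 2) F) = t3)
    (ht3 : (t3 : SpecialLinearGroup (Fin 3) F) * t3 = 1 ∧ (t3 : SpecialLinearGroup (Fin 3) F) ≠ 1)
    (hcentU : ∀ n ∈ U, n * t3 = t3 * n → ∃ m ∈ V, iota m = n)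
    (n : SpecialLinearGroup (Fin 3) F) (hnU : n ∈ U)
    (hn : ∀ s ∈ S₂.map iota, n * s * n⁻¹ ∈ S₂.map iota) :
    ∃ s₀ ∈ S₂.map iota, ∀ x ∈ S₂.map iota, n * x * n⁻¹ = s₀ * x * s₀⁻¹ := by
  classical
  have hfin : Finite ↥(S₂.map (iota (F := F))) :=
    Finite.of_equiv _ (S₂.equivMapOfInjective _ hinj).toEquiv
  have hn' := conj_inv_mem' (S₂.map iota) n hn
  have ht3mem : (t3 : SpecialLinearGroup (Fin 3) F) ∈ S₂.map iota :=
    ⟨-1, hneg_mem, hneg⟩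
  -- t3 commutes with all of S̃
  have ht3comm : ∀ s ∈ S₂.map (iota (F := F)), t3 * s = s * t3 := by
    rintro s ⟨y, -, rfl⟩
    rw [← hneg, ← map_mul, ← map_mul, neg_one_comm]
  -- w = n t3 n⁻¹
  obtain ⟨z, hzS, hzw⟩ := hn _ ht3mem
  have hzz : z * z = 1 := by
    apply hinj
    rw [map_mul, hzw, map_one]
    calc n * t3 * n⁻¹ * (n * t3 * n⁻¹) = n * (t3 * t3) * n⁻¹ := by group
      _ = 1 := by rw [ht3.1]; group
  have hz1 : z ≠ 1 := by
    intro h1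
    apply ht3.2
    rw [h1, map_one] at hzw
    have : n * t3 * n⁻¹ = 1 := hzw.symm
    calc (t3 : SpecialLinearGroup (Fin 3) F) = n⁻¹ * (n * t3 * n⁻¹) * n := by group
      _ = 1 := by rw [this]; group
  have hzc : ∀ s ∈ S₂, z * s = s * z := by
    intro s hs
    apply hinj
    rw [map_mul, map_mul, hzw]
    have hs' : n⁻¹ * iota s * n ∈ S₂.map (iota (F := F)) := hn' _ ⟨s, hs, rfl⟩
    have hc := ht3comm _ hs'
    calc n * t3 * n⁻¹ * iota s = n * (t3 * (n⁻¹ * iota s * n)) * n⁻¹ := by group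
      _ = n * ((n⁻¹ * iota s * n) * t3) * n⁻¹ := by rw [hc]
      _ = iota s * (n * t3 * n⁻¹) := by group
  have hzneg : z = -1 := hcent z hzS hzz hz1 hzc
  have hnt : n * t3 = t3 * n := by
    rw [hzneg, hneg] at hzw
    calc n * t3 = (n * t3 * n⁻¹) * n := by group
      _ = t3 * n := by rw [← hzw]
  obtain ⟨m, hmV, rfl⟩ := hcentU n hnU hnt
  -- m normalizes S₂
  have hm : ∀ s ∈ S₂, m * s * m⁻¹ ∈ S₂ := by
    intro s hs
    obtain ⟨s'', hs'', he⟩ := hn _ ⟨s, hs, rfl⟩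
    have : s'' = m * s * m⁻¹ := by
      apply hinj
      rw [he, map_mul, map_mul, map_inv]
    rw [← this]; exact hs''
  obtain ⟨s₀, hs₀, c, rfl⟩ := hnorm m hmV hm
  refine ⟨iota s₀, ⟨s₀, hs₀, rfl⟩, ?_⟩
  rintro x ⟨y, -, rfl⟩
  rw [← map_inv, ← map_mul, ← map_mul, ← map_inv, ← map_mul, ← map_mul]
  congr 1
  have hcy : sc c * y * (sc c)⁻¹ = y := by
    rw [sc_comm, mul_assoc, mul_inv_cancel, mul_one]
  calc s₀ * sc c * y * (s₀ * sc c)⁻¹ = s₀ * (sc c * y * (sc c)⁻¹) * s₀⁻¹ := by group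
    _ = s₀ * y * s₀⁻¹ := by rw [hcy]

end Cfsg.Agent.Lib.Helper87_F2U3_RELB
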