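import Mathlib
import Cfsg.Prelude.Def_FusionSystem
import Cfsg.Prelude.Def_Classical
import Cfsg.Prelude.Def_LieClassical
import Cfsg.Agent.Lib.Helper87_F2L3Defs
import Cfsg.Agent.Lib.Helper87_F2U3Defs
import Cfsg.Agent.Lib.Helper87_F2L3_SD3CARD

set_option autoImplicit false

open Matrix Cfsg.Agent.Lib.Helper87_F2L3

namespace Cfsg.Agent.Lib.Helper87_F2U3_SD1CENT

variable {F : Type*} [Field F]

/-- **F2U3-SD1CENT**. -/
theorem cent_SDg' (h2 : (2 : F) ≠ 0) {m : ℕ} (hm : 2 ≤ m) (a b : F)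
    (h : a * a + b * b = -1) (hs : torM a b ^ 2 ^ m = -1)
    (hf : (fmGL : GL (Fin 2) F) * torGL a b h * fmGL⁻¹ = (torGL a b h)⁻¹ * (-1))
    (hnf : ∀ x ∈ SDg a b h, ∃ i : ℕ, x = torGL a b h ^ i ∨ x = torGL a b h ^ i * fmGL)
    (z : GL (Fin 2) F) (hz : z ∈ SDg a b h) (hzz : z * z = 1) (hz1 : z ≠ 1)
    (hc : ∀ s ∈ SDg a b h, z * s = s * z) : z = -1 := by
  obtain ⟨s, hsdef⟩ : ∃ s, s = torGL a b h := ⟨_, rfl⟩
  obtain ⟨f, hfdef⟩ : ∃ f : GL (Fin 2) F, f = fmGL := ⟨_, rfl⟩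
  rw [← hsdef, ← hfdef] at hf
  simp only [← hsdef, ← hfdef] at hnf
  have hsGL : s ^ 2 ^ m = -1 := by
    rw [hsdef]
    apply Units.ext
    rw [Units.val_pow_eq_pow_val]
    exact hs
  have hsmem : s ∈ SDg a b h := by rw [hsdef]; exact Subgroup.subset_closure (Or.inl rfl)
  have hne := Cfsg.Agent.Lib.Helper87_F2L3_SD3CARD.neg_one_ne_one_GL (F := F) h2
  have hord : orderOf s = 2 ^ (m + 1) := by
    apply orderOf_eq_prime_pow
    · rw [hsGL]; exact hne
    · rw [pow_succ, pow_mul, hsGL]; simp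
  obtain ⟨i, rfl | rfl⟩ := hnf z hz
  · -- `z = s ^ i`
    have h1 : s ^ (2 * i) = 1 := by
      rw [two_mul, pow_add]
      exact hzz
    have h3 : 2 ^ (m + 1) ∣ 2 * i := by
      rw [← hord]
      exact orderOf_dvd_of_pow_eq_one h1
    have h4 : 2 ^ m ∣ i := by
      rw [pow_succ, mul_comm] at h3
      exact Nat.dvd_of_mul_dvd_mul_left (by norm_num) h3
    obtain ⟨r, rfl⟩ := h4
    rw [pow_mul, hsGL] at hz1 ⊢
    rcases neg_one_pow_eq_or (GL (Fin 2) F) r with h5 | h5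
    · exact absurd h5 hz1
    · exact h5
  · -- `z = s ^ i * f` does not commute with `s`
    exfalso
    have h1 := hc s hsmem
    have hcomm : f * s = s * f := by
      have : s ^ i * (f * s) = s ^ i * (s * f) := by
        rw [← mul_assoc, h1, ← mul_assoc, ← mul_assoc, ← pow_succ, ← pow_succ']
      exact mul_left_cancel this
    have h5 : s = s⁻¹ * (-1) := by
      rw [← hf, hcomm, mul_assoc, mul_inv_cancel, mul_one]
    have h3 : s * s = -1 := by
      nth_rewrite 2 [h5]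
      rw [← mul_assoc, mul_inv_cancel, one_mul]
    obtain ⟨n, rfl⟩ : ∃ n, m = n + 2 := ⟨m - 2, by omega⟩
    have h4 : s ^ 2 ^ (n + 2) = 1 := by
      have : s ^ 2 ^ (n + 2) = ((s * s) * (s * s)) ^ 2 ^ n := by
        rw [← sq, ← sq, ← pow_mul, ← pow_mul]
        congr 1
        ring
      rw [this, h3]
      simp
    rw [hsGL] at h4
    exact hne h4

end Cfsg.Agent.Lib.Helper87_F2U3_SD1CENT
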