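import Mathlib
import Cfsg.Prelude.Def_FusionSystem
import Cfsg.Prelude.Def_Classical
import Cfsg.Prelude.Def_LieClassical
import Cfsg.Agent.Lib.Helper87_F2L3Defs
import Cfsg.Agent.Lib.Helper87_F2U3Defs
import Cfsg.Agent.Lib.Helper99_F2L3_SD3S

set_option autoImplicit false

open Matrix Cfsg.Agent.Lib.Helper87_F2L3

namespace Cfsg.Agent.Lib.Helper87_F2U3_SD1GEN

variable {F : Type*} [Field F]

theorem fmGL_mul_fmGL3 : (fmGL : GL (Fin 2) F) * fmGL = 1 := by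
  unfold fmGL
  rw [dg_mul]
  simp [dg_one]

theorem fmGL_val3 : ((fmGL : GL (Fin 2) F) : Matrix (Fin 2) (Fin 2) F) = !![1, 0; 0, -1] := by
  ext x y
  fin_cases x <;> fin_cases y <;> simp [fmGL, dg]

theorem fm_torM_fm3 (a b : F) :
    (!![1, 0; 0, -1] : Matrix (Fin 2) (Fin 2) F) * torM a b * !![1, 0; 0, -1] = torM a (-b) := by
  ext x y
  fin_cases x <;> fin_cases y <;> simp [torM, Matrix.mul_apply, Fin.sum_univ_two]

theorem trace_torM_mul_fm (a b : F) :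
    Matrix.trace (torM a b * (!![1, 0; 0, -1] : Matrix (Fin 2) (Fin 2) F)) = 0 := by
  rw [Matrix.trace_fin_two]
  simp [torM, Matrix.mul_apply, Fin.sum_univ_two]

theorem trace_torM (c d : F) : Matrix.trace (torM c d) = c + c := by
  rw [Matrix.trace_fin_two]
  simp [torM]

/-- **F2U3-SD1GEN**. -/
theorem gen_SDg_rel (h2 : (2 : F) ≠ 0) (V : Subgroup (GL (Fin 2) F)) {m : ℕ} (hm : 2 ≤ m) (a b : F)
    (h : a * a + b * b = -1) (hs : torM a b ^ 2 ^ m = -1)
    (hf : (fmGL : GL (Fin 2) F) * torGL a b h * fmGL⁻¹ = (torGL a b h)⁻¹ * (-1))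
    (hSV : SDg a b h ≤ V)
    (hconj : ∀ A B : GL (Fin 2) F, A ∈ V → B ∈ V → A * A = -1 → B * B = -1 →
      Matrix.trace (A : Matrix (Fin 2) (Fin 2) F) = 0 →
      Matrix.trace (B : Matrix (Fin 2) (Fin 2) F) = 0 → ∃ g ∈ V, g * A * g⁻¹ = B)
    (T₂ : Subgroup (GL (Fin 2) F)) (hT : T₂ ≤ SDg a b h)
    (hinv : ∀ u ∈ SDg a b h, u * u = 1 → u ∈ T₂)
    (hSC : ∀ u ∈ T₂, ∀ g ∈ V, g * u * g⁻¹ ∈ SDg a b h → g * u * g⁻¹ ∈ T₂) :
    T₂ = SDg a b h := by
  obtain ⟨s, hsdef⟩ : ∃ s, s = torGL a b h := ⟨_, rfl⟩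
  obtain ⟨f, hfdef⟩ : ∃ f : GL (Fin 2) F, f = fmGL := ⟨_, rfl⟩
  rw [← hsdef, ← hfdef] at hf
  have hff : f * f = 1 := by rw [hfdef]; exact fmGL_mul_fmGL3
  have hfinv : f⁻¹ = f := inv_eq_of_mul_eq_one_right hff
  have hsGL : s ^ 2 ^ m = -1 := by
    rw [hsdef]
    apply Units.ext
    rw [Units.val_pow_eq_pow_val]
    exact hs
  have hfmem : f ∈ SDg a b h := by rw [hfdef]; exact Subgroup.subset_closure (Or.inr rfl)
  have hsmem : s ∈ SDg a b h := by rw [hsdef]; exact Subgroup.subset_closure (Or.inl rfl)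
  have hfs : f * s = s⁻¹ * (-1) * f := by
    rw [← hf, hfinv, mul_assoc, mul_assoc, hff, mul_one]
  have hnegc : ∀ x : GL (Fin 2) F, (-1 : GL (Fin 2) F) * x = x * (-1) := by
    intro x; simp
  have hnn : (-1 : GL (Fin 2) F) * (-1) = 1 := by simp
  have hfT : f ∈ T₂ := hinv f hfmem hff
  have hs2f : s * s * f ∈ T₂ := by
    apply hinv
    · exact Subgroup.mul_mem _ (Subgroup.mul_mem _ hsmem hsmem) hfmem
    · have : s * s * f * (s * s * f) = s * s * (f * s) * (s * f) := by group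
      rw [this, hfs]
      have : s * s * (s⁻¹ * -1 * f) * (s * f) = s * (-1) * (f * s) * f := by group
      rw [this, hfs]
      have : s * -1 * (s⁻¹ * -1 * f) * f = s * ((-1) * s⁻¹) * (-1) * (f * f) := by group
      rw [this, hnegc, hff]
      have : s * (s⁻¹ * -1) * -1 * 1 = (-1 : GL (Fin 2) F) * (-1) := by group
      rw [this, hnn]
  have hs2 : s * s ∈ T₂ := by
    have := T₂.mul_mem hs2f hfT
    rwa [mul_assoc, hff, mul_one] at this
  obtain ⟨n, rfl⟩ : ∃ n, m = n + 2 := ⟨m - 2, by omega⟩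
  have hy2 : s ^ 2 ^ (n + 1) ∈ T₂ := by
    have : s ^ 2 ^ (n + 1) = (s * s) ^ 2 ^ n := by
      rw [← sq, ← pow_mul, ← pow_succ']
    rw [this]
    exact T₂.pow_mem hs2 _
  have hy2sq : s ^ 2 ^ (n + 1) * s ^ 2 ^ (n + 1) = -1 := by
    rw [← pow_add, ← two_mul, ← pow_succ', hsGL]
  have hy1sq : (s * f) * (s * f) = -1 := by
    have : (s * f) * (s * f) = s * (f * s) * f := by group
    rw [this, hfs]
    have : s * (s⁻¹ * -1 * f) * f = (-1) * (f * f) := by group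
    rw [this, hff, mul_one]
  -- traces
  have htr1 : Matrix.trace ((s * f : GL (Fin 2) F) : Matrix (Fin 2) (Fin 2) F) = 0 := by
    rw [Units.val_mul, hsdef, hfdef, fmGL_val3]
    exact trace_torM_mul_fm a b
  have htr2 : Matrix.trace ((s ^ 2 ^ (n + 1) : GL (Fin 2) F) : Matrix (Fin 2) (Fin 2) F) = 0 := by
    obtain ⟨c, d, hcd⟩ := Cfsg.Agent.Lib.Helper99_F2L3_SD3S.torM_pow a b (2 ^ (n + 1))
    have hval : ((s ^ 2 ^ (n + 1) : GL (Fin 2) F) : Matrix (Fin 2) (Fin 2) F) = torM c d := by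
      rw [Units.val_pow_eq_pow_val, hsdef]
      exact hcd
    -- `f y₂ f⁻¹ = y₂⁻¹ = -y₂`
    have hconj2 : f * s ^ 2 ^ (n + 1) * f⁻¹ = (s ^ 2 ^ (n + 1))⁻¹ := by
      have hcm : Commute s⁻¹ (-1 : GL (Fin 2) F) := (hnegc s⁻¹).symm
      rw [← conj_pow, hf, hcm.mul_pow, inv_pow]
      have : (-1 : GL (Fin 2) F) ^ 2 ^ (n + 1) = 1 :=
        Even.neg_one_pow ⟨2 ^ n, by ring⟩
      rw [this, mul_one]
    have hinv2 : (s ^ 2 ^ (n + 1))⁻¹ = -(s ^ 2 ^ (n + 1)) := by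
      rw [inv_eq_iff_mul_eq_one, mul_neg, hy2sq, neg_neg]
    have hmat : torM c (-d) = torM (-c) (-d) := by
      have h1 := congrArg (fun g : GL (Fin 2) F => (g : Matrix (Fin 2) (Fin 2) F)) (hconj2.trans hinv2)
      simp only [Units.val_mul, Units.val_neg] at h1
      rw [hfinv, hval, hfdef, fmGL_val3, fm_torM_fm3] at h1
      rw [h1]
      ext x y
      fin_cases x <;> fin_cases y <;> simp [torM]
    have hc0 : c = 0 := by
      have h00 := congrFun (congrFun hmat 0) 0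
      simp [torM] at h00
      have : (2 : F) * c = 0 := by linear_combination h00
      rcases mul_eq_zero.mp this with h | h
      · exact absurd h h2
      · exact h
    rw [hval, trace_torM, hc0, add_zero]
  obtain ⟨g, hgV, hg⟩ := hconj _ _ (hSV (Subgroup.pow_mem _ hsmem _))
    (hSV (Subgroup.mul_mem _ hsmem hfmem)) hy2sq hy1sq htr2 htr1
  have hy1 : s * f ∈ T₂ := by
    have := hSC _ hy2 g hgV (by rw [hg]; exact Subgroup.mul_mem _ hsmem hfmem)
    rwa [hg] at this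
  have hsT : s ∈ T₂ := by
    have := T₂.mul_mem hy1 hfT
    rwa [mul_assoc, hff, mul_one] at this
  apply le_antisymm hT
  unfold SDg
  rw [Subgroup.closure_le]
  rintro x (rfl | rfl)
  · rw [← hsdef]; exact hsT
  · rw [← hfdef]; exact hfT

end Cfsg.Agent.Lib.Helper87_F2U3_SD1GEN
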