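import Mathlib
import Cfsg.Prelude.Def_FusionSystem
import Cfsg.Prelude.Def_Classical
import Cfsg.Prelude.Def_LieClassical
import Cfsg.Agent.Lib.Helper87_F2L3Defs
import Cfsg.Agent.Lib.Helper87_F2U3Defs

set_option autoImplicit false

open Matrix Cfsg.Agent.Lib.Helper87_F2L3

namespace Cfsg.Agent.Lib.Helper87_F2U3_SD1MEM

variable {F : Type*} [Field F]

theorem fmGL_mem_GU (q : ℕ) (hq : Odd q) : (fmGL : GL (Fin 2) F) ∈ Cfsg.GU 2 F q := by
  intro u v
  have hval : (Units.coeHom (Matrix (Fin 2) (Fin 2) F)) (fmGL : GL (Fin 2) F) = !![1, 0; 0, -1] := by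
    ext x y
    fin_cases x <;> fin_cases y <;> simp [fmGL, dg]
  rw [hval]
  unfold Cfsg.hermForm
  rw [Fin.sum_univ_two, Fin.sum_univ_two]
  simp only [Matrix.mulVec, dotProduct, Fin.sum_univ_two, Matrix.of_apply, Matrix.cons_val',
    Matrix.cons_val_zero, Matrix.cons_val_one, Matrix.cons_val_fin_one]
  have h1 : (-1 : F) ^ q = -1 := hq.neg_one_pow
  have h3 : (0 * u 0 + -1 * u 1) * (0 * v 0 + -1 * v 1) ^ q = u 1 * v 1 ^ q := by
    have : (0 * v 0 + -1 * v 1) = (-1) * v 1 := by ring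
    rw [this, mul_pow, h1]
    ring
  rw [h3]
  simp

/-- **F2U3-SD1MEM**. -/
theorem SDg_le_GU (q : ℕ) (hq : Odd q) (x y : F) (h : x * x + y * y = -1)
    (hmem : torGL x y h ∈ Cfsg.GU 2 F q) : SDg x y h ≤ Cfsg.GU 2 F q := by
  unfold SDg
  rw [Subgroup.closure_le]
  rintro z (rfl | rfl)
  · exact hmem
  · exact fmGL_mem_GU q hq

end Cfsg.Agent.Lib.Helper87_F2U3_SD1MEM
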