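import Mathlib
import Cfsg.Prelude.Def_FusionSystem
import Cfsg.Prelude.Def_Classical
import Cfsg.Prelude.Def_LieClassical
import Cfsg.Agent.Lib.Helper87_F2L3Defs
import Cfsg.Agent.Lib.Helper87_F2U3Defs
import Cfsg.Agent.Lib.Helper13_Herm
import Cfsg.Agent.Lib.Helper13_SU3Inv
import Cfsg.Agent.Lib.Helper5_GUOrder

/-!
# S5319 package F2U3-SD1CONJV (architect helper87, proof helper91)

`|F| = q²`, `q ≡ 1 mod 4`, `A ∈ GU₂` with `A * A = -1`, `trace A = 0`: there is a unit vector `v`
with `(v, A v) = 0`.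
-/

set_option autoImplicit false

open Matrix Cfsg.Agent.Lib.Helper87_F2L3

namespace Cfsg.Agent.Lib.Helper91_F2U3_SD1CONJV

open Cfsg.Agent.Lib.Helper13_Herm Cfsg.Agent.Lib.Helper13_SU3Inv Cfsg.Agent.Lib.Helper5_GUOrder

variable {F : Type*} [Field F]

/-- a square root `i` of `-1` fixed by the `q`-th power map (`q ≡ 1 mod 4`) -/
theorem exists_i [Fintype F] {q : ℕ} (hF : Fintype.card F = q ^ 2) (hq1 : q % 4 = 1) :
    ∃ i : F, i * i = -1 ∧ i ^ q = i := by
  have hsq : IsSquare (-1 : F) := by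
    rw [FiniteField.isSquare_neg_one_iff, hF]
    have : q ^ 2 % 4 = 1 := by
      rw [Nat.pow_mod, hq1]
    omega
  obtain ⟨i, hi⟩ := hsq
  refine ⟨i, hi.symm, ?_⟩
  have h4 : i ^ 4 = 1 := by
    have : i ^ 4 = (i * i) * (i * i) := by ring
    rw [this, ← hi]
    ring
  obtain ⟨m, hm⟩ : ∃ m, q = 4 * m + 1 := ⟨q / 4, by omega⟩
  rw [hm, pow_succ, pow_mul, h4, one_pow, one_mul]

/-- **F2U3-SD1CONJV** [L]. -/
theorem exists_unit_perp [Fintype F] {q : ℕ} (hF : Fintype.card F = q ^ 2) (hq1 : q % 4 = 1)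
    (A : GL (Fin 2) F) (hA : A ∈ Cfsg.GU 2 F q) (hAA : A * A = -1)
    (htr : Matrix.trace (A : Matrix (Fin 2) (Fin 2) F) = 0) :
    ∃ v : Fin 2 → F, Cfsg.hermForm 2 F q v v = 1 ∧
      Cfsg.hermForm 2 F q v ((A : Matrix (Fin 2) (Fin 2) F) *ᵥ v) = 0 := by
  have hqodd : Odd q := by
    rw [Nat.odd_iff]
    omega
  have hq0 : q ≠ 0 := by have := two_le_q hF; omega
  have h2 : (2 : F) ≠ 0 := two_ne_zero_of_odd hF hqodd
  have h2q : (2 : F) ^ q = 2 := two_pow_q hF
  obtain ⟨i, hi, hiq⟩ := exists_i hF hq1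
  have hniq : (-i) ^ q = -i := by rw [neg_pow_q hF, hiq]
  have hi0 : i ≠ 0 := by
    rintro rfl
    rw [mul_zero] at hi
    exact (neg_ne_zero.mpr one_ne_zero) hi.symm
  set M : Matrix (Fin 2) (Fin 2) F := (A : Matrix (Fin 2) (Fin 2) F) with hM
  have hU : ∀ u v, Cfsg.hermForm 2 F q (M *ᵥ u) (M *ᵥ v) = Cfsg.hermForm 2 F q u v :=
    (mem_GU_iff A).mp hA
  have hMM : M * M = -1 := by
    have := congrArg (fun x : GL (Fin 2) F => (x : Matrix (Fin 2) (Fin 2) F)) hAA
    simpa using this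
  have hMMv : ∀ w : Fin 2 → F, M *ᵥ (M *ᵥ w) = -w := by
    intro w
    rw [Matrix.mulVec_mulVec, hMM, Matrix.neg_mulVec, Matrix.one_mulVec]
  -- an eigenvector for `i`
  obtain ⟨w, hw⟩ : ∃ w : Fin 2 → F, M *ᵥ w + i • w ≠ 0 := by
    by_contra hcon
    have hall : ∀ w : Fin 2 → F, M *ᵥ w = -(i • w) := by
      intro w
      by_contra hw
      apply hcon
      refine ⟨w, fun h0 => hw ?_⟩
      exact eq_neg_of_add_eq_zero_left h0
    have h00 : M 0 0 = -i := by
      have := congrFun (hall (Pi.single 0 1)) 0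
      rw [Matrix.mulVec_single_one] at this
      simpa using this
    have h11 : M 1 1 = -i := by
      have := congrFun (hall (Pi.single 1 1)) 1
      rw [Matrix.mulVec_single_one] at this
      simpa using this
    rw [Matrix.trace_fin_two, h00, h11] at htr
    have : (2 : F) * i = 0 := by linear_combination (-1 : F) * htr
    rcases mul_eq_zero.mp this with h | h
    · exact h2 h
    · exact hi0 h
  set e : Fin 2 → F := M *ᵥ w + i • w with he_def
  have he : M *ᵥ e = i • e := by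
    rw [he_def, Matrix.mulVec_add, hMMv, Matrix.mulVec_smul, smul_add, smul_smul, hi]
    rw [neg_smul, one_smul]
    abel
  have hee : Cfsg.hermForm 2 F q e e = 0 := by
    have h1 := hU e e
    rw [he, hermForm_smul_left, hermForm_smul_right, hiq] at h1
    have : (2 : F) * Cfsg.hermForm 2 F q e e = 0 := by
      linear_combination (-1 : F) * h1 + (Cfsg.hermForm 2 F q e e) * hi
    rcases mul_eq_zero.mp this with h | h
    · exact absurd h h2
    · exact h
  obtain ⟨x, hx⟩ : ∃ x : Fin 2 → F, Cfsg.hermForm 2 F q e x ≠ 0 := by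
    by_contra hcon
    apply hw
    apply eq_zero_of_hermForm_eq_zero hF
    intro x
    by_contra hx
    exact hcon ⟨x, hx⟩
  -- an eigenvector for `-i` not perpendicular to `e`
  set f : Fin 2 → F := M *ᵥ x + (-i) • x with hf_def
  have hfA : M *ᵥ f = (-i) • f := by
    rw [hf_def, Matrix.mulVec_add, hMMv, Matrix.mulVec_smul, smul_add, smul_smul]
    have : -i * -i = -1 := by rw [neg_mul_neg, hi]
    rw [this]
    simp only [neg_smul, one_smul]
    abel
  have heMx : i * Cfsg.hermForm 2 F q e (M *ᵥ x) = Cfsg.hermForm 2 F q e x := by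
    have h1 := hU e x
    rw [he, hermForm_smul_left] at h1
    exact h1
  set c : F := Cfsg.hermForm 2 F q e f with hc_def
  have hc_eq : i * c = 2 * Cfsg.hermForm 2 F q e x := by
    rw [hc_def, hf_def, hermForm_add_right 2 hF, hermForm_smul_right, hniq]
    linear_combination heMx - (Cfsg.hermForm 2 F q e x) * hi
  have hc0 : c ≠ 0 := by
    intro h0
    rw [h0, mul_zero] at hc_eq
    rcases mul_eq_zero.mp hc_eq.symm with h | h
    · exact h2 h
    · exact hx h
  have hff : Cfsg.hermForm 2 F q f f = 0 := by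
    have h1 := hU f f
    rw [hfA, hermForm_smul_left, hermForm_smul_right, hniq] at h1
    have : (2 : F) * Cfsg.hermForm 2 F q f f = 0 := by
      linear_combination (-1 : F) * h1 + (Cfsg.hermForm 2 F q f f) * hi
    rcases mul_eq_zero.mp this with h | h
    · exact absurd h h2
    · exact h
  have hfe : Cfsg.hermForm 2 F q f e = c ^ q := (hermForm_pow_q 2 hF e f).symm
  have hcq0 : c ^ q ≠ 0 := pow_ne_zero q hc0
  set β : F := (2 * c ^ q)⁻¹ with hβ_def
  have hβq : β ^ q = (2 * c)⁻¹ := by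
    rw [hβ_def, inv_pow, mul_pow, h2q, pow_q_pow_q hF]
  have hMv : M *ᵥ (e + β • f) = i • e + β • ((-i) • f) := by
    rw [Matrix.mulVec_add, Matrix.mulVec_smul, he, hfA]
  refine ⟨e + β • f, ?_, ?_⟩
  · simp only [hermForm_add_left, hermForm_add_right 2 hF, hermForm_smul_left, hermForm_smul_right]
    rw [hee, hff, ← hc_def, hfe, hβq, hβ_def]
    field_simp
    ring
  · rw [hMv]
    simp only [hermForm_add_left, hermForm_add_right 2 hF, hermForm_smul_left, hermForm_smul_right]
    rw [hee, hff, ← hc_def, hfe, hβq, hβ_def, hiq, hniq]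
    field_simp
    ring

end Cfsg.Agent.Lib.Helper91_F2U3_SD1CONJV
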