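import Mathlib
import Cfsg.Prelude.Def_FusionSystem
import Cfsg.Prelude.Def_Classical
import Cfsg.Prelude.Def_LieClassical
import Cfsg.Agent.Lib.Helper87_F2L3Defs
import Cfsg.Agent.Lib.Helper87_F2U3Defs
import Cfsg.Agent.Lib.Helper99_F2L3_SD3NORMB

/-!
# F2U3-SD1NORMB (helper87's S5319 market): `norm_SDg_B` without the non-square hypothesis
-/

set_option autoImplicit false

open Matrix Cfsg.Agent.Lib.Helper87_F2L3

namespace Cfsg.Agent.Lib.Helper99_F2U3_SD1NORMB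

variable {F : Type*} [Field F]

/-- **F2U3-SD1NORMB**. -/
theorem norm_SDg_B' (h2 : (2 : F) ≠ 0) {m : ℕ} (hm : 2 ≤ m) (a b : F)
    (h : a * a + b * b = -1) (hs : torM a b ^ 2 ^ m = -1)
    (hf : (fmGL : GL (Fin 2) F) * torGL a b h * fmGL⁻¹ = (torGL a b h)⁻¹ * (-1))
    (hnf : ∀ x ∈ SDg a b h, ∃ i : ℕ, x = torGL a b h ^ i ∨ x = torGL a b h ^ i * fmGL)
    (κ : GL (Fin 2) F) (c d : F) (hκ : (κ : Matrix (Fin 2) (Fin 2) F) = torM c d)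
    (hn : ∀ x ∈ SDg a b h, κ * x * κ⁻¹ ∈ SDg a b h) :
    ∃ s₀ ∈ SDg a b h, ∃ e : Fˣ, κ = s₀ * sc e :=
  Cfsg.Agent.Lib.Helper99_F2L3_SD3NORMB.norm_SDg_B' h2 hm a b h hs hf hnf κ c d hκ hn

end Cfsg.Agent.Lib.Helper99_F2U3_SD1NORMB
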