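import Mathlib
import Cfsg.Prelude.Def_FusionSystem
import Cfsg.Prelude.Def_Classical
import Cfsg.Prelude.Def_LieClassical
import Cfsg.Agent.Lib.Helper87_F2L3Defs
import Cfsg.Agent.Lib.Helper87_F2U3Defs
import Cfsg.Agent.Lib.Helper5_GUOrder
import Cfsg.Agent.Lib.Helper13_SU3Inv
import Cfsg.Agent.Lib.Helper99_F2L3_SD3S

/-!
# F2U3-SD1S (helper87's S5319 market): an element of order `2^(k+1)` in the torus of `GU₂(q)`,
`q ≡ 1 mod 4`
-/

set_option autoImplicit false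

open Matrix Cfsg.Agent.Lib.Helper87_F2L3

namespace Cfsg.Agent.Lib.Helper99_F2U3_SD1S

open Cfsg.Agent.Lib.Helper99_F2L3_SD3S Cfsg.Agent.Lib.Helper13_Herm Cfsg.Agent.Lib.Helper13_SU3Inv
  Cfsg.Agent.Lib.Helper5_GUOrder

variable {F : Type*} [Field F]

/-- `T α β = torM ((α+β)/2) ((α-β)/(2i))`: the torus element with "eigenvalues" `α, β`. -/
noncomputable def TT (i α β : F) : Matrix (Fin 2) (Fin 2) F :=
  torM ((α + β) / 2) ((α - β) / (2 * i))

theorem TT_mul (h2 : (2 : F) ≠ 0) (i : F) (hi : i * i = -1) (α β α' β' : F) :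
    TT i α β * TT i α' β' = TT i (α * α') (β * β') := by
  have hi0 : i ≠ 0 := by
    rintro rfl
    simp at hi
  unfold TT
  rw [torM_mul]
  congr 1
  · field_simp
    linear_combination (-(α - β) * (α' - β')) * hi
  · field_simp
    ring

theorem TT_one (h2 : (2 : F) ≠ 0) (i : F) : TT i 1 1 = 1 := by
  unfold TT
  rw [← torM_one]
  congr 1
  · rw [one_add_one_eq_two, div_self h2]
  · simp

theorem TT_pow (h2 : (2 : F) ≠ 0) (i : F) (hi : i * i = -1) (α β : F) (n : ℕ) :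
    TT i α β ^ n = TT i (α ^ n) (β ^ n) := by
  induction n with
  | zero => rw [pow_zero, pow_zero, pow_zero, TT_one h2]
  | succ n ih => rw [pow_succ, ih, TT_mul h2 i hi, ← pow_succ, ← pow_succ]

/-- In a finite field with `|F| - 1 = 2 * M` there is a unit `g` with `g ^ M = -1`. -/
theorem exists_pow_eq_neg_one [Fintype F] (h2 : (2 : F) ≠ 0) {M : ℕ}
    (hM : Fintype.card F - 1 = 2 * M) : ∃ g : F, g ≠ 0 ∧ g ^ M = -1 := by
  classical
  obtain ⟨g, hg⟩ := IsCyclic.exists_generator (α := Fˣ)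
  have hord : orderOf g = 2 * M := by
    rw [orderOf_eq_card_of_forall_mem_zpowers hg, Nat.card_eq_fintype_card, Fintype.card_units, hM]
  have hMpos : 0 < M := by
    have : 1 < Fintype.card F := Fintype.one_lt_card
    omega
  refine ⟨(g : F), g.ne_zero, ?_⟩
  have h1 : ((g : F) ^ M) * ((g : F) ^ M) = 1 := by
    rw [← pow_add, ← two_mul, ← hord]
    have := pow_orderOf_eq_one g
    have h3 : ((g ^ orderOf g : Fˣ) : F) = ((1 : Fˣ) : F) := by rw [this]
    rw [Units.val_pow_eq_pow_val, Units.val_one] at h3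
    exact h3
  have h3 : ((g : F) ^ M - 1) * ((g : F) ^ M + 1) = 0 := by linear_combination h1
  rcases mul_eq_zero.mp h3 with h4 | h4
  · exfalso
    have h5 : g ^ M = 1 := by
      apply Units.ext
      rw [Units.val_pow_eq_pow_val, Units.val_one]
      linear_combination h4
    have h6 := orderOf_dvd_of_pow_eq_one h5
    rw [hord] at h6
    have := Nat.le_of_dvd hMpos h6
    omega
  · linear_combination h4

/-- **F2U3-SD1S**. -/
theorem exists_tor_U [Fintype F] {q k u : ℕ} (hF : Fintype.card F = q ^ 2) (hk : 2 ≤ k) (hu : Odd u)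
    (hq : q - 1 = 2 ^ k * u) :
    ∃ (x y : F) (h : x * x + y * y = -1), torM x y ^ 2 ^ k = -1 ∧ torGL x y h ∈ Cfsg.GU 2 F q := by
  have hupos : 0 < u := hu.pos
  have hkpos : 0 < 2 ^ k := by positivity
  have hq1 : q = 2 ^ k * u + 1 := by
    have : 0 < 2 ^ k * u := Nat.mul_pos hkpos hupos
    omega
  obtain ⟨k', rfl⟩ : ∃ k', k = k' + 2 := ⟨k - 2, by omega⟩
  have hqodd : Odd q := by
    rw [hq1]
    refine ⟨2 ^ (k' + 1) * u, ?_⟩
    rw [pow_succ 2 (k' + 1)]; ring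
  have h2 : (2 : F) ≠ 0 := two_ne_zero_of_odd hF hqodd
  -- the number `w = (q + 1) / 2`
  obtain ⟨w, hw⟩ : ∃ w, q + 1 = 2 * w := by
    obtain ⟨r, hr⟩ := hqodd
    exact ⟨r + 1, by omega⟩
  have hcard : Fintype.card F - 1 = 2 * (2 ^ (k' + 2) * u * w) := by
    rw [hF]
    have h1 : q ^ 2 - 1 = (q - 1) * (q + 1) := by
      have hq0 : 1 ≤ q := by omega
      zify [hq0, Nat.one_le_pow 2 q (by omega)]
      ring
    rw [h1, hq, hw]; ring
  obtain ⟨g, hg0, hg⟩ := exists_pow_eq_neg_one h2 hcard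
  -- `lam ^ (2 ^ k) = -1`
  obtain ⟨lam, hlam⟩ : ∃ lam : F, lam = g ^ (u * w) := ⟨_, rfl⟩
  have hlam0 : lam ≠ 0 := by rw [hlam]; exact pow_ne_zero _ hg0
  have hlamk : lam ^ 2 ^ (k' + 2) = -1 := by
    rw [hlam, ← pow_mul, ← hg]
    congr 1; ring
  have hlamq : lam ^ q = -lam := by
    rw [hq1, pow_succ, pow_mul, hlamk, hu.neg_one_pow]; ring
  have hlaminvq : (lam⁻¹) ^ q = -lam⁻¹ := by
    rw [inv_pow, hlamq, inv_neg]
  -- `i`
  obtain ⟨i, hi⟩ : ∃ i : F, i = lam ^ 2 ^ (k' + 1) := ⟨_, rfl⟩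
  have hii : i * i = -1 := by
    rw [hi, ← pow_add, ← two_mul, ← pow_succ', hlamk]
  have hi0 : i ≠ 0 := by
    rintro h0
    rw [h0] at hii
    simp at hii
  have hiq : i ^ q = i := by
    rw [hq1, pow_succ, hi, ← pow_mul]
    have : 2 ^ (k' + 1) * (2 ^ (k' + 2) * u) = 2 ^ (k' + 2) * (2 * (2 ^ k' * u)) := by
      rw [pow_succ 2 k']; ring
    rw [this, pow_mul lam, hlamk, pow_mul, neg_one_sq, one_pow, one_mul]
  -- `x, y`
  obtain ⟨x, hx⟩ : ∃ x : F, x = (lam + -lam⁻¹) / 2 := ⟨_, rfl⟩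
  obtain ⟨y, hy⟩ : ∃ y : F, y = (lam - -lam⁻¹) / (2 * i) := ⟨_, rfl⟩
  have hxy : x * x + y * y = -1 := by
    rw [hx, hy]
    field_simp
    linear_combination (lam ^ 2 + 1) ^ 2 * hii
  have hxq : x ^ q = -x := by
    rw [hx, div_pow, add_pow_q hF, neg_pow_q hF, hlaminvq, hlamq, two_pow_q hF]
    ring
  have hyq : y ^ q = -y := by
    rw [hy, div_pow, sub_pow_q hF, neg_pow_q hF, hlaminvq, hlamq, mul_pow, two_pow_q hF, hiq]
    ring
  refine ⟨x, y, hxy, ?_, ?_⟩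
  · -- the power
    have hT : torM x y = TT i lam (-lam⁻¹) := by rw [hx, hy]; rfl
    rw [hT, TT_pow h2 i hii, hlamk]
    have h4 : (-lam⁻¹) ^ 2 ^ (k' + 2) = -1 := by
      have heven : Even (2 ^ (k' + 2)) := by
        refine ⟨2 ^ (k' + 1), ?_⟩
        rw [pow_succ 2 (k' + 1)]; ring
      rw [heven.neg_pow, inv_pow, hlamk]
      norm_num
    rw [h4]
    unfold TT
    rw [← torM_neg_one]
    congr 1
    · field_simp; ring
    · simp
  · -- unitarity
    rw [mem_GU_iff]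
    intro a b
    show Cfsg.hermForm 2 F q (torM x y *ᵥ a) (torM x y *ᵥ b) = Cfsg.hermForm 2 F q a b
    have e0 : (torM x y *ᵥ b) 0 ^ q = -x * b 0 ^ q + y * b 1 ^ q := by
      have : (torM x y *ᵥ b) 0 = x * b 0 + -y * b 1 := by
        simp [torM, Matrix.mulVec, dotProduct, Fin.sum_univ_two]
      rw [this, add_pow_q hF, mul_pow, mul_pow, neg_pow_q hF, hxq, hyq]; ring
    have e1 : (torM x y *ᵥ b) 1 ^ q = -y * b 0 ^ q + -x * b 1 ^ q := by
      have : (torM x y *ᵥ b) 1 = y * b 0 + x * b 1 := by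
        simp [torM, Matrix.mulVec, dotProduct, Fin.sum_univ_two]
      rw [this, add_pow_q hF, mul_pow, mul_pow, hxq, hyq]
    have a0 : (torM x y *ᵥ a) 0 = x * a 0 + -y * a 1 := by
      simp [torM, Matrix.mulVec, dotProduct, Fin.sum_univ_two]
    have a1 : (torM x y *ᵥ a) 1 = y * a 0 + x * a 1 := by
      simp [torM, Matrix.mulVec, dotProduct, Fin.sum_univ_two]
    unfold Cfsg.hermForm
    rw [Fin.sum_univ_two, Fin.sum_univ_two, e0, e1, a0, a1]
    linear_combination (-(a 0 * b 0 ^ q + a 1 * b 1 ^ q)) * hxy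

end Cfsg.Agent.Lib.Helper99_F2U3_SD1S
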