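import Mathlib
import Cfsg.Prelude.Def_FusionSystem
import Cfsg.Prelude.Def_Classical
import Cfsg.Prelude.Def_LieClassical
import Cfsg.Agent.Lib.Helper87_F2L3Defs
import Cfsg.Agent.Lib.Helper87_F2U3Defs
import Cfsg.Agent.Lib.Helper87_F2L3Crit
import Cfsg.Agent.Lib.Helper87_F2L3Main
import Cfsg.Agent.Lib.Helper10_F2U3_IOTA
import Cfsg.Agent.Lib.Helper10_F2U3_WMEM
import Cfsg.Agent.Lib.Helper24_F2U3_RELSUB
import Cfsg.Agent.Lib.Helper26_F2U3_W3MU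
import Cfsg.Agent.Lib.Helper64_F2U3_ZODD
import Cfsg.Agent.Lib.Helper84_F2U3_CARD3A
import Cfsg.Agent.Lib.Helper84_F2U3_CARD3B
import Cfsg.Agent.Lib.Helper84_F2U3_INV
import Cfsg.Agent.Lib.Helper84_F2U3_T3
import Cfsg.Agent.Lib.Helper87_F2U3_RELA
import Cfsg.Agent.Lib.Helper87_F2U3_RELB
import Cfsg.Agent.Lib.Helper87_F2U3_SD1CENT
import Cfsg.Agent.Lib.Helper87_F2U3_SD1GEN
import Cfsg.Agent.Lib.Helper87_F2U3_SD1MEM
import Cfsg.Agent.Lib.Helper91_F2U3_SD1CONJG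
import Cfsg.Agent.Lib.Helper91_F2U3_SD1CONJV
import Cfsg.Agent.Lib.Helper99_F2U3_SD1NORMA
import Cfsg.Agent.Lib.Helper99_F2U3_SD1NORMB
import Cfsg.Agent.Lib.Helper99_F2U3_SD1S

/-!
# S5319 assembly: the 2-fusion system of `PSU₃(q)`, `q` odd, is simple (architect helper87)
-/

set_option autoImplicit false

namespace Cfsg.Agent.Lib.Helper87_F2L3

open Matrix

variable {F : Type*} [Field F] [Fintype F]

theorem two_ne_zero_of_card_sq {q : ℕ} (hF : Fintype.card F = q ^ 2) (hq : Odd q) :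
    (2 : F) ≠ 0 := by
  apply two_ne_zero_of_odd'
  rw [hF]
  obtain ⟨j, rfl⟩ := hq
  have : (2 * j + 1) ^ 2 = 2 * (2 * j * j + 2 * j) + 1 := by ring
  omega

/-- Case `q ≡ 3 mod 4`: the wreathed group. -/
theorem gu2syl_wr {q : ℕ} (hF : Fintype.card F = q ^ 2) (h2 : (2 : F) ≠ 0) {k u : ℕ} (hk : 2 ≤ k)
    (hu : Odd u) (hq3 : q + 1 = 2 ^ k * u) : GU2Syl F q (Wr (rootsOfUnity (2 ^ k) F)) := by
  obtain ⟨hcard, ⟨i, hi, hii⟩, hnorm1⟩ := Cfsg.Agent.Lib.Helper26_F2U3_W3MU.mu_facts_U (F := F) hF hk hq3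
  have hneg : (-1 : Fˣ) ∈ rootsOfUnity (2 ^ k) F := by
    rw [← hii]
    exact Subgroup.mul_mem _ hi hi
  refine ⟨Cfsg.Agent.Lib.Helper10_F2U3_WMEM.Wr_le_GU q _ hnorm1, ?_, ?_, ?_, ?_, ?_⟩
  · rw [Cfsg.Agent.Lib.Helper61_F2L3_WCARD.card_Wr, hcard, Cfsg.Agent.Lib.Helper84_F2U3_CARD3A.card3A hF hk hu hq3]
    ring
  · refine ⟨-1, hneg, -1, hneg, Or.inl ?_⟩
    apply Units.ext
    ext a b
    fin_cases a <;> fin_cases b <;> simp [dg]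
  · intro z hz hzz hz1 hc
    exact Cfsg.Agent.Lib.Helper89_F2L3_WCENT.cent_Wr h2 _ hneg z hz hzz hz1 hc
  · intro T₂ hT hinv _ hW
    exact Cfsg.Agent.Lib.Helper87_F2L3_WGEN.gen_Wr _ T₂ hT hinv hW
  · intro n _ hn
    exact Cfsg.Agent.Lib.Helper20_F2L3_WNORM.norm_Wr h2 _ i hi hii n hn

/-- Case `q ≡ 1 mod 4`: the semidihedral group. -/
theorem gu2syl_sd {q : ℕ} (hF : Fintype.card F = q ^ 2) (hqo : Odd q) (h2 : (2 : F) ≠ 0)
    (hq4 : q % 4 = 1) {k u : ℕ} (hk : 2 ≤ k) (hu : Odd u) (hq1 : q - 1 = 2 ^ k * u) :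
    ∃ S₂ : Subgroup (GL (Fin 2) F), GU2Syl F q S₂ := by
  obtain ⟨a, b, h, hs, hmem⟩ := Cfsg.Agent.Lib.Helper99_F2U3_SD1S.exists_tor_U (F := F) hF hk hu hq1
  obtain ⟨hf, hnf⟩ := Cfsg.Agent.Lib.Helper87_F2L3_SD3NF.sd_normal_form a b h hs
  have hle := Cfsg.Agent.Lib.Helper87_F2U3_SD1MEM.SDg_le_GU q hqo a b h hmem
  have hsGL : torGL a b h ^ 2 ^ k = -1 := by
    apply Units.ext
    rw [Units.val_pow_eq_pow_val]
    exact hs
  have hfmem : (fmGL : GL (Fin 2) F) ∈ SDg a b h := Subgroup.subset_closure (Or.inr rfl)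
  have hsmem : torGL a b h ∈ SDg a b h := Subgroup.subset_closure (Or.inl rfl)
  refine ⟨SDg a b h, hle, ?_, ?_, ?_, ?_, ?_⟩
  · rw [Cfsg.Agent.Lib.Helper87_F2L3_SD3CARD.card_SDg h2 hk a b h hs hf hnf, Cfsg.Agent.Lib.Helper84_F2U3_CARD3B.card3B hF hk hu hq1]
  · rw [← hsGL]
    exact Subgroup.pow_mem _ hsmem _
  · intro z hz hzz hz1 hc
    exact Cfsg.Agent.Lib.Helper87_F2U3_SD1CENT.cent_SDg' h2 hk a b h hs hf hnf z hz hzz hz1 hc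
  · intro T₂ hT hinv hSC _
    exact Cfsg.Agent.Lib.Helper87_F2U3_SD1GEN.gen_SDg_rel h2 (Cfsg.GU 2 F q) hk a b h hs hf hle
      (Cfsg.Agent.Lib.Helper91_F2U3_SD1CONJG.conj_of_sq_U hF (Cfsg.Agent.Lib.Helper91_F2U3_SD1CONJV.exists_unit_perp hF hq4)) T₂ hT hinv hSC
  · intro n _ hn
    obtain ⟨c, d, hcd | hcd⟩ := Cfsg.Agent.Lib.Helper99_F2U3_SD1NORMA.norm_SDg_A' h2 hk a b h hs hf hnf n hn
    · exact Cfsg.Agent.Lib.Helper99_F2U3_SD1NORMB.norm_SDg_B' h2 hk a b h hs hf hnf n c d hcd hn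
    · -- `n = fm * κ`
      have hff : (fmGL : GL (Fin 2) F) * fmGL = 1 := by
        unfold fmGL
        rw [dg_mul]
        simp [dg_one]
      have hfmat : ((fmGL : GL (Fin 2) F) : Matrix (Fin 2) (Fin 2) F) = !![1, 0; 0, -1] := by
        ext x y
        fin_cases x <;> fin_cases y <;> simp [fmGL, dg]
      have hκ : ((fmGL * n : GL (Fin 2) F) : Matrix (Fin 2) (Fin 2) F) = torM c d := by
        rw [Units.val_mul, hcd, ← mul_assoc, hfmat]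
        have : (!![1, 0; 0, -1] : Matrix (Fin 2) (Fin 2) F) * !![1, 0; 0, -1] = 1 := by
          ext x y
          fin_cases x <;> fin_cases y <;> simp [Matrix.mul_apply, Fin.sum_univ_two]
        rw [this, one_mul]
      have hn' : ∀ x ∈ SDg a b h, (fmGL * n) * x * (fmGL * n)⁻¹ ∈ SDg a b h := by
        intro x hx
        have : (fmGL * n) * x * (fmGL * n)⁻¹ = fmGL * (n * x * n⁻¹) * fmGL⁻¹ := by group
        rw [this]
        exact Subgroup.mul_mem _ (Subgroup.mul_mem _ hfmem (hn x hx)) (Subgroup.inv_mem _ hfmem)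
      obtain ⟨s₀, hs₀, e, he⟩ := Cfsg.Agent.Lib.Helper99_F2U3_SD1NORMB.norm_SDg_B' h2 hk a b h hs hf hnf (fmGL * n) c d hκ hn'
      refine ⟨fmGL * s₀, Subgroup.mul_mem _ hfmem hs₀, e, ?_⟩
      rw [mul_assoc, ← he, ← mul_assoc, hff, one_mul]

theorem exists_gu2syl {q : ℕ} (hF : Fintype.card F = q ^ 2) (hq : Odd q) :
    ∃ S₂ : Subgroup (GL (Fin 2) F), GU2Syl F q S₂ := by
  have h2 := two_ne_zero_of_card_sq hF hq
  have hq2 : 2 ≤ q := by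
    by_contra hlt
    have hq01 : q = 0 ∨ q = 1 := by omega
    have hc : 2 ≤ Fintype.card F := Fintype.one_lt_card
    rcases hq01 with rfl | rfl
    · rw [hF] at hc
      omega
    · rw [hF] at hc
      omega
  have hqodd : q % 2 = 1 := Nat.odd_iff.mp hq
  have h4 : q % 4 = 1 ∨ q % 4 = 3 := by omega
  rcases h4 with h4 | h4
  · obtain ⟨k, u, hk, hu, hq1⟩ :=
      exists_two_pow_mul_odd_of_four_dvd (n := q - 1) (by omega) (by omega)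
    exact gu2syl_sd hF hq h2 h4 hk hu hq1
  · obtain ⟨k, u, hk, hu, hq3⟩ :=
      exists_two_pow_mul_odd_of_four_dvd (n := q + 1) (by omega) (by omega)
    exact ⟨_, gu2syl_wr hF h2 hk hu hq3⟩

/-- A Sylow 2-subgroup of `SU₃(q)` with `SCB`. -/
theorem exists_sylow_SU3 {q : ℕ} (hF : Fintype.card F = q ^ 2) (hq : Odd q) :
    ∃ P : Sylow 2 ↥(Cfsg.SU 3 F q),
      SCB (P : Subgroup ↥(Cfsg.SU 3 F q)) ∧ (P : Subgroup ↥(Cfsg.SU 3 F q)) ≠ ⊥ ∧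
        ¬ 2 ∣ Nat.card (Subgroup.center ↥(Cfsg.SU 3 F q)) := by
  have h2 := two_ne_zero_of_card_sq hF hq
  obtain ⟨S₂, hS⟩ := exists_gu2syl (F := F) hF hq
  obtain ⟨hinj, hneg, ht3, ht3'⟩ := Cfsg.Agent.Lib.Helper89_F2L3_IOTA.iota_facts (F := F) h2
  obtain ⟨ht3U, w, hwU, hwne, hwconj⟩ := Cfsg.Agent.Lib.Helper84_F2U3_T3.t3_wg_mem (F := F) q hq h2
  have hinv : ∀ u ∈ Cfsg.SU 3 F q, u * u = 1 → u ≠ 1 →
      ∃ g ∈ Cfsg.SU 3 F q, g * t3 * g⁻¹ = u :=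
    fun u hu huu hne => Cfsg.Agent.Lib.Helper84_F2U3_INV.invol_conj_U q hF hq ht3U u hu huu hne
  have hVU : ∀ x ∈ Cfsg.GU 2 F q, iota x ∈ Cfsg.SU 3 F q :=
    fun x hx => (Cfsg.Agent.Lib.Helper10_F2U3_IOTA.iota_mem_iff q hF x).mpr hx
  have hle : S₂.map (iota (F := F)) ≤ Cfsg.SU 3 F q := by
    rintro _ ⟨x, hx, rfl⟩
    exact hVU x (hS.le hx)
  have hcard₂ : Nat.card (S₂.map (iota (F := F))) = Nat.card S₂ :=
    Nat.card_congr (S₂.equivMapOfInjective _ hinj).toEquiv.symm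
  have hcard : Nat.card ((S₂.map (iota (F := F))).subgroupOf (Cfsg.SU 3 F q)) =
      2 ^ (Nat.card ↥(Cfsg.SU 3 F q)).factorization 2 := by
    rw [Nat.card_congr (Subgroup.subgroupOfEquivOfLe hle).toEquiv, hcard₂, hS.card]
  have hp : IsPGroup 2 S₂ := IsPGroup.of_card hS.card
  have hweyl : ∀ a b : Fˣ, ∃ g ∈ Cfsg.SU 3 F q,
      g * iota (dg a b) * g⁻¹ = iota (dg a (a * b)⁻¹) := fun a b => ⟨w, hwU, hwconj a b⟩
  have hcentU : ∀ n ∈ Cfsg.SU 3 F q, n * t3 = t3 * n → ∃ m ∈ Cfsg.GU 2 F q, iota m = n := by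
    intro n hnU hn
    obtain ⟨m, rfl⟩ := Cfsg.Agent.Lib.Helper86_F2L3_CENT3.cent_t3 h2 n hn
    exact ⟨m, (Cfsg.Agent.Lib.Helper10_F2U3_IOTA.iota_mem_iff q hF m).mp hnU, rfl⟩
  have hrel : SCBrel (Cfsg.SU 3 F q) (S₂.map (iota (F := F))) := by
    refine ⟨?_, ?_⟩
    · intro T hT hTne hSC
      exact Cfsg.Agent.Lib.Helper87_F2U3_RELA.asm_A_rel (Cfsg.SU 3 F q) (Cfsg.GU 2 F q) S₂ hp hS.le hS.cent hS.gen hVU hinj hneg
        hinv hweyl T hT hTne hSC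
    · intro n hnU hn
      exact Cfsg.Agent.Lib.Helper87_F2U3_RELB.asm_B_rel (Cfsg.SU 3 F q) (Cfsg.GU 2 F q) S₂ hS.neg_mem hS.cent hS.norm hinj hneg
        ⟨ht3, ht3'⟩ hcentU n hnU hn
  refine ⟨Sylow.ofCard _ hcard, Cfsg.Agent.Lib.Helper24_F2U3_RELSUB.scb_of_rel _ _ hle hrel, ?_,
    Cfsg.Agent.Lib.Helper64_F2U3_ZODD.center_odd q ht3U hinv ⟨w, hwU, hwne⟩⟩
  intro hbot
  have hmem : (⟨t3, ht3U⟩ : ↥(Cfsg.SU 3 F q)) ∈
      (S₂.map (iota (F := F))).subgroupOf (Cfsg.SU 3 F q) := by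
    rw [Subgroup.mem_subgroupOf]
    exact ⟨-1, hS.neg_mem, hneg⟩
  have hmem' : (⟨t3, ht3U⟩ : ↥(Cfsg.SU 3 F q)) ∈
      ((Sylow.ofCard _ hcard : Sylow 2 ↥(Cfsg.SU 3 F q)) : Subgroup ↥(Cfsg.SU 3 F q)) := hmem
  rw [hbot, Subgroup.mem_bot] at hmem'
  apply ht3'
  exact congrArg Subtype.val hmem'

theorem mainU (q : ℕ) (hF : Fintype.card F = q ^ 2) (hodd : q % 2 = 1)
    (S : Sylow 2 (Cfsg.PSU 3 F q)) :
    (Cfsg.groupFusionSystem (S : Subgroup (Cfsg.PSU 3 F q))).IsSimple 2 := by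
  have : Fact (Nat.Prime 2) := ⟨Nat.prime_two⟩
  have hq : Odd q := Nat.odd_iff.mpr hodd
  obtain ⟨P, hP, hPne, hZ⟩ := exists_sylow_SU3 (F := F) hF hq
  have : Finite ↥(Cfsg.SU 3 F q) := inferInstance
  obtain ⟨hS, hSne⟩ := scb_quotient hZ P hP hPne S
  exact crit S hSne hS

end Cfsg.Agent.Lib.Helper87_F2L3
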