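import Mathlib

/-!
# The nonsplit torus of `GL₂(𝔽_q)`, `q ≡ 3 mod 4`, and its normalizer

Explicit `2 × 2` matrices over `ZMod q`: `tor a b = !![a, -b; b, a]` and `fm = !![1, 0; 0, -1]`.
We show the Frobenius relation `tor a b ^ q = fm * tor a b * fm`, construct an element of `2`-power
order `2 ^ (m + 1)` when `q ≡ 2 ^ m - 1 mod 2 ^ (m + 1)`, and prove that any two matrices with square
`-1` are conjugate (by a matrix of prescribed determinant).
-/

namespace Cfsg.Agent.Lib.Helper87_GL2Tor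

open Matrix

variable {q : ℕ}

/-- `2 × 2` matrices over `ZMod q`. -/
abbrev Mat (q : ℕ) := Matrix (Fin 2) (Fin 2) (ZMod q)

/-- The matrix of multiplication by `a + b i`. -/
def tor (a b : ZMod q) : Mat q := !![a, -b; b, a]

/-- The matrix of conjugation. -/
def fm : Mat q := !![1, 0; 0, -1]

theorem tor_mul (a b c d : ZMod q) : tor a b * tor c d = tor (a * c - b * d) (a * d + b * c) := by
  unfold tor
  rw [Matrix.mul_fin_two]
  congr 1
  ext i j
  fin_cases i <;> fin_cases j <;> simp <;> ring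

theorem tor_one : tor (1 : ZMod q) 0 = 1 := by
  unfold tor
  rw [Matrix.one_fin_two]
  simp

theorem tor_neg_one : tor (-1 : ZMod q) 0 = -1 := by
  unfold tor
  rw [Matrix.one_fin_two]
  ext i j
  fin_cases i <;> fin_cases j <;> simp

theorem det_tor (a b : ZMod q) : (tor a b).det = a * a + b * b := by
  unfold tor
  rw [Matrix.det_fin_two_of]
  ring

theorem fm_mul_fm : (fm : Mat q) * fm = 1 := by
  unfold fm
  rw [Matrix.mul_fin_two, Matrix.one_fin_two]
  simp

theorem det_fm : (fm : Mat q).det = -1 := by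
  unfold fm
  rw [Matrix.det_fin_two_of]
  ring

theorem fm_tor_fm (a b : ZMod q) : fm * tor a b * fm = tor a (-b) := by
  unfold fm tor
  rw [Matrix.mul_fin_two, Matrix.mul_fin_two]
  ext i j
  fin_cases i <;> fin_cases j <;> simp

theorem tor_mul_conj (a b : ZMod q) : tor a b * tor a (-b) = tor (a * a + b * b) 0 := by
  rw [tor_mul]
  congr 1 <;> ring

theorem tor_pow (a b : ZMod q) (n : ℕ) : ∃ a' b' : ZMod q, tor a b ^ n = tor a' b' := by
  induction n with
  | zero => exact ⟨1, 0, by rw [pow_zero, tor_one]⟩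
  | succ n ih =>
    obtain ⟨a', b', h⟩ := ih
    exact ⟨_, _, by rw [pow_succ, h, tor_mul]⟩

theorem tor_eq (a b : ZMod q) : tor a b = a • (1 : Mat q) + b • tor 0 1 := by
  unfold tor
  rw [Matrix.one_fin_two]
  ext i j
  fin_cases i <;> fin_cases j <;> simp

theorem tor01_sq : tor (0 : ZMod q) 1 * tor 0 1 = -1 := by
  rw [tor_mul, ← tor_neg_one]
  congr 1 <;> ring

theorem tor01_pow (h3 : q % 4 = 3) : tor (0 : ZMod q) 1 ^ q = - tor 0 1 := by
  have hq : q = 4 * (q / 4) + 3 := by omega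
  have h2 : tor (0 : ZMod q) 1 ^ 2 = -1 := by rw [sq, tor01_sq]
  have h4 : tor (0 : ZMod q) 1 ^ 4 = 1 := by
    rw [show 4 = 2 * 2 from rfl, pow_mul, h2]
    simp
  have h5 : tor (0 : ZMod q) 1 ^ q = tor (0 : ZMod q) 1 ^ (4 * (q / 4) + 3) :=
    congrArg (fun n => tor (0 : ZMod q) 1 ^ n) hq
  rw [h5, pow_add, pow_mul, h4, one_pow, one_mul, show 3 = 2 + 1 from rfl, pow_succ, h2]
  simp

theorem tor_pow_card [hq : Fact q.Prime] (h3 : q % 4 = 3) (a b : ZMod q) :
    tor a b ^ q = tor a (-b) := by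
  have hcomm : Commute (a • (1 : Mat q)) (b • tor 0 1) := by
    apply Commute.smul_left
    apply Commute.smul_right
    exact Commute.one_left _
  rw [tor_eq a b, add_pow_char_of_commute q hcomm, smul_pow, smul_pow, one_pow,
    ZMod.pow_card, ZMod.pow_card, tor01_pow h3, tor_eq a (-b)]
  simp

/-- Arithmetic data: `q` is a prime with `q + 1 = 2 ^ m * u`, `q = 2 * u' + 1`, `u`, `u'` odd, `m ≥ 2`. -/
structure Arith (q m u u' : ℕ) : Prop where
  prime : q.Prime
  hm : 2 ≤ m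
  hu : q + 1 = 2 ^ m * u
  hu' : q = 2 * u' + 1
  oddu : Odd u
  oddu' : Odd u'

theorem Arith.mod_four {m u u' : ℕ} (h : Arith q m u u') : q % 4 = 3 := by
  obtain ⟨k, hk⟩ : ∃ k, m = k + 2 := ⟨m - 2, by have := h.hm; omega⟩
  have h1 : q + 1 = 4 * (2 ^ k * u) := by
    rw [h.hu, hk, pow_add]
    ring
  omega

theorem Arith.sq_eq {m u u' : ℕ} (h : Arith q m u u') : q * q = 2 ^ (m + 1) * (u * u') + 1 := by
  have h1 : q * q + q = (2 * u' + 1) * (2 ^ m * u) := by
    have : q * q + q = q * (q + 1) := by ring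
    rw [this, h.hu]
    conv_lhs => rw [h.hu']
  have h2 : (2 * u' + 1) * (2 ^ m * u) = 2 ^ (m + 1) * (u * u') + 2 ^ m * u := by
    rw [pow_succ]
    ring
  have h3 := h.hu
  omega

theorem Arith.q_eq {m u u' : ℕ} (h : Arith q m u u') :
    ∃ k, q = 2 ^ (m + 1) * k + (2 ^ m - 1) := by
  obtain ⟨k, hk⟩ := h.oddu
  refine ⟨k, ?_⟩
  have h1 := h.hu
  rw [hk] at h1
  have h2 : 2 ^ m * (2 * k + 1) = 2 ^ (m + 1) * k + 2 ^ m := by
    rw [pow_succ]
    ring
  have h3 : 0 < 2 ^ m := by positivity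
  omega

theorem neg_one_ne_one_mat (hq2 : 2 < q) : (-1 : Mat q) ≠ 1 := by
  intro h
  have h1 : (-1 : Mat q) 0 0 = (1 : Mat q) 0 0 := by rw [h]
  simp only [Matrix.neg_apply, Matrix.one_apply_eq] at h1
  have h2 : (2 : ZMod q) = 0 := by
    have : (1 : ZMod q) + 1 = 0 := by
      nth_rewrite 1 [← h1]
      ring
    rw [← this]
    norm_num
  have h3 : ((2 : ℕ) : ZMod q) = 0 := by exact_mod_cast h2
  rw [ZMod.natCast_eq_zero_iff] at h3
  exact absurd (Nat.le_of_dvd (by norm_num) h3) (by omega)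

theorem pow_odd_of_sq_eq_one {M : Type*} [Monoid M] {w : M} (hw : w * w = 1) {u : ℕ} (hu : Odd u) :
    w ^ u = w := by
  obtain ⟨k, rfl⟩ := hu
  rw [pow_succ, pow_mul, sq, hw, one_pow, one_mul]

/-- The basic element of order `2 ^ (m + 1)` in the nonsplit torus. -/
theorem exists_s [hq : Fact q.Prime] {m u u' : ℕ} (h : Arith q m u u') :
    ∃ s₀ : Mat q, s₀.det = -1 ∧ s₀ ^ 2 ^ (m + 1) = 1 ∧ s₀ ^ 2 ^ m = -1 ∧
      fm * s₀ * fm = s₀ ^ (2 ^ m - 1) ∧ s₀ * (fm * s₀ * fm) = -1 ∧ (fm * s₀ * fm) * s₀ = -1 := by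
  have h3 := h.mod_four
  obtain ⟨a, b, hab⟩ := ZMod.sq_add_sq q (-1)
  have hab' : a * a + b * b = -1 := by rw [← hab]; ring
  have ht1 : tor a b * tor a (-b) = -1 := by rw [tor_mul_conj, hab', tor_neg_one]
  have htq : tor a b ^ q = tor a (-b) := tor_pow_card h3 a b
  have htqq : tor a b ^ (q * q) = tor a b := by
    rw [pow_mul, htq, tor_pow_card h3, neg_neg]
  have hinv : tor a b * (- tor a (-b)) = 1 := by rw [mul_neg, ht1, neg_neg]
  have ht0 : tor a b ^ (2 ^ (m + 1) * (u * u')) = 1 := by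
    have h5 : tor a b ^ (2 ^ (m + 1) * (u * u')) * tor a b = tor a b := by
      rw [← pow_succ, ← h.sq_eq, htqq]
    calc tor a b ^ (2 ^ (m + 1) * (u * u'))
        = tor a b ^ (2 ^ (m + 1) * (u * u')) * (tor a b * (- tor a (-b))) := by rw [hinv, mul_one]
      _ = (tor a b ^ (2 ^ (m + 1) * (u * u')) * tor a b) * (- tor a (-b)) := by rw [mul_assoc]
      _ = 1 := by rw [h5, hinv]
  have hodd : Odd (u * u') := h.oddu.mul h.oddu'
  obtain ⟨a', b', hs⟩ := tor_pow a b (u * u')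
  have hdet : (tor a b ^ (u * u')).det = -1 := by
    rw [Matrix.det_pow, det_tor, hab', hodd.neg_one_pow]
  have hdet' : a' * a' + b' * b' = -1 := by rw [← det_tor, ← hs, hdet]
  have hconj : fm * (tor a b ^ (u * u')) * fm = (tor a b ^ (u * u')) ^ q := by
    rw [hs, fm_tor_fm, tor_pow_card h3]
  have hpow1 : (tor a b ^ (u * u')) ^ 2 ^ (m + 1) = 1 := by
    rw [← pow_mul, mul_comm, ht0]
  have hprod : tor a b ^ (u * u') * (fm * (tor a b ^ (u * u')) * fm) = -1 := by
    rw [hs, fm_tor_fm, tor_mul_conj, hdet', tor_neg_one]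
  have hprod' : (fm * (tor a b ^ (u * u')) * fm) * tor a b ^ (u * u') = -1 := by
    rw [hs, fm_tor_fm]
    have := tor_mul_conj a' (-b')
    rw [neg_neg] at this
    rw [this, show a' * a' + -b' * -b' = a' * a' + b' * b' by ring, hdet', tor_neg_one]
  have hq1 : (tor a b ^ (u * u')) ^ (q + 1) = -1 := by
    rw [pow_succ', ← hconj, hprod]
  have hw : (tor a b ^ (u * u')) ^ 2 ^ m = -1 := by
    have hww : (tor a b ^ (u * u')) ^ 2 ^ m * (tor a b ^ (u * u')) ^ 2 ^ m = 1 := by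
      rw [← pow_add, ← two_mul, ← pow_succ', hpow1]
    rw [← pow_odd_of_sq_eq_one hww h.oddu, ← pow_mul, ← h.hu, hq1]
  refine ⟨tor a b ^ (u * u'), hdet, hpow1, hw, ?_, hprod, hprod'⟩
  obtain ⟨k, hk⟩ := h.q_eq
  rw [hconj]
  have h6 : (tor a b ^ (u * u')) ^ q = (tor a b ^ (u * u')) ^ (2 ^ (m + 1) * k + (2 ^ m - 1)) :=
    congrArg (fun n => (tor a b ^ (u * u')) ^ n) hk
  rw [h6, pow_add, pow_mul, hpow1, one_pow, one_mul]

theorem Arith.two_lt {m u u' : ℕ} (h : Arith q m u u') : 2 < q := by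
  have := h.mod_four
  omega

/-- `GL`-level version of `exists_s`. -/
theorem exists_gl [hq : Fact q.Prime] {m u u' : ℕ} (h : Arith q m u u') :
    ∃ s F : GL (Fin 2) (ZMod q), orderOf s = 2 ^ (m + 1) ∧ F * F = 1 ∧
      F * s * F⁻¹ = s ^ (2 ^ m - 1) ∧ s ^ 2 ^ m = -1 ∧
      Matrix.GeneralLinearGroup.det s = -1 ∧ Matrix.GeneralLinearGroup.det F = -1 := by
  obtain ⟨s₀, hdet, hpow1, hw, hconj, hprod, hprod'⟩ := exists_s h
  let s : GL (Fin 2) (ZMod q) := ⟨s₀, -(fm * s₀ * fm), by rw [mul_neg, hprod, neg_neg],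
    by rw [neg_mul, hprod', neg_neg]⟩
  let F : GL (Fin 2) (ZMod q) := ⟨fm, fm, fm_mul_fm, fm_mul_fm⟩
  have hFinv : F⁻¹ = F := rfl
  have hsw : s ^ 2 ^ m = -1 := by
    apply Units.ext
    rw [Units.val_pow_eq_pow_val, Units.val_neg, Units.val_one]
    exact hw
  refine ⟨s, F, ?_, ?_, ?_, hsw, ?_, ?_⟩
  · apply orderOf_eq_prime_pow
    · rw [hsw]
      intro hcon
      have : ((-1 : GL (Fin 2) (ZMod q)) : Mat q) = ((1 : GL (Fin 2) (ZMod q)) : Mat q) := by rw [hcon]
      rw [Units.val_neg, Units.val_one] at this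
      exact neg_one_ne_one_mat h.two_lt this
    · apply Units.ext
      rw [Units.val_pow_eq_pow_val, Units.val_one]
      exact hpow1
  · apply Units.ext
    exact fm_mul_fm
  · rw [hFinv]
    apply Units.ext
    rw [Units.val_mul, Units.val_mul, Units.val_pow_eq_pow_val]
    exact hconj
  · apply Units.ext
    rw [Units.val_neg, Units.val_one]
    exact hdet
  · apply Units.ext
    rw [Units.val_neg, Units.val_one]
    exact det_fm

/-- The matrix with columns `e₁` and `A e₁`. -/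
def pmat (A : Mat q) : Mat q := !![1, A 0 0; 0, A 1 0]

theorem det_pmat (A : Mat q) : (pmat A).det = A 1 0 := by
  unfold pmat
  rw [Matrix.det_fin_two_of]
  ring

theorem mul_pmat (A : Mat q) (hA : A * A = -1) : A * pmat A = pmat A * tor 0 1 := by
  have h00 : A 0 0 * A 0 0 + A 0 1 * A 1 0 = -1 := by
    have := congrFun (congrFun hA 0) 0
    rw [Matrix.mul_apply, Fin.sum_univ_two] at this
    simpa using this
  have h10 : A 1 0 * A 0 0 + A 1 1 * A 1 0 = 0 := by
    have := congrFun (congrFun hA 1) 0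
    rw [Matrix.mul_apply, Fin.sum_univ_two] at this
    simpa using this
  unfold pmat tor
  conv_lhs => rw [Matrix.eta_fin_two A]
  rw [Matrix.mul_fin_two, Matrix.mul_fin_two]
  ext i j
  fin_cases i <;> fin_cases j <;> simp
  · exact h00
  · exact h10

theorem entry_ne_zero [hq : Fact q.Prime] (h3 : q % 4 = 3) (A : Mat q) (hA : A * A = -1) :
    A 1 0 ≠ 0 := by
  intro h0
  have h00 : A 0 0 * A 0 0 + A 0 1 * A 1 0 = -1 := by
    have := congrFun (congrFun hA 0) 0
    rw [Matrix.mul_apply, Fin.sum_univ_two] at this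
    simpa using this
  rw [h0, mul_zero, add_zero] at h00
  have hsq : IsSquare (-1 : ZMod q) := ⟨A 0 0, h00.symm⟩
  exact (ZMod.exists_sq_eq_neg_one_iff.1 hsq) h3

/-- Two invertible matrices with square `-1` are conjugate by a matrix of prescribed determinant. -/
theorem conj_of_sq [hq : Fact q.Prime] (h3 : q % 4 = 3) (A B : GL (Fin 2) (ZMod q))
    (hA : A * A = -1) (hB : B * B = -1) (d : (ZMod q)ˣ) :
    ∃ g : GL (Fin 2) (ZMod q), g * A * g⁻¹ = B ∧ Matrix.GeneralLinearGroup.det g = d := by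
  have hAm : (A : Mat q) * (A : Mat q) = -1 := by
    have := congrArg Units.val hA
    rwa [Units.val_mul, Units.val_neg, Units.val_one] at this
  have hBm : (B : Mat q) * (B : Mat q) = -1 := by
    have := congrArg Units.val hB
    rwa [Units.val_mul, Units.val_neg, Units.val_one] at this
  let PA : GL (Fin 2) (ZMod q) := Matrix.GeneralLinearGroup.mkOfDetNeZero (pmat (A : Mat q))
    (by rw [det_pmat]; exact entry_ne_zero h3 _ hAm)
  let PB : GL (Fin 2) (ZMod q) := Matrix.GeneralLinearGroup.mkOfDetNeZero (pmat (B : Mat q))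
    (by rw [det_pmat]; exact entry_ne_zero h3 _ hBm)
  let Jg : GL (Fin 2) (ZMod q) := Matrix.GeneralLinearGroup.mkOfDetNeZero (tor (0 : ZMod q) 1)
    (by rw [det_tor]; norm_num)
  have hA' : A = PA * Jg * PA⁻¹ := by
    rw [eq_mul_inv_iff_mul_eq]
    apply Units.ext
    exact mul_pmat _ hAm
  have hB' : B = PB * Jg * PB⁻¹ := by
    rw [eq_mul_inv_iff_mul_eq]
    apply Units.ext
    exact mul_pmat _ hBm
  let target : (ZMod q)ˣ := d * Matrix.GeneralLinearGroup.det PA * (Matrix.GeneralLinearGroup.det PB)⁻¹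
  obtain ⟨x, y, hxy⟩ := ZMod.sq_add_sq q (target : ZMod q)
  have hxy' : x * x + y * y = (target : ZMod q) := by rw [← hxy]; ring
  let c : GL (Fin 2) (ZMod q) := Matrix.GeneralLinearGroup.mkOfDetNeZero (tor x y)
    (by rw [det_tor, hxy']; exact target.ne_zero)
  have hcJ : c * Jg = Jg * c := by
    apply Units.ext
    show tor x y * tor 0 1 = tor 0 1 * tor x y
    rw [tor_mul, tor_mul]
    congr 1 <;> ring
  have hdetc : Matrix.GeneralLinearGroup.det c = target := by
    apply Units.ext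
    show (tor x y).det = (target : ZMod q)
    rw [det_tor, hxy']
  refine ⟨PB * c * PA⁻¹, ?_, ?_⟩
  · rw [hA', hB']
    have : PB * c * PA⁻¹ * (PA * Jg * PA⁻¹) * (PB * c * PA⁻¹)⁻¹ = PB * (c * Jg) * c⁻¹ * PB⁻¹ := by
      group
    rw [this, hcJ]
    group
  · rw [map_mul, map_mul, map_inv, hdetc]
    show Matrix.GeneralLinearGroup.det PB *
      (d * Matrix.GeneralLinearGroup.det PA * (Matrix.GeneralLinearGroup.det PB)⁻¹) *
      (Matrix.GeneralLinearGroup.det PA)⁻¹ = d
    rw [mul_comm (Matrix.GeneralLinearGroup.det PB), mul_assoc, mul_assoc, mul_assoc]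
    simp

end Cfsg.Agent.Lib.Helper87_GL2Tor
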