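import Mathlib
import Cfsg.Agent.Lib.Helper87_TwoGen
import Cfsg.Agent.Lib.Helper87_GL2Tor

/-!
# Sylow `2`-subgroups of `GL₂(q)`, `SL₂(q)`, `PGL₂(q)` for `q ≡ 2^m - 1 mod 2^(m+1)`

For each of the three groups we produce two elements `x, y` with `TwoGenData`, the order of the
ambient group (`2 N` times an odd number), and three mutually conjugate elements
`x ^ k`, `x ^ j * y`, `(x ^ k)⁻¹ * (x ^ j * y)` with the relations needed to show that the fusion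
system on `⟨x, y⟩` is not supersoluble.
-/

namespace Cfsg.Agent.Lib.Helper87_GL2Sylow

open Matrix Subgroup
open Cfsg.Agent.Lib.Helper87_TwoGen Cfsg.Agent.Lib.Helper87_GL2Tor

/-- The package produced for each ambient group. -/
structure Ambient (G : Type*) [Group G] (N e c k j : ℕ) (x y : G) : Prop where
  data : TwoGenData G N e c x y
  card : ∃ r, Odd r ∧ Nat.card G = 2 * N * r
  ne_one : x ^ k ≠ 1
  inv : (x ^ j * y) * x ^ k * (x ^ j * y)⁻¹ = (x ^ k)⁻¹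
  sq : (x ^ j * y) * (x ^ j * y) = x ^ k * x ^ k
  conj1 : ∃ g : G, g * x ^ k * g⁻¹ = x ^ j * y
  conj2 : ∃ g : G, g * ((x ^ k)⁻¹ * (x ^ j * y)) * g⁻¹ = x ^ k

theorem fact_two {k r : ℕ} (hr : Odd r) : (2 ^ k * r).factorization 2 = k := by
  have hr0 : r ≠ 0 := by
    rintro rfl
    exact (Nat.not_odd_iff_even.2 Even.zero) hr
  rw [Nat.factorization_mul (pow_ne_zero _ (by norm_num)) hr0, Nat.Prime.factorization_pow Nat.prime_two]
  have : r.factorization 2 = 0 := by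
    apply Nat.factorization_eq_zero_of_not_dvd
    rw [← even_iff_two_dvd]
    exact Nat.not_even_iff_odd.2 hr
  simp [this]

theorem exists_sylow_of_card {G : Type*} [Group G] [Finite G] (H : Subgroup G) {k r : ℕ}
    (hr : Odd r) (hG : Nat.card G = 2 ^ k * r) (hH : Nat.card H = 2 ^ k) :
    ∃ T : Sylow 2 G, (T : Subgroup G) = H := by
  refine ⟨Sylow.ofCard H ?_, rfl⟩
  rw [hG, fact_two hr, hH]

theorem not_mem_zpowers_of_not_commute {G : Type*} [Group G] {a b : G} (h : a * b ≠ b * a) :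
    b ∉ zpowers a := by
  intro hb
  obtain ⟨n, rfl⟩ := mem_zpowers_iff.1 hb
  apply h
  rw [← _root_.zpow_one_add, ← _root_.zpow_add_one, add_comm]

section abstract

variable {G₀ : Type*} [Group G₀] {s F : G₀} {m : ℕ}

theorem sigma_facts (hm : 2 ≤ m) (hs : s ^ 2 ^ (m + 1) = 1) (hF : F * F = 1)
    (hc : F * s * F⁻¹ = s ^ (2 ^ m - 1)) :
    s ^ 2 ^ (m - 1) * s ^ 2 ^ (m - 1) = s ^ 2 ^ m ∧ (s * F) * (s * F) = s ^ 2 ^ m ∧
      (s * F) * s ^ 2 ^ (m - 1) * (s * F)⁻¹ = (s ^ 2 ^ (m - 1))⁻¹ ∧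
      ((s ^ 2 ^ (m - 1))⁻¹ * (s * F)) * ((s ^ 2 ^ (m - 1))⁻¹ * (s * F)) = s ^ 2 ^ m ∧
      (s * F) * s * (s * F)⁻¹ = s ^ (2 ^ m - 1) := by
  obtain ⟨n, rfl⟩ : ∃ n, m = n + 2 := ⟨m - 2, by omega⟩
  have hFinv : F⁻¹ = F := inv_eq_of_mul_eq_one_right hF
  have h2 : (n + 2 - 1) = n + 1 := by omega
  rw [h2]
  have hUU : s ^ 2 ^ (n + 1) * s ^ 2 ^ (n + 1) = s ^ 2 ^ (n + 2) := by
    rw [← pow_add, ← two_mul, ← pow_succ']
  have hVV : (s * F) * (s * F) = s ^ 2 ^ (n + 2) := by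
    have : (s * F) * (s * F) = s * (F * s * F⁻¹) * (F * F) := by group
    rw [this, hc, hF, mul_one, ← pow_succ']
    congr 1
    have : 0 < 2 ^ (n + 2) := by positivity
    omega
  have hVs : (s * F) * s * (s * F)⁻¹ = s ^ (2 ^ (n + 2) - 1) := by
    have : (s * F) * s * (s * F)⁻¹ = s * (F * s * F⁻¹) * s⁻¹ := by group
    rw [this, hc]
    have : s * s ^ (2 ^ (n + 2) - 1) * s⁻¹ = s ^ (2 ^ (n + 2) - 1) := by
      rw [← pow_succ', pow_succ, mul_inv_cancel_right]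
    exact this
  have hU4 : (s ^ 2 ^ (n + 1)) ^ 2 ^ (n + 2) = 1 := by
    have h5 : 2 ^ (n + 1) * 2 ^ (n + 2) = 2 ^ (n + 2 + 1) * 2 ^ n := by ring
    rw [← pow_mul, h5, pow_mul, hs, one_pow]
  have hVU : (s * F) * s ^ 2 ^ (n + 1) * (s * F)⁻¹ = (s ^ 2 ^ (n + 1))⁻¹ := by
    have h1 : (s * F) * s ^ 2 ^ (n + 1) * (s * F)⁻¹ = ((s * F) * s * (s * F)⁻¹) ^ 2 ^ (n + 1) := by
      rw [conj_pow]
    rw [h1, hVs, ← pow_mul, mul_comm, pow_mul, eq_inv_iff_mul_eq_one, ← pow_succ,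
      Nat.sub_add_cancel (Nat.one_le_two_pow), hU4]
  refine ⟨hUU, hVV, hVU, ?_, hVs⟩
  have : ((s ^ 2 ^ (n + 1))⁻¹ * (s * F)) * ((s ^ 2 ^ (n + 1))⁻¹ * (s * F)) =
      (s ^ 2 ^ (n + 1))⁻¹ * ((s * F) * s ^ 2 ^ (n + 1) * (s * F)⁻¹)⁻¹ * ((s * F) * (s * F)) := by
    group
  rw [this, hVU, inv_inv, inv_mul_cancel, one_mul, hVV]

end abstract

section GLcase

variable {q : ℕ}

theorem card_GL [hq : Fact q.Prime] : Nat.card (GL (Fin 2) (ZMod q)) = (q ^ 2 - 1) * (q ^ 2 - q) := by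
  have := Matrix.card_GL_field (𝔽 := ZMod q) (n := 2)
  rw [this, Fin.prod_univ_two]
  simp [ZMod.card]

theorem card_GL_arith [hq : Fact q.Prime] {m u u' : ℕ} (h : Arith q m u u') :
    Nat.card (GL (Fin 2) (ZMod q)) = 2 * 2 ^ (m + 1) * ((u * u') * (q * u')) := by
  rw [card_GL]
  have h1 : q ^ 2 - 1 = 2 ^ (m + 1) * (u * u') := by
    rw [sq, h.sq_eq, Nat.add_sub_cancel]
  have h2 : q ^ 2 - q = q * (2 * u') := by
    have : q ^ 2 = q * (2 * u') + q := by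
      conv_lhs => rw [sq]
      conv_lhs => rw [h.hu']
      conv_rhs => rw [h.hu']
      ring
    omega
  rw [h1, h2]
  ring

theorem odd_q {m u u' : ℕ} (h : Arith q m u u') : Odd q := ⟨u', h.hu'⟩

/-- Data shared by the three cases. -/
theorem exists_gl_data [hq : Fact q.Prime] {m u u' : ℕ} (h : Arith q m u u') :
    ∃ s F : GL (Fin 2) (ZMod q), orderOf s = 2 ^ (m + 1) ∧ F * F = 1 ∧
      F * s * F⁻¹ = s ^ (2 ^ m - 1) ∧ s ^ 2 ^ m = -1 ∧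
      Matrix.GeneralLinearGroup.det s = -1 ∧ Matrix.GeneralLinearGroup.det F = -1 ∧
      s * F ≠ F * s ∧ s ^ 2 ^ (m - 1) ≠ 1 ∧
      s ^ 2 ^ (m - 1) * s ^ 2 ^ (m - 1) = -1 ∧ (s * F) * (s * F) = -1 ∧
      (s * F) * s ^ 2 ^ (m - 1) * (s * F)⁻¹ = (s ^ 2 ^ (m - 1))⁻¹ ∧
      ((s ^ 2 ^ (m - 1))⁻¹ * (s * F)) * ((s ^ 2 ^ (m - 1))⁻¹ * (s * F)) = -1 ∧
      (s * F) * s * (s * F)⁻¹ = s ^ (2 ^ m - 1) := by
  obtain ⟨s, F, hord, hF, hc, hz, hds, hdF⟩ := exists_gl h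
  have hs : s ^ 2 ^ (m + 1) = 1 := by rw [← hord, pow_orderOf_eq_one]
  obtain ⟨h1, h2, h3, h4, h5⟩ := sigma_facts h.hm hs hF hc
  have hm := h.hm
  have hpos : 2 ≤ 2 ^ m - 2 := by
    have : 2 ^ 2 ≤ 2 ^ m := Nat.pow_le_pow_right (by norm_num) hm
    omega
  refine ⟨s, F, hord, hF, hc, hz, hds, hdF, ?_, ?_, by rw [h1, hz], by rw [h2, hz], h3,
    by rw [h4, hz], h5⟩
  · intro hcomm
    have h6 : F * s * F⁻¹ = s := by rw [← hcomm, mul_inv_cancel_right]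
    rw [hc] at h6
    have h7 : s ^ (2 ^ m - 2) = 1 := by
      have : s ^ (2 ^ m - 2) * s = s := by
        rw [← pow_succ]
        have : 2 ^ m - 2 + 1 = 2 ^ m - 1 := by omega
        rw [this, h6]
      exact mul_eq_right.mp this
    have h8 : 2 ^ (m + 1) ∣ 2 ^ m - 2 := by
      rw [← hord]
      exact orderOf_dvd_of_pow_eq_one h7
    have h9 := Nat.le_of_dvd (by omega) h8
    rw [pow_succ] at h9
    omega
  · intro h6
    have h8 : 2 ^ (m + 1) ∣ 2 ^ (m - 1) := by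
      rw [← hord]
      exact orderOf_dvd_of_pow_eq_one h6
    have h9 := Nat.le_of_dvd (by positivity) h8
    have : 2 ^ (m - 1) < 2 ^ (m + 1) := Nat.pow_lt_pow_right (by norm_num) (by omega)
    omega

theorem ambient_GL [hq : Fact q.Prime] {m u u' : ℕ} (h : Arith q m u u') :
    ∃ s F : GL (Fin 2) (ZMod q),
      Ambient (GL (Fin 2) (ZMod q)) (2 ^ (m + 1)) (2 ^ m - 1) 0 (2 ^ (m - 1)) 1 s F := by
  obtain ⟨s, F, hord, hF, hc, hz, hds, hdF, hnc, hU1, hUU, hVV, hVU, hWW, hVs⟩ := exists_gl_data h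
  have h3 := h.mod_four
  refine ⟨s, F, ⟨⟨hord, by positivity, not_mem_zpowers_of_not_commute hnc, hc, by rw [hF, pow_zero]⟩,
    ⟨(u * u') * (q * u'), (h.oddu.mul h.oddu').mul ((odd_q h).mul h.oddu'), card_GL_arith h⟩,
    hU1, ?_, ?_, ?_, ?_⟩⟩
  · rw [pow_one]
    exact hVU
  · rw [pow_one, hVV, hUU]
  · rw [pow_one]
    obtain ⟨g, hg, -⟩ := conj_of_sq h3 _ _ hUU hVV 1
    exact ⟨g, hg⟩
  · rw [pow_one]
    obtain ⟨g, hg, -⟩ := conj_of_sq h3 _ _ hWW hUU 1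
    exact ⟨g, hg⟩

/-- The kernel of the determinant, i.e. `SL₂(q)` inside `GL₂(q)`. -/
abbrev SLsub (q : ℕ) [Fact q.Prime] : Subgroup (GL (Fin 2) (ZMod q)) :=
  (Matrix.GeneralLinearGroup.det : GL (Fin 2) (ZMod q) →* (ZMod q)ˣ).ker

theorem card_units_zmod [hq : Fact q.Prime] : Nat.card (ZMod q)ˣ = q - 1 := by
  rw [Nat.card_eq_fintype_card, ZMod.card_units]

theorem card_SLsub [hq : Fact q.Prime] :
    Nat.card (SLsub q) * (q - 1) = Nat.card (GL (Fin 2) (ZMod q)) := by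
  rw [← Subgroup.card_mul_index (SLsub q), Subgroup.index_ker]
  congr 1
  have : (Matrix.GeneralLinearGroup.det : GL (Fin 2) (ZMod q) →* (ZMod q)ˣ).range = ⊤ :=
    MonoidHom.range_eq_top.2 Matrix.GeneralLinearGroup.det_surjective
  rw [this, Subgroup.card_top, card_units_zmod]

theorem card_arith_cancel [hq : Fact q.Prime] {m u u' : ℕ} (h : Arith q m u u') {c : ℕ}
    (hc : c * (q - 1) = Nat.card (GL (Fin 2) (ZMod q))) : c = 2 * 2 ^ m * (u * u' * q) := by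
  rw [card_GL_arith h] at hc
  have h1 : q - 1 = 2 * u' := by
    have := h.hu'
    omega
  rw [h1] at hc
  have hu'pos : 0 < 2 * u' := by
    have := h.oddu'.pos
    omega
  have : c * (2 * u') = (2 * 2 ^ m * (u * u' * q)) * (2 * u') := by
    rw [hc, pow_succ]
    ring
  exact Nat.eq_of_mul_eq_mul_right hu'pos this

theorem ambient_SL [hq : Fact q.Prime] {m u u' : ℕ} (h : Arith q m u u') :
    ∃ x y : SLsub q, Ambient (SLsub q) (2 ^ m) (2 ^ m - 1) (2 ^ (m - 1)) (2 ^ (m - 2)) 0 x y := by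
  obtain ⟨s, F, hord, hF, hc, hz, hds, hdF, hnc, hU1, hUU, hVV, hVU, hWW, hVs⟩ := exists_gl_data h
  have h3 := h.mod_four
  have hm := h.hm
  obtain ⟨n, rfl⟩ : ∃ n, m = n + 2 := ⟨m - 2, by omega⟩
  have e1 : n + 2 - 1 = n + 1 := by omega
  have e2 : n + 2 - 2 = n := by omega
  rw [e1] at hU1 hUU hVU hWW
  rw [e1, e2]
  have hs : s ^ 2 ^ (n + 2 + 1) = 1 := by rw [← hord, pow_orderOf_eq_one]
  have hx : s ^ 2 ∈ SLsub q := by
    rw [MonoidHom.mem_ker, map_pow, hds]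
    simp
  have hy : s * F ∈ SLsub q := by
    rw [MonoidHom.mem_ker, map_mul, hds, hdF]
    simp
  have hkey : (s ^ 2) ^ 2 ^ n = s ^ 2 ^ (n + 1) := by
    rw [← pow_mul, ← pow_succ']
  have hconj : (s * F) * s ^ 2 * (s * F)⁻¹ = (s ^ 2) ^ (2 ^ (n + 2) - 1) := by
    have h1 : (s * F) * s ^ 2 * (s * F)⁻¹ = ((s * F) * s * (s * F)⁻¹) ^ 2 := by
      rw [conj_pow]
    rw [h1, hVs, ← pow_mul, ← pow_mul, mul_comm]
  refine ⟨⟨s ^ 2, hx⟩, ⟨s * F, hy⟩, ⟨⟨?_, by positivity, ?_, ?_, ?_⟩, ?_, ?_, ?_, ?_, ?_, ?_⟩⟩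
  · rw [Subgroup.orderOf_mk, orderOf_pow_of_dvd (by norm_num) (by rw [hord]; exact Dvd.intro_left _ rfl),
      hord, pow_succ, Nat.mul_div_cancel _ (by norm_num)]
  · apply not_mem_zpowers_of_not_commute
    intro hcomm
    have hcomm' : s ^ 2 * (s * F) = (s * F) * s ^ 2 := congrArg Subtype.val hcomm
    have h6 : (s * F) * s ^ 2 * (s * F)⁻¹ = s ^ 2 := by rw [← hcomm', mul_inv_cancel_right]
    rw [hconj, ← pow_mul] at h6
    have h7 : s ^ 4 = 1 := by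
      have h8 : s ^ (2 * (2 ^ (n + 2) - 1)) * s ^ 2 = s ^ 2 * s ^ 2 := by rw [h6]
      rw [← pow_add, ← pow_add] at h8
      have : 2 * (2 ^ (n + 2) - 1) + 2 = 2 ^ (n + 2 + 1) := by
        have : 0 < 2 ^ (n + 2) := by positivity
        rw [pow_succ 2 (n + 2)]
        omega
      rw [this, hs] at h8
      exact h8.symm
    have h8 : 2 ^ (n + 2 + 1) ∣ 4 := by
      rw [← hord]
      exact orderOf_dvd_of_pow_eq_one h7
    have h9 := Nat.le_of_dvd (by norm_num) h8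
    have : 2 ^ 3 ≤ 2 ^ (n + 2 + 1) := Nat.pow_le_pow_right (by norm_num) (by omega)
    omega
  · apply Subtype.ext
    exact hconj
  · apply Subtype.ext
    show (s * F) * (s * F) = (s ^ 2) ^ 2 ^ (n + 1)
    rw [hVV, ← pow_mul, ← pow_succ', hz]
  · refine ⟨u * u' * q, (h.oddu.mul h.oddu').mul (odd_q h), ?_⟩
    exact card_arith_cancel h card_SLsub
  · intro h6
    have : (s ^ 2) ^ 2 ^ n = 1 := congrArg Subtype.val h6
    rw [hkey] at this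
    exact hU1 this
  · apply Subtype.ext
    show (((s ^ 2) ^ 0 * (s * F)) * (s ^ 2) ^ 2 ^ n * ((s ^ 2) ^ 0 * (s * F))⁻¹ : GL (Fin 2) (ZMod q)) =
      ((s ^ 2) ^ 2 ^ n)⁻¹
    rw [pow_zero, one_mul, hkey, hVU]
  · apply Subtype.ext
    show (((s ^ 2) ^ 0 * (s * F)) * ((s ^ 2) ^ 0 * (s * F)) : GL (Fin 2) (ZMod q)) =
      (s ^ 2) ^ 2 ^ n * (s ^ 2) ^ 2 ^ n
    rw [pow_zero, one_mul, hkey, hVV, hUU]
  · obtain ⟨g, hg, hdg⟩ := conj_of_sq h3 _ _ hUU hVV 1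
    refine ⟨⟨g, hdg⟩, ?_⟩
    apply Subtype.ext
    show (g * (s ^ 2) ^ 2 ^ n * g⁻¹ : GL (Fin 2) (ZMod q)) = (s ^ 2) ^ 0 * (s * F)
    rw [pow_zero, one_mul, hkey, hg]
  · obtain ⟨g, hg, hdg⟩ := conj_of_sq h3 _ _ hWW hUU 1
    refine ⟨⟨g, hdg⟩, ?_⟩
    apply Subtype.ext
    show (g * (((s ^ 2) ^ 2 ^ n)⁻¹ * ((s ^ 2) ^ 0 * (s * F))) * g⁻¹ : GL (Fin 2) (ZMod q)) =
      (s ^ 2) ^ 2 ^ n
    rw [pow_zero, one_mul, hkey, hg]

/-- The centre of `GL₂(q)`; the quotient by it is `PGL₂(q)`. -/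
abbrev Zsub (q : ℕ) [Fact q.Prime] : Subgroup (GL (Fin 2) (ZMod q)) :=
  Subgroup.center (GL (Fin 2) (ZMod q))

theorem scalar_injective [hq : Fact q.Prime] :
    Function.Injective (Matrix.GeneralLinearGroup.scalar (Fin 2) : (ZMod q)ˣ →* GL (Fin 2) (ZMod q)) := by
  intro a b hab
  have h1 : ((Matrix.GeneralLinearGroup.scalar (Fin 2) a : GL (Fin 2) (ZMod q)) : Mat q) 0 0 =
      ((Matrix.GeneralLinearGroup.scalar (Fin 2) b : GL (Fin 2) (ZMod q)) : Mat q) 0 0 := by rw [hab]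
  rw [Matrix.GeneralLinearGroup.coe_scalar, Matrix.GeneralLinearGroup.coe_scalar] at h1
  apply Units.ext
  simpa using h1

theorem card_Zsub [hq : Fact q.Prime] : Nat.card (Zsub q) = q - 1 := by
  unfold Zsub
  rw [Matrix.GeneralLinearGroup.center_eq_range_scalar, ← card_units_zmod (q := q)]
  exact Nat.card_congr (MonoidHom.ofInjective scalar_injective).toEquiv.symm

theorem card_PGL [hq : Fact q.Prime] :
    Nat.card (GL (Fin 2) (ZMod q) ⧸ Zsub q) * (q - 1) = Nat.card (GL (Fin 2) (ZMod q)) := by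
  rw [Subgroup.card_eq_card_quotient_mul_card_subgroup (Zsub q), card_Zsub]

theorem neg_one_mem_Zsub [hq : Fact q.Prime] : (-1 : GL (Fin 2) (ZMod q)) ∈ Zsub q := by
  rw [Subgroup.mem_center_iff]
  intro g
  rw [mul_neg, neg_mul, mul_one, one_mul]

theorem neg_one_ne_one_gl [hq : Fact q.Prime] (hq2 : 2 < q) : (-1 : GL (Fin 2) (ZMod q)) ≠ 1 := by
  intro hcon
  have : ((-1 : GL (Fin 2) (ZMod q)) : Mat q) = ((1 : GL (Fin 2) (ZMod q)) : Mat q) := by rw [hcon]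
  rw [Units.val_neg, Units.val_one] at this
  exact neg_one_ne_one_mat hq2 this

theorem not_commute_of {G : Type*} [Group G] {s F : G} {m : ℕ} (hm : 2 ≤ m)
    (hord : 2 ^ m ≤ orderOf s) (hc : F * s * F⁻¹ = s ^ (2 ^ m - 1)) : s * F ≠ F * s := by
  have hpos : 2 ≤ 2 ^ m - 2 := by
    have : 2 ^ 2 ≤ 2 ^ m := Nat.pow_le_pow_right (by norm_num) hm
    omega
  intro hcomm
  have h6 : F * s * F⁻¹ = s := by rw [← hcomm, mul_inv_cancel_right]
  rw [hc] at h6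
  have h7 : s ^ (2 ^ m - 2) = 1 := by
    have : s ^ (2 ^ m - 2) * s = s := by
      rw [← pow_succ]
      have : 2 ^ m - 2 + 1 = 2 ^ m - 1 := by omega
      rw [this, h6]
    exact mul_eq_right.mp this
  have h8 : orderOf s ∣ 2 ^ m - 2 := orderOf_dvd_of_pow_eq_one h7
  have h9 := Nat.le_of_dvd (by omega) h8
  omega

theorem ambient_PGL [hq : Fact q.Prime] {m u u' : ℕ} (h : Arith q m u u') :
    ∃ x y : GL (Fin 2) (ZMod q) ⧸ Zsub q,
      Ambient (GL (Fin 2) (ZMod q) ⧸ Zsub q) (2 ^ m) (2 ^ m - 1) 0 (2 ^ (m - 1)) 1 x y := by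
  obtain ⟨s, F, hord, hF, hc, hz, hds, hdF, hnc, hU1, hUU, hVV, hVU, hWW, hVs⟩ := exists_gl_data h
  have h3 := h.mod_four
  have hm := h.hm
  let π : GL (Fin 2) (ZMod q) →* GL (Fin 2) (ZMod q) ⧸ Zsub q := QuotientGroup.mk' (Zsub q)
  have hπ : ∀ g, π g = 1 ↔ g ∈ Zsub q := fun g => QuotientGroup.eq_one_iff g
  have hneg : π (-1) = 1 := (hπ _).2 neg_one_mem_Zsub
  have hUne : π s ^ 2 ^ (m - 1) ≠ 1 := by
    rw [← map_pow, Ne, hπ]
    intro hU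
    have h6 : (s * F) * s ^ 2 ^ (m - 1) * (s * F)⁻¹ = s ^ 2 ^ (m - 1) := by
      rw [Subgroup.mem_center_iff] at hU
      rw [hU (s * F), mul_inv_cancel_right]
    rw [hVU] at h6
    have h7 : s ^ 2 ^ (m - 1) * s ^ 2 ^ (m - 1) = 1 := by
      nth_rewrite 1 [← h6]
      exact inv_mul_cancel _
    rw [hUU] at h7
    exact neg_one_ne_one_gl h.two_lt h7
  have hord' : orderOf (π s) = 2 ^ m := by
    have h1 : orderOf (π s) = 2 ^ (m - 1 + 1) := by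
      apply orderOf_eq_prime_pow hUne
      rw [Nat.sub_add_cancel (by omega), ← map_pow, hz, hneg]
    rw [h1, Nat.sub_add_cancel (by omega)]
  have hc' : π F * π s * (π F)⁻¹ = π s ^ (2 ^ m - 1) := by
    rw [← map_inv, ← map_mul, ← map_mul, hc, map_pow]
  refine ⟨π s, π F, ⟨⟨hord', by positivity, ?_, hc', ?_⟩, ?_, hUne, ?_, ?_, ?_, ?_⟩⟩
  · exact not_mem_zpowers_of_not_commute (not_commute_of hm hord'.ge hc')
  · rw [← map_mul, hF, map_one, pow_zero]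
  · exact ⟨u * u' * q, (h.oddu.mul h.oddu').mul (odd_q h), card_arith_cancel h card_PGL⟩
  · rw [pow_one, ← map_mul, ← map_pow, ← map_inv, ← map_mul, ← map_mul, hVU, map_inv]
  · rw [pow_one, ← map_mul, ← map_mul, ← map_pow, ← map_mul, hVV, hUU]
  · obtain ⟨g, hg, -⟩ := conj_of_sq h3 _ _ hUU hVV 1
    refine ⟨π g, ?_⟩
    rw [pow_one, ← map_pow, ← map_inv, ← map_mul, ← map_mul, hg, map_mul]
  · obtain ⟨g, hg, -⟩ := conj_of_sq h3 _ _ hWW hUU 1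
    refine ⟨π g, ?_⟩
    rw [pow_one, ← map_pow, ← map_mul, ← map_inv, ← map_mul, ← map_inv, ← map_mul, ← map_mul, hg]

/-- Dirichlet: for every `m ≥ 2` there is a prime `q ≡ 2 ^ m - 1 mod 2 ^ (m + 1)`. -/
theorem exists_arith {m : ℕ} (hm : 2 ≤ m) : ∃ q u u' : ℕ, Arith q m u u' := by
  have hcop : (2 ^ m - 1).Coprime (2 ^ (m + 1)) := by
    apply Nat.Coprime.pow_right
    rw [Nat.coprime_two_right]
    have : 2 ^ m = 2 * 2 ^ (m - 1) := by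
      rw [← pow_succ', Nat.sub_add_cancel (by omega)]
    have h1 : 0 < 2 ^ (m - 1) := by positivity
    exact ⟨2 ^ (m - 1) - 1, by omega⟩
  obtain ⟨q, -, hqp, hmod⟩ := Nat.forall_exists_prime_gt_and_modEq 0 (pow_ne_zero (m + 1) two_ne_zero) hcop
  have hlt : 2 ^ m - 1 < 2 ^ (m + 1) := by
    have : 2 ^ m < 2 ^ (m + 1) := Nat.pow_lt_pow_right (by norm_num) (by omega)
    omega
  have h1 : q % 2 ^ (m + 1) = 2 ^ m - 1 := by
    have := hmod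
    unfold Nat.ModEq at this
    rw [this, Nat.mod_eq_of_lt hlt]
  have h2 : q = 2 ^ (m + 1) * (q / 2 ^ (m + 1)) + (2 ^ m - 1) := by
    rw [← h1]
    exact (Nat.div_add_mod q (2 ^ (m + 1))).symm
  set k := q / 2 ^ (m + 1) with hk
  obtain ⟨n, rfl⟩ : ∃ n, m = n + 2 := ⟨m - 2, by omega⟩
  have hp : 0 < 2 ^ n := by positivity
  have e1 : 2 ^ (n + 2 + 1) = 8 * 2 ^ n := by ring
  have e2 : 2 ^ (n + 2) = 4 * 2 ^ n := by ring
  refine ⟨q, 2 * k + 1, 4 * 2 ^ n * k + 2 * 2 ^ n - 1, hqp, hm, ?_, ?_, ⟨k, rfl⟩, ?_⟩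
  · rw [h2, e1, e2]
    have : 0 < 4 * 2 ^ n := by positivity
    have e3 : 8 * 2 ^ n * k + (4 * 2 ^ n - 1) + 1 = 8 * 2 ^ n * k + 4 * 2 ^ n := by omega
    rw [e3]
    ring
  · rw [e1, e2] at h2
    have e3 : 2 * (4 * 2 ^ n * k + 2 * 2 ^ n - 1) + 1 = 8 * 2 ^ n * k + (4 * 2 ^ n - 1) := by
      have : 8 * 2 ^ n * k = 2 * (4 * 2 ^ n * k) := by ring
      omega
    rw [e3]
    exact h2
  · refine ⟨2 * 2 ^ n * k + 2 ^ n - 1, ?_⟩
    have : 4 * 2 ^ n * k = 2 * (2 * 2 ^ n * k) := by ring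
    omega

end GLcase

end Cfsg.Agent.Lib.Helper87_GL2Sylow
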