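import Mathlib
import Cfsg.Agent.Lib.Helper9_GrossDefs
import Cfsg.Agent.Lib.Helper71_ModRep
import Cfsg.Agent.Lib.Helper71_ESLinear
import Cfsg.Agent.Lib.Helper71_HHRep

/-!
# GROSS-GL (architect: helper9, S3795): the lower level of Gross' argument

`gross_lower_of_core`: the statement of package GL, with the linear core (package GCORE) as an
explicit hypothesis `CoreStmt`.  `gross_lower` itself is obtained by plugging in GCORE.
-/

set_option autoImplicit false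
set_option linter.unusedSectionVars false
set_option linter.unusedVariables false

namespace Cfsg.Agent.Lib.Helper87_Gross_GLaux

open Module Cfsg.Agent.Lib.Helper9_GrossDefs Cfsg.Agent.Lib.Helper71_ESLinear
  Cfsg.Agent.Lib.Helper71_HHB Cfsg.Agent.Lib.Helper71_HHBTwist Cfsg.Agent.Lib.Helper71_ModRep
  Cfsg.Agent.Lib.Helper71_HHRep
open scoped commutatorElement

universe u

section comm
variable {G : Type*} [Group G]

theorem comm_mul_right (e e' c : G) (h : Commute e c) : ⁅e, e' * c⁆ = ⁅e, e'⁆ := by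
  have h' : c * e⁻¹ = e⁻¹ * c := (h.inv_left.eq).symm
  rw [commutatorElement_def, commutatorElement_def]
  calc e * (e' * c) * e⁻¹ * (e' * c)⁻¹ = e * e' * (c * e⁻¹) * c⁻¹ * e'⁻¹ := by group
    _ = e * e' * (e⁻¹ * c) * c⁻¹ * e'⁻¹ := by rw [h']
    _ = e * e' * e⁻¹ * e'⁻¹ := by group

theorem comm_mul_left (a a' b : G) (h : Commute a ⁅a', b⁆) :
    ⁅a * a', b⁆ = ⁅a', b⁆ * ⁅a, b⁆ := by
  have h' : a * (a' * b * a'⁻¹ * b⁻¹) = (a' * b * a'⁻¹ * b⁻¹) * a := by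
    have := h.eq
    rwa [commutatorElement_def] at this
  rw [commutatorElement_def, commutatorElement_def, commutatorElement_def]
  calc a * a' * b * (a * a')⁻¹ * b⁻¹ = (a * (a' * b * a'⁻¹ * b⁻¹)) * b * a⁻¹ * b⁻¹ := by group
    _ = ((a' * b * a'⁻¹ * b⁻¹) * a) * b * a⁻¹ * b⁻¹ := by rw [h']
    _ = a' * b * a'⁻¹ * b⁻¹ * (a * b * a⁻¹ * b⁻¹) := by group

theorem comm_inv_left (a b : G) (h : Commute a ⁅a, b⁆) : ⁅a⁻¹, b⁆ = (⁅a, b⁆)⁻¹ := by
  have h' : a * (a * b * a⁻¹ * b⁻¹) = (a * b * a⁻¹ * b⁻¹) * a := by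
    have := h.eq
    rwa [commutatorElement_def] at this
  rw [commutatorElement_def, commutatorElement_def]
  have h2 : (a * b * a⁻¹ * b⁻¹)⁻¹ * a = a * (a * b * a⁻¹ * b⁻¹)⁻¹ := by
    calc (a * b * a⁻¹ * b⁻¹)⁻¹ * a
        = (a * b * a⁻¹ * b⁻¹)⁻¹ * (a * (a * b * a⁻¹ * b⁻¹)) * (a * b * a⁻¹ * b⁻¹)⁻¹ := by group
      _ = (a * b * a⁻¹ * b⁻¹)⁻¹ * ((a * b * a⁻¹ * b⁻¹) * a) * (a * b * a⁻¹ * b⁻¹)⁻¹ := by
          rw [h']
      _ = a * (a * b * a⁻¹ * b⁻¹)⁻¹ := by group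
  calc a⁻¹ * b * a⁻¹⁻¹ * b⁻¹ = a⁻¹ * ((a * b * a⁻¹ * b⁻¹)⁻¹ * a) := by group
    _ = a⁻¹ * (a * (a * b * a⁻¹ * b⁻¹)⁻¹) := by rw [h2]
    _ = (a * b * a⁻¹ * b⁻¹)⁻¹ := by group

end comm

/-- the statement of the linear core (package GCORE) at a fixed field and space -/
def CoreStmt (K : Type*) [Field K] (W : Type*) [AddCommGroup W] [Module K W] : Prop :=
  ∀ (s : ℕ) [Fact s.Prime], s ≠ 2 → (2 : K) ≠ 0 → (s : K) ≠ 0 → ∀ (N : ℕ) (x : W ≃ₗ[K] W),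
    x ^ 2 ^ (N + 1) = 1 → (∀ v : W, x v = v → v = 0) →
    ∀ (E : Subgroup (W ≃ₗ[K] W)) [Finite E], IsPGroup s E →
    (∀ g ∈ E, x * g * x⁻¹ ∈ E) →
    (∀ a ∈ E, ∀ b ∈ E, ∀ c ∈ E, Commute ⁅a, b⁆ c) →
    (∀ c ∈ E, Commute (x ^ 2 ^ N) c → ∀ g ∈ E, Commute c g) →
    sSup {U : Submodule K W | Nice s E (x ^ 2 ^ N) U} = ⊤

/-- a fixed-point-free automorphism of 2-power order forces odd order -/
theorem odd_card_of_fpf {V : Type*} [CommGroup V] [Finite V] (τ : MulAut V) (n : ℕ)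
    (hτ : τ ^ 2 ^ n = 1) (hfix : ∀ v, τ v = v → v = 1) : Nat.card V % 2 = 1 := by
  classical
  have hP : IsPGroup 2 (Subgroup.zpowers τ) := by
    rintro ⟨g, hg⟩
    obtain ⟨k, rfl⟩ := Subgroup.mem_zpowers_iff.1 hg
    refine ⟨n, ?_⟩
    apply Subtype.ext
    show (τ ^ k) ^ 2 ^ n = 1
    rw [← zpow_natCast, ← zpow_mul, mul_comm, zpow_mul, zpow_natCast, hτ, one_zpow]
  have h := hP.card_modEq_card_fixedPoints V
  have hfp : MulAction.fixedPoints (Subgroup.zpowers τ) V = {1} := by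
    ext v
    rw [MulAction.mem_fixedPoints, Set.mem_singleton_iff]
    constructor
    · intro hv
      apply hfix
      exact hv ⟨τ, Subgroup.mem_zpowers τ⟩
    · rintro rfl g
      show (g : MulAut V) 1 = 1
      exact map_one _
  rw [hfp] at h
  have h1 : Nat.card ({1} : Set V) = 1 := by simp
  rw [h1] at h
  exact h

/-- package GL with the linear core as a hypothesis -/
theorem gross_lower_of_core {r r₁ : ℕ} [Fact r.Prime] [Fact r₁.Prime] (hr₁2 : r₁ ≠ 2)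
    (hr₁r : r₁ ≠ r)
    (hcore : ∀ (W : Type u) [AddCommGroup W] [Module (AlgebraicClosure (ZMod r)) W]
      [FiniteDimensional (AlgebraicClosure (ZMod r)) W], CoreStmt (AlgebraicClosure (ZMod r)) W)
    {V : Type u} [CommGroup V] [Finite V] (hV : ∀ v : V, v ^ r = 1)
    (τ : MulAut V) (N : ℕ) (hτ : τ ^ 2 ^ (N + 1) = 1) (hfixV : ∀ v, τ v = v → v = 1)
    (R₁ F ET C : Subgroup (MulAut V)) (hR₁ : IsPGroup r₁ R₁)
    (hτR₁ : ∀ a ∈ R₁, τ * a * τ⁻¹ ∈ R₁) (hFR : F ≤ R₁) (hτF : ∀ f ∈ F, τ * f * τ⁻¹ ∈ F)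
    (hFc : ∀ f ∈ F, ∀ a ∈ R₁, Commute f a) (hcomm : ∀ a ∈ R₁, ∀ b ∈ R₁, ⁅a, b⁆ ∈ F)
    (hnab : ∃ a ∈ R₁, ∃ b ∈ R₁, ⁅a, b⁆ ≠ 1)
    (hET : ∀ a, a ∈ ET ↔ a ∈ R₁ ∧ τ ^ 2 ^ N * a * (τ ^ 2 ^ N)⁻¹ * a ∈ F)
    (hCR : C ≤ R₁) (hETC : ∀ e ∈ ET, ∀ c ∈ C, Commute e c)
    (hprod : ∀ a ∈ R₁, ∃ e ∈ ET, ∃ c ∈ C, a = e * c) :
    ∃ K₀ : Subgroup (MulAut V), K₀ ≤ F ∧ ∃ A : Subgroup (MulAut V),
      (∀ a, a ∈ A ↔ a ∈ R₁ ∧ ∀ b ∈ R₁, ⁅a, b⁆ ∈ K₀) ∧
      (∃ m : ℕ, 1 < m ∧ Nat.card R₁ = Nat.card A * m ^ 2) ∧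
      (Nat.card ET = Nat.card (ET ⊓ A : Subgroup (MulAut V)) ∨
        Nat.card ET = Nat.card (ET ⊓ A : Subgroup (MulAut V)) * r₁ ^ 2) := by
  classical
  have hr : r.Prime := Fact.out
  have hr₁ : r₁.Prime := Fact.out
  obtain ⟨W, _, _, _, Φ, hΦfix, hΦinj⟩ := exists_rep r hV
  let K := AlgebraicClosure (ZMod r)
  let Ψ : MulAut V →* (W ≃ₗ[K] W) :=
    (LinearMap.GeneralLinearGroup.generalLinearEquiv K W).toMonoidHom.comp Φ.toHomUnits
  have hΨa : ∀ (f : MulAut V) (w : W), Ψ f w = Φ f w := fun f w => rfl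
  have hΨinj : Function.Injective Ψ := by
    rw [injective_iff_map_eq_one]
    intro f hf
    apply hΦinj
    ext w
    rw [← hΨa, hf]
    rfl
  have hfinA : Finite (MulAut V) := Finite.of_injective (fun f : MulAut V => (f : V → V))
    (fun f g h => MulEquiv.ext (fun v => congrFun h v))
  -- basic facts on ET, F
  have hETR : ET ≤ R₁ := fun a ha => ((hET a).1 ha).1
  have hτ₀F : ∀ f ∈ F, τ ^ 2 ^ N * f * (τ ^ 2 ^ N)⁻¹ ∈ F := by
    have : ∀ k : ℕ, ∀ f ∈ F, τ ^ k * f * (τ ^ k)⁻¹ ∈ F := by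
      intro k
      induction k with
      | zero => intro f hf; simpa using hf
      | succ k ih =>
        intro f hf
        have := hτF _ (ih f hf)
        have e : τ ^ (k + 1) * f * (τ ^ (k + 1))⁻¹ = τ * (τ ^ k * f * (τ ^ k)⁻¹) * τ⁻¹ := by
          rw [pow_succ']; group
        rw [e]; exact this
    exact this _
  have hFET : F ≤ ET := by
    intro f hf
    rw [hET]
    exact ⟨hFR hf, F.mul_mem (hτ₀F f hf) hf⟩
  have hτET : ∀ a ∈ ET, τ * a * τ⁻¹ ∈ ET := by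
    intro a ha
    obtain ⟨haR, haF⟩ := (hET a).1 ha
    rw [hET]
    refine ⟨hτR₁ a haR, ?_⟩
    have hc : Commute (τ ^ 2 ^ N) τ := (Commute.refl τ).pow_left _
    have e : τ ^ 2 ^ N * (τ * a * τ⁻¹) * (τ ^ 2 ^ N)⁻¹ * (τ * a * τ⁻¹)
        = τ * (τ ^ 2 ^ N * a * (τ ^ 2 ^ N)⁻¹ * a) * τ⁻¹ := by
      have h1 : τ ^ 2 ^ N * τ = τ * τ ^ 2 ^ N := hc.eq
      have h2 : τ⁻¹ * (τ ^ 2 ^ N)⁻¹ = (τ ^ 2 ^ N)⁻¹ * τ⁻¹ := by
        rw [← mul_inv_rev, ← mul_inv_rev, h1]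
      calc τ ^ 2 ^ N * (τ * a * τ⁻¹) * (τ ^ 2 ^ N)⁻¹ * (τ * a * τ⁻¹)
          = (τ ^ 2 ^ N * τ) * a * (τ⁻¹ * (τ ^ 2 ^ N)⁻¹) * τ * a * τ⁻¹ := by group
        _ = (τ * τ ^ 2 ^ N) * a * ((τ ^ 2 ^ N)⁻¹ * τ⁻¹) * τ * a * τ⁻¹ := by rw [h1, h2]
        _ = τ * (τ ^ 2 ^ N * a * (τ ^ 2 ^ N)⁻¹ * a) * τ⁻¹ := by group
    rw [e]
    exact hτF _ haF
  -- `r` is odd
  have hr2 : r ≠ 2 := by
    rintro rfl
    have hodd := odd_card_of_fpf τ (N + 1) hτ hfixV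
    obtain ⟨a, -, b, -, hab⟩ := hnab
    have hnt : ∃ v : V, v ≠ 1 := by
      by_contra hcon
      push Not at hcon
      apply hab
      have h1 : ∀ f : MulAut V, f = 1 :=
        fun f => MulEquiv.ext (fun v => by rw [hcon (f v), hcon ((1 : MulAut V) v)])
      rw [h1 a, h1 b]; simp
    obtain ⟨v, hv⟩ := hnt
    have hov : orderOf v = 2 := orderOf_eq_prime (hV v) hv
    have hdvd : 2 ∣ Nat.card V := hov ▸ orderOf_dvd_natCard v
    omega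
  have hcast : ∀ n : ℕ, ¬ r ∣ n → ((n : ℕ) : K) ≠ 0 := by
    intro n h h0
    exact h ((CharP.cast_eq_zero_iff (AlgebraicClosure (ZMod r)) r n).1 h0)
  have h2K : (2 : K) ≠ 0 := by
    have := hcast 2 (fun h => hr2 ((Nat.prime_dvd_prime_iff_eq hr Nat.prime_two).1 h))
    exact_mod_cast this
  have hsK : (r₁ : K) ≠ 0 :=
    hcast r₁ (fun h => hr₁r ((Nat.prime_dvd_prime_iff_eq hr hr₁).1 h).symm)
  -- the linear group `E` and the operator `x`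
  set x : W ≃ₗ[K] W := Ψ τ with hxdef
  have hx : x ^ 2 ^ (N + 1) = 1 := by rw [hxdef, ← map_pow, hτ, map_one]
  have hxfix : ∀ v : W, x v = v → v = 0 :=
    fun v hv => hΦfix τ hfixV v (by rw [← hΨa]; exact hv)
  set E : Subgroup (W ≃ₗ[K] W) := ET.map Ψ with hEdef
  have hfinE : Finite E :=
    Finite.of_surjective (fun g : ET => (⟨Ψ g, ⟨g, g.2, rfl⟩⟩ : ET.map Ψ))
      (by rintro ⟨_, ⟨g, hg, rfl⟩⟩; exact ⟨⟨g, hg⟩, rfl⟩)
  have hETp : IsPGroup r₁ ET := hR₁.to_le hETR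
  have hEp : IsPGroup r₁ E := hETp.map Ψ
  have hnorm : ∀ g ∈ E, x * g * x⁻¹ ∈ E := by
    rintro _ ⟨g, hg, rfl⟩
    exact ⟨τ * g * τ⁻¹, hτET g hg, by rw [map_mul, map_mul, map_inv]⟩
  have hcl : ∀ a ∈ E, ∀ b ∈ E, ∀ c ∈ E, Commute ⁅a, b⁆ c := by
    rintro _ ⟨a, ha, rfl⟩ _ ⟨b, hb, rfl⟩ _ ⟨c, hc, rfl⟩
    have h1 : ⁅a, b⁆ ∈ F := hcomm a (hETR ha) b (hETR hb)
    have h2 := hFc _ h1 c (hETR hc)
    rw [← map_commutatorElement]
    exact h2.map Ψ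
  have hcent : ∀ c ∈ E, Commute (x ^ 2 ^ N) c → ∀ g ∈ E, Commute c g := by
    rintro _ ⟨c, hc, rfl⟩ hcc _ ⟨g, hg, rfl⟩
    have h1 : τ ^ 2 ^ N * c = c * τ ^ 2 ^ N := by
      apply hΨinj
      rw [map_mul, map_mul, map_pow]
      exact hcc.eq
    obtain ⟨hcR, hcF⟩ := (hET c).1 hc
    have h2 : c * c ∈ F := by
      have : τ ^ 2 ^ N * c * (τ ^ 2 ^ N)⁻¹ * c = c * c := by rw [h1]; group
      rwa [this] at hcF
    have hcF' : c ∈ F := by
      obtain ⟨k, hk⟩ := hETp ⟨c, hc⟩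
      have hk' : c ^ r₁ ^ k = 1 := by
        have := congrArg Subtype.val hk
        simpa using this
      have hodd : Odd (r₁ ^ k) := (hr₁.odd_of_ne_two hr₁2).pow
      obtain ⟨m, hm⟩ := hodd
      have : c = (c * c) ^ (m + 1) := by
        rw [← pow_two, ← pow_mul]
        have e : 2 * (m + 1) = r₁ ^ k + 1 := by omega
        rw [e, pow_succ, hk', one_mul]
      rw [this]; exact F.pow_mem h2 _
    exact (hFc c hcF' g (hETR hg)).map Ψ
  have hsup := hcore W r₁ hr₁2 h2K hsK N x hx hxfix E hEp hnorm hcl hcent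
  -- choice of `U'`
  obtain ⟨a₀, ha₀, b₀, hb₀, hc₀⟩ := hnab
  have hc₀F : ⁅a₀, b₀⁆ ∈ F := hcomm a₀ ha₀ b₀ hb₀
  have hexU : ∃ U', Nice r₁ E (x ^ 2 ^ N) U' ∧ ∃ u ∈ U', Ψ ⁅a₀, b₀⁆ u ≠ u := by
    by_contra hcon
    push Not at hcon
    apply hc₀
    apply hΨinj
    rw [map_one]
    have hle : sSup {U : Submodule K W | Nice r₁ E (x ^ 2 ^ N) U}
        ≤ LinearMap.ker ((Ψ ⁅a₀, b₀⁆ : W →ₗ[K] W) - 1) := by
      apply sSup_le
      intro U hU u hu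
      rw [LinearMap.mem_ker, LinearMap.sub_apply, sub_eq_zero]
      exact hcon U hU u hu
    rw [hsup] at hle
    ext w
    have := hle (Submodule.mem_top : w ∈ ⊤)
    rw [LinearMap.mem_ker, LinearMap.sub_apply, sub_eq_zero] at this
    exact this
  obtain ⟨U', hNice, u₀, hu₀, hu₀c⟩ := hexU
  -- Schur's lemma on `U'`
  have hU'inv : ∀ g : E, ∀ u ∈ U', tautRep E g u ∈ U' := hNice.simple.1
  have hU'0 : U' ≠ ⊥ := hNice.simple.2.1
  have hU'min : ∀ M' : Submodule K W, M' ≤ U' → M' ≠ ⊥ →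
      (∀ g, ∀ w ∈ M', tautRep E g w ∈ M') → M' = U' := by
    intro M' hM' hM'0 hinv
    rcases hNice.simple.2.2 M' hM' hinv with h | h
    · exact absurd h hM'0
    · exact h
  have hirrU' : Irr (subRep (tautRep E) U' hU'inv) :=
    irr_subRep_of_minimal (tautRep E) U' hU'inv hU'min
  have : Nontrivial U' := Submodule.nontrivial_iff_ne_bot.2 hU'0
  have hU'E : ∀ e ∈ ET, ∀ u ∈ U', Ψ e u ∈ U' :=
    fun e he u hu => hU'inv ⟨Ψ e, ⟨e, he, rfl⟩⟩ u hu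
  have hschur : ∀ g ∈ E, (∀ h ∈ E, ∀ u ∈ U', g (h u) = h (g u)) → ScOn U' g := by
    intro g hg hgc
    have hsc := isSc_of_commute hirrU' (subRep (tautRep E) U' hU'inv ⟨g, hg⟩) (by
      intro h
      ext u
      exact hgc h h.2 u u.2)
    obtain ⟨c, hc⟩ := hsc
    refine ⟨c, fun u hu => ?_⟩
    have := congrArg (fun f : End K U' => ((f ⟨u, hu⟩ : U') : W)) hc
    simpa using this
  -- applying `Ψ` to products and inverses
  have hΨmul : ∀ (g h : MulAut V) (w : W), Ψ (g * h) w = Ψ g (Ψ h w) := by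
    intro g h w
    rw [map_mul]; rfl
  have hΨinv : ∀ (g : MulAut V) (w : W), Ψ g⁻¹ (Ψ g w) = w := by
    intro g w
    rw [← hΨmul, inv_mul_cancel, map_one]; rfl
  have hΨinv' : ∀ (g : MulAut V) (w : W), Ψ g (Ψ g⁻¹ w) = w := by
    intro g w
    rw [← hΨmul, mul_inv_cancel, map_one]; rfl
  -- commutators and commuting on `U'`
  have hcommU : ∀ g ∈ ET, ∀ h ∈ ET, (∀ u ∈ U', Ψ g (Ψ h u) = Ψ h (Ψ g u)) →
      ∀ u ∈ U', Ψ ⁅g, h⁆ u = u := by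
    intro g hg h hh hgh u hu
    have e : ⁅g, h⁆ = (g * h) * (h * g)⁻¹ := by rw [commutatorElement_def]; group
    have hu' : Ψ (h * g)⁻¹ u ∈ U' := hU'E _ (ET.inv_mem (ET.mul_mem hh hg)) u hu
    rw [e, hΨmul (g * h), hΨmul g h, hgh _ hu', ← hΨmul h g, hΨinv']
  have hcommU' : ∀ g ∈ ET, ∀ h ∈ ET, (∀ u ∈ U', Ψ ⁅g, h⁆ u = u) →
      ∀ u ∈ U', Ψ g (Ψ h u) = Ψ h (Ψ g u) := by
    intro g hg h hh hgh u hu
    have e : g * h = ⁅g, h⁆ * (h * g) := by rw [commutatorElement_def]; group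
    have hu' : Ψ (h * g) u ∈ U' := hU'E _ (ET.mul_mem hh hg) u hu
    rw [← hΨmul g h, e, hΨmul, hgh _ hu', hΨmul]
  -- `F` acts on `U'` by scalars
  have hFsc : ∀ f ∈ F, ScOn U' (Ψ f) := by
    intro f hf
    apply hschur (Ψ f) ⟨f, hFET hf, rfl⟩
    rintro _ ⟨e, he, rfl⟩ u hu
    have h1 := (hFc f hf e (hETR he)).eq
    rw [← hΨmul, ← hΨmul, h1]
  let K₀ : Subgroup (MulAut V) :=
    { carrier := {f | f ∈ F ∧ ∀ u ∈ U', Ψ f u = u}
      one_mem' := ⟨F.one_mem, fun u _ => by rw [map_one]; rfl⟩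
      mul_mem' := by
        rintro f g ⟨hf, hfu⟩ ⟨hg, hgu⟩
        refine ⟨F.mul_mem hf hg, fun u hu => ?_⟩
        rw [hΨmul, hgu u hu, hfu u hu]
      inv_mem' := by
        rintro f ⟨hf, hfu⟩
        refine ⟨F.inv_mem hf, fun u hu => ?_⟩
        have := hΨinv f u
        rwa [hfu u hu] at this }
  have hK₀F : K₀ ≤ F := fun f hf => hf.1
  have hmemK₀ : ∀ f, f ∈ K₀ ↔ f ∈ F ∧ ∀ u ∈ U', Ψ f u = u := fun f => Iff.rfl
  let A : Subgroup (MulAut V) :=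
    { carrier := {a | a ∈ R₁ ∧ ∀ b ∈ R₁, ⁅a, b⁆ ∈ K₀}
      one_mem' := ⟨R₁.one_mem, fun b _ => by
        rw [commutatorElement_one_left]; exact K₀.one_mem⟩
      mul_mem' := by
        rintro a a' ⟨ha, hab⟩ ⟨ha', ha'b⟩
        refine ⟨R₁.mul_mem ha ha', fun b hb => ?_⟩
        have hc : Commute a ⁅a', b⁆ := (hFc _ (hcomm a' ha' b hb) a ha).symm
        rw [comm_mul_left a a' b hc]
        exact K₀.mul_mem (ha'b b hb) (hab b hb)
      inv_mem' := by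
        rintro a ⟨ha, hab⟩
        refine ⟨R₁.inv_mem ha, fun b hb => ?_⟩
        have hc : Commute a ⁅a, b⁆ := (hFc _ (hcomm a ha b hb) a ha).symm
        rw [comm_inv_left a b hc]
        exact K₀.inv_mem (hab b hb) }
  have hmemA : ∀ a, a ∈ A ↔ a ∈ R₁ ∧ ∀ b ∈ R₁, ⁅a, b⁆ ∈ K₀ := fun a => Iff.rfl
  have hAR : A ≤ R₁ := fun a ha => ha.1
  -- (i) scalars on `U'` inside `ET`
  have hi : ∀ e ∈ ET, (ScOn U' (Ψ e) ↔ e ∈ A) := by
    intro e he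
    constructor
    · rintro ⟨c, hc⟩
      refine ⟨hETR he, fun b hb => ?_⟩
      obtain ⟨e', he', c', hc', rfl⟩ := hprod b hb
      rw [comm_mul_right e e' c' (hETC e he c' hc')]
      refine ⟨hcomm e (hETR he) e' (hETR he'), ?_⟩
      apply hcommU e he e' he'
      intro u hu
      rw [hc _ (hU'E e' he' u hu), hc u hu, map_smul]
    · rintro ⟨-, hA⟩
      apply hschur (Ψ e) ⟨e, he, rfl⟩
      rintro _ ⟨e', he', rfl⟩ u hu
      exact hcommU' e he e' he' (hA e' (hETR he')).2 u hu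
  have hcardE : Nat.card E = Nat.card ET := Subgroup.card_map_of_injective hΨinj
  have hcardSc : Nat.card {g : E // ScOn U' (g : W ≃ₗ[K] W)}
      = Nat.card (ET ⊓ A : Subgroup (MulAut V)) := by
    symm
    let φ : (ET ⊓ A : Subgroup (MulAut V)) → {g : E // ScOn U' (g : W ≃ₗ[K] W)} :=
      fun a => ⟨⟨Ψ a, ⟨a, a.2.1, rfl⟩⟩, (hi a a.2.1).2 a.2.2⟩
    apply Nat.card_congr (Equiv.ofBijective φ ⟨?_, ?_⟩)
    · intro a b hab
      have h1 := congrArg (fun g : {g : E // ScOn U' (g : W ≃ₗ[K] W)} => ((g : E) : W ≃ₗ[K] W)) hab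
      exact Subtype.ext (hΨinj h1)
    · rintro ⟨⟨_, ⟨e, he, rfl⟩⟩, hsc⟩
      exact ⟨⟨e, he, (hi e he).1 hsc⟩, rfl⟩
  have hETcard : Nat.card ET = Nat.card (ET ⊓ A : Subgroup (MulAut V)) ∨
      Nat.card ET = Nat.card (ET ⊓ A : Subgroup (MulAut V)) * r₁ ^ 2 := by
    have h1 := hNice.card
    rw [hcardE, hcardSc] at h1
    rcases hNice.dim with h2 | ⟨h2, -⟩
    · left; rw [h1, h2]; simp
    · right; rw [h1, h2]
  -- (ii) the representation of `R₁`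
  let ρ₀ : Representation K R₁ W := Φ.comp R₁.subtype
  have hρ₀ : ∀ (a : R₁) (w : W), ρ₀ a w = Ψ (a : MulAut V) w := fun a w => rfl
  let Y : Submodule K W := ⨆ a : R₁, U'.map (ρ₀ a)
  have hY : ∀ g : R₁, ∀ w ∈ Y, ρ₀ g w ∈ Y := by
    intro g w hw
    have hle : Y.map (ρ₀ g) ≤ Y := by
      rw [Submodule.map_iSup]
      apply iSup_le
      intro a
      rw [← Submodule.map_comp]
      have e : (ρ₀ g).comp (ρ₀ a) = ρ₀ (g * a) := by rw [map_mul]; rfl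
      rw [e]
      exact le_iSup (fun a : R₁ => U'.map (ρ₀ a)) (g * a)
    exact hle ⟨w, hw, rfl⟩
  have hU'Y : U' ≤ Y := by
    refine le_trans ?_ (le_iSup (fun a : R₁ => U'.map (ρ₀ a)) 1)
    intro u hu
    exact ⟨u, hu, by rw [map_one]; rfl⟩
  have hY0 : Y ≠ ⊥ := by
    intro h
    apply hU'0
    rw [eq_bot_iff, ← h]
    exact hU'Y
  have hFY : ∀ f ∈ F, ∀ c : K, (∀ u ∈ U', Ψ f u = c • u) → ∀ y ∈ Y, Ψ f y = c • y := by
    intro f hf c hc y hy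
    have hle : Y ≤ LinearMap.ker ((Ψ f : W →ₗ[K] W) - c • (1 : End K W)) := by
      apply iSup_le
      rintro a _ ⟨u, hu, rfl⟩
      rw [LinearMap.mem_ker, LinearMap.sub_apply, sub_eq_zero, LinearMap.smul_apply,
        Module.End.one_apply]
      show Ψ f (Ψ (a : MulAut V) u) = c • Ψ (a : MulAut V) u
      rw [← hΨmul, (hFc f hf a a.2).eq, hΨmul, hc u hu, map_smul]
    have := hle hy
    rwa [LinearMap.mem_ker, LinearMap.sub_apply, sub_eq_zero, LinearMap.smul_apply,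
      Module.End.one_apply] at this
  obtain ⟨U, hUY, hU0, hUinv, hUmin⟩ := exists_minimal_invariant ρ₀ Y hY hY0
  have hirr : Irr (subRep ρ₀ U hUinv) := irr_subRep_of_minimal ρ₀ U hUinv hUmin
  have hntU : Nontrivial U := Submodule.nontrivial_iff_ne_bot.2 hU0
  have hUΨ : ∀ a ∈ R₁, ∀ w ∈ U, Ψ a w ∈ U := fun a ha w hw => hUinv ⟨a, ha⟩ w hw
  -- trivial action of an element of `F` on `U'` and on `U`
  have htriv : ∀ f ∈ F, ((∀ u ∈ U', Ψ f u = u) ↔ ∀ w ∈ U, Ψ f w = w) := by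
    intro f hf
    obtain ⟨c, hc⟩ := hFsc f hf
    constructor
    · intro h w hw
      have h1 := hFY f hf 1 (fun u hu => by rw [h u hu, one_smul]) w (hUY hw)
      rwa [one_smul] at h1
    · intro h u hu
      obtain ⟨w, hwU, hw0⟩ := (Submodule.ne_bot_iff U).1 hU0
      have h1 := hFY f hf c hc w (hUY hwU)
      rw [h w hwU] at h1
      have h2 : (1 - c) • w = 0 := by rw [sub_smul, one_smul, ← h1, sub_self]
      rcases smul_eq_zero.1 h2 with h3 | h3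
      · rw [hc u hu, ← sub_eq_zero.1 h3, one_smul]
      · exact absurd h3 hw0
  -- commuting on `U` versus commutators
  have hcommUU : ∀ g ∈ R₁, ∀ h ∈ R₁, ((∀ w ∈ U, Ψ g (Ψ h w) = Ψ h (Ψ g w)) ↔
      ∀ w ∈ U, Ψ ⁅g, h⁆ w = w) := by
    intro g hg h hh
    constructor
    · intro hgh w hw
      have e : ⁅g, h⁆ = (g * h) * (h * g)⁻¹ := by rw [commutatorElement_def]; group
      have hw' : Ψ (h * g)⁻¹ w ∈ U := hUΨ _ (R₁.inv_mem (R₁.mul_mem hh hg)) w hw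
      rw [e, hΨmul (g * h), hΨmul g h, hgh _ hw', ← hΨmul h g, hΨinv']
    · intro hgh w hw
      have e : g * h = ⁅g, h⁆ * (h * g) := by rw [commutatorElement_def]; group
      have hw' : Ψ (h * g) w ∈ U := hUΨ _ (R₁.mul_mem hh hg) w hw
      rw [← hΨmul g h, e, hΨmul, hgh _ hw', hΨmul]
  have hES : ESRep (subRep ρ₀ U hUinv) := by
    constructor
    · intro g h
      obtain ⟨c, hc⟩ := hFsc ⁅(g : MulAut V), (h : MulAut V)⁆ (hcomm g g.2 h h.2)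
      refine ⟨c, ?_⟩
      ext w
      show Ψ (g : MulAut V) (Ψ (h : MulAut V) (w : W))
        = c • Ψ (h : MulAut V) (Ψ (g : MulAut V) (w : W))
      have e : (g : MulAut V) * h = ⁅(g : MulAut V), (h : MulAut V)⁆ * (h * g) := by
        rw [commutatorElement_def]; group
      have hw' : Ψ ((h : MulAut V) * g) (w : W) ∈ U := hUΨ _ (R₁.mul_mem h.2 g.2) w w.2
      rw [← hΨmul, e, hΨmul, hFY _ (hcomm g g.2 h h.2) c hc _ (hUY hw'), hΨmul]
    · intro g hg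
      exact isSc_of_commute hirr _ (fun h => (hg h).eq)
  have hquot := hES.card_quot hirr
  have hscA : ∀ a : R₁, a ∈ scSubgroup (subRep ρ₀ U hUinv) ↔ (a : MulAut V) ∈ A := by
    intro a
    constructor
    · rintro ⟨c, hc⟩
      refine ⟨a.2, fun b hb => ⟨hcomm a a.2 b hb, ?_⟩⟩
      rw [htriv _ (hcomm a a.2 b hb), ← hcommUU a a.2 b hb]
      intro w hw
      have h1 : ∀ w' : U, Ψ (a : MulAut V) (w' : W) = c • (w' : W) := by
        intro w'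
        have := congrArg (fun f : End K U => ((f w' : U) : W)) hc
        rw [← hρ₀]
        simpa using this
      have hbw : Ψ b w ∈ U := hUΨ b hb w hw
      rw [h1 ⟨_, hbw⟩, h1 ⟨w, hw⟩, map_smul]
    · rintro ⟨-, hA⟩
      apply hES.nondeg
      intro h
      ext w
      show Ψ (a : MulAut V) (Ψ (h : MulAut V) (w : W)) = Ψ (h : MulAut V) (Ψ (a : MulAut V) (w : W))
      have h1 := hA h h.2
      have h2 := (htriv _ h1.1).1 h1.2
      exact (hcommUU a a.2 h h.2).2 h2 w w.2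
  have hcardsc : Nat.card (scSubgroup (subRep ρ₀ U hUinv)) = Nat.card A := by
    let φ : scSubgroup (subRep ρ₀ U hUinv) → A := fun a => ⟨(a : R₁), (hscA a).1 a.2⟩
    apply Nat.card_congr (Equiv.ofBijective φ ⟨?_, ?_⟩)
    · intro a b hab
      have h1 := congrArg (fun g : A => (g : MulAut V)) hab
      exact Subtype.ext (Subtype.ext h1)
    · rintro ⟨a, ha⟩
      exact ⟨⟨⟨a, hAR ha⟩, (hscA ⟨a, hAR ha⟩).2 ha⟩, rfl⟩
  have hlag := Subgroup.card_eq_card_quotient_mul_card_subgroup (scSubgroup (subRep ρ₀ U hUinv))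
  rw [hquot, hcardsc] at hlag
  have hm1 : 1 < finrank K U := by
    have hpos : 0 < finrank K U := Module.finrank_pos
    by_contra hcon
    have hm : finrank K U = 1 := by omega
    rw [hm] at hquot
    have htop : scSubgroup (subRep ρ₀ U hUinv) = ⊤ := by
      rw [← Subgroup.index_eq_one, Subgroup.index_eq_card, hquot]; simp
    have ha₀sc : (⟨a₀, ha₀⟩ : R₁) ∈ scSubgroup (subRep ρ₀ U hUinv) := by rw [htop]; trivial
    have ha₀A := (hscA _).1 ha₀sc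
    exact hu₀c ((ha₀A.2 b₀ hb₀).2 u₀ hu₀)
  refine ⟨K₀, hK₀F, A, hmemA, ⟨finrank K U, hm1, ?_⟩, hETcard⟩
  rw [hlag, mul_comm]

end Cfsg.Agent.Lib.Helper87_Gross_GLaux
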