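import Mathlib
import Cfsg.Agent.Lib.Helper9_GrossDefs
import Cfsg.Agent.Lib.Helper63_Gross_GCORE
import Cfsg.Agent.Lib.Helper87_Gross_GLaux

/-!
# GROSS-GL (architect: helper9, S3795): the lower level

`gross_lower`: the statement of package GL, verbatim; it is `gross_lower_of_core`
(`Helper87_Gross_GLaux`) with the linear core `gross_core` (package GCORE, helper63) plugged in.
-/

set_option autoImplicit false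
set_option linter.unusedSectionVars false
set_option linter.unusedVariables false

namespace Cfsg.Agent.Lib.Helper87_Gross_GL

open Module Cfsg.Agent.Lib.Helper9_GrossDefs Cfsg.Agent.Lib.Helper71_ESLinear
  Cfsg.Agent.Lib.Helper71_HHB Cfsg.Agent.Lib.Helper71_HHBTwist
open scoped commutatorElement

universe u

theorem gross_lower {r r₁ : ℕ} [Fact r.Prime] [Fact r₁.Prime] (hr₁2 : r₁ ≠ 2) (hr₁r : r₁ ≠ r)
    {V : Type u} [CommGroup V] [Finite V] (hV : ∀ v : V, v ^ r = 1)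
    (τ : MulAut V) (N : ℕ) (hτ : τ ^ 2 ^ (N + 1) = 1) (hfixV : ∀ v, τ v = v → v = 1)
    (R₁ F ET C : Subgroup (MulAut V)) (hR₁ : IsPGroup r₁ R₁)
    (hτR₁ : ∀ a ∈ R₁, τ * a * τ⁻¹ ∈ R₁) (hFR : F ≤ R₁) (hτF : ∀ f ∈ F, τ * f * τ⁻¹ ∈ F)
    (hFc : ∀ f ∈ F, ∀ a ∈ R₁, Commute f a) (hcomm : ∀ a ∈ R₁, ∀ b ∈ R₁, ⁅a, b⁆ ∈ F)
    (hnab : ∃ a ∈ R₁, ∃ b ∈ R₁, ⁅a, b⁆ ≠ 1)
    (hET : ∀ a, a ∈ ET ↔ a ∈ R₁ ∧ τ ^ 2 ^ N * a * (τ ^ 2 ^ N)⁻¹ * a ∈ F)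
    (hCR : C ≤ R₁) (hETC : ∀ e ∈ ET, ∀ c ∈ C, Commute e c)
    (hprod : ∀ a ∈ R₁, ∃ e ∈ ET, ∃ c ∈ C, a = e * c) :
    ∃ K₀ : Subgroup (MulAut V), K₀ ≤ F ∧ ∃ A : Subgroup (MulAut V),
      (∀ a, a ∈ A ↔ a ∈ R₁ ∧ ∀ b ∈ R₁, ⁅a, b⁆ ∈ K₀) ∧
      (∃ m : ℕ, 1 < m ∧ Nat.card R₁ = Nat.card A * m ^ 2) ∧
      (Nat.card ET = Nat.card (ET ⊓ A : Subgroup (MulAut V)) ∨
        Nat.card ET = Nat.card (ET ⊓ A : Subgroup (MulAut V)) * r₁ ^ 2) :=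
  Cfsg.Agent.Lib.Helper87_Gross_GLaux.gross_lower_of_core hr₁2 hr₁r
    (fun W _ _ _ s _ hs2 h2K hsK N x hx hfix E _ hE hnorm hcl hcent =>
      Cfsg.Agent.Lib.Helper63_Gross_GCORE.gross_core s hs2 h2K hsK N x hx hfix E hE hnorm hcl hcent)
    hV τ N hτ hfixV R₁ F ET C hR₁ hτR₁ hFR hτF hFc hcomm hnab hET hCR hETC hprod

end Cfsg.Agent.Lib.Helper87_Gross_GL
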