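import Mathlib
import Cfsg.Agent.Lib.Helper87_IndexP
import Cfsg.Agent.Lib.Helper87_IndexP2

/-!
# `p`-groups with a unique abelian subgroup of index `p`: commutator subgroup and nilpotency class (helper87)

`S = A⟨x⟩` as in `Helper87_IndexP`.  The commutator subgroup of `S` is `[A, x] = κ(A)`; if `Z(S) ∩ [A, x]` has order `p`
then `S/Z(S)` has maximal class.
-/

set_option autoImplicit false
set_option linter.unusedSectionVars false

namespace Cfsg.Agent.Lib.Helper87_IndexP3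

open Cfsg Cfsg.FusionSystem Cfsg.Agent.Lib.Helper87_IndexP Cfsg.Agent.Lib.Helper87_IndexP2
  Cfsg.Agent.Lib.Helper87_ClassTwo2

variable {Ω : Type*} [Group Ω] {p : ℕ} {S A : Subgroup Ω}

/-- `x κ(a) x⁻¹ = κ(x a x⁻¹)`. -/
theorem conj_kap (x a : Ω) : x * kap x a * x⁻¹ = kap x (x * a * x⁻¹) := by
  unfold kap; group

theorem conj_inv_kap (x a : Ω) : x⁻¹ * kap x a * x⁻¹⁻¹ = kap x (x⁻¹ * a * x⁻¹⁻¹) := by
  unfold kap; group

/-- `κ(A)` is normalized by `S`. -/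
theorem kapIm_normal [Finite S] (hp : p.Prime) (h : AbIdx p S A) {x : Ω} (hx : x ∈ S) (hxA : x ∉ A) :
    S ≤ Subgroup.normalizer (h.kapIm hx A : Set Ω) := by
  have hA : A ≤ Subgroup.normalizer (h.kapIm hx A : Set Ω) := by
    intro a ha
    rw [Subgroup.mem_normalizer_iff]
    intro n
    have key : ∀ n ∈ h.kapIm hx A, a * n * a⁻¹ = n := fun n hn => by
      rw [h.ab a ha n (h.kapIm_le hx A hn)]; group
    constructor
    · intro hn
      rw [key n hn]; exact hn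
    · intro hn
      have h1 : a⁻¹ * (a * n * a⁻¹) * a⁻¹⁻¹ = a * n * a⁻¹ := by
        rw [h.ab a⁻¹ (A.inv_mem ha) _ (h.kapIm_le hx A hn)]; group
      have h2 : a⁻¹ * (a * n * a⁻¹) * a⁻¹⁻¹ = n := by group
      rw [← h2, h1]
      exact hn
  have hxN : x ∈ Subgroup.normalizer (h.kapIm hx A : Set Ω) := by
    rw [Subgroup.mem_normalizer_iff]
    intro n
    constructor
    · intro hn
      obtain ⟨a, -, haA, rfl⟩ := (h.mem_kapIm hx A n).1 hn
      rw [conj_kap]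
      exact (h.mem_kapIm hx A _).2 ⟨_, h.conj_mem hx haA, h.conj_mem hx haA, rfl⟩
    · intro hn
      obtain ⟨a, -, haA, ha⟩ := (h.mem_kapIm hx A _).1 hn
      have h1 : n = x⁻¹ * (x * n * x⁻¹) * x⁻¹⁻¹ := by group
      rw [h1, ← ha, conj_inv_kap]
      exact (h.mem_kapIm hx A _).2 ⟨_, h.conj_mem (S.inv_mem hx) haA, h.conj_mem (S.inv_mem hx) haA, rfl⟩
  intro g hg
  obtain ⟨a, ha, i, rfl⟩ := h.exists_mul_zpow hp hx hxA hg
  exact Subgroup.mul_mem _ (hA ha) (Subgroup.zpow_mem _ hxN i)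

/-- The elements `g ∈ S` with `[a, g] ∈ κ(A)` for all `a ∈ A`. -/
def kapSub [Finite S] (hp : p.Prime) (h : AbIdx p S A) {x : Ω} (hx : x ∈ S) (hxA : x ∉ A) : Subgroup Ω where
  carrier := {g | g ∈ S ∧ ∀ a ∈ A, kap g a ∈ h.kapIm hx A}
  one_mem' := ⟨S.one_mem, fun a _ => by
    have : kap 1 a = 1 := by unfold kap; group
    rw [this]; exact Subgroup.one_mem _⟩
  mul_mem' := by
    rintro g₁ g₂ ⟨hg₁, h₁⟩ ⟨hg₂, h₂⟩
    refine ⟨S.mul_mem hg₁ hg₂, fun a ha => ?_⟩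
    have h3 : kap (g₁ * g₂) a = kap g₁ a * (g₁ * kap g₂ a * g₁⁻¹) := by unfold kap; group
    rw [h3]
    exact Subgroup.mul_mem _ (h₁ a ha)
      ((Subgroup.mem_normalizer_iff.1 (kapIm_normal hp h hx hxA hg₁) _).1 (h₂ a ha))
  inv_mem' := by
    rintro g ⟨hg, h₁⟩
    refine ⟨S.inv_mem hg, fun a ha => ?_⟩
    have h3 : kap g⁻¹ a = g⁻¹ * (kap g a)⁻¹ * g⁻¹⁻¹ := by unfold kap; group
    rw [h3]
    exact (Subgroup.mem_normalizer_iff.1 (kapIm_normal hp h hx hxA (S.inv_mem hg)) _).1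
      (Subgroup.inv_mem _ (h₁ a ha))

/-- `[a, g] ∈ κ(A)` for `a ∈ A`, `g ∈ S`. -/
theorem kap_mem_kapIm [Finite S] (hp : p.Prime) (h : AbIdx p S A) {x : Ω} (hx : x ∈ S) (hxA : x ∉ A)
    {g a : Ω} (hg : g ∈ S) (ha : a ∈ A) : kap g a ∈ h.kapIm hx A := by
  have hle : A ≤ kapSub hp h hx hxA := by
    intro b hb
    refine ⟨h.le hb, fun a ha => ?_⟩
    have : kap b a = 1 := kap_eq_one_iff.2 (h.ab a ha b hb)
    rw [this]; exact Subgroup.one_mem _
  have hxm : x ∈ kapSub hp h hx hxA :=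
    ⟨hx, fun a ha => (h.mem_kapIm hx A _).2 ⟨a, ha, ha, rfl⟩⟩
  have hlt : A < kapSub hp h hx hxA := lt_of_le_of_ne hle (fun heq => hxA (heq ▸ hxm))
  have heq := eq_of_lt_of_le_of_card hp hlt (fun g hg => hg.1) h.card
  have : g ∈ kapSub hp h hx hxA := by rw [heq]; exact hg
  exact this.2 a ha

/-- All commutators of `S` lie in `κ(A)`. -/
theorem comm_mem_kapIm [Finite S] (hp : p.Prime) (h : AbIdx p S A) {x : Ω} (hx : x ∈ S) (hxA : x ∉ A)
    {g k : Ω} (hg : g ∈ S) (hk : k ∈ S) : g * k * g⁻¹ * k⁻¹ ∈ h.kapIm hx A := by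
  obtain ⟨a, ha, i, rfl⟩ := h.exists_mul_zpow hp hx hxA hg
  obtain ⟨b, hb, j, rfl⟩ := h.exists_mul_zpow hp hx hxA hk
  set u := x ^ i * b * (x ^ i)⁻¹ with hu
  set v := x ^ j * a⁻¹ * (x ^ j)⁻¹ with hv
  have huA : u ∈ A := h.conj_zpow_mem hx hb i
  have hvA : v ∈ A := h.conj_zpow_mem hx (A.inv_mem ha) j
  have h1 : a * x ^ i * (b * x ^ j) * (a * x ^ i)⁻¹ * (b * x ^ j)⁻¹ = a * (u * v) * b⁻¹ := by
    rw [hu, hv]; group
  have h2 : a * (v * u) * b⁻¹ = kap (x ^ j) a * (kap (x ^ i) b)⁻¹ := by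
    rw [hu, hv]; unfold kap; group
  rw [h1, h.ab u huA v hvA, h2]
  exact Subgroup.mul_mem _ (kap_mem_kapIm hp h hx hxA (S.zpow_mem hx j) ha)
    (Subgroup.inv_mem _ (kap_mem_kapIm hp h hx hxA (S.zpow_mem hx i) hb))

/-- The commutator subgroup of `S` is `κ(A)`. -/
theorem commutator_eq [Finite S] (hp : p.Prime) (h : AbIdx p S A) {x : Ω} (hx : x ∈ S) (hxA : x ∉ A) :
    (commutator ↥S).map S.subtype = h.kapIm hx A := by
  apply le_antisymm
  · rw [Subgroup.map_le_iff_le_comap, commutator_def, Subgroup.commutator_le]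
    intro g _ k _
    rw [Subgroup.mem_comap, commutatorElement_def]
    exact comm_mem_kapIm hp h hx hxA g.2 k.2
  · intro y hy
    obtain ⟨a, -, haA, rfl⟩ := (h.mem_kapIm hx A y).1 hy
    refine ⟨(⟨a, h.le haA⟩ : S) * ⟨x, hx⟩ * (⟨a, h.le haA⟩ : S)⁻¹ * (⟨x, hx⟩ : S)⁻¹, ?_, rfl⟩
    rw [← commutatorElement_def, commutator_def]
    exact Subgroup.commutator_mem_commutator (Subgroup.mem_top _) (Subgroup.mem_top _)

/-- `|A| = |Z(S)| · |κ(A)|`. -/
theorem card_A [Finite S] (hp : p.Prime) (h : AbIdx p S A) {x : Ω} (hx : x ∈ S) (hxA : x ∉ A) :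
    Nat.card A = Nat.card (S ⊓ Subgroup.centralizer (S : Set Ω) : Subgroup Ω) *
      Nat.card (h.kapIm hx A) := by
  have h1 := h.card_kapIm hp hx hxA (le_refl A)
  rw [inf_eq_left.mpr (h.center_le hp)] at h1
  exact h1.symm

/-- `κ(Z(S) κ(A)) = κ(κ(A))`. -/
theorem kapIm_sup [Finite S] (hp : p.Prime) (h : AbIdx p S A) {x : Ω} (hx : x ∈ S) :
    h.kapIm hx ((S ⊓ Subgroup.centralizer (S : Set Ω)) ⊔ h.kapIm hx A) = h.kapIm hx (h.kapIm hx A) := by
  apply le_antisymm _ (h.kapIm_mono hx le_sup_right)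
  -- the subgroup of elements of `A` mapped into `κ(κ(A))`
  set W : Subgroup Ω := ((h.kapIm hx (h.kapIm hx A)).comap (h.kapHom hx)).map A.subtype with hW
  have hWmem : ∀ d, d ∈ W ↔ d ∈ A ∧ kap x d ∈ h.kapIm hx (h.kapIm hx A) := by
    intro d
    rw [hW]
    constructor
    · rintro ⟨b, hb, rfl⟩
      exact ⟨b.2, hb⟩
    · rintro ⟨hd, hk⟩
      exact ⟨⟨d, hd⟩, hk, rfl⟩
  have hle : (S ⊓ Subgroup.centralizer (S : Set Ω)) ⊔ h.kapIm hx A ≤ W := by
    apply sup_le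
    · intro z hz
      rw [hWmem]
      refine ⟨h.center_le hp hz, ?_⟩
      have : kap x z = 1 := kap_eq_one_iff.2 (Subgroup.mem_centralizer_iff.mp hz.2 x hx).symm
      rw [this]; exact Subgroup.one_mem _
    · intro s hs
      rw [hWmem]
      have hsA := h.kapIm_le hx A hs
      exact ⟨hsA, (h.mem_kapIm hx _ _).2 ⟨s, hs, hsA, rfl⟩⟩
  intro y hy
  obtain ⟨d, hd, -, rfl⟩ := (h.mem_kapIm hx _ y).1 hy
  exact ((hWmem d).1 (hle hd)).2

/-- If `Z(S) ∩ κ(A)` has order `p`, then `Z(S) κ(A)` has index `p` in `A`. -/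
theorem card_sup [Finite S] (hp : p.Prime) (h : AbIdx p S A) {x : Ω} (hx : x ∈ S) (hxA : x ∉ A)
    (hZ0 : Nat.card ((S ⊓ Subgroup.centralizer (S : Set Ω)) ⊓ h.kapIm hx A : Subgroup Ω) = p) :
    Nat.card A = Nat.card ((S ⊓ Subgroup.centralizer (S : Set Ω)) ⊔ h.kapIm hx A : Subgroup Ω) * p := by
  have hle : (S ⊓ Subgroup.centralizer (S : Set Ω)) ⊔ h.kapIm hx A ≤ A :=
    sup_le (h.center_le hp) (h.kapIm_le hx A)
  have h1 := h.card_kapIm hp hx hxA hle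
  rw [inf_eq_left.mpr le_sup_left, kapIm_sup hp h hx] at h1
  have h2 := h.card_kapIm hp hx hxA (h.kapIm_le hx A)
  rw [hZ0] at h2
  rw [card_A hp h hx hxA, ← h1, ← h2]
  ring

/-- The iterated images `κⁱ(A)`. -/
noncomputable def kapIter (h : AbIdx p S A) {x : Ω} (hx : x ∈ S) : ℕ → Subgroup Ω
  | 0 => A
  | i + 1 => h.kapIm hx (kapIter h hx i)

theorem kapIter_le (h : AbIdx p S A) {x : Ω} (hx : x ∈ S) : ∀ i, kapIter h hx i ≤ A
  | 0 => le_rfl
  | _ + 1 => h.kapIm_le hx _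

theorem kapIter_succ_le (h : AbIdx p S A) {x : Ω} (hx : x ∈ S) (i : ℕ) :
    kapIter h hx (i + 1) ≤ h.kapIm hx A :=
  h.kapIm_mono hx (kapIter_le h hx i)

theorem kapIter_le_lowerCentralSeries (h : AbIdx p S A) {x : Ω} (hx : x ∈ S) :
    ∀ i, kapIter h hx i ≤ Subgroup.lowerCentralSeries S i
  | 0 => h.le
  | i + 1 => by
    intro y hy
    obtain ⟨d, hd, -, rfl⟩ := (h.mem_kapIm hx _ y).1 hy
    rw [Subgroup.lowerCentralSeries_succ]
    have := Subgroup.commutator_mem_commutator (kapIter_le_lowerCentralSeries h hx i hd) hx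
    rw [commutatorElement_def] at this
    exact this

/-- If `Z(S) ∩ κ(A)` has order `p` and `|S : Z(S)| = pᵐ`, then `|κ^{i+1}(A)| pⁱ ≥ p^{m-1}`. -/
theorem card_kapIter_ge [Finite S] (hp : p.Prime) (h : AbIdx p S A) {x : Ω} (hx : x ∈ S) (hxA : x ∉ A)
    (hZ0 : Nat.card ((S ⊓ Subgroup.centralizer (S : Set Ω)) ⊓ h.kapIm hx A : Subgroup Ω) = p)
    {m : ℕ} (hm : Nat.card S = Nat.card (S ⊓ Subgroup.centralizer (S : Set Ω) : Subgroup Ω) * p ^ m) :
    ∀ i, p ^ (m - 1) ≤ Nat.card (kapIter h hx (i + 1)) * p ^ i := by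
  have hfinZ : Finite (S ⊓ Subgroup.centralizer (S : Set Ω) : Subgroup Ω) :=
    Finite.of_injective (Subgroup.inclusion (inf_le_left : S ⊓ Subgroup.centralizer (S : Set Ω) ≤ S))
      (Subgroup.inclusion_injective _)
  have hZpos : 0 < Nat.card (S ⊓ Subgroup.centralizer (S : Set Ω) : Subgroup Ω) := Nat.card_pos
  have hfinA : Finite A := Finite.of_injective (Subgroup.inclusion h.le) (Subgroup.inclusion_injective _)
  have hfinZ0 : Finite ((S ⊓ Subgroup.centralizer (S : Set Ω)) ⊓ h.kapIm hx A : Subgroup Ω) :=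
    Finite.of_injective (Subgroup.inclusion (inf_le_left.trans
      (inf_le_left : S ⊓ Subgroup.centralizer (S : Set Ω) ≤ S))) (Subgroup.inclusion_injective _)
  intro i
  induction i with
  | zero =>
    rw [pow_zero, mul_one]
    have h1 := card_A hp h hx hxA
    have h2 := h.card
    rw [hm, h1] at h2
    -- `|Z| p^m = |Z| |κ(A)| p`
    have hm1 : 1 ≤ m := by
      rcases m with _ | m
      · exfalso
        rw [pow_zero, mul_one, mul_assoc] at h2
        have h3 : Nat.card (S ⊓ Subgroup.centralizer (S : Set Ω) : Subgroup Ω) * 1 =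
            Nat.card (S ⊓ Subgroup.centralizer (S : Set Ω) : Subgroup Ω) *
              (Nat.card (h.kapIm hx A) * p) := by rw [mul_one]; exact h2
        have h4 := Nat.eq_of_mul_eq_mul_left hZpos h3
        have h5 : p ∣ 1 := ⟨Nat.card (h.kapIm hx A), by rw [h4]; ring⟩
        exact hp.one_lt.ne' (Nat.dvd_one.1 h5)
      · omega
    obtain ⟨m', rfl⟩ : ∃ m', m = m' + 1 := ⟨m - 1, by omega⟩
    rw [pow_succ, mul_assoc] at h2
    have h4 := Nat.eq_of_mul_eq_mul_left hZpos h2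
    have h5 := Nat.eq_of_mul_eq_mul_right hp.pos h4
    show p ^ (m' + 1 - 1) ≤ Nat.card (h.kapIm hx A)
    rw [Nat.add_sub_cancel, h5]
  | succ i ih =>
    have h1 := h.card_kapIm hp hx hxA (kapIter_le h hx (i + 1))
    have h2 : Nat.card ((S ⊓ Subgroup.centralizer (S : Set Ω)) ⊓ kapIter h hx (i + 1) : Subgroup Ω) ≤ p :=
      (Subgroup.card_le_of_le (inf_le_inf_left _ (kapIter_succ_le h hx i))).trans hZ0.le
    have h3 : Nat.card (kapIter h hx (i + 1)) ≤ p * Nat.card (kapIter h hx (i + 1 + 1)) := by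
      rw [← h1]
      exact Nat.mul_le_mul_right _ h2
    calc p ^ (m - 1) ≤ Nat.card (kapIter h hx (i + 1)) * p ^ i := ih
      _ ≤ (p * Nat.card (kapIter h hx (i + 1 + 1))) * p ^ i := Nat.mul_le_mul_right _ h3
      _ = Nat.card (kapIter h hx (i + 1 + 1)) * p ^ (i + 1) := by ring

/-- **Maximal class of `S/Z(S)`.** -/
theorem not_lowerCentralSeries_le [Finite S] (hp : p.Prime) (h : AbIdx p S A) {x : Ω} (hx : x ∈ S)
    (hxA : x ∉ A)
    (hZ0 : Nat.card ((S ⊓ Subgroup.centralizer (S : Set Ω)) ⊓ h.kapIm hx A : Subgroup Ω) = p)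
    {m : ℕ} (hm : Nat.card S = Nat.card (S ⊓ Subgroup.centralizer (S : Set Ω) : Subgroup Ω) * p ^ m)
    (h3 : 3 ≤ m) :
    ¬ Subgroup.lowerCentralSeries S (m - 2) ≤ S ⊓ Subgroup.centralizer (S : Set Ω) := by
  intro hle
  obtain ⟨k, rfl⟩ : ∃ k, m = k + 3 := ⟨m - 3, by omega⟩
  have h1 := card_kapIter_ge hp h hx hxA hZ0 hm k
  have h2 : kapIter h hx (k + 1) ≤ (S ⊓ Subgroup.centralizer (S : Set Ω)) ⊓ h.kapIm hx A :=
    le_inf ((kapIter_le_lowerCentralSeries h hx (k + 1)).trans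
      (by rw [show k + 3 - 2 = k + 1 by omega] at hle; exact hle)) (kapIter_succ_le h hx k)
  have hfinZ0 : Finite ((S ⊓ Subgroup.centralizer (S : Set Ω)) ⊓ h.kapIm hx A : Subgroup Ω) :=
    Finite.of_injective (Subgroup.inclusion (inf_le_left.trans
      (inf_le_left : S ⊓ Subgroup.centralizer (S : Set Ω) ≤ S))) (Subgroup.inclusion_injective _)
  have h4 : Nat.card (kapIter h hx (k + 1)) ≤ p := (Subgroup.card_le_of_le h2).trans hZ0.le
  have h5 : p ^ (k + 3 - 1) ≤ p * p ^ k := h1.trans (Nat.mul_le_mul_right _ h4)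
  rw [show k + 3 - 1 = (k + 1) + 1 by omega, ← pow_succ'] at h5
  have := (Nat.pow_le_pow_iff_right hp.one_lt).1 h5
  omega

end Cfsg.Agent.Lib.Helper87_IndexP3
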