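import Mathlib
import Cfsg.Agent.Lib.Helper87_IndexP
import Cfsg.Agent.Lib.Helper87_IndexP2
import Cfsg.Agent.Lib.Helper87_IndexP3
import Cfsg.Agent.Lib.Helper87_Transvection
import Cfsg.Agent.Lib.Helper87_ClassTwo
import Cfsg.Agent.Lib.Helper87_ClassTwo2
import Cfsg.Agent.Lib.Helper87_Alperin2
import Cfsg.Agent.Lib.Helper87_GTQuot
import Cfsg.Agent.Lib.Helper84_FusionRS
import Cfsg.Agent.Lib.Helper84_FusionSat
import Cfsg.Agent.Lib.Helper84_RelSylow
import Cfsg.Agent.Lib.Helper84_Stability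
import Cfsg.Agent.Lib.Helper88_AbelianEssential
import Cfsg.Agent.S5087

/-!
# `p`-groups with a unique abelian subgroup of index `p`: `O_p(F) = 1` forces `Z(S) ≤ [S, S]` (helper87)
-/

set_option autoImplicit false
set_option linter.unusedSectionVars false

namespace Cfsg.Agent.Lib.Helper87_IndexP4

open Cfsg Cfsg.FusionSystem Cfsg.Agent.Lib.Helper87_Alperin Cfsg.Agent.Lib.Helper87_IndexP
  Cfsg.Agent.Lib.Helper87_IndexP2 Cfsg.Agent.Lib.Helper87_IndexP3 Cfsg.Agent.Lib.Helper87_ClassTwo2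
  Cfsg.Agent.Lib.Helper87_ExtraIdx

section Abstract

variable {P : Type*} [Group P]

open Cfsg.Agent.Lib.Helper87_Transvection Cfsg.Agent.Lib.Helper84_Stability
  Cfsg.Agent.Lib.Helper84_RelSylow

/-- The transvection setting from a Sylow subgroup of order `p` generated by a transvection. -/
theorem tvSetting_of_sylow [Finite P] {p : ℕ} [Fact p.Prime] (hP : IsPGroup p P)
    (habP : ∀ x y : P, x * y = y * x) {A T : Subgroup (MulAut P)} (hSyl : IsSylowIn p T A)
    (hcardT : Nat.card T = p) {Zc H : Subgroup P} (hcardZc : Nat.card Zc = p) {u : MulAut P}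
    (huT : u ∈ T) (tv : IsTv Zc H u) (hnn : ∃ a ∈ A, a * u * a⁻¹ ∉ Subgroup.zpowers u) :
    TvSetting p A Zc H u := by
  have hp : p.Prime := Fact.out
  have hu1 := tv.ne_one
  have hTA : T ≤ A := hSyl.le
  refine ⟨habP, hcardZc, tv, hTA huT, ?_, hnn⟩
  rintro t₁ t₂ ⟨a, haA, rfl⟩ ⟨b, hbA, rfl⟩ c h0 hmono ⟨n, hn⟩ hs₁ hs₂
  set R := stabilityGroup c hmono A with hR
  have hRp : IsPGroup p R := isPGroup_stabilityGroup hP h0 hmono hn A
  have huA : u ∈ A := hTA huT
  have ht₁R : a * u * a⁻¹ ∈ R :=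
    ⟨A.mul_mem (A.mul_mem haA huA) (A.inv_mem haA), hs₁⟩
  have ht₂R : b * u * b⁻¹ ∈ R :=
    ⟨A.mul_mem (A.mul_mem hbA huA) (A.inv_mem hbA), hs₂⟩
  have : Finite A := inferInstance
  obtain ⟨g, -, hg⟩ := hSyl.exists_conj_le (stabilityGroup_le c hmono A) hRp
  have hv₁ := hg _ ht₁R
  have hv₂ := hg _ ht₂R
  have hv₁1 : g * (a * u * a⁻¹) * g⁻¹ ≠ 1 := by
    intro h
    apply hu1
    have : u = (g * a)⁻¹ * (g * (a * u * a⁻¹) * g⁻¹) * (g * a) := by group
    rw [this, h]
    group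
  have hle := le_of_mem_of_card_prime hp hcardT hv₁ (Subgroup.mem_zpowers _) hv₁1
  obtain ⟨k, hk⟩ := Subgroup.mem_zpowers_iff.1 (hle hv₂)
  rw [Subgroup.mem_zpowers_iff]
  refine ⟨k, ?_⟩
  have h1 : (g * (a * u * a⁻¹) * g⁻¹) ^ k = g * (a * u * a⁻¹) ^ k * g⁻¹ := conj_zpow
  rw [h1] at hk
  have h2 : g⁻¹ * (g * (a * u * a⁻¹) ^ k * g⁻¹) * g = g⁻¹ * (g * (b * u * b⁻¹) * g⁻¹) * g := by
    rw [hk]
  have h3 : g⁻¹ * (g * (a * u * a⁻¹) ^ k * g⁻¹) * g = (a * u * a⁻¹) ^ k := by group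
  have h4 : g⁻¹ * (g * (b * u * b⁻¹) * g⁻¹) * g = b * u * b⁻¹ := by group
  rw [h3, h4] at h2
  exact h2

end Abstract

variable {Ω : Type*} [Group Ω] {S : Subgroup Ω}

section Extension

variable [Finite S] {p : ℕ} [Fact p.Prime]

omit [Finite S] in
/-- `S` normalizes its centre. -/
theorem le_normalizer_center : S ≤ Subgroup.normalizer
    ((S ⊓ Subgroup.centralizer (S : Set Ω) : Subgroup Ω) : Set Ω) := by
  intro g hg
  rw [Subgroup.mem_normalizer_iff]
  intro z
  have key : ∀ z ∈ S ⊓ Subgroup.centralizer (S : Set Ω), g * z * g⁻¹ = z := fun z hz => by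
    rw [Subgroup.mem_centralizer_iff.mp hz.2 g hg]; group
  constructor
  · intro hz
    rw [key z hz]; exact hz
  · intro hz
    have h2 : z = g⁻¹ * (g * z * g⁻¹) * g := by group
    have h3 : g⁻¹ * (g * z * g⁻¹) * g = g * z * g⁻¹ := by
      rw [Subgroup.mem_centralizer_iff.mp hz.2 g⁻¹ (S.inv_mem hg)]; group
    rw [h2, h3]
    exact hz

/-- The centre of `S` is fully normalized. -/
theorem isFullyNormalized_center (F : FusionSystem S) :
    F.IsFullyNormalized (S ⊓ Subgroup.centralizer (S : Set Ω)) := by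
  refine ⟨inf_le_left, fun Q _ => ?_⟩
  have h1 : normalizerIn S (S ⊓ Subgroup.centralizer (S : Set Ω)) = S :=
    inf_eq_left.mpr le_normalizer_center
  rw [h1]
  exact Subgroup.card_le_of_le (normalizerIn_le S Q)

/-- Maps of the system from the centre of `S` to itself extend to `S`. -/
theorem exists_extension_of_center (hS : IsPGroup p S) {F : FusionSystem S} (hF : F.IsSaturated p)
    {f : Ω → Ω} (hf : IsMapOn F (S ⊓ Subgroup.centralizer (S : Set Ω)) f)
    (hfZ : ∀ z ∈ S ⊓ Subgroup.centralizer (S : Set Ω), f z ∈ S ⊓ Subgroup.centralizer (S : Set Ω)) :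
    ∃ δ : Ω → Ω, IsMapOn F S δ ∧ ∀ z ∈ S ⊓ Subgroup.centralizer (S : Set Ω), δ z = f z := by
  have hZS : S ⊓ Subgroup.centralizer (S : Set Ω) ≤ S := inf_le_left
  have : Finite (S ⊓ Subgroup.centralizer (S : Set Ω) : Subgroup Ω) :=
    Finite.of_injective (Subgroup.inclusion hZS) (Subgroup.inclusion_injective hZS)
  obtain ⟨β, hβ⟩ := Cfsg.Agent.Lib.Helper87_GTQuot.exists_aut_of_isMapOn hf hfZ
  have hβA : β ∈ F.autGroup (S ⊓ Subgroup.centralizer (S : Set Ω)) :=
    (Cfsg.Agent.Lib.Helper87_Alperin.mem_autGroup_iff F hZS β).2 (hf.congr fun x hx => (hβ x hx).symm)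
  have hr : F.IsReceptive (S ⊓ Subgroup.centralizer (S : Set Ω)) :=
    Cfsg.Agent.Lib.Helper84_FusionRS.IsSaturated.isReceptive_of_isFullyNormalized hS hF
      (isFullyNormalized_center F)
  obtain ⟨δ, hδmap, hδZ⟩ := Cfsg.Agent.Lib.Helper87_Alperin2.exists_extension_extender F hr hβA
  have hSext : S ≤ extender S (S ⊓ Subgroup.centralizer (S : Set Ω))
      (Cfsg.Agent.Lib.Helper87_Alperin2.autHom β) := by
    intro g hg
    have hgN := le_normalizer_center hg
    refine Subgroup.subset_closure ⟨hg, hgN, 1, S.one_mem, ?_⟩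
    intro z hz
    have h1 : (⟨g * z * g⁻¹, hz⟩ : (S ⊓ Subgroup.centralizer (S : Set Ω) : Subgroup Ω)) = z := by
      apply Subtype.ext
      show g * (z : Ω) * g⁻¹ = z
      rw [Subgroup.mem_centralizer_iff.mp z.2.2 g hg]; group
    rw [h1]
    simp
  refine ⟨δ, hδmap.mono hSext, fun z hz => ?_⟩
  rw [hδZ z hz, hβ z hz]

end Extension

section Aut

/-- Invariance under `α` and `α⁻¹` gives equality of the image. -/
theorem map_eq_of_inv {P L : Subgroup Ω} (α : MulAut P)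
    (h1 : ∀ y : P, (y : Ω) ∈ L → ((α y : P) : Ω) ∈ L)
    (h2 : ∀ y : P, (y : Ω) ∈ L → ((α⁻¹ y : P) : Ω) ∈ L) :
    (L.subgroupOf P).map α.toMonoidHom = L.subgroupOf P := by
  ext y
  constructor
  · rintro ⟨w, hw, rfl⟩
    have hw' : (w : Ω) ∈ L := hw
    rw [Subgroup.mem_subgroupOf]
    exact h1 w hw'
  · intro hy
    rw [Subgroup.mem_subgroupOf] at hy
    refine ⟨α⁻¹ y, ?_, ?_⟩
    · show α⁻¹ y ∈ L.subgroupOf P
      rw [Subgroup.mem_subgroupOf]
      exact h2 y hy
    · simp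

/-- The automorphisms of `P` induced by `S` are induced by the normalizer. -/
theorem exists_normalizer_of_mem_autInducedBy {P : Subgroup Ω} {α : MulAut P} (hα : α ∈ autInducedBy S P) :
    ∃ g : Ω, ∃ hg : g ∈ normalizerIn S P, P.normalizerMonoidHom ⟨g, hg.2⟩ = α := by
  rw [mem_autInducedBy_iff] at hα
  obtain ⟨g, hgS, hgα⟩ := hα
  have hgN : g ∈ Subgroup.normalizer (P : Set Ω) := by
    rw [Subgroup.mem_normalizer_iff]
    intro w
    constructor
    · intro hw
      rw [← hgα ⟨w, hw⟩]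
      exact (α ⟨w, hw⟩).2
    · intro hw
      have h1 := hgα (α⁻¹ ⟨g * w * g⁻¹, hw⟩)
      rw [MulAut.apply_inv_self] at h1
      have h2 : g * w * g⁻¹ = g * ((α⁻¹ ⟨g * w * g⁻¹, hw⟩ : P) : Ω) * g⁻¹ := h1
      have h3 : w = ((α⁻¹ ⟨g * w * g⁻¹, hw⟩ : P) : Ω) := by
        have := mul_left_cancel (mul_right_cancel h2)
        exact this
      rw [h3]
      exact (α⁻¹ ⟨g * w * g⁻¹, hw⟩).2
  refine ⟨g, ⟨hgS, hgN⟩, ?_⟩
  ext y
  rw [hgα y]
  rfl

/-- For an abelian subgroup `P` containing its centralizer, `|Aut_S(P)| · |P| = |N_S(P)|`. -/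
theorem card_autInducedBy_of_abelian [Finite S] {P : Subgroup Ω} (hPS : P ≤ S)
    (hcen : centralizerIn S P ≤ P) (hab : ∀ a ∈ P, ∀ b ∈ P, a * b = b * a) :
    Nat.card (autInducedBy S P) * Nat.card P = Nat.card (normalizerIn S P) := by
  set ψ : ↥(normalizerIn S P) →* MulAut P :=
    P.normalizerMonoidHom.comp (Subgroup.inclusion (inf_le_right : normalizerIn S P ≤ _)) with hψ
  have hψapp : ∀ (g : normalizerIn S P) (y : P), ((ψ g y : P) : Ω) = g * y * (g : Ω)⁻¹ := fun g y => rfl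
  have hrange : ψ.range = autInducedBy S P := by
    ext α
    constructor
    · rintro ⟨g, rfl⟩
      rw [mem_autInducedBy_iff]
      exact ⟨g, g.2.1, fun y => hψapp g y⟩
    · intro hα
      obtain ⟨g, hg, hgα⟩ := exists_normalizer_of_mem_autInducedBy hα
      exact ⟨⟨g, hg⟩, hgα⟩
  have hker : ψ.ker = P.subgroupOf (normalizerIn S P) := by
    ext g
    rw [MonoidHom.mem_ker, Subgroup.mem_subgroupOf]
    constructor
    · intro h
      apply hcen
      refine ⟨g.2.1, ?_⟩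
      show (g : Ω) ∈ Subgroup.centralizer (P : Set Ω)
      rw [Subgroup.mem_centralizer_iff]
      intro t ht
      have h1 := hψapp g ⟨t, ht⟩
      rw [h] at h1
      have h2 : t = g * t * (g : Ω)⁻¹ := h1
      calc t * g = (g * t * (g : Ω)⁻¹) * g := by rw [← h2]
        _ = g * t := by group
    · intro hg
      ext y
      rw [hψapp, MulAut.one_apply, hab g hg y y.2]
      group
  have h1 := Subgroup.card_mul_index ψ.ker
  rw [Subgroup.index_ker, hrange, hker,
    Nat.card_congr (Subgroup.subgroupOfEquivOfLe (le_normalizerIn hPS)).toEquiv] at h1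
  rw [mul_comm]
  exact h1

end Aut

section Main

variable [Finite S] {p : ℕ} [Fact p.Prime] {A : Subgroup Ω} {F : FusionSystem S} {P : Subgroup Ω} {x : Ω}

open Cfsg.Agent.Lib.Helper87_Transvection Cfsg.Agent.Lib.Helper87_ClassTwo in
/-- For an abelian essential subgroup `P = Z(S)⟨x⟩`: a complement `L` of `Z₀ = Z(S) ∩ [S, S]` in `Z(S)` invariant under
`Aut_F(P)`, and an `F`-automorphism of `S` inverting `Z₀` and centralizing `L`. -/
theorem exists_zdata_of_abelian (h : Ctx p S A F P x) (hab : ∀ a ∈ P, ∀ b ∈ P, a * b = b * a) :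
    ∃ (L : Subgroup Ω) (δ : Ω → Ω),
      ZData F ((S ⊓ Subgroup.centralizer (S : Set Ω)) ⊓ (commutator ↥S).map S.subtype) L δ ∧
      ∀ α ∈ F.autGroup P, ∀ y : P, (y : Ω) ∈ L → ((α y : P) : Ω) ∈ L := by
  classical
  have hp := h.prime
  have := h.finP
  have hPS := h.PS
  have hPp := h.pP
  have habP : ∀ u v : P, u * v = v * u := fun u v => Subtype.ext (hab u u.2 v v.2)
  have hP0 := h.P0_eq_of_abelian hab
  have hcomm := commutator_eq hp h.ab h.xS h.xA
  rw [hcomm]
  set Z := S ⊓ Subgroup.centralizer (S : Set Ω) with hZ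
  set Z₀ := Z ⊓ h.ab.kapIm h.xS A with hZ₀
  have hZP : Z ≤ P := h.center_le
  have hZ₀Z : Z₀ ≤ Z := inf_le_left
  -- an element of `Y` outside `Z`
  have hZY : Z ≤ h.ab.Yx h.xS := h.ab.center_le_Yx hp h.xS
  have hfinY : Finite (h.ab.Yx h.xS) :=
    Finite.of_injective (Subgroup.inclusion ((h.ab.Yx_le h.xS).trans h.ab.le))
      (Subgroup.inclusion_injective _)
  have hZltY : Z < h.ab.Yx h.xS := by
    refine lt_of_le_of_ne hZY (fun heq => ?_)
    have h1 := h.card_Yx
    rw [← hZ, ← heq] at h1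
    have hfinZ : Finite Z := Finite.of_injective (Subgroup.inclusion (hZP.trans hPS))
      (Subgroup.inclusion_injective _)
    have hpos : 0 < Nat.card Z := Nat.card_pos
    have h2 : Nat.card Z * 1 = Nat.card Z * p := by rw [mul_one]; exact h1
    exact hp.one_lt.ne (Nat.eq_of_mul_eq_mul_left hpos h2)
  obtain ⟨b, hbY, hbZ⟩ := SetLike.exists_of_lt hZltY
  obtain ⟨hbA, hkZ⟩ := (h.ab.mem_Yx h.xS b).1 hbY
  obtain ⟨⟨hbS, hbN⟩, -⟩ := h.Yx_le_B_of_center hbY
  -- the transvection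
  set A' := F.autGroup P with hA'
  set T := autInducedBy S P with hT
  set u := P.normalizerMonoidHom ⟨b, hbN⟩ with hu
  have huapp : ∀ y : P, ((u y : P) : Ω) = b * y * b⁻¹ := fun y => rfl
  have huT : u ∈ T := by
    rw [hT, mem_autInducedBy_iff]
    exact ⟨b, hbS, huapp⟩
  have hSyl : Cfsg.Agent.Lib.Helper84_RelSylow.IsSylowIn p T A' :=
    Cfsg.Agent.Lib.Helper84_FusionSat.isSylowIn_of_isFullyAutomized F
      (Cfsg.Agent.Lib.Helper84_FusionRS.IsSaturated.isFullyAutomized h.pS h.sat h.ess.2.1)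
  have hcardT : Nat.card T = p := by
    have h1 := card_autInducedBy_of_abelian hPS h.cen hab
    rw [h.card_N_eq, mul_comm] at h1
    have hpos : 0 < Nat.card P := Nat.card_pos
    exact Nat.eq_of_mul_eq_mul_left hpos h1
  set Zc : Subgroup P := Z₀.subgroupOf P with hZc
  set H : Subgroup P := Z.subgroupOf P with hH
  have hcx : kap x b * x = x * kap x b := (Subgroup.mem_centralizer_iff.mp hkZ.2 x h.xS).symm
  have hucomm : ∀ y : P, ∃ i : ℤ, ((y⁻¹ * u y : P) : Ω) = kap x b ^ i := by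
    intro y
    obtain ⟨a, ha, i, hy⟩ := h.exists_mul_zpow y.2
    refine ⟨i, ?_⟩
    show (y : Ω)⁻¹ * ((u y : P) : Ω) = kap x b ^ i
    rw [huapp, hy]
    have h2 : b * (a * x ^ i) * b⁻¹ = (b * a * b⁻¹) * (b * x * b⁻¹) ^ i := by
      rw [conj_zpow]; group
    have h3 : b * a * b⁻¹ = a := by rw [h.ab.ab b hbA a ha.2]; group
    rw [h2, h3, conj_eq_kap_mul, (show Commute (kap x b) x from hcx).mul_zpow]
    have h4 : x ^ i * kap x b ^ i = kap x b ^ i * x ^ i :=
      ((show Commute (kap x b) x from hcx).zpow_zpow i i).eq.symm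
    calc (a * x ^ i)⁻¹ * (a * (kap x b ^ i * x ^ i)) = (x ^ i)⁻¹ * (kap x b ^ i * x ^ i) := by group
      _ = (x ^ i)⁻¹ * (x ^ i * kap x b ^ i) := by rw [h4]
      _ = kap x b ^ i := by group
  have hkZ₀ : kap x b ∈ Z₀ := ⟨hkZ, (h.ab.mem_kapIm h.xS A _).2 ⟨b, hbA, hbA, rfl⟩⟩
  have tv : IsTv Zc H u := by
    refine ⟨?_, ?_, ?_, ?_⟩
    · intro hu1
      apply hbZ
      have h1 := huapp ⟨x, h.xP⟩
      rw [hu1] at h1
      have h2 : x = b * x * b⁻¹ := h1
      have h3 : b * x = x * b := by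
        calc b * x = (b * x * b⁻¹) * b := by group
          _ = x * b := by rw [← h2]
      exact h.ab.mem_center_of_comm hp h.xS h.xA hbA h3
    · intro y
      obtain ⟨i, hi⟩ := hucomm y
      rw [hZc, Subgroup.mem_subgroupOf, hi]
      exact Z₀.zpow_mem hkZ₀ i
    · intro y
      rw [hH, Subgroup.mem_subgroupOf]
      constructor
      · intro hy
        have hy' : b * (y : Ω) * b⁻¹ = y := by rw [← huapp, hy]
        have hby : b * (y : Ω) = y * b := by
          calc b * (y : Ω) = (b * y * b⁻¹) * b := by group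
            _ = y * b := by rw [hy']
        by_cases hyA : (y : Ω) ∈ A
        · have hyZ : (y : Ω) ∈ Z := by
            rw [← hP0]; exact ⟨y.2, hyA⟩
          exact hyZ
        · exfalso
          exact hbZ (h.ab.mem_center_of_comm hp (hPS y.2) hyA hbA hby)
      · intro hy
        apply Subtype.ext
        rw [huapp, Subgroup.mem_centralizer_iff.mp hy.2 b hbS]
        group
    · intro z hz
      rw [hZc, Subgroup.mem_subgroupOf] at hz
      rw [hH, Subgroup.mem_subgroupOf]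
      exact hZ₀Z hz
  have hcardZc : Nat.card Zc = p := by
    rw [hZc, Nat.card_congr (Subgroup.subgroupOfEquivOfLe (hZ₀Z.trans hZP)).toEquiv]
    exact h.card_Z0
  have hInn : Inn P = ⊥ := Cfsg.Agent.Lib.Helper88_AbelianEssential.inn_eq_bot habP
  have hu1 := tv.ne_one
  have hnn : ∃ a ∈ A', a * u * a⁻¹ ∉ Subgroup.zpowers u := by
    by_contra hcon
    push Not at hcon
    set N := Subgroup.zpowers u with hNdef
    have hNp : IsPGroup p N := hSyl.isPGroup.to_le ((Subgroup.zpowers_le).2 huT)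
    have hn : (N.subgroupOf A').Normal := by
      constructor
      intro n hn a
      rw [Subgroup.mem_subgroupOf] at hn ⊢
      obtain ⟨k, hk⟩ := Subgroup.mem_zpowers_iff.1 hn
      have h1 : ((a * n * a⁻¹ : A') : MulAut P) = (a : MulAut P) * u ^ k * (a : MulAut P)⁻¹ := by
        rw [hk]; rfl
      rw [h1, ← conj_zpow]
      exact N.zpow_mem (hcon a a.2) k
    have hle := Cfsg.Agent.Lib.Helper88_AbelianEssential.le_inn_of_normal_pgroup h.rad.2 hn hNp
    have : u ∈ N ⊓ A' := ⟨Subgroup.mem_zpowers u, hSyl.le huT⟩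
    have h2 := hle this
    rw [hInn, Subgroup.mem_bot] at h2
    exact hu1 h2
  have hset : TvSetting p A' Zc H u :=
    tvSetting_of_sylow hPp habP hSyl hcardT hcardZc huT tv hnn
  obtain ⟨L₀, τ, hτA, hLinv, hinter, hsup, -, hτZ, hτL⟩ := hset.main
  -- the restriction of `τ` to the centre extends to `S`
  have hτmap : IsMapOn F P (extFun τ) :=
    (Cfsg.Agent.Lib.Helper87_Alperin.mem_autGroup_iff F hPS τ).1 hτA
  have hdec : ∀ z ∈ Z, ∃ z₀ : P, z₀ ∈ Zc ∧ ∃ l : P, l ∈ L₀ ∧ z = (z₀ : Ω) * l := by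
    intro z hz
    have hzH : (⟨z, hZP hz⟩ : P) ∈ Zc ⊔ L₀ := by
      rw [hsup, hH, Subgroup.mem_subgroupOf]
      exact hz
    obtain ⟨z₀, hz₀, l, hl, hzl⟩ := exists_mul_of_mem_sup habP hzH
    exact ⟨z₀, hz₀, l, hl, congrArg Subtype.val hzl⟩
  have hL₀H : L₀ ≤ H := hsup ▸ (le_sup_right : L₀ ≤ Zc ⊔ L₀)
  have hfZ : ∀ z ∈ Z, extFun τ z ∈ Z := by
    intro z hz
    obtain ⟨z₀, hz₀, l, hl, rfl⟩ := hdec z hz
    have h1 : extFun τ ((z₀ : Ω) * l) = ((τ (z₀ * l) : P) : Ω) := extFun_coe τ (z₀ * l)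
    rw [h1, map_mul, hτZ z₀ hz₀, hτL l hl]
    have hz₀Z : (z₀ : Ω) ∈ Z := by
      rw [hZc, Subgroup.mem_subgroupOf] at hz₀
      exact hZ₀Z hz₀
    have hlZ : (l : Ω) ∈ Z := by
      have := hL₀H hl
      rw [hH, Subgroup.mem_subgroupOf] at this
      exact this
    exact Z.mul_mem (Z.inv_mem hz₀Z) hlZ
  obtain ⟨δ, hδmap, hδZ⟩ := exists_extension_of_center h.pS h.sat (hτmap.mono hZP) hfZ
  refine ⟨L₀.map P.subtype, δ, ⟨?_, ?_, hδmap, ?_, ?_⟩, ?_⟩
  · rintro _ ⟨l, hl, rfl⟩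
    have := hL₀H hl
    rw [hH, Subgroup.mem_subgroupOf] at this
    exact this
  · intro z hz
    obtain ⟨z₀, hz₀, l, hl, hzl⟩ := hdec z hz
    rw [hZc, Subgroup.mem_subgroupOf] at hz₀
    exact ⟨z₀, hz₀, l, ⟨l, hl, rfl⟩, hzl⟩
  · intro z hz
    have hzP : z ∈ P := hZP (hZ₀Z hz)
    rw [hδZ z (hZ₀Z hz), extFun_apply τ hzP,
      hτZ ⟨z, hzP⟩ (by rw [hZc, Subgroup.mem_subgroupOf]; exact hz)]
    rfl
  · rintro _ ⟨l, hl, rfl⟩
    have hlZ : (l : Ω) ∈ Z := by
      have := hL₀H hl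
      rw [hH, Subgroup.mem_subgroupOf] at this
      exact this
    show δ (l : Ω) = (l : Ω)
    rw [hδZ _ hlZ, extFun_coe, hτL l hl]
  · rintro α hα y ⟨l, hl, hly⟩
    have hyl : l = y := Subtype.ext hly
    subst hyl
    exact ⟨α l, hLinv α hα l hl, rfl⟩

/-- The centre of a nontrivial finite `p`-group is nontrivial. -/
theorem center_ne_bot (hS : IsPGroup p S) (hne : S ≠ ⊥) : S ⊓ Subgroup.centralizer (S : Set Ω) ≠ ⊥ := by
  have hnt : Nontrivial S := (Subgroup.nontrivial_iff_ne_bot S).2 hne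
  have hcn : Nontrivial (Subgroup.center S) := hS.center_nontrivial
  obtain ⟨c, hc⟩ := exists_ne (1 : Subgroup.center S)
  intro hbot
  have hcZ : ((c : S) : Ω) ∈ S ⊓ Subgroup.centralizer (S : Set Ω) := by
    refine ⟨(c : S).2, ?_⟩
    show ((c : S) : Ω) ∈ Subgroup.centralizer (S : Set Ω)
    rw [Subgroup.mem_centralizer_iff]
    intro g hg
    have := Subgroup.mem_center_iff.mp c.2 ⟨g, hg⟩
    exact congrArg Subtype.val this
  rw [hbot, Subgroup.mem_bot] at hcZ
  apply hc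
  apply Subtype.ext
  apply Subtype.ext
  exact hcZ

/-- An essential subgroup other than `A` gives the context. -/
theorem exists_ctx (hS : IsPGroup p S) (hF : F.IsSaturated p) (hab : AbIdx p S A)
    (hP : F.IsEssential p P) (hPA : P ≠ A) : ∃ x, Ctx p S A F P x := by
  have hPS : P ≤ S := hP.1.1
  have hcen : centralizerIn S P ≤ P := hP.1.2 P (Cfsg.Agent.Lib.Helper84_Fusion.isConj_refl F hPS)
  have hnle : ¬ P ≤ A := by
    intro hle
    apply hPA
    apply le_antisymm hle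
    intro a ha
    apply hcen
    refine ⟨hab.le ha, ?_⟩
    show a ∈ Subgroup.centralizer (P : Set Ω)
    rw [Subgroup.mem_centralizer_iff]
    intro y hy
    exact hab.ab y (hle hy) a ha
  obtain ⟨x, hxP, hxA⟩ := SetLike.not_le_iff_exists.1 hnle
  exact ⟨x, hS, hF, hab, hP, hxP, hxA⟩

/-- If `O_p(F) = 1` and `A` is not essential, some essential subgroup is abelian. -/
theorem exists_abelian_essential (hS : IsPGroup p S) (hF : F.IsSaturated p) (hab : AbIdx p S A)
    (hcore : F.core = ⊥) (hAe : ¬ F.IsEssential p A) :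
    ∃ (P : Subgroup Ω) (x : Ω), Ctx p S A F P x ∧ ∀ a ∈ P, ∀ b ∈ P, a * b = b * a := by
  by_contra hcon
  push Not at hcon
  have hSne : S ≠ ⊥ := by
    intro h
    obtain ⟨a, ha, b, hb, hne⟩ := hab.nab
    rw [h, Subgroup.mem_bot] at ha hb
    rw [ha, hb] at hne
    exact hne rfl
  apply center_ne_bot hS hSne
  have hnorm : F.IsNormal (S ⊓ Subgroup.centralizer (S : Set Ω)) := by
    rw [Cfsg.Agent.S5087.result p hS F hF]
    rintro P (rfl | hP)
    · refine ⟨inf_le_left, fun α _ => ?_⟩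
      exact map_eq_of_inv α (fun y hy => aut_mem_center α hy) (fun y hy => aut_mem_center α⁻¹ hy)
    · have hPA : P ≠ A := fun h => hAe (h ▸ hP)
      obtain ⟨x, hctx⟩ := exists_ctx hS hF hab hP hPA
      obtain ⟨a, ha, b, hb, hne⟩ := hcon P x hctx
      have hnab : ¬ ∀ a ∈ P, ∀ b ∈ P, a * b = b * a := fun h => hne (h a ha b hb)
      refine ⟨hctx.center_le, fun α _ => ?_⟩
      exact map_eq_of_inv α (fun y hy => hctx.Z_inv_of_nonabelian hnab α y hy)
        (fun y hy => hctx.Z_inv_of_nonabelian hnab α⁻¹ y hy)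
  have hle : S ⊓ Subgroup.centralizer (S : Set Ω) ≤ F.core := le_sSup hnorm
  rw [hcore] at hle
  exact le_bot_iff.1 hle

/-- **`Z(S) ≤ [S, S]`** when `O_p(F) = 1` and `A` is not essential. -/
theorem center_le_commutator (hodd : Odd p) (hS : IsPGroup p S) (hF : F.IsSaturated p)
    (hab : AbIdx p S A) (hcore : F.core = ⊥) (hAe : ¬ F.IsEssential p A) :
    S ⊓ Subgroup.centralizer (S : Set Ω) ≤ (commutator ↥S).map S.subtype := by
  classical
  have hp : p.Prime := Fact.out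
  obtain ⟨P, x, hctx, habP⟩ := exists_abelian_essential hS hF hab hcore hAe
  by_contra hnle
  set Z := S ⊓ Subgroup.centralizer (S : Set Ω) with hZ
  set Z₀ := Z ⊓ (commutator ↥S).map S.subtype with hZ₀
  have hZ₀Z : Z₀ ≤ Z := inf_le_left
  have hcardZ₀ : Nat.card Z₀ = p := by
    rw [hZ₀, commutator_eq hp hab hctx.xS hctx.xA]
    exact hctx.card_Z0
  obtain ⟨L, δ, hZD, hLinvP⟩ := exists_zdata_of_abelian hctx habP
  -- `Z₀` is invariant under automorphisms of `S`
  have hinv : ∀ γ : MulAut S, ∀ z : S, (z : Ω) ∈ Z₀ → ((γ z : S) : Ω) ∈ Z₀ := by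
    intro γ z hz
    refine ⟨aut_mem_center γ hz.1, ?_⟩
    obtain ⟨w, hw, hwz⟩ := hz.2
    have hwz' : w = z := Subtype.ext hwz
    subst hwz'
    refine ⟨γ w, ?_, rfl⟩
    have hchar : (commutator ↥S).Characteristic := inferInstance
    have h1 := (Subgroup.characteristic_iff_map_eq.1 hchar) γ
    rw [← h1]
    exact ⟨w, hw, rfl⟩
  -- `L` is invariant under `Aut_F(S)`
  have hinvS : ∀ β ∈ F.autGroup S, ∀ y : S, (y : Ω) ∈ L → ((β y : S) : Ω) ∈ L := by
    intro β hβ y hy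
    have hT := hZD.transport hZ₀Z hβ hinv
    have hle := ZData.le hodd hS hF hcardZ₀ hZ₀Z hT hZD
    exact hle ⟨β y, ⟨y, Subgroup.mem_subgroupOf.2 hy, rfl⟩, rfl⟩
  have hLZ : L ≤ Z := hZD.LZ
  have hLne : L ≠ ⊥ := by
    intro hbot
    apply hnle
    intro z hz
    obtain ⟨z₀, hz₀, l, hl, rfl⟩ := hZD.dec z hz
    rw [hbot, Subgroup.mem_bot] at hl
    rw [hl, mul_one]
    exact hz₀.2
  have hnorm : F.IsNormal L := by
    rw [Cfsg.Agent.S5087.result p hS F hF]
    rintro P' (rfl | hP')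
    · exact ⟨hLZ.trans inf_le_left, fun α hα =>
        map_eq_of_inv α (hinvS α hα) (hinvS α⁻¹ (Subgroup.inv_mem _ hα))⟩
    · have hPA : P' ≠ A := fun h => hAe (h ▸ hP')
      obtain ⟨x', hctx'⟩ := exists_ctx hS hF hab hP' hPA
      refine ⟨hLZ.trans hctx'.center_le, ?_⟩
      by_cases hab' : ∀ a ∈ P', ∀ b ∈ P', a * b = b * a
      · obtain ⟨L', δ', hZD', hLinvP'⟩ := exists_zdata_of_abelian hctx' hab'
        have hLL' : L = L' :=
          le_antisymm (ZData.le hodd hS hF hcardZ₀ hZ₀Z hZD hZD')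
            (ZData.le hodd hS hF hcardZ₀ hZ₀Z hZD' hZD)
        intro α hα
        rw [hLL']
        exact map_eq_of_inv α (hLinvP' α hα) (hLinvP' α⁻¹ (Subgroup.inv_mem _ hα))
      · -- nonabelian: restrict to the centre and extend to `S`
        have key : ∀ α ∈ F.autGroup P', ∀ y : P', (y : Ω) ∈ L → ((α y : P') : Ω) ∈ L := by
          intro α hα y hy
          have hαmap : IsMapOn F P' (extFun α) :=
            (Cfsg.Agent.Lib.Helper87_Alperin.mem_autGroup_iff F hctx'.PS α).1 hα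
          have hfZ : ∀ z ∈ Z, extFun α z ∈ Z := by
            intro z hz
            rw [extFun_apply α (hctx'.center_le hz)]
            exact hctx'.Z_inv_of_nonabelian hab' α ⟨z, hctx'.center_le hz⟩ hz
          obtain ⟨δ'', hδ''map, hδ''Z⟩ :=
            exists_extension_of_center hS hF (hαmap.mono hctx'.center_le) hfZ
          obtain ⟨β, hβ⟩ := Cfsg.Agent.Lib.Helper87_GTQuot.exists_aut_of_isMapOn hδ''map
            (fun s hs => hδ''map.mem hs)
          have hβA : β ∈ F.autGroup S :=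
            (Cfsg.Agent.Lib.Helper87_Alperin.mem_autGroup_iff F le_rfl β).2
              (hδ''map.congr fun s hs => (hβ s hs).symm)
          have hyZ : (y : Ω) ∈ Z := hLZ hy
          have hyS : (y : Ω) ∈ S := hyZ.1
          have h1 := hinvS β hβA ⟨y, hyS⟩ hy
          have h2 : ((β ⟨y, hyS⟩ : S) : Ω) = ((α y : P') : Ω) := by
            rw [← extFun_apply β hyS, hβ _ hyS, hδ''Z _ hyZ, extFun_coe]
          rw [← h2]
          exact h1
        intro α hα
        exact map_eq_of_inv α (key α hα) (key α⁻¹ (Subgroup.inv_mem _ hα))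
  have hle : L ≤ F.core := le_sSup hnorm
  rw [hcore] at hle
  exact hLne (le_bot_iff.1 hle)

end Main

end Cfsg.Agent.Lib.Helper87_IndexP4
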