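import Cfsg.Agent.Lib.Helper47_IsoBase
import Cfsg.Agent.Lib.Helper21_FStar
import Cfsg.Agent.Lib.Helper22_Layer
import Cfsg.Agent.Lib.Helper22_Quasisimple
import Cfsg.Agent.Lib.Helper29_Local
import Cfsg.Agent.Lib.Helper48_Trans2

/-!
# S3044 / S3045 package WEQY (architect helper47; formalised by helper87)

Class two + split implies `O^p(P) = Y` (`Y` the normal closure of `O^p(P)`).
-/

set_option autoImplicit false

open Cfsg
open Cfsg.Agent.Lib.Helper47_IsoBase Cfsg.Agent.Lib.Helper47_SubAPI Cfsg.Agent.Lib.Helper48_Op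
open scoped commutatorElement Pointwise

namespace Cfsg.Agent.Lib.Helper87_Iso_WEQY

universe u

variable {G : Type u} [Group G] [Finite G] {p : ℕ} [Fact p.Prime] {S : Sylow p G} {P L : Subgroup G}

theorem weqy (h : IsoHyp p S P L)
    (h3 : ⁅⁅Subgroup.normalClosure ((Op p P : Subgroup G) : Set G),
        Subgroup.normalClosure ((Op p P : Subgroup G) : Set G)⁆,
        Subgroup.normalClosure ((Op p P : Subgroup G) : Set G)⁆ ≤ Cfsg.pCore p G)
    (hsplit : Subgroup.normalClosure ((Op p P : Subgroup G) : Set G) ≤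
      ((P ⊓ Subgroup.normalClosure ((Op p P : Subgroup G) : Set G)) ⊔
        ⁅Subgroup.normalClosure ((Op p P : Subgroup G) : Set G),
          Subgroup.normalClosure ((Op p P : Subgroup G) : Set G)⁆) ⊔ Cfsg.pCore p G) :
    Op p P = Subgroup.normalClosure ((Op p P : Subgroup G) : Set G) := by
  set Y := Subgroup.normalClosure ((Op p P : Subgroup G) : Set G) with hY
  set Q := Cfsg.pCore p G with hQ
  have hker : (QuotientGroup.mk' Q).ker = Q := QuotientGroup.ker_mk' Q
  -- class two in the quotient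
  have h3' : ⁅⁅Y.map (QuotientGroup.mk' Q), Y.map (QuotientGroup.mk' Q)⁆,
      Y.map (QuotientGroup.mk' Q)⁆ = ⊥ := by
    rw [← Subgroup.map_commutator, ← Subgroup.map_commutator, Subgroup.map_eq_bot_iff, hker]
    exact h3
  have hA : (P ⊓ Y).map (QuotientGroup.mk' Q) ≤ Y.map (QuotientGroup.mk' Q) :=
    Subgroup.map_mono inf_le_right
  have hQbot : Q.map (QuotientGroup.mk' Q) = ⊥ := by
    rw [Subgroup.map_eq_bot_iff, hker]
  have hle : Y.map (QuotientGroup.mk' Q) ≤ (P ⊓ Y).map (QuotientGroup.mk' Q) ⊔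
      ⁅Y.map (QuotientGroup.mk' Q), Y.map (QuotientGroup.mk' Q)⁆ := by
    have := Subgroup.map_mono (f := QuotientGroup.mk' Q) hsplit
    rw [Subgroup.map_sup, Subgroup.map_sup, hQbot, sup_bot_eq, Subgroup.map_commutator] at this
    exact this
  have hbar : Y.map (QuotientGroup.mk' Q) ≤ (P ⊓ Y).map (QuotientGroup.mk' Q) :=
    le_of_class_two hA h3' hle
  -- pull back
  have h1 : Y ≤ (P ⊓ Y) ⊔ Q := by
    have h2 : Y ≤ ((P ⊓ Y).map (QuotientGroup.mk' Q)).comap (QuotientGroup.mk' Q) := by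
      rw [← Subgroup.map_le_iff_le_comap]
      exact hbar
    rw [Subgroup.comap_map_eq, hker] at h2
    exact h2
  have hYP : Y ≤ P := by
    refine h1.trans (sup_le inf_le_left ?_)
    exact h.Q_le_S.trans h.hSP
  -- now `Y = O^p(Y) ≤ O^p(P)`
  have hWY : Op p P ≤ Y := Subgroup.subset_normalClosure
  refine le_antisymm hWY ?_
  have hYn : Y.Normal := Subgroup.normalClosure_normal
  have hOpYn : (Op p Y).Normal := Op_normal p Y
  have hW : Op p P ≤ Op p Y := by
    have := Op_mono (p := p) hWY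
    rw [Op_Op] at this
    exact this
  have hYle : Y ≤ Op p Y := Subgroup.normalClosure_le_normal hW
  exact hYle.trans (Op_mono hYP)

end Cfsg.Agent.Lib.Helper87_Iso_WEQY
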