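import Mathlib

set_option autoImplicit false

/-!
Package G1 of helper7's S2066 (Out(J2) = 2) project: if the centre of a Sylow `p`-subgroup is
`{1, z}`, then every automorphism maps `z` to a conjugate of `z`.
-/

namespace Cfsg.Agent.Lib.Helper87_J2OutG1

open scoped Pointwise

theorem exists_conj_of_center {G : Type*} [Group G] [Finite G] (p : ℕ) [Fact p.Prime]
    (S : Sylow p G) (z : G) (hzS : z ∈ S) (hzc : ∀ y ∈ S, y * z = z * y)
    (hZ : ∀ x ∈ S, (∀ y ∈ S, y * x = x * y) → x = 1 ∨ x = z) (hz1 : z ≠ 1) (α : MulAut G) :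
    ∃ g : G, α z = g * z * g⁻¹ := by
  classical
  obtain ⟨g, hg⟩ := MulAction.exists_smul_eq G S (α • S)
  -- membership in `g • S` and in `α • S`
  have hmemg : ∀ y : G, y ∈ (g • S : Sylow p G) ↔ g⁻¹ * y * g ∈ S := by
    intro y
    change y ∈ ((g • S : Sylow p G) : Subgroup G) ↔ _
    rw [Sylow.smul_def, Sylow.pointwise_smul_def,
      Subgroup.mem_pointwise_smul_iff_inv_smul_mem]
    simp only [MulAut.smul_def, MulAut.conj_inv_apply]
    exact Iff.rfl
  have hmemα : ∀ y : G, y ∈ (α • S : Sylow p G) ↔ α⁻¹ y ∈ S := by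
    intro y
    change y ∈ ((α • S : Sylow p G) : Subgroup G) ↔ _
    rw [Sylow.pointwise_smul_def,
      Subgroup.mem_pointwise_smul_iff_inv_smul_mem]
    simp only [MulAut.smul_def]
    exact Iff.rfl
  have hαz : α z ∈ (α • S : Sylow p G) := by
    rw [hmemα]; simpa using hzS
  have hxS : g⁻¹ * α z * g ∈ S := by
    rw [← hmemg, hg]; exact hαz
  have hxc : ∀ y ∈ S, y * (g⁻¹ * α z * g) = (g⁻¹ * α z * g) * y := by
    intro y hy
    have h1 : g * y * g⁻¹ ∈ (g • S : Sylow p G) := by
      rw [hmemg]; simpa [mul_assoc] using hy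
    rw [hg, hmemα] at h1
    set y' := α⁻¹ (g * y * g⁻¹) with hy'
    have h2 : α y' = g * y * g⁻¹ := by simp [hy']
    have h3 : y = g⁻¹ * α y' * g := by rw [h2]; group
    have h4 : α y' * α z = α z * α y' := by
      rw [← map_mul, ← map_mul, hzc y' h1]
    calc y * (g⁻¹ * α z * g) = g⁻¹ * (α y' * α z) * g := by rw [h3]; group
      _ = g⁻¹ * (α z * α y') * g := by rw [h4]
      _ = (g⁻¹ * α z * g) * y := by rw [h3]; group
  rcases hZ _ hxS hxc with h | h
  · exfalso
    apply hz1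
    have h1 : α z = 1 := by
      have : α z = g * (g⁻¹ * α z * g) * g⁻¹ := by group
      rw [this, h]; group
    exact (map_eq_one_iff α α.injective).mp h1
  · refine ⟨g, ?_⟩
    have : α z = g * (g⁻¹ * α z * g) * g⁻¹ := by group
    rw [this, h]

end Cfsg.Agent.Lib.Helper87_J2OutG1
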