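import Mathlib

/-!
Automorphisms acting on a cyclic section (helper87).

Setting: a homomorphism `θ : R →* Q`, a subgroup `Y ≤ R` whose image under `θ` is cyclic, and
endomorphisms `α` of `R` preserving `Y` and `Y ∩ ker θ`. Then `α` acts on the image of `Y` as a power map;
two such maps commute modulo `ker θ`, and if the image is a `p`-group and `α` is invertible in this sense
then `α ^ ((p - 1) * p ^ e)` acts trivially modulo `ker θ` for `e` large.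
-/

set_option autoImplicit false
set_option linter.style.haveILetI false
open scoped commutatorElement

namespace Cfsg.Agent.Lib.Helper87_PowAct

variable {R Q : Type*} [Group R] [Group Q]

/-- `α` preserves `Y` and `Y ∩ ker θ`. -/
structure Pres (θ : R →* Q) (Y : Subgroup R) (α : R →* R) : Prop where
  mem : ∀ y ∈ Y, α y ∈ Y
  ker : ∀ y ∈ Y, θ y = 1 → θ (α y) = 1

theorem Pres.id (θ : R →* Q) (Y : Subgroup R) : Pres θ Y (MonoidHom.id R) :=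
  ⟨fun _ hy => hy, fun _ _ h => h⟩

theorem Pres.comp {θ : R →* Q} {Y : Subgroup R} {α β : R →* R} (hα : Pres θ Y α) (hβ : Pres θ Y β) :
    Pres θ Y (α.comp β) :=
  ⟨fun y hy => hα.mem _ (hβ.mem y hy), fun y hy h => hα.ker _ (hβ.mem y hy) (hβ.ker y hy h)⟩

theorem Pres.pow {θ : R →* Q} {Y : Subgroup R} {κ : MulAut R} (hκ : Pres θ Y κ.toMonoidHom) (n : ℕ) :
    Pres θ Y (κ ^ n).toMonoidHom := by
  induction n with
  | zero => exact Pres.id θ Y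
  | succ n ih =>
    have : (κ ^ (n + 1)).toMonoidHom = (κ ^ n).toMonoidHom.comp κ.toMonoidHom := by
      rw [pow_succ]
      rfl
    rw [this]
    exact ih.comp hκ

/-- A generator of the (cyclic) image of `Y`. -/
theorem exists_generator (θ : R →* Q) (Y : Subgroup R) (t : Q)
    (hY : ∀ y ∈ Y, θ y ∈ Subgroup.zpowers t) :
    ∃ y₀ ∈ Y, ∀ y ∈ Y, ∃ k : ℤ, θ y = θ y₀ ^ k := by
  have hle : Y.map θ ≤ Subgroup.zpowers t := by
    rintro _ ⟨y, hy, rfl⟩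
    exact hY y hy
  haveI : IsCyclic (Y.map θ) := Subgroup.isCyclic_of_le hle
  obtain ⟨⟨g, y₀, hy₀, rfl⟩, hg⟩ := IsCyclic.exists_generator (α := Y.map θ)
  refine ⟨y₀, hy₀, fun y hy => ?_⟩
  obtain ⟨k, hk⟩ := Subgroup.mem_zpowers_iff.1 (hg ⟨θ y, y, hy, rfl⟩)
  refine ⟨k, ?_⟩
  have := congrArg Subtype.val hk
  simpa using this.symm

/-- `α` acts as a power map on the image of `Y`. -/
theorem exists_pow {θ : R →* Q} {Y : Subgroup R} {y₀ : R} (hy₀ : y₀ ∈ Y)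
    (hgen : ∀ y ∈ Y, ∃ k : ℤ, θ y = θ y₀ ^ k) {α : R →* R} (hα : Pres θ Y α) :
    ∃ a : ℤ, ∀ y ∈ Y, ∀ k : ℤ, θ y = θ y₀ ^ k → θ (α y) = θ y₀ ^ (a * k) := by
  obtain ⟨a, ha⟩ := hgen (α y₀) (hα.mem y₀ hy₀)
  refine ⟨a, fun y hy k hk => ?_⟩
  have h1 : y⁻¹ * y₀ ^ k ∈ Y := Y.mul_mem (Y.inv_mem hy) (Y.zpow_mem hy₀ k)
  have h2 : θ (y⁻¹ * y₀ ^ k) = 1 := by
    rw [map_mul, map_inv, map_zpow, hk, inv_mul_cancel]
  have h3 := hα.ker _ h1 h2
  rw [map_mul, map_inv, map_zpow, map_mul, map_inv, map_zpow, inv_mul_eq_one] at h3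
  rw [h3, ha, ← zpow_mul]

/-- Two maps preserving `Y` and `Y ∩ ker θ` commute modulo `ker θ` on `Y`, when `θ(Y)` is cyclic. -/
theorem comm_mod {θ : R →* Q} {Y : Subgroup R} (t : Q) (hY : ∀ y ∈ Y, θ y ∈ Subgroup.zpowers t)
    {α β : R →* R} (hα : Pres θ Y α) (hβ : Pres θ Y β) :
    ∀ y ∈ Y, θ (α (β y)) = θ (β (α y)) := by
  obtain ⟨y₀, hy₀, hgen⟩ := exists_generator θ Y t hY
  obtain ⟨a, ha⟩ := exists_pow hy₀ hgen hα
  obtain ⟨b, hb⟩ := exists_pow hy₀ hgen hβ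
  intro y hy
  obtain ⟨k, hk⟩ := hgen y hy
  rw [ha _ (hβ.mem y hy) _ (hb y hy k hk), hb _ (hα.mem y hy) _ (ha y hy k hk)]
  congr 1
  ring

/-- The commutator of two automorphisms preserving `Y` and `Y ∩ ker θ` (together with their inverses) acts
trivially modulo `ker θ` on `Y`. -/
theorem commutator_mod {θ : R →* Q} {Y : Subgroup R} (t : Q)
    (hY : ∀ y ∈ Y, θ y ∈ Subgroup.zpowers t) (κ τ : MulAut R)
    (hκ : Pres θ Y κ.toMonoidHom) (hτ : Pres θ Y τ.toMonoidHom)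
    (hκ' : Pres θ Y κ⁻¹.toMonoidHom) (hτ' : Pres θ Y τ⁻¹.toMonoidHom) :
    ∀ y ∈ Y, θ (⁅κ, τ⁆ y) = θ y := by
  intro y hy
  have hw : κ⁻¹ (τ⁻¹ y) ∈ Y := hκ'.mem _ (hτ'.mem y hy)
  have h1 := comm_mod t hY hκ hτ _ hw
  have h2 : ⁅κ, τ⁆ y = κ (τ (κ⁻¹ (τ⁻¹ y))) := by
    rw [commutatorElement_def]
    rfl
  have h3 : τ (κ (κ⁻¹ (τ⁻¹ y))) = y := by
    rw [MulAut.apply_inv_self, MulAut.apply_inv_self]
  rw [h2]
  have h4 : θ (κ (τ (κ⁻¹ (τ⁻¹ y)))) = θ (τ (κ (κ⁻¹ (τ⁻¹ y)))) := h1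
  rw [h4, h3]

/-- Powers of `κ` act by powers of the exponent. -/
theorem pow_act {θ : R →* Q} {Y : Subgroup R} {y₀ : R} {κ : MulAut R} (hκ : Pres θ Y κ.toMonoidHom)
    {a : ℤ} (ha : ∀ y ∈ Y, ∀ k : ℤ, θ y = θ y₀ ^ k → θ (κ y) = θ y₀ ^ (a * k)) (m : ℕ) :
    ∀ y ∈ Y, ∀ k : ℤ, θ y = θ y₀ ^ k → θ ((κ ^ m) y) = θ y₀ ^ (a ^ m * k) := by
  induction m with
  | zero =>
    intro y _ k hk
    simpa using hk
  | succ m ih =>
    intro y hy k hk
    have h1 : (κ ^ (m + 1)) y = (κ ^ m) (κ y) := by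
      rw [pow_succ]
      rfl
    rw [h1, ih (κ y) (hκ.mem y hy) (a * k) (ha y hy k hk)]
    congr 1
    ring

/-- If `θ(Y)` is a cyclic group of exponent dividing `p ^ e`, an automorphism `κ` preserving `Y` and
`Y ∩ ker θ` (together with its inverse) satisfies: `κ ^ ((p - 1) * p ^ e)` acts trivially on `Y` modulo
`ker θ`. -/
theorem pow_mod {θ : R →* Q} {Y : Subgroup R} (t : Q) (hY : ∀ y ∈ Y, θ y ∈ Subgroup.zpowers t)
    (p : ℕ) [hp : Fact p.Prime] (e : ℕ) (hexp : ∀ y ∈ Y, θ y ^ (p ^ e) = 1) (κ : MulAut R)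
    (hκ : Pres θ Y κ.toMonoidHom) (hκ' : Pres θ Y κ⁻¹.toMonoidHom) :
    ∀ y ∈ Y, θ ((κ ^ ((p - 1) * p ^ e)) y) = θ y := by
  obtain ⟨y₀, hy₀, hgen⟩ := exists_generator θ Y t hY
  obtain ⟨a, ha⟩ := exists_pow hy₀ hgen hκ
  obtain ⟨b, hb⟩ := exists_pow hy₀ hgen hκ'
  have ha' : ∀ y ∈ Y, ∀ k : ℤ, θ y = θ y₀ ^ k → θ (κ y) = θ y₀ ^ (a * k) := ha
  have hb' : ∀ y ∈ Y, ∀ k : ℤ, θ y = θ y₀ ^ k → θ (κ⁻¹ y) = θ y₀ ^ (b * k) := hb
  -- the order of the generator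
  have hdvd : orderOf (θ y₀) ∣ p ^ e := orderOf_dvd_of_pow_eq_one (hexp y₀ hy₀)
  obtain ⟨f, hfe, hf⟩ := (Nat.dvd_prime_pow hp.out).1 hdvd
  intro y hy
  obtain ⟨k, hk⟩ := hgen y hy
  rw [pow_act hκ ha' _ y hy k hk, hk, zpow_eq_zpow_iff_modEq, hf]
  -- `a` is invertible modulo the order
  have hab : b * (a * 1) ≡ 1 [ZMOD ((p ^ f : ℕ) : ℤ)] := by
    have h1 := ha' y₀ hy₀ 1 (zpow_one _).symm
    have h2 := hb' (κ y₀) (hκ.mem y₀ hy₀) (a * 1) h1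
    have h3 : κ⁻¹ (κ y₀) = y₀ := MulAut.inv_apply_self _ _ _
    rw [h3] at h2
    have h4 : θ y₀ ^ (b * (a * 1)) = θ y₀ ^ (1 : ℤ) := by rw [← h2, zpow_one]
    rw [zpow_eq_zpow_iff_modEq, hf] at h4
    exact h4
  by_cases hf0 : f = 0
  · subst hf0
    simp only [pow_zero, Nat.cast_one]
    exact Int.modEq_one
  · have hfpos : 0 < f := Nat.pos_of_ne_zero hf0
    have hunit : ((a : ZMod (p ^ f)) * (b : ZMod (p ^ f))) = 1 := by
      have := (ZMod.intCast_eq_intCast_iff _ _ _).2 hab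
      push_cast at this
      rw [mul_one, mul_comm] at this
      exact this
    let u : (ZMod (p ^ f))ˣ := Units.mkOfMulEqOne _ _ hunit
    have hu : (u : ZMod (p ^ f)) = (a : ZMod (p ^ f)) := rfl
    have htot : u ^ ((p - 1) * p ^ e) = 1 := by
      have h1 := ZMod.pow_totient u
      rw [Nat.totient_prime_pow hp.out hfpos] at h1
      have h2 : (p - 1) * p ^ e = (p ^ (f - 1) * (p - 1)) * p ^ (e - f + 1) := by
        have : e = (f - 1) + (e - f + 1) := by omega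
        conv_lhs => rw [this, pow_add]
        ring
      rw [h2, pow_mul, h1, one_pow]
    have h5 : ((a ^ ((p - 1) * p ^ e) : ℤ) : ZMod (p ^ f)) = ((1 : ℤ) : ZMod (p ^ f)) := by
      have := congrArg (fun x : (ZMod (p ^ f))ˣ => (x : ZMod (p ^ f))) htot
      simp only [Units.val_pow_eq_pow_val, Units.val_one, hu] at this
      push_cast
      exact this
    have h6 := (ZMod.intCast_eq_intCast_iff _ _ _).1 h5
    have h7 := h6.mul_right k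
    rw [one_mul] at h7
    exact h7

end Cfsg.Agent.Lib.Helper87_PowAct
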