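import Mathlib
import Cfsg.Agent.S1447
import Cfsg.Agent.Lib.Helper2_Metacyclic
import Cfsg.Agent.Lib.Helper87_PowAct
import Cfsg.Agent.Lib.Helper87_Alperin
import Cfsg.Agent.Lib.Helper87_CyclicChain2

/-!
# Coprime automorphism groups of nonabelian metacyclic `p`-groups, `p` odd

A group `H` of automorphisms of order prime to `p` of a nonabelian metacyclic `p`-group `M` (`p` odd) has all its
commutators `m⁻¹ γ(m)` inside one cyclic subgroup (from `S1447`); consequently `H` is abelian of exponent
dividing `p - 1`.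
-/

set_option autoImplicit false
set_option linter.unusedSectionVars false
set_option linter.style.haveILetI false

namespace Cfsg.Agent.Lib.Helper87_MetaAut

open Subgroup Cfsg Cfsg.Agent.Lib.Helper2_Metacyclic Cfsg.Agent.Lib.Helper87_PowAct

open scoped commutatorElement

section abstract

variable {p : ℕ} [Fact p.Prime] {M : Type*} [Group M] [Finite M]

/-- `S1447` for a group of automorphisms. -/
theorem exists_cyclic_commutator_subgroup (hp : p ≠ 2) (hM : IsPGroup p M) (hm : Cfsg.IsMetacyclic M)
    (hna : ¬ ∀ a b : M, a * b = b * a) (H : Subgroup (MulAut M)) (hH : (Nat.card H).Coprime p) :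
    ∃ C : Subgroup M, IsCyclic C ∧ ∀ γ ∈ H, ∀ m : M, m⁻¹ * γ m ∈ C := by
  by_cases hH1 : ∀ γ ∈ H, γ = 1
  · refine ⟨⊥, inferInstance, fun γ hγ m => ?_⟩
    rw [hH1 γ hγ, MulAut.one_apply, inv_mul_cancel]
    exact one_mem _
  let G := M ⋊[MonoidHom.id (MulAut M)] MulAut M
  have hfin : Finite G := Finite.of_equiv _ SemidirectProduct.equivProd.symm
  let il : M →* G := SemidirectProduct.inl
  let ir : MulAut M →* G := SemidirectProduct.inr
  have hil : Function.Injective il := SemidirectProduct.inl_injective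
  have hir : Function.Injective ir := SemidirectProduct.inr_injective
  have hconj : ∀ (a : MulAut M) (m : M), il (a m) = ir a * il m * (ir a)⁻¹ := by
    intro a m
    have := SemidirectProduct.inl_aut (φ := MonoidHom.id (MulAut M)) a m
    rw [map_inv] at this
    exact this
  set R : Subgroup G := il.range with hR
  set A : Subgroup G := H.map ir with hA
  have hRn : R.Normal := by
    rw [hR, SemidirectProduct.range_inl_eq_ker_rightHom]
    infer_instance
  have hRp : IsPGroup p ↥R := hM.of_surjective il.rangeRestrict il.rangeRestrict_surjective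
  have hRm : Cfsg.IsMetacyclic ↥R := isMetacyclic_of_mulEquiv' (MonoidHom.ofInjective hil) hm
  have hAn : A ≤ Subgroup.normalizer (R : Set G) := by
    rw [Subgroup.normalizer_eq_top]
    exact le_top
  have hcop : (Nat.card ↥A).Coprime p := by
    rw [hA, Subgroup.card_map_of_injective hir]
    exact hH
  obtain ⟨-, -, -, h4⟩ := Cfsg.Agent.S1447.result p hp R A hRp hRm hAn hcop
  have hRna : ¬ IsMulCommutative ↥R := by
    intro hc
    apply hna
    intro a b
    have h1 := isMulCommutative_iff.mp hc ⟨il a, a, rfl⟩ ⟨il b, b, rfl⟩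
    have h2 : il a * il b = il b * il a := congrArg Subtype.val h1
    rw [← map_mul, ← map_mul] at h2
    exact hil h2
  have hAc : ¬ A ≤ Subgroup.centralizer (R : Set G) := by
    intro hc
    apply hH1
    intro γ hγ
    ext m
    have h1 : ir γ ∈ A := ⟨γ, hγ, rfl⟩
    have h2 := (Subgroup.mem_centralizer_iff.mp (hc h1)) (il m) ⟨m, rfl⟩
    have h3 : il (γ m) = il m := by
      rw [hconj, ← h2, mul_inv_cancel_right]
    rw [MulAut.one_apply]
    exact hil h3
  obtain ⟨-, hcyc, -, -, -⟩ := h4 hRna hAc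
  refine ⟨(⁅R, A⁆ : Subgroup G).comap il, ?_, fun γ hγ m => ?_⟩
  · let f : ↥((⁅R, A⁆ : Subgroup G).comap il) →* ↥(⁅R, A⁆ : Subgroup G) :=
      MonoidHom.codRestrict (il.comp (Subgroup.subtype _)) _ (fun x => x.2)
    have hf : Function.Injective f := by
      intro a b hab
      have h1 : il (a : M) = il (b : M) := congrArg Subtype.val hab
      exact Subtype.ext (hil h1)
    exact isCyclic_of_injective f hf
  · rw [Subgroup.mem_comap, map_mul, map_inv, hconj]
    have h1 : (il m)⁻¹ * (ir γ * il m * (ir γ)⁻¹) = ⁅(il m)⁻¹, ir γ⁆ := by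
      rw [commutatorElement_def, inv_inv, mul_assoc, mul_assoc, mul_assoc]
    rw [h1]
    exact Subgroup.commutator_mem_commutator (R.inv_mem ⟨m, rfl⟩) ⟨γ, hγ, rfl⟩

end abstract

section subgroup

open Cfsg.Agent.Lib.Helper87_Alperin Cfsg.Agent.Lib.Helper87_CyclicChain2

variable {Ω : Type*} [Group Ω] {S : Subgroup Ω}

/-- A group of automorphisms of order prime to `p` of a nonabelian metacyclic `p`-group, `p` odd, is abelian of
exponent dividing `p - 1`. -/
theorem abelian_of_metacyclic_odd [Finite S] (p : ℕ) [Fact p.Prime] (hp : p ≠ 2) (hS : IsPGroup p S)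
    (hm : Cfsg.IsMetacyclic ↥S) (hna : ¬ ∀ a b : S, a * b = b * a)
    (H : Subgroup (MulAut S)) (hH : (Nat.card H).Coprime p) :
    IsMulCommutative H ∧ ∀ h ∈ H, h ^ (p - 1) = 1 := by
  obtain ⟨C, hC, hCm⟩ := exists_cyclic_commutator_subgroup hp hS hm hna H hH
  obtain ⟨g, hg⟩ := hC.exists_generator
  have hY : ∀ y ∈ C, (MonoidHom.id S) y ∈ Subgroup.zpowers (g : S) := by
    intro y hy
    obtain ⟨k, hk⟩ := Subgroup.mem_zpowers_iff.1 (hg ⟨y, hy⟩)
    refine Subgroup.mem_zpowers_iff.2 ⟨k, ?_⟩
    have := congrArg Subtype.val hk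
    simpa using this
  have hpres : ∀ κ ∈ H, Pres (MonoidHom.id S) C κ.toMonoidHom := by
    intro κ hκ
    refine ⟨fun y hy => ?_, fun y _ h1 => ?_⟩
    · have h1 : κ y = y * (y⁻¹ * κ y) := by group
      show κ y ∈ C
      rw [h1]
      exact C.mul_mem hy (hCm κ hκ y)
    · have : y = 1 := h1
      show κ y = 1
      rw [this, map_one]
  obtain ⟨e, he⟩ := IsPGroup.iff_card.1 hS
  have key : ∀ β : MulAut S, β ∈ H → (∀ y ∈ C, β y = y) → β = 1 := by
    intro β hβ hfix
    have hord : (orderOf β).Coprime p := by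
      have h1 : orderOf β ∣ Nat.card H := by
        have := orderOf_dvd_natCard (⟨β, hβ⟩ : H)
        rwa [Subgroup.orderOf_mk] at this
      exact Nat.Coprime.coprime_dvd_left h1 hH
    let ch : ℕ → Subgroup Ω := fun i => if i = 0 then S else if i = 1 then C.map S.subtype else ⊥
    refine aut_eq_one_of_chain hS β hord ch 2 ?_ ?_ ?_
    · show S ≤ ch 0
      simp [ch]
    · simp [ch]
    · intro i hi x hx
      have hi' : i = 0 ∨ i = 1 := by omega
      rcases hi' with rfl | rfl
      · have : ch (0 + 1) = C.map S.subtype := by simp [ch]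
        rw [this]
        exact ⟨x⁻¹ * β x, hCm β hβ x, rfl⟩
      · have h1 : ch 1 = C.map S.subtype := by simp [ch]
        have h2 : ch (1 + 1) = ⊥ := by simp [ch]
        rw [h1] at hx
        rw [h2, Subgroup.mem_bot]
        obtain ⟨y, hy, hyx⟩ := hx
        have hxy : x = y := Subtype.ext hyx.symm
        rw [hxy, hfix y hy, inv_mul_cancel]
  refine ⟨⟨⟨fun a b => ?_⟩⟩, fun h hh => ?_⟩
  · have h1 : ⁅(a : MulAut S), (b : MulAut S)⁆ = 1 := by
      apply key _ (⁅a, b⁆ : H).2
      intro y hy
      exact commutator_mod (θ := MonoidHom.id S) (g : S) hY (a : MulAut S) (b : MulAut S)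
        (hpres _ a.2) (hpres _ b.2) (hpres _ (H.inv_mem a.2)) (hpres _ (H.inv_mem b.2)) y hy
    apply Subtype.ext
    exact commutatorElement_eq_one_iff_mul_comm.1 h1
  · have h1 : h ^ ((p - 1) * p ^ e) = 1 := by
      apply key _ (H.pow_mem hh _)
      intro y hy
      refine pow_mod (θ := MonoidHom.id S) (g : S) hY p e ?_ h (hpres _ hh) (hpres _ (H.inv_mem hh)) y hy
      intro y _
      show y ^ (p ^ e) = 1
      rw [← he]
      exact pow_card_eq_one'
    rw [pow_mul] at h1
    have h2 : (⟨h, hh⟩ : H) ^ (p - 1) = 1 := by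
      apply eq_one_of_pow_eq_one_of_coprime hH _ e
      apply Subtype.ext
      simpa using h1
    have := congrArg Subtype.val h2
    simpa using this

end subgroup

end Cfsg.Agent.Lib.Helper87_MetaAut
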