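import Mathlib
import Cfsg.Prelude.Def_OddOrderLocal
import Cfsg.Prelude.Def_FusionSystem
import Cfsg.Agent.Lib.Helper87_Supersoluble

/-!
# Auxiliary results for metacyclic `p`-groups of supersoluble type

* `card_le_of_exp` : a subgroup of exponent `p` of a metacyclic group has order at most `p * p`.
* `subsingleton_of_iso` : a metacyclic group isomorphic to `(C × C) × H` with `C` cyclic of order `p ^ n`,
  `n > 0`, and `H` a `p`-group, has `H` trivial.
* `exists_chain_of_inner` : the inner fusion system of a `p`-group has a chain with cyclic steps.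
-/

set_option autoImplicit false
set_option linter.style.haveILetI false

universe u

namespace Cfsg.Agent.Lib.Helper87_MetaSS

open Cfsg Cfsg.FusionSystem Subgroup

section rank

variable {R : Type*} [Group R]

/-- A subgroup of exponent `p` of a cyclic group has order at most `p`. -/
theorem card_le_of_isCyclic {Q : Type*} [Group Q] [IsCyclic Q] (K : Subgroup Q) [Finite K] {p : ℕ}
    (hp : 0 < p) (h : ∀ y ∈ K, y ^ p = 1) : Nat.card K ≤ p := by
  obtain ⟨k, hk⟩ := IsCyclic.exists_generator (α := K)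
  rw [← orderOf_eq_card_of_forall_mem_zpowers hk]
  apply Nat.le_of_dvd hp
  apply orderOf_dvd_of_pow_eq_one
  apply Subtype.ext
  rw [Subgroup.coe_pow, Subgroup.coe_one]
  exact h k k.2

theorem card_le_of_exp [Finite R] (hm : Cfsg.IsMetacyclic R) {p : ℕ} (hp : 0 < p) (E : Subgroup R)
    (hE : ∀ a ∈ E, a ^ p = 1) : Nat.card E ≤ p * p := by
  obtain ⟨N, hN, hNc, hQc⟩ := hm
  let f : E →* R ⧸ N := (QuotientGroup.mk' N).comp E.subtype
  have h1 : Nat.card E = Nat.card f.ker * Nat.card f.range := by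
    rw [← Subgroup.index_ker, Subgroup.card_mul_index]
  have h2 : Nat.card f.range ≤ p := by
    apply card_le_of_isCyclic f.range hp
    rintro _ ⟨x, rfl⟩
    rw [← map_pow]
    have : x ^ p = 1 := by
      apply Subtype.ext
      rw [Subgroup.coe_pow, Subgroup.coe_one]
      exact hE x x.2
    rw [this, map_one]
  have hker : ∀ x : f.ker, ((x : E) : R) ∈ N := by
    intro x
    have := x.2
    rw [MonoidHom.mem_ker] at this
    have h3 : (QuotientGroup.mk' N) ((x : E) : R) = 1 := this
    rwa [QuotientGroup.mk'_apply, QuotientGroup.eq_one_iff] at h3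
  let j : f.ker →* N :=
    { toFun := fun x => ⟨((x : E) : R), hker x⟩
      map_one' := rfl
      map_mul' := fun _ _ => rfl }
  have hj : Function.Injective j := by
    intro a b hab
    apply Subtype.ext
    apply Subtype.ext
    have := congrArg (fun z : N => (z : R)) hab
    exact this
  have h3 : Nat.card f.ker ≤ p := by
    rw [Nat.card_congr (MonoidHom.ofInjective hj).toEquiv]
    apply card_le_of_isCyclic j.range hp
    rintro _ ⟨x, rfl⟩
    apply Subtype.ext
    rw [Subgroup.coe_pow, Subgroup.coe_one]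
    exact hE _ (x : E).2
  rw [h1]
  exact Nat.mul_le_mul h3 h2

theorem pow_eq_one_of_mem_zpowers {X : Type*} [Group X] {p : ℕ} (t s : X) (ht : orderOf t = p)
    (hs : s ∈ zpowers t) : s ^ p = 1 := by
  obtain ⟨k, rfl⟩ := Subgroup.mem_zpowers_iff.1 hs
  rw [← zpow_natCast, ← zpow_mul, mul_comm, zpow_mul, zpow_natCast, ← ht, pow_orderOf_eq_one,
    one_zpow]

theorem subsingleton_of_iso [Finite R] (hm : Cfsg.IsMetacyclic R) {p : ℕ} [hpF : Fact p.Prime]
    (hR : IsPGroup p R) {n : ℕ} (hn : 0 < n) {H : Type*} [Group H]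
    (e : R ≃* (Multiplicative (ZMod (p ^ n)) × Multiplicative (ZMod (p ^ n))) × H) :
    Subsingleton H := by
  have hpP : p.Prime := hpF.out
  by_contra hns
  rw [not_subsingleton_iff_nontrivial] at hns
  haveI : NeZero (p ^ n) := ⟨pow_ne_zero n hpP.ne_zero⟩
  haveI hfinB : Finite ((Multiplicative (ZMod (p ^ n)) × Multiplicative (ZMod (p ^ n))) × H) :=
    Finite.of_equiv _ e.toEquiv
  let iH : H →* (Multiplicative (ZMod (p ^ n)) × Multiplicative (ZMod (p ^ n))) × H :=
    MonoidHom.inr _ _
  have hiH : Function.Injective iH := fun a b hab => by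
    have := congrArg Prod.snd hab
    simpa [iH] using this
  haveI : Finite H := Finite.of_injective iH hiH
  have hB : IsPGroup p ((Multiplicative (ZMod (p ^ n)) × Multiplicative (ZMod (p ^ n))) × H) :=
    hR.of_equiv e
  have hH : IsPGroup p H := hB.of_injective iH hiH
  -- an element of order `p` in `H`
  obtain ⟨h, hh⟩ : ∃ h : H, orderOf h = p := by
    obtain ⟨j, hj⟩ := IsPGroup.iff_card.1 hH
    have hj0 : j ≠ 0 := by
      rintro rfl
      rw [pow_zero] at hj
      have := Finite.one_lt_card (α := H)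
      omega
    apply exists_prime_orderOf_dvd_card' p
    rw [hj]
    exact dvd_pow_self p hj0
  -- an element of order `p` in `C`
  obtain ⟨g, hg⟩ : ∃ g : Multiplicative (ZMod (p ^ n)), orderOf g = p := by
    apply exists_prime_orderOf_dvd_card' p
    have : Nat.card (Multiplicative (ZMod (p ^ n))) = p ^ n := by
      rw [Nat.card_congr Multiplicative.toAdd, Nat.card_zmod]
    rw [this]
    exact dvd_pow_self p hn.ne'
  let K : Subgroup ((Multiplicative (ZMod (p ^ n)) × Multiplicative (ZMod (p ^ n))) × H) :=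
    ((zpowers g).prod (zpowers g)).prod (zpowers h)
  have hKcard : Nat.card K = p * p * p := by
    rw [Nat.card_congr (Subgroup.prodEquiv _ _).toEquiv, Nat.card_prod,
      Nat.card_congr (Subgroup.prodEquiv _ _).toEquiv, Nat.card_prod, Nat.card_zpowers,
      Nat.card_zpowers, hg, hh]
  have hKexp : ∀ x ∈ K, x ^ p = 1 := by
    rintro ⟨⟨a, b⟩, c⟩ ⟨⟨ha, hb⟩, hc⟩
    have h1 : a ^ p = 1 := pow_eq_one_of_mem_zpowers g a hg ha
    have h2 : b ^ p = 1 := pow_eq_one_of_mem_zpowers g b hg hb
    have h3 : c ^ p = 1 := pow_eq_one_of_mem_zpowers h c hh hc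
    show ((a, b), c) ^ p = 1
    rw [Prod.pow_mk, Prod.pow_mk, h1, h2, h3]
    rfl
  let E : Subgroup R := K.map e.symm.toMonoidHom
  have hEcard : Nat.card E = p * p * p := by
    rw [← hKcard]
    exact Subgroup.card_map_of_injective e.symm.injective
  have hEexp : ∀ a ∈ E, a ^ p = 1 := by
    rintro _ ⟨k, hk, rfl⟩
    show e.symm k ^ p = 1
    rw [← map_pow, hKexp k hk, map_one]
  have hle := card_le_of_exp hm hpP.pos E hEexp
  rw [hEcard] at hle
  have h2 : 2 ≤ p := hpP.two_le
  have : p * p * 2 ≤ p * p * p := Nat.mul_le_mul_left _ h2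
  have h3 : 0 < p * p := Nat.mul_pos hpP.pos hpP.pos
  omega

end rank

section inner

variable {Ω : Type*} [Group Ω] {S : Subgroup Ω}

/-- A fusion system over a `p`-group all of whose maps are conjugations by elements of `S` has a chain of
strongly closed subgroups with cyclic steps. -/
theorem exists_chain_of_inner [Finite S] (p : ℕ) [Fact p.Prime] (hS : IsPGroup p S) (F : FusionSystem S)
    (hF : ∀ P : Subgroup Ω, F.Hom P = (innerFusionSystem S).Hom P) :
    ∃ (m : ℕ) (c : Fin (m + 1) → Subgroup Ω), c 0 = ⊥ ∧ c (Fin.last m) = S ∧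
      (∀ i : Fin (m + 1), F.StronglyClosed (c i)) ∧
        ∀ i : Fin m, c i.castSucc ≤ c i.succ ∧ ∃ x ∈ S, c i.succ = c i.castSucc ⊔ Subgroup.zpowers x := by
  obtain ⟨m, c', hc0, hcm, hcn, -, hcs⟩ :=
    Cfsg.Agent.Lib.Helper87_Supersoluble.exists_chain_of_abelian_action p hS (⊥ : Subgroup (MulAut S))
      (fun a ha b hb => by rw [Subgroup.mem_bot.1 ha, Subgroup.mem_bot.1 hb])
      (fun h hh => by rw [Subgroup.mem_bot.1 hh, one_pow])
  refine ⟨m, fun i => (c' i).map S.subtype, ?_, ?_, ?_, ?_⟩
  · show (c' 0).map S.subtype = ⊥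
    rw [hc0, Subgroup.map_bot]
  · show (c' (Fin.last m)).map S.subtype = S
    rw [hcm, ← MonoidHom.range_eq_map, Subgroup.range_subtype]
  · intro i
    refine ⟨Subgroup.map_subtype_le _, fun R hR φ hφ x => ?_⟩
    rw [hF R] at hφ
    obtain ⟨-, g, hg, hφg⟩ := hφ
    rw [hφg x]
    obtain ⟨y, hy, hyx⟩ := hR x.2
    refine ⟨⟨g, hg⟩ * y * ⟨g, hg⟩⁻¹, (hcn i).conj_mem y hy ⟨g, hg⟩, ?_⟩
    show g * (y : Ω) * g⁻¹ = g * (x : Ω) * g⁻¹
    have : (y : Ω) = (x : Ω) := hyx
    rw [this]
  · intro i
    obtain ⟨x, hx⟩ := hcs i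
    have h1 : (c' i.succ).map S.subtype = (c' i.castSucc).map S.subtype ⊔ Subgroup.zpowers (x : Ω) := by
      rw [hx, Subgroup.map_sup, MonoidHom.map_zpowers]
      rfl
    refine ⟨?_, x, x.2, h1⟩
    show (c' i.castSucc).map S.subtype ≤ (c' i.succ).map S.subtype
    rw [h1]
    exact le_sup_left

end inner

section models

variable {R : Type*} [Group R]

theorem comm_of_mulEquiv {R' : Type*} [Group R'] (e : R ≃* R') (h : ∀ a b : R', a * b = b * a) :
    ∀ a b : R, a * b = b * a := by
  intro a b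
  apply e.injective
  rw [map_mul, map_mul, h]

/-- A nonabelian finite group is not homocyclic, and is dihedral or quaternion only with parameter `≥ 2`. -/
theorem not_homocyclic_of_not_comm (hna : ¬ ∀ a b : R, a * b = b * a) :
    ¬ ∃ n k : ℕ, Nonempty (R ≃* Multiplicative (Fin k → ZMod (2 ^ n))) := by
  rintro ⟨n, k, ⟨e⟩⟩
  exact hna (comm_of_mulEquiv e (fun a b => mul_comm a b))

theorem two_le_of_dihedral [Finite R] (hna : ¬ ∀ a b : R, a * b = b * a) {m : ℕ}
    (e : R ≃* DihedralGroup m) : 2 ≤ m := by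
  by_contra hm
  have hm' : m = 0 ∨ m = 1 := by omega
  rcases hm' with rfl | rfl
  · haveI : Finite (DihedralGroup 0) := Finite.of_equiv _ e.toEquiv
    exact not_finite (DihedralGroup 0)
  · apply hna
    have hc : IsMulCommutative (DihedralGroup 1) := DihedralGroup.commutative_iff.2 (Or.inl rfl)
    exact comm_of_mulEquiv e (fun a b => hc.is_comm.comm a b)

theorem two_le_of_quaternion [Finite R] (hna : ¬ ∀ a b : R, a * b = b * a) {m : ℕ}
    (e : R ≃* QuaternionGroup m) : 2 ≤ m := by
  by_contra hm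
  have hm' : m = 0 ∨ m = 1 := by omega
  rcases hm' with rfl | rfl
  · haveI : Finite (DihedralGroup 0) :=
      Finite.of_equiv _ (e.trans QuaternionGroup.quaternionGroupZeroEquivDihedralGroupZero).toEquiv
    exact not_finite (DihedralGroup 0)
  · apply hna
    haveI := QuaternionGroup.quaternionGroup_one_isCyclic
    have hc : ∀ a b : QuaternionGroup 1, a * b = b * a := by
      obtain ⟨g, hg⟩ := IsCyclic.exists_generator (α := QuaternionGroup 1)
      intro a b
      obtain ⟨i, rfl⟩ := Subgroup.mem_zpowers_iff.1 (hg a)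
      obtain ⟨j, rfl⟩ := Subgroup.mem_zpowers_iff.1 (hg b)
      rw [← zpow_add, ← zpow_add, add_comm]
    exact comm_of_mulEquiv e hc

end models

end Cfsg.Agent.Lib.Helper87_MetaSS
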