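import Cfsg.Agent.Lib.Helper87_RealizeSys
import Cfsg.Agent.Lib.Helper87_GL2Sylow

/-!
# Saturated fusion systems without supersoluble chains on dihedral, quasidihedral and quaternion groups

A group `S` isomorphic to a two-generator model `Mo = ⟨x, y⟩` (with `TwoGenData`) which embeds as a Sylow
`2`-subgroup in an ambient group carrying `Ambient` data has a saturated fusion system with no chain of
strongly closed subgroups with cyclic steps.  The ambient groups are `PGL₂(q)`, `GL₂(q)`, `SL₂(q)`.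
-/

set_option autoImplicit false
set_option linter.style.haveILetI false

namespace Cfsg.Agent.Lib.Helper87_NoChain

open Cfsg Cfsg.FusionSystem Cfsg.Agent.Lib Cfsg.Agent.Lib.Helper87_Realized
  Cfsg.Agent.Lib.Helper87_RealizeSys Cfsg.Agent.Lib.Helper87_TwoGen Cfsg.Agent.Lib.Helper87_GL2Sylow
  Cfsg.Agent.Lib.Helper87_GL2Tor

/-- The conclusion: some saturated fusion system over `S` has no supersoluble chain. -/
def NoChain {Ω : Type*} [Group Ω] (S : Subgroup Ω) : Prop :=
  ∃ F : FusionSystem S, F.IsSaturated 2 ∧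
    ¬ ∃ (m : ℕ) (c : Fin (m + 1) → Subgroup Ω), c 0 = ⊥ ∧ c (Fin.last m) = S ∧
      (∀ i : Fin (m + 1), F.StronglyClosed (c i)) ∧
        ∀ i : Fin m, c i.castSucc ≤ c i.succ ∧ ∃ x ∈ S, c i.succ = c i.castSucc ⊔ Subgroup.zpowers x

theorem noChain_of_ambient {Ω : Type*} [Group Ω] {S : Subgroup Ω} [Finite S]
    {Mo : Type*} [Group Mo] (e : ↥S ≃* Mo) {N e' c k j t : ℕ} {x y : Mo}
    (hMo : TwoGenData Mo N e' c x y) (hcard : Nat.card Mo = 2 * N) (hN : N = 2 ^ t)
    {G : Type*} [Group G] [Finite G] {X Y : G} (hG : Ambient G N e' c k j X Y) : NoChain S := by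
  haveI : Finite Mo := Finite.of_equiv _ e.toEquiv
  obtain ⟨φ, hφinj, hφx, hφy⟩ := exists_injective_hom hMo hcard hG.data
  let ι : ↥S →* G := φ.comp e.toMonoidHom
  have hinj : Function.Injective ι := hφinj.comp e.injective
  have hrange : Nat.card ι.range = 2 ^ (t + 1) := by
    rw [← Nat.card_congr (MonoidHom.ofInjective hinj).toEquiv, Nat.card_congr e.toEquiv, hcard, hN,
      pow_succ, mul_comm]
  obtain ⟨r, hr, hGcard⟩ := hG.card
  have hGcard' : Nat.card G = 2 ^ (t + 1) * r := by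
    rw [hGcard, hN, pow_succ]
    ring
  obtain ⟨T, hT⟩ := exists_sylow_of_card ι.range hr hGcard' hrange
  refine ⟨pullSystem ι hinj, pullSystem_isSaturated ι hinj T hT, ?_⟩
  have hr' := pullSystem_isRealizedBy ι hinj
  let a : ↥S := e.symm (x ^ k)
  let b : ↥S := e.symm (x ^ j * y)
  have hιa : ι a = X ^ k := by
    show φ (e (e.symm (x ^ k))) = X ^ k
    rw [MulEquiv.apply_symm_apply, map_pow, hφx]
  have hιb : ι b = X ^ j * Y := by
    show φ (e (e.symm (x ^ j * y))) = X ^ j * Y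
    rw [MulEquiv.apply_symm_apply, map_mul, map_pow, hφx, hφy]
  have h1 : b * a * b⁻¹ = a⁻¹ := by
    apply hinj
    rw [map_mul, map_mul, map_inv, map_inv, hιa, hιb]
    exact hG.inv
  have h2 : b * b = a * a := by
    apply hinj
    rw [map_mul, map_mul, hιa, hιb]
    exact hG.sq
  have h3 : a ≠ 1 := by
    intro h
    apply hG.ne_one
    rw [← hιa, h, map_one]
  apply not_chain_of_fused (F := pullSystem ι hinj) a.2 b.2
  · exact congrArg Subtype.val h1
  · exact congrArg Subtype.val h2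
  · intro h
    exact h3 (Subtype.ext h)
  · obtain ⟨g, hg⟩ := hG.conj1
    refine isConjElt_of_conj hr' a.2 b.2 g ?_
    rw [J_coe, J_coe, hιa, hιb]
    exact hg
  · obtain ⟨g, hg⟩ := hG.conj2
    have hmem : ((a : Ω))⁻¹ * (b : Ω) ∈ S := S.mul_mem (S.inv_mem a.2) b.2
    refine isConjElt_of_conj hr' hmem a.2 g ?_
    have : ((a : Ω))⁻¹ * (b : Ω) = ((a⁻¹ * b : ↥S) : Ω) := rfl
    rw [this, J_coe, J_coe, map_mul, map_inv, hιa, hιb]
    exact hg

/-! ### The three models -/

theorem twoGen_dihedral (n : ℕ) (hn : 0 < n) :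
    TwoGenData (DihedralGroup n) n (n - 1) 0 (DihedralGroup.r 1) (DihedralGroup.sr 0) := by
  refine ⟨DihedralGroup.orderOf_r_one, hn, ?_, ?_, ?_⟩
  · intro h
    obtain ⟨k, hk⟩ := Subgroup.mem_zpowers_iff.1 h
    rw [DihedralGroup.r_one_zpow] at hk
    cases hk
  · rw [DihedralGroup.inv_sr, DihedralGroup.sr_mul_r, DihedralGroup.sr_mul_sr,
      DihedralGroup.r_one_pow]
    congr 1
    rw [Nat.cast_sub hn, Nat.cast_one, ZMod.natCast_self]
    ring
  · rw [DihedralGroup.sr_mul_sr, pow_zero, sub_self, DihedralGroup.r_zero]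

theorem twoGen_quaternion (n : ℕ) (hn : 0 < n) :
    TwoGenData (QuaternionGroup n) (2 * n) (2 * n - 1) n (QuaternionGroup.a 1) (QuaternionGroup.xa 0) := by
  refine ⟨QuaternionGroup.orderOf_a_one, by omega, ?_, ?_, ?_⟩
  · intro h
    obtain ⟨k, hk⟩ := Subgroup.mem_zpowers_iff.1 h
    have h1 : ∀ k : ℤ, ∃ i, (QuaternionGroup.a 1 : QuaternionGroup n) ^ k = QuaternionGroup.a i := by
      intro k
      induction k using Int.induction_on with
      | zero => exact ⟨0, by rw [zpow_zero, QuaternionGroup.a_zero]⟩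
      | succ i ih =>
        obtain ⟨i', hi'⟩ := ih
        exact ⟨i' + 1, by rw [zpow_add_one, hi', QuaternionGroup.a_mul_a]⟩
      | pred i ih =>
        obtain ⟨i', hi'⟩ := ih
        refine ⟨i' - 1, ?_⟩
        rw [zpow_sub_one, hi']
        have : (QuaternionGroup.a 1 : QuaternionGroup n)⁻¹ = QuaternionGroup.a (-1) := rfl
        rw [this, QuaternionGroup.a_mul_a]
        congr 1
        ring
    obtain ⟨i, hi⟩ := h1 k
    rw [hi] at hk
    cases hk
  · have hinv : (QuaternionGroup.xa 0 : QuaternionGroup n)⁻¹ = QuaternionGroup.xa (n + 0) := rfl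
    rw [hinv, QuaternionGroup.xa_mul_a, QuaternionGroup.xa_mul_xa, QuaternionGroup.a_one_pow]
    congr 1
    have h2 : ((2 * n - 1 : ℕ) : ZMod (2 * n)) = -1 := by
      rw [Nat.cast_sub (by omega), Nat.cast_one, ZMod.natCast_self]
      ring
    have h3 : ((n : ZMod (2 * n)) + n) = 0 := by
      have : ((2 * n : ℕ) : ZMod (2 * n)) = 0 := ZMod.natCast_self _
      push_cast at this
      rw [← this]
      ring
    rw [h2]
    calc (n : ZMod (2 * n)) + (n + 0) - (0 + 1) = ((n : ZMod (2 * n)) + n) - 1 := by ring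
      _ = -1 := by rw [h3]; ring
  · rw [QuaternionGroup.xa_mul_xa, QuaternionGroup.a_one_pow]
    congr 1
    ring

theorem twoGen_quasiDihedral {S : Type*} [Group S] {n : ℕ} (hn : 3 ≤ n) {x y : S}
    (hx : orderOf x = 2 ^ n) (hy : orderOf y = 2) (hc : y * x * y⁻¹ = x ^ (2 ^ (n - 1) - 1)) :
    TwoGenData S (2 ^ n) (2 ^ (n - 1) - 1) 0 x y := by
  refine ⟨hx, by positivity, ?_, hc, ?_⟩
  · apply not_mem_zpowers_of_not_commute
    apply not_commute_of (m := n - 1) (by omega) ?_ hc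
    rw [hx]
    exact Nat.pow_le_pow_right (by norm_num) (by omega)
  · rw [pow_zero, ← sq, ← hy, pow_orderOf_eq_one]

/-! ### The three families -/

theorem noChain_dihedral {Ω : Type*} [Group Ω] {S : Subgroup Ω} [Finite S] {m : ℕ} (hm : 2 ≤ m)
    (e : ↥S ≃* DihedralGroup (2 ^ m)) : NoChain S := by
  obtain ⟨q, u, u', h⟩ := exists_arith hm
  haveI : Fact q.Prime := ⟨h.prime⟩
  obtain ⟨X, Y, hG⟩ := ambient_PGL h
  exact noChain_of_ambient e (twoGen_dihedral (2 ^ m) (by positivity)) DihedralGroup.nat_card rfl hG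

theorem noChain_quaternion {Ω : Type*} [Group Ω] {S : Subgroup Ω} [Finite S] {m : ℕ} (hm : 2 ≤ m)
    (e : ↥S ≃* QuaternionGroup (2 ^ (m - 1))) : NoChain S := by
  obtain ⟨q, u, u', h⟩ := exists_arith hm
  haveI : Fact q.Prime := ⟨h.prime⟩
  obtain ⟨X, Y, hG⟩ := ambient_SL h
  have h2 : 2 * 2 ^ (m - 1) = 2 ^ m := by
    rw [← pow_succ', Nat.sub_add_cancel (by omega)]
  haveI : NeZero (2 ^ (m - 1)) := ⟨by positivity⟩
  have hcard : Nat.card (QuaternionGroup (2 ^ (m - 1))) = 2 * 2 ^ m := by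
    rw [Nat.card_eq_fintype_card, QuaternionGroup.card, ← h2]
    ring
  have hdata := twoGen_quaternion (2 ^ (m - 1)) (by positivity)
  have hdata' : TwoGenData (QuaternionGroup (2 ^ (m - 1))) (2 ^ m) (2 ^ m - 1) (2 ^ (m - 1))
      (QuaternionGroup.a 1) (QuaternionGroup.xa 0) :=
    ⟨by rw [hdata.order, h2], by positivity, hdata.not_mem, by
      rw [hdata.conj]
      exact congrArg (fun t => (QuaternionGroup.a 1 : QuaternionGroup (2 ^ (m - 1))) ^ (t - 1)) h2,
      hdata.sq⟩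
  exact noChain_of_ambient e hdata' hcard rfl hG

theorem noChain_quasiDihedral {Ω : Type*} [Group Ω] {S : Subgroup Ω} [Finite S]
    (h : Cfsg.IsQuasiDihedral ↥S) : NoChain S := by
  obtain ⟨n, hn, hcard, x, y, hx, hy, hc⟩ := h
  obtain ⟨m, rfl⟩ : ∃ m, n = m + 1 := ⟨n - 1, by omega⟩
  have hm : 2 ≤ m := by omega
  obtain ⟨q, u, u', ha⟩ := exists_arith hm
  haveI : Fact q.Prime := ⟨ha.prime⟩
  obtain ⟨X, Y, hG⟩ := ambient_GL ha
  have hdata := twoGen_quasiDihedral hn hx hy hc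
  rw [Nat.add_sub_cancel] at hdata
  have hcard' : Nat.card ↥S = 2 * 2 ^ (m + 1) := by rw [hcard, pow_succ 2 (m + 1)]; ring
  exact noChain_of_ambient (MulEquiv.refl _) hdata hcard' rfl hG

end Cfsg.Agent.Lib.Helper87_NoChain
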