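import Mathlib
import Cfsg.Prelude.Def_FusionSystem
import Cfsg.Prelude.Def_Solvable
import Cfsg.Agent.Lib.Helper85_Fusion
import Cfsg.Agent.Lib.Helper85_GroupFusion
import Cfsg.Agent.Lib.Helper88_Model
import Cfsg.Agent.Lib.Helper88_QuotModel
import Cfsg.Agent.S5098
import Cfsg.Agent.S5091

/-!
The normalizer system of `F_P(G)` at a subgroup `Q ≤ P` is realized by `N_G(Q)`; when `N_P(Q)` is a
Sylow subgroup of `N_G(Q)` and `C_P(Q) ≤ Q`, the quotient of `N_G(Q)` by its largest normal
subgroup of order prime to `p` is a model (helper87).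
-/

set_option autoImplicit false

namespace Cfsg.Agent.Lib.Helper87_NormModel

open Cfsg Cfsg.FusionSystem Cfsg.Agent.Lib.Helper85_Fusion Cfsg.Agent.Lib.Helper85_GroupFusion

universe u

variable {G : Type u} [Group G]

/-- The inclusion of `N_P(Q)` in `N_G(Q)`. -/
def incl (P Q : Subgroup G) : ↥(normalizerIn P Q) →* ↥(Subgroup.normalizer (Q : Set G)) :=
  Subgroup.inclusion inf_le_right

theorem incl_coe (P Q : Subgroup G) (x : ↥(normalizerIn P Q)) : ((incl P Q x : _) : G) = x := rfl

theorem incl_injective (P Q : Subgroup G) : Function.Injective (incl P Q) :=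
  Subgroup.inclusion_injective _

theorem range_incl (P Q : Subgroup G) :
    (incl P Q).range = (normalizerIn P Q).subgroupOf (Subgroup.normalizer (Q : Set G)) := by
  ext x
  rw [Subgroup.mem_subgroupOf]
  constructor
  · rintro ⟨y, rfl⟩
    exact y.2
  · intro hx
    exact ⟨⟨(x : G), hx⟩, Subtype.ext rfl⟩

/-- The normalizer system of `F_P(G)` at `Q` is realized by `N_G(Q)`. -/
theorem isRealizedBy_incl {P Q : Subgroup G} (hQP : Q ≤ P) (N : FusionSystem (normalizerIn P Q))
    (hN : (groupFusionSystem P).IsNormalizerSystem Q N) : N.IsRealizedBy (incl P Q) := by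
  refine ⟨incl_injective P Q, fun A hA φ hφ => ?_⟩
  rw [hN A]
  constructor
  · rintro ⟨-, -, -, ψ, ⟨-, -, g, hg⟩, hext, himg⟩
    have hgN : g ∈ Subgroup.normalizer (Q : Set G) := by
      rw [Subgroup.mem_normalizer_iff]
      intro x
      constructor
      · intro hx
        have h1 : ψ ⟨x, le_sup_right (a := A) hx⟩ ∈ (Q.subgroupOf (A ⊔ Q)).map ψ :=
          ⟨⟨x, le_sup_right (a := A) hx⟩, Subgroup.mem_subgroupOf.2 hx, rfl⟩
        rw [himg, hg] at h1
        exact h1
      · intro hx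
        have h1 : g * x * g⁻¹ ∈ (Q.subgroupOf (A ⊔ Q)).map ψ := by rw [himg]; exact hx
        obtain ⟨y, hy, hyx⟩ := h1
        rw [hg] at hyx
        have h2 : (y : G) = x := by
          have := mul_left_cancel (mul_right_cancel hyx)
          exact this
        rw [← h2]
        exact Subgroup.mem_subgroupOf.1 hy
    refine ⟨⟨g, hgN⟩, fun x => ?_⟩
    apply Subtype.ext
    show φ x = g * (x : G) * g⁻¹
    rw [← hext x, hg]
    rfl
  · rintro ⟨g, hg⟩
    have hg' : ∀ x : A, φ x = (g : G) * (x : G) * (g : G)⁻¹ := by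
      intro x
      have := congrArg Subtype.val (hg x)
      exact this
    have hAP : A ≤ P := hA.trans inf_le_left
    have hφP : ∀ x : A, φ x ∈ P := fun x => (hφ x).1
    refine ⟨⟨hAP, hφP, (g : G), hg'⟩, hA, hφ, conjHom (A ⊔ Q) (g : G), ?_, ?_, ?_⟩
    · refine conjHom_mem_group (sup_le hAP hQP) (g : G) ?_
      rw [conjSub_sup]
      refine sup_le ?_ ?_
      · rintro _ ⟨x, hx, rfl⟩
        show (g : G) * x * (g : G)⁻¹ ∈ P
        rw [← hg' ⟨x, hx⟩]
        exact hφP _
      · rw [conjSub_eq_of_mem_normalizer g.2]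
        exact hQP
    · intro x
      exact (hg' x).symm
    · have h1 : (Q.subgroupOf (A ⊔ Q)).map (conjHom (A ⊔ Q) (g : G)) = conjSub (g : G) Q := by
        ext y
        constructor
        · rintro ⟨x, hx, rfl⟩
          exact conj_mem_conjSub (Subgroup.mem_subgroupOf.1 hx)
        · rintro ⟨x, hx, rfl⟩
          exact ⟨⟨x, le_sup_right (a := A) hx⟩, Subgroup.mem_subgroupOf.2 hx, rfl⟩
      rw [h1, conjSub_eq_of_mem_normalizer g.2]

/-- For `Q` centric with `N_P(Q)` a Sylow subgroup of `N_G(Q)`, the group `N_G(Q) / O_{p'}(N_G(Q))`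
is a model of the normalizer system of `F_P(G)` at `Q`. -/
theorem isModel_normalizer_quotient [Finite G] {p : ℕ} [Fact p.Prime] {P Q : Subgroup G}
    (hQP : Q ≤ P)
    (hsyl : IsSylowIn p (normalizerIn P Q) (Subgroup.normalizer (Q : Set G)))
    (hcen : centralizerIn P Q ≤ Q) (N : FusionSystem (normalizerIn P Q))
    (hN : (groupFusionSystem P).IsNormalizerSystem Q N) :
    N.IsModel p (↥(Subgroup.normalizer (Q : Set G)) ⧸
        pPrimeCore p ↥(Subgroup.normalizer (Q : Set G)))
      ((QuotientGroup.mk' (pPrimeCore p ↥(Subgroup.normalizer (Q : Set G)))).comp (incl P Q)) := by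
  have hQT : Q ≤ normalizerIn P Q := le_inf hQP Subgroup.le_normalizer
  refine Cfsg.Agent.Lib.Helper88_QuotModel.isModel_quotient_of_normal_centric N (incl P Q)
    (isRealizedBy_incl hQP N hN) ?_ hQT ?_ ?_
  · obtain ⟨R, hR⟩ := hsyl
    exact ⟨R, by rw [hR, range_incl]⟩
  · constructor
    rintro _ ⟨x, hx, rfl⟩ g
    have hxQ : (x : G) ∈ Q := Subgroup.mem_subgroupOf.1 hx
    have hgx : (g : G) * (x : G) * (g : G)⁻¹ ∈ Q :=
      (Subgroup.mem_normalizer_iff.1 g.2 _).1 hxQ
    refine ⟨⟨(g : G) * (x : G) * (g : G)⁻¹, hQT hgx⟩, Subgroup.mem_subgroupOf.2 hgx, ?_⟩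
    exact Subtype.ext rfl
  · intro x hx
    exact hcen ⟨hx.1.1, hx.2⟩

/-- The normalizer system of a fully normalized centric subgroup of `F_P(G)` is constrained. -/
theorem isConstrained_normalizerSystem [Finite G] {p : ℕ} [Fact p.Prime] (P : Sylow p G)
    {Q : Subgroup G} (hfn : (groupFusionSystem (P : Subgroup G)).IsFullyNormalized Q)
    (hc : (groupFusionSystem (P : Subgroup G)).IsCentric Q)
    (N : FusionSystem (normalizerIn (P : Subgroup G) Q))
    (hN : (groupFusionSystem (P : Subgroup G)).IsNormalizerSystem Q N) : N.IsConstrained p := by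
  have hsat := group_isSaturated P
  have hP : IsPGroup p (P : Subgroup G) := P.isPGroup'
  refine ⟨Cfsg.Agent.S5098.result p hP _ hsat Q hfn N hN, Q, ?_, ?_⟩
  · exact Cfsg.Agent.Lib.Helper88_Model.isNormal_of_isNormalizerSystem _ hfn.1 N hN
  · exact Cfsg.Agent.Lib.Helper88_Model.isCentric_of_isNormalizerSystem _ hc N hN

end Cfsg.Agent.Lib.Helper87_NormModel
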