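import Mathlib
import Cfsg.Agent.Lib.Helper87_OO2Defs
import Cfsg.Agent.Lib.Helper87_OO2Defs2
import Cfsg.Agent.Lib.Helper87_OO2Defs3
import Cfsg.Agent.Lib.Helper43_OO2_B1
import Cfsg.Agent.Lib.Helper73_OO2_J12F2aux
import Cfsg.Agent.Lib.Helper85_OO2_B2Zaux
import Cfsg.Agent.Lib.Helper61_OO2_BASEL
import Cfsg.Agent.Lib.Helper96_OO2_M2

set_option autoImplicit false

namespace Cfsg.Agent.Lib.Helper87_OO2_BaseW

open Module Cfsg.Agent.Lib.Helper94_OrthSmall Cfsg.Agent.Lib.Helper44_QuadClass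
  Cfsg.Agent.Lib.Helper14_OmegaSimple Cfsg.Agent.Lib.Helper38_MIODefs
  Cfsg.Agent.Lib.Helper95_OPDefs Cfsg.Agent.Lib.Helper95_OPBasic Cfsg.Agent.Lib.Helper48_OODefs
  Cfsg.Agent.Lib.Helper87_OO2Defs Cfsg.Agent.Lib.Helper85_OO2_RankOne

variable {F V : Type*} [Field F] [Fintype F] [AddCommGroup V] [Module F V] [FiniteDimensional F V]
  {X : Type*} [AddCommGroup X] [Module ℂ X] [FiniteDimensional ℂ X]

/-- OO2-B1 (verbatim), from `Helper43_OO2_B1.B1_of` and the OO2-M2 facts of the frame and of the swapped frame. -/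
theorem B1 (Q : QuadraticForm F V) (hq : 4 ≤ Fintype.card F) (hP : IsOddT Q 3)
    {v v' w0 w0' w1 w1' x : V} (fr : Frame3 Q v v' w0 w0' w1 w1' x)
    [DecidableEq ↥(perp Q v v')] (ρ : Representation ℂ ↥(T Q) X) (ψ : AddChar F ℂ) (hψ : ψ ≠ 1)
    (hint : DirectSum.IsInternal (fun u : ↥(perp Q v v') => wsp Q ρ ψ v v' u))
    (f : ℕ) (hW : WData Q ρ ψ v v' 1 f) (y : X) (hy : y ∈ F2sp Q ρ v v' w0 w0') (s : F) :
    repE Q ρ (E Q w1 (s • x)) y = y ∧ repE Q ρ (E Q w1' (s • x)) y = y := by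
  have hQ := hP.nondeg
  have hdim : 5 ≤ finrank F V := by
    rw [hP.dim]
    norm_num
  have fr' := Cfsg.Agent.Lib.Helper43_OO2_B1.Frame3_swap Q fr
  exact Cfsg.Agent.Lib.Helper43_OO2_B1.B1_of Q hQ hdim fr ρ
    (Cfsg.Agent.Lib.Helper96_OO2_M2.F2_le_M2 Q fr ρ)
    (fun m hm => Cfsg.Agent.Lib.Helper96_OO2_M2.M2_n2 Q hP fr ρ m hm)
    (fun m hm s => Cfsg.Agent.Lib.Helper96_OO2_M2.M2_fix_x Q hq hP fr ρ ψ hψ hint f hW m hm s)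
    (Cfsg.Agent.Lib.Helper96_OO2_M2.F2_le_M2 Q fr' ρ)
    (fun m hm => Cfsg.Agent.Lib.Helper96_OO2_M2.M2_n2 Q hP fr' ρ m hm)
    (fun m hm s => Cfsg.Agent.Lib.Helper96_OO2_M2.M2_fix_x Q hq hP fr' ρ ψ hψ hint f hW m hm s)
    y hy s

/-- OO2-J12F2, first half (verbatim). -/
theorem J1_mem_F2_base (Q : QuadraticForm F V) (hP : IsOddT Q 3)
    {v v' w0 w0' w1 w1' x : V} (fr : Frame3 Q v v' w0 w0' w1 w1' x)
    (ρ : Representation ℂ ↥(T Q) X) (y : X) (hy : y ∈ F2sp Q ρ v v' w0 w0') :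
    Jop Q ρ v v' w0 w0' y ∈ F2sp Q ρ v v' w0 w0' := by
  have hQ := hP.nondeg
  have hdim : 5 ≤ finrank F V := by
    rw [hP.dim]
    norm_num
  exact Cfsg.Agent.Lib.Helper73_OO2_J12F2aux.J1_mem_F2_of Q hQ hdim fr.h01 ρ
    (Cfsg.Agent.Lib.Helper61_OO2_BASEL.fixL_W1_eq_top Q hP fr ρ) y hy

/-- OO2-J12F2, second half (verbatim). -/
theorem J2_mem_F2_base (Q : QuadraticForm F V) (hq : 4 ≤ Fintype.card F) (hP : IsOddT Q 3)
    {v v' w0 w0' w1 w1' x : V} (fr : Frame3 Q v v' w0 w0' w1 w1' x)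
    [DecidableEq ↥(perp Q v v')] (ρ : Representation ℂ ↥(T Q) X) (ψ : AddChar F ℂ) (hψ : ψ ≠ 1)
    (hint : DirectSum.IsInternal (fun u : ↥(perp Q v v') => wsp Q ρ ψ v v' u))
    (f : ℕ) (hW : WData Q ρ ψ v v' 1 f) (y : X) (hy : y ∈ F2sp Q ρ v v' w0 w0') :
    Jop Q ρ w0 w0' w1 w1' y ∈ F2sp Q ρ v v' w0 w0' := by
  have hQ := hP.nondeg
  have hdim : 5 ≤ finrank F V := by
    rw [hP.dim]
    norm_num
  exact Cfsg.Agent.Lib.Helper73_OO2_J12F2aux.J2_mem_F2_of Q hQ hdim fr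
    (Cfsg.Agent.Lib.Helper61_OO2_BASEL.W1_eq_span Q hP fr) ρ y hy
    (fun s => (B1 Q hq hP fr ρ ψ hψ hint f hW y hy s).1)

/-- OO2-B2Z, third statement (verbatim). -/
theorem h_sq_fix (Q : QuadraticForm F V) (hq : 4 ≤ Fintype.card F) (hP : IsOddT Q 3)
    {v v' w0 w0' w1 w1' x : V} (fr : Frame3 Q v v' w0 w0' w1 w1' x)
    [DecidableEq ↥(perp Q v v')] (ρ : Representation ℂ ↥(T Q) X) (ψ : AddChar F ℂ) (hψ : ψ ≠ 1)
    (hint : DirectSum.IsInternal (fun u : ↥(perp Q v v') => wsp Q ρ ψ v v' u))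
    (f : ℕ) (hW : WData Q ρ ψ v v' 1 f) (y : X) (hy : y ∈ F2sp Q ρ v v' w0 w0')
    (t : F) (ht : t ≠ 0) :
    repE Q ρ (hh Q v v' w0 w0' (t ^ 2)) y = y ∧ repE Q ρ (hh Q w0 w0' w1 w1' (t ^ 2)) y = y :=
  Cfsg.Agent.Lib.Helper85_OO2_B2Zaux.h_sq_fix_of Q hP fr ρ
    (fun y hy s => B1 Q hq hP fr ρ ψ hψ hint f hW y hy s)
    (fun y hy => J1_mem_F2_base Q hP fr ρ y hy)
    (fun y hy => J2_mem_F2_base Q hq hP fr ρ ψ hψ hint f hW y hy) y hy t ht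

end Cfsg.Agent.Lib.Helper87_OO2_BaseW
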