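import Mathlib
import Cfsg.Agent.Lib.Helper95_OPDefs
import Cfsg.Agent.Lib.Helper95_OPBasic
import Cfsg.Agent.Lib.Helper48_OODefs
import Cfsg.Agent.Lib.Helper87_OO2Defs
import Cfsg.Agent.Lib.Helper81_OO2_TORG

/-!
# S2344 wave 3 (cutter helper87), package OO2-REPREL (proof helper9)

The torus relations of OO2-TORG (helper81) at the level of `repE`.
-/

set_option autoImplicit false
set_option linter.unusedSectionVars false
set_option linter.unusedVariables false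

namespace Cfsg.Agent.Lib.Helper9_OO2_REPREL

open Module Cfsg.Agent.Lib.Helper94_OrthSmall Cfsg.Agent.Lib.Helper44_QuadClass
  Cfsg.Agent.Lib.Helper14_OmegaSimple Cfsg.Agent.Lib.Helper38_MIODefs
  Cfsg.Agent.Lib.Helper95_OPDefs Cfsg.Agent.Lib.Helper95_OPBasic Cfsg.Agent.Lib.Helper48_OODefs
  Cfsg.Agent.Lib.Helper87_OO2Defs

variable {F V : Type*} [Field F] [Fintype F] [AddCommGroup V] [Module F V] [FiniteDimensional F V]
  {X : Type*} [AddCommGroup X] [Module ℂ X] [FiniteDimensional ℂ X]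

theorem repE_h13_eq (Q : QuadraticForm F V) {a a' b b' c c' : V} (hab : HQuad Q a a' b b')
    (hac : HQuad Q a a' c c') (hbc : HQuad Q b b' c c') (ρ : Representation ℂ ↥(T Q) X)
    (t : F) (ht : t ≠ 0) :
    repE Q ρ (hh Q a a' c c' t) = repE Q ρ (hh Q a a' b b' t) * repE Q ρ (hh Q b b' c c' t) := by
  rw [← repE_mul Q ρ (hh_mem_T hab t) (hh_mem_T hbc t),
    ← Cfsg.Agent.Lib.Helper81_OO2_TORG.h13_eq hab hac hbc t ht]

theorem repE_h12_h23_comm (Q : QuadraticForm F V) {a a' b b' c c' : V} (hab : HQuad Q a a' b b')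
    (hac : HQuad Q a a' c c') (hbc : HQuad Q b b' c c') (ρ : Representation ℂ ↥(T Q) X)
    (s t : F) (hs : s ≠ 0) (ht : t ≠ 0) :
    repE Q ρ (hh Q a a' b b' s) * repE Q ρ (hh Q b b' c c' t) =
      repE Q ρ (hh Q b b' c c' t) * repE Q ρ (hh Q a a' b b' s) := by
  rw [← repE_mul Q ρ (hh_mem_T hab s) (hh_mem_T hbc t),
    ← repE_mul Q ρ (hh_mem_T hbc t) (hh_mem_T hab s),
    Cfsg.Agent.Lib.Helper81_OO2_TORG.h12_h23_comm hab hac hbc s t hs ht]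

theorem repE_h13_n1 (Q : QuadraticForm F V) {a a' b b' c c' : V} (hab : HQuad Q a a' b b')
    (hac : HQuad Q a a' c c') (hbc : HQuad Q b b' c c') (ρ : Representation ℂ ↥(T Q) X)
    (t : F) (ht : t ≠ 0) :
    repE Q ρ (hh Q a a' c c' t) * repE Q ρ (nw Q a a' b b' 1) =
      repE Q ρ (nw Q a a' b b' 1) * repE Q ρ (hh Q b b' c c' t) := by
  rw [← repE_mul Q ρ (hh_mem_T hac t) (nw_mem_T hab 1),
    ← repE_mul Q ρ (nw_mem_T hab 1) (hh_mem_T hbc t),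
    Cfsg.Agent.Lib.Helper81_OO2_TORG.h13_n1 hab hac hbc t ht]

theorem repE_h23_n1 (Q : QuadraticForm F V) {a a' b b' c c' : V} (hab : HQuad Q a a' b b')
    (hac : HQuad Q a a' c c') (hbc : HQuad Q b b' c c') (ρ : Representation ℂ ↥(T Q) X)
    (t : F) (ht : t ≠ 0) :
    repE Q ρ (hh Q b b' c c' t) * repE Q ρ (nw Q a a' b b' 1) =
      repE Q ρ (nw Q a a' b b' 1) * repE Q ρ (hh Q a a' c c' t) := by
  rw [← repE_mul Q ρ (hh_mem_T hbc t) (nw_mem_T hab 1),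
    ← repE_mul Q ρ (nw_mem_T hab 1) (hh_mem_T hac t),
    Cfsg.Agent.Lib.Helper81_OO2_TORG.h23_n1 hab hac hbc t ht]

theorem repE_h13_n2 (Q : QuadraticForm F V) {a a' b b' c c' : V} (hab : HQuad Q a a' b b')
    (hac : HQuad Q a a' c c') (hbc : HQuad Q b b' c c') (ρ : Representation ℂ ↥(T Q) X)
    (t : F) (ht : t ≠ 0) :
    repE Q ρ (hh Q a a' c c' t) * repE Q ρ (nw Q b b' c c' 1) =
      repE Q ρ (nw Q b b' c c' 1) * repE Q ρ (hh Q a a' b b' t) := by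
  rw [← repE_mul Q ρ (hh_mem_T hac t) (nw_mem_T hbc 1),
    ← repE_mul Q ρ (nw_mem_T hbc 1) (hh_mem_T hab t),
    Cfsg.Agent.Lib.Helper81_OO2_TORG.h13_n2 hab hac hbc t ht]

theorem repE_h12_n2 (Q : QuadraticForm F V) {a a' b b' c c' : V} (hab : HQuad Q a a' b b')
    (hac : HQuad Q a a' c c') (hbc : HQuad Q b b' c c') (ρ : Representation ℂ ↥(T Q) X)
    (t : F) (ht : t ≠ 0) :
    repE Q ρ (hh Q a a' b b' t) * repE Q ρ (nw Q b b' c c' 1) =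
      repE Q ρ (nw Q b b' c c' 1) * repE Q ρ (hh Q a a' c c' t) := by
  rw [← repE_mul Q ρ (hh_mem_T hab t) (nw_mem_T hbc 1),
    ← repE_mul Q ρ (nw_mem_T hbc 1) (hh_mem_T hac t),
    Cfsg.Agent.Lib.Helper81_OO2_TORG.h12_n2 hab hac hbc t ht]

theorem repE_h13_x1 (Q : QuadraticForm F V) {a a' b b' c c' : V} (hab : HQuad Q a a' b b')
    (hac : HQuad Q a a' c c') (hbc : HQuad Q b b' c c') (ρ : Representation ℂ ↥(T Q) X)
    (t s : F) (ht : t ≠ 0) :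
    repE Q ρ (hh Q a a' c c' t) * repE Q ρ (xr Q a b' s) =
      repE Q ρ (xr Q a b' (t * s)) * repE Q ρ (hh Q a a' c c' t) := by
  rw [← repE_mul Q ρ (hh_mem_T hac t) (xr_mem_T hab.pa.qa hab.pb.qa' hab.ab' s),
    ← repE_mul Q ρ (xr_mem_T hab.pa.qa hab.pb.qa' hab.ab' (t * s)) (hh_mem_T hac t),
    Cfsg.Agent.Lib.Helper81_OO2_TORG.h13_x1 hab hac hbc t s ht]

theorem repE_h23_x1 (Q : QuadraticForm F V) {a a' b b' c c' : V} (hab : HQuad Q a a' b b')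
    (hac : HQuad Q a a' c c') (hbc : HQuad Q b b' c c') (ρ : Representation ℂ ↥(T Q) X)
    (t s : F) (ht : t ≠ 0) :
    repE Q ρ (hh Q b b' c c' t) * repE Q ρ (xr Q a b' s) =
      repE Q ρ (xr Q a b' (t⁻¹ * s)) * repE Q ρ (hh Q b b' c c' t) := by
  rw [← repE_mul Q ρ (hh_mem_T hbc t) (xr_mem_T hab.pa.qa hab.pb.qa' hab.ab' s),
    ← repE_mul Q ρ (xr_mem_T hab.pa.qa hab.pb.qa' hab.ab' (t⁻¹ * s)) (hh_mem_T hbc t),
    Cfsg.Agent.Lib.Helper81_OO2_TORG.h23_x1 hab hac hbc t s ht]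

theorem repE_h12_x2 (Q : QuadraticForm F V) {a a' b b' c c' : V} (hab : HQuad Q a a' b b')
    (hac : HQuad Q a a' c c') (hbc : HQuad Q b b' c c') (ρ : Representation ℂ ↥(T Q) X)
    (t s : F) (ht : t ≠ 0) :
    repE Q ρ (hh Q a a' b b' t) * repE Q ρ (xr Q b c' s) =
      repE Q ρ (xr Q b c' (t⁻¹ * s)) * repE Q ρ (hh Q a a' b b' t) := by
  rw [← repE_mul Q ρ (hh_mem_T hab t) (xr_mem_T hbc.pa.qa hbc.pb.qa' hbc.ab' s),
    ← repE_mul Q ρ (xr_mem_T hbc.pa.qa hbc.pb.qa' hbc.ab' (t⁻¹ * s)) (hh_mem_T hab t),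
    Cfsg.Agent.Lib.Helper81_OO2_TORG.h12_x2 hab hac hbc t s ht]

theorem repE_h13_x2 (Q : QuadraticForm F V) {a a' b b' c c' : V} (hab : HQuad Q a a' b b')
    (hac : HQuad Q a a' c c') (hbc : HQuad Q b b' c c') (ρ : Representation ℂ ↥(T Q) X)
    (t s : F) (ht : t ≠ 0) :
    repE Q ρ (hh Q a a' c c' t) * repE Q ρ (xr Q b c' s) =
      repE Q ρ (xr Q b c' (t * s)) * repE Q ρ (hh Q a a' c c' t) := by
  rw [← repE_mul Q ρ (hh_mem_T hac t) (xr_mem_T hbc.pa.qa hbc.pb.qa' hbc.ab' s),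
    ← repE_mul Q ρ (xr_mem_T hbc.pa.qa hbc.pb.qa' hbc.ab' (t * s)) (hh_mem_T hac t),
    Cfsg.Agent.Lib.Helper81_OO2_TORG.h13_x2 hab hac hbc t s ht]

end Cfsg.Agent.Lib.Helper9_OO2_REPREL
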