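import Mathlib
import Cfsg.Agent.Lib.Helper48_OOThin
import Cfsg.Agent.Lib.Helper87_OO2Defs
import Cfsg.Agent.Lib.Helper87_OO2Defs2
import Cfsg.Agent.Lib.Helper87_OO2Defs3
import Cfsg.Agent.Lib.Helper85_OO2_RankOne
import Cfsg.Agent.Lib.Helper85_OO2_REL1
import Cfsg.Agent.Lib.Helper20_OO2_ARITHB
import Cfsg.Agent.Lib.Helper46_OO_ARITH
import Cfsg.Agent.Lib.Helper46_OO2_X0CARD
import Cfsg.Agent.Lib.Helper47_OO2_B2CORE
import Cfsg.Agent.Lib.Helper47_OO2_B4CORE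
import Cfsg.Agent.Lib.Helper48_OO2_NSGAPP
import Cfsg.Agent.Lib.Helper61_OO2_THETA
import Cfsg.Agent.Lib.Helper63_OO2_EXQ
import Cfsg.Agent.Lib.Helper64_OO2_GEN3B
import Cfsg.Agent.Lib.Helper70_OO2_CLSUM3
import Cfsg.Agent.Lib.Helper87_OO2_BaseW
import Cfsg.Agent.Lib.Helper95_OO2_INCL
import Cfsg.Agent.Lib.Helper96_OO2_M2
import Cfsg.Agent.Lib.Helper9_OO2_REPREL

set_option autoImplicit false

namespace Cfsg.Agent.Lib.Helper87_OO2_P3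

open Module Cfsg.Agent.Lib.Helper94_OrthSmall Cfsg.Agent.Lib.Helper44_QuadClass
  Cfsg.Agent.Lib.Helper14_OmegaSimple Cfsg.Agent.Lib.Helper38_MIODefs
  Cfsg.Agent.Lib.Helper95_OPDefs Cfsg.Agent.Lib.Helper95_OPBasic Cfsg.Agent.Lib.Helper48_OODefs
  Cfsg.Agent.Lib.Helper87_OO2Defs Cfsg.Agent.Lib.Helper85_OO2_RankOne

universe u

variable {F : Type*} [Field F] [Fintype F]

theorem bodd_three (q : ℕ) (hq : 2 ≤ q) : bodd q 3 = q ^ 4 + q ^ 2 + 1 := by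
  have h3 := Cfsg.Agent.Lib.Helper46_OO_ARITH.bodd_succ q 3 hq (by norm_num)
  have h2 := Cfsg.Agent.Lib.Helper46_OO_ARITH.bodd_succ q 2 hq (by norm_num)
  have h1 := Cfsg.Agent.Lib.Helper46_OO_ARITH.bodd_succ q 1 hq (by norm_num)
  have h0 : bodd q 0 = 0 := by
    unfold bodd
    simp
  norm_num at h3 h2 h1
  rw [h3, h2, h1, h0]
  ring

section common

variable {V : Type*} [AddCommGroup V] [Module F V] [FiniteDimensional F V]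
  {X : Type*} [AddCommGroup X] [Module ℂ X] [FiniteDimensional ℂ X]

/-- The common input of `p3` and `claim3`: if the torus acts trivially on `F_2` we get a contradiction. -/
theorem base_triv_false (hq : 4 ≤ Fintype.card F) (hodd : Odd (Fintype.card F))
    (Q : QuadraticForm F V) (hP : IsOddT Q 3)
    {v v' w0 w0' w1 w1' x : V} (fr : Frame3 Q v v' w0 w0' w1 w1' x)
    [DecidableEq ↥(perp Q v v')] (ρ : Representation ℂ ↥(T Q) X) (hirr : ρ.IsIrreducible)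
    (ψ : AddChar F ℂ) (hψ : ψ ≠ 1)
    (hint : DirectSum.IsInternal (fun u : ↥(perp Q v v') => wsp Q ρ ψ v v' u))
    (f : ℕ) (hW : WData Q ρ ψ v v' 1 f)
    (triv : ∀ a : F, a ≠ 0 → ∀ y ∈ F2sp Q ρ v v' w0 w0',
      repE Q ρ (hh Q v v' w0 w0' a) y = y ∧ repE Q ρ (hh Q w0 w0' w1 w1' a) y = y) : False := by
  classical
  have hQ := hP.nondeg
  have hdimV : finrank F V = 2 * 3 + 1 := hP.dim
  have hdim5 : 5 ≤ finrank F V := by omega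
  have hv := fr.h01.pa.qa
  have hv' := fr.h01.pa.qa'
  have hvv' := fr.h01.pa.aa'
  have hψp : ψ.IsPrimitive := AddChar.IsPrimitive.of_ne_one hψ
  obtain ⟨q, hqdef⟩ : ∃ q, q = Fintype.card F := ⟨_, rfl⟩
  -- the operators
  have R2 := Cfsg.Agent.Lib.Helper85_OO2_REL1.sl2Rel_repE ρ fr.h12
  have R1 := Cfsg.Agent.Lib.Helper85_OO2_REL1.sl2Rel_repE ρ fr.h01
  -- the dimension count
  have hX0 := Cfsg.Agent.Lib.Helper46_OO2_X0CARD.finrank_X0 Q 3 le_rfl hq hP fr.h01 ρ ψ hψ hint f hW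
  have hf : f = finrank ℂ ↥(X0sp Q ρ v v') := by
    rw [← hW.hf, Cfsg.Agent.Lib.Helper95_OO2_INCL.wsp_zero_eq_X0sp]
  have hD := hW.hD
  rw [card_sing_perp Q 3 (by norm_num) hP hv hv' hvv', one_mul] at hD
  -- `finrank F2 ≤ 1`
  have hF2 : finrank ℂ ↥(F2sp Q ρ v v' w0 w0') ≤ 1 := by
    refine Cfsg.Agent.Lib.Helper47_OO2_B4CORE.b4_core ψ hψp (fun s => repE Q ρ (xr Q w0 w1' s)) (repE Q ρ (nw Q w0 w0' w1 w1' 1))
      (fun a => repE Q ρ (hh Q v v' w0 w0' a)) (fun a => repE Q ρ (hh Q v v' w1 w1' a))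
      (fun a => repE Q ρ (hh Q w0 w0' w1 w1' a)) (F2sp Q ρ v v' w0 w0') (M2sp Q ρ v v' w0 w1) R2
      (fun a ha => Cfsg.Agent.Lib.Helper9_OO2_REPREL.repE_h13_eq Q fr.h01 fr.h02 fr.h12 ρ a ha)
      (fun a ha => Cfsg.Agent.Lib.Helper9_OO2_REPREL.repE_h12_n2 Q fr.h01 fr.h02 fr.h12 ρ a ha)
      (fun a s ha => Cfsg.Agent.Lib.Helper9_OO2_REPREL.repE_h12_x2 Q fr.h01 fr.h02 fr.h12 ρ a s ha)
      ?_ (Cfsg.Agent.Lib.Helper95_OO2_INCL.F2sp_le_fixX2 Q fr.h01 fr.h02 fr.h12 ρ) (Cfsg.Agent.Lib.Helper96_OO2_M2.F2_le_M2 Q fr ρ)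
      (fun m hm hfix => Cfsg.Agent.Lib.Helper96_OO2_M2.M2_fix Q hq hP fr ρ ψ hψ hint f hW m hm hfix)
      (fun s m hm => Cfsg.Agent.Lib.Helper96_OO2_M2.M2_x2 Q hP fr ρ s m hm) (fun m hm => Cfsg.Agent.Lib.Helper96_OO2_M2.M2_n2 Q hP fr ρ m hm)
      (fun a ha m hm => Cfsg.Agent.Lib.Helper96_OO2_M2.M2_h23 Q hP fr ρ a ha m hm)
      (fun c hc m hm m' hm' he he' h0 => Cfsg.Agent.Lib.Helper96_OO2_M2.M2_line Q hq hP fr ρ ψ hψ hint f hW c hc m m' hm hm' he he' h0)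
      triv ?_
    · intro a ha
      have := R1.h_mul a⁻¹ a (inv_ne_zero ha) ha
      rw [inv_mul_cancel₀ ha, R1.h_one] at this
      exact this.symm
    · intro y hy hn
      have hYy : y ∈ Ysp Q ρ v v' :=
        Cfsg.Agent.Lib.Helper64_OO2_GEN3B.Y_of_F2_n2 Q hP fr ρ y hy (fun s => Cfsg.Agent.Lib.Helper87_OO2_BaseW.B1 Q hq hP fr ρ ψ hψ hint f hW y hy s) hn
          (fun a ha => ⟨1, by rw [(triv a ha y hy).1, one_smul]⟩)
      exact Cfsg.Agent.Lib.Helper48_OO2_NSGAPP.Y_torus_fixed_eq_zero Q hq hP fr ρ hirr ψ hψ hint f hW y hYy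
        (fun a ha => (triv a ha y hy).1)
  -- the class sum
  have hq2 : 2 ≤ q := by omega
  have hpow : 1 ≤ q ^ 2 := Nat.one_le_pow _ _ (by omega)
  have hpow4 : 1 ≤ q ^ 4 := Nat.one_le_pow _ _ (by omega)
  have hq4 : 4 ≤ q := by omega
  have hq16 : 16 ≤ q ^ 2 := by nlinarith
  rw [← hqdef] at hX0 hD
  norm_num at hX0 hD
  have hf1 : 1 ≤ f := by omega
  have hcl := Cfsg.Agent.Lib.Helper70_OO2_CLSUM3.clsum3 Q hq hP hv hv' hvv' ρ hirr ψ hψ hint f hW hf1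
  rw [← hqdef] at hcl
  apply Cfsg.Agent.Lib.Helper20_OO2_ARITHB.arithB q (finrank ℂ X) (by omega) (by rw [hqdef]; exact hodd) ?_ hcl
  have hcases : finrank ℂ ↥(F2sp Q ρ v v' w0 w0') = 0 ∨ finrank ℂ ↥(F2sp Q ρ v v' w0 w0') = 1 := by
    omega
  rcases hcases with h0 | h1
  · right
    omega
  · left
    omega

end common

/-- **P(3)**: the base of both routes. -/
theorem p3 (hq : 4 ≤ Fintype.card F) (hodd : Odd (Fintype.card F))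
    {V : Type u} [AddCommGroup V] [Module F V] [FiniteDimensional F V]
    (Q : QuadraticForm F V) (hP : IsOddT Q 3) : MinDegT Q (bodd (Fintype.card F) 3) := by
  classical
  intro X _ _ _ ρ hirr h2
  by_contra hlt
  push Not at hlt
  have hQ := hP.nondeg
  have hdimV : finrank F V = 2 * 3 + 1 := hP.dim
  obtain ⟨v, hv0, hv⟩ := exists_singular Q (by omega)
  obtain ⟨v', hv', hvv'⟩ := exists_hyperbolic_partner Q hQ hv0 hv
  obtain ⟨ψ, hψ'⟩ := (AddChar.exists_apply_ne_zero (α := F) (a := (1 : F))).mpr one_ne_zero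
  have hψ : ψ ≠ 1 := fun h => hψ' (by rw [h]; rfl)
  obtain ⟨hint, f, hW, hD⟩ := Cfsg.Agent.Lib.Helper48_OOThin.wdata_one Q 3 le_rfl hq hP hv hv' hvv' ρ hirr h2 hlt ψ hψ
  have hvv : HPair Q v v' := ⟨hv, hv', hvv'⟩
  obtain ⟨w0, w0', h01⟩ := Cfsg.Agent.Lib.Helper63_OO2_EXQ.exists_HQuad Q 3 (by norm_num) hP hvv
  obtain ⟨w1, w1', x, fr⟩ := Cfsg.Agent.Lib.Helper63_OO2_EXQ.exists_Frame3 Q hP h01
  obtain ⟨q, hqdef⟩ : ∃ q, q = Fintype.card F := ⟨_, rfl⟩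
  have hq2 : 2 ≤ q := by omega
  have hpow : 1 ≤ q ^ 2 := Nat.one_le_pow _ _ (by omega)
  have hpow4 : 1 ≤ q ^ 4 := Nat.one_le_pow _ _ (by omega)
  -- `finrank F2 ≤ 2`
  have hX0 := Cfsg.Agent.Lib.Helper46_OO2_X0CARD.finrank_X0 Q 3 le_rfl hq hP fr.h01 ρ ψ hψ hint f hW
  have hf : f = finrank ℂ ↥(X0sp Q ρ v v') := by
    rw [← hW.hf, Cfsg.Agent.Lib.Helper95_OO2_INCL.wsp_zero_eq_X0sp]
  rw [← hqdef] at hlt hX0 hD
  rw [bodd_three q hq2] at hlt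
  norm_num at hX0 hD
  have hF2 : finrank ℂ ↥(F2sp Q ρ v v' w0 w0') ≤ 2 := by omega
  -- the torus is trivial on `F2`
  obtain ⟨a0, ha0, hθ0⟩ := Cfsg.Agent.Lib.Helper61_OO2_THETA.exists_thetaC_neg (F := F) hodd
  have R2 := Cfsg.Agent.Lib.Helper85_OO2_REL1.sl2Rel_repE ρ fr.h12
  have R1 := Cfsg.Agent.Lib.Helper85_OO2_REL1.sl2Rel_repE ρ fr.h01
  have triv := Cfsg.Agent.Lib.Helper47_OO2_B2CORE.b2_core a0 ha0
    (fun a ha => by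
      rcases Cfsg.Agent.Lib.Helper61_OO2_THETA.sq_or_nonsq hodd a0 ha0 hθ0 a ha with ⟨t, ht, h1, _⟩ | ⟨t, ht, h1, _⟩
      · exact Or.inl ⟨t, ht, h1⟩
      · exact Or.inr ⟨t, ht, h1⟩)
    (fun s => repE Q ρ (xr Q v w0' s)) (fun s => repE Q ρ (xr Q w0 w1' s))
    (repE Q ρ (nw Q v v' w0 w0' 1)) (repE Q ρ (nw Q w0 w0' w1 w1' 1))
    (fun a => repE Q ρ (hh Q v v' w0 w0' a)) (fun a => repE Q ρ (hh Q v v' w1 w1' a))
    (fun a => repE Q ρ (hh Q w0 w0' w1 w1' a)) (F2sp Q ρ v v' w0 w0') R1 R2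
    (fun a ha => Cfsg.Agent.Lib.Helper9_OO2_REPREL.repE_h13_eq Q fr.h01 fr.h02 fr.h12 ρ a ha)
    (fun a b ha hb => Cfsg.Agent.Lib.Helper9_OO2_REPREL.repE_h12_h23_comm Q fr.h01 fr.h02 fr.h12 ρ a b ha hb)
    (fun a ha => Cfsg.Agent.Lib.Helper9_OO2_REPREL.repE_h23_n1 Q fr.h01 fr.h02 fr.h12 ρ a ha)
    (fun a ha => Cfsg.Agent.Lib.Helper9_OO2_REPREL.repE_h12_n2 Q fr.h01 fr.h02 fr.h12 ρ a ha)
    (fun a s ha => Cfsg.Agent.Lib.Helper9_OO2_REPREL.repE_h23_x1 Q fr.h01 fr.h02 fr.h12 ρ a s ha)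
    (fun a s ha => Cfsg.Agent.Lib.Helper9_OO2_REPREL.repE_h12_x2 Q fr.h01 fr.h02 fr.h12 ρ a s ha)
    (Cfsg.Agent.Lib.Helper95_OO2_INCL.F2sp_le_fixX1 Q fr.h01 ρ) (Cfsg.Agent.Lib.Helper95_OO2_INCL.F2sp_le_fixX2 Q fr.h01 fr.h02 fr.h12 ρ)
    (fun a ha y hy => Cfsg.Agent.Lib.Helper95_OO2_INCL.F2sp_h12 Q hQ (by omega) fr.h01 ρ a ha y hy)
    (fun a ha y hy => Cfsg.Agent.Lib.Helper95_OO2_INCL.F2sp_h23 Q hQ (by omega) fr.h01 fr.h02 fr.h12 ρ a ha y hy)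
    (fun t ht y hy => Cfsg.Agent.Lib.Helper87_OO2_BaseW.h_sq_fix Q hq hP fr ρ ψ hψ hint f hW y hy t ht)
    (fun y hy => by
      rw [← Cfsg.Agent.Lib.Helper95_OO2_INCL.Jop_eq]
      exact Cfsg.Agent.Lib.Helper87_OO2_BaseW.J1_mem_F2_base Q hP fr ρ y hy)
    (fun y hy => by
      rw [← Cfsg.Agent.Lib.Helper95_OO2_INCL.Jop_eq]
      exact Cfsg.Agent.Lib.Helper87_OO2_BaseW.J2_mem_F2_base Q hq hP fr ρ ψ hψ hint f hW y hy)
    hF2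
  exact base_triv_false hq hodd Q hP fr ρ hirr ψ hψ hint f hW triv

end Cfsg.Agent.Lib.Helper87_OO2_P3
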