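import Mathlib
import Cfsg.Agent.Lib.Helper87_OO2_P3
import Cfsg.Agent.Lib.Helper29_OO2_M0
import Cfsg.Agent.Lib.Helper44_OO2_NOFIX
import Cfsg.Agent.Lib.Helper46_OO2_X0CARD
import Cfsg.Agent.Lib.Helper61_OO2_BASEL
import Cfsg.Agent.Lib.Helper61_OO2_THETA
import Cfsg.Agent.Lib.Helper63_OO2_EXQ
import Cfsg.Agent.Lib.Helper63_OO2_GEN3
import Cfsg.Agent.Lib.Helper64_OO2_GEN3B
import Cfsg.Agent.Lib.Helper73_OO2_STAB
import Cfsg.Agent.Lib.Helper7_OO2_B3CORE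
import Cfsg.Agent.Lib.Helper87_OO2_BaseW
import Cfsg.Agent.Lib.Helper95_OO2_INCL
import Cfsg.Agent.Lib.Helper96_OO2_M2
import Cfsg.Agent.Lib.Helper9_OO2_REPREL

set_option autoImplicit false

namespace Cfsg.Agent.Lib.Helper87_OO2_Claim3

open Module Cfsg.Agent.Lib.Helper94_OrthSmall Cfsg.Agent.Lib.Helper44_QuadClass
  Cfsg.Agent.Lib.Helper14_OmegaSimple Cfsg.Agent.Lib.Helper38_MIODefs
  Cfsg.Agent.Lib.Helper95_OPDefs Cfsg.Agent.Lib.Helper95_OPBasic Cfsg.Agent.Lib.Helper48_OODefs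
  Cfsg.Agent.Lib.Helper87_OO2Defs Cfsg.Agent.Lib.Helper85_OO2_RankOne
  Cfsg.Agent.Lib.Helper87_OO2_P3

universe u

variable {F : Type*} [Field F] [Fintype F]

/-- `CLAIM(3)` for a fixed frame. -/
theorem claim3_frame (hq : 4 ≤ Fintype.card F) (hodd : Odd (Fintype.card F))
    {V : Type*} [AddCommGroup V] [Module F V] [FiniteDimensional F V]
    (Q : QuadraticForm F V) (hP : IsOddT Q 3)
    {X : Type*} [AddCommGroup X] [Module ℂ X] [FiniteDimensional ℂ X]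
    (ρ : Representation ℂ ↥(T Q) X) (hirr : ρ.IsIrreducible) (ψ : AddChar F ℂ) (hψ : ψ ≠ 1)
    {v v' w0 w0' w1 w1' x : V} (fr : Frame3 Q v v' w0 w0' w1 w1' x)
    [DecidableEq ↥(perp Q v v')]
    (hint : DirectSum.IsInternal (fun u : ↥(perp Q v v') => wsp Q ρ ψ v v' u))
    (f : ℕ) (hW : WData Q ρ ψ v v' 1 f) :
    finrank ℂ X = bodd (Fintype.card F) 3 ∧ finrank ℂ ↥(Ysp Q ρ v v') = 1 ∧
      ∀ a : F, a ≠ 0 → ∀ y ∈ Ysp Q ρ v v', repE Q ρ (hh Q v v' w0 w0' a) y = thetaC a • y := by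
  classical
  have hQ := hP.nondeg
  have hdimV : finrank F V = 2 * 3 + 1 := hP.dim
  have hdim5 : 5 ≤ finrank F V := by omega
  have hdim7 : 7 ≤ finrank F V := by omega
  have hv := fr.h01.pa.qa
  have hv' := fr.h01.pa.qa'
  have hvv' := fr.h01.pa.aa'
  have hψp : ψ.IsPrimitive := AddChar.IsPrimitive.of_ne_one hψ
  obtain ⟨q, hqdef⟩ : ∃ q, q = Fintype.card F := ⟨_, rfl⟩
  have hq2 : 2 ≤ q := by omega
  have hq4 : 4 ≤ q := by omega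
  have hq16 : 16 ≤ q ^ 2 := by nlinarith
  have hpow4 : 1 ≤ q ^ 4 := Nat.one_le_pow _ _ (by omega)
  have h := fr.h01
  have h1 := fr.h02
  have h2 := fr.h12
  -- the dimension count
  have hX0 := Cfsg.Agent.Lib.Helper46_OO2_X0CARD.finrank_X0 Q 3 le_rfl hq hP fr.h01 ρ ψ hψ hint f hW
  have hf : f = finrank ℂ ↥(X0sp Q ρ v v') := by
    rw [← hW.hf, Cfsg.Agent.Lib.Helper95_OO2_INCL.wsp_zero_eq_X0sp]
  have hD := hW.hD
  rw [card_sing_perp Q 3 (by norm_num) hP hv hv' hvv', one_mul] at hD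
  rw [← hqdef] at hX0 hD
  norm_num at hX0 hD
  have hfr2 : 2 ≤ finrank ℂ X := by omega
  have hnofix : ∀ y : X, (∀ g : ↥(T Q), ρ g y = y) → y = 0 :=
    fun y hy => Cfsg.Agent.Lib.Helper44_OO2_NOFIX.nofix_of_irr ρ hirr hfr2 y hy
  by_cases triv : ∀ a : F, a ≠ 0 → ∀ y ∈ F2sp Q ρ v v' w0 w0',
      repE Q ρ (hh Q v v' w0 w0' a) y = y ∧ repE Q ρ (hh Q w0 w0' w1 w1' a) y = y
  · exact (base_triv_false hq hodd Q hP fr ρ hirr ψ hψ hint f hW triv).elim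
  · push Not at triv
    obtain ⟨a, ha, y, hy, hne⟩ := triv
    have hne' : repE Q ρ (hh Q v v' w0 w0' a) y ≠ y ∨ repE Q ρ (hh Q w0 w0' w1 w1' a) y ≠ y := by
      by_cases h12y : repE Q ρ (hh Q v v' w0 w0' a) y = y
      · exact Or.inr (hne h12y)
      · exact Or.inl h12y
    have R1 := Cfsg.Agent.Lib.Helper85_OO2_REL1.sl2Rel_repE ρ h
    have R2 := Cfsg.Agent.Lib.Helper85_OO2_REL1.sl2Rel_repE ρ h2
    obtain ⟨a0, ha0, hθ0⟩ := Cfsg.Agent.Lib.Helper61_OO2_THETA.exists_thetaC_neg (F := F) hodd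
    have hM0P : ∀ m : X, m ∈ M0sp Q ρ v v' w0 w0' ↔ m ∈ Psp Q ρ v v' w0 w0' := by
      intro m
      unfold M0sp Psp
      rw [Cfsg.Agent.Lib.Helper61_OO2_BASEL.fixL_W1_eq_top Q hP fr ρ, inf_top_eq]
    have hY2F2 : Y2sp Q ρ v v' w0 w0' = F2sp Q ρ v v' w0 w0' := by
      unfold Y2sp
      rw [Cfsg.Agent.Lib.Helper61_OO2_BASEL.fixL_W1_eq_top Q hP fr ρ, inf_top_eq]
    have hcore := Cfsg.Agent.Lib.Helper7_OO2_B3CORE.b3_core ψ hψp a0 ha0 hθ0 (Cfsg.Agent.Lib.Helper61_OO2_THETA.sq_or_nonsq hodd a0 ha0 hθ0)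
      (fun s => repE Q ρ (xr Q v w0' s)) (fun s => repE Q ρ (xr Q w0 w1' s))
      (repE Q ρ (nw Q v v' w0 w0' 1)) (repE Q ρ (nw Q w0 w0' w1 w1' 1))
      (fun a => repE Q ρ (hh Q v v' w0 w0' a)) (fun a => repE Q ρ (hh Q v v' w1 w1' a))
      (fun a => repE Q ρ (hh Q w0 w0' w1 w1' a))
      (Ysp Q ρ v v') (F2sp Q ρ v v' w0 w0') (M0sp Q ρ v v' w0 w0') (M2sp Q ρ v v' w0 w1) R1 R2
      (fun a ha => Cfsg.Agent.Lib.Helper9_OO2_REPREL.repE_h13_eq Q h h1 h2 ρ a ha)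
      (fun a b ha hb => Cfsg.Agent.Lib.Helper9_OO2_REPREL.repE_h12_h23_comm Q h h1 h2 ρ a b ha hb)
      (fun a ha => Cfsg.Agent.Lib.Helper9_OO2_REPREL.repE_h13_n1 Q h h1 h2 ρ a ha)
      (fun a ha => Cfsg.Agent.Lib.Helper9_OO2_REPREL.repE_h23_n1 Q h h1 h2 ρ a ha)
      (fun a ha => Cfsg.Agent.Lib.Helper9_OO2_REPREL.repE_h13_n2 Q h h1 h2 ρ a ha)
      (fun a ha => Cfsg.Agent.Lib.Helper9_OO2_REPREL.repE_h12_n2 Q h h1 h2 ρ a ha)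
      (fun a s ha => Cfsg.Agent.Lib.Helper9_OO2_REPREL.repE_h13_x1 Q h h1 h2 ρ a s ha)
      (fun a s ha => Cfsg.Agent.Lib.Helper9_OO2_REPREL.repE_h23_x1 Q h h1 h2 ρ a s ha)
      (fun a s ha => Cfsg.Agent.Lib.Helper9_OO2_REPREL.repE_h12_x2 Q h h1 h2 ρ a s ha)
      (fun a s ha => Cfsg.Agent.Lib.Helper9_OO2_REPREL.repE_h13_x2 Q h h1 h2 ρ a s ha)
      (Cfsg.Agent.Lib.Helper95_OO2_INCL.F2sp_le_fixX1 Q h ρ) (Cfsg.Agent.Lib.Helper95_OO2_INCL.F2sp_le_fixX2 Q h h1 h2 ρ)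
      (by rw [← hY2F2]; exact Cfsg.Agent.Lib.Helper29_OO2_M0.Y2_le_M0 Q h ρ) (Cfsg.Agent.Lib.Helper96_OO2_M2.F2_le_M2 Q fr ρ)
      (fun m hm hfix => by rw [← hY2F2]; exact Cfsg.Agent.Lib.Helper29_OO2_M0.M0_fix Q hQ hdim5 h ρ m hm hfix)
      (fun m hm hfix => Cfsg.Agent.Lib.Helper96_OO2_M2.M2_fix Q hq hP fr ρ ψ hψ hint f hW m hm hfix)
      (fun s y hy => Cfsg.Agent.Lib.Helper29_OO2_M0.M0_x1 Q hQ hdim5 h ρ s y hy)
      (fun y hy => Cfsg.Agent.Lib.Helper29_OO2_M0.M0_n1 Q hQ hdim5 h ρ y hy)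
      (fun a ha y hy => Cfsg.Agent.Lib.Helper29_OO2_M0.M0_h12 Q hQ hdim5 h ρ a ha y hy)
      (fun a ha y hy => Cfsg.Agent.Lib.Helper29_OO2_M0.M0_h23 Q hQ hdim5 h h1 h2 ρ a ha y hy)
      (fun s m hm => Cfsg.Agent.Lib.Helper96_OO2_M2.M2_x2 Q hP fr ρ s m hm) (fun m hm => Cfsg.Agent.Lib.Helper96_OO2_M2.M2_n2 Q hP fr ρ m hm)
      (fun a ha m hm => Cfsg.Agent.Lib.Helper96_OO2_M2.M2_h12 Q hP fr ρ a ha m hm)
      (fun a ha m hm => Cfsg.Agent.Lib.Helper96_OO2_M2.M2_h23 Q hP fr ρ a ha m hm)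
      (fun c hc m hm m' hm' he he' h0 => Cfsg.Agent.Lib.Helper29_OO2_M0.M0_line Q hQ hdim5 h ρ ψ f hW c hc m m' hm hm' he he' h0)
      (fun c hc m hm m' hm' he he' h0 => Cfsg.Agent.Lib.Helper96_OO2_M2.M2_line Q hq hP fr ρ ψ hψ hint f hW c hc m m' hm hm' he he' h0)
      (fun a ha y hy => Cfsg.Agent.Lib.Helper95_OO2_INCL.F2sp_h12 Q hQ hdim5 h ρ a ha y hy)
      (fun a ha y hy => Cfsg.Agent.Lib.Helper95_OO2_INCL.F2sp_h23 Q hQ hdim5 h h1 h2 ρ a ha y hy)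
      (fun t ht y hy => Cfsg.Agent.Lib.Helper87_OO2_BaseW.h_sq_fix Q hq hP fr ρ ψ hψ hint f hW y hy t ht)
      (by rw [← hY2F2]; exact Cfsg.Agent.Lib.Helper95_OO2_INCL.Ysp_le_Y2sp Q hQ hdim7 h ρ)
      (fun a ha y hy => Cfsg.Agent.Lib.Helper73_OO2_STAB.Ysp_h12 Q hQ hdim5 h ρ a ha y hy)
      (fun a ha y hy => Cfsg.Agent.Lib.Helper73_OO2_STAB.Ysp_h23 Q h h1 h2 ρ a ha y hy)
      (fun y hy hn he => Cfsg.Agent.Lib.Helper64_OO2_GEN3B.Y_of_F2_n2 Q hP fr ρ y hy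
        (fun s => Cfsg.Agent.Lib.Helper87_OO2_BaseW.B1 Q hq hP fr ρ ψ hψ hint f hW y hy s) hn he)
      (fun y hy hny => hnofix y (fun g => Cfsg.Agent.Lib.Helper63_OO2_GEN3.fixed_of_Y_n1 Q hQ hdim7 h ρ y hy hny g))
      ⟨a, ha, y, hy, hne'⟩
    refine ⟨?_, hcore.2.1, hcore.2.2⟩
    rw [← hqdef, bodd_three q hq2]
    have := hcore.1
    omega

/-- **The base** `CLAIM(3)`. -/
theorem claim3 (hq : 4 ≤ Fintype.card F) (hodd : Odd (Fintype.card F)) : Claim.{u, _} F 3 := by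
  intro V _ _ _ Q hP X _ _ _ ρ hirr ψ hψ v v' hvv _ hint f hW
  obtain ⟨w0, w0', h⟩ := Cfsg.Agent.Lib.Helper63_OO2_EXQ.exists_HQuad Q 3 (by norm_num) hP hvv
  obtain ⟨w1, w1', x, fr⟩ := Cfsg.Agent.Lib.Helper63_OO2_EXQ.exists_Frame3 Q hP h
  obtain ⟨c1, c2, _⟩ := claim3_frame hq hodd Q hP ρ hirr ψ hψ fr hint f hW
  refine ⟨c1, c2, ?_⟩
  intro u0 u0' hu a ha y hy
  obtain ⟨u1, u1', z, fr'⟩ := Cfsg.Agent.Lib.Helper63_OO2_EXQ.exists_Frame3 Q hP hu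
  exact (claim3_frame hq hodd Q hP ρ hirr ψ hψ fr' hint f hW).2.2 a ha y hy

end Cfsg.Agent.Lib.Helper87_OO2_Claim3
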