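import Mathlib
import Cfsg.Agent.Lib.Helper48_OOThin
import Cfsg.Agent.Lib.Helper87_OO2Defs
import Cfsg.Agent.Lib.Helper87_OO2Defs2
import Cfsg.Agent.Lib.Helper87_OO2Defs3
import Cfsg.Agent.Lib.Helper85_OO2_RankOne
import Cfsg.Agent.Lib.Helper85_OO2_REL1
import Cfsg.Agent.Lib.Helper46_OO_ARITH
import Cfsg.Agent.Lib.Helper29_OO2_M0
import Cfsg.Agent.Lib.Helper3_OO2_PSIB
import Cfsg.Agent.Lib.Helper44_OO2_NOFIX
import Cfsg.Agent.Lib.Helper48_OO2_IHAPP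
import Cfsg.Agent.Lib.Helper60_OO2_PSIA
import Cfsg.Agent.Lib.Helper61_OO2_THETA
import Cfsg.Agent.Lib.Helper63_OO2_EXQ
import Cfsg.Agent.Lib.Helper63_OO2_GEN3
import Cfsg.Agent.Lib.Helper73_OO2_STAB
import Cfsg.Agent.Lib.Helper85_OO2_STEPCORE
import Cfsg.Agent.Lib.Helper86_OO2_J2F2
import Cfsg.Agent.Lib.Helper95_OO2_INCL
import Cfsg.Agent.Lib.Helper9_OO2_REPREL

set_option autoImplicit false

namespace Cfsg.Agent.Lib.Helper87_OO2_Step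

open Module Cfsg.Agent.Lib.Helper94_OrthSmall Cfsg.Agent.Lib.Helper44_QuadClass
  Cfsg.Agent.Lib.Helper14_OmegaSimple Cfsg.Agent.Lib.Helper38_MIODefs
  Cfsg.Agent.Lib.Helper95_OPDefs Cfsg.Agent.Lib.Helper95_OPBasic Cfsg.Agent.Lib.Helper48_OODefs
  Cfsg.Agent.Lib.Helper87_OO2Defs Cfsg.Agent.Lib.Helper85_OO2_RankOne

universe u

variable {F : Type*} [Field F] [Fintype F]

/-- The core of the step for a fixed triple of hyperbolic pairs. -/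
theorem step_frame (hq : 4 ≤ Fintype.card F) (hodd : Odd (Fintype.card F)) (n : ℕ) (hn : 4 ≤ n)
    (IH : Claim.{u, _} F (n - 1))
    {V : Type u} [AddCommGroup V] [Module F V] [FiniteDimensional F V]
    (Q : QuadraticForm F V) (hP : IsOddT Q n)
    {X : Type} [AddCommGroup X] [Module ℂ X] [FiniteDimensional ℂ X]
    (ρ : Representation ℂ ↥(T Q) X) (hirr : ρ.IsIrreducible) (ψ : AddChar F ℂ) (hψ : ψ ≠ 1)
    {v v' w0 w0' w1 w1' : V} (h : HQuad Q v v' w0 w0') (h1 : HQuad Q v v' w1 w1')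
    (h2 : HQuad Q w0 w0' w1 w1') [DecidableEq ↥(perp Q v v')]
    (hint : DirectSum.IsInternal (fun u : ↥(perp Q v v') => wsp Q ρ ψ v v' u))
    (f : ℕ) (hW : WData Q ρ ψ v v' 1 f) :
    finrank ℂ X = bodd (Fintype.card F) n ∧ finrank ℂ ↥(Ysp Q ρ v v') = 1 ∧
      ∀ a : F, a ≠ 0 → ∀ y ∈ Ysp Q ρ v v', repE Q ρ (hh Q v v' w0 w0' a) y = thetaC a • y := by
  classical
  have hQ := hP.nondeg
  have hdimV : finrank F V = 2 * n + 1 := hP.dim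
  have hdim5 : 5 ≤ finrank F V := by omega
  have hdim7 : 7 ≤ finrank F V := by omega
  have hdim9 : 9 ≤ finrank F V := by omega
  have hv := h.pa.qa
  have hv' := h.pa.qa'
  have hvv' := h.pa.aa'
  have hψp : ψ.IsPrimitive := AddChar.IsPrimitive.of_ne_one hψ
  obtain ⟨q, hqdef⟩ : ∃ q, q = Fintype.card F := ⟨_, rfl⟩
  have hq2 : 2 ≤ q := by omega
  -- the degree
  have hD := hW.hD
  rw [card_sing_perp Q n (by omega) hP hv hv' hvv', one_mul, ← hqdef] at hD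
  have hpos : 2 ≤ q ^ (2 * (n - 1)) := by
    calc 2 ≤ q := hq2
      _ = q ^ 1 := (pow_one q).symm
      _ ≤ q ^ (2 * (n - 1)) := Nat.pow_le_pow_right (by omega) (by omega)
  -- no fixed vectors
  have hfr2 : 2 ≤ finrank ℂ X := by
    by_contra hcon
    push Not at hcon
    have hf0 : f = 0 := by omega
    have hX0 : finrank ℂ ↥(X0sp Q ρ v v') = 0 := by
      rw [← Cfsg.Agent.Lib.Helper95_OO2_INCL.wsp_zero_eq_X0sp Q ρ ψ, hW.hf, hf0]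
    have hih := Cfsg.Agent.Lib.Helper48_OO2_IHAPP.ih_apply Q n hn hq hP IH h h1 h2 ρ ψ hψ hint f hW
    have hpos1 : 1 ≤ bodd (Fintype.card F) (n - 1) := by
      rw [Cfsg.Agent.Lib.Helper46_OO_ARITH.bodd_succ _ (n - 1) (by omega) (by omega)]
      have : 1 ≤ Fintype.card F ^ (2 * (n - 1 - 1)) := Nat.one_le_pow _ _ (by omega)
      omega
    omega
  have hnofix : ∀ x : X, (∀ g : ↥(T Q), ρ g x = x) → x = 0 :=
    fun x hx => Cfsg.Agent.Lib.Helper44_OO2_NOFIX.nofix_of_irr ρ hirr hfr2 x hx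
  -- the induction hypothesis
  obtain ⟨ih1, ih2, ih3, ih4, ih5⟩ := Cfsg.Agent.Lib.Helper48_OO2_IHAPP.ih_apply Q n hn hq hP IH h h1 h2 ρ ψ hψ hint f hW
  -- the operators
  have R1 := Cfsg.Agent.Lib.Helper85_OO2_REL1.sl2Rel_repE ρ h
  have R2 := Cfsg.Agent.Lib.Helper85_OO2_REL1.sl2Rel_repE ρ h2
  obtain ⟨a0, ha0, hθ0⟩ := Cfsg.Agent.Lib.Helper61_OO2_THETA.exists_thetaC_neg (F := F) hodd
  have hcore := Cfsg.Agent.Lib.Helper85_OO2_STEPCORE.step_core ψ hψp a0 ha0 hθ0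
    (fun s => repE Q ρ (xr Q v w0' s)) (fun s => repE Q ρ (xr Q w0 w1' s))
    (repE Q ρ (nw Q v v' w0 w0' 1)) (repE Q ρ (nw Q w0 w0' w1 w1' 1))
    (fun a => repE Q ρ (hh Q v v' w0 w0' a)) (fun a => repE Q ρ (hh Q v v' w1 w1' a))
    (fun a => repE Q ρ (hh Q w0 w0' w1 w1' a))
    (Ysp Q ρ v v') (Ypsp Q ρ v v' w0 w0') (Y2sp Q ρ v v' w0 w0') (F2sp Q ρ v v' w0 w0')
    (Psisp Q ρ v v' w0 w0') (M0sp Q ρ v v' w0 w0') R1 R2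
    (fun a ha => Cfsg.Agent.Lib.Helper9_OO2_REPREL.repE_h13_eq Q h h1 h2 ρ a ha)
    (fun a b ha hb => Cfsg.Agent.Lib.Helper9_OO2_REPREL.repE_h12_h23_comm Q h h1 h2 ρ a b ha hb)
    (fun a ha => Cfsg.Agent.Lib.Helper9_OO2_REPREL.repE_h13_n1 Q h h1 h2 ρ a ha)
    (fun a ha => Cfsg.Agent.Lib.Helper9_OO2_REPREL.repE_h23_n1 Q h h1 h2 ρ a ha)
    (fun a ha => Cfsg.Agent.Lib.Helper9_OO2_REPREL.repE_h13_n2 Q h h1 h2 ρ a ha)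
    (fun a ha => Cfsg.Agent.Lib.Helper9_OO2_REPREL.repE_h12_n2 Q h h1 h2 ρ a ha)
    (fun a s ha => Cfsg.Agent.Lib.Helper9_OO2_REPREL.repE_h13_x1 Q h h1 h2 ρ a s ha)
    (fun a s ha => Cfsg.Agent.Lib.Helper9_OO2_REPREL.repE_h23_x1 Q h h1 h2 ρ a s ha)
    (fun a s ha => Cfsg.Agent.Lib.Helper9_OO2_REPREL.repE_h12_x2 Q h h1 h2 ρ a s ha)
    (fun a s ha => Cfsg.Agent.Lib.Helper9_OO2_REPREL.repE_h13_x2 Q h h1 h2 ρ a s ha)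
    (Cfsg.Agent.Lib.Helper95_OO2_INCL.Ysp_le_Y2sp Q hQ hdim7 h ρ) inf_le_left ih5 ih4 inf_le_left inf_le_left
    (Cfsg.Agent.Lib.Helper60_OO2_PSIA.Y2_inf_Psi Q hQ hdim5 h ρ) (Cfsg.Agent.Lib.Helper60_OO2_PSIA.F2_le_sup Q hQ hdim5 h ρ)
    (Cfsg.Agent.Lib.Helper95_OO2_INCL.F2sp_le_fixX1 Q h ρ) (Cfsg.Agent.Lib.Helper95_OO2_INCL.F2sp_le_fixX2 Q h h1 h2 ρ) (Cfsg.Agent.Lib.Helper29_OO2_M0.Y2_le_M0 Q h ρ)
    (fun m hm hfix => Cfsg.Agent.Lib.Helper29_OO2_M0.M0_fix Q hQ hdim5 h ρ m hm hfix)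
    (fun a ha y hy => Cfsg.Agent.Lib.Helper73_OO2_STAB.Ysp_h12 Q hQ hdim5 h ρ a ha y hy)
    (fun a ha y hy => Cfsg.Agent.Lib.Helper73_OO2_STAB.Ypsp_h12 Q hQ hdim5 h ρ a ha y hy)
    (fun a ha y hy => Cfsg.Agent.Lib.Helper73_OO2_STAB.Ypsp_h23 Q hQ hdim5 h h1 h2 ρ a ha y hy)
    (fun a ha y hy => Cfsg.Agent.Lib.Helper73_OO2_STAB.Psisp_h12 Q hQ hdim5 h ρ a ha y hy)
    (fun a ha y hy => Cfsg.Agent.Lib.Helper73_OO2_STAB.Psisp_h23 Q hQ hdim5 h h1 h2 ρ a ha y hy)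
    (fun a ha y hy => Cfsg.Agent.Lib.Helper29_OO2_M0.M0_h12 Q hQ hdim5 h ρ a ha y hy)
    (fun a ha y hy => Cfsg.Agent.Lib.Helper29_OO2_M0.M0_h23 Q hQ hdim5 h h1 h2 ρ a ha y hy)
    (fun y hy => Cfsg.Agent.Lib.Helper29_OO2_M0.M0_n1 Q hQ hdim5 h ρ y hy)
    (fun s y hy => Cfsg.Agent.Lib.Helper29_OO2_M0.M0_x1 Q hQ hdim5 h ρ s y hy)
    (fun y hy => by
      rw [← Cfsg.Agent.Lib.Helper95_OO2_INCL.Jop_eq]
      exact Cfsg.Agent.Lib.Helper86_OO2_J2F2.J2_mem_F2 Q hQ hdim9 h h1 h2 ρ y hy)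
    (fun a ha y hy => Cfsg.Agent.Lib.Helper73_OO2_STAB.Ysp_h23 Q h h1 h2 ρ a ha y hy)
    (fun a ha y hy => Cfsg.Agent.Lib.Helper3_OO2_PSIB.Psisp_fix_h12 Q n (by omega) hq hP h ρ ψ hψ hint f hW a ha y hy)
    ih2 ih3
    (fun y hy hny => hnofix y (fun g => Cfsg.Agent.Lib.Helper63_OO2_GEN3.fixed_of_Y_n1 Q hQ hdim7 h ρ y hy hny g))
    (fun c hc m hm m' hm' he he' h0 => Cfsg.Agent.Lib.Helper29_OO2_M0.M0_line Q hQ hdim5 h ρ ψ f hW c hc m m' hm hm' he he' h0)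
  refine ⟨?_, hcore.1, hcore.2⟩
  -- the degree
  have hf : f = finrank ℂ ↥(X0sp Q ρ v v') := by
    rw [← hW.hf, Cfsg.Agent.Lib.Helper95_OO2_INCL.wsp_zero_eq_X0sp]
  rw [hcore.1, ← hqdef] at ih1
  rw [← hqdef, Cfsg.Agent.Lib.Helper46_OO_ARITH.bodd_succ q n hq2 (by omega)]
  omega

/-- **The inductive step** `CLAIM(n-1) ⟹ CLAIM(n)`, `n ≥ 4`. -/
theorem step (hq : 4 ≤ Fintype.card F) (hodd : Odd (Fintype.card F)) (n : ℕ) (hn : 4 ≤ n)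
    (IH : Claim.{u, _} F (n - 1)) : Claim.{u, _} F n := by
  intro V _ _ _ Q hP X _ _ _ ρ hirr ψ hψ v v' hvv _ hint f hW
  obtain ⟨w0, w0', h⟩ := Cfsg.Agent.Lib.Helper63_OO2_EXQ.exists_HQuad Q n (by omega) hP hvv
  obtain ⟨w1, w1', h1, h2⟩ := Cfsg.Agent.Lib.Helper63_OO2_EXQ.exists_third Q n (by omega) hP h
  obtain ⟨c1, c2, _⟩ := step_frame hq hodd n hn IH Q hP ρ hirr ψ hψ h h1 h2 hint f hW
  refine ⟨c1, c2, ?_⟩
  intro u0 u0' hu a ha y hy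
  obtain ⟨u1, u1', hu1, hu2⟩ := Cfsg.Agent.Lib.Helper63_OO2_EXQ.exists_third Q n (by omega) hP hu
  exact (step_frame hq hodd n hn IH Q hP ρ hirr ψ hψ hu hu1 hu2 hint f hW).2.2 a ha y hy

end Cfsg.Agent.Lib.Helper87_OO2_Step
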