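import Cfsg.Agent.Lib.Helper87_PStableSys
import Cfsg.Agent.Lib.Helper87_Conj
import Cfsg.Agent.Lib.Helper87_GTMain
import Cfsg.Agent.Lib.Helper87_PInner
import Cfsg.Agent.Lib.Helper87_Alperin
import Cfsg.Agent.Lib.Helper72_FusWC2
import Cfsg.Agent.Lib.Helper84_KLBasic
import Cfsg.Agent.Lib.Helper84_FusionRS
import Cfsg.Agent.Lib.Helper84_FusionAlperin
import Cfsg.Agent.Lib.Helper85_Fusion

/-!
`p`-stability of a saturated fusion system is detected on the normalizer systems of the fully
normalized centric radical subgroups (helper87).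

`relAut F hQU`: the automorphisms of `Q ≤ U` that are restrictions of automorphisms of `U` in the
system.  Starting from `U = Q` one climbs `U ↦ U⁺` (helper72's `uplus`) along fully normalized
conjugates, the relative automizer only growing, until a centric radical subgroup is reached, where
the relative automizer is the automizer of `Q` in the normalizer system.
-/

set_option autoImplicit false

universe u

namespace Cfsg.Agent.Lib.Helper87_PStableFrc

open Cfsg Cfsg.FusionSystem Cfsg.Agent.Lib.Helper87_Alperin Cfsg.Agent.Lib.Helper87_PStableSys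
  Cfsg.Agent.Lib.Helper87_Conj Cfsg.Agent.Lib.Helper87_PInner Cfsg.Agent.Lib.Helper72_FusWC
  Cfsg.Agent.Lib.Helper85_Fusion

variable {Ω : Type u} [Group Ω] {S : Subgroup Ω}

/-- The automorphisms of `Q` that extend to automorphisms of `U ≥ Q` in the system. -/
def relAut (F : FusionSystem S) {Q U : Subgroup Ω} (hQU : Q ≤ U) : Subgroup (MulAut Q) where
  carrier := {χ | ∃ α ∈ F.autGroup U, ∀ x : Q,
    α (Subgroup.inclusion hQU x) = Subgroup.inclusion hQU (χ x)}
  one_mem' := ⟨1, Subgroup.one_mem _, fun _ => rfl⟩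
  mul_mem' := by
    rintro χ₁ χ₂ ⟨α₁, h₁, e₁⟩ ⟨α₂, h₂, e₂⟩
    exact ⟨α₁ * α₂, Subgroup.mul_mem _ h₁ h₂, fun x => by
      rw [MulAut.mul_apply, MulAut.mul_apply, e₂, e₁]⟩
  inv_mem' := by
    rintro χ ⟨α, h, e⟩
    refine ⟨α⁻¹, Subgroup.inv_mem _ h, fun x => ?_⟩
    have h1 := e (χ⁻¹ x)
    rw [MulAut.apply_inv_self] at h1
    rw [← h1, MulAut.inv_apply_self]

theorem relAut_self (F : FusionSystem S) (Q : Subgroup Ω) :
    relAut F (le_refl Q) = F.autGroup Q := by
  ext χ
  constructor
  · rintro ⟨α, hα, e⟩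
    have : α = χ := by
      ext x
      have := e x
      exact congrArg Subtype.val this
    rwa [← this]
  · intro hχ
    exact ⟨χ, hχ, fun x => rfl⟩

theorem relAut_le_autGroup (F : FusionSystem S) [Finite S] {Q U : Subgroup Ω} (hQU : Q ≤ U)
    (hUS : U ≤ S) : relAut F hQU ≤ F.autGroup Q := by
  rintro χ ⟨α, hα, e⟩
  have hQS : Q ≤ S := hQU.trans hUS
  rw [Cfsg.Agent.Lib.Helper87_Alperin.mem_autGroup_iff F hQS]
  have h1 : IsMapOn F U (extFun α) := (Cfsg.Agent.Lib.Helper87_Alperin.mem_autGroup_iff F hUS α).1 hα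
  refine (h1.mono hQU).congr fun x hx => ?_
  have h2 := congrArg Subtype.val (e ⟨x, hx⟩)
  rw [extFun_apply α (hQU hx), extFun_apply χ hx]
  exact h2

/-- The relative automizer grows when passing to `uplus`. -/
theorem relAut_le_uplus [Finite S] (F : FusionSystem S) {p : ℕ} [Fact p.Prime] (hS : IsPGroup p S)
    {Q U : Subgroup Ω} (hQU : Q ≤ U) (hUa : F.IsFullyAutomized p U) (hUr : F.IsReceptive U) :
    relAut F hQU ≤ relAut F (hQU.trans (le_uplus F hS hUr.1)) := by
  rintro χ ⟨α, hα, e⟩
  obtain ⟨a, ha, haU, haV⟩ := exists_extension_uplus F hUa hUr hα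
  obtain ⟨α', hα', hα'a⟩ := Cfsg.Agent.Lib.Helper84_KLBasic.exists_aut_of_isMapOn ha haV
  refine ⟨α', hα', fun x => ?_⟩
  apply Subtype.ext
  have hxU : (x : Ω) ∈ U := hQU x.2
  have hxV : (x : Ω) ∈ uplus F p U := le_uplus F hS hUr.1 hxU
  have h1 : ((α' (Subgroup.inclusion (hQU.trans (le_uplus F hS hUr.1)) x) : uplus F p U) : Ω) =
      extFun α' (x : Ω) := (extFun_apply α' hxV).symm
  rw [h1, hα'a _ hxV, haU _ hxU, extFun_apply α hxU]
  exact congrArg Subtype.val (e x)

/-- For `Q ≤ U ≤ S` the automizer of `Q` in the normalizer system of `U` is the relative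
automizer. -/
theorem autGroup_normalizerSystem_eq [Finite S] (F : FusionSystem S) {Q U : Subgroup Ω}
    (hQU : Q ≤ U) (hUS : U ≤ S) {N : FusionSystem (normalizerIn S U)}
    (hN : F.IsNormalizerSystem U N) : N.autGroup Q = relAut F hQU := by
  have hUT : U ≤ normalizerIn S U := le_normalizerIn hUS
  have hQT : Q ≤ normalizerIn S U := hQU.trans hUT
  have hsup : Q ⊔ U = U := sup_eq_right.2 hQU
  ext χ
  rw [Cfsg.Agent.Lib.Helper87_Alperin.mem_autGroup_iff N hQT, Cfsg.Agent.Lib.Helper87_GTMain.isMapOn_normalizerSystem_iff hN]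
  constructor
  · rintro ⟨-, -, -, g, hg, hgχ, hgU⟩
    rw [hsup] at hg
    have hgUU : ∀ x ∈ U, g x ∈ U := fun x hx => (hgU _).2 ⟨x, hx, rfl⟩
    obtain ⟨α, hα, hαg⟩ := Cfsg.Agent.Lib.Helper84_KLBasic.exists_aut_of_isMapOn hg hgUU
    refine ⟨α, hα, fun x => ?_⟩
    apply Subtype.ext
    have hxU : (x : Ω) ∈ U := hQU x.2
    have h1 : ((α (Subgroup.inclusion hQU x) : U) : Ω) = extFun α (x : Ω) :=
      (extFun_apply α hxU).symm
    rw [h1, hαg _ hxU, hgχ _ x.2, extFun_coe]
    rfl
  · rintro ⟨α, hα, e⟩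
    have h1 : IsMapOn F U (extFun α) := (Cfsg.Agent.Lib.Helper87_Alperin.mem_autGroup_iff F hUS α).1 hα
    have hαχ : ∀ x ∈ Q, extFun α x = extFun χ x := by
      intro x hx
      have h2 := congrArg Subtype.val (e ⟨x, hx⟩)
      rw [extFun_apply α (hQU hx), extFun_apply χ hx]
      exact h2
    refine ⟨(h1.mono hQU).congr hαχ, hQT, fun x hx => hQT (extFun_mem χ hx), extFun α, ?_, hαχ, ?_⟩
    · rw [hsup]
      exact h1
    · intro y
      constructor
      · intro hy
        refine ⟨extFun α⁻¹ y, extFun_mem α⁻¹ hy, ?_⟩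
        exact extFun_apply_inv α hy
      · rintro ⟨x, hx, rfl⟩
        exact extFun_mem α hx

/-- Quadratic elements of the relative automizers of the subgroups of `U` lie in `O_p`. -/
def GoodAt (p : ℕ) (F : FusionSystem S) (U : Subgroup Ω) : Prop :=
  ∀ (Q : Subgroup Ω) (hQU : Q ≤ U) (χ : MulAut Q), χ ∈ relAut F hQU → IsQuadAut χ →
    χ ∈ ((pCore p (relAut F hQU)).map (relAut F hQU).subtype : Subgroup (MulAut Q))

/-- Transport of the relative automizer along a map of the system. -/
theorem relAut_map_congr (F : FusionSystem S) {Q U : Subgroup Ω} (hQU : Q ≤ U) {φ : U →* Ω}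
    (hφ : φ ∈ F.Hom U)
    (hQ'U' : (φ.comp (Subgroup.inclusion hQU)).range ≤ φ.range) :
    (relAut F hQ'U').map
      (MulAut.congr (rangeEquiv F (restrict_mem F hφ hQU))).symm.toMonoidHom = relAut F hQU := by
  set eU := rangeEquiv F hφ with heU
  set eQ := rangeEquiv F (restrict_mem F hφ hQU) with heQ
  have K1 : ∀ z : Q, eU (Subgroup.inclusion hQU z) = Subgroup.inclusion hQ'U' (eQ z) :=
    fun z => Subtype.ext rfl
  have hmap := autGroup_map_congr F hφ
  apply le_antisymm
  · rintro _ ⟨χ', ⟨α', hα', e'⟩, rfl⟩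
    rw [← hmap] at hα'
    obtain ⟨α, hα, rfl⟩ := hα'
    refine ⟨α, hα, fun x => ?_⟩
    apply eU.injective
    rw [K1]
    have h1 := e' (eQ x)
    rw [← K1] at h1
    have h2 : (MulAut.congr eU).toMonoidHom α (eU (Subgroup.inclusion hQU x)) =
        eU (α (Subgroup.inclusion hQU x)) := by
      simp [MulAut.congr_apply]
    rw [h2] at h1
    rw [h1]
    congr 1
    show χ' (eQ x) = eQ ((MulAut.congr eQ).symm χ' x)
    simp [MulAut.congr_symm_apply]
  · rintro χ ⟨α, hα, e⟩
    refine ⟨MulAut.congr eQ χ, ⟨MulAut.congr eU α, ?_, ?_⟩, ?_⟩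
    · rw [← hmap]
      exact ⟨α, hα, rfl⟩
    · intro y
      obtain ⟨x, rfl⟩ := eQ.surjective y
      rw [← K1]
      have h2 : MulAut.congr eU α (eU (Subgroup.inclusion hQU x)) =
          eU (α (Subgroup.inclusion hQU x)) := by
        simp [MulAut.congr_apply]
      rw [h2, e x, K1]
      congr 1
      simp [MulAut.congr_apply]
    · show (MulAut.congr eQ).symm (MulAut.congr eQ χ) = χ
      exact MulEquiv.symm_apply_apply _ _

theorem goodAt_of_range (F : FusionSystem S) {p : ℕ} [Fact p.Prime] {U : Subgroup Ω} {φ : U →* Ω}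
    (hφ : φ ∈ F.Hom U) (h : GoodAt p F φ.range) : GoodAt p F U := by
  intro Q hQU χ hχ hq
  have hQ'U' : (φ.comp (Subgroup.inclusion hQU)).range ≤ φ.range := by
    rintro _ ⟨x, rfl⟩
    exact ⟨Subgroup.inclusion hQU x, rfl⟩
  have hmap := relAut_map_congr F hQU hφ hQ'U'
  set eQ := rangeEquiv F (restrict_mem F hφ hQU) with heQ
  -- the transported automorphism
  have hχ' : MulAut.congr eQ χ ∈ relAut F hQ'U' := by
    rw [← hmap] at hχ
    obtain ⟨χ', hχ', hχ'e⟩ := hχ
    have : MulAut.congr eQ χ = χ' := by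
      rw [← hχ'e]
      exact MulEquiv.apply_symm_apply _ _
    rwa [this]
  have h1 := h _ hQ'U' (MulAut.congr eQ χ) hχ' (isQuadAut_congr eQ hq)
  have h2 := pCoreIn_map_le (p := p) (MulAut.congr eQ).symm (relAut F hQ'U') (relAut F hQU) hmap
  have h3 : (MulAut.congr eQ).symm.toMonoidHom (MulAut.congr eQ χ) = χ :=
    MulEquiv.symm_apply_apply _ _
  rw [← h3]
  exact h2 ⟨_, h1, rfl⟩

section Main

variable [Finite S] {p : ℕ} [Fact p.Prime]

/-- The main induction: if the normalizer systems of the fully normalized centric radical subgroups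
are `p`-stable, every subgroup of `S` is good. -/
theorem goodAt_all (hS : IsPGroup p S) (F : FusionSystem S) (hF : F.IsSaturated p)
    (H : ∀ R : Subgroup Ω, F.IsFullyNormalized R → F.IsCentric R → F.IsRadical p R →
      ∀ N : FusionSystem (normalizerIn S R), F.IsNormalizerSystem R N → IsPStableSys p N) :
    ∀ (n : ℕ) (U : Subgroup Ω), U ≤ S → Nat.card S - Nat.card U = n → GoodAt p F U := by
  intro n
  induction n using Nat.strong_induction_on with
  | _ n ih =>
  intro U hUS hn
  obtain ⟨U', ⟨φ, hφ, rfl⟩, hfn⟩ :=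
    Cfsg.Agent.Lib.Helper84_FusionRS.exists_isFullyNormalized_conj F hUS
  apply goodAt_of_range F hφ
  set V : Subgroup Ω := φ.range with hV
  have hVS : V ≤ S := hfn.1
  have hVa : F.IsFullyAutomized p V :=
    Cfsg.Agent.Lib.Helper84_FusionRS.IsSaturated.isFullyAutomized hS hF hfn
  have hVr : F.IsReceptive V :=
    Cfsg.Agent.Lib.Helper84_FusionRS.IsSaturated.isReceptive_of_isFullyNormalized hS hF hfn
  have hfinU : Finite U := Cfsg.Agent.Lib.Helper84_FusionRS.finite_of_le_S hUS
  have hcardV : Nat.card V = Nat.card U :=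
    (Nat.card_congr (rangeEquiv F hφ).toEquiv).symm
  by_cases hplus : uplus F p V = V
  · -- centric and radical: the local hypothesis
    obtain ⟨hVc, hVrad⟩ := isCentric_isRadical_of_uplus_eq F hS hVa hVr hplus
    have hN := normalizerSystem_isNormalizerSystem F V hVS
    have hst := H V hfn hVc hVrad _ hN
    have hTS : normalizerIn S V ≤ S := inf_le_left
    have : Finite (normalizerIn S V) := Cfsg.Agent.Lib.Helper84_FusionRS.finite_of_le_S hTS
    intro Q hQV χ hχ hq
    have heq := autGroup_normalizerSystem_eq F hQV hVS hN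
    have hQT : Q ≤ normalizerIn S V := hQV.trans (le_normalizerIn hVS)
    have h1 := hst.all hQT (by rw [heq]; exact hχ) hq
    rw [heq] at h1
    exact h1
  · -- climb to `uplus`
    have hle : V ≤ uplus F p V := le_uplus F hS hVS
    have hlt : V < uplus F p V := lt_of_le_of_ne hle (Ne.symm hplus)
    have hWS : uplus F p V ≤ S := (uplus_le_normalizerIn F p V).trans inf_le_left
    have hc1 : Nat.card V < Nat.card (uplus F p V) :=
      Cfsg.Agent.Lib.Helper84_FusionAlperin.card_lt_card_of_lt hWS hlt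
    have hc2 : Nat.card (uplus F p V) ≤ Nat.card S :=
      Cfsg.Agent.Lib.Helper84_FusionAlperin.card_le_card_S hWS
    have hgood := ih (Nat.card S - Nat.card (uplus F p V)) (by omega) (uplus F p V) hWS rfl
    intro Q hQV χ hχ hq
    have hsub := relAut_le_uplus F hS hQV hVa hVr
    have h1 := hgood Q (hQV.trans hle) χ (hsub hχ) hq
    exact pCoreIn_inf_le hsub (Subgroup.mem_inf.2 ⟨h1, hχ⟩)

/-- A saturated system is `p`-stable as soon as the normalizer systems of its fully normalized
centric radical subgroups are. -/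
theorem isPStableSys_of_frc (hS : IsPGroup p S) (F : FusionSystem S) (hF : F.IsSaturated p)
    (H : ∀ R : Subgroup Ω, F.IsFullyNormalized R → F.IsCentric R → F.IsRadical p R →
      ∀ N : FusionSystem (normalizerIn S R), F.IsNormalizerSystem R N → IsPStableSys p N) :
    IsPStableSys p F := by
  intro Q hQ χ hχ hq
  have hgood := goodAt_all hS F hF H _ Q hQ.1 rfl
  have h1 := hgood Q (le_refl Q) χ (by rw [relAut_self]; exact hχ) hq
  rw [relAut_self] at h1
  exact h1

end Main

end Cfsg.Agent.Lib.Helper87_PStableFrc
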