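import Cfsg.Agent.Lib.Helper87_Conj
import Cfsg.Agent.Lib.Helper87_Henke
import Cfsg.Agent.Lib.Helper84_FusionRS
import Cfsg.Agent.Lib.Helper85_Fusion
import Cfsg.Agent.Lib.Helper88_Model

/-!
`p`-stable fusion systems (helper87).  A system is `p`-stable when every automorphism of a fully normalized subgroup
`Q` that acts quadratically on `Q` lies in `O_p(Aut(Q))`.  The condition is invariant under conjugation in the system,
so it holds for all subgroups, and it passes to every subsystem; the normalizer system of a fully normalized `Q` has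
the same automorphisms of `Q` as the system, and automorphisms of cyclic groups form an abelian group.
-/

set_option autoImplicit false
set_option linter.style.haveILetI false

universe u

namespace Cfsg.Agent.Lib.Helper87_PStableSys

open Cfsg Cfsg.FusionSystem Cfsg.Agent.Lib Cfsg.Agent.Lib.Helper87_Alperin Cfsg.Agent.Lib.Helper87_Alperin2
  Cfsg.Agent.Lib.Helper87_Conj Cfsg.Agent.Lib.Helper87_Henke

/-- The automorphism acts quadratically. -/
def IsQuadAut {Q : Type*} [Group Q] (χ : MulAut Q) : Prop :=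
  ∀ a : Q, (χ a⁻¹) * a * (χ a⁻¹) * (χ (χ a)) = 1

/-- The system is `p`-stable. -/
def IsPStableSys {Ω : Type u} [Group Ω] {T : Subgroup Ω} (p : ℕ) (E : FusionSystem T) : Prop :=
  ∀ Q : Subgroup Ω, E.IsFullyNormalized Q → ∀ χ : MulAut ↥Q, χ ∈ E.autGroup Q → IsQuadAut χ →
    χ ∈ ((Cfsg.pCore p ↥(E.autGroup Q)).map (E.autGroup Q).subtype : Subgroup (MulAut ↥Q))

theorem isQuadAut_congr {Q R : Type*} [Group Q] [Group R] (e : Q ≃* R) {χ : MulAut Q} (h : IsQuadAut χ) :
    IsQuadAut (MulAut.congr e χ) := by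
  intro b
  obtain ⟨a, rfl⟩ := e.surjective b
  have h1 : ∀ x : Q, (MulAut.congr e χ) (e x) = e (χ x) := by
    intro x
    simp [MulAut.congr_apply]
  rw [← map_inv, h1, h1, h1, ← map_mul, ← map_mul, ← map_mul, h a, map_one]

/-- The `p`-core of a subgroup `A`, viewed in the ambient group, meets a subgroup `B ≤ A` inside the `p`-core of
`B`. -/
theorem pCoreIn_inf_le {M : Type*} [Group M] {p : ℕ} [Fact p.Prime] {A B : Subgroup M} (hBA : B ≤ A) :
    (pCore p A).map A.subtype ⊓ B ≤ (pCore p B).map B.subtype := by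
  have hN : (((pCore p A).map A.subtype ⊓ B).subgroupOf B).Normal := by
    constructor
    rintro ⟨n, hnB⟩ hn ⟨b, hb⟩
    rw [Subgroup.mem_subgroupOf] at hn ⊢
    obtain ⟨⟨n₀, hn₀, hn₀n⟩, -⟩ := Subgroup.mem_inf.1 hn
    refine Subgroup.mem_inf.2 ⟨?_, B.mul_mem (B.mul_mem hb hnB) (B.inv_mem hb)⟩
    have hconj := (pCore_normal' (G := A) p).conj_mem n₀ hn₀ ⟨b, hBA hb⟩
    refine ⟨_, hconj, ?_⟩
    show b * (n₀ : M) * b⁻¹ = b * n * b⁻¹
    have : (n₀ : M) = n := hn₀n
    rw [this]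
  have hp : IsPGroup p (((pCore p A).map A.subtype ⊓ B).subgroupOf B) :=
    (((pCore_isPGroup' (G := A) p).map A.subtype).to_le inf_le_left).comap_subtype
  have hle := le_pCore' hN hp
  intro x hx
  exact ⟨⟨x, (Subgroup.mem_inf.1 hx).2⟩, hle (Subgroup.mem_subgroupOf.2 hx), rfl⟩

variable {Ω : Type u} [Group Ω] {S : Subgroup Ω}

/-- In a `p`-stable system the condition holds for every subgroup of `S`, fully normalized or not. -/
theorem IsPStableSys.all [Finite S] {p : ℕ} [Fact p.Prime] {F : FusionSystem S} (h : IsPStableSys p F)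
    {Q : Subgroup Ω} (hQS : Q ≤ S) {χ : MulAut ↥Q} (hχ : χ ∈ F.autGroup Q) (hq : IsQuadAut χ) :
    χ ∈ ((Cfsg.pCore p ↥(F.autGroup Q)).map (F.autGroup Q).subtype : Subgroup (MulAut ↥Q)) := by
  obtain ⟨Q', ⟨φ, hφ, rfl⟩, hfn⟩ := Cfsg.Agent.Lib.Helper84_FusionRS.exists_isFullyNormalized_conj F hQS
  have hmapK' := autGroup_map_congr F hφ
  have hmapK : (F.autGroup φ.range).map (MulAut.congr (rangeEquiv F hφ).symm).toMonoidHom =
      F.autGroup Q := by
    rw [← autGroup_map_congr F hφ, Subgroup.map_map]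
    have : (MulAut.congr (rangeEquiv F hφ).symm).toMonoidHom.comp
        (MulAut.congr (rangeEquiv F hφ)).toMonoidHom = MonoidHom.id _ := by
      ext γ y
      simp [MulAut.congr_apply]
    rw [this, Subgroup.map_id]
  have hχ' : MulAut.congr (rangeEquiv F hφ) χ ∈ F.autGroup φ.range := by
    rw [← hmapK']
    exact ⟨χ, hχ, rfl⟩
  have h1 := h φ.range hfn _ hχ' (isQuadAut_congr (rangeEquiv F hφ) hq)
  have h2 := pCoreIn_map_le (p := p) (MulAut.congr (rangeEquiv F hφ).symm) (F.autGroup φ.range)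
    (F.autGroup Q) hmapK
  have h3 := h2 ⟨_, h1, rfl⟩
  have h4 : (MulAut.congr (rangeEquiv F hφ).symm).toMonoidHom (MulAut.congr (rangeEquiv F hφ) χ) = χ := by
    ext y
    simp [MulAut.congr_apply]
  rwa [h4] at h3

/-- A subsystem of a `p`-stable system is `p`-stable. -/
theorem IsPStableSys.of_subsystem [Finite S] {p : ℕ} [Fact p.Prime] {F : FusionSystem S}
    (h : IsPStableSys p F) {T : Subgroup Ω} (hTS : T ≤ S) {E : FusionSystem T} (hE : E.IsSubsystemOf F) :
    IsPStableSys p E := by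
  intro Q hQ χ hχ hq
  have hQS : Q ≤ S := hQ.1.trans hTS
  have hle : E.autGroup Q ≤ F.autGroup Q := Subgroup.closure_mono (fun α hα => hE Q hα)
  exact pCoreIn_inf_le hle (Subgroup.mem_inf.2 ⟨h.all hQS (hle hχ) hq, hχ⟩)

/-- Automorphisms of a cyclic group commute. -/
theorem mulAut_comm_of_isCyclic {Q : Type*} [Group Q] [IsCyclic Q] (α β : MulAut Q) : α * β = β * α := by
  obtain ⟨g, hg⟩ := IsCyclic.exists_generator (α := Q)
  have hpow : ∀ γ : MulAut Q, ∃ n : ℤ, γ g = g ^ n := fun γ => by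
    obtain ⟨n, hn⟩ := Subgroup.mem_zpowers_iff.1 (hg (γ g))
    exact ⟨n, hn.symm⟩
  obtain ⟨m, hm⟩ := hpow α
  obtain ⟨n, hn⟩ := hpow β
  have h1 : (α * β) g = (β * α) g := by
    rw [MulAut.mul_apply, MulAut.mul_apply, hn, hm, map_zpow, map_zpow, hm, hn, ← zpow_mul, ← zpow_mul,
      mul_comm]
  ext x
  obtain ⟨k, rfl⟩ := Subgroup.mem_zpowers_iff.1 (hg x)
  rw [map_zpow, map_zpow, h1]

/-- A quadratic automorphism of a finite group has order dividing the order of the group. -/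
theorem pow_card_eq_one_of_isQuadAut {Q : Type*} [Group Q] [Finite Q]
    {χ : MulAut Q} (hq : IsQuadAut χ) : χ ^ Nat.card Q = 1 := by
  have hfix : ∀ a : Q, χ (a⁻¹ * χ a) = a⁻¹ * χ a := by
    intro a
    have h1 := hq a
    have h3 : (χ a)⁻¹ * a * (χ a)⁻¹ * χ (χ a) = 1 := by
      rw [← map_inv]
      exact h1
    have h4 : χ (χ a) = ((χ a)⁻¹ * a * (χ a)⁻¹)⁻¹ := eq_inv_of_mul_eq_one_right h3
    rw [map_mul, map_inv, h4]
    group
  have hpow : ∀ (n : ℕ) (a : Q), (χ ^ n) a = a * (a⁻¹ * χ a) ^ n := by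
    intro n
    induction n with
    | zero => intro a; simp
    | succ n ih =>
      intro a
      rw [pow_succ', MulAut.mul_apply, ih, map_mul, map_pow, hfix, pow_succ', ← mul_assoc, ← mul_assoc,
        mul_inv_cancel, one_mul]
  ext a
  rw [hpow, pow_card_eq_one', mul_one, MulAut.one_apply]

/-- For a cyclic `Q`, quadratic automorphisms in the system lie in the `p`-core of the automorphism group. -/
theorem mem_pCore_of_isCyclic {p : ℕ} [Fact p.Prime] (F : FusionSystem S) {Q : Subgroup Ω} [Finite Q]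
    (hQp : IsPGroup p Q) (hcyc : IsCyclic ↥Q) {χ : MulAut ↥Q} (hχ : χ ∈ F.autGroup Q) (hq : IsQuadAut χ) :
    χ ∈ ((Cfsg.pCore p ↥(F.autGroup Q)).map (F.autGroup Q).subtype : Subgroup (MulAut ↥Q)) := by
  have hpow := pow_card_eq_one_of_isQuadAut hq
  obtain ⟨k, hk⟩ := IsPGroup.iff_card.1 hQp
  set x : F.autGroup Q := ⟨χ, hχ⟩ with hx
  have hxpow : x ^ p ^ k = 1 := by
    apply Subtype.ext
    rw [Subgroup.coe_pow, ← hk]
    exact hpow
  have hN : (Subgroup.zpowers x).Normal := by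
    constructor
    intro n hn g
    have : g * n * g⁻¹ = n := by
      apply Subtype.ext
      show (g : MulAut Q) * (n : MulAut Q) * (g : MulAut Q)⁻¹ = (n : MulAut Q)
      rw [mulAut_comm_of_isCyclic (g : MulAut Q) (n : MulAut Q), mul_assoc, mul_inv_cancel, mul_one]
    rw [this]
    exact hn
  have hp : IsPGroup p (Subgroup.zpowers x) := by
    rintro ⟨y, hy⟩
    obtain ⟨n, rfl⟩ := Subgroup.mem_zpowers_iff.1 hy
    refine ⟨k, Subtype.ext ?_⟩
    show (x ^ n) ^ p ^ k = 1
    rw [← zpow_natCast, ← zpow_mul, mul_comm, zpow_mul, zpow_natCast, hxpow, one_zpow]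
  exact ⟨x, le_pCore' hN hp (Subgroup.mem_zpowers x), rfl⟩

end Cfsg.Agent.Lib.Helper87_PStableSys
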