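import Mathlib
import Cfsg.Prelude.Def_PLocal
import Cfsg.Prelude.Def_LocalEven
import Cfsg.Agent.S5299
import Cfsg.Agent.Lib.Helper34_NPC
import Cfsg.Agent.Lib.Helper46_Qd
import Cfsg.Agent.Lib.Helper46_Qd2
import Cfsg.Agent.Lib.Helper11_QdRecog
import Cfsg.Agent.Lib.Helper11_QdRecog2

/-!
Plane data for `Qd(p)` (helper87).

`PlaneData p L W ψ`: subgroups `W ≤ L` of a group, `L` normalizing `W`, a surjection `ψ` of `W` onto
the plane over the prime field, such that every matrix of determinant one is induced on the plane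
by conjugation with some element of `L`.  For `p` odd and `L` finite this forces `Qd(p)` to be
involved in `L` (`involves_qd_of_planeData`).
-/

set_option autoImplicit false

namespace Cfsg.Agent.Lib.Helper87_QdPlane

open Cfsg Matrix

variable {Γ : Type*} [Group Γ] {p : ℕ}

/-- `y` acts on the plane `W / ker ψ` as the matrix `A`. -/
def ActsOn (W : Subgroup Γ) (ψ : W →* Multiplicative (Fin 2 → ZMod p)) (y : Γ)
    (A : Matrix.SpecialLinearGroup (Fin 2) (ZMod p)) : Prop :=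
  ∀ (w : W) (hw : y * (w : Γ) * y⁻¹ ∈ W), ψ ⟨y * (w : Γ) * y⁻¹, hw⟩ =
    Multiplicative.ofAdd ((A : Matrix (Fin 2) (Fin 2) (ZMod p)).mulVec (Multiplicative.toAdd (ψ w)))

/-- Plane data for `Qd(p)`. -/
structure PlaneData (p : ℕ) (L W : Subgroup Γ) (ψ : W →* Multiplicative (Fin 2 → ZMod p)) :
    Prop where
  le : W ≤ L
  norm : ∀ y ∈ L, ∀ w ∈ W, y * w * y⁻¹ ∈ W
  surj : Function.Surjective ψ
  real : ∀ A : Matrix.SpecialLinearGroup (Fin 2) (ZMod p), ∃ y ∈ L, ActsOn W ψ y A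

theorem ActsOn.unique {W : Subgroup Γ} {ψ : W →* Multiplicative (Fin 2 → ZMod p)}
    (hψ : Function.Surjective ψ) {y : Γ} (hy : ∀ w ∈ W, y * w * y⁻¹ ∈ W)
    {A A' : Matrix.SpecialLinearGroup (Fin 2) (ZMod p)} (h : ActsOn W ψ y A)
    (h' : ActsOn W ψ y A') : A = A' := by
  apply Subtype.ext
  ext i j
  obtain ⟨w, hw⟩ := hψ (Multiplicative.ofAdd (Pi.single j 1))
  have h1 := (h w (hy w w.2)).symm.trans (h' w (hy w w.2))
  rw [hw] at h1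
  have h2 := congrArg Multiplicative.toAdd h1
  have h3 := congrFun h2 i
  simp only [toAdd_ofAdd, Matrix.mulVec_single_one, Matrix.col_apply] at h3
  exact h3

theorem ActsOn.one (W : Subgroup Γ) (ψ : W →* Multiplicative (Fin 2 → ZMod p)) :
    ActsOn W ψ 1 1 := by
  intro w hw
  have e : (⟨(1 : Γ) * (w : Γ) * (1 : Γ)⁻¹, hw⟩ : W) = w := Subtype.ext (by simp)
  rw [e]
  simp

theorem ActsOn.mul {W : Subgroup Γ} {ψ : W →* Multiplicative (Fin 2 → ZMod p)} {y₁ y₂ : Γ}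
    (hy₂ : ∀ w ∈ W, y₂ * w * y₂⁻¹ ∈ W)
    {A₁ A₂ : Matrix.SpecialLinearGroup (Fin 2) (ZMod p)} (h₁ : ActsOn W ψ y₁ A₁)
    (h₂ : ActsOn W ψ y₂ A₂) : ActsOn W ψ (y₁ * y₂) (A₁ * A₂) := by
  intro w hw
  have hw2 : y₂ * (w : Γ) * y₂⁻¹ ∈ W := hy₂ w w.2
  have e : y₁ * y₂ * (w : Γ) * (y₁ * y₂)⁻¹ = y₁ * (y₂ * (w : Γ) * y₂⁻¹) * y₁⁻¹ := by group
  have hw1 : y₁ * (y₂ * (w : Γ) * y₂⁻¹) * y₁⁻¹ ∈ W := by rw [← e]; exact hw
  have e' : (⟨y₁ * y₂ * (w : Γ) * (y₁ * y₂)⁻¹, hw⟩ : W) =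
      ⟨y₁ * ((⟨y₂ * (w : Γ) * y₂⁻¹, hw2⟩ : W) : Γ) * y₁⁻¹, hw1⟩ := Subtype.ext e
  rw [e', h₁ ⟨_, hw2⟩ hw1, h₂ w hw2, toAdd_ofAdd, Matrix.SpecialLinearGroup.coe_mul,
    Matrix.mulVec_mulVec]

theorem ActsOn.inv {W : Subgroup Γ} {ψ : W →* Multiplicative (Fin 2 → ZMod p)} {y : Γ}
    {A : Matrix.SpecialLinearGroup (Fin 2) (ZMod p)} (h : ActsOn W ψ y A) :
    ActsOn W ψ y⁻¹ A⁻¹ := by
  intro w hw
  have e : y * ((⟨y⁻¹ * (w : Γ) * y⁻¹⁻¹, hw⟩ : W) : Γ) * y⁻¹ = (w : Γ) := by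
    show y * (y⁻¹ * (w : Γ) * y⁻¹⁻¹) * y⁻¹ = w
    group
  have hw' : y * ((⟨y⁻¹ * (w : Γ) * y⁻¹⁻¹, hw⟩ : W) : Γ) * y⁻¹ ∈ W := by rw [e]; exact w.2
  have h1 := h ⟨_, hw⟩ hw'
  have e' : (⟨y * ((⟨y⁻¹ * (w : Γ) * y⁻¹⁻¹, hw⟩ : W) : Γ) * y⁻¹, hw'⟩ : W) = w := Subtype.ext e
  rw [e'] at h1
  rw [h1, toAdd_ofAdd, Matrix.mulVec_mulVec, ← Matrix.SpecialLinearGroup.coe_mul, inv_mul_cancel,
    Matrix.SpecialLinearGroup.coe_one, Matrix.one_mulVec, ofAdd_toAdd]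

/-- Elements of `W` act trivially on the plane. -/
theorem ActsOn.of_mem (W : Subgroup Γ) (ψ : W →* Multiplicative (Fin 2 → ZMod p)) {y : Γ}
    (hy : y ∈ W) : ActsOn W ψ y 1 := by
  intro w hw
  have e : (⟨y * (w : Γ) * y⁻¹, hw⟩ : W) = ⟨y, hy⟩ * w * (⟨y, hy⟩ : W)⁻¹ := Subtype.ext (by simp)
  rw [e, map_mul, map_mul, map_inv, mul_comm (ψ ⟨y, hy⟩), mul_assoc, mul_inv_cancel, mul_one]
  simp

/-- The elements normalizing `W` that act on the plane through a matrix of determinant one. -/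
def planeStab (W : Subgroup Γ) (ψ : W →* Multiplicative (Fin 2 → ZMod p)) : Subgroup Γ where
  carrier := {y | (∀ w ∈ W, y * w * y⁻¹ ∈ W) ∧ (∀ w ∈ W, y⁻¹ * w * y⁻¹⁻¹ ∈ W) ∧
    ∃ A, ActsOn W ψ y A}
  one_mem' := ⟨fun w hw => by simpa using hw, fun w hw => by simpa using hw, 1, ActsOn.one W ψ⟩
  mul_mem' := by
    rintro y₁ y₂ ⟨h₁, h₁', A₁, hA₁⟩ ⟨h₂, h₂', A₂, hA₂⟩
    refine ⟨fun w hw => ?_, fun w hw => ?_, A₁ * A₂, hA₁.mul h₂ hA₂⟩
    · have e : y₁ * y₂ * w * (y₁ * y₂)⁻¹ = y₁ * (y₂ * w * y₂⁻¹) * y₁⁻¹ := by group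
      rw [e]
      exact h₁ _ (h₂ w hw)
    · have e : (y₁ * y₂)⁻¹ * w * (y₁ * y₂)⁻¹⁻¹ = y₂⁻¹ * (y₁⁻¹ * w * y₁⁻¹⁻¹) * y₂⁻¹⁻¹ := by group
      rw [e]
      exact h₂' _ (h₁' w hw)
  inv_mem' := by
    rintro y ⟨h, h', A, hA⟩
    refine ⟨h', fun w hw => ?_, A⁻¹, hA.inv⟩
    rw [inv_inv]
    exact h w hw

/-- The elements normalizing `W` that act trivially on the plane. -/
def planeTriv (W : Subgroup Γ) (ψ : W →* Multiplicative (Fin 2 → ZMod p)) : Subgroup Γ where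
  carrier := {y | (∀ w ∈ W, y * w * y⁻¹ ∈ W) ∧ (∀ w ∈ W, y⁻¹ * w * y⁻¹⁻¹ ∈ W) ∧ ActsOn W ψ y 1}
  one_mem' := ⟨fun w hw => by simpa using hw, fun w hw => by simpa using hw, ActsOn.one W ψ⟩
  mul_mem' := by
    rintro y₁ y₂ ⟨h₁, h₁', hA₁⟩ ⟨h₂, h₂', hA₂⟩
    refine ⟨fun w hw => ?_, fun w hw => ?_, ?_⟩
    · have e : y₁ * y₂ * w * (y₁ * y₂)⁻¹ = y₁ * (y₂ * w * y₂⁻¹) * y₁⁻¹ := by group
      rw [e]
      exact h₁ _ (h₂ w hw)
    · have e : (y₁ * y₂)⁻¹ * w * (y₁ * y₂)⁻¹⁻¹ = y₂⁻¹ * (y₁⁻¹ * w * y₁⁻¹⁻¹) * y₂⁻¹⁻¹ := by group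
      rw [e]
      exact h₂' _ (h₁' w hw)
    · have := hA₁.mul h₂ hA₂
      rwa [one_mul] at this
  inv_mem' := by
    rintro y ⟨h, h', hA⟩
    refine ⟨h', fun w hw => ?_, ?_⟩
    · rw [inv_inv]
      exact h w hw
    · have := hA.inv
      rwa [inv_one] at this

theorem mem_planeStab_of_actsOn {W : Subgroup Γ} {ψ : W →* Multiplicative (Fin 2 → ZMod p)}
    {L : Subgroup Γ} (hnorm : ∀ y ∈ L, ∀ w ∈ W, y * w * y⁻¹ ∈ W) {y : Γ} (hy : y ∈ L)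
    {A : Matrix.SpecialLinearGroup (Fin 2) (ZMod p)} (hA : ActsOn W ψ y A) :
    y ∈ planeStab W ψ :=
  ⟨hnorm y hy, hnorm y⁻¹ (L.inv_mem hy), A, hA⟩

/-- The matrix of an element of `planeStab`. -/
noncomputable def planeHom (W : Subgroup Γ) (ψ : W →* Multiplicative (Fin 2 → ZMod p))
    (hψ : Function.Surjective ψ) :
    planeStab W ψ →* Matrix.SpecialLinearGroup (Fin 2) (ZMod p) where
  toFun y := Classical.choose y.2.2.2
  map_one' := ActsOn.unique hψ (1 : planeStab W ψ).2.1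
    (Classical.choose_spec (1 : planeStab W ψ).2.2.2) (ActsOn.one W ψ)
  map_mul' y₁ y₂ := ActsOn.unique hψ (y₁ * y₂).2.1 (Classical.choose_spec (y₁ * y₂).2.2.2)
    ((Classical.choose_spec y₁.2.2.2).mul y₂.2.1 (Classical.choose_spec y₂.2.2.2))

theorem planeHom_spec (W : Subgroup Γ) (ψ : W →* Multiplicative (Fin 2 → ZMod p))
    (hψ : Function.Surjective ψ) (y : planeStab W ψ) :
    ActsOn W ψ (y : Γ) (planeHom W ψ hψ y) := Classical.choose_spec y.2.2.2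

/-- Plane data in a finite group force `Qd(p)` to be involved in the group (`p` odd): the form
with the whole group as acting group. -/
theorem involves_qd_of_planeData_aux [Finite Γ] [Fact p.Prime] (hp : p ≠ 2) {L W : Subgroup Γ}
    {ψ : W →* Multiplicative (Fin 2 → ZMod p)} (h : PlaneData p L W ψ) :
    Cfsg.Involves ↥(Cfsg.qd p) Γ := by
  have hWL : W ≤ planeStab W ψ := fun w hw =>
    mem_planeStab_of_actsOn h.norm (h.le hw) (ActsOn.of_mem W ψ hw)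
  have hnorm : ∀ y ∈ planeStab W ψ, ∀ w ∈ W, y * w * y⁻¹ ∈ W := fun y hy => hy.1
  refine Cfsg.Agent.Lib.Helper11_QdRecog2.involves_qd_of_section_data hp (planeStab W ψ) W hWL
    hnorm ψ h.surj (planeHom W ψ h.surj) ?_ ?_
  · intro A
    obtain ⟨y, hy, hA⟩ := h.real A
    refine ⟨⟨y, mem_planeStab_of_actsOn h.norm hy hA⟩, ?_⟩
    exact ActsOn.unique h.surj (h.norm y hy)
      (planeHom_spec W ψ h.surj ⟨y, mem_planeStab_of_actsOn h.norm hy hA⟩) hA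
  · intro y w
    exact planeHom_spec W ψ h.surj y w _

/-- Plane data with acting group `L` force `Qd(p)` to be involved in `L` (`p` odd). -/
theorem involves_qd_of_planeData [Finite Γ] [Fact p.Prime] (hp : p ≠ 2) {L W : Subgroup Γ}
    {ψ : W →* Multiplicative (Fin 2 → ZMod p)} (h : PlaneData p L W ψ) :
    Cfsg.Involves ↥(Cfsg.qd p) ↥L := by
  have key : PlaneData p (⊤ : Subgroup L) (W.subgroupOf L)
      (ψ.comp (Subgroup.subgroupOfEquivOfLe h.le).toMonoidHom) := by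
    refine ⟨le_top, fun y _ w hw => ?_, ?_, fun A => ?_⟩
    · rw [Subgroup.mem_subgroupOf] at hw ⊢
      exact h.norm y y.2 w hw
    · exact h.surj.comp (Subgroup.subgroupOfEquivOfLe h.le).surjective
    · obtain ⟨y, hy, hA⟩ := h.real A
      refine ⟨⟨y, hy⟩, Subgroup.mem_top _, fun w hw => ?_⟩
      exact hA ⟨(w : L), Subgroup.mem_subgroupOf.1 w.2⟩ (Subgroup.mem_subgroupOf.1 hw)
  exact involves_qd_of_planeData_aux hp key

end Cfsg.Agent.Lib.Helper87_QdPlane
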