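import Mathlib
import Cfsg.Prelude.Def_PLocal
import Cfsg.Prelude.Def_LocalEven
import Cfsg.Agent.Lib.Helper85_GroupFusion
import Cfsg.Agent.Lib.Helper87_QdPlane

/-!
Moving plane data for `Qd(p)` into the normalizer of a `p`-centric subgroup (helper87).

Given plane data `(L, W, ψ)` in a finite group with `W` a `p`-group, a Sylow `p`-subgroup `Q` of
`W C_G(W)` containing `W` has `Z(Q)` as a Sylow `p`-subgroup of its centralizer, and by the Frattini
argument `N_{L C_G(W)}(Q)` still induces every matrix of determinant one on the plane.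
-/

set_option autoImplicit false

namespace Cfsg.Agent.Lib.Helper87_QdCentric

open Cfsg Matrix Cfsg.Agent.Lib.Helper87_QdPlane Cfsg.Agent.Lib.Helper85_GroupFusion

universe u

variable {G : Type u} [Group G] {p : ℕ}

/-- `Q` contains every `p`-subgroup of its centralizer. -/
def PCentric (p : ℕ) (Q : Subgroup G) : Prop :=
  ∀ D : Subgroup G, D ≤ Subgroup.centralizer (Q : Set G) → IsPGroup p D → D ≤ Q

theorem PCentric.conj {Q : Subgroup G} (h : PCentric p Q) (g : G) : PCentric p (conjSub g Q) := by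
  intro D hD hDp
  rw [← conjSub_inv_conjSub g⁻¹ D, inv_inv]
  apply conjSub_mono
  apply h _ _ (isPGroup_conjSub _ hDp)
  rw [conjSub_le_iff, inv_inv, conjSub_centralizer]
  exact hD

theorem exists_centric_planeData [Finite G] [Fact p.Prime] {L W : Subgroup G}
    {ψ : W →* Multiplicative (Fin 2 → ZMod p)} (h : PlaneData p L W ψ) (hWp : IsPGroup p W) :
    ∃ Q L' : Subgroup G, W ≤ Q ∧ IsPGroup p Q ∧ PCentric p Q ∧
      L' ≤ Subgroup.normalizer (Q : Set G) ∧ PlaneData p L' W ψ := by
  set C : Subgroup G := Subgroup.centralizer (W : Set G) with hC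
  set Y : Subgroup G := W ⊔ C with hY
  set X : Subgroup G := L ⊔ C with hX
  have hLN : L ≤ Subgroup.normalizer (W : Set G) := by
    intro y hy
    rw [Subgroup.mem_normalizer_iff]
    intro w
    constructor
    · exact h.norm y hy w
    · intro hw
      have h1 := h.norm y⁻¹ (L.inv_mem hy) _ hw
      have e : y⁻¹ * (y * w * y⁻¹) * y⁻¹⁻¹ = w := by group
      rwa [e] at h1
  have hCN : C ≤ Subgroup.normalizer (W : Set G) := Subgroup.centralizer_le_normalizer _
  have hXN : X ≤ Subgroup.normalizer (W : Set G) := sup_le hLN hCN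
  have hXC : X ≤ Subgroup.normalizer (C : Set G) :=
    hXN.trans (normalizer_le_normalizer_centralizer W)
  have hXY : ∀ x ∈ X, conjSub x Y = Y := by
    intro x hx
    rw [hY, conjSub_sup, conjSub_eq_of_mem_normalizer (hXN hx),
      conjSub_eq_of_mem_normalizer (hXC hx)]
  have hWX : W ≤ X := h.le.trans le_sup_left
  have hYX : Y ≤ X := sup_le hWX le_sup_right
  have hnormX : ∀ y ∈ X, ∀ w ∈ W, y * w * y⁻¹ ∈ W := fun y hy w hw =>
    (Subgroup.mem_normalizer_iff.1 (hXN hy) w).1 hw
  -- `Y` acts trivially on the plane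
  have hinvX : ∀ y ∈ X, ∀ w ∈ W, y⁻¹ * w * y⁻¹⁻¹ ∈ W := fun y hy w hw =>
    hnormX y⁻¹ (X.inv_mem hy) w hw
  have htriv : ∀ y ∈ Y, ActsOn W ψ y 1 := by
    have hle : Y ≤ planeTriv W ψ := by
      refine sup_le ?_ ?_
      · intro y hyW
        exact ⟨hnormX y (hWX hyW), hinvX y (hWX hyW), ActsOn.of_mem W ψ hyW⟩
      · intro y hyC
        have hyX : y ∈ X := le_sup_right (a := L) hyC
        refine ⟨hnormX y hyX, hinvX y hyX, ?_⟩
        intro w hw
        rw [Subgroup.mem_centralizer_iff] at hyC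
        have e : (⟨y * (w : G) * y⁻¹, hw⟩ : W) = w := by
          apply Subtype.ext
          show y * (w : G) * y⁻¹ = w
          rw [← hyC w w.2, mul_inv_cancel_right]
        rw [e]
        simp
    intro y hy
    exact (hle hy).2.2
  obtain ⟨Q, hWQ, hQY, hQp, hQsyl⟩ := exists_isSylowIn_ge (le_sup_left : W ≤ Y) hWp
  refine ⟨Q, X ⊓ Subgroup.normalizer (Q : Set G), hWQ, hQp, ?_, inf_le_right, ?_, ?_, h.surj, ?_⟩
  · -- `p`-centric
    intro D hD hDp
    have hDC : D ≤ C := hD.trans (Subgroup.centralizer_le hWQ)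
    have hDY : D ≤ Y := hDC.trans le_sup_right
    have hDN : D ≤ Subgroup.normalizer (Q : Set G) :=
      hD.trans (Subgroup.centralizer_le_normalizer _)
    have hDQp : IsPGroup p (D ⊔ Q : Subgroup G) := hDp.to_sup_of_normal_right' hQp hDN
    have hcard := hQsyl.card_le hQY (sup_le hDY hQY) hDQp
    have heq : Q = D ⊔ Q := Subgroup.eq_of_le_of_card_ge le_sup_right hcard
    rw [heq]
    exact le_sup_left
  · exact le_inf hWX (hWQ.trans Subgroup.le_normalizer)
  · intro y hy w hw
    exact hnormX y hy.1 w hw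
  · intro A
    obtain ⟨k, hk, hA⟩ := h.real A
    have hkX : k ∈ X := le_sup_left (a := L) hk
    have h1 : conjSub k Q ≤ Y := by
      rw [← hXY k hkX]
      exact conjSub_mono k hQY
    obtain ⟨y, hy, hyQ⟩ := hQsyl.exists_conj_le h1 (isPGroup_conjSub k hQp)
    rw [conjSub_conjSub] at hyQ
    refine ⟨y * k, ⟨X.mul_mem (hYX hy) hkX, mem_normalizer_of_conjSub_le hyQ⟩, ?_⟩
    have := (htriv y hy).mul (hnormX k hkX) hA
    rwa [one_mul] at this

end Cfsg.Agent.Lib.Helper87_QdCentric
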