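import Mathlib
import Cfsg.Prelude.Def_PLocal
import Cfsg.Prelude.Def_LocalEven
import Cfsg.Agent.S5299
import Cfsg.Agent.Lib.Helper34_NPC
import Cfsg.Agent.Lib.Helper46_Qd
import Cfsg.Agent.Lib.Helper46_Qd2
import Cfsg.Agent.Lib.Helper11_QdRecog2
import Cfsg.Agent.Lib.Helper87_QdPlane

/-!
`Qd(p)` sections: normal subgroups of order prime to `p` die in `Qd(p)`, and a section `Qd(p)` of a
finite group gives plane data with a `p`-group as plane group (helper87).
-/

set_option autoImplicit false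

namespace Cfsg.Agent.Lib.Helper87_QdPlane2

open Cfsg Matrix Cfsg.Agent.Lib.Helper46_Qd Cfsg.Agent.Lib.Helper46_Qd2
  Cfsg.Agent.Lib.Helper87_QdPlane

/-- The translation subgroup of the affine group is self-centralizing. -/
theorem centralizer_transl_le' (R : Type*) [CommRing R] :
    Subgroup.centralizer ((transl R : Subgroup (affineSub R)) : Set (affineSub R)) ≤ transl R := by
  intro M hM
  rw [Subgroup.mem_centralizer_iff] at hM
  have key : ∀ a b : R, ent M 0 0 * a + ent M 0 1 * b = a ∧ ent M 1 0 * a + ent M 1 1 * b = b := by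
    intro a b
    have hc := hM (mk 1 a b) (transl_mk_mem a b)
    obtain ⟨e1, e2, e3, e4, e5, e6⟩ := ent_mk (1 : Matrix.SpecialLinearGroup (Fin 2) R) a b
    have c1 := congrArg (fun N : affineSub R => ent N 0 2) hc
    have c2 := congrArg (fun N : affineSub R => ent N 1 2) hc
    simp only [ent_mul_02, ent_mul_12, e1, e2, e3, e4, e5, e6] at c1 c2
    simp at c1 c2
    constructor
    · linear_combination -c1
    · linear_combination -c2
  have k10 := key 1 0
  have k01 := key 0 1
  simp at k10 k01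
  rw [mem_transl_iff]
  exact ⟨k10.1, k01.1, k10.2, k01.2⟩

/-- Conjugation on the translation subgroup is the natural action of the linear part. -/
theorem translVec_conj {R : Type*} [CommRing R] (M : affineSub R) (t : transl R)
    (h : M * (t : affineSub R) * M⁻¹ ∈ transl R) :
    translVec ⟨M * (t : affineSub R) * M⁻¹, h⟩ =
      ((block M : Matrix.SpecialLinearGroup (Fin 2) R) : Matrix (Fin 2) (Fin 2) R).mulVec
        (translVec t) := by
  set w : affineSub R := M * (t : affineSub R) * M⁻¹ with hw_def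
  have hrel : w * M = M * (t : affineSub R) := by
    rw [hw_def]; group
  obtain ⟨w1, w2, w3, w4⟩ := (mem_transl_iff w).1 h
  have c1 := congrArg (fun N : affineSub R => ent N 0 2) hrel
  have c2 := congrArg (fun N : affineSub R => ent N 1 2) hrel
  simp only [ent_mul_02, ent_mul_12, w1, w2, w3, w4] at c1 c2
  simp at c1 c2
  rw [coe_block]
  ext i
  fin_cases i
  · simp [translVec, Matrix.mulVec, dotProduct, Fin.sum_univ_two]
    linear_combination c1
  · simp [translVec, Matrix.mulVec, dotProduct, Fin.sum_univ_two]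
    linear_combination c2

section Kill

variable {p : ℕ} [Fact p.Prime]

/-- A normal subgroup all of whose elements have order prime to `p` is killed by every surjection
onto the affine group over the prime field. -/
theorem le_ker_of_coprime {K : Type*} [Group K] (f : K →* affineSub (ZMod p))
    (hf : Function.Surjective f) (O : Subgroup K) [hO : O.Normal] (n : ℕ) (hn : n.Coprime p)
    (hOn : ∀ o ∈ O, o ^ n = 1) : O ≤ f.ker := by
  have hOn' : (O.map f).Normal := hO.map f hf
  have htn : (transl (ZMod p)).Normal := transl_normal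
  have hmeet : ∀ x ∈ O.map f, x ∈ transl (ZMod p) → x = 1 := by
    rintro _ ⟨o, ho, rfl⟩ hx
    obtain ⟨k, hk⟩ := (isPGroup_transl (F := ZMod p) (p := p)) ⟨f o, hx⟩
    have h1 : f o ^ p ^ k = 1 := congrArg Subtype.val hk
    have h2 : f o ^ n = 1 := by rw [← map_pow, hOn o ho, map_one]
    have h3 := pow_gcd_eq_one.2 ⟨h1, h2⟩
    have h4 : Nat.gcd (p ^ k) n = 1 := Nat.Coprime.pow_left k hn.symm
    rwa [h4, pow_one] at h3
  intro o ho
  rw [MonoidHom.mem_ker]
  have hfo : f o ∈ O.map f := ⟨o, ho, rfl⟩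
  apply hmeet _ hfo
  apply centralizer_transl_le'
  rw [Subgroup.mem_centralizer_iff]
  intro t ht
  have h1 : f o * t * (f o)⁻¹ * t⁻¹ ∈ O.map f := by
    have : f o * (t * (f o)⁻¹ * t⁻¹) ∈ O.map f :=
      (O.map f).mul_mem hfo (hOn'.conj_mem _ ((O.map f).inv_mem hfo) t)
    simpa only [mul_assoc] using this
  have h2 : f o * t * (f o)⁻¹ * t⁻¹ ∈ transl (ZMod p) :=
    (transl (ZMod p)).mul_mem (htn.conj_mem _ ht _) ((transl (ZMod p)).inv_mem ht)
  have h3 := hmeet _ h1 h2
  have h4 : f o * t = t * f o := by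
    have := mul_inv_eq_one.1 h3
    rw [mul_inv_eq_iff_eq_mul] at this
    exact this
  exact h4.symm

/-- `Qd(p)` involved in a group is involved in the quotient by any normal subgroup of order prime
to `p`. -/
theorem involves_qd_quotient {Γ : Type*} [Group Γ] (O : Subgroup Γ) [hO : O.Normal]
    (hcop : (Nat.card O).Coprime p) (h : Cfsg.Involves ↥(Cfsg.qd p) Γ) :
    Cfsg.Involves ↥(Cfsg.qd p) (Γ ⧸ O) := by
  rw [Cfsg.Agent.S5299.involves_iff] at h
  obtain ⟨K, f₀, hf₀⟩ := h
  set e := MulEquiv.subgroupCongr (qd_eq p) with he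
  set f : K →* affineSub (ZMod p) := e.toMonoidHom.comp f₀ with hf_def
  have hf : Function.Surjective f := e.surjective.comp hf₀
  have hn : (O.subgroupOf K).Normal := hO.subgroupOf K
  have hle := le_ker_of_coprime f hf (O.subgroupOf K) (Nat.card O) hcop (by
    intro o ho
    rw [Subgroup.mem_subgroupOf] at ho
    have h1 : (⟨(o : Γ), ho⟩ : O) ^ Nat.card O = 1 := pow_card_eq_one'
    apply Subtype.ext
    have h2 : ((⟨(o : Γ), ho⟩ : O) : Γ) ^ Nat.card O = 1 := by
      rw [← Subgroup.coe_pow, h1, Subgroup.coe_one]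
    rw [Subgroup.coe_pow, Subgroup.coe_one]
    exact h2)
  refine Cfsg.Agent.Lib.Helper11_QdRecog2.involves_of_factor
    ((QuotientGroup.mk' O).comp K.subtype) f₀ hf₀ ?_
  intro x hx
  rw [MonoidHom.mem_ker] at hx ⊢
  have hxO : (x : Γ) ∈ O := (QuotientGroup.eq_one_iff _).1 hx
  have h1 : f x = 1 := hle (Subgroup.mem_subgroupOf.2 hxO)
  have h2 : e (f₀ x) = 1 := h1
  exact (MulEquiv.map_eq_one_iff e).1 h2

end Kill

section Extract

variable {p : ℕ} [Fact p.Prime]

/-- The plane over the prime field is a `p`-group. -/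
theorem isPGroup_plane : IsPGroup p (Multiplicative (Fin 2 → ZMod p)) := by
  intro x
  refine ⟨1, ?_⟩
  rw [pow_one]
  have h : (p : ℕ) • Multiplicative.toAdd x = 0 := by
    ext i
    simp
  have h2 : Multiplicative.toAdd (x ^ p) = Multiplicative.toAdd (1 : Multiplicative (Fin 2 → ZMod p)) := by
    rw [toAdd_pow, h, toAdd_one]
  exact Multiplicative.toAdd.injective h2

/-- The translation subgroup as the plane. -/
noncomputable def tv (p : ℕ) : transl (ZMod p) →* Multiplicative (Fin 2 → ZMod p) :=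
  AddMonoidHom.toMultiplicativeRight (translEquiv (R := ZMod p)).toAddMonoidHom

omit [Fact p.Prime] in
theorem tv_apply (t : transl (ZMod p)) : tv p t = Multiplicative.ofAdd (translVec t) := rfl

omit [Fact p.Prime] in
theorem tv_surjective : Function.Surjective (tv p) := by
  intro v
  refine ⟨translOf (Multiplicative.toAdd v), ?_⟩
  rw [tv_apply, translVec_translOf]
  rfl

/-- A section `Qd(p)` of a finite group gives plane data whose plane group is a `p`-group. -/
theorem exists_planeData_of_involves {G : Type*} [Group G] [Finite G]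
    (h : Cfsg.Involves ↥(Cfsg.qd p) G) :
    ∃ (L W : Subgroup G) (ψ : W →* Multiplicative (Fin 2 → ZMod p)),
      PlaneData p L W ψ ∧ IsPGroup p W := by
  classical
  rw [Cfsg.Agent.S5299.involves_iff] at h
  obtain ⟨K, f₀, hf₀⟩ := h
  set e := MulEquiv.subgroupCongr (qd_eq p) with he
  set f : K →* affineSub (ZMod p) := e.toMonoidHom.comp f₀ with hf_def
  have hf : Function.Surjective f := e.surjective.comp hf₀
  set b : K →* Matrix.SpecialLinearGroup (Fin 2) (ZMod p) := (block (R := ZMod p)).comp f with hb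
  have hbs : Function.Surjective b := block_surjective.comp hf
  set V : Subgroup K := b.ker with hV
  have hVn : V.Normal := MonoidHom.normal_ker b
  have hVt : ∀ v : V, f (v : K) ∈ transl (ZMod p) := fun v => v.2
  set τ : V →* transl (ZMod p) := (f.comp V.subtype).codRestrict (transl (ZMod p)) hVt with hτ
  have hτs : Function.Surjective τ := by
    rintro ⟨t, ht⟩
    obtain ⟨k, rfl⟩ := hf t
    exact ⟨⟨k, ht⟩, rfl⟩
  set ψV : V →* Multiplicative (Fin 2 → ZMod p) := (tv p).comp τ with hψV
  have hψVs : Function.Surjective ψV := tv_surjective.comp hτs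
  obtain ⟨S₀⟩ : Nonempty (Sylow p V) := Sylow.nonempty
  -- the image of the Sylow subgroup is everything
  have himg : (S₀ : Subgroup V).map ψV = ⊤ := by
    have h1 := (Sylow.mapSurjective hψVs S₀).3 (Q := ⊤)
      ((isPGroup_plane (p := p)).to_subgroup ⊤) le_top
    rw [← Sylow.coe_mapSurjective hψVs S₀]
    exact h1.symm
  set j : V →* G := K.subtype.comp V.subtype with hj
  have hji : Function.Injective j := K.subtype_injective.comp V.subtype_injective
  set W : Subgroup G := (S₀ : Subgroup V).map j with hW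
  set eW : (S₀ : Subgroup V) ≃* W := (S₀ : Subgroup V).equivMapOfInjective j hji with heW
  set ψ : W →* Multiplicative (Fin 2 → ZMod p) :=
    (ψV.comp (S₀ : Subgroup V).subtype).comp eW.symm.toMonoidHom with hψ
  set W₀ : Subgroup K := (S₀ : Subgroup V).map V.subtype with hW₀
  set M : Subgroup K := Subgroup.normalizer (W₀ : Set K) with hM
  have hF : M ⊔ V = ⊤ := Sylow.normalizer_sup_eq_top S₀
  have heWj : ∀ s : (S₀ : Subgroup V), ((eW s : W) : G) = j (s : V) := fun s => rfl
  have hψj : ∀ s : (S₀ : Subgroup V), ψ (eW s) = ψV (s : V) := by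
    intro s
    show ψV ((eW.symm (eW s) : (S₀ : Subgroup V)) : V) = ψV (s : V)
    rw [MulEquiv.symm_apply_apply]
  -- conjugation by elements of `M`
  have hconj : ∀ m ∈ M, ∀ s : (S₀ : Subgroup V), ∃ s' : (S₀ : Subgroup V),
      ((s' : V) : K) = m * ((s : V) : K) * m⁻¹ := by
    intro m hm s
    have h1 : ((s : V) : K) ∈ W₀ := ⟨(s : V), s.2, rfl⟩
    have h2 : m * ((s : V) : K) * m⁻¹ ∈ W₀ := (Subgroup.mem_normalizer_iff.1 hm _).1 h1
    obtain ⟨s', hs', hs'e⟩ := h2
    exact ⟨⟨s', hs'⟩, hs'e⟩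
  refine ⟨M.map K.subtype, W, ψ, ⟨?_, ?_, ?_, ?_⟩, ?_⟩
  · rintro _ ⟨s, hs, rfl⟩
    refine ⟨(s : K), ?_, rfl⟩
    exact Subgroup.le_normalizer (show (s : K) ∈ W₀ from ⟨s, hs, rfl⟩)
  · rintro _ ⟨m, hm, rfl⟩ _ ⟨s, hs, rfl⟩
    obtain ⟨s', hs'⟩ := hconj m hm ⟨s, hs⟩
    refine ⟨(s' : V), s'.2, ?_⟩
    show (((s' : V) : K) : G) = (m : G) * ((s : K) : G) * (m : G)⁻¹
    rw [hs']
    rfl
  · intro v
    have hv : v ∈ (S₀ : Subgroup V).map ψV := by rw [himg]; exact Subgroup.mem_top v
    obtain ⟨s, hs, rfl⟩ := hv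
    exact ⟨eW ⟨s, hs⟩, hψj ⟨s, hs⟩⟩
  · intro A
    obtain ⟨k, hk⟩ := hbs A
    have hk' : k ∈ M ⊔ V := by rw [hF]; exact Subgroup.mem_top k
    obtain ⟨m, hm, v, hv, rfl⟩ := Subgroup.mem_sup_of_normal_right.mp hk'
    have hbm : b m = A := by
      rw [← hk, map_mul, (MonoidHom.mem_ker).1 hv, mul_one]
    refine ⟨(m : G), ⟨m, hm, rfl⟩, ?_⟩
    intro w hw
    obtain ⟨s, rfl⟩ := eW.surjective w
    obtain ⟨s', hs'⟩ := hconj m hm s
    have e1 : (⟨(m : G) * ((eW s : W) : G) * (m : G)⁻¹, hw⟩ : W) = eW s' := by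
      apply Subtype.ext
      show (m : G) * ((eW s : W) : G) * (m : G)⁻¹ = ((eW s' : W) : G)
      rw [heWj, heWj]
      show (m : G) * (((s : V) : K) : G) * (m : G)⁻¹ = (((s' : V) : K) : G)
      rw [hs']
      rfl
    rw [e1, hψj, hψj]
    show tv p (τ (s' : V)) = Multiplicative.ofAdd
      ((A : Matrix (Fin 2) (Fin 2) (ZMod p)).mulVec (Multiplicative.toAdd (tv p (τ (s : V)))))
    rw [tv_apply, tv_apply, toAdd_ofAdd, ← hbm]
    have hmem : f m * ((τ (s : V) : transl (ZMod p)) : affineSub (ZMod p)) * (f m)⁻¹ ∈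
        transl (ZMod p) := by
      have : f m * f ((s : V) : K) * (f m)⁻¹ = f ((s' : V) : K) := by
        rw [hs', map_mul, map_mul, map_inv]
      show f m * f ((s : V) : K) * (f m)⁻¹ ∈ transl (ZMod p)
      rw [this]
      exact hVt (s' : V)
    have e2 : τ (s' : V) = ⟨f m * ((τ (s : V) : transl (ZMod p)) : affineSub (ZMod p)) * (f m)⁻¹,
        hmem⟩ := by
      apply Subtype.ext
      show f ((s' : V) : K) = f m * f ((s : V) : K) * (f m)⁻¹
      rw [hs', map_mul, map_mul, map_inv]
    rw [e2, translVec_conj]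
    rfl
  · exact S₀.2.map j

end Extract

end Cfsg.Agent.Lib.Helper87_QdPlane2
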