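import Mathlib
import Cfsg.Agent.Lib.Helper77_SLnDefs
import Cfsg.Prelude.Def_Characters
import Cfsg.Agent.Lib.Helper87_S2332_CARRYGEN
import Cfsg.Agent.Lib.Helper69_S2332_WSDEC

/-!
# S2332-CARRYGEN, verbatim package statement (helper87, for helper77's market)
-/

set_option autoImplicit false
set_option linter.unusedVariables false
open Matrix Cfsg.Agent.Lib.Helper5_Transv Cfsg.Agent.Lib.Helper77_SLnDefs

namespace Cfsg.Agent.Lib.Helper87_S2332_CARRYGENW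

variable {F : Type*} [Field F] [Fintype F] [DecidableEq F] {κ : Type} [Fintype κ] [DecidableEq κ]
  {V : Type} [AddCommGroup V] [Module ℂ V] [FiniteDimensional ℂ V]

theorem carry_gen {κ2 : Type} [Fintype κ2] [DecidableEq κ2] (hκ2 : 2 ≤ Fintype.card κ2)
    (hperf2 : commutator (Matrix.SpecialLinearGroup κ2 F) = ⊤)
    (ρ : Representation ℂ (Matrix.SpecialLinearGroup (Unit ⊕ (Unit ⊕ κ2)) F) V)
    (hirr : ρ.IsIrreducible) (ψ : AddChar F ℂ) (hψ : ψ ≠ 1) (f : ℕ) (hW : WData ρ ψ 1 f)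
    (htr : ∀ u' : κ2 → F, u' ≠ 0 →
      LinearMap.trace ℂ (wsp ρ ψ (0 : Unit ⊕ κ2 → F)) (psiRep ρ ψ (xu u')) =
        (f : ℂ) - (Fintype.card F : ℂ) ^ Fintype.card κ2)
    (hnofix : (psiRep ρ ψ).invariants = ⊥)
    (ht3b : ∀ (Y : Type) [AddCommGroup Y] [Module ℂ Y] [FiniteDimensional ℂ Y]
      (τ : Representation ℂ (Matrix.SpecialLinearGroup (Unit ⊕ κ2) F) Y), τ.IsIrreducible →
      stabFix τ (MulAction.stabilizer (Matrix.SpecialLinearGroup (Unit ⊕ κ2) F)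
        (x0 : NZv (Unit ⊕ κ2) F)) ≠ ⊥ →
      Module.finrank ℂ Y = 1 ∨ NN (Fintype.card F) (Fintype.card κ2 + 1) - 1 ≤ Module.finrank ℂ Y)
    (hf : f + 2 ≤ NN (Fintype.card F) (Fintype.card κ2 + 1))
    (dmin : ℕ) (hmin : MinDeg F (Fintype.card κ2) dmin) :
    f + 1 = Fintype.card F ^ Fintype.card κ2 ∨ Fintype.card F ^ Fintype.card κ2 + dmin ≤ f + 1 :=
  Cfsg.Agent.Lib.Helper87_S2332_CARRYGEN.carry_gen_of_internal hκ2 hperf2 ρ hirr ψ hψ f hW htr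
    hnofix ht3b hf dmin hmin
    (Cfsg.Agent.Lib.Helper69_S2332_WSDEC.wsp_isInternal (κ := κ2) (psiRep ρ ψ) ψ hψ)

end Cfsg.Agent.Lib.Helper87_S2332_CARRYGENW
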