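import Mathlib
import Cfsg.Agent.Lib.Helper76_S2647Defs

/-!
# S2647 package MONO (helper87, for helper76's market):
an isometry of `Q7` normalizing the group `Ed` of even sign changes is monomial.
-/

set_option autoImplicit false
set_option linter.unusedVariables false

open Matrix Cfsg.Agent.Lib.Helper76_S2647Defs

namespace Cfsg.Agent.Lib.Helper87_S2647_MONO

variable {F : Type*} [Field F]

theorem mul_monM_one_apply (N : Matrix (Fin 7) (Fin 7) F) (δ : Fin 7 → ℤˣ) (i j : Fin 7) :
    (N * monM F δ 1) i j = N i j * sgnF F δ j := by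
  rw [Matrix.mul_apply, Finset.sum_eq_single j]
  · rw [monM_apply, if_pos (by simp)]
  · intro k _ hk
    rw [monM_apply, if_neg (by simpa using hk), mul_zero]
  · intro h
    exact absurd (Finset.mem_univ _) h

theorem monM_one_mul_apply (N : Matrix (Fin 7) (Fin 7) F) (δ : Fin 7 → ℤˣ) (i j : Fin 7) :
    (monM F δ 1 * N) i j = sgnF F δ i * N i j := by
  rw [Matrix.mul_apply, Finset.sum_eq_single i]
  · rw [monM_apply, if_pos (by simp)]
  · intro k _ hk
    rw [monM_apply, if_neg (by simpa using hk.symm), zero_mul]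
  · intro h
    exact absurd (Finset.mem_univ _) h

theorem exists_third (i k : Fin 7) : ∃ l : Fin 7, l ≠ i ∧ l ≠ k := by
  revert i k
  decide

theorem mono (h2 : (2 : F) ≠ 0) (n : ↥(O7 F))
    (hn : ∀ d ∈ Ed F, n * d * n⁻¹ ∈ Ed F) (hn' : ∀ d ∈ Ed F, n⁻¹ * d * n ∈ Ed F) :
    ∃ (ε : Fin 7 → ℤˣ) (π : Equiv.Perm (Fin 7)), n = monO F ε π := by
  classical
  -- the matrix of `n` and of its inverse
  set N : Matrix (Fin 7) (Fin 7) F := ((n : Matrix.GeneralLinearGroup (Fin 7) F) :
    Matrix (Fin 7) (Fin 7) F) with hN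
  set Ni : Matrix (Fin 7) (Fin 7) F := (((n⁻¹ : ↥(O7 F)) : Matrix.GeneralLinearGroup (Fin 7) F) :
    Matrix (Fin 7) (Fin 7) F) with hNi
  have hinv : Ni * N = 1 := by
    have h1 : (n⁻¹ * n : ↥(O7 F)) = 1 := inv_mul_cancel n
    have h2 := congrArg (fun x : ↥(O7 F) =>
      ((x : Matrix.GeneralLinearGroup (Fin 7) F) : Matrix (Fin 7) (Fin 7) F)) h1
    exact h2
  -- Step A: the key relation
  have hA : ∀ δ' : Fin 7 → ℤˣ, ∏ j, δ' j = 1 → ∃ δ : Fin 7 → ℤˣ,
      ∀ i j, N i j * sgnF F δ j = sgnF F δ' i * N i j := by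
    intro δ' hδ'
    obtain ⟨δ, _, hδ⟩ := (mem_Ed_iff F _).mp (hn' _ ((mem_Ed_iff F _).mpr ⟨δ', hδ', rfl⟩))
    refine ⟨δ, fun i j => ?_⟩
    have h1 : monO F δ' 1 * n = n * monO F δ 1 := by
      rw [← hδ]
      group
    have h2 := congrArg (fun x : ↥(O7 F) =>
      ((x : Matrix.GeneralLinearGroup (Fin 7) F) : Matrix (Fin 7) (Fin 7) F)) h1
    have h3 : monM F δ' 1 * N = N * monM F δ 1 := h2
    rw [← mul_monM_one_apply, ← h3, monM_one_mul_apply]
  -- Step B: at most one nonzero entry in each column
  have hB : ∀ i k j, N i j ≠ 0 → N k j ≠ 0 → i = k := by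
    intro i k j hi hk
    by_contra hik
    obtain ⟨l, hli, hlk⟩ := exists_third i k
    obtain ⟨δ, hδ⟩ := hA (Pi.mulSingle i (-1) * Pi.mulSingle l (-1)) (by
      simp only [Pi.mul_apply]
      rw [Finset.prod_mul_distrib, Finset.prod_pi_mulSingle', Finset.prod_pi_mulSingle']
      simp)
    have e1 := hδ i j
    have e2 := hδ k j
    have v1 : sgnF F (Pi.mulSingle i (-1) * Pi.mulSingle l (-1)) i = -1 := by
      unfold sgnF
      rw [Pi.mul_apply, Pi.mulSingle_eq_same, Pi.mulSingle_eq_of_ne (Ne.symm hli)]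
      simp
    have v2 : sgnF F (Pi.mulSingle i (-1) * Pi.mulSingle l (-1)) k = 1 := by
      unfold sgnF
      rw [Pi.mul_apply, Pi.mulSingle_eq_of_ne (Ne.symm hik), Pi.mulSingle_eq_of_ne (Ne.symm hlk)]
      simp
    rw [v1] at e1
    rw [v2] at e2
    have s1 : sgnF F δ j = -1 := by
      have : N i j * sgnF F δ j = N i j * (-1) := by rw [e1]; ring
      exact mul_left_cancel₀ hi this
    have s2 : sgnF F δ j = 1 := by
      have : N k j * sgnF F δ j = N k j * 1 := by rw [e2]; ring
      exact mul_left_cancel₀ hk this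
    rw [s1] at s2
    apply h2
    have : (2 : F) = 1 - (-1) := by ring
    rw [this, s2]
    ring
  -- Step C: each column has a nonzero entry
  have hC : ∀ j, ∃ i, N i j ≠ 0 := by
    intro j
    by_contra hcon
    push Not at hcon
    have h1 : (Ni * N) j j = 1 := by rw [hinv, Matrix.one_apply_eq]
    rw [Matrix.mul_apply] at h1
    have h0 : ∑ m, Ni j m * N m j = 0 := by
      apply Finset.sum_eq_zero
      intro m _
      rw [hcon m, mul_zero]
    rw [h0] at h1
    exact zero_ne_one h1
  choose π hπ using hC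
  have hzero : ∀ i j, i ≠ π j → N i j = 0 := by
    intro i j hij
    by_contra hne
    exact hij (hB i (π j) j hne (hπ j))
  -- Step D: `π` is injective
  have hπinj : Function.Injective π := by
    intro j j' hjj
    by_contra hne
    have h1 : (Ni * N) j j = 1 := by rw [hinv, Matrix.one_apply_eq]
    have h0 : (Ni * N) j j' = 0 := by rw [hinv, Matrix.one_apply_ne hne]
    rw [Matrix.mul_apply, Finset.sum_eq_single (π j)] at h1 h0
    · have hne1 : Ni j (π j) ≠ 0 := by
        intro hz
        rw [hz, zero_mul] at h1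
        exact zero_ne_one h1
      rcases mul_eq_zero.mp h0 with h | h
      · exact hne1 h
      · rw [hjj] at h
        exact hπ j' h
    · intro m _ hm
      rw [hzero m j' (by rw [← hjj]; exact hm), mul_zero]
    · intro h
      exact absurd (Finset.mem_univ _) h
    · intro m _ hm
      rw [hzero m j hm, mul_zero]
    · intro h
      exact absurd (Finset.mem_univ _) h
  have hπbij : Function.Bijective π := Finite.injective_iff_bijective.mp hπinj
  -- Step E: the nonzero entries are `±1`
  have hiso : ∀ u : Fin 7 → F, Q7 F (N *ᵥ u) = Q7 F u :=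
    (Cfsg.Agent.Lib.Helper44_Orth.mem_isometryGroup_iff _ _).mp n.2
  have hE : ∀ j, N (π j) j = 1 ∨ N (π j) j = -1 := by
    intro j
    have h1 := hiso (Pi.single j 1)
    rw [Q7_apply, Q7_apply, Matrix.mulVec_single_one] at h1
    rw [Finset.sum_eq_single (π j), Finset.sum_eq_single j] at h1
    · rw [Pi.single_eq_same, mul_one] at h1
      exact mul_self_eq_one_iff.mp h1
    · intro m _ hm
      rw [Pi.single_eq_of_ne hm, mul_zero]
    · intro h
      exact absurd (Finset.mem_univ _) h
    · intro m _ hm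
      show N m j * N m j = 0
      rw [hzero m j hm, mul_zero]
    · intro h
      exact absurd (Finset.mem_univ _) h
  refine ⟨fun j => if N (π j) j = 1 then 1 else -1, Equiv.ofBijective π hπbij, ?_⟩
  apply Subtype.ext
  apply Units.ext
  show N = monM F _ _
  ext i j
  rw [monM_apply]
  by_cases hij : i = π j
  · rw [if_pos (by simpa using hij), hij]
    unfold sgnF
    beta_reduce
    rcases hE j with h | h
    · rw [if_pos h, h]
      simp
    · have hne : N (π j) j ≠ 1 := by
        rw [h]
        intro h'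
        apply h2
        have : (2 : F) = 1 - (-1) := by ring
        rw [this, h']
        ring
      rw [if_neg hne, h]
      simp
  · rw [if_neg (by simpa using hij)]
    exact hzero i j hij

end Cfsg.Agent.Lib.Helper87_S2647_MONO
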