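import Mathlib
import Cfsg.Agent.Lib.Helper87_S4016Defs

/-!
# S4016 package QUOTH (helper89, for architect helper87)

The hypothesis of S4016 (cyclic Sylow `p`-subgroups, abelian `p'`-subgroups) passes to the quotient
by a normal `p'`-subgroup.
-/

set_option autoImplicit false
open Cfsg.Agent.Lib.Helper87_S4016

namespace Cfsg.Agent.Lib.Helper89_S4016_QUOTH

/-- **QUOTH** (M, ~120 lines).  The hypothesis passes to the quotient by a normal `p'`-subgroup. -/
theorem QUOTH {G : Type*} [Group G] [Finite G] {p : ℕ} [Fact p.Prime] (h : Hyp p G)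
    (N : Subgroup G) [N.Normal] (hN : ¬ p ∣ Nat.card ↥N) : Hyp p (G ⧸ N) := by
  classical
  obtain ⟨hcyc, hab⟩ := h
  have hπ : Function.Surjective (QuotientGroup.mk' N) := QuotientGroup.mk'_surjective N
  refine ⟨fun Q => ?_, fun H' hH' a' ha' b' hb' => ?_⟩
  · obtain ⟨P, rfl⟩ := Sylow.mapSurjective_surjective hπ p Q
    have := hcyc P
    have : IsCyclic ↥((P : Subgroup G).map (QuotientGroup.mk' N)) :=
      isCyclic_of_surjective ((QuotientGroup.mk' N).subgroupMap (P : Subgroup G))
        ((QuotientGroup.mk' N).subgroupMap_surjective _)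
    exact this
  · set H : Subgroup G := H'.comap (QuotientGroup.mk' N) with hH
    have hpH : ¬ p ∣ Nat.card ↥H := by
      intro hdvd
      obtain ⟨x, hx⟩ := exists_prime_orderOf_dvd_card' (G := ↥H) p hdvd
      have hx' : orderOf (x : G) = p := by rw [Subgroup.orderOf_coe]; exact hx
      have hxH' : (QuotientGroup.mk' N) (x : G) ∈ H' := x.2
      by_cases hxN : (x : G) ∈ N
      · apply hN
        rw [← hx']
        exact Subgroup.orderOf_dvd_natCard N hxN
      · have hdiv : orderOf ((QuotientGroup.mk' N) (x : G)) ∣ p := by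
          have := orderOf_map_dvd (QuotientGroup.mk' N) (x : G)
          rwa [hx'] at this
        have hne : orderOf ((QuotientGroup.mk' N) (x : G)) ≠ 1 := by
          rw [Ne, orderOf_eq_one_iff]
          intro h1
          exact hxN ((QuotientGroup.eq_one_iff _).1 h1)
        have hop : orderOf ((QuotientGroup.mk' N) (x : G)) = p :=
          ((Nat.dvd_prime Fact.out).1 hdiv).resolve_left hne
        apply hH'
        rw [← hop]
        exact Subgroup.orderOf_dvd_natCard H' hxH'
    obtain ⟨a, rfl⟩ := hπ a'
    obtain ⟨b, rfl⟩ := hπ b'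
    have := hab H hpH a ha' b hb'
    rw [← map_mul, ← map_mul, this]

end Cfsg.Agent.Lib.Helper89_S4016_QUOTH
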