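import Mathlib
import Cfsg.Agent.Lib.Helper87_S4016Cfg
import Cfsg.Agent.Lib.Helper12_S4016_DIH
import Cfsg.Agent.Lib.Helper12_S4016_BSWFIN
import Cfsg.Agent.Lib.Helper79_S4016_V4B
import Cfsg.Agent.Lib.Helper10_S4016_CAL
import Cfsg.Agent.Lib.Helper10_S4016_MU
import Cfsg.Agent.Lib.Helper24_S4016_HALL
import Cfsg.Agent.Lib.Helper24_S4016_SUBH
import Cfsg.Agent.Lib.Helper24_S4016_SUBC
import Cfsg.Agent.Lib.Helper89_S4016_QUOTH
import Cfsg.Agent.Lib.Helper89_S4016_QUOTC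
import Cfsg.Agent.Lib.Helper24_S4016_NOPP
import Cfsg.Agent.Lib.Helper24_S4016_SZ
import Cfsg.Agent.Lib.Helper59_S4016_MAXSUB
import Cfsg.Agent.Lib.Helper59_S4016_TI
import Cfsg.Agent.Lib.Helper63_S4016_CNT
import Cfsg.Agent.Lib.Helper63_S4016_SYLR
import Cfsg.Agent.Lib.Helper65_S4016_OMEGA
import Cfsg.Agent.Lib.Helper69_S4016_CA
import Cfsg.Agent.Lib.Helper69_S4016_CENT
import Cfsg.Agent.Lib.Helper79_S4016_V4A
import Cfsg.Agent.Lib.Helper47_S4016_CAFIN

/-!
# S4016: the main chain (architect helper87)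
-/

set_option autoImplicit false

open Cfsg.Agent.Lib.Helper10_S4016_CAL (CAL)
open Cfsg.Agent.Lib.Helper10_S4016_MU (MU)
open Cfsg.Agent.Lib.Helper24_S4016_HALL (HALL)
open Cfsg.Agent.Lib.Helper24_S4016_SUBH (SUBH)
open Cfsg.Agent.Lib.Helper24_S4016_SUBC (SUBC)
open Cfsg.Agent.Lib.Helper89_S4016_QUOTH (QUOTH)
open Cfsg.Agent.Lib.Helper89_S4016_QUOTC (QUOTC)
open Cfsg.Agent.Lib.Helper24_S4016_NOPP (NOPP)
open Cfsg.Agent.Lib.Helper24_S4016_SZ (SZ)
open Cfsg.Agent.Lib.Helper59_S4016_MAXSUB (MAXSUB)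
open Cfsg.Agent.Lib.Helper59_S4016_TI (TI)
open Cfsg.Agent.Lib.Helper63_S4016_CNT (CNT)
open Cfsg.Agent.Lib.Helper63_S4016_SYLR (SYLR)
open Cfsg.Agent.Lib.Helper65_S4016_OMEGA (OMEGA)
open Cfsg.Agent.Lib.Helper69_S4016_CA (CA)
open Cfsg.Agent.Lib.Helper69_S4016_CENT (CENT)
open Cfsg.Agent.Lib.Helper79_S4016_V4A (V4A)
open Cfsg.Agent.Lib.Helper47_S4016_CAFIN (CAFIN)
open Cfsg.Agent.Lib.Helper12_S4016_DIH (DIH)
open Cfsg.Agent.Lib.Helper12_S4016_BSWFIN (BSWFIN)
open Cfsg.Agent.Lib.Helper79_S4016_V4B (V4B)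

namespace Cfsg.Agent.Lib.Helper87_S4016

universe u

/-- If one Sylow `p`-subgroup is normal, `Concl` holds. -/
theorem concl_of_normal {G : Type*} [Group G] [Finite G] {p : ℕ} [Fact p.Prime] (P : Sylow p G)
    (hP : (P : Subgroup G).Normal) : Concl p G := by
  right
  intro Q
  have := Sylow.unique_of_normal P hP
  rw [Subsingleton.elim Q P]
  exact hP

/-- Burnside's transfer theorem, contrapositive. -/
theorem exists_not_commute {G : Type*} [Group G] [Finite G] {p : ℕ} [Fact p.Prime] (P : Sylow p G)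
    (hn : ¬ Cfsg.HasNormalPComplement p G) :
    ∃ n ∈ Subgroup.normalizer ((P : Subgroup G) : Set G), ∃ z ∈ P, n * z ≠ z * n := by
  by_contra hcon
  push Not at hcon
  apply hn
  have hP : Subgroup.normalizer ((P : Subgroup G) : Set G) ≤
      Subgroup.centralizer ((P : Subgroup G) : Set G) := by
    intro n hn'
    rw [Subgroup.mem_centralizer_iff]
    intro z hz
    exact (hcon n hn' z hz).symm
  exact ⟨P, (MonoidHom.transferSylow P hP).ker, inferInstance,
    MonoidHom.ker_transferSylow_isComplement' P hP⟩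

/-- The order of an element of a `p'`-subgroup is prime to `p`. -/
theorem coprime_orderOf_of_mem {G : Type*} [Group G] {p : ℕ} [Fact p.Prime] {L : Subgroup G}
    [Finite ↥L] (hL : ¬ p ∣ Nat.card ↥L) {m : G} (hm : m ∈ L) : (orderOf m).Coprime p := by
  have h1 : orderOf m ∣ Nat.card ↥L := by
    have := orderOf_dvd_natCard (⟨m, hm⟩ : ↥L)
    rwa [Subgroup.orderOf_mk] at this
  have hp : p.Prime := Fact.out
  exact (Nat.Coprime.symm ((Nat.Prime.coprime_iff_not_dvd hp).2 fun h => hL (h.trans h1)))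

/-- If `L` normalizes `P`, every element of `P ⊔ L` is a product `a * m`. -/
theorem mem_sup_decomp {G : Type*} [Group G] {P L : Subgroup G}
    (hnorm : ∀ m ∈ L, ∀ a ∈ P, m * a * m⁻¹ ∈ P) {x : G} (hx : x ∈ P ⊔ L) :
    ∃ a ∈ P, ∃ m ∈ L, x = a * m := by
  rw [Subgroup.sup_eq_closure] at hx
  induction hx using Subgroup.closure_induction with
  | mem x hx =>
    rcases hx with hx | hx
    · exact ⟨x, hx, 1, L.one_mem, (mul_one x).symm⟩
    · exact ⟨1, P.one_mem, x, hx, (one_mul x).symm⟩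
  | one => exact ⟨1, P.one_mem, 1, L.one_mem, (mul_one 1).symm⟩
  | mul x y _ _ hx hy =>
    obtain ⟨a, ha, m, hm, rfl⟩ := hx
    obtain ⟨b, hb, m', hm', rfl⟩ := hy
    refine ⟨a * (m * b * m⁻¹), P.mul_mem ha (hnorm m hm b hb), m * m', L.mul_mem hm hm', ?_⟩
    group
  | inv x _ hx =>
    obtain ⟨a, ha, m, hm, rfl⟩ := hx
    refine ⟨m⁻¹ * a⁻¹ * m⁻¹⁻¹, hnorm m⁻¹ (L.inv_mem hm) a⁻¹ (P.inv_mem ha), m⁻¹, L.inv_mem hm, ?_⟩
    group

/-- Step 1–2: the complement `L` and the fixed-point-free element `l`. -/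
theorem exists_L_l {G : Type*} [Group G] [Finite G] {p : ℕ} [Fact p.Prime] (P : Sylow p G)
    (hcyc : IsCyclic ↥P) (hn : ¬ Cfsg.HasNormalPComplement p G) :
    ∃ (L : Subgroup G) (l : G), L ≤ Subgroup.normalizer ((P : Subgroup G) : Set G) ∧
      (P : Subgroup G) ⊓ L = ⊥ ∧
      (P : Subgroup G) ⊔ L = Subgroup.normalizer ((P : Subgroup G) : Set G) ∧
      ¬ p ∣ Nat.card ↥L ∧ l ∈ L ∧ (orderOf l).Coprime p ∧ ∀ y ∈ P, y ≠ 1 → l * y ≠ y * l := by
  obtain ⟨L, hLle, hdisj, hsup, hLcop⟩ := SZ P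
  obtain ⟨n, hnN, z, hz, hnz⟩ := exists_not_commute P hn
  have hPab : ∀ a ∈ P, ∀ b ∈ P, a * b = b * a := by
    intro a ha b hb
    have := (isMulCommutative_iff.1 hcyc.isMulCommutative) (⟨a, ha⟩ : ↥P) ⟨b, hb⟩
    exact congrArg Subtype.val this
  -- n = a * m
  have hnsup : n ∈ (P : Subgroup G) ⊔ L := hsup ▸ hnN
  have hPnorm : ∀ m ∈ L, ∀ a ∈ (P : Subgroup G), m * a * m⁻¹ ∈ (P : Subgroup G) := by
    intro m hm a ha
    have := hLle hm
    rw [Subgroup.mem_normalizer_iff] at this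
    exact (this a).1 ha
  have hdecomp : ∃ a ∈ (P : Subgroup G), ∃ m ∈ L, n = a * m :=
    mem_sup_decomp hPnorm hnsup
  obtain ⟨a, ha, m, hm, rfl⟩ := hdecomp
  have hmz : m * z ≠ z * m := by
    intro hc
    apply hnz
    calc a * m * z = a * (m * z) := by group
      _ = a * (z * m) := by rw [hc]
      _ = (a * z) * m := by group
      _ = (z * a) * m := by rw [hPab a ha z hz]
      _ = z * (a * m) := by group
  have hcop := coprime_orderOf_of_mem hLcop hm
  refine ⟨L, m, hLle, hdisj, hsup, hLcop, hm, hcop, ?_⟩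
  intro y hy hy1 hc
  exact hmz (CAL (P : Subgroup G) P.2 hcyc (hLle hm) hcop hy hy1 hc z hz)

/-- `|H| * |K : H| = |K|` for `H ≤ K`. -/
theorem card_mul_relIndex_of_le {G : Type*} [Group G] {H K : Subgroup G} (h : H ≤ K) :
    Nat.card ↥H * H.relIndex K = Nat.card ↥K := by
  have := Subgroup.relIndex_mul_relIndex (⊥ : Subgroup G) H K bot_le h
  rwa [Subgroup.relIndex_bot_left, Subgroup.relIndex_bot_left] at this

/-- A proper subgroup has smaller order. -/
theorem card_lt_of_ne_top {G : Type*} [Group G] [Finite G] {X : Subgroup G} (hX : X ≠ ⊤) :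
    Nat.card ↥X < Nat.card G :=
  lt_of_le_of_ne X.card_le_card_group fun h => hX (X.eq_top_of_card_eq h)

/-- Normal subgroups with the conclusion of S4016, in a group without normal `p'`-subgroups. -/
theorem nsub {G : Type*} [Group G] [Finite G] {p : ℕ} [Fact p.Prime]
    (hL3 : ∀ N : Subgroup G, N.Normal → ¬ p ∣ Nat.card ↥N → N = ⊥)
    (M : Subgroup G) (hM : M.Normal) (hC : Concl p ↥M) :
    ∃ Q : Subgroup G, Q.Normal ∧ IsPGroup p ↥Q ∧ Q ≤ M ∧ ¬ p ∣ Q.relIndex M := by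
  have hp : p.Prime := Fact.out
  rcases SUBC M hC with ⟨K, hKM, hnorm, hKp, n, hn⟩ | ⟨Q, hQM, hnorm, hQp, hQi⟩
  · have hcop : (Nat.card ↥K).Coprime (K.relIndex M) := by
      rw [hn]
      exact Nat.Coprime.pow_right n
        (Nat.Coprime.symm ((Nat.Prime.coprime_iff_not_dvd hp).2 hKp))
    have hKn : K.Normal := HALL M K hM hKM hnorm hcop
    have hK1 : K = ⊥ := hL3 K hKn hKp
    subst hK1
    rw [Subgroup.relIndex_bot_left] at hn
    refine ⟨M, hM, IsPGroup.of_card hn, le_rfl, ?_⟩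
    rw [Subgroup.relIndex_self]
    exact hp.one_lt.ne' ∘ Nat.dvd_one.1
  · obtain ⟨k, hk⟩ := hQp.exists_card_eq
    have hcop : (Nat.card ↥Q).Coprime (Q.relIndex M) := by
      rw [hk]
      exact Nat.Coprime.pow_left k ((Nat.Prime.coprime_iff_not_dvd hp).2 hQi)
    exact ⟨Q, HALL M Q hM hQM hnorm hcop, hQp, hQM, hQi⟩

/-- Steps 1–6: a minimal counterexample has the configuration `Cfg`. -/
theorem exists_cfg {G : Type u} [Group G] [Finite G] {p : ℕ} [Fact p.Prime] (hH : Hyp p G)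
    (hC : ¬ Concl p G)
    (ih : ∀ (K : Type u) [Group K] [Finite K], Nat.card K < Nat.card G → Hyp p K → Concl p K) :
    ∃ (P : Sylow p G) (L : Subgroup G) (l : G), Cfg p P L l := by
  have hp : p.Prime := Fact.out
  obtain ⟨P⟩ : Nonempty (Sylow p G) := inferInstance
  have hcyc : IsCyclic ↥P := hH.1 P
  have hnpc : ¬ Cfsg.HasNormalPComplement p G := fun h => hC (Or.inl h)
  have hnotNormal : ¬ (P : Subgroup G).Normal := fun h => hC (concl_of_normal P h)
  obtain ⟨L, l, hLle, hdisj, hsup, hLcop, hlL, hcop, hfpf⟩ := exists_L_l P hcyc hnpc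
  have hl : l ∈ Subgroup.normalizer ((P : Subgroup G) : Set G) := hLle hlL
  have hPab : ∀ a ∈ P, ∀ b ∈ P, a * b = b * a := by
    intro a ha b hb
    have := (isMulCommutative_iff.1 hcyc.isMulCommutative) (⟨a, ha⟩ : ↥P) ⟨b, hb⟩
    exact congrArg Subtype.val this
  -- proper subgroups satisfy the conclusion
  have hsub : ∀ X : Subgroup G, X ≠ ⊤ → Concl p ↥X := fun X hX =>
    ih ↥X (card_lt_of_ne_top hX) (SUBH hH X)
  have hmax : ∀ X : Subgroup G, X ≠ ⊤ → (P : Subgroup G) ≤ X → l ∈ X →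
      X ≤ Subgroup.normalizer ((P : Subgroup G) : Set G) := fun X hX hPX hlX =>
    MAXSUB P l hl hcop hfpf X hPX hlX (SUBC X (hsub X hX))
  -- no normal p'-subgroups
  have hL3 : ∀ N : Subgroup G, N.Normal → ¬ p ∣ Nat.card ↥N → N = ⊥ := by
    intro N hN hNp
    by_contra hN1
    have hcent := NOPP P hPab hH.2 l hl hcop hfpf N hNp
    have hq : Hyp p (G ⧸ N) := QUOTH hH N hNp
    have hlt : Nat.card (G ⧸ N) < Nat.card G := by
      have h1 := Subgroup.card_eq_card_quotient_mul_card_subgroup N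
      have h2 : 1 < Nat.card ↥N := (Subgroup.one_lt_card_iff_ne_bot N).2 hN1
      have h3 : 0 < Nat.card (G ⧸ N) := Nat.card_pos
      rw [h1]
      nlinarith
    exact hC (QUOTC N hNp P hcent (ih (G ⧸ N) hlt hq))
  -- no normal p-subgroups
  have hL4 : ∀ Q : Subgroup G, Q.Normal → IsPGroup p ↥Q → Q = ⊥ := by
    intro Q hQn hQp
    by_contra hQ1
    obtain ⟨C, hCn, hPC, hlC⟩ := OMEGA P hcyc l hfpf Q hQp hQ1
    have hCtop : C ≠ ⊤ := fun h => hlC (h ▸ Subgroup.mem_top l)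
    obtain ⟨Q', hQ'n, hQ'p, hQ'C, hQ'i⟩ := nsub hL3 C hCn (hsub C hCtop)
    have hQ'P : Q' ≤ (P : Subgroup G) := hQ'p.le_sylow_of_normal P
    have h1 : Nat.card ↥(P : Subgroup G) ∣ Nat.card ↥C := Subgroup.card_dvd_of_le hPC
    rw [← card_mul_relIndex_of_le hQ'C] at h1
    obtain ⟨a, ha⟩ := P.2.exists_card_eq
    have h2 : Nat.card ↥(P : Subgroup G) ∣ Nat.card ↥Q' := by
      refine (Nat.Coprime.dvd_mul_right ?_).1 h1
      rw [ha]
      exact Nat.Coprime.pow_left a ((Nat.Prime.coprime_iff_not_dvd hp).2 hQ'i)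
    have h3 : Q' = (P : Subgroup G) :=
      Subgroup.eq_of_le_of_card_ge hQ'P (Nat.le_of_dvd Nat.card_pos h2)
    exact hnotNormal (h3 ▸ hQ'n)
  -- simplicity
  have hsimple : ∀ M : Subgroup G, M.Normal → M = ⊥ ∨ M = ⊤ := by
    intro M hM
    by_cases hMtop : M = ⊤
    · exact Or.inr hMtop
    left
    obtain ⟨Q', hQ'n, hQ'p, hQ'M, hQ'i⟩ := nsub hL3 M hM (hsub M hMtop)
    have := hL4 Q' hQ'n hQ'p
    subst this
    rw [Subgroup.relIndex_bot_left] at hQ'i
    exact hL3 M hM hQ'i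
  exact ⟨P, L, l, ⟨hH.2, hcyc, hsimple, hnotNormal, hLle, hdisj, hsup, hLcop, hlL, hfpf, hmax⟩⟩

/-- Conjugation by an element normalizing a finite cyclic subgroup `P` raises each element of `P`
to a power. -/
theorem conj_eq_pow {G : Type*} [Group G] {P : Subgroup G} [Finite ↥P] (hcyc : IsCyclic ↥P)
    {e : G} (he : e ∈ Subgroup.normalizer (P : Set G)) {g : G} (hg : g ∈ P) :
    ∃ k : ℕ, e * g * e⁻¹ = g ^ k := by
  obtain ⟨c, hc⟩ := IsCyclic.exists_monoid_generator (α := ↥P)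
  obtain ⟨j, hj⟩ := hc ⟨g, hg⟩
  have hcc : e * (c : G) * e⁻¹ ∈ P := by
    rw [Subgroup.mem_normalizer_iff] at he
    exact (he c).1 c.2
  obtain ⟨k, hk⟩ := hc ⟨e * (c : G) * e⁻¹, hcc⟩
  have hj' : (c : G) ^ j = g := by
    have := congrArg Subtype.val hj
    simpa using this
  have hk' : (c : G) ^ k = e * (c : G) * e⁻¹ := by
    have := congrArg Subtype.val hk
    simpa using this
  refine ⟨k, ?_⟩
  rw [← hj', ← conj_pow, ← hk', ← pow_mul, ← pow_mul, mul_comm]

/-- The order of a conjugate. -/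
theorem orderOf_conj' {G : Type*} [Group G] (u v : G) : orderOf (u * v * u⁻¹) = orderOf v := by
  have := MulEquiv.orderOf_eq (MulAut.conj u) v
  rwa [MulAut.conj_apply] at this

section CfgLemmas

variable {G : Type*} [Group G] {p : ℕ} {P : Sylow p G}
  {L : Subgroup G} {l : G}

theorem Cfg.P_ne_bot (h : Cfg p P L l) : (P : Subgroup G) ≠ ⊥ := by
  intro hb
  apply h.notNormal
  rw [hb]
  infer_instance

theorem Cfg.nonab (h : Cfg p P L l) : ∃ a b : G, a * b ≠ b * a := by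
  by_contra hcon
  push Not at hcon
  apply h.notNormal
  refine ⟨fun n hn g => ?_⟩
  have : g * n * g⁻¹ = n := by rw [hcon g n]; group
  rwa [this]

variable [Finite G] [Fact p.Prime]

theorem Cfg.exists_orderOf_eq (h : Cfg p P L l) : ∃ g ∈ P, orderOf g = p := by
  have hdvd : p ∣ Nat.card ↥(P : Subgroup G) := by
    obtain ⟨k, hk⟩ := P.2.exists_card_eq
    have hk0 : k ≠ 0 := by
      intro h0
      rw [h0, pow_zero] at hk
      exact h.P_ne_bot ((P : Subgroup G).card_eq_one.1 hk)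
    rw [hk]
    exact dvd_pow_self p hk0
  obtain ⟨x, hx⟩ := exists_prime_orderOf_dvd_card' p hdvd
  exact ⟨x, x.2, (Subgroup.orderOf_coe x).trans hx⟩

theorem Cfg.p_ne_two (h : Cfg p P L l) : p ≠ 2 := by
  intro hp2
  obtain ⟨g, hgP, hgp⟩ := h.exists_orderOf_eq
  have hg1 : g ≠ 1 := by
    intro e
    rw [e, orderOf_one] at hgp
    exact (Fact.out : p.Prime).one_lt.ne hgp
  obtain ⟨k, hk⟩ := conj_eq_pow h.cyc (h.L_le h.l_mem) hgP
  rw [hp2] at hgp
  have hg2 : g ^ 2 = 1 := by rw [← hgp]; exact pow_orderOf_eq_one g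
  have hconj1 : l * g * l⁻¹ ≠ 1 := by
    intro e
    apply hg1
    have : g = l⁻¹ * (l * g * l⁻¹) * l := by group
    rw [this, e]; group
  have hkodd : g ^ k = g := by
    rcases Nat.even_or_odd' k with ⟨m, hm | hm⟩
    · exfalso
      apply hconj1
      rw [hk, hm, pow_mul, hg2, one_pow]
    · rw [hm, pow_succ, pow_mul, hg2, one_pow, one_mul]
  apply h.fpf g hgP hg1
  rw [hkodd] at hk
  calc l * g = (l * g * l⁻¹) * l := by group
    _ = g * l := by rw [hk]

end CfgLemmas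

/-- Conjugating a centralizer. -/
theorem mem_centralizer_conj_iff {G : Type*} [Group G] (u v w : G) :
    w ∈ Subgroup.centralizer ({u * v * u⁻¹} : Set G) ↔
      u⁻¹ * w * u⁻¹⁻¹ ∈ Subgroup.centralizer ({v} : Set G) := by
  rw [Subgroup.mem_centralizer_singleton_iff, Subgroup.mem_centralizer_singleton_iff]
  constructor
  · intro hw
    calc u⁻¹ * w * u⁻¹⁻¹ * v = u⁻¹ * (w * (u * v * u⁻¹)) * u := by group
      _ = u⁻¹ * ((u * v * u⁻¹) * w) * u := by rw [hw]
      _ = v * (u⁻¹ * w * u⁻¹⁻¹) := by group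
  · intro hw
    calc w * (u * v * u⁻¹) = u * ((u⁻¹ * w * u⁻¹⁻¹) * v) * u⁻¹ := by group
      _ = u * (v * (u⁻¹ * w * u⁻¹⁻¹)) * u⁻¹ := by rw [hw]
      _ = u * v * u⁻¹ * w := by group

section StepR

variable {G : Type*} [Group G] [Finite G] {p : ℕ} [Fact p.Prime] {P : Sylow p G}
  {L : Subgroup G} {l : G}

/-- If `v` and a conjugate `u v u⁻¹` are both nontrivial `p'`-elements of `C(P)`, then `u ∈ N(P)`. -/
theorem Cfg.mem_normalizer_of_conj (_h : Cfg p P L l)
    (hc3 : ∀ v ∈ Subgroup.centralizer ((P : Subgroup G) : Set G), (orderOf v).Coprime p → v ≠ 1 →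
      Subgroup.centralizer ({v} : Set G) = Subgroup.normalizer ((P : Subgroup G) : Set G))
    {u v : G} (hv : v ∈ Subgroup.centralizer ((P : Subgroup G) : Set G))
    (hvcop : (orderOf v).Coprime p) (hv1 : v ≠ 1)
    (hv' : u * v * u⁻¹ ∈ Subgroup.centralizer ((P : Subgroup G) : Set G)) :
    u ∈ Subgroup.normalizer ((P : Subgroup G) : Set G) := by
  have hCv := hc3 v hv hvcop hv1
  have hv'1 : u * v * u⁻¹ ≠ 1 := by
    intro e
    apply hv1
    have : v = u⁻¹ * (u * v * u⁻¹) * u := by group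
    rw [this, e]; group
  have hCv' := hc3 (u * v * u⁻¹) hv' (by rw [orderOf_conj']; exact hvcop) hv'1
  have hu : u⁻¹ ∈ Subgroup.normalizer
      ((Subgroup.normalizer ((P : Subgroup G) : Set G) : Subgroup G) : Set G) := by
    rw [Subgroup.mem_normalizer_iff]
    intro w
    rw [← hCv, ← mem_centralizer_conj_iff, hCv', hCv]
  have hNN : Subgroup.normalizer
      ((Subgroup.normalizer ((P : Subgroup G) : Set G) : Subgroup G) : Set G) =
      Subgroup.normalizer ((P : Subgroup G) : Set G) := Sylow.normalizer_normalizer P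
  rw [hNN] at hu
  simpa using Subgroup.inv_mem _ hu

/-- Step R: a prime order element of `L ⊓ C(P)` forces `p = 3` and `r = 2`. -/
theorem Cfg.stepR (h : Cfg p P L l)
    (hc1 : ∀ y ∈ P, y ≠ 1 →
      Subgroup.centralizer ({y} : Set G) = Subgroup.centralizer ((P : Subgroup G) : Set G))
    (hc3 : ∀ v ∈ Subgroup.centralizer ((P : Subgroup G) : Set G), (orderOf v).Coprime p → v ≠ 1 →
      Subgroup.centralizer ({v} : Set G) = Subgroup.normalizer ((P : Subgroup G) : Set G))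
    {r : ℕ} [Fact r.Prime] (x : G) (hxL : x ∈ L)
    (hxP : x ∈ Subgroup.centralizer ((P : Subgroup G) : Set G)) (hxr : orderOf x = r) :
    p = 3 ∧ r = 2 := by
  have hp : p.Prime := Fact.out
  have hr : r.Prime := Fact.out
  have hzr : IsPGroup r ↥(Subgroup.zpowers x) :=
    IsPGroup.of_card (n := 1) (by rw [Nat.card_zpowers, hxr, pow_one])
  obtain ⟨S, hS⟩ := hzr.exists_le_sylow
  have hxS : x ∈ S := hS (Subgroup.mem_zpowers x)
  obtain ⟨hSN, y, hyS, _, hyk⟩ := SYLR h hc1 hc3 x hxL hxP hxr S hxS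
  have hrp : r ≠ p := by
    have := coprime_orderOf_of_mem h.L_cop hxL
    rw [hxr] at this
    intro e
    rw [e, Nat.coprime_self] at this
    exact hp.one_lt.ne' this
  have hScop : ∀ v ∈ S, (orderOf v).Coprime p := by
    intro v hv
    obtain ⟨j, hj⟩ := (IsPGroup.iff_orderOf.1 S.2) ⟨v, hv⟩
    rw [Subgroup.orderOf_mk] at hj
    rw [hj]
    exact Nat.Coprime.pow_left j ((Nat.coprime_primes hr hp).2 hrp)
  have hSp : ¬ p ∣ Nat.card ↥(S : Subgroup G) := by
    obtain ⟨k, hk⟩ := S.2.exists_card_eq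
    rw [hk]
    intro hd
    exact hrp ((Nat.prime_dvd_prime_iff_eq hp hr).1 (hp.dvd_of_dvd_pow hd)).symm
  have hSab : ∀ a ∈ S, ∀ b ∈ S, a * b = b * a := h.hab S hSp
  obtain ⟨g, hgP, hgp⟩ := h.exists_orderOf_eq
  have hg1 : g ≠ 1 := by
    intro e
    rw [e, orderOf_one] at hgp
    exact hp.one_lt.ne hgp
  have hSg : ∀ e ∈ S, ∃ k : ℕ, e * g * e⁻¹ = g ^ k := fun e he =>
    conj_eq_pow h.cyc (hSN he) hgP
  have hxg : x * g = g * x := ((Subgroup.mem_centralizer_iff.1 hxP) g hgP).symm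
  have hCg : ∀ v : G, v * g = g * v → v ∈ Subgroup.centralizer ((P : Subgroup G) : Set G) := by
    intro v hv
    rw [← hc1 g hgP hg1, Subgroup.mem_centralizer_singleton_iff]
    exact hv
  have hdisj : ∀ k : ℕ, 0 < k → k < p → ∀ v ∈ S, v ≠ 1 → v * g = g * v →
      ¬ (y ^ k * v * (y ^ k)⁻¹) * g = g * (y ^ k * v * (y ^ k)⁻¹) := by
    intro k hk0 hkp v hvS hv1 hvg hcon
    exact hyk k hk0 hkp
      (h.mem_normalizer_of_conj hc3 (hCg v hvg) (hScop v hvS) hv1 (hCg _ hcon))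
  exact CNT S S.2 hSab g hgp hSg x hxS hxr hxg y hyS hdisj

end StepR

/-- Stage B: the configuration `Cfg` is contradictory. -/
theorem Cfg.false {G : Type*} [Group G] [Finite G] {p : ℕ} [Fact p.Prime] {P : Sylow p G}
    {L : Subgroup G} {l : G} (h : Cfg p P L l) : False := by
  have hp : p.Prime := Fact.out
  obtain ⟨_, hTI2, hTI3⟩ := TI h
  have hCAL : ∀ m ∈ Subgroup.normalizer ((P : Subgroup G) : Set G), (orderOf m).Coprime p →
      ∀ y ∈ P, y ≠ 1 → m * y = y * m → ∀ z ∈ P, m * z = z * m :=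
    fun m hm hc y hy hy1 hmy => CAL (P : Subgroup G) P.2 h.cyc hm hc hy hy1 hmy
  obtain ⟨hc1, hc2, hc3, _⟩ := CENT h hCAL hTI2
  by_cases hL0 : L ⊓ Subgroup.centralizer ((P : Subgroup G) : Set G) = ⊥
  · exact CAFIN hp h.p_ne_two h.hab h.simple h.nonab (CA h hc1 hc2 hL0)
      (fun F _ _ _ hab' hs' => DIH hp h.p_ne_two hab' hs')
  · have hcard : Nat.card ↥(L ⊓ Subgroup.centralizer ((P : Subgroup G) : Set G)) ≠ 1 :=
      fun e => hL0 (Subgroup.card_eq_one.1 e)
    obtain ⟨r, hr, hrd⟩ := Nat.exists_prime_and_dvd hcard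
    have := Fact.mk hr
    obtain ⟨x, hx⟩ := exists_prime_orderOf_dvd_card' r hrd
    have hxr : orderOf (x : G) = r := (Subgroup.orderOf_coe x).trans hx
    obtain ⟨hp3, _⟩ := h.stepR hc1 hc3 (x : G) x.2.1 x.2.2 hxr
    subst hp3
    have hr2 : ∀ x ∈ L ⊓ Subgroup.centralizer ((P : Subgroup G) : Set G), (orderOf x).Prime →
        orderOf x = 2 := by
      intro x hx hxp
      have := Fact.mk hxp
      exact (h.stepR hc1 hc3 x hx.1 hx.2 rfl).2
    have hS : ∀ x ∈ L ⊓ Subgroup.centralizer ((P : Subgroup G) : Set G), orderOf x = 2 →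
        ∀ S : Sylow 2 G, x ∈ S →
          (S : Subgroup G) ≤ Subgroup.normalizer ((P : Subgroup G) : Set G) ∧
          ∃ y ∈ Subgroup.normalizer ((S : Subgroup G) : Set G), orderOf y = 3 ∧
            ∀ k : ℕ, 0 < k → k < 3 → y ^ k ∉ Subgroup.normalizer ((P : Subgroup G) : Set G) := by
      intro x hx hx2 S hxS
      exact SYLR h hc1 hc3 x hx.1 hx.2 hx2 S hxS
    obtain ⟨hL4, hL2, hsyl, y, hyL, hy3, hyk⟩ := V4A h hc1 hc3 hL0 hr2 hS
    obtain ⟨t, s, ht, hs, hts, hne, htP, hsP, hCt, hNP, hconj⟩ :=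
      V4B h hc1 hc3 hL4 hL2 hsyl y hyL hy3 hyk
    exact BSWFIN h.hab P h.cyc h.P_ne_bot t s ht hs hts hne htP hsP hCt hNP hTI3 hconj

/-- The minimal counterexample does not exist. -/
theorem minimal_false {G : Type u} [Group G] [Finite G] {p : ℕ} [Fact p.Prime] (hH : Hyp p G)
    (hC : ¬ Concl p G)
    (ih : ∀ (K : Type u) [Group K] [Finite K], Nat.card K < Nat.card G → Hyp p K → Concl p K) :
    False := by
  obtain ⟨P, L, l, h⟩ := exists_cfg hH hC ih
  exact h.false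

/-- **S4016**, in the `Hyp`/`Concl` form. -/
theorem main {p : ℕ} [Fact p.Prime] :
    ∀ (n : ℕ) (G : Type u) [Group G] [Finite G], Nat.card G = n → Hyp p G → Concl p G := by
  intro n
  induction n using Nat.strong_induction_on with
  | _ n ih =>
    intro G _ _ hn hH
    by_contra hC
    exact minimal_false hH hC (fun K _ _ hlt hK => ih (Nat.card K) (hn ▸ hlt) K rfl hK)

end Cfsg.Agent.Lib.Helper87_S4016
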