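import Mathlib
import Cfsg.Agent.S0799
import Cfsg.Agent.S0253
import Cfsg.Agent.Lib.Helper50_DkOrders
import Cfsg.Agent.Lib.Helper50_PgBasic
import Cfsg.Agent.Lib.Helper41_Subfield

/-!
# Package PK-D of S4504 (architect helper57): `dickson_finish` (helper87)

A perfect subgroup `H` of `PSL_2(k)` (`k` finite of characteristic `p ≥ 5`) whose order is divisible
by `p` exactly once and whose Sylow `p`-subgroups are not normal is isomorphic to `PSL_2(p)`.

We go through Dickson's list (`Cfsg.Agent.S0799.result`):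
* cyclic and dihedral groups are not perfect;
* a subgroup of the normaliser of a Sylow `p`-subgroup has a normal Sylow `p`-subgroup;
* `A_4`, `S_4` have orders prime to `p`, and `A_5` only occurs for `p = 5`, where `A_5 ≅ PSL_2(5)`
  (`Cfsg.Agent.S0253.result`);
* `PSL_2(K)`, `PGL_2(K)`: `|K|` divides the order, so `|K| = p`; `PGL_2(K)` has a subgroup of
  index `2` and is not perfect.
-/

set_option autoImplicit false
set_option linter.unusedSectionVars false
set_option linter.unusedVariables false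
set_option linter.unusedSimpArgs false

namespace Cfsg.Agent.Lib.Helper87_S4504_D

open scoped MatrixGroups

section perfect

variable {G : Type*} [Group G]

/-- a perfect group has only trivial homomorphisms into commutative groups -/
theorem hom_eq_one_of_perfect (hperf : commutator G = ⊤) {A : Type*} [CommGroup A] (f : G →* A)
    (g : G) : f g = 1 := by
  have h1 : commutator G ≤ f.ker := Abelianization.commutator_subset_ker f
  rw [hperf] at h1
  exact MonoidHom.mem_ker.mp (h1 (Subgroup.mem_top g))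

/-- perfectness is transported by isomorphisms -/
theorem perfect_of_equiv {G' : Type*} [Group G'] (e : G ≃* G') (hperf : commutator G = ⊤) :
    commutator G' = ⊤ := by
  have h1 : (commutator G).map e.toMonoidHom = commutator G' := by
    rw [commutator_def, commutator_def, Subgroup.map_commutator]
    have h2 : (⊤ : Subgroup G).map e.toMonoidHom = ⊤ := by
      rw [← MonoidHom.range_eq_map]
      exact MonoidHom.range_eq_top.mpr e.surjective
    rw [h2]
  rw [← h1, hperf, ← MonoidHom.range_eq_map]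
  exact MonoidHom.range_eq_top.mpr e.surjective

/-- a perfect commutative group is trivial -/
theorem card_eq_one_of_perfect_of_comm (hperf : commutator G = ⊤)
    (hcomm : ∀ a b : G, a * b = b * a) : Nat.card G = 1 := by
  let _ : CommGroup G := { (inferInstance : Group G) with mul_comm := hcomm }
  have h1 : ∀ g : G, g = 1 := fun g => hom_eq_one_of_perfect hperf (MonoidHom.id G) g
  have : Subsingleton G := ⟨fun a b => by rw [h1 a, h1 b]⟩
  exact Nat.card_unique

end perfect

section dihedral

/-- the sign character of a dihedral group -/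
def dihedralSign (n : ℕ) : DihedralGroup n →* ℤˣ :=
  MonoidHom.mk' (fun g => match g with
    | DihedralGroup.r _ => 1
    | DihedralGroup.sr _ => -1) (by
      intro a b
      cases a <;> cases b <;> simp [DihedralGroup.r_mul_r, DihedralGroup.r_mul_sr,
        DihedralGroup.sr_mul_r, DihedralGroup.sr_mul_sr])

theorem dihedralSign_sr (n : ℕ) (i : ZMod n) : dihedralSign n (DihedralGroup.sr i) = -1 := rfl

/-- dihedral groups are not perfect -/
theorem dihedral_not_perfect (n : ℕ) : commutator (DihedralGroup n) ≠ ⊤ := by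
  intro h
  have h1 := hom_eq_one_of_perfect h (dihedralSign n) (DihedralGroup.sr 0)
  rw [dihedralSign_sr] at h1
  have h2 := congrArg (fun u : ℤˣ => (u : ℤ)) h1
  norm_num at h2

end dihedral

section sylow

variable {G : Type*} [Group G] [Finite G] (p : ℕ) [Fact p.Prime]

/-- a `p`-element normalizing a Sylow `p`-subgroup lies in it -/
theorem mem_sylow_of_mem_normalizer (P : Sylow p G) (x : G) (hx : IsPGroup p (Subgroup.zpowers x))
    (hxN : x ∈ Subgroup.normalizer ((P : Subgroup G) : Set G)) : x ∈ (P : Subgroup G) := by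
  have h1 : Subgroup.zpowers x ≤ Subgroup.normalizer ((P : Subgroup G) : Set G) := by
    rw [Subgroup.zpowers_le]; exact hxN
  have h2 : IsPGroup p (Subgroup.zpowers x ⊔ (P : Subgroup G) : Subgroup G) :=
    IsPGroup.to_sup_of_normal_right' hx P.isPGroup' h1
  have h3 : (Subgroup.zpowers x ⊔ (P : Subgroup G) : Subgroup G) = P :=
    P.is_maximal' h2 le_sup_right
  rw [← h3]
  exact (le_sup_left : Subgroup.zpowers x ≤ _) (Subgroup.mem_zpowers x)

/-- the exponent of `p` in a number divisible by `p` exactly once -/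
theorem factorization_eq_one {n : ℕ} (hn : n ≠ 0) (h1 : p ∣ n) (h2 : ¬ p ^ 2 ∣ n) :
    n.factorization p = 1 := by
  have hp : p.Prime := Fact.out
  have h3 : 1 ≤ n.factorization p := (hp.pow_dvd_iff_le_factorization hn).mp (by simpa using h1)
  have h4 : ¬ 2 ≤ n.factorization p := fun h => h2 ((hp.pow_dvd_iff_le_factorization hn).mpr h)
  omega

/-- a group isomorphic to a subgroup of the normalizer of a Sylow `p`-subgroup, of order divisible
by `p` exactly once, has a normal Sylow `p`-subgroup -/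
theorem exists_normal_sylow_of_equiv {G' : Type*} [Group G'] [Finite G'] (P : Sylow p G)
    (K : Subgroup G) (hK : K ≤ Subgroup.normalizer ((P : Subgroup G) : Set G)) (e : G' ≃* K)
    (hp1 : p ∣ Nat.card G') (hp2 : ¬ p ^ 2 ∣ Nat.card G') :
    ∃ Q : Sylow p G', (Q : Subgroup G').Normal := by
  have hpp : p.Prime := Fact.out
  have hcard : Nat.card G' = Nat.card K := Nat.card_congr e.toEquiv
  set R : Subgroup K := (P : Subgroup G).subgroupOf K with hR
  have hRn : R.Normal := by
    constructor
    intro r hr k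
    rw [hR, Subgroup.mem_subgroupOf] at hr ⊢
    have hk := (Subgroup.mem_normalizer_iff.mp (hK k.2)) (r : G)
    simpa using hk.mp hr
  have hRp : IsPGroup p R := P.isPGroup'.comap_subtype
  obtain ⟨j, hj⟩ := IsPGroup.iff_card.mp hRp
  have hdvd : Nat.card R ∣ Nat.card K := Subgroup.card_subgroup_dvd_card R
  -- an element of order `p` of `K` lies in `R`
  obtain ⟨x, hx⟩ := exists_prime_orderOf_dvd_card' p (hcard ▸ hp1)
  have hxP : (x : G) ∈ (P : Subgroup G) := by
    apply mem_sylow_of_mem_normalizer p P (x : G) _ (hK x.2)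
    apply IsPGroup.of_card (n := 1)
    rw [Nat.card_zpowers, Subgroup.orderOf_coe, hx, pow_one]
  have hxR : x ∈ R := by
    rw [hR, Subgroup.mem_subgroupOf]
    exact hxP
  have hj1 : j = 1 := by
    have hj0 : j ≠ 0 := by
      intro h0
      rw [h0, pow_zero] at hj
      have hbot : R = ⊥ := Subgroup.card_eq_one.mp hj
      rw [hbot, Subgroup.mem_bot] at hxR
      rw [hxR, orderOf_one] at hx
      exact hpp.one_lt.ne hx
    have hj2 : ¬ 2 ≤ j := by
      intro h2
      apply hp2
      rw [hcard]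
      exact dvd_trans (pow_dvd_pow p h2) (hj ▸ hdvd)
    omega
  rw [hj1, pow_one] at hj
  -- transport to `G'`
  set S : Subgroup G' := R.comap e.toMonoidHom with hS
  have hSn : S.Normal := hRn.comap e.toMonoidHom
  have hScard : Nat.card S = p := by
    rw [hS, Subgroup.comap_equiv_eq_map_symm', ← hj]
    exact Subgroup.card_map_of_injective e.symm.injective
  have hfac : (Nat.card G').factorization p = 1 :=
    factorization_eq_one p Nat.card_pos.ne' hp1 hp2
  refine ⟨Sylow.ofCard S (by rw [hScard, hfac, pow_one]), ?_⟩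
  exact hSn

end sylow

section index_two

/-- a subgroup of index two contains the commutator subgroup -/
theorem commutator_le_of_index_two {G : Type*} [Group G] (L : Subgroup G) (h : L.index = 2) :
    commutator G ≤ L := by
  have hn : L.Normal := Subgroup.normal_of_index_eq_two h
  have hc : Nat.card (G ⧸ L) = 2 := h
  have : Fact (Nat.Prime 2) := ⟨Nat.prime_two⟩
  have hcyc : IsCyclic (G ⧸ L) := isCyclic_of_prime_card hc
  let _ : CommGroup (G ⧸ L) := IsCyclic.commGroup
  have h1 := Abelianization.commutator_subset_ker (QuotientGroup.mk' L)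
  rwa [QuotientGroup.ker_mk'] at h1

end index_two

section arithmetic

variable {p : ℕ} [Fact p.Prime]

theorem not_dvd_24 (hp5 : 5 ≤ p) : ¬ p ∣ 24 := by
  intro h
  have hpp : p.Prime := Fact.out
  have h1 : p ∣ Nat.factorial 4 := h
  have h2 := (hpp.dvd_factorial).mp h1
  omega

theorem eq_five_of_dvd_60 (hp5 : 5 ≤ p) (h : p ∣ 60) : p = 5 := by
  have hpp : p.Prime := Fact.out
  have h1 : p ∣ Nat.factorial 5 := dvd_trans h ⟨2, rfl⟩
  have h2 := (hpp.dvd_factorial).mp h1
  omega

end arithmetic

section fields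

variable {p : ℕ} [Fact p.Prime]

/-- `PSL_2(K) ≅ PSL_2(p)` for a field `K` with `p` elements -/
theorem psl_equiv_of_card {K : Type*} [Field K] [Fintype K] (hK : Fintype.card K = p) :
    Nonempty (PSL(2, K) ≃* PSL(2, ZMod p)) := by
  obtain ⟨ι⟩ := Cfsg.Agent.Lib.Helper41_Subfield.exists_ringHom (F := ZMod p) (K := K) 1
    (by rw [pow_one, hK, ZMod.card])
  obtain ⟨H, ⟨e⟩⟩ := Cfsg.Agent.Lib.Helper41_Subfield.exists_psl_embed ι
  have h1 := Cfsg.Agent.Lib.Helper50_DkOrders.card_PSL2 (F := K)
  have h2 := Cfsg.Agent.Lib.Helper50_DkOrders.card_PSL2 (F := ZMod p)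
  rw [hK] at h1
  rw [ZMod.card] at h2
  have hcard : Nat.card PSL(2, K) = Nat.card PSL(2, ZMod p) := by
    have hpos : 0 < Nat.gcd 2 (p - 1) := Nat.gcd_pos_of_pos_left _ (by norm_num)
    exact Nat.eq_of_mul_eq_mul_right hpos (h1.trans h2.symm)
  have hH : H = ⊤ := Subgroup.eq_top_of_card_eq H (by rw [Nat.card_congr e.toEquiv, hcard])
  rw [hH] at e
  exact ⟨e.symm.trans Subgroup.topEquiv⟩

variable {k : Type*} [Field k] [Fintype k] [CharP k p]

/-- a finite field whose order has a power equal to the order of a field of characteristic `p` has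
characteristic `p` -/
theorem card_eq_prime_pow {K : Type*} [Field K] [Fintype K] (m : ℕ)
    (hm : Fintype.card K ^ m = Fintype.card k) :
    ∃ n : ℕ, 0 < n ∧ Fintype.card K = p ^ n ∧ CharP K p := by
  have hpp : p.Prime := Fact.out
  obtain ⟨p', hp'⟩ := CharP.exists K
  have hp'p : Fact p'.Prime := ⟨CharP.char_is_prime K p'⟩
  obtain ⟨n, hp'n, hKn⟩ := FiniteField.card K p'
  obtain ⟨a, hpa, hka⟩ := FiniteField.card k p
  have h1 : p ∣ Fintype.card K ^ m := by
    rw [hm, hka]
    exact dvd_pow_self p a.ne_zero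
  have h2 : p ∣ Fintype.card K := hpp.dvd_of_dvd_pow h1
  rw [hKn] at h2
  have h3 : p ∣ p' := hpp.dvd_of_dvd_pow h2
  have h4 : p = p' := (Nat.prime_dvd_prime_iff_eq hpp hp'n).mp h3
  subst h4
  exact ⟨n, n.pos, hKn, hp'⟩

end fields

section main

variable {k : Type*} [Field k] [Fintype k] {p : ℕ} [Fact p.Prime] [CharP k p]

/-- PK-D -/
theorem dickson_finish
    (hp5 : 5 ≤ p) (H : Subgroup (Matrix.ProjectiveSpecialLinearGroup (Fin 2) k))
    (hperf : commutator H = ⊤) (hpdvd : p ∣ Nat.card H) (hsyl : ¬ p ^ 2 ∣ Nat.card H)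
    (hnn : ∀ P : Sylow p H, ¬ (P : Subgroup H).Normal) :
    Nonempty (H ≃* Matrix.ProjectiveSpecialLinearGroup (Fin 2) (ZMod p)) := by
  have hpp : p.Prime := Fact.out
  rcases Cfsg.Agent.S0799.result (F := k) (q := Fintype.card k) rfl p H with
    ⟨n, -, ⟨hcyc, -⟩ | ⟨⟨e⟩⟩⟩ | ⟨P, K, hK, ⟨e⟩⟩ | ⟨⟨e⟩⟩ | ⟨⟨e⟩⟩ | ⟨⟨e⟩⟩ |
      ⟨K, _, _, m, hm, ⟨⟨e⟩⟩ | ⟨⟨e⟩⟩⟩
  · -- cyclic
    exfalso
    have hcomm : ∀ a b : H, a * b = b * a := by
      let _ : CommGroup H := IsCyclic.commGroup
      exact mul_comm
    have h1 := card_eq_one_of_perfect_of_comm hperf hcomm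
    rw [h1] at hpdvd
    exact hpp.one_lt.ne' (Nat.dvd_one.mp hpdvd)
  · -- dihedral
    exact absurd (perfect_of_equiv e hperf) (dihedral_not_perfect n)
  · -- inside the normalizer of a Sylow subgroup
    exfalso
    obtain ⟨Q, hQ⟩ := exists_normal_sylow_of_equiv p P K hK e hpdvd hsyl
    exact hnn Q hQ
  · -- A4
    exfalso
    rw [Nat.card_congr e.toEquiv, Cfsg.Agent.Lib.Helper50_DkOrders.card_A4] at hpdvd
    exact not_dvd_24 hp5 (dvd_trans hpdvd ⟨2, rfl⟩)
  · -- S4
    exfalso
    rw [Nat.card_congr e.toEquiv, Cfsg.Agent.Lib.Helper50_DkOrders.card_S4] at hpdvd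
    exact not_dvd_24 hp5 hpdvd
  · -- A5
    rw [Nat.card_congr e.toEquiv, Cfsg.Agent.Lib.Helper50_DkOrders.card_A5] at hpdvd
    have h5 := eq_five_of_dvd_60 hp5 hpdvd
    subst h5
    obtain ⟨e'⟩ := Cfsg.Agent.S0253.result (F := ZMod 5) (ZMod.card 5)
    exact ⟨e.trans e'.symm⟩
  · -- PSL_2(K)
    obtain ⟨n, hn0, hKn, hKp⟩ := card_eq_prime_pow (p := p) (k := k) m hm
    have h1 := Cfsg.Agent.Lib.Helper50_DkOrders.card_PSL2 (F := K)
    rw [← Nat.card_congr e.toEquiv, hKn] at h1
    have hn1 : n = 1 := by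
      by_contra hne
      have hn2 : 2 ≤ n := by omega
      apply hsyl
      have h2 : p ^ 2 ∣ Nat.card H * Nat.gcd 2 (p ^ n - 1) := by
        rw [h1]
        exact dvd_mul_of_dvd_left (pow_dvd_pow p hn2) _
      have hcop : Nat.Coprime (p ^ 2) (Nat.gcd 2 (p ^ n - 1)) := by
        apply Nat.Coprime.pow_left
        apply Nat.Coprime.coprime_dvd_right (Nat.gcd_dvd_left 2 _)
        rw [Nat.coprime_primes hpp Nat.prime_two]
        omega
      exact hcop.dvd_of_dvd_mul_right h2
    rw [hn1, pow_one] at hKn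
    obtain ⟨e'⟩ := psl_equiv_of_card (p := p) hKn
    exact ⟨e.trans e'⟩
  · -- PGL_2(K)
    exfalso
    obtain ⟨n, hn0, hKn, hKp⟩ := card_eq_prime_pow (p := p) (k := k) m hm
    have h2 : (2 : K) ≠ 0 := by
      intro h
      have h3 : ((2 : ℕ) : K) = 0 := by exact_mod_cast h
      have h4 := (CharP.cast_eq_zero_iff K p 2).mp h3
      have := Nat.le_of_dvd (by norm_num) h4
      omega
    have hperf' := perfect_of_equiv e hperf
    have h5 := commutator_le_of_index_two _ (Cfsg.Agent.Lib.Helper50_PgBasic.index_LL (F := K) h2)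
    rw [hperf'] at h5
    exact Cfsg.Agent.Lib.Helper50_PgBasic.LL_ne_top (F := K) h2 (top_le_iff.mp h5)

end main

end Cfsg.Agent.Lib.Helper87_S4504_D
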