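import Cfsg.Agent.Lib.Helper87_TateFusion2
import Cfsg.Agent.Lib.Helper87_GTFinal
import Cfsg.Agent.Lib.Helper87_GTMain
import Cfsg.Agent.Lib.Helper87_Henke
import Cfsg.Agent.Lib.Helper85_Fusion
import Cfsg.Agent.Lib.Helper88_Model
import Cfsg.Agent.Lib.Helper1_ZJFunctor
import Cfsg.Agent.S5098
import Cfsg.Agent.S5132
import Cfsg.Agent.S5133
import Cfsg.Agent.S5134

/-!
Sparse fusion systems (helper87).  A saturated system `F` over `S` is sparse if it is not the inner system and its
only saturated subsystems over `S` are `F` and the inner system.  Following Glesser, a sparse system for which a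
normal `p`-complement criterion of Thompson type is available (for the system and for its quotients by normal
subgroups) is constrained: the largest normal subgroup `X` of `F` is nontrivial by the criterion, and if `X` were not
centric then either `X C_S(X)` or the preimage of a subgroup given by the criterion in `F / X` would be a larger
normal subgroup.
-/

set_option autoImplicit false
set_option linter.style.haveILetI false

universe u

namespace Cfsg.Agent.Lib.Helper87_Sparse

open Cfsg Cfsg.FusionSystem Cfsg.Agent.Lib Cfsg.Agent.Lib.Helper87_Alperin Cfsg.Agent.Lib.Helper87_Alperin2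
  Cfsg.Agent.Lib.Helper87_Normal Cfsg.Agent.Lib.Helper87_Factor Cfsg.Agent.Lib.Helper87_Factor2
  Cfsg.Agent.Lib.Helper87_PInner Cfsg.Agent.Lib.Helper87_GTCentric Cfsg.Agent.Lib.Helper87_GTFunctor
  Cfsg.Agent.Lib.Helper87_GTQuot Cfsg.Agent.Lib.Helper87_GTModel Cfsg.Agent.Lib.Helper87_GTMain
  Cfsg.Agent.Lib.Helper87_GTFinal Cfsg.Agent.Lib.Helper87_Henke Cfsg.Agent.Lib.Helper87_TateFusion2

variable {Ω : Type u} [Group Ω] {S : Subgroup Ω}

/-- The system is sparse: not inner, and its only saturated subsystems over `S` are itself and the inner system. -/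
def IsSparse (p : ℕ) (F : FusionSystem S) : Prop :=
  ¬ (∀ P : Subgroup Ω, F.Hom P = (innerFusionSystem S).Hom P) ∧
    ∀ E : FusionSystem S, E.IsSaturated p → E.IsSubsystemOf F →
      (∀ P : Subgroup Ω, E.Hom P = F.Hom P) ∨ (∀ P : Subgroup Ω, E.Hom P = (innerFusionSystem S).Hom P)

/-- A criterion of Thompson type: if the system is not `p`-inner then some nontrivial normal subgroup of `S` has a
normalizer system that is not `p`-inner. -/
def HasNormCrit (p : ℕ) (F : FusionSystem S) : Prop :=
  ¬ PInnerOn p (IsMapOn F) → ∃ W : Subgroup Ω, W ≠ ⊥ ∧ W ≤ S ∧ S ≤ Subgroup.normalizer (W : Set Ω) ∧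
    ¬ PInnerOn p (IsNormMapOn F W)

/-- The trivial group carries only `p`-inner systems. -/
theorem pInnerOn_of_eq_bot {p : ℕ} (F : FusionSystem S) (h : S = ⊥) : PInnerOn p (IsMapOn F) := by
  intro P α hα _
  have hP : P ≤ ⊥ := h ▸ hα.le
  ext x
  have h1 : ((α x : P) : Ω) = 1 := Subgroup.mem_bot.1 (hP (α x).2)
  have h2 : (x : Ω) = 1 := Subgroup.mem_bot.1 (hP x.2)
  rw [MulAut.one_apply, h1, h2]

/-- In a sparse system, a normal subgroup of `S` whose normalizer system is not `p`-inner is normal in the system. -/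
theorem isNormal_of_isSparse [Finite S] {p : ℕ} [Fact p.Prime] (hS : IsPGroup p S) (F : FusionSystem S)
    (hF : F.IsSaturated p) (hsp : IsSparse p F) {Y : Subgroup Ω} (hYS : Y ≤ S)
    (hSY : S ≤ Subgroup.normalizer (Y : Set Ω)) (hY : ¬ PInnerOn p (IsNormMapOn F Y)) : F.IsNormal Y := by
  classical
  have hT₀ : normalizerIn S Y = S := le_antisymm (normalizerIn_le S Y) (le_inf le_rfl hSY)
  have hYfn : F.IsFullyNormalized Y := isFullyNormalized_of_le_normalizer F hYS hSY
  have hN' : F.IsNormalizerSystem Y (Cfsg.Agent.Lib.Helper85_Fusion.normalizerSystem F Y hYS) :=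
    Cfsg.Agent.Lib.Helper85_Fusion.normalizerSystem_isNormalizerSystem F Y hYS
  set N' := Cfsg.Agent.Lib.Helper85_Fusion.normalizerSystem F Y hYS with hN'def
  have hN'sat : N'.IsSaturated p := Cfsg.Agent.S5098.result p hS F hF Y hYfn N' hN'
  have hN'n : N'.IsNormal Y := Cfsg.Agent.Lib.Helper88_Model.isNormal_of_isNormalizerSystem F hYS N' hN'
  have hN₁hom : ∀ P : Subgroup Ω, (castSystem hT₀ N').Hom P = N'.Hom P := castSystem_hom hT₀ N'
  have hsub : (castSystem hT₀ N').IsSubsystemOf F := by
    intro P φ hφ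
    rw [hN₁hom, hN' P] at hφ
    exact hφ.1
  rcases hsp.2 (castSystem hT₀ N') (castSystem_isSaturated hT₀ N' hN'sat) hsub with h | h
  · have hn : (castSystem hT₀ N').IsNormal Y := castSystem_isNormal hT₀ N' hN'n
    refine ⟨hYS, fun P φ hφ => ?_⟩
    rw [← h P] at hφ
    obtain ⟨ψ, hψ, r⟩ := hn.2 P φ hφ
    rw [h] at hψ
    exact ⟨ψ, hψ, r⟩
  · exfalso
    apply hY
    have h1 : ∀ P : Subgroup Ω, N'.Hom P = (innerFusionSystem (normalizerIn S Y)).Hom P :=
      hom_eq_inner_cast hT₀ N' h
    have hPI : PInnerOn p (IsMapOn N') :=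
      pInnerOn_of_hom_eq_inner (hS.to_le (normalizerIn_le S Y)) N' h1
    exact PInnerOn.mono (fun P f hf => (isMapOn_normalizerSystem_iff hN' P f).2 hf) hPI

/-- A sparse system with a criterion of Thompson type for itself and its quotients is constrained. -/
theorem isConstrained_of_isSparse [Finite S] {p : ℕ} [Fact p.Prime] (hS : IsPGroup p S) (F : FusionSystem S)
    (hF : F.IsSaturated p) (hsp : IsSparse p F) (h1 : HasNormCrit p F)
    (h2 : ∀ (Ω' : Type u) [Group Ω'] (S' : Subgroup Ω') [Finite S'] (E : FusionSystem S') (X : Subgroup Ω)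
      (θ : S →* Ω'), F.IsNormal X → F.IsFactorSystem X θ E → E.IsSaturated p → HasNormCrit p E) :
    F.IsConstrained p := by
  classical
  have hX : F.IsNormal F.core := Cfsg.Agent.Lib.Helper85_Fusion.isNormal_core F
  have hXmax : ∀ Y : Subgroup Ω, F.IsNormal Y → Y ≤ F.core := fun Y hY => le_sSup hY
  set X := F.core with hXdef
  have hnotPI : ¬ PInnerOn p (IsMapOn F) := fun h => hsp.1 (hom_eq_inner_of_pInnerOn hS F hF h)
  have hXne : X ≠ ⊥ := by
    obtain ⟨W, hWne, hWS, hSW, hW⟩ := h1 hnotPI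
    have hWn : F.IsNormal W := isNormal_of_isSparse hS F hF hsp hWS hSW hW
    intro h
    apply hWne
    have := hXmax W hWn
    rw [h] at this
    exact le_bot_iff.1 this
  have hXsc : F.StronglyClosed X := Cfsg.Agent.Lib.Helper84_FusionNormal.IsNormal.stronglyClosed hX
  have hXS : X ≤ S := hX.1
  have hSX : S ≤ Subgroup.normalizer (X : Set Ω) := stronglyClosed_le_normalizer hXsc
  haveI hXnormal : (X.subgroupOf S).Normal := (Subgroup.normal_subgroupOf_iff_le_normalizer hXS).2 hSX
  obtain ⟨E, hE⟩ := Cfsg.Agent.S5132.result p hS F X hXsc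
  set θ : S →* S ⧸ X.subgroupOf S := QuotientGroup.mk' (X.subgroupOf S) with hθ
  have hE' := hE
  obtain ⟨-, hker, hrange, hEhom⟩ := hE'
  have hEsat : E.IsSaturated p :=
    Cfsg.Agent.S5133.result p hS F hF E θ (Cfsg.Agent.S5134.result p hS F hF X hXsc θ E hE)
  have hcrit : HasNormCrit p E := h2 (S ⧸ X.subgroupOf S) ⊤ E X θ hX hE hEsat
  by_cases hPIE : PInnerOn p (IsMapOn E)
  · have hstar : ActsTriviallyMod p F X := actsTriviallyMod_of_pInnerOn hS hF hXsc hE hPIE
    have hR₁ : F.IsNormal (X ⊔ centralizerIn S X) := isNormal_sup_centralizerIn hS F hF hX hstar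
    have hcent : centralizerIn S X ≤ X := le_sup_right.trans (hXmax _ hR₁)
    exact ⟨hF, X, hX, isCentric_of_isNormal hX hcent⟩
  · exfalso
    obtain ⟨W', hW'ne, hW'S', hS'W', hW'⟩ := hcrit hPIE
    set R := preimageAlong θ W' with hR
    have hXR : X ≤ R := le_preimageAlong hker hXS W'
    have hRS : R ≤ S := preimageAlong_le θ W'
    have hXltR : X < R := by
      refine lt_of_le_of_ne hXR ?_
      intro h
      apply hW'ne
      rw [eq_bot_iff]
      intro y hy
      have hyr : y ∈ θ.range := by rw [hrange]; exact Subgroup.mem_top y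
      obtain ⟨x, hxS, hxy⟩ := exists_extOn_eq_of_mem_range hyr
      have hxR : x ∈ R := by
        rw [hR, mem_preimageAlong]
        exact ⟨hxS, by rw [hxy]; exact hy⟩
      rw [← h] at hxR
      rw [Subgroup.mem_bot, ← hxy]
      exact (extOn_eq_one_iff hker hxS).2 hxR
    have hSR : S ≤ Subgroup.normalizer (R : Set Ω) := by
      refine le_normalizer_of_conj_mem fun g hg x hx => ?_
      have hxS : x ∈ S := hRS hx
      rw [hR, mem_preimageAlong]
      refine ⟨S.mul_mem (S.mul_mem hg hxS) (S.inv_mem hg), ?_⟩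
      rw [extOn_mul θ (S.mul_mem hg hxS) (S.inv_mem hg), extOn_mul θ hg hxS, extOn_inv θ hg]
      have h1 : extOn θ x ∈ W' := ((mem_preimageAlong θ W' x).1 hx).2
      exact ((Subgroup.mem_normalizer_iff.1 (hS'W' (Subgroup.mem_top (extOn θ g)))) _).1 h1
    have hNPIR : ¬ PInnerOn p (IsNormMapOn F R) := fun h => hW' (pInnerOn_factor hE W' h)
    have hRn : F.IsNormal R := isNormal_of_isSparse hS F hF hsp hRS hSR hNPIR
    exact absurd (hXmax R hRn) (not_le_of_gt hXltR)

/-- For odd `p` every saturated system satisfies the criterion, with `W = Z(J(S))`. -/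
theorem hasNormCrit_of_ne_two [Finite S] {p : ℕ} [Fact p.Prime] (hp : p ≠ 2) (hS : IsPGroup p S)
    (F : FusionSystem S) (hF : F.IsSaturated p) : HasNormCrit p F := by
  intro hnot
  have hW := Cfsg.Agent.Lib.Helper1_ZJFunctor.isCharPFunctor_WZJ.{u} p
  have hSne : S ≠ ⊥ := fun h => hnot (pInnerOn_of_eq_bot F h)
  refine ⟨inducedFunctor Cfsg.Agent.Lib.Helper1_ZJFunctor.WZJ S, ind_ne_bot hW S hS hSne, ind_le S,
    (Subgroup.le_normalizer).trans (normalizer_le hW S hS), fun h => hnot ?_⟩
  exact gt_main hW (groupHyp_WZJ hp) _ Ω S rfl hS F hF S (stronglyClosed_self F) h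

end Cfsg.Agent.Lib.Helper87_Sparse
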