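import Cfsg.Agent.Lib.Helper87_Sparse
import Cfsg.Agent.S5099

/-!
Sparse fusion systems, second part (helper87): the normal `p`-complement theorem of Thompson for fusion systems
(the centralizer system of `Z(S)` and the normalizer system of `J(S)` are inner only if the system is inner) gives a
criterion of Thompson type in the sense of `Helper87_Sparse.HasNormCrit`.
-/

set_option autoImplicit false
set_option linter.style.haveILetI false

universe u

namespace Cfsg.Agent.Lib.Helper87_Sparse2

open Cfsg Cfsg.FusionSystem Cfsg.Agent.Lib Cfsg.Agent.Lib.Helper87_Alperin Cfsg.Agent.Lib.Helper87_Alperin2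
  Cfsg.Agent.Lib.Helper87_Normal Cfsg.Agent.Lib.Helper87_PInner Cfsg.Agent.Lib.Helper87_GTFunctor
  Cfsg.Agent.Lib.Helper87_GTMain Cfsg.Agent.Lib.Helper87_Henke Cfsg.Agent.Lib.Helper87_Sparse

variable {Ω : Type u} [Group Ω] {S : Subgroup Ω}

/-- The functor `Q ↦ J(Q)` (generated by the abelian subgroups of largest order). -/
def WJA (Q : Type u) [Group Q] : Subgroup Q := thompsonSubgroupA Q

theorem isCharPFunctor_WJA (p : ℕ) : IsCharPFunctor.{u} p WJA :=
  ⟨fun Q _ _ _ _ => Cfsg.Agent.Lib.Helper1_ZJFunctor.thompsonSubgroupA_ne_bot Q,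
    fun _ _ _ _ _ _ φ => Cfsg.Agent.Lib.Helper1_ZJFunctor.thompsonSubgroupA_map φ⟩

theorem inducedFunctor_WJA {G : Type u} [Group G] (P : Subgroup G) :
    inducedFunctor WJA P = thompsonSubgroupAOf P := rfl

/-- The maps of the centralizer system of `Q` are maps of the normalizer system of `Q`. -/
theorem centralizerHom_subset_normalizerHom (F : FusionSystem S) (Q P : Subgroup Ω) :
    F.centralizerHom Q P ⊆ F.normalizerHom Q P := by
  rintro φ ⟨h1, h2, h3, ψ, hψ, hext, hfix⟩
  have hle : centralizerIn S Q ≤ normalizerIn S Q :=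
    inf_le_inf_left _ (Subgroup.centralizer_le_normalizer _)
  refine ⟨h1, h2.trans hle, fun x => hle (h3 x), ψ, hψ, hext, ?_⟩
  ext y
  constructor
  · rintro ⟨z, hz, rfl⟩
    have hzQ : (z : Ω) ∈ Q := Subgroup.mem_subgroupOf.1 hz
    have h4 := hfix ⟨(z : Ω), hzQ⟩
    have h5 : Subgroup.inclusion (le_sup_right : Q ≤ P ⊔ Q) ⟨(z : Ω), hzQ⟩ = z := Subtype.ext rfl
    rw [h5] at h4
    rw [h4]
    exact hzQ
  · intro hy
    refine ⟨Subgroup.inclusion (le_sup_right : Q ≤ P ⊔ Q) ⟨y, hy⟩, Subgroup.mem_subgroupOf.2 hy, ?_⟩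
    exact hfix ⟨y, hy⟩

/-- The centre of `S` is fully centralized. -/
theorem isFullyCentralized_of_le_centralizer [Finite S] (F : FusionSystem S) {P : Subgroup Ω} (hPS : P ≤ S)
    (hc : S ≤ Subgroup.centralizer (P : Set Ω)) : F.IsFullyCentralized P := by
  refine ⟨hPS, fun Q _ => ?_⟩
  have h1 : centralizerIn S P = S := le_antisymm inf_le_left (le_inf le_rfl hc)
  rw [h1]
  exact Subgroup.card_le_of_le inf_le_left

/-- If `Z ≤ S` is central in `S` and the normalizer system of `Z` is `p`-inner, the centralizer system of `Z` is the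
inner system. -/
theorem centralizerSystem_inner_of_pInnerOn [Finite S] {p : ℕ} [Fact p.Prime] (hS : IsPGroup p S)
    (F : FusionSystem S) (hF : F.IsSaturated p) {Z : Subgroup Ω} (hZS : Z ≤ S)
    (hSZc : S ≤ Subgroup.centralizer (Z : Set Ω)) (hPIZ : PInnerOn p (IsNormMapOn F Z))
    (C : FusionSystem (centralizerIn S Z)) (hC : F.IsCentralizerSystem Z C) :
    ∀ P : Subgroup Ω, C.Hom P = (innerFusionSystem (centralizerIn S Z)).Hom P := by
  classical
  have hTS : centralizerIn S Z ≤ S := inf_le_left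
  haveI : Finite (centralizerIn S Z) :=
    Finite.of_injective (Subgroup.inclusion hTS) (Subgroup.inclusion_injective hTS)
  have hTp : IsPGroup p (centralizerIn S Z) := hS.to_le hTS
  have hCsat : C.IsSaturated p :=
    Cfsg.Agent.S5099.result p hS F hF Z (isFullyCentralized_of_le_centralizer F hZS hSZc) C hC
  have hPIC : PInnerOn p (IsMapOn C) := by
    refine PInnerOn.mono (fun P f hf => ?_) hPIZ
    obtain ⟨φ, hφ, hφf⟩ := hf
    rw [hC P] at hφ
    have h5 := (mem_normalizerHom_iff F Z φ).1 (centralizerHom_subset_normalizerHom F Z P hφ)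
    exact h5.congr (fun x hx => by rw [extHom_apply φ hx]; exact hφf ⟨x, hx⟩)
  exact hom_eq_inner_of_pInnerOn hTp C hCsat hPIC

/-- The centre of a nontrivial `p`-group `S`, as a subgroup of the ambient group, is nontrivial. -/
theorem inf_centralizer_ne_bot [Finite S] {p : ℕ} [Fact p.Prime] (hS : IsPGroup p S) (hSne : S ≠ ⊥) :
    S ⊓ Subgroup.centralizer (S : Set Ω) ≠ ⊥ := by
  haveI : Nontrivial S := (Subgroup.nontrivial_iff_ne_bot S).2 hSne
  haveI : Nontrivial (Subgroup.center S) := hS.center_nontrivial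
  obtain ⟨⟨z, hz⟩, hz1⟩ := exists_ne (1 : Subgroup.center S)
  intro h
  have hmem : (z : Ω) ∈ S ⊓ Subgroup.centralizer (S : Set Ω) := by
    refine Subgroup.mem_inf.2 ⟨z.2, ?_⟩
    rw [Subgroup.mem_centralizer_iff]
    intro x hx
    have := (Subgroup.mem_center_iff.1 hz) ⟨x, hx⟩
    exact congrArg Subtype.val this
  rw [h, Subgroup.mem_bot] at hmem
  apply hz1
  apply Subtype.ext
  apply Subtype.ext
  exact hmem

/-- The criterion of Thompson type deduced from the normal `p`-complement theorem of Thompson for the system. -/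
theorem hasNormCrit_of_thompson [Finite S] {p : ℕ} [Fact p.Prime] (hS : IsPGroup p S) (F : FusionSystem S)
    (hF : F.IsSaturated p)
    (hT : (∀ C : FusionSystem (centralizerIn S (S ⊓ Subgroup.centralizer (S : Set Ω))),
        F.IsCentralizerSystem (S ⊓ Subgroup.centralizer (S : Set Ω)) C → ∀ P : Subgroup Ω,
          C.Hom P = (innerFusionSystem (centralizerIn S (S ⊓ Subgroup.centralizer (S : Set Ω)))).Hom P) →
      (∀ N : FusionSystem (normalizerIn S (thompsonSubgroupAOf S)),
        F.IsNormalizerSystem (thompsonSubgroupAOf S) N → ∀ P : Subgroup Ω,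
          N.Hom P = (innerFusionSystem (normalizerIn S (thompsonSubgroupAOf S))).Hom P) →
      ∀ P : Subgroup Ω, F.Hom P = (innerFusionSystem S).Hom P) : HasNormCrit p F := by
  classical
  intro hnot
  have hSne : S ≠ ⊥ := fun h => hnot (pInnerOn_of_eq_bot F h)
  by_contra hcon
  have hall : ∀ W : Subgroup Ω, W ≠ ⊥ → W ≤ S → S ≤ Subgroup.normalizer (W : Set Ω) →
      PInnerOn p (IsNormMapOn F W) := by
    intro W h1 h2 h3
    by_contra h4
    exact hcon ⟨W, h1, h2, h3, h4⟩
  apply hnot
  refine pInnerOn_of_hom_eq_inner hS F (hT ?_ ?_)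
  · -- the centralizer system of the centre
    intro C hC
    have hZS : S ⊓ Subgroup.centralizer (S : Set Ω) ≤ S := inf_le_left
    have hSZc : S ≤ Subgroup.centralizer ((S ⊓ Subgroup.centralizer (S : Set Ω) : Subgroup Ω) : Set Ω) := by
      intro g hg
      rw [Subgroup.mem_centralizer_iff]
      intro z hz
      exact ((Subgroup.mem_centralizer_iff.1 (Subgroup.mem_inf.1 hz).2) g hg).symm
    have hSZ : S ≤ Subgroup.normalizer ((S ⊓ Subgroup.centralizer (S : Set Ω) : Subgroup Ω) : Set Ω) :=
      hSZc.trans (Subgroup.centralizer_le_normalizer _)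
    exact centralizerSystem_inner_of_pInnerOn hS F hF hZS hSZc
      (hall _ (inf_centralizer_ne_bot hS hSne) hZS hSZ) C hC
  · -- the normalizer system of the Thompson subgroup
    intro N hN
    have hW := isCharPFunctor_WJA.{u} p
    have hJne : thompsonSubgroupAOf S ≠ ⊥ := ind_ne_bot hW S hS hSne
    have hJS : thompsonSubgroupAOf S ≤ S := ind_le (W := WJA) S
    have hSJ : S ≤ Subgroup.normalizer (thompsonSubgroupAOf S : Set Ω) :=
      (Subgroup.le_normalizer).trans (normalizer_le hW S hS)
    have hPIJ : PInnerOn p (IsNormMapOn F (thompsonSubgroupAOf S)) := hall _ hJne hJS hSJ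
    have hTS : normalizerIn S (thompsonSubgroupAOf S) ≤ S := normalizerIn_le S _
    haveI : Finite (normalizerIn S (thompsonSubgroupAOf S)) :=
      Finite.of_injective (Subgroup.inclusion hTS) (Subgroup.inclusion_injective hTS)
    have hTp : IsPGroup p (normalizerIn S (thompsonSubgroupAOf S)) := hS.to_le hTS
    have hNsat : N.IsSaturated p :=
      Cfsg.Agent.S5098.result p hS F hF _ (isFullyNormalized_of_le_normalizer F hJS hSJ) N hN
    have hPIN : PInnerOn p (IsMapOn N) :=
      PInnerOn.mono (fun P f hf => (isMapOn_normalizerSystem_iff hN P f).1 hf) hPIJ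
    exact hom_eq_inner_of_pInnerOn hTp N hNsat hPIN

end Cfsg.Agent.Lib.Helper87_Sparse2
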