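import Mathlib
import Cfsg.Agent.Lib.Helper75_TZDefs
import Cfsg.Agent.Lib.Helper10_TZ_SISO
import Cfsg.Agent.Lib.Helper25_TZ_GEN4
import Cfsg.Agent.Lib.Helper26_TZ_REP3
import Cfsg.Agent.Lib.Helper27_TZ_S8e
import Cfsg.Agent.Lib.Helper27_TZ_W5
import Cfsg.Agent.Lib.Helper63_TZ_SRES
import Cfsg.Agent.Lib.Helper63_TZ_SRES2
import Cfsg.Agent.Lib.Helper82_TZ_S_WDEC
import Cfsg.Agent.Lib.Helper85_TZ_SZPROJ

set_option autoImplicit false
set_option linter.unusedSectionVars false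

/- NOTE: helper75 landed his own second-seat versions (Helper75_TZ_G3a / Helper75_TZ_G3c) of these two packages under the
verbatim names; to avoid any name clash this parallel version lives in the sub-namespace `H87`. -/
namespace Cfsg.Agent.Lib.Helper75_TZ.H87

open Matrix Module
open Cfsg.Agent.Lib.Helper5_SpPerfect Cfsg.Agent.Lib.Helper81_SpWeights
  Cfsg.Agent.Lib.Helper81_JointEigen Cfsg.Agent.Lib.Helper81_Heis Cfsg.Agent.Lib.Helper81_WeilLin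
  Cfsg.Agent.Lib.Helper81_Schrodinger

namespace G3aaux

variable {F : Type*} [Field F] [Fintype F] [DecidableEq F] {m : ℕ} {K : Type*} [Field K]
  [IsAlgClosed K] [CharZero K] {Ω : Type*} [AddCommGroup Ω] [Module K Ω] [FiniteDimensional K Ω]

/-- a representation with a non-zero weight `T_a`, `a ≠ 0`, is non-trivial -/
theorem nontrivial_of_weight (ψ₀ : AddChar F K) (hψ₀ : ψ₀ ≠ 1)
    (RΩ : SpG (m + 1) F →* Module.End K Ω) {a : F} (ha : a ≠ 0)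
    (hΩa : wsp RΩ ψ₀ (Ta a) ≠ ⊥) : ∃ g, RΩ g ≠ 1 := by
  obtain ⟨v, hv, hv0⟩ := Submodule.exists_mem_ne_zero_of_ne_bot hΩa
  have hex : ∃ y : F, ψ₀ y ≠ 1 := by
    by_contra hcon
    push Not at hcon
    apply hψ₀
    ext y
    rw [hcon y]
    rfl
  obtain ⟨y, hy⟩ := hex
  refine ⟨xs (zS (y / a)), ?_⟩
  intro h1
  have h2 := (mem_wsp RΩ ψ₀ (Ta a) v).mp hv (zS (y / a))
  rw [h1, Module.End.one_apply] at h2
  have ht : trP (zS (y / a) : symSub (m + 1) F) (Ta a) = y := by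
    rw [trP_apply]
    show Matrix.trace (Matrix.single 0 0 (y / a) * Matrix.single 0 0 a) = y
    rw [Matrix.single_mul_single_same, Matrix.trace_single_eq_same, div_mul_cancel₀ y ha]
  rw [ht] at h2
  have h3 : (1 - ψ₀ y) • v = 0 := by
    rw [sub_smul, one_smul, ← h2, sub_self]
  rcases smul_eq_zero.mp h3 with h | h
  · exact hy (sub_eq_zero.mp h).symm
  · exact hv0 h

/-- a `G₂`-submodule of `Ω^Z` isomorphic to a Weil module `Fun^p (ω_a')` contains weight vectors of all the weights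
`0 ⊕ a' s sᵀ`, `s ≠ 0` -/
theorem exists_wvec (ψ₀ : AddChar F K) (hψ₀ : ψ₀ ≠ 1) (h2 : (2 : F) ≠ 0) (hodd : Odd (Fintype.card F))
    (RΩ : SpG (m + 1) F →* Module.End K Ω) (hΩrk : RankLeOne RΩ ψ₀)
    (D : Submodule K Ω) (hD0 : D ≤ zsp RΩ ψ₀ 0)
    (hD : ∀ g : SpG m F, ∀ v ∈ D, (RΩ.comp emb) g v ∈ D) {a' : F} (ha' : a' ≠ 0) (p : Bool)
    (hiso : IsoRep (weilP ψ₀ hψ₀ h2 a' ha' m p) (subRep (RΩ.comp emb) D hD))
    (s : Fin m → F) (hs : s ≠ 0) :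
    ∃ d ∈ D, d ≠ 0 ∧ d ∈ wsp RΩ ψ₀ (emS (rk1S a' s)) := by
  have h1 := weilP_wsp_ne_bot ψ₀ hψ₀ h2 ha' p s hs
  have h3 := (isoRep_wsp_ne_bot ψ₀ hiso (rk1S a' s)).mp h1
  obtain ⟨x, hx, hx0⟩ := Submodule.exists_mem_ne_zero_of_ne_bot h3
  have h4 := (mem_wsp_subRep ψ₀ (RΩ.comp emb) D hD (rk1S a' s) x).mp hx
  refine ⟨x.1, x.2, ?_, wsp_of_res ψ₀ hψ₀ hodd RΩ hΩrk (rk1S a' s) x.1 (hD0 x.2) h4⟩
  intro h
  exact hx0 (Subtype.ext h)

theorem rk1S_apply {n : ℕ} (a : F) (x : Fin n → F) (i j : Fin n) :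
    (rk1S a x : symSub n F).1 i j = a * (x i * x j) := by
  show (a • vecMulVec x x) i j = _
  rw [Matrix.smul_apply, vecMulVec_apply, smul_eq_mul]

theorem emS_apply_zero_zero (S : symSub m F) : (emS S : symSub (m + 1) F).1 0 0 = 0 := rfl

/-- a weight `0 ⊕ a' s sᵀ` (`s ≠ 0`, `a' ≠ 0`) which is of the form `a x xᵀ` is `0 ⊕ a y yᵀ` with `y ≠ 0` -/
theorem emS_type {a a' : F} (ha : a ≠ 0) (ha' : a' ≠ 0) (s : Fin m → F) (hs : s ≠ 0)
    (x : Fin (m + 1) → F) (h : (emS (rk1S a' s) : symSub (m + 1) F) = rk1S a x) :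
    ∃ y : Fin m → F, y ≠ 0 ∧ (emS (rk1S a' s) : symSub (m + 1) F) = emS (rk1S a y) := by
  have hx0 : x 0 = 0 := by
    have h1 := congrArg (fun T : symSub (m + 1) F => T.1 0 0) h
    simp only [emS_apply_zero_zero, rk1S_apply] at h1
    rcases mul_eq_zero.mp h1.symm with h' | h'
    · exact absurd h' ha
    · exact mul_self_eq_zero.mp h'
  have hxc : x = c0 (fun j => x j.succ) := by
    funext i
    refine Fin.cases ?_ (fun j => ?_) i
    · rw [hx0]; rfl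
    · rfl
  refine ⟨fun j => x j.succ, ?_, ?_⟩
  · intro hy
    have hx : x = 0 := by
      rw [hxc, hy]
      exact c0_zero'
    rw [hx] at h
    -- `rk1S a 0 = 0`, but `emS (rk1S a' s) ≠ 0`
    obtain ⟨j, hj⟩ : ∃ j, s j ≠ 0 := by
      by_contra hcon
      push Not at hcon
      exact hs (funext hcon)
    have h1 := congrArg (fun T : symSub (m + 1) F => T.1 j.succ j.succ) h
    simp only [rk1S_apply] at h1
    have h2 : (emS (rk1S a' s) : symSub (m + 1) F).1 j.succ j.succ = a' * (s j * s j) := by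
      show ext0 0 (rk1S a' s).1 j.succ j.succ = _
      rw [ext0_succ_succ, rk1S_apply]
    rw [h2] at h1
    simp only [Pi.zero_apply, mul_zero] at h1
    rcases mul_eq_zero.mp h1 with h' | h'
    · exact ha' h'
    · exact hj (mul_self_eq_zero.mp h')
  · rw [h, emS_rk1S, ← hxc]

end G3aaux

section G

variable {F : Type*} [Field F] [Fintype F] [DecidableEq F] {m : ℕ} {K : Type*} [Field K]
  [IsAlgClosed K] [CharZero K] {Ω : Type*} [AddCommGroup Ω] [Module K Ω] [FiniteDimensional K Ω]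
  {M : Type*} [AddCommGroup M] [Module K M] [FiniteDimensional K M]

open G3aaux in
/-- PACKAGE G3a: `Ω^Z` is an irreducible `G₂`-module of Weil type `a`.
(An irreducible `D' ≤ Ω^Z` is `Fun^p (ω_a^(m))` by `constituent_weil`/`constituent_type` and `htype`; it contains a
non-zero vector of weight `0 ⊕ a E_ii`; a `G₂`-complement would contain another one: `hmult`.) -/
theorem OmegaZ_irr (ψ₀ : AddChar F K) (hψ₀ : ψ₀ ≠ 1) (h2 : (2 : F) ≠ 0) (hodd : Odd (Fintype.card F))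
    (hm : 1 ≤ m) (RΩ : SpG (m + 1) F →* Module.End K Ω) (hΩirr : IrrRep RΩ)
    (hΩrk : RankLeOne RΩ ψ₀) {a : F} (ha : a ≠ 0)
    (hmult : ∀ T, finrank K (wsp RΩ ψ₀ T) ≤ 1)
    (htype : ∀ T : symSub (m + 1) F, wsp RΩ ψ₀ T ≠ ⊥ → ∃ x, T = rk1S a x)
    (hΩa : wsp RΩ ψ₀ (Ta a) ≠ ⊥) :
    ∃ p : Bool, IsoRep (weilP ψ₀ hψ₀ h2 a ha m p)
      (subRep (RΩ.comp emb) (zsp RΩ ψ₀ 0) (zsp_stable ψ₀ RΩ 0)) := by
  have hZst := zsp_stable ψ₀ RΩ 0
  have hnt : ∃ g, RΩ g ≠ 1 := nontrivial_of_weight ψ₀ hψ₀ RΩ ha hΩa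
  let i0 : Fin m := ⟨0, hm⟩
  have hs0 : (Pi.single i0 1 : Fin m → F) ≠ 0 := by
    intro h
    have := congrFun h i0
    simp at this
  -- (A) every irreducible `G₂`-submodule of `Ω^Z` is `Fun^p (ω_a)` and contains a vector of weight `0 ⊕ a E_11`
  have key : ∀ (D : Submodule K Ω) (hD : ∀ g : SpG m F, ∀ v ∈ D, (RΩ.comp emb) g v ∈ D),
      D ≤ zsp RΩ ψ₀ 0 → IrrRep (subRep (RΩ.comp emb) D hD) →
      (∃ p, IsoRep (weilP ψ₀ hψ₀ h2 a ha m p) (subRep (RΩ.comp emb) D hD)) ∧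
        ∃ d ∈ D, d ≠ 0 ∧ d ∈ wsp RΩ ψ₀ (emS (rk1S a (Pi.single i0 1))) := by
    intro D hD hD0 hDirr
    obtain ⟨a'', ha'', p'', hiso''⟩ :=
      constituent_weil ψ₀ hψ₀ h2 hodd RΩ hΩrk hm hΩirr hnt D hD0 hD hDirr
    obtain ⟨d, hdD, hd0, hdw⟩ :=
      exists_wvec ψ₀ hψ₀ h2 hodd RΩ hΩrk D hD0 hD ha'' p'' hiso'' (Pi.single i0 1) hs0
    have hne : wsp RΩ ψ₀ (emS (rk1S a'' (Pi.single i0 1))) ≠ ⊥ := by
      intro h
      rw [h, Submodule.mem_bot] at hdw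
      exact hd0 hdw
    obtain ⟨x, hx⟩ := htype _ hne
    obtain ⟨y, hy0, hy⟩ := emS_type ha ha'' (Pi.single i0 1) hs0 x hx
    rw [hy] at hdw
    obtain ⟨p, hiso⟩ := constituent_type ψ₀ hψ₀ h2 hodd RΩ hΩrk hm hΩirr hnt D hD0 hD hDirr ha y hy0
      d hdD hd0 hdw
    exact ⟨⟨p, hiso⟩, exists_wvec ψ₀ hψ₀ h2 hodd RΩ hΩrk D hD0 hD ha p hiso (Pi.single i0 1) hs0⟩
  -- (B) `Ω^Z ≠ 0`
  have hZne : zsp RΩ ψ₀ 0 ≠ ⊥ := by
    obtain ⟨v, hv, hv0⟩ := Submodule.exists_mem_ne_zero_of_ne_bot hΩa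
    have he0 : (Pi.single 0 1 : Fin (m + 1) → F) ≠ 0 := by
      intro h
      have := congrFun h 0
      simp at this
    have he1 : (c0 (Pi.single i0 1) : Fin (m + 1) → F) ≠ 0 := by
      intro h
      have := congrFun h i0.succ
      simp at this
    obtain ⟨B, hB⟩ := exists_GL_mulVec (Pi.single 0 1 : Fin (m + 1) → F) (c0 (Pi.single i0 1)) he0 he1
    let A : GL (Fin (m + 1)) F := ⟨(B⁻¹.1)ᵀ, (B.1)ᵀ,
      by rw [← Matrix.transpose_mul, ← Units.val_mul, mul_inv_cancel, Units.val_one, Matrix.transpose_one],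
      by rw [← Matrix.transpose_mul, ← Units.val_mul, inv_mul_cancel, Units.val_one, Matrix.transpose_one]⟩
    have hAinv : (A⁻¹.1)ᵀ = B.1 := by
      show ((B.1)ᵀ)ᵀ = B.1
      exact Matrix.transpose_transpose _
    have h1 := lgH_wsp ψ₀ RΩ A (Ta a) v hv
    rw [hAinv, Ta_eq_rk1S, cong_rk1S, hB] at h1
    have h3 := wsp_le_zsp ψ₀ RΩ _ h1
    have h4 : (rk1S a (c0 (Pi.single i0 1)) : symSub (m + 1) F).1 0 0 = 0 := by
      rw [rk1S_apply, c0_zero, mul_zero, mul_zero]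
    rw [h4] at h3
    intro hbot
    rw [hbot, Submodule.mem_bot] at h3
    apply hv0
    have h5 : RΩ (lgH A)⁻¹ (RΩ (lgH A) v) = v := by
      rw [← Module.End.mul_apply, ← map_mul, inv_mul_cancel, map_one, Module.End.one_apply]
    rw [← h5, h3, map_zero]
  -- (C)
  obtain ⟨D, hD, hDle, hDirr⟩ := exists_irr_sub (RΩ.comp emb) (zsp RΩ ψ₀ 0) hZst hZne
  obtain ⟨⟨p, hiso⟩, d, hdD, hd0, hdw⟩ := key D hD hDle hDirr
  obtain ⟨C, hC, hCle, hDC, hDCsup⟩ := maschke_rel (RΩ.comp emb) D (zsp RΩ ψ₀ 0) hD hZst hDle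
  by_cases hCbot : C = ⊥
  · rw [hCbot, sup_bot_eq] at hDCsup
    subst hDCsup
    exact ⟨p, hiso⟩
  · exfalso
    obtain ⟨D2, hD2, hD2le, hD2irr⟩ := exists_irr_sub (RΩ.comp emb) C hC hCbot
    obtain ⟨_, d2, hd2D, hd20, hd2w⟩ := key D2 hD2 (le_trans hD2le hCle) hD2irr
    have hfr := hmult (emS (rk1S a (Pi.single i0 1)))
    obtain ⟨w, hw⟩ := finrank_le_one_iff.mp hfr
    obtain ⟨c1, hc1⟩ := hw ⟨d, hdw⟩
    obtain ⟨c2, hc2⟩ := hw ⟨d2, hd2w⟩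
    have hc10 : c1 ≠ 0 := by
      intro h
      rw [h, zero_smul] at hc1
      exact hd0 (congrArg Subtype.val hc1).symm
    have hd2 : d2 = (c2 * c1⁻¹) • d := by
      have e1 : d = c1 • w.1 := (congrArg Subtype.val hc1).symm
      have e2 : d2 = c2 • w.1 := (congrArg Subtype.val hc2).symm
      rw [e1, e2, smul_smul, mul_assoc, inv_mul_cancel₀ hc10, mul_one]
    have hmem : d2 ∈ D ⊓ C := ⟨by rw [hd2]; exact D.smul_mem _ hdD, hD2le hd2D⟩
    rw [hDC, Submodule.mem_bot] at hmem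
    exact hd20 hmem

end G

end Cfsg.Agent.Lib.Helper75_TZ.H87
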