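import Mathlib
import Cfsg.Agent.Lib.Helper75_TZDefs
import Cfsg.Agent.Lib.Helper87_TZ_G3a
import Cfsg.Agent.Lib.Helper10_TZ_SISO
import Cfsg.Agent.Lib.Helper25_TZ_GEN4
import Cfsg.Agent.Lib.Helper27_TZ_S8e
import Cfsg.Agent.Lib.Helper27_TZ_W5
import Cfsg.Agent.Lib.Helper54_TZ_GRP_EMB
import Cfsg.Agent.Lib.Helper57_TZ_G0
import Cfsg.Agent.Lib.Helper61_TZ_S9b
import Cfsg.Agent.Lib.Helper63_TZ_SRES
import Cfsg.Agent.Lib.Helper63_TZ_SRES2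
import Cfsg.Agent.Lib.Helper77_TZ_G3b
import Cfsg.Agent.Lib.Helper81_TZ_W3
import Cfsg.Agent.Lib.Helper82_TZ_S_WDEC
import Cfsg.Agent.Lib.Helper85_TZ_SZPROJ

set_option autoImplicit false
set_option linter.unusedSectionVars false

/- NOTE: helper75 landed his own second-seat versions (Helper75_TZ_G3a / Helper75_TZ_G3c) of these two packages under the
verbatim names; to avoid any name clash this parallel version lives in the sub-namespace `H87`. -/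
namespace Cfsg.Agent.Lib.Helper75_TZ.H87

open Matrix Module
open Cfsg.Agent.Lib.Helper5_SpPerfect Cfsg.Agent.Lib.Helper81_SpWeights
  Cfsg.Agent.Lib.Helper81_JointEigen Cfsg.Agent.Lib.Helper81_Heis Cfsg.Agent.Lib.Helper81_WeilLin
  Cfsg.Agent.Lib.Helper81_Schrodinger

namespace G3caux

variable {F : Type*} [Field F] [Fintype F] [DecidableEq F] {m : ℕ} {K : Type*} [Field K]
  [IsAlgClosed K] [CharZero K] {Ω : Type*} [AddCommGroup Ω] [Module K Ω] [FiniteDimensional K Ω]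
  {M : Type*} [AddCommGroup M] [Module K M] [FiniteDimensional K M]

open G3aaux

theorem rk1S_zero {n : ℕ} (a : F) : (rk1S a (0 : Fin n → F) : symSub n F) = 0 := by
  apply Subtype.ext
  show a • vecMulVec (0 : Fin n → F) 0 = 0
  rw [zero_vecMulVec, smul_zero]

/-- a non-zero `0 ⊕ T₂` of the form `a x xᵀ` has `T₂ = a y yᵀ`, `y ≠ 0` -/
theorem emS_eq_rk1S {a : F} (ha : a ≠ 0) (T₂ : symSub m F) (hT : T₂ ≠ 0) (x : Fin (m + 1) → F)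
    (h : (emS T₂ : symSub (m + 1) F) = rk1S a x) : ∃ y : Fin m → F, y ≠ 0 ∧ T₂ = rk1S a y := by
  have hx0 : x 0 = 0 := by
    have h1 := congrArg (fun T : symSub (m + 1) F => T.1 0 0) h
    simp only [emS_apply_zero_zero, rk1S_apply] at h1
    rcases mul_eq_zero.mp h1.symm with h' | h'
    · exact absurd h' ha
    · exact mul_self_eq_zero.mp h'
  have hxc : x = c0 (fun j => x j.succ) := by
    funext i
    refine Fin.cases ?_ (fun j => ?_) i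
    · rw [hx0]; rfl
    · rfl
  have hT2 : T₂ = rk1S a (fun j => x j.succ) := by
    apply emS_injective
    rw [h, emS_rk1S, ← hxc]
  refine ⟨fun j => x j.succ, ?_, hT2⟩
  intro hy
  rw [hy] at hT2
  exact hT (hT2.trans (rk1S_zero a))

/-- a `Q`-equivariant map maps `Ω^Z` to `M^Z` -/
theorem Psi_zsp (ψ₀ : AddChar F K) (RΩ : SpG (m + 1) F →* Module.End K Ω)
    (RM : SpG (m + 1) F →* Module.End K M) (Ψ : Ω →ₗ[K] M)
    (hΨxs : ∀ S x, Ψ (RΩ (xs S) x) = RM (xs S) (Ψ x)) (b : F) (x : Ω) (hx : x ∈ zsp RΩ ψ₀ b) :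
    Ψ x ∈ zsp RM ψ₀ b := by
  rw [mem_zsp] at hx ⊢
  intro c
  have h1 := hΨxs (zS c) x
  have h2 : (xs (zS c) : SpG (m + 1) F) = zc c := rfl
  rw [h2, hx c, map_smul] at h1
  exact h1.symm

/-- a `Q`-equivariant map preserves the `Q₂`-weight spaces -/
theorem Psi_wsp2 (ψ₀ : AddChar F K) (RΩ : SpG (m + 1) F →* Module.End K Ω)
    (RM : SpG (m + 1) F →* Module.End K M) (Ψ : Ω →ₗ[K] M)
    (hΨxs : ∀ S x, Ψ (RΩ (xs S) x) = RM (xs S) (Ψ x)) (T₂ : symSub m F) (x : Ω)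
    (hx : x ∈ wsp (RΩ.comp emb) ψ₀ T₂) : Ψ x ∈ wsp (RM.comp emb) ψ₀ T₂ := by
  apply wsp_of_equivariant ψ₀ (RΩ.comp emb) (RM.comp emb) Ψ _ T₂ x hx
  intro S y
  show Ψ (RΩ (emb (xs S)) y) = RM (emb (xs S)) (Ψ y)
  rw [emb_xs]
  exact hΨxs _ _

/-- the transposed inverse of an element of `GL` -/
def tinv {k : ℕ} (B : GL (Fin k) F) : GL (Fin k) F :=
  ⟨(B⁻¹.1)ᵀ, (B.1)ᵀ,
    by rw [← Matrix.transpose_mul, ← Units.val_mul, mul_inv_cancel, Units.val_one, Matrix.transpose_one],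
    by rw [← Matrix.transpose_mul, ← Units.val_mul, inv_mul_cancel, Units.val_one, Matrix.transpose_one]⟩

theorem tinv_inv_transpose {k : ℕ} (B : GL (Fin k) F) : ((tinv B)⁻¹.1)ᵀ = B.1 := by
  show ((B.1)ᵀ)ᵀ = B.1
  exact Matrix.transpose_transpose _

theorem R_inv_apply' {Γ : Type*} [Group Γ] (R : Γ →* Module.End K M) (x : Γ) (w : M) :
    R x⁻¹ (R x w) = w := by
  rw [← Module.End.mul_apply, ← map_mul, inv_mul_cancel, map_one, Module.End.one_apply]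

end G3caux

section G

variable {F : Type*} [Field F] [Fintype F] [DecidableEq F] {m : ℕ} {K : Type*} [Field K]
  [IsAlgClosed K] [CharZero K] {Ω : Type*} [AddCommGroup Ω] [Module K Ω] [FiniteDimensional K Ω]
  {M : Type*} [AddCommGroup M] [Module K M] [FiniteDimensional K M]

open G3aaux G3caux in
/-- PACKAGE G3c: the `G₂`-equivariant map on `Ω^Z` which agrees with the `P`-equivariant map `Ψ` on the non-zero weight
spaces of `Ω^Z`.  (`OmegaZ_irr`, `parity` for `Ω` and for `M`, `constituent_type`, `exists_G2_map` with `A = Ω^Z`, `B = M^Z`,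
`u ∈ Ω_(0 ⊕ a E_ii)`, `w = Ψ u`; agreement on `Ω_(0 ⊕ T₂)`: `T₂ = a s sᵀ`, move `e_i` to `s` by `lgH (ext0GL A₂) = emb (lgH A₂)`.) -/
theorem exists_Phi2 (ψ₀ : AddChar F K) (hψ₀ : ψ₀ ≠ 1) (hodd : Odd (Fintype.card F)) (hm : 1 ≤ m)
    (RΩ : SpG (m + 1) F →* Module.End K Ω) (RM : SpG (m + 1) F →* Module.End K M)
    (hΩirr : IrrRep RΩ) (hMirr : IrrRep RM) (hΩrk : RankLeOne RΩ ψ₀) (hMrk : RankLeOne RM ψ₀)
    (σ : K) (hΩσ : CentralSign RΩ σ) (hMσ : CentralSign RM σ) {a : F} (ha : a ≠ 0)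
    (hmult : ∀ T, finrank K (wsp RΩ ψ₀ T) ≤ 1)
    (htype : ∀ T : symSub (m + 1) F, wsp RΩ ψ₀ T ≠ ⊥ → ∃ x, T = rk1S a x)
    (hΩa : wsp RΩ ψ₀ (Ta a) ≠ ⊥) (hMnt : ∃ g, RM g ≠ 1)
    (Ψ : Ω →ₗ[K] M) (hΨxs : ∀ S x, Ψ (RΩ (xs S) x) = RM (xs S) (Ψ x))
    (hΨlg : ∀ A x, Ψ (RΩ (lgH A) x) = RM (lgH A) (Ψ x)) :
    ∃ Φ₂ : Ω →ₗ[K] M, (∀ x ∈ zsp RΩ ψ₀ 0, Φ₂ x ∈ zsp RM ψ₀ 0) ∧
      (∀ (g : SpG m F), ∀ x ∈ zsp RΩ ψ₀ 0, Φ₂ (RΩ (emb g) x) = RM (emb g) (Φ₂ x)) ∧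
      ∀ T₂ : symSub m F, T₂ ≠ 0 → ∀ x ∈ wsp RΩ ψ₀ (emS T₂), Φ₂ x = Ψ x := by
  have h2 : (2 : F) ≠ 0 := two_ne_zero_of_odd hodd
  let i0 : Fin m := ⟨0, hm⟩
  have hs0 : (Pi.single i0 1 : Fin m → F) ≠ 0 := by
    intro h
    have := congrFun h i0
    simp at this
  -- `Ω^Z ≅ Fun^p (ω_a)`
  obtain ⟨p, hA⟩ := OmegaZ_irr ψ₀ hψ₀ h2 hodd hm RΩ hΩirr hΩrk ha hmult htype hΩa
  have hZΩ := zsp_stable ψ₀ RΩ 0
  have hZM := zsp_stable ψ₀ RM 0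
  -- the weight vector `u` of `Ω^Z`
  have hune := (isoRep_wsp_ne_bot ψ₀ hA (rk1S a (Pi.single i0 1))).mp
    (weilP_wsp_ne_bot ψ₀ hψ₀ h2 ha p (Pi.single i0 1) hs0)
  obtain ⟨u, hu, hu0⟩ := Submodule.exists_mem_ne_zero_of_ne_bot hune
  have hu1 : u.1 ≠ 0 := fun h => hu0 (Subtype.ext h)
  have hu2 : u.1 ∈ wsp (RΩ.comp emb) ψ₀ (rk1S a (Pi.single i0 1)) :=
    (mem_wsp_subRep ψ₀ (RΩ.comp emb) (zsp RΩ ψ₀ 0) hZΩ _ u).mp hu
  have hu3 : u.1 ∈ wsp RΩ ψ₀ (emS (rk1S a (Pi.single i0 1))) :=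
    wsp_of_res ψ₀ hψ₀ hodd RΩ hΩrk _ u.1 u.2 hu2
  have hparΩ := parity ψ₀ hψ₀ h2 hodd RΩ hΩrk σ hΩσ ha i0 (zsp RΩ ψ₀ 0) hZΩ p hA u.1 u.2 hu1 hu3
  have hkap : kap ψ₀ a m ≠ 0 := by
    intro h
    have := kap_sq (k := m) ψ₀ hψ₀ h2 ha
    rw [h, mul_zero] at this
    exact zero_ne_one this
  -- the hypothesis `hB` of `exists_G2_map`
  have hB : ∀ (D : Submodule K M) (hD : ∀ g, ∀ v ∈ D, (RM.comp emb) g v ∈ D), D ≤ zsp RM ψ₀ 0 →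
      IrrRep (subRep (RM.comp emb) D hD) →
      (∃ d ∈ D, d ≠ 0 ∧ d ∈ wsp (RM.comp emb) ψ₀ (rk1S a (Pi.single i0 1))) →
      IsoRep (weilP ψ₀ hψ₀ h2 a ha m p) (subRep (RM.comp emb) D hD) := by
    intro D hD hD0 hDirr ⟨d, hdD, hd0, hdw⟩
    have hdw' : d ∈ wsp RM ψ₀ (emS (rk1S a (Pi.single i0 1))) :=
      wsp_of_res ψ₀ hψ₀ hodd RM hMrk _ d (hD0 hdD) hdw
    obtain ⟨p', hiso'⟩ := constituent_type ψ₀ hψ₀ h2 hodd RM hMrk hm hMirr hMnt D hD0 hD hDirr ha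
      (Pi.single i0 1) hs0 d hdD hd0 hdw'
    have hparM := parity ψ₀ hψ₀ h2 hodd RM hMrk σ hMσ ha i0 D hD p' hiso' d hdD hd0 hdw'
    have hpp : p' = p := by
      have e := hparM.trans hparΩ.symm
      cases p <;> cases p' <;> simp only [Bool.false_eq_true, if_false, if_true] at e
      · rfl
      · exfalso
        have : (2 : K) * kap ψ₀ a m = 0 := by linear_combination -e
        rcases mul_eq_zero.mp this with h | h
        · exact two_ne_zero h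
        · exact hkap h
      · exfalso
        have : (2 : K) * kap ψ₀ a m = 0 := by linear_combination e
        rcases mul_eq_zero.mp this with h | h
        · exact two_ne_zero h
        · exact hkap h
      · rfl
    rw [← hpp]
    exact hiso'
  -- the map `Φ`
  have hw0 : Ψ u.1 ∈ zsp RM ψ₀ 0 := Psi_zsp ψ₀ RΩ RM Ψ hΨxs 0 u.1 u.2
  have hw : Ψ u.1 ∈ wsp (RM.comp emb) ψ₀ (rk1S a (Pi.single i0 1)) :=
    Psi_wsp2 ψ₀ RΩ RM Ψ hΨxs _ u.1 hu2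
  obtain ⟨Φ, hΦeq, hΦmem, hΦu⟩ := exists_G2_map ψ₀ hψ₀ h2 ha p i0
    (subRep (RΩ.comp emb) (zsp RΩ ψ₀ 0) hZΩ) (RM.comp emb) hA (zsp RM ψ₀ 0) hZM hB u hu hu0
    (Ψ u.1) hw0 hw
  -- the projection onto `Ω^Z`
  let π : Ω →ₗ[K] ↥(zsp RΩ ψ₀ 0) :=
    (zproj RΩ ψ₀ 0).codRestrict (zsp RΩ ψ₀ 0) (zproj_mem ψ₀ RΩ 0)
  have hπ : ∀ x (hx : x ∈ zsp RΩ ψ₀ 0), π x = ⟨x, hx⟩ := by
    intro x hx
    apply Subtype.ext
    show zproj RΩ ψ₀ 0 x = x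
    exact zproj_of_mem ψ₀ RΩ 0 x hx
  have hΦ₂g : ∀ (g : SpG m F), ∀ x ∈ zsp RΩ ψ₀ 0,
      (Φ.comp π) (RΩ (emb g) x) = RM (emb g) ((Φ.comp π) x) := by
    intro g x hx
    have hgx : RΩ (emb g) x ∈ zsp RΩ ψ₀ 0 := hZΩ g x hx
    rw [LinearMap.comp_apply, LinearMap.comp_apply, hπ _ hgx, hπ _ hx]
    have := hΦeq g ⟨x, hx⟩
    exact this
  refine ⟨Φ.comp π, ?_, hΦ₂g, ?_⟩
  · intro x hx
    rw [LinearMap.comp_apply]
    exact hΦmem _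
  · intro T₂ hT₂ x hx
    by_cases hx0 : x = 0
    · rw [hx0, map_zero, map_zero]
    have hne : wsp RΩ ψ₀ (emS T₂) ≠ ⊥ := by
      intro h
      rw [h, Submodule.mem_bot] at hx
      exact hx0 hx
    obtain ⟨x', hx'⟩ := htype _ hne
    obtain ⟨y, hy0, hy⟩ := emS_eq_rk1S ha T₂ hT₂ x' hx'
    subst hy
    -- move `e_i` to `y`
    obtain ⟨B, hBy⟩ := exists_GL_mulVec (Pi.single i0 1 : Fin m → F) y hs0 hy0
    have h1 := lgH_wsp ψ₀ (RΩ.comp emb) (tinv B) (rk1S a (Pi.single i0 1)) u.1 hu2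
    rw [tinv_inv_transpose, cong_rk1S, hBy] at h1
    have hgu : RΩ (emb (lgH (tinv B))) u.1 ∈ zsp RΩ ψ₀ 0 := hZΩ _ u.1 u.2
    have h3 : RΩ (emb (lgH (tinv B))) u.1 ∈ wsp RΩ ψ₀ (emS (rk1S a y)) :=
      wsp_of_res ψ₀ hψ₀ hodd RΩ hΩrk _ _ hgu h1
    have hx'0 : RΩ (emb (lgH (tinv B))) u.1 ≠ 0 := by
      intro h
      apply hu1
      have := R_inv_apply' RΩ (emb (lgH (tinv B))) u.1
      rw [h, map_zero] at this
      exact this.symm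
    -- `x` is proportional to `x'' := RΩ (emb g₂) u`
    obtain ⟨w, hw⟩ := finrank_le_one_iff.mp (hmult (emS (rk1S a y)))
    obtain ⟨c1, hc1⟩ := hw ⟨_, h3⟩
    obtain ⟨c2, hc2⟩ := hw ⟨x, hx⟩
    have hc10 : c1 ≠ 0 := by
      intro h
      rw [h, zero_smul] at hc1
      exact hx'0 (congrArg Subtype.val hc1).symm
    have hxx : x = (c2 * c1⁻¹) • RΩ (emb (lgH (tinv B))) u.1 := by
      have e1 : RΩ (emb (lgH (tinv B))) u.1 = c1 • w.1 := (congrArg Subtype.val hc1).symm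
      have e2 : x = c2 • w.1 := (congrArg Subtype.val hc2).symm
      rw [e1, e2, smul_smul, mul_assoc, inv_mul_cancel₀ hc10, mul_one]
    have hΦ₂u : (Φ.comp π) u.1 = Ψ u.1 := by
      rw [LinearMap.comp_apply, hπ _ u.2]
      exact hΦu
    rw [hxx, map_smul, map_smul, hΦ₂g _ u.1 u.2, hΦ₂u, emb_lgH, hΨlg]

end G

end Cfsg.Agent.Lib.Helper75_TZ.H87
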