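import Cfsg.Agent.Lib.Helper87_GTModel
import Cfsg.Agent.Lib.Helper88_PSolvModel
import Cfsg.Agent.S0081

/-!
The theorem of Tate and constrained fusion systems (helper87).  Let `G` be a model of the system `F` over `S`, let
`Q ≤ Φ(S)` be normal in `F`, and suppose that the automorphisms of order prime to `p` of the subgroups containing
`Q` act trivially modulo `Q`.  Then `G / Q` has a normal `p`-complement by the theorem of Frobenius, hence so has `G`
by the theorem of Tate, and `F` is `p`-inner.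
-/

set_option autoImplicit false
set_option linter.style.haveILetI false

universe u

namespace Cfsg.Agent.Lib.Helper87_TateFusion

open Cfsg Cfsg.FusionSystem Cfsg.Agent.Lib Cfsg.Agent.Lib.Helper87_Alperin Cfsg.Agent.Lib.Helper87_Alperin2
  Cfsg.Agent.Lib.Helper87_Normal Cfsg.Agent.Lib.Helper87_PInner Cfsg.Agent.Lib.Helper87_Realized
  Cfsg.Agent.Lib.Helper87_GTCentric Cfsg.Agent.Lib.Helper87_GTQuot Cfsg.Agent.Lib.Helper87_GTModel
  Cfsg.Agent.Lib.Helper35_FrobeniusNPC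

/-- If `Q'` is a normal subgroup of `G` contained in the Frattini subgroup of a Sylow `p`-subgroup and `G / Q'` has a
normal `p`-complement, then `G` has a normal `p`-complement (by the theorem of Tate). -/
theorem hasNPC_of_quotient {G : Type*} [Group G] [Finite G] {p : ℕ} [Fact p.Prime] (T : Sylow p G)
    (Q' : Subgroup G) [hQ'n : Q'.Normal] (hQ'Φ : Q' ≤ (frattini T).map (T : Subgroup G).subtype)
    (h : HasNPC p (G ⧸ Q')) : HasNPC p G := by
  classical
  obtain ⟨K', hK'n, hK'c, n, hK'i⟩ := h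
  set π : G →* G ⧸ Q' := QuotientGroup.mk' Q' with hπ
  have hπsurj : Function.Surjective π := QuotientGroup.mk'_surjective Q'
  set K : Subgroup G := K'.comap π with hK
  haveI hKn : K.Normal := Subgroup.Normal.comap hK'n π
  have hKi : K.index = p ^ n := by rw [hK, Subgroup.index_comap_of_surjective K' hπsurj, hK'i]
  have hKT : K ⊓ (T : Subgroup G) ≤ (frattini T).map (T : Subgroup G).subtype := by
    intro x hx
    apply hQ'Φ
    obtain ⟨hxK, hxT⟩ := hx
    have h1 : π x ∈ K' := hxK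
    obtain ⟨k, hk⟩ := T.2 ⟨x, hxT⟩
    have hk' : x ^ p ^ k = 1 := by
      have := congrArg Subtype.val hk
      simpa using this
    have h2 : (π x) ^ p ^ k = 1 := by rw [← map_pow, hk', map_one]
    have h3 : orderOf (⟨π x, h1⟩ : K') ∣ p ^ k := by
      apply orderOf_dvd_of_pow_eq_one
      exact Subtype.ext h2
    have h4 : orderOf (⟨π x, h1⟩ : K') ∣ Nat.card K' := orderOf_dvd_natCard _
    have h5 : orderOf (⟨π x, h1⟩ : K') = 1 :=
      Nat.eq_one_of_dvd_coprimes (Nat.Coprime.pow_right k hK'c) h4 h3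
    have h6 : (⟨π x, h1⟩ : K') = 1 := orderOf_eq_one_iff.1 h5
    have h7 : π x = 1 := congrArg Subtype.val h6
    exact (QuotientGroup.eq_one_iff x).1 h7
  have hnpcK : HasNormalPComplement p K := Cfsg.Agent.S0081.result T K hKT
  obtain ⟨L₀, hL₀n, hL₀c, m, hL₀i⟩ := (Cfsg.Agent.S0072.hasNPC_iff p).1 hnpcK
  refine ⟨L₀.map K.subtype, ?_, ?_, m + n, ?_⟩
  · refine ⟨fun x hx g => ?_⟩
    obtain ⟨y, hy, rfl⟩ := hx
    have hgK : g * (y : G) * g⁻¹ ∈ K := hKn.conj_mem _ y.2 g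
    refine ⟨⟨g * (y : G) * g⁻¹, hgK⟩, ?_, rfl⟩
    haveI := hL₀n
    apply mem_of_coprime_order L₀ hL₀i
    have h1 : orderOf (⟨g * (y : G) * g⁻¹, hgK⟩ : K) = orderOf y := by
      rw [← Subgroup.orderOf_coe, ← Subgroup.orderOf_coe]
      have := orderOf_injective (MulAut.conj g).toMonoidHom (MulAut.conj g).injective (y : G)
      simpa [MulAut.conj_apply] using this
    rw [h1]
    have h2 : orderOf y ∣ Nat.card L₀ := by
      have := orderOf_dvd_natCard (⟨y, hy⟩ : L₀)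
      rwa [Subgroup.orderOf_mk] at this
    exact Nat.Coprime.coprime_dvd_left h2 hL₀c
  · rw [Nat.card_congr (L₀.equivMapOfInjective K.subtype K.subtype_injective).symm.toEquiv]
    exact hL₀c
  · rw [Subgroup.index_map_subtype, hL₀i, hKi, pow_add]

variable {Ω : Type u} [Group Ω] {S : Subgroup Ω} {G : Type u} [Group G]

/-- A system realized by a finite group satisfying the hypothesis of the theorem of Frobenius is `p`-inner. -/
theorem pInnerOn_of_frobHyp [Finite S] [Finite G] {p : ℕ} [Fact p.Prime] {F : FusionSystem S} {ι : S →* G}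
    (hr : F.IsRealizedBy ι) (T : Sylow p G) (hT : (T : Subgroup G) = ι.range) (hfrobG : FrobHyp p G) :
    PInnerOn p (IsMapOn F) := by
  intro P α hα hc
  have hPS : P ≤ S := hα.le
  have hαK : α ∈ F.autGroup P := (mem_autGroup_iff F hPS α).2 hα
  obtain ⟨g, hg⟩ := exists_conj_of_aut hr hPS hαK
  obtain ⟨k, hkc, hk1⟩ := exists_pow_coprime g (p := p) hc
  have hpow := J_pow_conj α g hg k
  set Q' := imgJ ι P with hQ'
  have hQ'p : IsPGroup p Q' := by
    have : IsPGroup p (T : Subgroup G) := T.2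
    refine this.to_le ?_
    rw [hT]
    exact imgJ_le_range ι P
  have hnorm : g ^ k ∈ Subgroup.normalizer (Q' : Set G) := by
    rw [Subgroup.mem_normalizer_iff]
    intro h
    constructor
    · intro hh
      obtain ⟨x, hx, rfl⟩ := (mem_imgJ hPS h).1 hh
      rw [mem_imgJ hPS]
      exact ⟨_, ((α ^ k) ⟨x, hx⟩).2, hpow ⟨x, hx⟩⟩
    · intro hh
      obtain ⟨y, hy, hyh⟩ := (mem_imgJ hPS _).1 hh
      rw [mem_imgJ hPS]
      refine ⟨(((α ^ k)⁻¹ ⟨y, hy⟩ : P) : Ω), ((α ^ k)⁻¹ ⟨y, hy⟩).2, ?_⟩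
      have h1 := hpow ((α ^ k)⁻¹ ⟨y, hy⟩)
      rw [MulAut.apply_inv_self, hyh] at h1
      have h2 : h = (g ^ k)⁻¹ * (g ^ k * h * (g ^ k)⁻¹) * g ^ k := by group
      rw [h2, h1]
      group
  have hcent := hfrobG Q' hQ'p (g ^ k) hnorm hkc
  rw [Subgroup.mem_centralizer_iff] at hcent
  have hαk : α ^ k = 1 := by
    ext x
    rw [MulAut.one_apply]
    apply J_injOn hr.1 (hPS ((α ^ k) x).2) (hPS x.2)
    rw [hpow x]
    have h1 := hcent (J ι (x : Ω)) ((mem_imgJ hPS _).2 ⟨x, x.2, rfl⟩)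
    rw [← h1]
    group
  have h5 : α ^ k = α := by
    have : α ^ k = α ^ 1 := (pow_eq_pow_iff_modEq).2 hk1
    rwa [pow_one] at this
  rw [← h5, hαk]

/-- The quotient of a realizing group by the image of `Q` satisfies the hypothesis of the theorem of Frobenius when
the automorphisms of order prime to `p` act trivially modulo `Q`. -/
theorem frobHyp_quotient [Finite S] [Finite G] {p : ℕ} [Fact p.Prime] {F : FusionSystem S} {ι : S →* G}
    (hr : F.IsRealizedBy ι) (T : Sylow p G) (hT : (T : Subgroup G) = ι.range) {Q : Subgroup Ω} (hQS : Q ≤ S)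
    (Q' : Subgroup G) [Q'.Normal] (hQ' : Q' = imgJ ι Q) (hstar : ActsTriviallyMod p F Q) :
    FrobHyp p (G ⧸ Q') := by
  classical
  set π : G →* G ⧸ Q' := QuotientGroup.mk' Q' with hπ
  have hπsurj : Function.Surjective π := QuotientGroup.mk'_surjective Q'
  have hQ'T : Q' ≤ (T : Subgroup G) := by
    rw [hQ', hT]
    exact imgJ_le_range ι Q
  refine frobHyp_of_le_sylow (T.mapSurjective hπsurj) ?_
  intro P' hP' g' hg' hgo
  rw [Sylow.coe_mapSurjective] at hP'
  obtain ⟨g, rfl⟩ := hπsurj g'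
  obtain ⟨k, hkc, hk1⟩ := exists_pow_coprime g (p := p) hgo
  have hπk : π (g ^ k) = π g := by
    rw [map_pow]
    have : π g ^ k = π g ^ 1 := (pow_eq_pow_iff_modEq).2 hk1
    rwa [pow_one] at this
  set g₁ := g ^ k with hg₁
  set P : Subgroup G := P'.comap π with hP
  have hQ'P : Q' ≤ P := by
    intro x hx
    show π x ∈ P'
    have : π x = 1 := (QuotientGroup.eq_one_iff x).2 hx
    rw [this]
    exact P'.one_mem
  have hPT : P ≤ (T : Subgroup G) := by
    intro x hx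
    obtain ⟨t, ht, htx⟩ := hP' (show π x ∈ P' from hx)
    have h1 : t⁻¹ * x ∈ Q' := QuotientGroup.eq.1 htx
    have h2 : x = t * (t⁻¹ * x) := by group
    rw [h2]
    exact (T : Subgroup G).mul_mem ht (hQ'T h1)
  have hg₁P : ∀ x ∈ P, g₁ * x * g₁⁻¹ ∈ P := by
    intro x hx
    show π (g₁ * x * g₁⁻¹) ∈ P'
    rw [map_mul, map_mul, map_inv, hπk]
    exact ((Subgroup.mem_normalizer_iff.1 hg') _).1 hx
  set P₀ := subT ι P with hP₀
  have hP₀S : P₀ ≤ S := subT_le ι P
  haveI hfinP₀ : Finite P₀ := Finite.of_injective (Subgroup.inclusion hP₀S) (Subgroup.inclusion_injective hP₀S)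
  have hQP₀ : Q ≤ P₀ := by
    intro x hx
    refine mem_subT.2 ⟨hQS hx, hQ'P ?_⟩
    rw [hQ', mem_imgJ hQS]
    exact ⟨x, hx, rfl⟩
  have hconjP₀ : ∀ x ∈ P₀, ∃ y ∈ P₀, J ι y = g₁ * J ι x * g₁⁻¹ := by
    intro x hx
    have h1 : g₁ * J ι x * g₁⁻¹ ∈ P := hg₁P _ (mem_subT.1 hx).2
    have h2 : g₁ * J ι x * g₁⁻¹ ∈ ι.range := by rw [← hT]; exact hPT h1
    obtain ⟨y, hyS, hy⟩ := exists_of_mem_range h2
    exact ⟨y, mem_subT.2 ⟨hyS, by rw [hy]; exact h1⟩, hy⟩
  obtain ⟨α, hαK, hαg⟩ := exists_aut_of_conj hr hP₀S g₁ hconjP₀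
  have hαo : α ^ orderOf g₁ = 1 := by
    ext x
    have h1 := J_pow_conj α g₁ hαg (orderOf g₁) x
    rw [pow_orderOf_eq_one] at h1
    have h3 : J ι (((α ^ orderOf g₁) x : P₀) : Ω) = J ι (x : Ω) := by
      rw [h1]
      group
    rw [MulAut.one_apply]
    exact J_injOn hr.1 (hP₀S ((α ^ orderOf g₁) x).2) (hP₀S x.2) h3
  have hαc : (orderOf α).Coprime p := Nat.Coprime.coprime_dvd_left (orderOf_dvd_of_pow_eq_one hαo) hkc
  have htriv := hstar P₀ α hQP₀ ((mem_autGroup_iff F hP₀S α).1 hαK) hαc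
  rw [Subgroup.mem_centralizer_iff]
  intro y' hy'
  obtain ⟨y, rfl⟩ := hπsurj y'
  have hyP : y ∈ P := hy'
  have hyr : y ∈ ι.range := by rw [← hT]; exact hPT hyP
  obtain ⟨x, hxS, hxy⟩ := exists_of_mem_range hyr
  have hxP₀ : x ∈ P₀ := mem_subT.2 ⟨hxS, by rw [hxy]; exact hyP⟩
  have h1 := htriv ⟨x, hxP₀⟩
  have h2 : J ι (x⁻¹ * ((α ⟨x, hxP₀⟩ : P₀) : Ω)) ∈ Q' := by
    rw [hQ', mem_imgJ hQS]
    exact ⟨_, h1, rfl⟩
  rw [J_mul ι (S.inv_mem hxS) (hP₀S (α ⟨x, hxP₀⟩).2), J_inv ι hxS, hαg ⟨x, hxP₀⟩, hxy] at h2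
  have h3 : π (y⁻¹ * (g₁ * y * g₁⁻¹)) = 1 := (QuotientGroup.eq_one_iff _).2 h2
  rw [map_mul, map_mul, map_mul, map_inv, map_inv, hπk] at h3
  have h4 : π g * π y * (π g)⁻¹ = π y := by
    have := congrArg (fun t => π y * t) h3
    simpa [mul_assoc] using this
  calc π y * π g = (π g * π y * (π g)⁻¹) * π g := by rw [h4]
    _ = π g * π y := by group

/-- The image of a subgroup of the Frattini subgroup of `S` lies in the Frattini subgroup of the Sylow subgroup
`ι(S)`. -/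
theorem imgJ_le_frattini {p : ℕ} {ι : S →* G} (T : Sylow p G) (hT : (T : Subgroup G) = ι.range)
    {Q : Subgroup Ω} (hQ : Q ≤ (frattini S).map S.subtype) :
    imgJ ι Q ≤ (frattini T).map (T : Subgroup G).subtype := by
  have hmem : ∀ s : S, ι s ∈ (T : Subgroup G) := fun s => by rw [hT]; exact ⟨s, rfl⟩
  let ι' : S →* (T : Subgroup G) := ι.codRestrict (T : Subgroup G) hmem
  have hsurj : Function.Surjective ι' := by
    rintro ⟨t, ht⟩
    rw [hT] at ht
    obtain ⟨s, rfl⟩ := ht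
    exact ⟨s, rfl⟩
  have h1 := frattini_le_comap_frattini_of_surjective hsurj
  rintro _ ⟨s, hs, rfl⟩
  obtain ⟨s', hs', hss'⟩ := hQ (Subgroup.mem_subgroupOf.1 hs)
  have : s' = s := Subtype.ext hss'
  subst this
  exact ⟨ι' s', h1 hs', rfl⟩

/-- The main statement: a system with a model in which a normal subgroup `Q ≤ Φ(S)` has the property that all
automorphisms of order prime to `p` act trivially modulo `Q` is `p`-inner. -/
theorem pInnerOn_of_isModel [Finite S] {p : ℕ} [Fact p.Prime] {F : FusionSystem S} {ι : S →* G}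
    (hM : F.IsModel p G ι) {Q : Subgroup Ω} (hQn : F.IsNormal Q) (hQΦ : Q ≤ (frattini S).map S.subtype)
    (hstar : ActsTriviallyMod p F Q) : PInnerOn p (IsMapOn F) := by
  classical
  have hM' := hM
  obtain ⟨hfin, hr, ⟨T, hT⟩, -⟩ := hM'
  haveI := hfin
  have hQS : Q ≤ S := hQn.1
  have hQsc : F.StronglyClosed Q := Cfsg.Agent.Lib.Helper84_FusionNormal.IsNormal.stronglyClosed hQn
  have hcore := Cfsg.Agent.Lib.Helper88_PSolvModel.pCore_eq_map_core F ι hM
  have hQcore : Q ≤ F.core := le_sSup hQn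
  have hUn : (pCore p G).Normal := Cfsg.Agent.Lib.Helper88_Model.pCore_normal' p G
  have hUr : pCore p G ≤ ι.range := by
    rw [hcore]
    rintro _ ⟨s, -, rfl⟩
    exact ⟨s, rfl⟩
  have hJQ : ∀ x ∈ Q, J ι x ∈ pCore p G := by
    intro x hx
    rw [hcore]
    exact ⟨⟨x, hQS hx⟩, Subgroup.mem_subgroupOf.2 (hQcore hx), (J_apply ι (hQS hx)).symm⟩
  haveI hQ'n : (imgJ ι Q).Normal := by
    refine ⟨fun y hy g => ?_⟩
    obtain ⟨x, hx, rfl⟩ := (mem_imgJ hQS y).1 hy
    obtain ⟨φ, hφ, hφg⟩ := exists_hom_of_conj hr hQS g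
      (fun x hx => hUr (hUn.conj_mem _ (hJQ x hx) g))
    rw [mem_imgJ hQS]
    exact ⟨φ ⟨x, hx⟩, hQsc.2 Q le_rfl φ hφ ⟨x, hx⟩, hφg ⟨x, hx⟩⟩
  have h1 : FrobHyp p (G ⧸ imgJ ι Q) := frobHyp_quotient hr T hT hQS (imgJ ι Q) rfl hstar
  have h2 : HasNPC p G := hasNPC_of_quotient T (imgJ ι Q) (imgJ_le_frattini T hT hQΦ) (hasNPC_of_frobHyp h1)
  exact pInnerOn_of_frobHyp hr T hT (frobHyp_of_hasNPC h2)

end Cfsg.Agent.Lib.Helper87_TateFusion
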