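import Mathlib
import Cfsg.Agent.Lib.Helper35_WardW12
import Cfsg.Agent.Lib.Helper33_WardW13
import Cfsg.Agent.Lib.Helper33_WardW3
import Cfsg.Agent.Lib.Helper35_WardW4
import Cfsg.Agent.Lib.Helper35_WardW10
import Cfsg.Agent.Lib.Helper35_WardW11
import Cfsg.Agent.Lib.Helper10_WardW9

/-!
# Ward's theorem, ambient form (helper87)

A finite solvable normal subgroup `N` of `Γ` on which an elementary abelian subgroup `A` of order
`p ^ 2` acts (by conjugation) without nontrivial fixed points is metanilpotent.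
-/

set_option autoImplicit false
universe u

namespace Cfsg.Agent.Lib.Helper87_WardMain

theorem lcs_normal {Γ : Type*} [Group Γ] (N : Subgroup Γ) [hN : N.Normal] (k : ℕ) :
    (N.lowerCentralSeries k).Normal := by
  induction k with
  | zero => exact hN
  | succ k ih =>
    rw [Subgroup.lowerCentralSeries_succ]
    exact Subgroup.commutator_normal _ _

theorem lcs_le {Γ : Type*} [Group Γ] (N : Subgroup Γ) (k : ℕ) : N.lowerCentralSeries k ≤ N :=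
  Subgroup.lowerCentralSeries_antitone N (Nat.zero_le k)

theorem ward_aux (p : ℕ) (hp : p.Prime) :
    ∀ n : ℕ, ∀ (Γ : Type u) [Group Γ] [Finite Γ] (N A : Subgroup Γ) [N.Normal],
      Nat.card N = n → Group.IsSolvable N → (∀ a ∈ A, ∀ b ∈ A, a * b = b * a) →
      (∀ a ∈ A, a ^ p = 1) → Nat.card A = p ^ 2 →
      (∀ g ∈ N, (∀ a ∈ A, a * g = g * a) → g = 1) →
      ∃ k c, (N.lowerCentralSeries k).lowerCentralSeries c = ⊥ := by
  intro n
  induction n using Nat.strong_induction_on with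
  | _ n IH =>
  intro Γ _ _ N A _ hn hsolv hAc hAp hcard hfpf
  by_cases hN : N = ⊥
  · exact ⟨0, 0, hN⟩
  by_contra hnot
  have ih : ∀ (Γ' : Type u) [Group Γ'] [Finite Γ'] (N' A' : Subgroup Γ') [N'.Normal],
      Nat.card N' < Nat.card N → Group.IsSolvable N' → (∀ a ∈ A', ∀ b ∈ A', a * b = b * a) →
      (∀ a ∈ A', a ^ p = 1) → Nat.card A' = p ^ 2 →
      (∀ g ∈ N', (∀ a ∈ A', a * g = g * a) → g = 1) →
      ∃ k c, (N'.lowerCentralSeries k).lowerCentralSeries c = ⊥ := by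
    intro Γ' _ _ N' A' _ hlt h1 h2 h3 h4 h5
    exact IH (Nat.card N') (hn ▸ hlt) Γ' N' A' rfl h1 h2 h3 h4 h5
  have hquot : ∀ M : Subgroup Γ, M.Normal → M ≠ ⊥ → M ≤ N →
      ∃ k c, (N.lowerCentralSeries k).lowerCentralSeries c ≤ M := by
    intro M hM hM1 hMN
    exact Helper35_WardW4.quotient_step p hp N A M hMN hM1 hsolv hAc hAp hcard hfpf ih
  obtain ⟨V, hVn, hVN, hV1, hVc, ⟨r, hr, hVr⟩, huniq⟩ :=
    Helper35_WardW10.exists_unique_minimal N hsolv hN hquot hnot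
  obtain ⟨k, c, hkc⟩ := hquot V hVn hV1 hVN
  have hA : IsPGroup p A := fun a =>
    ⟨1, by rw [pow_one]; exact Subtype.ext (by simpa using hAp a a.2)⟩
  have hcop := Helper35_WardW4.coprime_of_fpf p hp N A hA hfpf
  have hpN : ¬ p ∣ Nat.card N := by
    rw [hcard] at hcop
    have h1 : Nat.Coprime p (Nat.card N) :=
      Nat.Coprime.coprime_dvd_left (dvd_pow_self p two_ne_zero) hcop
    exact (Nat.Prime.coprime_iff_not_dvd hp).mp h1
  have hVp : IsPGroup r V := fun v =>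
    ⟨1, by rw [pow_one]; exact Subtype.ext (by simpa using hVr v v.2)⟩
  obtain ⟨q, s, hq, hs, hqs, hqr, Q, S, hQR, hSN, hQ, hS, hAQ, hAS, hSQ, hne⟩ :=
    Helper33_WardW3.exists_pair N A V hVN hcop hsolv r hr hVp k c hkc hnot
  have hRN := lcs_le N k
  have hRn := lcs_normal N k
  obtain ⟨Q₁, S₁, hQ₁Q, hS₁S, hAQ₁, hAS₁, hSQ₁, hne₁, b₀, hb₀, hb₀1, hb₀S, hCS, hQb₀⟩ :=
    Helper35_WardW12.exists_min_pair p hp N A hAc hAp hcard hfpf q s hq hs hqs Q S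
      (hQR.trans hRN) hSN hQ hS hAQ hAS hSQ hne
  have hQ₁ : IsPGroup q Q₁ := hQ.to_le hQ₁Q
  have hQ₁N : Q₁ ≤ N := hQ₁Q.trans (hQR.trans hRN)
  have hqelt : ∀ d ∈ Q₁, ∃ n : ℕ, d ^ q ^ n = 1 := by
    intro d hd
    obtain ⟨n, hn⟩ := hQ₁ ⟨d, hd⟩
    exact ⟨n, by simpa using congrArg Subtype.val hn⟩
  obtain ⟨x, hx, g, hg, hxg⟩ := hne₁
  have hpq : p ≠ q := by
    rintro rfl
    have : Fact p.Prime := ⟨hp⟩
    obtain ⟨m, hm⟩ := IsPGroup.iff_card.mp hQ₁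
    have hm0 : m ≠ 0 := by
      rintro rfl
      rw [pow_zero] at hm
      have hbot : Q₁ = ⊥ := Subgroup.card_eq_one.mp hm
      rw [hbot, Subgroup.mem_bot] at hx
      rw [hx] at hxg
      exact hxg (by rw [one_mul, mul_one])
    apply hpN
    have h1 : p ∣ Nat.card Q₁ := by rw [hm]; exact dvd_pow_self p hm0
    exact h1.trans (Subgroup.card_dvd_of_le hQ₁N)
  have hpS : ¬ p ∣ Nat.card S₁ := fun h =>
    hpN (h.trans (Subgroup.card_dvd_of_le (hS₁S.trans hSN)))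
  have hCQA : ∀ x ∈ Q₁, (∀ a ∈ A, a * x = x * a) → x = 1 := fun x hx h => hfpf x (hQ₁N hx) h
  have hii : ∀ b ∈ A, b ≠ 1 → ∀ d ∈ Q₁, d * b = b * d → ∀ v ∈ V, b * v = v * b →
      d * v = v * d := by
    intro b hb hb1 d hd hdb v hv hbv
    exact Helper35_WardW11.commute_in_centralizer p hp N A hAc hAp hcard hfpf b hb hb1 q r hq hr
      hqr d v (hQ₁N hd) (hVN hv) hdb hbv.symm (hqelt d hd) ⟨1, by rw [pow_one]; exact hVr v hv⟩
  have hcomm := Helper33_WardW13.comm_of_lft V r hr hVc hVr hp hq hpq hqr Q₁ S₁ A hQ₁ hSQ₁ hAQ₁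
    hAS₁ hAc hAp hcard hpS b₀ hb₀ hb₀1 hb₀S hCS hQb₀ hCQA hii
  apply hxg
  have hzQ : x * g * x⁻¹ * g⁻¹ ∈ Q₁ := by
    have h1 : g * x⁻¹ * g⁻¹ ∈ Q₁ :=
      (Subgroup.mem_normalizer_iff.mp (hSQ₁ hg) x⁻¹).mp (Q₁.inv_mem hx)
    have h2 : x * g * x⁻¹ * g⁻¹ = x * (g * x⁻¹ * g⁻¹) := by group
    rw [h2]
    exact Q₁.mul_mem hx h1
  have hz : x * g * x⁻¹ * g⁻¹ = 1 :=
    Helper10_WardW9.faithful_on_V (N.lowerCentralSeries k) V hV1 r hr hVp c hkc
      (fun M hM hM1 hMR => huniq M hM hM1 (hMR.trans hRN)) q hq hqr _ (hQR (hQ₁Q hzQ))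
      (hqelt _ hzQ) (hcomm x hx g hg)
  calc x * g = (x * g * x⁻¹ * g⁻¹) * (g * x) := by group
    _ = g * x := by rw [hz, one_mul]

/-- **Ward's theorem**, ambient form. -/
theorem ward_ambient {Γ : Type u} [Group Γ] [Finite Γ] (p : ℕ) (hp : p.Prime) (N A : Subgroup Γ)
    [N.Normal] (hsolv : Group.IsSolvable N) (hAc : ∀ a ∈ A, ∀ b ∈ A, a * b = b * a)
    (hAp : ∀ a ∈ A, a ^ p = 1) (hcard : Nat.card A = p ^ 2)
    (hfpf : ∀ g ∈ N, (∀ a ∈ A, a * g = g * a) → g = 1) :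
    ∃ k c, (N.lowerCentralSeries k).lowerCentralSeries c = ⊥ :=
  ward_aux p hp (Nat.card N) Γ N A rfl hsolv hAc hAp hcard hfpf

end Cfsg.Agent.Lib.Helper87_WardMain
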