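import Mathlib

set_option autoImplicit false
set_option linter.unusedSectionVars false

namespace Cfsg.Agent.Lib.Helper88_ArithCore

open Finset

section
variable {β ι κ : Type*} [Fintype β] [DecidableEq β] [Fintype ι] [DecidableEq ι] [Fintype κ]
  [DecidableEq κ]

/-- row sum -/
def sg (a : β → ι → ℤ) (χ : β) : ℤ := ∑ j, a χ j

/-- row norm -/
def nm (a : β → ι → ℤ) (χ : β) : ℤ := ∑ j, (a χ j) ^ 2

/-- fibre of the class map -/
def fib (cls : β → κ) (q : κ) : Finset β := univ.filter (fun χ => cls χ = q)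

theorem sum_sg_sq (e : ℕ) (a : β → ι → ℤ)
    (hF1 : ∀ j l : ι, ∑ χ : β, a χ j * a χ l = (e : ℤ) + if j = l then 1 else 0) :
    ∑ χ, (sg a χ) ^ 2 = (Fintype.card ι : ℤ) * ((Fintype.card ι : ℤ) * e + 1) := by
  have h1 : ∀ χ, (sg a χ) ^ 2 = ∑ j, ∑ l, a χ j * a χ l := by
    intro χ
    rw [sg, sq, Finset.sum_mul_sum]
  simp_rw [h1]
  rw [Finset.sum_comm]
  have h2 : ∀ j : ι, ∑ χ : β, ∑ l, a χ j * a χ l = (Fintype.card ι : ℤ) * e + 1 := by
    intro j
    rw [Finset.sum_comm]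
    simp_rw [hF1]
    rw [Finset.sum_add_distrib]
    simp
  simp_rw [h2]
  simp

theorem sum_nm (e : ℕ) (a : β → ι → ℤ)
    (hF1 : ∀ j l : ι, ∑ χ : β, a χ j * a χ l = (e : ℤ) + if j = l then 1 else 0) :
    ∑ χ, nm a χ = (Fintype.card ι : ℤ) * ((e : ℤ) + 1) := by
  unfold nm
  rw [Finset.sum_comm]
  have h2 : ∀ j : ι, ∑ χ : β, (a χ j) ^ 2 = (e : ℤ) + 1 := by
    intro j
    have := hF1 j j
    simp only [if_true] at this
    rw [← this]
    exact Finset.sum_congr rfl (fun χ _ => sq _)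
  simp_rw [h2]
  simp

theorem abs_sg_le_nm (a : β → ι → ℤ) (χ : β) : |sg a χ| ≤ nm a χ := by
  unfold sg nm
  refine (Finset.abs_sum_le_sum_abs _ _).trans (Finset.sum_le_sum (fun j _ => ?_))
  have := Int.natAbs_le_self_sq (a χ j)
  rw [← Int.abs_eq_natAbs] at this
  exact this

theorem one_le_nm (a : β → ι → ℤ) (χ : β) (h : a χ ≠ 0) : 1 ≤ nm a χ := by
  unfold nm
  have : ∃ j, a χ j ≠ 0 := by
    by_contra hcon
    push Not at hcon
    exact h (funext hcon)
  obtain ⟨j, hj⟩ := this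
  have h1 : (a χ j) ^ 2 ≤ ∑ j, (a χ j) ^ 2 :=
    Finset.single_le_sum (f := fun j => (a χ j) ^ 2) (fun i _ => sq_nonneg _) (Finset.mem_univ j)
  have h2 : 1 ≤ (a χ j) ^ 2 := by
    have : 0 < (a χ j) ^ 2 := by positivity
    omega
  omega


theorem class_sum (a : β → ι → ℤ) (cls : β → κ) (m : κ → ℕ) (δ : κ → ℤ)
    (hF2 : ∀ q : κ, ∀ j : ι, (m q : ℤ) * ∑ χ : β, (if cls χ = q then a χ j else 0) = -δ q)
    (hs : ∀ χ χ' : β, cls χ = cls χ' → ∑ j, a χ j = ∑ j, a χ' j) (χ : β) :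
    (m (cls χ) : ℤ) * ((fib cls (cls χ)).card * sg a χ) = -((Fintype.card ι : ℤ) * δ (cls χ)) := by
  have h1 : ∑ j : ι, (m (cls χ) : ℤ) * ∑ χ' : β, (if cls χ' = cls χ then a χ' j else 0)
      = ∑ _j : ι, -δ (cls χ) := Finset.sum_congr rfl (fun j _ => hF2 (cls χ) j)
  rw [← Finset.mul_sum, Finset.sum_comm] at h1
  have h2 : ∀ χ' : β, ∑ j : ι, (if cls χ' = cls χ then a χ' j else 0)
      = if cls χ' = cls χ then sg a χ else 0 := by
    intro χ'
    by_cases h : cls χ' = cls χ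
    · simp only [h, if_true]
      exact hs χ' χ h
    · simp [h]
  simp_rw [h2] at h1
  rw [← Finset.sum_filter] at h1
  simp only [Finset.sum_const, Finset.card_univ, nsmul_eq_mul] at h1
  rw [fib]
  linarith

theorem m_eq_one (a : β → ι → ℤ) (cls : β → κ) (m : κ → ℕ) (δ : κ → ℤ)
    (hι : 0 < Fintype.card ι)
    (hδ : ∀ q, δ q = 0 ∨ δ q = 1 ∨ δ q = -1)
    (hF2 : ∀ q : κ, ∀ j : ι, (m q : ℤ) * ∑ χ : β, (if cls χ = q then a χ j else 0) = -δ q)
    (q : κ) (hq : δ q ≠ 0) : m q = 1 := by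
  obtain ⟨j⟩ : Nonempty ι := Fintype.card_pos_iff.mp hι
  have h := hF2 q j
  have hdvd : (m q : ℤ) ∣ 1 := by
    rcases hδ q with h0 | h1 | h1
    · exact absurd h0 hq
    · rw [h1] at h
      exact ⟨-∑ χ : β, (if cls χ = q then a χ j else 0), by linarith⟩
    · rw [h1] at h
      exact ⟨∑ χ : β, (if cls χ = q then a χ j else 0), by linarith⟩
  have := Int.natCast_dvd_natCast.mp (by simpa using hdvd : ((m q : ℕ) : ℤ) ∣ ((1 : ℕ) : ℤ))
  exact Nat.dvd_one.mp this


theorem sum_fib (cls : β → κ) (f : β → ℤ) :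
    ∑ χ, f χ = ∑ q, ∑ χ ∈ fib cls q, f χ := by
  unfold fib
  exact (Finset.sum_fiberwise univ cls f).symm

theorem mem_fib (cls : β → κ) (q : κ) (χ : β) : χ ∈ fib cls q ↔ cls χ = q := by
  simp [fib]

variable (e : ℕ) (he : 0 < e) (hι : 0 < Fintype.card ι) (a : β → ι → ℤ)
    (hF1 : ∀ j l : ι, ∑ χ : β, a χ j * a χ l = (e : ℤ) + if j = l then 1 else 0)
    (hne : ∀ χ : β, a χ ≠ 0)
    (cls : β → κ) (m : κ → ℕ) (δ : κ → ℤ) (hm : ∀ q, 0 < m q)
    (hδ : ∀ q, δ q = 0 ∨ δ q = 1 ∨ δ q = -1)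
    (hF2 : ∀ q : κ, ∀ j : ι, (m q : ℤ) * ∑ χ : β, (if cls χ = q then a χ j else 0) = -δ q)
    (hs : ∀ χ χ' : β, cls χ = cls χ' → ∑ j, a χ j = ∑ j, a χ' j)

include hι hδ hF2 in
theorem fib_nonempty (q : κ) (hq : δ q ≠ 0) : (fib cls q).Nonempty := by
  by_contra hcon
  rw [Finset.not_nonempty_iff_eq_empty] at hcon
  obtain ⟨j⟩ : Nonempty ι := Fintype.card_pos_iff.mp hι
  have h := hF2 q j
  rw [← Finset.sum_filter] at h
  change (m q : ℤ) * ∑ χ ∈ fib cls q, a χ j = -δ q at h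
  rw [hcon] at h
  simp at h
  exact hq h

include hι hδ hF2 hs in
theorem card_mul_abs (χ : β) (hq : δ (cls χ) ≠ 0) :
    ((fib cls (cls χ)).card : ℤ) * |sg a χ| = (Fintype.card ι : ℤ) := by
  have h1 := class_sum a cls m δ hF2 hs χ
  rw [m_eq_one a cls m δ hι hδ hF2 _ hq] at h1
  have h2 : |((fib cls (cls χ)).card : ℤ) * sg a χ| = |-((Fintype.card ι : ℤ) * δ (cls χ))| := by
    rw [← h1]; simp
  rw [abs_mul, abs_neg, abs_mul] at h2
  have h3 : |δ (cls χ)| = 1 := by
    rcases hδ (cls χ) with h | h | h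
    · exact absurd h hq
    · rw [h]; simp
    · rw [h]; simp
  rw [h3] at h2
  simpa using h2

include hm hF2 hs in
theorem sg_eq_zero (χ : β) (hq : δ (cls χ) = 0) : sg a χ = 0 := by
  have h1 := class_sum a cls m δ hF2 hs χ
  rw [hq] at h1
  have hm' : (m (cls χ) : ℤ) ≠ 0 := by
    have := hm (cls χ); positivity
  have hn' : ((fib cls (cls χ)).card : ℤ) ≠ 0 := by
    have : 0 < (fib cls (cls χ)).card := Finset.card_pos.mpr ⟨χ, (mem_fib cls _ χ).mpr rfl⟩
    positivity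
  simp only [mul_zero, neg_zero, mul_eq_zero] at h1
  tauto


include hι hδ hF2 hs in
theorem abs_sg_eq (q : κ) (hq : δ q ≠ 0) (χ : β) (hχ : χ ∈ fib cls q) :
    (fib cls q).card * (Fintype.card ι / (fib cls q).card) = Fintype.card ι ∧
      |sg a χ| = ((Fintype.card ι / (fib cls q).card : ℕ) : ℤ) := by
  have hc : cls χ = q := (mem_fib cls q χ).mp hχ
  subst hc
  have h1 := card_mul_abs hι a cls m δ hδ hF2 hs χ hq
  rw [Int.abs_eq_natAbs] at h1
  have h2 : (fib cls (cls χ)).card * (sg a χ).natAbs = Fintype.card ι := by exact_mod_cast h1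
  have hpos : 0 < (fib cls (cls χ)).card := Finset.card_pos.mpr ⟨χ, hχ⟩
  have h3 : Fintype.card ι / (fib cls (cls χ)).card = (sg a χ).natAbs := by
    rw [← h2, Nat.mul_div_cancel_left _ hpos]
  rw [h3]
  exact ⟨h2, Int.abs_eq_natAbs _⟩

include hι hδ hF1 hm hF2 hs in
/-- (i): the sum of `s q = t / n q` over the classes with `δ ≠ 0` is `e t + 1`. -/
theorem sum_s :
    ∑ q, (if δ q ≠ 0 then ((Fintype.card ι / (fib cls q).card : ℕ) : ℤ) else 0)
      = (Fintype.card ι : ℤ) * e + 1 := by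
  have h1 := sum_sg_sq e a hF1
  rw [sum_fib cls] at h1
  have h2 : ∀ q, ∑ χ ∈ fib cls q, (sg a χ) ^ 2
      = (Fintype.card ι : ℤ) *
        (if δ q ≠ 0 then ((Fintype.card ι / (fib cls q).card : ℕ) : ℤ) else 0) := by
    intro q
    by_cases hq : δ q ≠ 0
    · rw [if_pos hq]
      have h3 : ∀ χ ∈ fib cls q, (sg a χ) ^ 2
          = ((Fintype.card ι / (fib cls q).card : ℕ) : ℤ) ^ 2 := by
        intro χ hχ
        rw [← (abs_sg_eq hι a cls m δ hδ hF2 hs q hq χ hχ).2, sq_abs]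
      rw [Finset.sum_congr rfl h3, Finset.sum_const, nsmul_eq_mul]
      obtain ⟨χ, hχ⟩ := fib_nonempty hι a cls m δ hδ hF2 q hq
      have h4 := (abs_sg_eq hι a cls m δ hδ hF2 hs q hq χ hχ).1
      have h5 : ((fib cls q).card : ℤ) * ((Fintype.card ι / (fib cls q).card : ℕ) : ℤ)
          = (Fintype.card ι : ℤ) := by exact_mod_cast h4
      rw [sq, ← mul_assoc, h5]
    · rw [if_neg hq, mul_zero]
      push Not at hq
      apply Finset.sum_eq_zero
      intro χ hχ
      have hc : cls χ = q := (mem_fib cls q χ).mp hχ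
      rw [sg_eq_zero a cls m δ hm hF2 hs χ (by rw [hc]; exact hq)]
      simp
  simp_rw [h2] at h1
  rw [← Finset.mul_sum] at h1
  have ht : (Fintype.card ι : ℤ) ≠ 0 := by positivity
  exact mul_left_cancel₀ ht h1


/-- the pointwise lower bound for the norm -/
def lb (a : β → ι → ℤ) (cls : β → κ) (δ : κ → ℤ) (χ : β) : ℤ :=
  if δ (cls χ) ≠ 0 then |sg a χ| else 1

include hne in
theorem lb_le_nm (χ : β) : lb a cls δ χ ≤ nm a χ := by
  unfold lb
  split_ifs
  · exact abs_sg_le_nm a χ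
  · exact one_le_nm a χ (hne χ)

include hι hδ hF2 hs in
theorem sum_lb :
    ∑ χ, lb a cls δ χ
      = ∑ q, (if δ q ≠ 0 then (Fintype.card ι : ℤ) else ((fib cls q).card : ℤ)) := by
  rw [sum_fib cls]
  refine Finset.sum_congr rfl (fun q _ => ?_)
  by_cases hq : δ q ≠ 0
  · rw [if_pos hq]
    have h3 : ∀ χ ∈ fib cls q, lb a cls δ χ
        = ((Fintype.card ι / (fib cls q).card : ℕ) : ℤ) := by
      intro χ hχ
      have hc : cls χ = q := (mem_fib cls q χ).mp hχ
      rw [lb, hc, if_pos hq]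
      exact (abs_sg_eq hι a cls m δ hδ hF2 hs q hq χ hχ).2
    rw [Finset.sum_congr rfl h3, Finset.sum_const, nsmul_eq_mul]
    obtain ⟨χ, hχ⟩ := fib_nonempty hι a cls m δ hδ hF2 q hq
    have h4 := (abs_sg_eq hι a cls m δ hδ hF2 hs q hq χ hχ).1
    exact_mod_cast h4
  · rw [if_neg hq]
    have h3 : ∀ χ ∈ fib cls q, lb a cls δ χ = 1 := by
      intro χ hχ
      have hc : cls χ = q := (mem_fib cls q χ).mp hχ
      rw [lb, hc, if_neg hq]
    rw [Finset.sum_congr rfl h3, Finset.sum_const, nsmul_eq_mul, mul_one]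

include hι hδ hF2 hs in
theorem s_le (q : κ) (hq : δ q ≠ 0) :
    0 < (fib cls q).card ∧
    (fib cls q).card * (Fintype.card ι / (fib cls q).card) = Fintype.card ι ∧
    0 < Fintype.card ι / (fib cls q).card ∧
    Fintype.card ι / (fib cls q).card ≤ Fintype.card ι := by
  obtain ⟨χ, hχ⟩ := fib_nonempty hι a cls m δ hδ hF2 q hq
  have h4 := (abs_sg_eq hι a cls m δ hδ hF2 hs q hq χ hχ).1
  have hpos : 0 < (fib cls q).card := Finset.card_pos.mpr ⟨χ, hχ⟩
  refine ⟨hpos, h4, ?_, Nat.div_le_self _ _⟩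
  rcases Nat.eq_zero_or_pos (Fintype.card ι / (fib cls q).card) with h | h
  · rw [h, mul_zero] at h4; omega
  · exact h

include hι hδ hF1 hne hm hF2 hs in
/-- The counting: there are exactly `e + 1` classes with `δ ≠ 0`, every `χ` lies in one of them,
and the norm of every row equals the absolute value of its row sum. -/
theorem counting :
    (univ.filter (fun q => δ q ≠ 0)).card = e + 1 ∧ (∀ χ, δ (cls χ) ≠ 0) ∧
      ∀ χ, nm a χ = |sg a χ| := by
  classical
  set T := Fintype.card ι with hT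
  set S := univ.filter (fun q : κ => δ q ≠ 0) with hS
  have h1 := sum_s e hι a hF1 cls m δ hm hδ hF2 hs
  have h2 := sum_lb hι a cls m δ hδ hF2 hs
  have h3 := sum_nm e a hF1
  have h4 : ∑ χ, lb a cls δ χ ≤ ∑ χ, nm a χ :=
    Finset.sum_le_sum (fun χ _ => lb_le_nm a hne cls δ χ)
  rw [Finset.sum_ite, Finset.sum_const_zero, add_zero] at h1
  rw [Finset.sum_ite, Finset.sum_const, nsmul_eq_mul] at h2
  -- upper bound from (i)
  have h5 : ∑ q ∈ S, ((T / (fib cls q).card : ℕ) : ℤ) ≤ ∑ _q ∈ S, (T : ℤ) := by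
    apply Finset.sum_le_sum
    intro q hq
    have hq' : δ q ≠ 0 := (Finset.mem_filter.mp hq).2
    exact_mod_cast (s_le hι a cls m δ hδ hF2 hs q hq').2.2.2
  rw [Finset.sum_const, nsmul_eq_mul] at h5
  have hz : 0 ≤ ∑ q ∈ univ.filter (fun q : κ => ¬ δ q ≠ 0), ((fib cls q).card : ℤ) :=
    Finset.sum_nonneg (fun q _ => by positivity)
  have hTpos : (0 : ℤ) < T := by exact_mod_cast hι
  -- r ≥ e + 1
  have h6 : (e : ℤ) + 1 ≤ S.card := by
    by_contra hcon
    push Not at hcon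
    have : (S.card : ℤ) ≤ e := by omega
    nlinarith
  have h7 : (S.card : ℤ) ≤ e + 1 := by
    by_contra hcon
    push Not at hcon
    have : (e : ℤ) + 2 ≤ S.card := by omega
    nlinarith
  have h8 : (S.card : ℤ) = e + 1 := le_antisymm h7 h6
  have h9 : ∑ q ∈ univ.filter (fun q : κ => ¬ δ q ≠ 0), ((fib cls q).card : ℤ) = 0 := by
    rw [h8] at h2
    nlinarith
  have h10 : ∑ χ, lb a cls δ χ = ∑ χ, nm a χ := by
    rw [h2, h3, h9, h8]; ring
  have h11 : ∀ χ, δ (cls χ) ≠ 0 := by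
    intro χ hχ
    have := (Finset.sum_eq_zero_iff_of_nonneg (fun q _ => by positivity)).mp h9 (cls χ)
      (Finset.mem_filter.mpr ⟨Finset.mem_univ _, by simpa using hχ⟩)
    have h12 : (fib cls (cls χ)).card = 0 := by exact_mod_cast this
    rw [Finset.card_eq_zero] at h12
    have : χ ∈ fib cls (cls χ) := (mem_fib cls _ χ).mpr rfl
    rw [h12] at this
    simp at this
  refine ⟨by exact_mod_cast h8, h11, ?_⟩
  intro χ
  have := (Finset.sum_eq_sum_iff_of_le (fun χ _ => lb_le_nm a hne cls δ χ)).mp h10 χ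
    (Finset.mem_univ χ)
  rw [← this, lb, if_pos (h11 χ)]


local notation "T" => Fintype.card ι

include hι hδ hF1 hne hm hF2 hs in
/-- There is a class `q₀` with `δ q₀ ≠ 0` and `t` members; all other classes with `δ ≠ 0` are
singletons. -/
theorem exists_big_class :
    ∃ q₀, δ q₀ ≠ 0 ∧ (fib cls q₀).card = Fintype.card ι ∧
      ∀ q, δ q ≠ 0 → q ≠ q₀ → (fib cls q).card = 1 := by
  classical
  obtain ⟨hr, -, -⟩ := counting e hι a hF1 hne cls m δ hm hδ hF2 hs
  have h1 := sum_s e hι a hF1 cls m δ hm hδ hF2 hs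
  rw [Finset.sum_ite, Finset.sum_const_zero, add_zero] at h1
  set S := univ.filter (fun q : κ => δ q ≠ 0) with hS
  have memS : ∀ q, q ∈ S ↔ δ q ≠ 0 := fun q => by simp [hS]
  have hSne : S.Nonempty := Finset.card_pos.mp (by omega)
  have key := fun q hq => s_le hι a cls m δ hδ hF2 hs q hq
  by_cases hT1 : T = 1
  · obtain ⟨q₀, hq₀⟩ := hSne
    have hall : ∀ q, δ q ≠ 0 → (fib cls q).card = 1 := by
      intro q hq
      obtain ⟨-, k2, -, -⟩ := key q hq
      rw [hT1] at k2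
      exact Nat.eq_one_of_mul_eq_one_right k2
    exact ⟨q₀, (memS q₀).mp hq₀, by rw [hall q₀ ((memS q₀).mp hq₀), hT1], fun q hq _ => hall q hq⟩
  · have hT2 : 2 ≤ T := by omega
    -- some class has s < T
    have hex : ∃ q₀ ∈ S, T / (fib cls q₀).card < T := by
      by_contra hcon
      push Not at hcon
      have h2 : ∑ q ∈ S, ((T / (fib cls q).card : ℕ) : ℤ) = ∑ _q ∈ S, (T : ℤ) := by
        apply Finset.sum_congr rfl
        intro q hq
        have := (key q ((memS q).mp hq)).2.2.2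
        have := hcon q hq
        have : T / (fib cls q).card = T := by omega
        rw [this]
      rw [h2, Finset.sum_const, nsmul_eq_mul, hr] at h1
      have hTz : (2 : ℤ) ≤ T := by exact_mod_cast hT2
      push_cast at h1
      nlinarith
    obtain ⟨q₀, hq₀S, hq₀⟩ := hex
    have half : ∀ q, δ q ≠ 0 → T / (fib cls q).card < T → 2 * (T / (fib cls q).card) ≤ T := by
      intro q hq hlt
      obtain ⟨k1, k2, k3, k4⟩ := key q hq
      have : 2 ≤ (fib cls q).card := by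
        by_contra hcon
        have : (fib cls q).card = 1 := by omega
        rw [this, one_mul] at k2
        rw [this, Nat.div_one] at hlt
        omega
      calc 2 * (T / (fib cls q).card) ≤ (fib cls q).card * (T / (fib cls q).card) :=
            Nat.mul_le_mul_right _ this
        _ = T := k2
    have hothers : ∀ q ∈ S, q ≠ q₀ → T / (fib cls q).card = T := by
      intro q hq hne'
      by_contra hcon
      have hlt : T / (fib cls q).card < T := by
        have := (key q ((memS q).mp hq)).2.2.2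
        omega
      have hh1 := half q ((memS q).mp hq) hlt
      have hh2 := half q₀ ((memS q₀).mp hq₀S) hq₀
      -- the sum of T - s over S is T - 1
      have hsum : ∑ q ∈ S, ((T : ℤ) - ((T / (fib cls q).card : ℕ) : ℤ)) = (T : ℤ) - 1 := by
        rw [Finset.sum_sub_distrib, h1, Finset.sum_const, nsmul_eq_mul, hr]
        push_cast; ring
      have hnn : ∀ q ∈ S, (0 : ℤ) ≤ (T : ℤ) - ((T / (fib cls q).card : ℕ) : ℤ) := by
        intro q hq
        have := (key q ((memS q).mp hq)).2.2.2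
        have : ((T / (fib cls q).card : ℕ) : ℤ) ≤ (T : ℤ) := by exact_mod_cast this
        linarith
      have h3 : ((T : ℤ) - ((T / (fib cls q₀).card : ℕ) : ℤ))
          + ∑ q ∈ S.erase q₀, ((T : ℤ) - ((T / (fib cls q).card : ℕ) : ℤ)) = (T : ℤ) - 1 := by
        rw [Finset.add_sum_erase S (fun q => (T : ℤ) - ((T / (fib cls q).card : ℕ) : ℤ)) hq₀S]
        exact hsum
      have h4 : ((T : ℤ) - ((T / (fib cls q).card : ℕ) : ℤ))
          ≤ ∑ q ∈ S.erase q₀, ((T : ℤ) - ((T / (fib cls q).card : ℕ) : ℤ)) :=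
        Finset.single_le_sum (f := fun q => (T : ℤ) - ((T / (fib cls q).card : ℕ) : ℤ))
          (fun q hq => hnn q (Finset.mem_of_mem_erase hq)) (Finset.mem_erase.mpr ⟨hne', hq⟩)
      have hh1' : (2 : ℤ) * ((T / (fib cls q).card : ℕ) : ℤ) ≤ T := by exact_mod_cast hh1
      have hh2' : (2 : ℤ) * ((T / (fib cls q₀).card : ℕ) : ℤ) ≤ T := by exact_mod_cast hh2
      linarith
    have hone : ∀ q ∈ S, q ≠ q₀ → (fib cls q).card = 1 := by
      intro q hq hne'
      have h := hothers q hq hne'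
      obtain ⟨k1, k2, k3, k4⟩ := key q ((memS q).mp hq)
      rw [h] at k2
      have hTpos : 0 < T := by omega
      exact Nat.eq_of_mul_eq_mul_right hTpos (by rw [k2, one_mul])
    refine ⟨q₀, (memS q₀).mp hq₀S, ?_, fun q hq hne' => hone q ((memS q).mpr hq) hne'⟩
    -- s q₀ = 1
    have h5 : ∑ q ∈ S, ((T / (fib cls q).card : ℕ) : ℤ)
        = ((T / (fib cls q₀).card : ℕ) : ℤ) + ∑ _q ∈ S.erase q₀, (T : ℤ) := by
      rw [← Finset.add_sum_erase S (fun q => ((T / (fib cls q).card : ℕ) : ℤ)) hq₀S]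
      congr 1
      apply Finset.sum_congr rfl
      intro q hq
      rw [hothers q (Finset.mem_of_mem_erase hq) (Finset.ne_of_mem_erase hq)]
    rw [h5, Finset.sum_const, nsmul_eq_mul, Finset.card_erase_of_mem hq₀S, hr] at h1
    have h6 : ((T / (fib cls q₀).card : ℕ) : ℤ) = 1 := by
      simp only [Nat.add_sub_cancel] at h1
      linarith
    have h7 : T / (fib cls q₀).card = 1 := by exact_mod_cast h6
    obtain ⟨k1, k2, k3, k4⟩ := key q₀ ((memS q₀).mp hq₀S)
    rw [h7, mul_one] at k2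
    exact k2


include hι hδ hF2 in
/-- rows in singleton classes are constant `-δ`. -/
theorem row_of_singleton (χ : β) (hq : δ (cls χ) ≠ 0) (h1 : (fib cls (cls χ)).card = 1) (j : ι) :
    a χ j = -δ (cls χ) := by
  have h := hF2 (cls χ) j
  rw [m_eq_one a cls m δ hι hδ hF2 _ hq, ← Finset.sum_filter] at h
  change ((1 : ℕ) : ℤ) * ∑ χ' ∈ fib cls (cls χ), a χ' j = -δ (cls χ) at h
  obtain ⟨χ₀, hχ₀⟩ := Finset.card_eq_one.mp h1
  have hmem : χ ∈ fib cls (cls χ) := (mem_fib cls _ χ).mpr rfl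
  rw [hχ₀, Finset.mem_singleton] at hmem
  rw [hχ₀, Finset.sum_singleton, ← hmem] at h
  simpa using h

/-- a row of norm one has a single nonzero entry, equal to the row sum. -/
theorem row_of_nm_one (χ : β) (h1 : nm a χ = 1) (j₀ : ι) (hj₀ : a χ j₀ ≠ 0) (j : ι) :
    a χ j = if j = j₀ then sg a χ else 0 := by
  unfold nm at h1
  rw [← Finset.add_sum_erase univ (fun j => (a χ j) ^ 2) (Finset.mem_univ j₀)] at h1
  have h2 : 1 ≤ (a χ j₀) ^ 2 := by
    have : 0 < (a χ j₀) ^ 2 := by positivity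
    omega
  have h3 : 0 ≤ ∑ j ∈ univ.erase j₀, (a χ j) ^ 2 := Finset.sum_nonneg (fun j _ => sq_nonneg _)
  have h4 : ∑ j ∈ univ.erase j₀, (a χ j) ^ 2 = 0 := by linarith
  have h5 : ∀ j, j ≠ j₀ → a χ j = 0 := by
    intro j hj
    have := (Finset.sum_eq_zero_iff_of_nonneg (fun j _ => sq_nonneg (a χ j))).mp h4 j
      (Finset.mem_erase.mpr ⟨hj, Finset.mem_univ j⟩)
    exact pow_eq_zero_iff (two_ne_zero) |>.mp this
  have h6 : sg a χ = a χ j₀ := by
    unfold sg
    rw [← Finset.add_sum_erase univ (fun j => a χ j) (Finset.mem_univ j₀)]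
    rw [Finset.sum_eq_zero (fun j hj => h5 j (Finset.ne_of_mem_erase hj)), add_zero]
  by_cases hj : j = j₀
  · rw [if_pos hj, hj, h6]
  · rw [if_neg hj, h5 j hj]

end

/-- AC: the arithmetic core (statement of `pending/helper57/AC.lean.txt`, verbatim). -/
theorem arithmetic_core {β ι κ : Type*} [Fintype β] [DecidableEq β] [Fintype ι] [DecidableEq ι] [Fintype κ]
    [DecidableEq κ] (e : ℕ) (he : 0 < e) (hι : 0 < Fintype.card ι) (a : β → ι → ℤ)
    (hF1 : ∀ j l : ι, ∑ χ : β, a χ j * a χ l = (e : ℤ) + if j = l then 1 else 0)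
    (hne : ∀ χ : β, a χ ≠ 0)
    (cls : β → κ) (m : κ → ℕ) (δ : κ → ℤ) (hm : ∀ q, 0 < m q)
    (hδ : ∀ q, δ q = 0 ∨ δ q = 1 ∨ δ q = -1)
    (hF2 : ∀ q : κ, ∀ j : ι, (m q : ℤ) * ∑ χ : β, (if cls χ = q then a χ j else 0) = -δ q)
    (hs : ∀ χ χ' : β, cls χ = cls χ' → ∑ j, a χ j = ∑ j, a χ' j) :
    Fintype.card β = e + Fintype.card ι ∧
      ∃ (X Y : Finset β) (δX : β → ℤ) (δY : ℤ) (π : β → ι), Disjoint X Y ∧ X ∪ Y = Finset.univ ∧
        X.card = e ∧ Y.card = Fintype.card ι ∧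
        (∀ χ ∈ X, (δX χ = 1 ∨ δX χ = -1) ∧ ∀ j, a χ j = -δX χ) ∧
        (δY = 1 ∨ δY = -1) ∧ (∀ θ ∈ Y, ∀ j, a θ j = if j = π θ then -δY else 0) ∧
        Set.BijOn π (Y : Set β) Set.univ := by
  classical
  obtain ⟨hr, hall, hnorm⟩ := counting e hι a hF1 hne cls m δ hm hδ hF2 hs
  obtain ⟨q₀, hq₀, hcard₀, hsing⟩ := exists_big_class e hι a hF1 hne cls m δ hm hδ hF2 hs
  have hpm : ∀ q, δ q ≠ 0 → (δ q = 1 ∨ δ q = -1) := by
    intro q hq
    rcases hδ q with h | h | h
    · exact absurd h hq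
    · exact Or.inl h
    · exact Or.inr h
  set Y := fib cls q₀ with hY
  set X := Finset.univ \ Y with hX
  have hdisj : Disjoint X Y := Finset.sdiff_disjoint
  have hunion : X ∪ Y = Finset.univ := by
    rw [hX, Finset.sdiff_union_of_subset (Finset.subset_univ _)]
  -- card X = e
  have hXcard : X.card = e := by
    have hmaps : ((X : Finset β) : Set β).MapsTo cls
        ((Finset.univ.filter (fun q : κ => δ q ≠ 0)).erase q₀ : Finset κ) := by
      intro χ hχ
      have hχ' : χ ∈ X := hχ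
      rw [hX, Finset.mem_sdiff] at hχ'
      have : cls χ ≠ q₀ := fun h => hχ'.2 ((mem_fib cls q₀ χ).mpr h)
      exact Finset.mem_coe.mpr
        (Finset.mem_erase.mpr ⟨this, Finset.mem_filter.mpr ⟨Finset.mem_univ _, hall χ⟩⟩)
    rw [Finset.card_eq_sum_card_fiberwise hmaps]
    have h1 : ∀ q ∈ (Finset.univ.filter (fun q : κ => δ q ≠ 0)).erase q₀,
        (X.filter (fun χ => cls χ = q)).card = 1 := by
      intro q hq
      have hqne : q ≠ q₀ := Finset.ne_of_mem_erase hq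
      have hqδ : δ q ≠ 0 := (Finset.mem_filter.mp (Finset.mem_of_mem_erase hq)).2
      rw [← hsing q hqδ hqne]
      congr 1
      ext χ
      simp only [Finset.mem_filter, hX, Finset.mem_sdiff, Finset.mem_univ, true_and, mem_fib, hY]
      constructor
      · exact fun h => h.2
      · intro h
        exact ⟨fun h' => hqne (h ▸ h'), h⟩
    have hq₀S : q₀ ∈ Finset.univ.filter (fun q : κ => δ q ≠ 0) :=
      Finset.mem_filter.mpr ⟨Finset.mem_univ _, hq₀⟩
    rw [Finset.sum_congr rfl h1, Finset.sum_const, smul_eq_mul, mul_one,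
      Finset.card_erase_of_mem hq₀S, hr]
    simp
  have hβ : Fintype.card β = e + Fintype.card ι := by
    rw [← Finset.card_univ, ← hunion, Finset.card_union_of_disjoint hdisj, hXcard, hcard₀]
  -- the rows in Y
  have hex : ∀ θ : β, ∃ j, a θ j ≠ 0 := by
    intro θ
    by_contra hcon
    push Not at hcon
    exact hne θ (funext hcon)
  let π : β → ι := fun θ => Classical.choose (hex θ)
  have hπ : ∀ θ, a θ (π θ) ≠ 0 := fun θ => Classical.choose_spec (hex θ)
  have hTpos : (0 : ℤ) < Fintype.card ι := by exact_mod_cast hι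
  have hYrow : ∀ θ ∈ Y, ∀ j, a θ j = if j = π θ then -δ q₀ else 0 := by
    intro θ hθ j
    have hc : cls θ = q₀ := (mem_fib cls q₀ θ).mp hθ
    have h1 := class_sum a cls m δ hF2 hs θ
    rw [hc, m_eq_one a cls m δ hι hδ hF2 _ hq₀, hcard₀] at h1
    have hsg : sg a θ = -δ q₀ := by
      have : (Fintype.card ι : ℤ) * (sg a θ + δ q₀) = 0 := by
        push_cast at h1; linarith
      rcases mul_eq_zero.mp this with h | h
      · omega
      · linarith
    have hnm : nm a θ = 1 := by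
      rw [hnorm θ, hsg, abs_neg]
      rcases hpm q₀ hq₀ with h | h <;> rw [h] <;> simp
    rw [row_of_nm_one a θ hnm (π θ) (hπ θ) j, hsg]
  refine ⟨hβ, X, Y, fun χ => δ (cls χ), δ q₀, π, hdisj, hunion, hXcard, hcard₀, ?_, hpm q₀ hq₀,
    hYrow, ?_⟩
  · intro χ hχ
    rw [hX, Finset.mem_sdiff] at hχ
    have hcne : cls χ ≠ q₀ := fun h => hχ.2 ((mem_fib cls q₀ χ).mpr h)
    exact ⟨hpm _ (hall χ), fun j =>
      row_of_singleton hι a cls m δ hδ hF2 χ (hall χ) (hsing _ (hall χ) hcne) j⟩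
  · -- bijectivity
    have hcount : ∀ j : ι, (Y.filter (fun θ => j = π θ)).card = 1 := by
      intro j
      have h := hF2 q₀ j
      rw [m_eq_one a cls m δ hι hδ hF2 _ hq₀, ← Finset.sum_filter] at h
      change ((1 : ℕ) : ℤ) * ∑ θ ∈ Y, a θ j = -δ q₀ at h
      rw [Finset.sum_congr rfl (fun θ hθ => hYrow θ hθ j), Finset.sum_ite, Finset.sum_const_zero,
        add_zero, Finset.sum_const, nsmul_eq_mul] at h
      have h2 : (((Y.filter (fun θ => j = π θ)).card : ℤ) - 1) * δ q₀ = 0 := by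
        push_cast at h; linarith
      rcases mul_eq_zero.mp h2 with h3 | h3
      · have : ((Y.filter (fun θ => j = π θ)).card : ℤ) = 1 := by linarith
        exact_mod_cast this
      · exact absurd h3 hq₀
    refine ⟨fun _ _ => Set.mem_univ _, ?_, ?_⟩
    · intro θ₁ h₁ θ₂ h₂ heq
      obtain ⟨θ₀, hθ₀⟩ := Finset.card_eq_one.mp (hcount (π θ₁))
      have m1 : θ₁ ∈ Y.filter (fun θ => π θ₁ = π θ) :=
        Finset.mem_filter.mpr ⟨Finset.mem_coe.mp h₁, rfl⟩
      have m2 : θ₂ ∈ Y.filter (fun θ => π θ₁ = π θ) :=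
        Finset.mem_filter.mpr ⟨Finset.mem_coe.mp h₂, heq⟩
      rw [hθ₀, Finset.mem_singleton] at m1 m2
      rw [m1, m2]
    · intro j _
      obtain ⟨θ₀, hθ₀⟩ := Finset.card_eq_one.mp (hcount j)
      have : θ₀ ∈ Y.filter (fun θ => j = π θ) := by rw [hθ₀]; exact Finset.mem_singleton_self _
      rw [Finset.mem_filter] at this
      exact ⟨θ₀, Finset.mem_coe.mpr this.1, this.2.symm⟩

end Cfsg.Agent.Lib.Helper88_ArithCore
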