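import Mathlib
import Cfsg.Prelude.Def_FusionSystem
import Cfsg.Agent.Lib.Helper87_Alperin
import Cfsg.Agent.Lib.Helper84_FusionSat
import Cfsg.Agent.Lib.Helper88_Centric
import Cfsg.Agent.Lib.Helper88_Centric2
import Cfsg.Agent.Lib.Helper88_Receptive

/-!
# Control of fusion by small abelian subgroups, I (helper88)

The key lemma of the Benson–Grodal–Henke theorem.  Let `E ≤ F` be fusion systems over `S`, with `F`
saturated, agreeing on all subgroups of order larger than `|Q|`.  Let `B ⊴ Q` be receptive in `E`,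
such that every map of `F` on `B` is a map of `E` and every automorphism of `Q` in `F` fixing `B`
pointwise is induced by an element of `S`.  Then every automorphism of `Q` in `F` is a map of `E`.
-/

set_option autoImplicit false
set_option linter.style.haveILetI false

namespace Cfsg.Agent.Lib.Helper88_BGH1

open Cfsg Cfsg.FusionSystem Cfsg.Agent.Lib.Helper87_Alperin Cfsg.Agent.Lib.Helper88_Centric
  Cfsg.Agent.Lib.Helper88_Centric2 Cfsg.Agent.Lib.Helper88_Receptive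

variable {Ω : Type*} [Group Ω] {S : Subgroup Ω}

/-- Receptivity, in function form: a map onto a receptive subgroup extends to the subgroup generated
by any set of elements satisfying the defining condition of the extender. -/
theorem exists_extension_closure {F : FusionSystem S} {P Q' : Subgroup Ω} (hQ'r : F.IsReceptive Q')
    {f : Ω → Ω} (hf : IsMapOn F P f) (hQ' : IsImage P f Q') (T₀ : Set Ω)
    (hT₀ : ∀ g ∈ T₀, g ∈ S ∧ g ∈ Subgroup.normalizer (P : Set Ω) ∧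
      ∃ h ∈ S, ∀ x ∈ P, f (g * x * g⁻¹) = h * f x * h⁻¹) :
    ∃ f' : Ω → Ω, IsMapOn F (Subgroup.closure T₀) f' ∧
      ∀ x ∈ P, x ∈ Subgroup.closure T₀ → f' x = f x := by
  obtain ⟨φ, hφ, hφf⟩ := hf
  have hr : φ.range = Q' := by
    ext y
    rw [hQ' y]
    constructor
    · rintro ⟨x, rfl⟩
      exact ⟨x, x.2, (hφf x).symm⟩
    · rintro ⟨x, hx, rfl⟩
      exact ⟨⟨x, hx⟩, hφf _⟩
  obtain ⟨χ, hχ, hχext⟩ := hQ'r.2 P φ hφ hr
  have hle : Subgroup.closure T₀ ≤ extender S P φ := by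
    unfold extender
    apply Subgroup.closure_mono
    intro g hg
    obtain ⟨hgS, hgN, h, hhS, hh⟩ := hT₀ g hg
    refine ⟨hgS, hgN, h, hhS, fun x hx => ?_⟩
    rw [hφf, hφf]
    exact hh x x.2
  refine ⟨extHom χ, (isMapOn_extHom F hχ).mono hle, fun x hx hxT => ?_⟩
  rw [extHom_apply χ (hle hxT), hχext x hx (hle hxT), hφf]

/-- The inverse of a map of the system, with the image relation. -/
theorem exists_inverse {F : FusionSystem S} {P P' : Subgroup Ω} {f : Ω → Ω} (hf : IsMapOn F P f)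
    (hP' : IsImage P f P') :
    ∃ g : Ω → Ω, IsMapOn F P' g ∧ IsImage P' g P ∧ (∀ x ∈ P, g (f x) = x) ∧
      ∀ y ∈ P', f (g y) = y := by
  obtain ⟨g, hg, h1, h2, h3⟩ := hf.inv hP'
  refine ⟨g, hg, fun y => ⟨fun hy => ⟨f y, hP'.mem hy, h1 y hy⟩, ?_⟩, h1, h3⟩
  rintro ⟨x, hx, rfl⟩
  exact h2 x hx

/-- A map of the system is determined, as a map of a subsystem, by its inverse. -/
theorem isMapOn_of_inverse {E : FusionSystem S} {P P' : Subgroup Ω} {f g : Ω → Ω}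
    (hg : IsMapOn E P' g) (hgP : IsImage P' g P) (hfP' : ∀ x ∈ P, f x ∈ P')
    (hgf : ∀ x ∈ P, g (f x) = x) : IsMapOn E P f := by
  obtain ⟨k, hk, _, h1, _⟩ := exists_inverse hg hgP
  refine hk.congr (fun x hx => ?_)
  have := h1 (f x) (hfP' x hx)
  rw [hgf x hx] at this
  exact this

/-- The product `Q' C` of a subgroup `Q'` and a subgroup `C` normalized by `Q'`. -/
def mulSub (Q' C : Subgroup Ω) (h : ∀ q ∈ Q', ∀ c ∈ C, q⁻¹ * c * q ∈ C) : Subgroup Ω where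
  carrier := {y | ∃ q ∈ Q', ∃ c ∈ C, y = q * c}
  one_mem' := ⟨1, Q'.one_mem, 1, C.one_mem, by simp⟩
  mul_mem' := by
    rintro _ _ ⟨q₁, hq₁, c₁, hc₁, rfl⟩ ⟨q₂, hq₂, c₂, hc₂, rfl⟩
    exact ⟨q₁ * q₂, Q'.mul_mem hq₁ hq₂, (q₂⁻¹ * c₁ * q₂) * c₂,
      C.mul_mem (h q₂ hq₂ c₁ hc₁) hc₂, by group⟩
  inv_mem' := by
    rintro _ ⟨q, hq, c, hc, rfl⟩
    refine ⟨q⁻¹, Q'.inv_mem hq, q * c⁻¹ * q⁻¹, ?_, by group⟩
    have := h q⁻¹ (Q'.inv_mem hq) c⁻¹ (C.inv_mem hc)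
    simpa using this

theorem mem_mulSub {Q' C : Subgroup Ω} (h : ∀ q ∈ Q', ∀ c ∈ C, q⁻¹ * c * q ∈ C) (y : Ω) :
    y ∈ mulSub Q' C h ↔ ∃ q ∈ Q', ∃ c ∈ C, y = q * c := Iff.rfl

/-- If `Q ≠ Q'` have the same order, `Q'` normalizes `B`, and `Q ⊆ Q' C_S(B)`, then some element of
`S` centralizing `B` normalizes `Q'` without lying in it. -/
theorem exists_centralizing_normalizer [Finite S] {p : ℕ} [Fact p.Prime] (hS : IsPGroup p S)
    {Q Q' B : Subgroup Ω} (hQ'S : Q' ≤ S) (hcard : Nat.card Q = Nat.card Q') (hne : Q ≠ Q')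
    (hQ'B : ∀ q ∈ Q', ∀ b ∈ B, q * b * q⁻¹ ∈ B)
    (hQ : ∀ g ∈ Q, ∃ q ∈ Q', q⁻¹ * g ∈ S ∧ ∀ b ∈ B, (q⁻¹ * g) * b = b * (q⁻¹ * g)) :
    ∃ c ∈ S, c ∈ Subgroup.normalizer (Q' : Set Ω) ∧ c ∉ Q' ∧ ∀ b ∈ B, c * b = b * c := by
  classical
  -- `C = C_S(B)` as a subgroup
  let C : Subgroup Ω :=
    { carrier := {c | c ∈ S ∧ ∀ b ∈ B, c * b = b * c}
      one_mem' := ⟨S.one_mem, fun b _ => by rw [one_mul, mul_one]⟩
      mul_mem' := by
        rintro c₁ c₂ ⟨h₁S, h₁⟩ ⟨h₂S, h₂⟩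
        refine ⟨S.mul_mem h₁S h₂S, fun b hb => ?_⟩
        rw [mul_assoc, h₂ b hb, ← mul_assoc, h₁ b hb, mul_assoc]
      inv_mem' := by
        rintro c ⟨hcS, hc⟩
        refine ⟨S.inv_mem hcS, fun b hb => ?_⟩
        have := hc b hb
        calc c⁻¹ * b = c⁻¹ * (b * c) * c⁻¹ := by group
          _ = c⁻¹ * (c * b) * c⁻¹ := by rw [this]
          _ = b * c⁻¹ := by group }
  have hC : ∀ c, c ∈ C ↔ c ∈ S ∧ ∀ b ∈ B, c * b = b * c := fun c => Iff.rfl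
  have hnorm : ∀ q ∈ Q', ∀ c ∈ C, q⁻¹ * c * q ∈ C := by
    intro q hq c hc
    obtain ⟨hcS, hcb⟩ := (hC c).1 hc
    refine (hC _).2 ⟨S.mul_mem (S.mul_mem (S.inv_mem (hQ'S hq)) hcS) (hQ'S hq), fun b hb => ?_⟩
    have hb' : q * b * q⁻¹ ∈ B := hQ'B q hq b hb
    have h1 := hcb _ hb'
    calc q⁻¹ * c * q * b = q⁻¹ * (c * (q * b * q⁻¹)) * q := by group
      _ = q⁻¹ * ((q * b * q⁻¹) * c) * q := by rw [h1]
      _ = b * (q⁻¹ * c * q) := by group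
  set X : Subgroup Ω := mulSub Q' C hnorm with hX
  have hQ'X : Q' ≤ X := fun q hq => ⟨q, hq, 1, C.one_mem, by rw [mul_one]⟩
  have hQX : Q ≤ X := by
    intro g hg
    obtain ⟨q, hq, hgS, hgb⟩ := hQ g hg
    exact ⟨q, hq, q⁻¹ * g, (hC _).2 ⟨hgS, hgb⟩, by group⟩
  have hXS : X ≤ S := by
    rintro _ ⟨q, hq, c, hc, rfl⟩
    exact S.mul_mem (hQ'S hq) ((hC c).1 hc).1
  have hfinX : Finite X := Finite.of_injective (Subgroup.inclusion hXS) (Subgroup.inclusion_injective hXS)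
  have hfinQ' : Finite Q' := Finite.of_injective (Subgroup.inclusion hQ'S) (Subgroup.inclusion_injective hQ'S)
  have hXp : IsPGroup p X := hS.to_le hXS
  have hQ'neX : Q' ≠ X := by
    intro h
    apply hne
    have hQQ' : Q ≤ Q' := h ▸ hQX
    exact Subgroup.eq_of_le_of_card_ge hQQ' hcard.symm.le
  have hlt := lt_normalizerIn (S := X) hXp hQ'X hQ'neX
  obtain ⟨y, hyN, hyQ'⟩ := SetLike.exists_of_lt hlt
  obtain ⟨hyX, hyn⟩ := hyN
  obtain ⟨q, hq, c, hc, rfl⟩ := hyX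
  obtain ⟨hcS, hcb⟩ := (hC c).1 hc
  refine ⟨c, hcS, ?_, ?_, hcb⟩
  · have hqn : q ∈ Subgroup.normalizer (Q' : Set Ω) := Subgroup.le_normalizer hq
    have : c = q⁻¹ * (q * c) := by group
    rw [this]
    exact Subgroup.mul_mem _ (Subgroup.inv_mem _ hqn) hyn
  · intro hcQ'
    exact hyQ' (Q'.mul_mem hq hcQ')

/-- **Key lemma.** -/
theorem isMapOn_aut_of_good_pair [Finite S] {p : ℕ} [Fact p.Prime] (hS : IsPGroup p S)
    {E F : FusionSystem S} (hF : F.IsSaturated p)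
    (hEF : ∀ (P : Subgroup Ω) (f : Ω → Ω), IsMapOn E P f → IsMapOn F P f)
    {Q B : Subgroup Ω} (hQS : Q ≤ S)
    (hagree : ∀ (P : Subgroup Ω) (f : Ω → Ω), Nat.card Q < Nat.card P → IsMapOn F P f →
      IsMapOn E P f)
    (hBQ : B ≤ Q) (hBn : ∀ g ∈ Q, ∀ b ∈ B, g * b * g⁻¹ ∈ B) (hBr : E.IsReceptive B)
    (hHB : ∀ f : Ω → Ω, IsMapOn F B f → IsMapOn E B f)
    (hcent : ∀ f : Ω → Ω, IsMapOn F Q f → IsImage Q f Q → (∀ b ∈ B, f b = b) →
      ∃ t ∈ S, ∀ x ∈ Q, f x = t * x * t⁻¹)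
    {γ : Ω → Ω} (hγ : IsMapOn F Q γ) (hγQ : IsImage Q γ Q) : IsMapOn E Q γ := by
  classical
  have hfinQ : Finite Q := Finite.of_injective (Subgroup.inclusion hQS) (Subgroup.inclusion_injective hQS)
  -- Step 1: the restriction of `γ` to `B` is a map of `E`
  have hε : IsMapOn E B γ := hHB γ (hγ.mono hBQ)
  obtain ⟨A', hA', -⟩ := exists_isImage_of_le hγ hBQ
  have hA'Q : A' ≤ Q := IsImage.mono hγQ hA' hBQ
  -- Step 2: its inverse extends to a map `φ` of `E` on `Q`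
  obtain ⟨g₁, hg₁, hg₁B, hg₁γ, hγg₁⟩ := exists_inverse hε hA'
  have hsurj : ∀ g ∈ Q, ∃ g₀ ∈ Q, γ g₀ = g := fun g hg => (hγQ g).1 hg
  have hconjA' : ∀ g ∈ Q, ∀ y ∈ A', g * y * g⁻¹ ∈ A' := by
    intro g hg y hy
    obtain ⟨g₀, hg₀, rfl⟩ := hsurj g hg
    obtain ⟨b, hb, rfl⟩ := (hA' y).1 hy
    have hbQ : b ∈ Q := hBQ hb
    rw [← hγ.map_inv hg₀, ← hγ.map_mul hg₀ hbQ, ← hγ.map_mul (Q.mul_mem hg₀ hbQ) (Q.inv_mem hg₀)]
    exact hA'.mem (hBn g₀ hg₀ b hb)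
  have hT₀ : ∀ g ∈ (Q : Set Ω), g ∈ S ∧ g ∈ Subgroup.normalizer (A' : Set Ω) ∧
      ∃ h ∈ S, ∀ x ∈ A', g₁ (g * x * g⁻¹) = h * g₁ x * h⁻¹ := by
    intro g hg
    refine ⟨hQS hg, ?_, ?_⟩
    · rw [Subgroup.mem_normalizer_iff]
      intro y
      constructor
      · exact hconjA' g hg y
      · intro hy
        have := hconjA' g⁻¹ (Q.inv_mem hg) _ hy
        have h2 : g⁻¹ * (g * y * g⁻¹) * g⁻¹⁻¹ = y := by group
        rwa [h2] at this
    · obtain ⟨g₀, hg₀, hg₀g⟩ := hsurj g hg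
      refine ⟨g₀, hQS hg₀, fun x hx => ?_⟩
      have hbB : g₁ x ∈ B := hg₁B.mem hx
      have hbQ : g₁ x ∈ Q := hBQ hbB
      have hxb : γ (g₁ x) = x := hγg₁ x hx
      have h1 : g * x * g⁻¹ = γ (g₀ * g₁ x * g₀⁻¹) := by
        rw [hγ.map_mul (Q.mul_mem hg₀ hbQ) (Q.inv_mem hg₀), hγ.map_mul hg₀ hbQ, hγ.map_inv hg₀,
          hg₀g, hxb]
      rw [h1]
      exact hg₁γ _ (hBn g₀ hg₀ _ hbB)
  obtain ⟨φ₀, hφ₀, hφ₀A'⟩ := exists_extension_closure hBr hg₁ hg₁B (Q : Set Ω) hT₀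
  rw [Subgroup.closure_eq] at hφ₀ hφ₀A'
  -- `φ` is a map of `E` on `Q` with `φ = γ⁻¹` on `A'`
  have hφγ : ∀ b ∈ B, φ₀ (γ b) = b := by
    intro b hb
    rw [hφ₀A' _ (hA'.mem hb) (hA'Q (hA'.mem hb))]
    exact hg₁γ b hb
  -- Step 3: `ψ = φ ∘ γ`
  have hψ : IsMapOn F Q (φ₀ ∘ γ) := hγ.comp (hEF _ _ hφ₀) (fun x hx => hγQ.mem hx)
  have hψB : ∀ b ∈ B, (φ₀ ∘ γ) b = b := hφγ
  obtain ⟨Q', hQ', -⟩ := exists_isImage hψ
  have hQ'S : Q' ≤ S := IsImage.le hψ hQ'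
  have hcardQ' : Nat.card Q = Nat.card Q' := card_eq_of_isImage hψ hQ'
  have hφQ' : IsImage Q φ₀ Q' := by
    intro y
    rw [hQ' y]
    constructor
    · rintro ⟨x, hx, rfl⟩
      exact ⟨γ x, hγQ.mem hx, rfl⟩
    · rintro ⟨x, hx, rfl⟩
      obtain ⟨x₀, hx₀, rfl⟩ := hsurj x hx
      exact ⟨x₀, hx₀, rfl⟩
  -- it suffices to show that `ψ` is a map of `E`
  suffices hψE : IsMapOn E Q (φ₀ ∘ γ) by
    obtain ⟨φinv, hφinv, -, hφinv1, -⟩ := exists_inverse hφ₀ hφQ'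
    refine (hψE.comp hφinv (fun x hx => hQ'.mem hx)).congr (fun x hx => ?_)
    show φinv (φ₀ (γ x)) = γ x
    exact hφinv1 _ (hγQ.mem hx)
  -- conjugation by `ψ g` on `B`
  have hcB : ∀ g ∈ Q, ∀ b ∈ B, (φ₀ ∘ γ) g * b * ((φ₀ ∘ γ) g)⁻¹ = g * b * g⁻¹ := by
    intro g hg b hb
    have hbQ : b ∈ Q := hBQ hb
    have h1 := hψB _ (hBn g hg b hb)
    rw [hψ.map_mul (Q.mul_mem hg hbQ) (Q.inv_mem hg), hψ.map_mul hg hbQ, hψ.map_inv hg,
      hψB b hb] at h1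
    exact h1
  by_cases hQQ' : Q' = Q
  · -- `ψ` is an automorphism of `Q` fixing `B`
    rw [hQQ'] at hQ'
    obtain ⟨t, ht, htψ⟩ := hcent _ hψ hQ' hψB
    exact (IsMapOn.conj E hQS ht).congr (fun x hx => (htψ x hx).symm)
  · -- an element `c` centralizing `B` and normalizing `Q'`
    have hQ'B : ∀ q ∈ Q', ∀ b ∈ B, q * b * q⁻¹ ∈ B := by
      intro q hq b hb
      obtain ⟨g, hg, rfl⟩ := (hQ' q).1 hq
      rw [hcB g hg b hb]
      exact hBn g hg b hb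
    have hQdec : ∀ g ∈ Q, ∃ q ∈ Q', q⁻¹ * g ∈ S ∧ ∀ b ∈ B, (q⁻¹ * g) * b = b * (q⁻¹ * g) := by
      intro g hg
      refine ⟨(φ₀ ∘ γ) g, hQ'.mem hg, S.mul_mem (S.inv_mem (hQ'S (hQ'.mem hg))) (hQS hg), ?_⟩
      intro b hb
      have h1 := hcB g hg b hb
      calc ((φ₀ ∘ γ) g)⁻¹ * g * b
          = ((φ₀ ∘ γ) g)⁻¹ * (g * b * g⁻¹) * g := by group
        _ = ((φ₀ ∘ γ) g)⁻¹ * ((φ₀ ∘ γ) g * b * ((φ₀ ∘ γ) g)⁻¹) * g := by rw [h1]
        _ = b * (((φ₀ ∘ γ) g)⁻¹ * g) := by group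
    obtain ⟨c, hcS, hcN, hcQ', hcb⟩ :=
      exists_centralizing_normalizer hS hQ'S hcardQ' (fun h => hQQ' h.symm) hQ'B hQdec
    have hcN1 : ∀ q ∈ Q', c * q * c⁻¹ ∈ Q' := fun q hq => (Subgroup.mem_normalizer_iff.1 hcN q).1 hq
    have hcN2 : ∀ q ∈ Q', c⁻¹ * q * c ∈ Q' := by
      intro q hq
      have := (Subgroup.mem_normalizer_iff.1 (Subgroup.inv_mem _ hcN) q).1 hq
      rwa [inv_inv] at this
    -- the automorphism `κ = ψ⁻¹ c ψ` of `Q`
    obtain ⟨ψinv, hψinv, hψinvQ, hψinv1, hψinv2⟩ := exists_inverse hψ hQ'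
    have hcc : IsMapOn F Q' (fun x => c * x * c⁻¹) := IsMapOn.conj F hQ'S hcS
    have hκ : IsMapOn F Q (ψinv ∘ ((fun x => c * x * c⁻¹) ∘ (φ₀ ∘ γ))) :=
      (hψ.comp hcc (fun x hx => hQ'.mem hx)).comp hψinv (fun x hx => hcN1 _ (hQ'.mem hx))
    have hκapp : ∀ x, (ψinv ∘ ((fun x => c * x * c⁻¹) ∘ (φ₀ ∘ γ))) x =
        ψinv (c * (φ₀ ∘ γ) x * c⁻¹) := fun x => rfl
    have hκQ : IsImage Q (ψinv ∘ ((fun x => c * x * c⁻¹) ∘ (φ₀ ∘ γ))) Q := by
      intro y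
      constructor
      · intro hy
        refine ⟨ψinv (c⁻¹ * (φ₀ ∘ γ) y * c), hψinvQ.mem (hcN2 _ (hQ'.mem hy)), ?_⟩
        rw [hκapp, hψinv2 _ (hcN2 _ (hQ'.mem hy))]
        have : c * (c⁻¹ * (φ₀ ∘ γ) y * c) * c⁻¹ = (φ₀ ∘ γ) y := by group
        rw [this]
        exact hψinv1 y hy
      · rintro ⟨x, hx, rfl⟩
        rw [hκapp]
        exact hψinvQ.mem (hcN1 _ (hQ'.mem hx))
    have hκB : ∀ b ∈ B, (ψinv ∘ ((fun x => c * x * c⁻¹) ∘ (φ₀ ∘ γ))) b = b := by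
      intro b hb
      rw [hκapp, hψB b hb]
      have : c * b * c⁻¹ = b := by rw [hcb b hb, mul_inv_cancel_right]
      rw [this]
      have h1 := hψinv1 b (hBQ hb)
      rwa [hψB b hb] at h1
    obtain ⟨t, htS, htκ⟩ := hcent _ hκ hκQ hκB
    have htN : t ∈ normalizerIn S Q := by
      refine ⟨htS, ?_⟩
      show t ∈ Subgroup.normalizer (Q : Set Ω)
      rw [Subgroup.mem_normalizer_iff]
      intro h
      constructor
      · intro hh
        rw [← htκ h hh]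
        exact hκQ.mem hh
      · intro hh
        obtain ⟨x, hx, hxh⟩ := (hκQ _).1 hh
        rw [htκ x hx] at hxh
        have : x = h := by
          have h3 : t⁻¹ * (t * x * t⁻¹) * t = t⁻¹ * (t * h * t⁻¹) * t := by rw [hxh]
          have h4 : t⁻¹ * (t * x * t⁻¹) * t = x := by group
          have h5 : t⁻¹ * (t * h * t⁻¹) * t = h := by group
          rw [h4, h5] at h3
          exact h3
        rw [← this]
        exact hx
    -- a receptive, fully automized conjugate `Qs` of `Q`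
    obtain ⟨Qs, hconj, hQsa, hQsr⟩ := hF Q hQS
    obtain ⟨ζh, hζh, -, hζhimg⟩ :=
      Cfsg.Agent.Lib.Helper84_FusionSat.exists_normalizer_map hS F hQsa hQsr hconj
    have hζ : IsMapOn F (normalizerIn S Q) (extHom ζh) := isMapOn_extHom F hζh
    have hQN : Q ≤ normalizerIn S Q := le_normalizerIn hQS
    have hζimg : IsImage Q (extHom ζh) Qs := by
      intro y
      rw [← hζhimg]
      constructor
      · rintro ⟨x, hx, rfl⟩
        exact ⟨x, hx, extHom_coe ζh x⟩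
      · rintro ⟨x, hx, rfl⟩
        exact ⟨⟨x, hQN hx⟩, hx, (extHom_apply ζh (hQN hx)).symm⟩
    have hQneS : Q ≠ S := by
      intro h
      apply hQQ'
      have hQ'Q : Q' ≤ Q := h ▸ hQ'S
      exact Subgroup.eq_of_le_of_card_ge hQ'Q hcardQ'.le
    have hltN : Q < normalizerIn S Q := lt_normalizerIn hS hQS hQneS
    have hfinN : Finite ↥(normalizerIn S Q) :=
      Finite.of_injective (Subgroup.inclusion (normalizerIn_le S Q)) (Subgroup.inclusion_injective _)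
    have hζE : IsMapOn E (normalizerIn S Q) (extHom ζh) :=
      hagree _ _ (card_lt_of_lt hltN) hζ
    -- `θ = ζ ∘ ψ⁻¹` extends to a subgroup strictly containing `Q'`
    have hθ : IsMapOn F Q' (extHom ζh ∘ ψinv) :=
      hψinv.comp hζ (fun y hy => hQN (hψinvQ.mem hy))
    have hθimg : IsImage Q' (extHom ζh ∘ ψinv) Qs := by
      intro y
      rw [hζimg y]
      constructor
      · rintro ⟨x, hx, rfl⟩
        obtain ⟨y', hy', rfl⟩ := (hψinvQ x).1 hx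
        exact ⟨y', hy', rfl⟩
      · rintro ⟨y', hy', rfl⟩
        exact ⟨ψinv y', hψinvQ.mem hy', rfl⟩
    have hT₀ : ∀ g ∈ (Q' : Set Ω) ∪ {c}, g ∈ S ∧ g ∈ Subgroup.normalizer (Q' : Set Ω) ∧
        ∃ h ∈ S, ∀ x ∈ Q', (extHom ζh ∘ ψinv) (g * x * g⁻¹) =
          h * (extHom ζh ∘ ψinv) x * h⁻¹ := by
      rintro g (hg | hg)
      · refine ⟨hQ'S hg, Subgroup.le_normalizer hg, _, hθ.mem hg, fun x hx => ?_⟩
        rw [hθ.map_mul (Q'.mul_mem hg hx) (Q'.inv_mem hg), hθ.map_mul hg hx, hθ.map_inv hg]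
      · rw [Set.mem_singleton_iff] at hg
        subst hg
        refine ⟨hcS, hcN, extHom ζh t, hζ.mem htN, fun x hx => ?_⟩
        have hvQ : ψinv x ∈ Q := hψinvQ.mem hx
        have h1 := htκ _ hvQ
        rw [hκapp, hψinv2 x hx] at h1
        show extHom ζh (ψinv (g * x * g⁻¹)) = extHom ζh t * extHom ζh (ψinv x) * (extHom ζh t)⁻¹
        rw [h1, hζ.map_mul ((normalizerIn S Q).mul_mem htN (hQN hvQ))
          ((normalizerIn S Q).inv_mem htN), hζ.map_mul htN (hQN hvQ), hζ.map_inv htN]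
    obtain ⟨θ', hθ', hθ'Q'⟩ := exists_extension_closure hQsr hθ hθimg _ hT₀
    have hQ'le : Q' ≤ Subgroup.closure ((Q' : Set Ω) ∪ {c}) :=
      fun q hq => Subgroup.subset_closure (Or.inl hq)
    have hclt : Q' < Subgroup.closure ((Q' : Set Ω) ∪ {c}) := by
      refine lt_of_le_of_ne hQ'le (fun h => hcQ' ?_)
      rw [h]
      exact Subgroup.subset_closure (Or.inr rfl)
    have hfinc : Finite ↥(Subgroup.closure ((Q' : Set Ω) ∪ {c})) :=
      Finite.of_injective (Subgroup.inclusion hθ'.le) (Subgroup.inclusion_injective _)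
    have hθ'E : IsMapOn E _ θ' := hagree _ _ (hcardQ' ▸ card_lt_of_lt hclt) hθ'
    have hθE : IsMapOn E Q' (extHom ζh ∘ ψinv) :=
      (hθ'E.mono hQ'le).congr (fun x hx => hθ'Q' x hx (hQ'le hx))
    -- hence `ψ⁻¹`, and `ψ`, are maps of `E`
    obtain ⟨ζinv, hζinv, -, hζinv1, -⟩ := exists_inverse (hζE.mono hQN) hζimg
    have hψinvE : IsMapOn E Q' ψinv := by
      refine (hθE.comp hζinv (fun y hy => hθimg.mem hy)).congr (fun y hy => ?_)
      show ζinv (extHom ζh (ψinv y)) = ψinv y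
      exact hζinv1 _ (hψinvQ.mem hy)
    exact isMapOn_of_inverse hψinvE hψinvQ (fun x hx => hQ'.mem hx) hψinv1

end Cfsg.Agent.Lib.Helper88_BGH1
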