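import Mathlib
import Cfsg.Prelude.Def_FusionSystem
import Cfsg.Agent.Lib.Helper87_Alperin
import Cfsg.Agent.Lib.Helper85_Transport
import Cfsg.Agent.Lib.Helper85_Transport2
import Cfsg.Agent.Lib.Helper88_Centric
import Cfsg.Agent.Lib.Helper88_Centric2
import Cfsg.Agent.Lib.Helper88_BGH1

/-!
# Control of fusion by small abelian subgroups, II (helper88)

A graded form of Alperin's fusion theorem (`agree_above`), and the choice of a subgroup of maximal
order on which two saturated systems `E ≤ F` differ (`exists_max_bad`).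
-/

set_option autoImplicit false
set_option linter.style.haveILetI false

namespace Cfsg.Agent.Lib.Helper88_BGH2

open Cfsg Cfsg.FusionSystem Cfsg.Agent.Lib.Helper87_Alperin Cfsg.Agent.Lib.Helper88_Centric
  Cfsg.Agent.Lib.Helper88_Centric2 Cfsg.Agent.Lib.Helper88_BGH1 Cfsg.Agent.Lib.Helper85_Transport
  Cfsg.Agent.Lib.Helper85_Transport2

variable {Ω : Type*} [Group Ω] {S : Subgroup Ω}

/-- **Graded Alperin.** If `E` contains `Aut_F(Q)` for every fully automized receptive `Q` of order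
larger than `n`, then `E` contains every map of `F` on a subgroup of order larger than `n`. -/
theorem agree_above [Finite S] {p : ℕ} [Fact p.Prime] (hS : IsPGroup p S) {E F : FusionSystem S}
    (hF : F.IsSaturated p) (n : ℕ)
    (hn : ∀ Q : Subgroup Ω, F.IsFullyAutomized p Q → F.IsReceptive Q → n < Nat.card Q →
      ∀ α ∈ F.autGroup Q, IsMapOn E Q (extFun α)) :
    ∀ (P : Subgroup Ω) (f : Ω → Ω), n < Nat.card P → IsMapOn F P f → IsMapOn E P f := by
  classical
  set M : Subgroup Ω → (Ω → Ω) → Prop :=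
    fun P f => IsMapOn F P f ∧ (n < Nat.card P → IsMapOn E P f) with hM
  have hcongr : ∀ {P : Subgroup Ω} {f g : Ω → Ω}, M P f → (∀ x ∈ P, f x = g x) → M P g :=
    fun h hfg => ⟨h.1.congr hfg, fun hlt => (h.2 hlt).congr hfg⟩
  have hmul : ∀ {P : Subgroup Ω} {f : Ω → Ω}, M P f → ∀ x ∈ P, ∀ y ∈ P, f (x * y) = f x * f y :=
    fun h x hx y hy => h.1.map_mul hx hy
  set E' : FusionSystem S := ofPred S M
    (fun h => ⟨h.1.le, fun x hx => h.1.mem hx⟩)
    (fun h x hx y hy hxy => h.1.injOn hx hy hxy)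
    hcongr
    (fun hP ha => ⟨IsMapOn.conj F hP ha, fun _ => IsMapOn.conj E hP ha⟩)
    (by
      intro P Q f g hf hg h
      refine ⟨hf.1.comp hg.1 h, fun hlt => (hf.2 hlt).comp (hg.2 (lt_of_lt_of_le hlt ?_)) h⟩
      have hQS : Q ≤ S := hg.1.le
      have hfinQ : Finite Q :=
        Finite.of_injective (Subgroup.inclusion hQS) (Subgroup.inclusion_injective hQS)
      apply Nat.card_le_card_of_injective (fun x : P => (⟨f x, h x x.2⟩ : Q))
      intro x y hxy
      exact Subtype.ext (hf.1.injOn x.2 y.2 (congrArg Subtype.val hxy)))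
    (by
      intro P f φ hf hφf
      have himg : IsImage P f φ.range := by
        intro y
        constructor
        · rintro ⟨x, rfl⟩
          exact ⟨x, x.2, (hφf x).symm⟩
        · rintro ⟨x, hx, rfl⟩
          exact ⟨⟨x, hx⟩, hφf _⟩
      obtain ⟨g, hg, -, hgf, -⟩ := exists_inverse hf.1 himg
      refine ⟨g, ⟨hg, fun hlt => ?_⟩, hgf⟩
      have hcard : Nat.card P = Nat.card φ.range := card_eq_of_isImage hf.1 himg
      have hfE : IsMapOn E P f := hf.2 (hcard ▸ hlt)
      obtain ⟨g', hg', -, hg'f, -⟩ := exists_inverse hfE himg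
      refine hg'.congr (fun y hy => ?_)
      obtain ⟨x, hx, rfl⟩ := (himg y).1 hy
      rw [hg'f x hx, hgf x hx]) with hE'
  have hiff : ∀ {P : Subgroup Ω} {f : Ω → Ω}, IsMapOn E' P f ↔ M P f :=
    isMapOn_of_hom_iff E' (fun P φ => Iff.rfl) hcongr hmul
  intro P f hlt hf
  have h1 : IsMapOn E' P f := by
    refine weak_alperin_isMapOn F hS hF E' ?_ P f hf
    intro Q hQa hQr α hα
    rw [hiff]
    exact ⟨(mem_autGroup_iff F hQa.1 α).1 hα, fun hlt' => hn Q hQa hQr hlt' α hα⟩
  exact (hiff.1 h1).2 hlt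

/-- If `E` does not contain `F`, there is a fully automized receptive `Q` with an automorphism in
`F` not in `E`, such that `E` and `F` agree on all subgroups of larger order. -/
theorem exists_max_bad [Finite S] {p : ℕ} [Fact p.Prime] (hS : IsPGroup p S) {E F : FusionSystem S}
    (hF : F.IsSaturated p)
    (hne : ¬ ∀ (P : Subgroup Ω) (f : Ω → Ω), IsMapOn F P f → IsMapOn E P f) :
    ∃ Q : Subgroup Ω, F.IsFullyAutomized p Q ∧ F.IsReceptive Q ∧
      (∃ α ∈ F.autGroup Q, ¬ IsMapOn E Q (extFun α)) ∧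
      ∀ (P : Subgroup Ω) (f : Ω → Ω), Nat.card Q < Nat.card P → IsMapOn F P f → IsMapOn E P f := by
  classical
  set A : Set ℕ := {n | ∃ Q : Subgroup Ω, F.IsFullyAutomized p Q ∧ F.IsReceptive Q ∧
    Nat.card Q = n ∧ ∃ α ∈ F.autGroup Q, ¬ IsMapOn E Q (extFun α)} with hA
  have hnonempty : A.Nonempty := by
    by_contra hemp
    rw [Set.not_nonempty_iff_eq_empty] at hemp
    apply hne
    refine weak_alperin_isMapOn F hS hF E ?_
    intro Q hQa hQr α hα
    by_contra hbad
    have : Nat.card Q ∈ A := ⟨Q, hQa, hQr, rfl, α, hα, hbad⟩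
    rw [hemp] at this
    exact this
  have hbdd : BddAbove A := by
    refine ⟨Nat.card S, ?_⟩
    rintro n ⟨Q, hQa, -, rfl, -⟩
    exact Nat.card_le_card_of_injective (Subgroup.inclusion hQa.1) (Subgroup.inclusion_injective _)
  obtain ⟨Q, hQa, hQr, hcard, hbad⟩ := Nat.sSup_mem hnonempty hbdd
  refine ⟨Q, hQa, hQr, hbad, ?_⟩
  rw [hcard]
  apply agree_above hS hF
  intro Q' hQ'a hQ'r hlt α hα
  by_contra hbad'
  have hmem : Nat.card Q' ∈ A := ⟨Q', hQ'a, hQ'r, rfl, α, hα, hbad'⟩
  have := le_csSup hbdd hmem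
  omega

end Cfsg.Agent.Lib.Helper88_BGH2
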