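import Mathlib
import Cfsg.Prelude.Def_FusionSystem
import Cfsg.Prelude.Def_Transfer
import Cfsg.Prelude.Def_KGroupFacts
import Cfsg.Agent.S1949
import Cfsg.Agent.Lib.Helper87_Alperin
import Cfsg.Agent.Lib.Helper88_Centric

/-!
# Control of fusion by small abelian subgroups, III (helper88)

For a fully automized subgroup `Q` of a fusion system `F` over a finite `p`-group, an abelian
subgroup `A ⊴ Q` of small exponent inside the hyperfocal subgroup such that every automorphism of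
`Q` in `F` fixing `A` pointwise is induced by an element of `S`.
-/

set_option autoImplicit false
set_option linter.style.haveILetI false

namespace Cfsg.Agent.Lib.Helper88_BGH3

open Cfsg Cfsg.FusionSystem Cfsg.Agent.Lib.Helper87_Alperin Cfsg.Agent.Lib.Helper88_Centric

variable {Ω : Type*} [Group Ω] {S : Subgroup Ω}

theorem exists_good_subgroup [Finite S] {p : ℕ} [Fact p.Prime] (hS : IsPGroup p S)
    (F : FusionSystem S) {Q : Subgroup Ω} (hQa : F.IsFullyAutomized p Q) :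
    ∃ A : Subgroup Ω, A ≤ Q ∧ (∀ g ∈ Q, ∀ a ∈ A, g * a * g⁻¹ ∈ A) ∧
      A ≤ F.hyperfocalSubgroup p ∧ (∀ a ∈ A, ∀ b ∈ A, a * b = b * a) ∧
      (∀ a ∈ A, a ^ p = 1 ∨ (p = 2 ∧ a ^ 4 = 1)) ∧
      ∀ f : Ω → Ω, IsMapOn F Q f → IsImage Q f Q → (∀ a ∈ A, f a = a) →
        ∃ t ∈ S, ∀ x ∈ Q, f x = t * x * t⁻¹ := by
  classical
  obtain ⟨hQS, R, hR⟩ := hQa
  have hfinQ : Finite Q := Finite.of_injective (Subgroup.inclusion hQS) (Subgroup.inclusion_injective hQS)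
  have hQp : IsPGroup p Q := hS.to_le hQS
  have hInn : Cfsg.Inn ↥Q ≤ F.autGroup Q := by
    rintro _ ⟨g, rfl⟩
    apply autInducedBy_le_autGroup F hQS
    rw [mem_autInducedBy_iff]
    exact ⟨g, hQS g.2, fun x => rfl⟩
  obtain ⟨D, hDinv, hDle, hDexp, -, -, hDmax⟩ := Cfsg.Agent.S1949.result hQp (F.autGroup Q) hInn
  -- a maximal abelian subgroup of `D`
  have hfinset : {A : Subgroup ↥Q | A ≤ D ∧ IsMulCommutative ↥A}.Finite := Set.toFinite _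
  have hbot : (⊥ : Subgroup ↥Q) ∈ {A : Subgroup ↥Q | A ≤ D ∧ IsMulCommutative ↥A} := by
    refine ⟨bot_le, ⟨⟨?_⟩⟩⟩
    rintro ⟨a, ha⟩ ⟨b, hb⟩
    rw [Subgroup.mem_bot] at ha hb
    subst ha hb
    rfl
  obtain ⟨A₀, -, hA₀max⟩ := hfinset.exists_le_maximal hbot
  obtain ⟨hA₀D, hA₀c⟩ := hA₀max.prop
  have hmax : ∀ B : Subgroup ↥Q, A₀ ≤ B → B ≤ D → IsMulCommutative ↥B → B = A₀ :=
    fun B hAB hBD hBc => le_antisymm (hA₀max.le_of_ge ⟨hBD, hBc⟩ hAB) hAB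
  obtain ⟨hA₀n, hA₀p⟩ := hDmax A₀ hA₀D hA₀c hmax
  -- the pointwise stabilizer of `A₀` in `Aut_F(Q)` is a `p`-group
  let C₀ : Subgroup ↥(F.autGroup Q) :=
    { carrier := {α | ∀ a ∈ A₀, (α : MulAut ↥Q) a = a}
      one_mem' := fun a _ => rfl
      mul_mem' := by
        intro α β hα hβ a ha
        show (α : MulAut ↥Q) ((β : MulAut ↥Q) a) = a
        rw [hβ a ha, hα a ha]
      inv_mem' := by
        intro α hα a ha
        show ((α : MulAut ↥Q))⁻¹ a = a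
        rw [MulAut.inv_apply, MulEquiv.symm_apply_eq, hα a ha] }
  have hC₀p : IsPGroup p C₀ := by
    rintro ⟨α, hα⟩
    obtain ⟨k, hk⟩ := hA₀p (α : MulAut ↥Q) α.2 hα
    refine ⟨k, ?_⟩
    apply Subtype.ext
    apply Subtype.ext
    show (α : MulAut ↥Q) ^ p ^ k = 1
    rw [← hk]
    exact pow_orderOf_eq_one _
  obtain ⟨χ, hχ⟩ := sylow_conj_into R hC₀p
  set β : MulAut ↥Q := (χ : MulAut ↥Q) with hβ
  have hβG : β ∈ F.autGroup Q := χ.2
  set A : Subgroup ↥Q := A₀.map β.toMonoidHom with hAdef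
  have hAD : A ≤ D := by
    rw [← hDinv β hβG]
    exact Subgroup.map_mono hA₀D
  have hAn : A.Normal := hA₀n.map β.toMonoidHom β.surjective
  have hcentA : ∀ α ∈ F.autGroup Q, (∀ a ∈ A, α a = a) →
      ∃ t ∈ S, ∀ x : Q, ((α x : Q) : Ω) = t * (x : Ω) * t⁻¹ := by
    intro α hα hαA
    have hmem : χ⁻¹ * ⟨α, hα⟩ * χ ∈ C₀ := by
      intro a ha
      show β⁻¹ (α (β a)) = a
      have h0 : α (β a) = β a := hαA _ ⟨a, ha, rfl⟩
      rw [h0]
      exact MulAut.inv_apply_self _ _ _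
    have h1 := hχ _ hmem
    have h2 : χ * (χ⁻¹ * ⟨α, hα⟩ * χ) * χ⁻¹ = ⟨α, hα⟩ := by group
    rw [h2, hR, Subgroup.mem_subgroupOf] at h1
    exact (mem_autInducedBy_iff S Q α).1 h1
  refine ⟨A.map Q.subtype, ?_, ?_, ?_, ?_, ?_, ?_⟩
  · rintro _ ⟨a, -, rfl⟩
    exact a.2
  · rintro g hg _ ⟨a, ha, rfl⟩
    exact ⟨⟨g, hg⟩ * a * ⟨g, hg⟩⁻¹, hAn.conj_mem a ha ⟨g, hg⟩, rfl⟩
  · rw [Subgroup.map_le_iff_le_comap]
    refine (hAD.trans hDle).trans ?_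
    rw [Subgroup.closure_le]
    rintro _ ⟨α, hα, x, rfl⟩
    show Q.subtype (x⁻¹ * ((α : F.autGroup Q) : MulAut ↥Q) x) ∈ F.hyperfocalSubgroup p
    unfold Cfsg.FusionSystem.hyperfocalSubgroup
    apply Subgroup.subset_closure
    exact ⟨Q, α, x, hQS, hα, rfl⟩
  · rintro _ ⟨a, ha, rfl⟩ _ ⟨b, hb, rfl⟩
    obtain ⟨a₀, ha₀, rfl⟩ := ha
    obtain ⟨b₀, hb₀, rfl⟩ := hb
    have h1 : a₀ * b₀ = b₀ * a₀ :=
      congrArg Subtype.val (hA₀c.is_comm.comm (⟨a₀, ha₀⟩ : ↥A₀) ⟨b₀, hb₀⟩)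
    show Q.subtype (β a₀) * Q.subtype (β b₀) = Q.subtype (β b₀) * Q.subtype (β a₀)
    rw [← map_mul, ← map_mul, ← map_mul, ← map_mul, h1]
  · rintro _ ⟨a, ha, rfl⟩
    rcases hDexp a (hAD ha) with h | ⟨h2, h⟩
    · left
      show Q.subtype a ^ p = 1
      rw [← map_pow, h, map_one]
    · right
      refine ⟨h2, ?_⟩
      show Q.subtype a ^ 4 = 1
      rw [← map_pow, h, map_one]
  · intro f hf hfQ hfA
    obtain ⟨α, hα, hαf⟩ := exists_aut_of_isMapOn hf (fun x hx => hfQ.mem hx)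
    have hαA : ∀ a ∈ A, α a = a := by
      intro a ha
      apply Subtype.ext
      rw [hαf]
      exact hfA _ ⟨a, ha, rfl⟩
    obtain ⟨t, ht, htα⟩ := hcentA α hα hαA
    refine ⟨t, ht, fun x hx => ?_⟩
    rw [← hαf ⟨x, hx⟩, htα]

end Cfsg.Agent.Lib.Helper88_BGH3
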