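import Mathlib
import Cfsg.Prelude.Def_FusionSystem
import Cfsg.Prelude.Def_Transfer
import Cfsg.Agent.S5124
import Cfsg.Agent.Lib.Helper87_Alperin
import Cfsg.Agent.Lib.Helper84_FusionSat
import Cfsg.Agent.Lib.Helper85_Transport2
import Cfsg.Agent.Lib.Helper88_Centric
import Cfsg.Agent.Lib.Helper88_Centric2
import Cfsg.Agent.Lib.Helper88_Receptive
import Cfsg.Agent.Lib.Helper88_BGH1
import Cfsg.Agent.Lib.Helper88_BGH2
import Cfsg.Agent.Lib.Helper88_BGH3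

/-!
# Control of fusion by small abelian subgroups, IV (helper88)

**Theorem (Benson–Grodal–Henke).**  Let `E ≤ F` be saturated fusion systems over the finite
`p`-group `S`.  If every map of `F` defined on an abelian subgroup `A` of the hyperfocal subgroup of
`F`, of exponent `p` (or `4` when `p = 2`), is a map of `E`, then `E = F`.
-/

set_option autoImplicit false
set_option linter.style.haveILetI false

namespace Cfsg.Agent.Lib.Helper88_BGH4

open Cfsg Cfsg.FusionSystem Cfsg.Agent.Lib.Helper87_Alperin Cfsg.Agent.Lib.Helper88_Centric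
  Cfsg.Agent.Lib.Helper88_Centric2 Cfsg.Agent.Lib.Helper88_Receptive Cfsg.Agent.Lib.Helper88_BGH1
  Cfsg.Agent.Lib.Helper88_BGH2 Cfsg.Agent.Lib.Helper88_BGH3

variable {Ω : Type*} [Group Ω] {S : Subgroup Ω}

theorem IsMapOn.map_pow' {F : FusionSystem S} {P : Subgroup Ω} {f : Ω → Ω} (hf : IsMapOn F P f)
    {x : Ω} (hx : x ∈ P) (k : ℕ) : f (x ^ k) = f x ^ k := by
  induction k with
  | zero => rw [pow_zero, pow_zero, hf.map_one]
  | succ k ih => rw [pow_succ, pow_succ, hf.map_mul (P.pow_mem hx k) hx, ih]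

/-- **The Benson–Grodal–Henke theorem**, function form. -/
theorem isMapOn_of_small_agree [Finite S] {p : ℕ} [Fact p.Prime] (hS : IsPGroup p S)
    {E F : FusionSystem S} (hE : E.IsSaturated p) (hF : F.IsSaturated p)
    (hEF : E.IsSubsystemOf F)
    (hH : ∀ A : Subgroup Ω, A ≤ F.hyperfocalSubgroup p → (∀ a ∈ A, ∀ b ∈ A, a * b = b * a) →
      (∀ a ∈ A, a ^ p = 1 ∨ (p = 2 ∧ a ^ 4 = 1)) → ∀ f : Ω → Ω, IsMapOn F A f → IsMapOn E A f) :
    ∀ (P : Subgroup Ω) (f : Ω → Ω), IsMapOn F P f → IsMapOn E P f := by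
  classical
  by_contra hne
  obtain ⟨Q, hQa, hQr, ⟨α, hα, hbad⟩, hagree⟩ := exists_max_bad hS hF hne
  have hQS : Q ≤ S := hQa.1
  have hEF' : ∀ (P : Subgroup Ω) (f : Ω → Ω), IsMapOn E P f → IsMapOn F P f :=
    fun P f hf => Cfsg.Agent.Lib.Helper85_Transport2.isMapOn_of_isSubsystemOf hEF hf
  obtain ⟨A, hAQ, hAn, hAhyp, hAc, hAexp, hAcent⟩ := exists_good_subgroup hS F hQa
  have hAS : A ≤ S := hAQ.trans hQS
  -- the bad automorphism
  have hγ : IsMapOn F Q (extFun α) := (mem_autGroup_iff F hQS α).1 hα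
  have hγQ : IsImage Q (extFun α) Q := by
    intro y
    constructor
    · intro hy
      exact ⟨extFun α⁻¹ y, extFun_mem _ hy, extFun_apply_inv α hy⟩
    · rintro ⟨x, hx, rfl⟩
      exact extFun_mem α hx
  apply hbad
  -- a receptive conjugate `B` of `A` in `E`, and the map `χ : N_S(A) → S`
  obtain ⟨B, hAB, hBa, hBr⟩ := hE A hAS
  obtain ⟨χh, hχh, -, hχimg⟩ :=
    Cfsg.Agent.Lib.Helper84_FusionSat.exists_normalizer_map hS E hBa hBr hAB
  have hχ : IsMapOn E (normalizerIn S A) (extHom χh) := isMapOn_extHom E hχh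
  have hχF : IsMapOn F (normalizerIn S A) (extHom χh) := hEF' _ _ hχ
  have hAN : A ≤ normalizerIn S A := le_normalizerIn hAS
  have hQN : Q ≤ normalizerIn S A := by
    intro g hg
    refine ⟨hQS hg, ?_⟩
    show g ∈ Subgroup.normalizer (A : Set Ω)
    rw [Subgroup.mem_normalizer_iff]
    intro h
    constructor
    · exact hAn g hg h
    · intro hh
      have := hAn g⁻¹ (Q.inv_mem hg) _ hh
      have h2 : g⁻¹ * (g * h * g⁻¹) * g⁻¹⁻¹ = h := by group
      rwa [h2] at this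
  have hχA : IsImage A (extHom χh) B := by
    intro y
    rw [← hχimg]
    constructor
    · rintro ⟨x, hx, rfl⟩
      exact ⟨x, hx, extHom_coe χh x⟩
    · rintro ⟨x, hx, rfl⟩
      exact ⟨⟨x, hAN hx⟩, hx, (extHom_apply χh (hAN hx)).symm⟩
  have hχQ : IsMapOn E Q (extHom χh) := hχ.mono hQN
  obtain ⟨Q₁, hQ₁, -⟩ := exists_isImage hχQ
  have hQ₁S : Q₁ ≤ S := IsImage.le hχQ hQ₁
  have hcard : Nat.card Q = Nat.card Q₁ := card_eq_of_isImage hχQ hQ₁
  obtain ⟨χinv, hχinv, hχinvQ, hχinv1, hχinv2⟩ := exists_inverse hχQ hQ₁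
  -- the transported automorphism `γ₁` of `Q₁`
  have hγ₁ : IsMapOn F Q₁ (extHom χh ∘ (extFun α ∘ χinv)) :=
    ((hEF' _ _ hχinv).comp hγ (fun y hy => hχinvQ.mem hy)).comp (hEF' _ _ hχQ)
      (fun y hy => hγQ.mem (hχinvQ.mem hy))
  have hγ₁app : ∀ y, (extHom χh ∘ (extFun α ∘ χinv)) y = extHom χh (extFun α (χinv y)) :=
    fun y => rfl
  have hγ₁Q : IsImage Q₁ (extHom χh ∘ (extFun α ∘ χinv)) Q₁ := by
    intro y
    constructor
    · intro hy
      obtain ⟨x, hx, rfl⟩ := (hQ₁ y).1 hy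
      obtain ⟨x', hx', rfl⟩ := (hγQ x).1 hx
      refine ⟨extHom χh x', hQ₁.mem hx', ?_⟩
      rw [hγ₁app, hχinv1 x' hx']
    · rintro ⟨x, hx, rfl⟩
      rw [hγ₁app]
      exact hQ₁.mem (hγQ.mem (hχinvQ.mem hx))
  -- the hypotheses of the key lemma for `(Q₁, B)`
  have hBQ₁ : B ≤ Q₁ := IsImage.mono hQ₁ hχA hAQ
  have hBn₁ : ∀ g ∈ Q₁, ∀ b ∈ B, g * b * g⁻¹ ∈ B := by
    intro g hg b hb
    obtain ⟨g₀, hg₀, rfl⟩ := (hQ₁ g).1 hg
    obtain ⟨a, ha, rfl⟩ := (hχA b).1 hb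
    have hg₀N := hQN hg₀
    have haN := hAN ha
    rw [← hχ.map_inv hg₀N, ← hχ.map_mul hg₀N haN,
      ← hχ.map_mul ((normalizerIn S A).mul_mem hg₀N haN) ((normalizerIn S A).inv_mem hg₀N)]
    exact hχA.mem (hAn g₀ hg₀ a ha)
  have hsc := Cfsg.Agent.S5124.result p hS F hF
  have hBhyp : B ≤ F.hyperfocalSubgroup p := by
    intro b hb
    obtain ⟨a, ha, rfl⟩ := (hχA b).1 hb
    obtain ⟨φ, hφ, hφχ⟩ := hχF.mono hAN
    rw [← hφχ ⟨a, ha⟩]
    exact hsc.2 A hAhyp φ hφ ⟨a, ha⟩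
  have hBc : ∀ a ∈ B, ∀ b ∈ B, a * b = b * a := by
    intro b hb b' hb'
    obtain ⟨a, ha, rfl⟩ := (hχA b).1 hb
    obtain ⟨a', ha', rfl⟩ := (hχA b').1 hb'
    exact IsMapOn.map_comm hχ (hAN ha) (hAN ha') (hAc a ha a' ha')
  have hBexp : ∀ a ∈ B, a ^ p = 1 ∨ (p = 2 ∧ a ^ 4 = 1) := by
    intro b hb
    obtain ⟨a, ha, rfl⟩ := (hχA b).1 hb
    rcases hAexp a ha with h | ⟨h2, h⟩
    · left
      rw [← IsMapOn.map_pow' hχ (hAN ha), h, hχ.map_one]
    · right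
      refine ⟨h2, ?_⟩
      rw [← IsMapOn.map_pow' hχ (hAN ha), h, hχ.map_one]
  have hHB : ∀ f : Ω → Ω, IsMapOn F B f → IsMapOn E B f := hH B hBhyp hBc hBexp
  have hcent₁ : ∀ f : Ω → Ω, IsMapOn F Q₁ f → IsImage Q₁ f Q₁ → (∀ b ∈ B, f b = b) →
      ∃ t ∈ S, ∀ x ∈ Q₁, f x = t * x * t⁻¹ := by
    intro f hf hfQ₁ hfB
    have hf₀ : IsMapOn F Q (χinv ∘ (f ∘ extHom χh)) :=
      ((hEF' _ _ hχQ).comp hf (fun x hx => hQ₁.mem hx)).comp (hEF' _ _ hχinv)
        (fun x hx => hfQ₁.mem (hQ₁.mem hx))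
    have hf₀app : ∀ x, (χinv ∘ (f ∘ extHom χh)) x = χinv (f (extHom χh x)) := fun x => rfl
    have hf₀Q : IsImage Q (χinv ∘ (f ∘ extHom χh)) Q := by
      intro y
      constructor
      · intro hy
        obtain ⟨x₁, hx₁, hx₁y⟩ := (hfQ₁ _).1 (hQ₁.mem hy)
        refine ⟨χinv x₁, hχinvQ.mem hx₁, ?_⟩
        rw [hf₀app, hχinv2 x₁ hx₁, hx₁y, hχinv1 y hy]
      · rintro ⟨x, hx, rfl⟩
        rw [hf₀app]
        exact hχinvQ.mem (hfQ₁.mem (hQ₁.mem hx))
    have hf₀A : ∀ a ∈ A, (χinv ∘ (f ∘ extHom χh)) a = a := by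
      intro a ha
      rw [hf₀app, hfB _ (hχA.mem ha)]
      exact hχinv1 a (hAQ ha)
    obtain ⟨t, htS, htf⟩ := hAcent _ hf₀ hf₀Q hf₀A
    have htA : ∀ a ∈ A, t * a * t⁻¹ = a := by
      intro a ha
      rw [← htf a (hAQ ha)]
      exact hf₀A a ha
    have htN : t ∈ normalizerIn S A := by
      refine ⟨htS, ?_⟩
      show t ∈ Subgroup.normalizer (A : Set Ω)
      rw [Subgroup.mem_normalizer_iff]
      intro h
      constructor
      · intro hh
        rw [htA h hh]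
        exact hh
      · intro hh
        have h1 := htA _ hh
        have h3 : t⁻¹ * (t * h * t⁻¹) * t = h := by group
        have h4 : t * h * t⁻¹ = h := by
          have h6 : t⁻¹ * (t * (t * h * t⁻¹) * t⁻¹) * t = t⁻¹ * (t * h * t⁻¹) * t := by rw [h1]
          have h7 : t⁻¹ * (t * (t * h * t⁻¹) * t⁻¹) * t = t * h * t⁻¹ := by group
          rw [h7, h3] at h6
          exact h6
        rw [← h4]
        exact hh
    refine ⟨extHom χh t, hχ.mem htN, fun x hx => ?_⟩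
    have hvQ : χinv x ∈ Q := hχinvQ.mem hx
    have h1 := htf _ hvQ
    rw [hf₀app, hχinv2 x hx] at h1
    have h2 : extHom χh (χinv (f x)) = f x := hχinv2 _ (hfQ₁.mem hx)
    rw [← h2, h1, hχ.map_mul ((normalizerIn S A).mul_mem htN (hQN hvQ))
      ((normalizerIn S A).inv_mem htN), hχ.map_mul htN (hQN hvQ), hχ.map_inv htN, hχinv2 x hx]
  have hagree₁ : ∀ (P : Subgroup Ω) (f : Ω → Ω), Nat.card Q₁ < Nat.card P → IsMapOn F P f →
      IsMapOn E P f := by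
    rw [← hcard]
    exact hagree
  have hγ₁E : IsMapOn E Q₁ (extHom χh ∘ (extFun α ∘ χinv)) :=
    isMapOn_aut_of_good_pair hS hF hEF' hQ₁S hagree₁ hBQ₁ hBn₁ hBr hHB hcent₁ hγ₁ hγ₁Q
  -- transport back
  refine ((hχQ.comp hγ₁E (fun x hx => hQ₁.mem hx)).comp hχinv
    (fun x hx => hγ₁Q.mem (hQ₁.mem hx))).congr (fun x hx => ?_)
  show χinv (extHom χh (extFun α (χinv (extHom χh x)))) = extFun α x
  rw [hχinv1 x hx, hχinv1 _ (hγQ.mem hx)]

/-- **The Benson–Grodal–Henke theorem**, in terms of map sets, relative to a strongly closed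
subgroup `H` containing the hyperfocal subgroup. -/
theorem hom_eq_of_small_agree [Finite S] {p : ℕ} [Fact p.Prime] (hS : IsPGroup p S)
    {E F : FusionSystem S} (hE : E.IsSaturated p) (hF : F.IsSaturated p)
    (hEF : E.IsSubsystemOf F) (H : Subgroup Ω) (hHsc : F.StronglyClosed H)
    (hhyp : F.hyperfocalSubgroup p ≤ H)
    (hodd : p ≠ 2 → ∀ A B : Subgroup Ω, A ≤ H → B ≤ H → Cfsg.IsElementaryAbelian p A →
      Cfsg.IsElementaryAbelian p B → E.homSet A B = F.homSet A B)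
    (htwo : p = 2 → ∀ A B : Subgroup Ω, A ≤ H → B ≤ H → IsMulCommutative ↥A →
      IsMulCommutative ↥B → (∀ a ∈ A, a ^ 4 = 1) → (∀ b ∈ B, b ^ 4 = 1) →
      E.homSet A B = F.homSet A B) :
    ∀ P : Subgroup Ω, E.Hom P = F.Hom P := by
  have hmain := isMapOn_of_small_agree hS hE hF hEF (by
    intro A hAhyp hAc hAexp f hf
    have hAH : A ≤ H := hAhyp.trans hhyp
    obtain ⟨A', hA', -⟩ := exists_isImage hf
    have hA'H : A' ≤ H := by
      intro y hy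
      obtain ⟨x, hx, rfl⟩ := (hA' y).1 hy
      obtain ⟨φ, hφ, hφf⟩ := hf
      rw [← hφf ⟨x, hx⟩]
      exact hHsc.2 A hAH φ hφ ⟨x, hx⟩
    have hA'c : ∀ a ∈ A', ∀ b ∈ A', a * b = b * a := by
      intro a ha b hb
      obtain ⟨x, hx, rfl⟩ := (hA' a).1 ha
      obtain ⟨y, hy, rfl⟩ := (hA' b).1 hb
      exact IsMapOn.map_comm hf hx hy (hAc x hx y hy)
    have hcA : IsMulCommutative ↥A := ⟨⟨fun a b => Subtype.ext (hAc a a.2 b b.2)⟩⟩
    have hcA' : IsMulCommutative ↥A' := ⟨⟨fun a b => Subtype.ext (hA'c a a.2 b b.2)⟩⟩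
    obtain ⟨φ, hφ, hφf⟩ := hf
    have hφA' : ∀ x : A, φ x ∈ A' := fun x => by
      rw [hφf]
      exact hA'.mem x.2
    have hmemF : φ ∈ F.homSet A A' := ⟨hφ, hφA'⟩
    by_cases hp : p = 2
    · have h4 : ∀ a ∈ A, a ^ 4 = 1 := by
        intro a ha
        rcases hAexp a ha with h | ⟨-, h⟩
        · rw [hp] at h
          calc a ^ 4 = (a ^ 2) ^ 2 := by rw [← pow_mul]
            _ = 1 := by rw [h, one_pow]
        · exact h
      have h4' : ∀ b ∈ A', b ^ 4 = 1 := by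
        intro b hb
        obtain ⟨x, hx, rfl⟩ := (hA' b).1 hb
        rw [← hφf ⟨x, hx⟩, ← map_pow]
        have : (⟨x, hx⟩ : A) ^ 4 = 1 := Subtype.ext (h4 x hx)
        rw [this, map_one]
      have heq := htwo hp A A' hAH hA'H hcA hcA' h4 h4'
      rw [← heq] at hmemF
      exact ⟨φ, hmemF.1, hφf⟩
    · have hpA : ∀ a ∈ A, a ^ p = 1 := by
        intro a ha
        rcases hAexp a ha with h | ⟨h2, -⟩
        · exact h
        · exact absurd h2 hp
      have hpA' : ∀ b ∈ A', b ^ p = 1 := by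
        intro b hb
        obtain ⟨x, hx, rfl⟩ := (hA' b).1 hb
        rw [← hφf ⟨x, hx⟩, ← map_pow]
        have : (⟨x, hx⟩ : A) ^ p = 1 := Subtype.ext (hpA x hx)
        rw [this, map_one]
      have heq := hodd hp A A' hAH hA'H ⟨hcA, hpA⟩ ⟨hcA', hpA'⟩
      rw [← heq] at hmemF
      exact ⟨φ, hmemF.1, hφf⟩)
  intro P
  refine Set.Subset.antisymm (hEF P) ?_
  intro φ hφ
  rw [mem_hom_iff_isMapOn]
  exact hmain P _ (isMapOn_extHom F hφ)

end Cfsg.Agent.Lib.Helper88_BGH4
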