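import Mathlib
import Cfsg.Prelude.Def_FusionSystem
import Cfsg.Agent.Lib.Helper87_Alperin
import Cfsg.Agent.Lib.Helper85_Transport
import Cfsg.Agent.Lib.Helper85_Transport2
import Cfsg.Agent.Lib.Helper88_Biset6
import Cfsg.Agent.Lib.Helper88_Biset7
import Cfsg.Agent.Lib.Helper88_Biset10

/-!
# The transfer map of a saturated fusion system, with Thompson's lemma (helper88)

A second version of `Helper88_Biset9.exists_transfer`, with one more clause: for `p = 2`, the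
transfer of an involution `z` composed with `θ : S → {±1}` is `-1` as soon as `θ (f z) = -1` for
every map `f` of the system defined on the whole centralizer of `z`.
-/

set_option autoImplicit false
set_option linter.style.haveILetI false

namespace Cfsg.Agent.Lib.Helper88_Biset11

open Cfsg Cfsg.FusionSystem MulAction Cfsg.Agent.Lib.Helper87_Alperin Cfsg.Agent.Lib.Helper88_Marks
  Cfsg.Agent.Lib.Helper88_Biset1 Cfsg.Agent.Lib.Helper88_Biset2 Cfsg.Agent.Lib.Helper88_Biset3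
  Cfsg.Agent.Lib.Helper88_Biset6 Cfsg.Agent.Lib.Helper88_Biset7 Cfsg.Agent.Lib.Helper88_Biset10
  Cfsg.Agent.Lib.Helper85_Transport Cfsg.Agent.Lib.Helper85_Transport2

universe u

section Top

variable {T : Type u} [Group T] {F : FusionSystem (⊤ : Subgroup T)}

/-- The transfer map of a saturated fusion system over the whole group `T`, with Thompson's
lemma. -/
theorem exists_transfer_top' [Finite T] {p : ℕ} [Fact p.Prime] (hT : IsPGroup p (⊤ : Subgroup T))
    (hF : F.IsSaturated p) :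
    ∃ (m : ℕ) (V : T →* Abelianization T), ¬ p ∣ m ∧
      (∀ (P : Subgroup T) (φ : P →* T), φ ∈ F.Hom P → ∀ x : P, V (φ x) = V x) ∧
      (∀ z : T, (∀ (Q : Subgroup T) (f : T → T), IsMapOn F Q f → ∀ k : ℕ, z ^ k ∈ Q →
        f (z ^ k) = z ^ k) → V z = Abelianization.of z ^ m) ∧
      ∀ (θ : T →* ℤˣ) (z : T), p = 2 → z ^ 2 = 1 →
        (∀ (Q : Subgroup T) (f : T → T), IsMapOn F Q f → (∀ c : T, c * z = z * c → c ∈ Q) →
          θ (f z) = -1) → Abelianization.lift θ (V z) = -1 := by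
  obtain ⟨J, hJ, D, m, hD, hst, hcard, hpm⟩ := exists_char_biset hT hF
  have hX : IsFGen F (Union D) := isFGen_union D hD
  have hfree : ∀ (x : Union D) (t : T), ((1 : T), t) • x = x → t = 1 :=
    fun x t h => eq_one_of_smul_eq hX h
  have hm0 : m ≠ 0 := by
    rintro rfl
    exact hpm (dvd_zero p)
  have hne : Nonempty (Union D) := by
    by_contra hne
    rw [not_nonempty_iff] at hne
    rw [Nat.card_of_isEmpty] at hcard
    have : 0 < m * Nat.card T := Nat.mul_pos (Nat.pos_of_ne_zero hm0) Nat.card_pos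
    omega
  obtain ⟨ω⟩ := hne
  have hindex : (stabR (T := T) ω).index = m := by
    have h1 := index_stabR hfree ω
    rw [hcard] at h1
    exact Nat.eq_of_mul_eq_mul_right Nat.card_pos h1
  refine ⟨m, transferR hfree ω, hpm, ?_, ?_, ?_⟩
  · intro P φ hφ x
    obtain ⟨e, he⟩ := exists_equiv_of_marks_hom (X := Union D) (inclHom P) (twistHom φ)
      (fun H => mark_twist_eq hX hst hφ H Nat.card_pos)
    have hg : e ∈ autR T (Union D) := by
      intro t ξ
      have h1 := he ((1 : P), t) ξ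
      rw [inclHom_apply, twistHom_apply, map_one] at h1
      exact h1
    apply transferR_eq_of_conj hfree ω ⟨e, hg⟩
    apply Subtype.ext
    apply Equiv.ext
    intro ξ
    show e ((((x : T), (1 : T)) : T × T) • e.symm ξ) = (φ x, (1 : T)) • ξ
    have h1 := he (x, (1 : T)) (e.symm ξ)
    rw [inclHom_apply, twistHom_apply, Equiv.apply_symm_apply] at h1
    exact h1
  · intro z hz
    rw [← hindex]
    apply transferR_eq_pow hfree ω z
    intro k ξ t hkt
    obtain ⟨Q, f, hf, hΔ⟩ := hX ξ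
    have h1 : (z ^ k, t) ∈ stabilizer (T × T) ξ := hkt
    obtain ⟨h2, h3⟩ := (hΔ _ _).1 h1
    rw [← h3]
    exact hz Q f hf k h2
  · intro θ z hp hz hθ
    subst hp
    have hT' : IsPGroup 2 T := by
      intro x
      obtain ⟨k, hk⟩ := hT ⟨x, Subgroup.mem_top x⟩
      exact ⟨k, congrArg Subtype.val hk⟩
    apply lift_transferR_involution hfree ω z hz θ (Subgroup.centralizer {z}) (hT'.to_subgroup _)
    · rw [Subgroup.mem_centralizer_iff]
      intro h hh
      rw [Set.mem_singleton_iff] at hh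
      rw [hh]
    · intro c hc
      rw [Subgroup.mem_centralizer_iff] at hc
      exact (hc z rfl).symm
    · rw [hindex, ← Nat.not_even_iff_odd, even_iff_two_dvd]
      exact hpm
    · intro ξ hC s hs
      obtain ⟨Q, f, hf, hΔ⟩ := hX ξ
      have h1 : (z, s) ∈ stabilizer (T × T) ξ := hs
      obtain ⟨-, h3⟩ := (hΔ _ _).1 h1
      rw [← h3]
      apply hθ Q f hf
      intro c hc
      have hc' : c ∈ Subgroup.centralizer {z} := by
        rw [Subgroup.mem_centralizer_iff]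
        intro h hh
        rw [Set.mem_singleton_iff] at hh
        rw [hh, hc]
      obtain ⟨t, ht⟩ := hC c hc'
      have h4 : (c, t) ∈ stabilizer (T × T) ξ := ht
      exact ((hΔ _ _).1 h4).1

end Top

section General

/-- The version of `exists_transfer_top'` for a system over a subgroup equal to `⊤`. -/
theorem exists_transfer_of_eq_top' {T : Type u} [Group T] [Finite T] {p : ℕ} [Fact p.Prime]
    {S₀ : Subgroup T} (h : S₀ = ⊤) (F₀ : FusionSystem S₀) (hT : IsPGroup p S₀)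
    (hF : F₀.IsSaturated p) :
    ∃ (m : ℕ) (V : T →* Abelianization T), ¬ p ∣ m ∧
      (∀ (P : Subgroup T) (f : T → T), IsMapOn F₀ P f → ∀ x ∈ P, V (f x) = V x) ∧
      (∀ z : T, (∀ (Q : Subgroup T) (f : T → T), IsMapOn F₀ Q f → ∀ k : ℕ, z ^ k ∈ Q →
        f (z ^ k) = z ^ k) → V z = Abelianization.of z ^ m) ∧
      ∀ (θ : T →* ℤˣ) (z : T), p = 2 → z ^ 2 = 1 →
        (∀ (Q : Subgroup T) (f : T → T), IsMapOn F₀ Q f → (∀ c : T, c * z = z * c → c ∈ Q) →
          θ (f z) = -1) → Abelianization.lift θ (V z) = -1 := by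
  subst h
  obtain ⟨m, V, hm, hV1, hV2, hV3⟩ := exists_transfer_top' hT hF
  refine ⟨m, V, hm, ?_, hV2, hV3⟩
  rintro P f ⟨φ, hφ, hφf⟩ x hx
  rw [← hφf ⟨x, hx⟩]
  exact hV1 P φ hφ ⟨x, hx⟩

variable {Ω : Type u} [Group Ω] {S : Subgroup Ω}

/-- **The transfer map of a saturated fusion system**, with Thompson's transfer lemma as a third
clause. -/
theorem exists_transfer' [Finite S] {p : ℕ} [Fact p.Prime] (hS : IsPGroup p S)
    (F : FusionSystem S) (hF : F.IsSaturated p) :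
    ∃ (m : ℕ) (V : ↥S →* Abelianization ↥S), ¬ p ∣ m ∧
      (∀ (P : Subgroup Ω) (f : Ω → Ω) (hf : IsMapOn F P f) (x : Ω) (hx : x ∈ P),
        V ⟨f x, hf.mem hx⟩ = V ⟨x, hf.le hx⟩) ∧
      (∀ (z : Ω) (hz : z ∈ S), (∀ (Q : Subgroup Ω) (f : Ω → Ω), IsMapOn F Q f → ∀ k : ℕ,
        z ^ k ∈ Q → f (z ^ k) = z ^ k) → V ⟨z, hz⟩ = Abelianization.of ⟨z, hz⟩ ^ m) ∧
      ∀ (θ : ↥S →* ℤˣ) (z : Ω) (hz : z ∈ S), p = 2 → z ^ 2 = 1 →
        (∀ (Q : Subgroup Ω) (f : Ω → Ω) (hf : IsMapOn F Q f) (hzQ : z ∈ Q),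
          (∀ c ∈ S, c * z = z * c → c ∈ Q) → θ ⟨f z, hf.mem hzQ⟩ = -1) →
        Abelianization.lift θ (V ⟨z, hz⟩) = -1 := by
  set e : S ≃* (⊤ : Subgroup ↥S) := Subgroup.topEquiv.symm with he
  have hcorr : SubCorr e F (pushSub e le_rfl F) := subCorr_pushSub le_rfl
  have hT : IsPGroup p ↥(push e S) := by
    rintro ⟨x, hx⟩
    obtain ⟨k, hk⟩ := hS x
    exact ⟨k, Subtype.ext hk⟩
  have hsat : (pushSub e le_rfl F).IsSaturated p := hcorr.isSaturated' hF
  obtain ⟨m, V, hm, hV1, hV2, hV3⟩ :=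
    exists_transfer_of_eq_top' (push_self e) (pushSub e le_rfl F) hT hsat
  have hext : ∀ (x : Ω) (hx : x ∈ S), ext e x = ⟨x, hx⟩ := by
    intro x hx
    rw [ext_apply e hx]
    rfl
  have hext' : ∀ y : ↥S, ext e.symm y = (y : Ω) := by
    intro y
    rw [ext_apply e.symm (Subgroup.mem_top y)]
    rfl
  refine ⟨m, V, hm, ?_, ?_, ?_⟩
  · intro P f hf x hx
    have hxS : x ∈ S := hf.le hx
    have h1 := hV1 _ _ (hcorr.fwd P f hf) (ext e x) (ext_mem_push e hx hxS)
    simp only [Function.comp_apply] at h1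
    rw [ext_symm_ext e hxS, hext x hxS, hext (f x) (hf.mem hx)] at h1
    exact h1
  · intro z hz hzf
    apply hV2
    intro Q' f' hf' k hk
    have h1 := hcorr.bwd Q' f' hf'
    have hzk : z ^ k ∈ S := S.pow_mem hz k
    have h2 : z ^ k ∈ push e.symm Q' := by
      rw [mem_push]
      refine ⟨⟨z, hz⟩ ^ k, hk, Subgroup.mem_top _, ?_⟩
      rw [hext']
      rfl
    have h3 := hzf _ _ h1 k h2
    simp only [Function.comp_apply] at h3
    rw [hext _ hzk, hext'] at h3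
    apply Subtype.ext
    have h4 : (⟨z ^ k, hzk⟩ : ↥S) = ⟨z, hz⟩ ^ k := rfl
    rw [h4] at h3
    rw [h3]
    rfl
  · intro θ z hz hp hz2 hθ
    apply hV3 θ ⟨z, hz⟩ hp (Subtype.ext hz2)
    intro Q' f' hf' hQ'
    have h1 := hcorr.bwd Q' f' hf'
    have hmemQ : ∀ c : ↥S, c ∈ Q' → (c : Ω) ∈ push e.symm Q' := by
      intro c hc
      rw [mem_push]
      exact ⟨c, hc, Subgroup.mem_top _, hext' c⟩
    have hzQ' : (⟨z, hz⟩ : ↥S) ∈ Q' := hQ' _ rfl
    have h2 : z ∈ push e.symm Q' := hmemQ ⟨z, hz⟩ hzQ'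
    have h3 := hθ _ _ h1 h2 (fun c hc hcz => hmemQ ⟨c, hc⟩ (hQ' ⟨c, hc⟩ (Subtype.ext hcz)))
    have h4 : (⟨(ext e.symm ∘ f' ∘ ext e) z, h1.mem h2⟩ : ↥S) = f' ⟨z, hz⟩ := by
      apply Subtype.ext
      show ext e.symm (f' (ext e z)) = _
      rw [hext z hz, hext']
    rw [h4] at h3
    exact h3

end General

section Focal

variable {Ω : Type u} [Group Ω] {S : Subgroup Ω}

/-- A homomorphism from `S` which is constant on the classes of the system kills the focal
subgroup. -/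
theorem exists_map_eq_one_of_mem_focal (F : FusionSystem S) {A : Type*} [Group A] (W : ↥S →* A)
    (hW : ∀ (P : Subgroup Ω) (f : Ω → Ω) (hf : IsMapOn F P f) (x : Ω) (hx : x ∈ P),
      W ⟨f x, hf.mem hx⟩ = W ⟨x, hf.le hx⟩) :
    ∀ y ∈ F.focalSubgroup, ∃ hy : y ∈ S, W ⟨y, hy⟩ = 1 := by
  intro y hy
  unfold Cfsg.FusionSystem.focalSubgroup at hy
  induction hy using Subgroup.closure_induction with
  | mem y hy =>
    obtain ⟨P, φ, x, hφ, rfl⟩ := hy
    have hf : IsMapOn F P (extHom φ) := isMapOn_extHom F hφ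
    have hxS : (x : Ω) ∈ S := hf.le x.2
    have hφS : φ x ∈ S := by
      have := hf.mem x.2
      rwa [extHom_coe] at this
    have h1 := hW P _ hf x x.2
    refine ⟨S.mul_mem (S.inv_mem hxS) hφS, ?_⟩
    have h2 : (⟨(x : Ω)⁻¹ * φ x, S.mul_mem (S.inv_mem hxS) hφS⟩ : ↥S) =
        (⟨x, hxS⟩ : ↥S)⁻¹ * ⟨φ x, hφS⟩ := rfl
    rw [h2, map_mul, map_inv]
    have h3 : (⟨extHom φ (x : Ω), hf.mem x.2⟩ : ↥S) = ⟨φ x, hφS⟩ :=
      Subtype.ext (extHom_coe φ x)
    rw [h3] at h1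
    rw [h1, inv_mul_cancel]
  | one => exact ⟨S.one_mem, map_one W⟩
  | mul a b _ _ ha hb =>
    obtain ⟨haS, hVa⟩ := ha
    obtain ⟨hbS, hVb⟩ := hb
    refine ⟨S.mul_mem haS hbS, ?_⟩
    have h2 : (⟨a * b, S.mul_mem haS hbS⟩ : ↥S) = ⟨a, haS⟩ * ⟨b, hbS⟩ := rfl
    rw [h2, map_mul, hVa, hVb, one_mul]
  | inv a _ ha =>
    obtain ⟨haS, hVa⟩ := ha
    refine ⟨S.inv_mem haS, ?_⟩
    have h2 : (⟨a⁻¹, S.inv_mem haS⟩ : ↥S) = (⟨a, haS⟩ : ↥S)⁻¹ := rfl
    rw [h2, map_inv, hVa, inv_one]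

/-- The hyperfocal subgroup is contained in the focal subgroup. -/
theorem hyperfocal_le_focal (F : FusionSystem S) (p : ℕ) :
    F.hyperfocalSubgroup p ≤ F.focalSubgroup := by
  unfold Cfsg.FusionSystem.hyperfocalSubgroup Cfsg.FusionSystem.focalSubgroup
  apply Subgroup.closure_mono
  rintro y ⟨P, α, x, hP, -, rfl⟩
  refine ⟨P, P.subtype.comp (α : MulAut P).toMonoidHom, x, ?_, rfl⟩
  exact (mem_autGroup_iff' F hP (α : MulAut P)).1 α.2

end Focal

end Cfsg.Agent.Lib.Helper88_Biset11
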