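import Mathlib
import Cfsg.Prelude.Def_FusionSystem
import Cfsg.Agent.Lib.Helper87_Alperin
import Cfsg.Agent.Lib.Helper88_Biset6
import Cfsg.Agent.Lib.Helper88_Biset7

/-!
# The transfer map of a saturated fusion system over `T` (helper88)
-/

set_option autoImplicit false
set_option linter.style.haveILetI false

namespace Cfsg.Agent.Lib.Helper88_Biset8

open Cfsg Cfsg.FusionSystem MulAction Cfsg.Agent.Lib.Helper87_Alperin Cfsg.Agent.Lib.Helper88_Marks
  Cfsg.Agent.Lib.Helper88_Biset1 Cfsg.Agent.Lib.Helper88_Biset2 Cfsg.Agent.Lib.Helper88_Biset3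
  Cfsg.Agent.Lib.Helper88_Biset6 Cfsg.Agent.Lib.Helper88_Biset7

universe u

variable {T : Type u} [Group T] {F : FusionSystem (⊤ : Subgroup T)}

/-- **The transfer map of a saturated fusion system** over the whole group `T`: a homomorphism
`V : T → T^ab`, constant on the classes of the system, which is the `m`-th power map on the
elements fixed (with all their powers) by every map of the system, with `m` prime to `p`. -/
theorem exists_transfer_top [Finite T] {p : ℕ} [Fact p.Prime] (hT : IsPGroup p (⊤ : Subgroup T))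
    (hF : F.IsSaturated p) :
    ∃ (m : ℕ) (V : T →* Abelianization T), ¬ p ∣ m ∧
      (∀ (P : Subgroup T) (φ : P →* T), φ ∈ F.Hom P → ∀ x : P, V (φ x) = V x) ∧
      ∀ z : T, (∀ (Q : Subgroup T) (f : T → T), IsMapOn F Q f → ∀ k : ℕ, z ^ k ∈ Q →
        f (z ^ k) = z ^ k) → V z = Abelianization.of z ^ m := by
  obtain ⟨J, hJ, D, m, hD, hst, hcard, hpm⟩ := exists_char_biset hT hF
  have hX : IsFGen F (Union D) := isFGen_union D hD
  have hfree : ∀ (x : Union D) (t : T), ((1 : T), t) • x = x → t = 1 :=
    fun x t h => eq_one_of_smul_eq hX h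
  have hm0 : m ≠ 0 := by
    rintro rfl
    exact hpm (dvd_zero p)
  have hne : Nonempty (Union D) := by
    by_contra hne
    rw [not_nonempty_iff] at hne
    rw [Nat.card_of_isEmpty] at hcard
    have : 0 < m * Nat.card T := Nat.mul_pos (Nat.pos_of_ne_zero hm0) Nat.card_pos
    omega
  obtain ⟨ω⟩ := hne
  have hindex : (stabR (T := T) ω).index = m := by
    have h1 := index_stabR hfree ω
    rw [hcard] at h1
    exact Nat.eq_of_mul_eq_mul_right Nat.card_pos h1
  refine ⟨m, transferR hfree ω, hpm, ?_, ?_⟩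
  · intro P φ hφ x
    obtain ⟨e, he⟩ := exists_equiv_of_marks_hom (X := Union D) (inclHom P) (twistHom φ)
      (fun H => mark_twist_eq hX hst hφ H Nat.card_pos)
    have hg : e ∈ autR T (Union D) := by
      intro t ξ
      have h1 := he ((1 : P), t) ξ
      rw [inclHom_apply, twistHom_apply, map_one] at h1
      exact h1
    apply transferR_eq_of_conj hfree ω ⟨e, hg⟩
    apply Subtype.ext
    apply Equiv.ext
    intro ξ
    show e ((((x : T), (1 : T)) : T × T) • e.symm ξ) = (φ x, (1 : T)) • ξ
    have h1 := he (x, (1 : T)) (e.symm ξ)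
    rw [inclHom_apply, twistHom_apply, Equiv.apply_symm_apply] at h1
    exact h1
  · intro z hz
    rw [← hindex]
    apply transferR_eq_pow hfree ω z
    intro k ξ t hkt
    obtain ⟨Q, f, hf, hΔ⟩ := hX ξ
    have h1 : (z ^ k, t) ∈ stabilizer (T × T) ξ := hkt
    obtain ⟨h2, h3⟩ := (hΔ _ _).1 h1
    rw [← h3]
    exact hz Q f hf k h2

end Cfsg.Agent.Lib.Helper88_Biset8
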