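import Mathlib
import Cfsg.Prelude.Def_FusionSystem
import Cfsg.Agent.Lib.Helper87_Alperin
import Cfsg.Agent.Lib.Helper85_Transport
import Cfsg.Agent.Lib.Helper85_Transport2
import Cfsg.Agent.Lib.Helper88_Biset8

/-!
# The transfer map of a saturated fusion system (helper88)

For a saturated fusion system `F` over a finite `p`-group `S` there is a homomorphism
`V : S → S^ab`, constant on the `F`-classes of elements, and equal to the `m`-th power map on every
element which (with all its powers) is fixed by all maps of `F`; here `m` is prime to `p`.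
This is the transfer of a characteristic biset of `F` (Broto–Levi–Oliver, Proposition 5.5).
-/

set_option autoImplicit false
set_option linter.style.haveILetI false

namespace Cfsg.Agent.Lib.Helper88_Biset9

open Cfsg Cfsg.FusionSystem Cfsg.Agent.Lib.Helper87_Alperin Cfsg.Agent.Lib.Helper85_Transport
  Cfsg.Agent.Lib.Helper85_Transport2 Cfsg.Agent.Lib.Helper88_Biset8

universe u

/-- The version of `exists_transfer_top` for a system over a subgroup equal to `⊤`. -/
theorem exists_transfer_of_eq_top {T : Type u} [Group T] [Finite T] {p : ℕ} [Fact p.Prime]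
    {S₀ : Subgroup T} (h : S₀ = ⊤) (F₀ : FusionSystem S₀) (hT : IsPGroup p S₀)
    (hF : F₀.IsSaturated p) :
    ∃ (m : ℕ) (V : T →* Abelianization T), ¬ p ∣ m ∧
      (∀ (P : Subgroup T) (f : T → T), IsMapOn F₀ P f → ∀ x ∈ P, V (f x) = V x) ∧
      ∀ z : T, (∀ (Q : Subgroup T) (f : T → T), IsMapOn F₀ Q f → ∀ k : ℕ, z ^ k ∈ Q →
        f (z ^ k) = z ^ k) → V z = Abelianization.of z ^ m := by
  subst h
  obtain ⟨m, V, hm, hV1, hV2⟩ := exists_transfer_top hT hF
  refine ⟨m, V, hm, ?_, hV2⟩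
  rintro P f ⟨φ, hφ, hφf⟩ x hx
  rw [← hφf ⟨x, hx⟩]
  exact hV1 P φ hφ ⟨x, hx⟩

variable {Ω : Type u} [Group Ω] {S : Subgroup Ω}

/-- **The transfer map of a saturated fusion system.** -/
theorem exists_transfer [Finite S] {p : ℕ} [Fact p.Prime] (hS : IsPGroup p S)
    (F : FusionSystem S) (hF : F.IsSaturated p) :
    ∃ (m : ℕ) (V : ↥S →* Abelianization ↥S), ¬ p ∣ m ∧
      (∀ (P : Subgroup Ω) (f : Ω → Ω) (hf : IsMapOn F P f) (x : Ω) (hx : x ∈ P),
        V ⟨f x, hf.mem hx⟩ = V ⟨x, hf.le hx⟩) ∧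
      ∀ (z : Ω) (hz : z ∈ S), (∀ (Q : Subgroup Ω) (f : Ω → Ω), IsMapOn F Q f → ∀ k : ℕ,
        z ^ k ∈ Q → f (z ^ k) = z ^ k) → V ⟨z, hz⟩ = Abelianization.of ⟨z, hz⟩ ^ m := by
  set e : S ≃* (⊤ : Subgroup ↥S) := Subgroup.topEquiv.symm with he
  have hcorr : SubCorr e F (pushSub e le_rfl F) := subCorr_pushSub le_rfl
  have hT : IsPGroup p ↥(push e S) := by
    rintro ⟨x, hx⟩
    obtain ⟨k, hk⟩ := hS x
    exact ⟨k, Subtype.ext hk⟩
  have hsat : (pushSub e le_rfl F).IsSaturated p := hcorr.isSaturated' hF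
  obtain ⟨m, V, hm, hV1, hV2⟩ := exists_transfer_of_eq_top (push_self e) (pushSub e le_rfl F) hT hsat
  have hext : ∀ (x : Ω) (hx : x ∈ S), ext e x = ⟨x, hx⟩ := by
    intro x hx
    rw [ext_apply e hx]
    rfl
  have hext' : ∀ y : ↥S, ext e.symm y = (y : Ω) := by
    intro y
    rw [ext_apply e.symm (Subgroup.mem_top y)]
    rfl
  refine ⟨m, V, hm, ?_, ?_⟩
  · intro P f hf x hx
    have hxS : x ∈ S := hf.le hx
    have h1 := hV1 _ _ (hcorr.fwd P f hf) (ext e x) (ext_mem_push e hx hxS)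
    simp only [Function.comp_apply] at h1
    rw [ext_symm_ext e hxS, hext x hxS, hext (f x) (hf.mem hx)] at h1
    exact h1
  · intro z hz hzf
    apply hV2
    intro Q' f' hf' k hk
    have h1 := hcorr.bwd Q' f' hf'
    have hzk : z ^ k ∈ S := S.pow_mem hz k
    have h2 : z ^ k ∈ push e.symm Q' := by
      rw [mem_push]
      refine ⟨⟨z, hz⟩ ^ k, hk, Subgroup.mem_top _, ?_⟩
      rw [hext']
      rfl
    have h3 := hzf _ _ h1 k h2
    simp only [Function.comp_apply] at h3
    rw [hext _ hzk, hext'] at h3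
    apply Subtype.ext
    have h4 : (⟨z ^ k, hzk⟩ : ↥S) = ⟨z, hz⟩ ^ k := rfl
    rw [h4] at h3
    rw [h3]
    rfl

end Cfsg.Agent.Lib.Helper88_Biset9
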