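import Mathlib

/-!
Coprime action on a finite abelian group (helper88): `M = C_M(A) × [M, A]`.
-/

set_option autoImplicit false

namespace Cfsg.Agent.Lib.Helper88_CoprimeAbelian

open scoped BigOperators

section
variable {M : Type*} [CommGroup M] (A : Subgroup (MulAut M)) [Fintype A]

/-- The norm map `x ↦ ∏_{α ∈ A} α x`. -/
noncomputable def normMap (x : M) : M := ∏ α : A, (α : MulAut M) x

theorem normMap_mul (x y : M) : normMap A (x * y) = normMap A x * normMap A y := by
  unfold normMap
  rw [← Finset.prod_mul_distrib]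
  exact Finset.prod_congr rfl (fun α _ => map_mul _ x y)

theorem normMap_one : normMap A (1 : M) = 1 := by
  unfold normMap
  exact Finset.prod_eq_one (fun α _ => map_one _)

theorem normMap_inv (x : M) : normMap A x⁻¹ = (normMap A x)⁻¹ := by
  rw [eq_inv_iff_mul_eq_one, ← normMap_mul, inv_mul_cancel, normMap_one]

theorem normMap_apply_aut (β : MulAut M) (hβ : β ∈ A) (x : M) : normMap A (β x) = normMap A x := by
  unfold normMap
  exact Fintype.prod_equiv (Equiv.mulRight (⟨β, hβ⟩ : A)) _ _ (fun α => rfl)

theorem aut_normMap (β : MulAut M) (hβ : β ∈ A) (x : M) : β (normMap A x) = normMap A x := by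
  unfold normMap
  rw [map_prod]
  exact Fintype.prod_equiv (Equiv.mulLeft (⟨β, hβ⟩ : A)) _ _ (fun α => rfl)

theorem normMap_of_fixed (x : M) (hx : ∀ α ∈ A, α x = x) : normMap A x = x ^ Fintype.card A := by
  unfold normMap
  rw [Finset.prod_congr rfl (fun (α : A) _ => hx (α : MulAut M) α.property), Finset.prod_const,
    Finset.card_univ]

end

/-- Coprime action on a finite abelian group: the group is the direct product of the fixed points and the
commutator. -/
theorem coprime_abelian_decomp {M : Type*} [Group M] [Finite M] (hcomm : ∀ a b : M, a * b = b * a)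
    (A : Subgroup (MulAut M)) (hcop : (Nat.card A).Coprime (Nat.card M))
    (C D : Subgroup M) (hC : ∀ x, x ∈ C ↔ ∀ α ∈ A, α x = x)
    (hD : D = Subgroup.closure {y | ∃ (s : M) (α : MulAut M), α ∈ A ∧ y = s⁻¹ * α s}) :
    C ⊓ D = ⊥ ∧ C ⊔ D = ⊤ := by
  let _ : CommGroup M := { ‹Group M› with mul_comm := hcomm }
  have : Fintype A := Fintype.ofFinite A
  have hn : Fintype.card A = Nat.card A := (Nat.card_eq_fintype_card).symm
  -- the norm kills `D`
  have hND : ∀ d ∈ D, normMap A d = 1 := by
    intro d hd
    rw [hD] at hd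
    induction hd using Subgroup.closure_induction with
    | mem y hy =>
      obtain ⟨s, α, hα, rfl⟩ := hy
      rw [normMap_mul, normMap_inv, normMap_apply_aut A α hα, inv_mul_cancel]
    | one => exact normMap_one A
    | mul x y _ _ hx hy => rw [normMap_mul, hx, hy, one_mul]
    | inv x _ hx => rw [normMap_inv, hx, inv_one]
  -- `x ^ n / N(x) ∈ D`
  have hquot : ∀ x : M, x ^ Fintype.card A * (normMap A x)⁻¹ ∈ D := by
    intro x
    have h1 : x ^ Fintype.card A * (normMap A x)⁻¹ = ∏ α : A, (x⁻¹ * (α : MulAut M) x)⁻¹ := by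
      unfold normMap
      rw [← Finset.prod_inv_distrib, ← Finset.card_univ, ← Finset.prod_const, ← Finset.prod_mul_distrib]
      refine Finset.prod_congr rfl (fun α _ => ?_)
      rw [mul_inv_rev, inv_inv, mul_comm]
    rw [h1]
    refine Subgroup.prod_mem D (fun α _ => D.inv_mem ?_)
    rw [hD]
    exact Subgroup.subset_closure ⟨x, α, α.2, rfl⟩
  have hcopx : ∀ x : M, (Fintype.card A).Coprime (orderOf x) := by
    intro x
    rw [hn]
    exact Nat.Coprime.coprime_dvd_right (orderOf_dvd_natCard x) hcop
  constructor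
  · rw [eq_bot_iff]
    intro x hx
    rw [Subgroup.mem_inf] at hx
    rw [Subgroup.mem_bot]
    have h1 : x ^ Fintype.card A = 1 := by
      rw [← normMap_of_fixed A x ((hC x).1 hx.1)]
      exact hND x hx.2
    have h2 : orderOf x ∣ Fintype.card A := orderOf_dvd_of_pow_eq_one h1
    have h3 : orderOf x = 1 := Nat.Coprime.eq_one_of_dvd (hcopx x).symm h2
    exact orderOf_eq_one_iff.1 h3
  · rw [eq_top_iff]
    intro x _
    have h1 : x ^ Fintype.card A ∈ C ⊔ D := by
      have h2 : x ^ Fintype.card A = normMap A x * (x ^ Fintype.card A * (normMap A x)⁻¹) := by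
        rw [mul_comm (x ^ Fintype.card A), mul_inv_cancel_left]
      rw [h2]
      refine Subgroup.mul_mem_sup ?_ (hquot x)
      rw [hC]
      intro α hα
      exact aut_normMap A α hα x
    obtain ⟨m, hm⟩ := exists_pow_eq_self_of_coprime (hcopx x)
    rw [← hm]
    exact Subgroup.pow_mem _ h1 m

end Cfsg.Agent.Lib.Helper88_CoprimeAbelian
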