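import Mathlib
import Cfsg.Prelude.Def_FusionSystem
import Cfsg.Prelude.Def_Transfer
import Cfsg.Agent.S1949
import Cfsg.Agent.Lib.Helper85_Fusion
import Cfsg.Agent.Lib.Helper84_FusionNormal

/-!
# Cyclic subgroups of order `p` or `4` of the hyperfocal subgroup (helper88)

Let `F` be a fusion system over a finite `p`-group `S` and `Q ≤ S` fully automized.  By `S1949` there is
an `Aut_F(Q)`-invariant subgroup `D` of `Q`, inside the hyperfocal subgroup, of exponent `p` (or `4`), on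
which the `p'`-elements of `Aut_F(Q)` act faithfully.  An automorphism `α ∈ Aut_F(Q)` *stabilizes* the series
`D ∩ γ_i(S)` if `x⁻¹ α(x) ∈ γ_{i+1}(S)` for `x ∈ D ∩ γ_i(S)`.  The stabilizing automorphisms form a
`p`-subgroup containing `Aut_S(Q)`, hence equal to it (`mem_autInducedBy_of_stab`).
-/

set_option autoImplicit false

namespace Cfsg.Agent.Lib.Helper88_CyclicHyp

open Cfsg Cfsg.FusionSystem
open scoped commutatorElement

variable {Ω : Type*} [Group Ω]

/-- `α` stabilizes the series `D ∩ γ_i(S)`. -/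
def Stab1 (S : Subgroup Ω) {Q : Subgroup Ω} (D : Subgroup ↥Q) (α : MulAut ↥Q) : Prop :=
  ∀ (i : ℕ) (x : ↥Q), x ∈ D → (x : Ω) ∈ S.lowerCentralSeries i →
    ((x⁻¹ * α x : ↥Q) : Ω) ∈ S.lowerCentralSeries (i + 1)

theorem stab1_one (S : Subgroup Ω) {Q : Subgroup Ω} (D : Subgroup ↥Q) : Stab1 S D (1 : MulAut ↥Q) := by
  intro i x _ _
  simp

theorem lcs_succ_le (S : Subgroup Ω) (i : ℕ) : S.lowerCentralSeries (i + 1) ≤ S.lowerCentralSeries i :=
  Subgroup.lowerCentralSeries_antitone S (Nat.le_succ i)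

theorem stab1_mul {S : Subgroup Ω} {Q : Subgroup Ω} {D : Subgroup ↥Q} {α β : MulAut ↥Q}
    (hβD : ∀ d ∈ D, β d ∈ D) (hα : Stab1 S D α) (hβ : Stab1 S D β) : Stab1 S D (α * β) := by
  intro i x hxD hxi
  -- β x = x v, α (x v) = x w (α v)
  set v : ↥Q := x⁻¹ * β x with hv
  have hvD : v ∈ D := D.mul_mem (D.inv_mem hxD) (hβD x hxD)
  have hvi : (v : Ω) ∈ S.lowerCentralSeries (i + 1) := hβ i x hxD hxi
  have hw : ((x⁻¹ * α x : ↥Q) : Ω) ∈ S.lowerCentralSeries (i + 1) := hα i x hxD hxi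
  have hαv : ((v⁻¹ * α v : ↥Q) : Ω) ∈ S.lowerCentralSeries (i + 1) :=
    lcs_succ_le S (i + 1) (hα (i + 1) v hvD hvi)
  have hβx : β x = x * v := by rw [hv]; group
  have h1 : x⁻¹ * (α * β) x = (x⁻¹ * α x) * (v * (v⁻¹ * α v)) := by
    rw [MulAut.mul_apply, hβx, map_mul]; group
  rw [h1]
  push_cast
  exact Subgroup.mul_mem _ hw (Subgroup.mul_mem _ hvi hαv)

theorem stab1_of_pointwise_conj {S : Subgroup Ω} {Q : Subgroup Ω} (D : Subgroup ↥Q) {τ : MulAut ↥Q}
    (h : ∀ x ∈ D, ∃ g ∈ S, ((τ x : ↥Q) : Ω) = g * (x : Ω) * g⁻¹) : Stab1 S D τ := by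
  intro i x hxD hxi
  obtain ⟨g, hg, hτ⟩ := h x hxD
  have h1 : ((x⁻¹ * τ x : ↥Q) : Ω) = ⁅(x : Ω)⁻¹, g⁆ := by
    rw [commutatorElement_def]
    push_cast
    rw [hτ]
    group
  rw [h1, Subgroup.lowerCentralSeries_succ]
  exact Subgroup.commutator_mem_commutator (Subgroup.inv_mem _ hxi) hg

theorem stab1_of_conj {S : Subgroup Ω} {Q : Subgroup Ω} (D : Subgroup ↥Q) {τ : MulAut ↥Q}
    (h : ∃ g ∈ S, ∀ x : ↥Q, ((τ x : ↥Q) : Ω) = g * (x : Ω) * g⁻¹) : Stab1 S D τ := by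
  obtain ⟨g, hg, hτ⟩ := h
  exact stab1_of_pointwise_conj D (fun x _ => ⟨g, hg, hτ x⟩)

/-- Conjugates of stabilizing automorphisms by automorphisms preserving the series stabilize. -/
theorem stab1_conj {S : Subgroup Ω} {Q : Subgroup Ω} {D : Subgroup ↥Q} {α τ : MulAut ↥Q}
    (hα'D : ∀ d ∈ D, α⁻¹ d ∈ D) (hτD : ∀ d ∈ D, τ d ∈ D)
    (hinvα : ∀ (i : ℕ) (x : ↥Q), x ∈ D → (x : Ω) ∈ S.lowerCentralSeries i →
      ((α x : ↥Q) : Ω) ∈ S.lowerCentralSeries i)
    (hinvα' : ∀ (i : ℕ) (x : ↥Q), x ∈ D → (x : Ω) ∈ S.lowerCentralSeries i →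
      ((α⁻¹ x : ↥Q) : Ω) ∈ S.lowerCentralSeries i)
    (hτ : Stab1 S D τ) : Stab1 S D (α * τ * α⁻¹) := by
  intro i x hxD hxi
  set y : ↥Q := α⁻¹ x with hy
  have hyD : y ∈ D := hα'D x hxD
  have hyi : (y : Ω) ∈ S.lowerCentralSeries i := hinvα' i x hxD hxi
  set v : ↥Q := y⁻¹ * τ y with hv
  have hvD : v ∈ D := D.mul_mem (D.inv_mem hyD) (hτD y hyD)
  have hvi : (v : Ω) ∈ S.lowerCentralSeries (i + 1) := hτ i y hyD hyi
  have hτy : τ y = y * v := by rw [hv]; group
  have hαy : α y = x := by rw [hy]; exact MulAut.apply_inv_self _ _ _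
  have h1 : x⁻¹ * (α * τ * α⁻¹) x = α v := by
    rw [MulAut.mul_apply, MulAut.mul_apply, ← hy, hτy, map_mul, hαy]
    group
  rw [h1]
  exact hinvα (i + 1) v hvD hvi

/-- **Stability lemma.** An automorphism of order prime to `p` stabilizing the series fixes `D` elementwise. -/
theorem fix_of_stab1 {S : Subgroup Ω} [Finite S] {p : ℕ} [Fact p.Prime] (hS : IsPGroup p S)
    {Q : Subgroup Ω} (hQS : Q ≤ S) {D : Subgroup ↥Q} {α : MulAut ↥Q}
    (hαD : ∀ d ∈ D, α d ∈ D) (hord : (orderOf α).Coprime p) (hα : Stab1 S D α) :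
    ∀ d ∈ D, α d = d := by
  have hnil : Group.IsNilpotent S := hS.isNilpotent
  obtain ⟨n₀, hn₀⟩ := (Subgroup.isNilpotent_iff_lowerCentralSeries S).1 hnil
  have hQp : IsPGroup p Q := hS.to_le hQS
  have key : ∀ (j i : ℕ), n₀ ≤ i + j → ∀ x : ↥Q, x ∈ D → (x : Ω) ∈ S.lowerCentralSeries i → α x = x := by
    intro j
    induction j with
    | zero =>
      intro i hi x _ hxi
      have h1 : S.lowerCentralSeries i ≤ S.lowerCentralSeries n₀ :=
        Subgroup.lowerCentralSeries_antitone S (by simpa using hi)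
      rw [hn₀] at h1
      have hx1 : (x : Ω) = 1 := by simpa using h1 hxi
      have : x = 1 := Subtype.ext hx1
      rw [this, map_one]
    | succ j ih =>
      intro i hi x hxD hxi
      set v : ↥Q := x⁻¹ * α x with hv
      have hvD : v ∈ D := D.mul_mem (D.inv_mem hxD) (hαD x hxD)
      have hvi : (v : Ω) ∈ S.lowerCentralSeries (i + 1) := hα i x hxD hxi
      have hαv : α v = v := ih (i + 1) (by omega) v hvD hvi
      have hαx : α x = x * v := by rw [hv]; group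
      have hpow : ∀ k : ℕ, (α ^ k) x = x * v ^ k := by
        intro k
        induction k with
        | zero => simp
        | succ k ihk =>
          rw [pow_succ', MulAut.mul_apply, ihk, map_mul, map_pow, hαv, hαx, pow_succ']
          group
      have h1 := hpow (orderOf α)
      rw [pow_orderOf_eq_one, MulAut.one_apply] at h1
      have hvm : v ^ orderOf α = 1 := by
        have : x * v ^ orderOf α = x * 1 := by rw [mul_one]; exact h1.symm
        exact mul_left_cancel this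
      obtain ⟨k, hk⟩ := (IsPGroup.iff_orderOf.1 hQp) v
      have hdvd : orderOf v ∣ orderOf α := orderOf_dvd_of_pow_eq_one hvm
      have hcop : (orderOf v).Coprime (orderOf α) := by
        rw [hk]
        exact (Nat.Coprime.pow_left k hord.symm)
      have hv1 : orderOf v = 1 := Nat.Coprime.eq_one_of_dvd hcop hdvd
      rw [orderOf_eq_one_iff] at hv1
      rw [hαx, hv1, mul_one]
  intro d hd
  exact key n₀ 0 (by omega) d hd (by rw [Subgroup.lowerCentralSeries_zero]; exact hQS d.2)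

/-- A finite group all of whose elements of order prime to `p` are trivial is a `p`-group. -/
theorem isPGroup_of_coprime_eq_one {G : Type*} [Group G] [Finite G] {p : ℕ} [hp : Fact p.Prime]
    (h : ∀ g : G, (orderOf g).Coprime p → g = 1) : IsPGroup p G := by
  intro g
  have hpos : 0 < orderOf g := orderOf_pos g
  obtain ⟨k, m, hm, hkm⟩ := Nat.exists_eq_pow_mul_and_not_dvd hpos.ne' p hp.out.ne_one
  refine ⟨k, ?_⟩
  apply h
  have hord : orderOf (g ^ p ^ k) = m := by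
    rw [orderOf_pow' g (pow_ne_zero k hp.out.ne_zero), hkm]
    have : Nat.gcd (p ^ k * m) (p ^ k) = p ^ k := Nat.gcd_eq_right (Dvd.intro _ rfl)
    rw [this]
    exact Nat.mul_div_cancel_left m (pow_pos hp.out.pos k)
  rw [hord]
  exact ((Nat.Prime.coprime_iff_not_dvd hp.out).2 hm).symm

variable {S : Subgroup Ω}

/-- **Main technical theorem.** For a fully automized `Q` there is an `Aut_F(Q)`-invariant subgroup `D` of
`Q` of small exponent inside the hyperfocal subgroup such that every automorphism in `Aut_F(Q)` that,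
together with its inverse, stabilizes the series `D ∩ γ_i(S)`, is induced by an element of `S`. -/
theorem mem_autInducedBy_of_stab [Finite S] {p : ℕ} [Fact p.Prime] (hS : IsPGroup p S)
    (F : FusionSystem S) {Q : Subgroup Ω} (hQa : F.IsFullyAutomized p Q) :
    ∃ D : Subgroup ↥Q, (∀ α ∈ F.autGroup Q, ∀ d ∈ D, α d ∈ D) ∧
      (∀ d ∈ D, (d : Ω) ∈ F.hyperfocalSubgroup p) ∧
      (∀ d ∈ D, d ^ p = 1 ∨ (p = 2 ∧ d ^ 4 = 1)) ∧
      ∀ α ∈ F.autGroup Q, Stab1 S D α → Stab1 S D α⁻¹ → α ∈ autInducedBy S Q := by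
  classical
  obtain ⟨hQS, R, hR⟩ := hQa
  have hfinQ : Finite Q := Finite.of_injective (Subgroup.inclusion hQS) (Subgroup.inclusion_injective hQS)
  have hQp : IsPGroup p Q := hS.to_le hQS
  have hInn : Cfsg.Inn ↥Q ≤ F.autGroup Q := by
    rintro _ ⟨g, rfl⟩
    apply Helper85_Fusion.autInducedBy_le_autGroup F hQS
    rw [Helper85_Fusion.mem_autInducedBy_iff]
    exact ⟨g, hQS g.2, fun x => rfl⟩
  obtain ⟨D, hDinv, hDle, hDexp, -, hDfaith, -⟩ := Cfsg.Agent.S1949.result hQp (F.autGroup Q) hInn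
  have hDmem : ∀ α ∈ F.autGroup Q, ∀ d ∈ D, α d ∈ D := by
    intro α hα d hd
    rw [← hDinv α hα]
    exact ⟨d, hd, rfl⟩
  refine ⟨D, hDmem, ?_, hDexp, ?_⟩
  · intro d hd
    have h1 := hDle hd
    have h2 : Subgroup.closure {y : ↥Q | ∃ α ∈ Cfsg.pResidual p ↥(F.autGroup Q), ∃ x : ↥Q,
        y = x⁻¹ * (α : MulAut ↥Q) x} ≤ (F.hyperfocalSubgroup p).comap Q.subtype := by
      rw [Subgroup.closure_le]
      rintro _ ⟨α, hα, x, rfl⟩
      show Q.subtype (x⁻¹ * ((α : F.autGroup Q) : MulAut ↥Q) x) ∈ F.hyperfocalSubgroup p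
      unfold Cfsg.FusionSystem.hyperfocalSubgroup
      apply Subgroup.subset_closure
      exact ⟨Q, α, x, hQS, hα, rfl⟩
    exact h2 h1
  -- the stabilizer of the series
  let M : Subgroup ↥(F.autGroup Q) :=
    { carrier := {α | Stab1 S D (α : MulAut ↥Q) ∧ Stab1 S D ((α : MulAut ↥Q))⁻¹}
      one_mem' := by
        refine ⟨stab1_one S D, ?_⟩
        show Stab1 S D ((1 : MulAut ↥Q))⁻¹
        rw [inv_one]
        exact stab1_one S D
      mul_mem' := by
        rintro α β ⟨hα, hα'⟩ ⟨hβ, hβ'⟩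
        refine ⟨stab1_mul (hDmem _ β.2) hα hβ, ?_⟩
        show Stab1 S D (((α : MulAut ↥Q) * (β : MulAut ↥Q)))⁻¹
        rw [mul_inv_rev]
        exact stab1_mul (hDmem _ ((F.autGroup Q).inv_mem α.2)) hβ' hα'
      inv_mem' := by
        rintro α ⟨hα, hα'⟩
        refine ⟨hα', ?_⟩
        show Stab1 S D (((α : MulAut ↥Q))⁻¹)⁻¹
        rw [inv_inv]
        exact hα }
  have hMmem : ∀ α : ↥(F.autGroup Q), α ∈ M ↔
      Stab1 S D (α : MulAut ↥Q) ∧ Stab1 S D ((α : MulAut ↥Q))⁻¹ := fun _ => Iff.rfl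
  have hfinA : Finite ↥(F.autGroup Q) := inferInstance
  have hMp : IsPGroup p M := by
    apply isPGroup_of_coprime_eq_one
    rintro ⟨α, hαM⟩ hord
    have hord' : (orderOf (α : MulAut ↥Q)).Coprime p := by
      have h1 : orderOf (⟨α, hαM⟩ : M) = orderOf α := by
        rw [← Subgroup.orderOf_coe]
      have h2 : orderOf α = orderOf (α : MulAut ↥Q) := by
        rw [← Subgroup.orderOf_coe]
      rw [← h2, ← h1]
      exact hord
    have hfix := fix_of_stab1 hS hQS (hDmem _ α.2) hord' ((hMmem α).1 hαM).1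
    have h1 : (α : MulAut ↥Q) = 1 := hDfaith _ α.2 hord' hfix
    apply Subtype.ext
    apply Subtype.ext
    exact h1
  have hRM : (R : Subgroup ↥(F.autGroup Q)) ≤ M := by
    intro α hα
    rw [hR, Subgroup.mem_subgroupOf] at hα
    have hα' : ((α : MulAut ↥Q))⁻¹ ∈ autInducedBy S Q := Subgroup.inv_mem _ hα
    rw [hMmem]
    exact ⟨stab1_of_conj D ((Helper85_Fusion.mem_autInducedBy_iff S Q _).1 hα),
      stab1_of_conj D ((Helper85_Fusion.mem_autInducedBy_iff S Q _).1 hα')⟩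
  have hMR : M = (R : Subgroup ↥(F.autGroup Q)) := R.is_maximal' hMp hRM
  intro α hα h1 h2
  have hαM : (⟨α, hα⟩ : ↥(F.autGroup Q)) ∈ M := (hMmem _).2 ⟨h1, h2⟩
  rw [hMR, hR, Subgroup.mem_subgroupOf] at hαM
  exact hαM


/-- A nontrivial element of small order generates a cyclic group of order `p` or `4`. -/
theorem small_cyclic {p : ℕ} [hp : Fact p.Prime] {x : Ω} (hx1 : x ≠ 1)
    (hx : x ^ p = 1 ∨ (p = 2 ∧ x ^ 4 = 1)) :
    IsCyclic ↥(Subgroup.zpowers x) ∧
      (Nat.card ↥(Subgroup.zpowers x) = p ∨ Nat.card ↥(Subgroup.zpowers x) = 4) := by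
  refine ⟨inferInstance, ?_⟩
  rw [Nat.card_zpowers]
  rcases hx with hx | ⟨h2, hx⟩
  · left
    exact orderOf_eq_prime hx hx1
  · have hdvd : orderOf x ∣ 2 ^ 2 := by
      have : orderOf x ∣ 4 := orderOf_dvd_of_pow_eq_one hx
      simpa using this
    obtain ⟨k, hk, hk2⟩ := (Nat.dvd_prime_pow Nat.prime_two).1 hdvd
    have hk0 : k ≠ 0 := by
      rintro rfl
      rw [pow_zero, orderOf_eq_one_iff] at hk2
      exact hx1 hk2
    have : k = 1 ∨ k = 2 := by omega
    rcases this with rfl | rfl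
    · left; rw [hk2, h2]; rfl
    · right; rw [hk2]; rfl

/-- The restriction of an automorphism in `Aut_F(Q)` to the cyclic group generated by an element. -/
theorem exists_restrict_zpowers (F : FusionSystem S) {Q : Subgroup Ω} (hQS : Q ≤ S) {α : MulAut ↥Q}
    (hα : α ∈ F.autGroup Q) (x : ↥Q) :
    ∃ ψ : ↥(Subgroup.zpowers (x : Ω)) →* Ω,
      ψ ∈ F.homSet (Subgroup.zpowers (x : Ω)) (Subgroup.zpowers ((α x : ↥Q) : Ω)) ∧
      ψ ⟨(x : Ω), Subgroup.mem_zpowers _⟩ = ((α x : ↥Q) : Ω) := by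
  have hle : Subgroup.zpowers (x : Ω) ≤ Q := (Subgroup.zpowers_le).2 x.2
  have hα' := (Helper85_Fusion.mem_autGroup_iff F hQS α).1 hα
  refine ⟨(Q.subtype.comp α.toMonoidHom).comp (Subgroup.inclusion hle),
    ⟨Helper85_Fusion.restrict_mem F hle hα', ?_⟩, ?_⟩
  · rintro ⟨y, hy⟩
    obtain ⟨k, rfl⟩ := Subgroup.mem_zpowers_iff.1 hy
    have h1 : (Subgroup.inclusion hle ⟨(x : Ω) ^ k, hy⟩ : ↥Q) = x ^ k := by
      apply Subtype.ext
      simp
    show ((α (Subgroup.inclusion hle ⟨(x : Ω) ^ k, hy⟩) : ↥Q) : Ω) ∈ _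
    rw [h1, map_zpow]
    push_cast
    exact Subgroup.zpow_mem _ (Subgroup.mem_zpowers _) k
  · show ((α (Subgroup.inclusion hle ⟨(x : Ω), _⟩) : ↥Q) : Ω) = _
    congr 2


theorem coe_small {Q : Subgroup Ω} {p : ℕ} {d : ↥Q} (h : d ^ p = 1 ∨ (p = 2 ∧ d ^ 4 = 1)) :
    (d : Ω) ^ p = 1 ∨ (p = 2 ∧ (d : Ω) ^ 4 = 1) := by
  rcases h with h | ⟨h2, h⟩
  · left
    have := congrArg Subtype.val h
    simpa using this
  · right
    refine ⟨h2, ?_⟩
    have := congrArg Subtype.val h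
    simpa using this

/-- **Inner version.** If every map of `F` between cyclic subgroups of order `p` or `4` of the hyperfocal
subgroup is conjugation by an element of `S`, then `Aut_F(Q) = Aut_S(Q)` for every fully automized `Q`. -/
theorem autGroup_le_autInducedBy_of_inner [Finite S] {p : ℕ} [Fact p.Prime] (hS : IsPGroup p S)
    (F : FusionSystem S)
    (h : ∀ A B : Subgroup Ω, A ≤ (F.hyperfocalSubgroup p) → B ≤ (F.hyperfocalSubgroup p) →
      IsCyclic ↥A → (Nat.card ↥A = p ∨ Nat.card ↥A = 4) → IsCyclic ↥B →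
      (Nat.card ↥B = p ∨ Nat.card ↥B = 4) → F.homSet A B ⊆ (Cfsg.innerFusionSystem S).Hom A)
    {Q : Subgroup Ω} (hQa : F.IsFullyAutomized p Q) : F.autGroup Q ≤ autInducedBy S Q := by
  obtain ⟨D, hDmem, hDhyp, hDexp, hmain⟩ := mem_autInducedBy_of_stab hS F hQa
  have hQS : Q ≤ S := hQa.1
  have hstab : ∀ β ∈ F.autGroup Q, Stab1 S D β := by
    intro β hβ
    apply stab1_of_pointwise_conj
    intro x hxD
    by_cases hx1 : x = 1
    · refine ⟨1, S.one_mem, ?_⟩
      rw [hx1, map_one]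
      simp
    have hx1' : (x : Ω) ≠ 1 := fun h0 => hx1 (Subtype.ext h0)
    have hβx1 : ((β x : ↥Q) : Ω) ≠ 1 := by
      intro h0
      apply hx1
      have : β x = 1 := Subtype.ext h0
      exact (map_eq_one_iff β β.injective).1 this
    have hβxD : β x ∈ D := hDmem β hβ x hxD
    obtain ⟨hAc, hAcard⟩ := small_cyclic (p := p) hx1' (coe_small (hDexp x hxD))
    obtain ⟨hBc, hBcard⟩ := small_cyclic (p := p) hβx1 (coe_small (hDexp _ hβxD))
    obtain ⟨ψ, hψ, hψx⟩ := exists_restrict_zpowers F hQS hβ x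
    have hA : Subgroup.zpowers (x : Ω) ≤ F.hyperfocalSubgroup p :=
      (Subgroup.zpowers_le).2 (hDhyp x hxD)
    have hB : Subgroup.zpowers ((β x : ↥Q) : Ω) ≤ F.hyperfocalSubgroup p :=
      (Subgroup.zpowers_le).2 (hDhyp _ hβxD)
    obtain ⟨-, g, hg, hψg⟩ := h _ _ hA hB hAc hAcard hBc hBcard hψ
    refine ⟨g, hg, ?_⟩
    rw [← hψx, hψg]
  intro α hα
  exact hmain α hα (hstab α hα) (hstab _ ((F.autGroup Q).inv_mem hα))


/-- A map defined on a subgroup containing `S` that carries `S` onto `S` preserves the lower central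
series of `S`. -/
theorem apply_mem_lcs {T : Subgroup Ω} (hST : S ≤ T) (χ : ↥T →* Ω)
    (himg : (S.subgroupOf T).map χ = S) (i : ℕ) (y : ↥T)
    (hy : (y : Ω) ∈ S.lowerCentralSeries i) : χ y ∈ S.lowerCentralSeries i := by
  have h1 : ((S.subgroupOf T).lowerCentralSeries i).map T.subtype = S.lowerCentralSeries i := by
    rw [Subgroup.map_lowerCentralSeries, Subgroup.subgroupOf_map_subtype, inf_eq_left.2 hST]
  have h2 : ((S.subgroupOf T).lowerCentralSeries i).map χ = S.lowerCentralSeries i := by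
    rw [Subgroup.map_lowerCentralSeries, himg]
  rw [← h1] at hy
  obtain ⟨y', hy', hyy'⟩ := hy
  have : y' = y := Subtype.ext hyy'
  subst this
  rw [← h2]
  exact ⟨y', hy', rfl⟩

/-- **Normalizer version.** If every map of `F` between cyclic subgroups of order `p` or `4` of the
hyperfocal subgroup is a map of `N_F(S)`, then `Aut_S(Q)` is normal in `Aut_F(Q)` for every fully
automized `Q`. -/
theorem conj_mem_autInducedBy_of_normalizer [Finite S] {p : ℕ} [Fact p.Prime] (hS : IsPGroup p S)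
    (F : FusionSystem S)
    (h : ∀ A B : Subgroup Ω, A ≤ (F.hyperfocalSubgroup p) → B ≤ (F.hyperfocalSubgroup p) →
      IsCyclic ↥A → (Nat.card ↥A = p ∨ Nat.card ↥A = 4) → IsCyclic ↥B →
      (Nat.card ↥B = p ∨ Nat.card ↥B = 4) → F.homSet A B ⊆ F.normalizerHom S A)
    {Q : Subgroup Ω} (hQa : F.IsFullyAutomized p Q) :
    ∀ α ∈ F.autGroup Q, ∀ τ ∈ autInducedBy S Q, α * τ * α⁻¹ ∈ autInducedBy S Q := by
  obtain ⟨D, hDmem, hDhyp, hDexp, hmain⟩ := mem_autInducedBy_of_stab hS F hQa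
  have hQS : Q ≤ S := hQa.1
  have hinv : ∀ β ∈ F.autGroup Q, ∀ (i : ℕ) (x : ↥Q), x ∈ D → (x : Ω) ∈ S.lowerCentralSeries i →
      ((β x : ↥Q) : Ω) ∈ S.lowerCentralSeries i := by
    intro β hβ i x hxD hxi
    by_cases hx1 : x = 1
    · rw [hx1, map_one]
      exact Subgroup.one_mem _
    have hx1' : (x : Ω) ≠ 1 := fun h0 => hx1 (Subtype.ext h0)
    have hβx1 : ((β x : ↥Q) : Ω) ≠ 1 := by
      intro h0
      apply hx1
      have : β x = 1 := Subtype.ext h0
      exact (map_eq_one_iff β β.injective).1 this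
    have hβxD : β x ∈ D := hDmem β hβ x hxD
    obtain ⟨hAc, hAcard⟩ := small_cyclic (p := p) hx1' (coe_small (hDexp x hxD))
    obtain ⟨hBc, hBcard⟩ := small_cyclic (p := p) hβx1 (coe_small (hDexp _ hβxD))
    obtain ⟨ψ, hψ, hψx⟩ := exists_restrict_zpowers F hQS hβ x
    have hA : Subgroup.zpowers (x : Ω) ≤ F.hyperfocalSubgroup p :=
      (Subgroup.zpowers_le).2 (hDhyp x hxD)
    have hB : Subgroup.zpowers ((β x : ↥Q) : Ω) ≤ F.hyperfocalSubgroup p :=
      (Subgroup.zpowers_le).2 (hDhyp _ hβxD)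
    obtain ⟨-, -, -, χ, -, hext, himg⟩ := h _ _ hA hB hAc hAcard hBc hBcard hψ
    rw [← hψx, ← hext]
    exact apply_mem_lcs le_sup_right χ himg i _ hxi
  intro α hα τ hτ
  have hα' : α⁻¹ ∈ F.autGroup Q := (F.autGroup Q).inv_mem hα
  have hτF : τ ∈ F.autGroup Q := Helper85_Fusion.autInducedBy_le_autGroup F hQS hτ
  have hτ' : τ⁻¹ ∈ autInducedBy S Q := Subgroup.inv_mem _ hτ
  have hτ'F : τ⁻¹ ∈ F.autGroup Q := (F.autGroup Q).inv_mem hτF
  have hβ : α * τ * α⁻¹ ∈ F.autGroup Q :=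
    (F.autGroup Q).mul_mem ((F.autGroup Q).mul_mem hα hτF) hα'
  have hα'' : ∀ (i : ℕ) (x : ↥Q), x ∈ D → (x : Ω) ∈ S.lowerCentralSeries i →
      ((α⁻¹ x : ↥Q) : Ω) ∈ S.lowerCentralSeries i := hinv _ hα'
  apply hmain _ hβ
  · exact stab1_conj (hDmem _ hα') (hDmem _ hτF) (hinv α hα) hα''
      (stab1_of_conj D ((Helper85_Fusion.mem_autInducedBy_iff S Q _).1 hτ))
  · have : (α * τ * α⁻¹)⁻¹ = α * τ⁻¹ * α⁻¹ := by group
    rw [this]
    exact stab1_conj (hDmem _ hα') (hDmem _ hτ'F) (hinv α hα) hα''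
      (stab1_of_conj D ((Helper85_Fusion.mem_autInducedBy_iff S Q _).1 hτ'))

end Cfsg.Agent.Lib.Helper88_CyclicHyp
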