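import Mathlib

/-!
Automorphisms of odd order of an abelian 2-group with pairwise distinct invariants are trivial (helper88).
-/

set_option autoImplicit false

namespace Cfsg.Agent.Lib.Helper88_DistinctInvariants

section abstract

variable {N : Type*} [AddCommGroup N]

theorem iterate_apply_add (α : N ≃+ N) (x δ : N) (h1 : α x = x + δ) (h2 : α δ = δ) (j : ℕ) :
    (⇑α)^[j] x = x + j • δ := by
  induction j with
  | zero => simp
  | succ j ih =>
    rw [Function.iterate_succ_apply', ih, map_add, map_nsmul, h1, h2, succ_nsmul]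
    abel

/-- The basic trick: an automorphism of odd order that moves `x` by a fixed `2`-torsion element fixes `x`. -/
theorem eq_zero_of_odd (α : N ≃+ N) (m : ℕ) (hm : Odd m) (hα : ∀ x, (⇑α)^[m] x = x) (x δ : N)
    (h1 : α x = x + δ) (h2 : α δ = δ) (h3 : 2 • δ = 0) : δ = 0 := by
  have h4 := iterate_apply_add α x δ h1 h2 m
  rw [hα] at h4
  obtain ⟨k, rfl⟩ := hm
  have h5 : (2 * k + 1) • δ = δ := by
    rw [add_nsmul, mul_nsmul, h3, nsmul_zero, zero_add, one_nsmul]
  rw [h5] at h4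
  exact (add_eq_left.1 h4.symm)

theorem fixed_of_odd (α : N ≃+ N) (m : ℕ) (hm : Odd m) (hα : ∀ x, (⇑α)^[m] x = x) (x : N)
    (h2 : α (α x - x) = α x - x) (h3 : 2 • (α x - x) = 0) : α x = x := by
  have h := eq_zero_of_odd α m hm hα x (α x - x) (by abel) h2 h3
  exact sub_eq_zero.1 h

/-- An automorphism of odd order that is trivial on the `2`-torsion is trivial on all `2`-power torsion. -/
theorem fixed_of_fixed_two_torsion (α : N ≃+ N) (m : ℕ) (hm : Odd m) (hα : ∀ x, (⇑α)^[m] x = x)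
    (h : ∀ v : N, 2 • v = 0 → α v = v) (k : ℕ) : ∀ x : N, 2 ^ k • x = 0 → α x = x := by
  induction k with
  | zero =>
    intro x hx
    rw [pow_zero, one_nsmul] at hx
    rw [hx, map_zero]
  | succ k ih =>
    intro x hx
    have h1 : α (2 • x) = 2 • x := by
      apply ih
      rw [← mul_nsmul', ← pow_succ]
      exact hx
    have h2 : 2 • (α x - x) = 0 := by
      rw [nsmul_sub, ← map_nsmul, h1, sub_self]
    exact fixed_of_odd α m hm hα x (h _ h2) h2

end abstract

section concrete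

variable {n : ℕ} (a : Fin n → ℕ)

/-- coordinates of `2^k • y` vanish where `a i ≤ k` -/
theorem smul_apply_eq_zero (k : ℕ) (y : (i : Fin n) → ZMod (2 ^ a i)) (i : Fin n) (hi : a i ≤ k) :
    (2 ^ k • y) i = 0 := by
  rw [Pi.smul_apply, nsmul_eq_mul]
  have : ((2 ^ k : ℕ) : ZMod (2 ^ a i)) = 0 := by
    rw [ZMod.natCast_eq_zero_iff]
    exact pow_dvd_pow 2 hi
  rw [this, zero_mul]

theorem dvd_val_of_two_nsmul (c : ℕ) (hc : 1 ≤ c) (x : ZMod (2 ^ c)) (hx : 2 • x = 0) :
    2 ^ (c - 1) ∣ x.val := by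
  have h1 : ((2 * x.val : ℕ) : ZMod (2 ^ c)) = 0 := by
    rw [Nat.cast_mul, ZMod.natCast_zmod_val, Nat.cast_ofNat, ← hx, nsmul_eq_mul, Nat.cast_ofNat]
  rw [ZMod.natCast_eq_zero_iff] at h1
  have h2 : 2 ^ c = 2 * 2 ^ (c - 1) := by
    rw [← pow_succ', Nat.sub_add_cancel hc]
  have h1' : 2 * 2 ^ (c - 1) ∣ 2 * x.val := by
    rw [← h2]
    exact h1
  exact (Nat.mul_dvd_mul_iff_left (by norm_num)).1 h1'

/-- nonzero `2`-torsion elements of `ZMod (2^c)` coincide -/
theorem two_torsion_unique (c : ℕ) (hc : 1 ≤ c) (x y : ZMod (2 ^ c)) (hx : 2 • x = 0) (hy : 2 • y = 0)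
    (hx0 : x ≠ 0) (hy0 : y ≠ 0) : x = y := by
  have key : ∀ z : ZMod (2 ^ c), 2 • z = 0 → z ≠ 0 → z.val = 2 ^ (c - 1) := by
    intro z hz hz0
    obtain ⟨t, ht⟩ := dvd_val_of_two_nsmul c hc z hz
    have hlt : z.val < 2 ^ c := ZMod.val_lt z
    have h2 : 2 ^ c = 2 * 2 ^ (c - 1) := by
      rw [← pow_succ', Nat.sub_add_cancel hc]
    have hpos : 0 < 2 ^ (c - 1) := by positivity
    have hne : z.val ≠ 0 := by
      intro h0
      exact hz0 ((ZMod.val_eq_zero z).1 h0)
    have ht1 : t = 1 := by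
      rcases Nat.lt_or_ge t 2 with h | h
      · interval_cases t
        · rw [mul_zero] at ht; exact absurd ht hne
        · rfl
      · exfalso
        have : 2 ^ (c - 1) * 2 ≤ 2 ^ (c - 1) * t := Nat.mul_le_mul_left _ h
        omega
    rw [ht, ht1, mul_one]
  apply ZMod.val_injective
  rw [key x hx hx0, key y hy hy0]

/-- the filtration of the `2`-torsion by `2`-divisibility, described by coordinates -/
theorem mem_filtration_iff (ha1 : ∀ i, 1 ≤ a i) (k : ℕ) (v : (i : Fin n) → ZMod (2 ^ a i)) :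
    (2 • v = 0 ∧ ∃ y : (i : Fin n) → ZMod (2 ^ a i), v = 2 ^ k • y) ↔
      (2 • v = 0 ∧ ∀ i, a i ≤ k → v i = 0) := by
  constructor
  · rintro ⟨h2, y, rfl⟩
    exact ⟨h2, fun i hi => smul_apply_eq_zero a k y i hi⟩
  · rintro ⟨h2, h⟩
    refine ⟨h2, ?_⟩
    have hdvd : ∀ i, 2 ^ (a i - 1) ∣ (v i).val := fun i =>
      dvd_val_of_two_nsmul (a i) (ha1 i) (v i) (by
        have := congrFun h2 i
        simpa using this)
    choose t ht using hdvd
    refine ⟨fun i => if a i ≤ k then 0 else ((2 ^ (a i - 1 - k) * t i : ℕ) : ZMod (2 ^ a i)), ?_⟩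
    funext i
    rw [Pi.smul_apply]
    by_cases hi : a i ≤ k
    · rw [if_pos hi, h i hi, nsmul_zero]
    · rw [if_neg hi, nsmul_eq_mul, ← Nat.cast_mul, ← mul_assoc, ← pow_add]
      have h3 : k + (a i - 1 - k) = a i - 1 := by omega
      rw [h3, ← ht i, ZMod.natCast_zmod_val]

end concrete


section main

variable {n : ℕ} (a : Fin n → ℕ)

/-- The `k`-th term of the filtration, in coordinates. -/
def Filt (k : ℕ) (v : (i : Fin n) → ZMod (2 ^ a i)) : Prop := 2 • v = 0 ∧ ∀ i, a i ≤ k → v i = 0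

variable {a}

theorem filt_map (ha1 : ∀ i, 1 ≤ a i) (β : ((i : Fin n) → ZMod (2 ^ a i)) ≃+ ((i : Fin n) → ZMod (2 ^ a i)))
    (k : ℕ) (v : (i : Fin n) → ZMod (2 ^ a i)) (hv : Filt a k v) : Filt a k (β v) := by
  obtain ⟨h2, y, hy⟩ := (mem_filtration_iff a ha1 k v).2 hv
  apply (mem_filtration_iff a ha1 k (β v)).1
  exact ⟨by rw [← map_nsmul, h2, map_zero], β y, by rw [hy, map_nsmul]⟩

theorem filt_succ_of_apply_eq_zero (ha : Function.Injective a) (k : ℕ)
    (v : (i : Fin n) → ZMod (2 ^ a i)) (hv : Filt a k v) (i₀ : Fin n) (hi₀ : a i₀ = k + 1)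
    (h0 : v i₀ = 0) : Filt a (k + 1) v := by
  refine ⟨hv.1, fun i hi => ?_⟩
  rcases Nat.lt_or_ge (a i) (k + 1) with h | h
  · exact hv.2 i (by omega)
  · have h3 : a i = a i₀ := by omega
    rw [ha h3]
    exact h0

theorem filt_sub (ha : Function.Injective a) (ha1 : ∀ i, 1 ≤ a i)
    (β : ((i : Fin n) → ZMod (2 ^ a i)) ≃+ ((i : Fin n) → ZMod (2 ^ a i)))
    (k : ℕ) (v : (i : Fin n) → ZMod (2 ^ a i)) (hv : Filt a k v) : Filt a (k + 1) (β v - v) := by
  have hβv := filt_map ha1 β k v hv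
  refine ⟨by rw [nsmul_sub, hβv.1, hv.1, sub_zero], fun i hi => ?_⟩
  rw [Pi.sub_apply, sub_eq_zero]
  rcases Nat.lt_or_ge (a i) (k + 1) with h | h
  · rw [hβv.2 i (by omega), hv.2 i (by omega)]
  · have hi' : a i = k + 1 := by omega
    by_cases h0 : v i = 0
    · have h4 := filt_succ_of_apply_eq_zero ha k v hv i hi' h0
      have h5 := filt_map ha1 β (k + 1) v h4
      rw [h5.2 i hi, h0]
    · have h1 : (β v) i ≠ 0 := by
        intro h1
        have h4 := filt_succ_of_apply_eq_zero ha k (β v) hβv i hi' h1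
        have h5 := filt_map ha1 β.symm (k + 1) (β v) h4
        rw [AddEquiv.symm_apply_apply] at h5
        exact h0 (h5.2 i hi)
      have e1 : 2 • (β v) i = 0 := by
        have := congrFun hβv.1 i
        simpa using this
      have e2 : 2 • v i = 0 := by
        have := congrFun hv.1 i
        simpa using this
      exact two_torsion_unique (a i) (ha1 i) _ _ e1 e2 h1 h0

theorem le_sum (i : Fin n) : a i ≤ ∑ j, a j :=
  Finset.single_le_sum (f := a) (fun _ _ => Nat.zero_le _) (Finset.mem_univ i)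

theorem fixed_filt (ha : Function.Injective a) (ha1 : ∀ i, 1 ≤ a i)
    (α : ((i : Fin n) → ZMod (2 ^ a i)) ≃+ ((i : Fin n) → ZMod (2 ^ a i))) (m : ℕ) (hm : Odd m)
    (hα : ∀ x, (⇑α)^[m] x = x) :
    ∀ j k : ℕ, k + j = ∑ i, a i → ∀ v, Filt a k v → α v = v := by
  intro j
  induction j with
  | zero =>
    intro k hk v hv
    have hv0 : v = 0 := by
      funext i
      have h1 : a i ≤ ∑ j, a j := le_sum i
      exact hv.2 i (by omega)
    rw [hv0, map_zero]
  | succ j ih =>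
    intro k hk v hv
    have hδ := filt_sub ha ha1 α k v hv
    have h2 : α (α v - v) = α v - v := ih (k + 1) (by omega) _ hδ
    exact fixed_of_odd α m hm hα v h2 hδ.1

/-- An automorphism of odd order of `∏ ZMod (2 ^ a i)` with pairwise distinct `a i ≥ 1` is trivial. -/
theorem aut_trivial (ha : Function.Injective a) (ha1 : ∀ i, 1 ≤ a i)
    (α : ((i : Fin n) → ZMod (2 ^ a i)) ≃+ ((i : Fin n) → ZMod (2 ^ a i))) (m : ℕ) (hm : Odd m)
    (hα : ∀ x, (⇑α)^[m] x = x) : ∀ x, α x = x := by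
  have h2 : ∀ v : (i : Fin n) → ZMod (2 ^ a i), 2 • v = 0 → α v = v := fun v hv =>
    fixed_filt ha ha1 α m hm hα (∑ i, a i) 0 (by omega) v
      ⟨hv, fun i hi => absurd (ha1 i) (by omega)⟩
  intro x
  apply fixed_of_fixed_two_torsion α m hm hα h2 (∑ i, a i) x
  funext i
  exact smul_apply_eq_zero a _ x i (le_sum i)

end main

end Cfsg.Agent.Lib.Helper88_DistinctInvariants
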