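import Mathlib

/-!
Conjugation by an element of `p`-power order on a cyclic subgroup of order `p` or `4` (helper88).
-/

set_option autoImplicit false

namespace Cfsg.Agent.Lib.Helper88_PowerAut

variable {G : Type*} [Group G]

theorem conj_zpow (s x : G) (k : ℤ) : s * x ^ k * s⁻¹ = (s * x * s⁻¹) ^ k := by
  have := map_zpow (MulAut.conj s) x k
  simp only [MulAut.conj_apply] at this
  exact this

/-- If `s x s⁻¹ = x ^ k` then `s ^ j x s ^ (-j) = x ^ (k ^ j)`. -/
theorem pow_conj_eq {s x : G} {k : ℤ} (h : s * x * s⁻¹ = x ^ k) (j : ℕ) :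
    s ^ j * x * (s ^ j)⁻¹ = x ^ (k ^ j) := by
  induction j with
  | zero => simp
  | succ j ih =>
    calc s ^ (j + 1) * x * (s ^ (j + 1))⁻¹ = s * (s ^ j * x * (s ^ j)⁻¹) * s⁻¹ := by
          rw [pow_succ']
          group
      _ = s * x ^ (k ^ j) * s⁻¹ := by rw [ih]
      _ = (s * x * s⁻¹) ^ (k ^ j) := conj_zpow s x _
      _ = x ^ (k ^ (j + 1)) := by rw [h, ← zpow_mul, pow_succ']

/-- An element `s` of `p`-power order that normalizes the group generated by an element `x` with `x ^ p = 1`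
centralizes `x`. -/
theorem conj_eq_of_mem_zpowers {p : ℕ} [Fact p.Prime] {s x : G} {m : ℕ} (hs : s ^ (p ^ m) = 1) (hx : x ^ p = 1)
    (h : s * x * s⁻¹ ∈ Subgroup.zpowers x) : s * x * s⁻¹ = x := by
  by_cases hx1 : x = 1
  · subst hx1
    simp
  obtain ⟨k, hk⟩ := Subgroup.mem_zpowers_iff.1 h
  have hord : orderOf x = p := orderOf_eq_prime hx hx1
  have h1 := pow_conj_eq hk.symm (p ^ m)
  rw [hs] at h1
  simp only [one_mul, inv_one, mul_one] at h1
  -- x = x ^ (k ^ (p ^ m))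
  have h2 : x ^ (k ^ (p ^ m) - 1) = 1 := by
    rw [zpow_sub, zpow_one, ← h1, mul_inv_cancel]
  have h3 : (p : ℤ) ∣ k ^ (p ^ m) - 1 := by
    have := orderOf_dvd_iff_zpow_eq_one.2 h2
    rwa [hord] at this
  have h4 : ((k ^ (p ^ m) - 1 : ℤ) : ZMod p) = 0 := (ZMod.intCast_zmod_eq_zero_iff_dvd _ p).2 h3
  have h5 : (k : ZMod p) = 1 := by
    have : ((k : ZMod p)) ^ (p ^ m) - 1 = 0 := by
      have := h4
      push_cast at this
      exact this
    rw [ZMod.pow_card_pow] at this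
    exact sub_eq_zero.1 this
  have h6 : (p : ℤ) ∣ k - 1 := by
    rw [← ZMod.intCast_zmod_eq_zero_iff_dvd]
    push_cast
    rw [h5, sub_self]
  have h7 : x ^ (k - 1) = 1 := by
    apply orderOf_dvd_iff_zpow_eq_one.1
    rw [hord]
    exact h6
  rw [← hk]
  have : x ^ k = x ^ (k - 1) * x := by rw [← zpow_add_one, sub_add_cancel]
  rw [this, h7, one_mul]

/-- A conjugate of `x` lying in the group generated by `x`, where `x ^ 4 = 1`, is `x` or `x⁻¹`. -/
theorem conj_eq_or_eq_inv {s x : G} (hx : x ^ 4 = 1) (h : s * x * s⁻¹ ∈ Subgroup.zpowers x) :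
    s * x * s⁻¹ = x ∨ s * x * s⁻¹ = x⁻¹ := by
  obtain ⟨k, hk⟩ := Subgroup.mem_zpowers_iff.1 h
  have hx4 : x ^ (4 : ℤ) = 1 := by
    have : x ^ (4 : ℤ) = x ^ (4 : ℕ) := by norm_cast
    rw [this, hx]
  have hkr : x ^ k = x ^ (k % 4) := by
    conv_lhs => rw [← Int.mul_ediv_add_emod k 4]
    rw [zpow_add, zpow_mul, hx4, one_zpow, one_mul]
  have hconj1 : s * x * s⁻¹ = 1 → x = 1 := by
    intro h1
    have : x = s⁻¹ * (s * x * s⁻¹) * s := by group
    rw [this, h1]
    group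
  have h0 : 0 ≤ k % 4 := Int.emod_nonneg k (by norm_num)
  have h4 : k % 4 < 4 := Int.emod_lt_of_pos k (by norm_num)
  rw [hkr] at hk
  generalize k % 4 = r at hk h0 h4
  interval_cases r
  · left
    rw [zpow_zero] at hk
    have hx1 := hconj1 hk.symm
    rw [hx1]
    simp
  · left
    rw [zpow_one] at hk
    exact hk.symm
  · left
    -- y = x ^ 2, so y ^ 2 = 1, so x ^ 2 = 1, so y = 1, so x = 1
    have hy2 : (s * x * s⁻¹) ^ 2 = 1 := by
      rw [← hk]
      have : (x ^ (2 : ℤ)) ^ 2 = x ^ (4 : ℕ) := by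
        have h22 : x ^ (2 : ℤ) = x ^ (2 : ℕ) := by norm_cast
        rw [h22, ← pow_mul]
      rw [this, hx]
    have hx2 : x ^ 2 = 1 := by
      have h1 : (s * x * s⁻¹) ^ 2 = s * x ^ 2 * s⁻¹ := by
        have := (conj_zpow s x 2).symm
        norm_cast at this
      rw [h1] at hy2
      have : x ^ 2 = s⁻¹ * (s * x ^ 2 * s⁻¹) * s := by group
      rw [this, hy2]
      group
    have hy1 : s * x * s⁻¹ = 1 := by
      rw [← hk]
      have h22 : x ^ (2 : ℤ) = x ^ (2 : ℕ) := by norm_cast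
      rw [h22, hx2]
    have hx1 := hconj1 hy1
    rw [hx1]
    simp
  · right
    rw [← hk]
    have : x ^ (3 : ℤ) * x = 1 := by
      have h33 : x ^ (3 : ℤ) = x ^ (3 : ℕ) := by norm_cast
      rw [h33, ← pow_succ]
      exact hx
    exact eq_inv_of_mul_eq_one_left this

end Cfsg.Agent.Lib.Helper88_PowerAut
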