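import Cfsg.Agent.Lib.Helper88_Omega
import Cfsg.Agent.Lib.Helper88_PowerAut

/-!
Fusion systems (helper88): automorphisms of a `p`-subgroup `P` that centralize the elements of order `p` of `W ∩ P`
and act by `±1` on its elements of order `4` when `p = 2` (`omegaStab`); those of order prime to `p` that act trivially
on `P/(W ∩ P)` are trivial.
-/

set_option autoImplicit false

namespace Cfsg.Agent.Lib.Helper88_FocalAut

open Cfsg Cfsg.FusionSystem Cfsg.Agent.Lib.Helper87_Alperin Cfsg.Agent.Lib.Helper87_AutSystem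
  Cfsg.Agent.Lib.Helper88_Omega Cfsg.Agent.Lib.Helper88_PowerAut

variable {Ω : Type*} [Group Ω] {S : Subgroup Ω}

/-- `x⁻¹ α(x)` lies in the focal subgroup, for `α ∈ Aut_F(P)`. -/
theorem inv_mul_apply_mem_focal (F : FusionSystem S) {P : Subgroup Ω} (hPS : P ≤ S) {b : MulAut P}
    (hb : b ∈ F.autGroup P) (x : P) : (x : Ω)⁻¹ * ((b x : P) : Ω) ∈ F.focalSubgroup :=
  Subgroup.subset_closure ⟨P, P.subtype.comp b.toMonoidHom, x, (mem_autGroup_iff' F hPS b).1 hb, rfl⟩

theorem apply_mem_focal (F : FusionSystem S) {P : Subgroup Ω} (hPS : P ≤ S) {b : MulAut P}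
    (hb : b ∈ F.autGroup P) (x : P) (hx : (x : Ω) ∈ F.focalSubgroup) :
    ((b x : P) : Ω) ∈ F.focalSubgroup := by
  have h1 := F.focalSubgroup.mul_mem hx (inv_mul_apply_mem_focal F hPS hb x)
  rwa [mul_inv_cancel_left] at h1

theorem inv_apply_eq_of_apply_eq {X : Type*} [Group X] (a : MulAut X) {x y : X} (h : a y = x) : a⁻¹ x = y := by
  rw [← h, MulAut.inv_apply_self]

/-- The automorphisms of `P` fixing every `x ∈ W ∩ P` with `x ^ p = 1` and, when `p = 2`, sending every `x ∈ W ∩ P`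
with `x ^ 4 = 1` to `x` or `x⁻¹`. -/
def omegaStab (p : ℕ) (W P : Subgroup Ω) : Subgroup (MulAut P) where
  carrier := {b | ∀ x : P, (x : Ω) ∈ W → (x ^ p = 1 → b x = x) ∧ (p = 2 → x ^ 4 = 1 → (b x = x ∨ b x = x⁻¹))}
  one_mem' := fun _ _ => ⟨fun _ => rfl, fun _ _ => Or.inl rfl⟩
  mul_mem' := by
    intro a b ha hb x hx
    refine ⟨fun hxp => ?_, fun h2 hx4 => ?_⟩
    · rw [MulAut.mul_apply, (hb x hx).1 hxp, (ha x hx).1 hxp]
    · rw [MulAut.mul_apply]
      rcases (hb x hx).2 h2 hx4 with h | h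
      · rw [h]
        exact (ha x hx).2 h2 hx4
      · rw [h, map_inv]
        rcases (ha x hx).2 h2 hx4 with h' | h'
        · right
          rw [h']
        · left
          rw [h', inv_inv]
  inv_mem' := by
    intro a ha x hx
    refine ⟨fun hxp => ?_, fun h2 hx4 => ?_⟩
    · exact inv_apply_eq_of_apply_eq a ((ha x hx).1 hxp)
    · rcases (ha x hx).2 h2 hx4 with h | h
      · left
        exact inv_apply_eq_of_apply_eq a h
      · right
        apply inv_apply_eq_of_apply_eq a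
        rw [map_inv, h, inv_inv]

theorem mem_omegaStab {p : ℕ} {W P : Subgroup Ω} {b : MulAut P} :
    b ∈ omegaStab p W P ↔ ∀ x : P, (x : Ω) ∈ W →
      (x ^ p = 1 → b x = x) ∧ (p = 2 → x ^ 4 = 1 → (b x = x ∨ b x = x⁻¹)) := Iff.rfl

/-- `omegaStab` is normalized by the automorphisms preserving `W`. -/
theorem conj_mem_omegaStab {p : ℕ} {W P : Subgroup Ω} {a b : MulAut P}
    (ha : ∀ x : P, (x : Ω) ∈ W → (((a⁻¹ : MulAut P) x : P) : Ω) ∈ W) (hb : b ∈ omegaStab p W P) :
    a * b * a⁻¹ ∈ omegaStab p W P := by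
  intro x hx
  have hy := ha x hx
  refine ⟨fun hxp => ?_, fun h2 hx4 => ?_⟩
  · have hyp : ((a⁻¹ : MulAut P) x) ^ p = 1 := by rw [← map_pow, hxp, map_one]
    rw [MulAut.mul_apply, MulAut.mul_apply, (hb _ hy).1 hyp, MulAut.apply_inv_self]
  · have hy4 : ((a⁻¹ : MulAut P) x) ^ 4 = 1 := by rw [← map_pow, hx4, map_one]
    rw [MulAut.mul_apply, MulAut.mul_apply]
    rcases (hb _ hy).2 h2 hy4 with h | h
    · left
      rw [h, MulAut.apply_inv_self]
    · right
      rw [h, map_inv, MulAut.apply_inv_self]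

/-- Conjugation by an element `s` of `p`-power order that normalizes the cyclic subgroups of order `p` (and `4` when
`p = 2`) of `W ∩ P` lies in `omegaStab`. -/
theorem mem_omegaStab_of_conj {p : ℕ} [Fact p.Prime] {W P : Subgroup Ω} {t : MulAut P} {s : Ω} {m : ℕ}
    (hs : s ^ (p ^ m) = 1) (ht : ∀ x : P, ((t x : P) : Ω) = s * (x : Ω) * s⁻¹)
    (hnorm : ∀ x : P, (x : Ω) ∈ W → (x ^ p = 1 ∨ (p = 2 ∧ x ^ 4 = 1)) →
      s * (x : Ω) * s⁻¹ ∈ Subgroup.zpowers (x : Ω)) :
    t ∈ omegaStab p W P := by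
  intro x hx
  refine ⟨fun hxp => ?_, fun h2 hx4 => ?_⟩
  · apply Subtype.ext
    rw [ht]
    have hxp' : (x : Ω) ^ p = 1 := by
      have := congrArg Subtype.val hxp
      simpa using this
    exact conj_eq_of_mem_zpowers hs hxp' (hnorm x hx (Or.inl hxp))
  · have hx4' : (x : Ω) ^ 4 = 1 := by
      have := congrArg Subtype.val hx4
      simpa using this
    rcases conj_eq_or_eq_inv hx4' (hnorm x hx (Or.inr ⟨h2, hx4⟩)) with h | h
    · left
      apply Subtype.ext
      rw [ht, h]
    · right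
      apply Subtype.ext
      rw [ht, h]
      rfl

/-- An element of `omegaStab` of order prime to `p` that preserves `W` and acts trivially on `P/(W ∩ P)` is
trivial. -/
theorem eq_one_of_mem_omegaStab {p : ℕ} [Fact p.Prime] {W P : Subgroup Ω} [Finite P] (hP : IsPGroup p P)
    {b : MulAut P} (hb : b ∈ omegaStab p W P) (hbW : ∀ x : P, (x : Ω) ∈ W → ((b x : P) : Ω) ∈ W)
    (hcomm : ∀ x : P, (x : Ω)⁻¹ * ((b x : P) : Ω) ∈ W) (hcop : (orderOf b).Coprime p) : b = 1 := by
  -- `b` fixes the elements of order `p` or `4` of `W ∩ P`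
  have hfix : ∀ x : P, (x : Ω) ∈ W → (x ^ p = 1 ∨ (p = 2 ∧ x ^ 4 = 1)) → b x = x := by
    intro x hx hcase
    rcases hcase with hxp | ⟨h2, hx4⟩
    · exact (hb x hx).1 hxp
    · have hsq : (b * b) x = x := by
        rw [MulAut.mul_apply]
        rcases (hb x hx).2 h2 hx4 with h | h
        · rw [h, h]
        · rw [h, map_inv, h, inv_inv]
      have hpow : ∀ j : ℕ, ((b * b) ^ j) x = x := by
        intro j
        induction j with
        | zero => simp
        | succ j ih => rw [pow_succ, MulAut.mul_apply, hsq, ih]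
      have hodd : Odd (orderOf b) := by
        rw [h2] at hcop
        exact Nat.Coprime.odd_of_right hcop
      obtain ⟨j, hj⟩ := hodd
      have h1 : b = (b * b) ^ (j + 1) := by
        rw [← pow_two, ← pow_mul]
        have : 2 * (j + 1) = orderOf b + 1 := by omega
        rw [this, pow_succ, pow_orderOf_eq_one, one_mul]
      rw [h1]
      exact hpow (j + 1)
  -- `b` is trivial on `W ∩ P`
  have hDP : W ⊓ P ≤ P := inf_le_right
  have hfinD : Finite ↥(W ⊓ P) := Finite.of_injective (Subgroup.inclusion hDP) (Subgroup.inclusion_injective hDP)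
  have hinv : ∀ x : ↥(W ⊓ P), ((b ⟨x, hDP x.2⟩ : P) : Ω) ∈ W ⊓ P :=
    fun x => ⟨hbW _ x.2.1, (b _).2⟩
  have hres : restrictAut hDP b hinv = 1 := by
    apply aut_eq_one_of_fix_omega (hP.to_le hDP) _
      (Nat.Coprime.coprime_dvd_left (orderOf_restrictAut_dvd hDP b hinv) hcop)
    intro y hy
    apply Subtype.ext
    rw [restrictAut_apply]
    have h3 : ((⟨(y : Ω), hDP y.2⟩ : P) ^ p = 1 ∨ (p = 2 ∧ (⟨(y : Ω), hDP y.2⟩ : P) ^ 4 = 1)) := by
      rcases hy with hy | ⟨h2, hy⟩
      · left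
        apply Subtype.ext
        have := congrArg Subtype.val hy
        simpa using this
      · right
        refine ⟨h2, ?_⟩
        apply Subtype.ext
        have := congrArg Subtype.val hy
        simpa using this
    rw [hfix _ y.2.1 h3]
  have hfixD : ∀ x : P, (x : Ω) ∈ W → b x = x := by
    intro x hx
    have h1 := restrictAut_apply hDP b hinv ⟨x, hx, x.2⟩
    rw [hres] at h1
    apply Subtype.ext
    exact h1.symm
  -- conclude with the chain `P ≥ W ∩ P ≥ 1`
  let C : ℕ → Subgroup Ω := fun i => match i with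
    | 0 => P
    | 1 => W
    | _ => ⊥
  refine aut_eq_one_of_chain hP b hcop C 2 le_rfl rfl ?_
  intro i hi x hx
  interval_cases i
  · exact hcomm x
  · show (x : Ω)⁻¹ * ((b x : P) : Ω) ∈ (⊥ : Subgroup Ω)
    rw [hfixD x hx, inv_mul_cancel]
    exact Subgroup.one_mem _

end Cfsg.Agent.Lib.Helper88_FocalAut
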