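import Mathlib
import Cfsg.Prelude.Def_FusionSystem
import Cfsg.Agent.Lib.Helper88_FusFam

/-!
# The local criterion `FusLocalFam` modulo a central `p'`-subgroup (helper88)

`FusLocalFamMod S Z Q` is `FusLocalFam S Q` with the centraliser condition weakened to
`C_G(Q i) ≤ S Z`.  If `Z` is central, without nontrivial `p`-elements, and `S` is a `p`-group, then
`FusLocalFam` holds for the images in `G ⧸ Z` (`fusLocalFam_quotient`).
-/

set_option autoImplicit false

namespace Cfsg.Agent.Lib.Helper88_FusFam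

/-- `FusLocalFam` with the centraliser condition modulo `Z` -/
def FusLocalFamMod {G : Type*} [Group G] {ι : Type*} (S Z : Subgroup G) (Q : ι → Subgroup G) :
    Prop :=
  S ≠ ⊥ ∧
  (∀ T : Subgroup G, T ≤ S → T ≠ ⊥ →
    (∀ t ∈ T, ∀ g : G, g * t * g⁻¹ ∈ S → g * t * g⁻¹ ∈ T) → T = S) ∧
  (∀ i, Q i ≤ S) ∧
  (∀ i, ∀ n : G, (∀ s ∈ S, n * s * n⁻¹ ∈ S) → ∀ q ∈ Q i, n * q * n⁻¹ ∈ Q i) ∧
  (∀ i, ∀ c : G, (∀ q ∈ Q i, c * q = q * c) → ∃ s ∈ S, s⁻¹ * c ∈ Z) ∧
  (∀ n : G, (∀ s ∈ S, n * s * n⁻¹ ∈ S) →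
    n ∈ Subgroup.closure {x : G | (∀ s ∈ S, x * s * x⁻¹ ∈ S) ∧
      ∃ i, x ∈ Subgroup.closure {y : G | ∃ m : G, (∀ q ∈ Q i, m * q * m⁻¹ ∈ Q i) ∧
        ∃ s ∈ S, y = m * s * m⁻¹}})

theorem fusLocalFam_quotient {G : Type*} [Group G] (p : ℕ) [Fact p.Prime] {ι : Type*}
    (S Z : Subgroup G) [Z.Normal] (Q : ι → Subgroup G)
    (hZc : Z ≤ Subgroup.center G) (hZp : ∀ z ∈ Z, ∀ k : ℕ, z ^ (p ^ k) = 1 → z = 1)
    (hS : ∀ s ∈ S, ∃ k : ℕ, s ^ (p ^ k) = 1) (h : FusLocalFamMod S Z Q) :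
    FusLocalFam (S.map (QuotientGroup.mk' Z)) (fun i => (Q i).map (QuotientGroup.mk' Z)) := by
  obtain ⟨h1, h2, h3, h4, h5, h6⟩ := h
  set π := QuotientGroup.mk' Z with hπ
  have hπs : Function.Surjective π := QuotientGroup.mk'_surjective Z
  have hker : ∀ x : G, π x = 1 → x ∈ Z := by
    intro x hx
    have : x ∈ π.ker := hx
    rwa [QuotientGroup.ker_mk'] at this
  have hcomm : ∀ z ∈ Z, ∀ x : G, z * x = x * z := fun z hz x =>
    ((Subgroup.mem_center_iff.mp (hZc hz)) x).symm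
  -- a key cancellation: if `a = b * z` with `a, b` `p`-elements and `z ∈ Z`, then `z = 1`
  have hcancel : ∀ a b z : G, z ∈ Z → a = b * z → (∃ k : ℕ, a ^ (p ^ k) = 1) →
      (∃ k : ℕ, b ^ (p ^ k) = 1) → z = 1 := by
    intro a b z hz hab ⟨k, hk⟩ ⟨k', hk'⟩
    apply hZp z hz (k + k')
    have hc : Commute b z := (hcomm z hz b).symm
    have e1 : a ^ (p ^ (k + k')) = 1 := by rw [pow_add, pow_mul, hk, one_pow]
    have e2 : b ^ (p ^ (k + k')) = 1 := by rw [pow_add, mul_comm, pow_mul, hk', one_pow]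
    rw [hab, hc.mul_pow, e2, one_mul] at e1
    exact e1
  have hconjpow : ∀ (g s : G), (∃ k : ℕ, s ^ (p ^ k) = 1) → ∃ k : ℕ, (g * s * g⁻¹) ^ (p ^ k) = 1 := by
    rintro g s ⟨k, hk⟩
    exact ⟨k, by rw [conj_pow, hk, mul_one, mul_inv_cancel]⟩
  -- lifting normalisers
  have hliftN : ∀ n : G, (∀ s' ∈ S.map π, π n * s' * (π n)⁻¹ ∈ S.map π) →
      ∀ s ∈ S, n * s * n⁻¹ ∈ S := by
    intro n hn s hs
    obtain ⟨s', hs', e⟩ := hn (π s) (Subgroup.mem_map_of_mem π hs)
    have e' : π s' = π (n * s * n⁻¹) := by rw [e, map_mul, map_mul, map_inv]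
    have hz : s'⁻¹ * (n * s * n⁻¹) ∈ Z := by
      apply hker
      rw [map_mul, map_inv, e', inv_mul_cancel]
    have hz1 := hcancel (n * s * n⁻¹) s' _ hz (by group) (hconjpow n s (hS s hs)) (hS s' hs')
    have : n * s * n⁻¹ = s' := by
      have := congrArg (fun x => s' * x) hz1
      simpa using this
    rw [this]
    exact hs'
  refine ⟨?_, ?_, ?_, ?_, ?_, ?_⟩
  · -- nontrivial
    intro hb
    apply h1
    rw [eq_bot_iff]
    intro s hs
    have h7 : π s ∈ S.map π := Subgroup.mem_map_of_mem π hs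
    rw [hb, Subgroup.mem_bot] at h7
    obtain ⟨k, hk⟩ := hS s hs
    rw [Subgroup.mem_bot]
    exact hZp s (hker s h7) k hk
  · -- strongly closed
    intro T hT hT0 hcl
    have key : S ⊓ T.comap π = S := by
      apply h2
      · exact inf_le_left
      · intro hb
        apply hT0
        rw [eq_bot_iff]
        intro y hy
        obtain ⟨s, hs, rfl⟩ := hT hy
        have h7 : s ∈ S ⊓ T.comap π := ⟨hs, hy⟩
        rw [hb, Subgroup.mem_bot] at h7
        rw [h7, map_one]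
        exact Subgroup.one_mem _
      · rintro t ⟨htS, htT⟩ g hg
        refine ⟨hg, ?_⟩
        have htT' : π t ∈ T := htT
        show π (g * t * g⁻¹) ∈ T
        have h7 := hcl (π t) htT' (π g) (by
          rw [← map_inv, ← map_mul, ← map_mul]
          exact Subgroup.mem_map_of_mem π hg)
        rw [← map_inv, ← map_mul, ← map_mul] at h7
        exact h7
    apply le_antisymm hT
    rintro _ ⟨s, hs, rfl⟩
    have : s ∈ S ⊓ T.comap π := by rw [key]; exact hs
    exact this.2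
  · intro i
    exact Subgroup.map_mono (h3 i)
  · -- normaliser
    intro i n hn q hq
    obtain ⟨n, rfl⟩ := hπs n
    obtain ⟨q, hq, rfl⟩ := hq
    have := h4 i n (hliftN n hn) q hq
    rw [← map_inv, ← map_mul, ← map_mul]
    exact Subgroup.mem_map_of_mem π this
  · -- centraliser
    intro i c hc
    obtain ⟨c, rfl⟩ := hπs c
    have hcq : ∀ q ∈ Q i, c * q = q * c := by
      intro q hq
      have h7 := hc (π q) (Subgroup.mem_map_of_mem π hq)
      rw [← map_mul, ← map_mul] at h7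
      have hz : q⁻¹ * (c * q * c⁻¹) ∈ Z := by
        apply hker
        rw [map_mul, map_inv, map_mul, h7, map_mul, map_inv]
        group
      have hz1 := hcancel (c * q * c⁻¹) q _ hz (by group) (hconjpow c q (hS q (h3 i hq)))
        (hS q (h3 i hq))
      have e : c * q * c⁻¹ = q := by
        have := congrArg (fun x => q * x) hz1
        simpa using this
      calc c * q = c * q * c⁻¹ * c := by group
        _ = q * c := by rw [e]
    obtain ⟨s, hs, hsz⟩ := h5 i c hcq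
    refine ⟨s, hs, ?_⟩
    have : π (s⁻¹ * c) = 1 := by
      have : s⁻¹ * c ∈ π.ker := by rw [QuotientGroup.ker_mk']; exact hsz
      exact this
    rw [map_mul, map_inv] at this
    exact (inv_mul_eq_one.mp this)
  · -- generation
    intro n hn
    obtain ⟨n, rfl⟩ := hπs n
    have h7 := h6 n (hliftN n hn)
    have hin : ∀ i, Subgroup.closure {y : G | ∃ m : G, (∀ q ∈ Q i, m * q * m⁻¹ ∈ Q i) ∧
        ∃ s ∈ S, y = m * s * m⁻¹} ≤
        (Subgroup.closure {y : G ⧸ Z | ∃ m : G ⧸ Z, (∀ q ∈ (Q i).map π,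
          m * q * m⁻¹ ∈ (Q i).map π) ∧
          ∃ s ∈ S.map π, y = m * s * m⁻¹}).comap π := by
      intro i
      rw [Subgroup.closure_le]
      rintro x ⟨m, hm, s, hs, rfl⟩
      rw [SetLike.mem_coe, Subgroup.mem_comap]
      apply Subgroup.subset_closure
      refine ⟨π m, ?_, π s, Subgroup.mem_map_of_mem π hs, ?_⟩
      · rintro _ ⟨q, hq, rfl⟩
        rw [← map_inv, ← map_mul, ← map_mul]
        exact Subgroup.mem_map_of_mem π (hm q hq)
      · rw [map_mul, map_mul, map_inv]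
    have hle : Subgroup.closure {x : G | (∀ s ∈ S, x * s * x⁻¹ ∈ S) ∧
        ∃ i, x ∈ Subgroup.closure {y : G | ∃ m : G, (∀ q ∈ Q i, m * q * m⁻¹ ∈ Q i) ∧
          ∃ s ∈ S, y = m * s * m⁻¹}} ≤
        (Subgroup.closure {x : G ⧸ Z | (∀ s ∈ S.map π, x * s * x⁻¹ ∈ S.map π) ∧
          ∃ i, x ∈ Subgroup.closure {y : G ⧸ Z | ∃ m : G ⧸ Z, (∀ q ∈ (Q i).map π,
            m * q * m⁻¹ ∈ (Q i).map π) ∧
            ∃ s ∈ S.map π, y = m * s * m⁻¹}}).comap π := by
      rw [Subgroup.closure_le]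
      rintro x ⟨hxS, i, hxi⟩
      rw [SetLike.mem_coe, Subgroup.mem_comap]
      apply Subgroup.subset_closure
      refine ⟨?_, i, ?_⟩
      · rintro _ ⟨s, hs, rfl⟩
        rw [← map_inv, ← map_mul, ← map_mul]
        exact Subgroup.mem_map_of_mem π (hxS s hs)
      · have h8 := hin i hxi
        rwa [Subgroup.mem_comap] at h8
    have h8 := hle h7
    rwa [Subgroup.mem_comap] at h8

end Cfsg.Agent.Lib.Helper88_FusFam
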