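import Mathlib
import Cfsg.Agent.Lib.Helper32_OFDefs
import Cfsg.Agent.Lib.Helper32_OFRoot
import Cfsg.Agent.Lib.Helper31_OF_API
import Cfsg.Agent.Lib.Helper94_OrthVec
import Cfsg.Agent.Lib.Helper94_OrthNondeg
import Cfsg.Agent.Lib.Helper80_GrowDefs

set_option autoImplicit false
set_option linter.unusedSimpArgs false
set_option linter.unusedVariables false
set_option linter.unusedSectionVars false

/-!
GROW market (helper80 architect), package **GROW-BOREL**: an isometry fixing the singular vector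
`u` and acting trivially on `u^⊥ / <u>` is a Siegel element with centre `u`.  (helper88)
-/

namespace Cfsg.Agent.Lib.Helper88_GROW_BOREL

open Module Cfsg.Agent.Lib.Helper94_Symp Cfsg.Agent.Lib.Helper94_OrthSmall
  Cfsg.Agent.Lib.Helper94_OrthSiegel Cfsg.Agent.Lib.Helper94_OrthSiegel2
  Cfsg.Agent.Lib.Helper94_OrthNondeg Cfsg.Agent.Lib.Helper94_OrthVec
  Cfsg.Agent.Lib.Helper32_OFDefs Cfsg.Agent.Lib.Helper32_OFRoot
  Cfsg.Agent.Lib.Helper80_GrowDefs

variable {F V : Type*} [Field F] [AddCommGroup V] [Module F V]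
variable {Q : V → F} {B : LinearMap.BilinForm F V}
variable {ι : Type*} [Fintype ι] [DecidableEq ι] {c : F} {e : ι → V}
variable {L : Subgroup (V ≃ₗ[F] V)}

/-- A singular partner `u'` of the nonzero singular vector `u`: `Q u' = 0`, `B u u' = 1`. -/
lemma exists_sing_partner (hQs : ∀ (a : F) (v : V), Q (a • v) = a * a * Q v)
    (hQp : ∀ u v : V, Q (u + v) = Q u + Q v + B u v) (hN : B.Nondegenerate) {u : V}
    (hu : Q u = 0) (hu0 : u ≠ 0) : ∃ w', Q w' = 0 ∧ B u w' = 1 := by
  have hsymm := B_symm Q B hQp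
  have huu : B u u = 0 := by rw [B_self Q B hQs hQp, hu, mul_zero]
  obtain ⟨x0, hx0⟩ : ∃ x, B u x ≠ 0 := by
    by_contra hcon
    push Not at hcon
    exact hu0 (hN.1 u hcon)
  refine ⟨(B u x0)⁻¹ • x0 + (-((B u x0)⁻¹ * (B u x0)⁻¹ * Q x0)) • u, ?_, ?_⟩
  · rw [Q_add_smul Q B hQs hQp, hu, hQs, map_smul, LinearMap.smul_apply, hsymm x0 u]
    simp only [smul_eq_mul]
    field_simp
    ring
  · rw [map_add, map_smul, map_smul, huu, smul_zero, add_zero, smul_eq_mul,
      inv_mul_cancel₀ hx0]

/-- **GROW-BOREL** -/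
theorem borel (hQs : ∀ (a : F) (v : V), Q (a • v) = a * a * Q v)
    (hQp : ∀ u v : V, Q (u + v) = Q u + Q v + B u v) (hN : B.Nondegenerate) {u : V}
    (hu : Q u = 0) (hu0 : u ≠ 0) {g : V ≃ₗ[F] V} (hg : g ∈ oG Q) (hgu : g u = u)
    (hgv : ∀ v, B v u = 0 → ∃ a : F, g v = v + a • u) :
    ∃ y, B u y = 0 ∧ g = sieg Q B u y ∧ ∀ x, ∃ a : F, g x - x = B x u • y + a • u := by
  have hsymm := B_symm Q B hQp
  have huu : B u u = 0 := by rw [B_self Q B hQs hQp, hu, mul_zero]
  obtain ⟨u', hu', huu'⟩ := exists_sing_partner hQs hQp hN hu hu0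
  have hu'u : B u' u = 1 := by rw [hsymm, huu']
  have hu'u' : B u' u' = 0 := by rw [B_self Q B hQs hQp, hu', mul_zero]
  set d : V := g u' - u' with hd
  have hgu' : g u' = u' + d := by rw [hd]; abel
  -- d ⟂ u
  have hdu : B d u = 0 := by
    have h1 : B (g u') u = B u' u := by
      conv_lhs => rw [← hgu]
      exact oG_B Q B hQp hg u' u
    rw [hd, map_sub, LinearMap.sub_apply, h1, sub_self]
  have hud : B u d = 0 := by rw [hsymm, hdu]
  -- Q d + B u' d = 0
  have hQd : Q d + B u' d = 0 := by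
    have h1 : Q (g u') = 0 := by rw [hg, hu']
    rw [hgu', hQp, hu', zero_add] at h1
    exact h1
  -- the Siegel element
  have hS := sieg_apply Q B hQs hQp hu hud
  -- g = sieg u d on vectors orthogonal to u, u'
  have hperp : ∀ y, B y u = 0 → B y u' = 0 → g y = sieg Q B u d y := by
    intro y hyu hyu'
    obtain ⟨a, ha⟩ := hgv y hyu
    have h1 : B (g y) (g u') = 0 := by rw [oG_B Q B hQp hg, hyu']
    rw [ha, hgu'] at h1
    simp only [map_add, map_smul, LinearMap.add_apply, LinearMap.smul_apply, smul_eq_mul,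
      hyu', huu', hud, mul_zero, mul_one, zero_add, add_zero] at h1
    have ha' : a = -(B y d) := by linear_combination h1
    rw [ha, hS, hyu, ha']
    module
  have hgu'S : g u' = sieg Q B u d u' := by
    rw [hS, hu'u, hgu']
    have h1 : B u' d = -(Q d) := by linear_combination hQd
    rw [h1]
    module
  have hguS : g u = sieg Q B u d u := by
    rw [hS, huu, hud, hgu]
    module
  have hall : g = sieg Q B u d := by
    ext x
    set r : V := x - B x u' • u - B x u • u' with hr
    have hx : x = r + B x u' • u + B x u • u' := by rw [hr]; abel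
    have hru : B r u = 0 := by
      rw [hr]
      simp only [map_sub, map_smul, LinearMap.sub_apply, LinearMap.smul_apply, smul_eq_mul, huu,
        hu'u]
      ring
    have hru' : B r u' = 0 := by
      rw [hr]
      simp only [map_sub, map_smul, LinearMap.sub_apply, LinearMap.smul_apply, smul_eq_mul, huu',
        hu'u']
      ring
    rw [hx, map_add, map_add, map_smul, map_smul, map_add, map_add, map_smul, map_smul,
      hperp r hru hru', hgu'S, hguS]
  refine ⟨d, hud, hall, ?_⟩
  intro x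
  refine ⟨-(B x d) - Q d * B x u, ?_⟩
  rw [hall, hS]
  module

end Cfsg.Agent.Lib.Helper88_GROW_BOREL
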