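import Cfsg.Agent.Lib.Helper88_Essential

/-!
Fusion systems (helper88): the subsystem `innerTop F` of `F` with the same maps on proper subgroups of `S` and only
the inner automorphisms on `S` itself; the automorphism group of a subgroup not contained in `S` is trivial.
-/

set_option autoImplicit false

namespace Cfsg.Agent.Lib.Helper88_InnerTop

open Cfsg Cfsg.FusionSystem Cfsg.Agent.Lib.Helper87_Alperin Cfsg.Agent.Lib.Helper88_Centric
  Cfsg.Agent.Lib.Helper88_Centric2 Cfsg.Agent.Lib.Helper88_Essential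

variable {Ω : Type*} [Group Ω] {S : Subgroup Ω}

/-- `Aut_F(R)` is trivial when `R` is not contained in `S`. -/
theorem autGroup_eq_bot_of_not_le (F : FusionSystem S) {R : Subgroup Ω} (hR : ¬ R ≤ S) :
    F.autGroup R = ⊥ := by
  unfold FusionSystem.autGroup
  rw [Subgroup.closure_eq_bot_iff]
  intro α hα
  exact absurd (F.le_of_mem hα).1 hR

/-- The predicate cutting out `innerTop`. -/
def InnerOnTop (S : Subgroup Ω) (P : Subgroup Ω) (f : Ω → Ω) : Prop :=
  P = S → ∃ a ∈ S, ∀ x ∈ S, f x = a * x * a⁻¹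

/-- The subsystem of `F` with the same maps on proper subgroups of `S` and only inner automorphisms on `S`. -/
def innerTop [Finite S] (F : FusionSystem S) : FusionSystem S :=
  subsystemOf F (InnerOnTop S)
    (fun {P f g} hf hfg hPS => by
      obtain ⟨a, ha, h⟩ := hf hPS
      exact ⟨a, ha, fun x hx => by rw [← hfg x (hPS ▸ hx), h x hx]⟩)
    (fun {P a} _ ha _ => ⟨a, ha, fun x _ => rfl⟩)
    (fun {P R f g} _ hGf hg hGg hfR hPS => by
      obtain ⟨a, ha, hfa⟩ := hGf hPS
      have hRS : R = S := by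
        refine le_antisymm hg.le ?_
        intro y hy
        have h1 : a⁻¹ * y * a ∈ S := S.mul_mem (S.mul_mem (S.inv_mem ha) hy) ha
        have h2 := hfR _ (hPS ▸ h1)
        rw [hfa _ h1] at h2
        have h3 : a * (a⁻¹ * y * a) * a⁻¹ = y := by group
        rwa [h3] at h2
      obtain ⟨b, hb, hgb⟩ := hGg hRS
      refine ⟨b * a, S.mul_mem hb ha, fun x hx => ?_⟩
      rw [Function.comp_apply, hfa x hx, hgb _ (S.mul_mem (S.mul_mem ha hx) (S.inv_mem ha))]
      group)
    (fun {P P' f g} hf hGf hP' _ hgf hP'S => by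
      have hPS : P = S := by
        refine Cfsg.Agent.Lib.Helper84_FusionAlperin.eq_S_of_card_eq hf.le ?_
        rw [card_eq_of_isImage hf hP', hP'S]
      obtain ⟨a, ha, hfa⟩ := hGf hPS
      refine ⟨a⁻¹, S.inv_mem ha, fun y hy => ?_⟩
      have h1 : a⁻¹ * y * a ∈ S := S.mul_mem (S.mul_mem (S.inv_mem ha) hy) ha
      have h2 := hgf _ (hPS ▸ h1)
      rw [hfa _ h1] at h2
      have h3 : a * (a⁻¹ * y * a) * a⁻¹ = y := by group
      rw [h3] at h2
      rw [h2, inv_inv])

theorem autGroup_le_innerTop [Finite S] (F : FusionSystem S) {R : Subgroup Ω} (hRS : R ≤ S) (hne : R ≠ S) :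
    F.autGroup R ≤ (innerTop F).autGroup R := by
  intro α hα
  have h1 := (mem_autGroup_iff' F hRS α).1 hα
  apply Subgroup.subset_closure
  exact ⟨h1, fun h => absurd h hne⟩

/-- If `F` is contained in `innerTop F`, then `Aut_F(S)` consists of inner automorphisms, and so lies in every
fusion system over `S`. -/
theorem autGroup_top_le_of_le_innerTop [Finite S] (F E : FusionSystem S) (h : F ≤ innerTop F) :
    F.autGroup S ≤ E.autGroup S := by
  intro α hα
  have h1 := (mem_autGroup_iff' F le_rfl α).1 hα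
  obtain ⟨a, ha, hfa⟩ := (h S h1).2 rfl
  apply Subgroup.subset_closure
  have h2 : S.subtype.comp α.toMonoidHom = conjHom S a := by
    ext x
    have := hfa x x.2
    rw [extHom_coe] at this
    rw [this]
    rfl
  show S.subtype.comp α.toMonoidHom ∈ E.Hom S
  rw [h2]
  exact E.conj_mem le_rfl ha

end Cfsg.Agent.Lib.Helper88_InnerTop
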