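import Mathlib
import Cfsg.Agent.S0679
import Cfsg.Agent.Lib.Helper39_S4504_CNT

/-!
# S0420 package B1 (helper88, for helper74): a simple group of order 7920 with a subgroup of
index 11 acts sharply 4-transitively on the 11 cosets.
-/

set_option autoImplicit false
set_option linter.style.haveILetI false

namespace Cfsg.Agent.Lib.Helper88_M11U_B1

open scoped MatrixGroups

universe u

theorem card_psl_11 : Nat.card (Matrix.ProjectiveSpecialLinearGroup (Fin 2) (ZMod 11)) = 660 := by
  haveI : Fact (Nat.Prime 11) := ⟨by norm_num⟩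
  have h := Cfsg.Agent.Lib.Helper39_S4504_CNT.card_psl_prime (p := 11) (by norm_num)
  have h2 : (11 : ℕ) * (11 ^ 2 - 1) = 1320 := by norm_num
  rw [h2] at h
  omega

theorem B1 {G : Type u} [Group G] [Finite G] [IsSimpleGroup G] (hG : Nat.card G = 7920)
    (H : Subgroup G) (hH : H.index = 11) :
    ∃ (α : Type u) (_ : Fintype α) (_ : DecidableEq α) (K : Subgroup (Equiv.Perm α)),
      Fintype.card α = 11 ∧ Nonempty (G ≃* K) ∧ MulAction.IsMultiplyPretransitive K α 4 ∧
      ∀ x : Fin 4 ↪ α, MulAction.stabilizer K x = ⊥ := by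
  classical
  haveI : Fintype (G ⧸ H) := Fintype.ofFinite _
  set φ : G →* Equiv.Perm (G ⧸ H) := MulAction.toPermHom G (G ⧸ H) with hφ
  have hcard : Fintype.card (G ⧸ H) = 11 := by
    rw [← Nat.card_eq_fintype_card]
    exact hH
  -- the kernel is trivial
  have hker : φ.ker = ⊥ := by
    rcases (φ.normal_ker).eq_bot_or_eq_top with h | h
    · exact h
    · exfalso
      have hHtop : H = ⊤ := by
        rw [eq_top_iff]
        intro g _
        have hg : g ∈ φ.ker := by rw [h]; trivial
        rw [MonoidHom.mem_ker] at hg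
        have h1 := DFunLike.congr_fun hg ((1 : G) : G ⧸ H)
        rw [hφ, MulAction.toPermHom_apply, MulAction.toPerm_apply, Equiv.Perm.one_apply] at h1
        have h2 : ((g * 1 : G) : G ⧸ H) = ((1 : G) : G ⧸ H) := h1
        rw [mul_one, QuotientGroup.eq] at h2
        simpa using H.inv_mem h2
      rw [hHtop, Subgroup.index_top] at hH
      omega
  have hinj : Function.Injective φ := (MonoidHom.ker_eq_bot_iff φ).mp hker
  set K : Subgroup (Equiv.Perm (G ⧸ H)) := φ.range with hK
  have e : G ≃* K := MonoidHom.ofInjective hinj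
  have hKcard : Nat.card K = 7920 := by rw [← Nat.card_congr e.toEquiv, hG]
  -- transitivity
  haveI htr : MulAction.IsPretransitive K (G ⧸ H) := by
    refine ⟨fun x y => ?_⟩
    obtain ⟨g, hg⟩ := MulAction.exists_smul_eq G x y
    exact ⟨⟨φ g, ⟨g, rfl⟩⟩, hg⟩
  -- not solvable
  have hns : ¬ Group.IsSolvable K := by
    intro hs
    have hsG : Group.IsSolvable G :=
      Group.isSolvable_of_isSolvable_injective (f := (e : G →* K)) e.injective
    have hcomm : ∀ a b : G, a * b = b * a := (IsSimpleGroup.comm_iff_isSolvable).mpr hsG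
    letI : CommGroup G := { (inferInstance : Group G) with mul_comm := hcomm }
    have hp := IsSimpleGroup.prime_card (α := G)
    rw [hG] at hp
    norm_num at hp
  -- does not contain the alternating group
  have hA : ¬ alternatingGroup (G ⧸ H) ≤ K := by
    intro hle
    haveI : Nontrivial (G ⧸ H) := by
      rw [← Fintype.one_lt_card_iff_nontrivial, hcard]
      norm_num
    have h1 := two_mul_card_alternatingGroup (α := G ⧸ H)
    rw [Fintype.card_perm, hcard] at h1
    have h2 : Nat.card (alternatingGroup (G ⧸ H)) ≤ Nat.card K :=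
      Subgroup.card_le_of_le hle
    rw [Nat.card_eq_fintype_card, hKcard] at h2
    have h3 : Nat.factorial 11 = 39916800 := by decide
    rw [h3] at h1
    omega
  rcases Cfsg.Agent.S0679.result hcard K hns hA with h | ⟨⟨f⟩⟩
  · exact ⟨G ⧸ H, inferInstance, inferInstance, K, hcard, ⟨e⟩, h.1, h.2⟩
  · exfalso
    have := Nat.card_congr f.toEquiv
    rw [hKcard, card_psl_11] at this
    omega

end Cfsg.Agent.Lib.Helper88_M11U_B1
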