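import Mathlib
import Cfsg.Prelude.Def_Sporadic_a
import Cfsg.Agent.Lib.Helper7_SteinerTree
import Cfsg.Agent.S0426

/-!
# S0420 package D2 (helper88, for helper74): isomorphic set systems have isomorphic
automorphism groups.
-/

set_option autoImplicit false

namespace Cfsg.Agent.Lib.Helper88_M11U_D2

open Cfsg Cfsg.Agent.Lib.Helper7_SteinerTree
open scoped Pointwise

variable {α β : Type*} [DecidableEq α] [DecidableEq β]

theorem mem_setSystemAut_iff {B : Set (Finset α)} (g : Equiv.Perm α) :
    g ∈ Cfsg.setSystemAut B ↔ tr g B = B := by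
  rw [MulAction.mem_stabilizer_iff, Cfsg.Agent.S0426.smul_eq_tr]

theorem permCongr_mem {B : Set (Finset α)} {B' : Set (Finset β)} (e : α ≃ β) (he : tr e B = B')
    (g : Equiv.Perm α) (hg : g ∈ Cfsg.setSystemAut B) :
    e.permCongr g ∈ Cfsg.setSystemAut B' := by
  rw [mem_setSystemAut_iff] at hg ⊢
  have h1 : e.permCongr g = (e.symm.trans g).trans e := by
    ext x
    simp
  rw [h1, tr_trans, tr_trans, ← he, tr_symm_tr, hg]

/-- the transported automorphism group -/
def autEquiv {B : Set (Finset α)} {B' : Set (Finset β)} (e : α ≃ β) (he : tr e B = B') :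
    Cfsg.setSystemAut B ≃* Cfsg.setSystemAut B' where
  toFun g := ⟨e.permCongr g.1, permCongr_mem e he g.1 g.2⟩
  invFun g := ⟨e.symm.permCongr g.1, permCongr_mem e.symm (by rw [← he, tr_symm_tr]) g.1 g.2⟩
  left_inv g := by
    apply Subtype.ext
    ext x
    simp
  right_inv g := by
    apply Subtype.ext
    ext x
    simp
  map_mul' g g' := by
    apply Subtype.ext
    ext x
    simp

theorem D2 {α β : Type*} [DecidableEq α] [DecidableEq β] {B : Set (Finset α)} {B' : Set (Finset β)}
    (h : Cfsg.SetSystemIso B B') : Nonempty (Cfsg.setSystemAut B ≃* Cfsg.setSystemAut B') := by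
  obtain ⟨e, he⟩ := h
  exact ⟨autEquiv e he⟩

end Cfsg.Agent.Lib.Helper88_M11U_D2
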