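import Mathlib
import Cfsg.Agent.Lib.Helper2_MaxClass

/-!
# `p`-groups of maximal class: the centre, the second centre and its centralizer (helper88)

* `card_center_Z2`: in a group of order `p ^ n`, `4 ≤ n`, whose lower central series has not reached
  `⊥` at step `n - 2`, the centre has order `p` and the second centre has order `p ^ 2`.
* `card_eq_mul_card_centralizer`: with those orders, `C(Z₂)` has index `p`.
-/

set_option autoImplicit false

namespace Cfsg.Agent.Lib.Helper88_MaxClassZ2

open Subgroup
open scoped commutatorElement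

universe u

theorem card_center_Z2 {X : Type u} [Group X] [Finite X] {p : ℕ} [hp : Fact p.Prime] {n : ℕ}
    (hX : Nat.card X = p ^ n) (hn : 4 ≤ n)
    (hmax : (⊤ : Subgroup X).lowerCentralSeries (n - 2) ≠ ⊥) :
    Nat.card (center X) = p ∧ Nat.card (Subgroup.upperCentralSeries X 2) = p ^ 2 := by
  have hpp : p.Prime := hp.out
  have hPG : IsPGroup p X := IsPGroup.of_card hX
  have hnil : Group.IsNilpotent X := hPG.isNilpotent
  have hc1 : ¬ Group.nilpotencyClass X ≤ n - 2 := fun h =>
    hmax (Subgroup.lowerCentralSeries_eq_bot_iff_nilpotencyClass_le.2 h)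
  have hc2 := Helper2_MaxClass.class_le p n X hX (by omega)
  have hc : Group.nilpotencyClass X = n - 1 := by omega
  obtain ⟨hZ, hQ, hcQ⟩ := Helper2_MaxClass.maxClass_center hX (by omega) hc
  have hcQ' : Group.nilpotencyClass (X ⧸ center X) = (n - 1) - 1 := by rw [hcQ]; omega
  obtain ⟨hZQ, -, -⟩ := Helper2_MaxClass.maxClass_center hQ (by omega) hcQ'
  refine ⟨hZ, ?_⟩
  have h2 : Subgroup.upperCentralSeries X 2 =
      comap (QuotientGroup.mk' (center X)) (center (X ⧸ center X)) := by
    have := Subgroup.comap_upperCentralSeries_quotient_center (G := X) 1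
    rw [Subgroup.upperCentralSeries_one] at this
    exact this.symm
  have hidx : (Subgroup.upperCentralSeries X 2).index = (center (X ⧸ center X)).index := by
    rw [h2]
    exact Subgroup.index_comap_of_surjective _ (QuotientGroup.mk'_surjective _)
  have h3 := Subgroup.card_mul_index (center (X ⧸ center X))
  rw [hZQ, hQ] at h3
  have h4 := Subgroup.card_mul_index (Subgroup.upperCentralSeries X 2)
  rw [hX, hidx] at h4
  -- p * idx = p^(n-1), card * idx = p^n
  have h5 : p ^ n = p * p ^ (n - 1) := by
    rw [← pow_succ']; congr 1; omega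
  rw [h5, ← h3] at h4
  have hidx0 : (center (X ⧸ center X)).index ≠ 0 := by
    intro h0; rw [h0, mul_zero] at h3
    exact (pow_pos hpp.pos _).ne h3
  have h6 : Nat.card (Subgroup.upperCentralSeries X 2) * (center (X ⧸ center X)).index =
      (p * p) * (center (X ⧸ center X)).index := by rw [h4]; ring
  have := Nat.eq_of_mul_eq_mul_right (Nat.pos_of_ne_zero hidx0) h6
  rw [this]; ring

/-- The commutator map `g ↦ ⁅y, g⁆` for `y` in the second centre, as a homomorphism. -/
def commHom {X : Type u} [Group X] (y : X) (hy : y ∈ Subgroup.upperCentralSeries X 2) : X →* X where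
  toFun g := ⁅y, g⁆
  map_one' := by simp [commutatorElement_def]
  map_mul' g h := by
    have hc : ∀ k : X, ⁅y, k⁆ ∈ center X := by
      intro k
      have := Subgroup.mem_upperCentralSeries_succ_iff.1 hy k
      rwa [Subgroup.upperCentralSeries_one] at this
    have h1 := Subgroup.mem_center_iff.1 (hc h) g⁻¹
    simp only [commutatorElement_def] at h1 ⊢
    -- y g h y⁻¹ h⁻¹ g⁻¹ = y g y⁻¹ g⁻¹ * (y h y⁻¹ h⁻¹)
    calc y * (g * h) * y⁻¹ * (g * h)⁻¹
        = y * g * y⁻¹ * ((y * h * y⁻¹ * h⁻¹) * g⁻¹) := by group
      _ = y * g * y⁻¹ * (g⁻¹ * (y * h * y⁻¹ * h⁻¹)) := by rw [h1]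
      _ = y * g * y⁻¹ * g⁻¹ * (y * h * y⁻¹ * h⁻¹) := by group

theorem commHom_apply {X : Type u} [Group X] (y : X) (hy : y ∈ Subgroup.upperCentralSeries X 2)
    (g : X) : commHom y hy g = ⁅y, g⁆ := rfl

theorem commHom_range_le {X : Type u} [Group X] (y : X) (hy : y ∈ Subgroup.upperCentralSeries X 2) :
    (commHom y hy).range ≤ center X := by
  rintro _ ⟨g, rfl⟩
  have := Subgroup.mem_upperCentralSeries_succ_iff.1 hy g
  rwa [Subgroup.upperCentralSeries_one] at this

theorem mem_commHom_ker {X : Type u} [Group X] (y : X) (hy : y ∈ Subgroup.upperCentralSeries X 2)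
    (g : X) : g ∈ (commHom y hy).ker ↔ g * y = y * g := by
  rw [MonoidHom.mem_ker, commHom_apply, commutatorElement_eq_one_iff_mul_comm]
  exact eq_comm

/-- With `|Z| = p` and `|Z₂| = p ^ 2`, the centralizer of `Z₂` has index `p`. -/
theorem card_eq_mul_card_centralizer {X : Type u} [Group X] [Finite X] {p : ℕ} [hp : Fact p.Prime]
    (hZ : Nat.card (center X) = p) (hZ2 : Nat.card (Subgroup.upperCentralSeries X 2) = p ^ 2) :
    Nat.card X = p * Nat.card (centralizer ((Subgroup.upperCentralSeries X 2 : Subgroup X) : Set X)) := by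
  have hpp : p.Prime := hp.out
  have hle : center X ≤ Subgroup.upperCentralSeries X 2 := by
    rw [← Subgroup.upperCentralSeries_one]
    exact Subgroup.upperCentralSeries_mono X (by norm_num)
  -- pick y in Z₂ \ Z
  have hne : ¬ Subgroup.upperCentralSeries X 2 ≤ center X := by
    intro h
    have := Subgroup.card_le_of_le h
    rw [hZ, hZ2] at this
    have : p * p ≤ p * 1 := by rw [← pow_two]; simpa using this
    have := Nat.le_of_mul_le_mul_left this hpp.pos
    exact absurd this (by have := hpp.two_le; omega)
  obtain ⟨y, hy, hyZ⟩ := SetLike.not_le_iff_exists.1 hne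
  -- Z₂ = Z ⊔ ⟨y⟩
  set K : Subgroup X := center X ⊔ zpowers y with hK
  have hKle : K ≤ Subgroup.upperCentralSeries X 2 := sup_le hle ((zpowers_le).2 hy)
  have hZK : center X < K := by
    refine lt_of_le_of_ne le_sup_left ?_
    intro h
    apply hyZ
    rw [h]
    exact (le_sup_right : zpowers y ≤ K) (mem_zpowers y)
  have hKcard : Nat.card K = p ^ 2 := by
    have h1 : Nat.card K ∣ p ^ 2 := by rw [← hZ2]; exact Subgroup.card_dvd_of_le hKle
    obtain ⟨k, hk2, hk⟩ := (Nat.dvd_prime_pow hpp).1 h1
    have h2 : Nat.card (center X) < Nat.card K := by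
      have hdvd := Subgroup.card_dvd_of_le hZK.le
      have hlt : Nat.card (center X) ≠ Nat.card K := by
        intro he
        exact hZK.ne (Subgroup.eq_of_le_of_card_ge hZK.le he.ge)
      exact lt_of_le_of_ne (Nat.le_of_dvd Nat.card_pos hdvd) hlt
    rw [hZ, hk] at h2
    have : 1 < k := by
      by_contra hk1
      have : k = 0 ∨ k = 1 := by omega
      rcases this with h | h <;> rw [h] at h2 <;> simp at h2
      have := hpp.two_le; omega
    have : k = 2 := by omega
    rw [hk, this]
  have hKeq : K = Subgroup.upperCentralSeries X 2 :=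
    Subgroup.eq_of_le_of_card_ge hKle (by rw [hKcard, hZ2])
  -- the centralizer of Z₂ is the kernel of the commutator map of y
  have hker : centralizer ((Subgroup.upperCentralSeries X 2 : Subgroup X) : Set X) = (commHom y hy).ker := by
    ext g
    rw [mem_commHom_ker, mem_centralizer_iff]
    constructor
    · intro h
      exact (h y hy).symm
    · intro h z hz
      rw [← hKeq, hK] at hz
      have hg : K ≤ centralizer {g} := by
        rw [hK]
        refine sup_le ?_ ?_
        · intro c hc
          rw [mem_centralizer_singleton_iff]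
          exact ((Subgroup.mem_center_iff.1 hc) g).symm
        · rw [zpowers_le, mem_centralizer_singleton_iff]
          exact h.symm
      have := hg hz
      rw [mem_centralizer_singleton_iff] at this
      exact this
  rw [hker]
  have hidx := Subgroup.index_ker (commHom y hy)
  have hdvd : Nat.card (commHom y hy).range ∣ p := by
    rw [← hZ]; exact Subgroup.card_dvd_of_le (commHom_range_le y hy)
  have hne1 : (commHom y hy).ker.index ≠ 1 := by
    intro h1
    rw [Subgroup.index_eq_one] at h1
    apply hyZ
    rw [Subgroup.mem_center_iff]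
    intro g
    have : g ∈ (commHom y hy).ker := by rw [h1]; trivial
    exact (mem_commHom_ker y hy g).1 this
  have hidxp : (commHom y hy).ker.index = p := by
    rw [hidx] at hne1 ⊢
    rcases (Nat.dvd_prime hpp).1 hdvd with h | h
    · exact absurd h hne1
    · exact h
  have := Subgroup.card_mul_index (commHom y hy).ker
  rw [hidxp] at this
  rw [← this]; ring

end Cfsg.Agent.Lib.Helper88_MaxClassZ2
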