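import Mathlib
import Cfsg.Prelude.Def_FusionSystem
import Cfsg.Agent.Lib.Helper88_MaxClassZ2
import Cfsg.Agent.Lib.Helper84_FusionEssential

/-!
# Fusion systems over `p`-groups of maximal class: an automorphism of `Z₂(S)` moving `Z(S)` makes
`C_S(Z₂(S))` essential (helper88)
-/

set_option autoImplicit false

namespace Cfsg.Agent.Lib.Helper88_MaxClassEss

open Cfsg Cfsg.FusionSystem

theorem isEssential_centralizer_Z2 {Ω : Type*} [Group Ω] {S : Subgroup Ω} [Finite S] (p : ℕ) [Fact p.Prime]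
    (hS : IsPGroup p ↥S) (n : ℕ) (hn : Nat.card S = p ^ n) (h4 : 4 ≤ n)
    (hmax : Subgroup.lowerCentralSeries S (n - 2) ≠ ⊥) (F : Cfsg.FusionSystem S) (hF : F.IsSaturated p)
    (Z2 : Subgroup Ω) (hZ2 : Z2 = (Subgroup.upperCentralSeries ↥S 2).map S.subtype)
    (φ : ↥Z2 →* Ω) (hφ : φ ∈ F.Hom Z2) (hφZ : φ.range = Z2)
    (hmove : ∃ (z : Ω) (hz : z ∈ Z2), z ∈ ((Subgroup.center ↥S).map S.subtype) ∧
      φ ⟨z, hz⟩ ∉ ((Subgroup.center ↥S).map S.subtype)) :
    F.IsEssential p (S ⊓ Subgroup.centralizer (Z2 : Set Ω)) := by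
  classical
  have hpp : p.Prime := Fact.out
  -- notation
  set C : Subgroup Ω := S ⊓ Subgroup.centralizer (Z2 : Set Ω) with hC
  have hZ2S : Z2 ≤ S := by rw [hZ2]; exact Subgroup.map_subtype_le _
  have hCS : C ≤ S := inf_le_left
  -- the p-group facts
  have hmax' : (⊤ : Subgroup S).lowerCentralSeries (n - 2) ≠ ⊥ := by
    intro h
    apply hmax
    rw [← Subgroup.top_subtype_lowerCentralSeries, h, Subgroup.map_bot]
  obtain ⟨hcZ, hcZ2⟩ := Cfsg.Agent.Lib.Helper88_MaxClassZ2.card_center_Z2 hn h4 hmax'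
  have hidx := Cfsg.Agent.Lib.Helper88_MaxClassZ2.card_eq_mul_card_centralizer hcZ hcZ2
  have hCmap : C = (Subgroup.centralizer
      ((Subgroup.upperCentralSeries ↥S 2 : Subgroup S) : Set S)).map S.subtype := by
    ext g
    constructor
    · rintro ⟨hgS, hgC⟩
      refine ⟨⟨g, hgS⟩, ?_, rfl⟩
      rw [SetLike.mem_coe, Subgroup.mem_centralizer_iff]
      intro z hz
      apply Subtype.ext
      exact Subgroup.mem_centralizer_iff.1 hgC (z : Ω) (by rw [hZ2]; exact ⟨z, hz, rfl⟩)
    · rintro ⟨g', hg', rfl⟩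
      refine ⟨g'.2, ?_⟩
      show (g' : Ω) ∈ Subgroup.centralizer (Z2 : Set Ω)
      rw [Subgroup.mem_centralizer_iff]
      intro w hw
      rw [hZ2] at hw
      obtain ⟨z, hz, rfl⟩ := hw
      exact congrArg Subtype.val (Subgroup.mem_centralizer_iff.1 hg' z hz)
  have hcardC : Nat.card S = p * Nat.card C := by
    rw [hidx, hCmap, Subgroup.card_map_of_injective S.subtype_injective]
  have hcardZ2 : Nat.card Z2 = p ^ 2 := by
    rw [hZ2, Subgroup.card_map_of_injective S.subtype_injective, hcZ2]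
  -- Z2 is abelian, hence inside C
  have hZ2comm : ∀ a ∈ Z2, ∀ b ∈ Z2, a * b = b * a := by
    intro a ha b hb
    have hcomm : IsMulCommutative ↥Z2 := IsPGroup.isMulCommutative_of_card_eq_prime_sq hcardZ2
    have := hcomm.is_comm.comm ⟨a, ha⟩ ⟨b, hb⟩
    exact congrArg Subtype.val this
  have hZ2C : Z2 ≤ C := by
    intro a ha
    refine ⟨hZ2S ha, ?_⟩
    show a ∈ Subgroup.centralizer (Z2 : Set Ω)
    rw [Subgroup.mem_centralizer_iff]
    intro b hb
    exact hZ2comm b hb a ha
  -- Z2 is normalized by S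
  have hZ2n : S ≤ Subgroup.normalizer (Z2 : Set Ω) := by
    have h1 := Subgroup.le_normalizer_map (H := Subgroup.upperCentralSeries ↥S 2) S.subtype
    rw [Subgroup.normalizer_eq_top, ← MonoidHom.range_eq_map, Subgroup.range_subtype] at h1
    rw [hZ2]
    exact h1
  have hZ2fn : F.IsFullyNormalized Z2 := by
    have hT : normalizerIn S Z2 = S := le_antisymm inf_le_left (le_inf le_rfl hZ2n)
    refine ⟨hZ2S, fun Q' _ => ?_⟩
    rw [hT]
    exact Subgroup.card_le_of_le inf_le_left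
  have hZ2r := Cfsg.Agent.Lib.Helper84_FusionRS.IsSaturated.isReceptive_of_isFullyNormalized hS hF hZ2fn
  obtain ⟨ψ, hψ, hψφ⟩ := hZ2r.2 Z2 φ hφ hφZ
  -- C lies in the extender
  have hCext : C ≤ extender S Z2 φ := by
    intro g hg
    rw [Cfsg.Agent.Lib.Helper84_FusionRS.mem_extender_iff]
    refine ⟨hg.1, hZ2n hg.1, 1, S.one_mem, fun x hx => ?_⟩
    have hgx : g * (x : Ω) * g⁻¹ = x := by
      have := Subgroup.mem_centralizer_iff.1 hg.2 (x : Ω) x.2
      rw [← this]; group
    have : (⟨g * (x : Ω) * g⁻¹, hx⟩ : Z2) = x := Subtype.ext hgx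
    rw [this]; simp
  have hθ := Cfsg.Agent.Lib.Helper85_Fusion.restrict_mem F hCext hψ
  set θ : C →* Ω := ψ.comp (Subgroup.inclusion hCext) with hθdef
  have hθinj : Function.Injective θ := F.injective_of_mem hθ
  have hθZ2 : ∀ (w : Ω) (hw : w ∈ Z2), θ ⟨w, hZ2C hw⟩ = φ ⟨w, hw⟩ := by
    intro w hw
    exact hψφ w hw (hCext (hZ2C hw))
  have : Finite C := Cfsg.Agent.Lib.Helper84_FusionRS.finite_of_le_S hCS
  have hθrange : θ.range = C := by
    have hle : θ.range ≤ C := by
      rintro _ ⟨c, rfl⟩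
      refine ⟨Cfsg.Agent.Lib.Helper85_Fusion.range_le F hθ ⟨c, rfl⟩, ?_⟩
      refine Subgroup.mem_centralizer_iff.2 ?_
      intro w hw
      have hw' : w ∈ φ.range := by rw [hφZ]; exact hw
      obtain ⟨w', rfl⟩ := hw'
      rw [← hθZ2 (w' : Ω) w'.2, ← map_mul, ← map_mul]
      congr 1
      apply Subtype.ext
      show (w' : Ω) * (c : Ω) = (c : Ω) * (w' : Ω)
      exact Subgroup.mem_centralizer_iff.1 c.2.2 (w' : Ω) w'.2
    apply Subgroup.eq_of_le_of_card_ge hle
    rw [← Nat.card_congr (MonoidHom.ofInjective hθinj).toEquiv]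
  set α : MulAut C := Cfsg.Agent.Lib.Helper84_FusionSat.isoOfRange θ hθinj hθrange with hα
  have hαF : α ∈ F.autGroup C := by
    rw [Cfsg.Agent.Lib.Helper85_Fusion.mem_autGroup_iff F hCS]
    exact Cfsg.Agent.Lib.Helper85_Fusion.mem_of_eq F hθ (fun x => rfl)
  -- the centre of S inside Ω
  set ZΩ : Subgroup Ω := (Subgroup.center ↥S).map S.subtype with hZΩ
  have hZΩ' : ZΩ = S ⊓ Subgroup.centralizer (S : Set Ω) :=
    Cfsg.Agent.Lib.Helper84_FusionEssential.map_center_subtype S
  -- the stabilizer of ZΩ in Aut(C)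
  let K : Subgroup (MulAut C) :=
    { carrier := {β | ∀ x : C, (x : Ω) ∈ ZΩ ↔ ((β x : C) : Ω) ∈ ZΩ}
      one_mem' := fun x => Iff.rfl
      mul_mem' := by
        intro β γ hβ hγ x
        rw [MulAut.mul_apply]
        exact (hγ x).trans (hβ (γ x))
      inv_mem' := by
        intro β hβ x
        have := hβ (β⁻¹ x)
        rw [MulAut.apply_inv_self] at this
        exact this.symm }
  have hKmem : ∀ β : MulAut C, β ∈ K ↔ ∀ x : C, (x : Ω) ∈ ZΩ ↔ ((β x : C) : Ω) ∈ ZΩ := fun _ => Iff.rfl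
  -- automorphisms extending to bigger subgroups stabilize ZΩ
  have hext : Cfsg.Agent.Lib.Helper84_FusionEssential.extClosure F C ≤ K := by
    unfold Cfsg.Agent.Lib.Helper84_FusionEssential.extClosure
    rw [Subgroup.closure_le]
    rintro β ⟨Q, hCQ, φ', hφ', hβ⟩
    have hQS : Q ≤ S := Cfsg.Agent.Lib.Helper85_Fusion.source_le F hφ'
    have : Finite Q := Cfsg.Agent.Lib.Helper84_FusionRS.finite_of_le_S hQS
    have hQeq : Q = S := by
      apply Subgroup.eq_of_le_of_card_ge hQS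
      have h1 : Nat.card C ∣ Nat.card Q := Subgroup.card_dvd_of_le hCQ.le
      have h2 : Nat.card Q ∣ Nat.card S := Subgroup.card_dvd_of_le hQS
      obtain ⟨k, hk⟩ := h1
      have hCpos : 0 < Nat.card C := Nat.card_pos
      rw [hk, hcardC, mul_comm p] at h2
      have h3 : k ∣ p := Nat.dvd_of_mul_dvd_mul_left hCpos h2
      have hk1 : k ≠ 1 := by
        intro h1
        rw [h1, mul_one] at hk
        exact hCQ.ne (Subgroup.eq_of_le_of_card_ge hCQ.le hk.le)
      have hkp : k = p := by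
        rcases (Nat.dvd_prime hpp).1 h3 with h | h
        · exact absurd h hk1
        · exact h
      rw [hcardC, hk, hkp, mul_comm]
    subst hQeq
    have hφ'inj : Function.Injective φ' := F.injective_of_mem hφ'
    have hφ'range : φ'.range = Q := by
      apply Subgroup.eq_of_le_of_card_ge (Cfsg.Agent.Lib.Helper85_Fusion.range_le F hφ')
      rw [← Nat.card_congr (MonoidHom.ofInjective hφ'inj).toEquiv]
    rw [SetLike.mem_coe, hKmem]
    intro x
    rw [← hβ x, hZΩ']
    have hxQ : (x : Ω) ∈ Q := hCQ.le x.2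
    constructor
    · rintro ⟨-, hx⟩
      refine ⟨Cfsg.Agent.Lib.Helper85_Fusion.range_le F hφ' ⟨_, rfl⟩, ?_⟩
      refine Subgroup.mem_centralizer_iff.2 ?_
      intro s hs
      have hs' : s ∈ φ'.range := by rw [hφ'range]; exact hs
      obtain ⟨s', rfl⟩ := hs'
      rw [← map_mul, ← map_mul]
      congr 1
      apply Subtype.ext
      exact Subgroup.mem_centralizer_iff.1 hx (s' : Ω) s'.2
    · rintro ⟨-, hx⟩
      refine ⟨hxQ, ?_⟩
      refine Subgroup.mem_centralizer_iff.2 ?_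
      intro s hs
      have h1 := Subgroup.mem_centralizer_iff.1 hx (φ' ⟨s, hs⟩)
        (Cfsg.Agent.Lib.Helper85_Fusion.range_le F hφ' ⟨_, rfl⟩)
      rw [← map_mul, ← map_mul] at h1
      exact congrArg Subtype.val (hφ'inj h1)
  -- α does not stabilize ZΩ
  have hαK : α ∉ K := by
    intro hαK
    obtain ⟨z, hz, hzZ, hφz⟩ := hmove
    have := (hαK ⟨z, hZ2C hz⟩).1 hzZ
    apply hφz
    have h2 : ((α ⟨z, hZ2C hz⟩ : C) : Ω) = φ ⟨z, hz⟩ := hθZ2 z hz
    rw [← h2]
    exact this
  -- C is a proper, fully normalized subgroup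
  have hClt : C < S := by
    refine lt_of_le_of_ne hCS ?_
    intro h
    have h1 : Nat.card C = Nat.card S := by rw [h]
    rw [hcardC] at h1
    have hCpos : 0 < Nat.card C := Nat.card_pos
    have : 1 * Nat.card C = p * Nat.card C := by rw [one_mul]; exact h1
    have := Nat.eq_of_mul_eq_mul_right hCpos this
    have := hpp.two_le
    omega
  have hCn : S ≤ Subgroup.normalizer (C : Set Ω) := by
    intro g hg
    rw [Subgroup.mem_normalizer_iff]
    intro c
    have key : ∀ (g : Ω), g ∈ S → ∀ c ∈ C, g * c * g⁻¹ ∈ C := by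
      intro g hg c hc
      refine ⟨S.mul_mem (S.mul_mem hg hc.1) (S.inv_mem hg), ?_⟩
      refine Subgroup.mem_centralizer_iff.2 ?_
      intro w hw
      have hw' : g⁻¹ * w * g ∈ Z2 := by
        have := (Subgroup.mem_normalizer_iff.1 (hZ2n (S.inv_mem hg)) w).1 hw
        simpa using this
      have := Subgroup.mem_centralizer_iff.1 hc.2 _ hw'
      calc w * (g * c * g⁻¹) = g * ((g⁻¹ * w * g) * c) * g⁻¹ := by group
        _ = g * (c * (g⁻¹ * w * g)) * g⁻¹ := by rw [this]
        _ = g * c * g⁻¹ * w := by group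
    constructor
    · intro hc
      exact key g hg c hc
    · intro hc
      have := key g⁻¹ (S.inv_mem hg) _ hc
      simpa [mul_assoc] using this
  have hCfn : F.IsFullyNormalized C := by
    have hT : normalizerIn S C = S := le_antisymm inf_le_left (le_inf le_rfl hCn)
    refine ⟨hCS, fun Q' _ => ?_⟩
    rw [hT]
    exact Subgroup.card_le_of_le inf_le_left
  apply Cfsg.Agent.Lib.Helper84_FusionEssential.isEssential_of_extClosure_ne hS F hF hClt hCfn
  intro heq
  apply hαK
  apply hext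
  rw [heq]
  exact hαF

end Cfsg.Agent.Lib.Helper88_MaxClassEss
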