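import Mathlib
import Cfsg.Agent.Lib.Helper94_OD3Defs
import Cfsg.Agent.Lib.Helper94_OrthSiegel
import Cfsg.Agent.Lib.Helper94_OrthSiegel2
import Cfsg.Agent.Lib.Helper94_OrthNondeg
import Cfsg.Agent.Lib.Helper70_Q2_TAN
import Cfsg.Agent.Lib.Helper74_OD_BASIC

set_option autoImplicit false
set_option linter.unusedSectionVars false
set_option linter.unusedVariables false

/-!
OD3 market (helper94 architect), package **OD3-SIEGL**: a group `L` of isometries containing
`H = S ⊓ Ω` and the reflection in a nonsingular vector `v` lying in no block is not in case B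
(a tangent pair `(v, h v)`, `h` a Siegel element of a block, produces the Siegel elements
`sieg s (F v)` with `s` a singular block vector).  (helper88)
-/

namespace Cfsg.Agent.Lib.Helper88_OD3_SIEGL

open Module Cfsg.Agent.Lib.Helper94_Symp Cfsg.Agent.Lib.Helper94_OrthSmall
  Cfsg.Agent.Lib.Helper94_OrthSiegel Cfsg.Agent.Lib.Helper94_OrthNondeg
  Cfsg.Agent.Lib.Helper29_ODDefs Cfsg.Agent.Lib.Helper94_Q2Defs Cfsg.Agent.Lib.Helper94_OD3Defs

variable {F V : Type*} [Field F] [AddCommGroup V] [Module F V] [Finite F] [FiniteDimensional F V]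
  {Q : V → F} {B : LinearMap.BilinForm F V} {t k : ℕ} {D : Fin t → Submodule F V}
  {S M L : Subgroup (V ≃ₗ[F] V)}

/-- Siegel elements of a block lie in `H = S ⊓ Ω` (every characteristic). -/
theorem sieg_mem_H' (hQs : ∀ (c : F) (v : V), Q (c • v) = c * c * Q v)
    (hQp : ∀ u v : V, Q (u + v) = Q u + Q v + B u v) (hD : ODec Q B k D) (hS : IsDStab D S)
    (hG2 : ∀ u z, Q u = 0 → B u z = 0 → sieg Q B u z ∈ ⁅oG Q, oG Q⁆)
    {j : Fin t} {u v : V} (hu : u ∈ D j) (hv : v ∈ D j) (hQu : Q u = 0)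
    (huv : B u v = 0) : sieg Q B u v ∈ S ⊓ ⁅oG Q, oG Q⁆ := by
  refine Subgroup.mem_inf.mpr ⟨?_, hG2 u v hQu huv⟩
  apply Cfsg.Agent.Lib.Helper74_OD_BASIC.mem_dstab_of_forall hD.fr hS
  intro i x hx
  rw [sieg_apply Q B hQs hQp hQu huv]
  by_cases hij : i = j
  · subst hij
    exact (D i).sub_mem ((D i).sub_mem ((D i).add_mem hx ((D i).smul_mem _ hv))
      ((D i).smul_mem _ hu)) ((D i).smul_mem _ hu)
  · rw [hD.orth i j hij x hx u hu, hD.orth i j hij x hx v hv]
    simpa using hx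

/-- In a nondegenerate block: for `s` singular nonzero and `a` nonsingular in the block there is
`z'` in the block with `B s z' = 0` and `B a z' = 1`. -/
theorem exists_dual (hQs : ∀ (c : F) (v : V), Q (c • v) = c * c * Q v)
    (hQp : ∀ u v : V, Q (u + v) = Q u + Q v + B u v) (hD : ODec Q B k D) {l : Fin t} {s a : V}
    (hs : s ∈ D l) (hs0 : s ≠ 0) (hQs0 : Q s = 0) (ha : a ∈ D l) (hQa : Q a ≠ 0) :
    ∃ z' ∈ D l, B s z' = 0 ∧ B a z' = 1 := by
  have hsymm := B_symm Q B hQp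
  obtain ⟨a1, ha1, ha1s⟩ := hD.nd l s hs hs0
  -- y := B(a1,s) a - B(a,a1) s is a nonzero vector of the block
  set y : V := B a1 s • a - B a a1 • s with hy
  have hyD : y ∈ D l := (D l).sub_mem ((D l).smul_mem _ ha) ((D l).smul_mem _ hs)
  have hy0 : y ≠ 0 := by
    intro h0
    have h1 : B a1 s • a = B a a1 • s := by
      rw [hy] at h0
      exact sub_eq_zero.mp h0
    have h2 : Q (B a1 s • a) = Q (B a a1 • s) := by rw [h1]
    rw [hQs, hQs, hQs0, mul_zero] at h2
    exact mul_ne_zero (mul_ne_zero ha1s ha1s) hQa h2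
  obtain ⟨b, hb, hby⟩ := hD.nd l y hyD hy0
  set z'' : V := B a1 s • b - B b s • a1 with hz''
  have hz''D : z'' ∈ D l := (D l).sub_mem ((D l).smul_mem _ hb) ((D l).smul_mem _ ha1)
  have h1 : B s z'' = 0 := by
    rw [hz'', map_sub, map_smul, map_smul, smul_eq_mul, smul_eq_mul, hsymm s b, hsymm s a1]
    ring
  have h2 : B a z'' = B b y := by
    rw [hz'', hy]
    simp only [map_sub, map_smul, smul_eq_mul]
    rw [hsymm a b]
    ring
  have h3 : B a z'' ≠ 0 := by rw [h2]; exact hby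
  refine ⟨(B a z'')⁻¹ • z'', (D l).smul_mem _ hz''D, ?_, ?_⟩
  · rw [map_smul, h1, smul_zero]
  · rw [map_smul, smul_eq_mul, inv_mul_cancel₀ h3]

/-- **OD3-SIEGL** -/
theorem SIEGL (hQs : ∀ (c : F) (v : V), Q (c • v) = c * c * Q v)
    (hQp : ∀ u v : V, Q (u + v) = Q u + Q v + B u v) (hN : B.Nondegenerate)
    (hD : ODec Q B k D) (hk : 4 ≤ k) (hS : IsDStab D S)
    (hG2 : ∀ u z, Q u = 0 → B u z = 0 → sieg Q B u z ∈ ⁅oG Q, oG Q⁆)
    (hLO : L ≤ oG Q) (hHL : S ⊓ ⁅oG Q, oG Q⁆ ≤ L) {v : V} (hv : Q v ≠ 0)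
    (hvL : refl Q B hQs hQp hv ∈ L) (hnb : ∀ l, v ∉ D l) : ¬ CaseB Q B D L := by
  intro hB
  have hsymm := B_symm Q B hQp
  obtain ⟨π, hπ⟩ := Cfsg.Agent.Lib.Helper74_OD_BASIC.exists_projs hQs hQp hN hD
  -- a nonsingular component
  obtain ⟨l, hl⟩ : ∃ l, Q (π l v) ≠ 0 := by
    by_contra hcon
    push Not at hcon
    apply hv
    rw [hπ.Q_sum v]
    exact Finset.sum_eq_zero (fun j _ => hcon j)
  have hvl : π l v ∈ D l := hπ.mem l v
  -- a singular vector of the block orthogonal to the component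
  have h1 := finrank_le_inf_ker_add_one (D l) (B.flip (π l v))
  rw [hD.fr l] at h1
  obtain ⟨s, hsT, hs0, hQs0⟩ := Cfsg.Agent.Lib.Helper94_OrthSiegel2.exists_singular_in Q B hQs hQp
    (D l ⊓ LinearMap.ker (B.flip (π l v))) (by omega)
  have hsD : s ∈ D l := hsT.1
  have hsvl : B s (π l v) = 0 := mem_ker_flip.mp hsT.2
  obtain ⟨z', hz'D, hsz', hvz'⟩ := exists_dual hQs hQp hD hsD hs0 hQs0 hvl hl
  -- pairings of `v` with the block
  have hvs : B v s = 0 := by rw [hπ.B_left l v s hsD, hsymm, hsvl]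
  have hvz : B v z' = 1 := by rw [hπ.B_left l v z' hz'D, hvz']
  have hsv : B s v = 0 := by rw [hsymm, hvs]
  -- the Siegel elements `sieg s (c • v')`, `v' = (Q v)⁻¹ v`, lie in `L`
  have hInZ : InZ Q B L s ((Q v)⁻¹ • v) := by
    refine ⟨by rw [map_smul, hsv, smul_zero], fun c => ?_⟩
    have hsz : B s (c • z') = 0 := by rw [map_smul, hsz', smul_zero]
    have hh : sieg Q B s (c • z') ∈ L :=
      hHL (sieg_mem_H' hQs hQp hD hS hG2 hsD ((D l).smul_mem c hz'D) hQs0 hsz)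
    have hhO : sieg Q B s (c • z') ∈ oG Q := hLO hh
    have hhv : sieg Q B s (c • z') v = v - c • s := by
      rw [sieg_apply Q B hQs hQp hQs0 hsz, hvs, map_smul, hvz]
      simp only [smul_eq_mul, mul_one, zero_smul, mul_zero, add_zero, sub_zero]
    have hQhv : Q (v - c • s) ≠ 0 := by
      rw [← hhv, hhO]
      exact hv
    have hr2 : refl Q B hQs hQp hQhv ∈ L := by
      have h3 := conj_refl Q B hQs hQp hhO hv
      have h4 : refl Q B hQs hQp (a := sieg Q B s (c • z') v) (by rw [hhO]; exact hv) ∈ L := by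
        rw [← h3]
        exact L.mul_mem (L.mul_mem hh hvL) (L.inv_mem hh)
      have h5 : ∀ (w w' : V) (hw : Q w ≠ 0) (hw' : Q w' ≠ 0), w = w' →
          refl Q B hQs hQp hw = refl Q B hQs hQp hw' := by
        intro w w' hw hw' e
        subst e
        rfl
      rw [← h5 _ _ (by rw [hhO]; exact hv) hQhv hhv]
      exact h4
    have hQeq : Q v = Q (v - c • s) := by rw [← hhv, hhO]
    have hdiff : v - (v - c • s) = c • s := by abel
    have hQd : Q (v - (v - c • s)) = 0 := by rw [hdiff, hQs, hQs0, mul_zero]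
    have h6 := Cfsg.Agent.Lib.Helper70_Q2_TAN.TAN_mem Q B hQs hQp hv hQhv hQeq hQd L hvL hr2
    rw [hdiff, sieg_smul_left Q B hQs hQp hQs0 (by rw [map_smul, hsv, smul_zero])] at h6
    exact h6
  have hmem := hB l s hsD hs0 hQs0 _ hInZ
  apply hnb l
  have h7 := (D l).smul_mem (Q v) hmem
  rwa [smul_smul, mul_inv_cancel₀ hv, one_smul] at h7

end Cfsg.Agent.Lib.Helper88_OD3_SIEGL
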