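import Mathlib
import Cfsg.Agent.Lib.Helper38_OTDefs
import Cfsg.Agent.Lib.Helper94_OrthVec
import Cfsg.Agent.Lib.Helper17_UT_BAS1

set_option autoImplicit false
set_option linter.unusedSectionVars false
set_option linter.unusedVariables false

/-!
OTENS4 package OT-GEN3 (helper88, for helper38; target S5704).
Statement `gen3` verbatim from `pending/helper38/OTENS4_packages1.lean.txt`.
Paper proof: `pending/helper38/OTENS4_proof.md`, section 1, GEN3.
-/

namespace Cfsg.Agent.Lib.Helper88_OT_GEN3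

open Matrix Module
open Cfsg.Agent.Lib.Helper98_ExtDefs Cfsg.Agent.Lib.Helper97_TensDefs
open Cfsg.Agent.Lib.Helper94_Herm
open Cfsg.Agent.Lib.Helper67_UT2Defs Cfsg.Agent.Lib.Helper37_UTDefs
open Cfsg.Agent.Lib.Helper37_UTPairDefs
open Cfsg.Agent.Lib.Helper94_OrthSmall Cfsg.Agent.Lib.Helper94_OrthSiegel
open Cfsg.Agent.Lib.Helper94_OrthNondeg (InZ)
open Cfsg.Agent.Lib.Helper67_T2ODefs (IsAltMap aw)
open Cfsg.Agent.Lib.Helper38_OTDefs
open Cfsg.Agent.Lib.Helper17_UT_BAS1 (tf_pure)

variable {F : Type*} [Field F] {ι κ : Type*} [Fintype ι] [Fintype κ] [DecidableEq ι]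
  [DecidableEq κ]
variable {α : LinearMap.BilinForm F (ι → F)} {β : LinearMap.BilinForm F (κ → F)}
variable {Q : Matrix ι κ F → F} {M : Subgroup (Matrix ι κ F ≃ₗ[F] Matrix ι κ F)}

/-- an alternating form is skew -/
theorem alt_skew {W : Type*} [AddCommGroup W] [Module F W] {ω : LinearMap.BilinForm F W}
    (hω : ∀ x, ω x x = 0) (x y : W) : ω x y = - ω y x := by
  have h := hω (x + y)
  simp only [map_add, LinearMap.add_apply, hω, zero_add, add_zero] at h
  linear_combination h

/-- a vector paired to `1` -/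
theorem exists_pair_one {W : Type*} [AddCommGroup W] [Module F W] {ω : LinearMap.BilinForm F W}
    (hN : NondegOn ω ⊤) {x : W} (hx : x ≠ 0) : ∃ y : W, ω x y = 1 := by
  obtain ⟨y, -, hy⟩ := hN x Submodule.mem_top hx
  refine ⟨(ω x y)⁻¹ • y, ?_⟩
  rw [map_smul, smul_eq_mul, inv_mul_cancel₀ hy]

/-- right nondegeneracy of an alternating form which is left nondegenerate -/
theorem eq_zero_of_forall_left {W : Type*} [AddCommGroup W] [Module F W]
    {ω : LinearMap.BilinForm F W} (hω : ∀ x, ω x x = 0) (hN : NondegOn ω ⊤) {w : W}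
    (h : ∀ v, ω v w = 0) : w = 0 := by
  by_contra hw
  obtain ⟨y, -, hy⟩ := hN w Submodule.mem_top hw
  apply hy
  rw [alt_skew hω, h, neg_zero]

/-- Siegel elements with pure tensor data -/
theorem sieg_pure_of (hB : OTBase α β Q M) {x c : ι → F} {y w : κ → F}
    (h : α x c * β y w = 0) (X : Matrix ι κ F) :
    sieg Q (tf α β) (vecMulVec x y) (vecMulVec c w) X =
      X + tf α β X (vecMulVec x y) • vecMulVec c w - tf α β X (vecMulVec c w) • vecMulVec x y := by
  rw [sieg_apply Q (tf α β) hB.hQs hB.hQp (hB.hpure x y) (by rw [tf_pure]; exact h), hB.hpure c w,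
    zero_mul, zero_smul, sub_zero]

/-- the kernel of `α x` is not contained in a line, `3 ≤ card ι` -/
theorem exists_orth_notMem_span (h3 : 3 ≤ Fintype.card ι) (x c : ι → F) :
    ∃ x' : ι → F, α x x' = 0 ∧ x' ∉ Submodule.span F {c} := by
  by_contra hcon
  push Not at hcon
  have hle : LinearMap.ker (α x) ≤ Submodule.span F {c} := fun v hv => hcon v hv
  have h1 : finrank F (LinearMap.ker (α x)) ≤ 1 := by
    refine (Submodule.finrank_mono hle).trans ?_
    have := finrank_span_finset_le_card (R := F) ({c} : Finset (ι → F))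
    rwa [Finset.coe_singleton, Finset.card_singleton] at this
  have h2 := LinearMap.finrank_range_add_finrank_ker (α x)
  have h3' : finrank F (LinearMap.range (α x)) ≤ 1 := by
    have := Submodule.finrank_le (LinearMap.range (α x))
    rwa [finrank_self] at this
  rw [finrank_fintype_fun_eq_card] at h2
  omega

/-- a vector orthogonal to `c` and not to `x'`, for `x' ∉ ⟨c⟩` -/
theorem exists_orth_left_not (hα : ∀ x, α x x = 0) (hαN : NondegOn α ⊤) {c x' : ι → F}
    (hc : c ≠ 0) (hx' : x' ∉ Submodule.span F {c}) :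
    ∃ c₁ : ι → F, α c₁ c = 0 ∧ α c₁ x' ≠ 0 := by
  by_contra hcon
  push Not at hcon
  obtain ⟨u₀, hu₀⟩ := exists_pair_one hαN hc
  -- `u` with `α u c = 1`
  have hu : α (-u₀) c = 1 := by
    rw [map_neg, LinearMap.neg_apply, ← alt_skew hα, hu₀]
  apply hx'
  have hz : x' - α (-u₀) x' • c = 0 := by
    apply eq_zero_of_forall_left hα hαN
    intro v
    have h1 : α (v - α v c • (-u₀)) c = 0 := by
      rw [map_sub, LinearMap.sub_apply, map_smul, LinearMap.smul_apply, hu, smul_eq_mul, mul_one,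
        sub_self]
    have h2 := hcon _ h1
    rw [map_sub, LinearMap.sub_apply, map_smul, LinearMap.smul_apply, smul_eq_mul] at h2
    rw [map_sub, map_smul, smul_eq_mul]
    linear_combination h2
  rw [sub_eq_zero.mp hz]
  exact Submodule.smul_mem _ _ (Submodule.mem_span_singleton_self c)

theorem gen3 [Finite F] (hC : OTCtx α β Q M)
    (h : ∀ (x a : ι → F) (y z : κ → F), x ≠ 0 → y ≠ 0 → β y z = 0 →
      InZ Q (tf α β) M (vecMulVec x y) (vecMulVec a z)) :
    ∀ (x c : ι → F) (y b : κ → F), x ≠ 0 → y ≠ 0 → α x c = 0 →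
      InZ Q (tf α β) M (vecMulVec x y) (vecMulVec c b) := by
  intro x c y b hx hy hxc
  have hB := hC.base
  have hQs := hB.hQs
  have hQp := hB.hQp
  have hw : Q (vecMulVec x y) = 0 := hB.hpure x y
  -- the key claim
  have key : ∀ yp : κ → F, β y yp = 1 →
      InZ Q (tf α β) M (vecMulVec x y) (vecMulVec c yp) := by
    intro yp hyp
    by_cases hc : c = 0
    · rw [hc, zero_vecMulVec]
      exact Cfsg.Agent.Lib.Helper94_OrthNondeg.InZ_zero hQs hQp hw
    have hyp0 : yp ≠ 0 := by
      rintro rfl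
      rw [map_zero] at hyp
      exact zero_ne_one hyp
    obtain ⟨x', hxx', hx'c⟩ := exists_orth_notMem_span (α := α)
      (by have := hC.ha; omega) x c
    have hx'0 : x' ≠ 0 := by
      rintro rfl
      exact hx'c (Submodule.zero_mem _)
    obtain ⟨c₁, hc₁c, hc₁x'⟩ := exists_orth_left_not hB.hα hB.hαN hc hx'c
    have hypyp : β yp yp = 0 := hB.hβ yp
    have hf0 : tf α β (vecMulVec x' yp) (vecMulVec c yp) = 0 := by
      rw [tf_pure, hypyp, mul_zero]
    have hgM : sieg Q (tf α β) (vecMulVec x' yp) (vecMulVec c yp) ∈ M := by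
      have := (h x' c yp yp hx'0 hyp0 hypyp).2 1
      rwa [one_smul] at this
    have hgO : sieg Q (tf α β) (vecMulVec x' yp) (vecMulVec c yp) ∈ oG Q :=
      sieg_mem_oG Q (tf α β) hQs hQp (hB.hpure x' yp) hf0
    have hg1 : sieg Q (tf α β) (vecMulVec x' yp) (vecMulVec c yp) (vecMulVec x y) =
        vecMulVec x y := by
      rw [sieg_pure_of hB (by rw [hypyp, mul_zero]), tf_pure, tf_pure, hxx', hxc, zero_mul,
        zero_smul, zero_smul, add_zero, sub_zero]
    have hg2 : sieg Q (tf α β) (vecMulVec x' yp) (vecMulVec c yp) (vecMulVec c₁ y) =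
        vecMulVec c₁ y + α c₁ x' • vecMulVec c yp := by
      rw [sieg_pure_of hB (by rw [hypyp, mul_zero]), tf_pure, tf_pure, hc₁c, hyp, zero_mul,
        zero_smul, sub_zero, mul_one]
    have h1 : InZ Q (tf α β) M (vecMulVec x y) (vecMulVec c₁ y) :=
      h x c₁ y y hx hy (hB.hβ y)
    have h2 := Cfsg.Agent.Lib.Helper94_OrthNondeg.InZ_map hQs hQp hgM hgO hw h1
    rw [hg1, hg2] at h2
    have h3 := Cfsg.Agent.Lib.Helper94_OrthNondeg.InZ_sub hQs hQp hw h2 h1
    rw [add_sub_cancel_left] at h3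
    have h4 := Cfsg.Agent.Lib.Helper94_OrthNondeg.InZ_smul (α c₁ x')⁻¹ h3
    rwa [smul_smul, inv_mul_cancel₀ hc₁x', one_smul] at h4
  obtain ⟨yp, hyp⟩ := exists_pair_one hB.hβN hy
  have hb' : β y (b - β y b • yp) = 0 := by
    rw [map_sub, map_smul, hyp, smul_eq_mul, mul_one, sub_self]
  have h1 := h x c y _ hx hy hb'
  have h2 := Cfsg.Agent.Lib.Helper94_OrthNondeg.InZ_smul (β y b) (key yp hyp)
  have h3 := Cfsg.Agent.Lib.Helper94_OrthNondeg.InZ_add hQs hQp hw h1 h2
  have he : vecMulVec c (b - β y b • yp) + β y b • vecMulVec c yp = vecMulVec c b := by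
    rw [vecMulVec_sub, vecMulVec_smul, sub_add_cancel]
  rwa [he] at h3

end Cfsg.Agent.Lib.Helper88_OT_GEN3
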