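import Mathlib
import Cfsg.Agent.Lib.Helper38_OTDefs
import Cfsg.Agent.Lib.Helper94_OrthVec
import Cfsg.Agent.Lib.Helper17_UT_BAS1
import Cfsg.Agent.Lib.Helper73_Tens_TP1

set_option autoImplicit false
set_option linter.unusedSectionVars false
set_option linter.unusedVariables false

/-!
OTENS4 package OT-GEN4 (helper88, for helper38; target S5704).
Statement `gen4` verbatim from `pending/helper38/OTENS4_packages1.lean.txt`.
Paper proof: `pending/helper38/OTENS4_proof.md`, section 1, GEN4.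
-/

namespace Cfsg.Agent.Lib.Helper88_OT_GEN4

open Matrix Module
open Cfsg.Agent.Lib.Helper98_ExtDefs Cfsg.Agent.Lib.Helper97_TensDefs
open Cfsg.Agent.Lib.Helper94_Herm
open Cfsg.Agent.Lib.Helper67_UT2Defs Cfsg.Agent.Lib.Helper37_UTDefs
open Cfsg.Agent.Lib.Helper37_UTPairDefs
open Cfsg.Agent.Lib.Helper94_OrthSmall Cfsg.Agent.Lib.Helper94_OrthSiegel
open Cfsg.Agent.Lib.Helper94_OrthNondeg (InZ)
open Cfsg.Agent.Lib.Helper67_T2ODefs (IsAltMap aw)
open Cfsg.Agent.Lib.Helper38_OTDefs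
open Cfsg.Agent.Lib.Helper17_UT_BAS1 (tf_pure tf_right_pure' ctrA_pure)

variable {F : Type*} [Field F] {ι κ : Type*} [Fintype ι] [Fintype κ] [DecidableEq ι]
  [DecidableEq κ]
variable {α : LinearMap.BilinForm F (ι → F)} {β : LinearMap.BilinForm F (κ → F)}
variable {Q : Matrix ι κ F → F} {M : Subgroup (Matrix ι κ F ≃ₗ[F] Matrix ι κ F)}

/-- an alternating form is skew -/
theorem alt_skew4 {W : Type*} [AddCommGroup W] [Module F W] {ω : LinearMap.BilinForm F W}
    (hω : ∀ x, ω x x = 0) (x y : W) : ω x y = - ω y x := by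
  have h := hω (x + y)
  simp only [map_add, LinearMap.add_apply, hω, zero_add, add_zero] at h
  linear_combination h

/-- a vector paired to `1` from the left -/
theorem exists_pair_one_left {W : Type*} [AddCommGroup W] [Module F W]
    {ω : LinearMap.BilinForm F W} (hω : ∀ x, ω x x = 0)
    (hN : NondegOn ω ⊤) {x : W} (hx : x ≠ 0) : ∃ y : W, ω y x = 1 := by
  obtain ⟨y, -, hy⟩ := hN x Submodule.mem_top hx
  refine ⟨-((ω x y)⁻¹ • y), ?_⟩
  rw [map_neg, LinearMap.neg_apply, ← alt_skew4 hω, map_smul, smul_eq_mul, inv_mul_cancel₀ hy]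

/-- `InZ` is closed under finite sums -/
theorem InZ_sum [Finite F] (hB : OTBase α β Q M) {W : Matrix ι κ F} (hW : Q W = 0)
    {J : Type*} (s : Finset J) (v : J → Matrix ι κ F)
    (hv : ∀ j ∈ s, InZ Q (tf α β) M W (v j)) : InZ Q (tf α β) M W (∑ j ∈ s, v j) := by
  classical
  induction s using Finset.induction_on with
  | empty =>
    rw [Finset.sum_empty]
    exact Cfsg.Agent.Lib.Helper94_OrthNondeg.InZ_zero hB.hQs hB.hQp hW
  | insert a s ha ih =>
    rw [Finset.sum_insert ha]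
    exact Cfsg.Agent.Lib.Helper94_OrthNondeg.InZ_add hB.hQs hB.hQp hW
      (hv a (Finset.mem_insert_self a s))
      (ih fun j hj => hv j (Finset.mem_insert_of_mem hj))

theorem gen4 [Finite F] (hC : OTCtx α β Q M)
    (h2 : ∀ (x a : ι → F) (y z : κ → F), x ≠ 0 → y ≠ 0 → β y z = 0 →
      InZ Q (tf α β) M (vecMulVec x y) (vecMulVec a z))
    (h3 : ∀ (x c : ι → F) (y b : κ → F), x ≠ 0 → y ≠ 0 → α x c = 0 →
      InZ Q (tf α β) M (vecMulVec x y) (vecMulVec c b)) :
    ∀ (x : ι → F) (y : κ → F) (Z : Matrix ι κ F), x ≠ 0 → y ≠ 0 →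
      tf α β (vecMulVec x y) Z = 0 → sieg Q (tf α β) (vecMulVec x y) Z ∈ M := by
  intro x y Z hx hy hZ
  have hB := hC.base
  have hQs := hB.hQs
  have hQp := hB.hQp
  have hw : Q (vecMulVec x y) = 0 := hB.hpure x y
  obtain ⟨xs, hxs⟩ := exists_pair_one_left hB.hα hB.hαN hx
  -- `b₀ := ctrA α x Z`, `Z' := Z - x* ⊗ b₀`
  have hb0 : β y (ctrA α x Z) = 0 := by
    rw [alt_skew4 hB.hβ, ← tf_right_pure', ← B_symm Q (tf α β) hQp, hZ, neg_zero]
  have hZ' : ctrA α x (Z - vecMulVec xs (ctrA α x Z)) = 0 := by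
    rw [map_sub, ctrA_pure, hxs, one_smul, sub_self]
  have hcol : ∀ j, α x (colv (Z - vecMulVec xs (ctrA α x Z)) j) = 0 := by
    intro j
    have := congrFun hZ' j
    rw [ctrA_apply, Pi.zero_apply] at this
    rw [alt_skew4 hB.hα, this, neg_zero]
  have h1 : InZ Q (tf α β) M (vecMulVec x y) (Z - vecMulVec xs (ctrA α x Z)) := by
    rw [Cfsg.Agent.Lib.Helper73_Tens_TP1.eq_sum_col (Z - vecMulVec xs (ctrA α x Z))]
    apply InZ_sum hB hw
    intro j _
    exact h3 x _ y _ hx hy (hcol j)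
  have h4 := Cfsg.Agent.Lib.Helper94_OrthNondeg.InZ_add hQs hQp hw h1
    (h2 x xs y _ hx hy hb0)
  rw [sub_add_cancel] at h4
  have := h4.2 1
  rwa [one_smul] at this

end Cfsg.Agent.Lib.Helper88_OT_GEN4
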