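import Mathlib
import Cfsg.Agent.Lib.Helper13_OrthC8Defs

/-!
# S5981 package DP (helper88): a transvection is not a similarity of a nondegenerate symmetric form

`x = 1 + E_01`.  `xᵀ A x = c A` gives `(x^p)ᵀ A x^p = c^p A`, so `c^p = 1`, `c = 1` (char `p`).
With `B u v = u ⬝ᵥ A *ᵥ v`: `x e_k = e_k` for `k ≠ 1`, `x e_1 = e_1 + e_0`, so `B e_k e_0 = 0` for
`k ≠ 1` and `2 B e_1 e_0 = 0`: the column `0` of `A` vanishes.
-/

set_option autoImplicit false

namespace Cfsg.Agent.Lib.Helper88_OrthC8_DP

open Matrix Cfsg.Agent.Lib.Helper13_OrthC8Defs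

theorem transvection_pow {ι : Type} [Fintype ι] [DecidableEq ι] {F : Type*} [CommRing F]
    (i j : ι) (hij : i ≠ j) (c : F) (k : ℕ) :
    (Matrix.transvection i j c) ^ k = Matrix.transvection i j (k * c) := by
  induction k with
  | zero => simp
  | succ k ih =>
    rw [pow_succ, ih, Matrix.transvection_mul_transvection_same i j hij]
    congr 1
    push_cast
    ring

theorem simM_pow {ι : Type} [Fintype ι] [DecidableEq ι] {F : Type*} [Field F]
    (A x : Matrix ι ι F) (c : F) (h : xᵀ * A * x = c • A) (k : ℕ) :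
    (x ^ k)ᵀ * A * x ^ k = c ^ k • A := by
  induction k with
  | zero => simp
  | succ k ih =>
    rw [pow_succ', Matrix.transpose_mul]
    calc (x ^ k)ᵀ * xᵀ * A * (x * x ^ k) = (x ^ k)ᵀ * (xᵀ * A * x) * x ^ k := by
          simp only [Matrix.mul_assoc]
      _ = c ^ (k + 1) • A := by
          rw [h, Matrix.mul_smul, Matrix.smul_mul, ih, smul_smul, pow_succ']

/-- DP -/
theorem DP {F : Type*} [Field F] (p : ℕ) [Fact p.Prime] [CharP F p] (hp2 : p ≠ 2) {n : ℕ} (hn : 2 ≤ n) :
    ∃ x : Matrix (Fin n) (Fin n) F, x.det = 1 ∧ x ^ p = 1 ∧ (∀ z : F, x ≠ z • 1) ∧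
      ∀ A : Matrix (Fin n) (Fin n) F, Aᵀ = A → A.det ≠ 0 → ¬ SimM A x := by
  set i0 : Fin n := ⟨0, by omega⟩ with hi0
  set i1 : Fin n := ⟨1, by omega⟩ with hi1
  have h01 : i0 ≠ i1 := by
    intro h
    have := congrArg Fin.val h
    simp [hi0, hi1] at this
  have h2F : (2 : F) ≠ 0 := by
    intro h
    have h2' : ((2 : ℕ) : F) = 0 := by exact_mod_cast h
    rw [CharP.cast_eq_zero_iff F p] at h2'
    have hp : p.Prime := Fact.out
    exact hp2 ((Nat.prime_dvd_prime_iff_eq hp Nat.prime_two).mp h2')
  set x : Matrix (Fin n) (Fin n) F := Matrix.transvection i0 i1 1 with hx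
  have hxp : x ^ p = 1 := by
    rw [hx, transvection_pow i0 i1 h01, CharP.cast_eq_zero F p, zero_mul, Matrix.transvection_zero]
  -- action on the standard basis
  have hxe : ∀ k : Fin n, k ≠ i1 → x *ᵥ Pi.single k 1 = Pi.single k 1 := by
    intro k hk
    rw [Matrix.mulVec_single_one]
    funext i
    simp only [Matrix.col_apply, hx, Matrix.transvection, Matrix.add_apply, Matrix.single_apply,
      Matrix.one_apply, Pi.single_apply]
    have : ¬ (i0 = i ∧ i1 = k) := fun h => hk h.2.symm
    simp [this]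
  have hxe1 : x *ᵥ Pi.single i1 1 = Pi.single i1 1 + Pi.single i0 1 := by
    rw [Matrix.mulVec_single_one]
    funext i
    simp only [Matrix.col_apply, hx, Matrix.transvection, Matrix.add_apply, Matrix.single_apply,
      Matrix.one_apply, Pi.single_apply, Pi.add_apply]
    by_cases h : i = i0
    · subst h
      simp [h01]
    · have h' : ¬ i0 = i := fun h' => h h'.symm
      simp [h, h']
  refine ⟨x, ?_, hxp, ?_, ?_⟩
  · exact Matrix.det_transvection_of_ne i0 i1 h01 1
  · intro z hz
    have := congrFun (congrFun hz i0) i1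
    simp [hx, Matrix.transvection, h01] at this
  · rintro A hA hAd ⟨c, hc0, hc⟩
    have hA0 : A ≠ 0 := by
      intro h
      apply hAd
      rw [h]
      have : Nonempty (Fin n) := ⟨i0⟩
      exact Matrix.det_zero
    -- c = 1
    have hcp : c ^ p = 1 := by
      have h1 := simM_pow A x c hc p
      rw [hxp, Matrix.transpose_one, Matrix.one_mul, Matrix.mul_one] at h1
      by_contra hne
      apply hA0
      have h3 : (1 - c ^ p) • A = 0 := by
        rw [sub_smul, one_smul, ← h1, sub_self]
      rcases smul_eq_zero.mp h3 with h | h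
      · exact absurd (sub_eq_zero.mp h).symm hne
      · exact h
    have hc1 : c = 1 := by
      have h1 : (c - 1) ^ p = 0 := by rw [sub_pow_char, hcp, one_pow, sub_self]
      exact sub_eq_zero.mp (pow_eq_zero_iff (Fact.out : p.Prime).ne_zero |>.mp h1)
    rw [hc1, one_smul] at hc
    -- the form
    have hB : ∀ u v : Fin n → F, (x *ᵥ u) ⬝ᵥ A *ᵥ (x *ᵥ v) = u ⬝ᵥ A *ᵥ v := by
      intro u v
      rw [dot_conj, hc]
    have hent : ∀ i j : Fin n, (Pi.single i 1 : Fin n → F) ⬝ᵥ A *ᵥ (Pi.single j 1) = A i j := by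
      intro i j
      simp
    have hcol : ∀ k : Fin n, k ≠ i1 → A k i0 = 0 := by
      intro k hk
      have h1 := hB (Pi.single k 1) (Pi.single i1 1)
      rw [hxe k hk, hxe1, Matrix.mulVec_add, dotProduct_add, hent, hent] at h1
      exact left_eq_add.mp h1.symm |> fun h => by simpa using h
    have h00 : A i0 i0 = 0 := hcol i0 h01
    have h10 : A i1 i0 = 0 := by
      have h1 := hB (Pi.single i1 1) (Pi.single i1 1)
      rw [hxe1, Matrix.mulVec_add, dotProduct_add, add_dotProduct, add_dotProduct, hent, hent,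
        hent, hent, h00] at h1
      have hsym : A i0 i1 = A i1 i0 := by
        have := congrFun (congrFun hA i1) i0
        rwa [Matrix.transpose_apply] at this
      rw [hsym] at h1
      have h3 : (2 : F) * A i1 i0 = 0 := by linear_combination h1
      rcases mul_eq_zero.mp h3 with h | h
      · exact absurd h h2F
      · exact h
    apply hAd
    apply Matrix.det_eq_zero_of_column_eq_zero i0
    intro k
    by_cases hk : k = i1
    · rw [hk]; exact h10
    · exact hcol k hk

end Cfsg.Agent.Lib.Helper88_OrthC8_DP
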