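import Mathlib
import Cfsg.Prelude.Def_GeometricClasses
import Cfsg.Prelude.Def_Classical
import Cfsg.Agent.Lib.Helper88_OrthNDDefs
import Cfsg.Agent.Lib.Helper73_OTS_OW2
import Cfsg.Agent.Lib.Helper99_SubspaceCount
import Cfsg.Agent.Lib.Helper44_StdForms
import Cfsg.Agent.Lib.Helper44_SwapPairs
import Cfsg.Agent.Lib.Helper14_Siegel
import Cfsg.Agent.Lib.Helper14_SiegelAll
import Cfsg.Agent.Lib.Helper14_POmegaSimple
import Cfsg.Agent.Lib.Helper88_OrthND_GlueBasic

/-!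
# S5988, the case `r = p` (helper88)

`PΩ⁺_{2d}(q)` acting on the elliptic nondegenerate `m`-spaces: for `r = p` the unipotent element
`x = [[1, S], [0, 1]]` (`S` alternating of rank `2 ⌊d/2⌋`, a product of `⌊d/2⌋` commuting Siegel
elements) lies in `Ω`, has order `p`, and every `x`-invariant nondegenerate subspace `W` of even
dimension meets the totally singular subspace `E = {(a, 0)}` in half its dimension, hence is of
plus type.  Any characteristic.
-/

set_option autoImplicit false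
set_option linter.unusedSectionVars false
set_option linter.unusedVariables false

universe u

open scoped MatrixGroups

namespace Cfsg.Agent.Lib.Helper88_OrthCase_S5988_p

open Module Matrix Cfsg.Agent.Lib.Helper40_SpBasic Cfsg.Agent.Lib.Helper88_OrthNDDefs
  Cfsg.Agent.Lib.Helper44_StdForms

section generic

variable {F : Type u} [Field F] {V : Type u} [AddCommGroup V] [Module F V] [FiniteDimensional F V]

/-- a hyperplane section loses at most one dimension -/
theorem finrank_le_inf_ker_add_one (X : Submodule F V) (φ : V →ₗ[F] F) :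
    finrank F X ≤ finrank F (X ⊓ LinearMap.ker φ : Submodule F V) + 1 := by
  have h1 := LinearMap.finrank_range_add_finrank_ker (φ.domRestrict X)
  have h2 : finrank F (LinearMap.range (φ.domRestrict X)) ≤ 1 := by
    have := Submodule.finrank_le (LinearMap.range (φ.domRestrict X))
    rwa [Module.finrank_self] at this
  have h3 : finrank F (LinearMap.ker (φ.domRestrict X)) =
      finrank F (X ⊓ LinearMap.ker φ : Submodule F V) := by
    rw [LinearMap.ker_domRestrict]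
    have : Submodule.comap X.subtype (LinearMap.ker φ) =
        Submodule.comap X.subtype (X ⊓ LinearMap.ker φ) := by
      ext ⟨y, hy⟩
      simp [hy]
    rw [this]
    exact Cfsg.Agent.Lib.Helper99_SubspaceCount.finrank_comap_subtype inf_le_left
  omega

/-- rank-nullity for the restriction of an endomorphism to a subspace -/
theorem finrank_map_add_finrank_inf_ker (W : Submodule F V) (N : V →ₗ[F] V) :
    finrank F (W.map N) + finrank F (W ⊓ LinearMap.ker N : Submodule F V) = finrank F W := by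
  have h1 := LinearMap.finrank_range_add_finrank_ker (N.domRestrict W)
  rw [LinearMap.range_domRestrict] at h1
  have h3 : finrank F (LinearMap.ker (N.domRestrict W)) =
      finrank F (W ⊓ LinearMap.ker N : Submodule F V) := by
    rw [LinearMap.ker_domRestrict]
    have : Submodule.comap W.subtype (LinearMap.ker N) =
        Submodule.comap W.subtype (W ⊓ LinearMap.ker N) := by
      ext ⟨y, hy⟩
      simp [hy]
    rw [this]
    exact Cfsg.Agent.Lib.Helper99_SubspaceCount.finrank_comap_subtype inf_le_left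
  omega

/-- **the plus-type lemma**: `E` totally singular, `N V ≤ E ≤ ker N` with `E` of codimension at most
one in `ker N`; then every `N`-invariant nondegenerate subspace of even dimension is of plus type -/
theorem plusOn_of_nilpotent (Q : QuadraticForm F V) (E : Submodule F V) (hE : ∀ u ∈ E, Q u = 0)
    (N : V →ₗ[F] V) (hNE : ∀ v, N v ∈ E) (φ : V →ₗ[F] F)
    (hker : LinearMap.ker N ⊓ LinearMap.ker φ ≤ E) (W : Submodule F V)
    (hW : W.map N ≤ W) (hnd : NDOn (QuadraticMap.polarBilin Q) W) (hWe : Even (finrank F W)) :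
    PlusOn Q W := by
  have h1 := finrank_map_add_finrank_inf_ker W N
  have h2 : finrank F (W.map N) ≤ finrank F (W ⊓ E : Submodule F V) := by
    apply Submodule.finrank_mono
    rintro _ ⟨w, hw, rfl⟩
    exact ⟨hW ⟨w, hw, rfl⟩, hNE w⟩
  have h3 := finrank_le_inf_ker_add_one (W ⊓ LinearMap.ker N) φ
  have h4 : finrank F ((W ⊓ LinearMap.ker N) ⊓ LinearMap.ker φ : Submodule F V) ≤
      finrank F (W ⊓ E : Submodule F V) := by
    apply Submodule.finrank_mono
    rintro v ⟨⟨hvW, hvN⟩, hvφ⟩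
    exact ⟨hvW, hker ⟨hvN, hvφ⟩⟩
  have h5 : 2 * finrank F (W ⊓ E : Submodule F V) ≤ finrank F W :=
    Cfsg.Agent.Lib.Helper73_OTS_OW2.OW2 Q W hnd (W ⊓ E) inf_le_left
      (fun u hu => hE u hu.2)
  refine ⟨W ⊓ E, inf_le_left, fun u hu => hE u hu.2, ?_⟩
  obtain ⟨k, hk⟩ := hWe
  omega

end generic

section element

variable {F : Type u} [Field F] {d : ℕ}

/-- the block unitriangular matrix `[[1, S], [0, 1]]` -/
def sgMat (S : Matrix (Fin d) (Fin d) F) : Matrix (Fin d ⊕ Fin d) (Fin d ⊕ Fin d) F :=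
  Matrix.fromBlocks 1 S 0 1

theorem sgMat_mul (S S' : Matrix (Fin d) (Fin d) F) : sgMat S * sgMat S' = sgMat (S + S') := by
  unfold sgMat
  rw [Matrix.fromBlocks_multiply]
  simp [add_comm]

theorem sgMat_zero : sgMat (0 : Matrix (Fin d) (Fin d) F) = 1 := Matrix.fromBlocks_one

/-- `[[1, S], [0, 1]]` as an element of `GL` -/
def sg (S : Matrix (Fin d) (Fin d) F) : GL (Fin d ⊕ Fin d) F :=
  ⟨sgMat S, sgMat (-S), by rw [sgMat_mul, add_neg_cancel, sgMat_zero],
    by rw [sgMat_mul, neg_add_cancel, sgMat_zero]⟩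

theorem sg_coe (S : Matrix (Fin d) (Fin d) F) :
    ((sg S : GL (Fin d ⊕ Fin d) F) : Matrix (Fin d ⊕ Fin d) (Fin d ⊕ Fin d) F) = sgMat S := rfl

theorem sg_mul (S S' : Matrix (Fin d) (Fin d) F) : sg S * sg S' = sg (S + S') :=
  Units.ext (sgMat_mul S S')

theorem sg_zero : sg (0 : Matrix (Fin d) (Fin d) F) = 1 := Units.ext sgMat_zero

theorem sg_pow (S : Matrix (Fin d) (Fin d) F) (n : ℕ) : sg S ^ n = sg (n • S) := by
  induction n with
  | zero => rw [pow_zero, zero_smul, sg_zero]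
  | succ n ih => rw [pow_succ, ih, sg_mul, succ_nsmul]

theorem sgMat_mulVec (S : Matrix (Fin d) (Fin d) F) (v : Fin d ⊕ Fin d → F) :
    sgMat S *ᵥ v = Sum.elim (v ∘ Sum.inl + S *ᵥ (v ∘ Sum.inr)) (v ∘ Sum.inr) := by
  unfold sgMat
  rw [Matrix.fromBlocks_mulVec]
  simp

theorem sgMat_mulVec_inl (S : Matrix (Fin d) (Fin d) F) (v : Fin d ⊕ Fin d → F) (j : Fin d) :
    (sgMat S *ᵥ v) (Sum.inl j) = v (Sum.inl j) + (S *ᵥ (v ∘ Sum.inr)) j := by
  rw [sgMat_mulVec]; rfl

theorem sgMat_mulVec_inr (S : Matrix (Fin d) (Fin d) F) (v : Fin d ⊕ Fin d → F) (j : Fin d) :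
    (sgMat S *ᵥ v) (Sum.inr j) = v (Sum.inr j) := by
  rw [sgMat_mulVec]; rfl

/-- the elementary alternating matrix -/
def alt (j l : Fin d) : Matrix (Fin d) (Fin d) F := Matrix.single l j 1 - Matrix.single j l 1

theorem alt_mulVec (j l : Fin d) (b : Fin d → F) :
    (alt j l : Matrix (Fin d) (Fin d) F) *ᵥ b = Pi.single l (b j) - Pi.single j (b l) := by
  unfold alt
  rw [Matrix.sub_mulVec, Matrix.single_mulVec, Matrix.single_mulVec, one_mul, one_mul]
  rfl

theorem dot_alt (j l : Fin d) (b : Fin d → F) :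
    b ⬝ᵥ ((alt j l : Matrix (Fin d) (Fin d) F) *ᵥ b) = 0 := by
  rw [alt_mulVec, dotProduct_sub, dotProduct_single, dotProduct_single]
  ring

/-- `[[1, S], [0, 1]]` preserves the plus form when `S` is alternating -/
theorem qf_sgMat (S : Matrix (Fin d) (Fin d) F) (hS : ∀ b : Fin d → F, b ⬝ᵥ (S *ᵥ b) = 0)
    (v : Fin d ⊕ Fin d → F) :
    Cfsg.quadFormPlus d F (sgMat S *ᵥ v) = Cfsg.quadFormPlus d F v := by
  unfold Cfsg.quadFormPlus
  simp only [sgMat_mulVec_inl, sgMat_mulVec_inr, add_mul, Finset.sum_add_distrib]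
  have h := hS (v ∘ Sum.inr)
  rw [dotProduct_comm] at h
  have h' : ∑ i : Fin d, (S *ᵥ (v ∘ Sum.inr)) i * v (Sum.inr i) = 0 := h
  rw [h', add_zero]

theorem sg_mem_isometryGroup (S : Matrix (Fin d) (Fin d) F)
    (hS : ∀ b : Fin d → F, b ⬝ᵥ (S *ᵥ b) = 0) :
    sg S ∈ Cfsg.isometryGroup F (Cfsg.quadFormPlus d F) := by
  rw [Cfsg.Agent.Lib.Helper44_Orth.mem_isometryGroup_iff]
  intro u
  exact qf_sgMat S hS u

end element

section omega

variable {F : Type u} [Field F] [Fintype F] {d : ℕ}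

open Cfsg.Agent.Lib.Helper44_SwapPairs Cfsg.Agent.Lib.Helper14_Siegel

/-- an elementary `[[1, c (e_l ∧ e_j)], [0, 1]]` is a Siegel transformation, hence lies in `Ω` -/
theorem sg_alt_mem (hd : 5 ≤ 2 * d) (j l : Fin d) (hjl : j ≠ l) (c : F) :
    sg (c • (alt j l : Matrix (Fin d) (Fin d) F)) ∈ Cfsg.Geo.omegaGL (Cfsg.quadFormPlus d F) := by
  have hu : qfPlus d F (Pi.single (Sum.inl j) 1) = 0 := qfPlus_single_inl d F j
  have hv : qfPlus d F (Pi.single (Sum.inl l) 1) = 0 := qfPlus_single_inl d F l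
  have huv : QuadraticMap.polar (⇑(qfPlus d F)) (Pi.single (Sum.inl j) 1)
      (Pi.single (Sum.inl l) 1) = 0 := by
    rw [polar_single_inl]
    simp
  have hcard : 5 ≤ Fintype.card (Fin d ⊕ Fin d) := by
    rw [Fintype.card_sum, Fintype.card_fin]; omega
  have hmem := Cfsg.Agent.Lib.Helper14_SiegelAll.siegel_mem_omega (qfPlus d F)
    (Cfsg.Agent.Lib.Helper14_POmegaSimple.nondegenerate_qfPlus d) hcard _ _ c hu hv huv
  rw [← coe_qfPlus]
  refine ⟨siegel (qfPlus d F) _ _ c hu hv huv, hmem, ?_⟩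
  apply Units.ext
  show Cfsg.siegelMatrix (⇑(qfPlus d F)) _ _ c = sgMat (c • alt j l)
  apply Cfsg.Agent.Lib.Helper44_Refl.matrix_ext_mulVec
  intro x
  rw [siegelMatrix_mulVec, polar_single_inl, polar_single_inl]
  funext t
  rcases t with t | t
  · rw [sgMat_mulVec_inl, Matrix.smul_mulVec, alt_mulVec]
    simp only [Pi.add_apply, Pi.sub_apply, Pi.smul_apply, smul_eq_mul, Function.comp_apply,
      Pi.single_apply, Sum.inl.injEq]
    have hlj : l ≠ j := fun h => hjl h.symm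
    by_cases h1 : t = l
    · subst h1
      simp [hjl, hlj]
    · by_cases h2 : t = j
      · subst h2
        simp [hjl, hlj]
        ring
      · simp [h1, h2]
  · rw [sgMat_mulVec_inr]
    simp

end omega

section main

variable {F : Type u} [Field F] {d : ℕ}

/-- the index `2k` -/
def i₀ (k : Fin (d / 2)) : Fin d := ⟨2 * k.val, by have := k.2; omega⟩

/-- the index `2k + 1` -/
def i₁ (k : Fin (d / 2)) : Fin d := ⟨2 * k.val + 1, by have := k.2; omega⟩

theorem i₀_ne_i₁ (k k' : Fin (d / 2)) : (i₀ k : Fin d) ≠ i₁ k' := by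
  intro h
  have := congrArg Fin.val h
  simp only [i₀, i₁] at this
  omega

theorem i₀_inj {k k' : Fin (d / 2)} (h : (i₀ k : Fin d) = i₀ k') : k = k' := by
  have := congrArg Fin.val h
  simp only [i₀] at this
  exact Fin.ext (by omega)

theorem i₁_inj {k k' : Fin (d / 2)} (h : (i₁ k : Fin d) = i₁ k') : k = k' := by
  have := congrArg Fin.val h
  simp only [i₁] at this
  exact Fin.ext (by omega)

variable (F d) in
/-- the alternating matrix `∑ e_{2k+1} ∧ e_{2k}` of rank `2 ⌊d/2⌋` -/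
def S₀ : Matrix (Fin d) (Fin d) F := ∑ k : Fin (d / 2), alt (i₀ k) (i₁ k)

theorem S₀_mulVec (b : Fin d → F) :
    S₀ F d *ᵥ b = ∑ k : Fin (d / 2), (Pi.single (i₁ k) (b (i₀ k)) - Pi.single (i₀ k) (b (i₁ k))) := by
  unfold S₀
  rw [Matrix.sum_mulVec]
  apply Finset.sum_congr rfl
  intro k _
  rw [alt_mulVec]

theorem dot_S₀ (b : Fin d → F) : b ⬝ᵥ (S₀ F d *ᵥ b) = 0 := by
  unfold S₀
  rw [Matrix.sum_mulVec, dotProduct_sum]
  apply Finset.sum_eq_zero
  intro k _
  exact dot_alt _ _ b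

theorem S₀_mulVec_i₁ (b : Fin d → F) (k : Fin (d / 2)) : (S₀ F d *ᵥ b) (i₁ k) = b (i₀ k) := by
  rw [S₀_mulVec, Finset.sum_apply, Finset.sum_eq_single k]
  · simp [Pi.single_apply, (i₀_ne_i₁ k k).symm]
  · intro k' _ hk'
    have h1 : (i₁ k : Fin d) ≠ i₁ k' := fun h => hk' (i₁_inj h).symm
    simp [Pi.single_apply, h1, (i₀_ne_i₁ k' k).symm]
  · simp

theorem S₀_mulVec_i₀ (b : Fin d → F) (k : Fin (d / 2)) : (S₀ F d *ᵥ b) (i₀ k) = - b (i₁ k) := by
  rw [S₀_mulVec, Finset.sum_apply, Finset.sum_eq_single k]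
  · simp [Pi.single_apply, i₀_ne_i₁ k k]
  · intro k' _ hk'
    have h1 : (i₀ k : Fin d) ≠ i₀ k' := fun h => hk' (i₀_inj h).symm
    simp [Pi.single_apply, h1, i₀_ne_i₁ k k']
  · simp

/-- the kernel of `S₀` lives on the last coordinate -/
theorem eq_zero_of_S₀_mulVec (b : Fin d → F) (h : S₀ F d *ᵥ b = 0)
    (hlast : ∀ t : Fin d, t.val + 1 = d → b t = 0) : b = 0 := by
  funext t
  by_cases ht : t.val < 2 * (d / 2)
  · have hk : t.val / 2 < d / 2 := by omega
    rcases Nat.mod_two_eq_zero_or_one t.val with h0 | h1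
    · have : t = i₀ ⟨t.val / 2, hk⟩ := Fin.ext (by simp only [i₀]; omega)
      rw [this]
      have h2 := S₀_mulVec_i₁ b ⟨t.val / 2, hk⟩
      rw [h] at h2
      exact h2.symm
    · have : t = i₁ ⟨t.val / 2, hk⟩ := Fin.ext (by simp only [i₁]; omega)
      rw [this]
      have h2 := S₀_mulVec_i₀ b ⟨t.val / 2, hk⟩
      rw [h] at h2
      simpa using h2.symm
  · exact hlast t (by have := t.2; omega)

end main

section final

variable {F : Type u} [Field F] [Fintype F] {d : ℕ}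

open Cfsg.Agent.Lib.Helper88_OrthND_GlueBasic

theorem sg_S₀_mem (hd : 5 ≤ 2 * d) :
    sg (S₀ F d) ∈ Cfsg.Geo.omegaGL (Cfsg.quadFormPlus d F) := by
  have key : ∀ s : Finset (Fin (d / 2)),
      sg (∑ k ∈ s, (alt (i₀ k) (i₁ k) : Matrix (Fin d) (Fin d) F)) ∈
        Cfsg.Geo.omegaGL (Cfsg.quadFormPlus d F) := by
    intro s
    induction s using Finset.induction_on with
    | empty =>
      rw [Finset.sum_empty, sg_zero]
      exact one_mem _
    | insert a s ha ih =>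
      rw [Finset.sum_insert ha, ← sg_mul]
      refine mul_mem ?_ ih
      have := sg_alt_mem (F := F) hd (i₀ a) (i₁ a) (i₀_ne_i₁ a a) 1
      rwa [one_smul] at this
  exact key Finset.univ

theorem sg_pow_char (p : ℕ) [CharP F p] (S : Matrix (Fin d) (Fin d) F) : sg S ^ p = 1 := by
  rw [sg_pow, ← Nat.cast_smul_eq_nsmul F, CharP.cast_eq_zero, zero_smul, sg_zero]

theorem sg_S₀_not_scalar (hd : 2 ≤ d) (z : F) :
    ((sg (S₀ F d) : GL (Fin d ⊕ Fin d) F) : Matrix (Fin d ⊕ Fin d) (Fin d ⊕ Fin d) F) ≠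
      z • (1 : Matrix (Fin d ⊕ Fin d) (Fin d ⊕ Fin d) F) := by
  intro h
  rw [sg_coe] at h
  have hk : 0 < d / 2 := by omega
  set k : Fin (d / 2) := ⟨0, hk⟩
  have h1 := congrFun (congrArg (fun M => M *ᵥ (Pi.single (Sum.inr (i₀ k)) (1 : F))) h) (Sum.inl (i₁ k))
  simp only [sgMat_mulVec_inl, Matrix.smul_mulVec, Matrix.one_mulVec, Pi.smul_apply] at h1
  rw [S₀_mulVec_i₁] at h1
  simp at h1

/-- every invariant nondegenerate even-dimensional subspace of `sg S₀` is of plus type -/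
theorem plusOn_of_invariant (hd : 1 ≤ d) (W : Submodule F (Fin d ⊕ Fin d → F))
    (hinv : W.map (Matrix.toLin' ((sg (S₀ F d) : GL (Fin d ⊕ Fin d) F) :
      Matrix (Fin d ⊕ Fin d) (Fin d ⊕ Fin d) F)) ≤ W)
    (hnd : NDOn (QuadraticMap.polarBilin (qfPlus d F)) W) (hWe : Even (finrank F W)) :
    PlusOn (qfPlus d F) W := by
  rw [sg_coe] at hinv
  set N : (Fin d ⊕ Fin d → F) →ₗ[F] (Fin d ⊕ Fin d → F) := Matrix.toLin' (sgMat (S₀ F d)) - 1
    with hN
  have hNl : ∀ v j, N v (Sum.inl j) = (S₀ F d *ᵥ (v ∘ Sum.inr)) j := by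
    intro v j
    rw [hN, LinearMap.sub_apply, Matrix.toLin'_apply, Pi.sub_apply, sgMat_mulVec_inl]
    simp
  have hNr : ∀ v j, N v (Sum.inr j) = 0 := by
    intro v j
    rw [hN, LinearMap.sub_apply, Matrix.toLin'_apply, Pi.sub_apply, sgMat_mulVec_inr]
    simp
  set E : Submodule F (Fin d ⊕ Fin d → F) :=
    LinearMap.ker (LinearMap.funLeft F F (Sum.inr : Fin d → Fin d ⊕ Fin d)) with hE
  have hEmem : ∀ v, v ∈ E ↔ ∀ j, v (Sum.inr j) = 0 := by
    intro v
    rw [hE, LinearMap.mem_ker]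
    constructor
    · intro h j
      exact congrFun h j
    · intro h
      funext j
      exact h j
  refine plusOn_of_nilpotent (qfPlus d F) E ?_ N ?_
    (LinearMap.proj (Sum.inr ⟨d - 1, by omega⟩)) ?_ W ?_ hnd hWe
  · intro u hu
    rw [coe_qfPlus]
    unfold Cfsg.quadFormPlus
    apply Finset.sum_eq_zero
    intro i _
    rw [(hEmem u).1 hu i, mul_zero]
  · intro v
    rw [hEmem]
    exact hNr v
  · rintro v ⟨hvN, hvφ⟩
    rw [hEmem]
    have hb : v ∘ Sum.inr = 0 := by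
      apply eq_zero_of_S₀_mulVec
      · funext j
        rw [← hNl, LinearMap.mem_ker.1 hvN]
        rfl
      · intro t ht
        have : t = ⟨d - 1, by omega⟩ := Fin.ext (by simp only; omega)
        rw [this]
        exact hvφ
    intro j
    exact congrFun hb j
  · rintro _ ⟨w, hw, rfl⟩
    rw [hN, LinearMap.sub_apply]
    exact W.sub_mem (hinv ⟨w, hw, rfl⟩) hw

end final

/-- **S5988, the case `r = p`** (statement verbatim from `pending/helper13/ORTH_r2_rp_interface`) -/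
theorem S5988_p {F : Type*} [Field F] [Fintype F] {p : ℕ} [Fact p.Prime] [CharP F p] {q : ℕ} (hq : Fintype.card F = q)
    (d m : ℕ) (hd : 4 ≤ d) (hm : 2 ≤ m) (hme : Even m) (hmd : m < d)
    (r : ℕ) [Fact r.Prime]
    (hrΩ : r ∣ Nat.card {W : Submodule F (Fin d ⊕ Fin d → F) // Module.finrank F ↥W = m ∧ Cfsg.Geo.IsNondegenerateOn (QuadraticMap.polar (Cfsg.quadFormPlus d F)) W ∧ ¬ Cfsg.Geo.IsPlusTypeOn (Cfsg.quadFormPlus d F) W})
    (i c : ℕ) (hi : i = orderOf (q : ZMod r)) (hc : c = if Even i then i else 2 * i)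
    (hrp : r = p) :
    (∀ x : GL (Fin d ⊕ Fin d) F, x ∈ Cfsg.Geo.omegaGL (Cfsg.quadFormPlus d F) →
      (∃ z : F, ((x ^ r : GL (Fin d ⊕ Fin d) F) : Matrix (Fin d ⊕ Fin d) (Fin d ⊕ Fin d) F) = z • (1 : Matrix (Fin d ⊕ Fin d) (Fin d ⊕ Fin d) F)) →
      (∀ z : F, (x : Matrix (Fin d ⊕ Fin d) (Fin d ⊕ Fin d) F) ≠ z • (1 : Matrix (Fin d ⊕ Fin d) (Fin d ⊕ Fin d) F)) →
      ∃ W : Submodule F (Fin d ⊕ Fin d → F), (Module.finrank F ↥W = m ∧ Cfsg.Geo.IsNondegenerateOn (QuadraticMap.polar (Cfsg.quadFormPlus d F)) W ∧ ¬ Cfsg.Geo.IsPlusTypeOn (Cfsg.quadFormPlus d F) W) ∧ W.map (Matrix.toLin' (x : Matrix (Fin d ⊕ Fin d) (Fin d ⊕ Fin d) F)) ≤ W) ↔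
    ((r = 2 ∧ p ≠ 2 ∧ ((Even d ∧ q % 4 = 3 ∧ m % 4 = 2) ∨ (Odd d ∧ q % 8 ≠ 1))) ∨
     (r ≠ p ∧ 2 < r ∧ Odd i ∧ c ≤ m ∧ 0 < m % c ∧ m % c < (2 * d) % c) ∨
     (r ≠ p ∧ 2 < r ∧ Even i ∧
       (((2 * d) % c = 0 ∧ (Odd ((2 * d) / i) ∨ (m % c = 0 ∧ Odd (m / i)))) ∨
        (i ≤ m ∧ ((0 < m % c ∧ m % c < (2 * d) % c) ∨
                  (0 < m % c ∧ m % c = (2 * d) % c ∧ Odd ((2 * d + m - 2 * ((2 * d) % c)) / i)) ∨
                  (m % c = 0 ∧ 0 < (2 * d) % c ∧ Odd (m / i))))))) := by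
  constructor
  · intro hall
    exfalso
    obtain ⟨W, ⟨hWm, hWnd, hWnp⟩, hWinv⟩ := hall (sg (S₀ F d)) (sg_S₀_mem (by omega))
      ⟨1, by rw [hrp, sg_pow_char p, one_smul]; rfl⟩ (sg_S₀_not_scalar (by omega))
    apply hWnp
    rw [← Cfsg.Agent.Lib.Helper44_StdForms.coe_qfPlus,
      Cfsg.Agent.Lib.Helper88_OrthND_GlueBasic.plusOn_iff]
    rw [← Cfsg.Agent.Lib.Helper44_StdForms.coe_qfPlus,
      Cfsg.Agent.Lib.Helper88_OrthND_GlueBasic.ndOn_iff] at hWnd
    exact plusOn_of_invariant (by omega) W hWinv hWnd (hWm ▸ hme)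
  · rintro (h | h | h)
    · exact absurd (hrp ▸ h.1) h.2.1
    · exact absurd hrp h.1
    · exact absurd hrp h.1

end Cfsg.Agent.Lib.Helper88_OrthCase_S5988_p
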