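import Mathlib
import Cfsg.Prelude.Def_GeometricClasses
import Cfsg.Prelude.Def_Classical
import Cfsg.Agent.Lib.Helper44_Orth
import Cfsg.Agent.Lib.Helper44_WittMat
import Cfsg.Agent.Lib.Helper88_OrthNDDefs
import Cfsg.Agent.Lib.Helper88_OrthND_STR
import Cfsg.Agent.Lib.Helper89_OrthND_CLEM
import Cfsg.Agent.Lib.Helper99_SpAtoms

/-!
# S5974 / S5988 / S5990 (helper88): the generic row argument for odd `r ≠ p`

`generic_mpr`: if every valid number of atoms satisfies `Fix`, every element of `Ω(Q)` of order `r`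
modulo scalars stabilises an `(m, eta)`-space.  `generic_mp`: conversely (test elements + CLEM).
-/

set_option autoImplicit false
set_option linter.unusedSectionVars false
set_option linter.unusedVariables false

universe u

namespace Cfsg.Agent.Lib.Helper88_OrthND_Row

open Module Matrix Cfsg.Agent.Lib.Helper40_SpBasic Cfsg.Agent.Lib.Helper88_OrthNDDefs
  Cfsg.Agent.Lib.Helper99_SpAtoms Cfsg.Agent.Lib.Helper88_OrthND_STR
  Cfsg.Agent.Lib.Helper89_OrthND_CLEM Cfsg.Agent.Lib.Helper44_Orth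

variable {ι : Type} [Fintype ι] [DecidableEq ι] {F : Type u} [Field F]

theorem coe_pow_equiv {V : Type*} [AddCommGroup V] [Module F V] (g : V ≃ₗ[F] V) (n : ℕ) :
    ((g : V →ₗ[F] V)) ^ n = ((g ^ n : V ≃ₗ[F] V) : V →ₗ[F] V) := by
  induction n with
  | zero => rfl
  | succ k ih =>
    rw [pow_succ', pow_succ', ih]
    rfl

theorem isom_of_mem_omegaGL (Q : QuadraticForm F (ι → F)) (x : GL ι F)
    (hx : x ∈ Cfsg.Geo.omegaGL (⇑Q)) : x ∈ Cfsg.isometryGroup F (⇑Q) := by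
  obtain ⟨g, -, rfl⟩ := hx
  exact g.2

theorem Q_smul' (Q : QuadraticForm F (ι → F)) (z : F) (v : ι → F) : Q (z • v) = z * z * Q v := by
  rw [QuadraticMap.map_smul, smul_eq_mul]

/-- the scalar is `±1` -/
theorem scalar_sq (Q : QuadraticForm F (ι → F)) (hv₀ : ∃ v, Q v ≠ 0) (y : GL ι F)
    (hy : y ∈ Cfsg.isometryGroup F (⇑Q)) (z : F)
    (hz : (y : Matrix ι ι F) = z • (1 : Matrix ι ι F)) : z * z = 1 := by
  obtain ⟨v, hv⟩ := hv₀
  have h1 := (mem_isometryGroup_iff (⇑Q) y).1 hy v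
  rw [hz, Matrix.smul_mulVec, Matrix.one_mulVec, Q_smul'] at h1
  have h2 : (z * z - 1) * Q v = 0 := by linear_combination h1
  rcases mul_eq_zero.1 h2 with h | h
  · exact sub_eq_zero.1 h
  · exact absurd h hv

/-- the normalised operator `z • x` -/
theorem normalise (Q : QuadraticForm F (ι → F)) (hv₀ : ∃ v, Q v ≠ 0) (r : ℕ) (hrodd : Odd r)
    (x : GL ι F) (hx : x ∈ Cfsg.isometryGroup F (⇑Q)) (z : F)
    (hz : ((x ^ r : GL ι F) : Matrix ι ι F) = z • (1 : Matrix ι ι F))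
    (hns : ∀ z : F, (x : Matrix ι ι F) ≠ z • (1 : Matrix ι ι F)) :
    z ≠ 0 ∧ (∀ v, Q ((z • Matrix.toLin' (x : Matrix ι ι F)) v) = Q v) ∧
      (z • Matrix.toLin' (x : Matrix ι ι F)) ^ r = 1 ∧
      (z • Matrix.toLin' (x : Matrix ι ι F)) ≠ 1 := by
  have hxr : x ^ r ∈ Cfsg.isometryGroup F (⇑Q) := Subgroup.pow_mem _ hx r
  have hzz : z * z = 1 := scalar_sq Q hv₀ (x ^ r) hxr z hz
  have hz0 : z ≠ 0 := by
    rintro rfl
    simp at hzz
  refine ⟨hz0, ?_, ?_, ?_⟩
  · intro v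
    rw [LinearMap.smul_apply, Q_smul', hzz, one_mul, Matrix.toLin'_apply]
    exact (mem_isometryGroup_iff (⇑Q) x).1 hx v
  · rw [smul_pow, ← Matrix.toLin'_pow]
    have : ((x : Matrix ι ι F)) ^ r = z • (1 : Matrix ι ι F) := by
      rw [← hz, Units.val_pow_eq_pow_val]
    rw [this, map_smul, Matrix.toLin'_one, smul_smul]
    obtain ⟨k, hk⟩ := hrodd
    have : z ^ r * z = 1 := by
      rw [hk, pow_succ, pow_mul, sq, hzz, one_pow, one_mul, hzz]
    rw [this, one_smul]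
    rfl
  · intro h1
    apply hns z
    have h2 : Matrix.toLin' (x : Matrix ι ι F) = z • (1 : Module.End F (ι → F)) := by
      have := congrArg (fun f => z • f) h1
      simp only [smul_smul, hzz, one_smul] at this
      exact this
    apply Matrix.toLin'.injective
    rw [h2, map_smul, Matrix.toLin'_one]
    rfl

theorem inv_smul_iff (x : Matrix ι ι F) (z : F) (hz0 : z ≠ 0) (W : Submodule F (ι → F)) :
    Inv (z • Matrix.toLin' x) W ↔ W.map (Matrix.toLin' x) ≤ W := by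
  constructor
  · rintro h _ ⟨w, hw, rfl⟩
    have h1 := W.smul_mem z⁻¹ (h w hw)
    rwa [LinearMap.smul_apply, smul_smul, inv_mul_cancel₀ hz0, one_smul] at h1
  · intro h w hw
    rw [LinearMap.smul_apply]
    exact W.smul_mem z (h ⟨w, hw, rfl⟩)

variable [Fintype F] (p : ℕ) [Fact p.Prime] [CharP F p]

/-- sufficiency -/
theorem generic_mpr (Q : QuadraticForm F (ι → F)) (hQ : (QuadraticMap.polarBilin Q).Nondegenerate)
    (hv₀ : ∃ v, Q v ≠ 0) (r : ℕ) (hr : r.Prime) (hr2 : r ≠ 2) (hrp : r ≠ p) (D : ℕ)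
    (hD : Fintype.card ι = D) (hDe : Even D) (m : ℕ) (hme : Even m) (eta : Prop)
    (hfix : ∀ a, Valid (orderOf ((Fintype.card F : ℕ) : ZMod r)) (atomDim F r) D (PlusOn Q ⊤) a →
      Fix (orderOf ((Fintype.card F : ℕ) : ZMod r)) (atomDim F r) D m (PlusOn Q ⊤) eta a)
    (x : GL ι F) (hx : x ∈ Cfsg.Geo.omegaGL (⇑Q)) (z : F)
    (hz : ((x ^ r : GL ι F) : Matrix ι ι F) = z • (1 : Matrix ι ι F))
    (hns : ∀ z : F, (x : Matrix ι ι F) ≠ z • (1 : Matrix ι ι F)) :
    ∃ W : Submodule F (ι → F), finrank F W = m ∧ NDOn (QuadraticMap.polarBilin Q) W ∧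
      (PlusOn Q W ↔ eta) ∧ W.map (Matrix.toLin' (x : Matrix ι ι F)) ≤ W := by
  have hxi := isom_of_mem_omegaGL Q x hx
  obtain ⟨hz0, hT, hTr, hT1⟩ := normalise Q hv₀ r (hr.odd_of_ne_two hr2) x hxi z hz hns
  obtain ⟨a, -, hval, hstr⟩ := STR p Q hQ _ hT r hr hr2 hrp hTr D _
    (by rw [Module.finrank_fintype_fun_eq_card, hD]) hDe rfl
  obtain ⟨W, hWinv, hWnd, hWd, hWt⟩ := ((hstr m eta hme).2 (hfix a (hval hT1)))
  exact ⟨W, hWd, hWnd, hWt, (inv_smul_iff _ z hz0 W).1 hWinv⟩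

/-- necessity -/
theorem generic_mp (Q : QuadraticForm F (ι → F)) (hQ : (QuadraticMap.polarBilin Q).Nondegenerate)
    (hv₀ : ∃ v, Q v ≠ 0) (r : ℕ) (hr : r.Prime) (hr2 : r ≠ 2) (hrp : r ≠ p) (D : ℕ)
    (hD : Fintype.card ι = D) (hDe : Even D) (m : ℕ) (hme : Even m) (eta : Prop)
    (hodd : ∀ x : GL ι F, x ∈ Cfsg.isometryGroup F (⇑Q) → x ^ r = 1 → x ∈ Cfsg.Geo.omegaGL (⇑Q))
    (helt : ∀ a, Valid (orderOf ((Fintype.card F : ℕ) : ZMod r)) (atomDim F r) D (PlusOn Q ⊤) a →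
      ∃ x : GL ι F, x ∈ Cfsg.Geo.omegaGL (⇑Q) ∧ x ^ r = 1 ∧
        finrank F (LinearMap.ker (Matrix.toLin' (x : Matrix ι ι F) - 1)) = D - atomDim F r * a)
    (hne : ∃ W : Submodule F (ι → F), finrank F W = m ∧ NDOn (QuadraticMap.polarBilin Q) W ∧
      (PlusOn Q W ↔ eta))
    (hdvd : r ∣ Nat.card {W : Submodule F (ι → F) // finrank F W = m ∧
      NDOn (QuadraticMap.polarBilin Q) W ∧ (PlusOn Q W ↔ eta)})
    (hall : ∀ x : GL ι F, x ∈ Cfsg.Geo.omegaGL (⇑Q) →
      (∃ z : F, ((x ^ r : GL ι F) : Matrix ι ι F) = z • (1 : Matrix ι ι F)) →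
      (∀ z : F, (x : Matrix ι ι F) ≠ z • (1 : Matrix ι ι F)) →
      ∃ W : Submodule F (ι → F), finrank F W = m ∧ NDOn (QuadraticMap.polarBilin Q) W ∧
        (PlusOn Q W ↔ eta) ∧ W.map (Matrix.toLin' (x : Matrix ι ι F)) ≤ W) :
    atomDim F r ≤ m ∧
      ∀ a, Valid (orderOf ((Fintype.card F : ℕ) : ZMod r)) (atomDim F r) D (PlusOn Q ⊤) a →
        Fix (orderOf ((Fintype.card F : ℕ) : ZMod r)) (atomDim F r) D m (PlusOn Q ⊤) eta a := by
  have hrodd : Odd r := hr.odd_of_ne_two hr2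
  -- a nonscalar criterion for elements of order `r`
  have hnonscalar : ∀ x : GL ι F, x ∈ Cfsg.isometryGroup F (⇑Q) → x ^ r = 1 → x ≠ 1 →
      ∀ z : F, (x : Matrix ι ι F) ≠ z • (1 : Matrix ι ι F) := by
    intro x hxi hxr hx1 z hz
    have hzz : z * z = 1 := scalar_sq Q hv₀ x hxi z hz
    have hzr : z ^ r = 1 := by
      have h1 : ((x ^ r : GL ι F) : Matrix ι ι F) = 1 := by rw [hxr]; rfl
      rw [Units.val_pow_eq_pow_val, hz, smul_pow, one_pow] at h1
      obtain ⟨v, hv⟩ := hv₀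
      have hv0 : v ≠ 0 := by
        rintro rfl
        exact hv (map_zero Q)
      obtain ⟨k, hk⟩ : ∃ k, v k ≠ 0 := by
        by_contra hcon
        push Not at hcon
        exact hv0 (funext hcon)
      have h2 := congrFun (congrFun h1 k) k
      simpa using h2
    have hz1 : z = 1 := by
      obtain ⟨k, hk⟩ := hrodd
      rw [hk, pow_succ, pow_mul, sq, hzz, one_pow, one_mul] at hzr
      exact hzr
    apply hx1
    apply Units.ext
    rw [hz, hz1, one_smul]
    rfl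
  constructor
  · -- `c ≤ m` from CLEM
    by_contra hlt
    push Not at hlt
    obtain ⟨g, hgQ, hgr, hg1, hgfix⟩ := CLEM p Q hQ r hr hr2 hrp m hlt hme eta hne hdvd
    set y : ↥(Cfsg.isometryGroup F (⇑Q)) :=
      Cfsg.Agent.Lib.Helper44_WittMat.isomOfEquiv Q g hgQ with hy
    have hymul : ∀ v, ((y : GL ι F) : Matrix ι ι F) *ᵥ v = g v :=
      Cfsg.Agent.Lib.Helper44_WittMat.isomOfEquiv_mulVec Q g hgQ
    have hylin : Matrix.toLin' ((y : GL ι F) : Matrix ι ι F) = (g : (ι → F) →ₗ[F] (ι → F)) := by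
      apply LinearMap.ext
      intro v
      rw [Matrix.toLin'_apply, hymul]
      rfl
    have hyr : (y : GL ι F) ^ r = 1 := by
      apply Units.ext
      rw [Units.val_pow_eq_pow_val]
      apply Matrix.toLin'.injective
      rw [Matrix.toLin'_pow, hylin]
      rw [coe_pow_equiv, hgr]
      simp
    have hy1 : (y : GL ι F) ≠ 1 := by
      intro h
      apply hg1
      apply LinearEquiv.ext
      intro v
      have := hymul v
      rw [h] at this
      simpa using this.symm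
    obtain ⟨W, hWd, hWnd, hWt, hWinv⟩ := hall y (hodd y y.2 hyr) ⟨1, by rw [hyr, one_smul]; rfl⟩
      (hnonscalar y y.2 hyr hy1)
    rw [hylin] at hWinv
    exact hgfix W hWd hWnd hWt hWinv
  · intro a ha
    obtain ⟨x, hxΩ, hxr, hxfix⟩ := helt a ha
    have hxi := isom_of_mem_omegaGL Q x hxΩ
    have hipos : 0 < orderOf ((Fintype.card F : ℕ) : ZMod r) :=
      Cfsg.Agent.Lib.Helper99_SpTI.ord_pos (F := F) (p := p) hr hrp
    have hcpos : 0 < atomDim F r := atomDim_pos (F := F) (r := r) hipos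
    have hx1 : x ≠ 1 := by
      rintro rfl
      have h0 : Matrix.toLin' ((1 : GL ι F) : Matrix ι ι F) - 1 = 0 := by
        rw [Units.val_one, Matrix.toLin'_one]
        exact sub_self _
      rw [h0, LinearMap.ker_zero, finrank_top, Module.finrank_fintype_fun_eq_card, hD] at hxfix
      have := Nat.mul_le_mul_left (atomDim F r) ha.1
      have := ha.2.1
      omega
    have hz : ((x ^ r : GL ι F) : Matrix ι ι F) = (1 : F) • (1 : Matrix ι ι F) := by
      rw [hxr, one_smul]; rfl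
    have hns := hnonscalar x hxi hxr hx1
    obtain ⟨W, hWd, hWnd, hWt, hWinv⟩ := hall x hxΩ ⟨1, hz⟩ hns
    obtain ⟨hz0, hT, hTr, hT1⟩ := normalise Q hv₀ r hrodd x hxi 1 hz hns
    rw [one_smul] at hT hTr hT1
    obtain ⟨a₁, ha₁, -, hstr⟩ := STR p Q hQ _ hT r hr hr2 hrp hTr D _
      (by rw [Module.finrank_fintype_fun_eq_card, hD]) hDe hxfix
    have haa : a₁ = a := by
      have h1 := ha.2.1
      have h2 : atomDim F r * a₁ = atomDim F r * a := by omega
      exact Nat.eq_of_mul_eq_mul_left hcpos h2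
    rw [haa] at hstr
    apply (hstr m eta hme).1
    refine ⟨W, ?_, hWnd, hWd, hWt⟩
    have := (inv_smul_iff (x : Matrix ι ι F) 1 one_ne_zero W).2 hWinv
    rwa [one_smul] at this

end Cfsg.Agent.Lib.Helper88_OrthND_Row
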