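import Mathlib
import Cfsg.Prelude.Def_GeometricClasses
import Cfsg.Prelude.Def_Classical
import Cfsg.Agent.Lib.Helper99_SpAtoms
import Cfsg.Agent.Lib.Helper88_OrthNDDefs
import Cfsg.Agent.Lib.Helper88_OrthND_GlueBasic
import Cfsg.Agent.Lib.Helper88_OrthND_Row

/-!
# S5974 / S5988 / S5990 (helper88): the generic row statement for odd `r ≠ p`
-/

set_option autoImplicit false
set_option linter.unusedSectionVars false
set_option linter.unusedVariables false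

universe u

namespace Cfsg.Agent.Lib.Helper88_OrthND_Glue

open Module Matrix Cfsg.Agent.Lib.Helper40_SpBasic Cfsg.Agent.Lib.Helper88_OrthNDDefs
  Cfsg.Agent.Lib.Helper88_OrthND_GlueBasic

variable {ι : Type} [Fintype ι] [DecidableEq ι] {F : Type u} [Field F]

/-- the generic row statement for odd `r ≠ p` -/
theorem row_iff [Fintype F] (p : ℕ) [Fact p.Prime] [CharP F p] (Q : QuadraticForm F (ι → F))
    (hQ : (QuadraticMap.polarBilin Q).Nondegenerate) (hv₀ : ∃ v, Q v ≠ 0)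
    (hcard : 5 ≤ Fintype.card ι) (D : ℕ) (hD : Fintype.card ι = D) (hDe : Even D) (m : ℕ)
    (hm : 2 ≤ m) (hme : Even m) (hmD : m < D) (eta : Prop)
    (P : Submodule F (ι → F) → Prop)
    (hP : ∀ W, P W ↔ (finrank F W = m ∧ NDOn (QuadraticMap.polarBilin Q) W ∧ (PlusOn Q W ↔ eta)))
    (r : ℕ) (hr : r.Prime) (hr2 : r ≠ 2) (hrp : r ≠ p)
    (hrΩ : r ∣ Nat.card {W : Submodule F (ι → F) // P W})
    (eps : Prop) (heps : PlusOn Q ⊤ = eps)
    (helt : ∀ a, Valid (orderOf ((Fintype.card F : ℕ) : ZMod r))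
        (Cfsg.Agent.Lib.Helper99_SpAtoms.atomDim F r) D eps a →
      ∃ x : GL ι F, x ∈ Cfsg.Geo.omegaGL (⇑Q) ∧ x ^ r = 1 ∧
        finrank F (LinearMap.ker (Matrix.toLin' (x : Matrix ι ι F) - 1)) =
          D - Cfsg.Agent.Lib.Helper99_SpAtoms.atomDim F r * a)
    (Rhs : Prop)
    (hmpr : Rhs → ∀ a, Valid (orderOf ((Fintype.card F : ℕ) : ZMod r))
        (Cfsg.Agent.Lib.Helper99_SpAtoms.atomDim F r) D eps a →
      Fix (orderOf ((Fintype.card F : ℕ) : ZMod r))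
        (Cfsg.Agent.Lib.Helper99_SpAtoms.atomDim F r) D m eps eta a)
    (hmp : Cfsg.Agent.Lib.Helper99_SpAtoms.atomDim F r ≤ m →
      (∀ a, Valid (orderOf ((Fintype.card F : ℕ) : ZMod r))
        (Cfsg.Agent.Lib.Helper99_SpAtoms.atomDim F r) D eps a →
      Fix (orderOf ((Fintype.card F : ℕ) : ZMod r))
        (Cfsg.Agent.Lib.Helper99_SpAtoms.atomDim F r) D m eps eta a) → Rhs) :
    (∀ x : GL ι F, x ∈ Cfsg.Geo.omegaGL (⇑Q) →
      (∃ z : F, ((x ^ r : GL ι F) : Matrix ι ι F) = z • (1 : Matrix ι ι F)) →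
      (∀ z : F, (x : Matrix ι ι F) ≠ z • (1 : Matrix ι ι F)) →
      ∃ W : Submodule F (ι → F), P W ∧ W.map (Matrix.toLin' (x : Matrix ι ι F)) ≤ W) ↔ Rhs := by
  subst heps
  constructor
  · intro hall
    have hall' : ∀ x : GL ι F, x ∈ Cfsg.Geo.omegaGL (⇑Q) →
        (∃ z : F, ((x ^ r : GL ι F) : Matrix ι ι F) = z • (1 : Matrix ι ι F)) →
        (∀ z : F, (x : Matrix ι ι F) ≠ z • (1 : Matrix ι ι F)) →
        ∃ W : Submodule F (ι → F), finrank F W = m ∧ NDOn (QuadraticMap.polarBilin Q) W ∧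
          (PlusOn Q W ↔ eta) ∧ W.map (Matrix.toLin' (x : Matrix ι ι F)) ≤ W := by
      intro x hx hz hns
      obtain ⟨W, hPW, hinv⟩ := hall x hx hz hns
      obtain ⟨h1, h2, h3⟩ := (hP W).1 hPW
      exact ⟨W, h1, h2, h3, hinv⟩
    have hdvd : r ∣ Nat.card {W : Submodule F (ι → F) // finrank F W = m ∧
        NDOn (QuadraticMap.polarBilin Q) W ∧ (PlusOn Q W ↔ eta)} := by
      rw [← Nat.card_congr (Equiv.subtypeEquivRight hP)]
      exact hrΩ
    obtain ⟨h1, h2⟩ := Cfsg.Agent.Lib.Helper88_OrthND_Row.generic_mp p Q hQ hv₀ r hr hr2 hrp D hD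
      hDe m hme eta
      (fun x hx hxr => mem_omegaGL_of_odd Q hQ hv₀ hcard x hx r (hr.odd_of_ne_two hr2) hxr)
      helt (exists_space Q hQ (hD ▸ hDe) m hm hme (hD ▸ hmD) eta) hdvd hall'
    exact hmp h1 h2
  · intro hR x hx hz hns
    obtain ⟨z, hz⟩ := hz
    obtain ⟨W, h1, h2, h3, hinv⟩ := Cfsg.Agent.Lib.Helper88_OrthND_Row.generic_mpr p Q hQ hv₀ r hr
      hr2 hrp D hD hDe m hme eta (hmpr hR) x hx z hz hns
    exact ⟨W, (hP W).2 ⟨h1, h2, h3⟩, hinv⟩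

end Cfsg.Agent.Lib.Helper88_OrthND_Glue
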