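import Mathlib
import Cfsg.Prelude.Def_GeometricClasses
import Cfsg.Prelude.Def_Classical
import Cfsg.Agent.Lib.Helper44_StdForms
import Cfsg.Agent.Lib.Helper14_POmegaSimple
import Cfsg.Agent.Lib.Helper99_SpAtoms
import Cfsg.Agent.Lib.Helper99_SpTI
import Cfsg.Agent.Lib.Helper88_OrthNDDefs
import Cfsg.Agent.Lib.Helper88_OrthND_GlueBasic
import Cfsg.Agent.Lib.Helper88_OrthND_Glue
import Cfsg.Agent.Lib.Helper45_OrthND_ADefs
import Cfsg.Agent.Lib.Helper45_OrthND_A5974_mp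
import Cfsg.Agent.Lib.Helper45_OrthND_A5974_mpr
import Cfsg.Agent.Lib.Helper70_OrthND_ELT_plus
import Cfsg.Agent.Lib.Helper70_OrthND_ELT_minus
import Cfsg.Agent.Lib.Helper69_OrthND_A5988
import Cfsg.Agent.Lib.Helper69_OrthND_A5990

/-!
# S5974 / S5988 / S5990 (helper88): the case `r` odd, `r ≠ p`

Each theorem has the frozen binders of its row plus `(hr2 : r ≠ 2) (hrp : r ≠ p)` and the frozen
`LHS ↔ RHS`.
-/

set_option autoImplicit false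
set_option linter.unusedSectionVars false
set_option linter.unusedVariables false

open scoped MatrixGroups

namespace Cfsg.Agent.Lib.Helper88_OrthND_Odd

open Module Matrix Cfsg.Agent.Lib.Helper40_SpBasic Cfsg.Agent.Lib.Helper88_OrthNDDefs
  Cfsg.Agent.Lib.Helper44_StdForms Cfsg.Agent.Lib.Helper88_OrthND_Glue
  Cfsg.Agent.Lib.Helper88_OrthND_GlueBasic
  Cfsg.Agent.Lib.Helper45_OrthND_ADefs Cfsg.Agent.Lib.Helper99_SpAtoms

theorem exists_ne_zero_plus {F : Type*} [Field F] (d : ℕ) (hd : 1 ≤ d) :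
    ∃ v, qfPlus d F v ≠ 0 := by
  refine ⟨Pi.single (Sum.inl ⟨0, by omega⟩) 1 + Pi.single (Sum.inr ⟨0, by omega⟩) 1, ?_⟩
  rw [coe_qfPlus]
  unfold Cfsg.quadFormPlus
  rw [Finset.sum_eq_single ⟨0, by omega⟩]
  · simp
  · intro i _ hi
    simp [hi]
  · simp

theorem exists_ne_zero_minus {F : Type*} [Field F] (n : ℕ) (a b : F) :
    ∃ v, qfMinus n F a b v ≠ 0 := by
  refine ⟨Pi.single (Sum.inr 0) 1, ?_⟩
  have h := congrFun (coe_qfMinus n F a b)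
  rw [h]
  simp [Cfsg.quadFormMinus]

theorem atomDim_eq {F : Type*} [Field F] [Fintype F] (r i c : ℕ)
    (hi : i = orderOf ((Fintype.card F : ℕ) : ZMod r)) (hc : c = if Even i then i else 2 * i) :
    c = atomDim F r := by
  rw [hc, hi]
  rfl


/-- S5974, `r` odd and `r ≠ p` -/
theorem S5974_odd {F : Type*} [Field F] [Fintype F] {p : ℕ} [Fact p.Prime] [CharP F p] {q : ℕ} (hq : Fintype.card F = q)
    (d m : ℕ) (hd : 4 ≤ d) (hm : 2 ≤ m) (hme : Even m) (hmd : m < d)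
    (r : ℕ) [Fact r.Prime]
    (hrΩ : r ∣ Nat.card {W : Submodule F (Fin d ⊕ Fin d → F) // (Module.finrank F ↥W = m ∧ (∀ u ∈ W, u ≠ 0 → ∃ v ∈ W, QuadraticMap.polar (Cfsg.quadFormPlus d F) u v ≠ 0) ∧
          ∃ U : Submodule F (Fin d ⊕ Fin d → F), U ≤ W ∧ 2 * Module.finrank F ↥U = m ∧ ∀ u ∈ U, Cfsg.quadFormPlus d F u = 0)})
    (i c : ℕ) (hi : i = orderOf (q : ZMod r)) (hc : c = if Even i then i else 2 * i)
    (hr2 : r ≠ 2) (hrp : r ≠ p) :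
    (∀ x : GL (Fin d ⊕ Fin d) F, x ∈ Cfsg.Geo.omegaGL (Cfsg.quadFormPlus d F) →
      (∃ z : F, ((x ^ r : GL (Fin d ⊕ Fin d) F) : Matrix (Fin d ⊕ Fin d) (Fin d ⊕ Fin d) F) = z • (1 : Matrix (Fin d ⊕ Fin d) (Fin d ⊕ Fin d) F)) →
      (∀ z : F, (x : Matrix (Fin d ⊕ Fin d) (Fin d ⊕ Fin d) F) ≠ z • (1 : Matrix (Fin d ⊕ Fin d) (Fin d ⊕ Fin d) F)) →
      ∃ W : Submodule F (Fin d ⊕ Fin d → F), (Module.finrank F ↥W = m ∧ (∀ u ∈ W, u ≠ 0 → ∃ v ∈ W, QuadraticMap.polar (Cfsg.quadFormPlus d F) u v ≠ 0) ∧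
          ∃ U : Submodule F (Fin d ⊕ Fin d → F), U ≤ W ∧ 2 * Module.finrank F ↥U = m ∧ ∀ u ∈ U, Cfsg.quadFormPlus d F u = 0) ∧
        W.map (Matrix.toLin' (x : Matrix (Fin d ⊕ Fin d) (Fin d ⊕ Fin d) F)) ≤ W) ↔
    ((r = 2 ∧ ((2 * d) % 4 = 2 ∨ m % 4 = 0 ∨ q % 4 = 1)) ∨
     (r ≠ p ∧ 2 < r ∧ Odd i ∧ c ≤ m ∧ m % c ≤ (2 * d) % c) ∨
     (r ≠ p ∧ 2 < r ∧ Even i ∧
       (((2 * d) % c = 0 ∧ (Odd ((2 * d) / i) ∨ (m % c = 0 ∧ Even (m / i)))) ∨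
        (i ≤ m ∧ ((m % c < (2 * d) % c ∧ 0 < m % c) ∨
                  ((2 * d) % c = m % c ∧ 0 < m % c ∧ Even ((2 * d + m - 2 * ((2 * d) % c)) / i)) ∨
                  (0 < (2 * d) % c ∧ m % c = 0 ∧ Even (m / i))))))) := by
  subst hq
  have hr : r.Prime := Fact.out
  have hr3 : 2 < r := lt_of_le_of_ne hr.two_le (Ne.symm hr2)
  have hcc : c = atomDim F r := atomDim_eq r i c hi hc
  have hipos : 0 < i := hi ▸ Cfsg.Agent.Lib.Helper99_SpTI.ord_pos (F := F) (p := p) hr hrp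
  have hcard : Fintype.card (Fin d ⊕ Fin d) = 2 * d := by
    rw [Fintype.card_sum, Fintype.card_fin]; ring
  have key := row_iff p (qfPlus d F) (Cfsg.Agent.Lib.Helper14_POmegaSimple.nondegenerate_qfPlus d)
    (exists_ne_zero_plus d (by omega)) (by rw [hcard]; omega) (2 * d) hcard ⟨d, by ring⟩ m hm hme
    (by omega) True
    (fun W => Module.finrank F ↥W = m ∧ (∀ u ∈ W, u ≠ 0 → ∃ v ∈ W, QuadraticMap.polar (Cfsg.quadFormPlus d F) u v ≠ 0) ∧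
          ∃ U : Submodule F (Fin d ⊕ Fin d → F), U ≤ W ∧ 2 * Module.finrank F ↥U = m ∧ ∀ u ∈ U, Cfsg.quadFormPlus d F u = 0)
    (by
      intro W
      rw [← coe_qfPlus, ndOn_iff']
      constructor
      · rintro ⟨h1, h2, U, hUW, hUd, hU⟩
        exact ⟨h1, h2, iff_true_intro ⟨U, hUW, hU, by rw [hUd, h1]⟩⟩
      · rintro ⟨h1, h2, h3⟩
        obtain ⟨U, hUW, hU, hUd⟩ := h3.2 trivial
        exact ⟨h1, h2, U, hUW, by rw [hUd, h1], hU⟩)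
    r hr hr2 hrp hrΩ True (plusOn_top_qfPlus d)
    (fun a ha => by
      rw [coe_qfPlus]
      exact Cfsg.Agent.Lib.Helper70_OrthND_ELT_plus.ELT_plus p d (by omega) r hr hr2 hrp a ha)
    (R5974 i c d m)
    (by
      rw [← hi, ← hcc]
      exact Cfsg.Agent.Lib.Helper45_OrthND_A5974_mpr.A5974_mpr i c d m hipos hc hd hm hme hmd)
    (by
      rw [← hi, ← hcc]
      exact Cfsg.Agent.Lib.Helper45_OrthND_A5974_mp.A5974_mp i c d m hipos hc hd hm hme hmd)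
  rw [coe_qfPlus] at key
  rw [key]
  unfold R5974
  constructor
  · rintro (h | h)
    · exact Or.inr (Or.inl ⟨hrp, hr3, h⟩)
    · exact Or.inr (Or.inr ⟨hrp, hr3, h⟩)
  · rintro (h | h | h)
    · exact absurd h.1 hr2
    · exact Or.inl h.2.2
    · exact Or.inr h.2.2

/-- S5988, `r` odd and `r ≠ p` -/
theorem S5988_odd {F : Type*} [Field F] [Fintype F] {p : ℕ} [Fact p.Prime] [CharP F p] {q : ℕ} (hq : Fintype.card F = q)
    (d m : ℕ) (hd : 4 ≤ d) (hm : 2 ≤ m) (hme : Even m) (hmd : m < d)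
    (r : ℕ) [Fact r.Prime]
    (hrΩ : r ∣ Nat.card {W : Submodule F (Fin d ⊕ Fin d → F) // Module.finrank F ↥W = m ∧ Cfsg.Geo.IsNondegenerateOn (QuadraticMap.polar (Cfsg.quadFormPlus d F)) W ∧ ¬ Cfsg.Geo.IsPlusTypeOn (Cfsg.quadFormPlus d F) W})
    (i c : ℕ) (hi : i = orderOf (q : ZMod r)) (hc : c = if Even i then i else 2 * i)
    (hr2 : r ≠ 2) (hrp : r ≠ p) :
    (∀ x : GL (Fin d ⊕ Fin d) F, x ∈ Cfsg.Geo.omegaGL (Cfsg.quadFormPlus d F) →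
      (∃ z : F, ((x ^ r : GL (Fin d ⊕ Fin d) F) : Matrix (Fin d ⊕ Fin d) (Fin d ⊕ Fin d) F) = z • (1 : Matrix (Fin d ⊕ Fin d) (Fin d ⊕ Fin d) F)) →
      (∀ z : F, (x : Matrix (Fin d ⊕ Fin d) (Fin d ⊕ Fin d) F) ≠ z • (1 : Matrix (Fin d ⊕ Fin d) (Fin d ⊕ Fin d) F)) →
      ∃ W : Submodule F (Fin d ⊕ Fin d → F), (Module.finrank F ↥W = m ∧ Cfsg.Geo.IsNondegenerateOn (QuadraticMap.polar (Cfsg.quadFormPlus d F)) W ∧ ¬ Cfsg.Geo.IsPlusTypeOn (Cfsg.quadFormPlus d F) W) ∧ W.map (Matrix.toLin' (x : Matrix (Fin d ⊕ Fin d) (Fin d ⊕ Fin d) F)) ≤ W) ↔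
    ((r = 2 ∧ p ≠ 2 ∧ ((Even d ∧ q % 4 = 3 ∧ m % 4 = 2) ∨ (Odd d ∧ q % 8 ≠ 1))) ∨
     (r ≠ p ∧ 2 < r ∧ Odd i ∧ c ≤ m ∧ 0 < m % c ∧ m % c < (2 * d) % c) ∨
     (r ≠ p ∧ 2 < r ∧ Even i ∧
       (((2 * d) % c = 0 ∧ (Odd ((2 * d) / i) ∨ (m % c = 0 ∧ Odd (m / i)))) ∨
        (i ≤ m ∧ ((0 < m % c ∧ m % c < (2 * d) % c) ∨
                  (0 < m % c ∧ m % c = (2 * d) % c ∧ Odd ((2 * d + m - 2 * ((2 * d) % c)) / i)) ∨
                  (m % c = 0 ∧ 0 < (2 * d) % c ∧ Odd (m / i))))))) := by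
  subst hq
  have hr : r.Prime := Fact.out
  have hr3 : 2 < r := lt_of_le_of_ne hr.two_le (Ne.symm hr2)
  have hcc : c = atomDim F r := atomDim_eq r i c hi hc
  have hipos : 0 < i := hi ▸ Cfsg.Agent.Lib.Helper99_SpTI.ord_pos (F := F) (p := p) hr hrp
  have hcard : Fintype.card (Fin d ⊕ Fin d) = 2 * d := by
    rw [Fintype.card_sum, Fintype.card_fin]; ring
  have key := row_iff p (qfPlus d F) (Cfsg.Agent.Lib.Helper14_POmegaSimple.nondegenerate_qfPlus d)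
    (exists_ne_zero_plus d (by omega)) (by rw [hcard]; omega) (2 * d) hcard ⟨d, by ring⟩ m hm hme
    (by omega) False
    (fun W => Module.finrank F ↥W = m ∧ Cfsg.Geo.IsNondegenerateOn (QuadraticMap.polar (Cfsg.quadFormPlus d F)) W ∧ ¬ Cfsg.Geo.IsPlusTypeOn (Cfsg.quadFormPlus d F) W)
    (by
      intro W
      rw [← coe_qfPlus, ndOn_iff, plusOn_iff, iff_false])
    r hr hr2 hrp hrΩ True (plusOn_top_qfPlus d)
    (fun a ha => by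
      rw [coe_qfPlus]
      exact Cfsg.Agent.Lib.Helper70_OrthND_ELT_plus.ELT_plus p d (by omega) r hr hr2 hrp a ha)
    (R5988 i c d m)
    (by
      rw [← hi, ← hcc]
      exact Cfsg.Agent.Lib.Helper69_OrthND_A5988.A5988_mpr i c d m hipos hc hd hm hme hmd)
    (by
      rw [← hi, ← hcc]
      exact Cfsg.Agent.Lib.Helper69_OrthND_A5988.A5988_mp i c d m hipos hc hd hm hme hmd)
  rw [coe_qfPlus] at key
  rw [key]
  unfold R5988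
  constructor
  · rintro (h | h)
    · exact Or.inr (Or.inl ⟨hrp, hr3, h⟩)
    · exact Or.inr (Or.inr ⟨hrp, hr3, h⟩)
  · rintro (h | h | h)
    · exact absurd h.1 hr2
    · exact Or.inl h.2.2
    · exact Or.inr h.2.2

/-- S5990, `r` odd and `r ≠ p` -/
theorem S5990_odd {F : Type*} [Field F] [Fintype F] {p : ℕ} [Fact p.Prime] [CharP F p] {q : ℕ} (hq : Fintype.card F = q)
    (d m : ℕ) (hd : 4 ≤ d) (hm : 2 ≤ m) (hme : Even m) (hmn : m + 2 ≤ 2 * d) (a b : F) (hab : ∀ x y : F, x ^ 2 + a * x * y + b * y ^ 2 = 0 → x = 0 ∧ y = 0)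
    (r : ℕ) [Fact r.Prime]
    (hrΩ : r ∣ Nat.card {W : Submodule F ((Fin (d - 1) ⊕ Fin (d - 1)) ⊕ Fin 2 → F) // Module.finrank F ↥W = m ∧ Cfsg.Geo.IsNondegenerateOn (QuadraticMap.polar (Cfsg.quadFormMinus (d - 1) F a b)) W ∧ ¬ Cfsg.Geo.IsPlusTypeOn (Cfsg.quadFormMinus (d - 1) F a b) W})
    (i c : ℕ) (hi : i = orderOf (q : ZMod r)) (hc : c = if Even i then i else 2 * i)
    (hr2 : r ≠ 2) (hrp : r ≠ p) :
    (∀ x : GL ((Fin (d - 1) ⊕ Fin (d - 1)) ⊕ Fin 2) F, x ∈ Cfsg.Geo.omegaGL (Cfsg.quadFormMinus (d - 1) F a b) →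
      (∃ z : F, ((x ^ r : GL ((Fin (d - 1) ⊕ Fin (d - 1)) ⊕ Fin 2) F) : Matrix ((Fin (d - 1) ⊕ Fin (d - 1)) ⊕ Fin 2) ((Fin (d - 1) ⊕ Fin (d - 1)) ⊕ Fin 2) F) = z • (1 : Matrix ((Fin (d - 1) ⊕ Fin (d - 1)) ⊕ Fin 2) ((Fin (d - 1) ⊕ Fin (d - 1)) ⊕ Fin 2) F)) →
      (∀ z : F, (x : Matrix ((Fin (d - 1) ⊕ Fin (d - 1)) ⊕ Fin 2) ((Fin (d - 1) ⊕ Fin (d - 1)) ⊕ Fin 2) F) ≠ z • (1 : Matrix ((Fin (d - 1) ⊕ Fin (d - 1)) ⊕ Fin 2) ((Fin (d - 1) ⊕ Fin (d - 1)) ⊕ Fin 2) F)) →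
      ∃ W : Submodule F ((Fin (d - 1) ⊕ Fin (d - 1)) ⊕ Fin 2 → F), (Module.finrank F ↥W = m ∧ Cfsg.Geo.IsNondegenerateOn (QuadraticMap.polar (Cfsg.quadFormMinus (d - 1) F a b)) W ∧ ¬ Cfsg.Geo.IsPlusTypeOn (Cfsg.quadFormMinus (d - 1) F a b) W) ∧ W.map (Matrix.toLin' (x : Matrix ((Fin (d - 1) ⊕ Fin (d - 1)) ⊕ Fin 2) ((Fin (d - 1) ⊕ Fin (d - 1)) ⊕ Fin 2) F)) ≤ W) ↔
    ((r = 2 ∧ p = 2 ∧ (Even d ∨ m % 4 = 2)) ∨
     (r = 2 ∧ p ≠ 2 ∧ (Even d ∨ q % 8 ≠ 7 ∨ m % 4 = 2)) ∨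
     (r ≠ p ∧ 2 < r ∧ Odd i ∧ ((2 * d) % c = 0 ∨ (c ≤ m ∧ 0 < m % c ∧ m % c ≤ (2 * d) % c))) ∨
     (r ≠ p ∧ 2 < r ∧ Even i ∧
       (((2 * d) % c = 0 ∧ (Even ((2 * d) / i) ∨ (m % c = 0 ∧ Odd (m / i)))) ∨
        (0 < (2 * d) % c ∧ i ≤ m ∧ ((0 < m % c ∧ m % c < (2 * d) % c) ∨ (m % c = 0 ∧ Odd (m / i)) ∨
                                    (m % c = (2 * d) % c ∧ Even ((2 * d + m - 2 * ((2 * d) % c)) / i))))))) := by
  subst hq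
  have hr : r.Prime := Fact.out
  have hr3 : 2 < r := lt_of_le_of_ne hr.two_le (Ne.symm hr2)
  have hcc : c = atomDim F r := atomDim_eq r i c hi hc
  have hipos : 0 < i := hi ▸ Cfsg.Agent.Lib.Helper99_SpTI.ord_pos (F := F) (p := p) hr hrp
  have hcard : Fintype.card ((Fin (d - 1) ⊕ Fin (d - 1)) ⊕ Fin 2) = 2 * d := by
    rw [Fintype.card_sum, Fintype.card_sum, Fintype.card_fin, Fintype.card_fin]; omega
  have key := row_iff p (qfMinus (d - 1) F a b)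
    (Cfsg.Agent.Lib.Helper14_POmegaSimple.nondegenerate_qfMinus (d - 1) a b hab)
    (exists_ne_zero_minus (d - 1) a b) (by rw [hcard]; omega) (2 * d) hcard ⟨d, by ring⟩ m hm hme
    (by omega) False
    (fun W => Module.finrank F ↥W = m ∧ Cfsg.Geo.IsNondegenerateOn (QuadraticMap.polar (Cfsg.quadFormMinus (d - 1) F a b)) W ∧ ¬ Cfsg.Geo.IsPlusTypeOn (Cfsg.quadFormMinus (d - 1) F a b) W)
    (by
      intro W
      rw [← coe_qfMinus, ndOn_iff, plusOn_iff, iff_false])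
    r hr hr2 hrp hrΩ False (plusOn_top_qfMinus (d - 1) a b hab)
    (fun a' ha => by
      rw [coe_qfMinus]
      exact Cfsg.Agent.Lib.Helper70_OrthND_ELT_minus.ELT_minus p d (by omega) a b hab r hr hr2 hrp
        a' ha)
    (R5990 i c d m)
    (by
      rw [← hi, ← hcc]
      exact Cfsg.Agent.Lib.Helper69_OrthND_A5990.A5990_mpr i c d m hipos hc hd hm hme hmn)
    (by
      rw [← hi, ← hcc]
      exact Cfsg.Agent.Lib.Helper69_OrthND_A5990.A5990_mp i c d m hipos hc hd hm hme hmn)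
  rw [coe_qfMinus] at key
  rw [key]
  unfold R5990
  constructor
  · rintro (h | h)
    · exact Or.inr (Or.inr (Or.inl ⟨hrp, hr3, h⟩))
    · exact Or.inr (Or.inr (Or.inr ⟨hrp, hr3, h⟩))
  · rintro (h | h | h | h)
    · exact absurd h.1 hr2
    · exact absurd h.1 hr2
    · exact Or.inl h.2.2
    · exact Or.inr h.2.2

end Cfsg.Agent.Lib.Helper88_OrthND_Odd
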