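import Mathlib
import Cfsg.Prelude.Def_FusionSystem
import Cfsg.Agent.Lib.Helper5_Transv
import Cfsg.Agent.Lib.Helper5_RootSL
import Cfsg.Agent.Lib.Helper44_PSLnUT
import Cfsg.Agent.Lib.Helper44_PSLnTv
import Cfsg.Agent.Lib.Helper44_PSLnSyl
import Cfsg.Agent.Lib.Helper88_PSLnFusDefs
import Cfsg.Agent.Lib.Helper88_FusFam
import Cfsg.Agent.Lib.Helper82_Fus_FM
import Cfsg.Agent.Lib.Helper63_S5163_SC_A
import Cfsg.Agent.Lib.Helper10_S5163_SC_B
import Cfsg.Agent.Lib.Helper73_S5163_SC_C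
import Cfsg.Agent.Lib.Helper73_S5163_NB_A
import Cfsg.Agent.Lib.Helper69_S5163_NB_B
import Cfsg.Agent.Lib.Helper61_S5163_CQ_1
import Cfsg.Agent.Lib.Helper53_S5163_CQ_2
import Cfsg.Agent.Lib.Helper50_S5163_GEN_A
import Cfsg.Agent.Lib.Helper69_S5163_GEN_B
import Cfsg.Agent.Lib.Helper10_S5163_GEN_C

/-!
# The `p`-fusion system of `PSL_n(F)`, `char F = p`, `n ≥ 3`, is simple (helper88, S5163)

Assembly of the S5163 packages (helper63 SC_A, helper10 SC_B + GEN_C, helper73 SC_C + NB_A,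
helper69 NB_B + GEN_B, helper61 CQ_1, helper53 CQ_2, helper50 GEN_A): `UTbar (m+3) F` together with
the two radicals `QQ m F` satisfies `FusLocalFam` (`fusLocalFam_UTbar`), hence `main`.
-/

set_option autoImplicit false
set_option linter.unusedSimpArgs false

namespace Cfsg.Agent.Lib.Helper88_PSLnFusMain

open Matrix Cfsg.Agent.Lib.Helper5_Transv Cfsg.Agent.Lib.Helper44_PSLnUT
  Cfsg.Agent.Lib.Helper44_PSLnTv Cfsg.Agent.Lib.Helper44_PSLnSyl Cfsg.Agent.Lib.Helper88_PSLnFus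

open Cfsg.Agent.Lib.Helper63_S5163_SC_A Cfsg.Agent.Lib.Helper10_S5163_SC_B
  Cfsg.Agent.Lib.Helper73_S5163_SC_C Cfsg.Agent.Lib.Helper73_S5163_NB_A
  Cfsg.Agent.Lib.Helper69_S5163_NB_B Cfsg.Agent.Lib.Helper61_S5163_CQ_1
  Cfsg.Agent.Lib.Helper53_S5163_CQ_2 Cfsg.Agent.Lib.Helper50_S5163_GEN_A
  Cfsg.Agent.Lib.Helper69_S5163_GEN_B Cfsg.Agent.Lib.Helper10_S5163_GEN_C

variable {F : Type*} [Field F]

/-! ## assembly -/

open Cfsg.Agent.Lib.Helper88_FusFam

section glue

/-- conjugation of a transvection of `PSL` -/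
theorem conj_tvP {n : ℕ} (g : SpecialLinearGroup (Fin n) F) (v φ : Fin n → F) (h : φ ⬝ᵥ v = 0) :
    proj g * tvP v φ h * (proj g)⁻¹ =
      tvP (g.1 *ᵥ v) (φ ᵥ* (g⁻¹).1) ((conj_dot g v φ).trans h) := by
  unfold tvP
  rw [← map_inv, ← map_mul, ← map_mul, conj_tvS]

/-- an element fixing the point `⟨v⟩` normalises `Pt v` -/
theorem norm_Pt_of_fix {n : ℕ} (g : SpecialLinearGroup (Fin n) F) (v : Fin n → F) (a : F)
    (ha : a ≠ 0) (hg : g.1 *ᵥ v = a • v) :
    ∀ q ∈ Pt v, proj g * q * (proj g)⁻¹ ∈ Pt v := by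
  intro q hq
  obtain ⟨φ, h, rfl⟩ := mem_Pt.mp hq
  rw [conj_tvP]
  have hp : Par v (g.1 *ᵥ v) := ⟨a, ha, hg⟩
  rw [Pt_eq_of_par hp]
  exact tvP_mem_Pt _ _ _

/-- an element fixing the hyperplane `⟨φ⟩` normalises `Hp φ` -/
theorem norm_Hp_of_fix {n : ℕ} (g : SpecialLinearGroup (Fin n) F) (φ : Fin n → F) (a : F)
    (ha : a ≠ 0) (hg : φ ᵥ* g.1 = a • φ) :
    ∀ q ∈ Hp φ, proj g * q * (proj g)⁻¹ ∈ Hp φ := by
  intro q hq
  obtain ⟨v, h, rfl⟩ := mem_Hp.mp hq
  rw [conj_tvP]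
  have h1 : φ ᵥ* (g⁻¹).1 = a⁻¹ • φ := by
    have h2 : (φ ᵥ* g.1) ᵥ* (g⁻¹).1 = φ := by
      rw [vecMul_vecMul]
      have : g.1 * (g⁻¹).1 = 1 := congrArg Subtype.val (mul_inv_cancel g)
      rw [this, vecMul_one]
    rw [hg, smul_vecMul] at h2
    calc φ ᵥ* (g⁻¹).1 = a⁻¹ • (a • (φ ᵥ* (g⁻¹).1)) := by
          rw [smul_smul, inv_mul_cancel₀ ha, one_smul]
      _ = a⁻¹ • φ := by rw [h2]
  have hp : Par φ (φ ᵥ* (g⁻¹).1) := ⟨a⁻¹, inv_ne_zero ha, h1⟩
  rw [Hp_eq_of_par hp]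
  exact tvP_mem_Hp _ _ _

theorem transvection_mulVec_e {n : ℕ} {i j k : Fin n} (hij : i ≠ j) (hjk : j ≠ k) (a : F) :
    (SpecialLinearGroup.transvection hij a).1 *ᵥ (e k : Fin n → F) = e k := by
  rw [Cfsg.Agent.Lib.Helper5_RootSL.transvection_eq_tvS, tvS_coe, tv_mulVec, e_dot]
  simp [e, Pi.single_apply, hjk]

theorem e_vecMul_transvection {n : ℕ} {i j k : Fin n} (hij : i ≠ j) (hik : i ≠ k) (a : F) :
    (e k : Fin n → F) ᵥ* (SpecialLinearGroup.transvection hij a).1 = e k := by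
  rw [Cfsg.Agent.Lib.Helper5_RootSL.transvection_eq_tvS, tvS_coe, vecMul_tv, e_dot]
  simp [e, Pi.single_apply, hik]

end glue

/-- strongly closed subgroups of `UTbar` -/
theorem sc_main [Fintype F] (p : ℕ) [Fact p.Prime] [CharP F p] (m : ℕ)
    (T : Subgroup (ProjectiveSpecialLinearGroup (Fin (m + 3)) F))
    (hT : T ≤ UTbar (m + 3) F) (hne : T ≠ ⊥)
    (hsc : ∀ t ∈ T, ∀ g : ProjectiveSpecialLinearGroup (Fin (m + 3)) F,
      g * t * g⁻¹ ∈ UTbar (m + 3) F → g * t * g⁻¹ ∈ T) :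
    T = UTbar (m + 3) F := by
  apply le_antisymm hT
  obtain ⟨c, hc, hz⟩ := SC_A p m T hT hne (fun t ht s hs => hsc t ht s
    ((UTbar _ F).mul_mem ((UTbar _ F).mul_mem hs (hT ht)) ((UTbar _ F).inv_mem hs)))
  have hle : UT (m + 3) F ≤ T.comap proj := by
    refine (SC_C (F := F) (m + 3)).trans ?_
    rw [Subgroup.closure_le]
    rintro g ⟨hgU, v, φ, h, rfl⟩
    show proj (tvS v φ h 1) ∈ T
    by_cases hv : v = 0
    · subst hv
      rw [tvS_zero_left, map_one]
      exact T.one_mem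
    by_cases hφ : φ = 0
    · subst hφ
      rw [tvS_zero_right, map_one]
      exact T.one_mem
    obtain ⟨g, hg⟩ := SC_B m c hc v φ h hv hφ
    have h1 : proj g * proj (zc (m := m) c) * (proj g)⁻¹ ∈ UTbar (m + 3) F := by
      rw [hg]
      exact Subgroup.mem_map_of_mem _ hgU
    have h2 := hsc _ hz (proj g) h1
    rw [hg] at h2
    exact h2
  rintro x ⟨u, hu, rfl⟩
  exact hle hu

/-- upper triangular matrices normalise the two radicals -/
theorem nq_main (m : ℕ) (g : SpecialLinearGroup (Fin (m + 3)) F) (hg : IsUpper g) (b : Bool) :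
    ∀ q ∈ QQ m F b, proj g * q * (proj g)⁻¹ ∈ QQ m F b := by
  cases b
  · rw [QQ_false]
    have h1 : g.1 *ᵥ (e (0 : Fin (m + 3)) : Fin (m + 3) → F) = g.1 0 0 • e 0 := by
      funext i
      rw [mulVec, dot_e]
      by_cases hi : i = 0
      · subst hi
        simp [e]
      · have : (0 : Fin (m + 3)) < i := Fin.pos_iff_ne_zero.mpr hi
        simp [e, Pi.single_apply, hi, hg i 0 this]
    have h2 : g.1 0 0 ≠ 0 := by
      intro h0
      rw [h0, zero_smul] at h1
      exact Cfsg.Agent.Lib.Helper5_RootSL.mulVec_ne_zero g _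
        (Cfsg.Agent.Lib.Helper5_RootSL.e_ne_zero 0) h1
    exact norm_Pt_of_fix g _ _ h2 h1
  · rw [QQ_true]
    have h1 : (e (Fin.last (m + 2)) : Fin (m + 3) → F) ᵥ* g.1 =
        g.1 (Fin.last (m + 2)) (Fin.last (m + 2)) • e (Fin.last (m + 2)) := by
      funext j
      rw [vecMul, e_dot]
      by_cases hj : j = Fin.last (m + 2)
      · subst hj
        simp [e]
      · have : j < Fin.last (m + 2) := lt_of_le_of_ne (Fin.le_last j) hj
        simp [e, Pi.single_apply, hj, hg _ j this]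
    have h2 : g.1 (Fin.last (m + 2)) (Fin.last (m + 2)) ≠ 0 := by
      intro h0
      rw [h0, zero_smul] at h1
      have h3 : ((e (Fin.last (m + 2)) : Fin (m + 3) → F) ᵥ* g.1) ᵥ* (g⁻¹).1 = 0 := by
        rw [h1, zero_vecMul]
      rw [vecMul_vecMul] at h3
      have : g.1 * (g⁻¹).1 = 1 := congrArg Subtype.val (mul_inv_cancel g)
      rw [this, vecMul_one] at h3
      exact Cfsg.Agent.Lib.Helper5_RootSL.e_ne_zero _ h3
    exact norm_Hp_of_fix g _ _ h2 h1

section gen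

variable (m : ℕ)

/-- `x` normalises the radical `QQ m F b` -/
def NQ (b : Bool) (x : ProjectiveSpecialLinearGroup (Fin (m + 3)) F) : Prop :=
  ∀ q ∈ QQ m F b, x * q * x⁻¹ ∈ QQ m F b

variable {m}

theorem NQ.mul {b : Bool} {x y : ProjectiveSpecialLinearGroup (Fin (m + 3)) F}
    (hx : NQ m b x) (hy : NQ m b y) : NQ m b (x * y) := by
  intro q hq
  have h := hx _ (hy q hq)
  have e : x * y * q * (x * y)⁻¹ = x * (y * q * y⁻¹) * x⁻¹ := by group
  rw [e]
  exact h

variable (m)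

/-- the subgroup generated by the `N(Q)`-conjugates of `UTbar` -/
def LL (b : Bool) : Subgroup (ProjectiveSpecialLinearGroup (Fin (m + 3)) F) :=
  Subgroup.closure {y | ∃ mm : ProjectiveSpecialLinearGroup (Fin (m + 3)) F,
    (∀ q ∈ QQ m F b, mm * q * mm⁻¹ ∈ QQ m F b) ∧ ∃ s ∈ UTbar (m + 3) F, y = mm * s * mm⁻¹}

variable {m}

theorem proj_mem_UTbar {u : SpecialLinearGroup (Fin (m + 3)) F} (hu : u ∈ UT (m + 3) F) :
    proj u ∈ UTbar (m + 3) F := Subgroup.mem_map_of_mem _ hu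

theorem LL_of_UT (b : Bool) {u : SpecialLinearGroup (Fin (m + 3)) F} (hu : u ∈ UT (m + 3) F) :
    proj u ∈ LL (F := F) m b := by
  apply Subgroup.subset_closure
  refine ⟨1, ?_, proj u, proj_mem_UTbar hu, by simp⟩
  intro q hq
  simpa using hq

theorem LL_of_conj (b : Bool) {w u : SpecialLinearGroup (Fin (m + 3)) F}
    (hw : NQ m b (proj w)) (hu : u ∈ UT (m + 3) F) :
    proj (w * u * w⁻¹) ∈ LL (F := F) m b := by
  apply Subgroup.subset_closure
  refine ⟨proj w, hw, proj u, proj_mem_UTbar hu, ?_⟩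
  rw [map_mul, map_mul, map_inv]

/-- both root groups of an `SL_2` normalising `Q` lie in `LL` -/
theorem roots_mem_LL (b : Bool) {i j : Fin (m + 3)} (hij : i ≠ j) (hlt : i < j)
    (h1 : ∀ a : F, NQ m b (proj (SpecialLinearGroup.transvection hij a)))
    (h2 : ∀ a : F, NQ m b (proj (SpecialLinearGroup.transvection hij.symm a))) (a : F) :
    proj (SpecialLinearGroup.transvection hij a) ∈ LL (F := F) m b ∧
    proj (SpecialLinearGroup.transvection hij.symm a) ∈ LL (F := F) m b := by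
  refine ⟨LL_of_UT b (transvection_mem_UT hlt a), ?_⟩
  rw [GEN_A2 hij a]
  apply LL_of_conj b _ (transvection_mem_UT hlt (-a))
  rw [map_mul, map_mul]
  exact ((h1 1).mul (h2 (-1))).mul (h1 1)

theorem hh_mem_LL (b : Bool) {i j : Fin (m + 3)} (hij : i ≠ j)
    (h1 : ∀ a : F, NQ m b (proj (SpecialLinearGroup.transvection hij a)))
    (h2 : ∀ a : F, NQ m b (proj (SpecialLinearGroup.transvection hij.symm a))) (t : Fˣ) :
    proj (hh hij t) ∈ LL (F := F) m b := by
  have key : ∀ a : F, proj (SpecialLinearGroup.transvection hij a) ∈ LL (F := F) m b ∧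
      proj (SpecialLinearGroup.transvection hij.symm a) ∈ LL (F := F) m b := by
    intro a
    rcases lt_or_gt_of_ne hij with hlt | hgt
    · exact roots_mem_LL b hij hlt h1 h2 a
    · exact (roots_mem_LL b hij.symm hgt h2 h1 a).symm
  rw [GEN_A1 hij t]
  simp only [map_mul]
  exact Subgroup.mul_mem _ (Subgroup.mul_mem _ (Subgroup.mul_mem _ (Subgroup.mul_mem _
    (Subgroup.mul_mem _ (key _).1 (key _).2) (key _).1) (key _).1) (key _).2) (key _).1

theorem NQ_false_transvection {i j : Fin (m + 3)} (hij : i ≠ j) (hj : j ≠ 0) (a : F) :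
    NQ m false (proj (SpecialLinearGroup.transvection hij a)) := by
  intro q hq
  rw [QQ_false] at hq ⊢
  exact norm_Pt_of_fix _ _ 1 one_ne_zero
    (by rw [transvection_mulVec_e hij hj, one_smul]) q hq

theorem NQ_true_transvection {i j : Fin (m + 3)} (hij : i ≠ j) (hi : i ≠ Fin.last (m + 2))
    (a : F) : NQ m true (proj (SpecialLinearGroup.transvection hij a)) := by
  intro q hq
  rw [QQ_true] at hq ⊢
  exact norm_Hp_of_fix _ _ 1 one_ne_zero
    (by rw [e_vecMul_transvection hij hi, one_smul]) q hq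

theorem normUTbar_of {y : SpecialLinearGroup (Fin (m + 3)) F}
    (h : ∀ u ∈ UT (m + 3) F, y * u * y⁻¹ ∈ UT (m + 3) F) :
    ∀ s ∈ UTbar (m + 3) F, proj y * s * (proj y)⁻¹ ∈ UTbar (m + 3) F := by
  rintro s ⟨u, hu, rfl⟩
  have := proj_mem_UTbar (h u hu)
  rw [map_mul, map_mul, map_inv] at this
  exact this

instance finite_PSL [Fintype F] (n : ℕ) : Finite (ProjectiveSpecialLinearGroup (Fin n) F) := by
  unfold ProjectiveSpecialLinearGroup
  infer_instance

/-- the generation hypothesis -/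
theorem gen_main [Fintype F] (p : ℕ) [Fact p.Prime] [CharP F p]
    (x : ProjectiveSpecialLinearGroup (Fin (m + 3)) F)
    (hx : ∀ s ∈ UTbar (m + 3) F, x * s * x⁻¹ ∈ UTbar (m + 3) F) :
    x ∈ Subgroup.closure {x : ProjectiveSpecialLinearGroup (Fin (m + 3)) F |
      (∀ s ∈ UTbar (m + 3) F, x * s * x⁻¹ ∈ UTbar (m + 3) F) ∧
      ∃ b, x ∈ LL (F := F) m b} := by
  obtain ⟨g, rfl⟩ := proj_surjective x
  have hN : proj g ∈ Subgroup.normalizer ((UTbar (m + 3) F : Subgroup _) : Set _) :=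
    Cfsg.Agent.Lib.Helper82_Fus_FM.mem_normalizer_of_forall hx
  have hx' : ∀ s ∈ UTbar (m + 3) F, proj g⁻¹ * s * (proj g⁻¹)⁻¹ ∈ UTbar (m + 3) F := by
    intro s hs
    rw [map_inv]
    exact Cfsg.Agent.Lib.Helper82_Fus_FM.conj_mem_of_mem_normalizer (Subgroup.inv_mem _ hN) hs
  have hg1 := NB_A p (m + 3) g hx
  have hg2 := NB_A p (m + 3) g⁻¹ hx'
  have hup : IsUpper g := NB_B (m + 3) g hg1 (by simpa using hg2)
  obtain ⟨u, hu, t, h₂, hh₂, rfl⟩ := GEN_B m g hup
  rw [map_mul, map_mul]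
  have h01 : (0 : Fin (m + 3)) ≠ 1 := by simp
  refine Subgroup.mul_mem _ (Subgroup.mul_mem _ ?_ ?_) ?_
  · apply Subgroup.subset_closure
    refine ⟨?_, false, LL_of_UT false hu⟩
    intro s hs
    exact Subgroup.mul_mem _ (Subgroup.mul_mem _ (proj_mem_UTbar hu) hs)
      (Subgroup.inv_mem _ (proj_mem_UTbar hu))
  · apply Subgroup.subset_closure
    refine ⟨normUTbar_of (GEN_C _ t), true, ?_⟩
    apply hh_mem_LL true
    · intro a
      apply NQ_true_transvection
      intro h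
      have := congrArg Fin.val h
      simp at this
    · intro a
      apply NQ_true_transvection
      intro h
      have := congrArg Fin.val h
      simp at this
  · have hcl : ∀ y ∈ Subgroup.closure {y : SpecialLinearGroup (Fin (m + 3)) F |
        ∃ (i j : Fin (m + 3)) (hij : i ≠ j) (s : Fˣ), i ≠ 0 ∧ j ≠ 0 ∧ y = hh hij s},
        proj y ∈ Subgroup.closure {x : ProjectiveSpecialLinearGroup (Fin (m + 3)) F |
          (∀ s ∈ UTbar (m + 3) F, x * s * x⁻¹ ∈ UTbar (m + 3) F) ∧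
          ∃ b, x ∈ LL (F := F) m b} := by
      intro y hy
      induction hy using Subgroup.closure_induction with
      | mem y hy =>
        obtain ⟨i, j, hij, s, hi, hj, rfl⟩ := hy
        apply Subgroup.subset_closure
        refine ⟨normUTbar_of (GEN_C _ s), false, ?_⟩
        apply hh_mem_LL false
        · intro a
          exact NQ_false_transvection hij hj a
        · intro a
          exact NQ_false_transvection hij.symm hi a
      | one => rw [map_one]; exact Subgroup.one_mem _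
      | mul x y _ _ hx hy => rw [map_mul]; exact Subgroup.mul_mem _ hx hy
      | inv x _ hx => rw [map_inv]; exact Subgroup.inv_mem _ hx
    exact hcl h₂ hh₂

end gen

/-- the two radicals lie in `UTbar` -/
theorem QQ_le (m : ℕ) (b : Bool) : QQ m F b ≤ UTbar (m + 3) F := by
  cases b
  · rw [QQ_false]
    intro q hq
    obtain ⟨φ, h, rfl⟩ := mem_Pt.mp hq
    apply Subgroup.mem_map_of_mem
    rw [mem_UT]
    have h0 : φ 0 = 0 := by rw [← dot_e (k := F) 0 φ]; exact h
    show IsUT (tv _ _ 1)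
    unfold tv
    refine ⟨fun i j hij => ?_, fun i => ?_⟩
    · have hi : i ≠ 0 := fun h => by subst h; exact absurd hij (Fin.not_lt_zero _)
      rw [Matrix.add_apply, Matrix.one_apply_ne (ne_of_gt hij), zero_add, Matrix.smul_apply,
        vecMulVec_apply]
      simp [e, hi]
    · rw [Matrix.add_apply, Matrix.one_apply_eq, Matrix.smul_apply, vecMulVec_apply]
      by_cases hi : i = 0
      · subst hi
        simp [h0]
      · simp [e, hi]
  · rw [QQ_true]
    intro q hq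
    obtain ⟨v, h, rfl⟩ := mem_Hp.mp hq
    apply Subgroup.mem_map_of_mem
    rw [mem_UT]
    have h0 : v (Fin.last (m + 2)) = 0 := by rw [← e_dot (k := F) (Fin.last (m + 2)) v]; exact h
    show IsUT (tv _ _ 1)
    unfold tv
    refine ⟨fun i j hij => ?_, fun i => ?_⟩
    · have hj : j ≠ Fin.last (m + 2) := fun h => by
        subst h; exact absurd hij (not_lt.mpr (Fin.le_last i))
      rw [Matrix.add_apply, Matrix.one_apply_ne (ne_of_gt hij), zero_add, Matrix.smul_apply,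
        vecMulVec_apply]
      simp [e, hj]
    · rw [Matrix.add_apply, Matrix.one_apply_eq, Matrix.smul_apply, vecMulVec_apply]
      by_cases hi : i = Fin.last (m + 2)
      · subst hi
        simp [h0]
      · simp [e, hi]

theorem UTbar_ne_bot (m : ℕ) : UTbar (m + 3) F ≠ ⊥ := by
  intro h
  have h1 : proj (zc (m := m) (1 : F)) ∈ UTbar (m + 3) F :=
    Subgroup.mem_map_of_mem _ (tvS_std_mem 1)
  rw [h, Subgroup.mem_bot] at h1
  exact tvP_ne_one (by omega) e_dot_e_zero_last (Cfsg.Agent.Lib.Helper5_RootSL.e_ne_zero _)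
    (Cfsg.Agent.Lib.Helper5_RootSL.e_ne_zero _) h1

/-- **`UTbar` with the two radicals satisfies the local criterion** -/
theorem fusLocalFam_UTbar [Fintype F] (p : ℕ) [Fact p.Prime] [CharP F p] (m : ℕ) :
    FusLocalFam (UTbar (m + 3) F) (QQ m F) := by
  have hup : ∀ x : ProjectiveSpecialLinearGroup (Fin (m + 3)) F,
      (∀ s ∈ UTbar (m + 3) F, x * s * x⁻¹ ∈ UTbar (m + 3) F) →
      ∃ g : SpecialLinearGroup (Fin (m + 3)) F, IsUpper g ∧ proj g = x := by
    intro x hx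
    obtain ⟨g, rfl⟩ := proj_surjective x
    have hN : proj g ∈ Subgroup.normalizer ((UTbar (m + 3) F : Subgroup _) : Set _) :=
      Cfsg.Agent.Lib.Helper82_Fus_FM.mem_normalizer_of_forall hx
    have hx' : ∀ s ∈ UTbar (m + 3) F, proj g⁻¹ * s * (proj g⁻¹)⁻¹ ∈ UTbar (m + 3) F := by
      intro s hs
      rw [map_inv]
      exact Cfsg.Agent.Lib.Helper82_Fus_FM.conj_mem_of_mem_normalizer (Subgroup.inv_mem _ hN) hs
    have hg1 := NB_A p (m + 3) g hx
    have hg2 := NB_A p (m + 3) g⁻¹ hx'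
    exact ⟨g, NB_B (m + 3) g hg1 (by simpa using hg2), rfl⟩
  refine ⟨UTbar_ne_bot m, ?_, QQ_le m, ?_, ?_, ?_⟩
  · intro T hT hne hsc
    exact sc_main p m T hT hne hsc
  · intro b x hx q hq
    obtain ⟨g, hg, rfl⟩ := hup x hx
    exact nq_main m g hg b q hq
  · intro b c hc
    obtain ⟨g, rfl⟩ := proj_surjective c
    cases b
    · exact CQ_1 m g hc
    · exact CQ_2 m g hc
  · intro x hx
    exact gen_main p x hx

theorem main {K : Type*} [Field K] [Fintype K] (p : ℕ) [Fact p.Prime] [CharP K p] (n : ℕ)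
    (hn : 3 ≤ n) (S : Sylow p (Matrix.ProjectiveSpecialLinearGroup (Fin n) K)) :
    (Cfsg.groupFusionSystem (S : Subgroup (Matrix.ProjectiveSpecialLinearGroup (Fin n) K))).IsSimple p := by
  classical
  obtain ⟨m, rfl⟩ : ∃ m, n = m + 3 := ⟨n - 3, by omega⟩
  obtain ⟨f, -, hf⟩ := FiniteField.card K p
  obtain ⟨S₀, hS₀⟩ := exists_sylow_PSL (n := m + 3) (F := K) (p := p) (f := f) hf
  have h := fusLocalFam_UTbar (F := K) p m
  rw [← hS₀] at h
  exact isSimple_of_exists_fusLocalFam p S₀ (QQ m K) h S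

end Cfsg.Agent.Lib.Helper88_PSLnFusMain
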