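import Mathlib
import Cfsg.Prelude.Def_Classical
import Cfsg.Agent.Lib.Helper13_Herm
import Cfsg.Agent.Lib.Helper14_PSLAut
import Cfsg.Agent.Lib.Helper88_PSUFusDefs
import Cfsg.Agent.S0754

set_option autoImplicit false

/-!
# S5172 package I1 (architect helper88): base change from the standard hermitian form to the
antidiagonal one, `SU n F q ≃* GJ n F q`.

`P u = (α_r u_r + β_{rev r} u_{rev r})_r` with `(α_r, β_r) = (1, ζ₁)` for `r < rev r`,
`(c ζ₂, c)` for `r > rev r`, `(1, 0)` for the middle index, where `ζ₁ ≠ ζ₂`, `ζ_k^(q+1) = -1`,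
`c = (1 + ζ₂ ζ₁^q)⁻¹`, satisfies `hermForm (P u) (P v) = hermJ u v`.
-/

namespace Cfsg.Agent.Lib.Helper93_S5172_I1

open Matrix Cfsg.Agent.Lib.Helper88_PSUFus Cfsg.Agent.Lib.Helper13_Herm

variable {F : Type*} [Field F] [Fintype F] {q : ℕ}

/-- two distinct solutions of `ζ^(q+1) = -1` -/
theorem exists_two_roots (hF : Fintype.card F = q ^ 2) :
    ∃ z₁ z₂ : F, z₁ ≠ z₂ ∧ z₁ ^ (q + 1) = -1 ∧ z₂ ^ (q + 1) = -1 := by
  have h1 : ((-1 : F)) ^ q = -1 := by rw [neg_pow_q hF, one_pow]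
  have hcard := Cfsg.Agent.S0754.result hF (-1 : F) (neg_ne_zero.2 one_ne_zero) h1
  have hq := two_le_q hF
  have hnt : Nontrivial {x : F // x ^ (q + 1) = -1} := by
    rw [← Finite.one_lt_card_iff_nontrivial, hcard]
    omega
  obtain ⟨x, y, hxy⟩ := hnt
  exact ⟨x.1, y.1, fun h => hxy (Subtype.ext h), x.2, y.2⟩

section coef

variable (n : ℕ) (z₁ z₂ c : F)

/-- diagonal coefficients -/
def al (r : Fin n) : F :=
  if r.val < (Fin.rev r).val then 1 else if (Fin.rev r).val < r.val then c * z₂ else 1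

/-- antidiagonal coefficients -/
def be (r : Fin n) : F :=
  if r.val < (Fin.rev r).val then z₁ else if (Fin.rev r).val < r.val then c else 0

/-- the base change map -/
def Lmap : (Fin n → F) →ₗ[F] (Fin n → F) where
  toFun u r := al n z₂ c r * u r + be n z₁ c (Fin.rev r) * u (Fin.rev r)
  map_add' u v := by
    funext r
    simp only [Pi.add_apply]
    ring
  map_smul' a u := by
    funext r
    simp only [Pi.smul_apply, smul_eq_mul, RingHom.id_apply]
    ring

theorem Lmap_apply (u : Fin n → F) (r : Fin n) :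
    Lmap n z₁ z₂ c u r = al n z₂ c r * u r + be n z₁ c (Fin.rev r) * u (Fin.rev r) := rfl

end coef

/-- the coefficient identities -/
theorem coef_id (hF : Fintype.card F = q ^ 2) (n : ℕ) {z₁ z₂ : F} (hne : z₁ ≠ z₂)
    (h1 : z₁ ^ (q + 1) = -1) (h2 : z₂ ^ (q + 1) = -1) (r : Fin n) :
    (r = Fin.rev r → al n z₂ (1 + z₂ * z₁ ^ q)⁻¹ r = 1 ∧ be n z₁ (1 + z₂ * z₁ ^ q)⁻¹ r = 0) ∧
    (r ≠ Fin.rev r →
      al n z₂ (1 + z₂ * z₁ ^ q)⁻¹ r ^ (q + 1) + be n z₁ (1 + z₂ * z₁ ^ q)⁻¹ r ^ (q + 1) = 0 ∧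
      al n z₂ (1 + z₂ * z₁ ^ q)⁻¹ r * be n z₁ (1 + z₂ * z₁ ^ q)⁻¹ (Fin.rev r) ^ q +
        be n z₁ (1 + z₂ * z₁ ^ q)⁻¹ r * al n z₂ (1 + z₂ * z₁ ^ q)⁻¹ (Fin.rev r) ^ q = 1) := by
  set c : F := (1 + z₂ * z₁ ^ q)⁻¹ with hc
  have hd : (1 : F) + z₂ * z₁ ^ q ≠ 0 := by
    intro h
    apply hne
    have : z₁ * (1 + z₂ * z₁ ^ q) = z₁ - z₂ := by
      have : z₁ * (1 + z₂ * z₁ ^ q) = z₁ + z₂ * z₁ ^ (q + 1) := by ring
      rw [this, h1]; ring
    rw [h, mul_zero] at this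
    exact sub_eq_zero.1 this.symm
  have hcq : c ^ q = (1 + z₂ ^ q * z₁)⁻¹ := by
    rw [hc, inv_pow, add_pow_q hF, one_pow, mul_pow, pow_q_pow_q hF]
  have hd' : (1 : F) + z₂ ^ q * z₁ ≠ 0 := by
    intro h
    apply hne
    have : z₂ * (1 + z₂ ^ q * z₁) = z₂ - z₁ := by
      have : z₂ * (1 + z₂ ^ q * z₁) = z₂ + z₂ ^ (q + 1) * z₁ := by ring
      rw [this, h2]; ring
    rw [h, mul_zero] at this
    exact (sub_eq_zero.1 this.symm).symm
  constructor
  · intro hr
    have h1' : ¬ r.val < (Fin.rev r).val := by rw [← hr]; exact lt_irrefl _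
    have h2' : ¬ (Fin.rev r).val < r.val := by rw [← hr]; exact lt_irrefl _
    unfold al be
    rw [if_neg h1', if_neg h2', if_neg h1', if_neg h2']
    exact ⟨rfl, rfl⟩
  · intro hr
    have hval : r.val ≠ (Fin.rev r).val := fun h => hr (Fin.ext h)
    rcases lt_or_gt_of_ne hval with hlt | hgt
    · have hn : ¬ (Fin.rev r).val < r.val := not_lt.2 hlt.le
      have e1 : al n z₂ c r = 1 := by unfold al; rw [if_pos hlt]
      have e2 : be n z₁ c r = z₁ := by unfold be; rw [if_pos hlt]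
      have e3 : al n z₂ c (Fin.rev r) = c * z₂ := by
        unfold al
        rw [Fin.rev_rev, if_neg hn, if_pos hlt]
      have e4 : be n z₁ c (Fin.rev r) = c := by
        unfold be
        rw [Fin.rev_rev, if_neg hn, if_pos hlt]
      rw [e1, e2, e3, e4]
      refine ⟨by rw [one_pow, h1]; ring, ?_⟩
      rw [mul_pow, hcq]
      field_simp
    · have hn : ¬ r.val < (Fin.rev r).val := not_lt.2 hgt.le
      have e1 : al n z₂ c r = c * z₂ := by unfold al; rw [if_neg hn, if_pos hgt]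
      have e2 : be n z₁ c r = c := by unfold be; rw [if_neg hn, if_pos hgt]
      have e3 : al n z₂ c (Fin.rev r) = 1 := by
        unfold al
        rw [Fin.rev_rev, if_pos hgt]
      have e4 : be n z₁ c (Fin.rev r) = z₁ := by
        unfold be
        rw [Fin.rev_rev, if_pos hgt]
      rw [e1, e2, e3, e4]
      refine ⟨?_, ?_⟩
      · have : (c * z₂) ^ (q + 1) + c ^ (q + 1) = c ^ (q + 1) * (z₂ ^ (q + 1) + 1) := by ring
        rw [this, h2]; ring
      · rw [one_pow, hc]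
        field_simp
        ring

/-- the base change identity -/
theorem hermForm_Lmap (hF : Fintype.card F = q ^ 2) (n : ℕ) {z₁ z₂ : F} (hne : z₁ ≠ z₂)
    (h1 : z₁ ^ (q + 1) = -1) (h2 : z₂ ^ (q + 1) = -1) (u v : Fin n → F) :
    Cfsg.hermForm n F q (Lmap n z₁ z₂ (1 + z₂ * z₁ ^ q)⁻¹ u) (Lmap n z₁ z₂ (1 + z₂ * z₁ ^ q)⁻¹ v) =
      hermJ n F q u v := by
  set c : F := (1 + z₂ * z₁ ^ q)⁻¹ with hc
  have hid := coef_id hF n hne h1 h2
  rw [← hc] at hid
  set α := al n z₂ c with hα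
  set β := be n z₁ c with hβ
  unfold Cfsg.hermForm hermJ
  -- expand each term
  have hterm : ∀ r : Fin n, Lmap n z₁ z₂ c u r * (Lmap n z₁ z₂ c v r) ^ q =
      (α r ^ (q + 1) * (u r * v r ^ q) + α r * β (Fin.rev r) ^ q * (u r * v (Fin.rev r) ^ q)) +
      (fun s : Fin n => β s * α (Fin.rev s) ^ q * (u s * v (Fin.rev s) ^ q) +
        β s ^ (q + 1) * (u s * v s ^ q)) (Fin.rev r) := by
    intro r
    simp only [Lmap_apply, Fin.rev_rev]
    rw [add_pow_q hF, mul_pow, mul_pow]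
    rw [← hα, ← hβ]
    ring
  rw [Finset.sum_congr rfl (fun r _ => hterm r), Finset.sum_add_distrib]
  have hre := Equiv.sum_comp Fin.revPerm
    (fun s : Fin n => β s * α (Fin.rev s) ^ q * (u s * v (Fin.rev s) ^ q) +
        β s ^ (q + 1) * (u s * v s ^ q))
  simp only [Fin.revPerm_apply] at hre
  rw [hre, ← Finset.sum_add_distrib]
  apply Finset.sum_congr rfl
  intro r _
  by_cases hr : r = Fin.rev r
  · obtain ⟨e1, e2⟩ := (hid r).1 hr
    rw [← hr, e1, e2]
    have hq := two_le_q hF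
    rw [zero_pow (by omega), zero_pow (by omega)]
    ring
  · obtain ⟨e1, e2⟩ := (hid r).2 hr
    have : α r ^ (q + 1) * (u r * v r ^ q) + α r * β (Fin.rev r) ^ q * (u r * v (Fin.rev r) ^ q) +
        (β r * α (Fin.rev r) ^ q * (u r * v (Fin.rev r) ^ q) + β r ^ (q + 1) * (u r * v r ^ q)) =
        (α r ^ (q + 1) + β r ^ (q + 1)) * (u r * v r ^ q) +
        (α r * β (Fin.rev r) ^ q + β r * α (Fin.rev r) ^ q) * (u r * v (Fin.rev r) ^ q) := by ring
    rw [this, e1, e2]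
    ring

/-- `hermJ` separates points on the left -/
theorem hermJ_left_sep (hF : Fintype.card F = q ^ 2) (n : ℕ) (w : Fin n → F)
    (h : ∀ v : Fin n → F, hermJ n F q w v = 0) : w = 0 := by
  have hq := two_le_q hF
  funext i
  have := h (Pi.single (Fin.rev i) 1)
  unfold hermJ at this
  rw [Finset.sum_eq_single i] at this
  · rw [Pi.single_eq_same, one_pow, mul_one] at this
    exact this
  · intro k _ hk
    have : Fin.rev k ≠ Fin.rev i := fun e => hk (Fin.rev_injective e)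
    rw [Pi.single_eq_of_ne this, zero_pow (by omega), mul_zero]
  · intro hi
    exact absurd (Finset.mem_univ i) hi

/-- a base change matrix -/
theorem exists_base_change (hF : Fintype.card F = q ^ 2) (n : ℕ) :
    ∃ P : GL (Fin n) F, ∀ u v : Fin n → F,
      Cfsg.hermForm n F q ((P : Matrix (Fin n) (Fin n) F) *ᵥ u)
        ((P : Matrix (Fin n) (Fin n) F) *ᵥ v) = hermJ n F q u v := by
  obtain ⟨z₁, z₂, hne, h1, h2⟩ := exists_two_roots hF
  set L := Lmap n z₁ z₂ (1 + z₂ * z₁ ^ q)⁻¹ with hL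
  have hform : ∀ u v : Fin n → F, Cfsg.hermForm n F q (L u) (L v) = hermJ n F q u v :=
    hermForm_Lmap hF n hne h1 h2
  have hmv : ∀ u : Fin n → F, (LinearMap.toMatrix' L) *ᵥ u = L u := LinearMap.toMatrix'_mulVec L
  have hinj : Function.Injective (LinearMap.toMatrix' L).mulVec := by
    intro u u' huu
    have huu' : L u = L u' := by
      have : (LinearMap.toMatrix' L) *ᵥ u = (LinearMap.toMatrix' L) *ᵥ u' := huu
      rwa [hmv, hmv] at this
    have h0 : L (u - u') = 0 := by rw [map_sub, huu', sub_self]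
    have : u - u' = 0 := by
      apply hermJ_left_sep hF n
      intro v
      rw [← hform, h0]
      exact hermForm_zero_left n (L v)
    exact sub_eq_zero.1 this
  have hunit : IsUnit (LinearMap.toMatrix' L) := Matrix.mulVec_injective_iff_isUnit.1 hinj
  refine ⟨hunit.unit, ?_⟩
  intro u v
  rw [IsUnit.unit_spec, hmv, hmv]
  exact hform u v

/-- **I1** -/
theorem I1 (hF : Fintype.card F = q ^ 2) (n : ℕ) :
    Nonempty (↥(Cfsg.SU n F q) ≃* ↥(GJ n F q)) := by
  obtain ⟨P, hP⟩ := exists_base_change hF n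
  set e := Cfsg.Agent.Lib.Helper14_PSLAut.slConj (P⁻¹ : GL (Fin n) F) with he
  have hPP : (P : Matrix (Fin n) (Fin n) F) * ((P⁻¹ : GL (Fin n) F) : Matrix (Fin n) (Fin n) F) = 1 := by
    rw [← Units.val_mul, mul_inv_cancel, Units.val_one]
  have hPP' : ((P⁻¹ : GL (Fin n) F) : Matrix (Fin n) (Fin n) F) * (P : Matrix (Fin n) (Fin n) F) = 1 := by
    rw [← Units.val_mul, inv_mul_cancel, Units.val_one]
  have hcoe : ∀ s : SpecialLinearGroup (Fin n) F,
      (P : Matrix (Fin n) (Fin n) F) * (e s).1 = s.1 * (P : Matrix (Fin n) (Fin n) F) := by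
    intro s
    have : (e s).1 = ((P⁻¹ : GL (Fin n) F) : Matrix (Fin n) (Fin n) F) * s.1 *
        (P : Matrix (Fin n) (Fin n) F) := by
      rw [he]
      have := Cfsg.Agent.Lib.Helper14_PSLAut.slConj_coe (P⁻¹ : GL (Fin n) F) s
      rw [inv_inv] at this
      exact this
    rw [this, ← Matrix.mul_assoc, ← Matrix.mul_assoc, hPP, Matrix.one_mul]
  have hmem : ∀ s : SpecialLinearGroup (Fin n) F, s ∈ Cfsg.SU n F q ↔ e s ∈ GJ n F q := by
    intro s
    constructor
    · intro hs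
      rw [mem_GJ]
      intro u v
      rw [← hP, Matrix.mulVec_mulVec, Matrix.mulVec_mulVec, hcoe, ← Matrix.mulVec_mulVec,
        ← Matrix.mulVec_mulVec]
      have := hs ((P : Matrix (Fin n) (Fin n) F) *ᵥ u) ((P : Matrix (Fin n) (Fin n) F) *ᵥ v)
      rw [hP] at this
      exact this
    · intro hs
      intro u v
      have hu : u = (P : Matrix (Fin n) (Fin n) F) *ᵥ
          (((P⁻¹ : GL (Fin n) F) : Matrix (Fin n) (Fin n) F) *ᵥ u) := by
        rw [Matrix.mulVec_mulVec, hPP, Matrix.one_mulVec]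
      have hv : v = (P : Matrix (Fin n) (Fin n) F) *ᵥ
          (((P⁻¹ : GL (Fin n) F) : Matrix (Fin n) (Fin n) F) *ᵥ v) := by
        rw [Matrix.mulVec_mulVec, hPP, Matrix.one_mulVec]
      set u₀ := ((P⁻¹ : GL (Fin n) F) : Matrix (Fin n) (Fin n) F) *ᵥ u with hu₀
      set v₀ := ((P⁻¹ : GL (Fin n) F) : Matrix (Fin n) (Fin n) F) *ᵥ v with hv₀
      have e1 : s.1 *ᵥ u = (P : Matrix (Fin n) (Fin n) F) *ᵥ ((e s).1 *ᵥ u₀) := by
        rw [Matrix.mulVec_mulVec, hcoe, ← Matrix.mulVec_mulVec, ← hu]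
      have e2 : s.1 *ᵥ v = (P : Matrix (Fin n) (Fin n) F) *ᵥ ((e s).1 *ᵥ v₀) := by
        rw [Matrix.mulVec_mulVec, hcoe, ← Matrix.mulVec_mulVec, ← hv]
      show Cfsg.hermForm n F q (s.1 *ᵥ u) (s.1 *ᵥ v) = Cfsg.hermForm n F q u v
      rw [e1, e2, hP, (mem_GJ.1 hs) u₀ v₀, ← hP, ← hu, ← hv]
  refine ⟨{
    toFun := fun x => ⟨e x.1, (hmem x.1).1 x.2⟩
    invFun := fun y => ⟨e.symm y.1, (hmem _).2 (by rw [MulEquiv.apply_symm_apply]; exact y.2)⟩
    left_inv := fun x => Subtype.ext (e.symm_apply_apply x.1)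
    right_inv := fun y => Subtype.ext (e.apply_symm_apply y.1)
    map_mul' := fun x y => Subtype.ext (map_mul e x.1 y.1) }⟩

end Cfsg.Agent.Lib.Helper93_S5172_I1
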