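import Mathlib
import Cfsg.Prelude.Def_Classical
import Cfsg.Agent.Lib.Helper13_Herm
import Cfsg.Agent.Lib.Helper5_SUCenter
import Cfsg.Agent.Lib.Helper44_PSLnUT
import Cfsg.Agent.Lib.Helper32_PGroup
import Cfsg.Agent.Lib.Helper88_PSLnFusDefs
import Cfsg.Agent.Lib.Helper88_PSUFusDefs
import Cfsg.Agent.Lib.Helper63_S5172_A1

/-!
# S5172 package D3 (helper98): from the long root elements to the Siegel root elements

`V = xs (j,i) λ ∈ GJ` conjugates the long root element `1 + c E_{i i'}` to
`(1 + c E_{ii'}) (1 + c λ^(q+1) E_{jj'}) · xs (i, j') (c λ^q)`.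
-/

set_option autoImplicit false
set_option linter.unusedSimpArgs false
set_option linter.unusedVariables false

namespace Cfsg.Agent.Lib.Helper98_S5172_D3

open Matrix Cfsg.Agent.Lib.Helper44_PSLnUT Cfsg.Agent.Lib.Helper88_PSLnFus
  Cfsg.Agent.Lib.Helper88_PSUFus

/-- product of two matrix units -/
theorem single_mul_single_ite {ι R : Type*} [DecidableEq ι] [Fintype ι] [CommRing R]
    (i j k l : ι) (a b : R) :
    (single i j a * single k l b : Matrix ι ι R) = if j = k then single i l (a * b) else 0 := by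
  split_ifs with h
  · subst h; exact single_mul_single_same ..
  · exact single_mul_single_of_ne (h := h) ..

/-- the conjugation identity behind D3, for four distinct indices -/
theorem key {ι R : Type*} [DecidableEq ι] [Fintype ι] [CommRing R]
    {i j i' j' : ι} (hij : i ≠ j) (hii' : i ≠ i') (hij' : i ≠ j') (hji' : j ≠ i') (hjj' : j ≠ j')
    (hi'j' : i' ≠ j') (l m c : R) :
    (1 + single j i l) * (1 + single i' j' m) * (1 + single i i' c) =
      (1 + single i i' c) * (1 + single j j' (-(c * l * m))) *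
        ((1 + single i j' (-(c * m))) * (1 + single j i' (c * l))) *
        ((1 + single j i l) * (1 + single i' j' m) : Matrix ι ι R) := by
  simp only [mul_add, add_mul, mul_one, one_mul, single_mul_single_ite, mul_ite, ite_mul,
    hij, hij.symm, hii', hii'.symm, hij', hij'.symm, hji', hji'.symm, hjj', hjj'.symm, hi'j',
    hi'j'.symm, if_true, if_false, mul_zero, zero_mul, add_zero, zero_add]
  rw [mul_comm l c]
  simp only [← single_neg]
  abel

variable {F : Type*} [Field F] [Fintype F] {q : ℕ}

theorem lt_rev_of_lt_half {n : ℕ} {i j : Fin n} (hi : i.val < n / 2) (hj : j.val < n / 2) :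
    i < Fin.rev j := by
  rw [Fin.lt_def, Fin.val_rev]
  omega

theorem ne_rev_of_lt_half {n : ℕ} {i j : Fin n} (hi : i.val < n / 2) (hj : j.val < n / 2) :
    i ≠ Fin.rev j := ne_of_lt (lt_rev_of_lt_half hi hj)

/-- **D3**  the Siegel radical: `xs (i, rev j)`, `i ≠ j`, `i, j < n/2`. -/
theorem D3 (hF : Fintype.card F = q ^ 2) (n : ℕ) (hn : 4 ≤ n)
    (T : Subgroup (SpecialLinearGroup (Fin n) F)) (hT : T ≤ UJ n F q)
    (hsc : ∀ t ∈ T, ∀ g ∈ GJ n F q, g * t * g⁻¹ ∈ UJ n F q → g * t * g⁻¹ ∈ T)
    (hlong : ∀ (i : Fin n) (hi : i ≠ Fin.rev i) (c : F), i.val < n / 2 → c + c ^ q = 0 →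
      SpecialLinearGroup.transvection hi c ∈ T) :
    ∀ (i j : Fin n) (h : i ≠ Fin.rev j) (a : F), i ≠ j → i.val < n / 2 → j.val < n / 2 →
      xs q h a ∈ T := by
  intro i j h a hij hi hj
  obtain ⟨c, hc0, hc⟩ := Cfsg.Agent.Lib.Helper5_SUCenter.exists_trace_zero hF
  have hcq : c ^ q = -c := by linear_combination hc
  have hii' : i ≠ Fin.rev i := ne_rev_of_lt_half hi hi
  have hjj' : j ≠ Fin.rev j := ne_rev_of_lt_half hj hj
  have hji' : j ≠ Fin.rev i := ne_rev_of_lt_half hj hi
  have hi'j' : Fin.rev i ≠ Fin.rev j := fun e => hij (Fin.rev_injective e)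
  -- the parameter
  set l : F := (a / c) ^ q with hl
  have hlq : l ^ q = a / c := Cfsg.Agent.Lib.Helper13_Herm.pow_q_pow_q hF _
  have hlqq : (l ^ q) ^ q = l := Cfsg.Agent.Lib.Helper13_Herm.pow_q_pow_q hF _
  have ha : a = c * l ^ q := by rw [hlq]; field_simp
  set d : F := c * l ^ (q + 1) with hd
  have hdq : d + d ^ q = 0 := by
    rw [hd, mul_pow, hcq, pow_succ, mul_pow, hlqq]
    ring
  have haq : -(a ^ q) = c * l := by
    rw [ha, mul_pow, hcq, hlqq]; ring
  -- the elements
  have ht : SpecialLinearGroup.transvection hii' c ∈ T := hlong i hii' c hi hc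
  have htj : SpecialLinearGroup.transvection hjj' d ∈ T := hlong j hjj' d hj hdq
  have hV : xs q hij.symm l ∈ GJ n F q := Cfsg.Agent.Lib.Helper63_S5172_A1.A1_mem hF hij.symm hjj' hii' l
  -- the identity
  have hid : xs q hij.symm l * SpecialLinearGroup.transvection hii' c =
      (SpecialLinearGroup.transvection hii' c * SpecialLinearGroup.transvection hjj' d *
        xs q h a) * xs q hij.symm l := by
    apply Subtype.ext
    simp only [xs, SpecialLinearGroup.coe_mul, SpecialLinearGroup.transvection_coe, Fin.rev_rev]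
    rw [haq]
    have hk := key (R := F) hij hii' h hji' hjj' hi'j' l (-(l ^ q)) c
    have e1 : -(c * l * -(l ^ q)) = d := by rw [hd, pow_succ]; ring
    have e2 : -(c * -(l ^ q)) = a := by rw [ha]; ring
    rw [e1, e2] at hk
    exact hk
  have hconj : xs q hij.symm l * SpecialLinearGroup.transvection hii' c * (xs q hij.symm l)⁻¹ =
      SpecialLinearGroup.transvection hii' c * SpecialLinearGroup.transvection hjj' d *
        xs q h a := by
    rw [hid, mul_inv_cancel_right]
  -- the conjugate lies in `UJ`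
  have hUT : SpecialLinearGroup.transvection hii' c * SpecialLinearGroup.transvection hjj' d *
        xs q h a ∈ UT n F := by
    refine mul_mem (mul_mem ?_ ?_) (mul_mem ?_ ?_)
    · exact transvection_mem_UT (lt_rev_of_lt_half hi hi) c
    · exact transvection_mem_UT (lt_rev_of_lt_half hj hj) d
    · exact transvection_mem_UT (lt_rev_of_lt_half hi hj) a
    · have : Fin.rev (Fin.rev j) < Fin.rev i := by
        rw [Fin.rev_rev]; exact lt_rev_of_lt_half hj hi
      exact transvection_mem_UT this _
  have hGJ : xs q hij.symm l * SpecialLinearGroup.transvection hii' c * (xs q hij.symm l)⁻¹ ∈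
      GJ n F q :=
    mul_mem (mul_mem hV (hT ht).1) (inv_mem hV)
  have hmem := hsc _ ht _ hV ⟨hGJ, by rw [hconj]; exact hUT⟩
  rw [hconj] at hmem
  have := mul_mem (inv_mem (mul_mem ht htj)) hmem
  rwa [inv_mul_cancel_left] at this

end Cfsg.Agent.Lib.Helper98_S5172_D3
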