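import Mathlib
import Cfsg.Prelude.Def_Classical
import Cfsg.Prelude.Def_FusionSystem
import Cfsg.Agent.Lib.Helper44_PSLnUT
import Cfsg.Agent.Lib.Helper82_Fus_FM
import Cfsg.Agent.Lib.Helper88_PSLnFusDefs
import Cfsg.Agent.Lib.Helper88_PSUFusDefs
import Cfsg.Agent.Lib.Helper88_FusFam
import Cfsg.Agent.Lib.Helper88_FusFamQuot
import Cfsg.Agent.Lib.Helper11_S5172_GEN
import Cfsg.Agent.Lib.Helper29_S5172_D2
import Cfsg.Agent.Lib.Helper3_S5172_D1
import Cfsg.Agent.Lib.Helper41_S5172_B1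
import Cfsg.Agent.Lib.Helper41_S5172_D6
import Cfsg.Agent.Lib.Helper47_S5172_F1
import Cfsg.Agent.Lib.Helper4_S5172_G1
import Cfsg.Agent.Lib.Helper4_S5172_G2
import Cfsg.Agent.Lib.Helper64_S5172_D5
import Cfsg.Agent.Lib.Helper69_S5172_C5
import Cfsg.Agent.Lib.Helper82_S5172_C4
import Cfsg.Agent.Lib.Helper86_S5172_F2
import Cfsg.Agent.Lib.Helper91_S5172_C1
import Cfsg.Agent.Lib.Helper93_S5172_I1
import Cfsg.Agent.Lib.Helper98_S5172_D3
import Cfsg.Agent.Lib.Helper98_S5172_D4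

/-!
# The `p`-fusion system of `PSU_n(q)`, `n ≥ 4`, in the defining characteristic is simple (S5172)

Assembly of the packages of the S5172 market (architect helper88).
-/

set_option autoImplicit false

namespace Cfsg.Agent.Lib.Helper88_PSUFusMain

open Matrix Cfsg.Agent.Lib.Helper44_PSLnUT Cfsg.Agent.Lib.Helper88_PSLnFus
  Cfsg.Agent.Lib.Helper88_PSUFus Cfsg.Agent.Lib.Helper88_FusFam
open Cfsg.Agent.Lib.Helper11_S5172_GEN
  Cfsg.Agent.Lib.Helper29_S5172_D2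
  Cfsg.Agent.Lib.Helper3_S5172_D1
  Cfsg.Agent.Lib.Helper41_S5172_B1
  Cfsg.Agent.Lib.Helper41_S5172_D6
  Cfsg.Agent.Lib.Helper47_S5172_F1
  Cfsg.Agent.Lib.Helper4_S5172_G1
  Cfsg.Agent.Lib.Helper4_S5172_G2
  Cfsg.Agent.Lib.Helper64_S5172_D5
  Cfsg.Agent.Lib.Helper69_S5172_C5
  Cfsg.Agent.Lib.Helper82_S5172_C4
  Cfsg.Agent.Lib.Helper86_S5172_F2
  Cfsg.Agent.Lib.Helper91_S5172_C1
  Cfsg.Agent.Lib.Helper93_S5172_I1
  Cfsg.Agent.Lib.Helper98_S5172_D3
  Cfsg.Agent.Lib.Helper98_S5172_D4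

variable {F : Type*} [Field F] [Fintype F] {q : ℕ}

/-! ## Strongly closed subgroups -/

theorem sc_SL (hF : Fintype.card F = q ^ 2) (p : ℕ) [Fact p.Prime] [CharP F p] (n : ℕ) (hn : 4 ≤ n)
    (T : Subgroup (SpecialLinearGroup (Fin n) F)) (hT : T ≤ UJ n F q) (hne : T ≠ ⊥)
    (hsc : ∀ t ∈ T, ∀ g ∈ GJ n F q, g * t * g⁻¹ ∈ UJ n F q → g * t * g⁻¹ ∈ T) :
    T = UJ n F q := by
  apply le_antisymm hT
  have hnorm : ∀ t ∈ T, ∀ u ∈ UJ n F q, u * t * u⁻¹ ∈ T := by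
    intro t ht u hu
    apply hsc t ht u hu.1
    exact Subgroup.mul_mem _ (Subgroup.mul_mem _ hu (hT ht)) (Subgroup.inv_mem _ hu)
  obtain ⟨i0, hi0, c0, h0, hc0, hc0', hmem⟩ := D1 hF p n hn T hT hne hnorm
  have hlong := D2 hF n hn T hT hsc i0 hi0 c0 h0 hc0 hc0' hmem
  have hsieg := D3 hF n hn T hT hsc hlong
  have hshort := D4 hF n hn T hT hsc hsieg
  have hmid := D5 hF n hn T hT hsc hlong hsieg hshort
  refine (D6 hF n hn).trans ?_
  rw [Subgroup.closure_le]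
  intro g hg
  rcases hg with ⟨i, hi, c, hlt, hc, rfl⟩ | ⟨i, j, h, a, hij, hi, hj, rfl⟩ |
    ⟨i, j, hij, a, hlt, hj, rfl⟩ | ⟨i, m, him, hm, a, b, hi, hab, rfl⟩
  · exact hlong i hi c hlt hc
  · exact hsieg i j h a hij hi hj
  · exact hshort i j hij a hlt hj
  · exact hmid i m him hm a b hi hab

/-- the Sylow subgroup, inside `↥GJ` -/
abbrev S0 (n : ℕ) (F : Type*) [Field F] (q : ℕ) : Subgroup ↥(GJ n F q) :=
  (UJ n F q).subgroupOf (GJ n F q)

/-- the two radicals, inside `↥GJ` -/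
abbrev Qs (n : ℕ) (F : Type*) [Field F] (q : ℕ) (b : Bool) : Subgroup ↥(GJ n F q) :=
  (QJ n F q b).subgroupOf (GJ n F q)

theorem sc_main (hF : Fintype.card F = q ^ 2) (p : ℕ) [Fact p.Prime] [CharP F p] (n : ℕ)
    (hn : 4 ≤ n) (T : Subgroup ↥(GJ n F q)) (hT : T ≤ S0 n F q) (hne : T ≠ ⊥)
    (hsc : ∀ t ∈ T, ∀ g : ↥(GJ n F q), g * t * g⁻¹ ∈ S0 n F q → g * t * g⁻¹ ∈ T) :
    T = S0 n F q := by
  have h1 : T.map (GJ n F q).subtype = UJ n F q := by
    apply sc_SL hF p n hn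
    · rintro _ ⟨t, ht, rfl⟩
      exact hT ht
    · intro h
      apply hne
      rw [eq_bot_iff]
      intro t ht
      have : (GJ n F q).subtype t ∈ T.map (GJ n F q).subtype := Subgroup.mem_map_of_mem _ ht
      rw [h, Subgroup.mem_bot] at this
      rw [Subgroup.mem_bot]
      exact Subtype.ext this
    · rintro _ ⟨t, ht, rfl⟩ g hg hmem
      have := hsc t ht ⟨g, hg⟩ hmem
      exact ⟨_, this, rfl⟩
  apply le_antisymm hT
  intro x hx
  have hx' : (x : SpecialLinearGroup (Fin n) F) ∈ T.map (GJ n F q).subtype := by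
    rw [h1]; exact hx
  obtain ⟨t, ht, e⟩ := hx'
  have : t = x := Subtype.ext e
  rw [← this]
  exact ht

/-! ## The normaliser of `UJ` -/

instance finite_GJ (n : ℕ) : Finite ↥(GJ n F q) := by
  classical
  infer_instance

theorem upper_of_norm (hF : Fintype.card F = q ^ 2) (n : ℕ) (hn : 4 ≤ n)
    (g : SpecialLinearGroup (Fin n) F)
    (h : ∀ u ∈ UJ n F q, g * u * g⁻¹ ∈ UJ n F q) : IsUpper g := by
  classical
  have hN : g ∈ Subgroup.normalizer ((UJ n F q : Subgroup _) : Set _) :=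
    Cfsg.Agent.Lib.Helper82_Fus_FM.mem_normalizer_of_forall h
  apply C1 n (UJ n F q) inf_le_right (C4 hF n hn) g
  intro u hu
  have := Cfsg.Agent.Lib.Helper82_Fus_FM.conj_mem_of_mem_normalizer (Subgroup.inv_mem _ hN) hu
  rw [inv_inv] at this
  exact this.2

omit [Fintype F] in
theorem e0fun_eq {n : ℕ} (i0 : Fin n) (h0 : i0.val = 0) : e0fun n F = Pi.single i0 1 := by
  funext k
  unfold e0fun
  by_cases hk : k = i0
  · subst hk
    rw [if_pos h0, Pi.single_eq_same]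
  · rw [Pi.single_eq_of_ne hk, if_neg]
    intro h
    exact hk (Fin.ext (by omega))

omit [Fintype F] in
theorem upper_mulVec_e0 {n : ℕ} (g : SpecialLinearGroup (Fin n) F) (hg : IsUpper g) (i0 : Fin n)
    (h0 : i0.val = 0) : g.1 *ᵥ e0fun n F = g.1 i0 i0 • e0fun n F := by
  rw [e0fun_eq i0 h0, Matrix.mulVec_single_one]
  funext k
  rw [Pi.smul_apply, smul_eq_mul]
  by_cases hk : k = i0
  · subst hk
    rw [Pi.single_eq_same, mul_one]
    rfl
  · rw [Pi.single_eq_of_ne hk, mul_zero]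
    show g.1 k i0 = 0
    apply hg
    apply Fin.lt_def.mpr
    have : k.val ≠ i0.val := fun h => hk (Fin.ext h)
    omega

theorem nq_SL (hF : Fintype.card F = q ^ 2) (n : ℕ) (hn : 4 ≤ n)
    (g : SpecialLinearGroup (Fin n) F) (hg : g ∈ GJ n F q) (hup : IsUpper g) (b : Bool) :
    ∀ u ∈ QJ n F q b, g * u * g⁻¹ ∈ QJ n F q b := by
  cases b
  · exact F1 hF n hn g hg _ (upper_mulVec_e0 g hup ⟨0, by omega⟩ rfl)
  · apply F2 hF n hn g hg
    intro i j hj hi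
    apply hup
    apply Fin.lt_def.mpr
    omega

theorem nq_main (hF : Fintype.card F = q ^ 2) (n : ℕ) (hn : 4 ≤ n) (b : Bool)
    (x : ↥(GJ n F q)) (hx : ∀ s ∈ S0 n F q, x * s * x⁻¹ ∈ S0 n F q) :
    ∀ u ∈ Qs n F q b, x * u * x⁻¹ ∈ Qs n F q b := by
  have hup : IsUpper (x : SpecialLinearGroup (Fin n) F) := by
    apply upper_of_norm hF n hn
    intro u hu
    have hu' : u ∈ GJ n F q := hu.1
    exact hx ⟨u, hu'⟩ hu
  intro u hu
  exact nq_SL hF n hn x.1 x.2 hup b u.1 hu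

/-! ## The centralisers of the radicals -/

theorem cq_main (hF : Fintype.card F = q ^ 2) (n : ℕ) (hn : 4 ≤ n) (b : Bool)
    (c : ↥(GJ n F q)) (hc : ∀ u ∈ Qs n F q b, c * u = u * c) :
    ∃ s ∈ S0 n F q, s⁻¹ * c ∈ Subgroup.center ↥(GJ n F q) := by
  have hc' : ∀ u ∈ QJ n F q b, (c : SpecialLinearGroup (Fin n) F) * u = u * c := by
    intro u hu
    have huG : u ∈ GJ n F q := by
      cases b
      · exact (Q1_le_UJ q hu).1
      · exact (Qr_le_UJ q hu).1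
    have := hc ⟨u, huG⟩ hu
    exact congrArg Subtype.val this
  obtain ⟨μ, u, hu, e⟩ : ∃ μ : F, ∃ u ∈ UJ n F q,
      (c : SpecialLinearGroup (Fin n) F).1 = μ • u.1 := by
    cases b
    · exact G1 hF n hn c.1 c.2 hc'
    · exact G2 hF n hn c.1 c.2 hc'
  refine ⟨⟨u, hu.1⟩, hu, ?_⟩
  rw [Subgroup.mem_center_iff]
  intro g
  apply Subtype.ext
  apply Subtype.ext
  have hz : ((⟨u, hu.1⟩ : ↥(GJ n F q))⁻¹ * c : ↥(GJ n F q)).1.1
      = μ • (1 : Matrix (Fin n) (Fin n) F) := by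
    have h1 : (u⁻¹ * c.1 : SpecialLinearGroup (Fin n) F).1 = (u⁻¹).1 * c.1.1 := rfl
    have h2 : (u⁻¹).1 * u.1 = 1 := congrArg Subtype.val (inv_mul_cancel u)
    show (u⁻¹ * c.1 : SpecialLinearGroup (Fin n) F).1 = _
    rw [h1, e, Matrix.mul_smul, h2]
  show g.1.1 * ((⟨u, hu.1⟩ : ↥(GJ n F q))⁻¹ * c : ↥(GJ n F q)).1.1
    = ((⟨u, hu.1⟩ : ↥(GJ n F q))⁻¹ * c : ↥(GJ n F q)).1.1 * g.1.1
  rw [hz, Matrix.mul_smul, Matrix.smul_mul, Matrix.mul_one, Matrix.one_mul]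

/-! ## The criterion in `GJ`, modulo the centre -/

theorem S0_ne_bot (hF : Fintype.card F = q ^ 2) (n : ℕ) (hn : 4 ≤ n) : S0 n F q ≠ ⊥ := by
  intro h
  obtain ⟨u, hu, i, hi, hne⟩ := C4 hF n hn ⟨1, by omega⟩ (by simp)
  have h1 : (⟨u, hu.1⟩ : ↥(GJ n F q)) ∈ S0 n F q := hu
  rw [h, Subgroup.mem_bot] at h1
  have h2 : u = 1 := congrArg Subtype.val h1
  apply hne
  rw [h2]
  show (1 : Matrix (Fin n) (Fin n) F) i ⟨1, by omega⟩ = 0
  apply Matrix.one_apply_ne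
  intro e
  rw [e] at hi
  simp at hi

theorem isPGroup_UT (p : ℕ) [Fact p.Prime] [CharP F p] (n : ℕ) : IsPGroup p ↥(UT n F) := by
  obtain ⟨f, -, hf⟩ := FiniteField.card F p
  apply IsPGroup.of_card (n := (f : ℕ) * Fintype.card (Pos n))
  rw [card_UT, hf, pow_mul]

theorem pow_eq_one_S0 (p : ℕ) [Fact p.Prime] [CharP F p] (n : ℕ) (s : ↥(GJ n F q))
    (hs : s ∈ S0 n F q) : ∃ k : ℕ, s ^ (p ^ k) = 1 := by
  have hs' : (s : SpecialLinearGroup (Fin n) F) ∈ UT n F := hs.2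
  obtain ⟨k, hk⟩ := isPGroup_UT (F := F) p n ⟨s.1, hs'⟩
  refine ⟨k, ?_⟩
  apply Subtype.ext
  have := congrArg Subtype.val hk
  simpa using this

theorem center_p' (hF : Fintype.card F = q ^ 2) (p : ℕ) [Fact p.Prime] [CharP F p] (n : ℕ)
    (hn : 4 ≤ n) (z : ↥(GJ n F q)) (hz : z ∈ Subgroup.center ↥(GJ n F q)) (k : ℕ)
    (hk : z ^ (p ^ k) = 1) : z = 1 := by
  obtain ⟨r, hr⟩ := B1 hF n hn z.1 z.2 (by
    intro g hg
    have := (Subgroup.mem_center_iff.mp hz) ⟨g, hg⟩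
    exact congrArg Subtype.val this)
  have h1 : (z.1.1) ^ (p ^ k) = 1 := by
    have := congrArg (fun x : ↥(GJ n F q) => (x : SpecialLinearGroup (Fin n) F).1) hk
    simpa using this
  rw [hr, smul_pow, one_pow] at h1
  have h2 : r ^ (p ^ k) = 1 := by
    have := congrFun (congrFun h1 ⟨0, by omega⟩) ⟨0, by omega⟩
    simpa using this
  have h3 : (r - 1) ^ (p ^ k) = 0 := by
    rw [sub_pow_char_pow, h2, one_pow, sub_self]
  have h4 : r = 1 := by
    have := pow_eq_zero_iff (pow_ne_zero k (Fact.out : p.Prime).ne_zero) |>.mp h3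
    exact sub_eq_zero.mp this
  apply Subtype.ext
  apply Subtype.ext
  rw [hr, h4, one_smul]
  rfl

theorem fusLocalFamMod_GJ (hF : Fintype.card F = q ^ 2) (p : ℕ) [Fact p.Prime] [CharP F p]
    (n : ℕ) (hn : 4 ≤ n) :
    FusLocalFamMod (S0 n F q) (Subgroup.center ↥(GJ n F q)) (Qs n F q) := by
  refine ⟨S0_ne_bot hF n hn, ?_, ?_, ?_, ?_, ?_⟩
  · intro T hT hne hsc
    exact sc_main hF p n hn T hT hne hsc
  · intro b u hu
    cases b
    · exact Q1_le_UJ q hu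
    · exact Qr_le_UJ q hu
  · intro b x hx
    exact nq_main hF n hn b x hx
  · intro b c hc
    exact cq_main hF n hn b c hc
  · intro x hx
    apply GEN hF n hn x
    apply upper_of_norm hF n hn
    intro u hu
    have hu' : u ∈ GJ n F q := hu.1
    exact hx ⟨u, hu'⟩ hu

/-! ## The quotient by the centre and the transfer to `PSU` -/

theorem map_center_of_equiv {G H : Type*} [Group G] [Group H] (e : G ≃* H) :
    (Subgroup.center G).map (e : G →* H) = Subgroup.center H := by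
  ext x
  constructor
  · rintro ⟨z, hz, rfl⟩
    rw [Subgroup.mem_center_iff]
    intro h
    obtain ⟨g, rfl⟩ := e.surjective h
    have := (Subgroup.mem_center_iff.mp hz) g
    show e g * e z = e z * e g
    rw [← map_mul, ← map_mul, this]
  · intro hx
    refine ⟨e.symm x, ?_, by simp⟩
    show e.symm x ∈ Subgroup.center G
    rw [Subgroup.mem_center_iff]
    intro g
    apply e.injective
    rw [map_mul, map_mul, e.apply_symm_apply]
    exact (Subgroup.mem_center_iff.mp hx) (e g)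

instance finite_SU (n : ℕ) : Finite ↥(Cfsg.SU n F q) := by
  classical
  infer_instance

theorem main {K : Type*} [Field K] [Fintype K] (p q : ℕ) [Fact p.Prime] [CharP K p]
    (hK : Fintype.card K = q ^ 2) (n : ℕ) (hn : 4 ≤ n) (S : Sylow p (Cfsg.PSU n K q)) :
    (Cfsg.groupFusionSystem (S : Subgroup (Cfsg.PSU n K q))).IsSimple p := by
  classical
  have hmod := fusLocalFamMod_GJ hK p n hn
  have hquot := fusLocalFam_quotient p (S0 n K q) (Subgroup.center ↥(GJ n K q)) (Qs n K q)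
    le_rfl (center_p' hK p n hn) (pow_eq_one_S0 p n) hmod
  obtain ⟨P, hP⟩ := C5 hK p n hn
  let Pbar : Sylow p (↥(GJ n K q) ⧸ Subgroup.center ↥(GJ n K q)) :=
    Sylow.mapSurjective (f := QuotientGroup.mk' (Subgroup.center ↥(GJ n K q)))
      (QuotientGroup.mk'_surjective _) P
  have hPbar : (Pbar : Subgroup (↥(GJ n K q) ⧸ Subgroup.center ↥(GJ n K q))) =
      (S0 n K q).map (QuotientGroup.mk' (Subgroup.center ↥(GJ n K q))) := by
    show (P : Subgroup ↥(GJ n K q)).map _ = _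
    rw [hP]
  rw [← hPbar] at hquot
  obtain ⟨φ⟩ := I1 hK n
  let e : Cfsg.PSU n K q ≃* (↥(GJ n K q) ⧸ Subgroup.center ↥(GJ n K q)) :=
    QuotientGroup.congr _ _ φ (map_center_of_equiv φ)
  obtain ⟨Q, hQ⟩ := exists_fusLocalFam_of_iso e p Pbar _ hquot S
  exact isSimple_of_fusLocalFam p S Q hQ

end Cfsg.Agent.Lib.Helper88_PSUFusMain
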