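import Mathlib
import Cfsg.Prelude.Def_GeometricClasses
import Cfsg.Prelude.Def_LieClassical
import Cfsg.Agent.Lib.Helper13_Herm
import Cfsg.Agent.Lib.Helper94_SubfieldBridge

set_option autoImplicit false

/-!
The bridge from the abstract core theorem on the field with 64 elements acting on a hermitian space of
dimension six over the field with four elements to the matrix statement: a rational form for the prime field on
which the hermitian form is alternating with values in the prime field, stable up to scalars under the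
normaliser of the cubic extension field inside the special unitary group.
-/

namespace Cfsg.Agent.Lib.Helper88_SU36_E6cBR0

open Matrix Cfsg.Geo

universe u

variable {F : Type u} [Field F] [Fintype F]

omit [Fintype F] in
/-- the matrix with the given columns, applied to a vector -/
lemma of_cols_mulVec {n : ℕ} (b : Fin n → (Fin n → F)) (u : Fin n → F) :
    (Matrix.of fun i j => b j i) *ᵥ u = ∑ j, u j • b j := by
  ext i
  rw [Matrix.mulVec, dotProduct, Finset.sum_apply]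
  apply Finset.sum_congr rfl
  intro j _
  rw [Matrix.of_apply, Pi.smul_apply, smul_eq_mul, mul_comm]

/-- The conclusion of the abstract core theorem, for the hermitian form on the space of dimension six and an
extension field `L` with 64 elements acting on it with adjoints `dag`. -/
def CoreConclusion (F : Type u) [Field F] (L : Type u) [Field L] [Algebra F L] [Module L (Fin 6 → F)]
    (dag : L → L) : Prop :=
  (∀ (k : L) (u v : Fin 6 → F), Cfsg.hermForm 6 F 2 (k • u) v = Cfsg.hermForm 6 F 2 u (dag k • v)) →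
  ∃ b : Fin 6 → (Fin 6 → F), LinearIndependent F b ∧
    (∀ u v : Fin 6 → F, (∀ i, u i ∈ (⊥ : Subfield F)) → (∀ i, v i ∈ (⊥ : Subfield F)) →
      Cfsg.hermForm 6 F 2 (∑ i, u i • b i) (∑ i, v i • b i) ∈ (⊥ : Subfield F)) ∧
    (∀ u : Fin 6 → F, (∀ i, u i ∈ (⊥ : Subfield F)) →
      Cfsg.hermForm 6 F 2 (∑ i, u i • b i) (∑ i, u i • b i) = 0) ∧
    ∀ h : (Fin 6 → F) →ₗ[F] (Fin 6 → F),
      (∀ u v, Cfsg.hermForm 6 F 2 (h u) (h v) = Cfsg.hermForm 6 F 2 u v) →
      (∀ k : L, ∃ k' : L, ∀ v, h (k • v) = k' • h v) → LinearMap.det h = 1 →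
      ∃ c : F, c ≠ 0 ∧ ∀ u : Fin 6 → F, (∀ i, u i ∈ (⊥ : Subfield F)) →
        ∃ w : Fin 6 → F, (∀ i, w i ∈ (⊥ : Subfield F)) ∧ h (∑ i, u i • b i) = c • ∑ i, w i • b i

theorem E6cA_of_core
    (hcore : ∀ (L : Type u) [Field L] [Fintype L] [Algebra F L] [Module L (Fin 6 → F)]
      [IsScalarTower F L (Fin 6 → F)], Fintype.card L = 64 → ∀ dag : L → L, CoreConclusion F L dag)
    (hF : Fintype.card F = 2 ^ 2) (K : Subalgebra F (Matrix (Fin 6) (Fin 6) F))
    (hK : IsFieldSubalgebra 3 K) (hadj : IsAdjointClosedFor (Cfsg.hermForm 6 F 2) K) :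
    ∃ P : GL (Fin 6) F,
      (∀ u v : Fin 6 → F, (∀ i, u i ∈ (⊥ : Subfield F)) → (∀ i, v i ∈ (⊥ : Subfield F)) →
        Cfsg.hermForm 6 F 2 ((P : Matrix (Fin 6) (Fin 6) F) *ᵥ u) ((P : Matrix (Fin 6) (Fin 6) F) *ᵥ v) ∈ (⊥ : Subfield F)) ∧
      (∀ u : Fin 6 → F, (∀ i, u i ∈ (⊥ : Subfield F)) →
        Cfsg.hermForm 6 F 2 ((P : Matrix (Fin 6) (Fin 6) F) *ᵥ u) ((P : Matrix (Fin 6) (Fin 6) F) *ᵥ u) = 0) ∧
      subalgebraNormalizer K ⊓ (Cfsg.GU 6 F 2 ⊓ specialLinear (Fin 6) F) ≤ subfieldSubgroup (⊥ : Subfield F) P := by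
  classical
  have hF4 : Fintype.card F = 4 := by rw [hF]; norm_num
  have hfield : IsField ↥K :=
    { exists_pair_ne := ⟨0, 1, fun h => by
        have h1 : ((0 : ↥K) : Matrix (Fin 6) (Fin 6) F) = ((1 : ↥K) : Matrix (Fin 6) (Fin 6) F) :=
          congrArg Subtype.val h
        rw [ZeroMemClass.coe_zero, OneMemClass.coe_one] at h1
        exact zero_ne_one h1⟩
      mul_comm := fun x y => Subtype.ext (hK.comm x.1 x.2 y.1 y.2)
      mul_inv_cancel := fun {a} ha => by
        obtain ⟨y, hy, hxy⟩ := hK.inv a.1 a.2 (fun h => ha (Subtype.ext h))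
        exact ⟨⟨y, hy⟩, Subtype.ext hxy⟩ }
  let _ : Field ↥K := hfield.toField
  have : Fintype ↥K := Fintype.ofFinite ↥K
  have hfr : Module.finrank F ↥K = 3 := hK.finrank_eq
  have hL : Fintype.card ↥K = 64 := by
    have h1 : Fintype.card ↥K = Fintype.card F ^ Module.finrank F ↥K := Module.card_eq_pow_finrank
    rw [h1, hfr, hF4]
    norm_num
  -- the adjoint
  choose dag0 hdag0K hdag0 using hadj
  let dag : ↥K → ↥K := fun k => ⟨dag0 k.1 k.2, hdag0K k.1 k.2⟩
  obtain ⟨b, hbli, hb1, hb2, hb3⟩ := hcore ↥K hL dag (fun k u v => hdag0 k.1 k.2 u v)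
  -- the matrix with columns `b j`
  obtain ⟨M, hM⟩ : ∃ M : Matrix (Fin 6) (Fin 6) F, M = Matrix.of fun i j => b j i := ⟨_, rfl⟩
  have hMv : ∀ u : Fin 6 → F, M *ᵥ u = ∑ j, u j • b j := by
    intro u
    rw [hM]
    exact of_cols_mulVec b u
  have hMunit : IsUnit M := by
    rw [← Matrix.linearIndependent_cols_iff_isUnit]
    have h1 : M.col = b := by
      funext j i
      rw [hM]
      rfl
    rw [h1]
    exact hbli
  obtain ⟨P, hP⟩ := hMunit
  refine ⟨P, ?_, ?_, ?_⟩
  · intro u v hu hv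
    rw [hP, hMv, hMv]
    exact hb1 u v hu hv
  · intro u hu
    rw [hP, hMv]
    exact hb2 u hu
  · rintro g ⟨hgN, hgU, hgS⟩
    rw [Cfsg.Agent.Lib.Helper94_SubfieldBridge.mem_subfieldSubgroup_iff]
    have hgg : ((g⁻¹ : GL (Fin 6) F) : Matrix (Fin 6) (Fin 6) F) * (g : Matrix (Fin 6) (Fin 6) F) = 1 := by
      rw [← Units.val_mul, inv_mul_cancel, Units.val_one]
    obtain ⟨c, hc0, hc⟩ := hb3 (Matrix.toLin' (g : Matrix (Fin 6) (Fin 6) F))
      (fun u v => by
        rw [Matrix.toLin'_apply, Matrix.toLin'_apply]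
        exact hgU u v)
      (fun k => by
        refine ⟨⟨(g : Matrix (Fin 6) (Fin 6) F) * k.1 * ((g⁻¹ : GL (Fin 6) F) : Matrix (Fin 6) (Fin 6) F),
          (hgN k.1).mp k.2⟩, ?_⟩
        intro v
        change (g : Matrix (Fin 6) (Fin 6) F) *ᵥ (k.1 *ᵥ v) =
          ((g : Matrix (Fin 6) (Fin 6) F) * k.1 * ((g⁻¹ : GL (Fin 6) F) : Matrix (Fin 6) (Fin 6) F)) *ᵥ
            ((g : Matrix (Fin 6) (Fin 6) F) *ᵥ v)
        rw [Matrix.mulVec_mulVec, Matrix.mulVec_mulVec, Matrix.mul_assoc, Matrix.mul_assoc, hgg,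
          Matrix.mul_one])
      (by
        rw [LinearMap.det_toLin']
        have h1 : Matrix.GeneralLinearGroup.det g = 1 := hgS
        have h2 := congrArg Units.val h1
        rwa [Matrix.GeneralLinearGroup.val_det_apply, Units.val_one] at h2)
    refine ⟨c, hc0, ?_⟩
    rintro _ ⟨u, hu, rfl⟩
    obtain ⟨w, hw, hgw⟩ := hc u hu
    refine ⟨(P : Matrix (Fin 6) (Fin 6) F) *ᵥ w, ⟨w, hw, rfl⟩, ?_⟩
    rw [hP, hMv, hMv, ← hgw, Matrix.toLin'_apply]

end Cfsg.Agent.Lib.Helper88_SU36_E6cBR0
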