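import Mathlib
import Cfsg.Prelude.Def_Classical
import Cfsg.Prelude.Def_GeometricClasses
import Cfsg.Agent.Lib.Helper94_Symp
import Cfsg.Agent.Lib.Helper94_Bridge
import Cfsg.Agent.Lib.Helper98_ExtDefs
import Cfsg.Agent.Lib.Helper29_SpExtBridge
import Cfsg.Agent.Lib.Helper67_SpAschMax
import Cfsg.Agent.Lib.Helper67_Sp4Defs
import Cfsg.Agent.Lib.Helper67_Sp4E_Main3

/-!
# S5789 package EBR (helper88, for helper67): the bridge for part (3) - the normaliser of a
quadratic field subalgebra `K` is maximal in `Sp_4(F)`, `F` finite of even order at least 4.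
-/

set_option autoImplicit false
set_option linter.unusedSectionVars false
set_option linter.unusedVariables false
set_option linter.style.haveILetI false

namespace Cfsg.Agent.Lib.Helper88_Sp4E_EBR

open Matrix Cfsg Cfsg.Geo Cfsg.Agent.Lib.Helper94_Symp Cfsg.Agent.Lib.Helper94_Bridge
  Cfsg.Agent.Lib.Helper98_ExtDefs Cfsg.Agent.Lib.Helper29_SpExtBridge
  Cfsg.Agent.Lib.Helper67_Sp4Defs

theorem ebr_isField_of {F : Type*} [Field F] {ι : Type} [Fintype ι] [DecidableEq ι] [Nonempty ι]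
    {r : ℕ} {K : Subalgebra F (Matrix ι ι F)} (hK : Cfsg.Geo.IsFieldSubalgebra r K) :
    IsField ↥K :=
  { exists_pair_ne := ⟨0, 1, fun h => by
      have h1 : ((0 : ↥K) : Matrix ι ι F) = ((1 : ↥K) : Matrix ι ι F) := congrArg Subtype.val h
      rw [ZeroMemClass.coe_zero, OneMemClass.coe_one] at h1
      exact zero_ne_one h1⟩
    mul_comm := fun x y => Subtype.ext (hK.comm x.1 x.2 y.1 y.2)
    mul_inv_cancel := fun {a} ha => by
      obtain ⟨y, hy, hxy⟩ := hK.inv a.1 a.2 (fun h => ha (Subtype.ext h))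
      exact ⟨⟨y, hy⟩, Subtype.ext hxy⟩ }

theorem ebr_charP_two {F : Type*} [Field F] [Fintype F] (heven : ¬ Odd (Fintype.card F)) :
    CharP F 2 := by
  have h1 : ringChar F = 2 := by
    rw [FiniteField.even_card_iff_char_two]
    rcases Nat.even_or_odd (Fintype.card F) with h | h
    · exact Nat.even_iff.mp h
    · exact absurd h heven
  exact ringChar.of_eq h1

theorem part3 {F : Type*} [Field F] [Fintype F] (heven : ¬ Odd (Fintype.card F))
    (h4 : 4 ≤ Fintype.card F)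
    (K : Subalgebra F (Matrix (Fin 2 ⊕ Fin 2) (Fin 2 ⊕ Fin 2) F))
    (hK : Cfsg.Geo.IsFieldSubalgebra 2 K)
    (hsa : Cfsg.Geo.IsSelfAdjointFor (Cfsg.sympForm 2 F) K)
    (halt : ∀ k ∈ K, ∀ v : (Fin 2 ⊕ Fin 2 → F), (Cfsg.sympForm 2 F) (Matrix.mulVec k v) v = 0) :
    Cfsg.Geo.IsMaximalIn (Cfsg.spGL 2 F) (Cfsg.Geo.subalgebraNormalizer K ⊓ Cfsg.spGL 2 F) := by
  classical
  haveI : CharP F 2 := ebr_charP_two heven
  letI : Field ↥K := (ebr_isField_of hK).toField
  have hfr : Module.finrank F ↥K = 2 := hK.finrank_eq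
  haveI : Finite ↥K := Finite.of_injective (fun x : ↥K => x.1) Subtype.val_injective
  haveI : Module.Finite ↥K (Fin 2 ⊕ Fin 2 → F) := Module.Finite.of_restrictScalars_finite F ↥K _
  have hKV : Module.finrank ↥K (Fin 2 ⊕ Fin 2 → F) = 2 := by
    have h3 := Module.finrank_mul_finrank F ↥K (Fin 2 ⊕ Fin 2 → F)
    rw [hfr, Module.finrank_fintype_fun_eq_card, Fintype.card_sum, Fintype.card_fin] at h3
    omega
  have hKL : ∀ k : Matrix (Fin 2 ⊕ Fin 2) (Fin 2 ⊕ Fin 2) F,
      k ∈ K ↔ ∃ x : ↥K, ∀ v : Fin 2 ⊕ Fin 2 → F, k *ᵥ v = x • v := by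
    intro k
    constructor
    · intro hk
      exact ⟨⟨k, hk⟩, fun v => rfl⟩
    · rintro ⟨x, hx⟩
      have : k = x.1 := by
        rw [Matrix.ext_iff_mulVec]
        intro v
        rw [hx v]
        rfl
      rw [this]
      exact x.2
  have hsa' : ∀ (k : ↥K) (u v : Fin 2 ⊕ Fin 2 → F), Bsymp 2 F (k • u) v = Bsymp 2 F u (k • v) := by
    intro k u v
    rw [Bsymp_apply, Bsymp_apply]
    exact hsa k.1 k.2 u v
  have halt' : ∀ (k : ↥K) (v : Fin 2 ⊕ Fin 2 → F), Bsymp 2 F (k • v) v = 0 := by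
    intro k v
    rw [Bsymp_apply]
    exact halt k.1 k.2 v
  have h3 : 3 ≤ Nat.card F := by
    rw [Nat.card_eq_fintype_card]
    omega
  obtain ⟨hlt, hmax⟩ := Cfsg.Agent.Lib.Helper67_Sp4E_Main3.maximal_semiIso (F := F) (K := ↥K)
    (V := Fin 2 ⊕ Fin 2 → F) (Bsymp_isAlt 2) (Bsymp_nondegenerate 2) hfr hKV hsa' halt' h3
  have hnot : ¬ Cfsg.spGL 2 F ≤ subalgebraNormalizer K :=
    Cfsg.Agent.Lib.Helper67_SpAschMax.not_le_subalgebraNormalizer (le_refl 2) (by norm_num) hK
  refine ⟨?_, ?_⟩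
  · refine lt_of_le_of_ne inf_le_right ?_
    intro heq
    apply hnot
    rw [← heq]
    exact inf_le_left
  · intro M hHM hMS
    by_cases hMN : M ≤ subalgebraNormalizer K
    · left
      exact le_antisymm (le_inf hMN hMS) hHM
    · right
      obtain ⟨g₀, hg₀M, hg₀N⟩ := SetLike.not_le_iff_exists.mp hMN
      set X : Subgroup ((Fin 2 ⊕ Fin 2 → F) ≃ₗ[F] (Fin 2 ⊕ Fin 2 → F)) :=
        M.map (glEquiv (Fin 2 ⊕ Fin 2) F).toMonoidHom with hX
      have hNX : semiIso F ↥K (Fin 2 ⊕ Fin 2 → F) (Bsymp 2 F) ≤ X := by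
        rintro e ⟨heI, hes⟩
        rw [hX, mem_map_glEquiv_iff]
        apply hHM
        refine ⟨?_, ?_⟩
        · apply mem_normalizer_of_isSemilin K hKL
          rw [MulEquiv.apply_symm_apply]
          exact hes
        · show (glEquiv (Fin 2 ⊕ Fin 2) F).symm e ∈ Cfsg.spGL 2 F
          rw [spGL_eq, Subgroup.mem_comap]
          show (glEquiv (Fin 2 ⊕ Fin 2) F) ((glEquiv (Fin 2 ⊕ Fin 2) F).symm e) ∈ _
          rw [MulEquiv.apply_symm_apply]
          exact heI
      have hXI : X ≤ isoGroup (Bsymp 2 F) := by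
        rintro e ⟨g, hg, rfl⟩
        have := hMS hg
        rw [spGL_eq, Subgroup.mem_comap] at this
        exact this
      rcases hmax X hNX hXI with hXe | hXe
      · exfalso
        apply hg₀N
        apply mem_normalizer_of_isSemilin K hKL
        have hmem : glEquiv (Fin 2 ⊕ Fin 2) F g₀ ∈ X := ⟨g₀, hg₀M, rfl⟩
        rw [hXe] at hmem
        exact hmem.2
      · apply le_antisymm hMS
        intro g hg
        rw [spGL_eq, Subgroup.mem_comap] at hg
        have hgX : (glEquiv (Fin 2 ⊕ Fin 2) F).toMonoidHom g ∈ X := by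
          rw [hXe]
          exact hg
        obtain ⟨g', hg', hgg'⟩ := hgX
        have : g' = g := (glEquiv (Fin 2 ⊕ Fin 2) F).injective hgg'
        rw [← this]
        exact hg'

end Cfsg.Agent.Lib.Helper88_Sp4E_EBR
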