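import Mathlib
import Cfsg.Agent.S5961
import Cfsg.Agent.Lib.Helper13_Symp
import Cfsg.Agent.Lib.Helper40_SpBasic
import Cfsg.Agent.Lib.Helper43_Jordan3
import Cfsg.Agent.Lib.Helper43_SympJordan
import Cfsg.Agent.Lib.Helper94_Bridge
import Cfsg.Agent.Lib.Helper99_SpBridge
import Cfsg.Agent.Lib.Helper88_UnipDec

set_option autoImplicit false

/-!
Package Q4 for S5956 (helper99): the case `r = p > 2`.  Every nonscalar symplectic matrix whose
`p`-th power is scalar fixes a nondegenerate `m`-space iff every admissible Jordan type `μ` of size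
`2d` has an admissible sub-multiset of size `m`.
-/

namespace Cfsg.Agent.Lib.Helper88_SpND_Q4

open Module Cfsg.Agent.Lib.Helper40_SpBasic Cfsg.Agent.Lib.Helper43_Jordan
  Cfsg.Agent.Lib.Helper88_UnipDec

universe u

section Abstract

variable {F : Type u} [Field F]

theorem sub_one_pow_char {R : Type*} [Ring R] [Algebra F R] (p : ℕ) [Fact p.Prime] [CharP F p]
    (a : R) : (a - 1) ^ p = a ^ p - 1 := by
  rcases subsingleton_or_nontrivial R with h | h
  · exact Subsingleton.elim _ _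
  · have : CharP R p := charP_of_injective_algebraMap (algebraMap F R).injective p
    rw [sub_pow_char_of_commute p (Commute.one_right a), one_pow]

variable {V : Type u} [AddCommGroup V] [Module F V]

/-- a unipotent isometry of order `p` in odd characteristic `p` satisfies the claim -/
theorem claim_of_isoData [FiniteDimensional F V] (p : ℕ) [Fact p.Prime] [CharP F p]
    (h2 : (2 : F) ≠ 0) {B : LinearMap.BilinForm F V} {u : End F V} (h : IsoData B u p)
    (hB : B.Nondegenerate) : (u - 1) ^ p = 0 ∧ IsNilpotent (u - 1) ∧ Claim B u := by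
  have hp : (u - 1) ^ p = 0 := by rw [sub_one_pow_char (F := F) p u, h.pow, sub_self]
  have hnil : IsNilpotent (u - 1) := ⟨p, hp⟩
  exact ⟨hp, hnil, unip_claim h2 _ B u p rfl h hB hnil⟩

/-- the all-ones case -/
theorem exists_sub_of_all_one (μ : Multiset ℕ) (h1 : ∀ a ∈ μ, a = 1) (m : ℕ) (hme : Even m)
    (hm : m ≤ μ.sum) :
    ∃ ν : Multiset ℕ, ν ≤ μ ∧ ν.sum = m ∧ ∀ a : ℕ, Odd a → Even (ν.count a) := by
  have hμ : μ = Multiset.replicate (Multiset.card μ) 1 := Multiset.eq_replicate_card.2 h1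
  have hs : μ.sum = Multiset.card μ := by
    conv_lhs => rw [hμ]
    rw [Multiset.sum_replicate, smul_eq_mul, mul_one]
  refine ⟨Multiset.replicate m 1, ?_, ?_, ?_⟩
  · rw [hμ]
    rw [Multiset.replicate_le_replicate]
    omega
  · rw [Multiset.sum_replicate, smul_eq_mul, mul_one]
  · intro a _
    rw [Multiset.count_replicate]
    split_ifs
    · exact hme
    · exact ⟨0, rfl⟩

end Abstract

open scoped MatrixGroups
open Cfsg Cfsg.Agent.Lib.Helper94_Bridge

section Bridge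

variable {F : Type u} [Field F]

theorem finrank_std (d : ℕ) : finrank F (Fin d ⊕ Fin d → F) = d + d := by
  rw [Module.finrank_fintype_fun_eq_card, Fintype.card_sum, Fintype.card_fin]

theorem two_ne_zero_of_char {p : ℕ} [Fact p.Prime] [CharP F p] (hp2 : 2 < p) : (2 : F) ≠ 0 := by
  intro h
  have h3 : ((2 : ℕ) : F) = 0 := by exact_mod_cast h
  rw [CharP.cast_eq_zero_iff F p 2] at h3
  have := Nat.le_of_dvd (by norm_num) h3
  omega

/-- (⇐) for a single matrix -/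
theorem exists_of_counts {p : ℕ} [Fact p.Prime] [CharP F p] (d m : ℕ) (hd : 1 ≤ d) (hp2 : 2 < p)
    (hcomb : ∀ μ : Multiset ℕ, (∀ a ∈ μ, 0 < a ∧ a ≤ p) →
      (∀ a : ℕ, Odd a → Even (μ.count a)) → μ.sum = 2 * d →
        ∃ ν : Multiset ℕ, ν ≤ μ ∧ ν.sum = m ∧ ∀ a : ℕ, Odd a → Even (ν.count a))
    (x : ↥(Matrix.symplecticGroup (Fin d) F))
    (hx : ∃ z : F, ((x ^ p : ↥(Matrix.symplecticGroup (Fin d) F)) :
      Matrix (Fin d ⊕ Fin d) (Fin d ⊕ Fin d) F) =
        z • (1 : Matrix (Fin d ⊕ Fin d) (Fin d ⊕ Fin d) F)) :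
    ∃ W : Submodule F (Fin d ⊕ Fin d → F), Module.finrank F ↥W = m ∧
      (∀ u ∈ W, u ≠ 0 → ∃ v ∈ W, Cfsg.sympForm d F u v ≠ 0) ∧
        W.map (Matrix.toLin' (x : Matrix (Fin d ⊕ Fin d) (Fin d ⊕ Fin d) F)) ≤ W := by
  obtain ⟨z, hz⟩ := hx
  have hpp : p.Prime := Fact.out
  have h2 : (2 : F) ≠ 0 := two_ne_zero_of_char hp2
  have hzz : z * z = 1 := by
    apply Cfsg.Agent.S5961.sq_eq_one_of_smul_mem (d := d) hd z
    rw [← hz]
    exact (x ^ p).2
  set X : End F (Fin d ⊕ Fin d → F) :=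
    Matrix.toLin' (x : Matrix (Fin d ⊕ Fin d) (Fin d ⊕ Fin d) F) with hXdef
  have hXp : X ^ p = z • (1 : End F (Fin d ⊕ Fin d → F)) := by
    rw [hXdef, ← Matrix.toLin'_pow]
    have h3 : ((x ^ p : ↥(Matrix.symplecticGroup (Fin d) F)) :
        Matrix (Fin d ⊕ Fin d) (Fin d ⊕ Fin d) F) =
        (x : Matrix (Fin d ⊕ Fin d) (Fin d ⊕ Fin d) F) ^ p := SubmonoidClass.coe_pow x p
    rw [← h3, hz, map_smul, Matrix.toLin'_one]
    rfl
  have hodd : Odd p := hpp.odd_of_ne_two (by omega)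
  have hzp : z ^ (p + 1) = 1 := by
    obtain ⟨k, hk⟩ := hodd
    have : p + 1 = 2 * (k + 1) := by omega
    rw [this, pow_mul, pow_two, hzz, one_pow]
  have hup : (z • X) ^ p = 1 := by
    rw [smul_pow, hXp, smul_smul, ← pow_succ, hzp, one_smul]
  have hI : IsoData (Bsymp d F) (z • X) p :=
    { alt := fun v => Bsymp_isAlt d v
      iso := by
        intro a b
        simp only [LinearMap.smul_apply, map_smul, smul_eq_mul]
        rw [← mul_assoc, hzz, one_mul]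
        exact Cfsg.Agent.S5961.Bsymp_iso x.2 a b
      pow := hup
      pos := hpp.pos }
  obtain ⟨hNp, hnil, hcl1, hcl2⟩ := claim_of_isoData p h2 hI (Bsymp_nondegenerate d)
  have hμ1 : ∀ a ∈ jtype (z • X - 1), 0 < a ∧ a ≤ p := by
    intro a ha
    exact ⟨jtype_pos _ ha, (pow_eq_zero_iff_jtype _ hnil p).1 hNp a ha⟩
  have hμ2 : (jtype (z • X - 1)).sum = 2 * d := by
    rw [jtype_sum _ hnil, finrank_std]
    ring
  obtain ⟨ν, hνle, hνsum, hνpar⟩ := hcomb (jtype (z • X - 1)) hμ1 hcl1 hμ2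
  obtain ⟨W, hWinv, hWnd, hWdim⟩ := hcl2 ν hνle hνpar
  refine ⟨W, by rw [hWdim, hνsum], ?_, ?_⟩
  · intro u hu hu0
    obtain ⟨v, hv, hne⟩ := (Cfsg.Agent.S5961.ndOn_iff (Bsymp d F) W).1 hWnd u hu hu0
    exact ⟨v, hv, by rwa [Bsymp_apply] at hne⟩
  · rintro _ ⟨w, hw, rfl⟩
    have h3 : X w = z • ((z • X) w) := by
      rw [LinearMap.smul_apply, smul_smul, hzz, one_smul]
    rw [h3]
    exact W.smul_mem z (hWinv w hw)

/-- (⇒) for a single multiset -/
theorem counts_of_exists {p : ℕ} [Fact p.Prime] [CharP F p] (d m : ℕ) (hd : 1 ≤ d)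
    (hme : Even m) (hmd : m ≤ 2 * d) (hp2 : 2 < p)
    (H : ∀ x : ↥(Matrix.symplecticGroup (Fin d) F),
      (∃ z : F, ((x ^ p : ↥(Matrix.symplecticGroup (Fin d) F)) :
        Matrix (Fin d ⊕ Fin d) (Fin d ⊕ Fin d) F) =
          z • (1 : Matrix (Fin d ⊕ Fin d) (Fin d ⊕ Fin d) F)) →
      (∀ z : F, (x : Matrix (Fin d ⊕ Fin d) (Fin d ⊕ Fin d) F) ≠
        z • (1 : Matrix (Fin d ⊕ Fin d) (Fin d ⊕ Fin d) F)) →
      ∃ W : Submodule F (Fin d ⊕ Fin d → F), Module.finrank F ↥W = m ∧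
        (∀ u ∈ W, u ≠ 0 → ∃ v ∈ W, Cfsg.sympForm d F u v ≠ 0) ∧
          W.map (Matrix.toLin' (x : Matrix (Fin d ⊕ Fin d) (Fin d ⊕ Fin d) F)) ≤ W)
    (μ : Multiset ℕ) (hμ : ∀ a ∈ μ, 0 < a ∧ a ≤ p)
    (hcnt : ∀ a : ℕ, Odd a → Even (μ.count a)) (hsum : μ.sum = 2 * d) :
    ∃ ν : Multiset ℕ, ν ≤ μ ∧ ν.sum = m ∧ ∀ a : ℕ, Odd a → Even (ν.count a) := by
  have hpp : p.Prime := Fact.out
  have h2 : (2 : F) ≠ 0 := two_ne_zero_of_char hp2
  by_cases h1 : ∀ a ∈ μ, a = 1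
  · exact exists_sub_of_all_one μ h1 m hme (by omega)
  push Not at h1
  obtain ⟨a0, ha0, ha01⟩ := h1
  obtain ⟨V, _, _, _, ω, g, hωalt, hωnd, hgiso, hgnil, hgj⟩ :=
    Cfsg.Agent.Lib.Helper43_SympJordan.realizable_of_counts (F := F) μ
      (fun a ha => (hμ a ha).1) hcnt
  have hdim : finrank F V = 2 * d := by rw [← jtype_sum _ hgnil, hgj, hsum]
  obtain ⟨e, he⟩ :=
    Cfsg.Agent.Lib.Helper99_SpBridge.exists_isometry_standard ω hωalt hωnd d hdim
  set G : End F (Fin d ⊕ Fin d → F) := e.conjRingEquiv g with hG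
  have hGe : ∀ v, G (e v) = e (g v) := by
    intro v
    rw [hG, LinearEquiv.conjRingEquiv_apply_apply, e.symm_apply_apply]
  have hGiso : ∀ a b, Bsymp d F (G a) (G b) = Bsymp d F a b := by
    intro a b
    obtain ⟨a', rfl⟩ := e.surjective a
    obtain ⟨b', rfl⟩ := e.surjective b
    rw [hGe, hGe, he, he, hgiso]
  have hGsub : G - 1 = e.conjRingEquiv (g - 1) := by
    rw [map_sub, map_one]
  have hGnil : IsNilpotent (G - 1) := by
    rw [hGsub]
    exact hgnil.map e.conjRingEquiv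
  have hGj : jtype (G - 1) = μ := by
    rw [← hgj]
    symm
    rw [jtype_eq_iff _ hgnil _ hGnil]
    refine ⟨e, fun v => ?_⟩
    rw [hGsub, LinearEquiv.conjRingEquiv_apply_apply, e.symm_apply_apply]
  have hGNp : (G - 1) ^ p = 0 := by
    rw [pow_eq_zero_iff_jtype _ hGnil p, hGj]
    exact fun a ha => (hμ a ha).2
  have hGp : G ^ p = 1 := by
    have h3 := sub_one_pow_char (F := F) p G
    rw [hGNp] at h3
    exact (sub_eq_zero.1 h3.symm)
  -- the matrix
  have hxmem : LinearMap.toMatrix' G ∈ Matrix.symplecticGroup (Fin d) F := by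
    apply Cfsg.Agent.Lib.Helper13_Symp.mem_symplecticGroup_of_preserves
    intro a b
    rw [← Matrix.toLin'_apply, ← Matrix.toLin'_apply, Matrix.toLin'_toMatrix', ← Bsymp_apply,
      ← Bsymp_apply, hGiso]
  set x : ↥(Matrix.symplecticGroup (Fin d) F) := ⟨LinearMap.toMatrix' G, hxmem⟩ with hxdef
  have hxG : Matrix.toLin' (x : Matrix (Fin d ⊕ Fin d) (Fin d ⊕ Fin d) F) = G :=
    Matrix.toLin'_toMatrix' G
  have hxp : ∃ z : F, ((x ^ p : ↥(Matrix.symplecticGroup (Fin d) F)) :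
      Matrix (Fin d ⊕ Fin d) (Fin d ⊕ Fin d) F) =
        z • (1 : Matrix (Fin d ⊕ Fin d) (Fin d ⊕ Fin d) F) := by
    refine ⟨1, ?_⟩
    rw [one_smul]
    have h3 : ((x ^ p : ↥(Matrix.symplecticGroup (Fin d) F)) :
        Matrix (Fin d ⊕ Fin d) (Fin d ⊕ Fin d) F) =
        (x : Matrix (Fin d ⊕ Fin d) (Fin d ⊕ Fin d) F) ^ p := SubmonoidClass.coe_pow x p
    rw [h3]
    apply Matrix.toLin'.injective
    rw [Matrix.toLin'_pow, hxG, hGp, Matrix.toLin'_one]
    rfl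
  have hxns : ∀ z : F, (x : Matrix (Fin d ⊕ Fin d) (Fin d ⊕ Fin d) F) ≠
      z • (1 : Matrix (Fin d ⊕ Fin d) (Fin d ⊕ Fin d) F) := by
    intro z hz
    have hGz : G = z • (1 : End F (Fin d ⊕ Fin d → F)) := by
      rw [← hxG, hz, map_smul, Matrix.toLin'_one]
      rfl
    -- a nonzero vector
    obtain ⟨v, hv⟩ : ∃ v : Fin d ⊕ Fin d → F, v ≠ 0 := ⟨fun _ => 1, fun h => by
      have := congrFun h (Sum.inl ⟨0, by omega⟩)
      simp at this⟩
    have h3 : (G - 1) ^ p = (z - 1) ^ p • (1 : End F (Fin d ⊕ Fin d → F)) := by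
      have h4 : G - 1 = (z - 1) • (1 : End F (Fin d ⊕ Fin d → F)) := by
        apply LinearMap.ext
        intro w
        rw [hGz]
        simp only [LinearMap.sub_apply, LinearMap.smul_apply, Module.End.one_apply, sub_smul,
          one_smul]
      rw [h4, smul_pow, one_pow]
    rw [hGNp] at h3
    have h4 : (z - 1) ^ p • v = 0 := by
      have := congrArg (fun T : End F (Fin d ⊕ Fin d → F) => T v) h3
      simpa using this.symm
    have hz1 : z = 1 := by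
      rcases smul_eq_zero.1 h4 with h5 | h5
      · exact sub_eq_zero.1 (pow_eq_zero_iff hpp.ne_zero |>.1 h5)
      · exact absurd h5 hv
    have h5 : (G - 1) ^ 1 = 0 := by
      rw [pow_one, hGz, hz1, one_smul, sub_self]
    have h6 := (pow_eq_zero_iff_jtype _ hGnil 1).1 h5 a0 (by rw [hGj]; exact ha0)
    have := (hμ a0 ha0).1
    omega
  obtain ⟨W, hWdim, hWnd, hWinv⟩ := H x hxp hxns
  rw [hxG] at hWinv
  have hWG : ∀ w ∈ W, G w ∈ W := fun w hw => hWinv ⟨w, hw, rfl⟩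
  have hWND : NDOn (Bsymp d F) W := by
    rw [Cfsg.Agent.S5961.ndOn_iff]
    intro u hu hu0
    obtain ⟨v, hv, hne⟩ := hWnd u hu hu0
    exact ⟨v, hv, by rwa [Bsymp_apply]⟩
  have hI : IsoData (Bsymp d F) G p :=
    { alt := fun v => Bsymp_isAlt d v
      iso := hGiso
      pow := hGp
      pos := hpp.pos }
  have hWN : ∀ w ∈ W, (G - 1) w ∈ W := by
    intro w hw
    rw [LinearMap.sub_apply, Module.End.one_apply]
    exact W.sub_mem (hWG w hw) hw
  have hW'G : ∀ w ∈ (Bsymp d F).orthogonal W, G w ∈ (Bsymp d F).orthogonal W :=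
    hI.inv_orthogonal hWG
  have hW'N : ∀ w ∈ (Bsymp d F).orthogonal W, (G - 1) w ∈ (Bsymp d F).orthogonal W := by
    intro w hw
    rw [LinearMap.sub_apply, Module.End.one_apply]
    exact Submodule.sub_mem _ (hW'G w hw) hw
  have hsplit := jtype_add_of_isCompl (G - 1) hGnil W ((Bsymp d F).orthogonal W)
    (isCompl_orthogonal hI hWND) hWN hW'N
  have hnilW : IsNilpotent ((G - 1).restrict hWN) := Module.End.isNilpotent.restrict hWN hGnil
  refine ⟨jtype ((G - 1).restrict hWN), ?_, ?_, ?_⟩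
  · rw [← hGj, hsplit]
    exact Multiset.le_add_right _ _
  · rw [jtype_sum _ hnilW, hWdim]
  · have hcl := unip_claim h2 _ ((Bsymp d F).restrict W) (G.restrict hWG) p rfl
      (hI.restrict hWG) (nondegenerate_restrict hI hWND)
      (by rw [restrict_sub_one hWG hWN]; exact hnilW)
    have h3 := hcl.1
    rw [restrict_sub_one hWG hWN] at h3
    exact h3

end Bridge

/-- **Package Q4 (helper99, S5956).** -/
theorem Q4 {F : Type*} [Field F] [Fintype F] {p : ℕ} [Fact p.Prime] [CharP F p]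
    (d m : ℕ) (hd : 2 ≤ d) (hm : 2 ≤ m) (hme : Even m) (hmd : m < d) (hp2 : 2 < p) :
    (∀ x : ↥(Matrix.symplecticGroup (Fin d) F),
      (∃ z : F, ((x ^ p : ↥(Matrix.symplecticGroup (Fin d) F)) : Matrix (Fin d ⊕ Fin d) (Fin d ⊕ Fin d) F) = z • (1 : Matrix (Fin d ⊕ Fin d) (Fin d ⊕ Fin d) F)) →
      (∀ z : F, (x : Matrix (Fin d ⊕ Fin d) (Fin d ⊕ Fin d) F) ≠ z • (1 : Matrix (Fin d ⊕ Fin d) (Fin d ⊕ Fin d) F)) →
      ∃ W : Submodule F (Fin d ⊕ Fin d → F), Module.finrank F ↥W = m ∧ (∀ u ∈ W, u ≠ 0 → ∃ v ∈ W, Cfsg.sympForm d F u v ≠ 0) ∧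
        W.map (Matrix.toLin' (x : Matrix (Fin d ⊕ Fin d) (Fin d ⊕ Fin d) F)) ≤ W) ↔
    (∀ μ : Multiset ℕ, (∀ a ∈ μ, 0 < a ∧ a ≤ p) → (∀ a : ℕ, Odd a → Even (μ.count a)) → μ.sum = 2 * d →
        ∃ ν : Multiset ℕ, ν ≤ μ ∧ ν.sum = m ∧ ∀ a : ℕ, Odd a → Even (ν.count a)) := by
  constructor
  · intro H μ hμ hcnt hsum
    exact counts_of_exists d m (by omega) hme (by omega) hp2 H μ hμ hcnt hsum
  · intro hcomb x hx _
    exact exists_of_counts d m (by omega) hp2 hcomb x hx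

end Cfsg.Agent.Lib.Helper88_SpND_Q4
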