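import Mathlib
import Cfsg.Agent.Lib.Helper22_StOmDefs
import Cfsg.Agent.Lib.Helper68_StAbs
import Cfsg.Agent.Lib.Helper44_OmegaAll
import Cfsg.Agent.Lib.Helper44_Refl
import Cfsg.Agent.Lib.Helper44_Spinor

/-!
# S2549 market (architect helper22), package StOm TORUS (proof helper88)

The characteristic does not divide the order of the block diagonal group `Too` of `Ω⁻_{2m+2}(q)`,
in every characteristic (in characteristic two the block diagonal involutions are orthogonal
transvections in plane vectors, which are not in `Ω`).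
-/

set_option autoImplicit false
set_option linter.unusedSectionVars false
set_option linter.unusedVariables false

namespace Cfsg.Agent.Lib.Helper88_StOm_TORUS

open Matrix Cfsg.Agent.Lib.Helper68_MatGrp Cfsg.Agent.Lib.Helper22_BlkGrp Cfsg.Agent.Lib.Helper22_StOmDefs

section twobytwo

variable {F : Type*} [Field F]

/-- A nilpotent `2 × 2` matrix over a field has square zero. -/
theorem sq_zero_of_pow_zero (N : Matrix (Fin 2) (Fin 2) F) {k : ℕ} (h : N ^ k = 0) : N * N = 0 := by
  have hnil : IsNilpotent N := ⟨k, h⟩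
  have htr : N.trace = 0 := (Matrix.isNilpotent_trace_of_isNilpotent hnil).eq_zero
  have hdet : N.det = 0 := by
    have hk : k ≠ 0 := by
      rintro rfl
      rw [pow_zero] at h
      exact one_ne_zero h
    have h1 : N.det ^ k = 0 := by
      rw [← Matrix.det_pow, h, Matrix.det_zero]
    exact (pow_eq_zero_iff hk).mp h1
  rw [Matrix.trace_fin_two] at htr
  rw [Matrix.det_fin_two] at hdet
  ext i j
  rw [Matrix.mul_apply, Fin.sum_univ_two, Matrix.zero_apply]
  fin_cases i <;> fin_cases j
  · show N 0 0 * N 0 0 + N 0 1 * N 1 0 = 0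
    linear_combination N 0 0 * htr - hdet
  · show N 0 0 * N 0 1 + N 0 1 * N 1 1 = 0
    linear_combination N 0 1 * htr
  · show N 1 0 * N 0 0 + N 1 1 * N 1 0 = 0
    linear_combination N 1 0 * htr
  · show N 1 0 * N 0 1 + N 1 1 * N 1 1 = 0
    linear_combination N 1 1 * htr - hdet

end twobytwo

variable {m : ℕ} {F : Type*} [Field F] [Fintype F] {A B : F} [Fact (Aniso A B)]

theorem isPl_inr (i : Fin 2) : IsPl (Sum.inr i : I m) := by
  fin_cases i
  · exact Or.inl rfl
  · exact Or.inr rfl

theorem not_isPl_inl (c : Fin m ⊕ Fin m) : ¬ IsPl (Sum.inl c : I m) := by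
  rintro (h | h) <;> exact Sum.inl_ne_inr h

/-- the plane block of a matrix -/
def pl (M : Matrix (I m) (I m) F) : Matrix (Fin 2) (Fin 2) F := M.submatrix Sum.inr Sum.inr

theorem pl_apply (M : Matrix (I m) (I m) F) (i j : Fin 2) : pl M i j = M (Sum.inr i) (Sum.inr j) :=
  rfl

/-- block diagonal: entries between the plane and the rest vanish, and the rest is diagonal -/
theorem too_np {g : GO m F A B} (hg : g ∈ Too m F A B) {a b : I m} (ha : ¬ IsPl a) (hab : a ≠ b) :
    φ m F A B g a b = 0 := by
  apply mem_Too.mp hg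
  intro e
  exact hab (eq_of_ht_eq e ha)

theorem too_np' {g : GO m F A B} (hg : g ∈ Too m F A B) {a b : I m} (hb : ¬ IsPl b) (hab : a ≠ b) :
    φ m F A B g a b = 0 := by
  apply mem_Too.mp hg
  intro e
  exact hab (eq_of_ht_eq e.symm hb).symm

theorem pl_mul {g : GO m F A B} (hg : g ∈ Too m F A B) (M' : Matrix (I m) (I m) F) :
    pl (φ m F A B g * M') = pl (φ m F A B g) * pl M' := by
  ext i j
  rw [pl_apply, Matrix.mul_apply, Fintype.sum_sum_type, Matrix.mul_apply]
  have h0 : ∑ c : Fin m ⊕ Fin m, φ m F A B g (Sum.inr i) (Sum.inl c) * M' (Sum.inl c) (Sum.inr j)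
      = 0 := by
    apply Finset.sum_eq_zero
    intro c _
    rw [too_np' hg (not_isPl_inl c) (by exact Sum.inr_ne_inl), zero_mul]
  rw [h0, zero_add]
  rfl

theorem pl_pow {g : GO m F A B} (hg : g ∈ Too m F A B) (k : ℕ) :
    pl (φ m F A B (g ^ k)) = pl (φ m F A B g) ^ k := by
  induction k with
  | zero =>
    rw [pow_zero, pow_zero, map_one]
    ext i j
    rw [pl_apply, Matrix.one_apply, Matrix.one_apply]
    simp only [Sum.inr.injEq]
  | succ k ih => rw [pow_succ', map_mul, pl_mul hg, ih, pow_succ']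

theorem diag_mul {g : GO m F A B} (hg : g ∈ Too m F A B) (M' : Matrix (I m) (I m) F) {a : I m}
    (ha : ¬ IsPl a) : (φ m F A B g * M') a a = φ m F A B g a a * M' a a := by
  rw [Matrix.mul_apply, Finset.sum_eq_single a]
  · intro c _ hca
    rw [too_np hg ha (Ne.symm hca), zero_mul]
  · intro h; exact absurd (Finset.mem_univ _) h

theorem diag_pow {g : GO m F A B} (hg : g ∈ Too m F A B) {a : I m} (ha : ¬ IsPl a) (k : ℕ) :
    φ m F A B (g ^ k) a a = (φ m F A B g a a) ^ k := by
  induction k with
  | zero => rw [pow_zero, pow_zero, map_one, Matrix.one_apply_eq]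
  | succ k ih => rw [pow_succ', map_mul, diag_mul hg _ ha, ih, pow_succ']


section abstract

variable {ι : Type} [Fintype ι] [DecidableEq ι] {K : Type*} [Field K]

/-- An isometry `M = 1 + N` with `N² = 0`: `2 Q(N w) = 0`. -/
theorem two_mul_Q_nil (Q : QuadraticForm K (ι → K)) (M : Matrix ι ι K)
    (hM : ∀ v, Q (M *ᵥ v) = Q v) (hN : (M - 1) * (M - 1) = 0) (w : ι → K) :
    2 * Q ((M - 1) *ᵥ w) = 0 := by
  have hMv : ∀ v, M *ᵥ v = v + (M - 1) *ᵥ v := by
    intro v
    rw [Matrix.sub_mulVec, Matrix.one_mulVec]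
    abel
  have hNN : (M - 1) *ᵥ ((M - 1) *ᵥ w) = 0 := by
    rw [Matrix.mulVec_mulVec, hN, Matrix.zero_mulVec]
  have h1 := hM w
  rw [hMv w, QuadraticMap.map_add (⇑Q) w ((M - 1) *ᵥ w)] at h1
  have h2 := hM (w + (M - 1) *ᵥ w)
  rw [hMv (w + (M - 1) *ᵥ w), Matrix.mulVec_add, hNN, add_zero,
    QuadraticMap.map_add (⇑Q) (w + (M - 1) *ᵥ w) ((M - 1) *ᵥ w), QuadraticMap.polar_add_left,
    QuadraticMap.polar_self] at h2
  rw [two_nsmul] at h2
  linear_combination h2 - h1

end abstract

/-- a vector of the plane on which the form vanishes is zero -/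
theorem plane_eq_zero {n : I m → F} (hn : ∀ a, ¬ IsPl a → n a = 0) (hQ : Qm m F A B n = 0) :
    n = 0 := by
  have e : n = pv (n d0) (n d1) := by
    funext a
    by_cases ha : IsPl a
    · rcases ha with rfl | rfl
      · rw [pv_d0]
      · rw [pv_d1]
    · rw [hn a ha, pv_np _ _ ha]
  rw [e, Qm_pv] at hQ
  by_contra hne
  apply nrm_ne_zero (A := A) (B := B) (s := n d0) (t := n d1) _ hQ
  by_contra hcon
  push Not at hcon
  apply hne
  rw [e, hcon.1, hcon.2]
  funext a
  by_cases ha : IsPl a
  · rcases ha with rfl | rfl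
    · rw [pv_d0]; rfl
    · rw [pv_d1]; rfl
  · rw [pv_np _ _ ha]; rfl

/-- in characteristic two, a plane vector orthogonal to the nonzero plane vector `z` is a multiple
of `z` -/
theorem plane_orth_char_two (h2 : (2 : F) = 0) {z n : I m → F} (hz : ∀ a, ¬ IsPl a → z a = 0)
    (hn : ∀ a, ¬ IsPl a → n a = 0) (hz0 : z ≠ 0)
    (h : QuadraticMap.polar (⇑(Qm m F A B)) z n = 0) : ∃ l : F, n = l • z := by
  have hA : A ≠ 0 := by
    intro hA
    apply disc_ne_zero (A := A) (B := B)
    rw [hA]
    linear_combination (2 * B) * h2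
  have en : n = pv (n d0) (n d1) := by
    funext a
    by_cases ha : IsPl a
    · rcases ha with rfl | rfl
      · rw [pv_d0]
      · rw [pv_d1]
    · rw [hn a ha, pv_np _ _ ha]
  rw [en, polar_pv] at h
  have h' : z d0 * n d1 = z d1 * n d0 := by
    have h3 : A * (z d0 * n d1 + z d1 * n d0) = 0 := by
      linear_combination h - (n d0 * z d0 + B * n d1 * z d1) * h2
    have h4 := (mul_eq_zero.mp h3).resolve_left hA
    linear_combination h4 - (z d1 * n d0) * h2
  have hext : ∀ l : F, n d0 = l * z d0 → n d1 = l * z d1 → n = l • z := by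
    intro l h0 h1
    funext a
    by_cases ha : IsPl a
    · rcases ha with rfl | rfl
      · rw [Pi.smul_apply, smul_eq_mul, h0]
      · rw [Pi.smul_apply, smul_eq_mul, h1]
    · rw [hn a ha, Pi.smul_apply, hz a ha, smul_zero]
  by_cases hz0' : z d0 = 0
  · have hz1 : z d1 ≠ 0 := by
      intro hz1
      apply hz0
      funext a
      by_cases ha : IsPl a
      · rcases ha with rfl | rfl
        · exact hz0'
        · exact hz1
      · exact hz a ha
    refine ⟨n d1 / z d1, hext _ ?_ ?_⟩
    · rw [hz0', zero_mul] at h'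
      rw [hz0', mul_zero]
      exact (mul_eq_zero.mp h'.symm).resolve_left hz1
    · field_simp
  · refine ⟨n d0 / z d0, hext _ ?_ ?_⟩
    · field_simp
    · field_simp
      linear_combination h'

/-- **TORUS** -/
theorem not_dvd_card_Too (p : ℕ) [Fact p.Prime] [CharP F p] : ¬ p ∣ Nat.card (Too m F A B) := by
  classical
  intro hdvd
  have hfinG : Finite (GO m F A B) := Finite.of_injective _ φ_injective
  obtain ⟨t, ht⟩ := exists_prime_orderOf_dvd_card' p hdvd
  have hg : (t : GO m F A B) ∈ Too m F A B := t.2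
  have hgp : (t : GO m F A B) ^ p = 1 := by
    have h := pow_orderOf_eq_one t
    rw [ht] at h
    have h' := congrArg Subtype.val h
    rwa [Subgroup.coe_pow, Subgroup.coe_one] at h'
  have hg1 : (t : GO m F A B) ≠ 1 := by
    intro h
    have h' : t = 1 := Subtype.ext h
    rw [h', orderOf_one] at ht
    exact (Fact.out : p.Prime).one_lt.ne ht
  set g : GO m F A B := t.1 with hgdef
  set M : Matrix (I m) (I m) F := φ m F A B g with hM
  have hQ : ∀ v, Qm m F A B (M *ᵥ v) = Qm m F A B v := fun v => φ_isom g v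
  -- diagonal entries outside the plane
  have hdiag : ∀ a, ¬ IsPl a → M a a = 1 := by
    intro a ha
    have h1 := diag_pow hg ha p
    rw [hgp, map_one, Matrix.one_apply_eq] at h1
    apply frobenius_inj F p
    rw [frobenius_def, frobenius_def, one_pow, ← h1]
  -- the plane block
  have hpl1 : pl (1 : Matrix (I m) (I m) F) = 1 := by
    ext i j
    rw [pl_apply, Matrix.one_apply, Matrix.one_apply]
    simp only [Sum.inr.injEq]
  have hR : pl M ^ p = 1 := by
    rw [← pl_pow hg, hgp, map_one, hpl1]
  have hNp : (pl M - 1) ^ p = 0 := by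
    rw [sub_pow_char_of_commute _ (Commute.one_right _), hR, one_pow, sub_self]
  have hNN := sq_zero_of_pow_zero _ hNp
  -- the full matrix `N = M - 1`
  have hN0 : ∀ a b, ¬ (IsPl a ∧ IsPl b) → (M - 1) a b = 0 := by
    intro a b hab
    rw [Matrix.sub_apply]
    by_cases hab' : a = b
    · subst hab'
      have ha : ¬ IsPl a := fun h => hab ⟨h, h⟩
      rw [hdiag a ha, Matrix.one_apply_eq, sub_self]
    · rw [Matrix.one_apply_ne hab', sub_zero]
      by_cases ha : IsPl a
      · exact too_np' hg (fun hb => hab ⟨ha, hb⟩) hab'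
      · exact too_np hg ha hab'
  have hNpl : ∀ i j : Fin 2, (M - 1) (Sum.inr i) (Sum.inr j) = (pl M - 1) i j := by
    intro i j
    rw [Matrix.sub_apply, Matrix.sub_apply, pl_apply, Matrix.one_apply, Matrix.one_apply]
    simp only [Sum.inr.injEq]
  have hNfull : (M - 1) * (M - 1) = 0 := by
    ext a b
    rw [Matrix.mul_apply, Matrix.zero_apply, Fintype.sum_sum_type]
    have h0 : ∑ c : Fin m ⊕ Fin m, (M - 1) a (Sum.inl c) * (M - 1) (Sum.inl c) b = 0 := by
      apply Finset.sum_eq_zero
      intro c _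
      rw [hN0 a (Sum.inl c) (fun h => not_isPl_inl c h.2), zero_mul]
    rw [h0, zero_add]
    rcases a with a | i
    · apply Finset.sum_eq_zero
      intro k _
      rw [hN0 (Sum.inl a) (Sum.inr k) (fun h => not_isPl_inl a h.1), zero_mul]
    rcases b with b | j
    · apply Finset.sum_eq_zero
      intro k _
      rw [hN0 (Sum.inr k) (Sum.inl b) (fun h => not_isPl_inl b h.2), mul_zero]
    · have h1 := congrFun (congrFun hNN i) j
      rw [Matrix.mul_apply, Matrix.zero_apply] at h1
      rw [← h1]
      apply Finset.sum_congr rfl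
      intro k _
      rw [hNpl, hNpl]
  have hNvec : ∀ w a, ¬ IsPl a → ((M - 1) *ᵥ w) a = 0 := by
    intro w a ha
    rw [Matrix.mulVec, dotProduct]
    apply Finset.sum_eq_zero
    intro c _
    rw [hN0 a c (fun h => ha h.1), zero_mul]
  have hMv : ∀ v, M *ᵥ v = v + (M - 1) *ᵥ v := by
    intro v
    rw [Matrix.sub_mulVec, Matrix.one_mulVec]
    abel
  have h2Q := two_mul_Q_nil (Qm m F A B) M hQ hNfull
  have hM1 : M ≠ 1 := by
    intro h
    apply hg1
    apply φ_injective
    rw [map_one]
    exact h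
  by_cases h2 : (2 : F) = 0
  · -- characteristic two: `g` is an orthogonal transvection
    obtain ⟨w₀, hw₀⟩ : ∃ w₀, (M - 1) *ᵥ w₀ ≠ 0 := by
      by_contra hcon
      push Not at hcon
      apply hM1
      apply Cfsg.Agent.Lib.Helper44_Refl.matrix_ext_mulVec
      intro x
      rw [hMv x, hcon x, add_zero, Matrix.one_mulVec]
    set z : I m → F := (M - 1) *ᵥ w₀ with hz
    have hzpl : ∀ a, ¬ IsPl a → z a = 0 := hNvec w₀
    have hQz : Qm m F A B z ≠ 0 := fun h => hw₀ (plane_eq_zero hzpl h)
    have hNz : (M - 1) *ᵥ z = 0 := by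
      rw [hz, Matrix.mulVec_mulVec, hNfull, Matrix.zero_mulVec]
    -- the polar identity
    have hpol : ∀ x y : I m → F,
        QuadraticMap.polar (⇑(Qm m F A B)) x ((M - 1) *ᵥ y) +
          QuadraticMap.polar (⇑(Qm m F A B)) ((M - 1) *ᵥ x) y +
          QuadraticMap.polar (⇑(Qm m F A B)) ((M - 1) *ᵥ x) ((M - 1) *ᵥ y) = 0 := by
      intro x y
      have h := φ_polar g x y
      rw [← hM, hMv x, hMv y, QuadraticMap.polar_add_left, QuadraticMap.polar_add_right,
        QuadraticMap.polar_add_right] at h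
      linear_combination h
    have hstar : ∀ y : I m → F,
        QuadraticMap.polar (⇑(Qm m F A B)) y ((M - 1) *ᵥ y) +
          Qm m F A B ((M - 1) *ᵥ y) = 0 := by
      intro y
      have h := hQ y
      rw [hMv y, QuadraticMap.map_add (⇑(Qm m F A B)) y ((M - 1) *ᵥ y)] at h
      linear_combination h
    have hP1 : ∀ y, QuadraticMap.polar (⇑(Qm m F A B)) z ((M - 1) *ᵥ y) = 0 := by
      intro y
      have h := hpol z y
      rw [hNz, QuadraticMap.polar_zero_left, QuadraticMap.polar_zero_left, add_zero, add_zero] at h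
      exact h
    -- `M` is the reflection in `z`
    have hrefl : M = Cfsg.reflectionMatrix (⇑(Qm m F A B)) z := by
      apply Cfsg.Agent.Lib.Helper44_Refl.matrix_ext_mulVec
      intro y
      rw [Cfsg.Agent.Lib.Helper44_Refl.reflectionMatrix_mulVec, hMv y]
      obtain ⟨l, hl⟩ := plane_orth_char_two (A := A) (B := B) h2 hzpl (hNvec y) hw₀ (hP1 y)
      have h3 := hstar y
      rw [hl, QuadraticMap.polar_smul_right, QuadraticMap.map_smul, smul_eq_mul, smul_eq_mul,
        QuadraticMap.polar_comm] at h3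
      by_cases hl0 : l = 0
      · have h4 := hpol y w₀
        rw [hl, hl0, zero_smul, QuadraticMap.polar_zero_left, QuadraticMap.polar_zero_left,
          add_zero, add_zero, ← hz, QuadraticMap.polar_comm] at h4
        rw [hl, hl0, h4, mul_zero, zero_smul, add_zero, sub_zero]
      · have h5 : QuadraticMap.polar (⇑(Qm m F A B)) z y + l * Qm m F A B z = 0 := by
          have : l * (QuadraticMap.polar (⇑(Qm m F A B)) z y + l * Qm m F A B z) = 0 := by
            linear_combination h3
          exact (mul_eq_zero.mp this).resolve_left hl0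
        have h6 : l = -((Qm m F A B z)⁻¹ * QuadraticMap.polar (⇑(Qm m F A B)) z y) := by
          field_simp
          linear_combination h5
        rw [hl, h6]
        module
    -- contradiction with `g ∈ Ω`
    have hgr : g.1 = Cfsg.Agent.Lib.Helper44_Spinor.reflT (Qm m F A B) z := by
      apply Subtype.ext
      apply Units.ext
      rw [Cfsg.Agent.Lib.Helper44_Spinor.reflT_coe (Qm m F A B) z hQz, ← hrefl]
      rfl
    have hmem : ([z].map (Cfsg.Agent.Lib.Helper44_Spinor.reflT (Qm m F A B))).prod ∈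
        Cfsg.Omega F (⇑(Qm m F A B)) := by
      rw [List.map_singleton, List.prod_singleton, ← hgr]
      exact g.2
    have hev := Cfsg.Agent.Lib.Helper44_OmegaAll.even_of_prod_mem_omega h2 (Qm m F A B)
      (Qm_nondeg A B) [z] (by
        intro v hv
        rw [List.mem_singleton] at hv
        rw [hv]
        exact hQz) hmem
    rw [List.length_singleton] at hev
    exact Nat.not_even_one hev
  · -- odd characteristic: `M = 1`
    apply hM1
    apply Cfsg.Agent.Lib.Helper44_Refl.matrix_ext_mulVec
    intro x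
    have h3 : Qm m F A B ((M - 1) *ᵥ x) = 0 := (mul_eq_zero.mp (h2Q x)).resolve_left h2
    rw [hMv x, plane_eq_zero (hNvec x) h3, add_zero, Matrix.one_mulVec]

end Cfsg.Agent.Lib.Helper88_StOm_TORUS
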