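import Mathlib
import Cfsg.Agent.Lib.Helper27_StSUDefs
import Cfsg.Agent.Lib.Helper27_StSUBasic
import Cfsg.Agent.Lib.Helper30_StSU_MEML
import Cfsg.Agent.Lib.Helper55_StSU_MEMX
import Cfsg.Agent.Lib.Helper99_StSU_MEMQ
import Cfsg.Agent.Lib.Helper88_StSU_GENAaux

/-!
# S2546 market (architect helper27), package GENA (verbatim): `Helper88_StSU_GENAaux.genA_of` fed with the
matrices of the Weyl representatives (packages MEML, MEMX, MEMQ).
-/

set_option autoImplicit false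
set_option linter.unusedSectionVars false
set_option linter.unusedVariables false

namespace Cfsg.Agent.Lib.Helper88_StSU_GENA

open Matrix Cfsg.Agent.Lib.Helper68_MatGrp Cfsg.Agent.Lib.Helper27_StSUDefs
  Cfsg.Agent.Lib.Helper27_StSUBasic

variable {n : ℕ} {F : Type*} [Field F] (σ : F →+* F)

theorem genA (hσ : ∀ x, σ (σ x) = x) (ε : F) (hε0 : ε ≠ 0) (hε : σ ε = -ε) (k : Fin (n / 2)) (a₀ : Fin n)
    (h1 : k.val ≤ a₀.val) (h2 : a₀.val ≤ n - 1 - k.val) (h3 : a₀ ≠ Fin.rev a₀) :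
    ∃ g ∈ Subgroup.closure (Set.range (ss (n := n) σ ε)), g ∈ Pk n σ k.val ∧
      ∃ c : F, g.1.1 *ᵥ Pi.single (lo k) 1 = Pi.single a₀ c := by
  refine Cfsg.Agent.Lib.Helper88_StSU_GENAaux.genA_of σ ε ?_ ?_ ?_ k a₀ h1 h2 h3
  · intro i k h1 h2 h3 h4
    exact mkE_val σ (Cfsg.Agent.Lib.Helper30_StSU_MEML.wLm_mem σ i k h1 h2 h3 h4).1
      (Cfsg.Agent.Lib.Helper30_StSU_MEML.wLm_mem σ i k h1 h2 h3 h4).2
  · intro i h
    exact mkE_val σ (Cfsg.Agent.Lib.Helper55_StSU_MEMX.wXm_mem σ ε hε0 hε i h).1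
      (Cfsg.Agent.Lib.Helper55_StSU_MEMX.wXm_mem σ ε hε0 hε i h).2
  · intro i c hc hic
    exact mkE_val σ (Cfsg.Agent.Lib.Helper99_StSU_MEMQ.wQm_mem σ i c hc hic).1
      (Cfsg.Agent.Lib.Helper99_StSU_MEMQ.wQm_mem σ i c hc hic).2

end Cfsg.Agent.Lib.Helper88_StSU_GENA
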