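import Cfsg.Agent.Lib.Helper88_SubModel
import Cfsg.Agent.Lib.Helper88_Model
import Cfsg.Agent.Lib.Helper85_Fusion
import Cfsg.Agent.Lib.Helper49_CharP4
import Cfsg.Agent.S5103
import Cfsg.Agent.S5091
import Cfsg.Agent.Lib.Helper84_ModelUnique
import Cfsg.Agent.Lib.Helper84_FusionRS
import Cfsg.Prelude.Def_FusionSystem

/-!
General sub-model lemma (helper88).  A generalisation of `Helper88_SubModel.exists_subgroup_isModel`: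
the system `E` over `T_E` need not be a normalizer system `N_F(Q)`; it is only required to consist
of the restrictions of the maps of `F` on `A ⊔ R₀` preserving `R₀` and `Q` (`Hyp.E1`, `Hyp.E2`),
and the Sylow condition is replaced by a counting hypothesis (`E3`).
Main results: `Hyp.exists_subgroup_isModel`, `Hyp.exists_injective_hom`.
-/

set_option autoImplicit false

namespace Cfsg.Agent.Lib.Helper88_SubModel2

open Cfsg Cfsg.FusionSystem Cfsg.Agent.Lib.Helper85_Fusion Cfsg.Agent.Lib.Helper88_Model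

variable {Ω : Type*} [Group Ω] {S : Subgroup Ω}

section KappaG

variable {TE R' D : Subgroup Ω} (hTD : TE ≤ D) (φ : D →* Ω)
  (hφN : ∀ x, φ x ∈ normalizerIn S R') {L' : Type*} [Group L'] (ι' : ↥(normalizerIn S R') →* L')

/-- The comparison map `T_E → L'`: `φ` followed by `ι'`. -/
def kappaG : ↥TE →* L' :=
  ι'.comp ((φ.codRestrict _ hφN).comp (Subgroup.inclusion hTD))

theorem kappaG_injective (hφi : Function.Injective φ) (hι : Function.Injective ι') :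
    Function.Injective (kappaG hTD φ hφN ι') := by
  intro a b hab
  have h1 := hι hab
  have h2 : φ (Subgroup.inclusion hTD a) = φ (Subgroup.inclusion hTD b) := congrArg Subtype.val h1
  exact Subgroup.inclusion_injective hTD (hφi h2)

end KappaG

/-- Hypotheses of the general sub-model lemma: `E` is a system over `T_E ≤ S` whose maps are the
restrictions of the maps of `F` on `A ⊔ R₀` that preserve `R₀` and `Q ≤ R₀` (and have values in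
`T_E`); `φ` is a map of `F` on `D ≥ T_E` carrying `R₀` onto `R'` with values in `N_S(R')`; `ι'`
realizes `N' = N_F(R')` in `L'` with `ι'(R')` normal in `L'`. -/
structure Hyp (F : FusionSystem S) (TE Q R₀ R' D : Subgroup Ω) (E : FusionSystem TE)
    (N' : FusionSystem (normalizerIn S R')) (φ : D →* Ω) {L' : Type*} [Group L']
    (ι' : ↥(normalizerIn S R') →* L') : Prop where
  hN' : F.IsNormalizerSystem R' N'
  hQR : Q ≤ R₀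
  hR₀T : R₀ ≤ TE
  hTD : TE ≤ D
  hTQ : TE ≤ Subgroup.normalizer (Q : Set Ω)
  hφ : φ ∈ F.Hom D
  hφN : ∀ x, φ x ∈ normalizerIn S R'
  hφR : (R₀.subgroupOf D).map φ = R'
  hreal' : N'.IsRealizedBy ι'
  hnorm : ∀ (m : L') (r : Ω) (_ : r ∈ R') (hrT : r ∈ normalizerIn S R'),
    ∃ (r' : Ω) (_ : r' ∈ R') (hr'T : r' ∈ normalizerIn S R'), ι' ⟨r', hr'T⟩ = m * ι' ⟨r, hrT⟩ * m⁻¹
  E1 : ∀ (A : Subgroup Ω) (ψ : A →* Ω), ψ ∈ E.Hom A → ∃ ψ₁ ∈ F.Hom (A ⊔ R₀),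
    (∀ x : A, ψ₁ (Subgroup.inclusion le_sup_left x) = ψ x) ∧ (∀ x, ψ₁ x ∈ TE) ∧
    (R₀.subgroupOf (A ⊔ R₀)).map ψ₁ = R₀ ∧
    ∀ (x : Ω) (_ : x ∈ Q) (hxD : x ∈ A ⊔ R₀), ψ₁ ⟨x, hxD⟩ ∈ Q
  E2 : ∀ (A : Subgroup Ω) (_ : A ≤ TE) (ψ : A →* Ω), (∀ x, ψ x ∈ TE) → ∀ ψ₁ ∈ F.Hom (A ⊔ R₀),
    (∀ x : A, ψ₁ (Subgroup.inclusion le_sup_left x) = ψ x) → (∀ x, ψ₁ x ∈ TE) →
    (R₀.subgroupOf (A ⊔ R₀)).map ψ₁ = R₀ → (Q.subgroupOf (A ⊔ R₀)).map ψ₁ = Q → ψ ∈ E.Hom A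

namespace Hyp

variable {F : FusionSystem S} {TE Q R₀ R' D : Subgroup Ω} {E : FusionSystem TE}
  {N' : FusionSystem (normalizerIn S R')} {φ : D →* Ω} {L' : Type*} [Group L']
  {ι' : ↥(normalizerIn S R') →* L'} (h : Hyp F TE Q R₀ R' D E N' φ ι')

/-- The comparison map. -/
def κ : ↥TE →* L' := kappaG h.hTD φ h.hφN ι'

theorem κ_apply (x : Ω) (hx : x ∈ TE) : h.κ ⟨x, hx⟩ = ι' ⟨φ ⟨x, h.hTD hx⟩, h.hφN _⟩ := rfl

include h in
theorem κ_injective : Function.Injective h.κ :=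
  kappaG_injective h.hTD φ h.hφN ι' (F.injective_of_mem h.hφ) h.hreal'.1

/-- The image of `Q`. -/
def U : Subgroup L' := (Q.subgroupOf TE).map h.κ

theorem mem_U_of_mem {x : Ω} (hx : x ∈ Q) (hxT : x ∈ TE) : h.κ ⟨x, hxT⟩ ∈ h.U :=
  ⟨⟨x, hxT⟩, Subgroup.mem_subgroupOf.2 hx, rfl⟩

theorem exists_of_mem_U {u : L'} (hu : u ∈ h.U) : ∃ (x : Ω) (_ : x ∈ Q) (hxT : x ∈ TE),
    h.κ ⟨x, hxT⟩ = u := by
  obtain ⟨⟨x, hxT⟩, hxQ, rfl⟩ := hu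
  exact ⟨x, Subgroup.mem_subgroupOf.1 hxQ, hxT, rfl⟩

/-- `κ(R₀) = ι'(R')` is normalized by every element of `L'`. -/
theorem exists_conj_R₀ (m : L') {x : Ω} (hx : x ∈ R₀) :
    ∃ (z : Ω) (hz : z ∈ R₀), h.κ ⟨z, h.hR₀T hz⟩ = m * h.κ ⟨x, h.hR₀T hx⟩ * m⁻¹ := by
  have hxD : x ∈ D := h.hTD (h.hR₀T hx)
  have h1 : φ ⟨x, hxD⟩ ∈ R' := apply_mem_of_map_eq φ h.hφR x hx hxD
  obtain ⟨r', hr', hr'T, hr'eq⟩ := h.hnorm m _ h1 (h.hφN _)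
  obtain ⟨z, hz, hzD, hzeq⟩ := exists_of_map_eq φ h.hφR r' hr'
  refine ⟨z, hz, ?_⟩
  rw [κ_apply, κ_apply, ← hr'eq]
  congr 2

include h in
/-- Conjugation by an element of `N_{L'}(κ(Q))` between subgroups of `κ(T_E)` comes from a map
of `E`. -/
theorem mem_hom_of_conj {A : Subgroup Ω} (hA : A ≤ TE) (ψ : A →* Ω) (hψ : ∀ x, ψ x ∈ TE)
    (m : L') (hm : ∀ u ∈ h.U, m * u * m⁻¹ ∈ h.U) (hm' : ∀ u ∈ h.U, m⁻¹ * u * m ∈ h.U)
    (hconj : ∀ x : A, h.κ ⟨ψ x, hψ x⟩ = m * h.κ ⟨x, hA x.2⟩ * m⁻¹) : ψ ∈ E.Hom A := by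
  have hι := h.hreal'.1
  have hκi := h.κ_injective
  have hQT : Q ≤ TE := h.hQR.trans h.hR₀T
  have hD₁T : A ⊔ R₀ ≤ TE := sup_le hA h.hR₀T
  have hTD := h.hTD
  have hφN := h.hφN
  -- conjugation by `m` keeps `κ(A ⊔ R₀)` inside `κ(T_E)`
  have hW : ∀ x : ↥(A ⊔ R₀), m * h.κ ⟨x, hD₁T x.2⟩ * m⁻¹ ∈ h.κ.range := by
    let W : Subgroup Ω := ((h.κ.range.comap (MulAut.conj m).toMonoidHom).comap h.κ).map TE.subtype
    have hW : A ⊔ R₀ ≤ W := by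
      refine sup_le ?_ ?_
      · intro x hx
        refine ⟨⟨x, hA hx⟩, ?_, rfl⟩
        show m * h.κ ⟨x, _⟩ * m⁻¹ ∈ h.κ.range
        rw [← hconj ⟨x, hx⟩]
        exact ⟨_, rfl⟩
      · intro x hx
        refine ⟨⟨x, h.hR₀T hx⟩, ?_, rfl⟩
        show m * h.κ ⟨x, _⟩ * m⁻¹ ∈ h.κ.range
        obtain ⟨z, hz, hzeq⟩ := h.exists_conj_R₀ m hx
        exact ⟨_, hzeq⟩
    intro x
    obtain ⟨y, hy, hyx⟩ := hW x.2
    have : y = ⟨x, hD₁T x.2⟩ := Subtype.ext hyx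
    rw [← this]
    exact hy
  -- the map `φ` on `A ⊔ R₀`
  have hD₁D : A ⊔ R₀ ≤ D := hD₁T.trans hTD
  set φ₁ : ↥(A ⊔ R₀) →* Ω := φ.comp (Subgroup.inclusion hD₁D) with hφ₁
  have hφ₁F : φ₁ ∈ F.Hom (A ⊔ R₀) := restrict_mem F hD₁D h.hφ
  have hAT' : φ₁.range ≤ normalizerIn S R' := by
    rintro _ ⟨x, rfl⟩
    exact hφN _
  have hconjA : ∀ y : φ₁.range, m * ι' ⟨y, hAT' y.2⟩ * m⁻¹ ∈ ι'.range := by
    rintro ⟨_, x, rfl⟩
    obtain ⟨t, ht⟩ := hW x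
    refine ⟨(φ.codRestrict _ hφN) (Subgroup.inclusion hTD t), ?_⟩
    exact ht
  obtain ⟨χ, hχT', hχN', hχ⟩ := IsRealizedBy.exists_mem_of_conj h.hreal' hAT' m hconjA
  have hχF : χ ∈ F.Hom φ₁.range := by
    rw [h.hN'] at hχN'
    exact hχN'.1
  -- `φ` on `T_E` and its inverse
  set φT : ↥TE →* Ω := φ.comp (Subgroup.inclusion hTD) with hφT
  have hφTF : φT ∈ F.Hom TE := restrict_mem F hTD h.hφ
  obtain ⟨φTi, hφTi, hinv, -⟩ := inv_mem' F hφTF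
  -- values of `χ`
  have hχval : ∀ (x : ↥(A ⊔ R₀)) (t : ↥TE),
      h.κ t = m * h.κ ⟨x, hD₁T x.2⟩ * m⁻¹ → χ ⟨φ₁ x, ⟨x, rfl⟩⟩ = φT t := by
    intro x t ht
    have h1 := hχ ⟨φ₁ x, ⟨x, rfl⟩⟩
    have h2 : ι' ⟨χ ⟨φ₁ x, ⟨x, rfl⟩⟩, hχT' _⟩ = ι' ⟨φT t, hφN _⟩ := by
      rw [h1]
      exact ht.symm
    exact congrArg Subtype.val (hι h2)
  obtain ⟨ψ₁, hψ₁F, hψ₁⟩ := comp_mem' F hφ₁F hχF (fun x => ⟨x, rfl⟩)
  have hψ₁r : ∀ x : ↥(A ⊔ R₀), ψ₁ x ∈ φT.range := by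
    intro x
    obtain ⟨t, ht⟩ := hW x
    rw [hψ₁, hχval x t ht]
    exact ⟨t, rfl⟩
  obtain ⟨ψt, hψtF, hψt⟩ := comp_mem' F hψ₁F hφTi hψ₁r
  have hψtval : ∀ (x : ↥(A ⊔ R₀)) (t : ↥TE),
      h.κ t = m * h.κ ⟨x, hD₁T x.2⟩ * m⁻¹ → ψt x = t := by
    intro x t ht
    rw [hψt]
    have h1 : ψ₁ x = φT t := by rw [hψ₁, hχval x t ht]
    have h2 := hinv t
    rw [← h2]
    congr 1
    exact Subtype.ext h1
  have hext : ∀ x : A, ψt (Subgroup.inclusion le_sup_left x) = ψ x := by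
    intro x
    exact hψtval (Subgroup.inclusion le_sup_left x) ⟨ψ x, hψ x⟩ (hconj x)
  have hψtT : ∀ x, ψt x ∈ TE := by
    intro x
    obtain ⟨t, ht⟩ := hW x
    rw [hψtval x t ht]
    exact t.2
  refine h.E2 A hA ψ hψ ψt hψtF hext hψtT ?_ ?_
  · ext y
    rw [mem_map_subgroupOf]
    constructor
    · rintro ⟨x, hxR, hxD, rfl⟩
      obtain ⟨z, hz, hzeq⟩ := h.exists_conj_R₀ m hxR
      rw [hψtval ⟨x, hxD⟩ ⟨z, h.hR₀T hz⟩ hzeq]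
      exact hz
    · intro hy
      obtain ⟨z, hz, hzeq⟩ := h.exists_conj_R₀ m⁻¹ hy
      have hzD : z ∈ A ⊔ R₀ := (le_sup_right : R₀ ≤ A ⊔ R₀) hz
      refine ⟨z, hz, hzD, ?_⟩
      refine hψtval ⟨z, hzD⟩ ⟨y, h.hR₀T hy⟩ ?_
      show h.κ ⟨y, _⟩ = m * h.κ ⟨z, _⟩ * m⁻¹
      rw [hzeq]
      group
  · ext y
    rw [mem_map_subgroupOf]
    constructor
    · rintro ⟨x, hxQ, hxD, rfl⟩
      obtain ⟨q, hq, hqT, hqeq⟩ := h.exists_of_mem_U (hm _ (h.mem_U_of_mem hxQ (hQT hxQ)))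
      rw [hψtval ⟨x, hxD⟩ ⟨q, hqT⟩ hqeq]
      exact hq
    · intro hy
      obtain ⟨q, hq, hqT, hqeq⟩ := h.exists_of_mem_U (hm' _ (h.mem_U_of_mem hy (hQT hy)))
      have hqD : q ∈ A ⊔ R₀ := (le_sup_right : R₀ ≤ A ⊔ R₀) (h.hQR hq)
      refine ⟨q, hq, hqD, ?_⟩
      refine hψtval ⟨q, hqD⟩ ⟨y, hQT hy⟩ ?_
      show h.κ ⟨y, _⟩ = m * h.κ ⟨q, _⟩ * m⁻¹
      rw [hqeq]
      group

include h in
/-- A map of `E` is induced, through `κ`, by an element of `L'` which maps `κ(Q)` into itself. -/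
theorem exists_conj_of_mem_hom {A : Subgroup Ω} {ψ : A →* Ω} (hψ : ψ ∈ E.Hom A) :
    ∃ m : L', (∀ u ∈ h.U, m * u * m⁻¹ ∈ h.U) ∧
      ∀ x : A, h.κ ⟨ψ x, (E.le_of_mem hψ).2 x⟩ =
        m * h.κ ⟨x, (E.le_of_mem hψ).1 x.2⟩ * m⁻¹ := by
  have hι := h.hreal'.1
  have hTD := h.hTD
  have hφN := h.hφN
  have hφR := h.hφR
  obtain ⟨ψ₁, hψ₁F, hext₁, hψ₁T, himg₁, hψ₁Q⟩ := h.E1 A ψ hψ
  have hD₀T : A ⊔ R₀ ≤ TE := sup_le (E.le_of_mem hψ).1 h.hR₀T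
  have hQD₀ : Q ≤ A ⊔ R₀ := h.hQR.trans le_sup_right
  have hD₀D : A ⊔ R₀ ≤ D := hD₀T.trans hTD
  set φ₀ : ↥(A ⊔ R₀) →* Ω := φ.comp (Subgroup.inclusion hD₀D) with hφ₀
  have hφ₀F : φ₀ ∈ F.Hom (A ⊔ R₀) := restrict_mem F hD₀D h.hφ
  obtain ⟨φ₀i, hφ₀iF, hinv, -⟩ := inv_mem' F hφ₀F
  have hφ₀i_mem : ∀ y : φ₀.range, φ₀i y ∈ A ⊔ R₀ := by
    rintro ⟨_, x, rfl⟩
    rw [hinv]
    exact x.2
  obtain ⟨χ₁, hχ₁F, hχ₁⟩ := comp_mem' F hφ₀iF hψ₁F hφ₀i_mem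
  have hχ₁D : ∀ y : φ₀.range, χ₁ y ∈ D := by
    intro y
    rw [hχ₁]
    exact hTD (hψ₁T _)
  obtain ⟨χ, hχF, hχ⟩ := comp_mem' F hχ₁F h.hφ hχ₁D
  have hχval : ∀ x : ↥(A ⊔ R₀), χ ⟨φ₀ x, ⟨x, rfl⟩⟩ = φ ⟨ψ₁ x, hTD (hψ₁T x)⟩ := by
    intro x
    rw [hχ]
    congr 1
    apply Subtype.ext
    show χ₁ ⟨φ₀ x, _⟩ = ψ₁ x
    rw [hχ₁]
    congr 1
    exact Subtype.ext (hinv x)
  have hAT' : φ₀.range ≤ normalizerIn S R' := by
    rintro _ ⟨x, rfl⟩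
    exact hφN _
  have hR'A : R' ≤ φ₀.range := by
    intro y hy
    obtain ⟨z, hz, hzD, rfl⟩ := exists_of_map_eq φ hφR y hy
    exact ⟨⟨z, (le_sup_right : R₀ ≤ A ⊔ R₀) hz⟩, rfl⟩
  have hχN' : χ ∈ N'.Hom φ₀.range := by
    rw [h.hN']
    refine ⟨hχF, hAT', ?_, ?_⟩
    · rintro ⟨_, x, rfl⟩
      rw [hχval]
      exact hφN _
    · have hle : φ₀.range ⊔ R' ≤ φ₀.range := sup_le le_rfl hR'A
      refine ⟨χ.comp (Subgroup.inclusion hle), restrict_mem F hle hχF, fun x => ?_, ?_⟩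
      · show χ _ = χ x
        congr 1
      · rw [map_subgroupOf_comp_inclusion hle le_sup_right χ]
        ext y
        rw [mem_map_subgroupOf]
        constructor
        · rintro ⟨x, hxR', hxA, rfl⟩
          obtain ⟨z, hz, hzD, rfl⟩ := exists_of_map_eq φ hφR x hxR'
          have hzD₀ : z ∈ A ⊔ R₀ := (le_sup_right : R₀ ≤ A ⊔ R₀) hz
          have h1 := hχval ⟨z, hzD₀⟩
          have h2 : χ ⟨φ ⟨z, hzD⟩, hxA⟩ = φ ⟨ψ₁ ⟨z, hzD₀⟩, hTD (hψ₁T _)⟩ := h1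
          rw [h2]
          exact apply_mem_of_map_eq φ hφR _ (apply_mem_of_map_eq ψ₁ himg₁ z hz hzD₀) _
        · intro hy
          obtain ⟨z, hz, hzD, rfl⟩ := exists_of_map_eq φ hφR y hy
          obtain ⟨w, hw, hwD₀, rfl⟩ := exists_of_map_eq ψ₁ himg₁ z hz
          refine ⟨φ₀ ⟨w, hwD₀⟩, apply_mem_of_map_eq φ hφR w hw _, ⟨_, rfl⟩, ?_⟩
          exact hχval ⟨w, hwD₀⟩
  obtain ⟨m, hm⟩ := IsRealizedBy.exists_conj_of_mem h.hreal' hχN'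
  have hmval : ∀ x : ↥(A ⊔ R₀), h.κ ⟨ψ₁ x, hψ₁T x⟩ = m * h.κ ⟨x, hD₀T x.2⟩ * m⁻¹ := by
    intro x
    have h1 := hm ⟨φ₀ x, ⟨x, rfl⟩⟩
    rw [← show ι' ⟨φ₀ x, hAT' ⟨x, rfl⟩⟩ = h.κ ⟨x, hD₀T x.2⟩ from rfl, ← h1]
    show ι' ⟨φ ⟨ψ₁ x, _⟩, _⟩ = _
    congr 2
    exact (hχval x).symm
  refine ⟨m, ?_, fun x => ?_⟩
  · intro u hu
    obtain ⟨x, hxQ, hxT, rfl⟩ := h.exists_of_mem_U hu
    have h1 := hmval ⟨x, hQD₀ hxQ⟩
    have h2 : m * h.κ ⟨x, hxT⟩ * m⁻¹ = h.κ ⟨ψ₁ ⟨x, hQD₀ hxQ⟩, hψ₁T _⟩ := h1.symm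
    rw [h2]
    exact h.mem_U_of_mem (hψ₁Q x hxQ _) _
  · have h1 := hmval (Subgroup.inclusion le_sup_left x)
    have h2 : h.κ ⟨ψ x, (E.le_of_mem hψ).2 x⟩ =
        h.κ ⟨ψ₁ (Subgroup.inclusion le_sup_left x), hψ₁T _⟩ := by
      congr 2
      exact (hext₁ x).symm
    rw [h2, h1]
    rfl

include h in
/-- `κ(T_E)` is a Sylow `p`-subgroup of `N_{L'}(κ(Q))`, under the counting hypothesis `E3`. -/
theorem exists_sylow_eq_range [Finite S] [Finite L'] {p : ℕ} [Fact p.Prime] (hS : IsPGroup p S)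
    (hSyl' : ∃ T₀ : Sylow p L', (T₀ : Subgroup L') = ι'.range)
    (E3 : ∀ (ψ : R₀ →* Ω), ψ ∈ F.Hom R₀ → ψ.range = R' →
      Nat.card ↥(normalizerIn S R' ⊓
        Subgroup.normalizer (((Q.subgroupOf R₀).map ψ : Subgroup Ω) : Set Ω)) ≤ Nat.card TE)
    (hκM : ∀ t, h.κ t ∈ Subgroup.normalizer (h.U : Set L')) :
    ∃ T₁ : Sylow p ↥(Subgroup.normalizer (h.U : Set L')),
      (T₁ : Subgroup _) = (h.κ.codRestrict _ hκM).range := by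
  set M : Subgroup L' := Subgroup.normalizer (h.U : Set L') with hM
  set κM : ↥TE →* M := h.κ.codRestrict M hκM with hκMdef
  have hι := h.hreal'.1
  have hκi := h.κ_injective
  have hTD := h.hTD
  have hφN := h.hφN
  have hφR := h.hφR
  have hDS : D ≤ S := (F.le_of_mem h.hφ).1
  have hTES : TE ≤ S := hTD.trans hDS
  have hκMi : Function.Injective κM := by
    intro a b hab
    exact hκi (congrArg Subtype.val hab)
  have hQT : Q ≤ TE := h.hQR.trans h.hR₀T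
  obtain ⟨T₀, hT₀⟩ := hSyl'
  have hTp : IsPGroup p ↥TE := hS.to_le hTES
  have hrp : IsPGroup p κM.range := by
    rw [MonoidHom.range_eq_map]
    exact (hTp.to_subgroup ⊤).map κM
  obtain ⟨PM, hPM⟩ := hrp.exists_le_sylow
  -- conjugate `PM` into `ι'(T')`
  have hP₁p : IsPGroup p ((PM : Subgroup M).map M.subtype) := PM.2.map M.subtype
  obtain ⟨P₂, hP₂⟩ := hP₁p.exists_le_sylow
  obtain ⟨g, hg⟩ := MulAction.exists_smul_eq L' P₂ T₀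
  have hgconj : ∀ z : (PM : Subgroup M), g * ((z : M) : L') * g⁻¹ ∈ ι'.range := by
    intro z
    have h1 : ((z : M) : L') ∈ (P₂ : Subgroup L') := hP₂ ⟨z, z.2, rfl⟩
    have h2 := Subgroup.smul_mem_pointwise_smul _ (MulAut.conj g) _ h1
    rw [← Sylow.coe_subgroup_smul, hg, hT₀] at h2
    exact h2
  -- the map `ψ = c_g ∘ φ` on `R₀`
  have hR₀D : R₀ ≤ D := h.hR₀T.trans hTD
  set φR : R₀ →* Ω := φ.comp (Subgroup.inclusion hR₀D) with hφRdef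
  have hφRF : φR ∈ F.Hom R₀ := restrict_mem F hR₀D h.hφ
  have hφRR' : ∀ x : R₀, φR x ∈ R' := fun x => apply_mem_of_map_eq φ hφR x x.2 _
  have hAT' : φR.range ≤ normalizerIn S R' := by
    rintro _ ⟨x, rfl⟩
    exact hφN _
  have hconjA : ∀ y : φR.range, g * ι' ⟨y, hAT' y.2⟩ * g⁻¹ ∈ ι'.range := by
    rintro ⟨_, x, rfl⟩
    obtain ⟨r', -, hr'T, hr'eq⟩ := h.hnorm g _ (hφRR' x) (hφN _)
    exact ⟨⟨r', hr'T⟩, hr'eq⟩
  obtain ⟨χ, hχT', hχN', hχ⟩ := IsRealizedBy.exists_mem_of_conj h.hreal' hAT' g hconjA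
  have hχF : χ ∈ F.Hom φR.range := by
    rw [h.hN'] at hχN'
    exact hχN'.1
  obtain ⟨ψ, hψF, hψ⟩ := comp_mem' F hφRF hχF (fun x => ⟨x, rfl⟩)
  have hψT' : ∀ x : R₀, ψ x ∈ normalizerIn S R' := by
    intro x
    rw [hψ]
    exact hχT' _
  have hψι : ∀ x : R₀, ι' ⟨ψ x, hψT' x⟩ = g * h.κ ⟨x, h.hR₀T x.2⟩ * g⁻¹ := by
    intro x
    have h1 := hχ ⟨φR x, ⟨x, rfl⟩⟩
    rw [← show ι' ⟨φR x, hAT' ⟨x, rfl⟩⟩ = h.κ ⟨x, h.hR₀T x.2⟩ from rfl, ← h1]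
    congr 2
    exact hψ x
  have hψrange : ψ.range = R' := by
    apply le_antisymm
    · rintro _ ⟨x, rfl⟩
      obtain ⟨r', hr', hr'T, hr'eq⟩ := h.hnorm g _ (hφRR' x) (hφN _)
      have h1 : ι' ⟨ψ x, hψT' x⟩ = ι' ⟨r', hr'T⟩ := by
        rw [hψι, hr'eq]
        rfl
      have h2 := congrArg Subtype.val (hι h1)
      simp only at h2
      rw [h2]
      exact hr'
    · intro r hr
      have hrT : r ∈ normalizerIn S R' := by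
        obtain ⟨z, hz, hzD, rfl⟩ := exists_of_map_eq φ hφR r hr
        exact hφN _
      obtain ⟨r', hr', hr'T, hr'eq⟩ := h.hnorm g⁻¹ r hr hrT
      obtain ⟨z, hz, hzD, hzeq⟩ := exists_of_map_eq φ hφR r' hr'
      refine ⟨⟨z, hz⟩, ?_⟩
      have h1 : ι' ⟨ψ ⟨z, hz⟩, hψT' _⟩ = ι' ⟨r, hrT⟩ := by
        rw [hψι]
        have h2 : h.κ ⟨z, h.hR₀T hz⟩ = ι' ⟨r', hr'T⟩ := by
          rw [κ_apply]
          congr 2
        rw [h2, hr'eq]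
        group
      exact congrArg Subtype.val (hι h1)
  have hcard1 := E3 ψ hψF hψrange
  set Q'' : Subgroup Ω := (Q.subgroupOf R₀).map ψ with hQ''
  have hQ''S : Q'' ≤ S := by
    rintro _ ⟨x, -, rfl⟩
    exact apply_mem F hψF x
  have : Finite (Q'' : Subgroup Ω) := Helper84_FusionRS.finite_of_le_S hQ''S
  have hYS : normalizerIn S R' ⊓ Subgroup.normalizer (Q'' : Set Ω) ≤ S :=
    inf_le_left.trans inf_le_left
  have : Finite ↥(normalizerIn S R' ⊓ Subgroup.normalizer (Q'' : Set Ω)) :=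
    Helper84_FusionRS.finite_of_le_S hYS
  have key : ∀ z : (PM : Subgroup M), ∃ t : ↥(normalizerIn S R'),
      ι' t = g * ((z : M) : L') * g⁻¹ ∧
        (t : Ω) ∈ normalizerIn S R' ⊓ Subgroup.normalizer (Q'' : Set Ω) := by
    intro z
    obtain ⟨t, ht⟩ := hgconj z
    refine ⟨t, ht, t.2, ?_⟩
    apply Subgroup.mem_normalizer_fintype
    rintro _ ⟨⟨q, hqR⟩, hqQ, rfl⟩
    have hqQ' : q ∈ Q := Subgroup.mem_subgroupOf.1 hqQ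
    -- `z` normalizes `U`
    have hzU : ((z : M) : L') * h.κ ⟨q, hQT hqQ'⟩ * ((z : M) : L')⁻¹ ∈ h.U :=
      ((Subgroup.mem_normalizer_iff.1 (z : M).2) _).1 (h.mem_U_of_mem hqQ' _)
    obtain ⟨q', hq'Q, hq'T, hq'⟩ := h.exists_of_mem_U hzU
    have hq'R : q' ∈ R₀ := h.hQR hq'Q
    have hn : ψ ⟨q, hqR⟩ ∈ normalizerIn S R' := hψT' _
    have hmem : (t : Ω) * ψ ⟨q, hqR⟩ * (t : Ω)⁻¹ ∈ normalizerIn S R' :=
      mul_mem (mul_mem t.2 hn) (inv_mem t.2)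
    have h1 : ι' ⟨(t : Ω) * ψ ⟨q, hqR⟩ * (t : Ω)⁻¹, hmem⟩ = ι' ⟨ψ ⟨q', hq'R⟩, hψT' _⟩ := by
      have e1 : (⟨(t : Ω) * ψ ⟨q, hqR⟩ * (t : Ω)⁻¹, hmem⟩ : ↥(normalizerIn S R')) =
          t * ⟨ψ ⟨q, hqR⟩, hn⟩ * t⁻¹ := rfl
      rw [e1, map_mul, map_mul, map_inv, ht, hψι, hψι]
      have e2 : h.κ ⟨q', h.hR₀T hq'R⟩ =
          ((z : M) : L') * h.κ ⟨q, hQT hqQ'⟩ * ((z : M) : L')⁻¹ := hq'
      rw [e2]
      group
    have h2 := congrArg Subtype.val (hι h1)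
    simp only at h2
    show (t : Ω) * ψ ⟨q, hqR⟩ * (t : Ω)⁻¹ ∈ Q''
    rw [h2]
    exact ⟨⟨q', hq'R⟩, Subgroup.mem_subgroupOf.2 hq'Q, rfl⟩
  choose f hf1 hf2 using key
  have hfinj : Function.Injective (fun z =>
      (⟨(f z : Ω), hf2 z⟩ : ↥(normalizerIn S R' ⊓ Subgroup.normalizer (Q'' : Set Ω)))) := by
    intro z z' hzz'
    have h1 : (f z : Ω) = (f z' : Ω) :=
      congrArg (fun w : ↥(normalizerIn S R' ⊓ Subgroup.normalizer (Q'' : Set Ω)) => (w : Ω)) hzz'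
    have h2 : f z = f z' := Subtype.ext h1
    have h3 : g * ((z : M) : L') * g⁻¹ = g * ((z' : M) : L') * g⁻¹ := by
      rw [← hf1 z, ← hf1 z', h2]
    have h4 : ((z : M) : L') = ((z' : M) : L') := mul_left_cancel (mul_right_cancel h3)
    exact Subtype.ext (Subtype.ext h4)
  have hcard2 : Nat.card (PM : Subgroup M) ≤
      Nat.card ↥(normalizerIn S R' ⊓ Subgroup.normalizer (Q'' : Set Ω)) :=
    Nat.card_le_card_of_injective _ hfinj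
  have hcard3 : Nat.card κM.range = Nat.card ↥TE :=
    (Nat.card_congr (Equiv.ofInjective κM hκMi)).symm
  have heq : κM.range = (PM : Subgroup M) := by
    apply Subgroup.eq_of_le_of_card_ge hPM
    rw [hcard3]
    exact hcard2.trans hcard1
  exact ⟨PM, heq.symm⟩

include h in
/-- **General sub-model lemma.** `N_{L'}(κ(Q))` is a model of `E`. -/
theorem exists_subgroup_isModel [Finite S] {p : ℕ} [Fact p.Prime] (hS : IsPGroup p S)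
    (hM' : N'.IsModel p L' ι')
    (E3 : ∀ (ψ : R₀ →* Ω), ψ ∈ F.Hom R₀ → ψ.range = R' →
      Nat.card ↥(normalizerIn S R' ⊓
        Subgroup.normalizer (((Q.subgroupOf R₀).map ψ : Subgroup Ω) : Set Ω)) ≤ Nat.card TE) :
    ∃ (M : Subgroup L') (κM : ↥TE →* ↥M), E.IsModel p ↥M κM := by
  obtain ⟨hfin', -, hSyl', hcent'⟩ := hM'
  have hDS : D ≤ S := (F.le_of_mem h.hφ).1
  have hTES : TE ≤ S := h.hTD.trans hDS
  have hQT : Q ≤ TE := h.hQR.trans h.hR₀T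
  have hTp : IsPGroup p ↥TE := hS.to_le hTES
  have hUp : IsPGroup p h.U := (hTp.to_subgroup _).map h.κ
  have hκi := h.κ_injective
  have hκM : ∀ t, h.κ t ∈ Subgroup.normalizer (h.U : Set L') := by
    intro t
    apply Subgroup.mem_normalizer_fintype
    intro u hu
    obtain ⟨q, hqQ, hqT, rfl⟩ := h.exists_of_mem_U hu
    have h1 : (t : Ω) * q * (t : Ω)⁻¹ ∈ Q := (Subgroup.mem_normalizer_iff.1 (h.hTQ t.2) q).1 hqQ
    have h2 : h.κ t * h.κ ⟨q, hqT⟩ * (h.κ t)⁻¹ = h.κ ⟨(t : Ω) * q * (t : Ω)⁻¹, hQT h1⟩ := by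
      have : (⟨(t : Ω) * q * (t : Ω)⁻¹, hQT h1⟩ : ↥TE) = t * ⟨q, hqT⟩ * t⁻¹ := rfl
      rw [this, map_mul, map_mul, map_inv]
    show h.κ t * h.κ ⟨q, hqT⟩ * (h.κ t)⁻¹ ∈ h.U
    rw [h2]
    exact h.mem_U_of_mem h1 _
  refine ⟨Subgroup.normalizer (h.U : Set L'), h.κ.codRestrict _ hκM, inferInstance, ⟨?_, ?_⟩,
    ?_, ?_⟩
  · intro a b hab
    exact hκi (congrArg Subtype.val hab)
  · intro A hA ψ hψ
    constructor
    · intro hψE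
      obtain ⟨m, hmU, hmc⟩ := h.exists_conj_of_mem_hom hψE
      exact ⟨⟨m, Subgroup.mem_normalizer_fintype hmU⟩, fun x => Subtype.ext (hmc x)⟩
    · rintro ⟨⟨m, hm⟩, hmc⟩
      refine h.mem_hom_of_conj hA ψ hψ m ?_ ?_ (fun x => congrArg Subtype.val (hmc x))
      · intro u hu
        exact ((Subgroup.mem_normalizer_iff.1 hm) u).1 hu
      · intro u hu
        apply ((Subgroup.mem_normalizer_iff.1 hm) (m⁻¹ * u * m)).2
        have : m * (m⁻¹ * u * m) * m⁻¹ = u := by group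
        rw [this]
        exact hu
  · exact h.exists_sylow_eq_range hS hSyl' E3 hκM
  · exact Helper49_CharP.IsCharP.normalizer hcent' h.U hUp

include h in
/-- Any model of `E` embeds in `L'`. -/
theorem exists_injective_hom [Finite S] {p : ℕ} [Fact p.Prime] (hS : IsPGroup p S)
    (hM' : N'.IsModel p L' ι')
    (E3 : ∀ (ψ : R₀ →* Ω), ψ ∈ F.Hom R₀ → ψ.range = R' →
      Nat.card ↥(normalizerIn S R' ⊓
        Subgroup.normalizer (((Q.subgroupOf R₀).map ψ : Subgroup Ω) : Set Ω)) ≤ Nat.card TE)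
    {L : Type*} [Group L] (ι : ↥TE →* L) (hM : E.IsModel p L ι) :
    ∃ j : L →* L', Function.Injective j := by
  obtain ⟨M, κM, hMod⟩ := h.exists_subgroup_isModel hS hM' E3
  have hDS : D ≤ S := (F.le_of_mem h.hφ).1
  have hTES : TE ≤ S := h.hTD.trans hDS
  have hTp : IsPGroup p ↥TE := hS.to_le hTES
  have : Finite ↥TE := Helper84_FusionRS.finite_of_le_S hTES
  have hcon : E.IsConstrained p := Cfsg.Agent.S5103.result p hTp E κM hMod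
  obtain ⟨e, -⟩ := Cfsg.Agent.S5091.result p hTp E hcon ι κM hM hMod
  exact ⟨M.subtype.comp e.toMonoidHom, fun a b hab => e.injective (Subtype.ext hab)⟩

end Hyp

end Cfsg.Agent.Lib.Helper88_SubModel2
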