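import Mathlib
import Cfsg.Prelude.Def_FusionSystem
import Cfsg.Prelude.Def_LieRecognition
import Cfsg.Agent.Lib.Helper87_Normal
import Cfsg.Agent.Lib.Helper84_FusionEssential
import Cfsg.Agent.Lib.Helper84_FusionAlperin
import Cfsg.Agent.Lib.Helper84_FusionSat
import Cfsg.Agent.Lib.Helper84_Fusion
import Cfsg.Agent.Lib.Helper85_Fusion

/-!
# Suzuki 2-groups are resistant (modulo Higman's theorem)

`isNormal_of_higman`: if `S` is a Suzuki 2-group in which squares and commutators are central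
(Higman's theorem, statement S1138), then `S` is normal in every saturated fusion system over `S`.

Route: all involutions of `S` are central (the centre contains one and the cyclic group of automorphisms is
transitive on involutions).  A centric subgroup `R` contains `Z(S) ≥ S'`, hence is normal in `S`; conjugation by
`g ∈ S` on `R` fixes the involutions of `R` and moves every `x ∈ R` by an involution of `R`, so it lies in the
stability group of the chain `1 ≤ Ω₁(R) ≤ R`, a normal elementary abelian 2-subgroup of `Aut_F(R)`.  If `R` is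
radical this forces `c_g ∈ Inn(R)`, so `g ∈ R C_S(R) = R`; thus `R = S` and Alperin's theorem gives `S ⊴ F`.
-/

set_option autoImplicit false

open Cfsg Cfsg.FusionSystem

namespace Cfsg.Agent.Lib.Helper88_SuzukiResistant

/-- In a Suzuki 2-group every element of order dividing 2 is central. -/
theorem mem_center_of_sq_eq_one {P : Type*} [Group P] (hP : IsSuzukiTwoGroup P) (y : P) (hy : y * y = 1) :
    y ∈ Subgroup.center P := by
  obtain ⟨hfin, h2, ⟨a, b, hab⟩, -, K, -, hreg⟩ := hP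
  by_cases hy1 : y = 1
  · rw [hy1]; exact Subgroup.one_mem _
  have hnt : Nontrivial P := ⟨⟨a, b, fun h => hab (by rw [h])⟩⟩
  have hZnt : Nontrivial (Subgroup.center P) := h2.center_nontrivial
  have hZ2 : IsPGroup 2 (Subgroup.center P) := h2.to_subgroup _
  have hdvd : 2 ∣ Nat.card (Subgroup.center P) := by
    rcases hZ2.card_eq_or_dvd with h | h
    · exact absurd h (Finite.one_lt_card (α := Subgroup.center P)).ne'
    · exact h
  have : Fact (Nat.Prime 2) := ⟨Nat.prime_two⟩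
  obtain ⟨w, hw⟩ := exists_prime_orderOf_dvd_card' 2 hdvd
  have hw1 : (w : P) ≠ 1 := by
    intro h
    have : w = 1 := Subtype.ext h
    rw [this, orderOf_one] at hw
    omega
  have hww : (w : P) * (w : P) = 1 := by
    have h := pow_orderOf_eq_one w
    rw [hw, pow_two] at h
    exact congrArg Subtype.val h
  obtain ⟨k, hk, -⟩ := hreg (w : P) y hw1 hww hy1 hy
  rw [← hk, Subgroup.mem_center_iff]
  intro g
  have hwc := w.2
  rw [Subgroup.mem_center_iff] at hwc
  have h3 := hwc ((k : MulAut P)⁻¹ g)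
  have h4 := congrArg (k : MulAut P) h3
  simpa using h4

variable {Ω : Type*} [Group Ω] {S : Subgroup Ω}

section stab

variable {R : Subgroup Ω} (hc : ∀ z w : R, z * z = 1 → w * w = 1 → z * w = w * z)

include hc in
theorem mul_sq_one {z w : R} (hz : z * z = 1) (hw : w * w = 1) : (z * w) * (z * w) = 1 := by
  calc (z * w) * (z * w) = z * (w * z) * w := by group
    _ = z * (z * w) * w := by rw [hc w z hw hz]
    _ = (z * z) * (w * w) := by group
    _ = 1 := by rw [hz, hw, one_mul]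

/-- The stability group of the chain `1 ≤ Ω₁(R) ≤ R` inside a group `A` of automorphisms of `R`
(when the elements of order at most 2 of `R` commute pairwise). -/
def stab (A : Subgroup (MulAut R)) : Subgroup A where
  carrier := {a | (∀ z : R, z * z = 1 → (a : MulAut R) z = z) ∧
    ∀ x : R, (x⁻¹ * (a : MulAut R) x) * (x⁻¹ * (a : MulAut R) x) = 1}
  one_mem' := ⟨fun z _ => rfl, fun x => by simp⟩
  mul_mem' := by
    rintro a b ⟨ha1, ha2⟩ ⟨hb1, hb2⟩
    refine ⟨fun z hz => ?_, fun x => ?_⟩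
    · show (a : MulAut R) ((b : MulAut R) z) = z
      rw [hb1 z hz, ha1 z hz]
    · show (x⁻¹ * (a : MulAut R) ((b : MulAut R) x)) * (x⁻¹ * (a : MulAut R) ((b : MulAut R) x)) = 1
      have hd := hb2 x
      have hbx : (b : MulAut R) x = x * (x⁻¹ * (b : MulAut R) x) := by group
      have hax : (a : MulAut R) ((b : MulAut R) x) = (a : MulAut R) x * (x⁻¹ * (b : MulAut R) x) := by
        conv_lhs => rw [hbx]
        rw [map_mul, ha1 _ hd]
      rw [hax]
      have : x⁻¹ * ((a : MulAut R) x * (x⁻¹ * (b : MulAut R) x))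
          = (x⁻¹ * (a : MulAut R) x) * (x⁻¹ * (b : MulAut R) x) := by group
      rw [this]
      exact mul_sq_one hc (ha2 x) hd
  inv_mem' := by
    rintro a ⟨ha1, ha2⟩
    refine ⟨fun z hz => ?_, fun x => ?_⟩
    · show ((a : MulAut R)⁻¹) z = z
      conv_lhs => rw [← ha1 z hz]
      simp
    · show (x⁻¹ * ((a : MulAut R)⁻¹) x) * (x⁻¹ * ((a : MulAut R)⁻¹) x) = 1
      set y := ((a : MulAut R)⁻¹) x with hy
      have hay : (a : MulAut R) y = x := by simp [hy]
      have hd := ha2 y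
      rw [hay] at hd
      have : x⁻¹ * y = (y⁻¹ * x)⁻¹ := by group
      rw [this, ← mul_inv_rev, hd, inv_one]

theorem stab_normal (A : Subgroup (MulAut R)) : (stab hc A).Normal := by
  refine ⟨fun a ⟨ha1, ha2⟩ γ => ⟨fun z hz => ?_, fun x => ?_⟩⟩
  · show (γ : MulAut R) ((a : MulAut R) (((γ : MulAut R)⁻¹) z)) = z
    have hz' : ((γ : MulAut R)⁻¹) z * ((γ : MulAut R)⁻¹) z = 1 := by
      rw [← map_mul, hz, map_one]
    rw [ha1 _ hz']
    simp
  · show (x⁻¹ * (γ : MulAut R) ((a : MulAut R) (((γ : MulAut R)⁻¹) x))) *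
      (x⁻¹ * (γ : MulAut R) ((a : MulAut R) (((γ : MulAut R)⁻¹) x))) = 1
    set y := ((γ : MulAut R)⁻¹) x with hy
    have hγy : (γ : MulAut R) y = x := by simp [hy]
    have hd := ha2 y
    have : x⁻¹ * (γ : MulAut R) ((a : MulAut R) y) = (γ : MulAut R) (y⁻¹ * (a : MulAut R) y) := by
      rw [map_mul, map_inv, hγy]
    rw [this, ← map_mul, hd, map_one]

theorem stab_isPGroup (A : Subgroup (MulAut R)) : IsPGroup 2 (stab hc A) := by
  rintro ⟨a, ha1, ha2⟩
  refine ⟨1, ?_⟩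
  apply Subtype.ext
  apply Subtype.ext
  ext x
  show (((a : MulAut R) ^ 2 ^ 1) x : Ω) = x
  obtain ⟨d, hax, hd⟩ : ∃ d : R, (a : MulAut R) x = x * d ∧ d * d = 1 :=
    ⟨x⁻¹ * (a : MulAut R) x, by group, ha2 x⟩
  have : ((a : MulAut R) ^ 2 ^ 1) x = (a : MulAut R) ((a : MulAut R) x) := by
    simp [pow_two]
  rw [this, hax, map_mul, ha1 _ hd, hax, mul_assoc, hd, mul_one]

end stab

/-- Key step: under Higman's conclusions, a centric radical subgroup of a saturated fusion system over a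
Suzuki 2-group `S` is `S` itself. -/
theorem le_of_isCentric_of_isRadical [Finite S] (hS : IsPGroup 2 S) (F : FusionSystem S)
    (hinv : ∀ z ∈ S, z * z = 1 → ∀ g ∈ S, g * z = z * g)
    (hsq : ∀ x ∈ S, ∀ g ∈ S, g * (x * x) = x * x * g)
    (hcomm : ∀ x ∈ S, ∀ y ∈ S, ∀ g ∈ S, g * (x⁻¹ * y⁻¹ * x * y) = x⁻¹ * y⁻¹ * x * y * g)
    {R : Subgroup Ω} (hRc : F.IsCentric R) (hRrad : F.IsRadical 2 R) : S ≤ R := by
  have hRS : R ≤ S := hRc.1
  by_contra hne
  have hlt : R < S := lt_of_le_of_ne hRS (fun h => hne (h ▸ le_rfl))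
  obtain ⟨g, hgN, hgR⟩ := Cfsg.Agent.Lib.Helper84_FusionAlperin.exists_mem_normalizerIn_not_mem hS hlt
  apply hgR
  refine Cfsg.Agent.Lib.Helper84_FusionEssential.mem_of_normalizerMonoidHom_mem_inn
    (hRc.2 R (Cfsg.Agent.Lib.Helper84_Fusion.isConj_refl F hRS)) hgN.1 hRS hgN.2 ?_
  rw [← hRrad.2]
  have h1 : R.normalizerMonoidHom ⟨g, hgN.2⟩ ∈ autInducedBy S R :=
    Cfsg.Agent.Lib.Helper84_FusionSat.normalizerMonoidHom_mem_autInducedBy hgN.1 hgN.2
  have h2 : R.normalizerMonoidHom ⟨g, hgN.2⟩ ∈ F.autGroup R :=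
    Cfsg.Agent.Lib.Helper85_Fusion.autInducedBy_le_autGroup F hRS h1
  refine ⟨⟨_, h2⟩, ?_, rfl⟩
  have hc : ∀ z w : R, z * z = 1 → w * w = 1 → z * w = w * z := by
    intro z w hz _
    apply Subtype.ext
    have := hinv (z : Ω) (hRS z.2) (congrArg Subtype.val hz) (w : Ω) (hRS w.2)
    exact this.symm
  have hle : stab hc (F.autGroup R) ≤ pCore 2 (F.autGroup R) :=
    le_sSup ⟨stab_normal hc _, stab_isPGroup hc _⟩
  apply hle
  refine ⟨fun z hz => ?_, fun x => ?_⟩
  · apply Subtype.ext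
    show g * (z : Ω) * g⁻¹ = z
    have := hinv (z : Ω) (hRS z.2) (congrArg Subtype.val hz) g hgN.1
    rw [this, mul_assoc, mul_inv_cancel, mul_one]
  · apply Subtype.ext
    show ((x : Ω)⁻¹ * (g * (x : Ω) * g⁻¹)) * ((x : Ω)⁻¹ * (g * (x : Ω) * g⁻¹)) = 1
    have hxS : (x : Ω) ∈ S := hRS x.2
    have hgS : g ∈ S := hgN.1
    -- c := x⁻¹ g x g⁻¹ is central in S
    set c : Ω := (x : Ω)⁻¹ * (g * (x : Ω) * g⁻¹) with hcdef
    have hcform : c = (x : Ω)⁻¹ * (g⁻¹)⁻¹ * (x : Ω) * g⁻¹ := by rw [hcdef]; group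
    have hcx : (x : Ω) * c = c * (x : Ω) := by
      rw [hcform]; exact hcomm _ hxS _ (S.inv_mem hgS) _ hxS
    -- g x g⁻¹ = x c, so g x² g⁻¹ = x² c²
    have h1 : g * ((x : Ω) * (x : Ω)) * g⁻¹ = (x : Ω) * (x : Ω) * (c * c) := by
      have hgx : g * (x : Ω) * g⁻¹ = (x : Ω) * c := by rw [hcdef]; group
      calc g * ((x : Ω) * (x : Ω)) * g⁻¹ = (g * (x : Ω) * g⁻¹) * (g * (x : Ω) * g⁻¹) := by group
        _ = ((x : Ω) * c) * ((x : Ω) * c) := by rw [hgx]
        _ = (x : Ω) * (c * (x : Ω)) * c := by group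
        _ = (x : Ω) * ((x : Ω) * c) * c := by rw [hcx]
        _ = (x : Ω) * (x : Ω) * (c * c) := by group
    have h2' : g * ((x : Ω) * (x : Ω)) * g⁻¹ = (x : Ω) * (x : Ω) := by
      rw [hsq _ hxS g hgS, mul_assoc, mul_inv_cancel, mul_one]
    rw [h2'] at h1
    have := mul_left_cancel (a := (x : Ω) * (x : Ω)) (b := 1) (c := c * c) (by rw [mul_one]; exact h1)
    exact this.symm

/-- Suzuki 2-groups are resistant, given Higman's theorem (squares and commutators are central). -/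
theorem isNormal_of_higman [Finite S] (hS : IsPGroup 2 S) (F : FusionSystem S) (hF : F.IsSaturated 2)
    (hsz : IsSuzukiTwoGroup ↥S)
    (h1 : ∀ x : ↥S, x * x ∈ Subgroup.center ↥S)
    (h2 : ∀ x y : ↥S, x⁻¹ * y⁻¹ * x * y ∈ Subgroup.center ↥S) : F.IsNormal S := by
  have hSS : F.StronglyClosed S :=
    ⟨le_rfl, fun R _ φ hφ x => Cfsg.Agent.Lib.Helper87_Alperin.hom_mem F hφ x⟩
  have hcen : ∀ c : ↥S, c ∈ Subgroup.center ↥S → ∀ g ∈ S, g * (c : Ω) = (c : Ω) * g := by
    intro c hc g hg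
    rw [Subgroup.mem_center_iff] at hc
    exact congrArg Subtype.val (hc ⟨g, hg⟩)
  refine Cfsg.Agent.Lib.Helper87_Normal.isNormal_of_le_frc F hS hF hSS ?_
  intro R _ _ hRc hRrad
  refine le_of_isCentric_of_isRadical hS F ?_ ?_ ?_ hRc hRrad
  · intro z hz hzz g hg
    exact hcen ⟨z, hz⟩ (mem_center_of_sq_eq_one hsz ⟨z, hz⟩ (Subtype.ext hzz)) g hg
  · intro x hx g hg
    exact hcen (⟨x, hx⟩ * ⟨x, hx⟩) (h1 ⟨x, hx⟩) g hg
  · intro x hx y hy g hg
    exact hcen ((⟨x, hx⟩ : ↥S)⁻¹ * (⟨y, hy⟩ : ↥S)⁻¹ * ⟨x, hx⟩ * ⟨y, hy⟩) (h2 ⟨x, hx⟩ ⟨y, hy⟩) g hg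

end Cfsg.Agent.Lib.Helper88_SuzukiResistant
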