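import Mathlib

/-!
Relative trace (helper88): for a group `G` acting by automorphisms on a finite commutative group `V` and a subgroup
`T` of `G` whose index is prime to the order of `V`, the fixed points of `G` are a direct factor of the fixed points
of `T`.
-/

set_option autoImplicit false

namespace Cfsg.Agent.Lib.Helper88_Trace

variable {G V : Type*} [Group G] [CommGroup V] [MulDistribMulAction G V]

/-- The subgroup of elements of `V` fixed by every element of the subgroup `H` of `G`. -/
def fixedPts (V : Type*) [CommGroup V] [MulDistribMulAction G V] (H : Subgroup G) : Subgroup V where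
  carrier := {v | ∀ h ∈ H, h • v = v}
  one_mem' := fun h _ => smul_one h
  mul_mem' := fun {a b} ha hb h hh => by rw [smul_mul', ha h hh, hb h hh]
  inv_mem' := fun {a} ha h hh => by rw [smul_inv', ha h hh]

theorem mem_fixedPts {H : Subgroup G} {v : V} : v ∈ fixedPts V H ↔ ∀ h ∈ H, h • v = v := Iff.rfl

theorem fixedPts_anti {H K : Subgroup G} (h : H ≤ K) : fixedPts V K ≤ fixedPts V H :=
  fun _ hv g hg => hv g (h hg)

variable (T : Subgroup G) [Fintype (G ⧸ T)]

/-- The relative trace (norm) map `v ↦ ∏_{gT} g • v`, with chosen coset representatives. -/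
noncomputable def tr : V →* V where
  toFun v := ∏ q : G ⧸ T, (Quotient.out q : G) • v
  map_one' := by simp
  map_mul' := fun v w => by simp [smul_mul', Finset.prod_mul_distrib]

theorem tr_apply (v : V) : tr T v = ∏ q : G ⧸ T, (Quotient.out q : G) • v := rfl

theorem smul_tr (g : G) {v : V} (hv : v ∈ fixedPts V T) : g • tr T v = tr T v := by
  rw [tr_apply, Finset.smul_prod']
  have key : ∀ q : G ⧸ T, g • ((Quotient.out q : G) • v) = (Quotient.out (g • q) : G) • v := by
    intro q
    have h1 : (Quotient.out (g • q) : G)⁻¹ * (g * Quotient.out q) ∈ T := by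
      rw [← QuotientGroup.eq, QuotientGroup.out_eq']
      have : ((g * Quotient.out q : G) : G ⧸ T) = g • ((Quotient.out q : G) : G ⧸ T) := rfl
      rw [this, QuotientGroup.out_eq']
    have h2 := hv _ h1
    rw [← mul_smul]
    calc (g * Quotient.out q) • v
        = (Quotient.out (g • q) * ((Quotient.out (g • q) : G)⁻¹ * (g * Quotient.out q))) • v := by
          rw [mul_inv_cancel_left]
      _ = (Quotient.out (g • q) : G) • v := by rw [mul_smul, h2]
  simp_rw [key]
  exact Equiv.prod_comp (MulAction.toPerm g : Equiv.Perm (G ⧸ T)) (fun q => (Quotient.out q : G) • v)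

theorem tr_mem_fixedPts {v : V} (hv : v ∈ fixedPts V T) : tr T v ∈ fixedPts V (⊤ : Subgroup G) :=
  fun g _ => smul_tr T g hv

theorem tr_of_mem_fixedPts_top {v : V} (hv : v ∈ fixedPts V (⊤ : Subgroup G)) :
    tr T v = v ^ T.index := by
  rw [tr_apply]
  have : ∀ q : G ⧸ T, (Quotient.out q : G) • v = v := fun q => hv _ (Subgroup.mem_top _)
  simp_rw [this]
  rw [Finset.prod_const, Finset.card_univ, Subgroup.index_eq_card, Nat.card_eq_fintype_card]

/-- **Fixed points of `G` are a direct factor of the fixed points of `T`** when `|G : T|` is prime to `|V|`. -/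
theorem exists_compl_fixedPts [Finite V] (hcop : (Nat.card V).Coprime T.index) :
    ∃ K : Subgroup V, K ≤ fixedPts V T ∧ fixedPts V (⊤ : Subgroup G) ⊓ K = ⊥ ∧
      fixedPts V (⊤ : Subgroup G) ⊔ K = fixedPts V T := by
  refine ⟨fixedPts V T ⊓ (tr T : V →* V).ker, inf_le_left, ?_, ?_⟩
  · rw [eq_bot_iff]
    rintro v ⟨hv1, -, hv2⟩
    have hv2' : tr T v = 1 := MonoidHom.mem_ker.1 hv2
    have hv2 := hv2'
    rw [tr_of_mem_fixedPts_top T hv1] at hv2
    rw [Subgroup.mem_bot]
    have h1 : orderOf v ∣ T.index := orderOf_dvd_of_pow_eq_one hv2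
    have h2 : orderOf v ∣ Nat.card V := orderOf_dvd_natCard v
    have h3 : orderOf v = 1 := Nat.eq_one_of_dvd_coprimes hcop h2 h1
    exact orderOf_eq_one_iff.1 h3
  · apply le_antisymm
    · exact sup_le (fixedPts_anti le_top) inf_le_left
    · intro v hv
      have hw := tr_mem_fixedPts T hv
      -- an `index`-th root `u` of `tr v` inside the fixed points of `G`
      have hcop' : (Nat.card (fixedPts V (⊤ : Subgroup G))).Coprime T.index :=
        Nat.Coprime.coprime_dvd_left (Subgroup.card_subgroup_dvd_card _) hcop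
      obtain ⟨u, hu⟩ := (powCoprime hcop').surjective ⟨tr T v, hw⟩
      have hu' : (u : V) ^ T.index = tr T v := congrArg Subtype.val hu
      have htru : tr T (u : V) = tr T v := by rw [tr_of_mem_fixedPts_top T u.2, hu']
      have hmem : (u : V)⁻¹ * v ∈ fixedPts V T ⊓ (tr T : V →* V).ker := by
        refine ⟨(fixedPts V T).mul_mem ((fixedPts V T).inv_mem (fixedPts_anti le_top u.2)) hv, ?_⟩
        apply MonoidHom.mem_ker.2
        rw [map_mul, map_inv, htru, inv_mul_cancel]
      have : v = (u : V) * ((u : V)⁻¹ * v) := by rw [mul_inv_cancel_left]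
      rw [this]
      exact Subgroup.mul_mem_sup u.2 hmem

end Cfsg.Agent.Lib.Helper88_Trace
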