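import Mathlib
import Cfsg.Agent.Lib.Helper39_U4Defs
import Cfsg.Agent.Lib.Helper13_SUGen
import Cfsg.Agent.Lib.Helper94_HermTrans
import Cfsg.Agent.Lib.Helper27_UQDefs

/-!
# U4 package P-LEVI (helper88, for helper39's S2150 market)

The Levi projection `φ : Pg B u →* Fˣ × (W ≃ₗ W)`, `W = Wsub B u us`:
`φ g = (c_g, k_g)` with `g u = c_g • u` and `k_g = projW ∘ g` on `W`.
Values in `LL (hW B u us)` (the determinant condition is a block-triangular determinant in the
basis `u | basis of W | us`), kernel `Qg B u`.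
-/

set_option autoImplicit false
set_option linter.unusedSectionVars false
set_option linter.unusedVariables false
set_option linter.unusedSimpArgs false

namespace Cfsg.Agent.Lib.Helper88_U4_PLEVI

open Module Cfsg.Agent.Lib.Helper94_Symp Cfsg.Agent.Lib.Helper94_Herm
  Cfsg.Agent.Lib.Helper94_HermEich Cfsg.Agent.Lib.Helper94_HermOrth
  Cfsg.Agent.Lib.Helper13_SUGen Cfsg.Agent.Lib.Helper39_U4Defs

variable {F V : Type*} [Field F] [AddCommGroup V] [Module F V] {σ : F →+* F}
  {B : V →ₗ[F] V →ₛₗ[σ] F}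

/-! ### membership in `Wsub` -/

lemma mem_Wsub_iff (hB : IsHerm B) {u us y : V} :
    y ∈ Wsub B u us ↔ B y u = 0 ∧ B y us = 0 := by
  unfold Wsub
  rw [mem_orthS' hB]
  constructor
  · intro h
    exact ⟨h u (Submodule.subset_span (by simp)), h us (Submodule.subset_span (by simp))⟩
  · rintro ⟨h1, h2⟩ x hx
    induction hx using Submodule.span_induction with
    | mem x hx =>
      rcases hx with rfl | rfl
      · exact h1
      · exact h2
    | zero => simp
    | add a b _ _ ha hb => rw [map_add, ha, hb, add_zero]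
    | smul a x _ hx => rw [map_smulₛₗ, hx, smul_zero]

lemma perpPart_mem (hB : IsHerm B) {u us : V} (hp : HypPair B u us) (x : V) :
    perpPart B u us x ∈ Wsub B u us :=
  (mem_Wsub_iff hB).2 ⟨perpPart_e hp x, perpPart_f hp x⟩

lemma perpPart_add' (e f x y : V) :
    perpPart B e f (x + y) = perpPart B e f x + perpPart B e f y := by
  simp only [perpPart, map_add, LinearMap.add_apply, add_smul]
  abel

lemma perpPart_smul' (e f : V) (a : F) (x : V) :
    perpPart B e f (a • x) = a • perpPart B e f x := by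
  simp only [perpPart, map_smul, LinearMap.smul_apply, smul_eq_mul, smul_sub, smul_smul]

/-- the projection onto `Wsub B u us` along `⟨u, us⟩` -/
noncomputable def projW (hB : IsHerm B) {u us : V} (hp : HypPair B u us) :
    V →ₗ[F] ↥(Wsub B u us) where
  toFun x := ⟨perpPart B u us x, perpPart_mem hB hp x⟩
  map_add' x y := Subtype.ext (perpPart_add' u us x y)
  map_smul' a x := Subtype.ext (perpPart_smul' u us a x)

lemma projW_coe (hB : IsHerm B) {u us : V} (hp : HypPair B u us) (x : V) :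
    ((projW hB hp x : ↥(Wsub B u us)) : V) = perpPart B u us x := rfl

lemma projW_of_mem (hB : IsHerm B) {u us : V} (hp : HypPair B u us) (w : ↥(Wsub B u us)) :
    projW hB hp (w : V) = w := by
  apply Subtype.ext
  rw [projW_coe]
  obtain ⟨h1, h2⟩ := (mem_Wsub_iff hB).1 w.2
  simp [perpPart, h1, h2]

lemma projW_u (hB : IsHerm B) {u us : V} (hp : HypPair B u us) : projW hB hp u = 0 := by
  apply Subtype.ext
  rw [projW_coe]
  simp [perpPart, hp.ee, hp.ef]

lemma projW_us (hB : IsHerm B) {u us : V} (hp : HypPair B u us) : projW hB hp us = 0 := by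
  apply Subtype.ext
  rw [projW_coe]
  simp [perpPart, hp.ff, hp.fe]

/-! ### elements of the point stabiliser -/

lemma ne_zero_of_hypPair {u us : V} (hp : HypPair B u us) : u ≠ 0 := by
  rintro rfl
  have := hp.ef
  simp at this

lemma mem_Pg_iff {u : V} {g : V ≃ₗ[F] V} :
    g ∈ Pg B u ↔ g ∈ SUg B ∧ g ∈ stab (Submodule.span F {u}) := Iff.rfl

lemma Pg_uG {u : V} {g : V ≃ₗ[F] V} (hg : g ∈ Pg B u) : g ∈ uG B := hg.1.1

lemma Pg_det {u : V} {g : V ≃ₗ[F] V} (hg : g ∈ Pg B u) : LinearEquiv.det g = 1 :=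
  MonoidHom.mem_ker.mp hg.1.2

/-- the scalar by which `g` acts on `u` -/
def cOf (B : V →ₗ[F] V →ₛₗ[σ] F) (u us : V) (g : V ≃ₗ[F] V) : F := B (g u) us

lemma Pg_apply_u {u us : V} (hp : HypPair B u us) {g : V ≃ₗ[F] V} (hg : g ∈ Pg B u) :
    g u = cOf B u us g • u := by
  have h1 : g u ∈ Submodule.span F {u} :=
    (hg.2 u).1 (Submodule.subset_span (by simp))
  obtain ⟨a, ha⟩ := Submodule.mem_span_singleton.1 h1
  unfold cOf
  rw [← ha, map_smul, LinearMap.smul_apply, hp.ef, smul_eq_mul, mul_one]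

lemma cOf_ne_zero {u us : V} (hp : HypPair B u us) {g : V ≃ₗ[F] V} (hg : g ∈ Pg B u) :
    cOf B u us g ≠ 0 := by
  intro h0
  have h1 := Pg_apply_u hp hg
  rw [h0, zero_smul] at h1
  exact ne_zero_of_hypPair hp ((LinearEquiv.map_eq_zero_iff g).1 h1)

lemma Pg_perp {u us : V} (hp : HypPair B u us) {g : V ≃ₗ[F] V} (hg : g ∈ Pg B u) {w : V}
    (hw : B w u = 0) : B (g w) u = 0 := by
  have h1 : B (g w) (g u) = 0 := by rw [Pg_uG hg w u, hw]
  rw [Pg_apply_u hp hg, map_smulₛₗ, smul_eq_mul] at h1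
  rcases mul_eq_zero.1 h1 with h2 | h2
  · exact absurd ((map_eq_zero σ).1 h2) (cOf_ne_zero hp hg)
  · exact h2

lemma Pg_apply_W (hB : IsHerm B) {u us : V} (hp : HypPair B u us) {g : V ≃ₗ[F] V}
    (hg : g ∈ Pg B u) {w : V} (hw : B w u = 0) :
    g w = ((projW hB hp (g w) : ↥(Wsub B u us)) : V) + B (g w) us • u := by
  have h1 := eq_add_perpPart (B := B) u us (g w)
  rw [Pg_perp hp hg hw, zero_smul, add_zero] at h1
  rw [projW_coe, add_comm]
  exact h1

/-- the map induced by `g` on `Wsub B u us` -/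
noncomputable def kOf (hB : IsHerm B) {u us : V} (hp : HypPair B u us) (g : V ≃ₗ[F] V) :
    ↥(Wsub B u us) →ₗ[F] ↥(Wsub B u us) :=
  (projW hB hp) ∘ₗ (g : V →ₗ[F] V) ∘ₗ (Wsub B u us).subtype

lemma kOf_apply (hB : IsHerm B) {u us : V} (hp : HypPair B u us) (g : V ≃ₗ[F] V)
    (w : ↥(Wsub B u us)) : kOf hB hp g w = projW hB hp (g (w : V)) := rfl

lemma kOf_one (hB : IsHerm B) {u us : V} (hp : HypPair B u us) :
    kOf hB hp (1 : V ≃ₗ[F] V) = 1 := by
  apply LinearMap.ext
  intro w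
  rw [kOf_apply]
  exact projW_of_mem hB hp w

lemma kOf_mul (hB : IsHerm B) {u us : V} (hp : HypPair B u us) {g h : V ≃ₗ[F] V}
    (hg : g ∈ Pg B u) (hh : h ∈ Pg B u) : kOf hB hp (g * h) = kOf hB hp g * kOf hB hp h := by
  apply LinearMap.ext
  intro w
  rw [Module.End.mul_apply, kOf_apply, kOf_apply, kOf_apply, LinearEquiv.mul_apply]
  have hw : B (w : V) u = 0 := ((mem_Wsub_iff hB).1 w.2).1
  have h1 := Pg_apply_W hB hp hh hw
  conv_lhs => rw [h1]
  rw [map_add, map_smul, map_add, map_smul, Pg_apply_u hp hg, map_smul, projW_u, smul_zero,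
    smul_zero, add_zero]

lemma cOf_one (u us : V) (hp : HypPair B u us) : cOf B u us (1 : V ≃ₗ[F] V) = 1 := by
  unfold cOf
  exact hp.ef

lemma cOf_mul {u us : V} (hp : HypPair B u us) {g h : V ≃ₗ[F] V}
    (hg : g ∈ Pg B u) (hh : h ∈ Pg B u) :
    cOf B u us (g * h) = cOf B u us g * cOf B u us h := by
  have h1 : (g * h) u = (cOf B u us g * cOf B u us h) • u := by
    rw [LinearEquiv.mul_apply, Pg_apply_u hp hh, map_smul, Pg_apply_u hp hg, smul_smul, mul_comm]
  have h2 : cOf B u us (g * h) = B ((g * h) u) us := rfl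
  rw [h2, h1, map_smul, LinearMap.smul_apply, hp.ef, smul_eq_mul, mul_one]

/-! ### the homomorphism -/

/-- the scalar part as a monoid homomorphism -/
noncomputable def cHom {u us : V} (hp : HypPair B u us) : ↥(Pg B u) →* F where
  toFun g := cOf B u us (g : V ≃ₗ[F] V)
  map_one' := cOf_one u us hp
  map_mul' g h := cOf_mul hp g.2 h.2

/-- the `W`-part as a monoid homomorphism -/
noncomputable def kHom (hB : IsHerm B) {u us : V} (hp : HypPair B u us) :
    ↥(Pg B u) →* Module.End F ↥(Wsub B u us) where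
  toFun g := kOf hB hp (g : V ≃ₗ[F] V)
  map_one' := kOf_one hB hp
  map_mul' g h := kOf_mul hB hp g.2 h.2

/-- the Levi projection -/
noncomputable def phi (hB : IsHerm B) {u us : V} (hp : HypPair B u us) :
    ↥(Pg B u) →* Fˣ × (↥(Wsub B u us) ≃ₗ[F] ↥(Wsub B u us)) :=
  (cHom hp).toHomUnits.prod
    ((LinearMap.GeneralLinearGroup.generalLinearEquiv F ↥(Wsub B u us)).toMonoidHom.comp
      (kHom hB hp).toHomUnits)

lemma phi_fst (hB : IsHerm B) {u us : V} (hp : HypPair B u us) (g : ↥(Pg B u)) :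
    (((phi hB hp g).1 : Fˣ) : F) = cOf B u us (g : V ≃ₗ[F] V) := rfl

lemma phi_snd (hB : IsHerm B) {u us : V} (hp : HypPair B u us) (g : ↥(Pg B u))
    (w : ↥(Wsub B u us)) : (phi hB hp g).2 w = kOf hB hp (g : V ≃ₗ[F] V) w := rfl

lemma phi_snd_coe (hB : IsHerm B) {u us : V} (hp : HypPair B u us) (g : ↥(Pg B u)) :
    (((phi hB hp g).2 : ↥(Wsub B u us) ≃ₗ[F] ↥(Wsub B u us)) :
      ↥(Wsub B u us) →ₗ[F] ↥(Wsub B u us)) = kOf hB hp (g : V ≃ₗ[F] V) := by
  apply LinearMap.ext
  intro w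
  rfl

/-! ### the `W`-part is an isometry -/

lemma kOf_coe (hB : IsHerm B) {u us : V} (hp : HypPair B u us) {g : V ≃ₗ[F] V}
    (hg : g ∈ Pg B u) (w : ↥(Wsub B u us)) :
    ((kOf hB hp g w : ↥(Wsub B u us)) : V) = g (w : V) - B (g (w : V)) us • u := by
  have hw : B (w : V) u = 0 := ((mem_Wsub_iff hB).1 w.2).1
  have h1 := Pg_apply_W hB hp hg hw
  rw [kOf_apply]
  rw [eq_sub_iff_add_eq]
  exact h1.symm

lemma kOf_isometry (hB : IsHerm B) {u us : V} (hp : HypPair B u us) {g : V ≃ₗ[F] V}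
    (hg : g ∈ Pg B u) (x y : ↥(Wsub B u us)) :
    B ((kOf hB hp g x : ↥(Wsub B u us)) : V) ((kOf hB hp g y : ↥(Wsub B u us)) : V) =
      B (x : V) (y : V) := by
  have hx : B (x : V) u = 0 := ((mem_Wsub_iff hB).1 x.2).1
  have hy : B (y : V) u = 0 := ((mem_Wsub_iff hB).1 y.2).1
  have h1 : B (g (x : V)) u = 0 := Pg_perp hp hg hx
  have h2 : B u (g (y : V)) = 0 := herm_eq_zero hB (Pg_perp hp hg hy)
  rw [kOf_coe hB hp hg, kOf_coe hB hp hg]
  simp only [map_sub, map_smul, map_smulₛₗ, LinearMap.sub_apply, LinearMap.smul_apply,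
    smul_eq_mul, h1, h2, hp.ee, mul_zero, sub_zero]
  exact Pg_uG hg _ _

/-! ### the block determinant -/

lemma det_of_toBlocks₂₁_zero {m n R : Type*} [CommRing R] [Fintype m] [Fintype n]
    [DecidableEq m] [DecidableEq n] (M : Matrix (m ⊕ n) (m ⊕ n) R) (h : M.toBlocks₂₁ = 0) :
    M.det = M.toBlocks₁₁.det * M.toBlocks₂₂.det := by
  conv_lhs => rw [← Matrix.fromBlocks_toBlocks M, h]
  exact Matrix.det_fromBlocks_zero₂₁ _ _ _

/-- `V ≃ F × (W × F)`, `x ↦ (B x us, (projW x, B x u))` -/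
noncomputable def psi (hB : IsHerm B) {u us : V} (hp : HypPair B u us) :
    V ≃ₗ[F] F × (↥(Wsub B u us) × F) where
  toFun x := (B x us, (projW hB hp x, B x u))
  invFun p := p.1 • u + ((p.2.1 : V) + p.2.2 • us)
  map_add' x y := by
    simp only [map_add, LinearMap.add_apply, Prod.mk_add_mk]
  map_smul' a x := by
    simp only [map_smul, LinearMap.smul_apply, RingHom.id_apply, Prod.smul_mk]
  left_inv x := by
    show B x us • u + (perpPart B u us x + B x u • us) = x
    have := eq_add_perpPart (B := B) u us x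
    rw [add_comm (perpPart B u us x), ← add_assoc]
    exact this.symm
  right_inv := by
    rintro ⟨a, w, b⟩
    obtain ⟨hw1, hw2⟩ := (mem_Wsub_iff hB).1 w.2
    apply Prod.ext
    · show B (a • u + ((w : V) + b • us)) us = a
      simp [hp.ee, hp.ff, hp.ef, hp.fe, hw1, hw2]
    · apply Prod.ext
      · apply Subtype.ext
        show perpPart B u us (a • u + ((w : V) + b • us)) = w
        simp only [perpPart, map_add, map_smul, LinearMap.add_apply, LinearMap.smul_apply,
          smul_eq_mul, hp.ee, hp.ff, hp.ef, hp.fe, hw1, hw2, mul_zero, mul_one, add_zero,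
          zero_add]
        abel
      · show B (a • u + ((w : V) + b • us)) u = b
        simp [hp.ee, hp.ff, hp.ef, hp.fe, hw1, hw2]

lemma psi_apply (hB : IsHerm B) {u us : V} (hp : HypPair B u us) (x : V) :
    psi hB hp x = (B x us, (projW hB hp x, B x u)) := rfl

lemma psi_symm_apply (hB : IsHerm B) {u us : V} (hp : HypPair B u us)
    (p : F × (↥(Wsub B u us) × F)) :
    (psi hB hp).symm p = p.1 • u + ((p.2.1 : V) + p.2.2 • us) := rfl

section basis

variable {ι : Type*} [Fintype ι] [DecidableEq ι]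

/-- the basis `u | basis of W | us` of `V` -/
noncomputable def bV (hB : IsHerm B) {u us : V} (hp : HypPair B u us)
    (bW : Basis ι F ↥(Wsub B u us)) : Basis (Unit ⊕ (ι ⊕ Unit)) F V :=
  ((Basis.singleton Unit F).prod (bW.prod (Basis.singleton Unit F))).map (psi hB hp).symm

lemma bV_repr_inl (hB : IsHerm B) {u us : V} (hp : HypPair B u us)
    (bW : Basis ι F ↥(Wsub B u us)) (x : V) :
    (bV hB hp bW).repr x (Sum.inl ()) = B x us := by
  simp [bV, psi_apply]

lemma bV_repr_mid (hB : IsHerm B) {u us : V} (hp : HypPair B u us)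
    (bW : Basis ι F ↥(Wsub B u us)) (x : V) (i : ι) :
    (bV hB hp bW).repr x (Sum.inr (Sum.inl i)) = bW.repr (projW hB hp x) i := by
  simp [bV, psi_apply]

lemma bV_repr_inr (hB : IsHerm B) {u us : V} (hp : HypPair B u us)
    (bW : Basis ι F ↥(Wsub B u us)) (x : V) :
    (bV hB hp bW).repr x (Sum.inr (Sum.inr ())) = B x u := by
  simp [bV, psi_apply]

lemma bV_inl (hB : IsHerm B) {u us : V} (hp : HypPair B u us)
    (bW : Basis ι F ↥(Wsub B u us)) : bV hB hp bW (Sum.inl ()) = u := by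
  simp [bV, psi_symm_apply]

lemma bV_mid (hB : IsHerm B) {u us : V} (hp : HypPair B u us)
    (bW : Basis ι F ↥(Wsub B u us)) (i : ι) :
    bV hB hp bW (Sum.inr (Sum.inl i)) = (bW i : V) := by
  simp [bV, psi_symm_apply]

lemma bV_inr (hB : IsHerm B) {u us : V} (hp : HypPair B u us)
    (bW : Basis ι F ↥(Wsub B u us)) : bV hB hp bW (Sum.inr (Sum.inr ())) = us := by
  simp [bV, psi_symm_apply]

end basis

lemma B_us_u {u us : V} (hp : HypPair B u us) {g : V ≃ₗ[F] V} (hg : g ∈ Pg B u) :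
    σ (cOf B u us g) * B (g us) u = 1 := by
  have h1 : B (g us) (g u) = 1 := by rw [Pg_uG hg us u, hp.fe]
  rw [Pg_apply_u hp hg, map_smulₛₗ, smul_eq_mul] at h1
  exact h1

theorem det_block [FiniteDimensional F V] (hB : IsHerm B) {u us : V} (hp : HypPair B u us)
    {g : V ≃ₗ[F] V} (hg : g ∈ Pg B u) :
    LinearMap.det (g : V →ₗ[F] V) =
      cOf B u us g * (LinearMap.det (kOf hB hp g) * B (g us) u) := by
  classical
  let bW := Module.finBasis F ↥(Wsub B u us)
  let b := bV hB hp bW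
  rw [← LinearMap.det_toMatrix b (g : V →ₗ[F] V)]
  set M := LinearMap.toMatrix b b (g : V →ₗ[F] V) with hM
  have hent : ∀ i j, M i j = b.repr (g (b j)) i := fun i j => by
    rw [hM, LinearMap.toMatrix_apply]; rfl
  have h21 : M.toBlocks₂₁ = 0 := by
    ext i j
    rcases j with ⟨⟩
    rw [Matrix.toBlocks₂₁, Matrix.of_apply, hent, Matrix.zero_apply]
    have hb : b (Sum.inl ()) = u := bV_inl hB hp bW
    rw [hb, Pg_apply_u hp hg]
    rcases i with i | ⟨⟩
    · have := bV_repr_mid hB hp bW (cOf B u us g • u) i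
      rw [this, map_smul, projW_u, smul_zero, map_zero]
      rfl
    · have := bV_repr_inr hB hp bW (cOf B u us g • u)
      rw [this, map_smul, LinearMap.smul_apply, hp.ee, smul_zero]
  rw [det_of_toBlocks₂₁_zero M h21]
  have h11 : M.toBlocks₁₁.det = cOf B u us g := by
    rw [Matrix.det_unique]
    show M (Sum.inl ()) (Sum.inl ()) = _
    rw [hent]
    have hb : b (Sum.inl ()) = u := bV_inl hB hp bW
    rw [hb]
    exact bV_repr_inl hB hp bW (g u)
  rw [h11]
  congr 1
  set N := M.toBlocks₂₂ with hN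
  have hentN : ∀ i j, N i j = b.repr (g (b (Sum.inr j))) (Sum.inr i) := fun i j => by
    rw [hN, Matrix.toBlocks₂₂, Matrix.of_apply, hent]
  have hN21 : N.toBlocks₂₁ = 0 := by
    ext i j
    rcases i with ⟨⟩
    rw [Matrix.toBlocks₂₁, Matrix.of_apply, hentN, Matrix.zero_apply]
    have hb : b (Sum.inr (Sum.inl j)) = (bW j : V) := bV_mid hB hp bW j
    rw [hb]
    have := bV_repr_inr hB hp bW (g (bW j : V))
    rw [this]
    exact Pg_perp hp hg ((mem_Wsub_iff hB).1 (bW j).2).1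
  rw [det_of_toBlocks₂₁_zero N hN21]
  have hN11 : N.toBlocks₁₁ = LinearMap.toMatrix bW bW (kOf hB hp g) := by
    ext i j
    rw [Matrix.toBlocks₁₁, Matrix.of_apply, hentN, LinearMap.toMatrix_apply]
    have hb : b (Sum.inr (Sum.inl j)) = (bW j : V) := bV_mid hB hp bW j
    rw [hb]
    have := bV_repr_mid hB hp bW (g (bW j : V)) i
    rw [this, kOf_apply]
  have hN22 : N.toBlocks₂₂.det = B (g us) u := by
    rw [Matrix.det_unique]
    show N (Sum.inr ()) (Sum.inr ()) = _
    rw [hentN]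
    have hb : b (Sum.inr (Sum.inr ())) = us := bV_inr hB hp bW
    rw [hb]
    exact bV_repr_inr hB hp bW (g us)
  rw [hN11, hN22, LinearMap.det_toMatrix]

/-! ### values in `LL` -/

lemma phi_mem_LL [FiniteDimensional F V] (hB : IsHerm B) {u us : V} (hp : HypPair B u us)
    (g : ↥(Pg B u)) : phi hB hp g ∈ LL (hW B u us) := by
  rw [mem_LL]
  constructor
  · intro x y
    rw [hW_apply, hW_apply, phi_snd, phi_snd]
    exact kOf_isometry hB hp g.2 x y
  · rw [LinearEquiv.coe_det, phi_snd_coe, phi_fst]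
    have hdet : LinearMap.det ((g : V ≃ₗ[F] V) : V →ₗ[F] V) = 1 := by
      rw [← LinearEquiv.coe_det, Pg_det g.2, Units.val_one]
    rw [det_block hB hp g.2] at hdet
    have h1 := B_us_u hp g.2
    set c := cOf B u us (g : V ≃ₗ[F] V) with hc
    set d := LinearMap.det (kOf hB hp (g : V ≃ₗ[F] V)) with hd
    set e := B ((g : V ≃ₗ[F] V) us) u with he
    calc d * c = d * c * (σ c * e) := by rw [h1, mul_one]
      _ = σ c * (c * (d * e)) := by ring
      _ = σ c := by rw [hdet, mul_one]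

/-! ### the kernel -/

lemma Qg_le_Qv (hB : IsHerm B) {u us : V} (hp : HypPair B u us) :
    Qg B u ≤ Cfsg.Agent.Lib.Helper27_UQDefs.Qv B u := by
  unfold Qg
  rw [Subgroup.closure_le]
  rintro g ⟨w, c, hwu, hc, rfl⟩
  exact Cfsg.Agent.Lib.Helper27_UQDefs.eich_mem_Qv hB hp.ee hwu hc

lemma phi_eq_one_iff (hB : IsHerm B) {u us : V} (hp : HypPair B u us) (g : ↥(Pg B u)) :
    phi hB hp g = 1 ↔ (g : V ≃ₗ[F] V) ∈ Qg B u := by
  constructor
  · intro h
    have hc : cOf B u us (g : V ≃ₗ[F] V) = 1 := by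
      have := congrArg (fun p => ((p.1 : Fˣ) : F)) h
      simpa [phi_fst] using this
    have hk : ∀ w : ↥(Wsub B u us), kOf hB hp (g : V ≃ₗ[F] V) w = w := by
      intro w
      have := congrArg (fun p => p.2 w) h
      simpa [phi_snd] using this
    have hgu : (g : V ≃ₗ[F] V) u = u := by rw [Pg_apply_u hp g.2, hc, one_smul]
    have hQv : (g : V ≃ₗ[F] V) ∈ Cfsg.Agent.Lib.Helper27_UQDefs.Qv B u := by
      refine ⟨Pg_uG g.2, hgu, fun x hx => ?_⟩
      set w : ↥(Wsub B u us) := projW hB hp x with hw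
      have hx1 : x = B x us • u + (w : V) := by
        have := eq_add_perpPart (B := B) u us x
        rw [hx, zero_smul, add_zero] at this
        exact this
      have hwu : B (w : V) u = 0 := ((mem_Wsub_iff hB).1 w.2).1
      have h2 := Pg_apply_W hB hp g.2 hwu
      rw [← kOf_apply, hk w] at h2
      obtain ⟨t, ht⟩ : ∃ t : F, (g : V ≃ₗ[F] V) (w : V) = (w : V) + t • u := ⟨_, h2⟩
      refine ⟨t, ?_⟩
      conv_lhs => rw [hx1]
      rw [map_add, map_smul, hgu, ht]
      conv_rhs => rw [hx1]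
      abel
    obtain ⟨w, c, hw, hcc, hg⟩ :=
      (Cfsg.Agent.Lib.Helper27_UQDefs.mem_Qv_iff_eich hB hp _).1 hQv
    rw [hg]
    exact Subgroup.subset_closure ⟨w, c, hw.1, hcc, rfl⟩
  · intro h
    obtain ⟨-, hgu, hg2⟩ := Qg_le_Qv hB hp h
    apply Prod.ext
    · apply Units.ext
      rw [phi_fst]
      show B ((g : V ≃ₗ[F] V) u) us = 1
      rw [hgu, hp.ef]
    · apply LinearEquiv.ext
      intro w
      rw [phi_snd, kOf_apply]
      have hwu : B (w : V) u = 0 := ((mem_Wsub_iff hB).1 w.2).1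
      obtain ⟨c, hc⟩ := hg2 (w : V) hwu
      rw [hc, map_add, map_smul, projW_u, smul_zero, add_zero, projW_of_mem]
      rfl

/-- **P-LEVI**: the Levi projection. -/
theorem levi_bridge [Finite F] [FiniteDimensional F V] {q : ℕ} (Hy : U4Hyp B q) {u us : V}
    (hp : HypPair B u us) :
    ∃ φ : ↥(Pg B u) →* Fˣ × (↥(Wsub B u us) ≃ₗ[F] ↥(Wsub B u us)),
      (∀ g, φ g ∈ LL (hW B u us)) ∧
      (∀ g : ↥(Pg B u), φ g = 1 ↔ (g : V ≃ₗ[F] V) ∈ Qg B u) ∧
      (∀ g : ↥(Pg B u), (g : V ≃ₗ[F] V) u = (((φ g).1 : Fˣ) : F) • u) ∧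
      (∀ (g : ↥(Pg B u)) (w : ↥(Wsub B u us)), ∃ t : F,
        (g : V ≃ₗ[F] V) (w : V) = (((φ g).2 w : ↥(Wsub B u us)) : V) + t • u) := by
  refine ⟨phi Hy.hB hp, phi_mem_LL Hy.hB hp, phi_eq_one_iff Hy.hB hp, fun g => ?_, fun g w => ?_⟩
  · rw [phi_fst]
    exact Pg_apply_u hp g.2
  · have hwu : B (w : V) u = 0 := ((mem_Wsub_iff Hy.hB).1 w.2).1
    refine ⟨B ((g : V ≃ₗ[F] V) (w : V)) us, ?_⟩
    rw [phi_snd, kOf_apply]
    exact Pg_apply_W Hy.hB hp g.2 hwu

end Cfsg.Agent.Lib.Helper88_U4_PLEVI
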