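import Mathlib
import Cfsg.Prelude.Def_Transfer

set_option autoImplicit false

/-!
Piece W6 of helper87's plan for S3796 (Ward): the frozen statement follows from the ambient theorem
`WardAmbient` (an elementary abelian subgroup `A` of order `p ^ 2` of a finite group `Γ` acting on a
solvable normal subgroup `N` without common fixed points forces `γ_c(γ_k(N)) = 1`), applied to the
semidirect product `G ⋊ A`.
-/

namespace Cfsg.Agent.Lib.Helper88_WardW6

universe u

/-- the ambient main theorem (helper87's `WardAmbient`, verbatim) -/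
def WardAmbient : Prop :=
  ∀ {Γ : Type u} [Group Γ] [Finite Γ] (p : ℕ) (_ : p.Prime) (N A : Subgroup Γ) [N.Normal]
    (_ : Group.IsSolvable N) (_ : ∀ a ∈ A, ∀ b ∈ A, a * b = b * a) (_ : ∀ a ∈ A, a ^ p = 1)
    (_ : Nat.card A = p ^ 2)
    (_ : ∀ g ∈ N, (∀ a ∈ A, a * g = g * a) → g = 1),
    ∃ k c, (N.lowerCentralSeries k).lowerCentralSeries c = ⊥

open SemidirectProduct in
theorem s3796_of_ambient (h : WardAmbient.{u}) {G : Type u} [Group G] [Finite G]
    (hG : Group.IsSolvable G) {p : ℕ} (hp : p.Prime) (A : Subgroup (MulAut G))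
    (hA : Cfsg.IsElementaryAbelian p A) (hcard : Nat.card A = p ^ 2)
    (hfpf : ∀ g : G, (∀ a ∈ A, a g = g) → g = 1) :
    ∃ F : Fin (2 + 1) → Subgroup G, F 0 = ⊥ ∧ F (Fin.last 2) = ⊤ ∧ Monotone F ∧
      (∀ i, (F i).Normal) ∧
      ∀ i : Fin 2, ∃ k : ℕ, (F i.succ).lowerCentralSeries k ≤ F i.castSucc := by
  classical
  have : Finite A := by
    apply Nat.finite_of_card_ne_zero
    rw [hcard]
    exact pow_ne_zero 2 hp.pos.ne'
  let φ : ↥A →* MulAut G := A.subtype
  let Γ := G ⋊[φ] ↥A
  let il : G →* Γ := inl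
  let ir : ↥A →* Γ := inr
  have hil : Function.Injective il := inl_injective
  have hir : Function.Injective ir := inr_injective
  let N : Subgroup Γ := il.range
  let A' : Subgroup Γ := ir.range
  have : Finite Γ := Finite.of_equiv (G × ↥A) (equivProd (φ := φ)).symm
  have hNn : N.Normal := by
    have : N = (rightHom : Γ →* ↥A).ker := range_inl_eq_ker_rightHom
    rw [this]
    infer_instance
  have hNsolv : Group.IsSolvable N :=
    Group.isSolvable_of_surjective (f := il.rangeRestrict) il.rangeRestrict_surjective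
  have hcomm : ∀ a ∈ A', ∀ b ∈ A', a * b = b * a := by
    rintro _ ⟨a, rfl⟩ _ ⟨b, rfl⟩
    rw [← map_mul, ← map_mul]
    congr 1
    exact hA.1.is_comm.comm a b
  have hexp : ∀ a ∈ A', a ^ p = 1 := by
    rintro _ ⟨a, rfl⟩
    rw [← map_pow]
    have : a ^ p = 1 := by
      apply Subtype.ext
      rw [Subgroup.coe_pow]
      exact hA.2 _ a.2
    rw [this, map_one]
  have hcardA' : Nat.card A' = p ^ 2 := by
    rw [← hcard]
    exact (Nat.card_congr (MonoidHom.ofInjective hir).toEquiv).symm
  have hfix : ∀ g ∈ N, (∀ a ∈ A', a * g = g * a) → g = 1 := by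
    rintro _ ⟨x, rfl⟩ hx
    have hx1 : x = 1 := by
      apply hfpf
      intro a ha
      have h1 := hx (ir ⟨a, ha⟩) ⟨⟨a, ha⟩, rfl⟩
      have h2 : (inl (φ ⟨a, ha⟩ x) : Γ) = inl x := by
        rw [inl_aut]
        have h1' : (inr (⟨a, ha⟩ : ↥A) : Γ) * inl x = inl x * inr ⟨a, ha⟩ := h1
        rw [h1', mul_assoc, ← map_mul, mul_inv_cancel, map_one, mul_one]
      exact inl_injective h2
    rw [hx1, map_one]
  obtain ⟨k, c, hkc⟩ := h p hp N A' hNsolv hcomm hexp hcardA' hfix
  -- transfer back to `G`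
  have hNmap : N = (⊤ : Subgroup G).map il := by
    rw [← MonoidHom.range_eq_map]
  have hG2 : ((⊤ : Subgroup G).lowerCentralSeries k).lowerCentralSeries c = ⊥ := by
    rw [hNmap, ← Subgroup.map_lowerCentralSeries, ← Subgroup.map_lowerCentralSeries,
      Subgroup.map_eq_bot_iff_of_injective _ hil] at hkc
    exact hkc
  refine ⟨![⊥, (⊤ : Subgroup G).lowerCentralSeries k, ⊤], rfl, rfl, ?_, ?_, ?_⟩
  · intro i j hij
    fin_cases i <;> fin_cases j <;> first | exact le_rfl | exact bot_le | exact le_top | (exfalso; revert hij; decide)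
  · intro i
    fin_cases i
    · show (⊥ : Subgroup G).Normal
      infer_instance
    · show ((⊤ : Subgroup G).lowerCentralSeries k).Normal
      infer_instance
    · show (⊤ : Subgroup G).Normal
      infer_instance
  · intro i
    fin_cases i
    · refine ⟨c, ?_⟩
      show ((⊤ : Subgroup G).lowerCentralSeries k).lowerCentralSeries c ≤ ⊥
      rw [hG2]
    · refine ⟨k, ?_⟩
      show (⊤ : Subgroup G).lowerCentralSeries k ≤ (⊤ : Subgroup G).lowerCentralSeries k
      exact le_rfl

end Cfsg.Agent.Lib.Helper88_WardW6
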