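import Mathlib
import Cfsg.Prelude.Def_Characters
import Cfsg.Agent.Lib.Helper80_CharBasic
import Cfsg.Agent.Lib.Helper6_A6Defs
import Cfsg.Agent.Lib.Helper8_A6_L333
import Cfsg.Agent.Lib.Helper89_A6_CNT2

/-!
# S3341 package CNT2 (architect helper6), verbatim form

`count2` = `Helper89_A6_CNT2.count2_aux` with the `(3,3,3)`-lemma `Helper8_A6_L333.lemma333` plugged in.
-/

set_option autoImplicit false

namespace Cfsg.Agent.Lib.Helper89_A6_CNT2W

open Cfsg Cfsg.Agent.Lib.Helper80_CharBasic Cfsg.Agent.Lib.Helper6_A6Defs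

variable {G : Type*} [Group G] [Finite G] {S : Subgroup G}

theorem count2 (h : Hyp G S) (hf : Fus2 G S) {s s' : G} (hs : s ∈ S) (hs1 : s ≠ 1)
    (hs' : s' ∈ S) (hs'1 : s' ≠ 1) (hne : s' ≠ s) (hne' : s' ≠ s⁻¹) :
    Nat.card {p : G × G // IsConj s p.1 ∧ IsConj s p.2 ∧ p.1 * p.2 = s'} = 0 :=
  Cfsg.Agent.Lib.Helper89_A6_CNT2.count2_aux h hf
    (fun hu hv huv huv1 => Cfsg.Agent.Lib.Helper8_A6_L333.lemma333 h hu hv huv huv1)
    hs hs1 hs' hs'1 hne hne'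

end Cfsg.Agent.Lib.Helper89_A6_CNT2W
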