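import Mathlib
import Cfsg.Agent.Lib.Helper17_Sylow

/-!
# S0984 package ENDISO (architect helper62)

A simple group of order 2520 with a subgroup of index 7 is isomorphic to the alternating group of degree 7.
-/

set_option autoImplicit false

namespace Cfsg.Agent.Lib.Helper89_A7_ENDISO

open Cfsg.Agent.Lib.Helper17_Sylow

theorem card_alt7 : Nat.card (alternatingGroup (Fin 7)) = 2520 := by
  have h2 := two_mul_card_alternatingGroup (α := Fin 7)
  rw [Fintype.card_perm, Fintype.card_fin] at h2
  rw [Nat.card_eq_fintype_card]
  have : Nat.factorial 7 = 5040 := by decide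
  omega

theorem iso_of_index7 {G : Type*} [Group G] [Finite G] [IsSimpleGroup G]
    (hG : Nat.card G = 2520) (H : Subgroup G) (hH : H.index = 7) :
    Nonempty (G ≃* alternatingGroup (Fin 7)) := by
  have hnc : ¬ IsMulCommutative G :=
    not_isMulCommutative_of_not_prime (by rw [hG]; norm_num)
  have hHt : H ≠ ⊤ := by
    intro h
    rw [h, Subgroup.index_top] at hH
    omega
  have key : ∀ n : ℕ, n = 7 →
      (∃ f : G →* ↥(alternatingGroup (Fin n)), Function.Injective f) →
      Nonempty (G ≃* alternatingGroup (Fin 7)) := by
    rintro n hn ⟨f, hf⟩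
    subst hn
    have hbij : Function.Bijective f :=
      hf.bijective_of_nat_card_le (by rw [card_alt7, hG])
    exact ⟨MulEquiv.ofBijective f hbij⟩
  exact key H.index hH (exists_embedding_alternating hnc H hHt)

end Cfsg.Agent.Lib.Helper89_A7_ENDISO
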