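import Mathlib

/-!
# S0984 package L5-W (architect helper62)

A Sylow 5-subgroup `P` of order 5 with `|N(P)| = 20` and `C(P) = P`: there are `y` of order 5 and `w` of
order 4 with `w y w⁻¹ = y²`.
-/

set_option autoImplicit false

namespace Cfsg.Agent.Lib.Helper89_A7_L5W

open MulAction

/-- a subgroup `P` of prime order 5 with `|N(P)| = 20`, `C(P) = P`: the normalizer is transitive on the
non-identity elements of `P` -/
theorem exists_conj_sq {G : Type*} [Group G] [Finite G] (P : Subgroup G)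
    (hP : Nat.card P = 5)
    (hN : Nat.card (Subgroup.normalizer (P : Set G)) = 20)
    (hC : Subgroup.centralizer (P : Set G) = P) (y : G) (hyP : y ∈ P) (hy1 : y ≠ 1) :
    ∃ g ∈ Subgroup.normalizer (P : Set G), g * y * g⁻¹ = y ^ 2 := by
  classical
  have hy5 : orderOf y = 5 := by
    have h1 : orderOf (⟨y, hyP⟩ : P) ∣ Nat.card P := orderOf_dvd_natCard _
    rw [hP] at h1
    have h2 : orderOf (⟨y, hyP⟩ : P) = orderOf y := Subgroup.orderOf_mk y hyP
    rw [h2] at h1
    rcases (Nat.dvd_prime (by norm_num : Nat.Prime 5)).mp h1 with h | h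
    · exact absurd (orderOf_eq_one_iff.mp h) hy1
    · exact h
  -- every element of `P` is a power of `y`
  have hpow : ∀ x ∈ P, ∃ k : ℕ, y ^ k = x := by
    have hle : Subgroup.zpowers y ≤ P := (Subgroup.zpowers_le).mpr hyP
    have hcard : Nat.card (Subgroup.zpowers y) = Nat.card P := by
      rw [Nat.card_zpowers, hy5, hP]
    have heq : Subgroup.zpowers y = P := Subgroup.eq_of_le_of_card_ge hle (by rw [hcard])
    intro x hx
    rw [← heq] at hx
    have hfin : IsOfFinOrder y := isOfFinOrder_of_finite y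
    exact (hfin.mem_zpowers_iff_mem_range_orderOf.mp hx |> fun h => by
      simp only [Finset.mem_image, Finset.mem_range] at h
      obtain ⟨k, -, hk⟩ := h
      exact ⟨k, hk⟩)
  let y' : P := ⟨y, hyP⟩
  -- the stabilizer of `y` in `N(P)` is `P`
  have hstab : stabilizer (Subgroup.normalizer (P : Set G)) y' =
      P.subgroupOf (Subgroup.normalizer (P : Set G)) := by
    ext g
    rw [mem_stabilizer_iff, Subgroup.mem_subgroupOf]
    constructor
    · intro h
      have h1 : (g : G) * y * (g : G)⁻¹ = y := congrArg Subtype.val h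
      have h2 : (g : G) * y = y * (g : G) := by
        calc (g : G) * y = ((g : G) * y * (g : G)⁻¹) * (g : G) := by group
          _ = y * (g : G) := by rw [h1]
      have hx : (g : G) ∈ Subgroup.centralizer (P : Set G) := by
        rw [Subgroup.mem_centralizer_iff]
        intro x hx
        obtain ⟨k, rfl⟩ := hpow x hx
        exact ((Commute.pow_right (show Commute (g : G) y from h2) k).eq).symm
      exact (SetLike.ext_iff.mp hC (g : G)).mp hx
    · intro h
      have h' : (g : G) ∈ Subgroup.centralizer (P : Set G) := (SetLike.ext_iff.mp hC (g : G)).mpr h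
      rw [Subgroup.mem_centralizer_iff] at h'
      have h2 := h' y hyP
      apply Subtype.ext
      change (g : G) * y * (g : G)⁻¹ = y
      rw [← h2, mul_inv_cancel_right]
  have hPN : P ≤ Subgroup.normalizer (P : Set G) := Subgroup.le_normalizer
  have hcs : Nat.card (stabilizer (Subgroup.normalizer (P : Set G)) y') = 5 := by
    rw [hstab, Nat.card_congr (Subgroup.subgroupOfEquivOfLe hPN).toEquiv, hP]
  have hidx : (stabilizer (Subgroup.normalizer (P : Set G)) y').index = 4 := by
    have := Subgroup.card_mul_index (stabilizer (Subgroup.normalizer (P : Set G)) y')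
    rw [hcs, hN] at this
    omega
  have horb : (orbit (Subgroup.normalizer (P : Set G)) y').ncard = 4 := by
    rw [← index_stabilizer, hidx]
  have hsub : orbit (Subgroup.normalizer (P : Set G)) y' ⊆ ({1}ᶜ : Set P) := by
    rintro x ⟨g, rfl⟩
    simp only [Set.mem_compl_iff, Set.mem_singleton_iff]
    intro h
    have h1 : (g : G) * y * (g : G)⁻¹ = 1 := congrArg Subtype.val h
    apply hy1
    calc y = (g : G)⁻¹ * ((g : G) * y * (g : G)⁻¹) * (g : G) := by group
      _ = 1 := by rw [h1]; group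
  have hcompl : ({1}ᶜ : Set P).ncard = 4 := by
    rw [Set.ncard_compl, Set.ncard_singleton, hP]
  have heq : orbit (Subgroup.normalizer (P : Set G)) y' = ({1}ᶜ : Set P) :=
    Set.eq_of_subset_of_ncard_le hsub (by rw [hcompl, horb])
  have hmem : y' ^ 2 ∈ orbit (Subgroup.normalizer (P : Set G)) y' := by
    rw [heq]
    simp only [Set.mem_compl_iff, Set.mem_singleton_iff]
    intro h
    have h1 : y ^ 2 = 1 := congrArg Subtype.val h
    have := orderOf_dvd_of_pow_eq_one h1
    rw [hy5] at this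
    omega
  obtain ⟨g, hg⟩ := hmem
  exact ⟨g, g.2, congrArg Subtype.val hg⟩

theorem exists_w {G : Type*} [Group G] [Finite G] [Fact (Nat.Prime 5)] (P : Sylow 5 G)
    (hP : Nat.card P = 5)
    (hN : Nat.card (Subgroup.normalizer ((P : Subgroup G) : Set G)) = 20)
    (hC : Subgroup.centralizer ((P : Subgroup G) : Set G) = (P : Subgroup G)) :
    ∃ y w : G, orderOf y = 5 ∧ orderOf w = 4 ∧ w * y * w⁻¹ = y ^ 2 := by
  have : Nontrivial (P : Subgroup G) :=
    (Finite.one_lt_card_iff_nontrivial).mp (by rw [hP]; norm_num)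
  obtain ⟨y', hy'1⟩ := exists_ne (1 : (P : Subgroup G))
  obtain ⟨y, hy⟩ : ∃ y : G, y = (y' : G) := ⟨_, rfl⟩
  have hyP : y ∈ (P : Subgroup G) := by rw [hy]; exact y'.2
  have hy1 : y ≠ 1 := by
    intro h
    apply hy'1
    apply Subtype.ext
    rw [← hy, h]
    rfl
  have hy5 : orderOf y = 5 := by
    have h1 : orderOf y' ∣ Nat.card (P : Subgroup G) := orderOf_dvd_natCard _
    rw [hP] at h1
    have h2 : orderOf y' = orderOf y := by rw [hy]; exact (Subgroup.orderOf_coe y').symm
    rw [h2] at h1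
    rcases (Nat.dvd_prime (by norm_num : Nat.Prime 5)).mp h1 with h | h
    · exact absurd (orderOf_eq_one_iff.mp h) hy1
    · exact h
  have y5 : y ^ 5 = 1 := by rw [← hy5]; exact pow_orderOf_eq_one y
  obtain ⟨g, hgN, hg⟩ := exists_conj_sq (P : Subgroup G) hP hN hC y hyP hy1
  have hconj : ∀ m : ℕ, g * y ^ m * g⁻¹ = y ^ (2 * m) := by
    intro m
    rw [← conj_pow, hg, ← pow_mul]
  have hk : ∀ k : ℕ, g ^ k * y * (g ^ k)⁻¹ = y ^ (2 ^ k) := by
    intro k
    induction k with
    | zero => simp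
    | succ n ih =>
      calc g ^ (n + 1) * y * (g ^ (n + 1))⁻¹ = g * (g ^ n * y * (g ^ n)⁻¹) * g⁻¹ := by
            rw [pow_succ', mul_inv_rev]
            simp only [mul_assoc]
        _ = g * y ^ (2 ^ n) * g⁻¹ := by rw [ih]
        _ = y ^ (2 * 2 ^ n) := hconj _
        _ = y ^ (2 ^ (n + 1)) := by rw [pow_succ']
  have y32 : y ^ 32 = y ^ 2 := by
    calc y ^ 32 = (y ^ 5) ^ 6 * y ^ 2 := by rw [← pow_mul, ← pow_add]
      _ = y ^ 2 := by rw [y5, one_pow, one_mul]
  have hw : g ^ 5 * y * (g ^ 5)⁻¹ = y ^ 2 := by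
    rw [hk 5]
    norm_num
    exact y32
  have hw4 : (g ^ 5) ^ 4 = 1 := by
    rw [← pow_mul]
    have h := pow_card_eq_one' (G := Subgroup.normalizer ((P : Subgroup G) : Set G)) (x := ⟨g, hgN⟩)
    rw [hN] at h
    have := congrArg Subtype.val h
    simpa using this
  have hw2 : ¬ (g ^ 5) ^ 2 ^ 1 = 1 := by
    intro h
    rw [pow_one] at h
    have e1 : (g ^ 5) ^ 2 * y * ((g ^ 5) ^ 2)⁻¹ = y ^ 4 := by
      calc (g ^ 5) ^ 2 * y * ((g ^ 5) ^ 2)⁻¹
          = g ^ 5 * (g ^ 5 * y * (g ^ 5)⁻¹) * (g ^ 5)⁻¹ := by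
            rw [pow_two, mul_inv_rev]
            simp only [mul_assoc]
        _ = g ^ 5 * y ^ 2 * (g ^ 5)⁻¹ := by rw [hw]
        _ = (g ^ 5 * y * (g ^ 5)⁻¹) ^ 2 := by rw [conj_pow]
        _ = y ^ 4 := by rw [hw, ← pow_mul]
    rw [h, one_mul, inv_one, mul_one] at e1
    have e2 : y ^ 3 = 1 := by
      have : y ^ 4 = y ^ 3 * y := pow_succ y 3
      rw [this] at e1
      exact (mul_eq_right.mp e1.symm)
    have := orderOf_dvd_of_pow_eq_one e2
    rw [hy5] at this
    omega
  have : Fact (Nat.Prime 2) := ⟨Nat.prime_two⟩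
  have hord : orderOf (g ^ 5) = 2 ^ (1 + 1) := orderOf_eq_prime_pow hw2 (by norm_num; exact hw4)
  exact ⟨y, g ^ 5, hy5, by rw [hord]; norm_num, hw⟩

end Cfsg.Agent.Lib.Helper89_A7_L5W
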