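import Mathlib
import Cfsg.Agent.S5346
import Cfsg.Agent.Lib.Helper49_CharP2
import Cfsg.Agent.Lib.Helper1_Cores
import Cfsg.Agent.Lib.Helper89_InvolSylow

/-!
# Consequences of Fischer's width-one theorem (S5346)

* `commutingWidth_eq_one`: a non-empty set in which commuting members are equal has width one;
* `not_mem_pCore_three`: an element of order two is not in `O_3`;
* `mul_mem_pCore_three`: if `D` is a conjugation-invariant set of involutions of a finite group `G`
  such that the product of any two members has order dividing three, then all these products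
  lie in `O_3(G)` (no generation hypothesis).
-/

set_option autoImplicit false
open Cfsg

namespace Cfsg.Agent.Lib.Helper89_WidthOne

open Cfsg.Agent.Lib.Helper89_InvolSylow

theorem commutingWidth_eq_one {G : Type*} [Group G] {D : Set G} (hne : D.Nonempty)
    (h : ∀ a ∈ D, ∀ b ∈ D, Commute a b → a = b) : Cfsg.commutingWidth D = 1 := by
  unfold Cfsg.commutingWidth
  have hle : ∀ n ∈ {n : ℕ | ∃ E : Set G, E ⊆ D ∧ E.Finite ∧
      (∀ a ∈ E, ∀ b ∈ E, Commute a b) ∧ E.ncard = n}, n ≤ 1 := by
    rintro n ⟨E, hED, hEfin, hEc, rfl⟩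
    exact (Set.ncard_le_one hEfin).mpr
      (fun a ha b hb => h a (hED ha) b (hED hb) (hEc a ha b hb))
  obtain ⟨d, hd⟩ := hne
  have h1 : 1 ∈ {n : ℕ | ∃ E : Set G, E ⊆ D ∧ E.Finite ∧
      (∀ a ∈ E, ∀ b ∈ E, Commute a b) ∧ E.ncard = n} := by
    refine ⟨{d}, by simpa using hd, Set.finite_singleton d, ?_, Set.ncard_singleton d⟩
    intro a ha b hb
    rw [Set.mem_singleton_iff] at ha hb
    rw [ha, hb]
  exact le_antisymm (csSup_le ⟨1, h1⟩ hle) (le_csSup ⟨1, hle⟩ h1)

theorem not_mem_pCore_three {G : Type*} [Group G] [Finite G] {x : G} (hx : orderOf x = 2) :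
    x ∉ Cfsg.pCore 3 G := by
  intro hxR
  have : Fact (Nat.Prime 3) := ⟨Nat.prime_three⟩
  have hR3 : IsPGroup 3 (Cfsg.pCore 3 G) := Cfsg.Agent.Lib.Helper1_Cores.pCore_isPGroup 3
  obtain ⟨j, hj⟩ := (IsPGroup.iff_orderOf.mp hR3) ⟨x, hxR⟩
  rw [Subgroup.orderOf_mk, hx] at hj
  have h1 : 2 ∣ 3 ^ j := by rw [← hj]
  have h2 := Nat.Prime.dvd_of_dvd_pow Nat.prime_two h1
  omega

theorem closure_normal_of_conj_invariant {G : Type*} [Group G] {D : Set G}
    (hconj : ∀ g : G, ∀ d ∈ D, g * d * g⁻¹ ∈ D) : (Subgroup.closure D).Normal := by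
  have h : Group.conjugatesOfSet D = D := by
    apply Set.Subset.antisymm
    · intro x hx
      rw [Group.mem_conjugatesOfSet_iff] at hx
      obtain ⟨a, ha, hax⟩ := hx
      obtain ⟨c, hc⟩ := isConj_iff.mp hax
      rw [← hc]
      exact hconj c a ha
    · exact Group.subset_conjugatesOfSet
  have h2 : Subgroup.normalClosure D = Subgroup.closure D := by
    unfold Subgroup.normalClosure
    rw [h]
  rw [← h2]
  exact Subgroup.normalClosure_normal

/-- The width-one theorem without generation: products of two members lie in `O_3`. -/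
theorem mul_mem_pCore_three {G : Type*} [Group G] [Finite G] {D : Set G}
    (hord : ∀ d ∈ D, orderOf d = 2) (hconj : ∀ g : G, ∀ d ∈ D, g * d * g⁻¹ ∈ D)
    (hcube : ∀ a ∈ D, ∀ b ∈ D, (a * b) ^ 3 = 1) :
    ∀ a ∈ D, ∀ b ∈ D, a * b ∈ Cfsg.pCore 3 G := by
  intro a ha b hb
  have hKn : (Subgroup.closure D).Normal := closure_normal_of_conj_invariant hconj
  -- the set `D` inside the group `closure D`
  have hDK : Cfsg.IsThreeTranspositionGroup
      (((↑) : Subgroup.closure D → G) ⁻¹' D) := by
    refine ⟨⟨?_, ?_⟩, ?_, Subgroup.closure_closure_coe_preimage⟩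
    · intro x hx
      rw [← Subgroup.orderOf_coe]
      exact hord _ hx
    · intro x hx y hy
      right
      apply Subtype.ext
      rw [Subgroup.coe_pow, Subgroup.coe_mul]
      exact hcube _ hx _ hy
    · intro g x hx
      change ((g * x * g⁻¹ : Subgroup.closure D) : G) ∈ D
      rw [Subgroup.coe_mul, Subgroup.coe_mul, Subgroup.coe_inv]
      exact hconj _ _ hx
  have haK : (⟨a, Subgroup.subset_closure ha⟩ : Subgroup.closure D) ∈
      (((↑) : Subgroup.closure D → G) ⁻¹' D) := ha
  have hbK : (⟨b, Subgroup.subset_closure hb⟩ : Subgroup.closure D) ∈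
      (((↑) : Subgroup.closure D → G) ⁻¹' D) := hb
  have hw : Cfsg.commutingWidth (((↑) : Subgroup.closure D → G) ⁻¹' D) = 1 := by
    apply commutingWidth_eq_one ⟨_, haK⟩
    intro x hx y hy hxy
    have hx2 : x * x = 1 := sq_of_orderOf_two (hDK.1.1 x hx)
    have hy2 : y * y = 1 := sq_of_orderOf_two (hDK.1.1 y hy)
    have h3 : (x * y) ^ 3 = 1 := by
      apply Subtype.ext
      rw [Subgroup.coe_pow, Subgroup.coe_mul]
      exact hcube _ hx _ hy
    have h2 : (x * y) ^ 2 = 1 := by
      rw [pow_two]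
      calc x * y * (x * y) = x * (y * x) * y := by group
        _ = x * (x * y) * y := by rw [hxy.eq]
        _ = (x * x) * (y * y) := by group
        _ = 1 := by rw [hx2, hy2, one_mul]
    have h1 : x * y = 1 := by
      have : (x * y) ^ 3 = (x * y) ^ 2 * (x * y) := pow_succ _ _
      rw [h3, h2, one_mul] at this
      exact this.symm
    have : x = y⁻¹ := eq_inv_of_mul_eq_one_left h1
    rw [this, inv_of_orderOf_two (hDK.1.1 y hy)]
  have htop := (Cfsg.Agent.S5346.result hDK haK).mp hw
  have hRn : (Cfsg.pCore 3 (Subgroup.closure D)).Normal :=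
    Cfsg.Agent.Lib.Helper1_Cores.pCore_normal 3
  have ha2 : orderOf (⟨a, Subgroup.subset_closure ha⟩ : Subgroup.closure D) = 2 := hDK.1.1 _ haK
  have hb2 : orderOf (⟨b, Subgroup.subset_closure hb⟩ : Subgroup.closure D) = 2 := hDK.1.1 _ hbK
  have hidx : (Cfsg.pCore 3 (Subgroup.closure D)).index = 2 :=
    index_eq_two_of_sup ha2 _ htop (not_mem_pCore_three ha2)
  have hab : (⟨a, Subgroup.subset_closure ha⟩ : Subgroup.closure D) * ⟨b, Subgroup.subset_closure hb⟩
      ∈ Cfsg.pCore 3 (Subgroup.closure D) :=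
    (Subgroup.mul_mem_iff_of_index_two hidx).mpr
      ⟨fun h => absurd h (not_mem_pCore_three ha2), fun h => absurd h (not_mem_pCore_three hb2)⟩
  apply Cfsg.Agent.Lib.Helper49_CharP.pCore_map_subtype_le_of_normal (p := 3) (Subgroup.closure D)
  exact ⟨_, hab, rfl⟩

end Cfsg.Agent.Lib.Helper89_WidthOne
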