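import Mathlib
import Cfsg.Prelude.Def_FischerSpaces
import Cfsg.Prelude.Def_Local
import Cfsg.Agent.Lib.Helper89_InvolSylow
import Cfsg.Agent.Lib.Helper89_WidthOne
import Cfsg.Agent.Lib.Helper1_Cores
import Cfsg.Agent.Lib.Helper21_FStar
import Cfsg.Agent.Lib.Helper22_Layer
import Cfsg.Agent.Lib.Helper29_Local
import Cfsg.Agent.Lib.Helper49_FStarComm

/-!
# Classes of 3-transpositions: general lemmas (helper89)

`D` is a conjugacy class of 3-transpositions generating the finite group `G`.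
* `le_center_of_commute`: a normal subgroup centralized by one member of `D` is central;
* `comm_elt_mem`: for `x` in a normal subgroup `N`, the element `x⁻¹ d x d` lies in `N` and has
  order at most three;
* `pCore_le_center_of_gt_three`: `O_p(G)` is central for `p > 3`;
* `layer_eq_bot_of_isNilpotent_commutator`: if `[E(G), d]` is nilpotent then `E(G) = 1`;
* `layer_eq_bot_of_pCore_two` / `layer_eq_bot_of_pCore_three`: if `O_2(G)` or `O_3(G)` is not
  central then `E(G) = 1`.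
-/

set_option autoImplicit false
open Cfsg

namespace Cfsg.Agent.Lib.Helper89_TTClass

open Cfsg.Agent.Lib.Helper89_InvolSylow

variable {G : Type*} [Group G]

theorem conj_mem {D : Set G} (hD : IsThreeTranspositionClass D) (g : G) {d : G} (hd : d ∈ D) :
    g * d * g⁻¹ ∈ D := by
  obtain ⟨_, ⟨d₀, hd₀, rfl⟩, _⟩ := hD
  have hd' : IsConj d₀ d := hd
  exact (hd'.trans (isConj_iff.mpr ⟨g, rfl⟩) : IsConj d₀ (g * d * g⁻¹))

theorem exists_conj {D : Set G} (hD : IsThreeTranspositionClass D) {a b : G} (ha : a ∈ D)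
    (hb : b ∈ D) : ∃ g : G, g * a * g⁻¹ = b := by
  obtain ⟨_, ⟨d₀, hd₀, rfl⟩, _⟩ := hD
  have ha' : IsConj d₀ a := ha
  have hb' : IsConj d₀ b := hb
  exact isConj_iff.mp (ha'.symm.trans hb')

theorem nonempty {D : Set G} (hD : IsThreeTranspositionClass D) : D.Nonempty := by
  obtain ⟨_, ⟨d₀, hd₀, _⟩, _⟩ := hD
  exact ⟨d₀, hd₀⟩

/-- A normal subgroup centralized by one member of `D` is central. -/
theorem le_center_of_commute {D : Set G} (hD : IsThreeTranspositionClass D) (N : Subgroup G)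
    [hN : N.Normal] {d : G} (hd : d ∈ D) (h : ∀ x ∈ N, x * d = d * x) :
    N ≤ Subgroup.center G := by
  have hall : ∀ e ∈ D, ∀ x ∈ N, x * e = e * x := by
    intro e he x hx
    obtain ⟨g, rfl⟩ := exists_conj hD hd he
    have h1 : g⁻¹ * x * g ∈ N := by
      have := hN.conj_mem x hx g⁻¹
      simpa using this
    have h2 := h _ h1
    calc x * (g * d * g⁻¹) = g * ((g⁻¹ * x * g) * d) * g⁻¹ := by group
      _ = g * (d * (g⁻¹ * x * g)) * g⁻¹ := by rw [h2]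
      _ = g * d * g⁻¹ * x := by group
  have hcent : (⊤ : Subgroup G) ≤ Subgroup.centralizer (N : Set G) := by
    rw [← hD.2.2, Subgroup.closure_le]
    intro e he
    rw [SetLike.mem_coe, Subgroup.mem_centralizer_iff]
    intro x hx
    exact hall e he x hx
  intro x hx
  rw [Subgroup.mem_center_iff]
  intro g
  exact (Subgroup.mem_centralizer_iff.mp (hcent (Subgroup.mem_top g)) x hx).symm

/-- For `x` in a normal subgroup `N` and `d ∈ D`, the element `x⁻¹ d x d` lies in `N` and squares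
or cubes to one. -/
theorem comm_elt_mem {D : Set G} (hD : IsThreeTranspositionClass D) (N : Subgroup G)
    [hN : N.Normal] {d : G} (hd : d ∈ D) {x : G} (hx : x ∈ N) :
    x⁻¹ * d * x * d ∈ N ∧ ((x⁻¹ * d * x * d) ^ 2 = 1 ∨ (x⁻¹ * d * x * d) ^ 3 = 1) := by
  have hdinv : d⁻¹ = d := inv_of_orderOf_two (hD.1.1 d hd)
  constructor
  · have h1 : d * x * d⁻¹ ∈ N := hN.conj_mem x hx d
    have h2 : x⁻¹ * d * x * d = x⁻¹ * (d * x * d⁻¹) := by rw [hdinv]; group
    rw [h2]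
    exact mul_mem (inv_mem hx) h1
  · have h1 : x⁻¹ * d * x⁻¹⁻¹ ∈ D := conj_mem hD x⁻¹ hd
    rw [inv_inv] at h1
    exact hD.1.2 _ h1 d hd

theorem commute_of_comm_elt_eq_one {d x : G} (hd : orderOf d = 2) (h : x⁻¹ * d * x * d = 1) :
    x * d = d * x := by
  have hdd := sq_of_orderOf_two hd
  have h1 : d * x * d = x := by
    have := congrArg (fun z => x * z) h
    simpa [mul_assoc] using this
  calc x * d = (d * x * d) * d := by rw [h1]
    _ = d * x * (d * d) := by group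
    _ = d * x := by rw [hdd, mul_one]

theorem comm_elt_eq_one_of_commute {d x : G} (hd : orderOf d = 2) (h : x * d = d * x) :
    x⁻¹ * d * x * d = 1 := by
  have hdd := sq_of_orderOf_two hd
  calc x⁻¹ * d * x * d = x⁻¹ * (d * x) * d := by group
    _ = x⁻¹ * (x * d) * d := by rw [h]
    _ = d * d := by group
    _ = 1 := hdd

/-- An element of `p`-power order with `p ≠ 2, 3` which squares or cubes to one is trivial. -/
theorem eq_one_of_prime_pow {p : ℕ} (hp : p.Prime) (h2 : p ≠ 2) (h3 : p ≠ 3) {c : G}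
    (hj : ∃ j : ℕ, orderOf c = p ^ j) (h23 : c ^ 2 = 1 ∨ c ^ 3 = 1) : c = 1 := by
  obtain ⟨j, hj⟩ := hj
  rw [← orderOf_eq_one_iff]
  cases j with
  | zero => simpa using hj
  | succ j =>
    exfalso
    have hpd : p ∣ orderOf c := by
      rw [hj]; exact dvd_pow_self p (Nat.succ_ne_zero j)
    rcases h23 with h | h
    · have := hpd.trans (orderOf_dvd_of_pow_eq_one h)
      exact h2 ((Nat.prime_dvd_prime_iff_eq hp Nat.prime_two).mp this)
    · have := hpd.trans (orderOf_dvd_of_pow_eq_one h)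
      exact h3 ((Nat.prime_dvd_prime_iff_eq hp Nat.prime_three).mp this)

/-- An element of 2-power order which cubes to one is trivial. -/
theorem eq_one_of_two_pow_of_cube {c : G} (hj : ∃ j : ℕ, orderOf c = 2 ^ j) (h : c ^ 3 = 1) :
    c = 1 := by
  obtain ⟨j, hj⟩ := hj
  rw [← orderOf_eq_one_iff]
  have h1 : orderOf c ∣ 3 := orderOf_dvd_of_pow_eq_one h
  have h2 : orderOf c ∣ 2 ^ j := by rw [hj]
  have h3 : orderOf c ∣ Nat.gcd 3 (2 ^ j) := Nat.dvd_gcd h1 h2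
  have hcop : Nat.Coprime 3 (2 ^ j) := Nat.Coprime.pow_right _ (by norm_num)
  rw [hcop] at h3
  exact Nat.dvd_one.mp h3

/-- An element of 3-power order which squares to one is trivial. -/
theorem eq_one_of_three_pow_of_sq {c : G} (hj : ∃ j : ℕ, orderOf c = 3 ^ j) (h : c ^ 2 = 1) :
    c = 1 := by
  obtain ⟨j, hj⟩ := hj
  rw [← orderOf_eq_one_iff]
  have h1 : orderOf c ∣ 2 := orderOf_dvd_of_pow_eq_one h
  have h2 : orderOf c ∣ 3 ^ j := by rw [hj]
  have h3 : orderOf c ∣ Nat.gcd 2 (3 ^ j) := Nat.dvd_gcd h1 h2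
  have hcop : Nat.Coprime 2 (3 ^ j) := Nat.Coprime.pow_right _ (by norm_num)
  rw [hcop] at h3
  exact Nat.dvd_one.mp h3

/-- `O_p(G)` is central for every prime `p > 3`. -/
theorem pCore_le_center_of_gt_three [Finite G] {D : Set G} (hD : IsThreeTranspositionClass D)
    {p : ℕ} (hp : p.Prime) (h3 : 3 < p) : Cfsg.pCore p G ≤ Subgroup.center G := by
  have : Fact p.Prime := ⟨hp⟩
  obtain ⟨d, hd⟩ := nonempty hD
  have hn : (Cfsg.pCore p G).Normal := Cfsg.Agent.Lib.Helper1_Cores.pCore_normal p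
  apply le_center_of_commute hD _ hd
  intro x hx
  obtain ⟨hc, h23⟩ := comm_elt_mem hD _ hd hx
  have hj : ∃ j : ℕ, orderOf (x⁻¹ * d * x * d) = p ^ j := by
    obtain ⟨j, hj⟩ := (IsPGroup.iff_orderOf.mp
      (Cfsg.Agent.Lib.Helper1_Cores.pCore_isPGroup (G := G) p)) ⟨_, hc⟩
    rw [Subgroup.orderOf_mk] at hj
    exact ⟨j, hj⟩
  exact commute_of_comm_elt_eq_one (hD.1.1 d hd)
    (eq_one_of_prime_pow hp (by omega) (by omega) hj h23)


theorem mem_zpowers_of_orderOf_two {d z : G} (hd : orderOf d = 2) (hz : z ∈ Subgroup.zpowers d) :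
    z = 1 ∨ z = d := by
  obtain ⟨k, rfl⟩ := Subgroup.mem_zpowers_iff.mp hz
  have h := zpow_mod_orderOf d k
  rw [hd] at h
  rcases Int.emod_two_eq_zero_or_one k with h0 | h1
  · left
    rw [← h]
    norm_num [h0]
  · right
    rw [← h]
    norm_num [h1]

theorem commutator_zpowers_le {d : G} (hd : orderOf d = 2) (E T : Subgroup G)
    (h : ∀ l ∈ E, l⁻¹ * d * l * d ∈ T) : ⁅E, Subgroup.zpowers d⁆ ≤ T := by
  rw [Subgroup.commutator_le]
  intro l hl z hz
  rcases mem_zpowers_of_orderOf_two hd hz with rfl | rfl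
  · simp
  · have := h l⁻¹ (inv_mem hl)
    rw [inv_inv] at this
    rw [commutatorElement_def, inv_of_orderOf_two hd]
    exact this

/-- If all `l⁻¹ d l d` (`l ∈ E(G)`) lie in a nilpotent subgroup `T ≤ E(G)` normalized by `E(G)`,
then `E(G) = 1`. -/
theorem layer_eq_bot_of_comm_mem [Finite G] {D : Set G} (hD : IsThreeTranspositionClass D) {d : G}
    (hd : d ∈ D) (T : Subgroup G) (hnil : Group.IsNilpotent ↥T) (hTE : T ≤ Cfsg.layer G)
    (hnorm : Cfsg.layer G ≤ Subgroup.normalizer (T : Set G))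
    (hc : ∀ l ∈ Cfsg.layer G, l⁻¹ * d * l * d ∈ T) : Cfsg.layer G = ⊥ := by
  have hEn : (Cfsg.layer G).Normal := Cfsg.Agent.Lib.Helper29_Local.layer_normal G
  have hTn : (T.subgroupOf (Cfsg.layer G)).Normal :=
    (Subgroup.normal_subgroupOf_iff_le_normalizer hTE).mpr hnorm
  have hTsub : T.IsSubnormal := Subgroup.IsSubnormal.trans hTE hTn.isSubnormal hEn.isSubnormal
  have hTF : T ≤ Cfsg.fittingSubgroup G :=
    Cfsg.Agent.Lib.Helper21_FStar.le_fittingSubgroup_of_isSubnormal hTsub hnil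
  have hK : ⁅Cfsg.layer G, Subgroup.zpowers d⁆ ≤ Cfsg.fittingSubgroup G :=
    (commutator_zpowers_le (hD.1.1 d hd) _ T hc).trans hTF
  have h1 : ⁅⁅Cfsg.layer G, Subgroup.zpowers d⁆, Cfsg.layer G⁆ = ⊥ := by
    rw [eq_bot_iff, ← Cfsg.Agent.Lib.Helper22_Layer.layer_commutator_fitting (X := G),
      Subgroup.commutator_comm (Cfsg.layer G) (Cfsg.fittingSubgroup G)]
    exact Subgroup.commutator_mono hK le_rfl
  have h2 : ⁅⁅Subgroup.zpowers d, Cfsg.layer G⁆, Cfsg.layer G⁆ = ⊥ := by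
    rw [Subgroup.commutator_comm (Subgroup.zpowers d)]; exact h1
  have h3 : ⁅⁅Cfsg.layer G, Cfsg.layer G⁆, Subgroup.zpowers d⁆ = ⊥ :=
    Subgroup.commutator_commutator_eq_bot_of_rotate h1 h2
  rw [Cfsg.Agent.Lib.Helper22_Layer.layer_perfect] at h3
  have h4 : Cfsg.layer G ≤ Subgroup.centralizer (Subgroup.zpowers d : Set G) :=
    Subgroup.commutator_eq_bot_iff_le_centralizer.mp h3
  have h5 : Cfsg.layer G ≤ Subgroup.center G := by
    apply le_center_of_commute hD _ hd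
    intro x hx
    exact (Subgroup.mem_centralizer_iff.mp (h4 hx) d (Subgroup.mem_zpowers d)).symm
  have h6 : ⁅Cfsg.layer G, Cfsg.layer G⁆ = ⊥ := by
    rw [Subgroup.commutator_eq_bot_iff_le_centralizer]
    exact h5.trans (Subgroup.center_le_centralizer _)
  rw [Cfsg.Agent.Lib.Helper22_Layer.layer_perfect] at h6
  exact h6


/-- Setup shared by the `O_2` and `O_3` cases: if `O_p(G)` is not central there is `x ≠ 1` in
`O_p(G)`, commuting with `E(G)`, such that for all `l ∈ E(G)` the element `c = l⁻¹ d l d` of `E(G)`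
satisfies: `c` and `c x⁻¹` both square or cube to one. -/
theorem exists_core_elt [Finite G] {D : Set G} (hD : IsThreeTranspositionClass D) {d : G}
    (hd : d ∈ D) {p : ℕ} [Fact p.Prime] (h : ¬ Cfsg.pCore p G ≤ Subgroup.center G) :
    ∃ x ∈ Cfsg.pCore p G, x ≠ 1 ∧ (x ^ 2 = 1 ∨ x ^ 3 = 1) ∧
      ∀ l ∈ Cfsg.layer G, l⁻¹ * d * l * d ∈ Cfsg.layer G ∧
        Commute (l⁻¹ * d * l * d) x⁻¹ ∧
        ((l⁻¹ * d * l * d) ^ 2 = 1 ∨ (l⁻¹ * d * l * d) ^ 3 = 1) ∧
        ((l⁻¹ * d * l * d * x⁻¹) ^ 2 = 1 ∨ (l⁻¹ * d * l * d * x⁻¹) ^ 3 = 1) := by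
  have hd2 := hD.1.1 d hd
  have hdinv := inv_of_orderOf_two hd2
  have hQn : (Cfsg.pCore p G).Normal := Cfsg.Agent.Lib.Helper1_Cores.pCore_normal p
  have hEn : (Cfsg.layer G).Normal := Cfsg.Agent.Lib.Helper29_Local.layer_normal G
  have hex : ∃ a ∈ Cfsg.pCore p G, a⁻¹ * d * a * d ≠ 1 := by
    by_contra hcon
    push Not at hcon
    exact h (le_center_of_commute hD _ hd
      (fun x hx => commute_of_comm_elt_eq_one hd2 (hcon x hx)))
  obtain ⟨a, ha, hne⟩ := hex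
  obtain ⟨hxQ, hx23⟩ := comm_elt_mem hD (Cfsg.pCore p G) hd ha
  refine ⟨a⁻¹ * d * a * d, hxQ, hne, hx23, ?_⟩
  intro l hl
  obtain ⟨hcE, hc23⟩ := comm_elt_mem hD (Cfsg.layer G) hd hl
  have hQF : Cfsg.pCore p G ≤ Cfsg.fittingSubgroup G :=
    Cfsg.Agent.Lib.Helper1_Cores.pCore_le_fittingSubgroup p
  have hcomm : Commute (l⁻¹ * d * l * d) (a⁻¹ * d * a * d) := by
    have h1 := Cfsg.Agent.Lib.Helper22_Layer.layer_commutator_fitting (X := G)
    rw [Subgroup.commutator_eq_bot_iff_le_centralizer] at h1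
    exact (Subgroup.mem_centralizer_iff.mp (h1 hcE) _ (hQF hxQ)).symm
  refine ⟨hcE, hcomm.inv_right, hc23, ?_⟩
  have hw : a⁻¹ * d * a ∈ D := by
    have := conj_mem hD a⁻¹ hd
    rwa [inv_inv] at this
  have he : l⁻¹ * d * l ∈ D := by
    have := conj_mem hD l⁻¹ hd
    rwa [inv_inv] at this
  have heq : l⁻¹ * d * l * d * (a⁻¹ * d * a * d)⁻¹ = (l⁻¹ * d * l) * (a⁻¹ * d * a) := by
    rw [mul_inv_rev, mul_inv_rev, mul_inv_rev, inv_inv, hdinv]
    have hdd := sq_of_orderOf_two hd2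
    calc l⁻¹ * d * l * d * (d * (a⁻¹ * (d * a))) = l⁻¹ * d * l * (d * d) * (a⁻¹ * (d * a)) := by
          group
      _ = l⁻¹ * d * l * (a⁻¹ * d * a) := by rw [hdd]; group
  rw [heq]
  exact hD.1.2 _ he _ hw

/-- If `O_2(G)` is not central then `E(G) = 1`. -/
theorem layer_eq_bot_of_pCore_two [Finite G] {D : Set G} (hD : IsThreeTranspositionClass D)
    (h : ¬ Cfsg.pCore 2 G ≤ Subgroup.center G) : Cfsg.layer G = ⊥ := by
  obtain ⟨d, hd⟩ := nonempty hD
  have hd2 := hD.1.1 d hd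
  have hdd := sq_of_orderOf_two hd2
  have hdinv := inv_of_orderOf_two hd2
  have : Fact (Nat.Prime 2) := ⟨Nat.prime_two⟩
  have hEn : (Cfsg.layer G).Normal := Cfsg.Agent.Lib.Helper29_Local.layer_normal G
  obtain ⟨x, hxQ, hx1, hx23, hkey⟩ := exists_core_elt hD hd h
  have hxj : ∃ j : ℕ, orderOf x = 2 ^ j := by
    obtain ⟨j, hj⟩ := (IsPGroup.iff_orderOf.mp
      (Cfsg.Agent.Lib.Helper1_Cores.pCore_isPGroup (G := G) 2)) ⟨_, hxQ⟩
    rw [Subgroup.orderOf_mk] at hj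
    exact ⟨j, hj⟩
  have hx2 : x ^ 2 = 1 := by
    rcases hx23 with h2 | h3
    · exact h2
    · exact absurd (eq_one_of_two_pow_of_cube hxj h3) hx1
  have hxi2 : x⁻¹ ^ 2 = 1 := by rw [inv_pow, hx2, inv_one]
  -- all `c_l` square to one
  have hc2 : ∀ l ∈ Cfsg.layer G, (l⁻¹ * d * l * d) ^ 2 = 1 := by
    intro l hl
    obtain ⟨_, hcomm, hc23, hcx23⟩ := hkey l hl
    rcases hc23 with h2 | h3
    · exact h2
    · rcases hcx23 with k2 | k3
      · rw [hcomm.mul_pow, hxi2, mul_one] at k2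
        exact k2
      · exfalso
        rw [hcomm.mul_pow, h3, one_mul] at k3
        have : x⁻¹ ^ 3 = x⁻¹ ^ 2 * x⁻¹ := pow_succ _ _
        rw [k3, hxi2, one_mul] at this
        exact hx1 (inv_eq_one.mp this.symm)
  -- `d` commutes with `l⁻¹ d l`
  have hcomm_d : ∀ l ∈ Cfsg.layer G, (l⁻¹ * d * l) * d = d * (l⁻¹ * d * l) := by
    intro l hl
    have h1 := hc2 l hl
    rw [pow_two] at h1
    have he2 : (l⁻¹ * d * l) * (l⁻¹ * d * l) = 1 := by
      calc (l⁻¹ * d * l) * (l⁻¹ * d * l) = l⁻¹ * (d * d) * l := by group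
        _ = 1 := by rw [hdd]; group
    have h2 : l⁻¹ * d * l * d = (l⁻¹ * d * l * d)⁻¹ := (inv_eq_of_mul_eq_one_right h1).symm
    rw [h2, mul_inv_rev, hdinv, inv_eq_of_mul_eq_one_right he2]
  -- the set of `E`-conjugates of `d` is a commuting set
  have hS : ∀ a ∈ {e : G | ∃ l ∈ Cfsg.layer G, e = l⁻¹ * d * l},
      ∀ b ∈ {e : G | ∃ l ∈ Cfsg.layer G, e = l⁻¹ * d * l}, a * b = b * a := by
    rintro _ ⟨l, hl, rfl⟩ _ ⟨m, hm, rfl⟩
    have hml : m * l⁻¹ ∈ Cfsg.layer G := mul_mem hm (inv_mem hl)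
    have h1 := hcomm_d _ hml
    calc l⁻¹ * d * l * (m⁻¹ * d * m)
        = l⁻¹ * (d * ((m * l⁻¹)⁻¹ * d * (m * l⁻¹))) * l := by group
      _ = l⁻¹ * (((m * l⁻¹)⁻¹ * d * (m * l⁻¹)) * d) * l := by rw [h1]
      _ = m⁻¹ * d * m * (l⁻¹ * d * l) := by group
  have hAcomm : IsMulCommutative
      (Subgroup.closure {e : G | ∃ l ∈ Cfsg.layer G, e = l⁻¹ * d * l}) :=
    Subgroup.isMulCommutative_closure hS
  -- `E` normalizes the closure
  have hAnorm : ∀ m ∈ Cfsg.layer G,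
      ∀ t ∈ Subgroup.closure {e : G | ∃ l ∈ Cfsg.layer G, e = l⁻¹ * d * l},
      m * t * m⁻¹ ∈ Subgroup.closure {e : G | ∃ l ∈ Cfsg.layer G, e = l⁻¹ * d * l} := by
    intro m hm t ht
    induction ht using Subgroup.closure_induction with
    | mem t ht =>
      obtain ⟨l, hl, rfl⟩ := ht
      apply Subgroup.subset_closure
      refine ⟨l * m⁻¹, mul_mem hl (inv_mem hm), ?_⟩
      group
    | one => simp
    | mul a b _ _ iha ihb =>
      have : m * (a * b) * m⁻¹ = (m * a * m⁻¹) * (m * b * m⁻¹) := by group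
      rw [this]
      exact mul_mem iha ihb
    | inv a _ iha =>
      have : m * a⁻¹ * m⁻¹ = (m * a * m⁻¹)⁻¹ := by group
      rw [this]
      exact inv_mem iha
  apply layer_eq_bot_of_comm_mem hD hd
    (Subgroup.closure {e : G | ∃ l ∈ Cfsg.layer G, e = l⁻¹ * d * l} ⊓ Cfsg.layer G)
  · -- nilpotent since commutative
    have : IsMulCommutative ↥(Subgroup.closure {e : G | ∃ l ∈ Cfsg.layer G, e = l⁻¹ * d * l} ⊓
        Cfsg.layer G) := by
      refine ⟨⟨fun a b => ?_⟩⟩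
      apply Subtype.ext
      have h1 := hAcomm.is_comm.comm ⟨a.1, a.2.1⟩ ⟨b.1, b.2.1⟩
      have h2 := congrArg Subtype.val h1
      exact h2
    exact Cfsg.Agent.Lib.Helper29_Local.isNilpotent_of_isMulCommutative
  · exact inf_le_right
  · intro m hm
    rw [Subgroup.mem_set_normalizer_iff]
    intro t
    constructor
    · rintro ⟨ht1, ht2⟩
      exact ⟨hAnorm m hm t ht1, hEn.conj_mem t ht2 m⟩
    · rintro ⟨ht1, ht2⟩
      have h1 := hAnorm m⁻¹ (inv_mem hm) _ ht1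
      have h2 := hEn.conj_mem _ ht2 m⁻¹
      have e : m⁻¹ * (m * t * m⁻¹) * m⁻¹⁻¹ = t := by group
      rw [e] at h1 h2
      exact ⟨h1, h2⟩
  · intro l hl
    refine ⟨?_, (hkey l hl).1⟩
    apply mul_mem
    · exact Subgroup.subset_closure ⟨l, hl, rfl⟩
    · exact Subgroup.subset_closure ⟨1, one_mem _, by simp⟩


/-- If `O_3(G)` is not central then `E(G) = 1`. -/
theorem layer_eq_bot_of_pCore_three [Finite G] {D : Set G} (hD : IsThreeTranspositionClass D)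
    (h : ¬ Cfsg.pCore 3 G ≤ Subgroup.center G) : Cfsg.layer G = ⊥ := by
  obtain ⟨d, hd⟩ := nonempty hD
  have hd2 := hD.1.1 d hd
  have hdd := sq_of_orderOf_two hd2
  have hdinv := inv_of_orderOf_two hd2
  have : Fact (Nat.Prime 3) := ⟨Nat.prime_three⟩
  have hEn : (Cfsg.layer G).Normal := Cfsg.Agent.Lib.Helper29_Local.layer_normal G
  obtain ⟨x, hxQ, hx1, hx23, hkey⟩ := exists_core_elt hD hd h
  have hxj : ∃ j : ℕ, orderOf x = 3 ^ j := by
    obtain ⟨j, hj⟩ := (IsPGroup.iff_orderOf.mp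
      (Cfsg.Agent.Lib.Helper1_Cores.pCore_isPGroup (G := G) 3)) ⟨_, hxQ⟩
    rw [Subgroup.orderOf_mk] at hj
    exact ⟨j, hj⟩
  have hx3 : x ^ 3 = 1 := by
    rcases hx23 with h2 | h3
    · exact absurd (eq_one_of_three_pow_of_sq hxj h2) hx1
    · exact h3
  have hxi3 : x⁻¹ ^ 3 = 1 := by rw [inv_pow, hx3, inv_one]
  have hxi2 : x⁻¹ ^ 2 ≠ 1 := by
    intro h2
    have : x⁻¹ ^ 3 = x⁻¹ ^ 2 * x⁻¹ := pow_succ _ _
    rw [hxi3, h2, one_mul] at this
    exact hx1 (inv_eq_one.mp this.symm)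
  -- all `c_l` cube to one
  have hc3 : ∀ l ∈ Cfsg.layer G, (l⁻¹ * d * l * d) ^ 3 = 1 := by
    intro l hl
    obtain ⟨_, hcomm, hc23, hcx23⟩ := hkey l hl
    rcases hc23 with h2 | h3
    · rcases hcx23 with k2 | k3
      · exfalso
        rw [hcomm.mul_pow, h2, one_mul] at k2
        exact hxi2 k2
      · rw [hcomm.mul_pow, hxi3, mul_one] at k3
        exact k3
    · exact h3
  -- the subgroup `M = E⟨d⟩`
  have hdM : d ∈ Cfsg.layer G ⊔ Subgroup.zpowers d :=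
    (le_sup_right : Subgroup.zpowers d ≤ _) (Subgroup.mem_zpowers d)
  have hEM : Cfsg.layer G ≤ Cfsg.layer G ⊔ Subgroup.zpowers d := le_sup_left
  -- products of `M`-conjugates of `d` cube to one
  have hk : ∀ k ∈ Cfsg.layer G ⊔ Subgroup.zpowers d, (d * (k * d * k⁻¹)) ^ 3 = 1 := by
    intro k hk
    have hk' : k ∈ ((Cfsg.layer G ⊔ Subgroup.zpowers d : Subgroup G) : Set G) := hk
    rw [Subgroup.normal_mul, Set.mem_mul] at hk'
    obtain ⟨l, hl, z, hz, rfl⟩ := hk'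
    have hz' : l * z * d * (l * z)⁻¹ = l * d * l⁻¹ := by
      rcases mem_zpowers_of_orderOf_two hd2 hz with rfl | rfl
      · simp
      · calc l * z * z * (l * z)⁻¹ = l * (z * z) * z⁻¹ * l⁻¹ := by group
          _ = l * z * l⁻¹ := by rw [hdd, hdinv]; group
    rw [hz']
    have h1 := hc3 l⁻¹ (inv_mem hl)
    rw [inv_inv] at h1
    have h2 : d * (l * d * l⁻¹) = d * (l * d * l⁻¹ * d) * d⁻¹ := by group
    rw [h2, conj_pow, h1]
    group
  have hmn : ∀ m ∈ Cfsg.layer G ⊔ Subgroup.zpowers d, ∀ n ∈ Cfsg.layer G ⊔ Subgroup.zpowers d,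
      ((m * d * m⁻¹) * (n * d * n⁻¹)) ^ 3 = 1 := by
    intro m hm n hn
    have h1 := hk (m⁻¹ * n) (mul_mem (inv_mem hm) hn)
    have h2 : (m * d * m⁻¹) * (n * d * n⁻¹) =
        m * (d * ((m⁻¹ * n) * d * (m⁻¹ * n)⁻¹)) * m⁻¹ := by group
    rw [h2, conj_pow, h1]
    group
  -- the width-one theorem inside `M`
  have hGW := Cfsg.Agent.Lib.Helper89_WidthOne.mul_mem_pCore_three
    (G := ↥(Cfsg.layer G ⊔ Subgroup.zpowers d))
    (D := {y | ∃ m : ↥(Cfsg.layer G ⊔ Subgroup.zpowers d), y = m * ⟨d, hdM⟩ * m⁻¹})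
    (by
      rintro _ ⟨m, rfl⟩
      have h1 : orderOf ((MulAut.conj m) (⟨d, hdM⟩ : ↥(Cfsg.layer G ⊔ Subgroup.zpowers d))) =
          orderOf (⟨d, hdM⟩ : ↥(Cfsg.layer G ⊔ Subgroup.zpowers d)) := MulEquiv.orderOf_eq _ _
      rw [MulAut.conj_apply] at h1
      rw [h1]
      exact (Subgroup.orderOf_mk d hdM).trans hd2)
    (by
      rintro g _ ⟨m, rfl⟩
      exact ⟨g * m, by group⟩)
    (by
      rintro _ ⟨m, rfl⟩ _ ⟨n, rfl⟩
      apply Subtype.ext
      have := hmn m.1 m.2 n.1 n.2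
      simpa using this)
  have hn3 : (Cfsg.pCore 3 ↥(Cfsg.layer G ⊔ Subgroup.zpowers d)).Normal :=
    Cfsg.Agent.Lib.Helper1_Cores.pCore_normal 3
  apply layer_eq_bot_of_comm_mem hD hd
    ((Cfsg.pCore 3 ↥(Cfsg.layer G ⊔ Subgroup.zpowers d)).map
      (Cfsg.layer G ⊔ Subgroup.zpowers d).subtype ⊓ Cfsg.layer G)
  · have h3 : IsPGroup 3 ↥((Cfsg.pCore 3 ↥(Cfsg.layer G ⊔ Subgroup.zpowers d)).map
        (Cfsg.layer G ⊔ Subgroup.zpowers d).subtype ⊓ Cfsg.layer G) :=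
      ((Cfsg.Agent.Lib.Helper1_Cores.pCore_isPGroup 3).map _).to_le inf_le_left
    exact h3.isNilpotent
  · exact inf_le_right
  · -- `E` normalizes `T`
    have key : ∀ m ∈ Cfsg.layer G, ∀ t ∈ (Cfsg.pCore 3 ↥(Cfsg.layer G ⊔ Subgroup.zpowers d)).map
        (Cfsg.layer G ⊔ Subgroup.zpowers d).subtype,
        m * t * m⁻¹ ∈ (Cfsg.pCore 3 ↥(Cfsg.layer G ⊔ Subgroup.zpowers d)).map
        (Cfsg.layer G ⊔ Subgroup.zpowers d).subtype := by
      rintro m hm _ ⟨t', ht', rfl⟩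
      refine ⟨⟨m, hEM hm⟩ * t' * ⟨m, hEM hm⟩⁻¹, hn3.conj_mem t' ht' _, ?_⟩
      simp
    intro m hm
    rw [Subgroup.mem_set_normalizer_iff]
    intro t
    constructor
    · rintro ⟨ht1, ht2⟩
      exact ⟨key m hm t ht1, hEn.conj_mem t ht2 m⟩
    · rintro ⟨ht1, ht2⟩
      have h1 := key m⁻¹ (inv_mem hm) _ ht1
      have h2 := hEn.conj_mem _ ht2 m⁻¹
      have e : m⁻¹ * (m * t * m⁻¹) * m⁻¹⁻¹ = t := by group
      rw [e] at h1 h2
      exact ⟨h1, h2⟩
  · intro l hl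
    refine ⟨?_, (hkey l hl).1⟩
    have h1 := hGW (⟨l, hEM hl⟩⁻¹ * ⟨d, hdM⟩ * (⟨l, hEM hl⟩⁻¹)⁻¹) ⟨_, rfl⟩
      (1 * ⟨d, hdM⟩ * 1⁻¹) ⟨_, rfl⟩
    refine ⟨_, h1, ?_⟩
    simp

end Cfsg.Agent.Lib.Helper89_TTClass
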