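import Mathlib
import Cfsg.Prelude.Def_FischerSpaces
import Cfsg.Agent.Lib.Helper89_InvolSylow
import Cfsg.Agent.Lib.Helper89_TTClass
import Cfsg.Agent.Lib.Helper89_WidthOne
import Cfsg.Agent.Lib.Helper1_Cores
import Cfsg.Agent.Lib.Helper49_CharP2

/-!
# The relation "same commuting partners" on a class of 3-transpositions (helper89)

For `u ∈ D` let `nbr D u` be the set of members of `D` other than `u` commuting with `u`.
Members `v, w` with `nbr D v = nbr D w` are called equivalent.  The main result `mul_mem_ker`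
says that for equivalent `v, w` the product `v * w` preserves every equivalence class.
-/

set_option autoImplicit false
open Cfsg

namespace Cfsg.Agent.Lib.Helper89_Theta

open Cfsg.Agent.Lib.Helper89_InvolSylow Cfsg.Agent.Lib.Helper89_TTClass

variable {G : Type*} [Group G]

/-! ### Word identities for involutions -/

section words

variable {u v w y : G}

/-- braid relation from `(a b)^3 = 1` for involutions -/
theorem braid_of_cube {a b : G} (ha : a * a = 1) (hb : b * b = 1) (h : (a * b) ^ 3 = 1) :
    a * b * a = b * a * b := by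
  have h1 : a * b * (a * b) * (a * b) = 1 := by
    rw [pow_succ, pow_two] at h; exact h
  have hai : a⁻¹ = a := inv_eq_of_mul_eq_one_right ha
  have hbi : b⁻¹ = b := inv_eq_of_mul_eq_one_right hb
  have h2 : a * b * a = (b * a * b)⁻¹ := by
    apply eq_inv_of_mul_eq_one_left
    calc a * b * a * (b * a * b) = a * b * (a * b) * (a * b) := by group
      _ = 1 := h1
  rw [h2, mul_inv_rev, mul_inv_rev, hai, hbi, mul_assoc]

/-- Coxeter `A_3` relation: `u y v y u` commutes with `v`. -/
theorem coxeter_commute (huy : u * y = y * u)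
    (hvu : v * u * v = u * v * u) (hvy : v * y * v = y * v * y) :
    (u * y * v * y * u) * v = v * (u * y * v * y * u) := by
  symm
  calc v * (u * y * v * y * u) = v * u * (y * v * y) * u := by group
    _ = v * u * (v * y * v) * u := by rw [hvy]
    _ = (v * u * v) * y * (v * u) := by group
    _ = (u * v * u) * y * (v * u) := by rw [hvu]
    _ = u * v * (u * y) * v * u := by group
    _ = u * v * (y * u) * v * u := by rw [huy]
    _ = u * v * y * (u * v * u) := by group
    _ = u * v * y * (v * u * v) := by rw [hvu]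
    _ = u * (v * y * v) * u * v := by group
    _ = u * (y * v * y) * u * v := by rw [hvy]
    _ = (u * y * v * y * u) * v := by group

/-- `(u v u) (u y v y u) (u v u) = y`. -/
theorem conj_t_eq (hu : u * u = 1) (hy : y * y = 1) (hv : v * v = 1) (huy : u * y = y * u)
    (hvy : v * y * v = y * v * y) :
    (u * v * u) * (u * y * v * y * u) * (u * v * u) = y := by
  calc (u * v * u) * (u * y * v * y * u) * (u * v * u)
      = u * v * (u * u) * y * v * y * (u * u) * v * u := by group
    _ = u * (v * y * v) * y * v * u := by rw [hu]; group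
    _ = u * (y * v * y) * y * v * u := by rw [hvy]
    _ = u * y * v * (y * y) * v * u := by group
    _ = u * y * (v * v) * u := by rw [hy]; group
    _ = u * y * u := by rw [hv]; group
    _ = y * (u * u) := by rw [huy]; group
    _ = y := by rw [hu, mul_one]

/-- if `u y v y u = v` then `u = y` -/
theorem eq_of_t_eq (hu : u * u = 1) (hy : y * y = 1) (hv : v * v = 1)
    (hvu : v * u * v = u * v * u) (hvy : v * y * v = y * v * y)
    (h : u * y * v * y * u = v) : u = y := by
  -- `v` commutes with `u y`
  have h1 : v * (u * y) = (u * y) * v := by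
    have : u * y * v * y * u * (u * y) = v * (u * y) := by rw [h]
    rw [← this]
    calc u * y * v * y * u * (u * y) = u * y * v * y * (u * u) * y := by group
      _ = u * y * v * (y * y) := by rw [hu]; group
      _ = u * y * v := by rw [hy, mul_one]
  -- hence `(v u v)(v y v) = u y`
  have h2 : (u * v * u) * (y * v * y) = u * y := by
    rw [← hvu, ← hvy]
    calc v * u * v * (v * y * v) = v * u * (v * v) * y * v := by group
      _ = v * (u * y) * v := by rw [hv]; group
      _ = (u * y) * v * v := by rw [h1]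
      _ = u * y * (v * v) := by group
      _ = u * y := by rw [hv, mul_one]
  -- cancel
  have h3 : v * u * y * v = 1 := by
    have e1 : u * (u * v * u * (y * v * y)) * y = u * (u * y) * y := by rw [h2]
    have e2 : u * (u * v * u * (y * v * y)) * y = (u * u) * v * u * y * v * (y * y) := by group
    have e3 : u * (u * y) * y = (u * u) * (y * y) := by group
    rw [e2, e3, hu, hy] at e1
    simpa [mul_assoc] using e1
  have h4 : u * y = 1 := by
    have e1 : v * (v * u * y * v) * v = v * 1 * v := by rw [h3]
    have e2 : v * (v * u * y * v) * v = (v * v) * u * y * (v * v) := by group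
    rw [e2, hv] at e1
    simpa [hv] using e1
  have : u = y⁻¹ := eq_inv_of_mul_eq_one_left h4
  rw [this]
  exact inv_eq_of_mul_eq_one_right hy

/-- The identity `(w v) u (v w) = (u v u) w (u v u)` from the braid relation of `v, u` and the
braid relation of `v, u w u`. -/
theorem affine_identity (hu : u * u = 1) (hvu : v * u * v = u * v * u)
    (hR : v * (u * w * u) * v = (u * w * u) * v * (u * w * u)) :
    (w * v) * u * (v * w) = (u * v * u) * w * (u * v * u) := by
  have h1 : (w * v) * u * (v * w) = w * (u * v * u) * w := by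
    rw [← hvu]; group
  rw [h1]
  -- conjugate by `u`
  have h2 : u * (w * (u * v * u) * w) * u = u * ((u * v * u) * w * (u * v * u)) * u := by
    calc u * (w * (u * v * u) * w) * u = (u * w * u) * v * (u * w * u) := by group
      _ = v * (u * w * u) * v := hR.symm
      _ = (u * u) * v * (u * w * u) * v * (u * u) := by rw [hu]; group
      _ = u * ((u * v * u) * w * (u * v * u)) * u := by group
  have h3 : u * (u * (w * (u * v * u) * w) * u) * u =
      u * (u * ((u * v * u) * w * (u * v * u)) * u) * u := by rw [h2]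
  have e : ∀ z : G, u * (u * z * u) * u = z := by
    intro z
    calc u * (u * z * u) * u = (u * u) * z * (u * u) := by group
      _ = z := by rw [hu]; group
  rw [e, e] at h3
  exact h3

end words


/-! ### The sets `nbr D u` -/

/-- The members of `D` other than `u` commuting with `u`. -/
def nbr (D : Set G) (u : G) : Set G := {y | y ∈ D ∧ y ≠ u ∧ Commute u y}

theorem mem_nbr {D : Set G} {u y : G} : y ∈ nbr D u ↔ y ∈ D ∧ y ≠ u ∧ Commute u y := Iff.rfl

theorem conj_mem_nbr {D : Set G} (hD : IsThreeTranspositionClass D) (g : G) {u y : G}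
    (h : y ∈ nbr D u) : g * y * g⁻¹ ∈ nbr D (g * u * g⁻¹) := by
  obtain ⟨hyD, hne, hc⟩ := h
  refine ⟨conj_mem hD g hyD, ?_, ?_⟩
  · intro heq
    apply hne
    have := congrArg (fun z => g⁻¹ * z * g) heq
    simpa [mul_assoc] using this
  · have h1 : u * y = y * u := hc.eq
    show (g * u * g⁻¹) * (g * y * g⁻¹) = (g * y * g⁻¹) * (g * u * g⁻¹)
    calc (g * u * g⁻¹) * (g * y * g⁻¹) = g * (u * y) * g⁻¹ := by group
      _ = g * (y * u) * g⁻¹ := by rw [h1]
      _ = (g * y * g⁻¹) * (g * u * g⁻¹) := by group

/-- Equivalence is invariant under conjugation. -/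
theorem nbr_conj_eq {D : Set G} (hD : IsThreeTranspositionClass D) (g : G) {v w : G}
    (h : nbr D v = nbr D w) : nbr D (g * v * g⁻¹) = nbr D (g * w * g⁻¹) := by
  have key : ∀ a b : G, nbr D a = nbr D b → nbr D (g * a * g⁻¹) ⊆ nbr D (g * b * g⁻¹) := by
    intro a b hab z hz
    have h1 := conj_mem_nbr hD g⁻¹ hz
    have e1 : g⁻¹ * (g * a * g⁻¹) * g⁻¹⁻¹ = a := by group
    rw [e1, hab] at h1
    have h2 := conj_mem_nbr hD g h1
    have e2 : g * (g⁻¹ * z * g⁻¹⁻¹) * g⁻¹ = z := by group
    rw [e2] at h2
    exact h2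
  exact Set.Subset.antisymm (key v w h) (key w v h.symm)

/-- Distinct equivalent members do not commute. -/
theorem not_commute_of_nbr_eq {D : Set G} {v w : G} (hw : w ∈ D) (hne : v ≠ w)
    (h : nbr D v = nbr D w) : ¬ Commute v w := by
  intro hc
  have h1 : w ∈ nbr D v := ⟨hw, hne.symm, hc⟩
  rw [h] at h1
  exact h1.2.1 rfl

/-- Products of two equivalent members cube to one. -/
theorem cube_of_nbr_eq {D : Set G} (hD : IsThreeTranspositionClass D) {v w : G} (hv : v ∈ D)
    (hw : w ∈ D) (h : nbr D v = nbr D w) : (v * w) ^ 3 = 1 := by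
  have hv2 := sq_of_orderOf_two (hD.1.1 v hv)
  by_cases hne : v = w
  · subst hne
    rw [hv2, one_pow]
  · rcases hD.1.2 v hv w hw with h2 | h3
    · exfalso
      apply not_commute_of_nbr_eq hw hne h
      have hvi := inv_of_orderOf_two (hD.1.1 v hv)
      have hwi := inv_of_orderOf_two (hD.1.1 w hw)
      rw [pow_two] at h2
      have h1 : v * w = (v * w)⁻¹ := (inv_eq_of_mul_eq_one_right h2).symm
      show v * w = w * v
      rw [h1, mul_inv_rev, hvi, hwi]
    · exact h3

/-- Non-commuting members satisfy the braid relation. -/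
theorem braid_of_not_commute {D : Set G} (hD : IsThreeTranspositionClass D) {a b : G} (ha : a ∈ D)
    (hb : b ∈ D) (h : ¬ Commute a b) : a * b * a = b * a * b := by
  have ha2 := sq_of_orderOf_two (hD.1.1 a ha)
  have hb2 := sq_of_orderOf_two (hD.1.1 b hb)
  apply braid_of_cube ha2 hb2
  rcases hD.1.2 a ha b hb with h2 | h3
  · exfalso
    apply h
    have hai := inv_of_orderOf_two (hD.1.1 a ha)
    have hbi := inv_of_orderOf_two (hD.1.1 b hb)
    rw [pow_two] at h2
    have h1 : a * b = (a * b)⁻¹ := (inv_eq_of_mul_eq_one_right h2).symm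
    show a * b = b * a
    rw [h1, mul_inv_rev, hai, hbi]
  · exact h3


/-- Key lemma: for equivalent `v, w`, conjugation by `v * w` maps `nbr D u` into itself. -/
theorem conj_mul_mem_nbr {D : Set G} (hD : IsThreeTranspositionClass D) {v w : G} (hv : v ∈ D)
    (hw : w ∈ D) (h : nbr D v = nbr D w) {u y : G} (hu : u ∈ D) (hy : y ∈ nbr D u) :
    (v * w) * y * (v * w)⁻¹ ∈ nbr D u := by
  have hv2 := sq_of_orderOf_two (hD.1.1 v hv)
  have hw2 := sq_of_orderOf_two (hD.1.1 w hw)
  have hu2 := sq_of_orderOf_two (hD.1.1 u hu)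
  have hvi := inv_of_orderOf_two (hD.1.1 v hv)
  have hwi := inv_of_orderOf_two (hD.1.1 w hw)
  have hui := inv_of_orderOf_two (hD.1.1 u hu)
  obtain ⟨hyD, hyu, hcuy⟩ := hy
  have hy2 := sq_of_orderOf_two (hD.1.1 y hyD)
  have hyi := inv_of_orderOf_two (hD.1.1 y hyD)
  have hfix : ∀ z : G, Commute v z → Commute w z → (v * w) * z * (v * w)⁻¹ = z := by
    intro z h1 h2
    rw [mul_inv_rev, hvi, hwi]
    calc v * w * z * (w * v) = v * (w * z) * w * v := by group
      _ = v * (z * w) * w * v := by rw [h2.eq]
      _ = (v * z) * (w * w) * v := by group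
      _ = z * v * v := by rw [hw2, mul_one, h1.eq]
      _ = z := by rw [mul_assoc, hv2, mul_one]
  have hboth : ∀ z ∈ nbr D v, Commute v z ∧ Commute w z := by
    intro z hz
    have hz' : z ∈ nbr D w := h ▸ hz
    exact ⟨hz.2.2, hz'.2.2⟩
  by_cases hcuv : Commute u v
  · by_cases huv : u = v
    · have hyn : y ∈ nbr D v := by rw [← huv]; exact ⟨hyD, hyu, hcuy⟩
      have hb := hboth y hyn
      rw [hfix y hb.1 hb.2]
      exact ⟨hyD, hyu, hcuy⟩
    · have hun : u ∈ nbr D v := ⟨hu, huv, hcuv.symm⟩
      have hb := hboth u hun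
      have h1 := conj_mem_nbr hD (v * w) (⟨hyD, hyu, hcuy⟩ : y ∈ nbr D u)
      rw [hfix u hb.1 hb.2] at h1
      exact h1
  · by_cases huw : u = w
    · have hyn : y ∈ nbr D v := by rw [h, ← huw]; exact ⟨hyD, hyu, hcuy⟩
      have hb := hboth y hyn
      rw [hfix y hb.1 hb.2]
      exact ⟨hyD, hyu, hcuy⟩
    · have hcuw : ¬ Commute u w := by
        intro hc
        have h1 : u ∈ nbr D w := ⟨hu, huw, hc.symm⟩
        rw [← h] at h1
        exact hcuv h1.2.2.symm
      by_cases hcyv : Commute y v
      · by_cases hyv : y = v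
        · exfalso
          rw [hyv] at hcuy
          exact hcuv hcuy
        · have hyn : y ∈ nbr D v := ⟨hyD, hyv, hcyv.symm⟩
          have hb := hboth y hyn
          rw [hfix y hb.1 hb.2]
          exact ⟨hyD, hyu, hcuy⟩
      · have hyw : y ≠ w := by
          rintro rfl
          exact hcuw hcuy
        have hvu : v * u * v = u * v * u :=
          braid_of_not_commute hD hv hu (fun hc => hcuv hc.symm)
        have hvy : v * y * v = y * v * y :=
          braid_of_not_commute hD hv hyD (fun hc => hcyv hc.symm)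
        have hwu : w * u * w = u * w * u :=
          braid_of_not_commute hD hw hu (fun hc => hcuw hc.symm)
        have htD : u * y * v * y * u ∈ D := by
          have h1 := conj_mem hD (u * y) hv
          have e : (u * y) * v * (u * y)⁻¹ = u * y * v * y * u := by
            rw [mul_inv_rev, hui, hyi]; group
          rw [e] at h1
          exact h1
        have htv : Commute (u * y * v * y * u) v := coxeter_commute hcuy.eq hvu hvy
        have htnev : u * y * v * y * u ≠ v :=
          fun e => hyu (eq_of_t_eq hu2 hy2 hv2 hvu hvy e).symm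
        have htn : u * y * v * y * u ∈ nbr D v := ⟨htD, htnev, htv.symm⟩
        have htw : u * y * v * y * u ∈ nbr D w := h ▸ htn
        have huwuD : u * w * u ∈ D := by
          have h1 := conj_mem hD u hw
          rw [hui] at h1
          exact h1
        have hR : v * (u * w * u) * v = (u * w * u) * v * (u * w * u) := by
          apply braid_of_not_commute hD hv huwuD
          intro hc
          by_cases he : u * w * u = v
          · have e1 : w * v * w⁻¹ = u := by
              rw [hwi, ← he, ← hwu]
              calc w * (w * u * w) * w = (w * w) * u * (w * w) := by group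
                _ = u := by rw [hw2]; group
            have e2 : nbr D u = nbr D w := by
              have h1 := nbr_conj_eq hD w h
              rw [e1] at h1
              have e3 : w * w * w⁻¹ = w := by group
              rw [e3] at h1
              exact h1
            have h2 : y ∈ nbr D v := by rw [h, ← e2]; exact ⟨hyD, hyu, hcuy⟩
            exact hcyv h2.2.2.symm
          · have h1 : u * w * u ∈ nbr D v := ⟨huwuD, he, hc⟩
            rw [h] at h1
            have hc2 : w * (u * w * u) = (u * w * u) * w := h1.2.2.eq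
            apply hcuw
            show u * w = w * u
            have e3 : (w * u * w) * u = u * (w * u * w) := by
              calc (w * u * w) * u = w * (u * w * u) := by group
                _ = (u * w * u) * w := hc2
                _ = u * (w * u * w) := by group
            rw [hwu] at e3
            calc u * w = u * w * (u * u) := by rw [hu2, mul_one]
              _ = (u * w * u) * u := by group
              _ = u * (u * w * u) := e3
              _ = (u * u) * w * u := by group
              _ = w * u := by rw [hu2, one_mul]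
        have hI : (w * v) * u * (v * w) = (u * v * u) * w * (u * v * u) :=
          affine_identity hu2 hvu hR
        have hinv : (v * w)⁻¹ = w * v := by rw [mul_inv_rev, hvi, hwi]
        rw [← hinv] at hI
        have hyct : (u * v * u) * (u * y * v * y * u) * (u * v * u) = y :=
          conj_t_eq hu2 hy2 hv2 hcuy.eq hvy
        have hcc : (u * v * u) * (u * v * u) = 1 := by
          calc (u * v * u) * (u * v * u) = u * v * (u * u) * v * u := by group
            _ = u * (v * v) * u := by rw [hu2]; group
            _ = 1 := by rw [hv2, mul_one, hu2]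
        refine ⟨conj_mem hD _ hyD, ?_, ?_⟩
        · intro heq
          have e1 : y = (v * w)⁻¹ * u * (v * w) := by rw [← heq]; group
          rw [hI, ← hyct] at e1
          have e2 := mul_left_cancel (mul_right_cancel e1)
          exact htw.2.1 e2
        · show u * ((v * w) * y * (v * w)⁻¹) = ((v * w) * y * (v * w)⁻¹) * u
          have hwt : w * (u * y * v * y * u) = (u * y * v * y * u) * w := htw.2.2.eq
          calc u * ((v * w) * y * (v * w)⁻¹)
              = (v * w) * (((v * w)⁻¹ * u * (v * w)) * y) * (v * w)⁻¹ := by group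
            _ = (v * w) * (((u * v * u) * w * (u * v * u)) *
                  ((u * v * u) * (u * y * v * y * u) * (u * v * u))) * (v * w)⁻¹ := by
                rw [hI, hyct]
            _ = (v * w) * ((u * v * u) * w * ((u * v * u) * (u * v * u)) *
                  (u * y * v * y * u) * (u * v * u)) * (v * w)⁻¹ := by group
            _ = (v * w) * ((u * v * u) * (w * (u * y * v * y * u)) * (u * v * u)) * (v * w)⁻¹ := by
                rw [hcc]; group
            _ = (v * w) * ((u * v * u) * ((u * y * v * y * u) * w) * (u * v * u)) * (v * w)⁻¹ := by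
                rw [hwt]
            _ = (v * w) * ((u * v * u) * (u * y * v * y * u) * ((u * v * u) * (u * v * u)) * w *
                  (u * v * u)) * (v * w)⁻¹ := by rw [hcc]; group
            _ = (v * w) * (((u * v * u) * (u * y * v * y * u) * (u * v * u)) *
                  ((u * v * u) * w * (u * v * u))) * (v * w)⁻¹ := by group
            _ = (v * w) * (y * ((v * w)⁻¹ * u * (v * w))) * (v * w)⁻¹ := by rw [hI, hyct]
            _ = ((v * w) * y * (v * w)⁻¹) * u := by group


/-- Conjugation by `v * w` (for equivalent `v, w`) preserves each `nbr D u`. -/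
theorem nbr_conj_mul_eq {D : Set G} (hD : IsThreeTranspositionClass D) {v w : G} (hv : v ∈ D)
    (hw : w ∈ D) (h : nbr D v = nbr D w) {u : G} (hu : u ∈ D) :
    nbr D ((v * w) * u * (v * w)⁻¹) = nbr D u := by
  have hvi := inv_of_orderOf_two (hD.1.1 v hv)
  have hwi := inv_of_orderOf_two (hD.1.1 w hw)
  have hinv : (v * w)⁻¹ = w * v := by rw [mul_inv_rev, hvi, hwi]
  apply Set.Subset.antisymm
  · intro z hz
    have h1 := conj_mem_nbr hD (v * w)⁻¹ hz
    have e1 : (v * w)⁻¹ * ((v * w) * u * (v * w)⁻¹) * (v * w)⁻¹⁻¹ = u := by group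
    rw [e1] at h1
    have h2 := conj_mul_mem_nbr hD hv hw h hu h1
    have e2 : (v * w) * ((v * w)⁻¹ * z * (v * w)⁻¹⁻¹) * (v * w)⁻¹ = z := by group
    rw [e2] at h2
    exact h2
  · intro z hz
    have h1 := conj_mul_mem_nbr hD hw hv h.symm hu hz
    rw [← hinv] at h1
    have h2 := conj_mem_nbr hD (v * w) h1
    have e2 : (v * w) * ((v * w)⁻¹ * z * (v * w)⁻¹⁻¹) * (v * w)⁻¹ = z := by group
    rw [e2] at h2
    exact h2

/-- The subgroup of elements preserving every equivalence class. -/
def ker (D : Set G) (hD : IsThreeTranspositionClass D) : Subgroup G where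
  carrier := {g | ∀ u ∈ D, nbr D (g * u * g⁻¹) = nbr D u}
  one_mem' := by
    intro u _
    simp
  mul_mem' := by
    intro a b ha hb u hu
    have h1 := hb u hu
    have h2 := ha (b * u * b⁻¹) (conj_mem hD b hu)
    have e : a * b * u * (a * b)⁻¹ = a * (b * u * b⁻¹) * a⁻¹ := by group
    rw [e, h2, h1]
  inv_mem' := by
    intro a ha u hu
    have h1 := ha (a⁻¹ * u * a⁻¹⁻¹) (conj_mem hD a⁻¹ hu)
    have e : a * (a⁻¹ * u * a⁻¹⁻¹) * a⁻¹ = u := by group
    rw [e] at h1
    exact h1.symm

theorem mem_ker {D : Set G} {hD : IsThreeTranspositionClass D} {g : G} :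
    g ∈ ker D hD ↔ ∀ u ∈ D, nbr D (g * u * g⁻¹) = nbr D u := Iff.rfl

theorem ker_normal {D : Set G} (hD : IsThreeTranspositionClass D) : (ker D hD).Normal := by
  constructor
  intro g hg n u hu
  have h1 := hg (n⁻¹ * u * n⁻¹⁻¹) (conj_mem hD n⁻¹ hu)
  have h2 := nbr_conj_eq hD n h1
  have e1 : n * (g * (n⁻¹ * u * n⁻¹⁻¹) * g⁻¹) * n⁻¹ = n * g * n⁻¹ * u * (n * g * n⁻¹)⁻¹ := by group
  have e2 : n * (n⁻¹ * u * n⁻¹⁻¹) * n⁻¹ = u := by group
  rw [e1, e2] at h2
  exact h2

/-- Claim A: for equivalent `v, w` the product `v * w` lies in the kernel. -/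
theorem mul_mem_ker {D : Set G} (hD : IsThreeTranspositionClass D) {v w : G} (hv : v ∈ D)
    (hw : w ∈ D) (h : nbr D v = nbr D w) : v * w ∈ ker D hD :=
  fun _ hu => nbr_conj_mul_eq hD hv hw h hu


/-- For equivalent `d, w` the product `d * w` lies in `O_3(G)`. -/
theorem mul_mem_pCore_three_of_nbr_eq [Finite G] {D : Set G} (hD : IsThreeTranspositionClass D)
    {d w : G} (hd : d ∈ D) (hw : w ∈ D) (h : nbr D d = nbr D w) : d * w ∈ Cfsg.pCore 3 G := by
  have hd2 := hD.1.1 d hd
  have hdd := sq_of_orderOf_two hd2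
  have hdi := inv_of_orderOf_two hd2
  have : Fact (Nat.Prime 3) := ⟨Nat.prime_three⟩
  have hKn : (ker D hD).Normal := ker_normal hD
  have hKM : ker D hD ≤ ker D hD ⊔ Subgroup.zpowers d := le_sup_left
  have hdM : d ∈ ker D hD ⊔ Subgroup.zpowers d :=
    (le_sup_right : Subgroup.zpowers d ≤ _) (Subgroup.mem_zpowers d)
  have hwM : w ∈ ker D hD ⊔ Subgroup.zpowers d := by
    have h1 : w * d ∈ ker D hD := mul_mem_ker hD hw hd h.symm
    have e : w = (w * d) * d := by rw [mul_assoc, hdd, mul_one]
    rw [e]
    exact mul_mem (hKM h1) hdM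
  -- invariance of the class of `d` under `M`
  have hinv : ∀ m ∈ ker D hD ⊔ Subgroup.zpowers d, ∀ e ∈ D, nbr D e = nbr D d →
      nbr D (m * e * m⁻¹) = nbr D d := by
    intro m hm e he hed
    have hm' : m ∈ ((ker D hD ⊔ Subgroup.zpowers d : Subgroup G) : Set G) := hm
    rw [Subgroup.normal_mul, Set.mem_mul] at hm'
    obtain ⟨k, hk, z, hz, rfl⟩ := hm'
    have e1 : k * z * e * (k * z)⁻¹ = k * (z * e * z⁻¹) * k⁻¹ := by group
    rw [e1, hk _ (conj_mem hD z he)]
    rcases mem_zpowers_of_orderOf_two hd2 hz with rfl | rfl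
    · simpa using hed
    · have h1 := nbr_conj_eq hD z hed
      have e2 : z * z * z⁻¹ = z := by group
      rw [e2] at h1
      exact h1
  have hGW := Cfsg.Agent.Lib.Helper89_WidthOne.mul_mem_pCore_three
    (G := ↥(ker D hD ⊔ Subgroup.zpowers d))
    (D := {e | (e : G) ∈ D ∧ nbr D (e : G) = nbr D d})
    (by
      rintro e ⟨he, _⟩
      rw [← Subgroup.orderOf_coe]
      exact hD.1.1 _ he)
    (by
      rintro g e ⟨he, hed⟩
      refine ⟨?_, ?_⟩
      · have := conj_mem hD (g : G) he
        simpa using this
      · have := hinv g g.2 e he hed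
        simpa using this)
    (by
      rintro e ⟨he, hed⟩ f ⟨hf, hfd⟩
      apply Subtype.ext
      have := cube_of_nbr_eq hD he hf (hed.trans hfd.symm)
      simpa using this)
  have h1 := hGW ⟨d, hdM⟩ ⟨hd, rfl⟩ ⟨w, hwM⟩ ⟨hw, h.symm⟩
  have hn3 : (Cfsg.pCore 3 ↥(ker D hD ⊔ Subgroup.zpowers d)).Normal :=
    Cfsg.Agent.Lib.Helper1_Cores.pCore_normal 3
  have hT : (Cfsg.pCore 3 ↥(ker D hD ⊔ Subgroup.zpowers d)).map
      (ker D hD ⊔ Subgroup.zpowers d).subtype ⊓ ker D hD ≤ Cfsg.pCore 3 G := by
    apply Cfsg.Agent.Lib.Helper49_CharP.le_pCore_of_normalizedBy_normal (ker D hD) _ inf_le_right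
    · have key : ∀ m ∈ ker D hD, ∀ t ∈ (Cfsg.pCore 3 ↥(ker D hD ⊔ Subgroup.zpowers d)).map
          (ker D hD ⊔ Subgroup.zpowers d).subtype,
          m * t * m⁻¹ ∈ (Cfsg.pCore 3 ↥(ker D hD ⊔ Subgroup.zpowers d)).map
          (ker D hD ⊔ Subgroup.zpowers d).subtype := by
        rintro m hm _ ⟨t', ht', rfl⟩
        refine ⟨⟨m, hKM hm⟩ * t' * ⟨m, hKM hm⟩⁻¹, hn3.conj_mem t' ht' _, ?_⟩
        simp
      intro m hm
      rw [Subgroup.mem_set_normalizer_iff]
      intro t
      constructor
      · rintro ⟨ht1, ht2⟩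
        exact ⟨key m hm t ht1, hKn.conj_mem t ht2 m⟩
      · rintro ⟨ht1, ht2⟩
        have h1 := key m⁻¹ (inv_mem hm) _ ht1
        have h2 := hKn.conj_mem _ ht2 m⁻¹
        have e : m⁻¹ * (m * t * m⁻¹) * m⁻¹⁻¹ = t := by group
        rw [e] at h1 h2
        exact ⟨h1, h2⟩
    · exact ((Cfsg.Agent.Lib.Helper1_Cores.pCore_isPGroup 3).map _).to_le inf_le_left
  apply hT
  refine ⟨⟨_, h1, rfl⟩, mul_mem_ker hD hd hw h⟩

/-- Two involutions whose product squares to one commute. -/
theorem commute_of_sq_eq_one {a b : G} (ha : orderOf a = 2) (hb : orderOf b = 2)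
    (h : (a * b) ^ 2 = 1) : Commute a b := by
  have hainv := inv_of_orderOf_two ha
  have hbinv := inv_of_orderOf_two hb
  rw [pow_two] at h
  have h1 : a * b = (a * b)⁻¹ := (inv_eq_of_mul_eq_one_right h).symm
  show a * b = b * a
  rw [h1, mul_inv_rev, hainv, hbinv]

/-- If `a⁻¹ b ∈ O_3(G)` then every commuting partner of `a` is one of `b`. -/
theorem nbr_subset_of_mem_pCore [Finite G] {D : Set G} (hD : IsThreeTranspositionClass D)
    {a b : G} (ha : a ∈ D) (hb : b ∈ D) (hab : a⁻¹ * b ∈ Cfsg.pCore 3 G) :
    nbr D a ⊆ nbr D b := by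
  rintro y ⟨hyD, hya, hcay⟩
  have ha2 := hD.1.1 a ha
  have hb2 := hD.1.1 b hb
  have hy2 := hD.1.1 y hyD
  have haa := sq_of_orderOf_two ha2
  have hyy := sq_of_orderOf_two hy2
  have hai := inv_of_orderOf_two ha2
  have hRn : (Cfsg.pCore 3 G).Normal := Cfsg.Agent.Lib.Helper1_Cores.pCore_normal 3
  -- `y * a` is an element of order two
  have hya2 : orderOf (y * a) = 2 := by
    apply orderOf_eq_prime
    · rw [pow_two]
      calc y * a * (y * a) = y * (a * y) * a := by group
        _ = y * (y * a) * a := by rw [hcay.eq]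
        _ = (y * y) * (a * a) := by group
        _ = 1 := by rw [hyy, haa, one_mul]
    · intro h1
      apply hya
      have : y = a⁻¹ := eq_inv_of_mul_eq_one_left h1
      rw [this, hai]
  have hnot : y * a ∉ Cfsg.pCore 3 G := Cfsg.Agent.Lib.Helper89_WidthOne.not_mem_pCore_three hya2
  have hmk : (QuotientGroup.mk b : G ⧸ Cfsg.pCore 3 G) = QuotientGroup.mk a := by
    rw [eq_comm, QuotientGroup.eq]
    exact hab
  refine ⟨hyD, ?_, ?_⟩
  · rintro rfl
    apply hnot
    have e : y * a = (a⁻¹ * y)⁻¹ := by rw [mul_inv_rev, inv_inv, inv_of_orderOf_two hy2]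
    rw [e]
    exact inv_mem hab
  · rcases hD.1.2 y hyD b hb with h2 | h3
    · exact (commute_of_sq_eq_one hy2 hb2 h2).symm
    · exfalso
      apply hnot
      have hq3 : (QuotientGroup.mk (y * a) : G ⧸ Cfsg.pCore 3 G) ^ 3 = 1 := by
        rw [QuotientGroup.mk_mul, ← hmk, ← QuotientGroup.mk_mul, ← QuotientGroup.mk_pow, h3,
          QuotientGroup.mk_one]
      have hq2 : (QuotientGroup.mk (y * a) : G ⧸ Cfsg.pCore 3 G) ^ 2 = 1 := by
        rw [← QuotientGroup.mk_pow, ← hya2, pow_orderOf_eq_one, QuotientGroup.mk_one]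
      have hq1 : (QuotientGroup.mk (y * a) : G ⧸ Cfsg.pCore 3 G) = 1 := by
        have e : (QuotientGroup.mk (y * a) : G ⧸ Cfsg.pCore 3 G) ^ 3 =
            (QuotientGroup.mk (y * a) : G ⧸ Cfsg.pCore 3 G) ^ 2 * QuotientGroup.mk (y * a) :=
          pow_succ _ _
        rw [hq3, hq2, one_mul] at e
        exact e.symm
      exact (QuotientGroup.eq_one_iff _).mp hq1

/-- Two involutions with product of odd order are conjugate by a power of the product. -/
theorem exists_pow_conj {d e : G} (hd : orderOf d = 2) (he : orderOf e = 2)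
    (hodd : Odd (orderOf (d * e))) : ∃ k : ℕ, (d * e) ^ k * d * ((d * e) ^ k)⁻¹ = e := by
  obtain ⟨k, hk⟩ := hodd
  have hdd := sq_of_orderOf_two hd
  have hee := sq_of_orderOf_two he
  have hdinv := inv_of_orderOf_two hd
  have heinv := inv_of_orderOf_two he
  have hcdc : (d * e) * d * (d * e) = d := by
    calc (d * e) * d * (d * e) = d * e * (d * d) * e := by group
      _ = d * (e * e) := by rw [hdd]; group
      _ = d := by rw [hee, mul_one]
  have hj : ∀ j : ℕ, (d * e) ^ j * d * (d * e) ^ j = d := by
    intro j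
    induction j with
    | zero => simp
    | succ j ih =>
      calc (d * e) ^ (j + 1) * d * (d * e) ^ (j + 1)
          = (d * e) ^ j * ((d * e) * d * (d * e)) * (d * e) ^ j := by
            have e2 : (d * e) ^ (j + 1) * d * (d * e) ^ (j + 1)
                = ((d * e) ^ j * (d * e)) * d * ((d * e) * (d * e) ^ j) := by
              rw [← pow_succ, ← pow_succ']
            rw [e2]
            simp only [mul_assoc]
        _ = d := by rw [hcdc, ih]
  have h1 : (d * e) ^ (2 * k) * (d * e) = 1 := by
    rw [← pow_succ, ← hk]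
    exact pow_orderOf_eq_one _
  have h2 : (d * e) ^ (2 * k) = e * d := by
    have : (d * e) ^ (2 * k) = (d * e)⁻¹ := eq_inv_of_mul_eq_one_left h1
    rw [this, mul_inv_rev, hdinv, heinv]
  refine ⟨k, ?_⟩
  calc (d * e) ^ k * d * ((d * e) ^ k)⁻¹
      = (d * e) ^ k * ((d * e) ^ k * d * (d * e) ^ k) * ((d * e) ^ k)⁻¹ := by rw [hj k]
    _ = ((d * e) ^ k * (d * e) ^ k) * d := by group
    _ = (d * e) ^ (2 * k) * d := by rw [← pow_add, two_mul]
    _ = e * (d * d) := by rw [h2]; group
    _ = e := by rw [hdd, mul_one]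

end Cfsg.Agent.Lib.Helper89_Theta
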