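import Mathlib
import Cfsg.Prelude.Def_FischerSpaces
import Cfsg.Agent.Lib.Helper89_InvolSylow
import Cfsg.Agent.Lib.Helper89_TTClass
import Cfsg.Agent.Lib.Helper89_Theta

/-!
# Blocks of imprimitivity for the conjugation action on a class of 3-transpositions (helper89)

`cj g S` is the conjugate `g S g⁻¹` of a set.  A block is a subset `B ⊆ D` with `cj g B = B` or
`cj g B` disjoint from `B` for every `g`.  For a block `B`:
* `commute_of_block`: a member of `D` outside `B` commuting with one member of `B` commutes with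
  all of them;
* `blockKer`: the normal subgroup of elements fixing every conjugate of `B`;
* `mul_mem_blockKer`: the product of two members of `B` lies in `blockKer`.
-/

set_option autoImplicit false
open Cfsg

namespace Cfsg.Agent.Lib.Helper89_Blocks

open Cfsg.Agent.Lib.Helper89_InvolSylow Cfsg.Agent.Lib.Helper89_TTClass
  Cfsg.Agent.Lib.Helper89_Theta

variable {G : Type*} [Group G]

/-- The conjugate `g S g⁻¹` of a set. -/
def cj (g : G) (S : Set G) : Set G := (fun x => g * x * g⁻¹) '' S

theorem mem_cj {g z : G} {S : Set G} : z ∈ cj g S ↔ g⁻¹ * z * g ∈ S := by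
  constructor
  · rintro ⟨x, hx, rfl⟩
    have : g⁻¹ * (g * x * g⁻¹) * g = x := by group
    rw [this]; exact hx
  · intro h
    exact ⟨g⁻¹ * z * g, h, by group⟩

theorem conj_mem_cj {g x : G} {S : Set G} (hx : x ∈ S) : g * x * g⁻¹ ∈ cj g S := ⟨x, hx, rfl⟩

@[simp] theorem cj_one (S : Set G) : cj 1 S = S := by
  ext z; rw [mem_cj]; simp

theorem cj_mul (g h : G) (S : Set G) : cj (g * h) S = cj g (cj h S) := by
  ext z
  rw [mem_cj, mem_cj, mem_cj]
  have : (g * h)⁻¹ * z * (g * h) = h⁻¹ * (g⁻¹ * z * g) * h := by group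
  rw [this]

theorem cj_inv_cj (g : G) (S : Set G) : cj g⁻¹ (cj g S) = S := by
  rw [← cj_mul]; simp

theorem cj_cj_inv (g : G) (S : Set G) : cj g (cj g⁻¹ S) = S := by
  rw [← cj_mul]; simp

/-- `B` is a block for the conjugation action. -/
def IsBlock (B : Set G) : Prop := ∀ g : G, cj g B = B ∨ Disjoint (cj g B) B

/-- Two conjugates of a block with a common element are equal. -/
theorem cj_eq_of_mem {B : Set G} (hB : IsBlock B) {g h z : G} (hg : z ∈ cj g B) (hh : z ∈ cj h B) :
    cj g B = cj h B := by
  have h1 : h⁻¹ * z * h ∈ cj (h⁻¹ * g) B := by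
    rw [cj_mul]
    have := conj_mem_cj (g := h⁻¹) hg
    simpa using this
  have h2 : h⁻¹ * z * h ∈ B := mem_cj.mp hh
  rcases hB (h⁻¹ * g) with h3 | h3
  · have : cj g B = cj h (cj (h⁻¹ * g) B) := by
      rw [← cj_mul]; congr 1; group
    rw [this, h3]
  · exact absurd h2 (Set.disjoint_left.mp h3 h1)

/-- An element fixing a point of `B` fixes `B`. -/
theorem cj_eq_self_of_commute {B : Set G} (hB : IsBlock B) {x a : G} (ha : a ∈ B)
    (hc : Commute x a) : cj x B = B := by
  have h1 : a ∈ cj x B := by
    have := conj_mem_cj (g := x) ha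
    have e : x * a * x⁻¹ = a := by rw [hc.eq]; group
    rwa [e] at this
  have h2 : a ∈ cj 1 B := by simpa using ha
  have := cj_eq_of_mem hB h1 h2
  simpa using this

/-- A member of `D` outside the block `B` commuting with a member of `B` commutes with all
members of `B`. -/
theorem commute_of_block {D : Set G} (hD : IsThreeTranspositionClass D) {B : Set G} (hBD : B ⊆ D)
    (hB : IsBlock B) {x a b : G} (hx : x ∈ D) (hxB : x ∉ B) (ha : a ∈ B) (hb : b ∈ B)
    (hc : Commute x a) : Commute x b := by
  by_contra hnc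
  have hxi := inv_of_orderOf_two (hD.1.1 x hx)
  have hbi := inv_of_orderOf_two (hD.1.1 b (hBD hb))
  have h1 : cj x B = B := cj_eq_self_of_commute hB ha hc
  have h2 : x * b * x⁻¹ ∈ B := by
    have := conj_mem_cj (g := x) hb
    rwa [h1] at this
  have hbr : x * b * x = b * x * b := braid_of_not_commute hD hx (hBD hb) hnc
  rw [hxi, hbr] at h2
  have h3 : cj b B = B := cj_eq_self_of_commute hB hb (Commute.refl b)
  have h4 : b⁻¹ * (b * x * b) * b ∈ cj b⁻¹ B := by
    have := conj_mem_cj (g := b⁻¹) h2
    simpa using this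
  have h5 : cj b⁻¹ B = B := by
    have := cj_inv_cj b B
    rw [h3] at this
    exact this
  rw [h5] at h4
  have e : b⁻¹ * (b * x * b) * b = x := by
    rw [hbi]
    have hbb := sq_of_orderOf_two (hD.1.1 b (hBD hb))
    calc b * (b * x * b) * b = (b * b) * x * (b * b) := by group
      _ = x := by rw [hbb]; group
  rw [e] at h4
  exact hxB h4

/-- The subgroup of elements fixing every conjugate of `B`. -/
def blockKer (B : Set G) : Subgroup G where
  carrier := {g | ∀ h : G, cj g (cj h B) = cj h B}
  one_mem' := by intro h; simp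
  mul_mem' := by
    intro a b ha hb h
    rw [cj_mul, hb h, ha h]
  inv_mem' := by
    intro a ha h
    have := ha h
    have e := cj_inv_cj a (cj h B)
    rw [this] at e
    exact e

theorem mem_blockKer {B : Set G} {g : G} : g ∈ blockKer B ↔ ∀ h : G, cj g (cj h B) = cj h B :=
  Iff.rfl

theorem blockKer_normal (B : Set G) : (blockKer B).Normal := by
  constructor
  intro g hg n h
  have h1 := hg (n⁻¹ * h)
  have e : cj (n * g * n⁻¹) (cj h B) = cj n (cj g (cj (n⁻¹ * h) B)) := by
    rw [← cj_mul, ← cj_mul, ← cj_mul]; congr 1; group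
  rw [e, h1, ← cj_mul]
  congr 1; group

/-- The product of two members of a block fixes every conjugate of the block. -/
theorem mul_mem_blockKer {D : Set G} (hD : IsThreeTranspositionClass D) {B : Set G} (hBD : B ⊆ D)
    (hB : IsBlock B) {a b : G} (ha : a ∈ B) (hb : b ∈ B) : a * b ∈ blockKer B := by
  intro h
  have haD := hBD ha
  have hbD := hBD hb
  have hai := inv_of_orderOf_two (hD.1.1 a haD)
  have hbi := inv_of_orderOf_two (hD.1.1 b hbD)
  have haa := sq_of_orderOf_two (hD.1.1 a haD)
  -- a point of the conjugate block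
  have hxB' : h * a * h⁻¹ ∈ cj h B := conj_mem_cj ha
  have hxD : h * a * h⁻¹ ∈ D := conj_mem hD h haD
  have hxi := inv_of_orderOf_two (hD.1.1 _ hxD)
  -- the conjugates of a block are blocks
  have hB' : IsBlock (cj h B) := by
    intro g
    rcases hB (h⁻¹ * g * h) with h1 | h1
    · left
      have e : cj g (cj h B) = cj h (cj (h⁻¹ * g * h) B) := by
        rw [← cj_mul, ← cj_mul]; congr 1; group
      rw [e, h1]
    · right
      have e : cj g (cj h B) = cj h (cj (h⁻¹ * g * h) B) := by
        rw [← cj_mul, ← cj_mul]; congr 1; group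
      rw [e]
      rw [Set.disjoint_left] at h1 ⊢
      intro z hz1 hz2
      exact h1 (mem_cj.mp hz1) (mem_cj.mp hz2)
  have hB'D : cj h B ⊆ D := by
    rintro _ ⟨z, hz, rfl⟩
    exact conj_mem hD h (hBD hz)
  by_cases hxB : h * a * h⁻¹ ∈ B
  · -- the conjugate block is `B` itself
    have e1 : cj h B = B := by
      have h2 : h * a * h⁻¹ ∈ cj 1 B := by simpa using hxB
      have := cj_eq_of_mem hB hxB' h2
      simpa using this
    rw [e1, cj_mul, cj_eq_self_of_commute hB hb (Commute.refl b),
      cj_eq_self_of_commute hB ha (Commute.refl a)]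
  · by_cases hc : Commute (h * a * h⁻¹) a
    · -- the blocks commute
      have hcb : Commute (h * a * h⁻¹) b := commute_of_block hD hBD hB hxD hxB ha hb hc
      rw [cj_mul, cj_eq_self_of_commute hB' hxB' hcb.symm,
        cj_eq_self_of_commute hB' hxB' hc.symm]
    · -- the blocks do not commute
      have hcb : ¬ Commute (h * a * h⁻¹) b := by
        intro hcb
        exact hc (commute_of_block hD hBD hB hxD hxB hb ha hcb)
      -- `a x a = x a x` lies in `cj a (cj h B)` and in `cj x B`
      have key : ∀ c ∈ B, ¬ Commute (h * a * h⁻¹) c →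
          cj c (cj h B) = cj (h * a * h⁻¹) B := by
        intro c hcB hnc
        have hcD := hBD hcB
        have hci := inv_of_orderOf_two (hD.1.1 c hcD)
        have hbr : (h * a * h⁻¹) * c * (h * a * h⁻¹) = c * (h * a * h⁻¹) * c :=
          braid_of_not_commute hD hxD hcD hnc
        have h1 : c * (h * a * h⁻¹) * c⁻¹ ∈ cj c (cj h B) := conj_mem_cj hxB'
        have h2 : (h * a * h⁻¹) * c * (h * a * h⁻¹)⁻¹ ∈ cj (h * a * h⁻¹) B := conj_mem_cj hcB
        rw [hxi, hbr] at h2
        rw [hci] at h1
        have hBc : IsBlock (cj h B) := hB'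
        -- both are conjugates of `B`
        have e1 : cj c (cj h B) = cj (c * h) B := (cj_mul c h B).symm
        rw [e1] at h1 ⊢
        exact cj_eq_of_mem hB h1 h2
      have ka := key a ha hc
      have kb := key b hb hcb
      rw [cj_mul, kb, ← ka, ← cj_mul, haa]
      simp

end Cfsg.Agent.Lib.Helper89_Blocks
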