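import Mathlib
import Cfsg.Prelude.Def_Spor_Mathieu
import Cfsg.Prelude.Def_Sporadic
import Cfsg.Agent.S0387
import Cfsg.Agent.S0388
import Cfsg.Agent.S2490
import Cfsg.Agent.S5620
import Cfsg.Agent.Lib.Helper53_M11_L11Main

/-!
# The commuting graph of M11 determines M11 (helper89, for S3413)

A bijection between the nonidentity elements of `H` and of `M11` preserving commutation gives
`|H| = 7920` and `|C_H(x)| = |C_M(f x)|`.  In a simple group of order `7920` a centralizer of a
nonidentity element whose order is divisible by `11` has order `11` (Sylow 11-subgroups are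
self-centralizing, helper53 L11).  Hence `H` has no element of order `11 b`, its prime graph is
disconnected, it is simple (S2490), and the uniqueness of the simple group of order `7920`
(entering as a hypothesis `h420`) finishes.
-/

set_option autoImplicit false
set_option linter.unusedVariables false
set_option linter.style.haveILetI false
open scoped Pointwise

namespace Cfsg.Agent.Lib.Helper89_CommM11

open Cfsg

/-! ### The concrete group -/

theorem mem_M11' {g : Equiv.Perm GolayPt} : g ∈ Spor.M11 ↔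
    g ∈ M24 ∧ g • Spor.squareDodecad = Spor.squareDodecad ∧ g (some 0) = some 0 := by
  unfold Spor.M11 Spor.M12
  rw [Subgroup.mem_inf, Subgroup.mem_inf, MulAction.mem_stabilizer_iff,
    MulAction.mem_stabilizer_iff, and_assoc]
  rfl

/-- `Spor.M11` is the two-fold stabiliser used in S0387/S0388/S0420, repackaged. -/
noncomputable def eqv : ↥Spor.M11 ≃*
    ↥(MulAction.stabilizer Cfsg.M24 Spor.squareDodecad ⊓
      MulAction.stabilizer Cfsg.M24 (some 0 : GolayPt)) where
  toFun := fun k => ⟨⟨k.1, (mem_M11'.1 k.2).1⟩, Subgroup.mem_inf.2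
        ⟨MulAction.mem_stabilizer_iff.2 (mem_M11'.1 k.2).2.1,
         MulAction.mem_stabilizer_iff.2 (mem_M11'.1 k.2).2.2⟩⟩
  invFun := fun k => ⟨k.1.1, mem_M11'.2 ⟨k.1.2,
        MulAction.mem_stabilizer_iff.1 (Subgroup.mem_inf.1 k.2).1,
        MulAction.mem_stabilizer_iff.1 (Subgroup.mem_inf.1 k.2).2⟩⟩
  left_inv := fun k => rfl
  right_inv := fun k => rfl
  map_mul' := fun a b => rfl

theorem card_M11' : Nat.card ↥Spor.M11 = 7920 := by
  rw [Nat.card_congr eqv.toEquiv]
  exact Cfsg.Agent.S0387.result Spor.squareDodecad Cfsg.Agent.S5620.D_mem (some 0)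
    Cfsg.Agent.S5620.zero_mem

theorem simple_M11 : IsSimpleGroup ↥Spor.M11 := by
  haveI := Cfsg.Agent.S0388.result Spor.squareDodecad Cfsg.Agent.S5620.D_mem (some 0)
    Cfsg.Agent.S5620.zero_mem
  exact eqv.isSimpleGroup

/-! ### Centralizers of order divisible by 11 in a simple group of order 7920 -/

theorem card_centralizer_eq_eleven {G : Type*} [Group G] [Finite G] [IsSimpleGroup G]
    (hG : Nat.card G = 7920) (m : G) (hm : m ≠ 1)
    (h11 : 11 ∣ Nat.card (Subgroup.centralizer ({m} : Set G))) :
    Nat.card (Subgroup.centralizer ({m} : Set G)) = 11 := by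
  classical
  haveI : Fact (Nat.Prime 11) := ⟨by norm_num⟩
  obtain ⟨z, hz⟩ := exists_prime_orderOf_dvd_card' (G := ↥(Subgroup.centralizer ({m} : Set G))) 11 h11
  have hz' : orderOf (z : G) = 11 := by rw [Subgroup.orderOf_coe]; exact hz
  have hmz : (z : G) * m = m * (z : G) := Subgroup.mem_centralizer_singleton_iff.1 z.2
  set Z : Subgroup G := Subgroup.zpowers (z : G) with hZ
  have hZcard : Nat.card Z = 11 := by rw [hZ, Nat.card_zpowers, hz']
  -- a Sylow 11-subgroup containing Z
  have hZp : IsPGroup 11 Z := IsPGroup.of_card (n := 1) (by rw [hZcard]; norm_num)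
  obtain ⟨P, hZP⟩ := hZp.exists_le_sylow
  have hPcard : Nat.card (P : Subgroup G) = 11 := by
    obtain ⟨n, hn⟩ := IsPGroup.iff_card.1 P.2
    have hdvd : Nat.card (P : Subgroup G) ∣ 7920 := by
      rw [← hG]; exact Subgroup.card_subgroup_dvd_card _
    have h1 : 11 ∣ Nat.card (P : Subgroup G) := by
      have := Subgroup.card_dvd_of_le hZP
      rwa [hZcard] at this
    rw [hn] at hdvd h1 ⊢
    have hn1 : n ≠ 0 := by
      rintro rfl
      norm_num at h1
    have hn2 : n < 2 := by
      by_contra hcon
      push Not at hcon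
      have : 11 ^ 2 ∣ 7920 := (pow_dvd_pow 11 hcon).trans hdvd
      norm_num at this
    have : n = 1 := by omega
    rw [this]; norm_num
  have hZeq : Z = (P : Subgroup G) := by
    apply Subgroup.eq_of_le_of_card_ge hZP
    rw [hZcard, hPcard]
  have hcent : Subgroup.centralizer ((Z : Subgroup G) : Set G) = Z := by
    rw [hZeq]
    exact (Cfsg.Agent.Lib.Helper53_M11_L11Main.L11 hG P).2
  -- m lies in C(Z) = Z
  have hmZ : m ∈ Z := by
    rw [← hcent, hZ, Subgroup.mem_centralizer_iff]
    intro y hy
    obtain ⟨k, rfl⟩ := Subgroup.mem_zpowers_iff.1 hy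
    exact ((Commute.zpow_left (show Commute (z : G) m from hmz) k)).eq
  -- so zpowers m = Z
  have hmzp : Subgroup.zpowers m = Z := by
    have hle : Subgroup.zpowers m ≤ Z := (Subgroup.zpowers_le).2 hmZ
    apply Subgroup.eq_of_le_of_card_ge hle
    have hdvd : Nat.card (Subgroup.zpowers m) ∣ 11 := hZcard ▸ Subgroup.card_dvd_of_le hle
    have hne : Nat.card (Subgroup.zpowers m) ≠ 1 := by
      rw [Nat.card_zpowers]
      intro h
      exact hm (orderOf_eq_one_iff.1 h)
    rcases (Nat.dvd_prime (by norm_num : Nat.Prime 11)).1 hdvd with h | h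
    · exact absurd h hne
    · rw [hZcard, h]
  have : Subgroup.centralizer ({m} : Set G) = Z := by
    rw [← hcent, ← hmzp, Subgroup.zpowers_eq_closure, Subgroup.centralizer_closure]
  rw [this, hZcard]

/-! ### Transport of centralizer orders along a commutation-preserving injection -/

theorem card_centralizer_le {A B : Type*} [Group A] [Group B] [Finite B]
    (f : {a : A // a ≠ 1} → {b : B // b ≠ 1}) (hinj : Function.Injective f)
    (hf : ∀ x y : {a : A // a ≠ 1}, (x : A) * y = y * x → ((f x) : B) * (f y) = (f y) * (f x))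
    (x : {a : A // a ≠ 1}) :
    Nat.card (Subgroup.centralizer ({(x : A)} : Set A)) ≤
      Nat.card (Subgroup.centralizer ({((f x) : B)} : Set B)) := by
  classical
  let φ : ↥(Subgroup.centralizer ({(x : A)} : Set A)) →
      ↥(Subgroup.centralizer ({((f x) : B)} : Set B)) := fun y =>
    if h : (y : A) = 1 then 1 else
      ⟨(f ⟨(y : A), h⟩ : B), Subgroup.mem_centralizer_singleton_iff.2
        (hf x ⟨(y : A), h⟩ (Subgroup.mem_centralizer_singleton_iff.1 y.2).symm).symm⟩
  apply Nat.card_le_card_of_injective φ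
  intro y y' hyy
  by_cases h : (y : A) = 1
  · by_cases h' : (y' : A) = 1
    · exact Subtype.ext (h.trans h'.symm)
    · exfalso
      simp only [φ, h, h', dite_true, dite_false] at hyy
      have := congrArg Subtype.val hyy
      exact (f ⟨(y' : A), h'⟩).2 this.symm
  · by_cases h' : (y' : A) = 1
    · exfalso
      simp only [φ, h, h', dite_true, dite_false] at hyy
      have := congrArg Subtype.val hyy
      exact (f ⟨(y : A), h⟩).2 this
    · simp only [φ, h, h', dite_false] at hyy
      have h1 : (f ⟨(y : A), h⟩ : B) = (f ⟨(y' : A), h'⟩ : B) :=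
        congrArg (fun w : ↥(Subgroup.centralizer ({((f x) : B)} : Set B)) => (w : B)) hyy
      have h2 := hinj (Subtype.ext h1)
      exact Subtype.ext (congrArg (fun w : {a : A // a ≠ 1} => (w : A)) h2)

theorem card_centralizer_eq {A B : Type*} [Group A] [Group B] [Finite A] [Finite B]
    (f : {a : A // a ≠ 1} ≃ {b : B // b ≠ 1})
    (hf : ∀ x y : {a : A // a ≠ 1}, (x : A) * y = y * x ↔ ((f x) : B) * (f y) = (f y) * (f x))
    (x : {a : A // a ≠ 1}) :
    Nat.card (Subgroup.centralizer ({(x : A)} : Set A)) =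
      Nat.card (Subgroup.centralizer ({((f x) : B)} : Set B)) := by
  apply le_antisymm
  · exact card_centralizer_le f f.injective (fun a b h => (hf a b).1 h) x
  · have := card_centralizer_le f.symm f.symm.injective
      (fun a b h => by
        have := (hf (f.symm a) (f.symm b)).2
        simp only [Equiv.apply_symm_apply] at this
        exact this h) (f x)
    simpa using this

theorem card_eq_of_equiv {A B : Type*} [Group A] [Group B] [Finite A] [Finite B]
    (f : {a : A // a ≠ 1} ≃ {b : B // b ≠ 1}) : Nat.card A = Nat.card B := by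
  classical
  have hA : Nat.card A = Nat.card {a : A // a ≠ 1} + 1 := by
    rw [← Finite.card_option]; exact (Nat.card_congr (Equiv.optionSubtypeNe (1 : A))).symm
  have hB : Nat.card B = Nat.card {b : B // b ≠ 1} + 1 := by
    rw [← Finite.card_option]; exact (Nat.card_congr (Equiv.optionSubtypeNe (1 : B))).symm
  rw [hA, hB, Nat.card_congr f]

/-! ### The theorem -/

theorem main {H : Type*} [Group H] [Finite H]
    (f : {h : H // h ≠ 1} ≃ {g : ↥Cfsg.Spor.M11 // g ≠ 1})
    (hf : ∀ x y : {h : H // h ≠ 1}, (x : H) * y = y * x ↔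
      ((f x) : ↥Cfsg.Spor.M11) * (f y) = (f y) * (f x))
    (h420 : Cfsg.IsM11 H → Nonempty (H ≃*
      ↥(MulAction.stabilizer Cfsg.M24 Spor.squareDodecad ⊓
        MulAction.stabilizer Cfsg.M24 (some 0 : GolayPt)))) :
    Nonempty (H ≃* ↥Cfsg.Spor.M11) := by
  classical
  haveI : Finite ↥Cfsg.Spor.M11 := Nat.finite_of_card_ne_zero (by rw [card_M11']; norm_num)
  haveI := simple_M11
  have hcardH : Nat.card H = 7920 := by rw [card_eq_of_equiv f, card_M11']
  have hsimple : IsSimpleGroup H := by
    apply Cfsg.Agent.S2490.result hcardH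
    refine ⟨{11}, ⟨11, rfl, by norm_num, by rw [hcardH]; norm_num⟩,
      ⟨2, by simp, by norm_num, by rw [hcardH]; norm_num⟩, ?_⟩
    rintro a ha b hb - hbp - - ⟨g, hg⟩
    have ha' : a = 11 := ha
    subst ha'
    have hb0 : b ≠ 0 := hbp.ne_zero
    have hx : orderOf (g ^ b) = 11 := by
      rw [orderOf_pow' g hb0, hg, Nat.gcd_mul_left_left, Nat.mul_div_cancel _ hbp.pos]
    have hx1 : g ^ b ≠ 1 := by
      intro h
      rw [h, orderOf_one] at hx
      norm_num at hx
    have hgx : g ∈ Subgroup.centralizer ({g ^ b} : Set H) :=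
      Subgroup.mem_centralizer_singleton_iff.2 ((Commute.pow_right (Commute.refl g) b)).eq
    have hdvd : 11 * b ∣ Nat.card (Subgroup.centralizer ({g ^ b} : Set H)) :=
      hg ▸ Subgroup.orderOf_dvd_natCard _ hgx
    have heq := card_centralizer_eq f hf ⟨g ^ b, hx1⟩
    rw [heq] at hdvd
    have h11 := card_centralizer_eq_eleven card_M11' (f ⟨g ^ b, hx1⟩ : ↥Cfsg.Spor.M11)
      (f ⟨g ^ b, hx1⟩).2 (Dvd.dvd.trans (Dvd.intro _ rfl) hdvd)
    rw [h11] at hdvd
    have : b ∣ 1 := by
      have h := Nat.dvd_of_mul_dvd_mul_left (by norm_num : 0 < 11) (by simpa using hdvd : 11 * b ∣ 11 * 1)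
      exact h
    exact hbp.one_lt.ne' (Nat.dvd_one.1 this)
  obtain ⟨e⟩ := h420 ⟨hsimple, hcardH⟩
  exact ⟨e.trans eqv.symm⟩

end Cfsg.Agent.Lib.Helper89_CommM11
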