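import Mathlib
import Cfsg.Prelude.Def_FischerSpaces
import Cfsg.Agent.Lib.Helper1_Cores
import Cfsg.Agent.Lib.Helper89_InvolSylow
import Cfsg.Agent.Lib.Helper89_Theta
import Cfsg.Agent.Lib.Helper89_WidthOne

/-!
# Sets of pairwise braided involutions

A finite set `B` of involutions closed under conjugation by its members, with `(a b)^3 = 1` for
all its members, has `3^i` members and generates a subgroup whose order divides `2 * 3^m`.  Also a
general bound for the order of a generated subgroup by a transversal argument.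
-/

set_option autoImplicit false
open Cfsg

namespace Cfsg.Agent.Lib.Helper89_HTS

open Cfsg.Agent.Lib.Helper89_InvolSylow Cfsg.Agent.Lib.Helper89_Theta
  Cfsg.Agent.Lib.Helper89_WidthOne

variable {G : Type*} [Group G]

/-- If `T H` contains `1` and is closed under left multiplication by the involutions in `S`, it
contains the subgroup generated by `S`. -/
theorem mem_mul_of_mem_closure {S : Set G} (hS : ∀ s ∈ S, s * s = 1) (H : Subgroup G) (T : Set G)
    (h1 : (1 : G) ∈ T)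
    (hstep : ∀ s ∈ S, ∀ t ∈ T, ∃ t' ∈ T, ∃ h ∈ H, s * t = t' * h) :
    ∀ g ∈ Subgroup.closure S, ∃ t ∈ T, ∃ h ∈ H, g = t * h := by
  intro g hg
  induction hg using Subgroup.closure_induction_left with
  | one => exact ⟨1, h1, 1, one_mem _, by simp⟩
  | mul_left s hs y _ ih =>
    obtain ⟨t, ht, h, hh, rfl⟩ := ih
    obtain ⟨t', ht', h', hh', e⟩ := hstep s hs t ht
    refine ⟨t', ht', h' * h, mul_mem hh' hh, ?_⟩
    calc s * (t * h) = (s * t) * h := by group
      _ = t' * h' * h := by rw [e]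
      _ = t' * (h' * h) := by group
  | inv_mul_cancel s hs y _ ih =>
    have hsi : s⁻¹ = s := inv_eq_of_mul_eq_one_right (hS s hs)
    obtain ⟨t, ht, h, hh, rfl⟩ := ih
    obtain ⟨t', ht', h', hh', e⟩ := hstep s hs t ht
    refine ⟨t', ht', h' * h, mul_mem hh' hh, ?_⟩
    rw [hsi]
    calc s * (t * h) = (s * t) * h := by group
      _ = t' * h' * h := by rw [e]
      _ = t' * (h' * h) := by group

/-- The resulting bound for the order of the generated subgroup. -/
theorem card_closure_le [Finite G] {S : Set G} (hS : ∀ s ∈ S, s * s = 1) (H : Subgroup G)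
    (T : Set G) (h1 : (1 : G) ∈ T)
    (hstep : ∀ s ∈ S, ∀ t ∈ T, ∃ t' ∈ T, ∃ h ∈ H, s * t = t' * h) :
    Nat.card (Subgroup.closure S) ≤ T.ncard * Nat.card H := by
  have hsub : ((Subgroup.closure S : Subgroup G) : Set G) ⊆
      (fun p : G × G => p.1 * p.2) '' (T ×ˢ (H : Set G)) := by
    intro g hg
    obtain ⟨t, ht, h, hh, rfl⟩ := mem_mul_of_mem_closure hS H T h1 hstep g hg
    exact ⟨(t, h), ⟨ht, hh⟩, rfl⟩
  calc Nat.card (Subgroup.closure S) = ((Subgroup.closure S : Subgroup G) : Set G).ncard := by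
        rw [← Nat.card_coe_set_eq]; rfl
    _ ≤ ((fun p : G × G => p.1 * p.2) '' (T ×ˢ (H : Set G))).ncard :=
        Set.ncard_le_ncard hsub (Set.toFinite _)
    _ ≤ (T ×ˢ (H : Set G)).ncard := Set.ncard_image_le (Set.toFinite _)
    _ = T.ncard * (H : Set G).ncard := Set.ncard_prod
    _ = T.ncard * Nat.card H := by
        rw [← Nat.card_coe_set_eq]; rfl

/-- The size of an orbit of a subgroup under conjugation divides the order of the subgroup. -/
theorem ncard_conj_orbit_dvd [Finite G] (P : Subgroup G) (y : G) :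
    {z | ∃ n ∈ P, n * y * n⁻¹ = z}.ncard ∣ Nat.card P := by
  let _ : MulAction P G := MulAction.compHom G ((MulAut.conj : G →* MulAut G).comp P.subtype)
  have h1 : MulAction.orbit P y = {z | ∃ n ∈ P, n * y * n⁻¹ = z} := by
    ext z
    constructor
    · rintro ⟨n, rfl⟩
      exact ⟨n, n.2, rfl⟩
    · rintro ⟨n, hn, rfl⟩
      exact ⟨⟨n, hn⟩, rfl⟩
  rw [← h1, ← MulAction.index_stabilizer]
  exact Subgroup.index_dvd_card _

section hts

variable [Finite G] {B : Set G}

omit [Finite G] in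
/-- A set of involutions closed under conjugation by its members is closed under conjugation by
the subgroup it generates. -/
theorem conj_mem_of_mem_closure (hord : ∀ b ∈ B, orderOf b = 2)
    (hconj : ∀ a ∈ B, ∀ b ∈ B, a * b * a⁻¹ ∈ B) :
    ∀ g ∈ Subgroup.closure B, ∀ b ∈ B, g * b * g⁻¹ ∈ B := by
  have key : ∀ g ∈ Subgroup.closure B,
      (∀ b ∈ B, g * b * g⁻¹ ∈ B) ∧ (∀ b ∈ B, g⁻¹ * b * g ∈ B) := by
    intro g hg
    induction hg using Subgroup.closure_induction with
    | mem a ha =>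
      have hai := inv_of_orderOf_two (hord a ha)
      refine ⟨hconj a ha, ?_⟩
      intro b hb
      have := hconj a ha b hb
      rw [hai] at this ⊢
      exact this
    | one => simp
    | mul x y _ _ ihx ihy =>
      refine ⟨fun b hb => ?_, fun b hb => ?_⟩
      · have : x * y * b * (x * y)⁻¹ = x * (y * b * y⁻¹) * x⁻¹ := by group
        rw [this]; exact ihx.1 _ (ihy.1 b hb)
      · have : (x * y)⁻¹ * b * (x * y) = y⁻¹ * (x⁻¹ * b * x) * y := by group
        rw [this]; exact ihy.2 _ (ihx.2 b hb)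
    | inv x _ ih =>
      refine ⟨fun b hb => ?_, fun b hb => ?_⟩
      · rw [inv_inv]; exact ih.2 b hb
      · rw [inv_inv]; exact ih.1 b hb
  exact fun g hg => (key g hg).1

/-- The products of two members lie in a `3`-subgroup of the generated subgroup. -/
theorem exists_three_subgroup (hord : ∀ b ∈ B, orderOf b = 2)
    (hconj : ∀ a ∈ B, ∀ b ∈ B, a * b * a⁻¹ ∈ B) (hcube : ∀ a ∈ B, ∀ b ∈ B, (a * b) ^ 3 = 1) :
    ∃ P : Subgroup G, IsPGroup 3 P ∧ P ≤ Subgroup.closure B ∧ ∀ a ∈ B, ∀ b ∈ B, a * b ∈ P := by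
  have : Fact (Nat.Prime 3) := ⟨Nat.prime_three⟩
  have hcl := conj_mem_of_mem_closure hord hconj
  have hord' : ∀ d ∈ (((↑) : Subgroup.closure B → G) ⁻¹' B), orderOf d = 2 := by
    intro d hd
    rw [← Subgroup.orderOf_coe]
    exact hord _ hd
  have hconj' : ∀ g : Subgroup.closure B, ∀ d ∈ (((↑) : Subgroup.closure B → G) ⁻¹' B),
      g * d * g⁻¹ ∈ (((↑) : Subgroup.closure B → G) ⁻¹' B) := by
    intro g d hd
    change ((g * d * g⁻¹ : Subgroup.closure B) : G) ∈ B
    rw [Subgroup.coe_mul, Subgroup.coe_mul, Subgroup.coe_inv]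
    exact hcl g.1 g.2 d.1 hd
  have hcube' : ∀ a ∈ (((↑) : Subgroup.closure B → G) ⁻¹' B),
      ∀ b ∈ (((↑) : Subgroup.closure B → G) ⁻¹' B), (a * b) ^ 3 = 1 := by
    intro a ha b hb
    apply Subtype.ext
    rw [Subgroup.coe_pow, Subgroup.coe_mul]
    exact hcube _ ha _ hb
  have hmem := mul_mem_pCore_three hord' hconj' hcube'
  refine ⟨(Cfsg.pCore 3 (Subgroup.closure B)).map (Subgroup.closure B).subtype,
    (Cfsg.Agent.Lib.Helper1_Cores.pCore_isPGroup 3).map _, Subgroup.map_subtype_le _, ?_⟩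
  intro a ha b hb
  exact ⟨⟨a, Subgroup.subset_closure ha⟩ * ⟨b, Subgroup.subset_closure hb⟩,
    hmem ⟨a, Subgroup.subset_closure ha⟩ ha ⟨b, Subgroup.subset_closure hb⟩ hb, rfl⟩

/-- The number of members is a power of `3`. -/
theorem ncard_eq_three_pow (hord : ∀ b ∈ B, orderOf b = 2)
    (hconj : ∀ a ∈ B, ∀ b ∈ B, a * b * a⁻¹ ∈ B) (hcube : ∀ a ∈ B, ∀ b ∈ B, (a * b) ^ 3 = 1)
    (hne : B.Nonempty) : ∃ i : ℕ, B.ncard = 3 ^ i := by
  obtain ⟨P, hP, hPle, hmul⟩ := exists_three_subgroup hord hconj hcube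
  obtain ⟨y₀, hy₀⟩ := hne
  have hcl := conj_mem_of_mem_closure hord hconj
  have hy₀2 := sq_of_orderOf_two (hord y₀ hy₀)
  have hy₀i := inv_of_orderOf_two (hord y₀ hy₀)
  have hB : B = {z | ∃ n ∈ P, n * y₀ * n⁻¹ = z} := by
    ext y
    constructor
    · intro hy
      have hy2 := sq_of_orderOf_two (hord y hy)
      have hyi := inv_of_orderOf_two (hord y hy)
      have hbr : y₀ * y * y₀ = y * y₀ * y := braid_of_cube hy₀2 hy2 (hcube y₀ hy₀ y hy)
      refine ⟨y₀ * y, hmul y₀ hy₀ y hy, ?_⟩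
      rw [mul_inv_rev, hyi, hy₀i]
      calc y₀ * y * y₀ * (y * y₀) = (y₀ * y * y₀) * y * y₀ := by group
        _ = (y * y₀ * y) * y * y₀ := by rw [hbr]
        _ = y * y₀ * (y * y) * y₀ := by group
        _ = y * (y₀ * y₀) := by rw [hy2]; group
        _ = y := by rw [hy₀2, mul_one]
    · rintro ⟨n, hn, rfl⟩
      exact hcl n (hPle hn) y₀ hy₀
  have hdvd := ncard_conj_orbit_dvd P y₀
  rw [← hB] at hdvd
  obtain ⟨n, hn⟩ := IsPGroup.iff_card.mp hP
  rw [hn] at hdvd
  obtain ⟨m, _, hm⟩ := (Nat.dvd_prime_pow Nat.prime_three).mp hdvd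
  exact ⟨m, hm⟩

/-- The order of the generated subgroup divides `2 * 3^m`. -/
theorem card_closure_dvd (hord : ∀ b ∈ B, orderOf b = 2)
    (hconj : ∀ a ∈ B, ∀ b ∈ B, a * b * a⁻¹ ∈ B) (hcube : ∀ a ∈ B, ∀ b ∈ B, (a * b) ^ 3 = 1)
    (hne : B.Nonempty) : ∃ m : ℕ, Nat.card (Subgroup.closure B) ∣ 2 * 3 ^ m := by
  obtain ⟨P, hP, hPle, hmul⟩ := exists_three_subgroup hord hconj hcube
  obtain ⟨y₀, hy₀⟩ := hne
  have hy₀2 := sq_of_orderOf_two (hord y₀ hy₀)
  obtain ⟨n, hn⟩ := IsPGroup.iff_card.mp hP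
  have hle : Nat.card (Subgroup.closure B) ≤ ({1, y₀} : Set G).ncard * Nat.card P := by
    apply card_closure_le (fun s hs => sq_of_orderOf_two (hord s hs)) P {1, y₀} (by simp)
    intro s hs t ht
    rcases ht with rfl | ht
    · refine ⟨y₀, by simp, y₀ * s, hmul y₀ hy₀ s hs, ?_⟩
      calc s * 1 = (y₀ * y₀) * s := by rw [hy₀2]; group
        _ = y₀ * (y₀ * s) := by group
    · rw [Set.mem_singleton_iff] at ht
      rw [ht]
      exact ⟨1, by simp, s * y₀, hmul s hs y₀ hy₀, by group⟩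
  have h2 : ({1, y₀} : Set G).ncard ≤ 2 := by
    have := Set.ncard_insert_le (1 : G) ({y₀} : Set G)
    rw [Set.ncard_singleton] at this
    exact this
  have hdvd : Nat.card P ∣ Nat.card (Subgroup.closure B) := Subgroup.card_dvd_of_le hPle
  obtain ⟨c, hc⟩ := hdvd
  rw [hn] at hc hle
  have hpos : 0 < 3 ^ n := by positivity
  have hc2 : c ≤ 2 := by
    have h3 : 3 ^ n * c ≤ 2 * 3 ^ n := by
      rw [← hc]
      exact le_trans hle (Nat.mul_le_mul_right _ h2)
    have : 3 ^ n * c ≤ 3 ^ n * 2 := by rw [mul_comm (3 ^ n) 2]; exact h3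
    exact Nat.le_of_mul_le_mul_left this hpos
  refine ⟨n, ?_⟩
  rw [hc]
  interval_cases c
  · exfalso
    have hp : 0 < Nat.card (Subgroup.closure B) := Nat.card_pos
    rw [hc, mul_zero] at hp
    exact lt_irrefl _ hp
  · simp
  · rw [mul_comm]

end hts

end Cfsg.Agent.Lib.Helper89_HTS
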