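import Mathlib
import Cfsg.Agent.Lib.Helper89_HTS

/-!
# Groups generated by four involutions with the Coxeter relations of type `A₄`

Order bounds by transversals, the orbit-stabilizer equation for conjugation under a subgroup,
and the recognition of the symmetric group of degree five from a core-free subgroup of index
five.
-/

set_option autoImplicit false

namespace Cfsg.Agent.Lib.Helper89_CoxeterA4

open Cfsg.Agent.Lib.Helper89_HTS

variable {G : Type*} [Group G]

section bounds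

variable {s₁ s₂ s₃ s₄ : G}

omit [Group G] in
theorem ncard_two_le (a b : G) : ({a, b} : Set G).ncard ≤ 2 := by
  have := Set.ncard_insert_le a ({b} : Set G)
  rw [Set.ncard_singleton] at this
  exact this

omit [Group G] in
theorem ncard_three_le (a b c : G) : ({a, b, c} : Set G).ncard ≤ 3 :=
  (Set.ncard_insert_le a _).trans (Nat.succ_le_succ (ncard_two_le b c))

omit [Group G] in
theorem ncard_four_le (a b c d : G) : ({a, b, c, d} : Set G).ncard ≤ 4 :=
  (Set.ncard_insert_le a _).trans (Nat.succ_le_succ (ncard_three_le b c d))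

omit [Group G] in
theorem ncard_five_le (a b c d e : G) : ({a, b, c, d, e} : Set G).ncard ≤ 5 :=
  (Set.ncard_insert_le a _).trans (Nat.succ_le_succ (ncard_four_le b c d e))

theorem card_closure_one_le [Finite G] (h1 : s₁ * s₁ = 1) :
    Nat.card (Subgroup.closure ({s₁} : Set G)) ≤ 2 := by
  have h := card_closure_le (S := {s₁}) (fun s hs => by rw [Set.mem_singleton_iff.mp hs]; exact h1)
    (⊥ : Subgroup G) {1, s₁} (by simp) ?_
  · rw [Subgroup.card_bot, mul_one] at h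
    exact h.trans (ncard_two_le _ _)
  · intro s hs t ht
    rw [Set.mem_singleton_iff.mp hs]
    rcases ht with rfl | ht
    · exact ⟨s₁, by simp, 1, one_mem _, by simp⟩
    · rw [Set.mem_singleton_iff.mp ht]
      exact ⟨1, by simp, 1, one_mem _, by rw [h1]; simp⟩

theorem card_closure_two_le [Finite G] (h1 : s₁ * s₁ = 1) (h2 : s₂ * s₂ = 1)
    (b12 : s₁ * s₂ * s₁ = s₂ * s₁ * s₂) :
    Nat.card (Subgroup.closure ({s₁, s₂} : Set G)) ≤ 6 := by
  have hS : ∀ s ∈ ({s₁, s₂} : Set G), s * s = 1 := by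
    intro s hs
    rcases hs with rfl | hs
    · exact h1
    · rw [Set.mem_singleton_iff.mp hs]; exact h2
  have m1 : s₁ ∈ Subgroup.closure ({s₁} : Set G) := Subgroup.subset_closure (by simp)
  have h := card_closure_le hS (Subgroup.closure ({s₁} : Set G)) {1, s₂, s₁ * s₂} (by simp) ?_
  · calc Nat.card (Subgroup.closure ({s₁, s₂} : Set G))
        ≤ ({1, s₂, s₁ * s₂} : Set G).ncard * Nat.card (Subgroup.closure ({s₁} : Set G)) := h
      _ ≤ 3 * 2 := Nat.mul_le_mul (ncard_three_le _ _ _) (card_closure_one_le h1)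
  · intro s hs t ht
    rcases hs with hs | hs
    · rw [hs]
      rcases ht with ht | ht | ht
      · rw [ht]; exact ⟨1, by simp, s₁, m1, by simp⟩
      · rw [ht]; exact ⟨s₁ * s₂, by simp, 1, one_mem _, by simp⟩
      · rw [Set.mem_singleton_iff.mp ht]
        refine ⟨s₂, by simp, 1, one_mem _, ?_⟩
        calc s₁ * (s₁ * s₂) = (s₁ * s₁) * s₂ := by group
          _ = s₂ * 1 := by rw [h1]; group
    · rw [Set.mem_singleton_iff.mp hs]
      rcases ht with ht | ht | ht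
      · rw [ht]; exact ⟨s₂, by simp, 1, one_mem _, by simp⟩
      · rw [ht]; exact ⟨1, by simp, 1, one_mem _, by rw [h2]; simp⟩
      · rw [Set.mem_singleton_iff.mp ht]
        refine ⟨s₁ * s₂, by simp, s₁, m1, ?_⟩
        calc s₂ * (s₁ * s₂) = s₂ * s₁ * s₂ := by group
          _ = s₁ * s₂ * s₁ := b12.symm

theorem card_closure_three_le [Finite G] (h1 : s₁ * s₁ = 1) (h2 : s₂ * s₂ = 1)
    (h3 : s₃ * s₃ = 1) (b12 : s₁ * s₂ * s₁ = s₂ * s₁ * s₂) (b23 : s₂ * s₃ * s₂ = s₃ * s₂ * s₃)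
    (c13 : s₁ * s₃ = s₃ * s₁) :
    Nat.card (Subgroup.closure ({s₁, s₂, s₃} : Set G)) ≤ 24 := by
  have hS : ∀ s ∈ ({s₁, s₂, s₃} : Set G), s * s = 1 := by
    intro s hs
    rcases hs with rfl | rfl | hs
    · exact h1
    · exact h2
    · rw [Set.mem_singleton_iff.mp hs]; exact h3
  have m1 : s₁ ∈ Subgroup.closure ({s₁, s₂} : Set G) := Subgroup.subset_closure (by simp)
  have m2 : s₂ ∈ Subgroup.closure ({s₁, s₂} : Set G) := Subgroup.subset_closure (by simp)
  have h := card_closure_le hS (Subgroup.closure ({s₁, s₂} : Set G))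
    {1, s₃, s₂ * s₃, s₁ * s₂ * s₃} (by simp) ?_
  · calc Nat.card (Subgroup.closure ({s₁, s₂, s₃} : Set G))
        ≤ ({1, s₃, s₂ * s₃, s₁ * s₂ * s₃} : Set G).ncard
            * Nat.card (Subgroup.closure ({s₁, s₂} : Set G)) := h
      _ ≤ 4 * 6 := Nat.mul_le_mul (ncard_four_le _ _ _ _) (card_closure_two_le h1 h2 b12)
  · intro s hs t ht
    rcases hs with hs | hs | hs
    · rw [hs]
      rcases ht with ht | ht | ht | ht
      · rw [ht]; exact ⟨1, by simp, s₁, m1, by simp⟩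
      · rw [ht]; exact ⟨s₃, by simp, s₁, m1, c13⟩
      · rw [ht]; exact ⟨s₁ * s₂ * s₃, by simp, 1, one_mem _, by group⟩
      · rw [Set.mem_singleton_iff.mp ht]
        refine ⟨s₂ * s₃, by simp, 1, one_mem _, ?_⟩
        calc s₁ * (s₁ * s₂ * s₃) = (s₁ * s₁) * s₂ * s₃ := by group
          _ = s₂ * s₃ * 1 := by rw [h1]; group
    · rw [hs]
      rcases ht with ht | ht | ht | ht
      · rw [ht]; exact ⟨1, by simp, s₂, m2, by simp⟩
      · rw [ht]; exact ⟨s₂ * s₃, by simp, 1, one_mem _, by simp⟩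
      · rw [ht]
        refine ⟨s₃, by simp, 1, one_mem _, ?_⟩
        calc s₂ * (s₂ * s₃) = (s₂ * s₂) * s₃ := by group
          _ = s₃ * 1 := by rw [h2]; group
      · rw [Set.mem_singleton_iff.mp ht]
        refine ⟨s₁ * s₂ * s₃, by simp, s₁, m1, ?_⟩
        calc s₂ * (s₁ * s₂ * s₃) = (s₂ * s₁ * s₂) * s₃ := by group
          _ = (s₁ * s₂ * s₁) * s₃ := by rw [b12]
          _ = s₁ * s₂ * (s₁ * s₃) := by group
          _ = s₁ * s₂ * (s₃ * s₁) := by rw [c13]
          _ = s₁ * s₂ * s₃ * s₁ := by group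
    · rw [Set.mem_singleton_iff.mp hs]
      rcases ht with ht | ht | ht | ht
      · rw [ht]; exact ⟨s₃, by simp, 1, one_mem _, by simp⟩
      · rw [ht]; exact ⟨1, by simp, 1, one_mem _, by rw [h3]; simp⟩
      · rw [ht]
        refine ⟨s₂ * s₃, by simp, s₂, m2, ?_⟩
        calc s₃ * (s₂ * s₃) = s₃ * s₂ * s₃ := by group
          _ = s₂ * s₃ * s₂ := b23.symm
      · rw [Set.mem_singleton_iff.mp ht]
        refine ⟨s₁ * s₂ * s₃, by simp, s₂, m2, ?_⟩
        calc s₃ * (s₁ * s₂ * s₃) = (s₃ * s₁) * s₂ * s₃ := by group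
          _ = (s₁ * s₃) * s₂ * s₃ := by rw [c13]
          _ = s₁ * (s₃ * s₂ * s₃) := by group
          _ = s₁ * (s₂ * s₃ * s₂) := by rw [b23]
          _ = s₁ * s₂ * s₃ * s₂ := by group

theorem card_closure_four_le [Finite G] (h1 : s₁ * s₁ = 1) (h2 : s₂ * s₂ = 1)
    (h3 : s₃ * s₃ = 1) (h4 : s₄ * s₄ = 1) (b12 : s₁ * s₂ * s₁ = s₂ * s₁ * s₂)
    (b23 : s₂ * s₃ * s₂ = s₃ * s₂ * s₃) (b34 : s₃ * s₄ * s₃ = s₄ * s₃ * s₄)
    (c13 : s₁ * s₃ = s₃ * s₁) (c14 : s₁ * s₄ = s₄ * s₁) (c24 : s₂ * s₄ = s₄ * s₂) :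
    Nat.card (Subgroup.closure ({s₁, s₂, s₃, s₄} : Set G))
      ≤ 5 * Nat.card (Subgroup.closure ({s₁, s₂, s₃} : Set G)) := by
  have hS : ∀ s ∈ ({s₁, s₂, s₃, s₄} : Set G), s * s = 1 := by
    intro s hs
    rcases hs with rfl | rfl | rfl | hs
    · exact h1
    · exact h2
    · exact h3
    · rw [Set.mem_singleton_iff.mp hs]; exact h4
  have m1 : s₁ ∈ Subgroup.closure ({s₁, s₂, s₃} : Set G) := Subgroup.subset_closure (by simp)
  have m2 : s₂ ∈ Subgroup.closure ({s₁, s₂, s₃} : Set G) := Subgroup.subset_closure (by simp)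
  have m3 : s₃ ∈ Subgroup.closure ({s₁, s₂, s₃} : Set G) := Subgroup.subset_closure (by simp)
  have h := card_closure_le hS (Subgroup.closure ({s₁, s₂, s₃} : Set G))
    {1, s₄, s₃ * s₄, s₂ * s₃ * s₄, s₁ * s₂ * s₃ * s₄} (by simp) ?_
  · exact h.trans (Nat.mul_le_mul_right _ (ncard_five_le _ _ _ _ _))
  · intro s hs t ht
    rcases hs with hs | hs | hs | hs
    · rw [hs]
      rcases ht with ht | ht | ht | ht | ht
      · rw [ht]; exact ⟨1, by simp, s₁, m1, by simp⟩
      · rw [ht]; exact ⟨s₄, by simp, s₁, m1, c14⟩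
      · rw [ht]
        refine ⟨s₃ * s₄, by simp, s₁, m1, ?_⟩
        calc s₁ * (s₃ * s₄) = (s₁ * s₃) * s₄ := by group
          _ = (s₃ * s₁) * s₄ := by rw [c13]
          _ = s₃ * (s₁ * s₄) := by group
          _ = s₃ * (s₄ * s₁) := by rw [c14]
          _ = s₃ * s₄ * s₁ := by group
      · rw [ht]; exact ⟨s₁ * s₂ * s₃ * s₄, by simp, 1, one_mem _, by group⟩
      · rw [Set.mem_singleton_iff.mp ht]
        refine ⟨s₂ * s₃ * s₄, by simp, 1, one_mem _, ?_⟩
        calc s₁ * (s₁ * s₂ * s₃ * s₄) = (s₁ * s₁) * s₂ * s₃ * s₄ := by group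
          _ = s₂ * s₃ * s₄ * 1 := by rw [h1]; group
    · rw [hs]
      rcases ht with ht | ht | ht | ht | ht
      · rw [ht]; exact ⟨1, by simp, s₂, m2, by simp⟩
      · rw [ht]; exact ⟨s₄, by simp, s₂, m2, c24⟩
      · rw [ht]; exact ⟨s₂ * s₃ * s₄, by simp, 1, one_mem _, by group⟩
      · rw [ht]
        refine ⟨s₃ * s₄, by simp, 1, one_mem _, ?_⟩
        calc s₂ * (s₂ * s₃ * s₄) = (s₂ * s₂) * s₃ * s₄ := by group
          _ = s₃ * s₄ * 1 := by rw [h2]; group
      · rw [Set.mem_singleton_iff.mp ht]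
        refine ⟨s₁ * s₂ * s₃ * s₄, by simp, s₁, m1, ?_⟩
        calc s₂ * (s₁ * s₂ * s₃ * s₄) = (s₂ * s₁ * s₂) * s₃ * s₄ := by group
          _ = (s₁ * s₂ * s₁) * s₃ * s₄ := by rw [b12]
          _ = s₁ * s₂ * (s₁ * s₃) * s₄ := by group
          _ = s₁ * s₂ * (s₃ * s₁) * s₄ := by rw [c13]
          _ = s₁ * s₂ * s₃ * (s₁ * s₄) := by group
          _ = s₁ * s₂ * s₃ * (s₄ * s₁) := by rw [c14]
          _ = s₁ * s₂ * s₃ * s₄ * s₁ := by group
    · rw [hs]
      rcases ht with ht | ht | ht | ht | ht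
      · rw [ht]; exact ⟨1, by simp, s₃, m3, by simp⟩
      · rw [ht]; exact ⟨s₃ * s₄, by simp, 1, one_mem _, by simp⟩
      · rw [ht]
        refine ⟨s₄, by simp, 1, one_mem _, ?_⟩
        calc s₃ * (s₃ * s₄) = (s₃ * s₃) * s₄ := by group
          _ = s₄ * 1 := by rw [h3]; group
      · rw [ht]
        refine ⟨s₂ * s₃ * s₄, by simp, s₂, m2, ?_⟩
        calc s₃ * (s₂ * s₃ * s₄) = (s₃ * s₂ * s₃) * s₄ := by group
          _ = (s₂ * s₃ * s₂) * s₄ := by rw [b23]
          _ = s₂ * s₃ * (s₂ * s₄) := by group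
          _ = s₂ * s₃ * (s₄ * s₂) := by rw [c24]
          _ = s₂ * s₃ * s₄ * s₂ := by group
      · rw [Set.mem_singleton_iff.mp ht]
        refine ⟨s₁ * s₂ * s₃ * s₄, by simp, s₂, m2, ?_⟩
        calc s₃ * (s₁ * s₂ * s₃ * s₄) = (s₃ * s₁) * s₂ * s₃ * s₄ := by group
          _ = (s₁ * s₃) * s₂ * s₃ * s₄ := by rw [c13]
          _ = s₁ * (s₃ * s₂ * s₃) * s₄ := by group
          _ = s₁ * (s₂ * s₃ * s₂) * s₄ := by rw [b23]
          _ = s₁ * s₂ * s₃ * (s₂ * s₄) := by group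
          _ = s₁ * s₂ * s₃ * (s₄ * s₂) := by rw [c24]
          _ = s₁ * s₂ * s₃ * s₄ * s₂ := by group
    · rw [Set.mem_singleton_iff.mp hs]
      rcases ht with ht | ht | ht | ht | ht
      · rw [ht]; exact ⟨s₄, by simp, 1, one_mem _, by simp⟩
      · rw [ht]; exact ⟨1, by simp, 1, one_mem _, by rw [h4]; simp⟩
      · rw [ht]
        refine ⟨s₃ * s₄, by simp, s₃, m3, ?_⟩
        calc s₄ * (s₃ * s₄) = s₄ * s₃ * s₄ := by group
          _ = s₃ * s₄ * s₃ := b34.symm
      · rw [ht]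
        refine ⟨s₂ * s₃ * s₄, by simp, s₃, m3, ?_⟩
        calc s₄ * (s₂ * s₃ * s₄) = (s₄ * s₂) * s₃ * s₄ := by group
          _ = (s₂ * s₄) * s₃ * s₄ := by rw [c24]
          _ = s₂ * (s₄ * s₃ * s₄) := by group
          _ = s₂ * (s₃ * s₄ * s₃) := by rw [b34]
          _ = s₂ * s₃ * s₄ * s₃ := by group
      · rw [Set.mem_singleton_iff.mp ht]
        refine ⟨s₁ * s₂ * s₃ * s₄, by simp, s₃, m3, ?_⟩
        calc s₄ * (s₁ * s₂ * s₃ * s₄) = (s₄ * s₁) * s₂ * s₃ * s₄ := by group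
          _ = (s₁ * s₄) * s₂ * s₃ * s₄ := by rw [c14]
          _ = s₁ * (s₄ * s₂) * s₃ * s₄ := by group
          _ = s₁ * (s₂ * s₄) * s₃ * s₄ := by rw [c24]
          _ = s₁ * s₂ * (s₄ * s₃ * s₄) := by group
          _ = s₁ * s₂ * (s₃ * s₄ * s₃) := by rw [b34]
          _ = s₁ * s₂ * s₃ * s₄ * s₃ := by group

end bounds

section orbits

/-- Orbit-stabilizer for the conjugation action of a subgroup. -/
theorem card_eq_orbit_mul_stab (P : Subgroup G) (y : G) :
    Nat.card P = {z | ∃ n ∈ P, n * y * n⁻¹ = z}.ncard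
      * Nat.card (P ⊓ Subgroup.centralizer {y} : Subgroup G) := by
  let _ : MulAction P G := MulAction.compHom G ((MulAut.conj : G →* MulAut G).comp P.subtype)
  have h1 : MulAction.orbit P y = {z | ∃ n ∈ P, n * y * n⁻¹ = z} := by
    ext z
    constructor
    · rintro ⟨n, rfl⟩
      exact ⟨n, n.2, rfl⟩
    · rintro ⟨n, hn, rfl⟩
      exact ⟨⟨n, hn⟩, rfl⟩
  have h2 : (MulAction.stabilizer P y).map P.subtype = P ⊓ Subgroup.centralizer {y} := by
    ext g
    constructor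
    · rintro ⟨n, hn, rfl⟩
      refine ⟨n.2, ?_⟩
      show (n : G) ∈ Subgroup.centralizer {y}
      rw [Subgroup.mem_centralizer_iff]
      intro z hz
      rw [Set.mem_singleton_iff] at hz
      rw [hz]
      have h3 : (n : G) * y * (n : G)⁻¹ = y := hn
      calc y * (n : G) = ((n : G) * y * (n : G)⁻¹) * (n : G) := by rw [h3]
        _ = (n : G) * y := by group
    · rintro ⟨hgP, hgc⟩
      refine ⟨⟨g, hgP⟩, ?_, rfl⟩
      have hgc' : g ∈ Subgroup.centralizer {y} := hgc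
      rw [Subgroup.mem_centralizer_iff] at hgc'
      have h3 := hgc' y rfl
      show g * y * g⁻¹ = y
      rw [← h3]; group
  rw [← h1, ← h2, Subgroup.card_map_of_injective P.subtype_injective,
    ← MulAction.index_stabilizer, Subgroup.index_mul_card]

end orbits

/-- A group of order `120` with a core-free subgroup of index five is the symmetric group of
degree five. -/
theorem nonempty_mulEquiv_perm_five [Finite G] (H : Subgroup G) (hidx : H.index = 5)
    (hcard : Nat.card G = 120) (hcore : H.normalCore = ⊥) :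
    Nonempty (G ≃* Equiv.Perm (Fin 5)) := by
  have hinj : Function.Injective (MulAction.toPermHom G (G ⧸ H)) := by
    rw [← MonoidHom.ker_eq_bot_iff, ← Subgroup.normalCore_eq_ker, hcore]
  have hq : Nat.card (G ⧸ H) = 5 := by rw [← Subgroup.index_eq_card]; exact hidx
  have : Finite (G ⧸ H) := Nat.finite_of_card_ne_zero (by rw [hq]; norm_num)
  have hbij : Function.Bijective (MulAction.toPermHom G (G ⧸ H)) := by
    rw [Nat.bijective_iff_injective_and_card]
    refine ⟨hinj, ?_⟩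
    rw [hcard, Nat.card_perm, hq]
    rfl
  have e1 : G ≃* Equiv.Perm (G ⧸ H) := MulEquiv.ofBijective _ hbij
  have e2 : (G ⧸ H) ≃ Fin 5 := Finite.equivFinOfCardEq hq
  exact ⟨e1.trans e2.permCongrHom⟩

end Cfsg.Agent.Lib.Helper89_CoxeterA4
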