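import Mathlib
import Cfsg.Agent.Lib.Helper33_DCDefs
import Cfsg.Agent.Lib.Helper84_TutteW_Main
import Cfsg.Agent.Lib.Helper84_DC_A
import Cfsg.Prelude.Def_Solvable

set_option autoImplicit false
set_option linter.unusedSectionVars false
set_option linter.unusedVariables false

/-!
DC market (helper33, row S2858), package **DC-A3**: `lam ≤ s - 2 → 2 lam ≤ s + 2` for a `DCSys`
(a wrapper of helper84's `Helper84_DC_A.lam_le_A'`).  Also the companion `lam = s - 1 → s ≤ 4`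
under the name `s_le_four'`.  (helper89)
-/

namespace Cfsg.Agent.Lib.Helper89_DC_A3

open scoped commutatorElement
open Cfsg.Agent.Lib.Helper84_TutteDefs Cfsg.Agent.Lib.Helper33_DCDefs

variable {G : Type*} [Group G] {H P Q0 : Subgroup G} {δ ρ g x0 : G} {s lam : ℕ}

/-- both halves of (A') for a `DCSys` -/
theorem lam_le_of_dcsys (hS : DCSys H P Q0 δ ρ x0 s) (hl : IsLam (δ * ρ) x0 lam)
    (hls : lam + 1 ≤ s) : (lam + 1 = s → s ≤ 4) ∧ (lam + 2 ≤ s → 2 * lam ≤ s + 2) := by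
  apply Cfsg.Agent.Lib.Helper84_DC_A.lam_le_A' hS.sys hl hls δ
  · rw [hS.XP]; exact hS.hyp.δP
  · rw [hS.XP]; exact hS.hyp.δ3
  · rw [hS.XP]; exact hS.hyp.CF

/-- **DC-A3** [L] -/
theorem two_lam_le (hS : DCSys H P Q0 δ ρ x0 s) (hl : IsLam (δ * ρ) x0 lam)
    (h : lam + 2 ≤ s) : 2 * lam ≤ s + 2 :=
  (lam_le_of_dcsys hS hl (by omega)).2 h

/-- the statement of DC-A2, same proof -/
theorem s_le_four' (hS : DCSys H P Q0 δ ρ x0 s) (hl : IsLam (δ * ρ) x0 lam)
    (h : lam + 1 = s) : s ≤ 4 :=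
  (lam_le_of_dcsys hS hl (by omega)).1 h

end Cfsg.Agent.Lib.Helper89_DC_A3
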