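import Mathlib
import Cfsg.Prelude.Def_Characters
import Cfsg.Prelude.Def_ParabolicCharacters
import Cfsg.Prelude.Def_LieTypes
import Cfsg.Prelude.Def_ChevB2
import Cfsg.Agent.Lib.Helper40_DefZeroDefs
import Cfsg.Agent.Lib.Helper40_ChevDZDefs
import Cfsg.Agent.S1043
import Cfsg.Agent.S1045

set_option autoImplicit false

/-!
Defect-zero market, wave 3 (helper40), package CHUPROD: `U = X_{p_i} U_{p_i}` in a Chevalley group,
from the landed statements S1045 (`U_{p_i} ⊔ X_{p_i} = U`, `X_{p_i}` normalises `U_{p_i}`) and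
S1043 (`B ≤ G`).  (helper89)
-/

namespace Cfsg.Agent.Lib.Helper89_DZ_CHUPROD

open Cfsg Cfsg.Lie Cfsg.Agent.Lib.Helper40_DefZeroDefs Cfsg.Agent.Lib.Helper40_ChevDZDefs

/-- In a join `N ⊔ A` with `A` normalising `N`, every element is a product `a * y`. -/
theorem exists_mul_of_mem_sup' {G : Type*} [Group G] (N A : Subgroup G)
    (hA : A ≤ Subgroup.normalizer (N : Set G)) {g : G} (hg : g ∈ N ⊔ A) :
    ∃ a ∈ A, ∃ y ∈ N, g = a * y := by
  rw [Subgroup.sup_eq_closure] at hg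
  induction hg using Subgroup.closure_induction with
  | mem x hx =>
    rcases hx with hx | hx
    · exact ⟨1, Subgroup.one_mem _, x, hx, by rw [one_mul]⟩
    · exact ⟨x, hx, 1, Subgroup.one_mem _, by rw [mul_one]⟩
  | one => exact ⟨1, Subgroup.one_mem _, 1, Subgroup.one_mem _, by rw [mul_one]⟩
  | mul x y _ _ ihx ihy =>
    obtain ⟨a1, ha1, y1, hy1, rfl⟩ := ihx
    obtain ⟨a2, ha2, y2, hy2, rfl⟩ := ihy
    have h1 : a2⁻¹ * y1 * a2⁻¹⁻¹ ∈ N :=
      (Subgroup.mem_normalizer_iff.mp (hA (A.inv_mem ha2)) y1).mp hy1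
    refine ⟨a1 * a2, A.mul_mem ha1 ha2, (a2⁻¹ * y1 * a2⁻¹⁻¹) * y2, N.mul_mem h1 hy2, ?_⟩
    group
  | inv x _ ihx =>
    obtain ⟨a1, ha1, y1, hy1, rfl⟩ := ihx
    have h1 : a1 * y1⁻¹ * a1⁻¹ ∈ N :=
      (Subgroup.mem_normalizer_iff.mp (hA ha1) y1⁻¹).mp (N.inv_mem hy1)
    refine ⟨a1⁻¹, A.inv_mem ha1, a1 * y1⁻¹ * a1⁻¹, h1, ?_⟩
    group

variable {F : Type*} [Field F] (D : ChevalleyDatum)
  (hD : D ∈ [chevG2, chevB2, chevD4, chevF4, chevE6, chevE7, chevE8])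
include hD

/-- **CHUPROD**. -/
theorem ch_U_prod (i : ℕ) (hi : i < D.rank) :
    ∀ u ∈ cU D F, ∃ x ∈ cX D F i, ∃ v ∈ cUa D F i, u = x * v := by
  intro u hu
  obtain ⟨hnorm, hsup⟩ := Cfsg.Agent.S1045.result (F := F) D hD i hi
  obtain ⟨hBG, -, -⟩ := Cfsg.Agent.S1043.result (F := F) D hD
  have hUG : D.posUnipotent F ≤ D.group F := le_trans le_sup_left hBG
  have hXN := le_trans le_sup_left hnorm
  have hu' : (u : GL D.Idx F) ∈ D.posUnipotent F := Subgroup.mem_subgroupOf.mp hu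
  rw [← hsup] at hu'
  obtain ⟨x, hx, v, hv, huxv⟩ := exists_mul_of_mem_sup' _ _ hXN hu'
  have hxU : x ∈ D.posUnipotent F := by
    rw [← hsup]
    exact Subgroup.mem_sup_right hx
  have hvU : v ∈ D.posUnipotent F := by
    rw [← hsup]
    exact Subgroup.mem_sup_left hv
  refine ⟨⟨x, hUG hxU⟩, Subgroup.mem_subgroupOf.mpr hx, ⟨v, hUG hvU⟩,
    Subgroup.mem_subgroupOf.mpr hv, ?_⟩
  apply Subtype.ext
  exact huxv

end Cfsg.Agent.Lib.Helper89_DZ_CHUPROD
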