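import Mathlib
import Cfsg.Prelude.Def_FusionSystem
import Cfsg.Agent.Lib.Helper87_F2L3Defs

/-!
# S5318 package F2L3-INVC (architect helper87): from an eigenbasis to conjugacy with `t3` in `SL₃(F)`.
-/

set_option autoImplicit false

open Matrix Cfsg.Agent.Lib.Helper87_F2L3

namespace Cfsg.Agent.Lib.Helper89_F2L3_INVC

variable {F : Type*} [Field F]

/-- **F2L3-INVC**. -/
theorem invol_conj
    (hB : ∀ u : Matrix (Fin 3) (Fin 3) F, u * u = 1 → u.det = 1 → u ≠ 1 →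
      ∃ g : Matrix (Fin 3) (Fin 3) F, g.det ≠ 0 ∧ u * g = g * !![-1, 0, 0; 0, -1, 0; 0, 0, 1])
    (u : SpecialLinearGroup (Fin 3) F) (hu : u * u = 1) (hne : u ≠ 1) :
    ∃ g : SpecialLinearGroup (Fin 3) F, g * t3 * g⁻¹ = u := by
  have h1 : (u : Matrix (Fin 3) (Fin 3) F) * (u : Matrix (Fin 3) (Fin 3) F) = 1 := by
    have := congrArg Subtype.val hu
    simpa using this
  have h2 : (u : Matrix (Fin 3) (Fin 3) F) ≠ 1 := by
    intro h
    apply hne
    apply Subtype.ext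
    simpa using h
  obtain ⟨g, hg, hug⟩ := hB u.1 h1 u.2 h2
  set E : Matrix (Fin 3) (Fin 3) F := !![1, 0, 0; 0, 1, 0; 0, 0, (g.det)⁻¹] with hE
  have hEdet : E.det = (g.det)⁻¹ := by
    rw [hE, Matrix.det_fin_three]
    simp
  have hg'det : (g * E).det = 1 := by
    rw [Matrix.det_mul, hEdet, mul_inv_cancel₀ hg]
  have hcomm : E * !![-1, 0, 0; 0, -1, 0; 0, 0, 1] = !![-1, 0, 0; 0, -1, 0; 0, 0, 1] * E := by
    ext i j
    fin_cases i <;> fin_cases j <;> simp [hE, Matrix.mul_apply, Fin.sum_univ_three]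
  let g' : SpecialLinearGroup (Fin 3) F := ⟨g * E, hg'det⟩
  refine ⟨g', ?_⟩
  have key : u * g' = g' * t3 := by
    apply Subtype.ext
    show (u : Matrix (Fin 3) (Fin 3) F) * (g * E) = (g * E) * !![-1, 0, 0; 0, -1, 0; 0, 0, 1]
    rw [← Matrix.mul_assoc, hug, Matrix.mul_assoc, ← hcomm, Matrix.mul_assoc]
  rw [← key, mul_assoc, mul_inv_cancel, mul_one]

end Cfsg.Agent.Lib.Helper89_F2L3_INVC
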