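import Mathlib
import Cfsg.Prelude.Def_FusionSystem
import Cfsg.Agent.Lib.Helper87_F2L3Defs

/-!
# S5318 package F2L3-WGEN (architect helper87): a subgroup of `Wr μ` containing all involutions and
satisfying the "Weyl" condition is all of `Wr μ`.
-/

set_option autoImplicit false

open Matrix Cfsg.Agent.Lib.Helper87_F2L3

namespace Cfsg.Agent.Lib.Helper89_F2L3_WGEN

variable {F : Type*} [Field F]

theorem wsw_mem_Wr (μ : Subgroup Fˣ) : (wsw : GL (Fin 2) F) ∈ Wr μ :=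
  ⟨1, μ.one_mem, 1, μ.one_mem, Or.inr (by rw [dg_one, one_mul])⟩

theorem dg_mem_Wr (μ : Subgroup Fˣ) {a b : Fˣ} (ha : a ∈ μ) (hb : b ∈ μ) : dg a b ∈ Wr μ :=
  ⟨a, ha, b, hb, Or.inl rfl⟩

/-- **F2L3-WGEN**. -/
theorem gen_Wr (μ : Subgroup Fˣ) (T₂ : Subgroup (GL (Fin 2) F)) (hT : T₂ ≤ Wr μ)
    (hinv : ∀ u ∈ Wr μ, u * u = 1 → u ∈ T₂)
    (hW : ∀ a : Fˣ, dg a a⁻¹ ∈ T₂ → dg a 1 ∈ Wr μ → dg a 1 ∈ T₂) : T₂ = Wr μ := by
  apply le_antisymm hT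
  have hw : (wsw : GL (Fin 2) F) ∈ T₂ := hinv _ (wsw_mem_Wr μ) wsw_mul_wsw
  have h1 : ∀ a ∈ μ, dg a 1 ∈ T₂ := by
    intro a ha
    apply hW a _ (dg_mem_Wr μ ha μ.one_mem)
    have hu : dg a a⁻¹ * wsw ∈ T₂ := by
      apply hinv
      · exact ⟨a, ha, a⁻¹, μ.inv_mem ha, Or.inr rfl⟩
      · rw [mul_assoc, ← mul_assoc wsw, wsw_mul_dg, mul_assoc (dg a⁻¹ a), wsw_mul_wsw, mul_one,
          dg_mul, mul_inv_cancel, inv_mul_cancel, dg_one]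
    have := T₂.mul_mem hu hw
    rwa [mul_assoc, wsw_mul_wsw, mul_one] at this
  have h2 : ∀ a ∈ μ, dg 1 a ∈ T₂ := by
    intro a ha
    have := T₂.mul_mem (T₂.mul_mem hw (h1 a ha)) hw
    rwa [wsw_mul_dg, mul_assoc, wsw_mul_wsw, mul_one] at this
  have h3 : ∀ a ∈ μ, ∀ b ∈ μ, dg a b ∈ T₂ := by
    intro a ha b hb
    have := T₂.mul_mem (h1 a ha) (h2 b hb)
    rwa [dg_mul, mul_one, one_mul] at this
  rintro x ⟨a, ha, b, hb, rfl | rfl⟩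
  · exact h3 a ha b hb
  · exact T₂.mul_mem (h3 a ha b hb) hw

end Cfsg.Agent.Lib.Helper89_F2L3_WGEN
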