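import Mathlib
import Cfsg.Prelude.Def_FischerSpaces
import Cfsg.Prelude.Def_Local
import Cfsg.Agent.Lib.Helper89_InvolSylow
import Cfsg.Agent.Lib.Helper89_WidthOne
import Cfsg.Agent.Lib.Helper89_TTClass
import Cfsg.Agent.Lib.Helper1_Cores
import Cfsg.Agent.Lib.Helper21_Components
import Cfsg.Agent.Lib.Helper29_Local
import Cfsg.Agent.Lib.Helper49_FStarComm
import Cfsg.Agent.S0144

/-!
# Classes of 3-transpositions and quasisimple normal subgroups (helper89)

`D` is a conjugacy class of 3-transpositions generating the finite group `G`, and `L` is a normal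
quasisimple subgroup.
* `le_of_comm_mem`: a subgroup `T ≤ L` normalized by `L` which contains all `l⁻¹ d l d` (`l ∈ L`)
  equals `L`;
* `exists_sq_ne_one`, `exists_cube_ne_one`: both orders 2 and 3 occur among the `l⁻¹ d l d`;
* `isSolvable_of_sq_or_cube`: a finite group all of whose elements square or cube to one is
  solvable (Burnside);
* `component_map_conj_eq`, `component_normal`: components are normal;
* `component_unique`: there is at most one component.
-/

set_option autoImplicit false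
open Cfsg

namespace Cfsg.Agent.Lib.Helper89_TTQuasi

open Cfsg.Agent.Lib.Helper89_InvolSylow Cfsg.Agent.Lib.Helper89_TTClass

variable {G : Type*} [Group G]

/-- A quasisimple normal subgroup is not central. -/
theorem not_le_center_of_isQuasisimple {L : Subgroup G} (hLq : IsQuasisimple ↥L) :
    ¬ L ≤ Subgroup.center G := by
  intro h
  have : IsMulCommutative ↥L := by
    refine ⟨⟨fun a b => ?_⟩⟩
    apply Subtype.ext
    have := Subgroup.mem_center_iff.mp (h a.2) b.1
    exact this.symm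
  exact Cfsg.Agent.Lib.Helper29_Local.IsQuasisimple.not_isNilpotent hLq
    Cfsg.Agent.Lib.Helper29_Local.isNilpotent_of_isMulCommutative

/-- Key lemma: a subgroup `T ≤ L` normalized by `L` and containing all `l⁻¹ d l d` is `L`. -/
theorem le_of_comm_mem {D : Set G} (hD : IsThreeTranspositionClass D) {d : G} (hd : d ∈ D)
    (L : Subgroup G) [hLn : L.Normal] (hLq : IsQuasisimple ↥L) (T : Subgroup G) (hTL : T ≤ L)
    (hnorm : L ≤ Subgroup.normalizer (T : Set G)) (hc : ∀ l ∈ L, l⁻¹ * d * l * d ∈ T) :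
    L ≤ T := by
  have hTn : (T.subgroupOf L).Normal := (Subgroup.normal_subgroupOf_iff_le_normalizer hTL).mpr hnorm
  rcases Cfsg.Agent.Lib.Helper21_Components.IsQuasisimple.normal_eq_top_or_le_center hLq
    (T.subgroupOf L) with h | h
  · exact Subgroup.subgroupOf_eq_top.mp h
  · exfalso
    have hperf : ⁅L, L⁆ = L := Subgroup.isPerfect_iff.mp hLq.1
    have hTLc : ⁅T, L⁆ = ⊥ := by
      rw [Subgroup.commutator_eq_bot_iff_le_centralizer]
      intro t ht
      rw [Subgroup.mem_centralizer_iff]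
      intro l hl
      have ht' : (⟨t, hTL ht⟩ : ↥L) ∈ T.subgroupOf L := by
        rw [Subgroup.mem_subgroupOf]; exact ht
      have := Subgroup.mem_center_iff.mp (h ht') ⟨l, hl⟩
      exact congrArg Subtype.val this
    have hK : ⁅L, Subgroup.zpowers d⁆ ≤ T := commutator_zpowers_le (hD.1.1 d hd) L T hc
    have h1 : ⁅⁅L, Subgroup.zpowers d⁆, L⁆ = ⊥ := by
      rw [eq_bot_iff, ← hTLc]
      exact Subgroup.commutator_mono hK le_rfl
    have h2 : ⁅⁅Subgroup.zpowers d, L⁆, L⁆ = ⊥ := by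
      rw [Subgroup.commutator_comm (Subgroup.zpowers d)]; exact h1
    have h3 : ⁅⁅L, L⁆, Subgroup.zpowers d⁆ = ⊥ :=
      Subgroup.commutator_commutator_eq_bot_of_rotate h1 h2
    rw [hperf] at h3
    have h4 : L ≤ Subgroup.centralizer (Subgroup.zpowers d : Set G) :=
      Subgroup.commutator_eq_bot_iff_le_centralizer.mp h3
    have h5 : L ≤ Subgroup.center G := by
      apply le_center_of_commute hD _ hd
      intro x hx
      exact (Subgroup.mem_centralizer_iff.mp (h4 hx) d (Subgroup.mem_zpowers d)).symm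
    exact not_le_center_of_isQuasisimple hLq h5


/-- Some `l⁻¹ d l d` with `l ∈ L` does not square to one. -/
theorem exists_sq_ne_one {D : Set G} (hD : IsThreeTranspositionClass D) {d : G} (hd : d ∈ D)
    (L : Subgroup G) [hLn : L.Normal] (hLq : IsQuasisimple ↥L) :
    ∃ l ∈ L, (l⁻¹ * d * l * d) ^ 2 ≠ 1 := by
  by_contra hcon
  push Not at hcon
  have hd2 := hD.1.1 d hd
  have hdd := sq_of_orderOf_two hd2
  have hdinv := inv_of_orderOf_two hd2
  have hcomm_d : ∀ l ∈ L, (l⁻¹ * d * l) * d = d * (l⁻¹ * d * l) := by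
    intro l hl
    have h1 := hcon l hl
    rw [pow_two] at h1
    have he2 : (l⁻¹ * d * l) * (l⁻¹ * d * l) = 1 := by
      calc (l⁻¹ * d * l) * (l⁻¹ * d * l) = l⁻¹ * (d * d) * l := by group
        _ = 1 := by rw [hdd]; group
    have h2 : l⁻¹ * d * l * d = (l⁻¹ * d * l * d)⁻¹ := (inv_eq_of_mul_eq_one_right h1).symm
    rw [h2, mul_inv_rev, hdinv, inv_eq_of_mul_eq_one_right he2]
  have hS : ∀ a ∈ {e : G | ∃ l ∈ L, e = l⁻¹ * d * l},
      ∀ b ∈ {e : G | ∃ l ∈ L, e = l⁻¹ * d * l}, a * b = b * a := by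
    rintro _ ⟨l, hl, rfl⟩ _ ⟨m, hm, rfl⟩
    have hml : m * l⁻¹ ∈ L := mul_mem hm (inv_mem hl)
    have h1 := hcomm_d _ hml
    calc l⁻¹ * d * l * (m⁻¹ * d * m)
        = l⁻¹ * (d * ((m * l⁻¹)⁻¹ * d * (m * l⁻¹))) * l := by group
      _ = l⁻¹ * (((m * l⁻¹)⁻¹ * d * (m * l⁻¹)) * d) * l := by rw [h1]
      _ = m⁻¹ * d * m * (l⁻¹ * d * l) := by group
  have hAcomm : IsMulCommutative (Subgroup.closure {e : G | ∃ l ∈ L, e = l⁻¹ * d * l}) :=
    Subgroup.isMulCommutative_closure hS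
  have hAnorm : ∀ m ∈ L, ∀ t ∈ Subgroup.closure {e : G | ∃ l ∈ L, e = l⁻¹ * d * l},
      m * t * m⁻¹ ∈ Subgroup.closure {e : G | ∃ l ∈ L, e = l⁻¹ * d * l} := by
    intro m hm t ht
    induction ht using Subgroup.closure_induction with
    | mem t ht =>
      obtain ⟨l, hl, rfl⟩ := ht
      apply Subgroup.subset_closure
      refine ⟨l * m⁻¹, mul_mem hl (inv_mem hm), ?_⟩
      group
    | one => simp
    | mul a b _ _ iha ihb =>
      have : m * (a * b) * m⁻¹ = (m * a * m⁻¹) * (m * b * m⁻¹) := by group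
      rw [this]
      exact mul_mem iha ihb
    | inv a _ iha =>
      have : m * a⁻¹ * m⁻¹ = (m * a * m⁻¹)⁻¹ := by group
      rw [this]
      exact inv_mem iha
  have hLT : L ≤ Subgroup.closure {e : G | ∃ l ∈ L, e = l⁻¹ * d * l} ⊓ L := by
    apply le_of_comm_mem hD hd L hLq _ inf_le_right
    · intro m hm
      rw [Subgroup.mem_set_normalizer_iff]
      intro t
      constructor
      · rintro ⟨ht1, ht2⟩
        exact ⟨hAnorm m hm t ht1, hLn.conj_mem t ht2 m⟩
      · rintro ⟨ht1, ht2⟩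
        have h1 := hAnorm m⁻¹ (inv_mem hm) _ ht1
        have h2 := hLn.conj_mem _ ht2 m⁻¹
        have e : m⁻¹ * (m * t * m⁻¹) * m⁻¹⁻¹ = t := by group
        rw [e] at h1 h2
        exact ⟨h1, h2⟩
    · intro l hl
      refine ⟨?_, (comm_elt_mem hD L hd hl).1⟩
      apply mul_mem
      · exact Subgroup.subset_closure ⟨l, hl, rfl⟩
      · exact Subgroup.subset_closure ⟨1, one_mem _, by simp⟩
  have : IsMulCommutative ↥L := by
    refine ⟨⟨fun a b => ?_⟩⟩
    apply Subtype.ext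
    have h1 := hAcomm.is_comm.comm ⟨a.1, (hLT a.2).1⟩ ⟨b.1, (hLT b.2).1⟩
    have h2 := congrArg Subtype.val h1
    exact h2
  exact Cfsg.Agent.Lib.Helper29_Local.IsQuasisimple.not_isNilpotent hLq
    Cfsg.Agent.Lib.Helper29_Local.isNilpotent_of_isMulCommutative

/-- Some `l⁻¹ d l d` with `l ∈ L` does not cube to one. -/
theorem exists_cube_ne_one [Finite G] {D : Set G} (hD : IsThreeTranspositionClass D) {d : G}
    (hd : d ∈ D) (L : Subgroup G) [hLn : L.Normal] (hLq : IsQuasisimple ↥L) :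
    ∃ l ∈ L, (l⁻¹ * d * l * d) ^ 3 ≠ 1 := by
  by_contra hcon
  push Not at hcon
  have hd2 := hD.1.1 d hd
  have hdd := sq_of_orderOf_two hd2
  have hdinv := inv_of_orderOf_two hd2
  have : Fact (Nat.Prime 3) := ⟨Nat.prime_three⟩
  have hdM : d ∈ L ⊔ Subgroup.zpowers d :=
    (le_sup_right : Subgroup.zpowers d ≤ _) (Subgroup.mem_zpowers d)
  have hEM : L ≤ L ⊔ Subgroup.zpowers d := le_sup_left
  have hk : ∀ k ∈ L ⊔ Subgroup.zpowers d, (d * (k * d * k⁻¹)) ^ 3 = 1 := by
    intro k hk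
    have hk' : k ∈ ((L ⊔ Subgroup.zpowers d : Subgroup G) : Set G) := hk
    rw [Subgroup.normal_mul, Set.mem_mul] at hk'
    obtain ⟨l, hl, z, hz, rfl⟩ := hk'
    have hz' : l * z * d * (l * z)⁻¹ = l * d * l⁻¹ := by
      rcases mem_zpowers_of_orderOf_two hd2 hz with rfl | rfl
      · simp
      · calc l * z * z * (l * z)⁻¹ = l * (z * z) * z⁻¹ * l⁻¹ := by group
          _ = l * z * l⁻¹ := by rw [hdd, hdinv]; group
    rw [hz']
    have h1 := hcon l⁻¹ (inv_mem hl)
    rw [inv_inv] at h1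
    have h2 : d * (l * d * l⁻¹) = d * (l * d * l⁻¹ * d) * d⁻¹ := by group
    rw [h2, conj_pow, h1]
    group
  have hmn : ∀ m ∈ L ⊔ Subgroup.zpowers d, ∀ n ∈ L ⊔ Subgroup.zpowers d,
      ((m * d * m⁻¹) * (n * d * n⁻¹)) ^ 3 = 1 := by
    intro m hm n hn
    have h1 := hk (m⁻¹ * n) (mul_mem (inv_mem hm) hn)
    have h2 : (m * d * m⁻¹) * (n * d * n⁻¹) =
        m * (d * ((m⁻¹ * n) * d * (m⁻¹ * n)⁻¹)) * m⁻¹ := by group
    rw [h2, conj_pow, h1]
    group
  have hGW := Cfsg.Agent.Lib.Helper89_WidthOne.mul_mem_pCore_three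
    (G := ↥(L ⊔ Subgroup.zpowers d))
    (D := {y | ∃ m : ↥(L ⊔ Subgroup.zpowers d), y = m * ⟨d, hdM⟩ * m⁻¹})
    (by
      rintro _ ⟨m, rfl⟩
      have h1 : orderOf ((MulAut.conj m) (⟨d, hdM⟩ : ↥(L ⊔ Subgroup.zpowers d))) =
          orderOf (⟨d, hdM⟩ : ↥(L ⊔ Subgroup.zpowers d)) := MulEquiv.orderOf_eq _ _
      rw [MulAut.conj_apply] at h1
      rw [h1]
      exact (Subgroup.orderOf_mk d hdM).trans hd2)
    (by
      rintro g _ ⟨m, rfl⟩
      exact ⟨g * m, by group⟩)
    (by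
      rintro _ ⟨m, rfl⟩ _ ⟨n, rfl⟩
      apply Subtype.ext
      have := hmn m.1 m.2 n.1 n.2
      simpa using this)
  have hn3 : (Cfsg.pCore 3 ↥(L ⊔ Subgroup.zpowers d)).Normal :=
    Cfsg.Agent.Lib.Helper1_Cores.pCore_normal 3
  have hLT : L ≤ (Cfsg.pCore 3 ↥(L ⊔ Subgroup.zpowers d)).map
      (L ⊔ Subgroup.zpowers d).subtype ⊓ L := by
    apply le_of_comm_mem hD hd L hLq _ inf_le_right
    · have key : ∀ m ∈ L, ∀ t ∈ (Cfsg.pCore 3 ↥(L ⊔ Subgroup.zpowers d)).map
          (L ⊔ Subgroup.zpowers d).subtype,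
          m * t * m⁻¹ ∈ (Cfsg.pCore 3 ↥(L ⊔ Subgroup.zpowers d)).map
          (L ⊔ Subgroup.zpowers d).subtype := by
        rintro m hm _ ⟨t', ht', rfl⟩
        refine ⟨⟨m, hEM hm⟩ * t' * ⟨m, hEM hm⟩⁻¹, hn3.conj_mem t' ht' _, ?_⟩
        simp
      intro m hm
      rw [Subgroup.mem_set_normalizer_iff]
      intro t
      constructor
      · rintro ⟨ht1, ht2⟩
        exact ⟨key m hm t ht1, hLn.conj_mem t ht2 m⟩
      · rintro ⟨ht1, ht2⟩
        have h1 := key m⁻¹ (inv_mem hm) _ ht1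
        have h2 := hLn.conj_mem _ ht2 m⁻¹
        have e : m⁻¹ * (m * t * m⁻¹) * m⁻¹⁻¹ = t := by group
        rw [e] at h1 h2
        exact ⟨h1, h2⟩
    · intro l hl
      refine ⟨?_, (comm_elt_mem hD L hd hl).1⟩
      have h1 := hGW (⟨l, hEM hl⟩⁻¹ * ⟨d, hdM⟩ * (⟨l, hEM hl⟩⁻¹)⁻¹) ⟨_, rfl⟩
        (1 * ⟨d, hdM⟩ * 1⁻¹) ⟨_, rfl⟩
      refine ⟨_, h1, ?_⟩
      simp
  have h3 : IsPGroup 3 ↥L :=
    ((Cfsg.Agent.Lib.Helper1_Cores.pCore_isPGroup 3).map _).to_le (hLT.trans inf_le_left)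
  exact Cfsg.Agent.Lib.Helper29_Local.IsQuasisimple.not_isNilpotent hLq h3.isNilpotent


/-- A finite group all of whose elements square or cube to one is solvable (Burnside). -/
theorem isSolvable_of_sq_or_cube {Q : Type*} [Group Q] [Finite Q]
    (h : ∀ x : Q, x ^ 2 = 1 ∨ x ^ 3 = 1) : Group.IsSolvable Q := by
  have hprime : ∀ p : ℕ, p.Prime → p ∣ Nat.card Q → p = 2 ∨ p = 3 := by
    intro p hp hdvd
    have : Fact p.Prime := ⟨hp⟩
    obtain ⟨x, hx⟩ := exists_prime_orderOf_dvd_card' p hdvd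
    rcases h x with h2 | h3
    · left
      have := orderOf_dvd_of_pow_eq_one h2
      rw [hx] at this
      exact (Nat.prime_dvd_prime_iff_eq hp Nat.prime_two).mp this
    · right
      have := orderOf_dvd_of_pow_eq_one h3
      rw [hx] at this
      exact (Nat.prime_dvd_prime_iff_eq hp Nat.prime_three).mp this
  obtain ⟨k, m, hm, hcard⟩ := Nat.exists_eq_two_pow_mul_odd (Nat.card_pos.ne' : Nat.card Q ≠ 0)
  have hm3 : m = 3 ^ m.primeFactorsList.length := by
    apply Nat.eq_prime_pow_of_unique_prime_dvd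
    · rintro rfl
      simp at hm
    · intro p hp hdvd
      rcases hprime p hp (hcard ▸ Dvd.dvd.mul_left hdvd _) with h | h
      · exfalso
        subst h
        exact (Nat.not_even_iff_odd.mpr hm) (even_iff_two_dvd.mpr hdvd)
      · exact h
  exact Cfsg.Agent.S0144.result 2 3 k _ Nat.prime_two Nat.prime_three (by rw [hcard, ← hm3])

/-- Every member of `D` normalizes every component. -/
theorem component_map_conj_eq {G : Type*} [Group G] [Finite G] {D : Set G}
    (hD : IsThreeTranspositionClass D) {d : G} (hd : d ∈ D) {L : Subgroup G}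
    (hL : IsComponent L) : L.map (MulAut.conj d).toMonoidHom = L := by
  by_contra hne
  have hL' : IsComponent (L.map (MulAut.conj d).toMonoidHom) :=
    Cfsg.Agent.Lib.Helper29_Local.isComponent_map_mulEquiv (MulAut.conj d) hL
  have hd2 := hD.1.1 d hd
  have hdinv := inv_of_orderOf_two hd2
  have hQ : ∀ q : ↥L ⧸ Subgroup.center ↥L, q ^ 2 = 1 ∨ q ^ 3 = 1 := by
    intro q
    induction q using QuotientGroup.induction_on with
    | H l =>
      have hl' : d * (l : G) * d⁻¹ ∈ L.map (MulAut.conj d).toMonoidHom :=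
        ⟨l, l.2, by simp [MulAut.conj_apply]⟩
      have hcomm : Commute ((l : G)⁻¹) (d * l * d⁻¹) :=
        Cfsg.Agent.Lib.Helper21_Components.IsComponent.commute_of_ne hL hL' (Ne.symm hne)
          (inv_mem l.2) hl'
      have hc : (l : G)⁻¹ * d * l * d = (l : G)⁻¹ * (d * l * d⁻¹) := by rw [hdinv]; group
      have he : (l : G)⁻¹ * d * l ∈ D := by
        have := conj_mem hD (l : G)⁻¹ hd
        rwa [inv_inv] at this
      have h23 := hD.1.2 _ he d hd
      rw [hc] at h23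
      have key : ∀ k : ℕ, ((l : G)⁻¹ * (d * l * d⁻¹)) ^ k = 1 →
          (QuotientGroup.mk l : ↥L ⧸ Subgroup.center ↥L) ^ k = 1 := by
        intro k hk
        rw [hcomm.mul_pow] at hk
        have h1 : (d * (l : G) * d⁻¹) ^ k = (l : G) ^ k := by
          have := eq_inv_of_mul_eq_one_right hk
          rw [this, inv_pow, inv_inv]
        rw [← QuotientGroup.mk_pow, QuotientGroup.eq_one_iff, Subgroup.mem_center_iff]
        intro m
        apply Subtype.ext
        have hmem : (d * (l : G) * d⁻¹) ^ k ∈ L.map (MulAut.conj d).toMonoidHom := pow_mem hl' k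
        have h2 := Cfsg.Agent.Lib.Helper21_Components.IsComponent.commute_of_ne hL hL'
          (Ne.symm hne) m.2 hmem
        rw [h1] at h2
        simpa using h2.eq
      rcases h23 with h | h
      · left; exact key 2 h
      · right; exact key 3 h
  have hsolv := isSolvable_of_sq_or_cube hQ
  have hperf : Group.IsPerfect (↥L ⧸ Subgroup.center ↥L) := by
    have := hL.2.1
    exact Group.IsPerfect.ofSurjective (f := QuotientGroup.mk' (Subgroup.center ↥L))
      (QuotientGroup.mk'_surjective _)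
  have hnt : Nontrivial (↥L ⧸ Subgroup.center ↥L) := hL.2.2.toNontrivial
  exact Group.IsPerfect.not_isSolvable _ hsolv

/-- Components are normal. -/
theorem component_normal {G : Type*} [Group G] [Finite G] {D : Set G}
    (hD : IsThreeTranspositionClass D) {L : Subgroup G} (hL : IsComponent L) : L.Normal := by
  rw [← Subgroup.normalizer_eq_top_iff, eq_top_iff, ← hD.2.2, Subgroup.closure_le]
  intro d hd
  rw [SetLike.mem_coe, Subgroup.mem_normalizer_iff_map_conj_eq]
  exact component_map_conj_eq hD hd hL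

/-- There is at most one component. -/
theorem component_unique {G : Type*} [Group G] [Finite G] {D : Set G}
    (hD : IsThreeTranspositionClass D) {L₁ L₂ : Subgroup G} (h₁ : IsComponent L₁)
    (h₂ : IsComponent L₂) : L₁ = L₂ := by
  by_contra hne
  obtain ⟨d, hd⟩ := nonempty hD
  have hd2 := hD.1.1 d hd
  have hdd := sq_of_orderOf_two hd2
  have hdinv := inv_of_orderOf_two hd2
  have hn₁ := component_normal hD h₁
  have hn₂ := component_normal hD h₂
  obtain ⟨l, hl, hl3⟩ := exists_cube_ne_one hD hd L₁ h₁.2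
  obtain ⟨m, hm, hm2⟩ := exists_sq_ne_one hD hd L₂ h₂.2
  obtain ⟨hcl, hcl23⟩ := comm_elt_mem hD L₁ hd hl
  obtain ⟨hcm, hcm23⟩ := comm_elt_mem hD L₂ hd hm
  have hl2 : (l⁻¹ * d * l * d) ^ 2 = 1 := hcl23.resolve_right hl3
  have hm3 : (m⁻¹ * d * m * d) ^ 3 = 1 := hcm23.resolve_left hm2
  have hcomm : Commute (l⁻¹ * d * l * d) (m⁻¹ * d * m * d)⁻¹ :=
    (Cfsg.Agent.Lib.Helper21_Components.IsComponent.commute_of_ne h₁ h₂ hne hcl hcm).inv_right
  have he : l⁻¹ * d * l ∈ D := by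
    have := conj_mem hD l⁻¹ hd
    rwa [inv_inv] at this
  have hf : m⁻¹ * d * m ∈ D := by
    have := conj_mem hD m⁻¹ hd
    rwa [inv_inv] at this
  have heq : (l⁻¹ * d * l * d) * (m⁻¹ * d * m * d)⁻¹ = (l⁻¹ * d * l) * (m⁻¹ * d * m) := by
    rw [mul_inv_rev, mul_inv_rev, mul_inv_rev, inv_inv, hdinv]
    calc l⁻¹ * d * l * d * (d * (m⁻¹ * (d * m))) = l⁻¹ * d * l * (d * d) * (m⁻¹ * (d * m)) := by
          group
      _ = l⁻¹ * d * l * (m⁻¹ * d * m) := by rw [hdd]; group
  have h23 := hD.1.2 _ he _ hf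
  rw [← heq] at h23
  rcases h23 with k2 | k3
  · rw [hcomm.mul_pow, hl2, one_mul, inv_pow, inv_eq_one] at k2
    exact hm2 k2
  · rw [hcomm.mul_pow, inv_pow, hm3, inv_one, mul_one] at k3
    exact hl3 k3

end Cfsg.Agent.Lib.Helper89_TTQuasi
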