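import Mathlib
import Cfsg.Prelude.Def_FischerSpaces
import Cfsg.Agent.S5352
import Cfsg.Agent.Lib.Helper1_Cores
import Cfsg.Agent.Lib.Helper89_InvolSylow
import Cfsg.Agent.Lib.Helper89_TTClass
import Cfsg.Agent.Lib.Helper89_Blocks
import Cfsg.Agent.Lib.Helper29_Local

/-!
# Primitive classes of 3-transpositions (helper89)

Consequences of primitivity of the conjugation action on a class `D` of 3-transpositions:
* the classes of a conjugation-invariant equivalence relation are blocks (`isBlock_of_rel`);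
* orbits of a normal subgroup and connected components of the commuting graph are blocks;
* a normal subgroup is central or transitive on `D` (`le_center_or_transitive`);
* `O₂(G)` and (when two different members of `D` commute) `O₃(G)` are central, and the commuting
  graph is connected.
-/

set_option autoImplicit false
open Cfsg

namespace Cfsg.Agent.Lib.Helper89_Prim

open Cfsg.Agent.Lib.Helper89_InvolSylow Cfsg.Agent.Lib.Helper89_TTClass
  Cfsg.Agent.Lib.Helper89_Blocks

variable {G : Type*} [Group G]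

/-- The classes of a conjugation-invariant equivalence relation are blocks. -/
theorem isBlock_of_rel (r : G → G → Prop) (hsymm : ∀ x y, r x y → r y x)
    (htrans : ∀ x y z, r x y → r y z → r x z)
    (hconj : ∀ g x y, r x y → r (g * x * g⁻¹) (g * y * g⁻¹)) (a : G) :
    IsBlock {x | r a x} := by
  intro g
  by_cases h : ∃ z, z ∈ cj g {x | r a x} ∧ z ∈ {x | r a x}
  · left
    obtain ⟨z, hz1, hz2⟩ := h
    rw [mem_cj] at hz1
    have hz1' : r a (g⁻¹ * z * g) := hz1
    have hz2' : r a z := hz2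
    have h1 : r (g * a * g⁻¹) z := by
      have := hconj g _ _ hz1'
      have e : g * (g⁻¹ * z * g) * g⁻¹ = z := by group
      rwa [e] at this
    ext y
    rw [mem_cj]
    constructor
    · intro hy
      have hy' : r a (g⁻¹ * y * g) := hy
      have h2 : r (g * a * g⁻¹) y := by
        have := hconj g _ _ hy'
        have e : g * (g⁻¹ * y * g) * g⁻¹ = y := by group
        rwa [e] at this
      exact htrans _ _ _ hz2' (htrans _ _ _ (hsymm _ _ h1) h2)
    · intro hy
      have hy' : r a y := hy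
      have h2 : r (g * a * g⁻¹) y := htrans _ _ _ h1 (htrans _ _ _ (hsymm _ _ hz2') hy')
      have := hconj g⁻¹ _ _ h2
      have e : g⁻¹ * (g * a * g⁻¹) * g⁻¹⁻¹ = a := by group
      have e' : g⁻¹ * y * g⁻¹⁻¹ = g⁻¹ * y * g := by group
      rw [e, e'] at this
      exact this
  · right
    rw [Set.disjoint_left]
    intro z hz1 hz2
    exact h ⟨z, hz1, hz2⟩

/-- The orbit of `a` under a normal subgroup is a block. -/
theorem isBlock_orbit (N : Subgroup G) [hN : N.Normal] (a : G) :
    IsBlock {x | ∃ n ∈ N, x = n * a * n⁻¹} := by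
  apply isBlock_of_rel (fun x y => ∃ n ∈ N, y = n * x * n⁻¹)
  · rintro x y ⟨n, hn, rfl⟩
    exact ⟨n⁻¹, inv_mem hn, by group⟩
  · rintro x y z ⟨n, hn, rfl⟩ ⟨m, hm, rfl⟩
    exact ⟨m * n, mul_mem hm hn, by group⟩
  · rintro g x y ⟨n, hn, rfl⟩
    exact ⟨g * n * g⁻¹, hN.conj_mem n hn g, by group⟩

/-- Conjugation as an endomorphism of the commuting graph. -/
def conjHom {D : Set G} (hconj : ∀ g : G, ∀ d ∈ D, g * d * g⁻¹ ∈ D) (g : G) :
    Cfsg.commutingGraph D →g Cfsg.commutingGraph D where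
  toFun x := ⟨g * x * g⁻¹, hconj g x x.2⟩
  map_rel' := by
    intro u v h
    unfold Cfsg.commutingGraph at h ⊢
    rw [SimpleGraph.fromRel_adj] at h ⊢
    obtain ⟨hne, hc⟩ := h
    refine ⟨?_, ?_⟩
    · intro heq
      apply hne
      have h1 := congrArg Subtype.val heq
      have h2 : g * (u : G) * g⁻¹ = g * (v : G) * g⁻¹ := h1
      apply Subtype.ext
      exact mul_left_cancel (mul_right_cancel h2)
    · have hc' : Commute (u : G) (v : G) := by
        rcases hc with h | h
        · exact h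
        · exact h.symm
      left
      show (g * (u : G) * g⁻¹) * (g * (v : G) * g⁻¹) = (g * (v : G) * g⁻¹) * (g * (u : G) * g⁻¹)
      calc (g * (u : G) * g⁻¹) * (g * (v : G) * g⁻¹) = g * ((u : G) * v) * g⁻¹ := by group
        _ = g * ((v : G) * u) * g⁻¹ := by rw [hc'.eq]
        _ = (g * (v : G) * g⁻¹) * (g * (u : G) * g⁻¹) := by group

/-- The connected component of `a` in the commuting graph is a block. -/
theorem isBlock_component {D : Set G} (hconj : ∀ g : G, ∀ d ∈ D, g * d * g⁻¹ ∈ D) (a : G) :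
    IsBlock {x | ∃ (ha : a ∈ D) (hx : x ∈ D),
      (Cfsg.commutingGraph D).Reachable ⟨a, ha⟩ ⟨x, hx⟩} := by
  apply isBlock_of_rel (fun x y => ∃ (hx : x ∈ D) (hy : y ∈ D),
      (Cfsg.commutingGraph D).Reachable ⟨x, hx⟩ ⟨y, hy⟩)
  · rintro x y ⟨hx, hy, h⟩
    exact ⟨hy, hx, h.symm⟩
  · rintro x y z ⟨hx, hy, h⟩ ⟨hy', hz, h'⟩
    exact ⟨hx, hz, h.trans h'⟩
  · rintro g x y ⟨hx, hy, h⟩
    exact ⟨hconj g x hx, hconj g y hy, h.map (conjHom hconj g)⟩

/-- Under a primitive action, a normal subgroup is central or transitive on `D`. -/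
theorem le_center_or_transitive {D : Set G} (hD : IsThreeTranspositionClass D)
    (hprim : Cfsg.IsPrimitiveUnderConj D) (N : Subgroup G) [hN : N.Normal] :
    N ≤ Subgroup.center G ∨ ∀ a ∈ D, ∀ x ∈ D, ∃ n ∈ N, x = n * a * n⁻¹ := by
  obtain ⟨a, ha⟩ := nonempty hD
  have hBD : {x | ∃ n ∈ N, x = n * a * n⁻¹} ⊆ D := by
    rintro _ ⟨n, _, rfl⟩
    exact conj_mem hD n ha
  have haB : a ∈ {x | ∃ n ∈ N, x = n * a * n⁻¹} := ⟨1, one_mem _, by group⟩
  rcases hprim.2.2 _ hBD (isBlock_orbit N a) with h | h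
  · left
    apply le_center_of_commute hD N ha
    intro n hn
    have h1 : n * a * n⁻¹ ∈ {x | ∃ n ∈ N, x = n * a * n⁻¹} := ⟨n, hn, rfl⟩
    have h2 : n * a * n⁻¹ = a := h h1 haB
    calc n * a = (n * a * n⁻¹) * n := by group
      _ = a * n := by rw [h2]
  · right
    intro a' ha' x hx
    obtain ⟨g, rfl⟩ := exists_conj hD ha ha'
    have h1 : g⁻¹ * x * g ∈ D := by
      have := conj_mem hD g⁻¹ hx
      simpa using this
    rw [← h] at h1
    obtain ⟨n, hn, h2⟩ := h1
    refine ⟨g * n * g⁻¹, hN.conj_mem n hn g, ?_⟩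
    have e : x = g * (g⁻¹ * x * g) * g⁻¹ := by group
    rw [e, h2]
    group

/-- If all products `a x`, `x ∈ D`, lie in `O₂(G)`, then `a` is central. -/
theorem mem_center_of_mul_mem_pCore_two [Finite G] {D : Set G} (hD : IsThreeTranspositionClass D)
    {a : G} (ha : a ∈ D) (h : ∀ x ∈ D, a * x ∈ Cfsg.pCore 2 G) : a ∈ Subgroup.center G := by
  have : Fact (Nat.Prime 2) := ⟨Nat.prime_two⟩
  have hcomm : ∀ x ∈ D, a * x = x * a := by
    intro x hx
    have hc := h x hx
    have hj : ∃ j : ℕ, orderOf (a * x) = 2 ^ j := by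
      obtain ⟨j, hj⟩ := (IsPGroup.iff_orderOf.mp
        (Cfsg.Agent.Lib.Helper1_Cores.pCore_isPGroup (G := G) 2)) ⟨_, hc⟩
      rw [Subgroup.orderOf_mk] at hj
      exact ⟨j, hj⟩
    have hsq : (a * x) ^ 2 = 1 := by
      rcases hD.1.2 a ha x hx with h2 | h3
      · exact h2
      · rw [eq_one_of_two_pow_of_cube hj h3]; simp
    exact Cfsg.Agent.S5352.commute_of_sq (hD.1.1 a ha) (hD.1.1 x hx) hsq
  have hle : Subgroup.closure D ≤ Subgroup.centralizer {a} := by
    rw [Subgroup.closure_le]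
    intro x hx
    rw [SetLike.mem_coe, Subgroup.mem_centralizer_iff]
    intro y hy
    rw [Set.mem_singleton_iff] at hy
    rw [hy]
    exact hcomm x hx
  rw [hD.2.2] at hle
  rw [Subgroup.mem_center_iff]
  intro g
  have := hle (Subgroup.mem_top g)
  rw [Subgroup.mem_centralizer_iff] at this
  exact (this a rfl).symm

/-- A central member of a class `D` is the only member of `D`. -/
theorem eq_of_mem_center {D : Set G} (hD : IsThreeTranspositionClass D) {a b : G} (ha : a ∈ D)
    (hb : b ∈ D) (hc : a ∈ Subgroup.center G) : a = b := by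
  obtain ⟨g, rfl⟩ := exists_conj hD ha hb
  have := Subgroup.mem_center_iff.mp hc g
  calc a = (a * g) * g⁻¹ := by group
    _ = g * a * g⁻¹ := by rw [← this]

/-- Two commuting members of `D` whose product lies in `O₃(G)` are equal. -/
theorem eq_of_commute_of_mul_mem_pCore_three [Finite G] {D : Set G}
    (hD : IsThreeTranspositionClass D) {a b : G} (ha : a ∈ D) (hb : b ∈ D) (hc : Commute a b)
    (h : a * b ∈ Cfsg.pCore 3 G) : a = b := by
  have : Fact (Nat.Prime 3) := ⟨Nat.prime_three⟩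
  have hj : ∃ j : ℕ, orderOf (a * b) = 3 ^ j := by
    obtain ⟨j, hj⟩ := (IsPGroup.iff_orderOf.mp
      (Cfsg.Agent.Lib.Helper1_Cores.pCore_isPGroup (G := G) 3)) ⟨_, h⟩
    rw [Subgroup.orderOf_mk] at hj
    exact ⟨j, hj⟩
  have haa := sq_of_orderOf_two (hD.1.1 a ha)
  have hbb := sq_of_orderOf_two (hD.1.1 b hb)
  have hsq : (a * b) ^ 2 = 1 := by
    rw [pow_two]
    calc a * b * (a * b) = a * (b * a) * b := by group
      _ = a * (a * b) * b := by rw [hc.eq]
      _ = (a * a) * (b * b) := by group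
      _ = 1 := by rw [haa, hbb]; group
  have h1 := eq_one_of_three_pow_of_sq hj hsq
  have hbi := inv_of_orderOf_two (hD.1.1 b hb)
  calc a = (a * b) * b⁻¹ := by group
    _ = b := by rw [h1, hbi]; group

/-- The product of `a` with a conjugate of `a` under `n ∈ N` lies in `N`. -/
theorem mul_conj_mem {D : Set G} (hD : IsThreeTranspositionClass D) (N : Subgroup G)
    [hN : N.Normal] {a n : G} (ha : a ∈ D) (hn : n ∈ N) : a * (n * a * n⁻¹) ∈ N := by
  have hai := inv_of_orderOf_two (hD.1.1 a ha)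
  have e : a * (n * a * n⁻¹) = (a * n * a⁻¹) * n⁻¹ := by
    rw [hai]; group
  rw [e]
  exact mul_mem (hN.conj_mem n hn a) (inv_mem hn)

/-- Under a primitive action on at least two points, `O₂(G)` is central. -/
theorem pCore_two_le_center_of_prim [Finite G] {D : Set G} (hD : IsThreeTranspositionClass D)
    (hprim : Cfsg.IsPrimitiveUnderConj D) : Cfsg.pCore 2 G ≤ Subgroup.center G := by
  have hn : (Cfsg.pCore 2 G).Normal := Cfsg.Agent.Lib.Helper1_Cores.pCore_normal 2
  rcases le_center_or_transitive hD hprim (Cfsg.pCore 2 G) with h | h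
  · exact h
  · exfalso
    obtain ⟨a, ha, b, hb, hab⟩ := hprim.2.1
    apply hab
    apply eq_of_mem_center hD ha hb
    apply mem_center_of_mul_mem_pCore_two hD ha
    intro x hx
    obtain ⟨n, hn', rfl⟩ := h a ha x hx
    exact mul_conj_mem hD _ ha hn'

/-- Under a primitive action with two different commuting members, `O₃(G)` is central. -/
theorem pCore_three_le_center_of_prim [Finite G] {D : Set G} (hD : IsThreeTranspositionClass D)
    (hprim : Cfsg.IsPrimitiveUnderConj D) (hw : ∃ a ∈ D, ∃ b ∈ D, a ≠ b ∧ Commute a b) :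
    Cfsg.pCore 3 G ≤ Subgroup.center G := by
  have hn : (Cfsg.pCore 3 G).Normal := Cfsg.Agent.Lib.Helper1_Cores.pCore_normal 3
  rcases le_center_or_transitive hD hprim (Cfsg.pCore 3 G) with h | h
  · exact h
  · exfalso
    obtain ⟨a, ha, b, hb, hab, hc⟩ := hw
    apply hab
    apply eq_of_commute_of_mul_mem_pCore_three hD ha hb hc
    obtain ⟨n, hn', rfl⟩ := h a ha b hb
    exact mul_conj_mem hD _ ha hn'

/-- Under a primitive action with two different commuting members, the commuting graph is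
connected. -/
theorem connected_of_prim {D : Set G} (hD : IsThreeTranspositionClass D)
    (hprim : Cfsg.IsPrimitiveUnderConj D) (hw : ∃ a ∈ D, ∃ b ∈ D, a ≠ b ∧ Commute a b) :
    (Cfsg.commutingGraph D).Connected := by
  obtain ⟨a, ha, b, hb, hab, hc⟩ := hw
  have hconj : ∀ g : G, ∀ d ∈ D, g * d * g⁻¹ ∈ D := fun g d hd => conj_mem hD g hd
  have hBD : {x | ∃ (ha : a ∈ D) (hx : x ∈ D),
      (Cfsg.commutingGraph D).Reachable ⟨a, ha⟩ ⟨x, hx⟩} ⊆ D := by
    rintro x ⟨_, hx, _⟩
    exact hx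
  have haB : a ∈ {x | ∃ (ha : a ∈ D) (hx : x ∈ D),
      (Cfsg.commutingGraph D).Reachable ⟨a, ha⟩ ⟨x, hx⟩} := ⟨ha, ha, SimpleGraph.Reachable.refl _⟩
  have hbB : b ∈ {x | ∃ (ha : a ∈ D) (hx : x ∈ D),
      (Cfsg.commutingGraph D).Reachable ⟨a, ha⟩ ⟨x, hx⟩} := by
    refine ⟨ha, hb, SimpleGraph.Adj.reachable ?_⟩
    unfold Cfsg.commutingGraph
    rw [SimpleGraph.fromRel_adj]
    refine ⟨?_, Or.inl hc⟩
    intro heq
    exact hab (congrArg Subtype.val heq)
  rcases hprim.2.2 _ hBD (isBlock_component hconj a) with h | h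
  · exact absurd (h haB hbB) hab
  · have hne : Nonempty D := ⟨⟨a, ha⟩⟩
    refine ⟨fun u v => ?_⟩
    have hu : (u : G) ∈ {x | ∃ (ha : a ∈ D) (hx : x ∈ D),
        (Cfsg.commutingGraph D).Reachable ⟨a, ha⟩ ⟨x, hx⟩} := h.symm ▸ u.2
    have hv : (v : G) ∈ {x | ∃ (ha : a ∈ D) (hx : x ∈ D),
        (Cfsg.commutingGraph D).Reachable ⟨a, ha⟩ ⟨x, hx⟩} := h.symm ▸ v.2
    obtain ⟨_, _, hru⟩ := hu
    obtain ⟨_, _, hrv⟩ := hv
    exact hru.symm.trans hrv

/-- A conjugation-invariant generating set of 3-transpositions on which `G` is transitive is a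
class of 3-transpositions. -/
theorem isClass_of_prim {D : Set G} (hD : Cfsg.IsThreeTranspositionGroup D)
    (hprim : Cfsg.IsPrimitiveUnderConj D) : IsThreeTranspositionClass D := by
  obtain ⟨a, ha, _⟩ := hprim.2.1
  refine ⟨hD.1, ⟨a, ha, ?_⟩, hD.2.2⟩
  ext x
  constructor
  · intro hx
    obtain ⟨g, hg⟩ := hprim.1 a ha x hx
    show IsConj a x
    exact isConj_iff.mpr ⟨g, hg⟩
  · intro hx
    have hx' : IsConj a x := hx
    obtain ⟨g, hg⟩ := isConj_iff.mp hx'
    rw [← hg]
    exact hD.2.1 g a ha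

/-- Along a walk of the commuting graph the quotient of the ends lies in every normal
quasisimple subgroup. -/
theorem mul_mem_of_reachable [Finite G] {D : Set G} (hD : IsThreeTranspositionClass D)
    (L : Subgroup G) [hLn : L.Normal] (hL : Cfsg.IsQuasisimple L) {u v : D}
    (h : (Cfsg.commutingGraph D).Reachable u v) : (u : G)⁻¹ * (v : G) ∈ L := by
  obtain ⟨p⟩ := h
  induction p with
  | nil => simp
  | @cons u' v' w' hadj p ih =>
    have h1 : (u' : G)⁻¹ * (v' : G) ∈ L := by
      unfold Cfsg.commutingGraph at hadj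
      rw [SimpleGraph.fromRel_adj] at hadj
      obtain ⟨_, hc⟩ := hadj
      have hc' : Commute (u' : G) (v' : G) := by
        rcases hc with h | h
        · exact h
        · exact h.symm
      apply Cfsg.Agent.S5352.mul_mem_of_commutator_mem hD L hL u'.2 v'.2
      have e : (u' : G) * v' * (u' : G)⁻¹ * (v' : G)⁻¹ = 1 := by rw [hc'.eq]; group
      rw [e]
      exact one_mem _
    have e : (u' : G)⁻¹ * w' = ((u' : G)⁻¹ * v') * ((v' : G)⁻¹ * w') := by group
    rw [e]
    exact mul_mem h1 ih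

/-- If all quotients `a⁻¹ x`, `x ∈ D`, lie in `L` then `G = ⟨a⟩ L`. -/
theorem zpowers_sup_eq_top {D : Set G} (hD : IsThreeTranspositionClass D) (L : Subgroup G)
    {a : G} (h : ∀ x ∈ D, a⁻¹ * x ∈ L) : Subgroup.zpowers a ⊔ L = ⊤ := by
  rw [eq_top_iff, ← hD.2.2, Subgroup.closure_le]
  intro x hx
  have e : x = a * (a⁻¹ * x) := by group
  rw [SetLike.mem_coe, e]
  exact mul_mem ((le_sup_left : Subgroup.zpowers a ≤ _) (Subgroup.mem_zpowers a))
    ((le_sup_right : L ≤ Subgroup.zpowers a ⊔ L) (h x hx))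

/-- If `G = ⟨a⟩ L` with `a` of order two then `L` has index at most two. -/
theorem index_le_two_of_zpowers_sup {a : G} (ha : orderOf a = 2) (L : Subgroup G) [L.Normal]
    (hsup : Subgroup.zpowers a ⊔ L = ⊤) : L.index ≤ 2 := by
  have h1 : L.relIndex (Subgroup.zpowers a ⊔ L) = L.relIndex (Subgroup.zpowers a) :=
    Subgroup.relIndex_sup_right _ _
  rw [hsup, Subgroup.relIndex_top_right] at h1
  have h4 := Subgroup.relIndex_dvd_card L (Subgroup.zpowers a)
  rw [Nat.card_zpowers, ha, ← h1] at h4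
  exact Nat.le_of_dvd (by norm_num) h4

/-- If `G = ⟨a⟩ L` then `G' ≤ L`. -/
theorem commutator_le_of_zpowers_sup {a : G} (L : Subgroup G) [L.Normal]
    (hsup : Subgroup.zpowers a ⊔ L = ⊤) : commutator G ≤ L := by
  apply Subgroup.Normal.commutator_le_of_self_sup_commutative_eq_top (H := Subgroup.zpowers a)
  · rw [sup_comm]; exact hsup
  · infer_instance

/-- The centre of a normal subgroup `L` is central in `G` when `F(G) = Z(G)`. -/
theorem center_map_le_center [Finite G] {D : Set G} (hD : IsThreeTranspositionClass D)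
    (h2 : Cfsg.pCore 2 G ≤ Subgroup.center G) (h3 : Cfsg.pCore 3 G ≤ Subgroup.center G)
    (L : Subgroup G) [hLn : L.Normal] :
    (Subgroup.center ↥L).map L.subtype ≤ Subgroup.center G := by
  have hN : ((Subgroup.center ↥L).map L.subtype).Normal :=
    ConjAct.normal_of_characteristic_of_normal
  have hcomm : IsMulCommutative ↥((Subgroup.center ↥L).map L.subtype) := by
    refine ⟨⟨?_⟩⟩
    rintro ⟨_, ⟨a, ha, rfl⟩⟩ ⟨_, ⟨b, hb, rfl⟩⟩
    apply Subtype.ext
    have := Subgroup.mem_center_iff.mp ha b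
    have h4 := congrArg Subtype.val this
    exact h4.symm
  have hnil : Group.IsNilpotent ↥((Subgroup.center ↥L).map L.subtype) :=
    Cfsg.Agent.Lib.Helper29_Local.isNilpotent_of_isMulCommutative
  rw [← Cfsg.Agent.S5352.fittingSubgroup_eq_center hD h2 h3]
  exact Cfsg.Agent.Lib.Helper29_Local.le_fittingSubgroup _ hnil

end Cfsg.Agent.Lib.Helper89_Prim
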