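import Mathlib
import Cfsg.Prelude.Def_SporadicB

set_option autoImplicit false

namespace Cfsg.Agent.Lib.Helper8_ThreeTransp

variable {G : Type*} [Group G]

theorem sq_of_orderOf_two {d : G} (h : orderOf d = 2) : d * d = 1 := by
  have := pow_orderOf_eq_one d
  rw [h, pow_two] at this
  exact this

theorem inv_of_orderOf_two {d : G} (h : orderOf d = 2) : d⁻¹ = d :=
  inv_eq_of_mul_eq_one_left (sq_of_orderOf_two h)

theorem ne_one_of_orderOf_two {d : G} (h : orderOf d = 2) : d ≠ 1 := by
  rintro rfl
  simp at h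

theorem mem_sq {E : Set G} (hE : Cfsg.IsThreeTranspositionSet E) {d : G} (hd : d ∈ E) :
    d * d = 1 := sq_of_orderOf_two (hE.1 d hd)

theorem mem_inv {E : Set G} (hE : Cfsg.IsThreeTranspositionSet E) {d : G} (hd : d ∈ E) :
    d⁻¹ = d := inv_of_orderOf_two (hE.1 d hd)

/-- two involutions whose product squares to one commute -/
theorem commute_of_sq {d e : G} (hd : d * d = 1) (he : e * e = 1) (h : (d * e) ^ 2 = 1) :
    Commute d e := by
  have h1 : d * e * (d * e) = 1 := by rw [← pow_two]; exact h
  have h2 : d * e = (d * e)⁻¹ := (inv_eq_of_mul_eq_one_left h1).symm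
  have hd' : d⁻¹ = d := inv_eq_of_mul_eq_one_left hd
  have he' : e⁻¹ = e := inv_eq_of_mul_eq_one_left he
  rw [mul_inv_rev, hd', he'] at h2
  exact h2

/-- two involutions whose product cubes to one satisfy the braid relation -/
theorem braid_of_cube {d e : G} (hd : d * d = 1) (he : e * e = 1) (h : (d * e) ^ 3 = 1) :
    d * e * d = e * d * e := by
  have hd' : d⁻¹ = d := inv_eq_of_mul_eq_one_left hd
  have he' : e⁻¹ = e := inv_eq_of_mul_eq_one_left he
  have h1 : d * e * d * (e * d * e) = 1 := by
    have : (d * e) ^ 3 = d * e * d * (e * d * e) := by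
      simp only [pow_succ, pow_zero, one_mul, mul_assoc]
    rw [← this]; exact h
  have h2 : d * e * d = (e * d * e)⁻¹ := eq_inv_of_mul_eq_one_left h1
  rw [h2]
  simp only [mul_inv_rev, hd', he', mul_assoc]

theorem commute_or_braid {E : Set G} (hE : Cfsg.IsThreeTranspositionSet E) {d e : G}
    (hd : d ∈ E) (he : e ∈ E) : Commute d e ∨ d * e * d = e * d * e := by
  rcases hE.2 d hd e he with h | h
  · exact Or.inl (commute_of_sq (mem_sq hE hd) (mem_sq hE he) h)
  · exact Or.inr (braid_of_cube (mem_sq hE hd) (mem_sq hE he) h)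

/-- if two involutions both commute and braid then they are equal -/
theorem eq_of_commute_of_braid {d e : G} (hd : d * d = 1) (he : e * e = 1) (hc : Commute d e)
    (hb : d * e * d = e * d * e) : d = e := by
  have h1 : d * e * d = e := by
    rw [hc.eq, mul_assoc, hd, mul_one]
  have h2 : e * d * e = d := by
    rw [← hc.eq, mul_assoc, he, mul_one]
  rw [← h2, ← hb, h1]

end Cfsg.Agent.Lib.Helper8_ThreeTransp
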