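import Mathlib
import Cfsg.Prelude.Def_FischerSpaces
import Cfsg.Agent.S5346
import Cfsg.Agent.S5352
import Cfsg.Agent.S5353
import Cfsg.Agent.Lib.Helper1_Cores
import Cfsg.Agent.Lib.Helper89_InvolSylow
import Cfsg.Agent.Lib.Helper89_TTClass
import Cfsg.Agent.Lib.Helper89_TTQuasi
import Cfsg.Agent.Lib.Helper89_WidthOne
import Cfsg.Agent.Lib.Helper89_Prim

/-!
# Fischer's hypotheses (helper89)

A finite group `G` generated by a class `D` of 3-transpositions, without non-trivial solvable
normal subgroups and with perfect commutator subgroup, acts primitively on `D`, two different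
members of `D` commute, and the commuting graph is connected (`prim_of_fischer`).
-/

set_option autoImplicit false
open Cfsg

namespace Cfsg.Agent.Lib.Helper89_FischerHyp

open Cfsg.Agent.Lib.Helper89_InvolSylow Cfsg.Agent.Lib.Helper89_TTClass
  Cfsg.Agent.Lib.Helper89_TTQuasi Cfsg.Agent.Lib.Helper89_WidthOne Cfsg.Agent.Lib.Helper89_Prim

open scoped commutatorElement

variable {G : Type*} [Group G]

/-- The image of a class of 3-transpositions modulo a normal subgroup not containing it. -/
theorem isThreeTranspositionGroup_image {D : Set G} (hD : IsThreeTranspositionClass D)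
    (L : Subgroup G) [hL : L.Normal] {d : G} (hd : d ∈ D) (hdL : d ∉ L) :
    Cfsg.IsThreeTranspositionGroup ((QuotientGroup.mk' L) '' D) := by
  have hnot : ∀ x ∈ D, x ∉ L := by
    intro x hx hxL
    obtain ⟨g, rfl⟩ := exists_conj hD hd hx
    apply hdL
    have := hL.conj_mem _ hxL g⁻¹
    have e : g⁻¹ * (g * d * g⁻¹) * g⁻¹⁻¹ = d := by group
    rwa [e] at this
  refine ⟨⟨?_, ?_⟩, ?_, ?_⟩
  · rintro _ ⟨x, hx, rfl⟩
    apply orderOf_eq_prime
    · rw [← map_pow, pow_two, sq_of_orderOf_two (hD.1.1 x hx), map_one]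
    · intro h
      exact hnot x hx ((QuotientGroup.eq_one_iff x).mp h)
  · rintro _ ⟨x, hx, rfl⟩ _ ⟨y, hy, rfl⟩
    rcases hD.1.2 x hx y hy with h | h
    · left; rw [← map_mul, ← map_pow, h, map_one]
    · right; rw [← map_mul, ← map_pow, h, map_one]
  · rintro q _ ⟨x, hx, rfl⟩
    obtain ⟨g, rfl⟩ := QuotientGroup.mk'_surjective L q
    refine ⟨g * x * g⁻¹, conj_mem hD g hx, ?_⟩
    rw [map_mul, map_mul, map_inv]
  · rw [← MonoidHom.map_closure, hD.2.2, ← MonoidHom.range_eq_map, MonoidHom.range_eq_top]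
    exact QuotientGroup.mk'_surjective L

/-- If modulo the normal quasisimple subgroup `L` the class has width one and the commutator
subgroup of `G` is perfect, then `G' ≤ L`. -/
theorem commutator_le_of_perfect [Finite G] {D : Set G} (hD : IsThreeTranspositionClass D)
    (hperf : ⁅commutator G, commutator G⁆ = commutator G) (L : Subgroup G) [hL : L.Normal]
    (hLq : Cfsg.IsQuasisimple ↥L) : commutator G ≤ L := by
  obtain ⟨d, hd⟩ := nonempty hD
  by_cases hdL : d ∈ L
  · have : L = ⊤ := by
      rw [eq_top_iff, ← hD.2.2, Subgroup.closure_le]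
      intro x hx
      obtain ⟨g, rfl⟩ := exists_conj hD hd hx
      exact hL.conj_mem _ hdL g
    rw [this]; exact le_top
  · have hQ := isThreeTranspositionGroup_image hD L hd hdL
    have hw : Cfsg.commutingWidth ((QuotientGroup.mk' L) '' D) = 1 := by
      apply commutingWidth_eq_one (⟨QuotientGroup.mk' L d, d, hd, rfl⟩ :
        ((QuotientGroup.mk' L) '' D).Nonempty)
      rintro _ ⟨x, hx, rfl⟩ _ ⟨y, hy, rfl⟩ hc
      have h1 : x * y * x⁻¹ * y⁻¹ ∈ L := by
        rw [← QuotientGroup.eq_one_iff, QuotientGroup.mk_mul, QuotientGroup.mk_mul,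
          QuotientGroup.mk_mul, QuotientGroup.mk_inv, QuotientGroup.mk_inv]
        have hc' : (QuotientGroup.mk x : G ⧸ L) * QuotientGroup.mk y
            = QuotientGroup.mk y * QuotientGroup.mk x := hc.eq
        rw [hc']; group
      have h2 := Cfsg.Agent.S5352.mul_mem_of_commutator_mem hD L hLq hx hy h1
      exact QuotientGroup.eq.mpr h2
    have hsup := (Cfsg.Agent.S5346.result hQ ⟨d, hd, rfl⟩).mp hw
    have hN : (Cfsg.pCore 3 (G ⧸ L)).Normal := Cfsg.Agent.Lib.Helper1_Cores.pCore_normal 3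
    have hle : commutator (G ⧸ L) ≤ Cfsg.pCore 3 (G ⧸ L) := commutator_le_of_zpowers_sup _ hsup
    -- the image of `G'` is perfect and a 3-group
    have hP : Group.IsPerfect ↥(commutator G) := Subgroup.isPerfect_iff.mpr hperf
    have hPm : Group.IsPerfect ↥((commutator G).map (QuotientGroup.mk' L)) :=
      Group.IsPerfect.map (QuotientGroup.mk' L)
    have hmle : (commutator G).map (QuotientGroup.mk' L) ≤ commutator (G ⧸ L) := by
      rw [commutator_def, commutator_def, Subgroup.map_commutator]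
      exact Subgroup.commutator_mono le_top le_top
    have : Fact (Nat.Prime 3) := ⟨Nat.prime_three⟩
    have hpg : IsPGroup 3 ↥((commutator G).map (QuotientGroup.mk' L)) :=
      (Cfsg.Agent.Lib.Helper1_Cores.pCore_isPGroup (G := G ⧸ L) 3).to_le (hmle.trans hle)
    have hnil : Group.IsNilpotent ↥((commutator G).map (QuotientGroup.mk' L)) := hpg.isNilpotent
    have hbot : (commutator G).map (QuotientGroup.mk' L) = ⊥ := by
      by_contra hne
      have hnt : Nontrivial ↥((commutator G).map (QuotientGroup.mk' L)) :=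
        (Subgroup.nontrivial_iff_ne_bot _).mpr hne
      exact Group.IsPerfect.not_isNilpotent _ hnil
    rw [Subgroup.map_eq_bot_iff, QuotientGroup.ker_mk'] at hbot
    exact hbot

/-- Under Fischer's hypotheses `G` acts primitively on `D` and two different members of `D`
commute. -/
theorem prim_of_fischer [Finite G]
    (hsol : ∀ N : Subgroup G, N.Normal → Group.IsSolvable ↥N → N = ⊥)
    (hperf : ⁅commutator G, commutator G⁆ = commutator G) {D : Set G}
    (hD : IsThreeTranspositionClass D) :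
    Cfsg.IsPrimitiveUnderConj D ∧ (∃ a ∈ D, ∃ b ∈ D, a ≠ b ∧ Commute a b) := by
  have : Fact (Nat.Prime 2) := ⟨Nat.prime_two⟩
  have : Fact (Nat.Prime 3) := ⟨Nat.prime_three⟩
  obtain ⟨d, hd⟩ := nonempty hD
  have hd1 : d ≠ 1 := by
    intro h
    have := hD.1.1 d hd
    rw [h, orderOf_one] at this
    omega
  have hpc : ∀ p : ℕ, [Fact p.Prime] → Cfsg.pCore p G = ⊥ := by
    intro p _
    apply hsol _ (Cfsg.Agent.Lib.Helper1_Cores.pCore_normal p)
    have hnil : Group.IsNilpotent ↥(Cfsg.pCore p G) :=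
      (Cfsg.Agent.Lib.Helper1_Cores.pCore_isPGroup (G := G) p).isNilpotent
    infer_instance
  have h2 : Cfsg.pCore 2 G ≤ Subgroup.center G := by rw [hpc 2]; exact bot_le
  have h3 : Cfsg.pCore 3 G ≤ Subgroup.center G := by rw [hpc 3]; exact bot_le
  -- `G` is not solvable
  have hns : ¬ Group.IsSolvable G := by
    intro h
    have hs : Group.IsSolvable ↥(⊤ : Subgroup G) :=
      Group.isSolvable_of_isSolvable_injective (Subgroup.subtype_injective _)
    have := hsol ⊤ inferInstance hs
    exact hd1 ((Subgroup.mem_bot).mp (this ▸ Subgroup.mem_top d))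
  have hD2 : ∃ a ∈ D, ∃ b ∈ D, a ≠ b := by
    by_contra hcon
    push Not at hcon
    apply hns
    have htop : (⊤ : Subgroup G) ≤ Subgroup.zpowers d := by
      rw [← hD.2.2, Subgroup.closure_le]
      intro x hx
      rw [hcon x hx d hd]
      exact Subgroup.mem_zpowers d
    apply Group.isSolvable_of_comm
    intro x y
    obtain ⟨i, hi⟩ := Subgroup.mem_zpowers_iff.mp (htop (Subgroup.mem_top x))
    obtain ⟨j, hj⟩ := Subgroup.mem_zpowers_iff.mp (htop (Subgroup.mem_top y))
    rw [← hi, ← hj, ← zpow_add, ← zpow_add, add_comm]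
  have hdi := inv_of_orderOf_two (hD.1.1 d hd)
  have hmul : ∀ x ∈ D, d⁻¹ * x ∈ commutator G := by
    intro x hx
    obtain ⟨g, rfl⟩ := exists_conj hD hd hx
    have h4 : ⁅d⁻¹, g⁆ ∈ commutator G :=
      Subgroup.commutator_mem_commutator (Subgroup.mem_top _) (Subgroup.mem_top g)
    have e : d⁻¹ * (g * d * g⁻¹) = ⁅d⁻¹, g⁆ := by
      rw [commutatorElement_def]; group
    rw [e]; exact h4
  have hw : ∃ a ∈ D, ∃ b ∈ D, a ≠ b ∧ Commute a b := by
    by_contra hcon
    push Not at hcon
    have hwidth : Cfsg.commutingWidth D = 1 := by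
      apply commutingWidth_eq_one ⟨d, hd⟩
      intro a ha b hb hc
      by_contra hab
      exact hcon a ha b hb hab hc
    have hD' : Cfsg.IsThreeTranspositionGroup D :=
      ⟨hD.1, fun g x hx => conj_mem hD g hx, hD.2.2⟩
    have hsup := (Cfsg.Agent.S5346.result hD' hd).mp hwidth
    rw [hpc 3, sup_bot_eq] at hsup
    apply hns
    apply Group.isSolvable_of_comm
    intro x y
    obtain ⟨i, hi⟩ := Subgroup.mem_zpowers_iff.mp (hsup ▸ Subgroup.mem_top x)
    obtain ⟨j, hj⟩ := Subgroup.mem_zpowers_iff.mp (hsup ▸ Subgroup.mem_top y)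
    rw [← hi, ← hj, ← zpow_add, ← zpow_add, add_comm]
  refine ⟨?_, hw⟩
  obtain ⟨L, hLn, hLq, hF, _⟩ := Cfsg.Agent.S5352.result hD hD2 h2 h3
  have hle : commutator G ≤ L := commutator_le_of_perfect hD hperf L hLq
  have hsup : Subgroup.zpowers d ⊔ L = ⊤ :=
    zpowers_sup_eq_top hD L (fun x hx => hle (hmul x hx))
  have hidx : L.index ≤ 2 := index_le_two_of_zpowers_sup (hD.1.1 d hd) L hsup
  exact Cfsg.Agent.S5353.isPrimitive hD hD2 h2 h3 L hLq hF hidx

end Cfsg.Agent.Lib.Helper89_FischerHyp
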