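import Cfsg.Prelude.Def_FusionSystem
import Cfsg.Agent.Lib.Helper87_Alperin
import Mathlib

set_option autoImplicit false

/-! Additions by helper89 to the fusion system library of helper87 (`Helper87_Alperin`). -/

namespace Cfsg.Agent.Lib.Helper89_Fusion

open Cfsg Cfsg.FusionSystem
open Cfsg.Agent.Lib.Helper87_Alperin

variable {Ω : Type*} [Group Ω] {S : Subgroup Ω}

/-- Weak Alperin with an inductive hypothesis: to show that `E` contains every map of the saturated system `F`
it suffices to show that `E` contains `Aut_F(Q)` for every fully automized receptive `Q`, *assuming* that `E`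
already contains all maps of `F` defined on subgroups of larger order than `Q`.
(The proof is the one of `Helper87_Alperin.weak_alperin_isMapOn`, by helper87, with the extra hypothesis threaded
through the induction.) -/
theorem weak_alperin_strong (F : FusionSystem S) [Finite S] {p : ℕ} [Fact p.Prime] (hS : IsPGroup p S)
    (hF : F.IsSaturated p) (E : FusionSystem S)
    (hE : ∀ Q : Subgroup Ω, F.IsFullyAutomized p Q → F.IsReceptive Q →
      (∀ (R : Subgroup Ω) (f : Ω → Ω), Nat.card Q < Nat.card R → IsMapOn F R f → IsMapOn E R f) →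
      ∀ α ∈ F.autGroup Q, IsMapOn E Q (extFun α)) :
    ∀ (P : Subgroup Ω) (f : Ω → Ω), IsMapOn F P f → IsMapOn E P f := by
  classical
  intro P f hf
  induction' hn : Nat.card S - Nat.card P using Nat.strong_induction_on with n ih generalizing P f
  have hPS : P ≤ S := hf.le
  have hfinP : Finite P := Finite.of_injective (Subgroup.inclusion hPS) (Subgroup.inclusion_injective hPS)
  obtain ⟨Q, ⟨k₀, hk₀, hk₀r⟩, hQa, hQr⟩ := hF P hPS
  have hQS : Q ≤ S := hQa.1
  have hfinQ : Finite Q := Finite.of_injective (Subgroup.inclusion hQS) (Subgroup.inclusion_injective hQS)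
  have hk₀Q : ∀ x : P, k₀ x ∈ Q := fun x => hk₀r ▸ ⟨x, rfl⟩
  have hk₀inj : Function.Injective k₀ := F.injective_of_mem hk₀
  have hcardPQ : Nat.card P = Nat.card Q := by
    apply Nat.card_congr
    refine Equiv.ofBijective (fun x => (⟨k₀ x, hk₀Q x⟩ : Q)) ⟨?_, ?_⟩
    · intro x y hxy
      exact hk₀inj (congrArg Subtype.val hxy)
    · rintro ⟨y, hy⟩
      rw [← hk₀r] at hy
      obtain ⟨x, rfl⟩ := hy
      exact ⟨x, rfl⟩
  obtain ⟨φ, hφ, hφf⟩ := hf
  have hφinj : Function.Injective φ := F.injective_of_mem hφ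
  have hφS : ∀ x : P, φ x ∈ S := hom_mem F hφ
  by_cases hPeq : P = S
  · -- the case `P = S`
    have hQeq : Q = P := by
      rw [hPeq]
      refine Subgroup.eq_of_le_of_card_ge hQS ?_
      rw [← hcardPQ, hPeq]
    rw [hQeq] at hQa hQr
    have hφP : ∀ x : P, φ x ∈ P := fun x => hPeq.ge (hφS x)
    have hbij : Function.Bijective (φ.codRestrict P hφP) := by
      rw [← Finite.injective_iff_bijective]
      intro x y hxy
      exact hφinj (congrArg Subtype.val hxy)
    let α : MulAut P := MulEquiv.ofBijective (φ.codRestrict P hφP) hbij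
    have hα : ∀ x : P, ((α x : P) : Ω) = φ x := fun x => rfl
    have hαmem : α ∈ F.autGroup P := by
      rw [mem_autGroup_iff F hPS]
      exact ⟨φ, hφ, fun x => by rw [extFun_coe, hα]⟩
    have hbig : ∀ (R : Subgroup Ω) (f : Ω → Ω), Nat.card P < Nat.card R → IsMapOn F R f → IsMapOn E R f := by
      intro R f' hlt hf'
      exfalso
      have := Subgroup.card_le_of_le hf'.le
      rw [hPeq] at hlt
      omega
    refine (hE P hQa hQr hbig α hαmem).congr fun x hx => ?_
    rw [extFun_apply _ hx, hα, hφf]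
  · -- the case `P < S`
    have hlt : P < normalizerIn S P := lt_normalizerIn hS hPS hPeq
    have hfinN : Finite ↥(normalizerIn S P) :=
      Finite.of_injective (Subgroup.inclusion (normalizerIn_le S P)) (Subgroup.inclusion_injective _)
    have hcardlt : Nat.card P < Nat.card ↥(normalizerIn S P) := card_lt_of_lt hlt
    have hcardN : Nat.card ↥(normalizerIn S P) ≤ Nat.card S := Subgroup.card_le_of_le (normalizerIn_le S P)
    -- the image `P'` of `φ`
    have hP'S : φ.range ≤ S := by
      rintro _ ⟨x, rfl⟩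
      exact hφS x
    have hfinP' : Finite φ.range :=
      Finite.of_injective (Subgroup.inclusion hP'S) (Subgroup.inclusion_injective hP'S)
    have hcardP' : Nat.card φ.range = Nat.card P := by
      symm
      apply Nat.card_congr
      exact (MonoidHom.ofInjective hφinj).toEquiv
    have hP'ne : φ.range ≠ S := by
      intro h
      apply hPeq
      refine Subgroup.eq_of_le_of_card_ge hPS ?_
      rw [← hcardP', h]
    have hlt' : φ.range < normalizerIn S φ.range := lt_normalizerIn hS hP'S hP'ne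
    have hfinN' : Finite ↥(normalizerIn S φ.range) :=
      Finite.of_injective (Subgroup.inclusion (normalizerIn_le S _)) (Subgroup.inclusion_injective _)
    have hcardlt' : Nat.card φ.range < Nat.card ↥(normalizerIn S φ.range) := card_lt_of_lt hlt'
    have hcardN' : Nat.card ↥(normalizerIn S φ.range) ≤ Nat.card S :=
      Subgroup.card_le_of_le (normalizerIn_le S _)
    -- the inverse of `φ`
    have hfφ : IsMapOn F P (extHom φ) := isMapOn_extHom F hφ
    have hP'iff : ∀ y, y ∈ φ.range ↔ ∃ x ∈ P, extHom φ x = y := by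
      intro y
      constructor
      · rintro ⟨x, rfl⟩
        exact ⟨x, x.2, extHom_coe φ x⟩
      · rintro ⟨x, hx, rfl⟩
        exact ⟨⟨x, hx⟩, (extHom_apply φ hx).symm⟩
    obtain ⟨finv, hfinv, hfinv1, hfinv2, hfinv3⟩ := hfφ.inv hP'iff
    -- the map `k₂ = k₀ ∘ φ⁻¹ : P' → Q`
    have hk₀map : IsMapOn F P (extHom k₀) := isMapOn_extHom F hk₀
    have hk₂map : IsMapOn F φ.range (extHom k₀ ∘ finv) := hfinv.comp hk₀map hfinv2
    obtain ⟨k₂, hk₂, hk₂f⟩ := hk₂map
    have hk₂r : k₂.range = Q := by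
      ext y
      constructor
      · rintro ⟨x, rfl⟩
        rw [hk₂f, Function.comp_apply, extHom_apply k₀ (hfinv2 _ x.2)]
        exact hk₀Q _
      · intro hy
        rw [← hk₀r] at hy
        obtain ⟨x, rfl⟩ := hy
        refine ⟨⟨φ x, ⟨x, rfl⟩⟩, ?_⟩
        rw [hk₂f, Function.comp_apply]
        have : finv (φ x) = x := by
          have := hfinv1 x x.2
          rwa [extHom_coe] at this
        rw [this, extHom_coe]
    -- extensions to the normalizers
    obtain ⟨α₁, hα₁, a₁, ha₁, ha₁P⟩ := exists_extension F hS hQa hQr hk₀ hk₀r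
    obtain ⟨α₂, hα₂, a₂, ha₂, ha₂P⟩ := exists_extension F hS hQa hQr hk₂ hk₂r
    -- induction hypothesis
    have hE₁ : IsMapOn E (normalizerIn S P) a₁ := ih _ (by omega) _ _ ha₁ rfl
    have hE₂ : IsMapOn E (normalizerIn S φ.range) a₂ := ih _ (by omega) _ _ ha₂ rfl
    have hE₁P : IsMapOn E P a₁ := hE₁.mono hlt.le
    have hE₂P' : IsMapOn E φ.range a₂ := hE₂.mono hlt'.le
    -- images
    have hQiff₂ : ∀ y, y ∈ Q ↔ ∃ x ∈ φ.range, a₂ x = y := by
      intro y
      constructor
      · intro hy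
        have h1 : extFun α₂⁻¹ y ∈ Q := extFun_mem _ hy
        have h1' : extFun α₂⁻¹ y ∈ k₂.range := hk₂r.ge h1
        obtain ⟨x, hx⟩ := h1'
        refine ⟨x, x.2, ?_⟩
        rw [ha₂P, hx]
        exact extFun_apply_inv _ hy
      · rintro ⟨x, hx, rfl⟩
        rw [ha₂P ⟨x, hx⟩]
        refine extFun_mem _ ?_
        rw [← hk₂r]
        exact ⟨_, rfl⟩
    obtain ⟨b₂, hb₂, hb₂1, hb₂2, hb₂3⟩ := hE₂P'.inv hQiff₂
    -- the middle automorphism
    have hbig : ∀ (R : Subgroup Ω) (f : Ω → Ω), Nat.card Q < Nat.card R → IsMapOn F R f → IsMapOn E R f := by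
      intro R f' hlt hf'
      have hRle := Subgroup.card_le_of_le hf'.le
      have hPle := Subgroup.card_le_of_le hPS
      exact ih _ (by omega) _ _ hf' rfl
    have hmid : IsMapOn E Q (extFun (α₂ * α₁⁻¹)) :=
      hE Q hQa hQr hbig _ ((F.autGroup Q).mul_mem hα₂ ((F.autGroup Q).inv_mem hα₁))
    have ha₁Q : ∀ x ∈ P, a₁ x ∈ Q := by
      intro x hx
      rw [ha₁P ⟨x, hx⟩]
      exact extFun_mem _ (hk₀Q _)
    have hcomp : IsMapOn E P (b₂ ∘ (extFun (α₂ * α₁⁻¹) ∘ a₁)) :=
      (hE₁P.comp hmid ha₁Q).comp hb₂ fun x hx => extFun_mem _ (ha₁Q x hx)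
    refine hcomp.congr fun x hx => ?_
    simp only [Function.comp_apply]
    rw [← hφf ⟨x, hx⟩]
    have h1 : a₁ x = extFun α₁ (k₀ ⟨x, hx⟩) := ha₁P ⟨x, hx⟩
    have h2 : a₂ (φ ⟨x, hx⟩) = extFun α₂ (k₀ ⟨x, hx⟩) := by
      rw [ha₂P ⟨φ ⟨x, hx⟩, ⟨_, rfl⟩⟩, hk₂f, Function.comp_apply]
      have : finv (φ ⟨x, hx⟩) = x := by
        have := hfinv1 x hx
        rwa [extHom_apply φ hx] at this
      simp only [this, extHom_apply k₀ hx]
    have h3 : extFun (α₂ * α₁⁻¹) (a₁ x) = a₂ (φ ⟨x, hx⟩) := by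
      rw [h1, h2, extFun_mul _ _ (extFun_mem _ (hk₀Q _)), extFun_inv_apply _ (hk₀Q _)]
    rw [h3]
    exact hb₂1 _ ⟨_, rfl⟩


end Cfsg.Agent.Lib.Helper89_Fusion
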