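import Mathlib
import Cfsg.Agent.Lib.Helper4_HTDefs
import Cfsg.Prelude.Def_CaseTheorems

/-!
# S3371 package CENT (helper89, for architect helper4)
-/

set_option autoImplicit false
set_option linter.unusedSectionVars false

namespace Cfsg.Agent.Lib.Helper89_HT_CENT

open Cfsg.Agent.Lib.Helper4_HTDefs

variable {q : ℕ} [Fact q.Prime] {V : Type*} [AddCommGroup V] [Module (ZMod q) V] [Finite V]
  {G : Type*} [Group G] [Finite G]

theorem cent (ρ : G →* (V ≃ₗ[ZMod q] V)) (hρ : Function.Injective ρ) (hirr : Irr ρ) :
    ∀ v : V, v ≠ 0 → ∀ g ∈ Subgroup.center G, ρ g v = v → g = 1 := by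
  intro v hv g hg hgv
  -- the fixed space of `g`
  let W : Submodule (ZMod q) V :=
    { carrier := {w | ρ g w = w}
      add_mem' := by
        intro a b ha hb
        show ρ g (a + b) = a + b
        rw [map_add, show ρ g a = a from ha, show ρ g b = b from hb]
      zero_mem' := by
        show ρ g 0 = 0
        exact map_zero _
      smul_mem' := by
        intro c a ha
        show ρ g (c • a) = c • a
        rw [map_smul, show ρ g a = a from ha] }
  have hWinv : ∀ h : G, ∀ w ∈ W, ρ h w ∈ W := by
    intro h w hw
    show ρ g (ρ h w) = ρ h w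
    have hcomm : g * h = h * g := (Subgroup.mem_center_iff.1 hg h).symm
    calc ρ g (ρ h w) = ρ (g * h) w := by rw [map_mul]; rfl
      _ = ρ (h * g) w := by rw [hcomm]
      _ = ρ h (ρ g w) := by rw [map_mul]; rfl
      _ = ρ h w := by rw [show ρ g w = w from hw]
  rcases hirr W hWinv with hbot | htop
  · exfalso
    have : v ∈ W := hgv
    rw [hbot, Submodule.mem_bot] at this
    exact hv this
  · apply hρ
    rw [map_one]
    ext w
    have : w ∈ W := by rw [htop]; exact Submodule.mem_top
    exact this

end Cfsg.Agent.Lib.Helper89_HT_CENT
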