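import Mathlib
import Cfsg.Agent.Lib.Helper4_HTDefs
import Cfsg.Prelude.Def_CaseTheorems

/-!
# S3371 package PEQ (helper89, for architect helper4): the case `p = q`
-/

set_option autoImplicit false
set_option linter.unusedSectionVars false
set_option linter.style.haveILetI false

namespace Cfsg.Agent.Lib.Helper89_HT_PEQ

open Cfsg.Agent.Lib.Helper4_HTDefs

variable {q : ℕ} [Fact q.Prime] {V : Type*} [AddCommGroup V] [Module (ZMod q) V] [Finite V]
  {G : Type*} [Group G] [Finite G]

/-- The action of `G` on `V` through `ρ`. -/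
@[reducible] def act (ρ : G →* (V ≃ₗ[ZMod q] V)) : MulAction G V where
  smul g v := ρ g v
  one_smul v := by
    show ρ 1 v = v
    rw [map_one]; rfl
  mul_smul a b v := by
    show ρ (a * b) v = ρ a (ρ b v)
    rw [map_mul]; rfl

theorem q_dvd_card [Nontrivial V] : q ∣ Nat.card V := by
  obtain ⟨v, hv⟩ := exists_ne (0 : V)
  have hq : q.Prime := Fact.out
  have h1 : addOrderOf v ∣ q := by
    apply addOrderOf_dvd_of_nsmul_eq_zero
    have : (q : ZMod q) • v = 0 := by
      rw [ZMod.natCast_self, zero_smul]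
    rwa [Nat.cast_smul_eq_nsmul] at this
  have h2 : addOrderOf v ≠ 1 := by
    rw [Ne, AddMonoid.addOrderOf_eq_one_iff]
    exact hv
  have h3 : addOrderOf v = q := ((Nat.dvd_prime hq).1 h1).resolve_left h2
  rw [← h3]
  exact addOrderOf_dvd_natCard v

theorem trivial_of_eq [Nontrivial V] (hG : IsPGroup q G) (ρ : G →* (V ≃ₗ[ZMod q] V))
    (hρ : Function.Injective ρ) (s : ℕ) (hs : HalfT ρ s) : ∀ g : G, g = 1 := by
  have hq : q.Prime := Fact.out
  letI := act ρ
  -- a nonzero fixed vector
  have hmod := hG.card_modEq_card_fixedPoints V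
  have hdvd : q ∣ Nat.card (MulAction.fixedPoints G V) := by
    have h0 : Nat.card V ≡ 0 [MOD q] := (Nat.modEq_zero_iff_dvd).2 q_dvd_card
    exact (Nat.modEq_zero_iff_dvd).1 (hmod.symm.trans h0)
  have hzero : (0 : V) ∈ MulAction.fixedPoints G V := by
    intro g
    show ρ g 0 = 0
    exact map_zero _
  have hpos : 0 < Nat.card (MulAction.fixedPoints G V) := by
    haveI : Nonempty (MulAction.fixedPoints G V) := ⟨⟨0, hzero⟩⟩
    exact Nat.card_pos
  have h1lt : 1 < Nat.card (MulAction.fixedPoints G V) :=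
    lt_of_lt_of_le hq.one_lt (Nat.le_of_dvd hpos hdvd)
  haveI : Nontrivial (MulAction.fixedPoints G V) := Finite.one_lt_card_iff_nontrivial.1 h1lt
  obtain ⟨⟨v, hvfix⟩, hvne⟩ := exists_ne (⟨0, hzero⟩ : MulAction.fixedPoints G V)
  have hv0 : v ≠ 0 := by
    intro h
    apply hvne
    exact Subtype.ext h
  have htop : stab ρ v = ⊤ := by
    rw [eq_top_iff]
    intro g _
    exact hvfix g
  have hsG : s = Nat.card G := by
    rw [← hs v hv0, htop, Subgroup.card_top]
  intro g
  apply hρ
  rw [map_one]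
  ext w
  by_cases hw : w = 0
  · rw [hw]; simp
  · have hcard : Nat.card (stab ρ w) = Nat.card G := by rw [hs w hw, hsG]
    have : stab ρ w = ⊤ := (Subgroup.card_eq_iff_eq_top _).1 hcard
    have hg : g ∈ stab ρ w := by rw [this]; trivial
    exact hg

end Cfsg.Agent.Lib.Helper89_HT_PEQ
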