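import Mathlib
import Cfsg.Agent.Lib.Helper4_HTDefs
import Cfsg.Prelude.Def_CaseTheorems

/-!
# S3371 package STAB (helper89, for architect helper4): orbit-stabilizer
-/

set_option autoImplicit false
set_option linter.style.haveILetI false
set_option linter.unusedSectionVars false

namespace Cfsg.Agent.Lib.Helper89_HT_STAB

open Cfsg.Agent.Lib.Helper4_HTDefs

variable {q : ℕ} [Fact q.Prime] {V : Type*} [AddCommGroup V] [Module (ZMod q) V] [Finite V]
  {G : Type*} [Group G] [Finite G]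

/-- The action of `G` on `V` through `ρ`. -/
@[reducible] def act (ρ : G →* (V ≃ₗ[ZMod q] V)) : MulAction G V where
  smul g v := ρ g v
  one_smul v := by
    show ρ 1 v = v
    rw [map_one]; rfl
  mul_smul a b v := by
    show ρ (a * b) v = ρ a (ρ b v)
    rw [map_mul]; rfl

theorem card_stab_mul_card_orbit (ρ : G →* (V ≃ₗ[ZMod q] V)) (v : V) :
    Nat.card (stab ρ v) * Nat.card {u : V | ∃ g : G, ρ g v = u} = Nat.card G := by
  letI := act ρ
  have h1 : MulAction.stabilizer G v = stab ρ v := by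
    ext g
    rfl
  have h2 : MulAction.orbit G v = {u : V | ∃ g : G, ρ g v = u} := rfl
  rw [← h1, ← h2, Nat.card_coe_set_eq, ← MulAction.index_stabilizer]
  exact Subgroup.card_mul_index _

theorem exists_s (ρ : G →* (V ≃ₗ[ZMod q] V))
    (hhalf : ∀ v w : V, v ≠ 0 → w ≠ 0 →
      Nat.card {u : V | ∃ g : G, ρ g v = u} = Nat.card {u : V | ∃ g : G, ρ g w = u}) :
    ∃ s : ℕ, HalfT ρ s := by
  by_cases h : ∃ v₀ : V, v₀ ≠ 0
  · obtain ⟨v₀, hv₀⟩ := h
    refine ⟨Nat.card (stab ρ v₀), fun v hv => ?_⟩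
    have e1 := card_stab_mul_card_orbit ρ v
    have e2 := card_stab_mul_card_orbit ρ v₀
    rw [hhalf v v₀ hv hv₀] at e1
    have hpos : 0 < Nat.card {u : V | ∃ g : G, ρ g v₀ = u} := by
      rcases Nat.eq_zero_or_pos (Nat.card {u : V | ∃ g : G, ρ g v₀ = u}) with h0 | h0
      · rw [h0, mul_zero] at e2
        exact absurd e2.symm Nat.card_pos.ne'
      · exact h0
    exact Nat.eq_of_mul_eq_mul_right hpos (e1.trans e2.symm)
  · refine ⟨0, fun v hv => ?_⟩
    exact absurd ⟨v, hv⟩ h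

end Cfsg.Agent.Lib.Helper89_HT_STAB
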