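import Mathlib
import Cfsg.Prelude.Def_Transfer
import Cfsg.Agent.Lib.Helper63_Heisenberg

/-!
Classification of the extraspecial `p`-groups of exponent `p`: each is isomorphic to a Heisenberg
group `Helper63_Heisenberg.Heis m p` (helper89).  The argument splits off one block `⟨x, y⟩` at a
time, as in `Helper89_ESClass`.
-/

set_option autoImplicit false
open Cfsg

namespace Cfsg.Agent.Lib.Helper89_HeisClass

open Cfsg.Agent.Lib.Helper63_Heisenberg

section block
variable {p : ℕ} [Fact p.Prime] {E : Type*} [Group E]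

/-- `g ^ t` for `t : ZMod p`. -/
def pw (g : E) (t : ZMod p) : E := g ^ t.val

@[simp] theorem pw_zero (g : E) : pw g (0 : ZMod p) = 1 := by simp [pw]
@[simp] theorem pw_one (g : E) : pw g (1 : ZMod p) = g := by
  simp [pw, ZMod.val_one]

theorem pw_add {g : E} (hg : g ^ p = 1) (s t : ZMod p) : pw g (s + t) = pw g s * pw g t := by
  unfold pw
  rw [ZMod.val_add, ← pow_add, ← pow_eq_pow_mod _ hg]

theorem pw_natCast {g : E} (hg : g ^ p = 1) (n : ℕ) : pw g (n : ZMod p) = g ^ n := by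
  unfold pw
  rw [ZMod.val_natCast, ← pow_eq_pow_mod _ hg]

omit [Fact p.Prime] in
theorem pw_comm {z : E} (hzc : ∀ g, z * g = g * z) (t : ZMod p) (g : E) : pw z t * g = g * pw z t := by
  unfold pw
  exact (Commute.pow_left (hzc g) _).eq

omit [Fact p.Prime] in
theorem pw_pow_p {g : E} (hg : g ^ p = 1) (t : ZMod p) : (pw g t) ^ p = 1 := by
  unfold pw
  rw [← pow_mul, mul_comm, pow_mul, hg, one_pow]

/-- `g` and `h` commute up to the central factor `z ^ s`. -/
def SC (z : E) (s : ZMod p) (g h : E) : Prop := g * h = pw z s * (h * g)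

variable {z : E}

theorem SC_zero_iff {g h : E} : SC z (0 : ZMod p) g h ↔ g * h = h * g := by
  unfold SC
  rw [pw_zero, one_mul]

theorem SC_mul (hzp : z ^ p = 1) (hzc : ∀ g, z * g = g * z) {s s' : ZMod p} {g g' h : E}
    (h1 : SC z s g h) (h2 : SC z s' g' h) : SC z (s + s') (g * g') h := by
  unfold SC at *
  rw [mul_assoc, h2, ← mul_assoc, ← pw_comm hzc, mul_assoc, ← mul_assoc g, h1, pw_add hzp]
  simp only [mul_assoc]
  rw [← mul_assoc (pw z s'), pw_comm hzc s', mul_assoc]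

theorem SC_inv (hzp : z ^ p = 1) (hzc : ∀ g, z * g = g * z) {s : ZMod p} {g h : E}
    (h1 : SC z s g h) : SC z (-s) g⁻¹ h := by
  unfold SC at *
  have h2 : pw z (-s) * pw z s = 1 := by
    rw [← pw_add hzp, neg_add_cancel, pw_zero]
  have h3 : h * g⁻¹ = pw z s * (g⁻¹ * h) := by
    have : h = pw z s * (g⁻¹ * h * g) := by
      calc h = g⁻¹ * (g * h) := by group
        _ = g⁻¹ * (pw z s * (h * g)) := by rw [h1]
        _ = pw z s * (g⁻¹ * h * g) := by
          rw [← mul_assoc, ← pw_comm hzc]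
          simp only [mul_assoc]
    calc h * g⁻¹ = pw z s * (g⁻¹ * h * g) * g⁻¹ := by rw [← this]
      _ = pw z s * (g⁻¹ * h) := by group
  calc g⁻¹ * h = pw z (-s) * pw z s * (g⁻¹ * h) := by rw [h2, one_mul]
    _ = pw z (-s) * (h * g⁻¹) := by rw [mul_assoc, ← h3]

theorem SC_symm (hzp : z ^ p = 1) {s : ZMod p} {g h : E} (h1 : SC z s g h) :
    SC z (-s) h g := by
  unfold SC at *
  have h2 : pw z (-s) * pw z s = 1 := by
    rw [← pw_add hzp, neg_add_cancel, pw_zero]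
  rw [h1, ← mul_assoc, h2, one_mul]

theorem SC_pow (hzp : z ^ p = 1) (hzc : ∀ g, z * g = g * z) {s : ZMod p} {g h : E}
    (h1 : SC z s g h) (n : ℕ) : SC z ((n : ZMod p) * s) (g ^ n) h := by
  induction n with
  | zero =>
    rw [Nat.cast_zero, zero_mul, pow_zero, SC_zero_iff]
    simp
  | succ n ih =>
    rw [pow_succ]
    have := SC_mul hzp hzc ih h1
    have e : ((n : ZMod p) * s + s) = ((n + 1 : ℕ) : ZMod p) * s := by push_cast; ring
    rwa [e] at this

theorem SC_pw (hzp : z ^ p = 1) (hzc : ∀ g, z * g = g * z) {s : ZMod p} {g h : E}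
    (h1 : SC z s g h) (t : ZMod p) : SC z (t * s) (pw g t) h := by
  have := SC_pow hzp hzc h1 t.val
  rwa [ZMod.natCast_zmod_val] at this

theorem SC_pw_right (hzp : z ^ p = 1) (hzc : ∀ g, z * g = g * z) {s : ZMod p} {g h : E}
    (h1 : SC z s g h) (t : ZMod p) : SC z (s * t) g (pw h t) := by
  have h2 := SC_symm hzp (SC_pw hzp hzc (SC_symm hzp h1) t)
  have e : -(t * -s) = s * t := by ring
  rwa [e] at h2

theorem SC_unique (hz1 : z ≠ 1) (hzp : z ^ p = 1) {s s' : ZMod p} {g h : E} (h1 : SC z s g h)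
    (h2 : SC z s' g h) : s = s' := by
  unfold SC at *
  rw [h1] at h2
  have h3 : pw z s = pw z s' := mul_right_cancel h2
  unfold pw at h3
  have ho : orderOf z = p := orderOf_eq_prime hzp hz1
  rw [pow_eq_pow_iff_modEq, ho] at h3
  have h4 : s.val = s'.val := by
    have := Nat.ModEq.eq_of_lt_of_lt h3 (ZMod.val_lt s) (ZMod.val_lt s')
    exact this
  exact ZMod.val_injective p h4

/-- the basic block map `(a, b) ↦ y ^ b * x ^ a` -/
def φ₁ (x y : E) (u : ZMod p × ZMod p) : E := pw y u.2 * pw x u.1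

@[simp] theorem φ₁_zero (x y : E) : φ₁ x y (0 : ZMod p × ZMod p) = 1 := by simp [φ₁]

theorem φ₁_mul {x y : E} (hzp : z ^ p = 1) (hzc : ∀ g, z * g = g * z)
    (hxy : SC z (1 : ZMod p) x y) (hx : x ^ p = 1) (hy : y ^ p = 1) (u u' : ZMod p × ZMod p) :
    φ₁ x y u * φ₁ x y u' = φ₁ x y (u + u') * pw z (u.1 * u'.2) := by
  obtain ⟨a, b⟩ := u
  obtain ⟨a', b'⟩ := u'
  simp only [φ₁, Prod.mk_add_mk]
  have hs : pw x a * pw y b' = pw z (a * b') * (pw y b' * pw x a) := by
    have := SC_pw_right hzp hzc (SC_pw hzp hzc hxy a) b'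
    rw [mul_one] at this
    exact this
  calc pw y b * pw x a * (pw y b' * pw x a')
      = pw y b * (pw x a * pw y b') * pw x a' := by simp only [mul_assoc]
    _ = pw y b * (pw z (a * b') * (pw y b' * pw x a)) * pw x a' := by rw [hs]
    _ = pw z (a * b') * ((pw y b * pw y b') * (pw x a * pw x a')) := by
      rw [← mul_assoc (pw y b), ← pw_comm hzc]
      simp only [mul_assoc]
    _ = pw z (a * b') * (pw y (b + b') * pw x (a + a')) := by rw [pw_add hy, pw_add hx]
    _ = pw y (b + b') * pw x (a + a') * pw z (a * b') := by rw [pw_comm hzc]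

omit [Fact p.Prime] in
theorem comm_pw {g x : E} (h : g * x = x * g) (t : ZMod p) : g * pw x t = pw x t * g := by
  unfold pw
  exact (Commute.pow_right h _).eq

omit [Fact p.Prime] in
theorem comm_φ₁ {g x y : E} (hx : g * x = x * g) (hy : g * y = y * g) (u : ZMod p × ZMod p) :
    g * φ₁ x y u = φ₁ x y u * g := by
  unfold φ₁
  rw [← mul_assoc, comm_pw hy, mul_assoc, comm_pw hx, mul_assoc]

end block

section split
variable {p : ℕ} [Fact p.Prime] {E : Type*} [Group E] {m : ℕ}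

/-- the central element `(0, 0, t)` -/
def cen (m p : ℕ) (t : ZMod p) : Heis m p := ⟨0, 0, t⟩

theorem map_cen {z : E} (Φ₂ : Heis m p →* E) (hΦz : Φ₂ (cen m p 1) = z)
    (t : ZMod p) : Φ₂ (cen m p t) = pw z t := by
  have h1 : ∀ n : ℕ, (cen m p 1) ^ n = cen m p (n : ZMod p) := by
    intro n
    induction n with
    | zero => ext <;> simp [cen]
    | succ n ih =>
      rw [pow_succ, ih]
      ext <;> simp [cen]
  have h2 : cen m p t = (cen m p 1) ^ t.val := by
    rw [h1, ZMod.natCast_zmod_val]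
  rw [h2, map_pow, hΦz]
  rfl

theorem dot_snoc (a b : Fin (m + 1) → ZMod p) :
    a ⬝ᵥ b = Fin.init a ⬝ᵥ Fin.init b + a (Fin.last m) * b (Fin.last m) := by
  unfold dotProduct
  rw [Fin.sum_univ_castSucc]
  rfl

theorem mk_mul_mk_mul_cen (a b a' b' : Fin m → ZMod p) (c d t : ZMod p) :
    (⟨a + a', b + b', c + d + (a ⬝ᵥ b' + t)⟩ : Heis m p) = ⟨a, b, c⟩ * ⟨a', b', d⟩ * cen m p t := by
  ext <;> simp [cen]
  ring

/-- the homomorphism obtained by adjoining one block -/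
def bigHom (x y z : E) (hzp : z ^ p = 1) (hzc : ∀ g, z * g = g * z)
    (hxy : SC z (1 : ZMod p) x y) (hx : x ^ p = 1) (hy : y ^ p = 1)
    (Φ₂ : Heis m p →* E) (hΦz : Φ₂ (cen m p 1) = z)
    (hcx : ∀ q, Φ₂ q * x = x * Φ₂ q) (hcy : ∀ q, Φ₂ q * y = y * Φ₂ q) :
    Heis (m + 1) p →* E where
  toFun q := φ₁ x y (q.a (Fin.last m), q.b (Fin.last m)) * Φ₂ ⟨Fin.init q.a, Fin.init q.b, q.c⟩
  map_one' := by
    have h1 : (⟨Fin.init (1 : Heis (m + 1) p).a, Fin.init (1 : Heis (m + 1) p).b,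
        (1 : Heis (m + 1) p).c⟩ : Heis m p) = 1 := rfl
    rw [h1, map_one, mul_one]
    exact φ₁_zero x y
  map_mul' q r := by
    have h1 : (⟨Fin.init (q * r).a, Fin.init (q * r).b, (q * r).c⟩ : Heis m p) =
        ⟨Fin.init q.a, Fin.init q.b, q.c⟩ * ⟨Fin.init r.a, Fin.init r.b, r.c⟩ *
          cen m p (q.a (Fin.last m) * r.b (Fin.last m)) := by
      rw [← mk_mul_mk_mul_cen, Heis.mul_c, dot_snoc]
      rfl
    rw [h1, map_mul, map_mul, map_cen Φ₂ hΦz]
    have h2 : ((q * r).a (Fin.last m), (q * r).b (Fin.last m)) =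
        (q.a (Fin.last m), q.b (Fin.last m)) + (r.a (Fin.last m), r.b (Fin.last m)) := rfl
    rw [h2]
    have h3 : φ₁ x y (q.a (Fin.last m), q.b (Fin.last m)) * Φ₂ ⟨Fin.init q.a, Fin.init q.b, q.c⟩ *
        (φ₁ x y (r.a (Fin.last m), r.b (Fin.last m)) * Φ₂ ⟨Fin.init r.a, Fin.init r.b, r.c⟩) =
        φ₁ x y (q.a (Fin.last m), q.b (Fin.last m)) * φ₁ x y (r.a (Fin.last m), r.b (Fin.last m)) *
          (Φ₂ ⟨Fin.init q.a, Fin.init q.b, q.c⟩ * Φ₂ ⟨Fin.init r.a, Fin.init r.b, r.c⟩) := by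
      rw [mul_assoc, ← mul_assoc (Φ₂ ⟨Fin.init q.a, Fin.init q.b, q.c⟩), comm_φ₁ (hcx _) (hcy _)]
      simp only [mul_assoc]
    rw [h3, φ₁_mul hzp hzc hxy hx hy, mul_assoc, mul_assoc, pw_comm hzc]
    simp only [mul_assoc]

theorem bigHom_apply (x y z : E) (hzp : z ^ p = 1) (hzc : ∀ g, z * g = g * z)
    (hxy : SC z (1 : ZMod p) x y) (hx : x ^ p = 1) (hy : y ^ p = 1)
    (Φ₂ : Heis m p →* E) (hΦz : Φ₂ (cen m p 1) = z)
    (hcx : ∀ q, Φ₂ q * x = x * Φ₂ q) (hcy : ∀ q, Φ₂ q * y = y * Φ₂ q) (q : Heis (m + 1) p) :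
    bigHom x y z hzp hzc hxy hx hy Φ₂ hΦz hcx hcy q =
      φ₁ x y (q.a (Fin.last m), q.b (Fin.last m)) * Φ₂ ⟨Fin.init q.a, Fin.init q.b, q.c⟩ := rfl

end split

/-- `E` has centre `⟨z⟩` of order `p`, commutators in the centre, and exponent `p`. -/
structure IsESp (p : ℕ) (E : Type*) [Group E] (z : E) : Prop where
  ne_one : z ≠ 1
  central : ∀ g : E, z * g = g * z
  center : ∀ g : E, (∀ h, g * h = h * g) → ∃ k : ZMod p, g = z ^ k.val
  comm : ∀ g h : E, ∃ k : ZMod p, g * h = z ^ k.val * (h * g)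
  exp : ∀ g : E, g ^ p = 1

namespace IsESp
variable {p : ℕ} [Fact p.Prime] {E : Type*} [Group E] {z : E}

omit [Fact p.Prime] in
theorem exists_SC (hE : IsESp p E z) (g h : E) : ∃ s : ZMod p, SC z s g h := hE.comm g h

/-- the centralizer of the pair `x, y` -/
def cent (x y : E) : Subgroup E := Subgroup.centralizer ({x, y} : Set E)

omit [Fact p.Prime] in
theorem mem_cent {x y g : E} : g ∈ cent x y ↔ g * x = x * g ∧ g * y = y * g := by
  unfold cent
  rw [Subgroup.mem_centralizer_iff]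
  constructor
  · intro h
    exact ⟨(h x (by simp)).symm, (h y (by simp)).symm⟩
  · rintro ⟨h1, h2⟩ k hk
    rcases hk with rfl | rfl
    · exact h1.symm
    · exact h2.symm

theorem SC_φ₁_x (hE : IsESp p E z) {x y : E} (hxy : SC z (1 : ZMod p) x y) (u : ZMod p × ZMod p) :
    SC z (-u.2) (φ₁ x y u) x := by
  have h1 : SC z (-1 : ZMod p) y x := SC_symm (hE.exp z) hxy
  have h2 : SC z (0 : ZMod p) x x := SC_zero_iff.2 rfl
  have h3 := SC_mul (hE.exp z) hE.central (SC_pw (hE.exp z) hE.central h1 u.2)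
    (SC_pw (hE.exp z) hE.central h2 u.1)
  have h4 : u.2 * -1 + u.1 * 0 = -u.2 := by ring
  rw [h4] at h3
  exact h3

theorem SC_φ₁_y (hE : IsESp p E z) {x y : E} (hxy : SC z (1 : ZMod p) x y) (u : ZMod p × ZMod p) :
    SC z u.1 (φ₁ x y u) y := by
  have h2 : SC z (0 : ZMod p) y y := SC_zero_iff.2 rfl
  have h3 := SC_mul (hE.exp z) hE.central (SC_pw (hE.exp z) hE.central h2 u.2)
    (SC_pw (hE.exp z) hE.central hxy u.1)
  have h4 : u.2 * 0 + u.1 * 1 = u.1 := by ring
  rw [h4] at h3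
  exact h3

theorem exists_factor (hE : IsESp p E z) {x y : E} (hxy : SC z (1 : ZMod p) x y) (g : E) :
    ∃ u : ZMod p × ZMod p, (φ₁ x y u)⁻¹ * g ∈ cent x y := by
  obtain ⟨sx, hsx⟩ := hE.exists_SC g x
  obtain ⟨sy, hsy⟩ := hE.exists_SC g y
  refine ⟨(sy, -sx), ?_⟩
  rw [mem_cent]
  constructor
  · have h1 := SC_mul (hE.exp z) hE.central
      (SC_inv (hE.exp z) hE.central (hE.SC_φ₁_x hxy (sy, -sx))) hsx
    have e : - -(sy, -sx).2 + sx = 0 := by simp
    rw [e] at h1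
    exact SC_zero_iff.1 h1
  · have h1 := SC_mul (hE.exp z) hE.central
      (SC_inv (hE.exp z) hE.central (hE.SC_φ₁_y hxy (sy, -sx))) hsy
    have e : -(sy, -sx).1 + sy = 0 := by simp
    rw [e] at h1
    exact SC_zero_iff.1 h1

omit [Fact p.Prime] in
theorem z_mem_cent (hE : IsESp p E z) (x y : E) : z ∈ cent x y :=
  mem_cent.2 ⟨hE.central x, hE.central y⟩

theorem cent_isESp (hE : IsESp p E z) {x y : E} (hxy : SC z (1 : ZMod p) x y) :
    IsESp p (cent x y) ⟨z, hE.z_mem_cent x y⟩ where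
  ne_one := fun h => hE.ne_one (congrArg Subtype.val h)
  central := fun g => Subtype.ext (hE.central g)
  center := by
    intro w hw
    have h1 : ∀ g : E, (w : E) * g = g * w := by
      intro g
      obtain ⟨u, hu⟩ := hE.exists_factor hxy g
      have h2 := congrArg Subtype.val (hw ⟨_, hu⟩)
      have h3 : (w : E) * ((φ₁ x y u)⁻¹ * g) = (φ₁ x y u)⁻¹ * g * w := h2
      have hwc := mem_cent.1 w.2
      have h4 := comm_φ₁ hwc.1 hwc.2 u
      have h5 : g = φ₁ x y u * ((φ₁ x y u)⁻¹ * g) := by group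
      rw [h5, ← mul_assoc, h4, mul_assoc, h3]
      simp only [mul_assoc]
    obtain ⟨k, hk⟩ := hE.center w h1
    exact ⟨k, Subtype.ext (by rw [hk]; rfl)⟩
  comm := by
    intro g h
    obtain ⟨k, hk⟩ := hE.comm g h
    exact ⟨k, Subtype.ext (by
      show (g : E) * h = ((⟨z, hE.z_mem_cent x y⟩ : cent x y) ^ k.val : cent x y) * ((h : E) * g)
      rw [hk]; rfl)⟩
  exp := fun g => Subtype.ext (by
    show ((g ^ p : cent x y) : E) = 1
    rw [Subgroup.coe_pow, hE.exp])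

theorem x_not_mem_cent (hE : IsESp p E z) {x y : E} (hxy : SC z (1 : ZMod p) x y) :
    x ∉ cent x y := by
  intro h
  have h1 := (mem_cent.1 h).2
  have h2 : SC z (0 : ZMod p) x y := SC_zero_iff.2 h1
  have := SC_unique hE.ne_one (hE.exp z) hxy h2
  exact one_ne_zero this

theorem exists_iso_snoc (hE : IsESp p E z) {x y : E} (hxy : SC z (1 : ZMod p) x y) {m : ℕ}
    (Φ₂ : Heis m p ≃* cent x y) (hΦz : Φ₂ (cen m p 1) = ⟨z, hE.z_mem_cent x y⟩) :
    ∃ Φ : Heis (m + 1) p ≃* E, Φ (cen (m + 1) p 1) = z := by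
  have hΦz' : ((cent x y).subtype.comp Φ₂.toMonoidHom) (cen m p 1) = z := congrArg Subtype.val hΦz
  have hcx : ∀ q, ((cent x y).subtype.comp Φ₂.toMonoidHom) q * x =
      x * ((cent x y).subtype.comp Φ₂.toMonoidHom) q := fun q => (mem_cent.1 (Φ₂ q).2).1
  have hcy : ∀ q, ((cent x y).subtype.comp Φ₂.toMonoidHom) q * y =
      y * ((cent x y).subtype.comp Φ₂.toMonoidHom) q := fun q => (mem_cent.1 (Φ₂ q).2).2
  have hinj : Function.Injective
      (bigHom x y z (hE.exp z) hE.central hxy (hE.exp x) (hE.exp y) _ hΦz' hcx hcy) := by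
    rw [injective_iff_map_eq_one]
    intro q hq
    rw [bigHom_apply] at hq
    have h1 : φ₁ x y (q.a (Fin.last m), q.b (Fin.last m)) ∈ cent x y := by
      have : φ₁ x y (q.a (Fin.last m), q.b (Fin.last m)) =
          (((cent x y).subtype.comp Φ₂.toMonoidHom) ⟨Fin.init q.a, Fin.init q.b, q.c⟩)⁻¹ :=
        eq_inv_of_mul_eq_one_left hq
      rw [this]
      exact (cent x y).inv_mem (Φ₂ _).2
    have h2 := mem_cent.1 h1
    have hb : -(q.b (Fin.last m)) = 0 :=
      SC_unique hE.ne_one (hE.exp z) (hE.SC_φ₁_x hxy _) (SC_zero_iff.2 h2.1)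
    have hb' : q.b (Fin.last m) = 0 := neg_eq_zero.1 hb
    have ha : q.a (Fin.last m) = 0 :=
      SC_unique hE.ne_one (hE.exp z) (hE.SC_φ₁_y hxy _) (SC_zero_iff.2 h2.2)
    rw [ha, hb'] at hq
    have h0 : φ₁ x y ((0 : ZMod p), (0 : ZMod p)) = 1 := φ₁_zero x y
    rw [h0, one_mul] at hq
    have h3 : Φ₂ ⟨Fin.init q.a, Fin.init q.b, q.c⟩ = 1 := Subtype.ext hq
    have h4 : (⟨Fin.init q.a, Fin.init q.b, q.c⟩ : Heis m p) = 1 := by
      rw [← Φ₂.map_one] at h3
      exact Φ₂.injective h3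
    have h5 : Fin.init q.a = 0 := congrArg Heis.a h4
    have h6 : Fin.init q.b = 0 := congrArg Heis.b h4
    have h7 : q.c = 0 := congrArg Heis.c h4
    apply Heis.ext
    · funext i
      refine Fin.lastCases ?_ (fun j => ?_) i
      · exact ha
      · exact congrFun h5 j
    · funext i
      refine Fin.lastCases ?_ (fun j => ?_) i
      · exact hb'
      · exact congrFun h6 j
    · exact h7
  have hsurj : Function.Surjective
      (bigHom x y z (hE.exp z) hE.central hxy (hE.exp x) (hE.exp y) _ hΦz' hcx hcy) := by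
    intro g
    obtain ⟨u, hu⟩ := hE.exists_factor hxy g
    refine ⟨⟨Fin.snoc (α := fun _ => ZMod p) (Φ₂.symm ⟨_, hu⟩).a u.1,
      Fin.snoc (α := fun _ => ZMod p) (Φ₂.symm ⟨_, hu⟩).b u.2, (Φ₂.symm ⟨_, hu⟩).c⟩, ?_⟩
    rw [bigHom_apply]
    simp only [Fin.snoc_last, Fin.init_snoc]
    have h1 : ((cent x y).subtype.comp Φ₂.toMonoidHom)
        ⟨(Φ₂.symm ⟨_, hu⟩).a, (Φ₂.symm ⟨_, hu⟩).b, (Φ₂.symm ⟨_, hu⟩).c⟩ = (φ₁ x y u)⁻¹ * g := by
      show ((Φ₂ (Φ₂.symm ⟨_, hu⟩) : cent x y) : E) = _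
      rw [MulEquiv.apply_symm_apply]
    rw [h1]
    group
  refine ⟨MulEquiv.ofBijective _ ⟨hinj, hsurj⟩, ?_⟩
  show bigHom x y z (hE.exp z) hE.central hxy (hE.exp x) (hE.exp y) _ hΦz' hcx hcy
    (cen (m + 1) p 1) = z
  rw [bigHom_apply]
  have h1 : ((cen (m + 1) p 1).a (Fin.last m), (cen (m + 1) p 1).b (Fin.last m)) =
      ((0 : ZMod p), (0 : ZMod p)) := rfl
  have h0 : φ₁ x y ((0 : ZMod p), (0 : ZMod p)) = 1 := φ₁_zero x y
  rw [h1, h0, one_mul]
  exact hΦz'

end IsESp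

section base
variable {p : ℕ} [Fact p.Prime] {E : Type*} [Group E] {z : E}

/-- the base case: a group of order `p` -/
theorem exists_iso_zero (hz1 : z ≠ 1) (hzp : z ^ p = 1) (hall : ∀ g : E, ∃ k : ZMod p, g = z ^ k.val) :
    ∃ Φ : Heis 0 p ≃* E, Φ (cen 0 p 1) = z := by
  let f : Heis 0 p →* E :=
    { toFun := fun q => pw z q.c
      map_one' := by
        show pw z (1 : Heis 0 p).c = 1
        rw [Heis.one_c, pw_zero]
      map_mul' := by
        intro q r
        show pw z (q * r).c = pw z q.c * pw z r.c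
        rw [Heis.mul_c]
        have : q.a ⬝ᵥ r.b = 0 := by simp [dotProduct]
        rw [this, add_zero, pw_add hzp] }
  have hf : ∀ q, f q = pw z q.c := fun _ => rfl
  have hinj : Function.Injective f := by
    rw [injective_iff_map_eq_one]
    intro q hq
    rw [hf] at hq
    apply Heis.ext
    · exact Subsingleton.elim _ _
    · exact Subsingleton.elim _ _
    · have ho : orderOf z = p := orderOf_eq_prime hzp hz1
      unfold pw at hq
      have h1 : p ∣ q.c.val := by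
        have h0 : orderOf z ∣ q.c.val := orderOf_dvd_of_pow_eq_one hq
        generalize q.c.val = nn at h0 ⊢
        rwa [ho] at h0
      have h2 : q.c.val = 0 := Nat.eq_zero_of_dvd_of_lt h1 (ZMod.val_lt _)
      exact (ZMod.val_eq_zero _).1 h2
  have hsurj : Function.Surjective f := by
    intro g
    obtain ⟨k, hk⟩ := hall g
    exact ⟨cen 0 p k, by rw [hf, hk]; rfl⟩
  refine ⟨MulEquiv.ofBijective f ⟨hinj, hsurj⟩, ?_⟩
  show f (cen 0 p 1) = z
  rw [hf]
  exact pw_one z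

end base

universe u

/-- **Classification**: a finite group with centre `⟨z⟩` of order `p`, commutators in the centre and
exponent `p` is a Heisenberg group. -/
theorem classify {p : ℕ} [Fact p.Prime] (n : ℕ) : ∀ (E : Type u) [Group E] [Finite E] (z : E),
    Nat.card E = n → IsESp p E z → ∃ m : ℕ, ∃ Φ : Heis m p ≃* E, Φ (cen m p 1) = z := by
  induction n using Nat.strong_induction_on with
  | _ n ih =>
  intro E _ _ z hn hE
  by_cases hab : ∀ g h : E, g * h = h * g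
  · have hall : ∀ g : E, ∃ k : ZMod p, g = z ^ k.val := fun g => hE.center g (hab g)
    obtain ⟨Φ, hΦ⟩ := exists_iso_zero hE.ne_one (hE.exp z) hall
    exact ⟨0, Φ, hΦ⟩
  · push Not at hab
    obtain ⟨g₀, h₀, hgh⟩ := hab
    obtain ⟨k, hk⟩ := hE.exists_SC g₀ h₀
    have hk0 : k ≠ 0 := by
      intro h
      rw [h] at hk
      exact hgh (SC_zero_iff.1 hk)
    have hxy : SC z (1 : ZMod p) g₀ (pw h₀ k⁻¹) := by
      have := SC_pw_right (hE.exp z) hE.central hk k⁻¹
      rwa [mul_inv_cancel₀ hk0] at this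
    have hcard : Nat.card (IsESp.cent g₀ (pw h₀ k⁻¹)) < n := by
      rw [← hn]
      refine lt_of_le_of_ne (Subgroup.card_le_card_group _) (fun h => ?_)
      have := Subgroup.eq_top_of_card_eq _ h
      exact hE.x_not_mem_cent hxy (this ▸ Subgroup.mem_top g₀)
    obtain ⟨m', Φ₂, hΦ₂⟩ := ih _ hcard (IsESp.cent g₀ (pw h₀ k⁻¹)) ⟨z, hE.z_mem_cent _ _⟩ rfl
      (hE.cent_isESp hxy)
    obtain ⟨Φ, hΦ⟩ := hE.exists_iso_snoc hxy Φ₂ hΦ₂
    exact ⟨m' + 1, Φ, hΦ⟩

open scoped commutatorElement in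
theorem isESp_of_isExtraspecial {p : ℕ} [Fact p.Prime] {E : Type*} [Group E] [Finite E]
    (h : IsExtraspecial p E) (hexp : Monoid.exponent E = p) : ∃ z : E, IsESp p E z := by
  obtain ⟨⟨-, -, hcm⟩, hc⟩ := h
  have hnt : Nontrivial (Subgroup.center E) := by
    rw [← Finite.one_lt_card_iff_nontrivial, hc]
    exact (Fact.out : p.Prime).one_lt
  obtain ⟨zc, hz1⟩ := exists_ne (1 : Subgroup.center E)
  have htop : Subgroup.zpowers zc = ⊤ := zpowers_eq_top_of_prime_card hc hz1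
  have hexpg : ∀ g : E, g ^ p = 1 := fun g => hexp ▸ Monoid.pow_exponent_eq_one g
  have hcen : ∀ g : E, g ∈ Subgroup.center E → ∃ k : ZMod p, g = (zc : E) ^ k.val := by
    intro g hg
    have h1 : (⟨g, hg⟩ : Subgroup.center E) ∈ Subgroup.zpowers zc := htop ▸ Subgroup.mem_top _
    rw [← mem_powers_iff_mem_zpowers] at h1
    obtain ⟨n, hn⟩ := h1
    refine ⟨(n : ZMod p), ?_⟩
    have h2 : (zc : E) ^ n = g := by
      have := congrArg Subtype.val hn
      simpa using this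
    have h3 := pw_natCast (hexpg (zc : E)) n
    unfold pw at h3
    rw [h3, h2]
  refine ⟨zc, fun h => hz1 (Subtype.ext h), fun g => ((Subgroup.mem_center_iff.1 zc.2) g).symm,
    ?_, ?_, hexpg⟩
  · intro g hg
    exact hcen g (Subgroup.mem_center_iff.2 (fun h => (hg h).symm))
  · intro g k
    have h1 : ⁅g, k⁆ ∈ commutator E :=
      Subgroup.commutator_mem_commutator (Subgroup.mem_top g) (Subgroup.mem_top k)
    rw [hcm] at h1
    obtain ⟨s, hs⟩ := hcen _ h1
    refine ⟨s, ?_⟩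
    rw [commutatorElement_def] at hs
    calc g * k = (g * k * g⁻¹ * k⁻¹) * (k * g) := by group
      _ = (zc : E) ^ s.val * (k * g) := by rw [hs]

/-- every finite extraspecial `p`-group of exponent `p` is a Heisenberg group -/
theorem exists_iso_heis {p : ℕ} [Fact p.Prime] {E : Type u} [Group E] [Finite E]
    (h : IsExtraspecial p E) (hexp : Monoid.exponent E = p) :
    ∃ m : ℕ, Nonempty (Heis m p ≃* E) := by
  obtain ⟨z, hz⟩ := isESp_of_isExtraspecial h hexp
  obtain ⟨m, Φ, -⟩ := classify (Nat.card E) E z rfl hz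
  exact ⟨m, ⟨Φ⟩⟩

theorem card_eq_of_iso {p : ℕ} [Fact p.Prime] {E : Type*} [Group E] {m : ℕ} (Φ : Heis m p ≃* E) :
    Nat.card E = p ^ (1 + 2 * m) := by
  rw [← Nat.card_congr Φ.toEquiv, Heis.card]

theorem eq_of_card_eq {p : ℕ} [Fact p.Prime] {m m' : ℕ} (h : p ^ (1 + 2 * m) = p ^ (1 + 2 * m')) :
    m = m' := by
  have := Nat.pow_right_injective (Fact.out : p.Prime).two_le h
  omega

end Cfsg.Agent.Lib.Helper89_HeisClass
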