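import Cfsg.Agent.Lib.Helper49_KnDefs
import Cfsg.Agent.Lib.Helper65_S3693
import Cfsg.Agent.Lib.Helper99_Kn_COREDVD
import Cfsg.Agent.Lib.Helper99_Kn_ALTCOMM
import Cfsg.Agent.Lib.Helper82_Kn_ALTPART

/-!
# S3687 package ALTSMALL (architect helper49): a subgroup of index `< d` containing the kernel
contains the alternating part
-/

namespace Cfsg.Agent.Lib.Helper91_Kn_ALTSMALL

open Cfsg Cfsg.Agent.Lib.Helper47_TW Cfsg.Agent.Lib.Helper49_KnDefs

universe u v

section Abstract

variable {G : Type u} [Group G] [Finite G]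

/-- PACKAGE ALTSMALL. -/
theorem as_small {d : ℕ} {M T H : Subgroup G} (h : AS d M T) (hd : 5 ≤ d)
    (hKH : relCore M T ≤ H) (hHM : H ≤ M) (hlt : Nat.card M < d * Nat.card H) :
    altPart M T ≤ H := by
  have hKQ : relCore M T ≤ relCore M H :=
    le_relCore (relCore_le_left M T) hKH (le_normalizer_relCore M T)
  obtain ⟨hKA, hAM, -, -⟩ := Cfsg.Agent.Lib.Helper82_Kn_ALTPART.altPart_facts h hd
  by_cases hQK : relCore M H ≤ relCore M T
  · -- counting contradiction
    exfalso
    have hQeq : relCore M H = relCore M T := le_antisymm hQK hKQ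
    obtain ⟨k, hk⟩ := Subgroup.card_dvd_of_le hHM
    have hHpos : 0 < Nat.card H := Nat.card_pos
    have hKpos : 0 < Nat.card (relCore M T) := Nat.card_pos
    have hk' : Nat.card M = k * Nat.card H := by rw [hk, mul_comm]
    have hkd : k < d := by
      rw [hk'] at hlt
      exact lt_of_mul_lt_mul_right hlt (Nat.zero_le _)
    have hdvd := Cfsg.Agent.Lib.Helper99_Kn_COREDVD.card_dvd_relCore hHM hk'
    rw [hQeq] at hdvd
    have hle1 : Nat.card M ≤ k.factorial * Nat.card (relCore M T) :=
      Nat.le_of_dvd (Nat.mul_pos (Nat.factorial_pos k) hKpos) hdvd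
    have hle2 : k.factorial ≤ (d - 1).factorial := Nat.factorial_le (by omega)
    have hle3 : Nat.card M ≤ (d - 1).factorial * Nat.card (relCore M T) :=
      hle1.trans (Nat.mul_le_mul_right _ hle2)
    have h3 := h.2.2
    have hfac : d.factorial = d * (d - 1).factorial := by
      obtain ⟨e, rfl⟩ : ∃ e, d = e + 1 := ⟨d - 1, by omega⟩
      rw [Nat.factorial_succ, Nat.add_sub_cancel]
    rw [hfac] at h3
    have hpos : 0 < (d - 1).factorial * Nat.card (relCore M T) :=
      Nat.mul_pos (Nat.factorial_pos _) hKpos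
    have h4 : d * ((d - 1).factorial * Nat.card (relCore M T)) ≤
        2 * ((d - 1).factorial * Nat.card (relCore M T)) := by
      calc d * ((d - 1).factorial * Nat.card (relCore M T))
          = d * (d - 1).factorial * Nat.card (relCore M T) := by ring
        _ ≤ 2 * Nat.card M := h3
        _ ≤ 2 * ((d - 1).factorial * Nat.card (relCore M T)) := Nat.mul_le_mul_left 2 hle3
    have h5 : d ≤ 2 := le_of_mul_le_mul_right h4 hpos
    omega
  · -- the commutator argument
    have hQM : relCore M H ≤ M := relCore_le_left M H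
    have hQn : M ≤ Subgroup.normalizer (relCore M H : Set G) := le_normalizer_relCore M H
    have hAU : altPart M T ≤ M ⊔ relCore M T := hAM.trans le_sup_left
    have hc := Cfsg.Agent.Lib.Helper99_Kn_ALTCOMM.as_comm h hd (le_refl M) hAU hQM hQn hQK hQM hQn hQK
    have hcomm : ⁅relCore M H, relCore M H⁆ ≤ relCore M H := by
      rw [Subgroup.commutator_le]
      intro a ha b hb
      exact (relCore M H).mul_mem ((relCore M H).mul_mem ((relCore M H).mul_mem ha hb)
        ((relCore M H).inv_mem ha)) ((relCore M H).inv_mem hb)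
    exact (hc.trans (sup_le hcomm hKQ)).trans (relCore_le_right M H)

end Abstract

end Cfsg.Agent.Lib.Helper91_Kn_ALTSMALL
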