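import Cfsg.Agent.Lib.Helper49_KnDefs
import Cfsg.Agent.Lib.Helper65_S3693
import Cfsg.Agent.Lib.Helper49_Kn_BASIC
import Cfsg.Agent.Lib.Helper91_Kn_ALTSMALL
import Cfsg.Agent.Lib.Helper99_Kn_ALTCOMM
import Cfsg.Agent.Lib.Helper82_Kn_ALTPART

/-!
S3687 package STEP4 (helper89, for helper49): if `altPart N (cj g T) ≰ T ⊔ Kb` then `Kb ≤ T`, `c1 N M = Kb`,
and the configuration is symmetric.
-/

namespace Cfsg.Agent.Lib.Helper89_Kn_STEP4

open Cfsg Cfsg.Agent.Lib.Helper47_TW Cfsg.Agent.Lib.Helper49_KnDefs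
open Cfsg.Agent.Lib.Helper49_Kn_BASIC Cfsg.Agent.Lib.Helper91_Kn_ALTSMALL
  Cfsg.Agent.Lib.Helper99_Kn_ALTCOMM Cfsg.Agent.Lib.Helper82_Kn_ALTPART

universe u v

section Abstract

variable {G : Type u} [Group G] [Finite G]

theorem step4 {d : ℕ} {M N : Subgroup G} {g : G} (h : Cfg d M N g)
    (hA : ¬ altPart N (cj g (M ⊓ N)) ≤ (M ⊓ N) ⊔ cj g (c1 M N)) : Sym d M N g := by
  obtain ⟨hNM, hNT, hasN', hcore, hKbN, hNKb, hcardKb⟩ := cfg_basic h
  have hd5 : 5 ≤ d := le_trans (by norm_num) h.hd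
  have hdpos : 0 < d := by omega
  set T : Subgroup G := M ⊓ N with hT
  set Kb : Subgroup G := cj g (c1 M N) with hKb
  set H : Subgroup G := T ⊔ Kb with hH
  have hTN : T ≤ N := inf_le_right
  have hHN : H ≤ N := sup_le hTN hKbN
  have hTH : T ≤ H := le_sup_left
  have hKbH : Kb ≤ H := le_sup_right
  -- `H = T`
  have hnlt : ¬ Nat.card N < d * Nat.card H := by
    intro hlt
    apply hA
    refine as_small hasN' hd5 ?_ hHN hlt
    rw [hcore]
    exact hKbH
  have hHT : T = H := by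
    apply Subgroup.eq_of_le_of_card_ge hTH
    rw [not_lt, hNT] at hnlt
    exact Nat.le_of_mul_le_mul_left hnlt hdpos
  have hKbT : Kb ≤ T := by
    rw [hHT]
    exact hKbH
  -- `Kb ≤ L`
  have hKbL : Kb ≤ c1 N M := by
    apply le_relCore hKbN ?_ hNKb
    intro x hx
    have := hKbT hx
    exact ⟨this.2, this.1⟩
  -- `L ≤ Kb`
  have hLKb : c1 N M ≤ Kb := by
    by_contra hLn
    apply hA
    have hAN : altPart N (cj g T) ≤ N := (altPart_facts hasN' hd5).2.1
    have h1 := as_comm (U := N) (Z₁ := c1 N M) (Z₂ := c1 N M) hasN' hd5 le_rfl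
      (le_trans hAN le_sup_left) (c1_le_left N M) (le_normalizer_relCore N _)
      (by rw [hcore]; exact hLn) (c1_le_left N M) (le_normalizer_relCore N _)
      (by rw [hcore]; exact hLn)
    rw [hcore] at h1
    refine le_trans h1 (sup_le ?_ le_sup_right)
    have hLT : c1 N M ≤ T := by
      intro x hx
      have := relCore_le_right N (N ⊓ M) hx
      exact ⟨this.2, this.1⟩
    have hcomm : ⁅c1 N M, c1 N M⁆ ≤ c1 N M := by
      rw [Subgroup.commutator_le]
      intro a ha b hb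
      rw [commutatorElement_def]
      exact Subgroup.mul_mem _ (Subgroup.mul_mem _ (Subgroup.mul_mem _ ha hb)
        (Subgroup.inv_mem _ ha)) (Subgroup.inv_mem _ hb)
    exact le_trans hcomm (le_trans hLT le_sup_left)
  have hLeq : c1 N M = Kb := le_antisymm hLKb hKbL
  refine ⟨h.setup, h.conj, h.hd, h.as, ⟨hTN, hNT, ?_⟩, h.ne, hLeq⟩
  have e1 : relCore N (M ⊓ N) = c1 N M := by
    unfold c1
    rw [inf_comm]
  rw [e1, hLeq, hcardKb, hNM]
  exact h.as.2.2

end Abstract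

end Cfsg.Agent.Lib.Helper89_Kn_STEP4
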