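import Cfsg.Agent.Lib.Helper49_KnDefs
import Cfsg.Agent.Lib.Helper65_S3693
import Cfsg.Agent.Lib.Helper91_Kn_ALTSMALL
import Cfsg.Agent.Lib.Helper10_Kn_ALTTRANS

/-!
S3687 package STEP5A (helper89, for helper49): `X = c1 M N ⊓ c1 N M` is normal in `M`, or all its conjugates by
`M ∖ T` differ from `X`.
-/

namespace Cfsg.Agent.Lib.Helper89_Kn_STEP5A

open Cfsg Cfsg.Agent.Lib.Helper47_TW Cfsg.Agent.Lib.Helper49_KnDefs
open Cfsg.Agent.Lib.Helper91_Kn_ALTSMALL Cfsg.Agent.Lib.Helper10_Kn_ALTTRANS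

universe u v

section Abstract

variable {G : Type u} [Group G] [Finite G]

theorem step5a {d : ℕ} {M N : Subgroup G} {g : G} (h : Sym d M N g) :
    M ≤ Subgroup.normalizer ((c1 M N ⊓ c1 N M : Subgroup G) : Set G) ∨
      ∀ m ∈ M, m ∉ M ⊓ N → cj m (c1 M N ⊓ c1 N M) ≠ c1 M N ⊓ c1 N M := by
  by_cases hex : ∃ m ∈ M, m ∉ M ⊓ N ∧ cj m (c1 M N ⊓ c1 N M) = c1 M N ⊓ c1 N M
  swap
  · right
    intro m hm hmT heq
    exact hex ⟨m, hm, hmT, heq⟩
  left
  obtain ⟨m, hm, hmT, heq⟩ := hex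
  have hd5 : 5 ≤ d := le_trans (by norm_num) h.hd
  set X : Subgroup G := c1 M N ⊓ c1 N M with hX
  set P : Subgroup G := Subgroup.normalizer (X : Set G) ⊓ M with hP
  -- `T ≤ P`
  have hTP : M ⊓ N ≤ P := by
    intro t ht
    refine ⟨?_, ht.1⟩
    exact mem_normalizer_inf (le_normalizer_relCore M _ ht.1) (le_normalizer_relCore N _ ht.2)
  have hmP : m ∈ P := ⟨Subgroup.mem_normalizer_iff_map_conj_eq.mpr heq, hm⟩
  have hPM : P ≤ M := inf_le_right
  -- `|T| < |P|`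
  have hlt : Nat.card ↥(M ⊓ N) < Nat.card P := by
    by_contra hge
    rw [not_lt] at hge
    have := Subgroup.eq_of_le_of_card_ge hTP hge
    rw [← this] at hmP
    exact hmT hmP
  have hcardM : Nat.card M = d * Nat.card ↥(M ⊓ N) := h.asM.2.1
  have hdpos : 0 < d := by omega
  have hlt' : Nat.card M < d * Nat.card P := by
    rw [hcardM]
    exact Nat.mul_lt_mul_of_pos_left hlt hdpos
  have hKP : relCore M (M ⊓ N) ≤ P := le_trans (relCore_le_right M (M ⊓ N)) hTP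
  have hAP : altPart M (M ⊓ N) ≤ P := as_small h.asM hd5 hKP hPM hlt'
  intro m' hm'
  obtain ⟨x, hx, t, ht, rfl⟩ := as_trans h.asM hd5 hAP m' hm'
  exact (P.mul_mem hx (hTP ht)).1

end Abstract

end Cfsg.Agent.Lib.Helper89_Kn_STEP5A
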