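import Mathlib
import Cfsg.Prelude.Def_FischerSpaces
import Cfsg.Prelude.Def_Solvable
import Cfsg.Agent.Lib.Helper89_Theta

/-!
# Sets of 3-transpositions whose local sets are lines

`LineHyp D` records a conjugation-invariant set `D` of 3-transpositions such that for every member
`d` the set `nbr D d` of other members commuting with `d` is a line `{a, b, a b a}` of pairwise
non-commuting members.  This file has the elementary consequences: the symmetric-group-of-degree-4
lemma, neighbour-closed subsets, and the divisibility by three of a neighbour-closed subset missing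
a member.
-/

set_option autoImplicit false
open Cfsg

namespace Cfsg.Agent.Lib.Helper89_LineBasics

open Cfsg.Agent.Lib.Helper89_Theta

variable {G : Type*} [Group G] {D : Set G}

/-- The local sets of `D` are lines. -/
structure LineHyp (D : Set G) : Prop where
  tt : IsThreeTranspositionSet D
  conj : ∀ g : G, ∀ d ∈ D, g * d * g⁻¹ ∈ D
  two : ∀ d ∈ D, ∃ a ∈ nbr D d, ∃ b ∈ nbr D d, a ≠ b
  ncomm : ∀ d ∈ D, ∀ a ∈ nbr D d, ∀ b ∈ nbr D d, a ≠ b → ¬ Commute a b
  line : ∀ d ∈ D, ∀ a ∈ nbr D d, ∀ b ∈ nbr D d, a ≠ b → nbr D d = {a, b, a * b * a}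

/-- If a product of two involutions commutes with a third involution braided with both, the
product is trivial. -/
theorem mul_eq_one_of_commute {a b z : G} (hz : z * z = 1)
    (haz : a * z * a = z * a * z) (hbz : b * z * b = z * b * z)
    (hc : (a * b) * z = z * (a * b)) : a * b = 1 := by
  have h1 : z * (a * b) * z = a * b := by
    rw [← hc, mul_assoc, hz, mul_one]
  have h2 : (z * a * z) * (z * b * z) = a * b := by
    calc (z * a * z) * (z * b * z) = z * a * (z * z) * b * z := by group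
      _ = z * (a * b) * z := by rw [hz]; group
      _ = a * b := h1
  rw [← haz, ← hbz] at h2
  -- a z a b z b = a b
  have h3 : z * a * b * z = 1 := by
    have : a * (z * a * b * z) * b = a * 1 * b := by
      rw [mul_one]
      calc a * (z * a * b * z) * b = (a * z * a) * (b * z * b) := by group
        _ = a * b := h2
    exact mul_left_cancel (mul_right_cancel this)
  calc a * b = z * (z * a * b * z) * z := by
        calc a * b = (z * z) * a * b * (z * z) := by rw [hz]; group
          _ = z * (z * a * b * z) * z := by group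
    _ = 1 := by rw [h3, mul_one, hz]

namespace LineHyp

variable (h : LineHyp D)
include h

theorem sq {d : G} (hd : d ∈ D) : d * d = 1 := by
  have := h.tt.1 d hd
  rw [← pow_two, ← this]
  exact pow_orderOf_eq_one d

theorem inv_eq {d : G} (hd : d ∈ D) : d⁻¹ = d :=
  inv_eq_of_mul_eq_one_right (h.sq hd)

theorem ne_one {d : G} (hd : d ∈ D) : d ≠ 1 := by
  intro h1
  have := h.tt.1 d hd
  rw [h1, orderOf_one] at this
  omega

theorem cube {a b : G} (ha : a ∈ D) (hb : b ∈ D) (hab : ¬ Commute a b) : (a * b) ^ 3 = 1 := by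
  rcases h.tt.2 a ha b hb with h2 | h3
  · exfalso
    apply hab
    rw [pow_two] at h2
    show a * b = b * a
    calc a * b = (a * b)⁻¹ := eq_inv_of_mul_eq_one_left h2
      _ = b * a := by rw [mul_inv_rev, h.inv_eq ha, h.inv_eq hb]
  · exact h3

theorem braid {a b : G} (ha : a ∈ D) (hb : b ∈ D) (hab : ¬ Commute a b) :
    a * b * a = b * a * b :=
  braid_of_cube (h.sq ha) (h.sq hb) (h.cube ha hb hab)

omit h in
theorem nbr_symm {d a : G} (hd : d ∈ D) (ha : a ∈ nbr D d) : d ∈ nbr D a :=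
  ⟨hd, fun e => ha.2.1 e.symm, ha.2.2.symm⟩

omit h in
theorem mem_of_nbr {d a : G} (ha : a ∈ nbr D d) : a ∈ D := ha.1

/-- Conjugation carries local sets to local sets. -/
theorem conj_nbr (g : G) {d y : G} (hy : y ∈ nbr D d) :
    g * y * g⁻¹ ∈ nbr D (g * d * g⁻¹) := by
  refine ⟨h.conj g y hy.1, ?_, ?_⟩
  · intro e
    apply hy.2.1
    have := mul_left_cancel (mul_right_cancel e)
    exact this
  · show g * d * g⁻¹ * (g * y * g⁻¹) = g * y * g⁻¹ * (g * d * g⁻¹)
    have e : d * y = y * d := hy.2.2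
    calc g * d * g⁻¹ * (g * y * g⁻¹) = g * (d * y) * g⁻¹ := by group
      _ = g * (y * d) * g⁻¹ := by rw [e]
      _ = g * y * g⁻¹ * (g * d * g⁻¹) := by group

/-- An element commuting with `d` conjugates the local set of `d` to itself. -/
theorem conj_nbr_of_commute {g d y : G} (hg : Commute g d) (hy : y ∈ nbr D d) :
    g * y * g⁻¹ ∈ nbr D d := by
  have := h.conj_nbr g hy
  have e : g * d * g⁻¹ = d := by
    rw [hg.eq]; group
  rwa [e] at this

/-- The symmetric-group-of-degree-4 lemma: the product of two commuting members moves a member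
commuting with neither to one of its neighbours. -/
theorem conj_mul_mem_nbr {w w' y : G} (hw : w ∈ D) (hw' : w' ∈ D) (hy : y ∈ D)
    (hc : Commute w w') (hne : w ≠ w') (h1 : ¬ Commute w y) (h2 : ¬ Commute w' y) :
    (w * w') * y * (w * w')⁻¹ ∈ nbr D y := by
  have b1 := h.braid hw hy h1
  have b2 := h.braid hw' hy h2
  have e : (w * w') * y * (w * w')⁻¹ = w * w' * y * w' * w := by
    rw [mul_inv_rev, h.inv_eq hw, h.inv_eq hw']; group
  refine ⟨h.conj _ y hy, ?_, ?_⟩
  · intro e1
    have hcomm : (w * w') * y = y * (w * w') := by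
      calc (w * w') * y = ((w * w') * y * (w * w')⁻¹) * (w * w') := by group
        _ = y * (w * w') := by rw [e1]
    have := mul_eq_one_of_commute (h.sq hy) b1 b2 hcomm
    apply hne
    calc w = w * (w' * w') := by rw [h.sq hw', mul_one]
      _ = (w * w') * w' := by group
      _ = w' := by rw [this, one_mul]
  · rw [e]
    exact (coxeter_commute hc.eq b1.symm b2.symm).symm

end LineHyp

/-- A subset of `D` closed under taking neighbours. -/
def NClosed (D Γ : Set G) : Prop := Γ ⊆ D ∧ ∀ t ∈ Γ, nbr D t ⊆ Γ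

namespace LineHyp

variable (h : LineHyp D) {Γ : Set G}

omit h in
theorem not_commute_of_closed (hΓ : NClosed D Γ) {s t : G} (hs : s ∈ Γ) (ht : t ∈ D) (htΓ : t ∉ Γ) :
    ¬ Commute s t := by
  intro hc
  apply htΓ
  apply hΓ.2 s hs
  exact ⟨ht, fun e => htΓ (e ▸ hs), hc⟩

omit h in
theorem closed_compl (hΓ : NClosed D Γ) : NClosed D (D \ Γ) := by
  refine ⟨Set.sdiff_subset, ?_⟩
  intro t ht s hs
  refine ⟨hs.1, fun hsΓ => ?_⟩
  apply ht.2
  apply hΓ.2 s hsΓ
  exact nbr_symm ht.1 hs

include h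

/-- The product of two neighbours of a member outside a closed set acts on the closed set. -/
theorem conj_mem_of_closed (hΓ : NClosed D Γ) {x a b t : G} (hx : x ∈ D) (hxΓ : x ∉ Γ)
    (ha : a ∈ nbr D x) (hb : b ∈ nbr D x) (ht : t ∈ Γ) :
    (a * b) * t * (a * b)⁻¹ ∈ Γ := by
  have hc := closed_compl hΓ
  have haΓ : a ∈ D \ Γ := hc.2 x ⟨hx, hxΓ⟩ ha
  have hbΓ : b ∈ D \ Γ := hc.2 x ⟨hx, hxΓ⟩ hb
  have hxt : ¬ Commute x t := fun e => not_commute_of_closed hΓ ht hx hxΓ e.symm
  have hbt : ¬ Commute b t := fun e => not_commute_of_closed hΓ ht hbΓ.1 hbΓ.2 e.symm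
  have h1 : (x * b) * t * (x * b)⁻¹ ∈ Γ :=
    hΓ.2 t ht (h.conj_mul_mem_nbr hx hb.1 (hΓ.1 ht) hb.2.2 (fun e => hb.2.1 e.symm) hxt hbt)
  have hxt1 : ¬ Commute x ((x * b) * t * (x * b)⁻¹) :=
    fun e => not_commute_of_closed hΓ h1 hx hxΓ e.symm
  have hat1 : ¬ Commute a ((x * b) * t * (x * b)⁻¹) :=
    fun e => not_commute_of_closed hΓ h1 haΓ.1 haΓ.2 e.symm
  have h2 : (x * a) * ((x * b) * t * (x * b)⁻¹) * (x * a)⁻¹ ∈ Γ :=
    hΓ.2 _ h1 (h.conj_mul_mem_nbr hx ha.1 (hΓ.1 h1) ha.2.2 (fun e => ha.2.1 e.symm) hxt1 hat1)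
  have e : (x * a) * ((x * b) * t * (x * b)⁻¹) * (x * a)⁻¹ = (a * b) * t * (a * b)⁻¹ := by
    have e1 : (x * a) * (x * b) = a * b := by
      have : x * a = a * x := ha.2.2.eq
      calc (x * a) * (x * b) = (a * x) * (x * b) := by rw [this]
        _ = a * (x * x) * b := by group
        _ = a * b := by rw [h.sq hx, mul_one]
    calc (x * a) * ((x * b) * t * (x * b)⁻¹) * (x * a)⁻¹
        = ((x * a) * (x * b)) * t * ((x * a) * (x * b))⁻¹ := by group
      _ = (a * b) * t * (a * b)⁻¹ := by rw [e1]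
  rwa [e] at h2

/-- ... without fixed points. -/
theorem conj_ne_of_closed (hΓ : NClosed D Γ) {x a b t : G} (hx : x ∈ D) (hxΓ : x ∉ Γ)
    (ha : a ∈ nbr D x) (hb : b ∈ nbr D x) (hab : a ≠ b) (ht : t ∈ Γ) :
    (a * b) * t * (a * b)⁻¹ ≠ t := by
  have hc := closed_compl hΓ
  have haΓ : a ∈ D \ Γ := hc.2 x ⟨hx, hxΓ⟩ ha
  have hbΓ : b ∈ D \ Γ := hc.2 x ⟨hx, hxΓ⟩ hb
  have hat : ¬ Commute a t := fun e => not_commute_of_closed hΓ ht haΓ.1 haΓ.2 e.symm
  have hbt : ¬ Commute b t := fun e => not_commute_of_closed hΓ ht hbΓ.1 hbΓ.2 e.symm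
  intro e1
  have hcomm : (a * b) * t = t * (a * b) := by
    calc (a * b) * t = ((a * b) * t * (a * b)⁻¹) * (a * b) := by group
      _ = t * (a * b) := by rw [e1]
  have := mul_eq_one_of_commute (h.sq (hΓ.1 ht)) (h.braid ha.1 (hΓ.1 ht) hat)
    (h.braid hb.1 (hΓ.1 ht) hbt) hcomm
  apply hab
  calc a = a * (b * b) := by rw [h.sq hb.1, mul_one]
    _ = (a * b) * b := by group
    _ = b := by rw [this, one_mul]

/-- The third point of a line is a neighbour. -/
theorem third_mem {d a b : G} (hd : d ∈ D) (ha : a ∈ nbr D d) (hb : b ∈ nbr D d) (hab : a ≠ b) :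
    a * b * a ∈ nbr D d := by
  rw [h.line d hd a ha b hb hab]; simp

theorem ne_third {d a b : G} (hd : d ∈ D) (ha : a ∈ nbr D d) (hb : b ∈ nbr D d) (hab : a ≠ b) :
    a ≠ a * b * a ∧ b ≠ a * b * a := by
  have hnc := h.ncomm d hd a ha b hb hab
  constructor
  · intro e
    apply hab
    have : a * 1 = a * (b * a) := by rw [mul_one, ← mul_assoc]; exact e
    have h1 : b * a = 1 := (mul_left_cancel this).symm
    calc a = (b * b) * a := by rw [h.sq hb.1, one_mul]
      _ = b * (b * a) := by group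
      _ = b := by rw [h1, mul_one]
  · intro e
    apply hnc
    show a * b = b * a
    calc a * b = (a * b * a) * a := by rw [mul_assoc (a * b), h.sq ha.1, mul_one]
      _ = b * a := by rw [← e]

theorem ncard_nbr {d : G} (hd : d ∈ D) : (nbr D d).ncard = 3 := by
  obtain ⟨a, ha, b, hb, hab⟩ := h.two d hd
  obtain ⟨h1, h2⟩ := h.ne_third hd ha hb hab
  rw [h.line d hd a ha b hb hab]
  exact Set.ncard_eq_three.mpr ⟨a, b, a * b * a, hab, h1, h2, rfl⟩

/-- Products of two different members of a line. -/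
theorem mul_mem_pair {d a b p q : G} (hd : d ∈ D) (ha : a ∈ nbr D d) (hb : b ∈ nbr D d)
    (hab : a ≠ b) (hp : p ∈ nbr D d) (hq : q ∈ nbr D d) (hpq : p ≠ q) :
    p * q = a * b ∨ p * q = b * a := by
  have hnc := h.ncomm d hd a ha b hb hab
  have h3 := h.cube ha.1 hb.1 hnc
  have ea := h.sq ha.1
  have eb := h.sq hb.1
  have hab2 : a * b * (a * b) = b * a := by
    rw [pow_three'] at h3
    rw [eq_inv_of_mul_eq_one_left h3, mul_inv_rev, h.inv_eq ha.1, h.inv_eq hb.1]
  have hba2 : b * a * (b * a) = a * b := by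
    have h3' : (b * a) ^ 3 = 1 := h.cube hb.1 ha.1 (fun e => hnc e.symm)
    rw [pow_three'] at h3'
    rw [eq_inv_of_mul_eq_one_left h3', mul_inv_rev, h.inv_eq ha.1, h.inv_eq hb.1]
  rw [h.line d hd a ha b hb hab] at hp hq
  have hp' : p = a ∨ p = b ∨ p = a * b * a := by simpa using hp
  have hq' : q = a ∨ q = b ∨ q = a * b * a := by simpa using hq
  rcases hp' with e1 | e1 | e1 <;> rcases hq' with e2 | e2 | e2
  · exact absurd (e1.trans e2.symm) hpq
  · left; rw [e1, e2]
  · right
    rw [e1, e2]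
    calc a * (a * b * a) = (a * a) * b * a := by group
      _ = b * a := by rw [ea, one_mul]
  · right; rw [e1, e2]
  · exact absurd (e1.trans e2.symm) hpq
  · left
    rw [e1, e2]
    calc b * (a * b * a) = b * a * (b * a) := by group
      _ = a * b := hba2
  · left
    rw [e1, e2]
    calc a * b * a * a = a * b * (a * a) := by group
      _ = a * b := by rw [ea, mul_one]
  · right
    rw [e1, e2]
    calc a * b * a * b = a * b * (a * b) := by group
      _ = b * a := hab2
  · exact absurd (e1.trans e2.symm) hpq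

/-- Conjugating by `x p` for different neighbours `p` of `x` gives different results. -/
theorem conj_ne_conj {x y p q : G} (hy : y ∈ D) (hp : p ∈ nbr D x)
    (hq : q ∈ nbr D x) (hpq : p ≠ q) (hyp : ¬ Commute p y) (hyq : ¬ Commute q y) :
    (x * p) * y * (x * p)⁻¹ ≠ (x * q) * y * (x * q)⁻¹ := by
  intro e
  have hcomm : (q * p) * y = y * (q * p) := by
    have e1 : (x * q)⁻¹ * (x * p) = q * p := by
      rw [mul_inv_rev, h.inv_eq hq.1]; group
    calc (q * p) * y = (x * q)⁻¹ * ((x * p) * y * (x * p)⁻¹) * (x * p) := by rw [← e1]; group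
      _ = (x * q)⁻¹ * ((x * q) * y * (x * q)⁻¹) * (x * p) := by rw [e]
      _ = y * ((x * q)⁻¹ * (x * p)) := by group
      _ = y * (q * p) := by rw [e1]
  have := mul_eq_one_of_commute (h.sq hy) (h.braid hq.1 hy hyq) (h.braid hp.1 hy hyp) hcomm
  apply hpq
  calc p = (q * q) * p := by rw [h.sq hq.1, one_mul]
    _ = q * (q * p) := by group
    _ = q := by rw [this, mul_one]

/-- Every neighbour of `x` is the image of `x` under `y r` for a neighbour `r` of `y`, when
`x` commutes with none of `y` and its neighbours. -/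
theorem exists_conj_eq [Finite G] {x y a : G} (hx : x ∈ D) (hy : y ∈ D) (hyx : ¬ Commute y x)
    (hN : ∀ r ∈ nbr D y, ¬ Commute r x) (ha : a ∈ nbr D x) :
    ∃ r ∈ nbr D y, (y * r) * x * (y * r)⁻¹ = a := by
  have himg : (fun r => (y * r) * x * (y * r)⁻¹) '' nbr D y = nbr D x := by
    apply Set.eq_of_subset_of_ncard_le
    · rintro _ ⟨r, hr, rfl⟩
      exact h.conj_mul_mem_nbr hy hr.1 hx hr.2.2 (fun e => hr.2.1 e.symm) hyx (hN r hr)
    · have hinj : Set.InjOn (fun r => (y * r) * x * (y * r)⁻¹) (nbr D y) := by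
        intro r hr r' hr' e
        by_contra hne
        exact h.conj_ne_conj hx hr hr' hne (hN r hr) (hN r' hr') e
      rw [hinj.ncard_image, h.ncard_nbr hy, h.ncard_nbr hx]
    · exact Set.toFinite _
  rw [← himg] at ha
  obtain ⟨r, hr, e⟩ := ha
  exact ⟨r, hr, e⟩

/-- A closed subset missing a member of `D` has a multiple of three members. -/
theorem three_dvd_ncard [Finite G] (hΓ : NClosed D Γ) {x : G} (hx : x ∈ D) (hxΓ : x ∉ Γ) :
    3 ∣ Γ.ncard := by
  classical
  obtain ⟨a, ha, b, hb, hab⟩ := h.two x hx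
  have hnc : ¬ Commute a b := h.ncomm x hx a ha b hb hab
  have hq3 : (a * b) ^ 3 = 1 := h.cube ha.1 hb.1 hnc
  have hqi : (a * b)⁻¹ = b * a := by rw [mul_inv_rev, h.inv_eq ha.1, h.inv_eq hb.1]
  have : Fintype Γ := Fintype.ofFinite Γ
  let σ : Equiv.Perm Γ :=
    { toFun := fun t => ⟨(a * b) * t * (a * b)⁻¹, h.conj_mem_of_closed hΓ hx hxΓ ha hb t.2⟩
      invFun := fun t => ⟨(b * a) * t * (b * a)⁻¹, h.conj_mem_of_closed hΓ hx hxΓ hb ha t.2⟩
      left_inv := by
        intro t
        apply Subtype.ext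
        show (b * a) * ((a * b) * t * (a * b)⁻¹) * (b * a)⁻¹ = t
        rw [← hqi]; group
      right_inv := by
        intro t
        apply Subtype.ext
        show (a * b) * ((b * a) * t * (b * a)⁻¹) * (a * b)⁻¹ = t
        rw [← hqi]; group }
  have hσ : σ ^ 3 ^ 1 = 1 := by
    ext t
    show ((σ ^ 3 ^ 1) t : G) = t
    have : (σ ^ 3 ^ 1) t = σ (σ (σ t)) := by
      rw [pow_one, pow_succ, pow_succ, pow_one]; rfl
    rw [this]
    show (a * b) * ((a * b) * ((a * b) * t * (a * b)⁻¹) * (a * b)⁻¹) * (a * b)⁻¹ = t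
    have key : ∀ q : G, q ^ 3 = 1 → q * (q * (q * (t : G) * q⁻¹) * q⁻¹) * q⁻¹ = t := by
      intro q hq
      rw [pow_three'] at hq
      calc q * (q * (q * (t : G) * q⁻¹) * q⁻¹) * q⁻¹ = (q * q * q) * t * (q * q * q)⁻¹ := by group
        _ = t := by rw [hq]; group
    exact key _ hq3
  by_contra hdvd
  have hdvd' : ¬ 3 ∣ Fintype.card Γ := by
    rw [← Nat.card_eq_fintype_card, Nat.card_coe_set_eq]; exact hdvd
  have : Fact (Nat.Prime 3) := ⟨by norm_num⟩
  obtain ⟨t, ht⟩ := Equiv.Perm.exists_fixed_point_of_prime hdvd' hσ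
  exact h.conj_ne_of_closed hΓ hx hxΓ ha hb hab t.2 (congrArg Subtype.val ht)

end LineHyp


end Cfsg.Agent.Lib.Helper89_LineBasics
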