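import Mathlib
import Cfsg.Prelude.Def_FischerSpaces
import Cfsg.Prelude.Def_Solvable
import Cfsg.Agent.Lib.Helper1_Cores
import Cfsg.Agent.Lib.Helper89_Theta
import Cfsg.Agent.Lib.Helper89_LineBasics

set_option autoImplicit false
open Cfsg

namespace Cfsg.Agent.Lib.Helper89_LineK33

open Cfsg.Agent.Lib.Helper89_Theta Cfsg.Agent.Lib.Helper89_LineBasics

variable {G : Type*} [Group G] {D : Set G}

/-- The complete bipartite hypothesis: around every edge `x — a`, the other neighbours of `x`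
commute with the other neighbours of `a`. -/
def KHyp (D : Set G) : Prop :=
  ∀ x ∈ D, ∀ a ∈ nbr D x, ∀ c ∈ nbr D x, c ≠ a → ∀ x' ∈ nbr D a, x' ≠ x → Commute c x'

theorem nbr_eq (h : LineHyp D) (hK : KHyp D) {x a x' : G} (hx : x ∈ D) (ha : a ∈ nbr D x)
    (hx' : x' ∈ nbr D a) : nbr D x' = nbr D x := by
  by_cases e : x' = x
  · rw [e]
  obtain ⟨p, hp, q, hq, hpq⟩ := h.two x hx
  obtain ⟨b, hb, hba⟩ : ∃ b ∈ nbr D x, b ≠ a := by
    by_cases hpa : p = a
    · exact ⟨q, hq, fun e' => hpq (hpa.trans e'.symm)⟩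
    · exact ⟨p, hp, hpa⟩
  have hxa : x ∈ nbr D a := LineHyp.nbr_symm hx ha
  have hnc : ¬ Commute x' x := h.ncomm a ha.1 x' hx' x hxa e
  have h1 : a ∈ nbr D x' := LineHyp.nbr_symm ha.1 hx'
  have h2 : b ∈ nbr D x' := by
    refine ⟨hb.1, ?_, (hK x hx a ha b hb hba x' hx' e).symm⟩
    intro e'
    apply hnc
    rw [← e']
    exact hb.2.2.symm
  rw [h.line x' hx'.1 a h1 b h2 (fun e' => hba e'.symm),
    h.line x hx a ha b hb (fun e' => hba e'.symm)]

theorem closed_union (h : LineHyp D) (hK : KHyp D) {x a : G} (hx : x ∈ D) (ha : a ∈ nbr D x) :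
    NClosed D (nbr D x ∪ nbr D a) := by
  have hxa : x ∈ nbr D a := LineHyp.nbr_symm hx ha
  refine ⟨?_, ?_⟩
  · rintro t (ht | ht)
    · exact ht.1
    · exact ht.1
  · rintro t (ht | ht)
    · rw [nbr_eq h hK ha.1 hxa ht]; exact Set.subset_union_right
    · rw [nbr_eq h hK hx ha ht]; exact Set.subset_union_left

/-- Conjugation by a generator preserves local sets. -/
theorem nbr_conj_eq (h : LineHyp D) (hK : KHyp D) {x y a b : G} (hx : x ∈ D) (hy : y ∈ D)
    (ha : a ∈ nbr D x) (hb : b ∈ nbr D x) :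
    nbr D ((a * b) * y * (a * b)⁻¹) = nbr D y := by
  have triv : Commute a y → Commute b y → (a * b) * y * (a * b)⁻¹ = y := by
    intro h1 h2
    have : Commute (a * b) y := h1.mul_left h2
    rw [this.eq]; group
  by_cases hab : a = b
  · have : (a * b) = 1 := by rw [hab]; exact h.sq hb.1
    rw [this]; simp
  by_cases hxy : Commute x y
  · by_cases e : y = x
    · rw [triv (e ▸ ha.2.2.symm) (e ▸ hb.2.2.symm)]
    · have hyN : y ∈ nbr D x := ⟨hy, e, hxy⟩
      have hg : Commute (a * b) x := ha.2.2.symm.mul_left hb.2.2.symm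
      have h1 := h.conj_nbr_of_commute hg hyN
      exact nbr_eq h hK hy (LineHyp.nbr_symm hx hyN) h1
  · by_cases hex : ∃ t ∈ nbr D x, Commute t y
    · obtain ⟨t, ht, hty⟩ := hex
      have hyt : y ∈ nbr D t := by
        refine ⟨hy, ?_, hty⟩
        intro e
        apply hxy
        rw [e]; exact ht.2.2
      have he := nbr_eq h hK hx ht hyt
      have ha' : a ∈ nbr D y := he ▸ ha
      have hb' : b ∈ nbr D y := he ▸ hb
      rw [triv ha'.2.2.symm hb'.2.2.symm]
    · push Not at hex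
      have h1 : (x * b) * y * (x * b)⁻¹ ∈ nbr D y :=
        h.conj_mul_mem_nbr hx hb.1 hy hb.2.2 (fun e => hb.2.1 e.symm) hxy (hex b hb)
      have hx1 : ¬ Commute x ((x * b) * y * (x * b)⁻¹) := by
        intro hc
        apply hxy
        have e : (x * b) * x * (x * b)⁻¹ = x := by
          have : Commute (x * b) x := (Commute.refl x).mul_left hb.2.2.symm
          rw [this.eq]; group
        have hc' : Commute ((x * b) * x * (x * b)⁻¹) ((x * b) * y * (x * b)⁻¹) := by
          rw [e]; exact hc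
        exact (Commute.conj_iff (x * b)).mp hc'
      have ha1 : ¬ Commute a ((x * b) * y * (x * b)⁻¹) := by
        intro hc
        have hbab : b * a * b ∈ nbr D x := h.third_mem hx hb ha (fun e => hab e.symm)
        apply hex _ hbab
        have e : (x * b) * (b * a * b) * (x * b)⁻¹ = a := by
          have e1 : x * a = a * x := ha.2.2.eq
          rw [mul_inv_rev, h.inv_eq hx, h.inv_eq hb.1]
          calc x * b * (b * a * b) * (b * x) = x * (b * b) * a * (b * b) * x := by group
            _ = x * a * x := by rw [h.sq hb.1]; group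
            _ = a * (x * x) := by rw [e1]; group
            _ = a := by rw [h.sq hx, mul_one]
        have hc' : Commute ((x * b) * (b * a * b) * (x * b)⁻¹) ((x * b) * y * (x * b)⁻¹) := by
          rw [e]; exact hc
        exact (Commute.conj_iff (x * b)).mp hc'
      have h2 : (x * a) * ((x * b) * y * (x * b)⁻¹) * (x * a)⁻¹ ∈
          nbr D ((x * b) * y * (x * b)⁻¹) :=
        h.conj_mul_mem_nbr hx ha.1 h1.1 ha.2.2 (fun e => ha.2.1 e.symm) hx1 ha1
      have e : (x * a) * ((x * b) * y * (x * b)⁻¹) * (x * a)⁻¹ = (a * b) * y * (a * b)⁻¹ := by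
        have e1 : (x * a) * (x * b) = a * b := by
          have : x * a = a * x := ha.2.2.eq
          calc (x * a) * (x * b) = (a * x) * (x * b) := by rw [this]
            _ = a * (x * x) * b := by group
            _ = a * b := by rw [h.sq hx, mul_one]
        calc (x * a) * ((x * b) * y * (x * b)⁻¹) * (x * a)⁻¹
            = ((x * a) * (x * b)) * y * ((x * a) * (x * b))⁻¹ := by group
          _ = (a * b) * y * (a * b)⁻¹ := by rw [e1]
      rw [e] at h2
      exact nbr_eq h hK hy h1 h2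

/-- Two generators commute. -/
theorem commute_gen (h : LineHyp D) (hK : KHyp D) {x y a b p q : G} (hx : x ∈ D) (hy : y ∈ D)
    (ha : a ∈ nbr D x) (hb : b ∈ nbr D x) (hab : a ≠ b) (hp : p ∈ nbr D y) (hq : q ∈ nbr D y)
    (hpq : p ≠ q) : Commute (a * b) (p * q) := by
  have hg3 : (a * b) * (a * b) * (a * b) = 1 := by
    rw [← pow_three']; exact h.cube ha.1 hb.1 (h.ncomm x hx a ha b hb hab)
  have hr3 : (p * q) * (p * q) * (p * q) = 1 := by
    rw [← pow_three']; exact h.cube hp.1 hq.1 (h.ncomm y hy p hp q hq hpq)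
  have hN := nbr_conj_eq h hK hx hy ha hb
  have hp' : (a * b) * p * (a * b)⁻¹ ∈ nbr D y := hN ▸ h.conj_nbr (a * b) hp
  have hq' : (a * b) * q * (a * b)⁻¹ ∈ nbr D y := hN ▸ h.conj_nbr (a * b) hq
  have hne : (a * b) * p * (a * b)⁻¹ ≠ (a * b) * q * (a * b)⁻¹ := by
    intro e
    exact hpq (mul_left_cancel (mul_right_cancel e))
  have hprod : ((a * b) * p * (a * b)⁻¹) * ((a * b) * q * (a * b)⁻¹)
      = (a * b) * (p * q) * (a * b)⁻¹ := by group
  rcases h.mul_mem_pair hy hp hq hpq hp' hq' hne with e | e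
  · rw [hprod] at e
    show (a * b) * (p * q) = (p * q) * (a * b)
    calc (a * b) * (p * q) = ((a * b) * (p * q) * (a * b)⁻¹) * (a * b) := by group
      _ = (p * q) * (a * b) := by rw [e]
  · exfalso
    rw [hprod] at e
    have hinv : q * p = (p * q)⁻¹ := by rw [mul_inv_rev, h.inv_eq hp.1, h.inv_eq hq.1]
    rw [hinv] at e
    -- `r = r⁻¹`
    have key : ∀ g r : G, g * g * g = 1 → g * r * g⁻¹ = r⁻¹ → r = r⁻¹ := by
      intro g r hg hr
      calc r = (g * g * g) * r * (g * g * g)⁻¹ := by rw [hg]; group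
        _ = g * (g * (g * r * g⁻¹) * g⁻¹) * g⁻¹ := by group
        _ = g * (g * r⁻¹ * g⁻¹) * g⁻¹ := by rw [hr]
        _ = g * (g * r * g⁻¹)⁻¹ * g⁻¹ := by group
        _ = g * (r⁻¹)⁻¹ * g⁻¹ := by rw [hr]
        _ = g * r * g⁻¹ := by rw [inv_inv]
        _ = r⁻¹ := hr
    have h1 := key _ _ hg3 e
    have h2 : (p * q) * (p * q) = 1 := by
      calc (p * q) * (p * q) = (p * q) * (p * q)⁻¹ := by rw [← h1]
        _ = 1 := mul_inv_cancel _
    rw [h2, one_mul] at hr3
    apply hpq
    calc p = p * (q * q) := by rw [h.sq hq.1, mul_one]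
      _ = (p * q) * q := by group
      _ = q := by rw [hr3, one_mul]

/-- The generators: products of two different members of a local line. -/
def gens (D : Set G) : Set G :=
  {g | ∃ x ∈ D, ∃ a ∈ nbr D x, ∃ b ∈ nbr D x, a ≠ b ∧ g = a * b}

/-- The subgroup they generate. -/
def Y (D : Set G) : Subgroup G := Subgroup.closure (gens D)

theorem Y_normal (h : LineHyp D) : (Y D).Normal := by
  constructor
  intro n hn g
  have hle : (Y D).map (MulAut.conj g).toMonoidHom ≤ Y D := by
    rw [Y, MonoidHom.map_closure, Subgroup.closure_le]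
    rintro _ ⟨s, ⟨x, hx, a, ha, b, hb, hab, rfl⟩, rfl⟩
    apply Subgroup.subset_closure
    refine ⟨g * x * g⁻¹, h.conj g x hx, g * a * g⁻¹, h.conj_nbr g ha, g * b * g⁻¹,
      h.conj_nbr g hb, ?_, ?_⟩
    · intro e
      exact hab (mul_left_cancel (mul_right_cancel e))
    · show g * (a * b) * g⁻¹ = g * a * g⁻¹ * (g * b * g⁻¹)
      group
  exact hle ⟨n, hn, rfl⟩

theorem Y_comm (h : LineHyp D) (hK : KHyp D) : IsMulCommutative ↥(Y D) := by
  apply Subgroup.isMulCommutative_closure
  rintro _ ⟨x, hx, a, ha, b, hb, hab, rfl⟩ _ ⟨y, hy, p, hp, q, hq, hpq, rfl⟩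
  exact (commute_gen h hK hx hy ha hb hab hp hq hpq).eq

theorem Y_cube (h : LineHyp D) (hK : KHyp D) : ∀ g ∈ Y D, g ^ 3 = 1 := by
  have hcomm := Y_comm h hK
  intro g hg
  induction hg using Subgroup.closure_induction with
  | mem s hs =>
    obtain ⟨x, hx, a, ha, b, hb, hab, rfl⟩ := hs
    exact h.cube ha.1 hb.1 (h.ncomm x hx a ha b hb hab)
  | one => exact one_pow 3
  | mul u v hu hv h1 h2 =>
    have hc : Commute u v := by
      have := isMulCommutative_iff.mp hcomm ⟨u, hu⟩ ⟨v, hv⟩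
      exact congrArg Subtype.val this
    rw [hc.mul_pow, h1, h2, one_mul]
  | inv u hu h1 => rw [inv_pow, h1, inv_one]

theorem Y_isPGroup (h : LineHyp D) (hK : KHyp D) : IsPGroup 3 ↥(Y D) := by
  intro g
  refine ⟨1, ?_⟩
  apply Subtype.ext
  rw [pow_one, Subgroup.coe_pow]
  exact Y_cube h hK g.1 g.2

/-- The centralizer of a member of `D` meets `Y D` in at most three elements. -/
theorem card_le_three [Finite G] (h : LineHyp D) (hK : KHyp D) {x : G}
    (h3 : Nat.card (pCore 3 ↥(Subgroup.centralizer ({x} : Set G))) = 3) :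
    Nat.card ((Y D).subgroupOf (Subgroup.centralizer ({x} : Set G))) ≤ 3 := by
  have hN : (Y D).Normal := Y_normal h
  have hnorm : ((Y D).subgroupOf (Subgroup.centralizer ({x} : Set G))).Normal :=
    Subgroup.normal_subgroupOf
  have hp : IsPGroup 3 ((Y D).subgroupOf (Subgroup.centralizer ({x} : Set G))) :=
    (Y_isPGroup h hK).comap_subtype
  have hle := Cfsg.Agent.Lib.Helper1_Cores.le_pCore hnorm hp
  rw [← h3]
  exact Subgroup.card_le_of_le hle

theorem card_inf_le_three [Finite G] (h : LineHyp D) (hK : KHyp D) {x : G}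
    (h3 : Nat.card (pCore 3 ↥(Subgroup.centralizer ({x} : Set G))) = 3) :
    ((Y D ⊓ Subgroup.centralizer ({x} : Set G) : Subgroup G) : Set G).ncard ≤ 3 := by
  have h1 := card_le_three h hK h3
  have h2 : Nat.card ↥(((Y D).subgroupOf (Subgroup.centralizer ({x} : Set G))).map
      (Subgroup.centralizer ({x} : Set G)).subtype) =
      Nat.card ↥((Y D).subgroupOf (Subgroup.centralizer ({x} : Set G))) :=
    Subgroup.card_map_of_injective (Subgroup.subtype_injective _)
  rw [Subgroup.subgroupOf_map_subtype] at h2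
  rw [← h2] at h1
  rw [← Nat.card_coe_set_eq]
  exact h1

/-- In the complete bipartite case, `D` is the union of two local lines. -/
theorem eq_union [Finite G] (h : LineHyp D) (hK : KHyp D)
    (h3 : ∀ d ∈ D, Nat.card (pCore 3 ↥(Subgroup.centralizer ({d} : Set G))) = 3)
    {x a : G} (hx : x ∈ D) (ha : a ∈ nbr D x) : D = nbr D x ∪ nbr D a := by
  have hΓ := closed_union h hK hx ha
  have hxΓ : x ∈ nbr D x ∪ nbr D a := Or.inr (LineHyp.nbr_symm hx ha)
  apply Set.Subset.antisymm _ hΓ.1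
  intro y hy
  by_contra hyΓ
  have hC := LineHyp.closed_compl hΓ
  have hnc : ∀ s ∈ nbr D x ∪ nbr D a, ∀ t ∈ D \ (nbr D x ∪ nbr D a), ¬ Commute s t :=
    fun s hs t ht => LineHyp.not_commute_of_closed hΓ hs ht.1 ht.2
  obtain ⟨p, hp, p₂, hp₂, hpp₂⟩ := h.two y hy
  have hyC : y ∈ D \ (nbr D x ∪ nbr D a) := ⟨hy, hyΓ⟩
  have hpC : p ∈ D \ (nbr D x ∪ nbr D a) := hC.2 y hyC hp
  have hyp : y ∈ nbr D p := LineHyp.nbr_symm hy hp
  obtain ⟨y', hy', hy'y⟩ : ∃ y' ∈ nbr D p, y' ≠ y := by
    obtain ⟨u, hu, v, hv, huv⟩ := h.two p hp.1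
    by_cases e : u = y
    · exact ⟨v, hv, fun e' => huv (e.trans e'.symm)⟩
    · exact ⟨u, hu, e⟩
  have hy'C : y' ∈ D \ (nbr D x ∪ nbr D a) := hC.2 p hpC hy'
  have hNy' : nbr D y' = nbr D y := nbr_eq h hK hy hp hy'
  have hpx : ¬ Commute p x := fun e => hnc x hxΓ p hpC e.symm
  have hy'x : ¬ Commute y' x := fun e => hnc x hxΓ y' hy'C e.symm
  have hyx : ¬ Commute y x := fun e => hnc x hxΓ y hyC e.symm
  have ha' : (p * y') * x * (p * y')⁻¹ ∈ nbr D x :=
    h.conj_mul_mem_nbr hp.1 hy'.1 hx hy'.2.2 (fun e => hy'.2.1 e.symm) hpx hy'x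
  obtain ⟨q, hq, hqe⟩ := h.exists_conj_eq hx hy hyx
    (fun r hr e => hnc x hxΓ r (hC.2 y hyC hr) e.symm) ha'
  have hqp : q ≠ p := by
    intro e
    rw [e] at hqe
    have e1 : y * p = p * y := hp.2.2.eq
    rw [e1] at hqe
    exact h.conj_ne_conj hx hyp hy' (fun e' => hy'y e'.symm) hyx hy'x hqe
  -- commutation facts
  have c_yq : y * q = q * y := hq.2.2.eq
  have c_yp : y * p = p * y := hp.2.2.eq
  have c_py' : p * y' = y' * p := hy'.2.2.eq
  have hq' : q ∈ nbr D y' := hNy' ▸ hq
  have c_y'q : y' * q = q * y' := hq'.2.2.eq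
  have sy := h.sq hy
  have sy' := h.sq hy'.1
  have sp := h.sq hp.1
  have sq := h.sq hq.1
  -- the diagonal element
  have hu_eq : (y * q)⁻¹ * (p * y') = (y * y') * (q * p) := by
    rw [mul_inv_rev, h.inv_eq hy, h.inv_eq hq.1]
    calc q * y * (p * y') = (q * y) * (y' * p) := by rw [c_py']
      _ = (y * q) * (y' * p) := by rw [c_yq]
      _ = y * (q * y') * p := by group
      _ = y * (y' * q) * p := by rw [c_y'q]
      _ = (y * y') * (q * p) := by group
  have hu_comm : Commute ((y * y') * (q * p)) x := by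
    rw [← hu_eq]
    show (y * q)⁻¹ * (p * y') * x = x * ((y * q)⁻¹ * (p * y'))
    calc (y * q)⁻¹ * (p * y') * x
        = (y * q)⁻¹ * ((p * y') * x * (p * y')⁻¹) * (p * y') := by group
      _ = (y * q)⁻¹ * ((y * q) * x * (y * q)⁻¹) * (p * y') := by rw [hqe]
      _ = x * ((y * q)⁻¹ * (p * y')) := by group
  have hu_mem : (y * y') * (q * p) ∈ Y D := by
    apply Subgroup.mul_mem
    · exact Subgroup.subset_closure ⟨p, hp.1, y, hyp, y', hy', fun e => hy'y e.symm, rfl⟩
    · exact Subgroup.subset_closure ⟨y, hy, q, hq, p, hp, hqp, rfl⟩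
  have hyy' : ¬ Commute y y' := h.ncomm p hp.1 y hyp y' hy' (fun e => hy'y e.symm)
  have hu_ne_one : (y * y') * (q * p) ≠ 1 := by
    intro e
    apply hyy'
    have e1 : y * y' = (q * p)⁻¹ := eq_inv_of_mul_eq_one_left e
    have hc : Commute y (q * p)⁻¹ := (Commute.mul_right hq.2.2 hp.2.2).inv_right
    rw [← e1] at hc
    have : y * (y * y') = y * (y' * y) := by rw [hc.eq]; group
    exact mul_left_cancel this
  -- the element `a₀` of the local line of `x` centralized by the diagonal element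
  have ha₀ : (y * p) * x * (y * p)⁻¹ ∈ nbr D x :=
    h.conj_mul_mem_nbr hy hp.1 hx hp.2.2 (fun e => hp.2.1 e.symm) hyx hpx
  have hu_a₀ : Commute ((y * y') * (q * p)) ((y * p) * x * (y * p)⁻¹) := by
    have hconj : (y * p) * ((y * y') * (q * p)) * (y * p)⁻¹ = ((y * y') * (q * p))⁻¹ := by
      rw [mul_inv_rev, mul_inv_rev, mul_inv_rev, mul_inv_rev, h.inv_eq hy, h.inv_eq hp.1,
        h.inv_eq hq.1, h.inv_eq hy'.1]
      -- y p y y' q p p y = p q y' y
      have c_qy' : q * y' = y' * q := c_y'q.symm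
      calc y * p * (y * y' * (q * p)) * (p * y)
          = y * p * y * y' * q * (p * p) * y := by group
        _ = y * p * y * y' * q * y := by rw [sp, mul_one]
        _ = (y * p) * y * y' * q * y := by group
        _ = (p * y) * y * y' * q * y := by rw [c_yp]
        _ = p * (y * y) * y' * q * y := by group
        _ = p * y' * (q * y) := by rw [sy]; group
        _ = p * y' * (y * q) := by rw [c_yq]
        _ = (p * y') * y * q := by group
        _ = (y' * p) * y * q := by rw [c_py']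
        _ = y' * (p * y) * q := by group
        _ = y' * (y * p) * q := by rw [c_yp]
        _ = y' * y * (p * q) := by group
        _ = p * q * (y' * y) := by
            have c1 : Commute (p * q) (y' * y) := by
              apply Commute.mul_left
              · exact Commute.mul_right hy'.2.2 hp.2.2.symm
              · exact Commute.mul_right hq'.2.2.symm hq.2.2.symm
            exact c1.eq.symm
    have h1 := (Commute.conj_iff (y * p)).mpr hu_comm
    rw [hconj] at h1
    exact (Commute.inv_left_iff).mp h1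
  -- a second member of the local line of `x`
  obtain ⟨b₀, hb₀, hab₀⟩ : ∃ b₀ ∈ nbr D x, (y * p) * x * (y * p)⁻¹ ≠ b₀ := by
    obtain ⟨u, hu, v, hv, huv⟩ := h.two x hx
    by_cases e : (y * p) * x * (y * p)⁻¹ = u
    · exact ⟨v, hv, fun e' => huv (e.symm.trans e')⟩
    · exact ⟨u, hu, e⟩
  set a₀ := (y * p) * x * (y * p)⁻¹ with ha₀_def
  have hthird := (h.ne_third hx ha₀ hb₀ hab₀).2
  have hnc₀ : ¬ Commute a₀ b₀ := h.ncomm x hx a₀ ha₀ b₀ hb₀ hab₀
  have sa₀ := h.sq ha₀.1
  have sb₀ := h.sq hb₀.1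
  -- the four elements
  have m1 : (1 : G) ∈ (Y D ⊓ Subgroup.centralizer ({x} : Set G) : Subgroup G) := one_mem _
  have mem_cent : ∀ z : G, Commute z x → z ∈ Subgroup.centralizer ({x} : Set G) := by
    intro z hz
    rw [Subgroup.mem_centralizer_iff]
    intro w hw
    rw [Set.mem_singleton_iff.mp hw]
    exact hz.eq.symm
  have m2 : a₀ * b₀ ∈ (Y D ⊓ Subgroup.centralizer ({x} : Set G) : Subgroup G) :=
    ⟨Subgroup.subset_closure ⟨x, hx, a₀, ha₀, b₀, hb₀, hab₀, rfl⟩,
      mem_cent _ (Commute.mul_left ha₀.2.2.symm hb₀.2.2.symm)⟩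
  have m3 : b₀ * a₀ ∈ (Y D ⊓ Subgroup.centralizer ({x} : Set G) : Subgroup G) :=
    ⟨Subgroup.subset_closure ⟨x, hx, b₀, hb₀, a₀, ha₀, fun e => hab₀ e.symm, rfl⟩,
      mem_cent _ (Commute.mul_left hb₀.2.2.symm ha₀.2.2.symm)⟩
  have m4 : (y * y') * (q * p) ∈ (Y D ⊓ Subgroup.centralizer ({x} : Set G) : Subgroup G) :=
    ⟨hu_mem, mem_cent _ hu_comm⟩
  have hsub : ({1, a₀ * b₀, b₀ * a₀, (y * y') * (q * p)} : Set G) ⊆
      ((Y D ⊓ Subgroup.centralizer ({x} : Set G) : Subgroup G) : Set G) := by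
    intro z hz
    rcases hz with rfl | rfl | rfl | hz
    · exact m1
    · exact m2
    · exact m3
    · rw [Set.mem_singleton_iff.mp hz]; exact m4
  have d12 : (1 : G) ≠ a₀ * b₀ := by
    intro e
    apply hab₀
    calc a₀ = a₀ * (b₀ * b₀) := by rw [sb₀, mul_one]
      _ = (a₀ * b₀) * b₀ := by group
      _ = b₀ := by rw [← e, one_mul]
  have d13 : (1 : G) ≠ b₀ * a₀ := by
    intro e
    apply hab₀
    calc a₀ = (b₀ * b₀) * a₀ := by rw [sb₀, one_mul]
      _ = b₀ * (b₀ * a₀) := by group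
      _ = b₀ := by rw [← e, mul_one]
  have d14 : (1 : G) ≠ (y * y') * (q * p) := fun e => hu_ne_one e.symm
  have d23 : a₀ * b₀ ≠ b₀ * a₀ := fun e => hnc₀ e
  have d24 : a₀ * b₀ ≠ (y * y') * (q * p) := by
    intro e
    rw [← e] at hu_a₀
    apply hthird
    have : a₀ * b₀ * a₀ = a₀ * (a₀ * b₀) := hu_a₀.eq
    rw [this, ← mul_assoc, sa₀, one_mul]
  have d34 : b₀ * a₀ ≠ (y * y') * (q * p) := by
    intro e
    rw [← e] at hu_a₀
    apply hthird
    have : b₀ * a₀ * a₀ = a₀ * (b₀ * a₀) := hu_a₀.eq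
    rw [mul_assoc, sa₀, mul_one] at this
    calc b₀ = a₀ * (b₀ * a₀) := this
      _ = a₀ * b₀ * a₀ := by group
  have hcard : ({1, a₀ * b₀, b₀ * a₀, (y * y') * (q * p)} : Set G).ncard = 4 := by
    rw [Set.ncard_insert_of_notMem, Set.ncard_eq_three.mpr ⟨_, _, _, d23, d24, d34, rfl⟩]
    intro hmem
    rcases hmem with e | e | e
    · exact d12 e
    · exact d13 e
    · exact d14 (Set.mem_singleton_iff.mp e)
  have hle := Set.ncard_le_ncard hsub (Set.toFinite _)
  have := card_inf_le_three h hK (h3 x hx)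
  omega

theorem s3_center : ∀ z : Equiv.Perm (Fin 3), (∀ w : Equiv.Perm (Fin 3), z * w = w * z) → z = 1 := by
  decide

/-- In the complete bipartite case, `D` generates the direct product of two symmetric groups of
degree three. -/
theorem nonempty_mulEquiv_of_KHyp [Finite G] (h : LineHyp D) (hK : KHyp D)
    (h3 : ∀ d ∈ D, Nat.card (pCore 3 ↥(Subgroup.centralizer ({d} : Set G))) = 3)
    (hloc : ∀ d ∈ D, Nonempty (↥(Subgroup.closure (nbr D d)) ≃* Equiv.Perm (Fin 3)))
    (hne : D.Nonempty) :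
    Nonempty (↥(Subgroup.closure D) ≃* Equiv.Perm (Fin 3) × Equiv.Perm (Fin 3)) := by
  obtain ⟨x, hx⟩ := hne
  obtain ⟨a, ha, -, -, -⟩ := h.two x hx
  have hDeq := eq_union h hK h3 hx ha
  obtain ⟨e₁⟩ := hloc x hx
  obtain ⟨e₂⟩ := hloc a ha.1
  have hgen : ∀ t ∈ nbr D x, ∀ s ∈ nbr D a, Commute t s := by
    intro t ht s hs
    by_cases e : s = x
    · rw [e]; exact ht.2.2.symm
    by_cases e' : t = a
    · rw [e']; exact hs.2.2
    exact hK x hx a ha t ht e' s hs e
  have hle : Subgroup.closure (nbr D x) ≤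
      Subgroup.centralizer ((Subgroup.closure (nbr D a) : Subgroup G) : Set G) := by
    rw [Subgroup.closure_le, Subgroup.centralizer_closure]
    intro t ht
    rw [SetLike.mem_coe, Subgroup.mem_centralizer_iff]
    intro s hs
    exact (hgen t ht s hs).eq.symm
  have comm : ∀ (u : ↥(Subgroup.closure (nbr D x))) (v : ↥(Subgroup.closure (nbr D a))),
      Commute ((Subgroup.closure (nbr D x)).subtype u) ((Subgroup.closure (nbr D a)).subtype v) := by
    intro u v
    have := Subgroup.mem_centralizer_iff.mp (hle u.2) v.1 v.2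
    exact this.symm
  have hdisj : Disjoint (Subgroup.closure (nbr D x)) (Subgroup.closure (nbr D a)) := by
    rw [Subgroup.disjoint_def]
    intro z hz1 hz2
    have hz : e₁ ⟨z, hz1⟩ = 1 := by
      apply s3_center
      intro w
      have hw : w = e₁ (e₁.symm w) := (e₁.apply_symm_apply w).symm
      rw [hw, ← map_mul, ← map_mul]
      congr 1
      apply Subtype.ext
      exact (comm (e₁.symm w) ⟨z, hz2⟩).eq.symm
    have := e₁.injective (hz.trans (map_one e₁).symm)
    exact congrArg Subtype.val this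
  have hinj : Function.Injective (MonoidHom.noncommCoprod (Subgroup.closure (nbr D x)).subtype
      (Subgroup.closure (nbr D a)).subtype comm) := by
    rw [MonoidHom.noncommCoprod_injective]
    refine ⟨Subgroup.subtype_injective _, Subgroup.subtype_injective _, ?_⟩
    rw [Subgroup.range_subtype, Subgroup.range_subtype]
    exact hdisj
  have hrange : Subgroup.closure D = (MonoidHom.noncommCoprod (Subgroup.closure (nbr D x)).subtype
      (Subgroup.closure (nbr D a)).subtype comm).range := by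
    rw [MonoidHom.noncommCoprod_range, Subgroup.range_subtype, Subgroup.range_subtype,
      ← Subgroup.closure_union, ← hDeq]
  exact ⟨((MulEquiv.subgroupCongr hrange).trans (MonoidHom.ofInjective hinj).symm).trans
    (MulEquiv.prodCongr e₁ e₂)⟩

end Cfsg.Agent.Lib.Helper89_LineK33
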