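import Mathlib
import Cfsg.Prelude.Def_FischerSpaces
import Cfsg.Prelude.Def_Solvable
import Cfsg.Agent.Lib.Helper89_Theta
import Cfsg.Agent.Lib.Helper89_LineBasics

set_option autoImplicit false
open Cfsg

namespace Cfsg.Agent.Lib.Helper89_LineLocal

open Cfsg.Agent.Lib.Helper89_Theta Cfsg.Agent.Lib.Helper89_LineBasics

variable {G : Type*} [Group G] {D : Set G}

theorem s3_not_comm : ∃ s t : Equiv.Perm (Fin 3), s * t ≠ t * s :=
  ⟨Equiv.swap 0 1, Equiv.swap 1 2, by decide⟩

theorem s3_invol_not_commute : ∀ s t : Equiv.Perm (Fin 3), s * s = 1 → t * t = 1 → s ≠ 1 → t ≠ 1 →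
    s ≠ t → s * t ≠ t * s := by decide

set_option synthInstance.maxSize 1024 in
set_option synthInstance.maxHeartbeats 200000 in
theorem s3_three_invol : ∀ s t u v : Equiv.Perm (Fin 3), s * s = 1 → t * t = 1 → u * u = 1 →
    v * v = 1 → s ≠ 1 → t ≠ 1 → u ≠ 1 → v ≠ 1 → s ≠ t → s ≠ u → t ≠ u →
    v = s ∨ v = t ∨ v = u := by decide

/-- The hypotheses of the local statement give lines. -/
theorem lineHyp_of_local (hD : IsThreeTranspositionSet D)
    (hconj : ∀ g : G, ∀ d ∈ D, g * d * g⁻¹ ∈ D)
    (hloc : ∀ d ∈ D, Nonempty (↥(Subgroup.closure (nbr D d)) ≃* Equiv.Perm (Fin 3))) :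
    LineHyp D := by
  have hsq : ∀ d ∈ D, d * d = 1 := by
    intro d hd
    have := hD.1 d hd
    rw [← pow_two, ← this]
    exact pow_orderOf_eq_one d
  have hne1 : ∀ d ∈ D, d ≠ 1 := by
    intro d hd h1
    have := hD.1 d hd
    rw [h1, orderOf_one] at this
    omega
  -- images of neighbours are involutions of `S₃`
  have hinv : ∀ d ∈ D, ∀ e : ↥(Subgroup.closure (nbr D d)) ≃* Equiv.Perm (Fin 3),
      ∀ a (ha : a ∈ nbr D d), e ⟨a, Subgroup.subset_closure ha⟩ * e ⟨a, Subgroup.subset_closure ha⟩
        = 1 ∧ e ⟨a, Subgroup.subset_closure ha⟩ ≠ 1 := by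
    intro d hd e a ha
    constructor
    · rw [← map_mul]
      have : (⟨a, Subgroup.subset_closure ha⟩ : ↥(Subgroup.closure (nbr D d))) *
          ⟨a, Subgroup.subset_closure ha⟩ = 1 := Subtype.ext (hsq a ha.1)
      rw [this, map_one]
    · intro h1
      have := e.injective (h1.trans (map_one e).symm)
      exact hne1 a ha.1 (congrArg Subtype.val this)
  have hncomm : ∀ d ∈ D, ∀ a ∈ nbr D d, ∀ b ∈ nbr D d, a ≠ b → ¬ Commute a b := by
    intro d hd a ha b hb hab hc
    obtain ⟨e⟩ := hloc d hd
    obtain ⟨ha1, ha2⟩ := hinv d hd e a ha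
    obtain ⟨hb1, hb2⟩ := hinv d hd e b hb
    have hne : e ⟨a, Subgroup.subset_closure ha⟩ ≠ e ⟨b, Subgroup.subset_closure hb⟩ := by
      intro h1
      exact hab (congrArg Subtype.val (e.injective h1))
    apply s3_invol_not_commute _ _ ha1 hb1 ha2 hb2 hne
    rw [← map_mul, ← map_mul]
    congr 1
    exact Subtype.ext hc.eq
  have htwo : ∀ d ∈ D, ∃ a ∈ nbr D d, ∃ b ∈ nbr D d, a ≠ b := by
    intro d hd
    by_contra hcon
    push Not at hcon
    obtain ⟨e⟩ := hloc d hd
    have hcomm : IsMulCommutative ↥(Subgroup.closure (nbr D d)) :=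
      Subgroup.isMulCommutative_closure (fun x hx y hy => by rw [hcon x hx y hy])
    obtain ⟨s, t, hst⟩ := s3_not_comm
    apply hst
    have := isMulCommutative_iff.mp hcomm (e.symm s) (e.symm t)
    have h2 := congrArg e this
    rwa [map_mul, map_mul, e.apply_symm_apply, e.apply_symm_apply] at h2
  have hthird : ∀ d ∈ D, ∀ a ∈ nbr D d, ∀ b ∈ nbr D d, a * b * a ∈ nbr D d := by
    intro d hd a ha b hb
    have e1 : a * b * a = a * b * a⁻¹ := by
      rw [inv_eq_of_mul_eq_one_right (hsq a ha.1)]
    have hbd : b ≠ d := hb.2.1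
    refine ⟨e1 ▸ hconj a b hb.1, ?_, ?_⟩
    · intro e2
      apply hbd
      have hc : d * a = a * d := ha.2.2.eq
      calc b = (a * a) * b * (a * a) := by rw [hsq a ha.1]; group
        _ = a * (a * b * a) * a := by group
        _ = a * d * a := by rw [e2]
        _ = d * (a * a) := by rw [← hc]; group
        _ = d := by rw [hsq a ha.1, mul_one]
    · have h1 : d * a = a * d := ha.2.2.eq
      have h2 : d * b = b * d := hb.2.2.eq
      show d * (a * b * a) = a * b * a * d
      calc d * (a * b * a) = (d * a) * b * a := by group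
        _ = a * (d * b) * a := by rw [h1]; group
        _ = a * b * (d * a) := by rw [h2]; group
        _ = a * b * a * d := by rw [h1]; group
  refine ⟨hD, hconj, htwo, hncomm, ?_⟩
  intro d hd a ha b hb hab
  have hnc := hncomm d hd a ha b hb hab
  have hc := hthird d hd a ha b hb
  have hac : a ≠ a * b * a := by
    intro e
    apply hab
    have : a * 1 = a * (b * a) := by rw [mul_one, ← mul_assoc]; exact e
    have h1 : b * a = 1 := (mul_left_cancel this).symm
    calc a = (b * b) * a := by rw [hsq b hb.1, one_mul]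
      _ = b * (b * a) := by group
      _ = b := by rw [h1, mul_one]
  have hbc : b ≠ a * b * a := by
    intro e
    apply hnc
    show a * b = b * a
    calc a * b = (a * b * a) * a := by rw [mul_assoc (a * b), hsq a ha.1, mul_one]
      _ = b * a := by rw [← e]
  apply Set.Subset.antisymm
  · intro y hy
    obtain ⟨e⟩ := hloc d hd
    obtain ⟨ha1, ha2⟩ := hinv d hd e a ha
    obtain ⟨hb1, hb2⟩ := hinv d hd e b hb
    obtain ⟨hc1, hc2⟩ := hinv d hd e _ hc
    obtain ⟨hy1, hy2⟩ := hinv d hd e y hy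
    have inj : ∀ {u v : G} (hu : u ∈ nbr D d) (hv : v ∈ nbr D d), u ≠ v →
        e ⟨u, Subgroup.subset_closure hu⟩ ≠ e ⟨v, Subgroup.subset_closure hv⟩ := by
      intro u v hu hv huv h1
      exact huv (congrArg Subtype.val (e.injective h1))
    have key := s3_three_invol _ _ _ _ ha1 hb1 hc1 hy1 ha2 hb2 hc2 hy2 (inj ha hb hab)
      (inj ha hc hac) (inj hb hc hbc)
    rcases key with k | k | k
    · left; exact congrArg Subtype.val (e.injective k)
    · right; left; exact congrArg Subtype.val (e.injective k)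
    · right; right; exact congrArg Subtype.val (e.injective k)
  · intro y hy
    rcases hy with rfl | rfl | hy
    · exact ha
    · exact hb
    · rw [Set.mem_singleton_iff.mp hy]; exact hc

end Cfsg.Agent.Lib.Helper89_LineLocal
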