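import Mathlib
import Cfsg.Prelude.Def_FischerSpaces
import Cfsg.Prelude.Def_Solvable
import Cfsg.Agent.Lib.Helper89_Theta
import Cfsg.Agent.Lib.Helper89_LineBasics
import Cfsg.Agent.S2530

set_option autoImplicit false
open Cfsg

namespace Cfsg.Agent.Lib.Helper89_LinePetersen

open Cfsg.Agent.Lib.Helper89_Theta Cfsg.Agent.Lib.Helper89_LineBasics Equiv

variable {G : Type*} [Group G] {D : Set G}

theorem swap_injOn : ∀ p q : Fin 5 × Fin 5, p.1 < p.2 → q.1 < q.2 →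
    (swap p.1 p.2 : Perm (Fin 5)) = swap q.1 q.2 → p = q := by decide

theorem ncard_pairs : {p : Fin 5 × Fin 5 | p.1 < p.2}.ncard = 10 := by
  rw [Set.ncard_eq_toFinset_card']
  decide

theorem ncard_swaps : {σ : Perm (Fin 5) | σ.IsSwap}.ncard = 10 := by
  have himg : {σ : Perm (Fin 5) | σ.IsSwap} =
      (fun p : Fin 5 × Fin 5 => (swap p.1 p.2 : Perm (Fin 5))) '' {p | p.1 < p.2} := by
    ext σ
    constructor
    · rintro ⟨x, y, hxy, rfl⟩
      rcases lt_or_gt_of_ne hxy with hlt | hgt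
      · exact ⟨(x, y), hlt, rfl⟩
      · exact ⟨(y, x), hgt, swap_comm y x⟩
    · rintro ⟨p, hp, rfl⟩
      exact ⟨p.1, p.2, ne_of_lt hp, rfl⟩
  rw [himg, Set.InjOn.ncard_image, ncard_pairs]
  intro p hp q hq e
  exact swap_injOn p q hp hq e

/-- Four involutions with the Coxeter relations of type `A₄`, the first two different, give an
embedding of the symmetric group of degree five. -/
theorem exists_hom {s₁ s₂ s₃ s₄ : G} (h1 : s₁ * s₁ = 1) (h2 : s₂ * s₂ = 1) (h3 : s₃ * s₃ = 1)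
    (h4 : s₄ * s₄ = 1) (c12 : (s₁ * s₂) ^ 3 = 1) (c23 : (s₂ * s₃) ^ 3 = 1)
    (c34 : (s₃ * s₄) ^ 3 = 1) (c13 : Commute s₁ s₃) (c14 : Commute s₁ s₄) (c24 : Commute s₂ s₄)
    (hne : s₁ ≠ s₂) :
    ∃ Φ : Perm (Fin 5) →* G, Function.Injective Φ ∧ Φ (swap 0 1) = s₁ ∧ Φ (swap 1 2) = s₂ ∧
      Φ (swap 2 3) = s₃ ∧ Φ (swap 3 4) = s₄ := by
  have inv_sym : ∀ (s t : G) (n : ℕ), s * s = 1 → t * t = 1 → (s * t) ^ n = 1 → (t * s) ^ n = 1 := by
    intro s t n hs ht hst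
    have : t * s = (s * t)⁻¹ := by
      rw [_root_.mul_inv_rev, inv_eq_of_mul_eq_one_right hs, inv_eq_of_mul_eq_one_right ht]
    rw [this, inv_pow, hst, inv_one]
  have sq_of_comm : ∀ (s t : G), s * s = 1 → t * t = 1 → Commute s t → (s * t) ^ 2 = 1 := by
    intro s t hs ht hc
    rw [pow_two]
    calc s * t * (s * t) = s * (t * s) * t := by group
      _ = s * (s * t) * t := by rw [hc.eq]
      _ = (s * s) * (t * t) := by group
      _ = 1 := by rw [hs, ht, one_mul]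
  have d13 := sq_of_comm _ _ h1 h3 c13
  have d14 := sq_of_comm _ _ h1 h4 c14
  have d24 := sq_of_comm _ _ h2 h4 c24
  have hlift : (CoxeterMatrix.A 4).IsLiftable ![s₁, s₂, s₃, s₄] := by
    intro i j
    fin_cases i <;> fin_cases j
    · change (s₁ * s₁) ^ 1 = 1
      rw [h1, one_pow]
    · exact c12
    · exact d13
    · exact d14
    · exact inv_sym _ _ 3 h1 h2 c12
    · change (s₂ * s₂) ^ 1 = 1
      rw [h2, one_pow]
    · exact c23
    · exact d24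
    · exact inv_sym _ _ 2 h1 h3 d13
    · exact inv_sym _ _ 3 h2 h3 c23
    · change (s₃ * s₃) ^ 1 = 1
      rw [h3, one_pow]
    · exact c34
    · exact inv_sym _ _ 2 h1 h4 d14
    · exact inv_sym _ _ 2 h2 h4 d24
    · exact inv_sym _ _ 3 h3 h4 c34
    · change (s₄ * s₄) ^ 1 = 1
      rw [h4, one_pow]
  obtain ⟨cs, hcs⟩ := Cfsg.Agent.S2530.result 4
  have k0 : cs.simple 0 = swap 0 1 := hcs 0
  have k1 : cs.simple 1 = swap 1 2 := hcs 1
  have k2 : cs.simple 2 = swap 2 3 := hcs 2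
  have k3 : cs.simple 3 = swap 3 4 := hcs 3
  have e0 : cs.lift ⟨_, hlift⟩ (swap 0 1) = s₁ := by
    rw [← k0, cs.lift_apply_simple hlift]; rfl
  have e1 : cs.lift ⟨_, hlift⟩ (swap 1 2) = s₂ := by
    rw [← k1, cs.lift_apply_simple hlift]; rfl
  have e2 : cs.lift ⟨_, hlift⟩ (swap 2 3) = s₃ := by
    rw [← k2, cs.lift_apply_simple hlift]; rfl
  have e3 : cs.lift ⟨_, hlift⟩ (swap 3 4) = s₄ := by
    rw [← k3, cs.lift_apply_simple hlift]; rfl
  refine ⟨cs.lift ⟨_, hlift⟩, ?_, e0, e1, e2, e3⟩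
  rw [injective_iff_map_eq_one]
  intro σ hσ
  by_contra hne1
  have hnt : Nontrivial (cs.lift ⟨_, hlift⟩).ker := by
    rw [Subgroup.nontrivial_iff_exists_ne_one]
    exact ⟨σ, hσ, hne1⟩
  have hle := Equiv.Perm.alternatingGroup_le_of_normal (α := Fin 5) (by simp) hnt
  have hmem : (swap 0 1 * swap 1 2 : Perm (Fin 5)) ∈ alternatingGroup (Fin 5) := by
    rw [Equiv.Perm.mem_alternatingGroup]; decide
  have := hle hmem
  rw [MonoidHom.mem_ker, map_mul, e0, e1] at this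
  apply hne
  calc s₁ = s₁ * (s₂ * s₂) := by rw [h2, mul_one]
    _ = (s₁ * s₂) * s₂ := by group
    _ = s₂ := by rw [this, one_mul]

/-- The Petersen case: an edge `x — a` with neighbours `c` of `x` and `x'` of `a` that do not
commute forces `D` to generate the symmetric group of degree five. -/
theorem nonempty_mulEquiv_of_not_commute [Finite G] (h : LineHyp D) {x a c x' : G} (hx : x ∈ D)
    (ha : a ∈ nbr D x) (hc : c ∈ nbr D x) (hca : c ≠ a) (hx' : x' ∈ nbr D a) (hx'x : x' ≠ x)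
    (hnc : ¬ Commute c x') : Nonempty (↥(Subgroup.closure D) ≃* Perm (Fin 5)) := by
  have hxa : x ∈ nbr D a := LineHyp.nbr_symm hx ha
  have nac : ¬ Commute a c := h.ncomm x hx a ha c hc (fun e => hca e.symm)
  have nx'x : ¬ Commute x' x := h.ncomm a ha.1 x' hx' x hxa hx'x
  obtain ⟨Φ, hinj, e0, e1, e2, e3⟩ := exists_hom (h.sq ha.1) (h.sq hc.1) (h.sq hx'.1) (h.sq hx)
    (h.cube ha.1 hc.1 nac) (h.cube hc.1 hx'.1 hnc) (h.cube hx'.1 hx nx'x) hx'.2.2 ha.2.2.symm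
    hc.2.2.symm (fun e => hca e.symm)
  -- the ten transpositions
  have hΓD : Φ '' {σ : Perm (Fin 5) | σ.IsSwap} ⊆ D := by
    rintro _ ⟨σ, ⟨i, j, hij, rfl⟩, rfl⟩
    have h01 : (0 : Fin 5) ≠ 1 := by decide
    obtain ⟨τ, hτ⟩ := isConj_iff.mp (Equiv.Perm.isConj_swap h01 hij)
    rw [← hτ, map_mul, map_mul, map_inv, e0]
    exact h.conj _ a ha.1
  have hconjΓ : ∀ (τ : Perm (Fin 5)) (t : G), t ∈ Φ '' {σ : Perm (Fin 5) | σ.IsSwap} →
      Φ τ * t * (Φ τ)⁻¹ ∈ Φ '' {σ : Perm (Fin 5) | σ.IsSwap} := by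
    rintro τ _ ⟨σ, ⟨i, j, hij, rfl⟩, rfl⟩
    refine ⟨swap (τ i) (τ j), ⟨τ i, τ j, fun e => hij (τ.injective e), rfl⟩, ?_⟩
    rw [Equiv.swap_apply_apply, map_mul, map_mul, map_inv]
  have hΓ : NClosed D (Φ '' {σ : Perm (Fin 5) | σ.IsSwap}) := by
    refine ⟨hΓD, ?_⟩
    rintro _ ⟨σ, ⟨i, j, hij, rfl⟩, rfl⟩ s hs
    have h01 : (0 : Fin 5) ≠ 1 := by decide
    obtain ⟨τ, hτ⟩ := isConj_iff.mp (Equiv.Perm.isConj_swap h01 hij)
    -- `s` conjugated back is a neighbour of `a`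
    have h1 : (Φ τ)⁻¹ * s * ((Φ τ)⁻¹)⁻¹ ∈ nbr D a := by
      have := h.conj_nbr (Φ τ)⁻¹ hs
      have e : (Φ τ)⁻¹ * Φ (swap i j) * ((Φ τ)⁻¹)⁻¹ = a := by
        rw [← hτ, map_mul, map_mul, map_inv, e0]; group
      rwa [e] at this
    rw [h.line a ha.1 x hxa x' hx' (fun e => hx'x e.symm)] at h1
    have hmem : (Φ τ)⁻¹ * s * ((Φ τ)⁻¹)⁻¹ ∈ Φ '' {σ : Perm (Fin 5) | σ.IsSwap} := by
      rcases h1 with k | k | k
      · rw [k, ← e3]
        exact ⟨_, ⟨3, 4, by decide, rfl⟩, rfl⟩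
      · rw [k, ← e2]
        exact ⟨_, ⟨2, 3, by decide, rfl⟩, rfl⟩
      · rw [Set.mem_singleton_iff.mp k, ← e3, ← e2, ← map_mul, ← map_mul]
        refine ⟨_, ⟨2, 4, by decide, ?_⟩, rfl⟩
        decide
    have := hconjΓ τ _ hmem
    have e : Φ τ * ((Φ τ)⁻¹ * s * ((Φ τ)⁻¹)⁻¹) * (Φ τ)⁻¹ = s := by group
    rwa [e] at this
  have hcard : (Φ '' {σ : Perm (Fin 5) | σ.IsSwap}).ncard = 10 := by
    rw [Set.InjOn.ncard_image (hinj.injOn), ncard_swaps]
  have hDΓ : D = Φ '' {σ : Perm (Fin 5) | σ.IsSwap} := by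
    apply Set.Subset.antisymm _ hΓD
    intro y hy
    by_contra hyΓ
    have := h.three_dvd_ncard hΓ hy hyΓ
    rw [hcard] at this
    omega
  have hrange : Subgroup.closure D = Φ.range := by
    rw [hDΓ, ← MonoidHom.map_closure, Equiv.Perm.closure_isSwap, MonoidHom.range_eq_map]
  exact ⟨(MulEquiv.subgroupCongr hrange).trans (MonoidHom.ofInjective hinj).symm⟩

end Cfsg.Agent.Lib.Helper89_LinePetersen
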