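import Cfsg.Agent.S5366

/-!
Helper89: a criterion for the subspace spanned by a set of points of a partial linear space to be
isomorphic (with its induced lines) to a given model line system, through a parametrisation of
the points by the points of the model.
-/

set_option autoImplicit false
open Cfsg Cfsg.LineSystem

namespace Cfsg.Agent.Lib.Helper89_LineSystem

open Cfsg.Agent.S5366 (isSubspace_span subset_span)

variable {X Y : Type*}

/-- If `ψ` parametrises by the points of a model `M` a set of points of the partial linear space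
`L` containing `A`, generated from `A` in one step, maps lines of `M` to lines of `L`, and
collinearity of `L` between points in the range of `ψ` comes from `M`, then the subspace spanned
by `A` is isomorphic to `M`. -/
theorem isomorphic_restrict_span {L : Set (Set X)} {M : Set (Set Y)}
    (hpl : IsPartialLinear L) (h2 : ∀ l ∈ L, ∃ x ∈ l, ∃ y ∈ l, x ≠ y)
    (ψ : Y → X) (hψ : Function.Injective ψ) (A : Set X) (hA : A ⊆ Set.range ψ)
    (hgen : ∀ y, ψ y ∈ A ∨ ∃ m ∈ M, y ∈ m ∧ ∃ y1 ∈ m, ∃ y2 ∈ m, y1 ≠ y2 ∧ ψ y1 ∈ A ∧ ψ y2 ∈ A)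
    (hline : ∀ m ∈ M, ψ '' m ∈ L)
    (hcol : ∀ y1 y2, y1 ≠ y2 → (∃ l ∈ L, ψ y1 ∈ l ∧ ψ y2 ∈ l) → ∃ m ∈ M, y1 ∈ m ∧ y2 ∈ m) :
    Isomorphic (restrict L (span L A)) M := by
  -- lines of `L` through two points of the range come from `M`
  have hfrom : ∀ l ∈ L, ∀ y1 y2, y1 ≠ y2 → ψ y1 ∈ l → ψ y2 ∈ l → ∃ m ∈ M, l = ψ '' m := by
    intro l hl y1 y2 hne h1 h2'
    obtain ⟨m, hm, hy1, hy2⟩ := hcol y1 y2 hne ⟨l, hl, h1, h2'⟩
    refine ⟨m, hm, ?_⟩
    exact hpl l hl _ (hline m hm) (ψ y1) (ψ y2) (hψ.ne hne) h1 h2' ⟨y1, hy1, rfl⟩ ⟨y2, hy2, rfl⟩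
  have hsub : IsSubspace L (Set.range ψ) := by
    rintro l hl _ ⟨y1, rfl⟩ _ ⟨y2, rfl⟩ hne h1 h2'
    have hne' : y1 ≠ y2 := fun h => hne (by rw [h])
    obtain ⟨m, _, rfl⟩ := hfrom l hl y1 y2 hne' h1 h2'
    exact Set.image_subset_range ψ m
  have hspan : span L A = Set.range ψ := by
    apply Set.Subset.antisymm
    · intro x hx
      simp only [span, Set.mem_sInter, Set.mem_ofPred_eq] at hx
      exact hx _ ⟨hA, hsub⟩
    · rintro _ ⟨y, rfl⟩
      rcases hgen y with h | ⟨m, hm, hy, y1, hy1, y2, hy2, hne, h1, h2'⟩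
      · exact subset_span L A h
      · have h3 := isSubspace_span L A (ψ '' m) (hline m hm) (ψ y1) (subset_span L A h1) (ψ y2)
          (subset_span L A h2') (hψ.ne hne) ⟨y1, hy1, rfl⟩ ⟨y2, hy2, rfl⟩
        exact h3 ⟨y, hy, rfl⟩
  let e : ↥(span L A) ≃ Y := (Equiv.setCongr hspan).trans (Equiv.ofInjective ψ hψ).symm
  have he : ∀ q : ↥(span L A), ψ (e q) = (q : X) := by
    intro q
    have h1 : (Equiv.ofInjective ψ hψ) (e q) = Equiv.setCongr hspan q := by
      simp only [e, Equiv.trans_apply, Equiv.apply_symm_apply]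
    have h2' := congrArg Subtype.val h1
    simpa using h2'
  refine ⟨e, ?_⟩
  intro l'
  constructor
  · rintro ⟨l0, hl0, hl0S, rfl⟩
    obtain ⟨x, hx, x', hx', hne⟩ := h2 l0 hl0
    have hxr : x ∈ Set.range ψ := hspan ▸ hl0S hx
    have hxr' : x' ∈ Set.range ψ := hspan ▸ hl0S hx'
    obtain ⟨y1, rfl⟩ := hxr
    obtain ⟨y2, rfl⟩ := hxr'
    have hne' : y1 ≠ y2 := fun h => hne (by rw [h])
    obtain ⟨m, hm, rfl⟩ := hfrom l0 hl0 y1 y2 hne' hx hx'
    convert hm
    ext y
    simp only [Set.mem_image, Set.mem_ofPred_eq]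
    constructor
    · rintro ⟨q, ⟨y', hy', hq⟩, rfl⟩
      have : e q = y' := by
        apply hψ
        rw [he q, hq]
      rw [this]; exact hy'
    · intro hy
      have hmem : ψ y ∈ span L A := by rw [hspan]; exact ⟨y, rfl⟩
      refine ⟨⟨ψ y, hmem⟩, ⟨y, hy, rfl⟩, ?_⟩
      apply hψ
      rw [he]
  · intro hm
    refine ⟨ψ '' (e '' l'), hline _ hm, ?_, ?_⟩
    · rintro _ ⟨y, _, rfl⟩
      have : ψ y ∈ Set.range ψ := ⟨y, rfl⟩
      exact hspan ▸ this
    · ext q
      simp only [Set.mem_image, Set.mem_ofPred_eq]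
      constructor
      · intro hq
        exact ⟨e q, ⟨q, hq, rfl⟩, he q⟩
      · rintro ⟨y, ⟨q', hq', rfl⟩, hy⟩
        have : q' = q := by
          apply Subtype.ext
          rw [← he q', hy]
        rw [← this]; exact hq'

end Cfsg.Agent.Lib.Helper89_LineSystem
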