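import Mathlib
import Cfsg.Prelude.Def_FischerSpaces
import Cfsg.Agent.Lib.Helper89_InvolSylow
import Cfsg.Agent.Lib.Helper89_TTClass
import Cfsg.Agent.Lib.Helper89_Theta
import Cfsg.Agent.Lib.Helper89_Blocks

/-!
# Modules of the commuting graph of a class of 3-transpositions (helper89)

A subset `M ⊆ D` is a module (homogeneous set) of the commuting graph when every member of `D`
outside `M` commutes with all or with none of the members of `M`.  The union of two overlapping
modules is a module, the difference of two overlapping modules is a module, and conjugates of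
modules are modules.  If `G` acts primitively on the class `D` and the commuting graph is
connected, then a module with at least two members is all of `D` (`module_eq_of_prim`).
-/

set_option autoImplicit false
open Cfsg

namespace Cfsg.Agent.Lib.Helper89_Modules

open Cfsg.Agent.Lib.Helper89_InvolSylow Cfsg.Agent.Lib.Helper89_TTClass
  Cfsg.Agent.Lib.Helper89_Theta Cfsg.Agent.Lib.Helper89_Blocks

variable {G : Type*} [Group G]

/-- `M` is a module of the commuting graph on `D`: a member of `D` outside `M` commuting with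
one member of `M` commutes with all of them. -/
def IsModule (D M : Set G) : Prop :=
  ∀ y ∈ D, y ∉ M → ∀ x ∈ M, ∀ x' ∈ M, Commute y x → Commute y x'

theorem isModule_union {D M M' : Set G} (hM : IsModule D M) (hM' : IsModule D M') {z : G}
    (hz : z ∈ M) (hz' : z ∈ M') : IsModule D (M ∪ M') := by
  intro y hy hyn x hx x' hx' hc
  have hyM : y ∉ M := fun h => hyn (Or.inl h)
  have hyM' : y ∉ M' := fun h => hyn (Or.inr h)
  have hcz : Commute y z := by
    rcases hx with h | h
    · exact hM y hy hyM x h z hz hc
    · exact hM' y hy hyM' x h z hz' hc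
  rcases hx' with h | h
  · exact hM y hy hyM z hz x' h hcz
  · exact hM' y hy hyM' z hz' x' h hcz

theorem isModule_diff {D M M' : Set G} (hMD : M ⊆ D) (hM'D : M' ⊆ D) (hM : IsModule D M)
    (hM' : IsModule D M') {w : G} (hw : w ∈ M') (hwn : w ∉ M) : IsModule D (M \ M') := by
  intro y hy hyn x hx x' hx' hc
  by_cases hyM : y ∈ M
  · have hyM' : y ∈ M' := by
      by_contra h
      exact hyn ⟨hyM, h⟩
    have h1 : Commute x w := hM' x (hMD hx.1) hx.2 y hyM' w hw hc.symm
    have h2 : Commute w x' := hM w (hM'D hw) hwn x hx.1 x' hx'.1 h1.symm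
    have h3 : Commute x' y := hM' x' (hMD hx'.1) hx'.2 w hw y hyM' h2.symm
    exact h3.symm
  · exact hM y hy hyM x hx.1 x' hx'.1 hc

theorem isModule_cj {D M : Set G} (hconj : ∀ g : G, ∀ d ∈ D, g * d * g⁻¹ ∈ D)
    (hM : IsModule D M) (g : G) : IsModule D (cj g M) := by
  intro y hy hyn x hx x' hx' hc
  rw [mem_cj] at hx hx'
  have hyn' : g⁻¹ * y * g ∉ M := fun h => hyn (mem_cj.mpr h)
  have hy' : g⁻¹ * y * g ∈ D := by
    have := hconj g⁻¹ y hy
    simpa using this
  have key : ∀ u v : G, Commute u v → Commute (g⁻¹ * u * g) (g⁻¹ * v * g) := by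
    intro u v huv
    have := (Commute.conj_iff g⁻¹).mpr huv
    simpa using this
  have h1 := hM _ hy' hyn' _ hx _ hx' (key y x hc)
  have h2 := (Commute.conj_iff g).mpr h1
  have e1 : g * (g⁻¹ * y * g) * g⁻¹ = y := by group
  have e2 : g * (g⁻¹ * x' * g) * g⁻¹ = x' := by group
  rw [e1, e2] at h2
  exact h2

/-- Two disjoint modules: all pairs commute or no pair commutes. -/
theorem commute_all_or_none {D P Q : Set G} (hP : IsModule D P) (hQ : IsModule D Q)
    (hPD : P ⊆ D) (hQD : Q ⊆ D) (hdisj : Disjoint P Q) :
    (∀ p ∈ P, ∀ q ∈ Q, Commute p q) ∨ (∀ p ∈ P, ∀ q ∈ Q, ¬ Commute p q) := by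
  by_cases h : ∃ p₀ ∈ P, ∃ q₀ ∈ Q, Commute p₀ q₀
  · left
    obtain ⟨p₀, hp₀, q₀, hq₀, hc⟩ := h
    intro p hp q hq
    have hq₀P : q₀ ∉ P := Set.disjoint_right.mp hdisj hq₀
    have h1 : Commute q₀ p := hP q₀ (hQD hq₀) hq₀P p₀ hp₀ p hp hc.symm
    have hpQ : p ∉ Q := Set.disjoint_left.mp hdisj hp
    exact hQ p (hPD hp) hpQ q₀ hq₀ q hq h1.symm
  · right
    push Not at h
    exact h

/-- A class of 3-transpositions is not the union of two commuting non-empty parts. -/
theorem not_forall_commute {D : Set G} (hD : IsThreeTranspositionClass D) {P : Set G}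
    (hPD : P ⊆ D) {p₀ q₀ : G} (hp₀ : p₀ ∈ P) (hq₀ : q₀ ∈ D) (hq₀P : q₀ ∉ P)
    (h : ∀ p ∈ P, ∀ q ∈ D, q ∉ P → Commute p q) : False := by
  -- `P` is closed under conjugation by members of `D`
  have hcl : ∀ x ∈ D, ∀ p ∈ P, x * p * x⁻¹ ∈ P := by
    intro x hx p hp
    by_cases hc : Commute x p
    · have : x * p * x⁻¹ = p := by rw [hc.eq]; group
      rw [this]; exact hp
    · by_contra hn
      have hpD := hPD hp
      have h1 : Commute p (x * p * x⁻¹) := h p hp _ (conj_mem hD x hpD) hn
      have hxi := inv_of_orderOf_two (hD.1.1 x hx)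
      have hpp := sq_of_orderOf_two (hD.1.1 p hpD)
      have hbr : x * p * x = p * x * p := braid_of_not_commute hD hx hpD hc
      rw [hxi, hbr] at h1
      apply hc
      have h2 : p * (p * x * p) = (p * x * p) * p := h1.eq
      have h3 : x * p = p * x := by
        calc x * p = (p * p) * x * p := by rw [hpp]; group
          _ = p * (p * x * p) := by group
          _ = (p * x * p) * p := h2
          _ = p * x * (p * p) := by group
          _ = p * x := by rw [hpp]; group
      exact h3
  -- the stabilizer of `P`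
  let K : Subgroup G :=
    { carrier := {g | ∀ p : G, g * p * g⁻¹ ∈ P ↔ p ∈ P}
      one_mem' := by intro p; simp
      mul_mem' := by
        intro a b ha hb p
        have e : a * b * p * (a * b)⁻¹ = a * (b * p * b⁻¹) * a⁻¹ := by group
        rw [e, ha, hb]
      inv_mem' := by
        intro a ha p
        have := ha (a⁻¹ * p * a⁻¹⁻¹)
        have e : a * (a⁻¹ * p * a⁻¹⁻¹) * a⁻¹ = p := by group
        rw [e] at this
        exact this.symm }
  have hDK : D ⊆ K := by
    intro x hx p
    constructor
    · intro hxp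
      have := hcl x hx _ hxp
      have hxx := sq_of_orderOf_two (hD.1.1 x hx)
      have hxi := inv_of_orderOf_two (hD.1.1 x hx)
      have e : x * (x * p * x⁻¹) * x⁻¹ = p := by
        rw [hxi]
        calc x * (x * p * x) * x = (x * x) * p * (x * x) := by group
          _ = p := by rw [hxx]; group
      rwa [e] at this
    · exact hcl x hx p
  have hK : K = ⊤ := by
    rw [eq_top_iff, ← hD.2.2, Subgroup.closure_le]
    exact hDK
  obtain ⟨g, rfl⟩ := exists_conj hD (hPD hp₀) hq₀
  have hg : g ∈ K := hK ▸ Subgroup.mem_top g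
  exact hq₀P ((hg p₀).mpr hp₀)

/-- In a connected commuting graph some member of `P` commutes with some member outside. -/
theorem exists_commute_of_connected {D : Set G} (hconn : (Cfsg.commutingGraph D).Connected)
    {P : Set G} {p₀ q₀ : G} (hp₀D : p₀ ∈ D) (hp₀ : p₀ ∈ P) (hq₀ : q₀ ∈ D) (hq₀P : q₀ ∉ P) :
    ∃ p ∈ P, ∃ q ∈ D, q ∉ P ∧ Commute p q := by
  have key : ∀ (u v : D) (_ : (Cfsg.commutingGraph D).Walk u v), (u : G) ∈ P → (v : G) ∉ P →
      ∃ p ∈ P, ∃ q ∈ D, q ∉ P ∧ Commute p q := by
    intro u v w
    induction w with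
    | nil => intro h1 h2; exact absurd h1 h2
    | @cons u' v' w' hadj _ ih =>
      intro h1 h2
      by_cases hv : (v' : G) ∈ P
      · exact ih hv h2
      · unfold Cfsg.commutingGraph at hadj
        rw [SimpleGraph.fromRel_adj] at hadj
        obtain ⟨_, hc⟩ := hadj
        have hc' : Commute (u' : G) (v' : G) := by
          rcases hc with h | h
          · exact h
          · exact h.symm
        exact ⟨u', h1, v', v'.2, hv, hc'⟩
  obtain ⟨w⟩ := hconn.preconnected ⟨p₀, hp₀D⟩ ⟨q₀, hq₀⟩
  exact key _ _ w hp₀ hq₀P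

theorem cj_ncard [Finite G] (g : G) (M : Set G) : (cj g M).ncard = M.ncard := by
  unfold cj
  apply Set.ncard_image_of_injective
  intro x y hxy
  exact mul_left_cancel (mul_right_cancel hxy)

/-- Under a primitive action with connected commuting graph, a module with at least two members
is all of `D`. -/
theorem module_eq_of_prim [Finite G] {D : Set G} (hD : IsThreeTranspositionClass D)
    (hprim : Cfsg.IsPrimitiveUnderConj D) (hconn : (Cfsg.commutingGraph D).Connected) :
    ∀ n : ℕ, ∀ M : Set G, M ⊆ D → IsModule D M → M.Nontrivial → (D \ M).ncard = n → M = D := by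
  have hconj : ∀ g : G, ∀ d ∈ D, g * d * g⁻¹ ∈ D := fun g d hd => conj_mem hD g hd
  intro n
  induction n using Nat.strong_induction_on with
  | _ n ih =>
    intro M hMD hM hnt hn
    by_contra hne
    by_cases hblock : IsBlock M
    · rcases hprim.2.2 M hMD hblock with h | h
      · exact Set.not_subsingleton_iff.mpr hnt h
      · exact hne h
    · unfold IsBlock at hblock
      push Not at hblock
      obtain ⟨g, hgne, hgd⟩ := hblock
      rw [Set.not_disjoint_iff] at hgd
      obtain ⟨z, hz', hz⟩ := hgd
      have hM' : IsModule D (cj g M) := isModule_cj hconj hM g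
      have hM'D : cj g M ⊆ D := by
        rintro _ ⟨x, hx, rfl⟩
        exact hconj g x (hMD hx)
      -- a point of `cj g M` outside `M`
      have hw : ∃ w, w ∈ cj g M ∧ w ∉ M := by
        by_contra hcon
        push Not at hcon
        apply hgne
        apply Set.eq_of_subset_of_ncard_le hcon _ (Set.toFinite M)
        rw [cj_ncard]
      obtain ⟨w, hw, hwM⟩ := hw
      -- a point of `M` outside `cj g M`
      have hv : ∃ v, v ∈ M ∧ v ∉ cj g M := by
        by_contra hcon
        push Not at hcon
        apply hgne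
        symm
        apply Set.eq_of_subset_of_ncard_le hcon _ (Set.toFinite _)
        rw [cj_ncard]
      obtain ⟨v, hv, hvM'⟩ := hv
      -- the union is a larger module, hence all of `D`
      have hU : IsModule D (M ∪ cj g M) := isModule_union hM hM' hz hz'
      have hUD : M ∪ cj g M ⊆ D := Set.union_subset hMD hM'D
      have hUnt : (M ∪ cj g M).Nontrivial := hnt.mono Set.subset_union_left
      have hlt : (D \ (M ∪ cj g M)).ncard < n := by
        rw [← hn]
        apply Set.ncard_lt_ncard _ (Set.toFinite _)
        refine ⟨?_, ?_⟩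
        · intro x hx
          exact ⟨hx.1, fun h => hx.2 (Or.inl h)⟩
        · intro hsub
          have : w ∈ D \ (M ∪ cj g M) := hsub ⟨hM'D hw, hwM⟩
          exact this.2 (Or.inr hw)
      have hUeq : M ∪ cj g M = D := ih _ hlt _ hUD hU hUnt rfl
      -- the two parts `M \ cj g M` and `cj g M`
      have hP : IsModule D (M \ cj g M) := isModule_diff hMD hM'D hM hM' hw hwM
      have hPD : M \ cj g M ⊆ D := fun x hx => hMD hx.1
      have hdisj : Disjoint (M \ cj g M) (cj g M) := Set.disjoint_sdiff_left
      have hmem : ∀ q ∈ D, q ∉ M \ cj g M → q ∈ cj g M := by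
        intro q hq hqn
        rw [← hUeq] at hq
        rcases hq with h | h
        · by_contra h'
          exact hqn ⟨h, h'⟩
        · exact h
      rcases commute_all_or_none hP hM' hPD hM'D hdisj with hall | hnone
      · exact not_forall_commute hD hPD ⟨hv, hvM'⟩ (hM'D hw) (fun h => hwM h.1)
          (fun p hp q hq hqn => hall p hp q (hmem q hq hqn))
      · obtain ⟨p, hp, q, hq, hqn, hc⟩ := exists_commute_of_connected hconn (P := M \ cj g M)
          (hMD hv) ⟨hv, hvM'⟩ (hM'D hw) (fun h => hwM h.1)
        exact hnone p hp q (hmem q hq hqn) hc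

end Cfsg.Agent.Lib.Helper89_Modules
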