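import Mathlib
import Cfsg.Prelude.Def_FischerSpaces
import Cfsg.Agent.S5354
import Cfsg.Agent.Lib.Helper89_InvolSylow
import Cfsg.Agent.Lib.Helper89_TTClass
import Cfsg.Agent.Lib.Helper89_Theta
import Cfsg.Agent.Lib.Helper89_Prim
import Cfsg.Agent.Lib.Helper89_Modules

/-!
# Fischer's rank three property for primitive classes of 3-transpositions (helper89)

`D` is a class of 3-transpositions of the finite group `G` on which `G` acts primitively, with
connected commuting graph.  `PC x y x' y'` says that the ordered pairs `(x, y)` and `(x', y')`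
are conjugate in `G`.  The main results are
* `pc_of_not_commute`: the centralizer of `d ∈ D` is transitive on the members of `D` not
  commuting with `d`;
* `pc_of_commute`: the centralizer of `d ∈ D` is transitive on the members of `D` other than
  `d` commuting with `d`.
-/

set_option autoImplicit false
open Cfsg

namespace Cfsg.Agent.Lib.Helper89_RankThree

open Cfsg.Agent.Lib.Helper89_InvolSylow Cfsg.Agent.Lib.Helper89_TTClass
  Cfsg.Agent.Lib.Helper89_Theta Cfsg.Agent.Lib.Helper89_Prim Cfsg.Agent.Lib.Helper89_Modules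

variable {G : Type*} [Group G]

/-- The ordered pairs `(x, y)` and `(x', y')` are conjugate in `G`. -/
def PC (x y x' y' : G) : Prop := ∃ g : G, g * x * g⁻¹ = x' ∧ g * y * g⁻¹ = y'

theorem PC.refl (x y : G) : PC x y x y := ⟨1, by simp, by simp⟩

theorem PC.symm {x y x' y' : G} (h : PC x y x' y') : PC x' y' x y := by
  obtain ⟨g, rfl, rfl⟩ := h
  exact ⟨g⁻¹, by group, by group⟩

theorem PC.trans {x y x' y' x'' y'' : G} (h : PC x y x' y') (h' : PC x' y' x'' y'') :
    PC x y x'' y'' := by
  obtain ⟨g, rfl, rfl⟩ := h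
  obtain ⟨k, rfl, rfl⟩ := h'
  exact ⟨k * g, by group, by group⟩

/-! ### Word identities -/

section words

variable {u v y : G}

/-- `(x y x) x (x y x) = y` for braided involutions. -/
theorem conj_third_left {x z : G} (hx : x * x = 1) (hz : z * z = 1)
    (hbr : x * z * x = z * x * z) : (x * z * x) * x * (x * z * x) = z := by
  calc (x * z * x) * x * (x * z * x) = x * z * (x * x) * x * z * x := by group
    _ = (x * z * x) * z * x := by rw [hx]; group
    _ = (z * x * z) * z * x := by rw [hbr]
    _ = z * x * (z * z) * x := by group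
    _ = z * (x * x) := by rw [hz]; group
    _ = z := by rw [hx, mul_one]

/-- `(x y x) y (x y x) = x` for braided involutions. -/
theorem conj_third_right {x z : G} (hx : x * x = 1) (hz : z * z = 1)
    (hbr : x * z * x = z * x * z) : (x * z * x) * z * (x * z * x) = x := by
  calc (x * z * x) * z * (x * z * x) = x * z * (x * z * x) * z * x := by group
    _ = x * z * (z * x * z) * z * x := by rw [hbr]
    _ = x * (z * z) * x * (z * z) * x := by group
    _ = x * x * x := by rw [hz]; group
    _ = x := by rw [hx, one_mul]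

/-- In a Coxeter `A_3` configuration `u — v — y` the element `v (u y v y u)` conjugates `u`
to `y`. -/
theorem swap_word (hu : u * u = 1) (hy : y * y = 1) (hv : v * v = 1) (huy : u * y = y * u)
    (hvu : v * u * v = u * v * u) (hvy : v * y * v = y * v * y) :
    (v * (u * y * v * y * u)) * u * (v * (u * y * v * y * u)) = y := by
  have hyu : y * u * y = u := by
    calc y * u * y = y * (u * y) := by group
      _ = y * (y * u) := by rw [huy]
      _ = (y * y) * u := by group
      _ = u := by rw [hy, one_mul]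
  have huyu : u * y * u = y := by
    calc u * y * u = (u * y) * u := by group
      _ = (y * u) * u := by rw [huy]
      _ = y * (u * u) := by group
      _ = y := by rw [hu, mul_one]
  have hc := coxeter_commute huy hvu hvy
  -- rewrite `g = v e` on the right as `e v`
  have e1 : (v * (u * y * v * y * u)) * u * (v * (u * y * v * y * u))
      = v * ((u * y * v * y * u) * u * (u * y * v * y * u)) * v := by
    calc (v * (u * y * v * y * u)) * u * (v * (u * y * v * y * u))
        = v * (u * y * v * y * u) * u * (v * (u * y * v * y * u)) := by group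
      _ = v * (u * y * v * y * u) * u * ((u * y * v * y * u) * v) := by rw [hc]
      _ = v * ((u * y * v * y * u) * u * (u * y * v * y * u)) * v := by group
  rw [e1]
  have e2 : (u * y * v * y * u) * u * (u * y * v * y * u) = y * v * y := by
    calc (u * y * v * y * u) * u * (u * y * v * y * u)
        = u * y * v * y * (u * u) * u * y * v * y * u := by group
      _ = u * y * v * (y * u * y) * v * y * u := by rw [hu]; group
      _ = u * y * (v * u * v) * y * u := by rw [hyu]; group
      _ = u * y * (u * v * u) * y * u := by rw [hvu]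
      _ = (u * y * u) * v * (u * y * u) := by group
      _ = y * v * y := by rw [huyu]
  rw [e2, ← hvy]
  calc v * (v * y * v) * v = (v * v) * y * (v * v) := by group
    _ = y := by rw [hv]; group

/-- The element `v (u y v y u)` is an involution in a Coxeter `A_3` configuration. -/
theorem swap_word_sq (hu : u * u = 1) (hy : y * y = 1) (hv : v * v = 1) (huy : u * y = y * u)
    (hvu : v * u * v = u * v * u) (hvy : v * y * v = y * v * y) :
    (v * (u * y * v * y * u)) * (v * (u * y * v * y * u)) = 1 := by
  have hc := coxeter_commute huy hvu hvy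
  calc (v * (u * y * v * y * u)) * (v * (u * y * v * y * u))
      = v * ((u * y * v * y * u) * v) * (u * y * v * y * u) := by group
    _ = v * (v * (u * y * v * y * u)) * (u * y * v * y * u) := by rw [hc]
    _ = (v * v) * (u * y * v * y * (u * u) * y * v * y * u) := by group
    _ = u * y * v * (y * y) * v * y * u := by rw [hv, hu]; group
    _ = u * y * (v * v) * y * u := by rw [hy]; group
    _ = u * (y * y) * u := by rw [hv]; group
    _ = u * u := by rw [hy]; group
    _ = 1 := hu

end words

/-! ### Basic conjugacy of pairs -/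

section pairs

variable {D : Set G}

theorem pc_swap_of_not_commute (hD : IsThreeTranspositionClass D) {x y : G} (hx : x ∈ D)
    (hy : y ∈ D) (h : ¬ Commute x y) : PC x y y x := by
  have hbr : x * y * x = y * x * y := braid_of_not_commute hD hx hy h
  have hxx := sq_of_orderOf_two (hD.1.1 x hx)
  have hyy := sq_of_orderOf_two (hD.1.1 y hy)
  have hxi := inv_of_orderOf_two (hD.1.1 x hx)
  have hyi := inv_of_orderOf_two (hD.1.1 y hy)
  have hinv : (x * y * x)⁻¹ = x * y * x := by
    rw [mul_inv_rev, mul_inv_rev, hxi, hyi]; group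
  refine ⟨x * y * x, ?_, ?_⟩
  · rw [hinv]; exact conj_third_left hxx hyy hbr
  · rw [hinv]; exact conj_third_right hxx hyy hbr

/-- Two commuting members with a common non-commuting partner can be swapped. -/
theorem pc_swap_of_commute (hD : IsThreeTranspositionClass D) {p q u : G} (hp : p ∈ D)
    (hq : q ∈ D) (hu : u ∈ D) (hc : Commute p q) (hpu : ¬ Commute p u) (hqu : ¬ Commute q u) :
    PC p q q p := by
  have hpp := sq_of_orderOf_two (hD.1.1 p hp)
  have hqq := sq_of_orderOf_two (hD.1.1 q hq)
  have huu := sq_of_orderOf_two (hD.1.1 u hu)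
  have hup : u * p * u = p * u * p :=
    braid_of_not_commute hD hu hp (fun h => hpu h.symm)
  have huq : u * q * u = q * u * q :=
    braid_of_not_commute hD hu hq (fun h => hqu h.symm)
  have hsq := swap_word_sq hpp hqq huu hc.eq hup huq
  have hinv : (u * (p * q * u * q * p))⁻¹ = u * (p * q * u * q * p) :=
    inv_eq_of_mul_eq_one_right hsq
  refine ⟨u * (p * q * u * q * p), ?_, ?_⟩
  · rw [hinv]; exact swap_word hpp hqq huu hc.eq hup huq
  · rw [hinv]
    have e : p * q * u * q * p = q * p * u * p * q := by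
      calc p * q * u * q * p = (p * q) * u * (q * p) := by group
        _ = (q * p) * u * (p * q) := by rw [hc.eq]
        _ = q * p * u * p * q := by group
    rw [e]
    exact swap_word hqq hpp huu hc.eq.symm huq hup

/-- Two commuting members of `D` not commuting with `x` are conjugate under the centralizer
of `x`. -/
theorem pc_of_commute_of_not_commute (hD : IsThreeTranspositionClass D) {x y z : G} (hx : x ∈ D)
    (hy : y ∈ D) (hz : z ∈ D) (hxy : ¬ Commute x y) (hxz : ¬ Commute x z) (hyz : Commute y z) :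
    PC x y x z := by
  have hxx := sq_of_orderOf_two (hD.1.1 x hx)
  have hyy := sq_of_orderOf_two (hD.1.1 y hy)
  have hzz := sq_of_orderOf_two (hD.1.1 z hz)
  have hby : x * y * x = y * x * y := braid_of_not_commute hD hx hy hxy
  have hbz : x * z * x = z * x * z := braid_of_not_commute hD hx hz hxz
  have hsq := swap_word_sq hyy hzz hxx hyz.eq hby hbz
  have hinv : (x * (y * z * x * z * y))⁻¹ = x * (y * z * x * z * y) :=
    inv_eq_of_mul_eq_one_right hsq
  have hc := coxeter_commute hyz.eq hby hbz
  refine ⟨x * (y * z * x * z * y), ?_, ?_⟩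
  · rw [hinv]
    calc x * (y * z * x * z * y) * x * (x * (y * z * x * z * y))
        = x * ((y * z * x * z * y) * x) * (x * (y * z * x * z * y)) := by group
      _ = x * (x * (y * z * x * z * y)) * (x * (y * z * x * z * y)) := by rw [hc]
      _ = (x * x) * ((y * z * x * z * y) * x) * (y * z * x * z * y) := by group
      _ = (x * x) * (x * (y * z * x * z * y)) * (y * z * x * z * y) := by rw [hc]
      _ = x * (y * z * x * (z * (y * y) * z) * x * z * y) := by rw [hxx]; group
      _ = x * (y * z * (x * x) * z * y) := by rw [hyy]; simp only [mul_one]; rw [hzz]; group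
      _ = x * (y * (z * z) * y) := by rw [hxx]; group
      _ = x := by rw [hzz]; simp only [mul_one]; rw [hyy, mul_one]
  · rw [hinv]; exact swap_word hyy hzz hxx hyz.eq hby hbz

/-- Two non-commuting members of `D` commuting with `x` are conjugate under the centralizer
of `x`. -/
theorem pc_of_not_commute_of_commute (hD : IsThreeTranspositionClass D) {x y z : G}
    (hy : y ∈ D) (hz : z ∈ D) (hxy : Commute x y) (hxz : Commute x z) (hyz : ¬ Commute y z) :
    PC x y x z := by
  have hbr : y * z * y = z * y * z := braid_of_not_commute hD hy hz hyz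
  have hyy := sq_of_orderOf_two (hD.1.1 y hy)
  have hzz := sq_of_orderOf_two (hD.1.1 z hz)
  have hyi := inv_of_orderOf_two (hD.1.1 y hy)
  have hzi := inv_of_orderOf_two (hD.1.1 z hz)
  have hinv : (y * z * y)⁻¹ = y * z * y := by
    rw [mul_inv_rev, mul_inv_rev, hyi, hzi]; group
  refine ⟨y * z * y, ?_, ?_⟩
  · rw [hinv]
    calc y * z * y * x * (y * z * y) = y * z * (y * x) * (y * z * y) := by group
      _ = y * z * (x * y) * (y * z * y) := by rw [hxy.eq]
      _ = y * (z * x) * (y * y) * z * y := by group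
      _ = y * (x * z) * z * y := by rw [hyy, hxz.eq]; group
      _ = (y * x) * (z * z) * y := by group
      _ = (x * y) * y := by rw [hzz, hxy.eq]; group
      _ = x := by rw [mul_assoc, hyy, mul_one]
  · rw [hinv]; exact conj_third_left hyy hzz hbr

end pairs

/-! ### Closures of invariant subsets -/

section closure

variable {D : Set G}

theorem conj_mem_closure {S : Set G} {y : G} (h : ∀ s ∈ S, y * s * y⁻¹ ∈ S) :
    ∀ k ∈ Subgroup.closure S, y * k * y⁻¹ ∈ Subgroup.closure S := by
  intro k hk
  induction hk using Subgroup.closure_induction with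
  | mem x hx => exact Subgroup.subset_closure (h x hx)
  | one => simp
  | mul a b _ _ iha ihb =>
    have : y * (a * b) * y⁻¹ = (y * a * y⁻¹) * (y * b * y⁻¹) := by group
    rw [this]; exact mul_mem iha ihb
  | inv a _ iha =>
    have : y * a⁻¹ * y⁻¹ = (y * a * y⁻¹)⁻¹ := by group
    rw [this]; exact inv_mem iha

theorem mem_normalizer_of_invol {K : Subgroup G} {y : G} (hy : y * y = 1)
    (h : ∀ k ∈ K, y * k * y⁻¹ ∈ K) : y ∈ Subgroup.normalizer (K : Set G) := by
  rw [Subgroup.mem_set_normalizer_iff]
  intro n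
  have hyi : y⁻¹ = y := inv_eq_of_mul_eq_one_right hy
  constructor
  · intro hn; exact h n hn
  · intro hn
    have := h _ hn
    have e : y * (y * n * y⁻¹) * y⁻¹ = n := by
      rw [hyi]
      calc y * (y * n * y) * y = (y * y) * n * (y * y) := by group
        _ = n := by rw [hy]; group
    rw [e] at this
    exact this

theorem commute_conj_iff_of_fix {g x s : G} (hg : g * x * g⁻¹ = x) :
    Commute x (g * s * g⁻¹) ↔ Commute x s := by
  have := Commute.conj_iff g (a := x) (b := s)
  rw [hg] at this
  exact this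

theorem conj_eq_of_commute {y x : G} (h : Commute x y) : y * x * y⁻¹ = x := by
  rw [← h.eq]; group

theorem mem_center_of_commute_of_closure {S : Set G} (hS : Subgroup.closure S = ⊤) {u : G}
    (h : ∀ s ∈ S, Commute u s) : u ∈ Subgroup.center G := by
  have hle : Subgroup.closure S ≤ Subgroup.centralizer {u} := by
    rw [Subgroup.closure_le]
    intro s hs
    rw [SetLike.mem_coe, Subgroup.mem_centralizer_iff]
    intro z hz
    rw [Set.mem_singleton_iff] at hz
    rw [hz]
    exact (h s hs).eq
  rw [hS] at hle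
  rw [Subgroup.mem_center_iff]
  intro g
  have := hle (Subgroup.mem_top g)
  rw [Subgroup.mem_centralizer_iff] at this
  exact (this u rfl).symm

/-- A non-empty subset `S` of `D` invariant under the members of `D` commuting with `d`, whose
closure is normalized by some member of `D` not commuting with `d`, generates `G`. -/
theorem closure_eq_top_of_invariant [Finite G] (hD : IsThreeTranspositionClass D)
    (hprim : Cfsg.IsPrimitiveUnderConj D) (hconn : (Cfsg.commutingGraph D).Connected) {d : G}
    (hd : d ∈ D) {S : Set G} (hSD : S ⊆ D) (hne : S.Nonempty)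
    (hinv : ∀ y ∈ D, Commute d y → ∀ s ∈ S, y * s * y⁻¹ ∈ S) {a : G} (ha : a ∈ D)
    (hnc : ¬ Commute d a)
    (haN : ∀ k ∈ Subgroup.closure S, a * k * a⁻¹ ∈ Subgroup.closure S) :
    Subgroup.closure S = ⊤ := by
  have hN : Subgroup.normalizer ((Subgroup.closure S : Subgroup G) : Set G) = ⊤ := by
    apply Cfsg.Agent.S5354.eq_top_of_not_commute hD hprim hconn hd _ _ ha _ hnc
    · rw [Subgroup.closure_le]
      intro y hy
      exact mem_normalizer_of_invol (sq_of_orderOf_two (hD.1.1 y hy.1))
        (conj_mem_closure (hinv y hy.1 hy.2))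
    · exact mem_normalizer_of_invol (sq_of_orderOf_two (hD.1.1 a ha)) haN
  obtain ⟨s, hs⟩ := hne
  rw [eq_top_iff, ← hD.2.2, Subgroup.closure_le]
  intro x hx
  obtain ⟨g, rfl⟩ := exists_conj hD (hSD hs) hx
  have hg : g ∈ Subgroup.normalizer ((Subgroup.closure S : Subgroup G) : Set G) :=
    hN ▸ Subgroup.mem_top g
  rw [Subgroup.mem_set_normalizer_iff] at hg
  exact (hg s).mp (Subgroup.subset_closure hs)

/-- Two different commuting members of `D` have a common non-commuting partner. -/
theorem exists_not_commute_both [Finite G] (hD : IsThreeTranspositionClass D)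
    (hprim : Cfsg.IsPrimitiveUnderConj D) (hconn : (Cfsg.commutingGraph D).Connected) {p q : G}
    (hp : p ∈ D) (hq : q ∈ D) (hpq : p ≠ q) :
    ∃ u ∈ D, ¬ Commute p u ∧ ¬ Commute q u := by
  by_contra hcon
  push Not at hcon
  have hne : ∃ a ∈ D, ¬ Commute p a := by
    by_contra h
    push Not at h
    have hpc : p ∈ Subgroup.center G := mem_center_of_commute_of_closure hD.2.2 h
    exact hpq (eq_of_mem_center hD hp hq hpc)
  obtain ⟨a, haD, hnc⟩ := hne
  have hS : Subgroup.closure {u | u ∈ D ∧ ¬ Commute p u} = ⊤ := by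
    apply closure_eq_top_of_invariant hD hprim hconn hp (S := {u | u ∈ D ∧ ¬ Commute p u})
      (fun u hu => hu.1) ⟨a, haD, hnc⟩ _ haD hnc
    · intro k hk
      have haS : a ∈ Subgroup.closure {u | u ∈ D ∧ ¬ Commute p u} :=
        Subgroup.subset_closure ⟨haD, hnc⟩
      exact mul_mem (mul_mem haS hk) (inv_mem haS)
    · intro y hy hpy s hs
      refine ⟨conj_mem hD y hs.1, ?_⟩
      rw [commute_conj_iff_of_fix (conj_eq_of_commute hpy)]
      exact hs.2
  have hqc : q ∈ Subgroup.center G :=
    mem_center_of_commute_of_closure hS (fun s hs => hcon s hs.1 hs.2)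
  exact hpq (eq_of_mem_center hD hq hp hqc).symm

end closure

/-! ### The dichotomies -/

section dichotomy

variable {D : Set G}

theorem spade (hD : IsThreeTranspositionClass D) {x y z : G} (hx : x ∈ D) (hy : y ∈ D)
    (hz : z ∈ D) (hxy : ¬ Commute x y) (hxz : ¬ Commute x z) (hn : ¬ PC x y x z) :
    ∀ u ∈ D, Commute y u → Commute z u → Commute x u := by
  intro u hu hyu hzu
  by_contra hxu
  apply hn
  have h1 : PC x u x y := pc_of_commute_of_not_commute hD hx hu hy hxu hxy hyu.symm
  have h2 : PC x u x z := pc_of_commute_of_not_commute hD hx hu hz hxu hxz hzu.symm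
  exact h1.symm.trans h2

theorem spade' (hD : IsThreeTranspositionClass D) {x y z : G} (hy : y ∈ D)
    (hz : z ∈ D) (hxy : Commute x y) (hxz : Commute x z) (hn : ¬ PC x y x z) :
    ∀ u ∈ D, ¬ Commute y u → ¬ Commute z u → ¬ Commute x u := by
  intro u hu hyu hzu hxu
  apply hn
  have h1 : PC x u x y :=
    pc_of_not_commute_of_commute hD hu hy hxu hxy (fun h => hyu h.symm)
  have h2 : PC x u x z :=
    pc_of_not_commute_of_commute hD hu hz hxu hxz (fun h => hzu h.symm)
  exact h1.symm.trans h2

theorem dichotomy (hD : IsThreeTranspositionClass D) {d a b : G} (hd : d ∈ D) (ha : a ∈ D)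
    (hb : b ∈ D) (hda : ¬ Commute d a) (hdb : ¬ Commute d b) (hn : ¬ PC d a d b) :
    (∀ u ∈ D, Commute d u → Commute b u → Commute a u) ∨
      (∀ u ∈ D, Commute d u → Commute a u → Commute b u) := by
  have hab : ¬ Commute a b := fun h => hn (pc_of_commute_of_not_commute hD hd ha hb hda hdb h)
  by_cases h1 : PC a d a b
  · by_cases h2 : PC b d b a
    · exfalso
      apply hn
      have s1 : PC d a a d := pc_swap_of_not_commute hD hd ha hda
      have s2 : PC a b b a := pc_swap_of_not_commute hD ha hb hab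
      have s3 : PC b d d b := pc_swap_of_not_commute hD hb hd (fun h => hdb h.symm)
      exact s1.trans (h1.trans (s2.trans (h2.symm.trans s3)))
    · right
      exact spade hD hb hd ha (fun h => hdb h.symm) (fun h => hab h.symm) h2
  · left
    exact spade hD ha hd hb (fun h => hda h.symm) hab h1

theorem dichotomy' (hD : IsThreeTranspositionClass D)
    (hex : ∀ p ∈ D, ∀ q ∈ D, p ≠ q → ∃ u ∈ D, ¬ Commute p u ∧ ¬ Commute q u) {d e f : G}
    (hd : d ∈ D) (he : e ∈ D) (hf : f ∈ D) (hde : Commute d e) (hdf : Commute d f)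
    (hne : e ≠ d) (hnf : f ≠ d) (hn : ¬ PC d e d f) :
    (∀ u ∈ D, ¬ Commute d u → ¬ Commute f u → ¬ Commute e u) ∨
      (∀ u ∈ D, ¬ Commute d u → ¬ Commute e u → ¬ Commute f u) := by
  have hef : Commute e f := by
    by_contra h
    exact hn (pc_of_not_commute_of_commute hD he hf hde hdf h)
  have hef' : e ≠ f := fun h => hn (h ▸ PC.refl d e)
  by_cases h1 : PC e d e f
  · by_cases h2 : PC f d f e
    · exfalso
      apply hn
      obtain ⟨u1, hu1, h11, h12⟩ := hex d hd e he (Ne.symm hne)
      obtain ⟨u2, hu2, h21, h22⟩ := hex e he f hf hef'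
      obtain ⟨u3, hu3, h31, h32⟩ := hex f hf d hd hnf
      have s1 : PC d e e d := pc_swap_of_commute hD hd he hu1 hde h11 h12
      have s2 : PC e f f e := pc_swap_of_commute hD he hf hu2 hef h21 h22
      have s3 : PC f d d f := pc_swap_of_commute hD hf hd hu3 hdf.symm h31 h32
      exact s1.trans (h1.trans (s2.trans (h2.symm.trans s3)))
    · right
      exact spade' hD hd he hdf.symm hef.symm h2
  · left
    exact spade' hD hd hf hde.symm hef h1

end dichotomy

/-! ### The two transitivity statements -/

section main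

variable [Finite G] {D : Set G}

omit [Finite G] in
/-- Conjugation by an element fixing `d` preserves the relation `PC d a d ·`. -/
theorem pc_conj {d a s y : G} (hy : y * d * y⁻¹ = d) : PC d a d (y * s * y⁻¹) ↔ PC d a d s := by
  constructor
  · intro h
    refine h.trans ⟨y⁻¹, ?_, by group⟩
    calc y⁻¹ * d * y⁻¹⁻¹ = y⁻¹ * (y * d * y⁻¹) * y := by rw [hy]; group
      _ = d := by group
  · intro h
    exact h.trans ⟨y, hy, rfl⟩

/-- The centralizer of `d` is transitive on the members of `D` not commuting with `d`. -/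
theorem pc_of_not_commute (hD : IsThreeTranspositionClass D)
    (hprim : Cfsg.IsPrimitiveUnderConj D) (hconn : (Cfsg.commutingGraph D).Connected) {d : G}
    (hd : d ∈ D) : ∀ c ∈ D, ∀ c' ∈ D, ¬ Commute d c → ¬ Commute d c' → PC d c d c' := by
  intro c hc c' hc' hdc hdc'
  obtain ⟨a₀, ha₀, hmin⟩ := Set.exists_min_image {a | a ∈ D ∧ ¬ Commute d a}
    (fun a => {u | u ∈ D ∧ Commute d u ∧ Commute a u}.ncard) (Set.toFinite _) ⟨c, hc, hdc⟩
  obtain ⟨ha₀D, hda₀⟩ := ha₀
  have key : ∀ b ∈ D, ¬ Commute d b → PC d a₀ d b := by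
    intro b hb hdb
    by_contra hn
    -- Step 1
    have step1 : ∀ b' ∈ D, ¬ Commute d b' → ¬ PC d a₀ d b' →
        ∀ u ∈ D, Commute d u → Commute a₀ u → Commute b' u := by
      intro b' hb' hdb' hn'
      rcases dichotomy hD hd ha₀D hb' hda₀ hdb' hn' with h | h
      · have hsub : {u | u ∈ D ∧ Commute d u ∧ Commute b' u} ⊆
            {u | u ∈ D ∧ Commute d u ∧ Commute a₀ u} :=
          fun u hu => ⟨hu.1, hu.2.1, h u hu.1 hu.2.1 hu.2.2⟩
        have hle := hmin b' ⟨hb', hdb'⟩
        have heq := Set.eq_of_subset_of_ncard_le hsub hle (Set.toFinite _)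
        intro u hu hdu hau
        have hmem : u ∈ {u | u ∈ D ∧ Commute d u ∧ Commute a₀ u} := ⟨hu, hdu, hau⟩
        rw [← heq] at hmem
        exact hmem.2.2
      · exact h
    -- Step 2
    have step2 : Subgroup.closure {b' | b' ∈ D ∧ ¬ Commute d b' ∧ ¬ PC d a₀ d b'} = ⊤ := by
      apply closure_eq_top_of_invariant hD hprim hconn hd
        (S := {b' | b' ∈ D ∧ ¬ Commute d b' ∧ ¬ PC d a₀ d b'})
        (fun u hu => hu.1) ⟨b, hb, hdb, hn⟩ _ hb hdb
      · intro k hk
        have hbS : b ∈ Subgroup.closure {b' | b' ∈ D ∧ ¬ Commute d b' ∧ ¬ PC d a₀ d b'} :=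
          Subgroup.subset_closure ⟨hb, hdb, hn⟩
        exact mul_mem (mul_mem hbS hk) (inv_mem hbS)
      · intro y hy hdy s hs
        have hfix := conj_eq_of_commute hdy
        refine ⟨conj_mem hD y hs.1, ?_, ?_⟩
        · rw [commute_conj_iff_of_fix hfix]
          exact hs.2.1
        · rw [pc_conj hfix]
          exact hs.2.2
    -- Step 3
    have step3 : ∀ u ∈ D, Commute d u → ¬ Commute a₀ u := by
      intro u hu hdu hau
      have huc : u ∈ Subgroup.center G :=
        mem_center_of_commute_of_closure step2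
          (fun s hs => (step1 s hs.1 hs.2.1 hs.2.2 u hu hdu hau).symm)
      obtain ⟨x, hx, x', hx', hxx'⟩ := hprim.2.1
      apply hxx'
      rw [← eq_of_mem_center hD hu hx huc, ← eq_of_mem_center hD hu hx' huc]
    -- Step 4
    have step4 : ∀ a ∈ {a | a ∈ D ∧ ¬ Commute d a ∧ PC d a₀ d a}, ∀ y ∈ D, Commute a y →
        y ∈ {a | a ∈ D ∧ ¬ Commute d a ∧ PC d a₀ d a} := by
      rintro a ⟨haD, hda, hpc⟩ y hy hay
      obtain ⟨g, hgd, hga⟩ := hpc
      have hgd' : g⁻¹ * d * g⁻¹⁻¹ = d := by
        calc g⁻¹ * d * g⁻¹⁻¹ = g⁻¹ * (g * d * g⁻¹) * g := by rw [hgd]; group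
          _ = d := by group
      have hdy : ¬ Commute d y := by
        intro hdy
        apply step3 (g⁻¹ * y * g⁻¹⁻¹) (conj_mem hD g⁻¹ hy)
        · rw [commute_conj_iff_of_fix hgd']
          exact hdy
        · have h1 := (Commute.conj_iff g⁻¹).mpr hay
          have e : g⁻¹ * a * g⁻¹⁻¹ = a₀ := by rw [← hga]; group
          rw [e] at h1
          exact h1
      refine ⟨hy, hdy, ?_⟩
      exact PC.trans ⟨g, hgd, hga⟩ (pc_of_commute_of_not_commute hD hd haD hy hda hdy hay)
    -- Step 5
    obtain ⟨p, hp, q, hq, hqn, hcpq⟩ := exists_commute_of_connected hconn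
      (P := {a | a ∈ D ∧ ¬ Commute d a ∧ PC d a₀ d a}) ha₀D ⟨ha₀D, hda₀, PC.refl d a₀⟩ hd
      (fun h => h.2.1 (Commute.refl d))
    exact hqn (step4 p hp q hq hcpq)
  exact (key c hc hdc).symm.trans (key c' hc' hdc')

/-- The centralizer of `d` is transitive on the members of `D` other than `d` commuting with
`d`. -/
theorem pc_of_commute (hD : IsThreeTranspositionClass D)
    (hprim : Cfsg.IsPrimitiveUnderConj D) (hconn : (Cfsg.commutingGraph D).Connected) {d : G}
    (hd : d ∈ D) : ∀ b ∈ D, ∀ b' ∈ D, b ≠ d → b' ≠ d → Commute d b → Commute d b' →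
      PC d b d b' := by
  intro c hc c' hc' hcd hcd' hdc hdc'
  have hex : ∀ p ∈ D, ∀ q ∈ D, p ≠ q → ∃ u ∈ D, ¬ Commute p u ∧ ¬ Commute q u :=
    fun p hp q hq hpq => exists_not_commute_both hD hprim hconn hp hq hpq
  obtain ⟨e₀, he₀, hmin⟩ := Set.exists_min_image {e | e ∈ D ∧ e ≠ d ∧ Commute d e}
    (fun e => {u | u ∈ D ∧ ¬ Commute d u ∧ ¬ Commute e u}.ncard) (Set.toFinite _)
    ⟨c, hc, hcd, hdc⟩
  obtain ⟨he₀D, he₀d, hde₀⟩ := he₀
  have key : ∀ f ∈ D, f ≠ d → Commute d f → PC d e₀ d f := by
    intro f hf hfd hdf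
    by_contra hn
    -- Step 1
    have step1 : ∀ f' ∈ D, f' ≠ d → Commute d f' → ¬ PC d e₀ d f' →
        ∀ u ∈ D, ¬ Commute d u → ¬ Commute e₀ u → ¬ Commute f' u := by
      intro f' hf' hf'd hdf' hn'
      rcases dichotomy' hD hex hd he₀D hf' hde₀ hdf' he₀d hf'd hn' with h | h
      · have hsub : {u | u ∈ D ∧ ¬ Commute d u ∧ ¬ Commute f' u} ⊆
            {u | u ∈ D ∧ ¬ Commute d u ∧ ¬ Commute e₀ u} :=
          fun u hu => ⟨hu.1, hu.2.1, h u hu.1 hu.2.1 hu.2.2⟩
        have hle := hmin f' ⟨hf', hf'd, hdf'⟩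
        have heq := Set.eq_of_subset_of_ncard_le hsub hle (Set.toFinite _)
        intro u hu hdu heu
        have hmem : u ∈ {u | u ∈ D ∧ ¬ Commute d u ∧ ¬ Commute e₀ u} := ⟨hu, hdu, heu⟩
        rw [← heq] at hmem
        exact hmem.2.2
      · exact h
    -- Step 2
    have step2 : ∀ u ∈ D, ¬ Commute d u →
        ∃ e ∈ {e | e ∈ D ∧ e ≠ d ∧ Commute d e ∧ PC d e₀ d e}, ¬ Commute e u := by
      intro u hu hdu
      by_contra hcon
      push Not at hcon
      have hS : Subgroup.closure {e | e ∈ D ∧ e ≠ d ∧ Commute d e ∧ PC d e₀ d e} = ⊤ := by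
        apply closure_eq_top_of_invariant hD hprim hconn hd
          (S := {e | e ∈ D ∧ e ≠ d ∧ Commute d e ∧ PC d e₀ d e})
          (fun u hu => hu.1) ⟨e₀, he₀D, he₀d, hde₀, PC.refl d e₀⟩ _ hu hdu
        · apply conj_mem_closure
          intro s hs
          have := conj_eq_of_commute (hcon s hs)
          rw [this]
          exact hs
        · intro y hy hdy s hs
          have hfix := conj_eq_of_commute hdy
          refine ⟨conj_mem hD y hs.1, ?_, ?_, ?_⟩
          · intro h
            apply hs.2.1
            have e1 : s = y⁻¹ * (y * s * y⁻¹) * y := by group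
            rw [e1, h]
            calc y⁻¹ * d * y = y⁻¹ * (y * d * y⁻¹) * y := by rw [hfix]
              _ = d := by group
          · rw [commute_conj_iff_of_fix hfix]
            exact hs.2.2.1
          · rw [pc_conj hfix]
            exact hs.2.2.2
      have hdc' : d ∈ Subgroup.center G :=
        mem_center_of_commute_of_closure hS (fun s hs => hs.2.2.1)
      obtain ⟨x, hx, x', hx', hxx'⟩ := hprim.2.1
      apply hxx'
      rw [← eq_of_mem_center hD hd hx hdc', ← eq_of_mem_center hD hd hx' hdc']
    -- Step 3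
    have step3 : ∀ u ∈ D, ¬ Commute d u →
        ∀ f' ∈ {f' | f' ∈ D ∧ f' ≠ d ∧ Commute d f' ∧ ¬ PC d e₀ d f'}, ¬ Commute f' u := by
      intro u hu hdu f' hf'
      obtain ⟨e, ⟨heD, hed, hde, hpc⟩, heu⟩ := step2 u hu hdu
      obtain ⟨g, hgd, hge⟩ := hpc
      have hgd' : g⁻¹ * d * g⁻¹⁻¹ = d := by
        calc g⁻¹ * d * g⁻¹⁻¹ = g⁻¹ * (g * d * g⁻¹) * g := by rw [hgd]; group
          _ = d := by group
      have h1 : ¬ Commute (g⁻¹ * f' * g⁻¹⁻¹) (g⁻¹ * u * g⁻¹⁻¹) := by
        apply step1 (g⁻¹ * f' * g⁻¹⁻¹) (conj_mem hD g⁻¹ hf'.1)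
        · intro h
          apply hf'.2.1
          have e1 : f' = g * (g⁻¹ * f' * g⁻¹⁻¹) * g⁻¹ := by group
          rw [e1, h, hgd]
        · rw [commute_conj_iff_of_fix hgd']
          exact hf'.2.2.1
        · rw [pc_conj hgd']
          exact hf'.2.2.2
        · exact conj_mem hD g⁻¹ hu
        · rw [commute_conj_iff_of_fix hgd']
          exact hdu
        · intro h
          apply heu
          have h2 := (Commute.conj_iff g).mpr h
          have e1 : g * (g⁻¹ * u * g⁻¹⁻¹) * g⁻¹ = u := by group
          rw [hge, e1] at h2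
          exact h2
      intro h
      exact h1 ((Commute.conj_iff g⁻¹).mpr h)
    -- Step 4: the module
    have hmod : IsModule D {x | x = d ∨ (x ∈ D ∧ x ≠ d ∧ Commute d x ∧ ¬ PC d e₀ d x)} := by
      intro v hv hvM x hx x' hx' hcvx
      by_cases hdv : Commute d v
      · have hvd : v ≠ d := fun h => hvM (Or.inl h)
        have hpc : PC d e₀ d v := by
          by_contra h
          exact hvM (Or.inr ⟨hv, hvd, hdv, h⟩)
        rcases hx' with rfl | hx'
        · exact hdv.symm
        · by_contra hnc
          exact hx'.2.2.2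
            (hpc.trans (pc_of_not_commute_of_commute hD hv hx'.1 hdv hx'.2.2.1 hnc))
      · exfalso
        rcases hx with rfl | hx
        · exact hdv hcvx.symm
        · exact step3 v hv hdv x hx hcvx.symm
    have hMD : {x | x = d ∨ (x ∈ D ∧ x ≠ d ∧ Commute d x ∧ ¬ PC d e₀ d x)} ⊆ D := by
      rintro x (rfl | hx)
      · exact hd
      · exact hx.1
    have hnt : {x | x = d ∨ (x ∈ D ∧ x ≠ d ∧ Commute d x ∧ ¬ PC d e₀ d x)}.Nontrivial :=
      ⟨d, Or.inl rfl, f, Or.inr ⟨hf, hfd, hdf, hn⟩, fun h => hfd h.symm⟩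
    have hM := module_eq_of_prim hD hprim hconn _ _ hMD hmod hnt rfl
    have he₀M : e₀ ∈ {x | x = d ∨ (x ∈ D ∧ x ≠ d ∧ Commute d x ∧ ¬ PC d e₀ d x)} := by
      rw [hM]; exact he₀D
    rcases he₀M with h | h
    · exact he₀d h
    · exact h.2.2.2 (PC.refl d e₀)
  exact (key c hc hcd hdc).symm.trans (key c' hc' hcd' hdc')

end main

end Cfsg.Agent.Lib.Helper89_RankThree
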