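import Mathlib
import Cfsg.Prelude.Def_FischerSpaces
import Cfsg.Agent.Lib.Helper89_InvolSylow
import Cfsg.Agent.Lib.Helper89_TTClass
import Cfsg.Agent.Lib.Helper89_Theta
import Cfsg.Agent.Lib.Helper89_Blocks
import Cfsg.Agent.Lib.Helper89_Prim
import Cfsg.Agent.Lib.Helper89_Modules
import Cfsg.Agent.Lib.Helper89_RankThree

/-!
# The commuting partners of a 3-transposition form one class of the subgroup they generate

`D` is a class of 3-transpositions of the finite group `G` on which `G` acts primitively, with
connected commuting graph.  For `x ∈ D` let `S x` be the set of members of `D` other than `x`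
commuting with `x`.  The main result `orb_of_mem` says that `S x` is a single orbit under
conjugation by the subgroup generated by `S x`.
-/

set_option autoImplicit false
open Cfsg

namespace Cfsg.Agent.Lib.Helper89_LocalClass

open Cfsg.Agent.Lib.Helper89_InvolSylow Cfsg.Agent.Lib.Helper89_TTClass
  Cfsg.Agent.Lib.Helper89_Theta Cfsg.Agent.Lib.Helper89_Prim Cfsg.Agent.Lib.Helper89_Modules
  Cfsg.Agent.Lib.Helper89_RankThree Cfsg.Agent.Lib.Helper89_Blocks

variable {G : Type*} [Group G]

/-- The members of `D` other than `x` commuting with `x`. -/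
def S (D : Set G) (x : G) : Set G := {y | y ∈ D ∧ y ≠ x ∧ Commute x y}

/-- `y` and `y'` are conjugate under the subgroup generated by `S D x`. -/
def Orb (D : Set G) (x y y' : G) : Prop := ∃ g ∈ Subgroup.closure (S D x), g * y * g⁻¹ = y'

theorem Orb.refl (D : Set G) (x y : G) : Orb D x y y := ⟨1, one_mem _, by simp⟩

theorem Orb.symm {D : Set G} {x y y' : G} (h : Orb D x y y') : Orb D x y' y := by
  obtain ⟨g, hg, rfl⟩ := h
  exact ⟨g⁻¹, inv_mem hg, by group⟩

theorem Orb.trans {D : Set G} {x y y' y'' : G} (h : Orb D x y y') (h' : Orb D x y' y'') :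
    Orb D x y y'' := by
  obtain ⟨g, hg, rfl⟩ := h
  obtain ⟨k, hk, rfl⟩ := h'
  exact ⟨k * g, mul_mem hk hg, by group⟩

section basics

variable {D : Set G}

/-- The subgroup generated by `S D x` centralizes `x`. -/
theorem commute_of_mem_closure {x g : G} (hg : g ∈ Subgroup.closure (S D x)) : Commute x g := by
  have hle : Subgroup.closure (S D x) ≤ Subgroup.centralizer {x} := by
    rw [Subgroup.closure_le]
    intro y hy
    rw [SetLike.mem_coe, Subgroup.mem_centralizer_iff]
    intro z hz
    rw [Set.mem_singleton_iff] at hz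
    rw [hz]
    exact hy.2.2.eq
  have := Subgroup.mem_centralizer_iff.mp (hle hg) x rfl
  exact this

/-- Orbits of members of `S D x` stay in `S D x`. -/
theorem mem_S_of_orb (hD : IsThreeTranspositionClass D) {x y y' : G} (hy : y ∈ S D x)
    (h : Orb D x y y') : y' ∈ S D x := by
  obtain ⟨g, hg, rfl⟩ := h
  have hgx : g * x * g⁻¹ = x := conj_eq_of_commute (commute_of_mem_closure hg)
  refine ⟨conj_mem hD g hy.1, ?_, ?_⟩
  · intro h
    apply hy.2.1
    rw [← hgx] at h
    exact mul_left_cancel (mul_right_cancel h)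
  · rw [commute_conj_iff_of_fix hgx]
    exact hy.2.2

/-- Two non-commuting members of `S D x` are in the same orbit. -/
theorem orb_of_not_commute (hD : IsThreeTranspositionClass D) {x y y' : G} (hy : y ∈ S D x)
    (hy' : y' ∈ S D x) (h : ¬ Commute y y') : Orb D x y y' := by
  have hbr : y * y' * y = y' * y * y' := braid_of_not_commute hD hy.1 hy'.1 h
  have hyy := sq_of_orderOf_two (hD.1.1 y hy.1)
  have hyy' := sq_of_orderOf_two (hD.1.1 y' hy'.1)
  have hyi := inv_of_orderOf_two (hD.1.1 y hy.1)
  have hyi' := inv_of_orderOf_two (hD.1.1 y' hy'.1)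
  have hmem : y * y' * y ∈ Subgroup.closure (S D x) :=
    mul_mem (mul_mem (Subgroup.subset_closure hy) (Subgroup.subset_closure hy'))
      (Subgroup.subset_closure hy)
  have hinv : (y * y' * y)⁻¹ = y * y' * y := by
    rw [mul_inv_rev, mul_inv_rev, hyi, hyi']; group
  refine ⟨y * y' * y, hmem, ?_⟩
  rw [hinv]
  exact conj_third_left hyy hyy' hbr

/-- A member of `S D x` outside the orbit of `y` commutes with the whole orbit of `y`. -/
theorem commute_of_not_orb (hD : IsThreeTranspositionClass D) {x y u y' : G} (hy : y ∈ S D x)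
    (hu : u ∈ S D x) (hn : ¬ Orb D x y u) (h : Orb D x y y') : Commute u y' := by
  by_contra hc
  apply hn
  have hy' : y' ∈ S D x := mem_S_of_orb hD hy h
  exact h.trans (orb_of_not_commute hD hy' hu (fun h' => hc h'.symm))

/-- Conjugation transports `S`. -/
theorem conj_mem_S (hD : IsThreeTranspositionClass D) (g : G) {x y : G} (hy : y ∈ S D x) :
    g * y * g⁻¹ ∈ S D (g * x * g⁻¹) := by
  refine ⟨conj_mem hD g hy.1, ?_, (Commute.conj_iff g).mpr hy.2.2⟩
  intro h
  exact hy.2.1 (mul_left_cancel (mul_right_cancel h))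

/-- Conjugation transports the subgroup generated by `S`. -/
theorem conj_mem_closure_S (hD : IsThreeTranspositionClass D) (g : G) {x k : G}
    (hk : k ∈ Subgroup.closure (S D x)) :
    g * k * g⁻¹ ∈ Subgroup.closure (S D (g * x * g⁻¹)) := by
  induction hk using Subgroup.closure_induction with
  | mem y hy => exact Subgroup.subset_closure (conj_mem_S hD g hy)
  | one => simp
  | mul a b _ _ iha ihb =>
    have : g * (a * b) * g⁻¹ = (g * a * g⁻¹) * (g * b * g⁻¹) := by group
    rw [this]; exact mul_mem iha ihb
  | inv a _ iha =>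
    have : g * a⁻¹ * g⁻¹ = (g * a * g⁻¹)⁻¹ := by group
    rw [this]; exact inv_mem iha

/-- Conjugation transports orbits. -/
theorem orb_conj (hD : IsThreeTranspositionClass D) (g : G) {x y y' : G} (h : Orb D x y y') :
    Orb D (g * x * g⁻¹) (g * y * g⁻¹) (g * y' * g⁻¹) := by
  obtain ⟨k, hk, rfl⟩ := h
  exact ⟨g * k * g⁻¹, conj_mem_closure_S hD g hk, by group⟩

/-- If the orbit of `z` under the subgroup generated by `S D x` lies in `S D y`, it lies in the
orbit of `z` under the subgroup generated by `S D y`. -/
theorem orb_of_orb_of_subset (hD : IsThreeTranspositionClass D) {x y z : G} (hz : z ∈ S D x)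
    (hsub : ∀ z', Orb D x z z' → z' ∈ S D y) : ∀ z', Orb D x z z' → Orb D y z z' := by
  have key : ∀ g ∈ Subgroup.closure (S D x),
      (∀ z', Orb D x z z' → Orb D y z z' → Orb D y z (g * z' * g⁻¹)) ∧
      (∀ z', Orb D x z z' → Orb D y z z' → Orb D y z (g⁻¹ * z' * g)) := by
    intro g hg
    induction hg using Subgroup.closure_induction with
    | mem u hu =>
      have hui := inv_of_orderOf_two (hD.1.1 u hu.1)
      have hmain : ∀ z', Orb D x z z' → Orb D y z z' → Orb D y z (u * z' * u⁻¹) := by
        intro z' h1 h2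
        by_cases hc : Commute u z'
        · rw [conj_eq_of_commute hc.symm]
          exact h2
        · have hz' : z' ∈ S D x := mem_S_of_orb hD hz h1
          have h3 : Orb D x z' u := orb_of_not_commute hD hz' hu (fun h => hc h.symm)
          have huy : u ∈ S D y := hsub u (h1.trans h3)
          exact h2.trans ⟨u, Subgroup.subset_closure huy, rfl⟩
      refine ⟨hmain, ?_⟩
      intro z' h1 h2
      have := hmain z' h1 h2
      rw [hui] at this
      rw [hui]
      exact this
    | one => simp
    | mul a b ha hb iha ihb =>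
      constructor
      · intro z' h1 h2
        have e : a * b * z' * (a * b)⁻¹ = a * (b * z' * b⁻¹) * a⁻¹ := by group
        rw [e]
        exact iha.1 _ (h1.trans ⟨b, hb, rfl⟩) (ihb.1 z' h1 h2)
      · intro z' h1 h2
        have e : (a * b)⁻¹ * z' * (a * b) = b⁻¹ * (a⁻¹ * z' * a) * b := by group
        rw [e]
        refine ihb.2 _ (h1.trans ⟨a⁻¹, inv_mem ha, by group⟩) (iha.2 z' h1 h2)
    | inv a _ iha =>
      refine ⟨?_, ?_⟩
      · intro z' h1 h2
        have := iha.2 z' h1 h2
        rw [inv_inv]
        exact this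
      · intro z' h1 h2
        have := iha.1 z' h1 h2
        rw [inv_inv]
        exact this
  rintro z' ⟨g, hg, rfl⟩
  exact (key g hg).1 z (Orb.refl D x z) (Orb.refl D y z)

end basics

section main

variable {D : Set G}

/-- Two different commuting members of `D` do not have nested commuting sets. -/
theorem exists_commute_not_commute [Finite G] (hD : IsThreeTranspositionClass D)
    (hprim : Cfsg.IsPrimitiveUnderConj D) (hconn : (Cfsg.commutingGraph D).Connected) {x y : G}
    (hx : x ∈ D) (hy : y ∈ D) (hxy : x ≠ y) (hc : Commute x y) :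
    ∃ a ∈ D, Commute y a ∧ ¬ Commute x a := by
  by_contra hcon
  push Not at hcon
  obtain ⟨u, hu, hxu, hyu⟩ := exists_not_commute_both hD hprim hconn hx hy hxy
  obtain ⟨h, hhx, hhy⟩ := pc_swap_of_commute hD hx hy hu hc hxu hyu
  have hrev : ∀ a ∈ D, Commute x a → Commute y a := by
    intro a ha hxa
    have h1 : Commute (h * x * h⁻¹) (h * a * h⁻¹) := (Commute.conj_iff h).mpr hxa
    rw [hhx] at h1
    have h2 : Commute x (h * a * h⁻¹) := hcon _ (conj_mem hD h ha) h1
    rw [← hhy] at h2
    exact (Commute.conj_iff h).mp h2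
  have hmod : IsModule D {x, y} := by
    intro w hw _ p hp q hq hwp
    have hwx : Commute x w := by
      rcases hp with rfl | hp
      · exact hwp.symm
      · rw [Set.mem_singleton_iff] at hp
        rw [hp] at hwp
        exact hcon w hw hwp.symm
    rcases hq with rfl | hq
    · exact hwx.symm
    · rw [Set.mem_singleton_iff] at hq
      rw [hq]
      exact (hrev w hw hwx).symm
  have hsub : ({x, y} : Set G) ⊆ D := by
    intro w hw
    rcases hw with rfl | hw
    · exact hx
    · rw [Set.mem_singleton_iff] at hw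
      rw [hw]; exact hy
  have hnt : ({x, y} : Set G).Nontrivial := ⟨x, by simp, y, by simp, hxy⟩
  have heq := module_eq_of_prim hD hprim hconn _ _ hsub hmod hnt rfl
  rw [← heq] at hu
  rcases hu with rfl | hu
  · exact hxu (Commute.refl _)
  · rw [Set.mem_singleton_iff] at hu
    rw [hu] at hyu
    exact hyu (Commute.refl _)

/-- A member commuting with every member of a set conjugates the generated subgroup trivially. -/
theorem conj_eq_of_commute_closure {T : Set G} {a k : G} (h : ∀ s ∈ T, Commute a s)
    (hk : k ∈ Subgroup.closure T) : a * k * a⁻¹ = k := by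
  have hle : Subgroup.closure T ≤ Subgroup.centralizer {a} := by
    rw [Subgroup.closure_le]
    intro s hs
    rw [SetLike.mem_coe, Subgroup.mem_centralizer_iff]
    intro z hz
    rw [Set.mem_singleton_iff] at hz
    rw [hz]
    exact (h s hs).eq
  have h1 := Subgroup.mem_centralizer_iff.mp (hle hk) a rfl
  rw [h1]; group

/-- The members of `D` other than `x` commuting with `x` form one orbit under the subgroup they
generate. -/
theorem orb_of_mem [Finite G] (hD : IsThreeTranspositionClass D)
    (hprim : Cfsg.IsPrimitiveUnderConj D) (hconn : (Cfsg.commutingGraph D).Connected) {x : G}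
    (hx : x ∈ D) : ∀ y ∈ S D x, ∀ z ∈ S D x, Orb D x y z := by
  intro y hy z hz
  by_contra hn0
  have hn : ¬ Orb D x z y := fun h => hn0 h.symm
  -- the orbit of z under the first subgroup lies in `S D y`
  have hsub : ∀ z', Orb D x z z' → z' ∈ S D y := by
    intro z' h
    have hz' : z' ∈ S D x := mem_S_of_orb hD hz h
    refine ⟨hz'.1, ?_, commute_of_not_orb hD hz hy hn h⟩
    rintro rfl
    exact hn h
  have hsub2 := orb_of_orb_of_subset hD hz hsub
  have hzSy : z ∈ S D y := hsub z (Orb.refl D x z)
  have hxSy : x ∈ S D y := ⟨hx, fun h => hy.2.1 h.symm, hy.2.2.symm⟩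
  -- a conjugating member fixing z and sending x to y
  obtain ⟨g, hgz, hgx⟩ := pc_of_commute hD hprim hconn hz.1 x hx y hy.1 (fun h => hz.2.1 h.symm)
    (fun h => hzSy.2.1 h.symm) hz.2.2.symm hzSy.2.2.symm
  have hgz' : g⁻¹ * z * g⁻¹⁻¹ = z := by
    rw [inv_inv]
    calc g⁻¹ * z * g = g⁻¹ * (g * z * g⁻¹) * g := by rw [hgz]
      _ = z := by group
  have hgx' : g⁻¹ * y * g⁻¹⁻¹ = x := by
    rw [inv_inv, ← hgx]; group
  have hcard : {z' | Orb D y z z'} = cj g {z' | Orb D x z z'} := by
    ext w
    rw [mem_cj, Set.mem_ofPred_eq, Set.mem_ofPred_eq]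
    constructor
    · intro h
      have := orb_conj hD g⁻¹ h
      rw [hgz', hgx', inv_inv] at this
      exact this
    · intro h
      have := orb_conj hD g h
      rw [hgz, hgx] at this
      have e : g * (g⁻¹ * w * g) * g⁻¹ = w := by group
      rw [e] at this
      exact this
  have heq : {z' | Orb D x z z'} = {z' | Orb D y z z'} := by
    have hle : {z' | Orb D y z z'}.ncard ≤ {z' | Orb D x z z'}.ncard := by
      rw [hcard, cj_ncard]
    exact Set.eq_of_subset_of_ncard_le (fun z' h => hsub2 z' h) hle (Set.toFinite _)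
  have hxn : ¬ Orb D y z x := by
    intro h
    have h' : x ∈ {z' | Orb D x z z'} := by rw [heq]; exact h
    exact (mem_S_of_orb hD hz h').2.1 rfl
  obtain ⟨a, haD, hya, hxa⟩ := exists_commute_not_commute hD hprim hconn hx hy.1
    (fun h => hy.2.1 h.symm) hy.2.2
  have haSy : a ∈ S D y := by
    refine ⟨haD, ?_, hya⟩
    rintro rfl
    exact hxa hy.2.2
  have hxa' : Orb D y x a := orb_of_not_commute hD hxSy haSy hxa
  have hza : ¬ Orb D y z a := fun h => hxn (h.trans hxa'.symm)
  have hacomm : ∀ s ∈ {z' | Orb D x z z'}, Commute a s := by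
    intro s hs
    exact commute_of_not_orb hD hzSy haSy hza (hsub2 s hs)
  have htop : Subgroup.closure {z' | Orb D x z z'} = ⊤ := by
    apply closure_eq_top_of_invariant hD hprim hconn hx (S := {z' | Orb D x z z'})
      (fun s hs => (mem_S_of_orb hD hz hs).1) ⟨z, Orb.refl D x z⟩ _ haD hxa
    · intro k hk
      rw [conj_eq_of_commute_closure hacomm hk]
      exact hk
    · intro w hw hxw s hs
      by_cases hwx : w = x
      · rw [hwx, conj_eq_of_commute (mem_S_of_orb hD hz hs).2.2.symm]
        exact hs
      · have hwS : w ∈ S D x := ⟨hw, hwx, hxw⟩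
        exact Orb.trans hs ⟨w, Subgroup.subset_closure hwS, rfl⟩
  have hxc : x ∈ Subgroup.center G :=
    mem_center_of_commute_of_closure htop (fun s hs => (mem_S_of_orb hD hz hs).2.2)
  exact hy.2.1 (eq_of_mem_center hD hx hy.1 hxc).symm

end main

end Cfsg.Agent.Lib.Helper89_LocalClass
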