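import Mathlib
import Cfsg.Prelude.Def_FischerSpaces
import Cfsg.Agent.Lib.Helper89_InvolSylow
import Cfsg.Agent.Lib.Helper89_TTClass
import Cfsg.Agent.Lib.Helper89_Theta
import Cfsg.Agent.Lib.Helper89_Blocks
import Cfsg.Agent.Lib.Helper89_Prim
import Cfsg.Agent.Lib.Helper89_Modules
import Cfsg.Agent.Lib.Helper89_RankThree
import Cfsg.Agent.Lib.Helper89_LocalClass

/-!
# Pairs with the same commuting partners among the commuting partners of a 3-transposition

`D` is a class of 3-transpositions of the finite group `G`, `S D x` the members of `D` other than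
`x` commuting with `x`.  A pair `a, b` of non-commuting members of `S D x` has the same partners
when every other member of `S D x` commutes with both or with neither.  Such a pair arises when a
subgroup of odd order normalized by the subgroup generated by `S D x` is not centralized by it
(`exists_sameNbr`).  Under a primitive action with connected commuting graph, the existence of one
such pair forces every `S D x` to contain no two different commuting members
(`eq_of_commute_of_sameNbr`).
-/

set_option autoImplicit false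
open Cfsg

namespace Cfsg.Agent.Lib.Helper89_SameNbr

open Cfsg.Agent.Lib.Helper89_InvolSylow Cfsg.Agent.Lib.Helper89_TTClass
  Cfsg.Agent.Lib.Helper89_Theta Cfsg.Agent.Lib.Helper89_Prim Cfsg.Agent.Lib.Helper89_Modules
  Cfsg.Agent.Lib.Helper89_RankThree Cfsg.Agent.Lib.Helper89_Blocks
  Cfsg.Agent.Lib.Helper89_LocalClass

variable {G : Type*} [Group G]

section words

/-- For involutions, `x z x = z` iff they commute. -/
theorem conj_eq_iff_commute {x z : G} (hx : x * x = 1) : x * z * x = z ↔ x * z = z * x := by
  constructor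
  · intro h
    calc x * z = x * z * (x * x) := by rw [hx, mul_one]
      _ = (x * z * x) * x := by group
      _ = z * x := by rw [h]
  · intro h
    calc x * z * x = (x * z) * x := by group
      _ = z * x * x := by rw [h]
      _ = z * (x * x) := by group
      _ = z := by rw [hx, mul_one]

/-- If the third points of the lines `y y'` and `c y'` coincide, then `c = y`. -/
theorem eq_of_third_eq {y y' c : G}
    (hbr : y * y' * y = y' * y * y') (hbr' : c * y' * c = y' * c * y')
    (h : y * y' * y = c * y' * c) : c = y := by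
  have h1 : y' * y * y' = y' * c * y' := by rw [← hbr, ← hbr', h]
  have h2 : y * y' = c * y' := by
    have := mul_left_cancel (a := y') (b := y * y') (c := c * y') (by
      calc y' * (y * y') = y' * y * y' := by group
        _ = y' * c * y' := h1
        _ = y' * (c * y') := by group)
    exact this
  exact (mul_right_cancel h2).symm

/-- The key configuration: `y, y'` braided, `c` commuting with `y` and braided with `y'`; then the
product of the third points of the two lines is an involution. -/
theorem third_mul_third_sq {y y' c : G} (hy : y * y = 1) (hy' : y' * y' = 1) (hc : c * c = 1)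
    (hbr : y * y' * y = y' * y * y') (hcy : c * y = y * c)
    (hbr' : c * y' * c = y' * c * y') :
    (y * y' * y * (c * y' * c)) * (y * y' * y * (c * y' * c)) = 1 := by
  -- `c y y' y c` commutes with `y'`
  have hbr'' : y' * c * y' = c * y' * c := hbr'.symm
  have hbr3 : y' * y * y' = y * y' * y := hbr.symm
  have h1 := coxeter_commute (u := c) (y := y) (v := y') hcy hbr'' hbr3
  -- conjugate by c
  have h2 : (y * y' * y) * (c * y' * c) = (c * y' * c) * (y * y' * y) := by
    have e1 : y * y' * y = c * (c * y * y' * y * c) * c := by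
      calc y * y' * y = (c * c) * y * y' * y * (c * c) := by rw [hc]; group
        _ = c * (c * y * y' * y * c) * c := by group
    rw [e1]
    calc c * (c * y * y' * y * c) * c * (c * y' * c)
        = c * (c * y * y' * y * c) * (c * c) * y' * c := by group
      _ = c * ((c * y * y' * y * c) * y') * c := by rw [hc]; group
      _ = c * (y' * (c * y * y' * y * c)) * c := by rw [h1]
      _ = c * y' * (c * c) * (c * y * y' * y * c) * c := by rw [hc]; group
      _ = c * y' * c * (c * (c * y * y' * y * c) * c) := by group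
  have hz : (y * y' * y) * (y * y' * y) = 1 := by
    calc (y * y' * y) * (y * y' * y) = y * y' * (y * y) * y' * y := by group
      _ = y * (y' * y') * y := by rw [hy]; group
      _ = 1 := by rw [hy']; simp only [mul_one]; exact hy
  have hz' : (c * y' * c) * (c * y' * c) = 1 := by
    calc (c * y' * c) * (c * y' * c) = c * y' * (c * c) * y' * c := by group
      _ = c * (y' * y') * c := by rw [hc]; group
      _ = 1 := by rw [hy']; simp only [mul_one]; exact hc
  calc (y * y' * y * (c * y' * c)) * (y * y' * y * (c * y' * c))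
      = (y * y' * y) * ((c * y' * c) * (y * y' * y)) * (c * y' * c) := by group
    _ = (y * y' * y) * ((y * y' * y) * (c * y' * c)) * (c * y' * c) := by rw [h2]
    _ = ((y * y' * y) * (y * y' * y)) * ((c * y' * c) * (c * y' * c)) := by group
    _ = 1 := by rw [hz, hz', one_mul]

/-- A subgroup without involutions, containing `y y'` and its conjugate under `c`, forces `c`
commuting with `y` to commute with `y'`. -/
theorem not_braid_of_mul_mem {N : Subgroup G} (hN : ∀ w ∈ N, w * w = 1 → w = 1) {y y' c : G}
    (hy : y * y = 1) (hy' : y' * y' = 1) (hc : c * c = 1)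
    (hbr : y * y' * y = y' * y * y') (hcy : c * y = y * c) (hne : c ≠ y)
    (hmem : y * y' ∈ N) (hcN : c * (y * y') * c⁻¹ ∈ N) :
    ¬ (c * y' * c = y' * c * y') := by
  intro hbr'
  have hci : c⁻¹ = c := inv_eq_of_mul_eq_one_right hc
  have hw : y * y' * y * (c * y' * c) = (y * y') * (c * (y * y') * c⁻¹) := by
    rw [hci]
    calc y * y' * y * (c * y' * c) = y * y' * (y * c) * y' * c := by group
      _ = y * y' * (c * y) * y' * c := by rw [hcy]
      _ = (y * y') * (c * (y * y') * c) := by group
  have hwN : y * y' * y * (c * y' * c) ∈ N := by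
    rw [hw]; exact mul_mem hmem hcN
  have h1 := hN _ hwN (third_mul_third_sq hy hy' hc hbr hcy hbr')
  -- so the third points coincide
  have hz' : (c * y' * c) * (c * y' * c) = 1 := by
    calc (c * y' * c) * (c * y' * c) = c * y' * (c * c) * y' * c := by group
      _ = c * (y' * y') * c := by rw [hc]; group
      _ = 1 := by rw [hy']; simp only [mul_one]; exact hc
  have h2 : y * y' * y = c * y' * c := by
    calc y * y' * y = (y * y' * y) * ((c * y' * c) * (c * y' * c)) := by rw [hz', mul_one]
      _ = (y * y' * y * (c * y' * c)) * (c * y' * c) := by group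
      _ = c * y' * c := by rw [h1, one_mul]
  exact hne (eq_of_third_eq hbr hbr' h2)

end words

/-! ### Members of `S D x` with the same commuting partners inside `S D x` -/

/-- `a` and `b` are non-commuting members of `S D x` with the same commuting partners in
`S D x`. -/
def SameNbr (D : Set G) (x a b : G) : Prop :=
  a ∈ S D x ∧ b ∈ S D x ∧ ¬ Commute a b ∧
    ∀ c ∈ S D x, c ≠ a → c ≠ b → (Commute c a ↔ Commute c b)

section sameNbr

variable {D : Set G}

theorem SameNbr.conj (hD : IsThreeTranspositionClass D) {x a b : G} (h : SameNbr D x a b)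
    (g : G) : SameNbr D (g * x * g⁻¹) (g * a * g⁻¹) (g * b * g⁻¹) := by
  obtain ⟨ha, hb, hab, hc⟩ := h
  refine ⟨conj_mem_S hD g ha, conj_mem_S hD g hb, fun h => hab ((Commute.conj_iff g).mp h), ?_⟩
  intro c hcS hca hcb
  have h1 := conj_mem_S hD g⁻¹ hcS
  have e1 : g⁻¹ * (g * x * g⁻¹) * g⁻¹⁻¹ = x := by group
  rw [e1] at h1
  have e2 : c = g * (g⁻¹ * c * g⁻¹⁻¹) * g⁻¹ := by group
  have hca' : g⁻¹ * c * g⁻¹⁻¹ ≠ a := by
    intro h; apply hca; rw [e2, h]
  have hcb' : g⁻¹ * c * g⁻¹⁻¹ ≠ b := by
    intro h; apply hcb; rw [e2, h]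
  have h2 := hc _ h1 hca' hcb'
  rw [e2, Commute.conj_iff, Commute.conj_iff]
  exact h2

theorem SameNbr.symm {x a b : G} (h : SameNbr D x a b) : SameNbr D x b a := by
  obtain ⟨ha, hb, hab, hc⟩ := h
  exact ⟨hb, ha, fun h => hab h.symm, fun c hcS hcb hca => (hc c hcS hca hcb).symm⟩

/-- A subgroup of odd order normalized by the subgroup generated by `S D x` and not centralized
by it produces a pair with the same commuting partners. -/
theorem exists_sameNbr [Finite G] (hD : IsThreeTranspositionClass D) {x : G}
    (N : Subgroup G) (hodd : Odd (Nat.card N))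
    (hnorm : ∀ l ∈ Subgroup.closure (S D x), ∀ n ∈ N, l * n * l⁻¹ ∈ N) {q : G} (hqN : q ∈ N)
    (hqL : q ∈ Subgroup.closure (S D x)) {y : G} (hy : y ∈ S D x) (hqy : ¬ Commute q y) :
    SameNbr D x y (q * y * q⁻¹) := by
  have hN : ∀ w ∈ N, w * w = 1 → w = 1 := by
    intro w hw hww
    by_contra hne
    have ho : orderOf w = 2 := by
      apply orderOf_eq_prime
      · rw [pow_two]; exact hww
      · exact hne
    exact not_mem_of_odd ho N hodd hw
  have hy' : q * y * q⁻¹ ∈ S D x := mem_S_of_orb hD hy ⟨q, hqL, rfl⟩
  have hyy := sq_of_orderOf_two (hD.1.1 y hy.1)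
  have hyy' := sq_of_orderOf_two (hD.1.1 _ hy'.1)
  have hyi := inv_of_orderOf_two (hD.1.1 y hy.1)
  have hyi' := inv_of_orderOf_two (hD.1.1 _ hy'.1)
  have hyL : y ∈ Subgroup.closure (S D x) := Subgroup.subset_closure hy
  have hmem : y * (q * y * q⁻¹) ∈ N := by
    have : y * (q * y * q⁻¹) = (y * q * y⁻¹) * q⁻¹ := by rw [hyi]; group
    rw [this]
    exact mul_mem (hnorm y hyL q hqN) (inv_mem hqN)
  have hmem' : (q * y * q⁻¹) * y ∈ N := by
    have : (q * y * q⁻¹) * y = (y * (q * y * q⁻¹))⁻¹ := by
      rw [mul_inv_rev, hyi', hyi]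
    rw [this]; exact inv_mem hmem
  have hne : q * y * q⁻¹ ≠ y := by
    intro h
    apply hqy
    show q * y = y * q
    calc q * y = (q * y * q⁻¹) * q := by group
      _ = y * q := by rw [h]
  have hnc : ¬ Commute y (q * y * q⁻¹) := by
    intro hc
    have hsq : (y * (q * y * q⁻¹)) * (y * (q * y * q⁻¹)) = 1 := by
      calc (y * (q * y * q⁻¹)) * (y * (q * y * q⁻¹))
          = y * ((q * y * q⁻¹) * y) * (q * y * q⁻¹) := by group
        _ = y * (y * (q * y * q⁻¹)) * (q * y * q⁻¹) := by rw [hc.eq]
        _ = (y * y) * ((q * y * q⁻¹) * (q * y * q⁻¹)) := by group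
        _ = 1 := by rw [hyy, hyy', one_mul]
    have h1 := hN _ hmem hsq
    apply hne
    calc q * y * q⁻¹ = (y * y) * (q * y * q⁻¹) := by rw [hyy, one_mul]
      _ = y * (y * (q * y * q⁻¹)) := by group
      _ = y := by rw [h1, mul_one]
  have hbr : y * (q * y * q⁻¹) * y = (q * y * q⁻¹) * y * (q * y * q⁻¹) :=
    braid_of_not_commute hD hy.1 hy'.1 hnc
  refine ⟨hy, hy', hnc, ?_⟩
  intro c hcS hcy hcy'
  have hcc := sq_of_orderOf_two (hD.1.1 c hcS.1)
  have hcL : c ∈ Subgroup.closure (S D x) := Subgroup.subset_closure hcS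
  constructor
  · intro hc
    by_contra hnc'
    have hb := braid_of_not_commute hD hcS.1 hy'.1 hnc'
    exact not_braid_of_mul_mem hN hyy hyy' hcc hbr hc.eq hcy hmem (hnorm c hcL _ hmem) hb
  · intro hc
    by_contra hnc'
    have hb := braid_of_not_commute hD hcS.1 hy.1 hnc'
    exact not_braid_of_mul_mem hN hyy' hyy hcc hbr.symm hc.eq hcy' hmem' (hnorm c hcL _ hmem') hb

end sameNbr

/-! ### The `D₄` configuration -/

section dfour

variable {p q r e a : G}

/-- In a `D₄` configuration with centre `e` and pairwise commuting leaves `p, q, r`, the element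
`e x e x e` with `x = p q r` commutes with the leaf `r`. -/
theorem d4_commute (he : e * e = 1) (hpq : p * q = q * p)
    (hpr : p * r = r * p) (hqr : q * r = r * q) (hep : e * p * e = p * e * p)
    (heq : e * q * e = q * e * q) (her : e * r * e = r * e * r) :
    r * (e * (p * q * r) * e * (p * q * r) * e) * r = e * (p * q * r) * e * (p * q * r) * e := by
  have hy := coxeter_commute (u := p) (y := q) (v := e) hpq hep heq
  have hx : (p * q * r) * e * (p * q * r) = r * (p * q * e * q * p) * r := by
    have e1 : p * q * r = r * (p * q) := by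
      calc p * q * r = p * (q * r) := by group
        _ = p * (r * q) := by rw [hqr]
        _ = (p * r) * q := by group
        _ = r * p * q := by rw [hpr]
        _ = r * (p * q) := by group
    have e2 : p * q * r = (q * p) * r := by rw [hpq]
    calc (p * q * r) * e * (p * q * r) = (r * (p * q)) * e * ((q * p) * r) := by
          rw [← e1, ← e2]
      _ = r * (p * q * e * q * p) * r := by group
  have hu : e * (p * q * r) * e * (p * q * r) * e = e * (r * (p * q * e * q * p) * r) * e := by
    rw [← hx]; group
  rw [hu]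
  have her' : r * e * r = e * r * e := her.symm
  calc r * (e * (r * (p * q * e * q * p) * r) * e) * r
      = (r * e * r) * (p * q * e * q * p) * (r * e * r) := by group
    _ = (e * r * e) * (p * q * e * q * p) * (e * r * e) := by rw [her']
    _ = e * r * (e * (p * q * e * q * p)) * e * r * e := by group
    _ = e * r * ((p * q * e * q * p) * e) * e * r * e := by rw [hy]
    _ = e * r * (p * q * e * q * p) * (e * e) * r * e := by group
    _ = e * (r * (p * q * e * q * p) * r) * e := by rw [he]; group

/-- `p q r = r p q` for pairwise commuting elements. -/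
theorem rot_eq (hpr : p * r = r * p) (hqr : q * r = r * q) : r * p * q = p * q * r := by
  calc r * p * q = (r * p) * q := by group
    _ = (p * r) * q := by rw [hpr]
    _ = p * (r * q) := by group
    _ = p * (q * r) := by rw [hqr]
    _ = p * q * r := by group

/-- The same for the leaf `p`. -/
theorem d4_commute' (he : e * e = 1) (hpq : p * q = q * p)
    (hpr : p * r = r * p) (hqr : q * r = r * q) (hep : e * p * e = p * e * p)
    (heq : e * q * e = q * e * q) (her : e * r * e = r * e * r) :
    p * (e * (p * q * r) * e * (p * q * r) * e) * p = e * (p * q * r) * e * (p * q * r) * e := by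
  have h := d4_commute (p := q) (q := r) (r := p) (e := e) he hqr hpq.symm hpr.symm heq her hep
  have e1 : q * r * p = p * q * r := by
    calc q * r * p = q * (r * p) := by group
      _ = q * (p * r) := by rw [hpr]
      _ = (q * p) * r := by group
      _ = p * q * r := by rw [hpq]
  rw [e1] at h
  exact h

/-- If `a` commutes with `e, q, r` and is braided with `p`, and `p` does not commute with `e`,
then `a` does not commute with `e x e x e`. -/
theorem d4_not_commute (hp : p * p = 1) (hq : q * q = 1) (hr : r * r = 1) (he : e * e = 1)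
    (ha : a * a = 1) (hpq : p * q = q * p)
    (hpr : p * r = r * p) (hqr : q * r = r * q) (hae : a * e = e * a) (haq : a * q = q * a)
    (har : a * r = r * a) (hap : a * p * a = p * a * p) (hpe : p * e ≠ e * p) :
    a * (e * (p * q * r) * e * (p * q * r) * e) ≠ (e * (p * q * r) * e * (p * q * r) * e) * a := by
  intro h
  apply hpe
  have hxx : (p * q * r) * (p * q * r) = 1 := by
    calc (p * q * r) * (p * q * r) = p * q * (r * p) * q * r := by group
      _ = p * q * (p * r) * q * r := by rw [hpr]
      _ = p * (q * p) * (r * q) * r := by group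
      _ = p * (p * q) * (q * r) * r := by rw [hpq, hqr]
      _ = (p * p) * (q * q) * (r * r) := by group
      _ = 1 := by rw [hp, hq, hr]; group
  have hxax : (p * q * r) * a * (p * q * r) = p * a * p := by
    calc (p * q * r) * a * (p * q * r) = p * q * (r * a) * (p * q * r) := by group
      _ = p * q * (a * r) * (p * q * r) := by rw [har]
      _ = p * (q * a) * (r * p) * q * r := by group
      _ = p * (a * q) * (p * r) * q * r := by rw [haq, hpr]
      _ = p * a * (q * p) * (r * q) * r := by group
      _ = p * a * (p * q) * (q * r) * r := by rw [hpq, hqr]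
      _ = p * a * p * (q * q) * (r * r) := by group
      _ = p * a * p := by rw [hq, hr]; group
  have heae : e * a * e = a := by
    calc e * a * e = e * (a * e) := by group
      _ = e * (e * a) := by rw [hae]
      _ = (e * e) * a := by group
      _ = a := by rw [he, one_mul]
  -- conjugate the relation by `x e`
  have h1 : ((p * q * r) * e) * (a * (e * (p * q * r) * e * (p * q * r) * e)) * (e * (p * q * r))
      = ((p * q * r) * e) * ((e * (p * q * r) * e * (p * q * r) * e) * a) * (e * (p * q * r)) := by
    rw [h]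
  have hL : ((p * q * r) * e) * (a * (e * (p * q * r) * e * (p * q * r) * e)) * (e * (p * q * r))
      = (p * a * p) * e := by
    calc ((p * q * r) * e) * (a * (e * (p * q * r) * e * (p * q * r) * e)) * (e * (p * q * r))
        = (p * q * r) * (e * a * e) * (p * q * r) * e * (p * q * r) * (e * e) * (p * q * r) := by
          group
      _ = ((p * q * r) * a * (p * q * r)) * e * ((p * q * r) * (p * q * r)) := by
          rw [heae, he]; group
      _ = (p * a * p) * e := by rw [hxax, hxx, mul_one]
  have hR : ((p * q * r) * e) * ((e * (p * q * r) * e * (p * q * r) * e) * a) * (e * (p * q * r))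
      = e * (p * a * p) := by
    calc ((p * q * r) * e) * ((e * (p * q * r) * e * (p * q * r) * e) * a) * (e * (p * q * r))
        = (p * q * r) * (e * e) * (p * q * r) * e * (p * q * r) * (e * a * e) * (p * q * r) := by
          group
      _ = ((p * q * r) * (p * q * r)) * e * ((p * q * r) * a * (p * q * r)) := by
          rw [heae, he]; group
      _ = e * (p * a * p) := by rw [hxax, hxx, one_mul]
  rw [hL, hR, ← hap] at h1
  -- `a p a` commutes with `e`, and `a` commutes with `e`
  calc p * e = (a * a) * p * (a * a) * e := by rw [ha]; group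
    _ = a * ((a * p * a) * (a * e)) := by group
    _ = a * ((a * p * a) * (e * a)) := by rw [hae]
    _ = a * ((a * p * a) * e) * a := by group
    _ = a * (e * (a * p * a)) * a := by rw [h1]
    _ = (a * e) * a * p * (a * a) := by group
    _ = (e * a) * a * p := by rw [hae, ha, mul_one]
    _ = e * (a * a) * p := by group
    _ = e * p := by rw [ha, mul_one]

/-- `e x e x e ≠ p` when `q ≠ r`. -/
theorem d4_ne (hp : p * p = 1) (he : e * e = 1) (hpq : p * q = q * p)
    (hpr : p * r = r * p) (hqr : q * r = r * q) (hep : e * p * e = p * e * p)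
    (heq : e * q * e = q * e * q) (her : e * r * e = r * e * r) (hne : q ≠ r)
    (hq : q * q = 1) :
    e * (p * q * r) * e * (p * q * r) * e ≠ p := by
  intro h
  apply hne
  -- `x e x = e p e = p e p`
  have h1 : (p * q * r) * e * (p * q * r) = p * e * p := by
    calc (p * q * r) * e * (p * q * r) = (e * e) * (p * q * r) * e * (p * q * r) * (e * e) := by
          rw [he]; group
      _ = e * (e * (p * q * r) * e * (p * q * r) * e) * e := by group
      _ = e * p * e := by rw [h]
      _ = p * e * p := hep
  -- so `q r` commutes with `e`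
  have h2 : (q * r) * e * (q * r) = e := by
    have e1 : q * r = p * (p * q * r) := by
      calc q * r = (p * p) * q * r := by rw [hp, one_mul]
        _ = p * (p * q * r) := by group
    have e2 : q * r = (p * q * r) * p := by
      calc q * r = q * r * (p * p) := by rw [hp, mul_one]
        _ = q * (r * p) * p := by group
        _ = q * (p * r) * p := by rw [hpr]
        _ = (q * p) * r * p := by group
        _ = (p * q * r) * p := by rw [hpq]
    calc (q * r) * e * (q * r) = (p * (p * q * r)) * e * ((p * q * r) * p) := by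
          rw [← e1, ← e2]
      _ = p * ((p * q * r) * e * (p * q * r)) * p := by group
      _ = p * (p * e * p) * p := by rw [h1]
      _ = (p * p) * e * (p * p) := by group
      _ = e := by rw [hp]; group
  -- hence `r e r = q e q`
  have h3 : r * e * r = q * e * q := by
    calc r * e * r = (q * q) * r * e * r * (q * q) := by rw [hq]; group
      _ = q * ((q * r) * e * (r * q)) * q := by group
      _ = q * ((q * r) * e * (q * r)) * q := by rw [hqr]
      _ = q * e * q := by rw [h2]
  -- and `r = q`
  calc q = (e * e) * q * (e * e) := by rw [he]; group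
    _ = e * (e * q * e) * e := by group
    _ = e * (q * e * q) * e := by rw [heq]
    _ = e * (r * e * r) * e := by rw [h3]
    _ = e * (e * r * e) * e := by rw [her]
    _ = (e * e) * r * (e * e) := by group
    _ = r := by rw [he]; group

end dfour

/-! ### Consequences for a class of 3-transpositions -/

section main

variable [Finite G] {D : Set G}

omit [Finite G] in
/-- Conjugation by `g` maps `S D x` onto `S D (g x g⁻¹)`. -/
theorem S_conj_eq (hD : IsThreeTranspositionClass D) (g x : G) :
    S D (g * x * g⁻¹) = (fun z => g * z * g⁻¹) '' (S D x) := by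
  ext z
  constructor
  · intro hz
    refine ⟨g⁻¹ * z * g, ?_, by group⟩
    have h1 := conj_mem_S hD g⁻¹ hz
    have e1 : g⁻¹ * (g * x * g⁻¹) * g⁻¹⁻¹ = x := by group
    rw [e1, inv_inv] at h1
    exact h1
  · rintro ⟨w, hw, rfl⟩
    exact conj_mem_S hD g hw

omit [Finite G] in
theorem ncard_S_eq (hD : IsThreeTranspositionClass D) {x y : G} (hx : x ∈ D) (hy : y ∈ D) :
    (S D x).ncard = (S D y).ncard := by
  obtain ⟨g, rfl⟩ := exists_conj hD hx hy
  rw [S_conj_eq hD g x]
  symm
  apply Set.ncard_image_of_injective
  intro u v huv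
  exact mul_left_cancel (mul_right_cancel huv)

/-- Two non-commuting members `a, b` of `D`: some member of `D` other than `a` commutes with `a`
and not with `b`. -/
theorem exists_commute_not_commute_of_not_commute (hD : IsThreeTranspositionClass D)
    (hprim : Cfsg.IsPrimitiveUnderConj D) (hconn : (Cfsg.commutingGraph D).Connected) {a b : G}
    (ha : a ∈ D) (hb : b ∈ D) (hab : ¬ Commute a b) :
    ∃ e ∈ D, e ≠ a ∧ Commute e a ∧ ¬ Commute e b := by
  by_contra hcon
  push Not at hcon
  have hne : a ≠ b := fun h => hab (h ▸ Commute.refl a)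
  have hsub : S D a ⊆ S D b := by
    rintro e ⟨heD, hea, hae⟩
    refine ⟨heD, ?_, (hcon e heD hea hae.symm).symm⟩
    intro h
    apply hab
    rw [← h]; exact hae
  have heq : S D a = S D b :=
    Set.eq_of_subset_of_ncard_le hsub (le_of_eq (ncard_S_eq hD hb ha)) (Set.toFinite _)
  have hmod : IsModule D {a, b} := by
    intro w hw hwn p hp q hq hwp
    have hwa : w ≠ a := fun h => hwn (Or.inl h)
    have hwb : w ≠ b := fun h => hwn (Or.inr h)
    have hboth : Commute w a ∧ Commute w b := by
      rcases hp with rfl | hp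
      · exact ⟨hwp, hcon w hw hwa hwp⟩
      · rw [Set.mem_singleton_iff] at hp
        rw [hp] at hwp
        have : w ∈ S D b := ⟨hw, hwb, hwp.symm⟩
        rw [← heq] at this
        exact ⟨this.2.2.symm, hwp⟩
    rcases hq with rfl | hq
    · exact hboth.1
    · rw [Set.mem_singleton_iff] at hq
      rw [hq]; exact hboth.2
  have hsubD : ({a, b} : Set G) ⊆ D := by
    intro w hw
    rcases hw with rfl | hw
    · exact ha
    · rw [Set.mem_singleton_iff] at hw
      rw [hw]; exact hb
  have hnt : ({a, b} : Set G).Nontrivial := ⟨a, by simp, b, by simp, hne⟩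
  have hall := module_eq_of_prim hD hprim hconn _ _ hsubD hmod hnt rfl
  obtain ⟨p, hp, q, hq, hqn, hc⟩ := exists_commute_of_connected hconn (P := {a}) ha rfl hb
    (fun h => hne h.symm)
  rw [Set.mem_singleton_iff] at hp
  rw [← hall] at hq
  rcases hq with rfl | hq
  · exact hqn rfl
  · rw [Set.mem_singleton_iff] at hq
    rw [hp, hq] at hc
    exact hab hc

omit [Finite G] in
/-- A member of `D` commuting with `a` and not with `a₂` does not commute with `d`. -/
theorem not_commute_of_sameNbr {d a a₂ e : G} (h : SameNbr D d a a₂)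
    (he : e ∈ D) (hne : e ≠ a) (hea : Commute e a) (hea₂ : ¬ Commute e a₂) : ¬ Commute d e := by
  intro hde
  have hed : e ≠ d := by
    intro h'
    apply hea₂
    rw [h']; exact h.2.1.2.2
  have heS : e ∈ S D d := ⟨he, hed, hde⟩
  have hne₂ : e ≠ a₂ := fun h' => hea₂ (h' ▸ Commute.refl e)
  exact hea₂ ((h.2.2.2 e heS hne hne₂).mp hea)

omit [Finite G] in
/-- A member `c` of `S D d` commuting with `a` commutes with every member of `D` commuting with
`a` and not with `a₂`. -/
theorem commute_of_sameNbr (hD : IsThreeTranspositionClass D) {d a a₂ e c : G} (hd : d ∈ D)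
    (h : SameNbr D d a a₂) (he : e ∈ D) (hea : Commute e a) (hea₂ : ¬ Commute e a₂)
    (hc : c ∈ S D d) (hca : c ≠ a) (hcac : Commute c a) : Commute c e := by
  by_cases hne : e = a
  · rw [hne]; exact hcac
  have hed : ¬ Commute d e := not_commute_of_sameNbr h he hne hea hea₂
  by_contra hce
  obtain ⟨haS, ha₂S, haa₂, hsame⟩ := h
  have hca₂ : c ≠ a₂ := by
    intro h'
    apply haa₂
    rw [← h']; exact hcac.symm
  have hcc₂ : Commute c a₂ := (hsame c hc hca hca₂).mp hcac
  have hpp := sq_of_orderOf_two (hD.1.1 a₂ ha₂S.1)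
  have hqq := sq_of_orderOf_two (hD.1.1 c hc.1)
  have hrr := sq_of_orderOf_two (hD.1.1 d hd)
  have hee := sq_of_orderOf_two (hD.1.1 e he)
  have haa := sq_of_orderOf_two (hD.1.1 a haS.1)
  have hpq : a₂ * c = c * a₂ := hcc₂.eq.symm
  have hpr : a₂ * d = d * a₂ := ha₂S.2.2.eq.symm
  have hqr : c * d = d * c := hc.2.2.eq.symm
  have hep : e * a₂ * e = a₂ * e * a₂ := braid_of_not_commute hD he ha₂S.1 hea₂
  have heq : e * c * e = c * e * c := braid_of_not_commute hD he hc.1 (fun h' => hce h'.symm)
  have her : e * d * e = d * e * d := braid_of_not_commute hD he hd (fun h' => hed h'.symm)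
  have hxx : (a₂ * c * d) * (a₂ * c * d) = 1 := by
    calc (a₂ * c * d) * (a₂ * c * d) = a₂ * c * (d * a₂) * c * d := by group
      _ = a₂ * c * (a₂ * d) * c * d := by rw [hpr]
      _ = a₂ * (c * a₂) * (d * c) * d := by group
      _ = a₂ * (a₂ * c) * (c * d) * d := by rw [hpq, hqr]
      _ = (a₂ * a₂) * (c * c) * (d * d) := by group
      _ = 1 := by rw [hpp, hqq, hrr]; group
  have hxi : (a₂ * c * d)⁻¹ = a₂ * c * d := inv_eq_of_mul_eq_one_right hxx
  have hei := inv_of_orderOf_two (hD.1.1 e he)
  have huD : e * (a₂ * c * d) * e * (a₂ * c * d) * e ∈ D := by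
    have := conj_mem hD (e * (a₂ * c * d)) he
    rw [mul_inv_rev, hxi, hei] at this
    have e1 : e * (a₂ * c * d) * e * (a₂ * c * d * e) = e * (a₂ * c * d) * e * (a₂ * c * d) * e := by
      group
    rw [e1] at this
    exact this
  have hud : Commute d (e * (a₂ * c * d) * e * (a₂ * c * d) * e) := by
    have h1 := d4_commute (p := a₂) (q := c) (r := d) (e := e) hee hpq hpr hqr hep heq her
    show d * _ = _ * d
    calc d * (e * (a₂ * c * d) * e * (a₂ * c * d) * e)
        = (d * (e * (a₂ * c * d) * e * (a₂ * c * d) * e) * d) * d := by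
          rw [mul_assoc _ d d, hrr, mul_one]
      _ = (e * (a₂ * c * d) * e * (a₂ * c * d) * e) * d := by rw [h1]
  have hua₂ : Commute a₂ (e * (a₂ * c * d) * e * (a₂ * c * d) * e) := by
    have h1 := d4_commute' (p := a₂) (q := c) (r := d) (e := e) hee hpq hpr hqr hep heq her
    show a₂ * _ = _ * a₂
    calc a₂ * (e * (a₂ * c * d) * e * (a₂ * c * d) * e)
        = (a₂ * (e * (a₂ * c * d) * e * (a₂ * c * d) * e) * a₂) * a₂ := by
          rw [mul_assoc _ a₂ a₂, hpp, mul_one]
      _ = (e * (a₂ * c * d) * e * (a₂ * c * d) * e) * a₂ := by rw [h1]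
  have hune_d : e * (a₂ * c * d) * e * (a₂ * c * d) * e ≠ d := by
    have h1 := d4_ne (p := d) (q := a₂) (r := c) (e := e) hrr hee hpr.symm hqr.symm hpq her hep heq
      (fun h' => hca₂ h'.symm) hpp
    have e1 : d * a₂ * c = a₂ * c * d := rot_eq hpr hqr
    rw [e1] at h1
    exact h1
  have hune_a₂ : e * (a₂ * c * d) * e * (a₂ * c * d) * e ≠ a₂ :=
    d4_ne (p := a₂) (q := c) (r := d) (e := e) hpp hee hpq hpr hqr hep heq her hc.2.1 hqq
  have hua : ¬ Commute (e * (a₂ * c * d) * e * (a₂ * c * d) * e) a := by
    intro h'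
    have hap : a * a₂ * a = a₂ * a * a₂ := braid_of_not_commute hD haS.1 ha₂S.1 haa₂
    exact d4_not_commute (p := a₂) (q := c) (r := d) (e := e) (a := a) hpp hqq hrr hee haa hpq hpr
      hqr hea.eq.symm hcac.eq.symm haS.2.2.eq.symm hap (fun h'' => hea₂ (Commute.symm h'')) h'.eq.symm
  have huS : e * (a₂ * c * d) * e * (a₂ * c * d) * e ∈ S D d := ⟨huD, hune_d, hud⟩
  have hune_a : e * (a₂ * c * d) * e * (a₂ * c * d) * e ≠ a := by
    intro h'
    apply haa₂
    rw [← h']; exact hua₂.symm
  exact hua ((hsame _ huS hune_a hune_a₂).mpr hua₂.symm)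

omit [Finite G] in
/-- Two commuting members `p, q` with a common non-commuting partner `u` are swapped by an element
commuting with everything that commutes with `p`, `q` and `u`. -/
theorem exists_swap_centralizing (hD : IsThreeTranspositionClass D) {p q u : G} (hp : p ∈ D)
    (hq : q ∈ D) (hu : u ∈ D) (hc : Commute p q) (hpu : ¬ Commute p u) (hqu : ¬ Commute q u) :
    ∃ g : G, g * p * g⁻¹ = q ∧
      ∀ z : G, Commute z p → Commute z q → Commute z u → g * z * g⁻¹ = z := by
  have hpp := sq_of_orderOf_two (hD.1.1 p hp)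
  have hqq := sq_of_orderOf_two (hD.1.1 q hq)
  have huu := sq_of_orderOf_two (hD.1.1 u hu)
  have hup : u * p * u = p * u * p :=
    braid_of_not_commute hD hu hp (fun h => hpu h.symm)
  have huq : u * q * u = q * u * q :=
    braid_of_not_commute hD hu hq (fun h => hqu h.symm)
  have hsq := swap_word_sq hpp hqq huu hc.eq hup huq
  have hinv : (u * (p * q * u * q * p))⁻¹ = u * (p * q * u * q * p) :=
    inv_eq_of_mul_eq_one_right hsq
  refine ⟨u * (p * q * u * q * p), ?_, ?_⟩
  · rw [hinv]; exact swap_word hpp hqq huu hc.eq hup huq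
  · intro z hzp hzq hzu
    have hz : Commute z (u * (p * q * u * q * p)) :=
      hzu.mul_right ((((hzp.mul_right hzq).mul_right hzu).mul_right hzq).mul_right hzp)
    exact conj_eq_of_commute hz

/-- A pair with the same commuting partners in `S D d` has no common commuting partner in
`S D d`. -/
theorem not_commute_of_mem_S (hD : IsThreeTranspositionClass D)
    (hprim : Cfsg.IsPrimitiveUnderConj D) (hconn : (Cfsg.commutingGraph D).Connected)
    {d a a₂ t : G} (hd : d ∈ D) (h : SameNbr D d a a₂) (ht : t ∈ S D d) (hta : t ≠ a) :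
    ¬ Commute t a := by
  intro htc
  have haS := h.1
  have ha₂S := h.2.1
  have haa₂ := h.2.2.1
  have hta₂ : t ≠ a₂ := by
    intro h'
    apply haa₂
    rw [← h']; exact htc.symm
  have htc₂ : Commute t a₂ := (h.2.2.2 t ht hta hta₂).mp htc
  obtain ⟨e, heD, hea_ne, hea, hea₂⟩ :=
    exists_commute_not_commute_of_not_commute hD hprim hconn haS.1 ha₂S.1 haa₂
  have hte : Commute t e := commute_of_sameNbr hD hd h heD hea hea₂ ht hta htc
  -- the partner of `t`
  obtain ⟨g, hgd, hga⟩ := pc_of_commute hD hprim hconn hd a haS.1 t ht.1 haS.2.1 ht.2.1 haS.2.2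
    ht.2.2
  have h' : SameNbr D d t (g * a₂ * g⁻¹) := by
    have := h.conj hD g
    rw [hgd, hga] at this
    exact this
  have ht₂S := h'.2.1
  have htt₂ := h'.2.2.1
  obtain ⟨e', he'D, he't_ne, he't, he't₂⟩ :=
    exists_commute_not_commute_of_not_commute hD hprim hconn ht.1 ht₂S.1 htt₂
  have hat : a ≠ t := fun h'' => hta h''.symm
  have hat₂ : a ≠ g * a₂ * g⁻¹ := by
    intro h''
    apply htt₂
    rw [← h'']; exact htc
  have hact₂ : Commute a (g * a₂ * g⁻¹) := (h'.2.2.2 a haS hat hat₂).mp htc.symm
  have ha₂t : a₂ ≠ t := fun h'' => hta₂ h''.symm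
  have ha₂t₂ : a₂ ≠ g * a₂ * g⁻¹ := by
    intro h''
    apply htt₂
    rw [← h'']; exact htc₂
  have ha₂ct₂ : Commute a₂ (g * a₂ * g⁻¹) := (h'.2.2.2 a₂ ha₂S ha₂t ha₂t₂).mp htc₂.symm
  have hae' : Commute a e' := commute_of_sameNbr hD hd h' he'D he't he't₂ haS hat htc.symm
  have ha₂e' : Commute a₂ e' := commute_of_sameNbr hD hd h' he'D he't he't₂ ha₂S ha₂t htc₂.symm
  have hde' : ¬ Commute d e' := not_commute_of_sameNbr h' he'D he't_ne he't he't₂
  -- the element `u = e' t₂ e'`
  have he'e' := sq_of_orderOf_two (hD.1.1 e' he'D)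
  have he'i := inv_of_orderOf_two (hD.1.1 e' he'D)
  have ht₂t₂ := sq_of_orderOf_two (hD.1.1 _ ht₂S.1)
  have huD : e' * (g * a₂ * g⁻¹) * e' ∈ D := by
    have := conj_mem hD e' ht₂S.1
    rw [he'i] at this
    exact this
  have hbr : e' * (g * a₂ * g⁻¹) * e' = (g * a₂ * g⁻¹) * e' * (g * a₂ * g⁻¹) :=
    braid_of_not_commute hD he'D ht₂S.1 he't₂
  have htu : ¬ Commute t (e' * (g * a₂ * g⁻¹) * e') := by
    intro hc
    have h1 : Commute (e' * t * e'⁻¹) (e' * (g * a₂ * g⁻¹) * e'⁻¹) := by
      rw [conj_eq_of_commute he't.symm, he'i]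
      exact hc
    exact htt₂ ((Commute.conj_iff e').mp h1)
  have hdu : ¬ Commute d (e' * (g * a₂ * g⁻¹) * e') := by
    intro hc
    rw [hbr] at hc
    have ht₂i := inv_of_orderOf_two (hD.1.1 _ ht₂S.1)
    have h1 : Commute ((g * a₂ * g⁻¹) * d * (g * a₂ * g⁻¹)⁻¹)
        ((g * a₂ * g⁻¹) * e' * (g * a₂ * g⁻¹)⁻¹) := by
      rw [conj_eq_of_commute ht₂S.2.2, ht₂i]
      exact hc
    exact hde' ((Commute.conj_iff _).mp h1)
  have hau : Commute a (e' * (g * a₂ * g⁻¹) * e') := (hae'.mul_right hact₂).mul_right hae'
  have ha₂u : Commute a₂ (e' * (g * a₂ * g⁻¹) * e') := (ha₂e'.mul_right ha₂ct₂).mul_right ha₂e'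
  obtain ⟨k, hkd, hkz⟩ := exists_swap_centralizing hD hd ht.1 huD ht.2.2 hdu htu
  have h'' : SameNbr D t a a₂ := by
    have := h.conj hD k
    rw [hkd, hkz a haS.2.2.symm htc.symm hau, hkz a₂ ha₂S.2.2.symm htc₂.symm ha₂u] at this
    exact this
  have het : e ≠ t := by
    intro h3
    apply hea₂
    rw [h3]; exact htc₂
  have heS : e ∈ S D t := ⟨heD, het, hte⟩
  have hea₂_ne : e ≠ a₂ := fun h3 => hea₂ (h3 ▸ Commute.refl e)
  exact hea₂ ((h''.2.2.2 e heS hea_ne hea₂_ne).mp hea)

/-- If some pair has the same commuting partners in some `S D d`, then no two different members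
of any `S D x` commute. -/
theorem eq_of_commute_of_sameNbr (hD : IsThreeTranspositionClass D)
    (hprim : Cfsg.IsPrimitiveUnderConj D) (hconn : (Cfsg.commutingGraph D).Connected)
    {d a a₂ : G} (hd : d ∈ D) (h : SameNbr D d a a₂) :
    ∀ x ∈ D, ∀ b ∈ S D x, ∀ b' ∈ S D x, Commute b b' → b = b' := by
  intro x hx b hb b' hb' hc
  obtain ⟨g, rfl⟩ := exists_conj hD hd hx
  have h1 := h.conj hD g
  obtain ⟨k, hkx, hkb⟩ := pc_of_commute hD hprim hconn hx _ h1.1.1 b hb.1 h1.1.2.1 hb.2.1 h1.1.2.2
    hb.2.2
  have h2 := h1.conj hD k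
  rw [hkx, hkb] at h2
  by_contra hne
  exact not_commute_of_mem_S hD hprim hconn hx h2 hb' (fun h3 => hne h3.symm) hc.symm

end main

end Cfsg.Agent.Lib.Helper89_SameNbr
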