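import Mathlib
import Cfsg.Prelude.Def_FischerSpaces
import Cfsg.Agent.Lib.Helper89_InvolSylow
import Cfsg.Agent.Lib.Helper89_TTClass
import Cfsg.Agent.Lib.Helper89_Theta
import Cfsg.Agent.Lib.Helper89_Prim
import Cfsg.Agent.Lib.Helper89_Modules
import Cfsg.Agent.Lib.Helper89_RankThree
import Cfsg.Agent.Lib.Helper89_LocalClass
import Cfsg.Agent.Lib.Helper89_SameNbr
import Cfsg.Agent.Lib.Helper89_HTS

/-!
# Classes of 3-transpositions in which commuting partners of a member never commute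

`D` is a class of 3-transpositions of the finite group `G`, acted on primitively with connected
commuting graph, such that no two different members of any `S D x` commute.  Then every `S D x`
has exactly three members.
-/

set_option autoImplicit false
open Cfsg

namespace Cfsg.Agent.Lib.Helper89_LocalThree

open Cfsg.Agent.Lib.Helper89_InvolSylow Cfsg.Agent.Lib.Helper89_TTClass
  Cfsg.Agent.Lib.Helper89_Theta Cfsg.Agent.Lib.Helper89_Prim Cfsg.Agent.Lib.Helper89_Modules
  Cfsg.Agent.Lib.Helper89_RankThree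
  Cfsg.Agent.Lib.Helper89_LocalClass Cfsg.Agent.Lib.Helper89_SameNbr Cfsg.Agent.Lib.Helper89_HTS

variable {G : Type*} [Group G] {D : Set G}

/-- The hypothesis: commuting partners of a member never commute. -/
def AC (D : Set G) : Prop := ∀ x ∈ D, ∀ b ∈ S D x, ∀ b' ∈ S D x, Commute b b' → b = b'

section basic

theorem cube_of_mem_S (hD : IsThreeTranspositionClass D) (hAC : AC D) {x a b : G} (hx : x ∈ D)
    (ha : a ∈ S D x) (hb : b ∈ S D x) : (a * b) ^ 3 = 1 := by
  rcases hD.1.2 a ha.1 b hb.1 with h | h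
  · have hc := commute_of_sq_eq_one (hD.1.1 a ha.1) (hD.1.1 b hb.1) h
    have := hAC x hx a ha b hb hc
    rw [← this, sq_of_orderOf_two (hD.1.1 a ha.1), one_pow]
  · exact h

theorem conj_mem_S_of_mem (hD : IsThreeTranspositionClass D) {x a b : G}
    (ha : a ∈ S D x) (hb : b ∈ S D x) : a * b * a⁻¹ ∈ S D x :=
  mem_S_of_orb hD hb ⟨a, Subgroup.subset_closure ha, rfl⟩

theorem ncard_S_eq_three_pow [Finite G] (hD : IsThreeTranspositionClass D) (hAC : AC D) {x : G}
    (hx : x ∈ D) (hne : (S D x).Nonempty) : ∃ j : ℕ, (S D x).ncard = 3 ^ j :=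
  ncard_eq_three_pow (fun b hb => hD.1.1 b hb.1) (fun _ ha _ hb => conj_mem_S_of_mem hD ha hb)
    (fun _ ha _ hb => cube_of_mem_S hD hAC hx ha hb) hne

theorem card_closure_S_dvd [Finite G] (hD : IsThreeTranspositionClass D) (hAC : AC D) {x : G}
    (hx : x ∈ D) (hne : (S D x).Nonempty) :
    ∃ m : ℕ, Nat.card (Subgroup.closure (S D x)) ∣ 2 * 3 ^ m :=
  card_closure_dvd (fun b hb => hD.1.1 b hb.1) (fun _ ha _ hb => conj_mem_S_of_mem hD ha hb)
    (fun _ ha _ hb => cube_of_mem_S hD hAC hx ha hb) hne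

theorem ncard_inter_eq_three_pow [Finite G] (hD : IsThreeTranspositionClass D) (hAC : AC D)
    {x y : G} (hx : x ∈ D) (hne : (S D x ∩ S D y).Nonempty) :
    ∃ i : ℕ, (S D x ∩ S D y).ncard = 3 ^ i :=
  ncard_eq_three_pow (fun b hb => hD.1.1 b hb.1.1)
    (fun _ ha _ hb => ⟨conj_mem_S_of_mem hD ha.1 hb.1, conj_mem_S_of_mem hD ha.2 hb.2⟩)
    (fun _ ha _ hb => cube_of_mem_S hD hAC hx ha.1 hb.1) hne

/-- All non-commuting pairs have the same number of common commuting partners. -/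
theorem ncard_inter_eq [Finite G] (hD : IsThreeTranspositionClass D)
    (hprim : Cfsg.IsPrimitiveUnderConj D) (hconn : (Cfsg.commutingGraph D).Connected)
    {x y x' y' : G} (hx : x ∈ D) (hy : y ∈ D) (hx' : x' ∈ D) (hy' : y' ∈ D)
    (hxy : ¬ Commute x y) (hxy' : ¬ Commute x' y') :
    (S D x ∩ S D y).ncard = (S D x' ∩ S D y').ncard := by
  obtain ⟨g, rfl⟩ := exists_conj hD hx hx'
  have hgy : ¬ Commute (g * x * g⁻¹) (g * y * g⁻¹) := fun h => hxy ((Commute.conj_iff g).mp h)
  obtain ⟨k, hkx, hky⟩ := pc_of_not_commute hD hprim hconn hx' _ (conj_mem hD g hy) y' hy' hgy hxy'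
  have e1 : S D (g * x * g⁻¹) = (fun z => (k * g) * z * (k * g)⁻¹) '' (S D x) := by
    rw [← S_conj_eq hD (k * g) x]
    congr 1
    rw [← hkx]; group
  have e2 : S D y' = (fun z => (k * g) * z * (k * g)⁻¹) '' (S D y) := by
    rw [← S_conj_eq hD (k * g) y]
    congr 1
    rw [← hky]; group
  have hinj : Function.Injective (fun z : G => (k * g) * z * (k * g)⁻¹) := by
    intro u v huv
    exact mul_left_cancel (mul_right_cancel huv)
  rw [e1, e2, ← Set.image_inter hinj, Set.ncard_image_of_injective _ hinj]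

end basic

/-! ### The subgroup generated by the centralizer members -/

/-- The subgroup generated by the members of `D` commuting with `d`. -/
def M (D : Set G) (d : G) : Subgroup G := Subgroup.closure {y | y ∈ D ∧ Commute d y}

/-- Conjugacy under `M D d`. -/
def MOrb (D : Set G) (d y y' : G) : Prop := ∃ g ∈ M D d, g * y * g⁻¹ = y'

theorem MOrb.refl (D : Set G) (d y : G) : MOrb D d y y := ⟨1, one_mem _, by simp⟩

theorem MOrb.symm {d y y' : G} (h : MOrb D d y y') : MOrb D d y' y := by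
  obtain ⟨g, hg, rfl⟩ := h
  exact ⟨g⁻¹, inv_mem hg, by group⟩

theorem MOrb.trans {d y y' y'' : G} (h : MOrb D d y y') (h' : MOrb D d y' y'') :
    MOrb D d y y'' := by
  obtain ⟨g, hg, rfl⟩ := h
  obtain ⟨k, hk, rfl⟩ := h'
  exact ⟨k * g, mul_mem hk hg, by group⟩

section msub

theorem closure_S_le_M (d : G) : Subgroup.closure (S D d) ≤ M D d :=
  Subgroup.closure_mono (fun _ hy => ⟨hy.1, hy.2.2⟩)

theorem commute_of_mem_M {d g : G} (hg : g ∈ M D d) : Commute d g := by
  have hle : M D d ≤ Subgroup.centralizer {d} := by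
    unfold M
    rw [Subgroup.closure_le]
    intro y hy
    rw [SetLike.mem_coe, Subgroup.mem_centralizer_iff]
    intro z hz
    rw [Set.mem_singleton_iff] at hz
    rw [hz]
    exact hy.2.eq
  exact Subgroup.mem_centralizer_iff.mp (hle hg) d rfl

theorem card_M_dvd [Finite G] (hD : IsThreeTranspositionClass D) (hAC : AC D) {d : G}
    (hd : d ∈ D) (hne : (S D d).Nonempty) : ∃ m : ℕ, Nat.card (M D d) ∣ 4 * 3 ^ m := by
  obtain ⟨m, hm⟩ := card_closure_S_dvd hD hAC hd hne
  have hdd := sq_of_orderOf_two (hD.1.1 d hd)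
  have hle : Nat.card (M D d) ≤ ({1, d} : Set G).ncard * Nat.card (Subgroup.closure (S D d)) := by
    apply card_closure_le (fun s hs => sq_of_orderOf_two (hD.1.1 s hs.1)) _ {1, d} (by simp)
    intro s hs t ht
    by_cases hsd : s = d
    · rcases ht with rfl | ht
      · exact ⟨d, by simp, 1, one_mem _, by rw [hsd]⟩
      · rw [Set.mem_singleton_iff] at ht
        rw [ht, hsd, hdd]
        exact ⟨1, by simp, 1, one_mem _, by simp⟩
    · have hsS : s ∈ S D d := ⟨hs.1, hsd, hs.2⟩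
      rcases ht with rfl | ht
      · exact ⟨1, by simp, s, Subgroup.subset_closure hsS, by simp⟩
      · rw [Set.mem_singleton_iff] at ht
        rw [ht]
        exact ⟨d, by simp, s, Subgroup.subset_closure hsS, hs.2.eq.symm⟩
  have h2 : ({1, d} : Set G).ncard ≤ 2 := by
    have := Set.ncard_insert_le (1 : G) ({d} : Set G)
    rw [Set.ncard_singleton] at this
    exact this
  have hdvd : Nat.card (Subgroup.closure (S D d)) ∣ Nat.card (M D d) :=
    Subgroup.card_dvd_of_le (closure_S_le_M d)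
  obtain ⟨c, hc⟩ := hdvd
  have hpos : 0 < Nat.card (Subgroup.closure (S D d)) := Nat.card_pos
  have hc2 : c ≤ 2 := by
    have h3 : Nat.card (Subgroup.closure (S D d)) * c
        ≤ Nat.card (Subgroup.closure (S D d)) * 2 := by
      rw [← hc, mul_comm _ 2]
      exact le_trans hle (Nat.mul_le_mul_right _ h2)
    exact Nat.le_of_mul_le_mul_left h3 hpos
  refine ⟨m, ?_⟩
  rw [hc]
  have h4 : Nat.card (Subgroup.closure (S D d)) * c ∣ (2 * 3 ^ m) * 2 := by
    apply Nat.mul_dvd_mul hm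
    interval_cases c
    · exfalso
      have hp : 0 < Nat.card (M D d) := Nat.card_pos
      rw [hc, mul_zero] at hp
      exact lt_irrefl _ hp
    · simp
    · exact dvd_rfl
  have e : 4 * 3 ^ m = (2 * 3 ^ m) * 2 := by ring
  rw [e]; exact h4

/-- Two commuting members of `D` not commuting with `d` are conjugate under `M D d`. -/
theorem morb_of_commute (hD : IsThreeTranspositionClass D) {d a b : G} (hd : d ∈ D) (ha : a ∈ D)
    (hb : b ∈ D) (hda : ¬ Commute d a) (hdb : ¬ Commute d b) (hab : Commute a b) :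
    MOrb D d a b := by
  have hdd := sq_of_orderOf_two (hD.1.1 d hd)
  have haa := sq_of_orderOf_two (hD.1.1 a ha)
  have hbb := sq_of_orderOf_two (hD.1.1 b hb)
  have hai := inv_of_orderOf_two (hD.1.1 a ha)
  have hbi := inv_of_orderOf_two (hD.1.1 b hb)
  have hby : d * a * d = a * d * a := braid_of_not_commute hD hd ha hda
  have hbz : d * b * d = b * d * b := braid_of_not_commute hD hd hb hdb
  have hsq := swap_word_sq haa hbb hdd hab.eq hby hbz
  have hinv : (d * (a * b * d * b * a))⁻¹ = d * (a * b * d * b * a) :=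
    inv_eq_of_mul_eq_one_right hsq
  have hc := coxeter_commute hab.eq hby hbz
  have hwD : a * b * d * b * a ∈ D := by
    have := conj_mem hD (a * b) hd
    rw [mul_inv_rev, hai, hbi] at this
    have e : a * b * d * (b * a) = a * b * d * b * a := by group
    rw [e] at this
    exact this
  refine ⟨d * (a * b * d * b * a), ?_, ?_⟩
  · apply mul_mem
    · exact Subgroup.subset_closure ⟨hd, Commute.refl d⟩
    · exact Subgroup.subset_closure ⟨hwD, hc.symm⟩
  · rw [hinv]; exact swap_word haa hbb hdd hab.eq hby hbz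

/-- The members of `D` not commuting with `d` generate `G`. -/
theorem closure_not_commute_eq_top [Finite G] (hD : IsThreeTranspositionClass D)
    (hprim : Cfsg.IsPrimitiveUnderConj D) (hconn : (Cfsg.commutingGraph D).Connected) {d a : G}
    (hd : d ∈ D) (ha : a ∈ D) (hnc : ¬ Commute d a) :
    Subgroup.closure {u | u ∈ D ∧ ¬ Commute d u} = ⊤ := by
  apply closure_eq_top_of_invariant hD hprim hconn hd (S := {u | u ∈ D ∧ ¬ Commute d u})
    (fun u hu => hu.1) ⟨a, ha, hnc⟩ _ ha hnc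
  · intro k hk
    have haS : a ∈ Subgroup.closure {u | u ∈ D ∧ ¬ Commute d u} :=
      Subgroup.subset_closure ⟨ha, hnc⟩
    exact mul_mem (mul_mem haS hk) (inv_mem haS)
  · intro y hy hpy s hs
    refine ⟨conj_mem hD y hs.1, ?_⟩
    rw [commute_conj_iff_of_fix (conj_eq_of_commute hpy)]
    exact hs.2

end msub

/-! ### Transitivity of `M D d` on the members not commuting with `d` -/

section trans

variable [Finite G]

theorem morb_of_not_commute (hD : IsThreeTranspositionClass D)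
    (hprim : Cfsg.IsPrimitiveUnderConj D) (hconn : (Cfsg.commutingGraph D).Connected)
    (hμ : ∃ x₀ ∈ D, ∃ y₀ ∈ D, ¬ Commute x₀ y₀ ∧ (S D x₀ ∩ S D y₀).Nonempty) {d : G}
    (hd : d ∈ D) : ∀ a ∈ D, ∀ b ∈ D, ¬ Commute d a → ¬ Commute d b → MOrb D d a b := by
  intro ω hω x hx hdω hdx
  by_contra hno
  obtain ⟨x₀, hx₀, y₀, hy₀, hxy₀, hne₀⟩ := hμ
  have key : ∀ ω' ∈ D, ¬ Commute d ω' → MOrb D d ω ω' → ∀ x' ∈ D, ¬ Commute d x' →
      ¬ MOrb D d ω x' → S D d ∩ S D ω' = S D d ∩ S D x' := by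
    intro ω' hω' hdω' horb x' hx' hdx' hnorb
    have hωx' : ¬ Commute ω' x' := by
      intro hc
      exact hnorb (horb.trans (morb_of_commute hD hd hω' hx' hdω' hdx' hc))
    have hsub : S D ω' ∩ S D x' ⊆ S D d := by
      intro z hz
      have hdz : Commute d z := by
        by_contra hdz
        apply hnorb
        exact (horb.trans (morb_of_commute hD hd hω' hz.1.1 hdω' hdz hz.1.2.2)).trans
          (morb_of_commute hD hd hz.1.1 hx' hdz hdx' hz.2.2.2.symm)
      refine ⟨hz.1.1, ?_, hdz⟩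
      intro h
      apply hdω'
      rw [← h]; exact hz.1.2.2.symm
    have h1 : S D ω' ∩ S D x' ⊆ S D d ∩ S D ω' := fun z hz => ⟨hsub hz, hz.1⟩
    have h2 : S D ω' ∩ S D x' ⊆ S D d ∩ S D x' := fun z hz => ⟨hsub hz, hz.2⟩
    have e1 := Set.eq_of_subset_of_ncard_le h1
      (le_of_eq (ncard_inter_eq hD hprim hconn hd hω' hω' hx' hdω' hωx')) (Set.toFinite _)
    have e2 := Set.eq_of_subset_of_ncard_le h2
      (le_of_eq (ncard_inter_eq hD hprim hconn hd hx' hω' hx' hdx' hωx')) (Set.toFinite _)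
    rw [← e1, ← e2]
  have hU : ∀ y ∈ D, ¬ Commute d y → S D d ∩ S D y = S D d ∩ S D ω := by
    intro y hy hdy
    by_cases horb : MOrb D d ω y
    · rw [key y hy hdy horb x hx hdx hno, key ω hω hdω (MOrb.refl D d ω) x hx hdx hno]
    · exact (key ω hω hdω (MOrb.refl D d ω) y hy hdy horb).symm
  have hpos : 0 < (S D d ∩ S D ω).ncard := by
    rw [ncard_inter_eq hD hprim hconn hd hω hx₀ hy₀ hdω hxy₀]
    exact (Set.ncard_pos (Set.toFinite _)).mpr hne₀
  obtain ⟨u, hu⟩ := (Set.ncard_pos (Set.toFinite _)).mp hpos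
  have hcomm : ∀ y ∈ {y | y ∈ D ∧ ¬ Commute d y}, Commute u y := by
    intro y hy
    have : u ∈ S D d ∩ S D y := by rw [hU y hy.1 hy.2]; exact hu
    exact this.2.2.2.symm
  have hc : u ∈ Subgroup.center G :=
    mem_center_of_commute_of_closure (closure_not_commute_eq_top hD hprim hconn hd hω hdω) hcomm
  exact hu.1.2.1 (eq_of_mem_center hD hu.1.1 hd hc)

/-- The number of members of `D` not commuting with `d` divides the order of `M D d`. -/
theorem ncard_not_commute_dvd (hD : IsThreeTranspositionClass D)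
    (hprim : Cfsg.IsPrimitiveUnderConj D) (hconn : (Cfsg.commutingGraph D).Connected)
    (hμ : ∃ x₀ ∈ D, ∃ y₀ ∈ D, ¬ Commute x₀ y₀ ∧ (S D x₀ ∩ S D y₀).Nonempty) {d : G}
    (hd : d ∈ D) : {y | y ∈ D ∧ ¬ Commute d y}.ncard ∣ Nat.card (M D d) := by
  have hne : ∃ ω ∈ D, ¬ Commute d ω := by
    obtain ⟨x₀, hx₀, y₀, hy₀, hxy₀, _⟩ := hμ
    obtain ⟨g, rfl⟩ := exists_conj hD hx₀ hd
    exact ⟨g * y₀ * g⁻¹, conj_mem hD g hy₀, fun h => hxy₀ ((Commute.conj_iff g).mp h)⟩
  obtain ⟨ω, hω, hdω⟩ := hne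
  have hB : {y | y ∈ D ∧ ¬ Commute d y} = {z | ∃ n ∈ M D d, n * ω * n⁻¹ = z} := by
    ext y
    constructor
    · intro hy
      exact morb_of_not_commute hD hprim hconn hμ hd ω hω y hy.1 hdω hy.2
    · rintro ⟨n, hn, rfl⟩
      refine ⟨conj_mem hD n hω, ?_⟩
      rw [commute_conj_iff_of_fix (conj_eq_of_commute (commute_of_mem_M hn))]
      exact hdω
  rw [hB]
  exact ncard_conj_orbit_dvd (M D d) ω

/-- Counting commuting pairs between `S D d` and the members not commuting with `d`. -/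
theorem count_eq (hD : IsThreeTranspositionClass D)
    (hprim : Cfsg.IsPrimitiveUnderConj D) (hconn : (Cfsg.commutingGraph D).Connected)
    (hAC : AC D) {d x₀ y₀ : G} (hd : d ∈ D) (hx₀ : x₀ ∈ D) (hy₀ : y₀ ∈ D)
    (hxy₀ : ¬ Commute x₀ y₀) :
    (S D d).ncard * ((S D d).ncard - 1)
      = {y | y ∈ D ∧ ¬ Commute d y}.ncard * (S D x₀ ∩ S D y₀).ncard := by
  classical
  have h := Finset.card_mul_eq_card_mul (s := (Set.toFinite (S D d)).toFinset)
    (t := (Set.toFinite {y | y ∈ D ∧ ¬ Commute d y}).toFinset) (fun b y : G => Commute b y)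
    (m := (S D d).ncard - 1) (n := (S D x₀ ∩ S D y₀).ncard) ?_ ?_
  · rw [← Set.ncard_eq_toFinset_card _ (Set.toFinite (S D d)),
      ← Set.ncard_eq_toFinset_card _ (Set.toFinite {y | y ∈ D ∧ ¬ Commute d y})] at h
    exact h
  · intro b hb
    rw [Set.Finite.mem_toFinset] at hb
    have hset : ((Finset.bipartiteAbove (fun b y : G => Commute b y)
        (Set.toFinite {y | y ∈ D ∧ ¬ Commute d y}).toFinset b : Finset G) : Set G)
        = S D b \ {d} := by
      ext y
      simp only [Finset.bipartiteAbove, Finset.coe_filter, Set.Finite.mem_toFinset,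
        Set.mem_ofPred_eq, Set.mem_sdiff, Set.mem_singleton_iff]
      constructor
      · rintro ⟨⟨hyD, hdy⟩, hby⟩
        refine ⟨⟨hyD, ?_, hby⟩, ?_⟩
        · intro h'
          apply hdy
          rw [h']; exact hb.2.2
        · intro h'
          apply hdy
          rw [h']
      · rintro ⟨hyS, hyd⟩
        refine ⟨⟨hyS.1, ?_⟩, hyS.2.2⟩
        intro hdy
        have hyS' : y ∈ S D d := ⟨hyS.1, hyd, hdy⟩
        exact hyS.2.1 (hAC d hd b hb y hyS' hyS.2.2).symm
    rw [← Set.ncard_coe_finset, hset]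
    have hdb : d ∈ S D b := ⟨hd, fun h' => hb.2.1 h'.symm, hb.2.2.symm⟩
    rw [Set.ncard_sdiff_singleton_of_mem hdb, ncard_S_eq hD hb.1 hd]
  · intro y hy
    rw [Set.Finite.mem_toFinset] at hy
    have hset : ((Finset.bipartiteBelow (fun b y : G => Commute b y)
        (Set.toFinite (S D d)).toFinset y : Finset G) : Set G) = S D d ∩ S D y := by
      ext b
      simp only [Finset.bipartiteBelow, Finset.coe_filter, Set.Finite.mem_toFinset,
        Set.mem_ofPred_eq, Set.mem_inter_iff]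
      constructor
      · rintro ⟨hbS, hby⟩
        refine ⟨hbS, hbS.1, ?_, hby.symm⟩
        intro h'
        apply hy.2
        rw [← h']; exact hbS.2.2
      · rintro ⟨hbS, hbS'⟩
        exact ⟨hbS, hbS'.2.2.symm⟩
    rw [← Set.ncard_coe_finset, hset]
    exact ncard_inter_eq hD hprim hconn hd hy.1 hx₀ hy₀ hy.2 hxy₀

/-- Every `S D x` has exactly three members. -/
theorem ncard_S_eq_three (hD : IsThreeTranspositionClass D)
    (hprim : Cfsg.IsPrimitiveUnderConj D) (hconn : (Cfsg.commutingGraph D).Connected)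
    (hAC : AC D) (hpair : ∃ d ∈ D, ∃ a ∈ S D d, ∃ a₂ ∈ S D d, a ≠ a₂) :
    ∀ x ∈ D, (S D x).ncard = 3 := by
  obtain ⟨d, hd, a, ha, a₂, ha₂, hne⟩ := hpair
  have haa₂ : ¬ Commute a a₂ := fun h => hne (hAC d hd a ha a₂ ha₂ h)
  have hdmem : d ∈ S D a ∩ S D a₂ :=
    ⟨⟨hd, fun h => ha.2.1 h.symm, ha.2.2.symm⟩, ⟨hd, fun h => ha₂.2.1 h.symm, ha₂.2.2.symm⟩⟩
  have hμ : ∃ x₀ ∈ D, ∃ y₀ ∈ D, ¬ Commute x₀ y₀ ∧ (S D x₀ ∩ S D y₀).Nonempty :=
    ⟨a, ha.1, a₂, ha₂.1, haa₂, d, hdmem⟩
  obtain ⟨j, hj⟩ := ncard_S_eq_three_pow hD hAC hd ⟨a, ha⟩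
  obtain ⟨i, hi⟩ := ncard_inter_eq_three_pow hD hAC ha.1 ⟨d, hdmem⟩
  obtain ⟨m, hm⟩ := card_M_dvd hD hAC hd ⟨a, ha⟩
  have hl := ncard_not_commute_dvd hD hprim hconn hμ hd
  have hcount := count_eq hD hprim hconn hAC hd ha.1 ha₂.1 haa₂
  rw [hj, hi] at hcount
  -- `k ≥ 2`
  have hk2 : 2 ≤ (S D d).ncard := by
    have h1 : ({a, a₂} : Set G) ⊆ S D d := by
      intro z hz
      rcases hz with rfl | hz
      · exact ha
      · rw [Set.mem_singleton_iff] at hz
        rw [hz]; exact ha₂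
    have h2 := Set.ncard_le_ncard h1 (Set.toFinite _)
    rw [Set.ncard_pair hne] at h2
    exact h2
  rw [hj] at hk2
  have hj1 : 1 ≤ j := by
    by_contra h
    have : j = 0 := by omega
    rw [this] at hk2
    norm_num at hk2
  -- `(3^j - 1) ∣ 4`
  have hdvd : 3 ^ j - 1 ∣ 4 * 3 ^ (m + i) := by
    have h1 : 3 ^ j - 1 ∣ {y | y ∈ D ∧ ¬ Commute d y}.ncard * 3 ^ i := by
      rw [← hcount]; exact dvd_mul_left _ _
    have h2 : {y | y ∈ D ∧ ¬ Commute d y}.ncard * 3 ^ i ∣ (4 * 3 ^ m) * 3 ^ i :=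
      Nat.mul_dvd_mul_right (hl.trans hm) _
    have e : 4 * 3 ^ (m + i) = (4 * 3 ^ m) * 3 ^ i := by rw [pow_add]; ring
    rw [e]; exact h1.trans h2
  have hcop : Nat.Coprime (3 ^ j - 1) (3 ^ (m + i)) := by
    apply Nat.Coprime.pow_right
    apply Nat.Coprime.symm
    rw [Nat.Prime.coprime_iff_not_dvd Nat.prime_three]
    obtain ⟨j', rfl⟩ : ∃ j', j = j' + 1 := ⟨j - 1, by omega⟩
    have hq : 0 < 3 ^ j' := by positivity
    rw [pow_succ]
    omega
  have h4 : 3 ^ j - 1 ∣ 4 := Nat.Coprime.dvd_of_dvd_mul_right hcop hdvd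
  have hle : 3 ^ j - 1 ≤ 4 := Nat.le_of_dvd (by norm_num) h4
  have hj2 : j ≤ 1 := by
    by_contra h
    have h2 : 2 ≤ j := by omega
    have h3 : 3 ^ 2 ≤ 3 ^ j := Nat.pow_le_pow_right (by norm_num) h2
    omega
  have hj' : j = 1 := le_antisymm hj2 hj1
  intro x hx
  rw [ncard_S_eq hD hx hd, hj, hj']
  norm_num

end trans

end Cfsg.Agent.Lib.Helper89_LocalThree
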