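import Mathlib
import Cfsg.Prelude.Def_FischerSpaces
import Cfsg.Agent.Lib.Helper89_InvolSylow
import Cfsg.Agent.Lib.Helper89_TTClass
import Cfsg.Agent.Lib.Helper89_Theta
import Cfsg.Agent.Lib.Helper89_Prim
import Cfsg.Agent.Lib.Helper89_RankThree
import Cfsg.Agent.Lib.Helper89_LocalClass
import Cfsg.Agent.Lib.Helper89_SameNbr
import Cfsg.Agent.Lib.Helper89_HTS
import Cfsg.Agent.Lib.Helper89_LocalThree
import Cfsg.Agent.Lib.Helper89_CoxeterA4
import Cfsg.Agent.S5354

/-!
# Recognition of the symmetric group of degree five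

A class `D` of 3-transpositions, acted on primitively with connected commuting graph, in a group
with trivial centre, such that commuting partners of a member never commute (and some member has
two of them), generates the symmetric group of degree five.
-/

set_option autoImplicit false
open Cfsg

namespace Cfsg.Agent.Lib.Helper89_LocalS5

open Cfsg.Agent.Lib.Helper89_InvolSylow Cfsg.Agent.Lib.Helper89_TTClass
  Cfsg.Agent.Lib.Helper89_Theta Cfsg.Agent.Lib.Helper89_Prim
  Cfsg.Agent.Lib.Helper89_RankThree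
  Cfsg.Agent.Lib.Helper89_LocalClass Cfsg.Agent.Lib.Helper89_SameNbr Cfsg.Agent.Lib.Helper89_HTS
  Cfsg.Agent.Lib.Helper89_LocalThree Cfsg.Agent.Lib.Helper89_CoxeterA4

variable {G : Type*} [Group G] [Finite G] {D : Set G}

/-- With three members, `S D d` is a line. -/
theorem S_eq_of_ncard_three (hD : IsThreeTranspositionClass D) (hAC : AC D) {d a a₂ : G}
    (hd : d ∈ D) (h3 : (S D d).ncard = 3) (ha : a ∈ S D d) (ha₂ : a₂ ∈ S D d) (hne : a ≠ a₂) :
    S D d = {a, a₂, a * a₂ * a⁻¹} := by
  have haa₂ : ¬ Commute a a₂ := fun h => hne (hAC d hd a ha a₂ ha₂ h)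
  have h3' : a * a₂ * a⁻¹ ∈ S D d := conj_mem_S_of_mem hD ha ha₂
  have hsub : ({a, a₂, a * a₂ * a⁻¹} : Set G) ⊆ S D d := by
    intro z hz
    rcases hz with rfl | rfl | hz
    · exact ha
    · exact ha₂
    · rw [Set.mem_singleton_iff.mp hz]; exact h3'
  have hn1 : a ≠ a * a₂ * a⁻¹ := by
    intro h
    apply hne
    have : a * a = a * a₂ := by
      calc a * a = (a * a₂ * a⁻¹) * a := by rw [← h]
        _ = a * a₂ := by group
    exact mul_left_cancel this
  have hn2 : a₂ ≠ a * a₂ * a⁻¹ := by
    intro h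
    apply haa₂
    show a * a₂ = a₂ * a
    calc a * a₂ = (a * a₂ * a⁻¹) * a := by group
      _ = a₂ * a := by rw [← h]
  have hcard : ({a, a₂, a * a₂ * a⁻¹} : Set G).ncard = 3 :=
    Set.ncard_eq_three.mpr ⟨a, a₂, a * a₂ * a⁻¹, hne, hn1, hn2, rfl⟩
  exact (Set.eq_of_subset_of_ncard_le hsub (by rw [h3, hcard]) (Set.toFinite _)).symm

/-- The number of members of `D` is ten, and six of them do not commute with `d`. -/
theorem ncard_eq_ten (hD : IsThreeTranspositionClass D)
    (hprim : Cfsg.IsPrimitiveUnderConj D) (hconn : (Cfsg.commutingGraph D).Connected)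
    (hAC : AC D) (h3 : ∀ x ∈ D, (S D x).ncard = 3) {d a a₂ : G} (hd : d ∈ D) (ha : a ∈ S D d)
    (ha₂ : a₂ ∈ S D d) (hne : a ≠ a₂) : D.ncard = 10 := by
  have haa₂ : ¬ Commute a a₂ := fun h => hne (hAC d hd a ha a₂ ha₂ h)
  have hdmem : d ∈ S D a ∩ S D a₂ :=
    ⟨⟨hd, fun h => ha.2.1 h.symm, ha.2.2.symm⟩, ⟨hd, fun h => ha₂.2.1 h.symm, ha₂.2.2.symm⟩⟩
  obtain ⟨e, heD, hea_ne, hea, hea₂⟩ :=
    exists_commute_not_commute_of_not_commute hD hprim hconn ha.1 ha₂.1 haa₂
  obtain ⟨i, hi⟩ := ncard_inter_eq_three_pow hD hAC ha.1 ⟨d, hdmem⟩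
  have hcount := count_eq hD hprim hconn hAC hd ha.1 ha₂.1 haa₂
  rw [h3 d hd, hi] at hcount
  -- `i = 0`
  have hi0 : i = 0 := by
    by_contra hne0
    have hi1 : i = 1 := by
      by_contra hne1
      have h2 : 2 ≤ i := by omega
      have h9 : 3 ^ 2 ≤ 3 ^ i := Nat.pow_le_pow_right (by norm_num) h2
      have : 3 ^ i ∣ 3 * (3 - 1) := by rw [hcount]; exact dvd_mul_left _ _
      have := Nat.le_of_dvd (by norm_num) this
      omega
    rw [hi1] at hi
    have hsub : S D a ∩ S D a₂ ⊆ S D a := Set.inter_subset_left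
    have heq := Set.eq_of_subset_of_ncard_le hsub (by rw [hi, h3 a ha.1]; norm_num)
      (Set.toFinite _)
    have heS : e ∈ S D a := ⟨heD, hea_ne, hea.symm⟩
    rw [← heq] at heS
    exact hea₂ heS.2.2.2.symm
  rw [hi0] at hcount
  have hl : {y | y ∈ D ∧ ¬ Commute d y}.ncard = 6 := by omega
  have hDeq : D = insert d (S D d ∪ {y | y ∈ D ∧ ¬ Commute d y}) := by
    ext z
    constructor
    · intro hz
      by_cases hzd : z = d
      · left; exact hzd
      · right
        by_cases hc : Commute d z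
        · left; exact ⟨hz, hzd, hc⟩
        · right; exact ⟨hz, hc⟩
    · rintro (rfl | hz | hz)
      · exact hd
      · exact hz.1
      · exact hz.1
  have hdisj : Disjoint (S D d) {y | y ∈ D ∧ ¬ Commute d y} := by
    rw [Set.disjoint_left]
    intro z hz hz'
    exact hz'.2 hz.2.2
  have hdn : d ∉ S D d ∪ {y | y ∈ D ∧ ¬ Commute d y} := by
    rintro (h | h)
    · exact h.2.1 rfl
    · exact h.2 (Commute.refl d)
  rw [hDeq, Set.ncard_insert_of_notMem hdn (Set.toFinite _),
    Set.ncard_union_eq hdisj (Set.toFinite _) (Set.toFinite _), h3 d hd, hl]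

/-- The order of `G` is at least `120`. -/
theorem card_ge (hD : IsThreeTranspositionClass D)
    (hprim : Cfsg.IsPrimitiveUnderConj D) (hconn : (Cfsg.commutingGraph D).Connected)
    (hAC : AC D) (h3 : ∀ x ∈ D, (S D x).ncard = 3) {d a a₂ : G} (hd : d ∈ D) (ha : a ∈ S D d)
    (ha₂ : a₂ ∈ S D d) (hne : a ≠ a₂) : 120 ≤ Nat.card G := by
  have h10 := ncard_eq_ten hD hprim hconn hAC h3 hd ha ha₂ hne
  -- the class of `d`
  have hG := card_eq_orbit_mul_stab (⊤ : Subgroup G) d
  have hD' : {z | ∃ n ∈ (⊤ : Subgroup G), n * d * n⁻¹ = z} = D := by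
    ext z
    constructor
    · rintro ⟨n, _, rfl⟩
      exact conj_mem hD n hd
    · intro hz
      obtain ⟨g, hg⟩ := exists_conj hD hd hz
      exact ⟨g, Subgroup.mem_top g, hg⟩
  rw [hD', h10, Subgroup.card_top, top_inf_eq] at hG
  -- the orbit of `a` under the centralizer of `d`
  have hC := card_eq_orbit_mul_stab (Subgroup.centralizer {d}) a
  have hS' : {z | ∃ n ∈ Subgroup.centralizer {d}, n * a * n⁻¹ = z} = S D d := by
    ext z
    constructor
    · rintro ⟨n, hn, rfl⟩
      have h1 := conj_mem_S hD n ha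
      rw [Subgroup.mem_centralizer_iff] at hn
      have h2 : n * d * n⁻¹ = d := by
        rw [← hn d rfl]; group
      rw [h2] at h1
      exact h1
    · intro hz
      obtain ⟨g, hgd, hga⟩ := pc_of_commute hD hprim hconn hd a ha.1 z hz.1 ha.2.1 hz.2.1 ha.2.2
        hz.2.2
      refine ⟨g, ?_, hga⟩
      rw [Subgroup.mem_centralizer_iff]
      intro w hw
      rw [Set.mem_singleton_iff.mp hw]
      calc d * g = (g * d * g⁻¹) * g := by rw [hgd]
        _ = g * d := by group
  rw [hS', h3 d hd] at hC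
  -- the centralizer of `d` and `a` has at least four elements
  have hd1 : d ≠ 1 := by
    intro h
    have := hD.1.1 d hd
    rw [h, orderOf_one] at this
    omega
  have ha1 : a ≠ 1 := by
    intro h
    have := hD.1.1 a ha.1
    rw [h, orderOf_one] at this
    omega
  have hdK : d ∈ (Subgroup.centralizer {d} ⊓ Subgroup.centralizer {a} : Subgroup G) := by
    refine ⟨?_, ?_⟩
    · show d ∈ Subgroup.centralizer {d}
      rw [Subgroup.mem_centralizer_iff]
      intro w hw
      rw [Set.mem_singleton_iff.mp hw]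
    · show d ∈ Subgroup.centralizer {a}
      rw [Subgroup.mem_centralizer_iff]
      intro w hw
      rw [Set.mem_singleton_iff.mp hw]
      exact ha.2.2.eq.symm
  have haK : a ∈ (Subgroup.centralizer {d} ⊓ Subgroup.centralizer {a} : Subgroup G) := by
    refine ⟨?_, ?_⟩
    · show a ∈ Subgroup.centralizer {d}
      rw [Subgroup.mem_centralizer_iff]
      intro w hw
      rw [Set.mem_singleton_iff.mp hw]
      exact ha.2.2.eq
    · show a ∈ Subgroup.centralizer {a}
      rw [Subgroup.mem_centralizer_iff]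
      intro w hw
      rw [Set.mem_singleton_iff.mp hw]
  have h2dvd : 2 ∣ Nat.card (Subgroup.centralizer {d} ⊓ Subgroup.centralizer {a} : Subgroup G) := by
    have h1 : orderOf (⟨d, hdK⟩ :
        (Subgroup.centralizer {d} ⊓ Subgroup.centralizer {a} : Subgroup G)) ∣ _ :=
      orderOf_dvd_natCard _
    rw [Subgroup.orderOf_mk, hD.1.1 d hd] at h1
    exact h1
  have h3le : 3 ≤ Nat.card (Subgroup.centralizer {d} ⊓ Subgroup.centralizer {a} : Subgroup G) := by
    have hsub : ({1, d, a} : Set G) ⊆
        ((Subgroup.centralizer {d} ⊓ Subgroup.centralizer {a} : Subgroup G) : Set G) := by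
      intro z hz
      rcases hz with rfl | rfl | hz
      · exact one_mem _
      · exact hdK
      · rw [Set.mem_singleton_iff.mp hz]; exact haK
    have hcard : ({1, d, a} : Set G).ncard = 3 :=
      Set.ncard_eq_three.mpr ⟨1, d, a, fun h => hd1 h.symm, fun h => ha1 h.symm,
        fun h => ha.2.1 h.symm, rfl⟩
    have := Set.ncard_le_ncard hsub (Set.toFinite _)
    rw [hcard] at this
    calc 3 ≤ ((Subgroup.centralizer {d} ⊓ Subgroup.centralizer {a} : Subgroup G) : Set G).ncard :=
          this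
      _ = Nat.card (Subgroup.centralizer {d} ⊓ Subgroup.centralizer {a} : Subgroup G) := by
          rw [← Nat.card_coe_set_eq]; rfl
  have h4 : 4 ≤ Nat.card (Subgroup.centralizer {d} ⊓ Subgroup.centralizer {a} : Subgroup G) := by
    omega
  rw [hG, hC]
  calc 120 = 10 * (3 * 4) := by norm_num
    _ ≤ 10 * (3 * Nat.card (Subgroup.centralizer {d} ⊓ Subgroup.centralizer {a} : Subgroup G)) :=
        Nat.mul_le_mul_left _ (Nat.mul_le_mul_left _ h4)

/-- The recognition theorem. -/
theorem nonempty_mulEquiv_of_AC (hD : IsThreeTranspositionClass D)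
    (hprim : Cfsg.IsPrimitiveUnderConj D) (hconn : (Cfsg.commutingGraph D).Connected)
    (hAC : AC D) (hpair : ∃ d ∈ D, ∃ a ∈ S D d, ∃ a₂ ∈ S D d, a ≠ a₂)
    (hZ : Subgroup.center G = ⊥) : Nonempty (G ≃* Equiv.Perm (Fin 5)) := by
  have h3 := ncard_S_eq_three hD hprim hconn hAC hpair
  obtain ⟨d, hd, a, ha, a₂, ha₂, hne⟩ := hpair
  have haa₂ : ¬ Commute a a₂ := fun h => hne (hAC d hd a ha a₂ ha₂ h)
  obtain ⟨e, heD, hea_ne, hea, hea₂⟩ :=
    exists_commute_not_commute_of_not_commute hD hprim hconn ha.1 ha₂.1 haa₂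
  have hed : e ≠ d := by
    intro h
    apply hea₂
    rw [h]; exact ha₂.2.2
  have hde : ¬ Commute d e := by
    intro hc
    have heS : e ∈ S D d := ⟨heD, hed, hc⟩
    exact hea_ne (hAC d hd e heS a ha hea)
  -- the Coxeter relations
  have h1 := sq_of_orderOf_two (hD.1.1 a ha.1)
  have h2 := sq_of_orderOf_two (hD.1.1 a₂ ha₂.1)
  have h3' := sq_of_orderOf_two (hD.1.1 e heD)
  have h4 := sq_of_orderOf_two (hD.1.1 d hd)
  have b12 : a * a₂ * a = a₂ * a * a₂ := braid_of_not_commute hD ha.1 ha₂.1 haa₂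
  have b23 : a₂ * e * a₂ = e * a₂ * e :=
    braid_of_not_commute hD ha₂.1 heD (fun h => hea₂ h.symm)
  have b34 : e * d * e = d * e * d := braid_of_not_commute hD heD hd (fun h => hde h.symm)
  have c13 : a * e = e * a := hea.eq.symm
  have c14 : a * d = d * a := ha.2.2.eq.symm
  have c24 : a₂ * d = d * a₂ := ha₂.2.2.eq.symm
  -- generation
  have hSd := S_eq_of_ncard_three hD hAC hd (h3 d hd) ha ha₂ hne
  have htop : Subgroup.closure ({a, a₂, e, d} : Set G) = ⊤ := by
    have ma : a ∈ Subgroup.closure ({a, a₂, e, d} : Set G) := Subgroup.subset_closure (by simp)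
    have ma₂ : a₂ ∈ Subgroup.closure ({a, a₂, e, d} : Set G) := Subgroup.subset_closure (by simp)
    have me : e ∈ Subgroup.closure ({a, a₂, e, d} : Set G) := Subgroup.subset_closure (by simp)
    have md : d ∈ Subgroup.closure ({a, a₂, e, d} : Set G) := Subgroup.subset_closure (by simp)
    apply Cfsg.Agent.S5354.eq_top_of_not_commute hD hprim hconn hd _ _ heD me hde
    rw [Subgroup.closure_le]
    intro y hy
    by_cases hyd : y = d
    · rw [hyd]; exact md
    · have hyS : y ∈ S D d := ⟨hy.1, hyd, hy.2⟩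
      rw [hSd] at hyS
      rcases hyS with rfl | rfl | hyS
      · exact ma
      · exact ma₂
      · rw [Set.mem_singleton_iff.mp hyS]
        exact mul_mem (mul_mem ma ma₂) (inv_mem ma)
  -- the orders
  have hle4 := card_closure_four_le h1 h2 h3' h4 b12 b23 b34 c13 c14 c24
  have hle3 := card_closure_three_le h1 h2 h3' b12 b23 c13
  rw [htop, Subgroup.card_top] at hle4
  have hge := card_ge hD hprim hconn hAC h3 hd ha ha₂ hne
  have hG : Nat.card G = 120 := by omega
  have hW : Nat.card (Subgroup.closure ({a, a₂, e} : Set G)) = 24 := by omega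
  have hidx : (Subgroup.closure ({a, a₂, e} : Set G)).index = 5 := by
    have := Subgroup.index_mul_card (Subgroup.closure ({a, a₂, e} : Set G))
    rw [hW, hG] at this
    omega
  -- the core is trivial
  have hcore : (Subgroup.closure ({a, a₂, e} : Set G)).normalCore = ⊥ := by
    have hN : (Subgroup.closure ({a, a₂, e} : Set G)).normalCore.Normal :=
      Subgroup.normalCore_normal _
    rcases le_center_or_transitive hD hprim (Subgroup.closure ({a, a₂, e} : Set G)).normalCore
      with h | h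
    · rw [hZ] at h
      exact le_bot_iff.mp h
    · exfalso
      have hD' : {z | ∃ n ∈ (Subgroup.closure ({a, a₂, e} : Set G)).normalCore,
          n * d * n⁻¹ = z} = D := by
        ext z
        constructor
        · rintro ⟨n, _, rfl⟩
          exact conj_mem hD n hd
        · intro hz
          obtain ⟨n, hn, hnz⟩ := h d hd z hz
          exact ⟨n, hn, hnz.symm⟩
      have h10 := ncard_eq_ten hD hprim hconn hAC h3 hd ha ha₂ hne
      have hdvd := ncard_conj_orbit_dvd (Subgroup.closure ({a, a₂, e} : Set G)).normalCore d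
      rw [hD', h10] at hdvd
      have hdvd2 : Nat.card (Subgroup.closure ({a, a₂, e} : Set G)).normalCore ∣ 24 := by
        rw [← hW]
        exact Subgroup.card_dvd_of_le (Subgroup.normalCore_le _)
      have := hdvd.trans hdvd2
      omega
  exact nonempty_mulEquiv_perm_five _ hidx hG hcore

end Cfsg.Agent.Lib.Helper89_LocalS5
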