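import Mathlib
import Cfsg.Prelude.Def_Sporadic_a
import Cfsg.Prelude.Def_Sporadic
import Cfsg.Agent.Lib.Helper27_Deg11Main
import Cfsg.Agent.S0387
import Cfsg.Agent.S0388
import Cfsg.Agent.S2542

/-!
# Simple groups of order 7920 with a subgroup of index 11 (helper89)

Final assembly for S0420: a simple group of order `7920` having a subgroup of index `11` is
isomorphic to the group `Grp 1` of helper27's classification of the insoluble transitive groups of
degree `11`; hence any two such groups are isomorphic, and each is isomorphic to the stabiliser in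
`M24` of a dodecad and a point of it as soon as that stabiliser also has a subgroup of index `11`.
-/

set_option autoImplicit false
open scoped Pointwise

namespace Cfsg.Agent.Lib.Helper89_M11U_Fin

open Equiv Equiv.Perm MulAction
open Cfsg.Agent.Lib.Helper27_Deg11

theorem card_grp_even (t : ℕ) (ht : t = 0 ∨ t = 2) : Nat.card (Grp t) = 660 := by
  have hp : Fact (Nat.Prime 11) := ⟨by norm_num⟩
  have hcard := Cfsg.Agent.S2542.card_PSL2_eleven (F := ZMod 11) (ZMod.card 11)
  obtain ⟨E⟩ := psl_iso t ht
  rw [Nat.card_congr E.toEquiv, hcard]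

theorem grp3_equiv_grp1 : Nonempty (Grp 3 ≃* Grp 1) := by
  have h := map_nu 3 (by norm_num)
  have e := (Grp 3).equivMapOfInjective (nu.permCongrHom : Perm (Fin 11) →* Perm (Fin 11))
    nu.permCongrHom.injective
  rw [h] at e
  exact ⟨e⟩

/-- A simple group of order `7920` with a subgroup of index `11` is isomorphic to `Grp 1`. -/
theorem iso_grp1 {G : Type*} [Group G] [Finite G] [IsSimpleGroup G] (hG : Nat.card G = 7920)
    (K : Subgroup G) (hK : K.index = 11) : Nonempty (G ≃* Grp 1) := by
  classical
  let α := G ⧸ K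
  have : Finite α := Subgroup.finite_quotient_of_finiteIndex (H := K) 
  have : Fintype α := Fintype.ofFinite α
  have hα : Fintype.card α = 11 := by
    rw [← Nat.card_eq_fintype_card]
    exact hK
  let φ : G →* Perm α := MulAction.toPermHom G α
  -- the kernel is trivial
  have hker : φ.ker = ⊥ := by
    rcases (φ.normal_ker).eq_bot_or_eq_top with h | h
    · exact h
    · exfalso
      have hKtop : K = ⊤ := by
        rw [eq_top_iff]
        intro g _
        have hg : g ∈ φ.ker := by rw [h]; trivial
        have h1 : φ g = 1 := hg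
        have h2 : φ g ((1 : G) : G ⧸ K) = ((1 : G) : G ⧸ K) := by rw [h1]; rfl
        have h3 : ((g * 1 : G) : G ⧸ K) = ((1 : G) : G ⧸ K) := h2
        rw [mul_one] at h3
        have h4 := QuotientGroup.eq.mp h3
        simpa using K.inv_mem h4
      rw [hKtop, Subgroup.index_top] at hK
      omega
  have hinj : Function.Injective φ := (MonoidHom.ker_eq_bot_iff φ).mp hker
  let G' : Subgroup (Perm α) := φ.range
  let E0 : G ≃* G' := MonoidHom.ofInjective hinj
  have hcard' : Nat.card G' = 7920 := by rw [← Nat.card_congr E0.toEquiv, hG]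
  have : IsPretransitive G' α := by
    refine ⟨fun a b => ?_⟩
    obtain ⟨g, hg⟩ := MulAction.exists_smul_eq G a b
    exact ⟨⟨φ g, g, rfl⟩, hg⟩
  have hns : ¬ Group.IsSolvable G' := by
    intro hs
    have hsG : Group.IsSolvable G :=
      Group.isSolvable_of_isSolvable_injective (f := E0.toMonoidHom) E0.injective
    have hcomm := (IsSimpleGroup.comm_iff_isSolvable (G := G)).mpr hsG
    let _ : CommGroup G := { (inferInstance : Group G) with mul_comm := hcomm }
    have hp := IsSimpleGroup.prime_card (α := G)
    rw [hG] at hp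
    norm_num at hp
  have hA : ¬ alternatingGroup α ≤ G' := by
    intro hle
    have h1 := Subgroup.card_le_of_le hle
    have h2 : Nat.card (alternatingGroup α) * 2 = (Fintype.card α).factorial := by
      rw [Nat.card_eq_fintype_card]
      have : Nontrivial α := by
        apply Fintype.one_lt_card_iff_nontrivial.mp
        rw [hα]; norm_num
      rw [mul_comm, two_mul_card_alternatingGroup, Fintype.card_perm]
    rw [hα] at h2
    have h3 : (11 : ℕ).factorial = 39916800 := by decide
    rw [h3] at h2
    omega
  obtain ⟨e, t, ht, hmap⟩ := classify hα G' hns hA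
  have E1 := G'.equivMapOfInjective (e.permCongrHom : Perm α →* Perm (Fin 11))
    e.permCongrHom.injective
  rw [hmap] at E1
  have hct : Nat.card (Grp t) = 7920 := by rw [← Nat.card_congr E1.toEquiv, hcard']
  have hcases : t = 0 ∨ t = 1 ∨ t = 2 ∨ t = 3 := by omega
  rcases hcases with rfl | rfl | rfl | rfl
  · exfalso
    have := card_grp_even 0 (Or.inl rfl)
    omega
  · exact ⟨E0.trans E1⟩
  · exfalso
    have := card_grp_even 2 (Or.inr rfl)
    omega
  · obtain ⟨E3⟩ := grp3_equiv_grp1
    exact ⟨(E0.trans E1).trans E3⟩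

/-- Any two simple groups of order `7920` having subgroups of index `11` are isomorphic. -/
theorem iso_of_index_eleven {G H : Type*} [Group G] [Finite G] [IsSimpleGroup G]
    [Group H] [Finite H] [IsSimpleGroup H] (hG : Nat.card G = 7920) (hH : Nat.card H = 7920)
    (K : Subgroup G) (hK : K.index = 11) (L : Subgroup H) (hL : L.index = 11) :
    Nonempty (G ≃* H) := by
  obtain ⟨E⟩ := iso_grp1 hG K hK
  obtain ⟨F⟩ := iso_grp1 hH L hL
  exact ⟨E.trans F.symm⟩

/-- **Final assembly for S0420**, given subgroups of index `11` in `G` and in the model. -/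
theorem iso_model {G : Type*} [Group G] [Finite G] (hG : Cfsg.IsM11 G)
    (d : Finset Cfsg.GolayPt) (hd : d ∈ Cfsg.dodecads) (p : Cfsg.GolayPt) (hp : p ∈ d)
    (K : Subgroup G) (hK : K.index = 11)
    (L : Subgroup ↥(MulAction.stabilizer Cfsg.M24 d ⊓ MulAction.stabilizer Cfsg.M24 p))
    (hL : L.index = 11) :
    Nonempty (G ≃* ↥(MulAction.stabilizer Cfsg.M24 d ⊓ MulAction.stabilizer Cfsg.M24 p)) := by
  have := hG.1
  have : IsSimpleGroup ↥(MulAction.stabilizer Cfsg.M24 d ⊓ MulAction.stabilizer Cfsg.M24 p) :=
    Cfsg.Agent.S0388.result d hd p hp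
  have : Finite ↥(MulAction.stabilizer Cfsg.M24 d ⊓ MulAction.stabilizer Cfsg.M24 p) :=
    Nat.finite_of_card_ne_zero (by rw [Cfsg.Agent.S0387.result d hd p hp]; norm_num)
  exact iso_of_index_eleven hG.2 (Cfsg.Agent.S0387.result d hd p hp) K hK L hL

/-- S0420 from the existence statement: every simple group of order `7920` has a subgroup of index
`11` (needed for `G` and for the model, which lives in `Type`). -/
theorem iso_model_of_exists {G : Type*} [Group G] [Finite G] (hG : Cfsg.IsM11 G)
    (d : Finset Cfsg.GolayPt) (hd : d ∈ Cfsg.dodecads) (p : Cfsg.GolayPt) (hp : p ∈ d)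
    (hexG : ∃ K : Subgroup G, K.index = 11)
    (hexM : ∃ L : Subgroup ↥(MulAction.stabilizer Cfsg.M24 d ⊓ MulAction.stabilizer Cfsg.M24 p),
      L.index = 11) :
    Nonempty (G ≃* ↥(MulAction.stabilizer Cfsg.M24 d ⊓ MulAction.stabilizer Cfsg.M24 p)) := by
  obtain ⟨K, hK⟩ := hexG
  obtain ⟨L, hL⟩ := hexM
  exact iso_model hG d hd p hp K hK L hL

end Cfsg.Agent.Lib.Helper89_M11U_Fin
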