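import Mathlib

set_option autoImplicit false

/-!
# The clique lemma for S0420 (helper89)

Abstract permutation-group lemma: a transitive group on `55` points with an invariant graph of
valency `18` whose neighbourhoods are two orbits of a subgroup of order `9`, with the local data of
the graph on the Sylow `3`-subgroups of a simple group of order `7920`, has a subgroup of order
`720` (the stabiliser of a clique of size `10`).
-/

namespace Cfsg.Agent.Lib.Helper89_M11U_GL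

open MulAction
open scoped Pointwise

variable {G Ω : Type*} [Group G] [MulAction G Ω]

/-- The hypotheses of the clique lemma. -/
structure Hyp (Adj : Ω → Ω → Prop) (p0 p1 p2 : Ω) (P D : Subgroup G) (n : G) : Prop where
  irr : ∀ a, ¬ Adj a a
  symm : ∀ a b, Adj a b → Adj b a
  inv : ∀ (g : G) (a b : Ω), Adj a b → Adj (g • a) (g • b)
  Pcard : Nat.card P = 9
  Dcard : Nat.card D = 8
  P0 : ∀ x ∈ P, x • p0 = p0
  D0 : ∀ q ∈ D, q • p0 = p0
  D1 : ∀ q ∈ D, q • p1 = p1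
  D2 : ∀ q ∈ D, q • p2 = p2
  DP : ∀ q ∈ D, ∀ x ∈ P, q * x * q⁻¹ ∈ P
  Dfree : ∀ q ∈ D, ∀ x ∈ P, x ≠ 1 → q * x * q⁻¹ = x → q = 1
  n0 : n • p0 = p0
  n1 : n • p1 = p2
  nP : ∀ x, x ∈ P ↔ n * x * n⁻¹ ∈ P
  nbr : ∀ c, Adj p0 c ↔ ∃ x ∈ P, c = x • p1 ∨ c = x • p2
  free : ∀ x ∈ P, x • p1 = p1 → x = 1
  ne : ∀ x ∈ P, x • p1 ≠ p2
  h12 : Adj p1 p2

variable {Adj : Ω → Ω → Prop} {p0 p1 p2 : Ω} {P D : Subgroup G} {n : G}

namespace Hyp

theorem inv_iff (h : Hyp Adj p0 p1 p2 P D n) (g : G) (a b : Ω) :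
    Adj (g • a) (g • b) ↔ Adj a b := by
  refine ⟨fun hab => ?_, h.inv g a b⟩
  have := h.inv g⁻¹ _ _ hab
  rwa [inv_smul_smul, inv_smul_smul] at this

theorem symm_iff (h : Hyp Adj p0 p1 p2 P D n) (a b : Ω) : Adj a b ↔ Adj b a :=
  ⟨h.symm a b, h.symm b a⟩

theorem nP' (h : Hyp Adj p0 p1 p2 P D n) {x : G} (hx : x ∈ P) : n⁻¹ * x * n ∈ P := by
  rw [h.nP]
  have : n * (n⁻¹ * x * n) * n⁻¹ = x := by group
  rw [this]; exact hx

theorem smul_p2 (h : Hyp Adj p0 p1 p2 P D n) (x : G) :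
    x • p2 = n • ((n⁻¹ * x * n) • p1) := by
  rw [← h.n1, smul_smul, smul_smul]
  congr 1
  group

/-- freeness of `P` on `p2` -/
theorem free2 (h : Hyp Adj p0 p1 p2 P D n) {x : G} (hx : x ∈ P) (hx2 : x • p2 = p2) : x = 1 := by
  have h1 : (n⁻¹ * x * n) • p1 = p1 := by
    have := h.smul_p2 x
    rw [hx2, ← h.n1] at this
    exact (smul_left_cancel n this).symm
  have h2 := h.free _ (h.nP' hx) h1
  have : x = n * (n⁻¹ * x * n) * n⁻¹ := by group
  rw [this, h2]; group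

theorem inj1 (h : Hyp Adj p0 p1 p2 P D n) {x y : G} (hx : x ∈ P) (hy : y ∈ P)
    (hxy : x • p1 = y • p1) : x = y := by
  have h1 : (y⁻¹ * x) • p1 = p1 := by rw [mul_smul, hxy, inv_smul_smul]
  have := h.free _ (P.mul_mem (P.inv_mem hy) hx) h1
  exact (inv_mul_eq_one.mp this).symm

theorem inj2 (h : Hyp Adj p0 p1 p2 P D n) {x y : G} (hx : x ∈ P) (hy : y ∈ P)
    (hxy : x • p2 = y • p2) : x = y := by
  have h1 : (y⁻¹ * x) • p2 = p2 := by rw [mul_smul, hxy, inv_smul_smul]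
  have := h.free2 (P.mul_mem (P.inv_mem hy) hx) h1
  exact (inv_mul_eq_one.mp this).symm

theorem ne12 (h : Hyp Adj p0 p1 p2 P D n) {x y : G} (hx : x ∈ P) (hy : y ∈ P) :
    x • p1 ≠ y • p2 := by
  intro hxy
  have h1 : (y⁻¹ * x) • p1 = p2 := by rw [mul_smul, hxy, inv_smul_smul]
  exact h.ne _ (P.mul_mem (P.inv_mem hy) hx) h1

/-- `D` acts transitively on `P \ 1`. -/
theorem D_trans [Finite G] (h : Hyp Adj p0 p1 p2 P D n) {x y : G} (hx : x ∈ P) (hx1 : x ≠ 1)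
    (hy : y ∈ P) (hy1 : y ≠ 1) : ∃ q ∈ D, q * x * q⁻¹ = y := by
  classical
  let S := {z : P // z ≠ 1}
  have hS : Nat.card S = 8 := by
    have : Fintype P := Fintype.ofFinite P
    rw [Nat.card_eq_fintype_card, Fintype.card_subtype_compl, Fintype.card_subtype_eq,
      ← Nat.card_eq_fintype_card, h.Pcard]
  let f : D → S := fun q => ⟨⟨q * x * q⁻¹, h.DP q q.2 x hx⟩, by
    intro hq
    have h1 : (q : G) * x * (q : G)⁻¹ = 1 := congrArg Subtype.val hq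
    apply hx1
    have : x = (q : G)⁻¹ * ((q : G) * x * (q : G)⁻¹) * (q : G) := by group
    rw [this, h1]; group⟩
  have hf : Function.Injective f := by
    intro q q' hqq
    have h1 : (q : G) * x * (q : G)⁻¹ = (q' : G) * x * (q' : G)⁻¹ :=
      congrArg (fun s : S => ((s : P) : G)) hqq
    have h2 : ((q' : G)⁻¹ * q) * x * ((q' : G)⁻¹ * q)⁻¹ = x := by
      have : ((q' : G)⁻¹ * q) * x * ((q' : G)⁻¹ * q)⁻¹ =
          (q' : G)⁻¹ * ((q : G) * x * (q : G)⁻¹) * q' := by group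
      rw [this, h1]; group
    have h3 := h.Dfree _ (D.mul_mem (D.inv_mem q'.2) q.2) x hx hx1 h2
    exact Subtype.ext (inv_mul_eq_one.mp h3).symm
  have hbij : Function.Bijective f := by
    have : Finite D := inferInstance
    have : Finite S := inferInstance
    exact (Nat.bijective_iff_injective_and_card f).mpr ⟨hf, by rw [h.Dcard, hS]⟩
  obtain ⟨q, hq⟩ := hbij.2 ⟨⟨y, hy⟩, fun hh => hy1 (congrArg Subtype.val hh)⟩
  exact ⟨q, q.2, congrArg (fun s : S => ((s : P) : G)) hq⟩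

/-- The property `a1`: `p1` is joined to (some, hence all) `x • p1`, `1 ≠ x ∈ P`. -/
theorem a1_all [Finite G] (h : Hyp Adj p0 p1 p2 P D n)
    (ha : ∃ x ∈ P, x ≠ 1 ∧ Adj p1 (x • p1)) : ∀ y ∈ P, y ≠ 1 → Adj p1 (y • p1) := by
  obtain ⟨x, hx, hx1, hadj⟩ := ha
  intro y hy hy1
  obtain ⟨q, hq, hqx⟩ := h.D_trans hx hx1 hy hy1
  have h1 := h.inv q _ _ hadj
  rw [h.D1 q hq, smul_smul] at h1
  have h2 : (q * x) • p1 = y • p1 := by
    have : q * x = y * q := by rw [← hqx]; group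
    rw [this, mul_smul, h.D1 q hq]
  rwa [h2] at h1

theorem a2_all [Finite G] (h : Hyp Adj p0 p1 p2 P D n)
    (ha : ∃ x ∈ P, x ≠ 1 ∧ Adj p1 (x • p2)) : ∀ y ∈ P, y ≠ 1 → Adj p1 (y • p2) := by
  obtain ⟨x, hx, hx1, hadj⟩ := ha
  intro y hy hy1
  obtain ⟨q, hq, hqx⟩ := h.D_trans hx hx1 hy hy1
  have h1 := h.inv q _ _ hadj
  rw [h.D1 q hq, smul_smul] at h1
  have h2 : (q * x) • p2 = y • p2 := by
    have : q * x = y * q := by rw [← hqx]; group
    rw [this, mul_smul, h.D2 q hq]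
  rwa [h2] at h1

/-- a common neighbour of `p0`, `p1` other than `p2` gives `a1` or `a2` -/
theorem a1_or_a2 (h : Hyp Adj p0 p1 p2 P D n) (hc : ∃ c, Adj p0 c ∧ Adj p1 c ∧ c ≠ p2) :
    (∃ x ∈ P, x ≠ 1 ∧ Adj p1 (x • p1)) ∨ (∃ x ∈ P, x ≠ 1 ∧ Adj p1 (x • p2)) := by
  obtain ⟨c, hc0, hc1, hc2⟩ := hc
  obtain ⟨x, hx, rfl | rfl⟩ := (h.nbr c).mp hc0
  · left
    refine ⟨x, hx, ?_, hc1⟩
    rintro rfl
    rw [one_smul] at hc1
    exact h.irr _ hc1
  · right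
    refine ⟨x, hx, ?_, hc1⟩
    rintro rfl
    rw [one_smul] at hc2
    exact hc2 rfl

/-! ### neighbourhoods -/

/-- the neighbourhood of a vertex -/
def nb (Adj : Ω → Ω → Prop) (v : Ω) : Set Ω := {c | Adj v c}

/-- the orbit `P • p1` -/
def A1 (p1 : Ω) (P : Subgroup G) : Set Ω := {c | ∃ x ∈ P, c = x • p1}

theorem nb_smul (h : Hyp Adj p0 p1 p2 P D n) (g : G) (v : Ω) : nb Adj (g • v) = g • nb Adj v := by
  ext c
  rw [Set.mem_smul_set_iff_inv_smul_mem]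
  show Adj (g • v) c ↔ Adj v (g⁻¹ • c)
  rw [← h.inv_iff g v (g⁻¹ • c), smul_inv_smul]

theorem nb_p0 (h : Hyp Adj p0 p1 p2 P D n) : nb Adj p0 = A1 p1 P ∪ A1 p2 P := by
  ext c
  show Adj p0 c ↔ _
  rw [h.nbr c]
  constructor
  · rintro ⟨x, hx, rfl | rfl⟩
    · exact Or.inl ⟨x, hx, rfl⟩
    · exact Or.inr ⟨x, hx, rfl⟩
  · rintro (⟨x, hx, rfl⟩ | ⟨x, hx, rfl⟩)
    · exact ⟨x, hx, Or.inl rfl⟩
    · exact ⟨x, hx, Or.inr rfl⟩

theorem A1_eq_range (q : Ω) : A1 q P = Set.range (fun x : P => (x : G) • q) := by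
  ext c
  constructor
  · rintro ⟨x, hx, rfl⟩; exact ⟨⟨x, hx⟩, rfl⟩
  · rintro ⟨x, rfl⟩; exact ⟨x, x.2, rfl⟩

theorem ncard_A1 [Finite G] (h : Hyp Adj p0 p1 p2 P D n) : (A1 p1 P).ncard = 9 := by
  rw [A1_eq_range, ← Nat.card_coe_set_eq, Nat.card_range_of_injective, h.Pcard]
  intro x y hxy
  exact Subtype.ext (h.inj1 x.2 y.2 hxy)

theorem ncard_A2 [Finite G] (h : Hyp Adj p0 p1 p2 P D n) : (A1 p2 P).ncard = 9 := by
  rw [A1_eq_range, ← Nat.card_coe_set_eq, Nat.card_range_of_injective, h.Pcard]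
  intro x y hxy
  exact Subtype.ext (h.inj2 x.2 y.2 hxy)

theorem disjoint_A (h : Hyp Adj p0 p1 p2 P D n) : Disjoint (A1 p1 P) (A1 p2 P) := by
  rw [Set.disjoint_left]
  rintro c ⟨x, hx, rfl⟩ ⟨y, hy, hxy⟩
  exact h.ne12 hx hy hxy

theorem finite_A1 [Finite G] (q : Ω) : (A1 q P).Finite := by
  rw [A1_eq_range]
  exact Set.finite_range _

theorem ncard_nb_p0 [Finite G] (h : Hyp Adj p0 p1 p2 P D n) : (nb Adj p0).ncard = 18 := by
  rw [h.nb_p0, Set.ncard_union_eq h.disjoint_A (finite_A1 _) (finite_A1 _), h.ncard_A1, h.ncard_A2]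

theorem ncard_nb [Finite G] [IsPretransitive G Ω] (h : Hyp Adj p0 p1 p2 P D n) (v : Ω) :
    (nb Adj v).ncard = 18 := by
  obtain ⟨g, rfl⟩ := exists_smul_eq G p0 v
  rw [h.nb_smul, Set.ncard_smul_set, h.ncard_nb_p0]

theorem finite_nb [Finite G] [IsPretransitive G Ω] (h : Hyp Adj p0 p1 p2 P D n) (v : Ω) :
    (nb Adj v).Finite := by
  apply Set.finite_of_ncard_ne_zero
  rw [h.ncard_nb v]; norm_num

/-- `A2 = n • A1` -/
theorem A2_eq (h : Hyp Adj p0 p1 p2 P D n) : A1 p2 P = n • A1 p1 P := by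
  ext c
  rw [Set.mem_smul_set]
  constructor
  · rintro ⟨x, hx, rfl⟩
    exact ⟨(n⁻¹ * x * n) • p1, ⟨_, h.nP' hx, rfl⟩, (h.smul_p2 x).symm⟩
  · rintro ⟨_, ⟨y, hy, rfl⟩, rfl⟩
    refine ⟨n * y * n⁻¹, (h.nP y).mp hy, ?_⟩
    rw [h.smul_p2]
    congr 2
    group

/-! ### adjacency inside the neighbourhood of `p0` -/

theorem adj11 (h : Hyp Adj p0 p1 p2 P D n) (x y : G) :
    Adj (x • p1) (y • p1) ↔ Adj p1 ((x⁻¹ * y) • p1) := by
  rw [← h.inv_iff x p1 ((x⁻¹ * y) • p1), smul_smul, mul_inv_cancel_left]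

theorem adj12 (h : Hyp Adj p0 p1 p2 P D n) (x y : G) :
    Adj (x • p1) (y • p2) ↔ Adj p1 ((x⁻¹ * y) • p2) := by
  rw [← h.inv_iff x p1 ((x⁻¹ * y) • p2), smul_smul, mul_inv_cancel_left]

theorem adj22 (h : Hyp Adj p0 p1 p2 P D n) (x y : G) :
    Adj (x • p2) (y • p2) ↔ Adj p1 (((n⁻¹ * x * n)⁻¹ * (n⁻¹ * y * n)) • p1) := by
  rw [h.smul_p2 x, h.smul_p2 y, h.inv_iff, h.adj11]

theorem conj_ne (n : G) {x y : G} (hxy : x ≠ y) :
    (n⁻¹ * x * n)⁻¹ * (n⁻¹ * y * n) ≠ 1 := by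
  intro h1
  apply hxy
  have h2 : n⁻¹ * x * n = n⁻¹ * y * n := by
    rw [← inv_mul_eq_one]; exact h1
  have : x = n * (n⁻¹ * x * n) * n⁻¹ := by group
  rw [this, h2]; group

theorem adj_p0_1 (h : Hyp Adj p0 p1 p2 P D n) {x : G} (hx : x ∈ P) : Adj p0 (x • p1) :=
  (h.nbr _).mpr ⟨x, hx, Or.inl rfl⟩

theorem adj_p0_2 (h : Hyp Adj p0 p1 p2 P D n) {x : G} (hx : x ∈ P) : Adj p0 (x • p2) :=
  (h.nbr _).mpr ⟨x, hx, Or.inr rfl⟩

/-! ### the case where `p1` is joined to everything: a clique of size 19 -/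

theorem case_both [Finite G] [Finite Ω] [IsPretransitive G Ω] (h : Hyp Adj p0 p1 p2 P D n)
    (hΩ : Nat.card Ω = 55)
    (h1 : ∀ y ∈ P, y ≠ 1 → Adj p1 (y • p1)) (h2 : ∀ y ∈ P, y ≠ 1 → Adj p1 (y • p2)) : False := by
  classical
  -- the neighbourhood of `p0` is a clique
  have hcl : ∀ a ∈ nb Adj p0, ∀ b ∈ nb Adj p0, a ≠ b → Adj a b := by
    intro a ha b hb hab
    rw [h.nb_p0] at ha hb
    rcases ha with ⟨x, hx, rfl⟩ | ⟨x, hx, rfl⟩ <;> rcases hb with ⟨y, hy, rfl⟩ | ⟨y, hy, rfl⟩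
    · rw [h.adj11 x y]
      apply h1 _ (P.mul_mem (P.inv_mem hx) hy)
      intro h3
      apply hab
      rw [inv_mul_eq_one.mp h3]
    · rw [h.adj12 x y]
      by_cases h3 : x⁻¹ * y = 1
      · rw [h3, one_smul]; exact h.h12
      · exact h2 _ (P.mul_mem (P.inv_mem hx) hy) h3
    · apply h.symm
      rw [h.adj12 y x]
      by_cases h3 : y⁻¹ * x = 1
      · rw [h3, one_smul]; exact h.h12
      · exact h2 _ (P.mul_mem (P.inv_mem hy) hx) h3
    · rw [h.adj22 x y]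
      apply h1 _ (P.mul_mem (P.inv_mem (h.nP' hx)) (h.nP' hy))
      apply conj_ne
      intro hxy
      apply hab
      rw [hxy]
  set W : Set Ω := insert p0 (nb Adj p0) with hW
  have hp0 : p0 ∉ nb Adj p0 := h.irr p0
  have hWcard : W.ncard = 19 := by
    rw [hW, Set.ncard_insert_of_notMem hp0 (h.finite_nb p0), h.ncard_nb]
  have hWfin : W.Finite := Set.finite_of_ncard_ne_zero (by rw [hWcard]; norm_num)
  -- `W` is the closed neighbourhood of each of its points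
  have hWeq : ∀ a ∈ W, insert a (nb Adj a) = W := by
    intro a ha
    have hsub : W \ {a} ⊆ nb Adj a := by
      rintro b ⟨hb, hba⟩
      have hba' : b ≠ a := hba
      rcases ha with rfl | ha
      · rcases hb with rfl | hb
        · exact absurd rfl hba'
        · exact hb
      · rcases hb with rfl | hb
        · exact h.symm _ _ ha
        · exact hcl a ha b hb (Ne.symm hba')
    have hcard : (W \ {a}).ncard = 18 := by
      rw [Set.ncard_sdiff_singleton_of_mem ha, hWcard]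
    have heq : W \ {a} = nb Adj a :=
      Set.eq_of_subset_of_ncard_le hsub (by rw [hcard, h.ncard_nb]) (h.finite_nb a)
    rw [← heq, Set.insert_sdiff_singleton, Set.insert_eq_of_mem ha]
  have hblock : IsBlock G W := by
    rw [isBlock_iff_smul_eq_of_mem]
    intro g a ha hga
    have e1 : g • W = g • insert a (nb Adj a) := by rw [hWeq a ha]
    rw [e1, Set.smul_set_insert, ← h.nb_smul, hWeq _ hga]
  have hdvd := hblock.ncard_dvd_card ⟨p0, Set.mem_insert _ _⟩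
  rw [hWcard, hΩ] at hdvd
  norm_num at hdvd

/-! ### the case where `p1` is joined to the other orbit only: twins -/

theorem mem_A1_self (q : Ω) : q ∈ A1 q P := ⟨1, P.one_mem, (one_smul _ _).symm⟩

theorem A1_sub_nb (h : Hyp Adj p0 p1 p2 P D n) : A1 p1 P ⊆ nb Adj p0 := by
  rw [h.nb_p0]; exact Set.subset_union_left

theorem A2_sub_nb (h : Hyp Adj p0 p1 p2 P D n) : A1 p2 P ⊆ nb Adj p0 := by
  rw [h.nb_p0]; exact Set.subset_union_right

theorem case_two_aux [Finite G] [Finite Ω] [IsPretransitive G Ω] (h : Hyp Adj p0 p1 p2 P D n)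
    (hΩ : Nat.card Ω = 55)
    (i11 : ∀ a ∈ A1 p1 P, ∀ a' ∈ A1 p1 P, ¬ Adj a a')
    (c12 : ∀ a ∈ A1 p1 P, ∀ b ∈ A1 p2 P, Adj a b)
    (S T : Set Ω) (hST : nb Adj p2 = S ∪ T) (hS : S.ncard = 9) (hT : T.ncard = 9)
    (iT : ∀ b ∈ T, ∀ b' ∈ T, ¬ Adj b b') (cST : ∀ a ∈ S, ∀ b ∈ T, Adj a b ∧ Adj b a)
    (hAS : A1 p1 P ⊆ S) : False := by
  classical
  have hSfin : S.Finite := Set.finite_of_ncard_ne_zero (by rw [hS]; norm_num)
  have hTfin : T.Finite := Set.finite_of_ncard_ne_zero (by rw [hT]; norm_num)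
  have hAeq : A1 p1 P = S :=
    Set.eq_of_subset_of_ncard_le hAS (by rw [hS, h.ncard_A1]) hSfin
  -- `p0` lies in `T`
  have hp0A : p0 ∉ A1 p1 P := fun hmem => h.irr p0 (h.A1_sub_nb hmem)
  have hp0B : p0 ∉ A1 p2 P := fun hmem => h.irr p0 (h.A2_sub_nb hmem)
  have hp0T : p0 ∈ T := by
    have h1 : p0 ∈ nb Adj p2 := h.symm _ _ (h.A2_sub_nb (mem_A1_self p2))
    rw [hST, ← hAeq] at h1
    rcases h1 with h1 | h1
    · exact absurd h1 hp0A
    · exact h1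
  have hBT : Disjoint (A1 p2 P) T := by
    rw [Set.disjoint_left]
    intro b hb hbT
    exact iT p0 hp0T b hbT (h.A2_sub_nb hb)
  -- all points of `A` have the same neighbourhood
  have hnbA : ∀ a ∈ A1 p1 P, nb Adj a = A1 p2 P ∪ T := by
    intro a ha
    symm
    apply Set.eq_of_subset_of_ncard_le _ _ (h.finite_nb a)
    · rintro c (hc | hc)
      · exact c12 a ha c hc
      · exact (cST a (hAeq ▸ ha) c hc).1
    · rw [h.ncard_nb, Set.ncard_union_eq hBT (finite_A1 _) hTfin, h.ncard_A2, hT]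
  set Tw : Set Ω := {v | nb Adj v = nb Adj p1} with hTw
  have hTwA : Tw = A1 p1 P := by
    ext v
    constructor
    · intro hv
      have hv' : nb Adj v = nb Adj p1 := hv
      have h1 : p0 ∈ nb Adj p1 := h.symm _ _ (h.A1_sub_nb (mem_A1_self p1))
      rw [← hv'] at h1
      have h2 : v ∈ nb Adj p0 := h.symm _ _ h1
      rw [h.nb_p0] at h2
      rcases h2 with h2 | h2
      · exact h2
      · exfalso
        have h3 : v ∈ nb Adj p1 := c12 p1 (mem_A1_self p1) v h2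
        rw [← hv'] at h3
        exact h.irr v h3
    · intro hv
      show nb Adj v = nb Adj p1
      rw [hnbA v hv, hnbA p1 (mem_A1_self p1)]
  have hblock : IsBlock G Tw := by
    rw [isBlock_iff_smul_eq_of_mem]
    intro g a ha hga
    have ha' : nb Adj a = nb Adj p1 := ha
    have hga' : nb Adj (g • a) = nb Adj p1 := hga
    have key : g • nb Adj p1 = nb Adj p1 := by
      rw [← ha', ← h.nb_smul, hga', ha']
    ext w
    rw [Set.mem_smul_set_iff_inv_smul_mem]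
    show nb Adj (g⁻¹ • w) = nb Adj p1 ↔ nb Adj w = nb Adj p1
    rw [h.nb_smul, inv_smul_eq_iff, key]
  have hdvd := hblock.ncard_dvd_card ⟨p1, rfl⟩
  rw [hTwA, h.ncard_A1, hΩ] at hdvd
  norm_num at hdvd

theorem case_two [Finite G] [Finite Ω] [IsPretransitive G Ω] (h : Hyp Adj p0 p1 p2 P D n)
    (hΩ : Nat.card Ω = 55)
    (h1 : ∀ y ∈ P, y ≠ 1 → ¬ Adj p1 (y • p1)) (h2 : ∀ y ∈ P, y ≠ 1 → Adj p1 (y • p2)) : False := by
  classical
  have i11 : ∀ a ∈ A1 p1 P, ∀ a' ∈ A1 p1 P, ¬ Adj a a' := by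
    rintro _ ⟨x, hx, rfl⟩ _ ⟨y, hy, rfl⟩
    by_cases hxy : x = y
    · rw [hxy]; exact h.irr _
    · rw [h.adj11 x y]
      apply h1 _ (P.mul_mem (P.inv_mem hx) hy)
      intro h3
      exact hxy (inv_mul_eq_one.mp h3)
  have i22 : ∀ b ∈ A1 p2 P, ∀ b' ∈ A1 p2 P, ¬ Adj b b' := by
    rintro _ ⟨x, hx, rfl⟩ _ ⟨y, hy, rfl⟩
    by_cases hxy : x = y
    · rw [hxy]; exact h.irr _
    · rw [h.adj22 x y]
      exact h1 _ (P.mul_mem (P.inv_mem (h.nP' hx)) (h.nP' hy)) (conj_ne n hxy)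
  have c12 : ∀ a ∈ A1 p1 P, ∀ b ∈ A1 p2 P, Adj a b := by
    rintro _ ⟨x, hx, rfl⟩ _ ⟨y, hy, rfl⟩
    rw [h.adj12 x y]
    by_cases h3 : x⁻¹ * y = 1
    · rw [h3, one_smul]; exact h.h12
    · exact h2 _ (P.mul_mem (P.inv_mem hx) hy) h3
  -- the structure of the neighbourhood of `p2`
  obtain ⟨g, hg⟩ := exists_smul_eq G p0 p2
  have hnb2 : nb Adj p2 = g • A1 p1 P ∪ g • A1 p2 P := by
    have h3 := h.nb_smul g p0
    rw [hg] at h3
    rw [h3, h.nb_p0, Set.smul_set_union]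
  have hcS : (g • A1 p1 P).ncard = 9 := by rw [Set.ncard_smul_set, h.ncard_A1]
  have hcT : (g • A1 p2 P).ncard = 9 := by rw [Set.ncard_smul_set, h.ncard_A2]
  have iS : ∀ b ∈ g • A1 p1 P, ∀ b' ∈ g • A1 p1 P, ¬ Adj b b' := by
    rintro _ ⟨a, ha, rfl⟩ _ ⟨a', ha', rfl⟩
    simp only
    rw [h.inv_iff]
    exact i11 a ha a' ha'
  have iT : ∀ b ∈ g • A1 p2 P, ∀ b' ∈ g • A1 p2 P, ¬ Adj b b' := by
    rintro _ ⟨a, ha, rfl⟩ _ ⟨a', ha', rfl⟩
    simp only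
    rw [h.inv_iff]
    exact i22 a ha a' ha'
  have cST : ∀ a ∈ g • A1 p1 P, ∀ b ∈ g • A1 p2 P, Adj a b ∧ Adj b a := by
    rintro _ ⟨a, ha, rfl⟩ _ ⟨b, hb, rfl⟩
    simp only
    rw [h.inv_iff, h.inv_iff]
    exact ⟨c12 a ha b hb, h.symm _ _ (c12 a ha b hb)⟩
  have hAsub : A1 p1 P ⊆ nb Adj p2 := fun a ha => h.symm _ _ (c12 a ha p2 (mem_A1_self p2))
  by_cases hAS : A1 p1 P ⊆ g • A1 p1 P
  · exact h.case_two_aux hΩ i11 c12 _ _ hnb2 hcS hcT iT cST hAS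
  · have hAT : A1 p1 P ⊆ g • A1 p2 P := by
      rw [Set.not_subset] at hAS
      obtain ⟨a, ha, haS⟩ := hAS
      have haT : a ∈ g • A1 p2 P := by
        have := hAsub ha
        rw [hnb2] at this
        rcases this with h3 | h3
        · exact absurd h3 haS
        · exact h3
      intro a' ha'
      have := hAsub ha'
      rw [hnb2] at this
      rcases this with h3 | h3
      · exact absurd (cST a' h3 a haT).1 (i11 a' ha' a ha)
      · exact h3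
    rw [Set.union_comm] at hnb2
    exact h.case_two_aux hΩ i11 c12 _ _ hnb2 hcT hcS iS (fun a ha b hb => (cST b hb a ha).symm) hAT

/-! ### the main case: a clique of size 10 and its stabiliser -/

/-- a clique of size at least three inside two sets joined by a partial matching lies in one of
them -/
theorem clique_side (h : Hyp Adj p0 p1 p2 P D n) (S T Y : Set Ω) (hY : Y ⊆ S ∪ T)
    (hcl : ∀ u ∈ Y, ∀ w ∈ Y, u ≠ w → Adj u w) (h3 : 3 ≤ Y.ncard)
    (mS : ∀ a ∈ S, ∀ b ∈ T, ∀ b' ∈ T, Adj a b → Adj a b' → b = b')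
    (mT : ∀ b ∈ T, ∀ a ∈ S, ∀ a' ∈ S, Adj a b → Adj a' b → a = a') :
    Y ⊆ S ∨ Y ⊆ T := by
  classical
  by_contra hcon
  push Not at hcon
  obtain ⟨hS, hT⟩ := hcon
  rw [Set.not_subset] at hS hT
  obtain ⟨u, huY, huS⟩ := hS
  obtain ⟨v, hvY, hvT⟩ := hT
  have huT : u ∈ T := by
    rcases hY huY with h4 | h4
    · exact absurd h4 huS
    · exact h4
  have hvS : v ∈ S := by
    rcases hY hvY with h4 | h4
    · exact h4
    · exact absurd h4 hvT
  have huv : u ≠ v := fun e => huS (e ▸ hvS)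
  have hYfin : Y.Finite := Set.finite_of_ncard_ne_zero (by omega)
  -- a third point
  have h2 : ({u, v} : Set Ω).ncard = 2 := Set.ncard_pair huv
  obtain ⟨w, hwY, hw⟩ : ∃ w ∈ Y, w ∉ ({u, v} : Set Ω) := by
    by_contra hno
    push Not at hno
    have := Set.ncard_le_ncard (s := Y) (t := ({u, v} : Set Ω)) hno (Set.toFinite _)
    omega
  have hwu : w ≠ u := fun e => hw (e ▸ Set.mem_insert _ _)
  have hwv : w ≠ v := fun e => hw (e ▸ Set.mem_insert_of_mem _ rfl)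
  rcases hY hwY with hwS | hwT
  · exact hwv (mT u huT w hwS v hvS (hcl w hwY u huY hwu) (hcl v hvY u huY (Ne.symm huv)))
  · exact hwu (mS v hvS w hwT u huT (hcl v hvY w hwY (Ne.symm hwv)) (hcl v hvY u huY (Ne.symm huv)))

theorem smul_A1 {x : G} (hx : x ∈ P) (q : Ω) : x • A1 q P = A1 q P := by
  ext c
  rw [Set.mem_smul_set_iff_inv_smul_mem]
  constructor
  · rintro ⟨y, hy, hc⟩
    refine ⟨x * y, P.mul_mem hx hy, ?_⟩
    rw [mul_smul, ← hc, smul_inv_smul]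
  · rintro ⟨y, hy, rfl⟩
    exact ⟨x⁻¹ * y, P.mul_mem (P.inv_mem hx) hy, by rw [mul_smul]⟩

theorem conj_smul_A1 (g : G) {y : G} (hy : y ∈ P) (q : Ω) :
    (g * y * g⁻¹) • (g • A1 q P) = g • A1 q P := by
  rw [smul_smul, inv_mul_cancel_right, mul_smul, smul_A1 hy]

theorem D_smul_A1 (h : Hyp Adj p0 p1 p2 P D n) {q : G} (hq : q ∈ D) :
    q • A1 p1 P = A1 p1 P := by
  have hsub : ∀ q ∈ D, q • A1 p1 P ⊆ A1 p1 P := by
    rintro q hq _ ⟨_, ⟨x, hx, rfl⟩, rfl⟩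
    refine ⟨q * x * q⁻¹, h.DP q hq x hx, ?_⟩
    show q • x • p1 = (q * x * q⁻¹) • p1
    rw [smul_smul]
    have : q * x = (q * x * q⁻¹) * q := by group
    conv_lhs => rw [this, mul_smul, h.D1 q hq]
  apply le_antisymm (hsub q hq)
  have := hsub q⁻¹ (D.inv_mem hq)
  intro c hc
  rw [Set.mem_smul_set_iff_inv_smul_mem]
  exact this ⟨c, hc, rfl⟩

theorem exists_ne_one [Finite G] (h : Hyp Adj p0 p1 p2 P D n) : ∃ y ∈ P, y ≠ 1 := by
  by_contra hcon
  push Not at hcon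
  have : P = ⊥ := by
    rw [Subgroup.eq_bot_iff_forall]; exact hcon
  have h9 := h.Pcard
  rw [this, Subgroup.card_bot] at h9
  omega

theorem case_one [Finite G] [Finite Ω] [IsPretransitive G Ω] (h : Hyp Adj p0 p1 p2 P D n)
    (hstab : Nat.card (stabilizer G p0) = 144)
    (h1 : ∀ y ∈ P, y ≠ 1 → Adj p1 (y • p1)) (h2 : ∀ y ∈ P, y ≠ 1 → ¬ Adj p1 (y • p2)) :
    ∃ K : Subgroup G, Nat.card K = 720 := by
  classical
  have c11 : ∀ a ∈ A1 p1 P, ∀ a' ∈ A1 p1 P, a ≠ a' → Adj a a' := by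
    rintro _ ⟨x, hx, rfl⟩ _ ⟨y, hy, rfl⟩ hne
    rw [h.adj11 x y]
    apply h1 _ (P.mul_mem (P.inv_mem hx) hy)
    intro h3
    apply hne
    rw [inv_mul_eq_one.mp h3]
  have m12 : ∀ x ∈ P, ∀ y ∈ P, Adj (x • p1) (y • p2) → x = y := by
    intro x hx y hy hadj
    by_contra hxy
    rw [h.adj12] at hadj
    exact h2 _ (P.mul_mem (P.inv_mem hx) hy) (fun e => hxy (inv_mul_eq_one.mp e)) hadj
  have mA : ∀ a ∈ A1 p1 P, ∀ b ∈ A1 p2 P, ∀ b' ∈ A1 p2 P, Adj a b → Adj a b' → b = b' := by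
    rintro _ ⟨x, hx, rfl⟩ _ ⟨y, hy, rfl⟩ _ ⟨y', hy', rfl⟩ e1 e2
    rw [← m12 x hx y hy e1, ← m12 x hx y' hy' e2]
  have mB : ∀ b ∈ A1 p2 P, ∀ a ∈ A1 p1 P, ∀ a' ∈ A1 p1 P, Adj a b → Adj a' b → a = a' := by
    rintro _ ⟨y, hy, rfl⟩ _ ⟨x, hx, rfl⟩ _ ⟨x', hx', rfl⟩ e1 e2
    rw [m12 x hx y hy e1, m12 x' hx' y hy e2]
  -- transport to `p1`
  obtain ⟨g0, hg0⟩ := exists_smul_eq G p0 p1
  have hnb1 : nb Adj p1 = g0 • A1 p1 P ∪ g0 • A1 p2 P := by
    have h3 := h.nb_smul g0 p0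
    rw [hg0] at h3
    rw [h3, h.nb_p0, Set.smul_set_union]
  have mS : ∀ a ∈ g0 • A1 p1 P, ∀ b ∈ g0 • A1 p2 P, ∀ b' ∈ g0 • A1 p2 P,
      Adj a b → Adj a b' → b = b' := by
    rintro _ ⟨a, ha, rfl⟩ _ ⟨b, hb, rfl⟩ _ ⟨b', hb', rfl⟩ e1 e2
    simp only at e1 e2 ⊢
    rw [h.inv_iff] at e1 e2
    rw [mA a ha b hb b' hb' e1 e2]
  have mT : ∀ b ∈ g0 • A1 p2 P, ∀ a ∈ g0 • A1 p1 P, ∀ a' ∈ g0 • A1 p1 P,
      Adj a b → Adj a' b → a = a' := by
    rintro _ ⟨b, hb, rfl⟩ _ ⟨a, ha, rfl⟩ _ ⟨a', ha', rfl⟩ e1 e2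
    simp only at e1 e2 ⊢
    rw [h.inv_iff] at e1 e2
    rw [mB b hb a ha a' ha' e1 e2]
  -- the clique `X`
  set X : Set Ω := insert p0 (A1 p1 P) with hX
  have hp0A : p0 ∉ A1 p1 P := fun hmem => h.irr p0 (h.A1_sub_nb hmem)
  have hp0B : p0 ∉ A1 p2 P := fun hmem => h.irr p0 (h.A2_sub_nb hmem)
  have hXcard : X.ncard = 10 := by
    rw [hX, Set.ncard_insert_of_notMem hp0A (finite_A1 _), h.ncard_A1]
  have hXfin : X.Finite := Set.finite_of_ncard_ne_zero (by rw [hXcard]; norm_num)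
  have hXcl : ∀ u ∈ X, ∀ w ∈ X, u ≠ w → Adj u w := by
    intro u hu w hw huw
    rcases hu with rfl | hu
    · rcases hw with rfl | hw
      · exact absurd rfl huw
      · exact h.A1_sub_nb hw
    · rcases hw with rfl | hw
      · exact h.symm _ _ (h.A1_sub_nb hu)
      · exact c11 u hu w hw huw
  have hp1X : p1 ∈ X := Set.mem_insert_of_mem _ (mem_A1_self p1)
  set Y : Set Ω := X \ {p1} with hY
  have hYcard : Y.ncard = 9 := by
    rw [hY, Set.ncard_sdiff_singleton_of_mem hp1X, hXcard]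
  have hYfin : Y.Finite := hXfin.subset Set.sdiff_subset
  have hYnb : Y ⊆ g0 • A1 p1 P ∪ g0 • A1 p2 P := by
    rw [← hnb1]
    intro u hu
    exact hXcl p1 hp1X u hu.1 (Ne.symm hu.2)
  have hYcl : ∀ u ∈ Y, ∀ w ∈ Y, u ≠ w → Adj u w := fun u hu w hw => hXcl u hu.1 w hw.1
  have hside := h.clique_side _ _ Y hYnb hYcl (by omega) mS mT
  obtain ⟨q, hq12, hYZ⟩ : ∃ q, (q = p1 ∨ q = p2) ∧ Y = g0 • A1 q P := by
    rcases hside with hs | hs
    · refine ⟨p1, Or.inl rfl, Set.eq_of_subset_of_ncard_le hs ?_ ((finite_A1 _).smul_set)⟩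
      rw [Set.ncard_smul_set, h.ncard_A1, hYcard]
    · refine ⟨p2, Or.inr rfl, Set.eq_of_subset_of_ncard_le hs ?_ ((finite_A1 _).smul_set)⟩
      rw [Set.ncard_smul_set, h.ncard_A2, hYcard]
  have hXZ : X = insert p1 (g0 • A1 q P) := by
    rw [← hYZ, hY, Set.insert_sdiff_singleton, Set.insert_eq_of_mem hp1X]
  -- the stabiliser of `X`
  let K : Subgroup G := stabilizer G X
  have hPK : ∀ x ∈ P, x ∈ K := by
    intro x hx
    show x • X = X
    rw [hX, Set.smul_set_insert, h.P0 x hx, smul_A1 hx]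
  have hP'K : ∀ y ∈ P, g0 * y * g0⁻¹ ∈ K := by
    intro y hy
    show (g0 * y * g0⁻¹) • X = X
    rw [hXZ, Set.smul_set_insert, conj_smul_A1 g0 hy]
    congr 1
    rw [← hg0, smul_smul, inv_mul_cancel_right, mul_smul, h.P0 y hy]
  have hDK : ∀ d ∈ D, d ∈ K := by
    intro d hd
    show d • X = X
    rw [hX, Set.smul_set_insert, h.D0 d hd, h.D_smul_A1 hd]
  have hnK : n ∉ K := by
    intro hn
    have h3 : n • X = X := hn
    rw [hX, Set.smul_set_insert, h.n0, ← h.A2_eq] at h3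
    have h4 : p2 ∈ insert p0 (A1 p1 P) := by
      rw [← h3]; exact Set.mem_insert_of_mem _ (mem_A1_self p2)
    rcases h4 with h4 | h4
    · exact hp0B (h4 ▸ mem_A1_self p2)
    · exact Set.disjoint_left.mp h.disjoint_A h4 (mem_A1_self p2)
  have hKX : ∀ k ∈ K, k • p0 ∈ X := by
    intro k hk
    have h3 : k • X = X := hk
    rw [← h3]
    exact Set.smul_mem_smul_set (Set.mem_insert _ _)
  -- transitivity on `X`
  have horb : ∀ v ∈ X, ∃ k ∈ K, k • p0 = v := by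
    -- first an element moving `p0` into `A`
    obtain ⟨x1, hx1, k0, hk0, hk0x⟩ : ∃ x1 ∈ P, ∃ k0 ∈ K, k0 • p0 = x1 • p1 := by
      have hp0Y : p0 ∈ Y := ⟨Set.mem_insert _ _, fun e => hp0A (e ▸ mem_A1_self p1)⟩
      rw [hYZ] at hp0Y
      obtain ⟨_, ⟨x0, hx0, rfl⟩, hx0'⟩ := hp0Y
      obtain ⟨y, hy, hy1⟩ := h.exists_ne_one
      have hk0 := hP'K y hy
      have h3 : (g0 * y * g0⁻¹) • p0 = g0 • (y * x0) • q := by
        have h4 : g0 • x0 • q = p0 := hx0'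
        rw [← h4, smul_smul, smul_smul, smul_smul]
        congr 1
        group
      have h4 : (g0 * y * g0⁻¹) • p0 ∈ Y := by
        rw [hYZ, h3]
        exact Set.smul_mem_smul_set ⟨y * x0, P.mul_mem hy hx0, rfl⟩
      have h5 : (g0 * y * g0⁻¹) • p0 ≠ p0 := by
        intro e
        rw [h3] at e
        have h6 : g0 • x0 • q = p0 := hx0'
        rw [← h6] at e
        have h7 := smul_left_cancel g0 e
        -- `(y * x0) • q = x0 • q`
        have h8 : y • (x0 • q) = x0 • q := by rw [← mul_smul]; exact h7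
        -- `x0 • q` is `x0 • p1` or `x0 • p2`; freeness
        have hfree : ∀ z ∈ P, z • (x0 • q) = x0 • q → z = 1 := by
          intro z hz hzq
          have h9 : (x0⁻¹ * z * x0) • q = q := by
            rw [mul_smul, mul_smul, hzq, inv_smul_smul]
          have h10 : x0⁻¹ * z * x0 ∈ P := P.mul_mem (P.mul_mem (P.inv_mem hx0) hz) hx0
          have h11 : x0⁻¹ * z * x0 = 1 := by
            rcases hq12 with rfl | rfl
            · exact h.free _ h10 h9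
            · exact h.free2 h10 h9
          have : z = x0 * (x0⁻¹ * z * x0) * x0⁻¹ := by group
          rw [this, h11]; group
        exact hy1 (hfree y hy h8)
      have h6 : (g0 * y * g0⁻¹) • p0 ∈ A1 p1 P := by
        rcases h4.1 with h7 | h7
        · exact absurd h7 h5
        · exact h7
      obtain ⟨x1, hx1, hx1'⟩ := h6
      exact ⟨x1, hx1, _, hk0, hx1'⟩
    intro v hv
    rcases hv with rfl | ⟨x, hx, rfl⟩
    · exact ⟨1, K.one_mem, one_smul _ _⟩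
    · refine ⟨x * x1⁻¹ * k0, K.mul_mem (K.mul_mem (hPK x hx) (K.inv_mem (hPK x1 hx1))) hk0, ?_⟩
      rw [mul_smul, hk0x, mul_smul, inv_smul_smul]
  -- the orbit of `p0` under `K` is `X`
  have horbit : orbit K p0 = X := by
    ext v
    constructor
    · rintro ⟨k, rfl⟩
      exact hKX k k.2
    · intro hv
      obtain ⟨k, hk, rfl⟩ := horb v hv
      exact ⟨⟨k, hk⟩, rfl⟩
  -- orbit-stabiliser
  have hcount : Nat.card (orbit K p0) * Nat.card (stabilizer K p0) = Nat.card K := by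
    rw [← Nat.card_prod]
    exact Nat.card_congr (orbitProdStabilizerEquivGroup K p0)
  have horbcard : Nat.card (orbit K p0) = 10 := by
    rw [Nat.card_coe_set_eq, horbit, hXcard]
  -- the stabiliser of `p0` in `K`
  let H0 : Subgroup G := K ⊓ stabilizer G p0
  let e : stabilizer K p0 ≃ H0 :=
    { toFun := fun k => ⟨((k : K) : G), ⟨(k : K).2, k.2⟩⟩
      invFun := fun g => ⟨⟨(g : G), g.2.1⟩, g.2.2⟩
      left_inv := fun _ => rfl
      right_inv := fun _ => rfl }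
  have hH0 : Nat.card (stabilizer K p0) = Nat.card H0 := Nat.card_congr e
  have hPH0 : P ≤ H0 := fun x hx => ⟨hPK x hx, h.P0 x hx⟩
  have hDH0 : D ≤ H0 := fun d hd => ⟨hDK d hd, h.D0 d hd⟩
  have hH0S : H0 ≤ stabilizer G p0 := inf_le_right
  have d9 : 9 ∣ Nat.card H0 := h.Pcard ▸ Subgroup.card_dvd_of_le hPH0
  have d8 : 8 ∣ Nat.card H0 := h.Dcard ▸ Subgroup.card_dvd_of_le hDH0
  have d144 : Nat.card H0 ∣ 144 := hstab ▸ Subgroup.card_dvd_of_le hH0S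
  have hne144 : Nat.card H0 ≠ 144 := by
    intro e144
    have : H0 = stabilizer G p0 :=
      Subgroup.eq_of_le_of_card_ge hH0S (by rw [e144, hstab])
    have hn : n ∈ H0 := by rw [this]; exact h.n0
    exact hnK hn.1
  have h72 : Nat.card H0 = 72 := by
    have d72 : 72 ∣ Nat.card H0 :=
      Nat.Coprime.mul_dvd_of_dvd_of_dvd (by norm_num : Nat.Coprime 9 8) d9 d8
    obtain ⟨k, hk⟩ := d72
    obtain ⟨m, hm⟩ := d144
    have hk0 : k ≠ 0 := by
      rintro rfl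
      rw [hk] at hm
      omega
    have : k * m = 2 := by
      rw [hk] at hm
      nlinarith
    have hk2 : k ≤ 2 := by
      by_contra hlt
      push Not at hlt
      have : m = 0 := by nlinarith
      subst this
      omega
    interval_cases k
    · omega
    · omega
    · omega
  refine ⟨K, ?_⟩
  rw [← hcount, horbcard, hH0, h72]

end Hyp

/-- **Abstract clique lemma.**  `G` acts transitively on `55` points carrying an invariant graph;
the stabiliser of `p0` has order `144`; `P` (order 9) and `D` (order 8) fix `p0`, `D` also fixes the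
adjacent points `p1`, `p2`, normalises `P` and acts freely on `P \ 1`; `n` fixes `p0`, normalises `P`
and maps `p1` to `p2`; the neighbours of `p0` are the `18` points `x • p1`, `x • p2` (`x ∈ P`);
`p0` and `p1` have a common neighbour other than `p2`.  Then `G` has a subgroup of order `720`. -/
theorem clique_lemma {G Ω : Type*} [Group G] [Finite G] [MulAction G Ω] [Finite Ω]
    [MulAction.IsPretransitive G Ω] (hΩ : Nat.card Ω = 55)
    (Adj : Ω → Ω → Prop) (hirr : ∀ a, ¬ Adj a a) (hsymm : ∀ a b, Adj a b → Adj b a)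
    (hinv : ∀ (g : G) (a b : Ω), Adj a b → Adj (g • a) (g • b))
    (p0 p1 p2 : Ω) (P D : Subgroup G) (n : G)
    (hstab : Nat.card (MulAction.stabilizer G p0) = 144)
    (hPcard : Nat.card P = 9) (hDcard : Nat.card D = 8)
    (hP0 : ∀ x ∈ P, x • p0 = p0)
    (hD0 : ∀ q ∈ D, q • p0 = p0) (hD1 : ∀ q ∈ D, q • p1 = p1) (hD2 : ∀ q ∈ D, q • p2 = p2)
    (hDP : ∀ q ∈ D, ∀ x ∈ P, q * x * q⁻¹ ∈ P)
    (hDfree : ∀ q ∈ D, ∀ x ∈ P, x ≠ 1 → q * x * q⁻¹ = x → q = 1)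
    (hn0 : n • p0 = p0) (hn1 : n • p1 = p2)
    (hnP : ∀ x, x ∈ P ↔ n * x * n⁻¹ ∈ P)
    (hnbr : ∀ c, Adj p0 c ↔ ∃ x ∈ P, c = x • p1 ∨ c = x • p2)
    (hfree : ∀ x ∈ P, x • p1 = p1 → x = 1)
    (hne : ∀ x ∈ P, x • p1 ≠ p2)
    (h12 : Adj p1 p2)
    (hc : ∃ c, Adj p0 c ∧ Adj p1 c ∧ c ≠ p2) :
    ∃ K : Subgroup G, Nat.card K = 720 := by
  classical
  have h : Hyp Adj p0 p1 p2 P D n :=
    ⟨hirr, hsymm, hinv, hPcard, hDcard, hP0, hD0, hD1, hD2, hDP, hDfree, hn0, hn1, hnP, hnbr,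
      hfree, hne, h12⟩
  by_cases ha1 : ∃ x ∈ P, x ≠ 1 ∧ Adj p1 (x • p1)
  · have h1 := h.a1_all ha1
    by_cases ha2 : ∃ x ∈ P, x ≠ 1 ∧ Adj p1 (x • p2)
    · exact (h.case_both hΩ h1 (h.a2_all ha2)).elim
    · push Not at ha2
      exact h.case_one hstab h1 ha2
  · have ha2 : ∃ x ∈ P, x ≠ 1 ∧ Adj p1 (x • p2) := by
      rcases h.a1_or_a2 hc with h3 | h3
      · exact absurd h3 ha1
      · exact h3
    push Not at ha1
    exact (h.case_two hΩ ha1 (h.a2_all ha2)).elim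

/-- The same, with the index: if moreover `Nat.card G = 7920`, the subgroup has index `11`. -/
theorem clique_lemma_index {G Ω : Type*} [Group G] [Finite G] [MulAction G Ω] [Finite Ω]
    [MulAction.IsPretransitive G Ω] (hG : Nat.card G = 7920) (hΩ : Nat.card Ω = 55)
    (Adj : Ω → Ω → Prop) (hirr : ∀ a, ¬ Adj a a) (hsymm : ∀ a b, Adj a b → Adj b a)
    (hinv : ∀ (g : G) (a b : Ω), Adj a b → Adj (g • a) (g • b))
    (p0 p1 p2 : Ω) (P D : Subgroup G) (n : G)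
    (hstab : Nat.card (MulAction.stabilizer G p0) = 144)
    (hPcard : Nat.card P = 9) (hDcard : Nat.card D = 8)
    (hP0 : ∀ x ∈ P, x • p0 = p0)
    (hD0 : ∀ q ∈ D, q • p0 = p0) (hD1 : ∀ q ∈ D, q • p1 = p1) (hD2 : ∀ q ∈ D, q • p2 = p2)
    (hDP : ∀ q ∈ D, ∀ x ∈ P, q * x * q⁻¹ ∈ P)
    (hDfree : ∀ q ∈ D, ∀ x ∈ P, x ≠ 1 → q * x * q⁻¹ = x → q = 1)
    (hn0 : n • p0 = p0) (hn1 : n • p1 = p2)
    (hnP : ∀ x, x ∈ P ↔ n * x * n⁻¹ ∈ P)
    (hnbr : ∀ c, Adj p0 c ↔ ∃ x ∈ P, c = x • p1 ∨ c = x • p2)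
    (hfree : ∀ x ∈ P, x • p1 = p1 → x = 1)
    (hne : ∀ x ∈ P, x • p1 ≠ p2)
    (h12 : Adj p1 p2)
    (hc : ∃ c, Adj p0 c ∧ Adj p1 c ∧ c ≠ p2) :
    ∃ K : Subgroup G, K.index = 11 := by
  obtain ⟨K, hK⟩ := clique_lemma hΩ Adj hirr hsymm hinv p0 p1 p2 P D n hstab hPcard hDcard hP0
    hD0 hD1 hD2 hDP hDfree hn0 hn1 hnP hnbr hfree hne h12 hc
  refine ⟨K, ?_⟩
  have := K.card_mul_index
  rw [hK, hG] at this
  omega

end Cfsg.Agent.Lib.Helper89_M11U_GL
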