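import Mathlib
import Cfsg.Agent.Lib.Helper56_PGDefs

/-!
S4085 package INV (helper89, for helper56): invariance of `Tw`, `cls`, `Dom`, `Lo`, `PhiOdd`, `PhiTwo` under a
relation-preserving bijection.
-/

namespace Cfsg.Agent.Lib.Helper89_PG_INV
open Cfsg.Agent.Lib.Helper56_PGDefs

section INV
variable {V : Type*} {W : Type*} (e : V ≃ W) (R : V → V → Prop) (R' : W → W → Prop)
  (h : ∀ x y, R x y ↔ R' (e x) (e y))
include h

theorem tw_congr (x y : V) : Tw R x y ↔ Tw R' (e x) (e y) := by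
  constructor
  · intro hxy w
    have h1 := hxy (e.symm w)
    rw [h x (e.symm w), h y (e.symm w), e.apply_symm_apply] at h1
    exact h1
  · intro hxy z
    rw [h x z, h y z]
    exact hxy (e z)

theorem cls_congr (x : V) : cls R x = cls R' (e x) := by
  unfold cls
  exact Nat.card_congr (e.subtypeEquiv (fun y => tw_congr e R R' h x y))

theorem dom_congr (x : V) : Dom R x ↔ Dom R' (e x) := by
  constructor
  · intro hx w
    have h1 := hx (e.symm w)
    rw [h x (e.symm w), e.apply_symm_apply] at h1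
    exact h1
  · intro hx z
    rw [h x z]
    exact hx (e z)

theorem lo_congr (x y : V) : y ∈ Lo R x ↔ e y ∈ Lo R' (e x) := by
  unfold Lo
  change (R x y ∧ cls R y < cls R x) ↔ (R' (e x) (e y) ∧ cls R' (e y) < cls R' (e x))
  rw [h x y, cls_congr e R R' h y, cls_congr e R R' h x]

theorem card_lo_congr (x : V) : Nat.card (Lo R x) = Nat.card (Lo R' (e x)) :=
  Nat.card_congr (e.subtypeEquiv (fun y => lo_congr e R R' h x y))

/-- forward direction of `phiOdd_congr` -/
theorem phiOdd_forward (N : ℕ) (hN : PhiOdd R N) : PhiOdd R' N := by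
  obtain ⟨x, ⟨a, ha, b, hb, hab⟩, hx⟩ := hN
  refine ⟨e x, ⟨e a, (lo_congr e R R' h x a).mp ha, e b, (lo_congr e R R' h x b).mp hb, ?_⟩, ?_⟩
  · rw [← h a b]
    exact hab
  · rw [← cls_congr e R R' h x, ← card_lo_congr e R R' h x]
    exact hx

/-- forward direction of `phiTwo_congr` -/
theorem phiTwo_forward (q : ℕ) (hq : PhiTwo R q) : PhiTwo R' q := by
  obtain ⟨x, t, y, h1, h2, h3, h4, h5, h6, h7, h8⟩ := hq
  refine ⟨e x, e t, e y, ?_, ?_, ?_, ?_, ?_, ?_, ?_, ?_⟩
  · rw [← dom_congr e R R' h t]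
    exact h1
  · rw [← cls_congr e R R' h t]
    exact h2
  · rw [← h t x]
    exact h3
  · rw [← cls_congr e R R' h x]
    exact h4
  · rw [← card_lo_congr e R R' h x]
    exact h5
  · rw [← h x y]
    exact h6
  · rw [← h y t]
    exact h7
  · rw [← cls_congr e R R' h y]
    exact h8

theorem phiOdd_congr (N : ℕ) : PhiOdd R N ↔ PhiOdd R' N := by
  have h' : ∀ x y, R' x y ↔ R (e.symm x) (e.symm y) := fun x y => by
    rw [h, e.apply_symm_apply, e.apply_symm_apply]
  exact ⟨phiOdd_forward e R R' h N, phiOdd_forward e.symm R' R h' N⟩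

theorem phiTwo_congr (q : ℕ) : PhiTwo R q ↔ PhiTwo R' q := by
  have h' : ∀ x y, R' x y ↔ R (e.symm x) (e.symm y) := fun x y => by
    rw [h, e.apply_symm_apply, e.apply_symm_apply]
  exact ⟨phiTwo_forward e R R' h q, phiTwo_forward e.symm R' R h' q⟩
end INV

end Cfsg.Agent.Lib.Helper89_PG_INV
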