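import Mathlib
import Cfsg.Prelude.Def_QuasithinSetup
import Cfsg.Agent.Lib.Helper49_CharP
import Cfsg.Agent.Lib.Helper49_CharP4
import Cfsg.Agent.Lib.Helper23_CharP
import Cfsg.Agent.Lib.Helper47_SubAPI
import Cfsg.Agent.Lib.Helper47_WeaklyClosed
import Cfsg.Agent.Lib.Helper48_PMinimal2
import Cfsg.Agent.Lib.Helper2_Coprime
import Cfsg.Agent.Lib.Helper22_FitLocal2
import Cfsg.Agent.S1850

/-!
# Faithful members of `ℒ(G, T)` (helper89)

Tools for Aschbacher-Smith style statements on `𝒳_f`: for a subgroup `Y = O^2(Y)` subnormal in `H`,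
`V(Y) = [Ω₁(Z(O_2(Y))), Y] ≠ 1` iff some element of odd order of `Y` moves `Ω₁(Z(O_2(H)))`.
-/

set_option autoImplicit false
open Cfsg

namespace Cfsg.Agent.Lib.Helper89_QTFaithful

open Cfsg.Agent.Lib.Helper49_CharP Cfsg.Agent.Lib.Helper47_SubAPI
open scoped commutatorElement

variable {G : Type*} [Group G]

/-- membership in `Ω₁(Z(R))` -/
theorem mem_omegaOne_center_iff (R : Subgroup G) (x : G) :
    x ∈ Cfsg.omegaOne 2 (R ⊓ Subgroup.centralizer (R : Set G)) ↔
      x ∈ R ∧ x ∈ Subgroup.centralizer (R : Set G) ∧ x ^ 2 = 1 := by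
  constructor
  · intro hx
    unfold Cfsg.omegaOne at hx
    induction hx using Subgroup.closure_induction with
    | mem y hy => exact ⟨hy.1.1, hy.1.2, hy.2⟩
    | one => exact ⟨one_mem _, one_mem _, one_pow 2⟩
    | mul a b _ _ ha hb =>
      refine ⟨mul_mem ha.1 hb.1, mul_mem ha.2.1 hb.2.1, ?_⟩
      have hc : Commute a b := (Subgroup.mem_centralizer_iff.mp hb.2.1) a ha.1
      rw [hc.mul_pow, ha.2.2, hb.2.2, one_mul]
    | inv a _ ha => exact ⟨inv_mem ha.1, inv_mem ha.2.1, by rw [inv_pow, ha.2.2, inv_one]⟩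
  · rintro ⟨h1, h2, h3⟩
    exact Subgroup.subset_closure ⟨⟨h1, h2⟩, h3⟩

/-- induction along a subnormal chain, stated in the ambient group -/
theorem subnormal_induction {H : Subgroup G} (C : Subgroup G → Prop) (hH : C H)
    (hstep : ∀ S S' : Subgroup G, S ≤ S' → S' ≤ H → S' ≤ Subgroup.normalizer (S : Set G) →
      C S' → C S)
    {K : Subgroup G} (hKH : K ≤ H) (hsub : (K.subgroupOf H).IsSubnormal) : C K := by
  have key : ∀ S : Subgroup ↥H, S.IsSubnormal → C (S.map H.subtype) := by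
    intro S hS
    induction hS with
    | top => rwa [← MonoidHom.range_eq_map, Subgroup.range_subtype]
    | step S K' hle hK' hN ih =>
      refine hstep _ _ (Subgroup.map_mono hle) (Subgroup.map_subtype_le _) ?_ ih
      have h1 : K' ≤ Subgroup.normalizer (S : Set ↥H) :=
        (Subgroup.normal_subgroupOf_iff_le_normalizer hle).mp hN
      exact (Subgroup.map_mono h1).trans (Subgroup.le_normalizer_map _)
  have := key _ hsub
  rwa [Subgroup.map_subgroupOf_eq_of_le hKH] at this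

/-- `O_p` of a subnormal subgroup lies in `O_p` of the group -/
theorem pCoreOf_le_of_subnormal {p : ℕ} {K H : Subgroup G} (hKH : K ≤ H)
    (hsub : (K.subgroupOf H).IsSubnormal) : Cfsg.pCoreOf p K ≤ Cfsg.pCoreOf p H := by
  refine subnormal_induction (fun S => Cfsg.pCoreOf p S ≤ Cfsg.pCoreOf p H) le_rfl ?_ hKH hsub
  intro S S' hle _ hn ih
  refine le_trans ?_ ih
  exact le_pCoreOf ((pCoreOf_le S).trans hle)
    (hn.trans (Cfsg.Agent.S1850.normalizer_le_normalizer_pCoreOf S)) (isPGroup_pCoreOf S)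

/-- an element `s * d` of odd order with `d` a `2`-element normalizing `S ∋ s` lies in `S` -/
theorem mem_of_odd_of_mul {S : Subgroup G} {s d : G} (hs : s ∈ S)
    (hd : d ∈ Subgroup.normalizer (S : Set G)) (hd2 : ∃ k, orderOf d = 2 ^ k)
    (hodd : Odd (orderOf (s * d))) : s * d ∈ S := by
  set c := d⁻¹ * s * d with hc
  have hcS : c ∈ S := (Subgroup.mem_normalizer_iff''.mp hd s).mp hs
  have hx : s * d = d * c := by rw [hc]; group
  set n := orderOf (s * d) with hn
  have h1 := mul_pow_mul_inv_mem hd hcS n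
  rw [← hx, hn, pow_orderOf_eq_one, one_mul] at h1
  have h2 : d ^ n ∈ S := by simpa using S.inv_mem h1
  obtain ⟨k, hk⟩ := hd2
  have hcop : n.Coprime (orderOf d) := by
    rw [hk]
    exact Nat.Coprime.pow_right k (Nat.coprime_two_right.mpr hodd)
  obtain ⟨m, hm⟩ := exists_pow_eq_self_of_coprime hcop
  have h3 : d ∈ S := by rw [← hm]; exact S.pow_mem h2 m
  exact S.mul_mem hs h3

/-- odd order elements of `K O_2(H)` lie in `K`, for `K` subnormal in `H` -/
theorem mem_of_mem_sup_pCoreOf_of_odd {K H : Subgroup G} (hKH : K ≤ H)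
    (hsub : (K.subgroupOf H).IsSubnormal) :
    ∀ x ∈ K ⊔ Cfsg.pCoreOf 2 H, Odd (orderOf x) → x ∈ K := by
  have hp2 : Fact (Nat.Prime 2) := ⟨Nat.prime_two⟩
  refine subnormal_induction
    (fun S => ∀ x ∈ S ⊔ Cfsg.pCoreOf 2 H, Odd (orderOf x) → x ∈ S) ?_ ?_ hKH hsub
  · intro x hx _
    rwa [sup_eq_left.mpr (pCoreOf_le H)] at hx
  · intro S S' hle hS'H hn ih x hx hodd
    have hxS' : x ∈ S' := ih x (sup_le_sup_right hle _ hx) hodd
    have hSP : S ≤ Subgroup.normalizer ((Cfsg.pCoreOf 2 H : Subgroup G) : Set G) :=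
      (hle.trans hS'H).trans (le_normalizer_pCoreOf H)
    have hx' : x ∈ ((S ⊔ Cfsg.pCoreOf 2 H : Subgroup G) : Set G) := hx
    rw [Subgroup.coe_mul_of_left_le_normalizer_right S _ hSP] at hx'
    obtain ⟨s, hs, d, hd, rfl⟩ := Set.mem_mul.mp hx'
    have hdS' : d ∈ S' := by
      have : d = s⁻¹ * (s * d) := by group
      rw [this]; exact mul_mem (inv_mem (hle hs)) hxS'
    exact mem_of_odd_of_mul hs (hn hdS') (orderOf_eq_pow_of_mem (isPGroup_pCoreOf H) hd) hodd

/-- `O_2(H)` normalizes every subnormal subgroup generated by its elements of odd order -/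
theorem pCoreOf_le_normalizer_of_subnormal {K H : Subgroup G} (hKH : K ≤ H)
    (hsub : (K.subgroupOf H).IsSubnormal) (hgen : Cfsg.oddGenerated K = K) :
    Cfsg.pCoreOf 2 H ≤ Subgroup.normalizer (K : Set G) := by
  have key : ∀ p ∈ Cfsg.pCoreOf 2 H, ∀ y ∈ K, p * y * p⁻¹ ∈ K := by
    intro p hp y hy
    rw [← hgen] at hy
    unfold Cfsg.oddGenerated at hy
    induction hy using Subgroup.closure_induction with
    | mem z hz =>
      apply mem_of_mem_sup_pCoreOf_of_odd hKH hsub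
      · exact mul_mem (mul_mem (Subgroup.mem_sup_right hp) (Subgroup.mem_sup_left hz.1))
          (inv_mem (Subgroup.mem_sup_right hp))
      · have : orderOf (p * z * p⁻¹) = orderOf z := by
          have := orderOf_injective (MulAut.conj p).toMonoidHom (MulAut.conj p).injective z
          simpa [MulAut.conj_apply] using this
        rw [this]; exact hz.2
    | one => simp
    | mul a b _ _ ha hb =>
      have : p * (a * b) * p⁻¹ = (p * a * p⁻¹) * (p * b * p⁻¹) := by group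
      rw [this]; exact mul_mem ha hb
    | inv a _ ha =>
      have : p * a⁻¹ * p⁻¹ = (p * a * p⁻¹)⁻¹ := by group
      rw [this]; exact inv_mem ha
  intro p hp
  rw [Subgroup.mem_normalizer_iff]
  intro y
  constructor
  · exact key p hp y
  · intro h
    have := key p⁻¹ (inv_mem hp) _ h
    simpa [mul_assoc] using this

/-- `Ω₁(Z(R))` is normalized by the normalizer of `R` (elementwise) -/
theorem conj_mem_omegaOne_center {R : Subgroup G} {g u : G}
    (hg : g ∈ Subgroup.normalizer (R : Set G))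
    (hu : u ∈ Cfsg.omegaOne 2 (R ⊓ Subgroup.centralizer (R : Set G))) :
    g * u * g⁻¹ ∈ Cfsg.omegaOne 2 (R ⊓ Subgroup.centralizer (R : Set G)) := by
  rw [mem_omegaOne_center_iff] at hu ⊢
  obtain ⟨h1, h2, h3⟩ := hu
  refine ⟨(Subgroup.mem_normalizer_iff.mp hg u).mp h1, ?_, ?_⟩
  · rw [Subgroup.mem_centralizer_iff]
    intro r hr
    have hr' : g⁻¹ * r * g ∈ R := (Subgroup.mem_normalizer_iff''.mp hg r).mp hr
    have := (Subgroup.mem_centralizer_iff.mp h2) _ hr'
    calc r * (g * u * g⁻¹) = g * ((g⁻¹ * r * g) * u) * g⁻¹ := by group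
      _ = g * (u * (g⁻¹ * r * g)) * g⁻¹ := by rw [this]
      _ = g * u * g⁻¹ * r := by group
  · rw [conj_pow, h3]; group

theorem normalizer_le_normalizer_omegaOne_center (R : Subgroup G) :
    Subgroup.normalizer (R : Set G) ≤
      Subgroup.normalizer
        ((Cfsg.omegaOne 2 (R ⊓ Subgroup.centralizer (R : Set G)) : Subgroup G) : Set G) := by
  intro g hg
  rw [Subgroup.mem_normalizer_iff]
  intro u
  constructor
  · exact conj_mem_omegaOne_center hg
  · intro h
    have := conj_mem_omegaOne_center (inv_mem hg) h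
    simpa [mul_assoc] using this

/-- the first half: a `2'`-element of `Y` moving `Ω₁(Z(O_2(H)))` forces `V(Y) ≠ 1` -/
theorem moduleV_ne_bot_of_not_commute {Y H : Subgroup G} (hYH : Y ≤ H)
    (hPY : Cfsg.pCoreOf 2 H ≤ Subgroup.normalizer (Y : Set G))
    (hQP : Cfsg.pCoreTwoOf Y ≤ Cfsg.pCoreOf 2 H)
    {x w : G} (hx : x ∈ Y) (hodd : Odd (orderOf x))
    (hw : w ∈ Cfsg.omegaOne 2 (Cfsg.pCoreOf 2 H ⊓ Subgroup.centralizer (Cfsg.pCoreOf 2 H : Set G)))
    (hxw : ¬ Commute x w) : Cfsg.moduleV Y ≠ ⊥ := by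
  have hp2 : Fact (Nat.Prime 2) := ⟨Nat.prime_two⟩
  intro hV
  unfold Cfsg.moduleV at hV
  rw [Subgroup.commutator_eq_bot_iff_le_centralizer] at hV
  set P := Cfsg.pCoreOf 2 H with hP
  have hHP : H ≤ Subgroup.normalizer (P : Set G) := le_normalizer_pCoreOf H
  have hxP : x ∈ Subgroup.normalizer (P : Set G) := hHP (hYH hx)
  have hw' := conj_mem_omegaOne_center hxP hw
  rw [mem_omegaOne_center_iff] at hw hw'
  obtain ⟨w1, w2, w3⟩ := hw
  obtain ⟨v1, v2, v3⟩ := hw'
  set c := w⁻¹ * (x * w * x⁻¹) with hc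
  have hcP : c ∈ P := mul_mem (inv_mem w1) v1
  have hcC : c ∈ Subgroup.centralizer (P : Set G) := mul_mem (inv_mem w2) v2
  have hcomm : Commute w⁻¹ (x * w * x⁻¹) := by
    have := (Subgroup.mem_centralizer_iff.mp v2) _ (inv_mem w1)
    exact this
  have hc2 : c ^ 2 = 1 := by
    rw [hc, hcomm.mul_pow, inv_pow, w3, v3]; simp
  have hcY : c ∈ Y := by
    have h1 : w⁻¹ * x * w ∈ Y := (Subgroup.mem_normalizer_iff''.mp (hPY w1) x).mp hx
    have : c = (w⁻¹ * x * w) * x⁻¹ := by rw [hc]; group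
    rw [this]; exact mul_mem h1 (inv_mem hx)
  have hPYQ : P ⊓ Y ≤ Cfsg.pCoreTwoOf Y := by
    refine le_pCoreOf (p := 2) inf_le_right ?_ ((isPGroup_pCoreOf H).to_le inf_le_left)
    refine le_trans ?_ (normalizer_inf_le_normalizer_inf P Y)
    exact le_inf (hYH.trans hHP) Subgroup.le_normalizer
  have hcQ : c ∈ Cfsg.pCoreTwoOf Y := hPYQ ⟨hcP, hcY⟩
  have hcCQ : c ∈ Subgroup.centralizer (Cfsg.pCoreTwoOf Y : Set G) :=
    Subgroup.centralizer_le (SetLike.coe_subset_coe.mpr hQP) hcC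
  have hcU : c ∈ Cfsg.omegaOne 2 (Cfsg.pCoreTwoOf Y ⊓
      Subgroup.centralizer (Cfsg.pCoreTwoOf Y : Set G)) := by
    rw [mem_omegaOne_center_iff]; exact ⟨hcQ, hcCQ, hc2⟩
  have hxc : Commute x c := (Subgroup.mem_centralizer_iff.mp (hV hcU)) x hx
  have hco : ∃ k, orderOf c = 2 ^ k := by
    have hd : orderOf c ∣ 2 := orderOf_dvd_of_pow_eq_one hc2
    rcases (Nat.dvd_prime Nat.prime_two).mp hd with h | h
    · exact ⟨0, by simpa using h⟩
    · exact ⟨1, by simpa using h⟩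
  apply hxw
  refine commute_of_coprime_of_conj_eq_mul (p := 2) x w c (Nat.coprime_two_right.mpr hodd) ?_ hxc hco
  rw [hc]; group

/-- the second half: if `V(Y) ≠ 1` then some `2'`-element of `Y` moves `Ω₁(Z(O_2(H)))` -/
theorem exists_not_commute_of_moduleV_ne_bot [Finite G] {Y H : Subgroup G} (hYH : Y ≤ H)
    (hPY : Cfsg.pCoreOf 2 H ≤ Subgroup.normalizer (Y : Set G))
    (hQP : Cfsg.pCoreTwoOf Y ≤ Cfsg.pCoreOf 2 H)
    (hgen : Cfsg.oddGenerated Y = Y) (hV : Cfsg.moduleV Y ≠ ⊥) :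
    ∃ x ∈ Y, Odd (orderOf x) ∧
      ∃ w ∈ Cfsg.omegaOne 2 (Cfsg.pCoreOf 2 H ⊓ Subgroup.centralizer (Cfsg.pCoreOf 2 H : Set G)),
        ¬ Commute x w := by
  have hp2 : Fact (Nat.Prime 2) := ⟨Nat.prime_two⟩
  set P := Cfsg.pCoreOf 2 H with hP
  set Q := Cfsg.pCoreTwoOf Y with hQ
  set U := Cfsg.omegaOne 2 (Q ⊓ Subgroup.centralizer (Q : Set G)) with hU
  have hHP : H ≤ Subgroup.normalizer (P : Set G) := le_normalizer_pCoreOf H
  have hYQ : Y ≤ Subgroup.normalizer (Q : Set G) := le_normalizer_pCoreOf (p := 2) Y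
  have hQU : Subgroup.normalizer (Q : Set G) ≤ Subgroup.normalizer (U : Set G) :=
    normalizer_le_normalizer_omegaOne_center Q
  have hUQ : U ≤ Q := fun u hu => ((mem_omegaOne_center_iff Q u).mp hu).1
  have hUcomm : ∀ a ∈ U, ∀ b ∈ U, a * b = b * a := by
    intro a ha b hb
    exact (Subgroup.mem_centralizer_iff.mp ((mem_omegaOne_center_iff Q b).mp hb).2.1) a (hUQ ha)
  have hUc : IsMulCommutative ↥U := ⟨⟨fun a b => Subtype.ext (hUcomm a a.2 b b.2)⟩⟩
  -- step 1: an element of odd order not centralizing `U`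
  obtain ⟨x, hxY, hxodd, hxU⟩ : ∃ x ∈ Y, Odd (orderOf x) ∧ x ∉ Subgroup.centralizer (U : Set G) := by
    by_contra hcon
    push Not at hcon
    apply hV
    show ⁅U, Y⁆ = ⊥
    rw [Subgroup.commutator_comm, Subgroup.commutator_eq_bot_iff_le_centralizer]
    rw [← hgen]
    unfold Cfsg.oddGenerated
    rw [Subgroup.closure_le]
    intro y hy
    exact hcon y hy.1 hy.2
  set X := Subgroup.zpowers x with hX
  have hXY : X ≤ Y := by rw [hX, Subgroup.zpowers_le]; exact hxY
  have hXU : X ≤ Subgroup.normalizer (U : Set G) := hXY.trans (hYQ.trans hQU)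
  have hUp : IsPGroup 2 ↥U := (isPGroup_pCoreOf (p := 2) Y).to_le hUQ
  have hcop : (Nat.card X).Coprime (Nat.card U) := by
    obtain ⟨k, hk⟩ := IsPGroup.iff_card.mp hUp
    rw [hk, hX, Nat.card_zpowers]
    exact Nat.Coprime.pow_right k (Nat.coprime_two_right.mpr hxodd)
  set A := ⁅U, X⁆ with hA
  have hAU : A ≤ U := Cfsg.Agent.Lib.Helper2_Coprime.commutator_le_of_le_normalizer U X hXU
  have hAne : A ≠ ⊥ := by
    intro h
    rw [hA, Subgroup.commutator_eq_bot_iff_le_centralizer] at h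
    apply hxU
    rw [Subgroup.mem_centralizer_iff]
    intro u hu
    have := (Subgroup.mem_centralizer_iff.mp (h hu)) x (Subgroup.mem_zpowers x)
    exact this.symm
  -- step 2: `P` normalizes `A`
  have hPU : P ≤ Subgroup.normalizer (U : Set G) :=
    hPY.trans ((Cfsg.Agent.S1850.normalizer_le_normalizer_pCoreOf (p := 2) Y).trans hQU)
  have hPYQ : P ⊓ Y ≤ Q := by
    refine le_pCoreOf (p := 2) inf_le_right ?_ ((isPGroup_pCoreOf H).to_le inf_le_left)
    refine le_trans ?_ (normalizer_inf_le_normalizer_inf P Y)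
    exact le_inf (hYH.trans hHP) Subgroup.le_normalizer
  have key : ∀ p ∈ P, ∀ a ∈ A, p * a * p⁻¹ ∈ A := by
    intro p hp a ha
    rw [hA, Subgroup.commutator_def] at ha
    induction ha using Subgroup.closure_induction with
    | mem g hg =>
      obtain ⟨u, hu, y, hy, rfl⟩ := hg
      have hyY : y ∈ Y := hXY hy
      set u' := p * u * p⁻¹ with hu'
      have hu'U : u' ∈ U := (Subgroup.mem_normalizer_iff.mp (hPU hp) u).mp hu
      set q := y⁻¹ * (p * y * p⁻¹) with hq
      have hqY : q ∈ Y :=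
        mul_mem (inv_mem hyY) ((Subgroup.mem_normalizer_iff.mp (hPY hp) y).mp hyY)
      have hqP : q ∈ P := by
        have h1 : y⁻¹ * p * y ∈ P :=
          (Subgroup.mem_normalizer_iff''.mp (hHP (hYH hyY)) p).mp hp
        have : q = (y⁻¹ * p * y) * p⁻¹ := by rw [hq]; group
        rw [this]; exact mul_mem h1 (inv_mem hp)
      have hqQ : q ∈ Q := hPYQ ⟨hqP, hqY⟩
      have hqu : q * u'⁻¹ = u'⁻¹ * q := by
        have h1 := (Subgroup.mem_centralizer_iff.mp
          ((mem_omegaOne_center_iff Q _).mp (inv_mem hu'U)).2.1) q hqQ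
        exact h1
      have hconj : p * ⁅u, y⁆ * p⁻¹ = ⁅u', y⁆ := by
        have h1 : p * ⁅u, y⁆ * p⁻¹ = u' * (y * q) * u'⁻¹ * (y * q)⁻¹ := by
          rw [commutatorElement_def, hu', hq]; group
        rw [h1, commutatorElement_def]
        calc u' * (y * q) * u'⁻¹ * (y * q)⁻¹ = u' * y * (q * u'⁻¹) * q⁻¹ * y⁻¹ := by group
          _ = u' * y * (u'⁻¹ * q) * q⁻¹ * y⁻¹ := by rw [hqu]
          _ = u' * y * u'⁻¹ * y⁻¹ := by group
      rw [hconj]
      exact Subgroup.commutator_mem_commutator hu'U hy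
    | one => simp
    | mul a b _ _ ha hb =>
      have : p * (a * b) * p⁻¹ = (p * a * p⁻¹) * (p * b * p⁻¹) := by group
      rw [this]; exact mul_mem ha hb
    | inv a _ ha =>
      have : p * a⁻¹ * p⁻¹ = (p * a * p⁻¹)⁻¹ := by group
      rw [this]; exact inv_mem ha
  have hAP : A ≤ P := hAU.trans (hUQ.trans hQP)
  have hAn : (A.subgroupOf P).Normal := by
    refine ⟨fun a ha n => ?_⟩
    rw [Subgroup.mem_subgroupOf] at ha ⊢
    exact key n n.2 a ha
  have hAne' : A.subgroupOf P ≠ ⊥ := by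
    intro h
    apply hAne
    rw [Subgroup.subgroupOf_eq_bot] at h
    rw [eq_bot_iff, ← h.eq_bot]  
    exact le_inf le_rfl hAP
  have hPp : IsPGroup 2 ↥P := isPGroup_pCoreOf H
  have hnil : Group.IsNilpotent ↥P := hPp.isNilpotent
  obtain ⟨z, hzA, hzc, hz1⟩ :=
    Cfsg.Agent.Lib.Helper22_FitLocal.exists_mem_center_of_normal_nilpotent (A.subgroupOf P) hAne'
  rw [Subgroup.mem_subgroupOf] at hzA
  refine ⟨x, hxY, hxodd, (z : G), ?_, ?_⟩
  · rw [mem_omegaOne_center_iff]
    refine ⟨z.2, ?_, ((mem_omegaOne_center_iff Q _).mp (hAU hzA)).2.2⟩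
    rw [Subgroup.mem_centralizer_iff]
    intro r hr
    have := Subgroup.mem_center_iff.mp hzc ⟨r, hr⟩
    exact congrArg Subtype.val this
  · intro hcomm
    have hzX : (z : G) ∈ Subgroup.centralizer (X : Set G) := by
      rw [Subgroup.mem_centralizer_iff]
      intro h hh
      obtain ⟨k, rfl⟩ := Subgroup.mem_zpowers_iff.mp hh
      exact (hcomm.zpow_left k).eq
    have hbot := Cfsg.Agent.Lib.Helper2_Coprime.commutator_inf_centralizer_eq_bot U X hXU hcop
    have hmem : (z : G) ∈ ⁅U, X⁆ ⊓ (U ⊓ Subgroup.centralizer (X : Set G)) :=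
      ⟨hzA, hAU hzA, hzX⟩
    rw [hbot, Subgroup.mem_bot] at hmem
    exact hz1 (Subtype.ext hmem)

/-- a finite perfect subgroup is generated by its elements of odd order -/
theorem oddGenerated_eq_of_perfect [Finite G] {K : Subgroup G} (hK : ⁅K, K⁆ = K) :
    Cfsg.oddGenerated K = K := by
  have hp2 : Fact (Nat.Prime 2) := ⟨Nat.prime_two⟩
  have hperf : Group.IsPerfect ↥K := Subgroup.isPerfect_iff.mpr hK
  have h1 := Cfsg.Agent.Lib.Helper47_WeaklyClosed.map_subtype_pResidual (p := 2) K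
  rw [Cfsg.Agent.Lib.Helper48_PMinimal2.pResidual_eq_top_of_isPerfect, ← MonoidHom.range_eq_map,
    Subgroup.range_subtype] at h1
  unfold Cfsg.oddGenerated
  conv_rhs => rw [h1]
  congr 1
  ext x
  simp only [Set.mem_ofPred_eq, Nat.coprime_two_right]

/-- data extracted from membership in `ℒ(G, T)` -/
theorem calL_data [Finite G] (hQ : Cfsg.IsQTKE G) (T : Sylow 2 G) {K : Subgroup G}
    (hK : K ∈ Cfsg.calL (T : Subgroup G)) :
    K ≠ ⊥ ∧ ⁅K, K⁆ = K ∧ (K.subgroupOf (K ⊔ (T : Subgroup G))).IsSubnormal ∧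
      IsCharP 2 ↥(K ⊔ (T : Subgroup G)) := by
  have hp2 : Fact (Nat.Prime 2) := ⟨Nat.prime_two⟩
  obtain ⟨⟨hne, hperf, hsub, _⟩, _, hcore⟩ := hK
  set H := K ⊔ (T : Subgroup G) with hH
  have hKH : K ≤ H := le_sup_left
  have hTH : (T : Subgroup G) ≤ H := le_sup_right
  refine ⟨?_, ?_, hsub, ?_⟩
  · intro h
    apply hne
    rw [h]
    exact Subgroup.bot_subgroupOf _   -- (⊥ : Subgroup G).subgroupOf H = ⊥
  · have := congrArg (Subgroup.map H.subtype) hperf
    rwa [Subgroup.map_commutator, Subgroup.map_subgroupOf_eq_of_le hKH] at this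
  · set U := Cfsg.pCoreOf 2 H with hU
    have hUne : U ≠ ⊥ := by
      intro h
      apply hcore
      exact (Subgroup.map_eq_bot_iff_of_injective _ H.subtype_injective).mp h
    set N := Subgroup.normalizer (U : Set G) with hN
    have hHN : H ≤ N := le_normalizer_pCoreOf H
    have hTN : (T : Subgroup G) ≤ N := hTH.trans hHN
    have hNc : IsCharP 2 ↥N := hQ.2.2 N ⟨U, isPGroup_pCoreOf H, hUne, rfl⟩ ⟨T, hTN⟩
    have hUN : U ≤ N := Subgroup.le_normalizer
    have hUH : U ≤ H := pCoreOf_le H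
    have h1 : IsCharP 2 ↥(H.subgroupOf N) := by
      refine Cfsg.Agent.Lib.Helper23_CharP.IsCharP.of_local hNc (U.subgroupOf N) (H.subgroupOf N)
        (isPGroup_pCoreOf H).comap_subtype ?_ ?_ ?_
      · intro x hx
        rw [Subgroup.mem_subgroupOf] at hx ⊢
        exact hUH hx
      · have hn : (U.subgroupOf N).Normal := Subgroup.normal_in_normalizer
        rw [Subgroup.normalizer_eq_top_iff.mpr hn]
        exact le_top
      · refine inf_le_left.trans ?_
        have h2 : pCore 2 ↥N ≤ ((T.subtype hTN : Sylow 2 ↥N) : Subgroup ↥N) := pCore_le_sylow _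
        rw [Sylow.coe_subtype] at h2
        intro x hx
        have := h2 hx
        rw [Subgroup.mem_subgroupOf] at this ⊢
        exact hTH this
    exact h1.of_mulEquiv (Subgroup.subgroupOfEquivOfLe hHN)

/-- members of `ℒ(G, T)` above a member of `ℒ_f(G, T)` are in `ℒ_f(G, T)` -/
theorem mem_calLf_of_le [Finite G] (hQ : Cfsg.IsQTKE G) (T : Sylow 2 G) {L K : Subgroup G}
    (hL : L ∈ Cfsg.calLf (T : Subgroup G)) (hK : K ∈ Cfsg.calL (T : Subgroup G)) (hLK : L ≤ K) :
    K ∈ Cfsg.calLf (T : Subgroup G) := by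
  have hp2 : Fact (Nat.Prime 2) := ⟨Nat.prime_two⟩
  obtain ⟨hLcal, ⟨_, hLgen, _⟩, hLV⟩ := hL
  obtain ⟨hKne, hKperf, hKsub, hKchar⟩ := calL_data hQ T hK
  obtain ⟨_, _, hLsub, _⟩ := calL_data hQ T hLcal
  set HK := K ⊔ (T : Subgroup G) with hHK
  set HL := L ⊔ (T : Subgroup G) with hHL
  have hKH : K ≤ HK := le_sup_left
  have hLH : L ≤ HL := le_sup_left
  have hHLK : HL ≤ HK := sup_le (hLK.trans le_sup_left) le_sup_right
  have hKgen : Cfsg.oddGenerated K = K := oddGenerated_eq_of_perfect hKperf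
  have hKc : IsCharP 2 ↥K :=
    (IsCharP.of_isSubnormal hKchar (K.subgroupOf HK) hKsub).of_mulEquiv
      (Subgroup.subgroupOfEquivOfLe hKH)
  refine ⟨hK, ⟨hKne, hKgen, ?_⟩, ?_⟩
  · show generalizedFittingSubgroup ↥K = pCore 2 ↥K
    exact IsCharP.generalizedFitting_eq hKc
  · have hPKn : Cfsg.pCoreOf 2 HK ≤ Subgroup.normalizer (K : Set G) :=
      pCoreOf_le_normalizer_of_subnormal hKH hKsub hKgen
    have hQK : Cfsg.pCoreTwoOf K ≤ Cfsg.pCoreOf 2 HK := pCoreOf_le_of_subnormal (p := 2) hKH hKsub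
    have hPLn : Cfsg.pCoreOf 2 HL ≤ Subgroup.normalizer (L : Set G) :=
      pCoreOf_le_normalizer_of_subnormal hLH hLsub hLgen
    have hQL : Cfsg.pCoreTwoOf L ≤ Cfsg.pCoreOf 2 HL := pCoreOf_le_of_subnormal (p := 2) hLH hLsub
    obtain ⟨x, hxL, hxodd, w, hw, hxw⟩ :=
      exists_not_commute_of_moduleV_ne_bot hLH hPLn hQL hLgen hLV
    have hPKL : Cfsg.pCoreOf 2 HK ≤ Cfsg.pCoreOf 2 HL := by
      refine le_pCoreOf ?_ (hHLK.trans (le_normalizer_pCoreOf HK)) (isPGroup_pCoreOf HK)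
      exact (pCoreOf_le_sylow T (le_sup_right : (T : Subgroup G) ≤ HK)).trans le_sup_right
    have hw' : w ∈ Cfsg.omegaOne 2
        (Cfsg.pCoreOf 2 HK ⊓ Subgroup.centralizer (Cfsg.pCoreOf 2 HK : Set G)) := by
      rw [mem_omegaOne_center_iff] at hw ⊢
      obtain ⟨w1, w2, w3⟩ := hw
      have hwC : w ∈ Subgroup.centralizer (Cfsg.pCoreOf 2 HK : Set G) :=
        Subgroup.centralizer_le (SetLike.coe_subset_coe.mpr hPKL) w2
      refine ⟨?_, hwC, w3⟩
      exact (charP_iff HK).mp hKchar ⟨hHLK (pCoreOf_le HL w1), hwC⟩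
    exact moduleV_ne_bot_of_not_commute hKH hPKn hQK (hLK hxL) hxodd hw' hxw

end Cfsg.Agent.Lib.Helper89_QTFaithful
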