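import Mathlib
import Cfsg.Agent.Lib.Helper36_Rank3
import Cfsg.Agent.Lib.Helper27_StSUDefs
import Cfsg.Agent.Lib.Helper27_StSUBasic
import Cfsg.Agent.Lib.Helper30_StSU_MEML
import Cfsg.Agent.Lib.Helper55_StSU_MEMX
import Cfsg.Agent.Lib.Helper44_StSU_ISO
import Cfsg.Agent.Lib.Helper94_HermBridge
import Cfsg.Agent.Lib.Helper95_UQ_FLD
import Cfsg.Agent.Lib.Helper5_SUOrder

set_option autoImplicit false
set_option linter.unusedSectionVars false
set_option linter.unusedVariables false

/-!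
S1788 market (helper36), package PSU: `PSU_n(q)`, characteristic 2, `n ≥ 4` or (`n = 3`, `q ≥ 8`),
has 2-rank at least 3.  In the antidiagonal model `SUJ n σ` (helper27): for `n ≥ 4` the elements
`1 + t E_{0,n-2} - σ(t) E_{1,n-1} + c E_{0,n-1}` (`t ∈ F`, `c + σ c = 0`) form an elementary abelian
group of order `q³`; for `n = 3` the elements `1 + c E_{0,2}` one of order `q`.  They meet the
centre trivially.  Transport to `Cfsg.SU n F q` along helper44's isomorphism.  (helper89)
-/

namespace Cfsg.Agent.Lib.Helper89_R3_PSU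

open Cfsg Cfsg.Agent.Lib.Helper36_Rank3 Matrix Cfsg.Agent.Lib.Helper27_StSUDefs
  Cfsg.Agent.Lib.Helper27_StSUBasic Cfsg.Agent.Lib.Helper94_Herm Cfsg.Agent.Lib.Helper95_UQ_FLD

variable {n : ℕ} {F : Type*} [Field F] (σ : F →+* F)

/-- the matrix of the root element `xL` -/
theorem xL_val' (hσ : ∀ x, σ (σ x) = x) (i k : Fin n) (h1 : i ≠ k) (h2 : i ≠ Fin.rev k)
    (h3 : i ≠ Fin.rev i) (h4 : k ≠ Fin.rev k) (t : F) : (xL σ i k t).1.1 = xLm σ i k t :=
  mkE_val σ (Cfsg.Agent.Lib.Helper30_StSU_MEML.xLm_mem σ hσ i k h1 h2 h3 h4 t).1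
    (Cfsg.Agent.Lib.Helper30_StSU_MEML.xLm_mem σ hσ i k h1 h2 h3 h4 t).2

/-- the matrix of the root element `xX` -/
theorem xX_val' (i : Fin n) (h : i ≠ Fin.rev i) (t : F) (ht : σ t = -t) :
    (xX σ i t).1.1 = xXm i t :=
  mkE_val σ (Cfsg.Agent.Lib.Helper55_StSU_MEMX.xXm_mem σ i h t ht).1
    (Cfsg.Agent.Lib.Helper55_StSU_MEMX.xXm_mem σ i h t ht).2

/-- a central element commutes with the nilpotent part of any element of the group -/
theorem comm_of_center {g : ↥(SUJ n σ)} (hg : g ∈ Subgroup.center ↥(SUJ n σ)) (h : ↥(SUJ n σ))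
    {K : Matrix (Fin n) (Fin n) F} (hK : h.1.1 = 1 + K) : g.1.1 * K = K * g.1.1 := by
  have hc := Subgroup.mem_center_iff.mp hg h
  have hc' : h.1.1 * g.1.1 = g.1.1 * h.1.1 := congrArg (fun x : ↥(SUJ n σ) => x.1.1) hc
  rw [hK, Matrix.add_mul, Matrix.mul_add, Matrix.one_mul, Matrix.mul_one] at hc'
  exact (add_left_cancel hc').symm

/-- the entry `(i, kk)` of a central element vanishes (`kk = rev i ≠ i`): test against `xX kk 1` -/
theorem center_entry_X (h2 : (2 : F) = 0) {g : ↥(SUJ n σ)}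
    (hg : g ∈ Subgroup.center ↥(SUJ n σ)) (i : Fin n) (hi : i ≠ Fin.rev i) :
    g.1.1 i (Fin.rev i) = 0 := by
  have h1 : σ (1 : F) = -1 := by
    rw [map_one]
    linear_combination h2
  have hkk : Fin.rev i ≠ Fin.rev (Fin.rev i) := by rw [Fin.rev_rev]; exact hi.symm
  have hv := xX_val' σ (Fin.rev i) hkk 1 h1
  unfold xXm at hv
  rw [Fin.rev_rev] at hv
  have hc := comm_of_center σ hg _ hv
  have h3 := congrFun (congrFun hc i) i
  rw [Matrix.mul_single_apply_same, Matrix.single_mul_apply_of_ne (h := hi), mul_one] at h3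
  exact h3

/-- the entry `(i, k)` of a central element vanishes: test against `xL k i 1` -/
theorem center_entry_L (hσ : ∀ x, σ (σ x) = x) {g : ↥(SUJ n σ)}
    (hg : g ∈ Subgroup.center ↥(SUJ n σ)) (i k : Fin n) (h1 : i ≠ k) (h2 : i ≠ Fin.rev k)
    (h3 : i ≠ Fin.rev i) (h4 : k ≠ Fin.rev k) : g.1.1 i k = 0 := by
  have h2' : k ≠ Fin.rev i := fun e => h2 (by rw [e, Fin.rev_rev])
  have hv := xL_val' σ hσ k i h1.symm h2' h4 h3 1
  unfold xLm at hv
  rw [add_sub_assoc] at hv
  have hc := comm_of_center σ hg _ hv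
  have h5 := congrFun (congrFun hc i) i
  rw [Matrix.mul_sub, Matrix.sub_mul, Matrix.sub_apply, Matrix.sub_apply,
    Matrix.mul_single_apply_same, Matrix.mul_single_apply_of_ne (hbj := h2),
    Matrix.single_mul_apply_of_ne (h := h1), Matrix.single_mul_apply_of_ne (h := h3), mul_one,
    sub_zero, sub_zero] at h5
  exact h5

/-! ### `n ≥ 4` -/

section Big

variable (i k : Fin n)

/-- the nilpotent part -/
def nM (t c : F) : Matrix (Fin n) (Fin n) F :=
  single i k t - single (Fin.rev k) (Fin.rev i) (σ t) + single i (Fin.rev i) c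

theorem nM_add (t t' c c' : F) : nM σ i k (t + t') (c + c') = nM σ i k t c + nM σ i k t' c' := by
  unfold nM
  rw [map_add, single_add, single_add, single_add]
  abel

theorem nM_mul_nM (h1 : i ≠ k) (h3 : i ≠ Fin.rev i) (h4 : k ≠ Fin.rev k)
    (t t' c c' : F) : nM σ i k t c * nM σ i k t' c' = 0 := by
  have h5 : Fin.rev i ≠ Fin.rev k := fun e => h1 (Fin.rev_injective e)
  unfold nM
  simp only [Matrix.add_mul, Matrix.sub_mul, Matrix.mul_add, Matrix.mul_sub,
    single_mul_single_of_ne _ _ _ _ h1.symm, single_mul_single_of_ne _ _ _ _ h4,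
    single_mul_single_of_ne _ _ _ _ h3.symm, single_mul_single_of_ne _ _ _ _ h5]
  simp

/-- the elements of the elementary abelian group -/
noncomputable def psi (t c : F) : ↥(SUJ n σ) := xL σ i k t * xX σ i c

theorem psi_val (hσ : ∀ x, σ (σ x) = x) (h1 : i ≠ k) (h2 : i ≠ Fin.rev k) (h3 : i ≠ Fin.rev i)
    (h4 : k ≠ Fin.rev k) (t c : F) (hc : σ c = -c) :
    (psi σ i k t c).1.1 = 1 + nM σ i k t c := by
  unfold psi
  rw [mul_val, xL_val' σ hσ i k h1 h2 h3 h4, xX_val' σ i h3 c hc]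
  unfold xLm xXm nM
  simp only [Matrix.add_mul, Matrix.sub_mul, Matrix.mul_add, Matrix.one_mul,
    Matrix.mul_one, single_mul_single_of_ne _ _ _ _ h1.symm,
    single_mul_single_of_ne _ _ _ _ h3.symm]
  abel

theorem psi_add (hσ : ∀ x, σ (σ x) = x) (h1 : i ≠ k) (h2 : i ≠ Fin.rev k) (h3 : i ≠ Fin.rev i)
    (h4 : k ≠ Fin.rev k) (t t' c c' : F) (hc : σ c = -c) (hc' : σ c' = -c') :
    psi σ i k (t + t') (c + c') = psi σ i k t c * psi σ i k t' c' := by
  have hcc : σ (c + c') = -(c + c') := by rw [map_add, hc, hc']; ring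
  apply ext_val
  rw [mul_val, psi_val σ i k hσ h1 h2 h3 h4 _ _ hcc, psi_val σ i k hσ h1 h2 h3 h4 _ _ hc,
    psi_val σ i k hσ h1 h2 h3 h4 _ _ hc', nM_add, Matrix.add_mul, Matrix.mul_add, Matrix.mul_add,
    Matrix.one_mul, Matrix.mul_one, Matrix.one_mul, nM_mul_nM σ i k h1 h3 h4]
  abel

theorem psi_central (hσ : ∀ x, σ (σ x) = x) (h20 : (2 : F) = 0) (h1 : i ≠ k) (h2 : i ≠ Fin.rev k)
    (h3 : i ≠ Fin.rev i) (h4 : k ≠ Fin.rev k) (t c : F) (hc : σ c = -c)
    (hcen : psi σ i k t c ∈ Subgroup.center ↥(SUJ n σ)) : t = 0 ∧ c = 0 := by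
  have h2' : k ≠ Fin.rev i := fun e => h2 (by rw [e, Fin.rev_rev])
  have hL := center_entry_L σ hσ hcen i k h1 h2 h3 h4
  have hX := center_entry_X σ h20 hcen i h3
  rw [psi_val σ i k hσ h1 h2 h3 h4 t c hc] at hL hX
  unfold nM at hL hX
  simp only [Matrix.add_apply, Matrix.sub_apply, Matrix.one_apply, Matrix.single_apply] at hL hX
  constructor
  · simpa [h1, h2, h2', h2.symm, h2'.symm, h3] using hL
  · simpa [h1, h2, h2', h2.symm, h2'.symm, h3] using hX

end Big

/-! ### `n = 3` (any `n` with `i ≠ rev i`): the root subgroup `xX i` -/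

section Small

variable (i : Fin n)

theorem xX_add (h3 : i ≠ Fin.rev i) (c c' : F) (hc : σ c = -c) (hc' : σ c' = -c') :
    xX σ i (c + c') = xX σ i c * xX σ i c' := by
  have hcc : σ (c + c') = -(c + c') := by rw [map_add, hc, hc']; ring
  apply ext_val
  rw [mul_val, xX_val' σ i h3 _ hcc, xX_val' σ i h3 _ hc, xX_val' σ i h3 _ hc']
  unfold xXm
  simp only [Matrix.add_mul, Matrix.mul_add, Matrix.one_mul, Matrix.mul_one,
    single_mul_single_of_ne _ _ _ _ h3.symm, single_add]
  abel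

theorem xX_central (h20 : (2 : F) = 0) (h3 : i ≠ Fin.rev i) (c : F) (hc : σ c = -c)
    (hcen : xX σ i c ∈ Subgroup.center ↥(SUJ n σ)) : c = 0 := by
  have hX := center_entry_X σ h20 hcen i h3
  rw [xX_val' σ i h3 c hc] at hX
  unfold xXm at hX
  simpa [Matrix.add_apply, Matrix.one_apply, Matrix.single_apply, h3] using hX

end Small

/-! ### Transport to `Cfsg.SU` and the quotient -/

theorem prank_of_iso {G H : Type*} [Group G] [Group H] (e : G ≃* H) {V : Type*} [AddCommGroup V]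
    (hV : ∀ v : V, v + v = 0) (hc : 8 ≤ Nat.card V) (ψ : V → G)
    (hmul : ∀ v w, ψ (v + w) = ψ v * ψ w) (hcen : ∀ v, ψ v ∈ Subgroup.center G → v = 0) :
    PRankAtLeast 2 3 (H ⧸ Subgroup.center H) := by
  refine prank_quot_add (Subgroup.center H) hV hc (fun v => e (ψ v)) ?_ ?_
  · intro v w
    rw [hmul, map_mul]
  · intro v hv
    apply hcen
    rw [Subgroup.mem_center_iff] at hv ⊢
    intro g
    apply e.injective
    rw [map_mul, map_mul]
    exact hv (e g)

theorem ker_neg {c : F} (hc : c ∈ (trHom σ).ker) : σ c = -c := by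
  rw [AddMonoidHom.mem_ker, trHom_apply] at hc
  exact eq_neg_of_add_eq_zero_right hc

/-- **PSU**. -/
theorem r3_psu {F : Type*} [Field F] [Fintype F] [CharP F 2] (n q : ℕ) (hF : Fintype.card F = q ^ 2)
    (hn : 3 ≤ n) (h3 : n = 3 → 8 ≤ q) : PRankAtLeast 2 3 (Cfsg.PSU n F q) := by
  classical
  set σ : F →+* F := Cfsg.Agent.Lib.Helper5_SUOrder.powQ hF with hσdef
  have hInv : Invol σ := by
    obtain ⟨τ, hτq, hτ⟩ := Cfsg.Agent.Lib.Helper94_HermBridge.exists_frob hF
    have : τ = σ := RingHom.ext (fun x => by rw [hτq]; rfl)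
    rw [← this]; exact hτ
  have hσ : ∀ x, σ (σ x) = x := hInv.invol
  have h20 : (2 : F) = 0 := CharTwo.two_eq_zero
  have hF' : Nat.card F = q ^ 2 := by rw [Nat.card_eq_fintype_card, hF]
  have hker : Nat.card ↥(trHom σ).ker = q := card_tr_ker hInv hF'
  have hq2 : 2 ≤ q := by
    have h1 : 1 < Fintype.card F := Fintype.one_lt_card
    rw [hF] at h1
    by_contra hlt
    have : q ≤ 1 := by omega
    have : q ^ 2 ≤ 1 ^ 2 := Nat.pow_le_pow_left this 2
    omega
  obtain ⟨e⟩ := Cfsg.Agent.Lib.Helper44_StSU_ISO.exists_iso (n := n) hF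
  have hVker : ∀ v : ↥(trHom σ).ker, v + v = 0 := by
    intro v
    apply Subtype.ext
    rw [AddSubgroup.coe_add]
    exact CharTwo.add_self_eq_zero _
  by_cases hn4 : 4 ≤ n
  · -- the group of order `q³`
    let i : Fin n := ⟨0, by omega⟩
    let k : Fin n := ⟨n - 2, by omega⟩
    have h1 : i ≠ k := by
      intro h
      have := congrArg Fin.val h
      simp only [i, k] at this
      omega
    have h2 : i ≠ Fin.rev k := by
      intro h
      have := congrArg Fin.val h
      simp only [i, k, Fin.val_rev] at this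
      omega
    have h3' : i ≠ Fin.rev i := by
      intro h
      have := congrArg Fin.val h
      simp only [i, Fin.val_rev] at this
      omega
    have h4 : k ≠ Fin.rev k := by
      intro h
      have := congrArg Fin.val h
      simp only [k, Fin.val_rev] at this
      omega
    have hV : ∀ v : F × ↥(trHom σ).ker, v + v = 0 := by
      intro v
      ext
      · exact CharTwo.add_self_eq_zero _
      · have := hVker v.2
        exact congrArg Subtype.val this
    have hc : 8 ≤ Nat.card (F × ↥(trHom σ).ker) := by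
      rw [Nat.card_prod, hF', hker]
      calc 8 = 2 ^ 2 * 2 := by norm_num
        _ ≤ q ^ 2 * q := Nat.mul_le_mul (Nat.pow_le_pow_left hq2 2) hq2
    refine prank_of_iso e hV hc (fun v => psi σ i k v.1 (v.2 : F)) ?_ ?_
    · intro v w
      exact psi_add σ i k hσ h1 h2 h3' h4 _ _ _ _ (ker_neg σ v.2.2) (ker_neg σ w.2.2)
    · intro v hv
      obtain ⟨ht, hc0⟩ := psi_central σ i k hσ h20 h1 h2 h3' h4 _ _ (ker_neg σ v.2.2) hv
      ext
      · exact ht
      · exact hc0
  · -- `n = 3`: the root subgroup of order `q`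
    have hn3 : n = 3 := by omega
    let i : Fin n := ⟨0, by omega⟩
    have h3' : i ≠ Fin.rev i := by
      intro h
      have := congrArg Fin.val h
      simp only [i, Fin.val_rev] at this
      omega
    have hc : 8 ≤ Nat.card ↥(trHom σ).ker := by
      rw [hker]
      exact h3 hn3
    refine prank_of_iso e hVker hc (fun v => xX σ i (v : F)) ?_ ?_
    · intro v w
      exact xX_add σ i h3' _ _ (ker_neg σ v.2) (ker_neg σ w.2)
    · intro v hv
      apply Subtype.ext
      exact xX_central σ i h20 h3' _ (ker_neg σ v.2) hv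

end Cfsg.Agent.Lib.Helper89_R3_PSU
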