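import Mathlib
import Cfsg.Agent.Lib.Helper30_S2316Defs
import Cfsg.Agent.Lib.Helper68_StSp_R2

/-!
S2316 market (architect helper30), package **RADJ**: a permutation commuting with `Sum.swap` that
inverts the adjacent pairs of the roots in `J` inverts every adjacent pair of indices whose gap is
not a cut.  (helper89)
-/

set_option autoImplicit false
set_option linter.unusedSectionVars false
set_option linter.unusedVariables false

namespace Cfsg.Agent.Lib.Helper30_S2316

open Matrix Cfsg Cfsg.Agent.Lib.Helper68_MatGrp Cfsg.Agent.Lib.Helper5_SpPerfect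
  Cfsg.Agent.Lib.Helper68_StSpDefs Cfsg.Agent.Lib.Helper68_StSp Cfsg.Agent.Lib.Helper44_SpUT
  Cfsg.Agent.Lib.Helper68_StAbs Cfsg.Agent.Lib.Helper6_Word Cfsg.Agent.Lib.Helper6_BNPair
  Cfsg.Agent.Lib.Helper81_BNSteinberg Cfsg.Agent.Lib.Helper81_BNIndex Cfsg.Agent.Lib.Helper81_BNBorel

section sp

variable {m : ℕ} {F : Type*} [Field F]

/-- a gap which is not a cut carries a root of `J` -/
theorem h89_exists_root {J : Finset (Fin m)} {g : ℕ} (hc : ¬ IsCut m J g) :
    ∃ j ∈ J, (j : ℕ) = gapRoot m g := by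
  unfold IsCut at hc
  push Not at hc
  exact hc

/-! ## RADJ (M) -/

theorem rev_adj {J : Finset (Fin m)} (τ : Equiv.Perm (Fin m ⊕ Fin m))
    (hsw : ∀ a, τ (Sum.swap a) = Sum.swap (τ a))
    (h1 : ∀ j ∈ J, ∀ h : j.val + 1 < m, ht m (τ (Sum.inl ⟨j.val + 1, h⟩)) < ht m (τ (Sum.inl j)))
    (h2 : ∀ j ∈ J, ¬ j.val + 1 < m → ht m (τ (Sum.inr j)) < ht m (τ (Sum.inl j)))
    {a b : Fin m ⊕ Fin m} (hab : ht m b = ht m a + 1) (hc : ¬ IsCut m J (ht m a)) :
    ht m (τ b) < ht m (τ a) := by
  obtain ⟨j, hj, hjg⟩ := h89_exists_root hc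
  unfold gapRoot at hjg
  rcases a with i | i <;> rcases b with k | k
  · -- `a = e_i`, `b = e_{i+1}`
    simp only [ht_inl] at hab hjg
    have hk := k.2
    have hji : j = i := Fin.ext (by omega)
    subst hji
    have hlt : j.val + 1 < m := by omega
    have hkk : k = ⟨j.val + 1, hlt⟩ := Fin.ext hab
    rw [hkk]
    exact h1 j hj hlt
  · -- `a = e_m`, `b = f_m`
    simp only [ht_inl, ht_inr] at hab hjg
    have hi := i.2
    have hk := k.2
    have hji : j = i := Fin.ext (by omega)
    have hjk : j = k := Fin.ext (by omega)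
    subst hji
    rw [← hjk]
    exact h2 j hj (by omega)
  · -- impossible
    simp only [ht_inl, ht_inr] at hab
    have hi := i.2
    have hk := k.2
    omega
  · -- `a = f_{j+1}`, `b = f_j`
    simp only [ht_inr] at hab hjg
    have hi := i.2
    have hk := k.2
    have hjk : j = k := Fin.ext (by omega)
    subst hjk
    have hlt : j.val + 1 < m := by omega
    have hii : i = ⟨j.val + 1, hlt⟩ := Fin.ext (by simp only; omega)
    rw [hii]
    have h3 := h1 j hj hlt
    have h4 := Cfsg.Agent.Lib.Helper68_StSp_R2.ht_swap_lt h3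
    rw [← hsw, ← hsw] at h4
    exact h4

end sp

end Cfsg.Agent.Lib.Helper30_S2316
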