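import Mathlib
import Cfsg.Agent.Lib.Helper87_S4016Defs

/-!
# S4016 package QUOTC (helper89, for architect helper87)

The conclusion of S4016 (normal `p`-complement or normal Sylow `p`-subgroups) lifts from the
quotient by a normal `p'`-subgroup centralized by a Sylow `p`-subgroup.
-/

set_option autoImplicit false
open Cfsg.Agent.Lib.Helper87_S4016

namespace Cfsg.Agent.Lib.Helper89_S4016_QUOTC

/-- A `p`-element of a subgroup of order prime to `p` is trivial. -/
theorem eq_one_of_pow_card {G : Type*} [Group G] [Finite G] {p : ℕ} [Fact p.Prime]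
    (N : Subgroup G) (hN : ¬ p ∣ Nat.card ↥N) {n : G} (hn : n ∈ N) {k : ℕ}
    (hk : n ^ (p ^ k) = 1) : n = 1 := by
  have h1 : orderOf n ∣ p ^ k := orderOf_dvd_of_pow_eq_one hk
  have h2 : orderOf n ∣ Nat.card ↥N := Subgroup.orderOf_dvd_natCard N hn
  have hcop : Nat.Coprime (p ^ k) (Nat.card ↥N) :=
    Nat.Coprime.pow_left k ((Nat.Prime.coprime_iff_not_dvd Fact.out).2 hN)
  have : orderOf n ∣ 1 := by
    have := Nat.dvd_gcd h1 h2
    rwa [hcop] at this
  exact orderOf_eq_one_iff.1 (Nat.dvd_one.1 this)

/-- **QUOTC** (M, ~150 lines).  The conclusion lifts from the quotient by a normal `p'`-subgroup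
centralized by a Sylow `p`-subgroup. -/
theorem QUOTC {G : Type*} [Group G] [Finite G] {p : ℕ} [Fact p.Prime]
    (N : Subgroup G) [N.Normal] (hN : ¬ p ∣ Nat.card ↥N) (P : Sylow p G)
    (hPN : ∀ y ∈ P, ∀ n ∈ N, y * n = n * y) (h : Concl p (G ⧸ N)) : Concl p G := by
  classical
  have hp : p.Prime := Fact.out
  have hπ : Function.Surjective (QuotientGroup.mk' N) := QuotientGroup.mk'_surjective N
  obtain ⟨k, hk⟩ := IsPGroup.iff_card.1 P.2
  rcases h with ⟨Pb, Kb, hKbn, hcompl⟩ | hnorm
  · -- normal `p`-complement
    left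
    have := hKbn
    set K : Subgroup G := Kb.comap (QuotientGroup.mk' N) with hK
    have hKn : K.Normal := Subgroup.Normal.comap hKbn _
    -- `p ∤ |Kb|`
    have hKb : ¬ p ∣ Nat.card ↥Kb := by
      rw [← hcompl.index_eq_card]
      exact Pb.not_dvd_index
    -- disjointness
    have hdisj : Disjoint K (P : Subgroup G) := by
      rw [Subgroup.disjoint_def]
      intro x hxK hxP
      have hxpow : x ^ (p ^ k) = 1 := by
        have := pow_card_eq_one' (G := ↥(P : Subgroup G)) (x := ⟨x, hxP⟩)
        rw [hk] at this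
        exact congrArg Subtype.val this
      have hx1 : (QuotientGroup.mk' N) x = 1 := by
        apply eq_one_of_pow_card (G := G ⧸ N) Kb hKb hxK (k := k)
        rw [← map_pow, hxpow, map_one]
      have hxN : x ∈ N := (QuotientGroup.eq_one_iff _).1 hx1
      exact eq_one_of_pow_card N hN hxN hxpow
    -- cardinalities
    have hcard : Nat.card ↥K * Nat.card ↥(P : Subgroup G) = Nat.card G := by
      have hidx : K.index = Nat.card ↥(Pb : Subgroup (G ⧸ N)) := by
        rw [hK, Subgroup.index_comap_of_surjective _ hπ]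
        exact hcompl.symm.index_eq_card
      have hG : Nat.card G = Nat.card (G ⧸ N) * Nat.card ↥N :=
        Subgroup.card_eq_card_quotient_mul_card_subgroup N
      have hPb : Nat.card ↥(Pb : Subgroup (G ⧸ N)) = Nat.card ↥(P : Subgroup G) := by
        rw [Sylow.card_eq_multiplicity, Sylow.card_eq_multiplicity, hG,
          Nat.factorization_mul (Nat.card_pos.ne') (Nat.card_pos.ne'), Finsupp.add_apply,
          Nat.factorization_eq_zero_of_not_dvd hN, add_zero]
      rw [← hPb, ← hidx]
      exact Subgroup.card_mul_index K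
    exact ⟨P, K, hKn, Subgroup.isComplement'_of_card_mul_and_disjoint hcard hdisj⟩
  · -- normal Sylow
    right
    have hPbn : ((P.mapSurjective hπ : Sylow p (G ⧸ N)) : Subgroup (G ⧸ N)).Normal :=
      hnorm (P.mapSurjective hπ)
    have hPnormal : (P : Subgroup G).Normal := by
      refine ⟨fun x hx g => ?_⟩
      have h1 : (QuotientGroup.mk' N) (g * x * g⁻¹) ∈
          ((P.mapSurjective hπ : Sylow p (G ⧸ N)) : Subgroup (G ⧸ N)) := by
        rw [map_mul, map_mul, map_inv]
        apply hPbn.conj_mem
        rw [Sylow.coe_mapSurjective]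
        exact Subgroup.mem_map_of_mem _ hx
      rw [Sylow.coe_mapSurjective] at h1
      obtain ⟨y, hy, hyx⟩ := Subgroup.mem_map.1 h1
      -- g x g⁻¹ = y n with n ∈ N
      have hn : y⁻¹ * (g * x * g⁻¹) ∈ N := by
        rw [← QuotientGroup.eq_one_iff, ← QuotientGroup.mk'_apply, map_mul, map_inv, hyx,
          inv_mul_cancel]
      set n := y⁻¹ * (g * x * g⁻¹) with hn_def
      have hxpow : x ^ (p ^ k) = 1 := by
        have := pow_card_eq_one' (G := ↥(P : Subgroup G)) (x := ⟨x, hx⟩)
        rw [hk] at this
        exact congrArg Subtype.val this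
      have hypow : y ^ (p ^ k) = 1 := by
        have := pow_card_eq_one' (G := ↥(P : Subgroup G)) (x := ⟨y, hy⟩)
        rw [hk] at this
        exact congrArg Subtype.val this
      have hcomm : Commute y⁻¹ (g * x * g⁻¹) := by
        -- g x g⁻¹ = y n and y commutes with n
        have hyn : Commute y n := hPN y hy n hn
        have : g * x * g⁻¹ = y * n := by rw [hn_def]; group
        rw [this]
        exact (Commute.mul_right (Commute.refl y) hyn).inv_left
      have hnpow : n ^ (p ^ k) = 1 := by
        rw [hn_def, hcomm.mul_pow, inv_pow, hypow, inv_one, one_mul, conj_pow, hxpow]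
        group
      have hn1 : n = 1 := eq_one_of_pow_card N hN hn hnpow
      have : g * x * g⁻¹ = y := by
        have h2 : g * x * g⁻¹ = y * n := by rw [hn_def]; group
        rw [h2, hn1, mul_one]
      rw [this]
      exact hy
    intro Q
    have : (P : Subgroup G).Normal := hPnormal
    obtain ⟨g, rfl⟩ := MulAction.exists_smul_eq G P Q
    rw [Sylow.smul_eq_of_normal]
    exact hPnormal

end Cfsg.Agent.Lib.Helper89_S4016_QUOTC
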