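import Mathlib
import Cfsg.Agent.Lib.Helper80_S4756Defs
import Cfsg.Agent.Lib.Helper80_CharComplete
import Cfsg.Agent.Lib.Helper79_Linear

/-!
# S4756 package CENTVAN (helper89, for architect helper80)

Second orthogonality at `(g, g)`, split into linear and nonlinear characters:
`∑_{χ nonlinear} ‖χ g‖² + |G : G'| = |C_G(g)|`.
-/

set_option autoImplicit false

namespace Cfsg.Agent.Lib.Helper89_S4756_CENTVAN

open Cfsg.Agent.Lib.Helper80_S4756Defs
open scoped ComplexConjugate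

/-- The key identity. -/
theorem key {G : Type*} [Group G] [Finite G] [Fintype (Cfsg.IrrCharacter G)]
    [DecidablePred (fun χ : Cfsg.IrrCharacter G => (χ : G → ℂ) 1 = 1)] (g : G) :
    ∑ χ ∈ (Finset.univ : Finset (Cfsg.IrrCharacter G)).filter (fun χ : Cfsg.IrrCharacter G => ¬ (χ : G → ℂ) 1 = 1),
        ‖(χ : G → ℂ) g‖ ^ 2 + ((commutator G).index : ℝ) =
      (Nat.card (Subgroup.centralizer ({g} : Set G)) : ℝ) := by
  classical
  have : Fintype G := Fintype.ofFinite G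
  have h := Cfsg.Agent.Lib.Helper80_CharComplete.second_orthogonality_sum g g
  rw [if_pos (IsConj.refl g)] at h
  have hterm : ∀ χ : Cfsg.IrrCharacter G,
      (χ : G → ℂ) g * conj ((χ : G → ℂ) g) = ((‖(χ : G → ℂ) g‖ ^ 2 : ℝ) : ℂ) := by
    intro χ
    rw [Complex.mul_conj']
    push_cast
    rfl
  have hreal : ∑ χ : Cfsg.IrrCharacter G, ‖(χ : G → ℂ) g‖ ^ 2 =
      (Nat.card (Subgroup.centralizer ({g} : Set G)) : ℝ) := by
    have h2 : ((∑ χ : Cfsg.IrrCharacter G, ‖(χ : G → ℂ) g‖ ^ 2 : ℝ) : ℂ) =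
        ((Nat.card (Subgroup.centralizer ({g} : Set G)) : ℝ) : ℂ) := by
      push_cast
      rw [← h]
      apply Finset.sum_congr rfl
      intro χ _
      rw [hterm χ]
      push_cast
      rfl
    exact_mod_cast h2
  rw [← hreal, ← Finset.sum_filter_add_sum_filter_not Finset.univ
    (fun χ : Cfsg.IrrCharacter G => (χ : G → ℂ) 1 = 1), add_comm]
  congr 1
  have hlin : ∀ χ ∈ (Finset.univ : Finset (Cfsg.IrrCharacter G)).filter
      (fun χ : Cfsg.IrrCharacter G => (χ : G → ℂ) 1 = 1), ‖(χ : G → ℂ) g‖ ^ 2 = 1 := by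
    intro χ hχ
    have h1 : (χ : G → ℂ) 1 = 1 := (Finset.mem_filter.1 hχ).2
    rw [Cfsg.Agent.Lib.Helper79_Linear.linear_norm ⟨χ, h1⟩ g]
    norm_num
  rw [Finset.sum_congr rfl hlin, Finset.sum_const, nsmul_eq_mul, mul_one,
    ← Cfsg.Agent.Lib.Helper79_Linear.card_linear, Nat.card_eq_fintype_card, Fintype.card_subtype]

theorem cent {G : Type*} [Group G] [Finite G] (x : G)
    (hv : ∀ χ : Cfsg.IrrCharacter G, (χ : G → ℂ) 1 ≠ 1 → (χ : G → ℂ) x = 0) :
    Nat.card (Subgroup.centralizer ({x} : Set G)) = (commutator G).index := by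
  classical
  have : Fintype (Cfsg.IrrCharacter G) := Fintype.ofFinite _
  have h := key x
  have hz : ∑ χ ∈ (Finset.univ : Finset (Cfsg.IrrCharacter G)).filter
      (fun χ : Cfsg.IrrCharacter G => ¬ (χ : G → ℂ) 1 = 1), ‖(χ : G → ℂ) x‖ ^ 2 = 0 := by
    apply Finset.sum_eq_zero
    intro χ hχ
    rw [hv χ (Finset.mem_filter.1 hχ).2]
    simp
  rw [hz, zero_add] at h
  exact_mod_cast h.symm

theorem vanish {G : Type*} [Group G] [Finite G] (g : G)
    (hc : Nat.card (Subgroup.centralizer ({g} : Set G)) ≤ (commutator G).index)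
    (χ : Cfsg.IrrCharacter G) (hχ : (χ : G → ℂ) 1 ≠ 1) : (χ : G → ℂ) g = 0 := by
  classical
  have : Fintype (Cfsg.IrrCharacter G) := Fintype.ofFinite _
  have h := key g
  have hc' : (Nat.card (Subgroup.centralizer ({g} : Set G)) : ℝ) ≤ ((commutator G).index : ℝ) := by
    exact_mod_cast hc
  have hnn : ∀ ψ ∈ (Finset.univ : Finset (Cfsg.IrrCharacter G)).filter
      (fun χ : Cfsg.IrrCharacter G => ¬ (χ : G → ℂ) 1 = 1), 0 ≤ ‖(ψ : G → ℂ) g‖ ^ 2 := fun ψ _ => sq_nonneg _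
  have hle : ∑ χ ∈ (Finset.univ : Finset (Cfsg.IrrCharacter G)).filter
      (fun χ : Cfsg.IrrCharacter G => ¬ (χ : G → ℂ) 1 = 1), ‖(χ : G → ℂ) g‖ ^ 2 ≤ 0 := by linarith
  have hzero := (Finset.sum_eq_zero_iff_of_nonneg hnn).1
    (le_antisymm hle (Finset.sum_nonneg hnn))
  have := hzero χ (Finset.mem_filter.2 ⟨Finset.mem_univ _, hχ⟩)
  have h0 : ‖(χ : G → ℂ) g‖ = 0 := by
    exact pow_eq_zero_iff (two_ne_zero) |>.1 this
  exact norm_eq_zero.1 h0

end Cfsg.Agent.Lib.Helper89_S4756_CENTVAN
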