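import Mathlib
import Cfsg.Agent.Lib.Helper80_S4756Defs

/-!
# S4756 package PNOT (helper89, for architect helper80)
-/

set_option autoImplicit false

namespace Cfsg.Agent.Lib.Helper89_S4756_PNOT

open Cfsg.Agent.Lib.Helper80_S4756Defs

/-- A nonidentity element of `r`-power order killed by a power of the prime `p` has `r = p`. -/
theorem prime_eq_of_pow {G : Type*} [Group G] {p r c k : ℕ} (hp : p.Prime) (hr : r.Prime) {z : G}
    (hz : z ≠ 1) (hzo : orderOf z = r ^ c) (hk : z ^ (p ^ k) = 1) : r = p := by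
  have hc : c ≠ 0 := by
    rintro rfl
    rw [pow_zero] at hzo
    exact hz (orderOf_eq_one_iff.1 hzo)
  have h1 : r ∣ orderOf z := by
    rw [hzo]; exact dvd_pow_self r hc
  have h2 : orderOf z ∣ p ^ k := orderOf_dvd_of_pow_eq_one hk
  have h3 : r ∣ p := hr.dvd_of_dvd_pow (h1.trans h2)
  exact (Nat.prime_dvd_prime_iff_eq hr hp).1 h3

/-- **PNOT** (S/M). -/
theorem pnot {G : Type*} [Group G] [Finite G] (p : ℕ) [Fact p.Prime] (P : Sylow p G)
    (hPn : (P : Subgroup G).Normal) (x y : G) (hx : x ≠ 1) (hy : y ≠ 1) (hxy : CoprimePP x y) :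
    (x ∉ (P : Subgroup G) ∨ y ∉ (P : Subgroup G)) ∧ x * y ∉ (P : Subgroup G) := by
  have hp : p.Prime := Fact.out
  obtain ⟨p1, q1, a, b, hp1, hq1, hne, hxo, hyo⟩ := hxy
  have hpow : ∀ z ∈ (P : Subgroup G), ∃ k : ℕ, z ^ (p ^ k) = 1 := by
    intro z hz
    obtain ⟨k, hk⟩ := P.2 ⟨z, hz⟩
    exact ⟨k, congrArg Subtype.val hk⟩
  have hnot : ¬ (x ∈ (P : Subgroup G) ∧ y ∈ (P : Subgroup G)) := by
    rintro ⟨hxP, hyP⟩
    obtain ⟨k, hk⟩ := hpow x hxP
    obtain ⟨l, hl⟩ := hpow y hyP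
    have e1 := prime_eq_of_pow hp hp1 hx hxo hk
    have e2 := prime_eq_of_pow hp hq1 hy hyo hl
    exact hne (e1.trans e2.symm)
  refine ⟨by
    by_contra hcon
    push Not at hcon
    exact hnot hcon, ?_⟩
  intro hxyP
  have := hPn
  apply hnot
  have hπ : (QuotientGroup.mk' (P : Subgroup G)) x * (QuotientGroup.mk' (P : Subgroup G)) y = 1 := by
    rw [← map_mul]
    exact (QuotientGroup.eq_one_iff _).2 hxyP
  have hinv : (QuotientGroup.mk' (P : Subgroup G)) x = ((QuotientGroup.mk' (P : Subgroup G)) y)⁻¹ :=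
    eq_inv_of_mul_eq_one_left hπ
  have hcop : Nat.Coprime (p1 ^ a) (q1 ^ b) :=
    Nat.Coprime.pow _ _ ((Nat.coprime_primes hp1 hq1).2 hne)
  have hdx : orderOf ((QuotientGroup.mk' (P : Subgroup G)) x) ∣ p1 ^ a := by
    rw [← hxo]; exact orderOf_map_dvd _ x
  have hdy : orderOf ((QuotientGroup.mk' (P : Subgroup G)) y) ∣ q1 ^ b := by
    rw [← hyo]; exact orderOf_map_dvd _ y
  have hdx' : orderOf ((QuotientGroup.mk' (P : Subgroup G)) x) ∣ q1 ^ b := by
    rw [hinv, orderOf_inv]; exact hdy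
  have hox : orderOf ((QuotientGroup.mk' (P : Subgroup G)) x) = 1 :=
    Nat.eq_one_of_dvd_coprimes hcop hdx hdx'
  have hx1 : (QuotientGroup.mk' (P : Subgroup G)) x = 1 := orderOf_eq_one_iff.1 hox
  have hy1 : (QuotientGroup.mk' (P : Subgroup G)) y = 1 := by
    rw [hx1] at hinv
    exact inv_eq_one.1 hinv.symm
  exact ⟨(QuotientGroup.eq_one_iff _).1 hx1, (QuotientGroup.eq_one_iff _).1 hy1⟩

end Cfsg.Agent.Lib.Helper89_S4756_PNOT
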