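import Mathlib
import Cfsg.Agent.Lib.Helper80_S4756Defs

/-!
# S4756 package PRIME1 (helper89, for architect helper80)
-/

set_option autoImplicit false

namespace Cfsg.Agent.Lib.Helper89_S4756_PRIME1

open Cfsg.Agent.Lib.Helper80_S4756Defs

/-- **PRIME1** (S).  If some `x ≠ 1` with `orderOf x = q ^ a`, `q` prime, has `χ x ≠ 0`: take `p = q`;
for `y ≠ 1` of `r`-power order, `r ≠ q`: `hv x y` and `χ x ≠ 0` give `χ y = 0`.  Otherwise `p = 2`. -/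
theorem prime1 {G : Type*} [Group G] [Finite G] (χ : Cfsg.IrrCharacter G)
    (hv : ∀ x y : G, x ≠ 1 → y ≠ 1 → CoprimePP x y → (χ : G → ℂ) x * (χ : G → ℂ) y = 0) :
    ∃ p : ℕ, p.Prime ∧ VanAway p (χ : G → ℂ) := by
  by_cases h : ∃ (x : G) (q a : ℕ), x ≠ 1 ∧ q.Prime ∧ orderOf x = q ^ a ∧ (χ : G → ℂ) x ≠ 0
  · obtain ⟨x, q, a, hx, hq, hxo, hχx⟩ := h
    refine ⟨q, hq, ?_⟩
    intro y r b hy hr hrq hyo
    have := hv x y hx hy ⟨q, r, a, b, hq, hr, hrq.symm, hxo, hyo⟩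
    exact (mul_eq_zero.1 this).resolve_left hχx
  · refine ⟨2, Nat.prime_two, ?_⟩
    intro y r b hy hr _ hyo
    by_contra hne
    exact h ⟨y, r, b, hy, hr, hyo, hne⟩

end Cfsg.Agent.Lib.Helper89_S4756_PRIME1
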