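import Mathlib

set_option autoImplicit false

namespace Cfsg.Agent.Lib.Helper89_S5982_COMB3

theorem COMB3 (m : ZMod 3 → ℕ) (hsum : ∑ j, m j = 3) (hw : ∑ j : ZMod 3, (m j : ZMod 3) * j = 0)
    (hns : ∀ j, m j ≠ 3) : ∃ c₀ : ZMod 3, ∀ j, m (c₀ - j) = m j := by
  have e3 : ∀ f : ZMod 3 → ℕ, ∑ j, f j = f 0 + f 1 + f 2 := fun f => Fin.sum_univ_three f
  have e3' : ∀ f : ZMod 3 → ZMod 3, ∑ j, f j = f 0 + f 1 + f 2 := fun f => Fin.sum_univ_three f
  rw [e3] at hsum
  rw [e3'] at hw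
  have h0 := hns 0
  have h1 := hns 1
  have h2 := hns 2
  have b0 : m 0 ≤ 3 := by omega
  have b1 : m 1 ≤ 3 := by omega
  have b2 : m 2 ≤ 3 := by omega
  refine ⟨0, ?_⟩
  have key : m 1 = m 2 := by
    generalize m 0 = a at *
    generalize m 1 = b at *
    generalize m 2 = c at *
    interval_cases a <;> interval_cases b <;> interval_cases c <;> first | omega | (exfalso; revert hw; decide)
  intro j
  fin_cases j
  · rfl
  · show m (0 - 1) = m 1
    have : (0 - 1 : ZMod 3) = 2 := by decide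
    rw [this, key]
  · show m (0 - 2) = m 2
    have : (0 - 2 : ZMod 3) = 1 := by decide
    rw [this, key]

end Cfsg.Agent.Lib.Helper89_S5982_COMB3
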