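import Mathlib

set_option autoImplicit false

namespace Cfsg.Agent.Lib.Helper89_S5982_COMB5

set_option maxHeartbeats 4000000 in
theorem nat_core (a b c d e : ℕ) (hsum : a + b + c + d + e = 5)
    (hw : (b + 2 * c + 3 * d + 4 * e) % 5 = 0)
    (ha : a ≠ 5) (hb : b ≠ 5) (hc : c ≠ 5) (hd : d ≠ 5) (he : e ≠ 5) :
    (b = e ∧ c = d) ∨ (a = b ∧ c = e) ∨ (a = c ∧ d = e) ∨ (a = d ∧ b = c) ∨ (a = e ∧ b = d) := by
  have b0 : a ≤ 4 := by omega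
  have b1 : b ≤ 4 := by omega
  have b2 : c ≤ 4 := by omega
  interval_cases a <;> interval_cases b <;> interval_cases c <;> omega

theorem COMB5 (m : ZMod 5 → ℕ) (hsum : ∑ j, m j = 5) (hw : ∑ j : ZMod 5, (m j : ZMod 5) * j = 0)
    (hns : ∀ j, m j ≠ 5) : ∃ c₀ : ZMod 5, ∀ j, m (c₀ - j) = m j := by
  have e5 : ∀ f : ZMod 5 → ℕ, ∑ j, f j = f 0 + f 1 + f 2 + f 3 + f 4 := fun f => Fin.sum_univ_five f
  have e5' : ∀ f : ZMod 5 → ZMod 5, ∑ j, f j = f 0 + f 1 + f 2 + f 3 + f 4 :=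
    fun f => Fin.sum_univ_five f
  rw [e5] at hsum
  rw [e5'] at hw
  have hw' : (m 1 + 2 * m 2 + 3 * m 3 + 4 * m 4) % 5 = 0 := by
    have h : ((m 1 + 2 * m 2 + 3 * m 3 + 4 * m 4 : ℕ) : ZMod 5) = 0 := by
      rw [← hw]; push_cast; ring
    rw [ZMod.natCast_eq_zero_iff] at h
    exact Nat.mod_eq_zero_of_dvd h
  have t : ∀ c₀ : ZMod 5, (m (c₀ - 0) = m 0 ∧ m (c₀ - 1) = m 1 ∧ m (c₀ - 2) = m 2 ∧
      m (c₀ - 3) = m 3 ∧ m (c₀ - 4) = m 4) → ∀ j, m (c₀ - j) = m j := by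
    intro c₀ h j
    fin_cases j
    · exact h.1
    · exact h.2.1
    · exact h.2.2.1
    · exact h.2.2.2.1
    · exact h.2.2.2.2
  have s00 : (0 - 0 : ZMod 5) = 0 := by decide
  have s01 : (0 - 1 : ZMod 5) = 4 := by decide
  have s02 : (0 - 2 : ZMod 5) = 3 := by decide
  have s03 : (0 - 3 : ZMod 5) = 2 := by decide
  have s04 : (0 - 4 : ZMod 5) = 1 := by decide
  have s10 : (1 - 0 : ZMod 5) = 1 := by decide
  have s11 : (1 - 1 : ZMod 5) = 0 := by decide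
  have s12 : (1 - 2 : ZMod 5) = 4 := by decide
  have s13 : (1 - 3 : ZMod 5) = 3 := by decide
  have s14 : (1 - 4 : ZMod 5) = 2 := by decide
  have s20 : (2 - 0 : ZMod 5) = 2 := by decide
  have s21 : (2 - 1 : ZMod 5) = 1 := by decide
  have s22 : (2 - 2 : ZMod 5) = 0 := by decide
  have s23 : (2 - 3 : ZMod 5) = 4 := by decide
  have s24 : (2 - 4 : ZMod 5) = 3 := by decide
  have s30 : (3 - 0 : ZMod 5) = 3 := by decide
  have s31 : (3 - 1 : ZMod 5) = 2 := by decide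
  have s32 : (3 - 2 : ZMod 5) = 1 := by decide
  have s33 : (3 - 3 : ZMod 5) = 0 := by decide
  have s34 : (3 - 4 : ZMod 5) = 4 := by decide
  have s40 : (4 - 0 : ZMod 5) = 4 := by decide
  have s41 : (4 - 1 : ZMod 5) = 3 := by decide
  have s42 : (4 - 2 : ZMod 5) = 2 := by decide
  have s43 : (4 - 3 : ZMod 5) = 1 := by decide
  have s44 : (4 - 4 : ZMod 5) = 0 := by decide
  rcases nat_core (m 0) (m 1) (m 2) (m 3) (m 4) hsum hw' (hns 0) (hns 1) (hns 2) (hns 3) (hns 4)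
    with h | h | h | h | h
  · refine ⟨0, t 0 ?_⟩
    rw [s00, s01, s02, s03, s04]
    obtain ⟨h1, h2⟩ := h
    refine ⟨rfl, h1.symm, h2.symm, h2, h1⟩
  · refine ⟨1, t 1 ?_⟩
    rw [s10, s11, s12, s13, s14]
    obtain ⟨h1, h2⟩ := h
    refine ⟨h1.symm, h1, h2.symm, rfl, h2⟩
  · refine ⟨2, t 2 ?_⟩
    rw [s20, s21, s22, s23, s24]
    obtain ⟨h1, h2⟩ := h
    refine ⟨h1.symm, rfl, h1, h2.symm, h2⟩
  · refine ⟨3, t 3 ?_⟩
    rw [s30, s31, s32, s33, s34]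
    obtain ⟨h1, h2⟩ := h
    refine ⟨h1.symm, h2.symm, h2, h1, rfl⟩
  · refine ⟨4, t 4 ?_⟩
    rw [s40, s41, s42, s43, s44]
    obtain ⟨h1, h2⟩ := h
    refine ⟨h1.symm, h2.symm, rfl, h2, h1⟩

end Cfsg.Agent.Lib.Helper89_S5982_COMB5
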