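import Mathlib
import Cfsg.Agent.Lib.Helper40_UExist
import Cfsg.Agent.Lib.Helper40_UProj3
import Cfsg.Agent.Lib.Helper40_UPrimeOrder
import Cfsg.Agent.Lib.Helper40_ScalePoly
import Cfsg.Agent.Lib.Helper58_S5982Defs

/-!
# S5982 packages (helper89): polynomial tools

Split polynomials, `scaleRoots`, `udual` on products of linear factors, and a criterion for
`SSD` in terms of the multiset of roots.
-/

set_option autoImplicit false

namespace Cfsg.Agent.Lib.Helper89_S5982_Poly

open Polynomial Cfsg.Agent.Lib.Helper40_UExist Cfsg.Agent.Lib.Helper58_S5982Defs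

variable {F : Type*} [Field F]

theorem scaleRoots_X_sub_C (a s : F) : (X - C a : F[X]).scaleRoots s = X - C (a * s) := by
  have h := Cfsg.Agent.Lib.Helper40_ScalePoly.scaleRoots_X_pow_sub_C (K := F) 1 one_pos a s
  rw [pow_one, pow_one] at h
  exact h

theorem udual_X_sub_C (σ : F →+* F) (b : F) (hb : b ≠ 0) :
    udual σ (X - C b : F[X]) = X - C (σ b)⁻¹ := by
  have h := Cfsg.Agent.Lib.Helper40_UProj3.udual_X_pow_sub_C σ 1 one_pos b hb
  rw [pow_one] at h
  exact h

theorem scaleRoots_prod_X_sub_C (M : Multiset F) (s : F) :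
    ((M.map (fun a => X - C a)).prod).scaleRoots s = (M.map (fun a => X - C (a * s))).prod := by
  induction M using Multiset.induction_on with
  | empty => simp
  | cons a M ih =>
    rw [Multiset.map_cons, Multiset.prod_cons, Multiset.map_cons, Multiset.prod_cons,
      mul_scaleRoots_of_noZeroDivisors, ih, scaleRoots_X_sub_C]

theorem udual_prod_X_sub_C (σ : F →+* F) (M : Multiset F) (h0 : ∀ a ∈ M, a ≠ 0) :
    udual σ ((M.map (fun a => X - C a)).prod) = (M.map (fun a => X - C (σ a)⁻¹)).prod := by
  induction M using Multiset.induction_on with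
  | empty =>
    simp only [Multiset.map_zero, Multiset.prod_zero]
    exact Cfsg.Agent.Lib.Helper40_UPrimeOrder.udual_one σ
  | cons a M ih =>
    rw [Multiset.map_cons, Multiset.prod_cons, Multiset.map_cons, Multiset.prod_cons,
      udual_mul, ih (fun b hb => h0 b (Multiset.mem_cons_of_mem hb)),
      udual_X_sub_C σ a (h0 a (Multiset.mem_cons_self a M))]

open UniqueFactorizationMonoid in
/-- if every irreducible factor of `c` divides a split polynomial, then `c` splits -/
theorem splits_of_factors (c P : F[X]) (hc : c ≠ 0) (hP : P.Splits) (hP0 : P ≠ 0)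
    (h : ∀ g : F[X], Irreducible g → g ∣ c → g ∣ P) : c.Splits := by
  obtain ⟨u, hu⟩ := factors_prod hc
  rw [← hu]
  refine (Splits.multisetProd fun g hg => ?_).mul u.isUnit.splits
  exact hP.of_dvd hP0 (h g (irreducible_of_factor g hg) (dvd_of_mem_factors hg))

/-- the roots of such a `c` are roots of `P` -/
theorem root_of_factors (c P : F[X]) (h : ∀ g : F[X], Irreducible g → g ∣ c → g ∣ P)
    (a : F) (ha : a ∈ c.roots) : P.eval a = 0 := by
  have h1 : (X - C a) ∣ c := dvd_iff_isRoot.2 (isRoot_of_mem_roots ha)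
  have h2 : (X - C a) ∣ P := h _ (irreducible_X_sub_C a) h1
  exact dvd_iff_isRoot.1 h2

/-- criterion for `SSD` through the multiset of roots -/
theorem SSD_of_roots (σ : F →+* F) (c : F[X]) (hc : c.Monic) (hs : c.Splits) (μ : F) (hμ : μ ≠ 0)
    (h0 : ∀ a ∈ c.roots, a ≠ 0)
    (h : c.roots.map (fun a => (σ (a * μ))⁻¹) = c.roots.map (fun a => a * μ)) : SSD σ c := by
  refine ⟨μ, hμ, ?_⟩
  have e1 : c.scaleRoots μ = ((c.roots.map (fun a => a * μ)).map (fun a => X - C a)).prod := by
    conv_lhs => rw [hs.eq_prod_roots_of_monic hc]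
    rw [scaleRoots_prod_X_sub_C, Multiset.map_map]
    rfl
  rw [e1, udual_prod_X_sub_C σ _ (by
    intro a ha
    rw [Multiset.mem_map] at ha
    obtain ⟨b, hb, rfl⟩ := ha
    exact mul_ne_zero (h0 b hb) hμ)]
  conv_rhs => rw [← h]
  rw [Multiset.map_map, Multiset.map_map]
  rfl

end Cfsg.Agent.Lib.Helper89_S5982_Poly
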