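import Mathlib
import Cfsg.Agent.Lib.Helper58_S5982Defs
import Cfsg.Agent.Lib.Helper89_S5982_Poly

set_option autoImplicit false

namespace Cfsg.Agent.Lib.Helper89_S5982_POSB

open Polynomial Cfsg.Agent.Lib.Helper40_UExist Cfsg.Agent.Lib.Helper58_S5982Defs
  Cfsg.Agent.Lib.Helper89_S5982_Poly

open UniqueFactorizationMonoid in
/-- a monic polynomial all of whose irreducible factors divide the monic irreducible `P` is a
power of `P` -/
theorem eq_pow_of_factors {F : Type*} [Field F] (c P : F[X]) (hc : c.Monic) (hP : P.Monic)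
    (hPi : Irreducible P) (h : ∀ g : F[X], Irreducible g → g ∣ c → g ∣ P) : ∃ k : ℕ, c = P ^ k := by
  classical
  refine ⟨(normalizedFactors c).card, ?_⟩
  have h1 : normalizedFactors c = Multiset.replicate (normalizedFactors c).card P := by
    rw [Multiset.eq_replicate]
    refine ⟨rfl, fun g hg => ?_⟩
    have hgi := irreducible_of_normalized_factor g hg
    have hgd := dvd_of_mem_normalizedFactors hg
    have hgn := normalize_normalized_factor g hg
    have hgP := h g hgi hgd
    have hass := hgi.associated_of_dvd hPi hgP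
    rw [← hgn, ← hP.normalize_eq_self]
    exact normalize_eq_normalize hass.dvd hass.symm.dvd
  have h2 := prod_normalizedFactors_eq (hc.ne_zero)
  rw [h1, Multiset.prod_replicate, hc.normalize_eq_self] at h2
  exact h2.symm

/-- the arithmetic core: an element `y` of a finite field of odd order `q` with `y ^ k = 1`,
where the 2-part of `2k` is at most that of `q - 1`, is a square -/
theorem isSquare_of_pow_eq_one {F : Type*} [Field F] [Fintype F] (hF : ringChar F ≠ 2)
    (y : F) (hy : y ≠ 0) (k : ℕ) (hk : k ≠ 0) (hyk : y ^ k = 1)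
    (hv : padicValNat 2 (2 * k) ≤ padicValNat 2 (Fintype.card F - 1)) : IsSquare y := by
  rw [FiniteField.isSquare_iff hF hy]
  have hodd := FiniteField.odd_card_of_char_ne_two hF
  set N := Fintype.card F - 1 with hN
  have hN0 : N ≠ 0 := by
    have := Fintype.one_lt_card (α := F)
    omega
  have hd1 : orderOf y ∣ k := orderOf_dvd_of_pow_eq_one hyk
  have hd2 : orderOf y ∣ N := orderOf_dvd_of_pow_eq_one (FiniteField.pow_card_sub_one_eq_one y hy)
  have hd0 : orderOf y ≠ 0 := fun h0 => hk (Nat.eq_zero_of_zero_dvd (h0 ▸ hd1))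
  obtain ⟨a, d', hd'odd, hd'⟩ := Nat.exists_eq_two_pow_mul_odd hd0
  have h2k : 2 ^ (a + 1) ∣ 2 * k := by
    rw [pow_succ, mul_comm]
    exact Nat.mul_dvd_mul_left 2 ((Dvd.intro _ hd'.symm).trans hd1)
  have hle : a + 1 ≤ padicValNat 2 (2 * k) :=
    (padicValNat_dvd_iff_le (p := 2) (by omega)).1 h2k
  have h2N : 2 ^ (a + 1) ∣ N := (padicValNat_dvd_iff_le (p := 2) hN0).2 (hle.trans hv)
  have hd'N : d' ∣ N := (Dvd.intro_left _ hd'.symm).trans hd2
  have hcop : Nat.Coprime (2 ^ (a + 1)) d' :=
    Nat.Coprime.pow_left _ (Nat.coprime_two_left.2 hd'odd)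
  have h2d : 2 * orderOf y ∣ N := by
    have := hcop.mul_dvd_of_dvd_of_dvd h2N hd'N
    rwa [pow_succ, mul_assoc, mul_comm 2 d', ← mul_assoc, ← hd', mul_comm] at this
  obtain ⟨m, hm⟩ := h2d
  have hhalf : Fintype.card F / 2 = orderOf y * m := by
    have : Fintype.card F = N + 1 := by omega
    rw [this, hm]
    have : 2 * orderOf y * m + 1 = 2 * (orderOf y * m) + 1 := by ring
    rw [this]
    omega
  rw [hhalf, pow_mul, pow_orderOf_eq_one, one_pow]

theorem POSB {F : Type*} [Field F] [Fintype F] {q₀ : ℕ} (hK : Fintype.card F = q₀ ^ 2) (σ : F →+* F)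
    (hσq : ∀ x, σ x = x ^ q₀) (h2 : (2 : F) ≠ 0) (n : ℕ) (hn : 1 ≤ n)
    (hv : padicValNat 2 n ≤ padicValNat 2 (q₀ ^ 2 - 1)) (c : F[X]) (hc : Adm n 2 c) : SSD σ c := by
  obtain ⟨z, hz, hfac⟩ := hc.fac
  have hF : ringChar F ≠ 2 := by
    intro h
    apply h2
    have := CharP.cast_eq_zero F (ringChar F)
    rw [h] at this
    exact_mod_cast this
  by_cases hsq : ∃ w : F, w ^ 2 = z
  · obtain ⟨w, hw⟩ := hsq
    have hw0 : w ≠ 0 := by
      rintro rfl
      apply hz
      rw [← hw]
      ring
    have hP : (X ^ 2 - C z : F[X]) = (X - C w) * (X - C (-w)) := by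
      rw [← hw, C_neg, C_pow]
      ring
    have hP0 : (X ^ 2 - C z : F[X]) ≠ 0 := (monic_X_pow_sub_C z two_ne_zero).ne_zero
    have hPs : (X ^ 2 - C z : F[X]).Splits := by
      rw [hP]
      exact (Splits.X_sub_C w).mul (Splits.X_sub_C (-w))
    have hcs : c.Splits := splits_of_factors c _ hc.monic.ne_zero hPs hP0 hfac
    have hroots : ∀ a ∈ c.roots, a = w ∨ a = -w := by
      intro a ha
      have h := root_of_factors c _ hfac a ha
      rw [hP, eval_mul, eval_sub, eval_sub, eval_X, eval_C, eval_C, mul_eq_zero] at h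
      rcases h with h | h
      · exact Or.inl (sub_eq_zero.1 h)
      · exact Or.inr (sub_eq_zero.1 h)
    refine SSD_of_roots σ c hc.monic hcs w⁻¹ (inv_ne_zero hw0) ?_ ?_
    · intro a ha
      rcases hroots a ha with rfl | rfl
      · exact hw0
      · exact neg_ne_zero.2 hw0
    · refine Multiset.map_congr rfl fun a ha => ?_
      rcases hroots a ha with rfl | rfl
      · rw [mul_inv_cancel₀ hw0, map_one, inv_one]
      · rw [neg_mul, mul_inv_cancel₀ hw0, map_neg, map_one, inv_neg, inv_one]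
  · exfalso
    have hPi : Irreducible (X ^ 2 - C z : F[X]) := by
      rw [X_pow_sub_C_irreducible_iff_of_prime Nat.prime_two]
      intro b hb
      exact hsq ⟨b, hb⟩
    obtain ⟨k, hk⟩ := eq_pow_of_factors c _ hc.monic (monic_X_pow_sub_C z two_ne_zero) hPi hfac
    have hdeg : n = 2 * k := by
      have := hc.deg
      rw [hk, natDegree_pow, natDegree_X_pow_sub_C, mul_comm] at this
      exact this.symm
    have hk0 : k ≠ 0 := by omega
    have hcoef : (-z) ^ k = 1 := by
      have := hc.det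
      rw [hk, coeff_zero_eq_eval_zero, eval_pow, eval_sub, eval_pow, eval_X, eval_C, hdeg,
        pow_mul, neg_one_sq, one_pow] at this
      simpa using this
    have hv' : padicValNat 2 (2 * k) ≤ padicValNat 2 (Fintype.card F - 1) := by
      rw [hK, ← hdeg]
      exact hv
    have hsqy : IsSquare (-z) :=
      isSquare_of_pow_eq_one hF (-z) (neg_ne_zero.2 hz) k hk0 hcoef hv'
    have hm1 : IsSquare (-1 : F) := by
      rw [FiniteField.isSquare_neg_one_iff, hK]
      have : q₀ % 4 = 0 ∨ q₀ % 4 = 1 ∨ q₀ % 4 = 2 ∨ q₀ % 4 = 3 := by omega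
      rcases this with h | h | h | h <;> simp [pow_two, Nat.mul_mod, h]
    have hzsq : IsSquare z := by
      have := hm1.mul hsqy
      rwa [neg_one_mul, neg_neg] at this
    obtain ⟨b, hb⟩ := hzsq
    exact hsq ⟨b, by rw [hb, pow_two]⟩

end Cfsg.Agent.Lib.Helper89_S5982_POSB
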