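import Mathlib
import Cfsg.Agent.Lib.Helper58_S5982Defs
import Cfsg.Agent.Lib.Helper89_S5982_Poly
import Cfsg.Agent.Lib.Helper89_S5982_POSB
import Cfsg.Agent.Lib.Helper89_S5982_COMB3
import Cfsg.Agent.Lib.Helper89_S5982_COMB5

set_option autoImplicit false

namespace Cfsg.Agent.Lib.Helper89_S5982_POSC1

open Polynomial Cfsg.Agent.Lib.Helper40_UExist Cfsg.Agent.Lib.Helper58_S5982Defs
  Cfsg.Agent.Lib.Helper89_S5982_Poly

section Exp

variable {F : Type*} [Field F] (r : ℕ) [NeZero r] (l : F)

/-- the exponential `j ↦ l ^ j` on `ZMod r` -/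
noncomputable def ee (j : ZMod r) : F := l ^ j.val

omit [NeZero r] in
theorem ee_zero : ee r l 0 = 1 := by
  unfold ee
  rw [ZMod.val_zero, pow_zero]

variable {r l}

theorem ee_add (hl : l ^ r = 1) (i j : ZMod r) : ee r l (i + j) = ee r l i * ee r l j := by
  unfold ee
  rw [ZMod.val_add, ← pow_add]
  conv_rhs => rw [← Nat.div_add_mod (i.val + j.val) r]
  rw [pow_add, pow_mul, hl, one_pow, one_mul]

theorem ee_neg (hl : l ^ r = 1) (j : ZMod r) : ee r l (-j) = (ee r l j)⁻¹ := by
  have h := ee_add hl (-j) j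
  rw [neg_add_cancel, ee_zero] at h
  exact eq_inv_of_mul_eq_one_left h.symm

theorem ee_injective (hl : IsPrimitiveRoot l r) : Function.Injective (ee r l) := by
  intro i j h
  unfold ee at h
  exact ZMod.val_injective r (hl.pow_inj (ZMod.val_lt i) (ZMod.val_lt j) h)

theorem ee_surj (hl : IsPrimitiveRoot l r) (a : F) (ha : a ^ r = 1) : ∃ j : ZMod r, ee r l j = a := by
  obtain ⟨i, hi, h⟩ := hl.eq_pow_of_pow_eq_one ha
  refine ⟨(i : ZMod r), ?_⟩
  unfold ee
  rw [ZMod.val_natCast, Nat.mod_eq_of_lt hi, h]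

theorem ee_prod (hl : l ^ r = 1) (N : Multiset (ZMod r)) : (N.map (ee r l)).prod = ee r l N.sum := by
  induction N using Multiset.induction_on with
  | empty => simp [ee_zero]
  | cons a N ih => rw [Multiset.map_cons, Multiset.prod_cons, Multiset.sum_cons, ih, ee_add hl]

end Exp

/-- existence of primitive roots of prime order in a finite field -/
theorem exists_primitiveRoot {F : Type*} [Field F] [Fintype F] (r : ℕ) [Fact r.Prime]
    (h : r ∣ Fintype.card F - 1) : ∃ l : F, IsPrimitiveRoot l r := by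
  classical
  have hcard : Fintype.card Fˣ = Fintype.card F - 1 := Fintype.card_units F
  obtain ⟨x, hx⟩ := exists_prime_orderOf_dvd_card (G := Fˣ) r (by rw [hcard]; exact h)
  refine ⟨(x : F), ?_⟩
  have := IsPrimitiveRoot.orderOf (x : F)
  rwa [orderOf_units, hx] at this

/-- the general step: the combinatorial statement for `r` gives the scaled self-duality -/
theorem core {F : Type*} [Field F] [Fintype F] {q₀ : ℕ} (hK : Fintype.card F = q₀ ^ 2)
    (σ : F →+* F) (hσq : ∀ x, σ x = x ^ q₀) (r : ℕ) [hrp : Fact r.Prime] (hr2 : r ≠ 2)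
    (hcomb : ∀ m : ZMod r → ℕ, ∑ j, m j = r → ∑ j : ZMod r, (m j : ZMod r) * j = 0 →
      (∀ j, m j ≠ r) → ∃ c₀ : ZMod r, ∀ j, m (c₀ - j) = m j)
    (hhalf : ∀ c₀ : ZMod r, ∃ t : ZMod r, t + t = -c₀)
    (hv : padicValNat r (q₀ - 1) = 1) (c : F[X]) (hc : Adm r r c) : SSD σ c := by
  classical
  have hr := hrp.out
  have hrpos : 0 < r := hr.pos
  have hrodd : Odd r := hr.odd_of_ne_two hr2
  -- arithmetic of `q₀`
  have hrq : r ∣ q₀ - 1 := dvd_of_one_le_padicValNat (by omega)
  have hq1 : q₀ - 1 ≠ 0 := by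
    intro h0
    rw [h0] at hv
    simp at hv
  obtain ⟨t, ht⟩ := hrq
  have hrt : ¬ r ∣ t := by
    intro h
    have h2 : r ^ 2 ∣ q₀ - 1 := by
      rw [ht, pow_two]
      exact Nat.mul_dvd_mul_left r h
    have := (padicValNat_dvd_iff_le (p := r) hq1).1 h2
    omega
  have hq0 : q₀ = r * t + 1 := by omega
  have hcardm : Fintype.card F - 1 = r * (t * (r * t + 2)) := by
    rw [hK, hq0]
    have : (r * t + 1) ^ 2 = r * (t * (r * t + 2)) + 1 := by ring
    rw [this]
    omega
  have hcop : Nat.Coprime r (t * (r * t + 2)) := by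
    rw [Nat.Prime.coprime_iff_not_dvd hr, Nat.Prime.dvd_mul hr]
    rintro (h | h)
    · exact hrt h
    · have h2 : r ∣ 2 := (Nat.dvd_add_right (Dvd.intro _ rfl)).1 h
      have := Nat.le_of_dvd (by norm_num) h2
      have := hr.two_le
      omega
  -- a primitive root
  obtain ⟨l, hl⟩ := exists_primitiveRoot (F := F) r (by rw [hcardm]; exact Dvd.intro _ rfl)
  have hl1 : l ^ r = 1 := hl.pow_eq_one
  -- `σ` fixes the `r`-th roots of unity
  have hσfix : ∀ a : F, a ^ r = 1 → σ a = a := by
    intro a ha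
    rw [hσq, hq0, pow_succ, pow_mul, ha, one_pow, one_mul]
  obtain ⟨z, hz, hfac⟩ := hc.fac
  -- `z` is an `r`-th power
  have hzpow : ∃ w : F, w ^ r = z := by
    by_contra hcon
    push Not at hcon
    have hPi : Irreducible (X ^ r - C z : F[X]) :=
      (X_pow_sub_C_irreducible_iff_of_prime hr).2 hcon
    obtain ⟨k, hk⟩ := Cfsg.Agent.Lib.Helper89_S5982_POSB.eq_pow_of_factors c _ hc.monic
      (monic_X_pow_sub_C z hrpos.ne') hPi hfac
    have hdeg := hc.deg
    rw [hk, natDegree_pow, natDegree_X_pow_sub_C] at hdeg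
    have hk1 : k = 1 := by
      have : k * r = 1 * r := by rw [hdeg, one_mul]
      exact Nat.eq_of_mul_eq_mul_right hrpos this
    rw [hk1, pow_one] at hk
    have hdet := hc.det
    rw [hk, coeff_sub, coeff_X_pow, coeff_C_zero, if_neg hrpos.ne, zero_sub,
      hrodd.neg_one_pow, neg_inj] at hdet
    exact hcon 1 (by rw [one_pow, hdet])
  obtain ⟨w, hw⟩ := hzpow
  have hw0 : w ≠ 0 := by
    rintro rfl
    rw [zero_pow hrpos.ne'] at hw
    exact hz hw.symm
  -- `c` splits
  have hPs : (X ^ r - C z : F[X]).Splits := X_pow_sub_C_splits_of_isPrimitiveRoot hl hw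
  have hP0 : (X ^ r - C z : F[X]) ≠ 0 := (monic_X_pow_sub_C z hrpos.ne').ne_zero
  have hcs : c.Splits := splits_of_factors c _ hc.monic.ne_zero hPs hP0 hfac
  have hrootz : ∀ a ∈ c.roots, a ^ r = z := by
    intro a ha
    have h := root_of_factors c _ hfac a ha
    rw [eval_sub, eval_pow, eval_X, eval_C] at h
    exact sub_eq_zero.1 h
  have hcard : Multiset.card c.roots = r := by
    rw [splits_iff_card_roots.1 hcs, hc.deg]
  have hprod : c.roots.prod = 1 := by
    have h := hcs.coeff_zero_eq_prod_roots_of_monic hc.monic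
    rw [hc.det, hc.deg, hrodd.neg_one_pow] at h
    have : (-1 : F) * 1 = -1 * c.roots.prod := by rw [mul_one]; exact h
    exact (mul_left_cancel₀ (by norm_num) this).symm
  -- `z = 1`
  have hzr : z ^ r = 1 := by
    have h1 : (c.roots.map (fun a => a ^ r)).prod = 1 := by
      rw [Multiset.prod_map_pow, Multiset.map_id', hprod, one_pow]
    have h2 : c.roots.map (fun a => a ^ r) = Multiset.replicate r z := by
      rw [Multiset.map_congr rfl hrootz, Multiset.map_const', hcard]
    rw [h2, Multiset.prod_replicate] at h1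
    exact h1
  have hz1 : z = 1 := by
    have h1 : z ^ (t * (r * t + 2)) = 1 := by
      rw [← hw, ← pow_mul, ← hcardm]
      exact FiniteField.pow_card_sub_one_eq_one w hw0
    have hd1 : orderOf z ∣ r := orderOf_dvd_of_pow_eq_one hzr
    have hd2 : orderOf z ∣ t * (r * t + 2) := orderOf_dvd_of_pow_eq_one h1
    have hd : orderOf z ∣ 1 := by
      have := Nat.dvd_gcd hd1 hd2
      rwa [hcop.gcd_eq_one] at this
    exact orderOf_eq_one_iff.1 (Nat.dvd_one.1 hd)
  have hroot1 : ∀ a ∈ c.roots, a ^ r = 1 := fun a ha => by rw [hrootz a ha, hz1]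
  have hroot0 : ∀ a ∈ c.roots, a ≠ 0 := by
    intro a ha h0
    have := hroot1 a ha
    rw [h0, zero_pow hrpos.ne'] at this
    exact zero_ne_one this
  -- the exponents
  have : NeZero r := ⟨hrpos.ne'⟩
  have hinj := ee_injective hl
  obtain ⟨N, hN⟩ : ∃ N : Multiset (ZMod r), N = c.roots.map (Function.invFun (ee r l)) := ⟨_, rfl⟩
  have hNM : N.map (ee r l) = c.roots := by
    rw [hN, Multiset.map_map]
    conv_rhs => rw [← Multiset.map_id c.roots]
    refine Multiset.map_congr rfl fun a ha => ?_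
    exact Function.invFun_eq (ee_surj hl a (hroot1 a ha))
  have hNcard : Multiset.card N = r := by rw [hN, Multiset.card_map, hcard]
  have hNsum : N.sum = 0 := by
    apply hinj
    rw [← ee_prod hl1, hNM, hprod, ee_zero]
  have h1 : ∑ j : ZMod r, N.count j = r := by
    rw [Multiset.sum_count_eq_card (fun a _ => Finset.mem_univ a), hNcard]
  have h2 : ∑ j : ZMod r, (N.count j : ZMod r) * j = 0 := by
    rw [← hNsum, Finset.sum_multiset_count_of_subset N Finset.univ (Finset.subset_univ _)]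
    refine Finset.sum_congr rfl fun j _ => ?_
    rw [nsmul_eq_mul]
  have h3 : ∀ j : ZMod r, N.count j ≠ r := by
    intro j hj
    have hall : ∀ x ∈ N, j = x := Multiset.count_eq_card.1 (hj.trans hNcard.symm)
    have hNrep : N = Multiset.replicate r j := by
      rw [Multiset.eq_replicate]
      exact ⟨hNcard, fun b hb => (hall b hb).symm⟩
    apply hc.ns (ee r l j)
    rw [hcs.eq_prod_roots_of_monic hc.monic, ← hNM, hNrep, Multiset.map_replicate,
      Multiset.map_replicate, Multiset.prod_replicate]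
  obtain ⟨c₀, hc₀⟩ := hcomb (fun j => N.count j) h1 h2 h3
  have hsymm : N.map (fun j => c₀ - j) = N := by
    have hi : Function.Injective (fun j : ZMod r => c₀ - j) := fun a b h => by
      simpa using h
    rw [Multiset.ext]
    intro j
    have := Multiset.count_map_eq_count' (fun j : ZMod r => c₀ - j) N hi (c₀ - j)
    simp only [sub_sub_cancel] at this
    rw [this]
    exact hc₀ j
  obtain ⟨t', ht'⟩ := hhalf c₀
  have hee1 : ∀ j : ZMod r, ee r l j ^ r = 1 := by
    intro j
    unfold ee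
    rw [← pow_mul, mul_comm, pow_mul, hl1, one_pow]
  have hee0 : ∀ j : ZMod r, ee r l j ≠ 0 := by
    intro j h0
    have := hee1 j
    rw [h0, zero_pow hrpos.ne'] at this
    exact zero_ne_one this
  refine SSD_of_roots σ c hc.monic hcs (ee r l t') (hee0 t') hroot0 ?_
  rw [← hNM, Multiset.map_map, Multiset.map_map]
  have hL : ∀ j : ZMod r, ((fun a => (σ (a * ee r l t'))⁻¹) ∘ ee r l) j = ee r l (-(j + t')) := by
    intro j
    simp only [Function.comp]
    rw [← ee_add hl1, hσfix _ (hee1 _), ee_neg hl1]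
  have hR : ∀ j : ZMod r, ((fun a => a * ee r l t') ∘ ee r l) j = ee r l (j + t') := by
    intro j
    simp only [Function.comp]
    rw [← ee_add hl1]
  rw [Multiset.map_congr rfl (fun j _ => hL j), Multiset.map_congr rfl (fun j _ => hR j)]
  conv_rhs => rw [← hsymm]
  rw [Multiset.map_map]
  refine Multiset.map_congr rfl fun j _ => ?_
  simp only [Function.comp]
  congr 1
  have : c₀ = -(t' + t') := by rw [ht', neg_neg]
  rw [this]
  ring

theorem half3 : ∀ c₀ : ZMod 3, ∃ t : ZMod 3, t + t = -c₀ := by decide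

theorem half5 : ∀ c₀ : ZMod 5, ∃ t : ZMod 5, t + t = -c₀ := by decide

theorem POSC1 {F : Type*} [Field F] [Fintype F] {q₀ : ℕ} (hK : Fintype.card F = q₀ ^ 2) (σ : F →+* F)
    (hσq : ∀ x, σ x = x ^ q₀) (r : ℕ) (hr : r = 3 ∨ r = 5) (hv : padicValNat r (q₀ - 1) = 1)
    (c : F[X]) (hc : Adm r r c) : SSD σ c := by
  rcases hr with rfl | rfl
  · have : Fact (Nat.Prime 3) := ⟨by norm_num⟩
    exact core hK σ hσq 3 (by norm_num) Cfsg.Agent.Lib.Helper89_S5982_COMB3.COMB3 half3 hv c hc
  · have : Fact (Nat.Prime 5) := ⟨by norm_num⟩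
    exact core hK σ hσq 5 (by norm_num) Cfsg.Agent.Lib.Helper89_S5982_COMB5.COMB5 half5 hv c hc

end Cfsg.Agent.Lib.Helper89_S5982_POSC1
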