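import Mathlib
import Cfsg.Agent.Lib.Helper97_SpTensBasic

set_option autoImplicit false
set_option linter.unusedSectionVars false
set_option linter.unusedVariables false

/-!
# SP3 (helper89, for helper97's project `Sp ⊗ O_3` maximal): rules for the set `𝒯` of vectors `Y`
all of whose transvections `X ↦ X + c tf(X, Y) Y` lie in `M`
-/

namespace Cfsg.Agent.Lib.Helper89_SP3_TvRules

open Matrix Module
open Cfsg.Agent.Lib.Helper98_ExtDefs Cfsg.Agent.Lib.Helper97_TensDefs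
  Cfsg.Agent.Lib.Helper97_SpTensDefs Cfsg.Agent.Lib.Helper97_SpTensBasic
  Cfsg.Agent.Lib.Helper97_TensBasic

variable {F : Type*} [Field F] {m : ℕ}

local notation "V" => Matrix (Fin m ⊕ Fin m) (Fin 3) F

theorem lin_apply_inv (g : V ≃ₗ[F] V) (x : V) : g (g⁻¹ x) = x := by
  rw [← LinearEquiv.mul_apply, mul_inv_cancel]; rfl

theorem lin_inv_apply (g : V ≃ₗ[F] V) (x : V) : g⁻¹ (g x) = x := by
  rw [← LinearEquiv.mul_apply, inv_mul_cancel]; rfl

/-- `Y ∈ 𝒯`: all transvections with centre `Y` lie in `M` -/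
def InT (M : Subgroup (V ≃ₗ[F] V)) (Y : V) : Prop :=
  ∀ c : F, HasMap M (fun X => X + (c * tf m X Y) • Y)

/-- conjugating a transvection by an element of `M` -/
theorem hasMap_conj_tv {M : Subgroup (V ≃ₗ[F] V)} (hSp : MSp m M) {g : V ≃ₗ[F] V} (hg : g ∈ M)
    {c : F} {Z : V} (h : HasMap M (fun X => X + (c * tf m X Z) • Z)) :
    HasMap M (fun X => X + (c * tf m X (g Z)) • g Z) := by
  obtain ⟨k, hk, hkx⟩ := h
  refine ⟨g * k * g⁻¹, M.mul_mem (M.mul_mem hg hk) (M.inv_mem hg), fun X => ?_⟩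
  rw [LinearEquiv.mul_apply, LinearEquiv.mul_apply, hkx, map_add, lin_apply_inv, map_smul]
  have h1 : tf m (g⁻¹ X) Z = tf m X (g Z) := by
    rw [← hSp g hg (g⁻¹ X) Z, lin_apply_inv]
  rw [h1]

theorem inT_map {M : Subgroup (V ≃ₗ[F] V)} (hSp : MSp m M) {g : V ≃ₗ[F] V} (hg : g ∈ M)
    {Z : V} (hZ : InT M Z) : InT M (g Z) := fun c => hasMap_conj_tv hSp hg (hZ c)

theorem inT_zero (M : Subgroup (V ≃ₗ[F] V)) : InT M (0 : V) := by
  intro c
  refine hasMap_congr (fun X => ?_) (hasMap_id M)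
  rw [smul_zero, add_zero]

theorem hasMap_tv_smul {M : Subgroup (V ≃ₗ[F] V)} {c a : F} {Y : V}
    (h : HasMap M (fun X => X + ((c * a ^ 2) * tf m X Y) • Y)) :
    HasMap M (fun X => X + (c * tf m X (a • Y)) • (a • Y)) := by
  refine hasMap_congr (fun X => ?_) h
  rw [tf_smul_right, smul_smul]
  congr 2
  ring

theorem inT_smul {M : Subgroup (V ≃ₗ[F] V)} {Y : V} (hY : InT M Y) (a : F) : InT M (a • Y) :=
  fun c => hasMap_tv_smul (hY (c * a ^ 2))

theorem inT_neg {M : Subgroup (V ≃ₗ[F] V)} {Y : V} (hY : InT M Y) : InT M (-Y) := by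
  have := inT_smul hY (-1)
  rwa [neg_one_smul] at this

theorem hasMap_tv_add (h2 : (2 : F) ≠ 0) {M : Subgroup (V ≃ₗ[F] V)} {c₁ c₂ : F} {Y : V}
    (h₁ : HasMap M (fun X => X + (c₁ * tf m X Y) • Y))
    (h₂ : HasMap M (fun X => X + (c₂ * tf m X Y) • Y)) :
    HasMap M (fun X => X + ((c₁ + c₂) * tf m X Y) • Y) := by
  refine hasMap_congr (fun X => ?_) (hasMap_comp h₁ h₂)
  rw [tf_add_left, tf_smul_left, tf_self h2, mul_zero, add_zero, add_assoc, ← add_smul]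
  congr 2
  ring

theorem hasMap_tv_neg (h2 : (2 : F) ≠ 0) {M : Subgroup (V ≃ₗ[F] V)} {c : F} {Y : V}
    (h : HasMap M (fun X => X + (c * tf m X Y) • Y)) :
    HasMap M (fun X => X + ((-c) * tf m X Y) • Y) := by
  obtain ⟨g, hg, hgx⟩ := h
  refine ⟨g⁻¹, M.inv_mem hg, fun X => ?_⟩
  have h1 : g (X + ((-c) * tf m X Y) • Y) = X := by
    rw [hgx]
    beta_reduce
    rw [tf_add_left, tf_smul_left, tf_self h2, mul_zero, add_zero, add_assoc, ← add_smul]
    have : -c * tf m X Y + c * tf m X Y = 0 := by ring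
    rw [this, zero_smul, add_zero]
  conv_lhs => rw [← h1]
  exact lin_inv_apply g _

/-- rule (iii): `Y, Z ∈ 𝒯`, `tf Z Y ≠ 0` imply `Y + Z ∈ 𝒯` -/
theorem inT_add_of_ne {M : Subgroup (V ≃ₗ[F] V)} (hSp : MSp m M) {Y Z : V}
    (hY : InT M Y) (hZ : InT M Z) (h : tf m Z Y ≠ 0) : InT M (Y + Z) := by
  obtain ⟨g, hg, hgx⟩ := hY (tf m Z Y)⁻¹
  have h1 : g Z = Y + Z := by
    rw [hgx]
    beta_reduce
    rw [inv_mul_cancel₀ h, one_smul, add_comm]
  rw [← h1]
  exact inT_map hSp hg hZ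

/-- rule (iv): `Y, Z, U ∈ 𝒯`, `Y ⊥ Z`, `U` not orthogonal to `Y`, `Z`, `Y + Z` imply `Y + Z ∈ 𝒯` -/
theorem inT_add_of_orth (h2 : (2 : F) ≠ 0) {M : Subgroup (V ≃ₗ[F] V)} (hSp : MSp m M) {Y Z U : V}
    (hY : InT M Y) (hZ : InT M Z) (hU : InT M U) (hYZ : tf m Y Z = 0)
    (h1 : tf m U Y ≠ 0) (h1' : tf m U Z ≠ 0) (h3 : tf m U (Y + Z) ≠ 0) : InT M (Y + Z) := by
  have hYU : InT M (Y + U) := inT_add_of_ne hSp hY hU h1
  have hZU : InT M (Z + -U) := by
    refine inT_add_of_ne hSp hZ (inT_neg hU) ?_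
    rw [tf_neg_left]
    exact neg_ne_zero.mpr h1'
  have h4 : tf m (Z + -U) (Y + U) ≠ 0 := by
    have : tf m (Z + -U) (Y + U) = - tf m U (Y + Z) := by
      rw [tf_add_left, tf_add_right, tf_add_right, tf_neg_left, tf_neg_left, tf_self h2,
        tf_add_right, tf_swap Z Y, hYZ, tf_swap Z U]
      ring
    rw [this]
    exact neg_ne_zero.mpr h3
  have := inT_add_of_ne hSp hYU hZU h4
  have e : Y + U + (Z + -U) = Y + Z := by abel
  rwa [e] at this

/-- every `c` is a difference of two squares -/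
theorem eq_sq_sub_sq (h2 : (2 : F) ≠ 0) (c : F) : c = ((c + 1) / 2) ^ 2 - ((c - 1) / 2) ^ 2 := by
  field_simp
  ring

/-- from the transvections `t_{aY}(1)`, `a ≠ 0`, to all `t_Y(c)` -/
theorem inT_of_one (h2 : (2 : F) ≠ 0) {M : Subgroup (V ≃ₗ[F] V)} {Y : V}
    (h : ∀ a : F, a ≠ 0 → HasMap M (fun X => X + (1 * tf m X (a • Y)) • (a • Y))) : InT M Y := by
  have hsq : ∀ a : F, HasMap M (fun X => X + (a ^ 2 * tf m X Y) • Y) := by
    intro a
    by_cases ha : a = 0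
    · subst ha
      refine hasMap_congr (fun X => ?_) (hasMap_id M)
      rw [zero_pow two_ne_zero, zero_mul, zero_smul, add_zero]
    · refine hasMap_congr (fun X => ?_) (h a ha)
      rw [tf_smul_right, smul_smul]
      congr 2
      ring
  intro c
  have h3 := hasMap_tv_add h2 (hsq ((c + 1) / 2)) (hasMap_tv_neg h2 (hsq ((c - 1) / 2)))
  refine hasMap_congr (fun X => ?_) h3
  congr 3
  rw [← sub_eq_add_neg]
  exact (eq_sq_sub_sq h2 c).symm

end Cfsg.Agent.Lib.Helper89_SP3_TvRules
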