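import Mathlib
import Cfsg.Agent.Lib.Helper97_SpTensBasic
import Cfsg.Agent.Lib.Helper89_SP3_TvRules

set_option autoImplicit false
set_option linter.unusedSectionVars false
set_option linter.unusedVariables false
set_option linter.unusedSimpArgs false

/-!
# SP3-TVALLA (helper89, for helper97): from singular pure tensors to all pure tensors `x ⊗ b`
-/

namespace Cfsg.Agent.Lib.Helper89_SP3_TVALLA

open Matrix Module
open Cfsg.Agent.Lib.Helper98_ExtDefs Cfsg.Agent.Lib.Helper97_TensDefs
  Cfsg.Agent.Lib.Helper97_SpTensDefs Cfsg.Agent.Lib.Helper97_SpTensBasic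
  Cfsg.Agent.Lib.Helper97_TensBasic Cfsg.Agent.Lib.Helper89_SP3_TvRules
  Cfsg.Agent.Lib.Helper13_SympTrans Cfsg.Agent.Lib.Helper13_Symp

variable {F : Type*} [Field F] [Fintype F] {m : ℕ}

local notation "V" => Matrix (Fin m ⊕ Fin m) (Fin 3) F

/-- a field with at least five elements has `β ≠ 0` with `β² ≠ κ` -/
theorem exists_beta (hq : 5 ≤ Fintype.card F) (κ : F) : ∃ β : F, β ≠ 0 ∧ β ^ 2 ≠ κ := by
  classical
  open Polynomial in
  have hne : (X ^ 2 - C κ : F[X]) ≠ 0 := X_pow_sub_C_ne_zero two_pos κ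
  open Polynomial in
  have hf0 : (X * (X ^ 2 - C κ) : F[X]) ≠ 0 := mul_ne_zero X_ne_zero hne
  open Polynomial in
  have hdeg : (X * (X ^ 2 - C κ) : F[X]).natDegree = 3 := by
    rw [natDegree_mul X_ne_zero hne, natDegree_X, natDegree_X_pow_sub_C]
  open Polynomial in
  have hlt : ((X * (X ^ 2 - C κ) : F[X]).natDegree : Cardinal) < Cardinal.mk F := by
    rw [hdeg, Cardinal.mk_fintype]
    exact_mod_cast (by omega : 3 < Fintype.card F)
  obtain ⟨β, hβ⟩ := Polynomial.exists_eval_ne_zero_of_natDegree_lt_card _ hf0 hlt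
  simp only [Polynomial.eval_mul, Polynomial.eval_X, Polynomial.eval_sub, Polynomial.eval_pow,
    Polynomial.eval_C] at hβ
  refine ⟨β, fun h => hβ (by rw [h, zero_mul]), fun h => hβ (by rw [h, sub_self, mul_zero])⟩

omit [Fintype F] in
/-- a hyperbolic pair adapted to a non-singular `b` -/
theorem exists_y_w (h2 : (2 : F) ≠ 0) (b : Fin 3 → F) (hb : be b b ≠ 0) :
    ∃ y w : Fin 3 → F, be y y = 0 ∧ be b y ≠ 0 ∧ be w y = 0 ∧ be w b = 0 ∧ be w w ≠ 0 := by
  by_cases hb2 : b 2 = 0
  · by_cases hb0 : b 0 = 0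
    · have hb1 : b 1 ≠ 0 := by
        intro h
        apply hb
        simp [be, hb0, hb2, h]
      refine ⟨![1, 1, -1 / 2], ![2, 0, 1], ?_, ?_, ?_, ?_, ?_⟩
      · simp only [be, cons_val_zero, cons_val_one, cons_val_two, Nat.succ_eq_add_one,
          Nat.reduceAdd, tail_cons, head_cons]
        field_simp
        ring
      · simp only [be, cons_val_zero, cons_val_one, cons_val_two, Nat.succ_eq_add_one,
          Nat.reduceAdd, tail_cons, head_cons, hb0, hb2]
        simpa using hb1
      · simp only [be, cons_val_zero, cons_val_one, cons_val_two, Nat.succ_eq_add_one,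
          Nat.reduceAdd, tail_cons, head_cons]
        field_simp
        ring
      · simp [be, hb0, hb2]
      · simp only [be, cons_val_zero, cons_val_one, cons_val_two, Nat.succ_eq_add_one,
          Nat.reduceAdd, tail_cons, head_cons]
        have : (2 : F) * 1 + 0 * 0 + 1 * 2 = 2 * 2 := by ring
        rw [this]
        exact mul_ne_zero h2 h2
    · refine ⟨e2, ![0, b 0, -b 1], ?_, ?_, ?_, ?_, ?_⟩
      · simp [be, e2]
      · rw [be_e2_right]; exact hb0
      · rw [be_e2_right]; simp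
      · simp only [be, cons_val_zero, cons_val_one, cons_val_two, Nat.succ_eq_add_one,
          Nat.reduceAdd, tail_cons, head_cons]
        ring
      · simp only [be, cons_val_zero, cons_val_one, cons_val_two, Nat.succ_eq_add_one,
          Nat.reduceAdd, tail_cons, head_cons]
        have : (0 : F) * -b 1 + b 0 * b 0 + -b 1 * 0 = b 0 * b 0 := by ring
        rw [this]
        exact mul_ne_zero hb0 hb0
  · refine ⟨e0, ![-b 1, b 2, 0], ?_, ?_, ?_, ?_, ?_⟩
    · simp [be, e0]
    · rw [be_e0_right]; exact hb2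
    · rw [be_e0_right]; simp
    · simp only [be, cons_val_zero, cons_val_one, cons_val_two, Nat.succ_eq_add_one,
        Nat.reduceAdd, tail_cons, head_cons]
      ring
    · simp only [be, cons_val_zero, cons_val_one, cons_val_two, Nat.succ_eq_add_one,
        Nat.reduceAdd, tail_cons, head_cons]
      have : -b 1 * 0 + b 2 * b 2 + 0 * -b 1 = b 2 * b 2 := by ring
      rw [this]
      exact mul_ne_zero hb2 hb2

/-- a singular `u` not orthogonal to `y`, `y' = b - λ y`, `b` -/
theorem exists_good_u (h2 : (2 : F) ≠ 0) (hq : 5 ≤ Fintype.card F) (b y w : Fin 3 → F)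
    (hyy : be y y = 0) (hby : be b y ≠ 0) (hwy : be w y = 0) (hwb : be w b = 0)
    (hww : be w w ≠ 0) (hbb : be b b ≠ 0) :
    ∃ u : Fin 3 → F, be u u = 0 ∧ be u y ≠ 0 ∧
      be u (b - (be b b / (2 * be b y)) • y) ≠ 0 ∧ be u b ≠ 0 := by
  obtain ⟨β, hβ0, hβ⟩ := exists_beta hq (be b b / be w w)
  have hyb : be y b = be b y := be_comm y b
  have hyw : be y w = 0 := by rw [be_comm]; exact hwy
  have hbw : be b w = 0 := by rw [be_comm]; exact hwb
  set N := be b b with hN
  set ν := be w w with hν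
  set β0 := be b y with hβ0'
  refine ⟨(-(ν * β ^ 2) / (2 * β0)) • y + β • w + (b - (N / (2 * β0)) • y), ?_, ?_, ?_, ?_⟩
  · simp only [be_add_left, be_add_right, be_smul_left, be_smul_right, be_sub_left, be_sub_right,
      hyy, hyw, hwy, hwb, hbw, hyb, ← hN, ← hν, ← hβ0']
    field_simp
    ring
  · simp only [be_add_left, be_smul_left, be_sub_left, hyy, hwy, ← hβ0']
    simpa using hby
  · have e : be ((-(ν * β ^ 2) / (2 * β0)) • y + β • w + (b - (N / (2 * β0)) • y))
        (b - (N / (2 * β0)) • y) = -(ν * β ^ 2) / 2 := by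
      simp only [be_add_left, be_add_right, be_smul_left, be_smul_right, be_sub_left,
        be_sub_right, hyy, hyw, hwy, hwb, hbw, hyb, ← hN, ← hν, ← hβ0']
      field_simp
      ring
    rw [e]
    exact div_ne_zero (neg_ne_zero.mpr (mul_ne_zero hww (pow_ne_zero 2 hβ0))) h2
  · have e : be ((-(ν * β ^ 2) / (2 * β0)) • y + β • w + (b - (N / (2 * β0)) • y)) b
        = (N - ν * β ^ 2) / 2 := by
      simp only [be_add_left, be_add_right, be_smul_left, be_smul_right, be_sub_left,
        be_sub_right, hyy, hyw, hwy, hwb, hbw, hyb, ← hN, ← hν, ← hβ0']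
      field_simp
      ring
    rw [e]
    refine div_ne_zero ?_ h2
    intro h
    apply hβ
    rw [eq_div_iff hww]
    linear_combination (-1 : F) * h

theorem all_tensor_tv (h2 : (2 : F) ≠ 0) (hq : 5 ≤ Fintype.card F) (M : Subgroup (V ≃ₗ[F] V))
    (hSp : MSp m M)
    (hpure : ∀ (c : F) (x : Fin m ⊕ Fin m → F) (y : Fin 3 → F), be y y = 0 →
      HasMap M (fun X => X + (c * tf m X (vecMulVec x y)) • vecMulVec x y)) :
    ∀ (c : F) (x : Fin m ⊕ Fin m → F) (b : Fin 3 → F),
      HasMap M (fun X => X + (c * tf m X (vecMulVec x b)) • vecMulVec x b) := by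
  intro c x b
  by_cases hx : x = 0
  · subst hx
    have e : vecMulVec (0 : Fin m ⊕ Fin m → F) b = 0 := zero_vecMulVec b
    rw [e]
    exact inT_zero M c
  by_cases hbb : be b b = 0
  · exact hpure c x b hbb
  obtain ⟨y, w, hyy, hby, hwy, hwb, hww⟩ := exists_y_w h2 b hbb
  obtain ⟨u, huu, huy, huy', hub⟩ := exists_good_u h2 hq b y w hyy hby hwy hwb hww hbb
  set l := be b b / (2 * be b y) with hl
  have hl0 : l ≠ 0 := div_ne_zero hbb (mul_ne_zero h2 hby)
  -- `x'` with `sympForm x' x = 1`
  obtain ⟨w₀, hw₀⟩ := exists_sympForm_ne_zero m hx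
  have hw₀' : Cfsg.sympForm m F w₀ x ≠ 0 := by
    rw [sympForm_swap]; exact neg_ne_zero.mpr hw₀
  set x' := (Cfsg.sympForm m F w₀ x)⁻¹ • w₀ with hx'
  have hx'x : Cfsg.sympForm m F x' x = 1 := by
    rw [hx', sympForm_smul_left, inv_mul_cancel₀ hw₀']
  have hy'y' : be (b - l • y) (b - l • y) = 0 := by
    simp only [be_sub_left, be_sub_right, be_smul_left, be_smul_right, hyy, be_comm y b]
    rw [hl]
    field_simp
    ring
  have hY : InT M (vecMulVec x (l • y)) := fun c =>
    hpure c x (l • y) (by rw [be_smul_left, be_smul_right, hyy, mul_zero, mul_zero])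
  have hZ : InT M (vecMulVec x (b - l • y)) := fun c => hpure c x _ hy'y'
  have hU : InT M (vecMulVec x' u) := fun c => hpure c x' u huu
  have hsum : vecMulVec x (l • y) + vecMulVec x (b - l • y) = vecMulVec x b := by
    rw [← vecMulVec_add]
    congr 1
    abel
  have hYZ : tf m (vecMulVec x (l • y)) (vecMulVec x (b - l • y)) = 0 := by
    rw [tf_vecMulVec, sympForm_self, zero_mul]
  have h1 : tf m (vecMulVec x' u) (vecMulVec x (l • y)) ≠ 0 := by
    rw [tf_vecMulVec, hx'x, one_mul, be_smul_right]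
    exact mul_ne_zero hl0 huy
  have h1' : tf m (vecMulVec x' u) (vecMulVec x (b - l • y)) ≠ 0 := by
    rw [tf_vecMulVec, hx'x, one_mul]
    exact huy'
  have h3 : tf m (vecMulVec x' u) (vecMulVec x (l • y) + vecMulVec x (b - l • y)) ≠ 0 := by
    rw [hsum, tf_vecMulVec, hx'x, one_mul]
    exact hub
  have := inT_add_of_orth h2 hSp hY hZ hU hYZ h1 h1' h3
  rw [hsum] at this
  exact this c

end Cfsg.Agent.Lib.Helper89_SP3_TVALLA
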