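import Mathlib
import Cfsg.Agent.Lib.Helper97_SpTensBasic
import Cfsg.Agent.Lib.Helper89_SP3_TvRules

set_option autoImplicit false
set_option linter.unusedSectionVars false
set_option linter.unusedVariables false
set_option linter.unusedSimpArgs false

/-!
# SP3-TVALLB (helper89, for helper97): from all pure tensors to all vectors
-/

namespace Cfsg.Agent.Lib.Helper89_SP3_TVALLB

open Matrix Module
open Cfsg.Agent.Lib.Helper98_ExtDefs Cfsg.Agent.Lib.Helper97_TensDefs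
  Cfsg.Agent.Lib.Helper97_SpTensDefs Cfsg.Agent.Lib.Helper97_SpTensBasic
  Cfsg.Agent.Lib.Helper97_TensBasic Cfsg.Agent.Lib.Helper89_SP3_TvRules
  Cfsg.Agent.Lib.Helper13_SympTrans Cfsg.Agent.Lib.Helper13_Symp

variable {F : Type*} [Field F] [Fintype F] {m : ℕ}

local notation "V" => Matrix (Fin m ⊕ Fin m) (Fin 3) F

omit [Fintype F] in
/-- two proper subspaces do not cover the space -/
theorem avoid2 {E : Type*} [AddCommGroup E] [Module F E] (P₁ P₂ : Submodule F E)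
    (h₁ : P₁ ≠ ⊤) (h₂ : P₂ ≠ ⊤) : ∃ v, v ∉ P₁ ∧ v ∉ P₂ := by
  obtain ⟨v₁, hv₁⟩ : ∃ v, v ∉ P₁ := by
    by_contra hcon
    push Not at hcon
    exact h₁ (Submodule.eq_top_iff'.mpr hcon)
  obtain ⟨v₂, hv₂⟩ : ∃ v, v ∉ P₂ := by
    by_contra hcon
    push Not at hcon
    exact h₂ (Submodule.eq_top_iff'.mpr hcon)
  by_cases h12 : v₁ ∈ P₂
  · by_cases h21 : v₂ ∈ P₁
    · refine ⟨v₁ + v₂, fun h => hv₁ ?_, fun h => hv₂ ?_⟩
      · have := P₁.sub_mem h h21
        rwa [add_sub_cancel_right] at this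
      · have := P₂.sub_mem h h12
        rwa [add_sub_cancel_left] at this
    · exact ⟨v₂, h21, hv₂⟩
  · exact ⟨v₁, hv₁, h12⟩

omit [Fintype F] in
/-- three proper subspaces do not cover the space (`2 ≠ 0`) -/
theorem avoid3 (h2 : (2 : F) ≠ 0) {E : Type*} [AddCommGroup E] [Module F E]
    (P₁ P₂ P₃ : Submodule F E) (h₁ : P₁ ≠ ⊤) (h₂ : P₂ ≠ ⊤) (h₃ : P₃ ≠ ⊤) :
    ∃ v, v ∉ P₁ ∧ v ∉ P₂ ∧ v ∉ P₃ := by
  obtain ⟨v, hv₁, hv₂⟩ := avoid2 P₁ P₂ h₁ h₂
  by_cases hv₃ : v ∈ P₃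
  swap
  · exact ⟨v, hv₁, hv₂, hv₃⟩
  obtain ⟨w, hw⟩ : ∃ w, w ∉ P₃ := by
    by_contra hcon
    push Not at hcon
    exact h₃ (Submodule.eq_top_iff'.mpr hcon)
  have c0 : w ∉ P₃ := hw
  have c1 : w + v ∉ P₃ := fun h => hw (by
    have := P₃.sub_mem h hv₃
    rwa [add_sub_cancel_right] at this)
  have cm : w - v ∉ P₃ := fun h => hw (by
    have := P₃.add_mem h hv₃
    rwa [sub_add_cancel] at this)
  have key : ∀ P : Submodule F E, v ∉ P →
      ¬ (w ∈ P ∧ w + v ∈ P) ∧ ¬ (w ∈ P ∧ w - v ∈ P) ∧ ¬ (w + v ∈ P ∧ w - v ∈ P) := by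
    intro P hvP
    refine ⟨fun h => hvP ?_, fun h => hvP ?_, fun h => hvP ?_⟩
    · have := P.sub_mem h.2 h.1
      rwa [add_sub_cancel_left] at this
    · have := P.sub_mem h.1 h.2
      rwa [sub_sub_cancel] at this
    · have h3 := P.sub_mem h.1 h.2
      have h4 : w + v - (w - v) = (2 : F) • v := by rw [two_smul]; abel
      rw [h4] at h3
      have := P.smul_mem (2 : F)⁻¹ h3
      rwa [smul_smul, inv_mul_cancel₀ h2, one_smul] at this
  obtain ⟨a1, a2, a3⟩ := key P₁ hv₁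
  obtain ⟨b1, b2, b3⟩ := key P₂ hv₂
  by_cases a : w ∈ P₁
  · have n1 : w + v ∉ P₁ := fun h => a1 ⟨a, h⟩
    have nm : w - v ∉ P₁ := fun h => a2 ⟨a, h⟩
    by_cases b : w + v ∈ P₂
    · have : w - v ∉ P₂ := fun h => b3 ⟨b, h⟩
      exact ⟨w - v, nm, this, cm⟩
    · exact ⟨w + v, n1, b, c1⟩
  · by_cases b : w ∈ P₂
    · have n1 : w + v ∉ P₂ := fun h => b1 ⟨b, h⟩
      have nm : w - v ∉ P₂ := fun h => b2 ⟨b, h⟩
      by_cases a' : w + v ∈ P₁
      · have : w - v ∉ P₁ := fun h => a3 ⟨a', h⟩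
        exact ⟨w - v, this, nm, cm⟩
      · exact ⟨w + v, a', n1, c1⟩
    · exact ⟨w, a, b, c0⟩

omit [Fintype F] in
theorem ctr_add_left (x x' : Fin m ⊕ Fin m → F) (X : V) :
    ctr m (x + x') X = ctr m x X + ctr m x' X := by
  funext k
  simp only [ctr, Pi.add_apply, sympForm_add_right]

/-- the vectors `x` with `ctr m x W = 0` -/
def PA (W : V) : Submodule F (Fin m ⊕ Fin m → F) where
  carrier := {x | ctr m x W = 0}
  add_mem' := by
    intro x x' hx hx'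
    change ctr m (x + x') W = 0
    rw [ctr_add_left, show ctr m x W = 0 from hx, show ctr m x' W = 0 from hx', add_zero]
  zero_mem' := by
    change ctr m 0 W = 0
    have := ctr_smul_left (m := m) (0 : F) (0 : Fin m ⊕ Fin m → F) W
    rwa [zero_smul, zero_smul] at this
  smul_mem' := by
    intro c x hx
    change ctr m (c • x) W = 0
    rw [ctr_smul_left, show ctr m x W = 0 from hx, smul_zero]

/-- the vectors `b` with `be p b = 0` -/
def PB (p : Fin 3 → F) : Submodule F (Fin 3 → F) where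
  carrier := {b | be p b = 0}
  add_mem' := by
    intro b b' hb hb'
    change be p (b + b') = 0
    rw [be_add_right, show be p b = 0 from hb, show be p b' = 0 from hb', add_zero]
  zero_mem' := by
    change be p 0 = 0
    simp [be]
  smul_mem' := by
    intro c b hb
    change be p (c • b) = 0
    rw [be_smul_right, show be p b = 0 from hb, mul_zero]

omit [Fintype F] in
theorem eq_zero_of_ctr (W : V) (h : ∀ x, ctr m x W = 0) : W = 0 := by
  apply eq_zero_of_tf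
  intro Y
  have key : ∀ (x : Fin m ⊕ Fin m → F) (y : Fin 3 → F), tf m W (vecMulVec x y) = 0 := by
    intro x y
    rw [tf_vecMulVec_right, h x]
    simp [be]
  rw [eq_sum_cols Y, tf_add_right, tf_add_right, key, key, key, add_zero, add_zero]

omit [Fintype F] in
theorem PA_ne_top {W : V} (hW : W ≠ 0) : PA W ≠ ⊤ := by
  intro h
  apply hW
  apply eq_zero_of_ctr
  intro x
  have : x ∈ PA W := by rw [h]; trivial
  exact this

omit [Fintype F] in
theorem PB_ne_top {p : Fin 3 → F} (hp : p ≠ 0) : PB p ≠ ⊤ := by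
  intro h
  apply hp
  apply eq_zero_of_be
  intro b
  have : b ∈ PB p := by rw [h]; trivial
  exact this

omit [Fintype F] in
/-- `𝒯` is closed under addition when it contains all pure tensors -/
theorem inT_add (h2 : (2 : F) ≠ 0) {M : Subgroup (V ≃ₗ[F] V)} (hSp : MSp m M)
    (hten : ∀ (x : Fin m ⊕ Fin m → F) (b : Fin 3 → F), InT M (vecMulVec x b))
    {Y Z : V} (hY : InT M Y) (hZ : InT M Z) : InT M (Y + Z) := by
  by_cases hZY : tf m Z Y ≠ 0
  · exact inT_add_of_ne hSp hY hZ hZY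
  push Not at hZY
  have hYZ : tf m Y Z = 0 := by rw [tf_swap, hZY, neg_zero]
  by_cases hY0 : Y = 0
  · rw [hY0, zero_add]; exact hZ
  by_cases hZ0 : Z = 0
  · rw [hZ0, add_zero]; exact hY
  by_cases hS0 : Y + Z = 0
  · rw [hS0]; exact inT_zero M
  obtain ⟨x, hx1, hx2, hx3⟩ := avoid3 h2 (PA Y) (PA Z) (PA (Y + Z)) (PA_ne_top hY0)
    (PA_ne_top hZ0) (PA_ne_top hS0)
  have hp : ctr m x Y ≠ 0 := hx1
  have hr : ctr m x Z ≠ 0 := hx2
  have hs : ctr m x (Y + Z) ≠ 0 := hx3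
  obtain ⟨b, hb1, hb2, hb3⟩ := avoid3 h2 (PB (ctr m x Y)) (PB (ctr m x Z)) (PB (ctr m x (Y + Z)))
    (PB_ne_top hp) (PB_ne_top hr) (PB_ne_top hs)
  have hb1' : be (ctr m x Y) b ≠ 0 := hb1
  have hb2' : be (ctr m x Z) b ≠ 0 := hb2
  have hb3' : be (ctr m x (Y + Z)) b ≠ 0 := hb3
  refine inT_add_of_orth h2 hSp hY hZ (hten x b) hYZ ?_ ?_ ?_
  · rw [tf_vecMulVec_left]; exact neg_ne_zero.mpr hb1'
  · rw [tf_vecMulVec_left]; exact neg_ne_zero.mpr hb2'
  · rw [tf_vecMulVec_left]; exact neg_ne_zero.mpr hb3'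

theorem allSpTv_of_tensor (h2 : (2 : F) ≠ 0) (hq : 5 ≤ Fintype.card F) (M : Subgroup (V ≃ₗ[F] V))
    (hSp : MSp m M)
    (hten : ∀ (c : F) (x : Fin m ⊕ Fin m → F) (b : Fin 3 → F),
      HasMap M (fun X => X + (c * tf m X (vecMulVec x b)) • vecMulVec x b)) :
    AllSpTv m M := by
  have hten' : ∀ (x : Fin m ⊕ Fin m → F) (b : Fin 3 → F), InT M (vecMulVec x b) :=
    fun x b c => hten c x b
  intro c Y
  have hY : InT M (vecMulVec (colv Y 0) e0 + vecMulVec (colv Y 1) e1 + vecMulVec (colv Y 2) e2) :=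
    inT_add h2 hSp hten' (inT_add h2 hSp hten' (hten' _ _) (hten' _ _)) (hten' _ _)
  rw [← eq_sum_cols Y] at hY
  exact hY c

end Cfsg.Agent.Lib.Helper89_SP3_TVALLB
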