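import Mathlib
import Cfsg.Agent.Lib.Helper97_SpTensBasic
import Cfsg.Agent.Lib.Helper89_SP3_TvRules

set_option autoImplicit false
set_option linter.unusedSectionVars false
set_option linter.unusedVariables false

/-!
# SP3-TVPURE (helper89, for helper97): from one transvection at a singular pure tensor to all of them
-/

namespace Cfsg.Agent.Lib.Helper89_SP3_TVPURE

open Matrix Module
open Cfsg.Agent.Lib.Helper98_ExtDefs Cfsg.Agent.Lib.Helper97_TensDefs
  Cfsg.Agent.Lib.Helper97_SpTensDefs Cfsg.Agent.Lib.Helper97_SpTensBasic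
  Cfsg.Agent.Lib.Helper97_TensBasic Cfsg.Agent.Lib.Helper89_SP3_TvRules
  Cfsg.Agent.Lib.Helper13_SympTrans

variable {F : Type*} [Field F] [Fintype F] {m : ℕ}

local notation "V" => Matrix (Fin m ⊕ Fin m) (Fin 3) F

/-- the lower unipotent element of `O(S0)` with first column `(1, s, -s²/2)` -/
def lowU (s : F) : Matrix (Fin 3) (Fin 3) F := !![1, 0, 0; s, 1, 0; -s ^ 2 / 2, -s, 1]

omit [Fintype F] in
theorem lowU_orth (h2 : (2 : F) ≠ 0) (s : F) : (lowU s)ᵀ * S0 F * lowU s = S0 F := by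
  ext i j
  fin_cases i <;> fin_cases j <;>
    simp [lowU, S0, Matrix.mul_apply, Fin.sum_univ_three] <;> (field_simp; ring)

omit [Fintype F] in
theorem lowU_e0 (s : F) : lowU s *ᵥ e0 = ![1, s, -s ^ 2 / 2] := by
  funext i
  fin_cases i <;> simp [lowU, e0, Matrix.mulVec, dotProduct, Fin.sum_univ_three]

omit [Fintype F] in
theorem S0_orth : (S0 F)ᵀ * S0 F * S0 F = S0 F := by
  ext i j
  fin_cases i <;> fin_cases j <;> simp [S0, Matrix.mul_apply, Fin.sum_univ_three]

omit [Fintype F] in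
theorem S0_e0 : S0 F *ᵥ e0 = (e2 : Fin 3 → F) := by
  funext i
  fin_cases i <;> simp [S0, e0, e2, Matrix.mulVec, dotProduct, Fin.sum_univ_three]

omit [Fintype F] in
/-- `O(S0)` is transitive on the singular points -/
theorem exists_orth_map (h2 : (2 : F) ≠ 0) (y : Fin 3 → F) (hy : y ≠ 0) (hs : be y y = 0) :
    ∃ (Q : Matrix (Fin 3) (Fin 3) F) (l : F), Qᵀ * S0 F * Q = S0 F ∧ l ≠ 0 ∧ y = l • (Q *ᵥ e0) := by
  have hs' : y 0 * y 2 + y 1 * y 1 + y 2 * y 0 = 0 := hs
  by_cases h0 : y 0 = 0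
  · have h1 : y 1 = 0 := by
      rw [h0] at hs'
      have : y 1 * y 1 = 0 := by linear_combination hs'
      exact mul_self_eq_zero.mp this
    have h2' : y 2 ≠ 0 := by
      intro h
      apply hy
      funext i
      fin_cases i <;> simp [h0, h1, h]
    refine ⟨S0 F, y 2, S0_orth, h2', ?_⟩
    rw [S0_e0]
    funext i
    fin_cases i <;> simp [e2, h0, h1]
  · refine ⟨lowU (y 1 / y 0), y 0, lowU_orth h2 _, h0, ?_⟩
    rw [lowU_e0]
    funext i
    fin_cases i
    · simp
    · simp only [Fin.mk_one, Fin.isValue, Pi.smul_apply, cons_val_one, cons_val_zero, smul_eq_mul]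
      field_simp
    · simp only [Fin.reduceFinMk, Fin.isValue, Pi.smul_apply, cons_val_two, Nat.succ_eq_add_one,
        Nat.reduceAdd, tail_cons, head_cons, smul_eq_mul]
      field_simp
      linear_combination hs'

theorem all_pure_tv (h2 : (2 : F) ≠ 0) (M : Subgroup (V ≃ₗ[F] V)) (hSp : MSp m M) (hK : KronSp m M)
    (x₀ : Fin m ⊕ Fin m → F) (hx₀ : x₀ ≠ 0)
    (h : HasMap M (fun X => X + (tf m X (vecMulVec x₀ e0)) • vecMulVec x₀ e0)) :
    ∀ (c : F) (x : Fin m ⊕ Fin m → F) (y : Fin 3 → F), be y y = 0 →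
      HasMap M (fun X => X + (c * tf m X (vecMulVec x y)) • vecMulVec x y) := by
  have h' : HasMap M (fun X => X + (1 * tf m X (vecMulVec x₀ e0)) • vecMulVec x₀ e0) := by
    refine hasMap_congr (fun X => ?_) h
    rw [one_mul]
  -- step 1: `t_{x ⊗ y}(1) ∈ M` for `x ≠ 0`, `y ≠ 0` singular
  have step1 : ∀ (x : Fin m ⊕ Fin m → F) (y : Fin 3 → F), x ≠ 0 → y ≠ 0 → be y y = 0 →
      HasMap M (fun X => X + (1 * tf m X (vecMulVec x y)) • vecMulVec x y) := by
    intro x y hx hy hs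
    obtain ⟨Q, l, hQ, hl, hyl⟩ := exists_orth_map h2 y hy hs
    obtain ⟨A, -, hA⟩ := exists_transv_map m x₀ (l • x) hx₀ (smul_ne_zero hl hx)
    obtain ⟨g, hg, hgx⟩ := hK (A : Matrix (Fin m ⊕ Fin m) (Fin m ⊕ Fin m) F) Q A.2 hQ
    have hgZ : g (vecMulVec x₀ e0) = vecMulVec x y := by
      rw [hgx]
      beta_reduce
      rw [kron_vecMulVec, hA, hyl, smul_vecMulVec, vecMulVec_smul]
    have := hasMap_conj_tv hSp hg h'
    rwa [hgZ] at this
  intro c x y hs
  by_cases hx : x = 0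
  · subst hx
    have e : vecMulVec (0 : Fin m ⊕ Fin m → F) y = 0 := zero_vecMulVec y
    rw [e]
    exact inT_zero M c
  by_cases hy : y = 0
  · subst hy
    have e : vecMulVec x (0 : Fin 3 → F) = 0 := by
      ext i k
      simp [vecMulVec_apply]
    rw [e]
    exact inT_zero M c
  have hT : InT M (vecMulVec x y) := by
    apply inT_of_one h2
    intro a ha
    have := step1 (a • x) y (smul_ne_zero ha hx) hy hs
    rwa [smul_vecMulVec] at this
  exact hT c

end Cfsg.Agent.Lib.Helper89_SP3_TVPURE
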