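import Mathlib
import Cfsg.Prelude.Def_LinearParabolics
import Cfsg.Agent.Lib.Helper99_StGLDefs

/-!
# StGL package A2c, core (helper89, for architect helper99, S2425)

Orbit-stabilizer for the action of `GL_n(F)` on flags of type `J`: the cosets of the parabolic subgroup of
`muJ n J` fixed by `g` correspond to the chains of `g`-invariant subspaces with dimension set `J + 1`.
`A2c_of` takes the statements of the packages A2a and A2b as hypotheses.
-/

set_option autoImplicit false
set_option linter.unnecessarySimpa false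
open scoped MatrixGroups

namespace Cfsg.Agent.Lib.Helper89_StGL_A2cCore
open Cfsg.Agent.Lib.Helper99_StGLDefs

variable {F : Type*} [Field F] {n : ℕ}

theorem linOf_mul (x y : GL (Fin n) F) : linOf (x * y) = linOf x * linOf y := by
  unfold linOf
  rw [Units.val_mul, Matrix.toLin'_mul]
  rfl

theorem linOf_one : linOf (1 : GL (Fin n) F) = 1 := by
  unfold linOf
  rw [Units.val_one, Matrix.toLin'_one]
  rfl

theorem linOf_inv_comp (x : GL (Fin n) F) : linOf x⁻¹ * linOf x = 1 := by
  rw [← linOf_mul, inv_mul_cancel, linOf_one]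

theorem linOf_injective (x : GL (Fin n) F) : Function.Injective (linOf x) := by
  intro v w h
  have := congrArg (linOf x⁻¹) h
  have e : ∀ u, linOf x⁻¹ (linOf x u) = u := fun u => by
    have := LinearMap.congr_fun (linOf_inv_comp x) u
    simpa using this
  rwa [e, e] at this

theorem map_map_linOf (x y : GL (Fin n) F) (W : Submodule F (Fin n → F)) :
    (W.map (linOf y)).map (linOf x) = W.map (linOf (x * y)) := by
  rw [linOf_mul, ← Submodule.map_comp]
  rfl

theorem map_linOf_one (W : Submodule F (Fin n → F)) : W.map (linOf (1 : GL (Fin n) F)) = W := by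
  rw [linOf_one]
  exact Submodule.map_id W

theorem finrank_map_linOf (x : GL (Fin n) F) (W : Submodule F (Fin n → F)) :
    Module.finrank F ↥(W.map (linOf x)) = Module.finrank F ↥W := by
  have := LinearEquiv.finrank_map_eq (LinearEquiv.ofInjectiveEndo (linOf x) (linOf_injective x)) W
  rw [← this]
  congr 2

/-- The coordinate subspace is `F^k`. -/
noncomputable def stdEquiv {k : ℕ} (hk : k ≤ n) : ↥(stdSub n F k) ≃ₗ[F] (Fin k → F) where
  toFun v := fun i => v.1 ⟨i.val, lt_of_lt_of_le i.2 hk⟩
  map_add' v w := by ext i; rfl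
  map_smul' c v := by ext i; rfl
  invFun w := ⟨fun i => if h : i.val < k then w ⟨i.val, h⟩ else 0, by
    intro i hi
    simp [not_lt.2 hi]⟩
  left_inv v := by
    apply Subtype.ext
    funext i
    by_cases h : i.val < k
    · simp [h]
    · simp only [h, dite_false]
      exact (v.2 i (not_lt.1 h)).symm
  right_inv w := by
    funext i
    simp [i.2]

theorem finrank_stdSub {k : ℕ} (hk : k ≤ n) : Module.finrank F ↥(stdSub n F k) = k := by
  rw [LinearEquiv.finrank_eq (stdEquiv (F := F) hk)]
  simp


theorem stdSub_mono {k k' : ℕ} (h : k ≤ k') : stdSub n F k ≤ stdSub n F k' := by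
  intro v hv i hi
  exact hv i (h.trans hi)

/-- The flag `x • (standard flag of type J)`. -/
noncomputable def flagOf (J : Finset ℕ) (x : GL (Fin n) F) : Finset (Submodule F (Fin n → F)) :=
  J.image (fun j => (stdSub n F (j + 1)).map (linOf x))

theorem mem_flagOf {J : Finset ℕ} {x : GL (Fin n) F} {W : Submodule F (Fin n → F)} :
    W ∈ flagOf J x ↔ ∃ j ∈ J, (stdSub n F (j + 1)).map (linOf x) = W := by
  unfold flagOf
  rw [Finset.mem_image]

theorem lt_of_mem {J : Finset ℕ} (hJ : J ⊆ Finset.range (n - 1)) {j : ℕ} (hj : j ∈ J) :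
    j + 1 < n := by
  have := Finset.mem_range.1 (hJ hj)
  omega

theorem finrank_member {J : Finset ℕ} (hJ : J ⊆ Finset.range (n - 1)) (x : GL (Fin n) F) {j : ℕ}
    (hj : j ∈ J) : Module.finrank F ↥((stdSub n F (j + 1)).map (linOf x)) = j + 1 := by
  rw [finrank_map_linOf, finrank_stdSub (lt_of_mem hJ hj).le]

theorem flagOf_eq_iff {J : Finset ℕ} (hJ : J ⊆ Finset.range (n - 1)) (x y : GL (Fin n) F) :
    flagOf J x = flagOf J y ↔
      ∀ j ∈ J, (stdSub n F (j + 1)).map (linOf x) = (stdSub n F (j + 1)).map (linOf y) := by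
  constructor
  · intro h j hj
    have hm : (stdSub n F (j + 1)).map (linOf x) ∈ flagOf J y := by
      rw [← h]; exact mem_flagOf.2 ⟨j, hj, rfl⟩
    obtain ⟨j', hj', he⟩ := mem_flagOf.1 hm
    have h1 := finrank_member hJ y hj'
    have h2 := finrank_member hJ x hj
    rw [he, h2] at h1
    have : j' = j := by omega
    rw [← he, this]
  · intro h
    unfold flagOf
    exact Finset.image_congr (fun j hj => h j hj)

theorem member_eq_iff (x y : GL (Fin n) F) (W : Submodule F (Fin n → F)) :
    W.map (linOf x) = W.map (linOf y) ↔ W.map (linOf (x⁻¹ * y)) = W := by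
  constructor
  · intro h
    have := congrArg (Submodule.map (linOf x⁻¹)) h
    rw [map_map_linOf, map_map_linOf, inv_mul_cancel, map_linOf_one] at this
    exact this.symm
  · intro h
    have := congrArg (Submodule.map (linOf x)) h
    rw [map_map_linOf, mul_inv_cancel_left] at this
    exact this.symm

theorem flagOf_mul (J : Finset ℕ) (g x : GL (Fin n) F) :
    flagOf J (g * x) = (flagOf J x).image (Submodule.map (linOf g)) := by
  unfold flagOf
  rw [Finset.image_image]
  apply Finset.image_congr
  intro j _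
  exact (map_map_linOf g x _).symm

theorem dims_flagOf {J : Finset ℕ} (hJ : J ⊆ Finset.range (n - 1)) (x : GL (Fin n) F) :
    (flagOf J x).image (fun W : Submodule F (Fin n → F) => Module.finrank F ↥W) =
      J.image (· + 1) := by
  unfold flagOf
  rw [Finset.image_image]
  apply Finset.image_congr
  intro j hj
  exact finrank_member hJ x hj

theorem chain_flagOf (J : Finset ℕ) (x : GL (Fin n) F) :
    IsChain (· ≤ ·) ((flagOf J x : Finset (Submodule F (Fin n → F))) :
      Set (Submodule F (Fin n → F))) := by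
  intro W hW W' hW' _
  obtain ⟨j, _, rfl⟩ := mem_flagOf.1 (Finset.mem_coe.1 hW)
  obtain ⟨j', _, rfl⟩ := mem_flagOf.1 (Finset.mem_coe.1 hW')
  rcases le_total j j' with h | h
  · left; exact Submodule.map_mono (stdSub_mono (by omega))
  · right; exact Submodule.map_mono (stdSub_mono (by omega))

theorem bounds_member {J : Finset ℕ} (hJ : J ⊆ Finset.range (n - 1)) (x : GL (Fin n) F) {j : ℕ}
    (hj : j ∈ J) : ⊥ < (stdSub n F (j + 1)).map (linOf x) ∧
      (stdSub n F (j + 1)).map (linOf x) < ⊤ := by
  have hf := finrank_member hJ x hj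
  constructor
  · rw [bot_lt_iff_ne_bot]
    intro h
    rw [h, finrank_bot] at hf
    omega
  · rw [lt_top_iff_ne_top]
    intro h
    rw [h, finrank_top, Module.finrank_fin_fun] at hf
    have := lt_of_mem hJ hj
    omega

theorem invt_iff (g : GL (Fin n) F) (W : Submodule F (Fin n → F)) :
    W ∈ (linOf g).invtSubmodule ↔ W.map (linOf g) = W := by
  rw [Module.End.mem_invtSubmodule_iff_map_le]
  constructor
  · intro h
    exact Submodule.eq_of_le_of_finrank_eq h (finrank_map_linOf g W)
  · intro h
    exact h.le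

/-- The statement of A2c from the statements of A2a and A2b. -/
theorem A2c_of [Fintype F] (n : ℕ) (J : Finset ℕ) (hJ : J ⊆ Finset.range (n - 1))
    (hA2a : ∀ h : GL (Fin n) F, h ∈ Cfsg.parabolicGL n F (muJ n J) ↔
      ∀ j ∈ J, (stdSub n F (j + 1)).map (linOf h) = stdSub n F (j + 1))
    (hA2b : ∀ C : Finset (Submodule F (Fin n → F)),
      IsChain (· ≤ ·) (C : Set (Submodule F (Fin n → F))) →
      C.image (fun W : Submodule F (Fin n → F) => Module.finrank F ↥W) = J.image (· + 1) →
      ∃ h : GL (Fin n) F, C = J.image (fun j => (stdSub n F (j + 1)).map (linOf h)))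
    (g : GL (Fin n) F) :
    Cfsg.fixedPointCharacter (Cfsg.parabolicGL n F (muJ n J)) g =
      (Nat.card {C : Finset (Submodule F (Fin n → F)) //
        IsMidChain (linOf g) ⊤ C ∧
          C.image (fun W : Submodule F (Fin n → F) => Module.finrank F ↥W) = J.image (· + 1)} : ℂ) := by
  set P := Cfsg.parabolicGL n F (muJ n J) with hP
  -- key: equality of flags ↔ same coset
  have key : ∀ x y : GL (Fin n) F, flagOf J x = flagOf J y ↔ x⁻¹ * y ∈ P := by
    intro x y
    rw [flagOf_eq_iff hJ, hA2a]
    constructor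
    · intro h j hj
      exact (member_eq_iff x y _).1 (h j hj)
    · intro h j hj
      exact (member_eq_iff x y _).2 (h j hj)
  -- fixed cosets
  have fixed_iff : ∀ x : GL (Fin n) F,
      ((x : GL (Fin n) F ⧸ P) ∈ MulAction.fixedBy (GL (Fin n) F ⧸ P) g) ↔
        ∀ W ∈ flagOf J x, W ∈ (linOf g).invtSubmodule := by
    intro x
    rw [MulAction.mem_fixedBy, MulAction.Quotient.smul_mk, smul_eq_mul, QuotientGroup.eq, ← key,
      flagOf_eq_iff hJ]
    constructor
    · intro h W hW
      obtain ⟨j, hj, rfl⟩ := mem_flagOf.1 hW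
      rw [invt_iff, map_map_linOf]
      exact h j hj
    · intro h j hj
      rw [← map_map_linOf]
      exact (invt_iff g _).1 (h _ (mem_flagOf.2 ⟨j, hj, rfl⟩))
  -- the map on cosets
  let Ψ : GL (Fin n) F ⧸ P → Finset (Submodule F (Fin n → F)) := fun q =>
    Quotient.liftOn' q (flagOf J) (fun a b hab => (key a b).2 (QuotientGroup.leftRel_apply.1 hab))
  have hΨ : ∀ x : GL (Fin n) F, Ψ (x : GL (Fin n) F ⧸ P) = flagOf J x := fun x => rfl
  have hmid : ∀ q : MulAction.fixedBy (GL (Fin n) F ⧸ P) g,
      IsMidChain (linOf g) ⊤ (Ψ q.1) ∧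
        (Ψ q.1).image (fun W : Submodule F (Fin n → F) => Module.finrank F ↥W) =
          J.image (· + 1) := by
    rintro ⟨q, hq⟩
    induction q using QuotientGroup.induction_on with
    | H x =>
      rw [hΨ]
      refine ⟨⟨fun W hW => ?_, chain_flagOf J x⟩, dims_flagOf hJ x⟩
      refine ⟨(fixed_iff x).1 hq W hW, ?_⟩
      obtain ⟨j, hj, rfl⟩ := mem_flagOf.1 hW
      exact bounds_member hJ x hj
  unfold Cfsg.fixedPointCharacter
  congr 1
  apply Nat.card_congr
  refine Equiv.ofBijective (fun q => ⟨Ψ q.1, hmid q⟩) ⟨?_, ?_⟩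
  · rintro ⟨q, hq⟩ ⟨q', hq'⟩ h
    have h' : Ψ q = Ψ q' := congrArg Subtype.val h
    apply Subtype.ext
    show q = q'
    induction q using QuotientGroup.induction_on with
    | H x =>
      induction q' using QuotientGroup.induction_on with
      | H y =>
        rw [hΨ, hΨ, key] at h'
        exact QuotientGroup.eq.2 h'
  · rintro ⟨C, hC, hdim⟩
    obtain ⟨h, rfl⟩ := hA2b C hC.2 hdim
    have hfix : ((h : GL (Fin n) F ⧸ P) ∈ MulAction.fixedBy (GL (Fin n) F ⧸ P) g) := by
      rw [fixed_iff]
      intro W hW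
      exact (hC.1 W hW).1
    exact ⟨⟨(h : GL (Fin n) F ⧸ P), hfix⟩, Subtype.ext rfl⟩

end Cfsg.Agent.Lib.Helper89_StGL_A2cCore
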