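import Mathlib
import Cfsg.Prelude.Def_LinearParabolics
import Cfsg.Agent.Lib.Helper99_StGLDefs
import Cfsg.Agent.Lib.Helper73_StGL_A2a
import Cfsg.Agent.Lib.Helper4_StGL_A2b
import Cfsg.Agent.Lib.Helper89_StGL_A2cCore

/-!
# StGL package A2c (helper89, for architect helper99, S2425)

The value of the permutation character on the cosets of the parabolic subgroup of `muJ n J` at `g` is the number
of chains of `g`-invariant subspaces with dimension set `J + 1` (orbit-stabilizer; packages A2a, A2b).
-/

set_option autoImplicit false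
open scoped MatrixGroups

namespace Cfsg.Agent.Lib.Helper89_StGL_A2c
open Cfsg.Agent.Lib.Helper99_StGLDefs

variable {F : Type*} [Field F]

theorem A2c [Fintype F] (n : ℕ) (J : Finset ℕ) (hJ : J ⊆ Finset.range (n - 1)) (g : GL (Fin n) F) :
    Cfsg.fixedPointCharacter (Cfsg.parabolicGL n F (muJ n J)) g =
      (Nat.card {C : Finset (Submodule F (Fin n → F)) //
        IsMidChain (linOf g) ⊤ C ∧
          C.image (fun W : Submodule F (Fin n → F) => Module.finrank F ↥W) = J.image (· + 1)} : ℂ) :=
  Cfsg.Agent.Lib.Helper89_StGL_A2cCore.A2c_of n J hJ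
    (fun h => Cfsg.Agent.Lib.Helper73_StGL_A2a.A2a n J hJ h)
    (fun C hC hdim => Cfsg.Agent.Lib.Helper4_StGL_A2b.A2b n J hJ C hC hdim) g

end Cfsg.Agent.Lib.Helper89_StGL_A2c
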