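import Mathlib
import Cfsg.Prelude.Def_Transfer
import Cfsg.Prelude.Def_CaseTheorems
import Cfsg.Agent.S3762
import Cfsg.Agent.Lib.Helper93_LES

set_option autoImplicit false

namespace Cfsg.Agent.Lib.Helper89_SympExp4

open Cfsg
open scoped commutatorElement

/-- a cyclic group has at most one involution. -/
theorem involution_unique_of_isCyclic {A : Type*} [Group A] [Finite A] [IsCyclic A] {a b : A}
    (ha : a * a = 1) (hb : b * b = 1) (hb1 : b ≠ 1) : a = 1 ∨ a = b := by
  classical
  have := Fintype.ofFinite A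
  by_contra hcon
  push Not at hcon
  obtain ⟨ha1, hab⟩ := hcon
  have h1 := IsCyclic.card_pow_eq_one_le (α := A) (n := 2) (by norm_num)
  have h2 : ({1, b, a} : Finset A) ⊆ Finset.univ.filter (fun x : A => x ^ 2 = 1) := by
    intro x hx
    simp only [Finset.mem_insert, Finset.mem_singleton] at hx
    simp only [Finset.mem_filter, Finset.mem_univ, true_and]
    rcases hx with rfl | rfl | rfl
    · exact one_pow 2
    · rw [pow_two]; exact hb
    · rw [pow_two]; exact ha
  have h3 : ({1, b, a} : Finset A).card = 3 := by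
    rw [Finset.card_eq_three]
    exact ⟨1, b, a, hb1.symm, ha1.symm, fun h => hab h.symm, rfl⟩
  have h4 := Finset.card_le_card h2
  omega

variable {P : Type*} [Group P] [Finite P]

/-- in a group of symplectic type a central involution is unique. -/
theorem central_involution_unique
    (hsymp : ∀ A : Subgroup P, A.Characteristic → IsMulCommutative A → IsCyclic A)
    {z₀ c : P} (hz1 : z₀ ≠ 1) (hz2 : z₀ * z₀ = 1) (hzc : ∀ a : P, a * z₀ = z₀ * a)
    (hc2 : c * c = 1) (hcc : ∀ a : P, a * c = c * a) : c = 1 ∨ c = z₀ := by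
  have hcyc : IsCyclic (Subgroup.center P) := hsymp _ inferInstance inferInstance
  have hzZ : z₀ ∈ Subgroup.center P := Subgroup.mem_center_iff.mpr hzc
  have hcZ : c ∈ Subgroup.center P := Subgroup.mem_center_iff.mpr hcc
  have := involution_unique_of_isCyclic (A := Subgroup.center P) (a := ⟨c, hcZ⟩) (b := ⟨z₀, hzZ⟩)
    (Subtype.ext hc2) (Subtype.ext hz2) (fun h => hz1 (congrArg Subtype.val h))
  rcases this with h | h
  · exact Or.inl (congrArg Subtype.val h)
  · exact Or.inr (congrArg Subtype.val h)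

/-- dihedral, quaternion and quasidihedral groups of order at least `16` have an element of order
greater than four. -/
theorem exists_pow_four_ne_one {R : Type*} [Group R]
    (h16 : 16 ≤ Nat.card R)
    (h : (∃ m : ℕ, Nonempty (R ≃* DihedralGroup m)) ∨ (∃ m : ℕ, Nonempty (R ≃* QuaternionGroup m)) ∨
      Cfsg.IsQuasiDihedral R) : ∃ r : R, r ^ 4 ≠ 1 := by
  rcases h with ⟨m, ⟨e⟩⟩ | ⟨m, ⟨e⟩⟩ | ⟨n, hn, _, x, _, hx, _, _⟩
  · have hc : Nat.card R = 2 * m := by
      rw [Nat.card_congr e.toEquiv, DihedralGroup.nat_card]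
    refine ⟨e.symm (DihedralGroup.r 1), fun h1 => ?_⟩
    have h2 : (DihedralGroup.r 1 : DihedralGroup m) ^ 4 = 1 := by
      have := congrArg e h1
      rwa [map_pow, MulEquiv.apply_symm_apply, map_one] at this
    have h3 := orderOf_dvd_of_pow_eq_one h2
    rw [DihedralGroup.orderOf_r_one] at h3
    have := Nat.le_of_dvd (by norm_num) h3
    omega
  · have hm : m ≠ 0 := by
      rintro rfl
      have hfR : Finite R := Nat.finite_of_card_ne_zero (by omega)
      have hfQ : Finite (QuaternionGroup 0) := Finite.of_equiv R e.toEquiv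
      have := orderOf_pos (QuaternionGroup.a 1 : QuaternionGroup 0)
      rw [QuaternionGroup.orderOf_a_one] at this
      omega
    have : NeZero m := ⟨hm⟩
    have hc : Nat.card R = 4 * m := by
      rw [Nat.card_congr e.toEquiv, Nat.card_eq_fintype_card, QuaternionGroup.card]
    refine ⟨e.symm (QuaternionGroup.a 1), fun h1 => ?_⟩
    have h2 : (QuaternionGroup.a 1 : QuaternionGroup m) ^ 4 = 1 := by
      have := congrArg e h1
      rwa [map_pow, MulEquiv.apply_symm_apply, map_one] at this
    have h3 := orderOf_dvd_of_pow_eq_one h2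
    rw [QuaternionGroup.orderOf_a_one] at h3
    have := Nat.le_of_dvd (by norm_num) h3
    omega
  · refine ⟨x, fun h1 => ?_⟩
    have h3 := orderOf_dvd_of_pow_eq_one h1
    rw [hx] at h3
    have := Nat.le_of_dvd (by norm_num) h3
    have h8 : 2 ^ 3 ≤ 2 ^ n := Nat.pow_le_pow_right (by norm_num) hn
    omega

open Cfsg.Agent.Lib.Helper93_LES in
/-- in a `2`-group of symplectic type and exponent four, all commutators lie in `{1, z₀}` for the central
involution `z₀`. -/
theorem comm_of_symplectic (hP : IsPGroup 2 P)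
    (hsymp : ∀ A : Subgroup P, A.Characteristic → IsMulCommutative A → IsCyclic A)
    (h4 : ∀ q : P, q ^ 4 = 1) {z₀ : P} (hz1 : z₀ ≠ 1) (hz2 : z₀ * z₀ = 1)
    (hzc : ∀ a : P, a * z₀ = z₀ * a) :
    ∀ a b : P, a * b * a⁻¹ * b⁻¹ = 1 ∨ a * b * a⁻¹ * b⁻¹ = z₀ := by
  have : Fact (Nat.Prime 2) := ⟨Nat.prime_two⟩
  obtain ⟨E, R, hER, hsup, hE, hR⟩ := Cfsg.Agent.S3762.result hP hsymp
  -- `R` is abelian
  have hRab : ∀ r ∈ R, ∀ s ∈ R, r * s = s * r := by
    rcases hR with hcyc | ⟨_, h16, hDQ⟩
    · intro r hr s hs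
      have := hcyc.isMulCommutative.is_comm.comm ⟨r, hr⟩ ⟨s, hs⟩
      exact congrArg Subtype.val this
    · exfalso
      obtain ⟨r, hr⟩ := exists_pow_four_ne_one h16 hDQ
      apply hr
      apply Subtype.ext
      rw [Subgroup.coe_pow, Subgroup.coe_one]
      exact h4 r.1
  -- product decomposition
  have hprod : ∀ g : P, ∃ e ∈ E, ∃ r ∈ R, g = e * r := by
    intro g
    have h1 : R ≤ Subgroup.normalizer (E : Set P) := by
      refine le_trans ?_ (Subgroup.centralizer_le_normalizer _)
      intro r hr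
      rw [Subgroup.mem_centralizer_iff]
      intro e he
      exact hER e he r hr
    have h2 := Subgroup.coe_mul_of_right_le_normalizer_left E R h1
    have h3 : g ∈ ((E ⊔ R : Subgroup P) : Set P) := by
      rw [hsup]; exact Subgroup.mem_top g
    rw [h2] at h3
    obtain ⟨e, he, r, hr, rfl⟩ := Set.mem_mul.mp h3
    exact ⟨e, he, r, hr, rfl⟩
  -- commutators of `E`
  have hEcomm : ∀ e ∈ E, ∀ e' ∈ E, e * e' * e⁻¹ * e'⁻¹ = 1 ∨ e * e' * e⁻¹ * e'⁻¹ = z₀ := by
    rcases hE with hbot | hES
    · intro e he e' he'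
      rw [hbot, Subgroup.mem_bot] at he he'
      left
      rw [he, he']; group
    · obtain ⟨⟨_, _, hcomm⟩, hcard⟩ := hES
      -- a nontrivial central element of `E`
      have hnt : Nontrivial (Subgroup.center ↥E) := by
        rw [← Finite.one_lt_card_iff_nontrivial, hcard]; norm_num
      obtain ⟨ζ, hζ⟩ := exists_ne (1 : Subgroup.center ↥E)
      have hζ1 : (ζ : ↥E) ≠ 1 := fun h => hζ (Subtype.ext h)
      have hcenter : ∀ a : ↥E, a ∈ Subgroup.center ↥E → a = 1 ∨ a = (ζ : ↥E) :=
        fun a ha => eq_one_or_of_card_two _ hcard ζ.2 hζ1 ha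
      have hζ2 : (ζ : ↥E) * (ζ : ↥E) = 1 := by
        rcases hcenter _ (Subgroup.mul_mem _ ζ.2 ζ.2) with h | h
        · exact h
        · exfalso
          apply hζ1
          have : (ζ : ↥E) * (ζ : ↥E) = (ζ : ↥E) * 1 := by rw [h, mul_one]
          exact mul_left_cancel this
      -- `ζ` is central in `P`
      have hζc : ∀ a : P, a * ((ζ : ↥E) : P) = ((ζ : ↥E) : P) * a := by
        intro a
        obtain ⟨e, he, r, hr, rfl⟩ := hprod a
        have h1 : e * ((ζ : ↥E) : P) = ((ζ : ↥E) : P) * e := by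
          have := Subgroup.mem_center_iff.mp ζ.2 ⟨e, he⟩
          exact congrArg Subtype.val this
        have h2 : ((ζ : ↥E) : P) * r = r * ((ζ : ↥E) : P) := hER _ (ζ : ↥E).2 r hr
        calc e * r * ((ζ : ↥E) : P) = e * (r * ((ζ : ↥E) : P)) := by group
          _ = e * (((ζ : ↥E) : P) * r) := by rw [h2]
          _ = (e * ((ζ : ↥E) : P)) * r := by group
          _ = ((ζ : ↥E) : P) * (e * r) := by rw [h1]; group
      have hζz : ((ζ : ↥E) : P) = z₀ := by
        rcases central_involution_unique hsymp hz1 hz2 hzc (c := ((ζ : ↥E) : P))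
          (by have := congrArg Subtype.val hζ2; simpa using this) hζc with h | h
        · exfalso; apply hζ1; exact Subtype.ext h
        · exact h
      intro e he e' he'
      have h1 : ⁅(⟨e, he⟩ : ↥E), ⟨e', he'⟩⁆ ∈ commutator ↥E :=
        Subgroup.commutator_mem_commutator (Subgroup.mem_top _) (Subgroup.mem_top _)
      rw [hcomm] at h1
      rcases hcenter _ h1 with h | h
      · left
        have := congrArg Subtype.val h
        simpa [commutatorElement_def] using this
      · right
        have := congrArg Subtype.val h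
        rw [hζz] at this
        simpa [commutatorElement_def] using this
  intro a b
  obtain ⟨e, he, r, hr, rfl⟩ := hprod a
  obtain ⟨e', he', r', hr', rfl⟩ := hprod b
  have h1 : (e * r) * (e' * r') = (e * e') * (r * r') := by
    calc (e * r) * (e' * r') = e * (r * e') * r' := by group
      _ = e * (e' * r) * r' := by rw [hER e' he' r hr]
      _ = (e * e') * (r * r') := by group
  have h2 : (e' * r') * (e * r) = (e' * e) * (r * r') := by
    calc (e' * r') * (e * r) = e' * (r' * e) * r := by group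
      _ = e' * (e * r') * r := by rw [hER e he r' hr']
      _ = (e' * e) * (r' * r) := by group
      _ = (e' * e) * (r * r') := by rw [hRab r hr r' hr']
  have h3 : (e * r) * (e' * r') * (e * r)⁻¹ * (e' * r')⁻¹ = e * e' * e⁻¹ * e'⁻¹ := by
    calc (e * r) * (e' * r') * (e * r)⁻¹ * (e' * r')⁻¹
        = ((e * r) * (e' * r')) * ((e' * r') * (e * r))⁻¹ := by group
      _ = ((e * e') * (r * r')) * ((e' * e) * (r * r'))⁻¹ := by rw [h1, h2]
      _ = e * e' * e⁻¹ * e'⁻¹ := by group
  rw [h3]
  exact hEcomm e he e' he'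

end Cfsg.Agent.Lib.Helper89_SympExp4
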