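import Mathlib
import Cfsg.Prelude.Def_Solvable
import Cfsg.Prelude.Def_Transfer
import Cfsg.Agent.Lib.Helper93_LES
import Cfsg.Agent.Lib.Helper93_LESSym

set_option autoImplicit false

namespace Cfsg.Agent.Lib.Helper89_SympOrth

open Cfsg
open Cfsg.Agent.Lib.Helper93_LES Cfsg.Agent.Lib.Helper93_LESSym

variable {G : Type*} [Group G]

/-- A weak form of helper93's `LES`: commutators of `Q` lie in `{1, z}` and the only involution of `G`
centralizing `Q` is `z` (so that `Z(Q)` may be cyclic of order four). -/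
structure WES (Q : Subgroup G) (z : G) : Prop where
  ne_one : z ≠ 1
  sq : z * z = 1
  mem : z ∈ Q
  central : ∀ a ∈ Q, a * z = z * a
  comm : ∀ a ∈ Q, ∀ b ∈ Q, a * b * a⁻¹ * b⁻¹ = 1 ∨ a * b * a⁻¹ * b⁻¹ = z
  selfcent : ∀ c : G, (∀ b ∈ Q, c * b = b * c) → c * c = 1 → c = 1 ∨ c = z

/-- Transport of `WES` along conjugation. -/
theorem WES.conj {z : G} (h : WES (tc z) z) (g : G) : WES (tc (g * z * g⁻¹)) (g * z * g⁻¹) := by
  have tr : ∀ a, a ∈ tc (g * z * g⁻¹) ↔ g⁻¹ * a * g ∈ tc z := by
    intro a
    have := @mem_tc_conj_iff G _ z (g⁻¹ * a * g) g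
    rw [← this]
    have e : g * (g⁻¹ * a * g) * g⁻¹ = a := by group
    rw [e]
  refine ⟨?_, ?_, ?_, ?_, ?_, ?_⟩
  · intro hh
    apply h.ne_one
    have : z = g⁻¹ * (g * z * g⁻¹) * g := by group
    rw [this, hh]; group
  · calc g * z * g⁻¹ * (g * z * g⁻¹) = g * (z * z) * g⁻¹ := by group
      _ = 1 := by rw [h.sq]; group
  · rw [tr]
    have : g⁻¹ * (g * z * g⁻¹) * g = z := by group
    rw [this]; exact h.mem
  · intro a ha
    rw [tr] at ha
    have := h.central _ ha
    calc a * (g * z * g⁻¹) = g * ((g⁻¹ * a * g) * z) * g⁻¹ := by group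
      _ = g * (z * (g⁻¹ * a * g)) * g⁻¹ := by rw [this]
      _ = g * z * g⁻¹ * a := by group
  · intro a ha b hb
    rw [tr] at ha hb
    have e : a * b * a⁻¹ * b⁻¹ =
        g * ((g⁻¹ * a * g) * (g⁻¹ * b * g) * (g⁻¹ * a * g)⁻¹ * (g⁻¹ * b * g)⁻¹) * g⁻¹ := by
      group
    rcases h.comm _ ha _ hb with h1 | h1
    · left; rw [e, h1]; group
    · right; rw [e, h1]
  · intro c hc hc2
    have h1 : ∀ b ∈ tc z, (g⁻¹ * c * g) * b = b * (g⁻¹ * c * g) := by
      intro b hb
      have hb' : g * b * g⁻¹ ∈ tc (g * z * g⁻¹) := mem_tc_conj g hb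
      have := hc _ hb'
      calc g⁻¹ * c * g * b = g⁻¹ * (c * (g * b * g⁻¹)) * g := by group
        _ = g⁻¹ * ((g * b * g⁻¹) * c) * g := by rw [this]
        _ = b * (g⁻¹ * c * g) := by group
    have h2 : (g⁻¹ * c * g) * (g⁻¹ * c * g) = 1 := by
      calc (g⁻¹ * c * g) * (g⁻¹ * c * g) = g⁻¹ * (c * c) * g := by group
        _ = 1 := by rw [hc2]; group
    rcases h.selfcent _ h1 h2 with h3 | h3
    · left
      have : c = g * (g⁻¹ * c * g) * g⁻¹ := by group
      rw [this, h3]; group
    · right
      have : c = g * (g⁻¹ * c * g) * g⁻¹ := by group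
      rw [this, h3]

/-- A noncentral involution `x` of `tc z` is moved by some `q0 ∈ tc z` to `x * z`. -/
theorem exists_q0 {z x : G} (h : WES (tc z) z) (hx : x ∈ tc z) (hx1 : x ≠ 1) (hxz : x ≠ z)
    (hx2 : x * x = 1) : ∃ q0 ∈ tc z, q0 * x * q0⁻¹ = x * z := by
  have hex : ∃ c ∈ tc z, c * x ≠ x * c := by
    by_contra hcon
    push Not at hcon
    have : ∀ b ∈ tc z, x * b = b * x := fun b hb => (hcon b hb).symm
    rcases h.selfcent x this hx2 with h' | h'
    · exact hx1 h'
    · exact hxz h'
  obtain ⟨c, hc, hcx⟩ := hex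
  refine ⟨c, hc, ?_⟩
  have h1 : c * x * c⁻¹ * x⁻¹ = z := by
    rcases h.comm c hc x hx with h' | h'
    · exfalso
      apply hcx
      calc c * x = (c * x * c⁻¹ * x⁻¹) * x * c := by group
        _ = x * c := by rw [h']; group
    · exact h'
  calc c * x * c⁻¹ = (c * x * c⁻¹ * x⁻¹) * x := by group
    _ = z * x := by rw [h1]
    _ = x * z := (h.central x hx).symm

/-- Involutions centralizing `R = C_{tc z}(x)` are `z`, `x` or `x * z`. -/
theorem fixed_class {z x a : G} (h : WES (tc z) z) (hx : x ∈ tc z) (hx1 : x ≠ 1) (hxz : x ≠ z)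
    (hx2 : x * x = 1) (ha1 : a ≠ 1) (ha2 : a * a = 1)
    (ha : ∀ r ∈ tc z, r * x = x * r → r * a = a * r) : a = z ∨ a = x ∨ a = x * z := by
  obtain ⟨y, hy, hyx⟩ := exists_q0 h hx hx1 hxz hx2
  have hzz : z * z = 1 := h.sq
  have hzc : ∀ b ∈ tc z, b * z = z * b := h.central
  have hzx : z * x = x * z := (hzc x hx).symm
  have hxinv : x⁻¹ = x := inv_eq_of_mul_eq_one_left hx2
  have haz : z * a = a * z := ha z h.mem hzx
  have hacen : a ∈ Subgroup.centralizer ({z} : Set G) := by
    rw [Subgroup.mem_centralizer_iff]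
    intro w hw
    rw [Set.mem_singleton_iff] at hw
    subst hw
    exact haz
  have hainv : a⁻¹ = a := inv_eq_of_mul_eq_one_left ha2
  have hyinv : y⁻¹ ∈ tc z := Subgroup.inv_mem _ hy
  have hyx' : y * x = x * z * y := by
    calc y * x = (y * x * y⁻¹) * y := by group
      _ = x * z * y := by rw [hyx]
  have hyz : y * z = z * y := hzc y hy
  -- `y⁻¹ * (x * z) * y = x`
  have hyx'' : y⁻¹ * (x * z) * y = x := by
    rw [← hyx]; group
  have full : ∀ w : G, (∀ r ∈ tc z, r * x = x * r → r * w = w * r) → y * w = w * y → w * w = 1 →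
      w = 1 ∨ w = z := by
    intro w hwR hwq hw2
    apply h.selfcent _ _ hw2
    intro q hqm
    rcases h.comm q hqm x hx with h' | h'
    · have : q * x = x * q := by
        calc q * x = (q * x * q⁻¹ * x⁻¹) * x * q := by group
          _ = x * q := by rw [h']; group
      exact (hwR q hqm this).symm
    · have h1 : q * x * q⁻¹ = x * z := by
        calc q * x * q⁻¹ = (q * x * q⁻¹ * x⁻¹) * x := by group
          _ = z * x := by rw [h']
          _ = x * z := hzx
      have h2 : (y⁻¹ * q) * x = x * (y⁻¹ * q) := by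
        calc (y⁻¹ * q) * x = y⁻¹ * (q * x * q⁻¹) * y * (y⁻¹ * q) := by group
          _ = (y⁻¹ * (x * z) * y) * (y⁻¹ * q) := by rw [h1]
          _ = x * (y⁻¹ * q) := by rw [hyx'']
      have h3 := hwR (y⁻¹ * q) (Subgroup.mul_mem _ hyinv hqm) h2
      calc w * q = (w * y) * (y⁻¹ * q) := by group
        _ = y * w * (y⁻¹ * q) := by rw [hwq]
        _ = y * (w * (y⁻¹ * q)) := by group
        _ = y * ((y⁻¹ * q) * w) := by rw [h3]
        _ = q * w := by group
  -- the commutator `c = [a, y]`
  have hcQ : a * y * a * y⁻¹ ∈ tc z := by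
    have h1 : a * y * a⁻¹ ∈ tc z := conj_mem_tc hy hacen
    rw [hainv] at h1
    exact Subgroup.mul_mem _ h1 hyinv
  set c := a * y * a * y⁻¹ with hcdef
  have e1 : a * y * a = c * y := by rw [hcdef]; group
  have hcR : ∀ r ∈ tc z, r * x = x * r → r * c = c * r := by
    intro r hr hrx
    have hr1 : y⁻¹ * r * y ∈ tc z := Subgroup.mul_mem _ (Subgroup.mul_mem _ hyinv hr) hy
    have hrz : r * z = z * r := hzc r hr
    have hr1x : (y⁻¹ * r * y) * x = x * (y⁻¹ * r * y) := by
      calc (y⁻¹ * r * y) * x = y⁻¹ * r * (y * x) := by group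
        _ = y⁻¹ * r * (x * z * y) := by rw [hyx']
        _ = y⁻¹ * (r * x) * z * y := by group
        _ = y⁻¹ * (x * r) * z * y := by rw [hrx]
        _ = y⁻¹ * x * (r * z) * y := by group
        _ = y⁻¹ * x * (z * r) * y := by rw [hrz]
        _ = (y⁻¹ * (x * z) * y) * (y⁻¹ * r * y) := by group
        _ = x * (y⁻¹ * r * y) := by rw [hyx'']
    have e2 := ha r hr hrx
    have e3 := ha _ hr1 hr1x
    calc r * c = (r * a) * y * a * y⁻¹ := by rw [hcdef]; group
      _ = a * r * y * a * y⁻¹ := by rw [e2]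
      _ = a * y * ((y⁻¹ * r * y) * a) * y⁻¹ := by group
      _ = a * y * (a * (y⁻¹ * r * y)) * y⁻¹ := by rw [e3]
      _ = c * r := by rw [hcdef]; group
  have hcx : c * x = x * c := (hcR x hx rfl).symm
  have hac : c * a = a * c := ha c hcQ hcx
  have hcc : c * c = 1 := by
    have h1 : 1 * y = c * c * y := by
      calc 1 * y = (a * a) * y * (a * a) := by rw [ha2]; group
        _ = a * (a * y * a) * a := by group
        _ = a * (c * y) * a := by rw [e1]
        _ = (a * c) * y * a := by group
        _ = (c * a) * y * a := by rw [hac]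
        _ = c * (a * y * a) := by group
        _ = c * (c * y) := by rw [e1]
        _ = c * c * y := by group
    exact (mul_right_cancel h1).symm
  have hy2x : (y * y) * x = x * (y * y) := by
    calc (y * y) * x = y * (y * x) := by group
      _ = y * (x * z * y) := by rw [hyx']
      _ = (y * x) * z * y := by group
      _ = x * z * (y * z) * y := by rw [hyx']; group
      _ = x * z * (z * y) * y := by rw [hyz]
      _ = x * (z * z) * (y * y) := by group
      _ = x * (y * y) := by rw [hzz]; group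
  have hay2 : (y * y) * a = a * (y * y) := ha (y * y) (Subgroup.mul_mem _ hy hy) hy2x
  have hcy : y * c = c * y := by
    have e2 : c * y * (c * y) = y * y := by
      calc c * y * (c * y) = (a * y * a) * (a * y * a) := by rw [e1]
        _ = a * y * (a * a) * y * a := by group
        _ = a * (y * y) * a := by rw [ha2]; group
        _ = (y * y) * a * a := by rw [← hay2]
        _ = y * y := by rw [mul_assoc, ha2, mul_one]
    have e3 : c * y * c = y := by
      have : c * y * c * y = y * y := by rw [← e2]; group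
      exact mul_right_cancel this
    calc y * c = (c * c) * y * c := by rw [hcc]; group
      _ = c * (c * y * c) := by group
      _ = c * y := by rw [e3]
  rcases full c hcR hcy hcc with hc1 | hcz
  · -- `a` commutes with `y`
    have e4 : a * y * a = y := by rw [e1, hc1, one_mul]
    have hya : y * a = a * y := by
      calc y * a = (a * y * a) * a := by rw [e4]
        _ = a * y * (a * a) := by group
        _ = a * y := by rw [ha2, mul_one]
    rcases full a ha hya ha2 with h1 | h1
    · exact absurd h1 ha1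
    · exact Or.inl h1
  · right
    have hax : a * x = x * a := (ha x hx rfl).symm
    have hw2 : (a * x) * (a * x) = 1 := by
      calc (a * x) * (a * x) = a * (x * a) * x := by group
        _ = a * (a * x) * x := by rw [hax]
        _ = (a * a) * (x * x) := by group
        _ = 1 := by rw [ha2, hx2, one_mul]
    have hwR : ∀ r ∈ tc z, r * x = x * r → r * (a * x) = (a * x) * r := by
      intro r hr hrx
      calc r * (a * x) = (r * a) * x := by group
        _ = a * (r * x) := by rw [ha r hr hrx]; group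
        _ = a * x * r := by rw [hrx]; group
    have hwy : y * (a * x) = (a * x) * y := by
      have e4 : a * y * a = z * y := by rw [e1, hcz]
      have e5 : y * a = a * z * y := by
        calc y * a = (a * a) * y * a := by rw [ha2]; group
          _ = a * (a * y * a) := by group
          _ = a * (z * y) := by rw [e4]
          _ = a * z * y := by group
      calc y * (a * x) = (y * a) * x := by group
        _ = a * z * (y * x) := by rw [e5]; group
        _ = a * z * (x * z * y) := by rw [hyx']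
        _ = a * (z * x) * z * y := by group
        _ = a * (x * z) * z * y := by rw [hzx]
        _ = a * x * (z * z) * y := by group
        _ = a * x * y := by rw [hzz, mul_one]
    rcases full (a * x) hwR hwy hw2 with h1 | h1
    · left
      calc a = (a * x) * x⁻¹ := by group
        _ = x := by rw [h1, hxinv, one_mul]
    · right
      calc a = (a * x) * x⁻¹ := by group
        _ = z * x := by rw [h1, hxinv]
        _ = x * z := hzx

/-- Orthogonality of conjugates of `z` is symmetric (port of helper93's parity count). -/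
theorem sym_orth [Finite G] {z : G} (hles : WES (tc z) z) (g : G) (hx : g * z * g⁻¹ ∈ tc z) :
    z ∈ tc (g * z * g⁻¹) := by
  have hcj : IsCj z (g * z * g⁻¹) := ⟨g, rfl⟩
  have hlesx : WES (tc (g * z * g⁻¹)) (g * z * g⁻¹) := hles.conj g
  set x := g * z * g⁻¹ with hxdef
  by_cases hxz : x = z
  · rw [hxz]; exact hles.mem
  have hx1 : x ≠ 1 := hlesx.ne_one
  have hx2 : x * x = 1 := hlesx.sq
  have hxinv : x⁻¹ = x := inv_eq_of_mul_eq_one_left hx2
  have hzz : z * z = 1 := hles.sq
  have hzx : z * x = x * z := (hles.central x hx).symm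
  by_contra hz
  have hxzn : x * z ∉ tc x := by
    intro h
    apply hz
    have : z = x⁻¹ * (x * z) := by group
    rw [this]
    exact Subgroup.mul_mem _ (Subgroup.inv_mem _ hlesx.mem) h
  -- the 2-group R
  set R : Subgroup G := tc z ⊓ Subgroup.centralizer ({x} : Set G) with hR
  have hRp : IsPGroup 2 R := (tc_isPGroup z).to_le inf_le_left
  have memR : ∀ r, r ∈ R ↔ r ∈ tc z ∧ r * x = x * r := by
    intro r
    rw [hR, Subgroup.mem_inf, Subgroup.mem_centralizer_iff]
    constructor
    · rintro ⟨h1, h2⟩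
      exact ⟨h1, (h2 x (Set.mem_singleton x)).symm⟩
    · rintro ⟨h1, h2⟩
      refine ⟨h1, fun w hw => ?_⟩
      rw [Set.mem_singleton_iff] at hw
      subst hw
      exact h2.symm
  have hfix_x : ∀ r ∈ R, r * x * r⁻¹ = x := by
    intro r hr
    rw [((memR r).1 hr).2]; group
  have hfix_z : ∀ r ∈ R, r * z * r⁻¹ = z := by
    intro r hr
    rw [hles.central r ((memR r).1 hr).1]; group
  -- classification of fixed conjugates
  have hclass : ∀ a, IsCj z a → (∀ r ∈ R, r * a * r⁻¹ = a) → a = z ∨ a = x ∨ a = x * z := by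
    intro a hca hfa
    have ha1 : a ≠ 1 := by
      obtain ⟨k, rfl⟩ := hca
      exact (hles.conj k).ne_one
    have ha2 : a * a = 1 := by
      obtain ⟨k, rfl⟩ := hca
      exact (hles.conj k).sq
    apply fixed_class hles hx hx1 hxz hx2 ha1 ha2
    intro r hr hrx
    have := hfa r ((memR r).2 ⟨hr, hrx⟩)
    calc r * a = (r * a * r⁻¹) * r := by group
      _ = a * r := by rw [this]
  -- the two invariant sets
  have hSout : ∀ r ∈ R, ∀ a ∈ {a | IsCj z a ∧ a ∈ tc x}, r * a * r⁻¹ ∈ {a | IsCj z a ∧ a ∈ tc x} := by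
    rintro r hr a ⟨h1, h2⟩
    refine ⟨isCj_conj r h1, ?_⟩
    have := mem_tc_conj r h2
    rwa [hfix_x r hr] at this
  have hSin : ∀ r ∈ R, ∀ a ∈ {a | IsCj z a ∧ x ∈ tc a}, r * a * r⁻¹ ∈ {a | IsCj z a ∧ x ∈ tc a} := by
    rintro r hr a ⟨h1, h2⟩
    refine ⟨isCj_conj r h1, ?_⟩
    have := mem_tc_conj r h2
    rwa [hfix_x r hr] at this
  have c1 := card_fixed_conj R hRp _ hSout
  have c2 := card_fixed_conj R hRp _ hSin
  have hxx : x ∈ tc x := hlesx.mem
  have f1 : {a | a ∈ {a | IsCj z a ∧ a ∈ tc x} ∧ ∀ r ∈ R, r * a * r⁻¹ = a} = {x} := by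
    ext a
    simp only [Set.mem_ofPred_eq, Set.mem_singleton_iff]
    constructor
    · rintro ⟨⟨h1, h2⟩, h3⟩
      rcases hclass a h1 h3 with h | h | h
      · subst h; exact absurd h2 hz
      · exact h
      · subst h; exact absurd h2 hxzn
    · rintro rfl
      exact ⟨⟨hcj, hxx⟩, hfix_x⟩
  obtain ⟨q0, hq0, hq⟩ := exists_q0 hles hx hx1 hxz hx2
  have hq' : q0⁻¹ * x * q0 = x * z := by
    have h1 : q0 * z * q0⁻¹ = z := by
      rw [hles.central q0 hq0]; group
    have : q0 * (x * z) * q0⁻¹ = x := by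
      calc q0 * (x * z) * q0⁻¹ = (q0 * x * q0⁻¹) * (q0 * z * q0⁻¹) := by group
        _ = x * z * z := by rw [hq, h1]
        _ = x * (z * z) := by group
        _ = x := by rw [hzz]; group
    calc q0⁻¹ * x * q0 = q0⁻¹ * (q0 * (x * z) * q0⁻¹) * q0 := by rw [this]
      _ = x * z := by group
  have f2 : {a | a ∈ {a | IsCj z a ∧ x ∈ tc a} ∧ ∀ r ∈ R, r * a * r⁻¹ = a} = {x, z} := by
    ext a
    simp only [Set.mem_ofPred_eq, Set.mem_insert_iff, Set.mem_singleton_iff]
    constructor
    · rintro ⟨⟨h1, h2⟩, h3⟩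
      rcases hclass a h1 h3 with h | h | h
      · right; exact h
      · left; exact h
      · exfalso
        subst h
        rw [← hq] at h2
        have := (mem_tc_conj_iff (x := x) (y := q0⁻¹ * x * q0) q0).1 (by
          have e : q0 * (q0⁻¹ * x * q0) * q0⁻¹ = x := by group
          rw [e]; exact h2)
        rw [hq'] at this
        exact hxzn this
    · rintro (rfl | rfl)
      · exact ⟨⟨hcj, hxx⟩, hfix_x⟩
      · exact ⟨⟨isCj_self _, hx⟩, hfix_z⟩
  rw [f1, Set.ncard_singleton] at c1
  rw [f2, Set.ncard_pair hxz] at c2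
  have e := out_card_eq_in_card hcj
  rw [e] at c1
  have := c1.symm.trans c2
  exact absurd this (by decide)

/-- the four-group `{1, z, x, x z}` generated by two commuting involutions. -/
def fourGroup (z x : G) (hz : z * z = 1) (hx : x * x = 1) (hzx : z * x = x * z) : Subgroup G where
  carrier := {u | u = 1 ∨ u = z ∨ u = x ∨ u = x * z}
  one_mem' := Or.inl rfl
  mul_mem' := by
    have e1 : z * (x * z) = x := by
      calc z * (x * z) = (z * x) * z := by group
        _ = x * (z * z) := by rw [hzx]; group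
        _ = x := by rw [hz, mul_one]
    have e2 : x * (x * z) = z := by
      calc x * (x * z) = (x * x) * z := by group
        _ = z := by rw [hx, one_mul]
    have e3 : x * z * z = x := by rw [mul_assoc, hz, mul_one]
    have e4 : x * z * x = z := by
      calc x * z * x = x * (z * x) := by group
        _ = x * (x * z) := by rw [hzx]
        _ = z := e2
    have e5 : x * z * (x * z) = 1 := by
      calc x * z * (x * z) = (x * z * x) * z := by group
        _ = 1 := by rw [e4, hz]
    rintro a b (rfl | rfl | rfl | rfl) (rfl | rfl | rfl | rfl)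
    · left; exact one_mul 1
    · right; left; exact one_mul _
    · right; right; left; exact one_mul _
    · right; right; right; exact one_mul _
    · right; left; exact mul_one _
    · left; exact hz
    · right; right; right; exact hzx
    · right; right; left; exact e1
    · right; right; left; exact mul_one _
    · right; right; right; rfl
    · left; exact hx
    · right; left; exact e2
    · right; right; right; exact mul_one _
    · right; right; left; exact e3
    · right; left; exact e4
    · left; exact e5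
  inv_mem' := by
    have hzi : z⁻¹ = z := inv_eq_of_mul_eq_one_left hz
    have hxi : x⁻¹ = x := inv_eq_of_mul_eq_one_left hx
    rintro a (rfl | rfl | rfl | rfl)
    · left; exact inv_one
    · right; left; exact hzi
    · right; right; left; exact hxi
    · right; right; right
      rw [mul_inv_rev, hzi, hxi, hzx]

theorem mem_closure_pair_cases {z x u : G} (hz : z * z = 1) (hx : x * x = 1) (hzx : z * x = x * z)
    (hu : u ∈ Subgroup.closure ({z, x} : Set G)) : u = 1 ∨ u = z ∨ u = x ∨ u = x * z := by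
  have : Subgroup.closure ({z, x} : Set G) ≤ fourGroup z x hz hx hzx := by
    rw [Subgroup.closure_le]
    intro w hw
    rcases hw with rfl | hw
    · exact Or.inr (Or.inl rfl)
    · rw [Set.mem_singleton_iff] at hw
      exact Or.inr (Or.inr (Or.inl hw))
  exact this hu

theorem conj_mul_mul (w₁ w₂ a : G) :
    (w₁ * w₂) * a * (w₁ * w₂)⁻¹ = w₁ * (w₂ * a * w₂⁻¹) * w₁⁻¹ := by group

theorem conj_mul_right (w a b : G) : w * (a * b) * w⁻¹ = (w * a * w⁻¹) * (w * b * w⁻¹) := by group

/-- `⟨Q_z, Q_x⟩` induces the full symmetric group on the involutions of `⟨z, x⟩`. -/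
theorem sym3_action [Finite G] {z : G} (h : WES (tc z) z) (g : G) (hx : g * z * g⁻¹ ∈ tc z)
    (hne : g * z * g⁻¹ ≠ z) :
    ∀ u ∈ Subgroup.closure ({z, g * z * g⁻¹} : Set G),
      ∀ v ∈ Subgroup.closure ({z, g * z * g⁻¹} : Set G), u ≠ 1 → v ≠ 1 → u ≠ v →
        ∃ w ∈ tc z ⊔ tc (g * z * g⁻¹), w * z * w⁻¹ = u ∧ w * (g * z * g⁻¹) * w⁻¹ = v := by
  have hzx' := sym_orth h g hx
  have hX : WES (tc (g * z * g⁻¹)) (g * z * g⁻¹) := h.conj g
  set x := g * z * g⁻¹ with hxdef
  have hz2 : z * z = 1 := h.sq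
  have hx2 : x * x = 1 := hX.sq
  have hz1 : z ≠ 1 := h.ne_one
  have hx1 : x ≠ 1 := hX.ne_one
  have hzx : z * x = x * z := (h.central x hx).symm
  obtain ⟨q, hq, hqx⟩ := exists_q0 h hx hx1 hne hx2
  obtain ⟨q', hq', hq'z⟩ := exists_q0 hX hzx' hz1 (fun e => hne e.symm) hz2
  -- `hqx : q * x * q⁻¹ = x * z`, `hq'z : q' * z * q'⁻¹ = z * x`
  have A1 : q * z * q⁻¹ = z := by
    rw [h.central q hq]; group
  have A2 : q * x * q⁻¹ = x * z := hqx
  have A3 : q * (x * z) * q⁻¹ = x := by
    rw [conj_mul_right, A1, A2, mul_assoc, hz2, mul_one]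
  have B1 : q' * x * q'⁻¹ = x := by
    rw [hX.central q' hq']; group
  have B2 : q' * z * q'⁻¹ = x * z := by rw [hq'z, hzx]
  have B3 : q' * (x * z) * q'⁻¹ = z := by
    rw [conj_mul_right, B1, B2, ← mul_assoc, hx2, one_mul]
  have hqS : q ∈ tc z ⊔ tc x := (le_sup_left : tc z ≤ tc z ⊔ tc x) hq
  have hq'S : q' ∈ tc z ⊔ tc x := (le_sup_right : tc x ≤ tc z ⊔ tc x) hq'
  intro u hu v hv hu1 hv1 huv
  have hu' := mem_closure_pair_cases hz2 hx2 hzx hu
  have hv' := mem_closure_pair_cases hz2 hx2 hzx hv
  rcases hu' with rfl | rfl | rfl | rfl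
  · exact absurd rfl hu1
  · -- u = z
    rcases hv' with rfl | rfl | rfl | rfl
    · exact absurd rfl hv1
    · exact absurd rfl huv
    · exact ⟨1, Subgroup.one_mem _, by group, by group⟩
    · exact ⟨q, hqS, A1, A2⟩
  · -- u = x
    rcases hv' with rfl | rfl | rfl | rfl
    · exact absurd rfl hv1
    · refine ⟨q * q' * q, Subgroup.mul_mem _ (Subgroup.mul_mem _ hqS hq'S) hqS, ?_, ?_⟩
      · rw [conj_mul_mul, A1, conj_mul_mul, B2, A3]
      · rw [conj_mul_mul, A2, conj_mul_mul, B3, A1]
    · exact absurd rfl huv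
    · refine ⟨q * q', Subgroup.mul_mem _ hqS hq'S, ?_, ?_⟩
      · rw [conj_mul_mul, B2, A3]
      · rw [conj_mul_mul, B1, A2]
  · -- u = x * z
    rcases hv' with rfl | rfl | rfl | rfl
    · exact absurd rfl hv1
    · refine ⟨q' * q, Subgroup.mul_mem _ hq'S hqS, ?_, ?_⟩
      · rw [conj_mul_mul, A1, B2]
      · rw [conj_mul_mul, A2, B3]
    · exact ⟨q', hq'S, B2, B1⟩
    · exact absurd rfl huv

end Cfsg.Agent.Lib.Helper89_SympOrth
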