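import Mathlib
import Cfsg.Prelude.Def_Characters
import Cfsg.Agent.Lib.Helper80_CharBasic
import Cfsg.Agent.Lib.Helper62_D72Defs

/-!
# S3716 (helper62's market `d72_packages`): coordinates `ZMod 3 × ZMod 3 → M` (helper8).
`ee x y a = x ^ a.1.val * y ^ a.2.val` is a bijection of `ZMod 3 × ZMod 3` onto `M`, additive to multiplicative.
-/

set_option autoImplicit false
set_option linter.unusedSectionVars false

namespace Cfsg.Agent.Lib.Helper8_D72_COORD

open Cfsg Cfsg.Agent.Lib.Helper80_CharBasic Cfsg.Agent.Lib.Helper62_D72Defs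

variable {G : Type*} [Group G] {M : Subgroup G} {x y s w : G}

/-- the coordinate map -/
def ee (x y : G) (a : ZMod 3 × ZMod 3) : G := x ^ a.1.val * y ^ a.2.val

theorem x_pow_three (h : Hyp G M x y s w) : x ^ 3 = 1 := by
  rw [← h.ox]; exact pow_orderOf_eq_one x

theorem y_pow_three (h : Hyp G M x y s w) : y ^ 3 = 1 := by
  rw [← h.oy]; exact pow_orderOf_eq_one y

theorem x_inv (h : Hyp G M x y s w) : x⁻¹ = x ^ 2 := by
  rw [inv_eq_iff_mul_eq_one, ← pow_succ']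
  exact x_pow_three h

theorem y_inv (h : Hyp G M x y s w) : y⁻¹ = y ^ 2 := by
  rw [inv_eq_iff_mul_eq_one, ← pow_succ']
  exact y_pow_three h

theorem x_mem (h : Hyp G M x y s w) : x ∈ M := (h.mem x).2 (Or.inr (Or.inl rfl))

theorem y_mem (h : Hyp G M x y s w) : y ∈ M :=
  (h.mem y).2 (Or.inr (Or.inr (Or.inr (Or.inl rfl))))

theorem x_ne_one (h : Hyp G M x y s w) : x ≠ 1 := by
  intro e
  have := h.ox
  rw [e, orderOf_one] at this
  omega

theorem y_ne_one (h : Hyp G M x y s w) : y ≠ 1 := by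
  intro e
  have := h.oy
  rw [e, orderOf_one] at this
  omega

theorem val_zero' : (0 : ZMod 3).val = 0 := rfl
theorem val_one' : (1 : ZMod 3).val = 1 := rfl
theorem val_two' : (2 : ZMod 3).val = 2 := rfl

theorem ee_00 : ee x y (0, 0) = 1 := by simp [ee]
theorem ee_10 : ee x y (1, 0) = x := by simp [ee, val_one']
theorem ee_01 : ee x y (0, 1) = y := by simp [ee, val_one']
theorem ee_11 : ee x y (1, 1) = x * y := by simp [ee, val_one']
theorem ee_20 (h : Hyp G M x y s w) : ee x y (2, 0) = x⁻¹ := by simp [ee, val_two', x_inv h]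
theorem ee_02 (h : Hyp G M x y s w) : ee x y (0, 2) = y⁻¹ := by simp [ee, val_two', y_inv h]
theorem ee_12 (h : Hyp G M x y s w) : ee x y (1, 2) = x * y⁻¹ := by
  simp [ee, val_one', val_two', y_inv h]
theorem ee_21 (h : Hyp G M x y s w) : ee x y (2, 1) = x⁻¹ * y := by
  simp [ee, val_one', val_two', x_inv h]
theorem ee_22 (h : Hyp G M x y s w) : ee x y (2, 2) = x⁻¹ * y⁻¹ := by
  simp [ee, val_two', x_inv h, y_inv h]

theorem ee_mem (h : Hyp G M x y s w) (a : ZMod 3 × ZMod 3) : ee x y a ∈ M :=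
  M.mul_mem (M.pow_mem (x_mem h) _) (M.pow_mem (y_mem h) _)

theorem ee_mul (h : Hyp G M x y s w) (a b : ZMod 3 × ZMod 3) :
    ee x y a * ee x y b = ee x y (a + b) := by
  unfold ee
  have hc : Commute x y := h.comm
  have e1 : x ^ a.1.val * y ^ a.2.val * (x ^ b.1.val * y ^ b.2.val) =
      x ^ (a.1.val + b.1.val) * y ^ (a.2.val + b.2.val) := by
    rw [pow_add, pow_add, mul_assoc, mul_assoc, ← mul_assoc (y ^ a.2.val),
      ((hc.pow_pow b.1.val a.2.val).eq).symm, mul_assoc]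
  rw [e1, Prod.fst_add, Prod.snd_add, ZMod.val_add, ZMod.val_add]
  have hx := pow_mod_orderOf x (a.1.val + b.1.val)
  have hy := pow_mod_orderOf y (a.2.val + b.2.val)
  rw [h.ox] at hx
  rw [h.oy] at hy
  rw [hx, hy]

theorem exists_ee (h : Hyp G M x y s w) {t : G} (ht : t ∈ M) : ∃ a, ee x y a = t := by
  rcases (h.mem t).1 ht with rfl | rfl | rfl | rfl | rfl | rfl | rfl | rfl | rfl
  · exact ⟨(0, 0), ee_00⟩
  · exact ⟨(1, 0), ee_10⟩
  · exact ⟨(2, 0), ee_20 h⟩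
  · exact ⟨(0, 1), ee_01⟩
  · exact ⟨(0, 2), ee_02 h⟩
  · exact ⟨(1, 1), ee_11⟩
  · exact ⟨(1, 2), ee_12 h⟩
  · exact ⟨(2, 1), ee_21 h⟩
  · exact ⟨(2, 2), ee_22 h⟩

theorem ee_injective (h : Hyp G M x y s w) : Function.Injective (ee x y) := by
  have hsurj : Function.Surjective (fun a : ZMod 3 × ZMod 3 => (⟨ee x y a, ee_mem h a⟩ : M)) := by
    rintro ⟨t, ht⟩
    obtain ⟨a, ha⟩ := exists_ee h ht
    exact ⟨a, Subtype.ext ha⟩
  have hcard : Nat.card (ZMod 3 × ZMod 3) ≤ Nat.card M := by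
    rw [h.card, Nat.card_prod, Nat.card_zmod]
  have hbij := hsurj.bijective_of_nat_card_le hcard
  intro a b hab
  exact hbij.1 (Subtype.ext hab)

theorem ee_eq_iff (h : Hyp G M x y s w) {a b : ZMod 3 × ZMod 3} : ee x y a = ee x y b ↔ a = b :=
  (ee_injective h).eq_iff

/-- the class `A` of `x` in coordinates -/
def cA : Finset (ZMod 3 × ZMod 3) := {(1, 0), (2, 0), (0, 1), (0, 2)}

/-- the class `D` of `x y` in coordinates -/
def cD : Finset (ZMod 3 × ZMod 3) := {(1, 1), (1, 2), (2, 1), (2, 2)}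

/-- `conj_x` in coordinates -/
theorem conj_x_iff (h : Hyp G M x y s w)
    (hcx : ∀ {t : G}, t ∈ M → (IsConj x t ↔ (t = x ∨ t = x⁻¹ ∨ t = y ∨ t = y⁻¹)))
    (a : ZMod 3 × ZMod 3) : IsConj x (ee x y a) ↔ a ∈ cA := by
  rw [hcx (ee_mem h a)]
  have e1 : ee x y a = x ↔ a = (1, 0) := by rw [← ee_eq_iff h, ee_10]
  have e2 : ee x y a = x⁻¹ ↔ a = (2, 0) := by rw [← ee_eq_iff h, ee_20 h]
  have e3 : ee x y a = y ↔ a = (0, 1) := by rw [← ee_eq_iff h, ee_01]
  have e4 : ee x y a = y⁻¹ ↔ a = (0, 2) := by rw [← ee_eq_iff h, ee_02 h]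
  rw [e1, e2, e3, e4]
  simp only [cA, Finset.mem_insert, Finset.mem_singleton]

/-- `conj_xy` in coordinates -/
theorem conj_xy_iff (h : Hyp G M x y s w)
    (hcxy : ∀ {t : G}, t ∈ M →
      (IsConj (x * y) t ↔ (t = x * y ∨ t = x * y⁻¹ ∨ t = x⁻¹ * y ∨ t = x⁻¹ * y⁻¹)))
    (a : ZMod 3 × ZMod 3) : IsConj (x * y) (ee x y a) ↔ a ∈ cD := by
  rw [hcxy (ee_mem h a)]
  have e1 : ee x y a = x * y ↔ a = (1, 1) := by rw [← ee_eq_iff h, ee_11]
  have e2 : ee x y a = x * y⁻¹ ↔ a = (1, 2) := by rw [← ee_eq_iff h, ee_12 h]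
  have e3 : ee x y a = x⁻¹ * y ↔ a = (2, 1) := by rw [← ee_eq_iff h, ee_21 h]
  have e4 : ee x y a = x⁻¹ * y⁻¹ ↔ a = (2, 2) := by rw [← ee_eq_iff h, ee_22 h]
  rw [e1, e2, e3, e4]
  simp only [cD, Finset.mem_insert, Finset.mem_singleton]

end Cfsg.Agent.Lib.Helper8_D72_COORD
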