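import Mathlib
import Cfsg.Prelude.Def_Characters
import Cfsg.Agent.Lib.Helper80_CharBasic
import Cfsg.Agent.Lib.Helper62_D72Defs
import Cfsg.Agent.Lib.Helper5_H9_G333
import Cfsg.Agent.Lib.Helper8_D72_BASIC

/-!
# S3716 package L333 (helper8 for helper62): the (3,3,3)-lemma in the `Hyp` setting.
-/

set_option autoImplicit false
set_option linter.unusedSectionVars false
open scoped ComplexConjugate

namespace Cfsg.Agent.Lib.Helper8_D72_L333

open Cfsg Cfsg.Agent.Lib.Helper80_CharBasic Cfsg.Agent.Lib.Helper62_D72Defs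

section grp
variable {G : Type*} [Group G] [Finite G]
variable {M : Subgroup G} {x y s w : G}

omit [Finite G] in
/-- `M` has exponent `3` -/
theorem pow_three_of_mem (h : Hyp G M x y s w) {t : G} (ht : t ∈ M) : t ^ 3 = 1 := by
  have hx3 : x ^ 3 = 1 := by rw [← h.ox]; exact pow_orderOf_eq_one x
  have hy3 : y ^ 3 = 1 := by rw [← h.oy]; exact pow_orderOf_eq_one y
  have hc : Commute x y := h.comm
  rcases (h.mem t).1 ht with rfl | rfl | rfl | rfl | rfl | rfl | rfl | rfl | rfl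
  · exact one_pow 3
  · exact hx3
  · rw [inv_pow, hx3, inv_one]
  · exact hy3
  · rw [inv_pow, hy3, inv_one]
  · rw [hc.mul_pow, hx3, hy3, one_mul]
  · rw [hc.inv_right.mul_pow, hx3, inv_pow, hy3, inv_one, one_mul]
  · rw [hc.inv_left.mul_pow, inv_pow, hx3, hy3, inv_one, one_mul]
  · rw [hc.inv_inv.mul_pow, inv_pow, inv_pow, hx3, hy3, inv_one, one_mul]

theorem lemma333 (h : Hyp G M x y s w) {u v : G} (hu : u ^ 3 = 1) (hv : v ^ 3 = 1)
    (huv : u * v ∈ M) (huv1 : u * v ≠ 1) :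
    (u ∈ M ∧ v ∈ M) ∨ (IsConj u v ∧ IsConj (u * v) u⁻¹) := by
  rcases Cfsg.Agent.Lib.Helper5_H9_G333.gen333 hu hv (pow_three_of_mem h huv) with
    ⟨c, hc1, hc3, hcu, hcv⟩ | h2
  · left
    have hcT : c ∈ M := by
      refine Cfsg.Agent.Lib.Helper8_D72_BASIC.cent_three h huv huv1 ?_ hc3
      calc c * (u * v) = (c * u) * v := by group
        _ = (u * c) * v := by rw [hcu]
        _ = u * (c * v) := by group
        _ = u * (v * c) := by rw [hcv]
        _ = u * v * c := by group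
    exact ⟨Cfsg.Agent.Lib.Helper8_D72_BASIC.cent_three h hcT hc1 hcu.symm hu,
      Cfsg.Agent.Lib.Helper8_D72_BASIC.cent_three h hcT hc1 hcv.symm hv⟩
  · exact Or.inr h2

end grp

end Cfsg.Agent.Lib.Helper8_D72_L333
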