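import Mathlib
import Cfsg.Prelude.Def_Characters
import Cfsg.Agent.Lib.Helper80_CharBasic
import Cfsg.Agent.Lib.Helper62_D72Defs
import Cfsg.Agent.Lib.Helper8_D72_COORD
import Cfsg.Agent.Lib.Helper8_D72_L333

/-!
# S3716 package CNT2, conditional form (helper8 for helper62): the two class multiplication counts equal to two.
`count2_aux` takes the conclusions of the package CONJ (`conj_x`, `conj_xy`, `not_conj`) as explicit hypotheses.
-/

set_option autoImplicit false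
set_option linter.unusedSectionVars false

namespace Cfsg.Agent.Lib.Helper8_D72_CNT2aux

open Cfsg Cfsg.Agent.Lib.Helper80_CharBasic Cfsg.Agent.Lib.Helper62_D72Defs
  Cfsg.Agent.Lib.Helper8_D72_COORD

section grp
variable {G : Type*} [Group G] [Finite G]
variable {M : Subgroup G} {x y s w : G}

omit [Finite G] in
theorem isConj_inv' {a b : G} (hab : IsConj a b) : IsConj a⁻¹ b⁻¹ := by
  obtain ⟨g, hg⟩ := isConj_iff.mp hab
  exact isConj_iff.mpr ⟨g, by rw [← hg]; group⟩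

omit [Finite G] in
theorem cube_of_conj {a p : G} (ha : a ^ 3 = 1) (hp : IsConj a p) : p ^ 3 = 1 := by
  obtain ⟨g, hg⟩ := isConj_iff.mp hp
  rw [← hg, conj_pow, ha, mul_one, mul_inv_cancel]

omit [Finite G] in
/-- the generic count: exactly two ordered pairs -/
theorem card_two_of (h : Hyp G M x y s w) (z : G) (C : Finset (ZMod 3 × ZMod 3))
    (c a₁ a₂ : ZMod 3 × ZMod 3)
    (hC : ∀ a, IsConj z (ee x y a) ↔ a ∈ C)
    (hmem : ∀ p q : G, IsConj z p → IsConj z q → p * q = ee x y c → p ∈ M ∧ q ∈ M)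
    (hdec : ∀ a ∈ C, ∀ b ∈ C, a + b = c → (a = a₁ ∧ b = a₂) ∨ (a = a₂ ∧ b = a₁))
    (h1 : a₁ ∈ C) (h2 : a₂ ∈ C) (h12 : a₁ + a₂ = c) (hne : a₁ ≠ a₂) :
    Nat.card {p : G × G // IsConj z p.1 ∧ IsConj z p.2 ∧ p.1 * p.2 = ee x y c} = 2 := by
  rw [Nat.card_eq_two_iff]
  refine ⟨⟨(ee x y a₁, ee x y a₂), (hC a₁).2 h1, (hC a₂).2 h2, by rw [ee_mul h, h12]⟩,
    ⟨(ee x y a₂, ee x y a₁), (hC a₂).2 h2, (hC a₁).2 h1, by rw [ee_mul h, add_comm, h12]⟩, ?_, ?_⟩
  · intro e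
    have := congrArg (fun p => p.1.1) e
    exact hne ((ee_eq_iff h).1 this)
  · rw [Set.eq_univ_iff_forall]
    rintro ⟨⟨p, q⟩, hp, hq, hpq⟩
    simp only at hp hq hpq
    obtain ⟨hpM, hqM⟩ := hmem p q hp hq hpq
    obtain ⟨a, rfl⟩ := exists_ee h hpM
    obtain ⟨b, rfl⟩ := exists_ee h hqM
    rw [ee_mul h, ee_eq_iff h] at hpq
    rcases hdec a ((hC a).1 hp) b ((hC b).1 hq) hpq with ⟨rfl, rfl⟩ | ⟨rfl, rfl⟩
    · exact Set.mem_insert _ _
    · exact Set.mem_insert_of_mem _ rfl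

theorem dec_A : ∀ a ∈ cA, ∀ b ∈ cA, a + b = (1, 1) →
    (a = ((1, 0) : ZMod 3 × ZMod 3) ∧ b = (0, 1)) ∨ (a = (0, 1) ∧ b = (1, 0)) := by decide

theorem dec_D : ∀ a ∈ cD, ∀ b ∈ cD, a + b = (1, 0) →
    (a = ((2, 1) : ZMod 3 × ZMod 3) ∧ b = (2, 2)) ∨ (a = (2, 2) ∧ b = (2, 1)) := by decide

theorem count2_aux (h : Hyp G M x y s w)
    (hcx : ∀ {t : G}, t ∈ M → (IsConj x t ↔ (t = x ∨ t = x⁻¹ ∨ t = y ∨ t = y⁻¹)))
    (hcxy : ∀ {t : G}, t ∈ M →
      (IsConj (x * y) t ↔ (t = x * y ∨ t = x * y⁻¹ ∨ t = x⁻¹ * y ∨ t = x⁻¹ * y⁻¹)))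
    (hnc : ¬ IsConj x (x * y)) :
    Nat.card {p : G × G // IsConj x p.1 ∧ IsConj x p.2 ∧ p.1 * p.2 = x * y} = 2 ∧
    Nat.card {p : G × G // IsConj (x * y) p.1 ∧ IsConj (x * y) p.2 ∧ p.1 * p.2 = x} = 2 := by
  have hx3 := x_pow_three h
  have hy3 := y_pow_three h
  have hxM := x_mem h
  have hyM := y_mem h
  have hxyM : x * y ∈ M := M.mul_mem hxM hyM
  have hxy1 : x * y ≠ 1 := fun e => h.hne' (eq_inv_of_mul_eq_one_right e)
  have hxy3 : (x * y) ^ 3 = 1 := by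
    rw [(show Commute x y from h.comm).mul_pow, hx3, hy3, one_mul]
  have hxxi : IsConj x x⁻¹ := (hcx (M.inv_mem hxM)).2 (Or.inr (Or.inl rfl))
  have hxyi : IsConj (x * y) (x * y)⁻¹ := by
    refine (hcxy (M.inv_mem hxyM)).2 (Or.inr (Or.inr (Or.inr ?_)))
    rw [h.comm, mul_inv_rev]
  constructor
  · have key := card_two_of h x cA (1, 1) (1, 0) (0, 1) (conj_x_iff h hcx) ?_ dec_A
      (by decide) (by decide) (by decide) (by decide)
    · simpa only [ee_11] using key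
    · intro p q hp hq hpq
      rw [ee_11] at hpq
      rcases Cfsg.Agent.Lib.Helper8_D72_L333.lemma333 h (cube_of_conj hx3 hp) (cube_of_conj hx3 hq)
        (hpq ▸ hxyM) (hpq ▸ hxy1) with h1 | ⟨-, h2⟩
      · exact h1
      · exfalso
        rw [hpq] at h2
        exact hnc ((hxxi.trans (isConj_inv' hp)).trans h2.symm)
  · have key := card_two_of h (x * y) cD (1, 0) (2, 1) (2, 2) (conj_xy_iff h hcxy) ?_ dec_D
      (by decide) (by decide) (by decide) (by decide)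
    · simpa only [ee_10] using key
    · intro p q hp hq hpq
      rw [ee_10] at hpq
      rcases Cfsg.Agent.Lib.Helper8_D72_L333.lemma333 h (cube_of_conj hxy3 hp)
        (cube_of_conj hxy3 hq) (hpq ▸ hxM) (hpq ▸ x_ne_one h) with h1 | ⟨-, h2⟩
      · exact h1
      · exfalso
        rw [hpq] at h2
        exact hnc (h2.trans ((isConj_inv' hp).symm.trans hxyi.symm))

end grp

end Cfsg.Agent.Lib.Helper8_D72_CNT2aux
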