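import Mathlib
import Cfsg.Prelude.Def_Characters
import Cfsg.Agent.Lib.Helper80_CharBasic
import Cfsg.Agent.Lib.Helper62_D72Defs
import Cfsg.Agent.Lib.Helper8_D72_COORD
import Cfsg.Agent.Lib.Helper8_D72_BASIC
import Cfsg.Agent.Lib.Helper8_D72_L333

/-!
# S3716 package CNTMOD, conditional form (helper8 for helper62): the two class multiplication counts that are
`≡ 1 (mod 3)`.  `count_mod_aux` takes the conclusions `conj_x`, `conj_xy` of the package CONJ as explicit hypotheses.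
-/

set_option autoImplicit false
set_option linter.unusedSectionVars false

namespace Cfsg.Agent.Lib.Helper8_D72_CNTMODaux

open Cfsg Cfsg.Agent.Lib.Helper80_CharBasic Cfsg.Agent.Lib.Helper62_D72Defs
  Cfsg.Agent.Lib.Helper8_D72_COORD

section grp
variable {G : Type*} [Group G] [Finite G]
variable {M : Subgroup G} {x y s w : G}

omit [Finite G] in
theorem cube_of_conj {a p : G} (ha : a ^ 3 = 1) (hp : IsConj a p) : p ^ 3 = 1 := by
  obtain ⟨g, hg⟩ := isConj_iff.mp hp
  rw [← hg, conj_pow, ha, mul_one, mul_inv_cancel]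

omit [Finite G] in
theorem isConj_conj {z p : G} (g : G) (hp : IsConj z p) : IsConj z (g * p * g⁻¹) :=
  hp.trans (isConj_iff.mpr ⟨g, rfl⟩)

omit [Finite G] in
/-- `M` is abelian, in coordinates -/
theorem ee_conj (h : Hyp G M x y s w) (a b : ZMod 3 × ZMod 3) :
    ee x y b * ee x y a * (ee x y b)⁻¹ = ee x y a := by
  rw [ee_mul h, add_comm, ← ee_mul h, mul_inv_cancel_right]

/-- the generic count modulo `3`: `g = ee b₀` acts by simultaneous conjugation with one fixed point -/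
theorem card_mod_of (h : Hyp G M x y s w) (z : G) (hz3 : z ^ 3 = 1) (C : Finset (ZMod 3 × ZMod 3))
    (c a₀ b₀ : ZMod 3 × ZMod 3) (hb₀ : b₀ ≠ 0)
    (hC : ∀ a, IsConj z (ee x y a) ↔ a ∈ C)
    (hdec : ∀ a ∈ C, ∀ b ∈ C, a + b = c → a = a₀ ∧ b = a₀)
    (h0 : a₀ ∈ C) (h00 : a₀ + a₀ = c) :
    Nat.card {p : G × G // IsConj z p.1 ∧ IsConj z p.2 ∧ p.1 * p.2 = ee x y c} % 3 = 1 := by
  classical
  have : Fintype {p : G × G // IsConj z p.1 ∧ IsConj z p.2 ∧ p.1 * p.2 = ee x y c} :=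
    Fintype.ofFinite _
  have : Fact (Nat.Prime 3) := ⟨by norm_num⟩
  obtain ⟨g, hgdef⟩ : ∃ g : G, g = ee x y b₀ := ⟨_, rfl⟩
  have hgM : g ∈ M := hgdef ▸ ee_mem h b₀
  have hg1 : g ≠ 1 := by
    rw [hgdef, ← ee_00 (x := x) (y := y)]
    intro e
    exact hb₀ ((ee_eq_iff h).1 e)
  have hg3 : g ^ 3 = 1 := Cfsg.Agent.Lib.Helper8_D72_L333.pow_three_of_mem h hgM
  have hgc : g * ee x y c * g⁻¹ = ee x y c := by rw [hgdef]; exact ee_conj h c b₀
  -- the map
  let f : Function.End {p : G × G // IsConj z p.1 ∧ IsConj z p.2 ∧ p.1 * p.2 = ee x y c} :=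
    fun p => ⟨(g * p.1.1 * g⁻¹, g * p.1.2 * g⁻¹), isConj_conj g p.2.1, isConj_conj g p.2.2.1, by
      have e : g * p.1.1 * g⁻¹ * (g * p.1.2 * g⁻¹) = g * (p.1.1 * p.1.2) * g⁻¹ := by group
      rw [e, p.2.2.2, hgc]⟩
  have hf : f ^ 3 ^ 1 = 1 := by
    rw [pow_one]
    funext p
    show f (f (f p)) = p
    apply Subtype.ext
    have hggg : g * g * g = 1 := by rw [← hg3, pow_three, mul_assoc]
    have e : ∀ u : G, g * (g * (g * u * g⁻¹) * g⁻¹) * g⁻¹ = (g * g * g) * u * (g * g * g)⁻¹ := by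
      intro u
      simp only [mul_assoc, mul_inv_rev]
    apply Prod.ext
    · show g * (g * (g * p.1.1 * g⁻¹) * g⁻¹) * g⁻¹ = p.1.1
      rw [e, hggg, one_mul, inv_one, mul_one]
    · show g * (g * (g * p.1.2 * g⁻¹) * g⁻¹) * g⁻¹ = p.1.2
      rw [e, hggg, one_mul, inv_one, mul_one]
  have hmod := Equiv.Perm.card_fixedPoints_modEq (p := 3) (n := 1) hf
  -- exactly one fixed point
  have hfix : Fintype.card (Function.fixedPoints f) = 1 := by
    rw [← Nat.card_eq_fintype_card, Nat.card_eq_one_iff_unique]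
    constructor
    · constructor
      have key : ∀ p : {p : G × G // IsConj z p.1 ∧ IsConj z p.2 ∧ p.1 * p.2 = ee x y c},
          p ∈ Function.fixedPoints f → p.1 = (ee x y a₀, ee x y a₀) := by
        rintro ⟨⟨p, q⟩, hp, hq, hpq⟩ hfp
        simp only at hp hq hpq
        have hfp' : f ⟨(p, q), hp, hq, hpq⟩ = ⟨(p, q), hp, hq, hpq⟩ := hfp
        have e1 : g * p * g⁻¹ = p := congrArg (fun r => r.1.1) hfp'
        have e2 : g * q * g⁻¹ = q := congrArg (fun r => r.1.2) hfp'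
        have c1 : p * g = g * p := by
          have := congrArg (· * g) e1
          simp only [inv_mul_cancel_right] at this
          exact this.symm
        have c2 : q * g = g * q := by
          have := congrArg (· * g) e2
          simp only [inv_mul_cancel_right] at this
          exact this.symm
        have hpM := Cfsg.Agent.Lib.Helper8_D72_BASIC.cent_three h hgM hg1 c1 (cube_of_conj hz3 hp)
        have hqM := Cfsg.Agent.Lib.Helper8_D72_BASIC.cent_three h hgM hg1 c2 (cube_of_conj hz3 hq)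
        obtain ⟨a, rfl⟩ := exists_ee h hpM
        obtain ⟨b, rfl⟩ := exists_ee h hqM
        rw [ee_mul h, ee_eq_iff h] at hpq
        obtain ⟨rfl, rfl⟩ := hdec a ((hC a).1 hp) b ((hC b).1 hq) hpq
        rfl
      rintro ⟨p, hp⟩ ⟨q, hq⟩
      apply Subtype.ext
      apply Subtype.ext
      rw [key p hp, key q hq]
    · refine ⟨⟨⟨(ee x y a₀, ee x y a₀), (hC a₀).2 h0, (hC a₀).2 h0, by rw [ee_mul h, h00]⟩, ?_⟩⟩
      show f _ = _
      apply Subtype.ext
      apply Prod.ext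
      · show g * ee x y a₀ * g⁻¹ = ee x y a₀
        rw [hgdef]; exact ee_conj h a₀ b₀
      · show g * ee x y a₀ * g⁻¹ = ee x y a₀
        rw [hgdef]; exact ee_conj h a₀ b₀
  rw [hfix] at hmod
  rw [Nat.card_eq_fintype_card]
  exact hmod

theorem dec_A : ∀ a ∈ cA, ∀ b ∈ cA, a + b = (1, 0) →
    a = ((2, 0) : ZMod 3 × ZMod 3) ∧ b = (2, 0) := by decide

theorem dec_D : ∀ a ∈ cD, ∀ b ∈ cD, a + b = (1, 1) →
    a = ((2, 2) : ZMod 3 × ZMod 3) ∧ b = (2, 2) := by decide

theorem count_mod_aux (h : Hyp G M x y s w)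
    (hcx : ∀ {t : G}, t ∈ M → (IsConj x t ↔ (t = x ∨ t = x⁻¹ ∨ t = y ∨ t = y⁻¹)))
    (hcxy : ∀ {t : G}, t ∈ M →
      (IsConj (x * y) t ↔ (t = x * y ∨ t = x * y⁻¹ ∨ t = x⁻¹ * y ∨ t = x⁻¹ * y⁻¹))) :
    Nat.card {p : G × G // IsConj x p.1 ∧ IsConj x p.2 ∧ p.1 * p.2 = x} % 3 = 1 ∧
    Nat.card {p : G × G // IsConj (x * y) p.1 ∧ IsConj (x * y) p.2 ∧ p.1 * p.2 = x * y} % 3 = 1 := by
  have hx3 := x_pow_three h
  have hy3 := y_pow_three h
  have hxy3 : (x * y) ^ 3 = 1 := by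
    rw [(show Commute x y from h.comm).mul_pow, hx3, hy3, one_mul]
  constructor
  · have key := card_mod_of h x hx3 cA (1, 0) (2, 0) (0, 1) (by decide) (conj_x_iff h hcx) dec_A
      (by decide) (by decide)
    simpa only [ee_10] using key
  · have key := card_mod_of h (x * y) hxy3 cD (1, 1) (2, 2) (1, 0) (by decide) (conj_xy_iff h hcxy)
      dec_D (by decide) (by decide)
    simpa only [ee_11] using key

end grp

end Cfsg.Agent.Lib.Helper8_D72_CNTMODaux
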