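import Mathlib
import Cfsg.Prelude.Def_Characters
import Cfsg.Agent.Lib.Helper80_CharBasic
import Cfsg.Agent.Lib.Helper62_D72Defs
import Cfsg.Agent.Lib.Helper73_H9_EQS

/-!
# S3716 package EQS, conditional form (helper8 for helper62): the four class-algebra equations.
`eqs_aux` takes the conclusions of the packages CENT (`card_cent`), CNT2 (`count2`) and CNTMOD (`count_mod`)
as explicit hypotheses.
-/

set_option autoImplicit false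
set_option linter.unusedSectionVars false
open scoped ComplexConjugate

namespace Cfsg.Agent.Lib.Helper8_D72_EQSaux

open Cfsg Cfsg.Agent.Lib.Helper80_CharBasic Cfsg.Agent.Lib.Helper62_D72Defs

section grp
variable {G : Type*} [Group G] [Finite G]
variable {M : Subgroup G} {x y s w : G}

theorem eqs_aux {f : IrrCharacter G → ℕ} {a d b b' : IrrCharacter G → ℤ}
    (hv : Vals G x y s w f a d b b')
    (hcent : Nat.card (Subgroup.centralizer ({x} : Set G)) = 18 ∧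
      Nat.card (Subgroup.centralizer ({x * y} : Set G)) = 18)
    (hc2 : Nat.card {p : G × G // IsConj x p.1 ∧ IsConj x p.2 ∧ p.1 * p.2 = x * y} = 2 ∧
      Nat.card {p : G × G // IsConj (x * y) p.1 ∧ IsConj (x * y) p.2 ∧ p.1 * p.2 = x} = 2)
    (hcm : Nat.card {p : G × G // IsConj x p.1 ∧ IsConj x p.2 ∧ p.1 * p.2 = x} % 3 = 1 ∧
      Nat.card {p : G × G // IsConj (x * y) p.1 ∧ IsConj (x * y) p.2 ∧ p.1 * p.2 = x * y} % 3 = 1) :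
    (Nat.card G : ℚ) * ∑ᶠ χ : IrrCharacter G, ((a χ ^ 2 * d χ : ℤ) : ℚ) / (f χ : ℚ) = 648 ∧
    (Nat.card G : ℚ) * ∑ᶠ χ : IrrCharacter G, ((a χ * d χ ^ 2 : ℤ) : ℚ) / (f χ : ℚ) = 648 ∧
    (∃ k : ℕ, (Nat.card G : ℚ) * ∑ᶠ χ : IrrCharacter G, ((a χ ^ 3 : ℤ) : ℚ) / (f χ : ℚ)
      = 324 * (1 + 3 * (k : ℚ))) ∧
    (∃ k : ℕ, (Nat.card G : ℚ) * ∑ᶠ χ : IrrCharacter G, ((d χ ^ 3 : ℤ) : ℚ) / (f χ : ℚ)
      = 324 * (1 + 3 * (k : ℚ))) := by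
  obtain ⟨hcx, hcxy⟩ := hcent
  have vx : ∀ χ : IrrCharacter G, (χ : G → ℂ) x = ((((a χ : ℤ) : ℚ) : ℚ) : ℂ) := by
    intro χ; rw [hv.vx]; push_cast; rfl
  have vxy : ∀ χ : IrrCharacter G, (χ : G → ℂ) (x * y) = ((((d χ : ℤ) : ℚ) : ℚ) : ℂ) := by
    intro χ; rw [hv.vxy]; push_cast; rfl
  have E1 := Cfsg.Agent.Lib.Helper73_H9_EQS.one_eq hcx hcx hc2.1 hv.f1 vx vx vxy
  have E2 := Cfsg.Agent.Lib.Helper73_H9_EQS.one_eq hcxy hcxy hc2.2 hv.f1 vxy vxy vx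
  have E3 := Cfsg.Agent.Lib.Helper73_H9_EQS.one_eq hcx hcx rfl hv.f1 vx vx vx
  have E4 := Cfsg.Agent.Lib.Helper73_H9_EQS.one_eq hcxy hcxy rfl hv.f1 vxy vxy vxy
  refine ⟨?_, ?_, ?_, ?_⟩
  · have : ∑ᶠ χ : IrrCharacter G, ((a χ ^ 2 * d χ : ℤ) : ℚ) / (f χ : ℚ) =
        ∑ᶠ χ : IrrCharacter G, ((a χ : ℤ) : ℚ) * ((a χ : ℤ) : ℚ) * ((d χ : ℤ) : ℚ) / (f χ : ℚ) :=
      finsum_congr fun χ => by push_cast; ring
    rw [this, E1]; norm_num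
  · have : ∑ᶠ χ : IrrCharacter G, ((a χ * d χ ^ 2 : ℤ) : ℚ) / (f χ : ℚ) =
        ∑ᶠ χ : IrrCharacter G, ((d χ : ℤ) : ℚ) * ((d χ : ℤ) : ℚ) * ((a χ : ℤ) : ℚ) / (f χ : ℚ) :=
      finsum_congr fun χ => by push_cast; ring
    rw [this, E2]; norm_num
  · refine ⟨Nat.card {p : G × G // IsConj x p.1 ∧ IsConj x p.2 ∧ p.1 * p.2 = x} / 3, ?_⟩
    have : ∑ᶠ χ : IrrCharacter G, ((a χ ^ 3 : ℤ) : ℚ) / (f χ : ℚ) =
        ∑ᶠ χ : IrrCharacter G, ((a χ : ℤ) : ℚ) * ((a χ : ℤ) : ℚ) * ((a χ : ℤ) : ℚ) / (f χ : ℚ) :=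
      finsum_congr fun χ => by push_cast; ring
    rw [this, E3]
    have hN : (Nat.card {p : G × G // IsConj x p.1 ∧ IsConj x p.2 ∧ p.1 * p.2 = x} : ℚ) =
        1 + 3 * ((Nat.card {p : G × G // IsConj x p.1 ∧ IsConj x p.2 ∧ p.1 * p.2 = x} / 3 : ℕ) : ℚ) := by
      have := Nat.div_add_mod (Nat.card {p : G × G // IsConj x p.1 ∧ IsConj x p.2 ∧ p.1 * p.2 = x}) 3
      rw [hcm.1] at this
      exact_mod_cast (by omega :
        Nat.card {p : G × G // IsConj x p.1 ∧ IsConj x p.2 ∧ p.1 * p.2 = x} =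
          1 + 3 * (Nat.card {p : G × G // IsConj x p.1 ∧ IsConj x p.2 ∧ p.1 * p.2 = x} / 3))
    rw [hN]; norm_num
  · refine ⟨Nat.card {p : G × G // IsConj (x * y) p.1 ∧ IsConj (x * y) p.2 ∧ p.1 * p.2 = x * y} / 3,
      ?_⟩
    have : ∑ᶠ χ : IrrCharacter G, ((d χ ^ 3 : ℤ) : ℚ) / (f χ : ℚ) =
        ∑ᶠ χ : IrrCharacter G, ((d χ : ℤ) : ℚ) * ((d χ : ℤ) : ℚ) * ((d χ : ℤ) : ℚ) / (f χ : ℚ) :=
      finsum_congr fun χ => by push_cast; ring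
    rw [this, E4]
    have hN : (Nat.card {p : G × G //
          IsConj (x * y) p.1 ∧ IsConj (x * y) p.2 ∧ p.1 * p.2 = x * y} : ℚ) =
        1 + 3 * ((Nat.card {p : G × G //
          IsConj (x * y) p.1 ∧ IsConj (x * y) p.2 ∧ p.1 * p.2 = x * y} / 3 : ℕ) : ℚ) := by
      have := Nat.div_add_mod (Nat.card {p : G × G //
          IsConj (x * y) p.1 ∧ IsConj (x * y) p.2 ∧ p.1 * p.2 = x * y}) 3
      rw [hcm.2] at this
      exact_mod_cast (by omega :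
        Nat.card {p : G × G // IsConj (x * y) p.1 ∧ IsConj (x * y) p.2 ∧ p.1 * p.2 = x * y} =
          1 + 3 * (Nat.card {p : G × G //
            IsConj (x * y) p.1 ∧ IsConj (x * y) p.2 ∧ p.1 * p.2 = x * y} / 3))
    rw [hN]; norm_num

end grp

end Cfsg.Agent.Lib.Helper8_D72_EQSaux
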