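import Mathlib
import Cfsg.Prelude.Def_Characters
import Cfsg.Agent.Lib.Helper80_CharBasic
import Cfsg.Agent.Lib.Helper80_CharComplete
import Cfsg.Agent.Lib.Helper62_D72Defs

/-!
# S3716 package GRAM, conditional form (helper8 for helper62): second orthogonality at the pairs among
`1, x, x y, x s, x y w`.  `gram_aux` takes the needed conclusions of the packages CONJ (`not_conj`), CENT
(`card_cent`) and ORD6 (`ord6`) as explicit hypotheses.
-/

set_option autoImplicit false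
set_option linter.unusedSectionVars false
set_option linter.unusedSimpArgs false
open scoped ComplexConjugate

namespace Cfsg.Agent.Lib.Helper8_D72_GRAMaux

open Cfsg Cfsg.Agent.Lib.Helper80_CharBasic Cfsg.Agent.Lib.Helper62_D72Defs

/-- second orthogonality for two integer-valued columns -/
theorem int_orth {G : Type*} [Group G] [Fintype G] [Fintype (IrrCharacter G)] (g h : G)
    (u v : IrrCharacter G → ℤ) (hu : ∀ χ : IrrCharacter G, (χ : G → ℂ) g = (u χ : ℂ))
    (hv : ∀ χ : IrrCharacter G, (χ : G → ℂ) h = (v χ : ℂ)) :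
    (IsConj g h → ∑ χ : IrrCharacter G, u χ * v χ =
        (Nat.card (Subgroup.centralizer ({g} : Set G)) : ℤ)) ∧
      (¬ IsConj g h → ∑ χ : IrrCharacter G, u χ * v χ = 0) := by
  classical
  have o := Cfsg.Agent.Lib.Helper80_CharComplete.second_orthogonality_sum g h
  simp only [hu, hv, map_intCast] at o
  constructor
  · intro hc
    rw [if_pos hc] at o
    exact_mod_cast o
  · intro hc
    rw [if_neg hc] at o
    exact_mod_cast o

theorem orderOf_eq_of_isConj {G : Type*} [Group G] {g h : G} (hc : IsConj g h) :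
    orderOf g = orderOf h := by
  obtain ⟨c, hc⟩ := hc
  exact SemiconjBy.orderOf_eq _ hc

section grp
variable {G : Type*} [Group G] [Finite G]
variable {M : Subgroup G} {x y s w : G}

theorem gram_aux (h : Hyp G M x y s w) {f : IrrCharacter G → ℕ} {a d b b' : IrrCharacter G → ℤ}
    (hv : Vals G x y s w f a d b b')
    (hnc : ¬ IsConj x (x * y))
    (hcent : Nat.card (Subgroup.centralizer ({x} : Set G)) = 18 ∧
      Nat.card (Subgroup.centralizer ({x * y} : Set G)) = 18)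
    (hord : orderOf (x * s) = 6 ∧ orderOf (x * y * w) = 6 ∧
      Nat.card (Subgroup.centralizer ({x * s} : Set G)) = 6 ∧
      Nat.card (Subgroup.centralizer ({x * y * w} : Set G)) = 6 ∧
      IsConj (x * s) (x * s)⁻¹ ∧ IsConj (x * y * w) (x * y * w)⁻¹ ∧ ¬ IsConj (x * s) (x * y * w)) :
    f (oneIrr G) = 1 ∧ a (oneIrr G) = 1 ∧ d (oneIrr G) = 1 ∧ b (oneIrr G) = 1 ∧ b' (oneIrr G) = 1 ∧
    ∑ᶠ χ : IrrCharacter G, a χ ^ 2 = 18 ∧ ∑ᶠ χ : IrrCharacter G, d χ ^ 2 = 18 ∧
    ∑ᶠ χ : IrrCharacter G, b χ ^ 2 = 6 ∧ ∑ᶠ χ : IrrCharacter G, b' χ ^ 2 = 6 ∧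
    ∑ᶠ χ : IrrCharacter G, a χ * d χ = 0 ∧ ∑ᶠ χ : IrrCharacter G, a χ * b χ = 0 ∧
    ∑ᶠ χ : IrrCharacter G, a χ * b' χ = 0 ∧ ∑ᶠ χ : IrrCharacter G, d χ * b χ = 0 ∧
    ∑ᶠ χ : IrrCharacter G, d χ * b' χ = 0 ∧ ∑ᶠ χ : IrrCharacter G, b χ * b' χ = 0 ∧
    ∑ᶠ χ : IrrCharacter G, (f χ : ℤ) * a χ = 0 ∧ ∑ᶠ χ : IrrCharacter G, (f χ : ℤ) * d χ = 0 ∧
    ∑ᶠ χ : IrrCharacter G, (f χ : ℤ) * b χ = 0 ∧ ∑ᶠ χ : IrrCharacter G, (f χ : ℤ) * b' χ = 0 ∧
    ∑ᶠ χ : IrrCharacter G, f χ ^ 2 = Nat.card G := by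
  classical
  have := Fintype.ofFinite G
  let _ : Fintype (IrrCharacter G) := Fintype.ofFinite _
  obtain ⟨ho6, ho6', hc6, hc6', -, -, hnc6⟩ := hord
  have hx3 : x ^ 3 = 1 := by rw [← h.ox]; exact pow_orderOf_eq_one x
  have hy3 : y ^ 3 = 1 := by rw [← h.oy]; exact pow_orderOf_eq_one y
  have hxy3 : (x * y) ^ 3 = 1 := by
    rw [(show Commute x y from h.comm).mul_pow, hx3, hy3, mul_one]
  have hxy1 : x * y ≠ 1 := fun e => h.hne' (eq_inv_of_mul_eq_one_right e)
  have ho_xy : orderOf (x * y) = 3 := orderOf_eq_prime hxy3 hxy1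
  -- the columns
  have hf' : ∀ χ : IrrCharacter G, (χ : G → ℂ) 1 = (((f χ : ℕ) : ℤ) : ℂ) := by
    intro χ
    rw [hv.f1 χ]
    push_cast
    rfl
  -- non-conjugacy by orders
  have n_1x : ¬ IsConj (1 : G) x := fun hc => by
    have := orderOf_eq_of_isConj hc
    rw [orderOf_one, h.ox] at this
    omega
  have n_1d : ¬ IsConj (1 : G) (x * y) := fun hc => by
    have := orderOf_eq_of_isConj hc
    rw [orderOf_one, ho_xy] at this
    omega
  have n_1b : ¬ IsConj (1 : G) (x * s) := fun hc => by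
    have := orderOf_eq_of_isConj hc
    rw [orderOf_one, ho6] at this
    omega
  have n_1b' : ¬ IsConj (1 : G) (x * y * w) := fun hc => by
    have := orderOf_eq_of_isConj hc
    rw [orderOf_one, ho6'] at this
    omega
  have n_ab : ¬ IsConj x (x * s) := fun hc => by
    have := orderOf_eq_of_isConj hc
    rw [h.ox, ho6] at this
    omega
  have n_ab' : ¬ IsConj x (x * y * w) := fun hc => by
    have := orderOf_eq_of_isConj hc
    rw [h.ox, ho6'] at this
    omega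
  have n_db : ¬ IsConj (x * y) (x * s) := fun hc => by
    have := orderOf_eq_of_isConj hc
    rw [ho_xy, ho6] at this
    omega
  have n_db' : ¬ IsConj (x * y) (x * y * w) := fun hc => by
    have := orderOf_eq_of_isConj hc
    rw [ho_xy, ho6'] at this
    omega
  -- the principal character
  have e1 : ∀ g : G, ((oneIrr G : IrrCharacter G) : G → ℂ) g = 1 := fun _ => rfl
  have hf1 : f (oneIrr G) = 1 := by
    have := hv.f1 (oneIrr G)
    rw [e1] at this
    exact_mod_cast this.symm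
  have ha1 : a (oneIrr G) = 1 := by
    have := hv.vx (oneIrr G)
    rw [e1] at this
    exact_mod_cast this.symm
  have hd1 : d (oneIrr G) = 1 := by
    have := hv.vxy (oneIrr G)
    rw [e1] at this
    exact_mod_cast this.symm
  have hb1 : b (oneIrr G) = 1 := by
    have := hv.vxs (oneIrr G)
    rw [e1] at this
    exact_mod_cast this.symm
  have hb'1 : b' (oneIrr G) = 1 := by
    have := hv.vxyw (oneIrr G)
    rw [e1] at this
    exact_mod_cast this.symm
  -- the sums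
  have s_aa := (int_orth x x a a hv.vx hv.vx).1 (IsConj.refl _)
  have s_dd := (int_orth (x * y) (x * y) d d hv.vxy hv.vxy).1 (IsConj.refl _)
  have s_bb := (int_orth (x * s) (x * s) b b hv.vxs hv.vxs).1 (IsConj.refl _)
  have s_b'b' := (int_orth (x * y * w) (x * y * w) b' b' hv.vxyw hv.vxyw).1 (IsConj.refl _)
  have s_ad := (int_orth x (x * y) a d hv.vx hv.vxy).2 hnc
  have s_ab := (int_orth x (x * s) a b hv.vx hv.vxs).2 n_ab
  have s_ab' := (int_orth x (x * y * w) a b' hv.vx hv.vxyw).2 n_ab'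
  have s_db := (int_orth (x * y) (x * s) d b hv.vxy hv.vxs).2 n_db
  have s_db' := (int_orth (x * y) (x * y * w) d b' hv.vxy hv.vxyw).2 n_db'
  have s_bb' := (int_orth (x * s) (x * y * w) b b' hv.vxs hv.vxyw).2 hnc6
  have s_fa := (int_orth 1 x (fun χ => ((f χ : ℕ) : ℤ)) a hf' hv.vx).2 n_1x
  have s_fd := (int_orth 1 (x * y) (fun χ => ((f χ : ℕ) : ℤ)) d hf' hv.vxy).2 n_1d
  have s_fb := (int_orth 1 (x * s) (fun χ => ((f χ : ℕ) : ℤ)) b hf' hv.vxs).2 n_1b
  have s_fb' := (int_orth 1 (x * y * w) (fun χ => ((f χ : ℕ) : ℤ)) b' hf' hv.vxyw).2 n_1b'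
  rw [hcent.1] at s_aa
  rw [hcent.2] at s_dd
  rw [hc6] at s_bb
  rw [hc6'] at s_b'b'
  -- degrees
  have hsq := Cfsg.Agent.Lib.Helper80_CharComplete.sum_sq_degrees (G := G)
  rw [finsum_eq_sum_of_fintype] at hsq
  simp only [hv.f1] at hsq
  have hF : ∑ χ : IrrCharacter G, f χ ^ 2 = Nat.card G := by exact_mod_cast hsq
  have sq : ∀ u : IrrCharacter G → ℤ, ∑ χ : IrrCharacter G, u χ ^ 2 = ∑ χ : IrrCharacter G, u χ * u χ :=
    fun u => Finset.sum_congr rfl (fun χ _ => by ring)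
  simp only [finsum_eq_sum_of_fintype]
  refine ⟨hf1, ha1, hd1, hb1, hb'1, ?_, ?_, ?_, ?_, s_ad, s_ab, s_ab', s_db, s_db', s_bb',
    s_fa, s_fd, s_fb, s_fb', hF⟩
  · rw [sq]; exact_mod_cast s_aa
  · rw [sq]; exact_mod_cast s_dd
  · rw [sq]; exact_mod_cast s_bb
  · rw [sq]; exact_mod_cast s_b'b'

end grp

end Cfsg.Agent.Lib.Helper8_D72_GRAMaux
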