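import Cfsg.Agent.Lib.Helper4_E8Defs
import Cfsg.Agent.Lib.Helper18_ChevDatumE8
import Cfsg.Agent.Lib.Helper18_ChevTCertE8
import Cfsg.Agent.Lib.Helper18_ChevACerts

/-!
# S5751 package TX (helper4's market `e8c_packages`)

The coordinates of the root elements: `tco r (x_s(t)) = t` if `s = r`, and `0` otherwise.
-/

set_option autoImplicit false

namespace Cfsg.Agent.Lib.Helper8_E8C_TX

open Cfsg Cfsg.Lie Cfsg.Agent.Lib.Helper18_MatTri Cfsg.Agent.Lib.Helper18_ChevTri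
  Cfsg.Agent.Lib.Helper4_E8Defs Cfsg.Agent.Lib.Helper18_ChevFacts Cfsg.Agent.Lib.Helper18_ChevWeyl
  Cfsg.Agent.Lib.Helper18_ChevTorus Cfsg.Agent.Lib.Helper18_ChevUni Cfsg.Agent.Lib.Helper18_ChevGL

/-- every root of `E₈` has an odd coroot coefficient, at the index `oddIx r` -/
theorem cor_odd : ∀ r < 240, (D8.coroot.getD r #[]).getD (oddIx r % 8) 0 % 2 = 1 := by
  decide +kernel

theorem cor_cast_eq_one (r : ℕ) (hr : r < 240) :
    ((cor D8 r (oddIx r % 8) : ℤ) : F2) = 1 := by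
  have h := cor_odd r hr
  unfold cor
  rw [← ZMod.intCast_mod _ 2]
  have h2 : (((2 : ℕ) : ℤ)) = 2 := rfl
  rw [h2, h]
  rfl

theorem tco_x (r s : ℕ) (hr : r < 240) (hs : s < 240) (t : F2) (g : GLE)
    (hg : (g : Matrix D8.Idx D8.Idx F2) = D8.x F2 s t) : tco r g = if s = r then t else 0 := by
  have c := Cfsg.Agent.Lib.Helper18_ChevDatumE8.dcert
  have hnr : D8.neg r < D8.nroots := DCert.neg_lt c r hr
  unfold tco
  rw [dif_pos hnr, hg, x_entry_inl_neg c Cfsg.Agent.Lib.Helper18_ChevTCertE8.tcert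
    Cfsg.Agent.Lib.Helper18_ChevACerts.acertE8 r s hr hs hnr]
  split_ifs with h
  · have := cor_cast_eq_one r hr
    show ((cor D8 r (oddIx r % 8) : ℤ) : F2) * t = t
    rw [this, one_mul]
  · rfl

end Cfsg.Agent.Lib.Helper8_E8C_TX
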