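import Mathlib

set_option autoImplicit false

/-!
# Helper8_F5040_ARBrute: the finite search behind package F5040-AR of S0978

A Boolean checker `chk` over the numbers of characters of each (degree, value) type, evaluated by
the kernel (`decide +kernel`), and its propositional readings `brute`, `brute2`.
-/

namespace Cfsg.Agent.Lib.Helper8_F5040_ARBrute

/-- bounded universal quantifier as a Boolean -/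
def allLE : ℕ → (ℕ → Bool) → Bool
  | 0, f => f 0
  | k + 1, f => f (k + 1) && allLE k f

theorem allLE_spec : ∀ {n : ℕ} {f : ℕ → Bool}, allLE n f = true → ∀ x, x ≤ n → f x = true
  | 0, f, h, x, hx => by
    have : x = 0 := by omega
    subst this
    exact h
  | k + 1, f, h, x, hx => by
    rw [allLE, Bool.and_eq_true] at h
    rcases Nat.lt_or_ge x (k + 1) with hlt | hge
    · exact allLE_spec h.2 x (by omega)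
    · have : x = k + 1 := by omega
      subst this
      exact h.1

/-- Boolean implication with a decidable premise -/
def impB (p : Prop) [Decidable p] (r : Bool) : Bool := !(decide p) || r

theorem impB_spec {p : Prop} [Decidable p] {r : Bool} (h : impB p r = true) (hp : p) : r = true := by
  unfold impB at h
  simpa [hp] using h

def chk : Bool :=
  allLE (6) fun m8 =>
  allLE (6 - m8) fun m15 =>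
  allLE (6 - m8 - m15) fun m36 =>
  allLE (6 - m8 - m15 - m36) fun m6 =>
  allLE (6 - m8 - m15 - m36 - m6) fun m20 =>
  allLE (6 - m8 - m15 - m36 - m6 - m20) fun m48 =>
  impB (m8 + m15 + m36 + m6 + m20 + m48 = 6) <|
  impB (1 + 8 * m8 + 15 * m15 + 36 * m36 = 6 * m6 + 20 * m20 + 48 * m48) <|
  impB (1 + 64 * m8 + 225 * m15 + 1296 * m36 + 36 * m6 + 400 * m20 + 2304 * m48 ≤ 5040) <|
  allLE (m8) fun n8_p4 =>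
  allLE (m8 - n8_p4) fun n8_p0 =>
  allLE (m8 - n8_p4 - n8_p0) fun n8_m4 =>
  allLE (m8 - n8_p4 - n8_p0 - n8_m4) fun n8_m8 =>
  impB (n8_p4 + n8_p0 + n8_m4 + n8_m8 = m8) <|
  allLE (m15) fun n15_p7 =>
  allLE (m15 - n15_p7) fun n15_p3 =>
  allLE (m15 - n15_p7 - n15_p3) fun n15_m1 =>
  allLE (m15 - n15_p7 - n15_p3 - n15_m1) fun n15_m5 =>
  allLE (m15 - n15_p7 - n15_p3 - n15_m1 - n15_m5) fun n15_m9 =>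
  impB (n15_p7 + n15_p3 + n15_m1 + n15_m5 + n15_m9 = m15) <|
  allLE (m36) fun n36_p8 =>
  allLE (m36 - n36_p8) fun n36_p4 =>
  allLE (m36 - n36_p8 - n36_p4) fun n36_p0 =>
  allLE (m36 - n36_p8 - n36_p4 - n36_p0) fun n36_m4 =>
  allLE (m36 - n36_p8 - n36_p4 - n36_p0 - n36_m4) fun n36_m8 =>
  impB (n36_p8 + n36_p4 + n36_p0 + n36_m4 + n36_m8 = m36) <|
  allLE (m6) fun n6_p2 =>
  allLE (m6 - n6_p2) fun n6_m2 =>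
  allLE (m6 - n6_p2 - n6_m2) fun n6_m6 =>
  impB (n6_p2 + n6_m2 + n6_m6 = m6) <|
  allLE (m20) fun n20_p8 =>
  allLE (m20 - n20_p8) fun n20_p4 =>
  allLE (m20 - n20_p8 - n20_p4) fun n20_p0 =>
  allLE (m20 - n20_p8 - n20_p4 - n20_p0) fun n20_m4 =>
  allLE (m20 - n20_p8 - n20_p4 - n20_p0 - n20_m4) fun n20_m8 =>
  impB (n20_p8 + n20_p4 + n20_p0 + n20_m4 + n20_m8 = m20) <|
  allLE (m48) fun n48_p8 =>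
  allLE (m48 - n48_p8) fun n48_p4 =>
  allLE (m48 - n48_p8 - n48_p4) fun n48_p0 =>
  allLE (m48 - n48_p8 - n48_p4 - n48_p0) fun n48_m4 =>
  allLE (m48 - n48_p8 - n48_p4 - n48_p0 - n48_m4) fun n48_m8 =>
  impB (n48_p8 + n48_p4 + n48_p0 + n48_m4 + n48_m8 = m48) <|
  impB (1 + 4 * n8_p4 + 7 * n15_p7 + 3 * n15_p3 + 8 * n36_p8 + 4 * n36_p4 + 2 * n6_m2 + 6 * n6_m6 + 4 * n20_m4 + 8 * n20_m8 + 4 * n48_m4 + 8 * n48_m8 = 4 * n8_m4 + 8 * n8_m8 + 1 * n15_m1 + 5 * n15_m5 + 9 * n15_m9 + 4 * n36_m4 + 8 * n36_m8 + 2 * n6_p2 + 8 * n20_p8 + 4 * n20_p4 + 8 * n48_p8 + 4 * n48_p4) <|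
  allLE (96) fun c =>
  impB (c ∣ 5040) <|
  impB (1 + 16 * n8_p4 + 16 * n8_m4 + 64 * n8_m8 + 49 * n15_p7 + 9 * n15_p3 + 1 * n15_m1 + 25 * n15_m5 + 81 * n15_m9 + 64 * n36_p8 + 16 * n36_p4 + 16 * n36_m4 + 64 * n36_m8 + 4 * n6_p2 + 4 * n6_m2 + 36 * n6_m6 + 64 * n20_p8 + 16 * n20_p4 + 16 * n20_m4 + 64 * n20_m8 + 64 * n48_p8 + 16 * n48_p4 + 16 * n48_m4 + 64 * n48_m8 ≤ c) <|
  impB (c * c + 480 * n6_p2 + 480 * n6_m2 + 4320 * n6_m6 + 2304 * n20_p8 + 576 * n20_p4 + 576 * n20_m4 + 2304 * n20_m8 + 960 * n48_p8 + 240 * n48_p4 + 240 * n48_m4 + 960 * n48_m8 = 720 + 1440 * n8_p4 + 1440 * n8_m4 + 5760 * n8_m8 + 2352 * n15_p7 + 432 * n15_p3 + 48 * n15_m1 + 1200 * n15_m5 + 3888 * n15_m9 + 1280 * n36_p8 + 320 * n36_p4 + 320 * n36_m4 + 1280 * n36_m8) <|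
  decide (c = 48 ∧ 16 * n8_p4 + 16 * n8_m4 + 64 * n8_m8 + 49 * n15_p7 + 9 * n15_p3 + 1 * n15_m1 + 25 * n15_m5 + 81 * n15_m9 + 64 * n36_p8 + 16 * n36_p4 + 16 * n36_m4 + 64 * n36_m8 + 4 * n6_p2 + 4 * n6_m2 + 36 * n6_m6 + 64 * n20_p8 + 16 * n20_p4 + 16 * n20_m4 + 64 * n20_m8 + 64 * n48_p8 + 16 * n48_p4 + 16 * n48_m4 + 64 * n48_m8 = 47 ∧ 1 ≤ n6_p2 ∧ n8_m4 = 0 ∧ n8_m8 = 0 ∧ n15_m1 = 0 ∧ n15_m9 = 0 ∧ n36_m4 = 0 ∧ n36_m8 = 0 ∧ n6_m2 = 0 ∧ n6_m6 = 0 ∧ n20_m4 = 0 ∧ n20_m8 = 0 ∧ n48_m4 = 0 ∧ n48_m8 = 0)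

set_option maxRecDepth 1000000 in
theorem chk_true : chk = true := by decide +kernel

theorem brute :
    ∀ m8 : ℕ, m8 ≤ 6 →
    ∀ m15 : ℕ, m15 ≤ 6 - m8 →
    ∀ m36 : ℕ, m36 ≤ 6 - m8 - m15 →
    ∀ m6 : ℕ, m6 ≤ 6 - m8 - m15 - m36 →
    ∀ m20 : ℕ, m20 ≤ 6 - m8 - m15 - m36 - m6 →
    ∀ m48 : ℕ, m48 ≤ 6 - m8 - m15 - m36 - m6 - m20 →
    (m8 + m15 + m36 + m6 + m20 + m48 = 6) →
    (1 + 8 * m8 + 15 * m15 + 36 * m36 = 6 * m6 + 20 * m20 + 48 * m48) →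
    (1 + 64 * m8 + 225 * m15 + 1296 * m36 + 36 * m6 + 400 * m20 + 2304 * m48 ≤ 5040) →
    ∀ n8_p4 : ℕ, n8_p4 ≤ m8 →
    ∀ n8_p0 : ℕ, n8_p0 ≤ m8 - n8_p4 →
    ∀ n8_m4 : ℕ, n8_m4 ≤ m8 - n8_p4 - n8_p0 →
    ∀ n8_m8 : ℕ, n8_m8 ≤ m8 - n8_p4 - n8_p0 - n8_m4 →
    (n8_p4 + n8_p0 + n8_m4 + n8_m8 = m8) →
    ∀ n15_p7 : ℕ, n15_p7 ≤ m15 →
    ∀ n15_p3 : ℕ, n15_p3 ≤ m15 - n15_p7 →
    ∀ n15_m1 : ℕ, n15_m1 ≤ m15 - n15_p7 - n15_p3 →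
    ∀ n15_m5 : ℕ, n15_m5 ≤ m15 - n15_p7 - n15_p3 - n15_m1 →
    ∀ n15_m9 : ℕ, n15_m9 ≤ m15 - n15_p7 - n15_p3 - n15_m1 - n15_m5 →
    (n15_p7 + n15_p3 + n15_m1 + n15_m5 + n15_m9 = m15) →
    ∀ n36_p8 : ℕ, n36_p8 ≤ m36 →
    ∀ n36_p4 : ℕ, n36_p4 ≤ m36 - n36_p8 →
    ∀ n36_p0 : ℕ, n36_p0 ≤ m36 - n36_p8 - n36_p4 →
    ∀ n36_m4 : ℕ, n36_m4 ≤ m36 - n36_p8 - n36_p4 - n36_p0 →
    ∀ n36_m8 : ℕ, n36_m8 ≤ m36 - n36_p8 - n36_p4 - n36_p0 - n36_m4 →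
    (n36_p8 + n36_p4 + n36_p0 + n36_m4 + n36_m8 = m36) →
    ∀ n6_p2 : ℕ, n6_p2 ≤ m6 →
    ∀ n6_m2 : ℕ, n6_m2 ≤ m6 - n6_p2 →
    ∀ n6_m6 : ℕ, n6_m6 ≤ m6 - n6_p2 - n6_m2 →
    (n6_p2 + n6_m2 + n6_m6 = m6) →
    ∀ n20_p8 : ℕ, n20_p8 ≤ m20 →
    ∀ n20_p4 : ℕ, n20_p4 ≤ m20 - n20_p8 →
    ∀ n20_p0 : ℕ, n20_p0 ≤ m20 - n20_p8 - n20_p4 →
    ∀ n20_m4 : ℕ, n20_m4 ≤ m20 - n20_p8 - n20_p4 - n20_p0 →
    ∀ n20_m8 : ℕ, n20_m8 ≤ m20 - n20_p8 - n20_p4 - n20_p0 - n20_m4 →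
    (n20_p8 + n20_p4 + n20_p0 + n20_m4 + n20_m8 = m20) →
    ∀ n48_p8 : ℕ, n48_p8 ≤ m48 →
    ∀ n48_p4 : ℕ, n48_p4 ≤ m48 - n48_p8 →
    ∀ n48_p0 : ℕ, n48_p0 ≤ m48 - n48_p8 - n48_p4 →
    ∀ n48_m4 : ℕ, n48_m4 ≤ m48 - n48_p8 - n48_p4 - n48_p0 →
    ∀ n48_m8 : ℕ, n48_m8 ≤ m48 - n48_p8 - n48_p4 - n48_p0 - n48_m4 →
    (n48_p8 + n48_p4 + n48_p0 + n48_m4 + n48_m8 = m48) →
    (1 + 4 * n8_p4 + 7 * n15_p7 + 3 * n15_p3 + 8 * n36_p8 + 4 * n36_p4 + 2 * n6_m2 + 6 * n6_m6 + 4 * n20_m4 + 8 * n20_m8 + 4 * n48_m4 + 8 * n48_m8 = 4 * n8_m4 + 8 * n8_m8 + 1 * n15_m1 + 5 * n15_m5 + 9 * n15_m9 + 4 * n36_m4 + 8 * n36_m8 + 2 * n6_p2 + 8 * n20_p8 + 4 * n20_p4 + 8 * n48_p8 + 4 * n48_p4) →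
    ∀ c : ℕ, c ≤ 96 →
    (c ∣ 5040) →
    (1 + 16 * n8_p4 + 16 * n8_m4 + 64 * n8_m8 + 49 * n15_p7 + 9 * n15_p3 + 1 * n15_m1 + 25 * n15_m5 + 81 * n15_m9 + 64 * n36_p8 + 16 * n36_p4 + 16 * n36_m4 + 64 * n36_m8 + 4 * n6_p2 + 4 * n6_m2 + 36 * n6_m6 + 64 * n20_p8 + 16 * n20_p4 + 16 * n20_m4 + 64 * n20_m8 + 64 * n48_p8 + 16 * n48_p4 + 16 * n48_m4 + 64 * n48_m8 ≤ c) →
    (c * c + 480 * n6_p2 + 480 * n6_m2 + 4320 * n6_m6 + 2304 * n20_p8 + 576 * n20_p4 + 576 * n20_m4 + 2304 * n20_m8 + 960 * n48_p8 + 240 * n48_p4 + 240 * n48_m4 + 960 * n48_m8 = 720 + 1440 * n8_p4 + 1440 * n8_m4 + 5760 * n8_m8 + 2352 * n15_p7 + 432 * n15_p3 + 48 * n15_m1 + 1200 * n15_m5 + 3888 * n15_m9 + 1280 * n36_p8 + 320 * n36_p4 + 320 * n36_m4 + 1280 * n36_m8) →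
    c = 48 ∧ 16 * n8_p4 + 16 * n8_m4 + 64 * n8_m8 + 49 * n15_p7 + 9 * n15_p3 + 1 * n15_m1 + 25 * n15_m5 + 81 * n15_m9 + 64 * n36_p8 + 16 * n36_p4 + 16 * n36_m4 + 64 * n36_m8 + 4 * n6_p2 + 4 * n6_m2 + 36 * n6_m6 + 64 * n20_p8 + 16 * n20_p4 + 16 * n20_m4 + 64 * n20_m8 + 64 * n48_p8 + 16 * n48_p4 + 16 * n48_m4 + 64 * n48_m8 = 47 ∧ 1 ≤ n6_p2 ∧ n8_m4 = 0 ∧ n8_m8 = 0 ∧ n15_m1 = 0 ∧ n15_m9 = 0 ∧ n36_m4 = 0 ∧ n36_m8 = 0 ∧ n6_m2 = 0 ∧ n6_m6 = 0 ∧ n20_m4 = 0 ∧ n20_m8 = 0 ∧ n48_m4 = 0 ∧ n48_m8 = 0 := by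
  intro m8 hb1 m15 hb2 m36 hb3 m6 hb4 m20 hb5 m48 hb6 hp7 hp8 hp9 n8_p4 hb10 n8_p0 hb11 n8_m4 hb12 n8_m8 hb13 hp14 n15_p7 hb15 n15_p3 hb16 n15_m1 hb17 n15_m5 hb18 n15_m9 hb19 hp20 n36_p8 hb21 n36_p4 hb22 n36_p0 hb23 n36_m4 hb24 n36_m8 hb25 hp26 n6_p2 hb27 n6_m2 hb28 n6_m6 hb29 hp30 n20_p8 hb31 n20_p4 hb32 n20_p0 hb33 n20_m4 hb34 n20_m8 hb35 hp36 n48_p8 hb37 n48_p4 hb38 n48_p0 hb39 n48_m4 hb40 n48_m8 hb41 hp42 hp43 c hb44 hp45 hp46 hp47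
  have h0 := chk_true
  unfold chk at h0
  have h1 := allLE_spec h0 m8 hb1
  have h2 := allLE_spec h1 m15 hb2
  have h3 := allLE_spec h2 m36 hb3
  have h4 := allLE_spec h3 m6 hb4
  have h5 := allLE_spec h4 m20 hb5
  have h6 := allLE_spec h5 m48 hb6
  have h7 := impB_spec h6 hp7
  have h8 := impB_spec h7 hp8
  have h9 := impB_spec h8 hp9
  have h10 := allLE_spec h9 n8_p4 hb10
  have h11 := allLE_spec h10 n8_p0 hb11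
  have h12 := allLE_spec h11 n8_m4 hb12
  have h13 := allLE_spec h12 n8_m8 hb13
  have h14 := impB_spec h13 hp14
  have h15 := allLE_spec h14 n15_p7 hb15
  have h16 := allLE_spec h15 n15_p3 hb16
  have h17 := allLE_spec h16 n15_m1 hb17
  have h18 := allLE_spec h17 n15_m5 hb18
  have h19 := allLE_spec h18 n15_m9 hb19
  have h20 := impB_spec h19 hp20
  have h21 := allLE_spec h20 n36_p8 hb21
  have h22 := allLE_spec h21 n36_p4 hb22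
  have h23 := allLE_spec h22 n36_p0 hb23
  have h24 := allLE_spec h23 n36_m4 hb24
  have h25 := allLE_spec h24 n36_m8 hb25
  have h26 := impB_spec h25 hp26
  have h27 := allLE_spec h26 n6_p2 hb27
  have h28 := allLE_spec h27 n6_m2 hb28
  have h29 := allLE_spec h28 n6_m6 hb29
  have h30 := impB_spec h29 hp30
  have h31 := allLE_spec h30 n20_p8 hb31
  have h32 := allLE_spec h31 n20_p4 hb32
  have h33 := allLE_spec h32 n20_p0 hb33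
  have h34 := allLE_spec h33 n20_m4 hb34
  have h35 := allLE_spec h34 n20_m8 hb35
  have h36 := impB_spec h35 hp36
  have h37 := allLE_spec h36 n48_p8 hb37
  have h38 := allLE_spec h37 n48_p4 hb38
  have h39 := allLE_spec h38 n48_p0 hb39
  have h40 := allLE_spec h39 n48_m4 hb40
  have h41 := allLE_spec h40 n48_m8 hb41
  have h42 := impB_spec h41 hp42
  have h43 := impB_spec h42 hp43
  have h44 := allLE_spec h43 c hb44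
  have h45 := impB_spec h44 hp45
  have h46 := impB_spec h45 hp46
  have h47 := impB_spec h46 hp47
  exact of_decide_eq_true h47

theorem brute2 (n8_p4 n8_p0 n8_m4 n8_m8 n15_p7 n15_p3 n15_m1 n15_m5 n15_m9 n36_p8 n36_p4 n36_p0 n36_m4 n36_m8 n6_p2 n6_m2 n6_m6 n20_p8 n20_p4 n20_p0 n20_m4 n20_m8 n48_p8 n48_p4 n48_p0 n48_m4 n48_m8 : ℕ)
    (h0 : (n8_p4 + n8_p0 + n8_m4 + n8_m8) + (n15_p7 + n15_p3 + n15_m1 + n15_m5 + n15_m9) + (n36_p8 + n36_p4 + n36_p0 + n36_m4 + n36_m8) + (n6_p2 + n6_m2 + n6_m6) + (n20_p8 + n20_p4 + n20_p0 + n20_m4 + n20_m8) + (n48_p8 + n48_p4 + n48_p0 + n48_m4 + n48_m8) = 6) :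
    (1 + 8 * (n8_p4 + n8_p0 + n8_m4 + n8_m8) + 15 * (n15_p7 + n15_p3 + n15_m1 + n15_m5 + n15_m9) + 36 * (n36_p8 + n36_p4 + n36_p0 + n36_m4 + n36_m8) = 6 * (n6_p2 + n6_m2 + n6_m6) + 20 * (n20_p8 + n20_p4 + n20_p0 + n20_m4 + n20_m8) + 48 * (n48_p8 + n48_p4 + n48_p0 + n48_m4 + n48_m8)) →
    (1 + 64 * (n8_p4 + n8_p0 + n8_m4 + n8_m8) + 225 * (n15_p7 + n15_p3 + n15_m1 + n15_m5 + n15_m9) + 1296 * (n36_p8 + n36_p4 + n36_p0 + n36_m4 + n36_m8) + 36 * (n6_p2 + n6_m2 + n6_m6) + 400 * (n20_p8 + n20_p4 + n20_p0 + n20_m4 + n20_m8) + 2304 * (n48_p8 + n48_p4 + n48_p0 + n48_m4 + n48_m8) ≤ 5040) →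
    (1 + 4 * n8_p4 + 7 * n15_p7 + 3 * n15_p3 + 8 * n36_p8 + 4 * n36_p4 + 2 * n6_m2 + 6 * n6_m6 + 4 * n20_m4 + 8 * n20_m8 + 4 * n48_m4 + 8 * n48_m8 = 4 * n8_m4 + 8 * n8_m8 + 1 * n15_m1 + 5 * n15_m5 + 9 * n15_m9 + 4 * n36_m4 + 8 * n36_m8 + 2 * n6_p2 + 8 * n20_p8 + 4 * n20_p4 + 8 * n48_p8 + 4 * n48_p4) →
    ∀ c : ℕ, c ≤ 96 →
    (c ∣ 5040) →
    (1 + 16 * n8_p4 + 16 * n8_m4 + 64 * n8_m8 + 49 * n15_p7 + 9 * n15_p3 + 1 * n15_m1 + 25 * n15_m5 + 81 * n15_m9 + 64 * n36_p8 + 16 * n36_p4 + 16 * n36_m4 + 64 * n36_m8 + 4 * n6_p2 + 4 * n6_m2 + 36 * n6_m6 + 64 * n20_p8 + 16 * n20_p4 + 16 * n20_m4 + 64 * n20_m8 + 64 * n48_p8 + 16 * n48_p4 + 16 * n48_m4 + 64 * n48_m8 ≤ c) →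
    (c * c + 480 * n6_p2 + 480 * n6_m2 + 4320 * n6_m6 + 2304 * n20_p8 + 576 * n20_p4 + 576 * n20_m4 + 2304 * n20_m8 + 960 * n48_p8 + 240 * n48_p4 + 240 * n48_m4 + 960 * n48_m8 = 720 + 1440 * n8_p4 + 1440 * n8_m4 + 5760 * n8_m8 + 2352 * n15_p7 + 432 * n15_p3 + 48 * n15_m1 + 1200 * n15_m5 + 3888 * n15_m9 + 1280 * n36_p8 + 320 * n36_p4 + 320 * n36_m4 + 1280 * n36_m8) →
    c = 48 ∧ 16 * n8_p4 + 16 * n8_m4 + 64 * n8_m8 + 49 * n15_p7 + 9 * n15_p3 + 1 * n15_m1 + 25 * n15_m5 + 81 * n15_m9 + 64 * n36_p8 + 16 * n36_p4 + 16 * n36_m4 + 64 * n36_m8 + 4 * n6_p2 + 4 * n6_m2 + 36 * n6_m6 + 64 * n20_p8 + 16 * n20_p4 + 16 * n20_m4 + 64 * n20_m8 + 64 * n48_p8 + 16 * n48_p4 + 16 * n48_m4 + 64 * n48_m8 = 47 ∧ 1 ≤ n6_p2 ∧ n8_m4 = 0 ∧ n8_m8 = 0 ∧ n15_m1 = 0 ∧ n15_m9 = 0 ∧ n36_m4 = 0 ∧ n36_m8 = 0 ∧ n6_m2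 = 0 ∧ n6_m6 = 0 ∧ n20_m4 = 0 ∧ n20_m8 = 0 ∧ n48_m4 = 0 ∧ n48_m8 = 0 := by
  have b1 : (n8_p4 + n8_p0 + n8_m4 + n8_m8) ≤ 6 := by omega
  have b2 : (n15_p7 + n15_p3 + n15_m1 + n15_m5 + n15_m9) ≤ 6 - (n8_p4 + n8_p0 + n8_m4 + n8_m8) := by omega
  have b3 : (n36_p8 + n36_p4 + n36_p0 + n36_m4 + n36_m8) ≤ 6 - (n8_p4 + n8_p0 + n8_m4 + n8_m8) - (n15_p7 + n15_p3 + n15_m1 + n15_m5 + n15_m9) := by omega
  have b4 : (n6_p2 + n6_m2 + n6_m6) ≤ 6 - (n8_p4 + n8_p0 + n8_m4 + n8_m8) - (n15_p7 + n15_p3 + n15_m1 + n15_m5 + n15_m9) - (n36_p8 + n36_p4 + n36_p0 + n36_m4 + n36_m8) := by omega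
  have b5 : (n20_p8 + n20_p4 + n20_p0 + n20_m4 + n20_m8) ≤ 6 - (n8_p4 + n8_p0 + n8_m4 + n8_m8) - (n15_p7 + n15_p3 + n15_m1 + n15_m5 + n15_m9) - (n36_p8 + n36_p4 + n36_p0 + n36_m4 + n36_m8) - (n6_p2 + n6_m2 + n6_m6) := by omega
  have b6 : (n48_p8 + n48_p4 + n48_p0 + n48_m4 + n48_m8) ≤ 6 - (n8_p4 + n8_p0 + n8_m4 + n8_m8) - (n15_p7 + n15_p3 + n15_m1 + n15_m5 + n15_m9) - (n36_p8 + n36_p4 + n36_p0 + n36_m4 + n36_m8) - (n6_p2 + n6_m2 + n6_m6) - (n20_p8 + n20_p4 + n20_p0 + n20_m4 + n20_m8) := by omega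
  have b10 : n8_p4 ≤ (n8_p4 + n8_p0 + n8_m4 + n8_m8) := by omega
  have b11 : n8_p0 ≤ (n8_p4 + n8_p0 + n8_m4 + n8_m8) - n8_p4 := by omega
  have b12 : n8_m4 ≤ (n8_p4 + n8_p0 + n8_m4 + n8_m8) - n8_p4 - n8_p0 := by omega
  have b13 : n8_m8 ≤ (n8_p4 + n8_p0 + n8_m4 + n8_m8) - n8_p4 - n8_p0 - n8_m4 := by omega
  have b15 : n15_p7 ≤ (n15_p7 + n15_p3 + n15_m1 + n15_m5 + n15_m9) := by omega
  have b16 : n15_p3 ≤ (n15_p7 + n15_p3 + n15_m1 + n15_m5 + n15_m9) - n15_p7 := by omega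
  have b17 : n15_m1 ≤ (n15_p7 + n15_p3 + n15_m1 + n15_m5 + n15_m9) - n15_p7 - n15_p3 := by omega
  have b18 : n15_m5 ≤ (n15_p7 + n15_p3 + n15_m1 + n15_m5 + n15_m9) - n15_p7 - n15_p3 - n15_m1 := by omega
  have b19 : n15_m9 ≤ (n15_p7 + n15_p3 + n15_m1 + n15_m5 + n15_m9) - n15_p7 - n15_p3 - n15_m1 - n15_m5 := by omega
  have b21 : n36_p8 ≤ (n36_p8 + n36_p4 + n36_p0 + n36_m4 + n36_m8) := by omega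
  have b22 : n36_p4 ≤ (n36_p8 + n36_p4 + n36_p0 + n36_m4 + n36_m8) - n36_p8 := by omega
  have b23 : n36_p0 ≤ (n36_p8 + n36_p4 + n36_p0 + n36_m4 + n36_m8) - n36_p8 - n36_p4 := by omega
  have b24 : n36_m4 ≤ (n36_p8 + n36_p4 + n36_p0 + n36_m4 + n36_m8) - n36_p8 - n36_p4 - n36_p0 := by omega
  have b25 : n36_m8 ≤ (n36_p8 + n36_p4 + n36_p0 + n36_m4 + n36_m8) - n36_p8 - n36_p4 - n36_p0 - n36_m4 := by omega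
  have b27 : n6_p2 ≤ (n6_p2 + n6_m2 + n6_m6) := by omega
  have b28 : n6_m2 ≤ (n6_p2 + n6_m2 + n6_m6) - n6_p2 := by omega
  have b29 : n6_m6 ≤ (n6_p2 + n6_m2 + n6_m6) - n6_p2 - n6_m2 := by omega
  have b31 : n20_p8 ≤ (n20_p8 + n20_p4 + n20_p0 + n20_m4 + n20_m8) := by omega
  have b32 : n20_p4 ≤ (n20_p8 + n20_p4 + n20_p0 + n20_m4 + n20_m8) - n20_p8 := by omega
  have b33 : n20_p0 ≤ (n20_p8 + n20_p4 + n20_p0 + n20_m4 + n20_m8) - n20_p8 - n20_p4 := by omega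
  have b34 : n20_m4 ≤ (n20_p8 + n20_p4 + n20_p0 + n20_m4 + n20_m8) - n20_p8 - n20_p4 - n20_p0 := by omega
  have b35 : n20_m8 ≤ (n20_p8 + n20_p4 + n20_p0 + n20_m4 + n20_m8) - n20_p8 - n20_p4 - n20_p0 - n20_m4 := by omega
  have b37 : n48_p8 ≤ (n48_p8 + n48_p4 + n48_p0 + n48_m4 + n48_m8) := by omega
  have b38 : n48_p4 ≤ (n48_p8 + n48_p4 + n48_p0 + n48_m4 + n48_m8) - n48_p8 := by omega
  have b39 : n48_p0 ≤ (n48_p8 + n48_p4 + n48_p0 + n48_m4 + n48_m8) - n48_p8 - n48_p4 := by omega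
  have b40 : n48_m4 ≤ (n48_p8 + n48_p4 + n48_p0 + n48_m4 + n48_m8) - n48_p8 - n48_p4 - n48_p0 := by omega
  have b41 : n48_m8 ≤ (n48_p8 + n48_p4 + n48_p0 + n48_m4 + n48_m8) - n48_p8 - n48_p4 - n48_p0 - n48_m4 := by omega
  intro hp8 hp9 hp43 c hc96 hp45 hp46 hp47
  exact brute (n8_p4 + n8_p0 + n8_m4 + n8_m8) b1 (n15_p7 + n15_p3 + n15_m1 + n15_m5 + n15_m9) b2 (n36_p8 + n36_p4 + n36_p0 + n36_m4 + n36_m8) b3 (n6_p2 + n6_m2 + n6_m6) b4 (n20_p8 + n20_p4 + n20_p0 + n20_m4 + n20_m8) b5 (n48_p8 + n48_p4 + n48_p0 + n48_m4 + n48_m8) b6 h0 hp8 hp9 n8_p4 b10 n8_p0 b11 n8_m4 b12 n8_m8 b13 rfl n15_p7 b15 n15_p3 b16 n15_m1 b17 n15_m5 b18 n15_m9 b19 rfl n36_p8 b21 n36_p4 b22 n36_p0 b23 n36_m4 b24 n36_m8 b25 rfl n6_p2 b27 n6_m2 b28 n6_m6 b29 rfl n20_p8 b31 n20_p4 b32 n20_p0 b33 n20_m4 b34 n20_m8 b35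 rfl n48_p8 b37 n48_p4 b38 n48_p0 b39 n48_m4 b40 n48_m8 b41 rfl hp43 c hc96 hp45 hp46 hp47

end Cfsg.Agent.Lib.Helper8_F5040_ARBrute
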