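import Mathlib
import Cfsg.Agent.Lib.Helper8_F5040_ARBrute

set_option autoImplicit false

/-!
# Helper8_F5040_AR: the arithmetic of the hard case of S0978 (package F5040-AR)

The finite search is done in `Helper8_F5040_ARBrute` (a Boolean checker evaluated by the kernel),
over the numbers of characters of each (degree, value) type.
-/

namespace Cfsg.Agent.Lib.Helper8_F5040_AR

open Cfsg.Agent.Lib.Helper8_F5040_ARBrute



/-- the admissible (degree, value at the involution) pairs -/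
def T : List (ℕ × ℤ) := [(8, 4), (8, 0), (8, -4), (8, -8), (15, 7), (15, 3), (15, -1), (15, -5), (15, -9), (36, 8), (36, 4), (36, 0), (36, -4), (36, -8), (6, 2), (6, -2), (6, -6), (20, 8), (20, 4), (20, 0), (20, -4), (20, -8), (48, 8), (48, 4), (48, 0), (48, -4), (48, -8)]

theorem T_nodup : T.Nodup := by decide

/-- the sign attached to a degree -/
def sgn (k : ℕ) : ℤ := if k = 8 ∨ k = 15 ∨ k = 36 then 1 else -1

/-- `720 / k` -/
def W (k : ℕ) : ℤ := ((720 / k : ℕ) : ℤ)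

theorem sum_T {M : Type*} [AddCommMonoid M] (g : ℕ × ℤ → M) :
    ∑ τ ∈ T.toFinset, g τ = g (8, 4) + g (8, 0) + g (8, -4) + g (8, -8) + g (15, 7) + g (15, 3) + g (15, -1) + g (15, -5) + g (15, -9) + g (36, 8) + g (36, 4) + g (36, 0) + g (36, -4) + g (36, -8) + g (6, 2) + g (6, -2) + g (6, -6) + g (20, 8) + g (20, 4) + g (20, 0) + g (20, -4) + g (20, -8) + g (48, 8) + g (48, 4) + g (48, 0) + g (48, -4) + g (48, -8) := by
  rw [List.sum_toFinset g T_nodup]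
  simp only [T, List.map_cons, List.map_nil, List.sum_cons, List.sum_nil, add_zero]
  abel

theorem sum_fiber {ι M : Type*} [AddCommMonoid M] (B' : Finset ι) (t : ι → ℕ × ℤ)
    (hS : ∀ χ ∈ B', t χ ∈ T.toFinset) (F : ℕ × ℤ → M) :
    ∑ χ ∈ B', F (t χ) = ∑ τ ∈ T.toFinset, (B'.filter (fun χ => t χ = τ)).card • F τ := by
  classical
  rw [← Finset.sum_fiberwise_of_maps_to hS]
  refine Finset.sum_congr rfl fun τ _ => ?_
  rw [Finset.sum_congr rfl (fun χ hχ => by rw [(Finset.mem_filter.mp hχ).2]), Finset.sum_const]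

theorem sgnW_le (k : ℕ) (hk : k = 8 ∨ k = 15 ∨ k = 36 ∨ k = 6 ∨ k = 20 ∨ k = 48) :
    sgn k * W k ≤ 90 := by
  rcases hk with rfl | rfl | rfl | rfl | rfl | rfl <;> norm_num [sgn, W]

theorem rat_term (k : ℕ) (hk : k = 1 ∨ k = 8 ∨ k = 15 ∨ k = 36 ∨ k = 6 ∨ k = 20 ∨ k = 48) (x : ℚ) :
    720 * (x / (k : ℚ)) = x * ((W k : ℤ) : ℚ) := by
  rcases hk with rfl | rfl | rfl | rfl | rfl | rfl | rfl <;> norm_num [W] <;> ring

set_option maxHeartbeats 1000000 in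
theorem AR5040 {ι : Type*} (B : Finset ι) (one : ι) (d : ι → ℕ) (δ a : ι → ℤ) (c : ℕ)
    (h1 : one ∈ B) (hcard : B.card = 7) (hδ1 : δ one = 1) (hd1 : d one = 1) (ha1 : a one = 1)
    (hdeg : ∀ χ ∈ B, χ ≠ one →
      ((d χ = 8 ∨ d χ = 15 ∨ d χ = 36) ∧ δ χ = 1) ∨ ((d χ = 6 ∨ d χ = 20 ∨ d χ = 48) ∧ δ χ = -1))
    (hsumd : ∑ χ ∈ B, δ χ * (d χ : ℤ) = 0)
    (hsq : ∑ χ ∈ B, (d χ) ^ 2 ≤ 5040)
    (hval : ∀ χ ∈ B, χ ≠ one → ∃ j : ℕ, 1 ≤ j ∧ a χ = (d χ : ℤ) - 4 * (j : ℤ))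
    (hbound : ∀ χ ∈ B, |a χ| ≤ (d χ : ℤ))
    (hsuma : ∑ χ ∈ B, δ χ * a χ = 0)
    (hc : c ∣ 5040) (hcol : ∑ χ ∈ B, (a χ) ^ 2 ≤ (c : ℤ))
    (heq : (c : ℚ) ^ 2 = 720 * ∑ χ ∈ B, (δ χ : ℚ) * (a χ : ℚ) ^ 2 / (d χ : ℚ)) :
    c = 48 ∧ ∑ χ ∈ B, (a χ) ^ 2 = 48 ∧ (∃ ψ ∈ B, d ψ = 6 ∧ a ψ = 2) ∧
      ∀ χ ∈ B, a χ < 0 → d χ = 15 ∧ a χ = -5 := by
  classical
  set B' := B.erase one with hB'
  have hcardB' : B'.card = 6 := by rw [hB', Finset.card_erase_of_mem h1, hcard]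
  have hmem : ∀ χ ∈ B', χ ∈ B ∧ χ ≠ one := fun χ hχ =>
    ⟨Finset.mem_of_mem_erase hχ, Finset.ne_of_mem_erase hχ⟩
  -- the sign is determined by the degree
  have hδ : ∀ χ ∈ B', δ χ = sgn (d χ) ∧
      (d χ = 8 ∨ d χ = 15 ∨ d χ = 36 ∨ d χ = 6 ∨ d χ = 20 ∨ d χ = 48) := by
    intro χ hχ
    rcases hdeg χ (hmem χ hχ).1 (hmem χ hχ).2 with ⟨h | h | h, hd⟩ | ⟨h | h | h, hd⟩ <;>
      simp [sgn, h, hd]
  -- integer form of `heq`
  have hI : (c : ℤ) ^ 2 = 720 + ∑ χ ∈ B', sgn (d χ) * (a χ) ^ 2 * W (d χ) := by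
    have hterm : ∀ χ ∈ B, 720 * ((δ χ : ℚ) * (a χ : ℚ) ^ 2 / (d χ : ℚ))
        = ((δ χ * (a χ) ^ 2 * W (d χ) : ℤ) : ℚ) := by
      intro χ hχ
      have hk : d χ = 1 ∨ d χ = 8 ∨ d χ = 15 ∨ d χ = 36 ∨ d χ = 6 ∨ d χ = 20 ∨ d χ = 48 := by
        by_cases hχ1 : χ = one
        · left; rw [hχ1, hd1]
        · right
          exact (hδ χ (Finset.mem_erase.mpr ⟨hχ1, hχ⟩)).2
      rw [rat_term _ hk]
      push_cast
      ring
    have h2 : ((c : ℤ) : ℚ) ^ 2 = ((∑ χ ∈ B, δ χ * (a χ) ^ 2 * W (d χ) : ℤ) : ℚ) := by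
      rw [Int.cast_sum, ← Finset.sum_congr rfl hterm, ← Finset.mul_sum]
      exact_mod_cast heq
    have h3 : (c : ℤ) ^ 2 = ∑ χ ∈ B, δ χ * (a χ) ^ 2 * W (d χ) := by exact_mod_cast h2
    have e : ∑ χ ∈ B', sgn (d χ) * (a χ) ^ 2 * W (d χ) = ∑ χ ∈ B', δ χ * (a χ) ^ 2 * W (d χ) :=
      Finset.sum_congr rfl fun χ hχ => by rw [(hδ χ hχ).1]
    rw [e, h3, ← Finset.add_sum_erase B _ h1, hδ1, ha1, hd1, ← hB']
    norm_num [W]
  -- split the other sums
  have hsumd' : (1 : ℤ) + ∑ χ ∈ B', sgn (d χ) * (d χ : ℤ) = 0 := by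
    have e : ∑ χ ∈ B', sgn (d χ) * (d χ : ℤ) = ∑ χ ∈ B', δ χ * (d χ : ℤ) :=
      Finset.sum_congr rfl fun χ hχ => by rw [(hδ χ hχ).1]
    rw [e, ← hsumd, ← Finset.add_sum_erase B _ h1, hδ1, hd1, ← hB']
    norm_num
  have hsq' : 1 + ∑ χ ∈ B', (d χ) ^ 2 ≤ 5040 := by
    rw [← Finset.add_sum_erase B _ h1, hd1, ← hB'] at hsq
    simpa using hsq
  have hsuma' : (1 : ℤ) + ∑ χ ∈ B', sgn (d χ) * a χ = 0 := by
    have e : ∑ χ ∈ B', sgn (d χ) * a χ = ∑ χ ∈ B', δ χ * a χ :=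
      Finset.sum_congr rfl fun χ hχ => by rw [(hδ χ hχ).1]
    rw [e, ← hsuma, ← Finset.add_sum_erase B _ h1, hδ1, ha1, ← hB']
    norm_num
  have hcolB : ∑ χ ∈ B, (a χ) ^ 2 = 1 + ∑ χ ∈ B', (a χ) ^ 2 := by
    rw [← Finset.add_sum_erase B _ h1, ha1, ← hB']
    norm_num
  have hcol' : (1 : ℤ) + ∑ χ ∈ B', (a χ) ^ 2 ≤ (c : ℤ) := by rw [← hcolB]; exact hcol
  -- the bound on `c`
  have hle90 : ∑ χ ∈ B', sgn (d χ) * (a χ) ^ 2 * W (d χ) ≤ ∑ χ ∈ B', 90 * (a χ) ^ 2 := by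
    refine Finset.sum_le_sum fun χ hχ => ?_
    have h := sgnW_le (d χ) (hδ χ hχ).2
    have h0 : 0 ≤ (a χ) ^ 2 := sq_nonneg _
    nlinarith
  have hc96 : c ≤ 96 := by
    rw [← Finset.mul_sum] at hle90
    have hcz : (c : ℤ) ^ 2 ≤ 720 + 90 * ((c : ℤ) - 1) := by linarith
    by_contra hcon
    push Not at hcon
    have : (97 : ℤ) ≤ (c : ℤ) := by exact_mod_cast hcon
    nlinarith
  -- the bound on the values
  have ha9 : ∀ χ ∈ B', -9 ≤ a χ ∧ a χ ≤ 9 := by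
    intro χ hχ
    have h := Finset.single_le_sum (f := fun χ => (a χ) ^ 2) (fun i _ => sq_nonneg (a i)) hχ
    have hc' : (c : ℤ) ≤ 96 := by exact_mod_cast hc96
    have h95 : (a χ) ^ 2 ≤ 95 := by
      have : (a χ) ^ 2 ≤ ∑ χ ∈ B', (a χ) ^ 2 := h
      linarith
    constructor <;> nlinarith
  -- the types
  set t : ι → ℕ × ℤ := fun χ => (d χ, a χ) with ht
  have hS : ∀ χ ∈ B', t χ ∈ T.toFinset := by
    intro χ hχ
    obtain ⟨j, hj, haj⟩ := hval χ (hmem χ hχ).1 (hmem χ hχ).2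
    have h9 := ha9 χ hχ
    have hb := abs_le.mp (hbound χ (hmem χ hχ).1)
    rw [List.mem_toFinset]
    rcases (hδ χ hχ).2 with hd | hd | hd | hd | hd | hd <;> rw [hd] at haj hb
    · have hv : a χ = 4 ∨ a χ = 0 ∨ a χ = -4 ∨ a χ = -8 := by omega
      rcases hv with h | h | h | h <;> simp [t, hd, h, T]
    · have hv : a χ = 7 ∨ a χ = 3 ∨ a χ = -1 ∨ a χ = -5 ∨ a χ = -9 := by omega
      rcases hv with h | h | h | h | h <;> simp [t, hd, h, T]
    · have hv : a χ = 8 ∨ a χ = 4 ∨ a χ = 0 ∨ a χ = -4 ∨ a χ = -8 := by omega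
      rcases hv with h | h | h | h | h <;> simp [t, hd, h, T]
    · have hv : a χ = 2 ∨ a χ = -2 ∨ a χ = -6 := by omega
      rcases hv with h | h | h <;> simp [t, hd, h, T]
    · have hv : a χ = 8 ∨ a χ = 4 ∨ a χ = 0 ∨ a χ = -4 ∨ a χ = -8 := by omega
      rcases hv with h | h | h | h | h <;> simp [t, hd, h, T]
    · have hv : a χ = 8 ∨ a χ = 4 ∨ a χ = 0 ∨ a χ = -4 ∨ a χ = -8 := by omega
      rcases hv with h | h | h | h | h <;> simp [t, hd, h, T]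
  obtain ⟨n, hn⟩ : ∃ n : ℕ × ℤ → ℕ, ∀ τ, n τ = (B'.filter (fun χ => t χ = τ)).card :=
    ⟨_, fun _ => rfl⟩
  have hpos : ∀ χ ∈ B', ∀ τ, t χ = τ → 1 ≤ n τ := by
    intro χ hχ τ h
    rw [hn]
    exact Finset.card_pos.mpr ⟨χ, Finset.mem_filter.mpr ⟨hχ, h⟩⟩
  have hfib : ∀ {M : Type} [AddCommMonoid M] (F : ℕ × ℤ → M),
      ∑ χ ∈ B', F (t χ) = ∑ τ ∈ T.toFinset, n τ • F τ := by
    intro M _ F
    rw [sum_fiber B' t hS F]
    exact Finset.sum_congr rfl fun τ _ => by rw [hn]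
  -- the six sums in terms of the counts
  have e0 := hfib (fun _ => (1 : ℕ))
  have e1 := hfib (fun τ => sgn τ.1 * (τ.1 : ℤ))
  have e2 := hfib (fun τ => τ.1 ^ 2)
  have e3 := hfib (fun τ => sgn τ.1 * τ.2)
  have e4 := hfib (fun τ => τ.2 ^ 2)
  have e5 := hfib (fun τ => sgn τ.1 * τ.2 ^ 2 * W τ.1)
  rw [sum_T] at e0 e1 e2 e3 e4 e5
  simp only [ht] at e1 e2 e3 e4 e5
  rw [Finset.sum_const, hcardB'] at e0
  rw [e1] at hsumd'
  rw [e2] at hsq'
  rw [e3] at hsuma'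
  rw [e4] at hcol'
  rw [e5] at hI
  norm_num [sgn, W] at e0 hsumd' hsq' hsuma' hcol' hI
  obtain ⟨cc, hcc⟩ : ∃ cc : ℕ, cc = c * c := ⟨_, rfl⟩
  have hccz : (c : ℤ) ^ 2 = (cc : ℤ) := by rw [hcc]; push_cast; ring
  rw [hccz] at hI
  obtain ⟨hc48, hS47, h62, hz8_4, hz8_8, hz15_1, hz15_9, hz36_4, hz36_8, hz6_2, hz6_6, hz20_4, hz20_8, hz48_4, hz48_8⟩ :=
    brute2 (n (8, 4)) (n (8, 0)) (n (8, -4)) (n (8, -8)) (n (15, 7)) (n (15, 3)) (n (15, -1)) (n (15, -5)) (n (15, -9)) (n (36, 8)) (n (36, 4)) (n (36, 0)) (n (36, -4)) (n (36, -8)) (n (6, 2)) (n (6, -2)) (n (6, -6)) (n (20, 8)) (n (20, 4)) (n (20, 0)) (n (20, -4)) (n (20, -8)) (n (48, 8)) (n (48, 4)) (n (48, 0)) (n (48, -4)) (n (48, -8)) (by clear * - e0; omega) (by clear * - hsumd'; omega) (by clear * - hsq'; omega) (by clear * - hsuma'; omega) c hc96 hc (by clear * - hcol'; omega) (by clear * - hI hcc; rw [← hcc]; omega)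
  refine ⟨hc48, ?_, ?_, ?_⟩
  · rw [hcolB, e4]
    norm_num
    clear * - hS47
    omega
  · have h62' : 0 < (B'.filter (fun χ => t χ = (6, 2))).card := by rw [← hn]; exact h62
    obtain ⟨ψ, hψ⟩ := Finset.card_pos.mp h62'
    rw [Finset.mem_filter] at hψ
    exact ⟨ψ, (hmem ψ hψ.1).1, congrArg Prod.fst hψ.2, congrArg Prod.snd hψ.2⟩
  · intro χ hχ hneg
    by_cases hχ1 : χ = one
    · rw [hχ1, ha1] at hneg; exact absurd hneg (by norm_num)
    · have hχ' : χ ∈ B' := Finset.mem_erase.mpr ⟨hχ1, hχ⟩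
      have hin := hS χ hχ'
      rw [List.mem_toFinset] at hin
      simp only [T, List.mem_cons, List.mem_nil_iff, or_false] at hin
      rcases hin with h | h | h | h | h | h | h | h | h | h | h | h | h | h | h | h | h | h | h | h | h | h | h | h | h | h | h
      · exfalso; have h2 : a χ = 4 := congrArg Prod.snd h; rw [h2] at hneg; exact absurd hneg (by norm_num)
      · exfalso; have h2 : a χ = 0 := congrArg Prod.snd h; rw [h2] at hneg; exact absurd hneg (by norm_num)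
      · exfalso; have h2 := hpos χ hχ' _ h; rw [hz8_4] at h2; exact absurd h2 (by norm_num)
      · exfalso; have h2 := hpos χ hχ' _ h; rw [hz8_8] at h2; exact absurd h2 (by norm_num)
      · exfalso; have h2 : a χ = 7 := congrArg Prod.snd h; rw [h2] at hneg; exact absurd hneg (by norm_num)
      · exfalso; have h2 : a χ = 3 := congrArg Prod.snd h; rw [h2] at hneg; exact absurd hneg (by norm_num)
      · exfalso; have h2 := hpos χ hχ' _ h; rw [hz15_1] at h2; exact absurd h2 (by norm_num)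
      · exact ⟨congrArg Prod.fst h, congrArg Prod.snd h⟩
      · exfalso; have h2 := hpos χ hχ' _ h; rw [hz15_9] at h2; exact absurd h2 (by norm_num)
      · exfalso; have h2 : a χ = 8 := congrArg Prod.snd h; rw [h2] at hneg; exact absurd hneg (by norm_num)
      · exfalso; have h2 : a χ = 4 := congrArg Prod.snd h; rw [h2] at hneg; exact absurd hneg (by norm_num)
      · exfalso; have h2 : a χ = 0 := congrArg Prod.snd h; rw [h2] at hneg; exact absurd hneg (by norm_num)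
      · exfalso; have h2 := hpos χ hχ' _ h; rw [hz36_4] at h2; exact absurd h2 (by norm_num)
      · exfalso; have h2 := hpos χ hχ' _ h; rw [hz36_8] at h2; exact absurd h2 (by norm_num)
      · exfalso; have h2 : a χ = 2 := congrArg Prod.snd h; rw [h2] at hneg; exact absurd hneg (by norm_num)
      · exfalso; have h2 := hpos χ hχ' _ h; rw [hz6_2] at h2; exact absurd h2 (by norm_num)
      · exfalso; have h2 := hpos χ hχ' _ h; rw [hz6_6] at h2; exact absurd h2 (by norm_num)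
      · exfalso; have h2 : a χ = 8 := congrArg Prod.snd h; rw [h2] at hneg; exact absurd hneg (by norm_num)
      · exfalso; have h2 : a χ = 4 := congrArg Prod.snd h; rw [h2] at hneg; exact absurd hneg (by norm_num)
      · exfalso; have h2 : a χ = 0 := congrArg Prod.snd h; rw [h2] at hneg; exact absurd hneg (by norm_num)
      · exfalso; have h2 := hpos χ hχ' _ h; rw [hz20_4] at h2; exact absurd h2 (by norm_num)
      · exfalso; have h2 := hpos χ hχ' _ h; rw [hz20_8] at h2; exact absurd h2 (by norm_num)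
      · exfalso; have h2 : a χ = 8 := congrArg Prod.snd h; rw [h2] at hneg; exact absurd hneg (by norm_num)
      · exfalso; have h2 : a χ = 4 := congrArg Prod.snd h; rw [h2] at hneg; exact absurd hneg (by norm_num)
      · exfalso; have h2 : a χ = 0 := congrArg Prod.snd h; rw [h2] at hneg; exact absurd hneg (by norm_num)
      · exfalso; have h2 := hpos χ hχ' _ h; rw [hz48_4] at h2; exact absurd h2 (by norm_num)
      · exfalso; have h2 := hpos χ hχ' _ h; rw [hz48_8] at h2; exact absurd h2 (by norm_num)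

end Cfsg.Agent.Lib.Helper8_F5040_AR
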