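import Mathlib
import Cfsg.Prelude.Def_Characters
import Cfsg.Agent.Lib.Helper80_CharBasic
import Cfsg.Agent.Lib.Helper6_GL23Defs

/-!
# S0197 package DATAEQ (helper6's market `s0197_packages`)

The two class-algebra equations, evaluated on the character data `Data G t a`.
-/

set_option autoImplicit false
set_option linter.unusedSectionVars false
open scoped ComplexConjugate

namespace Cfsg.Agent.Lib.Helper8_GL23_DATAEQ

open Cfsg Cfsg.Agent.Lib.Helper80_CharBasic Cfsg.Agent.Lib.Helper6_GL23Defs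

section grp2
variable {G : Type*} [Group G] {t a : G}

/-- a finsum over the irreducible characters of a function vanishing where `χ t = 0` -/
theorem finsum_eight (D : Data G t a) (f : IrrCharacter G → ℂ)
    (hf : ∀ χ : IrrCharacter G, (χ : G → ℂ) t = 0 → f χ = 0) :
    ∑ᶠ χ : IrrCharacter G, f χ = f (oneIrr G) + ∑ j, f (D.X j) := by
  classical
  let e : Option (Fin 7) → IrrCharacter G := fun o => o.elim (oneIrr G) D.X
  have he : Function.Injective e := by
    rintro (_ | j) (_ | j') hij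
    · rfl
    · exact absurd hij.symm (D.X_ne j')
    · exact absurd hij (D.X_ne j)
    · have : D.X j = D.X j' := hij
      rw [D.X_inj this]
  have hsupp : Function.support f ⊆ ((Finset.univ.map ⟨e, he⟩ : Finset (IrrCharacter G)) :
      Set (IrrCharacter G)) := by
    intro χ hχ
    rw [Function.mem_support] at hχ
    rw [Finset.coe_map, Finset.coe_univ, Set.image_univ]
    by_cases h1 : χ = oneIrr G
    · exact ⟨none, h1.symm⟩
    · by_cases h2 : ∃ j, χ = D.X j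
      · obtain ⟨j, hj⟩ := h2
        exact ⟨some j, hj.symm⟩
      · push Not at h2
        exact absurd (hf χ (D.supp χ h1 h2).1) hχ
  rw [finsum_eq_sum_of_support_subset f hsupp, Finset.sum_map]
  simp only [Function.Embedding.coeFn_mk, Fintype.sum_option, e, Option.elim_none, Option.elim_some]

theorem sign_div (σ : ℤ) (hσ : σ = 1 ∨ σ = -1) (d : ℂ) :
    (σ : ℂ) / d = 1 / ((σ : ℂ) * d) := by
  rcases hσ with h | h <;> subst h
  · simp
  · push_cast
    rw [neg_one_mul, div_neg, neg_div]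

theorem sign_cube (σ : ℤ) (hσ : σ = 1 ∨ σ = -1) : (σ : ℂ) * (σ : ℂ) * (σ : ℂ) = σ := by
  rcases hσ with h | h <;> subst h <;> push_cast <;> ring

variable [Finite G]

theorem dataeq (D : Data G t a)
    (h1 : ∑ᶠ χ : IrrCharacter G,
        (χ : G → ℂ) t * (χ : G → ℂ) t * conj ((χ : G → ℂ) a) / (χ : G → ℂ) 1 = 0)
    (h2 : (Nat.card G : ℂ) * ∑ᶠ χ : IrrCharacter G,
        (χ : G → ℂ) t * (χ : G → ℂ) t * conj ((χ : G → ℂ) (a ^ 2)) / (χ : G → ℂ) 1 = 9216) :
    (1 : ℚ) - 1 / (1 - D.σ 2 * D.d 2 + D.σ 3 * D.d 3) - 9 / (D.σ 2 * D.d 2) + 9 / (D.σ 3 * D.d 3) = 0 ∧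
    (Nat.card G : ℚ) * (1 + 1 / (1 - D.σ 2 * D.d 2 + D.σ 3 * D.d 3) + 8 / (D.σ 2 * D.d 2 - 1)
      - 9 / (D.σ 2 * D.d 2) - 9 / (D.σ 3 * D.d 3)) = 9216 := by
  have hone : ∀ g : G, ((oneIrr G : IrrCharacter G) : G → ℂ) g = 1 := fun _ => rfl
  -- the general term, in terms of the signed degrees
  have key : ∀ (j : Fin 7) (z : ℂ),
      (D.σ j : ℂ) * (vt j : ℂ) * ((D.σ j : ℂ) * (vt j : ℂ)) * ((D.σ j : ℂ) * z) / (D.d j : ℂ) =
        (vt j : ℂ) * (vt j : ℂ) * z / ((D.σ j : ℂ) * (D.d j : ℂ)) := by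
    intro j z
    rw [show (D.σ j : ℂ) * (vt j : ℂ) * ((D.σ j : ℂ) * (vt j : ℂ)) * ((D.σ j : ℂ) * z) =
      ((D.σ j : ℂ) * (D.σ j : ℂ) * (D.σ j : ℂ)) * ((vt j : ℂ) * (vt j : ℂ) * z) by ring,
      sign_cube _ (D.hσ j), mul_div_right_comm, sign_div _ (D.hσ j)]
    ring
  have e0 : (D.σ 0 : ℂ) * (D.d 0 : ℂ) = 1 - (D.σ 2 : ℂ) * (D.d 2 : ℂ) + (D.σ 3 : ℂ) * (D.d 3 : ℂ) := by
    exact_mod_cast congrArg (Int.cast : ℤ → ℂ) D.deg0
  have e1 : (D.σ 1 : ℂ) * (D.d 1 : ℂ) = (D.σ 2 : ℂ) * (D.d 2 : ℂ) - 1 := by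
    exact_mod_cast congrArg (Int.cast : ℤ → ℂ) D.deg1
  have e4 : (D.σ 4 : ℂ) * (D.d 4 : ℂ) = (D.σ 2 : ℂ) * (D.d 2 : ℂ) - 1 := by
    exact_mod_cast congrArg (Int.cast : ℤ → ℂ) D.deg4
  have e5 : (D.σ 5 : ℂ) * (D.d 5 : ℂ) = (D.σ 2 : ℂ) * (D.d 2 : ℂ) - 1 := by
    exact_mod_cast congrArg (Int.cast : ℤ → ℂ) D.deg5
  constructor
  · rw [finsum_eight D] at h1
    · simp only [hone, D.X_t, D.X_a, D.X_one, map_mul, map_add, map_intCast, conj_rt, map_one,
        key] at h1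
      rw [Fin.sum_univ_seven] at h1
      simp only [e0, e1, e4, e5] at h1
      simp [vt, vp, vq] at h1
      apply Rat.cast_injective (α := ℂ)
      push_cast
      rw [← h1]
      ring
    · intro χ ht0
      rw [ht0]; simp
  · rw [finsum_eight D] at h2
    · simp only [hone, D.X_t, D.X_v, D.X_one, map_mul, map_intCast, map_one,
        key] at h2
      rw [Fin.sum_univ_seven] at h2
      simp only [e0, e1, e4, e5] at h2
      simp [vt, vv] at h2
      apply Rat.cast_injective (α := ℂ)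
      push_cast
      rw [← h2]
      ring
    · intro χ ht0
      rw [ht0]; simp

end grp2

end Cfsg.Agent.Lib.Helper8_GL23_DATAEQ
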