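import Mathlib

/-!
# S0197 package SHAPE (helper6's market `s0197_packages`): the final assembly

From the normal forms of `b, b', c, c', A` (supports and values at the support points) to the
conclusion of `shape`.
-/

set_option autoImplicit false
set_option linter.unusedVariables false

namespace Cfsg.Agent.Lib.Helper8_GL23_SHAPEFIN

theorem sq_one {z : ℤ} (h : z ^ 2 = 1) : z = 1 ∨ z = -1 := by
  have h1 : (z - 1) * (z + 1) = 0 := by ring_nf; rw [h]; ring
  rcases mul_eq_zero.mp h1 with h2 | h2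
  · left; omega
  · right; omega

theorem shape_of_normal {I : Type*} [Fintype I] [DecidableEq I] (o : I) (b b' c c' A : I → ℤ)
    (x0 i l x3 j k r : I)
    (hd : [o, x0, i, l, x3, j, k, r].Nodup)
    (hb : ∀ χ, χ ≠ i → χ ≠ j → b χ = 0) (hbi : b i ^ 2 = 1) (hbj : b j ^ 2 = 1)
    (hb' : ∀ χ, χ ≠ i → χ ≠ k → b' χ = 0) (hb'i : b' i = b i) (hb'k : b' k ^ 2 = 1)
    (hc : ∀ χ, χ ≠ o → χ ≠ j → χ ≠ l → c χ = 0) (hco : c o = -1) (hcj : c j = b j)
    (hcl : c l ^ 2 = 1)
    (hc' : ∀ χ, χ ≠ j → χ ≠ x0 → χ ≠ x3 → c' χ = 0) (hc'j : c' j = b j) (hc'0 : c' x0 ^ 2 = 1)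
    (hc'3 : c' x3 ^ 2 = 1)
    (hA : ∀ χ, χ ≠ o → χ ≠ i → χ ≠ x0 → χ ≠ r → A χ = 0) (hAo : A o = 1) (hAi : A i = b i)
    (hA0 : A x0 = - c' x0) (hAr : A r ^ 2 = 1) :
    ∃ (x : Fin 7 → I) (σ : Fin 7 → ℤ), Function.Injective x ∧ (∀ j, x j ≠ o) ∧
      (∀ j, σ j = 1 ∨ σ j = -1) ∧
      (∀ i, b i = (if i = x 1 then σ 1 else 0) - (if i = x 4 then σ 4 else 0)) ∧
      (∀ i, b' i = (if i = x 1 then σ 1 else 0) - (if i = x 5 then σ 5 else 0)) ∧
      (∀ i, c i = -(if i = o then 1 else 0) + (if i = x 2 then σ 2 else 0) -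
        (if i = x 4 then σ 4 else 0)) ∧
      (∀ i, c' i = -(if i = x 0 then σ 0 else 0) + (if i = x 3 then σ 3 else 0) -
        (if i = x 4 then σ 4 else 0)) ∧
      (∀ i, A i = (if i = o then 1 else 0) + (if i = x 0 then σ 0 else 0) +
        (if i = x 1 then σ 1 else 0) - (if i = x 6 then σ 6 else 0)) := by
  simp only [List.nodup_cons, List.mem_cons, List.not_mem_nil, or_false, not_or, List.nodup_nil,
    and_true] at hd
  obtain ⟨⟨o1, o2, o3, o4, o5, o6, o7⟩, ⟨a1, a2, a3, a4, a5, a6⟩, ⟨i1, i2, i3, i4, i5⟩,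
    ⟨l1, l2, l3, l4⟩, ⟨t1, t2, t3⟩, ⟨j1, j2⟩, k1, -⟩ := hd
  have hinj : Function.Injective ![x0, i, l, x3, j, k, r] := by
    clear hb hbi hbj hb' hb'i hb'k hc hco hcj hcl hc' hc'j hc'0 hc'3 hA hAo hAi hA0 hAr
    intro p q hpq
    fin_cases p <;> fin_cases q <;>
      first
      | rfl
      | (exfalso; simp at hpq; first | exact absurd hpq ‹_› | exact absurd hpq.symm ‹_›)
  have hne : ∀ p, ![x0, i, l, x3, j, k, r] p ≠ o := by
    clear hb hbi hbj hb' hb'i hb'k hc hco hcj hcl hc' hc'j hc'0 hc'3 hA hAo hAi hA0 hAr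
    intro p
    fin_cases p <;> simp <;> exact Ne.symm ‹_›
  refine ⟨![x0, i, l, x3, j, k, r], ![A x0, b i, c l, c' x3, -b j, -b' k, -A r], hinj, hne, ?_, ?_,
    ?_, ?_, ?_, ?_⟩
  · intro p
    have hA0' : A x0 ^ 2 = 1 := by rw [hA0]; rw [neg_sq]; exact hc'0
    fin_cases p
    · exact sq_one hA0'
    · exact sq_one hbi
    · exact sq_one hcl
    · exact sq_one hc'3
    · exact sq_one (by show (-b j) ^ 2 = 1; rw [neg_sq]; exact hbj)
    · exact sq_one (by show (-b' k) ^ 2 = 1; rw [neg_sq]; exact hb'k)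
    · exact sq_one (by show (-A r) ^ 2 = 1; rw [neg_sq]; exact hAr)
  · intro χ
    show b χ = (if χ = i then b i else 0) - (if χ = j then -b j else 0)
    by_cases h1 : χ = i
    · subst h1; rw [if_pos rfl, if_neg i3]; ring
    · by_cases h2 : χ = j
      · subst h2; rw [if_neg h1, if_pos rfl]; ring
      · rw [if_neg h1, if_neg h2, hb χ h1 h2]; ring
  · intro χ
    show b' χ = (if χ = i then b i else 0) - (if χ = k then -b' k else 0)
    by_cases h1 : χ = i
    · subst h1; rw [if_pos rfl, if_neg i4, hb'i]; ring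
    · by_cases h2 : χ = k
      · subst h2; rw [if_neg h1, if_pos rfl]; ring
      · rw [if_neg h1, if_neg h2, hb' χ h1 h2]; ring
  · intro χ
    show c χ = -(if χ = o then 1 else 0) + (if χ = l then c l else 0) -
      (if χ = j then -b j else 0)
    by_cases h0 : χ = o
    · subst h0; rw [if_pos rfl, if_neg o3, if_neg o5, hco]; ring
    · by_cases h1 : χ = l
      · subst h1; rw [if_neg h0, if_pos rfl, if_neg l2]; ring
      · by_cases h2 : χ = j
        · subst h2; rw [if_neg h0, if_neg h1, if_pos rfl, hcj]; ring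
        · rw [if_neg h0, if_neg h1, if_neg h2, hc χ h0 h2 h1]; ring
  · intro χ
    show c' χ = -(if χ = x0 then A x0 else 0) + (if χ = x3 then c' x3 else 0) -
      (if χ = j then -b j else 0)
    by_cases h0 : χ = x0
    · subst h0; rw [if_pos rfl, if_neg a3, if_neg a4, hA0]; ring
    · by_cases h1 : χ = x3
      · subst h1; rw [if_neg h0, if_pos rfl, if_neg t1]; ring
      · by_cases h2 : χ = j
        · subst h2; rw [if_neg h0, if_neg h1, if_pos rfl, hc'j]; ring
        · rw [if_neg h0, if_neg h1, if_neg h2, hc' χ h2 h0 h1]; ring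
  · intro χ
    show A χ = (if χ = o then 1 else 0) + (if χ = x0 then A x0 else 0) +
      (if χ = i then b i else 0) - (if χ = r then -A r else 0)
    by_cases h0 : χ = o
    · subst h0; rw [if_pos rfl, if_neg o1, if_neg o2, if_neg o7, hAo]; ring
    · by_cases h1 : χ = x0
      · subst h1; rw [if_neg h0, if_pos rfl, if_neg a1, if_neg a6]; ring
      · by_cases h2 : χ = i
        · subst h2; rw [if_neg h0, if_neg h1, if_pos rfl, if_neg i5, hAi]; ring
        · by_cases h3 : χ = r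
          · subst h3; rw [if_neg h0, if_neg h1, if_neg h2, if_pos rfl]; ring
          · rw [if_neg h0, if_neg h1, if_neg h2, if_neg h3, hA χ h0 h2 h1 h3]; ring

end Cfsg.Agent.Lib.Helper8_GL23_SHAPEFIN
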