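import Mathlib
import Cfsg.Agent.Lib.Helper44_OmegaAll

set_option autoImplicit false
set_option linter.unusedSectionVars false
set_option linter.unusedVariables false

/-!
Vanishing of `H¹(Ω(Q), V)` for a quadratic form `Q` over `ZMod 2` on `V = ι → ZMod 2` (helper8).

Input data: the Cartan–Dieudonné property for `Q`, and a "tree basis" `a : Fin (n+1) → V` of nonsingular
vectors (adjacency = polar form `1`), with a dual family `d`, a parent function `nb`, and a rank function `rk`
witnessing that every nonsingular vector is reached from the tree basis by the simple reflections.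

Strategy: `Ω` is generated by the products `t_{a i} t_{a j}` over adjacent pairs; a crossed homomorphism `f`
takes values in `span {a i, a j}` on such a product (order `3`), and the relation `(t_a t_c)² = 1` for a path
`a - b - c` forces the coefficients to come from a single vector `v`.
-/

namespace Cfsg.Agent.Lib.Helper8_H1Orth

open scoped commutatorElement
open Cfsg Matrix Cfsg.Agent.Lib.Helper44_Refl Cfsg.Agent.Lib.Helper44_Spinor
  Cfsg.Agent.Lib.Helper44_OmegaAll

variable {ι : Type} [Fintype ι] [DecidableEq ι]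

theorem z2_cases (a : ZMod 2) : a = 0 ∨ a = 1 := by revert a; decide
theorem z2_add_self (a : ZMod 2) : a + a = 0 := by revert a; decide
theorem z2_eq_one_of_ne_zero {a : ZMod 2} (h : a ≠ 0) : a = 1 := (z2_cases a).resolve_left h

theorem v_add_self (x : ι → ZMod 2) : x + x = 0 := by
  funext i; exact z2_add_self _

theorem v_neg (x : ι → ZMod 2) : -x = x := by
  funext i
  have : ∀ a : ZMod 2, -a = a := by decide
  exact this _

theorem v_sub (x y : ι → ZMod 2) : x - y = x + y := by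
  rw [sub_eq_add_neg, v_neg]

theorem v_add_cancel (x y : ι → ZMod 2) : x + y + y = x := by
  rw [add_assoc, v_add_self, add_zero]

variable (Q : QuadraticForm (ZMod 2) (ι → ZMod 2))

/-- The polar form. -/
abbrev pol (x y : ι → ZMod 2) : ZMod 2 := QuadraticMap.polar (⇑Q) x y

theorem pol_comm (x y : ι → ZMod 2) : pol Q x y = pol Q y x := QuadraticMap.polar_comm _ _ _

theorem pol_self (x : ι → ZMod 2) : pol Q x x = 0 := by
  have h := Cfsg.Agent.Lib.Helper44_Refl.polar_self Q x
  have h2 : (2 : ZMod 2) = 0 := by decide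
  rw [h2, zero_mul] at h
  exact h

theorem pol_add_right (x y z : ι → ZMod 2) : pol Q x (y + z) = pol Q x y + pol Q x z :=
  QuadraticMap.polar_add_right Q x y z

theorem pol_add_left (x y z : ι → ZMod 2) : pol Q (x + y) z = pol Q x z + pol Q y z :=
  QuadraticMap.polar_add_left Q x y z

theorem pol_smul_right (c : ZMod 2) (x y : ι → ZMod 2) : pol Q x (c • y) = c * pol Q x y := by
  have := QuadraticMap.polar_smul_right Q c x y
  simpa [smul_eq_mul] using this

theorem pol_smul_left (c : ZMod 2) (x y : ι → ZMod 2) : pol Q (c • x) y = c * pol Q x y := by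
  have := QuadraticMap.polar_smul_left Q c x y
  simpa [smul_eq_mul] using this

theorem Q_add (x y : ι → ZMod 2) : Q (x + y) = Q x + Q y + pol Q x y := by
  unfold pol QuadraticMap.polar
  ring

/-- The action of an isometry on a vector. -/
def act (g : ↥(Cfsg.isometryGroup (ZMod 2) (⇑Q))) (x : ι → ZMod 2) : ι → ZMod 2 :=
  ((g : Matrix.GeneralLinearGroup ι (ZMod 2)) : Matrix ι ι (ZMod 2)) *ᵥ x

theorem act_one (x : ι → ZMod 2) : act Q 1 x = x := by
  simp [act]

theorem act_mul (g h : ↥(Cfsg.isometryGroup (ZMod 2) (⇑Q))) (x : ι → ZMod 2) :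
    act Q (g * h) x = act Q g (act Q h x) := by
  simp only [act]
  rw [Matrix.mulVec_mulVec]
  rfl

theorem act_add (g : ↥(Cfsg.isometryGroup (ZMod 2) (⇑Q))) (x y : ι → ZMod 2) :
    act Q g (x + y) = act Q g x + act Q g y := by
  simp only [act]
  exact Matrix.mulVec_add _ _ _

theorem act_zero (g : ↥(Cfsg.isometryGroup (ZMod 2) (⇑Q))) : act Q g 0 = 0 := by
  simp only [act]
  exact Matrix.mulVec_zero _

theorem act_smul (g : ↥(Cfsg.isometryGroup (ZMod 2) (⇑Q))) (c : ZMod 2) (x : ι → ZMod 2) :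
    act Q g (c • x) = c • act Q g x := by
  simp only [act]
  exact Matrix.mulVec_smul _ _ _

theorem act_inv_act (g : ↥(Cfsg.isometryGroup (ZMod 2) (⇑Q))) (x : ι → ZMod 2) :
    act Q g⁻¹ (act Q g x) = x := by
  rw [← act_mul, inv_mul_cancel, act_one]

/-- The orthogonal transvection attached to a nonsingular vector. -/
noncomputable abbrev r (v : ι → ZMod 2) : ↥(Cfsg.isometryGroup (ZMod 2) (⇑Q)) := reflT Q v

theorem Q_ne_zero {v : ι → ZMod 2} (hv : Q v = 1) : Q v ≠ 0 := by
  rw [hv]; exact one_ne_zero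

theorem act_r {v : ι → ZMod 2} (hv : Q v = 1) (x : ι → ZMod 2) :
    act Q (r Q v) x = x + pol Q v x • v := by
  simp only [act]
  rw [reflT_coe Q v (Q_ne_zero Q hv), reflectionMatrix_mulVec, hv, inv_one, one_mul, v_sub]

theorem r_mul_self {v : ι → ZMod 2} (hv : Q v = 1) : r Q v * r Q v = 1 := by
  simp only [r]
  rw [reflT_of_ne Q v (Q_ne_zero Q hv)]
  exact refl_mul_self Q v _

theorem r_inv {v : ι → ZMod 2} (hv : Q v = 1) : (r Q v)⁻¹ = r Q v :=
  inv_eq_of_mul_eq_one_right (r_mul_self Q hv)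

theorem iso_ext {g h : ↥(Cfsg.isometryGroup (ZMod 2) (⇑Q))} (H : ∀ x, act Q g x = act Q h x) :
    g = h := by
  apply Subtype.ext
  apply Units.ext
  exact matrix_ext_mulVec H

/-- Conjugation formula `t_a t_y t_a = t_{y+a}` when `B(y,a) = 1`. -/
theorem r_conj {a y : ι → ZMod 2} (ha : Q a = 1) (hy : Q y = 1) (hya : pol Q y a = 1) :
    r Q (y + a) = r Q a * r Q y * r Q a := by
  have hya' : Q (y + a) = 1 := by
    rw [Q_add, ha, hy, hya]; decide
  apply iso_ext
  intro x
  rw [act_mul, act_mul, act_r Q ha, act_r Q hy, act_r Q ha, act_r Q hya']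
  have e1 : pol Q y (x + pol Q a x • a) = pol Q y x + pol Q a x := by
    rw [pol_add_right, pol_smul_right, hya, mul_one]
  have e2 : pol Q a (x + pol Q a x • a + (pol Q y x + pol Q a x) • y)
      = pol Q y x := by
    rw [pol_add_right, pol_add_right, pol_smul_right, pol_smul_right, pol_self, pol_comm Q a y, hya]
    generalize pol Q a x = s
    generalize pol Q y x = u
    revert s u; decide
  have e3 : pol Q (y + a) x = pol Q y x + pol Q a x := pol_add_left Q y a x
  rw [e1, e2, e3]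
  funext i
  simp only [Pi.add_apply, Pi.smul_apply, smul_eq_mul]
  generalize pol Q a x = s
  generalize pol Q y x = u
  generalize x i = xi
  generalize a i = ai
  generalize y i = yi
  revert s u xi ai yi; decide

/-- The pair element `t_a t_b`. -/
noncomputable def gp (a b : ι → ZMod 2) : ↥(Cfsg.isometryGroup (ZMod 2) (⇑Q)) := r Q a * r Q b

theorem gp_def (a b : ι → ZMod 2) : gp Q a b = r Q a * r Q b := rfl

theorem gp_inv {a b : ι → ZMod 2} (ha : Q a = 1) (hb : Q b = 1) : (gp Q a b)⁻¹ = gp Q b a := by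
  rw [gp_def, gp_def, _root_.mul_inv_rev, r_inv Q ha, r_inv Q hb]

theorem act_gp {a b : ι → ZMod 2} (ha : Q a = 1) (hb : Q b = 1) (x : ι → ZMod 2) :
    act Q (gp Q a b) x = x + pol Q b x • b + (pol Q a x + pol Q b x * pol Q a b) • a := by
  rw [gp_def, act_mul, act_r Q hb, act_r Q ha, pol_add_right, pol_smul_right]

theorem braid {a b : ι → ZMod 2} (ha : Q a = 1) (hb : Q b = 1) (hab : pol Q a b = 1) :
    r Q a * r Q b * r Q a = r Q b * r Q a * r Q b := by
  have h1 := r_conj Q ha hb (by rw [pol_comm]; exact hab)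
  have h2 := r_conj Q hb ha hab
  rw [← h1, ← h2, add_comm]

theorem gp_cube {a b : ι → ZMod 2} (ha : Q a = 1) (hb : Q b = 1) (hab : pol Q a b = 1) :
    gp Q a b * gp Q a b * gp Q a b = 1 := by
  have hbr := braid Q ha hb hab
  calc gp Q a b * gp Q a b * gp Q a b
      = (r Q a * r Q b * r Q a) * (r Q b * r Q a * r Q b) := by simp only [gp_def]; group
    _ = (r Q b * r Q a * r Q b) * (r Q b * r Q a * r Q b) := by rw [hbr]
    _ = r Q b * r Q a * (r Q b * r Q b) * r Q a * r Q b := by group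
    _ = 1 := by
        rw [r_mul_self Q hb, mul_one, mul_assoc (r Q b), r_mul_self Q ha, mul_one, r_mul_self Q hb]

theorem gp_mem_omega {a b : ι → ZMod 2} (ha : Q a = 1) (hb : Q b = 1) (hab : pol Q a b = 1) :
    gp Q a b ∈ Cfsg.Omega (ZMod 2) (⇑Q) := by
  have hc : ⁅r Q a, r Q b⁆ = gp Q a b * gp Q a b := by
    rw [commutatorElement_def, r_inv Q ha, r_inv Q hb]
    simp only [gp_def]; group
  have hmem : ⁅r Q a, r Q b⁆ ∈ commutator ↥(Cfsg.isometryGroup (ZMod 2) (⇑Q)) :=
    Subgroup.commutator_mem_commutator (Subgroup.mem_top _) (Subgroup.mem_top _)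
  have h4 : gp Q a b = ⁅r Q a, r Q b⁆ * ⁅r Q a, r Q b⁆ := by
    rw [hc]
    have h3 := gp_cube Q ha hb hab
    calc gp Q a b = gp Q a b * (gp Q a b * gp Q a b * gp Q a b) := by rw [h3, mul_one]
      _ = gp Q a b * gp Q a b * (gp Q a b * gp Q a b) := by group
  rw [h4]
  exact Subgroup.mul_mem _ hmem hmem

theorem v_eq_of_add_eq_zero {x y : ι → ZMod 2} (h : x + y = 0) : x = y := by
  have : x = x + y + y := (v_add_cancel x y).symm
  rw [this, h, zero_add]

theorem act_gp_one {a b : ι → ZMod 2} (ha : Q a = 1) (hb : Q b = 1) (hab : pol Q a b = 1)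
    (x : ι → ZMod 2) :
    act Q (gp Q a b) x = x + pol Q b x • b + (pol Q a x + pol Q b x) • a := by
  rw [act_gp Q ha hb, hab, mul_one]

theorem pol_a_act_gp {a b : ι → ZMod 2} (ha : Q a = 1) (hb : Q b = 1) (hab : pol Q a b = 1)
    (x : ι → ZMod 2) : pol Q a (act Q (gp Q a b) x) = pol Q a x + pol Q b x := by
  rw [act_gp_one Q ha hb hab, pol_add_right, pol_add_right, pol_smul_right, pol_smul_right,
    pol_self, hab]
  ring

theorem pol_b_act_gp {a b : ι → ZMod 2} (ha : Q a = 1) (hb : Q b = 1) (hab : pol Q a b = 1)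
    (x : ι → ZMod 2) : pol Q b (act Q (gp Q a b) x) = pol Q a x := by
  rw [act_gp_one Q ha hb hab, pol_add_right, pol_add_right, pol_smul_right, pol_smul_right,
    pol_self, pol_comm Q b a, hab]
  generalize pol Q a x = s
  generalize pol Q b x = u
  revert s u; decide

theorem r_comm {a c : ι → ZMod 2} (ha : Q a = 1) (hc : Q c = 1) (hac : pol Q a c = 0) :
    r Q a * r Q c = r Q c * r Q a := by
  have hca : pol Q c a = 0 := by rw [pol_comm]; exact hac
  apply iso_ext
  intro x
  simp only [act_mul, act_r Q ha, act_r Q hc, pol_add_right, pol_smul_right, hac, hca, mul_zero,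
    add_zero]
  abel

section crossed

variable (f : ↥(Cfsg.Omega (ZMod 2) (⇑Q)) → ι → ZMod 2)

/-- Extension by zero of `f` to the whole isometry group. -/
noncomputable def F (g : ↥(Cfsg.isometryGroup (ZMod 2) (⇑Q))) : ι → ZMod 2 := by
  classical
  exact if h : g ∈ Cfsg.Omega (ZMod 2) (⇑Q) then f ⟨g, h⟩ else 0

/-- The crossed homomorphism condition. -/
def IsCrossed : Prop :=
  ∀ g h : ↥(Cfsg.Omega (ZMod 2) (⇑Q)), f (g * h) = f g + act Q g.1 (f h)

theorem F_of_mem {g : ↥(Cfsg.isometryGroup (ZMod 2) (⇑Q))} (hg : g ∈ Cfsg.Omega (ZMod 2) (⇑Q)) :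
    F Q f g = f ⟨g, hg⟩ := by
  unfold F
  exact dif_pos hg

variable (hf : IsCrossed Q f)
include hf

theorem F_mul {g h : ↥(Cfsg.isometryGroup (ZMod 2) (⇑Q))} (hg : g ∈ Cfsg.Omega (ZMod 2) (⇑Q))
    (hh : h ∈ Cfsg.Omega (ZMod 2) (⇑Q)) : F Q f (g * h) = F Q f g + act Q g (F Q f h) := by
  rw [F_of_mem Q f (Subgroup.mul_mem _ hg hh), F_of_mem Q f hg, F_of_mem Q f hh]
  exact hf ⟨g, hg⟩ ⟨h, hh⟩

theorem F_one : F Q f 1 = 0 := by
  have h := F_mul Q f hf (Subgroup.one_mem _) (Subgroup.one_mem _)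
  rw [mul_one, act_one, v_add_self] at h
  exact h

theorem F_inv {g : ↥(Cfsg.isometryGroup (ZMod 2) (⇑Q))} (hg : g ∈ Cfsg.Omega (ZMod 2) (⇑Q)) :
    F Q f g⁻¹ = act Q g⁻¹ (F Q f g) := by
  have h := F_mul Q f hf (Subgroup.inv_mem _ hg) hg
  rw [inv_mul_cancel, F_one Q f hf] at h
  exact v_eq_of_add_eq_zero h.symm

/-- On a pair element of order three the crossed homomorphism takes values in `span {a, b}`. -/
theorem F_gp_span {a b : ι → ZMod 2} (ha : Q a = 1) (hb : Q b = 1) (hab : pol Q a b = 1) :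
    F Q f (gp Q a b) = pol Q b (F Q f (gp Q a b)) • a + pol Q a (F Q f (gp Q a b)) • b := by
  have hg := gp_mem_omega Q ha hb hab
  have h3 : F Q f (gp Q a b * gp Q a b * gp Q a b) = 0 := by
    rw [gp_cube Q ha hb hab, F_one Q f hf]
  rw [F_mul Q f hf (Subgroup.mul_mem _ hg hg) hg, F_mul Q f hf hg hg, act_mul] at h3
  set y := F Q f (gp Q a b) with hy
  have e1 : act Q (gp Q a b) (act Q (gp Q a b) y)
      = act Q (gp Q a b) y + pol Q a y • b + (pol Q a y + pol Q b y + pol Q a y) • a := by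
    rw [act_gp_one Q ha hb hab (act Q (gp Q a b) y), pol_b_act_gp Q ha hb hab,
      pol_a_act_gp Q ha hb hab]
  rw [e1, act_gp_one Q ha hb hab y] at h3
  funext i
  have h3i := congrFun h3 i
  simp only [Pi.add_apply, Pi.smul_apply, smul_eq_mul, Pi.zero_apply] at h3i ⊢
  generalize pol Q a y = s at h3i ⊢
  generalize pol Q b y = u at h3i ⊢
  generalize y i = yi at h3i ⊢
  generalize a i = ai at h3i ⊢
  generalize b i = bi at h3i ⊢
  revert s u yi ai bi; decide

/-- The inverse relation. -/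
theorem mu_swap {a b : ι → ZMod 2} (ha : Q a = 1) (hb : Q b = 1) (hab : pol Q a b = 1) :
    pol Q b (F Q f (gp Q b a)) = pol Q b (F Q f (gp Q a b)) + pol Q a (F Q f (gp Q a b)) := by
  have hg := gp_mem_omega Q ha hb hab
  have hba : pol Q b a = 1 := by rw [pol_comm]; exact hab
  rw [← gp_inv Q ha hb, F_inv Q f hf hg, gp_inv Q ha hb, pol_a_act_gp Q hb ha hba]

/-- The path relation: for a path `a - b - c` the coefficient of `b` does not depend on the neighbour. -/
theorem mu_path {a b c : ι → ZMod 2} (ha : Q a = 1) (hb : Q b = 1) (hc : Q c = 1)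
    (hab : pol Q a b = 1) (hbc : pol Q b c = 1) (hac : pol Q a c = 0) (hne : a ≠ c) :
    pol Q a (F Q f (gp Q a b)) = pol Q c (F Q f (gp Q c b)) := by
  have hg1 := gp_mem_omega Q ha hb hab
  have hg2 := gp_mem_omega Q hb hc hbc
  have hcb : pol Q c b = 1 := by rw [pol_comm]; exact hbc
  have hca : pol Q c a = 0 := by rw [pol_comm]; exact hac
  have hba : pol Q b a = 1 := by rw [pol_comm]; exact hab
  have hprod : gp Q a b * gp Q b c = r Q a * r Q c := by
    simp only [gp_def]
    rw [mul_assoc, ← mul_assoc (r Q b), r_mul_self Q hb, one_mul]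
  have hsq : (r Q a * r Q c) * (r Q a * r Q c) = 1 := by
    calc (r Q a * r Q c) * (r Q a * r Q c) = r Q a * (r Q c * r Q a) * r Q c := by group
      _ = r Q a * (r Q a * r Q c) * r Q c := by rw [← r_comm Q ha hc hac]
      _ = (r Q a * r Q a) * (r Q c * r Q c) := by group
      _ = 1 := by rw [r_mul_self Q ha, r_mul_self Q hc, one_mul]
  have hh : r Q a * r Q c ∈ Cfsg.Omega (ZMod 2) (⇑Q) := by
    rw [← hprod]; exact Subgroup.mul_mem _ hg1 hg2
  set y1 := F Q f (gp Q a b) with hy1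
  set y2 := F Q f (gp Q b c) with hy2
  have hy : F Q f (r Q a * r Q c) = y1 + act Q (gp Q a b) y2 := by
    rw [← hprod, F_mul Q f hf hg1 hg2]
  have h0 : F Q f ((r Q a * r Q c) * (r Q a * r Q c)) = 0 := by
    rw [hsq, F_one Q f hf]
  rw [F_mul Q f hf hh hh] at h0
  set y := F Q f (r Q a * r Q c) with hyy
  have hact : act Q (r Q a * r Q c) y = y + pol Q c y • c + pol Q a y • a := by
    rw [act_mul, act_r Q hc, act_r Q ha, pol_add_right, pol_smul_right, hac, mul_zero, add_zero]
  rw [hact, ← add_assoc, ← add_assoc, v_add_self, zero_add] at h0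
  -- spans
  have s1 : y1 = pol Q b y1 • a + pol Q a y1 • b := F_gp_span Q f hf ha hb hab
  have s2 : y2 = pol Q c y2 • b + pol Q b y2 • c := F_gp_span Q f hf hb hc hbc
  have pa2 : pol Q a y2 = pol Q c y2 := by
    have e := congrArg (pol Q a) s2
    rw [e, pol_add_right, pol_smul_right, pol_smul_right, hab, hac, mul_one, mul_zero, add_zero]
  have pc1 : pol Q c y1 = pol Q a y1 := by
    have e := congrArg (pol Q c) s1
    rw [e, pol_add_right, pol_smul_right, pol_smul_right, hca, hcb, mul_one, mul_zero, zero_add]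
  have pay : pol Q a y = pol Q a y1 + pol Q c y2 + pol Q b y2 := by
    rw [hy, pol_add_right, pol_a_act_gp Q ha hb hab, pa2, add_assoc]
  have pcy : pol Q c y = pol Q a y1 + pol Q c y2 + pol Q b y2 := by
    rw [hy, pol_add_right, act_gp_one Q ha hb hab, pol_add_right, pol_add_right, pol_smul_right,
      pol_smul_right, hcb, hca, pc1]
    ring
  rw [pay, pcy, ← smul_add] at h0
  have hca_ne : c + a ≠ 0 := by
    intro h
    exact hne (v_eq_of_add_eq_zero h).symm
  have hs : pol Q a y1 + pol Q c y2 + pol Q b y2 = 0 := by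
    rcases smul_eq_zero.mp h0 with h | h
    · exact h
    · exact absurd h hca_ne
  rw [mu_swap Q f hf hb hc hbc]
  have : ∀ s u w : ZMod 2, s + u + w = 0 → s = u + w := by decide
  exact this _ _ _ hs

end crossed

theorem gp_self {v : ι → ZMod 2} (hv : Q v = 1) : gp Q v v = 1 := r_mul_self Q hv

theorem gp_trans (x z : ι → ZMod 2) {y : ι → ZMod 2} (hy : Q y = 1) :
    gp Q x y * gp Q y z = gp Q x z := by
  simp only [gp_def]
  rw [mul_assoc, ← mul_assoc (r Q y), r_mul_self Q hy, one_mul]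

/-- The subgroup on which `f` agrees with the principal crossed homomorphism of `v`. -/
noncomputable def K (f : ↥(Cfsg.Omega (ZMod 2) (⇑Q)) → ι → ZMod 2) (hf : IsCrossed Q f)
    (v : ι → ZMod 2) : Subgroup ↥(Cfsg.isometryGroup (ZMod 2) (⇑Q)) where
  carrier := {g | g ∈ Cfsg.Omega (ZMod 2) (⇑Q) ∧ F Q f g = act Q g v + v}
  one_mem' := by
    refine ⟨Subgroup.one_mem _, ?_⟩
    rw [F_one Q f hf, act_one, v_add_self]
  mul_mem' := by
    rintro g h ⟨hg, hg'⟩ ⟨hh, hh'⟩
    refine ⟨Subgroup.mul_mem _ hg hh, ?_⟩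
    rw [F_mul Q f hf hg hh, hg', hh', act_add, act_mul]
    funext t
    simp only [Pi.add_apply]
    generalize act Q g v t = x
    generalize v t = y
    generalize act Q g (act Q h v) t = z
    revert x y z; decide
  inv_mem' := by
    rintro g ⟨hg, hg'⟩
    refine ⟨Subgroup.inv_mem _ hg, ?_⟩
    rw [F_inv Q f hf hg, hg', act_add, act_inv_act, add_comm]

section tree

variable {n : ℕ} (a d : Fin (n + 1) → ι → ZMod 2) (nb : Fin (n + 1) → Fin (n + 1))
  (rk : (ι → ZMod 2) → ℕ)

/-- The subgroup generated by the pair elements of adjacent tree vectors. -/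
def E : Subgroup ↥(Cfsg.isometryGroup (ZMod 2) (⇑Q)) :=
  Subgroup.closure {g | ∃ i j, pol Q (a i) (a j) = 1 ∧ g = gp Q (a i) (a j)}

theorem adj_mem {i j : Fin (n + 1)} (h : pol Q (a i) (a j) = 1) : gp Q (a i) (a j) ∈ E Q a :=
  Subgroup.subset_closure ⟨i, j, h, rfl⟩

variable (ha : ∀ i, Q (a i) = 1) (hnb : ∀ i, pol Q (a (nb i)) (a i) = 1)
  (hlt : ∀ i : Fin (n + 1), i ≠ 0 → nb i < i)
include ha hnb hlt

theorem rel_root : ∀ (m : ℕ) (i : Fin (n + 1)), i.val = m → gp Q (a i) (a 0) ∈ E Q a := by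
  intro m
  induction m using Nat.strong_induction_on with
  | _ m ih =>
    intro i him
    by_cases h0 : i = 0
    · rw [h0, gp_self Q (ha 0)]; exact Subgroup.one_mem _
    · have hlt' := hlt i h0
      have h1 := ih (nb i).val (by rw [← him]; exact hlt') (nb i) rfl
      have h2 : gp Q (a (nb i)) (a i) ∈ E Q a := adj_mem Q a (hnb i)
      have h3 : gp Q (a i) (a (nb i)) ∈ E Q a := by
        rw [← gp_inv Q (ha _) (ha _)]; exact Subgroup.inv_mem _ h2
      rw [← gp_trans Q (a i) (a 0) (ha (nb i))]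
      exact Subgroup.mul_mem _ h3 h1

theorem rel_all (i k : Fin (n + 1)) : gp Q (a i) (a k) ∈ E Q a := by
  have h1 := rel_root Q a nb ha hnb hlt i.val i rfl
  have h2 := rel_root Q a nb ha hnb hlt k.val k rfl
  have h3 : gp Q (a 0) (a k) ∈ E Q a := by
    rw [← gp_inv Q (ha _) (ha _)]; exact Subgroup.inv_mem _ h2
  rw [← gp_trans Q (a i) (a k) (ha 0)]
  exact Subgroup.mul_mem _ h1 h3

theorem R_step {y : ι → ZMod 2} (hy : Q y = 1) (k : Fin (n + 1)) (hyk : pol Q y (a k) = 1)
    (hR : ∀ i, gp Q y (a i) ∈ E Q a) : ∀ i, gp Q (y + a k) (a i) ∈ E Q a := by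
  intro i
  have h1 : gp Q (y + a k) (a i) = (gp Q y (a k))⁻¹ * gp Q (a k) (a i) := by
    rw [gp_inv Q hy (ha k)]
    simp only [gp_def]
    rw [r_conj Q (ha k) hy hyk]
    group
  rw [h1]
  exact Subgroup.mul_mem _ (Subgroup.inv_mem _ (hR k)) (rel_all Q a nb ha hnb hlt k i)

theorem R_all
    (hstep : ∀ x, Q x = 1 → (∃ i, x = a i) ∨ ∃ k, pol Q x (a k) = 1 ∧ rk (x + a k) < rk x) :
    ∀ (m : ℕ) (x : ι → ZMod 2), rk x = m → Q x = 1 → ∀ i, gp Q x (a i) ∈ E Q a := by
  intro m
  induction m using Nat.strong_induction_on with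
  | _ m ih =>
    intro x hxm hx
    rcases hstep x hx with ⟨k, rfl⟩ | ⟨k, hxk, hlt'⟩
    · intro i; exact rel_all Q a nb ha hnb hlt k i
    · have hy : Q (x + a k) = 1 := by
        rw [Q_add, hx, ha k, hxk]; decide
      have hyk : pol Q (x + a k) (a k) = 1 := by
        rw [pol_add_left, pol_self, hxk, add_zero]
      have hR := ih (rk (x + a k)) (by rw [← hxm]; exact hlt') (x + a k) rfl hy
      have := R_step Q a nb ha hnb hlt hy k hyk hR
      rw [v_add_cancel] at this
      exact this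

theorem even_prod_mem
    (hstep : ∀ x, Q x = 1 → (∃ i, x = a i) ∨ ∃ k, pol Q x (a k) = 1 ∧ rk (x + a k) < rk x) :
    ∀ (m : ℕ) (vs : List (ι → ZMod 2)), vs.length = 2 * m → (∀ v ∈ vs, Q v = 1) →
      (vs.map (reflT Q)).prod ∈ E Q a := by
  intro m
  induction m with
  | zero =>
    intro vs hl _
    have : vs = [] := List.eq_nil_of_length_eq_zero (by omega)
    rw [this]; simp
  | succ m ih =>
    intro vs hl hvs
    match vs, hl, hvs with
    | [], hl, _ => simp at hl
    | [_], hl, _ => simp at hl; omega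
    | v₁ :: v₂ :: rest, hl, hvs =>
      have hv1 : Q v₁ = 1 := hvs v₁ (by simp)
      have hv2 : Q v₂ = 1 := hvs v₂ (by simp)
      have hrest := ih rest (by simp at hl; omega) (fun v hv => hvs v (by simp [hv]))
      have h1 : gp Q v₁ (a 0) ∈ E Q a := R_all Q a nb rk ha hnb hlt hstep _ v₁ rfl hv1 0
      have h2 : gp Q v₂ (a 0) ∈ E Q a := R_all Q a nb rk ha hnb hlt hstep _ v₂ rfl hv2 0
      have h3 : gp Q (a 0) v₂ ∈ E Q a := by
        rw [← gp_inv Q hv2 (ha 0)]; exact Subgroup.inv_mem _ h2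
      have h4 : gp Q v₁ v₂ ∈ E Q a := by
        rw [← gp_trans Q v₁ v₂ (ha 0)]; exact Subgroup.mul_mem _ h1 h3
      rw [List.map_cons, List.map_cons, List.prod_cons, List.prod_cons, ← mul_assoc]
      exact Subgroup.mul_mem _ h4 hrest

theorem omega_le_E (hQ : (QuadraticMap.polarBilin Q).Nondegenerate)
    (hCD : ∀ g : ↥(Cfsg.isometryGroup (ZMod 2) (⇑Q)),
      ∃ vs : List (ι → ZMod 2), (∀ v ∈ vs, Q v ≠ 0) ∧ g = (vs.map (reflT Q)).prod)
    (hstep : ∀ x, Q x = 1 → (∃ i, x = a i) ∨ ∃ k, pol Q x (a k) = 1 ∧ rk (x + a k) < rk x) :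
    Cfsg.Omega (ZMod 2) (⇑Q) ≤ E Q a := by
  intro g hg
  obtain ⟨vs, hvs, rfl⟩ := hCD g
  have hev := even_of_prod_mem_omega (by decide) Q hQ vs hvs hg
  obtain ⟨m, hm⟩ := hev
  exact even_prod_mem Q a nb rk ha hnb hlt hstep m vs (by omega)
    (fun v hv => z2_eq_one_of_ne_zero (hvs v hv))

variable (f : ↥(Cfsg.Omega (ZMod 2) (⇑Q)) → ι → ZMod 2) (hf : IsCrossed Q f)
  (hd : ∀ i j, pol Q (a i) (d j) = if i = j then 1 else 0)
  (htree : ∀ i j, pol Q (a i) (a j) = 1 → i ≠ nb j → pol Q (a i) (a (nb j)) = 0 ∧ a i ≠ a (nb j))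

/-- The coefficient attached to the tree vertex `j`. -/
noncomputable def phi (j : Fin (n + 1)) : ZMod 2 :=
  pol Q (a (nb j)) (F Q f (gp Q (a (nb j)) (a j)))

/-- The vector realising the crossed homomorphism. -/
noncomputable def vv : ι → ZMod 2 := ∑ j, phi Q a nb f j • d j

omit ha hnb hlt in
theorem pol_vv (hd : ∀ i j, pol Q (a i) (d j) = if i = j then 1 else 0) (i : Fin (n + 1)) :
    pol Q (a i) (vv Q a d nb f) = phi Q a nb f i := by
  have h1 : pol Q (a i) (vv Q a d nb f) = (QuadraticMap.polarBilin Q (a i)) (vv Q a d nb f) := rfl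
  rw [h1, vv, map_sum]
  have h2 : ∀ j, (QuadraticMap.polarBilin Q (a i)) (phi Q a nb f j • d j)
      = if i = j then phi Q a nb f j else 0 := by
    intro j
    rw [map_smul]
    have : (QuadraticMap.polarBilin Q (a i)) (d j) = pol Q (a i) (d j) := rfl
    rw [this, hd i j]
    split_ifs <;> simp
  rw [Finset.sum_congr rfl (fun j _ => h2 j), Finset.sum_ite_eq]
  simp

include hf htree

theorem mu_eq {i j : Fin (n + 1)} (h : pol Q (a i) (a j) = 1) :
    pol Q (a i) (F Q f (gp Q (a i) (a j))) = phi Q a nb f j := by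
  by_cases hi : i = nb j
  · subst hi; rfl
  · obtain ⟨h0, hne⟩ := htree i j h hi
    have hjn : pol Q (a j) (a (nb j)) = 1 := by rw [pol_comm]; exact hnb j
    exact mu_path Q f hf (ha i) (ha j) (ha (nb j)) h hjn h0 hne

theorem lam_eq {i j : Fin (n + 1)} (h : pol Q (a i) (a j) = 1) :
    pol Q (a j) (F Q f (gp Q (a i) (a j))) = phi Q a nb f i + phi Q a nb f j := by
  have hji : pol Q (a j) (a i) = 1 := by rw [pol_comm]; exact h
  have h1 := mu_swap Q f hf (ha i) (ha j) h
  rw [mu_eq Q a nb ha hnb hlt f hf htree hji, mu_eq Q a nb ha hnb hlt f hf htree h] at h1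
  have : ∀ s u w : ZMod 2, s = u + w → u = s + w := by decide
  exact this _ _ _ h1

theorem F_adj (hd : ∀ i j, pol Q (a i) (d j) = if i = j then 1 else 0) {i j : Fin (n + 1)}
    (h : pol Q (a i) (a j) = 1) :
    F Q f (gp Q (a i) (a j)) = act Q (gp Q (a i) (a j)) (vv Q a d nb f) + vv Q a d nb f := by
  have hs := F_gp_span Q f hf (ha i) (ha j) h
  rw [lam_eq Q a nb ha hnb hlt f hf htree h, mu_eq Q a nb ha hnb hlt f hf htree h] at hs
  rw [hs, act_gp_one Q (ha i) (ha j) h, pol_vv Q a d nb f hd, pol_vv Q a d nb f hd]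
  funext t
  simp only [Pi.add_apply, Pi.smul_apply, smul_eq_mul]
  generalize phi Q a nb f i = s
  generalize phi Q a nb f j = u
  generalize vv Q a d nb f t = w
  generalize a i t = x
  generalize a j t = y
  revert s u w x y; decide

theorem main (hQ : (QuadraticMap.polarBilin Q).Nondegenerate)
    (hCD : ∀ g : ↥(Cfsg.isometryGroup (ZMod 2) (⇑Q)),
      ∃ vs : List (ι → ZMod 2), (∀ v ∈ vs, Q v ≠ 0) ∧ g = (vs.map (reflT Q)).prod)
    (hstep : ∀ x, Q x = 1 → (∃ i, x = a i) ∨ ∃ k, pol Q x (a k) = 1 ∧ rk (x + a k) < rk x)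
    (hd : ∀ i j, pol Q (a i) (d j) = if i = j then 1 else 0) :
    ∃ v : ι → ZMod 2, ∀ g : ↥(Cfsg.Omega (ZMod 2) (⇑Q)), f g = act Q g.1 v - v := by
  refine ⟨vv Q a d nb f, ?_⟩
  have hEK : E Q a ≤ K Q f hf (vv Q a d nb f) := by
    apply (Subgroup.closure_le _).mpr
    rintro g ⟨i, j, hij, rfl⟩
    exact ⟨gp_mem_omega Q (ha i) (ha j) hij, F_adj Q a d nb ha hnb hlt f hf htree hd hij⟩
  intro g
  have hgE := omega_le_E Q a nb rk ha hnb hlt hQ hCD hstep g.2
  obtain ⟨_, hK⟩ := hEK hgE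
  rw [F_of_mem Q f g.2] at hK
  rw [v_sub]
  exact hK

end tree

end Cfsg.Agent.Lib.Helper8_H1Orth
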