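import Mathlib

set_option autoImplicit false

namespace Cfsg.Agent.Lib.Helper8_InvSylow

variable {G : Type*} [Group G]

theorem eq_one_of_sq_of_pow3 {a : G} (h2 : a * a = 1) {n : ℕ} (h3 : a ^ (3 ^ n) = 1) : a = 1 := by
  have h1 : orderOf a ∣ 2 := orderOf_dvd_of_pow_eq_one (by rw [pow_two]; exact h2)
  have h2' : orderOf a ∣ 3 ^ n := orderOf_dvd_of_pow_eq_one h3
  have hc : Nat.Coprime 2 (3 ^ n) := Nat.Coprime.pow_right n (by norm_num)
  have : orderOf a ∣ 1 := by
    have := Nat.dvd_gcd h1 h2'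
    rwa [hc.gcd_eq_one] at this
  exact orderOf_eq_one_iff.mp (Nat.dvd_one.mp this)

theorem eq_one_of_pow2_of_pow3 {a : G} {k n : ℕ} (h2 : a ^ (2 ^ k) = 1) (h3 : a ^ (3 ^ n) = 1) :
    a = 1 := by
  have h1 : orderOf a ∣ 2 ^ k := orderOf_dvd_of_pow_eq_one h2
  have h2' : orderOf a ∣ 3 ^ n := orderOf_dvd_of_pow_eq_one h3
  have hc : Nat.Coprime (2 ^ k) (3 ^ n) := Nat.Coprime.pow k n (by norm_num)
  have : orderOf a ∣ 1 := by
    have := Nat.dvd_gcd h1 h2'
    rwa [hc.gcd_eq_one] at this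
  exact orderOf_eq_one_iff.mp (Nat.dvd_one.mp this)

/-- abstract commutative computation for the key step -/
theorem comm_aux {M : Type*} [CommGroup M] (φ φi ψ : M ≃* M) (hφ : ∀ a, φ (φ (φ a)) = a)
    (hφi : ∀ a, φ (φi a) = a)
    (h2 : ∀ a : M, a * a = 1) (hψφ : ∀ a, ψ (φ a) = φ (φ (ψ a)))
    {b b' : M} (hb : ψ b = b) (hb' : ψ b' = b')
    (hrel : (b * φi b') * φ (b * φi b') * φ (φ (b * φi b')) = 1) :
    b * b' = φ (b * b') * ψ (φ (b * b')) := by
  have hi : φi b' = φ (φ b') := by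
    have := hφ (φi b')
    rw [hφi] at this
    exact this.symm
  rw [hi] at hrel
  have hw : (b * b') * φ (b * b') * φ (φ (b * b')) = 1 := by
    rw [← hrel]
    simp only [map_mul, hφ]
    simp only [mul_comm, mul_left_comm, mul_assoc]
  have hψw : ψ (b * b') = b * b' := by rw [map_mul, hb, hb']
  rw [hψφ, hψw]
  have hinv : (b * b')⁻¹ = b * b' := inv_eq_of_mul_eq_one_left (h2 _)
  have h3 : φ (b * b') * φ (φ (b * b')) = (b * b')⁻¹ := by
    symm
    apply inv_eq_of_mul_eq_one_right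
    rw [← hw]; simp only [mul_assoc]
  rw [h3, hinv]

theorem avg_aux {M : Type*} [CommGroup M] {P : Type*} [Fintype P] (σ : P → P)
    (hσ : ∀ p, σ (σ p) = p) (f : P → M) (ψ : M →* M) (b : M) (hb2 : b * b = 1)
    (hodd : Odd (Fintype.card P)) (hprod : ∏ p, f p = 1)
    (hpair : ∀ p, f p * f (σ p) ∈ ψ.range)
    (hfix : ∀ p, σ p = p → f p * b ∈ ψ.range) : b ∈ ψ.range := by
  classical
  have key : ∏ p, (QuotientGroup.mk' ψ.range) (f p * b) = 1 := by
    apply Finset.prod_ninvolution σ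
    · intro p
      rw [← map_mul]
      have : f p * b * (f (σ p) * b) = f p * f (σ p) * (b * b) := by
        simp only [mul_comm, mul_left_comm]
      rw [this, hb2, mul_one]
      exact (QuotientGroup.eq_one_iff _).mpr (hpair p)
    · intro p hp hσp
      exact hp ((QuotientGroup.eq_one_iff _).mpr (hfix p hσp))
    · intro p; exact Finset.mem_univ _
    · exact hσ
  rw [← map_prod, Finset.prod_mul_distrib, hprod, one_mul, Finset.prod_const, Finset.card_univ] at key
  obtain ⟨m, hm⟩ := hodd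
  have hbm : b ^ Fintype.card P = b := by
    rw [hm, pow_succ, pow_mul, pow_two, hb2, one_pow, one_mul]
  rw [hbm] at key
  exact (QuotientGroup.eq_one_iff _).mp key

end Cfsg.Agent.Lib.Helper8_InvSylow
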