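import Mathlib
import Cfsg.Agent.Lib.Helper8_InvSylowA

set_option autoImplicit false

namespace Cfsg.Agent.Lib.Helper8_InvSylow

variable {G : Type*} [Group G]

theorem comm_of_exp_two {A : Subgroup G} (hA2 : ∀ a ∈ A, a * a = 1) {a a' : G} (ha : a ∈ A)
    (ha' : a' ∈ A) : a * a' = a' * a := by
  have e1 : (a * a')⁻¹ = a * a' := inv_eq_of_mul_eq_one_left (hA2 _ (A.mul_mem ha ha'))
  have e2 : a⁻¹ = a := inv_eq_of_mul_eq_one_left (hA2 a ha)
  have e3 : a'⁻¹ = a' := inv_eq_of_mul_eq_one_left (hA2 a' ha')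
  calc a * a' = (a * a')⁻¹ := e1.symm
    _ = a'⁻¹ * a⁻¹ := mul_inv_rev _ _
    _ = a' * a := by rw [e2, e3]

open scoped IsMulCommutative in
theorem key (A Q : Subgroup G) [A.Normal] (hAQ : A ≤ Q) (hQ : IsPGroup 2 Q)
    (hA2 : ∀ a ∈ A, a * a = 1) (P : Subgroup G) (hP : IsPGroup 3 P)
    {h b x : G} (hhh : h * h = 1) (hb : b ∈ A) (hbh : h * b = b * h)
    (hxP : x ∈ P) (hx1 : x ≠ 1) (hx : h * x * h⁻¹ = x⁻¹)
    (hdag : ∀ g ∈ P, (b * h) * (g * (b * h) * g⁻¹) ∈ Q ∨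
      ((b * h) * (g * (b * h) * g⁻¹)) ^ 3 = 1)
    {c : G} (hcP : c ∈ P) (hc : h * c = c * h) :
    ∃ v ∈ A, b * (c * b * c⁻¹) = v * (h * v * h⁻¹) := by
  have hAc : IsMulCommutative ↥A :=
    ⟨⟨fun a a' => Subtype.ext (comm_of_exp_two hA2 a.2 a'.2)⟩⟩
  have hb'A : c * b * c⁻¹ ∈ A := ‹A.Normal›.conj_mem b hb c
  have hhinv : h⁻¹ = h := inv_eq_of_mul_eq_one_left hhh
  -- 3-power order of x
  obtain ⟨n, hn⟩ := hP ⟨x, hxP⟩
  have hxn : x ^ (3 ^ n) = 1 := by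
    have := congrArg Subtype.val hn
    simpa using this
  -- rewriting rules
  have r1 : ∀ t, h * (x * t) = x⁻¹ * (h * t) := by
    intro t
    have : h * x = x⁻¹ * h := by rw [← hx]; group
    rw [← mul_assoc, this, mul_assoc]
  have r2 : ∀ t, h * (c * t) = c * (h * t) := by
    intro t; rw [← mul_assoc, hc, mul_assoc]
  have r3 : ∀ t, h * (b * t) = b * (h * t) := by
    intro t; rw [← mul_assoc, hbh, mul_assoc]
  have r6 : ∀ t, h * (h * t) = t := by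
    intro t; rw [← mul_assoc, hhh, one_mul]
  have hE : (b * h) * ((x * c) * (b * h) * (x * c)⁻¹) =
      b * (x⁻¹ * (c * b * c⁻¹) * x) * (x⁻¹ * x⁻¹) := by
    simp only [mul_assoc, mul_inv_rev, r1, r2, r3, r6, mul_inv_cancel_left]
  have huA : b * (x⁻¹ * (c * b * c⁻¹) * x) ∈ A := by
    refine A.mul_mem hb ?_
    have := ‹A.Normal›.conj_mem _ hb'A x⁻¹
    simpa using this
  have hyP : x⁻¹ * x⁻¹ ∈ P := P.mul_mem (P.inv_mem hxP) (P.inv_mem hxP)
  have hAP : ∀ a, a ∈ A → a ∈ P → a = 1 := by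
    intro a ha haP
    obtain ⟨m, hm⟩ := hP ⟨a, haP⟩
    have hm' : a ^ (3 ^ m) = 1 := by
      have := congrArg Subtype.val hm
      simpa using this
    exact eq_one_of_sq_of_pow3 (hA2 a ha) hm'
  have hcube : (b * (x⁻¹ * (c * b * c⁻¹) * x) * (x⁻¹ * x⁻¹)) ^ 3 = 1 := by
    rcases hdag (x * c) (P.mul_mem hxP hcP) with hq | hcube
    · exfalso
      rw [hE] at hq
      have hyQ : x⁻¹ * x⁻¹ ∈ Q := (Q.mul_mem_cancel_left (hAQ huA)).mp hq
      obtain ⟨k, hk⟩ := hQ ⟨_, hyQ⟩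
      have hk' : (x⁻¹ * x⁻¹) ^ (2 ^ k) = 1 := by
        have := congrArg Subtype.val hk
        simpa using this
      obtain ⟨m, hm⟩ := hP ⟨_, hyP⟩
      have hm' : (x⁻¹ * x⁻¹) ^ (3 ^ m) = 1 := by
        have := congrArg Subtype.val hm
        simpa using this
      have h1 : x⁻¹ * x⁻¹ = 1 := eq_one_of_pow2_of_pow3 hk' hm'
      have h2 : x * x = 1 := by
        have : x * x = (x⁻¹ * x⁻¹)⁻¹ := by rw [mul_inv_rev, inv_inv]
        rw [this, h1, inv_one]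
      exact hx1 (eq_one_of_sq_of_pow3 h2 hxn)
    · rwa [hE] at hcube
  obtain ⟨u, hu⟩ : ∃ u, u = b * (x⁻¹ * (c * b * c⁻¹) * x) := ⟨_, rfl⟩
  rw [← hu] at hcube huA
  have hx3 : x * x * x = 1 := by
    obtain ⟨y, hy⟩ : ∃ y, y = x⁻¹ * x⁻¹ := ⟨_, rfl⟩
    rw [← hy] at hcube hyP
    have hid : (u * y) ^ 3 = u * (y * u * y⁻¹) * (y * y * u * (y * y)⁻¹) * (y * y * y) := by
      rw [pow_succ, pow_two]
      group
    have hyyy : y * y * y = (u * (y * u * y⁻¹) * (y * y * u * (y * y)⁻¹))⁻¹ := by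
      rw [hid] at hcube
      exact eq_inv_of_mul_eq_one_right hcube
    have h1 : y * y * y ∈ A := by
      rw [hyyy]
      exact A.inv_mem (A.mul_mem (A.mul_mem huA (‹A.Normal›.conj_mem u huA y))
        (‹A.Normal›.conj_mem u huA (y * y)))
    have h2 : y * y * y = 1 := hAP _ h1 (P.mul_mem (P.mul_mem hyP hyP) hyP)
    have h3 : (x * x * x) * (x * x * x) = 1 := by
      have : (x * x * x) * (x * x * x) = (y * y * y)⁻¹ := by
        rw [hy]; simp only [mul_inv_rev, inv_inv, mul_assoc]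
      rw [this, h2, inv_one]
    have h4 : (x * x * x) ^ (3 ^ n) = 1 := by
      have : x * x * x = x ^ 3 := by rw [pow_succ, pow_two]
      rw [this, ← pow_mul, mul_comm, pow_mul, hxn, one_pow]
    exact eq_one_of_sq_of_pow3 h3 h4
  have hxx : x⁻¹ * x⁻¹ = x := by
    calc x⁻¹ * x⁻¹ = x⁻¹ * x⁻¹ * (x * x * x) := by rw [hx3, mul_one]
      _ = x := by group
  have hxx' : x * x = x⁻¹ := by
    calc x * x = x⁻¹ * (x * x * x) := by group
      _ = x⁻¹ := by rw [hx3, mul_one]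
  rw [hxx] at hcube
  have hrelG : u * (x * u * x⁻¹) * (x * (x * u * x⁻¹) * x⁻¹) = 1 := by
    have hid : (u * x) ^ 3 = u * (x * u * x⁻¹) * (x * (x * u * x⁻¹) * x⁻¹) * (x * x * x) := by
      rw [pow_succ, pow_two]
      group
    rw [hid, hx3, mul_one] at hcube
    exact hcube
  -- move to the commutative group `A`
  have h2A : ∀ a : ↥A, a * a = 1 := fun a => Subtype.ext (hA2 a.1 a.2)
  have hφ : ∀ a : ↥A, MulAut.conjNormal x (MulAut.conjNormal x (MulAut.conjNormal x a)) = a := by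
    intro a
    apply Subtype.ext
    simp only [MulAut.conjNormal_apply]
    calc x * (x * (x * (a : G) * x⁻¹) * x⁻¹) * x⁻¹ = (x * x * x) * a * (x * x * x)⁻¹ := by group
      _ = a := by rw [hx3]; simp
  have hφi : ∀ a : ↥A, MulAut.conjNormal x (MulAut.conjNormal x⁻¹ a) = a := by
    intro a
    apply Subtype.ext
    simp only [MulAut.conjNormal_apply]
    group
  have hψφ : ∀ a : ↥A, MulAut.conjNormal h (MulAut.conjNormal x a) =
      MulAut.conjNormal x (MulAut.conjNormal x (MulAut.conjNormal h a)) := by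
    intro a
    apply Subtype.ext
    simp only [MulAut.conjNormal_apply]
    calc h * (x * (a : G) * x⁻¹) * h⁻¹ = (h * x * h⁻¹) * (h * a * h⁻¹) * (h * x * h⁻¹)⁻¹ := by group
      _ = (x * x) * (h * a * h⁻¹) * (x * x)⁻¹ := by rw [hx, hxx']
      _ = x * (x * (h * a * h⁻¹) * x⁻¹) * x⁻¹ := by group
  have hbψ : MulAut.conjNormal h (⟨b, hb⟩ : ↥A) = ⟨b, hb⟩ := by
    apply Subtype.ext
    simp only [MulAut.conjNormal_apply]
    rw [hbh, mul_inv_cancel_right]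
  have hb'ψ : MulAut.conjNormal h (⟨c * b * c⁻¹, hb'A⟩ : ↥A) = ⟨c * b * c⁻¹, hb'A⟩ := by
    apply Subtype.ext
    simp only [MulAut.conjNormal_apply]
    have : h * (c * b * c⁻¹) = (c * b * c⁻¹) * h := by
      have hc' : h * c⁻¹ = c⁻¹ * h := by
        calc h * c⁻¹ = c⁻¹ * (c * h) * c⁻¹ := by group
          _ = c⁻¹ * (h * c) * c⁻¹ := by rw [hc]
          _ = c⁻¹ * h := by group
      calc h * (c * b * c⁻¹) = (h * c) * b * c⁻¹ := by group
        _ = c * (h * b) * c⁻¹ := by rw [hc]; group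
        _ = c * b * (h * c⁻¹) := by rw [hbh]; group
        _ = c * b * c⁻¹ * h := by rw [hc']; group
    rw [this, mul_inv_cancel_right]
  have hrelA : ((⟨b, hb⟩ : ↥A) * MulAut.conjNormal x⁻¹ ⟨c * b * c⁻¹, hb'A⟩) *
      MulAut.conjNormal x ((⟨b, hb⟩ : ↥A) * MulAut.conjNormal x⁻¹ ⟨c * b * c⁻¹, hb'A⟩) *
      MulAut.conjNormal x (MulAut.conjNormal x
        ((⟨b, hb⟩ : ↥A) * MulAut.conjNormal x⁻¹ ⟨c * b * c⁻¹, hb'A⟩)) = 1 := by
    apply Subtype.ext
    simp only [Subgroup.coe_mul, MulAut.conjNormal_apply, inv_inv, Subgroup.coe_one]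
    rw [← hu]
    exact hrelG
  have hfin := comm_aux (M := ↥A) (MulAut.conjNormal x) (MulAut.conjNormal x⁻¹)
    (MulAut.conjNormal h) hφ hφi h2A hψφ hbψ hb'ψ hrelA
  refine ⟨(MulAut.conjNormal x ((⟨b, hb⟩ : ↥A) * ⟨c * b * c⁻¹, hb'A⟩) : ↥A), Subtype.property _, ?_⟩
  have := congrArg Subtype.val hfin
  simpa only [Subgroup.coe_mul, MulAut.conjNormal_apply] using this

open scoped IsMulCommutative in
theorem core [Finite G] (A : Subgroup G) [A.Normal] (hA2 : ∀ a ∈ A, a * a = 1)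
    (P : Subgroup G) (hP : IsPGroup 3 P)
    (hCAP : ∀ a ∈ A, (∀ p ∈ P, p * a = a * p) → a = 1)
    {h b : G} (hhh : h * h = 1) (hb : b ∈ A) (hbh : h * b = b * h)
    (hhP : ∀ p ∈ P, h * p * h⁻¹ ∈ P)
    (hkey : ∀ c ∈ P, h * c = c * h → ∃ v ∈ A, b * (c * b * c⁻¹) = v * (h * v * h⁻¹)) :
    ∃ v ∈ A, b = v * (h * v * h⁻¹) := by
  classical
  have hAc : IsMulCommutative ↥A :=
    ⟨⟨fun a a' => Subtype.ext (comm_of_exp_two hA2 a.2 a'.2)⟩⟩
  have hhinv : h⁻¹ = h := inv_eq_of_mul_eq_one_left hhh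
  let _ : Fintype ↥P := Fintype.ofFinite _
  obtain ⟨σ, hσdef⟩ : ∃ σ : ↥P → ↥P, ∀ p : ↥P, ((σ p : ↥P) : G) = h * p * h⁻¹ :=
    ⟨fun p => ⟨h * p * h⁻¹, hhP p p.2⟩, fun p => rfl⟩
  have hσ : ∀ p, σ (σ p) = p := by
    intro p
    apply Subtype.ext
    rw [hσdef, hσdef]
    calc h * (h * (p : G) * h⁻¹) * h⁻¹ = (h * h) * p * (h * h)⁻¹ := by group
      _ = p := by rw [hhh]; simp
  obtain ⟨f, hfdef⟩ : ∃ f : ↥P → ↥A, ∀ p : ↥P, f p = MulAut.conjNormal (p : G) ⟨b, hb⟩ :=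
    ⟨fun p => MulAut.conjNormal (p : G) ⟨b, hb⟩, fun p => rfl⟩
  obtain ⟨ψ, hψdef⟩ : ∃ ψ : ↥A →* ↥A, ∀ v : ↥A, ψ v = v * MulAut.conjNormal h v :=
    ⟨MonoidHom.id _ * (MulAut.conjNormal h : ↥A ≃* ↥A).toMonoidHom, fun v => rfl⟩
  have hodd : Odd (Fintype.card ↥P) := by
    obtain ⟨n, hn⟩ := IsPGroup.iff_card.mp hP
    rw [← Nat.card_eq_fintype_card, hn]
    exact Odd.pow (by decide)
  have hbfix : MulAut.conjNormal h (⟨b, hb⟩ : ↥A) = ⟨b, hb⟩ := by
    apply Subtype.ext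
    simp only [MulAut.conjNormal_apply]
    rw [hbh, mul_inv_cancel_right]
  have hprod : ∏ p, f p = 1 := by
    have hfixed : ∀ q : ↥P, MulAut.conjNormal (q : G) (∏ p, f p) = ∏ p, f p := by
      intro q
      rw [map_prod]
      rw [← Equiv.prod_comp (Equiv.mulLeft q) f]
      apply Finset.prod_congr rfl
      intro p _
      rw [hfdef, hfdef, Equiv.coe_mulLeft, Subgroup.coe_mul, map_mul, MulAut.mul_apply]
    apply Subtype.ext
    rw [Subgroup.coe_one]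
    apply hCAP _ (Subtype.property _)
    intro q hq
    have := congrArg Subtype.val (hfixed ⟨q, hq⟩)
    rw [MulAut.conjNormal_apply] at this
    calc q * ((∏ p, f p : ↥A) : G) = (q * ((∏ p, f p : ↥A) : G) * q⁻¹) * q := by group
      _ = ((∏ p, f p : ↥A) : G) * q := by rw [this]
  have hpair : ∀ p, f p * f (σ p) ∈ ψ.range := by
    intro p
    refine ⟨f p, ?_⟩
    rw [hψdef]
    congr 1
    rw [hfdef, hfdef]
    apply Subtype.ext
    rw [hσdef]
    simp only [MulAut.conjNormal_apply]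
    have hbh' : h * b * h⁻¹ = b := by rw [hbh, mul_inv_cancel_right]
    calc h * ((p : G) * b * (p : G)⁻¹) * h⁻¹ = (h * p * h⁻¹) * (h * b * h⁻¹) * (h * p * h⁻¹)⁻¹ := by
          group
      _ = h * ↑p * h⁻¹ * b * (h * ↑p * h⁻¹)⁻¹ := by rw [hbh']
  have hfix : ∀ p, σ p = p → f p * ⟨b, hb⟩ ∈ ψ.range := by
    intro p hp
    have hp' : h * (p : G) = p * h := by
      have := congrArg Subtype.val hp
      rw [hσdef] at this
      calc h * (p : G) = (h * p * h⁻¹) * h := by group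
        _ = p * h := by rw [this]
    obtain ⟨v, hv, hveq⟩ := hkey p p.2 hp'
    refine ⟨⟨v, hv⟩, ?_⟩
    rw [hψdef, hfdef]
    apply Subtype.ext
    simp only [Subgroup.coe_mul, MulAut.conjNormal_apply]
    rw [← hveq]
    exact comm_of_exp_two hA2 hb (‹A.Normal›.conj_mem b hb p)
  obtain ⟨v, hv⟩ := avg_aux σ hσ f ψ ⟨b, hb⟩ (Subtype.ext (hA2 b hb)) hodd hprod hpair hfix
  refine ⟨v, v.2, ?_⟩
  rw [hψdef] at hv
  have := congrArg Subtype.val hv
  simp only [Subgroup.coe_mul, MulAut.conjNormal_apply] at this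
  exact this.symm

end Cfsg.Agent.Lib.Helper8_InvSylow
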