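import Mathlib
import Cfsg.Agent.Lib.Helper8_InvSylowB

set_option autoImplicit false

namespace Cfsg.Agent.Lib.Helper8_InvSylow

variable {G : Type*} [Group G]

theorem mem_smul_sylow {p : ℕ} {g x : G} {P : Sylow p G} :
    x ∈ (g • P : Sylow p G) ↔ g⁻¹ * x * g ∈ P := by
  change x ∈ ((g • P : Sylow p G) : Subgroup G) ↔ _
  rw [Sylow.coe_subgroup_smul, Subgroup.mem_pointwise_smul_iff_inv_smul_mem]
  simp only [MulAut.smul_def, MulAut.conj_inv_apply]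
  rfl

/-- elements of 3-power order lie in a subgroup `K` with `G = K ∪ dK` -/
theorem mem_of_pow3 (K : Subgroup G) {d : G} (h5 : ∀ g, g ∈ K ∨ d * g ∈ K) {x : G} {n : ℕ}
    (hx : x ^ (3 ^ n) = 1) : x ∈ K := by
  rcases h5 x with h | h
  · exact h
  · rcases h5 (x * x) with h' | h'
    · obtain ⟨m, hm⟩ : Odd (3 ^ n) := Odd.pow (by decide)
      have : x = (x * x) ^ (m + 1) := by
        rw [← pow_two, ← pow_mul]
        have : 2 * (m + 1) = 3 ^ n + 1 := by omega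
        rw [this, pow_succ, hx, one_mul]
      rw [this]
      exact K.pow_mem h' _
    · have : x = (d * x)⁻¹ * (d * (x * x)) := by group
      rw [this]
      exact K.mul_mem (K.inv_mem h) h'

theorem le_sylow_sup [Finite G] (Q K : Subgroup G) [Q.Normal] [K.Normal]
    (hK3 : ∀ k ∈ K, ∃ m : ℕ, k ^ (3 ^ m) ∈ Q) (P : Sylow 3 G) :
    K ≤ (P : Subgroup G) ⊔ Q := by
  have hsurj := QuotientGroup.mk'_surjective Q
  have hn : (K.map (QuotientGroup.mk' Q)).Normal := Subgroup.Normal.map inferInstance _ hsurj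
  have hp : IsPGroup 3 (K.map (QuotientGroup.mk' Q)) := by
    rintro ⟨g, hg⟩
    obtain ⟨k, hk, rfl⟩ := Subgroup.mem_map.mp hg
    obtain ⟨m, hm⟩ := hK3 k hk
    refine ⟨m, ?_⟩
    apply Subtype.ext
    rw [Subgroup.coe_pow, Subgroup.coe_one, ← map_pow]
    exact (QuotientGroup.eq_one_iff _).mpr hm
  have hle := hp.le_sylow_of_normal (P.mapSurjective hsurj)
  rw [Sylow.coe_mapSurjective, Subgroup.map_le_iff_le_comap, Subgroup.comap_map_eq,
    QuotientGroup.ker_mk'] at hle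
  exact hle

theorem step_central [Finite G] (A K : Subgroup G) [A.Normal] (hA2 : ∀ a ∈ A, a * a = 1)
    (hAK : ∀ a ∈ A, ∀ k ∈ K, k * a = a * k) (P : Sylow 3 G) (hPK : (P : Subgroup G) ≤ K) {d : G}
    (hsub : ((d • P : Sylow 3 G) : Subgroup G) ≤ (P : Subgroup G) ⊔ A) : d • P = P := by
  have hle : ((d • P : Sylow 3 G) : Subgroup G) ≤ (P : Subgroup G) := by
    intro y hy
    obtain ⟨p, hp, a, ha, rfl⟩ := Subgroup.mem_sup_of_normal_right.mp (hsub hy)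
    obtain ⟨m, hm⟩ := (d • P).2 ⟨_, hy⟩
    have hm' : (p * a) ^ (3 ^ m) = 1 := by
      have := congrArg Subtype.val hm
      simpa using this
    obtain ⟨m₂, hm₂⟩ := P.2 ⟨p, hp⟩
    have hm₂' : p ^ (3 ^ m₂) = 1 := by
      have := congrArg Subtype.val hm₂
      simpa using this
    have hcomm : Commute p a := (hAK a ha p (hPK hp))
    have h1 : (p * a) ^ (3 ^ (m + m₂)) = 1 := by
      rw [pow_add, pow_mul, hm', one_pow]
    have h2 : p ^ (3 ^ (m + m₂)) = 1 := by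
      rw [pow_add, mul_comm, pow_mul, hm₂', one_pow]
    rw [hcomm.mul_pow, h2, one_mul] at h1
    have ha1 : a = 1 := eq_one_of_sq_of_pow3 (hA2 a ha) h1
    rw [ha1, mul_one]
    exact hp
  exact Sylow.ext ((d • P).3 P.2 hle).symm

theorem step_faithful [Finite G] (A Q K : Subgroup G) [A.Normal] [Q.Normal] (hAQ : A ≤ Q)
    (hQ : IsPGroup 2 Q) (hA2 : ∀ a ∈ A, a * a = 1) (hAQc : ∀ a ∈ A, ∀ q ∈ Q, q * a = a * q)
    (hCAK : ∀ a ∈ A, (∀ k ∈ K, k * a = a * k) → a = 1)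
    (P : Sylow 3 G) (hKPQ : K ≤ (P : Subgroup G) ⊔ Q)
    {d : G} (hdd : d * d = 1) {a₀ : G} (ha₀ : a₀ ∈ A) (hconj : a₀ • P = d • P)
    (hdag : ∀ g, d * (g * d * g⁻¹) ∈ Q ∨ (d * (g * d * g⁻¹)) ^ 3 = 1)
    (hc3 : ∃ k ∈ K, d * k * d⁻¹ * k⁻¹ ∉ Q) :
    ∃ P' : Sylow 3 G, d • P' = P' := by
  have ha₀inv : a₀⁻¹ = a₀ := inv_eq_of_mul_eq_one_left (hA2 a₀ ha₀)
  have hdinv : d⁻¹ = d := inv_eq_of_mul_eq_one_left hdd
  obtain ⟨h, hh⟩ : ∃ h, h = a₀ * d := ⟨_, rfl⟩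
  have hhPs : h • P = P := by
    rw [hh, mul_smul, ← hconj, ← mul_smul, hA2 a₀ ha₀, one_smul]
  have hhN : h ∈ Subgroup.normalizer (P : Set G) := Sylow.smul_eq_iff_mem_normalizer.mp hhPs
  have hhP : ∀ p ∈ P, h * p * h⁻¹ ∈ P := fun p hp =>
    (Subgroup.mem_set_normalizer_iff.mp hhN p).mp hp
  -- `A ∩ P = 1`
  have hAP : ∀ a, a ∈ A → a ∈ P → a = 1 := by
    intro a ha haP
    obtain ⟨m, hm⟩ := P.2 ⟨a, haP⟩
    have hm' : a ^ (3 ^ m) = 1 := by
      have := congrArg Subtype.val hm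
      simpa using this
    exact eq_one_of_sq_of_pow3 (hA2 a ha) hm'
  -- `C_A(P) = 1`
  have hCAP : ∀ a ∈ A, (∀ p ∈ P, p * a = a * p) → a = 1 := by
    intro a ha hcomm
    apply hCAK a ha
    have h1 : (P : Subgroup G) ≤ Subgroup.centralizer {a} := by
      intro p hp
      rw [Subgroup.mem_centralizer_iff]
      intro y hy
      rw [Set.mem_singleton_iff] at hy
      rw [hy]
      exact (hcomm p hp).symm
    have h2 : Q ≤ Subgroup.centralizer {a} := by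
      intro q hq
      rw [Subgroup.mem_centralizer_iff]
      intro y hy
      rw [Set.mem_singleton_iff] at hy
      rw [hy]
      exact (hAQc a ha q hq).symm
    intro k hk
    have := (hKPQ.trans (sup_le h1 h2)) hk
    rw [Subgroup.mem_centralizer_iff] at this
    exact (this a rfl).symm
  -- `h * h = 1`
  have hhhA : h * h ∈ A := by
    have : h * h = a₀ * (d * a₀ * d⁻¹) * (d * d) := by rw [hh]; group
    rw [this, hdd, mul_one]
    exact A.mul_mem ha₀ (‹A.Normal›.conj_mem a₀ ha₀ d)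
  have hhh : h * h = 1 := by
    have hnorm : ∀ p ∈ P, (h * h) * p * (h * h)⁻¹ ∈ P := by
      intro p hp
      have : (h * h) * p * (h * h)⁻¹ = h * (h * p * h⁻¹) * h⁻¹ := by group
      rw [this]
      exact hhP _ (hhP p hp)
    obtain ⟨t, ht⟩ : ∃ t, t = h * h := ⟨_, rfl⟩
    rw [← ht] at hnorm hhhA ⊢
    apply hCAP _ hhhA
    intro p hp
    have h1 := hnorm p hp
    have h2 : t * p * t⁻¹ * p⁻¹ ∈ A := by
      have : t * p * t⁻¹ * p⁻¹ = t * (p * t⁻¹ * p⁻¹) := by group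
      rw [this]
      exact A.mul_mem hhhA (‹A.Normal›.conj_mem _ (A.inv_mem hhhA) p)
    have h3 := hAP _ h2 (P.mul_mem h1 (P.inv_mem hp))
    calc p * t = (t * p * t⁻¹ * p⁻¹)⁻¹ * (t * p) := by group
      _ = t * p := by rw [h3, inv_one, one_mul]
  have hdb : d = a₀ * h := by rw [hh, ← mul_assoc, hA2 a₀ ha₀, one_mul]
  have hbh : h * a₀ = a₀ * h := by
    rw [← hdb]
    have h1 : a₀ * d * (a₀ * d) = 1 := by rw [← hh]; exact hhh
    calc h * a₀ = a₀ * d * a₀ := by rw [hh]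
      _ = (a₀ * d * (a₀ * d)) * d⁻¹ := by group
      _ = d := by rw [h1, one_mul, hdinv]
  have hhinv : h⁻¹ = h := inv_eq_of_mul_eq_one_left hhh
  -- an element of `P` not centralized by `h`
  have hex : ∃ p ∈ P, h * p * h⁻¹ ≠ p := by
    by_contra hall
    have hall' : ∀ p ∈ P, h * p * h⁻¹ = p := by
      intro p hp
      by_contra hne
      exact hall ⟨p, hp, hne⟩
    obtain ⟨k, hkK, hkQ⟩ := hc3
    apply hkQ
    obtain ⟨p, hp, q, hq, rfl⟩ := Subgroup.mem_sup_of_normal_right.mp (hKPQ hkK)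
    have hpc : h * p = p * h := by
      calc h * p = (h * p * h⁻¹) * h := by group
        _ = p * h := by rw [hall' p hp]
    have : d * (p * q) * d⁻¹ * (p * q)⁻¹ =
        a₀ * (p * ((h * q * h⁻¹) * a₀⁻¹ * q⁻¹) * p⁻¹) := by
      rw [hdb]
      calc a₀ * h * (p * q) * (a₀ * h)⁻¹ * (p * q)⁻¹
          = a₀ * (h * p) * q * h⁻¹ * a₀⁻¹ * q⁻¹ * p⁻¹ := by group
        _ = a₀ * (p * h) * q * h⁻¹ * a₀⁻¹ * q⁻¹ * p⁻¹ := by rw [hpc]
        _ = a₀ * (p * ((h * q * h⁻¹) * a₀⁻¹ * q⁻¹) * p⁻¹) := by group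
    rw [this]
    refine Q.mul_mem (hAQ ha₀) (‹Q.Normal›.conj_mem _ ?_ p)
    exact Q.mul_mem (Q.mul_mem (‹Q.Normal›.conj_mem q hq h) (Q.inv_mem (hAQ ha₀))) (Q.inv_mem hq)
  obtain ⟨p, hp, hpne⟩ := hex
  obtain ⟨x, hxdef⟩ : ∃ x, x = p⁻¹ * (h * p * h⁻¹) := ⟨_, rfl⟩
  have hxP : x ∈ P := by
    rw [hxdef]; exact P.mul_mem (P.inv_mem hp) (hhP p hp)
  have hx1 : x ≠ 1 := by
    intro h1
    apply hpne
    have : h * p * h⁻¹ = p * x := by rw [hxdef]; group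
    rw [this, h1, mul_one]
  have hx : h * x * h⁻¹ = x⁻¹ := by
    rw [hxdef]
    calc h * (p⁻¹ * (h * p * h⁻¹)) * h⁻¹ = (h * p⁻¹ * h⁻¹) * ((h * h) * p * (h * h)⁻¹) := by
          obtain ⟨t, ht⟩ : ∃ t, t = h * h := ⟨_, rfl⟩
          rw [← ht]
          have : h * (p⁻¹ * (h * p * h⁻¹)) * h⁻¹ = (h * p⁻¹ * h⁻¹) * ((h * h) * p * (h⁻¹ * h⁻¹)) := by
            group
          rw [this, ← ht]
          have : t⁻¹ = h⁻¹ * h⁻¹ := by rw [ht]; group
          rw [this]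
      _ = (h * p⁻¹ * h⁻¹) * p := by rw [hhh]; simp
      _ = (p⁻¹ * (h * p * h⁻¹))⁻¹ := by group
  have hdag' : ∀ g ∈ P, (a₀ * h) * (g * (a₀ * h) * g⁻¹) ∈ Q ∨
      ((a₀ * h) * (g * (a₀ * h) * g⁻¹)) ^ 3 = 1 := by
    intro g _
    rw [← hdb]
    exact hdag g
  have hkey := fun c (hc : c ∈ P) (hcc : h * c = c * h) =>
    key A Q hAQ hQ hA2 (P : Subgroup G) P.2 hhh ha₀ hbh hxP hx1 hx hdag' hc hcc
  obtain ⟨v, hv, hveq⟩ := core A hA2 (P : Subgroup G) P.2 hCAP hhh ha₀ hbh hhP hkey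
  refine ⟨v • P, ?_⟩
  have hdv : d * v = v * h := by
    rw [hdb, hveq]
    have hvv := hA2 v hv
    calc v * (h * v * h⁻¹) * h * v = v * h * (v * v) := by group
      _ = v * h := by rw [hvv, mul_one]
  rw [← mul_smul, hdv, mul_smul, hhPs]

end Cfsg.Agent.Lib.Helper8_InvSylow
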