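import Mathlib
import Cfsg.Agent.Lib.Helper8_InvSylowC

set_option autoImplicit false

namespace Cfsg.Agent.Lib.Helper8_InvSylow

variable {G : Type*} [Group G]

/-- a nontrivial finite 2-group has a central element of order two -/
theorem exists_central_involution [Finite G] (Q : Subgroup G) (hQ : IsPGroup 2 Q) (hne : Q ≠ ⊥) :
    ∃ z ∈ Q, z ≠ 1 ∧ z * z = 1 ∧ ∀ q ∈ Q, q * z = z * q := by
  have : Fact (Nat.Prime 2) := ⟨Nat.prime_two⟩
  have hnt : Nontrivial ↥Q := (Subgroup.nontrivial_iff_ne_bot Q).mpr hne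
  have hc := hQ.center_nontrivial
  obtain ⟨⟨z, hz⟩, hz1⟩ := exists_ne (1 : Subgroup.center ↥Q)
  have hz1' : z ≠ 1 := fun h => hz1 (Subtype.ext h)
  obtain ⟨k, hk⟩ := (IsPGroup.iff_orderOf.mp hQ) z
  have hk0 : k ≠ 0 := by
    rintro rfl
    rw [pow_zero, orderOf_eq_one_iff] at hk
    exact hz1' hk
  obtain ⟨j, rfl⟩ := Nat.exists_eq_succ_of_ne_zero hk0
  have hord : orderOf (z ^ (2 ^ j)) = 2 := by
    rw [orderOf_pow' z (by positivity), hk, Nat.gcd_eq_right (pow_dvd_pow 2 (Nat.le_succ j)),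
      pow_succ, Nat.mul_div_cancel_left _ (by positivity)]
  refine ⟨((z ^ (2 ^ j) : ↥Q) : G), Subtype.property _, ?_, ?_, ?_⟩
  · intro h1
    have : z ^ (2 ^ j) = 1 := Subtype.ext h1
    rw [this, orderOf_one] at hord
    omega
  · have : (z ^ (2 ^ j)) * (z ^ (2 ^ j)) = 1 := by
      have := pow_orderOf_eq_one (z ^ (2 ^ j))
      rw [hord, pow_two] at this
      exact this
    have := congrArg Subtype.val this
    simpa using this
  · intro q hq
    have hzc : z ^ (2 ^ j) ∈ Subgroup.center ↥Q := (Subgroup.center ↥Q).pow_mem hz _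
    have := Subgroup.mem_center_iff.mp hzc ⟨q, hq⟩
    have := congrArg Subtype.val this
    simpa using this

/-- the central elements of `Q` of order dividing two -/
def omegaZ (Q : Subgroup G) : Subgroup G where
  carrier := {z | z ∈ Q ∧ z * z = 1 ∧ ∀ q ∈ Q, q * z = z * q}
  one_mem' := ⟨Q.one_mem, by simp, fun q _ => by simp⟩
  mul_mem' := by
    rintro z₁ z₂ ⟨h1Q, h1s, h1c⟩ ⟨h2Q, h2s, h2c⟩
    refine ⟨Q.mul_mem h1Q h2Q, ?_, ?_⟩
    · calc z₁ * z₂ * (z₁ * z₂) = z₁ * (z₂ * z₁) * z₂ := by group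
        _ = z₁ * (z₁ * z₂) * z₂ := by rw [h1c z₂ h2Q]
        _ = (z₁ * z₁) * (z₂ * z₂) := by group
        _ = 1 := by rw [h1s, h2s, one_mul]
    · intro q hq
      calc q * (z₁ * z₂) = (q * z₁) * z₂ := by group
        _ = z₁ * (q * z₂) := by rw [h1c q hq]; group
        _ = z₁ * z₂ * q := by rw [h2c q hq]; group
  inv_mem' := by
    rintro z ⟨hQ, hs, hc⟩
    have : z⁻¹ = z := inv_eq_of_mul_eq_one_left hs
    rw [this]
    exact ⟨hQ, hs, hc⟩

theorem mem_omegaZ {Q : Subgroup G} {z : G} :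
    z ∈ omegaZ Q ↔ z ∈ Q ∧ z * z = 1 ∧ ∀ q ∈ Q, q * z = z * q := Iff.rfl

instance omegaZ_normal (Q : Subgroup G) [Q.Normal] : (omegaZ Q).Normal := by
  constructor
  rintro z ⟨hQ, hs, hc⟩ g
  refine ⟨‹Q.Normal›.conj_mem z hQ g, ?_, ?_⟩
  · calc g * z * g⁻¹ * (g * z * g⁻¹) = g * (z * z) * g⁻¹ := by group
      _ = 1 := by rw [hs]; group
  · intro q hq
    have h1 : g⁻¹ * q * g ∈ Q := by
      have := ‹Q.Normal›.conj_mem q hq g⁻¹
      simpa using this
    calc q * (g * z * g⁻¹) = g * ((g⁻¹ * q * g) * z) * g⁻¹ := by group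
      _ = g * (z * (g⁻¹ * q * g)) * g⁻¹ := by rw [hc _ h1]
      _ = g * z * g⁻¹ * q := by group

theorem exists_good_A [Finite G] (Q K : Subgroup G) [Q.Normal] [K.Normal] (hQ : IsPGroup 2 Q)
    (hne : Q ≠ ⊥) :
    ∃ A : Subgroup G, A.Normal ∧ A ≠ ⊥ ∧ A ≤ Q ∧ (∀ a ∈ A, a * a = 1) ∧
      (∀ a ∈ A, ∀ q ∈ Q, q * a = a * q) ∧
      ((∀ a ∈ A, ∀ k ∈ K, k * a = a * k) ∨ (∀ a ∈ A, (∀ k ∈ K, k * a = a * k) → a = 1)) := by
  obtain ⟨z, hzQ, hz1, hzz, hzc⟩ := exists_central_involution Q hQ hne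
  have hA1ne : omegaZ Q ≠ ⊥ := by
    intro h
    have : z ∈ omegaZ Q := ⟨hzQ, hzz, hzc⟩
    rw [h, Subgroup.mem_bot] at this
    exact hz1 this
  by_cases h2 : omegaZ Q ⊓ Subgroup.centralizer (K : Set G) = ⊥
  · refine ⟨omegaZ Q, inferInstance, hA1ne, fun a ha => ha.1, fun a ha => ha.2.1,
      fun a ha => ha.2.2, Or.inr ?_⟩
    intro a ha hak
    have : a ∈ omegaZ Q ⊓ Subgroup.centralizer (K : Set G) := by
      refine Subgroup.mem_inf.mpr ⟨ha, ?_⟩
      rw [Subgroup.mem_centralizer_iff]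
      intro k hk
      exact hak k hk
    rw [h2, Subgroup.mem_bot] at this
    exact this
  · refine ⟨omegaZ Q ⊓ Subgroup.centralizer (K : Set G), inferInstance, h2,
      fun a ha => ha.1.1, fun a ha => ha.1.2.1, fun a ha => ha.1.2.2, Or.inl ?_⟩
    intro a ha k hk
    exact (Subgroup.mem_centralizer_iff.mp ha.2) k hk

end Cfsg.Agent.Lib.Helper8_InvSylow
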