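import Mathlib
import Cfsg.Agent.Lib.Helper8_InvSylowD

set_option autoImplicit false

namespace Cfsg.Agent.Lib.Helper8_InvSylow

universe u

theorem mem_of_map_mem {G : Type*} [Group G] {A Q : Subgroup G} [A.Normal] (hAQ : A ≤ Q) {x : G}
    (h : QuotientGroup.mk' A x ∈ Q.map (QuotientGroup.mk' A)) : x ∈ Q := by
  obtain ⟨q, hq, hqe⟩ := Subgroup.mem_map.mp h
  have : q⁻¹ * x ∈ A := by
    have := (QuotientGroup.eq (s := A) (a := q) (b := x)).mp hqe
    exact this
  have h2 : x = q * (q⁻¹ * x) := by group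
  rw [h2]
  exact Q.mul_mem hq (hAQ this)

theorem exists_conj_in_sup {G : Type*} [Group G] [Finite G] (A : Subgroup G) [A.Normal]
    (P : Sylow 3 G) {d : G}
    (hsub : ((d • P : Sylow 3 G) : Subgroup G) ≤ (P : Subgroup G) ⊔ A) :
    ∃ a₀ ∈ A, a₀ • P = d • P := by
  have hP₁R : (P : Subgroup G) ≤ (P : Subgroup G) ⊔ A := le_sup_left
  obtain ⟨r, hr⟩ := MulAction.exists_smul_eq ↥((P : Subgroup G) ⊔ A) (P.subtype hP₁R)
    ((d • P).subtype hsub)
  rw [Sylow.smul_subtype] at hr
  have hr' : r • P = d • P := Sylow.subtype_injective hr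
  obtain ⟨y, hy, z, hz, hyz⟩ := Subgroup.mem_sup_of_normal_right.mp r.2
  refine ⟨y * z * y⁻¹, ‹A.Normal›.conj_mem z hz y, ?_⟩
  rw [← hr', Subgroup.smul_def, ← hyz]
  have hyP : y • P = P := by
    rw [Sylow.smul_eq_iff_mem_normalizer]
    exact Subgroup.le_normalizer hy
  calc (y * z * y⁻¹) • P = (y * z * y⁻¹) • (y • P) := by rw [hyP]
    _ = (y * z * y⁻¹ * y) • P := (mul_smul _ _ _).symm
    _ = (y * z) • P := by rw [inv_mul_cancel_right]

theorem main_aux : ∀ (n : ℕ) (G : Type u) [Group G] [Finite G] (Q K : Subgroup G) (d : G),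
    Nat.card G ≤ n → Q.Normal → K.Normal → IsPGroup 2 Q → Q ≤ K →
    (∀ k ∈ K, ∃ m : ℕ, k ^ (3 ^ m) ∈ Q) → d * d = 1 → (∀ g, g ∈ K ∨ d * g ∈ K) →
    (∀ g, d * (g * d * g⁻¹) ∈ Q ∨ (d * (g * d * g⁻¹)) ^ 3 = 1) →
    ((∀ k ∈ K, d * k * d⁻¹ * k⁻¹ ∈ Q) → K ≤ Q) → ∃ P : Sylow 3 G, d • P = P := by
  intro n
  induction n with
  | zero =>
    intro G _ _ Q K d hcard
    have := Nat.card_pos (α := G)
    omega
  | succ n ih =>
    intro G _ _ Q K d hcard hQn hKn hQ hQK hK3 hdd h5 hdag hc3
    have : Fact (Nat.Prime 3) := ⟨Nat.prime_three⟩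
    have hdinv : d⁻¹ = d := inv_eq_of_mul_eq_one_left hdd
    -- trivial case
    by_cases hKQ : K ≤ Q
    · obtain ⟨P⟩ : Nonempty (Sylow 3 G) := inferInstance
      refine ⟨P, ?_⟩
      have hbot : ∀ x ∈ P, x = 1 := by
        intro x hx
        obtain ⟨m, hm⟩ := P.2 ⟨x, hx⟩
        have hm' : x ^ (3 ^ m) = 1 := by
          have := congrArg Subtype.val hm
          simpa using this
        have hxK := mem_of_pow3 K h5 hm'
        obtain ⟨k, hk⟩ := hQ ⟨x, hKQ hxK⟩
        have hk' : x ^ (2 ^ k) = 1 := by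
          have := congrArg Subtype.val hk
          simpa using this
        exact eq_one_of_pow2_of_pow3 hk' hm'
      apply Sylow.ext
      ext x
      change x ∈ (d • P : Sylow 3 G) ↔ x ∈ P
      rw [mem_smul_sylow]
      constructor
      · intro h
        have := hbot _ h
        have hx1 : x = 1 := by
          calc x = d * (d⁻¹ * x * d) * d⁻¹ := by group
            _ = 1 := by rw [this]; group
        rw [hx1]; exact P.one_mem
      · intro h
        rw [hbot x h]
        simp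
    -- base case
    by_cases hQbot : Q = ⊥
    · obtain ⟨P⟩ : Nonempty (Sylow 3 G) := inferInstance
      refine ⟨P, ?_⟩
      have hK3' : IsPGroup 3 K := by
        rintro ⟨k, hk⟩
        obtain ⟨m, hm⟩ := hK3 k hk
        rw [hQbot, Subgroup.mem_bot] at hm
        exact ⟨m, Subtype.ext hm⟩
      have hKP : K ≤ P := hK3'.le_sylow_of_normal P
      have hPK : ∀ x ∈ P, x ∈ K := by
        intro x hx
        obtain ⟨m, hm⟩ := P.2 ⟨x, hx⟩
        have hm' : x ^ (3 ^ m) = 1 := by
          have := congrArg Subtype.val hm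
          simpa using this
        exact mem_of_pow3 K h5 hm'
      apply Sylow.ext
      ext x
      change x ∈ (d • P : Sylow 3 G) ↔ x ∈ P
      rw [mem_smul_sylow]
      constructor
      · intro h
        have h1 := hKn.conj_mem _ (hPK _ h) d
        have h2 : d * (d⁻¹ * x * d) * d⁻¹ = x := by group
        rw [h2] at h1
        exact hKP h1
      · intro h
        have h1 := hKn.conj_mem _ (hPK _ h) d⁻¹
        rw [inv_inv] at h1
        exact hKP h1
    -- inductive step
    obtain ⟨A, hAn, hAne, hAQ, hA2, hAQc, hdich⟩ := exists_good_A Q K hQ hQbot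
    have hsurj := QuotientGroup.mk'_surjective A
    have hcard' : Nat.card (G ⧸ A) ≤ n := by
      have h1 := Subgroup.card_eq_card_quotient_mul_card_subgroup A
      have h2 : 1 < Nat.card A := A.one_lt_card_iff_ne_bot.mpr hAne
      have h3 : 0 < Nat.card (G ⧸ A) := Nat.card_pos
      have h4 : Nat.card (G ⧸ A) * 2 ≤ Nat.card (G ⧸ A) * Nat.card A :=
        Nat.mul_le_mul_left _ h2
      omega
    have hIH := ih (G ⧸ A) (Q.map (QuotientGroup.mk' A)) (K.map (QuotientGroup.mk' A))
      (QuotientGroup.mk' A d) hcard' (Subgroup.Normal.map hQn _ hsurj)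
      (Subgroup.Normal.map hKn _ hsurj) (hQ.map _) (Subgroup.map_mono hQK)
      (by
        rintro k' hk'
        obtain ⟨k, hk, rfl⟩ := Subgroup.mem_map.mp hk'
        obtain ⟨m, hm⟩ := hK3 k hk
        exact ⟨m, by rw [← map_pow]; exact Subgroup.mem_map_of_mem _ hm⟩)
      (by rw [← map_mul, hdd, map_one])
      (by
        intro g
        obtain ⟨g, rfl⟩ := hsurj g
        rcases h5 g with h | h
        · exact Or.inl (Subgroup.mem_map_of_mem _ h)
        · right
          rw [← map_mul]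
          exact Subgroup.mem_map_of_mem _ h)
      (by
        intro g
        obtain ⟨g, rfl⟩ := hsurj g
        rcases hdag g with h | h
        · left
          have := Subgroup.mem_map_of_mem (QuotientGroup.mk' A) h
          simpa only [map_mul, map_inv] using this
        · right
          have := congrArg (QuotientGroup.mk' A) h
          simpa only [map_mul, map_inv, map_pow, map_one] using this)
      (by
        intro hall
        apply Subgroup.map_mono
        apply hc3
        intro k hk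
        have := hall _ (Subgroup.mem_map_of_mem (QuotientGroup.mk' A) hk)
        apply mem_of_map_mem hAQ
        simpa only [map_mul, map_inv] using this)
    obtain ⟨Pq, hPq⟩ := hIH
    obtain ⟨P₁, hP₁⟩ := Sylow.mapSurjective_surjective hsurj 3 Pq
    have hsub : ((d • P₁ : Sylow 3 G) : Subgroup G) ≤ (P₁ : Subgroup G) ⊔ A := by
      intro y hy
      have hy' : d⁻¹ * y * d ∈ P₁ := mem_smul_sylow.mp hy
      have h1 : QuotientGroup.mk' A y ∈ (QuotientGroup.mk' A d • Pq : Sylow 3 (G ⧸ A)) := by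
        rw [mem_smul_sylow, ← hP₁]
        change _ ∈ ((P₁.mapSurjective hsurj : Sylow 3 (G ⧸ A)) : Subgroup (G ⧸ A))
        rw [Sylow.coe_mapSurjective]
        have := Subgroup.mem_map_of_mem (QuotientGroup.mk' A) hy'
        simpa only [map_mul, map_inv] using this
      rw [hPq, ← hP₁] at h1
      change _ ∈ ((P₁.mapSurjective hsurj : Sylow 3 (G ⧸ A)) : Subgroup (G ⧸ A)) at h1
      rw [Sylow.coe_mapSurjective] at h1
      have h2 : y ∈ ((P₁ : Subgroup G).map (QuotientGroup.mk' A)).comap (QuotientGroup.mk' A) := h1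
      rw [Subgroup.comap_map_eq, QuotientGroup.ker_mk'] at h2
      exact h2
    have hKP : K ≤ (P₁ : Subgroup G) ⊔ Q := le_sylow_sup Q K hK3 P₁
    have hP₁K : (P₁ : Subgroup G) ≤ K := by
      intro x hx
      obtain ⟨m, hm⟩ := P₁.2 ⟨x, hx⟩
      have hm' : x ^ (3 ^ m) = 1 := by
        have := congrArg Subtype.val hm
        simpa using this
      exact mem_of_pow3 K h5 hm'
    rcases hdich with hcen | hfaith
    · exact ⟨P₁, step_central A K hA2 hcen P₁ hP₁K hsub⟩
    · obtain ⟨a₀, ha₀, hconj⟩ := exists_conj_in_sup A P₁ hsub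
      have hc3' : ∃ k ∈ K, d * k * d⁻¹ * k⁻¹ ∉ Q := by
        by_contra hno
        apply hKQ
        apply hc3
        intro k hk
        by_contra hk'
        exact hno ⟨k, hk, hk'⟩
      exact step_faithful A Q K hAQ hQ hA2 hAQc hfaith P₁ hKP hdd ha₀ hconj hdag hc3'

/-- **Invariant Sylow 3-subgroup.** -/
theorem exists_invariant_sylow {G : Type u} [Group G] [Finite G] (Q K : Subgroup G) (d : G)
    (hQn : Q.Normal) (hKn : K.Normal) (hQ : IsPGroup 2 Q) (hQK : Q ≤ K)
    (hK3 : ∀ k ∈ K, ∃ m : ℕ, k ^ (3 ^ m) ∈ Q) (hdd : d * d = 1) (h5 : ∀ g, g ∈ K ∨ d * g ∈ K)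
    (hdag : ∀ g, d * (g * d * g⁻¹) ∈ Q ∨ (d * (g * d * g⁻¹)) ^ 3 = 1)
    (hc3 : (∀ k ∈ K, d * k * d⁻¹ * k⁻¹ ∈ Q) → K ≤ Q) :
    ∃ P : Sylow 3 G, d • P = P ∧ K ≤ (P : Subgroup G) ⊔ Q := by
  obtain ⟨P, hP⟩ := main_aux (Nat.card G) G Q K d le_rfl hQn hKn hQ hQK hK3 hdd h5 hdag hc3
  exact ⟨P, hP, le_sylow_sup Q K hK3 P⟩

end Cfsg.Agent.Lib.Helper8_InvSylow
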