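import Cfsg.Agent.Lib.Helper26_IcoTrans

/-!
# Elements of `2·J₂` are left-linear isometries (helper8)

Every element of the reflection group `twoJ2` is the restriction of an additive, left-`ℍ`-linear,
form-preserving map of `ℍ³`.  Consequences: an element fixing the frame `(2e₀, 2e₁, 2e₂)` is trivial,
and conjugation of reflections is computed by the image vector.
-/

set_option autoImplicit false
set_option linter.constructorNameAsVariable false

namespace Cfsg.Agent.Lib.Helper8_J2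

open Quaternion Cfsg.Spor Cfsg.Agent.Lib.Helper26_Ico

/-- `F` extends the permutation `f` of the lattice to a left-linear isometry of `ℍ³`. -/
structure IsExt (f : Equiv.Perm icoLeech) (F : (Fin 3 → ℍ[ℝ]) → (Fin 3 → ℍ[ℝ])) : Prop where
  agree : ∀ x : icoLeech, ((f x : icoLeech) : Fin 3 → ℍ[ℝ]) = F x
  add : ∀ x y, F (x + y) = F x + F y
  smul : ∀ a x, F (lsmul a x) = lsmul a (F x)
  isom : ∀ x y, qip (F x) (F y) = qip x y

theorem lsmul_add (a : ℍ[ℝ]) (x y : Fin 3 → ℍ[ℝ]) : lsmul a (x + y) = lsmul a x + lsmul a y := by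
  funext t; simp [mul_add]

theorem lsmul_sub (a : ℍ[ℝ]) (x y : Fin 3 → ℍ[ℝ]) : lsmul a (x - y) = lsmul a x - lsmul a y := by
  funext t; simp [mul_sub]

theorem lsmul_zero' (x : Fin 3 → ℍ[ℝ]) : lsmul 0 x = 0 := by
  funext t; simp

theorem lsmul_neg_one (x : Fin 3 → ℍ[ℝ]) : lsmul (-1) x = -x := by
  funext t; simp

theorem qrefl_add (m x y : Fin 3 → ℍ[ℝ]) : qrefl m (x + y) = qrefl m x + qrefl m y := by
  have h := qrefl_sub m (x + y) y
  rw [add_sub_cancel_right] at h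
  rw [h]; abel

theorem isExt_one : IsExt 1 id :=
  ⟨fun _ => rfl, fun _ _ => rfl, fun _ _ => rfl, fun _ _ => rfl⟩

theorem isExt_refl (r : Fin 3 → ℍ[ℝ]) (hr : r ∈ icoLeech) (h4 : qip r r = 4) :
    IsExt (reflPerm r hr h4) (qrefl r) :=
  ⟨fun _ => rfl, qrefl_add r, fun a x => qrefl_lsmul_arg r a x, qip_qrefl h4⟩

theorem isExt_mul {f g : Equiv.Perm icoLeech} {F G : (Fin 3 → ℍ[ℝ]) → (Fin 3 → ℍ[ℝ])}
    (hf : IsExt f F) (hg : IsExt g G) : IsExt (f * g) (F ∘ G) := by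
  refine ⟨fun x => ?_, fun x y => ?_, fun a x => ?_, fun x y => ?_⟩
  · rw [Equiv.Perm.mul_apply, hf.agree, hg.agree]; rfl
  · simp only [Function.comp_apply, hg.add, hf.add]
  · simp only [Function.comp_apply, hg.smul, hf.smul]
  · simp only [Function.comp_apply, hf.isom, hg.isom]

/-- Every element of `2·J₂` has a linear isometric extension. -/
theorem exists_ext {g : Equiv.Perm icoLeech} (hg : g ∈ twoJ2) : ∃ F, IsExt g F := by
  unfold twoJ2 at hg
  induction hg using Subgroup.closure_induction'' with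
  | mem x hx =>
    obtain ⟨r, hr, h4, rfl⟩ := (isIcoReflection_iff x).1 hx
    exact ⟨_, isExt_refl r hr h4⟩
  | inv_mem x hx =>
    obtain ⟨r, hr, h4, rfl⟩ := (isIcoReflection_iff x).1 hx
    rw [reflPerm_inv]
    exact ⟨_, isExt_refl r hr h4⟩
  | one => exact ⟨_, isExt_one⟩
  | mul x y _ _ hx hy =>
    obtain ⟨F, hF⟩ := hx
    obtain ⟨G, hG⟩ := hy
    exact ⟨_, isExt_mul hF hG⟩

theorem IsExt.neg {f : Equiv.Perm icoLeech} {F : (Fin 3 → ℍ[ℝ]) → (Fin 3 → ℍ[ℝ])}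
    (h : IsExt f F) (x : Fin 3 → ℍ[ℝ]) : F (-x) = -F x := by
  rw [← lsmul_neg_one, h.smul, lsmul_neg_one]

theorem IsExt.sub {f : Equiv.Perm icoLeech} {F : (Fin 3 → ℍ[ℝ]) → (Fin 3 → ℍ[ℝ])}
    (h : IsExt f F) (x y : Fin 3 → ℍ[ℝ]) : F (x - y) = F x - F y := by
  rw [sub_eq_add_neg, h.add, h.neg, sub_eq_add_neg]

theorem IsExt.mem {f : Equiv.Perm icoLeech} {F : (Fin 3 → ℍ[ℝ]) → (Fin 3 → ℍ[ℝ])}
    (h : IsExt f F) {x : Fin 3 → ℍ[ℝ]} (hx : x ∈ icoLeech) : F x ∈ icoLeech := by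
  have := h.agree ⟨x, hx⟩
  rw [← this]; exact (f ⟨x, hx⟩).2

theorem IsExt.qrefl {f : Equiv.Perm icoLeech} {F : (Fin 3 → ℍ[ℝ]) → (Fin 3 → ℍ[ℝ])}
    (h : IsExt f F) (r x : Fin 3 → ℍ[ℝ]) : F (qrefl r x) = qrefl (F r) (F x) := by
  rw [qrefl_eq, qrefl_eq, h.sub, h.smul, h.isom]

/-! ### The standard frame -/

/-- The vector `2 e_t`. -/
noncomputable def bv (t : Fin 3) : Fin 3 → ℍ[ℝ] := fun s => if s = t then 2 else 0

theorem qip_bv (y : Fin 3 → ℍ[ℝ]) (t : Fin 3) : qip y (bv t) = y t * 2 := by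
  rw [qip_def]
  fin_cases t <;> simp [bv]

theorem eq_of_qip_bv {x y : Fin 3 → ℍ[ℝ]} (h : ∀ t, qip x (bv t) = qip y (bv t)) : x = y := by
  funext t
  have := h t
  rw [qip_bv, qip_bv] at this
  exact mul_right_cancel₀ two_ne_zero' this

theorem lineAt_zero : lineAt 0 = twoZl ++ zeroL ++ zeroL := by decide +kernel
theorem lineAt_one : lineAt 1 = zeroL ++ twoZl ++ zeroL := by decide +kernel
theorem lineAt_two : lineAt 2 = zeroL ++ zeroL ++ twoZl := by decide +kernel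

theorem ofL3_B0 : ofL3 (twoZl ++ zeroL ++ zeroL) = ![twoZ, 0, 0] := by
  funext t k; fin_cases t <;> fin_cases k <;> rfl
theorem ofL3_B1 : ofL3 (zeroL ++ twoZl ++ zeroL) = ![0, twoZ, 0] := by
  funext t k; fin_cases t <;> fin_cases k <;> rfl
theorem ofL3_B2 : ofL3 (zeroL ++ zeroL ++ twoZl) = ![0, 0, twoZ] := by
  funext t k; fin_cases t <;> fin_cases k <;> rfl

theorem bv_eq (t : Fin 3) : bv t = toH3 (ofL3 (lineAt t.val)) := by
  funext s
  fin_cases t
  · show bv 0 s = toH3 (ofL3 (lineAt 0)) s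
    rw [lineAt_zero, ofL3_B0]
    fin_cases s <;> simp [bv, toH3, toH_twoZ, toH_zero]
  · show bv 1 s = toH3 (ofL3 (lineAt 1)) s
    rw [lineAt_one, ofL3_B1]
    fin_cases s <;> simp [bv, toH3, toH_twoZ, toH_zero]
  · show bv 2 s = toH3 (ofL3 (lineAt 2)) s
    rw [lineAt_two, ofL3_B2]
    fin_cases s <;> simp [bv, toH3, toH_twoZ, toH_zero]

theorem bv_mem (t : Fin 3) : bv t ∈ icoLeech := by
  rw [bv_eq]
  exact (line_mem (lineAt_mem (by have := t.2; omega))).1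

theorem qip_bv_self (t : Fin 3) : qip (bv t) (bv t) = 4 := by
  rw [bv_eq]
  exact (line_mem (lineAt_mem (by have := t.2; omega))).2

/-- The frame vectors as lattice elements. -/
noncomputable def β (t : Fin 3) : icoLeech := ⟨bv t, bv_mem t⟩

@[simp] theorem coe_β (t : Fin 3) : ((β t : icoLeech) : Fin 3 → ℍ[ℝ]) = bv t := rfl

/-- An element of `2·J₂` fixing the frame is trivial. -/
theorem eq_one_of_fix {g : Equiv.Perm icoLeech} (hg : g ∈ twoJ2) (h : ∀ t, g (β t) = β t) :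
    g = 1 := by
  obtain ⟨F, hF⟩ := exists_ext hg
  have hb : ∀ t, F (bv t) = bv t := by
    intro t
    have := hF.agree (β t)
    rw [h t] at this
    exact this.symm
  ext x : 2
  rw [hF.agree, Equiv.Perm.one_apply]
  apply eq_of_qip_bv
  intro t
  conv_lhs => rw [← hb t]
  rw [hF.isom]

/-- An element of `2·J₂` is determined by its values on the frame. -/
theorem eq_of_frame {g g' : Equiv.Perm icoLeech} (hg : g ∈ twoJ2) (hg' : g' ∈ twoJ2)
    (h : ∀ t, g (β t) = g' (β t)) : g = g' := by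
  have : g'⁻¹ * g = 1 := by
    apply eq_one_of_fix (mul_mem (inv_mem hg') hg)
    intro t
    rw [Equiv.Perm.mul_apply, h t]
    exact Equiv.symm_apply_apply g' _
  rw [inv_mul_eq_one] at this
  exact this.symm

/-- Conjugating a reflection by an element of `2·J₂`. -/
theorem conj_reflPerm {g : Equiv.Perm icoLeech} {F : (Fin 3 → ℍ[ℝ]) → (Fin 3 → ℍ[ℝ])}
    (hF : IsExt g F) (r : Fin 3 → ℍ[ℝ]) (hr : r ∈ icoLeech) (h4 : qip r r = 4) :
    g * reflPerm r hr h4 * g⁻¹ = reflPerm (F r) (hF.mem hr) (by rw [hF.isom, h4]) := by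
  ext x : 2
  rw [Equiv.Perm.mul_apply, Equiv.Perm.mul_apply, hF.agree, reflPerm_apply, reflPerm_apply,
    hF.qrefl, ← hF.agree]
  congr 2
  exact Equiv.apply_symm_apply g x

end Cfsg.Agent.Lib.Helper8_J2
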