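import Cfsg.Agent.Lib.Helper8_J2A

/-!
# Words in the line reflections and their evaluation in coordinates (helper8)
-/

set_option autoImplicit false
set_option linter.constructorNameAsVariable false

namespace Cfsg.Agent.Lib.Helper8_J2

open Quaternion Cfsg.Spor Cfsg.Agent.Lib.Helper26_Ico

/-- The product of the line reflections with the given indices. -/
noncomputable def wordPerm (wd : List ℕ) : Equiv.Perm icoLeech :=
  (wd.map fun k => lineRefl (lineAt k)).prod

/-- Evaluation of a word on coordinate lists. -/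
def wordL (wd : List ℕ) (X : List ℤ) : List ℤ := wd.foldr (fun k acc => refll (lineAt k) acc) X

/-- Evaluation of a word on coordinate functions. -/
def wordZ (wd : List ℕ) (x : Fin 3 → Fin 8 → ℤ) : Fin 3 → Fin 8 → ℤ :=
  wd.foldr (fun k acc => reflZ (ofL3 (lineAt k)) acc) x

theorem lineRefl_mem (L : List ℤ) : lineRefl L ∈ twoJ2 := by
  unfold lineRefl
  split_ifs with h
  · exact reflPerm_mem_twoJ2 _ _ _
  · exact one_mem _

theorem wordPerm_mem (wd : List ℕ) : wordPerm wd ∈ twoJ2 := by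
  unfold wordPerm
  apply Subgroup.list_prod_mem
  intro x hx
  obtain ⟨k, -, rfl⟩ := List.mem_map.1 hx
  exact lineRefl_mem _

theorem wordPerm_nil : wordPerm [] = 1 := rfl

theorem wordPerm_cons (k : ℕ) (wd : List ℕ) :
    wordPerm (k :: wd) = lineRefl (lineAt k) * wordPerm wd := by
  simp [wordPerm]

theorem wordPerm_append (wd wd' : List ℕ) :
    wordPerm (wd ++ wd') = wordPerm wd * wordPerm wd' := by
  simp [wordPerm]

theorem toL3_wordZ (wd : List ℕ) (hwd : ∀ k ∈ wd, k < 315) (x : Fin 3 → Fin 8 → ℤ) :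
    toL3 (wordZ wd x) = wordL wd (toL3 x) := by
  induction wd with
  | nil => rfl
  | cons k wd ih =>
    have hk : k < 315 := hwd k (List.mem_cons_self)
    have ih' := ih (fun j hj => hwd j (List.mem_cons_of_mem _ hj))
    show toL3 (reflZ (ofL3 (lineAt k)) (wordZ wd x)) = refll (lineAt k) (wordL wd (toL3 x))
    rw [← ih', ← refll_toL3, toL3_ofL3 (lineAt_mem hk)]

theorem wordZ_eq (wd : List ℕ) (hwd : ∀ k ∈ wd, k < 315) (x : Fin 3 → Fin 8 → ℤ) :
    wordZ wd x = ofL3 (wordL wd (toL3 x)) := by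
  rw [← toL3_wordZ wd hwd, ofL3_toL3]

/-- The lattice element with given coordinates. -/
noncomputable def mkL (w : Fin 3 → Fin 8 → ℤ) (h : inLam w) : icoLeech :=
  ⟨toH3 w, (toH3_mem_iff w).2 h⟩

@[simp] theorem coe_mkL (w : Fin 3 → Fin 8 → ℤ) (h : inLam w) :
    ((mkL w h : icoLeech) : Fin 3 → ℍ[ℝ]) = toH3 w := rfl

theorem wordPerm_apply (wd : List ℕ) (hwd : ∀ k ∈ wd, k < 315) (x : Fin 3 → Fin 8 → ℤ)
    (hx : inLam x) :
    inLam (wordZ wd x) ∧ ((wordPerm wd (mkL x hx) : icoLeech) : Fin 3 → ℍ[ℝ]) = toH3 (wordZ wd x) := by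
  induction wd with
  | nil => exact ⟨hx, rfl⟩
  | cons k wd ih =>
    have hk : k < 315 := hwd k (List.mem_cons_self)
    obtain ⟨h1, h2⟩ := ih (fun j hj => hwd j (List.mem_cons_of_mem _ hj))
    have mk := lineAt_mem hk
    have hlam : inLam (reflZ (ofL3 (lineAt k)) (wordZ wd x)) := by
      rw [← toH3_mem_iff, toH3_reflZ (line_inLam mk) h1]
      exact qrefl_mem (line_mem mk).1 ((toH3_mem_iff _).2 h1)
    refine ⟨hlam, ?_⟩
    rw [wordPerm_cons, Equiv.Perm.mul_apply, lineRefl_eq mk, reflPerm_apply, h2]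
    exact (toH3_reflZ (line_inLam mk) h1).symm

/-- The lattice element on a listed line. -/
noncomputable def lineVec (j : ℕ) (hj : j < 315) : icoLeech :=
  mkL (ofL3 (lineAt j)) (line_inLam (lineAt_mem hj))

theorem β_eq (t : Fin 3) : β t = lineVec t.val (by have := t.2; omega) := by
  apply Subtype.ext
  exact bv_eq t

theorem bv0_eq : bv 0 = toH3 (ofL3 (lineAt 0)) := bv_eq 0
theorem bv1_eq : bv 1 = toH3 (ofL3 (lineAt 1)) := bv_eq 1
theorem bv2_eq : bv 2 = toH3 (ofL3 (lineAt 2)) := bv_eq 2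

theorem β0_eq : β 0 = lineVec 0 (by norm_num) := β_eq 0
theorem β1_eq : β 1 = lineVec 1 (by norm_num) := β_eq 1
theorem β2_eq : β 2 = lineVec 2 (by norm_num) := β_eq 2

/-- Evaluating a word on a listed line, by a list computation. -/
theorem word_eval (wd : List ℕ) (hwd : ∀ k ∈ wd, k < 315) (j : ℕ) (hj : j < 315) (Y : List ℤ)
    (h : wordL wd (lineAt j) = Y) :
    ((wordPerm wd (lineVec j hj) : icoLeech) : Fin 3 → ℍ[ℝ]) = toH3 (ofL3 Y) := by
  have := (wordPerm_apply wd hwd (ofL3 (lineAt j)) (line_inLam (lineAt_mem hj))).2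
  rw [wordZ_eq wd hwd, toL3_ofL3 (lineAt_mem hj), h] at this
  exact this

end Cfsg.Agent.Lib.Helper8_J2
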