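import Cfsg.Agent.Lib.Helper8_J2C

/-!
# The stabiliser of `2e₀` in `2·J₂` (helper8)

Admissibility constraints (images of the lattice vectors `(h,h,0)`, `(h,0,h)`, `(h̄,h̄,h̄)`) cut the
possible images of `2e₁`, `2e₂` under the stabiliser of `2e₀` down to the 32 frames realised by words.
-/

set_option autoImplicit false
set_option linter.constructorNameAsVariable false

namespace Cfsg.Agent.Lib.Helper8_J2

open Quaternion Cfsg.Spor Cfsg.Agent.Lib.Helper26_Ico

/-! ### General list facts -/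

theorem toL3_ofL3' {L : List ℤ} (h24 : L.length = 24) : toL3 (ofL3 L) = L := by
  obtain ⟨e0, e1, e2⟩ := toL_ofL3 h24
  rw [toL3, e0, e1, e2, blk0, blk1, blk2]
  have : L.drop 16 = (L.drop 8).drop 8 := by rw [List.drop_drop]
  rw [this, List.append_assoc, List.take_append_drop, List.take_append_drop]

theorem toH3_inj {v w : Fin 3 → Fin 8 → ℤ} (h : toH3 v = toH3 w) : v = w := by
  funext t
  exact toH_inj (congrFun h t)

theorem toH3_add (v w : Fin 3 → Fin 8 → ℤ) : toH3 (v + w) = toH3 v + toH3 w := by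
  funext t
  simp only [toH3_apply, Pi.add_apply, toH_add]

/-! ### Admissibility -/

/-- `¼ (a · v)` is a lattice vector. -/
def admZ (a : Fin 8 → ℤ) (v : Fin 3 → Fin 8 → ℤ) : Prop :=
  (∀ t, div4 (mulZ a (v t))) ∧ inLam (fun t => quot4 (mulZ a (v t)))

def admL (a V : List ℤ) : Bool :=
  div4l (mulZl a (blk0 V)) && div4l (mulZl a (blk1 V)) && div4l (mulZl a (blk2 V)) &&
    inLaml (quot4l (mulZl a (blk0 V))) (quot4l (mulZl a (blk1 V))) (quot4l (mulZl a (blk2 V)))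

theorem admL_toL (a : Fin 8 → ℤ) (v : Fin 3 → Fin 8 → ℤ) :
    admL (toL a) (toL3 v) = true ↔ admZ a v := by
  simp only [admL, blk0_toL3, blk1_toL3, blk2_toL3, mulZl_toL, quot4l_toL, Bool.and_eq_true,
    div4l_toL, admZ, Fin.forall_fin_succ, and_assoc]
  rw [← inLaml_toL]
  simp

theorem lsmul_half_toH3 (a : Fin 8 → ℤ) (v : Fin 3 → Fin 8 → ℤ) (t : Fin 3) :
    lsmul ((1 / 2 : ℝ) • toH a) (toH3 v) t = (1 / 4 : ℝ) • toH (mulZ a (v t)) := by
  rw [lsmul_apply, toH3_apply, smul_mul_assoc, toH_mul, smul_smul]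
  norm_num

theorem adm_of_mem {a : Fin 8 → ℤ} {v : Fin 3 → Fin 8 → ℤ}
    (h : lsmul ((1 / 2 : ℝ) • toH a) (toH3 v) ∈ icoLeech) : admZ a v := by
  obtain ⟨z, hz, e⟩ := exists_coords h
  have key : ∀ t, div4 (mulZ a (v t)) ∧ z t = quot4 (mulZ a (v t)) := by
    intro t
    have et := congrFun e t
    rw [lsmul_half_toH3, toH3_apply] at et
    have hm : (1 / 4 : ℝ) • toH (mulZ a (v t)) ∈ icosians := by
      rw [et]; exact toH_mem_icosians (inLam_inIZ hz t)
    obtain ⟨d4, -⟩ := (quarter_mem_iff _).1 hm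
    refine ⟨d4, ?_⟩
    apply toH_inj
    rw [← et]
    conv_lhs => rw [eq_four_smul_quot4 d4]
    rw [toH_zsmul, ← Int.cast_smul_eq_zsmul ℝ, smul_smul]
    norm_num
  refine ⟨fun t => (key t).1, ?_⟩
  have : (fun t => quot4 (mulZ a (v t))) = z := by
    funext t; exact (key t).2.symm
  rw [this]; exact hz

/-! ### The test vectors -/

/-- Pointwise sum of two 24-lists. -/
def add24 (X Y : List ℤ) : List ℤ :=
  addl (blk0 X) (blk0 Y) ++ addl (blk1 X) (blk1 Y) ++ addl (blk2 X) (blk2 Y)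

theorem add24_toL3 (v w : Fin 3 → Fin 8 → ℤ) : add24 (toL3 v) (toL3 w) = toL3 (v + w) := rfl

theorem inv_two_smul_mul_two (x : ℍ[ℝ]) : (2⁻¹ : ℝ) • (x * 2) = x := by
  rw [two_comm, two_mul, ← two_smul ℝ x, smul_smul]
  norm_num

theorem half_smul_mul_two (x : ℍ[ℝ]) : (1 / 2 : ℝ) • x * 2 = x := by
  rw [smul_mul_assoc, one_div, inv_two_smul_mul_two]

theorem test1_mem : lsmul ((1 / 2 : ℝ) • toH hZ) (bv 0 + bv 1) ∈ icoLeech := by
  have : lsmul ((1 / 2 : ℝ) • toH hZ) (bv 0 + bv 1) = toH3 ![hZ, hZ, 0] := by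
    funext t
    fin_cases t <;> simp [bv, inv_two_smul_mul_two, toH_hZ, toH_zero]
  rw [this, toH3_mem_iff]
  decide

theorem test2_mem : lsmul ((1 / 2 : ℝ) • toH hZ) (bv 0 + bv 2) ∈ icoLeech := by
  have : lsmul ((1 / 2 : ℝ) • toH hZ) (bv 0 + bv 2) = toH3 ![hZ, 0, hZ] := by
    funext t
    fin_cases t <;> simp [bv, inv_two_smul_mul_two, toH_hZ, toH_zero]
  rw [this, toH3_mem_iff]
  decide

theorem test3_mem : lsmul ((1 / 2 : ℝ) • toH hbZ) (bv 0 + bv 1 + bv 2) ∈ icoLeech := by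
  have : lsmul ((1 / 2 : ℝ) • toH hbZ) (bv 0 + bv 1 + bv 2) = toH3 ![hbZ, hbZ, hbZ] := by
    funext t
    fin_cases t <;> simp [bv, inv_two_smul_mul_two, toH_hbZ]
  rw [this, toH3_mem_iff]
  decide

/-! ### Enumerations (kernel computations) -/

/-- The sixteen possible images of `2e₁`. -/
def C2L : List (List ℤ) := stabCert.map fun e => e.2.1

/-- `-2e₂`. -/
def negB2 : List ℤ := zeroL ++ zeroL ++ m8 (-4) 0 0 0 0 0 0 0

theorem stab1_enum : ∀ L ∈ LinesL, blk0 L = zeroL → ∀ l ∈ UZl,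
    admL hZl (add24 (lineAt 0) (lsmull l L)) = true → lsmull l L ∈ C2L := by
  decide +kernel

theorem stab2_enum : ∀ L ∈ LinesL, blk0 L = zeroL → blk1 L = zeroL → ∀ l ∈ UZl,
    admL hZl (add24 (lineAt 0) (lsmull l L)) = true →
    admL hbZl (add24 (add24 (lineAt 0) (lineAt 1)) (lsmull l L)) = true →
    lsmull l L = lineAt 2 ∨ lsmull l L = negB2 := by
  decide +kernel

theorem stabCert_ok : ∀ e ∈ stabCert, (e.1.all fun k => decide (k < 315)) = true ∧
    wordL e.1 (lineAt 0) = lineAt 0 ∧ wordL e.1 (lineAt 1) = e.2.1 ∧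
    wordL e.1 (lineAt 2) = e.2.2 := by
  decide +kernel

theorem C2L_nodup : C2L.Nodup := by decide +kernel

theorem C2L_len : ∀ L ∈ C2L, L.length = 24 := by decide +kernel

theorem C2L_length : C2L.length = 16 := by decide +kernel

/-! ### Images of the frame under the stabiliser of `2e₀` -/

theorem ofL3_negB2 : ofL3 negB2 = ![0, 0, -twoZ] := by
  funext t k; fin_cases t <;> fin_cases k <;> rfl

theorem inLam_of_line {w : Fin 3 → Fin 8 → ℤ} (hw : toL3 w ∈ LinesL) : inLam w := by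
  have := line_inLam hw
  rwa [ofL3_toL3] at this

theorem mul_two_eq_zero {x : ℍ[ℝ]} (h : x * 2 = 0) : x = 0 := by
  rcases mul_eq_zero.1 h with h | h
  · exact h
  · exact absurd h two_ne_zero'

/-- Coordinates of an image of a frame vector: a minimal vector with prescribed vanishing
coordinates. -/
theorem min_coords {c : Fin 3 → ℍ[ℝ]} (hc : c ∈ icoLeech) (hc4 : qip c c = 4) :
    ∃ (υ : Fin 8 → ℤ) (w : Fin 3 → Fin 8 → ℤ), inIZ υ ∧ toL υ ∈ UZl ∧ toL3 w ∈ LinesL ∧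
      c = toH3 (lsmulZ υ w) ∧ ∀ t, c t = 0 → w t = 0 := by
  obtain ⟨u, hu, nu, w, hw, e⟩ := classify hc hc4
  obtain ⟨υ, iυ, mυ, rfl⟩ := unit_coords hu nu
  refine ⟨υ, w, iυ, mυ, hw, ?_, ?_⟩
  · rw [e, toH3_lsmulZ iυ (inLam_inIZ (inLam_of_line hw))]
  · intro t ht
    rw [e, lsmul_apply, toH3_apply] at ht
    rcases mul_eq_zero.1 ht with h | h
    · exact absurd h (unit_ne_zero nu)
    · apply toH_inj
      rw [h, toH_zero]

theorem stab1_image {g : Equiv.Perm icoLeech} (hg : g ∈ twoJ2) (h0 : g (β 0) = β 0) :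
    ∃ e ∈ stabCert, ((g (β 1) : icoLeech) : Fin 3 → ℍ[ℝ]) = toH3 (ofL3 e.2.1) := by
  obtain ⟨F, hF⟩ := exists_ext hg
  have hb0 : F (bv 0) = bv 0 := by
    have := hF.agree (β 0)
    rw [h0] at this
    exact this.symm
  have hc : F (bv 1) ∈ icoLeech := hF.mem (bv_mem 1)
  have hc4 : qip (F (bv 1)) (F (bv 1)) = 4 := by rw [hF.isom, qip_bv_self]
  have horth : F (bv 1) 0 = 0 := by
    have : qip (F (bv 1)) (F (bv 0)) = qip (bv 1) (bv 0) := hF.isom _ _
    rw [hb0, qip_bv, qip_bv] at this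
    apply mul_two_eq_zero
    rw [this]; simp [bv]
  obtain ⟨υ, w, iυ, mυ, hw, ec, hz⟩ := min_coords hc hc4
  have hblk : blk0 (toL3 w) = zeroL := by rw [blk0_toL3, hz 0 horth]; rfl
  have hadm : admZ hZ (ofL3 (lineAt 0) + lsmulZ υ w) := by
    apply adm_of_mem
    rw [toH3_add, ← bv0_eq, ← ec]
    have := hF.mem test1_mem
    rwa [hF.smul, hF.add, hb0] at this
  have hadmL : admL hZl (add24 (lineAt 0) (lsmull (toL υ) (toL3 w))) = true := by
    rw [lsmull_toL3]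
    conv_lhs => rw [← toL3_ofL3 (lineAt_mem (by norm_num : 0 < 315))]
    rw [add24_toL3, ← toL_hZ, admL_toL]
    exact hadm
  have hmem := stab1_enum _ hw hblk _ mυ hadmL
  obtain ⟨e', he', he''⟩ := List.mem_map.1 hmem
  refine ⟨e', he', ?_⟩
  rw [hF.agree, coe_β, ec, he'', lsmull_toL3, ofL3_toL3]

theorem stab2_image {g : Equiv.Perm icoLeech} (hg : g ∈ twoJ2) (h0 : g (β 0) = β 0)
    (h1 : g (β 1) = β 1) :
    ((g (β 2) : icoLeech) : Fin 3 → ℍ[ℝ]) = bv 2 ∨ ((g (β 2) : icoLeech) : Fin 3 → ℍ[ℝ]) = -bv 2 := by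
  obtain ⟨F, hF⟩ := exists_ext hg
  have hb0 : F (bv 0) = bv 0 := by
    have := hF.agree (β 0)
    rw [h0] at this
    exact this.symm
  have hb1 : F (bv 1) = bv 1 := by
    have := hF.agree (β 1)
    rw [h1] at this
    exact this.symm
  have hc : F (bv 2) ∈ icoLeech := hF.mem (bv_mem 2)
  have hc4 : qip (F (bv 2)) (F (bv 2)) = 4 := by rw [hF.isom, qip_bv_self]
  have horth0 : F (bv 2) 0 = 0 := by
    have : qip (F (bv 2)) (F (bv 0)) = qip (bv 2) (bv 0) := hF.isom _ _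
    rw [hb0, qip_bv, qip_bv] at this
    apply mul_two_eq_zero
    rw [this]; simp [bv]
  have horth1 : F (bv 2) 1 = 0 := by
    have : qip (F (bv 2)) (F (bv 1)) = qip (bv 2) (bv 1) := hF.isom _ _
    rw [hb1, qip_bv, qip_bv] at this
    apply mul_two_eq_zero
    rw [this]; simp [bv]
  obtain ⟨υ, w, iυ, mυ, hw, ec, hz⟩ := min_coords hc hc4
  have hblk0 : blk0 (toL3 w) = zeroL := by rw [blk0_toL3, hz 0 horth0]; rfl
  have hblk1 : blk1 (toL3 w) = zeroL := by rw [blk1_toL3, hz 1 horth1]; rfl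
  have hadm : admZ hZ (ofL3 (lineAt 0) + lsmulZ υ w) := by
    apply adm_of_mem
    rw [toH3_add, ← bv0_eq, ← ec]
    have := hF.mem test2_mem
    rwa [hF.smul, hF.add, hb0] at this
  have hadm' : admZ hbZ (ofL3 (lineAt 0) + ofL3 (lineAt 1) + lsmulZ υ w) := by
    apply adm_of_mem
    rw [toH3_add, toH3_add, ← bv0_eq, ← bv1_eq, ← ec]
    have := hF.mem test3_mem
    rwa [hF.smul, hF.add, hF.add, hb0, hb1] at this
  have hadmL : admL hZl (add24 (lineAt 0) (lsmull (toL υ) (toL3 w))) = true := by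
    rw [lsmull_toL3]
    conv_lhs => rw [← toL3_ofL3 (lineAt_mem (by norm_num : 0 < 315))]
    rw [add24_toL3, ← toL_hZ, admL_toL]
    exact hadm
  have hadmL' : admL hbZl (add24 (add24 (lineAt 0) (lineAt 1)) (lsmull (toL υ) (toL3 w))) = true := by
    rw [lsmull_toL3]
    conv_lhs => rw [← toL3_ofL3 (lineAt_mem (by norm_num : 0 < 315)),
      ← toL3_ofL3 (lineAt_mem (by norm_num : 1 < 315))]
    rw [add24_toL3, add24_toL3, ← toL_hbZ, admL_toL]
    exact hadm'
  have hcases := stab2_enum _ hw hblk0 hblk1 _ mυ hadmL hadmL'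
  rw [hF.agree, coe_β, ec]
  rcases hcases with h | h
  · left
    rw [lsmull_toL3] at h
    rw [bv2_eq, ← h, ofL3_toL3]
  · right
    rw [lsmull_toL3] at h
    have : lsmulZ υ w = ofL3 negB2 := by rw [← h, ofL3_toL3]
    rw [this, bv2_eq, lineAt_two, ofL3_B2, ofL3_negB2]
    funext t
    fin_cases t <;> simp [toH3, toH_zero, toH_neg]

end Cfsg.Agent.Lib.Helper8_J2
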