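import Cfsg.Agent.Lib.Helper8_J2D

/-!
# The order of `2·J₂` (helper8)

Stabiliser chain along the frame `(2e₀, 2e₁, 2e₂)`: orbits of sizes 37800, 16, 2 and trivial final
stabiliser.
-/

set_option autoImplicit false
set_option linter.constructorNameAsVariable false

namespace Cfsg.Agent.Lib.Helper8_J2

open Quaternion Cfsg.Spor Cfsg.Agent.Lib.Helper26_Ico

theorem card_eq_stab_mul {H α : Type*} [Group H] [MulAction H α] (a : α) :
    Nat.card H = Nat.card (MulAction.stabilizer H a) * (MulAction.orbit H a).ncard := by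
  rw [← MulAction.index_stabilizer, Subgroup.card_mul_index]

/-! ### The stabilising words -/

theorem stabWord {e : List ℕ × List ℤ × List ℤ} (he : e ∈ stabCert) :
    wordPerm e.1 (β 0) = β 0 ∧
      ((wordPerm e.1 (β 1) : icoLeech) : Fin 3 → ℍ[ℝ]) = toH3 (ofL3 e.2.1) ∧
      ((wordPerm e.1 (β 2) : icoLeech) : Fin 3 → ℍ[ℝ]) = toH3 (ofL3 e.2.2) := by
  obtain ⟨h1, h2, h3, h4⟩ := stabCert_ok e he
  have hwd : ∀ k ∈ e.1, k < 315 := by
    intro k hk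
    have := List.all_eq_true.1 h1 k hk
    simpa using this
  refine ⟨?_, ?_, ?_⟩
  · apply Subtype.ext
    rw [β0_eq, word_eval e.1 hwd 0 (by norm_num) _ h2]
    rfl
  · rw [β1_eq, word_eval e.1 hwd 1 (by norm_num) _ h3]
  · rw [β2_eq, word_eval e.1 hwd 2 (by norm_num) _ h4]

theorem refl2_ok : wordL [2] (lineAt 0) = lineAt 0 ∧ wordL [2] (lineAt 1) = lineAt 1 ∧
    wordL [2] (lineAt 2) = negB2 := by
  decide +kernel

/-- `-2e₂` as a lattice element. -/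
noncomputable def nβ2 : icoLeech := ⟨-bv 2, icoLeech_neg (bv_mem 2)⟩

theorem toH3_negB2 : toH3 (ofL3 negB2) = -bv 2 := by
  rw [ofL3_negB2, bv2_eq, lineAt_two, ofL3_B2]
  funext t
  fin_cases t <;> simp [toH3, toH_zero, toH_neg]

theorem refl2_spec : wordPerm [2] (β 0) = β 0 ∧ wordPerm [2] (β 1) = β 1 ∧
    wordPerm [2] (β 2) = nβ2 := by
  obtain ⟨h0, h1, h2⟩ := refl2_ok
  have hwd : ∀ k ∈ [2], k < 315 := by simp
  refine ⟨?_, ?_, ?_⟩
  · apply Subtype.ext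
    rw [β0_eq, word_eval [2] hwd 0 (by norm_num) _ h0]
    rfl
  · apply Subtype.ext
    rw [β1_eq, word_eval [2] hwd 1 (by norm_num) _ h1]
    rfl
  · apply Subtype.ext
    rw [β2_eq, word_eval [2] hwd 2 (by norm_num) _ h2]
    exact toH3_negB2

theorem β2_ne_nβ2 : β 2 ≠ nβ2 := by
  intro h
  have := congrFun (congrArg Subtype.val h) 2
  simp only [coe_β, nβ2, bv, Pi.neg_apply, if_true] at this
  have h4 : (2 : ℍ[ℝ]) + 2 = 0 := by
    nth_rw 1 [this]; simp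
  have : (2 : ℍ[ℝ]) * 2 = 0 := by rw [mul_two]; exact h4
  exact two_ne_zero' (mul_two_eq_zero this)

/-! ### Level 1: the orbit of `2e₀` -/

theorem smul_eq_apply (g : ↥twoJ2) (x : icoLeech) : g • x = (g : Equiv.Perm icoLeech) x := rfl

theorem orbit_β0 : MulAction.orbit ↥twoJ2 (β 0) = Subtype.val ⁻¹' Smin := by
  ext x
  constructor
  · rintro ⟨g, rfl⟩
    obtain ⟨F, hF⟩ := exists_ext g.2
    refine ⟨(g • β 0).2, ?_⟩
    show qip ((g : Equiv.Perm icoLeech) (β 0) : Fin 3 → ℍ[ℝ]) ((g : Equiv.Perm icoLeech) (β 0)) = 4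
    rw [hF.agree, hF.isom, coe_β, qip_bv_self]
  · intro hx
    obtain ⟨g, hg, e⟩ := exists_map_β0 hx.1 hx.2
    exact ⟨⟨g, hg⟩, Subtype.ext e⟩

theorem orbit_β0_ncard : (MulAction.orbit ↥twoJ2 (β 0)).ncard = 37800 := by
  rw [orbit_β0, Set.ncard_preimage_of_injective_subset_range Subtype.val_injective, Smin_ncard]
  intro r hr
  exact ⟨⟨r, hr.1⟩, rfl⟩

/-! ### Level 2 -/

/-- The stabiliser of `2e₀`. -/
noncomputable abbrev S1 : Subgroup ↥twoJ2 := MulAction.stabilizer ↥twoJ2 (β 0)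

/-- The sixteen images of `2e₁`, as vectors. -/
def O1V : Set (Fin 3 → ℍ[ℝ]) := (fun L => toH3 (ofL3 L)) '' {L | L ∈ C2L}

theorem smul_eq_apply1 (s : ↥S1) (x : icoLeech) :
    s • x = ((s : ↥twoJ2) : Equiv.Perm icoLeech) x := rfl

theorem mem_S1 (g : ↥twoJ2) : g ∈ S1 ↔ (g : Equiv.Perm icoLeech) (β 0) = β 0 := Iff.rfl

theorem orbit_β1 : MulAction.orbit ↥S1 (β 1) = Subtype.val ⁻¹' O1V := by
  ext x
  constructor
  · rintro ⟨s, rfl⟩
    obtain ⟨e, he, h⟩ := stab1_image (s : ↥twoJ2).2 ((mem_S1 _).1 s.2)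
    exact ⟨e.2.1, List.mem_map.2 ⟨e, he, rfl⟩, h.symm⟩
  · rintro ⟨L, hL, h⟩
    obtain ⟨e, he, rfl⟩ := List.mem_map.1 hL
    obtain ⟨h0, h1, -⟩ := stabWord he
    refine ⟨⟨⟨wordPerm e.1, wordPerm_mem _⟩, (mem_S1 _).2 h0⟩, ?_⟩
    apply Subtype.ext
    rw [← h]
    exact h1

theorem O1V_ncard : O1V.ncard = 16 := by
  have hinj : Set.InjOn (fun L => toH3 (ofL3 L)) {L | L ∈ C2L} := by
    intro L hL L' hL' h
    have := toH3_inj h
    rw [← toL3_ofL3' (C2L_len L hL), ← toL3_ofL3' (C2L_len L' hL'), this]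
  rw [O1V, Set.InjOn.ncard_image hinj]
  have : {L | L ∈ C2L} = (C2L.toFinset : Set (List ℤ)) := by
    ext L; simp
  rw [this, Set.ncard_coe_finset, List.toFinset_card_of_nodup C2L_nodup, C2L_length]

theorem orbit_β1_ncard : (MulAction.orbit ↥S1 (β 1)).ncard = 16 := by
  rw [orbit_β1, Set.ncard_preimage_of_injective_subset_range Subtype.val_injective, O1V_ncard]
  rintro r ⟨L, hL, rfl⟩
  obtain ⟨e, he, rfl⟩ := List.mem_map.1 hL
  obtain ⟨-, h1, -⟩ := stabWord he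
  exact ⟨_, h1⟩

/-! ### Level 3 -/

/-- The stabiliser of `2e₀` and `2e₁`. -/
noncomputable abbrev S2 : Subgroup ↥S1 := MulAction.stabilizer ↥S1 (β 1)

theorem smul_eq_apply2 (s : ↥S2) (x : icoLeech) :
    s • x = (((s : ↥S1) : ↥twoJ2) : Equiv.Perm icoLeech) x := rfl

theorem mem_S2 (g : ↥S1) : g ∈ S2 ↔ ((g : ↥twoJ2) : Equiv.Perm icoLeech) (β 1) = β 1 := Iff.rfl

theorem orbit_β2 : MulAction.orbit ↥S2 (β 2) = {β 2, nβ2} := by
  ext x
  constructor
  · rintro ⟨s, rfl⟩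
    have h0 := (mem_S1 _).1 (s : ↥S1).2
    have h1 := (mem_S2 _).1 s.2
    rcases stab2_image ((s : ↥S1) : ↥twoJ2).2 h0 h1 with h | h
    · left; exact Subtype.ext h
    · right; exact Subtype.ext h
  · rintro (rfl | rfl)
    · exact ⟨1, one_smul _ _⟩
    · obtain ⟨h0, h1, h2⟩ := refl2_spec
      exact ⟨⟨⟨⟨wordPerm [2], wordPerm_mem _⟩, (mem_S1 _).2 h0⟩, (mem_S2 _).2 h1⟩, h2⟩

theorem orbit_β2_ncard : (MulAction.orbit ↥S2 (β 2)).ncard = 2 := by
  rw [orbit_β2, Set.ncard_pair β2_ne_nβ2]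

/-! ### Level 4 -/

theorem card_S3 : Nat.card (MulAction.stabilizer ↥S2 (β 2)) = 1 := by
  rw [Nat.card_eq_one_iff_unique]
  refine ⟨⟨fun a b => ?_⟩, ⟨1⟩⟩
  have key : ∀ u : ↥(MulAction.stabilizer ↥S2 (β 2)), u = 1 := by
    intro u
    have h0 := (mem_S1 _).1 ((u : ↥S2) : ↥S1).2
    have h1 := (mem_S2 _).1 (u : ↥S2).2
    have h2 : ((((u : ↥S2) : ↥S1) : ↥twoJ2) : Equiv.Perm icoLeech) (β 2) = β 2 := u.2
    have : ((((u : ↥S2) : ↥S1) : ↥twoJ2) : Equiv.Perm icoLeech) = 1 := by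
      apply eq_one_of_fix (((u : ↥S2) : ↥S1) : ↥twoJ2).2
      intro t
      fin_cases t
      · exact h0
      · exact h1
      · exact h2
    apply Subtype.ext; apply Subtype.ext; apply Subtype.ext; apply Subtype.ext
    exact this
  rw [key a, key b]

/-- The order of `2·J₂`. -/
theorem card_twoJ2 : Nat.card ↥twoJ2 = 1209600 := by
  rw [card_eq_stab_mul (β 0), orbit_β0_ncard, card_eq_stab_mul (H := ↥S1) (β 1), orbit_β1_ncard,
    card_eq_stab_mul (H := ↥S2) (β 2), orbit_β2_ncard, card_S3]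

end Cfsg.Agent.Lib.Helper8_J2
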