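import Cfsg.Agent.Lib.Helper8_J2D

/-!
# Frames of elements of `2·J₂` (helper8)

An element `g` of `2·J₂` is determined by the images `g (2e_t)` of the three frame vectors; a product
of two elements is computed from their frames by quaternion arithmetic in integer coordinates.
-/

set_option autoImplicit false
set_option linter.constructorNameAsVariable false

namespace Cfsg.Agent.Lib.Helper8_J2

open Quaternion Cfsg.Spor Cfsg.Agent.Lib.Helper26_Ico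

/-- `c` lists the coordinates of the images of the frame vectors under `g`. -/
def HasFrame (g : Equiv.Perm icoLeech) (c : Fin 3 → Fin 3 → Fin 8 → ℤ) : Prop :=
  ∀ t, ((g (β t) : icoLeech) : Fin 3 → ℍ[ℝ]) = toH3 (c t)

/-- The image of the vector with coordinates `ξ` under the element with frame `c`. -/
def applyZ (c : Fin 3 → Fin 3 → Fin 8 → ℤ) (ξ : Fin 3 → Fin 8 → ℤ) : Fin 3 → Fin 8 → ℤ :=
  fun s => quot4 (mulZ (ξ 0) (c 0 s) + mulZ (ξ 1) (c 1 s) + mulZ (ξ 2) (c 2 s))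

/-- The frame of a product. -/
def fmulZ (γ c : Fin 3 → Fin 3 → Fin 8 → ℤ) : Fin 3 → Fin 3 → Fin 8 → ℤ :=
  fun t => applyZ c (γ t)

theorem toH3_decomp (ξ : Fin 3 → Fin 8 → ℤ) :
    toH3 ξ = lsmul ((1 / 2 : ℝ) • toH (ξ 0)) (bv 0) + lsmul ((1 / 2 : ℝ) • toH (ξ 1)) (bv 1) +
      lsmul ((1 / 2 : ℝ) • toH (ξ 2)) (bv 2) := by
  funext s
  fin_cases s <;> simp [bv, inv_two_smul_mul_two, toH3_apply]

theorem apply_frame {g : Equiv.Perm icoLeech} (hg : g ∈ twoJ2) {c : Fin 3 → Fin 3 → Fin 8 → ℤ}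
    (hc : HasFrame g c) {ξ : Fin 3 → Fin 8 → ℤ} (hξ : inLam ξ) :
    ((g (mkL ξ hξ) : icoLeech) : Fin 3 → ℍ[ℝ]) = toH3 (applyZ c ξ) := by
  obtain ⟨F, hF⟩ := exists_ext hg
  have hb : ∀ t, F (bv t) = toH3 (c t) := by
    intro t
    rw [← hc t, hF.agree]; rfl
  have hmem : F (toH3 ξ) ∈ icoLeech := hF.mem ((toH3_mem_iff ξ).2 hξ)
  have hval : ∀ s, F (toH3 ξ) s =
      (1 / 4 : ℝ) • toH (mulZ (ξ 0) (c 0 s) + mulZ (ξ 1) (c 1 s) + mulZ (ξ 2) (c 2 s)) := by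
    intro s
    conv_lhs => rw [toH3_decomp ξ]
    rw [hF.add, hF.add, hF.smul, hF.smul, hF.smul, hb, hb, hb]
    simp only [Pi.add_apply, lsmul_half_toH3, toH_add, smul_add]
  obtain ⟨z, hz, e⟩ := exists_coords hmem
  rw [hF.agree, coe_mkL]
  funext s
  have es := congrFun e s
  rw [hval s, toH3_apply] at es
  have hm : (1 / 4 : ℝ) • toH (mulZ (ξ 0) (c 0 s) + mulZ (ξ 1) (c 1 s) + mulZ (ξ 2) (c 2 s)) ∈
      icosians := by
    rw [es]; exact toH_mem_icosians (inLam_inIZ hz s)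
  obtain ⟨d4, -⟩ := (quarter_mem_iff _).1 hm
  rw [hval s, toH3_apply]
  show _ = toH (quot4 _)
  conv_lhs => rw [eq_four_smul_quot4 d4]
  rw [toH_zsmul, ← Int.cast_smul_eq_zsmul ℝ, smul_smul]
  norm_num

theorem hasFrame_inLam {g : Equiv.Perm icoLeech} {c : Fin 3 → Fin 3 → Fin 8 → ℤ}
    (hc : HasFrame g c) (t : Fin 3) : inLam (c t) := by
  rw [← toH3_mem_iff, ← hc t]
  exact (g (β t)).2

theorem hasFrame_mul {g h : Equiv.Perm icoLeech} (hg : g ∈ twoJ2)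
    {c γ : Fin 3 → Fin 3 → Fin 8 → ℤ} (hc : HasFrame g c) (hγ : HasFrame h γ) :
    HasFrame (g * h) (fmulZ γ c) := by
  intro t
  have e : h (β t) = mkL (γ t) (hasFrame_inLam hγ t) := Subtype.ext (hγ t)
  rw [Equiv.Perm.mul_apply, e, apply_frame hg hc]
  rfl

theorem hasFrame_unique {g g' : Equiv.Perm icoLeech} (hg : g ∈ twoJ2) (hg' : g' ∈ twoJ2)
    {c : Fin 3 → Fin 3 → Fin 8 → ℤ} (hc : HasFrame g c) (hc' : HasFrame g' c) : g = g' :=
  eq_of_frame hg hg' (fun t => Subtype.ext ((hc t).trans (hc' t).symm))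

theorem frame_unique {g : Equiv.Perm icoLeech} {c c' : Fin 3 → Fin 3 → Fin 8 → ℤ}
    (hc : HasFrame g c) (hc' : HasFrame g c') : c = c' := by
  funext t
  exact toH3_inj ((hc t).symm.trans (hc' t))

/-! ### Lists -/

/-- A frame as a list of `72` integers. -/
def toL9 (c : Fin 3 → Fin 3 → Fin 8 → ℤ) : List ℤ := toL3 (c 0) ++ toL3 (c 1) ++ toL3 (c 2)

def fblk0 (L : List ℤ) : List ℤ := L.take 24
def fblk1 (L : List ℤ) : List ℤ := (L.drop 24).take 24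
def fblk2 (L : List ℤ) : List ℤ := L.drop 48

def ofL9 (L : List ℤ) : Fin 3 → Fin 3 → Fin 8 → ℤ := ![ofL3 (fblk0 L), ofL3 (fblk1 L), ofL3 (fblk2 L)]

theorem fblk0_toL9 (c : Fin 3 → Fin 3 → Fin 8 → ℤ) : fblk0 (toL9 c) = toL3 (c 0) := rfl
theorem fblk1_toL9 (c : Fin 3 → Fin 3 → Fin 8 → ℤ) : fblk1 (toL9 c) = toL3 (c 1) := rfl
theorem fblk2_toL9 (c : Fin 3 → Fin 3 → Fin 8 → ℤ) : fblk2 (toL9 c) = toL3 (c 2) := rfl

theorem ofL9_toL9 (c : Fin 3 → Fin 3 → Fin 8 → ℤ) : ofL9 (toL9 c) = c := by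
  funext t
  fin_cases t
  · exact ofL3_toL3 (c 0)
  · exact ofL3_toL3 (c 1)
  · exact ofL3_toL3 (c 2)

theorem toL9_inj {c c' : Fin 3 → Fin 3 → Fin 8 → ℤ} (h : toL9 c = toL9 c') : c = c' := by
  rw [← ofL9_toL9 c, h, ofL9_toL9]

/-- One coordinate block of an image. -/
def applyB (x0 x1 x2 c0 c1 c2 : List ℤ) : List ℤ :=
  quot4l (addl (addl (mulZl x0 c0) (mulZl x1 c1)) (mulZl x2 c2))

/-- The image of the vector `X` (24 integers) under the frame `C` (72 integers). -/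
def applyL (C X : List ℤ) : List ℤ :=
  applyB (blk0 X) (blk1 X) (blk2 X) (blk0 (fblk0 C)) (blk0 (fblk1 C)) (blk0 (fblk2 C)) ++
  applyB (blk0 X) (blk1 X) (blk2 X) (blk1 (fblk0 C)) (blk1 (fblk1 C)) (blk1 (fblk2 C)) ++
  applyB (blk0 X) (blk1 X) (blk2 X) (blk2 (fblk0 C)) (blk2 (fblk1 C)) (blk2 (fblk2 C))

theorem applyL_toL (c : Fin 3 → Fin 3 → Fin 8 → ℤ) (ξ : Fin 3 → Fin 8 → ℤ) :
    applyL (toL9 c) (toL3 ξ) = toL3 (applyZ c ξ) := rfl

/-- The frame of a product, on lists. -/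
def fmulL (Γ C : List ℤ) : List ℤ :=
  applyL C (fblk0 Γ) ++ applyL C (fblk1 Γ) ++ applyL C (fblk2 Γ)

theorem fmulL_toL (γ c : Fin 3 → Fin 3 → Fin 8 → ℤ) :
    fmulL (toL9 γ) (toL9 c) = toL9 (fmulZ γ c) := rfl

/-! ### Frames of words -/

theorem ofL9_zero (C : List ℤ) : ofL9 C 0 = ofL3 (fblk0 C) := rfl
theorem ofL9_one (C : List ℤ) : ofL9 C 1 = ofL3 (fblk1 C) := rfl
theorem ofL9_two (C : List ℤ) : ofL9 C 2 = ofL3 (fblk2 C) := rfl

/-- The frame of a word in the line reflections, by a list computation. -/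
theorem hasFrame_word (wd : List ℕ) (hwd : ∀ k ∈ wd, k < 315) (C : List ℤ)
    (h0 : wordL wd (lineAt 0) = fblk0 C) (h1 : wordL wd (lineAt 1) = fblk1 C)
    (h2 : wordL wd (lineAt 2) = fblk2 C) : HasFrame (wordPerm wd) (ofL9 C) := by
  intro t
  fin_cases t
  · show ((wordPerm wd (β 0) : icoLeech) : Fin 3 → ℍ[ℝ]) = toH3 (ofL9 C 0)
    rw [β0_eq, ofL9_zero]
    exact word_eval wd hwd 0 (by norm_num) _ h0
  · show ((wordPerm wd (β 1) : icoLeech) : Fin 3 → ℍ[ℝ]) = toH3 (ofL9 C 1)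
    rw [β1_eq, ofL9_one]
    exact word_eval wd hwd 1 (by norm_num) _ h1
  · show ((wordPerm wd (β 2) : icoLeech) : Fin 3 → ℍ[ℝ]) = toH3 (ofL9 C 2)
    rw [β2_eq, ofL9_two]
    exact word_eval wd hwd 2 (by norm_num) _ h2

/-- The frame of the identity. -/
theorem hasFrame_one : HasFrame 1 (ofL9 (lineAt 0 ++ lineAt 1 ++ lineAt 2)) := by
  have := hasFrame_word [] (by simp) (lineAt 0 ++ lineAt 1 ++ lineAt 2)
    (by decide +kernel) (by decide +kernel) (by decide +kernel)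
  rwa [wordPerm_nil] at this

/-! ### Multiplication by `diag(1, -1, -1)` -/

theorem mulZ_zero_left (v : Fin 8 → ℤ) : mulZ 0 v = 0 := by
  funext k
  fin_cases k <;> simp [mulZ, ztm, ztn]

theorem mulZ_twoZ (v : Fin 8 → ℤ) : mulZ twoZ v = (4 : ℤ) • v := by
  funext k
  fin_cases k <;> simp [mulZ, ztm, ztn, twoZ]

theorem mulZ_neg_twoZ (v : Fin 8 → ℤ) : mulZ (-twoZ) v = (4 : ℤ) • (-v) := by
  funext k
  fin_cases k <;> simp [mulZ, ztm, ztn, twoZ]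

/-- The frame of `diag(1, -1, -1)`. -/
def gAZ : Fin 3 → Fin 3 → Fin 8 → ℤ := ![![twoZ, 0, 0], ![0, -twoZ, 0], ![0, 0, -twoZ]]

/-- Negating the second and third frame vectors. -/
def negAZ (c : Fin 3 → Fin 3 → Fin 8 → ℤ) : Fin 3 → Fin 3 → Fin 8 → ℤ := ![c 0, -c 1, -c 2]

theorem fmulZ_gAZ (c : Fin 3 → Fin 3 → Fin 8 → ℤ) : fmulZ gAZ c = negAZ c := by
  funext t s
  fin_cases t
  · show quot4 (mulZ twoZ (c 0 s) + mulZ 0 (c 1 s) + mulZ 0 (c 2 s)) = c 0 s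
    rw [mulZ_twoZ, mulZ_zero_left, mulZ_zero_left, add_zero, add_zero, (div4_four_smul _).2]
  · show quot4 (mulZ 0 (c 0 s) + mulZ (-twoZ) (c 1 s) + mulZ 0 (c 2 s)) = -c 1 s
    rw [mulZ_neg_twoZ, mulZ_zero_left, mulZ_zero_left, add_zero, zero_add, (div4_four_smul _).2]
  · show quot4 (mulZ 0 (c 0 s) + mulZ 0 (c 1 s) + mulZ (-twoZ) (c 2 s)) = -c 2 s
    rw [mulZ_neg_twoZ, mulZ_zero_left, mulZ_zero_left, zero_add, zero_add, (div4_four_smul _).2]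

/-- Negating the second and third frame vectors, on lists. -/
def negAL (L : List ℤ) : List ℤ := fblk0 L ++ (fblk1 L).map Int.neg ++ (fblk2 L).map Int.neg

theorem negAL_toL (c : Fin 3 → Fin 3 → Fin 8 → ℤ) : negAL (toL9 c) = toL9 (negAZ c) := rfl

end Cfsg.Agent.Lib.Helper8_J2
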