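import Mathlib
import Cfsg.Prelude.Def_KGroupFacts
import Cfsg.Agent.Lib.Helper8_StemTwo

/-!
# Stem extensions of groups with a Sylow 2-subgroup `⟨t⟩ × V₄`

Tools for the proof that a simple group of Janko–Ree type has no proper perfect central extension
by a 2-group.

* `commute_lift_commutator`, `commute_lift_of_perfect`: a lift of an element `t` commutes with all
  lifts of the elements of a perfect subgroup centralised by `t`;
* `exists_generator_of_card_four`: a group of order four is generated by any non-trivial element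
  together with a second element;
* `ker_eq_bot_of_fused_involution`: the kernel of a stem extension with kernel of exponent two is
  trivial if a Sylow 2-subgroup is `⟨t⟩ Q` with `Q` of order four inside a perfect subgroup
  centralised by `t`, and `t` is moved by the normaliser of the Sylow 2-subgroup.
-/

set_option autoImplicit false
open Cfsg
open Cfsg.Agent.Lib.Lead_StemLocal Cfsg.Agent.Lib.Helper66_StemTools Cfsg.Agent.Lib.Helper66_Stem
open Cfsg.Agent.Lib.Helper8_StemTwo
open scoped commutatorElement

namespace Cfsg.Agent.Lib.Helper8_JankoRee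

section lifts

variable {Γ G : Type*} [Group Γ] [Group G]

/-- a lift of `u` commutes with the commutator of two elements whose images commute with the image
of `u` -/
theorem commute_lift_commutator (σ : Γ →* G) (hker : σ.ker ≤ Subgroup.center Γ) (u a b : Γ)
    (ha : σ u * σ a = σ a * σ u) (hb : σ u * σ b = σ b * σ u) : u * ⁅a, b⁆ = ⁅a, b⁆ * u := by
  have hka : a⁻¹ * (u * a * u⁻¹) ∈ Subgroup.center Γ := hker (by
    rw [MonoidHom.mem_ker, map_mul, map_inv, map_mul, map_mul, map_inv, ha]; group)
  have hkb : b⁻¹ * (u * b * u⁻¹) ∈ Subgroup.center Γ := hker (by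
    rw [MonoidHom.mem_ker, map_mul, map_inv, map_mul, map_mul, map_inv, hb]; group)
  have ea : u * a * u⁻¹ = a * (a⁻¹ * (u * a * u⁻¹)) := by group
  have eb : u * b * u⁻¹ = b * (b⁻¹ * (u * b * u⁻¹)) := by group
  have e : u * ⁅a, b⁆ * u⁻¹ = ⁅u * a * u⁻¹, u * b * u⁻¹⁆ := by
    simp only [commutatorElement_def]; group
  have e2 : u * ⁅a, b⁆ * u⁻¹ = ⁅a, b⁆ := by
    rw [e, ea, eb, commutatorElement_mul_central_left _ _ _ hka,
      commutatorElement_mul_central_right _ _ _ hkb]
  calc u * ⁅a, b⁆ = u * ⁅a, b⁆ * u⁻¹ * u := by group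
    _ = ⁅a, b⁆ * u := by rw [e2]

/-- a lift of `t` commutes with all lifts of the elements of a perfect subgroup centralised by
`t` -/
theorem commute_lift_of_perfect (σ : Γ →* G) (hsurj : Function.Surjective σ)
    (hker : σ.ker ≤ Subgroup.center Γ) (N : Subgroup G) (hperf : N ≤ ⁅N, N⁆) (u : Γ)
    (hu : ∀ y ∈ N, σ u * y = y * σ u) (y : Γ) (hy : σ y ∈ N) : u * y = y * u := by
  -- the subgroup of elements having a lift commuting with `u`
  have hle : ⁅N, N⁆ ≤ (Subgroup.centralizer ({u} : Set Γ)).map σ := by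
    rw [Subgroup.commutator_le]
    intro a ha b hb
    obtain ⟨a', rfl⟩ := hsurj a
    obtain ⟨b', rfl⟩ := hsurj b
    refine ⟨⁅a', b'⁆, ?_, map_commutatorElement σ a' b'⟩
    rw [SetLike.mem_coe, Subgroup.mem_centralizer_iff]
    intro h hh
    rw [Set.mem_singleton_iff] at hh
    rw [hh]
    exact commute_lift_commutator σ hker u a' b' (hu _ ha) (hu _ hb)
  obtain ⟨y0, hy0, hy0y⟩ := hle (hperf hy)
  rw [SetLike.mem_coe, Subgroup.mem_centralizer_iff] at hy0
  have h0 : u * y0 = y0 * u := hy0 u rfl
  have hk : y0⁻¹ * y ∈ Subgroup.center Γ := hker (by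
    rw [MonoidHom.mem_ker, map_mul, map_inv, hy0y, inv_mul_cancel])
  have hk' := Subgroup.mem_center_iff.mp hk
  have ey : y = y0 * (y0⁻¹ * y) := by group
  rw [ey]
  calc u * (y0 * (y0⁻¹ * y)) = (u * y0) * (y0⁻¹ * y) := by group
    _ = (y0 * u) * (y0⁻¹ * y) := by rw [h0]
    _ = y0 * (u * (y0⁻¹ * y)) := by group
    _ = y0 * ((y0⁻¹ * y) * u) := by rw [hk' u]
    _ = y0 * (y0⁻¹ * y) * u := by group

end lifts

section four

variable {G : Type*} [Group G]

/-- a group of order four is generated by any non-trivial element together with a second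
element -/
theorem exists_generator_of_card_four (Q : Subgroup G) (hQ : Nat.card ↥Q = 4) (v : G)
    (hv : v ∈ Q) (hv1 : v ≠ 1) : ∃ w ∈ Q, Q ≤ Subgroup.closure ({v, w} : Set G) := by
  have hfin : Finite ↥Q := Nat.finite_of_card_ne_zero (by rw [hQ]; norm_num)
  by_cases h : ∀ w ∈ Q, w ∈ Subgroup.zpowers v
  · refine ⟨1, Q.one_mem, ?_⟩
    intro w hw
    have := h w hw
    rw [Subgroup.zpowers_eq_closure] at this
    exact Subgroup.closure_mono (by intro x hx; left; exact hx) this
  · rw [not_forall] at h
    obtain ⟨w, hw'⟩ := h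
    rw [Classical.not_imp] at hw'
    obtain ⟨hw, hwv⟩ := hw'
    refine ⟨w, hw, ?_⟩
    have hle : Subgroup.closure ({v, w} : Set G) ≤ Q := by
      rw [Subgroup.closure_le]
      rintro x (rfl | hx)
      · exact hv
      · rw [Set.mem_singleton_iff] at hx; rw [hx]; exact hw
    have hfin2 : Finite ↥(Subgroup.closure ({v, w} : Set G)) :=
      Finite.of_injective (Subgroup.inclusion hle) (Subgroup.inclusion_injective hle)
    have hdvd : Nat.card ↥(Subgroup.closure ({v, w} : Set G)) ∣ 4 := by
      rw [← hQ]; exact Subgroup.card_dvd_of_le hle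
    -- the subgroup has at least three elements
    have h3 : 3 ≤ Nat.card ↥(Subgroup.closure ({v, w} : Set G)) := by
      have hvm : v ∈ Subgroup.closure ({v, w} : Set G) := Subgroup.subset_closure (by simp)
      have hwm : w ∈ Subgroup.closure ({v, w} : Set G) := Subgroup.subset_closure (by simp)
      have hw1 : w ≠ 1 := by
        intro h; apply hwv; rw [h]; exact Subgroup.one_mem _
      have hwv' : w ≠ v := by
        intro h; apply hwv; rw [h]; exact Subgroup.mem_zpowers v
      let f : Fin 3 → ↥(Subgroup.closure ({v, w} : Set G)) :=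
        ![1, ⟨v, hvm⟩, ⟨w, hwm⟩]
      have hf : Function.Injective f := by
        intro i j hij
        fin_cases i <;> fin_cases j <;> simp [f, Subtype.ext_iff] at hij ⊢
        · exact absurd hij.symm hv1
        · exact absurd hij.symm hw1
        · exact absurd hij hv1
        · exact absurd hij.symm hwv'
        · exact absurd hij hw1
        · exact absurd hij hwv'
      have := Nat.card_le_card_of_injective f hf
      rwa [Nat.card_fin] at this
    have h4 : Nat.card ↥(Subgroup.closure ({v, w} : Set G)) = 4 := by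
      have hle4 := Nat.le_of_dvd (by norm_num) hdvd
      interval_cases hc : Nat.card ↥(Subgroup.closure ({v, w} : Set G))
      · norm_num at hdvd
      · rfl
    have heq : Subgroup.closure ({v, w} : Set G) = Q :=
      Subgroup.eq_of_le_of_card_ge hle (by rw [h4, hQ])
    rw [heq]

end four

section main

variable {Γ G : Type*} [Group Γ] [Group G]

/-- **The kernel of a stem extension is trivial.**  Let `σ` be a stem extension of the finite group
`G` with kernel of exponent two.  Suppose a Sylow 2-subgroup `P` of `G` is equal to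
`Q ∪ t Q` for an involution `t` and a subgroup `Q` of order four, where `Q` lies in a perfect
subgroup `N` centralised by `t`, and suppose that some element of the normaliser of `P` does not
centralise `t`.  Then the kernel is trivial. -/
theorem ker_eq_bot_of_fused_involution [Finite G] (σ : Γ →* G) (hσ : IsStemExtension σ)
    (hexp : ∀ a ∈ σ.ker, a * a = 1)
    (P : Sylow 2 G) (t : G) (ht : t ∈ (P : Subgroup G)) (htt : t * t = 1)
    (N : Subgroup G) (hperf : N ≤ ⁅N, N⁆) (htN : ∀ y ∈ N, t * y = y * t)
    (Q : Subgroup G) (hQN : Q ≤ N) (hQP : Q ≤ (P : Subgroup G)) (hQ4 : Nat.card ↥Q = 4)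
    (hPQ : ∀ x ∈ (P : Subgroup G), x ∈ Q ∨ t * x ∈ Q) (htQ : t ∉ Q)
    (n : G) (hn : n ∈ Subgroup.normalizer ((P : Subgroup G) : Set G))
    (hnt : n * t * n⁻¹ ≠ t) : σ.ker = ⊥ := by
  have : Fact (Nat.Prime 2) := ⟨Nat.prime_two⟩
  have hsurj := hσ.1
  have hker := hσ.2.1
  obtain ⟨t', ht'⟩ := hsurj t
  obtain ⟨n', hn'⟩ := hsurj n
  -- the lift of `t` commutes with the lifts of `N`, hence of `P`
  have h1 : ∀ y : Γ, σ y ∈ N → t' * y = y * t' :=
    commute_lift_of_perfect σ hsurj hker N hperf t' (by rw [ht']; exact htN)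
  have h2 : ∀ y : Γ, σ y ∈ (P : Subgroup G) → t' * y = y * t' := by
    intro y hy
    rcases hPQ _ hy with h | h
    · exact h1 y (hQN h)
    · have h3 := h1 (t' * y) (by rw [map_mul, ht']; exact hQN h)
      have h4 : t' * (t' * y) = t' * (y * t') := by rw [h3]; group
      exact mul_left_cancel h4
  -- the conjugate of the lift
  have ht1 : t ≠ 1 := by
    intro h; apply htQ; rw [h]; exact Q.one_mem
  have hs : n * t * n⁻¹ ∈ (P : Subgroup G) := (Subgroup.mem_normalizer_iff.mp hn t).mp ht
  have hs' : σ (n' * t' * n'⁻¹) = n * t * n⁻¹ := by rw [map_mul, map_mul, map_inv, hn', ht']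
  have h3 : ∀ y : Γ, σ y ∈ (P : Subgroup G) → (n' * t' * n'⁻¹) * y = y * (n' * t' * n'⁻¹) := by
    intro y hy
    have hy' : σ (n'⁻¹ * y * n') ∈ (P : Subgroup G) := by
      rw [map_mul, map_mul, map_inv, hn']
      have := (Subgroup.mem_normalizer_iff.mp hn (n⁻¹ * σ y * n)).mpr (by
        have e : n * (n⁻¹ * σ y * n) * n⁻¹ = σ y := by group
        rw [e]; exact hy)
      exact this
    have h4 := h2 _ hy'
    calc n' * t' * n'⁻¹ * y = n' * (t' * (n'⁻¹ * y * n')) * n'⁻¹ := by group
      _ = n' * ((n'⁻¹ * y * n') * t') * n'⁻¹ := by rw [h4]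
      _ = y * (n' * t' * n'⁻¹) := by group
  -- a lift of a non-trivial element of `Q` commuting with the lifts of `P`
  obtain ⟨v', hvQ, hv1, hv⟩ : ∃ v' : Γ, σ v' ∈ Q ∧ σ v' ≠ 1 ∧
      ∀ y : Γ, σ y ∈ (P : Subgroup G) → v' * y = y * v' := by
    rcases hPQ _ hs with h | h
    · refine ⟨n' * t' * n'⁻¹, by rw [hs']; exact h, ?_, h3⟩
      rw [hs']
      intro h5
      apply ht1
      have : n * t * n⁻¹ = n * 1 * n⁻¹ := by rw [h5]; group
      exact mul_left_cancel (mul_right_cancel this)
    · refine ⟨t' * (n' * t' * n'⁻¹), by rw [map_mul, ht', hs']; exact h, ?_, ?_⟩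
      · rw [map_mul, ht', hs']
        intro h5
        apply hnt
        calc n * t * n⁻¹ = (t * t) * (n * t * n⁻¹) := by rw [htt, one_mul]
          _ = t * (t * (n * t * n⁻¹)) := by group
          _ = t := by rw [h5, mul_one]
      · intro y hy
        calc t' * (n' * t' * n'⁻¹) * y = t' * ((n' * t' * n'⁻¹) * y) := by group
          _ = t' * (y * (n' * t' * n'⁻¹)) := by rw [h3 y hy]
          _ = (t' * y) * (n' * t' * n'⁻¹) := by group
          _ = (y * t') * (n' * t' * n'⁻¹) := by rw [h2 y hy]
          _ = y * (t' * (n' * t' * n'⁻¹)) := by group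
  obtain ⟨w, hwQ, hQle⟩ := exists_generator_of_card_four Q hQ4 (σ v') hvQ hv1
  obtain ⟨w', hw'⟩ := hsurj w
  -- the three lifts commute
  have hT : ∀ u ∈ ({t', v', w'} : Set Γ), ∀ x ∈ ({t', v', w'} : Set Γ), u * x = x * u := by
    have htv : t' * v' = v' * t' := h2 v' (hQP hvQ)
    have htw : t' * w' = w' * t' := h2 w' (by rw [hw']; exact hQP hwQ)
    have hvw : v' * w' = w' * v' := hv w' (by rw [hw']; exact hQP hwQ)
    intro u hu x hx
    rcases hu with rfl | rfl | hu <;> rcases hx with rfl | rfl | hx
    · rfl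
    · exact htv
    · rw [Set.mem_singleton_iff] at hx; rw [hx]; exact htw
    · exact htv.symm
    · rfl
    · rw [Set.mem_singleton_iff] at hx; rw [hx]; exact hvw
    · rw [Set.mem_singleton_iff] at hu; rw [hu]; exact htw.symm
    · rw [Set.mem_singleton_iff] at hu; rw [hu]; exact hvw.symm
    · rw [Set.mem_singleton_iff] at hu hx; rw [hu, hx]
  have himg : σ '' ({t', v', w'} : Set Γ) = {t, σ v', w} := by
    rw [Set.image_insert_eq, Set.image_insert_eq, Set.image_singleton, ht', hw']
  have hcl : Subgroup.closure ({t, σ v', w} : Set G) = (P : Subgroup G) := by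
    apply le_antisymm
    · rw [Subgroup.closure_le]
      rintro x (rfl | rfl | hx)
      · exact ht
      · exact hQP hvQ
      · rw [Set.mem_singleton_iff] at hx; rw [hx]; exact hQP hwQ
    · intro x hx
      have hsub : Subgroup.closure ({σ v', w} : Set G) ≤
          Subgroup.closure ({t, σ v', w} : Set G) :=
        Subgroup.closure_mono (by intro z hz; right; exact hz)
      have htm : t ∈ Subgroup.closure ({t, σ v', w} : Set G) :=
        Subgroup.subset_closure (by left; rfl)
      rcases hPQ x hx with h | h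
      · exact hsub (hQle h)
      · have e : x = t * (t * x) := by rw [← mul_assoc, htt, one_mul]
        rw [e]
        exact Subgroup.mul_mem _ htm (hsub (hQle h))
  rw [eq_bot_iff]
  intro a ha
  rw [Subgroup.mem_bot]
  have hfin : (Subgroup.closure (σ '' ({t', v', w'} : Set Γ))).index ≠ 0 :=
    Subgroup.index_ne_zero_of_finite
  have hpow := pow_index_eq_one_of_commute σ hσ {t', v', w'} hT hfin a ha
  rw [himg, hcl] at hpow
  have hodd : ¬ 2 ∣ (P : Subgroup G).index := P.not_dvd_index
  have haa := hexp a ha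
  obtain ⟨m, hm⟩ : ∃ m, (P : Subgroup G).index = 2 * m + 1 := by
    refine ⟨(P : Subgroup G).index / 2, ?_⟩
    omega
  rw [hm, pow_succ, pow_mul, pow_two, haa, one_pow, one_mul] at hpow
  exact hpow

end main

end Cfsg.Agent.Lib.Helper8_JankoRee
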