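import Mathlib
import Cfsg.Prelude.Def_LocalStructure
import Cfsg.Agent.Lib.Helper48_LLDefs
import Cfsg.Agent.Lib.Helper47_PLocal
import Cfsg.Agent.Lib.Helper1_Cores

/-!
# S2834 (L-Lemma) market (helper48), package F3 (helper8): from the hypotheses of S2834 to `TMin` and a
moved point (Frattini argument for the normal core of `M`).
-/

set_option autoImplicit false
set_option linter.unusedSectionVars false

open Cfsg.Agent.Lib.Helper48_LLDefs

namespace Cfsg.Agent.Lib.Helper8_LL_F3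

universe u

variable {p : ℕ} [Fact p.Prime] {H : Type u} [Group H] [Finite H]

theorem cj_top {H : Type*} [Group H] (x : H) : cj x (⊤ : Subgroup H) = ⊤ := by
  ext y
  rw [mem_cj]
  simp

theorem cj_eq_top_iff {H : Type*} [Group H] {x : H} {X : Subgroup H} : cj x X = ⊤ ↔ X = ⊤ := by
  constructor
  · intro h
    have := congrArg (cj x⁻¹) h
    rwa [cj_cj, inv_mul_cancel, cj_one, cj_top] at this
  · intro h
    rw [h, cj_top]

/-- the conjugated form of the third clause of `TMin` -/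
theorem le_cj_of_le {M : Subgroup H} {T : Subgroup H}
    (hT : ∀ X : Subgroup H, T ≤ X → X ≠ ⊤ → X ≤ M) (x : H) {X : Subgroup H}
    (hTX : cj x T ≤ X) (hX : X ≠ ⊤) : X ≤ cj x M := by
  have h1 : T ≤ cj x⁻¹ X := cj_le_iff.mp hTX
  have h2 : cj x⁻¹ X ≠ ⊤ := fun h => hX (cj_eq_top_iff.mp h)
  have h3 := hT _ h1 h2
  have h4 := cj_le_iff.mp h3
  rwa [inv_inv] at h4

/-! ### F3 (size M/L).  From the hypotheses of S2834 to `TMin` and a moved point. -/
theorem f3 (T : Sylow p H) (hmin : Cfsg.IsMinimalOver (T : Subgroup H)) (M : Subgroup H)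
    (hM : IsCoatom M ∧ (T : Subgroup H) ≤ M) (A : Subgroup H) (hAT : A ≤ (T : Subgroup H))
    (hA : ¬ A ≤ Cfsg.pCore p H) :
    TMin p M ∧ IsPGroup p ↥(A ⊔ Cfsg.pCore p H) ∧ ∃ g : H, ¬ A ⊔ Cfsg.pCore p H ≤ cj g M := by
  have hMtop : M ≠ ⊤ := hM.1.1
  have hTM : ∀ X : Subgroup H, (T : Subgroup H) ≤ X → X ≠ ⊤ → X ≤ M := fun X hTX hX =>
    Cfsg.Agent.Lib.Helper47_PLocal.le_coatom_of_isMinimalOver hmin hM.1 hM.2 hTX hX
  refine ⟨⟨hMtop, T, hM.2, hTM, hmin.1⟩, ?_, ?_⟩
  · exact T.isPGroup'.to_le (sup_le hAT (Cfsg.Agent.Lib.Helper1_Cores.pCore_le_sylow p T))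
  · by_contra hcon
    push Not at hcon
    apply hA
    -- the normal core of `M`
    have hAK : A ≤ M.normalCore := by
      intro a ha b
      have h1 : a ∈ cj b⁻¹ M := hcon b⁻¹ ((le_sup_left : A ≤ A ⊔ Cfsg.pCore p H) ha)
      rw [mem_cj, inv_inv] at h1
      exact h1
    have hKle : ∀ x : H, M.normalCore ≤ cj x M := by
      intro x a ha
      rw [mem_cj]
      have := ha x⁻¹
      rwa [inv_inv] at this
    have hAp : IsPGroup p ↥A := T.isPGroup'.to_le hAT
    have hA'p : IsPGroup p ↥(A.subgroupOf M.normalCore) :=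
      hAp.comap_subtype
    obtain ⟨P, hP⟩ := hA'p.exists_le_sylow
    set PH : Subgroup H := (P : Subgroup ↥M.normalCore).map M.normalCore.subtype with hPH
    have hAPH : A ≤ PH := by
      intro a ha
      exact ⟨⟨a, hAK ha⟩, hP (Subgroup.mem_subgroupOf.mpr ha), rfl⟩
    have hPHK : PH ≤ M.normalCore := Subgroup.map_subtype_le _
    have hfrat : Subgroup.normalizer (PH : Set H) ⊔ M.normalCore = ⊤ :=
      Sylow.normalizer_sup_eq_top P
    have hPHp : IsPGroup p ↥PH := P.isPGroup'.map _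
    obtain ⟨T', hT'⟩ := hPHp.exists_le_sylow
    obtain ⟨x, hx⟩ := MulAction.exists_smul_eq H T T'
    have hT'eq : (T' : Subgroup H) = cj x (T : Subgroup H) := by
      rw [← hx, Sylow.coe_subgroup_smul]
      rfl
    -- `T' ⊓ K = PH`
    have hinf : (T' : Subgroup H) ⊓ M.normalCore ≤ PH := by
      have hQp : IsPGroup p ↥(((T' : Subgroup H) ⊓ M.normalCore).subgroupOf M.normalCore) :=
        (T'.isPGroup'.to_le inf_le_left).comap_subtype
      have hPQ : (P : Subgroup ↥M.normalCore) ≤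
          ((T' : Subgroup H) ⊓ M.normalCore).subgroupOf M.normalCore := by
        intro y hy
        rw [Subgroup.mem_subgroupOf]
        exact ⟨hT' ⟨y, hy, rfl⟩, y.2⟩
      have hQ := P.is_maximal' hQp hPQ
      intro y hy
      have hyK : y ∈ M.normalCore := (Subgroup.mem_inf.mp hy).2
      have hmem : (⟨y, hyK⟩ : ↥M.normalCore) ∈
          ((T' : Subgroup H) ⊓ M.normalCore).subgroupOf M.normalCore :=
        Subgroup.mem_subgroupOf.mpr hy
      rw [hQ] at hmem
      exact ⟨⟨y, hyK⟩, hmem, rfl⟩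
    have hT'N : (T' : Subgroup H) ≤ Subgroup.normalizer (PH : Set H) := by
      rw [Subgroup.le_normalizer_iff]
      intro t ht y hy
      apply hinf
      exact ⟨(T' : Subgroup H).mul_mem ((T' : Subgroup H).mul_mem ht (hT' hy))
        ((T' : Subgroup H).inv_mem ht), M.normalCore_normal.conj_mem y (hPHK hy) t⟩
    by_cases hN : Subgroup.normalizer (PH : Set H) = ⊤
    · have hnormal : PH.Normal := Subgroup.normalizer_eq_top_iff.mp hN
      exact hAPH.trans (Cfsg.Agent.Lib.Helper1_Cores.le_pCore hnormal hPHp)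
    · exfalso
      have h1 : Subgroup.normalizer (PH : Set H) ≤ cj x M :=
        le_cj_of_le hTM x (by rw [← hT'eq]; exact hT'N) hN
      have h2 : (⊤ : Subgroup H) ≤ cj x M := by
        rw [← hfrat]
        exact sup_le h1 (hKle x)
      exact hMtop (cj_eq_top_iff.mp (top_le_iff.mp h2))

end Cfsg.Agent.Lib.Helper8_LL_F3
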