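import Mathlib
import Cfsg.Agent.Lib.Helper44_MI3Defs
import Cfsg.Agent.Lib.Helper75_MI3MDefs

/-!
MI3M-ONEFREE (helper75's market, the `q = 3` slice of S2147): two free points of `U_v` lie in one `U_v`-orbit
when `|Ω| < 2 |U_v|`.  helper8, adaptation of helper64's `Helper64_MI3_REGB.transitive_of_all_reg3`.
-/

set_option autoImplicit false

namespace Cfsg.Agent.Lib.Helper8_MI3M_ONEFREE

open Module Cfsg.Agent.Lib.Helper14_OmegaSimple Cfsg.Agent.Lib.Helper22_MI2Defs
  Cfsg.Agent.Lib.Helper44_MI3Defs Cfsg.Agent.Lib.Helper75_MI3MDefs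

variable {F V : Type*} [Field F] [AddCommGroup V] [Module F V]

/-- The complement of a hyperbolic plane has `|F|^(n-2)` elements. -/
theorem card_perp2 [Finite F] [FiniteDimensional F V] (Q : QuadraticForm F V)
    {v v' : V} (hv : Q v = 0) (hv' : Q v' = 0)
    (hvv' : QuadraticMap.polar (⇑Q) v v' = 1) :
    Nat.card (perp2 Q v v') = Nat.card F ^ (finrank F V - 2) := by
  have h1 := Cfsg.Agent.Lib.Helper44_QuadClass.finrank_perp hv hv' hvv'
  have h2 : finrank F (perp2 Q v v') = finrank F V - 2 := by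
    have : finrank F (perp2 Q v v') = finrank F (Cfsg.Agent.Lib.Helper44_QuadClass.perp Q v v') := rfl
    omega
  rw [Module.natCard_eq_pow_finrank (K := F), h2]

section action

variable {X : Type*} [MulAction (V ≃ₗ[F] V) X]

/-- The package statement **MI3M-ONEFREE**. -/
theorem one_free_orbit [Finite F] [FiniteDimensional F V] (Q : QuadraticForm F V)
    (hQ : (QuadraticMap.polarBilin Q).Nondegenerate) (hdim : 5 ≤ finrank F V)
    (Ω : Set X) (hΩ : IsOrbit Q Ω)
    (hn : Ω.ncard < 2 * Nat.card F ^ (finrank F V - 2))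
    {v v' : V} (hv : Q v = 0) (hv' : Q v' = 0) (hvv' : QuadraticMap.polar (⇑Q) v v' = 1) :
    ∀ ω ∈ Ω, ∀ ω' ∈ Ω, FreeAt Q v ω → FreeAt Q v ω' → ∃ w ∈ perp2 Q v v', E Q v w • ω = ω' := by
  intro ω hω ω' hω' hfree hfree'
  by_contra hcon
  have hVfin : Finite V := Module.finite_of_finite F
  have hmemW : ∀ w : V, w ∈ perp2 Q v v' ↔
      QuadraticMap.polar (⇑Q) v w = 0 ∧ QuadraticMap.polar (⇑Q) v' w = 0 :=
    fun w => Cfsg.Agent.Lib.Helper44_QuadClass.mem_perp Q v v'
  -- key: E v w • a = E v w' • b  ⇒  b = E v (-w' + w) • a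
  have hkey : ∀ (a b : X) (w w' : V), QuadraticMap.polar (⇑Q) v w = 0 →
      QuadraticMap.polar (⇑Q) v w' = 0 → E Q v w • a = E Q v w' • b →
      E Q v (-w' + w) • a = b := by
    intro a b w w' hw hw' hab
    have hnw' : QuadraticMap.polar (⇑Q) v (-w') = 0 := by
      rw [QuadraticMap.polar_neg_right, hw', neg_zero]
    rw [← E_mul Q hv hnw' hw, ← E_inv Q hv hw', mul_smul, hab, inv_smul_smul]
  -- injectivity of w ↦ E v w • a on W, for a free
  have hinj : ∀ a : X, FreeAt Q v a →
      Function.Injective (fun w : perp2 Q v v' => E Q v (w : V) • a) := by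
    intro a ha w w' hww'
    have hw := ((hmemW _).1 w.2)
    have hw' := ((hmemW _).1 w'.2)
    have h1 := hkey a a w w' hw.1 hw'.1 hww'
    have hpol : QuadraticMap.polar (⇑Q) v (-(w' : V) + w) = 0 := by
      rw [QuadraticMap.polar_add_right, QuadraticMap.polar_neg_right, hw.1, hw'.1]; simp
    have h2 := ha _ hpol h1
    obtain ⟨c, hc⟩ := Submodule.mem_span_singleton.mp h2
    have h3 : QuadraticMap.polar (⇑Q) v' (-(w' : V) + w) = 0 := by
      rw [QuadraticMap.polar_add_right, QuadraticMap.polar_neg_right, hw.2, hw'.2]; simp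
    rw [← hc, QuadraticMap.polar_smul_right, QuadraticMap.polar_comm, hvv', smul_eq_mul,
      mul_one] at h3
    rw [h3, zero_smul] at hc
    apply Subtype.ext
    have : (w : V) = w' := by
      have := congrArg (fun t => (w' : V) + t) hc.symm
      simpa using this
    exact this
  -- the two images
  have hsub : Set.range (fun w : perp2 Q v v' => E Q v (w : V) • ω) ∪
      Set.range (fun w : perp2 Q v v' => E Q v (w : V) • ω') ⊆ Ω := by
    rintro x (⟨w, rfl⟩ | ⟨w, rfl⟩)
    · exact hΩ.inv _ (E_mem_T Q hQ hdim hv ((hmemW _).1 w.2).1) _ hω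
    · exact hΩ.inv _ (E_mem_T Q hQ hdim hv ((hmemW _).1 w.2).1) _ hω'
  have hdisj : Disjoint (Set.range (fun w : perp2 Q v v' => E Q v (w : V) • ω))
      (Set.range (fun w : perp2 Q v v' => E Q v (w : V) • ω')) := by
    rw [Set.disjoint_left]
    rintro x ⟨w, rfl⟩ ⟨w', hw'x⟩
    apply hcon
    have hw := ((hmemW _).1 w.2)
    have hw' := ((hmemW _).1 w'.2)
    refine ⟨-(w' : V) + w, (perp2 Q v v').add_mem ((perp2 Q v v').neg_mem w'.2) w.2, ?_⟩
    exact hkey ω ω' w w' hw.1 hw'.1 hw'x.symm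
  have hcard : ∀ a : X, FreeAt Q v a →
      (Set.range (fun w : perp2 Q v v' => E Q v (w : V) • a)).ncard =
      Nat.card F ^ (finrank F V - 2) := by
    intro a ha
    rw [← Set.image_univ, Set.ncard_image_of_injective _ (hinj a ha), Set.ncard_univ,
      card_perp2 Q hv hv' hvv']
  have hfin1 : (Set.range (fun w : perp2 Q v v' => E Q v (w : V) • ω)).Finite :=
    Set.finite_range _
  have hfin2 : (Set.range (fun w : perp2 Q v v' => E Q v (w : V) • ω')).Finite :=
    Set.finite_range _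
  have h1 := Set.ncard_le_ncard hsub hΩ.fin
  rw [Set.ncard_union_eq hdisj hfin1 hfin2, hcard ω hfree, hcard ω' hfree'] at h1
  omega

end action

end Cfsg.Agent.Lib.Helper8_MI3M_ONEFREE
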