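import Mathlib
import Cfsg.Agent.Lib.Helper72_MinIdxDefs
import Cfsg.Agent.Lib.Helper72_MI_R1BCore
import Cfsg.Agent.Lib.Helper47_MI_FACT
import Cfsg.Agent.Lib.Helper84_MI_R1BSPAN
import Cfsg.Agent.Lib.Helper8_MI_R1B_5core

set_option autoImplicit false

/-!
# MI-R1B-5 (helper8, for helper72's S2140 plan): in configuration R1, `n ≤ 4`.
Verbatim statement; the proof is `Helper8_MI_R1B_5core.R1_le_four_of` fed with MI-FACT (helper47) and
MI-R1B-SPAN (helper84).
-/

namespace Cfsg.Agent.Lib.Helper8_MI_R1B_5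

open Module Cfsg.Agent.Lib.Helper72_MinIdxDefs Cfsg.Agent.Lib.Helper72_MI_R1BCore

variable {F : Type*} [Field F] {V : Type*} [AddCommGroup V] [Module F V]

theorem R1_le_four [Fintype F] [Module.Finite F V] (hn : 3 ≤ finrank F V)
    (H : Subgroup (SpecialLinearGroup F V))
    (hidx : H.index = Fintype.card F ^ (finrank F V - 1))
    (hno : ∀ (φ : Dual F V) (w : V) (h : φ w = 0), tv φ w h ∈ H → tv φ w h = 1) :
    finrank F V ≤ 4 := by
  exact Cfsg.Agent.Lib.Helper8_MI_R1B_5core.R1_le_four_of hn H hno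
    (fun φ hφ g => Cfsg.Agent.Lib.Helper47_MI_FACT.exists_axis_mul_mem H hidx hno φ hφ g)
    (fun φ hφ v v' hv hv' hind α' hα' hα'v w' hw' hmem =>
      Cfsg.Agent.Lib.Helper84_MI_R1BSPAN.flag_span H hidx hno φ hφ v v' hv hv' hind α' hα' hα'v
        w' hw' hmem)

end Cfsg.Agent.Lib.Helper8_MI_R1B_5
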