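import Mathlib
import Cfsg.Agent.Lib.Helper17_Sylow

/-!
# S1022 package `N19-CENT` (helper8)

`G` simple of order `459648 = 2^7·3^3·7·19`, `P ∈ Syl_19(G)`, `|N_G(P)| = 456`, `|C_G(P)| = 76`:
there is an involution `y ∈ C_G(P)` with `|C_G(y)| ≤ 456`.
-/

set_option autoImplicit false

namespace Cfsg.Agent.Lib.Helper8_N19_CENT

open Cfsg.Agent.Lib.Helper17_Sylow

/-- in a group of even order the number of involutions is odd -/
theorem odd_card_involutions {H : Type*} [Group H] [Finite H] (h : Even (Nat.card H)) :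
    Odd (Nat.card {y : H // orderOf y = 2}) := by
  classical
  have : Fintype H := Fintype.ofFinite H
  have : Fact (Nat.Prime 2) := ⟨Nat.prime_two⟩
  let f : Function.End H := fun g => g⁻¹
  have hf : f ^ 2 ^ 1 = 1 := by
    rw [pow_one, pow_two]
    funext g
    show (g⁻¹)⁻¹ = g
    exact inv_inv g
  have hmod := Equiv.Perm.card_fixedPoints_modEq (p := 2) (n := 1) hf
  -- the fixed points are the identity and the involutions
  have hcard : Fintype.card (Function.fixedPoints f) =
      Nat.card {y : H // orderOf y = 2} + 1 := by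
    rw [Nat.card_eq_fintype_card, Fintype.card_subtype, Fintype.card_subtype]
    have hset : (Finset.univ.filter (fun g : H => g ∈ Function.fixedPoints f)) =
        insert (1 : H) (Finset.univ.filter (fun g : H => orderOf g = 2)) := by
      ext g
      simp only [Finset.mem_filter, Finset.mem_univ, true_and, Finset.mem_insert]
      show g⁻¹ = g ↔ g = 1 ∨ orderOf g = 2
      constructor
      · intro hg
        by_cases h1 : g = 1
        · exact Or.inl h1
        · right
          apply orderOf_eq_prime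
          · rw [pow_two]
            calc g * g = g⁻¹ * g := by rw [hg]
              _ = 1 := inv_mul_cancel g
          · exact h1
      · rintro (rfl | hg)
        · exact inv_one
        · have h2 : g * g = 1 := by rw [← pow_two, ← hg]; exact pow_orderOf_eq_one g
          exact inv_eq_of_mul_eq_one_right h2
    rw [hset, Finset.card_insert_of_notMem]
    simp only [Finset.mem_filter, Finset.mem_univ, true_and, orderOf_one]
    norm_num
  rw [hcard, ← Nat.card_eq_fintype_card] at hmod
  have h2 : Nat.card H % 2 = 0 := Nat.even_iff.1 h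
  rw [Nat.odd_iff]
  unfold Nat.ModEq at hmod
  omega

theorem divisors_aux : ∀ j < 160, (19 * j + 1) ∣ 3024 → j = 0 ∨ j = 53 := by decide

theorem divisors_3024 : ∀ n : ℕ, n ∣ 3024 → n % 19 = 1 → n = 1 ∨ n = 1008 := by
  intro n hn h19
  have hle : n ≤ 3024 := Nat.le_of_dvd (by norm_num) hn
  have hn' : n = 19 * (n / 19) + 1 := by omega
  have hj : n / 19 < 160 := by omega
  rw [hn'] at hn
  rcases divisors_aux (n / 19) hj hn with h | h
  · left
    omega
  · right
    omega


theorem exists_invol_small_cent {G : Type*} [Group G] [Finite G] [IsSimpleGroup G]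
    [Fact (Nat.Prime 19)] (hG : Nat.card G = 459648) (P : Sylow 19 G) (hP : Nat.card P = 19)
    (hN : Nat.card (Subgroup.normalizer ((P : Subgroup G) : Set G)) = 456)
    (hC : Nat.card (Subgroup.centralizer ((P : Subgroup G) : Set G)) = 76) :
    ∃ y : G, y ∈ Subgroup.centralizer ((P : Subgroup G) : Set G) ∧ orderOf y = 2 ∧
      Nat.card (Subgroup.centralizer ({y} : Set G)) ≤ 456 := by
  classical
  have : Fact (Nat.Prime 2) := ⟨Nat.prime_two⟩
  set N := Subgroup.normalizer ((P : Subgroup G) : Set G) with hNdef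
  set C := Subgroup.centralizer ((P : Subgroup G) : Set G) with hCdef
  -- `N` normalizes `C`
  have hNC : ∀ n ∈ N, ∀ c ∈ C, n * c * n⁻¹ ∈ C := by
    intro n hn c hc
    rw [hCdef, Subgroup.mem_centralizer_iff]
    intro h hh
    have hn' : n⁻¹ ∈ N := N.inv_mem hn
    have h1 : n⁻¹ * h * n⁻¹⁻¹ ∈ (P : Subgroup G) := (Subgroup.mem_normalizer_iff.1 hn' h).1 hh
    rw [inv_inv] at h1
    have h2 := (Subgroup.mem_centralizer_iff.1 hc) _ h1
    calc h * (n * c * n⁻¹) = n * ((n⁻¹ * h * n) * c) * n⁻¹ := by group
      _ = n * (c * (n⁻¹ * h * n)) * n⁻¹ := by rw [h2]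
      _ = n * c * n⁻¹ * h := by group
  -- a Sylow `2`-subgroup of `N`
  obtain ⟨T', hT'⟩ := Sylow.exists_subgroup_card_pow_prime 2 (n := 3)
    (show 2 ^ 3 ∣ Nat.card ↥N by rw [hN]; norm_num)
  set T : Subgroup G := T'.map N.subtype with hTdef
  have hTN : T ≤ N := by
    rintro _ ⟨t, -, rfl⟩
    exact t.2
  have hTcard : Nat.card ↥T = 8 := by
    rw [hTdef, Subgroup.card_map_of_injective N.subtype_injective, hT']
    norm_num
  have hTp : IsPGroup 2 ↥T := IsPGroup.of_card (n := 3) (by rw [hTcard]; norm_num)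
  -- the action on the involutions of `C`
  let act : MulAction ↥T {y : ↥C // orderOf y = 2} :=
    { smul := fun t y => ⟨⟨(t : G) * (y : ↥C) * (t : G)⁻¹, hNC t (hTN t.2) _ (y : ↥C).2⟩, by
        have h1 : orderOf (y : ↥C) = 2 := y.2
        rw [← Subgroup.orderOf_coe] at h1 ⊢
        show orderOf ((t : G) * ((y : ↥C) : G) * (t : G)⁻¹) = 2
        rw [orderOf_conj' , h1]⟩
      one_smul := by
        intro y
        apply Subtype.ext
        apply Subtype.ext
        show ((1 : ↥T) : G) * ((y : ↥C) : G) * ((1 : ↥T) : G)⁻¹ = ((y : ↥C) : G)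
        rw [Subgroup.coe_one, one_mul, inv_one, mul_one]
      mul_smul := by
        intro t t' y
        apply Subtype.ext
        apply Subtype.ext
        show ((t * t' : ↥T) : G) * ((y : ↥C) : G) * ((t * t' : ↥T) : G)⁻¹ =
          (t : G) * ((t' : G) * ((y : ↥C) : G) * (t' : G)⁻¹) * (t : G)⁻¹
        rw [Subgroup.coe_mul]
        group }
  have hJodd : Odd (Nat.card {y : ↥C // orderOf y = 2}) :=
    odd_card_involutions (by rw [hC]; decide)
  have hmod := hTp.card_modEq_card_fixedPoints {y : ↥C // orderOf y = 2}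
  obtain ⟨y, hy⟩ : (MulAction.fixedPoints ↥T {y : ↥C // orderOf y = 2}).Nonempty := by
    by_contra hempty
    rw [Set.not_nonempty_iff_eq_empty] at hempty
    have h0 : Nat.card (MulAction.fixedPoints ↥T {y : ↥C // orderOf y = 2}) = 0 := by
      rw [hempty]
      exact Nat.card_of_isEmpty
    rw [h0] at hmod
    have h1 := Nat.odd_iff.1 hJodd
    unfold Nat.ModEq at hmod
    omega
  set y0 : G := ((y : ↥C) : G) with hy0
  have hy0C : y0 ∈ C := (y : ↥C).2
  have hy0ord : orderOf y0 = 2 := by
    rw [hy0, Subgroup.orderOf_coe]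
    exact y.2
  have hy0T : ∀ t ∈ T, t * y0 * t⁻¹ = y0 := by
    intro t ht
    have h1 := hy ⟨t, ht⟩
    exact congrArg (fun z : {y : ↥C // orderOf y = 2} => ((z : ↥C) : G)) h1
  refine ⟨y0, hy0C, hy0ord, ?_⟩
  set M := Subgroup.centralizer ({y0} : Set G) with hMdef
  set D := N ⊓ M with hDdef
  have hTD : T ≤ D := by
    intro t ht
    refine Subgroup.mem_inf.2 ⟨hTN ht, ?_⟩
    rw [hMdef, Subgroup.mem_centralizer_iff]
    intro h hh
    rw [Set.mem_singleton_iff] at hh
    rw [hh]
    have h1 := hy0T t ht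
    calc y0 * t = (t * y0 * t⁻¹) * t := by rw [h1]
      _ = t * y0 := by group
  have hPM : (P : Subgroup G) ≤ M := by
    intro h hh
    rw [hMdef, Subgroup.mem_centralizer_iff]
    intro z hz
    rw [Set.mem_singleton_iff] at hz
    rw [hz]
    exact ((Subgroup.mem_centralizer_iff.1 hy0C) h hh).symm
  have hPD : (P : Subgroup G) ≤ D := le_inf Subgroup.le_normalizer hPM
  have h8 : 8 ∣ Nat.card ↥D := hTcard ▸ Subgroup.card_dvd_of_le hTD
  have h19 : 19 ∣ Nat.card ↥D := hP ▸ Subgroup.card_dvd_of_le hPD
  have h152 : 152 ∣ Nat.card ↥D :=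
    (show (152 : ℕ) = 8 * 19 by norm_num) ▸
      Nat.Coprime.mul_dvd_of_dvd_of_dvd (by norm_num) h8 h19
  have h456 : Nat.card ↥D ∣ 456 := hN ▸ Subgroup.card_dvd_of_le (inf_le_left : D ≤ N)
  have hDcases : Nat.card ↥D = 152 ∨ Nat.card ↥D = 456 := by
    obtain ⟨k, hk⟩ := h152
    rw [hk] at h456 ⊢
    have h3 : k ∣ 3 := by
      have : (152 : ℕ) * k ∣ 152 * 3 := h456
      exact Nat.dvd_of_mul_dvd_mul_left (by norm_num) this
    rcases (Nat.dvd_prime Nat.prime_three).1 h3 with rfl | rfl
    · left; norm_num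
    · right; norm_num
  -- the Sylow `19`-subgroups of `M`
  set n := Nat.card (Sylow 19 ↥M) with hn
  have hn1 : n ≡ 1 [MOD 19] := card_sylow_modEq_one 19 ↥M
  have hn2 : Nat.card ↥D * n = Nat.card ↥M := by
    have h1 : n = (Subgroup.normalizer ((P.subtype hPM : Sylow 19 ↥M) : Set ↥M)).index :=
      Sylow.card_eq_index_normalizer (P.subtype hPM)
    have h2 : Subgroup.normalizer ((P.subtype hPM : Sylow 19 ↥M) : Set ↥M) = N.subgroupOf M := by
      show Subgroup.normalizer (((P : Subgroup G).subgroupOf M : Subgroup ↥M) : Set ↥M) = _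
      exact (Subgroup.subgroupOf_normalizer_eq hPM).symm
    rw [h2] at h1
    have h3 : (N.subgroupOf M).index = D.relIndex M := by
      rw [hDdef, Subgroup.inf_relIndex_right]
      rfl
    rw [h1, h3]
    exact card_mul_relIndex_of_le (inf_le_right : D ≤ M)
  have hMdvd : Nat.card ↥M ∣ 459648 := hG ▸ Subgroup.card_subgroup_dvd_card M
  have hn19 : n % 19 = 1 := hn1
  -- `n ∣ 3024`
  have hn3024 : n ∣ 3024 := by
    rw [← hn2] at hMdvd
    rcases hDcases with hD | hD
    · rw [hD] at hMdvd
      have : (152 : ℕ) * n ∣ 152 * 3024 := hMdvd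
      exact Nat.dvd_of_mul_dvd_mul_left (by norm_num) this
    · rw [hD] at hMdvd
      have : (456 : ℕ) * n ∣ 456 * 1008 := hMdvd
      have h1 : n ∣ 1008 := Nat.dvd_of_mul_dvd_mul_left (by norm_num) this
      exact h1.trans (by norm_num)
  have hy01 : y0 ≠ 1 := by
    intro h1
    rw [h1, orderOf_one] at hy0ord
    norm_num at hy0ord
  rcases divisors_3024 n hn3024 hn19 with hn1' | hn1008
  · rw [hn1', mul_one] at hn2
    rw [← hn2]
    rcases hDcases with hD | hD <;> rw [hD] <;> norm_num
  · rw [hn1008] at hn2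
    exfalso
    rcases hDcases with hD | hD
    · -- index three
      rw [hD] at hn2
      have hidx : M.index = 3 := by
        have h1 := Subgroup.card_mul_index M
        rw [hG, ← hn2] at h1
        omega
      have hMtop : M ≠ ⊤ := by
        intro htop
        rw [htop, Subgroup.index_top] at hidx
        norm_num at hidx
      have h1 := card_dvd_factorial_index M hMtop
      rw [hidx, hG] at h1
      norm_num at h1
    · -- `y0` central
      rw [hD] at hn2
      have hMtop : M = ⊤ := by
        apply (Subgroup.card_eq_iff_eq_top M).1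
        rw [← hn2, hG]
      have hcen : y0 ∈ Subgroup.center G := by
        rw [Subgroup.mem_center_iff]
        intro g
        have hg : g ∈ M := hMtop ▸ Subgroup.mem_top g
        exact ((Subgroup.mem_centralizer_iff.1 hg) y0 (Set.mem_singleton y0)).symm
      rcases (Subgroup.Normal.eq_bot_or_eq_top (inferInstance : (Subgroup.center G).Normal))
        with hbot | htop
      · rw [hbot, Subgroup.mem_bot] at hcen
        exact hy01 hcen
      · apply not_isMulCommutative_of_not_prime (G := G) (by rw [hG]; norm_num)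
        refine ⟨⟨fun a b => ?_⟩⟩
        have ha : a ∈ Subgroup.center G := htop ▸ Subgroup.mem_top a
        exact ((Subgroup.mem_center_iff.1 ha) b).symm

end Cfsg.Agent.Lib.Helper8_N19_CENT
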