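import Mathlib
import Cfsg.Agent.S1141

/-!
# Similitudes of the norm form of a quadratic extension in characteristic two (helper8)

`F` a field of characteristic two with an involutive automorphism `σ` (fixed field `K`),
`N x = x * σ x`.  An injective additive map `A : F → F` with `N (A b) = B (N b)` for an additive map `B`
is of the form `b ↦ l * φ b` for a field automorphism `φ` (`similitude_classification`).
-/

set_option autoImplicit false
set_option linter.unusedSectionVars false

namespace Cfsg.Agent.Lib.Helper8_NormSim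

open Cfsg.Agent.S1141

variable {F : Type*} [Field F] [CharP F 2] {σ : F →+* F} [hσ : Fact (∀ x : F, σ (σ x) = x)]

theorem norm_fix (b : F) : σ (b * σ b) = b * σ b := by
  rw [map_mul, hσ.out b, mul_comm]

theorem trace_fix (b : F) : σ (b + σ b) = b + σ b := by
  rw [map_add, hσ.out b, add_comm]

theorem polar_fix (b b' : F) : σ (b * σ b' + σ b * b') = b * σ b' + σ b * b' := by
  rw [map_add, map_mul, map_mul, hσ.out b, hσ.out b', add_comm]

/-- nondegeneracy of the polar form of the norm -/
theorem polar_nondeg (τ : F) (hτ : τ + σ τ = 1) (x : F) (h : ∀ y : F, x * σ y + σ x * y = 0) :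
    x = 0 := by
  by_contra hx
  have h1 := h (σ (τ / x))
  have hσx : σ x ≠ 0 := (map_ne_zero σ).mpr hx
  rw [hσ.out, map_div₀, mul_div_cancel₀ _ hx, mul_div_cancel₀ _ hσx, hτ] at h1
  exact one_ne_zero h1

/-- decomposition of `F` over the fixed field -/
theorem exists_decomp (t : F) (ht : σ t ≠ t) (x : F) :
    ∃ a b : F, σ a = a ∧ σ b = b ∧ x = a + b * t := by
  have hu : t + σ t ≠ 0 := fun h => ht (fix_of_add_eq_zero h)
  have hb : σ ((x + σ x) / (t + σ t)) = (x + σ x) / (t + σ t) := by
    rw [map_div₀, trace_fix, trace_fix]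
  refine ⟨x + (x + σ x) / (t + σ t) * t, (x + σ x) / (t + σ t), ?_, hb, ?_⟩
  · rw [map_add, map_mul, hb]
    have h1 : (x + σ x) / (t + σ t) * (t + σ t) = x + σ x := div_mul_cancel₀ _ hu
    grind
  · grind

/-- normalised classification: a norm similitude fixing `1` is a field automorphism -/
theorem similitude_normalised [Finite F] (τ : F) (hτ : τ + σ τ = 1) (t : F) (ht : σ t ≠ t)
    (A B : F →+ F) (hA : Function.Injective A) (hA1 : A 1 = 1)
    (hAB : ∀ b, A b * σ (A b) = B (b * σ b)) :
    ∃ φ : F ≃+* F, (∀ b, A b = φ b) ∧ (∀ k, σ k = k → B k = φ k) := by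
  have hAsurj : Function.Surjective A := Finite.injective_iff_surjective.mp hA
  -- (s1)
  have hB1 : B 1 = 1 := by
    have := hAB 1
    rw [hA1, map_one, mul_one] at this
    exact this.symm
  -- (s2) polarisation
  have hpol : ∀ b b', A b * σ (A b') + σ (A b) * A b' = B (b * σ b' + σ b * b') := by
    intro b b'
    have h1 := hAB (b + b')
    have h2 := hAB b
    have h3 := hAB b'
    have e1 : (b + b') * σ (b + b') = b * σ b + b' * σ b' + (b * σ b' + σ b * b') := by
      rw [map_add]; ring
    have e2 : A (b + b') * σ (A (b + b'))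
        = A b * σ (A b) + A b' * σ (A b') + (A b * σ (A b') + σ (A b) * A b') := by
      rw [map_add, map_add]; ring
    rw [e1, e2, map_add, map_add, h2, h3] at h1
    exact add_left_cancel h1
  -- (s3) traces
  have htr : ∀ b, A b + σ (A b) = B (b + σ b) := by
    intro b
    have := hpol b 1
    rw [hA1, map_one, mul_one, mul_one, mul_one, mul_one] at this
    exact this
  -- (s4) the fixed field is stable
  have hK : ∀ k, σ k = k → σ (A k) = A k := by
    intro k hk
    apply fix_of_add_eq_zero
    rw [htr, hk, CharTwo.add_self_eq_zero, map_zero]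
  -- (s5)
  have hBmul : ∀ k c, σ k = k → σ c = c → B (k * c) = A k * B c := by
    intro k c hk hc
    have h1 := hpol (τ * c) k
    have e1 : τ * c * σ k + σ (τ * c) * k = k * c := by
      rw [map_mul, hk, hc]
      have : (τ + σ τ) * (c * k) = c * k := by rw [hτ, one_mul]
      grind
    have e2 : τ * c + σ (τ * c) = c := by
      rw [map_mul, hc, ← add_mul, hτ, one_mul]
    rw [e1, hK k hk] at h1
    have h2 := htr (τ * c)
    rw [e2] at h2
    rw [← h1, ← h2]
    ring
  have hBA : ∀ k, σ k = k → B k = A k := by
    intro k hk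
    have := hBmul k 1 hk (map_one σ)
    rw [mul_one, hB1, mul_one] at this
    exact this
  have hAmulK : ∀ k c, σ k = k → σ c = c → A (k * c) = A k * A c := by
    intro k c hk hc
    rw [← hBA (k * c) (by rw [map_mul, hk, hc]), hBmul k c hk hc, hBA c hc]
  -- (s6) semilinearity
  have hsemi : ∀ k b, σ k = k → A (k * b) = A k * A b := by
    intro k b hk
    have hx : A (k * b) + A k * A b = 0 := by
      apply polar_nondeg τ hτ
      intro y
      obtain ⟨b', rfl⟩ := hAsurj y
      have h1 := hpol (k * b) b'
      have e1 : k * b * σ b' + σ (k * b) * b' = k * (b * σ b' + σ b * b') := by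
        rw [map_mul, hk]; ring
      rw [e1, hBmul k _ hk (polar_fix b b'), ← hpol b b'] at h1
      have e2 : σ (A (k * b) + A k * A b) = σ (A (k * b)) + A k * σ (A b) := by
        rw [map_add σ, map_mul σ, hK k hk]
      rw [e2]
      grind
    grind
  -- (s8) quadratic relations
  have hAt2 : A t * A t = A (t + σ t) * A t + A (t * σ t) := by
    have h1 := htr t
    have h2 := hAB t
    rw [hBA _ (trace_fix t)] at h1
    rw [hBA _ (norm_fix t)] at h2
    rw [← h1, ← h2]
    grind
  -- (s9) multiplicativity
  have hmul : ∀ x y, A (x * y) = A x * A y := by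
    intro x y
    obtain ⟨a, b, ha, hb, rfl⟩ := exists_decomp t ht x
    obtain ⟨c, d, hc, hd, rfl⟩ := exists_decomp t ht y
    have hT := trace_fix (σ := σ) t
    have hN := norm_fix (σ := σ) t
    have e1 : (a + b * t) * (c + d * t)
        = (a * c + b * d * (t * σ t)) + (a * d + b * c + b * d * (t + σ t)) * t := by
      grind
    have hfix1 : σ (a * d + b * c + b * d * (t + σ t)) = a * d + b * c + b * d * (t + σ t) := by
      rw [map_add, map_add, map_mul, map_mul, map_mul, map_mul, ha, hb, hc, hd, hT]
    have hbd : σ (b * d) = b * d := by rw [map_mul, hb, hd]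
    have hx : A (a + b * t) = A a + A b * A t := by
      rw [map_add A, hsemi b t hb]
    have hy : A (c + d * t) = A c + A d * A t := by
      rw [map_add A, hsemi d t hd]
    have hz : A ((a * c + b * d * (t * σ t)) + (a * d + b * c + b * d * (t + σ t)) * t)
        = A a * A c + A b * A d * A (t * σ t)
          + (A a * A d + A b * A c + A b * A d * A (t + σ t)) * A t := by
      rw [map_add A, hsemi _ t hfix1, map_add A, map_add A, map_add A,
        hAmulK a c ha hc, hAmulK _ _ hbd hN, hAmulK b d hb hd, hAmulK a d ha hd,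
        hAmulK b c hb hc, hAmulK _ _ hbd hT, hAmulK b d hb hd]
    rw [e1, hz, hx, hy]
    grind
  -- (s10) the ring automorphism
  let φ₀ : F →+* F :=
    { toFun := A
      map_one' := hA1
      map_mul' := hmul
      map_zero' := map_zero A
      map_add' := map_add A }
  exact ⟨RingEquiv.ofBijective φ₀ ⟨hA, hAsurj⟩, fun b => rfl, hBA⟩

/-- classification of the similitudes of the norm form: they are the maps `b ↦ l * φ b` -/
theorem similitude_classification [Finite F] (τ : F) (hτ : τ + σ τ = 1) (t : F) (ht : σ t ≠ t)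
    (A B : F →+ F) (hA : Function.Injective A)
    (hAB : ∀ b, A b * σ (A b) = B (b * σ b)) :
    ∃ (l : F) (φ : F ≃+* F), l ≠ 0 ∧ (∀ b, A b = l * φ b) ∧
      (∀ k, σ k = k → B k = l * σ l * φ k) := by
  have hl : A 1 ≠ 0 := by
    intro h
    have := hA (h.trans (map_zero A).symm)
    exact one_ne_zero this
  have hσl : σ (A 1) ≠ 0 := (map_ne_zero σ).mpr hl
  have hN : A 1 * σ (A 1) ≠ 0 := mul_ne_zero hl hσl
  obtain ⟨φ, h1, h2⟩ := similitude_normalised τ hτ t ht
    ((AddMonoidHom.mulLeft (A 1)⁻¹).comp A) ((AddMonoidHom.mulLeft (A 1 * σ (A 1))⁻¹).comp B)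
    (by
      intro x y hxy
      simp only [AddMonoidHom.coe_comp, Function.comp_apply, AddMonoidHom.coe_mulLeft] at hxy
      exact hA (mul_left_cancel₀ (inv_ne_zero hl) hxy))
    (by
      simp only [AddMonoidHom.coe_comp, Function.comp_apply, AddMonoidHom.coe_mulLeft]
      exact inv_mul_cancel₀ hl)
    (by
      intro b
      simp only [AddMonoidHom.coe_comp, Function.comp_apply, AddMonoidHom.coe_mulLeft]
      rw [← hAB b, map_mul σ, map_inv₀ σ, mul_inv]
      ring)
  refine ⟨A 1, φ, hl, ?_, ?_⟩
  · intro b
    have := h1 b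
    simp only [AddMonoidHom.coe_comp, Function.comp_apply, AddMonoidHom.coe_mulLeft] at this
    rw [← this, mul_inv_cancel_left₀ hl]
  · intro k hk
    have := h2 k hk
    simp only [AddMonoidHom.coe_comp, Function.comp_apply, AddMonoidHom.coe_mulLeft] at this
    rw [← this, mul_inv_cancel_left₀ hN]

end Cfsg.Agent.Lib.Helper8_NormSim
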