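import Mathlib
import Cfsg.Agent.Lib.Helper38_OTDefs

set_option autoImplicit false
set_option linter.unusedSectionVars false
set_option linter.unusedVariables false

/-!
# OTENS4 package STABR (architect helper38): the rank argument.
If `P ⊗ R - 1` has rank `≤ a` and `R` fixes a hyperplane of `B` pointwise (`a + 2 ≤ b`),
then `P = 1`.
-/

namespace Cfsg.Agent.Lib.Helper8_OT_STABR

open Matrix Module
open Cfsg.Agent.Lib.Helper98_ExtDefs Cfsg.Agent.Lib.Helper97_TensDefs
open Cfsg.Agent.Lib.Helper94_Herm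
open Cfsg.Agent.Lib.Helper67_UT2Defs Cfsg.Agent.Lib.Helper37_UTDefs
open Cfsg.Agent.Lib.Helper37_UTPairDefs
open Cfsg.Agent.Lib.Helper94_OrthSmall Cfsg.Agent.Lib.Helper94_OrthSiegel
open Cfsg.Agent.Lib.Helper67_T2ODefs (IsAltMap aw)
open Cfsg.Agent.Lib.Helper38_OTDefs

variable {F : Type*} [Field F] {ι κ : Type*} [Fintype ι] [Fintype κ] [DecidableEq ι]
  [DecidableEq κ]
variable {α : LinearMap.BilinForm F (ι → F)} {β : LinearMap.BilinForm F (κ → F)}
variable {Q : Matrix ι κ F → F} {M : Subgroup (Matrix ι κ F ≃ₗ[F] Matrix ι κ F)}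

/-- `w ↦ v ⊗ w` is injective for `v ≠ 0` -/
theorem vmR_inj {v : ι → F} (hv0 : v ≠ 0) : Function.Injective (vmR (κ := κ) v) := by
  intro w w' h
  obtain ⟨i, hi⟩ : ∃ i, v i ≠ 0 := by
    by_contra hne
    apply hv0
    funext i
    by_contra hi
    exact hne ⟨i, hi⟩
  funext j
  have h1 := congrFun (congrFun h i) j
  simp only [vmR_apply, vecMulVec_apply] at h1
  exact mul_left_cancel₀ hi h1

/-! ## STABR (M): the rank argument -/

theorem P_eq_one_of_rank (hab : Fintype.card ι + 2 ≤ Fintype.card κ)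
    (P : (ι → F) →ₗ[F] (ι → F)) (R : (κ → F) →ₗ[F] (κ → F))
    (hr : finrank F (LinearMap.range (tm P R - LinearMap.id)) ≤ Fintype.card ι)
    (hk : Fintype.card κ ≤ finrank F (LinearMap.ker (R - LinearMap.id)) + 1) :
    P = LinearMap.id := by
  by_contra hP
  obtain ⟨x, hx⟩ : ∃ x, P x - x ≠ 0 := by
    by_contra hcon
    push Not at hcon
    apply hP
    refine LinearMap.ext fun x => ?_
    rw [LinearMap.id_apply]
    exact sub_eq_zero.1 (hcon x)
  set K : Submodule F (κ → F) := LinearMap.ker (R - LinearMap.id) with hK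
  have hle : K.map (vmR (P x - x)) ≤ LinearMap.range (tm P R - LinearMap.id) := by
    rintro _ ⟨w, hw, rfl⟩
    have hRw : R w = w := by
      have := LinearMap.mem_ker.1 hw
      rw [LinearMap.sub_apply, LinearMap.id_apply] at this
      exact sub_eq_zero.1 this
    refine ⟨vecMulVec x w, ?_⟩
    rw [LinearMap.sub_apply, LinearMap.id_apply, tm_pure, hRw, vmR_apply, sub_vecMulVec]
  have h1 := (Submodule.equivMapOfInjective (vmR (κ := κ) (P x - x)) (vmR_inj hx) K).finrank_eq
  have h2 := Submodule.finrank_mono hle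
  omega

end Cfsg.Agent.Lib.Helper8_OT_STABR
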