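import Mathlib
import Cfsg.Agent.Lib.Helper38_OTDefs
import Cfsg.Agent.Lib.Helper73_Tens_TP1
import Cfsg.Agent.Lib.Helper8_OT_STABR

set_option autoImplicit false
set_option linter.unusedSectionVars false
set_option linter.unusedVariables false

/-!
# OTENS4 package STABF (architect helper38), STABM-free part: `Stab_M(x ⊗ B)` is Kronecker,
with the statement of STABM (`stab_conj`) for the given `g`, `x` as a hypothesis.
-/

namespace Cfsg.Agent.Lib.Helper8_OT_STABFa

open Matrix Module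
open Cfsg.Agent.Lib.Helper98_ExtDefs Cfsg.Agent.Lib.Helper97_TensDefs
open Cfsg.Agent.Lib.Helper94_Herm
open Cfsg.Agent.Lib.Helper67_UT2Defs Cfsg.Agent.Lib.Helper37_UTDefs
open Cfsg.Agent.Lib.Helper37_UTPairDefs
open Cfsg.Agent.Lib.Helper94_OrthSmall Cfsg.Agent.Lib.Helper94_OrthSiegel
open Cfsg.Agent.Lib.Helper67_T2ODefs (IsAltMap aw)
open Cfsg.Agent.Lib.Helper38_OTDefs

variable {F : Type*} [Field F] {ι κ : Type*} [Fintype ι] [Fintype κ] [DecidableEq ι]
  [DecidableEq κ]
variable {α : LinearMap.BilinForm F (ι → F)} {β : LinearMap.BilinForm F (κ → F)}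
variable {Q : Matrix ι κ F → F} {M : Subgroup (Matrix ι κ F ≃ₗ[F] Matrix ι κ F)}

/-! ### generalities -/

/-- the linear map `x' ↦ x' ⊗ y` -/
def vmL (y : κ → F) : (ι → F) →ₗ[F] Matrix ι κ F where
  toFun x' := vecMulVec x' y
  map_add' x' x'' := add_vecMulVec x' x'' y
  map_smul' c x' := smul_vecMulVec c x' y

@[simp] theorem vmL_apply (y : κ → F) (x' : ι → F) : vmL (ι := ι) y x' = vecMulVec x' y := rfl

theorem range_vmL (y : κ → F) : LinearMap.range (vmL (ι := ι) y) = fiber y := by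
  ext X
  constructor
  · rintro ⟨x', rfl⟩
    exact ⟨x', rfl⟩
  · rintro ⟨x', rfl⟩
    exact ⟨x', rfl⟩

theorem vmL_inj {y : κ → F} (hy0 : y ≠ 0) : Function.Injective (vmL (ι := ι) y) := by
  intro a a' h
  obtain ⟨j, hj⟩ : ∃ j, y j ≠ 0 := by
    by_contra hne
    apply hy0
    funext j
    by_contra hj
    exact hne ⟨j, hj⟩
  funext i
  have h1 := congrFun (congrFun h i) j
  simp only [vmL_apply, vecMulVec_apply] at h1
  exact mul_right_cancel₀ hj h1

theorem finrank_fiber_le (y : κ → F) : finrank F ↥(fiber (ι := ι) y) ≤ Fintype.card ι := by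
  rw [← range_vmL]
  have := LinearMap.finrank_range_le (vmL (ι := ι) y)
  rwa [Module.finrank_fintype_fun_eq_card] at this

theorem finrank_fiber {y : κ → F} (hy0 : y ≠ 0) :
    finrank F ↥(fiber (ι := ι) y) = Fintype.card ι := by
  rw [← range_vmL, LinearMap.finrank_range_of_inj (vmL_inj hy0),
    Module.finrank_fintype_fun_eq_card]

/-- row `i` of `(1 ⊗ S) Z` is `S (Z i)` -/
theorem tm_id_row (S : (κ → F) →ₗ[F] (κ → F)) (Z : Matrix ι κ F) (i : ι) :
    tm (LinearMap.id : (ι → F) →ₗ[F] (ι → F)) S Z i = S (Z i) := by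
  funext j
  rw [tm_apply, LinearMap.toMatrix'_id, Matrix.one_mul, Matrix.mul_apply]
  rw [← LinearMap.toMatrix'_mulVec, Matrix.mulVec, dotProduct]
  apply Finset.sum_congr rfl
  intro l _
  rw [Matrix.transpose_apply, mul_comm]

/-- if `S v - v = φ v • u` for all `v` then `(1 ⊗ S) Z - Z ∈ A ⊗ u` -/
theorem tm_id_sub_mem_fiber (S : (κ → F) →ₗ[F] (κ → F)) (φ : (κ → F) → F) (u : κ → F)
    (h : ∀ v, S v - v = φ v • u) (Z : Matrix ι κ F) :
    tm (LinearMap.id : (ι → F) →ₗ[F] (ι → F)) S Z - Z ∈ fiber (ι := ι) u := by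
  refine ⟨fun i => φ (Z i), ?_⟩
  ext i j
  have h1 : (tm (LinearMap.id : (ι → F) →ₗ[F] (ι → F)) S Z - Z) i j =
      (tm (LinearMap.id : (ι → F) →ₗ[F] (ι → F)) S Z i - Z i) j := rfl
  rw [h1, tm_id_row, h (Z i), vecMulVec_apply]
  rfl

/-- symplectic transvections are isometries -/
theorem utv_mem_uG_alt (hβ : ∀ y, β y y = 0) (y : κ → F) (s : F) : utv β y s ∈ uG β := by
  intro v v'
  have hsw : β y v' = - β v' y := by
    have h1 := hβ (y + v')
    simp only [map_add, LinearMap.add_apply, hβ y, hβ v', zero_add, add_zero] at h1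
    exact eq_neg_of_add_eq_zero_right h1
  rw [utv_apply β (hβ y), utv_apply β (hβ y)]
  simp only [map_add, map_smul, LinearMap.add_apply, LinearMap.smul_apply, smul_eq_mul, hβ y,
    mul_zero, add_zero, hsw]
  ring

/-! ### the linear equivalence induced on `B` by a stabiliser of `x ⊗ B` -/

/-- an automorphism stabilising `x ⊗ B` induces a linear equivalence `R` of `B` -/
theorem exists_equiv_of_stab {x : ι → F} (hx0 : x ≠ 0) {g : Matrix ι κ F ≃ₗ[F] Matrix ι κ F}
    (hst : ∀ w : κ → F, ∃ w' : κ → F, g (vecMulVec x w) = vecMulVec x w') :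
    ∃ R : (κ → F) ≃ₗ[F] (κ → F), ∀ w, g (vecMulVec x w) = vecMulVec x (R w) := by
  obtain ⟨i₀, hi₀⟩ := Function.ne_iff.mp hx0
  let g₁ : (κ → F) →ₗ[F] (κ → F) :=
    { toFun := fun w => (x i₀)⁻¹ • (g (vecMulVec x w)) i₀
      map_add' := by
        intro w w'
        rw [vecMulVec_add, map_add, ← smul_add]
        rfl
      map_smul' := by
        intro c w
        rw [vecMulVec_smul, map_smul, RingHom.id_apply, smul_comm]
        rfl }
  have hg₁ : ∀ w, g (vecMulVec x w) = vecMulVec x (g₁ w) := by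
    intro w
    obtain ⟨w', hw'⟩ := hst w
    have : g₁ w = w' := by
      show (x i₀)⁻¹ • (g (vecMulVec x w)) i₀ = w'
      rw [hw']
      funext j
      show (x i₀)⁻¹ * (vecMulVec x w' i₀ j) = w' j
      rw [vecMulVec_apply, ← mul_assoc, inv_mul_cancel₀ hi₀, one_mul]
    rw [this, hw']
  have hinj : Function.Injective g₁ := by
    rw [← LinearMap.ker_eq_bot, LinearMap.ker_eq_bot']
    intro w hw
    have h1 : g (vecMulVec x w) = 0 := by
      rw [hg₁, hw]
      ext i j
      simp [vecMulVec_apply]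
    have h2 : vecMulVec x w = 0 := g.injective (h1.trans (map_zero g).symm)
    have h3 : vmR x w = vmR x 0 := by rw [vmR_apply, vmR_apply, h2]; ext i j; simp [vecMulVec_apply]
    exact Cfsg.Agent.Lib.Helper8_OT_STABR.vmR_inj hx0 h3
  refine ⟨LinearEquiv.ofInjectiveEndo g₁ hinj, fun w => ?_⟩
  rw [hg₁ w]
  rfl

/-! ### STABF from STABM -/

/-- STABF with the statement of STABM (for the given `g`, `x`) as a hypothesis -/
theorem stab_kron_of (hβ : ∀ y, β y y = 0) (hβN : NondegOn β ⊤)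
    (hab : Fintype.card ι + 2 ≤ Fintype.card κ) {x : ι → F}
    (hx0 : x ≠ 0) {g : Matrix ι κ F ≃ₗ[F] Matrix ι κ F}
    (hst : ∀ w : κ → F, ∃ w' : κ → F, g (vecMulVec x w) = vecMulVec x w')
    (hconj : ∀ {R : (κ → F) ≃ₗ[F] (κ → F)}, (∀ w, g (vecMulVec x w) = vecMulVec x (R w)) →
      ∀ {R' : (κ → F) ≃ₗ[F] (κ → F)}, R' ∈ uG β →
      R * R' * R⁻¹ ∈ uG β ∧ ∃ P : (ι → F) ≃ₗ[F] (ι → F), P ∈ uG α ∧
        g * tmE (1 : (ι → F) ≃ₗ[F] (ι → F)) R' * g⁻¹ = tmE P (R * R' * R⁻¹)) : IsKron g := by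
  obtain ⟨R, hR⟩ := exists_equiv_of_stab hx0 hst
  apply Cfsg.Agent.Lib.Helper73_Tens_TP1.isKron_of_fibers
  intro y hy0
  have hRy0 : R y ≠ 0 := fun h => hy0 (R.injective (h.trans (map_zero R).symm))
  refine ⟨R y, hRy0, ?_⟩
  -- the transvection `R' = 1 + P_y`
  set R' : (κ → F) ≃ₗ[F] (κ → F) := utv β y 1 with hR'def
  have hR'u : R' ∈ uG β := utv_mem_uG_alt hβ y 1
  have hR'v : ∀ v, R' v = v + β v y • y := by
    intro v
    rw [hR'def, utv_apply β (hβ y), one_mul]
  obtain ⟨-, P, -, hPeq⟩ := hconj hR hR'u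
  set R'' : (κ → F) ≃ₗ[F] (κ → F) := R * R' * R⁻¹ with hR''def
  have hR''v : ∀ v, R'' v - v = β (R⁻¹ v) y • R y := by
    intro v
    rw [hR''def, LinearEquiv.mul_apply, LinearEquiv.mul_apply, hR'v, map_add, map_smul]
    have : R (R⁻¹ v) = v := Cfsg.Agent.Lib.Helper94_Symp.apply_inv_apply' R v
    rw [this, add_sub_cancel_left]
  -- the conjugation formula
  have hconjX : ∀ X, g (tmE (1 : (ι → F) ≃ₗ[F] (ι → F)) R' X) = tmE P R'' (g X) := by
    intro X
    have := congrArg (fun h : Matrix ι κ F ≃ₗ[F] Matrix ι κ F => h (g X)) hPeq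
    simp only [LinearEquiv.mul_apply] at this
    rw [← this]
    have h2 : g⁻¹ (g X) = X := Cfsg.Agent.Lib.Helper94_Symp.inv_apply_apply' g X
    rw [h2]
  -- `(1 ⊗ R') Y - Y ∈ A ⊗ y`
  have hfibY : ∀ Y : Matrix ι κ F, tmE (1 : (ι → F) ≃ₗ[F] (ι → F)) R' Y - Y ∈ fiber (ι := ι) y := by
    intro Y
    rw [tmE_apply]
    exact tm_id_sub_mem_fiber _ (fun v => β v y) y
      (fun v => by show R' v - v = β v y • y; rw [hR'v, add_sub_cancel_left]) Y
  -- `P = 1`
  have hP1 : P.toLinearMap = LinearMap.id := by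
    apply Cfsg.Agent.Lib.Helper8_OT_STABR.P_eq_one_of_rank hab P.toLinearMap R''.toLinearMap
    · -- rank
      have hle : LinearMap.range (tm P.toLinearMap R''.toLinearMap - LinearMap.id) ≤
          (fiber (ι := ι) y).map g.toLinearMap := by
        rintro _ ⟨X, rfl⟩
        have h1 : (tm P.toLinearMap R''.toLinearMap -
            (LinearMap.id : Matrix ι κ F →ₗ[F] Matrix ι κ F)) X =
            g (tmE (1 : (ι → F) ≃ₗ[F] (ι → F)) R' (g⁻¹ X) - g⁻¹ X) := by
          rw [map_sub, hconjX]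
          have h2 : g (g⁻¹ X) = X := Cfsg.Agent.Lib.Helper94_Symp.apply_inv_apply' g X
          rw [h2, LinearMap.sub_apply, LinearMap.id_apply, tmE_apply]
        rw [h1]
        exact Submodule.mem_map_of_mem (hfibY _)
      calc finrank F ↥(LinearMap.range (tm P.toLinearMap R''.toLinearMap - LinearMap.id))
          ≤ finrank F ↥((fiber (ι := ι) y).map g.toLinearMap) := Submodule.finrank_mono hle
        _ = finrank F ↥(fiber (ι := ι) y) := LinearEquiv.finrank_map_eq g _
        _ ≤ Fintype.card ι := finrank_fiber_le y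
    · -- kernel
      have hle : (LinearMap.ker (β.flip y)).map R.toLinearMap ≤
          LinearMap.ker (R''.toLinearMap - LinearMap.id) := by
        rintro _ ⟨v, hv, rfl⟩
        rw [LinearMap.mem_ker, LinearMap.sub_apply, LinearMap.id_apply]
        have hv' : β v y = 0 := by
          have := LinearMap.mem_ker.1 hv
          rwa [LinearMap.BilinForm.flip_apply] at this
        show R'' (R v) - R v = 0
        rw [hR''v]
        have : R⁻¹ (R v) = v := Cfsg.Agent.Lib.Helper94_Symp.inv_apply_apply' R v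
        rw [this, hv', zero_smul]
      have h1 := Submodule.finrank_mono hle
      have h2 : finrank F ↥((LinearMap.ker (β.flip y)).map R.toLinearMap) =
          finrank F ↥(LinearMap.ker (β.flip y)) := LinearEquiv.finrank_map_eq R _
      have h3 := LinearMap.finrank_range_add_finrank_ker (β.flip y)
      have h4 : finrank F ↥(LinearMap.range (β.flip y)) ≤ 1 := by
        have := Submodule.finrank_le (LinearMap.range (β.flip y))
        rwa [Module.finrank_self] at this
      rw [Module.finrank_fintype_fun_eq_card] at h3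
      omega
  -- `g (A ⊗ y) ≤ A ⊗ R y`
  have hsub : (fiber (ι := ι) y).map g.toLinearMap ≤ fiber (ι := ι) (R y) := by
    rintro _ ⟨_, ⟨a, rfl⟩, rfl⟩
    -- `b` with `β b y = 1`
    obtain ⟨b, hb⟩ : ∃ b : κ → F, β b y = 1 := by
      obtain ⟨b', -, hb'⟩ := hβN y Submodule.mem_top hy0
      have hsw : β b' y = - β y b' := by
        have h1 := hβ (b' + y)
        simp only [map_add, LinearMap.add_apply, hβ y, hβ b', zero_add, add_zero] at h1
        exact eq_neg_of_add_eq_zero_right h1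
      have hne : β b' y ≠ 0 := by rw [hsw]; exact neg_ne_zero.2 hb'
      refine ⟨(β b' y)⁻¹ • b', ?_⟩
      rw [map_smul, LinearMap.smul_apply, smul_eq_mul, inv_mul_cancel₀ hne]
    have h1 : tmE (1 : (ι → F) ≃ₗ[F] (ι → F)) R' (vecMulVec a b) =
        vecMulVec a b + vecMulVec a y := by
      rw [tmE_pure, hR'v, hb, one_smul, vecMulVec_add]
      rfl
    have h2 : g (vecMulVec a y) =
        tm (LinearMap.id : (ι → F) →ₗ[F] (ι → F)) R''.toLinearMap (g (vecMulVec a b)) -
          g (vecMulVec a b) := by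
      have h3 := hconjX (vecMulVec a b)
      rw [h1, map_add, tmE_apply, hP1] at h3
      rw [← h3, add_sub_cancel_left]
    show g (vecMulVec a y) ∈ fiber (ι := ι) (R y)
    rw [h2]
    exact tm_id_sub_mem_fiber _ (fun v => β (R⁻¹ v) y) (R y) (fun v => hR''v v) _
  -- equality by dimension
  apply Submodule.eq_of_le_of_finrank_le hsub
  rw [finrank_fiber hRy0, LinearEquiv.finrank_map_eq g, finrank_fiber hy0]

end Cfsg.Agent.Lib.Helper8_OT_STABFa
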