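import Mathlib
import Cfsg.Agent.Lib.Helper97_OX3Defs
import Cfsg.Agent.Lib.Helper94_OrthVec

set_option autoImplicit false
set_option linter.unusedSectionVars false
set_option linter.unusedVariables false

/-!
# OEXT3 package PAR_PROJ (architect helper97), PAR_T-free part: the image `T'` of `t ∩ p^{⊥_K}`
in `{p, p'}^{⊥_K}`, with the dimension formula of PAR_T as a hypothesis.
-/

namespace Cfsg.Agent.Lib.Helper8_OX3_PAR_PROJa

open Module Cfsg.Agent.Lib.Helper94_OrthSmall Cfsg.Agent.Lib.Helper94_OrthSiegel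
  Cfsg.Agent.Lib.Helper98_ExtDefs Cfsg.Agent.Lib.Helper97_OX2Defs
  Cfsg.Agent.Lib.Helper97_OX3Defs
open scoped commutatorElement

variable {F K V : Type*} [Field F] [Field K] [Algebra F K] [AddCommGroup V] [Module F V]
  [Module K V] [IsScalarTower F K V]
variable {τ : K →ₗ[F] F} {QK : V → K} {BK : LinearMap.BilinForm K V}
variable [Finite F] [Finite K] [Module.Finite F V] [Module.Finite K V]

/-- PAR_PROJ from the dimension formula of PAR_T -/
theorem proj_props_of (C : Ctx3 τ QK BK) (t : Submodule F V)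
    (hts : ∀ x ∈ t, trQ τ QK x = 0) {p p' : V}
    (hp : QK p = 0) (hp' : QK p' = 0) (hpp' : BK p p' = 1)
    (hT : finrank F ↥(t ⊓ kperp F BK p) = 3 + finrank F ↥(t ⊓ kpt F (K := K) p)) :
    ∃ T' : Submodule F V, finrank F T' = 3 ∧
      (∀ y ∈ T', BK y p = 0 ∧ BK y p' = 0 ∧ trQ τ QK y = 0) ∧
      (∀ y ∈ T', ∃ k : K, y + k • p ∈ t) ∧
      (∀ x ∈ t, BK x p = 0 → x - BK x p' • p ∈ T') := by
  have hpp : BK p p = 0 := by rw [C.BK_self, hp, mul_zero]
  -- the projection on `T = t ∩ p^⊥`
  have hproj : ∀ x : V, BK x p = 0 → projL F BK p p' x = x - BK x p' • p := by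
    intro x hx
    rw [projL_apply, hx, zero_smul, sub_zero]
  refine ⟨(t ⊓ kperp F BK p).map (projL F BK p p'), ?_, ?_, ?_, ?_⟩
  · -- dimension
    set T : Submodule F V := t ⊓ kperp F BK p with hTdef
    set g : ↥T →ₗ[F] V := (projL F BK p p').domRestrict T with hg
    have h1 := LinearMap.finrank_range_add_finrank_ker g
    have h2 : LinearMap.range g = T.map (projL F BK p p') := LinearMap.range_domRestrict T _
    have h3 : finrank F ↥((LinearMap.ker g).map T.subtype) = finrank F ↥(LinearMap.ker g) :=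
      Submodule.finrank_map_subtype_eq T (LinearMap.ker g)
    have h4 : (LinearMap.ker g).map T.subtype = t ⊓ kpt F (K := K) p := by
      ext x
      rw [Submodule.mem_map]
      constructor
      · rintro ⟨y, hy, rfl⟩
        have hyT0 : (y : V) ∈ t ⊓ kperp F BK p := y.2
        have hyT : (y : V) ∈ t ∧ BK (y : V) p = 0 :=
          ⟨(Submodule.mem_inf.1 hyT0).1, mem_kperp.1 (Submodule.mem_inf.1 hyT0).2⟩
        have hy0 : projL F BK p p' (y : V) = 0 := LinearMap.mem_ker.1 hy
        rw [hproj _ hyT.2, sub_eq_zero] at hy0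
        refine Submodule.mem_inf.2 ⟨hyT.1, mem_kpt.2 ⟨BK (y : V) p', ?_⟩⟩
        exact hy0
      · intro hx
        obtain ⟨hxt, hxp⟩ := Submodule.mem_inf.1 hx
        obtain ⟨a, rfl⟩ := mem_kpt.1 hxp
        have hap : BK (a • p) p = 0 := by
          rw [map_smul, LinearMap.smul_apply, hpp, smul_zero]
        have hmem : a • p ∈ T := by
          rw [hTdef]
          exact Submodule.mem_inf.2 ⟨hxt, mem_kperp.2 hap⟩
        refine ⟨⟨a • p, hmem⟩, ?_, rfl⟩
        rw [LinearMap.mem_ker]
        show projL F BK p p' (a • p) = 0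
        rw [hproj _ hap, map_smul, LinearMap.smul_apply, hpp', smul_eq_mul, mul_one, sub_self]
    rw [h2] at h1
    rw [← h3, h4] at h1
    omega
  · -- properties of the elements of `T'`
    rintro y ⟨x, hx, rfl⟩
    obtain ⟨hxt, hxp⟩ := Submodule.mem_inf.1 hx
    have hxp' : BK x p = 0 := mem_kperp.1 hxp
    rw [hproj x hxp']
    refine ⟨?_, ?_, ?_⟩
    · rw [map_sub, LinearMap.sub_apply, map_smul, LinearMap.smul_apply, hpp, smul_zero, sub_zero,
        hxp']
    · rw [map_sub, LinearMap.sub_apply, map_smul, LinearMap.smul_apply, hpp', smul_eq_mul,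
        mul_one, sub_self]
    · have hQ : QK (x - BK x p' • p) = QK x := by
        have e : x - BK x p' • p = x + (-(BK x p')) • p := by rw [neg_smul, sub_eq_add_neg]
        rw [e, C.hQp, C.hQs, hp, mul_zero, add_zero, map_smul, smul_eq_mul, hxp', mul_zero,
          add_zero]
      rw [trQ_apply, hQ, ← trQ_apply]
      exact hts x hxt
  · rintro y ⟨x, hx, rfl⟩
    obtain ⟨hxt, hxp⟩ := Submodule.mem_inf.1 hx
    have hxp' : BK x p = 0 := mem_kperp.1 hxp
    refine ⟨BK x p', ?_⟩
    rw [hproj x hxp', sub_add_cancel]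
    exact hxt
  · intro x hxt hxp
    rw [← hproj x hxp]
    exact Submodule.mem_map_of_mem (Submodule.mem_inf.2 ⟨hxt, mem_kperp.2 hxp⟩)

end Cfsg.Agent.Lib.Helper8_OX3_PAR_PROJa
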