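import Mathlib
import Cfsg.Agent.Lib.Helper97_OX3Defs
import Cfsg.Agent.Lib.Helper94_OrthVec
import Cfsg.Agent.Lib.Helper10_OX3_PAR_T
import Cfsg.Agent.Lib.Helper8_OX3_PAR_PROJa

set_option autoImplicit false
set_option linter.unusedSectionVars false
set_option linter.unusedVariables false

/-!
# OEXT3 package PAR_PROJ (architect helper97): the image `T'` of `t ∩ p^{⊥_K}` in
`{p, p'}^{⊥_K}`.  Proof in `Helper8_OX3_PAR_PROJa.proj_props_of`; PAR_T from `Helper10_OX3_PAR_T`.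
-/

namespace Cfsg.Agent.Lib.Helper8_OX3_PAR_PROJ

open Module Cfsg.Agent.Lib.Helper94_OrthSmall Cfsg.Agent.Lib.Helper94_OrthSiegel
  Cfsg.Agent.Lib.Helper98_ExtDefs Cfsg.Agent.Lib.Helper97_OX2Defs
  Cfsg.Agent.Lib.Helper97_OX3Defs
open scoped commutatorElement

variable {F K V : Type*} [Field F] [Field K] [Algebra F K] [AddCommGroup V] [Module F V]
  [Module K V] [IsScalarTower F K V]
variable {τ : K →ₗ[F] F} {QK : V → K} {BK : LinearMap.BilinForm K V}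
variable [Finite F] [Finite K] [Module.Finite F V] [Module.Finite K V]

/-- PAR_PROJ: the image `T'` of `t ∩ p^{⊥_K}` in `{p, p'}^{⊥_K}` -/
theorem proj_props (C : Ctx3 τ QK BK) (t : Submodule F V) (ht6 : finrank F t = 6)
    (hts : ∀ x ∈ t, trQ τ QK x = 0)
    (hperp : ∀ x : V, (∀ z ∈ t, trB τ BK x z = 0) → x ∈ t) {p p' : V}
    (hp : QK p = 0) (hp' : QK p' = 0) (hpp' : BK p p' = 1) :
    ∃ T' : Submodule F V, finrank F T' = 3 ∧
      (∀ y ∈ T', BK y p = 0 ∧ BK y p' = 0 ∧ trQ τ QK y = 0) ∧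
      (∀ y ∈ T', ∃ k : K, y + k • p ∈ t) ∧
      (∀ x ∈ t, BK x p = 0 → x - BK x p' • p ∈ T') := by
  have hp0 : p ≠ 0 := by
    rintro rfl
    rw [map_zero, LinearMap.zero_apply] at hpp'
    exact zero_ne_one hpp'
  exact Cfsg.Agent.Lib.Helper8_OX3_PAR_PROJa.proj_props_of C t hts hp hp' hpp'
    (Cfsg.Agent.Lib.Helper10_OX3_PAR_T.finrank_inf_kperp C t ht6 hts hperp hp0)

end Cfsg.Agent.Lib.Helper8_OX3_PAR_PROJ
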