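import Mathlib
import Cfsg.Agent.Lib.Helper94_SympQuad

set_option autoImplicit false

/-!
Orthogonal groups over the field with two elements (abstract): `Q : V → ZMod 2` polarising to a
nondegenerate alternating form `B`.  Orthogonal transvections `t v` (`Q v = 1`), their relations,
transitivity of the subgroup they generate on nonsingular vectors (dimension at least 6), and
generation of the whole isometry group (helper8).
-/

namespace Cfsg.Agent.Lib.Helper8_OrthF2

open Cfsg.Agent.Lib.Helper94_Symp Cfsg.Agent.Lib.Helper94_SympQuad Module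

theorem z2_cases (a : ZMod 2) : a = 0 ∨ a = 1 := by revert a; decide
theorem z2_add_self (a : ZMod 2) : a + a = 0 := by revert a; decide
theorem z2_mul_self (a : ZMod 2) : a * a = a := by revert a; decide
theorem z2_eq_one_of_ne_zero {a : ZMod 2} (h : a ≠ 0) : a = 1 := (z2_cases a).resolve_left h

variable {V : Type*} [AddCommGroup V] [Module (ZMod 2) V]

theorem v_add_self (x : V) : x + x = 0 := by
  rw [← two_smul (ZMod 2) x]
  have : (2 : ZMod 2) = 0 := by decide
  rw [this, zero_smul]

section Basic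

variable (B : LinearMap.BilinForm (ZMod 2) V) (hB : B.IsAlt) (Q : V → ZMod 2)
  (hQp : ∀ u v : V, Q (u + v) = Q u + Q v + B u v)

include hB in
theorem B_symm (x y : V) : B x y = B y x := by
  rw [alt_swap B hB x y]
  generalize B y x = a
  revert a; decide

include hQp in
theorem Q_zero : Q 0 = 0 := by
  have h := hQp 0 0
  simp only [add_zero, map_zero, z2_add_self] at h
  exact h

include hQp in
theorem hQs (c : ZMod 2) (v : V) : Q (c • v) = c * c * Q v := by
  rcases z2_cases c with rfl | rfl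
  · rw [zero_smul, Q_zero B Q hQp]; simp
  · simp

/-- the orthogonal transvection with centre `v` -/
noncomputable def t (v : V) : V ≃ₗ[ZMod 2] V := stv B hB v 1

theorem t_apply (v x : V) : t B hB v x = x + B x v • v := by
  simp [t]

include hQp in
theorem t_mem {v : V} (hv : Q v = 1) : t B hB v ∈ oGroup B Q := by
  have h := refl_mem B hB Q (hQs B Q hQp) hQp (z := v) (by rw [hv]; exact one_ne_zero)
  rw [hv, inv_one] at h
  exact h

theorem t_sq (v : V) : t B hB v * t B hB v = 1 := by
  ext x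
  rw [LinearEquiv.mul_apply, t_apply, t_apply, map_add, map_smul, LinearMap.add_apply,
    LinearMap.smul_apply, hB v, smul_zero, add_zero, add_assoc, ← add_smul, z2_add_self,
    zero_smul, add_zero]
  rfl

theorem t_inv (v : V) : (t B hB v)⁻¹ = t B hB v :=
  inv_eq_of_mul_eq_one_left (t_sq B hB v)

theorem t_ne_one (hN : B.Nondegenerate) {v : V} (hv : v ≠ 0) : t B hB v ≠ 1 := by
  intro h
  have h1 : ∃ y, B y v ≠ 0 := by
    by_contra hcon
    push Not at hcon
    exact hv (hN.2 v hcon)
  obtain ⟨y, hy⟩ := h1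
  have h2 : t B hB v y = y := by rw [h]; rfl
  rw [t_apply, z2_eq_one_of_ne_zero hy, one_smul] at h2
  exact hv (by simpa using h2)

theorem t_conj {g : V ≃ₗ[ZMod 2] V} (hg : g ∈ isoGroup B) (v : V) :
    g * t B hB v * g⁻¹ = t B hB (g v) :=
  conj_stv B hB hg v 1

theorem t_comm {u v : V} (h : B u v = 0) : t B hB u * t B hB v = t B hB v * t B hB u := by
  have h1 := t_conj B hB (stv_mem_isoGroup B hB u 1) v
  change t B hB u * t B hB v * (t B hB u)⁻¹ = t B hB (t B hB u v) at h1
  rw [t_apply, B_symm B hB v u, h, zero_smul, add_zero, t_inv] at h1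
  calc t B hB u * t B hB v = t B hB u * t B hB v * (t B hB u * t B hB u) := by
        rw [t_sq, mul_one]
    _ = (t B hB u * t B hB v * t B hB u) * t B hB u := by simp only [mul_assoc]
    _ = t B hB v * t B hB u := by rw [h1]

theorem t_braid {u v : V} (h : B u v = 1) :
    t B hB u * t B hB v * t B hB u = t B hB v * t B hB u * t B hB v := by
  have h1 := t_conj B hB (stv_mem_isoGroup B hB u 1) v
  change t B hB u * t B hB v * (t B hB u)⁻¹ = t B hB (t B hB u v) at h1
  rw [t_apply, B_symm B hB v u, h, one_smul, t_inv] at h1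
  have h2 := t_conj B hB (stv_mem_isoGroup B hB v 1) u
  change t B hB v * t B hB u * (t B hB v)⁻¹ = t B hB (t B hB v u) at h2
  rw [t_apply, h, one_smul, t_inv] at h2
  rw [h1, h2, add_comm]

end Basic

section Trans

variable (B : LinearMap.BilinForm (ZMod 2) V) (hB : B.IsAlt) (Q : V → ZMod 2)
  (hQp : ∀ u v : V, Q (u + v) = Q u + Q v + B u v)

/-- the subgroup generated by the orthogonal transvections -/
def Rsub : Subgroup (V ≃ₗ[ZMod 2] V) :=
  Subgroup.closure {g | ∃ w : V, Q w = 1 ∧ g = t B hB w}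

theorem t_mem_Rsub {w : V} (hw : Q w = 1) : t B hB w ∈ Rsub B hB Q :=
  Subgroup.subset_closure ⟨w, hw, rfl⟩

include hQp in
theorem Rsub_le : Rsub B hB Q ≤ oGroup B Q := by
  rw [Rsub, Subgroup.closure_le]
  rintro _ ⟨w, hw, rfl⟩
  exact t_mem B hB Q hQp hw

include hQp in
theorem ne_zero_of_Q {u : V} (hu : Q u = 1) : u ≠ 0 := by
  rintro rfl
  rw [Q_zero B Q hQp] at hu
  exact zero_ne_one hu

include hQp in
theorem move_of_B_one {u v : V} (hu : Q u = 1) (hv : Q v = 1) (h : B u v = 1) :
    Q (u + v) = 1 ∧ t B hB (u + v) u = v := by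
  constructor
  · rw [hQp, hu, hv, h]; decide
  · rw [t_apply, map_add, hB u, h, zero_add, one_smul, ← add_assoc, v_add_self, zero_add]

variable [FiniteDimensional (ZMod 2) V]

include hB in
theorem exists_hyp_pair (hN : B.Nondegenerate) (hdim : 6 ≤ finrank (ZMod 2) V) (u v : V) :
    ∃ k1 k2 : V, B k1 u = 0 ∧ B k1 v = 0 ∧ B k2 u = 0 ∧ B k2 v = 0 ∧ B k1 k2 = 1 := by
  classical
  set S : Submodule (ZMod 2) V := Submodule.span (ZMod 2) ((({u, v} : Finset V)) : Set V) with hS
  have hSle : finrank (ZMod 2) S ≤ 2 :=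
    le_trans (finrank_span_finset_le_card _) Finset.card_le_two
  have hU : finrank (ZMod 2) (B.orthogonal S) = finrank (ZMod 2) V - finrank (ZMod 2) S :=
    LinearMap.BilinForm.finrank_orthogonal hN S
  have hex : ∃ w1 ∈ B.orthogonal S, ∃ w2 ∈ B.orthogonal S, B w1 w2 ≠ 0 := by
    by_contra hcon
    push Not at hcon
    have hle : B.orthogonal S ≤ B.orthogonal (B.orthogonal S) := by
      intro w hw
      rw [mem_orth]
      intro n hn
      exact hcon n hn w hw
    rw [LinearMap.BilinForm.orthogonal_orthogonal hN hB.isRefl] at hle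
    have := Submodule.finrank_mono hle
    omega
  obtain ⟨w1, hw1, w2, hw2, h12⟩ := hex
  rw [mem_orth] at hw1 hw2
  have hu : u ∈ S := Submodule.subset_span (by simp)
  have hv : v ∈ S := Submodule.subset_span (by simp)
  refine ⟨w1, w2, ?_, ?_, ?_, ?_, z2_eq_one_of_ne_zero h12⟩
  · rw [B_symm B hB]; exact hw1 u hu
  · rw [B_symm B hB]; exact hw1 v hv
  · rw [B_symm B hB]; exact hw2 u hu
  · rw [B_symm B hB]; exact hw2 v hv

theorem z2_four (a α β : ZMod 2) : a = 1 ∨ a + α = 1 ∨ a + β = 1 ∨ a + α + β + 1 = 1 := by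
  revert a α β; decide

include hB hQp in
theorem exists_nonsing_both (hN : B.Nondegenerate) (hdim : 6 ≤ finrank (ZMod 2) V) {u v : V}
    (hu : u ≠ 0) (hv : v ≠ 0) : ∃ w : V, Q w = 1 ∧ B w u = 1 ∧ B w v = 1 := by
  have h1 : ∃ z ∈ (⊤ : Submodule (ZMod 2) V), B z u ≠ 0 := by
    by_contra hcon
    push Not at hcon
    exact hu (hN.2 u (fun z => hcon z trivial))
  have h2 : ∃ z ∈ (⊤ : Submodule (ZMod 2) V), B z v ≠ 0 := by
    by_contra hcon
    push Not at hcon
    exact hv (hN.2 v (fun z => hcon z trivial))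
  obtain ⟨x0, -, hx0u, hx0v⟩ := exists_both_ne_zero B ⊤ h1 h2
  have hx0u' := z2_eq_one_of_ne_zero hx0u
  have hx0v' := z2_eq_one_of_ne_zero hx0v
  obtain ⟨k1, k2, h1u, h1v, h2u, h2v, h12⟩ := exists_hyp_pair B hB hN hdim u v
  rcases z2_four (Q x0) (Q k1 + B x0 k1) (Q k2 + B x0 k2) with h | h | h | h
  · exact ⟨x0, h, hx0u', hx0v'⟩
  · refine ⟨x0 + k1, ?_, ?_, ?_⟩
    · have e : Q (x0 + k1) = Q x0 + (Q k1 + B x0 k1) := by rw [hQp]; ring
      rw [e]; exact h
    · rw [map_add, LinearMap.add_apply, hx0u', h1u, add_zero]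
    · rw [map_add, LinearMap.add_apply, hx0v', h1v, add_zero]
  · refine ⟨x0 + k2, ?_, ?_, ?_⟩
    · have e : Q (x0 + k2) = Q x0 + (Q k2 + B x0 k2) := by rw [hQp]; ring
      rw [e]; exact h
    · rw [map_add, LinearMap.add_apply, hx0u', h2u, add_zero]
    · rw [map_add, LinearMap.add_apply, hx0v', h2v, add_zero]
  · refine ⟨x0 + k1 + k2, ?_, ?_, ?_⟩
    · have e : Q (x0 + k1 + k2) = Q x0 + (Q k1 + B x0 k1) + (Q k2 + B x0 k2) + 1 := by
        rw [hQp, hQp, map_add, LinearMap.add_apply, h12]; ring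
      rw [e]; exact h
    · rw [map_add, map_add, LinearMap.add_apply, LinearMap.add_apply, hx0u', h1u, h2u, add_zero,
        add_zero]
    · rw [map_add, map_add, LinearMap.add_apply, LinearMap.add_apply, hx0v', h1v, h2v, add_zero,
        add_zero]

include hQp in
/-- the subgroup generated by orthogonal transvections is transitive on nonsingular vectors -/
theorem transitive (hN : B.Nondegenerate) (hdim : 6 ≤ finrank (ZMod 2) V) {u v : V}
    (hu : Q u = 1) (hv : Q v = 1) : ∃ r ∈ Rsub B hB Q, r u = v := by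
  rcases z2_cases (B u v) with h | h
  · obtain ⟨w, hw, hwu, hwv⟩ := exists_nonsing_both B hB Q hQp hN hdim
      (ne_zero_of_Q B Q hQp hu) (ne_zero_of_Q B Q hQp hv)
    have huw : B u w = 1 := by rw [B_symm B hB]; exact hwu
    obtain ⟨q1, m1⟩ := move_of_B_one B hB Q hQp hu hw huw
    obtain ⟨q2, m2⟩ := move_of_B_one B hB Q hQp hw hv hwv
    refine ⟨t B hB (w + v) * t B hB (u + w),
      mul_mem (t_mem_Rsub B hB Q q2) (t_mem_Rsub B hB Q q1), ?_⟩
    rw [LinearEquiv.mul_apply, m1, m2]
  · obtain ⟨q1, m1⟩ := move_of_B_one B hB Q hQp hu hv h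
    exact ⟨t B hB (u + v), t_mem_Rsub B hB Q q1, m1⟩

end Trans

section Gen

variable (B : LinearMap.BilinForm (ZMod 2) V) (hB : B.IsAlt) (Q : V → ZMod 2)
  (hQp : ∀ u v : V, Q (u + v) = Q u + Q v + B u v)

/-- vectors orthogonal to `v0` that `g` fixes modulo `v0` -/
def Fp (g : V ≃ₗ[ZMod 2] V) (v0 : V) : Submodule (ZMod 2) V where
  carrier := {x | B x v0 = 0 ∧ ∃ c : ZMod 2, g x = x + c • v0}
  add_mem' := by
    rintro a b ⟨ha, c, hc⟩ ⟨hb, c', hc'⟩
    refine ⟨by rw [map_add, LinearMap.add_apply, ha, hb, add_zero], c + c', ?_⟩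
    rw [map_add, hc, hc', add_smul]; abel
  zero_mem' := ⟨by simp, 0, by simp⟩
  smul_mem' := by
    rintro r a ⟨ha, c, hc⟩
    refine ⟨by rw [map_smul, LinearMap.smul_apply, ha, smul_zero], r * c, ?_⟩
    rw [map_smul, hc, smul_add, mul_smul]

theorem mem_Fp {g : V ≃ₗ[ZMod 2] V} {v0 x : V} :
    x ∈ Fp B g v0 ↔ B x v0 = 0 ∧ ∃ c : ZMod 2, g x = x + c • v0 := Iff.rfl

variable [FiniteDimensional (ZMod 2) V]

include hB hQp in
/-- terminal case: `g` fixes `v0` and acts trivially on `v0^⊥ / v0` -/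
theorem stab_terminal (hN : B.Nondegenerate) {v0 : V} (hv0 : Q v0 = 1)
    {g : V ≃ₗ[ZMod 2] V} (hg : g ∈ oGroup B Q) (hall : ∀ x, B x v0 = 0 → x ∈ Fp B g v0) :
    g ∈ Rsub B hB Q := by
  have hv0ne := ne_zero_of_Q B Q hQp hv0
  -- g fixes the hyperplane pointwise
  have hfix : ∀ x, B x v0 = 0 → g x = x := by
    intro x hx
    obtain ⟨-, c, hc⟩ := hall x hx
    have h1 := hg.2 x
    rw [hc, hQp, hQs B Q hQp, hv0, map_smul, smul_eq_mul, hx, z2_mul_self] at h1
    have hc0 : c = 0 := by
      have h2 : Q x + c = Q x + 0 := by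
        rw [add_zero]
        have : Q x + c * 1 + c * 0 = Q x + c := by ring
        rw [← this]; exact h1
      exact add_left_cancel h2
    rw [hc, hc0, zero_smul, add_zero]
  obtain ⟨u0, hu0⟩ : ∃ u0, B u0 v0 ≠ 0 := by
    by_contra hcon
    push Not at hcon
    exact hv0ne (hN.2 v0 hcon)
  have hu0' := z2_eq_one_of_ne_zero hu0
  -- g u0 = u0 + c v0
  have hperp : ∀ x, B x v0 = 0 → B (g u0 + u0) x = 0 := by
    intro x hx
    have h1 := hg.1 u0 x
    rw [hfix x hx] at h1
    rw [map_add, LinearMap.add_apply, h1, z2_add_self]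
  have hmem : g u0 + u0 ∈ B.orthogonal (B.orthogonal (Submodule.span (ZMod 2) {v0})) := by
    rw [mem_orth]
    intro n hn
    rw [mem_orth] at hn
    have h1 : B n v0 = 0 := by
      rw [B_symm B hB]; exact hn v0 (Submodule.mem_span_singleton_self v0)
    rw [B_symm B hB]; exact hperp n h1
  rw [LinearMap.BilinForm.orthogonal_orthogonal hN hB.isRefl, Submodule.mem_span_singleton] at hmem
  obtain ⟨c, hc⟩ := hmem
  have hgu0 : g u0 = u0 + c • v0 := by
    rw [hc, add_comm (g u0), ← add_assoc, v_add_self, zero_add]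
  have hform : ∀ y, g y = y + (c * B y v0) • v0 := by
    intro y
    have hy' : B (y + B y v0 • u0) v0 = 0 := by
      rw [map_add, LinearMap.add_apply, map_smul, LinearMap.smul_apply, hu0', smul_eq_mul,
        mul_one, z2_add_self]
    have h1 := hfix _ hy'
    rw [map_add, map_smul, hgu0] at h1
    -- g y + B y v0 • (u0 + c • v0) = y + B y v0 • u0
    have h2 : g y = (g y + B y v0 • (u0 + c • v0)) + B y v0 • (u0 + c • v0) := by
      rw [add_assoc, v_add_self, add_zero]
    rw [h2, h1, smul_add, smul_smul, mul_comm c]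
    rw [add_assoc, ← add_assoc (B y v0 • u0), v_add_self, zero_add]
  rcases z2_cases c with rfl | rfl
  · have : g = 1 := by
      ext y
      rw [hform]; simp
    rw [this]; exact one_mem _
  · have : g = t B hB v0 := by
      ext y
      rw [hform, t_apply, one_mul]
    rw [this]; exact t_mem_Rsub B hB Q hv0

include hB hQp in
theorem stab_aux (hN : B.Nondegenerate) {v0 : V} (hv0 : Q v0 = 1) :
    ∀ n : ℕ, ∀ g ∈ oGroup B Q, g v0 = v0 →
      finrank (ZMod 2) V - finrank (ZMod 2) (Fp B g v0) = n → g ∈ Rsub B hB Q := by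
  intro n
  induction n using Nat.strong_induction_on with
  | _ n ih =>
  intro g hg hgv hn
  by_cases hall : ∀ x, B x v0 = 0 → x ∈ Fp B g v0
  · exact stab_terminal B hB Q hQp hN hv0 hg hall
  push Not at hall
  obtain ⟨x, hx0, hxF⟩ := hall
  have hv0F : ∀ g' : V ≃ₗ[ZMod 2] V, g' v0 = v0 → v0 ∈ Fp B g' v0 := fun g' h' =>
    ⟨hB v0, 0, by rw [h', zero_smul, add_zero]⟩
  have hgx0 : B (g x) v0 = 0 := by
    have := hg.1 x v0
    rw [hgv] at this
    rw [this, hx0]
  -- reduction principle
  have reduce : ∀ r ∈ Rsub B hB Q, r v0 = v0 → (∀ z ∈ Fp B g v0, r (g z) = g z) →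
      r (g x) = x → g ∈ Rsub B hB Q := by
    intro r hr hrv hrz hrx
    have hg' : r * g ∈ oGroup B Q := mul_mem (Rsub_le B hB Q hQp hr) hg
    have hg'v : (r * g) v0 = v0 := by rw [LinearEquiv.mul_apply, hgv, hrv]
    have hle : Fp B g v0 ≤ Fp B (r * g) v0 := by
      rintro z ⟨hz0, c, hc⟩
      exact ⟨hz0, c, by rw [LinearEquiv.mul_apply, hrz z ⟨hz0, c, hc⟩, hc]⟩
    have hxmem : x ∈ Fp B (r * g) v0 :=
      ⟨hx0, 0, by rw [LinearEquiv.mul_apply, hrx, zero_smul, add_zero]⟩
    have hlt : Fp B g v0 < Fp B (r * g) v0 :=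
      lt_of_le_of_ne hle (fun h => hxF (h ▸ hxmem))
    have h1 := Submodule.finrank_lt_finrank_of_lt hlt
    have h2 := Submodule.finrank_le (Fp B (r * g) v0)
    have h3 : r * g ∈ Rsub B hB Q := ih _ (by omega) (r * g) hg' hg'v rfl
    have : g = r⁻¹ * (r * g) := by group
    rw [this]
    exact mul_mem (inv_mem hr) h3
  rcases z2_cases (B x (g x)) with hxg | hxg
  · -- need an intermediate vector
    set K := B.orthogonal (Fp B g v0) with hK
    have e1 : ∃ y ∈ K, B y x ≠ 0 := by
      by_contra hcon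
      push Not at hcon
      apply hxF
      have : x ∈ B.orthogonal K := by
        rw [mem_orth]; exact hcon
      rwa [hK, LinearMap.BilinForm.orthogonal_orthogonal hN hB.isRefl] at this
    have e2 : ∃ y ∈ K, B y (g x) ≠ 0 := by
      by_contra hcon
      push Not at hcon
      apply hxF
      have : g x ∈ B.orthogonal K := by
        rw [mem_orth]; exact hcon
      rw [hK, LinearMap.BilinForm.orthogonal_orthogonal hN hB.isRefl] at this
      obtain ⟨-, c, hc⟩ := this
      refine ⟨hx0, c, ?_⟩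
      apply g.injective
      rw [hc, map_add, map_smul, hgv]
    obtain ⟨y', hy'K, hy'x, hy'gx⟩ := exists_both_ne_zero B K e1 e2
    have hy'x1 := z2_eq_one_of_ne_zero hy'x
    have hy'gx1 := z2_eq_one_of_ne_zero hy'gx
    rw [hK, mem_orth] at hy'K
    have hy'v0 : B y' v0 = 0 := by
      rw [B_symm B hB]; exact hy'K v0 (hv0F g hgv)
    -- y0 = x + y', then adjust by v0
    obtain ⟨y, hyv0, hyx, hygx, hyz, hyQ⟩ : ∃ y, B y v0 = 0 ∧ B y x = 1 ∧ B y (g x) = 1 ∧
        (∀ z ∈ Fp B g v0, B z y = B z x) ∧ Q y = Q x := by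
      have b1 : B (x + y') v0 = 0 := by
        rw [map_add, LinearMap.add_apply, hx0, hy'v0, add_zero]
      have b2 : B (x + y') x = 1 := by
        rw [map_add, LinearMap.add_apply, hB x, hy'x1, zero_add]
      have b3 : B (x + y') (g x) = 1 := by
        rw [map_add, LinearMap.add_apply, hxg, hy'gx1, zero_add]
      have b4 : ∀ z ∈ Fp B g v0, B z (x + y') = B z x := by
        intro z hz
        rw [map_add, hy'K z hz, add_zero]
      rcases z2_cases (Q (x + y') + Q x) with hq | hq
      · refine ⟨x + y', b1, b2, b3, b4, ?_⟩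
        have := congrArg (fun w => w + Q x) hq
        simp only [add_assoc, z2_add_self, add_zero, zero_add] at this
        exact this
      · refine ⟨x + y' + v0, ?_, ?_, ?_, ?_, ?_⟩
        · rw [map_add, LinearMap.add_apply, b1, hB v0, add_zero]
        · rw [map_add, LinearMap.add_apply, b2, B_symm B hB v0 x, hx0, add_zero]
        · rw [map_add, LinearMap.add_apply, b3, B_symm B hB v0 (g x), hgx0, add_zero]
        · intro z hz
          rw [map_add, b4 z hz, hz.1, add_zero]
        · rw [hQp, hv0, b1, add_zero]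
          have h5 : Q (x + y') + 1 = Q (x + y') + Q x + Q x + 1 := by
            rw [add_assoc (Q (x + y')), z2_add_self, add_zero]
          rw [h5, hq]
          generalize Q x = a
          revert a; decide
    have hc1 : Q (x + y) = 1 := by
      rw [hQp, hyQ, z2_add_self, zero_add, B_symm B hB, hyx]
    have hc2 : Q (y + g x) = 1 := by
      rw [hQp, hg.2 x, hyQ, z2_add_self, zero_add, hygx]
    refine reduce (t B hB (x + y) * t B hB (y + g x))
      (mul_mem (t_mem_Rsub B hB Q hc1) (t_mem_Rsub B hB Q hc2)) ?_ ?_ ?_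
    · have h1 : B v0 (y + g x) = 0 := by
        rw [map_add, B_symm B hB v0 y, hyv0, B_symm B hB v0 (g x), hgx0, add_zero]
      have h2 : B v0 (x + y) = 0 := by
        rw [map_add, B_symm B hB v0 y, hyv0, B_symm B hB v0 x, hx0, add_zero]
      rw [LinearEquiv.mul_apply, t_apply B hB (y + g x) v0, h1, zero_smul, add_zero,
        t_apply B hB (x + y) v0, h2, zero_smul, add_zero]
    · rintro z hz
      obtain ⟨hz0, c, hc⟩ := hz
      have hzy := hyz z ⟨hz0, c, hc⟩
      have hv0y : B v0 y = 0 := by rw [B_symm B hB]; exact hyv0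
      have hv0x : B v0 x = 0 := by rw [B_symm B hB]; exact hx0
      have h1 : B (g z) (y + g x) = 0 := by
        rw [map_add, hg.1 z x, hc]
        simp only [map_add, map_smul, LinearMap.add_apply, LinearMap.smul_apply, smul_eq_mul,
          hv0y, mul_zero, add_zero, hzy, z2_add_self]
      have h2 : B (g z) (x + y) = 0 := by
        rw [hc]
        simp only [map_add, map_smul, LinearMap.add_apply, LinearMap.smul_apply, smul_eq_mul,
          hv0y, hv0x, mul_zero, add_zero, hzy, z2_add_self]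
      rw [LinearEquiv.mul_apply, t_apply B hB (y + g x) (g z), h1, zero_smul, add_zero,
        t_apply B hB (x + y) (g z), h2, zero_smul, add_zero]
    · have h1 : B (g x) (y + g x) = 1 := by
        rw [map_add, hB (g x), add_zero, B_symm B hB, hygx]
      have h2 : g x + (y + g x) = y := by
        rw [add_comm y, ← add_assoc, v_add_self, zero_add]
      have h3 : B y (x + y) = 1 := by
        rw [map_add, hB y, add_zero, hyx]
      rw [LinearEquiv.mul_apply, t_apply B hB (y + g x) (g x), h1, one_smul, h2,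
        t_apply B hB (x + y) y, h3, one_smul, add_comm x y, ← add_assoc, v_add_self, zero_add]
  · -- one transvection suffices
    have hQa : Q (g x + x) = 1 := by
      rw [hQp, hg.2 x, z2_add_self, zero_add, B_symm B hB, hxg]
    refine reduce (t B hB (g x + x)) (t_mem_Rsub B hB Q hQa) ?_ ?_ ?_
    · rw [t_apply]
      have h1 : B v0 (g x + x) = 0 := by
        rw [map_add, B_symm B hB v0 x, hx0, B_symm B hB v0 (g x), hgx0, add_zero]
      rw [h1, zero_smul, add_zero]
    · rintro z ⟨hz0, c, hc⟩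
      have h1 : B (g z) (g x + x) = 0 := by
        rw [map_add, hg.1 z x, hc, map_add, LinearMap.add_apply, map_smul, LinearMap.smul_apply,
          B_symm B hB v0 x, hx0, smul_zero, add_zero, z2_add_self]
      rw [t_apply, h1, zero_smul, add_zero]
    · rw [t_apply]
      have h1 : B (g x) (g x + x) = 1 := by
        rw [map_add, hB (g x), zero_add, B_symm B hB, hxg]
      rw [h1, one_smul, ← add_assoc, v_add_self, zero_add]

include hB hQp in
/-- the isometry group is generated by the orthogonal transvections (dimension at least 6) -/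
theorem oGroup_le_Rsub (hN : B.Nondegenerate) (hdim : 6 ≤ finrank (ZMod 2) V) :
    oGroup B Q ≤ Rsub B hB Q := by
  intro g hg
  -- a nonsingular vector exists
  have hpos : 0 < finrank (ZMod 2) V := by omega
  obtain ⟨a, ha⟩ := Module.finrank_pos_iff_exists_ne_zero.mp hpos
  obtain ⟨v0, hv0, -, -⟩ := exists_nonsing_both B hB Q hQp hN hdim ha ha
  have hgv0 : Q (g v0) = 1 := by rw [hg.2, hv0]
  obtain ⟨r, hr, hrv⟩ := transitive B hB Q hQp hN hdim hgv0 hv0
  have h1 : r * g ∈ Rsub B hB Q :=
    stab_aux B hB Q hQp hN hv0 _ (r * g) (mul_mem (Rsub_le B hB Q hQp hr) hg)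
      (by rw [LinearEquiv.mul_apply, hrv]) rfl
  have : g = r⁻¹ * (r * g) := by group
  rw [this]
  exact mul_mem (inv_mem hr) h1

end Gen

section Rank

variable (B : LinearMap.BilinForm (ZMod 2) V) (hB : B.IsAlt) (Q : V → ZMod 2)
  (hQp : ∀ u v : V, Q (u + v) = Q u + Q v + B u v)

theorem v_neg (x : V) : -x = x := by
  rw [neg_eq_iff_add_eq_zero, v_add_self]

theorem v_sub (x y : V) : x - y = x + y := by
  rw [sub_eq_add_neg, v_neg]

/-- the linear map `g - 1` -/
def Nmap (g : V ≃ₗ[ZMod 2] V) : V →ₗ[ZMod 2] V := (g : V →ₗ[ZMod 2] V) - LinearMap.id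

theorem Nmap_apply (g : V ≃ₗ[ZMod 2] V) (x : V) : Nmap g x = g x + x := by
  simp [Nmap, v_sub]

theorem range_Nmap_t (hN : B.Nondegenerate) {a : V} (ha : a ≠ 0) :
    LinearMap.range (Nmap (t B hB a)) = Submodule.span (ZMod 2) {a} := by
  apply le_antisymm
  · rintro _ ⟨x, rfl⟩
    rw [Nmap_apply, t_apply, add_comm x, add_assoc, v_add_self, add_zero]
    exact Submodule.smul_mem _ _ (Submodule.mem_span_singleton_self a)
  · rw [Submodule.span_singleton_le_iff_mem]
    have h1 : ∃ y, B y a ≠ 0 := by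
      by_contra hcon
      push Not at hcon
      exact ha (hN.2 a hcon)
    obtain ⟨y, hy⟩ := h1
    refine ⟨y, ?_⟩
    rw [Nmap_apply, t_apply, z2_eq_one_of_ne_zero hy, one_smul, add_comm y, add_assoc, v_add_self,
      add_zero]

theorem finrank_range_Nmap_t (hN : B.Nondegenerate) {a : V} (ha : a ≠ 0) :
    finrank (ZMod 2) (LinearMap.range (Nmap (t B hB a))) = 1 := by
  rw [range_Nmap_t B hB hN ha, finrank_span_singleton ha]

include hQp in
theorem exists_t_of_rank (hN : B.Nondegenerate) {g : V ≃ₗ[ZMod 2] V} (hg : g ∈ oGroup B Q)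
    (hr : finrank (ZMod 2) (LinearMap.range (Nmap g)) = 1) :
    ∃ a : V, Q a = 1 ∧ g = t B hB a := by
  rw [finrank_eq_one_iff'] at hr
  obtain ⟨⟨a, x0, hx0⟩, ha, hspan⟩ := hr
  have ha0 : a ≠ 0 := by
    intro h
    apply ha
    apply Subtype.ext
    exact h
  have hval : ∀ x : V, Nmap g x = 0 ∨ Nmap g x = a := by
    intro x
    obtain ⟨c, hc⟩ := hspan ⟨Nmap g x, ⟨x, rfl⟩⟩
    have hc' : c • a = Nmap g x := congrArg Subtype.val hc
    rcases z2_cases c with rfl | rfl
    · left; rw [← hc', zero_smul]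
    · right; rw [← hc', one_smul]
  have hgx : ∀ x : V, g x = x + Nmap g x := by
    intro x
    rw [Nmap_apply, add_comm (g x), ← add_assoc, v_add_self, zero_add]
  have hiso : ∀ x y : V, B (Nmap g x) (Nmap g y) = 0 := by
    intro x y
    rcases hval x with h | h <;> rcases hval y with h' | h' <;> rw [h, h'] <;> simp [hB a]
  have hkey : ∀ x y : V, B x (Nmap g y) = B (Nmap g x) y := by
    intro x y
    have h1 := hg.1 x y
    rw [hgx x, hgx y, map_add, map_add, LinearMap.add_apply, LinearMap.add_apply, hiso,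
      add_zero] at h1
    -- B x y + B x Ny + B Nx y = B x y
    have h2 : B x (Nmap g y) + B (Nmap g x) y = 0 := by
      have h3 : B x y + (B x (Nmap g y) + B (Nmap g x) y) = B x y + 0 := by
        rw [add_zero, add_comm (B x (Nmap g y)), ← add_assoc]
        exact h1
      exact add_left_cancel h3
    have h4 := congrArg (fun w => w + B (Nmap g x) y) h2
    simp only [add_assoc, z2_add_self, add_zero, zero_add] at h4
    exact h4
  have hxa : ∀ x : V, B x a = B (Nmap g x) x0 := by
    intro x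
    rw [← hx0, hkey]
  have h1 : ∃ y, B y a ≠ 0 := by
    by_contra hcon
    push Not at hcon
    exact ha0 (hN.2 a hcon)
  obtain ⟨x1, hx1⟩ := h1
  have hx1' := z2_eq_one_of_ne_zero hx1
  have hNx1 : Nmap g x1 = a := by
    rcases hval x1 with h | h
    · have := hxa x1
      rw [h, hx1', map_zero, LinearMap.zero_apply] at this
      exact absurd this one_ne_zero
    · exact h
  have hax0 : B a x0 = 1 := by
    have := hxa x1
    rw [hx1', hNx1] at this
    exact this.symm
  have hform : ∀ x, g x = x + B x a • a := by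
    intro x
    rw [hgx]
    congr 1
    rcases hval x with h | h
    · rw [h, hxa, h, map_zero, LinearMap.zero_apply, zero_smul]
    · rw [h, hxa, h, hax0, one_smul]
  refine ⟨a, ?_, ?_⟩
  · have h2 := hg.2 x1
    rw [hform, hx1', one_smul, hQp, hx1'] at h2
    -- Q x1 + Q a + 1 = Q x1
    have h3 : Q x1 + (Q a + 1) = Q x1 + 0 := by
      rw [add_zero, ← add_assoc]; exact h2
    have h4 := add_left_cancel h3
    generalize Q a = q at h4 ⊢
    revert q; decide
  · ext x
    rw [hform, t_apply]

end Rank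

end Cfsg.Agent.Lib.Helper8_OrthF2
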