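import Mathlib
import Cfsg.Prelude.Def_SporadicB
import Cfsg.Prelude.Def_Classical
import Cfsg.Agent.Lib.Helper8_OrthF2
import Cfsg.Agent.Lib.Helper94_Bridge

set_option autoImplicit false
set_option linter.unusedSectionVars false

/-!
Matrix version: for a quadratic form on `ι → ZMod 2` with nondegenerate polar form and at least
six coordinates, the isometries `g` with `g - 1` of rank one form a generating conjugacy class of
3-transpositions of the isometry group (helper8).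
-/

namespace Cfsg.Agent.Lib.Helper8_OrthF2Mat

open Cfsg.Agent.Lib.Helper8_OrthF2 Cfsg.Agent.Lib.Helper94_Symp Cfsg.Agent.Lib.Helper94_SympQuad
  Cfsg.Agent.Lib.Helper94_Bridge Module Matrix

variable {ι : Type} [Fintype ι] [DecidableEq ι]

local notation "V" => (ι → ZMod 2)

variable (Qb : QuadraticForm (ZMod 2) (ι → ZMod 2))

/-- the polar form -/
noncomputable def Bf : LinearMap.BilinForm (ZMod 2) (ι → ZMod 2) := QuadraticMap.polarBilin Qb

omit [Fintype ι] [DecidableEq ι] in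
theorem Bf_apply (x y : V) : Bf Qb x y = QuadraticMap.polar (⇑Qb) x y := rfl

theorem Bf_isAlt : (Bf Qb).IsAlt := by
  intro x
  rw [Bf_apply, QuadraticMap.polar_self, two_smul, z2_add_self]

theorem hQp (u v : V) : Qb (u + v) = Qb u + Qb v + Bf Qb u v := by
  rw [Bf_apply, QuadraticMap.polar]
  ring

/-- the isometry group as a group of linear automorphisms -/
noncomputable def phi :
    ↥(Cfsg.isometryGroup (ZMod 2) (⇑Qb)) →* ((ι → ZMod 2) ≃ₗ[ZMod 2] (ι → ZMod 2)) :=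
  (glEquiv ι (ZMod 2)).toMonoidHom.comp (Subgroup.subtype _)

theorem phi_apply (g : ↥(Cfsg.isometryGroup (ZMod 2) (⇑Qb))) (v : V) :
    phi Qb g v = ((g : GL ι (ZMod 2)) : Matrix ι ι (ZMod 2)) *ᵥ v := by
  simp [phi]

theorem phi_injective : Function.Injective (phi Qb) := by
  intro a b h
  apply Subtype.ext
  exact (glEquiv ι (ZMod 2)).injective h

theorem phi_mem (g : ↥(Cfsg.isometryGroup (ZMod 2) (⇑Qb))) :
    phi Qb g ∈ oGroup (Bf Qb) (⇑Qb) := by
  have hg : ∀ u : V, Qb (((g : GL ι (ZMod 2)) : Matrix ι ι (ZMod 2)) *ᵥ u) = Qb u := by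
    intro u
    exact g.2 u u
  refine ⟨fun u v => ?_, fun v => ?_⟩
  · rw [Bf_apply, Bf_apply, QuadraticMap.polar, QuadraticMap.polar, ← map_add, phi_apply,
      phi_apply, phi_apply, hg, hg, hg]
  · rw [phi_apply, hg]

theorem exists_phi_eq {h : (ι → ZMod 2) ≃ₗ[ZMod 2] (ι → ZMod 2)}
    (hh : h ∈ oGroup (Bf Qb) (⇑Qb)) : ∃ g, phi Qb g = h := by
  refine ⟨⟨(glEquiv ι (ZMod 2)).symm h, ?_⟩, ?_⟩
  · intro u _
    have := hh.2 u
    have e : ((((glEquiv ι (ZMod 2)).symm h : GL ι (ZMod 2)) : Matrix ι ι (ZMod 2)) *ᵥ u) = h u := by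
      rw [← glEquiv_apply, MulEquiv.apply_symm_apply]
    show Qb _ = Qb u
    rw [← this]
    congr 1
  · simp [phi]

theorem rank_eq (g : ↥(Cfsg.isometryGroup (ZMod 2) (⇑Qb))) :
    (((g : GL ι (ZMod 2)) : Matrix ι ι (ZMod 2)) - 1).rank
      = finrank (ZMod 2) (LinearMap.range (Nmap (phi Qb g))) := by
  have h : (((g : GL ι (ZMod 2)) : Matrix ι ι (ZMod 2)) - 1).mulVecLin = Nmap (phi Qb g) := by
    refine LinearMap.ext fun x => ?_
    rw [Nmap_apply, Matrix.mulVecLin_apply, Matrix.sub_mulVec, Matrix.one_mulVec, phi_apply, v_sub]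
  unfold Matrix.rank
  rw [h]

/-- main theorem (matrix form) -/
theorem three_transp_class (hN : (Bf Qb).Nondegenerate) (hcard : 6 ≤ Fintype.card ι) :
    Cfsg.IsThreeTranspositionClass
      {g : ↥(Cfsg.isometryGroup (ZMod 2) (⇑Qb)) |
        (((g : GL ι (ZMod 2)) : Matrix ι ι (ZMod 2)) - 1).rank = 1} := by
  have hB := Bf_isAlt Qb
  have hp := hQp Qb
  have hdim : 6 ≤ finrank (ZMod 2) (ι → ZMod 2) := by
    rw [Module.finrank_fintype_fun_eq_card]; exact hcard
  have hinj := phi_injective Qb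
  have hD : ∀ g : ↥(Cfsg.isometryGroup (ZMod 2) (⇑Qb)),
      g ∈ {g : ↥(Cfsg.isometryGroup (ZMod 2) (⇑Qb)) |
        (((g : GL ι (ZMod 2)) : Matrix ι ι (ZMod 2)) - 1).rank = 1} ↔
      ∃ a : ι → ZMod 2, Qb a = 1 ∧ phi Qb g = t (Bf Qb) hB a := by
    intro g
    rw [Set.mem_setOf_eq, rank_eq]
    constructor
    · intro h
      exact exists_t_of_rank (Bf Qb) hB (⇑Qb) hp hN (phi_mem Qb g) h
    · rintro ⟨a, ha, hg⟩
      rw [hg]
      exact finrank_range_Nmap_t (Bf Qb) hB hN (ne_zero_of_Q (Bf Qb) (⇑Qb) hp ha)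
  refine ⟨⟨?_, ?_⟩, ?_, ?_⟩
  · -- order two
    intro d hd
    obtain ⟨a, ha, hda⟩ := (hD d).mp hd
    have : Fact (Nat.Prime 2) := ⟨Nat.prime_two⟩
    apply orderOf_eq_prime
    · apply hinj
      rw [map_pow, hda, pow_two, t_sq, map_one]
    · intro h1
      have := t_ne_one (Bf Qb) hB hN (ne_zero_of_Q (Bf Qb) (⇑Qb) hp ha)
      apply this
      rw [← hda, h1, map_one]
  · -- products
    intro d hd e he
    obtain ⟨a, ha, hda⟩ := (hD d).mp hd
    obtain ⟨b, hb, heb⟩ := (hD e).mp he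
    rcases z2_cases (Bf Qb a b) with h | h
    · left
      apply hinj
      rw [map_pow, map_mul, hda, heb, map_one, pow_two]
      calc t (Bf Qb) hB a * t (Bf Qb) hB b * (t (Bf Qb) hB a * t (Bf Qb) hB b)
          = t (Bf Qb) hB a * (t (Bf Qb) hB b * t (Bf Qb) hB a) * t (Bf Qb) hB b := by
            simp only [mul_assoc]
        _ = t (Bf Qb) hB a * (t (Bf Qb) hB a * t (Bf Qb) hB b) * t (Bf Qb) hB b := by
            rw [t_comm (Bf Qb) hB h]
        _ = (t (Bf Qb) hB a * t (Bf Qb) hB a) * (t (Bf Qb) hB b * t (Bf Qb) hB b) := by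
            simp only [mul_assoc]
        _ = 1 := by rw [t_sq, t_sq, mul_one]
    · right
      apply hinj
      rw [map_pow, map_mul, hda, heb, map_one]
      have hb' := t_braid (Bf Qb) hB h
      set A := t (Bf Qb) hB a with hA
      set C := t (Bf Qb) hB b with hC
      have hAA : A * A = 1 := t_sq (Bf Qb) hB a
      have hCC : C * C = 1 := t_sq (Bf Qb) hB b
      calc (A * C) ^ 3 = (A * C * A) * (C * A * C) := by
            simp only [pow_succ, pow_zero, one_mul, mul_assoc]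
        _ = (C * A * C) * (C * A * C) := by rw [hb']
        _ = C * A * (C * C) * A * C := by simp only [mul_assoc]
        _ = C * (A * A) * C := by rw [hCC, mul_one]; simp only [mul_assoc]
        _ = 1 := by rw [hAA, mul_one, hCC]
  · -- single conjugacy class
    have hpos : 0 < finrank (ZMod 2) (ι → ZMod 2) := by omega
    obtain ⟨a0, ha0⟩ := Module.finrank_pos_iff_exists_ne_zero.mp hpos
    obtain ⟨v0, hv0, -, -⟩ := exists_nonsing_both (Bf Qb) hB (⇑Qb) hp hN hdim ha0 ha0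
    obtain ⟨d0, hd0⟩ := exists_phi_eq Qb (t_mem (Bf Qb) hB (⇑Qb) hp hv0)
    refine ⟨d0, (hD d0).mpr ⟨v0, hv0, hd0⟩, ?_⟩
    ext d
    rw [hD]
    show _ ↔ IsConj d0 d
    rw [isConj_iff]
    constructor
    · rintro ⟨a, ha, hda⟩
      obtain ⟨r, hr, hrv⟩ := transitive (Bf Qb) hB (⇑Qb) hp hN hdim hv0 ha
      have hrO := Rsub_le (Bf Qb) hB (⇑Qb) hp hr
      obtain ⟨c, hc⟩ := exists_phi_eq Qb hrO
      refine ⟨c, ?_⟩
      apply hinj
      rw [map_mul, map_mul, map_inv, hc, hd0, hda, t_conj (Bf Qb) hB hrO.1, hrv]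
    · rintro ⟨c, rfl⟩
      refine ⟨phi Qb c v0, ?_, ?_⟩
      · rw [(phi_mem Qb c).2, hv0]
      · rw [map_mul, map_mul, map_inv, hd0, t_conj (Bf Qb) hB (phi_mem Qb c).1]
  · -- generation
    rw [eq_top_iff]
    intro g _
    have h1 : phi Qb g ∈ Rsub (Bf Qb) hB (⇑Qb) :=
      oGroup_le_Rsub (Bf Qb) hB (⇑Qb) hp hN hdim (phi_mem Qb g)
    have h2 : Rsub (Bf Qb) hB (⇑Qb) ≤ (Subgroup.closure
        {g : ↥(Cfsg.isometryGroup (ZMod 2) (⇑Qb)) |
          (((g : GL ι (ZMod 2)) : Matrix ι ι (ZMod 2)) - 1).rank = 1}).map (phi Qb) := by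
      rw [Rsub, Subgroup.closure_le]
      rintro _ ⟨w, hw, rfl⟩
      obtain ⟨d, hd⟩ := exists_phi_eq Qb (t_mem (Bf Qb) hB (⇑Qb) hp hw)
      exact ⟨d, Subgroup.subset_closure ((hD d).mpr ⟨w, hw, hd⟩), hd⟩
    obtain ⟨g', hg', hgg'⟩ := h2 h1
    rw [← hinj hgg']
    exact hg'

end Cfsg.Agent.Lib.Helper8_OrthF2Mat
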