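import Mathlib
import Cfsg.Agent.Lib.Helper99_OrthTSDefs
import Cfsg.Agent.Lib.Helper99_SpAtoms
import Cfsg.Agent.Lib.Helper8_OTS_ON
import Cfsg.Agent.Lib.Helper8_OTS_OD

set_option autoImplicit false

/-!
Package OC1 of helper99's orthogonal core (S5973, S5987): `V = Fix ⊥ [V, a]`, both nondegenerate.
-/

open Polynomial Module Matrix
open Cfsg.Agent.Lib.Helper40_SpBasic Cfsg.Agent.Lib.Helper40_OConj Cfsg.Agent.Lib.Helper40_OConj.OData
  Cfsg.Agent.Lib.Helper40_QuadIso Cfsg.Agent.Lib.Helper99_OrthTSDefs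

namespace Cfsg.Agent.Lib.Helper8_OrthTS_OC1

universe u

section abstract

variable {F : Type u} [Field F] [Fintype F] {p : ℕ} [Fact p.Prime] [CharP F p]
variable {V : Type u} [AddCommGroup V] [Module F V] [FiniteDimensional F V]
variable {Q : QuadraticForm F V} {a : Module.End F V} {r : ℕ}

/-- OC1: `V = Fix ⊥ [V, a]`, both nondegenerate. -/
theorem OC1 (hQ : (pol Q).Nondegenerate) (h : OData Q a r) :
    IsCompl (Module.End.eigenspace a 1) (comm a) ∧
    (∀ u ∈ Module.End.eigenspace a 1, ∀ v ∈ comm a, pol Q u v = 0) ∧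
    NDOn (pol Q) (Module.End.eigenspace a 1) ∧ NDOn (pol Q) (comm a) := by
  have horth : ∀ u ∈ Module.End.eigenspace a 1, ∀ v ∈ comm a, pol Q u v = 0 := by
    intro u hu v hv
    rw [Module.End.mem_eigenspace_iff, one_smul] at hu
    exact h.orth_of_fixed u hu v hv
  refine ⟨⟨Cfsg.Agent.Lib.Helper99_SpAtoms.disjoint_fix_range h.ne h.pow,
    codisjoint_iff.2 (Cfsg.Agent.Lib.Helper99_SpAtoms.fix_sup_range h.pos h.ne h.pow)⟩, horth, ?_, ?_⟩
  · rw [← Cfsg.Agent.Lib.Helper8_OTS_OD.ker_eq_eigenspace]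
    exact Cfsg.Agent.Lib.Helper8_OTS_ON.ON h hQ
  · intro x hx hxy
    apply hQ.1 x
    intro u
    obtain ⟨f, c, hf, hc, rfl⟩ := Cfsg.Agent.Lib.Helper8_OTS_ON.exists_fix_add_comm h u
    rw [map_add, hxy c hc, add_zero, pol_comm]
    exact h.orth_of_fixed f hf x hx

end abstract

end Cfsg.Agent.Lib.Helper8_OrthTS_OC1
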