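import Mathlib
import Cfsg.Agent.Lib.Helper99_OrthTSDefs

set_option autoImplicit false

/-!
Package OC2 of helper99's orthogonal core (S5973, S5987): on invariant subspaces of `[V, a]`,
totally singular for `Q` ⟺ totally isotropic for the twisted alternating form.
-/

open Polynomial Module Matrix
open Cfsg.Agent.Lib.Helper40_SpBasic Cfsg.Agent.Lib.Helper40_OConj Cfsg.Agent.Lib.Helper40_OConj.OData
  Cfsg.Agent.Lib.Helper40_QuadIso Cfsg.Agent.Lib.Helper99_OrthTSDefs

namespace Cfsg.Agent.Lib.Helper8_OrthTS_OC2

universe u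

/-- an endomorphism mapping a finite-dimensional subspace into itself injectively maps it onto
itself -/
theorem exists_preimage_of_injOn {F : Type u} [Field F] {V : Type u} [AddCommGroup V] [Module F V]
    [FiniteDimensional F V] (f : Module.End F V) (U : Submodule F V) (hf : ∀ x ∈ U, f x ∈ U)
    (hinj : ∀ x ∈ U, f x = 0 → x = 0) : ∀ y ∈ U, ∃ x ∈ U, f x = y := by
  have hf' : ∀ x ∈ U, f x ∈ U := hf
  set g : U →ₗ[F] U := f.restrict hf' with hg
  have hginj : Function.Injective g := by
    rw [← LinearMap.ker_eq_bot, LinearMap.ker_eq_bot']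
    intro x hx
    apply Subtype.ext
    apply hinj x x.2
    have := congrArg (Subtype.val) hx
    simpa [hg] using this
  have hgsurj : Function.Surjective g := LinearMap.injective_iff_surjective.1 hginj
  intro y hy
  obtain ⟨x, hx⟩ := hgsurj ⟨y, hy⟩
  refine ⟨x.1, x.2, ?_⟩
  have := congrArg (Subtype.val) hx
  simpa [hg] using this

section abstract

variable {F : Type u} [Field F] [Fintype F] {p : ℕ} [Fact p.Prime] [CharP F p]
variable {V : Type u} [AddCommGroup V] [Module F V] [FiniteDimensional F V]
variable {Q : QuadraticForm F V} {a : Module.End F V} {r : ℕ}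

/-- OC2: on invariant subspaces of `[V, a]`: totally singular for `Q` ⟺ totally isotropic for the twisted
alternating form `tw Q a r (x, y) = pol Q ((a - a⁻¹) x) y`. -/
theorem OC2 (h : OData Q a r) {U : Submodule F V} (hU : U ≤ comm a) (hUinv : Inv a U) :
    (∀ u ∈ U, Q u = 0) ↔ IsoOn (tw Q a r) U := by
  have hdelU : ∀ x ∈ U, del a r x ∈ U := by
    intro x hx
    show (a - a ^ (r - 1)) x ∈ U
    rw [LinearMap.sub_apply]
    exact U.sub_mem (hUinv x hx) (hUinv.pow_mem (r - 1) hx)
  constructor
  · intro hts x hx y hy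
    show pol Q (del a r x) y = 0
    rw [pol_apply, hts _ (U.add_mem (hdelU x hx) hy), hts _ (hdelU x hx), hts y hy]
    ring
  · intro hiso
    -- `pol Q` vanishes on `U`
    have hpol : ∀ x ∈ U, ∀ y ∈ U, pol Q x y = 0 := by
      intro x hx y hy
      obtain ⟨x', hx', rfl⟩ := exists_preimage_of_injOn (del a r) U hdelU
        (fun z hz hz0 => h.del_injOn z (hU hz) hz0) x hx
      exact hiso x' hx' y hy
    intro u hu
    have hsubU : ∀ x ∈ U, (a - 1) x ∈ U := by
      intro x hx
      rw [LinearMap.sub_apply, Module.End.one_apply]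
      exact U.sub_mem (hUinv x hx) hx
    obtain ⟨u', hu', rfl⟩ := exists_preimage_of_injOn (a - 1) U hsubU
      (fun z hz hz0 => by
        apply h.eq_zero_of_fixed z (hU hz)
        rw [LinearMap.sub_apply, Module.End.one_apply] at hz0
        exact sub_eq_zero.1 hz0) u hu
    rw [h.Q_comm, hpol _ (hsubU u' hu') u' hu', neg_zero]

end abstract

end Cfsg.Agent.Lib.Helper8_OrthTS_OC2
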