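import Mathlib
import Cfsg.Agent.Lib.Helper99_OrthTSDefs
import Cfsg.Agent.Lib.Helper8_OTS_OD
import Cfsg.Agent.Lib.Helper8_OrthTS_OC1

set_option autoImplicit false

/-!
Package OD of helper99's orthogonal core (S5973, S5987): decomposition of an invariant totally
singular subspace along `V = Fix ⊕ [V, a]`.
-/

open Polynomial Module Matrix
open Cfsg.Agent.Lib.Helper40_SpBasic Cfsg.Agent.Lib.Helper40_OConj Cfsg.Agent.Lib.Helper40_OConj.OData
  Cfsg.Agent.Lib.Helper40_QuadIso Cfsg.Agent.Lib.Helper99_OrthTSDefs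

namespace Cfsg.Agent.Lib.Helper8_OrthTS_OD

universe u

section abstract

variable {F : Type u} [Field F] [Fintype F] {p : ℕ} [Fact p.Prime] [CharP F p]
variable {V : Type u} [AddCommGroup V] [Module F V] [FiniteDimensional F V]
variable {Q : QuadraticForm F V} {a : Module.End F V} {r : ℕ}

/-- OD: decomposition of an invariant totally singular subspace. -/
theorem OD (hQ : (pol Q).Nondegenerate) (h : OData Q a r) (hr : r.Prime) (hrp : r ≠ p)
    {W : Submodule F V} (hW : Inv a W) (hWts : ∀ w ∈ W, Q w = 0) :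
    finrank F W = finrank F ↥(W ⊓ Module.End.eigenspace a 1) + finrank F ↥(W ⊓ comm a) ∧
    orderOf ((Fintype.card F : ℕ) : ZMod r) ∣ finrank F ↥(W ⊓ comm a) ∧
    2 * finrank F ↥(W ⊓ comm a) ≤ finrank F (comm a) := by
  have h1 := Cfsg.Agent.Lib.Helper8_OTS_OD.OD (p := p) h hQ hr hrp hW
    (show Cfsg.Agent.Lib.Helper84_OTSDefs.TSOn Q W from hWts)
  rw [Cfsg.Agent.Lib.Helper8_OTS_OD.ker_eq_eigenspace] at h1
  refine ⟨h1.1, h1.2.1, ?_⟩
  have hnd : NDOn (pol Q) (comm a) := (Cfsg.Agent.Lib.Helper8_OrthTS_OC1.OC1 hQ h).2.2.2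
  have hts : Cfsg.Agent.Lib.Helper84_OTSDefs.TSOn Q (W ⊓ comm a) := fun w hw => hWts w hw.1
  exact Cfsg.Agent.Lib.Helper8_OTS_OD.symm_two_mul_finrank_le (pol Q) (pol_comm Q) hnd inf_le_right
    hts.isoOn

end abstract

end Cfsg.Agent.Lib.Helper8_OrthTS_OD
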