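import Mathlib
import Cfsg.Prelude.Def_ParabolicCharacters
import Cfsg.Agent.Lib.Helper81_BNSub
import Cfsg.Agent.Lib.Helper81_BNBorel
import Cfsg.Agent.Lib.Helper81_ChevBorel
import Cfsg.Agent.Lib.Helper81_ChevStDeg
import Cfsg.Agent.Lib.Helper81_ChevParCent
import Cfsg.Agent.Lib.Helper18_ChevLevi
import Cfsg.Agent.Lib.Helper61_PC_CK_KJ
import Cfsg.Agent.Lib.Helper86_PC_CKDESC

set_option autoImplicit false
set_option linter.unusedSectionVars false
set_option linter.unusedVariables false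

/-!
# S2314 package CK-HK (helper8 for helper81): the hypotheses of `card_pElements` on `K_J = U_J`.
-/

namespace Cfsg.Agent.Lib.Helper81_PCountChev

open Cfsg Cfsg.Lie Cfsg.Agent.Lib.Helper18_ChevFast Cfsg.Agent.Lib.Helper18_ChevEngine
  Cfsg.Agent.Lib.Helper18_ChevR1 Cfsg.Agent.Lib.Helper18_ChevN Cfsg.Agent.Lib.Helper18_ChevR4
  Cfsg.Agent.Lib.Helper18_ChevSimple Cfsg.Agent.Lib.Helper18_ChevSimple2 Cfsg.Agent.Lib.Helper18_ChevFacts
  Cfsg.Agent.Lib.Helper18_ChevWeyl Cfsg.Agent.Lib.Helper18_ChevDiag Cfsg.Agent.Lib.Helper18_ChevCar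
  Cfsg.Agent.Lib.Helper18_ChevTorus Cfsg.Agent.Lib.Helper18_ChevGL Cfsg.Agent.Lib.Helper18_ChevComm
  Cfsg.Agent.Lib.Helper18_ChevComm2 Cfsg.Agent.Lib.Helper18_MatTri Cfsg.Agent.Lib.Helper18_ChevTri
  Cfsg.Agent.Lib.Helper18_ChevBorel Cfsg.Agent.Lib.Helper18_ChevAdd Cfsg.Agent.Lib.Helper18_ChevUni
  Cfsg.Agent.Lib.Helper18_ChevBN Cfsg.Agent.Lib.Helper18_ChevMono Cfsg.Agent.Lib.Helper18_ChevBNPair
  Cfsg.Agent.Lib.Helper18_ChevSimp Cfsg.Agent.Lib.Helper18_ChevJCerts Cfsg.Agent.Lib.Helper18_ChevLevi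
  Cfsg.Agent.Lib.Helper18_ChevBruhat Cfsg.Agent.Lib.Helper18_ChevPar Cfsg.Agent.Lib.Helper18_ChevRootHom
  Cfsg.Agent.Lib.Helper18_ChevOrder Cfsg.Agent.Lib.Helper18_ChevSylow
  Cfsg.Agent.Lib.Helper6_Word Cfsg.Agent.Lib.Helper6_BNPair Cfsg.Agent.Lib.Helper81_CoxComb
  Cfsg.Agent.Lib.Helper81_ChevLen Cfsg.Agent.Lib.Helper81_ChevLenBN Cfsg.Agent.Lib.Helper81_BNSteinberg
  Cfsg.Agent.Lib.Helper81_BNIndex Cfsg.Agent.Lib.Helper81_BNBorel Cfsg.Agent.Lib.Helper81_ChevSt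

variable {D : ChevalleyDatum} {Ns : List NData} {F : Type*} [Field F]
variable {wl : List ℤ} {ws : List (List ℤ)} {sc : ℤ} {w : List ℤ} {d : ℕ}

section bn

variable (P : Cfsg.BNPair ↥(D.group F))
  (hB : P.B = (D.borelSubgroup F).subgroupOf (D.group F))
  (hN : P.N = (D.monomialSubgroup F).subgroupOf (D.group F))
  (hS : P.S = {n : ↥(D.group F) | ∃ i < D.rank,
        ((n : GL D.Idx F) : Matrix D.Idx D.Idx F) = D.nMat F (D.simple i) 1})

include hB hN hS in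
/-- the hypotheses of `card_pElements` on `K_J = U_J` -/
theorem unipotentRadical_spec (c : DCert D Ns) (tc : TCert D) (ac : ACert D wl ws sc) (gc : GCert D w d)
    (hdesc : Descent D) (hR2 : R2All D F) (J : Finset ℕ) (hJ : J ⊆ Finset.range D.rank) :
    (D.unipotentRadical F (J : Set ℕ)).subgroupOf (D.group F) ≤
        (D.posUnipotent F).subgroupOf (D.group F) ∧
    (∀ g ∈ P.parabolic (sG c '' (J : Set ℕ)),
      ∀ k ∈ (D.unipotentRadical F (J : Set ℕ)).subgroupOf (D.group F),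
        g * k * g⁻¹ ∈ (D.unipotentRadical F (J : Set ℕ)).subgroupOf (D.group F)) ∧
    (∀ n : P.N, (n : ↥(D.group F)) ∈ P.parabolic (sG c '' (J : Set ℕ)) →
      (∀ σ : P.N, (σ : ↥(D.group F)) ∈ sG c '' (J : Set ℕ) → ℓ P (σ * n) < ℓ P n) →
      ∀ u ∈ (D.posUnipotent F).subgroupOf (D.group F),
        (u ∈ (D.unipotentRadical F (J : Set ℕ)).subgroupOf (D.group F) ↔
          (n : ↥(D.group F))⁻¹ * u * n ∈ P.B)) := by
  have hpar : ∀ g : ↥(D.group F), g ∈ P.parabolic (sG c '' (J : Set ℕ)) →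
      (g : GL D.Idx F) ∈ D.parabolicSubgroup F (J : Set ℕ) := by
    intro g hg
    rw [← parabolicIn_eq c P hB J hJ] at hg
    exact hg
  refine ⟨?_, ?_, ?_⟩
  · intro g hg
    rw [Subgroup.mem_subgroupOf] at hg ⊢
    exact Cfsg.Agent.Lib.Helper81_ChevParCent.unipotentRadical_le_pos (J : Set ℕ) hg
  · intro g hg k hk
    rw [Subgroup.mem_subgroupOf] at hk ⊢
    have hnorm := parabolic_le_normalizer (J := (J : Set ℕ)) c tc ac hR2 (hpar g hg)
    rw [Subgroup.mem_normalizer_iff] at hnorm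
    have := (hnorm (k : GL D.Idx F)).1 hk
    simpa only [Subgroup.coe_mul, Subgroup.coe_inv] using this
  · intro n hn hdescn u hu
    rw [Subgroup.mem_subgroupOf] at hu
    rw [Subgroup.mem_subgroupOf, mem_B_iff P hB]
    have hneg : ∀ j < D.rank, j ∈ (J : Set ℕ) →
        D.IsNegRoot (piOf c tc (toN P hN n)⁻¹ (D.simple j)) := by
      intro j hj hjJ
      refine isNeg_of_descent P hB hN hS c tc ac gc hdesc hR2 n j hj (hdescn _ ?_)
      exact ⟨j, hjJ, rfl⟩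
    have key := mem_unipotentRadical_iff c tc ac gc hdesc hR2 (J : Set ℕ) (toN P hN n)
      (hpar _ hn) hneg (u : GL D.Idx F) hu
    simpa only [Subgroup.coe_mul, Subgroup.coe_inv, toN_coe] using key

end bn

end Cfsg.Agent.Lib.Helper81_PCountChev
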