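import Mathlib
import Cfsg.Agent.Lib.Helper56_PGDefs
import Cfsg.Agent.Lib.Helper73_PG_ARITH

/-!
# S4085 package L3, core (helper56's market `s4085_packages`)

Twin classes below an element of non-prime-power order are plain: `cls y = φ (o(y))` for
`y ∈ ⟨x⟩`, `NPP (o(x))`.  The statements of CYC (`mem_zpowers_iff_orderOf_dvd`,
`exists_mem_zpowers_orderOf_eq`) and L2 (`tw_iff_of_npp`, `cls_of_npp`) are hypotheses here.
-/

set_option autoImplicit false
set_option linter.unusedSectionVars false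

namespace Cfsg.Agent.Lib.Helper8_PG_L3aux

open Cfsg.Agent.Lib.Helper56_PGDefs

section basic
variable {G : Type*} [Group G]

theorem cmp_refl' (x : G) : Cmp x x := Or.inl (Subgroup.mem_zpowers x)

theorem cmp_one' (x : G) : Cmp 1 x := Or.inl (Subgroup.one_mem _)

theorem tw_symm' {V : Type*} (R : V → V → Prop) {x y : V} (h : Tw R x y) : Tw R y x :=
  fun z => (h z).symm

theorem tw_of_zpowers_eq' {x y : G} (h : Subgroup.zpowers y = Subgroup.zpowers x) :
    Tw (Cmp (G := G)) x y := by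
  intro z
  unfold Cmp
  rw [h]
  have e : x ∈ Subgroup.zpowers z ↔ y ∈ Subgroup.zpowers z := by
    rw [← Subgroup.zpowers_le, ← Subgroup.zpowers_le (g := y), h]
  rw [e]

/-- the number of generators of `⟨y⟩` -/
theorem card_gen [Finite G] (y : G) :
    Nat.card {y' : G // Subgroup.zpowers y' = Subgroup.zpowers y} = Nat.totient (orderOf y) := by
  classical
  have hn : 0 < orderOf y := orderOf_pos y
  rw [Nat.totient_eq_card_coprime]
  let S := (Finset.range (orderOf y)).filter (orderOf y).Coprime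
  have hmem : ∀ k : ℕ, (orderOf y).Coprime k → Subgroup.zpowers (y ^ k) = Subgroup.zpowers y := by
    intro k hk
    apply le_antisymm
    · rw [Subgroup.zpowers_le]; exact Subgroup.pow_mem _ (Subgroup.mem_zpowers y) k
    · rw [Subgroup.zpowers_le, mem_zpowers_pow_iff]
      exact Nat.Coprime.symm hk
  let f : {k // k ∈ S} → {y' : G // Subgroup.zpowers y' = Subgroup.zpowers y} :=
    fun k => ⟨y ^ k.1, hmem k.1 (Finset.mem_filter.mp k.2).2⟩
  have hf : Function.Bijective f := by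
    constructor
    · intro a b hab
      have h1 : y ^ a.1 = y ^ b.1 := congrArg Subtype.val hab
      have ha := Finset.mem_range.mp (Finset.mem_filter.mp a.2).1
      have hb := Finset.mem_range.mp (Finset.mem_filter.mp b.2).1
      exact Subtype.ext (pow_injOn_Iio_orderOf ha hb h1)
    · rintro ⟨y', hy'⟩
      have h1 : y' ∈ Subgroup.zpowers y := by rw [← hy']; exact Subgroup.mem_zpowers y'
      obtain ⟨k, hk, rfl⟩ := Finset.mem_image.mp ((mem_zpowers_iff_mem_range_orderOf).mp h1)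
      rw [Finset.mem_range] at hk
      have h2 : y ∈ Subgroup.zpowers (y ^ k) := by rw [hy']; exact Subgroup.mem_zpowers y
      rw [mem_zpowers_pow_iff] at h2
      exact ⟨⟨k, Finset.mem_filter.mpr ⟨Finset.mem_range.mpr hk, Nat.Coprime.symm h2⟩⟩, rfl⟩
  rw [← Nat.card_congr (Equiv.ofBijective f hf), Nat.card_eq_fintype_card, Fintype.card_coe]

end basic

section arith

/-- `m > 1` prime to the prime `r` does not divide a power of `r` -/
theorem not_dvd_pow {r m j : ℕ} (hr : r.Prime) (hm : 1 < m) (hrm : ¬ r ∣ m) : ¬ m ∣ r ^ j := by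
  intro h
  obtain ⟨p, hp, hpm⟩ := Nat.exists_prime_and_dvd (by omega : m ≠ 1)
  have h1 : p ∣ r ^ j := hpm.trans h
  have h2 : p ∣ r := hp.dvd_of_dvd_pow h1
  have h3 : p = r := (Nat.prime_dvd_prime_iff_eq hp hr).mp h2
  exact hrm (h3 ▸ hpm)

theorem le_of_pow_dvd_pow_mul {r m j k : ℕ} (hr : r.Prime) (hrm : ¬ r ∣ m)
    (h : r ^ j ∣ r ^ k * m) : j ≤ k := by
  have hc : Nat.Coprime (r ^ j) m := Nat.Coprime.pow_left j ((Nat.Prime.coprime_iff_not_dvd hr).mpr hrm)
  have h1 : r ^ j ∣ r ^ k := hc.dvd_of_dvd_mul_right h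
  exact (Nat.pow_dvd_pow_iff_le_right hr.one_lt).mp h1

end arith

section main
variable {G : Type*} [Group G] [Finite G] (hS : ∀ x : G, Dom (Cmp (G := G)) x → x = 1)
include hS

theorem cls_one_aux : cls (Cmp (G := G)) (1 : G) = 1 := by
  unfold cls
  rw [Nat.card_eq_one_iff_unique]
  constructor
  · constructor
    rintro ⟨a, ha⟩ ⟨b, hb⟩
    have ha1 : a = 1 := hS a (fun z => (ha z).mp (cmp_one' z))
    have hb1 : b = 1 := hS b (fun z => (hb z).mp (cmp_one' z))
    exact Subtype.ext (ha1.trans hb1.symm)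
  · exact ⟨⟨1, fun z => Iff.rfl⟩⟩

theorem tw_iff_of_mem_zpowers_npp_aux
    (cyc1 : ∀ {x u v : G}, u ∈ Subgroup.zpowers x → v ∈ Subgroup.zpowers x →
      (u ∈ Subgroup.zpowers v ↔ orderOf u ∣ orderOf v))
    (cyc2 : ∀ {x : G} {d : ℕ}, d ∣ orderOf x → ∃ y ∈ Subgroup.zpowers x, orderOf y = d)
    (l2 : ∀ {x y : G}, NPP (orderOf x) →
      (Tw (Cmp (G := G)) x y ↔ Subgroup.zpowers y = Subgroup.zpowers x))
    {x y y' : G} (hx : NPP (orderOf x)) (hy : y ∈ Subgroup.zpowers x) (hy1 : y ≠ 1) :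
    Tw (Cmp (G := G)) y y' ↔ Subgroup.zpowers y' = Subgroup.zpowers y := by
  constructor
  swap
  · exact tw_of_zpowers_eq'
  intro htw
  by_cases hyn : NPP (orderOf y)
  · exact (l2 hyn).mp htw
  -- `o(y) = r ^ k`
  have hy0 : orderOf y ≠ 0 := (orderOf_pos y).ne'
  have hpp : IsPrimePow (orderOf y) := by
    rcases Cfsg.Agent.Lib.Helper73_PG_ARITH.npp_trichotomy hy0 with h | h | h
    · exact absurd (orderOf_eq_one_iff.mp h) hy1
    · exact h
    · exact absurd h hyn
  obtain ⟨r, k, hr, hk, hrk⟩ := hpp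
  have hr' : r.Prime := hr.nat_prime
  -- `o(x) = r ^ a * m`
  have hx0 : orderOf x ≠ 0 := (orderOf_pos x).ne'
  obtain ⟨a, m, hrm, hxam⟩ := Nat.exists_eq_pow_mul_and_not_dvd hx0 r hr'.ne_one
  have hm1 : 1 < m := by
    by_contra hcon
    have hm0 : m ≠ 0 := by
      rintro rfl
      rw [mul_zero] at hxam
      exact hx0 hxam
    have hm : m = 1 := by omega
    rw [hm, mul_one] at hxam
    have ha0 : 0 < a := by
      rcases Nat.eq_zero_or_pos a with h | h
      · exfalso
        rw [h, pow_zero] at hxam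
        obtain ⟨p, s, hp, -, -, hpd, -⟩ := hx
        rw [hxam] at hpd
        exact hp.one_lt.ne' (Nat.dvd_one.mp hpd)
      · exact h
    exact Cfsg.Agent.Lib.Helper73_PG_ARITH.npp_not_isPrimePow hx ⟨r, a, hr, ha0, hxam.symm⟩
  have hyx : orderOf y ∣ orderOf x := orderOf_dvd_of_mem_zpowers hy
  have hka : k ≤ a := by
    rw [← hrk, hxam] at hyx
    exact le_of_pow_dvd_pow_mul hr' hrm hyx
  -- `y' ≠ 1`
  have hy'1 : y' ≠ 1 := by
    rintro rfl
    apply hy1
    exact hS y (fun z => (htw z).mpr (cmp_one' z))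
  have hcmp : Cmp y y' := (htw y').mpr (cmp_refl' y')
  -- elements of `⟨x⟩` of order `r ^ i * m`, `i ≤ a`
  have hz : ∀ i, i ≤ a → ∃ z ∈ Subgroup.zpowers x, orderOf z = r ^ i * m := by
    intro i hi
    apply cyc2
    rw [hxam]
    exact Nat.mul_dvd_mul_right (Nat.pow_dvd_pow r hi) m
  rcases hcmp with h | h
  · -- `y ∈ ⟨y'⟩`
    by_cases hy'n : NPP (orderOf y')
    · exact ((l2 hy'n).mp (tw_symm' _ htw)).symm
    have hy'0 : orderOf y' ≠ 0 := (orderOf_pos y').ne'
    have hpp' : IsPrimePow (orderOf y') := by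
      rcases Cfsg.Agent.Lib.Helper73_PG_ARITH.npp_trichotomy hy'0 with h' | h' | h'
      · exact absurd (orderOf_eq_one_iff.mp h') hy'1
      · exact h'
      · exact absurd h' hy'n
    obtain ⟨s, j, hs, hj, hsj⟩ := hpp'
    have hs' : s.Prime := hs.nat_prime
    have hdvd : orderOf y ∣ orderOf y' := orderOf_dvd_of_mem_zpowers h
    have hrs : r = s := by
      have h1 : r ∣ s ^ j := by
        rw [hsj]
        refine dvd_trans ?_ hdvd
        rw [← hrk]
        exact dvd_pow_self r (by omega)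
      exact (Nat.prime_dvd_prime_iff_eq hr' hs').mp (hr'.dvd_of_dvd_pow h1)
    subst hrs
    have hkj : k ≤ j := by
      rw [← hrk, ← hsj] at hdvd
      exact (Nat.pow_dvd_pow_iff_le_right hr'.one_lt).mp hdvd
    have hjk : j ≤ k := by
      by_contra hcon
      obtain ⟨z, hzx, hzo⟩ := hz k hka
      -- `y ∈ ⟨z⟩`
      have hyz : y ∈ Subgroup.zpowers z := by
        rw [cyc1 hy hzx, hzo, ← hrk]
        exact Dvd.intro _ rfl
      have hc : Cmp y' z := (htw z).mp (Or.inl hyz)
      rcases hc with h' | h'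
      · -- `y' ∈ ⟨z⟩`
        have := orderOf_dvd_of_mem_zpowers h'
        rw [hzo, ← hsj] at this
        exact hcon (le_of_pow_dvd_pow_mul hr' hrm this)
      · -- `z ∈ ⟨y'⟩`
        have := orderOf_dvd_of_mem_zpowers h'
        rw [hzo, ← hsj] at this
        exact not_dvd_pow hr' hm1 hrm ((Dvd.intro_left _ rfl).trans this)
    have hjk' : j = k := le_antisymm hjk hkj
    -- equal orders and `y ∈ ⟨y'⟩`
    symm
    apply Subgroup.eq_of_le_of_card_ge (Subgroup.zpowers_le.mpr h)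
    rw [Nat.card_zpowers, Nat.card_zpowers, ← hrk, ← hsj, hjk']
  · -- `y' ∈ ⟨y⟩`
    have hdvd : orderOf y' ∣ orderOf y := orderOf_dvd_of_mem_zpowers h
    rw [← hrk] at hdvd
    obtain ⟨i, hik, hi⟩ := (Nat.dvd_prime_pow hr').mp hdvd
    have hy'x : y' ∈ Subgroup.zpowers x := (Subgroup.zpowers_le.mpr hy) h
    have hki : k ≤ i := by
      by_contra hcon
      obtain ⟨z, hzx, hzo⟩ := hz i (by omega)
      have hy'z : y' ∈ Subgroup.zpowers z := by
        rw [cyc1 hy'x hzx, hzo, hi]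
        exact Dvd.intro _ rfl
      have hc : Cmp y z := (htw z).mpr (Or.inl hy'z)
      rcases hc with h' | h'
      · -- `y ∈ ⟨z⟩`
        have := orderOf_dvd_of_mem_zpowers h'
        rw [hzo, ← hrk] at this
        exact hcon (le_of_pow_dvd_pow_mul hr' hrm this)
      · -- `z ∈ ⟨y⟩`
        have := orderOf_dvd_of_mem_zpowers h'
        rw [hzo, ← hrk] at this
        exact not_dvd_pow hr' hm1 hrm ((Dvd.intro_left _ rfl).trans this)
    have hik' : i = k := le_antisymm hik hki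
    apply Subgroup.eq_of_le_of_card_ge (Subgroup.zpowers_le.mpr h)
    rw [Nat.card_zpowers, Nat.card_zpowers, ← hrk, hi, hik']

theorem cls_of_mem_zpowers_npp_aux
    (cyc1 : ∀ {x u v : G}, u ∈ Subgroup.zpowers x → v ∈ Subgroup.zpowers x →
      (u ∈ Subgroup.zpowers v ↔ orderOf u ∣ orderOf v))
    (cyc2 : ∀ {x : G} {d : ℕ}, d ∣ orderOf x → ∃ y ∈ Subgroup.zpowers x, orderOf y = d)
    (l2 : ∀ {x y : G}, NPP (orderOf x) →
      (Tw (Cmp (G := G)) x y ↔ Subgroup.zpowers y = Subgroup.zpowers x))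
    {x y : G} (hx : NPP (orderOf x)) (hy : y ∈ Subgroup.zpowers x) :
    cls (Cmp (G := G)) y = Nat.totient (orderOf y) := by
  by_cases hy1 : y = 1
  · subst hy1
    rw [cls_one_aux hS, orderOf_one, Nat.totient_one]
  · unfold cls
    rw [← card_gen y]
    apply Nat.card_congr
    apply Equiv.subtypeEquivRight
    intro y'
    exact tw_iff_of_mem_zpowers_npp_aux hS cyc1 cyc2 l2 hx hy hy1

end main

end Cfsg.Agent.Lib.Helper8_PG_L3aux
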