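import Mathlib
import Cfsg.Agent.Lib.Helper56_PGDefs
import Cfsg.Agent.Lib.Helper89_PG_CYC
import Cfsg.Agent.Lib.Helper5_PG_L2
import Cfsg.Agent.Lib.Helper8_PG_L3aux

/-!
# S4085 package L3 (helper56's market `s4085_packages`), second seat

§2 Lemma 3: twin classes below an element of non-prime-power order are plain.
-/

set_option autoImplicit false

namespace Cfsg.Agent.Lib.Helper8_PG_L3

open Cfsg.Agent.Lib.Helper56_PGDefs

section main
variable {G : Type*} [Group G] [Finite G] (hS : ∀ x : G, Dom (Cmp (G := G)) x → x = 1)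
include hS

theorem cls_one : cls (Cmp (G := G)) (1 : G) = 1 :=
  Cfsg.Agent.Lib.Helper8_PG_L3aux.cls_one_aux hS

theorem cls_of_mem_zpowers_npp {x y : G} (hx : NPP (orderOf x)) (hy : y ∈ Subgroup.zpowers x) :
    cls (Cmp (G := G)) y = Nat.totient (orderOf y) :=
  Cfsg.Agent.Lib.Helper8_PG_L3aux.cls_of_mem_zpowers_npp_aux hS
    (fun hu hv => Cfsg.Agent.Lib.Helper89_PG_CYC.mem_zpowers_iff_orderOf_dvd hu hv)
    (fun hd => Cfsg.Agent.Lib.Helper89_PG_CYC.exists_mem_zpowers_orderOf_eq hd)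
    (fun hx => Cfsg.Agent.Lib.Helper5_PG_L2.tw_iff_of_npp hS hx) hx hy

end main

end Cfsg.Agent.Lib.Helper8_PG_L3
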