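import Mathlib
import Cfsg.Agent.Lib.Helper56_PGDefs

/-!
# S4085 package TWOB, core (helper56's market `s4085_packages`)

The criterion `PhiTwo q` produces an element of order `2 q`; the statements of the other packages
that are used (CYC, L2, L3, COUNTB, ARITH) are hypotheses here.
-/

set_option autoImplicit false

namespace Cfsg.Agent.Lib.Helper8_PG_TWOBaux

open Cfsg.Agent.Lib.Helper56_PGDefs

/-- `φ n ≤ 1` forces `n ≤ 2` -/
theorem le_two_of_totient_le_one {n : ℕ} (h : Nat.totient n ≤ 1) : n ≤ 2 := by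
  by_contra hn
  have h2 : 2 < n := by omega
  have he := Nat.totient_even h2
  have hp : 0 < Nat.totient n := Nat.totient_pos.mpr (by omega)
  obtain ⟨k, hk⟩ := he
  omega

theorem orderOf_of_phiTwo_aux {G : Type*} [Group G] [Finite G]
    (cyc1 : ∀ {x u v : G}, u ∈ Subgroup.zpowers x → v ∈ Subgroup.zpowers x →
      (u ∈ Subgroup.zpowers v ↔ orderOf u ∣ orderOf v))
    (cmp1 : ∀ x : G, Cmp 1 x)
    (tot_le : ∀ x : G, Nat.totient (orderOf x) ≤ cls (Cmp (G := G)) x)
    (cls_npp : ∀ {x : G}, NPP (orderOf x) → cls (Cmp (G := G)) x = Nat.totient (orderOf x))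
    (cls1 : cls (Cmp (G := G)) (1 : G) = 1)
    (cls_sub : ∀ {x y : G}, NPP (orderOf x) → y ∈ Subgroup.zpowers x →
      cls (Cmp (G := G)) y = Nat.totient (orderOf y))
    (card_lo : ∀ {x : G}, NPP (orderOf x) → Nat.card (Lo (Cmp (G := G)) x) =
      orderOf x - Nat.totient (orderOf x) -
        (if orderOf x % 4 = 2 then Nat.totient (orderOf x) else 0))
    (tri : ∀ {n : ℕ}, n ≠ 0 → n = 1 ∨ IsPrimePow n ∨ NPP n)
    (tot_eq : ∀ {n d : ℕ}, n ≠ 0 → d ∣ n → Nat.totient d = Nat.totient n →
      d = n ∨ (n = 2 * d ∧ Odd d))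
    {q : ℕ} (hq : q.Prime) (hq2 : q ≠ 2)
    (h : PhiTwo (Cmp (G := G)) q) : ∃ g : G, orderOf g = 2 * q := by
  obtain ⟨x, t, y, hdom, hclst, hctx, hclsx, hlo, hcxy, hcyt, hclsy⟩ := h
  have hq3 : 3 ≤ q := by
    have := hq.two_le
    omega
  -- `t ≠ 1`
  have ht1 : t ≠ 1 := by
    rintro rfl
    exact hdom (fun z => cmp1 z)
  -- `o(t) = 2`
  have hot : orderOf t = 2 := by
    have h1 : Nat.totient (orderOf t) ≤ 1 := by rw [← hclst]; exact tot_le t
    have h2 := le_two_of_totient_le_one h1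
    have h3 : 0 < orderOf t := orderOf_pos t
    have h4 : orderOf t ≠ 1 := fun h => ht1 (orderOf_eq_one_iff.mp h)
    omega
  -- `t ∈ ⟨x⟩`
  have htx : t ∈ Subgroup.zpowers x := by
    rcases hctx with h | h
    · exact h
    · exfalso
      -- `x ∈ ⟨t⟩ = {1, t}`
      obtain ⟨k, hk⟩ := Subgroup.mem_zpowers_iff.mp h
      have ht2 : t ^ (2 : ℤ) = 1 := by
        have h' := pow_orderOf_eq_one t
        rw [hot] at h'
        rw [show (2 : ℤ) = ((2 : ℕ) : ℤ) from rfl, zpow_natCast]
        exact h'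
      rcases Int.even_or_odd' k with ⟨j, hj | hj⟩
      · have : t ^ k = 1 := by rw [hj, zpow_mul, ht2, one_zpow]
        rw [← hk, this, cls1] at hclsx
        omega
      · have : t ^ k = t := by rw [hj, zpow_add, zpow_mul, ht2, one_zpow, one_mul, zpow_one]
        rw [← hk, this, hclst] at hclsx
        omega
  have h2n : 2 ∣ orderOf x := by
    rw [← hot]; exact orderOf_dvd_of_mem_zpowers htx
  have hn0 : orderOf x ≠ 0 := (orderOf_pos x).ne'
  have hxx : x ∈ Subgroup.zpowers x := Subgroup.mem_zpowers x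
  -- `y ∈ ⟨x⟩`
  have hyx : y ∈ Subgroup.zpowers x := by
    rcases hcxy with h | h
    · exfalso
      apply hcyt
      right
      exact (Subgroup.zpowers_le.mpr h) htx
    · exact h
  have hy1 : y ≠ 1 := by
    rintro rfl
    exact hcyt (cmp1 t)
  -- `o(y)` is odd
  have hdodd : ¬ 2 ∣ orderOf y := by
    intro h2
    apply hcyt
    right
    rw [cyc1 htx hyx, hot]
    exact h2
  -- `NPP (o(x))`
  have hnpp : NPP (orderOf x) := by
    rcases tri hn0 with h | h | h
    · exfalso
      rw [h] at h2n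
      omega
    · exfalso
      -- `o(x)` is a power of two; `o(y)` divides it and is odd, so `y = 1`
      obtain ⟨r, k, hr, hk, hrk⟩ := h
      have hr' : Nat.Prime r := hr.nat_prime
      have hr2 : r = 2 := by
        have : 2 ∣ r ^ k := by rw [hrk]; exact h2n
        have := (Nat.Prime.dvd_of_dvd_pow Nat.prime_two this)
        exact ((Nat.prime_dvd_prime_iff_eq Nat.prime_two hr').mp this).symm
      have hdy : orderOf y ∣ 2 ^ k := by
        rw [← hr2, hrk]; exact orderOf_dvd_of_mem_zpowers hyx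
      obtain ⟨i, -, hi⟩ := (Nat.dvd_prime_pow Nat.prime_two).mp hdy
      rcases Nat.eq_zero_or_pos i with hi0 | hi0
      · rw [hi0, pow_zero] at hi
        exact hy1 (orderOf_eq_one_iff.mp hi)
      · apply hdodd
        rw [hi]
        exact dvd_pow_self 2 (by omega)
    · exact h
  -- class sizes
  have hcx : Nat.totient (orderOf x) = q - 1 := by rw [← hclsx]; exact (cls_npp hnpp).symm
  have hcy : Nat.totient (orderOf y) = q - 1 := by rw [← hclsy]; exact (cls_sub hnpp hyx).symm
  have hdn : orderOf y ∣ orderOf x := orderOf_dvd_of_mem_zpowers hyx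
  have hne : orderOf y ≠ orderOf x := by
    intro h
    rw [h] at hdodd
    exact hdodd h2n
  obtain ⟨hn2d, hodd⟩ : orderOf x = 2 * orderOf y ∧ Odd (orderOf y) := by
    rcases tot_eq hn0 hdn (hcy.trans hcx.symm) with h | h
    · exact absurd h hne
    · exact h
  -- the count
  have hcard := card_lo hnpp
  rw [hlo] at hcard
  have hmod : orderOf x % 4 = 2 := by
    obtain ⟨j, hj⟩ := hodd
    rw [hn2d, hj]
    omega
  rw [if_pos hmod, hcx, hn2d] at hcard
  have hd1 : 1 < orderOf y := by
    have h3 : 0 < orderOf y := orderOf_pos y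
    have h4 : orderOf y ≠ 1 := fun h => hy1 (orderOf_eq_one_iff.mp h)
    omega
  have hlt : Nat.totient (orderOf y) < orderOf y := Nat.totient_lt _ hd1
  rw [hcy] at hlt
  have hdq : orderOf y = q := by omega
  exact ⟨x, by rw [hn2d, hdq]⟩

end Cfsg.Agent.Lib.Helper8_PG_TWOBaux
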