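import Mathlib
import Cfsg.Agent.Lib.Helper56_PGDefs
import Cfsg.Agent.Lib.Helper89_PG_CYC
import Cfsg.Agent.Lib.Helper73_PG_ARITH
import Cfsg.Agent.Lib.Helper89_PG_L2
import Cfsg.Agent.Lib.Helper89_PG_L3
import Cfsg.Agent.Lib.Helper52_PG_L6
import Cfsg.Agent.Lib.Helper73_PG_COUNTA
import Cfsg.Agent.Lib.Helper10_PG_COUNTBa
import Cfsg.Agent.Lib.Helper8_PG_TWOBaux

set_option autoImplicit false
set_option linter.unusedSectionVars false

/-!
# S4085 package TWOB (helper8 for helper56): `PhiTwo Cmp q` gives an element of order `2 q`.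
Verbatim wrapper of `Helper8_PG_TWOBaux.orderOf_of_phiTwo_aux` over the landed packages
CYC, ARITH, L2, L3, L6, COUNTA and the conditional COUNTB (`Helper10_PG_COUNTBa`).
-/

namespace Cfsg.Agent.Lib.Helper8_PG_TWOB

open Cfsg.Agent.Lib.Helper56_PGDefs

section main
variable {G : Type*} [Group G] [Finite G] (hS : ∀ x : G, Dom (Cmp (G := G)) x → x = 1)
include hS

/-- COUNTB, assembled from the landed packages -/
theorem card_lo_of_npp' {x : G} (hx : NPP (orderOf x)) :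
    Nat.card (Lo (Cmp (G := G)) x) =
      orderOf x - Nat.totient (orderOf x) -
        (if orderOf x % 4 = 2 then Nat.totient (orderOf x) else 0) :=
  Cfsg.Agent.Lib.Helper10_PG_COUNTBa.card_lo_of_npp_of
    (fun hx => Cfsg.Agent.Lib.Helper89_PG_L2.cls_of_npp hS hx)
    (fun hx hy => Cfsg.Agent.Lib.Helper89_PG_L3.cls_of_mem_zpowers_npp hS hx hy)
    (Cfsg.Agent.Lib.Helper52_PG_L6.lo_subset_zpowers hS)
    Cfsg.Agent.Lib.Helper73_PG_COUNTA.card_totient_lt hx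

theorem orderOf_of_phiTwo {q : ℕ} (hq : q.Prime) (hq2 : q ≠ 2)
    (h : PhiTwo (Cmp (G := G)) q) : ∃ g : G, orderOf g = 2 * q :=
  Cfsg.Agent.Lib.Helper8_PG_TWOBaux.orderOf_of_phiTwo_aux
    (fun hu hv => Cfsg.Agent.Lib.Helper89_PG_CYC.mem_zpowers_iff_orderOf_dvd hu hv)
    Cfsg.Agent.Lib.Helper89_PG_CYC.cmp_one
    Cfsg.Agent.Lib.Helper89_PG_CYC.totient_le_cls
    (fun hx => Cfsg.Agent.Lib.Helper89_PG_L2.cls_of_npp hS hx)
    (Cfsg.Agent.Lib.Helper89_PG_L3.cls_one hS)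
    (fun hx hy => Cfsg.Agent.Lib.Helper89_PG_L3.cls_of_mem_zpowers_npp hS hx hy)
    (fun hx => card_lo_of_npp' hS hx)
    (fun hn => Cfsg.Agent.Lib.Helper73_PG_ARITH.npp_trichotomy hn)
    (fun hn hd h => Cfsg.Agent.Lib.Helper73_PG_ARITH.totient_eq_of_dvd hn hd h)
    hq hq2 h

end main

end Cfsg.Agent.Lib.Helper8_PG_TWOB
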