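import Mathlib

/-!
# Packed linear checks in natural-number arithmetic (helper8)

Integer linear forms `∑ (pⱼ - qⱼ) (aⱼ - 4)` in small naturals `aⱼ ≤ 15` are checked in the kernel by
natural-number arithmetic only, three columns at a time (lanes of `32` bits).
-/

set_option autoImplicit false

namespace Cfsg.Agent.Lib.Helper8_PackLin

universe u

/-- Strict application (the kernel evaluates `n` first). -/
@[inline] def frc {α : Sort u} (n : ℕ) (f : ℕ → α) : α :=
  Nat.rec (motive := fun _ => α) (f 0) (fun a _ => f a) (Nat.add n 1)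

theorem frc_eq {α : Sort u} (n : ℕ) (f : ℕ → α) : frc n f = f n := rfl

/-- Evaluate the members of a list first. -/
def forceL {α : Sort u} : List ℕ → (List ℕ → α) → α
  | [], k => k []
  | a :: l, k => frc a fun a' => forceL l fun l' => k (a' :: l')

theorem forceL_eq {α : Sort u} (l : List ℕ) (k : List ℕ → α) : forceL l k = k l := by
  induction l generalizing k with
  | nil => rfl
  | cons a l ih => simp only [forceL, frc_eq, ih]

/-- The lane width. -/
def BB : ℕ := 4294967296

/-- Three small numbers in one. -/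
def pack (x : ℕ × ℕ × ℕ) : ℕ := Nat.add x.1 (Nat.add (Nat.mul BB x.2.1) (Nat.mul (Nat.mul BB BB) x.2.2))

/-- `1 + BB + BB²`. -/
def UU : ℕ := 18446744078004518913

theorem pack_eq (a b c : ℕ) : pack (a, b, c) = a + BB * b + BB * BB * c := by
  simp only [pack, Nat.add_eq, Nat.mul_eq]; ring

/-- The positive part of a linear form. -/
def dotP : List (ℕ × ℕ) → List ℕ → ℕ
  | pq :: row, v :: vs => Nat.add (Nat.mul pq.1 v) (dotP row vs)
  | _, _ => 0

/-- The negative part of a linear form. -/
def dotQ : List (ℕ × ℕ) → List ℕ → ℕ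
  | pq :: row, v :: vs => Nat.add (Nat.mul pq.2 v) (dotQ row vs)
  | _, _ => 0

/-- The integer linear form. -/
def dotM : List (ℕ × ℕ) → List ℤ → ℤ
  | pq :: row, x :: xs => ((pq.1 : ℤ) - pq.2) * x + dotM row xs
  | _, _ => 0

/-- A dot product of integer lists. -/
def dotZ : List ℤ → List ℤ → ℤ
  | a :: as, b :: bs => a * b + dotZ as bs
  | _, _ => 0

theorem dotM_eq (row : List (ℕ × ℕ)) (xs : List ℤ) :
    dotM row xs = dotZ (row.map fun pq => (pq.1 : ℤ) - pq.2) xs := by
  induction row generalizing xs with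
  | nil => cases xs <;> rfl
  | cons pq row ih =>
    cases xs with
    | nil => rfl
    | cons x xs => simp only [dotM, List.map_cons, dotZ, ih]

theorem dotZ_append (a a' b b' : List ℤ) (h : a.length = b.length) :
    dotZ (a ++ a') (b ++ b') = dotZ a b + dotZ a' b' := by
  induction a generalizing b with
  | nil =>
    cases b with
    | nil => simp [dotZ]
    | cons _ _ => simp at h
  | cons x a ih =>
    cases b with
    | nil => simp at h
    | cons y b =>
      simp only [List.length_cons, add_left_inj] at h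
      simp only [List.cons_append, dotZ, ih b h]
      ring

/-- The integer coded by a small natural number. -/
def sh (a : ℕ) : ℤ := (a : ℤ) - 4

theorem dotM_shift (row : List (ℕ × ℕ)) (vs : List ℕ) :
    dotM row (vs.map sh) = (dotP row vs : ℤ) - dotQ row vs -
      4 * ((dotP row (vs.map fun _ => 1) : ℤ) - dotQ row (vs.map fun _ => 1)) := by
  induction row generalizing vs with
  | nil => cases vs <;> simp [dotM, dotP, dotQ]
  | cons pq row ih =>
    cases vs with
    | nil => simp [dotM, dotP, dotQ]
    | cons v vs =>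
      simp only [List.map_cons, dotM, dotP, dotQ, Nat.add_eq, Nat.mul_eq, ih, sh]
      push_cast
      ring

theorem dotP_le (row : List (ℕ × ℕ)) (vs : List ℕ) (h : ∀ v ∈ vs, v ≤ 15) :
    dotP row vs ≤ 15 * dotP row (vs.map fun _ => 1) := by
  induction row generalizing vs with
  | nil => cases vs <;> simp [dotP]
  | cons pq row ih =>
    cases vs with
    | nil => simp [dotP]
    | cons v vs =>
      have hv : v ≤ 15 := h v (List.mem_cons_self)
      have ih' := ih vs (fun w hw => h w (List.mem_cons_of_mem _ hw))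
      simp only [List.map_cons, dotP, Nat.add_eq, Nat.mul_eq]
      have : pq.1 * v ≤ pq.1 * 15 := Nat.mul_le_mul_left _ hv
      omega

theorem dotQ_le (row : List (ℕ × ℕ)) (vs : List ℕ) (h : ∀ v ∈ vs, v ≤ 15) :
    dotQ row vs ≤ 15 * dotQ row (vs.map fun _ => 1) := by
  induction row generalizing vs with
  | nil => cases vs <;> simp [dotQ]
  | cons pq row ih =>
    cases vs with
    | nil => simp [dotQ]
    | cons v vs =>
      have hv : v ≤ 15 := h v (List.mem_cons_self)
      have ih' := ih vs (fun w hw => h w (List.mem_cons_of_mem _ hw))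
      simp only [List.map_cons, dotQ, Nat.add_eq, Nat.mul_eq]
      have : pq.2 * v ≤ pq.2 * 15 := Nat.mul_le_mul_left _ hv
      omega

theorem dotP_pack (row : List (ℕ × ℕ)) (tr : List (ℕ × ℕ × ℕ)) :
    dotP row (tr.map pack) = dotP row (tr.map fun x => x.1) + BB * dotP row (tr.map fun x => x.2.1) +
      BB * BB * dotP row (tr.map fun x => x.2.2) := by
  induction row generalizing tr with
  | nil => cases tr <;> simp [dotP]
  | cons pq row ih =>
    cases tr with
    | nil => simp [dotP]
    | cons x tr =>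
      obtain ⟨a, b, c⟩ := x
      simp only [List.map_cons, dotP, Nat.add_eq, Nat.mul_eq, ih, pack_eq]
      ring

theorem dotQ_pack (row : List (ℕ × ℕ)) (tr : List (ℕ × ℕ × ℕ)) :
    dotQ row (tr.map pack) = dotQ row (tr.map fun x => x.1) + BB * dotQ row (tr.map fun x => x.2.1) +
      BB * BB * dotQ row (tr.map fun x => x.2.2) := by
  induction row generalizing tr with
  | nil => cases tr <;> simp [dotQ]
  | cons pq row ih =>
    cases tr with
    | nil => simp [dotQ]
    | cons x tr =>
      obtain ⟨a, b, c⟩ := x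
      simp only [List.map_cons, dotQ, Nat.add_eq, Nat.mul_eq, ih, pack_eq]
      ring

theorem lanes {a0 a1 a2 b0 b1 b2 : ℕ} (ha0 : a0 < BB) (ha1 : a1 < BB) (_ha2 : a2 < BB)
    (hb0 : b0 < BB) (hb1 : b1 < BB) (_hb2 : b2 < BB)
    (h : a0 + BB * a1 + BB * BB * a2 = b0 + BB * b1 + BB * BB * b2) :
    a0 = b0 ∧ a1 = b1 ∧ a2 = b2 := by
  unfold BB at *
  omega

/-- The check of one row, on packed columns. -/
def rowChk (row : List (ℕ × ℕ)) (KP KQ : ℕ) (V : List ℕ) (T : ℕ) : Bool :=
  Nat.beq (Nat.add (dotP row V) (Nat.mul KP UU))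
    (Nat.add (Nat.add (dotQ row V) (Nat.mul 4 T)) (Nat.mul KQ UU))

/-- Soundness of the row check. -/
theorem rowChk_sound (row : List (ℕ × ℕ)) (KP KQ : ℕ) (tr : List (ℕ × ℕ × ℕ)) (n : ℕ × ℕ × ℕ)
    (ones : List ℕ)
    (h1 : (tr.map fun x => x.1).map (fun _ => 1) = ones)
    (h2 : (tr.map fun x => x.2.1).map (fun _ => 1) = ones)
    (h3 : (tr.map fun x => x.2.2).map (fun _ => 1) = ones)
    (htr : ∀ x ∈ tr, x.1 ≤ 15 ∧ x.2.1 ≤ 15 ∧ x.2.2 ≤ 15)
    (hn : n.1 ≤ 15 ∧ n.2.1 ≤ 15 ∧ n.2.2 ≤ 15)
    (hKP : KP = 4 * dotQ row ones + 16) (hKQ : KQ = 4 * dotP row ones)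
    (hsP : 15 * dotP row ones + KP < BB) (hsQ : 15 * dotQ row ones + 60 + KQ < BB)
    (h : rowChk row KP KQ (tr.map pack) (pack n) = true) :
    dotM row ((tr.map fun x => x.1).map sh) = 4 * sh n.1 ∧
    dotM row ((tr.map fun x => x.2.1).map sh) = 4 * sh n.2.1 ∧
    dotM row ((tr.map fun x => x.2.2).map sh) = 4 * sh n.2.2 := by
  obtain ⟨n0, n1, n2⟩ := n
  have hb1 : ∀ v ∈ tr.map (fun x => x.1), v ≤ 15 := by
    intro v hv
    obtain ⟨x, hx, rfl⟩ := List.mem_map.1 hv
    exact (htr x hx).1
  have hb2 : ∀ v ∈ tr.map (fun x => x.2.1), v ≤ 15 := by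
    intro v hv
    obtain ⟨x, hx, rfl⟩ := List.mem_map.1 hv
    exact (htr x hx).2.1
  have hb3 : ∀ v ∈ tr.map (fun x => x.2.2), v ≤ 15 := by
    intro v hv
    obtain ⟨x, hx, rfl⟩ := List.mem_map.1 hv
    exact (htr x hx).2.2
  have P1 := dotP_le row _ hb1
  have P2 := dotP_le row _ hb2
  have P3 := dotP_le row _ hb3
  have Q1 := dotQ_le row _ hb1
  have Q2 := dotQ_le row _ hb2
  have Q3 := dotQ_le row _ hb3
  rw [h1] at P1 Q1
  rw [h2] at P2 Q2
  rw [h3] at P3 Q3
  have e := Nat.eq_of_beq_eq_true h
  simp only [Nat.add_eq, Nat.mul_eq, dotP_pack, dotQ_pack, pack_eq] at e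
  have hUU : UU = 1 + BB + BB * BB := by unfold UU BB; norm_num
  simp only at hn
  obtain ⟨hn0, hn1, hn2⟩ := hn
  have e' : (dotP row (tr.map fun x => x.1) + KP) + BB * (dotP row (tr.map fun x => x.2.1) + KP) +
      BB * BB * (dotP row (tr.map fun x => x.2.2) + KP) =
      (dotQ row (tr.map fun x => x.1) + 4 * n0 + KQ) +
      BB * (dotQ row (tr.map fun x => x.2.1) + 4 * n1 + KQ) +
      BB * BB * (dotQ row (tr.map fun x => x.2.2) + 4 * n2 + KQ) := by
    rw [hUU] at e
    linarith
  obtain ⟨l0, l1, l2⟩ := lanes (by omega) (by omega) (by omega) (by omega) (by omega) (by omega) e'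
  have S1 := dotM_shift row (tr.map fun x => x.1)
  have S2 := dotM_shift row (tr.map fun x => x.2.1)
  have S3 := dotM_shift row (tr.map fun x => x.2.2)
  rw [h1] at S1
  rw [h2] at S2
  rw [h3] at S3
  refine ⟨?_, ?_, ?_⟩
  · rw [S1]; simp only [sh]; omega
  · rw [S2]; simp only [sh]; omega
  · rw [S3]; simp only [sh]; omega

/-! ### All rows at once: packed columns -/

/-- The base of the row digits: `BB³`. -/
def CC : ℕ := 79228162514264337593543950336

theorem CC_eq : CC = BB * BB * BB := by unfold CC BB; norm_num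

/-- Horner evaluation in base `CC`. -/
def ofD (l : List ℕ) : ℕ :=
  List.rec (motive := fun _ => ℕ) 0 (fun a _ ih => Nat.add a (Nat.mul CC ih)) l

@[simp] theorem ofD_nil : ofD [] = 0 := rfl
@[simp] theorem ofD_cons (a : ℕ) (l : List ℕ) : ofD (a :: l) = a + CC * ofD l := rfl

/-- Dot product of lists of naturals. -/
def dotN (as bs : List ℕ) : ℕ :=
  List.rec (motive := fun _ => List ℕ → ℕ) (fun _ => 0)
    (fun a _ ih bs => List.rec (motive := fun _ => ℕ) 0 (fun b bs' _ => Nat.add (Nat.mul a b) (ih bs')) bs)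
    as bs

@[simp] theorem dotN_nil (bs : List ℕ) : dotN [] bs = 0 := rfl
@[simp] theorem dotN_cons_nil (a : ℕ) (as : List ℕ) : dotN (a :: as) [] = 0 := rfl
@[simp] theorem dotN_cons_cons (a b : ℕ) (as bs : List ℕ) :
    dotN (a :: as) (b :: bs) = a * b + dotN as bs := rfl

theorem ofD_replicate_zero (n : ℕ) : ofD (List.replicate n 0) = 0 := by
  induction n with
  | zero => rfl
  | succ n ih => simp only [List.replicate_succ, ofD_cons, ih, Nat.mul_zero, Nat.add_zero]

theorem ofD_map_lin {α : Type*} (l : List α) (f g : α → ℕ) (v : ℕ) :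
    ofD (l.map fun x => f x * v + g x) = ofD (l.map f) * v + ofD (l.map g) := by
  induction l with
  | nil => simp
  | cons a l ih => simp only [List.map_cons, ofD_cons, ih]; ring

theorem ofD_map_add {α : Type*} (l : List α) (f g : α → ℕ) :
    ofD (l.map fun x => f x + g x) = ofD (l.map f) + ofD (l.map g) := by
  induction l with
  | nil => simp
  | cons a l ih => simp only [List.map_cons, ofD_cons, ih]; ring

theorem dotP_nil_right (row : List (ℕ × ℕ)) : dotP row [] = 0 := by cases row <;> rfl
theorem dotQ_nil_right (row : List (ℕ × ℕ)) : dotQ row [] = 0 := by cases row <;> rfl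

theorem dotP_cons_right (row : List (ℕ × ℕ)) (v : ℕ) (vs : List ℕ) :
    dotP row (v :: vs) = (row.headD (0, 0)).1 * v + dotP row.tail vs := by
  cases row with
  | nil => simp [dotP]
  | cons pq row => simp [dotP]

theorem dotQ_cons_right (row : List (ℕ × ℕ)) (v : ℕ) (vs : List ℕ) :
    dotQ row (v :: vs) = (row.headD (0, 0)).2 * v + dotQ row.tail vs := by
  cases row with
  | nil => simp [dotQ]
  | cons pq row => simp [dotQ]

/-- The packed columns of the positive parts. -/
def colsP : List (List (ℕ × ℕ)) → ℕ → List ℕ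
  | _, 0 => []
  | rows, n + 1 => ofD (rows.map fun row => (row.headD (0, 0)).1) :: colsP (rows.map List.tail) n

/-- The packed columns of the negative parts. -/
def colsQ : List (List (ℕ × ℕ)) → ℕ → List ℕ
  | _, 0 => []
  | rows, n + 1 => ofD (rows.map fun row => (row.headD (0, 0)).2) :: colsQ (rows.map List.tail) n

theorem dotN_colsP (rows : List (List (ℕ × ℕ))) (n : ℕ) (V : List ℕ) (hV : V.length ≤ n) :
    dotN (colsP rows n) V = ofD (rows.map fun row => dotP row V) := by
  induction n generalizing rows V with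
  | zero =>
    have : V = [] := List.eq_nil_of_length_eq_zero (by omega)
    subst this
    simp [colsP, dotP_nil_right, ofD_replicate_zero]
  | succ n ih =>
    cases V with
    | nil => simp [colsP, dotP_nil_right, ofD_replicate_zero]
    | cons v vs =>
      have hvs : vs.length ≤ n := by simpa using hV
      simp only [colsP, dotN_cons_cons, ih _ vs hvs, List.map_map, dotP_cons_right]
      exact (ofD_map_lin rows (fun row => (row.headD (0, 0)).1) (fun row => dotP row.tail vs) v).symm

theorem dotN_colsQ (rows : List (List (ℕ × ℕ))) (n : ℕ) (V : List ℕ) (hV : V.length ≤ n) :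
    dotN (colsQ rows n) V = ofD (rows.map fun row => dotQ row V) := by
  induction n generalizing rows V with
  | zero =>
    have : V = [] := List.eq_nil_of_length_eq_zero (by omega)
    subst this
    simp [colsQ, dotQ_nil_right, ofD_replicate_zero]
  | succ n ih =>
    cases V with
    | nil => simp [colsQ, dotQ_nil_right, ofD_replicate_zero]
    | cons v vs =>
      have hvs : vs.length ≤ n := by simpa using hV
      simp only [colsQ, dotN_cons_cons, ih _ vs hvs, List.map_map, dotQ_cons_right]
      exact (ofD_map_lin rows (fun row => (row.headD (0, 0)).2) (fun row => dotQ row.tail vs) v).symm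

theorem peel {a b x y : ℕ} (ha : a < CC) (hb : b < CC) (h : a + CC * x = b + CC * y) :
    a = b ∧ x = y := by
  unfold CC at *
  omega

/-- Digitwise comparison of packed rows. -/
theorem packed_rows (es : List (List (ℕ × ℕ) × ℕ × ℕ)) (V Ts : List ℕ) (hlen : es.length = Ts.length)
    (hL : ∀ e ∈ es, dotP e.1 V + e.2.1 * UU < CC)
    (hR : ∀ e ∈ es, ∀ T ∈ Ts, dotQ e.1 V + 4 * T + e.2.2 * UU < CC)
    (h : ofD (es.map fun e => dotP e.1 V + e.2.1 * UU) =
      ofD (es.map fun e => dotQ e.1 V + e.2.2 * UU) + 4 * ofD Ts) :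
    ∀ i, i < es.length → dotP (es.getD i ([], 0, 0)).1 V + (es.getD i ([], 0, 0)).2.1 * UU =
      dotQ (es.getD i ([], 0, 0)).1 V + 4 * Ts.getD i 0 + (es.getD i ([], 0, 0)).2.2 * UU := by
  induction es generalizing Ts with
  | nil => intro i hi; simp at hi
  | cons e es ih =>
    cases Ts with
    | nil => simp at hlen
    | cons T Ts =>
      simp only [List.map_cons, ofD_cons] at h
      have h' : (dotP e.1 V + e.2.1 * UU) + CC * ofD (es.map fun e => dotP e.1 V + e.2.1 * UU) =
          (dotQ e.1 V + 4 * T + e.2.2 * UU) +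
            CC * (ofD (es.map fun e => dotQ e.1 V + e.2.2 * UU) + 4 * ofD Ts) := by
        rw [h]; ring
      obtain ⟨p1, p2⟩ := peel (hL e List.mem_cons_self)
        (hR e List.mem_cons_self T List.mem_cons_self) h'
      intro i hi
      cases i with
      | zero => simpa using p1
      | succ i =>
        simp only [List.getD_cons_succ]
        exact ih Ts (by simpa using hlen)
          (fun e' he' => hL e' (List.mem_cons_of_mem _ he'))
          (fun e' he' T' hT' => hR e' (List.mem_cons_of_mem _ he') T' (List.mem_cons_of_mem _ hT'))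
          p2 i (by simpa using hi)

end Cfsg.Agent.Lib.Helper8_PackLin
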