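import Mathlib
import Cfsg.Prelude.Def_Transfer

/-!
# S2787 package MODEL (helper37's market `quad_packages`)

A faithful model of the action of `H` on the elementary abelian `V`: the holomorph
`V ⋊ Aut V`.
-/

set_option autoImplicit false

universe u

open SemidirectProduct

namespace Cfsg.Agent.Lib.Helper8_Quad_MODEL

theorem exists_faithful_model {G : Type u} [Group G] [Finite G] {p : ℕ} [Fact p.Prime] (V H : Subgroup G)
    (hV : Cfsg.IsElementaryAbelian p V) (hHV : H ≤ Subgroup.normalizer (V : Set G))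
    [hn : ((Subgroup.centralizer (V : Set G)).subgroupOf H).Normal] :
    ∃ (G' : Type u) (_ : Group G') (_ : Finite G') (V' H' : Subgroup G') (ε : ↥V ≃* ↥V')
      (ι : (↥H ⧸ (Subgroup.centralizer (V : Set G)).subgroupOf H) ≃* ↥H'),
      Cfsg.IsElementaryAbelian p V' ∧ H' ≤ Subgroup.normalizer (V' : Set G') ∧
      H' ⊓ Subgroup.centralizer (V' : Set G') = ⊥ ∧
      ∀ (h : ↥H) (v : ↥V) (hv : (h : G) * (v : G) * (h : G)⁻¹ ∈ V),
        ((ε ⟨(h : G) * (v : G) * (h : G)⁻¹, hv⟩ : ↥V') : G') =
          ((ι (QuotientGroup.mk h) : ↥H') : G') * ((ε v : ↥V') : G') * ((ι (QuotientGroup.mk h) : ↥H') : G')⁻¹ := by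
  let c : ↥H →* MulAut ↥V := V.normalizerMonoidHom.comp (Subgroup.inclusion hHV)
  have hc : ∀ (h : ↥H) (v : ↥V), ((c h v : ↥V) : G) = (h : G) * (v : G) * (h : G)⁻¹ := fun h v => rfl
  let G' : Type u := ↥V ⋊[MonoidHom.id (MulAut ↥V)] MulAut ↥V
  have hfin : Finite G' := Finite.of_equiv _ (SemidirectProduct.equivProd (φ := MonoidHom.id (MulAut ↥V))).symm
  let i1 : ↥V →* G' := SemidirectProduct.inl
  let i2 : ↥H →* G' := (SemidirectProduct.inr).comp c
  have hker : i2.ker = (Subgroup.centralizer (V : Set G)).subgroupOf H := by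
    ext h
    rw [MonoidHom.mem_ker, Subgroup.mem_subgroupOf, Subgroup.mem_centralizer_iff]
    constructor
    · intro hh v hv
      have h1 : c h = 1 := by
        have : (SemidirectProduct.inr (c h) : G') = SemidirectProduct.inr 1 := by
          rw [map_one]; exact hh
        exact SemidirectProduct.inr_injective this
      have h2 : c h ⟨v, hv⟩ = ⟨v, hv⟩ := by rw [h1]; rfl
      have h3 := congrArg Subtype.val h2
      rw [hc] at h3
      exact (mul_inv_eq_iff_eq_mul.mp h3).symm
    · intro hh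
      have h1 : c h = 1 := by
        ext v
        rw [hc]
        simp only [MulAut.one_apply]
        rw [← hh v v.2, mul_inv_cancel_right]
      show SemidirectProduct.inr (c h) = 1
      rw [h1, map_one]
  let V' : Subgroup G' := i1.range
  let H' : Subgroup G' := i2.range
  let ε : ↥V ≃* ↥V' := MonoidHom.ofInjective (f := i1) SemidirectProduct.inl_injective
  let ι : (↥H ⧸ (Subgroup.centralizer (V : Set G)).subgroupOf H) ≃* ↥H' :=
    (QuotientGroup.quotientMulEquivOfEq hker.symm).trans (QuotientGroup.quotientKerEquivRange i2)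
  have hε : ∀ v, ((ε v : ↥V') : G') = i1 v := fun v => rfl
  have hι : ∀ h : ↥H, ((ι (QuotientGroup.mk h) : ↥H') : G') = i2 h := fun h => rfl
  have haut : ∀ (φ : MulAut ↥V) (v : ↥V),
      (SemidirectProduct.inr φ : G') * i1 v * (SemidirectProduct.inr φ : G')⁻¹ = i1 (φ v) := by
    intro φ v
    have := SemidirectProduct.inl_aut (φ := MonoidHom.id (MulAut ↥V)) φ v
    rw [map_inv] at this
    exact this.symm
  have hVn : V'.Normal := by
    show (SemidirectProduct.inl : ↥V →* G').range.Normal
    rw [SemidirectProduct.range_inl_eq_ker_rightHom]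
    exact MonoidHom.normal_ker _
  refine ⟨G', inferInstance, hfin, V', H', ε, ι, ⟨?_, ?_⟩, ?_, ?_, ?_⟩
  · rw [isMulCommutative_iff]
    intro a b
    obtain ⟨v, hv⟩ := a.2
    obtain ⟨w, hw⟩ := b.2
    apply Subtype.ext
    show (a : G') * (b : G') = (b : G') * (a : G')
    rw [← hv, ← hw, ← map_mul, ← map_mul]
    have := hV.1
    rw [mul_comm' v w]
  · rintro a ⟨v, rfl⟩
    rw [← map_pow]
    have : v ^ p = 1 := Subtype.ext (hV.2 v v.2)
    rw [this, map_one]
  · rw [Subgroup.normalizer_eq_top]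
    exact le_top
  · rw [Subgroup.eq_bot_iff_forall]
    rintro x ⟨⟨h, rfl⟩, hx⟩
    have hx := Subgroup.mem_centralizer_iff.mp (show i2 h ∈ Subgroup.centralizer (V' : Set G') from hx)
    have h1 : c h = 1 := by
      ext v
      have h2 := hx (i1 v) ⟨v, rfl⟩
      have h3 : i1 (c h v) = i1 v := by
        rw [← haut (c h) v]
        show i2 h * i1 v * (i2 h)⁻¹ = i1 v
        rw [← h2, mul_inv_cancel_right]
      have h4 := SemidirectProduct.inl_injective h3
      rw [h4]; rfl
    show SemidirectProduct.inr (c h) = 1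
    rw [h1, map_one]
  · intro h v hv
    rw [hε, hι, hε]
    show _ = SemidirectProduct.inr (c h) * i1 v * (SemidirectProduct.inr (c h))⁻¹
    rw [haut]
    rfl

end Cfsg.Agent.Lib.Helper8_Quad_MODEL
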