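import Mathlib
import Cfsg.Agent.S0656
import Cfsg.Agent.S0590

/-!
# S2787 package SECTION (helper37's market `quad_packages`)

From a faithful model of the action of `H` on `V` (with a quadratic, nontrivial `A ≤ H`) to a subgroup
of `H ⧸ C_H(V)` mapping onto `SL₂(p)` (landed S0656 in the model, pulled back along `ι`).
-/

set_option autoImplicit false

open scoped commutatorElement

namespace Cfsg.Agent.Lib.Helper8_Quad_SECTION

/-- transport of `O_p = 1` along an isomorphism -/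
theorem pCore_eq_bot_of_mulEquiv {X Y : Type*} [Group X] [Group Y] (p : ℕ) (e : X ≃* Y)
    (h : Cfsg.pCore p X = ⊥) : Cfsg.pCore p Y = ⊥ := by
  rw [eq_bot_iff]
  apply sSup_le
  rintro N ⟨hN, hNp⟩
  have h1 : N.comap e.toMonoidHom ≤ Cfsg.pCore p X :=
    le_sSup ⟨hN.comap _, hNp.comap_of_injective _ e.injective⟩
  rw [h] at h1
  intro n hn
  have h2 : e.symm n ∈ N.comap e.toMonoidHom := by
    rw [Subgroup.mem_comap]
    show e (e.symm n) ∈ N
    rw [e.apply_symm_apply]; exact hn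
  have h3 : e.symm n = 1 := (Subgroup.mem_bot).mp (h1 h2)
  have h4 : n = 1 := by
    have := congrArg e h3
    rwa [e.apply_symm_apply, map_one] at this
  rw [h4]; exact Subgroup.one_mem _

theorem section_of_model {G : Type*} [Group G] [Finite G] {p : ℕ} [Fact p.Prime] (hp : p ≠ 2)
    (V H : Subgroup G)
    (hV : Cfsg.IsElementaryAbelian p V) (hHV : H ≤ Subgroup.normalizer (V : Set G))
    [hn : ((Subgroup.centralizer (V : Set G)).subgroupOf H).Normal]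
    (hO : Cfsg.pCore p (↥H ⧸ (Subgroup.centralizer (V : Set G)).subgroupOf H) = ⊥)
    (A : Subgroup G) (hA : A ≤ H) (hquad : ⁅⁅V, A⁆, A⁆ = ⊥) (hne : ⁅V, A⁆ ≠ ⊥)
    {G' : Type*} [Group G'] [Finite G'] (V' H' : Subgroup G') (ε : ↥V ≃* ↥V')
    (ι : (↥H ⧸ (Subgroup.centralizer (V : Set G)).subgroupOf H) ≃* ↥H')
    (hV' : Cfsg.IsElementaryAbelian p V') (hHV' : H' ≤ Subgroup.normalizer (V' : Set G'))
    (hf : H' ⊓ Subgroup.centralizer (V' : Set G') = ⊥)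
    (hcompat : ∀ (h : ↥H) (v : ↥V) (hv : (h : G) * (v : G) * (h : G)⁻¹ ∈ V),
        ((ε ⟨(h : G) * (v : G) * (h : G)⁻¹, hv⟩ : ↥V') : G') =
          ((ι (QuotientGroup.mk h) : ↥H') : G') * ((ε v : ↥V') : G') *
            ((ι (QuotientGroup.mk h) : ↥H') : G')⁻¹) :
    ∃ (K : Subgroup (↥H ⧸ (Subgroup.centralizer (V : Set G)).subgroupOf H))
      (f : ↥K →* Matrix.SpecialLinearGroup (Fin 2) (ZMod p)), Function.Surjective f := by
  -- conjugates stay in `V`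
  have hconj : ∀ (h : ↥H) (v : ↥V), (h : G) * (v : G) * (h : G)⁻¹ ∈ V := fun h v =>
    (Subgroup.mem_normalizer_iff.mp (hHV h.2) _).mp v.2
  -- the image of `h` in the model
  let X : ↥H → G' := fun h => ((ι (QuotientGroup.mk h) : ↥H') : G')
  have hXH : ∀ h, X h ∈ H' := fun h => (ι (QuotientGroup.mk h)).2
  -- commutators are transported
  have hcomm : ∀ (h : ↥H) (w : ↥V) (hw : ⁅(w : G), (h : G)⁆ ∈ V),
      ⁅((ε w : ↥V') : G'), X h⁆ = ((ε ⟨⁅(w : G), (h : G)⁆, hw⟩ : ↥V') : G') := by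
    intro h w hw
    have h1 : (⟨⁅(w : G), (h : G)⁆, hw⟩ : ↥V) = w * ⟨(h : G) * ((w⁻¹ : ↥V) : G) * (h : G)⁻¹,
        hconj h w⁻¹⟩ := by
      apply Subtype.ext
      show ⁅(w : G), (h : G)⁆ = (w : G) * ((h : G) * ((w⁻¹ : ↥V) : G) * (h : G)⁻¹)
      rw [commutatorElement_def, Subgroup.coe_inv]; group
    rw [h1, map_mul, Subgroup.coe_mul, hcompat h w⁻¹ (hconj h w⁻¹), map_inv, Subgroup.coe_inv,
      commutatorElement_def]
    simp only [X]
    group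
  have hcommV : ∀ (h : ↥H) (w : ↥V), ⁅(w : G), (h : G)⁆ ∈ V := by
    intro h w
    have : ⁅(w : G), (h : G)⁆ = (w : G) * ((h : G) * ((w⁻¹ : ↥V) : G) * (h : G)⁻¹) := by
      rw [commutatorElement_def, Subgroup.coe_inv]; group
    rw [this]
    exact V.mul_mem w.2 (hconj h w⁻¹)
  -- a nontrivial commutator
  obtain ⟨v, hv, a, ha, hva⟩ : ∃ v ∈ V, ∃ a ∈ A, ⁅v, a⁆ ≠ 1 := by
    by_contra hcon
    push Not at hcon
    apply hne
    rw [eq_bot_iff, Subgroup.commutator_le]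
    intro g₁ h₁ g₂ h₂
    rw [Subgroup.mem_bot]
    exact hcon g₁ h₁ g₂ h₂
  let ah : ↥H := ⟨a, hA ha⟩
  let x : G' := X ah
  have hxH : x ∈ H' := hXH ah
  have hx1 : x ≠ 1 := by
    intro hx
    have h1 := hcomm ah ⟨v, hv⟩ (hcommV ah ⟨v, hv⟩)
    have h2 : ⁅((ε ⟨v, hv⟩ : ↥V') : G'), X ah⁆ = 1 := by
      show ⁅((ε ⟨v, hv⟩ : ↥V') : G'), x⁆ = 1
      rw [hx, commutatorElement_one_right]
    rw [h2] at h1
    have h3 : ε ⟨⁅v, a⁆, hcommV ah ⟨v, hv⟩⟩ = 1 := Subtype.ext h1.symm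
    have h4 : (⟨⁅v, a⁆, hcommV ah ⟨v, hv⟩⟩ : ↥V) = 1 := by
      have := congrArg ε.symm h3
      rwa [ε.symm_apply_apply, map_one] at this
    exact hva (congrArg Subtype.val h4)
  -- powers
  have hXpow : ∀ j : ℤ, x ^ j = X (ah ^ j) := by
    intro j
    show ((ι (QuotientGroup.mk ah) : ↥H') : G') ^ j = ((ι (QuotientGroup.mk (ah ^ j)) : ↥H') : G')
    rw [QuotientGroup.mk_zpow, map_zpow, Subgroup.coe_zpow]
  have hXpowN : ∀ j : ℕ, x ^ j = X (ah ^ j) := by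
    intro j
    have := hXpow j
    rwa [zpow_natCast, zpow_natCast] at this
  have hxp : x ^ p = 1 := by
    rw [hXpowN]
    have h1 : a ^ p ∈ Subgroup.centralizer (V : Set G) :=
      (Cfsg.Agent.S0590.result V A hV (hA.trans hHV) hquad).2 a ha
    have h2 : (QuotientGroup.mk (ah ^ p) :
        ↥H ⧸ (Subgroup.centralizer (V : Set G)).subgroupOf H) = 1 := by
      rw [QuotientGroup.eq_one_iff, Subgroup.mem_subgroupOf]
      exact h1
    show ((ι (QuotientGroup.mk (ah ^ p)) : ↥H') : G') = 1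
    rw [h2, map_one]; rfl
  have hord : orderOf x = p ^ 1 := by
    rw [pow_one]
    have h1 : orderOf x ∣ p := orderOf_dvd_of_pow_eq_one hxp
    rcases (Nat.dvd_prime (Fact.out : p.Prime)).mp h1 with h | h
    · exfalso; exact hx1 (orderOf_eq_one_iff.mp h)
    · exact h
  -- every power of `x` comes from an element of `A`
  have hZ : ∀ y ∈ Subgroup.zpowers x, ∃ h : ↥H, (h : G) ∈ A ∧ y = X h := by
    rintro y ⟨j, rfl⟩
    refine ⟨ah ^ j, ?_, hXpow j⟩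
    rw [Subgroup.coe_zpow]
    exact A.zpow_mem ha j
  -- quadratic action in the model
  have hq : ⁅⁅V', Subgroup.zpowers x⁆, Subgroup.zpowers x⁆ = ⊥ := by
    rw [Subgroup.commutator_eq_bot_iff_le_centralizer, Subgroup.commutator_le]
    intro g₁ hg₁ g₂ hg₂
    rw [Subgroup.mem_centralizer_iff]
    intro z hz
    obtain ⟨h₁, hh₁, rfl⟩ := hZ g₂ hg₂
    obtain ⟨h₂, hh₂, rfl⟩ := hZ z hz
    obtain ⟨w, hw⟩ : ∃ w : ↥V, ((ε w : ↥V') : G') = g₁ :=
      ⟨ε.symm ⟨g₁, hg₁⟩, by rw [ε.apply_symm_apply]⟩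
    rw [← hw, hcomm h₁ w (hcommV h₁ w)]
    symm
    rw [← commutatorElement_eq_one_iff_mul_comm,
      hcomm h₂ ⟨⁅(w : G), (h₁ : G)⁆, hcommV h₁ w⟩ (hcommV h₂ _)]
    have h1 : ⁅⁅(w : G), (h₁ : G)⁆, (h₂ : G)⁆ = 1 := by
      have : ⁅⁅(w : G), (h₁ : G)⁆, (h₂ : G)⁆ ∈ ⁅⁅V, A⁆, A⁆ :=
        Subgroup.commutator_mem_commutator (Subgroup.commutator_mem_commutator w.2 hh₁) hh₂
      rw [hquad] at this
      exact Subgroup.mem_bot.mp this
    have h2 : (⟨⁅⁅(w : G), (h₁ : G)⁆, (h₂ : G)⁆, hcommV h₂ ⟨_, hcommV h₁ w⟩⟩ : ↥V) = 1 :=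
      Subtype.ext h1
    show ((ε ⟨⁅⁅(w : G), (h₁ : G)⁆, (h₂ : G)⁆, hcommV h₂ ⟨_, hcommV h₁ w⟩⟩ : ↥V') : G') = 1
    rw [h2, map_one]; rfl
  have hO' : Cfsg.pCore p ↥H' = ⊥ := pCore_eq_bot_of_mulEquiv p ι hO
  obtain ⟨K₁, L₁, hL, hK₁H', ⟨e⟩⟩ :=
    Cfsg.Agent.S0656.result hp V' H' hV' hHV' hf hO' x hxH hx1 ⟨1, hord⟩ hq
  -- pull back
  let K : Subgroup (↥H ⧸ (Subgroup.centralizer (V : Set G)).subgroupOf H) :=
    (K₁.subgroupOf H').comap ι.toMonoidHom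
  let g : ↥K →* ↥K₁ :=
    { toFun := fun k => ⟨((ι k.1 : ↥H') : G'), k.2⟩
      map_one' := by
        apply Subtype.ext
        show ((ι (1 : ↥H ⧸ (Subgroup.centralizer (V : Set G)).subgroupOf H) : ↥H') : G') = 1
        rw [map_one]; rfl
      map_mul' := by
        intro k₁ k₂
        apply Subtype.ext
        show ((ι (k₁.1 * k₂.1) : ↥H') : G') = ((ι k₁.1 : ↥H') : G') * ((ι k₂.1 : ↥H') : G')
        rw [map_mul]; rfl }
  have hg : Function.Surjective g := by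
    intro y
    have hyH : (y : G') ∈ H' := hK₁H' y.2
    refine ⟨⟨ι.symm ⟨y, hyH⟩, ?_⟩, ?_⟩
    · show ι (ι.symm ⟨y, hyH⟩) ∈ K₁.subgroupOf H'
      rw [ι.apply_symm_apply, Subgroup.mem_subgroupOf]
      exact y.2
    · apply Subtype.ext
      show ((ι (ι.symm ⟨y, hyH⟩) : ↥H') : G') = y
      rw [ι.apply_symm_apply]
  refine ⟨K, e.toMonoidHom.comp ((QuotientGroup.mk' _).comp g), ?_⟩
  intro m
  obtain ⟨q, hq'⟩ := e.surjective m
  obtain ⟨k₁, hk₁⟩ := QuotientGroup.mk'_surjective _ q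
  obtain ⟨k, hk⟩ := hg k₁
  refine ⟨k, ?_⟩
  show e ((QuotientGroup.mk' _) (g k)) = m
  rw [hk, hk₁, hq']

end Cfsg.Agent.Lib.Helper8_Quad_SECTION
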