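import Mathlib
import Cfsg.Agent.Lib.Helper56_RuDefs
import Cfsg.Agent.Lib.Helper56_RuBasic
import Cfsg.Agent.Lib.Helper42_RU_EXP
import Cfsg.Agent.Lib.Helper8_RU_NHATa

/-!
# S3174 / S3175 package F1 (architect helper56): `⁅w, k w k⁻¹⁆ ∈ Z_2` for `w ∈ W`, `k ∈ N`.
Proof in `Helper8_RU_NHATa.F1_aux`; `exp_Z3` from `Helper42_RU_EXP`.
-/

set_option autoImplicit false

open scoped commutatorElement
open Cfsg.Agent.Lib.Helper56_RuDefs Cfsg.Agent.Lib.Helper56_RuBasic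

namespace Cfsg.Agent.Lib.Helper8_RU_F1

variable {T : Type*} [Group T]

/-- F1. -/
theorem F1 (h : Str T) : ∀ w ∈ Wc T, ∀ k ∈ Nc T, ⁅w, k * w * k⁻¹⁆ ∈ Subgroup.upperCentralSeries T 2 :=
  Cfsg.Agent.Lib.Helper8_RU_NHATa.F1_aux h (Cfsg.Agent.Lib.Helper42_RU_EXP.exp_Z3 h)

end Cfsg.Agent.Lib.Helper8_RU_F1
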