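import Mathlib
import Cfsg.Agent.Lib.Helper56_RuDefs
import Cfsg.Agent.Lib.Helper56_RuBasic
import Cfsg.Agent.Lib.Helper42_RU_EXP
import Cfsg.Agent.Lib.Helper8_RU_NHATa

/-!
# S3174 / S3175 package NHAT (architect helper56): facts on `N = C_T(Z_2)`.
Proofs in `Helper8_RU_NHATa`; `exp_Z3` from `Helper42_RU_EXP`.
-/

set_option autoImplicit false

open scoped commutatorElement
open Cfsg.Agent.Lib.Helper56_RuDefs Cfsg.Agent.Lib.Helper56_RuBasic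

namespace Cfsg.Agent.Lib.Helper8_RU_NHAT

variable {T : Type*} [Group T]

/-- NHAT. Facts on `N = C_T(Z_2)`. -/
theorem Wc_le_Nc : Wc T ≤ Nc T :=
  Cfsg.Agent.Lib.Helper8_RU_NHATa.Wc_le_Nc

theorem Nc_index (h : Str T) : (Nc T).index = 2 :=
  Cfsg.Agent.Lib.Helper8_RU_NHATa.Nc_index h

theorem Nc_sq (h : Str T) : ∀ k ∈ Nc T, k ^ 2 ∈ Wc T :=
  Cfsg.Agent.Lib.Helper8_RU_NHATa.Nc_sq_aux (Cfsg.Agent.Lib.Helper42_RU_EXP.exp_Z3 h)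

theorem Nc_fix (h : Str T) : ∀ k ∈ Nc T, k ∉ Wc T → ∀ z ∈ Subgroup.upperCentralSeries T 3,
    k * z = z * k → z ∈ Subgroup.upperCentralSeries T 2 :=
  Cfsg.Agent.Lib.Helper8_RU_NHATa.Nc_fix h

theorem Nc_choice (h : Str T) : ∃ n' ∈ Nc T, ∃ n ∈ Nc T, n' ∉ Wc T ∧ n ∉ Wc T ⊔ Subgroup.zpowers n' :=
  Cfsg.Agent.Lib.Helper8_RU_NHATa.Nc_choice_aux h (Nc_sq h)

end Cfsg.Agent.Lib.Helper8_RU_NHAT
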