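import Mathlib

/-!
# S1906 package `L1` (helper8): a `2`-group in `GL₃(F)`, `|F|` odd, is conjugate to block diagonal
form `2 + 1`.
-/

set_option autoImplicit false

namespace Cfsg.Agent.Lib.Helper8_S1906_L1

open Matrix

section linalg

variable {F : Type*} [Field F]

/-- the matrix with columns `w0`, `w1`, `l` -/
def Qm (w0 w1 l : Fin 3 → F) : Matrix (Fin 3) (Fin 3) F :=
  Matrix.of fun k j => ![w0 k, w1 k, l k] j

theorem Qm_mulVec (w0 w1 l : Fin 3 → F) : (Qm w0 w1 l).mulVec (Pi.single 2 1) = l := by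
  funext k
  rw [Matrix.mulVec_single_one]
  rfl

theorem vecMul_Qm (φ w0 w1 l : Fin 3 → F) :
    Matrix.vecMul φ (Qm w0 w1 l) = ![φ ⬝ᵥ w0, φ ⬝ᵥ w1, φ ⬝ᵥ l] := by
  funext j
  fin_cases j <;> simp [Matrix.vecMul, dotProduct, Qm]

theorem det_Qm (w0 w1 l : Fin 3 → F) :
    (Qm w0 w1 l).det = w0 0 * w1 1 * l 2 - w0 0 * l 1 * w1 2 - w1 0 * w0 1 * l 2
      + w1 0 * l 1 * w0 2 + l 0 * w0 1 * w1 2 - l 0 * w1 1 * w0 2 := by
  rw [Matrix.det_fin_three]
  simp [Qm]

/-- the standard vector minus its `φ`-component along `l` -/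
def wv (φ l : Fin 3 → F) (a : Fin 3) : Fin 3 → F := fun k => (if k = a then 1 else 0) - φ a * l k

theorem dot_wv (φ l : Fin 3 → F) (h : φ ⬝ᵥ l = 1) (a : Fin 3) : φ ⬝ᵥ wv φ l a = 0 := by
  have h' : φ 0 * l 0 + φ 1 * l 1 + φ 2 * l 2 = 1 := by
    rw [← h, dotProduct, Fin.sum_univ_three]
  fin_cases a
  · simp [wv, dotProduct, Fin.sum_univ_three]
    linear_combination (-(φ 0)) * h'
  · simp [wv, dotProduct, Fin.sum_univ_three]
    linear_combination (-(φ 1)) * h'
  · simp [wv, dotProduct, Fin.sum_univ_three]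
    linear_combination (-(φ 2)) * h'

/-- the change of basis matrix -/
theorem exists_Q (l φ : Fin 3 → F) (h : φ ⬝ᵥ l = 1) :
    ∃ Q : Matrix (Fin 3) (Fin 3) F, Q.det ≠ 0 ∧ Q.mulVec (Pi.single 2 1) = l ∧
      Matrix.vecMul φ Q = Pi.single 2 1 := by
  have h' : φ 0 * l 0 + φ 1 * l 1 + φ 2 * l 2 = 1 := by
    rw [← h, dotProduct, Fin.sum_univ_three]
  have hl : l 0 ≠ 0 ∨ l 1 ≠ 0 ∨ l 2 ≠ 0 := by
    by_contra hcon
    push Not at hcon
    obtain ⟨h0, h1, h2⟩ := hcon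
    rw [h0, h1, h2] at h'
    simp at h'
  have hsingle : (![0, 0, 1] : Fin 3 → F) = Pi.single 2 1 := by
    funext k
    fin_cases k <;> simp
  have key : ∀ a b : Fin 3, (Qm (wv φ l a) (wv φ l b) l).det ≠ 0 →
      ∃ Q : Matrix (Fin 3) (Fin 3) F, Q.det ≠ 0 ∧ Q.mulVec (Pi.single 2 1) = l ∧
        Matrix.vecMul φ Q = Pi.single 2 1 := by
    intro a b hdet
    refine ⟨Qm (wv φ l a) (wv φ l b) l, hdet, Qm_mulVec _ _ _, ?_⟩
    rw [vecMul_Qm, dot_wv φ l h, dot_wv φ l h, h, hsingle]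
  rcases hl with h0 | h1 | h2
  · apply key 1 2
    rw [det_Qm]
    simp [wv]
    intro hdet
    apply h0
    linear_combination hdet
  · apply key 0 2
    rw [det_Qm]
    simp [wv]
    intro hdet
    apply h1
    linear_combination (-1 : F) * hdet
  · apply key 0 1
    rw [det_Qm]
    simp [wv]
    intro hdet
    apply h2
    linear_combination hdet

/-- block form from a common right eigenvector and a common left eigenvector -/
theorem block_of (P Q A : Matrix (Fin 3) (Fin 3) F) (hPQ : P * Q = 1) (hQP : Q * P = 1)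
    (l φ : Fin 3 → F) (c : F) (hQl : Q.mulVec (Pi.single 2 1) = l)
    (hφQ : Matrix.vecMul φ Q = Pi.single 2 1) (hAl : A.mulVec l = c • l)
    (hφA : Matrix.vecMul φ A = c • φ) :
    (P * A * Q) 2 0 = 0 ∧ (P * A * Q) 2 1 = 0 ∧ (P * A * Q) 0 2 = 0 ∧ (P * A * Q) 1 2 = 0 := by
  have hcol : (P * A * Q).mulVec (Pi.single 2 1) = c • (Pi.single 2 1 : Fin 3 → F) := by
    rw [← Matrix.mulVec_mulVec, ← Matrix.mulVec_mulVec, hQl, hAl, Matrix.mulVec_smul, ← hQl,
      Matrix.mulVec_mulVec, hPQ, Matrix.one_mulVec]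
  have hrow : Matrix.vecMul (Pi.single 2 1) (P * A * Q) = c • (Pi.single 2 1 : Fin 3 → F) := by
    have h1 : Matrix.vecMul (Pi.single 2 1 : Fin 3 → F) P = φ := by
      rw [← hφQ, Matrix.vecMul_vecMul, hQP, Matrix.vecMul_one]
    rw [← Matrix.vecMul_vecMul, ← Matrix.vecMul_vecMul, h1, hφA, Matrix.smul_vecMul, hφQ]
  have hc : ∀ i : Fin 3, (P * A * Q) i 2 = c * (Pi.single 2 1 : Fin 3 → F) i := by
    intro i
    have := congrFun hcol i
    rw [Matrix.mulVec_single_one] at this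
    exact this
  have hr : ∀ j : Fin 3, (P * A * Q) 2 j = c * (Pi.single 2 1 : Fin 3 → F) j := by
    intro j
    have := congrFun hrow j
    rw [Matrix.single_one_vecMul] at this
    exact this
  refine ⟨?_, ?_, ?_, ?_⟩
  · rw [hr]; simp
  · rw [hr]; simp
  · rw [hc]; simp
  · rw [hc]; simp

end linalg

section group

variable {F : Type*} [Field F]

/-- averaging: a common eigenvector with eigenvalue character `lam` has a common left eigenvector
with the same character, not vanishing on it -/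
theorem exists_left_eigen {X0 : Type*} [Group X0] [Fintype X0]
    (hn : (Fintype.card X0 : F) ≠ 0) (A : X0 → Matrix (Fin 3) (Fin 3) F)
    (hA : ∀ x y, A (x * y) = A x * A y) (l : Fin 3 → F) (hl : l ≠ 0) (lam : X0 → F)
    (hlam0 : ∀ x, lam x ≠ 0) (hlam : ∀ x, (A x).mulVec l = lam x • l) :
    ∃ φ : Fin 3 → F, φ ⬝ᵥ l = 1 ∧ ∀ y, Matrix.vecMul φ (A y) = lam y • φ := by
  classical
  -- `lam` is multiplicative
  have hmul : ∀ x y, lam (x * y) = lam x * lam y := by
    intro x y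
    have h1 : lam (x * y) • l = (lam x * lam y) • l := by
      rw [← hlam, hA, ← Matrix.mulVec_mulVec, hlam y, Matrix.mulVec_smul, hlam x, smul_smul,
        mul_comm]
    by_contra hne
    apply hl
    have h2 : (lam (x * y) - lam x * lam y) • l = 0 := by rw [sub_smul, h1, sub_self]
    rcases smul_eq_zero.1 h2 with h3 | h3
    · exact absurd (sub_eq_zero.1 h3) hne
    · exact h3
  -- a functional with value one on `l`
  obtain ⟨i, hi⟩ : ∃ i, l i ≠ 0 := by
    by_contra hcon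
    push Not at hcon
    exact hl (funext hcon)
  set φ₀ : Fin 3 → F := Pi.single i (l i)⁻¹ with hφ₀
  have hφ₀l : φ₀ ⬝ᵥ l = 1 := by
    rw [hφ₀, single_dotProduct, inv_mul_cancel₀ hi]
  -- the averaged matrix
  set S : Matrix (Fin 3) (Fin 3) F := (Fintype.card X0 : F)⁻¹ • ∑ x, (lam x)⁻¹ • A x with hS
  have hSl : S.mulVec l = l := by
    have h1 : (∑ x, (lam x)⁻¹ • A x).mulVec l = ∑ x : X0, l := by
      have h2 := map_sum (Matrix.mulVec.addMonoidHomLeft l) (fun x => (lam x)⁻¹ • A x) Finset.univ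
      have h3 : (∑ x, (lam x)⁻¹ • A x).mulVec l = ∑ x, ((lam x)⁻¹ • A x).mulVec l := h2
      rw [h3]
      apply Finset.sum_congr rfl
      intro x _
      rw [Matrix.smul_mulVec, hlam, smul_smul, inv_mul_cancel₀ (hlam0 x), one_smul]
    rw [hS, Matrix.smul_mulVec, h1, Finset.sum_const, Finset.card_univ, ← Nat.cast_smul_eq_nsmul F,
      smul_smul, inv_mul_cancel₀ hn, one_smul]
  have hSA : ∀ y, S * A y = lam y • S := by
    intro y
    have h1 : (∑ x, (lam x)⁻¹ • A x) * A y = lam y • ∑ x, (lam x)⁻¹ • A x := by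
      rw [Finset.sum_mul, Finset.smul_sum,
        ← Equiv.sum_comp (Equiv.mulRight y) (fun z => lam y • ((lam z)⁻¹ • A z))]
      apply Finset.sum_congr rfl
      intro x _
      show (lam x)⁻¹ • A x * A y = lam y • ((lam (x * y))⁻¹ • A (x * y))
      rw [Matrix.smul_mul, ← hA, smul_smul, hmul, mul_inv, ← mul_assoc, mul_comm (lam y),
        mul_assoc, mul_inv_cancel₀ (hlam0 y), mul_one]
    rw [hS, Matrix.smul_mul, h1, smul_comm]
  refine ⟨Matrix.vecMul φ₀ S, ?_, ?_⟩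
  · rw [← Matrix.dotProduct_mulVec, hSl, hφ₀l]
  · intro y
    rw [Matrix.vecMul_vecMul, hSA, Matrix.vecMul_smul]

open scoped LinearAlgebra.Projectivization in
/-- a `2`-group of matrices over a finite field of odd order has a common eigenvector -/
theorem exists_eigenvector {X0 : Type*} [Group X0] [Finite X0] (hX : IsPGroup 2 X0)
    {F : Type*} [Field F] [Fintype F] (hF : Odd (Fintype.card F)) (f : X0 →* GL (Fin 3) F) :
    ∃ l : Fin 3 → F, l ≠ 0 ∧ ∀ x : X0, ∃ a : Fˣ,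
      ((f x : GL (Fin 3) F) : Matrix (Fin 3) (Fin 3) F).mulVec l = (a : F) • l := by
  classical
  have : Fact (Nat.Prime 2) := ⟨Nat.prime_two⟩
  let ρ : X0 →* Module.End F (Fin 3 → F) :=
    ((Matrix.toLinAlgEquiv' : Matrix (Fin 3) (Fin 3) F ≃ₐ[F] Module.End F (Fin 3 → F)) :
      Matrix (Fin 3) (Fin 3) F →* Module.End F (Fin 3 → F)).comp
        ((Units.coeHom (Matrix (Fin 3) (Fin 3) F)).comp f)
  let iD : DistribMulAction X0 (Fin 3 → F) := DistribMulAction.compHom (Fin 3 → F) ρ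
  have hsmul : ∀ (x : X0) (v : Fin 3 → F),
      x • v = ((f x : GL (Fin 3) F) : Matrix (Fin 3) (Fin 3) F).mulVec v := by
    intro x v
    rfl
  let iS : SMulCommClass X0 F (Fin 3 → F) := ⟨by
    intro x c v
    rw [hsmul, hsmul, Matrix.mulVec_smul]⟩
  have hcard : Nat.card (ℙ F (Fin 3 → F)) = ∑ i ∈ Finset.range 3, Nat.card F ^ i :=
    Projectivization.card_of_finrank F (Fin 3 → F) (Module.finrank_fin_fun F)
  have hodd : Odd (Nat.card (ℙ F (Fin 3 → F))) := by
    rw [hcard, Nat.card_eq_fintype_card, Finset.sum_range_succ, Finset.sum_range_succ,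
      Finset.sum_range_one, pow_zero, pow_one]
    obtain ⟨k, hk⟩ := hF
    rw [hk]
    refine ⟨2 * k * k + 3 * k + 1, ?_⟩
    ring
  have hmod := hX.card_modEq_card_fixedPoints (ℙ F (Fin 3 → F))
  obtain ⟨p, hp⟩ : (MulAction.fixedPoints X0 (ℙ F (Fin 3 → F))).Nonempty := by
    by_contra hempty
    rw [Set.not_nonempty_iff_eq_empty] at hempty
    have h0 : Nat.card (MulAction.fixedPoints X0 (ℙ F (Fin 3 → F))) = 0 := by
      rw [hempty]
      exact Nat.card_of_isEmpty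
    rw [h0] at hmod
    have h1 := Nat.odd_iff.1 hodd
    unfold Nat.ModEq at hmod
    omega
  refine ⟨p.rep, p.rep_nonzero, ?_⟩
  intro x
  have h1 : x • p = p := hp x
  rw [← Projectivization.mk_rep p, Projectivization.smul_mk x p.rep_nonzero,
    Projectivization.mk_eq_mk_iff] at h1
  obtain ⟨a, ha⟩ := h1
  refine ⟨a, ?_⟩
  rw [← hsmul, ← ha]
  rfl

theorem exists_block_form {X0 : Type*} [Group X0] [Finite X0] (hX : IsPGroup 2 X0)
    {F : Type*} [Field F] [Fintype F] (hF : Odd (Fintype.card F)) (f : X0 →* GL (Fin 3) F) :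
    ∃ P : GL (Fin 3) F, ∀ x : X0,
      ((P * f x * P⁻¹ : GL (Fin 3) F) : Matrix (Fin 3) (Fin 3) F) 2 0 = 0 ∧
      ((P * f x * P⁻¹ : GL (Fin 3) F) : Matrix (Fin 3) (Fin 3) F) 2 1 = 0 ∧
      ((P * f x * P⁻¹ : GL (Fin 3) F) : Matrix (Fin 3) (Fin 3) F) 0 2 = 0 ∧
      ((P * f x * P⁻¹ : GL (Fin 3) F) : Matrix (Fin 3) (Fin 3) F) 1 2 = 0 := by
  classical
  have : Fintype X0 := Fintype.ofFinite X0
  obtain ⟨l, hl, hev⟩ := exists_eigenvector hX hF f
  choose lamU hlamU using hev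
  -- the order of `X0` is invertible in `F`
  have h2 : (2 : F) ≠ 0 := by
    apply Ring.two_ne_zero
    intro hchar
    have := FiniteField.even_card_iff_char_two.1 hchar
    have h1 := Nat.odd_iff.1 hF
    omega
  have hn : (Fintype.card X0 : F) ≠ 0 := by
    obtain ⟨k, hk⟩ := (IsPGroup.iff_card).1 hX
    rw [← Nat.card_eq_fintype_card, hk]
    push_cast
    exact pow_ne_zero k h2
  obtain ⟨φ, hφl, hφA⟩ := exists_left_eigen hn
    (fun x => ((f x : GL (Fin 3) F) : Matrix (Fin 3) (Fin 3) F))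
    (fun x y => by rw [map_mul]; rfl) l hl (fun x => ((lamU x : Fˣ) : F))
    (fun x => (lamU x).ne_zero) hlamU
  obtain ⟨Q, hQdet, hQl, hφQ⟩ := exists_Q l φ hφl
  let Qg : GL (Fin 3) F := Matrix.GeneralLinearGroup.mkOfDetNeZero Q hQdet
  have hQg : (Qg : Matrix (Fin 3) (Fin 3) F) = Q := rfl
  refine ⟨Qg⁻¹, ?_⟩
  intro x
  have h1 : ((Qg⁻¹ * f x * Qg⁻¹⁻¹ : GL (Fin 3) F) : Matrix (Fin 3) (Fin 3) F) =
      ((Qg⁻¹ : GL (Fin 3) F) : Matrix (Fin 3) (Fin 3) F) *
        ((f x : GL (Fin 3) F) : Matrix (Fin 3) (Fin 3) F) * Q := by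
    rw [inv_inv]
    rfl
  rw [h1]
  apply block_of _ Q _ _ _ l φ ((lamU x : Fˣ) : F) hQl hφQ (hlamU x) (hφA x)
  · rw [← hQg, ← Units.val_mul, inv_mul_cancel, Units.val_one]
  · rw [← hQg, ← Units.val_mul, mul_inv_cancel, Units.val_one]

end group

end Cfsg.Agent.Lib.Helper8_S1906_L1
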