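import Mathlib
import Cfsg.Agent.Lib.Helper80_S4840Defs

/-!
# S4840 package `LIN` (helper8): the conjugation action on an elementary abelian normal subgroup
as a `ZMod p`-linear representation of `G ⧸ C_G(N)`.
-/

set_option autoImplicit false

namespace Cfsg.Agent.Lib.Helper8_S4840_LIN

open Cfsg.Agent.Lib.Helper80_S4840Defs

universe u

section linOf

variable {N : Type u} [CommGroup N] (p : ℕ) [Module (ZMod p) (Additive N)]

/-- a multiplicative automorphism as a `ZMod p`-linear equivalence of the additive version -/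
def linOf : MulAut N →* (Additive N ≃ₗ[ZMod p] Additive N) where
  toFun φ :=
    { (MulEquiv.toAdditive φ) with
      map_smul' := fun c x => ZMod.map_smul (MulEquiv.toAdditive φ) c x }
  map_one' := by
    apply LinearEquiv.ext
    intro x
    rfl
  map_mul' := by
    intro φ ψ
    apply LinearEquiv.ext
    intro x
    rfl

theorem linOf_apply (φ : MulAut N) (x : Additive N) :
    linOf p φ x = Additive.ofMul (φ x.toMul) := rfl

/-- the abstract version of `lin` -/
theorem lin_core {G : Type u} [Group G] [Finite G] [Fact p.Prime] (O : Subgroup G) [O.Normal]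
    (c : G →* MulAut N)
    (hO : ∀ g : G, g ∈ O ↔ c g = 1)
    (htr : ∀ x y : N, x ≠ 1 → y ≠ 1 → ∃ g : G, c g x = y)
    (hst : ∀ x : N, x ≠ 1 → ∀ g : G, c g x = x → ∃ k : ℕ, orderOf g = p ^ k) :
    ∃ ρ : (G ⧸ O) →* (Additive N ≃ₗ[ZMod p] Additive N), GSetting p ρ := by
  classical
  have hp : p.Prime := Fact.out
  let φ : G →* (Additive N ≃ₗ[ZMod p] Additive N) := (linOf p).comp c
  have hφ : ∀ (g : G) (x : Additive N), φ g x = Additive.ofMul (c g x.toMul) := fun g x => rfl
  have hker : ∀ g : G, φ g = 1 ↔ g ∈ O := by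
    intro g
    rw [hO]
    constructor
    · intro h
      apply MulEquiv.ext
      intro x
      have h1 := hφ g (Additive.ofMul x)
      rw [h] at h1
      exact h1.symm
    · intro h
      apply LinearEquiv.ext
      intro v
      rw [hφ, h]
      rfl
  let ρ : (G ⧸ O) →* (Additive N ≃ₗ[ZMod p] Additive N) :=
    QuotientGroup.lift O φ (fun g hg => (hker g).2 hg)
  have hρ : ∀ g : G, ρ (QuotientGroup.mk g) = φ g := fun g => rfl
  have hne : ∀ v : Additive N, v ≠ 0 → v.toMul ≠ 1 := fun v hv h => hv h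
  refine ⟨ρ, ⟨?_, ?_, ?_⟩⟩
  · -- injective
    rw [injective_iff_map_eq_one]
    intro q hq
    induction q using QuotientGroup.induction_on with
    | H g =>
      rw [hρ] at hq
      exact (QuotientGroup.eq_one_iff g).2 ((hker g).1 hq)
  · -- transitive
    intro v w hv hw
    obtain ⟨g, hg⟩ := htr v.toMul w.toMul (hne v hv) (hne w hw)
    refine ⟨QuotientGroup.mk g, ?_⟩
    rw [hρ, hφ, hg]
    rfl
  · -- stabilizers
    intro q v hv hq
    induction q using QuotientGroup.induction_on with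
    | H g =>
      rw [hρ, hφ] at hq
      have h1 : c g v.toMul = v.toMul := hq
      obtain ⟨k, hk⟩ := hst v.toMul (hne v hv) g h1
      have hdvd : orderOf (QuotientGroup.mk g : G ⧸ O) ∣ p ^ k := by
        rw [← hk]
        exact orderOf_map_dvd (QuotientGroup.mk' O) g
      obtain ⟨j, -, hj⟩ := (Nat.dvd_prime_pow hp).1 hdvd
      exact ⟨j, hj⟩

end linOf

/-- the `ZMod p`-module structure on a commutative group of exponent `p` -/
abbrev modOf {N : Type u} [CommGroup N] (p : ℕ) (hexp : ∀ x : N, x ^ p = 1) :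
    Module (ZMod p) (Additive N) :=
  AddCommGroup.zmodModule (fun v => congrArg Additive.ofMul (hexp v.toMul))

theorem lin {G : Type u} [Group G] [Finite G] (p : ℕ) [Fact p.Prime] (N O : Subgroup G)
    [N.Normal] [O.Normal]
    (hEA : Cfsg.IsElementaryAbelian p N) (hN1 : N ≠ ⊥)
    (hO : ∀ g : G, g ∈ O ↔ ∀ x ∈ N, g * x = x * g)
    (htr : ∀ x ∈ N, ∀ y ∈ N, x ≠ 1 → y ≠ 1 → ∃ g : G, g * x * g⁻¹ = y)
    (hst : ∀ x ∈ N, x ≠ 1 → ∀ g : G, g * x = x * g → ∃ k : ℕ, orderOf g = p ^ k) :
    ∃ (V : Type u) (_ : AddCommGroup V) (_ : Module (ZMod p) V) (_ : Finite V) (_ : Nontrivial V)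
      (ρ : (G ⧸ O) →* (V ≃ₗ[ZMod p] V)), GSetting p ρ ∧ Nat.card V = Nat.card N := by
  classical
  let iC : CommGroup N :=
    { (inferInstance : Group N) with mul_comm := fun a b => hEA.1.is_comm.comm a b }
  have hexp : ∀ x : N, x ^ p = 1 := by
    intro x
    apply Subtype.ext
    rw [Subgroup.coe_pow, Subgroup.coe_one]
    exact hEA.2 _ x.2
  have hfin : Finite (Additive N) := Finite.of_equiv N Additive.ofMul
  have hnt : Nontrivial (Additive N) := by
    obtain ⟨x, hx, hx1⟩ : ∃ x ∈ N, x ≠ 1 := by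
      by_contra hcon
      push Not at hcon
      apply hN1
      rw [Subgroup.eq_bot_iff_forall]
      exact hcon
    refine ⟨⟨Additive.ofMul ⟨x, hx⟩, Additive.ofMul 1, ?_⟩⟩
    intro h
    apply hx1
    have h2 : (⟨x, hx⟩ : N) = 1 := h
    exact congrArg Subtype.val h2
  have hcoe : ∀ (g : G) (x : N), ((MulAut.conjNormal g x : N) : G) = g * x * g⁻¹ :=
    fun g x => MulAut.conjNormal_apply g x
  have hO' : ∀ g : G, g ∈ O ↔ (MulAut.conjNormal g : MulAut N) = 1 := by
    intro g
    rw [hO]
    constructor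
    · intro h
      apply MulEquiv.ext
      intro x
      apply Subtype.ext
      rw [hcoe, h _ x.2]
      show (x : G) * g * g⁻¹ = x
      group
    · intro h x hx
      have h1 := hcoe g ⟨x, hx⟩
      rw [h] at h1
      have h2 : x = g * x * g⁻¹ := h1
      calc g * x = g * x * g⁻¹ * g := by group
        _ = x * g := by rw [← h2]
  have hne : ∀ x : N, x ≠ 1 → (x : G) ≠ 1 := by
    intro x hx h
    exact hx (Subtype.ext h)
  have htr' : ∀ x y : N, x ≠ 1 → y ≠ 1 → ∃ g : G, (MulAut.conjNormal g : MulAut N) x = y := by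
    intro x y hx hy
    obtain ⟨g, hg⟩ := htr _ x.2 _ y.2 (hne x hx) (hne y hy)
    refine ⟨g, ?_⟩
    apply Subtype.ext
    rw [hcoe, hg]
  have hst' : ∀ x : N, x ≠ 1 → ∀ g : G, (MulAut.conjNormal g : MulAut N) x = x →
      ∃ k : ℕ, orderOf g = p ^ k := by
    intro x hx g hg
    have h1 := hcoe g x
    rw [hg] at h1
    apply hst _ x.2 (hne x hx) g
    calc g * (x : G) = g * x * g⁻¹ * g := by group
      _ = x * g := by rw [← h1]
  obtain ⟨ρ, hρ⟩ := @lin_core N iC p (modOf p hexp) G _ _ _ O _ MulAut.conjNormal hO' htr' hst'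
  exact ⟨Additive N, Additive.addCommGroup, modOf p hexp, hfin, hnt, ρ, hρ,
    Nat.card_congr Additive.toMul⟩

end Cfsg.Agent.Lib.Helper8_S4840_LIN
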